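import Mathlib
import Cfsg.Agent.Lib.FusionPrimeIndex90
import Cfsg.Agent.Lib.FusionSysNormalizer
import Cfsg.Agent.Lib.FusionSysNormal
import Cfsg.Agent.Lib.FusionKit88

/-!
The subsystems of index prime to `p` of a saturated fusion system: the system `E0` generated by the
`p`-elements of all automizers, and the systems `EH H` of the maps that are a member of `H ≤ Aut(S)`
following a map of `E0`; extension of maps of `E0` to `Q C_S(Q)` and saturation of `EH H`.
-/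

set_option autoImplicit false

namespace Cfsg.Agent.FusionPrimeIndex88

open Cfsg Cfsg.FusionSystem Cfsg.Agent.FusionSysBasic Cfsg.Agent.FusionSysSaturated
open Cfsg.Agent.FusionInduct88 Cfsg.Agent.FusionPrimeIndex90 Cfsg.Agent.FusionSysNormalizer
open Cfsg.Agent.FusionSysNormal Cfsg.Agent.FusCentric

variable {Ω : Type*} [Group Ω] {S : Subgroup Ω} {F : FusionSystem S} {p : ℕ}

/-! ### The system generated by the `p`-elements of the automizers -/

/-- `E` contains the `p`-elements of all automizers of `F`. -/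
def Gen (F E : FusionSystem S) (p : ℕ) : Prop :=
  ∀ R : Subgroup Ω, R ≤ S → ∀ α ∈ F.autGroup R, (∃ k, orderOf α = p ^ k) → Mor E R (afun α)

theorem closed_e0 :
    Closed F (U := S) (fun P f => ∀ E : FusionSystem S, Gen F E p → Mor E P f) where
  congr := fun h he E hE => (h E hE).congr he
  conj := fun hP hg _ _ => mor_cj hP hg
  comp := fun _ _ _ _ hfQ h1 h2 E hE => (h1 E hE).comp (h2 E hE) hfQ
  inv := fun hf _ _ hgf h1 E hE => by
    obtain ⟨k, hk, hkf, -, -⟩ := (h1 E hE).exists_inv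
    refine hk.congr fun y hy => ?_
    obtain ⟨x, hx, rfl⟩ := hf.mem_im.1 hy
    rw [hkf x hx, hgf x hx]

/-- The least system containing the `p`-elements of all automizers. -/
noncomputable def E0 (F : FusionSystem S) (p : ℕ) : FusionSystem S :=
  subSystem le_rfl (closed_e0 (F := F) (p := p))

theorem mor_e0 {P : Subgroup Ω} {f : Ω → Ω} :
    Mor (E0 F p) P f ↔ Mor F P f ∧ ∀ E : FusionSystem S, Gen F E p → Mor E P f := by
  rw [E0, mor_subSystem]
  exact ⟨fun h => ⟨h.1, h.2.2.2⟩, fun h => ⟨h.1, h.1.le, fun x hx => h.1.apply_mem hx, h.2⟩⟩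

theorem e0_le {P : Subgroup Ω} {f : Ω → Ω} (h : Mor (E0 F p) P f) : Mor F P f :=
  (mor_e0.1 h).1

theorem e0_sub : (E0 F p).IsSubsystemOf F := fun _ _ h => h.1

theorem gen_e0 : Gen F (E0 F p) p := fun R hR α hα hk =>
  mor_e0.2 ⟨(mem_autGroup hR).1 hα, fun _ hE => hE R hR α hα hk⟩

theorem e0_min {E : FusionSystem S} (hE : Gen F E p) {P : Subgroup Ω} {f : Ω → Ω}
    (h : Mor (E0 F p) P f) : Mor E P f :=
  (mor_e0.1 h).2 E hE

theorem gen_stable : Gen F (stableSub (e0_sub (F := F) (p := p))) p := by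
  intro R hR m hm hp
  refine mor_stableSub.2 ⟨(mem_autGroup hR).1 hm, hR, fun γ hγ => ?_⟩
  have hg := aut_mor hγ hR
  have h1 := gen_e0 (p := p) _ hg.im_le _ (hg.transport_mem rfl hm)
    (by rwa [MulEquiv.orderOf_eq])
  refine h1.congr fun y hy => ?_
  obtain ⟨x, hx, rfl⟩ := hg.mem_im.1 hy
  rw [hg.afun_transport rfl m hx]
  simp only [Function.comp_apply, afun_inv_apply γ (hR hx)]

theorem e0_invariant {P : Subgroup Ω} {f : Ω → Ω} (h : Mor (E0 F p) P f) {a : MulAut S}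
    (ha : a ∈ F.autGroup S) :
    Mor (E0 F p) (im P (afun a)) (afun a ∘ f ∘ afun a⁻¹) :=
  (mor_stableSub.1 (e0_min gen_stable h)).2.2 a ha

/-- The maps of `E0` of a subsystem lie in `E0`. -/
theorem e0_mono {T : Subgroup Ω} {D : FusionSystem T} (hD : D.IsSubsystemOf F) {P : Subgroup Ω}
    {f : Ω → Ω} (h : Mor (E0 D p) P f) : Mor (E0 F p) P f := by
  have hc : Closed F (U := T) (fun P f => Mor (E0 F p) P f) :=
    { congr := fun h he => h.congr he
      conj := fun hP hg => mor_cj (hP.trans (FusionKit88.sub_le hD)) (FusionKit88.sub_le hD hg)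
      comp := fun _ _ _ _ hfQ h1 h2 => h1.comp h2 hfQ
      inv := fun hf _ _ hgf h1 => by
        obtain ⟨k, hk, hkf, -, -⟩ := h1.exists_inv
        refine hk.congr fun y hy => ?_
        obtain ⟨x, hx, rfl⟩ := hf.mem_im.1 hy
        rw [hkf x hx, hgf x hx] }
  have hgen : Gen D (subSystem (FusionKit88.sub_le hD) hc) p := fun R hR α hα hk => by
    have hm := FusionKit88.sub_mor hD ((mem_autGroup hR).1 hα)
    exact mor_subSystem.2 ⟨hm, hR, fun x hx => hR (afun_mem α hx),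
      gen_e0 R hm.le α (mem_autGroup_of_mor hm) hk⟩
  exact (mor_subSystem.1 (e0_min hgen h)).2.2.2

/-- Moving a restriction of an automorphism of `S` along a map of `E0`. -/
theorem m_move {R : Subgroup Ω} {m : MulAut S} (hm : m ∈ F.autGroup S)
    (h : Mor (E0 F p) R (afun m)) {u : Ω → Ω} (hu : Mor (E0 F p) R u) :
    Mor (E0 F p) (im R u) (afun m) := by
  obtain ⟨ui, hui, huiu, huui, huiR⟩ := hu.exists_inv
  refine ((hui.comp h huiR).comp (e0_invariant hu hm)
    fun y hy => apply_mem_im (huiR y hy)).congr fun y hy => ?_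
  simp only [Function.comp_apply, afun_inv_apply m (h.le (huiR y hy)), huui y hy]

theorem m_inv {R : Subgroup Ω} {m : MulAut S} (hm : m ∈ F.autGroup S)
    (h : Mor (E0 F p) R (afun m)) : Mor (E0 F p) R (afun m⁻¹) := by
  obtain ⟨g, hg, hgf, -, -⟩ := h.exists_inv
  have hval : ∀ y ∈ im R (afun m), g y = afun m⁻¹ y := fun y hy => by
    obtain ⟨x, hx, rfl⟩ := h.mem_im.1 hy
    rw [hgf x hx, afun_inv_apply m (h.le hx)]
  have h2 := m_move (inv_mem hm) (hg.congr hval) hg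
  rwa [h.im_comp, show im R (g ∘ afun m) = R from (im_congr hgf).trans (im_id R)] at h2

/-! ### The systems `EH H` -/

/-- A member of `H` following a map of `E0`. -/
def Dec (F : FusionSystem S) (p : ℕ) (H : Subgroup (MulAut S)) (P : Subgroup Ω)
    (f : Ω → Ω) : Prop :=
  ∃ a ∈ H, a ∈ F.autGroup S ∧ ∃ e, Mor (E0 F p) P e ∧ ∀ x ∈ P, f x = afun a (e x)

theorem closed_dec (H : Subgroup (MulAut S)) : Closed F (U := S) (Dec F p H) where
  congr := fun ⟨a, ha, ha', e, he, hfe⟩ h =>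
    ⟨a, ha, ha', e, he, fun x hx => (h x hx).symm.trans (hfe x hx)⟩
  conj := fun {P g} hP hg => ⟨1, one_mem _, one_mem _, cj g, mor_cj hP hg, fun x hx =>
    (afun_one (cj_mem_S hg (hP hx))).symm⟩
  comp := fun {P Q f g} _ _ hP hQ hfQ ⟨α, hα, hα', e₁, he₁, h1⟩ ⟨β, hβ, hβ', e₂, he₂, h2⟩ => by
    have h3 := e0_invariant he₂ (inv_mem hα')
    refine ⟨β * α, mul_mem hβ hα, mul_mem hβ' hα', _, he₁.comp h3 fun x hx => ?_,
      fun x hx => ?_⟩
    · have := apply_mem_im (f := afun α⁻¹) (hfQ x hx)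
      rwa [h1 x hx, afun_inv_apply α (he₁.apply_mem hx)] at this
    · have h4 : afun α (e₁ x) = f x := (h1 x hx).symm
      simp only [Function.comp_apply, inv_inv, h4]
      rw [afun_mul _ _ (afun_mem _ (he₂.apply_mem (hfQ x hx))),
        afun_apply_inv α (he₂.apply_mem (hfQ x hx))]
      exact h2 _ (hfQ x hx)
  inv := fun {P f g} hf _ hP hgf ⟨α, hα, hα', e, he, h1⟩ => by
    obtain ⟨ei, hei, heie, -, -⟩ := he.exists_inv
    have h3 := e0_invariant hei hα'
    have e' : im (im P e) (afun α) = im P f := by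
      rw [he.im_comp]
      exact im_congr fun x hx => (h1 x hx).symm
    rw [e'] at h3
    refine ⟨α⁻¹, inv_mem hα, inv_mem hα', _, h3, fun y hy => ?_⟩
    obtain ⟨x, hx, rfl⟩ := hf.mem_im.1 hy
    simp only [Function.comp_apply, h1 x hx, afun_inv_apply α (he.apply_mem hx), heie x hx]
    rw [afun_inv_apply α (hP hx), ← h1 x hx, hgf x hx]

/-- The system of the maps that are a member of `H` following a map of `E0`. -/
noncomputable def EH (F : FusionSystem S) (p : ℕ) (H : Subgroup (MulAut S)) : FusionSystem S :=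
  subSystem le_rfl (closed_dec (F := F) (p := p) H)

theorem mor_EH {H : Subgroup (MulAut S)} {P : Subgroup Ω} {f : Ω → Ω} :
    Mor (EH F p H) P f ↔ Dec F p H P f := by
  rw [EH, mor_subSystem]
  refine ⟨fun h => h.2.2.2, fun h => ?_⟩
  obtain ⟨a, -, ha, e, he, hfe⟩ := id h
  have hf : Mor F P f :=
    ((e0_le he).comp ((mem_autGroup le_rfl).1 ha) fun x hx => he.apply_mem hx).congr
      fun x hx => (hfe x hx).symm
  exact ⟨hf, hf.le, fun x hx => hf.apply_mem hx, h⟩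

theorem eh_sub {H : Subgroup (MulAut S)} : (EH F p H).IsSubsystemOf F := fun _ _ h => h.1

theorem eh_le {H : Subgroup (MulAut S)} {P : Subgroup Ω} {f : Ω → Ω}
    (h : Mor (EH F p H) P f) : Mor F P f :=
  FusionKit88.sub_mor eh_sub h

theorem eh_of_e0 {H : Subgroup (MulAut S)} {P : Subgroup Ω} {f : Ω → Ω}
    (h : Mor (E0 F p) P f) : Mor (EH F p H) P f :=
  mor_EH.2 ⟨1, one_mem _, one_mem _, f, h, fun _ hx => (afun_one (h.apply_mem hx)).symm⟩

theorem eh_mono {H H' : Subgroup (MulAut S)} (hH : H ≤ H') {P : Subgroup Ω} {f : Ω → Ω}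
    (h : Mor (EH F p H) P f) : Mor (EH F p H') P f := by
  obtain ⟨a, ha, h'⟩ := mor_EH.1 h
  exact mor_EH.2 ⟨a, hH ha, h'⟩

theorem gen_EH {H : Subgroup (MulAut S)} : Gen F (EH F p H) p := fun R hR α hα hk =>
  eh_of_e0 (gen_e0 R hR α hα hk)

/-- The automorphisms of `S` generated by those agreeing with `E0` on a centric subgroup. -/
def A0 (F : FusionSystem S) (p : ℕ) : Subgroup (MulAut S) :=
  Subgroup.closure {a | a ∈ F.autGroup S ∧ ∃ P, F.IsCentric P ∧ Mor (E0 F p) P (afun a)}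

theorem a0_le : A0 F p ≤ F.autGroup S := (Subgroup.closure_le _).2 fun _ h => h.1

theorem mem_a0 {P : Subgroup Ω} (hP : F.IsCentric P) {a : MulAut S} (ha : a ∈ F.autGroup S)
    (h : Mor (E0 F p) P (afun a)) : a ∈ A0 F p :=
  Subgroup.subset_closure ⟨ha, P, hP, h⟩

theorem aut_centric {H : Subgroup (MulAut S)} (hH : A0 F p ≤ H) {P : Subgroup Ω}
    (hP : F.IsCentric P) {a : MulAut S} (ha : a ∈ F.autGroup S)
    (h : Mor (EH F p H) P (afun a)) : a ∈ H := by
  obtain ⟨b, hb, hb', e, he, hae⟩ := mor_EH.1 h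
  have h2 : b⁻¹ * a ∈ A0 F p := by
    refine mem_a0 hP (mul_mem (inv_mem hb') ha) (he.congr fun x hx => ?_)
    rw [afun_mul _ _ (hP.1 hx), hae x hx, afun_inv_apply b (he.apply_mem hx)]
  simpa using mul_mem hb (hH h2)

theorem a0_conj {γ a : MulAut S} (hγ : γ ∈ F.autGroup S) (ha : a ∈ A0 F p) :
    γ * a * γ⁻¹ ∈ A0 F p := by
  have hle : A0 F p ≤ (A0 F p).comap (MulAut.conj γ).toMonoidHom := by
    refine (Subgroup.closure_le _).2 ?_
    rintro b ⟨hb, P, hP, h⟩
    have hg := aut_mor hγ hP.1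
    refine mem_a0 (centric_conj hP (FusionSysBasic.isConj_iff.2 ⟨_, hg, rfl⟩))
      (mul_mem (mul_mem hγ hb) (inv_mem hγ)) ((e0_invariant h hγ).congr fun y hy => ?_)
    obtain ⟨x, hx, rfl⟩ := hg.mem_im.1 hy
    have hxS := hP.1 hx
    simp only [Function.comp_apply, afun_inv_apply γ hxS, MulEquiv.coe_toMonoidHom,
      MulAut.conj_apply]
    rw [afun_mul _ _ (afun_mem γ hxS), afun_mul _ _ (afun_mem γ⁻¹ (afun_mem γ hxS)),
      afun_inv_apply γ hxS]
  exact hle ha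

/-! ### `Q C_S(Q)` -/

theorem xc_into {Q Q' : Subgroup Ω} {g : Ω → Ω} (hg : Mor F (Q ⊔ centralizerIn S Q) g)
    (hQ : im Q g = Q') {x : Ω} (hx : x ∈ Q ⊔ centralizerIn S Q) :
    g x ∈ Q' ⊔ centralizerIn S Q' := by
  refine mor_sup_induction hg (fun a ha => Subgroup.mem_sup_left (hQ ▸ apply_mem_im ha))
    (fun c hc => Subgroup.mem_sup_right (mem_centralizerIn.2
      ⟨hg.apply_mem (Subgroup.mem_sup_right hc), fun y hy => ?_⟩)) hx
  obtain ⟨a, ha, rfl⟩ := (hg.restrict_to le_sup_left).mem_im.1 (hQ ▸ hy)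
  rw [← hg.map_cj (Subgroup.mem_sup_right hc) (Subgroup.mem_sup_left ha),
    (mem_centralizerIn.1 hc).2 a ha]

variable [Finite S]

theorem im_xc {Q Q' : Subgroup Ω} (h : F.IsFullyCentralized Q)
    (_h' : F.IsFullyCentralized Q') {g : Ω → Ω} (hg : Mor F (Q ⊔ centralizerIn S Q) g)
    (hQ : im Q g = Q') : im (Q ⊔ centralizerIn S Q) g = Q' ⊔ centralizerIn S Q' := by
  have hQc := isConj_iff.2 ⟨g, hg.restrict_to le_sup_left, hQ⟩
  have hC := hg.restrict_to (le_sup_right : centralizerIn S Q ≤ _)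
  rw [im_sup hg, hQ]
  congr 1
  refine hC.im_eq_of_le inf_le_left (im_le_iff.2 fun c hc => mem_centralizerIn.2
    ⟨hC.apply_mem hc, fun y hy => ?_⟩) (h.2 Q' hQc)
  obtain ⟨a, ha, rfl⟩ := (hg.restrict_to le_sup_left).mem_im.1 (hQ ▸ hy)
  rw [← hg.map_cj (Subgroup.mem_sup_right hc) (Subgroup.mem_sup_left ha),
    (mem_centralizerIn.1 hc).2 a ha]

theorem centric_xc {Q : Subgroup Ω} (h : F.IsFullyCentralized Q) :
    F.IsCentric (Q ⊔ centralizerIn S Q) := by
  refine ⟨sup_le h.1 inf_le_left, fun R hR => ?_⟩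
  obtain ⟨g, hg, rfl⟩ := isConj_iff.1 hR
  have hQc := isConj_iff.2 ⟨g, hg.restrict_to le_sup_left, rfl⟩
  have hC := hg.restrict_to (le_sup_right : centralizerIn S Q ≤ _)
  have e : im (centralizerIn S Q) g = centralizerIn S (im Q g) := by
    refine hC.im_eq_of_le inf_le_left (im_le_iff.2 fun c hc => mem_centralizerIn.2
      ⟨hC.apply_mem hc, fun y hy => ?_⟩) (h.2 _ hQc)
    obtain ⟨a, ha, rfl⟩ := (hg.restrict_to le_sup_left).mem_im.1 hy
    rw [← hg.map_cj (Subgroup.mem_sup_right hc) (Subgroup.mem_sup_left ha),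
      (mem_centralizerIn.1 hc).2 a ha]
  calc centralizerIn S (im (Q ⊔ centralizerIn S Q) g) ≤ centralizerIn S (im Q g) := fun c hc =>
        mem_centralizerIn.2 ⟨hc.1,
          fun y hy => (mem_centralizerIn.1 hc).2 y (im_mono le_sup_left hy)⟩
    _ = im (centralizerIn S Q) g := e.symm
    _ ≤ im (Q ⊔ centralizerIn S Q) g := im_mono le_sup_right

theorem fn_aut {Q : Subgroup Ω} (hQ : F.IsFullyNormalized Q) {a : MulAut S}
    (ha : a ∈ F.autGroup S) : F.IsFullyNormalized (im Q (afun a)) := by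
  have hm := aut_mor ha hQ.1
  have hN := aut_mor ha (inf_le_left : normalizerIn S Q ≤ S)
  refine ⟨hm.im_le, fun R hR => (hQ.2 R (isConj_trans (isConj_iff.2 ⟨_, hm, rfl⟩) hR)).trans ?_⟩
  exact card_le_of_mor hN inf_le_left fun x hx => mor_normalizer_mem hN hQ.1 rfl hx

variable [Fact p.Prime]

/-- Every map is a member of `Aut_F(S)` following a map of `E0`. -/
theorem e0_factor (hS : IsPGroup p S) (hF : F.IsSaturated p) {P : Subgroup Ω} {f : Ω → Ω}
    (hf : Mor F P f) :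
    ∃ a ∈ F.autGroup S, ∃ e, Mor (E0 F p) P e ∧ ∀ x ∈ P, f x = afun a (e x) := by
  obtain ⟨a, ha, e, he, h⟩ := factor hS hF (e0_sub (F := F) (p := p))
    (fun R hR m hm hk => mem_autGroup_of_mor (gen_e0 R hR.1 m hm hk)) hf
  exact ⟨a, ha, e, stableSub_le he, h⟩

/-- A map of `E0` on the normalizer takes a subgroup to a fully normalized one. -/
theorem to_fn (hS : IsPGroup p S) (hF : F.IsSaturated p) {P : Subgroup Ω} (hP : P ≤ S) :
    ∃ u, Mor (E0 F p) (normalizerIn S P) u ∧ F.IsFullyNormalized (im P u) := by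
  obtain ⟨Q, hQ, hQn⟩ := exists_fullyNormalized (F := F) hP
  obtain ⟨f, hf, -, him⟩ := exists_map_to_fullyNormalized hS hF hQn hQ
  obtain ⟨a, ha, e, he, hfe⟩ := e0_factor hS hF hf
  refine ⟨e, he, ?_⟩
  have h1 := fn_aut hQn (inv_mem ha)
  rw [← him, (hf.restrict_to (le_normalizerIn hP)).im_comp] at h1
  rwa [im_congr (g := e) fun x hx => ?_] at h1
  rw [Function.comp_apply, hfe x (le_normalizerIn hP hx),
    afun_inv_apply a (he.apply_mem (le_normalizerIn hP hx))]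

/-- Membership in `EH H` propagates from a centric subgroup. -/
theorem eh_of_centric (hS : IsPGroup p S) (hF : F.IsSaturated p) {H : Subgroup (MulAut S)}
    {Q R : Subgroup Ω}
    (hgood : ∀ P, F.IsConj Q P → ∀ a ∈ F.autGroup S, Mor (E0 F p) P (afun a) → a ∈ H)
    {f : Ω → Ω} (hf : Mor F R f) (hQR : Q ≤ R) (h : Mor (EH F p H) Q f) :
    Mor (EH F p H) R f := by
  obtain ⟨a, ha, e, he, hfe⟩ := e0_factor hS hF hf
  obtain ⟨b, hb, hb', e', he', hfe'⟩ := mor_EH.1 h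
  have heQ := he.restrict_to hQR
  obtain ⟨ei, hei, heie, -, heiQ⟩ := heQ.exists_inv
  have h2 : b⁻¹ * a ∈ H := by
    refine hgood _ (isConj_iff.2 ⟨e, e0_le heQ, rfl⟩) _ (mul_mem (inv_mem hb') ha)
      ((hei.comp he' heiQ).congr fun y hy => ?_)
    obtain ⟨x, hx, rfl⟩ := heQ.mem_im.1 hy
    rw [Function.comp_apply, heie x hx, afun_mul _ _ (heQ.apply_mem hx), ← hfe x (hQR hx),
      hfe' x hx, afun_inv_apply b (he'.apply_mem hx)]
  exact mor_EH.2 ⟨a, by simpa using mul_mem hb h2, ha, e, he, hfe⟩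

/-! ### Lifting maps that fix a fully centralized subgroup -/

theorem lift_id (hS : IsPGroup p S) (hF : F.IsSaturated p) {Q U V : Subgroup Ω}
    (hQ : F.IsFullyCentralized Q) (hQU : Q ≤ U) (hUV : U ≤ V) (hV : V ≤ normalizerIn S Q)
    {γ : Ω → Ω} (hγ : Mor F U γ) (hid : ∀ x ∈ Q, γ x = x) :
    ∃ b ∈ F.autGroup S, ∃ T : Subgroup Ω, V ≤ T ∧ centralizerIn S Q ≤ T ∧
      ∃ a0, Mor (E0 F p) T a0 ∧ (∀ x ∈ Q, afun b (a0 x) = x) ∧
        Mor (E0 F p) U (afun b⁻¹ ∘ γ) := by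
  have hQS := hQ.1
  have := finite_of_le hQS
  set K : Subgroup (MulAut Q) := autInducedBy V Q with hKdef
  have hKS : K ≤ autInducedBy S Q := autInducedBy_mono (hV.trans inf_le_left) Q
  set T : Subgroup Ω := nK S Q K with hTdef
  have hT : ∀ g, g ∈ T ↔ g ∈ S ∧ ∃ κ ∈ K, ∀ x ∈ Q, cj g x = afun κ x := fun g => by
    rw [hTdef, mem_nK]
    exact and_congr_right fun _ => exists_congr fun κ => and_congr_right fun _ =>
      forall₂_congr fun x _ => eq_comm
  have hTS : T ≤ S := nK_le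
  have := finite_of_le hTS
  let C : (Ω → Ω) → Prop := fun f => ∃ κ ∈ K, ∀ x ∈ Q, f x = afun κ x
  let D : FusionSystem T := extSystem F T Q C hTS hQS (fun g hg => ((hT g).1 hg).2)
    (fun f _ ⟨κ, _, h⟩ => (im_congr h).trans (im_afun κ))
    (fun f g _ _ ⟨κ, hκ, h⟩ ⟨κ', hκ', h'⟩ => ⟨κ' * κ, mul_mem hκ' hκ, fun x hx => by
      rw [Function.comp_apply, h x hx, h' _ (afun_mem κ hx), afun_mul _ _ hx]⟩)
    (fun f g _ _ ⟨κ, hκ, h⟩ hgf => ⟨κ⁻¹, inv_mem hκ, fun x hx => by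
      have := hgf _ (afun_mem κ⁻¹ hx)
      rwa [h _ (afun_mem κ⁻¹ hx), afun_apply_inv κ hx] at this⟩)
  have hfull : FullyK F Q K := by
    refine ⟨hQS, fun f hf => ?_⟩
    have := finite_of_le hf.im_le
    rw [card_nK hQS, card_nK hf.im_le, inf_eq_right.2 hKS]
    refine Nat.mul_le_mul ?_ (hQ.2 _ (isConj_iff.2 ⟨f, hf, rfl⟩))
    refine (Subgroup.card_le_of_le inf_le_right).trans (le_of_eq ?_)
    exact (Nat.card_congr
      (Subgroup.equivMapOfInjective _ _ (hf.transport rfl).injective).toEquiv).symm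
  have hDsat : D.IsSaturated p :=
    saturated_system (E := D) hT (fun P f => mor_extSystem) hfull hS hF
  have hDsub : D.IsSubsystemOf F := fun _ _ h => h.1
  have hVT : V ≤ T := fun v hv => (hT v).2 ⟨(hV hv).1, nHom V Q ⟨v, hv, (hV hv).2⟩,
    (autInducedBy_eq_range V Q).ge ⟨_, rfl⟩,
    fun x hx => (afun_nHom (K := V) (P := Q) ⟨v, hv, (hV hv).2⟩ hx).symm⟩
  have hUT := hUV.trans hVT
  have hCT : centralizerIn S Q ≤ T := fun c hc => (hT c).2 ⟨hc.1, 1, one_mem _, fun x hx => by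
    rw [afun_one hx, (mem_centralizerIn.1 hc).2 x hx]⟩
  have hγT : ∀ u ∈ U, γ u ∈ T := fun u hu => by
    obtain ⟨-, κ, hκ, he⟩ := (hT u).1 (hUT hu)
    refine (hT _).2 ⟨hγ.apply_mem hu, κ, hκ, fun x hx => ?_⟩
    conv_lhs => rw [← hid x hx]
    rw [← hγ.map_cj hu (hQU hx), hid _ (cj_mem_of_normalizer (hV (hUV hu)).2 hx), he x hx]
  have hγD : Mor D U γ := mor_extSystem.2 ⟨hγ, hUT, hγT, γ, by rwa [sup_eq_left.2 hQU],
    fun x _ => rfl, 1, one_mem _, fun x hx => by rw [afun_one hx, hid x hx]⟩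
  obtain ⟨a', ha', γ0, hγ0, hγe⟩ := e0_factor (hS.to_le hTS) hDsat hγD
  obtain ⟨ha'F, -, -, f', -, hf'e, κ, hκ, hf'κ⟩ := mor_extSystem.1 ((mem_autGroup le_rfl).1 ha')
  obtain ⟨r, hrV, hrn, hrκ⟩ := mem_autInducedBy.1 hκ
  have hrT : r⁻¹ ∈ T := T.inv_mem (hVT hrV)
  have hQT : Q ≤ T := hQU.trans hUT
  have hcjT : ∀ x ∈ T, cj r⁻¹ x ∈ T := fun x hx => T.mul_mem (T.mul_mem hrT hx) (T.inv_mem hrT)
  have ha'Q : ∀ x ∈ Q, afun a' x = cj r x := fun x hx => by
    rw [← hf'e x (hQT hx), hf'κ x hx, hrκ x hx]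
  obtain ⟨b, hb, a0, ha0, hbe⟩ := e0_factor hS hF ha'F
  refine ⟨b, hb, T, hVT, hCT, a0 ∘ cj r⁻¹,
    (mor_cj hTS (hTS hrT)).comp ha0 hcjT, fun x hx => ?_, ?_⟩
  · have hx' : cj r⁻¹ x ∈ Q := cj_mem_of_normalizer (inv_mem hrn) hx
    rw [Function.comp_apply, ← hbe _ (hcjT x (hQT hx)), ha'Q _ hx', cj_cj_inv]
  · refine ((e0_mono hDsub hγ0).comp ha0 fun x hx => hγ0.apply_mem hx).congr fun x hx => ?_
    rw [Function.comp_apply, Function.comp_apply, hγe x hx, hbe _ (hγ0.apply_mem hx),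
      afun_inv_apply b (ha0.apply_mem (hγ0.apply_mem hx))]

/-! ### Extension of maps of `E0` to `Q C_S(Q)` -/

/-- The first step: a map on `R` is, on `Q`, an automorphism of `S` following a map defined on
`Q C_S(Q)`, and the automorphism lies in `E0` on `R`. -/
theorem step1 (hS : IsPGroup p S) (hF : F.IsSaturated p) {Q R : Subgroup Ω} (hQR : Q ≤ R)
    (hR : R ≤ normalizerIn S Q) {ω : Ω → Ω} (hω : Mor (E0 F p) R ω)
    (hfc : F.IsFullyCentralized (im Q ω)) :
    ∃ k ∈ F.autGroup S, Mor (E0 F p) R (afun k) ∧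
      ∃ g0, Mor (E0 F p) (Q ⊔ centralizerIn S Q) g0 ∧ ∀ x ∈ Q, ω x = afun k (g0 x) := by
  have hωF := e0_le hω
  have hωQ := hωF.restrict_to hQR
  have hN : centralizerIn S Q ⊔ R ≤ extSub hωQ := by
    refine sup_le (fun c hc => ⟨hc.1, (centralizerIn_le_normalizerIn hc).2, 1, S.one_mem,
      fun x hx => ?_⟩) fun r hr => ⟨(hR hr).1, (hR hr).2, ω r, hωF.apply_mem hr,
        fun x hx => hωF.map_cj hr (hQR hx)⟩
    rw [(mem_centralizerIn.1 hc).2 x hx, cj_one]
  obtain ⟨β, hβ, hβQ⟩ := (receptive_iff.1 (receptive_of_fullyCentralized hS hF hfc)).2 Q ω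
    (centralizerIn S Q ⊔ R) hωQ rfl (fun g hg => (hN hg).1) (fun g hg => (hN hg).2.1)
    fun g hg => (hN hg).2.2
  have hRW : R ≤ Q ⊔ (centralizerIn S Q ⊔ R) := le_sup_right.trans' le_sup_right
  have hXW : Q ⊔ centralizerIn S Q ≤ Q ⊔ (centralizerIn S Q ⊔ R) := sup_le_sup_left le_sup_left _
  have hβR := hβ.restrict_to hRW
  have hβX := hβ.restrict_to hXW
  obtain ⟨βi, hβi, hβiβ, -, hβiR⟩ := hβR.exists_inv
  have him : im Q β = im Q ω := im_congr hβQ
  have hQU : im Q ω ≤ im R β := him ▸ im_mono hQR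
  have hU : im R β ≤ normalizerIn S (im Q ω) := im_le_iff.2 fun r hr => by
    refine ⟨hβR.apply_mem hr, mem_normalizer_of_cj_le hωQ.im_le fun y hy => ?_⟩
    obtain ⟨x, hx, rfl⟩ := hωQ.mem_im.1 hy
    have hx' := cj_mem_of_normalizer (hR hr).2 hx
    rw [← hβQ x hx, ← hβR.map_cj hr (hQR hx), hβQ _ hx']
    exact apply_mem_im hx'
  have hγid : ∀ y ∈ im Q ω, (ω ∘ βi) y = y := fun y hy => by
    obtain ⟨x, hx, rfl⟩ := hωQ.mem_im.1 hy
    rw [Function.comp_apply, ← hβQ x hx, hβiβ x (hQR hx), hβQ x hx]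
  obtain ⟨b, hb, T, hUT, hCT, a0, ha0, hba0, hγ0⟩ :=
    lift_id hS hF hfc hQU le_rfl hU (hβi.comp hωF hβiR) hγid
  obtain ⟨h, hh, β0, hβ0, hβe⟩ := e0_factor hS hF hβ
  have hval : ∀ x ∈ Q ⊔ (centralizerIn S Q ⊔ R), afun h⁻¹ (β x) = β0 x := fun x hx => by
    rw [hβe x hx, afun_inv_apply h (hβ0.apply_mem hx)]
  -- the map on `R`
  have h1 := e0_invariant hγ0 (inv_mem hh)
  have hf0 := (hβ0.restrict_to hRW).comp h1 fun x hx => by
    rw [← hval x (hRW hx)]
    exact apply_mem_im (apply_mem_im hx)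
  have hf0e : ∀ x ∈ R,
      afun (b * h)⁻¹ (ω x) =
        ((afun h⁻¹ ∘ (afun b⁻¹ ∘ (ω ∘ βi)) ∘ afun h⁻¹⁻¹) ∘ β0) x := fun x hx => by
    simp only [Function.comp_apply, inv_inv, ← hval x (hRW hx),
      afun_apply_inv h (hβR.apply_mem hx), hβiβ x hx]
    rw [mul_inv_rev, afun_mul _ _ (hω.apply_mem hx)]
  obtain ⟨ωi, hωi, hωiω, -, hωiR⟩ := hω.exists_inv
  have hk : Mor (E0 F p) R (afun (b * h)⁻¹) := by
    have h2 : Mor (E0 F p) (im R ω) (afun (b * h)⁻¹) :=
      (hωi.comp hf0 hωiR).congr fun y hy => by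
        obtain ⟨x, hx, rfl⟩ := hω.mem_im.1 hy
        rw [Function.comp_apply, hωiω x hx, hf0e x hx]
    have h3 := m_move (inv_mem (mul_mem hb hh)) h2 hωi
    rwa [hω.im_comp, show im R (ωi ∘ ω) = R from (im_congr hωiω).trans (im_id R)] at h3
  -- the map on `Q C_S(Q)`
  have h4 := e0_invariant ha0 (inv_mem hh)
  have hg0 := (hβ0.restrict_to hXW).comp h4 fun x hx => by
    rw [← hval x (hXW hx)]
    refine apply_mem_im ?_
    have hx' := xc_into hβX him hx
    exact sup_le (hQU.trans hUT) hCT hx'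
  refine ⟨b * h, mul_mem hb hh, by simpa using m_inv (inv_mem (mul_mem hb hh)) hk, _, hg0,
    fun x hx => ?_⟩
  have hxW : x ∈ Q ⊔ (centralizerIn S Q ⊔ R) := Subgroup.mem_sup_left hx
  have hyQ : β x ∈ im Q ω := by rw [hβQ x hx]; exact apply_mem_im hx
  have hyT : β x ∈ T := hQU.trans hUT hyQ
  simp only [Function.comp_apply, inv_inv, ← hval x hxW, afun_apply_inv h (hβ.apply_mem hxW)]
  rw [afun_mul _ _ (afun_mem _ (ha0.apply_mem hyT)), afun_apply_inv h (ha0.apply_mem hyT),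
    hba0 _ hyQ, hβQ x hx]

/-- The extension statement at order `c`. -/
def LProp (F : FusionSystem S) (p : ℕ) (c : ℕ) : Prop :=
  ∀ (Q : Subgroup Ω) (f : Ω → Ω), Nat.card Q = c → F.IsFullyNormalized Q →
    F.IsFullyNormalized (im Q f) → Mor (E0 F p) Q f →
    ∃ g, Mor (EH F p (A0 F p)) (Q ⊔ centralizerIn S Q) g ∧ ∀ x ∈ Q, g x = f x

theorem step2 (hS : IsPGroup p S) (hF : F.IsSaturated p) {c : ℕ}
    (IH : ∀ c', c < c' → LProp F p c') {Q5 R5 : Subgroup Ω} {k : MulAut S}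
    (hk : k ∈ F.autGroup S) (hkR : Mor (E0 F p) R5 (afun k)) (hR5 : F.IsFullyNormalized R5)
    (hc : c < Nat.card R5) (hQR : Q5 ≤ R5) (hR : R5 ≤ normalizerIn S Q5) {χ : Ω → Ω}
    (hχ : Mor (E0 F p) (normalizerIn S Q5) χ) (h6 : F.IsFullyCentralized (im Q5 χ)) :
    ∃ g, Mor (EH F p (A0 F p)) (im Q5 χ ⊔ centralizerIn S (im Q5 χ)) g ∧
      ∀ y ∈ im Q5 χ, g y = afun k y := by
  have hQ5S : Q5 ≤ S := hQR.trans hR5.1
  obtain ⟨g5, hg5, hg5e⟩ := IH _ hc R5 _ rfl hR5 (fn_aut hR5 hk) hkR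
  set X5 := R5 ⊔ centralizerIn S R5 with hX5
  have hX5S : X5 ≤ S := sup_le hR5.1 inf_le_left
  have hX5N : X5 ≤ normalizerIn S Q5 := by
    refine sup_le hR fun x hx => centralizerIn_le_normalizerIn (mem_centralizerIn.2
      ⟨hx.1, fun y hy => (mem_centralizerIn.1 hx).2 y (hQR hy)⟩)
  have hfc := fullyCentralized_of_fullyNormalized hS hF hR5
  have hη : Mor F X5 (afun k⁻¹ ∘ g5) :=
    (eh_le hg5).comp ((mem_autGroup le_rfl).1 (inv_mem hk)) fun x hx => hg5.apply_mem hx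
  have hηR : ∀ x ∈ R5, (afun k⁻¹ ∘ g5) x = x := fun x hx => by
    rw [Function.comp_apply, hg5e x hx, afun_inv_apply k (hR5.1 hx)]
  have hηX : ∀ x ∈ X5, afun k⁻¹ (g5 x) ∈ X5 := fun x hx =>
    xc_into hη ((im_congr hηR).trans (im_id R5)) hx
  have hχX := hχ.restrict_to hX5N
  obtain ⟨χi, hχi, hχiχ, -, hχiX⟩ := hχX.exists_inv
  have hη6 : Mor F (im X5 χ) (χ ∘ (afun k⁻¹ ∘ g5) ∘ χi) :=
    ((e0_le hχi).comp hη hχiX).comp (e0_le hχX) fun y hy => hηX _ (hχiX y hy)
  have h6id : ∀ y ∈ im Q5 χ, (χ ∘ (afun k⁻¹ ∘ g5) ∘ χi) y = y := fun y hy => by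
    obtain ⟨x, hx, rfl⟩ := (hχ.restrict_to (le_normalizerIn hQ5S)).mem_im.1 hy
    have hxX : x ∈ X5 := Subgroup.mem_sup_left (hQR hx)
    have := hηR x (hQR hx)
    simp only [Function.comp_apply, hχiχ x hxX] at this ⊢
    rw [this]
  have hY : im X5 χ ≤ normalizerIn S (im Q5 χ) := im_le_iff.2 fun x hx =>
    mor_normalizer_mem hχ hQ5S rfl (hX5N hx)
  obtain ⟨b, hb, T, hVT, hCT, a0, ha0, hba0, hγ0⟩ :=
    lift_id hS hF h6 (im_mono (hQR.trans le_sup_left)) le_rfl hY hη6 h6id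
  obtain ⟨δ, hδ, hδγ, -, hδY⟩ := hγ0.exists_inv
  have hcen : F.IsCentric (im (im X5 χ) (afun b⁻¹ ∘ (χ ∘ (afun k⁻¹ ∘ g5) ∘ χi))) :=
    centric_conj (centric_conj (centric_xc hfc) (isConj_iff.2 ⟨_, e0_le hχX, rfl⟩))
      (isConj_iff.2 ⟨_, e0_le hγ0, rfl⟩)
  have hkb : k * b ∈ A0 F p := by
    refine aut_centric le_rfl hcen (mul_mem hk hb) ?_
    have h1 := ((eh_of_e0 (H := A0 F p) hδ).comp (eh_of_e0 hχi) hδY).comp hg5
      fun z hz => hχiX _ (hδY z hz)
    have h2 : Mor (EH F p (A0 F p)) _ _ := eh_of_e0 (e0_invariant hχ hk)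
    refine (h1.comp h2 fun z hz => ?_).congr fun z hz => ?_
    · have hw := hχiX _ (hδY z hz)
      show g5 (χi (δ z)) ∈ _
      rw [← afun_apply_inv k (hg5.apply_mem hw)]
      exact apply_mem_im (hX5N (hηX _ hw))
    · obtain ⟨y, hy, rfl⟩ := hγ0.mem_im.1 hz
      obtain ⟨x, hx, rfl⟩ := hχX.mem_im.1 hy
      have hSx : χ (afun k⁻¹ (g5 x)) ∈ S := hχX.apply_mem (hηX x hx)
      simp only [Function.comp_apply] at hδγ ⊢
      rw [hδγ _ hy, hχiχ x hx, afun_mul _ _ (afun_mem _ hSx), afun_apply_inv b hSx]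
  refine ⟨afun (k * b) ∘ a0, mor_EH.2 ⟨k * b, hkb, mul_mem hk hb, a0,
    ha0.restrict_to (sup_le ((im_mono (hQR.trans le_sup_left)).trans hVT) hCT),
    fun x _ => rfl⟩, fun y hy => ?_⟩
  have hyT : y ∈ T := hVT (im_mono (hQR.trans le_sup_left) hy)
  rw [Function.comp_apply, afun_mul _ _ (ha0.apply_mem hyT), hba0 y hy]

theorem link (hS : IsPGroup p S) (hF : F.IsSaturated p) {c : ℕ}
    (IH : ∀ c', c < c' → LProp F p c') {Q R : Subgroup Ω} (hQR : Q ≤ R)
    (hR : R ≤ normalizerIn S Q) (hc : c < Nat.card R) {ω0 : Ω → Ω}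
    (hω0 : Mor (E0 F p) R ω0) (hR5 : F.IsFullyNormalized (im R ω0)) {χ : Ω → Ω}
    (hχ : Mor (E0 F p) (normalizerIn S (im Q ω0)) χ)
    (h6 : F.IsFullyNormalized (im (im Q ω0) χ)) :
    ∃ g, Mor (EH F p (A0 F p)) (Q ⊔ centralizerIn S Q) g ∧ ∀ x ∈ Q, g x = χ (ω0 x) := by
  have hω0Q := hω0.restrict_to hQR
  have hRN : ∀ r ∈ R, ω0 r ∈ normalizerIn S (im Q ω0) := fun r hr => by
    refine ⟨hω0.apply_mem hr, mem_normalizer_of_cj_le hω0Q.im_le fun y hy => ?_⟩
    obtain ⟨x, hx, rfl⟩ := hω0Q.mem_im.1 hy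
    rw [← hω0.map_cj hr (hQR hx)]
    exact apply_mem_im (cj_mem_of_normalizer (hR hr).2 hx)
  have hω := hω0.comp hχ hRN
  have e : im Q (χ ∘ ω0) = im (im Q ω0) χ := (hω0Q.im_comp χ).symm
  have hfc6 := fullyCentralized_of_fullyNormalized hS hF h6
  obtain ⟨k, hk, hkR, g0, hg0, hg0e⟩ := step1 hS hF hQR hR hω (e ▸ hfc6)
  obtain ⟨g', hg', hg'e⟩ := step2 hS hF IH (inv_mem hk) (m_inv hk (m_move hk hkR hω0)) hR5
    (by rwa [hω0.card_im]) (im_mono hQR) (im_le_iff.2 hRN) hχ hfc6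
  have e2 : im (im (im Q ω0) χ) g' = im Q g0 := by
    rw [← e, (hω.restrict_to hQR).im_comp]
    refine im_congr fun x hx => ?_
    have h1 : χ (ω0 x) ∈ im (im Q ω0) χ := apply_mem_im (apply_mem_im hx)
    rw [Function.comp_apply, Function.comp_apply, hg'e _ h1]
    have h2 := hg0e x hx
    rw [Function.comp_apply] at h2
    rw [h2, afun_inv_apply k (hg0.apply_mem (Subgroup.mem_sup_left hx))]
  have hfn0 : F.IsFullyNormalized (im Q g0) := by
    rw [← e2, im_congr hg'e]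
    exact fn_aut h6 (inv_mem hk)
  have hX := im_xc hfc6 (fullyCentralized_of_fullyNormalized hS hF hfn0) (eh_le hg') e2
  obtain ⟨j, hj, hjg, -, -⟩ := hg'.exists_inv
  refine ⟨j ∘ g0, (eh_of_e0 hg0).comp hj fun x hx => ?_, fun x hx => ?_⟩
  · rw [hX]
    exact xc_into (e0_le hg0) rfl hx
  · have h1 : χ (ω0 x) ∈ im (im Q ω0) χ := apply_mem_im (apply_mem_im hx)
    have h2 := hjg _ (Subgroup.mem_sup_left h1)
    rw [hg'e _ h1] at h2
    have h3 := hg0e x hx
    rw [Function.comp_apply] at h3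
    rw [h3, afun_inv_apply k (hg0.apply_mem (Subgroup.mem_sup_left hx)), ← h3] at h2
    exact h2

theorem xi_ext (hS : IsPGroup p S) (hF : F.IsSaturated p) {c : ℕ}
    (IH : ∀ c', c < c' → LProp F p c') {Q R : Subgroup Ω} (hQR : Q ≤ R)
    (hR : R ≤ normalizerIn S Q) (hc : c < Nat.card R) {ξ : Ω → Ω} (hξ : Mor (E0 F p) R ξ)
    (hn' : F.IsFullyNormalized (im Q ξ)) :
    ∃ g, Mor (EH F p (A0 F p)) (Q ⊔ centralizerIn S Q) g ∧ ∀ x ∈ Q, g x = ξ x := by
  have hξQ := hξ.restrict_to hQR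
  obtain ⟨u, hu, hun⟩ := to_fn hS hF hξ.im_le
  have hu' := hu.restrict_to (le_normalizerIn hξ.im_le)
  have huξ := hξ.comp hu' fun x hx => apply_mem_im hx
  obtain ⟨χ, hχ, hχn⟩ := to_fn hS hF (huξ.restrict_to hQR).im_le
  have e : im (im Q ξ) u = im Q (u ∘ ξ) := hξQ.im_comp u
  obtain ⟨g1, hg1, hg1e⟩ := link hS hF IH hQR hR hc huξ
    (by rw [← hξ.im_comp]; exact hun) hχ hχn
  have hRN : im R ξ ≤ normalizerIn S (im Q ξ) := im_le_iff.2 fun r hr => by
    refine ⟨hξ.apply_mem hr, mem_normalizer_of_cj_le hξQ.im_le fun y hy => ?_⟩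
    obtain ⟨x, hx, rfl⟩ := hξQ.mem_im.1 hy
    rw [← hξ.map_cj hr (hQR hx)]
    exact apply_mem_im (cj_mem_of_normalizer (hR hr).2 hx)
  obtain ⟨g2, hg2, hg2e⟩ := link hS hF IH (im_mono hQR) hRN (by rwa [hξ.card_im]) hu' hun
    (χ := χ) (by rw [e]; exact hχ) (by rw [e]; exact hχn)
  have e1 : im Q g1 = im (im Q (u ∘ ξ)) χ := by
    rw [(huξ.restrict_to hQR).im_comp]
    exact im_congr hg1e
  have e2 : im (im Q ξ) g2 = im (im Q (u ∘ ξ)) χ := by
    rw [← e, (hu'.restrict_to (im_mono hQR)).im_comp]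
    exact im_congr hg2e
  have hX := im_xc (fullyCentralized_of_fullyNormalized hS hF hn')
    (fullyCentralized_of_fullyNormalized hS hF hχn) (eh_le hg2) e2
  obtain ⟨j, hj, hjg, -, -⟩ := hg2.exists_inv
  refine ⟨j ∘ g1, hg1.comp hj fun x hx => ?_, fun x hx => ?_⟩
  · rw [hX]
    exact xc_into (eh_le hg1) e1 hx
  · have h1 : ξ x ∈ im Q ξ := apply_mem_im hx
    rw [Function.comp_apply, hg1e x hx]
    have h2 := hjg _ (Subgroup.mem_sup_left h1)
    rwa [hg2e _ h1] at h2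

theorem move_ext (hS : IsPGroup p S) (hF : F.IsSaturated p) {c : ℕ}
    (IH : ∀ c', c < c' → LProp F p c') {P R : Subgroup Ω} (hPR : P ≤ R)
    (hR : R ≤ normalizerIn S P) (hc : c < Nat.card R ∨ P = S) {f u v : Ω → Ω}
    (hf : Mor (E0 F p) R f) (hu : Mor (E0 F p) (normalizerIn S P) u)
    (hv : Mor (E0 F p) (normalizerIn S (im P f)) v) (hvn : F.IsFullyNormalized (im (im P f) v)) :
    ∃ g, Mor (EH F p (A0 F p)) (im P u ⊔ centralizerIn S (im P u)) g ∧
      ∀ x ∈ P, g (u x) = v (f x) := by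
  have huR := hu.restrict_to hR
  have huP := huR.restrict_to hPR
  have hfP := hf.restrict_to hPR
  obtain ⟨ui, hui, huiu, -, huiR⟩ := huR.exists_inv
  have hfN : ∀ r ∈ R, f r ∈ normalizerIn S (im P f) := fun r hr => by
    refine ⟨hf.apply_mem hr, mem_normalizer_of_cj_le hfP.im_le fun y hy => ?_⟩
    obtain ⟨x, hx, rfl⟩ := hfP.mem_im.1 hy
    rw [← hf.map_cj hr (hPR hx)]
    exact apply_mem_im (cj_mem_of_normalizer (hR hr).2 hx)
  have hξ := (hui.comp hf huiR).comp hv fun y hy => hfN _ (huiR y hy)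
  have hval : ∀ x ∈ P, (v ∘ (f ∘ ui)) (u x) = v (f x) := fun x hx => by
    simp only [Function.comp_apply, huiu x (hPR hx)]
  rcases hc with hc | hPS
  · have hn' : F.IsFullyNormalized (im (im P u) (v ∘ (f ∘ ui))) := by
      rw [huP.im_comp]
      rw [hfP.im_comp] at hvn
      rwa [show im P ((v ∘ (f ∘ ui)) ∘ u) = im P (v ∘ f) from im_congr fun x hx => hval x hx]
    have hRN : im R u ≤ normalizerIn S (im P u) := im_le_iff.2 fun r hr =>
      mor_normalizer_mem hu (hPR.trans hf.le) rfl (hR hr)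
    obtain ⟨g, hg, hge⟩ := xi_ext hS hF IH (im_mono hPR) hRN (by rwa [huR.card_im]) hξ hn'
    exact ⟨g, hg, fun x hx => (hge _ (apply_mem_im hx)).trans (hval x hx)⟩
  · subst hPS
    have e : im P u = P := isConj_self_eq (isConj_iff.2 ⟨u, e0_le huP, rfl⟩)
    refine ⟨_, eh_of_e0 (hξ.restrict_to ?_), hval⟩
    rw [e]
    exact (sup_le le_rfl inf_le_left).trans (e.ge.trans (im_mono hPR))

/-- `p`-elements of the automizer of a fully normalized subgroup extend. -/
theorem p_ext (hS : IsPGroup p S) (hF : F.IsSaturated p) {Q : Subgroup Ω}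
    (hQ : F.IsFullyNormalized Q) {α : MulAut Q} (hα : α ∈ F.autGroup Q)
    (hk : ∃ k, orderOf α = p ^ k) :
    ∃ g, Mor (E0 F p) (Q ⊔ centralizerIn S Q) g ∧ ∀ x ∈ Q, g x = afun α x := by
  have := finite_autGroup (F := F) Q
  obtain ⟨k, hk⟩ := hk
  obtain ⟨a, ha, haR⟩ := sylIn_absorb (K := Subgroup.zpowers α)
    (fullyAutomized_of_fullyNormalized hS hF hQ).2
    (IsPGroup.of_card (n := k) (by rw [Nat.card_zpowers, hk])) (Subgroup.zpowers_le.2 hα)
  obtain ⟨s, hs, hsn, hse⟩ := mem_autInducedBy.1 (haR α (Subgroup.mem_zpowers α))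
  obtain ⟨f', hf', hag, -⟩ := exists_extension_centralizer (receptive_of_fullyNormalized hS hF hQ)
    ((mem_autGroup hQ.1).1 ha) (im_afun a)
  have hfc := fullyCentralized_of_fullyNormalized hS hF hQ
  obtain ⟨A, hA, hAe⟩ := hf'.exists_aut
    (im_xc hfc hfc hf' ((im_congr hag).trans (im_afun a)))
  have hXS : Q ⊔ centralizerIn S Q ≤ S := sup_le hQ.1 inf_le_left
  have hsX : s ∈ Subgroup.normalizer ((Q ⊔ centralizerIn S Q : Subgroup Ω) : Set Ω) :=
    mem_normalizer_of_cj_le hXS fun x hx => xc_into (mor_cj (F := F) hXS hs)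
      (mem_normalizer_iff_im_cj.1 hsn) hx
  have hσmem : nHom S (Q ⊔ centralizerIn S Q) ⟨s, hs, hsX⟩ ∈
      autInducedBy S (Q ⊔ centralizerIn S Q) := (autInducedBy_eq_range _ _).ge ⟨_, rfl⟩
  set σ := nHom S (Q ⊔ centralizerIn S Q) ⟨s, hs, hsX⟩ with hσ
  obtain ⟨j, hj⟩ := IsPGroup.iff_orderOf.1 (isPGroup_autInducedBy hS _) ⟨σ, hσmem⟩
  rw [Subgroup.orderOf_mk] at hj
  refine ⟨_, gen_e0 _ hXS (A⁻¹ * σ * A)
    (mul_mem (mul_mem (inv_mem hA) (autInducedBy_le hXS hσmem)) hA) ⟨j, ?_⟩, fun x hx => ?_⟩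
  · rw [← hj]
    simpa using MulEquiv.orderOf_eq (MulAut.conj A⁻¹) σ
  · have hxX : x ∈ Q ⊔ centralizerIn S Q := Subgroup.mem_sup_left hx
    have hαx := afun_mem α hx
    rw [afun_mul _ _ hxX, afun_mul _ _ (afun_mem A hxX), hAe x hxX, hag x hx,
      hσ, afun_nHom _ (Subgroup.mem_sup_left (afun_mem a hx))]
    show afun A⁻¹ (cj s (afun a x)) = afun α x
    rw [← hse _ (afun_mem a hx), afun_mul _ _ (afun_mem a hx), afun_inv_apply a hx,
      afun_mul _ _ hx, ← hag _ hαx, ← hAe _ (Subgroup.mem_sup_left hαx),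
      afun_inv_apply A (Subgroup.mem_sup_left hαx)]

/-- Maps of `E0` between fully normalized subgroups extend to the centralizer. -/
theorem lprop (hS : IsPGroup p S) (hF : F.IsSaturated p) (c : ℕ) : LProp F p c := by
  suffices ∀ k c, Nat.card S ≤ c + k → LProp F p c from this _ c (Nat.le_add_left _ _)
  intro k
  induction k using Nat.strong_induction_on with
  | _ k IH =>
  intro c hck
  have IH' : ∀ c', c < c' → LProp F p c' := fun c' hc' => by
    rcases Nat.eq_zero_or_pos k with rfl | hk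
    · intro Q f hQc hQn
      have := Subgroup.card_le_of_le hQn.1
      omega
    · exact IH (k - 1) (by omega) c' (by omega)
  have hlt : ∀ {P R : Subgroup Ω}, P < R → R ≤ S → Nat.card P = c → c < Nat.card R := by
    intro P R hPR hRS hP
    have := finite_of_le hRS
    rw [← hP]
    exact lt_of_le_of_ne (Subgroup.card_le_of_le hPR.le)
      fun e => hPR.ne (Subgroup.eq_of_le_of_card_ge hPR.le e.ge)
  let Φ : Subgroup Ω → (Ω → Ω) → Prop := fun P f => ∀ P', P' ≤ P → Nat.card P' = c →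
    ∀ u v : Ω → Ω, Mor (E0 F p) (normalizerIn S P') u →
      Mor (E0 F p) (normalizerIn S (im P' f)) v → F.IsFullyNormalized (im P' u) →
      F.IsFullyNormalized (im (im P' f) v) →
      ∃ g, Mor (EH F p (A0 F p)) (im P' u ⊔ centralizerIn S (im P' u)) g ∧
        ∀ x ∈ P', g (u x) = v (f x)
  have hΦ : Closed F (U := S) Φ :=
    { congr := fun {P f g} h he P' hP' hc u v hu hv hun hvn => by
        have e : im P' f = im P' g := im_congr fun x hx => he x (hP' hx)
        obtain ⟨w, hw, hwe⟩ := h P' hP' hc u v hu (e ▸ hv) hun (e ▸ hvn)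
        exact ⟨w, hw, fun x hx => (hwe x hx).trans (by rw [he x (hP' hx)])⟩
      conj := fun {P g} hP hg P' hP' hc u v hu hv _ hvn => by
        have hP'S := hP'.trans hP
        refine move_ext hS hF IH' (le_normalizerIn hP'S) le_rfl ?_
          (mor_cj inf_le_left hg) hu hv hvn
        rcases eq_or_lt_of_le hP'S with e | e
        · exact Or.inr e
        · exact Or.inl (hlt (lt_normalizerIn hS e le_rfl) inf_le_left hc)
      comp := fun {P Q f g} hf hg hP hQ hfQ h1 h2 P' hP' hc u v hu hv hun hvn => by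
        have hf' := hf.restrict_to hP'
        have hQ' : im P' f ≤ Q := im_le_iff.2 fun x hx => hfQ x (hP' hx)
        have hg' := hg.restrict_to hQ'
        obtain ⟨w, hw, hwn⟩ := to_fn hS hF hf'.im_le
        have hw' := hw.restrict_to (le_normalizerIn hf'.im_le)
        rw [← hf'.im_comp] at hv hvn
        obtain ⟨g1, hg1, hg1e⟩ := h1 P' hP' hc u w hu hw hun hwn
        obtain ⟨g2, hg2, hg2e⟩ := h2 _ hQ' (hf'.card_im.trans hc) w v hw hv hwn hvn
        have e : im (im P' u) g1 = im (im P' f) w := by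
          rw [(hu.restrict_to (le_normalizerIn (hP'.trans hP))).im_comp, hf'.im_comp]
          exact im_congr hg1e
        refine ⟨g2 ∘ g1, hg1.comp hg2 fun x hx => xc_into (eh_le hg1) e hx, fun x hx => ?_⟩
        rw [Function.comp_apply, hg1e x hx, hg2e _ (apply_mem_im hx)]
        rfl
      inv := fun {P f g} hf hg hP hgf h1 P' hP' hc u v hu hv hun hvn => by
        have hg' := hg.restrict_to hP'
        have hfg : ∀ y ∈ im P f, f (g y) = y := fun y hy => by
          obtain ⟨x, hx, rfl⟩ := hf.mem_im.1 hy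
          rw [hgf x hx]
        have hP0 : im P' g ≤ P := im_le_iff.2 fun y hy => by
          obtain ⟨x, hx, rfl⟩ := hf.mem_im.1 (hP' hy)
          rwa [hgf x hx]
        have e0 : im (im P' g) f = P' := by
          rw [hg'.im_comp]
          exact (im_congr fun y hy => hfg y (hP' hy)).trans (im_id P')
        obtain ⟨g1, hg1, hg1e⟩ := h1 _ hP0 (hg'.card_im.trans hc) v u hv (e0.symm ▸ hu) hvn
          (e0.symm ▸ hun)
        have e : im (im (im P' g) v) g1 = im P' u := by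
          rw [(hv.restrict_to (le_normalizerIn hg'.im_le)).im_comp,
            show im (im P' g) (g1 ∘ v) = im (im P' g) (u ∘ f) from im_congr hg1e,
            ← (hf.restrict_to hP0).im_comp, e0]
        obtain ⟨j, hj, hjg, -, -⟩ := hg1.exists_inv
        rw [im_xc (fullyCentralized_of_fullyNormalized hS hF hvn)
          (fullyCentralized_of_fullyNormalized hS hF hun) (eh_le hg1) e] at hj
        refine ⟨j, hj, fun y hy => ?_⟩
        have hy0 : g y ∈ im P' g := apply_mem_im hy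
        have h2 := hjg _ (Subgroup.mem_sup_left (apply_mem_im hy0))
        rwa [hg1e _ hy0, hfg y (hP' hy)] at h2 }
  have hgen : Gen F (subSystem le_rfl hΦ) p := by
    intro R hR α hα hk
    have hm := (mem_autGroup hR).1 hα
    refine mor_subSystem.2 ⟨hm, hR, fun x hx => hm.apply_mem hx, ?_⟩
    intro P' hP' hc u v hu hv hun hvn
    rcases eq_or_lt_of_le hP' with rfl | hlt'
    · rcases eq_or_lt_of_le hR with hS' | hS'
      · exact move_ext hS hF IH' le_rfl (le_normalizerIn hR) (Or.inr hS')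
          (gen_e0 P' hR α hα hk) hu hv hvn
      rw [im_afun] at hv hvn
      obtain ⟨g1, hg1, hg1e⟩ := move_ext hS hF IH' (le_normalizerIn hR) le_rfl
        (Or.inl (hlt (lt_normalizerIn hS hS' le_rfl) inf_le_left hc))
        (mor_id (inf_le_left : normalizerIn S P' ≤ S)) hu (by rwa [im_id]) (by rwa [im_id])
      have hv' := e0_le (hv.restrict_to (le_normalizerIn hR))
      obtain ⟨g2, hg2, hg2e⟩ := p_ext hS hF hvn (hv'.transport_mem rfl hα)
        (by rwa [MulEquiv.orderOf_eq])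
      have e : im (im P' u) g1 = im P' v := by
        rw [(hu.restrict_to (le_normalizerIn hR)).im_comp]
        exact im_congr hg1e
      refine ⟨g2 ∘ g1, hg1.comp (eh_of_e0 hg2) fun x hx => xc_into (eh_le hg1) e hx,
        fun x hx => ?_⟩
      rw [Function.comp_apply, hg1e x hx, hg2e _ (apply_mem_im hx),
        hv'.afun_transport rfl α hx]
    · have hN : P' ≤ normalizerIn R P' := le_inf hP' Subgroup.le_normalizer
      exact move_ext hS hF IH' hN (inf_le_inf_right _ hR)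
        (Or.inl (hlt (lt_normalizerIn hS hlt' hR) (inf_le_left.trans hR) hc))
        ((gen_e0 R hR α hα hk).restrict_to inf_le_left) hu hv hvn
  intro Q f hQc hQn hQ'n hf
  obtain ⟨g, hg, hge⟩ := (mor_subSystem.1 (e0_min hgen hf)).2.2.2 Q le_rfl hQc
    (fun x => x) (fun x => x) (mor_id inf_le_left) (mor_id inf_le_left)
    (by rwa [im_id]) (by rwa [im_id])
  rw [im_id] at hg
  exact ⟨g, hg, hge⟩

/-! ### Saturation -/

theorem fullyAutomized_EH (hS : IsPGroup p S) (hF : F.IsSaturated p) {H : Subgroup (MulAut S)}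
    {Q : Subgroup Ω} (hQ : F.IsFullyNormalized Q) : (EH F p H).IsFullyAutomized p Q := by
  refine ⟨hQ.1, ?_⟩
  have := finite_autGroup (F := F) Q
  have := finite_autGroup (F := EH F p H) Q
  have hle : autInducedBy S Q ≤ (EH F p H).autGroup Q := autInducedBy_le hQ.1
  have hsub : (EH F p H).autGroup Q ≤ F.autGroup Q := autGroup_mono (fun P => eh_sub P) Q
  have h1 := (sylIn_iff_card (autInducedBy_le hQ.1)).1
    (fullyAutomized_of_fullyNormalized hS hF hQ).2
  refine (sylIn_iff_card hle).2 (le_antisymm (sylIn_le_pow (isPGroup_autInducedBy hS Q) hle) ?_)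
  rw [h1]
  refine Nat.pow_le_pow_right (Fact.out (p := p.Prime)).pos ?_
  exact (Nat.factorization_le_iff_dvd Nat.card_pos.ne' Nat.card_pos.ne').2
    (Subgroup.card_dvd_of_le hsub) p

theorem receptive_EH (hS : IsPGroup p S) (hF : F.IsSaturated p) {H : Subgroup (MulAut S)}
    (hA : A0 F p ≤ H) {Q : Subgroup Ω} (hQ : F.IsFullyNormalized Q) :
    (EH F p H).IsReceptive Q := by
  refine receptive_iff.2 ⟨hQ.1, fun P f N hf him hNS hNn hN => ?_⟩
  obtain ⟨u, hu, hun⟩ := to_fn hS hF hf.le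
  have huP := hu.restrict_to (le_normalizerIn hf.le)
  obtain ⟨ui, hui, huiu, -, huiP⟩ := huP.exists_inv
  have hξ : Mor (EH F p H) (im P u) (f ∘ ui) := (eh_of_e0 hui).comp hf huiP
  have hξim : im (im P u) (f ∘ ui) = Q := by
    rw [huP.im_comp, im_congr (g := f) fun x hx => by simp only [Function.comp_apply, huiu x hx],
      him]
  obtain ⟨a, ha, ha', e, he, hξe⟩ := mor_EH.1 hξ
  have hen : F.IsFullyNormalized (im (im P u) e) := by
    have h1 := fn_aut hQ (inv_mem ha')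
    rw [← hξim, (eh_le hξ).im_comp] at h1
    rwa [im_congr (g := e) fun y hy => by
      rw [Function.comp_apply, hξe y hy, afun_inv_apply a (he.apply_mem hy)]] at h1
  obtain ⟨L, hL, hLe⟩ := lprop hS hF _ _ e rfl hun hen he
  obtain ⟨a2, ha2, ha2', e2, he2, hLe2⟩ := mor_EH.1 hL
  have hg : Mor (EH F p H) (im P u ⊔ centralizerIn S (im P u)) (afun a ∘ L) := by
    refine mor_EH.2 ⟨a * a2, mul_mem ha (hA ha2), mul_mem ha' ha2', e2, he2, fun x hx => ?_⟩
    rw [Function.comp_apply, hLe2 x hx, afun_mul _ _ (he2.apply_mem hx)]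
  have hge : ∀ y ∈ im P u, (afun a ∘ L) y = (f ∘ ui) y := fun y hy => by
    rw [Function.comp_apply, hLe y hy, hξe y hy]
  -- the extension in `F`
  have hNN : N ≤ normalizerIn S P := le_inf hNS hNn
  have huN := hu.restrict_to hNN
  have hξF := eh_le hξ
  have hsub : centralizerIn S (im P u) ⊔ im N u ≤ extSub hξF := by
    refine sup_le (fun c hc => ⟨hc.1, (centralizerIn_le_normalizerIn hc).2, 1, S.one_mem,
      fun x hx => ?_⟩) (im_le_iff.2 fun n hn => ?_)
    · rw [(mem_centralizerIn.1 hc).2 x hx, cj_one]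
    · obtain ⟨h, hh, he'⟩ := hN n hn
      refine ⟨huN.apply_mem hn, (mor_normalizer_mem hu hf.le rfl (hNN hn)).2, h, hh,
        fun y hy => ?_⟩
      obtain ⟨x, hx, rfl⟩ := huP.mem_im.1 hy
      have hx' := cj_mem_of_normalizer (hNn hn) hx
      rw [← hu.map_cj (hNN hn) (le_normalizerIn hf.le hx), Function.comp_apply,
        huiu _ hx', he' x hx, Function.comp_apply, huiu x hx]
  obtain ⟨χ, hχ, hχe⟩ := (receptive_iff.1 (receptive_of_fullyNormalized hS hF hQ)).2 (im P u)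
    (f ∘ ui) (centralizerIn S (im P u) ⊔ im N u) hξF hξim
    (fun g hg => (hsub hg).1) (fun g hg => (hsub hg).2.1) fun g hg => (hsub hg).2.2
  set W := im P u ⊔ (centralizerIn S (im P u) ⊔ im N u) with hW
  have hXW : im P u ⊔ centralizerIn S (im P u) ≤ W := sup_le_sup_left le_sup_left _
  have hfcP := fullyCentralized_of_fullyNormalized hS hF hun
  have hfcQ := fullyCentralized_of_fullyNormalized hS hF hQ
  have hχX := hχ.restrict_to hXW
  have hχP : im (im P u) χ = Q := (im_congr hχe).trans hξim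
  have hXim := im_xc hfcP hfcQ hχX hχP
  obtain ⟨χi, hχi, hχiχ, hχχi, hχiX⟩ := hχX.exists_inv
  rw [hXim] at hχi hχχi hχiX
  have hV : im W χ ≤ normalizerIn S Q := im_le_iff.2 fun w hw => by
    refine ⟨hχ.apply_mem hw, mem_normalizer_of_cj_le hQ.1 fun z hz => ?_⟩
    rw [← hχP] at hz ⊢
    obtain ⟨y, hy, rfl⟩ := (hχ.restrict_to le_sup_left).mem_im.1 hz
    have hWn : W ≤ Subgroup.normalizer ((im P u : Subgroup Ω) : Set Ω) :=
      sup_le Subgroup.le_normalizer fun g hg => (hsub hg).2.1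
    rw [← hχ.map_cj hw (Subgroup.mem_sup_left hy)]
    exact apply_mem_im (cj_mem_of_normalizer (hWn hw) hy)
  have hδid : ∀ z ∈ Q, ((afun a ∘ L) ∘ χi) z = z := fun z hz => by
    rw [← hχP] at hz
    obtain ⟨y, hy, rfl⟩ := (hχ.restrict_to le_sup_left).mem_im.1 hz
    rw [Function.comp_apply, hχiχ y (Subgroup.mem_sup_left hy), hge y hy, hχe y hy]
  obtain ⟨b, hb, T, hVT, hCT, a0, ha0, hba0, hγ0⟩ := lift_id hS hF hfcQ le_sup_left
    (by rw [← hXim]; exact im_mono hXW) hV (hχi.comp (eh_le hg) hχiX) hδid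
  have hWT : ∀ w ∈ W, χ w ∈ T := fun w hw => hVT (apply_mem_im hw)
  have hTb : Mor F T (afun b ∘ a0) :=
    (e0_le ha0).comp ((mem_autGroup le_rfl).1 hb) fun x hx => ha0.apply_mem hx
  have hψ : Mor F W (afun b ∘ a0 ∘ χ) := hχ.comp hTb hWT
  obtain ⟨δi, hδi, hδiδ, -, hδiX⟩ := hγ0.exists_inv
  have hXT : Q ⊔ centralizerIn S Q ≤ T := by
    rw [← hXim]; exact (im_mono hXW).trans hVT
  have h1 := e0_invariant (hδi.comp ha0 fun z hz => hXT (hδiX z hz)) hb
  have hψX : Mor (EH F p H) (im P u ⊔ centralizerIn S (im P u)) (afun b ∘ a0 ∘ χ) := by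
    refine (hg.comp (eh_of_e0 h1) fun x hx => ?_).congr fun x hx => ?_
    · have h2 : χ x ∈ Q ⊔ centralizerIn S Q := hXim ▸ apply_mem_im hx
      have h3 := apply_mem_im (f := afun b) (apply_mem_im (f := afun b⁻¹ ∘ ((afun a ∘ L) ∘ χi)) h2)
      simp only [Function.comp_apply, hχiχ x hx] at h3 ⊢
      rwa [afun_apply_inv b (show afun a (L x) ∈ S from hg.apply_mem hx)] at h3
    · have h2 : χ x ∈ Q ⊔ centralizerIn S Q := hXim ▸ apply_mem_im hx
      have h3 := hδiδ _ h2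
      simp only [Function.comp_apply, hχiχ x hx] at h3 ⊢
      rw [h3]
  have hcen : F.IsCentric (im P u ⊔ centralizerIn S (im P u)) := centric_xc hfcP
  have hψW := eh_of_centric hS hF (H := H)
    (fun R hR a ha h => hA (mem_a0 (centric_conj hcen hR) ha h)) hψ hXW hψX
  have hPN : P ⊔ N ≤ normalizerIn S P := sup_le (le_normalizerIn hf.le) hNN
  refine ⟨(afun b ∘ a0 ∘ χ) ∘ u, (eh_of_e0 (hu.restrict_to hPN)).comp hψW fun x hx => ?_,
    fun x hx => ?_⟩
  · exact mor_sup_induction (hu.restrict_to hPN) (T := W)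
      (fun y hy => Subgroup.mem_sup_left (apply_mem_im hy))
      (fun y hy => Subgroup.mem_sup_right (Subgroup.mem_sup_right (apply_mem_im hy))) hx
  · have h2 := hχe _ (apply_mem_im (f := u) hx)
    simp only [Function.comp_apply, huiu x hx] at h2 ⊢
    rw [h2, hba0 _ (him ▸ apply_mem_im hx)]

theorem saturated_EH (hS : IsPGroup p S) (hF : F.IsSaturated p) {H : Subgroup (MulAut S)}
    (hA : A0 F p ≤ H) : (EH F p H).IsSaturated p := by
  intro P hP
  obtain ⟨u, hu, hun⟩ := to_fn hS hF hP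
  exact ⟨_, isConj_iff.2 ⟨u, eh_of_e0 (hu.restrict_to (le_normalizerIn hP)), rfl⟩,
    fullyAutomized_EH hS hF hun, receptive_EH hS hF hA hun⟩

omit [Finite S] [Fact p.Prime] in
theorem primeIndex_EH {H : Subgroup (MulAut S)} : (EH F p H).HasPrimeToPIndexIn F p := by
  refine ⟨eh_sub, fun P hP => ?_⟩
  rw [Subgroup.map_le_iff_le_comap, Subgroup.closure_le]
  rintro ⟨γ, hγ⟩ ⟨k, hk⟩
  rw [Subgroup.orderOf_mk] at hk
  exact mem_autGroup_of_mor (gen_EH P hP γ hγ ⟨k, hk⟩)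

omit [Finite S] [Fact p.Prime] in
theorem gen_of_primeIndex {D : FusionSystem S} (hD : D.HasPrimeToPIndexIn F p) : Gen F D p := by
  intro R hR α hα hk
  obtain ⟨k, hk⟩ := hk
  exact (mem_autGroup hR).1 (hD.2 R hR
    ⟨⟨α, hα⟩, Subgroup.subset_closure ⟨k, by rw [Subgroup.orderOf_mk, hk]⟩, rfl⟩)

theorem mor_EH_le (hS : IsPGroup p S) (hF : F.IsSaturated p) {D : FusionSystem S}
    (hDs : D.IsSaturated p) (hD : D.HasPrimeToPIndexIn F p) {P : Subgroup Ω} {f : Ω → Ω}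
    (h : Mor (EH F p (A0 F p)) P f) : Mor D P f := by
  obtain ⟨a, ha, -, e, he, hfe⟩ := mor_EH.1 h
  have hgen := gen_of_primeIndex hD
  have hA : A0 F p ≤ D.autGroup S := by
    refine (Subgroup.closure_le _).2 fun b hb => ?_
    obtain ⟨hb, R, hR, hbR⟩ := hb
    exact mem_autGroup_of_mor (mor_sub_of_centric hS hF hDs (fun Q => hD.1 Q)
      ((mem_autGroup le_rfl).1 hb) _ le_rfl hR.1 hR (e0_min hgen hbR))
  exact ((e0_min hgen he).comp ((mem_autGroup le_rfl).1 (hA ha)) fun x hx => he.apply_mem hx).congr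
    fun x hx => (hfe x hx).symm

theorem isPPrimeResidual_EH (hS : IsPGroup p S) (hF : F.IsSaturated p) :
    F.IsPPrimeResidual p (EH F p (A0 F p)) :=
  ⟨saturated_EH hS hF le_rfl, primeIndex_EH, fun _ hDs hD _ φ hφ =>
    (mor_iff_hom fun x => (toFun_coe φ x).symm).1 (mor_EH_le hS hF hDs hD (mor_toFun hφ))⟩

end Cfsg.Agent.FusionPrimeIndex88
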