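import Mathlib
import Cfsg.Agent.Lib.FusionPrimeIndex88
import Cfsg.Agent.Lib.FusionIso88

/-!
Weakly normal subsystems over one subgroup `T`: all of them contain the subsystem of index prime to
`p` of each of them.
-/

set_option autoImplicit false

namespace Cfsg.Agent.FusionWeaklyNormal88

open Cfsg Cfsg.FusionSystem Cfsg.Agent.FusionSysBasic Cfsg.Agent.FusionSysSaturated
open Cfsg.Agent.FusionKit88 Cfsg.Agent.FusionPrimeIndex88 Cfsg.Agent.FusCentric
open Cfsg.Agent.FusionSysNormal (afun_map_mul)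

variable {Ω : Type*} [Group Ω] {S T : Subgroup Ω} {F : FusionSystem S} {E D : FusionSystem T}
  {p : ℕ}

theorem inv_closed (h : E.IsInvariantIn F) : F.StronglyClosed T := h.2.1

theorem inv_mor (h : E.IsInvariantIn F) {P : Subgroup Ω} {f : Ω → Ω} (hf : Mor E P f)
    {a : MulAut T} (ha : a ∈ F.autGroup T) :
    Mor E (im P (afun a)) (afun a ∘ f ∘ afun a⁻¹) := by
  obtain ⟨-, -, hi, -⟩ := FusionIso88.invariant_iff.1 h
  obtain ⟨f', hf', he⟩ := hi P f hf a ha
  refine hf'.congr fun y hy => ?_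
  have hm := ((mem_autGroup (sub_le h.1)).1 ha).restrict_to hf.le
  obtain ⟨x, hx, rfl⟩ := hm.mem_im.1 hy
  simp only [Function.comp_apply, afun_inv_apply a (hf.le hx), he x hx]

theorem inv_factor (h : E.IsInvariantIn F) {P : Subgroup Ω} (hP : P ≤ T) {f : Ω → Ω}
    (hf : Mor F P f) :
    ∃ a ∈ F.autGroup T, ∃ e, Mor E P e ∧ ∀ x ∈ P, f x = afun a (e x) := by
  obtain ⟨-, -, -, hf'⟩ := FusionIso88.invariant_iff.1 h
  exact hf' P f hP hf

/-- The automizers of an invariant subsystem are carried to each other by the maps of `F`. -/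
theorem aut_transport (h : E.IsInvariantIn F) {P Q : Subgroup Ω} (hP : P ≤ T) {φ : Ω → Ω}
    (hφ : Mor F P φ) (him : im P φ = Q) {m : MulAut P} (hm : m ∈ E.autGroup P) :
    hφ.transport him m ∈ E.autGroup Q := by
  obtain ⟨a, ha, e, he, hfe⟩ := inv_factor h hP hφ
  obtain ⟨ei, hei, heie, -, heiP⟩ := he.exists_inv
  have h1 := (hei.comp ((mem_autGroup hP).1 hm) heiP).comp he fun y hy => afun_mem m (heiP y hy)
  have h2 := inv_mor h h1 ha
  have e2 : im (im P e) (afun a) = Q := by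
    rw [he.im_comp, ← him]
    exact im_congr fun x hx => (hfe x hx).symm
  rw [e2] at h2
  refine mem_autGroup_of_mor (h2.congr fun y hy => ?_)
  obtain ⟨x, hx, rfl⟩ := hφ.mem_im.1 (him.symm ▸ hy)
  rw [hφ.afun_transport him m hx, hfe x hx, hfe _ (afun_mem m hx)]
  simp only [Function.comp_apply, afun_inv_apply a (he.apply_mem hx), heie x hx]

theorem centric_image (h : E.IsInvariantIn F) {P : Subgroup Ω} (hP : E.IsCentric P)
    {f : Ω → Ω} (hf : Mor F P f) : E.IsCentric (im P f) := by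
  obtain ⟨a, ha, e, he, hfe⟩ := inv_factor h hP.1 hf
  refine ⟨im_le_iff.2 fun x hx => hfe x hx ▸ afun_mem a (he.apply_mem hx), fun R hR c hc => ?_⟩
  obtain ⟨g, hg, rfl⟩ := FusionSysBasic.isConj_iff.1 hR
  have ham := (mem_autGroup (sub_le h.1)).1 (inv_mem ha)
  have h1 := inv_mor h hg (inv_mem ha)
  have e1 : im (im P f) (afun a⁻¹) = im P e := by
    rw [hf.im_comp]
    exact im_congr fun x hx => by
      rw [Function.comp_apply, hfe x hx, afun_inv_apply a (he.apply_mem hx)]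
  rw [e1] at h1
  have h2 := (centric_conj hP (FusionSysBasic.isConj_iff.2 ⟨e, he, rfl⟩)).2 _
    (FusionSysBasic.isConj_iff.2 ⟨_, h1, rfl⟩)
  rw [mem_centralizerIn] at hc
  have h3 : afun a⁻¹ c ∈ centralizerIn T
      (im (im P e) (afun a⁻¹ ∘ g ∘ afun a⁻¹⁻¹)) := by
    refine mem_centralizerIn.2 ⟨afun_mem _ hc.1, fun y hy => ?_⟩
    obtain ⟨x, hx, rfl⟩ := h1.mem_im.1 hy
    obtain ⟨x', hx', rfl⟩ := he.mem_im.1 hx
    have hy' : afun a⁻¹⁻¹ (e x') ∈ im P f := by
      rw [inv_inv, ← hfe x' hx']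
      exact apply_mem_im hx'
    simp only [Function.comp_apply]
    rw [← ham.map_cj hc.1 (hg.apply_mem hy'), hc.2 _ (apply_mem_im hy')]
  obtain ⟨x, hx, hxc⟩ := h1.mem_im.1 (h2 h3)
  obtain ⟨x', hx', rfl⟩ := he.mem_im.1 hx
  have hy' : afun a⁻¹⁻¹ (e x') ∈ im P f := by
    rw [inv_inv, ← hfe x' hx']
    exact apply_mem_im hx'
  simp only [Function.comp_apply] at hxc
  have h4 := congrArg (afun a) hxc
  rw [afun_apply_inv a (hg.apply_mem hy'), afun_apply_inv a hc.1] at h4
  exact h4 ▸ apply_mem_im hy'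

/-- A centric subgroup of one invariant subsystem is centric in any subsystem over `T`. -/
theorem centric_other (h : E.IsInvariantIn F) (hD : D.IsSubsystemOf F) {P : Subgroup Ω}
    (hP : E.IsCentric P) : D.IsCentric P := by
  refine ⟨hP.1, fun R hR => ?_⟩
  obtain ⟨g, hg, rfl⟩ := FusionSysBasic.isConj_iff.1 hR
  exact (centric_image h hP (sub_mor hD hg)).2 _ (FusionSysBasic.isConj_refl hg.im_le)

/-- The image of an element normalizing `Q` normalizes the image of `Q`. -/
theorem apply_normalizes [Finite S] {N Q : Subgroup Ω} {f : Ω → Ω} (hf : Mor F N f) (hQ : Q ≤ N)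
    {n : Ω} (hn : n ∈ N) (hnQ : n ∈ Subgroup.normalizer (Q : Set Ω)) :
    f n ∈ Subgroup.normalizer ((im Q f : Subgroup Ω) : Set Ω) := by
  refine mem_normalizer_of_cj_le (hf.restrict_to hQ).im_le fun y hy => ?_
  obtain ⟨x, hx, rfl⟩ := (hf.restrict_to hQ).mem_im.1 hy
  rw [← hf.map_cj hn (hQ hx)]
  exact apply_mem_im (cj_mem_of_normalizer hnQ hx)

/-- An automorphism of `N` that fixes a self-centralizing normal subgroup pointwise has order
dividing `|S|`. -/
theorem pow_card_eq_one_of_fixes {N Q C : Subgroup Ω} (hNS : N ≤ S) [Finite S] (hQN : Q ≤ N)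
    (hn : N ≤ Subgroup.normalizer (Q : Set Ω)) (hCQ : centralizerIn C Q ≤ Q) (hNC : N ≤ C)
    {δ : MulAut N} (hδ : ∀ x ∈ Q, afun δ x = x) : δ ^ Nat.card S = 1 := by
  refine afun_ext fun n hnN => ?_
  have hmul : ∀ x ∈ N, ∀ y ∈ N, afun δ (x * y) = afun δ x * afun δ y := fun x hx y hy =>
    afun_map_mul δ hx hy
  have hc : n⁻¹ * afun δ n ∈ Q := by
    refine hCQ (mem_centralizerIn.2 ⟨hNC (N.mul_mem (N.inv_mem hnN) (afun_mem δ hnN)),
      fun x hx => ?_⟩)
    have hx' : cj n x ∈ Q := cj_mem_of_normalizer (hn hnN) hx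
    have hm : Mor (innerFusionSystem S) N (fun y => y) := mor_id hNS
    have e1 : afun δ (cj n x) = cj (afun δ n) x := by
      rw [cj_apply, hmul _ (N.mul_mem hnN (hQN hx)) _ (N.inv_mem hnN), hmul _ hnN _ (hQN hx),
        hδ x hx, show afun δ n⁻¹ = (afun δ n)⁻¹ from eq_inv_of_mul_eq_one_left (by
          rw [← hmul _ (N.inv_mem hnN) _ hnN, inv_mul_cancel, hδ 1 Q.one_mem]), cj_apply]
    rw [← cj_cj, ← e1, hδ _ hx', cj_inv_cj]
  set c := n⁻¹ * afun δ n with hcdef
  have hk : ∀ k : ℕ, afun (δ ^ k) n = n * c ^ k := by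
    intro k
    induction k with
    | zero => simp [afun_one hnN]
    | succ k ih =>
      have hck : c ^ k ∈ Q := Q.pow_mem hc k
      rw [pow_succ', afun_mul _ _ hnN, ih, hmul _ hnN _ (hQN hck), hδ _ hck,
        show afun δ n = n * c by rw [hcdef, mul_inv_cancel_left], pow_succ', mul_assoc]
  rw [hk, afun_one hnN]
  have h1 : c ^ Nat.card S = 1 := congrArg Subtype.val
    (pow_card_eq_one' (x := (⟨c, hNS (hQN hc)⟩ : S)))
  rw [h1, mul_one]

variable [Fact p.Prime]

theorem mem_of_coprime_pow {G : Type*} [Group G] {H : Subgroup G} {a : G} {m n : ℕ}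
    (hmn : m.Coprime n) (hm : a ^ m ∈ H) (hn : a ^ n ∈ H) : a ∈ H := by
  have e : a = (a ^ m) ^ m.gcdA n * (a ^ n) ^ m.gcdB n := by
    rw [← zpow_natCast, ← zpow_natCast a n, ← zpow_mul, ← zpow_mul, ← zpow_add,
      ← Nat.gcd_eq_gcd_ab, Nat.coprime_iff_gcd_eq_one.1 hmn]
    simp
  rw [e]
  exact mul_mem (zpow_mem hm _) (zpow_mem hn _)

variable [Finite S]

theorem exists_pow_eq_one (hS : IsPGroup p S) {G : Type*} [Monoid G] {δ : G}
    (h : δ ^ Nat.card S = 1) : ∃ i, δ ^ p ^ i = 1 := by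
  obtain ⟨j, hj⟩ := IsPGroup.iff_card.1 hS
  exact ⟨j, hj ▸ h⟩

/-- Automorphisms of `p`-power order in an invariant saturated subsystem lie in every invariant
subsystem over the same subgroup. -/
theorem gen_other (hS : IsPGroup p S) (hEs : E.IsSaturated p) (hE : E.IsInvariantIn F)
    (hD : D.IsInvariantIn F) : Gen E D p := by
  intro R hR α hα hk
  have hTS := sub_le hE.1
  have := finite_of_le hTS
  obtain ⟨Q, hRQ, hQ⟩ := exists_fullyNormalized (F := E) hR
  obtain ⟨φ, hφ, hφQ⟩ := FusionSysBasic.isConj_iff.1 hRQ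
  have := finite_autGroup (F := E) Q
  obtain ⟨k, hk⟩ := hk
  obtain ⟨a, ha, haR⟩ := sylIn_absorb
    (K := (Subgroup.zpowers α).map (hφ.transport hφQ).toMonoidHom)
    (fullyAutomized_of_fullyNormalized (hS.to_le hTS) hEs hQ).2
    ((IsPGroup.of_card (n := k) (by rw [Nat.card_zpowers, hk])).map _)
    (hφ.map_transport hφQ ▸ Subgroup.map_mono (Subgroup.zpowers_le.2 hα))
  have hσ := haR _ ⟨α, Subgroup.mem_zpowers α, rfl⟩
  have hψ : Mor F R (afun a ∘ φ) := sub_mor hE.1
    (hφ.comp ((mem_autGroup hQ.1).1 ha) fun x hx => hφQ ▸ apply_mem_im hx)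
  have hψQ : im R (afun a ∘ φ) = Q := by rw [← hφ.im_comp, hφQ, im_afun]
  obtain ⟨ψi, hψi, hψiψ, -, -⟩ := hψ.exists_inv
  rw [hψQ] at hψi
  have hψiR : im Q ψi = R := by
    conv_lhs => rw [← hψQ]
    rw [hψ.im_comp]
    exact (im_congr hψiψ).trans (im_id R)
  have h1 := aut_transport hD hQ.1 hψi hψiR (autInducedBy_le (F := D) hQ.1 hσ)
  refine ((mem_autGroup hR).1 h1).congr fun x hx => ?_
  have hxQ : φ x ∈ Q := hφQ ▸ apply_mem_im hx
  conv_lhs => rw [← hψiψ x hx]
  rw [hψi.afun_transport hψiR _ (show (afun a ∘ φ) x ∈ Q from afun_mem a hxQ)]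
  simp only [Function.comp_apply, MulEquiv.coe_toMonoidHom]
  rw [afun_mul _ _ (afun_mem a hxQ), afun_inv_apply a hxQ, afun_mul _ _ hxQ,
    hφ.afun_transport hφQ α hx]
  exact hψiψ _ (afun_mem α hx)

/-- An element of `Aut_F(T)` that lies in `D` on a subgroup centric in `E` has a `p`-power in
`Aut_D(T)`. -/
theorem pow_mem_of_centric (hS : IsPGroup p S) (hEs : E.IsSaturated p) (hE : E.IsInvariantIn F)
    (hDs : D.IsSaturated p) (hD : D.IsInvariantIn F) :
    ∀ (n : ℕ) {Q : Subgroup Ω} {a : MulAut T}, Nat.card T - Nat.card Q ≤ n → E.IsCentric Q →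
      a ∈ F.autGroup T → Mor D Q (afun a) → ∃ i, a ^ p ^ i ∈ D.autGroup T := by
  have hTS := sub_le hE.1
  have := finite_of_le hTS
  intro n
  induction n with
  | zero =>
    intro Q a hn hQ _ h
    obtain rfl := eq_of_le_of_card_ge le_rfl hQ.1 (by omega)
    exact ⟨0, by simpa using mem_autGroup_of_mor h⟩
  | succ n ih =>
    intro Q a hn hQ ha h
    rcases eq_or_lt_of_le hQ.1 with rfl | hlt
    · exact ⟨0, by simpa using mem_autGroup_of_mor h⟩
    set N := normalizerIn T Q with hN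
    have hQN : Q < N := lt_normalizerIn (hS.to_le hTS) hlt le_rfl
    have ham : Mor F T (afun a) := (mem_autGroup hTS).1 ha
    have hrec := (receptive_iff.1 (receptive_of_fullyCentralized (hS.to_le hTS) hDs
      (fullyCentralized_of_centric (centric_conj (centric_other hE hD.1 hQ)
        (FusionSysBasic.isConj_iff.2 ⟨_, h, rfl⟩))))).2
    obtain ⟨f', hf', hag⟩ := hrec Q (afun a) N h rfl inf_le_left inf_le_right fun g hg =>
      ⟨afun a g, afun_mem a hg.1, fun x hx => ham.map_cj hg.1 (hQ.1 hx)⟩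
    rw [sup_eq_right.2 hQN.le] at hf'
    have hf'N : ∀ x ∈ N, afun a⁻¹ (f' x) ∈ N := fun x hx => by
      refine ⟨afun_mem _ (hf'.apply_mem hx), ?_⟩
      have h2 : Mor F N (afun a⁻¹ ∘ f') := (sub_mor hD.1 hf').comp
        ((mem_autGroup hTS).1 (inv_mem ha)) fun y hy => hf'.apply_mem hy
      have h3 := apply_normalizes h2 hQN.le hx hx.2
      rwa [(im_congr fun y hy => by
        rw [Function.comp_apply, hag y hy, afun_inv_apply a (hQ.1 hy)]).trans (im_id Q)] at h3
    have hεm : Mor F N (afun a⁻¹ ∘ f') :=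
      (sub_mor hD.1 hf').comp ((mem_autGroup hTS).1 (inv_mem ha)) fun y hy => hf'.apply_mem hy
    obtain ⟨ε, hε, hεe⟩ := hεm.exists_aut (hεm.im_self fun x hx => hf'N x hx)
    have hfix : ∀ x ∈ Q, afun ε⁻¹ x = x := fun x hx => by
      have h2 : afun ε x = x := by
        rw [hεe x (hQN.le hx), Function.comp_apply, hag x hx, afun_inv_apply a (hQ.1 hx)]
      conv_lhs => rw [← h2]
      exact afun_inv_apply ε (hQN.le hx)
    obtain ⟨i, hi⟩ := exists_pow_eq_one hS (pow_card_eq_one_of_fixes (inf_le_left.trans hTS)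
      hQN.le inf_le_right (hQ.2 Q (FusionSysBasic.isConj_refl hQ.1)) inf_le_left hfix)
    have hstep : ∀ k : ℕ, ∃ d, Mor D N d ∧
        ∀ x ∈ N, afun (a ^ k) x = d (afun (ε⁻¹ ^ k) x) := by
      intro k
      induction k with
      | zero => exact ⟨fun x => x, mor_id inf_le_left, fun x hx => by
          simp [afun_one hx, afun_one (show x ∈ T from hx.1)]⟩
      | succ k ihk =>
        obtain ⟨d, hd, hde⟩ := ihk
        have hval : ∀ y ∈ N, f' y = afun a (afun ε y) := fun y hy => by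
          rw [hεe y hy, Function.comp_apply, afun_apply_inv a (hf'.apply_mem hy)]
        have hmem : ∀ y ∈ N, f' y ∈ im N (afun a) := fun y hy => by
          rw [hval y hy]; exact apply_mem_im (afun_mem ε hy)
        refine ⟨_, hf'.comp (inv_mor hD hd ha) hmem, fun x hx => ?_⟩
        have hy := afun_mem (ε⁻¹ ^ k) hx
        rw [pow_succ', afun_mul _ _ hx.1, hde x hx, pow_succ', afun_mul _ _ hx,
          Function.comp_apply, Function.comp_apply, Function.comp_apply,
          hval _ (afun_mem ε⁻¹ hy), afun_apply_inv ε hy, afun_inv_apply a hy.1]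
    obtain ⟨d, hd, hde⟩ := hstep (p ^ i)
    have hmor : Mor D N (afun (a ^ p ^ i)) := hd.congr fun x hx => by
      rw [hde x hx]
      refine congrArg d (Eq.trans ?_ (congrArg (fun β => afun β x) hi).symm)
      exact (afun_one hx).symm
    obtain ⟨j, hj⟩ := ih (Q := N) (a := a ^ p ^ i) (by
      have : Finite N := finite_of_le (inf_le_left.trans hTS : normalizerIn T Q ≤ S)
      have : Nat.card Q < Nat.card N := lt_of_le_of_ne (Subgroup.card_le_of_le hQN.le)
        fun e => hQN.ne (Subgroup.eq_of_le_of_card_ge hQN.le e.ge)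
      omega) (centric_upward hQ hQN.le inf_le_left) (pow_mem ha _) hmor
    exact ⟨i + j, by rwa [pow_add, pow_mul]⟩

/-- An element of `Aut_E(T)` with a `p`-power in a subgroup containing the `p`-elements of
`Aut_E(T)` lies in it. -/
theorem mem_of_pow_mem (hTS : T ≤ S) {H : Subgroup (MulAut T)}
    (hp : ∀ b ∈ E.autGroup T, (∃ k, orderOf b = p ^ k) → b ∈ H) {a : MulAut T}
    (ha : a ∈ E.autGroup T) {i : ℕ} (h : a ^ p ^ i ∈ H) : a ∈ H := by
  have := finite_of_le hTS
  obtain ⟨e, m, hm, hem⟩ := Nat.exists_eq_pow_mul_and_not_dvd (orderOf_pos a).ne' p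
    (Fact.out : p.Prime).ne_one
  have hb : a ^ m ∈ H := by
    refine hp _ (pow_mem ha _) ?_
    obtain ⟨k, -, hk⟩ := (Nat.dvd_prime_pow (Fact.out : p.Prime)).1
      (orderOf_dvd_of_pow_eq_one (show (a ^ m) ^ p ^ e = 1 by
        rw [← pow_mul, mul_comm, ← hem, pow_orderOf_eq_one]))
    exact ⟨k, hk⟩
  exact mem_of_coprime_pow
    (((Fact.out : p.Prime).coprime_iff_not_dvd.2 hm).symm.pow_right i) hb h

/-- The subsystem of index prime to `p` of a weakly normal subsystem lies in every weakly normal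
subsystem over the same subgroup. -/
theorem residual_le (hS : IsPGroup p S) (hE : E.IsWeaklyNormalIn F p)
    (hD : D.IsWeaklyNormalIn F p) {P : Subgroup Ω} {f : Ω → Ω}
    (h : Mor (EH E p (A0 E p)) P f) : Mor D P f := by
  have hgen : Gen E D p := gen_other hS hE.1 hE.2.2 hD.2.2
  obtain ⟨a, ha, -, e, he, hfe⟩ := mor_EH.1 h
  have hA : A0 E p ≤ D.autGroup T := by
    refine (Subgroup.closure_le _).2 fun b hb => ?_
    obtain ⟨hb, R, hR, hbR⟩ := hb
    have hTS := sub_le hE.2.2.1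
    have hbF : b ∈ F.autGroup T :=
      mem_autGroup_of_mor (sub_mor hE.2.2.1 ((mem_autGroup le_rfl).1 hb))
    obtain ⟨i, hi⟩ := pow_mem_of_centric hS hE.1 hE.2.2 hD.1 hD.2.2 _ le_rfl hR hbF
      (e0_min hgen hbR)
    exact mem_of_pow_mem hTS
      (fun c hc hk => mem_autGroup_of_mor (hgen T le_rfl c hc hk)) hb hi
  exact ((e0_min hgen he).comp ((mem_autGroup le_rfl).1 (hA ha)) fun x hx => he.apply_mem hx).congr
    fun x hx => (hfe x hx).symm

end Cfsg.Agent.FusionWeaklyNormal88
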