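import Cfsg.Agent.Lib.FusionGoodLift
import Cfsg.Agent.Lib.FusionFocal
import Cfsg.Agent.Lib.FusionWeaklyNormal88
import Cfsg.Agent.Lib.FusionFrattini88
import Cfsg.Agent.Lib.FusionWeakAlperin
import Cfsg.Agent.Lib.SylowCount

/-!
The centralizer `C_S(E)` of a normal subsystem `E` over `T` (Aschbacher; proof by lifts).

`cs F E p` is the set of elements of `C_S(T)` fixed by all lifts of automorphisms of order prime to
`p` of subgroups of `T` (read through maps defined on `P C_S(T)`). It is the largest `X ≤ C_S(T)`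
centralized by `E` (`valid_cs`, `valid_le_cs`), every map of `F` agrees on it with a map normalizing
`T` (`csExt_of_mor`), so it is strongly closed (`stronglyClosed_cs`), and it contains the focal
subgroup of `C_F(T)` (`focal_le_cs`).
-/

set_option autoImplicit false

namespace Cfsg.Agent.FusionCentralizerSub

open Cfsg Cfsg.FusionSystem Cfsg.Agent.FusionSysBasic Cfsg.Agent.FusionSysSaturated
open Cfsg.Agent.FusionSysNormal Cfsg.Agent.FusionGoodLift Cfsg.Agent.FusionKit88

variable {Ω : Type*} [Group Ω] {S T : Subgroup Ω} {F : FusionSystem S} {E : FusionSystem T} {p : ℕ}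

/-! ### Small lemmas -/

theorem self_conj_eq [Finite S] (hT : F.StronglyClosed T) {f : Ω → Ω} (hf : Mor F T f) :
    im T f = T :=
  hf.im_self fun x hx => closed_apply hT hf le_rfl hx

theorem cent_le_cent {P : Subgroup Ω} (h : P ≤ T) : centralizerIn S T ≤ centralizerIn S P :=
  fun x hx => mem_centralizerIn.2 ⟨(mem_centralizerIn.1 hx).1,
    fun y hy => (mem_centralizerIn.1 hx).2 y (h hy)⟩

/-- The image of an element centralizing `P` centralizes the image of `P`. -/
theorem apply_cent {P N : Subgroup Ω} {f : Ω → Ω} (hf : Mor F N f) (hP : P ≤ N) {x : Ω}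
    (hx : x ∈ N) (hxP : x ∈ centralizerIn S P) : f x ∈ centralizerIn S (im P f) := by
  refine mem_centralizerIn.2 ⟨hf.apply_mem hx, fun y hy => ?_⟩
  obtain ⟨z, hz, rfl⟩ := (hf.restrict_to hP).mem_im.1 hy
  rw [← hf.map_cj hx (hP hz), (mem_centralizerIn.1 hxP).2 z hz]

/-- Conjugation by an element of `T` fixes `C_S(T)`. -/
theorem cj_eq_self {t x : Ω} (ht : t ∈ T) (hx : x ∈ centralizerIn S T) : cj t x = x := by
  have := (mem_centralizerIn.1 hx).2 t ht
  rw [cj_apply, mul_inv_eq_iff_eq_mul] at this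
  rw [cj_apply, mul_inv_eq_iff_eq_mul]
  exact this.symm

theorem pow_restrict {R P : Subgroup Ω} (hP : P ≤ R) {m : MulAut R} {a : MulAut P}
    (h : ∀ x ∈ P, afun m x = afun a x) : ∀ (k : ℕ), ∀ x ∈ P, afun (m ^ k) x = afun (a ^ k) x := by
  intro k
  induction k with
  | zero => intro x hx; rw [pow_zero, pow_zero, afun_one hx, afun_one (hP hx)]
  | succ k ih =>
    intro x hx
    rw [pow_succ', pow_succ', afun_mul _ _ (hP hx), afun_mul _ _ hx, ih x hx,
      h _ (afun_mem _ hx)]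

/-- The automizers of an invariant subsystem are normalized by those of the system. -/
theorem conj_mem_autGroup (hI : E.IsInvariantIn F) {P : Subgroup Ω} (hP : P ≤ T) {a m : MulAut P}
    (ha : a ∈ F.autGroup P) (hm : m ∈ E.autGroup P) : a * m * a⁻¹ ∈ E.autGroup P := by
  have hφ := (mem_autGroup (hP.trans (sub_le hI.1))).1 ha
  have h1 := FusionWeaklyNormal88.aut_transport hI hP hφ (im_afun a) hm
  convert h1 using 1
  refine afun_ext fun y hy => ?_
  conv_rhs => rw [← afun_apply_inv a hy, hφ.afun_transport _ _ (afun_mem _ hy)]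
  rw [afun_mul _ _ hy, afun_mul _ _ (afun_mem _ hy)]

/-! ### Subgroups centralized by `E` -/

/-- `X ≤ C_S(T)` and every map of `E` extends to a map that fixes `X`. -/
def Valid (F : FusionSystem S) (E : FusionSystem T) (X : Subgroup Ω) : Prop :=
  X ≤ centralizerIn S T ∧ ∀ (P : Subgroup Ω) (f : Ω → Ω), Mor E P f →
    ∃ ψ, Mor F (P ⊔ X) ψ ∧ (∀ x ∈ P, ψ x = f x) ∧ ∀ x ∈ X, ψ x = x

theorem valid_iff (hEF : E.IsSubsystemOf F) {X : Subgroup Ω} :
    Valid F E X ↔
      X ≤ centralizerIn S T ∧ ∀ P : Subgroup Ω, E.Hom P ⊆ F.centralizerHom X P := by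
  refine and_congr_right fun hX => ⟨fun h P φ hφ => ?_, fun h P f hf => ?_⟩
  · have hTC : ∀ y ∈ T, y ∈ centralizerIn S X := fun y hy =>
      mem_centralizerIn.2 ⟨sub_le hEF hy, fun x hx => cj_eq_self hy (hX hx)⟩
    exact ⟨hEF P hφ, fun x hx => hTC x ((E.le_of_mem hφ).1 hx),
      fun x => hTC _ ((E.le_of_mem hφ).2 x),
      (ext_central_iff fun x => (toFun_coe φ x).symm).mpr (h P _ (mor_toFun hφ))⟩
  · obtain ⟨φ, hφ, he⟩ := hf
    exact (ext_central_iff he).mp (h P hφ).2.2.2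

theorem Valid.mono {X X' : Subgroup Ω} (h : Valid F E X) (hle : X' ≤ X) : Valid F E X' :=
  ⟨hle.trans h.1, fun P f hf => by
    obtain ⟨ψ, hψ, he, hfix⟩ := h.2 P f hf
    exact ⟨ψ, hψ.restrict_to (sup_le_sup_left hle P), he, fun x hx => hfix x (hle hx)⟩⟩

theorem Valid.image [Finite S] (hI : E.IsInvariantIn F) {X : Subgroup Ω} (h : Valid F E X)
    {g : Ω → Ω} (hg : Mor F (T ⊔ X) g) : Valid F E (im X g) := by
  have hT := hI.2.1
  have hgT : im T g = T := self_conj_eq hT (hg.restrict_to le_sup_left)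
  obtain ⟨a, ha, hae⟩ := (hg.restrict_to le_sup_left).exists_aut hgT
  refine ⟨im_le_iff.2 fun x hx => ?_, fun P f hf => ?_⟩
  · have := apply_cent hg le_sup_left (Subgroup.mem_sup_right hx) (h.1 hx)
    rwa [hgT] at this
  have hP : P ≤ T := hf.le
  obtain ⟨ψ, hψ, hψe, hψX⟩ := h.2 _ _ (FusionWeaklyNormal88.inv_mor hI hf (inv_mem ha))
  obtain ⟨gi, hgi, hgig, -, -⟩ := hg.exists_inv
  have hgiP : ∀ y ∈ P, gi y = afun a⁻¹ y := fun y hy => by
    conv_lhs => rw [← afun_apply_inv a (hP hy), hae _ (afun_mem _ (hP hy))]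
    exact hgig _ (Subgroup.mem_sup_left (afun_mem _ (hP hy)))
  have hle : P ⊔ im X g ≤ im (T ⊔ X) g :=
    sup_le ((hP.trans hgT.ge).trans (im_mono le_sup_left)) (im_mono le_sup_right)
  have hgi' := hgi.restrict_to hle
  have h1 : ∀ y ∈ P ⊔ im X g, gi y ∈ im P (afun a⁻¹) ⊔ X := fun y hy =>
    mor_sup_induction hgi'
      (fun z hz => hgiP z hz ▸ Subgroup.mem_sup_left (apply_mem_im hz))
      (fun z hz => by
        obtain ⟨x, hx, rfl⟩ := (hg.restrict_to (le_sup_right : X ≤ T ⊔ X)).mem_im.1 hz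
        rw [hgig x (Subgroup.mem_sup_right hx)]
        exact Subgroup.mem_sup_right hx) hy
  have h2 : ∀ z ∈ im P (afun a⁻¹) ⊔ X, ψ z ∈ T ⊔ X := fun z hz =>
    mor_sup_induction hψ
      (fun w hw => hψe w hw ▸ Subgroup.mem_sup_left (afun_mem _ (hf.apply_mem (by
        obtain ⟨v, hv, rfl⟩ := (((mem_autGroup hT.1).1 (inv_mem ha)).restrict_to hP).mem_im.1 hw
        rwa [afun_inv_apply _ (hP hv)]))))
      (fun w hw => (hψX w hw).symm ▸ Subgroup.mem_sup_right hw) hz
  refine ⟨g ∘ (ψ ∘ gi), (hgi'.comp hψ h1).comp hg fun y hy => h2 _ (h1 y hy),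
    fun y hy => ?_, fun y hy => ?_⟩
  · simp only [Function.comp_apply]
    rw [hgiP y hy, hψe _ (apply_mem_im hy)]
    simp only [Function.comp_apply]
    rw [afun_inv_apply _ (hP hy), ← hae _ (afun_mem _ (hf.apply_mem hy)),
      afun_apply_inv a (hf.apply_mem hy)]
  · obtain ⟨x, hx, rfl⟩ := (hg.restrict_to (le_sup_right : X ≤ T ⊔ X)).mem_im.1 hy
    simp only [Function.comp_apply]
    rw [hgig x (Subgroup.mem_sup_right hx), hψX x hx]

/-! ### The candidate -/

/-- The elements of `C_S(T)` fixed by all lifts. -/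
def cs (F : FusionSystem S) (E : FusionSystem T) (p : ℕ) : Subgroup Ω where
  carrier := {x | x ∈ centralizerIn S T ∧ ∀ (P P' : Subgroup Ω) (φ b : Ω → Ω) (a : MulAut P),
    P ≤ T → a ∈ E.autGroup P → Lift F p P' b → Mor F (P ⊔ centralizerIn S T) φ →
      im P φ = P' → (∀ y ∈ P, b (φ y) = φ (afun a y)) → b (φ x) = φ x}
  one_mem' := ⟨one_mem _, fun P P' φ b a _ _ hb hφ _ _ => by rw [hφ.map_one, hb.mor.map_one]⟩
  mul_mem' := by
    rintro x y ⟨hx, hx'⟩ ⟨hy, hy'⟩
    refine ⟨mul_mem hx hy, fun P P' φ b a hP ha hb hφ him hc => ?_⟩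
    have hm : ∀ z ∈ centralizerIn S T, φ z ∈ P' ⊔ centralizerIn S P' := fun z hz =>
      Subgroup.mem_sup_right (him ▸ apply_cent hφ le_sup_left (Subgroup.mem_sup_right hz)
        (cent_le_cent hP hz))
    rw [hφ.map_mul (Subgroup.mem_sup_right hx) (Subgroup.mem_sup_right hy),
      hb.mor.map_mul (hm x hx) (hm y hy), hx' P P' φ b a hP ha hb hφ him hc,
      hy' P P' φ b a hP ha hb hφ him hc]
  inv_mem' := by
    rintro x ⟨hx, hx'⟩
    refine ⟨inv_mem hx, fun P P' φ b a hP ha hb hφ him hc => ?_⟩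
    have hm : φ x ∈ P' ⊔ centralizerIn S P' :=
      Subgroup.mem_sup_right (him ▸ apply_cent hφ le_sup_left (Subgroup.mem_sup_right hx)
        (cent_le_cent hP hx))
    rw [hφ.map_inv (Subgroup.mem_sup_right hx), hb.mor.map_inv hm,
      hx' P P' φ b a hP ha hb hφ him hc]

theorem cs_le : cs F E p ≤ centralizerIn S T := fun _ hx => hx.1

variable [Finite S] [Fact p.Prime]

theorem mem_wGroup_of_normal (hE : E.IsNormalIn F p) {a : MulAut T} (ha : a ∈ E.autGroup T) :
    a ∈ wGroup F hE.1.2.2.2.1.1 := by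
  have hTS : T ≤ S := hE.1.2.2.2.1.1
  obtain ⟨β, hβ, he, hm⟩ := hE.2 a ha
  refine ⟨afun β, (mem_autGroup (sup_le hTS inf_le_left)).1 hβ, fun x hx => ?_, fun c hc => ?_⟩
  · rw [afun_apply a hx, afun_apply β (Subgroup.mem_sup_left hx), ← he ⟨x, hx⟩]
    rfl
  · have := (hm ⟨c, Subgroup.mem_sup_right hc⟩ hc).1
    rwa [afun_apply β (Subgroup.mem_sup_right hc)]

variable (hS : IsPGroup p S) (hF : F.IsSaturated p)

include hS in
theorem fullyNormalized_T (hI : E.IsInvariantIn F) : F.IsFullyNormalized T :=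
  FusionWeakAlperin.fullyNormalized_of_normal hI.2.1.1 (fun _ hg _ hx => cj_mem_of_stronglyClosed hI.2.1 hg hx)

include hS hF in
/-- Every subgroup centralized by `E` lies in `cs`. -/
theorem valid_le_cs (hI : E.IsInvariantIn F) {X : Subgroup Ω} (h : Valid F E X) :
    X ≤ cs F E p := by
  intro x hx
  refine ⟨h.1 hx, fun P P' φ b a hP ha hb hφ him hc => ?_⟩
  obtain ⟨ψ, hψ, hψe, hψX⟩ := h.2 P _ ((mem_autGroup hP).1 ha)
  have hxC : x ∈ centralizerIn S P := cent_le_cent hP (h.1 hx)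
  have hz : P ⊔ Subgroup.zpowers x ≤ P ⊔ centralizerIn S T :=
    sup_le_sup_left (Subgroup.zpowers_le.2 (h.1 hx)) P
  have hφ0 := hφ.restrict_to hz
  have hψ0 := hψ.restrict_to (sup_le_sup_left (Subgroup.zpowers_le.2 hx) P)
  have hψs : ∀ z ∈ P ⊔ Subgroup.zpowers x, ψ z ∈ P ⊔ Subgroup.zpowers x := fun z hz =>
    mor_sup_induction hψ0 (fun w hw => hψe w hw ▸ Subgroup.mem_sup_left (afun_mem a hw))
      (fun w hw => by rw [hψX w ((Subgroup.zpowers_le.2 hx) hw)]; exact Subgroup.mem_sup_right hw) hz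
  obtain ⟨j, hj, hjφ, -, hjP⟩ := hφ0.exists_inv
  have hxz : x ∈ P ⊔ Subgroup.zpowers x := Subgroup.mem_sup_right (Subgroup.mem_zpowers x)
  have hle : P' ⊔ Subgroup.zpowers (φ x) ≤ im (P ⊔ Subgroup.zpowers x) φ :=
    sup_le (him ▸ im_mono le_sup_left) (Subgroup.zpowers_le.2 (apply_mem_im hxz))
  refine hb.fix_of_ext hS hF (him ▸ apply_cent hφ0 le_sup_left hxz hxC)
    (ψ := φ ∘ (ψ ∘ j)) ((((hj.restrict_to hle).comp hψ0 fun y hy => hjP y (hle hy)).comp hφ0
      fun y hy => hψs _ (hjP y (hle hy)))) (fun y hy => ?_) ?_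
  · obtain ⟨w, hw, rfl⟩ := (hφ0.restrict_to le_sup_left).mem_im.1 (him.symm ▸ hy)
    simp only [Function.comp_apply]
    rw [hjφ w (Subgroup.mem_sup_left hw), hψe w hw, hc w hw]
  · simp only [Function.comp_apply]
    rw [hjφ x hxz, hψX x hx]

include hS hF in
/-- `E` centralizes `cs`. -/
theorem valid_cs (hE : E.IsNormalIn F p) : Valid F E (cs F E p) := by
  have hI := hE.1.2.2
  have hT : F.StronglyClosed T := hI.2.1
  have hTS : T ≤ S := hT.1
  haveI := finite_of_le hTS
  refine ⟨cs_le, fun P f hf => ?_⟩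
  set C := cs F E p with hC
  have hcl : FusionInduct88.Closed E (U := T) (fun P f =>
      ∃ ψ, Mor F (P ⊔ C) ψ ∧ (∀ x ∈ P, ψ x = f x) ∧ ∀ x ∈ C, ψ x = x) :=
    { congr := fun ⟨ψ, hψ, he, hC'⟩ hfg => ⟨ψ, hψ, fun x hx => (he x hx).trans (hfg x hx), hC'⟩
      conj := fun {P g} hP hg => ⟨cj g, mor_cj (sup_le (hP.trans hTS) (cs_le.trans inf_le_left))
        (hTS hg), fun _ _ => rfl, fun x hx => cj_eq_self hg (cs_le hx)⟩
      comp := fun {P Q f g} _ _ _ _ hfQ ⟨ψ, hψ, he, hC'⟩ ⟨χ, hχ, he', hC''⟩ =>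
        ⟨χ ∘ ψ, hψ.comp hχ fun y hy => mor_sup_induction hψ
          (fun z hz => he z hz ▸ Subgroup.mem_sup_left (hfQ z hz))
          (fun z hz => (hC' z hz).symm ▸ Subgroup.mem_sup_right hz) hy,
         fun x hx => by simp only [Function.comp_apply]; rw [he x hx, he' _ (hfQ x hx)],
         fun x hx => by simp only [Function.comp_apply]; rw [hC' x hx, hC'' x hx]⟩
      inv := fun {P f g} hf _ _ hgf ⟨ψ, hψ, he, hC'⟩ => by
        obtain ⟨χ, hχ, hχψ, -, -⟩ := hψ.exists_inv
        have hle : im P f ⊔ C ≤ im (P ⊔ C) ψ :=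
          sup_le ((im_congr he).ge.trans (im_mono le_sup_left))
            fun z hz => hC' z hz ▸ apply_mem_im (Subgroup.mem_sup_right hz)
        refine ⟨χ, hχ.restrict_to hle, fun y hy => ?_, fun z hz => ?_⟩
        · obtain ⟨x, hx, rfl⟩ := hf.mem_im.1 hy
          rw [hgf x hx]
          conv_lhs => rw [← he x hx]
          exact hχψ x (Subgroup.mem_sup_left hx)
        · conv_lhs => rw [← hC' z hz]
          exact hχψ z (Subgroup.mem_sup_right hz) }
  refine induction_bigger (hS.to_le hTS) hE.1.1 hcl (fun R hR hbig α hα => ?_) hf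
  have hcard : ∀ {R' : Subgroup Ω}, R < R' → R' ≤ T → Nat.card R < Nat.card R' := fun {R'} h h' => by
    haveI := finite_of_le (S := T) h'
    exact lt_of_le_of_ne (Subgroup.card_le_of_le h.le)
      fun e => h.ne (eq_of_le_of_card_ge h' h.le e.ge)
  have restrict : ∀ {R' : Subgroup Ω} {h : Ω → Ω}, R ≤ R' →
      (∃ ψ, Mor F (R' ⊔ C) ψ ∧ (∀ x ∈ R', ψ x = h x) ∧ ∀ x ∈ C, ψ x = x) →
      (∀ x ∈ R, h x = afun α x) →
      ∃ ψ, Mor F (R ⊔ C) ψ ∧ (∀ x ∈ R, ψ x = afun α x) ∧ ∀ x ∈ C, ψ x = x :=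
    fun hle ⟨ψ, hψ, he, hC'⟩ hh =>
      ⟨ψ, hψ.restrict_to (sup_le_sup_right hle C), fun x hx => (he x (hle hx)).trans (hh x hx), hC'⟩
  have hRF := sub_mor hI.1 ((mem_autGroup hR.1).1 hα)
  by_cases hcen : centralizerIn T R ≤ R
  swap
  · obtain ⟨f', hf', hfe, -⟩ := exists_extension_centralizer
      (receptive_of_fullyNormalized (hS.to_le hTS) hE.1.1 hR) ((mem_autGroup hR.1).1 hα)
      (im_afun α)
    refine restrict le_sup_left (hbig _ f' hf' (hcard ?_ hf'.le)) hfe
    exact lt_of_le_of_ne le_sup_left fun e => hcen (le_sup_right.trans e.ge)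
  have hcR : E.IsCentric R := FusionSysAlperin.centric_of_fullyCentralized
    (fullyCentralized_of_fullyNormalized (hS.to_le hTS) hE.1.1 hR) hcen
  have hRS : R ≤ S := hR.1.trans hTS
  obtain ⟨R', hRR', hR'n⟩ := exists_fullyNormalized (F := F) hRS
  obtain ⟨θ, hθ, hθN, hθR⟩ := exists_map_to_fullyNormalized hS hF hR'n hRR'
  have hR'T : R' ≤ T := hθR ▸ im_le_iff.2 fun x hx =>
    closed_apply' hT hθ (le_normalizerIn hRS hx) (hR.1 hx)
  have hR'c : centralizerIn T R' ≤ R' := by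
    rw [← hθR]
    exact FusionSysAlperin.centralizerIn_le_of_centric
      (FusionWeaklyNormal88.centric_image hI hcR (hθ.restrict_to (le_normalizerIn hRS)))
  have hθ0 : Mor F R θ := hθ.restrict_to (le_normalizerIn hRS)
  let M : Subgroup (MulAut R) :=
    (wGroup F hR'n.1 ⊓ E.autGroup R').comap (hθ0.transport hθR).toMonoidHom
  have hR'fc := fullyCentralized_of_fullyNormalized hS hF hR'n
  have hMn : ∀ a ∈ E.autGroup R, ∀ m ∈ M, m ∈ E.autGroup R → a * m * a⁻¹ ∈ M := by
    intro a ha m hm _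
    have haF : a ∈ F.autGroup R :=
      mem_autGroup_of_mor (sub_mor hI.1 ((mem_autGroup hR.1).1 ha))
    show hθ0.transport hθR (a * m * a⁻¹) ∈ wGroup F hR'n.1 ⊓ E.autGroup R'
    rw [map_mul, map_mul, map_inv]
    exact ⟨wGroup_normal hS hF hR'fc (hθ0.transport_mem hθR haF) hm.1,
      conj_mem_autGroup hI hR'T (hθ0.transport_mem hθR haF) hm.2⟩
  -- the automorphisms in `M` are fine
  suffices hM : ∀ m ∈ M, m ∈ E.autGroup R →
      ∃ ψ, Mor F (R ⊔ C) ψ ∧ (∀ x ∈ R, ψ x = afun m x) ∧ ∀ x ∈ C, ψ x = x by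
    rcases hR.1.eq_or_lt with hRT | hRT
    · refine hM α ?_ hα
      have h1 := FusionWeaklyNormal88.aut_transport hI hR.1 hθ0 hθR hα
      have e : R' = T := by
        subst hRT
        exact hθR.symm.trans (self_conj_eq hT hθ0)
      subst e
      exact ⟨mem_wGroup_of_normal hE h1, h1⟩
    have hN : normalizerIn T R ≤ normalizerIn T R := le_rfl
    have hNM : ∀ (g : Ω) (hg : g ∈ normalizerIn T R), nHom T R ⟨g, hN hg⟩ ∈ M := by
      intro g hg
      have hgS : g ∈ normalizerIn S R := ⟨hTS hg.1, hg.2⟩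
      have ht : θ g ∈ T := closed_apply' hT hθ hgS hg.1
      have htn := (hθN g hgS).2
      have he : ∀ y ∈ R', afun (hθ0.transport hθR (nHom T R ⟨g, hN hg⟩)) y = cj (θ g) y := by
        intro y hy
        obtain ⟨x, hx, rfl⟩ := hθ0.mem_im.1 (hθR.symm ▸ hy)
        rw [hθ0.afun_transport hθR _ hx, afun_nHom _ hx, hθ.map_cj hgS (le_normalizerIn hRS hx)]
      refine ⟨mem_wGroup_of_cj hR'n.1 (hTS ht) he fun c hc => hR'c ?_,
        mem_autGroup_of_mor ((mor_cj hR'T ht).congr fun y hy => (he y hy).symm)⟩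
      have hcS := (mem_centralizerIn.1 hc).1
      have h2 : cj (θ g) c ∈ centralizerIn S R' := by
        refine mem_centralizerIn.2 ⟨cj_mem_S (hTS ht) hcS, fun y hy => ?_⟩
        have := (mem_centralizerIn.1 hc).2 _
          (cj_mem_of_normalizer (Subgroup.inv_mem _ htn) hy)
        calc cj (cj (θ g) c) y = cj (θ g) (cj c (cj (θ g)⁻¹ y)) := by simp [cj_apply, mul_assoc]
          _ = y := by rw [this, cj_cj_inv]
      refine mem_centralizerIn.2 ⟨?_, (mem_centralizerIn.1 (mul_mem (inv_mem hc) h2)).2⟩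
      have := T.mul_mem (FusionSysNormal.cj_mem_of_stronglyClosed hT (S.inv_mem hcS) ht)
        (T.inv_mem ht)
      simpa [cj_apply, mul_assoc] using this
    obtain ⟨β, hβ, m, hm, hmE, hαe, f', hf', hfe⟩ :=
      FusionFrattini88.frattini_ext (hS.to_le hTS) hE.1.1 hR M hMn hN hNM hα
    have hlt : R < R ⊔ normalizerIn T R := by
      obtain ⟨g, hgT, hgR, hgn⟩ := FusionSysAlperin.lt_normalizerIn (hS.to_le hTS) le_rfl hRT
      exact lt_of_le_of_ne le_sup_left fun e => hgR (e.ge (Subgroup.mem_sup_right ⟨hgT, hgn⟩))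
    obtain ⟨ψ₁, hψ₁, hψ₁e, hψ₁C⟩ := hbig _ f' hf' (hcard hlt hf'.le)
    obtain ⟨ψ₂, hψ₂, hψ₂e, hψ₂C⟩ := hM m hm hmE
    refine ⟨ψ₁ ∘ ψ₂, hψ₂.comp (hψ₁.restrict_to (sup_le_sup_right le_sup_left C))
      fun y hy => mor_sup_induction hψ₂
        (fun z hz => hψ₂e z hz ▸ Subgroup.mem_sup_left (afun_mem m hz))
        (fun z hz => (hψ₂C z hz).symm ▸ Subgroup.mem_sup_right hz) hy,
      fun x hx => ?_, fun x hx => ?_⟩
    · simp only [Function.comp_apply]
      rw [hψ₂e x hx, hψ₁e _ (Subgroup.mem_sup_left (afun_mem m hx)), hfe _ (afun_mem m hx), hαe,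
        afun_mul _ _ hx]
    · simp only [Function.comp_apply]
      rw [hψ₂C x hx, hψ₁C x hx]
  -- a Sylow subgroup of `M` together with the elements of order prime to `p`
  intro m hm hmE
  haveI := finite_autGroup (F := E) R
  let A := E.autGroup R
  let Φs := FusionInduct88.subSystem le_rfl hcl
  have hgen : ∀ {k : MulAut R}, k ∈ A →
      (∃ ψ, Mor F (R ⊔ C) ψ ∧ (∀ x ∈ R, ψ x = afun k x) ∧ ∀ x ∈ C, ψ x = x) →
      k ∈ Φs.autGroup R := fun {k} hk h => by
    have := (mem_autGroup hR.1).1 hk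
    exact mem_autGroup_of_mor
      (FusionInduct88.mor_subSystem.2 ⟨this, hR.1, fun x hx => this.apply_mem hx, h⟩)
  haveI hKn : (M.subgroupOf A).Normal := ⟨fun k hk a => hMn a.1 a.2 k.1 hk k.2⟩
  obtain ⟨-, T0, hT0⟩ := fullyAutomized_of_fullyNormalized (hS.to_le hTS) hE.1.1 hR
  have htop : (⊤ : Subgroup (M.subgroupOf A)) ≤
      (Φs.autGroup R).comap (A.subtype.comp (M.subgroupOf A).subtype) := by
    rw [← TransferPResidual.sylow_sup_pResidual (SylowCount.infSylow T0 (M.subgroupOf A))]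
    refine sup_le (fun k hk => ?_) ?_
    · have hk1 : (k : A) ∈ (T0 : Subgroup A) := hk.1
      rw [hT0, Subgroup.mem_subgroupOf] at hk1
      obtain ⟨g, hg, -, hge⟩ := mem_autInducedBy.1 hk1
      refine hgen k.1.2 ?_
      obtain ⟨ψ, hψ, he, hC'⟩ := hcl.conj hR.1 hg
      exact ⟨ψ, hψ, fun x hx => (he x hx).trans (hge x hx).symm, hC'⟩
    · rw [TransferPResidual.pResidual_le_iff_coprime]
      intro k hk
      refine hgen k.1.2 ?_
      set n : MulAut R := ((k : A) : MulAut R) with hn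
      have hnM : n ∈ M := k.2
      have hnE : n ∈ E.autGroup R := k.1.2
      have hco : (orderOf (hθ0.transport hθR n)).Coprime p := by
        rw [MulEquiv.orderOf_eq, hn, Subgroup.orderOf_coe, Subgroup.orderOf_coe]
        exact hk
      obtain ⟨b, hb, hbe⟩ := exists_lift hR'fc (show hθ0.transport hθR n ∈ wGroup F hR'n.1 from hnM.1) hco
      have hle : R ⊔ centralizerIn S T ≤ normalizerIn S R :=
        sup_le (le_normalizerIn hRS) ((cent_le_cent hR.1).trans centralizerIn_le_normalizerIn)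
      have hθC := hθ.restrict_to hle
      have hbθ : ∀ y ∈ R, b (θ y) = θ (afun n y) := fun y hy => by
        rw [hbe _ (hθR ▸ apply_mem_im hy), hθ0.afun_transport hθR n hy]
      have hCfix : ∀ x ∈ C, b (θ x) = θ x := fun x hx =>
        hx.2 R R' θ b n hR.1 hnE hb hθC hθR hbθ
      have hRC : R ⊔ C ≤ R ⊔ centralizerIn S T := sup_le_sup_left cs_le R
      have hθRC := hθC.restrict_to hRC
      obtain ⟨j, hj, hjθ, -, -⟩ := hθRC.exists_inv
      have hin : ∀ y ∈ R ⊔ C, θ y ∈ R' ⊔ centralizerIn S R' := fun y hy =>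
        mor_sup_induction hθRC
          (fun z hz => Subgroup.mem_sup_left (hθR ▸ apply_mem_im hz))
          (fun z hz => Subgroup.mem_sup_right (hθR ▸ apply_cent hθC le_sup_left
            (Subgroup.mem_sup_right (cs_le hz)) (cent_le_cent hR.1 (cs_le hz)))) hy
      have hbθm : Mor F (R ⊔ C) (b ∘ θ) := hθRC.comp hb.mor hin
      refine ⟨j ∘ (b ∘ θ), hbθm.comp hj fun y hy => mor_sup_induction hbθm
        (fun z hz => by
          simp only [Function.comp_apply]
          rw [hbθ z hz]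
          exact apply_mem_im (Subgroup.mem_sup_left (afun_mem n hz)))
        (fun z hz => by
          simp only [Function.comp_apply]
          rw [hCfix z hz]
          exact apply_mem_im (Subgroup.mem_sup_right hz)) hy,
        fun x hx => ?_, fun x hx => ?_⟩
      · simp only [Function.comp_apply]
        rw [hbθ x hx, hjθ _ (Subgroup.mem_sup_left (afun_mem n hx))]
        rfl
      · simp only [Function.comp_apply]
        rw [hCfix x hx, hjθ _ (Subgroup.mem_sup_right hx)]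
  have := htop (x := ⟨⟨m, hmE⟩, hm⟩) trivial
  exact (FusionInduct88.mor_subSystem.1 ((mem_autGroup hR.1).1 this)).2.2.2

include hS hF in
theorem image_le_cs (hE : E.IsNormalIn F p) {X : Subgroup Ω} (hX : X ≤ cs F E p) {g : Ω → Ω}
    (hg : Mor F (T ⊔ X) g) : im X g ≤ cs F E p :=
  valid_le_cs hS hF hE.1.2.2 (((valid_cs hS hF hE).mono hX).image hE.1.2.2 hg)

include hS hF in
theorem cj_mem_cs (hE : E.IsNormalIn F p) {g x : Ω} (hg : g ∈ S) (hx : x ∈ cs F E p) :
    cj g x ∈ cs F E p :=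
  image_le_cs hS hF hE le_rfl
    (mor_cj (sup_le hE.1.2.2.2.1.1 (cs_le.trans inf_le_left)) hg) (apply_mem_im hx)

/-! ### Maps on `cs` -/

/-- The map preserves `cs` in both directions and agrees there with a map defined on `T`. -/
def CsExt (F : FusionSystem S) (E : FusionSystem T) (p : ℕ) (P : Subgroup Ω) (f : Ω → Ω) : Prop :=
  (∀ x ∈ P, x ∈ cs F E p ↔ f x ∈ cs F E p) ∧
    ∃ g, Mor F (T ⊔ P ⊓ cs F E p) g ∧ ∀ x ∈ P ⊓ cs F E p, g x = f x

omit [Finite S] [Fact p.Prime] in
theorem CsExt.restrict {P Q : Subgroup Ω} {f g : Ω → Ω} (h : CsExt F E p Q f) (hle : P ≤ Q)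
    (he : ∀ x ∈ P, f x = g x) : CsExt F E p P g := by
  obtain ⟨h1, k, hk, hke⟩ := h
  exact ⟨fun x hx => he x hx ▸ h1 x (hle hx), k,
    hk.restrict_to (sup_le_sup_left (inf_le_inf_right _ hle) T),
    fun x hx => (hke x ⟨hle hx.1, hx.2⟩).trans (he x hx.1)⟩

include hS hF in
theorem closed_csExt (hE : E.IsNormalIn F p) :
    FusionInduct88.Closed F (U := S) (CsExt F E p) where
  congr := fun h he => h.restrict le_rfl he
  conj := fun {P g} _ hg => ⟨fun x _ => ⟨cj_mem_cs hS hF hE hg, fun h => by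
      have := cj_mem_cs hS hF hE (S.inv_mem hg) h
      rwa [cj_inv_cj] at this⟩,
    cj g, mor_cj (sup_le hE.1.2.2.2.1.1 (inf_le_right.trans (cs_le.trans inf_le_left))) hg,
    fun _ _ => rfl⟩
  comp := fun {P Q f g} _ _ _ _ hfQ ⟨h1, k, hk, hke⟩ ⟨h2, l, hl, hle⟩ => by
    refine ⟨fun x hx => (h1 x hx).trans (h2 _ (hfQ x hx)), l ∘ k, hk.comp hl fun y hy =>
      mor_sup_induction hk
        (fun z hz => Subgroup.mem_sup_left
          (closed_apply' hE.1.2.2.2.1 hk (Subgroup.mem_sup_left hz) hz))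
        (fun z hz => Subgroup.mem_sup_right (by
          rw [hke z hz]; exact ⟨hfQ z hz.1, (h1 z hz.1).1 hz.2⟩)) hy, fun x hx => ?_⟩
    simp only [Function.comp_apply]
    rw [hke x hx, hle _ ⟨hfQ x hx.1, (h1 x hx.1).1 hx.2⟩]
  inv := fun {P f g} hf _ _ hgf ⟨h1, k, hk, hke⟩ => by
    obtain ⟨l, hl, hlk, -, -⟩ := hk.exists_inv
    have hle : T ⊔ im P f ⊓ cs F E p ≤ im (T ⊔ P ⊓ cs F E p) k := by
      refine sup_le ((self_conj_eq hE.1.2.2.2.1 (hk.restrict_to le_sup_left)).ge.trans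
        (im_mono le_sup_left)) ?_
      rintro y ⟨hy, hyc⟩
      obtain ⟨x, hx, rfl⟩ := hf.mem_im.1 hy
      rw [← hke x ⟨hx, (h1 x hx).2 hyc⟩]
      exact apply_mem_im (Subgroup.mem_sup_right ⟨hx, (h1 x hx).2 hyc⟩)
    refine ⟨fun y hy => ?_, l, hl.restrict_to hle, fun y hy => ?_⟩
    · obtain ⟨x, hx, rfl⟩ := hf.mem_im.1 hy
      rw [hgf x hx]
      exact (h1 x hx).symm
    · obtain ⟨x, hx, rfl⟩ := hf.mem_im.1 hy.1
      rw [hgf x hx]
      conv_lhs => rw [← hke x ⟨hx, (h1 x hx).2 hy.2⟩]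
      exact hlk x (Subgroup.mem_sup_right ⟨hx, (h1 x hx).2 hy.2⟩)

include hS hF in
/-- The main case: `R` and `R ⊓ T` fully normalized, `T` not contained in `R`. -/
theorem csExt_aut (hE : E.IsNormalIn F p) {R : Subgroup Ω} (hR : F.IsFullyNormalized R)
    (hP : F.IsFullyNormalized (R ⊓ T)) (hTR : ¬ T ≤ R)
    (hbig : ∀ Q g, Mor F Q g → Nat.card R < Nat.card Q → CsExt F E p Q g)
    {α : MulAut R} (hα : α ∈ F.autGroup R) : CsExt F E p R (afun α) := by
  have hI := hE.1.2.2
  have hT : F.StronglyClosed T := hI.2.1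
  have hTS : T ≤ S := hT.1
  have hRS := hR.1
  haveI := finite_of_le hRS
  haveI := finite_of_le hTS
  haveI := finite_autGroup (F := F) R
  have hnT : S ≤ Subgroup.normalizer (T : Set Ω) := le_normalizer_of_stronglyClosed hT
  have bigger : ∀ {N : Subgroup Ω} {f' : Ω → Ω}, Mor F (R ⊔ N) f' → ∀ t ∈ N, t ∉ R →
      Nat.card R < Nat.card ↥(R ⊔ N) := by
    intro N f' hf' t ht htR
    haveI := finite_of_le hf'.le
    exact lt_of_le_of_ne (Subgroup.card_le_of_le le_sup_left) fun e =>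
      htR ((eq_of_le_of_card_ge hf'.le le_sup_left e.ge).ge (Subgroup.mem_sup_right ht))
  have hAP : ∀ {a : MulAut R}, a ∈ F.autGroup R → ∀ x ∈ R, x ∈ T → afun a x ∈ T :=
    fun {a} ha x hx hxT => closed_apply' hT ((mem_autGroup hRS).1 ha) hx hxT
  by_cases hcen : centralizerIn T (R ⊓ T) ≤ R ⊓ T
  swap
  · -- `α` extends by an element of `C_T(P)` normalizing `R`
    have hRn : R ≤ Subgroup.normalizer ((centralizerIn T (R ⊓ T) : Subgroup Ω) : Set Ω) := by
      intro r hr
      refine mem_normalizer_of_cj_le (inf_le_left.trans hTS) fun c hc => ?_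
      obtain ⟨hcT, hc⟩ := mem_centralizerIn.1 hc
      refine mem_centralizerIn.2 ⟨cj_mem_of_normalizer (hnT (hRS hr)) hcT, fun y hy => ?_⟩
      have hy' : cj r⁻¹ y ∈ R ⊓ T := ⟨R.mul_mem (R.mul_mem (R.inv_mem hr) hy.1)
        (R.inv_mem (R.inv_mem hr)), cj_mem_of_normalizer (hnT (S.inv_mem (hRS hr))) hy.2⟩
      calc cj (cj r c) y = cj r (cj c (cj r⁻¹ y)) := by simp [cj_apply, mul_assoc]
        _ = y := by rw [hc _ hy', cj_cj_inv]
    have hlt : R < R ⊔ centralizerIn T (R ⊓ T) :=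
      lt_of_le_of_ne le_sup_left fun e =>
        hcen (le_inf (le_sup_right.trans e.ge) inf_le_left)
    obtain ⟨y, hy, hyR, hyn⟩ :=
      FusionSysAlperin.lt_normalizerIn hS (sup_le hRS (inf_le_left.trans hTS)) hlt
    have hy' : y ∈ ((R ⊔ centralizerIn T (R ⊓ T) : Subgroup Ω) : Set Ω) := hy
    rw [Subgroup.coe_mul_of_left_le_normalizer_right _ _ hRn] at hy'
    obtain ⟨r, hr, t, ht, rfl⟩ := Set.mem_mul.1 hy'
    have htR : t ∉ R := fun h => hyR (R.mul_mem hr h)
    have htn : t ∈ Subgroup.normalizer (R : Set Ω) := by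
      have := mul_mem (inv_mem (Subgroup.le_normalizer hr)) hyn
      rwa [inv_mul_cancel_left] at this
    let K : Subgroup (F.autGroup R) :=
      { carrier := {a | (∀ x ∈ R ⊓ T, afun (a : MulAut R) x = x) ∧
          ∀ x ∈ R, x⁻¹ * afun (a : MulAut R) x ∈ T}
        one_mem' := ⟨fun x hx => by rw [Subgroup.coe_one, afun_one hx.1], fun x hx => by
          rw [Subgroup.coe_one, afun_one hx, inv_mul_cancel]; exact T.one_mem⟩
        mul_mem' := fun {a b} ha hb => ⟨fun x hx => by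
            rw [Subgroup.coe_mul, afun_mul _ _ hx.1, hb.1 x hx, ha.1 x hx],
          fun x hx => by
            rw [Subgroup.coe_mul, afun_mul _ _ hx]
            have := T.mul_mem (hb.2 x hx) (ha.2 _ (afun_mem (b : MulAut R) hx))
            simpa [mul_assoc] using this⟩
        inv_mem' := fun {a} ha => ⟨fun x hx => by
            conv_lhs => rw [Subgroup.coe_inv, ← ha.1 x hx]
            exact afun_inv_apply _ hx.1,
          fun x hx => by
            have := T.inv_mem (ha.2 _ (afun_mem (a : MulAut R)⁻¹ hx))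
            rw [afun_apply_inv _ hx] at this
            simpa using this⟩ }
    haveI hKn : K.Normal := ⟨fun k hk a => ⟨fun x hx => by
        have hi := (inv_mem a.2 : (a : MulAut R)⁻¹ ∈ F.autGroup R)
        have hx' : afun (a : MulAut R)⁻¹ x ∈ R ⊓ T :=
          ⟨afun_mem _ hx.1, hAP hi x hx.1 hx.2⟩
        rw [Subgroup.coe_mul, Subgroup.coe_mul, Subgroup.coe_inv, afun_mul _ _ hx.1,
          afun_mul _ _ hx'.1, hk.1 _ hx', afun_apply_inv _ hx.1],
      fun x hx => by
        have hx' := afun_mem (a : MulAut R)⁻¹ hx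
        have h1 := hk.2 _ hx'
        have hm := (mem_autGroup hRS).1 a.2
        have := hAP a.2 _ (R.mul_mem (R.inv_mem hx') (afun_mem _ hx')) h1
        rw [hm.map_mul (R.inv_mem hx') (afun_mem _ hx'), hm.map_inv hx',
          afun_apply_inv _ hx] at this
        rw [Subgroup.coe_mul, Subgroup.coe_mul, Subgroup.coe_inv, afun_mul _ _ hx,
          afun_mul _ _ hx']
        exact this⟩⟩
    have hKp : IsPGroup p K := fun k => by
      obtain ⟨j, hj⟩ := pow_eq_one_of_stabilizes (hS.to_le hRS) (n := 2)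
        (fun i => if i = 0 then ⊥ else if i = 1 then R ⊓ T else R) rfl rfl
        (fun i => by split_ifs <;> simp) (fun i hi => by
          interval_cases i <;> simp) (α := ((k : F.autGroup R) : MulAut R)) (fun i hi y hy => by
          interval_cases i
          · simp only [zero_add, if_neg one_ne_zero, if_pos rfl] at hy
            simp [k.2.1 y hy]
          · simp only [if_neg one_ne_zero, if_pos rfl]
            simp only [show (1 + 1 = 0) = False by simp, show (1 + 1 = 1) = False by simp,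
              if_false] at hy
            exact ⟨R.mul_mem (R.inv_mem hy) (afun_mem _ hy), k.2.2 y hy⟩)
      exact ⟨j, Subtype.ext (Subtype.ext (by simpa using hj))⟩
    obtain ⟨-, T0, hT0⟩ := fullyAutomized_of_fullyNormalized hS hF hR
    have hKT : K ≤ (T0 : Subgroup (F.autGroup R)) :=
      le_sup_right.trans (T0.is_maximal' (T0.2.to_sup_of_normal_right hKp) le_sup_left).le
    let N : Subgroup Ω := centralizerIn T (R ⊓ T) ⊓ normalizerIn S R
    obtain ⟨f', hf', hfe⟩ := (receptive_iff.1 (receptive_of_fullyNormalized hS hF hR)).2 R _ N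
      ((mem_autGroup hRS).1 hα) (im_afun α) (inf_le_right.trans inf_le_left)
      (inf_le_right.trans inf_le_right) (fun g hg => by
        have hgT : g ∈ T := (mem_centralizerIn.1 hg.1).1
        have hgA : nHom S R ⟨g, hg.2⟩ ∈ F.autGroup R :=
          autInducedBy_le hRS ((autInducedBy_eq_range S R).ge ⟨_, rfl⟩)
        have hgK : (⟨_, hgA⟩ : F.autGroup R) ∈ K := by
          refine ⟨fun x hx => ?_, fun x hx => ?_⟩
          · show afun (nHom S R ⟨g, hg.2⟩) x = x
            rw [afun_nHom _ hx.1]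
            exact (mem_centralizerIn.1 hg.1).2 x hx
          · show x⁻¹ * afun (nHom S R ⟨g, hg.2⟩) x ∈ T
            rw [afun_nHom _ hx]
            have := T.mul_mem (cj_mem_of_stronglyClosed hT (S.inv_mem (hRS hx)) hgT)
              (T.inv_mem hgT)
            simpa [cj_apply, mul_assoc] using this
        have h2 := hKT (hKn.conj_mem _ hgK ⟨α, hα⟩)
        rw [hT0, Subgroup.mem_subgroupOf] at h2
        obtain ⟨h, hh, -, hhe⟩ := mem_autInducedBy.1 h2
        refine ⟨h, hh, fun x hx => ?_⟩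
        rw [← hhe _ (afun_mem α hx)]
        simp only [Subgroup.coe_mul, Subgroup.coe_inv]
        rw [afun_mul _ _ (afun_mem _ hx), afun_inv_apply _ hx, afun_mul _ _ hx, afun_nHom _ hx])
    exact (hbig _ f' hf' (bigger hf' t
      ⟨ht, hTS (mem_centralizerIn.1 ht).1, htn⟩ htR)).restrict le_sup_left hfe
  -- the centric case
  have hPT : R ⊓ T ≤ T := inf_le_right
  have hPE : E.IsFullyNormalized (R ⊓ T) := fullyNormalized_sub hS hF hI.1 hT hPT hP
  have hPc : E.IsCentric (R ⊓ T) := FusionSysAlperin.centric_of_fullyCentralized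
    (fullyCentralized_of_fullyNormalized (hS.to_le hTS) hE.1.1 hPE) hcen
  have hPfc := fullyCentralized_of_fullyNormalized hS hF hP
  have hres : ∀ {a : MulAut R}, a ∈ F.autGroup R →
      ∃ a₀ ∈ F.autGroup (R ⊓ T), ∀ x ∈ R ⊓ T, afun a₀ x = afun a x := fun {a} ha =>
    (((mem_autGroup hRS).1 ha).restrict_to inf_le_left).exists_aut
      ((((mem_autGroup hRS).1 ha).restrict_to inf_le_left).im_self fun x hx =>
        ⟨afun_mem a hx.1, hAP ha x hx.1 hx.2⟩)
  let M : Subgroup (MulAut R) :=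
    { carrier := {m | (∀ x ∈ R, x⁻¹ * afun m x ∈ T) ∧
        ∃ a ∈ wGroup F hP.1 ⊓ E.autGroup (R ⊓ T), ∀ x ∈ R ⊓ T, afun m x = afun a x}
      one_mem' := ⟨fun x hx => by rw [afun_one hx, inv_mul_cancel]; exact T.one_mem,
        1, one_mem _, fun x hx => by rw [afun_one hx.1, afun_one hx]⟩
      mul_mem' := by
        rintro m m' ⟨h1, a, ha, he⟩ ⟨h1', a', ha', he'⟩
        refine ⟨fun x hx => ?_, a * a', mul_mem ha ha', fun x hx => ?_⟩
        · rw [afun_mul _ _ hx]
          have := T.mul_mem (h1' x hx) (h1 _ (afun_mem m' hx))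
          simpa [mul_assoc] using this
        · rw [afun_mul _ _ hx.1, afun_mul _ _ hx, he' x hx, he _ (afun_mem _ hx)]
      inv_mem' := by
        rintro m ⟨h1, a, ha, he⟩
        refine ⟨fun x hx => ?_, a⁻¹, inv_mem ha, fun x hx => ?_⟩
        · have := T.inv_mem (h1 _ (afun_mem m⁻¹ hx))
          rw [afun_apply_inv _ hx] at this
          simpa using this
        · have h2 := he _ (afun_mem a⁻¹ hx)
          rw [afun_apply_inv _ hx] at h2
          conv_lhs => rw [← h2]
          exact afun_inv_apply _ (afun_mem a⁻¹ hx).1 }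
  have hMn : ∀ a ∈ F.autGroup R, ∀ m ∈ M, m ∈ F.autGroup R → a * m * a⁻¹ ∈ M := by
    rintro a ha m ⟨h1, c, hc, he⟩ -
    have hi : a⁻¹ ∈ F.autGroup R := inv_mem ha
    obtain ⟨a₀, ha₀, hae⟩ := hres ha
    refine ⟨fun x hx => ?_, a₀ * c * a₀⁻¹,
      ⟨wGroup_normal hS hF hPfc ha₀ hc.1, conj_mem_autGroup hI hPT ha₀ hc.2⟩, fun x hx => ?_⟩
    · have hx' := afun_mem a⁻¹ hx
      have hm := (mem_autGroup hRS).1 ha
      have := hAP ha _ (R.mul_mem (R.inv_mem hx') (afun_mem _ hx')) (h1 _ hx')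
      rw [hm.map_mul (R.inv_mem hx') (afun_mem _ hx'), hm.map_inv hx', afun_apply_inv _ hx] at this
      rwa [afun_mul _ _ hx, afun_mul _ _ hx']
    · have hinv : afun a⁻¹ x = afun a₀⁻¹ x := by
        have h2 := hae _ (afun_mem a₀⁻¹ hx)
        rw [afun_apply_inv _ hx] at h2
        conv_lhs => rw [h2]
        exact afun_inv_apply _ (afun_mem a₀⁻¹ hx).1
      rw [afun_mul _ _ hx, afun_mul _ _ (afun_mem _ hx), afun_mul _ _ hx.1,
        afun_mul _ _ (afun_mem _ hx.1), hinv, he _ (afun_mem _ hx),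
        hae _ (afun_mem _ (afun_mem _ hx))]
  let N : Subgroup Ω := T ⊓ normalizerIn S R
  have hN : N ≤ normalizerIn S R := inf_le_right
  have hNM : ∀ (g : Ω) (hg : g ∈ N), nHom S R ⟨g, hN hg⟩ ∈ M := by
    intro g hg
    have hgn : g ∈ Subgroup.normalizer ((R ⊓ T : Subgroup Ω) : Set Ω) :=
      mem_normalizer_of_cj_le hP.1 fun x hx =>
        ⟨cj_mem_of_normalizer hg.2.2 hx.1, cj_mem_of_normalizer (hnT hg.2.1) hx.2⟩
    have he : ∀ y ∈ R ⊓ T, afun (nHom T (R ⊓ T) ⟨g, hg.1, hgn⟩) y = cj g y :=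
      fun y hy => afun_nHom _ hy
    refine ⟨fun x hx => ?_, nHom T (R ⊓ T) ⟨g, hg.1, hgn⟩,
      ⟨mem_wGroup_of_cj hP.1 hg.2.1 he fun c hc => hcen ?_,
        autInducedBy_le hPT ((autInducedBy_eq_range T _).ge ⟨_, rfl⟩)⟩,
      fun x hx => by rw [afun_nHom _ hx.1, he x hx]⟩
    · rw [afun_nHom _ hx]
      have := T.mul_mem (cj_mem_of_stronglyClosed hT (S.inv_mem (hRS hx)) hg.1) (T.inv_mem hg.1)
      simpa [cj_apply, mul_assoc] using this
    · have hcS := (mem_centralizerIn.1 hc).1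
      have h2 : cj g c ∈ centralizerIn S (R ⊓ T) := by
        refine mem_centralizerIn.2 ⟨cj_mem_S hg.2.1 hcS, fun y hy => ?_⟩
        have := (mem_centralizerIn.1 hc).2 _
          (cj_mem_of_normalizer (Subgroup.inv_mem _ hgn) hy)
        calc cj (cj g c) y = cj g (cj c (cj g⁻¹ y)) := by simp [cj_apply, mul_assoc]
          _ = y := by rw [this, cj_cj_inv]
      refine mem_centralizerIn.2 ⟨?_, (mem_centralizerIn.1 (mul_mem (inv_mem hc) h2)).2⟩
      have := T.mul_mem (cj_mem_of_stronglyClosed hT (S.inv_mem hcS) hg.1) (T.inv_mem hg.1)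
      simpa [cj_apply, mul_assoc] using this
  obtain ⟨β, hβ, m, hm, hmF, hαe, f', hf', hfe⟩ :=
    FusionFrattini88.frattini_ext hS hF hR M hMn hN hNM hα
  -- `β` extends
  have hlt : R < R ⊔ T := lt_of_le_of_ne le_sup_left fun e => hTR (sup_eq_left.mp e.symm)
  obtain ⟨y, hy, hyR, hyn⟩ := FusionSysAlperin.lt_normalizerIn hS (sup_le hRS hTS) hlt
  have hy' : y ∈ ((R ⊔ T : Subgroup Ω) : Set Ω) := hy
  rw [Subgroup.coe_mul_of_left_le_normalizer_right _ _ (hRS.trans hnT)] at hy'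
  obtain ⟨r, hr, t, ht, rfl⟩ := Set.mem_mul.1 hy'
  have htn : t ∈ Subgroup.normalizer (R : Set Ω) := by
    have := mul_mem (inv_mem (Subgroup.le_normalizer hr)) hyn
    rwa [inv_mul_cancel_left] at this
  have hβx : CsExt F E p R (afun β) := (hbig _ f' hf' (bigger hf' t ⟨ht, hTS ht, htn⟩
    fun h => hyR (R.mul_mem hr h))).restrict le_sup_left hfe
  -- the elements of `M`
  have hcl := closed_csExt hS hF hE
  let Φs := FusionInduct88.subSystem (le_refl S) hcl
  have hgen : ∀ {k : MulAut R}, k ∈ F.autGroup R → CsExt F E p R (afun k) →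
      k ∈ Φs.autGroup R := fun {k} hk h => by
    have := (mem_autGroup hRS).1 hk
    exact mem_autGroup_of_mor
      (FusionInduct88.mor_subSystem.2 ⟨this, hRS, fun x hx => this.apply_mem hx, h⟩)
  haveI hKn : (M.subgroupOf (F.autGroup R)).Normal :=
    ⟨fun k hk a => hMn a.1 a.2 k.1 hk k.2⟩
  obtain ⟨-, T0, hT0⟩ := fullyAutomized_of_fullyNormalized hS hF hR
  have htop : (⊤ : Subgroup (M.subgroupOf (F.autGroup R))) ≤
      (Φs.autGroup R).comap ((F.autGroup R).subtype.comp (M.subgroupOf (F.autGroup R)).subtype) := by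
    rw [← TransferPResidual.sylow_sup_pResidual
      (SylowCount.infSylow T0 (M.subgroupOf (F.autGroup R)))]
    refine sup_le (fun k hk => ?_) ?_
    · have hk1 : (k : F.autGroup R) ∈ (T0 : Subgroup (F.autGroup R)) := hk.1
      rw [hT0, Subgroup.mem_subgroupOf] at hk1
      obtain ⟨g, hg, -, hge⟩ := mem_autInducedBy.1 hk1
      exact hgen k.1.2 (hcl.congr (hcl.conj hRS hg) fun x hx => (hge x hx).symm)
    · rw [TransferPResidual.pResidual_le_iff_coprime]
      intro k hk
      refine hgen k.1.2 ?_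
      set n : MulAut R := ((k : F.autGroup R) : MulAut R) with hn
      have hkM : n ∈ M := k.2
      obtain ⟨h1, a, ha, he⟩ := hkM
      have hnF := (mem_autGroup hRS).1 (k.1.2 : n ∈ F.autGroup R)
      have hnco : (orderOf n).Coprime p := by
        rw [hn, Subgroup.orderOf_coe, Subgroup.orderOf_coe]; exact hk
      have hao : a ^ orderOf n = 1 := afun_ext fun x hx => by
        rw [← pow_restrict inf_le_left he _ x hx, pow_orderOf_eq_one, afun_one hx.1, afun_one hx]
      obtain ⟨b, hb, hbe⟩ :=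
        exists_lift hPfc ha.1 (hnco.coprime_dvd_left (orderOf_dvd_of_pow_eq_one hao))
      have hfix : ∀ x ∈ R ⊓ cs F E p, afun n x = x := by
        rintro x ⟨hxR, hxc⟩
        have hxT := cs_le hxc
        have hxP : x ∈ centralizerIn S (R ⊓ T) := cent_le_cent hPT hxT
        have hbx : b x = x := hxc.2 (R ⊓ T) (R ⊓ T) (fun y => y) b a hPT ha.2 hb
          (mor_id (sup_le hP.1 inf_le_left)) (im_id _) fun y hy => hbe y hy
        set u := x⁻¹ * afun n x with hu
        have huP : u ∈ R ⊓ T := ⟨R.mul_mem (R.inv_mem hxR) (afun_mem n hxR), h1 x hxR⟩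
        have hz : R ⊓ T ⊔ Subgroup.zpowers x ≤ R ⊓ T ⊔ centralizerIn S (R ⊓ T) :=
          sup_le_sup_left (Subgroup.zpowers_le.2 hxP) _
        have hb0 := hb.mor.restrict_to hz
        obtain ⟨g, hg, hgb, -, hgP⟩ := hb0.exists_inv
        have hxz : x ∈ R ⊓ T ⊔ Subgroup.zpowers x :=
          Subgroup.mem_sup_right (Subgroup.mem_zpowers x)
        have hPim : R ⊓ T ≤ im (R ⊓ T ⊔ Subgroup.zpowers x) b :=
          ((hb0.restrict_to le_sup_left).im_self hb.stab).ge.trans (im_mono le_sup_left)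
        have hle : Subgroup.zpowers x ⊔ R ⊓ T ≤ im (R ⊓ T ⊔ Subgroup.zpowers x) b :=
          sup_le (Subgroup.zpowers_le.2 (by conv => arg 2; rw [← hbx]
                                            exact apply_mem_im hxz)) hPim
        have hR' : R ⊓ T ⊔ Subgroup.zpowers x ≤ R := sup_le inf_le_left (Subgroup.zpowers_le.2 hxR)
        have hγ : Mor F (Subgroup.zpowers x ⊔ R ⊓ T) (afun n ∘ g) :=
          (hg.restrict_to hle).comp hnF fun y hy => hR' (hgP y (hle hy))
        have hγP : ∀ y ∈ R ⊓ T, (afun n ∘ g) y = y := fun y hy => by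
          obtain ⟨w, hw, rfl⟩ := (hb0.restrict_to le_sup_left).mem_im.1
            (((hb0.restrict_to le_sup_left).im_self hb.stab).ge hy)
          rw [Function.comp_apply, hgb w (Subgroup.mem_sup_left hw), he w hw, hbe w hw]
        have hgx : g x = x := by
          conv_lhs => rw [← hbx]
          exact hgb x hxz
        have hk2 := hb.comm hS hF (Subgroup.zpowers_le.2 hxP) hγ hγP x (Subgroup.mem_zpowers x)
        rw [Function.comp_apply, hgx, hbx, inv_mul_cancel, inv_mul_eq_one] at hk2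
        have hnu : afun n u = u := by
          have hbu : b u = u := by
            have hnxC : afun n x ∈ centralizerIn S (R ⊓ T) := by
              have := apply_cent hγ le_sup_right (Subgroup.mem_sup_left (Subgroup.mem_zpowers x)) hxP
              rw [Function.comp_apply, hgx, (im_congr hγP).trans (im_id _)] at this
              exact this
            rw [hu, hb.mor.map_mul (Subgroup.mem_sup_right (inv_mem hxP))
              (Subgroup.mem_sup_right hnxC), hb.mor.map_inv (Subgroup.mem_sup_right hxP), hbx,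
              ← hk2]
          rw [he u huP, ← hbe u huP, hbu]
        have hpow : ∀ j : ℕ, afun (n ^ j) x = x * u ^ j := by
          intro j
          induction j with
          | zero => rw [pow_zero, pow_zero, afun_one hxR, mul_one]
          | succ j ih =>
            have huj : ∀ i : ℕ, afun n (u ^ i) = u ^ i := by
              intro i
              induction i with
              | zero => rw [pow_zero]; exact hnF.map_one
              | succ i ihi => rw [pow_succ, hnF.map_mul (pow_mem huP.1 i) huP.1, ihi, hnu]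
            rw [pow_succ', afun_mul _ _ hxR, ih, hnF.map_mul hxR (pow_mem huP.1 j), huj,
              pow_succ' u, ← mul_assoc x u, hu, mul_inv_cancel_left]
        have h2 := hpow (orderOf n)
        rw [pow_orderOf_eq_one, afun_one hxR] at h2
        have hu1 : u = 1 :=
          eq_one_of_pow (hS.to_le hP.1) huP hnco (mul_eq_left.1 h2.symm)
        rw [hu] at hu1
        exact (inv_mul_eq_one.1 hu1).symm
      refine ⟨fun x hx => ⟨fun hc => (hfix x ⟨hx, hc⟩).symm ▸ hc, fun hc => ?_⟩,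
        fun y => y, mor_id (sup_le hTS (inf_le_left.trans hRS)),
        fun x hx => (hfix x hx).symm⟩
      have := hfix _ ⟨afun_mem n hx, hc⟩
      change afun n x ∈ cs F E p at hc
      rwa [hnF.injOn (afun_mem n hx) hx this] at hc
  have hmx : CsExt F E p R (afun m) :=
    (FusionInduct88.mor_subSystem.1
      ((mem_autGroup hRS).1 (htop (x := ⟨⟨m, hmF⟩, hm⟩) trivial))).2.2.2
  exact hcl.congr (hcl.comp ((mem_autGroup hRS).1 hmF) ((mem_autGroup hRS).1 hβ) hRS hRS
    (fun x hx => afun_mem m hx) hmx hβx) fun x hx => by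
      rw [Function.comp_apply, hαe, afun_mul _ _ hx]

include hS hF in
/-- Every map of `F` agrees on `cs` with a map that normalizes `T`. -/
theorem csExt_of_mor (hE : E.IsNormalIn F p) {P : Subgroup Ω} {f : Ω → Ω} (hf : Mor F P f) :
    CsExt F E p P f := by
  have hI := hE.1.2.2
  have hT : F.StronglyClosed T := hI.2.1
  have hcl := closed_csExt hS hF hE
  refine induction_bigger hS hF hcl (fun R hR hbig α hα => ?_) hf
  have hRS := hR.1
  have hm := (mem_autGroup hRS).1 hα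
  haveI := finite_of_le hRS
  by_cases hTR : T ≤ R
  · have hXR : T ⊔ R ⊓ cs F E p ≤ R := sup_le hTR inf_le_left
    have hle : im (R ⊓ cs F E p) (afun α) ≤ R ⊓ cs F E p :=
      le_inf (im_le_iff.2 fun x hx => afun_mem α hx.1)
        (image_le_cs hS hF hE inf_le_right (hm.restrict_to hXR))
    have him := (hm.restrict_to (inf_le_left : R ⊓ cs F E p ≤ R)).im_self (im_le_iff.1 hle)
    refine ⟨fun x hx => ⟨fun hc => (hle (apply_mem_im (P := R ⊓ cs F E p) ⟨hx, hc⟩)).2,
      fun hc => ?_⟩, afun α, hm.restrict_to hXR, fun _ _ => rfl⟩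
    obtain ⟨y, hy, hyx⟩ := (hm.restrict_to inf_le_left).mem_im.1
      (him.ge (⟨afun_mem α hx, hc⟩ : afun α x ∈ R ⊓ cs F E p))
    exact hm.injOn hy.1 hx hyx ▸ hy.2
  have hPS : R ⊓ T ≤ S := inf_le_left.trans hRS
  obtain ⟨P', hPP', hP'n⟩ := exists_fullyNormalized (F := F) hPS
  obtain ⟨θ, hθ, -, hθP⟩ := exists_map_to_fullyNormalized hS hF hP'n hPP'
  have hNle : normalizerIn S R ≤ normalizerIn S (R ⊓ T) := fun g hg =>
    ⟨hg.1, mem_normalizer_of_cj_le hPS fun x hx =>
      ⟨cj_mem_of_normalizer hg.2 hx.1, cj_mem_of_stronglyClosed hT hg.1 hx.2⟩⟩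
  have hθN := hθ.restrict_to hNle
  have hRlt : R < S := lt_of_le_of_ne hRS fun e => hTR (e ▸ hT.1)
  have hθx := hbig _ θ hθN (FusionSysAlperin.normalizerIn_gt hS hRlt)
  have hθ0 := hθN.restrict_to (le_normalizerIn hRS)
  set R' := im R θ with hR'
  have hRR' : F.IsConj R R' := FusionSysBasic.isConj_iff.2 ⟨θ, hθ0, rfl⟩
  have hR'n : F.IsFullyNormalized R' := ⟨hθ0.im_le, fun Q hQ =>
    (hR.2 Q (isConj_trans hRR' hQ)).trans (card_le_of_mor hθN inf_le_left fun x hx =>
      ⟨hθN.apply_mem hx, FusionWeaklyNormal88.apply_normalizes hθN (le_normalizerIn hRS) hx hx.2⟩)⟩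
  have hinf : R' ⊓ T = P' := by
    rw [← hθP]
    refine le_antisymm ?_ (im_le_iff.2 fun x hx => ⟨apply_mem_im hx.1,
      closed_apply' hT hθ0 hx.1 hx.2⟩)
    rintro y ⟨hy, hyT⟩
    obtain ⟨j, hj, hjθ, -, -⟩ := hθ0.exists_inv
    obtain ⟨x, hx, rfl⟩ := hθ0.mem_im.1 hy
    have := closed_apply' hT hj hy hyT
    rw [hjθ x hx] at this
    exact apply_mem_im ⟨hx, this⟩
  have hTR' : ¬ T ≤ R' := fun h => hTR (by
    have h1 : Nat.card ↥T ≤ Nat.card ↥(R ⊓ T) := by
      rw [isConj_card hPP', ← hinf, inf_eq_right.2 h]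
    have h2 : R ⊓ T = T := eq_of_le_of_card_ge hT.1 inf_le_right h1
    exact inf_eq_right.1 h2)
  have hcard : Nat.card R' = Nat.card R := hθ0.card_im
  have hα' := csExt_aut hS hF hE hR'n (hinf ▸ hP'n) hTR'
    (fun Q g hg hlt => hbig Q g hg (hcard ▸ hlt)) (hθ0.transport_mem rfl hα)
  let H := FusionInduct88.subSystem (le_refl S) hcl
  have m1 : Mor H R θ := FusionInduct88.mor_subSystem.2 ⟨hθ0, hRS,
    fun x hx => hθ0.apply_mem hx, hθx.restrict (le_normalizerIn hRS) fun _ _ => rfl⟩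
  have hm' := (mem_autGroup hR'n.1).1 (hθ0.transport_mem rfl hα)
  have m2 : Mor H R' (afun (hθ0.transport rfl α)) :=
    FusionInduct88.mor_subSystem.2 ⟨hm', hR'n.1, fun x hx => hm'.apply_mem hx, hα'⟩
  obtain ⟨j, hj, hjθ, -, -⟩ := m1.exists_inv
  have m3 := (m1.comp m2 fun x hx => apply_mem_im hx).comp hj
    fun x hx => afun_mem (hθ0.transport rfl α) (apply_mem_im hx)
  refine (FusionInduct88.mor_subSystem.1 (m3.congr fun x hx => ?_)).2.2.2
  simp only [Function.comp_apply]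
  rw [hθ0.afun_transport rfl α hx, hjθ _ (afun_mem α hx)]

include hS hF in
theorem stronglyClosed_cs (hE : E.IsNormalIn F p) : F.StronglyClosed (cs F E p) :=
  FusionSysNormal.stronglyClosed_iff.2 ⟨cs_le.trans inf_le_left, fun _ _ hP hf x hx =>
    ((csExt_of_mor hS hF hE hf).1 x hx).1 (hP hx)⟩

include hS hF in
/-- The focal subgroup of `C_F(T)` lies in `cs`. -/
theorem focal_le_cs {D : FusionSystem (centralizerIn S T)} (hD : F.IsCentralizerSystem T D) :
    D.focalSubgroup ≤ cs F E p := by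
  refine FusionFocal.focal_le_iff.2 fun Q f hf x hx => ?_
  obtain ⟨hfF, hQ, hfQ, f', hf', hfe, hfT⟩ := (mor_centralizerSystem_iff hD).1 hf
  have hxC := hQ hx
  have hfxC := hfQ x hx
  refine ⟨mul_mem (inv_mem hxC) hfxC, fun P P' φ b a hP ha hb hφ him hc => ?_⟩
  have hC : centralizerIn S T ≤ P ⊔ centralizerIn S T := le_sup_right
  have hz : P ⊔ Subgroup.zpowers x ≤ P ⊔ centralizerIn S T :=
    sup_le_sup_left (Subgroup.zpowers_le.2 hxC) P
  have hφ0 := hφ.restrict_to hz
  have hf0 : Mor F (P ⊔ Subgroup.zpowers x) f' :=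
    hf'.restrict_to (sup_le (hP.trans le_sup_right)
      ((Subgroup.zpowers_le.2 hx).trans le_sup_left))
  have hxz : x ∈ P ⊔ Subgroup.zpowers x := Subgroup.mem_sup_right (Subgroup.mem_zpowers x)
  obtain ⟨j, hj, hjφ, -, hjP⟩ := hφ0.exists_inv
  have hle : Subgroup.zpowers (φ x) ⊔ P' ≤ im (P ⊔ Subgroup.zpowers x) φ :=
    sup_le (Subgroup.zpowers_le.2 (apply_mem_im hxz)) (him ▸ im_mono le_sup_left)
  have h1 : ∀ y ∈ P ⊔ Subgroup.zpowers x, f' y ∈ P ⊔ centralizerIn S T := fun y hy =>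
    mor_sup_induction hf0 (fun z hz => (hfT z (hP hz)).symm ▸ Subgroup.mem_sup_left hz)
      (fun z hz => hC (by
        have hzQ : z ∈ Q := (Subgroup.zpowers_le.2 hx) hz
        rw [hfe z hzQ]; exact hfQ z hzQ)) hy
  have hγ : Mor F (Subgroup.zpowers (φ x) ⊔ P') (φ ∘ (f' ∘ j)) :=
    ((hj.restrict_to hle).comp hf0 fun y hy => hjP y (hle hy)).comp hφ
      fun y hy => h1 _ (hjP y (hle hy))
  have hγP : ∀ y ∈ P', (φ ∘ (f' ∘ j)) y = y := fun y hy => by
    obtain ⟨w, hw, rfl⟩ := (hφ.restrict_to le_sup_left).mem_im.1 (him.symm ▸ hy)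
    simp only [Function.comp_apply]
    rw [hjφ w (Subgroup.mem_sup_left hw), hfT w (hP hw)]
  have hφx : φ x ∈ centralizerIn S P' :=
    him ▸ apply_cent hφ le_sup_left (hC hxC) (cent_le_cent hP hxC)
  have h2 := hb.fix_quot hS hF (Subgroup.zpowers_le.2 hφx) hγ hγP (Subgroup.mem_zpowers (φ x))
  simp only [Function.comp_apply] at h2
  rw [hjφ x hxz, hfe x hx, ← hφ.map_inv (hC hxC),
    ← hφ.map_mul (hC (inv_mem hxC)) (hC hfxC)] at h2
  exact h2

end Cfsg.Agent.FusionCentralizerSub
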