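import Cfsg.Agent.Lib.FusionCentralLift

/-!
The lifted system is saturated (`saturated_lift`) and invariant, so the preimage of `T'` carries a
subsystem normal in `F` (`exists_normal_preimage`).
-/

set_option autoImplicit false

namespace Cfsg.Agent.FusionCentralLift

open Cfsg Cfsg.FusionSystem Cfsg.Agent.FusionSysBasic Cfsg.Agent.FusionSysSaturated
open Cfsg.Agent.FusionSysNormal Cfsg.Agent.FusionMorph88 Cfsg.Agent.FusionKit88
open Cfsg.Agent.FusionTops Cfsg.Agent.FusionGenerated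
open scoped commutatorElement

variable {Ω Ω' : Type*} [Group Ω] [Group Ω'] {S Z : Subgroup Ω} {S' T' : Subgroup Ω'}
  {F : FusionSystem S} {θ : S →* Ω'} {F' : FusionSystem S'} {N : FusionSystem T'} {p : ℕ}

/-- The automorphisms in `F` of `P` inducing a member of `N`. -/
def autN (F : FusionSystem S) (θ : S →* Ω') (N : FusionSystem T') (P : Subgroup Ω) :
    Subgroup (MulAut P) where
  carrier := {a | a ∈ F.autGroup P ∧ ∃ b ∈ N.autGroup (imageAlong θ P),
    ∀ x ∈ P, x ∈ S → afun b (app θ x) = app θ (afun a x)}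
  one_mem' := ⟨one_mem _, 1, one_mem _, fun x hx hxS => by
    rw [afun_one (mem_imageAlong.2 ⟨x, hx, hxS, rfl⟩), afun_one hx]⟩
  mul_mem' := fun {a a'} ⟨ha, b, hb, he⟩ ⟨ha', b', hb', he'⟩ => ⟨mul_mem ha ha', b * b',
    mul_mem hb hb', fun x hx hxS => by
      by_cases hP : P ≤ S
      · rw [afun_mul _ _ (app_mem_imageAlong hx hP), he' x hx hxS,
          he _ (afun_mem _ hx) (hP (afun_mem _ hx)), afun_mul _ _ hx]
      · have hbot : F.autGroup P = ⊥ := by
          rw [FusionSystem.autGroup, Subgroup.closure_eq_bot_iff]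
          exact fun α hα => absurd (F.le_of_mem hα).1 hP
        rw [hbot, Subgroup.mem_bot] at ha ha'
        subst ha ha'
        rw [afun_mul _ _ (mem_imageAlong.2 ⟨x, hx, hxS, rfl⟩), he' x hx hxS, afun_one hx,
          he x hx hxS, afun_one hx, one_mul, afun_one hx]⟩
  inv_mem' := fun {a} ⟨ha, b, hb, he⟩ => ⟨inv_mem ha, b⁻¹, inv_mem hb, fun x hx hxS => by
    by_cases hP : P ≤ S
    · have hy := afun_mem a⁻¹ hx
      conv_lhs => rw [← afun_apply_inv a hx, ← he _ hy (hP hy)]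
      exact afun_inv_apply b (app_mem_imageAlong hy hP)
    · have hbot : F.autGroup P = ⊥ := by
        rw [FusionSystem.autGroup, Subgroup.closure_eq_bot_iff]
        exact fun α hα => absurd (F.le_of_mem hα).1 hP
      rw [hbot, Subgroup.mem_bot] at ha
      subst ha
      have h1 := he x hx hxS
      rw [afun_one hx] at h1
      rw [inv_one, afun_one hx]
      conv_lhs => rw [← h1]
      exact afun_inv_apply b (mem_imageAlong.2 ⟨x, hx, hxS, rfl⟩)⟩

/-- `f` on `P` is an automorphism in `F` of `T₁` after a map of the lifted system. -/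
def Dec (F : FusionSystem S) (Z : Subgroup Ω) (θ : S →* Ω') (N : FusionSystem T') (p : ℕ)
    (P : Subgroup Ω) (f : Ω → Ω) : Prop :=
  ∃ a ∈ F.autGroup (preimageAlong θ T'), ∃ e, Mor (liftSys F Z θ N p) P e ∧ ∀ x ∈ P, f x = afun a (e x)

local notation "T₁" => preimageAlong θ T'
local notation "L" => liftSys F Z θ N p

namespace Setup

variable (h : Setup F Z θ F' N p) [Finite S] [Fact p.Prime]
include h

theorem autN_conj {P : Subgroup Ω} (hP : P ≤ T₁) {a m : MulAut P} (ha : a ∈ F.autGroup P)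
    (hm : m ∈ autN F θ N P) : a * m * a⁻¹ ∈ autN F θ N P := by
  obtain ⟨hmF, b, hb, he⟩ := hm
  have hPS := hP.trans h.T1_le
  obtain ⟨c, hc, hce⟩ := h.exists_red hPS ha
  refine ⟨mul_mem (mul_mem ha hmF) (inv_mem ha), c * b * c⁻¹,
    FusionCentralizerSub.conj_mem_autGroup h.inv' (h.image_le_T hP) hc hb, fun x hx hxS => ?_⟩
  have hy := afun_mem a⁻¹ hx
  have h1 : afun c⁻¹ (app θ x) = app θ (afun a⁻¹ x) := by
    conv_lhs => rw [← afun_apply_inv a hx, ← hce _ hy]
    exact afun_inv_apply c (app_mem_imageAlong hy hPS)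
  rw [afun_mul _ _ (app_mem_imageAlong hx hPS), h1, afun_mul _ _ (app_mem_imageAlong hy hPS),
    he _ hy (hPS hy), hce _ (afun_mem _ hy), afun_mul _ _ hx, afun_mul _ _ hy]

theorem autT1_le {P : Subgroup Ω} (hP : P ≤ T₁) : autInducedBy T₁ P ≤ autN F θ N P := by
  intro a ha
  have hPS := hP.trans h.T1_le
  refine ⟨autInducedBy_le hPS (autInducedBy_mono h.T1_le P ha), ?_⟩
  obtain ⟨t, ht, htn, he⟩ := mem_autInducedBy.1 ha
  have htS := h.T1_le ht
  have hT := (mem_preimageAlong.1 ht).2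
  haveI := h.finite_S'
  haveI := finite_of_le h.T'_le
  have htn' : app θ t ∈ Subgroup.normalizer ((imageAlong θ P : Subgroup Ω') : Set Ω') :=
    mem_normalizer_of_cj_le (h.image_le_T hP) fun y hy => by
      obtain ⟨x, hx, hxS, rfl⟩ := mem_imageAlong.1 hy
      rw [← app_cj htS hxS]
      exact app_mem_imageAlong (cj_mem_of_normalizer htn hx) hPS
  refine ⟨nHom T' (imageAlong θ P) ⟨app θ t, hT, htn'⟩,
    autInducedBy_le (h.image_le_T hP) ((autInducedBy_eq_range _ _).ge ⟨_, rfl⟩), fun x hx hxS => ?_⟩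
  rw [afun_nHom _ (app_mem_imageAlong hx hPS), he x hx, app_cj htS hxS]

theorem kerAut_le_autN {P : Subgroup Ω} (hP : P ≤ S) : kerAut F Z P ≤ autN F θ N P := fun a ha =>
  ⟨ha.1, 1, one_mem _, fun x hx _ => by
    rw [afun_one (app_mem_imageAlong hx hP), ((h.mem_kerAut hP).1 ha).2 x hx]⟩

omit [Finite S] [Fact p.Prime] in
theorem cj_autT1 {P : Subgroup Ω} (hT : F.StronglyClosed T₁) {s : Ω} (hs : s ∈ normalizerIn S P)
    {a : MulAut P} (ha : a ∈ autInducedBy T₁ P) :
    nHom S P ⟨s, hs⟩ * a * (nHom S P ⟨s, hs⟩)⁻¹ ∈ autInducedBy T₁ P := by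
  obtain ⟨t, ht, htn, he⟩ := mem_autInducedBy.1 ha
  refine mem_autInducedBy.2 ⟨cj s t, cj_mem_of_stronglyClosed hT hs.1 ht,
    Subgroup.mul_mem _ (Subgroup.mul_mem _ hs.2 htn) (Subgroup.inv_mem _ hs.2), fun x hx => ?_⟩
  have hinv : afun (nHom S P ⟨s, hs⟩)⁻¹ x = cj s⁻¹ x := by
    rw [← map_inv]; exact afun_nHom _ hx
  have hy := cj_mem_of_normalizer (Subgroup.inv_mem _ hs.2) hx
  rw [afun_mul _ _ hx, hinv, afun_mul _ _ hy, he _ hy, afun_nHom _ (cj_mem_of_normalizer htn hy)]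
  simp [cj_apply, mul_assoc]

/-- A `p`-subgroup of the subgroup generated by `Aut_{T₁}(P)` and the automorphisms of order prime to
`p` inducing members of `N` is no larger than `Aut_{T₁}(P)`, `P` fully normalized. -/
theorem card_le_autT1 {P : Subgroup Ω} (hP : P ≤ T₁) (hZ : Z ≤ P) (hn : F.IsFullyNormalized P)
    (hc : N.IsCentric (imageAlong θ P)) {U : Subgroup (MulAut P)} (hU : IsPGroup p U)
    (hUB : U ≤ ((autInducedBy T₁ P).subgroupOf (autN F θ N P) ⊔
      Cfsg.pResidual p (autN F θ N P)).map (autN F θ N P).subtype) :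
    Nat.card U ≤ Nat.card (autInducedBy T₁ P) := by
  have hPS : P ≤ S := hn.1
  have hT1 : F.StronglyClosed T₁ := h.closedT1
  haveI := h.finite_S'
  haveI := finite_of_le h.T'_le
  haveI := finite_autGroup (F := F) P
  haveI := finite_of_le hPS
  set A := autN F θ N P with hA
  set R1 := autInducedBy T₁ P with hR1
  set K := kerAut F Z P with hK
  set R := autInducedBy S P ⊓ A with hR
  have hFA := fullyAutomized_of_fullyNormalized h.pgrp h.sat hn
  have hsyl : SylIn p R A := sylIn_inf hFA.2 (isPGroup_autInducedBy h.pgrp P) (fun a ha => ha.1)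
    fun a ha b hb => h.autN_conj hP ha hb
  have hKS : K ≤ autInducedBy S P := le_autInducedBy_of_normal hFA (fun a ha => ha.1)
    (h.kerAut_pGroup hPS) fun a ha o ho => h.kerAut_normal hPS ha ho
  have hKR : K ≤ R := le_inf hKS (h.kerAut_le_autN hPS)
  have hR1R : R1 ≤ R := le_inf (autInducedBy_mono h.T1_le P) (h.autT1_le hP)
  have hn' : F'.IsFullyNormalized (imageAlong θ P) := h.fullyN' hn hZ
  have hPT' := h.image_le_T hP
  -- `R = Aut_{T₁}(P) K`
  have hdec : ∀ r ∈ R, ∃ r1 ∈ R1, ∃ k ∈ K, r = r1 * k := by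
    rintro r ⟨hrS, hrF, b, hb, hbe⟩
    obtain ⟨s, hs, hsn, hse⟩ := mem_autInducedBy.1 hrS
    set bS := autInducedBy S' (imageAlong θ P) ⊓ N.autGroup (imageAlong θ P)
    have hbS : b ∈ bS := by
      refine ⟨mem_autInducedBy.2 ⟨app θ s, h.app_mem hs, mem_normalizer_of_cj_le h.image_le
        fun y hy => ?_, fun y hy => ?_⟩, hb⟩
      · obtain ⟨x, hx, hxS, rfl⟩ := mem_imageAlong.1 hy
        rw [← app_cj hs hxS]
        exact app_mem_imageAlong (cj_mem_of_normalizer hsn hx) hPS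
      · obtain ⟨x, hx, hxS, rfl⟩ := mem_imageAlong.1 hy
        rw [hbe x hx hxS, hse x hx, app_cj hs hxS]
    haveI := finite_autGroup (F := N) (imageAlong θ P)
    have hNA := fullyAutomized_of_fullyNormalized (h.pgrp'.to_le h.T'_le) h.satN
      (fullyNormalized_sub h.pgrp' h.sat' h.inv'.1 h.inv'.2.1 hPT' hn')
    have hTb : autInducedBy T' (imageAlong θ P) = bS := by
      have hle : autInducedBy T' (imageAlong θ P) ≤ bS :=
        le_inf (autInducedBy_mono h.T'_le _) (autInducedBy_le hPT')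
      haveI : Finite bS :=
        Finite.of_injective _ (Subgroup.inclusion_injective (inf_le_right : bS ≤ _))
      refine Subgroup.eq_of_le_of_card_ge hle ?_
      rw [(sylIn_iff_card (autInducedBy_le hPT')).1 hNA.2]
      exact FusionSysNormalizer.sylIn_le_pow
        ((isPGroup_autInducedBy h.pgrp' _).to_le inf_le_left) inf_le_right
    obtain ⟨t', ht', htn', hte⟩ := mem_autInducedBy.1 (hTb.ge hbS)
    obtain ⟨t, rfl⟩ := h.range_le h.T'_le ht'
    have ht : (t : Ω) ∈ T₁ := mem_preimageAlong.2 ⟨t.2, by rw [app_apply θ t.2]; exact ht'⟩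
    have htn : (t : Ω) ∈ Subgroup.normalizer (P : Set Ω) := by
      have e : normalizerIn S P = preimageAlong θ (normalizerIn S' (imageAlong θ P)) := by
        have := h.normalizer_pre le_rfl (h.image_le (P := P))
        rwa [h.pre_S', h.pre_image hPS hZ] at this
      exact (e.ge (mem_preimageAlong.2 ⟨t.2, by rw [app_apply θ t.2]; exact ⟨h.T'_le ht', htn'⟩⟩)).2
    have hr1 : nHom S P ⟨(t : Ω), t.2, htn⟩ ∈ R1 :=
      mem_autInducedBy.2 ⟨t, ht, htn, fun x hx => afun_nHom _ hx⟩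
    refine ⟨_, hr1, (nHom S P ⟨(t : Ω), t.2, htn⟩)⁻¹ * r, (h.mem_kerAut hPS).2
      ⟨mul_mem (inv_mem (h.autT1_le hP hr1).1) hrF, fun x hx => ?_⟩, by group⟩
    have hinv : afun (nHom S P ⟨(t : Ω), t.2, htn⟩)⁻¹ (afun r x) = cj (t : Ω)⁻¹ (afun r x) := by
      rw [← map_inv]; exact afun_nHom _ (afun_mem r hx)
    rw [afun_mul _ _ hx, hinv, app_cj (S.inv_mem t.2) (hPS (afun_mem r hx)), ← hbe x hx (hPS hx),
      hte _ (app_mem_imageAlong hx hPS), app_inv t.2, app_apply θ t.2, cj_inv_cj]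
  -- `g` moves `Aut_{T₁}(P)` inside itself where it stays in `Aut_S(P)`
  have hclaim : ∀ g ∈ A, ∀ r1 ∈ R1, g * r1 * g⁻¹ ∈ R → g * r1 * g⁻¹ ∈ R1 := by
    intro g hg r1 hr1 hgr
    obtain ⟨u, hu, hun, hue⟩ := mem_autInducedBy.1 hr1
    obtain ⟨s, hs, -, hse⟩ := mem_autInducedBy.1 hgr.1
    have huS := h.T1_le hu
    obtain ⟨e, he, hee⟩ := (receptive_iff.1 (receptive_of_fullyNormalized h.pgrp h.sat hn)).2 P _
      (Subgroup.zpowers u) ((mem_autGroup hPS).1 hg.1) (im_afun g) (Subgroup.zpowers_le.2 huS)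
      (Subgroup.zpowers_le.2 hun) fun w hw => by
        obtain ⟨n, rfl⟩ := Subgroup.mem_zpowers_iff.1 hw
        refine ⟨s ^ n, S.zpow_mem hs n, fun x hx => ?_⟩
        have key : ∀ m : ℤ, ∀ x ∈ P, afun (r1 ^ m) x = cj (u ^ m) x := by
          intro m x hx
          have e1 : r1 = nHom S P ⟨u, huS, hun⟩ := afun_ext fun y hy => by
            rw [hue y hy, afun_nHom _ hy]
          rw [e1, ← map_zpow, afun_nHom _ hx]
          rfl
        have key' : ∀ m : ℤ, ∀ x ∈ P, afun ((g * r1 * g⁻¹) ^ m) x = cj (s ^ m) x := by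
          intro m x hx
          have hsn : s ∈ Subgroup.normalizer (P : Set Ω) :=
            mem_normalizer_of_cj_le hPS fun y hy => hse y hy ▸ afun_mem _ hy
          have e1 : g * r1 * g⁻¹ = nHom S P ⟨s, hs, hsn⟩ := afun_ext fun y hy => by
            rw [hse y hy, afun_nHom _ hy]
          rw [e1, ← map_zpow, afun_nHom _ hx]
          rfl
        rw [← key n x hx, ← key' n _ (afun_mem g hx), ← afun_mul _ _ hx, ← afun_mul _ _ hx,
          conj_zpow, inv_mul_cancel_right]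
    have huP : u ∈ P ⊔ Subgroup.zpowers u := Subgroup.mem_sup_right (Subgroup.mem_zpowers u)
    refine mem_autInducedBy.2 ⟨e u, ?_, ?_, fun x hx => ?_⟩
    · exact closed_apply hT1 he (sup_le hP (Subgroup.zpowers_le.2 hu)) huP
    · have := FusionWeaklyNormal88.apply_normalizes he le_sup_left huP hun
      rwa [im_congr hee, im_afun] at this
    · have hy := afun_mem g⁻¹ hx
      conv_rhs => rw [← afun_apply_inv g hx, ← hee _ hy,
        ← he.map_cj huP (Subgroup.mem_sup_left hy), hee _ (cj_mem_of_normalizer hun hy)]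
      rw [afun_mul _ _ hx, afun_mul _ _ hy, hue _ hy]
  -- commutators with `K`
  have hK1 : ∀ g ∈ A, (orderOf g).Coprime p → ∀ k ∈ K, g * k * g⁻¹ * k⁻¹ ∈ R1 := by
    intro g hg hco k hk
    obtain ⟨hgF, b, hb, hbe⟩ := hg
    have hbo : (orderOf b).Coprime p := hco.coprime_dvd_left
      (h.orderOf_red (fun x hx => app_mem_imageAlong hx hPS) le_rfl fun x hx => hbe x hx (hPS hx))
    obtain ⟨f, hf, hfb, hfm⟩ := FusionNormalLifts.mem_wGroup_of_centric h.pgrp' h.sat' h.nor hc
      (fullyCentralized_of_fullyNormalized h.pgrp' h.sat' hn') hb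
    obtain ⟨s, hs, hsn, hse⟩ := mem_autInducedBy.1 (hKS hk)
    have hsC : app θ s ∈ centralizerIn S' (imageAlong θ P) := by
      refine mem_centralizerIn.2 ⟨h.app_mem hs, fun y hy => ?_⟩
      obtain ⟨x, hx, hxS, rfl⟩ := mem_imageAlong.1 hy
      rw [← app_cj hs hxS, ← hse x hx, ((h.mem_kerAut hPS).1 hk).2 x hx]
    obtain ⟨B, hB, hBf⟩ := h.pull hf
    have hsU : s ∈ preimageAlong θ (imageAlong θ P ⊔ centralizerIn S' (imageAlong θ P)) :=
      mem_preimageAlong.2 ⟨hs, Subgroup.mem_sup_right hsC⟩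
    have hPU : P ≤ preimageAlong θ (imageAlong θ P ⊔ centralizerIn S' (imageAlong θ P)) :=
      fun x hx => mem_preimageAlong.2 ⟨hPS hx, Subgroup.mem_sup_left (app_mem_imageAlong hx hPS)⟩
    have hBS := hB.apply_mem hsU
    -- `B s = s w` with `w ∈ P`
    have hwP : s⁻¹ * B s ∈ P := by
      rw [← h.pre_image hPS hZ]
      refine mem_preimageAlong.2 ⟨S.mul_mem (S.inv_mem hs) hBS, ?_⟩
      rw [app_mul (S.inv_mem hs) hBS, app_inv hs, ← hBf s hsU]
      exact hfm _ hsC
    set w := s⁻¹ * B s with hw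
    refine mem_autInducedBy.2 ⟨cj s w, ?_, ?_, fun x hx => ?_⟩
    · exact hP (cj_mem_of_normalizer hsn hwP)
    · exact Subgroup.le_normalizer (cj_mem_of_normalizer hsn hwP)
    have hx1 := afun_mem k⁻¹ hx
    have hy := afun_mem g⁻¹ hx1
    set y := afun g⁻¹ (afun k⁻¹ x)
    have hgy : afun g y = afun k⁻¹ x := afun_apply_inv g hx1
    have hx0 : afun k⁻¹ x = cj s⁻¹ x := by
      have h1 := hse _ hx1
      rw [afun_apply_inv k hx] at h1
      conv_rhs => rw [h1, cj_inv_cj]
    have hzy0 : (B y)⁻¹ * afun g y ∈ Z := h.div_mem (hB.apply_mem (hPU hy)) (hPS (afun_mem g hy))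
      (by rw [← hbe y hy (hPS hy), ← hfb _ (app_mem_imageAlong hy hPS), hBf y (hPU hy)])
    obtain ⟨z, hgyB, hzy⟩ : ∃ z, afun g y = B y * z ∧ z ∈ Z :=
      ⟨_, (mul_inv_cancel_left _ _).symm, hzy0⟩
    have hky : afun k y = cj s y := hse y hy
    set v := y⁻¹ * cj s y with hv
    have hvZ : v ∈ Z := by rw [hv, ← hky]; exact hk.2 y hy
    have hvP : v ∈ P := P.mul_mem (P.inv_mem hy) (cj_mem_of_normalizer hsn hy)
    have e1 : afun g (cj s y) = afun g y * v := by
      rw [show cj s y = y * v by rw [hv, mul_inv_cancel_left], afun_map_mul _ hy hvP,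
        h.fix ((mem_autGroup hPS).1 hgF) hvZ hvP]
    have e2 : cj (B s) (B y) = B y * v := by
      rw [← hB.map_cj hsU (hPU hy), show cj s y = y * v by rw [hv, mul_inv_cancel_left],
        hB.map_mul (hPU hy) (hPU hvP), h.fix hB hvZ (hPU hvP)]
    have hzc : cj (B s) z = z := h.cj_fix hBS hzy
    have hzv : z * v = v * z := by
      have := h.cj_fix (h.Z_le hzy) hvZ
      rwa [cj_apply, mul_inv_eq_iff_eq_mul] at this
    have e3 : cj (B s) (afun g y) = afun g (cj s y) := by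
      rw [e1, hgyB, show cj (B s) (B y * z) = cj (B s) (B y) * cj (B s) z by
        simp [cj_apply, mul_assoc], e2, hzc, mul_assoc (B y) z v, hzv]
      exact mul_assoc (B y) v z
    rw [afun_mul _ _ hx, afun_mul _ _ hx1, afun_mul _ _ (afun_mem g⁻¹ hx1), hky, ← e3, hgy, hx0,
      cj_cj, hw]
    simp [cj_apply, mul_assoc]
  -- all commutators with `K`
  let Cs : Subgroup A :=
    { carrier := {g | ∀ k ∈ K, (g : MulAut P) * k * (g : MulAut P)⁻¹ * k⁻¹ ∈ R1}
      one_mem' := fun k _ => by simp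
      mul_mem' := fun {g g'} hg hg' k hk => by
        set v := (g' : MulAut P) * k * (g' : MulAut P)⁻¹ * k⁻¹ with hv
        have hk' : (g' : MulAut P) * k * (g' : MulAut P)⁻¹ ∈ K := h.kerAut_normal hPS g'.2.1 hk
        have hvK : v ∈ K := mul_mem hk' (inv_mem hk)
        have h1 : (g : MulAut P) * v * (g : MulAut P)⁻¹ ∈ R1 :=
          hclaim _ g.2 v (hg' k hk) (hKR (h.kerAut_normal hPS g.2.1 hvK))
        have h2 := R1.mul_mem h1 (hg k hk)
        simp only [Subgroup.coe_mul, hv] at h2 ⊢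
        convert h2 using 1
        group
      inv_mem' := fun {g} hg k hk => by
        set k' := (g : MulAut P)⁻¹ * k * (g : MulAut P)⁻¹⁻¹ with hk'
        have h1 := R1.inv_mem (hg k' (h.kerAut_normal hPS (inv_mem g.2.1) hk))
        simp only [Subgroup.coe_inv, hk'] at h1 ⊢
        convert h1 using 1
        group }
  obtain ⟨P0, hP0⟩ := hsyl
  haveI : Finite A := Finite.of_injective (Subgroup.inclusion (fun a ha => ha.1 : A ≤ F.autGroup P))
    (Subgroup.inclusion_injective _)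
  have hmemP0 : ∀ {g : A}, g ∈ (P0 : Subgroup A) ↔ (g : MulAut P) ∈ R := fun {g} => by
    rw [hP0, Subgroup.mem_subgroupOf]
  have hcomm : ∀ g : A, ∀ k ∈ K, (g : MulAut P) * k * (g : MulAut P)⁻¹ * k⁻¹ ∈ R1 := by
    suffices (⊤ : Subgroup A) ≤ Cs from fun g => this (x := g) trivial
    rw [← TransferPResidual.sylow_sup_pResidual P0]
    refine sup_le (fun g hg k hk => ?_)
      (TransferPResidual.pResidual_le_iff_coprime.2 fun g hg => hK1 g g.2 (by
        rwa [Subgroup.orderOf_coe]))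
    obtain ⟨r1, hr1, k1, hk1, e⟩ := hdec _ (hmemP0.1 hg)
    obtain ⟨s, hs, hsn, hse⟩ := mem_autInducedBy.1 (hKS hk)
    have hks : k = nHom S P ⟨s, hs, hsn⟩ := afun_ext fun x hx => by
      rw [hse x hx, afun_nHom _ hx]
    have h1 := R1.mul_mem hr1 (cj_autT1 h hT1 ⟨hs, hsn⟩ (R1.inv_mem hr1))
    rw [← hks] at h1
    convert h1 using 1
    rw [e, mul_inv_rev, mul_assoc r1 k1 k, h.kerAut_comm hPS hk1 hk]
    group
  -- the focal subgroup
  have hfocal : (P0 : Subgroup A).focalSubgroup ≤ R1.subgroupOf A := by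
    rw [Subgroup.focalSubgroup_def, Subgroup.closure_le]
    rintro _ ⟨hg, x, hx, u, rfl⟩
    obtain ⟨r1, hr1, k, hk, e⟩ := hdec _ (hmemP0.1 hx)
    have hr1A := h.autT1_le hP hr1
    have huxu : (u : MulAut P) * x * (u : MulAut P)⁻¹ ∈ R := by
      have h1 : u * x * u⁻¹ ∈ (P0 : Subgroup A) := by
        have := mul_mem (inv_mem hg) hx
        simpa [commutatorElement_def, mul_assoc] using this
      simpa using hmemP0.1 h1
    have huk : (u : MulAut P) * k * (u : MulAut P)⁻¹ ∈ K := h.kerAut_normal hPS u.2.1 hk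
    have hur : (u : MulAut P) * r1 * (u : MulAut P)⁻¹ ∈ R1 := by
      refine hclaim _ u.2 r1 hr1 ?_
      have := R.mul_mem huxu (R.inv_mem (hKR huk))
      rw [e] at this
      simpa [mul_assoc] using this
    have h2 := R1.mul_mem (R1.mul_mem hr1 (R1.inv_mem (hcomm u k hk))) (R1.inv_mem hur)
    show ((⁅x, u⁆ : A) : MulAut P) ∈ R1
    simp only [commutatorElement_def, Subgroup.coe_mul, Subgroup.coe_inv, e]
    convert h2 using 1
    group
  -- conclusion
  set O := Cfsg.pResidual p A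
  haveI hOn : O.Normal := inferInstance
  set Bs := R1.subgroupOf A ⊔ O with hBs
  have hRB : ∀ g : A, g ∈ (P0 : Subgroup A) → g ∈ Bs → (g : MulAut P) ∈ R1 := by
    intro g hg hgB
    obtain ⟨r, hr, o, ho, rfl⟩ := Subgroup.mem_sup_of_normal_right.1 hgB
    have hrR : r ∈ (P0 : Subgroup A) := hmemP0.2 (hR1R hr)
    have hoR : o ∈ (P0 : Subgroup A) := by
      have := mul_mem (inv_mem hrR) hg
      rwa [inv_mul_cancel_left] at this
    exact R1.mul_mem hr (hfocal (TransferPResidual.inf_pResidual_le_focal P0 ⟨hoR, ho⟩))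
  have hUA : U ≤ A := hUB.trans (Subgroup.map_subtype_le _)
  obtain ⟨Q, hQ⟩ := (hU.of_equiv (Subgroup.subgroupOfEquivOfLe hUA).symm).exists_le_sylow
  obtain ⟨a, ha⟩ := MulAction.exists_smul_eq A Q P0
  obtain ⟨r, hr, o, ho, rfl⟩ := Subgroup.mem_sup_of_normal_right.1
    ((TransferPResidual.sylow_sup_pResidual P0).ge (Subgroup.mem_top a))
  rw [Nat.card_congr (U.equivMapOfInjective (MulAut.conj (o : MulAut P)).toMonoidHom
    (MulAut.conj (o : MulAut P)).injective).toEquiv]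
  haveI : Finite R1 :=
    Finite.of_injective _ (Subgroup.inclusion_injective (hR1R.trans inf_le_right))
  refine Subgroup.card_le_of_le ?_
  rintro _ ⟨v, hv, rfl⟩
  obtain ⟨v', hv'B, rfl⟩ := hUB hv
  have h1 : r * o * v' * (r * o)⁻¹ ∈ ((r * o) • Q : Sylow p A) := by
    refine Subgroup.mem_map.mpr ⟨v', hQ (Subgroup.mem_subgroupOf.2 hv), ?_⟩
    simp [MulDistribMulAction.toMonoidEnd_apply, mul_assoc]
  rw [ha] at h1
  have h2 : o * v' * o⁻¹ ∈ (P0 : Subgroup A) := by
    have := mul_mem (mul_mem (inv_mem hr) h1) hr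
    simpa [mul_assoc] using this
  have hoB : o ∈ Bs := Subgroup.mem_sup_right ho
  have h3 := hRB _ h2 (mul_mem (mul_mem hoB hv'B) (inv_mem hoB))
  simpa using h3

/-- The centric case of full automization. -/
theorem automized_centric {W : Subgroup Ω} (hW : W ≤ T₁) (hZ : Z ≤ W)
    (hgood : GoodAbove L p (Nat.card W)) (huniv : ∀ Q, (L).IsConj W Q → To L Q W)
    (hc : N.IsCentric (imageAlong θ W)) : (L).IsFullyAutomized p W := by
  have hT1S := h.T1_le
  have hWS := hW.trans hT1S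
  have hT1 : F.StronglyClosed T₁ := h.closedT1
  haveI := finite_of_le hT1S
  haveI := finite_of_le hWS
  haveI := h.finite_S'
  haveI := finite_of_le h.T'_le
  obtain ⟨P, hWP, hP⟩ := FusionSysSaturated.exists_fullyNormalized (F := F) hWS
  obtain ⟨ψ, hψ, hψN, hψP⟩ := exists_map_to_fullyNormalized h.pgrp h.sat hP hWP
  have hψ0 := hψ.restrict_to (le_normalizerIn hWS)
  have hPT : P ≤ T₁ := hψP ▸ im_le_iff.2 fun x hx => closed_apply hT1 hψ0 hW hx
  have hZP : Z ≤ P := hψP ▸ h.le_im hψ0 hZ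
  obtain ⟨g, hg, hge⟩ := h.push hψ0
  have hgP : im (imageAlong θ W) g = imageAlong θ P := by rw [h.image_im hψ0 hge, hψP]
  have hcP : N.IsCentric (imageAlong θ P) := hgP ▸ FusionWeaklyNormal88.centric_image h.inv' hc hg
  have hNW : normalizerIn T₁ W ≤ normalizerIn S W := inf_le_inf_right _ hT1S
  have hψT := hψ.restrict_to hNW
  -- the normalizers correspond
  have hsub : im (normalizerIn T₁ W) ψ = normalizerIn T₁ P := by
    refine eq_of_le_of_card_ge inf_le_left (im_le_iff.2 fun t ht =>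
      ⟨closed_apply hT1 hψT inf_le_left ht, (hψN t (hNW ht)).2⟩) ?_
    rw [hψT.card_im]
    obtain ⟨a, ha, e, he, hfe⟩ := FusionWeaklyNormal88.inv_factor h.inv' (h.image_le_T hW) hg
    have h1 := (h.fullyN_of_univ hW hZ huniv).2 _ (FusionSysBasic.isConj_iff.2 ⟨e, he, rfl⟩)
    have hai := (mem_autGroup h.T'_le).1 (inv_mem ha)
    have heP : im (imageAlong θ P) (afun a⁻¹) = im (imageAlong θ W) e := by
      conv_lhs => rw [← hgP]
      rw [hg.im_comp]
      exact im_congr fun x hx => by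
        rw [Function.comp_apply, hfe x hx, afun_inv_apply a (he.apply_mem hx)]
    have h2 : Nat.card (normalizerIn T' (imageAlong θ P)) ≤
        Nat.card (normalizerIn T' (im (imageAlong θ W) e)) :=
      card_le_of_mor (hai.restrict_to inf_le_left) (inf_le_left.trans h.T'_le) fun n hn =>
        ⟨afun_mem _ hn.1, heP ▸ FusionWeaklyNormal88.apply_normalizes hai (h.image_le_T hPT)
          hn.1 hn.2⟩
    conv_lhs => rw [← h.pre_image hP.1 hZP]
    conv_rhs => rw [← h.pre_image hWS hZ]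
    rw [h.normalizer_pre h.T'_le h.image_le, h.normalizer_pre h.T'_le h.image_le,
      h.card_pre_le_iff (A := normalizerIn T' _) (B := normalizerIn T' _)
        (inf_le_left.trans h.T'_le) (inf_le_left.trans h.T'_le)]
    exact h2.trans h1
  set t := hψ0.transport hψP
  have hmap : (autInducedBy T₁ W).map t.toMonoidHom = autInducedBy T₁ P := by
    ext b
    constructor
    · rintro ⟨a, ha, rfl⟩
      obtain ⟨u, hu, hun, he⟩ := mem_autInducedBy.1 ha
      have huN : u ∈ normalizerIn T₁ W := ⟨hu, hun⟩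
      refine mem_autInducedBy.2 ⟨ψ u, (hsub.le (apply_mem_im huN)).1,
        (hsub.le (apply_mem_im huN)).2, fun y hy => ?_⟩
      obtain ⟨x, hx, rfl⟩ := hψ0.mem_im.1 (hψP.symm ▸ hy)
      show afun (hψ0.transport hψP a) (ψ x) = _
      rw [hψ0.afun_transport hψP a hx, he x hx,
        hψT.map_cj huN (le_normalizerIn hW hx)]
    · intro hb
      obtain ⟨u, hu, hun, he⟩ := mem_autInducedBy.1 hb
      obtain ⟨v, hv, rfl⟩ := hψT.mem_im.1 (hsub.ge ⟨hu, hun⟩)
      refine ⟨nHom T₁ W ⟨v, hv.1, hv.2⟩, mem_autInducedBy.2 ⟨v, hv.1, hv.2, fun x hx =>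
        afun_nHom _ hx⟩, afun_ext fun y hy => ?_⟩
      obtain ⟨x, hx, rfl⟩ := hψ0.mem_im.1 (hψP.symm ▸ hy)
      rw [he _ hy]
      show afun (hψ0.transport hψP _) (ψ x) = _
      rw [hψ0.afun_transport hψP _ hx, afun_nHom _ hx]
      exact hψT.map_cj hv (le_normalizerIn hW hx)
  set A := autN F θ N P with hA
  set B := ((autInducedBy T₁ P).subgroupOf A ⊔ Cfsg.pResidual p A).map A.subtype
  have hAutL : (L).autGroup W ≤ B.comap t.toMonoidHom := by
    refine aut_le_of_coprime (h.pgrp.to_le hT1S) h.generated_lift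
      (fun R f α hG hα => hG.2.2.2.2.2.1 α hα) hW hgood huniv _ (fun a ha => ?_) fun a ha hco => ?_
    · have h1 : t a ∈ autInducedBy T₁ P := hmap.le ⟨a, ha, rfl⟩
      exact ⟨⟨t a, h.autT1_le hPT h1⟩, Subgroup.mem_sup_left (Subgroup.mem_subgroupOf.2 h1), rfl⟩
    · have hm := (mem_autGroup hW).1 ha
      have hamem : t a ∈ A := by
        refine ⟨hψ0.transport_mem hψP (mem_autGroup_of_mor (sub_mor liftSys_sub hm)), ?_⟩
        obtain ⟨g', hg', hge'⟩ := h.ind_of_lift hm
        obtain ⟨b, hb, hbe⟩ := hg'.exists_aut (by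
          rw [h.image_im (sub_mor liftSys_sub hm) hge', im_afun])
        refine ⟨hg.transport hgP b,
          FusionWeaklyNormal88.aut_transport h.inv' (h.image_le_T hW) hg hgP hb, fun y hy _ => ?_⟩
        obtain ⟨x, hx, rfl⟩ := hψ0.mem_im.1 (hψP.symm ▸ hy)
        have hθx := app_mem_imageAlong hx hWS (α := θ)
        rw [← hge x hx, hg.afun_transport hgP b hθx, hbe _ hθx, hge' x hx, hge _ (afun_mem a hx)]
        exact congrArg (app θ) (hψ0.afun_transport hψP a hx).symm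
      refine ⟨⟨t a, hamem⟩, Subgroup.mem_sup_right
        (TransferPResidual.mem_pResidual_of_coprime ?_), rfl⟩
      rwa [Subgroup.orderOf_mk, MulEquiv.orderOf_eq]
  haveI := finite_autGroup (F := L) W
  have hle : autInducedBy T₁ W ≤ (L).autGroup W := autInducedBy_le hW
  refine ⟨hW, (sylIn_iff_card hle).2 (le_antisymm
    (FusionSysNormalizer.sylIn_le_pow (isPGroup_autInducedBy (h.pgrp.to_le hT1S) W) hle) ?_)⟩
  obtain ⟨U⟩ : Nonempty (Sylow p ((L).autGroup W)) := inferInstance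
  set U' := (U : Subgroup ((L).autGroup W)).map ((L).autGroup W).subtype
  have hcU : Nat.card U' = p ^ (Nat.card ((L).autGroup W)).factorization p :=
    (Nat.card_congr ((U : Subgroup ((L).autGroup W)).equivMapOfInjective _
      ((L).autGroup W).subtype_injective).toEquiv).symm.trans U.card_eq_multiplicity
  rw [← hcU, Nat.card_congr (U'.equivMapOfInjective t.toMonoidHom t.injective).toEquiv,
    Nat.card_congr ((autInducedBy T₁ W).equivMapOfInjective t.toMonoidHom t.injective).toEquiv,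
    hmap]
  exact h.card_le_autT1 hPT hZP hP hcP ((U.2.map _).map _)
    (Subgroup.map_le_iff_le_comap.2 ((Subgroup.map_subtype_le _).trans hAutL))

/-- Universal subgroups are fully automized. -/
theorem automized {W : Subgroup Ω} (hW : W ≤ T₁) (hgood : GoodAbove L p (Nat.card W))
    (huniv : ∀ Q, (L).IsConj W Q → To L Q W) : (L).IsFullyAutomized p W := by
  have hT1S := h.T1_le
  have hWS := hW.trans hT1S
  haveI := finite_of_le hT1S
  haveI := finite_of_le hWS
  haveI := h.finite_S'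
  haveI := finite_of_le h.T'_le
  have hS1 : IsPGroup p T₁ := h.pgrp.to_le hT1S
  by_cases hZ : Z ≤ W
  swap
  · obtain ⟨z, hz, hzW⟩ := SetLike.not_le_iff_exists.1 hZ
    have hfix : ∀ w ∈ W, cj z w = w := fun w hw => by
      have := h.cj_fix (hWS hw) hz
      rw [cj_apply, mul_inv_eq_iff_eq_mul] at this
      rw [cj_apply, ← this, mul_inv_cancel_right]
    have hzn : z ∈ normalizerIn T₁ W := ⟨h.Z_le_pre T' hz,
      mem_normalizer_of_cj_le hWS fun w hw => by rwa [hfix w hw]⟩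
    refine automized_of_normal hS1 h.generated_lift hW hgood huniv (fun Q γ hQ hG => ?_)
      (O := ⊥) bot_le (fun a _ o ho => ?_) IsPGroup.of_bot hzn hzW
      (Subgroup.mem_bot.2 (afun_ext fun w hw => by rw [afun_nHom _ hw, afun_one hw, hfix w hw]))
    · obtain ⟨l, hl, hlW⟩ := FusionSysBasic.isConj_iff.1 (isConj_symm hQ)
      exact hZ (hlW ▸ h.le_im (sub_mor liftSys_sub hl) hG.2.1)
    · rw [Subgroup.mem_bot] at ho ⊢; simp [ho]
  by_cases hc : N.IsCentric (imageAlong θ W)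
  · exact h.automized_centric hW hZ hgood huniv hc
  obtain ⟨Q', hQ', c, hc1, hc2⟩ :
      ∃ Q', N.IsConj (imageAlong θ W) Q' ∧ ∃ c ∈ centralizerIn T' Q', c ∉ Q' := by
    by_contra hne
    exact hc ⟨h.image_le_T hW, fun Q' hQ' c hc' =>
      by_contra fun hcQ => hne ⟨Q', hQ', c, hc', hcQ⟩⟩
  obtain ⟨g, hg, rfl⟩ := FusionSysBasic.isConj_iff.1 hQ'
  obtain ⟨l, hl, he⟩ := h.exists_lift hg
  have him := h.im_pull h.image_le (sub_mor liftSys_sub hl) he
  rw [h.pre_image hWS hZ] at hl him he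
  obtain ⟨hQS, k, hk, hkW⟩ := huniv _ (FusionSysBasic.isConj_iff.2 ⟨l, hl, rfl⟩)
  rw [him] at hQS hk hkW
  set Q := preimageAlong θ (im (imageAlong θ W) g) with hQ
  obtain ⟨y, rfl⟩ := h.range_le h.T'_le (mem_centralizerIn.1 hc1).1
  have hyT : (y : Ω) ∈ T₁ :=
    mem_preimageAlong.2 ⟨y.2, by rw [app_apply θ y.2]; exact (mem_centralizerIn.1 hc1).1⟩
  have hyc : ∀ x ∈ Q, app θ (cj (y : Ω) x) = app θ x := fun x hx => by
    rw [app_cj y.2 (mem_preimageAlong.1 hx).1, app_apply θ y.2,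
      (mem_centralizerIn.1 hc1).2 _ (mem_preimageAlong.1 hx).2]
  have hyn : (y : Ω) ∈ normalizerIn T₁ Q := ⟨hyT,
    mem_normalizer_of_cj_le (preimageAlong_le θ _) fun x hx => mem_preimageAlong.2
      ⟨cj_mem_S y.2 (mem_preimageAlong.1 hx).1, by
        rw [hyc x hx]; exact (mem_preimageAlong.1 hx).2⟩⟩
  have hyQ : (y : Ω) ∉ Q := fun hy => hc2 (by
    have := (mem_preimageAlong.1 hy).2
    rwa [app_apply θ y.2] at this)
  have hkmem := mor_normalizer_mem hk hQS hkW hyn
  refine automized_of_normal hS1 h.generated_lift hW hgood huniv (fun R γ hR hG => ?_)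
    (O := kerAut F Z W ⊓ (L).autGroup W) inf_le_right (fun a ha o ho => ?_)
    ((h.kerAut_pGroup hWS).to_le inf_le_left) hkmem (fun e => hyQ ?_) ?_
  · obtain ⟨u, hu, hue⟩ := FusionSysBasic.isConj_iff.1 (isConj_symm hR)
    obtain ⟨g', hg', hge'⟩ := h.ind_of_lift hu
    refine hc (FusCentric.centric_conj hG.2.2.2.2.1 (FusionSysBasic.isConj_iff.2 ⟨g', hg', ?_⟩))
    rw [h.image_im (sub_mor liftSys_sub hu) hge', hue]
  · exact ⟨h.kerAut_normal hWS (mem_autGroup_of_mor (sub_mor liftSys_sub ((mem_autGroup hW).1 ha)))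
      ho.1, ((L).autGroup W).mul_mem (((L).autGroup W).mul_mem ha ho.2)
      (((L).autGroup W).inv_mem ha)⟩
  · obtain ⟨x, hx, hxe⟩ := (hk.restrict_to (le_normalizerIn hQS)).mem_im.1 (hkW.ge e)
    exact hk.injOn (le_normalizerIn hQS hx) hyn hxe ▸ hx
  · have hmemL := autInducedBy_le (F := L) hW
      ((autInducedBy_eq_range T₁ W).ge ⟨⟨k (y : Ω), hkmem⟩, rfl⟩)
    refine ⟨⟨mem_autGroup_of_mor (sub_mor liftSys_sub ((mem_autGroup hW).1 hmemL)),
      fun w hw => ?_⟩, hmemL⟩
    obtain ⟨x, hx, rfl⟩ := (hk.restrict_to (le_normalizerIn hQS)).mem_im.1 (hkW.ge hw)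
    have hxN := le_normalizerIn hQS hx
    have hxy := le_normalizerIn hQS (cj_mem_of_normalizer hyn.2 hx)
    rw [afun_nHom _ (hkW ▸ apply_mem_im hx), ← hk.map_cj hyn hxN, ← hk.map_inv hxN,
      ← hk.map_mul (inv_mem hxN) hxy]
    have hd : x⁻¹ * cj (y : Ω) x ∈ Z := h.div_mem (mem_preimageAlong.1 hx).1
      (cj_mem_S y.2 (mem_preimageAlong.1 hx).1) (hyc x hx).symm
    rw [h.fix (sub_mor liftSys_sub hk) hd (mul_mem (inv_mem hxN) hxy)]
    exact hd

/-- The lifted system is saturated. -/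
theorem saturated_lift : (L).IsSaturated p := by
  have hT1S := h.T1_le
  haveI := finite_of_le hT1S
  have hS1 : IsPGroup p T₁ := h.pgrp.to_le hT1S
  refine saturated_of_classes fun P hP hgood => ?_
  obtain ⟨W, hPW, hWn, huniv⟩ := exists_universal hS1 h.generated_lift hP hgood
  rw [FusionSysBasic.isConj_card hPW] at hgood
  have hW := hWn.1
  have ha := h.automized hW hgood huniv
  refine ⟨W, hPW, ha, receptive_iff.2 ⟨hW, fun Q f M hf him hMS hMn hM => ?_⟩⟩
  obtain ⟨hQS, k, hk, hkW⟩ := huniv Q (isConj_symm (FusionSysBasic.isConj_iff.2 ⟨f, hf, him⟩))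
  have hkQ := hk.restrict_to (le_normalizerIn hQS)
  obtain ⟨ki, hki, hkik, -, hkiQ⟩ := hkQ.exists_inv
  rw [hkW] at hki hkiQ
  have hb : Mor L W (f ∘ ki) := hki.comp hf hkiQ
  obtain ⟨β, hβ, hβe⟩ := hb.exists_aut (hb.im_self fun w hw => him ▸ apply_mem_im (hkiQ w hw))
  have hMN : M ≤ normalizerIn T₁ Q := le_inf hMS hMn
  have hkM := hk.restrict_to hMN
  obtain ⟨e, he, hee⟩ := h.extends_aut hW hgood huniv ha hβ (M := im M k)
    (im_le_iff.2 fun s hs => mor_normalizer_mem hk hQS hkW (hMN hs)) fun s hs => by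
      obtain ⟨v, hv, rfl⟩ := hkM.mem_im.1 hs
      obtain ⟨j, hj, hje⟩ := hM v hv
      refine ⟨j, hj, fun w hw => ?_⟩
      obtain ⟨x, hx, rfl⟩ := hkQ.mem_im.1 (hkW.ge hw)
      have hvx := cj_mem_of_normalizer (hMn hv) hx
      rw [← hk.map_cj (hMN hv) (le_normalizerIn hQS hx), hβe _ (hkW ▸ apply_mem_im hvx),
        hβe _ (hkW ▸ apply_mem_im hx), Function.comp_apply, Function.comp_apply, hkik _ hvx,
        hkik x hx, hje x hx]
  refine ⟨e ∘ k, (hk.restrict_to (sup_le (le_normalizerIn hQS) hMN)).comp he fun y hy =>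
    mor_sup_induction (hk.restrict_to (sup_le (le_normalizerIn hQS) hMN))
      (fun x hx => Subgroup.mem_sup_left (hkW ▸ apply_mem_im hx))
      (fun x hx => Subgroup.mem_sup_right (apply_mem_im hx)) hy, fun x hx => ?_⟩
  have hkx : k x ∈ W := hkW ▸ apply_mem_im hx
  rw [Function.comp_apply, hee _ hkx, hβe _ hkx, Function.comp_apply, hkik x hx]

/-- `Aut_F(T₁)` induces automorphisms of the image in `F'`. -/
theorem exists_red_T1 {a : MulAut ↥(T₁)} (ha : a ∈ F.autGroup T₁) :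
    ∃ b ∈ F'.autGroup T', ∀ x ∈ T₁, afun b (app θ x) = app θ (afun a x) := by
  obtain ⟨g, hg, hge⟩ := h.push ((mem_autGroup h.T1_le).1 ha)
  rw [h.image_pre h.T'_le] at hg
  obtain ⟨b, hb, hbe⟩ := hg.exists_aut (by
    conv_lhs => rw [← h.image_pre h.T'_le]
    rw [h.image_im ((mem_autGroup h.T1_le).1 ha) hge, im_afun, h.image_pre h.T'_le])
  exact ⟨b, hb, fun x hx => by rw [hbe _ (mem_preimageAlong.1 hx).2, hge x hx]⟩

/-- The lifted system is invariant under `Aut_F(T₁)`. -/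
theorem lift_conj {P : Subgroup Ω} {f : Ω → Ω} (hf : Mor L P f) {a : MulAut ↥(T₁)}
    (ha : a ∈ F.autGroup T₁) : Mor L (im P (afun a)) (afun a ∘ f ∘ afun a⁻¹) := by
  have hT1S := h.T1_le
  haveI := finite_of_le hT1S
  suffices ∀ a ∈ F.autGroup T₁, Mor L (im P (afun a)) (afun a ∘ f ∘ afun a⁻¹) from this a ha
  refine lift_induction (F := F) (Φ := fun P f => P ≤ T₁ ∧ (∀ x ∈ P, f x ∈ T₁) ∧
    ∀ a ∈ F.autGroup T₁, Mor L (im P (afun a)) (afun a ∘ f ∘ afun a⁻¹)) ?_ ?_ hf |>.2.2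
  · have hm : ∀ {a : MulAut ↥(T₁)}, a ∈ F.autGroup T₁ → Mor F T₁ (afun a) := fun ha =>
      (mem_autGroup hT1S).1 ha
    exact
    { congr := fun {P f g} ⟨hP, hfT, hk⟩ he => ⟨hP, fun x hx => he x hx ▸ hfT x hx, fun a ha =>
        (hk a ha).congr fun y hy => by
          obtain ⟨x, hx, rfl⟩ := ((hm ha).restrict_to hP).mem_im.1 hy
          simp only [Function.comp_apply, afun_inv_apply a (hP hx), he x hx]⟩
      conj := fun {P g} hP hg => ⟨hP, fun x hx => cj_mem_S hg (hP hx), fun a ha => by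
        have hle : im P (afun a) ≤ T₁ := im_le_iff.2 fun x hx => afun_mem a (hP hx)
        refine (mor_cj hle (afun_mem a hg)).congr fun y hy => ?_
        obtain ⟨x, hx, rfl⟩ := ((hm ha).restrict_to hP).mem_im.1 hy
        simp only [Function.comp_apply, afun_inv_apply a (hP hx), (hm ha).map_cj hg (hP hx)]⟩
      comp := fun {P Q f g} _ _ _ _ hfQ ⟨hP, hfT, hk⟩ ⟨hQ, hgT, hk'⟩ => ⟨hP,
        fun x hx => hgT _ (hfQ x hx), fun a ha => by
          refine ((hk a ha).comp (hk' a ha) fun y hy => ?_).congr fun y hy => ?_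
          · obtain ⟨x, hx, rfl⟩ := ((hm ha).restrict_to hP).mem_im.1 hy
            simp only [Function.comp_apply, afun_inv_apply a (hP hx)]
            exact apply_mem_im (hfQ x hx)
          · obtain ⟨x, hx, rfl⟩ := ((hm ha).restrict_to hP).mem_im.1 hy
            simp only [Function.comp_apply, afun_inv_apply a (hP hx), afun_inv_apply a (hfT x hx)]⟩
      inv := fun {P f g} hf _ _ hgf ⟨hP, hfT, hk⟩ => by
        refine ⟨im_le_iff.2 hfT, fun y hy => ?_, fun a ha => ?_⟩
        · obtain ⟨x, hx, rfl⟩ := hf.mem_im.1 hy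
          rw [hgf x hx]; exact hP hx
        obtain ⟨i, hi, hif, -, -⟩ := (hk a ha).exists_inv
        have e : im (im P (afun a)) (afun a ∘ f ∘ afun a⁻¹) = im (im P f) (afun a) := by
          rw [((hm ha).restrict_to hP).im_comp, hf.im_comp]
          exact im_congr fun x hx => by simp [afun_inv_apply a (hP hx)]
        rw [e] at hi
        refine hi.congr fun y hy => ?_
        obtain ⟨z, hz, rfl⟩ := ((hm ha).restrict_to (im_le_iff.2 hfT)).mem_im.1 hy
        obtain ⟨x, hx, rfl⟩ := hf.mem_im.1 hz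
        have h1 := hif (afun a x) (apply_mem_im hx)
        simp only [Function.comp_apply, afun_inv_apply a (hP hx)] at h1
        simp only [Function.comp_apply, afun_inv_apply a (hfT x hx), hgf x hx, h1] }
  · intro R f hG
    refine ⟨hG.1, fun x hx => hG.1 (hG.2.2.2.1.le (apply_mem_im hx)), fun a ha => ?_⟩
    obtain ⟨hRT, hZR, hfm, hfR, hRc, hco, g, hg, hge⟩ := hG
    have haR := ((mem_autGroup hT1S).1 ha).restrict_to hRT
    obtain ⟨α, hα, hαe⟩ := hfm.exists_aut hfR
    obtain ⟨b, hb, hbe⟩ := h.exists_red_T1 ha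
    have hbm := ((mem_autGroup h.T'_le).1 hb).restrict_to (h.image_le_T hRT)
    have himR : imageAlong θ (im R (afun a)) = im (imageAlong θ R) (afun b) :=
      (h.image_im haR fun x hx => hbe x (hRT hx)).symm
    have heq : ∀ y ∈ im R (afun a),
        afun (haR.transport rfl α) y = (afun a ∘ f ∘ afun a⁻¹) y := fun y hy => by
      obtain ⟨x, hx, rfl⟩ := haR.mem_im.1 hy
      rw [haR.afun_transport rfl α hx, hαe x hx]
      simp only [Function.comp_apply, afun_inv_apply a (hRT hx)]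
    have hmorF := ((mem_autGroup haR.im_le).1 (haR.transport_mem rfl hα)).congr heq
    refine gam_mor ⟨im_le_iff.2 fun x hx => afun_mem a (hRT hx), h.le_im haR hZR, hmorF,
      (im_congr heq).symm.trans (im_afun _), ?_, fun β hβ => ?_, ?_⟩
    · rw [himR]; exact FusionWeaklyNormal88.centric_image h.inv' hRc hbm
    · have e : β = haR.transport rfl α := afun_ext fun y hy => by rw [hβ y hy, heq y hy]
      rw [e, MulEquiv.orderOf_eq]
      exact hco α hαe
    · have h1 := FusionWeaklyNormal88.inv_mor h.inv' hg hb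
      rw [← himR] at h1
      refine ⟨_, h1, fun y hy => ?_⟩
      obtain ⟨x, hx, rfl⟩ := haR.mem_im.1 hy
      have hθx : app θ x ∈ T' := (mem_preimageAlong.1 (hRT hx)).2
      simp only [Function.comp_apply, afun_inv_apply a (hRT hx)]
      rw [← hbe x (hRT hx), afun_inv_apply b hθx, hge x hx,
        hbe (f x) (hRT (hfR.le (apply_mem_im hx)))]

omit h [Finite S] [Fact p.Prime] in
theorem dec_le {P : Subgroup Ω} {f : Ω → Ω} (hd : Dec F Z θ N p P f) : ∀ x ∈ P, f x ∈ T₁ := by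
  obtain ⟨a, -, e, he, hfe⟩ := hd
  exact fun x hx => hfe x hx ▸ afun_mem a (he.apply_mem hx)

theorem dec_comp {P Q : Subgroup Ω} {f g : Ω → Ω} (hf : Dec F Z θ N p P f)
    (hg : Dec F Z θ N p Q g) (hfQ : ∀ x ∈ P, f x ∈ Q) : Dec F Z θ N p P (g ∘ f) := by
  obtain ⟨a, ha, e, he, hfe⟩ := hf
  obtain ⟨b, hb, e', he', hge⟩ := hg
  refine ⟨b * a, mul_mem hb ha, (afun a⁻¹ ∘ e' ∘ afun a) ∘ e, ?_, fun x hx => ?_⟩
  · refine he.comp (?_ : Mor L (im Q (afun a⁻¹)) (afun a⁻¹ ∘ e' ∘ afun a)) fun x hx => ?_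
    · have := h.lift_conj he' (inv_mem ha)
      rwa [inv_inv] at this
    · have h1 := hfQ x hx
      rw [hfe x hx] at h1
      rw [← afun_inv_apply a (he.apply_mem hx)]
      exact apply_mem_im h1
  · have h1 : afun a (e x) ∈ Q := hfe x hx ▸ hfQ x hx
    simp only [Function.comp_apply]
    rw [hfe x hx, hge _ h1, afun_mul _ _ (afun_mem _ (he'.apply_mem h1)),
      afun_apply_inv a (he'.apply_mem h1)]

theorem dec_inv {P : Subgroup Ω} {f g : Ω → Ω} (hfm : Mor F P f) (hgf : ∀ x ∈ P, g (f x) = x)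
    (hf : Dec F Z θ N p P f) : Dec F Z θ N p (im P f) g := by
  obtain ⟨a, ha, e, he, hfe⟩ := hf
  obtain ⟨i, hi, hie, -, -⟩ := he.exists_inv
  have h1 := h.lift_conj hi ha
  have e1 : im (im P e) (afun a) = im P f := by
    rw [he.im_comp]; exact im_congr fun x hx => (hfe x hx).symm
  rw [e1] at h1
  refine ⟨a⁻¹, inv_mem ha, _, h1, fun y hy => ?_⟩
  obtain ⟨x, hx, rfl⟩ := hfm.mem_im.1 hy
  simp only [Function.comp_apply, hfe x hx, afun_inv_apply a (he.apply_mem hx), hie x hx]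
  rw [← hfe x hx, hgf x hx, afun_inv_apply a (he.le hx)]

/-- A decomposable map with the same reduction. -/
theorem exists_dec_lift {P : Subgroup Ω} (hP : P ≤ T₁) (hZ : Z ≤ P) {f : Ω → Ω}
    (hf : Mor F P f) :
    ∃ u, Dec F Z θ N p P u ∧ Mor F P u ∧ im P u = im P f ∧
      ∀ x ∈ P, app θ (u x) = app θ (f x) := by
  have hT1S := h.T1_le
  obtain ⟨g, hg, hge⟩ := h.push hf
  obtain ⟨b, hb, e, he, hfe⟩ := FusionWeaklyNormal88.inv_factor h.inv' (h.image_le_T hP) hg
  obtain ⟨a, ha, hab, -⟩ := h.exists_lift_aut h.T'_le hb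
  obtain ⟨l, hl, hle⟩ := h.exists_lift he
  rw [h.pre_image hf.le hZ] at hl hle
  have hum : Mor F P (afun a ∘ l) := (sub_mor liftSys_sub hl).comp
    ((mem_autGroup hT1S).1 ha) fun x hx => hl.apply_mem hx
  have hcomp : ∀ x ∈ P, app θ ((afun a ∘ l) x) = app θ (f x) := fun x hx => by
    have hθx := app_mem_imageAlong hx hf.le (α := θ)
    rw [Function.comp_apply, ← hab _ (hl.apply_mem hx), ← hle x hx, ← hfe _ hθx, hge x hx]
  refine ⟨_, ⟨a, ha, l, hl, fun x _ => rfl⟩, hum, ?_, hcomp⟩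
  show im P (afun a ∘ l) = im P f
  rw [← h.pre_image hum.im_le (h.le_im hum hZ), ← h.pre_image hf.im_le (h.le_im hf hZ)]
  congr 1
  rw [← h.image_im hum (g := g) fun x hx => by rw [hge x hx, hcomp x hx], h.image_im hf hge]

/-- Every map of `F` inside `T₁` decomposes. -/
theorem dec_of_mor {P : Subgroup Ω} (hP : P ≤ T₁) {f : Ω → Ω} (hf : Mor F P f) :
    Dec F Z θ N p P f := by
  have hT1S := h.T1_le
  haveI := finite_of_le hT1S
  have hT1 : F.StronglyClosed T₁ := h.closedT1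
  -- automorphisms trivial modulo `Z`
  have hker : ∀ {Q : Subgroup Ω}, Q ≤ T₁ → Z ≤ Q → ∀ k ∈ kerAut F Z Q,
      Dec F Z θ N p Q (afun k) := by
    intro Q hQ hZQ k hk
    have hQS := hQ.trans hT1S
    obtain ⟨R, hQR, hR⟩ := FusionSysSaturated.exists_fullyNormalized (F := F) hQS
    obtain ⟨g0, hg0, hg0R⟩ := FusionSysBasic.isConj_iff.1 hQR
    obtain ⟨u, hu, hum, huim, -⟩ := h.exists_dec_lift hQ hZQ hg0
    rw [hg0R] at huim
    have hRT : R ≤ T₁ := huim ▸ im_le_iff.2 (dec_le hu)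
    haveI := finite_of_le hR.1
    set k' := hum.transport huim k with hk'
    have hk'K : k' ∈ kerAut F Z R := by
      refine ⟨hum.transport_mem huim hk.1, fun y hy => ?_⟩
      obtain ⟨x, hx, rfl⟩ := hum.mem_im.1 (huim.symm ▸ hy)
      have hd : x⁻¹ * afun k x ∈ Q := Q.mul_mem (Q.inv_mem hx) (afun_mem k hx)
      rw [hk', hum.afun_transport huim k hx, ← hum.map_inv hx,
        ← hum.map_mul (Q.inv_mem hx) (afun_mem k hx), h.fix hum (hk.2 x hx) hd]
      exact hk.2 x hx
    obtain ⟨s, hs, hsn, hse⟩ := mem_autInducedBy.1 (le_autInducedBy_of_normal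
      (fullyAutomized_of_fullyNormalized h.pgrp h.sat hR) (O := kerAut F Z R) (fun a ha => ha.1)
      (h.kerAut_pGroup hR.1) (fun a ha o ho => h.kerAut_normal hR.1 ha ho) hk'K)
    have hcs : Dec F Z θ N p R (cj s) := by
      obtain ⟨a, ha, hae⟩ := (mor_cj (F := F) hT1S hs).exists_aut
        ((mor_cj (F := F) hT1S hs).im_self fun x hx => cj_mem_of_stronglyClosed hT1 hs hx)
      exact ⟨a, ha, fun x => x, mor_id hRT, fun x hx => (hae x (hRT hx)).symm⟩
    obtain ⟨ui, -, huiu, -, -⟩ := hum.exists_inv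
    have hdi : Dec F Z θ N p R ui := huim ▸ h.dec_inv hum huiu hu
    have hall := h.dec_comp (h.dec_comp hu hcs fun x hx => huim ▸ apply_mem_im hx) hdi
      fun x hx => by
        rw [Function.comp_apply, ← hse _ (huim ▸ apply_mem_im hx)]
        exact afun_mem k' (huim ▸ apply_mem_im hx)
    obtain ⟨a, ha, e, he, hfe⟩ := hall
    refine ⟨a, ha, e, he, fun x hx => ?_⟩
    rw [← hfe x hx, Function.comp_apply, Function.comp_apply, ← hse _ (huim ▸ apply_mem_im hx),
      hk', hum.afun_transport huim k hx, huiu _ (afun_mem k hx)]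
  -- enlarge by `Z`
  obtain ⟨ψ, hψ, hψe, -⟩ := (isCentral_iff.1 h.cen).2 P f hf
  have hP' : P ⊔ Z ≤ T₁ := sup_le hP (h.Z_le_pre T')
  suffices Dec F Z θ N p (P ⊔ Z) ψ by
    obtain ⟨a, ha, e, he, hfe⟩ := this
    exact ⟨a, ha, e, he.restrict_to le_sup_left, fun x hx => by
      rw [← hψe x hx, hfe x (Subgroup.mem_sup_left hx)]⟩
  obtain ⟨u, hu, hum, huim, hue⟩ := h.exists_dec_lift hP' le_sup_right hψ
  obtain ⟨ui, hui, huiu, huui, huiP⟩ := hum.exists_inv
  rw [huim] at hui huui huiP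
  have hkm : Mor F (P ⊔ Z) (ui ∘ ψ) := hψ.comp_im hui
  obtain ⟨k, hk, hke⟩ := hkm.exists_aut (hkm.im_self fun x hx => huiP _ (apply_mem_im hx))
  have hkK : k ∈ kerAut F Z (P ⊔ Z) := by
    refine ⟨hk, fun x hx => ?_⟩
    have hkx := afun_mem k hx
    have h1 : app θ (u (afun k x)) = app θ (u x) := by
      rw [hke x hx, Function.comp_apply, huui _ (apply_mem_im hx), hue x hx]
    have hd := h.div_mem (hum.apply_mem hx) (hum.apply_mem hkx) h1.symm
    have hxk := mul_mem (inv_mem hx) hkx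
    rw [← hum.map_inv hx, ← hum.map_mul (inv_mem hx) hkx] at hd
    have h2 : u (u (x⁻¹ * afun k x)) = u (x⁻¹ * afun k x) := h.fix hum hd (Subgroup.mem_sup_right hd)
    rwa [hum.injOn (Subgroup.mem_sup_right hd) hxk h2] at hd
  obtain ⟨a, ha, e, he, hfe⟩ :=
    h.dec_comp (hker hP' le_sup_right k hkK) hu fun x hx => afun_mem k hx
  refine ⟨a, ha, e, he, fun x hx => ?_⟩
  rw [← hfe x hx, Function.comp_apply, hke x hx, Function.comp_apply, huui _ (apply_mem_im hx)]

/-- The lifted system is invariant. -/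
theorem invariant_lift : (L).IsInvariantIn F := by
  refine FusionIso88.invariant_iff.2 ⟨liftSys_sub, h.closedT1, fun P f hf a ha => ?_,
    fun P f hP hf => h.dec_of_mor hP hf⟩
  refine ⟨_, h.lift_conj hf ha, fun x hx => ?_⟩
  simp only [Function.comp_apply, afun_inv_apply a (hf.le hx)]

theorem weaklyNormal_lift : (L).IsWeaklyNormalIn F p :=
  ⟨h.saturated_lift, h.sat, h.invariant_lift⟩

/-- The preimage of `T'` carries a normal subsystem of `F` all whose maps induce maps of `N`. -/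
theorem exists_normal_preimage :
    ∃ D : FusionSystem (preimageAlong θ T'), D.IsNormalIn F p ∧
      ∀ P f, Mor D P f → Ind N θ P f := by
  have hT1S := h.T1_le
  haveI := finite_of_le hT1S
  have hS1 : IsPGroup p T₁ := h.pgrp.to_le hT1S
  refine ⟨FusionPrimeIndex88.EH L p (FusionPrimeIndex88.A0 L p),
    FusionResidualNormal88.normal_EH h.pgrp h.weaklyNormal_lift
      (FusionPrimeIndex88.saturated_EH hS1 h.saturated_lift le_rfl) (fun _ _ => Iff.rfl),
    fun P f hf => h.ind_of_lift (sub_mor ?_ hf)⟩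
  exact fun P φ hφ => hφ.1

end Setup

end Cfsg.Agent.FusionCentralLift
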