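import Cfsg.Agent.Lib.FusionConstrained88
import Cfsg.Prelude.Def_FusionComponents

/-!
A weakly normal subsystem of a constrained fusion system is constrained.
-/

set_option autoImplicit false

namespace Cfsg.Agent.FusionConstrainedSub

open Cfsg Cfsg.FusionSystem Cfsg.Agent.FusionSysBasic Cfsg.Agent.FusionSysNormal
open Cfsg.Agent.FusionSysChain
open scoped commutatorElement

variable {Ω : Type*} [Group Ω] {S : Subgroup Ω} [Finite S] {p : ℕ} [Fact p.Prime]
  {F : Cfsg.FusionSystem S}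

/-- A weakly normal subsystem of a constrained system is constrained. -/
theorem constrained_weaklyNormal (hS : IsPGroup p S) (hF : F.IsConstrained p) {T : Subgroup Ω}
    {E : Cfsg.FusionSystem T} (hE : E.IsWeaklyNormalIn F p) : E.IsConstrained p := by
  obtain ⟨hFs, R, hR, hRc⟩ := hF
  obtain ⟨hEs, -, hsub, hT, -⟩ := hE
  have hTS : T ≤ S := hT.1
  haveI := finite_of_le hTS
  have hsubm : ∀ P f, Mor E P f → Mor F P f := fun P f ⟨φ, hφ, he⟩ => ⟨φ, hsub P hφ, he⟩
  obtain ⟨n, X, hX0, hXn, hXmono, hXn', hXc⟩ := exists_chain_of_normal hS hR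
  have hclosed : ∀ U : Subgroup Ω, F.StronglyClosed U → E.StronglyClosed (U ⊓ T) := fun U hU =>
    stronglyClosed_iff.mpr ⟨inf_le_right, fun P f hP hf x hx =>
      ⟨(stronglyClosed_iff.mp hU).2 P f (hP.trans inf_le_left) (hsubm P f hf) x hx,
        hf.apply_mem hx⟩⟩
  have hQn : E.IsNormal (R ⊓ T) := by
    refine isNormal_of_chain (hS.to_le hTS) hEs (n := n) (fun i => X i ⊓ T) (by simp [hX0])
      (by simp [hXn]) (hclosed R (stronglyClosed_of_normal hR))
      (fun i _ => inf_le_inf_right T (hXmono (Nat.le_succ i)))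
      (fun i _ => hclosed _ (stronglyClosed_of_normal (hXn' _))) fun i _ => ?_
    refine Subgroup.commutator_le.mpr fun a ha b hb => ⟨hXc i (Subgroup.commutator_mem_commutator
      ha.1 hb.1), ?_⟩
    rw [SetLike.mem_coe, commutatorElement_def]
    exact T.mul_mem (T.mul_mem (T.mul_mem ha.2 hb.2) (T.inv_mem ha.2)) (T.inv_mem hb.2)
  refine FusionConstrained88.constrained_of_normal (hS.to_le hTS) hEs hQn ?_
  refine Subgroup.commutator_le.mpr fun a ha b hb => ?_
  obtain ⟨haT, ha⟩ := mem_centralizerIn.mp ha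
  obtain ⟨hbT, hb⟩ := mem_centralizerIn.mp hb
  have hn : ∀ g ∈ S, g ∈ Subgroup.normalizer (R : Set Ω) := fun g hg =>
    le_normalizer_of_normal hR hg
  have htr : ∀ x ∈ R, ∀ g ∈ T, x⁻¹ * cj g x ∈ R ⊓ T := fun x hx g hg => by
    refine ⟨R.mul_mem (R.inv_mem hx) (cj_mem_of_normalizer (hn g (hTS hg)) hx), ?_⟩
    have h1 : cj x⁻¹ g ∈ T := cj_mem_of_stronglyClosed hT (S.inv_mem (hR.1 hx)) hg
    have h2 := T.mul_mem h1 (T.inv_mem hg)
    rw [SetLike.mem_coe]
    simpa [cj_apply, mul_assoc] using h2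
  have hz : ∀ x ∈ R, ∀ g, g ∈ T → (∀ q ∈ R ⊓ T, cj g q = q) → ∀ q ∈ R ⊓ T,
      x⁻¹ * cj g x * q = q * (x⁻¹ * cj g x) := by
    intro x hx g hg hgf q hq
    have hxq : cj x q ∈ R ⊓ T :=
      ⟨R.mul_mem (R.mul_mem hx hq.1) (R.inv_mem hx), cj_mem_of_stronglyClosed hT (hR.1 hx) hq.2⟩
    have e1 := hgf _ hxq
    have e2 := hgf q hq
    simp only [cj_apply] at e1 e2 ⊢
    calc x⁻¹ * (g * x * g⁻¹) * q = x⁻¹ * (g * x * g⁻¹) * (g * q * g⁻¹) := by rw [e2]
      _ = x⁻¹ * (g * (x * q * x⁻¹) * g⁻¹) * (g * x * g⁻¹) := by group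
      _ = x⁻¹ * (x * q * x⁻¹) * (g * x * g⁻¹) := by rw [e1]
      _ = q * (x⁻¹ * (g * x * g⁻¹)) := by group
  have hcomm : ∀ x ∈ R, cj ⁅a, b⁆ x = x := fun x hx =>
    FusionConstrained88.comm_centralizes (hn b (hTS hbT)) (hn a (hTS haT)) (fun y hy =>
      ⟨ha _ (htr y hy b hbT), hb _ (htr y hy a haT),
        hz y hy a haT ha _ (htr y hy b hbT)⟩) hx
  have hmem : ⁅a, b⁆ ∈ T := by
    rw [commutatorElement_def]
    exact T.mul_mem (T.mul_mem (T.mul_mem haT hbT) (T.inv_mem haT)) (T.inv_mem hbT)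
  exact ⟨hRc.2 R (isConj_refl hR.1) (mem_centralizerIn.mpr ⟨hTS hmem, hcomm⟩), hmem⟩

omit [Finite S] [Fact p.Prime] in
/-- A subnormal subsystem of a constrained system is constrained. -/
theorem constrained_subnormalIn {T : Subgroup Ω} {E : Cfsg.FusionSystem T}
    (h : E.IsSubnormalIn F p) : ∀ (_ : Fact p.Prime) (_ : Finite S), IsPGroup p S → F.IsConstrained p →
      E.IsConstrained p := by
  induction h with
  | refl => exact fun _ _ _ h => h
  | step _ hn ih =>
    intro _ _ hS hF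
    have hle := hn.1.2.2.2.1.1
    exact ih inferInstance (finite_of_le hle) (hS.to_le hle) (constrained_weaklyNormal hS hF hn.1)

end Cfsg.Agent.FusionConstrainedSub
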