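import Cfsg.Prelude.Def_FusionReduction
import Cfsg.Agent.Lib.FusionWeakAlperin

/-!
Consequences of weak Alperin: comparison of subsystems of `p`-power index, the Frobenius criterion,
uniqueness of residual limits.
-/

set_option autoImplicit false

namespace Cfsg.Agent.FusionPPower

open Cfsg Cfsg.FusionSystem Cfsg.Agent.FusionSysBasic Cfsg.Agent.FusionSysSaturated
open Cfsg.Agent.FusionWeakAlperin Cfsg.Agent.TransferPResidual

variable {Ω : Type*} [Group Ω] {S T U : Subgroup Ω} {p : ℕ}

theorem le_of_subsystem {E : FusionSystem T} {F : FusionSystem S} (h : E.IsSubsystemOf F) :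
    T ≤ S :=
  (F.le_of_mem (h T (E.conj_mem le_rfl T.one_mem))).1

theorem autGroup_mono' {E : FusionSystem T} {F : FusionSystem S} (h : E.IsSubsystemOf F)
    (P : Subgroup Ω) : E.autGroup P ≤ F.autGroup P :=
  Subgroup.closure_mono fun _ hα => h P hα

theorem base_eq {E : FusionSystem T} {F : FusionSystem S} (h : ∀ P, E.Hom P = F.Hom P) : T = S :=
  le_antisymm (le_of_subsystem fun P => (h P).le) (le_of_subsystem fun P => (h P).ge)

theorem hom_ext {E F : FusionSystem S} (h : ∀ P, E.Hom P = F.Hom P) : E = F := by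
  have h' : E.Hom = F.Hom := funext h
  cases E; cases F; subst h'; rfl

theorem eq_of_le {E F : FusionSystem S} (h₁ : E.IsSubsystemOf F) (h₂ : F.IsSubsystemOf E) :
    E = F :=
  hom_ext fun P => (h₁ P).antisymm (h₂ P)

/-- A map between the automizers preserves `O^p`. -/
theorem map_pResidual_le_of_coprime {G : Type*} [Group G] {A : Subgroup G} {B : Subgroup G}
    (h : ∀ a ∈ A, (orderOf a).Coprime p → a ∈ B) :
    (Cfsg.pResidual p A).map A.subtype ≤ B := by
  rw [Subgroup.map_le_iff_le_comap, pResidual_le_iff_coprime]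
  intro a ha
  exact h a a.2 (by rwa [Subgroup.orderOf_coe])

/-- A saturated subsystem `E` of `F` lies in every subsystem containing all automorphisms of
order prime to `p` of its objects and the conjugations by its base. -/
theorem le_of_pPower [Finite S] [Fact p.Prime] (hS : IsPGroup p S) {F : FusionSystem S}
    {E : FusionSystem T} (hE : E.IsSaturated p) (hEF : E.IsSubsystemOf F) {D : FusionSystem U}
    (hTU : T ≤ U)
    (h : ∀ P, P ≤ T → ∀ α ∈ F.autGroup P, (orderOf α).Coprime p → α ∈ D.autGroup P) :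
    E.IsSubsystemOf D := by
  have hTS := le_of_subsystem hEF
  haveI := finite_of_le hTS
  refine le_of_autGroup (hS.to_le hTS) hE D fun R hR α hα => ?_
  refine (mem_autGroup (hR.1.trans hTU)).mp
    (autGroup_le_of_fullyNormalized (hS.to_le hTS) hE hR ?_ ?_ hα)
  · exact map_pResidual_le_of_coprime fun a ha hc => h R hR.1 a (autGroup_mono' hEF R ha) hc
  · exact (autInducedBy_mono hTU R).trans (autInducedBy_le (hR.1.trans hTU))

/-- The Frobenius criterion: if all automizers are `p`-groups, the system is inner. -/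
theorem hom_eq_inner [Finite S] [Fact p.Prime] (hS : IsPGroup p S) {F : FusionSystem S}
    (hF : F.IsSaturated p)
    (h : ∀ P, P ≤ S → ∀ α ∈ F.autGroup P, (orderOf α).Coprime p → α = 1) :
    ∀ P, F.Hom P = (innerFusionSystem S).Hom P := by
  refine fun P => (le_of_pPower hS (D := innerFusionSystem S) hF (fun _ => subset_rfl) le_rfl
    (fun R hR α hα hc => ?_) P).antisymm ?_
  · rw [h R hR α hα hc]; exact one_mem _
  · rintro φ ⟨hP, g, hg, he⟩
    have : φ = conjHom P g := MonoidHom.ext fun x => (he x).trans rfl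
    exact this ▸ F.conj_mem hP hg

/-! ### Hyperfocal subgroups -/

theorem hyperfocal_mono {E : FusionSystem T} {F : FusionSystem S} (h : E.IsSubsystemOf F) :
    E.hyperfocalSubgroup p ≤ F.hyperfocalSubgroup p := by
  have hTS := le_of_subsystem h
  refine Subgroup.closure_le _ |>.mpr ?_
  rintro y ⟨P, α, x, hP, hα, rfl⟩
  have hle : Cfsg.pResidual p (E.autGroup P) ≤
      (Cfsg.pResidual p (F.autGroup P)).comap (Subgroup.inclusion (autGroup_mono' h P)) := by
    rw [pResidual_le_iff_coprime]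
    intro a ha
    exact mem_pResidual_of_coprime (by
      rwa [orderOf_injective _ (Subgroup.inclusion_injective (autGroup_mono' h P))])
  exact Subgroup.subset_closure ⟨P, _, x, hP.trans hTS, hle hα, rfl⟩

theorem hyperfocal_le [Finite S] (F : FusionSystem S) : F.hyperfocalSubgroup p ≤ S := by
  refine Subgroup.closure_le _ |>.mpr ?_
  rintro y ⟨P, α, x, hP, -, rfl⟩
  exact S.mul_mem (S.inv_mem (hP x.2)) (hP ((α : MulAut P) x).2)

/-- `x⁻¹ α(x)` lies in a subgroup `Y` normalized by it, once all `y⁻¹ α(y)` do for such elements. -/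
theorem mem_of_coprime_aut {p : ℕ} [Fact p.Prime] {P : Subgroup Ω} (hP : IsPGroup p P)
    (α : MulAut P) (hα : (orderOf α).Coprime p) (x : P) {Y : Subgroup Ω}
    (hn : ∀ c ∈ Y, ((x : Ω)⁻¹ * (α x : Ω))⁻¹ * c * ((x : Ω)⁻¹ * (α x : Ω)) ∈ Y)
    (hY : ∀ c : P, (c : Ω) ∈ Y → (α c : Ω) ∈ Y)
    (h : ((x⁻¹ * α x : P) : Ω)⁻¹ * (α (x⁻¹ * α x) : Ω) ∈ Y) :
    (x : Ω)⁻¹ * (α x : Ω) ∈ Y := by
  set y : P := x⁻¹ * α x with hy
  have hy' : ((y : Ω)) = (x : Ω)⁻¹ * (α x : Ω) := rfl
  rw [← hy'] at hn ⊢
  obtain ⟨Y', hYe⟩ : ∃ Y' : Subgroup P, Y' = Y.subgroupOf P := ⟨_, rfl⟩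
  have hn' : ∀ c ∈ Y', y⁻¹ * c * y ∈ Y' := fun c hc => by
    rw [hYe] at hc ⊢; exact hn c hc
  have hn'' : ∀ (k : ℕ), ∀ c ∈ Y', (y ^ k)⁻¹ * c * y ^ k ∈ Y' := by
    intro k
    induction k with
    | zero => intro c hc; simpa using hc
    | succ k ih =>
      intro c hc
      have := hn' _ (ih c hc)
      simpa [pow_succ, mul_assoc] using this
  have key : ∀ k : ℕ, ∃ c ∈ Y', (α ^ k) x = x * y ^ k * c := by
    intro k
    induction k with
    | zero => exact ⟨1, Y'.one_mem, by simp⟩
    | succ k ih =>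
      obtain ⟨c, hc, e⟩ := ih
      have hc1 : y⁻¹ * α y ∈ Y' := by rw [hYe]; exact h
      have hc2 : α c ∈ Y' := by rw [hYe] at hc ⊢; exact hY c hc
      have hp : ∀ j : ℕ, ∃ d ∈ Y', (α y) ^ j = y ^ j * d := by
        intro j
        induction j with
        | zero => exact ⟨1, Y'.one_mem, by simp⟩
        | succ j ihj =>
          obtain ⟨d, hd, ed⟩ := ihj
          refine ⟨(y⁻¹ * d * y) * (y⁻¹ * α y), Y'.mul_mem (hn' d hd) hc1, ?_⟩
          rw [pow_succ, ed, pow_succ]
          group
      obtain ⟨d, hd, ed⟩ := hp k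
      refine ⟨d * α c, Y'.mul_mem hd hc2, ?_⟩
      rw [pow_succ', MulAut.mul_apply, e, map_mul, map_mul, map_pow, ed, pow_succ']
      have hx : α x = x * y := by rw [hy]; group
      rw [hx]
      group
  obtain ⟨c, hc, e⟩ := key (orderOf α)
  rw [pow_orderOf_eq_one, MulAut.one_apply, mul_assoc, left_eq_mul] at e
  have h2 : y ^ orderOf α ∈ Y' := by
    rw [eq_inv_of_mul_eq_one_left e]
    exact Y'.inv_mem hc
  obtain ⟨k, hk⟩ := (IsPGroup.iff_orderOf.mp hP) y
  obtain ⟨i, hi⟩ := exists_pow_eq_self_of_coprime (x := y) (n := orderOf α)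
    (hk.symm ▸ hα.pow_right k)
  have h3 : y ∈ Y' := hi ▸ pow_mem h2 i
  rwa [hYe] at h3

/-- A subsystem of `p`-power index has the same hyperfocal subgroup. -/
theorem hyperfocal_eq [Finite S] [Fact p.Prime] (hS : IsPGroup p S) {F : FusionSystem S}
    {E : FusionSystem T} (hE : E.HasPPowerIndexIn F p) :
    E.hyperfocalSubgroup p = F.hyperfocalSubgroup p := by
  obtain ⟨hEF, hT, hres⟩ := hE
  refine le_antisymm (hyperfocal_mono hEF) (Subgroup.closure_le _ |>.mpr ?_)
  rintro _ ⟨P, α, x, hP, hα, rfl⟩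
  haveI := finite_of_le hP
  -- the automorphisms moving every element inside `hyp(E)`
  let K : Subgroup (F.autGroup P) :=
    { carrier := {β | ∀ x : P, (x : Ω)⁻¹ * ((β : MulAut P) x : P) ∈ E.hyperfocalSubgroup p}
      one_mem' := fun x => by
        simp
      mul_mem' := fun {a b} ha hb x => by
        have := mul_mem (hb x) (ha ((b : MulAut P) x))
        simpa [mul_assoc] using this
      inv_mem' := fun {a} ha x => by
        have h1 := inv_mem (ha ((a : MulAut P)⁻¹ x))
        have h2 : (a : MulAut P) ((a : MulAut P)⁻¹ x) = x := MulEquiv.apply_symm_apply _ _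
        rw [h2] at h1
        simpa [mul_inv_rev] using h1 }
  suffices Cfsg.pResidual p (F.autGroup P) ≤ K from this hα x
  rw [pResidual_le_iff_coprime]
  intro β hβ x
  have hmem : ∀ z : P, (z : Ω)⁻¹ * ((β : MulAut P) z : P) ∈ F.hyperfocalSubgroup p := fun z =>
    Subgroup.subset_closure ⟨P, β, z, hP, mem_pResidual_of_coprime hβ, rfl⟩
  set H := F.hyperfocalSubgroup p with hH
  have hinv : ∀ z : P, (z : Ω) ∈ H → ((β : MulAut P) z : Ω) ∈ H := fun z hz => by
    have := H.mul_mem hz (hmem z)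
    rwa [mul_inv_cancel_left] at this
  -- the restriction of `β` to `P ⊓ H` gives generators of `hyp(E)`
  have hgen : ∀ z : P, (z : Ω) ∈ H →
      (z : Ω)⁻¹ * ((β : MulAut P) z : P) ∈ E.hyperfocalSubgroup p := by
    intro z hz
    have hQ : P ⊓ H ≤ S := inf_le_left.trans hP
    have hm : Mor F (P ⊓ H) (afun (β : MulAut P)) :=
      ((mem_autGroup hP).mp β.2).restrict_to inf_le_left
    haveI := finite_of_le hQ
    obtain ⟨γ, hγ, he⟩ := hm.exists_aut (hm.im_self fun w hw =>
      ⟨afun_mem _ hw.1, by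
        rw [afun_apply _ hw.1]; exact hinv ⟨w, hw.1⟩ hw.2⟩)
    have hord : orderOf γ ∣ orderOf β := by
      rw [← Subgroup.orderOf_coe]
      refine orderOf_dvd_of_pow_eq_one (afun_ext fun w hw => ?_)
      have : ∀ j : ℕ, ∀ w ∈ P ⊓ H, afun (γ ^ j) w = afun ((β : MulAut P) ^ j) w := by
        intro j
        induction j with
        | zero => intro w hw; rw [pow_zero, pow_zero, afun_one hw, afun_one hw.1]
        | succ j ih =>
          intro w hw
          rw [pow_succ, pow_succ, afun_mul _ _ hw, afun_mul _ _ hw.1, ← he w hw]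
          exact ih _ (afun_mem _ hw)
      rw [this _ w hw, pow_orderOf_eq_one, afun_one hw.1, afun_one hw]
    have hγc : (orderOf γ).Coprime p := Nat.Coprime.coprime_dvd_left hord hβ
    have hγE : γ ∈ E.autGroup (P ⊓ H) := hres _ (inf_le_right.trans hT)
      ⟨⟨γ, hγ⟩, mem_pResidual_of_coprime (by rwa [Subgroup.orderOf_mk]), rfl⟩
    refine Subgroup.subset_closure ⟨P ⊓ H, ⟨γ, hγE⟩, ⟨z, z.2, hz⟩, inf_le_right.trans hT,
      mem_pResidual_of_coprime (by rwa [Subgroup.orderOf_mk]), ?_⟩
    show _ = (z : Ω)⁻¹ * _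
    rw [← afun_coe, ← afun_coe]
    exact congrArg _ (he _ ⟨z.2, hz⟩).symm
  -- a subgroup of `hyp(E)` normalized by `P ⊓ H`
  set Y : Subgroup Ω := Subgroup.closure
    {c | ∃ z : P, (z : Ω) ∈ H ∧ c = (z : Ω)⁻¹ * ((β : MulAut P) z : P)} with hY
  have hYle : Y ≤ E.hyperfocalSubgroup p := by
    rw [hY, Subgroup.closure_le]
    rintro _ ⟨z, hz, rfl⟩
    exact hgen z hz
  set y : P := x⁻¹ * (β : MulAut P) x with hy
  have hyH : (y : Ω) ∈ H := hmem x
  refine hYle (mem_of_coprime_aut (hS.to_le hP) _ (by rwa [Subgroup.orderOf_coe]) x ?_ ?_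
    (Subgroup.subset_closure ⟨y, hyH, rfl⟩))
  · intro c hc
    induction hc using Subgroup.closure_induction with
    | mem c hc =>
      obtain ⟨z, hz, rfl⟩ := hc
      have h1 : ((z * y : P) : Ω)⁻¹ * ((β : MulAut P) (z * y) : P) ∈ Y :=
        Subgroup.subset_closure ⟨z * y, H.mul_mem hz hyH, rfl⟩
      have h2 : (y : Ω)⁻¹ * ((β : MulAut P) y : P) ∈ Y :=
        Subgroup.subset_closure ⟨y, hyH, rfl⟩
      have := Y.mul_mem h1 (Y.inv_mem h2)
      convert this using 1
      simp [hy, mul_assoc]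
    | one => simp
    | mul a b _ _ iha ihb =>
      have := Y.mul_mem iha ihb
      convert this using 1
      group
    | inv a _ iha =>
      have := Y.inv_mem iha
      convert this using 1
      group
  · intro c hc
    have hcH : (c : Ω) ∈ H := by
      refine (show Y ≤ H from ?_) hc
      rw [hY, Subgroup.closure_le]
      rintro _ ⟨z, hz, rfl⟩
      exact hmem z
    have h1 : (c : Ω)⁻¹ * ((β : MulAut P) c : P) ∈ Y := Subgroup.subset_closure ⟨c, hcH, rfl⟩
    have := Y.mul_mem hc h1
    rwa [mul_inv_cancel_left] at this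

/-! ### Residual subsystems and residual limits -/

theorem pPower_self {F : FusionSystem S} (h : F.hyperfocalSubgroup p = S) :
    F.HasPPowerIndexIn F p :=
  ⟨fun _ => subset_rfl, h.le, fun _ _ => Subgroup.map_subtype_le _⟩

/-- Saturated subsystems of `p`-power index over the same subgroup coincide. -/
theorem pPower_unique [Finite S] [Fact p.Prime] (hS : IsPGroup p S) {F : FusionSystem S}
    {D₁ : FusionSystem T} {D₂ : FusionSystem U} (h₁ : D₁.IsSaturated p)
    (h₂ : D₂.IsSaturated p) (hi₁ : D₁.HasPPowerIndexIn F p) (hi₂ : D₂.HasPPowerIndexIn F p)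
    (hTU : T = U) : ∀ P, D₁.Hom P = D₂.Hom P := by
  subst hTU
  have key : ∀ (A B : FusionSystem T), A.IsSaturated p → A.HasPPowerIndexIn F p →
      B.HasPPowerIndexIn F p → A.IsSubsystemOf B := fun A B hA hiA hiB =>
    le_of_pPower hS hA hiA.1 le_rfl fun P hP α hα hc =>
      hiB.2.2 P hP ⟨⟨α, hα⟩, mem_pResidual_of_coprime (by rwa [Subgroup.orderOf_mk]), rfl⟩
  exact fun P => (key _ _ h₁ hi₁ hi₂ P).antisymm (key _ _ h₂ hi₂ hi₁ P)

theorem pPrimeResidual_unique {F D₁ D₂ : FusionSystem S} (h₁ : F.IsPPrimeResidual p D₁)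
    (h₂ : F.IsPPrimeResidual p D₂) : D₁ = D₂ :=
  eq_of_le (h₁.2.2 _ h₂.1 h₂.2.1) (h₂.2.2 _ h₁.1 h₁.2.1)

/-- A stable system is the only residual limit of itself. -/
theorem limit_of_stable {L : Subgroup Ω} {E : FusionSystem L} {S₀ : Subgroup Ω}
    {A : FusionSystem S₀} (h : E.IsResidualLimitOf A p) :
    ∀ [Fact p.Prime] [Finite S₀], IsPGroup p S₀ → A.IsSaturated p → A.hyperfocalSubgroup p = S₀ →
      A.IsPPrimeResidual p A → ∀ P, E.Hom P = A.Hom P := by
  induction h with
  | stable F p _ _ => intros; rfl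
  | @step S E F p D D' hD hD' _ ih =>
    intro _ hfin hS hF hst hst' P
    have hsat : D.IsSaturated p := hD.1
    have hDF := pPower_unique hS hsat hF hD.2 (pPower_self hst) hst
    -- transport `F` to the base of `D`
    have : ∀ (U : Subgroup Ω), U = S → ∀ D₀ D₁ : FusionSystem U, (∀ P, D₀.Hom P = F.Hom P) →
        D₀.IsPPrimeResidual p D₁ →
        D₁.IsSaturated p ∧ D₁.hyperfocalSubgroup p = U ∧ D₁.IsPPrimeResidual p D₁ ∧
          IsPGroup p U ∧ Finite U ∧ ∀ P, D₁.Hom P = F.Hom P := by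
      rintro U rfl D₀ D₁ h₀ h₁
      obtain rfl := hom_ext h₀
      obtain rfl := pPrimeResidual_unique h₁ hst'
      exact ⟨hF, hst, hst', hS, hfin, fun _ => rfl⟩
    obtain ⟨a, b, c, d, e, f⟩ := this _ hst D D' hDF hD'
    rw [@ih inferInstance e d a b c P, f P]

/-- Residual limits of systems with equal maps have equal maps. -/
theorem limit_unique {L₁ : Subgroup Ω} {E₁ : FusionSystem L₁} {S₁ : Subgroup Ω}
    {A : FusionSystem S₁} (h : E₁.IsResidualLimitOf A p) :
    ∀ [Fact p.Prime] [Finite S₁], IsPGroup p S₁ → A.IsSaturated p →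
      ∀ {L₂ : Subgroup Ω} {E₂ : FusionSystem L₂}, E₂.IsResidualLimitOf A p →
      ∀ P, E₁.Hom P = E₂.Hom P := by
  induction h with
  | stable F p hst hst' =>
    intro _ hfin hS hF L₂ E₂ h₂ P
    exact (limit_of_stable h₂ hS hF hst hst' P).symm
  | @step S E F p D D' hD hD' hlim ih =>
    intro _ hfin hS hF L₂ E₂ h₂
    cases h₂ with
    | stable _ _ hst hst' =>
      exact limit_of_stable (IsResidualLimitOf.step F p D D' hD hD' hlim) hS hF hst hst'
    | step _ _ D₂ D₂' hD₂ hD₂' hlim₂ =>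
      obtain rfl := hom_ext (pPower_unique hS hD.1 hD₂.1 hD.2 hD₂.2 rfl)
      obtain rfl := pPrimeResidual_unique hD' hD₂'
      have hle := hyperfocal_le (p := p) F
      haveI := finite_of_le hle
      exact @ih inferInstance inferInstance (hS.to_le hle) hD'.1 _ _ hlim₂

/-- A saturated subsystem of `p`-power index has the same residual limits. -/
theorem limit_pPower [Finite S] [Fact p.Prime] (hS : IsPGroup p S) {F : FusionSystem S}
    (hF : F.IsSaturated p) {E : FusionSystem T} (hE : E.IsSaturated p)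
    (hi : E.HasPPowerIndexIn F p) {V W : Subgroup Ω} {Finf : FusionSystem V}
    {Einf : FusionSystem W} (hFinf : Finf.IsResidualLimitOf F p)
    (hEinf : Einf.IsResidualLimitOf E p) : ∀ P, Finf.Hom P = Einf.Hom P := by
  have hTS := le_of_subsystem hi.1
  haveI := finite_of_le hTS
  have hT := hS.to_le hTS
  have hhyp := hyperfocal_eq hS hi
  -- the residual of `E` is a residual of `F`
  have hres : ∀ {U : Subgroup Ω} (D : FusionSystem U), U = E.hyperfocalSubgroup p →
      D.HasPPowerIndexIn E p → D.HasPPowerIndexIn F p := by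
    intro U D hU hD
    refine ⟨fun P => (hD.1 P).trans (hi.1 P), hU ▸ hhyp.ge, fun P hP => ?_⟩
    refine map_pResidual_le_of_coprime fun a ha hc => hD.2.2 P hP ?_
    exact ⟨⟨a, hi.2.2 P (hP.trans (le_of_subsystem hD.1))
      ⟨⟨a, ha⟩, mem_pResidual_of_coprime (by rwa [Subgroup.orderOf_mk]), rfl⟩⟩,
      mem_pResidual_of_coprime (by rwa [Subgroup.orderOf_mk]), rfl⟩
  -- equal systems have equal limits
  have same : ∀ {U : Subgroup Ω} (A : FusionSystem U), (∀ P, A.Hom P = F.Hom P) →
      ∀ {W : Subgroup Ω} {L : FusionSystem W}, L.IsResidualLimitOf A p →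
      ∀ P, Finf.Hom P = L.Hom P := by
    intro U A hA W L hL
    obtain rfl := base_eq hA
    obtain rfl := hom_ext hA
    exact limit_unique hFinf hS hF hL
  cases hEinf with
  | stable _ _ hst hst' =>
    cases hFinf with
    | stable _ _ fst fst' =>
      exact pPower_unique hS hF hE (pPower_self fst) hi (fst.symm.trans (hhyp.symm.trans hst))
    | step _ _ D D' hD hD' hlim =>
      have hDE := pPower_unique hS hD.1 hE hD.2 hi (hhyp.symm.trans hst)
      have hrw : ∀ (U : Subgroup Ω) (D₀ D₁ : FusionSystem U), (∀ P, D₀.Hom P = E.Hom P) →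
          D₀.IsPPrimeResidual p D₁ → ∀ {W : Subgroup Ω} {L : FusionSystem W},
          L.IsResidualLimitOf D₁ p → ∀ P, L.Hom P = E.Hom P := by
        intro U D₀ D₁ h₀ h₁ W L hL
        obtain rfl := base_eq h₀
        obtain rfl := hom_ext h₀
        obtain rfl := pPrimeResidual_unique h₁ hst'
        exact limit_of_stable hL hT hE hst hst'
      exact hrw _ D D' hDE hD' hlim
  | step _ _ D D' hD hD' hlim =>
    have hDF := hres D rfl hD.2
    cases hFinf with
    | stable _ _ fst fst' =>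
      have hDE := pPower_unique hS hD.1 hF hDF (pPower_self fst) (hhyp.trans fst)
      have hrw : ∀ (U : Subgroup Ω) (D₀ D₁ : FusionSystem U), (∀ P, D₀.Hom P = F.Hom P) →
          D₀.IsPPrimeResidual p D₁ → ∀ {W : Subgroup Ω} {L : FusionSystem W},
          L.IsResidualLimitOf D₁ p → ∀ P, F.Hom P = L.Hom P := by
        intro U D₀ D₁ h₀ h₁ W L hL
        obtain rfl := base_eq h₀
        obtain rfl := hom_ext h₀
        obtain rfl := pPrimeResidual_unique h₁ fst'
        exact fun P => (limit_of_stable hL hS hF fst fst' P).symm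
      exact hrw _ D D' hDE hD' hlim
    | step _ _ G G' hG hG' glim =>
      have hGD := pPower_unique hS hD.1 hG.1 hDF hG.2 hhyp
      have hrw : ∀ (U : Subgroup Ω) (D₀ D₁ : FusionSystem U), (∀ P, D₀.Hom P = G.Hom P) →
          D₀.IsPPrimeResidual p D₁ → ∀ {W : Subgroup Ω} {L : FusionSystem W},
          L.IsResidualLimitOf D₁ p → ∀ P, Finf.Hom P = L.Hom P := by
        intro U D₀ D₁ h₀ h₁ W L hL
        obtain rfl := base_eq h₀
        obtain rfl := hom_ext h₀
        obtain rfl := pPrimeResidual_unique h₁ hG'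
        have hle := hyperfocal_le (p := p) F
        haveI := finite_of_le hle
        exact limit_unique glim (hS.to_le hle) hG'.1 hL
      exact hrw _ D D' hGD hD' hlim

end Cfsg.Agent.FusionPPower
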