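import Mathlib
import Cfsg.Agent.Lib.FusionBiset

/-!
A semicharacteristic biset with nonnegative coefficients, the criterion of Burnside for
isomorphism of finite sets with a group action, and the resulting intertwiners for all maps of a
saturated fusion system.
-/

set_option autoImplicit false

namespace Cfsg.Agent.FusionPosBiset88

open Cfsg Cfsg.FusionSystem Cfsg.Agent.FusionSysBasic Cfsg.Agent.FusionBiset
open Cfsg.Agent.FusionMarks

/-! ### Sets with equally many fixed points -/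

section Burnside

open MulAction

variable {G : Type*} [Group G] [Finite G]

theorem orbit_equiv {X Y : Type*} [MulAction G X] [MulAction G Y] {x : X} {y : Y}
    (h : stabilizer G x = stabilizer G y) :
    ∃ e : {z // z ∈ orbit G x} ≃ {z // z ∈ orbit G y},
      ∀ (g : G) (z : {z // z ∈ orbit G x}) (hz : g • z.1 ∈ orbit G x),
        (e ⟨g • z.1, hz⟩).1 = g • (e z).1 := by
  classical
  have key : ∀ a b : G, a • x = b • x ↔ a • y = b • y := fun a b => by
    constructor
    · intro e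
      have h1 : b⁻¹ * a ∈ stabilizer G x := by rw [mem_stabilizer_iff, mul_smul, e, inv_smul_smul]
      rwa [h, mem_stabilizer_iff, mul_smul, inv_smul_eq_iff] at h1
    · intro e
      have h1 : b⁻¹ * a ∈ stabilizer G y := by rw [mem_stabilizer_iff, mul_smul, e, inv_smul_smul]
      rwa [← h, mem_stabilizer_iff, mul_smul, inv_smul_eq_iff] at h1
  have hc : ∀ z : {z // z ∈ orbit G x}, ∃ g : G, g • x = z.1 := fun z => z.2
  choose c hc' using hc
  refine ⟨Equiv.ofBijective (fun z => ⟨c z • y, mem_orbit y _⟩) ⟨fun z z' e => ?_, fun w => ?_⟩,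
    fun g z hz => ?_⟩
  · have e' := (key _ _).2 (congrArg Subtype.val e)
    rw [hc', hc'] at e'
    exact Subtype.ext e'
  · obtain ⟨g, hg⟩ := w.2
    refine ⟨⟨g • x, mem_orbit x g⟩, Subtype.ext ?_⟩
    exact ((key _ _).1 (hc' ⟨g • x, mem_orbit x g⟩)).trans hg
  · show c ⟨g • z.1, hz⟩ • y = g • (c z • y)
    rw [← mul_smul]
    refine (key _ _).1 ?_
    rw [hc', mul_smul, hc']

theorem smul_mem_orbit_iff {Z : Type*} [MulAction G Z] (z w : Z) (g : G) :
    g • w ∈ orbit G z ↔ w ∈ orbit G z := by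
  rw [← orbit_eq_iff, ← orbit_eq_iff, orbit_smul]

/-- Finite sets with an action and equal numbers of fixed points for all subgroups are isomorphic. -/
theorem exists_equiv {X Y : Type*} [MulAction G X] [MulAction G Y] [Finite X] [Finite Y]
    (h : ∀ K : Subgroup G, Nat.card (fixedPoints K X) = Nat.card (fixedPoints K Y)) :
    ∃ e : X ≃ Y, ∀ (g : G) (x : X), e (g • x) = g • e x := by
  suffices ∀ (n : ℕ) (A : SubMulAction G X) (B : SubMulAction G Y), Nat.card A ≤ n →
      (∀ K : Subgroup G, Nat.card (fixedPoints K A) = Nat.card (fixedPoints K B)) →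
      ∃ e : A ≃ B, ∀ (g : G) (x : A), e (g • x) = g • e x by
    let A : SubMulAction G X := { carrier := Set.univ, smul_mem' := fun _ _ _ => trivial }
    let B : SubMulAction G Y := { carrier := Set.univ, smul_mem' := fun _ _ _ => trivial }
    have hA : ∀ K : Subgroup G, Nat.card (fixedPoints K A) = Nat.card (fixedPoints K X) := fun K =>
      Nat.card_congr ((Equiv.subtypeEquiv (Equiv.subtypeUnivEquiv fun _ => trivial)) fun a =>
        ⟨fun ha k => congrArg Subtype.val (ha k), fun ha k => Subtype.ext (ha k)⟩)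
    have hB : ∀ K : Subgroup G, Nat.card (fixedPoints K B) = Nat.card (fixedPoints K Y) := fun K =>
      Nat.card_congr ((Equiv.subtypeEquiv (Equiv.subtypeUnivEquiv fun _ => trivial)) fun a =>
        ⟨fun ha k => congrArg Subtype.val (ha k), fun ha k => Subtype.ext (ha k)⟩)
    obtain ⟨e, he⟩ := this _ A B le_rfl fun K => by rw [hA, hB, h]
    exact ⟨(Equiv.subtypeUnivEquiv (fun _ => trivial)).symm.trans
      (e.trans (Equiv.subtypeUnivEquiv fun _ => trivial)),
      fun g x => congrArg Subtype.val (he g ⟨x, trivial⟩)⟩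
  intro n
  induction n with
  | zero =>
    intro A B hA h
    haveI : IsEmpty A := Finite.card_eq_zero_iff.1 (Nat.le_zero.1 hA)
    have h0 := h ⊥
    rw [Nat.card_eq_zero.2 (Or.inl inferInstance)] at h0
    haveI : IsEmpty B := by
      rcases Nat.card_eq_zero.1 h0.symm with h1 | h1
      · exact ⟨fun b => h1.false ⟨b, fun k => by
          rw [Subgroup.smul_def, Subgroup.mem_bot.1 k.2, one_smul]⟩⟩
      · exact absurd h1 (not_infinite_iff_finite.2 inferInstance)
    exact ⟨Equiv.equivOfIsEmpty A B, fun g x => isEmptyElim x⟩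
  | succ n ih =>
    intro A B hA h
    rcases isEmpty_or_nonempty A with hemp | hne
    · exact ih A B (by rw [Nat.card_eq_zero.2 (Or.inl hemp)]; exact Nat.zero_le _) h
    obtain ⟨x, hx⟩ := Finite.exists_max fun a : A => Nat.card (stabilizer G a)
    have hfx : Nonempty (fixedPoints (stabilizer G x) A) := ⟨⟨x, fun k => k.2⟩⟩
    have hfy : Nonempty (fixedPoints (stabilizer G x) B) := by
      refine (Nat.card_pos_iff.1 ?_).1
      rw [← h]
      exact Nat.card_pos
    obtain ⟨⟨y, hy⟩⟩ := hfy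
    have hle : stabilizer G x ≤ stabilizer G y := fun k hk => hy ⟨k, hk⟩
    have hst : stabilizer G x = stabilizer G y := by
      have hfy' : Nonempty (fixedPoints (stabilizer G y) A) := by
        refine (Nat.card_pos_iff.1 ?_).1
        rw [h]
        haveI : Nonempty (fixedPoints (stabilizer G y) B) := ⟨⟨y, fun k => k.2⟩⟩
        exact Nat.card_pos
      obtain ⟨⟨x', hx'⟩⟩ := hfy'
      refine Subgroup.eq_of_le_of_card_ge hle ((Subgroup.card_le_of_le ?_).trans (hx x'))
      exact fun k hk => hx' ⟨k, hk⟩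
    obtain ⟨e0, he0⟩ := orbit_equiv hst
    let A' : SubMulAction G X :=
      { carrier := {z | ∃ hz : z ∈ A, (⟨z, hz⟩ : A) ∉ orbit G x}
        smul_mem' := fun g z ⟨hz, hzo⟩ => ⟨A.smul_mem g hz, fun hg =>
          hzo ((smul_mem_orbit_iff x ⟨z, hz⟩ g).1 hg)⟩ }
    let B' : SubMulAction G Y :=
      { carrier := {z | ∃ hz : z ∈ B, (⟨z, hz⟩ : B) ∉ orbit G y}
        smul_mem' := fun g z ⟨hz, hzo⟩ => ⟨B.smul_mem g hz, fun hg =>
          hzo ((smul_mem_orbit_iff y ⟨z, hz⟩ g).1 hg)⟩ }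
    let eA : A' ≃ {z : A // z ∉ orbit G x} :=
      ⟨fun z => ⟨⟨z.1, z.2.1⟩, z.2.2⟩, fun z => ⟨z.1.1, z.1.2, z.2⟩, fun _ => rfl, fun _ => rfl⟩
    let eB : B' ≃ {z : B // z ∉ orbit G y} :=
      ⟨fun z => ⟨⟨z.1, z.2.1⟩, z.2.2⟩, fun z => ⟨z.1.1, z.1.2, z.2⟩, fun _ => rfl, fun _ => rfl⟩
    classical
    have hsplitA : ∀ K : Subgroup G, Nat.card (fixedPoints K A) =
        Nat.card {z : {z // z ∈ orbit G x} // z.1 ∈ fixedPoints K A} +
          Nat.card (fixedPoints K A') := fun K => by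
      rw [← Nat.card_congr (Equiv.sumCompl fun z : fixedPoints K A => z.1 ∈ orbit G x), Nat.card_sum]
      congr 1
      · exact Nat.card_congr
          ⟨fun z => ⟨⟨z.1.1, z.2⟩, z.1.2⟩, fun z => ⟨⟨z.1.1, z.2⟩, z.1.2⟩, fun _ => rfl, fun _ => rfl⟩
      · exact Nat.card_congr
          ⟨fun z => ⟨eA.symm ⟨z.1.1, z.2⟩, fun k => Subtype.ext (congrArg Subtype.val (z.1.2 k) :)⟩,
            fun z => ⟨⟨(eA z.1).1, fun k => Subtype.ext (congrArg Subtype.val (z.2 k) :)⟩, (eA z.1).2⟩,
            fun _ => rfl, fun _ => rfl⟩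
    have hsplitB : ∀ K : Subgroup G, Nat.card (fixedPoints K B) =
        Nat.card {z : {z // z ∈ orbit G y} // z.1 ∈ fixedPoints K B} +
          Nat.card (fixedPoints K B') := fun K => by
      rw [← Nat.card_congr (Equiv.sumCompl fun z : fixedPoints K B => z.1 ∈ orbit G y), Nat.card_sum]
      congr 1
      · exact Nat.card_congr
          ⟨fun z => ⟨⟨z.1.1, z.2⟩, z.1.2⟩, fun z => ⟨⟨z.1.1, z.2⟩, z.1.2⟩, fun _ => rfl, fun _ => rfl⟩
      · exact Nat.card_congr
          ⟨fun z => ⟨eB.symm ⟨z.1.1, z.2⟩, fun k => Subtype.ext (congrArg Subtype.val (z.1.2 k) :)⟩,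
            fun z => ⟨⟨(eB z.1).1, fun k => Subtype.ext (congrArg Subtype.val (z.2 k) :)⟩, (eB z.1).2⟩,
            fun _ => rfl, fun _ => rfl⟩
    have horb : ∀ K : Subgroup G, Nat.card {z : {z // z ∈ orbit G x} // z.1 ∈ fixedPoints K A} =
        Nat.card {z : {z // z ∈ orbit G y} // z.1 ∈ fixedPoints K B} := fun K =>
      Nat.card_congr (e0.subtypeEquiv fun z => by
        refine forall_congr' fun k => ?_
        have hz : (k : G) • z.1 ∈ orbit G x := (smul_mem_orbit_iff x z.1 (k : G)).2 z.2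
        have h1 := he0 k z hz
        constructor
        · intro hk
          rw [Subgroup.smul_def, ← h1]
          exact congrArg (fun w => (e0 w).1) (Subtype.ext hk)
        · intro hk
          rw [Subgroup.smul_def, ← h1] at hk
          exact congrArg Subtype.val (e0.injective (Subtype.ext hk) :))
    have hcard : Nat.card A' ≤ n := by
      have hlt : Nat.card A' < Nat.card A := by
        rw [Nat.card_congr eA]
        exact Finite.card_subtype_lt (x := x) (fun hno => hno (mem_orbit_self x))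
      omega
    obtain ⟨e1, he1⟩ := ih A' B' hcard fun K => by
      have h1 := h K
      rw [hsplitA, hsplitB, horb] at h1
      omega
    let e : A ≃ B := (Equiv.sumCompl fun z => z ∈ orbit G x).symm.trans
      ((Equiv.sumCongr e0 (eA.symm.trans (e1.trans eB))).trans (Equiv.sumCompl fun z => z ∈ orbit G y))
    refine ⟨e, fun g z => ?_⟩
    by_cases hz : z ∈ orbit G x
    · have hz' : g • z ∈ orbit G x := (smul_mem_orbit_iff x z g).2 hz
      simp only [e, Equiv.trans_apply, Equiv.sumCompl_symm_apply_of_pos hz,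
        Equiv.sumCompl_symm_apply_of_pos hz', Equiv.sumCongr_apply, Sum.map_inl,
        Equiv.sumCompl_apply_inl]
      exact he0 g ⟨z, hz⟩ hz'
    · have hz' : g • z ∉ orbit G x := fun h' => hz ((smul_mem_orbit_iff x z g).1 h')
      simp only [e, Equiv.trans_apply, Equiv.sumCompl_symm_apply_of_neg hz,
        Equiv.sumCompl_symm_apply_of_neg hz', Equiv.sumCongr_apply, Sum.map_inr,
        Equiv.sumCompl_apply_inr]
      exact Subtype.ext ((congrArg Subtype.val (he1 g (eA.symm ⟨z, hz⟩)) :))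

end Burnside

variable {Ω : Type*} [Group Ω] {S : Subgroup Ω} {F : FusionSystem S} {p : ℕ}

/-! ### Nonnegative coefficients -/

variable [Finite S]

theorem marks_add (a b : Subgroup (↥S × ↥S) → ℤ) (K : Subgroup (↥S × ↥S)) :
    marks (fun L => a L + b L) K = marks a K + marks b K := by
  simp only [marks, add_mul, Finset.sum_add_distrib]

/-- The mark of a conjugate counts the conjugators. -/
theorem card_conj {L K : Subgroup (↥S × ↥S)} (h : Nat.card L = Nat.card K) :
    Nat.card {t : ↥S × ↥S // TransferAlperin.cj t L = K} = mark L K * Nat.card L := by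
  rw [mark, ← Nat.card_prod]
  refine Nat.card_congr (((Equiv.refl _).subtypeEquiv fun t => ?_).trans
    (((QuotientGroup.preimageMkEquivSubgroupProdSet L
      (MulAction.fixedPoints K ((↥S × ↥S) ⧸ L)))).trans (Equiv.prodComm _ _)))
  show TransferAlperin.cj t L = K ↔ (t : (↥S × ↥S) ⧸ L) ∈ MulAction.fixedPoints K _
  rw [mk_mem_fixedPoints_iff_le]
  exact ⟨fun e => e.ge, fun hle => (Subgroup.eq_of_le_of_card_ge hle
    (by rw [TransferAlperin.card_cj, h])).symm⟩

/-- Every element conjugates exactly one subgroup to `K`. -/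
def equiv_conj (K : Subgroup (↥S × ↥S)) :
    (Σ L : Subgroup (↥S × ↥S), {t : ↥S × ↥S // TransferAlperin.cj t L = K}) ≃ ↥S × ↥S where
  toFun x := x.2.1
  invFun t := ⟨TransferAlperin.cj t⁻¹ K, t, by rw [← TransferAlperin.cj_mul, mul_inv_cancel, TransferAlperin.cj_one]⟩
  left_inv := by
    rintro ⟨L, t, rfl⟩
    exact Sigma.subtype_ext (by simp [TransferAlperin.cj_inv_cj]) rfl
  right_inv _ := rfl

variable [hp : Fact p.Prime]

/-- A constant on all twisted diagonals of one order is stable above this order. -/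
theorem stable_level {n : ℕ} (m : ℤ)
    [DecidablePred fun L : Subgroup (↥S × ↥S) => Diag F L ∧ Nat.card L = n] :
    StableAbove F (fun L => if Diag F L ∧ Nat.card L = n then m else 0) n := by
  classical
  set ε : Subgroup (↥S × ↥S) → ℤ := fun L => if Diag F L ∧ Nat.card L = n then m else 0
  have hε : ∀ K, Diag F K → n ≤ Nat.card K →
      marks ε K * (n : ℤ) = if Nat.card K = n then m * Nat.card (↥S × ↥S) else 0 := by
    intro K hK hn
    split_ifs with hc
    · rw [← hc, ← Nat.card_congr (equiv_conj K), Nat.card_sigma, marks, Nat.cast_sum, Finset.sum_mul,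
        Finset.mul_sum]
      refine Finset.sum_congr rfl fun L _ => ?_
      simp only [ε]
      by_cases hL : Nat.card L = Nat.card K
      · by_cases hD : Diag F L
        · rw [if_pos ⟨hD, hL.trans hc⟩, card_conj hL, Nat.cast_mul, hL, hc, mul_assoc]
        · rw [if_neg fun h => hD h.1, zero_mul, zero_mul]
          have : Nat.card {t : ↥S × ↥S // TransferAlperin.cj t L = K} = 0 :=
            Finite.card_eq_zero_iff.2 ⟨fun t => hD (by
              have := diag_cj (t.2.symm ▸ hK : Diag F (TransferAlperin.cj t.1 L)) t.1⁻¹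
              rwa [TransferAlperin.cj_inv_cj] at this)⟩
          rw [this, Nat.cast_zero, mul_zero]
      · rw [if_neg fun h => hL (h.2.trans hc.symm), zero_mul, zero_mul]
        have : Nat.card {t : ↥S × ↥S // TransferAlperin.cj t L = K} = 0 :=
          Finite.card_eq_zero_iff.2 ⟨fun t => hL (by rw [← t.2, TransferAlperin.card_cj])⟩
        rw [this, Nat.cast_zero, mul_zero]
    · have hz : marks ε K = 0 := Finset.sum_eq_zero fun L _ => by
        simp only [ε]
        split_ifs with hL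
        · rw [mark_eq_zero_of_card_lt (lt_of_le_of_ne (hL.2 ▸ hn) fun e => hc (e.symm.trans hL.2)),
            Nat.cast_zero, mul_zero]
        · exact zero_mul _
      rw [hz, zero_mul]
  intro K K' hK hK' hn hsnd
  have hcard : Nat.card K = Nat.card K' := by rw [← card_sndImg hK, ← card_sndImg hK', hsnd]
  rcases Nat.eq_zero_or_pos n with rfl | hpos
  · have : ∀ L, ε L = 0 := fun L => if_neg fun hh => Nat.card_pos.ne' hh.2
    simp only [marks, this, zero_mul]
  refine mul_right_cancel₀ (b := (n : ℤ)) (by exact_mod_cast hpos.ne') ?_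
  rw [hε K hK hn, hε K' hK' (hcard ▸ hn), hcard]

theorem exists_step_nonneg (hS : IsPGroup p S) (hF : F.IsSaturated p)
    {a : Subgroup (↥S × ↥S) → ℤ} (ha : ∀ L, a L ≠ 0 → Diag F L) (h0 : ∀ L, 0 ≤ a L) {n : ℕ}
    (hst : StableAbove F a (n + 1)) :
    ∃ a', (∀ L, a' L ≠ 0 → Diag F L) ∧ (∀ L, 0 ≤ a' L) ∧ StableAbove F a' n ∧
      ∀ L : Subgroup (↥S × ↥S), Nat.card L ≠ n → a' L = a L := by
  classical
  obtain ⟨b, hb, hbst, hbe⟩ := exists_step hS hF ha hst
  set m : ℤ := ∑ L, |b L| with hm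
  let ε : Subgroup (↥S × ↥S) → ℤ := fun L => if Diag F L ∧ Nat.card L = n then m else 0
  have hm0 : 0 ≤ m := Finset.sum_nonneg fun L _ => abs_nonneg _
  have hεst := stable_level (F := F) (n := n) m
  refine ⟨fun L => b L + ε L, fun L h => ?_, fun L => ?_, fun K K' hK hK' hn hsnd => ?_,
    fun L hL => ?_⟩
  · by_cases h1 : b L = 0
    · simp only [h1, zero_add] at h
      exact (not_not.1 fun hno => h (if_neg fun hh => hno hh.1))
    · exact hb L h1
  · simp only [ε]
    by_cases hL : Diag F L ∧ Nat.card L = n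
    · rw [if_pos hL]
      linarith [neg_abs_le (b L),
        Finset.single_le_sum (f := fun M => |b M|) (fun M _ => abs_nonneg _) (Finset.mem_univ L)]
    · rw [if_neg hL, add_zero]
      by_cases hc : Nat.card L = n
      · rw [show b L = 0 from by_contra fun h => hL ⟨hb L h, hc⟩]
      · rw [hbe L hc]; exact h0 L
  · rw [marks_add, marks_add, hbst K K' hK hK' hn hsnd]
    rw [hεst K K' hK hK' hn hsnd]
  · simp only [ε]
    rw [if_neg fun hh => hL hh.2, add_zero, hbe L hL]

/-- A semicharacteristic biset with nonnegative coefficients. -/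
theorem exists_pos_biset (hS : IsPGroup p S) (hF : F.IsSaturated p) :
    ∃ a : Subgroup (↥S × ↥S) → ℕ, (∀ L, a L ≠ 0 → Diag F L) ∧
      StableAbove F (fun L => (a L : ℤ)) 0 ∧
      ¬ p ∣ ∑ L, a L * (Nat.card S / Nat.card L) := by
  classical
  obtain ⟨a₀, hs₀, hst₀, hd₀⟩ := exists_top hS hF
  -- the top coefficients are nonnegative after a shift by a multiple of `p`
  set m : ℤ := (p : ℤ) * ∑ L, |a₀ L| with hm
  let ε : Subgroup (↥S × ↥S) → ℤ := fun L => if Diag F L ∧ Nat.card L = Nat.card S then m else 0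
  have hεst := stable_level (F := F) (n := Nat.card S) m
  let b₀ : Subgroup (↥S × ↥S) → ℤ := fun L => a₀ L + ε L
  have hb₀ : ∀ L, b₀ L ≠ 0 → Diag F L ∧ Nat.card L = Nat.card S := fun L h => by
    by_cases h1 : a₀ L = 0
    · simp only [b₀, h1, zero_add] at h
      exact not_not.1 fun hno => h (if_neg hno)
    · exact hs₀ L h1
  have hnn : ∀ L, 0 ≤ b₀ L := fun L => by
    simp only [b₀, ε]
    by_cases hL : Diag F L ∧ Nat.card L = Nat.card S
    · rw [if_pos hL]
      have h1 := Finset.single_le_sum (f := fun M => |a₀ M|) (fun M _ => abs_nonneg _)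
        (Finset.mem_univ L)
      have h2 : (1 : ℤ) ≤ p := by exact_mod_cast hp.out.one_le
      nlinarith [neg_abs_le (a₀ L), abs_nonneg (a₀ L)]
    · rw [if_neg hL, add_zero, show a₀ L = 0 from by_contra fun h => hL (hs₀ L h)]
  have hbst : StableAbove F b₀ (Nat.card S) := fun K K' hK hK' hn hsnd => by
    rw [marks_add, marks_add, hst₀ K K' hK hK' hn hsnd, hεst K K' hK hK' hn hsnd]
  have hbd : ¬ (p : ℤ) ∣ ∑ L, b₀ L := by
    simp only [b₀, Finset.sum_add_distrib]
    refine fun h => hd₀ ((dvd_add_left (Finset.dvd_sum fun L _ => ?_)).1 h)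
    simp only [ε]
    split_ifs
    · exact dvd_mul_right _ _
    · exact dvd_zero _
  have hall : ∀ k, ∃ a, (∀ L, a L ≠ 0 → Diag F L) ∧ (∀ L, 0 ≤ a L) ∧
      StableAbove F a (Nat.card S - k) ∧
      ∀ L : Subgroup (↥S × ↥S), Nat.card L = Nat.card S → a L = b₀ L := by
    intro k
    induction k with
    | zero => exact ⟨b₀, fun L h => (hb₀ L h).1, hnn, hbst, fun L _ => rfl⟩
    | succ k ih =>
      obtain ⟨a, h1, h0, h2, h3⟩ := ih
      rcases Nat.lt_or_ge k (Nat.card S) with hk | hk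
      · obtain ⟨a', h1', h0', h2', h3'⟩ := exists_step_nonneg hS hF h1 h0
          (n := Nat.card S - (k + 1)) (by
            rwa [show Nat.card S - (k + 1) + 1 = Nat.card S - k by omega])
        exact ⟨a', h1', h0', h2', fun L hL => (h3' L (by omega)).trans (h3 L hL)⟩
      · exact ⟨a, h1, h0, by rwa [show Nat.card S - (k + 1) = Nat.card S - k by omega], h3⟩
  obtain ⟨a, h1, h0, h2, h3⟩ := hall (Nat.card S)
  have hcast : (fun L => ((a L).toNat : ℤ)) = a := funext fun L => Int.toNat_of_nonneg (h0 L)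
  refine ⟨fun L => (a L).toNat, fun L h => h1 L fun e => h (by simp [e]), ?_, fun hd => hbd ?_⟩
  · show StableAbove F (fun L => ((a L).toNat : ℤ)) 0
    rw [hcast]; simpa using h2
  have key : ∀ L : Subgroup (↥S × ↥S),
      (p : ℤ) ∣ a L * ((Nat.card S / Nat.card L : ℕ) : ℤ) - b₀ L := by
    intro L
    rcases eq_or_ne (Nat.card L) (Nat.card S) with hc | hc
    · rw [h3 L hc, hc, Nat.div_self Nat.card_pos, Nat.cast_one, mul_one, sub_self]
      exact dvd_zero _
    rw [show b₀ L = 0 from by_contra fun h => hc (hb₀ L h).2, sub_zero]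
    rcases eq_or_ne (a L) 0 with h | h
    · rw [h, zero_mul]; exact dvd_zero _
    refine dvd_mul_of_dvd_right (Int.natCast_dvd_natCast.mpr ?_) _
    obtain ⟨i, hi⟩ := IsPGroup.iff_card.mp hS
    have hdl : Nat.card L ∣ Nat.card S := by
      rw [← card_sndImg (h1 L h)]
      exact Subgroup.card_dvd_of_le (sndImg_le L)
    obtain ⟨j, hj, hj'⟩ := (Nat.dvd_prime_pow hp.out).mp (hi ▸ hdl)
    rw [hi, hj', Nat.pow_div hj hp.out.pos]
    exact dvd_pow_self p (by have : j ≠ i := fun e => hc (by rw [hj', hi, e]); omega)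
  have h4 := Finset.dvd_sum (s := Finset.univ) fun L _ => key L
  rw [Finset.sum_sub_distrib] at h4
  have h5 := Int.natCast_dvd_natCast.mpr hd
  rw [Nat.cast_sum] at h5
  simp only [Nat.cast_mul, Int.toNat_of_nonneg (h0 _)] at h5
  have h6 := dvd_sub h5 h4
  rwa [sub_sub_cancel] at h6

/-! ### Intertwiners -/

/-- The points of the biset with multiplicities `a`. -/
abbrev Pt (a : Subgroup (↥S × ↥S) → ℕ) : Type _ :=
  Σ i : (Σ L : Subgroup (↥S × ↥S), Fin (a L)), (↥S × ↥S) ⧸ i.1

theorem pt_smul {a : Subgroup (↥S × ↥S) → ℕ} (g : ↥S × ↥S)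
    (i : Σ L : Subgroup (↥S × ↥S), Fin (a L)) (q : (↥S × ↥S) ⧸ i.1) :
    g • (⟨i, q⟩ : Pt a) = ⟨i, g • q⟩ := rfl

omit hp in
theorem card_fixed (a : Subgroup (↥S × ↥S) → ℕ) (K : Subgroup (↥S × ↥S)) :
    (Nat.card (MulAction.fixedPoints K (Pt a)) : ℤ) = marks (fun L => (a L : ℤ)) K := by
  classical
  let e : MulAction.fixedPoints K (Pt a) ≃
      Σ i : (Σ L : Subgroup (↥S × ↥S), Fin (a L)), MulAction.fixedPoints K ((↥S × ↥S) ⧸ i.1) :=
    { toFun := fun x => ⟨x.1.1, x.1.2, fun k => eq_of_heq (Sigma.mk.inj_iff.1 (x.2 k)).2⟩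
      invFun := fun y => ⟨⟨y.1, y.2.1⟩, fun k => Sigma.ext rfl (heq_of_eq (y.2.2 k))⟩
      left_inv := fun _ => rfl
      right_inv := fun _ => rfl }
  rw [Nat.card_congr e, Nat.card_sigma, Fintype.sum_sigma]
  push_cast
  refine Finset.sum_congr rfl fun L _ => ?_
  show ∑ _x : Fin (a L), (mark L K : ℤ) = _
  rw [Finset.sum_const, Finset.card_univ, Fintype.card_fin, nsmul_eq_mul]

/-- `π` commutes with the right action and turns `u` into `f u` on the left. -/
def Inter (a : Subgroup (↥S × ↥S) → ℕ) (P : Subgroup Ω) (f : Ω → Ω) (π : Pt a ≃ Pt a) : Prop :=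
  ∀ u v : ↥S, (u : Ω) ∈ P → (v : Ω) = f u → ∀ (s : ↥S) (x : Pt a),
    π ((u, s) • x) = (v, s) • π x

omit hp in
/-- Every map has an intertwiner. -/
theorem exists_inter {a : Subgroup (↥S × ↥S) → ℕ} (ha : ∀ L, a L ≠ 0 → Diag F L)
    (hst : StableAbove F (fun L => (a L : ℤ)) 0) {P : Subgroup Ω} {f : Ω → Ω} (hf : Mor F P f) :
    ∃ π : Pt a ≃ Pt a, Inter a P f π := by
  classical
  let fS : P.subgroupOf S →* ↥S :=
    MonoidHom.mk' (fun u => ⟨f (u : ↥S), hf.apply_mem u.2⟩)
      fun u v => Subtype.ext (hf.map_mul u.2 v.2)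
  let φ : P.subgroupOf S × ↥S →* ↥S × ↥S := (P.subgroupOf S).subtype.prodMap (MonoidHom.id _)
  let ψ : P.subgroupOf S × ↥S →* ↥S × ↥S := fS.prodMap (MonoidHom.id _)
  have ha' : ∀ L, (fun L => (a L : ℤ)) L ≠ 0 → Diag F L := fun L h =>
    ha L fun e => h (by simp [e])
  have hfix : ∀ K : Subgroup (P.subgroupOf S × ↥S), Nat.card (MulAction.fixedPoints (K.map φ) (Pt a)) =
      Nat.card (MulAction.fixedPoints (K.map ψ) (Pt a)) := by
    intro K
    have hsnd : sndImg (K.map φ) = sndImg (K.map ψ) := by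
      ext x
      rw [mem_sndImg, mem_sndImg]
      constructor
      · rintro ⟨_, ⟨k, hk, rfl⟩, rfl⟩; exact ⟨ψ k, ⟨k, hk, rfl⟩, rfl⟩
      · rintro ⟨_, ⟨k, hk, rfl⟩, rfl⟩; exact ⟨φ k, ⟨k, hk, rfl⟩, rfl⟩
    have hd1 : Diag F (K.map φ) → Diag F (K.map ψ) := by
      rintro ⟨h, hh, he⟩
      have hP : ∀ x ∈ sndImg (K.map φ), h x ∈ P := by
        intro x hx
        obtain ⟨_, ⟨k, hk, rfl⟩, rfl⟩ := mem_sndImg.1 hx
        rw [← he _ ⟨k, hk, rfl⟩]
        exact k.1.2
      refine ⟨f ∘ h, hsnd ▸ hh.comp hf hP, ?_⟩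
      rintro _ ⟨k, hk, rfl⟩
      exact congrArg f (he _ ⟨k, hk, rfl⟩)
    have hd2 : Diag F (K.map ψ) → Diag F (K.map φ) := by
      rintro ⟨h, hh, he⟩
      obtain ⟨i, hi, hil, -, -⟩ := hf.exists_inv
      have hP : ∀ x ∈ sndImg (K.map ψ), h x ∈ im P f := by
        intro x hx
        obtain ⟨_, ⟨k, hk, rfl⟩, rfl⟩ := mem_sndImg.1 hx
        rw [← he _ ⟨k, hk, rfl⟩]
        exact apply_mem_im k.1.2
      refine ⟨i ∘ h, hsnd ▸ hh.comp hi hP, ?_⟩
      rintro _ ⟨k, hk, rfl⟩
      show ((k.1 : ↥S) : Ω) = i (h (k.2 : Ω))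
      rw [← (show f (k.1 : ↥S) = h (k.2 : Ω) from he _ ⟨k, hk, rfl⟩)]
      exact (hil _ k.1.2).symm
    refine Nat.cast_injective (R := ℤ) ?_
    rw [card_fixed, card_fixed]
    by_cases hd : Diag F (K.map φ)
    · exact hst _ _ hd (hd1 hd) (Nat.zero_le _) hsnd
    · rw [marks_eq_zero ha' hd, marks_eq_zero ha' fun h => hd (hd2 h)]
  have hcomp : ∀ (χ : P.subgroupOf S × ↥S →* ↥S × ↥S) (K : Subgroup (P.subgroupOf S × ↥S)),
      letI := MulAction.compHom (Pt a) χ
      Nat.card (MulAction.fixedPoints K (Pt a)) =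
        Nat.card (MulAction.fixedPoints (K.map χ) (Pt a)) := by
    intro χ K
    refine Nat.card_congr (Equiv.subtypeEquivRight fun x => ⟨fun h => ?_, fun h k => ?_⟩)
    · rintro ⟨_, k, hk, rfl⟩
      exact h ⟨k, hk⟩
    · exact h ⟨χ k, k, k.2, rfl⟩
  obtain ⟨e, he⟩ := @exists_equiv (P.subgroupOf S × ↥S) _ inferInstance (Pt a) (Pt a)
    (MulAction.compHom (Pt a) φ) (MulAction.compHom (Pt a) ψ) inferInstance inferInstance
    fun K => (hcomp φ K).trans ((hfix K).trans (hcomp ψ K).symm)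
  refine ⟨e, fun u v hu hv s x => ?_⟩
  obtain rfl : v = fS ⟨u, hu⟩ := Subtype.ext hv
  exact he (⟨u, hu⟩, s) x

end Cfsg.Agent.FusionPosBiset88
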