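import Mathlib

/-!
# Products of cocycles and their fixed-point counts

For an action of `G` on a finite set and a cocycle `w` with values in a commutative group, the
product `∏ x, w g x` is determined by the numbers of points fixed by the powers of `g` with given
values of the cocycle, also for integral combinations of such actions.
-/

set_option autoImplicit false

namespace Cfsg.Agent.FusionCocycle

variable {A : Type*} [CommGroup A]

theorem prod_zpow_eq_zpow_sum {ι : Type*} (s : Finset ι) (a : ι → ℤ) (c : A) :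
    ∏ i ∈ s, c ^ a i = c ^ ∑ i ∈ s, a i := by
  classical
  induction s using Finset.induction with
  | empty => simp
  | insert i s hi ih => rw [Finset.prod_insert hi, Finset.sum_insert hi, ih, zpow_add]

theorem prod_zpow_eq_one {ι : Type*} [Fintype ι] (d : ι → ℕ) (hd : ∀ i, 0 < d i) (v : ι → A)
    (a : ι → ℤ) [DecidableEq A]
    (h : ∀ k, 0 < k → ∀ c, ∑ i ∈ Finset.univ.filter (fun i => d i ∣ k ∧ v i ^ (k / d i) = c),
      a i * (d i : ℤ) = 0) :
    ∏ i, v i ^ a i = 1 := by
  classical
  have key : ∀ n, 0 < n → ∀ c,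
      ∑ i ∈ Finset.univ.filter (fun i => d i = n ∧ v i = c), a i = 0 := by
    intro n
    induction n using Nat.strong_induction_on with
    | _ n ih =>
    intro hn c
    have h1 := h n hn c
    rw [← Finset.sum_filter_add_sum_filter_not _ (fun i => d i = n)] at h1
    have h2 : ∑ i ∈ (Finset.univ.filter (fun i => d i ∣ n ∧ v i ^ (n / d i) = c)).filter
        (fun i => ¬ d i = n), a i * (d i : ℤ) = 0 := by
      rw [← Finset.sum_fiberwise_of_maps_to (t := Finset.univ.image fun i => (d i, v i))
        (g := fun i => (d i, v i)) (fun i _ => Finset.mem_image_of_mem _ (Finset.mem_univ i))]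
      refine Finset.sum_eq_zero fun key hkey => ?_
      set s := ((Finset.univ.filter (fun i => d i ∣ n ∧ v i ^ (n / d i) = c)).filter
        (fun i => ¬ d i = n)).filter (fun i => (d i, v i) = key)
      rcases s.eq_empty_or_nonempty with hs | ⟨j, hj⟩
      · rw [hs, Finset.sum_empty]
      simp only [s, Finset.mem_filter, Finset.mem_univ, true_and] at hj
      obtain ⟨⟨⟨hj1, hj2⟩, hj3⟩, rfl⟩ := hj
      have hlt : d j < n := lt_of_le_of_ne (Nat.le_of_dvd hn hj1) hj3
      have hs' : s = Finset.univ.filter (fun i => d i = d j ∧ v i = v j) := by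
        ext i
        simp only [s, Finset.mem_filter, Finset.mem_univ, true_and, Prod.mk.injEq]
        exact ⟨fun h => h.2, fun h => ⟨⟨⟨h.1 ▸ hj1, by rw [h.1, h.2, hj2]⟩, h.1 ▸ hj3⟩, h⟩⟩
      rw [hs', Finset.sum_congr rfl (g := fun i => a i * (d j : ℤ))
        (fun i hi => by rw [(Finset.mem_filter.mp hi).2.1]), ← Finset.sum_mul,
        ih _ hlt (hd j) (v j), zero_mul]
    rw [h2, add_zero] at h1
    have h3 : (Finset.univ.filter (fun i => d i ∣ n ∧ v i ^ (n / d i) = c)).filter
        (fun i => d i = n) = Finset.univ.filter (fun i => d i = n ∧ v i = c) := by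
      ext i
      simp only [Finset.mem_filter, Finset.mem_univ, true_and]
      constructor
      · rintro ⟨⟨-, h5⟩, h6⟩
        rw [h6, Nat.div_self hn, pow_one] at h5
        exact ⟨h6, h5⟩
      · rintro ⟨h6, h5⟩
        exact ⟨⟨h6 ▸ dvd_rfl, by rw [h6, Nat.div_self hn, pow_one, h5]⟩, h6⟩
    rw [h3, Finset.sum_congr rfl (g := fun i => a i * (n : ℤ))
      (fun i hi => by rw [(Finset.mem_filter.mp hi).2.1]), ← Finset.sum_mul] at h1
    exact (mul_eq_zero.mp h1).resolve_right (by exact_mod_cast hn.ne')
  rw [← Finset.prod_fiberwise_of_maps_to (t := Finset.univ.image fun i => (d i, v i))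
    (g := fun i => (d i, v i)) (fun i _ => Finset.mem_image_of_mem _ (Finset.mem_univ i))]
  refine Finset.prod_eq_one fun key' hkey => ?_
  obtain ⟨j, -, rfl⟩ := Finset.mem_image.mp hkey
  rw [Finset.prod_congr rfl (g := fun i => v j ^ a i)
    (fun i hi => by rw [(Prod.mk.injEq _ _ _ _).mp (Finset.mem_filter.mp hi).2 |>.2]),
    prod_zpow_eq_zpow_sum]
  have h4 := key _ (hd j) (v j)
  simp only [Prod.mk.injEq]
  rw [h4, zpow_zero]

variable {G : Type*} [Group G]

section Action

variable {X : Type*} [MulAction G X] {w : G → X → A}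

theorem cocycle_one (hw : ∀ g h x, w (g * h) x = w g (h • x) * w h x) (x : X) : w 1 x = 1 := by
  have h := hw 1 1 x
  rwa [one_mul, one_smul, left_eq_mul] at h

theorem cocycle_pow_of_fix (hw : ∀ g h x, w (g * h) x = w g (h • x) * w h x) {g : G} {x : X}
    (hx : g • x = x) (n : ℕ) : w (g ^ n) x = w g x ^ n := by
  induction n with
  | zero => rw [pow_zero, pow_zero, cocycle_one hw]
  | succ n ih => rw [pow_succ, hw, hx, ih, pow_succ]

theorem cocycle_pow (hw : ∀ g h x, w (g * h) x = w g (h • x) * w h x) (g : G) (x : X) (n : ℕ) :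
    w (g ^ n) x = ∏ i ∈ Finset.range n, w g (g ^ i • x) := by
  induction n with
  | zero => rw [pow_zero, Finset.range_zero, Finset.prod_empty, cocycle_one hw]
  | succ n ih => rw [pow_succ', hw, ih, Finset.prod_range_succ, mul_comm]

theorem cocycle_shift (hw : ∀ g h x, w (g * h) x = w g (h • x) * w h x) {g h : G}
    (hgh : g * h = h * g) {x : X} (hx : g • x = x) : w g (h • x) = w g x := by
  have h1 := hw g h x
  rw [hgh, hw h g x, hx, mul_comm] at h1
  exact (mul_right_cancel h1).symm

/-- The product of the cocycle over the set, as a homomorphism. -/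
noncomputable def total [Fintype X] (w : G → X → A)
    (hw : ∀ g h x, w (g * h) x = w g (h • x) * w h x) : G →* A where
  toFun g := ∏ x, w g x
  map_one' := Finset.prod_eq_one fun x _ => cocycle_one hw x
  map_mul' g h := by
    simp only [hw g h, Finset.prod_mul_distrib]
    congr 1
    exact Equiv.prod_comp (MulAction.toPerm h) (fun x => w g x)

theorem total_apply [Fintype X] (hw : ∀ g h x, w (g * h) x = w g (h • x) * w h x) (g : G) :
    total w hw g = ∏ x, w g x :=
  rfl

end Action

section Orbits

variable {X : Type*} [MulAction G X] [Fintype X] {w : G → X → A}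

/-- The orbits of `g`. -/
abbrev Orb (g : G) (X : Type*) [MulAction G X] : Type _ :=
  Quotient (MulAction.orbitRel (Subgroup.zpowers g) X)

/-- The length of an orbit. -/
noncomputable def len (g : G) (q : Orb g X) : ℕ := Function.minimalPeriod (g • ·) q.out

/-- The value of a cocycle on an orbit. -/
noncomputable def val (w : G → X → A) (g : G) (q : Orb g X) : A := w (g ^ len g q) q.out

theorem len_pos (g : G) (q : Orb g X) : 0 < len g q := by
  refine Function.IsPeriodicPt.minimalPeriod_pos
    (Function.minimalPeriod_pos_of_mem_periodicPts ?_)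
    (Function.isPeriodicPt_minimalPeriod (g • ·) q.out)
  exact Function.Injective.mem_periodicPts (MulAction.injective g) q.out

theorem pow_len_smul (g : G) (q : Orb g X) : g ^ len g q • q.out = q.out :=
  MulAction.pow_smul_eq_iff_minimalPeriod_dvd.mpr dvd_rfl

theorem fiber_eq [DecidableEq X] (g : G) (q : Orb g X) [DecidableEq (Orb g X)] :
    Finset.univ.filter (fun x => (Quotient.mk _ x : Orb g X) = q) =
      (Finset.range (len g q)).image fun i => g ^ i • q.out := by
  ext x
  simp only [Finset.mem_filter, Finset.mem_univ, true_and, Finset.mem_image, Finset.mem_range]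
  constructor
  · intro hx
    have h : x ∈ MulAction.orbit (Subgroup.zpowers g) q.out :=
      Quotient.exact (hx.trans (Quotient.out_eq q).symm)
    obtain ⟨⟨_, j, rfl⟩, rfl⟩ := h
    have hpos := len_pos g q
    refine ⟨(j % (len g q : ℤ)).toNat, ?_, ?_⟩
    · have h1 := Int.emod_nonneg j (b := (len g q : ℤ)) (by exact_mod_cast hpos.ne')
      have h2 := Int.emod_lt_of_pos j (b := (len g q : ℤ)) (by exact_mod_cast hpos)
      omega
    · rw [← zpow_natCast, Int.toNat_of_nonneg (Int.emod_nonneg j (by exact_mod_cast hpos.ne'))]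
      exact MulAction.zpow_smul_mod_minimalPeriod g q.out j
  · rintro ⟨i, -, rfl⟩
    refine (Quotient.sound ?_).trans (Quotient.out_eq q)
    exact ⟨⟨g ^ i, i, zpow_natCast g i⟩, rfl⟩

theorem injOn_pow_smul (g : G) (q : Orb g X) :
    Set.InjOn (fun i => g ^ i • q.out) (Finset.range (len g q) : Set ℕ) := by
  intro i hi j hj h
  refine Function.iterate_injOn_Iio_minimalPeriod (f := (g • ·)) (x := q.out) ?_ ?_ ?_
  · exact Finset.mem_range.mp hi
  · exact Finset.mem_range.mp hj
  · simpa [smul_iterate] using h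

theorem prod_eq_prod_val [DecidableEq X] (hw : ∀ g h x, w (g * h) x = w g (h • x) * w h x)
    (g : G) [Fintype (Orb g X)] :
    ∏ x, w g x = ∏ q : Orb g X, val w g q := by
  classical
  rw [← Finset.prod_fiberwise_of_maps_to (t := Finset.univ)
    (g := fun x => (Quotient.mk _ x : Orb g X)) (fun x _ => Finset.mem_univ _)]
  refine Finset.prod_congr rfl fun q _ => ?_
  rw [fiber_eq, Finset.prod_image (injOn_pow_smul g q), val, cocycle_pow hw]

/-- The number of points fixed by `g ^ k` with cocycle value `c`. -/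
noncomputable def count (w : G → X → A) (g : G) (k : ℕ) (c : A) : ℕ :=
  Nat.card {x : X // g ^ k • x = x ∧ w (g ^ k) x = c}

theorem count_eq [DecidableEq X] [DecidableEq A]
    (hw : ∀ g h x, w (g * h) x = w g (h • x) * w h x) (g : G) [Fintype (Orb g X)] (k : ℕ) (c : A) :
    count w g k c = ∑ q ∈ Finset.univ.filter
      (fun q : Orb g X => len g q ∣ k ∧ val w g q ^ (k / len g q) = c), len g q := by
  classical
  rw [count, Nat.card_eq_fintype_card, Fintype.card_subtype,
    Finset.card_eq_sum_card_fiberwise (t := Finset.univ)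
      (f := fun x => (Quotient.mk _ x : Orb g X)) (fun x _ => Finset.mem_univ _),
    Finset.sum_filter]
  refine Finset.sum_congr rfl fun q _ => ?_
  have hiff : ∀ i, g ^ k • g ^ i • q.out = g ^ i • q.out ∧ w (g ^ k) (g ^ i • q.out) = c ↔
      len g q ∣ k ∧ val w g q ^ (k / len g q) = c := by
    intro i
    have hc : g ^ k * g ^ i = g ^ i * g ^ k := (Commute.refl g).pow_pow k i
    have h1 : g ^ k • g ^ i • q.out = g ^ i • q.out ↔ len g q ∣ k := by
      rw [← mul_smul, hc, mul_smul, smul_left_cancel_iff]
      exact MulAction.pow_smul_eq_iff_minimalPeriod_dvd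
    constructor
    · rintro ⟨h2, h3⟩
      have hd := h1.mp h2
      refine ⟨hd, ?_⟩
      rw [cocycle_shift hw hc (MulAction.pow_smul_eq_iff_minimalPeriod_dvd.mpr hd)] at h3
      rw [val, ← cocycle_pow_of_fix hw (pow_len_smul g q), ← pow_mul, Nat.mul_div_cancel' hd, h3]
    · rintro ⟨hd, h3⟩
      refine ⟨h1.mpr hd, ?_⟩
      rw [cocycle_shift hw hc (MulAction.pow_smul_eq_iff_minimalPeriod_dvd.mpr hd)]
      rw [val, ← cocycle_pow_of_fix hw (pow_len_smul g q), ← pow_mul, Nat.mul_div_cancel' hd] at h3
      exact h3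
  rw [Finset.filter_comm, fiber_eq, Finset.filter_image,
    Finset.card_image_of_injOn ((injOn_pow_smul g q).mono (Finset.coe_subset.mpr (Finset.filter_subset _ _)))]
  by_cases h : len g q ∣ k ∧ val w g q ^ (k / len g q) = c
  · rw [if_pos h, Finset.filter_true_of_mem (fun i _ => (hiff i).mpr h), Finset.card_range]
  · rw [if_neg h, Finset.filter_false_of_mem (fun i _ hi => h ((hiff i).mp hi)), Finset.card_empty]

end Orbits

/-- Two elements with the same weighted fixed-point counts have the same weighted products. -/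
theorem prod_zpow_total_eq {ι : Type*} [Fintype ι] {X : ι → Type*} [∀ i, MulAction G (X i)]
    [∀ i, Fintype (X i)] (w : ∀ i, G → X i → A)
    (hw : ∀ i, ∀ g h x, w i (g * h) x = w i g (h • x) * w i h x) (a : ι → ℤ) (g h : G)
    (hN : ∀ k, 0 < k → ∀ c, ∑ i, a i * (count (w i) g k c : ℤ) = ∑ i, a i * (count (w i) h k c : ℤ)) :
    ∏ i, (∏ x, w i g x) ^ a i = ∏ i, (∏ x, w i h x) ^ a i := by
  classical
  haveI : ∀ i, Fintype (Orb g (X i)) := fun i => Fintype.ofFinite _
  haveI : ∀ i, Fintype (Orb h (X i)) := fun i => Fintype.ofFinite _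
  let J := (Σ i, Orb g (X i)) ⊕ (Σ i, Orb h (X i))
  let d : J → ℕ := Sum.elim (fun q => len g q.2) (fun q => len h q.2)
  let v : J → A := Sum.elim (fun q => val (w q.1) g q.2) (fun q => val (w q.1) h q.2)
  let b : J → ℤ := Sum.elim (fun q => a q.1) (fun q => -a q.1)
  have hsum : ∀ g : G, [∀ i, Fintype (Orb g (X i))] → ∀ (k : ℕ) (c : A),
      ∑ i, a i * (count (w i) g k c : ℤ) = ∑ q : Σ i, Orb g (X i),
        if len g q.2 ∣ k ∧ val (w q.1) g q.2 ^ (k / len g q.2) = c then a q.1 * (len g q.2 : ℤ)
        else 0 := by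
    intro g _ k c
    rw [Fintype.sum_sigma]
    refine Finset.sum_congr rfl fun i _ => ?_
    rw [count_eq (hw i), Nat.cast_sum, Finset.mul_sum, Finset.sum_filter]
  have key : ∏ j, v j ^ b j = 1 := by
    refine prod_zpow_eq_one d (fun j => by cases j <;> exact len_pos _ _) v b fun k hk c => ?_
    have h1 := hN k hk c
    rw [hsum g k c, hsum h k c, ← sub_eq_zero] at h1
    rw [← h1, Finset.sum_filter, Fintype.sum_sum_type, sub_eq_add_neg, ← Finset.sum_neg_distrib]
    refine congrArg₂ (· + ·) (Finset.sum_congr rfl fun q _ => ?_)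
      (Finset.sum_congr rfl fun q _ => ?_)
    · rfl
    · simp only [d, v, b, Sum.elim_inr, neg_mul]
      split_ifs <;> simp
  rw [Fintype.prod_sum_type, Fintype.prod_sigma, Fintype.prod_sigma] at key
  simp only [v, b, Sum.elim_inl, Sum.elim_inr, zpow_neg, Finset.prod_inv_distrib,
    Finset.prod_zpow, ← prod_eq_prod_val (hw _)] at key
  exact mul_inv_eq_one.mp key

end Cfsg.Agent.FusionCocycle
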