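import Mathlib
import Cfsg.Agent.Lib.TransferPResidual

/-!
# The transfer of a `p`-element as a product over fixed cosets
-/

set_option linter.style.haveILetI false
set_option autoImplicit false

namespace Cfsg.Agent.TransferFixed

open Subgroup MulAction

variable {G : Type*} [Group G] {p : ℕ}

open scoped Classical in
/-- A product over a set acted on by a group reduces to the fixed points if the products over
the non-trivial orbits are trivial. -/
theorem prod_eq_prod_fixed {S α A : Type*} [Group S] [MulAction S α] [Fintype α] [CommMonoid A]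
    (f : α → A)
    (h : ∀ a : α, a ∉ fixedPoints S α → ∏ b ∈ Finset.univ.filter (· ∈ orbit S a), f b = 1) :
    ∏ a, f a = ∏ a ∈ Finset.univ.filter (· ∈ fixedPoints S α), f a := by
  haveI : Fintype (Quotient (orbitRel S α)) := Fintype.ofFinite _
  rw [← Finset.prod_filter_mul_prod_filter_not Finset.univ (· ∈ fixedPoints S α)]
  suffices ∏ a ∈ Finset.univ.filter (¬ · ∈ fixedPoints S α), f a = 1 by rw [this, mul_one]
  rw [← Finset.prod_fiberwise (Finset.univ.filter (¬ · ∈ fixedPoints S α))
    (fun a => (Quotient.mk (orbitRel S α) a)) f]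
  refine Finset.prod_eq_one fun ω _ => ?_
  rcases Finset.eq_empty_or_nonempty ((Finset.univ.filter (¬ · ∈ fixedPoints S α)).filter
    fun a => Quotient.mk (orbitRel S α) a = ω) with he | ⟨a, ha⟩
  · rw [he, Finset.prod_empty]
  · simp only [Finset.mem_filter, Finset.mem_univ, true_and] at ha
    refine Eq.trans (Finset.prod_congr ?_ fun _ _ => rfl) (h a ha.1)
    ext b
    simp only [Finset.mem_filter, Finset.mem_univ, true_and]
    constructor
    · rintro ⟨-, hb⟩
      exact Quotient.exact (hb.trans ha.2.symm)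
    · intro hb
      refine ⟨fun hfix => ha.1 ?_, (Quotient.sound hb : _).trans ha.2⟩
      have hab : a ∈ orbit S b := mem_orbit_symm.mp hb
      obtain ⟨s, rfl⟩ := hab
      change s • b ∈ fixedPoints S α
      rw [hfix s]
      exact hfix

/-- The value of `ϕ` at a conjugate of `x` in `H` depends only on the coset of the conjugator. -/
theorem value_eq_of_coset {H : Subgroup G} {A : Type*} [CommGroup A] (ϕ : H →* A) {x g g' : G}
    (h : g⁻¹ * x * g ∈ H) (h' : g'⁻¹ * x * g' ∈ H) (hgg : g⁻¹ * g' ∈ H) :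
    ϕ ⟨_, h'⟩ = ϕ ⟨_, h⟩ := by
  have e : (⟨_, h'⟩ : H) = (⟨_, hgg⟩ : H)⁻¹ * ⟨_, h⟩ * ⟨_, hgg⟩ := by
    apply Subtype.ext
    change g'⁻¹ * x * g' = (g⁻¹ * g')⁻¹ * (g⁻¹ * x * g) * (g⁻¹ * g')
    group
  rw [e, map_mul, map_mul, map_inv, mul_right_comm, inv_mul_cancel, one_mul]

theorem mem_of_smul_eq {H : Subgroup G} {x : G} {q : G ⧸ H} (h : x • q = q) :
    q.out⁻¹ * x * q.out ∈ H := by
  have h1 : ((x * q.out : G) : G ⧸ H) = ((q.out : G) : G ⧸ H) := by
    rw [QuotientGroup.out_eq']
    conv_rhs => rw [← h]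
    conv_rhs => rw [← QuotientGroup.out_eq' q]
    rfl
  have h2 := QuotientGroup.eq.mp h1.symm
  simpa [mul_assoc] using h2

theorem smul_eq_of_mem {H : Subgroup G} {x g : G} (h : g⁻¹ * x * g ∈ H) :
    x • ((g : G) : G ⧸ H) = ((g : G) : G ⧸ H) := by
  change ((x * g : G) : G ⧸ H) = ((g : G) : G ⧸ H)
  exact (QuotientGroup.eq.mpr (by simpa [mul_assoc] using h)).symm

open scoped Classical in
/-- The summand attached to a coset: `ϕ` of the conjugate of `x` if `x` fixes the coset. -/
noncomputable def fixedValue {H : Subgroup G} {A : Type*} [CommGroup A] (ϕ : H →* A) (x : G)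
    (q : G ⧸ H) : A :=
  if h : x • q = q then ϕ ⟨_, mem_of_smul_eq h⟩ else 1

theorem fixedValue_mk {H : Subgroup G} {A : Type*} [CommGroup A] (ϕ : H →* A) {x g : G}
    (h : g⁻¹ * x * g ∈ H) : fixedValue ϕ x (g : G ⧸ H) = ϕ ⟨_, h⟩ := by
  rw [fixedValue, dif_pos (smul_eq_of_mem h)]
  exact value_eq_of_coset ϕ h _ (QuotientGroup.eq.mp (QuotientGroup.out_eq' _).symm)

theorem fixedValue_of_ne {H : Subgroup G} {A : Type*} [CommGroup A] (ϕ : H →* A) {x : G}
    {q : G ⧸ H} (h : x • q ≠ q) : fixedValue ϕ x q = 1 :=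
  dif_neg h

/-- If `ϕ` kills the conjugates in `H` of `x^k` for `p ∣ k`, the transfer of the `p`-element `x`
is the product of the values at the fixed cosets. -/
theorem transfer_eq_prod_fixedValue {H : Subgroup G} {A : Type*} [CommGroup A] [H.FiniteIndex]
    [Fintype (G ⧸ H)] (ϕ : H →* A) [hp : Fact p.Prime] {x : G} {e : ℕ} (hx : orderOf x = p ^ e)
    (hpow : ∀ (g : G) (k : ℕ), p ∣ k → ∀ h : g⁻¹ * x ^ k * g ∈ H, ϕ ⟨_, h⟩ = 1) :
    MonoidHom.transfer ϕ x = ∏ q : G ⧸ H, fixedValue ϕ x q := by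
  classical
  haveI : Fintype (Quotient (orbitRel (zpowers x) (G ⧸ H))) := Fintype.ofFinite _
  rw [MonoidHom.transfer_eq_prod_quotient_orbitRel_zpowers_quot]
  rw [← Finset.prod_fiberwise Finset.univ
    (fun q : G ⧸ H => Quotient.mk (orbitRel (zpowers x) (G ⧸ H)) q) (fixedValue ϕ x)]
  refine Finset.prod_congr rfl fun ω _ => ?_
  set m := Function.minimalPeriod (x • ·) ω.out with hm
  rcases eq_or_ne m 1 with h1 | h1
  · have hfix : x • ω.out = ω.out := Function.minimalPeriod_eq_one_iff_isFixedPt.mp h1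
    have hall : ∀ z : zpowers x, z • ω.out = ω.out := by
      rintro ⟨_, n, rfl⟩
      exact zpow_smul_eq_of_smul_eq hfix n
    have hsing : (Finset.univ.filter fun q : G ⧸ H =>
        Quotient.mk (orbitRel (zpowers x) (G ⧸ H)) q = ω) = {ω.out} := by
      ext q
      simp only [Finset.mem_filter, Finset.mem_univ, true_and, Finset.mem_singleton]
      constructor
      · intro hq
        have h2 : q ∈ orbit (zpowers x) ω.out := Quotient.exact (hq.trans (Quotient.out_eq ω).symm)
        obtain ⟨z, rfl⟩ := h2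
        exact hall z
      · rintro rfl
        exact Quotient.out_eq ω
    rw [hsing, Finset.prod_singleton, fixedValue, dif_pos hfix]
    congr 1
    apply Subtype.ext
    change ω.out.out⁻¹ * x ^ m * ω.out.out = ω.out.out⁻¹ * x * ω.out.out
    rw [h1, pow_one]
  · have hdvd : p ∣ m := by
      have h2 : m ∣ p ^ e := by
        rw [← hx, hm]
        refine Function.IsPeriodicPt.minimalPeriod_dvd ?_
        rw [Function.IsPeriodicPt, Function.IsFixedPt, smul_iterate]
        change x ^ orderOf x • ω.out = ω.out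
        rw [pow_orderOf_eq_one, one_smul]
      obtain ⟨i, -, hi⟩ := (Nat.dvd_prime_pow hp.out).mp h2
      rcases i.eq_zero_or_pos with h0 | h0
      · exact absurd (by rw [hi, h0, pow_zero]) h1
      · exact hi ▸ dvd_pow_self p h0.ne'
    rw [hpow _ m hdvd]
    refine (Finset.prod_eq_one fun q hq => fixedValue_of_ne ϕ fun hfix => h1 ?_).symm
    simp only [Finset.mem_filter, Finset.mem_univ, true_and] at hq
    have h2 : ω.out ∈ orbit (zpowers x) q :=
      mem_orbit_symm.mp (Quotient.exact (hq.trans (Quotient.out_eq ω).symm))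
    obtain ⟨⟨z, n, rfl⟩, hz⟩ := h2
    rw [hm, Function.minimalPeriod_eq_one_iff_isFixedPt]
    have hz' : x ^ n • q = ω.out := hz
    rw [zpow_smul_eq_of_smul_eq hfix n] at hz'
    rw [← hz']
    exact hfix
where
  zpow_smul_eq_of_smul_eq {α : Type _} [MulAction G α] {x : G} {a : α} (h : x • a = a) (n : ℤ) :
      x ^ n • a = a := by
    have h1 : x ∈ stabilizer G a := h
    exact zpow_mem h1 n

open scoped Classical in
/-- The cosets fixed by the Sylow subgroup `P` have count prime to `p`. -/
theorem not_dvd_card_fixed [Finite G] [hp : Fact p.Prime] (P : Sylow p G)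
    [Fintype (G ⧸ (P : Subgroup G))] :
    ¬ p ∣ (Finset.univ.filter
      (· ∈ fixedPoints (P : Subgroup G) (G ⧸ (P : Subgroup G)))).card := by
  intro hd
  have h1 := P.isPGroup'.card_modEq_card_fixedPoints (α := G ⧸ (P : Subgroup G))
  refine P.not_dvd_index ((h1.dvd_iff dvd_rfl).mpr ?_)
  rwa [Nat.card_eq_fintype_card, ← Set.toFinset_card, show
    (fixedPoints (P : Subgroup G) (G ⧸ (P : Subgroup G))).toFinset = Finset.univ.filter
      (· ∈ fixedPoints (P : Subgroup G) (G ⧸ (P : Subgroup G))) by ext; simp]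

/-- A coset fixed by the Sylow subgroup comes from its normalizer. -/
theorem mem_normalizer_of_fixed [Finite G] [Fact p.Prime] (P : Sylow p G) {g : G}
    (h : ((g : G) : G ⧸ (P : Subgroup G)) ∈ fixedPoints (P : Subgroup G) (G ⧸ (P : Subgroup G))) :
    g ∈ normalizer ((P : Subgroup G) : Set G) := by
  rw [← inv_mem_iff]
  rw [mem_normalizer_iff]
  have hs : ∀ s ∈ (P : Subgroup G), g⁻¹ * s * g ∈ (P : Subgroup G) := by
    intro s hs
    have h1 := h ⟨s, hs⟩
    have h2 := QuotientGroup.eq.mp (h1 : ((s * g : G) : G ⧸ (P : Subgroup G)) = _).symm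
    simpa [mul_assoc] using h2
  have heq : (P : Subgroup G).map (MulAut.conj g⁻¹).toMonoidHom = (P : Subgroup G) := by
    refine eq_of_le_of_card_ge ?_ (card_map_of_injective (MulAut.conj g⁻¹).injective).ge
    rintro _ ⟨s, hs', rfl⟩
    simpa using hs s hs'
  intro y
  constructor
  · intro hy
    rw [← heq]
    exact ⟨y, hy, rfl⟩
  · intro hy
    rw [← heq] at hy
    obtain ⟨z, hz, hze⟩ := hy
    have := (MulAut.conj g⁻¹).injective hze
    exact this ▸ hz

end Cfsg.Agent.TransferFixed
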