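import Cfsg.Agent.Lib.FusionBiset
import Cfsg.Agent.Lib.FusionCocycle
import Cfsg.Agent.Lib.FusionPuig
import Cfsg.Agent.Lib.TransferFixed

/-!
# Transfer for saturated fusion systems

For a strongly closed subgroup `T` modulo which every map of the system is a conjugation, and a
function `χ` into a commutative group, multiplicative and invariant under `S` on `T`, a stable
homomorphism `W` on `T` congruent to a `p'`-power of `χ` modulo the restriction of a homomorphism
defined on `S`.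
-/

set_option autoImplicit false

namespace Cfsg.Agent.FusionTransfer

open Cfsg Cfsg.FusionSystem Cfsg.Agent.FusionSysBasic Cfsg.Agent.FusionBiset
open Cfsg.Agent.FusionMarks Cfsg.Agent.FusionCocycle

variable {Ω : Type*} [Group Ω] {S : Subgroup Ω} {F : FusionSystem S} {p : ℕ}
  {A : Type*} [CommGroup A]

/-- The first projection of a subgroup of `S × S`, inside `S`. -/
abbrev fstS (L : Subgroup (↥S × ↥S)) : Subgroup ↥S := L.map (MonoidHom.fst ↥S ↥S)

open Classical in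
/-- The second coordinate above a first coordinate. -/
noncomputable def snd' (L : Subgroup (↥S × ↥S)) (x : ↥S) : ↥S :=
  if h : x ∈ fstS L then (Subgroup.mem_map.mp h).choose.2 else 1

theorem eq_of_fst {L : Subgroup (↥S × ↥S)} (hL : Diag F L) {q q' : ↥S × ↥S} (hq : q ∈ L)
    (hq' : q' ∈ L) (e : q.1 = q'.1) : q = q' := by
  obtain ⟨f, hf, he⟩ := id hL
  refine eq_of_snd hL hq hq' (hf.injOn (mem_sndImg.mpr ⟨q, hq, rfl⟩)
    (mem_sndImg.mpr ⟨q', hq', rfl⟩) ?_)
  rw [← he q hq, ← he q' hq', e]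

theorem pair_mem {L : Subgroup (↥S × ↥S)} {x : ↥S} (hx : x ∈ fstS L) : (x, snd' L x) ∈ L := by
  classical
  obtain ⟨h1, h2⟩ := (Subgroup.mem_map.mp hx).choose_spec
  rw [snd', dif_pos hx]
  have e : (Subgroup.mem_map.mp hx).choose = (x, (Subgroup.mem_map.mp hx).choose.2) :=
    Prod.ext h2 rfl
  exact e ▸ h1

theorem snd'_eq {L : Subgroup (↥S × ↥S)} (hL : Diag F L) {q : ↥S × ↥S} (hq : q ∈ L) :
    snd' L q.1 = q.2 :=
  (congrArg Prod.snd (eq_of_fst hL (pair_mem ⟨q, hq, rfl⟩) hq rfl) :)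

theorem snd'_mul {L : Subgroup (↥S × ↥S)} (hL : Diag F L) {x y : ↥S} (hx : x ∈ fstS L)
    (hy : y ∈ fstS L) : snd' L (x * y) = snd' L x * snd' L y :=
  snd'_eq hL (L.mul_mem (pair_mem hx) (pair_mem hy))

theorem snd'_one {L : Subgroup (↥S × ↥S)} (hL : Diag F L) : snd' L 1 = 1 :=
  snd'_eq hL L.one_mem

theorem card_fstS {L : Subgroup (↥S × ↥S)} (hL : Diag F L) :
    Nat.card (fstS L) = Nat.card L :=
  (Nat.card_congr (Equiv.ofBijective (fun q : L => (⟨(q : ↥S × ↥S).1, q, q.2, rfl⟩ : fstS L))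
    ⟨fun a b e => Subtype.ext (eq_of_fst hL a.2 b.2 (congrArg Subtype.val e :)), fun x => by
      obtain ⟨q, hq, e⟩ := x.2
      exact ⟨⟨q, hq⟩, Subtype.ext e⟩⟩)).symm

/-- A map from second to first coordinates. -/
theorem exists_map {L : Subgroup (↥S × ↥S)} (hL : Diag F L) :
    ∃ g, Mor F (sndImg L) g ∧ ∀ x ∈ fstS L, (snd' L x : Ω) ∈ sndImg L ∧ g (snd' L x) = (x : Ω) := by
  obtain ⟨g, hg, he⟩ := id hL
  exact ⟨g, hg, fun x hx => ⟨mem_sndImg.mpr ⟨_, pair_mem hx, rfl⟩, (he _ (pair_mem hx)).symm⟩⟩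

/-- `x * r (s • q) ^ (-1) * s * r q`. -/
noncomputable def fac (L : Subgroup (↥S × ↥S)) (s : ↥S) (q : ↥S ⧸ fstS L) : ↥S :=
  (s • q).out⁻¹ * s * q.out

theorem fac_mem (L : Subgroup (↥S × ↥S)) (s : ↥S) (q : ↥S ⧸ fstS L) : fac L s q ∈ fstS L := by
  rw [fac, mul_assoc]
  refine QuotientGroup.eq.mp ?_
  rw [QuotientGroup.out_eq']
  conv_lhs => rw [← QuotientGroup.out_eq' q]
  rfl

theorem fac_mul (L : Subgroup (↥S × ↥S)) (s t : ↥S) (q : ↥S ⧸ fstS L) :
    fac L (s * t) q = fac L s (t • q) * fac L t q := by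
  simp only [fac, mul_smul]
  group

/-- The twisted transfer factor in `Ω`. -/
noncomputable def sig (L : Subgroup (↥S × ↥S)) (b : ↥S) (s : ↥S) (q : ↥S ⧸ fstS L) : Ω :=
  ((s • q).out : Ω) * cj (b : Ω) (snd' L (fac L s q) : Ω) * (q.out : Ω)⁻¹

theorem sig_mul {L : Subgroup (↥S × ↥S)} (hL : Diag F L) (b s t : ↥S) (q : ↥S ⧸ fstS L) :
    sig L b (s * t) q = sig L b s (t • q) * sig L b t q := by
  simp only [sig, fac_mul, snd'_mul hL (fac_mem L _ _) (fac_mem L _ _), mul_smul, Subgroup.coe_mul,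
    cj_apply]
  group

theorem sig_eq_of_fix {L : Subgroup (↥S × ↥S)} (b : ↥S) {s : ↥S} {q : ↥S ⧸ fstS L}
    (h : s • q = q) :
    sig L b s q = cj ((q.out : Ω) * b) (snd' L (q.out⁻¹ * s * q.out) : Ω) := by
  simp only [sig, fac, h, cj_apply]
  group

section

variable (T : Subgroup Ω) (χ : Ω → A)

/-- Multiplicative on `T` and invariant under `S`. -/
structure IsInvHom (S T : Subgroup Ω) (χ : Ω → A) : Prop where
  mul : ∀ x ∈ T, ∀ y ∈ T, χ (x * y) = χ x * χ y
  inv : ∀ s ∈ S, ∀ x ∈ T, χ (cj s x) = χ x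

end

variable {T : Subgroup Ω} {χ : Ω → A}

theorem IsInvHom.map_one (h : IsInvHom S T χ) : χ 1 = 1 := by
  have h1 := h.mul 1 T.one_mem 1 T.one_mem
  rwa [one_mul, left_eq_mul] at h1

theorem IsInvHom.map_pow (h : IsInvHom S T χ) {x : Ω} (hx : x ∈ T) (n : ℕ) :
    χ (x ^ n) = χ x ^ n := by
  induction n with
  | zero => rw [pow_zero, pow_zero, h.map_one]
  | succ n ih => rw [pow_succ, h.mul _ (pow_mem hx n) _ hx, ih, pow_succ]

/-- Modulo `T` every map is a conjugation. -/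
def CongConj (F : FusionSystem S) (T : Subgroup Ω) : Prop :=
  ∀ P f, Mor F P f → ∃ b ∈ S, ∀ x ∈ P, (f x)⁻¹ * cj b x ∈ T

theorem sig_mul_inv_mem (hT : F.StronglyClosed T) {L : Subgroup (↥S × ↥S)} {b : ↥S}
    (hb : ∀ x ∈ fstS L, (x : Ω)⁻¹ * cj (b : Ω) (snd' L x) ∈ T) (s : ↥S) (q : ↥S ⧸ fstS L) :
    sig L b s q * (s : Ω)⁻¹ ∈ T := by
  have h1 := FusionPuig.cj_mem_closed hT (S.mul_mem s.2 q.out.2) (hb _ (fac_mem L s q))
  convert h1 using 1
  simp only [sig, fac, cj_apply, Subgroup.coe_mul, Subgroup.coe_inv]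
  group

theorem snd'_mem (hT : F.StronglyClosed T) {L : Subgroup (↥S × ↥S)} (hL : Diag F L) {x : ↥S}
    (hx : x ∈ fstS L) (hxT : (x : Ω) ∈ T) : (snd' L x : Ω) ∈ T := by
  obtain ⟨g, hg, he⟩ := exists_map hL
  obtain ⟨h1, h2⟩ := he x hx
  obtain ⟨j, hj, hjl, -, -⟩ := hg.exists_inv
  rw [← hjl _ h1, h2]
  exact FusionKit88.closed_apply' hT hj (h2 ▸ apply_mem_im h1) hxT

/-- The base set of a diagonal. -/
abbrev Pts (L : Subgroup (↥S × ↥S)) : Type _ := ↥S ⧸ fstS L

theorem mem_diag_zpowers {y z : ↥S} :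
    Diag F (Subgroup.zpowers ((y, z) : ↥S × ↥S)) ↔
      ∃ f, Mor F (Subgroup.zpowers (z : Ω)) f ∧ f z = y := by
  have hs : sndImg (Subgroup.zpowers ((y, z) : ↥S × ↥S)) = Subgroup.zpowers (z : Ω) := by
    rw [sndImg, MonoidHom.map_zpowers, MonoidHom.map_zpowers]
    rfl
  constructor
  · rintro ⟨f, hf, he⟩
    exact ⟨f, hs ▸ hf, (he _ (Subgroup.mem_zpowers _)).symm⟩
  · rintro ⟨f, hf, he⟩
    refine diag_mono (diag_graph hf) (Subgroup.zpowers_le.mpr ⟨Subgroup.mem_zpowers _, he.symm⟩)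

theorem sndImg_zpowers (y z : ↥S) :
    sndImg (Subgroup.zpowers ((y, z) : ↥S × ↥S)) = Subgroup.zpowers (z : Ω) := by
  rw [sndImg, MonoidHom.map_zpowers, MonoidHom.map_zpowers]
  rfl

variable [Finite S]

/-- The twisted cocycle on `T`. -/
noncomputable def wT (χ : Ω → A) (L : Subgroup (↥S × ↥S)) (b : ↥S)
    (t : T.subgroupOf S) (q : Pts L) : A :=
  χ (sig L b t q)

theorem sig_mem (hT : F.StronglyClosed T) {L : Subgroup (↥S × ↥S)} {b : ↥S}
    (hb : ∀ x ∈ fstS L, (x : Ω)⁻¹ * cj (b : Ω) (snd' L x) ∈ T) (t : T.subgroupOf S)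
    (q : ↥S ⧸ fstS L) : sig L b t q ∈ T := by
  have := T.mul_mem (sig_mul_inv_mem hT hb (t : ↥S) q) (Subgroup.mem_subgroupOf.mp t.2)
  rwa [inv_mul_cancel_right] at this

theorem count_mul_card (hT : F.StronglyClosed T) (hχ : IsInvHom S T χ) {L : Subgroup (↥S × ↥S)}
    (hL : Diag F L) {b : ↥S} (t : T.subgroupOf S) (k : ℕ) (c : A)
    [DecidablePred fun z : ↥S => (z : Ω) ∈ T ∧ χ z = c] [Fintype ↥S] :
    count (wT (T := T) χ L b) t k c * Nat.card S =
      ∑ z ∈ Finset.univ.filter (fun z : ↥S => (z : Ω) ∈ T ∧ χ z = c),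
        mark L (Subgroup.zpowers (((t ^ k : T.subgroupOf S) : ↥S), z)) := by
  classical
  set y := t ^ k with hy
  have hyT : ((y : ↥S) : Ω) ∈ T := Subgroup.mem_subgroupOf.mp y.2
  let e : Pts L × ↥S ≃ (↥S × ↥S) ⧸ L :=
    Equiv.ofBijective (fun x => QuotientGroup.mk (x.1.out, x.2)) ⟨fun x x' h => by
      have hm : (x.1.out⁻¹ * x'.1.out, x.2⁻¹ * x'.2) ∈ L := QuotientGroup.eq.mp h
      have hq : x.1 = x'.1 := by
        rw [← QuotientGroup.out_eq' x.1, ← QuotientGroup.out_eq' x'.1]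
        exact QuotientGroup.eq.mpr ⟨_, hm, rfl⟩
      refine Prod.ext hq ?_
      have := snd'_eq hL hm
      rw [hq, inv_mul_cancel, snd'_one hL] at this
      exact inv_mul_eq_one.mp this.symm, fun z => by
      obtain ⟨⟨a, c⟩, rfl⟩ := QuotientGroup.mk_surjective z
      set q : Pts L := QuotientGroup.mk a
      have hp : q.out⁻¹ * a ∈ fstS L := QuotientGroup.eq.mp (QuotientGroup.out_eq' q)
      refine ⟨(q, c * (snd' L (q.out⁻¹ * a))⁻¹), QuotientGroup.eq.mpr ?_⟩
      convert pair_mem hp using 1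
      simp [mul_assoc]⟩
  have hfix : ∀ (x : Pts L × ↥S) (z : ↥S),
      e x ∈ MulAction.fixedPoints (Subgroup.zpowers ((y : ↥S), z)) ((↥S × ↥S) ⧸ L) ↔
        (y : ↥S) • x.1 = x.1 ∧ z = x.2 * snd' L (x.1.out⁻¹ * y * x.1.out) * x.2⁻¹ := by
    intro x z
    have h0 : (y : ↥S) • x.1 = x.1 ↔ x.1.out⁻¹ * y * x.1.out ∈ fstS L := by
      conv_lhs => rw [← QuotientGroup.out_eq' x.1]
      rw [show (y : ↥S) • ((x.1.out : ↥S) : Pts L) = ((y * x.1.out : ↥S) : Pts L) from rfl,
        eq_comm, QuotientGroup.eq, mul_assoc]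
    rw [show e x = QuotientGroup.mk (x.1.out, x.2) from rfl, mk_mem_fixedPoints_iff_le,
      Subgroup.zpowers_le, TransferAlperin.mem_cj]
    constructor
    · intro h
      have h1 := snd'_eq hL h
      simp only [Prod.fst_mul, Prod.snd_mul, Prod.fst_inv, Prod.snd_inv] at h1
      refine ⟨h0.mpr ⟨_, h, rfl⟩, ?_⟩
      rw [h1]
      group
    · rintro ⟨h1, rfl⟩
      convert pair_mem (h0.mp h1) using 1
      simp [mul_assoc]
  have hval : ∀ x : Pts L × ↥S, (y : ↥S) • x.1 = x.1 →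
      (((x.2 * snd' L (x.1.out⁻¹ * y * x.1.out) * x.2⁻¹ : ↥S) : Ω) ∈ T ∧
        χ (x.2 * snd' L (x.1.out⁻¹ * y * x.1.out) * x.2⁻¹ : ↥S) = wT (T := T) χ L b y x.1) := by
    intro x hx
    have hm : x.1.out⁻¹ * y * x.1.out ∈ fstS L := by
      have := fac_mem L (y : ↥S) x.1
      rwa [fac, hx] at this
    have hmT : ((x.1.out⁻¹ * y * x.1.out : ↥S) : Ω) ∈ T := by
      have := FusionPuig.cj_mem_closed hT (S.inv_mem x.1.out.2) hyT
      simpa [cj_apply] using this
    have hs := snd'_mem hT hL hm hmT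
    rw [show (((x.2 * snd' L (x.1.out⁻¹ * y * x.1.out) * x.2⁻¹ : ↥S)) : Ω) =
      cj (x.2 : Ω) (snd' L (x.1.out⁻¹ * y * x.1.out)) from rfl]
    refine ⟨FusionPuig.cj_mem_closed hT x.2.2 hs, ?_⟩
    rw [wT, sig_eq_of_fix b hx, hχ.inv _ x.2.2 _ hs, hχ.inv _ (S.mul_mem x.1.out.2 b.2) _ hs]
  simp only [mark]
  rw [count, ← Nat.card_prod, ← Nat.card_congr (Equiv.refl _)]
  rw [← Finset.sum_coe_sort, ← Nat.card_sigma]
  refine Nat.card_congr
    { toFun := fun x => ⟨⟨x.2 * snd' L (x.1.1.out⁻¹ * y * x.1.1.out) * x.2⁻¹,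
          Finset.mem_filter.mpr ⟨Finset.mem_univ _, (hval (x.1.1, x.2) x.1.2.1).1,
            (hval (x.1.1, x.2) x.1.2.1).2.trans x.1.2.2⟩⟩,
          ⟨e (x.1.1, x.2), (hfix _ _).mpr ⟨x.1.2.1, rfl⟩⟩⟩
      invFun := fun z =>
        ⟨⟨(e.symm z.2).1, ?_⟩, (e.symm z.2).2⟩
      left_inv := fun x => ?_
      right_inv := fun z => ?_ }
  · have hz := (hfix (e.symm z.2) z.1).mp (by rw [e.apply_symm_apply]; exact z.2.2)
    refine ⟨hz.1, ?_⟩
    have := (Finset.mem_filter.mp z.1.2).2.2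
    rw [hz.2, (hval _ hz.1).2] at this
    exact this
  · exact Prod.ext (Subtype.ext (by simp)) (by simp)
  · obtain ⟨⟨zv, hzv⟩, w, hw⟩ := z
    have hz := (hfix (e.symm w) zv).mp (by rw [e.apply_symm_apply]; exact hw)
    obtain ⟨-, rfl⟩ := hz
    refine Sigma.ext rfl (heq_of_eq (Subtype.ext ?_))
    exact e.apply_symm_apply w

variable [hp : Fact p.Prime]

/-- Transfer in a saturated fusion system; the clause on invariant elements in general form. -/
theorem exists_transfer' (hS : IsPGroup p S) (hF : F.IsSaturated p) (hT : F.StronglyClosed T)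
    (hc : CongConj F T) (hχ : IsInvHom S T χ) :
    ∃ (N : ℤ) (W : Ω → A) (f : ↥S →* A), ¬ (p : ℤ) ∣ N ∧
      (∀ x ∈ T, ∀ y ∈ T, W (x * y) = W x * W y) ∧
      (∀ P g, Mor F P g → ∀ x ∈ P, x ∈ T → W (g x) = W x) ∧
      (∀ x (hx : x ∈ T), W x = f ⟨x, hT.1 hx⟩ * χ x ^ N) ∧
      (T = S → ∀ K : Subgroup A, (∀ P g, Mor F P g → ∀ x ∈ P, χ (g x) * (χ x)⁻¹ ∈ K) →
        ∀ x ∈ T, W x * (χ x ^ N)⁻¹ ∈ K) ∧
      (∀ z ∈ T, (∀ (j : ℕ), ∀ s ∈ S, ∀ P g, Mor F P g → cj s (z ^ j) ∈ P →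
        χ (g (cj s (z ^ j))) = χ (z ^ j)) → W z = χ z ^ N) ∧
      ((∀ a : A, a ^ p = 1) → ∀ t ∈ T, t ^ p = 1 → ∀ C : Subgroup Ω, C ≤ S → t ∈ C →
        (∀ s ∈ C, s * t = t * s) → ∀ c : A, (∀ g, Mor F C g → χ (g t) = c) → W t = c ^ N) := by
  classical
  obtain ⟨a, ha, hst, hdeg⟩ := exists_biset hS hF
  haveI : Fintype ↥S := Fintype.ofFinite _
  let ι := {L : Subgroup (↥S × ↥S) // Diag F L}
  haveI : Fintype ι := Fintype.ofFinite _
  have hb : ∀ L : ι, ∃ b : ↥S, ∀ x ∈ fstS L.1, (x : Ω)⁻¹ * cj (b : Ω) (snd' L.1 x) ∈ T := by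
    intro L
    obtain ⟨g, hg, he⟩ := exists_map L.2
    obtain ⟨b, hbS, hbe⟩ := hc _ _ hg
    refine ⟨⟨b, hbS⟩, fun x hx => ?_⟩
    have := hbe _ (he x hx).1
    rwa [(he x hx).2] at this
  choose b hb using hb
  haveI : ∀ L : ι, Fintype (Pts L.1) := fun L => Fintype.ofFinite _
  let w : ∀ L : ι, T.subgroupOf S → Pts L.1 → A := fun L => wT (T := T) χ L.1 (b L)
  have hw : ∀ L : ι, ∀ g h x, w L (g * h) x = w L g (h • x) * w L h x := by
    intro L g h x
    show χ _ = χ _ * χ _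
    rw [← hχ.mul _ (sig_mem hT (hb L) g _) _ (sig_mem hT (hb L) h _)]
    exact congrArg χ (sig_mul L.2 _ _ _ _)
  let τ : ∀ L : ι, ↥S → Pts L.1 → A := fun L s q => χ (sig L.1 (b L) s q * (s : Ω)⁻¹)
  have hτ : ∀ L : ι, ∀ g h x, τ L (g * h) x = τ L g (h • x) * τ L h x := by
    intro L g h x
    have h1 := sig_mul_inv_mem hT (hb L) g (h • x)
    have h2 := sig_mul_inv_mem hT (hb L) h x
    show χ _ = χ _ * χ _
    rw [← hχ.inv _ g.2 _ h2, ← hχ.mul _ h1 _ (FusionPuig.cj_mem_closed hT g.2 h2),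
      sig_mul L.2, cj_apply]
    refine congrArg χ ?_
    rw [Subgroup.coe_mul]
    group
  let f : ↥S →* A := ∏ L : ι, FusionCocycle.total (τ L) (hτ L) ^ a L.1
  let W₀ : T.subgroupOf S →* A := ∏ L : ι, FusionCocycle.total (w L) (hw L) ^ a L.1
  have hW₀ : ∀ t, W₀ t = ∏ L : ι, (∏ x, w L t x) ^ a L.1 := fun t => by
    simp only [W₀, MonoidHom.finset_prod_apply, MonoidHom.zpow_apply, total_apply]
  set N := ∑ L : ι, a L.1 * (Fintype.card (Pts L.1) : ℤ) with hN
  have hdeg' : N = degree a := by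
    rw [hN, degree, ← Finset.sum_subset (Finset.subset_univ
      (Finset.univ.filter fun L => Diag F L)) (fun L _ hL => by
        rw [by_contra (fun h => hL (Finset.mem_filter.mpr ⟨Finset.mem_univ _, ha L h⟩)), zero_mul])]
    rw [Finset.sum_subtype (Finset.univ.filter fun L => Diag F L) (p := fun L => Diag F L)
      (by simp) (fun L => a L * ((Nat.card S / Nat.card L : ℕ) : ℤ))]
    refine Finset.sum_congr rfl fun L _ => ?_
    congr 2
    rw [← Nat.card_eq_fintype_card, ← card_fstS L.2,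
      Subgroup.card_eq_card_quotient_mul_card_subgroup (fstS L.1),
      Nat.mul_div_cancel _ Nat.card_pos]
  let W : Ω → A := fun x => if h : x ∈ T then W₀ ⟨⟨x, hT.1 h⟩, h⟩ else 1
  have hWx : ∀ x (h : x ∈ T), W x = W₀ ⟨⟨x, hT.1 h⟩, h⟩ := fun x h => dif_pos h
  refine ⟨N, W, f, hdeg' ▸ hdeg, fun x hx y hy => ?_, fun P g hg x hxP hxT => ?_,
    fun x hx => ?_, fun hTS K hst' x hx => ?_, fun z hz hzfix => ?_, fun hA x hx hxp C hCS hxC hCx c hc' => ?_⟩
  · rw [hWx x hx, hWx y hy, hWx _ (T.mul_mem hx hy), ← map_mul]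
    rfl
  · have hgT : g x ∈ T := FusionKit88.closed_apply' hT hg hxP hxT
    rw [hWx x hxT, hWx _ hgT, hW₀, hW₀]
    set tg : T.subgroupOf S := ⟨⟨g x, hT.1 hgT⟩, hgT⟩
    set tx : T.subgroupOf S := ⟨⟨x, hT.1 hxT⟩, hxT⟩
    refine prod_zpow_total_eq (fun L => w L) hw (fun L => a L.1) tg tx fun k hk c => ?_
    refine mul_right_cancel₀ (b := (Nat.card S : ℤ)) (by exact_mod_cast Nat.card_pos.ne') ?_
    have key : ∀ t : T.subgroupOf S,
        (∑ L : ι, a L.1 * (count (w L) t k c : ℤ)) * (Nat.card S : ℤ) =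
          ∑ z ∈ Finset.univ.filter (fun z : ↥S => (z : Ω) ∈ T ∧ χ z = c),
            marks a (Subgroup.zpowers (((t ^ k : T.subgroupOf S) : ↥S), z)) := by
      intro t
      rw [Finset.sum_mul]
      simp only [marks]
      rw [Finset.sum_comm, ← Finset.sum_subset (Finset.subset_univ
        (Finset.univ.filter fun L => Diag F L)) (fun L _ hL => Finset.sum_eq_zero fun z _ => by
          rw [by_contra (fun h => hL (Finset.mem_filter.mpr ⟨Finset.mem_univ _, ha L h⟩)),
            zero_mul])]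
      rw [Finset.sum_subtype (Finset.univ.filter fun L => Diag F L) (p := fun L => Diag F L)
        (by simp) (fun L => ∑ z ∈ Finset.univ.filter (fun z : ↥S => (z : Ω) ∈ T ∧ χ z = c),
          a L * (mark L (Subgroup.zpowers (((t ^ k : T.subgroupOf S) : ↥S), z)) : ℤ))]
      refine Finset.sum_congr rfl fun L _ => ?_
      rw [← Finset.mul_sum, mul_assoc, ← Nat.cast_mul, count_mul_card hT hχ L.2, Nat.cast_sum]
    rw [key, key]
    refine Finset.sum_congr rfl fun z _ => ?_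
    set u : ↥S := ((tx ^ k : T.subgroupOf S) : ↥S)
    set v : ↥S := ((tg ^ k : T.subgroupOf S) : ↥S)
    have hu : (u : Ω) = x ^ k := by simp [u, tx]
    have hgp : ∀ n : ℕ, g (x ^ n) = g x ^ n := fun n => by
      induction n with
      | zero => rw [pow_zero, pow_zero, hg.map_one]
      | succ n ih => rw [pow_succ, hg.map_mul (pow_mem hxP n) hxP, ih, pow_succ]
    have hv : (v : Ω) = g x ^ k := by simp [v, tg]
    by_cases hd : Diag F (Subgroup.zpowers ((u, z) : ↥S × ↥S))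
    · refine hst _ _ ?_ hd (Nat.zero_le _) (by rw [sndImg_zpowers, sndImg_zpowers])
      obtain ⟨h, hh, he⟩ := mem_diag_zpowers.mp hd
      have hm : ∀ y ∈ Subgroup.zpowers (z : Ω), h y ∈ P := by
        intro y hy
        have hle : Subgroup.zpowers (z : Ω) ≤ Subgroup.zpowers (z : Ω) := le_rfl
        obtain ⟨j, rfl⟩ := Subgroup.mem_zpowers_iff.mp hy
        have : h ((z : Ω) ^ j) = (x ^ k) ^ j := by
          rw [← hu, ← he]
          exact map_zpow
            ({ toFun := fun y => h y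
               map_one' := hh.map_one
               map_mul' := fun a c => hh.map_mul a.2 c.2 } : Subgroup.zpowers (z : Ω) →* Ω)
            ⟨z, Subgroup.mem_zpowers _⟩ j
        rw [this]
        exact zpow_mem (pow_mem hxP k) j
      refine mem_diag_zpowers.mpr ⟨g ∘ h, hh.comp hg hm, ?_⟩
      show g (h z) = v
      rw [he, hu, hgp, hv]
    · rw [marks_eq_zero ha hd, marks_eq_zero ha]
      intro hd'
      refine hd ?_
      obtain ⟨h, hh, he⟩ := mem_diag_zpowers.mp hd'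
      obtain ⟨i, hi, hil, -, -⟩ := hg.exists_inv
      have hm : ∀ y ∈ Subgroup.zpowers (z : Ω), h y ∈ im P g := by
        intro y hy
        obtain ⟨j, rfl⟩ := Subgroup.mem_zpowers_iff.mp hy
        have : h ((z : Ω) ^ j) = (g x ^ k) ^ j := by
          rw [← hv, ← he]
          exact map_zpow
            ({ toFun := fun y => h y
               map_one' := hh.map_one
               map_mul' := fun a c => hh.map_mul a.2 c.2 } : Subgroup.zpowers (z : Ω) →* Ω)
            ⟨z, Subgroup.mem_zpowers _⟩ j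
        rw [this]
        exact zpow_mem (pow_mem (apply_mem_im hxP) k) j
      refine mem_diag_zpowers.mpr ⟨i ∘ h, hh.comp hi hm, ?_⟩
      show i (h z) = u
      rw [he, hv, ← hgp, hil _ (pow_mem hxP k), hu]
  · rw [hWx x hx, hW₀, show f ⟨x, hT.1 hx⟩ = ∏ L : ι, (∏ q, τ L ⟨x, hT.1 hx⟩ q) ^ a L.1 by
        simp only [f, MonoidHom.finset_prod_apply, MonoidHom.zpow_apply, total_apply],
      hN, ← prod_zpow_eq_zpow_sum, ← Finset.prod_mul_distrib]
    refine Finset.prod_congr rfl fun L _ => ?_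
    rw [mul_comm (a L.1), zpow_mul, zpow_natCast, ← mul_zpow]
    congr 1
    rw [← Finset.card_univ, ← Finset.prod_const, ← Finset.prod_mul_distrib]
    refine Finset.prod_congr rfl fun q _ => ?_
    show χ _ = χ _ * χ x
    rw [← hχ.mul _ (sig_mul_inv_mem hT (hb L) _ _) _ hx]
    refine congrArg χ ?_
    simp
  · rw [← div_eq_mul_inv, ← QuotientGroup.eq_iff_div_mem]
    change (QuotientGroup.mk' K) (W x) = QuotientGroup.mk' K (χ x ^ N)
    rw [hWx x hx, hW₀, hN, ← prod_zpow_eq_zpow_sum, map_prod, map_prod]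
    refine Finset.prod_congr rfl fun L _ => ?_
    rw [mul_comm (a L.1), zpow_mul, zpow_natCast, ← Finset.card_univ, ← Finset.prod_const,
      map_zpow, map_zpow, map_prod, map_prod]
    congr 1
    have hmem : ∀ s : ↥S, (s : Ω) ∈ T := fun s => hTS ▸ s.2
    have hsplit : ∀ (r : ↥S) (u : Ω), u ∈ T → χ ((r : Ω) * u) = χ r * χ u :=
      fun r u hu => hχ.mul _ (hmem r) _ hu
    refine Finset.prod_congr rfl fun q _ => ?_
    set s : ↥S := ⟨x, hT.1 hx⟩
    show QuotientGroup.mk' K (χ (sig L.1 (b L) s q)) = QuotientGroup.mk' K (χ x)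
    obtain ⟨g, hg, hge⟩ := exists_map L.2
    have hd := fac_mem L.1 s q
    have e1 : QuotientGroup.mk' K (χ (cj (b L : Ω) (snd' L.1 (fac L.1 s q)))) =
        QuotientGroup.mk' K (χ (fac L.1 s q : Ω)) := by
      rw [hχ.inv _ (b L).2 _ (hmem _), ← (hge _ hd).2]
      refine (QuotientGroup.eq_iff_div_mem.mpr ?_).symm
      rw [div_eq_mul_inv]
      exact hst' _ _ hg _ (hge _ hd).1
    simp only [sig]
    rw [hχ.mul _ (T.mul_mem (hmem _) (FusionPuig.cj_mem_closed hT (b L).2 (hmem _))) _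
        (T.inv_mem (hmem _)),
      hsplit _ _ (FusionPuig.cj_mem_closed hT (b L).2 (hmem _)), map_mul, map_mul, e1,
      ← map_mul, ← map_mul, ← hsplit _ _ (hmem _),
      ← hχ.mul _ (T.mul_mem (hmem _) (hmem _)) _ (T.inv_mem (hmem _))]
    refine congrArg _ (congrArg χ ?_)
    simp [fac, s, mul_assoc]
  · rw [hWx z hz, hW₀, hN, ← prod_zpow_eq_zpow_sum]
    refine Finset.prod_congr rfl fun L _ => ?_
    rw [mul_comm (a L.1), zpow_mul, zpow_natCast]
    congr 1
    set t : T.subgroupOf S := ⟨⟨z, hT.1 hz⟩, hz⟩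
    haveI : Fintype (Orb t (Pts L.1)) := Fintype.ofFinite _
    rw [prod_eq_prod_val (hw L) t]
    have hval : ∀ q : Orb t (Pts L.1), val (w L) t q = χ z ^ len t q := by
      intro q
      have hfix := pow_len_smul t q
      have hfix' : ((t ^ len t q : T.subgroupOf S) : ↥S) • q.out = q.out := hfix
      show χ (sig L.1 (b L) ((t ^ len t q : T.subgroupOf S) : ↥S) q.out) = _
      set r := q.out.out
      set n := len t q
      have hm : r⁻¹ * ((t ^ n : T.subgroupOf S) : ↥S) * r ∈ fstS L.1 := by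
        have := fac_mem L.1 ((t ^ n : T.subgroupOf S) : ↥S) q.out
        rwa [fac, hfix'] at this
      rw [sig_eq_of_fix _ hfix']
      obtain ⟨g, hg, hge⟩ := exists_map L.2
      obtain ⟨i, hi, hil, -, -⟩ := hg.exists_inv
      have hy : ((r⁻¹ * ((t ^ n : T.subgroupOf S) : ↥S) * r : ↥S) : Ω) =
          cj (r : Ω)⁻¹ (z ^ n) := by simp [t, cj_apply]
      have hmem : cj (r : Ω)⁻¹ (z ^ n) ∈ T :=
        FusionPuig.cj_mem_closed hT (S.inv_mem r.2) (pow_mem hz n)
      rw [hχ.inv _ (S.mul_mem r.2 (b L).2) _ (snd'_mem hT L.2 hm (hy ▸ hmem)), ← hil _ (hge _ hm).1,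
        (hge _ hm).2, hy, hzfix n _ (S.inv_mem r.2) _ _ hi
          (hy ▸ (hge _ hm).2 ▸ apply_mem_im (hge _ hm).1), hχ.map_pow hz]
    rw [Finset.prod_congr rfl fun q _ => hval q, Finset.prod_pow_eq_pow_sum]
    congr 1
    rw [← Finset.card_univ, Finset.card_eq_sum_card_fiberwise
      (f := fun x => (Quotient.mk _ x : Orb t (Pts L.1))) (t := Finset.univ)
      (fun x _ => Finset.mem_univ _)]
    refine Finset.sum_congr rfl fun q _ => ?_
    rw [fiber_eq, Finset.card_image_of_injOn (injOn_pow_smul t q), Finset.card_range]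
  · rw [hWx x hx, hW₀, hN, ← prod_zpow_eq_zpow_sum]
    refine Finset.prod_congr rfl fun L _ => ?_
    rw [mul_comm (a L.1), zpow_mul, zpow_natCast]
    congr 1
    set t : T.subgroupOf S := ⟨⟨x, hT.1 hx⟩, hx⟩
    have hp' := (Fact.out : p.Prime)
    have htp : t ^ p = 1 := Subtype.ext (Subtype.ext (by simpa [t] using hxp))
    haveI : Fintype (Orb t (Pts L.1)) := Fintype.ofFinite _
    -- only the fixed points contribute
    have hfx : ∏ q, w L t q =
        ∏ q ∈ Finset.univ.filter (fun q : Pts L.1 => (t : ↥S) • q = q), w L t q := by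
      rw [← Finset.prod_fiberwise_of_maps_to (s := Finset.univ) (t := Finset.univ)
        (g := fun q => (Quotient.mk _ q : Orb t (Pts L.1))) (fun q _ => Finset.mem_univ _),
        ← Finset.prod_fiberwise_of_maps_to
        (s := Finset.univ.filter (fun q : Pts L.1 => (t : ↥S) • q = q)) (t := Finset.univ)
        (g := fun q => (Quotient.mk _ q : Orb t (Pts L.1))) (fun q _ => Finset.mem_univ _)]
      refine Finset.prod_congr rfl fun o _ => ?_
      by_cases hl : t • o.out = o.out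
      · refine Finset.prod_congr ?_ fun _ _ => rfl
        rw [Finset.filter_comm]
        refine (Finset.filter_true_of_mem fun q hq => ?_).symm
        rw [fiber_eq, Finset.mem_image] at hq
        obtain ⟨i, -, rfl⟩ := hq
        show t • (t ^ i • o.out) = t ^ i • o.out
        rw [← mul_smul, ← pow_succ', pow_succ, mul_smul, hl]
      · rw [Finset.filter_comm, fiber_eq,
          Finset.filter_false_of_mem (p := fun q : Pts L.1 => (t : ↥S) • q = q) (fun q hq => ?_),
          Finset.prod_empty, Finset.prod_image (injOn_pow_smul t o), ← cocycle_pow (hw L)]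
        · have hlen : p ∣ len t o := by
            have h1 : len t o ∣ p := MulAction.pow_smul_eq_iff_minimalPeriod_dvd.mp
              (by rw [htp, one_smul])
            rcases (Nat.dvd_prime hp').mp h1 with h2 | h2
            · refine absurd ?_ hl
              have h3 := pow_len_smul t o
              rwa [h2, pow_one] at h3
            · rw [h2]
          obtain ⟨j, hj⟩ := hlen
          rw [hj, pow_mul, htp, one_pow, cocycle_one (hw L)]
        · rw [Finset.mem_image] at hq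
          obtain ⟨i, -, rfl⟩ := hq
          intro h2
          refine hl ((smul_left_cancel_iff (t ^ i)).mp ?_)
          rw [← mul_smul, ← pow_succ, pow_succ', mul_smul]
          exact h2
    rw [hfx]
    -- the action of `C` on the fixed points
    set C' : Subgroup ↥S := C.subgroupOf S
    let Y := {q : Pts L.1 // (t : ↥S) • q = q}
    have hst' : ∀ u ∈ C', u * (t : ↥S) = (t : ↥S) * u := fun u hu => Subtype.ext (hCx u hu)
    letI : MulAction C' Y :=
      { smul := fun u q => ⟨(u : ↥S) • q.1, by rw [← mul_smul, ← hst' u u.2, mul_smul, q.2]⟩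
        one_smul := fun q => Subtype.ext (one_smul _ q.1)
        mul_smul := fun u v q => Subtype.ext (mul_smul (u : ↥S) (v : ↥S) q.1) }
    let v : Y → A := fun q => w L t q.1
    have hY : ∏ q ∈ Finset.univ.filter (fun q : Pts L.1 => (t : ↥S) • q = q), w L t q =
        ∏ q : Y, v q :=
      Finset.prod_subtype _ (by simp) _
    have hCp : IsPGroup p C' := hS.to_subgroup C'
    have hvC : ∀ (u : C') (q : Y), v (u • q) = v q := by
      intro u q
      have h2 := sig_mul (L.2) (b L) (u : ↥S) (t : ↥S) q.1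
      have h3 := sig_mul (L.2) (b L) (t : ↥S) (u : ↥S) q.1
      rw [q.2] at h2
      rw [hst' u u.2] at h2
      show χ (sig L.1 (b L) t ((u : ↥S) • q.1)) = χ (sig L.1 (b L) t q.1)
      have e : sig L.1 (b L) t ((u : ↥S) • q.1) =
          cj (sig L.1 (b L) u q.1) (sig L.1 (b L) t q.1) := by
        rw [cj_apply, ← h2, h3, mul_inv_cancel_right]
      rw [e, hχ.inv _ ?_ _ (sig_mem hT (hb L) t q.1)]
      exact S.mul_mem (S.mul_mem ((u : ↥S) • q.1).out.2
        (cj_mem_S (b L).2 (snd' L.1 _).2)) (S.inv_mem q.1.out.2)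
    -- an invariant function with values of exponent `p`
    have hprod : ∏ q : Y, v q =
        ∏ q ∈ Finset.univ.filter (fun q : Y => q ∈ MulAction.fixedPoints C' Y), v q := by
      refine (TransferFixed.prod_eq_prod_fixed (S := C') v fun q hq => ?_)
      have hconst : ∀ b' ∈ Finset.univ.filter (· ∈ MulAction.orbit C' q), v b' = v q := by
        intro b' hb'
        obtain ⟨u, rfl⟩ := (Finset.mem_filter.mp hb').2
        exact hvC u q
      rw [Finset.prod_congr rfl hconst, Finset.prod_const]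
      obtain ⟨i, hi⟩ := hCp.card_orbit q
      have hcard : (Finset.univ.filter (· ∈ MulAction.orbit C' q)).card = p ^ i := by
        rw [← hi, Nat.card_eq_fintype_card, ← Set.toFinset_card]
        congr 1
        ext; simp
      rcases i.eq_zero_or_pos with h0 | h0
      · refine absurd (fun u => ?_) hq
        rw [h0, pow_zero] at hcard
        exact Finset.card_le_one.mp hcard.le _ (by simp [MulAction.mem_orbit]) _ (by simp)
      · obtain ⟨d, hd⟩ := dvd_pow_self p h0.ne'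
        rw [hcard, hd, pow_mul, hA, one_pow]
    have hval : ∀ q : Y, q ∈ MulAction.fixedPoints C' Y → v q = c := by
      intro q hq
      obtain ⟨g, hg, hge⟩ := exists_map L.2
      obtain ⟨i, hi, hil, -, -⟩ := hg.exists_inv
      set r := q.1.out
      have hm : ∀ u ∈ C', r⁻¹ * u * r ∈ fstS L.1 := by
        intro u hu
        have h2 : u • q.1 = q.1 := congrArg Subtype.val (hq ⟨u, hu⟩)
        have := fac_mem L.1 u q.1
        rwa [fac, h2] at this
      have hmem : ∀ y ∈ C, cj (r : Ω)⁻¹ y ∈ im (sndImg L.1) g := by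
        intro y hy
        have h2 := hge _ (hm ⟨y, hCS hy⟩ hy)
        have e : cj (r : Ω)⁻¹ y = ((r⁻¹ * ⟨y, hCS hy⟩ * r : ↥S) : Ω) := by simp [cj_apply]
        rw [e, ← h2.2]
        exact apply_mem_im h2.1
      have hcomp : Mor F C (i ∘ cj (r : Ω)⁻¹) := (mor_cj hCS (S.inv_mem r.2)).comp hi hmem
      show χ (sig L.1 (b L) t q.1) = c
      have hts : (snd' L.1 (r⁻¹ * (t : ↥S) * r) : Ω) = i (cj (r : Ω)⁻¹ x) := by
        have h2 := hge _ (hm (t : ↥S) hxC)
        rw [← hil _ h2.1, h2.2]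
        simp [cj_apply, t]
      rw [sig_eq_of_fix _ q.2, hχ.inv _ (S.mul_mem r.2 (b L).2) _ ?_, hts]
      · exact hc' _ hcomp
      · refine snd'_mem hT L.2 (hm (t : ↥S) hxC) ?_
        simpa [cj_apply, t] using FusionPuig.cj_mem_closed hT (S.inv_mem r.2) hx
    rw [hY, hprod, Finset.prod_congr rfl (fun q hq => hval q (Finset.mem_filter.mp hq).2),
      Finset.prod_const]
    -- congruent cardinalities
    have hC : Nat.card (Pts L.1) ≡ Nat.card Y [MOD p] := by
      haveI : Finite (Subgroup.zpowers (t : ↥S)) := inferInstance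
      have h2 := (hS.to_subgroup (Subgroup.zpowers (t : ↥S))).card_modEq_card_fixedPoints
        (α := Pts L.1)
      have he : Nat.card (MulAction.fixedPoints (Subgroup.zpowers (t : ↥S)) (Pts L.1)) = Nat.card Y := by
        refine Nat.card_congr (Equiv.subtypeEquivRight fun q => ?_)
        refine ⟨fun h => h ⟨_, Subgroup.mem_zpowers _⟩, fun h z => ?_⟩
        obtain ⟨_, j, rfl⟩ := z
        have h4 : (t : ↥S) ∈ MulAction.stabilizer ↥S q := h
        exact (zpow_mem h4 j :)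
      rwa [he] at h2
    have hF' := hCp.card_modEq_card_fixedPoints (α := Y)
    have h5 : (Finset.univ.filter (fun q : Y => q ∈ MulAction.fixedPoints C' Y)).card =
        Nat.card (MulAction.fixedPoints C' Y) := by
      rw [← Nat.card_eq_finsetCard]
      exact Nat.card_congr (Equiv.subtypeEquivRight (by simp))
    rw [h5, ← Nat.card_eq_fintype_card]
    refine pow_eq_pow_iff_modEq.mpr ?_
    exact Nat.ModEq.of_dvd (orderOf_dvd_of_pow_eq_one (hA c)) (hC.trans hF').symm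

/-- **Transfer in a saturated fusion system.** -/
theorem exists_transfer (hS : IsPGroup p S) (hF : F.IsSaturated p) (hT : F.StronglyClosed T)
    (hc : CongConj F T) (hχ : IsInvHom S T χ) :
    ∃ (N : ℤ) (W : Ω → A) (f : ↥S →* A), ¬ (p : ℤ) ∣ N ∧
      (∀ x ∈ T, ∀ y ∈ T, W (x * y) = W x * W y) ∧
      (∀ P g, Mor F P g → ∀ x ∈ P, x ∈ T → W (g x) = W x) ∧
      (∀ x (hx : x ∈ T), W x = f ⟨x, hT.1 hx⟩ * χ x ^ N) ∧
      (T = S → ∀ K : Subgroup A, (∀ P g, Mor F P g → ∀ x ∈ P, χ (g x) * (χ x)⁻¹ ∈ K) →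
        ∀ x ∈ T, W x * (χ x ^ N)⁻¹ ∈ K) ∧
      (∀ z ∈ T, (∀ s ∈ S, s * z = z * s) →
        (∀ (j : ℕ) P g, Mor F P g → z ^ j ∈ P → g (z ^ j) = z ^ j) → W z = χ z ^ N) ∧
      ((∀ a : A, a ^ p = 1) → ∀ t ∈ T, t ^ p = 1 → ∀ C : Subgroup Ω, C ≤ S → t ∈ C →
        (∀ s ∈ C, s * t = t * s) → ∀ c : A, (∀ g, Mor F C g → χ (g t) = c) → W t = c ^ N) := by
  obtain ⟨N, W, f, h1, h2, h3, h4, h5, h6, h7⟩ := exists_transfer' hS hF hT hc hχ
  refine ⟨N, W, f, h1, h2, h3, h4, h5, fun z hz hzc hzfix => h6 z hz fun j s hs P g hg hm => ?_, h7⟩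
  have e : cj s (z ^ j) = z ^ j := by
    have hcomm : Commute s (z ^ j) := Commute.pow_right (hzc s hs) j
    rw [cj_apply, hcomm.eq, mul_inv_cancel_right]
  rw [e] at hm ⊢
  rw [hzfix j P g hg hm]

end Cfsg.Agent.FusionTransfer
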