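import Mathlib
import Cfsg.Agent.Lib.FusionPosBiset88
import Cfsg.Agent.Lib.FusionPPower
import Cfsg.Agent.Lib.FusionPrimeIndex88
import Cfsg.Agent.Lib.SylowCount
import Cfsg.Agent.Lib.ClassTwoPow
import Cfsg.Agent.Lib.FusionTransfer

/-!
Subsystems of `p`-power index: for a homomorphism `χ` of the `p`-group onto a group of order `p`
invariant under the system, the maps with an intertwiner of total value `1` form a saturated
subsystem over the kernel.
-/

set_option autoImplicit false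

namespace Cfsg.Agent.FusionPPowerIndex88

open Cfsg Cfsg.FusionSystem Cfsg.Agent.FusionSysBasic Cfsg.Agent.FusionSysSaturated
open Cfsg.Agent.FusionBiset Cfsg.Agent.FusionPosBiset88 Cfsg.Agent.FusionInduct88

/-! ### A product over a set with an action of a `p`-group -/

theorem prod_eq_prod_fixed {P O A : Type*} [Group P] [MulAction P O] [Finite P] [Fintype O]
    [CommGroup A] {p : ℕ} [Fact p.Prime] [DecidablePred (· ∈ MulAction.fixedPoints P O)]
    (hP : IsPGroup p P) (hA : ∀ a : A, a ^ p = 1)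
    {f : O → A} (hf : ∀ (u : P) o, f (u • o) = f o) :
    ∏ o, f o = ∏ o ∈ Finset.univ.filter (· ∈ MulAction.fixedPoints P O), f o := by
  classical
  rw [← Finset.prod_filter_mul_prod_filter_not Finset.univ (· ∈ MulAction.fixedPoints P O)]
  convert mul_one _
  rw [← Finset.prod_fiberwise_of_maps_to (t := Finset.univ)
    (g := fun o : O => (⟦o⟧ : Quotient (MulAction.orbitRel P O))) fun o _ => Finset.mem_univ _]
  refine Finset.prod_eq_one fun q _ => ?_
  obtain ⟨o₀, rfl⟩ := Quotient.exists_rep q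
  by_cases hfix : o₀ ∈ MulAction.fixedPoints P O
  · refine Finset.prod_eq_one fun o ho => ?_
    obtain ⟨h1, h2⟩ := Finset.mem_filter.1 ho
    obtain ⟨u, hu⟩ := (Quotient.eq.1 h2 : o ∈ MulAction.orbit P o₀)
    have e : o = o₀ := hu.symm.trans (hfix u)
    exact absurd (e ▸ hfix) (Finset.mem_filter.1 h1).2
  · rw [Finset.prod_eq_pow_card (b := f o₀)]
    · have hd : p ∣ Nat.card (MulAction.orbit P o₀) := by
        obtain ⟨k, hk⟩ := hP.card_orbit o₀
        rw [hk]
        refine dvd_pow_self p fun h0 => hfix (MulAction.mem_fixedPoints_iff_card_orbit_eq_one.2 ?_)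
        rw [← Nat.card_eq_fintype_card, hk, h0, pow_zero]
      obtain ⟨m, hm⟩ := hd
      have hc : ((Finset.univ.filter fun o => ¬ o ∈ MulAction.fixedPoints P O).filter
          fun o => (⟦o⟧ : Quotient (MulAction.orbitRel P O)) = ⟦o₀⟧).card =
          Nat.card (MulAction.orbit P o₀) := by
        rw [← Nat.card_eq_finsetCard]
        refine Nat.card_congr (Equiv.subtypeEquivRight fun o => ?_)
        simp only [Finset.mem_filter, Finset.mem_univ, true_and, Quotient.eq]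
        refine ⟨fun h => h.2, fun h => ⟨fun hfo => hfix ?_, h⟩⟩
        obtain ⟨u, hu⟩ := (h : o ∈ MulAction.orbit P o₀)
        have hu : u • o₀ = o := hu
        have e := hfo u⁻¹
        rw [← hu, inv_smul_smul] at e
        exact (e.trans hu : o₀ = o) ▸ hfo
      rw [hc, hm, pow_mul, hA, one_pow]
    · intro o ho
      obtain ⟨u, hu⟩ := (Quotient.eq.1 (Finset.mem_filter.1 ho).2 : o ∈ MulAction.orbit P o₀)
      exact hu ▸ hf u o₀

variable {Ω : Type*} [Group Ω] {S : Subgroup Ω} {F : FusionSystem S} {p : ℕ}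
  {Γ : Type*} [CommGroup Γ]

/-- An invariant homomorphism onto a group of prime order with kernel `T`. -/
structure Kern (F : FusionSystem S) (p : ℕ) (T : Subgroup Ω) (χ : Ω → Γ) : Prop where
  mul : ∀ x ∈ S, ∀ y ∈ S, χ (x * y) = χ x * χ y
  stable : ∀ P f, Mor F P f → ∀ x ∈ P, χ (f x) = χ x
  le : T ≤ S
  ker : ∀ x ∈ S, (x ∈ T ↔ χ x = 1)
  exp : ∀ γ : Γ, γ ^ p = 1
  surj : ∀ γ : Γ, ∃ s ∈ S, χ s = γ
  cyclic : ∀ γ δ : Γ, δ ≠ 1 → ∃ i : ℕ, δ ^ i = γ

variable {T : Subgroup Ω} {χ : Ω → Γ}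

theorem Kern.one (h : Kern F p T χ) : χ 1 = 1 := by
  have := h.mul 1 S.one_mem 1 S.one_mem
  rwa [one_mul, left_eq_mul] at this

theorem Kern.inv (h : Kern F p T χ) {x : Ω} (hx : x ∈ S) : χ x⁻¹ = (χ x)⁻¹ := by
  rw [eq_inv_iff_mul_eq_one, ← h.mul _ (S.inv_mem hx) _ hx, inv_mul_cancel, h.one]

theorem Kern.pow (h : Kern F p T χ) {x : Ω} (hx : x ∈ S) (n : ℕ) : χ (x ^ n) = χ x ^ n := by
  induction n with
  | zero => rw [pow_zero, pow_zero, h.one]
  | succ n ih => rw [pow_succ, h.mul _ (pow_mem hx n) _ hx, ih, pow_succ]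

theorem Kern.chi_cj (h : Kern F p T χ) {g x : Ω} (hg : g ∈ S) (hx : x ∈ S) :
    χ (cj g x) = χ x :=
  h.stable _ _ (mor_cj le_rfl hg) x hx

theorem Kern.cj_mem (h : Kern F p T χ) {g x : Ω} (hg : g ∈ S) (hx : x ∈ T) : cj g x ∈ T :=
  (h.ker _ (cj_mem_S hg (h.le hx))).2 ((h.chi_cj hg (h.le hx)).trans ((h.ker _ (h.le hx)).1 hx))

theorem Kern.mor_mem (h : Kern F p T χ) {P : Subgroup Ω} {f : Ω → Ω} (hf : Mor F P f) {x : Ω}
    (hx : x ∈ P) (hxT : x ∈ T) : f x ∈ T :=
  (h.ker _ (hf.apply_mem hx)).2 ((h.stable _ _ hf x hx).trans ((h.ker _ (hf.le hx)).1 hxT))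

variable [Finite S] {a : Subgroup (↥S × ↥S) → ℕ}

/-- The value of a point. -/
noncomputable def nu (χ : Ω → Γ) (x : Pt a) : Γ :=
  χ (x.2.out.2 : Ω) * (χ (x.2.out.1 : Ω))⁻¹

variable (ha : ∀ L, a L ≠ 0 → Diag F L) (hK : Kern F p T χ)

include ha in
theorem diag_idx (i : Σ L : Subgroup (↥S × ↥S), Fin (a L)) : Diag F i.1 :=
  ha i.1 fun h => (h ▸ i.2 : Fin 0).elim0

include ha hK in
theorem nu_mk (i : Σ L : Subgroup (↥S × ↥S), Fin (a L)) (t : ↥S × ↥S) :
    nu χ (⟨i, QuotientGroup.mk t⟩ : Pt a) = χ (t.2 : Ω) * (χ (t.1 : Ω))⁻¹ := by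
  obtain ⟨l, hl⟩ := QuotientGroup.mk_out_eq_mul i.1 t
  obtain ⟨h, hh, he⟩ := diag_idx ha i
  have e : χ ((l : ↥S × ↥S).1 : Ω) = χ ((l : ↥S × ↥S).2 : Ω) := by
    rw [he _ l.2]
    exact hK.stable _ _ hh _ (mem_sndImg.2 ⟨_, l.2, rfl⟩)
  show χ (((QuotientGroup.mk t : (↥S × ↥S) ⧸ i.1).out).2 : Ω) *
    (χ (((QuotientGroup.mk t : (↥S × ↥S) ⧸ i.1).out).1 : Ω))⁻¹ = _
  rw [hl, Prod.snd_mul, Prod.fst_mul, Subgroup.coe_mul, Subgroup.coe_mul,
    hK.mul _ t.2.2 _ (SetLike.coe_mem _), hK.mul _ t.1.2 _ (SetLike.coe_mem _), e, mul_inv_rev,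
    mul_assoc, mul_inv_cancel_left]

include ha hK in
theorem nu_smul (g : ↥S × ↥S) (x : Pt a) :
    nu χ (g • x) = χ (g.2 : Ω) * (χ (g.1 : Ω))⁻¹ * nu χ x := by
  obtain ⟨i, q⟩ := x
  induction q using QuotientGroup.induction_on with
  | _ t =>
    rw [pt_smul, MulAction.Quotient.smul_mk, smul_eq_mul, nu_mk ha hK, nu_mk ha hK, Prod.snd_mul,
      Prod.fst_mul, Subgroup.coe_mul, Subgroup.coe_mul, hK.mul _ g.2.2 _ t.2.2,
      hK.mul _ g.1.2 _ t.1.2, mul_inv_rev]
    simp only [mul_assoc, mul_comm, mul_left_comm]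

include ha in
/-- The second coordinates act freely. -/
theorem free {s : ↥S} {x : Pt a} (h : ((1 : ↥S), s) • x = x) : s = 1 := by
  obtain ⟨i, q⟩ := x
  induction q using QuotientGroup.induction_on with
  | _ t =>
    rw [pt_smul] at h
    have h1 : ((1 : ↥S), s) • (t : (↥S × ↥S) ⧸ i.1) = t := eq_of_heq (Sigma.mk.inj_iff.1 h).2
    rw [MulAction.Quotient.smul_mk, QuotientGroup.eq, smul_eq_mul] at h1
    have h2 := (FusionTransfer.eq_of_fst (diag_idx ha i) h1 i.1.one_mem (by simp))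
    have h3 := congrArg Prod.snd h2
    have h4 := congrArg (fun z : ↥S => t.2 * z * t.2⁻¹) h3
    simpa [mul_assoc] using h4

/-- Commuting with the second coordinates. -/
def RComm (π : Pt a ≃ Pt a) : Prop :=
  ∀ (s : ↥S) (x : Pt a), π (((1 : ↥S), s) • x) = ((1 : ↥S), s) • π x

/-- The orbits of the second coordinates. -/
def rel (a : Subgroup (↥S × ↥S) → ℕ) : Setoid (Pt a) where
  r x y := ∃ s : ↥S, y = ((1 : ↥S), s) • x
  iseqv :=
    { refl := fun x => ⟨1, (one_smul _ x).symm⟩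
      symm := fun {x y} ⟨s, h⟩ => ⟨s⁻¹, by rw [h, smul_smul]; simp [Prod.mk_one_one]⟩
      trans := fun {x y z} ⟨s, h⟩ ⟨t, h'⟩ => ⟨t * s, by rw [h', h, smul_smul]; simp⟩ }

/-- The set of orbits. -/
abbrev Orb (a : Subgroup (↥S × ↥S) → ℕ) : Type _ := Quotient (rel a)

noncomputable instance : Fintype (Orb a) := Fintype.ofFinite _

/-- The change of value at a point. -/
noncomputable def delta (χ : Ω → Γ) (π : Pt a → Pt a) (x : Pt a) : Γ := nu χ (π x) * (nu χ x)⁻¹

/-- The total change of value. -/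
noncomputable def tot (χ : Ω → Γ) (π : Pt a → Pt a) : Γ := ∏ o : Orb a, delta χ π o.out

include ha hK in
theorem delta_rel {π : Pt a ≃ Pt a} (hπ : RComm π) (x : Pt a) :
    delta χ π (⟦x⟧ : Orb a).out = delta χ π x := by
  obtain ⟨s, hs⟩ := (rel a).symm (Quotient.mk_out (s := rel a) x)
  rw [hs, delta, delta, hπ, nu_smul ha hK, nu_smul ha hK, mul_inv_rev]
  simp [mul_assoc, mul_comm, mul_left_comm]

/-- The permutation of the orbits. -/
noncomputable def orbPerm {π : Pt a ≃ Pt a} (hπ : RComm π) : Orb a ≃ Orb a :=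
  Quotient.congr π fun x y => by
    constructor
    · rintro ⟨s, rfl⟩; exact ⟨s, hπ s x⟩
    · rintro ⟨s, hs⟩; exact ⟨s, π.injective (hs.trans (hπ s x).symm)⟩

include ha hK in
theorem tot_trans {π π' : Pt a ≃ Pt a} (hπ : RComm π) (hπ' : RComm π') :
    tot χ (π.trans π' : Pt a → Pt a) = tot χ π' * tot χ π := by
  have h : ∀ o : Orb a, delta χ (π.trans π' : Pt a → Pt a) o.out =
      delta χ π' ((orbPerm hπ o).out) * delta χ π o.out := fun o => by
    have e : orbPerm hπ o = ⟦π o.out⟧ := by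
      conv_lhs => rw [← Quotient.out_eq o]
      rfl
    rw [e, delta_rel ha hK hπ']
    simp [delta, mul_assoc]
  rw [tot, Finset.prod_congr rfl fun o _ => h o, Finset.prod_mul_distrib,
    Equiv.prod_comp (orbPerm hπ) fun o => delta χ π' o.out]
  rfl

include hK in
omit hK in
theorem tot_refl : tot χ (Equiv.refl (Pt a) : Pt a → Pt a) = 1 :=
  Finset.prod_eq_one fun o _ => mul_inv_cancel _

/-- The action of an element on the left. -/
noncomputable def leftPerm (g : ↥S) : Pt a ≃ Pt a := MulAction.toPerm (g, (1 : ↥S))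

theorem leftPerm_apply (g : ↥S) (x : Pt a) : leftPerm g x = (g, (1 : ↥S)) • x := rfl

theorem rcomm_left (g : ↥S) : RComm (leftPerm (a := a) g) := fun s x => by
  simp [leftPerm_apply, smul_smul]

include ha hK in
theorem tot_left (g : ↥S) :
    tot χ (leftPerm g : Pt a → Pt a) = ((χ (g : Ω))⁻¹) ^ Nat.card (Orb a) := by
  rw [tot, Finset.prod_congr rfl (g := fun _ => (χ (g : Ω))⁻¹) fun o _ => ?_, Finset.prod_const,
    Finset.card_univ, Nat.card_eq_fintype_card]
  rw [delta, leftPerm_apply, nu_smul ha hK, OneMemClass.coe_one, hK.one, one_mul,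
    mul_inv_cancel_right]

include ha in
theorem card_orb :
    Nat.card (Orb a) = ∑ L, a L * (Nat.card S / Nat.card L) := by
  classical
  refine Nat.eq_of_mul_eq_mul_right (Nat.card_pos (α := S)) ?_
  rw [← Nat.card_prod]
  have e : Orb a × ↥S ≃ Pt a := Equiv.ofBijective (fun x => ((1 : ↥S), x.2) • x.1.out)
    ⟨fun x y h => by
      have h' : ((1 : ↥S), x.2) • x.1.out = ((1 : ↥S), y.2) • y.1.out := h
      have e1 : x.1 = y.1 := by
        rw [← Quotient.out_eq x.1, ← Quotient.out_eq y.1]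
        refine Quotient.sound ⟨y.2⁻¹ * x.2, ?_⟩
        calc y.1.out = (((1 : ↥S), y.2)⁻¹) • ((1 : ↥S), y.2) • y.1.out := (inv_smul_smul _ _).symm
          _ = _ := by rw [← h', smul_smul]; simp
      refine Prod.ext e1 (inv_mul_eq_one.1 (free ha (s := x.2⁻¹ * y.2) (x := x.1.out) ?_))
      conv_lhs => rw [e1]
      calc _ = (((1 : ↥S), x.2)⁻¹) • ((1 : ↥S), y.2) • y.1.out := by rw [smul_smul]; simp
        _ = _ := by rw [← h', inv_smul_smul],
     fun x => by
      obtain ⟨s, hs⟩ := Quotient.mk_out (s := rel a) x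
      exact ⟨(⟦x⟧, s), hs.symm⟩⟩
  rw [Nat.card_congr e, Nat.card_sigma, Fintype.sum_sigma, Finset.sum_mul]
  refine Finset.sum_congr rfl fun L _ => ?_
  show ∑ _x : Fin (a L), Nat.card ((↥S × ↥S) ⧸ L) = _
  rw [Finset.sum_const, Finset.card_univ, Fintype.card_fin, smul_eq_mul]
  rcases Nat.eq_zero_or_pos (a L) with h0 | hpos
  · simp [h0]
  rw [mul_assoc]
  congr 1
  have hd : Nat.card L ∣ Nat.card S := by
    rw [← card_sndImg (ha L hpos.ne')]
    exact Subgroup.card_dvd_of_le (sndImg_le L)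
  refine Nat.eq_of_mul_eq_mul_right (Nat.card_pos (α := L)) ?_
  rw [← Subgroup.card_eq_card_quotient_mul_card_subgroup, Nat.card_prod, mul_right_comm,
    Nat.div_mul_cancel hd]

/-! ### Intertwiners -/

theorem rcomm_of_inter {P : Subgroup Ω} {f : Ω → Ω} (hf : Mor F P f) {π : Pt a ≃ Pt a}
    (h : Inter a P f π) : RComm π :=
  fun s x => h 1 1 P.one_mem hf.map_one.symm s x

theorem inter_congr {P : Subgroup Ω} {f g : Ω → Ω} {π : Pt a ≃ Pt a} (h : Inter a P f π)
    (e : ∀ x ∈ P, f x = g x) : Inter a P g π :=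
  fun u v hu hv => h u v hu (hv.trans (e _ hu).symm)

theorem inter_mono {P P' : Subgroup Ω} {f : Ω → Ω} {π : Pt a ≃ Pt a} (h : Inter a P f π)
    (hP : P' ≤ P) : Inter a P' f π :=
  fun u v hu hv => h u v (hP hu) hv

theorem inter_left (P : Subgroup Ω) (g : ↥S) : Inter a P (cj (g : Ω)) (leftPerm g) := by
  intro u v hu hv s x
  have e : v = g * u * g⁻¹ := Subtype.ext hv
  simp [leftPerm_apply, smul_smul, e]

theorem inter_trans {P Q : Subgroup Ω} {f g : Ω → Ω} (hf : Mor F P f) {π π' : Pt a ≃ Pt a}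
    (h : Inter a P f π) (h' : Inter a Q g π') (hfQ : ∀ x ∈ P, f x ∈ Q) :
    Inter a P (g ∘ f) (π.trans π') := by
  intro u v hu hv s x
  have h1 := h u ⟨f u, hf.apply_mem hu⟩ hu rfl s x
  rw [Equiv.trans_apply, h1]
  exact h' ⟨f u, hf.apply_mem hu⟩ v (hfQ _ hu) hv s _

theorem inter_symm {P : Subgroup Ω} {f g : Ω → Ω} (hf : Mor F P f) {π : Pt a ≃ Pt a}
    (h : Inter a P f π) (hgf : ∀ x ∈ P, g (f x) = x) : Inter a (im P f) g π.symm := by
  intro v u hv hu s x
  obtain ⟨w, hw, hwv⟩ := hf.mem_im.1 hv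
  have e : (u : Ω) = w := by rw [hu, ← hwv, hgf w hw]
  rw [Equiv.symm_apply_eq]
  have h1 := h u v (e ▸ hw) (by rw [e, hwv]) s (π.symm x)
  rw [h1, Equiv.apply_symm_apply]

variable (F T) in
/-- All conjugates of `P` have their centralizer in the kernel. -/
def Tight (P : Subgroup Ω) : Prop := ∀ Q, F.IsConj P Q → centralizerIn S Q ≤ T

variable [hp : Fact p.Prime]

include ha hK in
/-- The total value of an intertwiner of the identity. -/
theorem tot_commuting (hS : IsPGroup p S) {P : Subgroup Ω} (hPT : P ≤ T) (hP : Tight F T P)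
    {π : Pt a ≃ Pt a} (h : Inter a P id π) : tot χ (π : Pt a → Pt a) = 1 := by
  classical
  have hPS := hPT.trans hK.le
  have hπ : RComm π := rcomm_of_inter (F := F) (mor_id hPS) h
  let P' : Subgroup ↥S := P.subgroupOf S
  letI : MulAction P' (Orb a) :=
    { smul := fun u => Quotient.map (fun x => ((u : ↥S), (1 : ↥S)) • x) fun x y ⟨s, hs⟩ =>
        ⟨s, by simp [hs, smul_smul]⟩
      one_smul := fun o => Quotient.inductionOn o fun x =>
        congrArg (Quotient.mk _) (one_smul (↥S × ↥S) x)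
      mul_smul := fun u v o => Quotient.inductionOn o fun x =>
        congrArg (Quotient.mk _) (by simp [smul_smul]) }
  have hP'p : IsPGroup p P' := hS.to_subgroup _
  rw [tot, prod_eq_prod_fixed (f := fun o : Orb a => delta χ π o.out) hP'p hK.exp]
  swap
  · intro u o
    induction o using Quotient.inductionOn with
    | h x =>
      show delta χ π (⟦((u : ↥S), (1 : ↥S)) • x⟧ : Orb a).out = _
      rw [delta_rel ha hK hπ, delta_rel ha hK hπ, delta, delta, h u u u.2 rfl 1 x,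
        nu_smul ha hK, nu_smul ha hK, mul_inv_rev]
      simp [mul_assoc, mul_comm, mul_left_comm]
  let K : Pt a → Set (↥S × ↥S) := fun x => {g | (g.1 : Ω) ∈ P ∧ g • x = x}
  have hKπ : ∀ x, K (π x) = K x := fun x => by
    ext g
    refine and_congr_right fun hg => ?_
    have e : π (g • x) = g • π x := h g.1 g.1 hg rfl g.2 x
    exact ⟨fun hh => π.injective (e.trans hh), fun hh => e.symm.trans (congrArg π hh)⟩
  let Φ : Orb a → Set (Set (↥S × ↥S)) := fun o => {A | ∃ x : Pt a, (⟦x⟧ : Orb a) = o ∧ K x = A}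
  have hne : ∀ o, (Φ o).Nonempty := fun o => ⟨_, o.out, Quotient.out_eq o, rfl⟩
  have hΦ : ∀ o, Φ (orbPerm hπ o) = Φ o := fun o => by
    ext A
    constructor
    · rintro ⟨x, hx, rfl⟩
      refine ⟨π.symm x, (orbPerm hπ).injective ?_, ?_⟩
      · rw [← hx]
        exact congrArg (Quotient.mk _) (π.apply_symm_apply x)
      · rw [← hKπ, π.apply_symm_apply]
    · rintro ⟨x, rfl, rfl⟩
      exact ⟨π x, rfl, hKπ x⟩
  choose A hA using hne
  have hX : ∀ o, ∃ x : Pt a, (⟦x⟧ : Orb a) = o ∧ K x = Classical.choose (⟨A o, hA o⟩ :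
      ∃ B, B ∈ Φ o) := fun o => Classical.choose_spec (⟨A o, hA o⟩ : ∃ B, B ∈ Φ o)
  choose X hX1 hX2 using hX
  have hXK : ∀ o o', Φ o = Φ o' → K (X o) = K (X o') := fun o o' e => by
    rw [hX2, hX2]
    simp only [e]
  have key : ∀ o ∈ MulAction.fixedPoints P' (Orb a),
      delta χ π o.out = nu χ (X (orbPerm hπ o)) * (nu χ (X o))⁻¹ := by
    intro o ho
    set o' := orbPerm hπ o
    set y := π (X o) with hy
    have hK' : K y = K (X o') := (hKπ _).trans (hXK _ _ (hΦ o).symm)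
    have hyo : (⟦y⟧ : Orb a) = o' := by
      conv_rhs => rw [show o' = orbPerm hπ o from rfl, ← hX1 o]
      rfl
    obtain ⟨s, hs⟩ := Quotient.exact (hyo.trans (hX1 o').symm)
    -- the subgroup of second coordinates fixing `y`
    obtain ⟨i, q⟩ := y
    induction q using QuotientGroup.induction_on with
    | _ t =>
      obtain ⟨g, hg, hge⟩ := diag_cj (diag_idx ha i) t
      obtain ⟨j, hj, hjg, -, -⟩ := hg.exists_inv
      have hfix : ∀ u : P', ∃ c : ↥S, ((u : ↥S), c) • (⟨i, t⟩ : Pt a) = ⟨i, t⟩ := by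
        intro u
        have hu : (u • o' : Orb a) = o' := by
          have e : orbPerm hπ (u • o) = u • orbPerm hπ o := by
            induction o using Quotient.inductionOn with
            | h x => exact congrArg (Quotient.mk _) (h u u u.2 rfl 1 x)
          rw [← e, ho u]
        rw [← hyo] at hu
        obtain ⟨c, hc⟩ := Quotient.exact hu
        refine ⟨c, ?_⟩
        conv_rhs => rw [hc, smul_smul]
        simp
      choose c hc using hfix
      have hmem : ∀ u : P', ((u : ↥S), c u) ∈ TransferAlperin.cj t i.1 := fun u => by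
        have h1 : ((u : ↥S), c u) • (t : (↥S × ↥S) ⧸ i.1) = t :=
          eq_of_heq (Sigma.mk.inj_iff.1 (hc u)).2
        rw [MulAction.Quotient.smul_mk, eq_comm, QuotientGroup.eq, smul_eq_mul, ← mul_assoc] at h1
        exact TransferAlperin.mem_cj.2 h1
      have hPj : P ≤ im (sndImg (TransferAlperin.cj t i.1)) g := fun u hu => by
        have e : u = g (c ⟨⟨u, hPS hu⟩, hu⟩ : Ω) := hge _ (hmem ⟨⟨u, hPS hu⟩, hu⟩)
        rw [e]
        exact apply_mem_im (mem_sndImg.2 ⟨_, hmem ⟨⟨u, hPS hu⟩, hu⟩, rfl⟩)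
      have hjP := hj.restrict_to hPj
      have hsC : (s : Ω) ∈ centralizerIn S (im P j) := by
        refine mem_centralizerIn.2 ⟨s.2, fun z hz => ?_⟩
        obtain ⟨u, hu, rfl⟩ := hjP.mem_im.1 hz
        set u' : P' := ⟨⟨u, hPS hu⟩, hu⟩
        have e : j u = (c u' : Ω) := by
          rw [show u = g (c u' : Ω) from hge _ (hmem u'),
            hjg _ (mem_sndImg.2 ⟨_, hmem u', rfl⟩)]
        rw [e]
        have h1 : ((u' : ↥S), c u') ∈ K (X o') := hK' ▸ (show ((u' : ↥S), c u') ∈ K ⟨i, t⟩ from ⟨hu, hc u'⟩)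
        have h2 := h1.2
        rw [hs, smul_smul, ← inv_smul_eq_iff, smul_smul] at h2
        have h3 : ((1 : ↥S), (c u')⁻¹ * (s⁻¹ * c u' * s)) • (⟨i, t⟩ : Pt a) = ⟨i, t⟩ := by
          calc _ = ((u' : ↥S), c u')⁻¹ • (((1 : ↥S), s)⁻¹ * (((u' : ↥S), c u') * ((1 : ↥S), s))) •
                (⟨i, t⟩ : Pt a) := by rw [smul_smul]; simp [mul_assoc]
            _ = _ := by rw [h2, inv_smul_eq_iff]; exact (hc u').symm
        have h4 : (s⁻¹ * c u' * s : ↥S) = c u' := (inv_mul_eq_one.1 (free ha h3)).symm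
        have h5 := congrArg (fun z : ↥S => ((s * z * s⁻¹ : ↥S) : Ω)) h4
        simpa [cj_apply, mul_assoc] using h5.symm
      have hsT : χ (s : Ω) = 1 := (hK.ker _ s.2).1 (hP _ (isConj_iff.2 ⟨j, hjP, rfl⟩) hsC)
      rw [hs, nu_smul ha hK, hsT, OneMemClass.coe_one, hK.one, inv_one, one_mul, one_mul, hy]
      conv_lhs => rw [← hX1 o, delta_rel ha hK hπ]
      rfl
  rw [Finset.prod_congr rfl fun o ho => key o (Finset.mem_filter.1 ho).2, Finset.prod_mul_distrib,
    Finset.prod_inv_distrib, mul_inv_eq_one]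
  refine Finset.prod_equiv (orbPerm hπ) (fun o => ?_) fun o _ => rfl
  simp only [Finset.mem_filter, Finset.mem_univ, true_and, MulAction.mem_fixedPoints]
  have e : ∀ u : P', orbPerm hπ (u • o) = u • orbPerm hπ o := fun u => by
    induction o using Quotient.inductionOn with
    | h x => exact congrArg (Quotient.mk _) (h u u u.2 rfl 1 x)
  exact forall_congr' fun u => by rw [← e, Equiv.apply_eq_iff_eq]

/-! ### The kernel system -/

/-- Some intertwiner has total value one. -/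
def Zero (a : Subgroup (↥S × ↥S) → ℕ) (χ : Ω → Γ) (P : Subgroup Ω) (f : Ω → Ω) : Prop :=
  ∃ π : Pt a ≃ Pt a, Inter a P f π ∧ tot χ (π : Pt a → Pt a) = 1

include ha hK in
theorem closed_zero : Closed F (U := T) (Zero a χ) where
  congr := fun ⟨π, h, h'⟩ e => ⟨π, inter_congr h e, h'⟩
  conj := fun {P g} hP hg => ⟨leftPerm ⟨g, hK.le hg⟩, inter_left P ⟨g, hK.le hg⟩, by
    rw [tot_left ha hK, (hK.ker g (hK.le hg)).1 hg, inv_one, one_pow]⟩
  comp := fun {P Q f g} hf hg _ _ hfQ ⟨π, h, h1⟩ ⟨π', h', h1'⟩ => ⟨π.trans π',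
    inter_trans hf h h' hfQ, by
      rw [tot_trans ha hK (rcomm_of_inter hf h) (rcomm_of_inter hg h'), h1, h1', one_mul]⟩
  inv := fun {P f g} hf hg _ hgf ⟨π, h, h1⟩ => ⟨π.symm, inter_symm hf h hgf, by
    have := tot_trans ha hK (rcomm_of_inter hf h) (rcomm_of_inter hg (inter_symm hf h hgf))
    rw [h1, mul_one, Equiv.self_trans_symm] at this
    rw [← this]
    exact tot_refl⟩

/-- The kernel system. -/
noncomputable def kerSys (F : FusionSystem S) (χ : Ω → Γ) {a : Subgroup (↥S × ↥S) → ℕ}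
    (ha : ∀ L, a L ≠ 0 → Diag F L) {T : Subgroup Ω} (hK : Kern F p T χ) : FusionSystem T :=
  subSystem hK.le (closed_zero ha hK)

include ha hK in
theorem mor_kerSys {P : Subgroup Ω} {f : Ω → Ω} :
    Mor (kerSys F χ ha hK) P f ↔ Mor F P f ∧ P ≤ T ∧ Zero a χ P f := by
  rw [kerSys, mor_subSystem]
  exact ⟨fun h => ⟨h.1, h.2.1, h.2.2.2⟩,
    fun h => ⟨h.1, h.2.1, fun x hx => hK.mor_mem h.1 hx (h.2.1 hx), h.2.2⟩⟩

include ha hK in
/-- An element whose left action corrects a given value. -/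
theorem exists_fix (hd : ¬ p ∣ Nat.card (Orb a)) {C : Subgroup Ω} (hC : C ≤ S) {c₀ : Ω}
    (hc₀ : c₀ ∈ C) (h0 : χ c₀ ≠ 1) (γ : Γ) :
    ∃ c : ↥S, (c : Ω) ∈ C ∧ tot χ (leftPerm c : Pt a → Pt a) * γ = 1 := by
  obtain ⟨i, hi⟩ := exists_pow_eq_self_of_coprime (x := γ) (n := Nat.card (Orb a))
    (Nat.Coprime.coprime_dvd_right (orderOf_dvd_of_pow_eq_one (hK.exp γ))
      (((Fact.out : p.Prime).coprime_iff_not_dvd.2 hd).symm))
  obtain ⟨k, hk⟩ := hK.cyclic (γ ^ i) (χ c₀) h0
  refine ⟨⟨c₀ ^ k, pow_mem (hC hc₀) k⟩, pow_mem hc₀ k, ?_⟩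
  rw [tot_left ha hK, hK.pow (hC hc₀), hk, inv_pow, ← pow_mul, mul_comm i, pow_mul, hi,
    inv_mul_cancel]

theorem tight_of_receptive (hK : Kern F p T χ) {Q P : Subgroup Ω} (hQ : F.IsReceptive Q)
    (hC : centralizerIn S Q ≤ T) (hPQ : F.IsConj P Q) : Tight F T P := by
  intro R hR c hc
  obtain ⟨g, hg, him⟩ := isConj_iff.1 (isConj_trans (isConj_symm hR) hPQ)
  obtain ⟨g', hg', -, hgc⟩ := exists_extension_centralizer hQ hg him
  have hcm : c ∈ R ⊔ centralizerIn S R := Subgroup.mem_sup_right hc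
  rw [hK.ker c (mem_centralizerIn.1 hc).1, ← hK.stable _ _ hg' c hcm]
  exact (hK.ker _ (hg'.apply_mem hcm)).1 (hC (hgc c hc))

include ha hK in
theorem saturated_kerSys (hS : IsPGroup p S) (hF : F.IsSaturated p)
    (hst : StableAbove F (fun L => (a L : ℤ)) 0) (hd : ¬ p ∣ Nat.card (Orb a))
    {c₁ : Ω} (hc₁ : c₁ ∈ S) (h1 : χ c₁ ≠ 1) : (kerSys F χ ha hK).IsSaturated p := by
  intro P hP
  obtain ⟨Q₀, hQ₀, hQ₀n⟩ := exists_fullyNormalized (F := F) (hP.trans hK.le)
  obtain ⟨f, hf, rfl⟩ := isConj_iff.1 hQ₀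
  obtain ⟨π, hπ⟩ := exists_inter ha hst hf
  obtain ⟨s, -, hs⟩ := exists_fix ha hK hd le_rfl hc₁ h1 (tot χ (π : Pt a → Pt a))
  have hfs := hf.comp (mor_cj le_rfl s.2) fun x hx => hf.apply_mem hx
  set Q := im P (cj (s : Ω) ∘ f) with hQdef
  have hfz : Mor (kerSys F χ ha hK) P (cj (s : Ω) ∘ f) := (mor_kerSys ha hK).2 ⟨hfs, hP,
    π.trans (leftPerm s), inter_trans hf hπ (inter_left S s) (fun x hx => hf.apply_mem hx), by
      rw [tot_trans ha hK (rcomm_of_inter hf hπ) (rcomm_left s), hs]⟩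
  have hQT : Q ≤ T := hfz.im_le
  have hQn : F.IsFullyNormalized Q := by
    obtain ⟨α, hα, hαe⟩ := (mor_cj (F := F) le_rfl s.2).exists_aut
      ((mor_cj (F := F) le_rfl s.2).im_self fun x hx => cj_mem_S s.2 hx)
    have h2 := FusionPrimeIndex88.fn_aut hQ₀n hα
    rwa [im_congr (g := cj (s : Ω)) fun x hx => hαe x (hf.im_le hx), hf.im_comp] at h2
  have hQr := receptive_of_fullyNormalized hS hF hQn
  refine ⟨Q, isConj_iff.2 ⟨_, hfz, rfl⟩, ⟨hQT, ?_⟩, receptive_iff.2 ⟨hQT, ?_⟩⟩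
  · haveI := finite_autGroup (F := F) Q
    haveI := finite_of_le hK.le
    haveI := finite_autGroup (F := kerSys F χ ha hK) Q
    set B := (kerSys F χ ha hK).autGroup Q
    set A := F.autGroup Q
    have hBA : B ≤ A := fun α hα => mem_autGroup_of_mor
      ((mor_kerSys ha hK).1 ((mem_autGroup hQT).1 hα)).1
    have hBn : (B.subgroupOf A).Normal := by
      refine ⟨fun α hα γ => ?_⟩
      obtain ⟨hαm, -, σ, hσ, hσ1⟩ := (mor_kerSys ha hK).1 ((mem_autGroup hQT).1 hα)
      have hγ := (mem_autGroup hQn.1).1 γ.2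
      have hγ' := (mem_autGroup hQn.1).1 (inv_mem γ.2)
      obtain ⟨τ, hτ⟩ := exists_inter ha hst hγ
      have hτ' : Inter a Q (afun (γ : MulAut Q)⁻¹) τ.symm := by
        have h3 := inter_symm hγ hτ (g := afun (γ : MulAut Q)⁻¹) fun x hx =>
          afun_inv_apply _ hx
        rwa [im_afun] at h3
      refine mem_autGroup_of_mor ((mor_kerSys ha hK).2
        ⟨(mem_autGroup hQn.1).1 (γ * α * γ⁻¹).2, hQT, τ.symm.trans (σ.trans τ), ?_, ?_⟩)
      · refine inter_congr (inter_trans hγ' hτ' (inter_trans hαm hσ hτ fun x hx =>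
          afun_mem _ hx) fun x hx => afun_mem _ hx) fun x hx => ?_
        simp only [Subgroup.coe_subtype, Subgroup.coe_mul, Subgroup.coe_inv, Function.comp_apply]
        rw [afun_mul _ _ hx, afun_mul _ _ (afun_mem _ hx)]
      · have e1 := rcomm_of_inter hγ' hτ'
        have e2 := rcomm_of_inter hαm hσ
        have e3 := rcomm_of_inter hγ hτ
        have e4 := tot_trans ha hK e3 e1
        rw [Equiv.self_trans_symm] at e4
        rw [tot_trans ha hK e1 (fun t x => by rw [Equiv.trans_apply, Equiv.trans_apply, e2, e3]),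
          tot_trans ha hK e2 e3, hσ1, mul_one, mul_comm, ← e4]
        exact tot_refl
    have hI : autInducedBy S Q ⊓ B = autInducedBy T Q := by
      refine le_antisymm ?_ (le_inf (autInducedBy_mono hK.le Q) (autInducedBy_le hQT))
      rintro α ⟨hαS, hαB⟩
      obtain ⟨t, ht, htn, hte⟩ := mem_autInducedBy.1 hαS
      by_cases hC : centralizerIn S Q ≤ T
      · obtain ⟨hαm, -, σ, hσ, hσ1⟩ := (mor_kerSys ha hK).1 ((mem_autGroup hQT).1 hαB)
        have hσ' : Inter a Q (cj t) σ := inter_congr hσ hte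
        have hm := mor_cj (F := F) hQn.1 ht
        have hl := inter_left (a := a) Q ⟨t, ht⟩
        have hsymm := inter_symm hm hl (g := cj t⁻¹) fun x _ => cj_inv_cj ..
        have hid : Inter a Q id (σ.trans (leftPerm ⟨t, ht⟩).symm) :=
          inter_congr (inter_trans hm hσ' hsymm fun x hx => apply_mem_im hx)
            fun x _ => cj_inv_cj ..
        have h3 := tot_commuting ha hK hS hQT (tight_of_receptive hK hQr hC (isConj_refl hQn.1)) hid
        have hr : RComm (leftPerm (a := a) ⟨t, ht⟩).symm :=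
          rcomm_of_inter (hm.exists_inv.choose_spec.1.congr (g := cj t⁻¹) fun y hy => by
            obtain ⟨x, hx, rfl⟩ := hm.mem_im.1 hy
            rw [hm.exists_inv.choose_spec.2.1 x hx, cj_inv_cj]) hsymm
        rw [tot_trans ha hK (rcomm_of_inter hαm hσ) hr, hσ1, mul_one] at h3
        have h4 := tot_trans ha hK (rcomm_left (a := a) ⟨t, ht⟩) hr
        rw [Equiv.self_trans_symm, tot_refl, h3, one_mul, tot_left ha hK] at h4
        have h5 : χ t = 1 := by
          by_contra hne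
          have h6 : orderOf (χ t)⁻¹ = p := orderOf_eq_prime (hK.exp _) (by simpa using hne)
          exact hd (h6 ▸ orderOf_dvd_of_pow_eq_one h4.symm)
        exact mem_autInducedBy.2 ⟨t, (hK.ker t ht).2 h5, htn, hte⟩
      · obtain ⟨c₀, hc₀, hc₀T⟩ := SetLike.not_le_iff_exists.1 hC
        have hc₀S := (mem_centralizerIn.1 hc₀).1
        obtain ⟨k, hk⟩ := hK.cyclic (χ t)⁻¹ (χ c₀) fun e => hc₀T ((hK.ker _ hc₀S).2 e)
        refine mem_autInducedBy.2 ⟨t * c₀ ^ k, ?_, mul_mem htn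
          (pow_mem (centralizerIn_le_normalizerIn hc₀).2 k), fun x hx => ?_⟩
        · rw [hK.ker _ (mul_mem ht (pow_mem hc₀S k)), hK.mul _ ht _ (pow_mem hc₀S k),
            hK.pow hc₀S, hk, mul_inv_cancel]
        · rw [← cj_cj, (mem_centralizerIn.1 (pow_mem hc₀ k)).2 x hx, hte x hx]
    obtain ⟨R, hR⟩ := (fullyAutomized_of_fullyNormalized hS hF hQn).2
    refine (sylIn_iff_card (autInducedBy_le hQT)).2 ?_
    haveI := hBn
    have h3 : Nat.card (SylowCount.infSylow R (B.subgroupOf A) : Subgroup (B.subgroupOf A)) =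
        Nat.card (autInducedBy T Q) := by
      rw [← hI]
      show Nat.card (((R : Subgroup A) ⊓ B.subgroupOf A).subgroupOf (B.subgroupOf A)) = _
      rw [Nat.card_congr (Subgroup.subgroupOfEquivOfLe inf_le_right).toEquiv, hR]
      have e : (autInducedBy S Q).subgroupOf A ⊓ B.subgroupOf A =
          (autInducedBy S Q ⊓ B).subgroupOf A := by ext; rfl
      rw [e, Nat.card_congr (Subgroup.subgroupOfEquivOfLe (inf_le_right.trans hBA)).toEquiv]
    rw [← h3, Sylow.card_eq_multiplicity,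
      Nat.card_congr (Subgroup.subgroupOfEquivOfLe hBA).toEquiv]
  · intro P₁ φ N hφ him hNT hNn hN
    obtain ⟨hφF, hP₁, σ, hσ, hσ1⟩ := (mor_kerSys ha hK).1 hφ
    obtain ⟨g, hg, hge⟩ := (receptive_iff.1 hQr).2 P₁ φ N hφF him (hNT.trans hK.le) hNn
      fun x hx => (hN x hx).imp fun h hh => ⟨hK.le hh.1, hh.2⟩
    obtain ⟨τ, hτ⟩ := exists_inter ha hst hg
    have hle : P₁ ⊔ N ≤ T := sup_le hP₁ hNT
    by_cases hC : centralizerIn S Q ≤ T
    · refine ⟨g, (mor_kerSys ha hK).2 ⟨hg, hle, τ, hτ, ?_⟩, hge⟩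
      have htight := tight_of_receptive hK hQr hC (isConj_iff.2 ⟨φ, hφF, him⟩)
      have hgP := hg.restrict_to (le_sup_left : P₁ ≤ P₁ ⊔ N)
      obtain ⟨i, hi, hil, -, -⟩ := hφF.exists_inv
      have hsymm := inter_symm hφF hσ hil
      have hid : Inter a P₁ id (τ.trans σ.symm) :=
        inter_congr (inter_trans hgP (inter_mono hτ le_sup_left) hsymm fun x hx => by
          rw [hge x hx]; exact apply_mem_im hx) fun x hx => by
          rw [Function.comp_apply, hge x hx, hil x hx]; rfl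
      have h3 := tot_commuting ha hK hS hP₁ htight hid
      have e1 := rcomm_of_inter hφF hσ
      have e2 := rcomm_of_inter hi hsymm
      rw [tot_trans ha hK (rcomm_of_inter hg hτ) e2] at h3
      have h4 := tot_trans ha hK e1 e2
      rw [Equiv.self_trans_symm, tot_refl, hσ1, mul_one] at h4
      rwa [← h4, one_mul] at h3
    · obtain ⟨c₀, hc₀, hc₀T⟩ := SetLike.not_le_iff_exists.1 hC
      obtain ⟨c, hc, hc'⟩ := exists_fix ha hK hd (inf_le_left : centralizerIn S Q ≤ S) hc₀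
        (fun e => hc₀T ((hK.ker _ (mem_centralizerIn.1 hc₀).1).2 e)) (tot χ (τ : Pt a → Pt a))
      refine ⟨cj (c : Ω) ∘ g, (mor_kerSys ha hK).2
        ⟨hg.comp (mor_cj le_rfl c.2) fun x hx => hg.apply_mem hx, hle, τ.trans (leftPerm c),
          inter_trans hg hτ (inter_left S c) (fun x hx => hg.apply_mem hx), ?_⟩, fun x hx => ?_⟩
      · rw [tot_trans ha hK (rcomm_of_inter hg hτ) (rcomm_left c), hc']
      · rw [Function.comp_apply, hge x hx,
          (mem_centralizerIn.1 hc).2 _ (him ▸ apply_mem_im hx)]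

include ha hK in
theorem pPower_kerSys (hS : IsPGroup p S) (hst : StableAbove F (fun L => (a L : ℤ)) 0)
    (hT : F.hyperfocalSubgroup p ≤ T) : (kerSys F χ ha hK).HasPPowerIndexIn F p := by
  refine ⟨fun _ _ h => h.1, hT, fun P hP => ?_⟩
  refine FusionPPower.map_pResidual_le_of_coprime fun α hα hc => ?_
  have hPS := hP.trans hK.le
  have hm : ∀ n : ℕ, Mor F P (afun (α ^ n)) := fun n => (mem_autGroup hPS).1 (pow_mem hα n)
  obtain ⟨π, hπ⟩ := exists_inter ha hst ((mem_autGroup hPS).1 hα)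
  have hone : Inter a P (afun (1 : MulAut P)) (Equiv.refl (Pt a)) := fun u v hu hv s x => by
    rw [afun_one hu] at hv
    rw [Subtype.ext hv]
    rfl
  have hpow : ∀ n : ℕ, ∃ σ : Pt a ≃ Pt a, Inter a P (afun (α ^ n)) σ ∧
      tot χ (σ : Pt a → Pt a) = tot χ (π : Pt a → Pt a) ^ n := by
    intro n
    induction n with
    | zero => exact ⟨Equiv.refl _, by rw [pow_zero]; exact hone, by rw [pow_zero]; exact tot_refl⟩
    | succ n ih =>
      obtain ⟨σ, hσ, hσ'⟩ := ih
      have hm1 := (mem_autGroup hPS).1 hα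
      refine ⟨π.trans σ, inter_congr (inter_trans hm1 hπ hσ fun x hx => afun_mem α hx)
        fun x hx => by rw [Function.comp_apply, pow_succ, afun_mul _ _ hx], ?_⟩
      rw [tot_trans ha hK (rcomm_of_inter hm1 hπ) (rcomm_of_inter (hm n) hσ), hσ', pow_succ]
  obtain ⟨i, hi⟩ := exists_pow_eq_self_of_coprime (x := α) (n := p) hc.symm
  obtain ⟨σ, hσ, hσ'⟩ := hpow (p * i)
  refine mem_autGroup_of_mor ((mor_kerSys ha hK).2 ⟨(mem_autGroup hPS).1 hα, hP, σ, ?_, ?_⟩)
  · rwa [pow_mul, hi] at hσ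
  · rw [hσ', pow_mul, hK.exp, one_pow]

omit a in
/-- A maximal subgroup containing the hyperfocal subgroup carries a saturated subsystem of
`p`-power index. -/
theorem exists_pPower_coatom (hS : IsPGroup p S) (hF : F.IsSaturated p) (K : Subgroup S)
    [hKn : K.Normal] (hKi : K.index = p) (hT : F.hyperfocalSubgroup p ≤ K.map S.subtype) :
    ∃ E : FusionSystem (K.map S.subtype), E.IsSaturated p ∧ E.HasPPowerIndexIn F p := by
  classical
  have hc : Nat.card (↥S ⧸ K) = p := by rw [← Subgroup.index_eq_card, hKi]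
  haveI := isCyclic_of_prime_card hc
  letI : CommGroup (↥S ⧸ K) := IsCyclic.commGroup
  let χ : Ω → ↥S ⧸ K := fun x => if h : x ∈ S then QuotientGroup.mk ⟨x, h⟩ else 1
  have hχ : ∀ x (h : x ∈ S), χ x = QuotientGroup.mk (⟨x, h⟩ : S) := fun x h => dif_pos h
  have hmul : ∀ x ∈ S, ∀ y ∈ S, χ (x * y) = χ x * χ y := fun x hx y hy => by
    rw [hχ x hx, hχ y hy, hχ _ (mul_mem hx hy)]; rfl
  have hker : ∀ x ∈ S, (x ∈ K.map S.subtype ↔ χ x = 1) := fun x hx => by
    rw [hχ x hx, QuotientGroup.eq_one_iff]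
    refine ⟨?_, fun h => ⟨⟨x, hx⟩, h, rfl⟩⟩
    rintro ⟨y, hy, e⟩
    rwa [show (⟨x, hx⟩ : S) = y from Subtype.ext e.symm]
  have hcj : ∀ g ∈ S, ∀ x ∈ S, χ (cj g x) = χ x := fun g hg x hx => by
    rw [cj_apply, hmul _ (mul_mem hg hx) _ (inv_mem hg), hmul _ hg _ hx, mul_comm (χ g), mul_assoc,
      ← hmul _ hg _ (inv_mem hg), mul_inv_cancel, hχ 1 S.one_mem]
    exact mul_one _
  have hstable : ∀ P f, Mor F P f → ∀ x ∈ P, χ (f x) = χ x := by
    intro P f hf
    refine induction' hS hF (Φ := fun P f => ∀ x ∈ P, χ (f x) = χ x) ⟨?_, ?_, ?_, ?_⟩ ?_ hf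
    · exact fun h he x hx => he x hx ▸ h x hx
    · exact fun hP hg x hx => hcj _ hg x (hP hx)
    · exact fun _ _ _ _ hfQ h1 h2 x hx => (h2 _ (hfQ x hx)).trans (h1 x hx)
    · intro Q φ ψ hφ _ _ hψφ h y hy
      obtain ⟨x, hx, rfl⟩ := hφ.mem_im.1 hy
      rw [hψφ x hx, h x hx]
    · intro R hR α hα hco x hx
      have hxS := hR hx
      have hyS := hR (afun_mem α hx)
      have h2 := (hker _ (mul_mem (inv_mem hxS) hyS)).1 (hT (gen_mem_hyperfocal (p := p) hR hα hco hx))
      have h3 := hmul _ hxS _ (mul_mem (inv_mem hxS) hyS)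
      rwa [mul_inv_cancel_left, h2, mul_one] at h3
  have hK : Kern F p (K.map S.subtype) χ :=
    { mul := hmul
      stable := hstable
      le := Subgroup.map_subtype_le _
      ker := hker
      exp := fun γ => by
        conv_lhs => rw [← hc]
        exact pow_card_eq_one'
      surj := fun γ => by
        obtain ⟨s, rfl⟩ := QuotientGroup.mk_surjective γ
        exact ⟨s, s.2, hχ s s.2⟩
      cyclic := fun γ δ hδ => mem_powers_of_prime_card hc hδ }
  obtain ⟨a, ha, hst, hd⟩ := exists_pos_biset hS hF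
  haveI : Nontrivial (↥S ⧸ K) :=
    Finite.one_lt_card_iff_nontrivial.1 (by rw [hc]; exact (Fact.out : p.Prime).one_lt)
  obtain ⟨γ, hγ⟩ := exists_ne (1 : ↥S ⧸ K)
  obtain ⟨c₁, hc₁, hc₁'⟩ := hK.surj γ
  exact ⟨kerSys F χ ha hK, saturated_kerSys ha hK hS hF hst (by rwa [card_orb ha]) hc₁
    (hc₁' ▸ hγ), pPower_kerSys ha hK hS hst hT⟩

omit [Finite S] a in
/-- **Subsystems of `p`-power index exist** over every subgroup containing the hyperfocal one. -/
theorem exists_pPower : ∀ (n : ℕ) (S : Subgroup Ω) [Finite S] (F : FusionSystem S)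
    (T : Subgroup Ω), Nat.card S ≤ n → IsPGroup p S → F.IsSaturated p → T ≤ S →
    F.hyperfocalSubgroup p ≤ T → ∃ E : FusionSystem T, E.IsSaturated p ∧ E.HasPPowerIndexIn F p := by
  intro n
  induction n with
  | zero => intro S _ F T hn; exact absurd Nat.card_pos (by omega : ¬ 0 < Nat.card S)
  | succ n ih =>
    intro S _ F T hn hS hF hTS hT
    rcases eq_or_ne T S with rfl | hne
    · exact ⟨F, hF, fun _ => subset_rfl, hT, fun P _ => Subgroup.map_subtype_le _⟩
    have hne' : T.subgroupOf S ≠ ⊤ := fun e => hne (le_antisymm hTS (Subgroup.subgroupOf_eq_top.1 e))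
    obtain ⟨K, hK, hTK⟩ := (eq_top_or_exists_le_coatom (T.subgroupOf S)).resolve_left hne'
    obtain ⟨hKn, hKi⟩ := ClassTwoPow.coatom_normal_index hS hK
    set M := K.map S.subtype with hM
    have hTM : T ≤ M := fun x hx => ⟨⟨x, hTS hx⟩, hTK hx, rfl⟩
    obtain ⟨E, hEs, hEi⟩ := exists_pPower_coatom hS hF K hKi (hT.trans hTM)
    have hMS : M ≤ S := Subgroup.map_subtype_le _
    haveI := finite_of_le hMS
    have hlt : Nat.card M < Nat.card S := by
      rw [hM, ← Nat.card_congr (Subgroup.equivMapOfInjective K _ S.subtype_injective).toEquiv]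
      exact lt_of_le_of_ne (Subgroup.card_le_card_group K)
        fun e => hK.1 (Subgroup.eq_top_of_card_eq K e)
    obtain ⟨D, hDs, hDi⟩ := ih M E T (by omega) (hS.to_le hMS) hEs hTM
      ((FusionPPower.hyperfocal_mono hEi.1).trans hT)
    refine ⟨D, hDs, fun P φ hφ => hEi.1 P (hDi.1 P hφ), hT, fun P hP => ?_⟩
    refine FusionPPower.map_pResidual_le_of_coprime fun α hα hc => ?_
    have h1 : α ∈ E.autGroup P := hEi.2.2 P (hP.trans hTM) ⟨⟨α, hα⟩,
      TransferPResidual.mem_pResidual_of_coprime (by rwa [Subgroup.orderOf_mk]), rfl⟩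
    exact hDi.2.2 P hP ⟨⟨α, h1⟩,
      TransferPResidual.mem_pResidual_of_coprime (by rwa [Subgroup.orderOf_mk]), rfl⟩

end Cfsg.Agent.FusionPPowerIndex88
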