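import Cfsg.Agent.Lib.FusionCentralizerSub
import Cfsg.Agent.Lib.FusionPPowerIndex88
import Cfsg.Agent.Lib.FusionIso88

/-!
The centralizer system of a normal subsystem is normal: for `E` normal in `F` over `T`, the
subsystem of `p`-power index of `C_F(T)` over `C_S(E)` is normal in `F`.
-/

set_option autoImplicit false

namespace Cfsg.Agent.FusionCentralizerNormal

open Cfsg Cfsg.FusionSystem Cfsg.Agent.FusionSysBasic Cfsg.Agent.FusionSysSaturated
open Cfsg.Agent.FusionSysNormal Cfsg.Agent.FusionGoodLift Cfsg.Agent.FusionKit88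
open Cfsg.Agent.FusionCentralizerSub

variable {Ω : Type*} [Group Ω] {S T : Subgroup Ω} [Finite S] {F : FusionSystem S}
  {E : FusionSystem T} {p : ℕ} [Fact p.Prime]

theorem mor_cent (hT : F.StronglyClosed T) {D : FusionSystem (centralizerIn S T)}
    (hD : F.IsCentralizerSystem T D) {Q : Subgroup Ω} {f : Ω → Ω} (hQ : Q ≤ centralizerIn S T)
    (hf : Mor F (Q ⊔ T) f) (hfix : ∀ t ∈ T, f t = t) : Mor D Q f := by
  refine (mor_centralizerSystem_iff hD).2 ⟨hf.restrict_to le_sup_left, hQ, fun x hx => ?_,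
    f, hf, fun _ _ => rfl, hfix⟩
  have := apply_cent hf le_sup_right (Subgroup.mem_sup_left hx) (hQ hx)
  rwa [self_conj_eq hT (hf.restrict_to le_sup_right)] at this

/-- The centralizer system of a normal subsystem, as a normal subsystem. -/
theorem exists_normal_centralizer' (hS : IsPGroup p S) (hF : F.IsSaturated p)
    (hE : E.IsNormalIn F p) :
    ∃ D : FusionSystem (cs F E p), D.IsNormalIn F p ∧
      (∀ P : Subgroup Ω, D.Hom P ⊆ F.centralizerHom T P) ∧
      ∀ {P : Subgroup Ω}, P ≤ cs F E p → ∀ {δ : MulAut P}, (orderOf δ).Coprime p →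
        (∃ ψ, Mor F (P ⊔ T) ψ ∧ (∀ x ∈ P, ψ x = afun δ x) ∧ ∀ t ∈ T, ψ t = t) →
        Mor D P (afun δ) := by
  have hI := hE.1.2.2
  have hT : F.StronglyClosed T := hI.2.1
  have hTS : T ≤ S := hT.1
  set Y := cs F E p with hY
  have hYC : Y ≤ centralizerIn S T := cs_le
  have hYS : Y ≤ S := hYC.trans inf_le_left
  haveI := finite_of_le hTS
  haveI := finite_of_le hYS
  haveI := finite_centralizerIn (S := S) T
  have hCS : IsPGroup p (centralizerIn S T) := hS.to_le inf_le_left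
  have hTfc := fullyCentralized_of_fullyNormalized hS hF (fullyNormalized_T hS hI)
  let DT := centralizerSystem F T hTS
  have hDT := isCentralizerSystem_centralizerSystem (F := F) T hTS
  have hDTs : DT.IsSaturated p :=
    FusionSysNormalizer.centralizerSystem_saturated hS hF hTfc hDT
  have hfoc : DT.focalSubgroup ≤ Y := focal_le_cs hS hF hDT
  obtain ⟨D, hDs, hDi⟩ := FusionPPowerIndex88.exists_pPower (Nat.card (centralizerIn S T))
    (centralizerIn S T) DT Y le_rfl hCS hDTs hYC (FusionFocal.hyperfocal_le_focal.trans hfoc)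
  have hYcl : F.StronglyClosed Y := stronglyClosed_cs hS hF hE
  have hYn : ∀ g ∈ S, ∀ x ∈ Y, cj g x ∈ Y := fun g hg x hx => cj_mem_cs hS hF hE hg hx
  have hDTF : ∀ {P : Subgroup Ω} {f : Ω → Ω}, Mor DT P f → Mor F P f := fun hf =>
    ((mor_centralizerSystem_iff hDT).1 hf).1
  have hDF : ∀ {P : Subgroup Ω} {f : Ω → Ω}, Mor D P f → Mor F P f := fun hf =>
    hDTF (sub_mor hDi.1 hf)
  -- automorphisms of order prime to `p`
  have hcop : ∀ {P : Subgroup Ω}, P ≤ Y → ∀ {δ : MulAut P}, δ ∈ DT.autGroup P →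
      (orderOf δ).Coprime p → Mor D P (afun δ) := fun {P} hP {δ} hδ hc =>
    (mem_autGroup hP).1 (hDi.2.2 P hP ⟨⟨δ, hδ⟩,
      TransferPResidual.mem_pResidual_of_coprime (by rwa [Subgroup.orderOf_mk]), rfl⟩)
  -- invariance
  have hclosed : ∀ g, Mor F (T ⊔ Y) g → FusionInduct88.Closed D (U := Y) (fun P f =>
      ∃ f', Mor D (im P g) f' ∧ ∀ x ∈ P, f' (g x) = g (f x)) := by
    intro g hg
    have hgY : ∀ x ∈ Y, g x ∈ Y := fun x hx =>
      image_le_cs hS hF hE le_rfl hg (apply_mem_im hx)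
    have hg0 : Mor F Y g := hg.restrict_to le_sup_right
    exact
    { congr := fun ⟨f', hf', he⟩ hfg => ⟨f', hf', fun x hx => (he x hx).trans (by rw [hfg x hx])⟩
      conj := fun {P c} hP hc => ⟨cj (g c),
        mor_cj (im_le_iff.2 fun x hx => hgY x (hP hx)) (hgY c hc),
        fun x hx => (hg0.map_cj hc (hP hx)).symm⟩
      comp := fun {P Q f₁ f₂} _ _ hP hQ hfQ ⟨a, ha, hae⟩ ⟨b, hb, hbe⟩ =>
        ⟨b ∘ a, ha.comp hb fun y hy => by
            obtain ⟨x, hx, rfl⟩ := (hg0.restrict_to hP).mem_im.1 hy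
            rw [hae x hx]; exact apply_mem_im (hfQ x hx),
          fun x hx => by simp only [Function.comp_apply]; rw [hae x hx, hbe _ (hfQ x hx)]⟩
      inv := fun {P f fi} hf _ hP hgf ⟨a, ha, hae⟩ => by
        obtain ⟨c, hc, hca, -, -⟩ := ha.exists_inv
        have hle : im (im P f) g ≤ im (im P g) a := by
          rw [(hDF hf).im_comp, (hg0.restrict_to hP).im_comp]
          exact (im_congr fun x hx => (hae x hx).symm).le
        refine ⟨c, hc.restrict_to hle, fun y hy => ?_⟩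
        obtain ⟨x, hx, rfl⟩ := hf.mem_im.1 hy
        rw [hgf x hx, ← hae x hx]
        exact hca _ (apply_mem_im hx) }
  have hinv : ∀ g, Mor F (T ⊔ Y) g → ∀ {P : Subgroup Ω} {f : Ω → Ω}, Mor D P f →
      ∃ f', Mor D (im P g) f' ∧ ∀ x ∈ P, f' (g x) = g (f x) := by
    intro g hg P f hf
    refine FusionInduct88.induction' (hS.to_le hYS) hDs (hclosed g hg)
      (fun R hRY α hα hc => ?_) hf
    obtain ⟨-, -, -, α', hα', hαe, hαT⟩ :=
      (mor_centralizerSystem_iff hDT).1 (sub_mor hDi.1 ((mem_autGroup hRY).1 hα))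
    have hgY : ∀ x ∈ Y, g x ∈ Y := fun x hx =>
      image_le_cs hS hF hE le_rfl hg (apply_mem_im hx)
    have hgRT : Mor F (R ⊔ T) g :=
      hg.restrict_to (sup_le (hRY.trans le_sup_right) le_sup_left)
    have hgR : Mor F R g := hgRT.restrict_to le_sup_left
    have hgT : im T g = T := self_conj_eq hT (hgRT.restrict_to le_sup_right)
    obtain ⟨j, hj, hjg, -, hjR⟩ := hgRT.exists_inv
    have hle : im R g ⊔ T ≤ im (R ⊔ T) g :=
      sup_le (im_mono le_sup_left) (hgT.ge.trans (im_mono le_sup_right))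
    have hαR : ∀ x ∈ R ⊔ T, α' x ∈ R ⊔ T := fun x hx => mor_sup_induction hα'
      (fun z hz => hαe z hz ▸ Subgroup.mem_sup_left (afun_mem α hz))
      (fun z hz => (hαT z hz).symm ▸ Subgroup.mem_sup_right hz) hx
    have hh : Mor F (im R g ⊔ T) (g ∘ (α' ∘ j)) :=
      ((hj.restrict_to hle).comp hα' fun y hy => hjR y (hle hy)).comp hgRT
        fun y hy => hαR _ (hjR y (hle hy))
    have hhfix : ∀ t ∈ T, (g ∘ (α' ∘ j)) t = t := fun t ht => by
      obtain ⟨s, hs, rfl⟩ := (hgRT.restrict_to le_sup_right).mem_im.1 (hgT.ge ht)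
      simp only [Function.comp_apply]
      rw [hjg s (Subgroup.mem_sup_right hs), hαT s hs]
    have hgRY : im R g ≤ Y := im_le_iff.2 fun x hx => hgY x (hRY hx)
    have hhD := mor_cent hT hDT (hgRY.trans hYC) hh hhfix
    have hval : ∀ x ∈ R, (g ∘ (α' ∘ j)) (g x) = g (afun α x) := fun x hx => by
      simp only [Function.comp_apply]
      rw [hjg x (Subgroup.mem_sup_left hx), hαe x hx]
    obtain ⟨γ, hγ, hγe⟩ := hhD.exists_aut (hhD.im_self fun y hy => by
      obtain ⟨x, hx, rfl⟩ := hgR.mem_im.1 hy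
      rw [hval x hx]; exact apply_mem_im (afun_mem α hx))
    have hγα : γ = hgR.transport rfl α := afun_ext fun y hy => by
      obtain ⟨x, hx, rfl⟩ := hgR.mem_im.1 hy
      rw [hγe _ hy, hval x hx, hgR.afun_transport rfl α hx]
    refine ⟨afun γ, hcop hgRY hγ ?_, fun x hx => ?_⟩
    · rw [hγα, MulEquiv.orderOf_eq]; exact hc
    · rw [hγe _ (apply_mem_im hx), hval x hx]
  have hautY : ∀ {a : MulAut Y}, a ∈ F.autGroup Y →
      ∃ g, Mor F (T ⊔ Y) g ∧ ∀ x ∈ Y, g x = afun a x := fun {a} ha => by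
    obtain ⟨-, g, hg, he⟩ := csExt_of_mor hS hF hE ((mem_autGroup hYS).1 ha)
    exact ⟨g, hg.restrict_to (sup_le_sup_left (le_inf le_rfl le_rfl) T),
      fun x hx => he x ⟨hx, hx⟩⟩
  have hinv' : ∀ (P : Subgroup Ω) (f : Ω → Ω), Mor D P f → ∀ a ∈ F.autGroup Y,
      ∃ f', Mor D (im P (afun a)) f' ∧ ∀ x ∈ P, f' (afun a x) = afun a (f x) := by
    intro P f hf a ha
    obtain ⟨g, hg, hge⟩ := hautY ha
    obtain ⟨f', hf', he⟩ := hinv g hg hf
    have e : im P g = im P (afun a) := im_congr fun x hx => hge x (hf.le hx)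
    exact ⟨f', e ▸ hf',
      fun x hx => by rw [← hge x (hf.le hx), he x hx, hge _ (hf.apply_mem hx)]⟩
  -- Frattini
  have hkeep : ∀ {P : Subgroup Ω} {f : Ω → Ω}, Mor DT P f → ∀ x ∈ P, x ∈ Y → f x ∈ Y :=
    fun hf x hx hxY => closed_apply' hYcl (hDTF hf) hx hxY
  have hclosed2 : FusionInduct88.Closed DT (U := centralizerIn S T) (fun P f =>
      ∃ a ∈ F.autGroup Y, ∃ f₀, Mor D (P ⊓ Y) f₀ ∧ ∀ x ∈ P ⊓ Y, f x = afun a (f₀ x)) :=
    { congr := fun ⟨a, ha, f₀, hf₀, he⟩ hfg =>
        ⟨a, ha, f₀, hf₀, fun x hx => (hfg x hx.1).symm.trans (he x hx)⟩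
      conj := fun {P c} _ hc => by
        have hcY : c ∈ Subgroup.normalizer (Y : Set Ω) :=
          mem_normalizer_of_cj_le hYS fun x hx => hYn c hc.1 x hx
        refine ⟨nHom S Y ⟨c, hc.1, hcY⟩,
          autInducedBy_le hYS ((autInducedBy_eq_range S Y).ge ⟨_, rfl⟩), fun y => y,
          mor_id inf_le_right, fun x hx => ?_⟩
        rw [afun_nHom _ hx.2]
      comp := fun {P Q f g} hf _ _ _ hfQ ⟨a₁, ha₁, u, hu, hue⟩ ⟨a₂, ha₂, v, hv, hve⟩ => by
        obtain ⟨v', hv', hv'e⟩ := hinv' _ v hv a₁⁻¹ (inv_mem ha₁)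
        have hmem : ∀ x ∈ P ⊓ Y, f x ∈ Q ⊓ Y := fun x hx =>
          ⟨hfQ x hx.1, hkeep hf x hx.1 hx.2⟩
        have hu' : ∀ x ∈ P ⊓ Y, u x ∈ im (Q ⊓ Y) (afun a₁⁻¹) := fun x hx => by
          rw [← afun_inv_apply a₁ (hu.apply_mem hx), ← hue x hx]
          exact apply_mem_im (hmem x hx)
        refine ⟨a₂ * a₁, mul_mem ha₂ ha₁, v' ∘ u, hu.comp hv' hu', fun x hx => ?_⟩
        simp only [Function.comp_apply]
        have h1 := hmem x hx
        have h2 := hv'e _ h1
        rw [hue x hx, afun_inv_apply a₁ (hu.apply_mem hx)] at h2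
        rw [afun_mul _ _ (hv'.apply_mem (hu' x hx)), h2, hve _ h1, hue x hx]
        rw [hue x hx] at h1
        rw [afun_apply_inv a₁ (hv.apply_mem h1)]
      inv := fun {P f g} hf _ _ hgf ⟨a, ha, u, hu, hue⟩ => by
        obtain ⟨ui, hui, huiu, -, -⟩ := hu.exists_inv
        obtain ⟨u', hu', hu'e⟩ := hinv' _ ui hui a ha
        have hfY : ∀ y ∈ im P f ⊓ Y, ∃ x ∈ P ⊓ Y, f x = y := by
          rintro y ⟨hy, hyY⟩
          obtain ⟨x, hx, rfl⟩ := hf.mem_im.1 hy
          obtain ⟨fi, hfi, hfif, -, -⟩ := hf.exists_inv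
          have := hkeep hfi _ hy hyY
          rw [hfif x hx] at this
          exact ⟨x, ⟨hx, this⟩, rfl⟩
        have hle : im P f ⊓ Y ≤ im (im (P ⊓ Y) u) (afun a) := fun y hy => by
          obtain ⟨x, hx, rfl⟩ := hfY y hy
          rw [hue x hx]
          exact apply_mem_im (apply_mem_im hx)
        refine ⟨a⁻¹, inv_mem ha, u', hu'.restrict_to hle, fun y hy => ?_⟩
        obtain ⟨x, hx, rfl⟩ := hfY y hy
        rw [hgf x hx.1, hue x hx, hu'e _ (apply_mem_im hx), huiu x hx, afun_inv_apply a hx.2] }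
  have hfactor : ∀ (P : Subgroup Ω) (f : Ω → Ω), P ≤ Y → Mor F P f →
      ∃ a ∈ F.autGroup Y, ∃ f₀, Mor D P f₀ ∧ ∀ x ∈ P, f x = afun a (f₀ x) := by
    intro P f hP hf
    obtain ⟨-, g, hg, hge⟩ := csExt_of_mor hS hF hE hf
    have hPY : P ⊓ Y = P := inf_eq_left.2 hP
    have hg' : Mor F (T ⊔ P) g := hg.restrict_to (sup_le_sup_left hPY.ge T)
    have hgT0 := hg'.restrict_to (le_sup_left : T ≤ T ⊔ P)
    obtain ⟨e, he, hee, -⟩ := exists_extension_centralizer
      (receptive_of_fullyCentralized hS hF hTfc) hgT0 (self_conj_eq hT hgT0)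
    have he' : Mor F (T ⊔ Y) e := he.restrict_to (sup_le_sup_left hYC T)
    have heY : ∀ x ∈ Y, e x ∈ Y := fun x hx =>
      image_le_cs hS hF hE le_rfl he' (apply_mem_im hx)
    have heT : ∀ x ∈ T, e x ∈ T := fun x hx =>
      closed_apply' hT he' (Subgroup.mem_sup_left hx) hx
    obtain ⟨a, ha, hae⟩ := (he'.restrict_to (le_sup_right : Y ≤ T ⊔ Y)).exists_aut
      ((he'.restrict_to (le_sup_right : Y ≤ T ⊔ Y)).im_self heY)
    have him : im (T ⊔ Y) e = T ⊔ Y :=
      he'.im_self fun y hy => mor_sup_induction he'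
        (fun z hz => Subgroup.mem_sup_left (heT z hz))
        (fun z hz => Subgroup.mem_sup_right (heY z hz)) hy
    obtain ⟨ei, hei, heie, heei, heiT⟩ := he'.exists_inv
    rw [him] at hei heei heiT
    have hgY : ∀ x ∈ P, g x ∈ Y := fun x hx =>
      closed_apply' hYcl hg' (Subgroup.mem_sup_right hx) (hP hx)
    have hgle : ∀ y ∈ T ⊔ P, g y ∈ T ⊔ Y := fun y hy => mor_sup_induction hg'
      (fun z hz => Subgroup.mem_sup_left (closed_apply' hT hg' (Subgroup.mem_sup_left hz) hz))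
      (fun z hz => Subgroup.mem_sup_right (hgY z hz)) hy
    have hh : Mor F (P ⊔ T) (ei ∘ g) := by
      rw [sup_comm]; exact hg'.comp hei hgle
    have hfix : ∀ t ∈ T, (ei ∘ g) t = t := fun t ht => by
      simp only [Function.comp_apply]
      rw [← hee t ht]
      exact heie t (Subgroup.mem_sup_left ht)
    obtain ⟨a', ha', f₀, hf₀, hf₀e⟩ := FusionInduct88.induction' hCS hDTs hclosed2
      (fun R hR δ hδ hc => by
        have hR' : ∀ x ∈ R ⊓ Y, afun δ x ∈ R ⊓ Y := fun x hx =>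
          ⟨afun_mem δ hx.1, hkeep ((mem_autGroup hR).1 hδ) x hx.1 hx.2⟩
        have hδ0 := ((mem_autGroup hR).1 hδ).restrict_to (inf_le_left : R ⊓ Y ≤ R)
        obtain ⟨δ', hδ', hδe⟩ := hδ0.exists_aut (hδ0.im_self hR')
        refine ⟨1, one_mem _, afun δ', hcop inf_le_right hδ' (hc.coprime_dvd_left
          (orderOf_dvd_of_pow_eq_one (afun_ext fun x hx => ?_))), fun x hx => ?_⟩
        · rw [← pow_restrict inf_le_left (fun y hy => (hδe y hy).symm) _ x hx, pow_orderOf_eq_one,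
            afun_one hx.1, afun_one hx]
        · rw [afun_one (afun_mem δ' hx).2, hδe x hx])
      (mor_cent hT hDT (hP.trans hYC) hh hfix)
    rw [hPY] at hf₀ hf₀e
    refine ⟨a * a', mul_mem ha ha', f₀, hf₀, fun x hx => ?_⟩
    have h0 : f₀ x ∈ Y := hf₀.apply_mem hx
    rw [afun_mul _ _ h0, ← hf₀e x hx, Function.comp_apply]
    have hgx := hgle x (Subgroup.mem_sup_right hx)
    have hY' : ei (g x) ∈ Y := by
      rw [show ei (g x) = afun a' (f₀ x) from hf₀e x hx]; exact afun_mem a' h0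
    rw [hae _ hY', heei _ hgx, hge x ⟨hx, hP hx⟩]
  -- the extension condition
  have hext : D.autGroup Y ≤ wGroup F hYS := by
    refine FusionWeakAlperin.autGroup_le_of_fullyNormalized (hS.to_le hYS) hDs
      fullyNormalized_self ?_ ?_
    swap
    · intro a ha
      obtain ⟨y, hy, -, he⟩ := mem_autInducedBy.1 ha
      refine mem_wGroup_of_cj hYS (hYS hy) he fun c hc => ?_
      rw [cj_eq_self hy hc, inv_mul_cancel]
      exact Y.one_mem
    rw [Subgroup.map_le_iff_le_comap, TransferPResidual.pResidual_le_iff_coprime]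
    intro δ hδ
    have hδco : (orderOf (δ : MulAut Y)).Coprime p := by rwa [Subgroup.orderOf_coe]
    obtain ⟨-, -, -, ψ, hψ, hψe, hψT⟩ :=
      (mor_centralizerSystem_iff hDT).1 (sub_mor hDi.1 ((mem_autGroup le_rfl).1 δ.2))
    have hYTS : Y ⊔ T ≤ S := sup_le hYS hTS
    have hψYT : ∀ y ∈ Y ⊔ T, ψ y ∈ Y ⊔ T := fun y hy => mor_sup_induction hψ
      (fun z hz => hψe z hz ▸ Subgroup.mem_sup_left (afun_mem _ hz))
      (fun z hz => (hψT z hz).symm ▸ Subgroup.mem_sup_right hz) hy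
    have hnYT : ∀ g ∈ S, ∀ x ∈ Y ⊔ T, cj g x ∈ Y ⊔ T := fun g hg x hx =>
      mor_sup_induction (mor_cj (F := F) hYTS hg)
        (fun z hz => Subgroup.mem_sup_left (hYn g hg z hz))
        (fun z hz => Subgroup.mem_sup_right (cj_mem_of_stronglyClosed hT hg hz)) hx
    have hrec : F.IsReceptive (Y ⊔ T) :=
      receptive_of_fullyNormalized hS hF (FusionWeakAlperin.fullyNormalized_of_normal hYTS hnYT)
    obtain ⟨e, he, hee⟩ := (receptive_iff.1 hrec).2 (Y ⊔ T) ψ (centralizerIn S Y) hψ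
      (hψ.im_self hψYT) inf_le_left
      (fun g hg => mem_normalizer_of_cj_le hYTS fun x hx =>
        hnYT g (mem_centralizerIn.1 hg).1 x hx)
      (fun g hg => by
        have hgS := (mem_centralizerIn.1 hg).1
        refine ⟨g, hgS, fun x hx => ?_⟩
        have hc := mor_cj (F := F) hYTS hgS
        have h1 : Mor F (Y ⊔ T) (ψ ∘ cj g) := hc.comp hψ (hnYT g hgS)
        have h2 : Mor F (Y ⊔ T) (cj g ∘ ψ) := hψ.comp hc hψYT
        have key : ∀ z ∈ Y ⊔ T, (ψ ∘ cj g) z * ((cj g ∘ ψ) z)⁻¹ ∈ (⊥ : Subgroup Ω) := by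
          intro z hz
          rw [Subgroup.mem_bot, mul_inv_eq_one]
          refine eqOn_sup h1 h2 (fun w hw => ?_) (fun w hw => ?_) hz
          · simp only [Function.comp_apply]
            rw [(mem_centralizerIn.1 hg).2 w hw, hψe w hw,
              (mem_centralizerIn.1 hg).2 _ (afun_mem _ hw)]
          · simp only [Function.comp_apply]
            rw [hψT w hw, hψT _ (cj_mem_of_stronglyClosed hT hgS hw)]
        have := key x hx
        rw [Subgroup.mem_bot, mul_inv_eq_one] at this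
        exact this)
    set U := Y ⊔ T ⊔ centralizerIn S Y with hU
    have hYU : Y ≤ U := le_sup_left.trans le_sup_left
    have hTU : T ≤ U := le_sup_right.trans le_sup_left
    have hCU : centralizerIn S Y ≤ U := le_sup_right
    have heY' : ∀ x ∈ Y, e x = afun (δ : MulAut Y) x := fun x hx => by
      rw [hee x (Subgroup.mem_sup_left hx), hψe x hx]
    have heT' : ∀ x ∈ T, e x = x := fun x hx => by
      rw [hee x (Subgroup.mem_sup_right hx), hψT x hx]
    have himY : im Y e = Y :=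
      (he.restrict_to hYU).im_self fun x hx => heY' x hx ▸ afun_mem _ hx
    have heU : ∀ y ∈ U, e y ∈ U := by
      intro y hy
      refine mor_sup_induction he (fun z hz => ?_) (fun z hz => ?_) hy
      · exact (hee z hz).symm ▸ Subgroup.mem_sup_left (hψYT z hz)
      · exact Subgroup.mem_sup_right (himY ▸ apply_cent he hYU (hCU hz) hz)
    obtain ⟨B, hB, hBe⟩ := he.exists_aut (he.im_self heU)
    haveI := finite_of_le he.le
    obtain ⟨k, hkco, hka⟩ := exists_pow_coprime (p := p) B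
    have hBY : ∀ x ∈ Y, afun B x = afun (δ : MulAut Y) x := fun x hx => by
      rw [hBe x (hYU hx), heY' x hx]
    have hBT : ∀ (i : ℕ), ∀ x ∈ T, afun (B ^ i) x = x := by
      intro i
      induction i with
      | zero => intro x hx; rw [pow_zero, afun_one (hTU hx)]
      | succ i ih =>
        intro x hx
        rw [pow_succ', afun_mul _ _ (hTU hx), ih x hx, hBe x (hTU hx), heT' x hx]
    have hδk : (δ : MulAut Y) ^ k = δ := hka _ (afun_ext fun x hx => by
      rw [← pow_restrict hYU hBY _ x hx, pow_orderOf_eq_one, afun_one (hYU hx), afun_one hx]) hδco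
    set b := afun (B ^ k) with hb
    have hbm : Mor F U b := (mem_autGroup he.le).1 (pow_mem hB k)
    have hbY : ∀ x ∈ Y, b x = afun (δ : MulAut Y) x := fun x hx => by
      rw [hb, pow_restrict hYU hBY _ x hx, hδk]
    have hbT : ∀ x ∈ T, b x = x := hBT k
    have hbY' : ∀ x ∈ Y, b x ∈ Y := fun x hx => hbY x hx ▸ afun_mem _ hx
    refine ⟨b, hbm.restrict_to (sup_le hYU hCU), hbY, fun s hs => ?_⟩
    have hsS := (mem_centralizerIn.1 hs).1
    have hbs : b s ∈ centralizerIn S Y := by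
      have := apply_cent hbm hYU (hCU hs) hs
      rwa [(hbm.restrict_to hYU).im_self hbY'] at this
    set u := s⁻¹ * b s with hu
    have huY : u ∈ centralizerIn S Y := mul_mem (inv_mem hs) hbs
    have huT : u ∈ centralizerIn S T := by
      refine mem_centralizerIn.2 ⟨(mem_centralizerIn.1 huY).1, fun t ht => ?_⟩
      have h1 : cj s t ∈ T := cj_mem_of_stronglyClosed hT hsS ht
      have h2 : cj (b s) t = cj s t := by
        conv_lhs => rw [← hbT t ht]
        rw [← hbm.map_cj (hCU hs) (hTU ht), hbT _ h1]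
      rw [hu, ← cj_cj, h2, cj_inv_cj]
    have hle : Subgroup.zpowers u ⊔ T ≤ U :=
      sup_le (Subgroup.zpowers_le.2 (hCU huY)) hTU
    have huD : Mor DT (Subgroup.zpowers u) b :=
      mor_cent hT hDT (Subgroup.zpowers_le.2 huT) (hbm.restrict_to hle) hbT
    set w := u⁻¹ * b u with hw
    have hwY : w ∈ Y := hfoc (FusionFocal.gen_mem_focal huD (Subgroup.mem_zpowers u))
    have hwu : Commute u w := by
      have := (mem_centralizerIn.1 huY).2 w hwY
      rw [cj_apply, mul_inv_eq_iff_eq_mul] at this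
      exact this
    have hiter : ∀ i : ℕ, ∃ y ∈ Y, afun ((B ^ k) ^ i) s = s * u ^ i * y := by
      intro i
      induction i with
      | zero => exact ⟨1, Y.one_mem, by rw [pow_zero, pow_zero, afun_one (hCU hs), mul_one, mul_one]⟩
      | succ i ih =>
        obtain ⟨y, hy, hye⟩ := ih
        refine ⟨w ^ i * b y, Y.mul_mem (pow_mem hwY i) (hbY' y hy), ?_⟩
        rw [pow_succ', afun_mul _ _ (hCU hs), hye, ← hb]
        have hpow : b (u ^ i) = (u * w) ^ i := by
          have : ∀ j : ℕ, b (u ^ j) = (b u) ^ j := by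
            intro j
            induction j with
            | zero => rw [pow_zero, pow_zero]; exact hbm.map_one
            | succ j ihj =>
              rw [pow_succ, pow_succ, hbm.map_mul (hCU (pow_mem huY j)) (hCU huY), ihj]
          rw [this i, hw, mul_inv_cancel_left]
        rw [hbm.map_mul (mul_mem (hCU hs) (hCU (pow_mem huY i))) (hYU hy),
          hbm.map_mul (hCU hs) (hCU (pow_mem huY i)), hpow, hwu.mul_pow, pow_succ', hu]
        simp [mul_assoc]
    obtain ⟨y, hy, hye⟩ := hiter (orderOf (B ^ k))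
    rw [pow_orderOf_eq_one, afun_one (hCU hs), mul_assoc] at hye
    have hn : u ^ orderOf (B ^ k) ∈ Y := by
      rw [eq_inv_of_mul_eq_one_left (mul_eq_left.1 hye.symm)]
      exact Y.inv_mem hy
    obtain ⟨c, hc⟩ := hS ⟨u, (mem_centralizerIn.1 huY).1⟩
    have hc' : u ^ p ^ c = 1 := congrArg Subtype.val hc
    exact FusionWeaklyNormal88.mem_of_coprime_pow (hkco.pow_right c) hn (hc' ▸ Y.one_mem)
  refine ⟨D, ⟨⟨hDs, hF, FusionIso88.invariant_iff.2
      ⟨fun P φ hφ => ((hDT P) ▸ hDi.1 P hφ : φ ∈ F.centralizerHom T P).1, hYcl, hinv', hfactor⟩⟩,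
      ?_⟩, fun P φ hφ => (hDT P) ▸ hDi.1 P hφ,
      fun {P} hP {δ} hδ ⟨ψ, hψ, hψe, hψT⟩ => hcop hP (mem_autGroup_of_mor
        ((mor_cent hT hDT (hP.trans hYC) hψ hψT).congr hψe)) hδ⟩
  intro α hα
  obtain ⟨f, hf, hfe, hfm⟩ := hext hα
  have hP' : ∀ x ∈ Y, f x ∈ Y := fun x hx => hfe x hx ▸ afun_mem α hx
  obtain ⟨β, hβ, hβe⟩ := hf.exists_aut (hf.im_self (sup_map hf hP'))
  refine ⟨β, hβ, fun x => ?_, fun c hc => ?_⟩
  · rw [← afun_coe, ← afun_coe]
    show afun β (x : Ω) = _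
    rw [hβe _ (Subgroup.mem_sup_left x.2), hfe _ x.2]
  · rw [← afun_coe, hβe _ c.2]
    refine ⟨hfm _ hc, ?_⟩
    exact ((centralizerIn S Y).mul_mem (inv_mem hc) (cent_map hf hP' _ hc)).2

theorem exists_normal_centralizer (hS : IsPGroup p S) (hF : F.IsSaturated p)
    (hE : E.IsNormalIn F p) :
    ∃ D : FusionSystem (cs F E p), D.IsNormalIn F p ∧
      ∀ P : Subgroup Ω, D.Hom P ⊆ F.centralizerHom T P := by
  obtain ⟨D, hD, hsub, -⟩ := exists_normal_centralizer' hS hF hE
  exact ⟨D, hD, hsub⟩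

end Cfsg.Agent.FusionCentralizerNormal
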