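import Mathlib
import Cfsg.Agent.Lib.FusionSysGroup
import Cfsg.Agent.Lib.FusionKit88

/-!
Saturation along an injective homomorphism, and the saturation of `F_T(H)` for a Sylow
`p`-subgroup `T` of a subgroup `H`.
-/

set_option autoImplicit false

namespace Cfsg.Agent.FusionTransport88

open Cfsg Cfsg.FusionSystem Cfsg.Agent.FusionSysBasic Cfsg.Agent.FusionSysSaturated

section
variable {Ω Ω' : Type*} [Group Ω] [Group Ω'] {ι : Ω' →* Ω} (hι : Function.Injective ι)
  {T' : Subgroup Ω'} {T : Subgroup Ω} (hT : T = T'.map ι) {E' : FusionSystem T'} {E : FusionSystem T}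
  (hE : ∀ (P : Subgroup Ω') (f : Ω → Ω) (f' : Ω' → Ω'), P ≤ T' → (∀ x ∈ P, f (ι x) = ι (f' x)) →
    (Mor E (P.map ι) f ↔ Mor E' P f'))

include hι hT in
theorem exists_pullback {P : Subgroup Ω'} {f : Ω → Ω} (hf : Mor E (P.map ι) f) :
    P ≤ T' ∧ ∀ x ∈ P, f (ι x) = ι ((Function.invFun ι ∘ f ∘ ι) x) := by
  refine ⟨fun x hx => ?_, fun x hx => ?_⟩
  · have := hf.le ⟨x, hx, rfl⟩
    rw [hT] at this
    obtain ⟨y, hy, e⟩ := this
    exact hι e ▸ hy
  · have h1 := hf.apply_mem (x := ι x) ⟨x, hx, rfl⟩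
    rw [hT] at h1
    obtain ⟨y, -, e⟩ := h1
    exact (Function.invFun_eq ⟨y, e⟩).symm

include hι hT hE in
theorem mor_pullback {P : Subgroup Ω'} {f : Ω → Ω} (hf : Mor E (P.map ι) f) :
    Mor E' P (Function.invFun ι ∘ f ∘ ι) :=
  (hE P f _ (exists_pullback hι hT hf).1 (exists_pullback hι hT hf).2).1 hf

include hι hE in
theorem mor_push {P : Subgroup Ω'} {f' : Ω' → Ω'} (hf : Mor E' P f') :
    Mor E (P.map ι) (ι ∘ f' ∘ Function.invFun ι) :=
  (hE P _ f' hf.le fun x _ => by simp [Function.leftInverse_invFun hι x]).2 hf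

theorem im_map {P : Subgroup Ω'} {f : Ω → Ω} {f' : Ω' → Ω'} (hf : Mor E' P f')
    (h : ∀ x ∈ P, f (ι x) = ι (f' x)) : im (P.map ι) f = (im P f').map ι := by
  apply le_antisymm
  · rw [im_le_iff]
    rintro _ ⟨x, hx, rfl⟩
    exact ⟨f' x, apply_mem_im hx, (h x hx).symm⟩
  · rintro _ ⟨y, hy, rfl⟩
    obtain ⟨x, hx, rfl⟩ := hf.mem_im.1 hy
    rw [← h x hx]
    exact apply_mem_im ⟨x, hx, rfl⟩

theorem cj_map (g x : Ω') : cj (ι g) (ι x) = ι (cj g x) := by simp [cj_apply]

include hι hT hE in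
theorem saturated_map {p : ℕ} (h : E'.IsSaturated p) : E.IsSaturated p := by
  intro P hP
  have hPm : (P.comap ι).map ι = P := Subgroup.map_comap_eq_self (hP.trans (by
    rw [hT]; exact MonoidHom.range_eq_map ι ▸ Subgroup.map_mono le_top))
  have hP' : P.comap ι ≤ T' := fun x hx => by
    have := hP hx
    rw [hT] at this
    obtain ⟨y, hy, e⟩ := this
    exact hι e ▸ hy
  obtain ⟨Q, hPQ, hQa, hQr⟩ := h _ hP'
  have hQT := hQa.1
  refine ⟨Q.map ι, ?_, ⟨hT ▸ Subgroup.map_mono hQT, ?_⟩, ?_⟩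
  · obtain ⟨f', hf', him⟩ := FusionSysBasic.isConj_iff.1 hPQ
    refine FusionSysBasic.isConj_iff.2 ⟨_, hPm ▸ mor_push hι hE hf', ?_⟩
    conv_lhs => rw [← hPm]
    rw [im_map hf' (fun x _ => by simp [Function.leftInverse_invFun hι x]), him]
  · -- fully automized
    let e : Q ≃* Q.map ι := Subgroup.equivMapOfInjective Q ι hι
    let Φ : MulAut Q ≃* MulAut (Q.map ι) := MulAut.congr e
    have hΦ : ∀ (α : MulAut Q), ∀ x ∈ Q, afun (Φ α) (ι x) = ι (afun α x) := by
      intro α x hx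
      rw [afun_apply _ (⟨x, hx, rfl⟩ : ι x ∈ Q.map ι), afun_apply α hx]
      have he : (⟨ι x, ⟨x, hx, rfl⟩⟩ : Q.map ι) = e ⟨x, hx⟩ := Subtype.ext rfl
      rw [he]
      show ((e (α (e.symm (e ⟨x, hx⟩))) : Q.map ι) : Ω) = _
      rw [MulEquiv.symm_apply_apply]
      rfl
    have hA : (E'.autGroup Q).map Φ.toMonoidHom = E.autGroup (Q.map ι) := by
      ext β
      constructor
      · rintro ⟨α, hα, rfl⟩
        exact mem_autGroup_of_mor ((hE Q _ _ hQT (hΦ α)).2 ((mem_autGroup hQT).1 hα))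
      · intro hβ
        refine ⟨Φ.symm β, (mem_autGroup hQT).2 ?_, Φ.apply_symm_apply β⟩
        refine (hE Q (afun β) _ hQT fun x hx => ?_).1 ((mem_autGroup (hT ▸ Subgroup.map_mono hQT)).1 hβ)
        rw [← hΦ _ x hx, Φ.apply_symm_apply]
    have hI : (autInducedBy T' Q).map Φ.toMonoidHom = autInducedBy T (Q.map ι) := by
      ext β
      constructor
      · rintro ⟨α, hα, rfl⟩
        obtain ⟨g, hg, hgn, hge⟩ := mem_autInducedBy.1 hα
        refine mem_autInducedBy.2 ⟨ι g, hT ▸ ⟨g, hg, rfl⟩, ?_, ?_⟩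
        · rw [mem_normalizer_iff_im_cj]
          refine le_antisymm (im_le_iff.2 ?_) ?_
          · rintro _ ⟨x, hx, rfl⟩
            exact ⟨_, cj_mem_of_normalizer hgn hx, (cj_map g x).symm⟩
          · rintro _ ⟨x, hx, rfl⟩
            rw [← cj_cj_inv g x, ← cj_map]
            exact apply_mem_im ⟨_, cj_mem_of_normalizer (inv_mem hgn) hx, rfl⟩
        · rintro _ ⟨x, hx, rfl⟩
          show afun (Φ α) (ι x) = _
          rw [hΦ α x hx, hge x hx, cj_map]
      · intro hβ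
        obtain ⟨g, hg, hgn, hge⟩ := mem_autInducedBy.1 hβ
        rw [hT] at hg
        obtain ⟨g, hg', rfl⟩ := hg
        refine ⟨Φ.symm β, mem_autInducedBy.2 ⟨g, hg', ?_, fun x hx => hι ?_⟩, Φ.apply_symm_apply β⟩
        · rw [mem_normalizer_iff_im_cj]
          refine le_antisymm (im_le_iff.2 fun x hx => ?_) fun x hx => ?_
          · have := cj_mem_of_normalizer hgn (⟨x, hx, rfl⟩ : ι x ∈ Q.map ι)
            rw [cj_map] at this
            obtain ⟨y, hy, e⟩ := this
            exact hι e ▸ hy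
          · have := cj_mem_of_normalizer (inv_mem hgn) (⟨x, hx, rfl⟩ : ι x ∈ Q.map ι)
            rw [← map_inv, cj_map] at this
            obtain ⟨y, hy, e⟩ := this
            rw [← cj_cj_inv g x, ← hι e]
            exact apply_mem_im hy
        · rw [← hΦ _ x hx, Φ.apply_symm_apply, hge _ ⟨x, hx, rfl⟩, cj_map]
    obtain ⟨R, hR⟩ := hQa.2
    -- transport the Sylow subgroup along `Φ`
    let Ψ : E'.autGroup Q ≃* E.autGroup (Q.map ι) :=
      (Φ.subgroupMap (E'.autGroup Q)).trans (MulEquiv.subgroupCongr hA)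
    have hsub : (autInducedBy T (Q.map ι)).subgroupOf (E.autGroup (Q.map ι)) =
        (R : Subgroup (E'.autGroup Q)).map Ψ.toMonoidHom := by
      rw [hR]
      ext β
      rw [Subgroup.mem_subgroupOf, ← hI]
      constructor
      · rintro ⟨α, hα, e'⟩
        have hα' : α ∈ E'.autGroup Q := by
          obtain ⟨α', hα', e''⟩ := hA.ge β.2
          rwa [Φ.injective (e'.trans e''.symm)]
        exact ⟨⟨α, hα'⟩, hα, Subtype.ext e'⟩
      · rintro ⟨α, hα, rfl⟩
        exact ⟨α, hα, rfl⟩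
    refine ⟨⟨(autInducedBy T (Q.map ι)).subgroupOf (E.autGroup (Q.map ι)), ?_, fun {K} hK hle => ?_⟩, rfl⟩
    · rw [hsub]; exact R.isPGroup'.map _
    · rw [hsub] at hle ⊢
      have h1 := R.is_maximal' (Q := K.comap Ψ.toMonoidHom)
        (hK.comap_of_injective _ Ψ.injective) (Subgroup.map_le_iff_le_comap.1 hle)
      rw [← h1, Subgroup.map_comap_eq_self_of_surjective Ψ.surjective]
  · -- receptive
    refine receptive_iff.2 ⟨hT ▸ Subgroup.map_mono hQT, fun R f N hf him hNT hNn hN => ?_⟩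
    have hlift : ∀ A : Subgroup Ω, A ≤ T → (A.comap ι).map ι = A := fun A hA =>
      Subgroup.map_comap_eq_self (hA.trans (hT ▸ MonoidHom.range_eq_map ι ▸ Subgroup.map_mono le_top))
    have hpre : ∀ y ∈ T, ∃ y', y' ∈ T' ∧ ι y' = y := by
      rw [hT]; rintro _ ⟨y, hy, rfl⟩; exact ⟨y, hy, rfl⟩
    have hR := hlift R hf.le
    have hNm := hlift N hNT
    rw [← hR] at hf him
    have hf' := mor_pullback hι hT hE hf
    have hfe := (exists_pullback hι hT hf).2
    have him' : im (R.comap ι) (Function.invFun ι ∘ f ∘ ι) = Q := by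
      apply Subgroup.map_injective hι
      rw [← im_map hf' hfe, him]
    obtain ⟨f₁', hf₁', hag⟩ := (receptive_iff.1 hQr).2 _ _ (N.comap ι) hf' him'
      (fun x hx => by
        obtain ⟨y, hy, e⟩ := hpre _ (hNT hx)
        exact hι e ▸ hy)
      (fun g hg => by
        rw [mem_normalizer_iff_im_cj]
        apply Subgroup.map_injective hι
        have h2 := mem_normalizer_iff_im_cj.1 (hNn hg)
        rw [hR]
        conv_rhs => rw [← h2]
        apply le_antisymm
        · rw [Subgroup.map_le_iff_le_comap, im_le_iff]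
          intro x hx
          show ι (cj g x) ∈ im R (cj (ι g))
          rw [← cj_map]; exact apply_mem_im hx
        · rw [im_le_iff]
          intro y hy
          obtain ⟨x, hx, rfl⟩ := hR.ge hy
          exact ⟨cj g x, apply_mem_im hx, (cj_map g x).symm⟩)
      (fun g hg => by
        obtain ⟨h, hh, he⟩ := hN _ hg
        obtain ⟨h', hh', rfl⟩ := hpre h hh
        refine ⟨h', hh', fun x hx => hι ?_⟩
        have hgx : cj g x ∈ R.comap ι := by
          show ι (cj g x) ∈ R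
          rw [← cj_map]
          exact cj_mem_of_normalizer (hNn hg) hx
        rw [← hfe _ hgx, ← cj_map h', ← hfe x hx, ← he _ hx, cj_map])
    refine ⟨ι ∘ f₁' ∘ Function.invFun ι, ?_, fun x hx => ?_⟩
    · have := mor_push hι hE hf₁'
      rwa [Subgroup.map_sup, hR, hNm] at this
    · obtain ⟨x', hx', rfl⟩ := hR.ge hx
      simp only [Function.comp_apply, Function.leftInverse_invFun hι x']
      rw [hag x' hx']
      exact (hfe x' hx').symm

end

theorem mor_subgroup_iff {G : Type*} [Group G] {H T : Subgroup G} {hTH : T ≤ H} {P : Subgroup G}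
    {f : G → G} :
    Mor (fusionSystemOfSubgroup H T hTH) P f ↔
      P ≤ T ∧ ∃ g ∈ H, (∀ x ∈ P, f x = cj g x) ∧ ∀ x ∈ P, cj g x ∈ T := by
  constructor
  · rintro ⟨φ, ⟨hP, hφT, g, hg, he⟩, hf⟩
    exact ⟨hP, g, hg, fun x hx => (hf ⟨x, hx⟩).symm.trans (he ⟨x, hx⟩),
      fun x hx => (show φ ⟨x, hx⟩ = cj g x from he ⟨x, hx⟩) ▸ hφT ⟨x, hx⟩⟩
  · rintro ⟨hP, g, hg, he, hT⟩
    exact ⟨conjHom P g, ⟨hP, fun x => hT x x.2, g, hg, fun x => rfl⟩, fun x => (he x x.2).symm⟩

/-- `F_T(H)` is saturated when `T` is a Sylow subgroup of `H`. -/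
theorem saturated_subgroup {G : Type*} [Group G] {H T : Subgroup G} [Finite H] {p : ℕ}
    [Fact p.Prime] (hTH : T ≤ H) (R : Sylow p H) (hR : (R : Subgroup H) = T.subgroupOf H) :
    (fusionSystemOfSubgroup H T hTH).IsSaturated p := by
  have hmap : T = (R : Subgroup H).map H.subtype := by
    rw [hR, Subgroup.subgroupOf_map_subtype, inf_eq_left.2 hTH]
  refine saturated_map H.subtype_injective hmap ?_ (FusionSysGroup.saturated_group R)
  intro P f f' hP hf
  rw [mor_subgroup_iff, FusionSysGroup.mor_group_iff]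
  constructor
  · rintro ⟨-, g, hg, he, hgT⟩
    refine ⟨hP, ⟨g, hg⟩, fun x hx => Subtype.ext ?_, fun x hx => ?_⟩
    · exact (hf x hx).symm.trans (he _ ⟨x, hx, rfl⟩)
    · rw [hR, Subgroup.mem_subgroupOf]
      exact hgT _ ⟨x, hx, rfl⟩
  · rintro ⟨-, g, he, hgT⟩
    refine ⟨hmap ▸ Subgroup.map_mono hP, g, g.2, ?_, ?_⟩
    · rintro _ ⟨x, hx, rfl⟩
      rw [hf x hx, he x hx]
      rfl
    · rintro _ ⟨x, hx, rfl⟩
      exact hmap ▸ ⟨_, hgT x hx, rfl⟩

end Cfsg.Agent.FusionTransport88
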