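import Cfsg.Agent.S5120
import Cfsg.Agent.S5132
import Cfsg.Agent.S5155
import Cfsg.Agent.S5290
import Cfsg.Agent.Lib.FusionConstrainedSub
import Cfsg.Agent.Lib.FusionCentralLiftSat
import Cfsg.Agent.Lib.FusionPPowerIndex88

/-!
A saturated fusion system is constrained exactly when it has no component
(`not_component_of_constrained`, `exists_component`).
-/

set_option autoImplicit false

namespace Cfsg.Agent.FusionComponentExists

open Cfsg Cfsg.FusionSystem Cfsg.Agent.FusionSysBasic Cfsg.Agent.FusionSysSaturated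
open Cfsg.Agent.FusionSysNormal Cfsg.Agent.FusionKit88 Cfsg.Agent.FusionMorph88
open scoped commutatorElement

variable {Ω : Type*} [Group Ω]

theorem subnormal_trans {U V S : Subgroup Ω} {E : FusionSystem U} {D : FusionSystem V}
    {F : FusionSystem S} {p : ℕ} (h1 : E.IsSubnormalIn D p) (h2 : D.IsSubnormalIn F p) :
    E.IsSubnormalIn F p := by
  induction h2 with
  | refl => exact h1
  | step _ hn ih => exact .step (ih h1) hn

theorem subnormal_sub {U S : Subgroup Ω} {E : FusionSystem U} {F : FusionSystem S} {p : ℕ}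
    (h : E.IsSubnormalIn F p) : E.IsSubsystemOf F := by
  induction h with
  | refl F p => exact fun P => subset_rfl
  | step _ hn ih => exact fun P => (ih P).trans (hn.1.2.2.1 P)

variable {S : Subgroup Ω} [Finite S] {F : FusionSystem S} {p : ℕ} [Fact p.Prime]

/-- The inner system of a normal subgroup is a normal subsystem. -/
theorem inner_normal (hS : IsPGroup p S) (hF : F.IsSaturated p) {Q : Subgroup Ω}
    (hQ : F.IsNormal Q) : (Cfsg.innerFusionSystem Q).IsNormalIn F p := by
  have hQS := hQ.1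
  haveI := finite_of_le hQS
  refine ⟨(S5290.result p hS F hF Q hQS).1 hQ, fun α hα => ?_⟩
  obtain ⟨-, g, hg, he⟩ := FusionSysAlperin.mor_inner_iff.1 ((mem_autGroup le_rfl).1 hα)
  have hXS : Q ⊔ centralizerIn S Q ≤ S := sup_le hQS inf_le_left
  have hgC : ∀ c ∈ centralizerIn S Q, cj g c = c := fun c hc => by
    have := (mem_centralizerIn.1 hc).2 g hg
    rw [cj_apply, mul_inv_eq_iff_eq_mul] at this
    rw [cj_apply, ← this, mul_inv_cancel_right]
  have hm := mor_cj (F := F) hXS (hQS hg)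
  obtain ⟨β, hβ, hβe⟩ := hm.exists_aut (hm.im_self fun x hx => mor_sup_induction hm
    (fun y hy => Subgroup.mem_sup_left (cj_mem_of_normalizer (Subgroup.le_normalizer hg) hy))
    (fun c hc => by rw [hgC c hc]; exact Subgroup.mem_sup_right hc) hx)
  refine ⟨β, hβ, fun x => ?_, fun c hc => ?_⟩
  · rw [← afun_coe, ← afun_coe]
    show afun β (x : Ω) = afun α x
    rw [hβe _ (Subgroup.mem_sup_left x.2), he x x.2]
  · rw [← afun_coe, hβe _ c.2, hgC c hc, inv_mul_cancel]
    exact one_mem _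

/-- If every automorphism of order prime to `p` moves elements only inside a subgroup it fixes,
there is none but the identity. -/
theorem eq_one_of_moves_fixed (hS : IsPGroup p S) {Z P : Subgroup Ω} (hP : P ≤ S) {α : MulAut P}
    (hco : (orderOf α).Coprime p) (hmove : ∀ x ∈ P, x⁻¹ * afun α x ∈ Z)
    (hfix : ∀ x ∈ P, x ∈ Z → afun α x = x) : α = 1 := by
  haveI := finite_of_le hP
  obtain ⟨j, hj⟩ := pow_eq_one_of_stabilizes (hS.to_le hP) (n := 2)
    (fun i => if i = 0 then ⊥ else if i = 1 then P ⊓ Z else P) rfl rfl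
    (fun i => by split_ifs <;> simp) (fun i hi => by interval_cases i <;> simp)
    (α := α) (fun i hi y hy => by
      interval_cases i
      · simp only [zero_add, if_neg one_ne_zero, if_pos rfl] at hy
        simp [hfix y hy.1 hy.2]
      · simp only [if_neg one_ne_zero, if_pos rfl]
        simp only [show (1 + 1 = 0) = False by simp, show (1 + 1 = 1) = False by simp,
          if_false] at hy
        exact ⟨P.mul_mem (P.inv_mem hy) (afun_mem _ hy), hmove y hy⟩)
  exact orderOf_eq_one_iff.1 (Nat.eq_one_of_dvd_coprimes (hco.pow_right j) dvd_rfl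
    (orderOf_dvd_of_pow_eq_one hj))

/-- A constrained system is not quasisimple. -/
theorem not_quasisimple_of_constrained (hS : IsPGroup p S) (hc : F.IsConstrained p) :
    ¬ F.Quasisimple p := by
  rintro ⟨hF, hhyp, hsimp⟩
  obtain ⟨-, Q, hQ, hQc⟩ := hc
  set Z := F.center with hZdef
  have hZc : F.IsCentral Z := center_isCentral
  have hfix : ∀ {P : Subgroup Ω} {f : Ω → Ω}, Mor F P f → ∀ z ∈ P, z ∈ Z → f z = z := by
    intro P f hf z hzP hzZ
    obtain ⟨ψ, -, he, hψ⟩ := (isCentral_iff.1 hZc).2 P f hf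
    rw [← he z hzP, hψ z hzZ]
  have hZcl : F.StronglyClosed Z := stronglyClosed_iff.2 ⟨hZc.1, fun P f hP hf x hx => by
    rw [hfix hf x hx (hP hx)]; exact hP hx⟩
  set q := Z.subgroupOf S with hqdef
  set θ := QuotientGroup.mk' q with hθdef
  let E := S5132.factorSys F Z hZcl
  have hfac : F.IsFactorSystem Z θ E := ⟨hZc.1, fun s => by
    rw [← MonoidHom.mem_ker, QuotientGroup.ker_mk', Subgroup.mem_subgroupOf],
    QuotientGroup.range_mk' _, fun P' φ' => Iff.rfl⟩
  obtain ⟨hEs, hne, hsimple⟩ := hsimp E hfac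
  have hsurj := S5134.result p hS F hF Z hZcl θ E hfac
  have hQbar : E.IsNormal (imageAlong θ Q) := by
    refine isNormal_iff.2 ⟨le_top, fun P' f' hf' => ?_⟩
    obtain ⟨f, hf, he⟩ := surjective_mor hsurj hf'
    obtain ⟨ψ, hψ, hψe, hψQ⟩ := (isNormal_iff.1 hQ).2 _ f hf
    obtain ⟨g, hg, hge⟩ := morphism_mor hsurj.1 hψ
    have hrange : (⊤ : Subgroup (S ⧸ q)) ≤ θ.range := (QuotientGroup.range_mk' _).ge
    refine ⟨g, hg.restrict_to (sup_le (fun y hy => ?_)
      (fun y hy => ?_)), fun y hy => ?_, le_antisymm (im_le_iff.2 fun y hy => ?_) fun y hy => ?_⟩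
    · obtain ⟨x, hx, hxS, rfl⟩ := mem_imageAlong.1
        ((imageAlong_preimageAlong (le_top.trans hrange : P' ≤ θ.range)).ge hy)
      exact mem_imageAlong.2 ⟨x, Subgroup.mem_sup_left hx, hxS, rfl⟩
    · obtain ⟨x, hx, hxS, rfl⟩ := mem_imageAlong.1 hy
      exact mem_imageAlong.2 ⟨x, Subgroup.mem_sup_right hx, hxS, rfl⟩
    · obtain ⟨x, hx, hxS, rfl⟩ := mem_imageAlong.1
        ((imageAlong_preimageAlong (le_top.trans hrange : P' ≤ θ.range)).ge hy)
      rw [hge x (Subgroup.mem_sup_left hx), hψe x hx, he x hx]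
    · obtain ⟨x, hx, hxS, rfl⟩ := mem_imageAlong.1 hy
      rw [hge x (Subgroup.mem_sup_right hx)]
      exact app_mem_imageAlong (hψQ ▸ apply_mem_im hx) hQ.1
    · obtain ⟨z, hz, hzS, rfl⟩ := mem_imageAlong.1 hy
      obtain ⟨x, hx, rfl⟩ := (hψ.restrict_to le_sup_right).mem_im.1 (hψQ.ge hz)
      rw [← hge x (Subgroup.mem_sup_right hx)]
      exact apply_mem_im (app_mem_imageAlong hx hQ.1)
  have hS' : IsPGroup p (⊤ : Subgroup (S ⧸ q)) := (hS.to_quotient q).to_subgroup ⊤
  have hZS : ∀ x ∈ S, app θ x = 1 → x ∈ Z := fun x hx e => by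
    rw [app_apply θ hx] at e
    exact (hfac.2.1 ⟨x, hx⟩).1 e
  rcases hsimple _ _ (inner_normal hS' hEs hQbar) with h | ⟨hTop, hall⟩
  · -- `Q` is central, so `S` is
    have hQZ : Q ≤ Z := fun x hx => hZS x (hQ.1 hx)
      (Subgroup.mem_bot.1 (h.le (app_mem_imageAlong hx hQ.1)))
    have hSQ : ∀ x ∈ S, x ∈ Q := fun x hx => hQc.2 Q (FusionSysBasic.isConj_refl hQ.1)
      (mem_centralizerIn.2 ⟨hx, fun y hy => hfix (mor_cj (F := F) hQ.1 hx) y hy (hQZ hy)⟩)
    refine hne ((Subgroup.eq_bot_iff_forall _).2 fun y _ => ?_)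
    obtain ⟨s, rfl⟩ := QuotientGroup.mk'_surjective q y
    exact (hfac.2.1 s).2 (hQZ (hSQ s s.2))
  -- the factor system is inner
  have hmove : ∀ P ≤ S, ∀ α ∈ F.autGroup P, (orderOf α).Coprime p →
      ∀ x ∈ P, x⁻¹ * afun α x ∈ Z := by
    intro P hP α hα hco x hx
    obtain ⟨g, hg, hge⟩ := morphism_mor hsurj.1 ((mem_autGroup hP).1 hα)
    obtain ⟨φ, hφ, hφe⟩ := id hg
    obtain ⟨-, c, -, hce⟩ := FusionSysAlperin.mor_inner_iff.1
      (⟨φ, (hall _).symm ▸ hφ, hφe⟩ : Mor (Cfsg.innerFusionSystem (imageAlong θ Q)) _ g)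
    have hpow : ∀ n : ℕ, ∀ y ∈ P, cj (c ^ n) (app θ y) = app θ (afun (α ^ n) y) := by
      intro n
      induction n with
      | zero => intro y hy; rw [pow_zero, pow_zero, cj_one, afun_one hy]
      | succ n ih =>
        intro y hy
        rw [pow_succ', pow_succ', ← cj_cj, ih y hy,
          ← hce _ (app_mem_imageAlong (afun_mem _ hy) hP), hge _ (afun_mem _ hy), afun_mul _ _ hy]
    obtain ⟨k, hk⟩ := hS' ⟨c, trivial⟩
    have hk' : c ^ p ^ k = 1 := congrArg Subtype.val hk
    -- `c` fixes the image of `P`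
    have hfixn : cj (c ^ orderOf α) (app θ x) = app θ x := by
      rw [hpow _ x hx, pow_orderOf_eq_one, afun_one hx]
    have hmem : c ∈ Subgroup.centralizer ({app θ x} : Set (S ⧸ q)) := by
      refine FusionWeaklyNormal88.mem_of_coprime_pow (hco.pow_right k) ?_
        (hk' ▸ Subgroup.one_mem _)
      rw [Subgroup.mem_centralizer_singleton_iff]
      rw [cj_apply, mul_inv_eq_iff_eq_mul] at hfixn
      exact hfixn
    rw [Subgroup.mem_centralizer_singleton_iff] at hmem
    have h1 : app θ (afun α x) = app θ x := by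
      rw [← hge x hx, hce _ (app_mem_imageAlong hx hP), cj_apply, hmem, mul_inv_cancel_right]
    refine hZS _ (S.mul_mem (S.inv_mem (hP hx)) (hP (afun_mem α hx))) ?_
    rw [app_mul (S.inv_mem (hP hx)) (hP (afun_mem α hx)), app_inv (hP hx), h1, inv_mul_cancel]
  have hhyp1 : F.hyperfocalSubgroup p ≤ ⊥ := by
    refine (Subgroup.closure_le _).2 ?_
    rintro _ ⟨P, α, x, hP, hα, rfl⟩
    have hα1 : α ∈ (⊥ : Subgroup (F.autGroup P)) :=
      (TransferPResidual.pResidual_le_iff_coprime.2 fun β hβ => Subgroup.mem_bot.2 (Subtype.ext (by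
        rw [← Subgroup.orderOf_coe] at hβ
        exact eq_one_of_moves_fixed hS hP hβ (hmove P hP β β.2 hβ)
          fun y hy hyZ => hfix ((mem_autGroup hP).1 β.2) y hy hyZ))) hα
    rw [Subgroup.mem_bot] at hα1
    simp [hα1]
  refine hne ((Subgroup.eq_bot_iff_forall _).2 fun y _ => ?_)
  obtain ⟨s, rfl⟩ := QuotientGroup.mk'_surjective q y
  have : s = 1 := Subtype.ext (Subgroup.mem_bot.1 ((hhyp ▸ hhyp1 : S ≤ ⊥) s.2))
  rw [this, map_one]

/-- A constrained system has no component. -/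
theorem not_component_of_constrained (hS : IsPGroup p S) (hc : F.IsConstrained p)
    {T : Subgroup Ω} {C : FusionSystem T} (hC : C.IsComponentIn F p) : False := by
  have hTS := subnormal_le hC.1
  haveI := finite_of_le hTS
  exact not_quasisimple_of_constrained (hS.to_le hTS)
    (FusionConstrainedSub.constrained_subnormalIn hC.1 inferInstance inferInstance hS hc) hC.2

/-- The largest normal subgroup of a normal subsystem is normal in the system. -/
theorem core_normal_of_normal (hS : IsPGroup p S) {T : Subgroup Ω} {E : FusionSystem T}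
    (hE : E.IsNormalIn F p) : F.IsNormal E.core := by
  have hI := hE.1.2.2
  have hT := hI.2.1
  have hTS : T ≤ S := hT.1
  haveI := finite_of_le hTS
  have hcore : E.IsNormal E.core := core_isNormal
  have hRT : E.core ≤ T := hcore.1
  have hinv : ∀ a ∈ F.autGroup T, ∀ x ∈ E.core, afun a x ∈ E.core := by
    intro a ha x hx
    have ham : ∀ {b : MulAut T}, b ∈ F.autGroup T → Mor F T (afun b) := fun hb =>
      (mem_autGroup hTS).1 hb
    suffices E.IsNormal (im E.core (afun a)) from le_core this (apply_mem_im hx)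
    refine isNormal_iff.2 ⟨im_le_iff.2 fun y hy => afun_mem a (hRT hy), fun P f hf => ?_⟩
    have hPT := hf.le
    have h0 := FusionWeaklyNormal88.inv_mor hI hf (inv_mem ha)
    obtain ⟨ψ, hψ, hψe, hψR⟩ := (isNormal_iff.1 hcore).2 _ _ h0
    have hP0 : im P (afun a⁻¹) ⊔ E.core ≤ T :=
      sup_le (im_le_iff.2 fun y hy => afun_mem _ (hPT hy)) hRT
    have hsrc : im (im P (afun a⁻¹) ⊔ E.core) (afun a) = P ⊔ im E.core (afun a) := by
      rw [im_sup ((ham ha).restrict_to hP0), ((ham (inv_mem ha)).restrict_to hPT).im_comp]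
      exact congrArg (· ⊔ im E.core (afun a))
        ((im_congr fun y hy => afun_apply_inv a (hPT hy)).trans (im_id P))
    have h1 := FusionWeaklyNormal88.inv_mor hI hψ ha
    rw [hsrc] at h1
    refine ⟨_, h1, fun y hy => ?_, ?_⟩
    · simp only [Function.comp_apply]
      rw [hψe _ (apply_mem_im hy)]
      simp only [Function.comp_apply, inv_inv, afun_apply_inv a (hPT hy),
        afun_apply_inv a (hf.apply_mem hy)]
    · rw [((ham ha).restrict_to hRT).im_comp]
      conv_rhs => rw [← hψR, (hψ.restrict_to le_sup_right).im_comp]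
      exact im_congr fun y hy => by simp [afun_inv_apply a (hRT hy)]
  have hcl : ∀ X, X ≤ E.core → E.IsNormal X → (∀ a ∈ F.autGroup T, ∀ x ∈ X, afun a x ∈ X) →
      F.StronglyClosed X := by
    intro X hX hXn hXi
    refine stronglyClosed_iff.2 ⟨hX.trans (hRT.trans hTS), fun P f hP hf x hx => ?_⟩
    obtain ⟨a, ha, e, he, hfe⟩ :=
      FusionWeaklyNormal88.inv_factor hI (hP.trans (hX.trans hRT)) hf
    rw [hfe x hx]
    exact hXi a ha _ (stronglyClosed_invariant (stronglyClosed_of_normal hXn) he hx (hP hx))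
  haveI := finite_of_le (hRT.trans hTS)
  haveI := ((hS.to_le hTS).to_le hRT).isNilpotent
  obtain ⟨n, hn⟩ := Group.IsNilpotent.nilpotent (G := E.core)
  set X : ℕ → Subgroup Ω := fun i => (Subgroup.upperCentralSeries E.core i).map E.core.subtype
  have hXcl : ∀ i, F.StronglyClosed (X i) := by
    intro i
    refine hcl _ (Subgroup.map_subtype_le _) (FusionSysChain.normal_upperCentralSeries hcore i)
      fun a ha x hx => ?_
    obtain ⟨y, hy, rfl⟩ := hx
    have hm := ((mem_autGroup hTS).1 ha).restrict_to hRT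
    obtain ⟨b, -, hbe⟩ := hm.exists_aut (hm.im_self fun z hz => hinv a ha z hz)
    refine ⟨b y, ?_, ?_⟩
    · have h1 := (Subgroup.characteristic_iff_map_eq.1
        (inferInstance : (Subgroup.upperCentralSeries E.core i).Characteristic)) b
      exact h1.le ⟨y, hy, rfl⟩
    · show ((b y : E.core) : Ω) = _
      rw [← afun_coe]
      exact hbe _ y.2
  refine FusionSysChain.isNormal_of_chain hS hE.1.2.1 (n := n) X (by simp [X]) ?_
    (hcl _ le_rfl hcore hinv) (fun i _ => ?_) (fun i _ => hXcl _) fun i _ => ?_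
  · show (Subgroup.upperCentralSeries E.core n).map E.core.subtype = _
    rw [hn, ← MonoidHom.range_eq_map, Subgroup.range_subtype]
  · exact Subgroup.map_mono (Subgroup.upperCentralSeries_mono _ (Nat.le_succ i))
  · refine Subgroup.commutator_le.mpr ?_
    rintro a ha _ ⟨b, hb, rfl⟩
    refine ⟨⁅(⟨a, ha⟩ : E.core), b⁆, ?_, rfl⟩
    have := Subgroup.mem_upperCentralSeries_succ_iff.mp hb ⟨a, ha⟩
    rw [← commutatorElement_inv] at this
    exact inv_mem_iff.mp this

omit [Finite S] [Fact p.Prime] in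
theorem core_le_of_subnormal {T : Subgroup Ω} {E : FusionSystem T} (h : E.IsSubnormalIn F p) :
    Fact p.Prime → Finite S → IsPGroup p S → E.core ≤ F.core := by
  induction h with
  | refl => exact fun _ _ _ => le_rfl
  | step _ hn ih =>
    intro hp hfin hS
    have hle := hn.1.2.2.2.1.1
    exact (ih hp (finite_of_le hle) (hS.to_le hle)).trans
      (le_core (core_normal_of_normal hS hn))

/-- The maps with source in `S`, as functions. -/
def mapSet (S : Subgroup Ω) {U : Subgroup Ω} (E : FusionSystem U) :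
    Set (Σ P : {P : Subgroup Ω // P ≤ S}, (P.1 → S)) :=
  {s | ∃ φ ∈ E.Hom s.1.1, ∀ x, ((s.2 x : S) : Ω) = φ x}

/-- The existence of a component in a system that is not constrained. -/
theorem exists_component (hS : IsPGroup p S) (hF : F.IsSaturated p) (hn : ¬ F.IsConstrained p) :
    ∃ (T : Subgroup Ω) (C : FusionSystem T), C.IsComponentIn F p ∧
      ¬ T ≤ F.core ∧ C.IsSubsystemOf F ∧
      ∀ P, C.Hom P ⊆ F.centralizerHom F.core P := by
  classical
  set Q := F.core with hQdef
  have hQn : F.IsNormal Q := core_isNormal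
  have hQS := hQn.1
  set CQ := centralizerIn S Q with hCQ
  have hnle : ¬ CQ ≤ Q := by
    intro hle
    refine hn ⟨hF, Q, hQn, hQS, fun R hR => ?_⟩
    obtain ⟨f, hf, rfl⟩ := FusionSysBasic.isConj_iff.1 hR
    obtain ⟨ψ, hψ, hψe, hψQ⟩ := (isNormal_iff.1 hQn).2 Q f hf
    rwa [im_congr fun x hx => (hψe x hx).symm, hψQ]
  have hcentQ : ∀ c ∈ CQ, ∀ q ∈ Q, cj q c = c := fun c hc q hq => by
    have := (mem_centralizerIn.1 hc).2 q hq
    rw [cj_apply, mul_inv_eq_iff_eq_mul] at this
    rw [cj_apply, ← this, mul_inv_cancel_right]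
  obtain ⟨D, hD, hDQ⟩ := S5155.result p hS F hF (Cfsg.innerFusionSystem Q) (inner_normal hS hF hQn)
    CQ le_rfl (fun P φ hφ => by
      obtain ⟨hP, g, hg, he⟩ := FusionSysAlperin.mor_inner_iff.1 (mor_toFun hφ)
      have hPC : P ⊔ CQ ≤ S := sup_le (hP.trans hQS) inf_le_left
      have hm := mor_cj (F := F) (P := P) (hP.trans hQS) (hQS hg)
      have hQC : ∀ y ∈ Q, y ∈ centralizerIn S CQ := fun y hy =>
        mem_centralizerIn.2 ⟨hQS hy, fun c hc => hcentQ c hc y hy⟩
      have hval : ∀ x : P, φ x = cj g x := fun x => by rw [← toFun_coe φ x, he x x.2]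
      refine ⟨(mor_iff_hom hval).1 hm, fun x hx => hQC x (hP hx), fun x => hQC _ ?_,
        (ext_central_iff (f := cj g) hval).2 ⟨cj g, mor_cj hPC (hQS hg), fun _ _ => rfl,
          fun c hc => hcentQ c hc g hg⟩⟩
      exact ((Cfsg.innerFusionSystem Q).le_of_mem hφ).2 x)
    (fun Y hY _ => hY)
  have hDS : CQ ≤ S := inf_le_left
  haveI := finite_of_le hDS
  have hDs := hD.1.1
  -- maps of `D` fix the elements of `Q`
  have hfixD : ∀ {P : Subgroup Ω} {f : Ω → Ω}, Mor D P f → ∀ x ∈ P, x ∈ Q → f x = x := by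
    intro P f hf x hx hxQ
    obtain ⟨φ, hφ, he⟩ := hf
    obtain ⟨ψ, -, hψe, hψQ⟩ := (ext_central_iff he).1 (hDQ P hφ).2.2.2
    rw [← hψe x hx, hψQ x hxQ]
  have hcoreD : D.core ≤ Q := le_core (core_normal_of_normal hS hD)
  -- the candidates
  let Cand : ℕ → ℕ → Prop := fun n m => ∃ (U : Subgroup Ω) (E : FusionSystem U),
    E.IsSubnormalIn D p ∧ ¬ U ≤ Q ∧ Nat.card U = n ∧ (mapSet S E).ncard = m
  have hex : ∃ n, ∃ m, Cand n m := ⟨_, _, CQ, D, .refl D p, hnle, rfl, rfl⟩
  have hex2 := Nat.find_spec hex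
  obtain ⟨T, E, hED, hTQ, hTn, hTm⟩ := Nat.find_spec hex2
  have hTC : T ≤ CQ := subnormal_le hED
  have hTS : T ≤ S := hTC.trans hDS
  haveI := finite_of_le hTS
  have hST := hS.to_le hTS
  have hEs : E.IsSaturated p := subnormal_saturated hED hDs
  have hsubD := subnormal_sub hED
  have hfixE : ∀ {P : Subgroup Ω} {f : Ω → Ω}, Mor E P f → ∀ x ∈ P, x ∈ Q → f x = x :=
    fun hf => hfixD (sub_mor hsubD hf)
  have hcoreE : E.core ≤ Q := (core_le_of_subnormal hED inferInstance inferInstance (hS.to_le hDS)).trans hcoreD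
  -- minimality
  have hmin : ∀ {U : Subgroup Ω} {E' : FusionSystem U}, E'.IsNormalIn E p → ¬ U ≤ Q →
      U = T ∧ ∀ P, E.Hom P ⊆ E'.Hom P := by
    intro U E' hE' hU
    have hUT : U ≤ T := hE'.1.2.2.2.1.1
    have hsub : E'.IsSubnormalIn D p := subnormal_trans (.step (.refl E' p) hE') hED
    have h1 : Nat.find hex ≤ Nat.card U := Nat.find_min' hex ⟨_, U, E', hsub, hU, rfl, rfl⟩
    have hUeq : U = T := eq_of_le_of_card_ge (S := S) hTS hUT (hTn ▸ h1)
    refine ⟨hUeq, fun P => ?_⟩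
    have h2 : Nat.find hex2 ≤ (mapSet S E').ncard :=
      Nat.find_min' hex2 ⟨U, E', hsub, hU, by rw [hUeq, hTn], rfl⟩
    have hfin : (mapSet S E).Finite := by
      haveI : Finite {P : Subgroup Ω // P ≤ S} := Set.Finite.to_subtype finite_le_S
      haveI : ∀ P : {P : Subgroup Ω // P ≤ S}, Finite (P.1 → S) := fun P => by
        haveI := finite_of_le P.2
        infer_instance
      exact Set.toFinite _
    have hle : mapSet S E' ⊆ mapSet S E :=
      fun s ⟨φ, hφ, he⟩ => ⟨φ, hE'.1.2.2.1 _ hφ, he⟩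
    have heq := Set.eq_of_subset_of_ncard_le hle (hTm ▸ h2) hfin
    intro φ hφ
    obtain ⟨hPT, hφT⟩ := E.le_of_mem hφ
    obtain ⟨ψ, hψ, hψe⟩ := (heq.symm ▸ ⟨φ, hφ, fun _ => rfl⟩ :
      (⟨⟨P, hPT.trans hTS⟩, fun x => ⟨φ x, hTS (hφT x)⟩⟩ :
        Σ P : {P : Subgroup Ω // P ≤ S}, (P.1 → S)) ∈ mapSet S E')
    exact (MonoidHom.ext fun x => hψe x : φ = ψ) ▸ hψ
  -- the hyperfocal subgroup is not in `Q`
  have hhypQ : ¬ E.hyperfocalSubgroup p ≤ Q := by
    intro hle
    have hinner : ∀ P f, Mor E P f → ∃ g ∈ T, ∀ x ∈ P, f x = cj g x := by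
      intro P f hf
      refine FusionInduct88.induction' hST hEs (Φ := fun P f => ∃ g ∈ T, ∀ x ∈ P, f x = cj g x)
        { congr := fun ⟨g, hg, he⟩ h => ⟨g, hg, fun x hx => (h x hx).symm.trans (he x hx)⟩
          conj := fun _ hg => ⟨_, hg, fun _ _ => rfl⟩
          comp := fun _ _ _ _ hfQ ⟨g, hg, he⟩ ⟨g', hg', he'⟩ => ⟨g' * g, T.mul_mem hg' hg,
            fun x hx => by rw [Function.comp_apply, he' _ (hfQ x hx), he x hx, cj_cj]⟩
          inv := fun {P f f'} hf _ _ hff' ⟨g, hg, he⟩ => ⟨g⁻¹, T.inv_mem hg, fun y hy => by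
            obtain ⟨x, hx, rfl⟩ := hf.mem_im.1 hy
            rw [hff' x hx, he x hx, cj_inv_cj]⟩ }
        (fun R hR α hα hco => ?_) hf
      have h1 : α = 1 := eq_one_of_moves_fixed hST hR hco
        (fun x hx => hle (FusionInduct88.gen_mem_hyperfocal hR hα hco hx))
        fun x hx hxQ => hfixE ((mem_autGroup hR).1 hα) x hx hxQ
      exact ⟨1, T.one_mem, fun x hx => by rw [h1, afun_one hx, cj_one]⟩
    refine hTQ ((le_core (isNormal_iff.2 ⟨le_rfl, fun P f hf => ?_⟩)).trans hcoreE)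
    obtain ⟨g, hg, he⟩ := hinner P f hf
    refine ⟨cj g, mor_cj (sup_le hf.le le_rfl) hg, fun x hx => (he x hx).symm, ?_⟩
    exact mem_normalizer_iff_im_cj.1 (Subgroup.le_normalizer hg)
  -- so it is all of `T`
  have hhypT : E.hyperfocalSubgroup p = T := by
    have hle := FusionPPower.hyperfocal_le (p := p) E
    obtain ⟨D1, hD1s, hD1⟩ :=
      FusionPPowerIndex88.exists_pPower _ T E _ le_rfl hST hEs hle le_rfl
    haveI : ((E.hyperfocalSubgroup p).subgroupOf T).Normal := ⟨fun n hn g => by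
      rw [Subgroup.mem_subgroupOf] at hn ⊢
      exact FusionInduct88.cj_mem_hyperfocal g.2 hn⟩
    exact (hmin (S5120.result p hST E hEs _ hle inferInstance le_rfl D1 hD1s hD1) hhypQ).1
  -- the centre
  have hcent : E.center = T ⊓ Q := by
    refine le_antisymm (le_inf center_isCentral.1 ((le_core ?_).trans hcoreE)) (le_center ?_)
    · have hc := center_isCentral (F := E)
      refine isNormal_iff.2 ⟨hc.1, fun P f hf => ?_⟩
      obtain ⟨ψ, hψ, he, hfix⟩ := (isCentral_iff.1 hc).2 P f hf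
      exact ⟨ψ, hψ, he, (im_congr hfix).trans (im_id _)⟩
    · refine isCentral_of_fixed hST hEs inf_le_left fun x hx y hy => ?_
      obtain ⟨f, hf, rfl⟩ := isConjElt_iff.1 hy
      exact hfixE hf x (Subgroup.mem_zpowers x) hx.2
  refine ⟨T, E, ⟨subnormal_trans hED (.step (.refl D p) hD), hEs, hhypT, fun E' hE' => ?_⟩, hTQ,
    subnormal_sub (subnormal_trans hED (.step (.refl D p) hD)),
    fun P φ hφ => hDQ P (hsubD P hφ)⟩
  -- the factor system is simple
  have hZc : E.IsCentral E.center := center_isCentral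
  have hset : ∀ {U' : Subgroup (T ⧸ E.center.subgroupOf T)} {N : FusionSystem U'},
      N.IsNormalIn E' p → FusionCentralLift.Setup E E.center
        (QuotientGroup.mk' (E.center.subgroupOf T)) E' N p :=
    fun hN => ⟨hST, hEs, hZc, hE', hN⟩
  have hZcl : E.StronglyClosed E.center := stronglyClosed_iff.2 ⟨hZc.1, fun P f hP hf x hx => by
    obtain ⟨ψ, -, he, hfix⟩ := (isCentral_iff.1 hZc).2 P f hf
    rw [← he x hx, hfix x (hP hx)]
    exact hP hx⟩
  refine ⟨saturated_of_surjective hST hEs (S5134.result p hST E hEs _ hZcl _ E' hE'),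
    fun e => hTQ fun x hx => ?_, fun T' N hN => ?_⟩
  · have h1 : QuotientGroup.mk' (E.center.subgroupOf T) ⟨x, hx⟩ = 1 :=
      Subgroup.mem_bot.1 (e.le trivial)
    exact (hcent.le ((hE'.2.1 ⟨x, hx⟩).1 h1)).2
  by_cases hT' : T' = ⊥
  · exact Or.inl hT'
  have hs := hset hN
  obtain ⟨D1, hD1, hD1i⟩ := hs.exists_normal_preimage
  have hne : ¬ preimageAlong (QuotientGroup.mk' (E.center.subgroupOf T)) T' ≤ Q := by
    intro hle
    refine hT' ((Subgroup.eq_bot_iff_forall _).2 fun y hy => ?_)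
    obtain ⟨s, rfl⟩ := QuotientGroup.mk'_surjective (E.center.subgroupOf T) y
    exact (hE'.2.1 s).2 (hcent.ge ⟨s.2, hle (mem_preimageAlong.2
      ⟨s.2, by rw [app_apply _ s.2]; exact hy⟩)⟩)
  obtain ⟨hpre, hall⟩ := hmin hD1 hne
  have htop : T' = ⊤ := top_le_iff.1 fun y _ => by
    obtain ⟨s, rfl⟩ := QuotientGroup.mk'_surjective (E.center.subgroupOf T) y
    have h1 := (mem_preimageAlong.1 (hpre.ge s.2)).2
    rwa [app_apply _ s.2] at h1
  refine Or.inr ⟨htop, fun P => Set.Subset.antisymm (hN.1.2.2.1 P) fun φ' hφ' => ?_⟩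
  obtain ⟨hP', f, hf, he⟩ := (factor_mor hE').1 (mor_toFun hφ')
  obtain ⟨g, hg, hge⟩ := hD1i _ f (by
    obtain ⟨φ, hφ, hφe⟩ := hf
    exact ⟨φ, hall _ hφ, hφe⟩)
  rw [hs.image_pre hP'] at hg
  refine (mor_iff_hom (f := g) fun y => ?_).1 hg
  obtain ⟨x, hx, hxS, e⟩ := mem_imageAlong.1 ((hs.image_pre hP').ge y.2)
  rw [← toFun_coe φ' y, ← e, hge x hx, he x hx]

end Cfsg.Agent.FusionComponentExists
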