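import Cfsg.Agent.Lib.FusionMeet
import Cfsg.Agent.Lib.FusionComponentExists
import Cfsg.Agent.Lib.FusionCentralizerSub

/-!
A normal subsystem over the whole group of a quasisimple system is all of it
(`quasisimple_le`), so a quasisimple subnormal subsystem lies in every normal subsystem over a
group containing its group (`component_le`); the layer exists (`exists_layer`).
-/

set_option autoImplicit false

namespace Cfsg.Agent.FusionLayer

open Cfsg Cfsg.FusionSystem Cfsg.Agent.FusionSysBasic Cfsg.Agent.FusionSysSaturated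
open Cfsg.Agent.FusionSysNormal Cfsg.Agent.FusionKit88 Cfsg.Agent.FusionMorph88

variable {Ω : Type*} [Group Ω] {S : Subgroup Ω} [Finite S] {F : FusionSystem S} {p : ℕ}

/-- An invariant subsystem over the whole group of saturated systems is normal. -/
theorem normal_of_invariant {E : FusionSystem S} (hE : E.IsSaturated p) (hF : F.IsSaturated p)
    (hi : E.IsInvariantIn F) : E.IsNormalIn F p := by
  refine ⟨⟨hE, hF, hi⟩, fun α hα => ?_⟩
  have hm : Mor F S (afun α) := sub_mor hi.1 ((mem_autGroup le_rfl).1 hα)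
  have hXS : S ⊔ centralizerIn S S ≤ S := sup_le le_rfl inf_le_left
  have hm' := hm.restrict_to hXS
  obtain ⟨β, hβ, hβe⟩ := hm'.exists_aut (hm'.im_self fun x hx =>
    Subgroup.mem_sup_left (afun_mem α (hXS hx)))
  refine ⟨β, hβ, fun x => ?_, fun c hc => ?_⟩
  · rw [← afun_coe, ← afun_coe]
    exact hβe _ (Subgroup.mem_sup_left x.2)
  · rw [← afun_coe, hβe _ c.2]
    obtain ⟨hcS, hcc⟩ := mem_centralizerIn.1 hc
    refine Subgroup.mem_inf.2 ⟨S.mul_mem (S.inv_mem hcS) (afun_mem α hcS), ?_⟩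
    have h2 : ∀ z ∈ S, z * (c : Ω) = (c : Ω) * z := fun z hz => by
      have := hcc z hz
      rw [cj_apply, mul_inv_eq_iff_eq_mul] at this
      exact this.symm
    refine Subgroup.mul_mem _ (Subgroup.inv_mem _ fun z hz => h2 z hz) fun z hz => ?_
    obtain ⟨y, hy, rfl⟩ : ∃ y ∈ S, afun α y = z := ⟨afun α⁻¹ z, afun_mem _ hz, afun_apply_inv α hz⟩
    rw [← hm.map_mul hy hcS, h2 y hy, hm.map_mul hcS hy]

theorem self_normal (hF : F.IsSaturated p) : F.IsNormalIn F p :=
  normal_of_invariant hF hF (FusionMeet.self_invariant F)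

variable [Fact p.Prime]

/-- A normal subsystem over the whole group of a quasisimple system is all of it. -/
theorem quasisimple_le (hS : IsPGroup p S) (hq : F.Quasisimple p) {D₁ : FusionSystem S}
    (hD : D₁.IsNormalIn F p) : F.IsSubsystemOf D₁ := by
  obtain ⟨hF, hhyp, hsimp⟩ := hq
  have hD1s : D₁.IsSaturated p := hD.1.1
  have hI := hD.1.2.2
  have hsubD := hI.1
  set Z := F.center with hZdef
  have hZc : F.IsCentral Z := center_isCentral
  have hZS : Z ≤ S := hZc.1
  have hfix : ∀ {P : Subgroup Ω} {f : Ω → Ω}, Mor F P f → ∀ z ∈ P, z ∈ Z → f z = z := by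
    intro P f hf z hzP hzZ
    obtain ⟨ψ, -, he, hψ⟩ := (isCentral_iff.1 hZc).2 P f hf
    rw [← he z hzP, hψ z hzZ]
  have hcl : ∀ {G : FusionSystem S}, G.IsSubsystemOf F → G.StronglyClosed Z := fun hG =>
    stronglyClosed_iff.2 ⟨hZS, fun P f hP hf x hx => by
      rw [hfix (sub_mor hG hf) x hx (hP hx)]; exact hP hx⟩
  have hZcl : F.StronglyClosed Z := hcl fun _ => subset_rfl
  set q := Z.subgroupOf S with hqdef
  set θ := QuotientGroup.mk' q with hθdef
  let E := S5132.factorSys F Z hZcl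
  have hfacG : ∀ (G : FusionSystem S) (hG : G.StronglyClosed Z),
      G.IsFactorSystem Z θ (S5132.factorSys G Z hG) := fun G hG => ⟨hZS, fun s => by
    rw [← MonoidHom.mem_ker, QuotientGroup.ker_mk', Subgroup.mem_subgroupOf],
    QuotientGroup.range_mk' _, fun P' φ' => Iff.rfl⟩
  let E₁ := S5132.factorSys D₁ Z (hcl hsubD)
  have hfac : F.IsFactorSystem Z θ E := hfacG F hZcl
  have hfac1 : D₁.IsFactorSystem Z θ E₁ := hfacG D₁ _
  have hsurj := S5134.result p hS F hF Z hZcl θ E hfac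
  have hsurj1 := S5134.result p hS D₁ hD1s Z (hcl hsubD) θ E₁ hfac1
  have hEs := saturated_of_surjective hS hF hsurj
  have hrange : ∀ P' : Subgroup (S ⧸ q), P' ≤ θ.range := fun P' =>
    le_top.trans (QuotientGroup.range_mk' q).ge
  have hsub1 : E₁.IsSubsystemOf E := fun P' φ' hφ' => by
    obtain ⟨hP', φ, hφ, hi⟩ := (hfac1.2.2.2 P' φ').1 hφ'
    exact (hfac.2.2.2 P' φ').2 ⟨hP', φ, hsubD _ hφ, hi⟩
  have hpre : preimageAlong θ (⊤ : Subgroup (S ⧸ q)) = S :=
    le_antisymm (preimageAlong_le θ _) fun x hx => mem_preimageAlong.2 ⟨hx, trivial⟩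
  have hinv1 : E₁.IsInvariantIn E := by
    refine FusionIso88.invariant_iff.2 ⟨hsub1,
      stronglyClosed_iff.2 ⟨le_rfl, fun _ _ _ _ _ _ => trivial⟩, fun P' f' hf' a ha => ?_,
      fun P' f' hP' hf' => ?_⟩
    · obtain ⟨-, f, hf, he⟩ := (factor_mor hfac1).1 hf'
      obtain ⟨g, hg, hge⟩ := surjective_mor hsurj ((mem_autGroup le_rfl).1 ha)
      rw [hpre] at hg hge
      obtain ⟨b, hb, hbe⟩ := hg.exists_aut (hg.im_self fun x hx => hg.apply_mem hx)
      obtain ⟨f'', hf'', he''⟩ := morphism_mor hsurj1.1 (FusionWeaklyNormal88.inv_mor hI hf hb)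
      have hval : ∀ y ∈ preimageAlong θ P', afun a (app θ y) = app θ (afun b y) := fun y hy => by
        rw [hge y (hf.le hy), hbe y (hf.le hy)]
      have hsrc : ∀ y' ∈ P', ∃ y ∈ preimageAlong θ P', app θ y = y' := fun y' hy' => by
        obtain ⟨y, hy, -, e⟩ := mem_imageAlong.1 ((imageAlong_preimageAlong (hrange P')).ge hy')
        exact ⟨y, hy, e⟩
      have hm : Mor E P' (afun a) := ((mem_autGroup le_rfl).1 ha).restrict_to le_top
      have hbm := ((mem_autGroup le_rfl).1 hb).restrict_to hf.le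
      refine ⟨f'', hf''.restrict_to fun z hz => ?_, fun x' hx' => ?_⟩
      · obtain ⟨y', hy', rfl⟩ := hm.mem_im.1 hz
        obtain ⟨y, hy, rfl⟩ := hsrc y' hy'
        rw [hval y hy]
        exact app_mem_imageAlong (apply_mem_im hy) hbm.im_le
      · obtain ⟨y, hy, rfl⟩ := hsrc x' hx'
        rw [hval y hy, he'' _ (apply_mem_im hy), he y hy]
        simp only [Function.comp_apply, afun_inv_apply b (hf.le hy)]
        rw [hge _ (hf.apply_mem hy), hbe _ (hf.apply_mem hy)]
    · obtain ⟨-, f, hf, he⟩ := (factor_mor hfac).1 hf'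
      obtain ⟨a, ha, e, he', hfe⟩ :=
        FusionWeaklyNormal88.inv_factor hI (preimageAlong_le θ P') hf
      obtain ⟨e₁, he₁, he₁e⟩ := morphism_mor hsurj1.1 he'
      rw [imageAlong_preimageAlong (hrange P')] at he₁
      obtain ⟨g, hg, hge⟩ := morphism_mor hsurj.1 ((mem_autGroup le_rfl).1 ha)
      have himg : imageAlong θ S = ⊤ :=
        (congrArg (imageAlong θ) hpre).symm.trans (imageAlong_preimageAlong (hrange ⊤))
      rw [himg] at hg
      obtain ⟨a', ha', hae⟩ := hg.exists_aut (hg.im_self fun _ _ => trivial)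
      refine ⟨a', ha', e₁, he₁, fun x' hx' => ?_⟩
      obtain ⟨y, hy, -, rfl⟩ := mem_imageAlong.1 ((imageAlong_preimageAlong (hrange P')).ge hx')
      rw [he y hy, hfe y hy, he₁e y hy, hae _ trivial, hge _ (he'.apply_mem hy)]
  have hN := normal_of_invariant (saturated_of_surjective hS hD1s hsurj1) hEs hinv1
  obtain ⟨-, hne, hsimple⟩ := hsimp E hfac
  rcases hsimple _ _ hN with h | ⟨-, hall⟩
  · exact absurd h hne
  have hcl' : FusionCentralLift.Setup F Z θ E E₁ p := ⟨hS, hF, hZc, hfac, hN⟩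
  -- automorphisms of order prime to `p` of subgroups containing the centre
  have key : ∀ P, P ≤ S → Z ≤ P → ∀ α ∈ F.autGroup P, (orderOf α).Coprime p →
      α ∈ D₁.autGroup P := by
    intro P hP hZP α hα hco
    obtain ⟨g, hg, hge⟩ := morphism_mor hsurj.1 ((mem_autGroup hP).1 hα)
    have hg1 : Mor E₁ (imageAlong θ P) g := by
      obtain ⟨φ, hφ, hφe⟩ := hg
      exact ⟨φ, (hall _).symm ▸ hφ, hφe⟩
    obtain ⟨-, f, hf, hfe⟩ := (factor_mor hfac1).1 hg1
    rw [preimageAlong_imageAlong hP (factor_stronglyClosed hfac ▸ hZP)] at hf hfe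
    have happ : ∀ x ∈ P, app θ (f x) = app θ (afun α x) := fun x hx => by
      rw [← hfe x hx, hge x hx]
    obtain ⟨d, hd, hde⟩ := hf.exists_aut (hf.im_self fun x hx => by
      rw [← preimageAlong_imageAlong hP (factor_stronglyClosed hfac ▸ hZP)]
      refine mem_preimageAlong.2 ⟨hf.apply_mem hx, ?_⟩
      rw [happ x hx]
      exact app_mem_imageAlong (afun_mem α hx) hP)
    have hsubA : D₁.autGroup P ≤ F.autGroup P := fun m hm =>
      (mem_autGroup hP).2 (sub_mor hsubD ((mem_autGroup hP).1 hm))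
    refine FusionMeetKey.mem_of_div_mem (p := p) hsubA (fun a ha n hn => ?_) (hcl'.kerAut_pGroup hP)
      (fun k hk => hk.1) hα hco hd ((hcl'.mem_kerAut hP).2
        ⟨mul_mem hα (inv_mem (hsubA hd)), fun x hx => ?_⟩)
    · have hma := (mem_autGroup hP).1 ha
      have h1 := FusionWeaklyNormal88.aut_transport hI hP hma (im_afun a) hn
      have e : hma.transport (im_afun a) n = a * n * a⁻¹ := afun_ext fun x hx => by
        have h2 := hma.afun_transport (im_afun a) n (afun_mem a⁻¹ hx)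
        rw [afun_apply_inv a hx] at h2
        rw [h2, afun_mul _ _ hx, afun_mul _ _ (afun_mem a⁻¹ hx)]
      exact e ▸ h1
    · rw [afun_mul _ _ hx, ← happ _ (afun_mem _ hx), ← hde _ (afun_mem _ hx), afun_apply_inv d hx]
  intro P φ hφ
  refine (mor_iff_hom (F := D₁) fun x => (toFun_coe φ x).symm).1 ?_
  refine FusionInduct88.induction' hS hF (Φ := fun P f => Mor D₁ P f)
    { congr := fun h he => h.congr he
      conj := fun hP hg => mor_cj hP hg
      comp := fun _ _ _ _ hfQ h1 h2 => h1.comp h2 hfQ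
      inv := fun _ _ _ hgf h1 => by
        obtain ⟨k, hk, hkf, -, -⟩ := h1.exists_inv
        refine hk.congr fun y hy => ?_
        obtain ⟨x, hx, rfl⟩ := h1.mem_im.1 hy
        rw [hkf x hx, hgf x hx] }
    (fun R hR α hα hco => ?_) (mor_toFun hφ)
  obtain ⟨ψ, hψ, hψe, hψZ⟩ := (isCentral_iff.1 hZc).2 R _ ((mem_autGroup hR).1 hα)
  obtain ⟨b, hb, hbe⟩ := hψ.exists_aut (hψ.im_self fun x hx => mor_sup_induction hψ
    (fun y hy => Subgroup.mem_sup_left ((hψe y hy).symm ▸ afun_mem α hy))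
    (fun y hy => Subgroup.mem_sup_right ((hψZ y hy).symm ▸ hy)) hx)
  have hbR : ∀ x ∈ R, afun b x = afun α x := fun x hx => by
    rw [hbe x (Subgroup.mem_sup_left hx), hψe x hx]
  have hbZ : ∀ x ∈ Z, afun b x = afun (1 : MulAut Z) x := fun x hx => by
    rw [hbe x (Subgroup.mem_sup_right hx), hψZ x hx, afun_one hx]
  have hord : b ^ orderOf α = 1 := by
    refine afun_ext fun x hx => ?_
    rw [afun_one hx]
    have hm := (mem_autGroup hψ.le).1 (pow_mem hb (orderOf α))
    have hfixall : ∀ y ∈ R ⊔ Z, afun (b ^ orderOf α) y = y := by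
      intro y hy
      let K : Subgroup Ω :=
        { carrier := {y | y ∈ R ⊔ Z ∧ afun (b ^ orderOf α) y = y}
          one_mem' := ⟨one_mem _, hm.map_one⟩
          mul_mem' := fun {u v} hu hv => ⟨mul_mem hu.1 hv.1, by rw [hm.map_mul hu.1 hv.1, hu.2, hv.2]⟩
          inv_mem' := fun {u} hu => ⟨inv_mem hu.1, by rw [hm.map_inv hu.1, hu.2]⟩ }
      refine ((sup_le (fun u hu => ⟨Subgroup.mem_sup_left hu, ?_⟩) fun u hu =>
        ⟨Subgroup.mem_sup_right hu, ?_⟩ : R ⊔ Z ≤ K) hy).2
      · rw [FusionCentralizerSub.pow_restrict le_sup_left hbR _ u hu, pow_orderOf_eq_one,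
          afun_one hu]
      · rw [FusionCentralizerSub.pow_restrict le_sup_right hbZ _ u hu, one_pow, afun_one hu]
    exact hfixall x hx
  have hbD := key _ hψ.le le_sup_right b hb
    (hco.coprime_dvd_left (orderOf_dvd_of_pow_eq_one hord))
  exact (((mem_autGroup hψ.le).1 hbD).restrict_to le_sup_left).congr hbR

omit [Finite S] [Fact p.Prime] in
theorem le_of_subsystem {T U : Subgroup Ω} {C : FusionSystem T} {D : FusionSystem U}
    (h : C.IsSubsystemOf D) : T ≤ U :=
  (D.le_of_mem (h T (C.conj_mem le_rfl (one_mem T)))).1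

omit [Finite S] [Fact p.Prime] in
/-- A quasisimple subnormal subsystem lies in every normal subsystem over a group containing
its group. -/
theorem component_le {T : Subgroup Ω} {C : FusionSystem T} (h : C.IsSubnormalIn F p) :
    Fact p.Prime → Finite S → IsPGroup p S → C.Quasisimple p →
      ∀ (T₁ : Subgroup Ω) (D₁ : FusionSystem T₁), D₁.IsNormalIn F p → T ≤ T₁ →
        C.IsSubsystemOf D₁ := by
  induction h with
  | refl F' p' =>
    intro hp hfin hS hq T₁ D₁ hD hle
    haveI := hp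
    haveI := hfin
    obtain rfl : T₁ = T := le_antisymm (sub_le hD.1.2.2.1) hle
    exact quasisimple_le hS hq hD
  | @step U S' E D F' p' hsub hn ih =>
    intro hp hfin hS hq T₁ D₁ hD hle
    haveI := hp
    haveI := hfin
    obtain ⟨M, ⟨-, hMD, hMD1⟩, -⟩ :=
      (⟨hS, hn.1.2.1, hn, hD⟩ : FusionMeet.Setup F' D D₁ p').exists_meet
    have hUS : U ≤ S' := sub_le hn.1.2.2.1
    haveI := finite_of_le hUS
    have h1 := ih hp inferInstance (hS.to_le hUS) hq _ M hMD (le_inf (subnormal_le hsub) hle)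
    exact fun P => (h1 P).trans (hMD1.1.2.2.1 P)

/-- The layer exists. -/
theorem exists_layer (hS : IsPGroup p S) (hF : F.IsSaturated p) :
    ∃ (T : Subgroup Ω) (E : FusionSystem T), E.IsLayerOf F p := by
  classical
  let All : ∀ {U : Subgroup Ω}, FusionSystem U → Prop := fun {U} E =>
    ∀ (V : Subgroup Ω) (C : FusionSystem V), C.IsComponentIn F p → C.IsSubsystemOf E
  let Cand : ℕ → ℕ → Prop := fun n m => ∃ (U : Subgroup Ω) (E : FusionSystem U),
    E.IsNormalIn F p ∧ All E ∧ Nat.card U = n ∧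
      (FusionComponentExists.mapSet S E).ncard = m
  have hex : ∃ n, ∃ m, Cand n m := ⟨_, _, S, F, self_normal hF,
    fun V C hC => FusionComponentExists.subnormal_sub hC.1, rfl, rfl⟩
  have hex2 := Nat.find_spec hex
  obtain ⟨T, E, hE, hAll, hTn, hTm⟩ := Nat.find_spec hex2
  have hTS : T ≤ S := sub_le hE.1.2.2.1
  refine ⟨T, E, hE, hAll, fun R D hD hAllD => ?_⟩
  obtain ⟨M, ⟨hMF, hME, hMD⟩, -⟩ :=
    (⟨hS, hF, hE, hD⟩ : FusionMeet.Setup F E D p).exists_meet
  have hMAll : All M := fun V C hC => component_le hC.1 inferInstance inferInstance hS hC.2 _ M hMF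
    (le_inf (le_of_subsystem (hAll V C hC)) (le_of_subsystem (hAllD V C hC)))
  have hTR : T ⊓ R = T := eq_of_le_of_card_ge (S := S) hTS inf_le_left
    (hTn ▸ Nat.find_min' hex ⟨_, _, M, hMF, hMAll, rfl, rfl⟩)
  have h2 : Nat.find hex2 ≤ (FusionComponentExists.mapSet S M).ncard :=
    Nat.find_min' hex2 ⟨_, M, hMF, hMAll, by rw [hTR, hTn], rfl⟩
  have hfin : (FusionComponentExists.mapSet S E).Finite := by
    haveI : Finite {P : Subgroup Ω // P ≤ S} := Set.Finite.to_subtype finite_le_S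
    haveI : ∀ P : {P : Subgroup Ω // P ≤ S}, Finite (P.1 → S) := fun P => by
      haveI := finite_of_le P.2
      infer_instance
    exact Set.toFinite _
  have hle : FusionComponentExists.mapSet S M ⊆ FusionComponentExists.mapSet S E :=
    fun s ⟨φ, hφ, he⟩ => ⟨φ, hME.1.2.2.1 _ hφ, he⟩
  have heq := Set.eq_of_subset_of_ncard_le hle (hTm ▸ h2) hfin
  intro P φ hφ
  obtain ⟨hPT, hφT⟩ := E.le_of_mem hφ
  obtain ⟨ψ, hψ, hψe⟩ := (heq.symm ▸ ⟨φ, hφ, fun _ => rfl⟩ :
    (⟨⟨P, hPT.trans hTS⟩, fun x => ⟨φ x, hTS (hφT x)⟩⟩ :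
      Σ P : {P : Subgroup Ω // P ≤ S}, (P.1 → S)) ∈ FusionComponentExists.mapSet S M)
  exact hMD.1.2.2.1 P ((MonoidHom.ext fun x => hψe x : φ = ψ) ▸ hψ)

end Cfsg.Agent.FusionLayer
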