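import Mathlib
import Cfsg.Agent.Lib.FusionWeaklyNormal88

/-!
The subsystem of index prime to `p` of a weakly normal subsystem is normal: invariance, and the
extension to `T C_S(T)` acting trivially modulo `Z(T)`.
-/

set_option autoImplicit false

namespace Cfsg.Agent.FusionResidualNormal88

open Cfsg Cfsg.FusionSystem Cfsg.Agent.FusionSysBasic Cfsg.Agent.FusionSysSaturated
open Cfsg.Agent.FusionKit88 Cfsg.Agent.FusionPrimeIndex88 Cfsg.Agent.FusCentric
open Cfsg.Agent.FusionWeaklyNormal88 Cfsg.Agent.FusionInduct88 Cfsg.Agent.FusionSysNormal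

variable {Ω : Type*} [Group Ω] {S T : Subgroup Ω} {F : FusionSystem S} {E : FusionSystem T}
  {p : ℕ}

/-! ### Invariance -/

theorem aut_mor_T (hTS : T ≤ S) {a : MulAut T} (ha : a ∈ F.autGroup T) {P : Subgroup Ω}
    (hP : P ≤ T) : Mor F P (afun a) :=
  ((mem_autGroup hTS).1 ha).restrict_to hP

theorem e0_invariant_F (hE : E.IsInvariantIn F) {P : Subgroup Ω} {f : Ω → Ω}
    (h : Mor (E0 E p) P f) {a : MulAut T} (ha : a ∈ F.autGroup T) :
    Mor (E0 E p) (im P (afun a)) (afun a ∘ f ∘ afun a⁻¹) := by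
  have hTS := sub_le hE.1
  let Φ : Subgroup Ω → (Ω → Ω) → Prop := fun P f => P ≤ T ∧ ∀ γ ∈ F.autGroup T,
    Mor (E0 E p) (im P (afun γ)) (afun γ ∘ f ∘ afun γ⁻¹)
  have hc : Closed E (U := T) Φ :=
    { congr := fun {P f g} h he => ⟨h.1, fun γ hγ => by
        refine (h.2 γ hγ).congr fun y hy => ?_
        obtain ⟨x, hx, rfl⟩ := (aut_mor_T hTS hγ h.1).mem_im.1 hy
        simp only [Function.comp_apply, afun_inv_apply γ (h.1 hx), he x hx]⟩
      conj := fun {P g} hP hg => ⟨hP, fun γ hγ => by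
        have hm := aut_mor_T hTS hγ hP
        refine (mor_cj (F := E0 E p) (im_le_iff.2 fun x hx => afun_mem γ (hP hx))
          (afun_mem γ hg)).congr fun y hy => ?_
        obtain ⟨x, hx, rfl⟩ := hm.mem_im.1 hy
        simp only [Function.comp_apply, afun_inv_apply γ (hP hx)]
        exact (((mem_autGroup hTS).1 hγ).map_cj hg (hP hx)).symm⟩
      comp := fun {P Q f g} hf _ hP _ hfQ ⟨_, h1⟩ ⟨_, h2⟩ => ⟨hP, fun γ hγ => by
        have hm := aut_mor_T hTS hγ hP
        refine ((h1 γ hγ).comp (h2 γ hγ) fun y hy => ?_).congr fun y hy => ?_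
        · obtain ⟨x, hx, rfl⟩ := hm.mem_im.1 hy
          simp only [Function.comp_apply, afun_inv_apply γ (hP hx)]
          exact apply_mem_im (hfQ x hx)
        · obtain ⟨x, hx, rfl⟩ := hm.mem_im.1 hy
          simp only [Function.comp_apply, afun_inv_apply γ (hP hx),
            afun_inv_apply γ (hf.apply_mem hx)]⟩
      inv := fun {P f g} hf _ hP hgf ⟨_, h1⟩ => ⟨hf.im_le, fun γ hγ => by
        have hm := aut_mor_T hTS hγ hP
        have hm' := aut_mor_T hTS hγ hf.im_le
        obtain ⟨k, hk, hkf, -, -⟩ := (h1 γ hγ).exists_inv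
        have e : im (im P (afun γ)) (afun γ ∘ f ∘ afun γ⁻¹) = im (im P f) (afun γ) := by
          rw [hm.im_comp, hf.im_comp]
          exact im_congr fun x hx => by
            simp only [Function.comp_apply, afun_inv_apply γ (hP hx)]
        rw [e] at hk
        refine hk.congr fun y hy => ?_
        obtain ⟨z, hz, rfl⟩ := hm'.mem_im.1 hy
        obtain ⟨x, hx, rfl⟩ := hf.mem_im.1 hz
        simp only [Function.comp_apply, afun_inv_apply γ (hf.apply_mem hx), hgf x hx]
        have := hkf _ (apply_mem_im (f := afun γ) hx)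
        simpa only [Function.comp_apply, afun_inv_apply γ (hP hx)] using this⟩ }
  have hgen : Gen E (subSystem le_rfl hc) p := by
    intro R hR m hm hk
    have hmm := (mem_autGroup hR).1 hm
    refine mor_subSystem.2 ⟨hmm, hR, fun x hx => hmm.apply_mem hx, hR, fun γ hγ => ?_⟩
    have hg := aut_mor_T hTS hγ hR
    have h1 := gen_e0 (p := p) (im R (afun γ)) (im_le_iff.2 fun x hx => afun_mem γ (hR hx))
      (hg.transport rfl m) (aut_transport hE hR hg rfl hm) (by rwa [MulEquiv.orderOf_eq])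
    refine h1.congr fun y hy => ?_
    obtain ⟨x, hx, rfl⟩ := hg.mem_im.1 hy
    rw [hg.afun_transport rfl m hx]
    simp only [Function.comp_apply, afun_inv_apply γ (hR hx)]
  exact (mor_subSystem.1 (e0_min hgen h)).2.2.2.2 a ha

theorem a0_conj_F (hE : E.IsInvariantIn F) {γ a : MulAut T} (hγ : γ ∈ F.autGroup T)
    (ha : a ∈ A0 E p) : γ * a * γ⁻¹ ∈ A0 E p := by
  have hTS := sub_le hE.1
  have hle : A0 E p ≤ (A0 E p).comap (MulAut.conj γ).toMonoidHom := by
    refine (Subgroup.closure_le _).2 ?_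
    rintro b ⟨hb, P, hP, h⟩
    have hg := aut_mor_T hTS hγ hP.1
    have h1 := inv_mor hE ((mem_autGroup le_rfl).1 hb) hγ
    rw [im_afun] at h1
    have hval : ∀ y ∈ T, afun (γ * b * γ⁻¹) y = afun γ (afun b (afun γ⁻¹ y)) := fun y hy => by
      rw [afun_mul _ _ hy, afun_mul _ _ (afun_mem γ⁻¹ hy)]
    refine mem_a0 (centric_image hE hP hg)
      (mem_autGroup_of_mor (h1.congr fun y hy => (hval y hy).symm))
      ((e0_invariant_F hE h hγ).congr fun y hy => (hval y ?_).symm)
    obtain ⟨x, hx, rfl⟩ := hg.mem_im.1 hy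
    exact afun_mem γ (hP.1 hx)
  exact hle ha

variable [Finite S] [Fact p.Prime]

/-- The residual system of a weakly normal subsystem is invariant. -/
theorem invariant_EH (hS : IsPGroup p S) (hE : E.IsWeaklyNormalIn F p) {D : FusionSystem T}
    (hD : ∀ P f, Mor D P f ↔ Mor (EH E p (A0 E p)) P f) : D.IsInvariantIn F := by
  have hTS := sub_le hE.2.2.1
  have := finite_of_le hTS
  have hTp := hS.to_le hTS
  refine FusionIso88.invariant_iff.2 ⟨fun P φ hφ => (mor_iff_hom fun x => (toFun_coe φ x).symm).1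
    (sub_mor hE.2.2.1 (eh_le ((hD _ _).1 (mor_toFun hφ)))), hE.2.2.2.1,
    fun P f hf α hα => ?_, fun P f hP hf => ?_⟩
  · obtain ⟨b, hb, -, e, he, hfe⟩ := mor_EH.1 ((hD _ _).1 hf)
    have h1 := e0_invariant_F hE.2.2 he hα
    have hc := a0_conj_F hE.2.2 hα hb
    refine ⟨_, (hD _ _).2 (mor_EH.2 ⟨_, hc, a0_le hc, _, h1, fun y _ => rfl⟩), fun x hx => ?_⟩
    have hxT := hf.le hx
    have hex := he.apply_mem hx
    simp only [Function.comp_apply, afun_inv_apply α hxT]
    rw [afun_mul _ _ (afun_mem α hex), afun_mul _ _ (afun_mem α⁻¹ (afun_mem α hex)),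
      afun_inv_apply α hex, hfe x hx]
  · obtain ⟨α, hα, e1, he1, hfe⟩ := inv_factor hE.2.2 hP hf
    obtain ⟨β, hβ, e, he, he1e⟩ := e0_factor hTp hE.1 he1
    refine ⟨α * β, mul_mem hα (mem_autGroup_of_mor (sub_mor hE.2.2.1 ((mem_autGroup le_rfl).1 hβ))),
      e, (hD _ _).2 (eh_of_e0 he), fun x hx => ?_⟩
    rw [hfe x hx, he1e x hx, afun_mul _ _ (he.apply_mem hx)]

/-! ### Maps trivial on `C_S(T)` modulo their image -/

/-- `f` extends to `P C_S(T)` acting trivially on `C_S(T)` modulo its image. -/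
def Good (F : FusionSystem S) (T P : Subgroup Ω) (f : Ω → Ω) : Prop :=
  ∃ g, Mor F (P ⊔ centralizerIn S T) g ∧ (∀ x ∈ P, g x = f x) ∧
    ∀ c ∈ centralizerIn S T, c⁻¹ * g c ∈ im P f

omit [Finite S] [Fact p.Prime] in
theorem good_congr {P : Subgroup Ω} {f f' : Ω → Ω} (h : Good F T P f) (he : ∀ x ∈ P, f x = f' x) :
    Good F T P f' := by
  obtain ⟨g, hg, hge, hgc⟩ := h
  exact ⟨g, hg, fun x hx => (hge x hx).trans (he x hx), im_congr he ▸ hgc⟩

omit [Finite S] [Fact p.Prime] in
theorem good_comp {P : Subgroup Ω} {f f' : Ω → Ω} (h : Good F T P f)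
    (h' : Good F T (im P f) f') : Good F T P (f' ∘ f) := by
  obtain ⟨g, hg, hge, hgc⟩ := h
  obtain ⟨g', hg', hge', hgc'⟩ := h'
  have hmem : ∀ x ∈ P ⊔ centralizerIn S T, g x ∈ im P f ⊔ centralizerIn S T := fun x hx => by
    refine mor_sup_induction hg (fun a ha => Subgroup.mem_sup_left (hge a ha ▸ apply_mem_im ha))
      (fun c hc => ?_) hx
    have := Subgroup.mul_mem _ (Subgroup.mem_sup_right (S := im P f) hc)
      (Subgroup.mem_sup_left (hgc c hc))
    rwa [mul_inv_cancel_left] at this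
  refine ⟨g' ∘ g, hg.comp hg' hmem, fun x hx => ?_, fun c hc => ?_⟩
  · simp only [Function.comp_apply, hge x hx, hge' _ (apply_mem_im hx)]
  · have hz := hgc c hc
    have e : im P (f' ∘ f) = im (im P f) f' := by
      have h1 := hg.restrict_to (le_sup_left : P ≤ P ⊔ centralizerIn S T)
      have h2 : Mor F P f := h1.congr hge
      exact (h2.im_comp f').symm
    rw [e]
    have h3 : g' (g c) = g' c * g' (c⁻¹ * g c) := by
      rw [← hg'.map_mul (Subgroup.mem_sup_right hc) (Subgroup.mem_sup_left hz),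
        mul_inv_cancel_left]
    rw [Function.comp_apply, h3, ← mul_assoc]
    exact mul_mem (hgc' c hc) (hge' _ hz ▸ apply_mem_im hz)

omit [Finite S] [Fact p.Prime] in
theorem good_inv {P : Subgroup Ω} {f f' : Ω → Ω} (h : Good F T P f)
    (hinv : ∀ x ∈ P, f' (f x) = x) : Good F T (im P f) f' := by
  obtain ⟨g, hg, hge, hgc⟩ := h
  obtain ⟨j, hj, hjg, -, -⟩ := hg.exists_inv
  have hP : im P g = im P f := im_congr hge
  have hsub : im P f ⊔ centralizerIn S T ≤ im (P ⊔ centralizerIn S T) g := by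
    refine sup_le (hP ▸ im_mono le_sup_left) fun c hc => ?_
    have := Subgroup.mul_mem _ (apply_mem_im (f := g) (Subgroup.mem_sup_right (S := P) hc))
      (Subgroup.inv_mem _ ((hP ▸ im_mono le_sup_left : im P f ≤ im (P ⊔ centralizerIn S T) g)
        (hgc c hc)))
    simpa using this
  have e : im (im P f) f' = P := by
    have h2 : Mor F P f := (hg.restrict_to le_sup_left).congr hge
    rw [h2.im_comp]
    exact (im_congr hinv).trans (im_id P)
  refine ⟨j, hj.restrict_to hsub, fun y hy => ?_, fun c hc => ?_⟩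
  · obtain ⟨x, hx, rfl⟩ := ((hg.restrict_to le_sup_left).congr hge).mem_im.1 hy
    rw [← hge x hx, hjg x (Subgroup.mem_sup_left hx), hge x hx, hinv x hx]
  · obtain ⟨x, hx, hxz⟩ := ((hg.restrict_to le_sup_left).congr hge).mem_im.1 (hgc c hc)
    have h1 : g (c * x⁻¹) = c := by
      rw [hg.map_mul (Subgroup.mem_sup_right hc) (Subgroup.mem_sup_left (inv_mem hx)),
        hg.map_inv (Subgroup.mem_sup_left hx), hge x hx, hxz]
      simp
    have h2 := hjg _ (Subgroup.mul_mem _ (Subgroup.mem_sup_right hc)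
      (Subgroup.mem_sup_left (inv_mem hx)))
    rw [h1] at h2
    rw [h2, e, inv_mul_cancel_left]
    exact inv_mem hx

/-- Every map of `E0` of a weakly normal subsystem is good on the centric subgroups. -/
theorem good_e0 (hS : IsPGroup p S) (hE : E.IsWeaklyNormalIn F p) {P : Subgroup Ω}
    {f : Ω → Ω} (h : Mor (E0 E p) P f) {P' : Subgroup Ω} (hP' : P' ≤ P) (hc : E.IsCentric P') :
    Good F T P' f := by
  have hTS := sub_le hE.2.2.1
  have := finite_of_le hTS
  have hTp := hS.to_le hTS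
  have hinv := hE.2.2
  let Φ : Subgroup Ω → (Ω → Ω) → Prop := fun P f => ∀ P', P' ≤ P → E.IsCentric P' → Good F T P' f
  have hΦ : Closed E (U := T) Φ :=
    { congr := fun {P f g} h he P' hP' hc => good_congr (h P' hP' hc) fun x hx => he x (hP' hx)
      conj := fun {P t} hP ht P' hP' _ => by
        refine ⟨cj t, mor_cj (sup_le ((hP'.trans hP).trans hTS) inf_le_left) (hTS ht),
          fun x _ => rfl, fun c hc => ?_⟩
        have h1 : cj t c = c := by
          rw [cj_apply, (mem_centralizerIn.1 hc).1 |> fun _ => (show t * c = c * t from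
            (Subgroup.mem_centralizer_iff.1 hc.2 t ht)), mul_inv_cancel_right]
        rw [h1, inv_mul_cancel]
        exact one_mem _
      comp := fun {P Q f g} hf _ _ _ hfQ h1 h2 P' hP' hc =>
        good_comp (h1 P' hP' hc) (h2 _ (im_le_iff.2 fun x hx => hfQ x (hP' hx))
          (centric_conj hc (FusionSysBasic.isConj_iff.2 ⟨f, hf.restrict_to hP', rfl⟩)))
      inv := fun {P f g} hf hg _ hgf h1 P' hP' hc => by
        have hg' := hg.restrict_to hP'
        have hP0 : im P' g ≤ P := im_le_iff.2 fun y hy => by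
          obtain ⟨x, hx, rfl⟩ := hf.mem_im.1 (hP' hy)
          rwa [hgf x hx]
        have e0 : im (im P' g) f = P' := by
          rw [hg'.im_comp]
          refine (im_congr fun y hy => ?_).trans (im_id P')
          obtain ⟨x, hx, rfl⟩ := hf.mem_im.1 (hP' hy)
          rw [Function.comp_apply, hgf x hx]
        have h2 := good_inv (f' := g)
          (h1 _ hP0 (centric_conj hc (FusionSysBasic.isConj_iff.2 ⟨g, hg', rfl⟩)))
          (fun x hx => hgf x (hP0 hx))
        rwa [e0] at h2 }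
  have hgen : Gen E (subSystem le_rfl hΦ) p := by
    intro R hR α hα hk
    have hαm := (mem_autGroup hR).1 hα
    refine mor_subSystem.2 ⟨hαm, hR, fun x hx => hαm.apply_mem hx, fun P' hP' hc => ?_⟩
    have hRc := centric_upward hc hP' hR
    obtain ⟨R', hRR', hR'n⟩ := exists_fullyNormalized (F := F) (hR.trans hTS)
    obtain ⟨φ, hφ, hφR'⟩ := FusionSysBasic.isConj_iff.1 hRR'
    have hR'T : R' ≤ T := hφR' ▸ im_le_iff.2 fun x hx => closed_apply hinv.2.1 hφ hR hx
    have hR'E := fullyNormalized_sub hS hE.2.1 hinv.1 hinv.2.1 hR'T hR'n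
    have := finite_autGroup (F := E) R'
    obtain ⟨k, hk⟩ := hk
    obtain ⟨a, ha, haR⟩ := sylIn_absorb
      (K := (Subgroup.zpowers α).map (hφ.transport hφR').toMonoidHom)
      (fullyAutomized_of_fullyNormalized hTp hE.1 hR'E).2
      ((IsPGroup.of_card (n := k) (by rw [Nat.card_zpowers, hk])).map _)
      (Subgroup.map_le_iff_le_comap.2 (Subgroup.zpowers_le.2 (aut_transport hinv hR hφ hφR' hα)))
    obtain ⟨t, ht, htn, hte⟩ := mem_autInducedBy.1 (haR _ ⟨α, Subgroup.mem_zpowers α, rfl⟩)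
    have ham : Mor F R' (afun a) := sub_mor hinv.1 ((mem_autGroup hR'T).1 ha)
    have hψ : Mor F R (afun a ∘ φ) := hφ.comp ham fun x hx => hφR' ▸ apply_mem_im hx
    have hψR' : im R (afun a ∘ φ) = R' := by rw [← hφ.im_comp, hφR', im_afun]
    obtain ⟨ψ, hψm, hψe, hψC⟩ := exists_extension_centralizer
      (receptive_of_fullyNormalized hS hE.2.1 hR'n) hψ hψR'
    have hCR : centralizerIn S T ≤ centralizerIn S R := fun c hc => mem_centralizerIn.2
      ⟨hc.1, fun y hy => (mem_centralizerIn.1 hc).2 y (hR hy)⟩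
    have hψX := hψm.restrict_to (sup_le_sup_left hCR R)
    have hψR : im R ψ = R' := (im_congr hψe).trans hψR'
    obtain ⟨ψi, hψi, hψiψ, -, -⟩ := hψX.exists_inv
    have hR'c : E.IsCentric R' := hφR' ▸ centric_image hinv hRc hφ
    have hz : ∀ c ∈ centralizerIn S T, cj t (ψ c) * (ψ c)⁻¹ ∈ R' := fun c hc => by
      have hy := mem_centralizerIn.1 (hψC c (hCR hc))
      refine hR'c.2 R' (FusionSysBasic.isConj_refl hR'T) (mem_centralizerIn.2 ⟨?_, fun x hx => ?_⟩)
      · have h1 : cj (ψ c) t⁻¹ ∈ T :=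
          closed_apply hinv.2.1 (mor_cj (F := F) hTS hy.1) le_rfl (T.inv_mem ht)
        have := T.mul_mem ht h1
        rwa [cj_apply, ← mul_assoc, ← mul_assoc, ← cj_apply t (ψ c)] at this
      · have hx' : cj t⁻¹ x ∈ R' := cj_mem_of_normalizer (inv_mem htn) hx
        have h1 : cj (cj t (ψ c)) x = x := by
          have h2 : cj t (ψ c) = t * ψ c * t⁻¹ := rfl
          rw [h2, ← cj_cj, ← cj_cj, hy.2 _ hx', cj_cj_inv]
        have h3 : cj (ψ c)⁻¹ x = x := by
          conv_lhs => rw [← hy.2 x hx]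
          exact cj_inv_cj _ _
        rw [← cj_cj, h3, h1]
    have hcjX : ∀ x ∈ im (R ⊔ centralizerIn S T) ψ, cj t x ∈ im (R ⊔ centralizerIn S T) ψ := by
      intro x hx
      obtain ⟨y, hy, rfl⟩ := hψX.mem_im.1 hx
      refine mor_sup_induction (f := cj t ∘ ψ)
        (hψX.comp (mor_cj (F := F) hψX.im_le (hTS ht)) fun w hw => apply_mem_im hw)
        (fun a' ha' => ?_) (fun c hc => ?_) hy
      · have h1 : ψ a' ∈ R' := hψR ▸ apply_mem_im ha'
        exact im_mono le_sup_left (hψR.symm ▸ cj_mem_of_normalizer htn h1)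
      · have h1 : cj t (ψ c) * (ψ c)⁻¹ ∈ im (R ⊔ centralizerIn S T) ψ :=
          im_mono le_sup_left (hψR.symm ▸ hz c hc)
        have := Subgroup.mul_mem _ h1 (apply_mem_im (f := ψ) (Subgroup.mem_sup_right (S := R) hc))
        rwa [inv_mul_cancel_right] at this
    have hG := (hψX.comp (mor_cj (F := F) hψX.im_le (hTS ht)) fun w hw => apply_mem_im hw).comp hψi
      fun x hx => hcjX _ (apply_mem_im hx)
    have hGR : ∀ x ∈ R, ψi (cj t (ψ x)) = afun α x := fun x hx => by
      have hxR : φ x ∈ R' := hφR' ▸ apply_mem_im hx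
      have h1 : cj t (ψ x) = ψ (afun α x) := by
        rw [hψe x hx, hψe _ (afun_mem α hx)]
        simp only [Function.comp_apply]
        rw [← hte _ (afun_mem a hxR), afun_mul _ _ (afun_mem a hxR), afun_inv_apply a hxR,
          afun_mul _ _ hxR]
        simp only [MulEquiv.coe_toMonoidHom, hφ.afun_transport hφR' α hx]
      rw [h1, hψiψ _ (Subgroup.mem_sup_left (afun_mem α hx))]
    have hP'T := hc.1
    refine ⟨ψi ∘ (cj t ∘ ψ), hG.restrict_to (sup_le_sup_right hP' _),
      fun x hx => hGR x (hP' hx), fun c hc' => ?_⟩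
    obtain ⟨w, hw, hwz⟩ := (hψX.restrict_to le_sup_left).mem_im.1 (hψR.symm ▸ hz c hc')
    have hcX : c ∈ R ⊔ centralizerIn S T := Subgroup.mem_sup_right hc'
    have hGc : (ψi ∘ (cj t ∘ ψ)) c = w * c := by
      have h1 : cj t (ψ c) = ψ (w * c) := by
        rw [hψX.map_mul (Subgroup.mem_sup_left hw) hcX, hwz, inv_mul_cancel_right]
      rw [Function.comp_apply, Function.comp_apply, h1,
        hψiψ _ (Subgroup.mul_mem _ (Subgroup.mem_sup_left hw) hcX)]
    have hcw : c * w = w * c := (Subgroup.mem_centralizer_iff.1 hc'.2 w (hR hw)).symm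
    rw [hGc, ← hcw, inv_mul_cancel_left]
    refine (centric_conj hc (FusionSysBasic.isConj_iff.2 ⟨_, hαm.restrict_to hP', rfl⟩)).2 _
      (FusionSysBasic.isConj_refl (hαm.restrict_to hP').im_le)
      (mem_centralizerIn.2 ⟨hR hw, fun y hy => ?_⟩)
    obtain ⟨x, hx, rfl⟩ := (hαm.restrict_to hP').mem_im.1 hy
    have h1 : cj c x = x := (mem_centralizerIn.1 hc').2 x (hP'T hx)
    have h2 := hG.map_cj hcX (Subgroup.mem_sup_left (hP' hx))
    rw [h1, hGc, Function.comp_apply, Function.comp_apply, hGR x (hP' hx), ← cj_cj,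
      (mem_centralizerIn.1 hc').2 _ (hR (afun_mem α (hP' hx)))] at h2
    exact h2.symm
  exact (mor_subSystem.1 (e0_min hgen h)).2.2.2 P' hP' hc

/-! ### From a centric subgroup to `T` -/

/-- An element of `Aut_F(T)` that is good on a centric subgroup has a good `p`-power. -/
theorem pow_good (hS : IsPGroup p S) (hE : E.IsWeaklyNormalIn F p) :
    ∀ (n : ℕ) {Q : Subgroup Ω} {a : MulAut T}, Nat.card T - Nat.card Q ≤ n → E.IsCentric Q →
      a ∈ F.autGroup T → Good F T Q (afun a) → ∃ i, Good F T T (afun (a ^ p ^ i)) := by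
  have hTS := sub_le hE.2.2.1
  have := finite_of_le hTS
  have hTp := hS.to_le hTS
  have hinv := hE.2.2
  intro n
  induction n with
  | zero =>
    intro Q a hn hQ _ h
    obtain rfl := eq_of_le_of_card_ge le_rfl hQ.1 (by omega)
    exact ⟨0, by simpa using h⟩
  | succ n ih =>
    intro Q a hn hQ ha h
    rcases eq_or_lt_of_le hQ.1 with rfl | hlt
    · exact ⟨0, by simpa using h⟩
    set C := centralizerIn S T with hC
    set N := normalizerIn T Q with hN
    have hQN : Q < N := lt_normalizerIn hTp hlt le_rfl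
    have hCcomm : ∀ c ∈ C, ∀ t ∈ T, t * c = c * t := fun c hc t ht =>
      Subgroup.mem_centralizer_iff.1 hc.2 t ht
    -- the extension of `a`
    have hTn : F.IsFullyNormalized T := ⟨hTS, fun R hR => by
      obtain ⟨g, hg, rfl⟩ := FusionSysBasic.isConj_iff.1 hR
      have e : im T g = T := (hg.im_eq_of_le hTS
        (im_le_iff.2 fun x hx => closed_apply hinv.2.1 hg le_rfl hx) le_rfl)
      rw [e]⟩
    have hfcT := fullyCentralized_of_fullyNormalized hS hE.2.1 hTn
    obtain ⟨a', ha', hae, -⟩ := exists_extension_centralizer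
      (receptive_of_fullyNormalized hS hE.2.1 hTn) ((mem_autGroup hTS).1 ha) (im_afun a)
    obtain ⟨A, hA, hAe⟩ := ha'.exists_aut
      (im_xc hfcT hfcT ha' ((im_congr hae).trans (im_afun a)))
    have hTC : T ⊔ C ≤ S := sup_le hTS inf_le_left
    have hAT : ∀ x ∈ T, afun A x = afun a x := fun x hx => by
      rw [hAe x (Subgroup.mem_sup_left hx), hae x hx]
    have hAT' : ∀ x ∈ T, afun A⁻¹ x = afun a⁻¹ x := fun x hx => by
      conv_lhs => rw [← afun_apply_inv a hx, ← hAT _ (afun_mem a⁻¹ hx)]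
      exact afun_inv_apply A (Subgroup.mem_sup_left (afun_mem a⁻¹ hx))
    have hAC : ∀ (B : MulAut ↥(T ⊔ C)) (b : MulAut T), B ∈ F.autGroup (T ⊔ C) →
        (∀ x ∈ T, afun B x = afun b x) → ∀ c ∈ C, afun B c ∈ C := by
      intro B b hB hBe c hc
      refine mem_centralizerIn.2 ⟨((mem_autGroup hTC).1 hB).apply_mem (Subgroup.mem_sup_right hc),
        fun x hx => ?_⟩
      have hx' := afun_mem b⁻¹ hx
      conv_lhs => rw [← afun_apply_inv b hx, ← hBe _ hx']
      rw [← ((mem_autGroup hTC).1 hB).map_cj (Subgroup.mem_sup_right hc)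
        (Subgroup.mem_sup_left hx'), (mem_centralizerIn.1 hc).2 _ hx', hBe _ hx',
        afun_apply_inv b hx]
    have hAC1 : ∀ c ∈ C, afun A c ∈ C := hAC A a hA hAT
    have hAC2 : ∀ c ∈ C, afun A⁻¹ c ∈ C := hAC A⁻¹ a⁻¹ (inv_mem hA) hAT'
    have hApow : ∀ k : ℕ, ∀ x ∈ T, afun (A ^ k) x = afun (a ^ k) x := by
      intro k
      induction k with
      | zero => exact fun x hx => by simp [afun_one hx, afun_one (Subgroup.mem_sup_left hx : x ∈ T ⊔ C)]
      | succ k ihk =>
        intro x hx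
        rw [pow_succ', pow_succ', afun_mul _ _ (Subgroup.mem_sup_left hx), afun_mul _ _ hx,
          ihk x hx, hAT _ (afun_mem _ hx)]
    -- the map on `Q C`
    obtain ⟨g, hg, hge, hgc⟩ := h
    set R := Q ⊔ C with hR
    have hQT := hQ.1
    have hRS : R ≤ S := sup_le (hQT.trans hTS) inf_le_left
    have hgTC : ∀ x ∈ R, g x ∈ T ⊔ C := fun x hx => by
      refine mor_sup_induction hg (fun q hq => Subgroup.mem_sup_left (hge q hq ▸ afun_mem a (hQT hq)))
        (fun c hc => ?_) hx
      have h1 : c⁻¹ * g c ∈ T :=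
        (im_le_iff.2 fun q hq => afun_mem a (hQT hq) : im Q (afun a) ≤ T) (hgc c hc)
      have := Subgroup.mul_mem (T ⊔ C) (Subgroup.mem_sup_right hc) (Subgroup.mem_sup_left h1)
      rwa [mul_inv_cancel_left] at this
    have hδ0 := hg.comp ((mem_autGroup hTC).1 (inv_mem hA)) hgTC
    have hδ0Q : ∀ q ∈ Q, afun A⁻¹ (g q) = q := fun q hq => by
      rw [hge q hq, hAT' _ (afun_mem a (hQT hq)), afun_inv_apply a (hQT hq)]
    have hδ0C : ∀ c ∈ C, ∃ q ∈ Q, afun A⁻¹ (g c) = afun A⁻¹ c * q := fun c hc => by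
      obtain ⟨q, hq, hqe⟩ := ((mem_autGroup hTS).1 ha).restrict_to hQT |>.mem_im.1 (hgc c hc)
      refine ⟨q, hq, ?_⟩
      have h1 : g c = c * afun a q := by rw [hqe, mul_inv_cancel_left]
      rw [h1, ((mem_autGroup hTC).1 (inv_mem hA)).map_mul (Subgroup.mem_sup_right hc)
        (Subgroup.mem_sup_left (afun_mem a (hQT hq))), hAT' _ (afun_mem a (hQT hq)),
        afun_inv_apply a (hQT hq)]
    obtain ⟨δ, hδ, hδe⟩ := hδ0.exists_aut (hδ0.im_self fun x hx =>
      mor_sup_induction hδ0 (fun q hq => by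
          rw [Function.comp_apply, hδ0Q q hq]; exact Subgroup.mem_sup_left hq)
        (fun c hc => by
          obtain ⟨q, hq, hqe⟩ := hδ0C c hc
          rw [Function.comp_apply, hqe]
          exact Subgroup.mul_mem _ (Subgroup.mem_sup_right (hAC2 c hc)) (Subgroup.mem_sup_left hq))
        hx)
    have hδQ : ∀ q ∈ Q, afun δ q = q := fun q hq => by
      rw [hδe q (Subgroup.mem_sup_left hq), Function.comp_apply, hδ0Q q hq]
    have hδQ' : ∀ q ∈ Q, afun δ⁻¹ q = q := fun q hq => by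
      conv_lhs => rw [← hδQ q hq]
      exact afun_inv_apply δ (Subgroup.mem_sup_left hq)
    -- the `p`-group `G`
    let G : Subgroup (MulAut R) :=
      { carrier := {γ | γ ∈ F.autGroup R ∧ (∃ t ∈ T, t ∈ Subgroup.normalizer (Q : Set Ω) ∧
            ∀ q ∈ Q, afun γ q = cj t q) ∧ ∀ x ∈ R, x⁻¹ * afun γ x ∈ Q}
        one_mem' := ⟨one_mem _, ⟨1, one_mem _, one_mem _, fun q hq => by
          rw [afun_one (Subgroup.mem_sup_left hq), cj_one]⟩, fun x hx => by
          rw [afun_one hx, inv_mul_cancel]; exact one_mem _⟩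
        mul_mem' := fun {u v} ⟨hu, ⟨s, hs, hsn, hue⟩, hu'⟩ ⟨hv, ⟨t, ht, htn, hve⟩, hv'⟩ =>
          ⟨mul_mem hu hv, ⟨s * t, mul_mem hs ht, mul_mem hsn htn, fun q hq => by
            rw [afun_mul _ _ (Subgroup.mem_sup_left hq), hve q hq,
              hue _ (cj_mem_of_normalizer htn hq), cj_cj]⟩, fun x hx => by
            rw [afun_mul _ _ hx]
            have h1 := mul_mem (hv' x hx) (hu' _ (afun_mem v hx))
            rwa [mul_assoc, mul_inv_cancel_left] at h1⟩
        inv_mem' := fun {u} ⟨hu, ⟨s, hs, hsn, hue⟩, hu'⟩ =>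
          ⟨inv_mem hu, ⟨s⁻¹, inv_mem hs, inv_mem hsn, fun q hq => by
            have hq' := cj_mem_of_normalizer (inv_mem hsn) hq
            have h1 := hue _ hq'
            rw [cj_cj_inv] at h1
            conv_lhs => rw [← h1]
            exact afun_inv_apply u (Subgroup.mem_sup_left hq')⟩, fun x hx => by
            have h1 := inv_mem (hu' _ (afun_mem u⁻¹ hx))
            rwa [afun_apply_inv u hx, mul_inv_rev, inv_inv] at h1⟩ }
    have hGp : IsPGroup p G := by
      intro γ
      obtain ⟨hγF, ⟨t, ht, htn, hγe⟩, -⟩ := γ.2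
      obtain ⟨j, hj⟩ := IsPGroup.iff_card.1 hS
      refine ⟨j + j, Subtype.ext ?_⟩
      rw [Subgroup.coe_pow, Subgroup.coe_one, pow_add, pow_mul]
      have ht1 : t ^ p ^ j = 1 := by
        rw [← hj]
        exact congrArg Subtype.val (pow_card_eq_one' (x := (⟨t, hTS ht⟩ : S)))
      have hpow : ∀ k : ℕ, ∀ q ∈ Q, afun ((γ : MulAut R) ^ k) q = cj (t ^ k) q := by
        intro k
        induction k with
        | zero => exact fun q hq => by simp [afun_one (Subgroup.mem_sup_left hq : q ∈ R), cj_one]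
        | succ k ihk =>
          intro q hq
          rw [pow_succ', pow_succ', afun_mul _ _ (Subgroup.mem_sup_left hq), ihk q hq,
            hγe _ (cj_mem_of_normalizer (pow_mem htn k) hq), cj_cj]
      have hfix : ∀ q ∈ Q, afun ((γ : MulAut R) ^ p ^ j) q = q := fun q hq => by
        rw [hpow _ q hq, ht1, cj_one]
      obtain ⟨-, -, hu'⟩ := pow_mem γ.2 (p ^ j)
      generalize ((γ : MulAut R) ^ p ^ j) = u at hfix hu' ⊢
      refine afun_ext fun x hx => ?_
      have hk : ∀ k : ℕ, afun (u ^ k) x = x * (x⁻¹ * afun u x) ^ k := by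
        intro k
        induction k with
        | zero => simp [afun_one hx]
        | succ k ihk =>
          have hq := Q.pow_mem (hu' x hx) k
          rw [pow_succ', afun_mul _ _ hx, ihk, afun_map_mul u hx (Subgroup.mem_sup_left hq),
            hfix _ hq, pow_succ', ← mul_assoc x, mul_inv_cancel_left]
      rw [hk, afun_one hx]
      have h1 : (x⁻¹ * afun u x) ^ p ^ j = 1 := by
        rw [← hj]
        exact congrArg Subtype.val
          (pow_card_eq_one' (x := (⟨_, (hQT.trans hTS) (hu' x hx)⟩ : S)))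
      rw [h1, mul_one]
    have hQn : ∀ n ∈ N, ∀ x ∈ R, x⁻¹ * cj n x ∈ Q ∧ cj n x ∈ R := by
      intro n hn x hx
      have hxQ : x ∈ (Q ⊔ C : Subgroup Ω) := hx
      refine (Subgroup.closure_induction (p := fun x _ => x⁻¹ * cj n x ∈ Q ∧ x ∈ R)
        (k := (Q : Set Ω) ∪ (C : Set Ω)) ?_ ⟨by simp [cj_apply], one_mem _⟩ ?_ ?_ ?_).imp_right
          fun hxR => ?_
      · rintro y (hy | hy)
        · exact ⟨mul_mem (inv_mem hy) (cj_mem_of_normalizer hn.2 hy), Subgroup.mem_sup_left hy⟩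
        · exact ⟨by rw [cj_apply, hCcomm y hy n hn.1, mul_inv_cancel_right, inv_mul_cancel]; exact one_mem _,
            Subgroup.mem_sup_right hy⟩
      · rintro y z - - ⟨hy, hyR⟩ ⟨hz, hzR⟩
        refine ⟨?_, mul_mem hyR hzR⟩
        have hzn : z⁻¹ ∈ Subgroup.normalizer (Q : Set Ω) :=
          inv_mem ((sup_le Subgroup.le_normalizer fun c hc => mem_normalizer_of_cj_le
            (hQT.trans hTS) fun q hq => by rwa [(mem_centralizerIn.1 hc).2 q (hQT hq)] :
              R ≤ Subgroup.normalizer (Q : Set Ω)) hzR)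
        have h1 := mul_mem (cj_mem_of_normalizer hzn hy) hz
        simpa [cj_apply, mul_assoc] using h1
      · rintro y - ⟨hy, hyR⟩
        refine ⟨?_, inv_mem hyR⟩
        have hyn : y ∈ Subgroup.normalizer (Q : Set Ω) :=
          (sup_le Subgroup.le_normalizer fun c hc => mem_normalizer_of_cj_le
            (hQT.trans hTS) fun q hq => by rwa [(mem_centralizerIn.1 hc).2 q (hQT hq)] :
              R ≤ Subgroup.normalizer (Q : Set Ω)) hyR
        have h1 := cj_mem_of_normalizer hyn (inv_mem hy)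
        simpa [cj_apply, mul_assoc] using h1
      · rw [← Subgroup.sup_eq_closure]; exact hxQ
      · have hm := mor_cj (F := F) hRS (hTS hn.1)
        refine mor_sup_induction hm (fun q hq => Subgroup.mem_sup_left (cj_mem_of_normalizer hn.2 hq))
          (fun c hc => ?_) hx
        rw [cj_apply, hCcomm c hc n hn.1, mul_inv_cancel_right]
        exact Subgroup.mem_sup_right hc
    have hRn : N ≤ Subgroup.normalizer (R : Set Ω) := fun n hn =>
      mem_normalizer_of_cj_le hRS fun x hx => (hQn n hn x hx).2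
    have hNG : ∀ (n : Ω) (hn : n ∈ N), nHom S R ⟨n, hTS hn.1, hRn hn⟩ ∈ G := fun n hn =>
      ⟨autInducedBy_le hRS ((autInducedBy_eq_range S R).ge ⟨_, rfl⟩),
        ⟨n, hn.1, hn.2, fun q hq => afun_nHom _ (Subgroup.mem_sup_left hq)⟩,
        fun x hx => by rw [afun_nHom _ hx]; exact (hQn n hn x hx).1⟩
    have hδG : ∀ γ ∈ G, δ * γ * δ⁻¹ ∈ G := by
      rintro γ ⟨hγF, ⟨t, ht, htn, hγe⟩, hγ'⟩
      refine ⟨mul_mem (mul_mem hδ hγF) (inv_mem hδ), ⟨t, ht, htn, fun q hq => ?_⟩, fun x hx => ?_⟩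
      · rw [afun_mul _ _ (Subgroup.mem_sup_left hq),
          afun_mul _ _ (afun_mem _ (Subgroup.mem_sup_left hq)), hδQ' q hq, hγe q hq,
          hδQ _ (cj_mem_of_normalizer htn hq)]
      · have hy := afun_mem δ⁻¹ hx
        have hyq := hγ' _ hy
        rw [afun_mul _ _ hx, afun_mul _ _ hy]
        have e : x⁻¹ = afun δ (afun δ⁻¹ x)⁻¹ := by
          rw [((mem_autGroup hRS).1 hδ).map_inv hy, afun_apply_inv δ hx]
        rw [e, ← afun_map_mul δ (inv_mem hy) (afun_mem γ hy), hδQ _ hyq]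
        exact hyq
    -- move `R` to a fully normalized subgroup
    obtain ⟨R', hRR', hR'n⟩ := exists_fullyNormalized (F := F) hRS
    obtain ⟨φ, hφ, hφR'⟩ := FusionSysBasic.isConj_iff.1 hRR'
    have := finite_autGroup (F := F) R'
    obtain ⟨b, hb, hbR⟩ := sylIn_absorb (K := G.map (hφ.transport hφR').toMonoidHom)
      (fullyAutomized_of_fullyNormalized hS hE.2.1 hR'n).2 (hGp.map _)
      (hφ.map_transport hφR' ▸ Subgroup.map_mono fun γ hγ => hγ.1)
    set ψ0 := afun b ∘ φ with hψ0def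
    have hψ0 : Mor F R ψ0 :=
      hφ.comp ((mem_autGroup hR'n.1).1 hb) fun x hx => hφR' ▸ apply_mem_im hx
    have hψ0R : im R ψ0 = R' := by rw [hψ0def, ← hφ.im_comp, hφR', im_afun]
    have habs : ∀ γ ∈ G, ∃ h ∈ S, ∀ x ∈ R, ψ0 (afun γ x) = cj h (ψ0 x) := by
      intro γ hγ
      obtain ⟨h, hh, -, he⟩ := mem_autInducedBy.1 (hbR _ ⟨γ, hγ, rfl⟩)
      refine ⟨h, hh, fun x hx => ?_⟩
      have hxR : φ x ∈ R' := hφR' ▸ apply_mem_im hx
      show afun b (φ (afun γ x)) = cj h (afun b (φ x))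
      rw [← he _ (afun_mem b hxR), afun_mul _ _ (afun_mem b hxR), afun_inv_apply b hxR,
        afun_mul _ _ hxR]
      simp only [MulEquiv.coe_toMonoidHom, hφ.afun_transport hφR' γ hx]
    have hrec := (receptive_iff.1 (receptive_of_fullyNormalized hS hE.2.1 hR'n)).2
    obtain ⟨ψ, hψ, hψe⟩ := hrec R ψ0 N hψ0 hψ0R (inf_le_left.trans hTS) hRn fun n hn => by
      obtain ⟨h, hh, he⟩ := habs _ (hNG n hn)
      refine ⟨h, hh, fun x hx => ?_⟩
      rw [← he x hx, afun_nHom _ hx]
    have hψR : im R ψ = R' := (im_congr hψe).trans hψ0R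
    have hψN := hψ.restrict_to (le_sup_right : N ≤ R ⊔ N)
    have hψT : im N ψ ≤ T := im_le_iff.2 fun n hn => closed_apply hinv.2.1 hψN inf_le_left hn
    have hQc' : E.IsCentric (im Q ψ) :=
      centric_image hinv hQ (hψ.restrict_to (le_sup_left.trans le_sup_left))
    have hδ1 : Mor F R' (afun (hψ0.transport hψ0R δ)) :=
      (mem_autGroup hR'n.1).1 (hψ0.transport_mem hψ0R hδ)
    have hN' : im N ψ ≤ Subgroup.normalizer (R' : Set Ω) := im_le_iff.2 fun n hn => by
      rw [← hψR]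
      exact apply_normalizes hψ le_sup_left (Subgroup.mem_sup_right hn) (hRn hn)
    have hcond : ∀ (n : Ω) (hn : n ∈ N), ∀ x ∈ R, afun (hψ0.transport hψ0R δ) (cj (ψ n) (ψ0 x)) =
        ψ0 (afun (δ * nHom S R ⟨n, hTS hn.1, hRn hn⟩ * δ⁻¹) (afun δ x)) := by
      intro n hn x hx
      rw [afun_mul _ _ (afun_mem δ hx), afun_inv_apply δ hx, afun_mul _ _ hx, afun_nHom _ hx,
        ← hψe x hx, ← hψ.map_cj (Subgroup.mem_sup_right hn) (Subgroup.mem_sup_left hx),
        hψe _ (hQn n hn x hx).2, hψ0.afun_transport hψ0R δ (hQn n hn x hx).2]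
    obtain ⟨δ1, hδ1m, hδ1e⟩ := hrec R' _ (im N ψ) hδ1 (im_afun _) hψN.im_le hN' fun g' hg' => by
      obtain ⟨n, hn, rfl⟩ := hψN.mem_im.1 hg'
      obtain ⟨h, hh, he⟩ := habs _ (hδG _ (hNG n hn))
      refine ⟨h, hh, fun y hy => ?_⟩
      obtain ⟨x, hx, rfl⟩ := hψ0.mem_im.1 (hψ0R.symm ▸ hy)
      rw [hcond n hn x hx, he _ (afun_mem δ hx), hψ0.afun_transport hψ0R δ hx]
    have hδ1N : ∀ n ∈ N, δ1 (ψ n) ∈ im N ψ := by
      intro n hn
      have hnR' : ψ n ∈ R' ⊔ im N ψ := Subgroup.mem_sup_right (apply_mem_im hn)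
      have htT : δ1 (ψ n) ∈ T :=
        closed_apply' hinv.2.1 hδ1m hnR' (hψT (apply_mem_im hn))
      obtain ⟨-, ⟨m, hm, hmn, hme⟩, -⟩ := hδG _ (hNG n hn)
      have hmN : m ∈ N := ⟨hm, hmn⟩
      have hz : (ψ m)⁻¹ * δ1 (ψ n) ∈ im Q ψ := by
        refine hQc'.2 _ (FusionSysBasic.isConj_refl hQc'.1) (mem_centralizerIn.2
          ⟨T.mul_mem (T.inv_mem (hψT (apply_mem_im hmN))) htT, fun y hy => ?_⟩)
        obtain ⟨q, hq, rfl⟩ := (hψ.restrict_to (le_sup_left.trans le_sup_left)).mem_im.1 hy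
        have hqR : q ∈ R := Subgroup.mem_sup_left hq
        have h1 : cj (δ1 (ψ n)) (ψ q) = cj (ψ m) (ψ q) := by
          have hqR' : ψ0 q ∈ R' := hψ0R ▸ apply_mem_im hqR
          have hcR' : cj (ψ n) (ψ0 q) ∈ R' :=
            cj_mem_of_normalizer (hN' (apply_mem_im hn)) hqR'
          have h2 : δ1 (ψ0 q) = ψ0 q := by
            rw [hδ1e _ hqR', hψ0.afun_transport hψ0R δ hqR, hδQ q hq]
          rw [hψe q hqR]
          conv_lhs => rw [← h2]
          rw [← hδ1m.map_cj hnR' (Subgroup.mem_sup_left hqR'), hδ1e _ hcR', hcond n hn q hqR,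
            hδQ q hq, hme q hq, ← hψe q hqR,
            ← hψ.map_cj (Subgroup.mem_sup_right hmN) (Subgroup.mem_sup_left hqR),
            hψe _ (Subgroup.mem_sup_left (cj_mem_of_normalizer hmn hq))]
        rw [← cj_cj, h1, cj_inv_cj]
      have := Subgroup.mul_mem _ (apply_mem_im (f := ψ) hmN) (im_mono hQN.le hz)
      rwa [mul_inv_cancel_left] at this
    -- back to `R N`
    set M := R ⊔ N with hM
    have hψM : im M ψ = R' ⊔ im N ψ := by rw [hM, im_sup hψ, hψR]
    obtain ⟨ψi, hψi, hψiψ, hψψi, -⟩ := hψ.exists_inv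
    rw [hψM] at hψi hψψi
    have hδψ : ∀ x ∈ M, δ1 (ψ x) ∈ R' ⊔ im N ψ := fun x hx => by
      refine mor_sup_induction (f := δ1 ∘ ψ)
        (hψ.comp hδ1m fun y hy => hψM ▸ apply_mem_im hy) (fun r hr => ?_)
        (fun m hm => Subgroup.mem_sup_right (hδ1N m hm)) hx
      have h1 : ψ r ∈ R' := hψR ▸ apply_mem_im hr
      rw [Function.comp_apply, hδ1e _ h1]
      exact Subgroup.mem_sup_left (afun_mem _ h1)
    have hδ'0 := (hψ.comp hδ1m fun y hy => hψM ▸ apply_mem_im hy).comp hψi hδψ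
    have hδ'R : ∀ x ∈ R, ψi (δ1 (ψ x)) = afun δ x := fun x hx => by
      have h1 : ψ x ∈ R' := hψR ▸ apply_mem_im hx
      rw [hδ1e _ h1, hψe x hx, hψ0.afun_transport hψ0R δ hx, ← hψe _ (afun_mem δ hx),
        hψiψ _ (Subgroup.mem_sup_left (afun_mem δ hx))]
    have hδ'N : ∀ n ∈ N, ψi (δ1 (ψ n)) ∈ N := fun n hn => by
      obtain ⟨m, hm, hme⟩ := hψN.mem_im.1 (hδ1N n hn)
      rw [← hme, hψiψ m (Subgroup.mem_sup_right hm)]
      exact hm
    obtain ⟨δ', hδ'F, hδ'e⟩ := hδ'0.exists_aut (hδ'0.im_self fun x hx =>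
      mor_sup_induction hδ'0 (fun r hr => by
          rw [Function.comp_apply, Function.comp_apply, hδ'R r hr]
          exact Subgroup.mem_sup_left (afun_mem δ hr))
        (fun m hm => Subgroup.mem_sup_right (hδ'N m hm)) hx)
    have hMS : M ≤ S := hψ.le
    have hMTC : M ≤ T ⊔ C := sup_le (sup_le_sup_right hQT C) (inf_le_left.trans le_sup_left)
    -- the restriction to `N`
    obtain ⟨ν, hν, hνe⟩ := ((mem_autGroup hMS).1 hδ'F).restrict_to le_sup_right |>.exists_aut
      ((((mem_autGroup hMS).1 hδ'F).restrict_to le_sup_right).im_self fun x hx => by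
        rw [hδ'e x (Subgroup.mem_sup_right hx)]; exact hδ'N x hx)
    have hνQ : ∀ q ∈ Q, afun ν q = q := fun q hq => by
      rw [hνe q (hQN.le hq), hδ'e q (Subgroup.mem_sup_right (hQN.le hq))]
      simp only [Function.comp_apply, hδ'R q (Subgroup.mem_sup_left hq), hδQ q hq]
    obtain ⟨i, hi⟩ := exists_pow_eq_one hS (pow_card_eq_one_of_fixes (inf_le_left.trans hTS)
      hQN.le inf_le_right (hQ.2 Q (FusionSysBasic.isConj_refl hQT)) inf_le_left hνQ)
    have hνpow : ∀ k : ℕ, ∀ x ∈ N, afun (δ' ^ k) x = afun (ν ^ k) x := by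
      intro k
      induction k with
      | zero => exact fun x hx => by simp [afun_one hx, afun_one (Subgroup.mem_sup_right hx : x ∈ M)]
      | succ k ihk =>
        intro x hx
        rw [pow_succ', pow_succ', afun_mul _ _ (Subgroup.mem_sup_right hx), afun_mul _ _ hx,
          ihk x hx, ← hνe _ (afun_mem _ hx)]
    -- the powers
    have hstep : ∀ k : ℕ, ∃ d, Mor F M d ∧ (∀ x ∈ M, d x ∈ T ⊔ C) ∧
        (∀ c ∈ C, c⁻¹ * d c ∈ im N d) ∧ ∀ x ∈ M, afun (A ^ k) (afun (δ' ^ k) x) = d x := by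
      intro k
      induction k with
      | zero => exact ⟨fun x => x, mor_id hMS, fun x hx => hMTC hx,
          fun c _ => by simp, fun x hx => by
          simp [afun_one hx, afun_one (hMTC hx)]⟩
      | succ k ihk =>
        obtain ⟨d, hd, hdT, hdc, hde⟩ := ihk
        have hd' := ((mem_autGroup hMS).1 hδ'F).comp hd fun x hx => afun_mem δ' hx
        have hd'' := hd'.comp ((mem_autGroup hTC).1 hA) fun x hx => hdT _ (afun_mem δ' hx)
        refine ⟨_, hd'', fun x hx => afun_mem A (hdT _ (afun_mem δ' hx)), fun c hc => ?_,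
          fun x hx => ?_⟩
        · obtain ⟨q, hq, hqe⟩ := hδ0C c hc
          have hc' : afun A⁻¹ c ∈ C := hAC2 c hc
          have hdx : afun δ' c = afun A⁻¹ c * q := by
            rw [hδ'e c (Subgroup.mem_sup_left (Subgroup.mem_sup_right hc))]
            simp only [Function.comp_apply, hδ'R c (Subgroup.mem_sup_right hc),
              hδe c (Subgroup.mem_sup_right hc), hqe]
          have hqN : q ∈ N := hQN.le hq
          have hcM : afun A⁻¹ c ∈ M := Subgroup.mem_sup_left (Subgroup.mem_sup_right hc')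
          have hqM : q ∈ M := Subgroup.mem_sup_right hqN
          have hw : (afun A⁻¹ c)⁻¹ * d (afun A⁻¹ c * q) ∈ im N d := by
            rw [hd.map_mul hcM hqM, ← mul_assoc]
            exact mul_mem (hdc _ hc') (apply_mem_im hqN)
          have hwT : (afun A⁻¹ c)⁻¹ * d (afun A⁻¹ c * q) ∈ T ⊔ C :=
            (im_le_iff.2 fun z hz => hdT z (Subgroup.mem_sup_right hz) : im N d ≤ T ⊔ C) hw
          have h1 : afun A (d (afun δ' c)) =
              c * afun A ((afun A⁻¹ c)⁻¹ * d (afun A⁻¹ c * q)) := by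
            conv_rhs => arg 1; rw [← afun_apply_inv A (Subgroup.mem_sup_right hc : c ∈ T ⊔ C)]
            rw [← afun_map_mul A (Subgroup.mem_sup_right hc') hwT, mul_inv_cancel_left, hdx]
          simp only [Function.comp_apply, h1, inv_mul_cancel_left]
          obtain ⟨z, hz, hze⟩ := (hd.restrict_to le_sup_right).mem_im.1 hw
          rw [← hze]
          obtain ⟨z', hz', rfl⟩ : ∃ z' ∈ N, afun δ' z' = z := by
            refine ⟨afun ν⁻¹ z, afun_mem _ hz, ?_⟩
            rw [← hνe _ (afun_mem _ hz), afun_apply_inv ν hz]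
          exact apply_mem_im (f := afun A ∘ (d ∘ afun δ')) hz'
        · simp only [Function.comp_apply]
          rw [pow_succ δ', pow_succ' A, afun_mul _ _ hx,
            afun_mul _ _ (hMTC (afun_mem _ (afun_mem δ' hx))), hde _ (afun_mem δ' hx)]
    obtain ⟨d, hd, -, hdc, hde⟩ := hstep (p ^ i)
    have hdN : ∀ x ∈ N, d x = afun (a ^ p ^ i) x := fun x hx => by
      have h1 : afun (ν ^ p ^ i) x = x :=
        (congrArg (fun β : MulAut N => afun β x) hi).trans (afun_one hx)
      rw [← hde x (Subgroup.mem_sup_right hx), hνpow _ x hx, h1, hApow _ x hx.1]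
    have hgood : Good F T N (afun (a ^ p ^ i)) := by
      refine ⟨d, hd.restrict_to (sup_le le_sup_right (le_sup_right.trans le_sup_left)), hdN, ?_⟩
      rw [← im_congr hdN]
      exact hdc
    obtain ⟨j, hj⟩ := ih (Q := N) (a := a ^ p ^ i) (by
      have : Finite N := finite_of_le (inf_le_left.trans hTS : normalizerIn T Q ≤ S)
      have : Nat.card Q < Nat.card N := lt_of_le_of_ne (Subgroup.card_le_of_le hQN.le)
        fun e => hQN.ne (Subgroup.eq_of_le_of_card_ge hQN.le e.ge)
      omega) (centric_upward hQ hQN.le inf_le_left) (pow_mem ha _) hgood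
    exact ⟨i + j, by rwa [pow_add, pow_mul]⟩

/-! ### Normality -/

theorem normal_EH (hS : IsPGroup p S) (hE : E.IsWeaklyNormalIn F p) {D : FusionSystem T}
    (hDs : D.IsSaturated p) (hD : ∀ P f, Mor D P f ↔ Mor (EH E p (A0 E p)) P f) :
    D.IsNormalIn F p := by
  have hTS := sub_le hE.2.2.1
  have := finite_of_le hTS
  have hinv := hE.2.2
  refine ⟨⟨hDs, hE.2.1, invariant_EH hS hE hD⟩, fun α hα => ?_⟩
  -- the good automorphisms
  let H : Subgroup (MulAut T) :=
    { carrier := {a | Good F T T (afun a)}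
      one_mem' := ⟨fun x => x, mor_id (sup_le hTS inf_le_left), fun x hx => (afun_one hx).symm,
        fun c _ => by simp⟩
      mul_mem' := fun {u v} hu hv => good_congr (good_comp hv (by rwa [im_afun]))
        fun x hx => (afun_mul u v hx).symm
      inv_mem' := fun {u} hu => by
        have := good_inv (f' := afun u⁻¹) hu fun x hx => afun_inv_apply u hx
        rwa [im_afun] at this }
  have hTc : E.IsCentric T := centric_top
  have hA : A0 E p ≤ H := by
    refine (Subgroup.closure_le _).2 fun b hb => ?_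
    obtain ⟨hb, R, hR, hbR⟩ := hb
    have hbF : b ∈ F.autGroup T :=
      mem_autGroup_of_mor (sub_mor hinv.1 ((mem_autGroup le_rfl).1 hb))
    obtain ⟨i, hi⟩ := pow_good hS hE _ le_rfl hR hbF (good_e0 hS hE hbR le_rfl hR)
    exact mem_of_pow_mem hTS
      (fun c hc hk => good_e0 hS hE (gen_e0 T le_rfl c hc hk) le_rfl hTc) hb hi
  have hαA : α ∈ A0 E p :=
    aut_centric le_rfl hTc
      (mem_autGroup_of_mor (eh_le ((hD _ _).1 ((mem_autGroup le_rfl).1 hα))))
      ((hD _ _).1 ((mem_autGroup le_rfl).1 hα))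
  obtain ⟨g, hg, hge, hgc⟩ : Good F T T (afun α) := hA hαA
  have hgT : ∀ c ∈ centralizerIn S T, c⁻¹ * g c ∈ T := fun c hc => by
    have h1 := hgc c hc
    rwa [im_afun] at h1
  obtain ⟨β, hβ, hβe⟩ := hg.exists_aut (hg.im_self fun x hx =>
    mor_sup_induction hg (fun t ht => Subgroup.mem_sup_left (hge t ht ▸ afun_mem α ht))
      (fun c hc => by
        have := Subgroup.mul_mem _ (Subgroup.mem_sup_right (S := T) hc)
          (Subgroup.mem_sup_left (T := centralizerIn S T) (hgT c hc))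
        rwa [mul_inv_cancel_left] at this) hx)
  refine ⟨β, hβ, fun x => ?_, fun c hc => ?_⟩
  · rw [← afun_coe, ← afun_coe]
    exact (hβe _ (Subgroup.mem_sup_left x.2)).trans (hge _ x.2)
  · rw [← afun_coe, hβe _ c.2]
    refine ⟨hgT _ hc, Subgroup.mem_centralizer_iff.2 fun t ht => ?_⟩
    obtain ⟨u, hu, rfl⟩ : ∃ u ∈ T, g u = t := ⟨afun α⁻¹ t, afun_mem _ ht, by
      rw [hge _ (afun_mem _ ht), afun_apply_inv α ht]⟩
    have h1 : g u * g c = g c * g u := by
      rw [← hg.map_mul (Subgroup.mem_sup_left hu) c.2, ← hg.map_mul c.2 (Subgroup.mem_sup_left hu),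
        Subgroup.mem_centralizer_iff.1 hc.2 u hu]
    have h2 : g u * (c : Ω) = (c : Ω) * g u := Subgroup.mem_centralizer_iff.1 hc.2 _ ht
    have h3 : g u * (c : Ω)⁻¹ = (c : Ω)⁻¹ * g u :=
      (Commute.inv_right (h2 : Commute (g u) (c : Ω))).eq
    rw [← mul_assoc, h3, mul_assoc, h1, ← mul_assoc]

end Cfsg.Agent.FusionResidualNormal88
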