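import Cfsg.Agent.Lib.FusionMeetSat
import Cfsg.Agent.Lib.FusionResidualNormal88
import Cfsg.Agent.Lib.FusionSysAlperin

/-!
Two normal subsystems have a greatest common normal subsystem over the intersection of their
groups (`exists_meet`): inside the meet, the maps whose part in `Aut(T)` extends well in `F`, `D₁`
and `D₂`.
-/

set_option autoImplicit false

namespace Cfsg.Agent.FusionMeet

open Cfsg Cfsg.FusionSystem Cfsg.Agent.FusionSysBasic Cfsg.Agent.FusionSysSaturated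
open Cfsg.Agent.FusionSysNormal Cfsg.Agent.FusionKit88 Cfsg.Agent.FusionPrimeIndex88
open Cfsg.Agent.FusionWeaklyNormal88 Cfsg.Agent.FusionInduct88

variable {Ω : Type*} [Group Ω] {S T₁ T₂ : Subgroup Ω} {F : FusionSystem S}
  {D₁ : FusionSystem T₁} {D₂ : FusionSystem T₂} {p : ℕ}

/-- The automorphisms of `T₀` extending to `T₀ C_U(T₀)` in `G` with no motion modulo `T₀`. -/
def goodSub {U : Subgroup Ω} (G : FusionSystem U) (T₀ : Subgroup Ω) (hT : T₀ ≤ U) :
    Subgroup (MulAut T₀) where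
  carrier := {a | FusionResidualNormal88.Good G T₀ T₀ (afun a)}
  one_mem' := ⟨fun x => x, mor_id (sup_le hT inf_le_left), fun x hx => (afun_one hx).symm,
    fun c _ => by simp⟩
  mul_mem' := fun {u v} hu hv => FusionResidualNormal88.good_congr
    (FusionResidualNormal88.good_comp hv (by rwa [im_afun])) fun x hx => (afun_mul u v hx).symm
  inv_mem' := fun {u} hu => by
    have := FusionResidualNormal88.good_inv (f' := afun u⁻¹) hu fun x hx => afun_inv_apply u hx
    rwa [im_afun] at this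

/-- A system is invariant in itself. -/
theorem self_invariant (F : FusionSystem S) : F.IsInvariantIn F := by
  refine FusionIso88.invariant_iff.2 ⟨fun _ _ h => h,
    stronglyClosed_iff.2 ⟨le_rfl, fun P f _ hf x hx => hf.apply_mem hx⟩, fun P f hf a ha => ?_,
    fun P f hP hf => ⟨1, one_mem _, f, hf, fun x hx => (afun_one (hf.apply_mem hx)).symm⟩⟩
  have hm := ((mem_autGroup le_rfl).1 ha).restrict_to hf.le
  have hi := (mem_autGroup le_rfl).1 (inv_mem ha)
  refine ⟨afun a ∘ f ∘ afun a⁻¹, ?_, fun x hx => ?_⟩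
  · refine (((hi.restrict_to hm.im_le).comp hf fun y hy => ?_).comp ((mem_autGroup le_rfl).1 ha)
      fun y hy => ?_)
    · obtain ⟨x, hx, rfl⟩ := hm.mem_im.1 hy
      rw [afun_inv_apply a (hf.le hx)]; exact hx
    · obtain ⟨x, hx, rfl⟩ := hm.mem_im.1 hy
      simp only [Function.comp_apply]
      rw [afun_inv_apply a (hf.le hx)]; exact hf.apply_mem hx
  · simp only [Function.comp_apply, afun_inv_apply a (hf.le hx)]

variable [Finite S] [Fact p.Prime]

/-- The automorphisms of `A0` of a weakly normal subsystem are good. -/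
theorem a0_le_good (hS : IsPGroup p S) {T₀ : Subgroup Ω} {E : FusionSystem T₀}
    (hE : E.IsWeaklyNormalIn F p) : A0 E p ≤ goodSub F T₀ (sub_le hE.2.2.1) := by
  have hTS := sub_le hE.2.2.1
  haveI := finite_of_le hTS
  refine (Subgroup.closure_le _).2 fun b hb => ?_
  obtain ⟨hb, R, hR, hbR⟩ := hb
  have hbF : b ∈ F.autGroup T₀ :=
    mem_autGroup_of_mor (sub_mor hE.2.2.1 ((mem_autGroup le_rfl).1 hb))
  obtain ⟨i, hi⟩ := FusionResidualNormal88.pow_good hS hE _ le_rfl hR hbF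
    (FusionResidualNormal88.good_e0 hS hE hbR le_rfl hR)
  exact mem_of_pow_mem (p := p) hTS
    (H := goodSub F T₀ hTS) (fun c hc hk =>
      FusionResidualNormal88.good_e0 hS hE (gen_e0 T₀ le_rfl c hc hk) le_rfl FusCentric.centric_top)
    hb hi

/-- Goodness in an invariant subsystem is carried along by `Aut_F(T₀)`. -/
theorem good_conj (hS : IsPGroup p S) (hF : F.IsSaturated p) {T₀ : Subgroup Ω}
    (hT : F.StronglyClosed T₀) {U : Subgroup Ω} {D : FusionSystem U} (hD : D.IsInvariantIn F)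
    (hU : T₀ ≤ U) {γ a : MulAut T₀} (hγ : γ ∈ F.autGroup T₀) (ha : a ∈ goodSub D T₀ hU) :
    γ * a * γ⁻¹ ∈ goodSub D T₀ hU := by
  have hTS := hT.1
  have hUS := hD.2.1.1
  haveI := finite_of_le hTS
  haveI := finite_of_le hUS
  obtain ⟨g, hg, hge, hgc⟩ := ha
  simp only [im_afun] at hgc
  have hTfn : F.IsFullyNormalized T₀ := ⟨hTS, fun Q hQ => by
    obtain ⟨f, hf, rfl⟩ := FusionSysBasic.isConj_iff.1 hQ
    rw [hf.im_self fun x hx => closed_apply hT hf le_rfl hx]⟩
  obtain ⟨e, he, hee, heC⟩ := exists_extension_centralizer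
    (receptive_of_fullyNormalized hS hF hTfn) ((mem_autGroup hTS).1 hγ) (im_afun γ)
  have heY := he.restrict_to (sup_le_sup_left (inf_le_inf_right _ hUS) T₀ : (T₀ ⊔ centralizerIn U T₀) ≤ _)
  have heC' : ∀ c ∈ centralizerIn U T₀, e c ∈ centralizerIn U T₀ := fun c hc =>
    ⟨closed_apply' hD.2.1 heY (Subgroup.mem_sup_right hc) hc.1, (heC c ⟨hUS hc.1, hc.2⟩).2⟩
  have himY : im (T₀ ⊔ centralizerIn U T₀) e = (T₀ ⊔ centralizerIn U T₀) := heY.im_self fun x hx => mor_sup_induction heY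
    (fun y hy => Subgroup.mem_sup_left (hee y hy ▸ afun_mem γ hy))
    (fun c hc => Subgroup.mem_sup_right (heC' c hc)) hx
  obtain ⟨α, hα, hαe⟩ := hg.exists_aut (hg.im_self fun x hx => mor_sup_induction hg
    (fun y hy => Subgroup.mem_sup_left (hge y hy ▸ afun_mem a hy))
    (fun c hc => by
      have := Subgroup.mul_mem _ (Subgroup.mem_sup_right (S := T₀) hc)
        (Subgroup.mem_sup_left (T := centralizerIn U T₀) (hgc c hc))
      rwa [mul_inv_cancel_left] at this) hx)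
  have hYU : (T₀ ⊔ centralizerIn U T₀) ≤ U := sup_le hU inf_le_left
  have h1 := aut_transport hD hYU heY himY hα
  refine ⟨afun (heY.transport himY α), (mem_autGroup hYU).1 h1, fun x hx => ?_, fun c hc => ?_⟩
  · have hz := afun_mem γ⁻¹ hx
    conv_lhs => rw [← afun_apply_inv γ hx, ← hee _ hz,
      heY.afun_transport himY α (Subgroup.mem_sup_left hz)]
    erw [hαe _ (Subgroup.mem_sup_left hz), hge _ hz, hee _ (afun_mem a hz)]
    rw [afun_mul _ _ hx, afun_mul _ _ hz]
  · rw [im_afun]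
    obtain ⟨d, hd, rfl⟩ : ∃ d ∈ centralizerIn U T₀, e d = c := by
      have hr := heY.restrict_to (le_sup_right : centralizerIn U T₀ ≤ (T₀ ⊔ centralizerIn U T₀))
      exact hr.mem_im.1 ((hr.im_self heC').ge hc)
    have hdY : d ∈ (T₀ ⊔ centralizerIn U T₀) := Subgroup.mem_sup_right hd
    rw [heY.afun_transport himY α hdY]
    erw [hαe _ hdY]
    rw [← heY.map_inv hdY,
      ← heY.map_mul ((T₀ ⊔ centralizerIn U T₀).inv_mem hdY) (hαe d hdY ▸ afun_mem α hdY), hee _ (hgc d hd)]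
    exact afun_mem γ (hgc d hd)

/-- A good automorphism extends as the extension condition asks. -/
theorem ext_of_good {U T₀ : Subgroup Ω} [Finite U] {G : FusionSystem U} {hT : T₀ ≤ U}
    {α : MulAut T₀} (hα : α ∈ goodSub G T₀ hT) :
    ∃ β ∈ G.autGroup (T₀ ⊔ centralizerIn U T₀),
      (∀ x : T₀, ((β (Subgroup.inclusion le_sup_left x) : ↥(T₀ ⊔ centralizerIn U T₀)) : Ω) =
        ((α x : T₀) : Ω)) ∧
      ∀ c : ↥(T₀ ⊔ centralizerIn U T₀), (c : Ω) ∈ centralizerIn U T₀ →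
        (c : Ω)⁻¹ * ((β c : ↥(T₀ ⊔ centralizerIn U T₀)) : Ω) ∈
          T₀ ⊓ Subgroup.centralizer (T₀ : Set Ω) := by
  obtain ⟨g, hg, hge, hgc⟩ := hα
  have hgT : ∀ c ∈ centralizerIn U T₀, c⁻¹ * g c ∈ T₀ := fun c hc => by
    have h1 := hgc c hc
    rwa [im_afun] at h1
  obtain ⟨β, hβ, hβe⟩ := hg.exists_aut (hg.im_self fun x hx =>
    mor_sup_induction hg (fun t ht => Subgroup.mem_sup_left (hge t ht ▸ afun_mem α ht))
      (fun c hc => by
        have := Subgroup.mul_mem _ (Subgroup.mem_sup_right (S := T₀) hc)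
          (Subgroup.mem_sup_left (T := centralizerIn U T₀) (hgT c hc))
        rwa [mul_inv_cancel_left] at this) hx)
  refine ⟨β, hβ, fun x => ?_, fun c hc => ?_⟩
  · rw [← afun_coe, ← afun_coe]
    exact (hβe _ (Subgroup.mem_sup_left x.2)).trans (hge _ x.2)
  · rw [← afun_coe, hβe _ c.2]
    refine ⟨hgT _ hc, Subgroup.mem_centralizer_iff.2 fun t ht => ?_⟩
    obtain ⟨u, hu, rfl⟩ : ∃ u ∈ T₀, g u = t := ⟨afun α⁻¹ t, afun_mem _ ht, by
      rw [hge _ (afun_mem _ ht), afun_apply_inv α ht]⟩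
    have h1 : g u * g c = g c * g u := by
      rw [← hg.map_mul (Subgroup.mem_sup_left hu) c.2, ← hg.map_mul c.2 (Subgroup.mem_sup_left hu),
        Subgroup.mem_centralizer_iff.1 hc.2 u hu]
    have h2 : g u * (c : Ω) = (c : Ω) * g u := Subgroup.mem_centralizer_iff.1 hc.2 _ ht
    have h3 : g u * (c : Ω)⁻¹ = (c : Ω)⁻¹ * g u :=
      (Commute.inv_right (h2 : Commute (g u) (c : Ω))).eq
    rw [← mul_assoc, h3, mul_assoc, h1, ← mul_assoc]

omit [Finite S] [Fact p.Prime] in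
/-- The extension condition gives good automorphisms. -/
theorem good_of_normal {U T₀ : Subgroup Ω} {G : FusionSystem U} {D : FusionSystem T₀}
    (hD : D.IsNormalIn G p) (hT : T₀ ≤ U) {α : MulAut T₀} (hα : α ∈ D.autGroup T₀) :
    α ∈ goodSub G T₀ hT := by
  obtain ⟨β, hβ, hβe, hβc⟩ := hD.2 α hα
  have hY : T₀ ⊔ centralizerIn U T₀ ≤ U := sup_le hT inf_le_left
  refine ⟨afun β, (mem_autGroup hY).1 hβ, fun x hx => ?_, fun c hc => ?_⟩
  · rw [afun_apply β (Subgroup.mem_sup_left hx), afun_apply α hx]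
    exact hβe ⟨x, hx⟩
  · rw [im_afun, afun_apply β (Subgroup.mem_sup_right hc)]
    exact (hβc ⟨c, Subgroup.mem_sup_right hc⟩ hc).1

local notation "T" => (T₁ ⊓ T₂)

namespace Setup

variable (h : Setup F D₁ D₂ p)
include h

local notation "L" => meetSys F D₁ D₂ p (Setup.T_le h)

theorem weaklyNormal_meet {U : Subgroup Ω} {G : FusionSystem U} (hG : Ambient G F D₁ D₂ p)
    (hsub : (L).IsSubsystemOf G) : (L).IsWeaklyNormalIn G p := by
  refine ⟨h.saturated_meet, hG.sat, FusionIso88.invariant_iff.2 ⟨hsub,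
    stronglyClosed_iff.2 ⟨hG.le, fun P f hP hf x hx =>
      closed_apply h.closedT (sub_mor hG.sub hf) hP hx⟩, fun P f hf a ha => ?_,
    fun P f hP hf => h.frattini hG hP hf⟩⟩
  refine ⟨_, h.meet_conj hf (h.amb_aut_F hG ha), fun x hx => ?_⟩
  simp only [Function.comp_apply, afun_inv_apply a (hf.le hx)]

/-- A subsystem normal in `F`, `D₁` and `D₂` lies in the meet. -/
theorem le_meet {D' : FusionSystem T} (hF' : D'.IsNormalIn F p)
    (h1 : D'.IsSubsystemOf D₁) (h2 : D'.IsSubsystemOf D₂) : D' ≤ L := by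
  haveI := finite_of_le h.T_le
  have hTp : IsPGroup p ↥T := h.pgrp.to_le h.T_le
  obtain ⟨⟨hDs, -, hinv⟩, -⟩ := hF'
  refine FusionSysAlperin.alperin hTp hDs fun P hP => ?_
  obtain ⟨hPn, hPc⟩ : D'.IsFullyNormalized P ∧ D'.IsCentric P := by
    rcases hP with rfl | hP
    · exact ⟨fullyNormalized_self, FusCentric.centric_top⟩
    · exact ⟨hP.2.1, hP.1⟩
  have hPT := hPn.1
  have hTC : TC F T P := by
    refine ⟨hPT, fun Q hQ c hc => ?_⟩
    obtain ⟨g, hg, rfl⟩ := FusionSysBasic.isConj_iff.1 hQ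
    obtain ⟨a, ha, e, he, hge⟩ := inv_factor hinv hPT hg
    have hai := (mem_autGroup h.T_le).1 (inv_mem ha)
    have hd : afun a⁻¹ c ∈ centralizerIn T (im P e) := by
      refine mem_centralizerIn.2 ⟨afun_mem _ hc.1, fun y hy => ?_⟩
      obtain ⟨x, hx, rfl⟩ := he.mem_im.1 hy
      have hgx : g x ∈ T := hge x hx ▸ afun_mem a (he.apply_mem hx)
      have e1 : e x = afun a⁻¹ (g x) := by rw [hge x hx, afun_inv_apply a (he.apply_mem hx)]
      rw [e1, ← hai.map_cj hc.1 hgx, (mem_centralizerIn.1 hc).2 _ (apply_mem_im hx)]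
    obtain ⟨x, hx, hxe⟩ := he.mem_im.1 (hPc.2 _ (FusionSysBasic.isConj_iff.2 ⟨e, he, rfl⟩) hd)
    have h3 : g x = c := by rw [hge x hx, hxe, afun_apply_inv a hc.1]
    exact h3 ▸ apply_mem_im hx
  obtain ⟨P0, hP0⟩ := (fullyAutomized_of_fullyNormalized hTp hDs hPn).2
  haveI := finite_autGroup (F := D') P
  have htop : (⊤ : Subgroup (D'.autGroup P)) ≤
      ((L).autGroup P).subgroupOf (D'.autGroup P) := by
    rw [← TransferPResidual.sylow_sup_pResidual P0]
    refine sup_le (fun a ha => ?_) (TransferPResidual.pResidual_le_iff_coprime.2 fun a ha => ?_)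
    · rw [hP0, Subgroup.mem_subgroupOf] at ha
      exact Subgroup.mem_subgroupOf.2 (autInducedBy_le hPT ha)
    · refine Subgroup.mem_subgroupOf.2 (h.gam_aut hTC ⟨?_, ?_⟩ (by rwa [Subgroup.orderOf_coe]))
      · exact mem_autGroup_of_mor (sub_mor h1 ((mem_autGroup hPT).1 a.2))
      · exact mem_autGroup_of_mor (sub_mor h2 ((mem_autGroup hPT).1 a.2))
  exact fun a ha => htop (x := ⟨a, ha⟩) trivial

/-- The greatest common normal subsystem. -/
theorem exists_meet : ∃ D : FusionSystem T,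
    (D.IsNormalIn F p ∧ D.IsNormalIn D₁ p ∧ D.IsNormalIn D₂ p) ∧
      ∀ D' : FusionSystem T, D'.IsNormalIn F p → D'.IsNormalIn D₁ p → D'.IsNormalIn D₂ p →
        D'.IsSubsystemOf D := by
  have hTS := h.T_le
  haveI := finite_of_le hTS
  have hTp : IsPGroup p ↥T := h.pgrp.to_le hTS
  have hT1S : T₁ ≤ S := h.i1.2.1.1
  have hT2S : T₂ ≤ S := h.i2.2.1.1
  haveI := finite_of_le hT1S
  haveI := finite_of_le hT2S
  have w0 := h.weaklyNormal_meet h.ambient_F h.meet_sub
  have sub1 : (L).IsSubsystemOf D₁ := fun P φ hφ =>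
    (mor_iff_hom fun x => (toFun_coe φ x).symm).1 (h.meet_mor1 (mor_toFun hφ))
  have sub2 : (L).IsSubsystemOf D₂ := fun P φ hφ =>
    (mor_iff_hom fun x => (toFun_coe φ x).symm).1 (h.meet_mor2 (mor_toFun hφ))
  have w1 := h.weaklyNormal_meet h.ambient_1 sub1
  have w2 := h.weaklyNormal_meet h.ambient_2 sub2
  set H : Subgroup (MulAut ↥T) :=
    goodSub F T hTS ⊓ goodSub D₁ T inf_le_left ⊓ goodSub D₂ T inf_le_right with hH
  have hA : A0 (L) p ≤ H := le_inf (le_inf (a0_le_good h.pgrp w0)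
    (a0_le_good (h.pgrp.to_le hT1S) w1)) (a0_le_good (h.pgrp.to_le hT2S) w2)
  have hHn : ∀ γ ∈ F.autGroup T, ∀ a ∈ H, γ * a * γ⁻¹ ∈ H := fun γ hγ a ha =>
    ⟨⟨good_conj h.pgrp h.sat h.closedT (self_invariant F) hTS hγ ha.1.1,
      good_conj h.pgrp h.sat h.closedT h.i1 inf_le_left hγ ha.1.2⟩,
      good_conj h.pgrp h.sat h.closedT h.i2 inf_le_right hγ ha.2⟩
  have hsat : (EH (L) p H).IsSaturated p := saturated_EH hTp h.saturated_meet hA
  have normal : ∀ {U : Subgroup Ω} {G : FusionSystem U}, Ambient G F D₁ D₂ p →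
      (L).IsWeaklyNormalIn G p → (∀ hU : T ≤ U, H ≤ goodSub G T hU) → Finite U →
      (EH (L) p H).IsNormalIn G p := by
    intro U G hG hw hgood hfin
    refine ⟨⟨hsat, hG.sat, FusionIso88.invariant_iff.2
      ⟨fun P φ hφ => (mor_iff_hom fun x => (toFun_coe φ x).symm).1
        (sub_mor hw.2.2.1 (eh_le (mor_toFun hφ))), hw.2.2.2.1, fun P f hf α hα => ?_,
        fun P f hP hf => ?_⟩⟩, fun α hα => ?_⟩
    · obtain ⟨b, hb, hbL, e, he, hfe⟩ := mor_EH.1 hf
      have h1 := FusionResidualNormal88.e0_invariant_F hw.2.2 he hα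
      have hbm := inv_mor hw.2.2 ((mem_autGroup le_rfl).1 hbL) hα
      rw [im_afun] at hbm
      have hc : α * b * α⁻¹ ∈ (L).autGroup T :=
        mem_autGroup_of_mor (hbm.congr fun y hy => by
          simp only [Function.comp_apply]
          rw [afun_mul _ _ hy, afun_mul _ _ (afun_mem α⁻¹ hy)])
      refine ⟨_, mor_EH.2 ⟨_, hHn α (h.amb_aut_F hG hα) b hb, hc, _, h1, fun y _ => rfl⟩,
        fun x hx => ?_⟩
      have hxT := hf.le hx
      have hex := he.apply_mem hx
      simp only [Function.comp_apply, afun_inv_apply α hxT]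
      rw [afun_mul _ _ (afun_mem α hex), afun_mul _ _ (afun_mem α⁻¹ (afun_mem α hex)),
        afun_inv_apply α hex, hfe x hx]
    · obtain ⟨α, hα, e1, he1, hfe⟩ := inv_factor hw.2.2 hP hf
      obtain ⟨β, hβ, e, he, he1e⟩ := e0_factor hTp h.saturated_meet he1
      refine ⟨α * β, mul_mem hα
        (mem_autGroup_of_mor (sub_mor hw.2.2.1 ((mem_autGroup le_rfl).1 hβ))),
        e, eh_of_e0 he, fun x hx => ?_⟩
      rw [hfe x hx, he1e x hx, afun_mul _ _ (he.apply_mem hx)]
    · exact ext_of_good (hgood hG.le (aut_centric hA FusCentric.centric_top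
        (mem_autGroup_of_mor (eh_le ((mem_autGroup le_rfl).1 hα))) ((mem_autGroup le_rfl).1 hα)))
  refine ⟨EH (L) p H, ⟨normal h.ambient_F w0 (fun _ _ ha => ha.1.1) inferInstance,
    normal h.ambient_1 w1 (fun _ _ ha => ha.1.2) inferInstance,
    normal h.ambient_2 w2 (fun _ _ ha => ha.2) inferInstance⟩, fun D' hF' h1 h2 => ?_⟩
  have hle := h.le_meet hF' h1.1.2.2.1 h2.1.2.2.1
  intro P φ hφ
  have hf := mor_toFun hφ
  obtain ⟨a, ha, e, he, hfe⟩ := e0_factor hTp hF'.1.1 hf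
  have hsub : D'.IsSubsystemOf L := fun Q => hle Q
  refine (mor_iff_hom fun x => (toFun_coe φ x).symm).1 (mor_EH.2 ⟨a, ⟨⟨good_of_normal hF' hTS ha,
    good_of_normal h1 inf_le_left ha⟩, good_of_normal h2 inf_le_right ha⟩, ?_, e,
    e0_mono hsub he, hfe⟩)
  exact mem_autGroup_of_mor (sub_mor hsub ((mem_autGroup le_rfl).1 ha))

end Setup

end Cfsg.Agent.FusionMeet
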