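import Cfsg.Agent.Lib.FusionFittingBasic
import Cfsg.Agent.Lib.FusionMeet
import Cfsg.Agent.Lib.FusionLayer

/-!
Central products in the form used for components (`CP`): every map splits as a product of maps of
the factors, and the maps of each factor extend fixing the other. A normal subsystem of a factor
is normal in the product (`trans_left`).
-/

set_option autoImplicit false

namespace Cfsg.Agent.FusionCP

open Cfsg Cfsg.FusionSystem Cfsg.Agent.FusionSysBasic Cfsg.Agent.FusionSysSaturated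
open Cfsg.Agent.FusionSysNormal Cfsg.Agent.FusionKit88 Cfsg.Agent.FusionMorph88

variable {Ω : Type*} [Group Ω]

/-- A central product, by its maps. -/
structure CP {U A B : Subgroup Ω} (D : FusionSystem U) (E₁ : FusionSystem A)
    (E₂ : FusionSystem B) : Prop where
  eq : A ⊔ B = U
  comm : ∀ a ∈ A, ∀ b ∈ B, a * b = b * a
  split : ∀ {P : Subgroup Ω} {f : Ω → Ω}, Mor D P f → ∃ e₁ e₂ R₁ R₂, Mor E₁ R₁ e₁ ∧
    Mor E₂ R₂ e₂ ∧ ∀ z ∈ P, ∃ x ∈ R₁, ∃ y ∈ R₂, z = x * y ∧ f z = e₁ x * e₂ y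
  left : ∀ {R : Subgroup Ω} {e : Ω → Ω}, Mor E₁ R e →
    ∃ ψ, Mor D (R ⊔ B) ψ ∧ (∀ x ∈ R, ψ x = e x) ∧ ∀ b ∈ B, ψ b = b
  right : ∀ {R : Subgroup Ω} {e : Ω → Ω}, Mor E₂ R e →
    ∃ ψ, Mor D (R ⊔ A) ψ ∧ (∀ x ∈ R, ψ x = e x) ∧ ∀ a ∈ A, ψ a = a

theorem mem_mul {A B R : Subgroup Ω} (hc : ∀ a ∈ A, ∀ b ∈ B, a * b = b * a) (hR : R ≤ A) {z : Ω}
    (hz : z ∈ R ⊔ B) : ∃ a ∈ R, ∃ b ∈ B, z = a * b := by
  have hn : R ≤ Subgroup.normalizer (B : Set Ω) := fun r hr => by
    rw [Subgroup.mem_normalizer_iff]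
    intro h
    refine ⟨fun hh => ?_, fun hh => ?_⟩
    · rwa [hc r (hR hr) h hh, mul_inv_cancel_right]
    · have e := hc r (hR hr) _ hh
      rw [inv_mul_cancel_right] at e
      rwa [mul_left_cancel e] at hh
  have : z ∈ ((R ⊔ B : Subgroup Ω) : Set Ω) := hz
  rw [Subgroup.coe_mul_of_left_le_normalizer_right R B hn] at this
  obtain ⟨a, ha, b, hb, e⟩ := this
  exact ⟨a, ha, b, hb, e.symm⟩

theorem CP.symm {U A B : Subgroup Ω} {D : FusionSystem U} {E₁ : FusionSystem A}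
    {E₂ : FusionSystem B} (h : CP D E₁ E₂) : CP D E₂ E₁ where
  eq := (sup_comm B A).trans h.eq
  comm := fun b hb a ha => (h.comm a ha b hb).symm
  split := fun hf => by
    obtain ⟨e₁, e₂, R₁, R₂, h1, h2, he⟩ := h.split hf
    refine ⟨e₂, e₁, R₂, R₁, h2, h1, fun z hz => ?_⟩
    obtain ⟨x, hx, y, hy, e, e'⟩ := he z hz
    exact ⟨y, hy, x, hx, e.trans (h.comm x (h1.le hx) y (h2.le hy)),
      e'.trans (h.comm _ (h1.apply_mem hx) _ (h2.apply_mem hy))⟩
  left := h.right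
  right := h.left

section Data

variable {U A B : Subgroup Ω} [Finite A] [Finite B] {E₁ : FusionSystem A} {E₂ : FusionSystem B}
  {D : FusionSystem U} {D₀ : FusionSystem (A.prod B)} {Z : Subgroup (Ω × Ω)}
  {θ : ↥(A.prod B) →* Ω}
  (h1 : ∀ (x : Ω) (hx : ((x, 1) : Ω × Ω) ∈ A.prod B), θ ⟨(x, 1), hx⟩ = x)
  (h2 : ∀ (y : Ω) (hy : ((1, y) : Ω × Ω) ∈ A.prod B), θ ⟨(1, y), hy⟩ = y)
  (hprod : IsProductSystem E₁ E₂ D₀) (hZ : Z ≤ D₀.center) (hfac : D₀.IsFactorSystem Z θ D)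

include h1 h2 hZ hfac

/-- A map of the product system on a product subgroup gives a map of the central product. -/
theorem exists_of_prod {R R' : Subgroup Ω} (hR : R ≤ A) (hR' : R' ≤ B) {f₀ : Ω × Ω → Ω × Ω}
    (hf₀ : Mor D₀ (R.prod R') f₀) :
    ∃ ψ, Mor D (R ⊔ R') ψ ∧ ∀ x ∈ R, ∀ y ∈ R', ψ (x * y) = app θ (f₀ (x, y)) := by
  classical
  haveI : Finite ↥(A.prod B) := Finite.of_equiv _ (Subgroup.prodEquiv A B).symm.toEquiv
  obtain ⟨χ, hχ, hχe, hχZ⟩ := (isCentral_iff.1 center_isCentral).2 (R.prod R') _ hf₀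
  have hX : R.prod R' ≤ A.prod B := Subgroup.prod_mono hR hR'
  have hle : R ⊔ R' ≤ U := sup_le (hR.trans (FusionFittingBasic.left_le h1 h2 hfac))
    (hR'.trans (FusionFittingBasic.right_le h1 h2 hfac))
  have hdec : ∀ z ∈ R ⊔ R', ∃ x ∈ R, ∃ y ∈ R', z = x * y := fun z hz =>
    mem_mul (A := R) (fun a ha b hb => FusionFittingBasic.commute h1 h2 (hR ha) (hR' hb)) le_rfl hz
  let ψ : Ω → Ω := fun z => if hz : z ∈ R ⊔ R' then
    app θ (f₀ (Classical.choose (hdec z hz),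
      Classical.choose (Classical.choose_spec (hdec z hz)).2)) else 1
  have hpre : ∀ w ∈ preimageAlong θ (R ⊔ R'), ∀ x ∈ R, ∀ y ∈ R', app θ w = x * y →
      w ∈ R.prod R' ⊔ D₀.center ∧ app θ (χ w) = app θ (f₀ (x, y)) := by
    intro w hw x hx y hy e
    obtain ⟨hwm, -⟩ := mem_preimageAlong.1 hw
    have hv : ((x, y) : Ω × Ω) ∈ R.prod R' := ⟨hx, hy⟩
    have hzm : (x, y)⁻¹ * w ∈ A.prod B := (A.prod B).mul_mem ((A.prod B).inv_mem (hX hv)) hwm
    have hθz : app θ ((x, y)⁻¹ * w) = 1 := by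
      rw [app_mul ((A.prod B).inv_mem (hX hv)) hwm, app_inv (hX hv), e,
        FusionFittingBasic.app_mul_eq h1 h2 (hR hx) (hR' hy), inv_mul_cancel]
    have hz : (x, y)⁻¹ * w ∈ Z := (hfac.2.1 ⟨_, hzm⟩).1 (by rwa [app_apply θ hzm] at hθz)
    have hw' : w = (x, y) * ((x, y)⁻¹ * w) := (mul_inv_cancel_left _ _).symm
    refine ⟨hw' ▸ mul_mem (Subgroup.mem_sup_left hv) (Subgroup.mem_sup_right (hZ hz)), ?_⟩
    conv_lhs => rw [hw', hχ.map_mul (Subgroup.mem_sup_left hv) (Subgroup.mem_sup_right (hZ hz)),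
      hχe _ hv, hχZ _ (hZ hz)]
    rw [app_mul (hf₀.apply_mem hv) hzm, hθz, mul_one]
  have hψ : ∀ w ∈ preimageAlong θ (R ⊔ R'), ψ (app θ w) = app θ (χ w) := by
    intro w hw
    have hz := (mem_preimageAlong.1 hw).2
    obtain ⟨hx, hrest⟩ := Classical.choose_spec (hdec _ hz)
    obtain ⟨hy, e⟩ := Classical.choose_spec hrest
    simp only [ψ, dif_pos hz]
    exact (hpre w hw _ hx _ hy e).2.symm
  refine ⟨ψ, (factor_mor hfac).2 ⟨hle, χ, hχ.restrict_to fun w hw => ?_, hψ⟩, fun x hx y hy => ?_⟩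
  · obtain ⟨x, hx, y, hy, e⟩ := hdec _ (mem_preimageAlong.1 hw).2
    exact (hpre w hw x hx y hy e).1
  · have hv : ((x, y) : Ω × Ω) ∈ R.prod R' := ⟨hx, hy⟩
    have e := FusionFittingBasic.app_mul_eq h1 h2 (hR hx) (hR' hy)
    have hw : ((x, y) : Ω × Ω) ∈ preimageAlong θ (R ⊔ R') := mem_preimageAlong.2
      ⟨hX hv, e ▸ mul_mem (Subgroup.mem_sup_left hx) (Subgroup.mem_sup_right hy)⟩
    rw [← e, hψ _ hw, hχe _ hv]

include hprod

theorem cp_of_data : CP D E₁ E₂ where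
  eq := by
    refine le_antisymm (sup_le (FusionFittingBasic.left_le h1 h2 hfac)
      (FusionFittingBasic.right_le h1 h2 hfac)) fun u hu => ?_
    rw [← hfac.2.2.1] at hu
    obtain ⟨w, rfl⟩ := hu
    rw [← app_apply θ w.2]
    have := FusionFittingBasic.app_mul_eq h1 h2 w.2.1 w.2.2
    rw [show ((w : Ω × Ω).1, (w : Ω × Ω).2) = (w : Ω × Ω) from rfl] at this
    rw [this]
    exact mul_mem (Subgroup.mem_sup_left w.2.1) (Subgroup.mem_sup_right w.2.2)
  comm := fun a ha b hb => FusionFittingBasic.commute h1 h2 ha hb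
  split := fun {P f} hf => by
    obtain ⟨hP, f₀, hf₀, he⟩ := (factor_mor hfac).1 hf
    obtain ⟨hW, e₁, e₂, he₁, he₂, hfe⟩ := (S5137.mor_prod hprod).1 hf₀
    refine ⟨e₁, e₂, _, _, he₁, he₂, fun z hz => ?_⟩
    obtain ⟨w, hw, -, e⟩ :=
      mem_imageAlong.1 ((imageAlong_preimageAlong (hfac.2.2.1.symm ▸ hP)).ge hz)
    subst e
    refine ⟨w.1, S5137.fst_mem hw, w.2, S5137.snd_mem hw,
      FusionFittingBasic.app_mul_eq h1 h2 (hW hw).1 (hW hw).2, ?_⟩
    rw [he w hw, hfe w hw,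
      FusionFittingBasic.app_mul_eq h1 h2 (he₁.apply_mem (S5137.fst_mem hw))
        (he₂.apply_mem (S5137.snd_mem hw))]
  left := fun {R e} he => by
    have hX : R.prod B ≤ A.prod B := Subgroup.prod_mono he.le le_rfl
    obtain ⟨ψ, hψ, hψe⟩ := exists_of_prod h1 h2 hZ hfac he.le le_rfl
      ((S5137.mor_prod hprod).2 ⟨hX, e, id,
        he.restrict_to (by rintro _ ⟨w, hw, rfl⟩; exact hw.1),
        mor_id (by rintro _ ⟨w, hw, rfl⟩; exact hw.2), fun _ _ => rfl⟩ :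
          Mor D₀ (R.prod B) fun w => (e w.1, w.2))
    refine ⟨ψ, hψ, fun x hx => ?_, fun b hb => ?_⟩
    · have := hψe x hx 1 (one_mem _)
      rw [mul_one, FusionFittingBasic.app_mul_eq h1 h2 (he.apply_mem hx) (one_mem _), mul_one] at this
      exact this
    · have := hψe 1 (one_mem _) b hb
      rw [one_mul, he.map_one, FusionFittingBasic.app_mul_eq h1 h2 (one_mem _) hb, one_mul] at this
      exact this
  right := fun {R e} he => by
    have hX : A.prod R ≤ A.prod B := Subgroup.prod_mono le_rfl he.le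
    obtain ⟨ψ, hψ, hψe⟩ := exists_of_prod h1 h2 hZ hfac le_rfl he.le
      ((S5137.mor_prod hprod).2 ⟨hX, id, e,
        mor_id (by rintro _ ⟨w, hw, rfl⟩; exact hw.1),
        he.restrict_to (by rintro _ ⟨w, hw, rfl⟩; exact hw.2), fun _ _ => rfl⟩ :
          Mor D₀ (A.prod R) fun w => (w.1, e w.2))
    rw [sup_comm A R] at hψ
    refine ⟨ψ, hψ, fun x hx => ?_, fun a ha => ?_⟩
    · have := hψe 1 (one_mem _) x hx
      rw [one_mul, FusionFittingBasic.app_mul_eq h1 h2 (one_mem _) (he.apply_mem hx), one_mul] at this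
      exact this
    · have := hψe a ha 1 (one_mem _)
      rw [mul_one, he.map_one, FusionFittingBasic.app_mul_eq h1 h2 ha (one_mem _), mul_one] at this
      exact this

omit h1 h2 in
theorem saturated_of_data {p : ℕ} [Fact p.Prime] (hA : IsPGroup p A) (hB : IsPGroup p B)
    (hs₁ : E₁.IsSaturated p) (hs₂ : E₂.IsSaturated p) : D.IsSaturated p := by
  haveI : Finite ↥(A.prod B) := Finite.of_equiv _ (Subgroup.prodEquiv A B).symm.toEquiv
  have hp : IsPGroup p ↥(A.prod B) := fun w => by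
    obtain ⟨a, ha⟩ := hA ⟨(w : Ω × Ω).1, w.2.1⟩
    obtain ⟨b, hb⟩ := hB ⟨(w : Ω × Ω).2, w.2.2⟩
    have ha' : (w : Ω × Ω).1 ^ p ^ a = 1 := congrArg Subtype.val ha
    have hb' : (w : Ω × Ω).2 ^ p ^ b = 1 := congrArg Subtype.val hb
    refine ⟨a + b, Subtype.ext (Prod.ext ?_ ?_)⟩
    · show (w : Ω × Ω).1 ^ p ^ (a + b) = 1
      rw [pow_add, pow_mul, ha', one_pow]
    · show (w : Ω × Ω).2 ^ p ^ (a + b) = 1
      rw [pow_add, mul_comm, pow_mul, hb', one_pow]
  have hs₀ : D₀.IsSaturated p := S5137.saturated_prod hprod hA hB hs₁ hs₂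
  have hcl : D₀.StronglyClosed Z := stronglyClosed_iff.2 ⟨hfac.1, fun P f hP hf w hw => by
    obtain ⟨ψ, -, he, hfix⟩ := (isCentral_iff.1 center_isCentral).2 P f hf
    rw [← he w hw, hfix w (hZ (hP hw))]
    exact hP hw⟩
  exact saturated_of_surjective hp hs₀ (S5134.result p hp D₀ hs₀ Z hcl θ D hfac)

end Data

section Trans

variable {U A B : Subgroup Ω} {D : FusionSystem U} {E₁ : FusionSystem A} {E₂ : FusionSystem B}
  {p : ℕ} (h : CP D E₁ E₂)
include h

theorem CP.left_le : A ≤ U := h.eq ▸ le_sup_left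
theorem CP.right_le : B ≤ U := h.eq ▸ le_sup_right

theorem CP.fix_left {R : Subgroup Ω} {e : Ω → Ω} (he : Mor E₁ R e) {x : Ω} (hx : x ∈ R)
    (hB : x ∈ B) : e x = x := by
  obtain ⟨ψ, -, hψe, hψB⟩ := h.left he
  rw [← hψe x hx, hψB x hB]

theorem CP.sub_left : E₁.IsSubsystemOf D := fun P φ hφ => by
  obtain ⟨ψ, hψ, hψe, -⟩ := h.left (mor_toFun hφ)
  exact (mor_iff_hom fun x => (toFun_coe φ x).symm).1 ((hψ.restrict_to le_sup_left).congr hψe)

variable [Finite U] [Fact p.Prime]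

theorem CP.central_left (hp : IsPGroup p U) (hs : E₁.IsSaturated p) : E₁.IsCentral (A ⊓ B) := by
  haveI := finite_of_le h.left_le
  refine isCentral_of_fixed (p := p) (hp.to_le h.left_le) hs inf_le_left fun x hx y hy => ?_
  obtain ⟨f, hf, rfl⟩ := isConjElt_iff.1 hy
  exact h.fix_left hf (Subgroup.mem_zpowers x) hx.2

/-- Maps between subgroups of a factor are maps of the factor. -/
theorem CP.res_left (hp : IsPGroup p U) (hs : E₁.IsSaturated p) {P : Subgroup Ω} {f : Ω → Ω}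
    (hP : P ≤ A) (hf : Mor D P f) : Mor E₁ P f := by
  obtain ⟨e₁, e₂, R₁, R₂, he₁, he₂, he⟩ := h.split hf
  obtain ⟨e', he', hee, heJ⟩ := (isCentral_iff.1 (h.central_left hp hs)).2 R₁ e₁ he₁
  have key : ∀ z ∈ P, z ∈ R₁ ⊔ (A ⊓ B) ∧ e' z = f z := by
    intro z hz
    obtain ⟨x, hx, y, hy, e, e'e⟩ := he z hz
    have hyJ : y ∈ A ⊓ B := ⟨by
      have := A.mul_mem (A.inv_mem (he₁.le hx)) (hP hz)
      rwa [e, inv_mul_cancel_left] at this, he₂.le hy⟩
    have hy2 : e₂ y = y := h.symm.fix_left he₂ hy hyJ.1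
    rw [e'e, e]
    refine ⟨mul_mem (Subgroup.mem_sup_left hx) (Subgroup.mem_sup_right hyJ), ?_⟩
    rw [he'.map_mul (Subgroup.mem_sup_left hx) (Subgroup.mem_sup_right hyJ), hee x hx, heJ y hyJ,
      hy2]
  exact (he'.restrict_to fun z hz => (key z hz).1).congr fun z hz => (key z hz).2

/-- A normal subsystem of a factor is normal in the central product. -/
theorem CP.trans_left (hp : IsPGroup p U) (hD : D.IsSaturated p) {T : Subgroup Ω}
    {C : FusionSystem T} (hC : C.IsNormalIn E₁ p) : C.IsNormalIn D p := by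
  have hI := hC.1.2.2
  have hs := hC.1.2.1
  have hTA : T ≤ A := hI.2.1.1
  have hTU : T ≤ U := hTA.trans h.left_le
  have hAU := h.left_le
  have hres := fun {P : Subgroup Ω} {f : Ω → Ω} => h.res_left (p := p) hp hs (P := P) (f := f)
  refine ⟨⟨hC.1.1, hD, FusionIso88.invariant_iff.2 ⟨fun P => (hI.1 P).trans (h.sub_left P),
    stronglyClosed_iff.2 ⟨hTU, fun P f hP hf x hx =>
      closed_apply' hI.2.1 (hres (hP.trans hTA) hf) hx (hP hx)⟩,
    fun P f hf a ha => ?_, fun P f hP hf => ?_⟩⟩, fun α hα => ?_⟩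
  · have ha' : a ∈ E₁.autGroup T :=
      mem_autGroup_of_mor (hres hTA ((mem_autGroup hTU).1 ha))
    exact ⟨_, FusionWeaklyNormal88.inv_mor hI hf ha', fun x hx => by
      simp only [Function.comp_apply, afun_inv_apply a (hf.le hx)]⟩
  · obtain ⟨a, ha, e, he, hfe⟩ :=
      FusionWeaklyNormal88.inv_factor hI hP (hres (hP.trans hTA) hf)
    exact ⟨a, (mem_autGroup hTU).2 (sub_mor h.sub_left ((mem_autGroup hTA).1 ha)), e, he, hfe⟩
  · haveI := finite_of_le hAU
    obtain ⟨g, hg, hge, hgc⟩ := FusionMeet.good_of_normal hC hTA hα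
    rw [im_afun] at hgc
    obtain ⟨ψ, hψ, hψe, hψB⟩ := h.left hg
    have hdec : ∀ c ∈ centralizerIn U T, ∃ a ∈ centralizerIn A T, ∃ b ∈ B, c = a * b := by
      intro c hc
      obtain ⟨a, ha, b, hb, e⟩ := mem_mul h.comm le_rfl (h.eq.ge (mem_centralizerIn.1 hc).1)
      refine ⟨a, mem_centralizerIn.2 ⟨ha, fun t ht => ?_⟩, b, hb, e⟩
      have h1 := (mem_centralizerIn.1 hc).2 t ht
      have h2 : cj b t = t := by rw [cj_apply, ← h.comm t (hTA ht) b hb, mul_inv_cancel_right]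
      rwa [e, ← cj_cj, h2] at h1
    have hle : T ⊔ centralizerIn U T ≤ T ⊔ centralizerIn A T ⊔ B :=
      sup_le (le_sup_left.trans le_sup_left) fun c hc => by
        obtain ⟨a, ha, b, hb, rfl⟩ := hdec c hc
        exact mul_mem (Subgroup.mem_sup_left (Subgroup.mem_sup_right ha)) (Subgroup.mem_sup_right hb)
    refine FusionMeet.ext_of_good (hT := hTU) ⟨ψ, hψ.restrict_to hle, fun x hx => ?_, fun c hc => ?_⟩
    · rw [hψe x (Subgroup.mem_sup_left hx), hge x hx]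
    · rw [im_afun]
      obtain ⟨a, ha, b, hb, rfl⟩ := hdec c hc
      have hga := hgc a ha
      rw [hψ.map_mul (Subgroup.mem_sup_left (Subgroup.mem_sup_right ha)) (Subgroup.mem_sup_right hb),
        hψe a (Subgroup.mem_sup_right ha), hψB b hb]
      have : (a * b)⁻¹ * (g a * b) = a⁻¹ * g a := by
        rw [mul_inv_rev, mul_assoc, ← mul_assoc a⁻¹, h.comm _ (hTA hga) b hb, inv_mul_cancel_left]
      rw [this]
      exact hga

/-- A saturated factor is normal in the central product. -/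
theorem CP.normal_left (hp : IsPGroup p U) (hD : D.IsSaturated p) (hs : E₁.IsSaturated p) :
    E₁.IsNormalIn D p := by
  haveI := finite_of_le h.left_le
  exact h.trans_left hp hD (FusionLayer.self_normal hs)

end Trans

end Cfsg.Agent.FusionCP
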