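import Cfsg.Agent.Lib.FusionSysSaturated
import Cfsg.Agent.Lib.FusionFrattini88
import Cfsg.Agent.Lib.FusionWeaklyNormal88

/-!
Generated fusion systems, first part: subgroups with largest normalizer in their class (`IsTop`),
and the fact that a map between two subgroups that is defined on a strictly larger subgroup
links their tops, once the larger subgroups are fully automized and receptive up to conjugacy
(`tops_link`).
-/

set_option autoImplicit false

namespace Cfsg.Agent.FusionTops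

open Cfsg Cfsg.FusionSystem Cfsg.Agent.FusionSysBasic Cfsg.Agent.FusionSysSaturated

variable {Ω : Type*} [Group Ω] {S : Subgroup Ω} [Finite S] {F : FusionSystem S} {p : ℕ}

/-- Fully automized and receptive. -/
def Good (F : FusionSystem S) (p : ℕ) (P : Subgroup Ω) : Prop :=
  F.IsFullyAutomized p P ∧ F.IsReceptive P

/-- All subgroups larger than `n` are conjugate to good ones. -/
def GoodAbove (F : FusionSystem S) (p : ℕ) (n : ℕ) : Prop :=
  ∀ R : Subgroup Ω, R ≤ S → n < Nat.card R → ∃ R', F.IsConj R R' ∧ Good F p R'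

/-- A map on `N_S(Q)` carrying `Q` onto `P`. -/
def To (F : FusionSystem S) (Q P : Subgroup Ω) : Prop :=
  Q ≤ S ∧ ∃ f, Mor F (normalizerIn S Q) f ∧ im Q f = P

/-- No subgroup reachable from `T` has a larger normalizer. -/
def IsTop (F : FusionSystem S) (T : Subgroup Ω) : Prop :=
  T ≤ S ∧ ∀ X, To F T X → Nat.card (normalizerIn S X) ≤ Nat.card (normalizerIn S T)

theorem To.isConj {Q P : Subgroup Ω} (h : To F Q P) : F.IsConj Q P := by
  obtain ⟨hQ, f, hf, him⟩ := h
  exact isConj_iff.2 ⟨f, hf.restrict_to (le_normalizerIn hQ), him⟩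

theorem To.le_right {Q P : Subgroup Ω} (h : To F Q P) : P ≤ S := isConj_right_le h.isConj

theorem To.refl {Q : Subgroup Ω} (hQ : Q ≤ S) : To F Q Q :=
  ⟨hQ, _, mor_id inf_le_left, im_id Q⟩

theorem To.trans {A B C : Subgroup Ω} (h : To F A B) (h' : To F B C) : To F A C := by
  obtain ⟨hA, f, hf, hfB⟩ := h
  obtain ⟨hB, g, hg, hgC⟩ := h'
  refine ⟨hA, g ∘ f, hf.comp hg fun x hx => mor_normalizer_mem hf hA hfB hx, ?_⟩
  rw [← (hf.restrict_to (le_normalizerIn hA)).im_comp, hfB, hgC]

theorem To.card_le {Q P : Subgroup Ω} (h : To F Q P) :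
    Nat.card (normalizerIn S Q) ≤ Nat.card (normalizerIn S P) := by
  obtain ⟨hQ, f, hf, him⟩ := h
  exact card_le_of_mor hf inf_le_left fun x hx => mor_normalizer_mem hf hQ him hx

theorem To.symm_of_card {Q P : Subgroup Ω} (h : To F Q P)
    (hc : Nat.card (normalizerIn S P) ≤ Nat.card (normalizerIn S Q)) : To F P Q := by
  have hP := h.le_right
  obtain ⟨hQ, f, hf, him⟩ := h
  have hN : im (normalizerIn S Q) f = normalizerIn S P :=
    hf.im_eq_of_le inf_le_left (im_le_iff.2 fun x hx => mor_normalizer_mem hf hQ him hx) hc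
  obtain ⟨g, hg, hgf, -, -⟩ := hf.exists_inv
  rw [hN] at hg
  refine ⟨hP, g, hg, ?_⟩
  rw [← him, (hf.restrict_to (le_normalizerIn hQ)).im_comp]
  exact (im_congr fun x hx => hgf x (le_normalizerIn hQ hx)).trans (im_id Q)

theorem IsTop.back {T X : Subgroup Ω} (hT : IsTop F T) (h : To F T X) : To F X T :=
  h.symm_of_card (hT.2 X h)

omit [Finite S] in
theorem finite_conjs [Finite S] (Q : Subgroup Ω) : {X : Subgroup Ω | F.IsConj Q X}.Finite :=
  FusionSysNormal.finite_le_S.subset fun _ hX => isConj_right_le hX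

theorem exists_top {Q : Subgroup Ω} (hQ : Q ≤ S) : ∃ T, To F Q T ∧ IsTop F T := by
  obtain ⟨T, hT, hmax⟩ := Set.exists_max_image {X | To F Q X}
    (fun X => Nat.card (normalizerIn S X)) ((finite_conjs Q).subset fun X hX => hX.isConj)
    ⟨Q, To.refl hQ⟩
  exact ⟨T, hT, hT.le_right, fun X hX => hmax X (To.trans hT hX)⟩

variable [Fact p.Prime]

/-- A proper subgroup has a strictly larger normalizer. -/
theorem card_lt_nIn (hS : IsPGroup p S) {Q : Subgroup Ω} (hQ : Q < S) :
    Nat.card Q < Nat.card (normalizerIn S Q) :=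
  FusionFrattini88.card_lt_normalizerIn hS le_rfl hQ

/-- If `R < N_S(Q)`, then more than `R` normalizes `R` and `Q`. -/
theorem card_lt_inf (hS : IsPGroup p S) {Q R : Subgroup Ω} (hRQ : R ≤ normalizerIn S Q)
    (hne : R ≠ normalizerIn S Q) :
    Nat.card R < Nat.card ↥(normalizerIn S R ⊓ normalizerIn S Q : Subgroup Ω) := by
  have h := FusionFrattini88.card_lt_normalizerIn (T := normalizerIn S Q) hS inf_le_left
    (lt_of_le_of_ne hRQ hne)
  haveI := finite_of_le (P := (normalizerIn S R ⊓ normalizerIn S Q : Subgroup Ω))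
    (inf_le_left.trans inf_le_left)
  exact h.trans_le (Subgroup.card_le_of_le fun x hx => ⟨⟨hx.1.1, hx.2⟩, hx.1⟩)

omit [Fact p.Prime] in
/-- The automorphisms of `R` of the system stabilizing `q`. -/
def stab (F : FusionSystem S) (R q : Subgroup Ω) (hq : q ≤ R) : Subgroup (MulAut R) where
  carrier := {b | b ∈ F.autGroup R ∧ im q (afun b) = q}
  one_mem' := ⟨one_mem _, (im_congr fun x hx => afun_one (hq hx)).trans (im_id q)⟩
  mul_mem' := by
    rintro a b ⟨ha, ha'⟩ ⟨hb, hb'⟩
    by_cases hR : R ≤ S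
    · refine ⟨mul_mem ha hb, ?_⟩
      have hbm := ((mem_autGroup hR).1 hb).restrict_to hq
      calc im q (afun (a * b)) = im q (afun a ∘ afun b) := im_congr fun x hx => afun_mul a b (hq hx)
        _ = im (im q (afun b)) (afun a) := (hbm.im_comp _).symm
        _ = q := by rw [hb', ha']
    · have hbot : F.autGroup R = ⊥ := by
        rw [FusionSystem.autGroup, Subgroup.closure_eq_bot_iff]
        exact fun α hα => absurd (F.le_of_mem hα).1 hR
      rw [hbot, Subgroup.mem_bot] at ha hb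
      subst ha hb
      exact ⟨by simp, by rwa [one_mul]⟩
  inv_mem' := by
    rintro a ⟨ha, ha'⟩
    by_cases hR : R ≤ S
    · refine ⟨inv_mem ha, ?_⟩
      have ham := ((mem_autGroup hR).1 ha).restrict_to hq
      conv_lhs => rw [← ha']
      rw [ham.im_comp]
      exact (im_congr fun x hx => afun_inv_apply a (hq hx)).trans (im_id q)
    · have hbot : F.autGroup R = ⊥ := by
        rw [FusionSystem.autGroup, Subgroup.closure_eq_bot_iff]
        exact fun α hα => absurd (F.le_of_mem hα).1 hR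
      rw [hbot, Subgroup.mem_bot] at ha
      subst ha
      exact ⟨by simp, by rwa [inv_one]⟩

omit [Fact p.Prime] in
theorem mem_stab {R q : Subgroup Ω} {hq : q ≤ R} {b : MulAut R} :
    b ∈ stab F R q hq ↔ b ∈ F.autGroup R ∧ im q (afun b) = q := Iff.rfl

/-- In the orbit of `q` under `Aut_F(R)`, `R` good, there is a member `q₀` to which all others are
moved together with everything that normalizes `R` and them. -/
theorem exists_point (hS : IsPGroup p S) {R q : Subgroup Ω} (hR : Good F p R) (hq : q ≤ R)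
    (hn : R ≤ normalizerIn S q) :
    ∃ q0 ≤ R, R ≤ normalizerIn S q0 ∧ F.IsConj q q0 ∧
      (∀ h0 : q0 ≤ R,
        SylIn p (autInducedBy (normalizerIn S R ⊓ normalizerIn S q0) R) (stab F R q0 h0)) ∧
      ∀ b ∈ F.autGroup R, ∀ q', im q (afun b) = q' →
        ∃ e, Mor F (normalizerIn S R ⊓ normalizerIn S q') e ∧ im R e = R ∧ im q' e = q0 ∧
          ∀ u ∈ normalizerIn S R ⊓ normalizerIn S q',
            e u ∈ normalizerIn S R ⊓ normalizerIn S q0 := by
  have hRS : R ≤ S := hR.2.1
  haveI := finite_autGroup (F := F) R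
  haveI : Finite (stab F R q hq) :=
    Finite.of_injective (Subgroup.inclusion fun b (hb : b ∈ stab F R q hq) => hb.1)
      (Subgroup.inclusion_injective _)
  obtain ⟨P0⟩ : Nonempty (Sylow p (stab F R q hq)) := inferInstance
  set P' := (P0 : Subgroup (stab F R q hq)).map (stab F R q hq).subtype with hP'
  have hP's : P' ≤ stab F R q hq := Subgroup.map_subtype_le _
  have hsyl : SylIn p P' (stab F R q hq) :=
    ⟨P0, (Subgroup.comap_map_eq_self_of_injective (Subgroup.subtype_injective _) _).symm⟩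
  have hP'p : IsPGroup p P' := P0.2.map _
  obtain ⟨a, ha, haR⟩ := sylIn_absorb (hR.1.2 : SylIn p (autInducedBy S R) (F.autGroup R)) hP'p
    fun b hb => (hP's hb).1
  have ham := (mem_autGroup hRS).1 ha
  set q0 := im q (afun a) with hq0
  have hq0R : q0 ≤ R := im_le_iff.2 fun x hx => afun_mem a (hq hx)
  have hn0 : R ≤ normalizerIn S q0 := by
    intro r hr
    refine ⟨hRS hr, ?_⟩
    obtain ⟨r', hr', rfl⟩ := ham.mem_im.1 ((im_afun a).ge hr)
    exact FusionWeaklyNormal88.apply_normalizes ham hq hr' (hn hr').2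
  refine ⟨q0, hq0R, hn0, isConj_iff.2 ⟨afun a, ham.restrict_to hq, rfl⟩, fun h0 => ?_,
    fun b hb q' hq' => ?_⟩
  · -- the Sylow subgroup of the stabilizer of `q0`
    set A' := autInducedBy (normalizerIn S R ⊓ normalizerIn S q0) R
    have hA's : A' ≤ stab F R q0 h0 := by
      intro α hα
      obtain ⟨g, hg, -, he⟩ := mem_autInducedBy.1 hα
      refine ⟨autInducedBy_le hRS (autInducedBy_mono (inf_le_left.trans inf_le_left) R hα), ?_⟩
      rw [im_congr fun x hx => he x (h0 hx)]
      exact mem_normalizer_iff_im_cj.1 hg.2.2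
    haveI : Finite (stab F R q0 h0) :=
      Finite.of_injective (Subgroup.inclusion fun b (hb : b ∈ stab F R q0 h0) => hb.1)
        (Subgroup.inclusion_injective _)
    refine (sylIn_iff_card hA's).2 ?_
    have hA'p : IsPGroup p A' := (isPGroup_autInducedBy hS R).to_le
      (autInducedBy_mono (inf_le_left.trans inf_le_left) R)
    -- conjugation by `a` maps the stabilizers onto each other
    let c : MulAut R ≃* MulAut R := MulAut.conj a
    have hmap : (stab F R q hq).map c.toMonoidHom = stab F R q0 h0 := by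
      ext β
      constructor
      · rintro ⟨α, ⟨hα, hαq⟩, rfl⟩
        refine ⟨mul_mem (mul_mem ha hα) (inv_mem ha), ?_⟩
        show im q0 (afun (a * α * a⁻¹)) = q0
        rw [hq0, (ham.restrict_to hq).im_comp]
        have e : ∀ x ∈ q, (afun (a * α * a⁻¹) ∘ afun a) x = (afun a ∘ afun α) x := fun x hx => by
          simp only [Function.comp_apply]
          rw [← afun_mul _ _ (hq hx), inv_mul_cancel_right, afun_mul _ _ (hq hx)]
        rw [im_congr e, ← (((mem_autGroup hRS).1 hα).restrict_to hq).im_comp, hαq]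
      · rintro ⟨hβ, hβq⟩
        refine ⟨a⁻¹ * β * a, ⟨mul_mem (mul_mem (inv_mem ha) hβ) ha, ?_⟩, ?_⟩
        · have e : ∀ x ∈ q, afun (a⁻¹ * β * a) x = (afun a⁻¹ ∘ (afun β ∘ afun a)) x := fun x hx => by
            simp only [Function.comp_apply]
            rw [afun_mul _ _ (hq hx), afun_mul _ _ (afun_mem _ (hq hx))]
          have hm := (ham.restrict_to hq).comp (((mem_autGroup hRS).1 hβ).restrict_to h0)
            fun x hx => apply_mem_im hx
          rw [im_congr e, ← hm.im_comp, ← (ham.restrict_to hq).im_comp, ← hq0, hβq, hq0,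
            (ham.restrict_to hq).im_comp]
          exact (im_congr fun x hx => afun_inv_apply a (hq hx)).trans (im_id q)
        · show a * (a⁻¹ * β * a) * a⁻¹ = β
          group
    have hle : P'.map c.toMonoidHom ≤ A' := by
      rintro _ ⟨k, hk, rfl⟩
      obtain ⟨g, hg, hgn, he⟩ := mem_autInducedBy.1 (haR k hk)
      refine mem_autInducedBy.2 ⟨g, ⟨⟨hg, hgn⟩, hg, ?_⟩, hgn, he⟩
      show g ∈ Subgroup.normalizer (q0 : Set Ω)
      rw [mem_normalizer_iff_im_cj, ← im_congr fun x hx => he x (h0 hx)]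
      exact (hmap.le (Subgroup.mem_map_of_mem c.toMonoidHom (hP's hk))).2
    have e1 : Nat.card (stab F R q0 h0) = Nat.card (stab F R q hq) := by
      rw [← hmap]
      exact Nat.card_congr (Subgroup.equivMapOfInjective _ _ c.injective).toEquiv.symm
    rw [e1, ← (sylIn_iff_card hP's).1 hsyl]
    haveI : Finite A' := Finite.of_injective (Subgroup.inclusion hA's)
      (Subgroup.inclusion_injective _)
    refine le_antisymm ?_ ?_
    · obtain ⟨i, hi⟩ := IsPGroup.iff_card.1 hA'p
      have h2 := Subgroup.card_dvd_of_le hA's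
      rw [e1] at h2
      rw [(sylIn_iff_card hP's).1 hsyl, hi]
      rw [hi] at h2
      exact Nat.pow_le_pow_right (Fact.out (p := p.Prime)).pos
        (((Fact.out (p := p.Prime)).pow_dvd_iff_le_factorization Nat.card_pos.ne').1 h2)
    · calc Nat.card P' = Nat.card (P'.map c.toMonoidHom) :=
            Nat.card_congr (Subgroup.equivMapOfInjective _ _ c.injective).toEquiv
        _ ≤ Nat.card A' := Subgroup.card_le_of_le hle
  · have hbm := (mem_autGroup hRS).1 hb
    have hq'R : q' ≤ R := hq' ▸ im_le_iff.2 fun x hx => afun_mem b (hq hx)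
    set W := normalizerIn S R ⊓ normalizerIn S q' with hW
    let H := (autInducedBy W R).map (MulAut.conj b⁻¹).toMonoidHom
    have hH : H ≤ stab F R q hq := by
      rintro _ ⟨α, hα, rfl⟩
      obtain ⟨g, hg, -, he⟩ := mem_autInducedBy.1 hα
      have hαF := autInducedBy_le (F := F) hRS (autInducedBy_mono (inf_le_left.trans inf_le_left) R hα)
      refine ⟨?_, ?_⟩
      · show b⁻¹ * α * b⁻¹⁻¹ ∈ _
        exact mul_mem (mul_mem (inv_mem hb) hαF) (inv_mem (inv_mem hb))
      · show im q (afun (b⁻¹ * α * b⁻¹⁻¹)) = q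
        rw [inv_inv]
        have e : ∀ x ∈ q, afun (b⁻¹ * α * b) x = (afun b⁻¹ ∘ (afun α ∘ afun b)) x := fun x hx => by
          simp only [Function.comp_apply]
          rw [afun_mul _ _ (hq hx), afun_mul _ _ (afun_mem _ (hq hx))]
        have hm := (hbm.restrict_to hq).comp (((mem_autGroup hRS).1 hαF).restrict_to hq'R)
          fun x hx => hq' ▸ apply_mem_im hx
        rw [im_congr e, ← hm.im_comp, ← (hbm.restrict_to hq).im_comp, hq',
          im_congr fun x hx => he x (hq'R hx), mem_normalizer_iff_im_cj.1 hg.2.2, ← hq',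
          (hbm.restrict_to hq).im_comp]
        exact (im_congr fun x hx => afun_inv_apply b (hq hx)).trans (im_id q)
    obtain ⟨c, hc, hcH⟩ := sylIn_absorb hsyl
      (((isPGroup_autInducedBy hS R).to_le
        (autInducedBy_mono (inf_le_left.trans inf_le_left) R)).map _) hH
    set d := a * c * b⁻¹ with hd
    have hdA : d ∈ F.autGroup R := mul_mem (mul_mem ha hc.1) (inv_mem hb)
    have hdm := (mem_autGroup hRS).1 hdA
    obtain ⟨e, he, heq⟩ := (receptive_iff.1 hR.2).2 R (afun d) W hdm (im_afun d)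
      (inf_le_left.trans inf_le_left) (inf_le_left.trans inf_le_right) fun g hg => by
        have h1 : nHom S R ⟨g, hg.1⟩ ∈ autInducedBy W R :=
          mem_autInducedBy.2 ⟨g, hg, hg.1.2, fun x hx => afun_nHom _ hx⟩
        have h2 := haR _ (hcH _ (Subgroup.mem_map_of_mem (MulAut.conj b⁻¹).toMonoidHom h1))
        obtain ⟨h, hh, -, hhe⟩ := mem_autInducedBy.1 h2
        refine ⟨h, hh, fun x hx => ?_⟩
        rw [← hhe _ (afun_mem d hx)]
        show afun d (cj g x) = afun (a * (c * (b⁻¹ * _ * b⁻¹⁻¹) * c⁻¹) * a⁻¹) (afun d x)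
        rw [← afun_nHom (⟨g, hg.1⟩ : ↥(S ⊓ Subgroup.normalizer (R : Set Ω))) hx,
          ← afun_mul _ _ hx, ← afun_mul _ _ hx]
        refine congrArg (fun m : MulAut R => afun m x) ?_
        rw [hd]; group
    have he' : Mor F W e := he.restrict_to le_sup_right
    have heR : im R e = R := (im_congr heq).trans (im_afun d)
    have heq' : im q' e = q0 := by
      rw [im_congr fun x hx => heq x (hq'R hx), ← hq', (hbm.restrict_to hq).im_comp]
      have e1 : ∀ x ∈ q, (afun d ∘ afun b) x = (afun a ∘ afun c) x := fun x hx => by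
        simp only [Function.comp_apply]
        rw [← afun_mul _ _ (hq hx), hd, inv_mul_cancel_right, afun_mul _ _ (hq hx)]
      rw [im_congr e1, ← (((mem_autGroup hRS).1 hc.1).restrict_to hq).im_comp, hc.2]
    refine ⟨e, he', heR, heq', fun u hu => ⟨⟨he'.apply_mem hu, ?_⟩, he'.apply_mem hu, ?_⟩⟩
    · show e u ∈ Subgroup.normalizer (R : Set Ω)
      have := FusionWeaklyNormal88.apply_normalizes he (le_sup_left : R ≤ R ⊔ W)
        (Subgroup.mem_sup_right hu) hu.1.2
      rwa [heR] at this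
    · show e u ∈ Subgroup.normalizer (q0 : Set Ω)
      have := FusionWeaklyNormal88.apply_normalizes he (hq'R.trans le_sup_left)
        (Subgroup.mem_sup_right hu) hu.2.2
      rwa [heq'] at this

/-- Two maps from subgroups around `Q` and `Q'` into a good subgroup, and the point they share. -/
theorem exists_moves (hS : IsPGroup p S) {Q R R' : Subgroup Ω} {f : Ω → Ω} (hf : Mor F R f)
    (hQR : Q ≤ R) (hRQ : R ≤ normalizerIn S Q) (hR' : F.IsConj R R') (hR'g : Good F p R') :
    ∃ q0 ≤ R', R' ≤ normalizerIn S q0 ∧ F.IsConj Q q0 ∧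
      (∀ h0 : q0 ≤ R',
        SylIn p (autInducedBy (normalizerIn S R' ⊓ normalizerIn S q0) R') (stab F R' q0 h0)) ∧
      (∃ k, Mor F (normalizerIn S R ⊓ normalizerIn S Q) k ∧ im R k = R' ∧ im Q k = q0 ∧
        ∀ u ∈ normalizerIn S R ⊓ normalizerIn S Q, k u ∈ normalizerIn S R' ⊓ normalizerIn S q0) ∧
      (∃ k, Mor F (normalizerIn S (im R f) ⊓ normalizerIn S (im Q f)) k ∧
        im (im R f) k = R' ∧ im (im Q f) k = q0 ∧
        ∀ u ∈ normalizerIn S (im R f) ⊓ normalizerIn S (im Q f),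
          k u ∈ normalizerIn S R' ⊓ normalizerIn S q0) := by
  have hRS : R ≤ S := hf.le
  have hR'S : R' ≤ S := hR'g.2.1
  obtain ⟨g1, hg1, hg1N, hg1R⟩ := exists_map_normalizer hS hR'g.1 hR'g.2 hR'
  set R2 := im R f with hR2
  have hR2R' : F.IsConj R2 R' := isConj_trans (isConj_symm (isConj_iff.2 ⟨f, hf, rfl⟩)) hR'
  obtain ⟨g2, hg2, hg2N, hg2R⟩ := exists_map_normalizer hS hR'g.1 hR'g.2 hR2R'
  have hRN := le_normalizerIn (S := S) hRS
  have hR2N := le_normalizerIn (S := S) hf.im_le
  have hQ2 : im Q f ≤ R2 := im_mono hQR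
  set q := im Q g1 with hq
  have hqR : q ≤ R' := hg1R ▸ im_mono hQR
  have hnq : R' ≤ normalizerIn S q := by
    intro r hr
    obtain ⟨r', hr', rfl⟩ := (hg1.restrict_to hRN).mem_im.1 (hg1R.ge hr)
    exact ⟨hg1.apply_mem (hRN hr'),
      FusionWeaklyNormal88.apply_normalizes hg1 (hQR.trans hRN) (hRN hr') (hRQ hr').2⟩
  obtain ⟨q0, hq0, hn0, hqq0, hsyl, hmv⟩ := exists_point hS hR'g hqR hnq
  obtain ⟨j, hj, hjg, -, hjR⟩ := (hg1.restrict_to hRN).exists_inv
  rw [hg1R] at hj hjR
  have hfj : Mor F R' (f ∘ j) := hj.comp hf hjR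
  have hbm : Mor F R' (g2 ∘ (f ∘ j)) :=
    hfj.comp hg2 fun y hy => hR2N (apply_mem_im (hjR y hy))
  obtain ⟨b, hb, hbe⟩ := hbm.exists_aut
    (hbm.im_self fun y hy => hg2R ▸ apply_mem_im (apply_mem_im (hjR y hy)))
  have hbq : im q (afun b) = im (im Q f) g2 := by
    rw [im_congr fun x hx => hbe x (hqR hx), hq, (hg1.restrict_to (hQR.trans hRN)).im_comp,
      (hf.restrict_to hQR).im_comp]
    exact im_congr fun x hx => by simp [hjg x (hQR hx)]
  refine ⟨q0, hq0, hn0, isConj_trans
    (isConj_iff.2 ⟨g1, hg1.restrict_to (hQR.trans hRN), rfl⟩) hqq0, hsyl, ?_, ?_⟩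
  · obtain ⟨e, he, heR, heq, hem⟩ := hmv 1 (one_mem _) q
      ((im_congr fun x hx => afun_one (hqR hx)).trans (im_id q))
    have hmem : ∀ u ∈ normalizerIn S R ⊓ normalizerIn S Q,
        g1 u ∈ normalizerIn S R' ⊓ normalizerIn S q := fun u hu =>
      ⟨hg1N u hu.1, hg1.apply_mem hu.1,
        FusionWeaklyNormal88.apply_normalizes hg1 (hQR.trans hRN) hu.1 hu.2.2⟩
    refine ⟨e ∘ g1, (hg1.restrict_to inf_le_left).comp he hmem, ?_, ?_,
      fun u hu => hem _ (hmem u hu)⟩
    · rw [← (hg1.restrict_to hRN).im_comp, hg1R, heR]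
    · rw [← (hg1.restrict_to (hQR.trans hRN)).im_comp, ← hq, heq]
  · obtain ⟨e, he, heR, heq, hem⟩ := hmv b hb _ hbq
    have hmem : ∀ u ∈ normalizerIn S R2 ⊓ normalizerIn S (im Q f),
        g2 u ∈ normalizerIn S R' ⊓ normalizerIn S (im (im Q f) g2) := fun u hu =>
      ⟨hg2N u hu.1, hg2.apply_mem hu.1,
        FusionWeaklyNormal88.apply_normalizes hg2 (hQ2.trans hR2N) hu.1 hu.2.2⟩
    refine ⟨e ∘ g2, (hg2.restrict_to inf_le_left).comp he hmem, ?_, ?_,
      fun u hu => hem _ (hmem u hu)⟩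
    · rw [← (hg2.restrict_to hR2N).im_comp, hg2R, heR]
    · rw [← (hg2.restrict_to (hQ2.trans hR2N)).im_comp, heq]

theorem im_le_normalizerIn {Q R : Subgroup Ω} {f : Ω → Ω} (hf : Mor F R f) (hQR : Q ≤ R)
    (hRQ : R ≤ normalizerIn S Q) : im R f ≤ normalizerIn S (im Q f) :=
  im_le_iff.2 fun r hr =>
    ⟨hf.apply_mem hr, FusionWeaklyNormal88.apply_normalizes hf hQR hr (hRQ hr).2⟩

/-- A map defined above the class links tops. -/
theorem tops_link (hS : IsPGroup p S) {n : ℕ} (hgood : GoodAbove F p n) :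
    ∀ {Q R : Subgroup Ω} {f : Ω → Ω}, Mor F R f → Q ≤ R → R ≤ normalizerIn S Q →
      n < Nat.card R → ∀ {T1 T2 : Subgroup Ω}, IsTop F T1 → IsTop F T2 → To F Q T1 →
        To F (im Q f) T2 → To F T1 T2 := by
  suffices ∀ d, ∀ {Q R : Subgroup Ω} {f : Ω → Ω}, Mor F R f → Q ≤ R → R ≤ normalizerIn S Q →
      n < Nat.card R → Nat.card S ≤ Nat.card R + d → ∀ {T1 T2 : Subgroup Ω}, IsTop F T1 →
        IsTop F T2 → To F Q T1 → To F (im Q f) T2 → To F T1 T2 from
    fun {_ _ _} hf hQR hRQ hn => this (Nat.card S) hf hQR hRQ hn (Nat.le_add_left _ _)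
  intro d
  induction d using Nat.strong_induction_on with
  | _ d ih =>
    -- both sides can be moved to a larger subgroup
    have caseA : ∀ {Q R : Subgroup Ω} {f : Ω → Ω}, Mor F R f → Q ≤ R → R ≤ normalizerIn S Q →
        n < Nat.card R → Nat.card S ≤ Nat.card R + d → R ≠ normalizerIn S Q →
        im R f ≠ normalizerIn S (im Q f) → ∀ {T1 T2 : Subgroup Ω}, IsTop F T1 →
        IsTop F T2 → To F Q T1 → To F (im Q f) T2 → To F T1 T2 := by
      intro Q R f hf hQR hRQ hn hd h1 h2 T1 T2 hT1 hT2 hQ1 hQ2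
      obtain ⟨R', hR', hR'g⟩ := hgood R hf.le hn
      obtain ⟨q0, hq0, -, -, -, ⟨k1, hk1, -, hk1q, -⟩, k2, hk2, -, hk2q, -⟩ :=
        exists_moves hS hf hQR hRQ hR' hR'g
      obtain ⟨T0, hq0T, hT0⟩ := exists_top (F := F) (hq0.trans hR'g.2.1)
      have hc1 := card_lt_inf hS hRQ h1
      have hc2 := card_lt_inf hS (im_le_normalizerIn hf hQR hRQ) h2
      rw [hf.card_im] at hc2
      have hS1 : Nat.card ↥(normalizerIn S R ⊓ normalizerIn S Q : Subgroup Ω) ≤ Nat.card S :=
        Subgroup.card_le_of_le (inf_le_left.trans inf_le_left)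
      refine To.trans ?_ (hT2.back (ih (d - 1) (by omega) hk2
        (le_inf ((im_mono hQR).trans (le_normalizerIn hf.im_le))
          (le_normalizerIn ((im_mono hQR).trans hf.im_le)))
        inf_le_right (by omega) (by omega) hT2 hT0 hQ2 (hk2q.symm ▸ hq0T)))
      exact ih (d - 1) (by omega) hk1
        (le_inf (hQR.trans (le_normalizerIn hf.le)) (le_normalizerIn (hQR.trans hf.le)))
        inf_le_right (by omega) (by omega) hT1 hT0 hQ1 (hk1q.symm ▸ hq0T)
    -- two tops of one subgroup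
    have two : ∀ {Q : Subgroup Ω}, n < Nat.card (normalizerIn S Q) →
        Nat.card S ≤ Nat.card (normalizerIn S Q) + d → ∀ {T1 T2 : Subgroup Ω}, IsTop F T1 →
        IsTop F T2 → To F Q T1 → To F Q T2 → To F T1 T2 := by
      intro Q hn hd T1 T2 hT1 hT2 hQ1 hQ2
      obtain ⟨hQS, f1, hf1, him1⟩ := hQ1
      obtain ⟨-, f2, hf2, him2⟩ := hQ2
      obtain ⟨j, hj, hjf, -, hjN⟩ := hf1.exists_inv
      have hR1 : im (normalizerIn S Q) f1 ≤ normalizerIn S T1 :=
        im_le_iff.2 fun x hx => mor_normalizer_mem hf1 hQS him1 hx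
      set h := f2 ∘ j with hh
      have hhm : Mor F (im (normalizerIn S Q) f1) h := hj.comp hf2 hjN
      have hhN : im (im (normalizerIn S Q) f1) h = im (normalizerIn S Q) f2 := by
        rw [hf1.im_comp]; exact im_congr fun x hx => by simp [hh, hjf x hx]
      have hhT : im T1 h = T2 := by
        rw [← him1, ← him2, (hf1.restrict_to (le_normalizerIn hQS)).im_comp]
        exact im_congr fun x hx => by simp [hh, hjf x (le_normalizerIn hQS hx)]
      have hT1R : T1 ≤ im (normalizerIn S Q) f1 := him1 ▸ im_mono (le_normalizerIn hQS)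
      by_cases e1 : im (normalizerIn S Q) f1 = normalizerIn S T1
      · exact ⟨hT1.1, h, e1 ▸ hhm, hhT⟩
      by_cases e2 : im (normalizerIn S Q) f2 = normalizerIn S T2
      · obtain ⟨i, hi, hih, -, -⟩ := hhm.exists_inv
        rw [hhN, e2] at hi
        refine hT2.back ⟨hT2.1, i, hi, ?_⟩
        rw [← hhT, (hhm.restrict_to hT1R).im_comp]
        exact (im_congr fun x hx => hih x (hT1R hx)).trans (im_id T1)
      exact caseA hhm hT1R hR1 (hf1.card_im.symm ▸ hn) (hf1.card_im.symm ▸ hd) e1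
        (by rwa [hhN, hhT]) hT1 hT2 (To.refl hT1.1) (hhT.symm ▸ To.refl hT2.1)
    intro Q R f hf hQR hRQ hn hd T1 T2 hT1 hT2 hQ1 hQ2
    by_cases e1 : R = normalizerIn S Q
    · refine two (e1 ▸ hn) (e1 ▸ hd) hT1 hT2 hQ1 (To.trans ⟨hQR.trans hf.le, f, e1 ▸ hf, rfl⟩ hQ2)
    by_cases e2 : im R f = normalizerIn S (im Q f)
    · have hc := hf.card_im
      rw [e2] at hc
      obtain ⟨i, hi, hif, -, -⟩ := hf.exists_inv
      rw [e2] at hi
      refine two (hc.symm ▸ hn) (hc.symm ▸ hd) hT1 hT2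
        (To.trans ⟨(im_mono hQR).trans hf.im_le, i, hi, ?_⟩ hQ1) hQ2
      rw [(hf.restrict_to hQR).im_comp]
      exact (im_congr fun x hx => hif x (hQR hx)).trans (im_id Q)
    exact caseA hf hQR hRQ hn hd e1 e2 hT1 hT2 hQ1 hQ2

/-- Two tops of one subgroup are linked. -/
theorem tops_equiv (hS : IsPGroup p S) {n : ℕ} (hgood : GoodAbove F p n) {Q : Subgroup Ω}
    (hQn : Nat.card Q = n) {T1 T2 : Subgroup Ω} (hT1 : IsTop F T1) (hT2 : IsTop F T2)
    (h1 : To F Q T1) (h2 : To F Q T2) : To F T1 T2 := by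
  rcases h1.1.eq_or_lt with hQ | hQ
  · have e : ∀ {T : Subgroup Ω}, To F Q T → T = Q := fun {T} h => by
      rw [hQ]; exact isConj_self_eq (hQ ▸ h.isConj)
    rw [e h1, e h2]
    exact To.refl h1.1
  · exact tops_link hS hgood (Q := Q) (mor_id (F := F) inf_le_left) (le_normalizerIn h1.1) le_rfl
      (hQn ▸ card_lt_nIn hS hQ) hT1 hT2 h1 ((im_id Q).symm ▸ h2)

end Cfsg.Agent.FusionTops
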