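import Cfsg.Agent.Lib.FusionCentralizerSub
import Cfsg.Agent.Lib.FusCentric
import Cfsg.Agent.Lib.FusionTops

/-!
For a normal subsystem `E` over `T` and an `E`-centric subgroup `P`, fully centralized in `F`, all
automorphisms of `P` in `E` extend to `P C_S(P)` moving `C_S(P)` only inside `P`
(`mem_wGroup_of_centric`).
-/

set_option autoImplicit false

namespace Cfsg.Agent.FusionNormalLifts

open Cfsg Cfsg.FusionSystem Cfsg.Agent.FusionSysBasic Cfsg.Agent.FusionSysSaturated
open Cfsg.Agent.FusionSysNormal Cfsg.Agent.FusionGoodLift Cfsg.Agent.FusionKit88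
open Cfsg.Agent.FusionSysNormalizer Cfsg.Agent.FusionCentralizerSub
open scoped Pointwise

variable {Ω : Type*} [Group Ω] {S T : Subgroup Ω} {F : FusionSystem S} {E : FusionSystem T} {p : ℕ}


variable [Finite S]

/-- Extensions moving the centralizer inside travel along maps. -/
theorem mem_wGroup_map {P Q : Subgroup Ω} (hP : P ≤ S) (hQ : Q ≤ S) {θ : Ω → Ω}
    (hθ : Mor F (P ⊔ centralizerIn S P) θ) (him : im P θ = Q)
    (hC : im (centralizerIn S P) θ = centralizerIn S Q)
    {a : MulAut P} {a' : MulAut Q} (he : ∀ x ∈ P, afun a' (θ x) = θ (afun a x))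
    (h : a' ∈ wGroup F hQ) : a ∈ wGroup F hP := by
  obtain ⟨f, hf, hfe, hfm⟩ := h
  obtain ⟨θi, hθi, hθiθ, hθθi, hθiP⟩ := hθ.exists_inv
  have himX : im (P ⊔ centralizerIn S P) θ = Q ⊔ centralizerIn S Q := by rw [im_sup hθ, him, hC]
  rw [himX] at hθi hθθi hθiP
  have hθX : ∀ x ∈ P ⊔ centralizerIn S P, θ x ∈ Q ⊔ centralizerIn S Q :=
    fun x hx => himX ▸ apply_mem_im hx
  have hQ' : ∀ y ∈ Q, f y ∈ Q := fun y hy => hfe y hy ▸ afun_mem a' hy
  have hfX := sup_map hf hQ'
  have hg : Mor F (P ⊔ centralizerIn S P) (θi ∘ (f ∘ θ)) :=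
    (hθ.comp hf hθX).comp hθi fun x hx => hfX _ (hθX x hx)
  refine ⟨_, hg, fun x hx => ?_, fun c hc => ?_⟩
  · simp only [Function.comp_apply]
    rw [hfe _ (him ▸ apply_mem_im hx), he x hx, hθiθ _ (Subgroup.mem_sup_left (afun_mem a hx))]
  · have hc' : c ∈ P ⊔ centralizerIn S P := Subgroup.mem_sup_right hc
    have hθc : θ c ∈ centralizerIn S Q := hC ▸ apply_mem_im hc
    obtain ⟨x, hx, hxe⟩ := (hθ.restrict_to le_sup_left).mem_im.1 (him.symm ▸ hfm _ hθc)
    have h1 : (θi ∘ (f ∘ θ)) c = c * x := by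
      simp only [Function.comp_apply]
      rw [← hθiθ (c * x) (mul_mem hc' (Subgroup.mem_sup_left hx)),
        hθ.map_mul hc' (Subgroup.mem_sup_left hx), hxe, mul_inv_cancel_left]
    rwa [h1, inv_mul_cancel_left]

variable [Fact p.Prime] (hS : IsPGroup p S) (hF : F.IsSaturated p)

include hS hF

omit [Fact p.Prime] hS hF in
/-- If the centralizers match, the image of a fully centralized subgroup is fully centralized,
with the centralizer as the image of the centralizer. -/
theorem cent_image {P : Subgroup Ω} (hP : F.IsFullyCentralized P) {θ : Ω → Ω}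
    (hθ : Mor F (P ⊔ centralizerIn S P) θ) :
    im (centralizerIn S P) θ = centralizerIn S (im P θ) ∧ F.IsFullyCentralized (im P θ) := by
  have hc : F.IsConj P (im P θ) :=
    FusionSysBasic.isConj_iff.2 ⟨θ, hθ.restrict_to le_sup_left, rfl⟩
  have hle : im (centralizerIn S P) θ ≤ centralizerIn S (im P θ) := im_le_iff.2 fun x hx =>
    apply_cent hθ le_sup_left (Subgroup.mem_sup_right hx) hx
  have hC := hθ.restrict_to (le_sup_right : centralizerIn S P ≤ P ⊔ centralizerIn S P)
  have e := eq_of_le_of_card_ge (S := S) inf_le_left hle (by rw [hC.card_im]; exact hP.2 _ hc)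
  refine ⟨e, isConj_right_le hc, fun R hR => (hP.2 R (isConj_trans hc hR)).trans ?_⟩
  exact (hC.card_im.symm.trans (congrArg (fun A : Subgroup Ω => Nat.card A) e)).le

omit hS hF in
/-- The subgroups stabilizing `R ≤ X` in `S`. -/
theorem fullyK_stab {R : Subgroup Ω} (hR : F.IsFullyNormalized R) :
    FullyK F (R ⊔ centralizerIn S R) (FusionTops.stab F (R ⊔ centralizerIn S R) R le_sup_left) := by
  set X := R ⊔ centralizerIn S R with hX
  have hXS : X ≤ S := sup_le hR.1 inf_le_left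
  refine ⟨hXS, fun φ hφ => ?_⟩
  have hφR := hφ.restrict_to (le_sup_left : R ≤ X)
  have h1 : nK S (im X φ) ((FusionTops.stab F X R le_sup_left).map
      (hφ.transport rfl).toMonoidHom) ≤ normalizerIn S (im R φ) := by
    intro g hg
    obtain ⟨hgS, κ, hκ, he⟩ := (mem_nK_transport hφ rfl).1 hg
    refine ⟨hgS, mem_normalizer_of_cj_le hφR.im_le fun y hy => ?_⟩
    obtain ⟨x, hx, rfl⟩ := hφR.mem_im.1 hy
    rw [he x (Subgroup.mem_sup_left hx)]
    exact apply_mem_im (hκ.2.le (apply_mem_im hx))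
  have h2 : normalizerIn S R ≤ nK S X (FusionTops.stab F X R le_sup_left) := by
    intro g hg
    have hm := mor_cj (F := F) hXS hg.1
    have himX : im X (cj g) = X := by
      refine hm.im_self fun x hx => mor_sup_induction hm
        (fun a ha => Subgroup.mem_sup_left (cj_mem_of_normalizer hg.2 ha))
        (fun c hc => Subgroup.mem_sup_right ?_) hx
      have := apply_cent hm le_sup_left (Subgroup.mem_sup_right hc) hc
      rwa [mem_normalizer_iff_im_cj.1 hg.2] at this
    obtain ⟨κ, hκ, he⟩ := hm.exists_aut himX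
    refine ⟨hg.1, κ, ⟨hκ, ?_⟩, he⟩
    exact (im_congr fun x hx => he x (Subgroup.mem_sup_left hx)).trans
      (mem_normalizer_iff_im_cj.1 hg.2)
  haveI := finite_normalizerIn (S := S) (im R φ)
  haveI : Finite ↥(nK S X (FusionTops.stab F X R le_sup_left)) := finite_of_le nK_le
  exact ((Subgroup.card_le_of_le h1).trans (hR.2 _ (FusionSysBasic.isConj_iff.2 ⟨φ, hφR, rfl⟩))).trans
    (Subgroup.card_le_of_le h2)

/-- An automorphism of `R C_S(R)`, `R` fully normalized, fixing `R` and moving `C_S(R)` only inside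
`R` is a conjugation by an element of `S`. -/
theorem exists_cj_of_stabilizing {R : Subgroup Ω} (hR : F.IsFullyNormalized R)
    {k : MulAut ↥(R ⊔ centralizerIn S R)} (hk : k ∈ F.autGroup (R ⊔ centralizerIn S R))
    (hfix : ∀ x ∈ R, afun k x = x) (hmove : ∀ d ∈ centralizerIn S R, d⁻¹ * afun k d ∈ R) :
    ∃ s ∈ S, ∀ x ∈ R ⊔ centralizerIn S R, afun k x = cj s x := by
  have hXS : (R ⊔ centralizerIn S R) ≤ S := sup_le hR.1 inf_le_left
  haveI := finite_of_le hXS
  haveI := finite_autGroup (F := F) (R ⊔ centralizerIn S R)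
  set St := FusionTops.stab F (R ⊔ centralizerIn S R) R le_sup_left with hSt
  have hcentd : ∀ {a : MulAut ↥(R ⊔ centralizerIn S R)}, a ∈ St → ∀ d ∈ centralizerIn S R,
      afun a d ∈ centralizerIn S R :=
    fun {a} ha => cent_map ((mem_autGroup hXS).1 ha.1) fun x hx => ha.2.le (apply_mem_im hx)
  let K : Subgroup (MulAut ↥(R ⊔ centralizerIn S R)) :=
    { carrier := {a | a ∈ St ∧ (∀ x ∈ R, afun a x = x) ∧
        ∀ d ∈ centralizerIn S R, d⁻¹ * afun a d ∈ R}
      one_mem' := ⟨one_mem _, fun x hx => afun_one (Subgroup.mem_sup_left hx), fun d hd => by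
        rw [afun_one (Subgroup.mem_sup_right hd), inv_mul_cancel]; exact R.one_mem⟩
      mul_mem' := fun {a b} ⟨ha, ha', ha''⟩ ⟨hb, hb', hb''⟩ => ⟨mul_mem ha hb,
        fun x hx => by rw [afun_mul _ _ (Subgroup.mem_sup_left hx), hb' x hx, ha' x hx],
        fun d hd => by
          rw [afun_mul _ _ (Subgroup.mem_sup_right hd)]
          have := R.mul_mem (hb'' d hd) (ha'' _ (hcentd hb d hd))
          simpa [mul_assoc] using this⟩
      inv_mem' := fun {a} ⟨ha, ha', ha''⟩ => ⟨inv_mem ha,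
        fun x hx => by
          conv_lhs => rw [← ha' x hx]
          exact afun_inv_apply a (Subgroup.mem_sup_left hx),
        fun d hd => by
          have := R.inv_mem (ha'' _ (hcentd (inv_mem ha) d hd))
          rw [afun_apply_inv a (Subgroup.mem_sup_right hd)] at this
          simpa using this⟩ }
  have hKp : IsPGroup p K := fun a => by
    obtain ⟨j, hj⟩ := pow_eq_one_of_stabilizes (hS.to_le hXS) (n := 2)
      (fun i => if i = 0 then ⊥ else if i = 1 then R else (R ⊔ centralizerIn S R)) rfl rfl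
      (fun i => by split_ifs <;> simp) (fun i hi => by
        interval_cases i <;> simp) (α := (a : MulAut ↥(R ⊔ centralizerIn S R))) (fun i hi y hy => by
        interval_cases i
        · simp only [zero_add, if_neg one_ne_zero, if_pos rfl] at hy
          simp [a.2.2.1 y hy]
        · simp only [if_neg one_ne_zero, if_pos rfl]
          simp only [show (1 + 1 = 0) = False by simp, show (1 + 1 = 1) = False by simp,
            if_false] at hy
          have hn : R ≤ Subgroup.normalizer (centralizerIn S R : Set Ω) := fun r hr => by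
            refine mem_normalizer_of_cj_le inf_le_left fun d hd => ?_
            rwa [(mem_centralizerIn.1 hd).2 r hr |> fun h => show cj r d = d from ?_]
            rw [cj_apply, mul_inv_eq_iff_eq_mul] at h
            rw [cj_apply, mul_inv_eq_iff_eq_mul]
            exact h.symm
          obtain ⟨r, hr, d, hd, rfl⟩ : ∃ r ∈ R, ∃ d ∈ centralizerIn S R, r * d = y := by
            have h1 : y ∈ (R : Set Ω) * (centralizerIn S R : Set Ω) := by
              rw [← Subgroup.coe_mul_of_left_le_normalizer_right _ _ hn]; exact hy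
            obtain ⟨r, hr, d, hd, e⟩ := Set.mem_mul.1 h1
            exact ⟨r, hr, d, hd, e⟩
          rw [afun_map_mul _ (Subgroup.mem_sup_left hr) (Subgroup.mem_sup_right hd),
            a.2.2.1 r hr, mul_inv_rev, mul_assoc, inv_mul_cancel_left]
          exact a.2.2.2 d hd)
    exact ⟨j, Subtype.ext (by simpa using hj)⟩
  have hkK : k ∈ K := ⟨⟨hk, (im_congr hfix).trans (im_id R)⟩, hfix, hmove⟩
  obtain ⟨-, hsyl⟩ := fullyK_spec hS hF (fullyK_stab hR)
  haveI : Finite ↥(F.autGroup (R ⊔ centralizerIn S R) ⊓ FusionTops.stab F (R ⊔ centralizerIn S R) R le_sup_left : Subgroup (MulAut ↥(R ⊔ centralizerIn S R))) :=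
    Finite.of_injective _ (Subgroup.inclusion_injective inf_le_left)
  obtain ⟨a, ha, haK⟩ := sylIn_absorb hsyl hKp fun b hb => ⟨hb.1.1, hb.1⟩
  have hmem : a⁻¹ * k * a ∈ K := by
    have haS : a ∈ St := ha.2
    refine ⟨mul_mem (mul_mem (inv_mem haS) hkK.1) haS, fun x hx => ?_, fun d hd => ?_⟩
    · rw [afun_mul _ _ (Subgroup.mem_sup_left hx), afun_mul _ _ (afun_mem a (Subgroup.mem_sup_left hx)),
        hfix _ (haS.2.le (apply_mem_im hx)), afun_inv_apply a (Subgroup.mem_sup_left hx)]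
    · have hd' := hcentd haS d hd
      have hdX : d ∈ (R ⊔ centralizerIn S R) := Subgroup.mem_sup_right hd
      rw [afun_mul _ _ hdX, afun_mul _ _ (afun_mem a hdX)]
      have hr := hmove _ hd'
      have h3 : afun a⁻¹ (afun k (afun a d)) = d * afun a⁻¹ ((afun a d)⁻¹ * afun k (afun a d)) := by
        conv_lhs => rw [← mul_inv_cancel_left (afun a d) (afun k (afun a d))]
        rw [afun_map_mul _ (afun_mem a hdX) (Subgroup.mem_sup_left hr), afun_inv_apply a hdX]
      rw [h3, inv_mul_cancel_left]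
      exact (inv_mem haS : a⁻¹ ∈ St).2.le (apply_mem_im hr)
  have h2 := (haK _ hmem).1
  rw [show a * (a⁻¹ * k * a) * a⁻¹ = k by group] at h2
  obtain ⟨s, hs, -, hse⟩ := mem_autInducedBy.1 h2
  exact ⟨s, hs, hse⟩

/-- If `e` on a normal overgroup `R` of `P` lies in `wGroup`, so does its restriction to `P`. -/
theorem mem_wGroup_step (hE : E.IsNormalIn F p) {P R : Subgroup Ω} (hP : E.IsCentric P)
    (hfc : F.IsFullyCentralized P) (hR : F.IsFullyNormalized R) (hPR : P ≤ R) (hRT : R ≤ T)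
    (hRn : R ≤ Subgroup.normalizer (P : Set Ω))
    (hCR : centralizerIn S P ≤ Subgroup.normalizer (R : Set Ω))
    {e : MulAut R} (he : e ∈ E.autGroup R) (hco : (orderOf e).Coprime p)
    (hw : e ∈ wGroup F hR.1) (heP : ∀ x ∈ P, afun e x ∈ P) {β : MulAut P}
    (hβ : ∀ x ∈ P, afun e x = afun β x) : β ∈ wGroup F hfc.1 := by
  have hI := hE.1.2.2
  have hTS : T ≤ S := hI.2.1.1
  have hEs := hE.1.1
  have hPT : P ≤ T := hPR.trans hRT
  have hRfc := fullyCentralized_of_fullyNormalized hS hF hR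
  haveI := finite_of_le hTS
  haveI := finite_of_le hR.1
  haveI := finite_of_le hfc.1
  set C := centralizerIn S P with hC
  set D := centralizerIn S R with hD
  set X := R ⊔ D with hX
  have hXS : X ≤ S := sup_le hR.1 inf_le_left
  have hDC : D ≤ C := fun d hd => mem_centralizerIn.2
    ⟨(mem_centralizerIn.1 hd).1, fun x hx => (mem_centralizerIn.1 hd).2 x (hPR hx)⟩
  obtain ⟨b, hb, hbe⟩ := exists_lift hRfc hw hco
  -- `b` moves `C_S(R)` only in `Z(P)`
  have hRD : ∀ z ∈ R, z ∈ D → z ∈ P := fun z hz hzD => hP.2 P (FusionSysBasic.isConj_refl hPT)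
    (mem_centralizerIn.2 ⟨hRT hz, fun x hx => (mem_centralizerIn.1 hzD).2 x (hPR hx)⟩)
  have hbmove : ∀ d ∈ D, d⁻¹ * b d ∈ P := fun d hd =>
    hRD _ (hb.move d hd) (D.mul_mem (D.inv_mem hd) (hb.mem_cent hd))
  have hbX := sup_map hb.mor hb.stab
  have hbR : ∀ x ∈ R, afun e⁻¹ x ∈ R := fun x hx => afun_mem _ hx
  obtain ⟨B, hB, hBe⟩ := hb.mor.exists_aut (hb.mor.im_self hbX)
  -- the commutators with `C_S(P)`
  have hkey : ∀ c ∈ C, ∃ z ∈ P, z ∈ C ∧ ∀ x ∈ R, afun e (cj c x) = cj (z * c) (afun e x) := by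
    intro c hc
    have hcS := (mem_centralizerIn.1 hc).1
    set y := nHom S R ⟨c, hcS, hCR hc⟩ with hy
    have hyF : y ∈ F.autGroup R :=
      autInducedBy_le hR.1 ((autInducedBy_eq_range S R).ge ⟨_, rfl⟩)
    have hm : e * (y * e⁻¹ * y⁻¹) ∈ E.autGroup R :=
      mul_mem he (conj_mem_autGroup hI hRT hyF (inv_mem he))
    have hcfix : ∀ x ∈ P, cj c x = x := (mem_centralizerIn.1 hc).2
    have hcfix' : ∀ x ∈ P, cj c⁻¹ x = x := fun x hx => by
      conv_lhs => rw [← hcfix x hx]
      exact cj_inv_cj c x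
    have heP' : ∀ x ∈ P, afun e⁻¹ x ∈ P := fun x hx => by
      have hm := ((mem_autGroup hRT).1 he).restrict_to hPR
      obtain ⟨w, hw', rfl⟩ := hm.mem_im.1 ((hm.im_self heP).ge hx)
      rwa [afun_inv_apply e (hPR hw')]
    have hval : ∀ x ∈ R, afun (e * (y * e⁻¹ * y⁻¹)) x = afun e (cj c (afun e⁻¹ (cj c⁻¹ x))) := by
      intro x hx
      have hx' : afun y⁻¹ x = cj c⁻¹ x := by
        rw [hy, ← map_inv]
        exact afun_nHom _ hx
      rw [afun_mul _ _ hx, afun_mul _ _ hx, afun_mul _ _ (afun_mem _ hx), hx',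
        afun_nHom _ (afun_mem _ (hx' ▸ afun_mem _ hx))]
    obtain ⟨z, hzP, hzC, hze⟩ := FusCentric.extension_unique (hS.to_le hTS) hEs hP hPR hRn
      ((mem_autGroup hRT).1 hm) (mor_id hRT) (fun x hx => by
        rw [hval x (hPR hx), hcfix' x hx, hcfix _ (heP' x hx), afun_apply_inv e (hPR hx)])
    refine ⟨z, hzP, mem_centralizerIn.2 ⟨hTS (mem_centralizerIn.1 hzC).1,
      (mem_centralizerIn.1 hzC).2⟩, fun x hx => ?_⟩
    have hx' := afun_mem e hx
    have hcx : cj c (afun e x) ∈ R := cj_mem_of_normalizer (hCR hc) hx'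
    have h1 := hze _ hcx
    rw [hval _ hcx, cj_inv_cj, afun_inv_apply e hx, cj_cj] at h1
    exact h1
  have hcentd : ∀ c ∈ C, ∀ d ∈ D, cj c d ∈ D := fun c hc d hd => by
    refine mem_centralizerIn.2 ⟨cj_mem_S (mem_centralizerIn.1 hc).1 (mem_centralizerIn.1 hd).1,
      fun x hx => ?_⟩
    conv_lhs => rw [← cj_cj_inv c x]
    have hx' := cj_mem_of_normalizer (inv_mem (hCR hc)) hx
    rw [cj_cj, show cj c d * c = c * d by simp [cj_apply], ← cj_cj,
      (mem_centralizerIn.1 hd).2 _ hx', cj_cj_inv]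
  have hCX : C ≤ Subgroup.normalizer (X : Set Ω) := fun c hc => by
    have hm := mor_cj (F := F) hXS (mem_centralizerIn.1 hc).1
    exact mem_normalizer_of_cj_le hXS fun x hx => mor_sup_induction hm
      (fun r hr => Subgroup.mem_sup_left (cj_mem_of_normalizer (hCR hc) hr))
      (fun d hd => Subgroup.mem_sup_right (hcentd c hc d hd)) hx
  -- `b` extends to `C_S(P)`
  have hind : ∀ c ∈ C, ∃ h ∈ S, ∀ x ∈ X, b (cj c x) = cj h (b x) := by
    intro c hc
    obtain ⟨z, hzP, hzC, hze⟩ := hkey c hc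
    have hcS := (mem_centralizerIn.1 hc).1
    have hzc : z * c ∈ S := S.mul_mem (hTS (hPT hzP)) hcS
    have hzcX : z * c ∈ Subgroup.normalizer (X : Set Ω) := mul_mem (hCX hzC) (hCX hc)
    set Y := nHom S X ⟨c, hcS, hCX hc⟩ with hY
    set W := nHom S X ⟨z * c, hzc, hzcX⟩ with hW
    have hYF : ∀ g, nHom S X g ∈ F.autGroup X := fun g =>
      autInducedBy_le hXS ((autInducedBy_eq_range S X).ge ⟨g, rfl⟩)
    set k := W⁻¹ * (B * Y * B⁻¹) with hk
    have hval : ∀ w ∈ X, afun k (b w) = cj (z * c)⁻¹ (b (cj c w)) := by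
      intro w hw
      have hbw : b w ∈ X := hbX w hw
      rw [hk, afun_mul _ _ hbw, afun_mul _ _ hbw, afun_mul _ _ (afun_mem _ hbw), ← hBe w hw,
        afun_inv_apply B hw, afun_nHom _ hw, hBe _ (cj_mem_of_normalizer (hCX hc) hw), hW,
        ← map_inv, afun_nHom _ (hbX _ (cj_mem_of_normalizer (hCX hc) hw))]
      rfl
    have hkF : k ∈ F.autGroup X :=
      mul_mem (inv_mem (hYF _)) (mul_mem (mul_mem hB (hYF _)) (inv_mem hB))
    have hfixk : ∀ x ∈ R, afun k x = x := by
      intro x hx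
      obtain ⟨w, hw, rfl⟩ : ∃ w ∈ R, afun e w = x :=
        ⟨afun e⁻¹ x, afun_mem _ hx, afun_apply_inv e hx⟩
      rw [← hbe w hw, hval w (Subgroup.mem_sup_left hw), hbe _ (cj_mem_of_normalizer (hCR hc) hw),
        hze w hw, cj_inv_cj, hbe w hw]
    have hmovek : ∀ d ∈ D, d⁻¹ * afun k d ∈ R := by
      intro d hd
      obtain ⟨w, hw, rfl⟩ : ∃ w ∈ D, b w = d := by
        have hdX : d ∈ X := Subgroup.mem_sup_right hd
        refine ⟨afun B⁻¹ d, cent_map ((mem_autGroup hXS).1 (inv_mem hB)) (fun x hx => ?_) d hd, ?_⟩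
        · obtain ⟨v, hv, rfl⟩ := (hb.mor.restrict_to le_sup_left).mem_im.1
            (((hb.mor.restrict_to le_sup_left).im_self hb.stab).ge hx)
          rw [← hBe v (Subgroup.mem_sup_left hv), afun_inv_apply B (Subgroup.mem_sup_left hv)]
          exact hv
        · rw [← hBe _ (afun_mem _ hdX), afun_apply_inv B hdX]
      rw [hval w (Subgroup.mem_sup_right hw)]
      have hcw := hcentd c hc w hw
      set u1 := w⁻¹ * b w with hu1
      set u2 := (cj c w)⁻¹ * b (cj c w) with hu2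
      have hu1P : u1 ∈ P := hbmove w hw
      have hu2P : u2 ∈ P := hbmove _ hcw
      have hu2' : cj (z * c)⁻¹ u2 = u2 := by
        have h1 : cj (z * c) u2 = u2 := by
          rw [← cj_cj, (mem_centralizerIn.1 hc).2 _ hu2P, (mem_centralizerIn.1 hzC).2 _ hu2P]
        conv_lhs => rw [← h1]
        exact cj_inv_cj _ _
      have hzw : cj z (cj c w) = cj c w := by
        have := (mem_centralizerIn.1 hcw).2 z (hPR hzP)
        rw [cj_apply, mul_inv_eq_iff_eq_mul] at this
        rw [cj_apply, mul_inv_eq_iff_eq_mul]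
        exact this.symm
      have h4 : cj (z * c)⁻¹ (cj c w) = w := by
        conv_lhs => rw [← hzw]
        rw [cj_cj z c w, cj_inv_cj]
      have h3 : cj (z * c)⁻¹ (b (cj c w)) = w * u2 := by
        rw [show b (cj c w) = cj c w * u2 by rw [hu2, mul_inv_cancel_left],
          show cj (z * c)⁻¹ (cj c w * u2) = cj (z * c)⁻¹ (cj c w) * cj (z * c)⁻¹ u2 by
            simp [cj_apply, mul_assoc], hu2', h4]
      rw [h3, show b w = w * u1 by rw [hu1, mul_inv_cancel_left]]
      rw [show (w * u1)⁻¹ * (w * u2) = u1⁻¹ * u2 by group]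
      exact hPR (P.mul_mem (P.inv_mem hu1P) hu2P)
    obtain ⟨s, hs, hse⟩ := exists_cj_of_stabilizing hS hF hR hkF hfixk hmovek
    refine ⟨z * c * s, S.mul_mem hzc hs, fun x hx => ?_⟩
    rw [← cj_cj, ← hse _ (hbX x hx), hval x hx, cj_cj_inv]
  obtain ⟨g, hg, hgb⟩ := (receptive_iff.1 (receptive_of_fullyK hS hF (fullyK_stab hR))).2 X b C
    hb.mor (hb.mor.im_self hbX) inf_le_left hCX hind
  have hPX : P ≤ X := hPR.trans le_sup_left
  have hgP : ∀ x ∈ P, g x ∈ P := fun x hx => by
    rw [hgb x (hPX hx), hbe x (hPR hx)]; exact heP x hx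
  have hPC : P ⊔ C ≤ X ⊔ C := sup_le_sup_right hPX C
  have hgC : ∀ c ∈ C, g c ∈ C := cent_map (hg.restrict_to hPC) hgP
  have hgU : ∀ x ∈ X ⊔ C, g x ∈ X ⊔ C := fun x hx => mor_sup_induction hg
    (fun a ha => Subgroup.mem_sup_left (hgb a ha ▸ hbX a ha))
    (fun c hc => Subgroup.mem_sup_right (hgC c hc)) hx
  obtain ⟨G, hG, hGe⟩ := hg.exists_aut (hg.im_self hgU)
  haveI := finite_of_le hg.le
  obtain ⟨e0, hec, hea⟩ := exists_pow_coprime (p := p) G
  have hRU : R ≤ X ⊔ C := le_sup_left.trans le_sup_left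
  have hGR : ∀ x ∈ R, afun G x = afun e x := fun x hx => by
    rw [hGe x (hRU hx), hgb x (Subgroup.mem_sup_left hx), hbe x hx]
  have hee : e ^ e0 = e := hea e (afun_ext fun x hx => by
    rw [← pow_restrict hRU hGR _ x hx, pow_orderOf_eq_one, afun_one (hRU hx), afun_one hx]) hco
  set H := G ^ e0 with hH
  have hHR : ∀ x ∈ R, afun H x = afun e x := fun x hx => by
    rw [pow_restrict hRU hGR _ x hx, hee]
  have hHm : Mor F (X ⊔ C) (afun H) := (mem_autGroup hg.le).1 (pow_mem hG _)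
  have hHP : ∀ x ∈ P, afun H x ∈ P := fun x hx => by rw [hHR x (hPR hx)]; exact heP x hx
  have hHC : ∀ c ∈ C, afun H c ∈ C := cent_map (hHm.restrict_to hPC) hHP
  have hHD : ∀ d ∈ D, afun H d ∈ D := cent_map (hHm.restrict_to le_sup_left)
    fun x hx => by rw [hHR x hx]; exact afun_mem e hx
  have hGD : ∀ k : ℕ, ∀ d ∈ D, d⁻¹ * afun (G ^ k) d ∈ P := by
    intro k
    induction k with
    | zero => intro d hd; rw [pow_zero, afun_one (Subgroup.mem_sup_left (Subgroup.mem_sup_right hd)),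
        inv_mul_cancel]; exact P.one_mem
    | succ k ih =>
      intro d hd
      have hd1 : afun G d ∈ D := by
        rw [hGe d (Subgroup.mem_sup_left (Subgroup.mem_sup_right hd)),
          hgb d (Subgroup.mem_sup_right hd)]
        exact hb.mem_cent hd
      rw [pow_succ, afun_mul _ _ (Subgroup.mem_sup_left (Subgroup.mem_sup_right hd))]
      have h1 : d⁻¹ * afun G d ∈ P := by
        rw [hGe d (Subgroup.mem_sup_left (Subgroup.mem_sup_right hd)),
          hgb d (Subgroup.mem_sup_right hd)]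
        exact hbmove d hd
      simpa [mul_assoc] using P.mul_mem h1 (ih _ hd1)
  have hU : ∀ c ∈ C, c ∈ X ⊔ C := fun c hc => Subgroup.mem_sup_right hc
  -- trivial action on `C_S(P)` modulo `P`
  have hfinal : ∀ c ∈ C, c⁻¹ * afun H c ∈ P := by
    intro c hc
    obtain ⟨z, hzP, hzC, hze⟩ := hkey c hc
    have hcz : c * z = z * c := by
      have := (mem_centralizerIn.1 hc).2 z hzP
      rwa [cj_apply, mul_inv_eq_iff_eq_mul] at this
    set d := (z * c)⁻¹ * afun H c with hd
    have hdD : d ∈ D := by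
      refine mem_centralizerIn.2 ⟨S.mul_mem (S.inv_mem (S.mul_mem (hTS (hPT hzP))
        (mem_centralizerIn.1 hc).1)) (hHm.apply_mem (hU c hc)), fun x hx => ?_⟩
      obtain ⟨w, hw, rfl⟩ : ∃ w ∈ R, afun e w = x :=
        ⟨afun e⁻¹ x, afun_mem _ hx, afun_apply_inv e hx⟩
      rw [hd, ← cj_cj]
      have h1 := hHm.map_cj (hU c hc) (hRU hw)
      rw [hHR w hw, hHR _ (cj_mem_of_normalizer (hCR hc) hw), hze w hw] at h1
      rw [← h1, cj_inv_cj]
    set w := c⁻¹ * afun H c with hw
    have hwe : w = z * d := by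
      have h1 : z * c⁻¹ = c⁻¹ * z := (show Commute z c from hcz.symm).inv_right.eq
      rw [hw, hd, mul_inv_rev, ← mul_assoc, ← mul_assoc, h1, mul_inv_cancel_right]
    have hwC : w ∈ C := C.mul_mem (C.inv_mem hc) (hHC c hc)
    have hzHz : afun H z ∈ P := hHP z hzP
    have hw0 : w⁻¹ * afun H w ∈ P := by
      rw [hwe, afun_map_mul _ (hU z hzC) (hU d (hDC hdD))]
      have hzC' : z⁻¹ * afun H z ∈ P := P.mul_mem (P.inv_mem hzP) hzHz
      have hcom := (mem_centralizerIn.1 (hDC hdD)).2 _ hzC'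
      rw [cj_apply, mul_inv_eq_iff_eq_mul] at hcom
      have e1 : (z * d)⁻¹ * (afun H z * afun H d) = z⁻¹ * afun H z * (d⁻¹ * afun H d) := by
        rw [mul_inv_rev]
        calc d⁻¹ * z⁻¹ * (afun H z * afun H d) = d⁻¹ * (z⁻¹ * afun H z * d) * (d⁻¹ * afun H d) := by
              simp [mul_assoc]
          _ = z⁻¹ * afun H z * (d⁻¹ * afun H d) := by rw [← hcom, inv_mul_cancel_left]
      rw [e1]
      exact P.mul_mem hzC' (hGD e0 d hdD)
    set z0 := w⁻¹ * afun H w with hz0
    have hz0C : ∀ n : ℕ, Commute (z0 ^ n) w := fun n => by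
      have := (mem_centralizerIn.1 hwC).2 _ (pow_mem hw0 n)
      rw [cj_apply, mul_inv_eq_iff_eq_mul] at this
      exact this.symm
    have hwk : ∀ k : ℕ, ∃ u ∈ P, afun (H ^ k) c = c * w ^ k * u := by
      intro k
      induction k with
      | zero => exact ⟨1, P.one_mem, by rw [pow_zero, afun_one (hU c hc)]; simp⟩
      | succ k ih =>
        obtain ⟨u, hu, hue⟩ := ih
        have hwk' : ∀ n : ℕ, afun H (w ^ n) = w ^ n * z0 ^ n := by
          intro n
          induction n with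
          | zero => simp [hHm.map_one]
          | succ n ihn =>
            rw [pow_succ, hHm.map_mul (hU _ (pow_mem hwC n)) (hU w hwC), ihn,
              show afun H w = w * z0 by rw [hz0, mul_inv_cancel_left], pow_succ z0,
              mul_assoc (w ^ n), ← mul_assoc (z0 ^ n), (hz0C n).eq]
            simp [mul_assoc]
        refine ⟨z0 ^ k * afun H u, P.mul_mem (pow_mem hw0 k) (hHP u hu), ?_⟩
        rw [pow_succ', afun_mul _ _ (hU c hc), hue,
          hHm.map_mul (mul_mem (hU c hc) (hU _ (pow_mem hwC k)))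
            (Subgroup.mem_sup_left (hPX hu)),
          hHm.map_mul (hU c hc) (hU _ (pow_mem hwC k)), hwk',
          show afun H c = c * w by rw [hw, mul_inv_cancel_left]]
        rw [pow_succ']
        simp [mul_assoc]
    obtain ⟨u, hu, hue⟩ := hwk (orderOf H)
    rw [pow_orderOf_eq_one, afun_one (hU c hc), mul_assoc] at hue
    have h1 : w ^ orderOf H ∈ P := by
      have := (left_eq_mul.1 hue)
      rw [eq_inv_of_mul_eq_one_left this]
      exact P.inv_mem hu
    obtain ⟨j, hj⟩ := hS ⟨w, (mem_centralizerIn.1 hwC).1⟩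
    have h2 : w ^ p ^ j = 1 := congrArg Subtype.val hj
    exact FusionWeaklyNormal88.mem_of_coprime_pow (hec.pow_right j) h1 (h2 ▸ P.one_mem)
  exact ⟨afun H, hHm.restrict_to hPC, fun x hx => by rw [hHR x (hPR hx), hβ x hx], hfinal⟩

/-- Every automorphism in `E` of an `E`-centric subgroup fully centralized in `F` extends to the
centralizer, moving it only inside the subgroup. -/
theorem mem_wGroup_of_centric (hE : E.IsNormalIn F p) {P : Subgroup Ω} (hP : E.IsCentric P)
    (hfc : F.IsFullyCentralized P) {a : MulAut P} (ha : a ∈ E.autGroup P) :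
    a ∈ wGroup F hfc.1 := by
  have hI := hE.1.2.2
  have hT := hI.2.1
  have hTS : T ≤ S := hT.1
  haveI := finite_of_le hTS
  suffices ∀ (n : ℕ) {P : Subgroup Ω}, Nat.card T - Nat.card P ≤ n → E.IsCentric P →
      (hn : F.IsFullyNormalized P) → ∀ a ∈ E.autGroup P, a ∈ wGroup F hn.1 by
    obtain ⟨Q, hPQ, hQ⟩ := FusionSysSaturated.exists_fullyNormalized (F := F) hfc.1
    obtain ⟨θ, hθ, -, hθQ⟩ := exists_map_to_fullyNormalized hS hF hQ hPQ
    have hθX : Mor F (P ⊔ centralizerIn S P) θ :=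
      hθ.restrict_to (sup_le (le_normalizerIn hfc.1) centralizerIn_le_normalizerIn)
    have hθP := hθX.restrict_to le_sup_left
    have hQc : E.IsCentric Q := hθQ ▸ FusionWeaklyNormal88.centric_image hI hP hθP
    refine mem_wGroup_map hfc.1 hQ.1 hθX hθQ (hθQ ▸ (cent_image hfc hθX).1)
      (fun x hx => hθP.afun_transport hθQ a hx) (this _ le_rfl hQc hQ _
        (FusionWeaklyNormal88.aut_transport hI hP.1 hθP hθQ ha))
  intro n
  induction n using Nat.strong_induction_on with
  | _ n ih =>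
  intro P hn hP hfn a ha
  have hfc := fullyCentralized_of_fullyNormalized hS hF hfn
  have hPT := hP.1
  rcases eq_or_lt_of_le hPT with rfl | hlt
  · exact mem_wGroup_of_normal hE ha
  set N := normalizerIn T P with hN
  have hPN : P ≤ N := le_normalizerIn hPT
  have hNT : N ≤ T := inf_le_left
  have hNS : N ≤ normalizerIn S P := inf_le_inf_right _ hTS
  have hEn : E.IsFullyNormalized P := fullyNormalized_sub hS hF hI.1 hT hPT hfn
  let M : Subgroup (MulAut P) := wGroup F hfn.1 ⊓ E.autGroup P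
  have hMn : ∀ b ∈ E.autGroup P, ∀ m ∈ M, b * m * b⁻¹ ∈ M := fun b hb m hm =>
    ⟨wGroup_normal hS hF hfc (mem_autGroup_of_mor (sub_mor hI.1 ((mem_autGroup hPT).1 hb))) hm.1,
      (E.autGroup P).mul_mem ((E.autGroup P).mul_mem hb hm.2) ((E.autGroup P).inv_mem hb)⟩
  have hind : ∀ t : ↥(T ⊓ Subgroup.normalizer (P : Set Ω)), nHom T P t ∈ M := fun t => by
    refine ⟨mem_wGroup_of_cj hfn.1 (hTS t.2.1) (fun x hx => afun_nHom t hx) fun c hc => ?_,
      autInducedBy_le hPT ((autInducedBy_eq_range T P).ge ⟨t, rfl⟩)⟩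
    refine hP.2 P (FusionSysBasic.isConj_refl hPT) (mem_centralizerIn.2 ⟨?_, ?_⟩)
    · rw [show c⁻¹ * cj (t : Ω) c = cj c⁻¹ t * (t : Ω)⁻¹ by simp [cj_apply, mul_assoc]]
      exact T.mul_mem (cj_mem_of_stronglyClosed hT (S.inv_mem (mem_centralizerIn.1 hc).1) t.2.1)
        (T.inv_mem t.2.1)
    · intro x hx
      have hc' : ∀ {d : Ω}, d ∈ centralizerIn S P → cj d x = x := fun hd =>
        (mem_centralizerIn.1 hd).2 x hx
      have hx' := cj_mem_of_normalizer (inv_mem t.2.2) hx
      have h1 : cj (cj (t : Ω) c) x = x := by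
        rw [show cj (t : Ω) c = t * c * (t : Ω)⁻¹ from rfl, ← cj_cj, ← cj_cj,
          (mem_centralizerIn.1 hc).2 _ hx', cj_cj_inv]
      rw [← cj_cj, h1, hc' (inv_mem hc)]
  have hpM : ∀ b ∈ E.autGroup P, (∃ k, orderOf b = p ^ k) → b ∈ M := by
    intro b hb ⟨k, hk⟩
    haveI := finite_autGroup (F := E) P
    obtain ⟨d, hd, hdb⟩ := sylIn_absorb
      (fullyAutomized_of_fullyNormalized (hS.to_le hTS) hE.1.1 hEn).2
      (IsPGroup.of_card (n := k) (by rw [Nat.card_zpowers, hk]))
      (Subgroup.zpowers_le.2 hb)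
    obtain ⟨g, hg⟩ := (autInducedBy_eq_range T P).le (hdb b (Subgroup.mem_zpowers b))
    have := hMn d⁻¹ (inv_mem hd) _ (hind g)
    rwa [hg, show d⁻¹ * (d * b * d⁻¹) * d⁻¹⁻¹ = b by group] at this
  obtain ⟨β, hβ, m, hm, -, rfl, f, hf, hfe⟩ := FusionFrattini88.frattini_ext (hS.to_le hTS) hE.1.1
    hEn M (fun b hb m hm _ => hMn b hb m hm) (N := N) le_rfl (fun g hg => hind ⟨g, hg⟩) ha
  refine mul_mem (?_ : β ∈ M).1 hm.1
  rw [sup_eq_right.2 hPN] at hf
  have hfP : im P f = P := (im_congr hfe).trans (im_afun β)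
  have hfN : ∀ x ∈ N, f x ∈ N := fun x hx => ⟨hf.apply_mem hx,
    hfP ▸ FusionWeaklyNormal88.apply_normalizes hf hPN hx hx.2⟩
  obtain ⟨e, he, hee⟩ := hf.exists_aut (hf.im_self hfN)
  haveI := finite_of_le (S := S) (hNT.trans hTS)
  have heβ : ∀ x ∈ P, afun e x = afun β x := fun x hx => by rw [hee x (hPN hx), hfe x hx]
  obtain ⟨i, o, ho, hio⟩ := Nat.exists_eq_pow_mul_and_not_dvd (orderOf_pos e).ne' p
    (Fact.out : p.Prime).ne_one
  have hoc : o.Coprime p := ((Fact.out : p.Prime).coprime_iff_not_dvd.2 ho).symm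
  refine FusionWeaklyNormal88.mem_of_coprime_pow (m := o) (n := p ^ i) (hoc.pow_right i)
    (hpM _ (pow_mem hβ _) ?_) ?_
  · refine (Nat.dvd_prime_pow (Fact.out : p.Prime)).1
      (orderOf_dvd_of_pow_eq_one (n := p ^ i) ?_) |>.imp fun k hk => hk.2
    refine afun_ext fun x hx => ?_
    rw [← pow_mul, mul_comm, ← hio, ← pow_restrict hPN heβ _ x hx, pow_orderOf_eq_one,
      afun_one (hPN hx), afun_one hx]
  -- the part of order prime to `p`
  refine ⟨?_, pow_mem hβ _⟩
  set e1 := e ^ p ^ i with he1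
  have he1E : e1 ∈ E.autGroup N := pow_mem he _
  have hco : (orderOf e1).Coprime p := Nat.Coprime.coprime_dvd_left
    (orderOf_dvd_of_pow_eq_one (by rw [he1, ← pow_mul, ← hio, pow_orderOf_eq_one])) hoc
  have he1β := pow_restrict hPN heβ (p ^ i)
  obtain ⟨R, hNR, hR⟩ := FusionSysSaturated.exists_fullyNormalized (F := F) (hNT.trans hTS)
  obtain ⟨ψ, hψ, -, hψR⟩ := exists_map_to_fullyNormalized hS hF hR hNR
  have hCN : centralizerIn S P ≤ normalizerIn S N := fun c hc =>
    ⟨(mem_centralizerIn.1 hc).1, mem_normalizer_of_cj_le (hNT.trans hTS) fun x hx => by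
      refine ⟨cj_mem_of_stronglyClosed hT (mem_centralizerIn.1 hc).1 hx.1, ?_⟩
      have hcn := (centralizerIn_le_normalizerIn (S := S) hc).2
      exact Subgroup.mul_mem _ (Subgroup.mul_mem _ hcn hx.2) (Subgroup.inv_mem _ hcn)⟩
  have hψX : Mor F (P ⊔ centralizerIn S P) ψ := hψ.restrict_to
    (sup_le (hPN.trans (le_normalizerIn (hNT.trans hTS))) hCN)
  have hψN : Mor F N ψ := hψ.restrict_to (le_normalizerIn (hNT.trans hTS))
  have hψP := hψN.restrict_to hPN
  obtain ⟨hC', hQfc⟩ := cent_image hfc hψX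
  set Q := im P ψ with hQ
  have hQc : E.IsCentric Q := FusionWeaklyNormal88.centric_image hI hP hψP
  have hQR : Q ≤ R := hψR ▸ im_mono hPN
  have hRT : R ≤ T := hψR ▸ im_le_iff.2 fun x hx => closed_apply hT hψN hNT hx
  have hlt' : Nat.card P < Nat.card R := by
    rw [← hψR, hψN.card_im]
    exact FusionFrattini88.card_lt_normalizerIn hS hTS hlt
  haveI := finite_of_le (S := T) hRT
  have hRT' : Nat.card R ≤ Nat.card T := Subgroup.card_le_of_le hRT
  have hw : hψN.transport hψR e1 ∈ wGroup F hR.1 :=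
    ih (Nat.card T - Nat.card R) (by omega) le_rfl
      (FusCentric.centric_upward hQc hQR hRT) hR _
      (FusionWeaklyNormal88.aut_transport hI hNT hψN hψR he1E)
  refine mem_wGroup_map hfn.1 hQfc.1 hψX hQ.symm hC'
    (a' := hψP.transport hQ.symm (β ^ p ^ i)) (fun x hx => hψP.afun_transport hQ.symm _ hx) ?_
  refine mem_wGroup_step hS hF hE hQc hQfc hR hQR hRT (fun y hy => ?_) (fun y hy => ?_)
    (FusionWeaklyNormal88.aut_transport hI hNT hψN hψR he1E) ?_ hw (fun y hy => ?_) fun y hy => ?_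
  · obtain ⟨x, hx, rfl⟩ := hψN.mem_im.1 (hψR.symm ▸ hy)
    exact FusionWeaklyNormal88.apply_normalizes hψN hPN hx hx.2
  · rw [← hC'] at hy
    obtain ⟨x, hx, rfl⟩ := (hψX.restrict_to le_sup_right).mem_im.1 hy
    rw [← hψR]
    exact FusionWeaklyNormal88.apply_normalizes hψ (le_normalizerIn (hNT.trans hTS)) (hCN hx)
      (hCN hx).2
  · rwa [MulEquiv.orderOf_eq]
  · obtain ⟨x, hx, rfl⟩ := hψP.mem_im.1 hy
    rw [hψN.afun_transport hψR _ (hPN hx), he1β x hx]
    exact apply_mem_im (afun_mem _ hx)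
  · obtain ⟨x, hx, rfl⟩ := hψP.mem_im.1 hy
    rw [hψN.afun_transport hψR _ (hPN hx), he1β x hx, hψP.afun_transport hQ.symm _ hx]

end Cfsg.Agent.FusionNormalLifts
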