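import Cfsg.Agent.Lib.FusionComponentExists
import Cfsg.Agent.Lib.FusionNormalLifts

/-!
The largest normal subgroup of a fusion system is centralized by every component
(`component_centralizes_core`).
-/

set_option autoImplicit false

namespace Cfsg.Agent.FusionLayerCore

open Cfsg Cfsg.FusionSystem Cfsg.Agent.FusionSysBasic Cfsg.Agent.FusionSysSaturated
open Cfsg.Agent.FusionSysNormal Cfsg.Agent.FusionKit88 Cfsg.Agent.FusionMorph88
open Cfsg.Agent.FusionGoodLift Cfsg.Agent.FusionCentralizerSub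
open scoped Pointwise commutatorElement

variable {Ω : Type*} [Group Ω] {S : Subgroup Ω} [Finite S] {F : FusionSystem S} {p : ℕ}
  [Fact p.Prime]

omit [Finite S] [Fact p.Prime] in
theorem cj_comm {a b : Ω} : cj a b = b ↔ cj b a = a := by
  simp only [cj_apply, mul_inv_eq_iff_eq_mul]
  exact eq_comm

/-- A normal subgroup meets a weakly normal subsystem in a normal subgroup. -/
theorem normal_inf (hS : IsPGroup p S) {T : Subgroup Ω} {E : FusionSystem T}
    (hE : E.IsWeaklyNormalIn F p) {R : Subgroup Ω} (hR : F.IsNormal R) : E.IsNormal (R ⊓ T) := by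
  obtain ⟨hEs, -, hsub, hT, -⟩ := hE
  have hTS : T ≤ S := hT.1
  haveI := finite_of_le hTS
  obtain ⟨n, X, hX0, hXn, hXmono, hXn', hXc⟩ := FusionSysChain.exists_chain_of_normal hS hR
  have hclosed : ∀ U : Subgroup Ω, F.StronglyClosed U → E.StronglyClosed (U ⊓ T) := fun U hU =>
    stronglyClosed_iff.mpr ⟨inf_le_right, fun P f hP hf x hx =>
      ⟨(stronglyClosed_iff.mp hU).2 P f (hP.trans inf_le_left) (sub_mor hsub hf) x hx,
        hf.apply_mem hx⟩⟩
  refine FusionSysChain.isNormal_of_chain (hS.to_le hTS) hEs (n := n) (fun i => X i ⊓ T)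
    (by simp [hX0]) (by simp [hXn]) (hclosed R (stronglyClosed_of_normal hR))
    (fun i _ => inf_le_inf_right T (hXmono (Nat.le_succ i)))
    (fun i _ => hclosed _ (stronglyClosed_of_normal (hXn' _))) fun i _ => ?_
  refine Subgroup.commutator_le.mpr fun a ha b hb => ⟨hXc i (Subgroup.commutator_mem_commutator
    ha.1 hb.1), ?_⟩
  rw [SetLike.mem_coe, commutatorElement_def]
  exact T.mul_mem (T.mul_mem (T.mul_mem ha.2 hb.2) (T.inv_mem ha.2)) (T.inv_mem hb.2)

/-- Every automorphism of a centric subgroup in a normal subsystem extends to the centralizer,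
moving it only inside the subgroup. -/
theorem mem_wGroup_centric (hS : IsPGroup p S) (hF : F.IsSaturated p) {T : Subgroup Ω}
    {E : FusionSystem T} (hE : E.IsNormalIn F p) {P : Subgroup Ω} (hP : E.IsCentric P)
    (hPS : P ≤ S) {a : MulAut P} (ha : a ∈ E.autGroup P) : a ∈ wGroup F hPS := by
  have hI := hE.1.2.2
  obtain ⟨P', hPP', hP'⟩ := FusionSysSaturated.exists_fullyNormalized (F := F) hPS
  obtain ⟨θ, hθ, -, hθP⟩ := exists_map_to_fullyNormalized hS hF hP' hPP'
  have hX : Mor F (P ⊔ centralizerIn S P) θ :=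
    hθ.restrict_to (sup_le (le_normalizerIn hPS) centralizerIn_le_normalizerIn)
  have hPr := hX.restrict_to le_sup_left
  have hc' : E.IsCentric P' := hθP ▸ FusionWeaklyNormal88.centric_image hI hP hPr
  obtain ⟨f, hf, hfe, hfm⟩ := FusionNormalLifts.mem_wGroup_of_centric hS hF hE hc'
    (fullyCentralized_of_fullyNormalized hS hF hP')
    (FusionWeaklyNormal88.aut_transport hI hP.1 hPr hθP ha)
  obtain ⟨θi, hθi, hθiθ, hθθi, hθiX⟩ := hX.exists_inv
  have hPim : P' ≤ im (P ⊔ centralizerIn S P) θ := hθP ▸ im_mono le_sup_left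
  have hCim : ∀ c ∈ centralizerIn S P, θ c ∈ centralizerIn S P' := fun c hc =>
    (mor_centralizer_iff hθ hPS hθP (centralizerIn_le_normalizerIn hc)).2 hc
  have hθX : ∀ x ∈ P ⊔ centralizerIn S P, θ x ∈ P' ⊔ centralizerIn S P' := fun x hx =>
    mor_sup_induction hX (fun y hy => Subgroup.mem_sup_left (hθP ▸ apply_mem_im hy))
      (fun y hy => Subgroup.mem_sup_right (hCim y hy)) hx
  have h1 : Mor F (P ⊔ centralizerIn S P) (f ∘ θ) := hX.comp hf hθX
  have hin : ∀ x ∈ P ⊔ centralizerIn S P, (f ∘ θ) x ∈ im (P ⊔ centralizerIn S P) θ := fun x hx =>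
    mor_sup_induction h1
      (fun y hy => hPim (by
        rw [Function.comp_apply, hfe _ (hθP ▸ apply_mem_im hy)]
        exact afun_mem _ (hθP ▸ apply_mem_im hy)))
      (fun y hy => by
        have h2 : f (θ y) = θ y * ((θ y)⁻¹ * f (θ y)) := (mul_inv_cancel_left _ _).symm
        rw [Function.comp_apply, h2]
        exact mul_mem (apply_mem_im (Subgroup.mem_sup_right hy)) (hPim (hfm _ (hCim y hy)))) hx
  refine ⟨θi ∘ (f ∘ θ), h1.comp hθi hin, fun x hx => ?_, fun c hc => ?_⟩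
  · simp only [Function.comp_apply]
    rw [hfe _ (hθP ▸ apply_mem_im hx), hPr.afun_transport hθP a hx,
      hθiθ _ (Subgroup.mem_sup_left (afun_mem a hx))]
  · have hc' : c ∈ P ⊔ centralizerIn S P := Subgroup.mem_sup_right hc
    obtain ⟨x, hx, hxe⟩ := hPr.mem_im.1 (hθP.symm ▸ hfm _ (hCim c hc))
    have h3 : (θi ∘ (f ∘ θ)) c = c * x := by
      simp only [Function.comp_apply]
      rw [← hθiθ (c * x) (mul_mem hc' (Subgroup.mem_sup_left hx)),
        hX.map_mul hc' (Subgroup.mem_sup_left hx), hxe, mul_inv_cancel_left]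
    rwa [h3, inv_mul_cancel_left]

omit [Finite S] in
/-- An automorphism of order prime to `p` whose restriction to `Q` is conjugation by a
`p`-element fixes `Q`. -/
theorem fix_of_cj (hS : IsPGroup p S) {U Q : Subgroup Ω} (hQU : Q ≤ U) {b : MulAut U} {e : ℕ}
    (hco : (orderOf (b ^ e)).Coprime p) {t : Ω} (ht : t ∈ S)
    (hn : ∀ x ∈ Q, cj t x ∈ Q) (hb : ∀ x ∈ Q, afun b x = cj t x) :
    ∀ x ∈ Q, afun (b ^ e) x = x := by
  have hpow : ∀ n : ℕ, ∀ x ∈ Q, afun (b ^ n) x = cj (t ^ n) x ∧ cj (t ^ n) x ∈ Q := by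
    intro n
    induction n with
    | zero => intro x hx; rw [pow_zero, pow_zero, afun_one (hQU hx), cj_one]; exact ⟨rfl, hx⟩
    | succ n ih =>
      intro x hx
      obtain ⟨h1, h2⟩ := ih x hx
      rw [pow_succ', pow_succ', afun_mul _ _ (hQU hx), h1, hb _ h2, ← cj_cj]
      exact ⟨rfl, hn _ h2⟩
  intro x hx
  obtain ⟨k, hk⟩ := hS ⟨t, ht⟩
  have hk' : t ^ p ^ k = 1 := congrArg Subtype.val hk
  obtain ⟨h1, -⟩ := hpow e x hx
  rw [h1]
  have hmem : t ^ e ∈ Subgroup.centralizer ({x} : Set Ω) := by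
    refine FusionWeaklyNormal88.mem_of_coprime_pow (m := orderOf (b ^ e)) (n := p ^ k)
      (hco.pow_right k) ?_ ?_
    · obtain ⟨h2, -⟩ := hpow (e * orderOf (b ^ e)) x hx
      rw [pow_mul, pow_orderOf_eq_one, afun_one (hQU hx), pow_mul, cj_apply,
        eq_mul_inv_iff_mul_eq] at h2
      rw [Subgroup.mem_centralizer_singleton_iff]
      exact h2.symm
    · rw [← pow_mul, mul_comm, pow_mul, hk', one_pow]
      exact one_mem _
  rw [Subgroup.mem_centralizer_singleton_iff] at hmem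
  rw [cj_apply, hmem, mul_inv_cancel_right]

section Key

variable (hS : IsPGroup p S) (hF : F.IsSaturated p) {T : Subgroup Ω} {D : FusionSystem T}
  (hD : D.IsNormalIn F p) {Q R : Subgroup Ω} (hQ : F.IsNormal Q) (hR : F.IsNormal R)
  (hRD : D.IsNormal R) (hQT : Q ⊓ T ≤ R) {M : FusionSystem (centralizerIn T R)}
  (hM : D.IsCentralizerSystem R M)

include hS hF hD hQ hR hRD hQT hM

/-- An automorphism of order prime to `p` of a centric radical subgroup of `C_D(R)` extends to `Q`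
so as to fix it. -/
theorem ext_of_aut {P : Subgroup Ω} (hPc : M.IsCentric P)
    (hrad : ∀ K : Subgroup (M.autGroup P), K.Normal → IsPGroup p K →
      ∀ a ∈ K, (a : MulAut P) ∈ Inn P)
    {α : MulAut P} (hα : α ∈ M.autGroup P) (hco : (orderOf α).Coprime p) :
    ∃ ψ, Mor F (P ⊔ Q) ψ ∧ (∀ x ∈ P, ψ x = afun α x) ∧ ∀ q ∈ Q, ψ q = q := by
  have hI := hD.1.2.2
  have hTS : T ≤ S := hI.2.1.1
  haveI := finite_of_le hTS
  have hQS := hQ.1
  have hRT := hRD.1
  have hPW : P ≤ centralizerIn T R := hPc.1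
  have hPT : P ≤ T := hPW.trans inf_le_left
  have hP'T : P ⊔ R ≤ T := sup_le hPT hRT
  have hP'S : P ⊔ R ≤ S := hP'T.trans hTS
  have hRcl : D.StronglyClosed R := stronglyClosed_of_normal hRD
  haveI : Finite (centralizerIn T R) := finite_of_le (inf_le_left.trans hTS)
  have hRrec : D.IsReceptive R := receptive_of_fullyNormalized (hS.to_le hTS) hD.1.1
    (FusionWeakAlperin.fullyNormalized_of_normal hRT fun g hg x hx =>
      cj_mem_of_stronglyClosed hRcl hg hx)
  -- `P R` is centric in `D`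
  have hPRc : D.IsCentric (P ⊔ R) := by
    refine ⟨hP'T, fun X hX c hc => ?_⟩
    obtain ⟨f, hf, rfl⟩ := FusionSysBasic.isConj_iff.1 hX
    have hfR := hf.restrict_to (le_sup_right : R ≤ P ⊔ R)
    have hfRim : im R f = R := self_conj_eq hRcl hfR
    have hfW : ∀ x ∈ P, f x ∈ centralizerIn T R := fun x hx => by
      have := apply_cent hf le_sup_right (Subgroup.mem_sup_left hx) (hPW hx)
      rwa [hfRim] at this
    have hcW : c ∈ centralizerIn T R := mem_centralizerIn.2 ⟨(mem_centralizerIn.1 hc).1,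
      fun y hy => (mem_centralizerIn.1 hc).2 y (im_mono le_sup_right (hfRim.ge hy))⟩
    obtain ⟨θ, hθ, hθR, hθW⟩ := exists_extension_centralizer hRrec hfR hfRim
    have hθim : im (R ⊔ centralizerIn T R) θ = R ⊔ centralizerIn T R :=
      hθ.im_self fun x hx => mor_sup_induction hθ
        (fun y hy => Subgroup.mem_sup_left (hθR y hy ▸ (hfRim ▸ apply_mem_im hy)))
        (fun y hy => Subgroup.mem_sup_right (hθW y hy)) hx
    obtain ⟨θi, hθi, hθiθ, hθθi, hθiU⟩ := hθ.exists_inv
    rw [hθim] at hθi hθθi hθiU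
    have hθiR : ∀ y ∈ R, θi y ∈ R := fun y hy =>
      stronglyClosed_invariant hRcl hθi (Subgroup.mem_sup_left hy) hy
    have hθiW : ∀ y ∈ centralizerIn T R, θi y ∈ centralizerIn T R := fun y hy => by
      have := apply_cent hθi le_sup_left (Subgroup.mem_sup_right hy) hy
      rwa [self_conj_eq hRcl (hθi.restrict_to le_sup_left)] at this
    have hh : Mor D (P ⊔ R) (θi ∘ f) := hf.comp hθi fun x hx => mor_sup_induction hf
      (fun y hy => Subgroup.mem_sup_right (hfW y hy))
      (fun y hy => Subgroup.mem_sup_left (hfRim ▸ apply_mem_im hy)) hx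
    have hhR : ∀ r ∈ R, (θi ∘ f) r = r := fun r hr => by
      rw [Function.comp_apply, ← hθR r hr, hθiθ r (Subgroup.mem_sup_left hr)]
    have hhM : Mor M P (θi ∘ f) := FusionCentralizerNormal.mor_cent hRcl hM hPW hh hhR
    have h1 : θi c ∈ centralizerIn (centralizerIn T R) (im P (θi ∘ f)) := by
      refine mem_centralizerIn.2 ⟨hθiW c hcW, fun y hy => ?_⟩
      obtain ⟨x, hx, rfl⟩ := hhM.mem_im.1 hy
      rw [Function.comp_apply, ← hθi.map_cj (Subgroup.mem_sup_right hcW)
        (Subgroup.mem_sup_right (hfW x hx)), (mem_centralizerIn.1 hc).2 _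
        (apply_mem_im (Subgroup.mem_sup_left hx))]
    obtain ⟨x, hx, hxe⟩ := hhM.mem_im.1
      (hPc.2 _ (FusionSysBasic.isConj_iff.2 ⟨_, hhM, rfl⟩) h1)
    have h2 := congrArg θ hxe
    rw [Function.comp_apply, hθθi _ (Subgroup.mem_sup_right (hfW x hx)),
      hθθi _ (Subgroup.mem_sup_right hcW)] at h2
    exact h2 ▸ apply_mem_im (Subgroup.mem_sup_left hx)
  -- the automorphism of `P R`
  obtain ⟨-, -, -, f, hf, hfe, hfR⟩ :=
    (mor_centralizerSystem_iff hM).1 ((mem_autGroup hPW).1 hα)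
  obtain ⟨a, ha, hae⟩ := hf.exists_aut (hf.im_self fun x hx => mor_sup_induction hf
    (fun y hy => Subgroup.mem_sup_left (hfe y hy ▸ afun_mem α hy))
    (fun y hy => Subgroup.mem_sup_right ((hfR y hy).symm ▸ hy)) hx)
  have haP : ∀ x ∈ P, afun a x = afun α x := fun x hx => by
    rw [hae x (Subgroup.mem_sup_left hx), hfe x hx]
  have haR : ∀ x ∈ R, afun a x = x := fun x hx => by
    rw [hae x (Subgroup.mem_sup_right hx), hfR x hx]
  have hao : a ^ orderOf α = 1 := by
    have hfix : ∀ n : ℕ, ∀ x ∈ R, afun (a ^ n) x = x := by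
      intro n
      induction n with
      | zero => intro x hx; rw [pow_zero, afun_one (Subgroup.mem_sup_right hx)]
      | succ n ih =>
        intro x hx
        rw [pow_succ', afun_mul _ _ (Subgroup.mem_sup_right hx), ih x hx, haR x hx]
    refine afun_ext fun x hx => ?_
    rw [afun_one hx]
    refine eqOn_sup ((mem_autGroup hP'T).1 (pow_mem ha _)) (mor_id hP'T) (fun y hy => ?_)
      (fun y hy => hfix _ y hy) hx
    rw [pow_restrict le_sup_left haP _ y hy, pow_orderOf_eq_one, afun_one hy]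
  have haco : (orderOf a).Coprime p :=
    hco.coprime_dvd_left (orderOf_dvd_of_pow_eq_one hao)
  obtain ⟨β, hβ, hβe, hβm⟩ := mem_wGroup_centric hS hF hD hPRc hP'S ha
  set C := centralizerIn S (P ⊔ R) with hC
  set X := P ⊔ R ⊔ C with hX
  have hPX : P ⊔ R ≤ X := le_sup_left
  obtain ⟨ψ₀, hψ₀, hψ₀e, hψ₀Q⟩ := (isNormal_iff.1 hQ).2 X β hβ
  have hXmap := sup_map hβ fun x hx => hβe x hx ▸ afun_mem a hx
  obtain ⟨b, hb, hbe⟩ := hψ₀.exists_aut (hψ₀.im_self fun x hx => mor_sup_induction hψ₀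
    (fun y hy => Subgroup.mem_sup_left (hψ₀e y hy ▸ hXmap y hy))
    (fun y hy => Subgroup.mem_sup_right (hψ₀Q ▸ apply_mem_im hy)) hx)
  haveI := finite_of_le hψ₀.le
  obtain ⟨e, heco, hepow⟩ := exists_pow_coprime (p := p) b
  set ψ := afun (b ^ e) with hψdef
  have hψ : Mor F (X ⊔ Q) ψ := (mem_autGroup hψ₀.le).1 (pow_mem hb e)
  have hbP' : ∀ x ∈ P ⊔ R, afun b x = afun a x := fun x hx => by
    rw [hbe x (Subgroup.mem_sup_left (hPX hx)), hψ₀e x (hPX hx), hβe x hx]
  have hψP' : ∀ x ∈ P ⊔ R, ψ x = afun a x := fun x hx => by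
    rw [hψdef, pow_restrict (hPX.trans le_sup_left) hbP' _ x hx, hepow a (afun_ext fun y hy => by
      rw [← pow_restrict (hPX.trans le_sup_left) hbP' _ y hy, pow_orderOf_eq_one,
        afun_one (Subgroup.mem_sup_left (hPX hy)), afun_one hy]) haco]
  have hψP : ∀ x ∈ P, ψ x = afun α x := fun x hx => by
    rw [hψP' x (Subgroup.mem_sup_left hx), haP x hx]
  have hψR : ∀ x ∈ R, ψ x = x := fun x hx => by
    rw [hψP' x (Subgroup.mem_sup_right hx), haR x hx]
  have hCX : C ≤ X ⊔ Q := (le_sup_right : C ≤ X).trans le_sup_left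
  have hψC : ∀ c ∈ C, c⁻¹ * ψ c ∈ P ⊔ R := by
    intro c hc
    have hiter : ∀ n : ℕ, c⁻¹ * afun (b ^ n) c ∈ P ⊔ R := by
      intro n
      induction n with
      | zero => rw [pow_zero, afun_one (hCX hc), inv_mul_cancel]; exact one_mem _
      | succ n ih =>
        have hm : Mor F (X ⊔ Q) (afun b) := (mem_autGroup hψ₀.le).1 hb
        have hz : c⁻¹ * afun (b ^ n) c ∈ X ⊔ Q := Subgroup.mem_sup_left (hPX ih)
        have h1 : afun (b ^ (n + 1)) c = afun b c * afun b (c⁻¹ * afun (b ^ n) c) := by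
          rw [← hm.map_mul (hCX hc) hz, mul_inv_cancel_left, pow_succ', afun_mul _ _ (hCX hc)]
        rw [h1, ← mul_assoc]
        refine mul_mem ?_ (by rw [hbP' _ ih]; exact afun_mem a ih)
        rw [hbe c (hCX hc), hψ₀e c (Subgroup.mem_sup_right hc)]
        exact hβm c hc
    exact hiter e
  have hψQ : ∀ q ∈ Q, ψ q ∈ Q := fun q hq =>
    normal_invariant hQ hψ (Subgroup.mem_sup_right hq) hq
  -- `Q` normalizes `P`
  have hnorm : ∀ q ∈ Q, ∀ y ∈ P, cj q y ∈ P := by
    intro q hq y hy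
    have hqS := hQS hq
    have hqR : ∀ r ∈ R, cj q r ∈ R := fun r hr =>
      cj_mem_of_normalizer (le_normalizer_of_normal hR hqS) hr
    have hyW : cj q y ∈ centralizerIn T R := by
      refine mem_centralizerIn.2 ⟨cj_mem_of_stronglyClosed hI.2.1 hqS (hPT hy), fun r hr => ?_⟩
      have hr' : cj q⁻¹ r ∈ R :=
        cj_mem_of_normalizer (inv_mem (le_normalizer_of_normal hR hqS)) hr
      have h1 := (mem_centralizerIn.1 (hPW hy)).2 _ hr'
      calc cj (cj q y) r = cj q (cj y (cj q⁻¹ r)) := by simp [cj_apply, mul_assoc]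
        _ = r := by rw [h1, cj_cj_inv]
    set z := cj q y * y⁻¹ with hz
    have hzW : z ∈ centralizerIn T R := mul_mem hyW (inv_mem (hPW hy))
    have hzQ : z ∈ Q := by
      have : cj y q⁻¹ ∈ Q :=
        cj_mem_of_normalizer (le_normalizer_of_normal hQ (hTS (hPT hy))) (Q.inv_mem hq)
      have h2 := Q.mul_mem hq this
      simpa [hz, cj_apply, mul_assoc] using h2
    have hzR : z ∈ R := hQT ⟨hzQ, (mem_centralizerIn.1 hzW).1⟩
    have hzP : z ∈ P := hPc.2 P (FusionSysBasic.isConj_refl hPW) (mem_centralizerIn.2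
      ⟨hzW, fun x hx => cj_comm.1
        ((mem_centralizerIn.1 (hPW hx)).2 z hzR)⟩)
    have := P.mul_mem hzP hy
    rwa [hz, inv_mul_cancel_right] at this
  have hnormR : ∀ q ∈ Q, ∀ r ∈ R, cj q r ∈ R := fun q hq r hr =>
    cj_mem_of_normalizer (le_normalizer_of_normal hR (hQS hq)) hr
  have hnormP' : ∀ q ∈ Q, ∀ x ∈ P ⊔ R, cj q x ∈ P ⊔ R := fun q hq x hx =>
    mor_sup_induction (mor_cj (F := F) hP'S (hQS hq))
      (fun y hy => Subgroup.mem_sup_left (hnorm q hq y hy))
      (fun y hy => Subgroup.mem_sup_right (hnormR q hq y hy)) hx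
  -- the inner automorphisms from `Q`
  have hPn : ∀ q ∈ Q, q ∈ Subgroup.normalizer (P : Set Ω) := fun q hq =>
    mem_normalizer_of_cj_le (hPT.trans hTS) (hnorm q hq)
  have hKp : IsPGroup p ((autInducedBy Q P).subgroupOf (M.autGroup P)) := by
    refine IsPGroup.comap_of_injective ?_ (M.autGroup P).subtype (Subgroup.subtype_injective _)
    rw [autInducedBy_eq_range, MonoidHom.range_eq_map]
    exact ((hS.to_le (inf_le_left.trans hQS)).to_subgroup ⊤).map _
  have hKn : ((autInducedBy Q P).subgroupOf (M.autGroup P)).Normal := by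
    refine ⟨fun k hk g => ?_⟩
    obtain ⟨u, hu, -, hue⟩ := mem_autInducedBy.1 (Subgroup.mem_subgroupOf.1 hk)
    have hgm := (mem_autGroup hPW).1 g.2
    obtain ⟨g', hg', hg'e, hg'Q⟩ :=
      (isNormal_iff.1 hQ).2 P _ (sub_mor hI.1 ((mor_centralizerSystem_iff hM).1 hgm).1)
    have hu' : g' u ∈ Q := hg'Q ▸ apply_mem_im hu
    refine Subgroup.mem_subgroupOf.2 (mem_autInducedBy.2 ⟨g' u, hu', hPn _ hu', fun x hx => ?_⟩)
    have hxi := afun_mem (g : MulAut P)⁻¹ hx
    simp only [Subgroup.coe_mul, Subgroup.coe_inv]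
    rw [afun_mul _ _ hx, afun_mul _ _ hxi, hue _ hxi,
      ← hg'e _ (hnorm u hu _ hxi), hg'.map_cj (Subgroup.mem_sup_right hu)
      (Subgroup.mem_sup_left hxi), hg'e _ hxi, afun_apply_inv _ hx]
  -- `ψ` moves `Q` only inside `X`
  have hmove : ∀ q ∈ Q, q⁻¹ * ψ q ∈ X := by
    intro q hq
    set v := q⁻¹ * ψ q with hv
    have hvQ : v ∈ Q := Q.mul_mem (Q.inv_mem hq) (hψQ q hq)
    have hvR : ∀ r ∈ R, cj v r = r := fun r hr => by
      have h1 : cj (ψ q) r = cj q r := by
        conv_lhs => rw [← hψR r hr]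
        rw [← hψ.map_cj (Subgroup.mem_sup_right hq)
          (Subgroup.mem_sup_left (hPX (Subgroup.mem_sup_right hr))), hψR _ (hnormR q hq r hr)]
      rw [hv, ← cj_cj, h1, cj_inv_cj]
    -- the conjugate of `α`
    have hQinv := Q.inv_mem hq
    have hcq : Mor F (P ⊔ R) (cj q⁻¹) := mor_cj hP'S (hQS hQinv)
    have hcim : im (P ⊔ R) (cj q⁻¹) = P ⊔ R := hcq.im_self (hnormP' _ hQinv)
    have hm := FusionWeaklyNormal88.aut_transport hI hP'T hcq hcim ha
    have hme : ∀ x ∈ P ⊔ R, afun (hcq.transport hcim a) (cj q⁻¹ x) = cj q⁻¹ (afun a x) :=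
      fun x hx => hcq.afun_transport hcim a hx
    have hmR : ∀ r ∈ R, afun (hcq.transport hcim a) r = r := fun r hr => by
      have h1 := hme _ (Subgroup.mem_sup_right (hnormR q hq r hr))
      rwa [cj_inv_cj, haR _ (hnormR q hq r hr), cj_inv_cj] at h1
    have hmM : Mor M P (afun (hcq.transport hcim a)) :=
      FusionCentralizerNormal.mor_cent hRcl hM hPW ((mem_autGroup hP'T).1 hm) hmR
    have hαi := (mem_autGroup hPW).1 (inv_mem hα)
    have hk : Mor M P (afun (hcq.transport hcim a) ∘ afun α⁻¹) :=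
      hαi.comp hmM fun x hx => afun_mem _ hx
    have hkv : ∀ x ∈ P, (afun (hcq.transport hcim a) ∘ afun α⁻¹) x = cj v x := by
      intro x hx
      have hy := afun_mem α⁻¹ hx
      have hqy := hnorm q hq _ hy
      have h1 := hme _ (Subgroup.mem_sup_left hqy)
      rw [cj_inv_cj, haP _ hqy, ← hψP _ hqy,
        hψ.map_cj (Subgroup.mem_sup_right hq)
          (Subgroup.mem_sup_left (hPX (Subgroup.mem_sup_left hy))),
        hψP _ hy, afun_apply_inv α hx, cj_cj] at h1
      rw [Function.comp_apply, h1]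
    obtain ⟨k, hkM, hke⟩ := hk.exists_aut (hk.im_self fun x hx => by
      rw [hkv x hx]; exact hnorm v hvQ x hx)
    have hkInn : k ∈ Inn P := hrad _ hKn hKp ⟨k, hkM⟩ (Subgroup.mem_subgroupOf.2
      (mem_autInducedBy.2 ⟨v, hvQ, hPn v hvQ, fun x hx => (hke x hx).trans (hkv x hx)⟩))
    rw [← autInducedBy_self, mem_autInducedBy] at hkInn
    obtain ⟨w, hw, -, hwe⟩ := hkInn
    have hwv : w⁻¹ * v ∈ C := by
      have hmem : w⁻¹ * v ∈ S := S.mul_mem (S.inv_mem (hTS (hPT hw))) (hQS hvQ)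
      refine mem_centralizerIn.2 ⟨hmem, fun x hx => ?_⟩
      refine eqOn_sup (mor_cj (F := F) hP'S hmem) (mor_id hP'S) (fun y hy => ?_)
        (fun r hr => ?_) hx
      · show cj (w⁻¹ * v) y = y
        rw [← cj_cj, ← hkv y hy, ← hke y hy, hwe y hy, cj_inv_cj]
      · show cj (w⁻¹ * v) r = r
        rw [← cj_cj, hvR r hr]
        exact (mem_centralizerIn.1 (inv_mem (hPW hw) : w⁻¹ ∈ centralizerIn T R)).2 r hr
    have h2 := X.mul_mem (hPX (Subgroup.mem_sup_left hw)) (Subgroup.mem_sup_right hwv)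
    rwa [mul_inv_cancel_left] at h2
  -- so it fixes `Q`
  have hψQr := hψ.restrict_to (le_sup_right : Q ≤ X ⊔ Q)
  obtain ⟨c, -, hce⟩ := hψQr.exists_aut (hψQr.im_self hψQ)
  haveI := finite_of_le hQS
  have hdiff : ∀ x ∈ X, x⁻¹ * ψ x ∈ P ⊔ R := by
    intro x hx
    have hCn : C ≤ Subgroup.normalizer ((P ⊔ R : Subgroup Ω) : Set Ω) :=
      (centralizerIn_le_normalizerIn (S := S)).trans inf_le_right
    rw [← SetLike.mem_coe, hX, Subgroup.coe_mul_of_right_le_normalizer_left _ _ hCn] at hx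
    obtain ⟨y, hy, d, hd, rfl⟩ := hx
    have hyX : y ∈ X ⊔ Q := Subgroup.mem_sup_left (hPX hy)
    show (y * d)⁻¹ * ψ (y * d) ∈ P ⊔ R
    rw [hψ.map_mul hyX (hCX hd)]
    have h1 : y⁻¹ * ψ y ∈ P ⊔ R := mul_mem (inv_mem hy) (hψP' y hy ▸ afun_mem a hy)
    have h2 := (P ⊔ R).mul_mem (cj_mem_of_normalizer (hCn (inv_mem hd)) h1) (hψC d hd)
    simpa [cj_apply, mul_assoc] using h2
  obtain ⟨j, hj⟩ := pow_eq_one_of_stabilizes (hS.to_le hQS) (n := 3)
    (fun i => if i = 0 then ⊥ else if i = 1 then Q ⊓ T else if i = 2 then Q ⊓ X else Q) rfl rfl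
    (fun i => by split_ifs <;> simp)
    (fun i hi => by
      interval_cases i
      · simp
      · simp only [if_neg one_ne_zero, if_pos rfl, show (1 + 1 = 0) = False by simp,
          show (1 + 1 = 1) = False by simp, if_false]
        exact le_inf inf_le_left ((hQT.trans le_sup_right).trans hPX)
      · simp)
    (α := c) (fun i hi y hy => by
      interval_cases i
      · simp only [zero_add, if_neg one_ne_zero, if_pos rfl] at hy
        simp [hce y hy.1, hψR y (hQT hy)]
      · simp only [show (1 + 1 = 0) = False by simp, show (1 + 1 = 1) = False by simp,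
          if_false, if_pos rfl] at hy
        simp only [if_neg one_ne_zero, if_pos rfl]
        rw [hce y hy.1]
        exact ⟨Q.mul_mem (Q.inv_mem hy.1) (hψQ y hy.1), hP'T (hdiff y hy.2)⟩
      · simp only [show (2 + 1 = 0) = False by simp, show (2 + 1 = 1) = False by simp,
          show (2 + 1 = 2) = False by simp, if_false] at hy
        simp only [show (2 = 0) = False by simp, show (2 = 1) = False by simp, if_false,
          if_pos rfl]
        rw [hce y hy]
        exact ⟨Q.mul_mem (Q.inv_mem hy) (hψQ y hy), hmove y hy⟩)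
  have hc1 : c = 1 := by
    refine orderOf_eq_one_iff.1 (Nat.eq_one_of_dvd_coprimes (heco.pow_right j) ?_
      (orderOf_dvd_of_pow_eq_one hj))
    refine orderOf_dvd_of_pow_eq_one (afun_ext fun x hx => ?_)
    rw [← pow_restrict (le_sup_right : Q ≤ X ⊔ Q) (m := b ^ e) (fun y hy => (hce y hy).symm) _ x hx,
      pow_orderOf_eq_one, afun_one (Subgroup.mem_sup_right hx), afun_one hx]
  refine ⟨ψ, hψ.restrict_to (sup_le_sup_right (le_sup_left.trans hPX) Q), hψP, fun q hq => ?_⟩
  rw [← hce q hq, hc1, afun_one hq]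

/-- Every map of `C_D(R)` extends to `Q`, acting there as an element of `C_T(R)`. -/
theorem ext_of_mor {P : Subgroup Ω} {f : Ω → Ω} (hf : Mor M P f) :
    ∃ t ∈ centralizerIn T R, ∃ ψ, Mor F (P ⊔ Q) ψ ∧ (∀ x ∈ P, ψ x = f x) ∧
      ∀ q ∈ Q, ψ q = cj t q := by
  have hI := hD.1.2.2
  have hTS : T ≤ S := hI.2.1.1
  haveI := finite_of_le hTS
  have hWT : centralizerIn T R ≤ T := inf_le_left
  have hWS : centralizerIn T R ≤ S := hWT.trans hTS
  haveI := finite_of_le hWS
  have hMs : M.IsSaturated p := FusionSysNormalizer.centralizerSystem_saturated (hS.to_le hTS)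
    hD.1.1 (fullyCentralized_of_fullyNormalized (hS.to_le hTS) hD.1.1
      (FusionWeakAlperin.fullyNormalized_of_normal hRD.1 fun g hg x hx =>
        cj_mem_of_stronglyClosed (stronglyClosed_of_normal hRD) hg hx)) hM
  have hMp := hS.to_le hWS
  have hQn : ∀ t ∈ S, ∀ q ∈ Q, cj t q ∈ Q := fun t ht q hq =>
    cj_mem_of_normalizer (le_normalizer_of_normal hQ ht) hq
  let Φ : Subgroup Ω → (Ω → Ω) → Prop := fun P f => ∃ t ∈ centralizerIn T R, ∃ ψ,
    Mor F (P ⊔ Q) ψ ∧ (∀ x ∈ P, ψ x = f x) ∧ ∀ q ∈ Q, ψ q = cj t q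
  have hcl : FusionInduct88.Closed M (U := centralizerIn T R) Φ :=
    { congr := fun ⟨t, ht, ψ, hψ, he, hq⟩ hfg =>
        ⟨t, ht, ψ, hψ, fun x hx => (he x hx).trans (hfg x hx), hq⟩
      conj := fun {P g} hP hg => ⟨g, hg, cj g, mor_cj (sup_le (hP.trans hWS) hQ.1) (hWS hg),
        fun _ _ => rfl, fun _ _ => rfl⟩
      comp := fun {P₁ P₂ f₁ f₂} _ _ _ _ hfP ⟨t₁, ht₁, ψ₁, hψ₁, he₁, hq₁⟩
          ⟨t₂, ht₂, ψ₂, hψ₂, he₂, hq₂⟩ =>
        ⟨t₂ * t₁, mul_mem ht₂ ht₁, ψ₂ ∘ ψ₁, hψ₁.comp hψ₂ fun x hx => mor_sup_induction hψ₁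
            (fun y hy => Subgroup.mem_sup_left ((he₁ y hy).symm ▸ hfP y hy))
            (fun y hy => Subgroup.mem_sup_right ((hq₁ y hy).symm ▸ hQn _ (hWS ht₁) y hy)) hx,
          fun x hx => by rw [Function.comp_apply, he₁ x hx, Function.comp_apply, he₂ _ (hfP x hx)],
          fun q hq => by
            rw [Function.comp_apply, hq₁ q hq, hq₂ _ (hQn _ (hWS ht₁) q hq), cj_cj]⟩
      inv := fun {P₁ f₁ g₁} hf₁ _ _ hgf ⟨t, ht, ψ, hψ, he, hq⟩ => by
        obtain ⟨χ, hχ, hχψ, -, -⟩ := hψ.exists_inv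
        have hle : im P₁ f₁ ⊔ Q ≤ im (P₁ ⊔ Q) ψ := by
          refine sup_le ((im_congr fun x hx => (he x hx).symm).le.trans (im_mono le_sup_left))
            fun y hy => ?_
          have h1 := hQn _ (hWS (inv_mem ht)) y hy
          rw [show y = ψ (cj t⁻¹ y) by rw [hq _ h1, cj_cj_inv]]
          exact apply_mem_im (Subgroup.mem_sup_right h1)
        refine ⟨t⁻¹, inv_mem ht, χ, hχ.restrict_to hle, fun y hy => ?_, fun y hy => ?_⟩
        · obtain ⟨x, hx, rfl⟩ := hf₁.mem_im.1 hy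
          rw [hgf x hx, ← he x hx, hχψ x (Subgroup.mem_sup_left hx)]
        · have h1 := hQn _ (hWS (inv_mem ht)) y hy
          conv_lhs => rw [show y = ψ (cj t⁻¹ y) by rw [hq _ h1, cj_cj_inv]]
          rw [hχψ _ (Subgroup.mem_sup_right h1)] }
  let E : FusionSystem (centralizerIn T R) := FusionInduct88.subSystem le_rfl hcl
  have hgen : ∀ P, (P = centralizerIn T R ∨ M.IsEssential p P) →
      M.autGroup P ≤ E.autGroup P := by
    intro P hP
    obtain ⟨hPc, hPn, hrad⟩ : M.IsCentric P ∧ M.IsFullyNormalized P ∧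
        ∀ K : Subgroup (M.autGroup P), K.Normal → IsPGroup p K →
          ∀ a ∈ K, (a : MulAut P) ∈ Inn P := by
      rcases hP with rfl | hP
      · refine ⟨FusionSysAlperin.centric_of_fullyCentralized (fullyCentralized_of_fullyNormalized
          hMp hMs fullyNormalized_self) inf_le_left, fullyNormalized_self, fun K hK hKp a ha => ?_⟩
        haveI := finite_autGroup (F := M) (centralizerIn T R)
        obtain ⟨d, hd, hdK⟩ := sylIn_absorb (fullyAutomized_of_fullyNormalized hMp hMs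
          fullyNormalized_self).2 (hKp.map (M.autGroup (centralizerIn T R)).subtype)
          (Subgroup.map_subtype_le K)
        have h1 := hdK _ ⟨⟨d, hd⟩⁻¹ * a * ⟨d, hd⟩, hK.conj_mem a ha ⟨d, hd⟩⁻¹ |> (by simpa using ·),
          rfl⟩
        rw [autInducedBy_self] at h1
        simpa [mul_assoc] using h1
      · refine ⟨hP.1, hP.2.1, fun K hK hKp a ha => ?_⟩
        rw [← (FusionSysAlperin.radical_of_essential hMp hP).2]
        exact ⟨a, HallCore.le_pCore (hN := hK) hKp ha, rfl⟩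
    refine FusionWeakAlperin.autGroup_le_of_fullyNormalized hMp hMs hPn ?_ (autInducedBy_le hPn.1)
    rw [Subgroup.map_le_iff_le_comap, TransferPResidual.pResidual_le_iff_coprime]
    intro δ hδ
    have hm := (mem_autGroup hPn.1).1 δ.2
    obtain ⟨ψ, hψ, he, hq⟩ := ext_of_aut hS hF hD hQ hR hRD hQT hM hPc hrad δ.2
      (by rwa [Subgroup.orderOf_coe])
    exact mem_autGroup_of_mor (FusionInduct88.mor_subSystem.2 ⟨hm, hPn.1,
      fun x hx => hm.apply_mem hx,
      ⟨1, one_mem _, ψ, hψ, he, fun q hq' => (hq q hq').trans (cj_one q).symm⟩⟩)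
  exact (FusionInduct88.mor_subSystem.1 (FusionSysAlperin.mor_mono
    (FusionSysAlperin.alperin hMp hMs hgen) hf)).2.2.2

end Key

omit [Fact p.Prime] in
/-- The image of a normal subgroup is normal in the factor system. -/
theorem normal_image {Ω' : Type*} [Group Ω'] {S' : Subgroup Ω'} {θ : S →* Ω'} {Z : Subgroup Ω}
    {E : FusionSystem S'} {Q : Subgroup Ω} (hQ : F.IsNormal Q) (hfac : F.IsFactorSystem Z θ E)
    (hsurj : F.IsSurjectiveMorphism E θ) : E.IsNormal (imageAlong θ Q) := by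
  have hrange : S' ≤ θ.range := hfac.2.2.1.ge
  refine isNormal_iff.2 ⟨?_, fun P' f' hf' => ?_⟩
  · rintro _ ⟨x, -, rfl⟩
    exact hfac.2.2.1.le ⟨x, rfl⟩
  obtain ⟨f, hf, he⟩ := surjective_mor hsurj hf'
  obtain ⟨ψ, hψ, hψe, hψQ⟩ := (isNormal_iff.1 hQ).2 _ f hf
  obtain ⟨g, hg, hge⟩ := morphism_mor hsurj.1 hψ
  have hP' : P' ≤ θ.range := hf'.le.trans hrange
  refine ⟨g, hg.restrict_to (sup_le (fun y hy => ?_)
    (fun y hy => ?_)), fun y hy => ?_, le_antisymm (im_le_iff.2 fun y hy => ?_) fun y hy => ?_⟩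
  · obtain ⟨x, hx, hxS, rfl⟩ := mem_imageAlong.1 ((imageAlong_preimageAlong hP').ge hy)
    exact mem_imageAlong.2 ⟨x, Subgroup.mem_sup_left hx, hxS, rfl⟩
  · obtain ⟨x, hx, hxS, rfl⟩ := mem_imageAlong.1 hy
    exact mem_imageAlong.2 ⟨x, Subgroup.mem_sup_right hx, hxS, rfl⟩
  · obtain ⟨x, hx, hxS, rfl⟩ := mem_imageAlong.1 ((imageAlong_preimageAlong hP').ge hy)
    rw [hge x (Subgroup.mem_sup_left hx), hψe x hx, he x hx]
  · obtain ⟨x, hx, hxS, rfl⟩ := mem_imageAlong.1 hy
    rw [hge x (Subgroup.mem_sup_right hx)]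
    exact app_mem_imageAlong (hψQ ▸ apply_mem_im hx) hQ.1
  · obtain ⟨z, hz, hzS, rfl⟩ := mem_imageAlong.1 hy
    obtain ⟨x, hx, rfl⟩ := (hψ.restrict_to le_sup_right).mem_im.1 (hψQ.ge hz)
    rw [← hge x (Subgroup.mem_sup_right hx)]
    exact apply_mem_im (app_mem_imageAlong hx hQ.1)

/-- A nontrivial factor system of a system equal to its `p`-residual, modulo a central subgroup,
is not the inner system of a subgroup. -/
theorem not_inner_quotient (hS : IsPGroup p S) (hF : F.IsSaturated p)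
    (hhyp : F.hyperfocalSubgroup p = S) [(F.center.subgroupOf S).Normal]
    {E : FusionSystem (⊤ : Subgroup (S ⧸ F.center.subgroupOf S))}
    (hfac : F.IsFactorSystem F.center (QuotientGroup.mk' (F.center.subgroupOf S)) E)
    (hsurj : F.IsSurjectiveMorphism E (QuotientGroup.mk' (F.center.subgroupOf S)))
    (hne : (⊤ : Subgroup (S ⧸ F.center.subgroupOf S)) ≠ ⊥)
    (B : Subgroup (S ⧸ F.center.subgroupOf S)) :
    ¬ ∀ P, (Cfsg.innerFusionSystem B).Hom P = E.Hom P := by
  intro hall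
  set Z := F.center with hZdef
  set q := Z.subgroupOf S with hqdef
  set θ := QuotientGroup.mk' q with hθdef
  have hS' : IsPGroup p (⊤ : Subgroup (S ⧸ q)) := (hS.to_quotient q).to_subgroup ⊤
  have hZc : F.IsCentral Z := center_isCentral
  have hfix : ∀ {P : Subgroup Ω} {f : Ω → Ω}, Mor F P f → ∀ z ∈ P, z ∈ Z → f z = z := by
    intro P f hf z hzP hzZ
    obtain ⟨ψ, -, he, hψ⟩ := (isCentral_iff.1 hZc).2 P f hf
    rw [← he z hzP, hψ z hzZ]
  have hZS : ∀ x ∈ S, app θ x = 1 → x ∈ Z := fun x hx e => by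
    rw [app_apply θ hx] at e
    exact (hfac.2.1 ⟨x, hx⟩).1 e
  have hmove : ∀ P ≤ S, ∀ α ∈ F.autGroup P, (orderOf α).Coprime p →
      ∀ x ∈ P, x⁻¹ * afun α x ∈ Z := by
    intro P hP α hα hco x hx
    obtain ⟨g, hg, hge⟩ := morphism_mor hsurj.1 ((mem_autGroup hP).1 hα)
    obtain ⟨φ, hφ, hφe⟩ := id hg
    obtain ⟨-, c, -, hce⟩ := FusionSysAlperin.mor_inner_iff.1
      (⟨φ, (hall _).symm ▸ hφ, hφe⟩ : Mor (Cfsg.innerFusionSystem B) _ g)
    have hpow : ∀ n : ℕ, ∀ y ∈ P, cj (c ^ n) (app θ y) = app θ (afun (α ^ n) y) := by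
      intro n
      induction n with
      | zero => intro y hy; rw [pow_zero, pow_zero, cj_one, afun_one hy]
      | succ n ih =>
        intro y hy
        rw [pow_succ', pow_succ', ← cj_cj, ih y hy,
          ← hce _ (app_mem_imageAlong (afun_mem _ hy) hP), hge _ (afun_mem _ hy), afun_mul _ _ hy]
    obtain ⟨k, hk⟩ := hS' ⟨c, trivial⟩
    have hk' : c ^ p ^ k = 1 := congrArg Subtype.val hk
    have hfixn : cj (c ^ orderOf α) (app θ x) = app θ x := by
      rw [hpow _ x hx, pow_orderOf_eq_one, afun_one hx]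
    have hmem : c ∈ Subgroup.centralizer ({app θ x} : Set (S ⧸ q)) := by
      refine FusionWeaklyNormal88.mem_of_coprime_pow (hco.pow_right k) ?_
        (hk' ▸ Subgroup.one_mem _)
      rw [Subgroup.mem_centralizer_singleton_iff]
      rw [cj_apply, mul_inv_eq_iff_eq_mul] at hfixn
      exact hfixn
    rw [Subgroup.mem_centralizer_singleton_iff] at hmem
    have h1 : app θ (afun α x) = app θ x := by
      rw [← hge x hx, hce _ (app_mem_imageAlong hx hP), cj_apply, hmem, mul_inv_cancel_right]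
    refine hZS _ (S.mul_mem (S.inv_mem (hP hx)) (hP (afun_mem α hx))) ?_
    rw [app_mul (S.inv_mem (hP hx)) (hP (afun_mem α hx)), app_inv (hP hx), h1, inv_mul_cancel]
  have hhyp1 : F.hyperfocalSubgroup p ≤ ⊥ := by
    refine (Subgroup.closure_le _).2 ?_
    rintro _ ⟨P, α, x, hP, hα, rfl⟩
    have hα1 : α ∈ (⊥ : Subgroup (F.autGroup P)) :=
      (TransferPResidual.pResidual_le_iff_coprime.2 fun β hβ => Subgroup.mem_bot.2 (Subtype.ext (by
        rw [← Subgroup.orderOf_coe] at hβ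
        exact FusionComponentExists.eq_one_of_moves_fixed hS hP hβ (hmove P hP β β.2 hβ)
          fun y hy hyZ => hfix ((mem_autGroup hP).1 β.2) y hy hyZ))) hα
    rw [Subgroup.mem_bot] at hα1
    simp [hα1]
  refine hne ((Subgroup.eq_bot_iff_forall _).2 fun y _ => ?_)
  obtain ⟨s, rfl⟩ := QuotientGroup.mk'_surjective q y
  have : s = 1 := Subtype.ext (Subgroup.mem_bot.1 ((hhyp ▸ hhyp1 : S ≤ ⊥) s.2))
  rw [this, map_one]

/-- The largest normal subgroup of a quasisimple system is central. -/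
theorem core_le_center (hS : IsPGroup p S) (hq : F.Quasisimple p) : F.core ≤ F.center := by
  obtain ⟨hF, hhyp, hsimp⟩ := hq
  set Q := F.core with hQdef
  have hQ : F.IsNormal Q := core_isNormal
  set Z := F.center with hZdef
  have hZc : F.IsCentral Z := center_isCentral
  have hfix : ∀ {P : Subgroup Ω} {f : Ω → Ω}, Mor F P f → ∀ z ∈ P, z ∈ Z → f z = z := by
    intro P f hf z hzP hzZ
    obtain ⟨ψ, -, he, hψ⟩ := (isCentral_iff.1 hZc).2 P f hf
    rw [← he z hzP, hψ z hzZ]
  have hZcl : F.StronglyClosed Z := stronglyClosed_iff.2 ⟨hZc.1, fun P f hP hf x hx => by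
    rw [hfix hf x hx (hP hx)]; exact hP hx⟩
  set q := Z.subgroupOf S with hqdef
  set θ := QuotientGroup.mk' q with hθdef
  let E := S5132.factorSys F Z hZcl
  have hfac : F.IsFactorSystem Z θ E := ⟨hZc.1, fun s => by
    rw [← MonoidHom.mem_ker, QuotientGroup.ker_mk', Subgroup.mem_subgroupOf],
    QuotientGroup.range_mk' _, fun P' φ' => Iff.rfl⟩
  obtain ⟨hEs, hne, hsimple⟩ := hsimp E hfac
  have hsurj := S5134.result p hS F hF Z hZcl θ E hfac
  have hQbar := normal_image hQ hfac hsurj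
  have hS' : IsPGroup p (⊤ : Subgroup (S ⧸ q)) := (hS.to_quotient q).to_subgroup ⊤
  rcases hsimple _ _ (FusionComponentExists.inner_normal hS' hEs hQbar) with h | ⟨-, hall⟩
  · intro x hx
    have h1 := Subgroup.mem_bot.1 (h.le (app_mem_imageAlong hx hQ.1))
    rw [app_apply θ (hQ.1 hx)] at h1
    exact (hfac.2.1 ⟨x, hQ.1 hx⟩).1 h1
  · exact absurd hall (not_inner_quotient hS hF hhyp hfac hsurj hne
      (imageAlong θ Q))

/-- Every component centralizes the largest normal subgroup. -/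
theorem component_centralizes_core {T : Subgroup Ω} {C : FusionSystem T}
    (h : C.IsSubnormalIn F p) :
    Fact p.Prime → Finite S → IsPGroup p S → F.IsSaturated p → C.Quasisimple p →
      T ≤ centralizerIn S F.core ∧ ∀ P, C.Hom P ⊆ F.centralizerHom F.core P := by
  induction h with
  | refl F' p' =>
    intro hp hfin hS hF hq
    haveI := hp
    haveI := hfin
    have hle := core_le_center hS hq
    have hQ : F'.core ≤ _ := core_isNormal.1
    refine ⟨fun t ht => mem_centralizerIn.2 ⟨ht, fun x hx => ?_⟩, fun P φ hφ => ?_⟩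
    · rw [cj_apply, F'.center_le_centralizer (hle hx) t ht, mul_inv_cancel_right]
    · have hm := mor_toFun hφ
      obtain ⟨ψ, hψ, he, hfix⟩ := (isCentral_iff.1 center_isCentral).2 P _ hm
      have hcent : ∀ {x : Ω}, x ∈ _ → x ∈ centralizerIn _ F'.core := fun {x} hx =>
        mem_centralizerIn.2 ⟨hx, fun y hy => by
          rw [cj_apply, F'.center_le_centralizer (hle hy) x hx, mul_inv_cancel_right]⟩
      exact ⟨hφ, fun x hx => hcent (hm.le hx), fun x => hcent ((F'.le_of_mem hφ).2 x),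
        (ext_central_iff fun x => (toFun_coe φ x).symm).2
          ⟨ψ, hψ.restrict_to (sup_le_sup_left hle P), he, fun x hx => hfix x (hle hx)⟩⟩
  | @step U S E D F' p' hsub hn ih =>
    intro hp hfin hS hF hq
    haveI := hp
    haveI := hfin
    have hUS : U ≤ S := hn.1.2.2.2.1.1
    haveI := finite_of_le hUS
    obtain ⟨hTW, hEW⟩ := ih hp inferInstance (hS.to_le hUS) hn.1.1 hq
    set R := D.core
    set Q := F'.core
    have hQ : F'.IsNormal Q := core_isNormal
    have hR : F'.IsNormal R := FusionComponentExists.core_normal_of_normal hS hn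
    have hRD : D.IsNormal R := core_isNormal
    have hQT : Q ⊓ U ≤ R := le_core (normal_inf hS hn.1 hQ)
    have hM := isCentralizerSystem_centralizerSystem (F := D) R hRD.1
    have hEM : E.IsSubsystemOf (centralizerSystem D R hRD.1) := fun P φ hφ => (hM P).symm ▸ hEW P hφ
    have hTU : T ≤ U := hTW.trans inf_le_left
    have hTS : T ≤ S := hTU.trans hUS
    have hWS : centralizerIn U R ≤ S := inf_le_left.trans hUS
    haveI := finite_of_le hTS
    have hQn : ∀ t ∈ S, ∀ q ∈ Q, cj t q ∈ Q := fun t ht q hq =>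
      cj_mem_of_normalizer (le_normalizer_of_normal hQ ht) hq
    have hfixp : ∀ P, P ≤ T → ∀ α ∈ E.autGroup P, (orderOf α).Coprime p' →
        ∃ ψ, Mor F' (P ⊔ Q) ψ ∧ (∀ x ∈ P, ψ x = afun α x) ∧ ∀ q ∈ Q, ψ q = q := by
      intro P hP α hα hco
      obtain ⟨t, ht, ψ₀, hψ₀, he, hq⟩ := ext_of_mor hS hF hn hQ hR hRD hQT hM
        (sub_mor hEM ((mem_autGroup hP).1 hα))
      obtain ⟨b, hb, hbe⟩ := hψ₀.exists_aut (hψ₀.im_self fun x hx => mor_sup_induction hψ₀
        (fun y hy => Subgroup.mem_sup_left ((he y hy).symm ▸ afun_mem α hy))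
        (fun y hy => Subgroup.mem_sup_right ((hq y hy).symm ▸ hQn t (hWS ht) y hy)) hx)
      haveI := finite_of_le hψ₀.le
      obtain ⟨e, heco, hepow⟩ := exists_pow_coprime (p := p') b
      have hbP : ∀ x ∈ P, afun b x = afun α x := fun x hx => by
        rw [hbe x (Subgroup.mem_sup_left hx), he x hx]
      have hαb : α ^ orderOf b = 1 := afun_ext fun x hx => by
        rw [← pow_restrict le_sup_left hbP _ x hx, pow_orderOf_eq_one,
          afun_one (Subgroup.mem_sup_left hx), afun_one hx]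
      refine ⟨afun (b ^ e), (mem_autGroup hψ₀.le).1 (pow_mem hb e), fun x hx => ?_,
        fix_of_cj hS le_sup_right heco (hWS ht) (hQn t (hWS ht)) fun x hx => ?_⟩
      · rw [pow_restrict le_sup_left hbP _ x hx, hepow α hαb hco]
      · rw [hbe x (Subgroup.mem_sup_right hx), hq x hx]
    have hTC : T ≤ centralizerIn S Q := by
      conv_lhs => rw [← hq.2.1]
      refine (Subgroup.closure_le _).2 ?_
      rintro _ ⟨P, α, x, hP, hα, rfl⟩
      let A : Subgroup (E.autGroup P) :=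
        { carrier := {a | ∀ y ∈ P, y⁻¹ * afun (a : MulAut P) y ∈ centralizerIn S Q}
          one_mem' := fun y hy => by
            rw [Subgroup.coe_one, afun_one hy, inv_mul_cancel]
            exact one_mem _
          mul_mem' := fun {a b} ha hb y hy => by
            rw [Subgroup.coe_mul, afun_mul _ _ hy]
            have := (centralizerIn S Q).mul_mem (hb y hy) (ha _ (afun_mem (b : MulAut P) hy))
            simpa [mul_assoc] using this
          inv_mem' := fun {a} ha y hy => by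
            have h1 := (centralizerIn S Q).inv_mem (ha _ (afun_mem (a : MulAut P)⁻¹ hy))
            rw [afun_apply_inv _ hy, mul_inv_rev, inv_inv] at h1
            rw [Subgroup.coe_inv]
            exact h1 }
      have hA : α ∈ A := (TransferPResidual.pResidual_le_iff_coprime.2 fun β hβ y hy => by
        obtain ⟨ψ, hψ, he, hfix⟩ := hfixp P hP β β.2 (by rwa [Subgroup.orderOf_coe])
        have hyS : y ∈ S := hTS (hP hy)
        have hβy : afun (β : MulAut P) y ∈ S := hTS (hP (afun_mem _ hy))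
        refine mem_centralizerIn.2 ⟨S.mul_mem (S.inv_mem hyS) hβy, fun q hq => ?_⟩
        set z := cj y q
        have hz : z ∈ Q := hQn y hyS q hq
        have h1 : cj (afun (β : MulAut P) y) q = z := by
          conv_lhs => rw [← hfix q hq, ← he y hy]
          rw [← hψ.map_cj (Subgroup.mem_sup_left hy) (Subgroup.mem_sup_right hq), hfix z hz]
        rw [← cj_cj, h1, cj_inv_cj]) hα
      have := hA x x.2
      rwa [afun_apply _ x.2] at this
    refine ⟨hTC, fun P φ hφ => ?_⟩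
    let Φ : Subgroup Ω → (Ω → Ω) → Prop := fun P f =>
      ∃ ψ, Mor F' (P ⊔ Q) ψ ∧ (∀ x ∈ P, ψ x = f x) ∧ ∀ q ∈ Q, ψ q = q
    have hcl : FusionInduct88.Closed E (U := T) Φ :=
      { congr := fun ⟨ψ, hψ, he, hq⟩ hfg => ⟨ψ, hψ, fun x hx => (he x hx).trans (hfg x hx), hq⟩
        conj := fun {P g} hP hg => ⟨cj g, mor_cj (sup_le (hP.trans hTS) hQ.1) (hTS hg),
          fun _ _ => rfl, (mem_centralizerIn.1 (hTC hg)).2⟩
        comp := fun {P₁ P₂ f₁ f₂} _ _ _ _ hfP ⟨ψ₁, hψ₁, he₁, hq₁⟩ ⟨ψ₂, hψ₂, he₂, hq₂⟩ =>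
          ⟨ψ₂ ∘ ψ₁, hψ₁.comp hψ₂ fun x hx => mor_sup_induction hψ₁
              (fun y hy => Subgroup.mem_sup_left ((he₁ y hy).symm ▸ hfP y hy))
              (fun y hy => Subgroup.mem_sup_right ((hq₁ y hy).symm ▸ hy)) hx,
            fun x hx => by
              rw [Function.comp_apply, he₁ x hx, Function.comp_apply, he₂ _ (hfP x hx)],
            fun q hq => by rw [Function.comp_apply, hq₁ q hq, hq₂ q hq]⟩
        inv := fun {P₁ f₁ g₁} hf₁ _ _ hgf ⟨ψ, hψ, he, hq⟩ => by
          obtain ⟨χ, hχ, hχψ, -, -⟩ := hψ.exists_inv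
          refine ⟨χ, hχ.restrict_to (sup_le
            ((im_congr fun x hx => (he x hx).symm).le.trans (im_mono le_sup_left))
            fun y hy => hq y hy ▸ apply_mem_im (Subgroup.mem_sup_right hy)), fun y hy => ?_,
            fun y hy => ?_⟩
          · obtain ⟨x, hx, rfl⟩ := hf₁.mem_im.1 hy
            rw [hgf x hx, ← he x hx, hχψ x (Subgroup.mem_sup_left hx)]
          · conv_lhs => rw [← hq y hy, hχψ y (Subgroup.mem_sup_right hy)] }
    obtain ⟨ψ, hψ, he, hfix⟩ :=
      FusionInduct88.induction' (hS.to_le hTS) hq.1 hcl hfixp (mor_toFun hφ)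
    have hφE := E.le_of_mem hφ
    refine ⟨(mor_iff_hom fun x => ?_).1 (hψ.restrict_to le_sup_left), hφE.1.trans hTC,
      fun x => hTC (hφE.2 x),
      (ext_central_iff fun x => (toFun_coe φ x).symm).2 ⟨ψ, hψ, he, hfix⟩⟩
    rw [he x x.2, toFun_coe]

end Cfsg.Agent.FusionLayerCore
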