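import Cfsg.Agent.Lib.FusionFittingBasic
import Cfsg.Agent.Lib.FusionMeet
import Cfsg.Agent.Lib.FusionLayerCore
import Cfsg.Agent.S5136

/-!
The central product of the inner system of a normal subgroup `Q` and a normal subsystem `E` whose
maps extend fixing `Q`: it exists (`exists_cp`) and is normal (`cp_normal`).
-/

set_option autoImplicit false

namespace Cfsg.Agent.FusionCentralProduct

open Cfsg Cfsg.FusionSystem Cfsg.Agent.FusionSysBasic Cfsg.Agent.FusionSysSaturated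
open Cfsg.Agent.FusionSysNormal Cfsg.Agent.FusionKit88 Cfsg.Agent.FusionMorph88

variable {Ω : Type*} [Group Ω] {S Q T : Subgroup Ω} {F : FusionSystem S} {E : FusionSystem T}
  {p : ℕ}

/-- The data for the central product. -/
structure Fit (F : FusionSystem S) (Q : Subgroup Ω) (E : FusionSystem T) (p : ℕ) : Prop where
  pgrp : IsPGroup p S
  sat : F.IsSaturated p
  nQ : F.IsNormal Q
  nE : E.IsNormalIn F p
  cent : T ≤ centralizerIn S Q
  ext : ∀ {P : Subgroup Ω} {e : Ω → Ω}, Mor E P e →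
    ∃ ψ, Mor F (P ⊔ Q) ψ ∧ (∀ x ∈ P, ψ x = e x) ∧ ∀ q ∈ Q, ψ q = q
  fr : ∀ {P : Subgroup Ω} {g : Ω → Ω}, P ≤ T → Mor F (P ⊔ Q) g → (∀ q ∈ Q, g q = q) →
    ∃ a, Mor F (T ⊔ Q) a ∧ (∀ q ∈ Q, a q = q) ∧ ∃ e, Mor E P e ∧ ∀ x ∈ P, g x = a (e x)

/-- The maps of the central product. -/
def Psi (F : FusionSystem S) (Q : Subgroup Ω) (E : FusionSystem T) (P : Subgroup Ω)
    (f : Ω → Ω) : Prop :=
  ∃ g ∈ Q, ∃ P' ψ, Mor E P' ψ ∧ Mor F (P' ⊔ Q) ψ ∧ (∀ q ∈ Q, ψ q = q) ∧ P ≤ P' ⊔ Q ∧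
    ∀ x ∈ P, f x = cj g (ψ x)

/-- `f` is induced from the product system. -/
def Induced {A B : Subgroup Ω} (D₀ : FusionSystem (A.prod B)) (θ : ↥(A.prod B) →* Ω)
    (P : Subgroup Ω) (f : Ω → Ω) : Prop :=
  ∃ f₀, Mor D₀ (preimageAlong θ P) f₀ ∧
    ∀ w ∈ preimageAlong θ P, f (app θ w) = app θ (f₀ w)

theorem exists_decomp {P' : Subgroup Ω} (hT : T ≤ centralizerIn S Q) (hP : P' ≤ T) {x : Ω}
    (hx : x ∈ P' ⊔ Q) : ∃ b ∈ P', ∃ q ∈ Q, x = b * q := by
  have hn : P' ≤ Subgroup.normalizer (Q : Set Ω) := fun b hb => by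
    have hbb := (mem_centralizerIn.1 (hT (hP hb))).2
    rw [Subgroup.mem_normalizer_iff]
    intro h
    refine ⟨fun hh => ?_, fun hh => ?_⟩
    · have e := hbb h hh
      rw [cj_apply, mul_inv_eq_iff_eq_mul] at e
      rwa [e, mul_inv_cancel_right]
    · have e := hbb _ hh
      rw [cj_apply, mul_inv_eq_iff_eq_mul, inv_mul_cancel_right] at e
      rwa [mul_left_cancel e] at hh
  have : x ∈ ((P' ⊔ Q : Subgroup Ω) : Set Ω) := hx
  rw [Subgroup.coe_mul_of_left_le_normalizer_right P' Q hn] at this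
  obtain ⟨b, hb, q, hq, e⟩ := this
  exact ⟨b, hb, q, hq, e.symm⟩

variable [Finite S] [Fact p.Prime] (h : Fit F Q E p)
include h

theorem Fit.hQS : Q ≤ S := h.nQ.1
theorem Fit.hTS : T ≤ S := h.cent.trans inf_le_left
theorem Fit.hU : Q ⊔ T ≤ S := sup_le h.hQS h.hTS
theorem Fit.hI : E.IsInvariantIn F := h.nE.1.2.2

theorem Fit.comm {t q : Ω} (ht : t ∈ T) (hq : q ∈ Q) : t * q = q * t := by
  have := (mem_centralizerIn.1 (h.cent ht)).2 q hq
  rwa [cj_apply, mul_inv_eq_iff_eq_mul] at this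

theorem Fit.cj_fix {t q : Ω} (ht : t ∈ T) (hq : q ∈ Q) : cj q t = t := by
  rw [cj_apply, ← h.comm ht hq, mul_inv_cancel_right]

theorem Fit.cjQ {u q : Ω} (hu : u ∈ S) (hq : q ∈ Q) : cj u q ∈ Q :=
  cj_mem_of_normalizer (le_normalizer_of_normal h.nQ hu) hq

theorem Fit.fixJ {P : Subgroup Ω} {e : Ω → Ω} (he : Mor E P e) {x : Ω} (hx : x ∈ P)
    (hq : x ∈ Q) : e x = x := by
  obtain ⟨ψ, -, hψe, hψQ⟩ := h.ext he
  rw [← hψe x hx, hψQ x hq]

theorem Fit.centralJ : E.IsCentral (Q ⊓ T) := by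
  haveI := finite_of_le h.hTS
  refine isCentral_of_fixed (p := p) (h.pgrp.to_le h.hTS) h.nE.1.1 inf_le_right fun x hx y hy => ?_
  obtain ⟨f, hf, rfl⟩ := isConjElt_iff.1 hy
  exact h.fixJ hf (Subgroup.mem_zpowers x) hx.1

/-- An `E`-map on `P'` is one on `P' (Q ∩ T)`. -/
theorem Fit.mor_sup {P' : Subgroup Ω} {ψ : Ω → Ω} (hE : Mor E P' ψ) (hF : Mor F (P' ⊔ Q) ψ)
    (hQ : ∀ q ∈ Q, ψ q = q) : Mor E (P' ⊔ (Q ⊓ T)) ψ := by
  obtain ⟨e, he, hee, heJ⟩ := (isCentral_iff.1 h.centralJ).2 P' ψ hE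
  refine he.congr fun x hx => ?_
  obtain ⟨b, hb, q, hq, rfl⟩ := exists_decomp (S := S) h.cent hE.le
    ((sup_le_sup_left inf_le_left P' : P' ⊔ (Q ⊓ T) ≤ P' ⊔ Q) hx)
  have hbT := hE.le hb
  have hxT := he.le hx
  have hqJ : q ∈ Q ⊓ T := ⟨hq, by
    have := T.mul_mem (T.inv_mem hbT) hxT
    rwa [inv_mul_cancel_left] at this⟩
  rw [he.map_mul (Subgroup.mem_sup_left hb) (Subgroup.mem_sup_right hqJ),
    hF.map_mul (Subgroup.mem_sup_left hb) (Subgroup.mem_sup_right hq), hee b hb, heJ q hqJ, hQ q hq]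

theorem Fit.psi_mor {P : Subgroup Ω} {f : Ω → Ω} (hf : Psi F Q E P f) : Mor F P f := by
  obtain ⟨g, hg, P', ψ, -, hψ, -, hle, he⟩ := hf
  have h1 := hψ.restrict_to hle
  exact (h1.comp (mor_cj le_rfl (h.hQS hg)) fun x hx => h1.apply_mem hx).congr
    fun x hx => (he x hx).symm

section Data

variable {U : Subgroup Ω} {D₀ : FusionSystem (Q.prod T)}
  (hprod : IsProductSystem (Cfsg.innerFusionSystem Q) E D₀) {Z : Subgroup (Ω × Ω)}
  {θ : ↥(Q.prod T) →* Ω}
  (h1 : ∀ (x : Ω) (hx : ((x, 1) : Ω × Ω) ∈ Q.prod T), θ ⟨(x, 1), hx⟩ = x)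
  (h2 : ∀ (y : Ω) (hy : ((1, y) : Ω × Ω) ∈ Q.prod T), θ ⟨(1, y), hy⟩ = y)

include h1 h2 in
theorem Fit.app_eq {w : Ω × Ω} (hw : w ∈ Q.prod T) : app θ w = w.1 * w.2 :=
  FusionFittingBasic.app_mul_eq h1 h2 hw.1 hw.2

include hprod h1 h2 in
theorem Fit.psi_of_induced {P : Subgroup Ω} {f : Ω → Ω} (hP : P ≤ θ.range)
    (hf : Induced D₀ θ P f) : Psi F Q E P f := by
  obtain ⟨f₀, hf₀, hff⟩ := hf
  obtain ⟨hW, f₁, e, hf₁, he, hfe⟩ := (S5137.mor_prod hprod).1 hf₀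
  obtain ⟨-, g, hg, hge⟩ := FusionSysAlperin.mor_inner_iff.1 hf₁
  obtain ⟨ψ, hψ, hψe, hψQ⟩ := h.ext he
  have hsrc : ∀ x ∈ P, ∃ w ∈ preimageAlong θ P, app θ w = x := fun x hx => by
    obtain ⟨w, hw, -, e⟩ := mem_imageAlong.1 ((imageAlong_preimageAlong hP).ge hx)
    exact ⟨w, hw, e⟩
  refine ⟨g, hg, _, ψ, he.congr fun x hx => (hψe x hx).symm, hψ, hψQ, fun x hx => ?_,
    fun x hx => ?_⟩
  · obtain ⟨w, hw, rfl⟩ := hsrc x hx
    rw [h.app_eq h1 h2 (hW hw)]
    exact mul_mem (Subgroup.mem_sup_right (hW hw).1) (Subgroup.mem_sup_left (S5137.snd_mem hw))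
  · obtain ⟨w, hw, rfl⟩ := hsrc x hx
    obtain ⟨hw1, hw2⟩ := hW hw
    have he2 : e w.2 ∈ T := he.apply_mem (S5137.snd_mem hw)
    rw [hff w hw, hfe w hw, hge _ (S5137.fst_mem hw),
      h.app_eq h1 h2 (show ((cj g w.1, e w.2) : Ω × Ω) ∈ Q.prod T from
        ⟨h.cjQ (h.hQS hg) hw1, he2⟩),
      h.app_eq h1 h2 (hW hw),
      hψ.map_mul (Subgroup.mem_sup_right hw1) (Subgroup.mem_sup_left (S5137.snd_mem hw)),
      hψQ _ hw1, hψe _ (S5137.snd_mem hw)]
    simp only [cj_apply]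
    have := h.cj_fix he2 hg
    rw [cj_apply] at this
    conv_lhs => rw [← this]
    group

include hprod h1 h2 in
theorem Fit.induced_of_psi {P : Subgroup Ω} {f : Ω → Ω} (hf : Psi F Q E P f) :
    Induced D₀ θ P f := by
  obtain ⟨g, hg, P', ψ, hψE, hψ, hψQ, hle, hfe⟩ := hf
  have hW : preimageAlong θ P ≤ Q.prod T := preimageAlong_le θ P
  have hsnd : ∀ w ∈ preimageAlong θ P, w.2 ∈ P' ⊔ (Q ⊓ T) ∧ w.2 ∈ P' ⊔ Q := by
    intro w hw
    obtain ⟨hwm, hwP⟩ := mem_preimageAlong.1 hw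
    rw [h.app_eq h1 h2 hwm] at hwP
    obtain ⟨b, hb, q, hq, e⟩ := exists_decomp (S := S) h.cent hψE.le (hle hwP)
    have e2 : w.2 = b * (w.1⁻¹ * q) := by
      rw [← mul_assoc, h.comm (hψE.le hb) (Q.inv_mem hwm.1), mul_assoc, ← e, inv_mul_cancel_left]
    have hj : w.1⁻¹ * q ∈ Q ⊓ T := ⟨mul_mem (Q.inv_mem hwm.1) hq, by
      have := T.mul_mem (T.inv_mem (hψE.le hb)) hwm.2
      rw [e2] at this
      simpa [mul_assoc] using this⟩
    exact e2 ▸ ⟨mul_mem (Subgroup.mem_sup_left hb) (Subgroup.mem_sup_right hj),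
      mul_mem (Subgroup.mem_sup_left hb) (Subgroup.mem_sup_right hj.1)⟩
  refine ⟨fun w => (cj g w.1, ψ w.2), (S5137.mor_prod hprod).2 ⟨hW, cj g, ψ,
    mor_cj (by rintro _ ⟨w, hw, rfl⟩; exact (hW hw).1) hg,
    (h.mor_sup hψE hψ hψQ).restrict_to (by rintro _ ⟨w, hw, rfl⟩; exact (hsnd w hw).1),
    fun _ _ => rfl⟩, fun w hw => ?_⟩
  obtain ⟨hwm, hwP⟩ := mem_preimageAlong.1 hw
  have hψT : ψ w.2 ∈ T := (h.mor_sup hψE hψ hψQ).apply_mem (hsnd w hw).1
  rw [h.app_eq h1 h2 (show ((cj g w.1, ψ w.2) : Ω × Ω) ∈ Q.prod T from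
        ⟨h.cjQ (h.hQS hg) hwm.1, hψT⟩), hfe _ hwP, h.app_eq h1 h2 hwm,
    hψ.map_mul (Subgroup.mem_sup_right hwm.1) (hsnd w hw).2, hψQ _ hwm.1]
  simp only [cj_apply]
  have := h.cj_fix hψT hg
  rw [cj_apply] at this
  conv_rhs => rw [← this]
  group

theorem Fit.finite_prod : Finite ↥(Q.prod T) := by
  haveI := finite_of_le h.hQS
  haveI := finite_of_le h.hTS
  exact Finite.of_equiv _ (Subgroup.prodEquiv Q T).symm.toEquiv

theorem Fit.pgrp_prod : IsPGroup p ↥(Q.prod T) := by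
  intro w
  obtain ⟨a, ha⟩ := (h.pgrp.to_le h.hQS) ⟨(w : Ω × Ω).1, w.2.1⟩
  obtain ⟨b, hb⟩ := (h.pgrp.to_le h.hTS) ⟨(w : Ω × Ω).2, w.2.2⟩
  have ha' : (w : Ω × Ω).1 ^ p ^ a = 1 := congrArg Subtype.val ha
  have hb' : (w : Ω × Ω).2 ^ p ^ b = 1 := congrArg Subtype.val hb
  refine ⟨a + b, Subtype.ext (Prod.ext ?_ ?_)⟩
  · show (w : Ω × Ω).1 ^ p ^ (a + b) = 1
    rw [pow_add, pow_mul, ha', one_pow]
  · show (w : Ω × Ω).2 ^ p ^ (a + b) = 1
    rw [pow_add, mul_comm, pow_mul, hb', one_pow]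

include hprod in
theorem Fit.saturated_prodSys : D₀.IsSaturated p := by
  haveI := finite_of_le h.hQS
  haveI := finite_of_le h.hTS
  exact S5137.saturated_prod hprod (h.pgrp.to_le h.hQS) (h.pgrp.to_le h.hTS)
    (S5290.saturated_inner (h.pgrp.to_le h.hQS)) h.nE.1.1

variable {D : FusionSystem U} (hfac : D₀.IsFactorSystem Z θ D)
include hprod h1 h2 hfac

theorem Fit.range_eq : Q ⊔ T = U := by
  refine le_antisymm (sup_le (FusionFittingBasic.left_le h1 h2 hfac)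
    (FusionFittingBasic.right_le h1 h2 hfac)) fun u hu => ?_
  rw [← hfac.2.2.1] at hu
  obtain ⟨w, rfl⟩ := hu
  rw [← app_apply θ w.2, h.app_eq h1 h2 w.2]
  exact mul_mem (Subgroup.mem_sup_left w.2.1) (Subgroup.mem_sup_right w.2.2)

theorem Fit.mor_iff {P : Subgroup Ω} {f : Ω → Ω} : Mor D P f ↔ P ≤ U ∧ Psi F Q E P f := by
  rw [factor_mor hfac]
  exact and_congr_right fun hP => ⟨h.psi_of_induced hprod h1 h2 (hfac.2.2.1 ▸ hP),
    h.induced_of_psi hprod h1 h2⟩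

theorem Fit.sub : D.IsSubsystemOf F := fun P φ hφ =>
  (mor_iff_hom (F := F) fun x => (toFun_coe φ x).symm).1
    (h.psi_mor ((h.mor_iff hprod h1 h2 hfac).1 (mor_toFun hφ)).2)

omit h1 h2 in
theorem Fit.saturated (hZ : Z ≤ D₀.center) : D.IsSaturated p := by
  haveI := h.finite_prod
  have hcl : D₀.StronglyClosed Z := stronglyClosed_iff.2 ⟨hfac.1, fun P f hP hf w hw => by
    obtain ⟨ψ, -, he, hfix⟩ := (isCentral_iff.1 center_isCentral).2 P f hf
    rw [← he w hw, hfix w (hZ (hP hw))]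
    exact hP hw⟩
  exact saturated_of_surjective h.pgrp_prod (h.saturated_prodSys hprod)
    (S5134.result p h.pgrp_prod D₀ (h.saturated_prodSys hprod) Z hcl θ D hfac)

theorem Fit.normal (hZ : Z ≤ D₀.center) : D.IsNormalIn F p := by
  have hQT := h.range_eq hprod h1 h2 hfac
  have hmor := @Fit.mor_iff Ω _ S Q T F E p _ _ h U D₀ hprod Z θ h1 h2 D hfac
  subst hQT
  haveI := finite_of_le h.hU
  have hTcl : F.StronglyClosed T := h.hI.2.1
  have hQcl : F.StronglyClosed Q := stronglyClosed_of_normal h.nQ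
  have hT' : T ≤ Q ⊔ T := le_sup_right
  have hUS : T ⊔ centralizerIn S T ≤ S := sup_le h.hTS inf_le_left
  have hQC : Q ≤ centralizerIn S T := fun q hq => mem_centralizerIn.2
    ⟨h.hQS hq, fun t ht => h.cj_fix ht hq⟩
  have hDs : D.IsSaturated p := h.saturated hprod hfac hZ
  have hsub : D.IsSubsystemOf F := h.sub hprod h1 h2 hfac
  have hclU : F.StronglyClosed (Q ⊔ T) := by
    refine stronglyClosed_iff.2 ⟨h.hU, fun P f hP hf x hx => ?_⟩
    obtain ⟨ψ, hψ, hψe, hψQ⟩ := (isNormal_iff.1 h.nQ).2 P f hf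
    obtain ⟨t, ht, q, hq, rfl⟩ := exists_decomp (S := S) h.cent le_rfl
      ((sup_comm Q T).le (hP hx) : x ∈ T ⊔ Q)
    have htm : t ∈ P ⊔ Q := by
      have := mul_mem (Subgroup.mem_sup_left (T := Q) hx)
        (Subgroup.mem_sup_right (S := P) (Q.inv_mem hq))
      rwa [mul_inv_cancel_right] at this
    rw [← hψe _ hx, hψ.map_mul htm (Subgroup.mem_sup_right hq)]
    exact mul_mem (Subgroup.mem_sup_right (closed_apply' hTcl hψ htm ht))
      (Subgroup.mem_sup_left (closed_apply' hQcl hψ (Subgroup.mem_sup_right hq) hq))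
  refine ⟨⟨hDs, h.sat, FusionIso88.invariant_iff.2 ⟨hsub, hclU, fun P f hf a ha => ?_,
    fun P f hP hf => ?_⟩⟩, fun α hα => ?_⟩
  · -- conjugation
    obtain ⟨hPU, g, hg, P', ψ, hψE, hψ, hψQ, hle, hfe⟩ := hmor.1 hf
    have ham := (mem_autGroup h.hU).1 ha
    have hai := (mem_autGroup h.hU).1 (inv_mem ha)
    have hT1 := ham.restrict_to hT'
    have haQ : ∀ q ∈ Q, afun a q ∈ Q := fun q hq =>
      closed_apply' hQcl ham (Subgroup.mem_sup_left hq) hq
    have haiQ : ∀ q ∈ Q, afun a⁻¹ q ∈ Q := fun q hq =>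
      closed_apply' hQcl hai (Subgroup.mem_sup_left hq) hq
    obtain ⟨b, hb, hbe⟩ := hT1.exists_aut (hT1.im_self fun t ht =>
      closed_apply' hTcl ham (hT' ht) ht)
    have hbi : ∀ t ∈ T, afun b⁻¹ t = afun a⁻¹ t := fun t ht => by
      have hs : afun a⁻¹ t ∈ T := closed_apply' hTcl hai (hT' ht) ht
      conv_lhs => rw [← afun_apply_inv a (hT' ht), ← hbe _ hs]
      exact afun_inv_apply b hs
    have hP'T := hψE.le
    have hE' := FusionWeaklyNormal88.inv_mor h.hI hψE hb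
    have hP'U : P' ⊔ Q ≤ Q ⊔ T := sup_le (hP'T.trans hT') le_sup_left
    have e0 : im P' (afun b) = im P' (afun a) := im_congr fun x hx => hbe x (hP'T hx)
    rw [e0] at hE'
    set ψ' := afun a ∘ ψ ∘ afun a⁻¹ with hψ'
    have himU : im P' (afun a) ⊔ Q ≤ Q ⊔ T :=
      sup_le (e0 ▸ hE'.le.trans hT') le_sup_left
    have hback : ∀ y ∈ im P' (afun a) ⊔ Q, afun a⁻¹ y ∈ P' ⊔ Q := fun y hy =>
      mor_sup_induction (hai.restrict_to himU)
        (fun z hz => by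
          obtain ⟨x, hx, rfl⟩ := (ham.restrict_to (hP'T.trans hT')).mem_im.1 hz
          rw [afun_inv_apply a ((hP'T.trans hT') hx)]
          exact Subgroup.mem_sup_left hx)
        (fun q hq => Subgroup.mem_sup_right (haiQ q hq)) hy
    have hψU : ∀ x ∈ P' ⊔ Q, ψ x ∈ Q ⊔ T := fun x hx =>
      mor_sup_induction hψ (fun z hz => hT' (hψE.apply_mem hz))
        (fun q hq => Subgroup.mem_sup_left ((hψQ q hq).symm ▸ hq)) hx
    have hψ'F : Mor F (im P' (afun a) ⊔ Q) ψ' :=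
      ((hai.restrict_to himU).comp hψ hback).comp ham fun y hy => hψU _ (hback y hy)
    have hψ'E : Mor E (im P' (afun a)) ψ' := hE'.congr fun y hy => by
      have hyT : y ∈ T := hE'.le hy
      obtain ⟨x, hx, rfl⟩ := (ham.restrict_to (hP'T.trans hT')).mem_im.1 hy
      simp only [hψ', Function.comp_apply]
      rw [hbi _ hyT, afun_inv_apply a ((hP'T.trans hT') hx), hbe _ (hψE.apply_mem hx)]
    refine ⟨fun y => cj (afun a g) (ψ' y), hmor.2 ⟨?_, afun a g, haQ g hg,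
      _, ψ', hψ'E, hψ'F, fun q hq => ?_, ?_, fun _ _ => rfl⟩, fun x hx => ?_⟩
    · exact im_le_iff.2 fun x hx => afun_mem a (hPU hx)
    · simp only [hψ', Function.comp_apply]
      rw [hψQ _ (haiQ q hq), afun_apply_inv a (Subgroup.mem_sup_left hq)]
    · refine im_le_iff.2 fun x hx => mor_sup_induction (ham.restrict_to hP'U)
        (fun z hz => Subgroup.mem_sup_left (apply_mem_im hz))
        (fun q hq => Subgroup.mem_sup_right (haQ q hq)) (hle hx)
    · simp only [hψ', Function.comp_apply]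
      rw [afun_inv_apply a (hPU hx), hfe x hx, ham.map_cj (Subgroup.mem_sup_left hg)
        (hψU x (hle hx))]
  · -- Frattini
    obtain ⟨f₁, hf₁, hf₁e, hf₁Q⟩ := (isNormal_iff.1 h.nQ).2 P f hf
    have hrec := receptive_of_fullyNormalized (p := p) h.pgrp h.sat
      (FusionWeakAlperin.fullyNormalized_of_normal h.hQS fun _ hg _ hx => h.cjQ hg hx)
    obtain ⟨γ, hγ, hγe⟩ := (receptive_iff.1 hrec).2 Q f₁ (Q ⊔ T) (hf₁.restrict_to le_sup_right)
      hf₁Q h.hU (h.hU.trans (le_normalizer_of_normal h.nQ)) fun u hu => by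
        obtain ⟨t, ht, q, hq, rfl⟩ := exists_decomp (S := S) h.cent le_rfl
          ((sup_comm Q T).le hu : u ∈ T ⊔ Q)
        refine ⟨f₁ q, hf₁.apply_mem (Subgroup.mem_sup_right hq), fun x hx => ?_⟩
        have e : cj (t * q) x = cj q x := by
          rw [← cj_cj]
          exact (mem_centralizerIn.1 (h.cent ht)).2 _ (h.cjQ (h.hQS hq) hx)
        rw [e, hf₁.map_cj (Subgroup.mem_sup_right hq) (Subgroup.mem_sup_right hx)]
    have hγU := hγ.restrict_to (le_sup_right : Q ⊔ T ≤ Q ⊔ (Q ⊔ T))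
    obtain ⟨b, hb, hbe⟩ := hγU.exists_aut (hγU.im_self fun x hx =>
      closed_apply' hclU hγU hx hx)
    have hbm := (mem_autGroup h.hU).1 hb
    have hbi := (mem_autGroup h.hU).1 (inv_mem hb)
    have hPQ : P ⊔ Q ≤ Q ⊔ T := sup_le hP le_sup_left
    have hf₁U : ∀ x ∈ P ⊔ Q, f₁ x ∈ Q ⊔ T := fun x hx => closed_apply' hclU hf₁ hx (hPQ hx)
    set g₁ := afun b⁻¹ ∘ f₁ with hg₁def
    have hg₁ : Mor F (P ⊔ Q) g₁ := hf₁.comp hbi hf₁U
    have hg₁Q : ∀ q ∈ Q, g₁ q = q := fun q hq => by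
      simp only [hg₁def, Function.comp_apply]
      rw [← hγe q hq, ← hbe q (Subgroup.mem_sup_left hq),
        afun_inv_apply b (Subgroup.mem_sup_left hq)]
    set P' := (P ⊔ Q) ⊓ T with hP'
    have hPP' : P ⊔ Q ≤ P' ⊔ Q := fun x hx => by
      obtain ⟨t, ht, q, hq, rfl⟩ := exists_decomp (S := S) h.cent le_rfl
        ((sup_comm Q T).le (hPQ hx) : x ∈ T ⊔ Q)
      have htm : t ∈ P ⊔ Q := by
        have := mul_mem hx (Subgroup.mem_sup_right (S := P) (Q.inv_mem hq))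
        rwa [mul_inv_cancel_right] at this
      exact mul_mem (Subgroup.mem_sup_left ⟨htm, ht⟩) (Subgroup.mem_sup_right hq)
    have hP'P : P' ⊔ Q ≤ P ⊔ Q := sup_le inf_le_left le_sup_right
    obtain ⟨a₀, ha₀, ha₀Q, e, he, hge⟩ := h.fr (inf_le_right : P' ≤ T) (hg₁.restrict_to hP'P) hg₁Q
    obtain ⟨ψ, hψ, hψe, hψQ⟩ := h.ext he
    have ha₀U := ha₀.restrict_to (sup_comm Q T).le
    obtain ⟨a, ha, hae⟩ := ha₀U.exists_aut (ha₀U.im_self fun x hx =>
      closed_apply' hclU ha₀U hx hx)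
    have ham := (mem_autGroup h.hU).1 ha
    have hψU : ∀ x ∈ P' ⊔ Q, ψ x ∈ Q ⊔ T := fun x hx =>
      mor_sup_induction hψ (fun z hz => hT' ((hψe z hz).symm ▸ he.apply_mem hz))
        (fun q hq => Subgroup.mem_sup_left ((hψQ q hq).symm ▸ hq)) hx
    have heq : ∀ x ∈ P' ⊔ Q, g₁ x = afun a (ψ x) := by
      intro x hx
      obtain ⟨t, ht, q, hq, rfl⟩ := exists_decomp (S := S) h.cent inf_le_right hx
      have htP : t ∈ P ⊔ Q := ht.1
      rw [hg₁.map_mul htP (Subgroup.mem_sup_right hq),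
        hψ.map_mul (Subgroup.mem_sup_left ht) (Subgroup.mem_sup_right hq), hg₁Q q hq, hψQ q hq,
        hψe t ht, afun_map_mul a (hT' (he.apply_mem ht)) (Subgroup.mem_sup_left hq),
        hge t ht, hae _ (hT' (he.apply_mem ht)), hae q (Subgroup.mem_sup_left hq), ha₀Q q hq]
    refine ⟨b * a, mul_mem hb ha, ψ, hmor.2 ⟨hP, 1, one_mem _, P', ψ,
      he.congr fun x hx => (hψe x hx).symm, hψ, hψQ, le_sup_left.trans hPP',
      fun x _ => (cj_one _).symm⟩, fun x hx => ?_⟩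
    have hx' := hPP' (Subgroup.mem_sup_left hx)
    rw [afun_mul _ _ (hψU x hx'), ← heq x hx', ← hf₁e x hx]
    exact (afun_apply_inv b (hf₁U x (Subgroup.mem_sup_left hx))).symm
  · -- extension
    suffices D.autGroup (Q ⊔ T) ≤ FusionMeet.goodSub F (Q ⊔ T) h.hU from
      FusionMeet.ext_of_good (this hα)
    refine FusionWeakAlperin.autGroup_le_of_fullyNormalized (h.pgrp.to_le h.hU) hDs
      fullyNormalized_self ?_ ?_
    · rw [Subgroup.map_le_iff_le_comap, TransferPResidual.pResidual_le_iff_coprime]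
      intro a hco
      rw [← Subgroup.orderOf_coe] at hco
      obtain ⟨-, g, hg, P', ψ, hψE, hψ, hψQ, hle, hae⟩ := hmor.1 ((mem_autGroup le_rfl).1 a.2)
      have haQ : ∀ q ∈ Q, afun (a : MulAut ↥(Q ⊔ T)) q = q := fun q hq => by
        have := FusionLayerCore.fix_of_cj (S := S) (U := Q ⊔ T) (Q := Q) h.pgrp le_sup_left
          (b := (a : MulAut ↥(Q ⊔ T))) (e := 1) (by rwa [pow_one]) (h.hQS hg)
          (fun x hx => h.cjQ (h.hQS hg) hx)
          (fun x hx => by rw [hae x (Subgroup.mem_sup_left hx), hψQ x hx]) q hq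
        rwa [pow_one] at this
      have hTle : T ≤ P' ⊔ (Q ⊓ T) := fun t ht => by
        obtain ⟨b, hb, q, hq, rfl⟩ := exists_decomp (S := S) h.cent hψE.le (hle (hT' ht))
        have hqT : q ∈ T := by
          have := T.mul_mem (T.inv_mem (hψE.le hb)) ht
          rwa [inv_mul_cancel_left] at this
        exact mul_mem (Subgroup.mem_sup_left hb) (Subgroup.mem_sup_right ⟨hq, hqT⟩)
      have heT : Mor E T ψ := (h.mor_sup hψE hψ hψQ).restrict_to hTle
      haveI := finite_of_le h.hTS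
      obtain ⟨e, he, hee⟩ := heT.exists_aut (heT.im_self fun t ht => heT.apply_mem ht)
      have heT' : ∀ t ∈ T, afun (a : MulAut ↥(Q ⊔ T)) t = afun e t := fun t ht => by
        rw [hae t (hT' ht), hee t ht, h.cj_fix (heT.apply_mem ht) hg]
      have heco : (orderOf e).Coprime p := hco.coprime_dvd_left (orderOf_dvd_of_pow_eq_one
        (afun_ext fun t ht => by
          rw [← FusionCentralizerSub.pow_restrict hT' heT' _ t ht, pow_orderOf_eq_one,
            afun_one (hT' ht), afun_one ht]))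
      obtain ⟨g₀, hg₀, hg₀e, hg₀c⟩ := FusionMeet.good_of_normal h.nE h.hTS he
      rw [im_afun] at hg₀c
      have hsrc : ∀ x ∈ T ⊔ centralizerIn S T, g₀ x ∈ T ⊔ centralizerIn S T := fun x hx =>
        mor_sup_induction hg₀ (fun t ht => Subgroup.mem_sup_left ((hg₀e t ht).symm ▸ afun_mem e ht))
          (fun c hc => by
            have := mul_mem (Subgroup.mem_sup_right (S := T) hc)
              (Subgroup.mem_sup_left (T := centralizerIn S T) (hg₀c c hc))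
            rwa [mul_inv_cancel_left] at this) hx
      haveI := finite_of_le hUS
      obtain ⟨β, hβ, hβe⟩ := hg₀.exists_aut (hg₀.im_self hsrc)
      have hβT : ∀ t ∈ T, afun β t = afun e t := fun t ht => by
        rw [hβe t (Subgroup.mem_sup_left ht), hg₀e t ht]
      obtain ⟨k, hkco, hkpow⟩ := FusionGoodLift.exists_pow_coprime (p := p) β
      have hek : e ^ k = e := hkpow e (afun_ext fun t ht => by
        rw [← FusionCentralizerSub.pow_restrict le_sup_left hβT _ t ht, pow_orderOf_eq_one,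
          afun_one (Subgroup.mem_sup_left ht), afun_one ht]) heco
      have hkT : ∀ t ∈ T, afun (β ^ k) t = afun e t := fun t ht => by
        rw [FusionCentralizerSub.pow_restrict le_sup_left hβT _ t ht, hek]
      have hkC : ∀ n : ℕ, ∀ c ∈ centralizerIn S T, c⁻¹ * afun (β ^ n) c ∈ T := by
        intro n
        induction n with
        | zero =>
          intro c hc
          rw [pow_zero, afun_one (Subgroup.mem_sup_right hc), inv_mul_cancel]
          exact one_mem _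
        | succ n ih =>
          intro c hc
          have h3 := hg₀c c hc
          rw [← hβe c (Subgroup.mem_sup_right hc)] at h3
          rw [pow_succ, afun_mul _ _ (Subgroup.mem_sup_right hc),
            show afun β c = c * (c⁻¹ * afun β c) by rw [mul_inv_cancel_left],
            afun_map_mul _ (Subgroup.mem_sup_right hc) (Subgroup.mem_sup_left h3), ← mul_assoc]
          refine mul_mem (ih c hc) ?_
          rw [FusionCentralizerSub.pow_restrict le_sup_left hβT _ _ h3]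
          exact afun_mem _ h3
      have hkm := (mem_autGroup hUS).1 (pow_mem hβ k)
      have hQX : Q ≤ T ⊔ centralizerIn S T := hQC.trans le_sup_right
      have hkQm : ∀ q ∈ Q, afun (β ^ k) q ∈ Q := fun q hq =>
        closed_apply' hQcl hkm (hQX hq) hq
      have hkQr := hkm.restrict_to hQX
      obtain ⟨bQ, hbQ, hbQe⟩ := hkQr.exists_aut (hkQr.im_self hkQm)
      haveI := finite_of_le h.hQS
      have hbQ1 : bQ = 1 := FusionComponentExists.eq_one_of_moves_fixed (Z := T) h.pgrp h.hQS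
        (hkco.coprime_dvd_left (orderOf_dvd_of_pow_eq_one (afun_ext fun q hq => by
          rw [← FusionCentralizerSub.pow_restrict hQX (fun x hx => (hbQe x hx).symm) _ q hq,
            pow_orderOf_eq_one, afun_one (hQX hq), afun_one hq])))
        (fun q hq => by rw [hbQe q hq]; exact hkC k q (hQC hq))
        (fun q hq hqT => by
          rw [hbQe q hq, hkT q hqT]
          exact h.fixJ ((mem_autGroup le_rfl).1 he) hqT hq)
      have hkQ : ∀ q ∈ Q, afun (β ^ k) q = q := fun q hq => by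
        rw [← hbQe q hq, hbQ1, afun_one hq]
      have hXU : Q ⊔ T ⊔ centralizerIn S (Q ⊔ T) ≤ T ⊔ centralizerIn S T :=
        sup_le (sup_le hQX le_sup_left) ((FusionCentralizerSub.cent_le_cent hT').trans le_sup_right)
      refine ⟨afun (β ^ k), hkm.restrict_to hXU, fun x hx => ?_, fun c hc => ?_⟩
      · obtain ⟨t, ht, q, hq, rfl⟩ := exists_decomp (S := S) h.cent le_rfl
          ((sup_comm Q T).le hx : x ∈ T ⊔ Q)
        rw [afun_map_mul _ (Subgroup.mem_sup_left ht) (hQX hq), hkT t ht, hkQ q hq,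
          afun_map_mul _ (hT' ht) (Subgroup.mem_sup_left hq)]
        show _ = afun (a : MulAut ↥(Q ⊔ T)) t * afun (a : MulAut ↥(Q ⊔ T)) q
        rw [heT' t ht, haQ q hq]
      · rw [im_afun]
        exact hT' (hkC k c (FusionCentralizerSub.cent_le_cent hT' hc))
    · intro a ha
      obtain ⟨u, hu, -, hue⟩ := mem_autInducedBy.1 ha
      refine ⟨cj u, mor_cj (sup_le h.hU inf_le_left) (h.hU hu), fun x hx => (hue x hx).symm,
        fun c hc => ?_⟩
      have := (mem_centralizerIn.1 hc).2 u hu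
      rw [cj_apply, mul_inv_eq_iff_eq_mul] at this
      rw [cj_apply, ← this, mul_inv_cancel_right, inv_mul_cancel, im_afun]
      exact one_mem _

end Data

/-- The central product exists. -/
theorem Fit.exists_cp : ∃ D : FusionSystem (Q ⊔ T : Subgroup Ω),
    IsCentralProductOf (Cfsg.innerFusionSystem Q) E D := by
  haveI := finite_of_le h.hQS
  haveI := finite_of_le h.hTS
  haveI := h.finite_prod
  obtain ⟨D₀, hprod⟩ := S5136.result p (h.pgrp.to_le h.hQS) (h.pgrp.to_le h.hTS)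
    (Cfsg.innerFusionSystem Q) E
  let θ : ↥(Q.prod T) →* Ω := MonoidHom.mk' (fun w => (w : Ω × Ω).1 * (w : Ω × Ω).2) fun u v => by
    show (u : Ω × Ω).1 * (v : Ω × Ω).1 * ((u : Ω × Ω).2 * (v : Ω × Ω).2) = _
    rw [mul_assoc, ← mul_assoc (v : Ω × Ω).1, ← h.comm u.2.2 v.2.1]
    simp [mul_assoc]
  have h1 : ∀ (x : Ω) (hx : ((x, 1) : Ω × Ω) ∈ Q.prod T), θ ⟨(x, 1), hx⟩ = x :=
    fun x _ => mul_one x
  have h2 : ∀ (y : Ω) (hy : ((1, y) : Ω × Ω) ∈ Q.prod T), θ ⟨(1, y), hy⟩ = y :=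
    fun y _ => one_mul y
  set Z : Subgroup (Ω × Ω) := θ.ker.map (Q.prod T).subtype with hZdef
  have hZle : Z ≤ Q.prod T := Subgroup.map_subtype_le _
  have hrange : θ.range = Q ⊔ T := by
    refine le_antisymm ?_ (sup_le (fun x hx => ⟨⟨(x, 1), hx, one_mem _⟩, h1 x _⟩)
      fun y hy => ⟨⟨(1, y), one_mem _, hy⟩, h2 y _⟩)
    rintro _ ⟨w, rfl⟩
    exact mul_mem (Subgroup.mem_sup_left w.2.1) (Subgroup.mem_sup_right w.2.2)
  have hZfix : ∀ {R : Subgroup (Ω × Ω)} {f₀ : Ω × Ω → Ω × Ω}, Mor D₀ R f₀ → ∀ w ∈ R, w ∈ Z →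
      f₀ w = w := by
    intro R f₀ hf₀ w hw hwZ
    obtain ⟨⟨w', hw'⟩, hk, rfl⟩ := hwZ
    obtain ⟨-, f₁, e, hf₁, he, hfe⟩ := (S5137.mor_prod hprod).1 hf₀
    obtain ⟨-, g, hg, hge⟩ := FusionSysAlperin.mor_inner_iff.1 hf₁
    have e1 : w'.1 * w'.2 = 1 := hk
    have hQ' : w'.2 ∈ Q := eq_inv_of_mul_eq_one_right e1 ▸ Q.inv_mem hw'.1
    have hT' : w'.1 ∈ T := eq_inv_of_mul_eq_one_left e1 ▸ T.inv_mem hw'.2
    change w' ∈ R at hw
    show f₀ w' = w'
    rw [hfe w' hw, hge _ (S5137.fst_mem hw), h.cj_fix hT' hg,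
      h.fixJ he (S5137.snd_mem hw) hQ']
  have hZc : Z ≤ D₀.center := le_center (isCentral_of_fixed (p := p) h.pgrp_prod
    (h.saturated_prodSys hprod) hZle fun x hx y hy => by
      obtain ⟨f, hf, rfl⟩ := isConjElt_iff.1 hy
      exact hZfix hf x (Subgroup.mem_zpowers x) hx)
  have hker : (θ.ker).map (Q.prod T).subtype = Z := rfl
  have hsrc : ∀ {P : Subgroup Ω}, P ≤ Q ⊔ T → ∀ x ∈ P, ∃ w ∈ preimageAlong θ P, app θ w = x :=
    fun {P} hP x hx => by
      obtain ⟨w, hw, -, e⟩ := mem_imageAlong.1 ((imageAlong_preimageAlong (hrange ▸ hP)).ge hx)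
      exact ⟨w, hw, e⟩
  have hind : ∀ {P : Subgroup Ω} {f : Ω → Ω}, P ≤ Q ⊔ T →
      (Psi F Q E P f ↔ Induced D₀ θ P f) := fun hP =>
    ⟨h.induced_of_psi hprod h1 h2, h.psi_of_induced hprod h1 h2 (hrange ▸ hP)⟩
  have happ : ∀ w ∈ Q.prod T, app θ w ∈ Q ⊔ T := fun w hw => by
    rw [app_apply θ hw, ← hrange]
    exact ⟨_, rfl⟩
  have hc : FusionInduct88.Closed F (U := Q ⊔ T) (Psi F Q E) :=
    { congr := fun ⟨g, hg, P', ψ, h₁, h₂, h₃, h₄, h₅⟩ hfg =>
        ⟨g, hg, P', ψ, h₁, h₂, h₃, h₄, fun x hx => (hfg x hx).symm.trans (h₅ x hx)⟩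
      conj := fun {P u} hP hu => by
        obtain ⟨t, ht, q, hq, rfl⟩ := exists_decomp (S := S) h.cent le_rfl
          ((sup_comm Q T).le hu : u ∈ T ⊔ Q)
        exact ⟨q, hq, T, cj t, mor_cj le_rfl ht,
          mor_cj (sup_le h.hTS h.hQS) (h.hTS ht), fun x hx => by
            rw [cj_apply, h.comm ht hx, mul_inv_cancel_right],
          hP.trans (sup_comm Q T).le, fun x _ => by rw [cj_cj, h.comm ht hq]⟩
      comp := fun {P R f f'} hf hf' hP hR hfR h₁ h₂ => by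
        obtain ⟨a, ha, hae⟩ := (hind hP).1 h₁
        obtain ⟨b, hb, hbe⟩ := (hind hR).1 h₂
        have hm : ∀ w ∈ preimageAlong θ P, a w ∈ preimageAlong θ R := fun w hw =>
          mem_preimageAlong.2 ⟨ha.apply_mem hw,
            hae w hw ▸ hfR _ (mem_preimageAlong.1 hw).2⟩
        refine (hind hP).2 ⟨b ∘ a, ha.comp hb hm, fun w hw => ?_⟩
        simp only [Function.comp_apply]
        rw [hae w hw, hbe _ (hm w hw)]
      inv := fun {P f f'} hf hf' hP hff' h₁ => by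
        obtain ⟨a, ha, hae⟩ := (hind hP).1 h₁
        obtain ⟨j, hj, hja, -, -⟩ := ha.exists_inv
        have hP' : im P f ≤ Q ⊔ T := im_le_iff.2 fun x hx => by
          obtain ⟨w, hw, rfl⟩ := hsrc hP x hx
          rw [hae w hw]
          exact happ _ (ha.apply_mem hw)
        have key : ∀ y ∈ preimageAlong θ (im P f), ∃ w ∈ preimageAlong θ P, a w = y := by
          intro y hy
          obtain ⟨hym, hyP⟩ := mem_preimageAlong.1 hy
          obtain ⟨x, hx, hxe⟩ := hf.mem_im.1 hyP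
          obtain ⟨w, hw, rfl⟩ := hsrc hP x hx
          have hz : (a w)⁻¹ * y ∈ Z := hker ▸ mem_kerAlong.2
            ⟨mul_mem (inv_mem (ha.apply_mem hw)) hym, by
              rw [app_mul (inv_mem (ha.apply_mem hw)) hym, app_inv (ha.apply_mem hw), ← hae w hw,
                hxe, inv_mul_cancel]⟩
          have hzP : (a w)⁻¹ * y ∈ preimageAlong θ P := ker_le_preimageAlong P (hker.symm ▸ hz)
          refine ⟨w * ((a w)⁻¹ * y), mul_mem hw hzP, ?_⟩
          rw [ha.map_mul hw hzP, hZfix ha _ hzP hz, mul_inv_cancel_left]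
        refine (hind hP').2 ⟨j, hj.restrict_to fun y hy => ?_, fun y hy => ?_⟩
        · obtain ⟨w, hw, rfl⟩ := key y hy
          exact apply_mem_im hw
        · obtain ⟨w, hw, rfl⟩ := key y hy
          rw [hja w hw, ← hae w hw, hff' _ (mem_preimageAlong.1 hw).2] }
  let D := FusionInduct88.subSystem (F := F) h.hU hc
  refine ⟨D, D₀, hprod, Z, θ, hZc, ?_, ?_, h1, h2, hZle, fun s => ?_, hrange, fun P φ => ?_⟩
  · refine (Subgroup.eq_bot_iff_forall _).2 fun w hw => ?_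
    obtain ⟨⟨u, hk, rfl⟩, hu⟩ := hw
    have e1 : (u : Ω × Ω).1 * (u : Ω × Ω).2 = 1 := hk
    have e2 : (u : Ω × Ω).2 = 1 := Subgroup.mem_bot.1 hu.2
    rw [e2, mul_one] at e1
    exact Prod.ext e1 e2
  · refine (Subgroup.eq_bot_iff_forall _).2 fun w hw => ?_
    obtain ⟨⟨u, hk, rfl⟩, hu⟩ := hw
    have e1 : (u : Ω × Ω).1 * (u : Ω × Ω).2 = 1 := hk
    have e2 : (u : Ω × Ω).1 = 1 := Subgroup.mem_bot.1 hu.1
    rw [e2, one_mul] at e1
    exact Prod.ext e2 e1
  · rw [← MonoidHom.mem_ker]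
    exact ⟨fun hs => ⟨s, hs, rfl⟩, fun ⟨u, hu, e⟩ => Subtype.ext e ▸ hu⟩
  · constructor
    · rintro ⟨-, hP, -, hΦ⟩
      obtain ⟨f₀, hf₀, hff⟩ := (hind hP).1 hΦ
      obtain ⟨φ₀, hφ₀, he₀⟩ := hf₀
      exact ⟨hP, φ₀, hφ₀, (inducedAlong_iff (preimageAlong_le θ P) (D₀.le_of_mem hφ₀).2 he₀
        (fun y => (toFun_coe φ y).symm)).2 fun w hw => ⟨(mem_preimageAlong.1 hw).2, hff w hw⟩⟩
    · rintro ⟨hP, φ₀, hφ₀, hi⟩
      have hff := (inducedAlong_iff (preimageAlong_le θ P) (D₀.le_of_mem hφ₀).2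
        (fun x => (toFun_coe φ₀ x).symm) (fun y => (toFun_coe φ y).symm)).1 hi
      have hΦ := (hind hP).2 ⟨toFun φ₀, mor_toFun hφ₀, fun w hw => (hff w hw).2⟩
      refine ⟨(mor_iff_hom (F := F) fun x => (toFun_coe φ x).symm).1 (h.psi_mor hΦ), hP,
        fun x => ?_, hΦ⟩
      obtain ⟨w, hw, e⟩ := hsrc hP x x.2
      rw [← toFun_coe φ x, ← e, (hff w hw).2]
      exact happ _ ((mor_toFun hφ₀).apply_mem hw)

end Cfsg.Agent.FusionCentralProduct
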