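import Cfsg.Agent.Lib.FusionCP
import Cfsg.Agent.Lib.FusionCentralProduct
import Cfsg.Agent.Lib.FusionCentralizerSub

/-!
Two normal subsystems each of which centralizes the group of the other have a central product
(`exists_cp`), and it is a normal subsystem (`cp_normal`).
-/

set_option autoImplicit false

namespace Cfsg.Agent.FusionCPNormal

open Cfsg Cfsg.FusionSystem Cfsg.Agent.FusionSysBasic Cfsg.Agent.FusionSysSaturated
open Cfsg.Agent.FusionSysNormal Cfsg.Agent.FusionKit88 Cfsg.Agent.FusionMorph88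
open Cfsg.Agent.FusionCentralizerSub (Valid)
open Cfsg.Agent.FusionCP (CP mem_mul)

variable {Ω : Type*} [Group Ω] {S A B : Subgroup Ω} {F : FusionSystem S} {E₁ : FusionSystem A}
  {E₂ : FusionSystem B} {p : ℕ}

/-- Two commuting normal subsystems. -/
structure Com (F : FusionSystem S) (E₁ : FusionSystem A) (E₂ : FusionSystem B) (p : ℕ) : Prop where
  pgrp : IsPGroup p S
  sat : F.IsSaturated p
  n1 : E₁.IsNormalIn F p
  n2 : E₂.IsNormalIn F p
  v1 : Valid F E₁ B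
  v2 : Valid F E₂ A

/-- A product of maps of the factors is a map of a system in which they extend fixing the other
factor. -/
theorem mor_of_split {U : Subgroup Ω} {G : FusionSystem U} (hc : ∀ a ∈ A, ∀ b ∈ B, a * b = b * a)
    {P R₁ R₂ : Subgroup Ω} {f e₁ e₂ : Ω → Ω} (hR₁ : R₁ ≤ A) (hR₂ : R₂ ≤ B)
    (he₂ : ∀ y ∈ R₂, e₂ y ∈ B)
    (h₁ : ∃ ψ, Mor G (R₁ ⊔ B) ψ ∧ (∀ x ∈ R₁, ψ x = e₁ x) ∧ ∀ b ∈ B, ψ b = b)
    (h₂ : ∃ ψ, Mor G (R₂ ⊔ A) ψ ∧ (∀ x ∈ R₂, ψ x = e₂ x) ∧ ∀ a ∈ A, ψ a = a)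
    (he : ∀ z ∈ P, ∃ x ∈ R₁, ∃ y ∈ R₂, z = x * y ∧ f z = e₁ x * e₂ y) : Mor G P f := by
  obtain ⟨ψ, hψ, hψe, hψB⟩ := h₁
  obtain ⟨χ, hχ, hχe, hχA⟩ := h₂
  have hP : P ≤ R₂ ⊔ A := fun z hz => by
    obtain ⟨x, hx, y, hy, rfl, -⟩ := he z hz
    exact mul_mem (Subgroup.mem_sup_right (hR₁ hx)) (Subgroup.mem_sup_left hy)
  have hval : ∀ z ∈ P, χ z ∈ R₁ ⊔ B ∧ ψ (χ z) = f z := by
    intro z hz
    obtain ⟨x, hx, y, hy, rfl, hfz⟩ := he z hz
    rw [hχ.map_mul (Subgroup.mem_sup_right (hR₁ hx)) (Subgroup.mem_sup_left hy), hχA x (hR₁ hx),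
      hχe y hy]
    refine ⟨mul_mem (Subgroup.mem_sup_left hx) (Subgroup.mem_sup_right (he₂ y hy)), ?_⟩
    rw [hψ.map_mul (Subgroup.mem_sup_left hx) (Subgroup.mem_sup_right (he₂ y hy)), hψe x hx,
      hψB _ (he₂ y hy), hfz]
  exact ((hχ.restrict_to hP).comp hψ fun z hz => (hval z hz).1).congr fun z hz => (hval z hz).2

variable [Finite S] [Fact p.Prime]

/-- Maps lift modulo a strongly closed subgroup. -/
theorem lift_mod (hS : IsPGroup p S) (hF : F.IsSaturated p) {X : Subgroup Ω}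
    (hX : F.StronglyClosed X) {P : Subgroup Ω} {f : Ω → Ω} (hf : Mor F P f) :
    ∃ g, Mor F (P ⊔ X) g ∧ ∀ x ∈ P, (g x)⁻¹ * f x ∈ X := by
  haveI : (X.subgroupOf S).Normal := by
    refine ⟨fun n hn g => ?_⟩
    rw [Subgroup.mem_subgroupOf] at hn ⊢
    exact cj_mem_of_stronglyClosed hX g.2 hn
  set θ := QuotientGroup.mk' (X.subgroupOf S) with hθ
  let E := S5132.factorSys F X hX
  have hfac : F.IsFactorSystem X θ E := ⟨hX.1, fun s => by
    rw [← MonoidHom.mem_ker, QuotientGroup.ker_mk', Subgroup.mem_subgroupOf],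
    QuotientGroup.range_mk' _, fun P' φ' => Iff.rfl⟩
  obtain ⟨f', hf', he⟩ := morphism_mor (S5134.result p hS F hF X hX θ E hfac).1 hf
  obtain ⟨-, g, hg, hge⟩ := (factor_mor hfac).1 hf'
  refine ⟨g, hg.restrict_to (sup_le (le_preimageAlong P hf.le) fun x hx => mem_preimageAlong.2
    ⟨hX.1 hx, ?_⟩), fun x hx => ?_⟩
  · rw [app_apply θ (hX.1 hx), (hfac.2.1 ⟨x, hX.1 hx⟩).2 hx]
    exact one_mem _
  · have hgx := hg.apply_mem (le_preimageAlong P hf.le hx)
    have hm := S.mul_mem (S.inv_mem hgx) (hf.apply_mem hx)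
    refine (hfac.2.1 ⟨_, hm⟩).1 ?_
    rw [← app_apply θ hm, app_mul (S.inv_mem hgx) (hf.apply_mem hx), app_inv hgx,
      ← hge x (le_preimageAlong P hf.le hx), he x hx, inv_mul_cancel]

variable (h : Com F E₁ E₂ p)
include h

omit [Finite S] [Fact p.Prime] in
theorem Com.symm : Com F E₂ E₁ p := ⟨h.pgrp, h.sat, h.n2, h.n1, h.v2, h.v1⟩

omit [Finite S] [Fact p.Prime] in
theorem Com.comm : ∀ a ∈ A, ∀ b ∈ B, a * b = b * a := fun a ha b hb => by
  have := (mem_centralizerIn.1 (h.v1.1 hb)).2 a ha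
  rw [cj_apply, mul_inv_eq_iff_eq_mul] at this
  exact this.symm

omit [Finite S] [Fact p.Prime] in
theorem Com.left_le : A ≤ S := h.n1.1.2.2.2.1.1

omit [Finite S] [Fact p.Prime] in
theorem Com.le_sup : A ⊔ B ≤ S := sup_le h.left_le h.n2.1.2.2.2.1.1

omit [Finite S] [Fact p.Prime] in
theorem Com.sub {U : Subgroup Ω} {D : FusionSystem U} (hD : CP D E₁ E₂) : D.IsSubsystemOf F :=
  fun P φ hφ => by
    obtain ⟨e₁, e₂, R₁, R₂, h1, h2, he⟩ := hD.split (mor_toFun hφ)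
    exact (mor_iff_hom fun x => (toFun_coe φ x).symm).1 (mor_of_split h.comm h1.le h2.le
      (fun y hy => h2.apply_mem hy) (h.v1.2 _ _ h1) (h.v2.2 _ _ h2) he)

omit [Finite S] [Fact p.Prime] in
theorem Com.fix_left {R : Subgroup Ω} {e : Ω → Ω} (he : Mor E₁ R e) {x : Ω} (hx : x ∈ R)
    (hB : x ∈ B) : e x = x := by
  obtain ⟨ψ, -, hψe, hψB⟩ := h.v1.2 _ _ he
  rw [← hψe x hx, hψB x hB]

theorem Com.exists_cp : ∃ D : FusionSystem (A ⊔ B : Subgroup Ω),
    IsCentralProductOf E₁ E₂ D ∧ CP D E₁ E₂ ∧ D.IsSaturated p := by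
  have hA : A ≤ S := h.left_le
  have hB : B ≤ S := h.symm.left_le
  haveI := finite_of_le hA
  haveI := finite_of_le hB
  haveI : Finite ↥(A.prod B) := Finite.of_equiv _ (Subgroup.prodEquiv A B).symm.toEquiv
  have hAp := h.pgrp.to_le hA
  have hBp := h.pgrp.to_le hB
  obtain ⟨D₀, hprod⟩ := S5136.result p hAp hBp E₁ E₂
  let θ : ↥(A.prod B) →* Ω := MonoidHom.mk' (fun w => (w : Ω × Ω).1 * (w : Ω × Ω).2) fun u v => by
    show (u : Ω × Ω).1 * (v : Ω × Ω).1 * ((u : Ω × Ω).2 * (v : Ω × Ω).2) = _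
    rw [mul_assoc, ← mul_assoc (v : Ω × Ω).1, h.comm _ v.2.1 _ u.2.2]
    simp [mul_assoc]
  have h1 : ∀ (x : Ω) (hx : ((x, 1) : Ω × Ω) ∈ A.prod B), θ ⟨(x, 1), hx⟩ = x :=
    fun x _ => mul_one x
  have h2 : ∀ (y : Ω) (hy : ((1, y) : Ω × Ω) ∈ A.prod B), θ ⟨(1, y), hy⟩ = y :=
    fun y _ => one_mul y
  have happ : ∀ {w : Ω × Ω}, w ∈ A.prod B → app θ w = w.1 * w.2 := fun hw =>
    FusionFittingBasic.app_mul_eq h1 h2 hw.1 hw.2
  set Z : Subgroup (Ω × Ω) := θ.ker.map (A.prod B).subtype with hZdef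
  have hZle : Z ≤ A.prod B := Subgroup.map_subtype_le _
  have hrange : θ.range = A ⊔ B := by
    refine le_antisymm ?_ (sup_le (fun x hx => ⟨⟨(x, 1), hx, one_mem _⟩, h1 x _⟩)
      fun y hy => ⟨⟨(1, y), one_mem _, hy⟩, h2 y _⟩)
    rintro _ ⟨w, rfl⟩
    exact mul_mem (Subgroup.mem_sup_left w.2.1) (Subgroup.mem_sup_right w.2.2)
  have hZfix : ∀ {R : Subgroup (Ω × Ω)} {f₀ : Ω × Ω → Ω × Ω}, Mor D₀ R f₀ → ∀ w ∈ R, w ∈ Z →
      f₀ w = w := by
    intro R f₀ hf₀ w hw hwZ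
    obtain ⟨⟨w', hw'⟩, hk, rfl⟩ := hwZ
    change w' ∈ R at hw
    obtain ⟨-, e₁, e₂, he₁, he₂, hfe⟩ := (S5137.mor_prod hprod).1 hf₀
    have e : w'.1 * w'.2 = 1 := hk
    have hA' : w'.2 ∈ A := eq_inv_of_mul_eq_one_right e ▸ A.inv_mem hw'.1
    have hB' : w'.1 ∈ B := eq_inv_of_mul_eq_one_left e ▸ B.inv_mem hw'.2
    show f₀ w' = w'
    rw [hfe w' hw, h.fix_left he₁ (S5137.fst_mem hw) hB',
      h.symm.fix_left he₂ (S5137.snd_mem hw) hA']
  have hp : IsPGroup p ↥(A.prod B) := fun w => by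
    obtain ⟨a, ha⟩ := hAp ⟨(w : Ω × Ω).1, w.2.1⟩
    obtain ⟨b, hb⟩ := hBp ⟨(w : Ω × Ω).2, w.2.2⟩
    have ha' : (w : Ω × Ω).1 ^ p ^ a = 1 := congrArg Subtype.val ha
    have hb' : (w : Ω × Ω).2 ^ p ^ b = 1 := congrArg Subtype.val hb
    refine ⟨a + b, Subtype.ext (Prod.ext ?_ ?_)⟩
    · show (w : Ω × Ω).1 ^ p ^ (a + b) = 1
      rw [pow_add, pow_mul, ha', one_pow]
    · show (w : Ω × Ω).2 ^ p ^ (a + b) = 1
      rw [pow_add, mul_comm, pow_mul, hb', one_pow]
  have hZc : Z ≤ D₀.center := le_center (isCentral_of_fixed (p := p) hp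
    (S5137.saturated_prod hprod hAp hBp h.n1.1.1 h.n2.1.1) hZle fun x hx y hy => by
      obtain ⟨f, hf, rfl⟩ := isConjElt_iff.1 hy
      exact hZfix hf x (Subgroup.mem_zpowers x) hx)
  have hsrc : ∀ {P : Subgroup Ω}, P ≤ A ⊔ B → ∀ x ∈ P, ∃ w ∈ preimageAlong θ P, app θ w = x :=
    fun {P} hP x hx => by
      obtain ⟨w, hw, -, e⟩ := mem_imageAlong.1 ((imageAlong_preimageAlong (hrange ▸ hP)).ge hx)
      exact ⟨w, hw, e⟩
  have hmor : ∀ {P : Subgroup Ω} {f : Ω → Ω}, P ≤ A ⊔ B →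
      FusionCentralProduct.Induced D₀ θ P f → Mor F P f := by
    rintro P f hP ⟨f₀, hf₀, hff⟩
    obtain ⟨hW, e₁, e₂, he₁, he₂, hfe⟩ := (S5137.mor_prod hprod).1 hf₀
    refine mor_of_split h.comm he₁.le he₂.le (fun y hy => he₂.apply_mem hy) (h.v1.2 _ _ he₁)
      (h.v2.2 _ _ he₂) fun z hz => ?_
    obtain ⟨w, hw, rfl⟩ := hsrc hP z hz
    refine ⟨w.1, S5137.fst_mem hw, w.2, S5137.snd_mem hw, happ (hW hw), ?_⟩
    rw [hff w hw, hfe w hw, happ (show ((e₁ w.1, e₂ w.2) : Ω × Ω) ∈ A.prod B from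
      ⟨he₁.apply_mem (S5137.fst_mem hw), he₂.apply_mem (S5137.snd_mem hw)⟩)]
  have hker : (θ.ker).map (A.prod B).subtype = Z := rfl
  have hc : FusionInduct88.Closed F (U := A ⊔ B) (FusionCentralProduct.Induced D₀ θ) :=
    { congr := fun {P f g} hΦ he => by
        obtain ⟨a, ha, hae⟩ := hΦ
        exact ⟨a, ha, fun w hw => (he _ (mem_preimageAlong.1 hw).2).symm.trans (hae w hw)⟩
      conj := fun {P u} hP hu => by
        rw [← hrange] at hu
        obtain ⟨⟨v, hv⟩, rfl⟩ := hu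
        refine ⟨cj v, mor_cj (preimageAlong_le θ P) hv, fun w hw => ?_⟩
        rw [app_cj hv (preimageAlong_le θ P hw), app_apply θ hv]
      comp := fun {P R f f'} hf hf' hP hR hfR h₁ h₂ => by
        obtain ⟨a, ha, hae⟩ := h₁
        obtain ⟨b, hb, hbe⟩ := h₂
        have hm : ∀ w ∈ preimageAlong θ P, a w ∈ preimageAlong θ R := fun w hw =>
          mem_preimageAlong.2 ⟨ha.apply_mem hw, hae w hw ▸ hfR _ (mem_preimageAlong.1 hw).2⟩
        refine ⟨b ∘ a, ha.comp hb hm, fun w hw => ?_⟩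
        simp only [Function.comp_apply]
        rw [hae w hw, hbe _ (hm w hw)]
      inv := fun {P f f'} hf hf' hP hff' h₁ => by
        obtain ⟨a, ha, hae⟩ := h₁
        obtain ⟨j, hj, hja, -, -⟩ := ha.exists_inv
        have key : ∀ y ∈ preimageAlong θ (im P f), ∃ w ∈ preimageAlong θ P, a w = y := by
          intro y hy
          obtain ⟨hym, hyP⟩ := mem_preimageAlong.1 hy
          obtain ⟨x, hx, hxe⟩ := hf.mem_im.1 hyP
          obtain ⟨w, hw, rfl⟩ := hsrc hP x hx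
          have hz : (a w)⁻¹ * y ∈ Z := hker ▸ mem_kerAlong.2
            ⟨mul_mem (inv_mem (ha.apply_mem hw)) hym, by
              rw [app_mul (inv_mem (ha.apply_mem hw)) hym, app_inv (ha.apply_mem hw), ← hae w hw,
                hxe, inv_mul_cancel]⟩
          have hzP : (a w)⁻¹ * y ∈ preimageAlong θ P := ker_le_preimageAlong P (hker.symm ▸ hz)
          refine ⟨w * ((a w)⁻¹ * y), mul_mem hw hzP, ?_⟩
          rw [ha.map_mul hw hzP, hZfix ha _ hzP hz, mul_inv_cancel_left]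
        refine ⟨j, hj.restrict_to fun y hy => ?_, fun y hy => ?_⟩
        · obtain ⟨w, hw, rfl⟩ := key y hy
          exact apply_mem_im hw
        · obtain ⟨w, hw, rfl⟩ := key y hy
          rw [hja w hw, ← hae w hw, hff' _ (mem_preimageAlong.1 hw).2] }
  let D := FusionInduct88.subSystem (F := F) h.le_sup hc
  have hfac : D₀.IsFactorSystem Z θ D := by
    refine ⟨hZle, fun s => ?_, hrange, fun P φ => ?_⟩
    · rw [← MonoidHom.mem_ker]
      exact ⟨fun hs => ⟨s, hs, rfl⟩, fun ⟨u, hu, e⟩ => Subtype.ext e ▸ hu⟩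
    constructor
    · rintro ⟨-, hP, -, f₀, hf₀, hff⟩
      obtain ⟨φ₀, hφ₀, he₀⟩ := hf₀
      exact ⟨hP, φ₀, hφ₀, (inducedAlong_iff (preimageAlong_le θ P) (D₀.le_of_mem hφ₀).2 he₀
        (fun y => (toFun_coe φ y).symm)).2 fun w hw => ⟨(mem_preimageAlong.1 hw).2, hff w hw⟩⟩
    · rintro ⟨hP, φ₀, hφ₀, hi⟩
      have hff := (inducedAlong_iff (preimageAlong_le θ P) (D₀.le_of_mem hφ₀).2
        (fun x => (toFun_coe φ₀ x).symm) (fun y => (toFun_coe φ y).symm)).1 hi
      have hΦ : FusionCentralProduct.Induced D₀ θ P (toFun φ) :=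
        ⟨toFun φ₀, mor_toFun hφ₀, fun w hw => (hff w hw).2⟩
      refine ⟨(mor_iff_hom (F := F) fun x => (toFun_coe φ x).symm).1 (hmor hP hΦ), hP,
        fun x => ?_, hΦ⟩
      obtain ⟨w, hw, e⟩ := hsrc hP x x.2
      rw [← toFun_coe φ x, ← e, (hff w hw).2, app_apply θ ((mor_toFun hφ₀).apply_mem hw), ← hrange]
      exact ⟨_, rfl⟩
  refine ⟨D, ⟨D₀, hprod, Z, θ, hZc, ?_, ?_, h1, h2, hfac⟩,
    FusionCP.cp_of_data h1 h2 hprod hZc hfac,
    FusionCP.saturated_of_data hprod hZc hfac hAp hBp h.n1.1.1 h.n2.1.1⟩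
  · refine (Subgroup.eq_bot_iff_forall _).2 fun w hw => ?_
    obtain ⟨⟨u, hk, rfl⟩, hu⟩ := hw
    have e1 : (u : Ω × Ω).1 * (u : Ω × Ω).2 = 1 := hk
    have e2 : (u : Ω × Ω).2 = 1 := Subgroup.mem_bot.1 hu.2
    rw [e2, mul_one] at e1
    exact Prod.ext e1 e2
  · refine (Subgroup.eq_bot_iff_forall _).2 fun w hw => ?_
    obtain ⟨⟨u, hk, rfl⟩, hu⟩ := hw
    have e1 : (u : Ω × Ω).1 * (u : Ω × Ω).2 = 1 := hk
    have e2 : (u : Ω × Ω).1 = 1 := Subgroup.mem_bot.1 hu.1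
    rw [e2, one_mul] at e1
    exact Prod.ext e2 e1

theorem Com.closed_sup : F.StronglyClosed (A ⊔ B) := by
  have hA : F.StronglyClosed A := h.n1.1.2.2.2.1
  have hB : F.StronglyClosed B := h.n2.1.2.2.2.1
  refine stronglyClosed_iff.2 ⟨h.le_sup, fun P f hP hf x hx => ?_⟩
  obtain ⟨g, hg, hge⟩ := lift_mod h.pgrp h.sat hA hf
  obtain ⟨a, ha, b, hb, rfl⟩ := mem_mul h.comm le_rfl (hP hx)
  have hbm : b ∈ P ⊔ A := by
    have := mul_mem (Subgroup.mem_sup_right (S := P) (A.inv_mem ha))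
      (Subgroup.mem_sup_left (T := A) hx)
    rwa [inv_mul_cancel_left] at this
  have h2 := mul_mem (mul_mem (Subgroup.mem_sup_left (T := B)
      (closed_apply' hA hg (Subgroup.mem_sup_right ha) ha))
    (Subgroup.mem_sup_right (S := A) (closed_apply' hB hg hbm hb)))
    (Subgroup.mem_sup_left (T := B) (hge _ hx))
  rwa [← hg.map_mul (Subgroup.mem_sup_right ha) hbm, mul_inv_cancel_left] at h2

variable {U : Subgroup Ω} {D : FusionSystem U} (hD : CP D E₁ E₂) (hDs : D.IsSaturated p)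
include hD

/-- One coordinate of the conjugate of a `D`-automorphism. -/
theorem Com.half {P : Subgroup Ω} (hPU : P ≤ A ⊔ B) (hJ : A ⊓ B ≤ P) {α d : MulAut P}
    (hα : α ∈ F.autGroup P) (hd : d ∈ D.autGroup P) :
    ∃ e, Mor E₂ ((P ⊔ A) ⊓ B) e ∧ ∀ a ∈ A, ∀ b ∈ B, a * b ∈ P →
      (e b)⁻¹ * afun (α * d * α⁻¹) (a * b) ∈ A := by
  have hA : F.StronglyClosed A := h.n1.1.2.2.2.1
  have hB : F.StronglyClosed B := h.n2.1.2.2.2.1
  have hAS := hA.1
  have hBS := hB.1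
  have hPS : P ≤ S := hPU.trans h.le_sup
  haveI := finite_of_le hPS
  haveI := finite_of_le hBS
  have hI₂ := h.n2.1.2.2
  obtain ⟨g, hg, hge⟩ := lift_mod h.pgrp h.sat hA ((mem_autGroup hPS).1 hα)
  set R := (P ⊔ A) ⊓ B with hRdef
  have hgR : Mor F R g := hg.restrict_to inf_le_left
  haveI := finite_of_le hgR.le
  have hgim : im R g = R := hgR.im_self fun b hb => ⟨mor_sup_induction hg
    (fun x hx => by
      have h2 := mul_mem (Subgroup.mem_sup_left (T := A) (afun_mem α hx))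
        (Subgroup.mem_sup_right (S := P) (A.inv_mem (hge x hx)))
      simpa [mul_assoc] using h2)
    (fun x hx => Subgroup.mem_sup_right (closed_apply' hA hg (Subgroup.mem_sup_right hx) hx)) hb.1,
    closed_apply' hB hg hb.1 hb.2⟩
  obtain ⟨e₁, e₂, R₁, R₂, he₁, he₂, he⟩ := hD.split ((mem_autGroup (hD.eq ▸ hPU)).1 hd)
  have hJc : E₂.IsCentral (A ⊓ B) := by
    haveI := finite_of_le hBS
    refine isCentral_of_fixed (p := p) (h.pgrp.to_le hBS) h.n2.1.1 inf_le_right fun x hx y hy => ?_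
    obtain ⟨f, hf, rfl⟩ := isConjElt_iff.1 hy
    exact h.symm.fix_left hf (Subgroup.mem_zpowers x) hx.1
  obtain ⟨e₂', he₂', hee, heJ⟩ := (isCentral_iff.1 hJc).2 R₂ e₂ he₂
  -- decompositions
  have hmemR : ∀ a ∈ A, ∀ b ∈ B, a * b ∈ P → b ∈ R := fun a ha b hb hab => ⟨by
    have := mul_mem (Subgroup.mem_sup_right (S := P) (A.inv_mem ha))
      (Subgroup.mem_sup_left (T := A) hab)
    rwa [inv_mul_cancel_left] at this, hb⟩
  have hkey : ∀ b ∈ R, b ∈ R₂ ⊔ (A ⊓ B) ∧ ∀ a ∈ A, a * b ∈ P →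
      (e₂' b)⁻¹ * afun d (a * b) ∈ A := by
    intro b hb
    have step : ∀ a ∈ A, a * b ∈ P → b ∈ R₂ ⊔ (A ⊓ B) ∧ (e₂' b)⁻¹ * afun d (a * b) ∈ A := by
      intro a ha hab
      obtain ⟨x, hx, y, hy, e, e'⟩ := he _ hab
      have hxA := he₁.le hx
      have hyB := he₂.le hy
      have hj : y⁻¹ * b ∈ A ⊓ B := ⟨by
        have h3 : b = a⁻¹ * x * y := by rw [mul_assoc, ← e, inv_mul_cancel_left]
        rw [h3, h.comm _ (A.mul_mem (A.inv_mem ha) hxA) y hyB, inv_mul_cancel_left]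
        exact A.mul_mem (A.inv_mem ha) hxA, B.mul_mem (B.inv_mem hyB) hb.2⟩
      have hb' : b = y * (y⁻¹ * b) := (mul_inv_cancel_left _ _).symm
      have hbm : b ∈ R₂ ⊔ (A ⊓ B) := hb' ▸ mul_mem (Subgroup.mem_sup_left hy)
        (Subgroup.mem_sup_right hj)
      refine ⟨hbm, ?_⟩
      have e2 : e₂' b = e₂ y * (y⁻¹ * b) := by
        conv_lhs => rw [hb', he₂'.map_mul (Subgroup.mem_sup_left hy) (Subgroup.mem_sup_right hj),
          hee y hy, heJ _ hj]
      rw [e2, e', h.comm _ (he₁.apply_mem hx) _ (he₂.apply_mem hy), mul_inv_rev, mul_assoc,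
        inv_mul_cancel_left]
      exact A.mul_mem (A.inv_mem hj.1) (he₁.apply_mem hx)
    obtain ⟨x, hxP, a, ha, e⟩ : ∃ x ∈ P, ∃ a ∈ A, b = x * a := by
      have : b ∈ ((P ⊔ A : Subgroup Ω) : Set Ω) := hb.1
      rw [Subgroup.coe_mul_of_left_le_normalizer_right P A
        (hPS.trans (le_normalizer_of_stronglyClosed hA))] at this
      obtain ⟨x, hx, a, ha, e⟩ := this
      exact ⟨x, hx, a, ha, e.symm⟩
    have hx : a⁻¹ * b ∈ P := by
      have e3 : x = b * a⁻¹ := eq_mul_inv_of_mul_eq e.symm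
      rw [h.comm a⁻¹ (A.inv_mem ha) b hb.2, ← e3]
      exact hxP
    exact ⟨(step a⁻¹ (A.inv_mem ha) hx).1, fun a' ha' hab => (step a' ha' hab).2⟩
  have heR : ∀ b ∈ R, e₂' b ∈ R := fun b hb => by
    have hbB : e₂' b ∈ B := he₂'.apply_mem (hkey b hb).1
    refine ⟨?_, hbB⟩
    obtain ⟨x, hxP, a, ha, e⟩ : ∃ x ∈ P, ∃ a ∈ A, b = x * a := by
      have : b ∈ ((P ⊔ A : Subgroup Ω) : Set Ω) := hb.1
      rw [Subgroup.coe_mul_of_left_le_normalizer_right P A
        (hPS.trans (le_normalizer_of_stronglyClosed hA))] at this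
      obtain ⟨x, hx, a, ha, e⟩ := this
      exact ⟨x, hx, a, ha, e.symm⟩
    have e3 : x = a⁻¹ * b := by
      rw [h.comm a⁻¹ (A.inv_mem ha) b hb.2]; exact eq_mul_inv_of_mul_eq e.symm
    have h4 := (hkey b hb).2 a⁻¹ (A.inv_mem ha) (e3 ▸ hxP)
    rw [← e3] at h4
    have := mul_mem (Subgroup.mem_sup_left (T := A) (afun_mem d hxP))
      (Subgroup.mem_sup_right (S := P) (A.inv_mem h4))
    simpa [mul_assoc] using this
  have hRB : R ≤ B := inf_le_right
  have heR' : Mor E₂ R e₂' := he₂'.restrict_to fun b hb => (hkey b hb).1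
  obtain ⟨m, hm, hme⟩ := heR'.exists_aut (heR'.im_self heR)
  have hm' := FusionWeaklyNormal88.aut_transport hI₂ hRB hgR hgim hm
  refine ⟨afun (hgR.transport hgim m), (mem_autGroup hRB).1 hm', fun a ha b hb hab => ?_⟩
  -- pull back by `α`
  have hw := afun_mem α⁻¹ hab
  obtain ⟨a', ha', b', hb', ew⟩ := mem_mul h.comm le_rfl (hPU hw)
  rw [ew] at hw
  have hbR := hmemR a' ha' b' hb' hw
  have hgb : g b' ∈ R := hgim.le (apply_mem_im hbR)
  have hconj : ∀ u ∈ S, ∀ z ∈ A, u⁻¹ * z * u ∈ A := fun u hu z hz => by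
    have := cj_mem_of_stronglyClosed hA (S.inv_mem hu) hz
    rwa [cj_apply, inv_inv] at this
  -- congruences modulo `A`
  have c1 : (g b')⁻¹ * afun α (a' * b') ∈ A := by
    have h1 := hge _ hw
    rw [hg.map_mul (Subgroup.mem_sup_right ha') hbR.1] at h1
    have hga := closed_apply' hA hg (Subgroup.mem_sup_right ha') ha'
    have h2 := A.mul_mem (hconj _ (hg.apply_mem hbR.1) _ hga) h1
    simpa [mul_assoc] using h2
  have hαw : afun α (a' * b') = a * b := by rw [← ew, afun_apply_inv α hab]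
  rw [hαw] at c1
  have hgbb : (g b')⁻¹ * b ∈ A ⊓ B := ⟨by
    have h2 := A.mul_mem c1 (A.inv_mem ha)
    rwa [h.comm a ha b hb, ← mul_assoc (g b')⁻¹, mul_inv_cancel_right] at h2,
    B.mul_mem (B.inv_mem hgb.2) hb⟩
  have c2 : (e₂' b')⁻¹ * afun d (a' * b') ∈ A := (hkey b' hbR).2 a' ha' hw
  have hdw := afun_mem d hw
  have hex : e₂' b' ∈ R := heR b' hbR
  have c3 : (g (e₂' b'))⁻¹ * afun α (afun d (a' * b')) ∈ A := by
    have h1 := hge _ hdw
    set z := (e₂' b')⁻¹ * afun d (a' * b') with hzdef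
    have hz : afun d (a' * b') = e₂' b' * z := (mul_inv_cancel_left _ _).symm
    rw [hz, hg.map_mul hex.1 (Subgroup.mem_sup_right c2), ← hz, mul_inv_rev, mul_assoc] at h1
    have h2 := A.mul_mem (closed_apply' hA hg (Subgroup.mem_sup_right c2) c2) h1
    rwa [mul_inv_cancel_left] at h2
  have hbgb : b = g b' * ((g b')⁻¹ * b) := (mul_inv_cancel_left _ _).symm
  have hJR : (g b')⁻¹ * b ∈ R := ⟨Subgroup.mem_sup_right hgbb.1, hgbb.2⟩
  have hval : afun (hgR.transport hgim m) b = g (e₂' b') * ((g b')⁻¹ * b) := by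
    have hmm := (mem_autGroup hRB).1 hm'
    conv_lhs => rw [hbgb, afun_map_mul _ hgb hJR, hgR.afun_transport hgim m hbR, hme b' hbR,
      h.symm.fix_left hmm hJR hgbb.1]
  rw [hval, afun_mul _ _ hab, afun_mul _ _ (afun_mem α⁻¹ hab), ew, mul_inv_rev, mul_assoc]
  exact A.mul_mem (A.inv_mem hgbb.1) c3

/-- The conjugate of a `D`-automorphism is one modulo `A ⊓ B`. -/
theorem Com.transport_mod (hUs : D.IsSaturated p) {P : Subgroup Ω} (hPU : P ≤ A ⊔ B) (hJ : A ⊓ B ≤ P)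
    {α d : MulAut P} (hα : α ∈ F.autGroup P) (hd : d ∈ D.autGroup P) :
    ∃ d' ∈ D.autGroup P, ∀ x ∈ P, (afun d' x)⁻¹ * afun (α * d * α⁻¹) x ∈ A ⊓ B := by
  have hPS : P ≤ S := hPU.trans h.le_sup
  haveI := finite_of_le hPS
  obtain ⟨e₂, he₂, hk₂⟩ := h.half hD hPU hJ hα hd
  obtain ⟨e₁, he₁, hk₁⟩ := h.symm.half hD.symm (sup_comm A B ▸ hPU) (inf_comm A B ▸ hJ) hα hd
  obtain ⟨ψ, hψ, hψe, hψB⟩ := hD.left he₁
  obtain ⟨χ, hχ, hχe, hχA⟩ := hD.right he₂
  set c := α * d * α⁻¹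
  let f : Ω → Ω := fun z => ψ (χ z)
  have hdec : ∀ z ∈ P, ∃ x ∈ (P ⊔ B) ⊓ A, ∃ y ∈ (P ⊔ A) ⊓ B, z = x * y := by
    intro z hz
    obtain ⟨a, ha, b, hb, rfl⟩ := mem_mul h.comm le_rfl (hPU hz)
    refine ⟨a, ⟨?_, ha⟩, b, ⟨?_, hb⟩, rfl⟩
    · have := mul_mem (Subgroup.mem_sup_left (T := B) hz)
        (Subgroup.mem_sup_right (S := P) (B.inv_mem hb))
      rwa [mul_inv_cancel_right] at this
    · have := mul_mem (Subgroup.mem_sup_right (S := P) (A.inv_mem ha))
        (Subgroup.mem_sup_left (T := A) hz)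
      rwa [inv_mul_cancel_left] at this
  have hfv : ∀ x ∈ (P ⊔ B) ⊓ A, ∀ y ∈ (P ⊔ A) ⊓ B, f (x * y) = e₁ x * e₂ y := by
    intro x hx y hy
    have hey : e₂ y ∈ B := he₂.apply_mem hy
    simp only [f]
    rw [hχ.map_mul (Subgroup.mem_sup_right hx.2) (Subgroup.mem_sup_left hy), hχA x hx.2, hχe y hy,
      hψ.map_mul (Subgroup.mem_sup_left hx) (Subgroup.mem_sup_right hey), hψe x hx, hψB _ hey]
  have hf : Mor D P f := mor_of_split h.comm inf_le_right inf_le_right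
    (fun y hy => he₂.apply_mem hy) (hD.left he₁) (hD.right he₂) fun z hz => by
      obtain ⟨x, hx, y, hy, rfl⟩ := hdec z hz
      exact ⟨x, hx, y, hy, rfl, hfv x hx y hy⟩
  have hmod : ∀ z ∈ P, (f z)⁻¹ * afun c z ∈ A ⊓ B := by
    intro z hz
    obtain ⟨x, hx, y, hy, rfl⟩ := hdec z hz
    rw [hfv x hx y hy]
    have hex : e₁ x ∈ A := he₁.apply_mem hx
    have hey : e₂ y ∈ B := he₂.apply_mem hy
    have h2 := hk₂ x hx.2 y hy.2 hz
    have h1 := hk₁ y hy.2 x hx.2 (h.comm x hx.2 y hy.2 ▸ hz)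
    rw [← h.comm x hx.2 y hy.2] at h1
    constructor
    · have e : (e₁ x * e₂ y)⁻¹ * afun c (x * y) = (e₁ x)⁻¹ * ((e₂ y)⁻¹ * afun c (x * y)) := by
        rw [h.comm _ hex _ hey, mul_inv_rev, mul_assoc]
      rw [e]
      exact A.mul_mem (A.inv_mem hex) h2
    · have e : (e₁ x * e₂ y)⁻¹ * afun c (x * y) = (e₂ y)⁻¹ * ((e₁ x)⁻¹ * afun c (x * y)) := by
        rw [mul_inv_rev, mul_assoc]
      rw [e]
      exact B.mul_mem (B.inv_mem hey) h1
  haveI : Finite U := hD.eq ▸ finite_of_le h.le_sup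
  obtain ⟨d', hd', hde⟩ := hf.exists_aut (by
    exact hf.im_self fun z hz => by
      have h2 := P.mul_mem (afun_mem c hz) (P.inv_mem (hJ (hmod z hz)))
      simpa [mul_assoc] using h2)
  exact ⟨d', hd', fun x hx => by rw [hde x hx]; exact hmod x hx⟩

omit [Fact p.Prime] in
/-- The part of a central product map on a factor. -/
theorem Com.conj_half {R : Subgroup Ω} {e : Ω → Ω} (he : Mor E₁ R e) {a : MulAut ↥(A ⊔ B)}
    (ha : a ∈ F.autGroup (A ⊔ B)) :
    Mor E₁ (im R (afun a)) (afun a ∘ e ∘ afun a⁻¹) := by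
  have hA : F.StronglyClosed A := h.n1.1.2.2.2.1
  haveI := finite_of_le h.left_le
  have ham := (mem_autGroup h.le_sup).1 ha
  have hai := (mem_autGroup h.le_sup).1 (inv_mem ha)
  have haA : ∀ x ∈ A, afun a x ∈ A := fun x hx =>
    closed_apply' hA ham (Subgroup.mem_sup_left hx) hx
  have hr := ham.restrict_to (le_sup_left : A ≤ A ⊔ B)
  obtain ⟨b, hb, hbe⟩ := hr.exists_aut (hr.im_self haA)
  have hbi : ∀ t ∈ A, afun b⁻¹ t = afun a⁻¹ t := fun t ht => by
    have hs : afun a⁻¹ t ∈ A := closed_apply' hA hai (Subgroup.mem_sup_left ht) ht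
    conv_lhs => rw [← afun_apply_inv a (Subgroup.mem_sup_left (T := B) ht), ← hbe _ hs]
    exact afun_inv_apply b hs
  have h1 := FusionWeaklyNormal88.inv_mor h.n1.1.2.2 he hb
  have e0 : im R (afun b) = im R (afun a) := im_congr fun x hx => hbe x (he.le hx)
  rw [e0] at h1
  refine h1.congr fun y hy => ?_
  have hyA : y ∈ A := h1.le hy
  obtain ⟨x, hx, rfl⟩ :=
    (ham.restrict_to (he.le.trans le_sup_left : R ≤ A ⊔ B)).mem_im.1 hy
  simp only [Function.comp_apply]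
  rw [hbi _ hyA, afun_inv_apply a (Subgroup.mem_sup_left (he.le hx)), hbe _ (he.apply_mem hx)]

omit [Fact p.Prime] in
/-- The central product is invariant under the automorphisms of its group. -/
theorem Com.conj_mor {P : Subgroup Ω} {f : Ω → Ω} (hf : Mor D P f) {a : MulAut ↥(A ⊔ B)}
    (ha : a ∈ F.autGroup (A ⊔ B)) :
    Mor D (im P (afun a)) (afun a ∘ f ∘ afun a⁻¹) := by
  obtain ⟨e₁, e₂, R₁, R₂, he₁, he₂, he⟩ := hD.split hf
  have ham := (mem_autGroup h.le_sup).1 ha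
  have hPU : P ≤ A ⊔ B := hf.le.trans hD.eq.ge
  have h1 := h.conj_half hD he₁ ha
  let a' : MulAut ↥(B ⊔ A) := MulAut.congr (MulEquiv.subgroupCongr (sup_comm A B)) a
  have haa' : ∀ y ∈ A ⊔ B, afun a' y = afun a y := fun y hy => by
    rw [afun_apply _ ((sup_comm A B).le hy), afun_apply a hy]; rfl
  have ha' : a' ∈ F.autGroup (B ⊔ A) :=
    mem_autGroup_of_mor ((ham.restrict_to (sup_comm B A).le).congr fun y hy =>
      (haa' y ((sup_comm B A).le hy)).symm)
  have haai' : ∀ y ∈ A ⊔ B, afun a'⁻¹ y = afun a⁻¹ y := fun y hy => by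
    have hz := afun_mem a⁻¹ hy
    conv_lhs => rw [← afun_apply_inv a hy, ← haa' _ hz]
    exact afun_inv_apply a' ((sup_comm A B).le hz)
  have h2 := h.symm.conj_half hD.symm he₂ ha'
  have hR₂ : R₂ ≤ A ⊔ B := he₂.le.trans le_sup_right
  rw [im_congr fun y hy => haa' y (hR₂ hy)] at h2
  refine mor_of_split h.comm h1.le h2.le (fun y hy => h2.apply_mem hy) (hD.left h1) (hD.right h2)
    fun z hz => ?_
  obtain ⟨w, hw, rfl⟩ := (ham.restrict_to hPU).mem_im.1 hz
  obtain ⟨x, hx, y, hy, rfl, hwe⟩ := he w hw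
  have hxU : x ∈ A ⊔ B := Subgroup.mem_sup_left (he₁.le hx)
  have hyU : y ∈ A ⊔ B := hR₂ hy
  refine ⟨afun a x, apply_mem_im hx, afun a y, apply_mem_im hy, afun_map_mul a hxU hyU, ?_⟩
  simp only [Function.comp_apply]
  rw [afun_inv_apply a (hPU hw), hwe, afun_inv_apply a hxU, haai' _ (afun_mem a hyU),
    afun_inv_apply a hyU, haa' _ (Subgroup.mem_sup_right (he₂.apply_mem hy)),
    afun_map_mul a (Subgroup.mem_sup_left (he₁.apply_mem hx))
      (Subgroup.mem_sup_right (he₂.apply_mem hy))]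

omit [Fact p.Prime] in
theorem Com.fixJ_D {P : Subgroup Ω} {f : Ω → Ω} (hf : Mor D P f) {x : Ω} (hx : x ∈ P)
    (hJ : x ∈ A ⊓ B) : f x = x := by
  obtain ⟨e₁, e₂, R₁, R₂, he₁, he₂, he⟩ := hD.split hf
  obtain ⟨a, ha, b, hb, e, e'⟩ := he x hx
  have haB : a ∈ B := by
    have : a = x * b⁻¹ := eq_mul_inv_of_mul_eq e.symm
    rw [this]; exact B.mul_mem hJ.2 (B.inv_mem (he₂.le hb))
  have hbA : b ∈ A := by
    have : b = a⁻¹ * x := eq_inv_mul_of_mul_eq e.symm
    rw [this]; exact A.mul_mem (A.inv_mem (he₁.le ha)) hJ.1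
  rw [e', h.fix_left he₁ ha haB, h.symm.fix_left he₂ hb hbA, e]

omit [Fact p.Prime] in
omit hD in
theorem Com.fixJ_cj {u x : Ω} (hu : u ∈ A ⊔ B) (hx : x ∈ A ⊓ B) : cj u x = x := by
  obtain ⟨a, ha, b, hb, rfl⟩ := mem_mul h.comm le_rfl hu
  rw [cj_apply, mul_assoc a b x, ← h.comm x hx.1 b hb, ← mul_assoc a x b, h.comm a ha x hx.2]
  group

/-- A decomposition as an automorphism of the product following a map of the central product. -/
def Dec (F : FusionSystem S) (D : FusionSystem U) (A B P : Subgroup Ω) (f : Ω → Ω) : Prop :=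
  ∃ a ∈ F.autGroup (A ⊔ B), ∃ e, Mor D P e ∧ ∀ x ∈ P, f x = afun a (e x)

omit [Fact p.Prime] in
theorem Com.dec_comp {P R : Subgroup Ω} {f g : Ω → Ω} (hfR : ∀ x ∈ P, f x ∈ R)
    (h1 : Dec F D A B P f) (h2 : Dec F D A B R g) : Dec F D A B P (g ∘ f) := by
  obtain ⟨a, ha, e, he, hfe⟩ := h1
  obtain ⟨b, hb, e', he', hge⟩ := h2
  have heU : ∀ x ∈ P, e x ∈ A ⊔ B := fun x hx => hD.eq.ge (he.apply_mem hx)
  have h3 := h.conj_mor hD he' (inv_mem ha)
  have hRU : R ≤ A ⊔ B := he'.le.trans hD.eq.ge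
  have hm : ∀ x ∈ P, e x ∈ im R (afun a⁻¹) := fun x hx => by
    have := apply_mem_im (f := afun a⁻¹) (hfR x hx)
    rwa [hfe x hx, afun_inv_apply a (heU x hx)] at this
  refine ⟨b * a, mul_mem hb ha, _, he.comp h3 hm, fun x hx => ?_⟩
  have hfx : afun a (e x) = f x := (hfe x hx).symm
  simp only [Function.comp_apply, inv_inv]
  rw [hfx, afun_mul _ _ (afun_mem a⁻¹ (hD.eq.ge (he'.apply_mem (hfR x hx)))),
    afun_apply_inv a (hD.eq.ge (he'.apply_mem (hfR x hx))), hge _ (hfR x hx)]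

omit [Fact p.Prime] in
theorem Com.dec_inv {P : Subgroup Ω} {f g : Ω → Ω} (hgf : ∀ x ∈ P, g (f x) = x)
    (h1 : Dec F D A B P f) : Dec F D A B (im P f) g := by
  obtain ⟨a, ha, e, he, hfe⟩ := h1
  obtain ⟨j, hj, hje, -, -⟩ := he.exists_inv
  have heU : ∀ x ∈ P, e x ∈ A ⊔ B := fun x hx => hD.eq.ge (he.apply_mem hx)
  have h3 := h.conj_mor hD hj ha
  have e0 : im (im P e) (afun a) = im P f := by
    rw [he.im_comp]
    exact im_congr fun x hx => (hfe x hx).symm
  rw [e0] at h3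
  refine ⟨a⁻¹, inv_mem ha, _, h3, fun y hy => ?_⟩
  have hm : Mor F P f := by
    refine Mor.congr ?_ fun x hx => (hfe x hx).symm
    exact (sub_mor (h.sub hD) he).comp ((mem_autGroup h.le_sup).1 ha) heU
  obtain ⟨x, hx, rfl⟩ := hm.mem_im.1 hy
  simp only [Function.comp_apply]
  rw [hgf x hx, hfe x hx, afun_inv_apply a (heU x hx), hje x hx,
    afun_inv_apply a (hD.eq.ge (he.le hx))]

include hDs in
/-- Maps of `F` between subgroups of the product decompose. -/
theorem Com.frattini {P : Subgroup Ω} {f : Ω → Ω} (hP : P ≤ A ⊔ B) (hf : Mor F P f) :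
    Dec F D A B P f := by
  have hA : F.StronglyClosed A := h.n1.1.2.2.2.1
  have hB : F.StronglyClosed B := h.n2.1.2.2.2.1
  have hclU := h.closed_sup
  have hUS := h.le_sup
  haveI : Finite U := hD.eq ▸ finite_of_le hUS
  have hUeq := hD.eq
  set J := A ⊓ B with hJdef
  have hJS : J ≤ S := inf_le_left.trans h.left_le
  have hJcl : F.StronglyClosed J := stronglyClosed_iff.2 ⟨hJS, fun R g hR hg x hx =>
    ⟨closed_apply' hA hg hx (hR hx).1, closed_apply' hB hg hx (hR hx).2⟩⟩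
  have hJn : F.IsNormal J := FusionSysChain.isNormal_of_abelian h.pgrp h.sat
    ⟨⟨fun x y => Subtype.ext (h.comm _ x.2.1 _ y.2.2)⟩⟩ hJcl
  suffices ∀ (n : ℕ) (P : Subgroup Ω) (f : Ω → Ω), P ≤ A ⊔ B → J ≤ P → Mor F P f →
      Nat.card (A ⊔ B : Subgroup Ω) - Nat.card P ≤ n → Dec F D A B P f by
    obtain ⟨ψ, hψ, hψe, -⟩ := (isNormal_iff.1 hJn).2 P f hf
    obtain ⟨a, ha, e, he, hψd⟩ := this _ _ ψ (sup_le hP (inf_le_left.trans le_sup_left))
      le_sup_right hψ le_rfl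
    exact ⟨a, ha, e, he.restrict_to le_sup_left, fun x hx =>
      (hψe x hx).symm.trans (hψd x (Subgroup.mem_sup_left hx))⟩
  haveI := finite_of_le hUS
  have hid : ∀ {P : Subgroup Ω}, P ≤ A ⊔ B → Mor D P (fun x => x) := fun hP =>
    mor_id (hP.trans hUeq.le)
  intro n
  induction n with
  | zero =>
    intro P f hP _ hf hn
    obtain rfl : P = A ⊔ B := eq_of_le_of_card_ge (S := S) hUS hP (by omega)
    obtain ⟨a, ha, hae⟩ := hf.exists_aut (hf.im_self fun x hx => closed_apply' hclU hf hx hx)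
    exact ⟨a, ha, fun x => x, hid le_rfl, fun x hx => (hae x hx).symm⟩
  | succ n IH =>
    intro P f hP hJP hf hn
    rcases hP.eq_or_lt with rfl | hlt
    · exact IH _ f le_rfl hJP hf (by simp)
    have hPS : P ≤ S := hP.trans hUS
    have hUp : IsPGroup p ↥(A ⊔ B : Subgroup Ω) := h.pgrp.to_le hUS
    -- moving to a fully normalized subgroup
    set Q := im P f with hQ
    have hQU : Q ≤ A ⊔ B := im_le_iff.2 fun x hx => closed_apply' hclU hf hx (hP hx)
    have hJim : ∀ {X : Subgroup Ω} {g : Ω → Ω}, J ≤ X → Mor F X g → J ≤ im X g := by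
      intro X g hJX hg
      haveI := finite_of_le hJS
      rw [← (hg.restrict_to hJX).im_self fun x hx => closed_apply' hJcl hg (hJX hx) hx]
      exact im_mono hJX
    have hJQ : J ≤ Q := hJim hJP hf
    obtain ⟨P', hPP', hP'⟩ := exists_fullyNormalized (F := F) hPS
    have hP'S : P' ≤ S := hP'.1
    obtain ⟨θ₁, hθ₁, -, hi₁⟩ := exists_map_to_fullyNormalized h.pgrp h.sat hP' hPP'
    obtain ⟨θ₂, hθ₂, -, hi₂⟩ := exists_map_to_fullyNormalized h.pgrp h.sat hP'
      (isConj_trans (isConj_symm (FusionSysBasic.isConj_iff.2 ⟨f, hf, rfl⟩)) hPP')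
    have hcardQ : Nat.card Q = Nat.card P := hf.card_im
    have hP'U : P' ≤ A ⊔ B := by
      rw [← hi₁]
      exact im_le_iff.2 fun x hx => closed_apply' hclU (hθ₁.restrict_to (le_normalizerIn hPS)) hx
        (hP hx)
    have hJP' : J ≤ P' := hi₁ ▸ hJim hJP (hθ₁.restrict_to (le_normalizerIn hPS))
    have hcardP' : Nat.card P' = Nat.card P :=
      hi₁ ▸ (hθ₁.restrict_to (le_normalizerIn hPS)).card_im
    have big : ∀ X, X < A ⊔ B → Nat.card X = Nat.card P → J ≤ X → ∀ g,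
        Mor F (normalizerIn (A ⊔ B) X) g → Dec F D A B X g := by
      intro X hX hXc hJX g hg
      have hN : normalizerIn (A ⊔ B) X ≤ A ⊔ B := inf_le_left
      have hlt' := FusionSysAlperin.normalizerIn_gt hUp hX
      have hcd : Nat.card (normalizerIn (A ⊔ B) X) ≤ Nat.card (A ⊔ B : Subgroup Ω) :=
        Subgroup.card_le_of_le hN
      obtain ⟨a, ha, e, he, hge⟩ :=
        IH _ g hN (hJX.trans (le_normalizerIn hX.le)) hg (by omega)
      exact ⟨a, ha, e, he.restrict_to (le_normalizerIn hX.le),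
        fun x hx => hge x (le_normalizerIn hX.le hx)⟩
    have hlt' : ∀ {X : Subgroup Ω}, X ≤ A ⊔ B → Nat.card X = Nat.card P → X < A ⊔ B := fun hX hc =>
      lt_of_le_of_ne hX fun e => hlt.ne (eq_of_le_of_card_ge (S := S) hUS hP (by rw [← hc, e]))
    have hθP : ∀ X, normalizerIn (A ⊔ B) X ≤ normalizerIn S X := fun X =>
      inf_le_inf_right _ hUS
    have d1 := big P hlt rfl hJP θ₁ (hθ₁.restrict_to (hθP P))
    have d2 := big Q (hlt' hQU hcardQ) hcardQ hJQ θ₂ (hθ₂.restrict_to (hθP Q))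
    have hQS : Q ≤ S := hQU.trans hUS
    have hm1 := hθ₁.restrict_to (le_normalizerIn hPS)
    have hm2 := hθ₂.restrict_to (le_normalizerIn hQS)
    obtain ⟨θ₁i, hθ₁i, hθ₁ie, hθ₁ei, hθ₁iP⟩ := hm1.exists_inv
    rw [hi₁] at hθ₁i hθ₁ei hθ₁iP
    have hαm : Mor F P' (θ₂ ∘ f ∘ θ₁i) :=
      (hθ₁i.comp hf hθ₁iP).comp hm2 fun x hx => apply_mem_im (hθ₁iP x hx)
    haveI := finite_of_le hP'S
    obtain ⟨α, hα, hαe⟩ := hαm.exists_aut (hαm.im_self fun x hx => by
      rw [← hi₂]; exact apply_mem_im (apply_mem_im (hθ₁iP x hx)))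
    -- automorphisms of `P'`
    let K : Subgroup (MulAut P') :=
      { carrier := {k | k ∈ F.autGroup P' ∧ (∀ x ∈ P', x⁻¹ * afun k x ∈ J) ∧
          ∀ x ∈ J, afun k x = x}
        one_mem' := ⟨one_mem _, fun x hx => by rw [afun_one hx, inv_mul_cancel]; exact one_mem _,
          fun x hx => afun_one (hJP' hx)⟩
        mul_mem' := by
          rintro b c ⟨hb, hb', hbJ⟩ ⟨hc, hc', hcJ⟩
          refine ⟨mul_mem hb hc, fun x hx => ?_, fun x hx => by
            rw [afun_mul _ _ (hJP' hx), hcJ x hx, hbJ x hx]⟩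
          rw [afun_mul _ _ hx]
          have := J.mul_mem (hc' x hx) (hb' _ (afun_mem c hx))
          simpa [mul_assoc] using this
        inv_mem' := by
          rintro b ⟨hb, hb', hbJ⟩
          refine ⟨inv_mem hb, fun x hx => ?_, fun x hx => ?_⟩
          · have := J.inv_mem (hb' _ (afun_mem b⁻¹ hx))
            rw [afun_apply_inv b hx] at this
            simpa using this
          · conv_lhs => rw [← hbJ x hx]
            exact afun_inv_apply b (hJP' hx) }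
    have hKp : IsPGroup p K := by
      rintro ⟨b, hb, hb', hbJ⟩
      obtain ⟨j, hj⟩ := pow_eq_one_of_stabilizes (h.pgrp.to_le hP'S) (n := 2)
        (fun i => if i = 0 then ⊥ else if i = 1 then J else P') rfl rfl
        (fun i => by split_ifs <;> simp [hJP']) (fun i hi => by interval_cases i <;> simp [hJP'])
        (α := b) (fun i hi y hy => by
          interval_cases i
          · simp only [zero_add, if_neg one_ne_zero, if_pos rfl] at hy
            simp [hbJ y hy]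
          · simp only [if_neg one_ne_zero, if_pos rfl]
            simp only [show (1 + 1 = 0) = False by simp, show (1 + 1 = 1) = False by simp,
              if_false] at hy
            exact hb' y hy)
      exact ⟨j, Subtype.ext hj⟩
    have hKn : ∀ b ∈ F.autGroup P', ∀ c ∈ K, b * c * b⁻¹ ∈ K := by
      rintro b hb c ⟨hc', hc2, hcJ⟩
      have hbm := (mem_autGroup hP'S).1 hb
      have hbim := (mem_autGroup hP'S).1 (inv_mem hb)
      refine ⟨mul_mem (mul_mem hb hc') (inv_mem hb), fun x hx => ?_, fun x hx => ?_⟩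
      · rw [afun_mul _ _ hx, afun_mul _ _ (afun_mem b⁻¹ hx)]
        have hy := afun_mem b⁻¹ hx
        have h1 := closed_apply' hJcl hbm (hJP' (hc2 _ hy)) (hc2 _ hy)
        rw [afun_map_mul b (P'.inv_mem hy) (afun_mem c hy), hbm.map_inv hy,
          afun_apply_inv b hx] at h1
        exact h1
      · rw [afun_mul _ _ (hJP' hx), afun_mul _ _ (afun_mem b⁻¹ (hJP' hx)),
          hcJ _ (closed_apply' hJcl hbim (hJP' hx) hx), afun_apply_inv b (hJP' hx)]
    have hfa := fullyAutomized_of_fullyNormalized h.pgrp h.sat hP'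
    have hKS := FusionCentralLift.le_autInducedBy_of_normal hfa (fun k (hk : k ∈ K) => hk.1) hKp hKn
    have hDF : D.autGroup P' ≤ F.autGroup P' := fun d hd =>
      (mem_autGroup hP'S).2 (sub_mor (h.sub hD) ((mem_autGroup (hP'U.trans hUeq.le)).1 hd))
    have hDJ : ∀ {d : MulAut P'}, d ∈ D.autGroup P' → ∀ x ∈ J, afun d x = x := fun hd x hx =>
      h.fixJ_D hD ((mem_autGroup (hP'U.trans hUeq.le)).1 hd) (hJP' hx) hx
    have hKnD : ∀ d ∈ D.autGroup P', ∀ k ∈ K, d⁻¹ * k * d ∈ K := fun d hd k hk => by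
      have := hKn d⁻¹ (inv_mem (hDF hd)) k hk
      rwa [inv_inv] at this
    let Bg : Subgroup (MulAut P') :=
      { carrier := {b | ∃ d ∈ D.autGroup P', d⁻¹ * b ∈ K}
        one_mem' := ⟨1, one_mem _, by rw [inv_one, one_mul]; exact one_mem _⟩
        mul_mem' := by
          rintro b c ⟨d, hd, hb⟩ ⟨d', hd', hc⟩
          refine ⟨d * d', mul_mem hd hd', ?_⟩
          have e : (d * d')⁻¹ * (b * c) = (d'⁻¹ * (d⁻¹ * b) * d') * (d'⁻¹ * c) := by group
          rw [e]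
          exact mul_mem (hKnD d' hd' _ hb) hc
        inv_mem' := by
          rintro b ⟨d, hd, hb⟩
          refine ⟨d⁻¹, inv_mem hd, ?_⟩
          have e : d⁻¹⁻¹ * b⁻¹ = d⁻¹⁻¹ * (d⁻¹ * b)⁻¹ * d⁻¹ := by group
          rw [e]
          exact hKnD d⁻¹ (inv_mem hd) _ (inv_mem hb) }
    have hBA : Bg ≤ F.autGroup P' := by
      rintro b ⟨d, hd, hb⟩
      have hb' : d⁻¹ * b ∈ F.autGroup P' := hb.1
      have := mul_mem (hDF hd) hb'
      rwa [mul_inv_cancel_left] at this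
    have hBn : ∀ a ∈ F.autGroup P', ∀ b ∈ Bg, a * b * a⁻¹ ∈ Bg := by
      rintro a ha b ⟨d, hd, hb⟩
      obtain ⟨d', hd', hmod⟩ := h.transport_mod hD hDs hP'U hJP' ha hd
      have hmm : d'⁻¹ * (a * d * a⁻¹) ∈ K := by
        refine ⟨mul_mem (inv_mem (hDF hd')) (mul_mem (mul_mem ha (hDF hd)) (inv_mem ha)),
          fun x hx => ?_, fun x hx => ?_⟩
        · have hy := afun_mem (a * d * a⁻¹) hx
          have h1 := hmod x hx
          set j := (afun d' x)⁻¹ * afun (a * d * a⁻¹) x with hjdef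
          have e : afun (a * d * a⁻¹) x = afun d' x * j := (mul_inv_cancel_left _ _).symm
          rw [afun_mul _ _ hx, e, afun_map_mul _ (afun_mem d' hx) (hJP' h1), afun_inv_apply d' hx,
            hDJ (inv_mem hd') j h1, inv_mul_cancel_left]
          exact h1
        · have haiJ : afun a⁻¹ x ∈ J :=
            closed_apply' hJcl ((mem_autGroup hP'S).1 (inv_mem ha)) (hJP' hx) hx
          rw [afun_mul _ _ (hJP' hx), afun_mul _ _ (hJP' hx), afun_mul _ _ (afun_mem _ (hJP' hx)),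
            hDJ hd _ haiJ, afun_apply_inv a (hJP' hx), hDJ (inv_mem hd') x hx]
      refine ⟨d', hd', ?_⟩
      have e : d'⁻¹ * (a * b * a⁻¹) = d'⁻¹ * (a * d * a⁻¹) * (a * (d⁻¹ * b) * a⁻¹) := by group
      rw [e]
      exact mul_mem hmm (hKn a ha _ hb)
    haveI := finite_autGroup (F := F) P'
    haveI : Finite Bg := Finite.of_injective _ (Subgroup.inclusion_injective hBA)
    have hRp : IsPGroup p (autInducedBy S P') := isPGroup_autInducedBy h.pgrp P'
    have hsyl := FusionCentralLift.sylIn_inf hfa.2 hRp hBA hBn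
    obtain ⟨b, hb, hbR⟩ := sylIn_absorb hsyl
      (K := (autInducedBy S P' ⊓ Bg).map (MulAut.conj α).toMonoidHom)
      ((hRp.to_le inf_le_left).map _) (by
        rintro _ ⟨r, hr, rfl⟩
        exact hBn α hα r hr.2)
    have hγ : b * α ∈ F.autGroup P' := mul_mem (hBA hb) hα
    have hγm := (mem_autGroup hP'S).1 hγ
    have hrec := receptive_of_fullyNormalized h.pgrp h.sat hP'
    obtain ⟨G, hG, hGe⟩ := (receptive_iff.1 hrec).2 P' (afun (b * α)) (normalizerIn (A ⊔ B) P') hγm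
      (im_afun _) (inf_le_left.trans hUS) inf_le_right fun u hu => by
        have hcu : ∀ x ∈ P', afun (nHom S P' ⟨u, hUS hu.1, hu.2⟩) x = cj u x :=
          fun x hx => afun_nHom _ hx
        set c := nHom S P' ⟨u, hUS hu.1, hu.2⟩ with hcdef
        have hcD : c ∈ D.autGroup P' := mem_autGroup_of_mor
          ((mor_cj (hP'U.trans hUeq.le) (hUeq.le hu.1)).congr fun x hx => (hcu x hx).symm)
        have hcB : c ∈ autInducedBy S P' ⊓ Bg := ⟨(autInducedBy_eq_range S P').ge ⟨_, rfl⟩,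
          c, hcD, by rw [inv_mul_cancel]; exact one_mem _⟩
        obtain ⟨s, hs, -, hse⟩ := mem_autInducedBy.1 (hbR _ ⟨c, hcB, rfl⟩).1
        refine ⟨s, hs, fun x hx => ?_⟩
        rw [← hse _ (afun_mem (b * α) hx), ← afun_mul _ _ hx, ← hcu x hx,
          ← afun_mul _ _ hx]
        refine congrArg (fun m => afun m x) ?_
        show b * α * c = b * (α * c * α⁻¹) * b⁻¹ * (b * α)
        group
    have dG : Dec F D A B P' (afun (b * α)) := by
      obtain ⟨a, ha, e, he, hge⟩ := big P' (hlt' hP'U hcardP') hcardP' hJP' G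
        (hG.restrict_to le_sup_right)
      exact ⟨a, ha, e, he, fun x hx => (hGe x hx).symm.trans (hge x hx)⟩
    obtain ⟨d, hd, hk⟩ := hb
    obtain ⟨s, hs, -, hse⟩ := mem_autInducedBy.1 (hKS (inv_mem hk))
    have dD : Dec F D A B P' (afun d⁻¹) := ⟨1, one_mem _, afun d⁻¹,
      (mem_autGroup (hP'U.trans hUeq.le)).1 (inv_mem hd),
      fun x hx => (afun_one (hP'U (afun_mem _ hx))).symm⟩
    have dK : Dec F D A B P' (afun (d⁻¹ * b)⁻¹) := by
      have hm := mor_cj (F := F) hUS hs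
      obtain ⟨a, ha, hae⟩ := hm.exists_aut (hm.im_self fun x hx => closed_apply' hclU hm hx hx)
      exact ⟨a, ha, fun x => x, hid hP'U, fun x hx => by rw [hse x hx, hae x (hP'U hx)]⟩
    have dα : Dec F D A B P' (afun α) := by
      obtain ⟨a, ha, e, he, hge⟩ := h.dec_comp hD (fun x hx => afun_mem d⁻¹ (afun_mem (b * α) hx))
        (h.dec_comp hD (fun x hx => afun_mem (b * α) hx) dG dD) dK
      refine ⟨a, ha, e, he, fun x hx => ?_⟩
      rw [← hge x hx]
      simp only [Function.comp_apply]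
      rw [← afun_mul _ _ (afun_mem (b * α) hx), ← afun_mul _ _ hx]
      exact congrArg (fun m => afun m x) (show α = (d⁻¹ * b)⁻¹ * d⁻¹ * (b * α) by group)
    obtain ⟨θ₂i, hθ₂i, hθ₂ie, -, -⟩ := hm2.exists_inv
    have d2i : Dec F D A B P' θ₂i := hi₂ ▸ h.dec_inv hD hθ₂ie d2
    obtain ⟨a, ha, e, he, hge⟩ := h.dec_comp hD
      (fun x hx => afun_mem α (hi₁ ▸ apply_mem_im hx))
      (h.dec_comp hD (fun x hx => hi₁ ▸ apply_mem_im hx) d1 dα) d2i
    refine ⟨a, ha, e, he, fun x hx => ?_⟩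
    rw [← hge x hx]
    simp only [Function.comp_apply]
    rw [hαe _ (hi₁ ▸ apply_mem_im hx)]
    simp only [Function.comp_apply]
    rw [hθ₁ie x hx, hθ₂ie _ (apply_mem_im hx)]

/-- An automorphism of order prime to `p` of a factor gives a good automorphism of the product. -/
theorem Com.half_good {e : MulAut A} (he : e ∈ E₁.autGroup A) (hco : (orderOf e).Coprime p) :
    ∃ a ∈ FusionMeet.goodSub F (A ⊔ B) h.le_sup,
      (∀ x ∈ A, afun a x = afun e x) ∧ ∀ x ∈ B, afun a x = x := by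
  have hB : F.StronglyClosed B := h.n2.1.2.2.2.1
  have hA := h.left_le
  have hBS := hB.1
  haveI := finite_of_le hA
  have hBC : B ≤ centralizerIn S A := h.v1.1
  have hXS : A ⊔ centralizerIn S A ≤ S := sup_le hA inf_le_left
  haveI := finite_of_le hXS
  obtain ⟨g₀, hg₀, hg₀e, hg₀c⟩ := FusionMeet.good_of_normal h.n1 hA he
  rw [im_afun] at hg₀c
  obtain ⟨β, hβ, hβe⟩ := hg₀.exists_aut (hg₀.im_self fun x hx =>
    mor_sup_induction hg₀ (fun t ht => Subgroup.mem_sup_left ((hg₀e t ht).symm ▸ afun_mem e ht))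
      (fun c hc => by
        have := mul_mem (Subgroup.mem_sup_right (S := A) hc)
          (Subgroup.mem_sup_left (T := centralizerIn S A) (hg₀c c hc))
        rwa [mul_inv_cancel_left] at this) hx)
  have hβA : ∀ t ∈ A, afun β t = afun e t := fun t ht => by
    rw [hβe t (Subgroup.mem_sup_left ht), hg₀e t ht]
  obtain ⟨k, hkco, hkpow⟩ := FusionGoodLift.exists_pow_coprime (p := p) β
  have hek : e ^ k = e := hkpow e (afun_ext fun t ht => by
    rw [← FusionCentralizerSub.pow_restrict le_sup_left hβA _ t ht, pow_orderOf_eq_one,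
      afun_one (Subgroup.mem_sup_left ht), afun_one ht]) hco
  have hkA : ∀ t ∈ A, afun (β ^ k) t = afun e t := fun t ht => by
    rw [FusionCentralizerSub.pow_restrict le_sup_left hβA _ t ht, hek]
  have hkC : ∀ n : ℕ, ∀ c ∈ centralizerIn S A, c⁻¹ * afun (β ^ n) c ∈ A := by
    intro n
    induction n with
    | zero =>
      intro c hc
      rw [pow_zero, afun_one (Subgroup.mem_sup_right hc), inv_mul_cancel]
      exact one_mem _
    | succ n ih =>
      intro c hc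
      have h3 := hg₀c c hc
      rw [← hβe c (Subgroup.mem_sup_right hc)] at h3
      rw [pow_succ, afun_mul _ _ (Subgroup.mem_sup_right hc),
        show afun β c = c * (c⁻¹ * afun β c) by rw [mul_inv_cancel_left],
        afun_map_mul _ (Subgroup.mem_sup_right hc) (Subgroup.mem_sup_left h3), ← mul_assoc]
      refine mul_mem (ih c hc) ?_
      rw [FusionCentralizerSub.pow_restrict le_sup_left hβA _ _ h3]
      exact afun_mem _ h3
  have hkm := (mem_autGroup hXS).1 (pow_mem hβ k)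
  have hBX : B ≤ A ⊔ centralizerIn S A := hBC.trans le_sup_right
  have hkBr := hkm.restrict_to hBX
  haveI := finite_of_le hBS
  obtain ⟨bB, hbB, hbBe⟩ := hkBr.exists_aut (hkBr.im_self fun q hq =>
    closed_apply' hB hkm (hBX hq) hq)
  have hbB1 : bB = 1 := FusionComponentExists.eq_one_of_moves_fixed (Z := A) h.pgrp hBS
    (hkco.coprime_dvd_left (orderOf_dvd_of_pow_eq_one (afun_ext fun q hq => by
      rw [← FusionCentralizerSub.pow_restrict hBX (fun x hx => (hbBe x hx).symm) _ q hq,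
        pow_orderOf_eq_one, afun_one (hBX hq), afun_one hq])))
    (fun q hq => by rw [hbBe q hq]; exact hkC k q (hBC hq))
    (fun q hq hqA => by
      rw [hbBe q hq, hkA q hqA]
      exact h.fix_left ((mem_autGroup le_rfl).1 he) hqA hq)
  have hkB : ∀ q ∈ B, afun (β ^ k) q = q := fun q hq => by
    rw [← hbBe q hq, hbB1, afun_one hq]
  have hXU : A ⊔ B ⊔ centralizerIn S (A ⊔ B) ≤ A ⊔ centralizerIn S A :=
    sup_le (sup_le le_sup_left hBX)
      ((FusionCentralizerSub.cent_le_cent le_sup_left).trans le_sup_right)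
  have hr := hkm.restrict_to (le_sup_left.trans hXU : A ⊔ B ≤ A ⊔ centralizerIn S A)
  haveI := finite_of_le h.le_sup
  obtain ⟨a, -, hae⟩ := hr.exists_aut (hr.im_self fun x hx => mor_sup_induction hr
    (fun y hy => Subgroup.mem_sup_left ((hkA y hy).symm ▸ afun_mem e hy))
    (fun y hy => Subgroup.mem_sup_right ((hkB y hy).symm ▸ hy)) hx)
  refine ⟨a, ⟨afun (β ^ k), hkm.restrict_to hXU, fun x hx => (hae x hx).symm, fun c hc => ?_⟩,
    fun x hx => by rw [hae x (Subgroup.mem_sup_left hx), hkA x hx],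
    fun x hx => by rw [hae x (Subgroup.mem_sup_right hx), hkB x hx]⟩
  rw [im_afun]
  exact Subgroup.mem_sup_left (hkC k c (FusionCentralizerSub.cent_le_cent le_sup_left hc))

include hDs in
/-- The central product is a normal subsystem. -/
theorem Com.cp_normal : D.IsNormalIn F p := by
  have hUeq := hD.eq
  subst hUeq
  haveI := finite_of_le h.le_sup
  refine ⟨⟨hDs, h.sat, FusionIso88.invariant_iff.2 ⟨h.sub hD, h.closed_sup, fun P f hf a ha =>
    ⟨_, h.conj_mor hD hf ha, fun x hx => by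
      simp only [Function.comp_apply, afun_inv_apply a (hf.le hx)]⟩,
    fun P f hP hf => h.frattini hD hDs hP hf⟩⟩, fun α hα => ?_⟩
  have hUp : IsPGroup p ↥(A ⊔ B : Subgroup Ω) := h.pgrp.to_le h.le_sup
  suffices D.autGroup (A ⊔ B) ≤ FusionMeet.goodSub F (A ⊔ B) h.le_sup from
    FusionMeet.ext_of_good (this hα)
  refine FusionWeakAlperin.autGroup_le_of_fullyNormalized hUp hDs fullyNormalized_self ?_ ?_
  · rw [Subgroup.map_le_iff_le_comap, TransferPResidual.pResidual_le_iff_coprime]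
    intro a hco
    rw [← Subgroup.orderOf_coe] at hco
    have ham : Mor D (A ⊔ B) (afun (a : MulAut ↥(A ⊔ B))) := (mem_autGroup le_rfl).1 a.2
    haveI := finite_of_le h.left_le
    haveI := finite_of_le h.symm.left_le
    have r1 : Mor E₁ A (afun (a : MulAut ↥(A ⊔ B))) :=
      hD.res_left hUp h.n1.1.1 le_rfl (ham.restrict_to le_sup_left)
    have r2 : Mor E₂ B (afun (a : MulAut ↥(A ⊔ B))) :=
      hD.symm.res_left hUp h.n2.1.1 le_rfl (ham.restrict_to le_sup_right)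
    obtain ⟨c₁, hc₁, hc₁e⟩ := r1.exists_aut (r1.im_self fun x hx => r1.apply_mem hx)
    obtain ⟨c₂, hc₂, hc₂e⟩ := r2.exists_aut (r2.im_self fun x hx => r2.apply_mem hx)
    have hco1 : (orderOf c₁).Coprime p := hco.coprime_dvd_left (orderOf_dvd_of_pow_eq_one
      (afun_ext fun t ht => by
        rw [← FusionCentralizerSub.pow_restrict le_sup_left (fun x hx => (hc₁e x hx).symm) _ t ht,
          pow_orderOf_eq_one, afun_one (Subgroup.mem_sup_left ht), afun_one ht]))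
    have hco2 : (orderOf c₂).Coprime p := hco.coprime_dvd_left (orderOf_dvd_of_pow_eq_one
      (afun_ext fun t ht => by
        rw [← FusionCentralizerSub.pow_restrict le_sup_right (fun x hx => (hc₂e x hx).symm) _ t ht,
          pow_orderOf_eq_one, afun_one (Subgroup.mem_sup_right ht), afun_one ht]))
    obtain ⟨a₁, ha₁, ha₁A, ha₁B⟩ := h.half_good hD hc₁ hco1
    obtain ⟨a₂, ⟨g₂, hg₂, hg₂e, hg₂c⟩, ha₂B, ha₂A⟩ :=
      h.symm.half_good hD.symm hc₂ hco2
    have hle : A ⊔ B ⊔ centralizerIn S (A ⊔ B) ≤ B ⊔ A ⊔ centralizerIn S (B ⊔ A) := by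
      rw [sup_comm B A]
    have hU : A ⊔ B ≤ B ⊔ A := (sup_comm A B).le
    obtain ⟨a₂', ha₂', ha₂e⟩ := (hg₂.restrict_to (le_sup_left.trans hle)).exists_aut
      ((hg₂.restrict_to (le_sup_left.trans hle)).im_self fun x hx => by
        rw [hg₂e x (hU hx)]; exact (sup_comm B A).le (afun_mem a₂ (hU hx)))
    have hgood2 : a₂' ∈ FusionMeet.goodSub F (A ⊔ B) h.le_sup :=
      ⟨g₂, hg₂.restrict_to hle, fun x hx => (ha₂e x hx).symm, fun c hc => by
        have := hg₂c c (by rwa [sup_comm B A])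
        rw [im_afun] at this ⊢
        exact (sup_comm B A).le this⟩
    have hva : ∀ x ∈ A, afun a₂' x = x := fun x hx => by
      rw [ha₂e x (Subgroup.mem_sup_left hx), hg₂e x (hU (Subgroup.mem_sup_left hx)), ha₂A x hx]
    have hvb : ∀ x ∈ B, afun a₂' x = afun c₂ x := fun x hx => by
      rw [ha₂e x (Subgroup.mem_sup_right hx), hg₂e x (hU (Subgroup.mem_sup_right hx)), ha₂B x hx]
    have e : (a : MulAut ↥(A ⊔ B)) = a₁ * a₂' := afun_ext fun z hz => by
      obtain ⟨x, hx, y, hy, rfl⟩ := mem_mul h.comm le_rfl hz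
      have hx' : x ∈ A ⊔ B := Subgroup.mem_sup_left hx
      have hy' : y ∈ A ⊔ B := Subgroup.mem_sup_right hy
      rw [afun_map_mul _ hx' hy', afun_map_mul _ hx' hy', ← hc₁e x hx, ← hc₂e y hy,
        afun_mul _ _ hx', afun_mul _ _ hy', hva x hx, hvb y hy, ha₁A x hx,
        ha₁B _ (afun_mem c₂ hy)]
    show (a : MulAut ↥(A ⊔ B)) ∈ FusionMeet.goodSub F (A ⊔ B) h.le_sup
    rw [e]
    exact mul_mem ha₁ hgood2
  · intro a ha
    obtain ⟨u, hu, -, hue⟩ := mem_autInducedBy.1 ha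
    refine ⟨cj u, mor_cj (sup_le h.le_sup inf_le_left) (h.le_sup hu), fun x hx => (hue x hx).symm,
      fun c hc => ?_⟩
    have := (mem_centralizerIn.1 hc).2 u hu
    rw [cj_apply, mul_inv_eq_iff_eq_mul] at this
    rw [cj_apply, ← this, mul_inv_cancel_right, inv_mul_cancel, im_afun]
    exact one_mem _

end Cfsg.Agent.FusionCPNormal
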