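import Cfsg.Agent.Lib.FusionTops
import Cfsg.Agent.Lib.FusionInduct88
import Cfsg.Agent.Lib.SylowCount

/-!
A saturation criterion for generated fusion systems (after Broto-Castellana-Grodal-Levi-Oliver):
when the larger subgroups are good, a class has a member `T` reached by all others with their
normalizers (`exists_universal`), the automizer of `T` is generated by restrictions from larger
subgroups and the generators (`aut_le`), hence by `Aut_S(T)` and its elements of order prime to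
`p` (`aut_le_of_coprime`), and it is fully automized as soon as some element of `N_S(T) \ T`
induces a member of a normal `p`-subgroup of the automizer (`automized_of_normal`).
-/

set_option autoImplicit false

namespace Cfsg.Agent.FusionGenerated

open Cfsg Cfsg.FusionSystem Cfsg.Agent.FusionSysBasic Cfsg.Agent.FusionSysSaturated
open Cfsg.Agent.FusionTops

variable {Ω : Type*} [Group Ω] {S : Subgroup Ω} {F : FusionSystem S}
  {Γ : Subgroup Ω → (Ω → Ω) → Prop}

/-- The maps of `F` are generated by conjugations, restriction, and the automorphisms in `Γ`. -/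
def Generated (F : FusionSystem S) (Γ : Subgroup Ω → (Ω → Ω) → Prop) : Prop :=
  ∀ Φ : Subgroup Ω → (Ω → Ω) → Prop, FusionInduct88.Closed F (U := S) Φ →
    (∀ R f, Mor F R f → im R f = R → Γ R f → Φ R f) → ∀ P f, Mor F P f → Φ P f

theorem eq_one_of_coprime {G : Type*} [Group G] {p : ℕ} [Fact p.Prime] {H : Subgroup G}
    (hH : IsPGroup p H) {x : G} (hx : x ∈ H) (h : (orderOf x).Coprime p) : x = 1 := by
  obtain ⟨k, hk⟩ := IsPGroup.iff_orderOf.1 hH ⟨x, hx⟩
  rw [Subgroup.orderOf_mk] at hk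
  rw [← orderOf_eq_one_iff]
  refine Nat.eq_one_of_dvd_coprimes (h.pow_right k) dvd_rfl ?_
  rw [hk]

/-- Composites of restrictions of maps on larger normalizing subgroups and of generators. -/
inductive Chain (F : FusionSystem S) (Γ : Subgroup Ω → (Ω → Ω) → Prop) :
    Subgroup Ω → (Ω → Ω) → Prop
  | step {Q R : Subgroup Ω} {f : Ω → Ω} : Mor F R f → Q ≤ R → R ≤ normalizerIn S Q →
      Nat.card Q < Nat.card R → Chain F Γ Q f
  | conj {Q : Subgroup Ω} {g : Ω} : Q ≤ S → g ∈ S → Chain F Γ Q (cj g)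
  | gen {Q : Subgroup Ω} {f : Ω → Ω} : Mor F Q f → im Q f = Q → Γ Q f → Chain F Γ Q f
  | comp {Q : Subgroup Ω} {f g : Ω → Ω} : Mor F Q f → Chain F Γ Q f → Chain F Γ (im Q f) g →
      Chain F Γ Q (g ∘ f)
  | inv {Q : Subgroup Ω} {f g : Ω → Ω} : Mor F Q f → (∀ x ∈ Q, g (f x) = x) → Chain F Γ Q f →
      Chain F Γ (im Q f) g
  | congr {Q : Subgroup Ω} {f g : Ω → Ω} : Chain F Γ Q f → (∀ x ∈ Q, f x = g x) → Chain F Γ Q g

theorem Chain.mor {Q : Subgroup Ω} {f : Ω → Ω} (h : Chain F Γ Q f) : Mor F Q f := by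
  induction h with
  | step hf hQ => exact hf.restrict_to hQ
  | conj hQ hg => exact mor_cj hQ hg
  | gen hf => exact hf
  | comp hf _ _ _ hg => exact hf.comp_im hg
  | inv hf hgf =>
    obtain ⟨g', hg', hgf', -, -⟩ := hf.exists_inv
    refine hg'.congr fun y hy => ?_
    obtain ⟨x, hx, rfl⟩ := hf.mem_im.1 hy
    rw [hgf' x hx, hgf x hx]
  | congr _ he hf => exact hf.congr he

variable [Finite S] {p : ℕ} [Fact p.Prime]

theorem chain_of_mor (hS : IsPGroup p S) (hgen : Generated F Γ) {P : Subgroup Ω} {f : Ω → Ω}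
    (hf : Mor F P f) : Chain F Γ P f := by
  refine hgen (fun P f => Chain F Γ P f)
    { congr := fun h he => .congr h he
      conj := fun hP hg => .conj hP hg
      comp := fun {P Q f g} hf hg _ _ hfQ h1 h2 => .comp hf h1 ?_
      inv := fun hf _ _ hgf h => .inv hf hgf h }
    (fun R f hf hR hΓ => .gen hf hR hΓ) P f hf
  rcases (im_le_iff.2 hfQ).eq_or_lt with e | e
  · exact e.symm ▸ h2
  · refine .step (hg.restrict_to (inf_le_left : normalizerIn Q (im P f) ≤ Q))
      (le_normalizerIn e.le) (fun x hx => ⟨hg.le hx.1, hx.2⟩)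
      (FusionFrattini88.card_lt_normalizerIn hS hg.le e)

theorem Chain.tops (hS : IsPGroup p S) {n : ℕ} (hgood : GoodAbove F p n) {Q : Subgroup Ω}
    {f : Ω → Ω} (h : Chain F Γ Q f) :
    Nat.card Q = n → ∀ {T1 T2 : Subgroup Ω}, IsTop F T1 → IsTop F T2 → To F Q T1 →
      To F (im Q f) T2 → To F T1 T2 := by
  induction h with
  | step hf hQR hRQ hlt =>
    exact fun hn _ _ h1 h2 hQ1 hQ2 => tops_link hS hgood hf hQR hRQ (hn ▸ hlt) h1 h2 hQ1 hQ2
  | conj hQ hg =>
    exact fun hn _ _ h1 h2 hQ1 hQ2 => tops_equiv hS hgood hn h1 h2 hQ1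
      (To.trans ⟨hQ, _, mor_cj inf_le_left hg, rfl⟩ hQ2)
  | gen hf hQ =>
    exact fun hn _ _ h1 h2 hQ1 hQ2 => tops_equiv hS hgood hn h1 h2 hQ1 (hQ ▸ hQ2)
  | @comp Q f g hf _ _ ihf ihg =>
    intro hn T1 T2 h1 h2 hQ1 hQ2
    obtain ⟨T0, hT0, h0⟩ := exists_top (F := F) hf.im_le
    exact (ihf hn h1 h0 hQ1 hT0).trans
      (ihg (hf.card_im.trans hn) h0 h2 hT0 (by rwa [hf.im_comp]))
  | @inv Q f g hf hgf _ ih =>
    intro hn T1 T2 h1 h2 hQ1 hQ2
    have e : im (im Q f) g = Q := by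
      rw [hf.im_comp]; exact (im_congr hgf).trans (im_id Q)
    rw [e] at hQ2
    exact h2.back (ih (hf.card_im.symm.trans hn) h2 h1 hQ2 hQ1)
  | congr _ he ih =>
    exact fun hn _ _ h1 h2 hQ1 hQ2 => ih hn h1 h2 hQ1 (by rwa [im_congr he])

/-- A member of the class reached by all others together with their normalizers. -/
theorem exists_universal (hS : IsPGroup p S) (hgen : Generated F Γ) {P : Subgroup Ω} (hP : P ≤ S)
    (hgood : GoodAbove F p (Nat.card P)) :
    ∃ T, F.IsConj P T ∧ F.IsFullyNormalized T ∧ ∀ Q, F.IsConj T Q → To F Q T := by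
  obtain ⟨T, hPT, hT⟩ := exists_top (F := F) hP
  have key : ∀ Q, F.IsConj T Q → To F Q T := by
    intro Q hQ
    obtain ⟨T', hQT', hT'⟩ := exists_top (F := F) (isConj_right_le hQ)
    obtain ⟨f, hf, rfl⟩ := isConj_iff.1 hQ
    exact hQT'.trans (hT.back ((chain_of_mor hS hgen hf).tops hS hgood
      (isConj_card hPT.isConj).symm hT hT' (To.refl hT.1) hQT'))
  exact ⟨T, hPT.isConj, ⟨hT.1, fun Q hQ => (key Q hQ).card_le⟩, key⟩

/-- The composite of the normalizer maps of two members of the class with a map between them is an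
automorphism of `T`. -/
theorem exists_loop {T Q : Subgroup Ω} {h1 h2 f : Ω → Ω} (hf : Mor F Q f)
    (hh1 : Mor F Q h1) (him1 : im Q h1 = T) (hh2 : Mor F (im Q f) h2) (him2 : im (im Q f) h2 = T) :
    ∃ m ∈ F.autGroup T, ∀ x ∈ Q, afun m (h1 x) = h2 (f x) := by
  obtain ⟨j, hj, hjh, -, hjQ⟩ := hh1.exists_inv
  rw [him1] at hj hjQ
  have hm : Mor F T (h2 ∘ (f ∘ j)) :=
    (hj.comp hf hjQ).comp hh2 fun y hy => apply_mem_im (hjQ y hy)
  obtain ⟨m, hm, he⟩ := hm.exists_aut (hm.im_self fun y hy => him2 ▸ apply_mem_im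
    (apply_mem_im (hjQ y hy)))
  refine ⟨m, hm, fun x hx => ?_⟩
  rw [he _ (him1 ▸ apply_mem_im hx), Function.comp_apply, Function.comp_apply, hjh x hx]

omit [Finite S] [Fact p.Prime] in
theorem loop_unique {T Q : Subgroup Ω} {h1 : Ω → Ω} {m m' : MulAut T} (hh1 : Mor F Q h1)
    (him1 : im Q h1 = T) (h : ∀ x ∈ Q, afun m (h1 x) = afun m' (h1 x)) : m = m' :=
  afun_ext fun y hy => by
    obtain ⟨x, hx, rfl⟩ := hh1.mem_im.1 (him1.ge hy)
    exact h x hx

/-- The automizer of `T` lies in every subgroup containing `Aut_S(T)`, the restrictions from larger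
subgroups and the transported generators. -/
theorem aut_le (hS : IsPGroup p S) (hgen : Generated F Γ) {T : Subgroup Ω} (hT : T ≤ S)
    (huniv : ∀ Q, F.IsConj T Q → To F Q T) (M : Subgroup (MulAut T))
    (hMS : autInducedBy S T ≤ M)
    (hext : ∀ (R : Subgroup Ω) (f : Ω → Ω), Mor F R f → T ≤ R → R ≤ normalizerIn S T →
      Nat.card T < Nat.card R → im T f = T → ∀ m : MulAut T, (∀ x ∈ T, afun m x = f x) → m ∈ M)
    (hΓ : ∀ (Q : Subgroup Ω) (γ k : Ω → Ω), Mor F (normalizerIn S Q) k → im Q k = T → Mor F Q γ →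
      im Q γ = Q → Γ Q γ → ∀ m : MulAut T, (∀ x ∈ Q, afun m (k x) = k (γ x)) → m ∈ M) :
    F.autGroup T ≤ M := by
  classical
  -- one normalizer map for every member of the class
  have hsel : ∀ Q, ∃ k : Ω → Ω, F.IsConj T Q →
      (Mor F (normalizerIn S Q) k ∧ im Q k = T ∧ (Q = T → k = id)) := by
    intro Q
    by_cases hQ : F.IsConj T Q
    · by_cases e : Q = T
      · exact ⟨id, fun _ => ⟨mor_id inf_le_left, by rw [e]; exact im_id T, fun _ => rfl⟩⟩
      · obtain ⟨-, k, hk, him⟩ := huniv Q hQ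
        exact ⟨k, fun _ => ⟨hk, him, fun e' => absurd e' e⟩⟩
    · exact ⟨id, fun h => absurd h hQ⟩
  choose h hh using hsel
  suffices key : ∀ {Q : Subgroup Ω} {f : Ω → Ω}, Chain F Γ Q f → F.IsConj T Q →
      ∀ m : MulAut T, (∀ x ∈ Q, afun m (h Q x) = h (im Q f) (f x)) → m ∈ M by
    intro α hα
    have hm := (mem_autGroup hT).1 hα
    refine key (chain_of_mor hS hgen hm) (isConj_refl hT) α fun x _ => ?_
    rw [im_afun, (hh T (isConj_refl hT)).2.2 rfl]
    rfl
  have conjIm : ∀ {Q : Subgroup Ω} {f : Ω → Ω}, Mor F Q f → F.IsConj T Q →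
      F.IsConj T (im Q f) := fun hf hQ => isConj_trans hQ (isConj_iff.2 ⟨_, hf, rfl⟩)
  -- restrictions from larger subgroups
  have hstep : ∀ {Q R : Subgroup Ω} {f : Ω → Ω}, Mor F R f → Q ≤ R → R ≤ normalizerIn S Q →
      Nat.card Q < Nat.card R → F.IsConj T Q →
      ∀ m : MulAut T, (∀ x ∈ Q, afun m (h Q x) = h (im Q f) (f x)) → m ∈ M := by
    intro Q R f hf hQR hRQ hlt hQ m hm
    have hQ2 := conjIm (hf.restrict_to hQR) hQ
    obtain ⟨hk1, him1, -⟩ := hh Q hQ
    obtain ⟨hk2, him2, -⟩ := hh _ hQ2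
    have hk1R := hk1.restrict_to hRQ
    obtain ⟨j, hj, hjk, -, hjR⟩ := hk1R.exists_inv
    have hu : Mor F (im R (h Q)) (h (im Q f) ∘ (f ∘ j)) :=
      (hj.comp hf hjR).comp hk2 fun y hy =>
        im_le_normalizerIn hf hQR hRQ (apply_mem_im (hjR y hy))
    refine hext _ _ hu (him1.ge.trans (im_mono hQR)) (im_le_iff.2 fun r hr =>
      mor_normalizer_mem hk1 (hQR.trans hf.le) him1 (hRQ hr)) ?_ ?_ m fun y hy => ?_
    · rw [hk1R.card_im, ← isConj_card (isConj_iff.2 ⟨_, hk1.restrict_to (hQR.trans hRQ), him1⟩)]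
      exact hlt
    · conv_lhs => rw [← him1, (hk1.restrict_to (hQR.trans hRQ)).im_comp]
      rw [im_congr (g := h (im Q f) ∘ f) fun x hx => by
        simp only [Function.comp_apply, hjk x (hQR hx)], ← (hf.restrict_to hQR).im_comp, him2]
    · obtain ⟨x, hx, rfl⟩ := (hk1.restrict_to (hQR.trans hRQ)).mem_im.1 (him1.ge hy)
      rw [hm x hx, Function.comp_apply, Function.comp_apply, hjk x (hQR hx)]
  intro Q f hc
  induction hc with
  | step hf hQR hRQ hlt => exact hstep hf hQR hRQ hlt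
  | @conj Q g hQS hg =>
    intro hQ m hm
    rcases hQS.eq_or_lt with e | e
    · have hTS : T = S := isConj_self_eq (e ▸ isConj_symm hQ)
      subst hTS
      have hQim : im Q (cj g) = T := by
        subst e
        exact isConj_self_eq (F := F) (isConj_iff.2 ⟨_, mor_cj le_rfl hg, rfl⟩)
      refine hMS (mem_autInducedBy.2 ⟨g, hg, Subgroup.le_normalizer hg, fun x hx => ?_⟩)
      have := hm x (e.symm ▸ hx)
      rwa [hQim, (hh T (isConj_refl le_rfl)).2.2 rfl, (hh Q hQ).2.2 e] at this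
    · exact hstep (mor_cj inf_le_left hg) (le_normalizerIn hQS) le_rfl (card_lt_nIn hS e) hQ m hm
  | @gen Q γ hf hQim hγ =>
    intro hQ m hm
    obtain ⟨hk, him, -⟩ := hh Q hQ
    rw [hQim] at hm
    exact hΓ Q γ _ hk him hf hQim hγ m hm
  | @comp Q f g hf _ hg ihf ihg =>
    intro hQ m hm
    have hQ2 := conjIm hf hQ
    have hQ3 := conjIm hg.mor hQ2
    obtain ⟨hk1, him1, -⟩ := hh Q hQ
    obtain ⟨hk2, him2, -⟩ := hh _ hQ2
    obtain ⟨hk3, him3, -⟩ := hh _ hQ3
    have r1 := hk1.restrict_to (le_normalizerIn hf.le)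
    have r2 := hk2.restrict_to (le_normalizerIn hf.im_le)
    obtain ⟨m1, hm1A, hm1⟩ := exists_loop hf r1 him1 r2 him2
    obtain ⟨m2, hm2A, hm2⟩ := exists_loop hg.mor r2 him2
      (hk3.restrict_to (le_normalizerIn hg.mor.im_le)) him3
    have e : m = m2 * m1 := loop_unique r1 him1 fun x hx => by
      rw [hm x hx, afun_mul _ _ (him1 ▸ apply_mem_im hx), hm1 x hx, hm2 _ (apply_mem_im hx),
        hf.im_comp]
      rfl
    exact e ▸ M.mul_mem (ihg hQ2 m2 hm2) (ihf hQ m1 hm1)
  | @inv Q f g hf hgf _ ih =>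
    intro hQ2 m hm
    have hQ : F.IsConj T Q := isConj_trans hQ2 (isConj_symm (isConj_iff.2 ⟨_, hf, rfl⟩))
    obtain ⟨hk1, him1, -⟩ := hh Q hQ
    obtain ⟨hk2, him2, -⟩ := hh _ hQ2
    have r1 := hk1.restrict_to (le_normalizerIn hf.le)
    have r2 := hk2.restrict_to (le_normalizerIn hf.im_le)
    obtain ⟨m1, -, hm1⟩ := exists_loop hf r1 him1 r2 him2
    have eQ : im (im Q f) g = Q := by
      rw [hf.im_comp]; exact (im_congr hgf).trans (im_id Q)
    rw [eQ] at hm
    have e : m = m1⁻¹ := loop_unique r2 him2 fun y hy => by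
      obtain ⟨x, hx, rfl⟩ := hf.mem_im.1 hy
      rw [hm _ hy, hgf x hx, ← hm1 x hx, afun_inv_apply _ (him1 ▸ apply_mem_im hx)]
    exact e ▸ M.inv_mem (ih hQ m1 hm1)
  | congr _ he ih =>
    intro hQ m hm
    refine ih hQ m fun x hx => ?_
    rw [hm x hx, he x hx, im_congr he]

/-- What `T` needs to know about a larger subgroup `R` of `N_S(T)`: the stabilizer of `T` in the
automizer of `R` has Sylow subgroup induced by `N_S(R) ∩ N_S(T)` and its elements extend as
expected. -/
structure Local (F : FusionSystem S) (p : ℕ) (T R : Subgroup Ω) : Prop where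
  le : T ≤ R
  leN : R ≤ normalizerIn S T
  sylow : ∀ h : T ≤ R,
    SylIn p (autInducedBy (normalizerIn S R ⊓ normalizerIn S T) R) (stab F R T h)
  ext : ∀ b ∈ F.autGroup R, im T (afun b) = T →
    ∀ U : Subgroup Ω, U ≤ normalizerIn S R ⊓ normalizerIn S T →
      (∀ u ∈ U, ∃ v ∈ S, ∀ x ∈ R, afun b (cj u x) = cj v (afun b x)) →
        ∃ e, Mor F (R ⊔ U) e ∧ ∀ x ∈ R, e x = afun b x

omit [Fact p.Prime] in
theorem finite_stab (F : FusionSystem S) {R q : Subgroup Ω} (hq : q ≤ R) :
    Finite (stab F R q hq) := by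
  haveI := finite_autGroup (F := F) R
  exact Finite.of_injective (Subgroup.inclusion fun b (hb : b ∈ stab F R q hq) => hb.1)
    (Subgroup.inclusion_injective _)

omit [Fact p.Prime] in
theorem autInducedBy_le_stab {R T W : Subgroup Ω} (hR : R ≤ S) (h : T ≤ R)
    (hW : W ≤ normalizerIn S T) : autInducedBy W R ≤ stab F R T h := by
  intro α hα
  obtain ⟨g, hg, -, he⟩ := mem_autInducedBy.1 hα
  refine ⟨autInducedBy_le hR (autInducedBy_mono (hW.trans inf_le_left) R hα), ?_⟩
  rw [im_congr fun x hx => he x (h hx)]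
  exact mem_normalizer_iff_im_cj.1 (hW hg).2

/-- The image of a good subgroup in `N_S(T)` along a normalizer map is local. -/
theorem local_of_point (hS : IsPGroup p S) {R0 q0 T R : Subgroup Ω} (hR0 : Good F p R0)
    (hq0 : q0 ≤ R0) (hn0 : R0 ≤ normalizerIn S q0)
    (hsyl : ∀ h0 : q0 ≤ R0,
      SylIn p (autInducedBy (normalizerIn S R0 ⊓ normalizerIn S q0) R0) (stab F R0 q0 h0))
    {k : Ω → Ω} (hk : Mor F (normalizerIn S R0 ⊓ normalizerIn S q0) k) (hkR : im R0 k = R)
    (hkT : im q0 k = T) : Local F p T R := by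
  have hR0S : R0 ≤ S := hR0.2.1
  set W0 := normalizerIn S R0 ⊓ normalizerIn S q0 with hW0
  set W1 := normalizerIn S R ⊓ normalizerIn S T with hW1
  have hRW : R0 ≤ W0 := le_inf (le_normalizerIn hR0S) hn0
  have hkR0 := hk.restrict_to hRW
  have hRS : R ≤ S := hkR ▸ hkR0.im_le
  have hTR : T ≤ R := by rw [← hkR, ← hkT]; exact im_mono hq0
  have hkW : ∀ u ∈ W0, k u ∈ W1 := fun u hu =>
    ⟨⟨hk.apply_mem hu, by
      have := FusionWeaklyNormal88.apply_normalizes hk hRW hu hu.1.2
      rwa [hkR] at this⟩, hk.apply_mem hu, by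
      have := FusionWeaklyNormal88.apply_normalizes hk (hq0.trans hRW) hu hu.2.2
      rwa [hkT] at this⟩
  haveI : Finite W1 := finite_of_le (inf_le_left.trans inf_le_left)
  haveI := finite_stab F hTR
  haveI := finite_stab F hq0
  set t := hkR0.transport hkR
  have hstab : (stab F R0 q0 hq0).map t.toMonoidHom = stab F R T hTR := by
    ext β
    constructor
    · rintro ⟨α, ⟨hα, hαq⟩, rfl⟩
      refine ⟨hkR0.transport_mem hkR hα, ?_⟩
      show im T (afun (t α)) = T
      have hm := (hk.restrict_to (hq0.trans hRW))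
      conv_lhs => rw [← hkT, hm.im_comp]
      rw [im_congr (f := afun (t α) ∘ k) (g := k ∘ afun α) fun x hx =>
        hkR0.afun_transport hkR α (hq0 hx),
        ← (((mem_autGroup hR0S).1 hα).restrict_to hq0).im_comp, hαq, hkT]
    · rintro ⟨hβ, hβT⟩
      obtain ⟨α, hα, rfl⟩ := (hkR0.map_transport hkR).ge hβ
      refine ⟨α, ⟨hα, ?_⟩, rfl⟩
      have hle : im q0 (afun α) ≤ R0 := im_le_iff.2 fun x hx => afun_mem α (hq0 hx)
      have e1 : im (im q0 (afun α)) k = T := by
        rw [(((mem_autGroup hR0S).1 hα).restrict_to hq0).im_comp]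
        conv_rhs => rw [← hβT, ← hkT, (hk.restrict_to (hq0.trans hRW)).im_comp]
        exact im_congr fun x hx => (hkR0.afun_transport hkR α (hq0 hx)).symm
      obtain ⟨j, -, hjk, -, -⟩ := hkR0.exists_inv
      have inj : ∀ {A : Subgroup Ω}, A ≤ R0 → im (im A k) j = A := fun {A} hA => by
        rw [(hkR0.restrict_to hA).im_comp]
        exact (im_congr fun x hx => hjk x (hA hx)).trans (im_id A)
      rw [← inj hle, e1, ← hkT, inj hq0]
  have hA0 : (autInducedBy W0 R0).map t.toMonoidHom ≤ autInducedBy W1 R := by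
    rintro _ ⟨α, hα, rfl⟩
    obtain ⟨u, hu, -, he⟩ := mem_autInducedBy.1 hα
    refine mem_autInducedBy.2 ⟨k u, hkW u hu, (hkW u hu).1.2, fun y hy => ?_⟩
    obtain ⟨x, hx, rfl⟩ := hkR0.mem_im.1 (hkR.ge hy)
    show afun (t α) (k x) = _
    rw [hkR0.afun_transport hkR α hx, he x hx, hk.map_cj hu (hRW hx)]
  have hA1 : autInducedBy W1 R ≤ stab F R T hTR := autInducedBy_le_stab hRS hTR inf_le_right
  have hA1p : IsPGroup p (autInducedBy W1 R) := (isPGroup_autInducedBy hS R).to_le
    (autInducedBy_mono (inf_le_left.trans inf_le_left) R)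
  have hsyl' : SylIn p (autInducedBy W1 R) (stab F R T hTR) ∧
      (autInducedBy W0 R0).map t.toMonoidHom = autInducedBy W1 R := by
    have h0 := (sylIn_iff_card (autInducedBy_le_stab hR0S hq0 inf_le_right)).1 (hsyl hq0)
    have ec : Nat.card (stab F R T hTR) = Nat.card (stab F R0 q0 hq0) := by
      rw [← hstab]
      exact (Nat.card_congr (Subgroup.equivMapOfInjective _ _ t.injective).toEquiv).symm
    have e0 : Nat.card ((autInducedBy W0 R0).map t.toMonoidHom) =
        p ^ (Nat.card (stab F R T hTR)).factorization p := by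
      rw [← (Nat.card_congr (Subgroup.equivMapOfInjective _ _ t.injective).toEquiv), h0, ec]
    haveI : Finite (autInducedBy W1 R) := Finite.of_injective (Subgroup.inclusion hA1)
      (Subgroup.inclusion_injective _)
    obtain ⟨i, hi⟩ := IsPGroup.iff_card.1 hA1p
    have hle : Nat.card (autInducedBy W1 R) ≤ p ^ (Nat.card (stab F R T hTR)).factorization p := by
      have h2 := Subgroup.card_dvd_of_le hA1
      rw [hi] at h2 ⊢
      exact Nat.pow_le_pow_right (Fact.out (p := p.Prime)).pos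
        (((Fact.out (p := p.Prime)).pow_dvd_iff_le_factorization Nat.card_pos.ne').1 h2)
    have e := Subgroup.eq_of_le_of_card_ge hA0 (hle.trans e0.ge)
    exact ⟨(sylIn_iff_card hA1).2 (e ▸ e0), e⟩
  have hWeq : ∀ v ∈ W1, ∃ u ∈ W0, k u = v := by
    intro v hv
    have h1 : nHom S R ⟨v, hv.1⟩ ∈ autInducedBy W1 R :=
      mem_autInducedBy.2 ⟨v, hv, hv.1.2, fun x hx => afun_nHom _ hx⟩
    rw [← hsyl'.2] at h1
    obtain ⟨α, hα, hαe⟩ := h1
    obtain ⟨u, hu, -, he⟩ := mem_autInducedBy.1 hα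
    have hC : im (centralizerIn S R0) k = centralizerIn S R := by
      have hle : centralizerIn S R0 ≤ W0 := le_inf centralizerIn_le_normalizerIn fun c hc =>
        ⟨hc.1, mem_normalizer_of_cj_le (hq0.trans hR0S) fun y hy =>
          ((mem_centralizerIn.1 hc).2 y (hq0 hy)).symm ▸ hy⟩
      refine (hk.restrict_to hle).im_eq_of_le inf_le_left (im_le_iff.2 fun c hc => ?_)
        ((fullyCentralized_of_receptive hR0.2).2 R (isConj_iff.2 ⟨k, hkR0, hkR⟩))
      refine mem_centralizerIn.2 ⟨hk.apply_mem (hle hc), fun y hy => ?_⟩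
      obtain ⟨x, hx, rfl⟩ := hkR0.mem_im.1 (hkR.ge hy)
      rw [← hk.map_cj (hle hc) (hRW hx), (mem_centralizerIn.1 hc).2 x hx]
    have hd : (k u)⁻¹ * v ∈ centralizerIn S R := by
      refine mem_centralizerIn.2 ⟨S.mul_mem (S.inv_mem (hk.apply_mem hu)) hv.1.1, fun y hy => ?_⟩
      obtain ⟨x, hx, rfl⟩ := hkR0.mem_im.1 (hkR.ge hy)
      have e1 : cj v (k x) = cj (k u) (k x) := by
        rw [← afun_nHom (⟨v, hv.1⟩ : ↥(S ⊓ Subgroup.normalizer (R : Set Ω)))
          (hkR ▸ apply_mem_im hx), ← hk.map_cj hu (hRW hx), ← he x hx,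
          ← hkR0.afun_transport hkR α hx]
        exact congrArg (fun m : MulAut R => afun m (k x)) hαe.symm
      rw [← cj_cj, e1, cj_inv_cj]
    rw [← hC] at hd
    have hle : centralizerIn S R0 ≤ W0 := le_inf centralizerIn_le_normalizerIn fun c hc =>
      ⟨hc.1, mem_normalizer_of_cj_le (hq0.trans hR0S) fun y hy =>
        ((mem_centralizerIn.1 hc).2 y (hq0 hy)).symm ▸ hy⟩
    obtain ⟨c, hc, hce⟩ := (hk.restrict_to hle).mem_im.1 hd
    exact ⟨u * c, W0.mul_mem hu (hle hc), by rw [hk.map_mul hu (hle hc), hce, mul_inv_cancel_left]⟩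
  refine ⟨hTR, hkR ▸ im_le_iff.2 fun r hr => (hkW r (hRW hr)).2, fun _ => hsyl'.1,
    fun b hb hbT U hU hcond => ?_⟩
  obtain ⟨b0, ⟨hb0, hb0q⟩, hb0e⟩ := hstab.ge (⟨hb, hbT⟩ : b ∈ stab F R T hTR)
  have hbe : ∀ x ∈ R0, afun b (k x) = k (afun b0 x) := fun x hx => by
    rw [← hb0e]; exact hkR0.afun_transport hkR b0 hx
  have hUW : U ≤ im W0 k := fun u hu => by
    obtain ⟨u0, hu0, rfl⟩ := hWeq u (hU hu); exact apply_mem_im hu0
  obtain ⟨j, hj, hjk, -, hjW⟩ := hk.exists_inv
  have hjU := hj.restrict_to hUW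
  obtain ⟨e0, he0, he0e⟩ := (receptive_iff.1 hR0.2).2 R0 (afun b0) (im U j)
    ((mem_autGroup hR0S).1 hb0) (im_afun b0) hjU.im_le
    (im_le_iff.2 fun u hu => (hjW u (hUW hu)).1.2) fun g hg => by
      obtain ⟨u, hu, rfl⟩ := hjU.mem_im.1 hg
      obtain ⟨u0, hu0, rfl⟩ := hWeq u (hU hu)
      rw [hjk u0 hu0]
      obtain ⟨v, hv, hve⟩ := hcond _ hu
      have hvW : v ∈ W1 := by
        have hcx : ∀ y ∈ R, cj v y = afun b (cj (k u0) (afun b⁻¹ y)) := fun y hy => by
          rw [hve _ (afun_mem _ hy), afun_apply_inv b hy]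
        refine ⟨⟨hv, mem_normalizer_of_cj_le hRS fun y hy => ?_⟩, hv,
          mem_normalizer_of_cj_le (hTR.trans hRS) fun y hy => ?_⟩
        · rw [hcx y hy]
          exact afun_mem b (cj_mem_of_normalizer (hU hu).1.2 (afun_mem _ hy))
        · rw [hcx y (hTR hy)]
          have h1 : afun b⁻¹ y ∈ T := by
            have := (stab F R T hTR).inv_mem (⟨hb, hbT⟩ : b ∈ stab F R T hTR)
            exact this.2.le (apply_mem_im hy)
          exact hbT.le (apply_mem_im (cj_mem_of_normalizer (hU hu).2.2 h1))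
      obtain ⟨v0, hv0, rfl⟩ := hWeq v hvW
      refine ⟨v0, hv0.1.1, fun x hx => ?_⟩
      refine hk.injOn (hRW (afun_mem _ (cj_mem_of_normalizer hu0.1.2 hx)))
        (W0.mul_mem (W0.mul_mem hv0 (hRW (afun_mem _ hx))) (W0.inv_mem hv0)) ?_
      rw [← hbe _ (cj_mem_of_normalizer hu0.1.2 hx), hk.map_cj hu0 (hRW hx),
        hve _ (hkR ▸ apply_mem_im hx), hbe x hx, hk.map_cj hv0 (hRW (afun_mem _ hx))]
  have hdom : R0 ⊔ im U j ≤ W0 := sup_le hRW (im_le_iff.2 fun u hu => hjW u (hUW hu))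
  have he0W : ∀ x ∈ R0 ⊔ im U j, e0 x ∈ W0 := fun x hx => by
    have e1 : im R0 e0 = R0 := (im_congr he0e).trans (im_afun b0)
    have e2 : im q0 e0 = q0 := (im_congr fun y hy => he0e y (hq0 hy)).trans hb0q
    refine ⟨⟨he0.apply_mem hx, ?_⟩, he0.apply_mem hx, ?_⟩
    · have := FusionWeaklyNormal88.apply_normalizes he0 le_sup_left hx (hdom hx).1.2
      rwa [e1] at this
    · have := FusionWeaklyNormal88.apply_normalizes he0 (hq0.trans le_sup_left) hx (hdom hx).2.2
      rwa [e2] at this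
  have hjdom : Mor F (R ⊔ U) j := hj.restrict_to (sup_le (hkR ▸ im_mono hRW) hUW)
  refine ⟨k ∘ (e0 ∘ j), (hjdom.comp he0 fun y hy => mor_sup_induction hjdom
      (fun r hr => by
        obtain ⟨x, hx, rfl⟩ := hkR0.mem_im.1 (hkR.ge hr)
        rw [hjk x (hRW hx)]; exact Subgroup.mem_sup_left hx)
      (fun u hu => Subgroup.mem_sup_right (apply_mem_im hu)) hy).comp hk (fun y hy => ?_),
    fun y hy => ?_⟩
  · refine he0W _ (mor_sup_induction hjdom (fun r hr => ?_)
      (fun u hu => Subgroup.mem_sup_right (apply_mem_im hu)) hy)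
    obtain ⟨x, hx, rfl⟩ := hkR0.mem_im.1 (hkR.ge hr)
    rw [hjk x (hRW hx)]; exact Subgroup.mem_sup_left hx
  · obtain ⟨x, hx, rfl⟩ := hkR0.mem_im.1 (hkR.ge hy)
    rw [Function.comp_apply, Function.comp_apply, hjk x (hRW hx), he0e x hx, hbe x hx]

/-- Restrictions to `T` are controlled by the local subgroups. -/
theorem ext_induction (hS : IsPGroup p S) {T : Subgroup Ω} (hT : T ≤ S)
    (hgood : GoodAbove F p (Nat.card T)) (huniv : ∀ Q, F.IsConj T Q → To F Q T)
    (M : Subgroup (MulAut T))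
    (hloc : ∀ R, Local F p T R → Nat.card T < Nat.card R →
      (∀ (R' : Subgroup Ω) (f : Ω → Ω), Mor F R' f → T ≤ R' → R' ≤ normalizerIn S T →
        Nat.card R < Nat.card R' → im T f = T →
          ∀ m : MulAut T, (∀ x ∈ T, afun m x = f x) → m ∈ M) →
      ∀ b ∈ F.autGroup R, im T (afun b) = T →
        ∀ m : MulAut T, (∀ x ∈ T, afun m x = afun b x) → m ∈ M) :
    ∀ (R : Subgroup Ω) (f : Ω → Ω), Mor F R f → T ≤ R → R ≤ normalizerIn S T →
      Nat.card T < Nat.card R → im T f = T →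
        ∀ m : MulAut T, (∀ x ∈ T, afun m x = f x) → m ∈ M := by
  suffices ∀ d, ∀ (R : Subgroup Ω) (f : Ω → Ω), Mor F R f → T ≤ R → R ≤ normalizerIn S T →
      Nat.card T < Nat.card R → Nat.card S ≤ Nat.card R + d → im T f = T →
        ∀ m : MulAut T, (∀ x ∈ T, afun m x = f x) → m ∈ M from
    fun R f hf hTR hRN hlt => this (Nat.card S) R f hf hTR hRN hlt (Nat.le_add_left _ _)
  intro d
  induction d using Nat.strong_induction_on with
  | _ d ih =>
    intro R f hf hTR hRN hlt hd hfT m hm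
    -- a map of the induction hypothesis
    have ihb : ∀ {N : ℕ}, Nat.card R ≤ N → ∀ (R' : Subgroup Ω) (g : Ω → Ω), Mor F R' g → T ≤ R' →
        R' ≤ normalizerIn S T → N < Nat.card R' → im T g = T →
          ∀ m : MulAut T, (∀ x ∈ T, afun m x = g x) → m ∈ M := by
      intro N hN R' g hg hTR' hR'N hlt' hgT
      have : Nat.card R' ≤ Nat.card S := Subgroup.card_le_of_le hg.le
      exact ih (d - 1) (by omega) R' g hg hTR' hR'N (by omega) (by omega) hgT
    obtain ⟨R0, hR0, hR0g⟩ := hgood R hf.le hlt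
    obtain ⟨q0, hq0, hn0, hTq0, hsyl, ⟨k1, hk1, hk1R, hk1T, hk1W⟩, k2, hk2, hk2R, hk2T, hk2W⟩ :=
      exists_moves hS hf hTR hRN hR0 hR0g
    rw [hfT] at hk2 hk2T hk2W
    obtain ⟨hq0S, h, hh, hhT⟩ := huniv q0 hTq0
    have hhW : Mor F (normalizerIn S R0 ⊓ normalizerIn S q0) h := hh.restrict_to inf_le_right
    set R1 := im R0 h with hR1
    have hloc1 : Local F p T R1 := local_of_point hS hR0g hq0 hn0 hsyl hhW rfl hhT
    have hR1c : Nat.card R1 = Nat.card R := by
      rw [hR1, (hh.restrict_to hn0).card_im, ← isConj_card hR0]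
    have hRW : R ≤ normalizerIn S R ⊓ normalizerIn S T := le_inf (le_normalizerIn hf.le) hRN
    have hfR : im R f ≤ normalizerIn S T := hfT ▸ im_le_normalizerIn hf hTR hRN
    by_cases hR : R = normalizerIn S T
    · -- `R` is local itself
      have e1 : R1 = R := eq_of_le_of_card_ge hf.le (hR ▸ hloc1.leN) hR1c.ge
      have e2 : im R f = R := eq_of_le_of_card_ge hf.le (hR ▸ hfR) hf.card_im.ge
      obtain ⟨b, hb, hbe⟩ := hf.exists_aut e2
      rw [e1] at hloc1
      exact hloc R hloc1 hlt (ihb le_rfl) b hb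
        ((im_congr fun x hx => hbe x (hTR hx)).trans hfT) m
        fun x hx => (hm x hx).trans (hbe x (hTR hx)).symm
    · set K1 := h ∘ k1 with hK1
      set K2 := h ∘ k2 with hK2
      have hK1m : Mor F (normalizerIn S R ⊓ normalizerIn S T) K1 := hk1.comp hhW hk1W
      have hK2m : Mor F (normalizerIn S (im R f) ⊓ normalizerIn S T) K2 := hk2.comp hhW hk2W
      have hTW : T ≤ normalizerIn S R ⊓ normalizerIn S T := hTR.trans hRW
      have hT2 : T ≤ im R f := hfT.ge.trans (im_mono hTR)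
      have hTW2 : T ≤ normalizerIn S (im R f) ⊓ normalizerIn S T :=
        le_inf (hT2.trans (le_normalizerIn hf.im_le)) (le_normalizerIn hT)
      have hK1T : im T K1 = T := by rw [hK1, ← (hk1.restrict_to hTW).im_comp, hk1T, hhT]
      have hK2T : im T K2 = T := by rw [hK2, ← (hk2.restrict_to hTW2).im_comp, hk2T, hhT]
      obtain ⟨m1, -, hm1⟩ := (hK1m.restrict_to hTW).exists_aut hK1T
      obtain ⟨m2, -, hm2⟩ := (hK2m.restrict_to hTW2).exists_aut hK2T
      have hc1 := card_lt_inf hS hRN hR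
      have hc2 := card_lt_inf hS hfR fun e => hR <| eq_of_le_of_card_ge inf_le_left hRN
        (by rw [← hf.card_im, e])
      rw [hf.card_im] at hc2
      have hm1M : m1 ∈ M := ihb le_rfl _ K1 hK1m hTW inf_le_right hc1 hK1T m1 hm1
      have hm2M : m2 ∈ M := ihb le_rfl _ K2 hK2m hTW2 inf_le_right hc2 hK2T m2 hm2
      -- the automorphism of `R1`
      have hK1R : im R K1 = R1 := by rw [hK1, ← (hk1.restrict_to hRW).im_comp, hk1R]
      have hR2W : im R f ≤ normalizerIn S (im R f) ⊓ normalizerIn S T :=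
        le_inf (le_normalizerIn hf.im_le) hfR
      have hK2R : im (im R f) K2 = R1 := by
        rw [hK2, ← (hk2.restrict_to hR2W).im_comp, hk2R]
      obtain ⟨j, hj, hjK, -, hjR⟩ := (hK1m.restrict_to hRW).exists_inv
      rw [hK1R] at hj hjR
      have hb : Mor F R1 (K2 ∘ (f ∘ j)) := (hj.comp hf hjR).comp hK2m fun y hy =>
        hR2W (apply_mem_im (hjR y hy))
      obtain ⟨b, hbA, hbe⟩ := hb.exists_aut (hb.im_self fun y hy =>
        hK2R ▸ apply_mem_im (apply_mem_im (hjR y hy)))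
      have hfix : ∀ x ∈ T, afun b (K1 x) = K2 (f x) := fun x hx => by
        rw [hbe _ (hK1R ▸ apply_mem_im (hTR hx)), Function.comp_apply, Function.comp_apply,
          hjK x (hTR hx)]
      have hbT : im T (afun b) = T := by
        conv_lhs => rw [← hK1T, (hK1m.restrict_to hTW).im_comp]
        rw [im_congr (f := afun b ∘ K1) (g := K2 ∘ f) fun x hx => hfix x hx, ← (hf.restrict_to hTR).im_comp, hfT,
          hK2T]
      obtain ⟨mb, -, hmb⟩ :=
        (((mem_autGroup (hloc1.leN.trans inf_le_left)).1 hbA).restrict_to hloc1.le).exists_aut hbT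
      have hmbM : mb ∈ M := hloc R1 hloc1 (hR1c ▸ hlt)
        (fun R' g hg h1 h2 h3 => ihb le_rfl R' g hg h1 h2 (hR1c ▸ h3)) b hbA hbT mb hmb
      have e : m = m2⁻¹ * (mb * m1) := afun_ext fun x hx => by
        have hfx : f x ∈ T := hm x hx ▸ afun_mem m hx
        rw [afun_mul _ _ hx, afun_mul _ _ hx, hm1 x hx, hmb _ (hK1T ▸ apply_mem_im hx), hfix x hx,
          ← hm2 _ hfx, afun_inv_apply _ hfx, hm x hx]
      exact e ▸ M.mul_mem (M.inv_mem hm2M) (M.mul_mem hmbM hm1M)

/-- Restriction to `T` of the stabilizer of `T`. -/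
theorem exists_res {R T : Subgroup Ω} (hR : R ≤ S) (h : T ≤ R) :
    ∃ r : stab F R T h →* F.autGroup T, ∀ b : stab F R T h, ∀ x ∈ T,
      afun (r b : MulAut T) x = afun (b : MulAut R) x := by
  have hex : ∀ b : stab F R T h, ∃ m : F.autGroup T, ∀ x ∈ T,
      afun (m : MulAut T) x = afun (b : MulAut R) x := fun b => by
    obtain ⟨m, hm, he⟩ := (((mem_autGroup hR).1 b.2.1).restrict_to h).exists_aut b.2.2
    exact ⟨⟨m, hm⟩, he⟩
  choose r hr using hex
  refine ⟨MonoidHom.mk' r fun a b => Subtype.ext (afun_ext fun x hx => ?_), hr⟩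
  rw [hr _ x hx, Subgroup.coe_mul, afun_mul _ _ (h hx), Subgroup.coe_mul, afun_mul _ _ hx,
    hr b x hx, hr a _ ((hr b x hx) ▸ afun_mem _ hx)]

/-- The automizer of `T` is generated by `Aut_S(T)` and its elements of order prime to `p`, when
the generators have order prime to `p`. -/
theorem aut_le_of_coprime (hS : IsPGroup p S) (hgen : Generated F Γ)
    (hcop : ∀ (R : Subgroup Ω) (f : Ω → Ω) (α : MulAut R), Γ R f →
      (∀ x ∈ R, afun α x = f x) → (orderOf α).Coprime p)
    {T : Subgroup Ω} (hT : T ≤ S) (hgood : GoodAbove F p (Nat.card T))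
    (huniv : ∀ Q, F.IsConj T Q → To F Q T) (M : Subgroup (MulAut T))
    (hMS : autInducedBy S T ≤ M)
    (hMp : ∀ α ∈ F.autGroup T, (orderOf α).Coprime p → α ∈ M) : F.autGroup T ≤ M := by
  refine aut_le hS hgen hT huniv M hMS ?_ fun Q γ k hk hkT hγ hγQ hΓ m hm => ?_
  · refine ext_induction hS hT hgood huniv M fun R hR _ _ b hb hbT m hm => ?_
    have hRS := hR.leN.trans (inf_le_left : normalizerIn S T ≤ S)
    obtain ⟨r, hr⟩ := exists_res (F := F) hRS hR.le
    haveI := finite_stab F hR.le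
    obtain ⟨P0, hP0⟩ := hR.sylow hR.le
    have htop : (⊤ : Subgroup (stab F R T hR.le)) ≤ (M.subgroupOf (F.autGroup T)).comap r := by
      rw [← TransferPResidual.sylow_sup_pResidual P0]
      refine sup_le (fun k hk => ?_) (TransferPResidual.pResidual_le_iff_coprime.2 fun k hk => ?_)
      · rw [hP0, Subgroup.mem_subgroupOf] at hk
        obtain ⟨g, hg, -, he⟩ := mem_autInducedBy.1 hk
        refine hMS (mem_autInducedBy.2 ⟨g, hg.2.1, hg.2.2, fun x hx => ?_⟩)
        show afun (r k : MulAut T) x = _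
        rw [hr k x hx, he x (hR.le hx)]
      · refine hMp _ (r k).2 ?_
        show (orderOf (r k : MulAut T)).Coprime p
        rw [Subgroup.orderOf_coe]
        exact hk.coprime_dvd_left (orderOf_map_dvd r k)
    have e : m = (r ⟨b, hb, hbT⟩ : MulAut T) := afun_ext fun x hx => by rw [hm x hx, hr _ x hx]
    exact e ▸ htop (x := ⟨b, hb, hbT⟩) trivial
  · obtain ⟨α, hα, he⟩ := hγ.exists_aut hγQ
    have hk0 := hk.restrict_to (le_normalizerIn hγ.le)
    have e : m = hk0.transport hkT α := loop_unique hk0 hkT fun x hx => by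
      rw [hm x hx, hk0.afun_transport hkT α hx, he x hx]
    subst e
    refine hMp _ (hk0.transport_mem hkT hα) ?_
    rw [MulEquiv.orderOf_eq]
    exact hcop Q γ α hΓ he

/-- When no generator lives on the class and some element of `N_S(T) \ T` induces a member of a
normal `p`-subgroup of the automizer, a larger subgroup is local for `T` and all automorphisms of
`T` extend to it. -/
theorem local_of_normal (hS : IsPGroup p S) (hgen : Generated F Γ)
    {T : Subgroup Ω} (hT : T ≤ S) (hgood : GoodAbove F p (Nat.card T))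
    (huniv : ∀ Q, F.IsConj T Q → To F Q T)
    (hnoΓ : ∀ Q γ, F.IsConj T Q → ¬ Γ Q γ)
    {O : Subgroup (MulAut T)} (hOA : O ≤ F.autGroup T)
    (hOn : ∀ a ∈ F.autGroup T, ∀ o ∈ O, a * o * a⁻¹ ∈ O) (hOp : IsPGroup p O)
    {x : Ω} (hx : x ∈ normalizerIn S T) (hxT : x ∉ T) (hxO : nHom S T ⟨x, hx⟩ ∈ O) :
    ∃ Y : Subgroup Ω, Local F p T Y ∧ Nat.card T < Nat.card Y ∧
      (∀ (y : Ω) (hy : y ∈ normalizerIn S T), nHom S T ⟨y, hy⟩ ∈ O → y ∈ Y) ∧
      (∀ a ∈ F.autGroup T, ∃ b ∈ F.autGroup Y, ∀ z ∈ T, afun b z = afun a z) ∧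
      ∀ (N : Subgroup Ω) (e : Ω → Ω), Mor F N e → Y ≤ N → im T e = T → ∀ y ∈ Y, e y ∈ Y := by
  let X : Subgroup Ω := (O.comap (nHom S T)).map (normalizerIn S T).subtype
  have hXmem : ∀ {y : Ω}, y ∈ X ↔ ∃ hy : y ∈ normalizerIn S T, nHom S T ⟨y, hy⟩ ∈ O := by
    intro y
    constructor
    · rintro ⟨z, hz, rfl⟩; exact ⟨z.2, hz⟩
    · rintro ⟨hy, h⟩; exact ⟨⟨y, hy⟩, h, rfl⟩
  have hXN : X ≤ normalizerIn S T := Subgroup.map_subtype_le _
  set Y := T ⊔ X with hY
  have hYN : Y ≤ normalizerIn S T := sup_le (le_normalizerIn hT) hXN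
  have hYS : Y ≤ S := hYN.trans inf_le_left
  have hTY : Nat.card T < Nat.card Y := by
    haveI := finite_of_le hYS
    refine lt_of_le_of_ne (Subgroup.card_le_of_le le_sup_left) fun e => hxT ?_
    rw [eq_of_le_of_card_ge hYS le_sup_left e.ge]
    exact Subgroup.mem_sup_right (hXmem.2 ⟨hx, hxO⟩)
  -- maps stabilizing `T` stabilize `X`
  have hXmap : ∀ {N : Subgroup Ω} {e : Ω → Ω}, Mor F N e → T ≤ N → im T e = T →
      ∀ y ∈ X, y ∈ N → e y ∈ X := by
    intro N e he hTN heT y hy hyN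
    obtain ⟨hyn, hyO⟩ := hXmem.1 hy
    have hey : e y ∈ normalizerIn S T := ⟨he.apply_mem hyN, by
      have := FusionWeaklyNormal88.apply_normalizes he hTN hyN hyn.2
      rwa [heT] at this⟩
    obtain ⟨a, ha, hae⟩ := (he.restrict_to hTN).exists_aut heT
    have e1 : nHom S T ⟨e y, hey⟩ = a * nHom S T ⟨y, hyn⟩ * a⁻¹ := afun_ext fun z hz => by
      have hz' : afun a⁻¹ z ∈ T := afun_mem _ hz
      rw [afun_nHom _ hz, afun_mul _ _ hz, afun_mul _ _ hz', afun_nHom _ hz',
        hae _ (cj_mem_of_normalizer hyn.2 hz'), he.map_cj hyN (hTN hz'), ← hae _ hz',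
        afun_apply_inv _ hz]
    exact hXmem.2 ⟨hey, e1 ▸ hOn a ha _ hyO⟩
  have hYmap : ∀ {N : Subgroup Ω} {e : Ω → Ω}, Mor F N e → Y ≤ N → im T e = T →
      ∀ y ∈ Y, e y ∈ Y := fun {N e} he hYN' heT y hy =>
    mor_sup_induction (he.restrict_to hYN')
      (fun z hz => Subgroup.mem_sup_left (heT ▸ apply_mem_im hz))
      (fun z hz => Subgroup.mem_sup_right (hXmap he (le_sup_left.trans hYN') heT z hz
        (hYN' (Subgroup.mem_sup_right hz)))) hy
  have eT : ∀ {e : Ω → Ω} {a : MulAut T}, (∀ z ∈ T, e z = afun a z) → im T e = T :=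
    fun h => (im_congr h).trans (im_afun _)
  let M : Subgroup (MulAut T) :=
    { carrier := {a | ∃ e, Mor F Y e ∧ ∀ z ∈ T, e z = afun a z}
      one_mem' := ⟨_, mor_id hYS, fun z hz => (afun_one hz).symm⟩
      mul_mem' := by
        rintro a b ⟨e, he, hea⟩ ⟨e', he', heb⟩
        exact ⟨e ∘ e', he'.comp he (hYmap he' le_rfl (eT heb)), fun z hz => by
          rw [Function.comp_apply, heb z hz, hea _ (afun_mem _ hz), afun_mul _ _ hz]⟩
      inv_mem' := by
        rintro a ⟨e, he, hea⟩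
        obtain ⟨g, hg, hge, -, -⟩ := he.exists_inv
        rw [he.im_self (hYmap he le_rfl (eT hea))] at hg
        refine ⟨g, hg, fun z hz => ?_⟩
        conv_lhs => rw [← afun_apply_inv a hz, ← hea _ (afun_mem _ hz)]
        exact hge _ (Subgroup.mem_sup_left (afun_mem _ hz)) }
  have hMS : autInducedBy S T ≤ M := by
    intro a ha
    obtain ⟨g, hg, -, he⟩ := mem_autInducedBy.1 ha
    exact ⟨cj g, mor_cj hYS hg, fun z hz => (he z hz).symm⟩
  have hM : F.autGroup T ≤ M := by
    refine aut_le hS hgen hT huniv M hMS ?_ fun Q γ k hk hkT hγ _ hΓ => ?_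
    · refine ext_induction hS hT hgood huniv M fun R hR _ hIH b hb hbT m hm => ?_
      have hRS := hR.leN.trans (inf_le_left : normalizerIn S T ≤ S)
      by_cases hXR : X ≤ R
      · exact ⟨afun b, ((mem_autGroup hRS).1 hb).restrict_to (sup_le hR.le hXR),
          fun z hz => (hm z hz).symm⟩
      obtain ⟨r, hr⟩ := exists_res (F := F) hRS hR.le
      haveI := finite_stab F hR.le
      obtain ⟨P0, hP0⟩ := hR.sylow hR.le
      let O' : Subgroup (F.autGroup T) := O.subgroupOf (F.autGroup T)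
      haveI : O'.Normal := ⟨fun o ho a => hOn a.1 a.2 o.1 ho⟩
      let K : Subgroup (stab F R T hR.le) := O'.comap r
      let Q0 := SylowCount.infSylow P0 K
      have hQ : ((Q0 : Subgroup K)).map K.subtype = (P0 : Subgroup (stab F R T hR.le)) ⊓ K := by
        show (((P0 : Subgroup (stab F R T hR.le)) ⊓ K).subgroupOf K).map K.subtype = _
        rw [Subgroup.subgroupOf_map_subtype, inf_eq_left]
        exact inf_le_right
      have htop := Sylow.normalizer_sup_eq_top (N := K) Q0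
      rw [hQ] at htop
      obtain ⟨b', hb', k, hk, hbk⟩ := Subgroup.mem_sup_of_normal_right.1
        (htop.ge (Subgroup.mem_top (⟨b, hb, hbT⟩ : stab F R T hR.le)))
      -- the part `k` induces a conjugation
      have hkM : (r k : MulAut T) ∈ M := by
        have htopK : (⊤ : Subgroup K) ≤
            (M.subgroupOf (F.autGroup T)).comap (r.comp K.subtype) := by
          rw [← TransferPResidual.sylow_sup_pResidual Q0]
          refine sup_le (fun a ha => ?_) (TransferPResidual.pResidual_le_iff_coprime.2 fun a ha => ?_)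
          · have ha' : (a : stab F R T hR.le) ∈ (P0 : Subgroup (stab F R T hR.le)) ⊓ K :=
              hQ.le ⟨a, ha, rfl⟩
            have hP : (a : stab F R T hR.le) ∈ (P0 : Subgroup (stab F R T hR.le)) := ha'.1
            rw [hP0, Subgroup.mem_subgroupOf] at hP
            obtain ⟨g, hg, -, he⟩ := mem_autInducedBy.1 hP
            exact hMS (mem_autInducedBy.2 ⟨g, hg.2.1, hg.2.2, fun z hz => by
              show afun (r (a : stab F R T hR.le) : MulAut T) z = _
              rw [hr _ z hz, he z (hR.le hz)]⟩)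
          · have h1 : (r (a : stab F R T hR.le) : MulAut T) = 1 :=
              eq_one_of_coprime hOp (a.2) ((by
                rw [Subgroup.orderOf_coe]
                exact ha.coprime_dvd_left (orderOf_map_dvd (r.comp K.subtype) a)))
            show (r (a : stab F R T hR.le) : MulAut T) ∈ M
            rw [h1]; exact M.one_mem
        exact htopK (x := ⟨k, hk⟩) trivial
      -- the part `b'` extends
      set U := (normalizerIn S R ⊓ normalizerIn S T) ⊓ X with hU
      have hb'M : (r b' : MulAut T) ∈ M := by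
        obtain ⟨e, he, hee⟩ := hR.ext b' b'.2.1 b'.2.2 U inf_le_left fun u hu => by
          have hcu : nHom S R ⟨u, hu.1.1⟩ ∈ autInducedBy (normalizerIn S R ⊓ normalizerIn S T) R :=
            mem_autInducedBy.2 ⟨u, hu.1, hu.1.1.2, fun z hz => afun_nHom _ hz⟩
          let cu : stab F R T hR.le := ⟨_, autInducedBy_le_stab hRS hR.le inf_le_right hcu⟩
          have hcuK : cu ∈ (P0 : Subgroup (stab F R T hR.le)) ⊓ K := by
            refine ⟨?_, ?_⟩
            · show cu ∈ (P0 : Subgroup (stab F R T hR.le))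
              rw [hP0, Subgroup.mem_subgroupOf]; exact hcu
            · obtain ⟨hun, huO⟩ := hXmem.1 hu.2
              have e1 : (r cu : MulAut T) = nHom S T ⟨u, hun⟩ := afun_ext fun z hz => by
                rw [hr cu z hz, afun_nHom _ hz]; exact afun_nHom _ (hR.le hz)
              show (r cu : MulAut T) ∈ O
              rw [e1]; exact huO
          have h2 := ((Subgroup.mem_normalizer_iff.1 hb' _).1 hcuK).1
          change _ ∈ (P0 : Subgroup (stab F R T hR.le)) at h2
          rw [hP0, Subgroup.mem_subgroupOf] at h2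
          obtain ⟨v, hv, -, hve⟩ := mem_autInducedBy.1 h2
          refine ⟨v, hv.1.1, fun z hz => ?_⟩
          rw [← hve _ (afun_mem _ hz), ← afun_nHom (⟨u, hu.1.1⟩ : ↥(S ⊓ _)) hz]
          simp only [Subgroup.coe_mul, Subgroup.coe_inv, cu]
          rw [afun_mul _ _ (afun_mem _ hz), afun_mul _ _ (afun_mem _ (afun_mem _ hz)),
            afun_inv_apply _ hz]
        have hle : R ⊔ U ≤ normalizerIn S T := sup_le hR.leN (inf_le_left.trans inf_le_right)
        have hlt' : Nat.card R < Nat.card ↥(R ⊔ U : Subgroup Ω) := by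
          haveI := finite_of_le (S := S) (hle.trans inf_le_left)
          refine lt_of_le_of_ne (Subgroup.card_le_of_le le_sup_left) fun ec => ?_
          have hUR : R ⊔ U = R := (eq_of_le_of_card_ge (hle.trans inf_le_left) le_sup_left ec.ge).symm
          have hnX : R ≤ Subgroup.normalizer (X : Set Ω) := fun z hz =>
            mem_normalizer_of_cj_le (hXN.trans inf_le_left) fun y hy =>
              hXmap (mor_cj (F := F) hYS (hRS hz)) le_sup_left
                (mem_normalizer_iff_im_cj.1 (hR.leN hz).2) y hy (Subgroup.mem_sup_right hy)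
          have hRX : R ⊔ X ≤ S := sup_le hRS (hXN.trans inf_le_left)
          have hlt2 : R < R ⊔ X := lt_of_le_of_ne le_sup_left fun e =>
            hXR (le_sup_right.trans e.ge)
          haveI := finite_of_le (S := S) hRS
          have hn := FusionFrattini88.card_lt_normalizerIn hS hRX hlt2
          refine hn.not_ge (Subgroup.card_le_of_le ?_)
          rintro y ⟨hy, hyn⟩
          have hy' : y ∈ (↑(R ⊔ X) : Set Ω) := hy
          rw [Subgroup.coe_mul_of_left_le_normalizer_right R X hnX] at hy'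
          obtain ⟨z, hz, w, hw, rfl⟩ := hy'
          have hwn : w ∈ Subgroup.normalizer (R : Set Ω) := by
            have := mul_mem (inv_mem (Subgroup.le_normalizer hz)) hyn
            rwa [inv_mul_cancel_left] at this
          exact R.mul_mem hz (hUR.le (Subgroup.mem_sup_right
            (show w ∈ U from ⟨⟨⟨(hXN hw).1, hwn⟩, hXN hw⟩, hw⟩)))
        refine hIH (R ⊔ U) e he (hR.le.trans le_sup_left) hle hlt' ?_ _ fun z hz => ?_
        · rw [im_congr fun z hz => hee z (hR.le hz)]; exact b'.2.2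
        · rw [hr b' z hz, hee z (hR.le hz)]
      have e : m = (r b' : MulAut T) * (r k : MulAut T) := by
        rw [← Subgroup.coe_mul, ← map_mul, hbk]
        exact afun_ext fun z hz => by rw [hm z hz, hr _ z hz]
      exact e ▸ M.mul_mem hb'M hkM
    · exact absurd hΓ (hnoΓ Q γ (isConj_symm (isConj_iff.2
        ⟨k, hk.restrict_to (le_normalizerIn hγ.le), hkT⟩)))
  -- `Y` is local
  obtain ⟨R0, hR0, hR0g⟩ := hgood Y hYS hTY
  obtain ⟨q0, hq0, hn0, hTq0, hsyl, ⟨k1, hk1, hk1Y, hk1T, hk1W⟩, -⟩ :=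
    exists_moves hS (mor_id (F := F) hYS) le_sup_left hYN hR0 hR0g
  obtain ⟨-, h, hh, hhT⟩ := huniv q0 hTq0
  have hhW : Mor F (normalizerIn S R0 ⊓ normalizerIn S q0) h := hh.restrict_to inf_le_right
  have hYW : Y ≤ normalizerIn S Y ⊓ normalizerIn S T := le_inf (le_normalizerIn hYS) hYN
  have hcomp : Mor F Y (h ∘ k1) := (hk1.comp hhW hk1W).restrict_to hYW
  have hcT : im T (h ∘ k1) = T := by
    rw [← (hk1.restrict_to (le_sup_left.trans hYW)).im_comp, hk1T, hhT]
  have hYeq : im R0 h = Y := by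
    rw [← hk1Y, (hk1.restrict_to hYW).im_comp]
    exact hcomp.im_self (hYmap hcomp le_rfl hcT)
  have hloc := local_of_point hS hR0g hq0 hn0 hsyl hhW hYeq hhT
  refine ⟨Y, hloc, hTY, fun y hy hyO => Subgroup.mem_sup_right (hXmem.2 ⟨hy, hyO⟩),
    fun a ha => ?_, fun N e => @hYmap N e⟩
  obtain ⟨e, he, hea⟩ := hM ha
  obtain ⟨b, hb, hbe⟩ := he.exists_aut (he.im_self (hYmap he le_rfl (eT hea)))
  exact ⟨b, hb, fun z hz => (hbe z (Subgroup.mem_sup_left hz)).trans (hea z hz)⟩

/-- Full automization under the hypotheses of `local_of_normal`. -/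
theorem automized_of_normal (hS : IsPGroup p S) (hgen : Generated F Γ)
    {T : Subgroup Ω} (hT : T ≤ S) (hgood : GoodAbove F p (Nat.card T))
    (huniv : ∀ Q, F.IsConj T Q → To F Q T)
    (hnoΓ : ∀ Q γ, F.IsConj T Q → ¬ Γ Q γ)
    {O : Subgroup (MulAut T)} (hOA : O ≤ F.autGroup T)
    (hOn : ∀ a ∈ F.autGroup T, ∀ o ∈ O, a * o * a⁻¹ ∈ O) (hOp : IsPGroup p O)
    {x : Ω} (hx : x ∈ normalizerIn S T) (hxT : x ∉ T) (hxO : nHom S T ⟨x, hx⟩ ∈ O) :
    F.IsFullyAutomized p T := by
  obtain ⟨Y, hloc, -, -, hext, hYmap⟩ :=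
    local_of_normal hS hgen hT hgood huniv hnoΓ hOA hOn hOp hx hxT hxO
  have hYS : Y ≤ S := hloc.leN.trans inf_le_left
  obtain ⟨r, hr⟩ := exists_res (F := F) hYS hloc.le
  haveI := finite_stab F hloc.le
  haveI := finite_autGroup (F := F) T
  obtain ⟨P0, hP0⟩ := hloc.sylow hloc.le
  have hrs : Function.Surjective r := by
    intro a
    obtain ⟨b, hb, hbe⟩ := hext a a.2
    refine ⟨⟨b, hb, (im_congr hbe).trans (im_afun _)⟩, Subtype.ext (afun_ext fun z hz => ?_)⟩
    rw [hr _ z hz]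
    exact hbe z hz
  refine ⟨hT, P0.mapSurjective hrs, ?_⟩
  ext a
  show a ∈ (P0 : Subgroup (stab F Y T hloc.le)).map r ↔ _
  rw [Subgroup.mem_subgroupOf]
  constructor
  · rintro ⟨k, hk, rfl⟩
    rw [SetLike.mem_coe, hP0, Subgroup.mem_subgroupOf] at hk
    obtain ⟨g, hg, -, he⟩ := mem_autInducedBy.1 hk
    exact mem_autInducedBy.2 ⟨g, hg.2.1, hg.2.2, fun z hz => by
      rw [hr k z hz, he z (hloc.le hz)]⟩
  · intro ha
    obtain ⟨g, hg, hgn, he⟩ := mem_autInducedBy.1 ha
    have hgY : g ∈ normalizerIn S Y :=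
      ⟨hg, mem_normalizer_of_cj_le hYS fun y hy =>
        hYmap Y _ (mor_cj (F := F) hYS hg) le_rfl (mem_normalizer_iff_im_cj.1 hgn) y hy⟩
    have hcg : nHom S Y ⟨g, hgY⟩ ∈ autInducedBy (normalizerIn S Y ⊓ normalizerIn S T) Y :=
      mem_autInducedBy.2 ⟨g, ⟨hgY, hg, hgn⟩, hgY.2, fun z hz => afun_nHom _ hz⟩
    refine ⟨⟨_, autInducedBy_le_stab hYS hloc.le inf_le_right hcg⟩, ?_,
      Subtype.ext (afun_ext fun z hz => ?_)⟩
    · rw [SetLike.mem_coe, hP0, Subgroup.mem_subgroupOf]; exact hcg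
    · rw [hr _ z hz, he z hz]; exact afun_nHom _ (hloc.le hz)

/-- Saturation class by class. -/
theorem saturated_of_classes (h : ∀ P : Subgroup Ω, P ≤ S → GoodAbove F p (Nat.card P) →
    ∃ T, F.IsConj P T ∧ Good F p T) : F.IsSaturated p := by
  suffices ∀ d, ∀ P : Subgroup Ω, P ≤ S → Nat.card S ≤ Nat.card P + d →
      ∃ T, F.IsConj P T ∧ Good F p T from fun P hP => by
    obtain ⟨T, hT, ha, hr⟩ := this (Nat.card S) P hP (Nat.le_add_left _ _)
    exact ⟨T, hT, ha, hr⟩
  intro d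
  induction d using Nat.strong_induction_on with
  | _ d ih =>
    intro P hP hd
    refine h P hP fun R hR hlt => ih (d - 1) ?_ R hR (by omega)
    have : Nat.card R ≤ Nat.card S := Subgroup.card_le_of_le hR
    omega

end Cfsg.Agent.FusionGenerated
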