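import Cfsg.Agent.Lib.FusionCentralLiftBase
import Cfsg.Agent.Lib.FusionGenerated
import Cfsg.Agent.Lib.FusionNormalLifts
import Cfsg.Agent.Lib.FusionResidualNormal88
import Cfsg.Agent.Lib.TransferPResidual

/-!
The lifted system of `FusionCentralLiftBase` is saturated (`saturated_lift`).
-/

set_option autoImplicit false

namespace Cfsg.Agent.FusionCentralLift

open Cfsg Cfsg.FusionSystem Cfsg.Agent.FusionSysBasic Cfsg.Agent.FusionSysSaturated
open Cfsg.Agent.FusionSysNormal Cfsg.Agent.FusionMorph88 Cfsg.Agent.FusionKit88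
open Cfsg.Agent.FusionTops Cfsg.Agent.FusionGenerated

/-- A normal `p`-subgroup of the automizer of a fully automized subgroup is induced by `S`. -/
theorem le_autInducedBy_of_normal {Ω : Type*} [Group Ω] {S : Subgroup Ω} [Finite S]
    {F : FusionSystem S} {p : ℕ} [Fact p.Prime] {P : Subgroup Ω} (hP : F.IsFullyAutomized p P)
    {O : Subgroup (MulAut P)} (hOA : O ≤ F.autGroup P) (hOp : IsPGroup p O)
    (hOn : ∀ a ∈ F.autGroup P, ∀ o ∈ O, a * o * a⁻¹ ∈ O) : O ≤ autInducedBy S P := by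
  haveI := finite_autGroup (F := F) P
  obtain ⟨a, ha, haO⟩ := sylIn_absorb hP.2 hOp hOA
  intro o ho
  have h1 := haO _ (hOn a⁻¹ (inv_mem ha) o ho)
  rwa [show a * (a⁻¹ * o * a⁻¹⁻¹) * a⁻¹ = o by group] at h1

/-- The intersection with a normalized subgroup of a Sylow subgroup is Sylow. -/
theorem sylIn_inf {G : Type*} [Group G] {p : ℕ} [Fact p.Prime] {R A B : Subgroup G} [Finite A]
    (hR : SylIn p R A) (hRp : IsPGroup p R) (hBA : B ≤ A)
    (hn : ∀ a ∈ A, ∀ b ∈ B, a * b * a⁻¹ ∈ B) : SylIn p (R ⊓ B) B := by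
  haveI : Finite B := Finite.of_injective _ (Subgroup.inclusion_injective hBA)
  refine (sylIn_iff_card inf_le_right).2 (le_antisymm
    (FusionSysNormalizer.sylIn_le_pow (hRp.to_le inf_le_left) inf_le_right) ?_)
  obtain ⟨U⟩ : Nonempty (Sylow p B) := inferInstance
  set U' := (U : Subgroup B).map B.subtype
  have hcU : Nat.card U' = p ^ (Nat.card B).factorization p :=
    (Nat.card_congr ((U : Subgroup B).equivMapOfInjective _ B.subtype_injective).toEquiv).symm.trans
      U.card_eq_multiplicity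
  obtain ⟨a, ha, haU⟩ := sylIn_absorb hR (U.2.map B.subtype)
    ((Subgroup.map_subtype_le _).trans hBA)
  rw [← hcU, Nat.card_congr (U'.equivMapOfInjective (MulAut.conj a).toMonoidHom (MulAut.conj a).injective).toEquiv]
  haveI : Finite ↥(R ⊓ B : Subgroup G) :=
    Finite.of_injective _ (Subgroup.inclusion_injective (inf_le_right : R ⊓ B ≤ B))
  refine Subgroup.card_le_of_le ?_
  rintro _ ⟨u, hu, rfl⟩
  exact ⟨haU u hu, hn a ha u (Subgroup.map_subtype_le _ hu)⟩

variable {Ω Ω' : Type*} [Group Ω] [Group Ω'] {S Z : Subgroup Ω} {S' T' : Subgroup Ω'}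
  {F : FusionSystem S} {θ : S →* Ω'} {F' : FusionSystem S'} {N : FusionSystem T'} {p : ℕ}

/-- The automorphisms in `F` of `P` trivial modulo `Z`. -/
def kerAut (F : FusionSystem S) (Z P : Subgroup Ω) : Subgroup (MulAut P) where
  carrier := {a | a ∈ F.autGroup P ∧ ∀ x ∈ P, x⁻¹ * afun a x ∈ Z}
  one_mem' := ⟨one_mem _, fun x hx => by rw [afun_one hx, inv_mul_cancel]; exact Z.one_mem⟩
  mul_mem' := fun {a b} ⟨ha, ha'⟩ ⟨hb, hb'⟩ => ⟨mul_mem ha hb, fun x hx => by
    rw [afun_mul _ _ hx]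
    have := Z.mul_mem (hb' x hx) (ha' _ (afun_mem b hx))
    simpa [mul_assoc] using this⟩
  inv_mem' := fun {a} ⟨ha, ha'⟩ => ⟨inv_mem ha, fun x hx => by
    have := Z.inv_mem (ha' _ (afun_mem a⁻¹ hx))
    rw [afun_apply_inv a hx] at this
    simpa using this⟩

local notation "T₁" => preimageAlong θ T'
local notation "L" => liftSys F Z θ N p

namespace Setup

variable (h : Setup F Z θ F' N p)
include h

/-- The elements acting on `P` and inducing `1` on its image are those centralizing it modulo `Z`. -/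
theorem mem_kerAut {P : Subgroup Ω} (hP : P ≤ S) {a : MulAut P} :
    a ∈ kerAut F Z P ↔ a ∈ F.autGroup P ∧ ∀ x ∈ P, app θ (afun a x) = app θ x := by
  refine ⟨fun ⟨ha, hz⟩ => ⟨ha, fun x hx => (h.app_eq_of_div (hP hx) (hz x hx)).symm⟩,
    fun ⟨ha, he⟩ => ⟨ha, fun x hx => h.div_mem (hP hx) (hP (afun_mem a hx)) (he x hx).symm⟩⟩

theorem kerAut_normal {P : Subgroup Ω} (hP : P ≤ S) {a : MulAut P} (ha : a ∈ F.autGroup P)
    {k : MulAut P} (hk : k ∈ kerAut F Z P) : a * k * a⁻¹ ∈ kerAut F Z P := by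
  refine ⟨mul_mem (mul_mem ha hk.1) (inv_mem ha), fun x hx => ?_⟩
  have hy := afun_mem a⁻¹ hx
  have hz := hk.2 _ hy
  have hzP : (afun a⁻¹ x)⁻¹ * afun k (afun a⁻¹ x) ∈ P := P.mul_mem (P.inv_mem hy) (afun_mem k hy)
  have h1 := h.fix ((mem_autGroup hP).1 ha) hz hzP
  rw [afun_map_mul _ (P.inv_mem hy) (afun_mem k hy), ((mem_autGroup hP).1 ha).map_inv hy,
    afun_apply_inv a hx] at h1
  rw [afun_mul _ _ hx, afun_mul _ _ hy, h1]
  exact hz

theorem kerAut_comm {P : Subgroup Ω} (hP : P ≤ S) {a b : MulAut P} (ha : a ∈ kerAut F Z P)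
    (hb : b ∈ kerAut F Z P) : a * b = b * a := by
  refine afun_ext fun x hx => ?_
  have key : ∀ {u v : MulAut P}, u ∈ kerAut F Z P → v ∈ kerAut F Z P →
      afun (u * v) x = x * ((x⁻¹ * afun u x) * (x⁻¹ * afun v x)) := by
    intro u v hu hv
    have hd : x⁻¹ * afun v x ∈ P := P.mul_mem (P.inv_mem hx) (afun_mem v hx)
    rw [afun_mul _ _ hx]
    conv_lhs => rw [show afun v x = x * (x⁻¹ * afun v x) by rw [mul_inv_cancel_left]]
    rw [afun_map_mul _ hx hd, h.fix ((mem_autGroup hP).1 hu.1) (hv.2 x hx) hd, ← mul_assoc x, mul_inv_cancel_left]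
  rw [key ha hb, key hb ha]
  refine congrArg (x * ·) ?_
  have hS' : x⁻¹ * afun b x ∈ S := S.mul_mem (S.inv_mem (hP hx)) (hP (afun_mem b hx))
  have := h.cj_fix hS' (ha.2 x hx)
  rw [cj_apply, mul_inv_eq_iff_eq_mul] at this
  exact this.symm

variable [Finite S] [Fact p.Prime]

theorem kerAut_pGroup {P : Subgroup Ω} (hP : P ≤ S) : IsPGroup p (kerAut F Z P) := fun a => by
  haveI := finite_of_le hP
  obtain ⟨j, hj⟩ := pow_eq_one_of_stabilizes (h.pgrp.to_le hP) (n := 2)
    (fun i => if i = 0 then ⊥ else if i = 1 then P ⊓ Z else P) rfl rfl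
    (fun i => by split_ifs <;> simp) (fun i hi => by interval_cases i <;> simp)
    (α := (a : MulAut P)) (fun i hi y hy => by
      interval_cases i
      · simp only [zero_add, if_neg one_ne_zero, if_pos rfl] at hy
        simp [h.fix ((mem_autGroup hP).1 a.2.1) hy.2 hy.1]
      · simp only [if_neg one_ne_zero, if_pos rfl]
        simp only [show (1 + 1 = 0) = False by simp, show (1 + 1 = 1) = False by simp,
          if_false] at hy
        exact ⟨P.mul_mem (P.inv_mem hy) (afun_mem _ hy), a.2.2 y hy⟩)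
  exact ⟨j, Subtype.ext (by simpa using hj)⟩

/-- A normalizer of a full preimage. -/
theorem normalizer_pre {U' Q' : Subgroup Ω'} (hU : U' ≤ S') (hQ : Q' ≤ S') :
    normalizerIn (preimageAlong θ U') (preimageAlong θ Q') =
      preimageAlong θ (normalizerIn U' Q') := by
  haveI := h.finite_S'
  ext g
  constructor
  · rintro ⟨hg, hgn⟩
    obtain ⟨hgS, hgU⟩ := mem_preimageAlong.1 hg
    refine mem_preimageAlong.2 ⟨hgS, hgU, mem_normalizer_of_cj_le hQ fun y hy => ?_⟩
    obtain ⟨x, hx, hxS, rfl⟩ := mem_imageAlong.1 ((h.image_pre hQ).ge hy)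
    rw [← app_cj hgS hxS]
    exact (mem_preimageAlong.1 (cj_mem_of_normalizer hgn hx)).2
  · intro hg
    obtain ⟨hgS, hgU, hgn⟩ := mem_preimageAlong.1 hg
    refine ⟨mem_preimageAlong.2 ⟨hgS, hgU⟩,
      mem_normalizer_of_cj_le (preimageAlong_le θ Q') fun x hx => ?_⟩
    obtain ⟨hxS, hxQ⟩ := mem_preimageAlong.1 hx
    refine mem_preimageAlong.2 ⟨cj_mem_S hgS hxS, ?_⟩
    rw [app_cj hgS hxS]
    exact cj_mem_of_normalizer hgn hxQ

omit [Finite S] [Fact p.Prime] in
theorem pre_S' : preimageAlong θ S' = S :=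
  le_antisymm (preimageAlong_le θ S') fun _ hx => mem_preimageAlong.2 ⟨hx, h.app_mem hx⟩

omit [Finite S] [Fact p.Prime] in
theorem card_pre {A : Subgroup Ω'} (hA : A ≤ S') :
    Nat.card (preimageAlong θ A) = Nat.card θ.ker * Nat.card A := by
  have e : Nat.card (preimageAlong θ A) = Nat.card (A.comap θ) :=
    (Nat.card_congr ((A.comap θ).equivMapOfInjective S.subtype S.subtype_injective).toEquiv).symm
  rw [e]
  set f : ↥(A.comap θ) →* Ω' := θ.comp (A.comap θ).subtype
  have hr : f.range = A := by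
    rw [MonoidHom.range_comp, Subgroup.range_subtype,
      Subgroup.map_comap_eq_self (h.range_le hA)]
  have hk : Nat.card f.ker = Nat.card θ.ker := by
    refine Nat.card_congr
      { toFun := fun x => ⟨(x.1 : S), x.2⟩
        invFun := fun x => ⟨⟨x.1, show θ x.1 ∈ A from (x.2 : θ x.1 = 1) ▸ A.one_mem⟩, x.2⟩
        left_inv := fun _ => rfl
        right_inv := fun _ => rfl }
  rw [← Subgroup.card_mul_index f.ker, Subgroup.index_ker, hr, hk]

theorem card_pre_le_iff {A B : Subgroup Ω'} (hA : A ≤ S') (hB : B ≤ S') :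
    Nat.card (preimageAlong θ A) ≤ Nat.card (preimageAlong θ B) ↔ Nat.card A ≤ Nat.card B := by
  haveI : Finite θ.ker := inferInstance
  rw [h.card_pre hA, h.card_pre hB]
  exact ⟨fun e => Nat.le_of_mul_le_mul_left e Nat.card_pos, fun e => Nat.mul_le_mul_left _ e⟩

/-- The image of a fully normalized subgroup containing `Z` is fully normalized. -/
theorem fullyN' {P : Subgroup Ω} (hP : F.IsFullyNormalized P) (hZ : Z ≤ P) :
    F'.IsFullyNormalized (imageAlong θ P) := by
  refine ⟨h.image_le, fun Q' hQ' => ?_⟩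
  obtain ⟨g, hg, rfl⟩ := FusionSysBasic.isConj_iff.1 hQ'
  obtain ⟨f, hf, he⟩ := h.pull hg
  have him := h.im_pull h.image_le hf he
  rw [h.pre_image hP.1 hZ] at hf him
  have h1 := hP.2 _ (FusionSysBasic.isConj_iff.2 ⟨f, hf, rfl⟩)
  rw [him] at h1
  conv_rhs at h1 => rw [← h.pre_image hP.1 hZ]
  have e : ∀ Q' ≤ S', normalizerIn S (preimageAlong θ Q') =
      preimageAlong θ (normalizerIn S' Q') := fun Q' hQ' => by
    have := h.normalizer_pre le_rfl hQ'
    rwa [h.pre_S'] at this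
  rw [e _ hg.im_le, e _ h.image_le, h.card_pre_le_iff (A := normalizerIn S' _)
    (B := normalizerIn S' _) inf_le_left inf_le_left] at h1
  exact h1

omit [Finite S] [Fact p.Prime] in
theorem generated_lift : Generated L (Gam F Z θ N p) := by
  intro Φ hc hg P f hf
  have hcl : FusionInduct88.Closed F (U := T₁) (fun P f => Mor L P f ∧ Φ P f) :=
    { congr := fun ⟨h1, h2⟩ he => ⟨h1.congr he, hc.congr h2 he⟩
      conj := fun hP hg => ⟨mor_cj hP hg, hc.conj hP hg⟩
      comp := fun _ _ hP hQ hfQ ⟨h1, h2⟩ ⟨h3, h4⟩ =>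
        ⟨h1.comp h3 hfQ, hc.comp h1 h3 hP hQ hfQ h2 h4⟩
      inv := fun {P f g} _ _ hP hgf ⟨h1, h2⟩ => by
        obtain ⟨i, hi, hif, -, -⟩ := h1.exists_inv
        have hg : Mor L (im P f) g := hi.congr fun y hy => by
          obtain ⟨x, hx, rfl⟩ := h1.mem_im.1 hy
          rw [hif x hx, hgf x hx]
        exact ⟨hg, hc.inv h1 hg hP hgf h2⟩ }
  exact (lift_induction hcl
    (fun R g hG => ⟨gam_mor hG, hg R g (gam_mor hG) hG.2.2.2.1 hG⟩) hf).2

/-- The image of a universal subgroup containing `Z` is fully normalized in `N`. -/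
theorem fullyN_of_univ {W : Subgroup Ω} (hW : W ≤ T₁) (hZ : Z ≤ W)
    (huniv : ∀ Q, (L).IsConj W Q → To L Q W) : N.IsFullyNormalized (imageAlong θ W) := by
  refine ⟨h.image_le_T hW, fun Q' hQ' => ?_⟩
  have hWS := hW.trans h.T1_le
  obtain ⟨g, hg, rfl⟩ := FusionSysBasic.isConj_iff.1 hQ'
  obtain ⟨l, hl, he⟩ := h.exists_lift hg
  have him := h.im_pull h.image_le (sub_mor liftSys_sub hl) he
  rw [h.pre_image hWS hZ] at hl him
  haveI := finite_of_le (S := S) h.T1_le
  have h1 := (huniv _ (FusionSysBasic.isConj_iff.2 ⟨l, hl, rfl⟩)).card_le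
  rw [him] at h1
  conv_rhs at h1 => rw [← h.pre_image hWS hZ]
  haveI := h.finite_S'
  rw [h.normalizer_pre h.T'_le (hg.im_le.trans h.T'_le), h.normalizer_pre h.T'_le h.image_le,
    h.card_pre_le_iff (A := normalizerIn T' _) (B := normalizerIn T' _) (inf_le_left.trans h.T'_le)
      (inf_le_left.trans h.T'_le)] at h1
  exact h1

/-- Maps of the lifted system extend to `Z`. -/
theorem ext_Z {P : Subgroup Ω} {f : Ω → Ω} (hf : Mor L P f) :
    ∃ ψ, Mor L (P ⊔ Z) ψ ∧ ∀ x ∈ P, ψ x = f x := by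
  have hsub : ∀ {Q : Subgroup Ω} {u : Ω → Ω}, Mor L Q u → Mor F Q u :=
    fun hu => sub_mor liftSys_sub hu
  refine lift_induction (F := F) (Φ := fun P f => ∃ ψ, Mor L (P ⊔ Z) ψ ∧ ∀ x ∈ P, ψ x = f x)
    { congr := fun ⟨ψ, hψ, he⟩ hfg => ⟨ψ, hψ, fun x hx => (he x hx).trans (hfg x hx)⟩
      conj := fun hP hg => ⟨_, mor_cj (sup_le hP (h.Z_le_pre T')) hg, fun _ _ => rfl⟩
      comp := fun {P Q f f'} _ _ _ _ hfQ ⟨ψ, hψ, he⟩ ⟨χ, hχ, he'⟩ =>
        ⟨χ ∘ ψ, hψ.comp hχ fun y hy => mor_sup_induction hψ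
          (fun x hx => he x hx ▸ Subgroup.mem_sup_left (hfQ x hx))
          (fun z hz => by
            rw [h.fix (hsub hψ) hz (Subgroup.mem_sup_right hz)]
            exact Subgroup.mem_sup_right hz) hy,
          fun x hx => by simp only [Function.comp_apply]; rw [he x hx, he' _ (hfQ x hx)]⟩
      inv := fun {P f g} hf _ _ hgf ⟨ψ, hψ, he⟩ => by
        obtain ⟨χ, hχ, hχψ, -, -⟩ := hψ.exists_inv
        refine ⟨χ, hχ.restrict_to (sup_le ((im_congr he).ge.trans (im_mono le_sup_left))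
          ((h.le_im (hsub hψ) le_sup_right))), fun y hy => ?_⟩
        obtain ⟨x, hx, rfl⟩ := hf.mem_im.1 hy
        rw [hgf x hx, ← he x hx, hχψ x (Subgroup.mem_sup_left hx)] }
    (fun R g hG => ⟨g, by rw [sup_eq_left.2 hG.2.1]; exact gam_mor hG, fun _ _ => rfl⟩) hf

/-- Automorphisms of a fully automized universal subgroup extend. -/
theorem extends_aut {W : Subgroup Ω} (hW : W ≤ T₁) (hgood : GoodAbove L p (Nat.card W))
    (huniv : ∀ Q, (L).IsConj W Q → To L Q W) (ha : (L).IsFullyAutomized p W) {β : MulAut W}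
    (hβ : β ∈ (L).autGroup W) {M : Subgroup Ω} (hM : M ≤ normalizerIn T₁ W)
    (hc : ∀ g ∈ M, ∃ k ∈ T₁, ∀ x ∈ W, afun β (cj g x) = cj k (afun β x)) :
    ∃ e, Mor L (W ⊔ M) e ∧ ∀ x ∈ W, e x = afun β x := by
  have hWS := hW.trans h.T1_le
  haveI := finite_of_le (S := S) h.T1_le
  have hβm := (mem_autGroup hW).1 hβ
  by_cases hZ : Z ≤ W
  · haveI := h.finite_S'
    haveI := finite_of_le h.T'_le
    obtain ⟨g, hg, hge⟩ := h.ind_of_lift hβm
    have him : im (imageAlong θ W) g = imageAlong θ W := by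
      rw [h.image_im (sub_mor liftSys_sub hβm) hge, im_afun]
    have hMS : M ≤ S := hM.trans (inf_le_left.trans h.T1_le)
    have hn := fun (s : Ω) (hs : s ∈ M) => (hM hs).2
    have hnn : imageAlong θ M ≤ Subgroup.normalizer ((imageAlong θ W : Subgroup Ω') : Set Ω') := by
      intro y hy
      obtain ⟨s, hs, hsS, rfl⟩ := mem_imageAlong.1 hy
      refine mem_normalizer_of_cj_le h.image_le fun z hz => ?_
      obtain ⟨x, hx, hxS, rfl⟩ := mem_imageAlong.1 hz
      rw [← app_cj hsS hxS]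
      exact app_mem_imageAlong (cj_mem_of_normalizer (hn s hs) hx) hWS
    have hcc : ∀ y ∈ imageAlong θ M, ∃ k ∈ T', ∀ z ∈ imageAlong θ W,
        g (cj y z) = cj k (g z) := by
      intro y hy
      obtain ⟨s, hs, hsS, rfl⟩ := mem_imageAlong.1 hy
      obtain ⟨k, hk, hke⟩ := hc s hs
      refine ⟨app θ k, (mem_preimageAlong.1 hk).2, fun z hz => ?_⟩
      obtain ⟨x, hx, hxS, rfl⟩ := mem_imageAlong.1 hz
      rw [← app_cj hsS hxS, hge _ (cj_mem_of_normalizer (hn s hs) hx), hke x hx,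
        app_cj (h.T1_le hk) (hWS (afun_mem β hx)), hge x hx]
    obtain ⟨n, hn', hne⟩ := (receptive_iff.1 (receptive_of_fullyNormalized
        (h.pgrp'.to_le h.T'_le) h.satN (h.fullyN_of_univ hW hZ huniv))).2 _ g (imageAlong θ M)
      hg him (h.image_le_T (hM.trans inf_le_left)) hnn hcc
    obtain ⟨l, hl, hle⟩ := h.exists_lift hn'
    have hWM : W ⊔ M ≤ preimageAlong θ (imageAlong θ W ⊔ imageAlong θ M) :=
      sup_le (fun x hx => mem_preimageAlong.2 ⟨hWS hx,
          Subgroup.mem_sup_left (app_mem_imageAlong hx hWS)⟩)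
        (fun x hx => mem_preimageAlong.2 ⟨hMS hx,
          Subgroup.mem_sup_right (app_mem_imageAlong hx hMS)⟩)
    have hlW := hl.restrict_to (le_sup_left.trans hWM)
    have hlθ : ∀ x ∈ W, app θ (l x) = app θ (afun β x) := fun x hx => by
      rw [← hle x (hWM (Subgroup.mem_sup_left hx)), hne _ (app_mem_imageAlong hx hWS), hge x hx]
    have hlWim : im W l = W := by
      have h1 := h.image_im (P := W) (sub_mor liftSys_sub hlW) (g := n) fun x hx =>
        hle x (hWM (Subgroup.mem_sup_left hx))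
      rw [im_congr fun y hy => hne y hy, him] at h1
      have h2 := congrArg (preimageAlong θ) h1
      rw [h.pre_image hWS hZ, h.pre_image (hlW.im_le.trans h.T1_le)
        (h.le_im (sub_mor liftSys_sub hlW) hZ)] at h2
      exact h2.symm
    obtain ⟨a, haA, hae⟩ := hlW.exists_aut hlWim
    set κ := a * β⁻¹ with hκ
    have hκL : κ ∈ (L).autGroup W := mul_mem haA (inv_mem hβ)
    let O := kerAut F Z W ⊓ (L).autGroup W
    have hκO : κ ∈ O := by
      refine ⟨(h.mem_kerAut hWS).2 ⟨mem_autGroup_of_mor (sub_mor liftSys_sub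
        ((mem_autGroup hW).1 hκL)), fun x hx => ?_⟩, hκL⟩
      have hx' := afun_mem β⁻¹ hx
      rw [hκ, afun_mul _ _ hx, hae _ hx', hlθ _ hx', afun_apply_inv β hx]
    obtain ⟨u, hu, -, hue⟩ := mem_autInducedBy.1 (le_autInducedBy_of_normal ha (O := O) inf_le_right
      ((h.kerAut_pGroup hWS).to_le inf_le_left) (fun b hb o ho =>
        ⟨h.kerAut_normal hWS (mem_autGroup_of_mor (sub_mor liftSys_sub ((mem_autGroup hW).1 hb)))
          ho.1, ((L).autGroup W).mul_mem (((L).autGroup W).mul_mem hb ho.2)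
          (((L).autGroup W).inv_mem hb)⟩) hκO)
    refine ⟨cj u⁻¹ ∘ l, (hl.restrict_to hWM).comp (mor_cj le_rfl (inv_mem hu))
      (fun x hx => (hl.restrict_to hWM).apply_mem hx), fun x hx => ?_⟩
    have hβx := afun_mem β hx
    rw [Function.comp_apply, ← hae x hx,
      show afun a x = cj u (afun β x) by
        rw [← hue _ hβx, hκ, afun_mul _ _ hβx, afun_inv_apply β hx], cj_inv_cj]
  -- `Z` is not contained in `W`
  set W1 := W ⊔ Z with hW1
  have hW1T : W1 ≤ T₁ := sup_le hW (h.Z_le_pre T')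
  have hlt : Nat.card W < Nat.card W1 := by
    haveI := finite_of_le (S := T₁) hW1T
    exact lt_of_le_of_ne (Subgroup.card_le_of_le le_sup_left) fun e =>
      hZ (le_sup_right.trans (eq_of_le_of_card_ge hW1T le_sup_left e.ge).ge)
  obtain ⟨R, hR, hRa, hRr⟩ := hgood W1 hW1T hlt
  obtain ⟨g, hg, -, hgR⟩ := exists_map_normalizer (h.pgrp.to_le h.T1_le) hRa hRr hR
  obtain ⟨ψ, hψ, hψe⟩ := h.ext_Z hβm
  have hψ1 : ∀ y ∈ W1, ψ y ∈ W1 := fun y hy => mor_sup_induction hψ
    (fun x hx => hψe x hx ▸ Subgroup.mem_sup_left (afun_mem β hx))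
    (fun z hz => by
      rw [h.fix (sub_mor liftSys_sub hψ) hz (Subgroup.mem_sup_right hz)]
      exact Subgroup.mem_sup_right hz) hy
  have hNW1 : normalizerIn T₁ W ≤ normalizerIn T₁ W1 := fun s hs =>
    ⟨hs.1, mem_normalizer_of_cj_le (hW1T.trans h.T1_le) fun y hy =>
      mor_sup_induction (mor_cj (F := L) hW1T hs.1)
        (fun x hx => Subgroup.mem_sup_left (cj_mem_of_normalizer hs.2 hx))
        (fun z hz => by rw [h.cj_fix (h.T1_le hs.1) hz]; exact Subgroup.mem_sup_right hz) hy⟩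
  have hW1N : W1 ≤ normalizerIn T₁ W1 := le_normalizerIn hW1T
  have hg1 := hg.restrict_to hW1N
  have hgψ : Mor L W1 (g ∘ ψ) := hψ.comp hg1 hψ1
  have himgψ : im W1 (g ∘ ψ) = R := by
    rw [← hψ.im_comp, hψ.im_self hψ1, hgR]
  obtain ⟨e, he, hee⟩ := (receptive_iff.1 hRr).2 W1 (g ∘ ψ) M hgψ himgψ (hM.trans inf_le_left)
    (fun s hs => (hNW1 (hM hs)).2) (fun s hs => by
      obtain ⟨k, hk, hke⟩ := hc s hs
      have hkN : k ∈ normalizerIn T₁ W := ⟨hk, mem_normalizer_of_cj_le hWS fun y hy => by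
        obtain ⟨x, hx, rfl⟩ : ∃ x ∈ W, afun β x = y :=
          ⟨afun β⁻¹ y, afun_mem _ hy, afun_apply_inv β hy⟩
        rw [← hke x hx]
        exact afun_mem β (cj_mem_of_normalizer (hM hs).2 hx)⟩
      refine ⟨g k, hg.apply_mem (hNW1 hkN), fun y hy => ?_⟩
      have hsy := cj_mem_of_normalizer (hNW1 (hM hs)).2 hy
      have key : ψ (cj s y) = cj k (ψ y) := by
        refine eqOn_sup (f := ψ ∘ cj s) (g := cj k ∘ ψ)
          ((mor_cj hW1T (hM hs).1).comp hψ fun w hw => cj_mem_of_normalizer (hNW1 (hM hs)).2 hw)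
          (hψ.comp (mor_cj le_rfl hk) fun w hw => hψ.apply_mem hw) (fun x hx => ?_)
          (fun z hz => ?_) hy
        · rw [Function.comp_apply, Function.comp_apply, hψe _ (cj_mem_of_normalizer (hM hs).2 hx),
            hψe x hx, hke x hx]
        · have hzf : ψ z = z := h.fix (sub_mor liftSys_sub hψ) hz (Subgroup.mem_sup_right hz)
          rw [Function.comp_apply, Function.comp_apply, h.cj_fix (h.T1_le (hM hs).1) hz, hzf,
            h.cj_fix (h.T1_le hk) hz]
      rw [Function.comp_apply, Function.comp_apply, key,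
        hg.map_cj (hNW1 hkN) (hW1N (hψ1 y hy))])
  -- back to `W`
  have hgW := hg1.restrict_to (le_sup_left : W ≤ W1)
  obtain ⟨-, k2, hk2, hk2W⟩ := huniv _ (FusionSysBasic.isConj_iff.2 ⟨g, hgW, rfl⟩)
  set q := im W g with hq
  have hgN : ∀ s ∈ normalizerIn T₁ W, g s ∈ normalizerIn T₁ q := fun s hs =>
    ⟨hg.apply_mem (hNW1 hs), FusionWeaklyNormal88.apply_normalizes hg
      ((le_sup_left : W ≤ W1).trans hW1N) (hNW1 hs) hs.2⟩
  have hδ : Mor L (normalizerIn T₁ W) (k2 ∘ g) := (hg.restrict_to hNW1).comp hk2 hgN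
  have hkN2 : ∀ s ∈ normalizerIn T₁ q, k2 s ∈ normalizerIn T₁ W := fun s hs =>
    mor_normalizer_mem hk2 hgW.im_le hk2W hs
  obtain ⟨δi, hδi, hδiδ, -, -⟩ := hδ.exists_inv
  rw [hδ.im_self fun s hs => hkN2 _ (hgN s hs)] at hδi
  have hMe : ∀ y ∈ W ⊔ M, e y ∈ normalizerIn T₁ q := by
    intro y hy
    have hyN : y ∈ normalizerIn T₁ W := sup_le (le_normalizerIn hW) hM hy
    have hy' : y ∈ W1 ⊔ M := sup_le_sup_right le_sup_left M hy
    refine ⟨he.apply_mem hy', ?_⟩
    have h1 := FusionWeaklyNormal88.apply_normalizes he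
      ((le_sup_left : W ≤ W1).trans le_sup_left) hy' hyN.2
    have e1 : im W e = q := by
      rw [im_congr (g := g ∘ afun β) fun x hx => by
        rw [hee x (Subgroup.mem_sup_left hx), Function.comp_apply, Function.comp_apply, hψe x hx],
        ← hβm.im_comp, im_afun]
    rwa [e1] at h1
  refine ⟨δi ∘ (k2 ∘ e), ((he.restrict_to (sup_le_sup_right le_sup_left M)).comp hk2 hMe).comp hδi
    fun y hy => hkN2 _ (hMe y hy), fun x hx => ?_⟩
  simp only [Function.comp_apply]
  rw [hee x (Subgroup.mem_sup_left hx), Function.comp_apply, hψe x hx]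
  exact hδiδ _ (le_normalizerIn hW (afun_mem β hx))

end Setup

end Cfsg.Agent.FusionCentralLift
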