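import Cfsg.Agent.Lib.FusionSysNormalizer
import Cfsg.Agent.Lib.FusionInduct88

/-!
Lifts of automorphisms of a fully centralized subgroup `P` to `P C_S(P)` that move `C_S(P)` only
inside `P` and have order prime to `p` (`Lift`).

Main facts: such a lift commutes with the centralizer system `C_F(P)` (`Lift.comm`), hence fixes
its focal elements (`Lift.fix_quot`), and it fixes every element of `C_S(P)` that some extension of
the same automorphism fixes (`Lift.fix_of_ext`).
-/

set_option autoImplicit false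

namespace Cfsg.Agent.FusionGoodLift

open Cfsg Cfsg.FusionSystem Cfsg.Agent.FusionSysBasic Cfsg.Agent.FusionSysSaturated
open Cfsg.Agent.FusionSysNormal

variable {Ω : Type*} [Group Ω] {S : Subgroup Ω} {F : FusionSystem S} {p : ℕ}

section General

/-- Some power of an element has order prime to `p` and still lifts every image of order prime to
`p`. -/
theorem exists_pow_coprime {G : Type*} [Group G] [Finite G] [hp : Fact p.Prime] (b : G) :
    ∃ e : ℕ, (orderOf (b ^ e)).Coprime p ∧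
      ∀ {H : Type*} [Group H] (a : H), a ^ orderOf b = 1 → (orderOf a).Coprime p → a ^ e = a := by
  obtain ⟨k, m, hm, he⟩ :=
    Nat.exists_eq_pow_mul_and_not_dvd (orderOf_pos b).ne' p hp.out.ne_one
  have hco : (p ^ k).Coprime m := ((hp.out.coprime_iff_not_dvd.2 hm).pow_left k)
  obtain ⟨e, h0, h1⟩ := Nat.chineseRemainder hco 0 1
  refine ⟨e, ?_, fun {H} _ a ha hac => ?_⟩
  · refine Nat.Coprime.coprime_dvd_left (orderOf_dvd_of_pow_eq_one ?_)
      (hp.out.coprime_iff_not_dvd.2 hm).symm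
    obtain ⟨c, hc⟩ := (Nat.modEq_zero_iff_dvd.1 h0)
    rw [← pow_mul, hc, show p ^ k * c * m = orderOf b * c by rw [he]; ring, pow_mul,
      pow_orderOf_eq_one, one_pow]
  · have h2 : orderOf a ∣ p ^ k * m := he ▸ orderOf_dvd_of_pow_eq_one ha
    have h3 : orderOf a ∣ m := (hac.pow_right k).dvd_of_dvd_mul_left h2
    conv_rhs => rw [← pow_one a]
    exact pow_eq_pow_iff_modEq.2 (h1.of_dvd h3)

theorem eq_one_of_pow [hp : Fact p.Prime] {G : Type*} [Group G] {H : Subgroup G}
    (hH : IsPGroup p H) {z : G} (hz : z ∈ H) {n : ℕ} (hn : n.Coprime p) (h : z ^ n = 1) :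
    z = 1 := by
  obtain ⟨k, hk⟩ := hH ⟨z, hz⟩
  have hk' : z ^ p ^ k = 1 := congrArg Subtype.val hk
  exact orderOf_eq_one_iff.1 (Nat.eq_one_of_dvd_coprimes (hn.pow_right k)
    (orderOf_dvd_of_pow_eq_one h) (orderOf_dvd_of_pow_eq_one hk'))

variable [Finite S] [Fact p.Prime]

/-- Induction over the automizers of fully normalized subgroups, knowing the predicate on all
maps with larger source. -/
theorem induction_bigger (hS : IsPGroup p S) (hF : F.IsSaturated p)
    {Φ : Subgroup Ω → (Ω → Ω) → Prop} (h : FusionInduct88.Closed F (U := S) Φ)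
    (haut : ∀ R, F.IsFullyNormalized R →
      (∀ Q g, Mor F Q g → Nat.card R < Nat.card Q → Φ Q g) →
        ∀ α ∈ F.autGroup R, Φ R (afun α))
    {P : Subgroup Ω} {f : Ω → Ω} (hf : Mor F P f) : Φ P f := by
  suffices ∀ d n, Nat.card S ≤ n + d → ∀ P f, Mor F P f → n < Nat.card P → Φ P f by
    haveI hfin := finite_of_le hf.le
    exact this (Nat.card S) 0 (by omega) P f hf Nat.card_pos
  intro d
  induction d with
  | zero =>
    intro n hn P f hf hlt
    have : Nat.card P ≤ Nat.card S := Subgroup.card_le_of_le hf.le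
    omega
  | succ d ih =>
    intro n hn P f hf hlt
    have hc : FusionInduct88.Closed F (U := S) (fun Q g => n < Nat.card Q → Φ Q g) :=
      { congr := fun hq he hlt => h.congr (hq hlt) he
        conj := fun hP hg _ => h.conj hP hg
        comp := fun {P Q f g} hf hg hP hQ hfQ h1 h2 hlt => h.comp hf hg hP hQ hfQ (h1 hlt) (h2 (by
          have hle : Nat.card (im P f) ≤ Nat.card Q := by
            haveI := finite_of_le hg.le
            exact Subgroup.card_le_of_le (im_le_iff.2 hfQ)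
          rw [hf.card_im] at hle
          omega))
        inv := fun hf hg hP hgf h1 hlt => h.inv hf hg hP hgf (h1 (hf.card_im ▸ hlt)) }
    exact FusionInduct88.induction hS hF hc (fun R hR α hα hR' =>
      haut R hR (fun Q g hg hQ => ih (n + 1) (by omega) Q g hg (by omega)) α hα) hf hlt

omit [Finite S] [Fact p.Prime] in
/-- A map of `P ⊔ C_S(P)` that stabilizes `P` stabilizes `C_S(P)`. -/
theorem cent_map [Finite S] {P : Subgroup Ω} {f : Ω → Ω}
    (hf : Mor F (P ⊔ centralizerIn S P) f) (hP : ∀ x ∈ P, f x ∈ P) :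
    ∀ c ∈ centralizerIn S P, f c ∈ centralizerIn S P := by
  intro c hc
  refine mem_centralizerIn.2 ⟨hf.apply_mem (Subgroup.mem_sup_right hc), fun y hy => ?_⟩
  obtain ⟨x, hx, rfl⟩ := (hf.restrict_to le_sup_left).mem_im.1
    (((hf.restrict_to le_sup_left).im_self hP).ge hy)
  rw [← hf.map_cj (Subgroup.mem_sup_right hc) (Subgroup.mem_sup_left hx),
    (mem_centralizerIn.1 hc).2 x hx]

omit [Finite S] [Fact p.Prime] in
theorem sup_map [Finite S] {P : Subgroup Ω} {f : Ω → Ω}
    (hf : Mor F (P ⊔ centralizerIn S P) f) (hP : ∀ x ∈ P, f x ∈ P) :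
    ∀ y ∈ P ⊔ centralizerIn S P, f y ∈ P ⊔ centralizerIn S P := by
  rw [← im_le_iff, im_sup hf]
  exact sup_le_sup (im_le_iff.2 hP) (im_le_iff.2 (cent_map hf hP))

end General

/-- An automorphism of order prime to `p` of `P C_S(P)`, `P` fully centralized, that stabilizes
`P` and acts trivially on `C_S(P)` modulo `P`. -/
structure Lift (F : FusionSystem S) (p : ℕ) (P : Subgroup Ω) (b : Ω → Ω) : Prop where
  full : F.IsFullyCentralized P
  mor : Mor F (P ⊔ centralizerIn S P) b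
  stab : ∀ x ∈ P, b x ∈ P
  move : ∀ c ∈ centralizerIn S P, c⁻¹ * b c ∈ P
  period : ∃ n : ℕ, n.Coprime p ∧ ∀ x ∈ P ⊔ centralizerIn S P, b^[n] x = x

variable [Finite S] [Fact p.Prime]

namespace Lift

variable {P : Subgroup Ω} {b : Ω → Ω}

omit [Fact p.Prime] in
theorem mem_cent (h : Lift F p P b) {c : Ω} (hc : c ∈ centralizerIn S P) :
    b c ∈ centralizerIn S P := cent_map h.mor h.stab c hc

omit [Fact p.Prime] in
theorem move_comm (h : Lift F p P b) {c d : Ω} (hc : c ∈ centralizerIn S P)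
    (hd : d ∈ centralizerIn S P) : Commute (c⁻¹ * b c) d := by
  have := (mem_centralizerIn.1 hd).2 _ (h.move c hc)
  rw [cj_apply, mul_inv_eq_iff_eq_mul] at this
  exact this.symm

/-- If `b` moves `x` by an element it fixes, it fixes `x`. -/
theorem fix_of_shift (hS : IsPGroup p S) (h : Lift F p P b) {x z : Ω}
    (hx : x ∈ P ⊔ centralizerIn S P) (hz : z ∈ P) (hbx : b x = x * z) (hbz : b z = z) : z = 1 := by
  obtain ⟨n, hn, hid⟩ := h.period
  have hpow : ∀ k : ℕ, b (z ^ k) = z ^ k := by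
    intro k
    induction k with
    | zero => simp [h.mor.map_one]
    | succ k ih =>
      rw [pow_succ, h.mor.map_mul (Subgroup.mem_sup_left (pow_mem hz k))
        (Subgroup.mem_sup_left hz), hbz, ih]
  have hk : ∀ k : ℕ, b^[k] x = x * z ^ k := by
    intro k
    induction k with
    | zero => simp
    | succ k ih =>
      have hzk := hpow k
      rw [Function.iterate_succ_apply', ih,
        h.mor.map_mul hx (Subgroup.mem_sup_left (pow_mem hz k)), hbx, hzk, pow_succ', mul_assoc]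
  have h1 := hid x hx
  rw [hk n] at h1
  exact eq_one_of_pow hS (h.full.1 hz) hn (mul_eq_left.1 h1)

/-- The lift commutes with the maps of `C_F(P)`. -/
theorem comm (hS : IsPGroup p S) (hF : F.IsSaturated p) (h : Lift F p P b) {Q : Subgroup Ω}
    {f : Ω → Ω} (hQ : Q ≤ centralizerIn S P) (hf : Mor F (Q ⊔ P) f) (hfix : ∀ x ∈ P, f x = x) :
    ∀ x ∈ Q, (f x)⁻¹ * b (f x) = x⁻¹ * b x := by
  have hPS := h.full.1
  let D := centralizerSystem F P hPS
  have hD := isCentralizerSystem_centralizerSystem (F := F) P hPS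
  have hCS : centralizerIn S P ≤ S := inf_le_left
  haveI := finite_centralizerIn (S := S) P
  have hDs : D.IsSaturated p := FusionSysNormalizer.centralizerSystem_saturated hS hF h.full hD
  have hmD : ∀ {Q : Subgroup Ω} {f : Ω → Ω}, Q ≤ centralizerIn S P → Mor F (Q ⊔ P) f →
      (∀ x ∈ P, f x = x) → Mor D Q f := by
    intro Q f hQ hf hfix
    refine (mor_centralizerSystem_iff hD).2 ⟨hf.restrict_to le_sup_left, hQ, fun x hx => ?_,
      f, hf, fun _ _ => rfl, hfix⟩
    refine mem_centralizerIn.2 ⟨hf.apply_mem (Subgroup.mem_sup_left hx), fun y hy => ?_⟩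
    conv_lhs => rw [← hfix y hy]
    rw [← hf.map_cj (Subgroup.mem_sup_left hx) (Subgroup.mem_sup_right hy),
      (mem_centralizerIn.1 (hQ hx)).2 y hy, hfix y hy]
  have hclosed : FusionInduct88.Closed D (U := centralizerIn S P)
      (fun Q g => ∀ x ∈ Q, (g x)⁻¹ * b (g x) = x⁻¹ * b x) :=
    { congr := fun hq he x hx => he x hx ▸ hq x hx
      conj := by
        intro Q g hQ hg x hx
        have hx' := hQ hx
        have h1 : b (cj g x) = g * (g⁻¹ * b g) * (x * (x⁻¹ * b x)) *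
            ((g⁻¹ * b g)⁻¹ * g⁻¹) := by
          rw [h.mor.map_cj (Subgroup.mem_sup_right hg) (Subgroup.mem_sup_right hx')]
          simp [cj_apply, mul_assoc]
        have hc : Commute (g⁻¹ * b g) (x * (x⁻¹ * b x)) := by
          rw [mul_inv_cancel_left]
          exact h.move_comm hg (h.mem_cent hx')
        have hd : Commute (x⁻¹ * b x) g⁻¹ := h.move_comm hx' (inv_mem hg)
        rw [h1]
        calc (cj g x)⁻¹ * (g * (g⁻¹ * b g) * (x * (x⁻¹ * b x)) * ((g⁻¹ * b g)⁻¹ * g⁻¹))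
            = g * x⁻¹ * ((g⁻¹ * b g) * (x * (x⁻¹ * b x))) * (g⁻¹ * b g)⁻¹ * g⁻¹ := by
              simp [cj_apply, mul_assoc]
          _ = g * ((x⁻¹ * b x) * g⁻¹) := by rw [hc.eq]; simp [mul_assoc]
          _ = x⁻¹ * b x := by rw [hd.eq, mul_inv_cancel_left]
      comp := fun _ _ _ _ hfQ h1 h2 x hx => (h2 _ (hfQ x hx)).trans (h1 x hx)
      inv := fun hf _ _ hgf h1 y hy => by
        obtain ⟨x, hx, rfl⟩ := hf.mem_im.1 hy
        rw [hgf x hx]
        exact (h1 x hx).symm }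
  refine induction_bigger (hS.to_le hCS) hDs hclosed ?_ (hmD hQ hf hfix)
  intro R hR hbig α hα
  obtain ⟨hαF, hRC, -, f₁, hf₁, hf₁e, hf₁P⟩ :=
    (mor_centralizerSystem_iff hD).1 ((mem_autGroup hR.1).1 hα)
  by_cases hZ : P ⊓ centralizerIn S P ≤ R
  swap
  · -- the map extends to a larger subgroup of `C_S(P)`
    have hR0 : R ⊔ P ⊓ centralizerIn S P ≤ centralizerIn S P := sup_le hRC inf_le_right
    have hle : R ⊔ P ⊓ centralizerIn S P ⊔ P ≤ R ⊔ P :=
      sup_le (sup_le_sup_left inf_le_left R) le_sup_right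
    have hlt : R < R ⊔ P ⊓ centralizerIn S P :=
      lt_of_le_of_ne le_sup_left fun e => hZ (le_sup_right.trans e.ge)
    haveI := finite_of_le (S := S) (hR0.trans hCS)
    have hcard : Nat.card R < Nat.card ↥(R ⊔ P ⊓ centralizerIn S P) :=
      lt_of_le_of_ne (Subgroup.card_le_of_le hlt.le) fun e =>
        hlt.ne (eq_of_le_of_card_ge (hR0.trans hCS) hlt.le e.ge)
    intro x hx
    have := hbig _ f₁ (hmD hR0 (hf₁.restrict_to hle) hf₁P) hcard x (Subgroup.mem_sup_left hx)
    rwa [hf₁e x hx] at this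
  have hRP := hf₁.le
  haveI : Finite R := finite_of_le (hRC.trans hCS)
  have hRstab : ∀ x ∈ R, b x ∈ R := fun x hx => by
    have h1 : x⁻¹ * b x ∈ R := hZ ⟨h.move x (hRC hx), (centralizerIn S P).mul_mem
      (inv_mem (hRC hx)) (h.mem_cent (hRC hx))⟩
    simpa using R.mul_mem hx h1
  have hbRP : Mor F (R ⊔ P) b := h.mor.restrict_to (sup_le (hRC.trans le_sup_right) le_sup_left)
  have himb : im (R ⊔ P) b = R ⊔ P := by
    rw [im_sup hbRP, (hbRP.restrict_to le_sup_left).im_self hRstab,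
      (hbRP.restrict_to le_sup_right).im_self h.stab]
  have himf : im (R ⊔ P) f₁ = R ⊔ P := by
    rw [im_sup hf₁, (hf₁.restrict_to le_sup_left).im_self fun x hx => hf₁e x hx ▸ afun_mem α hx,
      (hf₁.restrict_to le_sup_right).im_self fun x hx => (hf₁P x hx).symm ▸ hx]
  obtain ⟨β₁, hβ₁, hβ₁e⟩ := hbRP.exists_aut himb
  obtain ⟨β, hβ, hβe⟩ := (hbRP.restrict_to le_sup_left).exists_aut
    ((hbRP.restrict_to le_sup_left).im_self hRstab)
  obtain ⟨a₁, ha₁, ha₁e⟩ := hf₁.exists_aut himf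
  have eβ : ∀ x ∈ R, afun β₁ x = afun β x := fun x hx => by
    rw [hβe x hx, hβ₁e x (Subgroup.mem_sup_left hx)]
  have ea : ∀ x ∈ R, afun a₁ x = afun α x := fun x hx => by
    rw [ha₁e x (Subgroup.mem_sup_left hx), hf₁e x hx]
  have einv : ∀ {c₁ : MulAut ↥(R ⊔ P)} {c : MulAut R}, (∀ x ∈ R, afun c₁ x = afun c x) →
      ∀ x ∈ R, afun c₁⁻¹ x = afun c⁻¹ x := fun {c₁ c} he x hx => by
    have := he _ (afun_mem c⁻¹ hx)
    rw [afun_apply_inv c hx] at this
    conv_lhs => rw [← this]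
    exact afun_inv_apply c₁ (Subgroup.mem_sup_left (afun_mem c⁻¹ hx))
  -- the subgroup of `Aut_D(R)` acting trivially modulo `P`
  have hfixRP : ∀ {k : MulAut R}, k ∈ D.autGroup R → ∀ x ∈ R, x ∈ P → afun k x = x := by
    intro k hk x hx hxP
    obtain ⟨-, -, -, g, -, hge, hgP⟩ := (mor_centralizerSystem_iff hD).1 ((mem_autGroup hR.1).1 hk)
    rw [← hge x hx, hgP x hxP]
  let K : Subgroup (D.autGroup R) :=
    { carrier := {k | ∀ x ∈ R, x⁻¹ * afun (k : MulAut R) x ∈ P}
      one_mem' := fun x hx => by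
        show x⁻¹ * afun (1 : MulAut R) x ∈ P
        rw [afun_one hx, inv_mul_cancel]; exact P.one_mem
      mul_mem' := fun {c d} hc hd x hx => by
        show x⁻¹ * afun ((c : MulAut R) * (d : MulAut R)) x ∈ P
        rw [afun_mul _ _ hx]
        have := P.mul_mem (hd x hx) (hc _ (afun_mem (d : MulAut R) hx))
        simpa [mul_assoc] using this
      inv_mem' := fun {c} hc x hx => by
        show x⁻¹ * afun (c : MulAut R)⁻¹ x ∈ P
        have := P.inv_mem (hc _ (afun_mem (c : MulAut R)⁻¹ hx))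
        rw [afun_apply_inv _ hx] at this
        simpa using this }
  haveI hKn : K.Normal := ⟨fun k hk a x hx => by
    show x⁻¹ * afun ((a : MulAut R) * (k : MulAut R) * (a : MulAut R)⁻¹) x ∈ P
    have hy := afun_mem (a : MulAut R)⁻¹ hx
    have hk1 := hk _ hy
    rw [afun_mul _ _ hx, afun_mul _ _ hy]
    have hfx : afun (a : MulAut R) ((afun (a : MulAut R)⁻¹ x)⁻¹ *
        afun (k : MulAut R) (afun (a : MulAut R)⁻¹ x)) =
        (afun (a : MulAut R)⁻¹ x)⁻¹ * afun (k : MulAut R) (afun (a : MulAut R)⁻¹ x) :=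
      hfixRP a.2 _ (R.mul_mem (R.inv_mem hy) (afun_mem _ hy)) hk1
    have hm := (mem_autGroup hR.1).1 a.2
    rw [hm.map_mul (R.inv_mem hy) (afun_mem _ hy), hm.map_inv hy, afun_apply_inv _ hx] at hfx
    rw [hfx]
    exact hk1⟩
  have hKp : IsPGroup p K := fun k => by
    obtain ⟨j, hj⟩ := pow_eq_one_of_stabilizes (hS.to_le (hRC.trans hCS)) (n := 2)
      (fun i => if i = 0 then ⊥ else if i = 1 then R ⊓ P else R) rfl rfl
      (fun i => by split_ifs <;> simp) (fun i hi => by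
        interval_cases i <;> simp) (α := ((k : D.autGroup R) : MulAut R)) (fun i hi y hy => by
        interval_cases i
        · simp only [zero_add, if_neg one_ne_zero, if_pos rfl] at hy
          simp [hfixRP k.1.2 y hy.1 hy.2]
        · simp only [if_neg one_ne_zero, if_pos rfl]
          simp only [show (1 + 1 = 0) = False by simp, show (1 + 1 = 1) = False by simp,
            if_false] at hy
          exact ⟨R.mul_mem (R.inv_mem hy) (afun_mem _ hy), k.2 y hy⟩)
    exact ⟨j, Subtype.ext (Subtype.ext (by simpa using hj))⟩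
  haveI := finite_autGroup (F := D) R
  obtain ⟨-, T0, hT0⟩ := fullyAutomized_of_fullyNormalized (hS.to_le hCS) hDs hR
  have hKT : K ≤ (T0 : Subgroup (D.autGroup R)) :=
    le_sup_right.trans (T0.is_maximal' (T0.2.to_sup_of_normal_right hKp) le_sup_left).le
  have hcomm : ∀ k ∈ K, Commute β (k : MulAut R) := by
    intro k hk
    have hk' := hKT hk
    rw [hT0, Subgroup.mem_subgroupOf] at hk'
    obtain ⟨c, hc, hcn, hce⟩ := mem_autInducedBy.1 hk'
    refine afun_ext fun x hx => ?_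
    rw [afun_mul _ _ hx, afun_mul _ _ hx, hce x hx, hce _ (afun_mem β hx),
      hβe _ (cj_mem_of_normalizer hcn hx), hβe x hx,
      h.mor.map_cj (Subgroup.mem_sup_right hc) (Subgroup.mem_sup_right (hRC hx))]
    have h1 := h.move_comm hc (h.mem_cent (hRC hx))
    simp only [cj_apply]
    calc b c * b x * (b c)⁻¹ = c * ((c⁻¹ * b c) * b x) * (c⁻¹ * b c)⁻¹ * c⁻¹ := by
          simp [mul_assoc]
      _ = c * b x * c⁻¹ := by rw [h1.eq]; simp [mul_assoc]
  -- the commutator of `β` and `α`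
  set u : MulAut R := β * α * β⁻¹ * α⁻¹ with hu
  have hu1 : ∀ x ∈ R, afun u x = afun (β₁ * a₁ * β₁⁻¹ * a₁⁻¹) x := fun x hx => by
    have hx' : x ∈ R ⊔ P := Subgroup.mem_sup_left hx
    rw [hu, afun_mul _ _ hx, afun_mul _ _ (afun_mem _ hx), afun_mul _ _ (afun_mem _ (afun_mem _ hx)),
      afun_mul _ _ hx', afun_mul _ _ (afun_mem _ hx'), afun_mul _ _ (afun_mem _ (afun_mem _ hx')),
      einv ea x hx, einv eβ _ (afun_mem _ hx), ea _ (afun_mem _ (afun_mem _ hx)),
      eβ _ (afun_mem _ (afun_mem _ (afun_mem _ hx)))]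
  have hPinv : ∀ {c₁ : MulAut ↥(R ⊔ P)}, (∀ x ∈ P, afun c₁ x = x) →
      ∀ x ∈ P, afun c₁⁻¹ x = x := fun {c₁} he x hx => by
    conv_lhs => rw [← he x hx]
    exact afun_inv_apply c₁ (Subgroup.mem_sup_right hx)
  have hbP : ∀ x ∈ P, afun β₁⁻¹ x ∈ P := fun x hx => by
    obtain ⟨y, hy, rfl⟩ := (hbRP.restrict_to le_sup_right).mem_im.1
      (((hbRP.restrict_to le_sup_right).im_self h.stab).ge hx)
    rw [← hβ₁e y (Subgroup.mem_sup_right hy), afun_inv_apply _ (Subgroup.mem_sup_right hy)]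
    exact hy
  have haP : ∀ x ∈ P, afun a₁ x = x := fun x hx => by
    rw [ha₁e x (Subgroup.mem_sup_right hx), hf₁P x hx]
  have hu1F : Mor F (R ⊔ P) (afun (β₁ * a₁ * β₁⁻¹ * a₁⁻¹)) :=
    (mem_autGroup hRP).1 (mul_mem (mul_mem (mul_mem hβ₁ ha₁) (inv_mem hβ₁)) (inv_mem ha₁))
  have hu1P : ∀ x ∈ P, afun (β₁ * a₁ * β₁⁻¹ * a₁⁻¹) x = x := fun x hx => by
    have hx' : x ∈ R ⊔ P := Subgroup.mem_sup_right hx
    rw [afun_mul _ _ hx', hPinv haP x hx, afun_mul _ _ hx', afun_mul _ _ (afun_mem _ hx'),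
      haP _ (hbP x hx), afun_apply_inv _ hx']
  have huD : u ∈ D.autGroup R :=
    mem_autGroup_of_mor ((hmD hRC hu1F hu1P).congr fun x hx => (hu1 x hx).symm)
  have huK : (⟨u, huD⟩ : D.autGroup R) ∈ K := by
    intro x hx
    show x⁻¹ * afun u x ∈ P
    have hy := afun_mem α⁻¹ hx
    have hw := afun_mem β⁻¹ hy
    rw [hu, afun_mul _ _ hx, afun_mul _ _ hy, afun_mul _ _ hw]
    set y := afun α⁻¹ x
    set w := afun β⁻¹ y
    have hwy : w⁻¹ * y ∈ P := by
      rw [← afun_apply_inv β hy, hβe w hw]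
      exact h.move w (hRC hw)
    have hfix' : afun α (w⁻¹ * y) = w⁻¹ * y := hfixRP hα _ (R.mul_mem (R.inv_mem hw) hy) hwy
    have hm := (mem_autGroup hR.1).1 hα
    rw [hm.map_mul (R.inv_mem hw) hy, hm.map_inv hw, afun_apply_inv α hx] at hfix'
    have h2 : x⁻¹ * afun α w = (w⁻¹ * y)⁻¹ := by rw [← hfix']; group
    have h3 := P.mul_mem (P.inv_mem hwy)
      (h.move _ (hRC (afun_mem α hw)))
    rw [← hβe _ (afun_mem α hw), ← h2] at h3
    simpa [mul_assoc] using h3
  have hcu : Commute β u := hcomm _ huK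
  have hpow : ∀ k : ℕ, β ^ k * α * (β ^ k)⁻¹ = u ^ k * α := by
    intro k
    induction k with
    | zero => simp
    | succ k ih =>
      have e1 : β * α * β⁻¹ = u * α := by rw [hu]; simp [mul_assoc]
      calc β ^ (k + 1) * α * (β ^ (k + 1))⁻¹ = β * (β ^ k * α * (β ^ k)⁻¹) * β⁻¹ := by
            rw [pow_succ']; simp [mul_assoc]
        _ = β * u ^ k * α * β⁻¹ := by rw [ih]; simp [mul_assoc]
        _ = u ^ k * (β * α * β⁻¹) := by rw [(hcu.pow_right k).eq]; simp [mul_assoc]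
        _ = u ^ (k + 1) * α := by rw [e1, pow_succ, ← mul_assoc]
  obtain ⟨n, hn, hid⟩ := h.period
  have hiter : ∀ (k : ℕ), ∀ x ∈ R, afun (β ^ k) x = b^[k] x := by
    intro k
    induction k with
    | zero => intro x hx; rw [pow_zero, afun_one hx]; rfl
    | succ k ih =>
      intro x hx
      rw [pow_succ', afun_mul _ _ hx, hβe _ (afun_mem _ hx), ih x hx,
        Function.iterate_succ_apply']
  have hβn : β ^ n = 1 := afun_ext fun x hx => by
    rw [hiter n x hx, hid x (Subgroup.mem_sup_right (hRC hx)), afun_one hx]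
  have hun : u ^ n = 1 := by
    have := hpow n
    rw [hβn] at this
    simpa using this.symm
  have hu' : (⟨u, huD⟩ : D.autGroup R) = 1 :=
    eq_one_of_pow hKp huK hn (Subtype.ext (by simpa using hun))
  have hαβ : β * α = α * β := by
    have h1 : u = 1 := congrArg Subtype.val hu'
    rw [hu] at h1
    have := mul_inv_eq_one.1 h1
    rwa [mul_inv_eq_iff_eq_mul] at this
  intro x hx
  have h1 : afun (β * α) x = afun (α * β) x := by rw [hαβ]
  rw [afun_mul _ _ hx, afun_mul _ _ hx, hβe x hx, hβe _ (afun_mem α hx)] at h1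
  have hzx : x⁻¹ * b x ∈ R := R.mul_mem (R.inv_mem hx) (hRstab x hx)
  have h2 := hfixRP hα _ hzx (h.move x (hRC hx))
  rw [((mem_autGroup hR.1).1 hα).map_mul (R.inv_mem hx) (hRstab x hx),
    ((mem_autGroup hR.1).1 hα).map_inv hx] at h2
  rw [h1, h2]

/-- The lift fixes the focal elements of `C_F(P)`. -/
theorem fix_quot (hS : IsPGroup p S) (hF : F.IsSaturated p) (h : Lift F p P b) {Q : Subgroup Ω}
    {f : Ω → Ω} (hQ : Q ≤ centralizerIn S P) (hf : Mor F (Q ⊔ P) f) (hfix : ∀ x ∈ P, f x = x)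
    {x : Ω} (hx : x ∈ Q) : b (x⁻¹ * f x) = x⁻¹ * f x := by
  have hfx : f x ∈ centralizerIn S P := by
    refine mem_centralizerIn.2 ⟨hf.apply_mem (Subgroup.mem_sup_left hx), fun y hy => ?_⟩
    conv_lhs => rw [← hfix y hy]
    rw [← hf.map_cj (Subgroup.mem_sup_left hx) (Subgroup.mem_sup_right hy),
      (mem_centralizerIn.1 (hQ hx)).2 y hy, hfix y hy]
  have e := h.comm hS hF hQ hf hfix x hx
  have hc := h.move_comm (hQ hx) (centralizerIn S P |>.mul_mem (inv_mem (hQ hx)) hfx)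
  have hC : centralizerIn S P ≤ P ⊔ centralizerIn S P := le_sup_right
  rw [h.mor.map_mul (hC (inv_mem (hQ hx))) (hC hfx), h.mor.map_inv (hC (hQ hx))]
  calc (b x)⁻¹ * b (f x)
      = (x⁻¹ * b x)⁻¹ * ((x⁻¹ * f x) * ((f x)⁻¹ * b (f x))) := by simp [mul_assoc]
    _ = x⁻¹ * f x := by rw [e, ← hc.eq, inv_mul_cancel_left]

/-- The lift fixes each element of `C_S(P)` fixed by another extension of the same map. -/
theorem fix_of_ext (hS : IsPGroup p S) (hF : F.IsSaturated p) (h : Lift F p P b) {x : Ω}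
    (hx : x ∈ centralizerIn S P) {ψ : Ω → Ω} (hψ : Mor F (P ⊔ Subgroup.zpowers x) ψ)
    (he : ∀ y ∈ P, ψ y = b y) (hfix : ψ x = x) : b x = x := by
  have hC : centralizerIn S P ≤ P ⊔ centralizerIn S P := le_sup_right
  have hb : Mor F (P ⊔ Subgroup.zpowers x) b :=
    h.mor.restrict_to (sup_le le_sup_left (Subgroup.zpowers_le.2 (hC hx)))
  obtain ⟨g, hg, hgb, -, hgP⟩ := hb.exists_inv
  have hxz : x ∈ P ⊔ Subgroup.zpowers x := Subgroup.mem_sup_right (Subgroup.mem_zpowers x)
  have hle : Subgroup.zpowers (b x) ⊔ P ≤ im (P ⊔ Subgroup.zpowers x) b := by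
    refine sup_le (Subgroup.zpowers_le.2 (apply_mem_im hxz)) ?_
    exact ((hb.restrict_to (le_sup_left : P ≤ P ⊔ Subgroup.zpowers x)).im_self h.stab).ge.trans
      (im_mono le_sup_left)
  have hγ : Mor F (Subgroup.zpowers (b x) ⊔ P) (ψ ∘ g) :=
    (hg.restrict_to hle).comp hψ fun y hy => hgP y (hle hy)
  have hγP : ∀ y ∈ P, (ψ ∘ g) y = y := fun y hy => by
    obtain ⟨w, hw, rfl⟩ := (hb.restrict_to le_sup_left).mem_im.1
      (((hb.restrict_to le_sup_left).im_self h.stab).ge hy)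
    rw [Function.comp_apply, hgb w (Subgroup.mem_sup_left hw), he w hw]
  have hbx := h.mem_cent hx
  have hk := h.comm hS hF (Subgroup.zpowers_le.2 hbx) hγ hγP (b x) (Subgroup.mem_zpowers _)
  rw [Function.comp_apply, hgb x hxz, hfix] at hk
  set z := x⁻¹ * b x with hz
  have hzP : z ∈ P := h.move x hx
  have hbz : b z = z := by
    rw [hz, h.mor.map_mul (hC (inv_mem hx)) (hC hbx), h.mor.map_inv (hC hx)]
    exact hk.symm
  have hz1 := h.fix_of_shift hS (hC hx) hzP (mul_inv_cancel_left x (b x)).symm hbz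
  rw [hz] at hz1
  exact (inv_mul_eq_one.1 hz1).symm

end Lift

/-- The automorphisms of `P` having an extension to `P C_S(P)` that moves `C_S(P)` only inside
`P`. -/
def wGroup (F : FusionSystem S) {P : Subgroup Ω} (hP : P ≤ S) : Subgroup (MulAut P) where
  carrier := {a | ∃ f, Mor F (P ⊔ centralizerIn S P) f ∧ (∀ x ∈ P, f x = afun a x) ∧
    ∀ c ∈ centralizerIn S P, c⁻¹ * f c ∈ P}
  one_mem' := ⟨_, mor_id (sup_le hP inf_le_left), fun x hx => (afun_one hx).symm,
    fun c _ => by simp⟩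
  mul_mem' := by
    rintro a a' ⟨f, hf, hfe, hfm⟩ ⟨f', hf', hfe', hfm'⟩
    have hP' : ∀ x ∈ P, f' x ∈ P := fun x hx => hfe' x hx ▸ afun_mem a' hx
    refine ⟨f ∘ f', hf'.comp hf (sup_map hf' hP'), fun x hx => ?_, fun c hc => ?_⟩
    · rw [Function.comp_apply, hfe' x hx, hfe _ (afun_mem a' hx), afun_mul _ _ hx]
    · have := P.mul_mem (hfm' c hc) (hfm _ (cent_map hf' hP' c hc))
      simpa [mul_assoc] using this
  inv_mem' := by
    rintro a ⟨f, hf, hfe, hfm⟩
    have hP' : ∀ x ∈ P, f x ∈ P := fun x hx => hfe x hx ▸ afun_mem a hx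
    have him := hf.im_self (sup_map hf hP')
    obtain ⟨g, hg, hgf, hfg, hgP⟩ := hf.exists_inv
    rw [him] at hg hfg hgP
    refine ⟨g, hg, fun x hx => ?_, fun c hc => ?_⟩
    · conv_lhs => rw [← afun_apply_inv a hx, ← hfe _ (afun_mem _ hx)]
      exact hgf _ (Subgroup.mem_sup_left (afun_mem _ hx))
    · have hc' : c ∈ P ⊔ centralizerIn S P := Subgroup.mem_sup_right hc
      have hgc : g c ∈ centralizerIn S P := by
        refine mem_centralizerIn.2 ⟨hf.le (hgP c hc'), fun y hy => ?_⟩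
        have hy' : y ∈ P ⊔ centralizerIn S P := Subgroup.mem_sup_left hy
        have hcy : cj (g c) y ∈ P ⊔ centralizerIn S P :=
          mul_mem (mul_mem (hgP c hc') hy') (inv_mem (hgP c hc'))
        refine hf.injOn hcy hy' ?_
        rw [hf.map_cj (hgP c hc') hy', hfg c hc', (mem_centralizerIn.1 hc).2 _ (hP' y hy)]
      have := P.inv_mem (hfm _ hgc)
      rw [hfg c hc'] at this
      simpa using this

theorem mem_wGroup {P : Subgroup Ω} {hP : P ≤ S} {a : MulAut P} :
    a ∈ wGroup F hP ↔ ∃ f, Mor F (P ⊔ centralizerIn S P) f ∧ (∀ x ∈ P, f x = afun a x) ∧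
      ∀ c ∈ centralizerIn S P, c⁻¹ * f c ∈ P := Iff.rfl

theorem wGroup_normal (hS : IsPGroup p S) (hF : F.IsSaturated p) {P : Subgroup Ω}
    (hfc : F.IsFullyCentralized P) {a m : MulAut P} (ha : a ∈ F.autGroup P)
    (hm : m ∈ wGroup F hfc.1) : a * m * a⁻¹ ∈ wGroup F hfc.1 := by
  obtain ⟨f, hf, hfe, hfm⟩ := hm
  obtain ⟨g, hg, hge, hgC⟩ := exists_extension_centralizer
    (receptive_of_fullyCentralized hS hF hfc) ((mem_autGroup hfc.1).1 ha) (im_afun a)
  have hgP : ∀ x ∈ P, g x ∈ P := fun x hx => hge x hx ▸ afun_mem a hx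
  obtain ⟨h, hh, hhg, hgh, hhP⟩ := hg.exists_inv
  rw [hg.im_self (sup_map hg hgP)] at hh hgh hhP
  have hfP : ∀ x ∈ P, f x ∈ P := fun x hx => hfe x hx ▸ afun_mem m hx
  have hhx : ∀ x ∈ P, h x = afun a⁻¹ x := fun x hx => by
    conv_lhs => rw [← afun_apply_inv a hx, ← hge _ (afun_mem _ hx)]
    exact hhg _ (Subgroup.mem_sup_left (afun_mem _ hx))
  refine ⟨(g ∘ f) ∘ h, hh.comp (hf.comp hg (sup_map hf hfP)) hhP, fun x hx => ?_, fun c hc => ?_⟩
  · simp only [Function.comp_apply]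
    rw [hhx x hx, hfe _ (afun_mem _ hx), hge _ (afun_mem _ (afun_mem _ hx)), afun_mul _ _ hx,
      afun_mul _ _ (afun_mem _ hx)]
  · simp only [Function.comp_apply]
    have hc' : c ∈ P ⊔ centralizerIn S P := Subgroup.mem_sup_right hc
    have hhc : h c ∈ centralizerIn S P :=
      cent_map hh (fun x hx => hhx x hx ▸ afun_mem _ hx) c hc
    have hd : g ((h c)⁻¹ * f (h c)) ∈ P := hgP _ (hfm _ hhc)
    rw [hg.map_mul (inv_mem (hhP c hc')) (Subgroup.mem_sup_right (cent_map hf hfP _ hhc)),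
      hg.map_inv (hhP c hc'), hgh c hc'] at hd
    exact hd

/-- An element of `wGroup` of order prime to `p` has a lift. -/
theorem exists_lift {P : Subgroup Ω} (hfc : F.IsFullyCentralized P) {a : MulAut P}
    (ha : a ∈ wGroup F hfc.1) (hco : (orderOf a).Coprime p) :
    ∃ b, Lift F p P b ∧ ∀ x ∈ P, b x = afun a x := by
  obtain ⟨f, hf, hfe, hfm⟩ := ha
  have hP' : ∀ x ∈ P, f x ∈ P := fun x hx => hfe x hx ▸ afun_mem a hx
  obtain ⟨B, hB, hBe⟩ := hf.exists_aut (hf.im_self (sup_map hf hP'))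
  have hle : P ⊔ centralizerIn S P ≤ S := hf.le
  haveI := finite_of_le hle
  have hk : ∀ k : ℕ, (∀ x ∈ P, afun (B ^ k) x = afun (a ^ k) x) ∧
      ∀ c ∈ centralizerIn S P, c⁻¹ * afun (B ^ k) c ∈ P := by
    intro k
    induction k with
    | zero =>
      exact ⟨fun x hx => by rw [pow_zero, pow_zero, afun_one hx, afun_one (Subgroup.mem_sup_left hx)],
        fun c hc => by rw [pow_zero, afun_one (Subgroup.mem_sup_right hc), inv_mul_cancel];
                       exact P.one_mem⟩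
    | succ k ih =>
      have hm := (mem_autGroup hle).1 (pow_mem hB k)
      have hs : ∀ x ∈ P, afun (B ^ k) x ∈ P := fun x hx => (ih.1 x hx).symm ▸ afun_mem _ hx
      refine ⟨fun x hx => ?_, fun c hc => ?_⟩
      · rw [pow_succ', pow_succ', afun_mul _ _ (Subgroup.mem_sup_left hx), afun_mul _ _ hx,
          hBe _ (afun_mem _ (Subgroup.mem_sup_left hx)), ih.1 x hx, hfe _ (afun_mem _ hx)]
      · rw [pow_succ', afun_mul _ _ (Subgroup.mem_sup_right hc),
          hBe _ (afun_mem _ (Subgroup.mem_sup_right hc))]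
        have := P.mul_mem (ih.2 c hc) (hfm _ (cent_map hm hs c hc))
        simpa [mul_assoc] using this
  obtain ⟨e, hec, hea⟩ := exists_pow_coprime (p := p) B
  have hao : a ^ orderOf B = 1 := afun_ext fun x hx => by
    rw [← (hk _).1 x hx, pow_orderOf_eq_one, afun_one (Subgroup.mem_sup_left hx), afun_one hx]
  have hae : a ^ e = a := hea a hao hco
  refine ⟨afun (B ^ e), ⟨hfc, (mem_autGroup hle).1 (pow_mem hB e),
    fun x hx => ((hk e).1 x hx).symm ▸ afun_mem _ hx, (hk e).2, orderOf (B ^ e), hec, ?_⟩,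
    fun x hx => by rw [(hk e).1 x hx, hae]⟩
  intro x hx
  have : ∀ k : ℕ, (afun (B ^ e))^[k] x = afun ((B ^ e) ^ k) x := by
    intro k
    induction k with
    | zero => rw [pow_zero, afun_one hx]; rfl
    | succ k ih => rw [Function.iterate_succ_apply', ih, pow_succ' (B ^ e) k, afun_mul _ _ hx]
  rw [this, pow_orderOf_eq_one, afun_one hx]

/-- Conjugation by `t` lies in `wGroup` when `t` moves `C_S(P)` only inside `P`. -/
theorem mem_wGroup_of_cj {P : Subgroup Ω} (hP : P ≤ S) {t : Ω} (ht : t ∈ S) {a : MulAut P}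
    (he : ∀ x ∈ P, afun a x = cj t x) (hc : ∀ c ∈ centralizerIn S P, c⁻¹ * cj t c ∈ P) :
    a ∈ wGroup F hP :=
  ⟨cj t, mor_cj (sup_le hP inf_le_left) ht, fun x hx => (he x hx).symm, hc⟩

end Cfsg.Agent.FusionGoodLift
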