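import Cfsg.Agent.S5134
import Cfsg.Agent.Lib.FusionMorph88
import Cfsg.Agent.Lib.FusCentric
import Cfsg.Agent.Lib.FusionGoodLift
import Cfsg.Agent.Lib.FusionWeaklyNormal88

/-!
`F` saturated, `Z` central, `F'` the factor system of `F` modulo `Z` read through `θ`, `N` normal in
`F'` over `T'`. The system `liftSys` over the preimage `T₁` of `T'` is generated by the conjugations
by `T₁` and the automorphisms of order prime to `p` that induce maps of `N` on `N`-centric images.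
Its maps induce maps of `N` and every map of `N` is induced by one of them.
-/

set_option autoImplicit false

namespace Cfsg.Agent.FusionCentralLift

open Cfsg Cfsg.FusionSystem Cfsg.Agent.FusionSysBasic Cfsg.Agent.FusionSysSaturated
open Cfsg.Agent.FusionSysNormal Cfsg.Agent.FusionMorph88 Cfsg.Agent.FusionKit88

variable {Ω Ω' : Type*} [Group Ω] [Group Ω'] {S Z : Subgroup Ω} {S' T' : Subgroup Ω'}
  {F : FusionSystem S} {θ : S →* Ω'} {F' : FusionSystem S'} {N : FusionSystem T'} {p : ℕ}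

/-- The hypotheses. -/
structure Setup (F : FusionSystem S) (Z : Subgroup Ω) (θ : S →* Ω') (F' : FusionSystem S')
    (N : FusionSystem T') (p : ℕ) : Prop where
  pgrp : IsPGroup p S
  sat : F.IsSaturated p
  cen : F.IsCentral Z
  fac : F.IsFactorSystem Z θ F'
  nor : N.IsNormalIn F' p

/-- The map `f` induces a map of `N`. -/
def Ind (N : FusionSystem T') (θ : S →* Ω') (P : Subgroup Ω) (f : Ω → Ω) : Prop :=
  ∃ g, Mor N (imageAlong θ P) g ∧ ∀ x ∈ P, g (app θ x) = app θ (f x)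

/-- The generating automorphisms. -/
def Gam (F : FusionSystem S) (Z : Subgroup Ω) (θ : S →* Ω') (N : FusionSystem T') (p : ℕ)
    (R : Subgroup Ω) (f : Ω → Ω) : Prop :=
  R ≤ preimageAlong θ T' ∧ Z ≤ R ∧ Mor F R f ∧ im R f = R ∧ N.IsCentric (imageAlong θ R) ∧
    (∀ α : MulAut R, (∀ x ∈ R, afun α x = f x) → (orderOf α).Coprime p) ∧ Ind N θ R f

/-- The least closed predicate containing the generators. -/
def Phi0 (F : FusionSystem S) (Z : Subgroup Ω) (θ : S →* Ω') (N : FusionSystem T') (p : ℕ)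
    (P : Subgroup Ω) (f : Ω → Ω) : Prop :=
  ∀ Φ : Subgroup Ω → (Ω → Ω) → Prop, FusionInduct88.Closed F (U := preimageAlong θ T') Φ →
    (∀ R g, Gam F Z θ N p R g → Φ R g) → Φ P f

theorem closed_phi0 :
    FusionInduct88.Closed F (U := preimageAlong θ T') (Phi0 F Z θ N p) where
  congr := fun h he Φ hc hg => hc.congr (h Φ hc hg) he
  conj := fun hP hg _ hc _ => hc.conj hP hg
  comp := fun hf hg hP hQ hfQ h1 h2 Φ hc hg' =>
    hc.comp hf hg hP hQ hfQ (h1 Φ hc hg') (h2 Φ hc hg')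
  inv := fun hf hg hP hgf h Φ hc hg' => hc.inv hf hg hP hgf (h Φ hc hg')

/-- The lifted system. -/
noncomputable def liftSys (F : FusionSystem S) (Z : Subgroup Ω) (θ : S →* Ω')
    (N : FusionSystem T') (p : ℕ) : FusionSystem (preimageAlong θ T') :=
  FusionInduct88.subSystem (preimageAlong_le θ T') (closed_phi0 (F := F) (Z := Z) (N := N) (p := p))

local notation "T₁" => preimageAlong θ T'
local notation "L" => liftSys F Z θ N p

theorem mor_lift {P : Subgroup Ω} {f : Ω → Ω} :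
    Mor L P f ↔ Mor F P f ∧ P ≤ T₁ ∧ (∀ x ∈ P, f x ∈ T₁) ∧ Phi0 F Z θ N p P f :=
  FusionInduct88.mor_subSystem

theorem liftSys_sub : (L).IsSubsystemOf F :=
  fun _ _ hφ => hφ.1

theorem lift_induction {Φ : Subgroup Ω → (Ω → Ω) → Prop}
    (hc : FusionInduct88.Closed F (U := T₁) Φ) (hg : ∀ R g, Gam F Z θ N p R g → Φ R g)
    {P : Subgroup Ω} {f : Ω → Ω} (hf : Mor L P f) : Φ P f :=
  (mor_lift.1 hf).2.2.2 Φ hc hg

theorem gam_mor {R : Subgroup Ω} {f : Ω → Ω} (h : Gam F Z θ N p R f) : Mor L R f :=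
  mor_lift.2 ⟨h.2.2.1, h.1, fun x hx => h.1 (h.2.2.2.1 ▸ apply_mem_im hx),
    fun _ _ hg => hg R f h⟩

namespace Setup

variable (h : Setup F Z θ F' N p)
include h

theorem Z_le : Z ≤ S := h.fac.1

theorem mem_Z {x : Ω} : x ∈ Z ↔ x ∈ S ∧ app θ x = 1 := by
  rw [factor_stronglyClosed h.fac, mem_kerAlong]

theorem ker_le_iff {P : Subgroup Ω} : (θ.ker).map S.subtype ≤ P ↔ Z ≤ P := by
  rw [← factor_stronglyClosed h.fac]

theorem T'_le : T' ≤ S' := sub_le h.nor.1.2.2.1

theorem range_le {P' : Subgroup Ω'} (hP : P' ≤ S') : P' ≤ θ.range := h.fac.2.2.1.symm ▸ hP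

theorem app_mem {x : Ω} (hx : x ∈ S) : app θ x ∈ S' := by
  rw [← h.fac.2.2.1, app_apply θ hx]
  exact ⟨_, rfl⟩

theorem image_le {P : Subgroup Ω} : imageAlong θ P ≤ S' := h.fac.2.2.1 ▸ imageAlong_le_range P

theorem image_pre {P' : Subgroup Ω'} (hP : P' ≤ S') : imageAlong θ (preimageAlong θ P') = P' :=
  imageAlong_preimageAlong (h.range_le hP)

theorem pre_image {P : Subgroup Ω} (hP : P ≤ S) (hZ : Z ≤ P) :
    preimageAlong θ (imageAlong θ P) = P :=
  preimageAlong_imageAlong hP (h.ker_le_iff.2 hZ)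

theorem Z_le_pre (P' : Subgroup Ω') : Z ≤ preimageAlong θ P' :=
  h.ker_le_iff.1 (ker_le_preimageAlong P')

theorem image_le_T {P : Subgroup Ω} (hP : P ≤ T₁) : imageAlong θ P ≤ T' := fun _ hy => by
  obtain ⟨x, hx, -, rfl⟩ := mem_imageAlong.1 hy
  exact (mem_preimageAlong.1 (hP hx)).2

theorem div_mem {x y : Ω} (hx : x ∈ S) (hy : y ∈ S) (e : app θ x = app θ y) : x⁻¹ * y ∈ Z :=
  h.mem_Z.2 ⟨S.mul_mem (S.inv_mem hx) hy, by
    rw [app_mul (S.inv_mem hx) hy, app_inv hx, e, inv_mul_cancel]⟩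

theorem app_eq_of_div {x y : Ω} (hx : x ∈ S) (hy : x⁻¹ * y ∈ Z) : app θ x = app θ y := by
  obtain ⟨hS, e⟩ := h.mem_Z.1 hy
  have := app_mul (α := θ) hx hS
  rw [mul_inv_cancel_left, e, mul_one] at this
  exact this.symm

theorem fix {P : Subgroup Ω} {f : Ω → Ω} (hf : Mor F P f) {z : Ω} (hz : z ∈ Z) (hzP : z ∈ P) :
    f z = z := by
  obtain ⟨ψ, -, he, hfix⟩ := (isCentral_iff.1 h.cen).2 P f hf
  rw [← he z hzP, hfix z hz]

theorem le_im {P : Subgroup Ω} {f : Ω → Ω} (hf : Mor F P f) (hZ : Z ≤ P) : Z ≤ im P f :=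
  fun _ hz => h.fix hf hz (hZ hz) ▸ apply_mem_im (hZ hz)

theorem cj_fix {g z : Ω} (hg : g ∈ S) (hz : z ∈ Z) : cj g z = z :=
  h.fix (mor_cj (F := F) h.Z_le hg) hz hz

theorem Z_closed : F.StronglyClosed Z := stronglyClosed_iff.2 ⟨h.Z_le, fun P f hP hf x hx => by
  rw [h.fix hf (hP hx) hx]; exact hP hx⟩

theorem T1_le : T₁ ≤ S := preimageAlong_le θ T'

variable [Finite S] [Fact p.Prime]

theorem finite_S' : Finite S' :=
  h.fac.2.2.1 ▸ Finite.of_surjective θ.rangeRestrict θ.rangeRestrict_surjective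

theorem pgrp' : IsPGroup p S' :=
  h.fac.2.2.1 ▸ h.pgrp.of_surjective θ.rangeRestrict θ.rangeRestrict_surjective

theorem surj : F.IsSurjectiveMorphism F' θ :=
  S5134.result p h.pgrp F h.sat Z h.Z_closed θ F' h.fac

theorem sat' : F'.IsSaturated p := h.nor.1.2.1

theorem satN : N.IsSaturated p := h.nor.1.1

theorem inv' : N.IsInvariantIn F' := h.nor.1.2.2

theorem push {P : Subgroup Ω} {f : Ω → Ω} (hf : Mor F P f) :
    ∃ g, Mor F' (imageAlong θ P) g ∧ ∀ x ∈ P, g (app θ x) = app θ (f x) :=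
  morphism_mor h.surj.1 hf

theorem pull {P' : Subgroup Ω'} {g : Ω' → Ω'} (hg : Mor F' P' g) :
    ∃ f, Mor F (preimageAlong θ P') f ∧
      ∀ x ∈ preimageAlong θ P', g (app θ x) = app θ (f x) :=
  surjective_mor h.surj hg

omit [Finite S] [Fact p.Prime] in
theorem image_im {P : Subgroup Ω} {f : Ω → Ω} (hf : Mor F P f) {g : Ω' → Ω'}
    (hg : ∀ x ∈ P, g (app θ x) = app θ (f x)) :
    im (imageAlong θ P) g = imageAlong θ (im P f) := by
  refine le_antisymm (im_le_iff.2 fun y hy => ?_) fun y hy => ?_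
  · obtain ⟨x, hx, -, rfl⟩ := mem_imageAlong.1 hy
    rw [hg x hx]
    exact app_mem_imageAlong (apply_mem_im hx) hf.im_le
  · obtain ⟨z, hz, -, rfl⟩ := mem_imageAlong.1 hy
    obtain ⟨x, hx, rfl⟩ := hf.mem_im.1 hz
    rw [← hg x hx]
    exact apply_mem_im (app_mem_imageAlong hx hf.le)

omit [Finite S] [Fact p.Prime] in
/-- The image of a full preimage under a lift. -/
theorem im_pull {P' : Subgroup Ω'} (hP' : P' ≤ S') {f : Ω → Ω}
    (hf : Mor F (preimageAlong θ P') f) {g : Ω' → Ω'}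
    (hg : ∀ x ∈ preimageAlong θ P', g (app θ x) = app θ (f x)) :
    im (preimageAlong θ P') f = preimageAlong θ (im P' g) := by
  rw [← h.pre_image hf.im_le (h.le_im hf (h.Z_le_pre P')), ← h.image_im hf hg, h.image_pre hP']

theorem closedT1 : F.StronglyClosed T₁ := stronglyClosed_iff.2 ⟨h.T1_le, fun P f hP hf x hx => by
  obtain ⟨g, hg, he⟩ := h.push hf
  refine mem_preimageAlong.2 ⟨hf.apply_mem hx, ?_⟩
  rw [← he x hx]
  exact closed_apply h.inv'.2.1 hg (h.image_le_T hP) (app_mem_imageAlong hx hf.le)⟩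

omit [Finite S] [Fact p.Prime] in
theorem ind_mor {P : Subgroup Ω} {f : Ω → Ω} (hP : P ≤ T₁) (hf : ∀ x ∈ P, f x ∈ T₁)
    {g : Ω' → Ω'} (hg : ∀ x ∈ P, g (app θ x) = app θ (f x)) {y : Ω'}
    (hy : y ∈ imageAlong θ P) : g y ∈ T' := by
  obtain ⟨x, hx, -, rfl⟩ := mem_imageAlong.1 hy
  rw [hg x hx]
  exact (mem_preimageAlong.1 (hf x hx)).2

omit [Finite S] [Fact p.Prime] in
theorem closed_ind : FusionInduct88.Closed F (U := T₁) (Ind N θ) where
  congr := fun ⟨g, hg, he⟩ hfg => ⟨g, hg, fun x hx => (he x hx).trans (by rw [hfg x hx])⟩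
  conj := fun {P g} hP hg => ⟨cj (app θ g), mor_cj (h.image_le_T hP) (mem_preimageAlong.1 hg).2,
    fun x hx => (app_cj (h.T1_le hg) (h.T1_le (hP hx))).symm⟩
  comp := fun {P Q f f'} hf _ hP _ hfQ ⟨g, hg, he⟩ ⟨g', hg', he'⟩ => by
    refine ⟨g' ∘ g, hg.comp hg' fun y hy => ?_, fun x hx => ?_⟩
    · obtain ⟨x, hx, -, rfl⟩ := mem_imageAlong.1 hy
      rw [he x hx]
      exact mem_imageAlong.2 ⟨f x, hfQ x hx, hf.apply_mem hx, rfl⟩
    · rw [Function.comp_apply, he x hx, he' _ (hfQ x hx)]; rfl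
  inv := fun {P f f'} hf _ _ hff' ⟨g, hg, he⟩ => by
    obtain ⟨gi, hgi, hgig, -, -⟩ := hg.exists_inv
    rw [h.image_im hf he] at hgi
    refine ⟨gi, hgi, fun y hy => ?_⟩
    obtain ⟨x, hx, rfl⟩ := hf.mem_im.1 hy
    rw [← he x hx, hgig _ (app_mem_imageAlong hx hf.le), hff' x hx]

omit [Finite S] [Fact p.Prime] in
/-- Every map of the lifted system induces a map of `N`. -/
theorem ind_of_lift {P : Subgroup Ω} {f : Ω → Ω} (hf : Mor L P f) : Ind N θ P f :=
  lift_induction h.closed_ind (fun _ _ hg => hg.2.2.2.2.2.2) hf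

/-- An automorphism induces one of the image. -/
theorem exists_red {P : Subgroup Ω} (hP : P ≤ S) {a : MulAut P} (ha : a ∈ F.autGroup P) :
    ∃ b ∈ F'.autGroup (imageAlong θ P), ∀ x ∈ P, afun b (app θ x) = app θ (afun a x) := by
  have hm := (mem_autGroup hP).1 ha
  obtain ⟨g, hg, he⟩ := h.push hm
  obtain ⟨b, hb, hbe⟩ := hg.exists_aut (by rw [h.image_im hm he, im_afun])
  exact ⟨b, hb, fun x hx => by rw [hbe _ (app_mem_imageAlong hx hP), he x hx]⟩

omit [Finite S] [Fact p.Prime] in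
theorem red_pow {P : Subgroup Ω} {P' : Subgroup Ω'} (hm : ∀ x ∈ P, app θ x ∈ P') {a : MulAut P}
    {b : MulAut P'} (hb : ∀ x ∈ P, afun b (app θ x) = app θ (afun a x)) (k : ℕ) :
    ∀ x ∈ P, afun (b ^ k) (app θ x) = app θ (afun (a ^ k) x) := by
  induction k with
  | zero => intro x hx; rw [pow_zero, pow_zero, afun_one (hm x hx), afun_one hx]
  | succ k ih =>
    intro x hx
    rw [pow_succ', pow_succ', afun_mul _ _ (hm x hx), ih x hx, hb _ (afun_mem _ hx),
      afun_mul _ _ hx]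

omit [Finite S] [Fact p.Prime] in
theorem red_eq {P : Subgroup Ω} {P' : Subgroup Ω'} (hs : P' ≤ imageAlong θ P) {b b' : MulAut P'}
    (e : ∀ x ∈ P, afun b (app θ x) = afun b' (app θ x)) : b = b' := afun_ext fun y hy => by
  obtain ⟨x, hx, -, rfl⟩ := mem_imageAlong.1 (hs hy)
  exact e x hx

omit [Finite S] [Fact p.Prime] in
theorem orderOf_red {P : Subgroup Ω} {P' : Subgroup Ω'} (hm : ∀ x ∈ P, app θ x ∈ P')
    (hs : P' ≤ imageAlong θ P) {a : MulAut P} {b : MulAut P'}
    (hb : ∀ x ∈ P, afun b (app θ x) = app θ (afun a x)) : orderOf b ∣ orderOf a :=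
  orderOf_dvd_of_pow_eq_one (h.red_eq hs fun x hx => by
    rw [h.red_pow hm hb _ x hx, pow_orderOf_eq_one, afun_one hx, afun_one (hm x hx)])

/-- An automorphism of order prime to `p` of `P'` lifts to one of order prime to `p` of its
preimage. -/
theorem exists_lift_aut {P' : Subgroup Ω'} (hP : P' ≤ S') {b : MulAut P'}
    (hb : b ∈ F'.autGroup P') :
    ∃ a ∈ F.autGroup (preimageAlong θ P'),
      (∀ x ∈ preimageAlong θ P', afun b (app θ x) = app θ (afun a x)) ∧
      ((orderOf b).Coprime p → (orderOf a).Coprime p) := by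
  obtain ⟨f, hf, he⟩ := h.pull ((mem_autGroup hP).1 hb)
  have him := h.im_pull hP hf he
  rw [im_afun] at him
  obtain ⟨a, ha, hae⟩ := hf.exists_aut him
  have hab : ∀ x ∈ preimageAlong θ P', afun b (app θ x) = app θ (afun a x) := fun x hx => by
    rw [he x hx, hae x hx]
  by_cases hco : (orderOf b).Coprime p
  swap
  · exact ⟨a, ha, hab, fun e => absurd e hco⟩
  haveI := finite_of_le (preimageAlong_le θ P' : _ ≤ S)
  have hm : ∀ x ∈ preimageAlong θ P', app θ x ∈ P' := fun x hx => (mem_preimageAlong.1 hx).2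
  obtain ⟨e, hec, hea⟩ := FusionGoodLift.exists_pow_coprime (p := p) a
  refine ⟨a ^ e, pow_mem ha _, fun x hx => ?_, fun _ => hec⟩
  rw [← h.red_pow hm hab e x hx, hea b
    (orderOf_dvd_iff_pow_eq_one.1 (h.orderOf_red hm (h.image_pre hP).ge hab)) hco]

/-- Every map of `N` is induced by a map of the lifted system. -/
theorem exists_lift {P' : Subgroup Ω'} {g : Ω' → Ω'} (hg : Mor N P' g) :
    ∃ l, Mor L (preimageAlong θ P') l ∧
      ∀ x ∈ preimageAlong θ P', g (app θ x) = app θ (l x) := by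
  have hT'S := h.T'_le
  haveI := h.finite_S'
  haveI := finite_of_le hT'S
  have hS' := h.pgrp'.to_le hT'S
  have hcl : FusionInduct88.Closed N (U := T') (fun P' g => ∃ l, Mor L (preimageAlong θ P') l ∧
      ∀ x ∈ preimageAlong θ P', g (app θ x) = app θ (l x)) :=
    { congr := fun ⟨l, hl, he⟩ hfg => ⟨l, hl, fun x hx =>
        (hfg _ (mem_preimageAlong.1 hx).2).symm.trans (he x hx)⟩
      conj := fun {P g} hP hg => by
        obtain ⟨s, rfl⟩ := h.range_le hT'S hg
        refine ⟨cj (s : Ω), mor_cj (preimageAlong_mono hP)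
          (mem_preimageAlong.2 ⟨s.2, by rw [app_apply θ s.2]; exact hg⟩), fun x hx => ?_⟩
        rw [app_cj s.2 (preimageAlong_le θ P hx), app_apply θ s.2]
      comp := fun {P Q f g} _ _ _ _ hfQ ⟨l, hl, he⟩ ⟨l', hl', he'⟩ => by
        have hm : ∀ x ∈ preimageAlong θ P, l x ∈ preimageAlong θ Q := fun x hx =>
          mem_preimageAlong.2 ⟨(sub_mor liftSys_sub hl).apply_mem hx,
            he x hx ▸ hfQ _ (mem_preimageAlong.1 hx).2⟩
        refine ⟨l' ∘ l, hl.comp hl' hm, fun x hx => ?_⟩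
        rw [Function.comp_apply, he x hx, he' _ (hm x hx)]; rfl
      inv := fun {P f g} hf _ hP hgf ⟨l, hl, he⟩ => by
        obtain ⟨li, hli, hlil, -, -⟩ := hl.exists_inv
        rw [h.im_pull (hP.trans hT'S) (sub_mor liftSys_sub hl) he] at hli
        refine ⟨li, hli, fun y hy => ?_⟩
        rw [← h.im_pull (hP.trans hT'S) (sub_mor liftSys_sub hl) he] at hy
        obtain ⟨x, hx, rfl⟩ := hl.mem_im.1 hy
        rw [← he x hx, hgf _ (mem_preimageAlong.1 hx).2, hlil x hx] }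
  refine FusionGoodLift.induction_bigger hS' h.satN hcl (fun R hR hbig α hα => ?_) hg
  have hRT := hR.1
  have hRfc := fullyCentralized_of_fullyNormalized hS' h.satN hR
  by_cases hcen : centralizerIn T' R ≤ R
  swap
  · obtain ⟨f', hf', hfe, -⟩ := exists_extension_centralizer
      (receptive_of_fullyNormalized hS' h.satN hR) ((mem_autGroup hRT).1 hα) (im_afun α)
    haveI := finite_of_le hf'.le
    have hlt : Nat.card R < Nat.card ↥(R ⊔ centralizerIn T' R : Subgroup Ω') :=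
      lt_of_le_of_ne (Subgroup.card_le_of_le le_sup_left) fun e =>
        hcen (le_sup_right.trans (eq_of_le_of_card_ge hf'.le le_sup_left e.ge).ge)
    obtain ⟨l, hl, he⟩ := hbig _ f' hf' hlt
    refine ⟨l, hl.restrict_to (preimageAlong_mono le_sup_left), fun x hx => ?_⟩
    rw [← hfe _ (mem_preimageAlong.1 hx).2, he x (preimageAlong_mono le_sup_left hx)]
  -- the centric case
  have hRc := FusCentric.centric_of_fullyCentralized hRfc hcen
  let M : Subgroup (MulAut R) :=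
    { carrier := {b | ∃ l, Mor L (preimageAlong θ R) l ∧
        ∀ x ∈ preimageAlong θ R, afun b (app θ x) = app θ (l x)}
      one_mem' := ⟨fun x => x, mor_id (preimageAlong_mono hRT), fun x hx =>
        afun_one (mem_preimageAlong.1 hx).2⟩
      mul_mem' := fun {b c} ⟨l, hl, he⟩ ⟨l', hl', he'⟩ => ⟨l ∘ l', hl'.comp hl fun x hx =>
          mem_preimageAlong.2 ⟨(sub_mor liftSys_sub hl').apply_mem hx,
            he' x hx ▸ afun_mem c (mem_preimageAlong.1 hx).2⟩,
        fun x hx => by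
          have hy := (mem_preimageAlong.1 hx).2
          rw [afun_mul _ _ hy, he' x hx, Function.comp_apply, he _ (mem_preimageAlong.2
            ⟨(sub_mor liftSys_sub hl').apply_mem hx, he' x hx ▸ afun_mem c hy⟩)]⟩
      inv_mem' := fun {b} ⟨l, hl, he⟩ => by
        obtain ⟨li, hli, -, hlli, hliP⟩ := hl.exists_inv
        have e := h.im_pull (hRT.trans hT'S) (sub_mor liftSys_sub hl) he
        rw [im_afun] at e
        rw [e] at hli hlli hliP
        refine ⟨li, hli, fun y hy => ?_⟩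
        conv_lhs => rw [← hlli y hy, ← he _ (hliP y hy)]
        exact afun_inv_apply b (mem_preimageAlong.1 (hliP y hy)).2 }
  suffices N.autGroup R ≤ M from this hα
  haveI := finite_autGroup (F := N) R
  obtain ⟨-, P0, hP0⟩ := fullyAutomized_of_fullyNormalized hS' h.satN hR
  intro β hβ
  suffices (⊤ : Subgroup (N.autGroup R)) ≤ M.subgroupOf (N.autGroup R) from
    this (x := ⟨β, hβ⟩) trivial
  rw [← TransferPResidual.sylow_sup_pResidual P0]
  refine sup_le (fun k hk => ?_) (TransferPResidual.pResidual_le_iff_coprime.2 fun k hk => ?_)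
  · rw [hP0, Subgroup.mem_subgroupOf] at hk
    obtain ⟨t, ht, -, hte⟩ := mem_autInducedBy.1 hk
    obtain ⟨s, rfl⟩ := h.range_le hT'S ht
    refine ⟨cj (s : Ω), mor_cj (preimageAlong_mono hRT)
      (mem_preimageAlong.2 ⟨s.2, by rw [app_apply θ s.2]; exact ht⟩), fun x hx => ?_⟩
    rw [Subgroup.coe_subtype, hte _ (mem_preimageAlong.1 hx).2, app_cj s.2 (preimageAlong_le θ R hx), app_apply θ s.2]
  · have hRS' := hRT.trans hT'S
    have hm : Mor F' R (afun (k : MulAut R)) := sub_mor h.inv'.1 ((mem_autGroup hRT).1 k.2)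
    obtain ⟨a, ha, hab, hco⟩ := h.exists_lift_aut hRS' (mem_autGroup_of_mor hm)
    have hgam : Gam F Z θ N p (preimageAlong θ R) (afun a) := by
      refine ⟨preimageAlong_mono hRT, h.Z_le_pre R,
        (mem_autGroup (preimageAlong_le θ R)).1 ha, im_afun a, ?_, ?_, ?_⟩
      · rw [h.image_pre hRS']; exact hRc
      · intro α hα
        rw [show α = a from afun_ext hα]
        exact hco (by rwa [Subgroup.orderOf_coe])
      · refine ⟨afun (k : MulAut R), ?_, hab⟩
        rw [h.image_pre hRS']; exact (mem_autGroup hRT).1 k.2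
    exact ⟨afun a, gam_mor hgam, hab⟩

end Setup

end Cfsg.Agent.FusionCentralLift
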