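import Cfsg.Agent.Lib.OffenderTorus31
import Cfsg.Agent.Lib.FusionInduct88
import Cfsg.Agent.Lib.FusionSysNormalizer
import Cfsg.Agent.Lib.OffendersOperated
import Cfsg.Prelude.Def_PLocal

/-!
A central subgroup `T` of a saturated fusion system which is normal in the normalizer system of the
Thompson subgroup: if it is not weakly closed, then the worst automizer moving `T` has an offender on
the closure of `T`, and its torus gives an automorphism group of `T` transitive on the commutator.
-/

set_option autoImplicit false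

namespace Cfsg.Agent.FusionCentralTorus31

open Cfsg Cfsg.FusionSystem Cfsg.Agent.FusionSysBasic Cfsg.Agent.FusionSysSaturated
  Cfsg.Agent.FusionSysNormal Cfsg.Agent.FusionInduct88 Cfsg.Agent.FusionWeakAlperin

variable {Ω : Type*} [Group Ω] {S : Subgroup Ω} [Finite S] {F : FusionSystem S} {p : ℕ}
  [hp : Fact p.Prime] {T : Subgroup Ω}

omit hp in
theorem cj_eq (hTc : ∀ s ∈ S, ∀ t ∈ T, s * t = t * s) {g t : Ω} (hg : g ∈ S) (ht : t ∈ T) :
    cj g t = t := by
  rw [cj_apply, hTc g hg t ht, mul_inv_cancel_right]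

omit hp in
theorem keeps_of_mapsTo {P : Subgroup Ω} {f : Ω → Ω} (hf : Mor F P f) (hTP : T ≤ P)
    (h : ∀ t ∈ T, f t ∈ T) : Keeps T P f := by
  intro x hx
  refine ⟨h x, fun hfx => ?_⟩
  have hT := hf.restrict_to hTP
  obtain ⟨t, ht, e⟩ := hT.mem_im.1 ((hT.im_self h).symm ▸ hfx)
  rwa [← hf.injOn (hTP ht) hx e]

omit hp in
theorem le_centralizerIn (hTS : T ≤ S) (hTc : ∀ s ∈ S, ∀ t ∈ T, s * t = t * s) {X : Subgroup Ω}
    (hX : X ≤ S) : T ≤ centralizerIn S X := fun t ht =>
  ⟨hTS ht, fun x hx => hTc x (hX hx) t ht⟩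

/-- Fully normalized subgroups over `T` with an automorphism moving `T`. -/
def Bad (F : FusionSystem S) (T W : Subgroup Ω) : Prop :=
  F.IsFullyNormalized W ∧ T ≤ W ∧ ∃ α ∈ F.autGroup W, ∃ t ∈ T, afun α t ∉ T

/-- Maps on subgroups larger than every bad one keep `T`. -/
theorem keeps_of_no_bad (hS : IsPGroup p S) (hF : F.IsSaturated p) (hTS : T ≤ S)
    (hTc : ∀ s ∈ S, ∀ t ∈ T, s * t = t * s) {n : ℕ} (hn : ∀ W, Bad F T W → Nat.card W < n)
    {P : Subgroup Ω} {f : Ω → Ω} (hf : Mor F P f) (hP : n ≤ Nat.card P) : Keeps T P f := by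
  suffices ∀ d (P : Subgroup Ω) (f : Ω → Ω), Mor F P f → n ≤ Nat.card P →
      Nat.card S ≤ Nat.card P + d → Keeps T P f from this _ P f hf hP (Nat.le_add_left _ _)
  intro d
  induction d using Nat.strong_induction_on with
  | _ d IH =>
    intro P f hf hP hd
    have hn' : ∀ g ∈ S, ∀ x ∈ T, cj g x ∈ T := fun g hg x hx => (cj_eq hTc hg hx).symm ▸ hx
    have hcl : Closed F (U := S) (fun P f => n ≤ Nat.card P ∧ Nat.card S ≤ Nat.card P + d →
        Keeps T P f) := by
      have hk := closed_keeps (F := F) hn'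
      exact
        { congr := fun h he hh => hk.congr (h hh) he
          conj := fun hP hg _ => hk.conj hP hg
          comp := fun hf hg hP hQ hfQ h1 h2 hh => by
            have hle := card_le_of_mor hf hQ hfQ
            exact hk.comp hf hg hP hQ hfQ (h1 hh)
              (h2 ⟨le_trans hh.1 hle, le_trans hh.2 (Nat.add_le_add_right hle _)⟩)
          inv := fun hf hg hP hgf h1 hh => hk.inv hf hg hP hgf (h1 (by
            rw [hf.card_im] at hh
            exact hh)) }
    refine FusionInduct88.induction hS hF hcl (fun R hR α hα => ?_) hf ⟨hP, hd⟩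
    rintro ⟨hRn, hRd⟩
    have hm := (mem_autGroup hR.1).1 hα
    by_cases hTR : T ≤ R
    · refine keeps_of_mapsTo hm hTR fun t ht => ?_
      by_contra hne
      exact (hn R ⟨hR, hTR, α, hα, t, ht, hne⟩).not_ge hRn
    · obtain ⟨f', hf', hag, -⟩ := exists_extension_centralizer
        (receptive_of_fullyNormalized hS hF hR) hm (im_afun α)
      haveI := finite_of_le (S := S) hf'.le
      have hlt : Nat.card R < Nat.card (R ⊔ centralizerIn S R : Subgroup Ω) :=
        lt_of_le_of_ne (Subgroup.card_le_of_le le_sup_left) fun e => hTR (by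
          have := eq_of_le_of_card_ge hf'.le (le_sup_left : R ≤ R ⊔ centralizerIn S R) e.ge
          rw [this]
          exact (le_centralizerIn hTS hTc hR.1).trans le_sup_right)
      have hle := Subgroup.card_le_of_le hf'.le
      have hkeep := IH (Nat.card S - Nat.card (R ⊔ centralizerIn S R : Subgroup Ω)) (by omega) _ f' hf' (by omega)
        (by omega)
      intro x hx
      rw [← hag x hx]
      exact hkeep x (Subgroup.mem_sup_left hx)

/-- The order in which the worst bad subgroup is chosen. -/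
noncomputable def key (S W : Subgroup Ω) : ℕ :=
  Nat.card (normalizerIn S W) * (Nat.card S + 1) + Nat.card W

omit hp in
theorem maps_J {W : Subgroup Ω} (hW : W ≤ S) (N : Subgroup Ω) (hJW : thompsonSubgroupAOf N ≤ W)
    (hWN : W ≤ N) (α : MulAut W) : ∀ x ∈ thompsonSubgroupAOf N, afun α x ∈ thompsonSubgroupAOf N := by
  haveI := finite_of_le hW
  let j : W →* N := Subgroup.inclusion hWN
  have key : ((thompsonSubgroupA N).comap j).map α.toMonoidHom ≤ (thompsonSubgroupA N).comap j := by
    have e : (thompsonSubgroupA N).comap j =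
        sSup ((fun A : Subgroup N => A.comap j) '' maxAbelianSubgroups N) := by
      refine le_antisymm ?_ (sSup_le ?_)
      · intro x hx
        have h1 : j x ∈ (sSup ((fun A : Subgroup N => A.comap j) '' maxAbelianSubgroups N)).map j := by
          refine (sSup_le fun A hA => ?_ : thompsonSubgroupA N ≤ _) hx
          intro a ha
          have haW : (a : Ω) ∈ W := hJW ⟨a, le_sSup hA ha, rfl⟩
          exact ⟨⟨a, haW⟩, le_sSup (Set.mem_image_of_mem (fun A : Subgroup N => A.comap j) hA)
            (by show j ⟨a, haW⟩ ∈ A; rw [show j ⟨a, haW⟩ = a from Subtype.ext rfl]; exact ha), Subtype.ext rfl⟩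
        obtain ⟨y, hy, e⟩ := h1
        rwa [← Subgroup.inclusion_injective hWN e]
      · rintro _ ⟨A, hA, rfl⟩
        exact Subgroup.comap_mono (le_sSup hA)
    rw [e, Subgroup.map_le_iff_le_comap, sSup_le_iff]
    rintro _ ⟨A, hA, rfl⟩
    rw [← Subgroup.map_le_iff_le_comap]
    have hAW : A ≤ j.range := fun a ha => ⟨⟨a, hJW ⟨a, le_sSup hA ha, rfl⟩⟩, Subtype.ext rfl⟩
    set B := ((A.comap j).map α.toMonoidHom).map j with hB
    have hcard : Nat.card B = Nat.card A := by
      rw [hB, Subgroup.card_map_of_injective (Subgroup.inclusion_injective hWN),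
        Subgroup.card_map_of_injective α.injective]
      conv_rhs => rw [← Subgroup.map_comap_eq_self hAW]
      rw [Subgroup.card_map_of_injective (Subgroup.inclusion_injective hWN)]
    have hBc : IsMulCommutative B := by
      haveI := hA.1
      refine ⟨⟨?_⟩⟩
      rintro ⟨_, _, ⟨a, ha, rfl⟩, rfl⟩ ⟨_, _, ⟨b, hb, rfl⟩, rfl⟩
      apply Subtype.ext
      show j (α a) * j (α b) = j (α b) * j (α a)
      rw [← map_mul, ← map_mul, ← map_mul, ← map_mul]
      congr 2
      refine Subgroup.inclusion_injective hWN ?_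
      rw [map_mul, map_mul]
      exact congrArg Subtype.val (hA.1.is_comm.comm (⟨j a, ha⟩ : A) ⟨j b, hb⟩)
    refine le_trans ?_ (le_sSup (Set.mem_image_of_mem _
      (⟨hBc, fun C hC => hcard ▸ hA.2 C hC⟩ : B ∈ maxAbelianSubgroups N)))
    exact Subgroup.le_comap_map _ _
  rintro _ ⟨a, ha, rfl⟩
  have haW : (a : Ω) ∈ W := hJW ⟨a, ha, rfl⟩
  have h1 := key ⟨⟨a, haW⟩, (by rw [SetLike.mem_coe, Subgroup.mem_comap, show j ⟨a, haW⟩ = a from Subtype.ext rfl]; exact ha), rfl⟩
  show afun α (a : Ω) ∈ _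
  rw [afun_apply α haW]
  exact ⟨_, h1, rfl⟩

omit [Finite S] hp in
theorem thompsonAOf_le (N : Subgroup Ω) : thompsonSubgroupAOf N ≤ N := Subgroup.map_subtype_le _

/-- The main theorem. -/
theorem main (hS : IsPGroup p S) (hF : F.IsSaturated p) (hp2 : 2 < p) (hTS : T ≤ S)
    (hTc : ∀ s ∈ S, ∀ t ∈ T, s * t = t * s)
    (hJT : ∀ P f, Mor F P f → P ≤ normalizerIn S (thompsonSubgroupAOf S) →
      (∀ x ∈ P, f x ∈ normalizerIn S (thompsonSubgroupAOf S)) →
      (∃ f', Mor F (P ⊔ thompsonSubgroupAOf S) f' ∧ (∀ x ∈ P, f' x = f x) ∧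
        im (thompsonSubgroupAOf S) f' = thompsonSubgroupAOf S) →
      T ≤ P → ∀ t ∈ T, f t ∈ T)
    (hWC : ¬ F.WeaklyClosed T) :
    ∃ X : Subgroup (MulAut T), X ≤ F.autGroup T ∧ X ≠ ⊥ ∧ IsCyclic X ∧
      (Nat.card X).Coprime p ∧ ∀ a b : T,
        a ∈ Subgroup.closure {y : T | ∃ ψ ∈ X, ∃ t : T, y = ψ t * t⁻¹} →
        b ∈ Subgroup.closure {y : T | ∃ ψ ∈ X, ∃ t : T, y = ψ t * t⁻¹} →
        a ≠ 1 → b ≠ 1 → ∃ ψ ∈ X, ψ a = b := by
  classical
  have hn' : ∀ g ∈ S, ∀ x ∈ T, cj g x ∈ T := fun g hg x hx => (cj_eq hTc hg hx).symm ▸ hx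
  -- the worst bad subgroup
  obtain ⟨W₀, hW₀⟩ : ∃ W, Bad F T W := by
    by_contra hno
    push Not at hno
    refine hWC ⟨hTS, fun φ hφ => ?_⟩
    have hm := mor_toFun hφ
    rw [Mor.range_eq_im hφ fun x => (toFun_coe φ x).symm]
    exact hm.im_self fun x hx =>
      (keeps_of_no_bad (n := 0) hS hF hTS hTc (fun W hW => absurd hW (hno W)) hm (Nat.zero_le _) x
        hx).1 hx
  have hfin : {W : Subgroup Ω | Bad F T W}.Finite := by
    refine Set.Finite.of_finite_image (f := fun Q : Subgroup Ω => Q.subgroupOf S) (Set.toFinite _) ?_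
    intro A hA B hB e
    have := congrArg (Subgroup.map S.subtype) e
    simpa [Subgroup.subgroupOf_map_subtype, inf_eq_left.mpr (show A ≤ S from hA.1.1),
      inf_eq_left.mpr (show B ≤ S from hB.1.1)] using this
  obtain ⟨W, ⟨hWf, hTW, α, hα, t₀, ht₀, hmove⟩, hmax⟩ :=
    Set.exists_max_image _ (key S) hfin ⟨W₀, hW₀⟩
  have hWS : W ≤ S := hWf.1
  haveI := finite_of_le hWS
  set N := normalizerIn S W with hNdef
  haveI := finite_normalizerIn (S := S) W
  have hWN : W ≤ N := le_normalizerIn hWS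
  have hNS : N ≤ S := inf_le_left
  have hcW : Nat.card W ≤ Nat.card S := Subgroup.card_le_of_le hWS
  have hS_good : ¬ Bad F T S := by
    rintro ⟨-, -, β, hβ, t, ht, hne⟩
    have hm := (mem_autGroup le_rfl).1 hβ
    have hJ : thompsonSubgroupAOf S ≤ S := thompsonAOf_le S
    have hnJ : S ≤ normalizerIn S (thompsonSubgroupAOf S) := fun g hg =>
      ⟨hg, mem_normalizer_of_cj_le hJ fun x hx => by
        let c : MulAut S := MulAut.conj ⟨g, hg⟩
        have := maps_J (S := S) le_rfl S hJ le_rfl c x hx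
        rwa [afun_apply c (hJ hx)] at this⟩
    refine hne (hJT S (afun β) hm hnJ (fun x hx => hnJ (hm.apply_mem hx)) ⟨afun β, ?_,
      fun _ _ => rfl, (hm.restrict_to hJ).im_self (maps_J le_rfl S hJ le_rfl β)⟩ hTS t ht)
    rwa [sup_eq_left.mpr hJ]
  have hbigkeep : ∀ {P : Subgroup Ω} {f : Ω → Ω}, Mor F P f → Nat.card N ≤ Nat.card P →
      Keeps T P f := by
    refine fun hf hP => keeps_of_no_bad hS hF hTS hTc (fun V hV => ?_) hf hP
    have hVS : V < S := lt_of_le_of_ne hV.1.1 fun e => hS_good (e ▸ hV)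
    have h1 := card_lt_normalizerIn hS hVS
    have h2 : key S V ≤ key S W := hmax V hV
    have h3 : Nat.card (normalizerIn S V) * (Nat.card S + 1) <
        (Nat.card N + 1) * (Nat.card S + 1) := by
      simp only [key, ← hNdef] at h2
      rw [add_mul, one_mul]; omega
    have := Nat.lt_of_mul_lt_mul_right h3
    omega
  have hgood : ∀ X, X ≤ S → T ≤ X → key S W < key S X → ∀ β ∈ F.autGroup X, ∀ t ∈ T,
      afun β t ∈ T := by
    intro X hX hTX hkey β hβ t ht
    obtain ⟨Y, hXY, hY⟩ := exists_fullyNormalized (F := F) hX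
    obtain ⟨θ, hθ, hθN, hθX⟩ := exists_map_to_fullyNormalized hS hF hY hXY
    have hcX : Nat.card X ≤ Nat.card S := Subgroup.card_le_of_le hX
    have hNX : Nat.card N ≤ Nat.card (normalizerIn S X) := by
      have h3 : Nat.card N * (Nat.card S + 1) <
          (Nat.card (normalizerIn S X) + 1) * (Nat.card S + 1) := by
        simp only [key, ← hNdef] at hkey
        rw [add_mul, one_mul]; omega
      have := Nat.lt_of_mul_lt_mul_right h3
      omega
    have hk := hbigkeep hθ hNX
    have hXle := le_normalizerIn (S := S) hX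
    have hθr := hθ.restrict_to hXle
    have hTY : T ≤ Y := by
      rw [← hθX, ← (hθ.restrict_to (hTX.trans hXle)).im_self fun x hx => (hk x (hXle (hTX hx))).1 hx]
      exact im_mono hTX
    have hYgood : ¬ Bad F T Y := by
      intro hb
      have h1 := hmax Y hb
      have h2 := hY.2 X (isConj_symm hXY)
      have h3 := isConj_card hXY
      have h4 := Nat.mul_le_mul_right (Nat.card S + 1) h2
      simp only [key] at h1 hkey
      omega
    have hβY := hθr.transport_mem hθX hβ
    have h5 := hθr.afun_transport hθX β (hTX ht)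
    have hθt : θ t ∈ T := (hk t (hXle (hTX ht))).1 ht
    by_contra hne
    refine hYgood ⟨hY, hTY, _, hβY, θ t, hθt, fun hh => hne ?_⟩
    rw [h5] at hh
    exact (hk _ (hXle (afun_mem β (hTX ht)))).2 hh
  -- the closure of `T`
  set L := F.autGroup W with hL
  haveI : Finite L := finite_autGroup W
  let V : Subgroup W := ⨆ β : L, (T.subgroupOf W).map (β : MulAut W).toMonoidHom
  have hVZ : V ≤ Subgroup.center W := by
    refine iSup_le fun β => ?_
    rintro _ ⟨t, ht, rfl⟩
    refine Subgroup.mem_center_iff.mpr fun w => ?_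
    obtain ⟨w', rfl⟩ := (β : MulAut W).surjective w
    show (β : MulAut W) w' * (β : MulAut W) t = (β : MulAut W) t * (β : MulAut W) w'
    rw [← map_mul, ← map_mul]
    exact congrArg _ (Subtype.ext (hTc w' (hWS w'.2) t ht))
  have hVinv : ∀ β : L, ∀ v ∈ V, (β : MulAut W) v ∈ V := by
    intro β
    suffices V.map (β : MulAut W).toMonoidHom ≤ V from fun v hv => this ⟨v, hv, rfl⟩
    rw [Subgroup.map_iSup]
    refine iSup_le fun γ => le_trans (le_of_eq ?_) (le_iSup
      (fun δ : L => (T.subgroupOf W).map (δ : MulAut W).toMonoidHom) (β * γ))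
    rw [Subgroup.map_map]
    rfl
  have hTV : T.subgroupOf W ≤ V := le_trans (le_of_eq (Subgroup.map_id _).symm)
    (le_iSup (fun δ : L => (T.subgroupOf W).map (δ : MulAut W).toMonoidHom) 1)
  let π : L →* MulAut V :=
    { toFun := fun β =>
        { toFun := fun v => ⟨(β : MulAut W) (v : W), hVinv β v v.2⟩
          invFun := fun v => ⟨((β⁻¹ : L) : MulAut W) (v : W), hVinv _ v v.2⟩
          left_inv := fun v => Subtype.ext ((β : MulAut W).symm_apply_apply (v : W))
          right_inv := fun v => Subtype.ext ((β : MulAut W).apply_symm_apply (v : W))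
          map_mul' := fun u v => Subtype.ext (map_mul (β : MulAut W) (u : W) (v : W)) }
      map_one' := rfl
      map_mul' := fun _ _ => rfl }
  let π' := π.rangeRestrict
  have hπ's : Function.Surjective π' := π.rangeRestrict_surjective
  letI : CommGroup V := { (inferInstance : Group V) with
    mul_comm := fun a b => Subtype.ext (Subgroup.mem_center_iff.mp (hVZ b.2) a) }
  letI instAct : DistribMulAction π.range (Additive V) :=
    { smul := fun g v => Additive.ofMul ((g : MulAut V) (Additive.toMul v))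
      one_smul := fun _ => rfl
      mul_smul := fun _ _ _ => rfl
      smul_zero := fun g => congrArg Additive.ofMul (map_one (g : MulAut V))
      smul_add := fun g u v => congrArg Additive.ofMul (map_mul (g : MulAut V) _ _) }
  let val : Additive V → Ω := fun v => (((Additive.toMul v : V) : W) : Ω)
  have hval_inj : Function.Injective val := fun u v h => Subtype.ext (Subtype.ext h)
  have hval_smul : ∀ (β : L) (v : Additive V), val (π' β • v) = afun (β : MulAut W) (val v) :=
    fun β v => by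
      rw [afun_apply _ ((Additive.toMul v : V) : W).2]
      rfl
  let T0 : AddSubgroup (Additive V) := Subgroup.toAddSubgroup ((T.subgroupOf W).subgroupOf V)
  have hT0 : ∀ v, v ∈ T0 ↔ val v ∈ T := fun v => Iff.rfl
  let emb : T → Additive V := fun t => Additive.ofMul ⟨⟨t, hTW t.2⟩, hTV t.2⟩
  let M : Subgroup π.range :=
    { carrier := {g | ∀ v ∈ T0, g • v ∈ T0}
      one_mem' := fun v hv => by rwa [one_smul]
      mul_mem' := fun {a b} ha hb v hv => by rw [mul_smul]; exact ha _ (hb v hv)
      inv_mem' := fun {a} ha v hv => by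
        obtain ⟨u, hu⟩ := (Finite.injective_iff_surjective
          (f := fun u : T0 => (⟨a • (u : Additive V), ha u u.2⟩ : T0))).mp
          (fun u u' h => Subtype.ext (MulAction.injective a (congrArg Subtype.val h))) ⟨v, hv⟩
        have hu' : a • (u : Additive V) = v := congrArg Subtype.val hu
        rw [← hu', inv_smul_smul]
        exact u.2 }
  have hM : M ≠ ⊤ := by
    intro e
    refine hmove ?_
    have := (e ▸ Subgroup.mem_top _ : π' ⟨α, hα⟩ ∈ M) (emb ⟨t₀, ht₀⟩) ((hT0 _).2 ht₀)
    rwa [hT0, hval_smul] at this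
  -- the maps induced by `N`
  let c : N →* L := (nHom S W).codRestrict L fun g => by
    refine autInducedBy_le hWS ?_
    rw [autInducedBy_eq_range]
    exact ⟨g, rfl⟩
  let χ := π'.comp c
  have hχ : ∀ (g : N) (v : Additive V), val (χ g • v) = cj (g : Ω) (val v) := fun g v => by
    rw [show χ g = π' (c g) from rfl, hval_smul]
    exact afun_nHom g ((Additive.toMul v : V) : W).2
  have hχT : ∀ (g : N), ∀ v ∈ T0, χ g • v = v := fun g v hv => hval_inj (by
    rw [hχ, cj_eq hTc (hNS g.2) ((hT0 v).1 hv)])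
  obtain ⟨-, R₀, hR₀⟩ := fullyAutomized_of_fullyNormalized hS hF hWf
  have hcR₀ : (R₀ : Subgroup L) = c.range := by
    rw [hR₀]
    ext β
    rw [Subgroup.mem_subgroupOf, autInducedBy_eq_range]
    exact ⟨fun ⟨g, hg⟩ => ⟨g, Subtype.ext hg⟩, fun ⟨g, hg⟩ => ⟨g, congrArg Subtype.val hg⟩⟩
  let SP : Sylow p π.range := R₀.mapSurjective hπ's
  have hSP : (SP : Subgroup π.range) = χ.range := by
    show (R₀ : Subgroup L).map π' = _
    rw [hcR₀, ← MonoidHom.range_comp]
  have hSM : (SP : Subgroup π.range) ≤ M := by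
    rw [hSP]
    rintro _ ⟨g, rfl⟩ v hv
    rwa [hχT g v hv]
  -- the normalizer lemma
  have hlift : ∀ Q : Subgroup π.range, Q ≤ χ.range → χ.range ≤ Subgroup.normalizer (Q : Set π.range) →
      (Q.comap χ).map N.subtype ≠ W → Subgroup.normalizer (Q : Set π.range) ≤ M := by
    intro Q hQ hQn hne
    set R := (Q.comap χ).map N.subtype with hR
    have hRN : R ≤ N := Subgroup.map_subtype_le _
    have hRS := hRN.trans hNS
    have hχW : ∀ g : N, (g : Ω) ∈ W → χ g = 1 := by
      intro g hg
      refine Subtype.ext (MulEquiv.ext fun v => ?_)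
      apply Subtype.ext
      apply Subtype.ext
      exact (hχ g (Additive.ofMul v)).trans (by
        show g.1 * (v.1 : Ω) * g.1⁻¹ = (v.1 : Ω)
        have := congrArg Subtype.val (Subgroup.mem_center_iff.mp (hVZ v.2) ⟨g.1, hg⟩)
        rw [show g.1 * (v.1 : Ω) = (v.1 : Ω) * g.1 from this, mul_inv_cancel_right])
    have hWR : W ≤ R := fun w hw => ⟨⟨w, hWN hw⟩, by
      rw [SetLike.mem_coe, Subgroup.mem_comap, hχW _ hw]; exact Q.one_mem, rfl⟩
    have hTR : T ≤ R := hTW.trans hWR
    have hCR : centralizerIn S W ≤ R := fun g hg => ⟨⟨g, centralizerIn_le_normalizerIn hg⟩, by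
      have : χ ⟨g, centralizerIn_le_normalizerIn hg⟩ = 1 := by
        refine Subtype.ext (MulEquiv.ext fun v => Subtype.ext (Subtype.ext ?_))
        exact (hχ _ (Additive.ofMul v)).trans ((mem_centralizerIn.1 hg).2 _ (v : W).2)
      rw [SetLike.mem_coe, Subgroup.mem_comap, this]; exact Q.one_mem, rfl⟩
    haveI := finite_of_le hRS
    have hNR : N ≤ normalizerIn S R := fun g hg => ⟨hNS hg, mem_normalizer_of_cj_le hRS (by
      rintro _ ⟨x, hx, rfl⟩
      refine ⟨⟨g, hg⟩ * x * ⟨g, hg⟩⁻¹, ?_, rfl⟩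
      rw [SetLike.mem_coe, Subgroup.mem_comap, map_mul, map_mul, map_inv]
      exact (Subgroup.mem_normalizer_iff.1 (hQn ⟨⟨g, hg⟩, rfl⟩) _).1 hx)⟩
    have hkey : key S W < key S R := by
      haveI := finite_normalizerIn (S := S) R
      have h1 : Nat.card W < Nat.card R := lt_of_le_of_ne (Subgroup.card_le_of_le hWR)
        fun e => hne (eq_of_le_of_card_ge hRS hWR e.ge).symm
      have h2 := Nat.mul_le_mul_right (Nat.card S + 1) (Subgroup.card_le_of_le hNR)
      simp only [key, ← hNdef]
      omega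
    intro γ hγ v hv
    obtain ⟨β, rfl⟩ := hπ's γ
    set H := (Subgroup.normalizer (Q : Set π.range)).comap π' with hH
    set U := (Q.comap π').subgroupOf H with hU
    haveI : U.Normal := ⟨fun u hu h => by
      show π' ((h : L) * (u : L) * (h : L)⁻¹) ∈ Q
      rw [map_mul, map_mul, map_inv]
      exact (Subgroup.mem_normalizer_iff.1 h.2 _).1 hu⟩
    have hRH : (R₀ : Subgroup L) ≤ H := by
      rw [hcR₀]
      rintro _ ⟨g, rfl⟩
      exact hQn ⟨g, rfl⟩
    obtain ⟨T', hT'⟩ := OffendersOperated.exists_sylow_inf (R₀.subtype hRH) U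
    have hfr := Sylow.normalizer_sup_eq_top T'
    rw [hT'] at hfr
    obtain ⟨y, hy, u, hu, hyu⟩ := Subgroup.mem_sup_of_normal_right.1
      (hfr ▸ Subgroup.mem_top (⟨β, hγ⟩ : H))
    have hyu' : (y : L) * (u : L) = β := congrArg Subtype.val hyu
    have hufix : π' (u : L) • v = v := by
      obtain ⟨g, hg⟩ := hQ hu
      rw [show π' (u : L) = χ g from hg.symm]
      exact hχT g v hv
    rw [← hyu', map_mul, mul_smul, hufix, hT0, hval_smul]
    have hval : val v ∈ T := (hT0 v).1 hv
    -- `y` extends to `R`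
    have hym := (mem_autGroup hWS).1 (y : L).2
    obtain ⟨f', hf', hag⟩ := (receptive_iff.1 (receptive_of_fullyNormalized hS hF hWf)).2 W
      (afun ((y : L) : MulAut W)) R hym (im_afun _) hRS (hRN.trans inf_le_right) (by
        intro g hg
        obtain ⟨g, hgQ, rfl⟩ := hg
        have h1 : (⟨c g, hRH (hcR₀ ▸ ⟨g, rfl⟩)⟩ : H) ∈ (R₀.subtype hRH : Subgroup H) ⊓ U :=
          ⟨show c g ∈ (R₀ : Subgroup L) by rw [hcR₀]; exact ⟨g, rfl⟩, hgQ⟩
        have h2 := (Subgroup.mem_normalizer_iff.1 hy _).1 h1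
        have h3 : (y : L) * c g * (y : L)⁻¹ ∈ (R₀ : Subgroup L) := h2.1
        rw [hcR₀] at h3
        obtain ⟨g', hg'⟩ := h3
        refine ⟨g', hNS g'.2, fun x hx => ?_⟩
        have e : c g' = (y : L) * c g * (y : L)⁻¹ := hg'
        have hxg : cj (g : Ω) x = afun ((c g : L) : MulAut W) x := (afun_nHom g hx).symm
        show afun _ (cj (g : Ω) x) = cj (g' : Ω) _
        rw [hxg, ← afun_mul _ _ hx, ← afun_nHom g' (afun_mem _ hx)]
        show _ = afun ((c g' : L) : MulAut W) _
        rw [← afun_mul _ _ hx, e]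
        simp [mul_assoc])
    have hWRsup : W ⊔ R = R := sup_eq_right.mpr hWR
    rw [hWRsup] at hf'
    have himR : im R f' = R := hf'.im_self fun g hg => by
      obtain ⟨g, hgQ, rfl⟩ := hg
      -- the image has the same action as some member of `R`
      have h1 : (⟨c g, hRH (hcR₀ ▸ ⟨g, rfl⟩)⟩ : H) ∈ (R₀.subtype hRH : Subgroup H) ⊓ U :=
        ⟨show c g ∈ (R₀ : Subgroup L) by rw [hcR₀]; exact ⟨g, rfl⟩, hgQ⟩
      have h2 := (Subgroup.mem_normalizer_iff.1 hy _).1 h1
      have h3 : (y : L) * c g * (y : L)⁻¹ ∈ (R₀ : Subgroup L) := h2.1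
      have h4 : π' ((y : L) * c g * (y : L)⁻¹) ∈ Q := h2.2
      rw [hcR₀] at h3
      obtain ⟨g', hg'⟩ := h3
      have e : c g' = (y : L) * c g * (y : L)⁻¹ := hg'
      have hg'R : (g' : Ω) ∈ R := by
        refine ⟨g', ?_, rfl⟩
        rw [SetLike.mem_coe, Subgroup.mem_comap, show χ g' = π' (c g') from rfl, hg']
        exact h4
      have hgR : (g : Ω) ∈ R := ⟨g, hgQ, rfl⟩
      have hd : (g' : Ω)⁻¹ * f' g ∈ centralizerIn S W := by
        refine mem_centralizerIn.2 ⟨S.mul_mem (S.inv_mem (hNS g'.2)) (hf'.apply_mem hgR),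
          fun w hw => ?_⟩
        rw [← im_afun ((y : L) : MulAut W)] at hw
        obtain ⟨x, hx, rfl⟩ := hym.mem_im.1 hw
        have e1 : cj (f' g) (afun ((y : L) : MulAut W) x) = cj (g' : Ω) (afun ((y : L) : MulAut W) x) := by
          rw [← hag x hx, ← hf'.map_cj hgR (hWR hx),
            hag _ (cj_mem_of_normalizer g.2.2 hx)]
          rw [show cj (g : Ω) x = afun ((c g : L) : MulAut W) x from (afun_nHom g hx).symm,
            ← afun_mul _ _ hx, hag x hx, show cj (g' : Ω) (afun ((y : L) : MulAut W) x) =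
              afun ((c g' : L) : MulAut W) (afun ((y : L) : MulAut W) x) from
              (afun_nHom g' (afun_mem _ hx)).symm, ← afun_mul _ _ hx, e]
          simp [mul_assoc]
        rw [← cj_cj, e1, cj_inv_cj]
      have := R.mul_mem hg'R (hCR hd)
      rwa [mul_inv_cancel_left] at this
    obtain ⟨δ, hδ, hδe⟩ := hf'.exists_aut himR
    have := hgood R hRS hTR hkey δ hδ (val v) hval
    rwa [hδe _ (hTR hval), hag _ (hTW hval)] at this
  -- `W` is the kernel
  have hR0 : ((⊥ : Subgroup π.range).comap χ).map N.subtype = W := by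
    by_contra hne
    have := hlift ⊥ bot_le (by rw [Subgroup.normalizer_eq_top]; exact le_top) hne
    rw [Subgroup.normalizer_eq_top] at this
    exact hM (top_le_iff.1 this)
  have hker : ∀ g : N, χ g = 1 ↔ (g : Ω) ∈ W := fun g => by
    conv_rhs => rw [← hR0]
    rw [← N.subtype_apply, Subgroup.mem_map_iff_mem N.subtype_injective, Subgroup.mem_comap,
      Subgroup.mem_bot]
  -- an abelian subgroup of largest order outside `W`
  obtain ⟨A, hA, hAW⟩ : ∃ A ∈ maxAbelianSubgroups N, ¬ A.map N.subtype ≤ W := by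
    by_contra hno
    push Not at hno
    have hJW : thompsonSubgroupAOf N ≤ W := by
      rw [thompsonSubgroupAOf, thompsonSubgroupA, Subgroup.map_le_iff_le_comap]
      exact sSup_le fun A hA => Subgroup.map_le_iff_le_comap.1 (hno A hA)
    have hJ := maps_J hWS N hJW hWN α
    have hm := (mem_autGroup hWS).1 hα
    rcases (hNS.eq_or_lt) with e | hlt
    · have hJS : thompsonSubgroupAOf N = thompsonSubgroupAOf S := by rw [e]
      rw [hJS] at hJ hJW
      have hnJ : S ≤ normalizerIn S (thompsonSubgroupAOf S) := fun g hg =>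
        ⟨hg, mem_normalizer_of_cj_le (thompsonAOf_le S) fun x hx => by
          let cg : MulAut S := MulAut.conj ⟨g, hg⟩
          have := maps_J (S := S) le_rfl S (thompsonAOf_le S) le_rfl cg x hx
          rwa [afun_apply cg (thompsonAOf_le S hx)] at this⟩
      refine hmove (hJT W (afun α) hm (hWS.trans hnJ) (fun x hx => hnJ (hm.apply_mem hx))
        ⟨afun α, ?_, fun _ _ => rfl, (hm.restrict_to hJW).im_self hJ⟩ hTW t₀ ht₀)
      rwa [sup_eq_left.mpr hJW]
    · set J := thompsonSubgroupAOf N with hJdef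
      have hJS' : J ≤ S := hJW.trans hWS
      obtain ⟨A, hA⟩ : ∃ A, A ∈ maxAbelianSubgroups N := by
        obtain ⟨A, hA, hmaxA⟩ := Set.exists_max_image {A : Subgroup N | IsMulCommutative A}
          (fun A => Nat.card A) (Set.toFinite _) ⟨⊥, ⟨⟨fun a b => Subsingleton.elim _ _⟩⟩⟩
        exact ⟨A, hA, hmaxA⟩
      have hTA : T.subgroupOf N ≤ A := by
        intro t ht
        have hc : ∀ a ∈ A, a * t = t * a := fun a _ => Subtype.ext (hTc a (hNS a.2) t ht)
        haveI := hA.1
        have hAB : IsMulCommutative (A ⊔ Subgroup.zpowers t : Subgroup N) := by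
          rw [Subgroup.zpowers_eq_closure, ← A.closure_eq, ← Subgroup.closure_union]
          refine Subgroup.isMulCommutative_closure ?_
          rintro a (ha | rfl) b (hb | rfl)
          · exact congrArg Subtype.val (hA.1.is_comm.comm ⟨a, ha⟩ ⟨b, hb⟩)
          · exact hc a ha
          · exact (hc b hb).symm
          · rfl
        exact (Subgroup.eq_of_le_of_card_ge le_sup_left (hA.2 _ hAB)).ge
          (Subgroup.mem_sup_right (Subgroup.mem_zpowers t))
      have hTJ : T ≤ J := fun t ht => ⟨⟨t, hWN (hTW ht)⟩, le_sSup hA (hTA ht), rfl⟩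
      haveI := finite_normalizerIn (S := S) J
      have h1 := card_lt_normalizerIn hS hlt
      have h2 : normalizerIn S N ≤ normalizerIn S J := fun g hg =>
        ⟨hg.1, mem_normalizer_of_cj_le hJS' fun x hx => by
          let cg : MulAut N := N.normalizerMonoidHom ⟨g, hg.2⟩
          have := maps_J (S := S) hNS N (thompsonAOf_le N) le_rfl cg x hx
          rwa [afun_apply cg (thompsonAOf_le N hx)] at this⟩
      have hkey : key S W < key S J := by
        have h3 := Subgroup.card_le_of_le h2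
        have h4 : (Nat.card N + 1) * (Nat.card S + 1) ≤
            Nat.card (normalizerIn S J) * (Nat.card S + 1) := Nat.mul_le_mul_right _ (by omega)
        rw [add_mul, one_mul] at h4
        simp only [key, ← hNdef]
        omega
      obtain ⟨δ, hδ, hδe⟩ := (hm.restrict_to hJW).exists_aut ((hm.restrict_to hJW).im_self hJ)
      have := hgood J hJS' hTJ hkey δ hδ t₀ ht₀
      rw [hδe _ (hTJ ht₀)] at this
      exact hmove this
  haveI := hA.1
  have hAc : ∀ a ∈ A, ∀ b ∈ A, a * b = b * a := fun a ha b hb =>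
    congrArg Subtype.val (hA.1.is_comm.comm ⟨a, ha⟩ ⟨b, hb⟩)
  set Ab := A.map χ with hAb
  have hAb1 : Ab ≠ ⊥ := fun e => hAW (by
    rintro _ ⟨a, ha, rfl⟩
    refine (hker a).1 ?_
    have : χ a ∈ Ab := ⟨a, ha, rfl⟩
    rwa [e, Subgroup.mem_bot] at this)
  -- the offending inequality
  have hoff : Nat.card (Additive V) ≤
      Nat.card Ab * Nat.card (OffenderSL2Gen31.fixW (Additive V) Ab) := by
    let K : Subgroup N := A ⊓ χ.ker
    let VN : Subgroup N := (V.map W.subtype).subgroupOf N
    have hVN : Nat.card VN = Nat.card (Additive V) := by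
      show _ = Nat.card V
      rw [Nat.card_congr (Subgroup.subgroupOfEquivOfLe ((Subgroup.map_subtype_le V).trans hWN)).toEquiv,
        Subgroup.card_map_of_injective W.subtype_injective]
    have hVc : ∀ a : N, (a : Ω) ∈ W → ∀ v ∈ VN, a * v = v * a := by
      rintro a ha v ⟨v', hv', e⟩
      refine Subtype.ext ?_
      have := congrArg Subtype.val (Subgroup.mem_center_iff.mp (hVZ hv') ⟨a, ha⟩)
      show (a : Ω) * v = v * a
      rw [← N.subtype_apply v, ← e]
      exact this
    have hKW : ∀ a ∈ K, (a : Ω) ∈ W := fun a ha => (hker a).1 ha.2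
    have hVNW : ∀ v ∈ VN, ((v : N) : Ω) ∈ W := by
      rintro v ⟨v', -, e⟩
      rw [← N.subtype_apply v, ← e]
      exact v'.2
    have hKV : IsMulCommutative (K ⊔ VN : Subgroup N) := by
      rw [← K.closure_eq, ← VN.closure_eq, ← Subgroup.closure_union]
      refine Subgroup.isMulCommutative_closure ?_
      rintro a (ha | ha) b (hb | hb)
      · exact hAc a ha.1 b hb.1
      · exact hVc a (hKW a ha) b hb
      · exact (hVc b (hKW b hb) a ha).symm
      · exact hVc a (hVNW a ha) b hb
    have hprod := OffendersReplace.card_sup_mul_card_inf K VN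
      (OffendersReplace.le_normalizer_of_commute fun k hk v hv => hVc k (hKW k hk) v hv)
    have hAcard : Nat.card Ab * Nat.card K = Nat.card A := by
      let ψ := χ.comp A.subtype
      have e1 := ψ.ker.card_mul_index
      have e2 : ψ.range = Ab := by rw [MonoidHom.range_comp, Subgroup.range_subtype]
      have e3 : ψ.ker.map A.subtype = K := by
        rw [← MonoidHom.comap_ker, Subgroup.map_comap_eq, Subgroup.range_subtype]
      rw [Subgroup.index_ker, e2] at e1
      rw [← e1, ← e3, Subgroup.card_map_of_injective A.subtype_injective, mul_comm]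
    have hKVfix : Nat.card (K ⊓ VN : Subgroup N) ≤
        Nat.card (OffenderSL2Gen31.fixW (Additive V) Ab) := by
      have hex : ∀ k : (K ⊓ VN : Subgroup N), ∃ w ∈ V, ((w : W) : Ω) = ((k : N) : Ω) := by
        rintro ⟨k, -, w, hw, e⟩
        exact ⟨w, hw, e⟩
      choose w hw hwe using hex
      refine Nat.card_le_card_of_injective (fun k => ⟨Additive.ofMul ⟨w k, hw k⟩, ?_⟩) fun k k' h => ?_
      · rintro _ ⟨a, ha, rfl⟩
        refine hval_inj ((hχ a _).trans ?_)
        show (a : Ω) * (w k : Ω) * (a : Ω)⁻¹ = (w k : Ω)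
        rw [hwe k]
        have : (a : Ω) * (k : N) = (k : N) * (a : Ω) :=
          congrArg Subtype.val (hAc a ha (k : N) k.2.1.1)
        rw [this, mul_inv_cancel_right]
      · refine Subtype.ext (Subtype.ext ?_)
        rw [← hwe k, ← hwe k']
        exact congrArg val (congrArg Subtype.val h)
    refine Nat.le_of_mul_le_mul_right (c := Nat.card K) ?_ Nat.card_pos
    calc Nat.card (Additive V) * Nat.card K = Nat.card K * Nat.card VN := by rw [hVN, mul_comm]
      _ = Nat.card (K ⊔ VN : Subgroup N) * Nat.card (K ⊓ VN : Subgroup N) := hprod.symm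
      _ ≤ Nat.card A * Nat.card (OffenderSL2Gen31.fixW (Additive V) Ab) :=
          Nat.mul_le_mul (hA.2 _ hKV) hKVfix
      _ = _ := by rw [← hAcard]; ring
  -- the torus
  obtain ⟨g, hgM, hgord, ⟨v₀, hv₀, hgv₀⟩, htrans⟩ := OffenderTorus31.exists_torus (T0 := T0)
    (M := M) hp2 (fun g hg => Subtype.ext (MulEquiv.ext fun v => hg (Additive.ofMul v))) (by
      obtain ⟨n, hn⟩ := ((hS.to_le hWS).to_subgroup V).exists_card_eq
      refine ⟨n, fun v => ?_⟩
      rw [← hn]
      exact card_nsmul_eq_zero') SP hM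
    (fun g hg v hv => by rw [hg v hv]; exact hv) (fun g hg => hg) hSM
    (by rw [hSP]; rintro _ ⟨g, rfl⟩ v hv; exact hχT g v hv)
    (fun R hR1 hRS hRn => by
      rw [hSP] at hRS hRn
      refine hlift R hRS hRn fun e => hR1 ((Subgroup.eq_bot_iff_forall R).2 fun x hx => ?_)
      obtain ⟨a, rfl⟩ := hRS hx
      refine (hker a).2 ?_
      rw [← e]
      exact ⟨a, hx, rfl⟩) hAb1
    (by rw [hSP]; exact Subgroup.map_le_range χ A)
    (by
      rintro _ ⟨a, ha, rfl⟩ _ ⟨b, hb, rfl⟩
      rw [← map_mul, ← map_mul, hAc a ha b hb]) hoff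
  obtain ⟨β, rfl⟩ := hπ's g
  -- restriction to `T`
  have hβT : ∀ t ∈ T, afun (β : MulAut W) t ∈ T := fun t ht => by
    have := hgM (emb ⟨t, ht⟩) ((hT0 _).2 ht)
    rwa [hT0, hval_smul] at this
  have hβm := ((mem_autGroup hWS).1 β.2).restrict_to hTW
  obtain ⟨ξ, hξ, hξe⟩ := hβm.exists_aut (hβm.im_self hβT)
  have hξemb : ∀ t : T, emb (ξ t) = π' β • emb t := fun t => hval_inj (by
    show ((ξ t : T) : Ω) = _
    rw [hval_smul, ← afun_coe]
    exact hξe t t.2)
  have hξpow : ∀ (n : ℕ) (t : T), emb ((ξ ^ n) t) = π' β ^ n • emb t := by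
    intro n
    induction n with
    | zero => intro t; simp
    | succ n ih =>
      intro t
      rw [pow_succ', pow_succ', MulAut.mul_apply, hξemb, ih, mul_smul]
  have hemb_inj : Function.Injective emb := fun a b h => Subtype.ext (congrArg val h)
  haveI : Finite T := finite_of_le hTS
  have hord : orderOf ξ ∣ orderOf (π' β) := orderOf_dvd_of_pow_eq_one (MulEquiv.ext fun t =>
    hemb_inj (by rw [hξpow, pow_orderOf_eq_one, one_smul]; rfl))
  refine ⟨Subgroup.zpowers ξ, Subgroup.zpowers_le.2 hξ, ?_, inferInstance, ?_, ?_⟩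
  · rw [Subgroup.zpowers_ne_bot]
    intro h1
    refine hgv₀ (hval_inj ?_)
    have := congrArg val (hξemb ⟨val v₀, (hT0 v₀).1 hv₀⟩)
    rw [h1] at this
    have e : emb ⟨val v₀, (hT0 v₀).1 hv₀⟩ = v₀ := hval_inj rfl
    rw [e] at this
    exact this.symm
  · rw [Nat.card_zpowers]
    exact hgord.coprime_dvd_left hord
  · -- everything in the commutator is a commutator with `ξ`
    let D : Subgroup T :=
      { carrier := {y | ∃ t : T, y = ξ t * t⁻¹}
        one_mem' := ⟨1, by simp⟩
        mul_mem' := by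
          rintro _ _ ⟨a, rfl⟩ ⟨b, rfl⟩
          refine ⟨a * b, Subtype.ext ?_⟩
          rw [map_mul, mul_inv_rev]
          simp only [Subgroup.coe_mul, InvMemClass.coe_inv]
          rw [mul_assoc, mul_assoc]
          congr 1
          have hb' : (a : Ω)⁻¹ * ((ξ b : T) : Ω) = ((ξ b : T) : Ω) * (a : Ω)⁻¹ :=
            hTc _ (S.inv_mem (hTS a.2)) _ (ξ b).2
          rw [← mul_assoc, hb', mul_assoc,
            hTc (a : Ω)⁻¹ (S.inv_mem (hTS a.2)) _ (T.inv_mem b.2)]
        inv_mem' := by
          rintro _ ⟨a, rfl⟩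
          refine ⟨a⁻¹, Subtype.ext ?_⟩
          rw [map_inv, mul_inv_rev, inv_inv]
          simp only [Subgroup.coe_mul, InvMemClass.coe_inv]
          exact hTc _ (hTS a.2) _ (T.inv_mem (ξ a).2) }
    have hD : Subgroup.closure {y : T | ∃ ψ ∈ Subgroup.zpowers ξ, ∃ t : T, y = ψ t * t⁻¹} ≤ D := by
      refine (Subgroup.closure_le D).2 ?_
      rintro _ ⟨ψ, hψ, t, rfl⟩
      obtain ⟨n, rfl⟩ := mem_powers_iff_mem_zpowers.2 hψ
      induction n with
      | zero => exact ⟨1, by simp⟩
      | succ n ih =>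
        have := D.mul_mem ⟨(ξ ^ n) t, rfl⟩ (ih ⟨n, by simp⟩)
        rw [mul_assoc, inv_mul_cancel_left] at this
        show (ξ ^ (n + 1)) t * t⁻¹ ∈ D
        rw [pow_succ', MulAut.mul_apply]
        exact this
    intro a b ha hb ha1 hb1
    obtain ⟨t₁, rfl⟩ := hD ha
    obtain ⟨t₂, rfl⟩ := hD hb
    have hsub : ∀ t : T, π' β • emb t - emb t = emb (ξ t * t⁻¹) := fun t => by
      rw [← hξemb, sub_eq_add_neg]
      rfl
    have hne : ∀ t : T, ξ t * t⁻¹ ≠ 1 → π' β • emb t - emb t ≠ 0 := fun t ht h0 => ht (hemb_inj (by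
      rw [← hsub, h0]; rfl))
    obtain ⟨k, hk⟩ := htrans (emb t₁) ((hT0 _).2 t₁.2) (emb t₂) ((hT0 _).2 t₂.2) (hne _ ha1) (hne _ hb1)
    refine ⟨ξ ^ k, Subgroup.pow_mem _ (Subgroup.mem_zpowers ξ) k, hemb_inj ?_⟩
    rw [hξpow, ← hsub, ← hsub, hk]

end Cfsg.Agent.FusionCentralTorus31
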