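import Cfsg.Agent.Lib.FusionSysBasic
import Cfsg.Agent.Lib.GlaubermanZJ
import Cfsg.Agent.Lib.ThompsonReplacement

/-!
A measure on subgroups of a finite `p`-group for downward inductions: the largest order of an
abelian subgroup, then the order of the Thompson subgroup (abelian version), then the order.
Also quadratic abelian subgroups from the replacement theorem (`exists_quad`).
-/

set_option autoImplicit false

namespace Cfsg.Agent.FusionThomJMeasure

open Cfsg Cfsg.FusionSystem Cfsg.Agent.FusionSysBasic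
open Cfsg.Agent.GlaubermanZJ (IsFam maxFam thomJ thomJ_le le_thomJ)

variable {Ω : Type*} [Group Ω] {S : Subgroup Ω} {F : FusionSystem S}

theorem isFam_zero {D A : Subgroup Ω} (hA : A ≤ D) (hc : ∀ a ∈ A, ∀ b ∈ A, a * b = b * a) :
    IsFam 0 D A :=
  ⟨hA, hc, fun a _ => pow_zero a⟩

/-- The largest order of an abelian subgroup. -/
noncomputable def amax (D : Subgroup Ω) : ℕ := sSup {n | ∃ A, IsFam 0 D A ∧ Nat.card A = n}

theorem comm_sup_zpowers {A : Subgroup Ω} (hA : ∀ a ∈ A, ∀ b ∈ A, a * b = b * a) {c : Ω}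
    (hc : ∀ a ∈ A, a * c = c * a) :
    ∀ a ∈ A ⊔ Subgroup.zpowers c, ∀ b ∈ A ⊔ Subgroup.zpowers c, a * b = b * a := by
  have h1 : A ⊔ Subgroup.zpowers c ≤ Subgroup.centralizer (A : Set Ω) :=
    sup_le (fun a ha => Subgroup.mem_centralizer_iff.2 fun b hb => hA b hb a ha)
      (Subgroup.zpowers_le.2 (Subgroup.mem_centralizer_iff.2 hc))
  have h2 : A ⊔ Subgroup.zpowers c ≤ Subgroup.centralizer ({c} : Set Ω) :=
    sup_le (fun a ha => Subgroup.mem_centralizer_singleton_iff.2 (hc a ha))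
      (Subgroup.zpowers_le.2 (Subgroup.mem_centralizer_singleton_iff.2 rfl))
  intro a ha b hb
  have h3 : A ⊔ Subgroup.zpowers c ≤ Subgroup.centralizer ({a} : Set Ω) :=
    sup_le (fun b hb => Subgroup.mem_centralizer_singleton_iff.2
        (Subgroup.mem_centralizer_iff.1 (h1 ha) b hb))
      (Subgroup.zpowers_le.2 (Subgroup.mem_centralizer_singleton_iff.2
        (Subgroup.mem_centralizer_singleton_iff.1 (h2 ha)).symm))
  exact (Subgroup.mem_centralizer_singleton_iff.1 (h3 hb)).symm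

section
variable [Finite S]

theorem bddAbove_amax {D : Subgroup Ω} (hD : D ≤ S) :
    BddAbove {n | ∃ A, IsFam 0 D A ∧ Nat.card A = n} := by
  haveI := finite_of_le hD
  exact ⟨Nat.card D, by rintro n ⟨A, hA, rfl⟩; exact Subgroup.card_le_of_le hA.le⟩

theorem card_le_amax {D A : Subgroup Ω} (hD : D ≤ S) (hA : IsFam 0 D A) : Nat.card A ≤ amax D :=
  le_csSup (bddAbove_amax hD) ⟨A, hA, rfl⟩

theorem exists_card_eq {D : Subgroup Ω} (hD : D ≤ S) :
    ∃ A, IsFam 0 D A ∧ Nat.card A = amax D :=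
  Nat.sSup_mem (s := {n | ∃ A, IsFam 0 D A ∧ Nat.card A = n})
    ⟨_, ⊥, isFam_zero bot_le fun a ha b hb => by
      rw [Subgroup.mem_bot.1 ha, Subgroup.mem_bot.1 hb], rfl⟩ (bddAbove_amax hD)

theorem mem_maxFam_iff {D A : Subgroup Ω} (hD : D ≤ S) :
    A ∈ maxFam 0 D ↔ IsFam 0 D A ∧ Nat.card A = amax D := by
  constructor
  · rintro ⟨hA, hmax⟩
    obtain ⟨B, hB, hBc⟩ := exists_card_eq hD
    exact ⟨hA, le_antisymm (card_le_amax hD hA) (hBc ▸ hmax B hB)⟩
  · rintro ⟨hA, he⟩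
    exact ⟨hA, fun B hB => he ▸ card_le_amax hD hB⟩

theorem exists_maxFam {D : Subgroup Ω} (hD : D ≤ S) : (maxFam 0 D).Nonempty := by
  obtain ⟨A, hA, he⟩ := exists_card_eq hD
  exact ⟨A, (mem_maxFam_iff hD).2 ⟨hA, he⟩⟩

theorem amax_mono {D D' : Subgroup Ω} (h : D ≤ D') (hD' : D' ≤ S) : amax D ≤ amax D' := by
  obtain ⟨A, hA, he⟩ := exists_card_eq (h.trans hD')
  exact he ▸ card_le_amax hD' (isFam_zero (hA.le.trans h) hA.comm)

theorem thomJ_mono {D D' : Subgroup Ω} (h : D ≤ D') (hD' : D' ≤ S) (he : amax D = amax D') :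
    thomJ 0 D ≤ thomJ 0 D' :=
  sSup_le fun A hA => by
    have hA' := (mem_maxFam_iff (h.trans hD')).1 hA
    exact le_thomJ ((mem_maxFam_iff hD').2
      ⟨isFam_zero (hA'.1.le.trans h) hA'.1.comm, hA'.2.trans he⟩)

/-- A subgroup between `J(D)` and `D` has the same maximal order and Thompson subgroup. -/
theorem eq_of_between {D C : Subgroup Ω} (hD : D ≤ S) (h1 : thomJ 0 D ≤ C) (h2 : C ≤ D) :
    amax C = amax D ∧ thomJ 0 C = thomJ 0 D := by
  have hle := amax_mono h2 hD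
  obtain ⟨A, hA⟩ := exists_maxFam hD
  have hA' := (mem_maxFam_iff hD).1 hA
  have he : amax C = amax D := le_antisymm hle
    (hA'.2 ▸ card_le_amax (h2.trans hD) (isFam_zero ((le_thomJ hA).trans h1) hA'.1.comm))
  refine ⟨he, le_antisymm (thomJ_mono h2 hD he) (sSup_le fun B hB => ?_)⟩
  have hB' := (mem_maxFam_iff hD).1 hB
  exact le_thomJ ((mem_maxFam_iff (h2.trans hD)).2
    ⟨isFam_zero ((le_thomJ hB).trans h1) hB'.1.comm, hB'.2.trans he.symm⟩)

theorem thomJ_idem {D : Subgroup Ω} (hD : D ≤ S) :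
    amax (thomJ 0 D) = amax D ∧ thomJ 0 (thomJ 0 D) = thomJ 0 D :=
  eq_of_between hD le_rfl (thomJ_le D)

/-- An element of `D` centralizing `J(D)` lies in it. -/
theorem mem_of_commute {D : Subgroup Ω} (hD : D ≤ S) {c : Ω} (hc : c ∈ D)
    (h : ∀ a ∈ thomJ 0 D, a * c = c * a) : c ∈ thomJ 0 D := by
  obtain ⟨A, hA⟩ := exists_maxFam hD
  have hA' := (mem_maxFam_iff hD).1 hA
  have hle : A ⊔ Subgroup.zpowers c ≤ D := sup_le hA'.1.le (Subgroup.zpowers_le.2 hc)
  have hfam := isFam_zero hle (comm_sup_zpowers hA'.1.comm fun a ha => h a (le_thomJ hA ha))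
  have := eq_of_le_of_card_ge (hle.trans hD) (le_sup_left : A ≤ _) (hA.2 _ hfam)
  rw [this] at hA
  exact le_thomJ hA (Subgroup.mem_sup_right (Subgroup.mem_zpowers c))

end

/-! ### Maps -/

theorem maxFam_im {P : Subgroup Ω} {f : Ω → Ω} (h : Mor F P f) :
    maxFam 0 (im P f) = (fun K => im K f) '' maxFam 0 P := by
  obtain ⟨φ, hφ, he⟩ := h
  have hinj : Function.Injective φ := F.injective_of_mem hφ
  have e1 : ∀ K : Subgroup Ω, K ≤ P → im K f = (K.subgroupOf P).map φ := by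
    intro K hK
    have hK' : Mor F K f := Mor.restrict_to ⟨φ, hφ, he⟩ hK
    ext y
    rw [hK'.mem_im]
    constructor
    · rintro ⟨z, hz, rfl⟩
      exact ⟨⟨z, hK hz⟩, hz, he _⟩
    · rintro ⟨z, hz, rfl⟩
      exact ⟨z, hz, (he z).symm⟩
  have hP : P = (⊤ : Subgroup P).map P.subtype := by
    rw [← MonoidHom.range_eq_map, Subgroup.range_subtype]
  rw [e1 P le_rfl, Subgroup.subgroupOf_self, GlaubermanZJ.maxFam_map hinj]
  have hm : maxFam 0 P = (Subgroup.map P.subtype) '' maxFam 0 (⊤ : Subgroup P) := by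
    conv_lhs => rw [hP, GlaubermanZJ.maxFam_map P.subtype_injective]
  rw [hm, Set.image_image]
  refine Set.image_congr fun K _ => ?_
  rw [e1 _ (Subgroup.map_subtype_le K), Subgroup.subgroupOf,
    Subgroup.comap_map_eq_self_of_injective P.subtype_injective]

theorem amax_im [Finite S] {P : Subgroup Ω} {f : Ω → Ω} (h : Mor F P f) :
    amax (im P f) = amax P := by
  obtain ⟨A, hA⟩ := exists_maxFam h.le
  have h1 : im A f ∈ maxFam 0 (im P f) := by rw [maxFam_im h]; exact ⟨A, hA, rfl⟩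
  rw [← ((mem_maxFam_iff h.im_le).1 h1).2, ← ((mem_maxFam_iff h.le).1 hA).2,
    (h.restrict_to hA.1.le).card_im]

theorem thomJ_im {P : Subgroup Ω} {f : Ω → Ω} (h : Mor F P f) :
    thomJ 0 (im P f) = im (thomJ 0 P) f := by
  refine le_antisymm (sSup_le ?_) ?_
  · rw [maxFam_im h]
    rintro _ ⟨A, hA, rfl⟩
    exact im_mono (le_thomJ hA)
  · refine im_le_iff.2 fun y hy => ?_
    obtain ⟨φ, hφ, he⟩ := id h
    let K : Subgroup P := (thomJ 0 (im P f)).comap φ
    have hle : thomJ 0 P ≤ K.map P.subtype := sSup_le fun A hA a ha => by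
      refine ⟨⟨a, hA.1.le ha⟩, ?_, rfl⟩
      show φ _ ∈ thomJ 0 (im P f)
      rw [he]
      exact le_thomJ (by rw [maxFam_im h]; exact ⟨A, hA, rfl⟩) (apply_mem_im ha)
    obtain ⟨z, hz, rfl⟩ := hle hy
    have hz' : φ z ∈ thomJ 0 (im P f) := hz
    rwa [he] at hz'

/-! ### The measure -/

/-- The first two components of the measure. -/
noncomputable def muJ (S D : Subgroup Ω) : ℕ := amax D * (Nat.card S + 1) + Nat.card (thomJ 0 D)

/-- The measure. -/
noncomputable def nu (S D : Subgroup Ω) : ℕ := muJ S D * (Nat.card S + 1) + Nat.card D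

variable [Finite S]

theorem muJ_le {D D' : Subgroup Ω} (h : D ≤ D') (hD' : D' ≤ S) : muJ S D ≤ muJ S D' := by
  rcases (amax_mono h hD').eq_or_lt with he | hlt
  · haveI := finite_of_le ((thomJ_le (n := 0) D').trans hD')
    exact Nat.add_le_add (le_of_eq (by rw [he])) (Subgroup.card_le_of_le (thomJ_mono h hD' he))
  · have hb : Nat.card (thomJ 0 D) ≤ Nat.card S :=
      Subgroup.card_le_of_le ((thomJ_le D).trans (h.trans hD'))
    unfold muJ
    calc amax D * (Nat.card S + 1) + Nat.card (thomJ 0 D)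
        ≤ amax D * (Nat.card S + 1) + (Nat.card S + 1) := by omega
      _ = (amax D + 1) * (Nat.card S + 1) := by ring
      _ ≤ amax D' * (Nat.card S + 1) := Nat.mul_le_mul_right _ hlt
      _ ≤ _ := Nat.le_add_right _ _

theorem muJ_lt {D D' : Subgroup Ω} (h : D ≤ D') (hD' : D' ≤ S) (hJ : ¬ thomJ 0 D' ≤ D) :
    muJ S D < muJ S D' := by
  rcases (amax_mono h hD').eq_or_lt with he | hlt
  · haveI := finite_of_le ((thomJ_le (n := 0) D').trans hD')
    have hle := thomJ_mono h hD' he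
    have hne : Nat.card (thomJ 0 D) < Nat.card (thomJ 0 D') :=
      lt_of_le_of_ne (Subgroup.card_le_of_le hle) fun e => hJ
        ((eq_of_le_of_card_ge ((thomJ_le D').trans hD') hle e.ge).ge.trans (thomJ_le D))
    unfold muJ
    rw [he]
    omega
  · have hb : Nat.card (thomJ 0 D) ≤ Nat.card S :=
      Subgroup.card_le_of_le ((thomJ_le D).trans (h.trans hD'))
    haveI := finite_of_le ((thomJ_le (n := 0) D').trans hD')
    have hpos : 0 < Nat.card (thomJ 0 D') := Nat.card_pos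
    unfold muJ
    calc amax D * (Nat.card S + 1) + Nat.card (thomJ 0 D)
        < amax D * (Nat.card S + 1) + (Nat.card S + 1) := by omega
      _ = (amax D + 1) * (Nat.card S + 1) := by ring
      _ ≤ amax D' * (Nat.card S + 1) := Nat.mul_le_mul_right _ hlt
      _ ≤ _ := Nat.le_add_right _ _

theorem nu_le {D D' : Subgroup Ω} (h : D ≤ D') (hD' : D' ≤ S) : nu S D ≤ nu S D' := by
  haveI := finite_of_le hD'
  exact Nat.add_le_add (Nat.mul_le_mul_right _ (muJ_le h hD')) (Subgroup.card_le_of_le h)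

theorem nu_lt {D D' : Subgroup Ω} (h : D < D') (hD' : D' ≤ S) : nu S D < nu S D' := by
  haveI := finite_of_le hD'
  refine Nat.add_lt_add_of_le_of_lt (Nat.mul_le_mul_right _ (muJ_le h.le hD'))
    (lt_of_le_of_ne (Subgroup.card_le_of_le h.le) fun e => h.ne ?_)
  exact eq_of_le_of_card_ge hD' h.le e.ge

theorem nu_lt_of_muJ_lt {D D' : Subgroup Ω} (hD : D ≤ S) (h : muJ S D < muJ S D') :
    nu S D < nu S D' := by
  have hb : Nat.card D ≤ Nat.card S := Subgroup.card_le_of_le hD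
  unfold nu
  calc muJ S D * (Nat.card S + 1) + Nat.card D
      < muJ S D * (Nat.card S + 1) + (Nat.card S + 1) := by omega
    _ = (muJ S D + 1) * (Nat.card S + 1) := by ring
    _ ≤ muJ S D' * (Nat.card S + 1) := Nat.mul_le_mul_right _ h
    _ ≤ _ := Nat.le_add_right _ _

theorem muJ_im {P : Subgroup Ω} {f : Ω → Ω} (h : Mor F P f) : muJ S (im P f) = muJ S P := by
  rw [muJ, muJ, amax_im h, thomJ_im h, (h.restrict_to (thomJ_le P)).card_im]

theorem nu_im {P : Subgroup Ω} {f : Ω → Ω} (h : Mor F P f) : nu S (im P f) = nu S P := by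
  rw [nu, nu, muJ_im h, h.card_im]

/-! ### Quadratic abelian subgroups -/

/-- If `J(N)` is not inside `R`, some abelian subgroup of largest order outside `R` is normalized
by the centre of `R`. -/
theorem exists_quad {p : ℕ} [Fact p.Prime] (hS : IsPGroup p S) {N R : Subgroup Ω} (hN : N ≤ S)
    (hRN : R ≤ N) (hn : N ≤ Subgroup.normalizer (R : Set Ω)) (hJ : ¬ thomJ 0 N ≤ R) :
    ∃ A ∈ maxFam 0 N, ¬ A ≤ R ∧
      ∀ z ∈ R ⊓ Subgroup.centralizer (R : Set Ω), ∀ a ∈ A, a * z * a⁻¹ * z⁻¹ ∈ A := by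
  classical
  haveI := finite_of_le hN
  haveI : Group.IsNilpotent N := (hS.to_le hN).isNilpotent
  set Z := R ⊓ Subgroup.centralizer (R : Set Ω) with hZ
  have hfin : (maxFam 0 N).Finite :=
    Set.Finite.subset ((Set.finite_range fun K : Subgroup N => K.map N.subtype))
      fun A hA => ⟨A.subgroupOf N, Subgroup.map_subgroupOf_eq_of_le hA.1.le⟩
  have hne : {A | A ∈ maxFam 0 N ∧ ¬ A ≤ R}.Nonempty := by
    by_contra hcon
    refine hJ (sSup_le fun A hA => ?_)
    by_contra hA'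
    exact hcon ⟨A, hA, hA'⟩
  obtain ⟨A, ⟨hA, hAR⟩, hmax⟩ := Set.exists_max_image _
    (fun A : Subgroup Ω => Nat.card ↥(Z ⊓ A)) (hfin.subset fun A hA => hA.1) hne
  have hZN : Z ≤ N := inf_le_left.trans hRN
  have hZA : Z ≤ Subgroup.normalizer (A : Set Ω) := by
    by_contra hcon
    set A₀ := A.subgroupOf N
    set D₀ := Z.subgroupOf N
    have hA₀c : IsMulCommutative A₀ :=
      ⟨⟨fun a b => Subtype.ext (Subtype.ext (hA.1.comm _ a.2 _ b.2))⟩⟩
    have hD₀c : IsMulCommutative D₀ :=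
      ⟨⟨fun a b => Subtype.ext (Subtype.ext (Subgroup.mem_centralizer_iff.1 b.2.2 _ a.2.1))⟩⟩
    have hnZ : A₀ ≤ Subgroup.normalizer (D₀ : Set N) := fun a _ => by
      have ha : (a : Ω) ∈ Subgroup.normalizer (Z : Set Ω) := by
        refine mem_normalizer_of_cj_le (hZN.trans hN) fun y hy => ?_
        have haR := hn a.2
        refine ⟨cj_mem_of_normalizer haR hy.1, Subgroup.mem_centralizer_iff.2 fun r hr => ?_⟩
        have h1 := Subgroup.mem_centralizer_iff.1 hy.2 _
          (cj_mem_of_normalizer (Subgroup.inv_mem _ haR) hr)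
        calc r * cj (a : Ω) y = cj (a : Ω) (cj (a : Ω)⁻¹ r * y) := by simp [cj_apply, mul_assoc]
          _ = cj (a : Ω) y * r := by rw [h1]; simp [cj_apply, mul_assoc]
      exact Subgroup.mem_normalizer_iff.2 fun y => Subgroup.mem_normalizer_iff.1 ha y
    have hnA : ¬ D₀ ≤ Subgroup.normalizer (A₀ : Set N) := by
      refine fun h => hcon fun z hz => mem_normalizer_of_cj_le (hA.1.le.trans hN) fun y hy => ?_
      exact (Subgroup.mem_normalizer_iff.1 (h (show (⟨z, hZN hz⟩ : N) ∈ D₀ from hz))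
        ⟨y, hA.1.le hy⟩).1 hy
    obtain ⟨B₀, hB, hcard, hlt, hBn, -, -⟩ :=
      ThompsonReplacement.replacement hA₀c hD₀c hnZ hnA
    set B := B₀.map N.subtype with hBdef
    have hBN : B ≤ N := Subgroup.map_subtype_le _
    have hBc : ∀ a ∈ B, ∀ b ∈ B, a * b = b * a := by
      rintro _ ⟨a, ha, rfl⟩ _ ⟨b, hb, rfl⟩
      exact congrArg (fun t : B₀ => ((t : N) : Ω)) (hB.is_comm.comm ⟨a, ha⟩ ⟨b, hb⟩)
    have hBfam := isFam_zero hBN hBc
    have hAcard : Nat.card A₀ = Nat.card A :=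
      Nat.card_congr (Subgroup.subgroupOfEquivOfLe hA.1.le).toEquiv
    have hBcard : Nat.card B = Nat.card B₀ :=
      Subgroup.card_map_of_injective N.subtype_injective
    have hBmax : B ∈ maxFam 0 N :=
      ⟨hBfam, fun C hC => (hA.2 C hC).trans (by rw [hBcard, ← hAcard]; exact hcard)⟩
    have hmapZ : ∀ K : Subgroup N, (D₀ ⊓ K).map N.subtype = Z ⊓ K.map N.subtype := fun K => by
      rw [Subgroup.map_inf _ _ _ N.subtype_injective, Subgroup.map_subgroupOf_eq_of_le hZN]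
    have hlt' : Nat.card ↥(Z ⊓ A) < Nat.card ↥(Z ⊓ B) := by
      have h1 : Nat.card ↥(D₀ ⊓ A₀) < Nat.card ↥(D₀ ⊓ B₀) :=
        lt_of_le_of_ne (Subgroup.card_le_of_le hlt.le)
          fun e => hlt.ne (Subgroup.eq_of_le_of_card_ge hlt.le e.ge)
      rwa [← Subgroup.card_map_of_injective N.subtype_injective, hmapZ,
        Subgroup.map_subgroupOf_eq_of_le hA.1.le,
        ← Subgroup.card_map_of_injective N.subtype_injective, hmapZ] at h1
    have hBR : B ≤ R := by
      by_contra hBR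
      exact absurd (hmax B ⟨hBmax, hBR⟩) (not_le.2 hlt')
    refine hnA (le_trans (fun z hz => ?_) hBn)
    have hzc : ∀ b ∈ B, b * (z : Ω) = (z : Ω) * b := fun b hb =>
      Subgroup.mem_centralizer_iff.1 hz.2 b (hBR hb)
    have hle : B ⊔ Subgroup.zpowers (z : Ω) ≤ N := sup_le hBN (Subgroup.zpowers_le.2 z.2)
    have he := eq_of_le_of_card_ge (hle.trans hN) (le_sup_left : B ≤ _)
      (hBmax.2 _ (isFam_zero hle (comm_sup_zpowers hBc hzc)))
    have hzB : (z : Ω) ∈ B := he.symm ▸ Subgroup.mem_sup_right (Subgroup.mem_zpowers _)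
    obtain ⟨b, hb, hbe⟩ := hzB
    rwa [← show b = z from Subtype.ext hbe]
  refine ⟨A, hA, hAR, fun z hz a ha => ?_⟩
  have := A.mul_mem ha ((Subgroup.mem_normalizer_iff.1 (hZA hz) a⁻¹).1 (A.inv_mem ha))
  simpa [mul_assoc] using this

end Cfsg.Agent.FusionThomJMeasure
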