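import Cfsg.Agent.Lib.FusionCocycleShift
import Cfsg.Agent.Lib.FusionThomJMeasure

/-!
For `p` odd and `E` normal in `F` over `T`, every `x ∈ C_S(T)` has a translate `x * d`, `d ∈ Z(T)`,
centralized by `E` (`exists_valid`).
-/

set_option autoImplicit false

namespace Cfsg.Agent.FusionCentralizerOdd

open Cfsg Cfsg.FusionSystem Cfsg.Agent.FusionSysBasic Cfsg.Agent.FusionSysSaturated
open Cfsg.Agent.FusionKit88 Cfsg.Agent.FusionLiftCocycle
open Cfsg.Agent.FusionCocycleShift Cfsg.Agent.FusionThomJMeasure Cfsg.Agent.FusionCentralizerSub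
open Cfsg.Agent.GlaubermanZJ (thomJ thomJ_le le_thomJ)

variable {Ω : Type*} [Group Ω] {S T : Subgroup Ω} {F : FusionSystem S} {E : FusionSystem T}
  {p : ℕ}

/-- The map extends to a map fixing `x`. -/
def Fix (F : FusionSystem S) (x : Ω) (P : Subgroup Ω) (f : Ω → Ω) : Prop :=
  ∃ ψ, Mor F (P ⊔ Subgroup.zpowers x) ψ ∧ (∀ y ∈ P, ψ y = f y) ∧ ψ x = x

theorem Fix.restrict {x : Ω} {P P' : Subgroup Ω} {f g : Ω → Ω} (h : Fix F x P' f) (hle : P ≤ P')
    (he : ∀ y ∈ P, f y = g y) : Fix F x P g := by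
  obtain ⟨ψ, hψ, hψe, hψx⟩ := h
  exact ⟨ψ, hψ.restrict_to (sup_le_sup_right hle _),
    fun y hy => (hψe y (hle hy)).trans (he y hy), hψx⟩

theorem eq_self_of_zpowers {x : Ω} {P : Subgroup Ω} {ψ : Ω → Ω}
    (h : Mor F (P ⊔ Subgroup.zpowers x) ψ) (hx : ψ x = x) :
    ∀ z ∈ Subgroup.zpowers x, ψ z = z := by
  intro z hz
  obtain ⟨i, rfl⟩ := Subgroup.mem_zpowers_iff.1 hz
  obtain ⟨φ, -, hφ⟩ := h
  have e := map_zpow φ ⟨x, Subgroup.mem_sup_right (Subgroup.mem_zpowers x)⟩ i
  rw [hφ, hφ, hx] at e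
  simpa using e

theorem closed_fix {x : Ω} (hT : T ≤ S) (hx : x ∈ centralizerIn S T) :
    FusionInduct88.Closed E (U := T) (Fix F x) :=
  { congr := fun ⟨ψ, hψ, he, hC'⟩ hfg => ⟨ψ, hψ, fun y hy => (he y hy).trans (hfg y hy), hC'⟩
    conj := fun {P g} hP hg => ⟨cj g, mor_cj (sup_le (hP.trans hT)
      (Subgroup.zpowers_le.2 (mem_centralizerIn.1 hx).1)) (hT hg), fun _ _ => rfl,
      cj_eq_self hg hx⟩
    comp := fun {P Q f g} _ _ _ _ hfQ ⟨ψ, hψ, he, hC'⟩ ⟨χ, hχ, he', hC''⟩ =>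
      ⟨χ ∘ ψ, hψ.comp hχ fun y hy => mor_sup_induction hψ
        (fun z hz => he z hz ▸ Subgroup.mem_sup_left (hfQ z hz))
        (fun z hz => (eq_self_of_zpowers hψ hC' z hz).symm ▸ Subgroup.mem_sup_right hz) hy,
       fun y hy => by simp only [Function.comp_apply]; rw [he y hy, he' _ (hfQ y hy)],
       by simp only [Function.comp_apply]; rw [hC', hC'']⟩
    inv := fun {P f g} hf _ _ hgf ⟨ψ, hψ, he, hC'⟩ => by
      obtain ⟨χ, hχ, hχψ, -, -⟩ := hψ.exists_inv
      have hle : im P f ⊔ Subgroup.zpowers x ≤ im (P ⊔ Subgroup.zpowers x) ψ :=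
        sup_le ((im_congr he).ge.trans (im_mono le_sup_left))
          fun z hz => eq_self_of_zpowers hψ hC' z hz ▸ apply_mem_im (Subgroup.mem_sup_right hz)
      refine ⟨χ, hχ.restrict_to hle, fun y hy => ?_, ?_⟩
      · obtain ⟨w, hw, rfl⟩ := hf.mem_im.1 hy
        rw [hgf w hw]
        conv_lhs => rw [← he w hw]
        exact hχψ w (Subgroup.mem_sup_left hw)
      · conv_lhs => rw [← hC']
        exact hχψ x (Subgroup.mem_sup_right (Subgroup.mem_zpowers x)) }

theorem aut_preserves {R : Subgroup Ω} (hRT : R ≤ T) {a : MulAut R} (ha : a ∈ E.autGroup R)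
    {y : Ω} (hy : y ∈ thomJ 0 R) : afun a y ∈ thomJ 0 R := by
  have h1 := thomJ_im ((mem_autGroup hRT).1 ha)
  rw [im_afun] at h1
  rw [h1]
  exact apply_mem_im hy

theorem cent_normalizer {x : Ω} (hx : x ∈ centralizerIn S T) (R : Subgroup Ω) :
    ∀ t ∈ normalizerIn T R, cj t x = x := fun _ ht => cj_eq_self ht.1 hx

variable [Finite S] [Fact p.Prime] (hS : IsPGroup p S) (hF : F.IsSaturated p)

omit [Finite S] in
/-- Induction along a monotone invariant measure. -/
theorem induction_measure [Finite T] (hT : IsPGroup p T) (hE : E.IsSaturated p)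
    {Φ : Subgroup Ω → (Ω → Ω) → Prop} (h : FusionInduct88.Closed E (U := T) Φ)
    (ν : Subgroup Ω → ℕ) (hmono : ∀ P Q, P ≤ Q → Q ≤ T → ν P ≤ ν Q)
    (hinv : ∀ P f, Mor E P f → ν (im P f) = ν P)
    (haut : ∀ R, E.IsFullyNormalized R → (∀ Q g, Mor E Q g → ν R < ν Q → Φ Q g) →
      ∀ α ∈ E.autGroup R, Φ R (afun α))
    {P : Subgroup Ω} {f : Ω → Ω} (hf : Mor E P f) : Φ P f := by
  suffices ∀ d n, ν T < n + d → ∀ P f, Mor E P f → n ≤ ν P → Φ P f from
    this (ν T + 1) 0 (by omega) P f hf (Nat.zero_le _)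
  intro d
  induction d with
  | zero =>
    intro n hn P f hf hle
    have := hmono P T hf.le le_rfl
    omega
  | succ d ih =>
    intro n hn P f hf hle
    have hc : FusionInduct88.Closed E (U := T) (fun Q g => n ≤ ν Q → Φ Q g) :=
      { congr := fun hq he hlt => h.congr (hq hlt) he
        conj := fun hP hg _ => h.conj hP hg
        comp := fun {P Q f g} hf hg hP hQ hfQ h1 h2 hlt => h.comp hf hg hP hQ hfQ (h1 hlt) (h2 (by
          have := hmono (im P f) Q (im_le_iff.2 hfQ) hQ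
          rw [hinv P f hf] at this
          omega))
        inv := fun {P f g} hf hg hP hgf h1 hlt =>
          h.inv hf hg hP hgf (h1 (hinv P f hf ▸ hlt)) }
    exact FusionInduct88.induction hT hE hc (fun R hR α hα hR' =>
      haut R hR (fun Q g hg hQ => ih (n + 1) (by omega) Q g hg (by omega)) α hα) hf hle

omit [Finite S] in
/-- An automorphism normalizing the automorphisms induced by `N` extends to `R ⊔ N`. -/
theorem exists_extend [Finite T] (hT : IsPGroup p T) (hE : E.IsSaturated p) {R N : Subgroup Ω}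
    (hR : E.IsFullyNormalized R) (hN : N ≤ normalizerIn T R) {a : MulAut R}
    (ha : a ∈ E.autGroup R)
    (h : ∀ (t : Ω) (ht : t ∈ N), a * nHom T R ⟨t, hN ht⟩ * a⁻¹ ∈ autInducedBy T R) :
    ∃ f, Mor E (R ⊔ N) f ∧ ∀ y ∈ R, f y = afun a y := by
  refine (receptive_iff.1 (receptive_of_fullyNormalized hT hE hR)).2 R _ N
    ((mem_autGroup hR.1).1 ha) (im_afun _) (hN.trans inf_le_left) (hN.trans inf_le_right)
    fun t ht => ?_
  obtain ⟨s, hs, -, hse⟩ := mem_autInducedBy.1 (h t ht)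
  refine ⟨s, hs, fun y hy => ?_⟩
  have h2 := hse _ (afun_mem a hy)
  rw [afun_mul _ _ (afun_mem _ hy), afun_inv_apply _ hy, afun_mul _ _ hy, afun_nHom _ hy] at h2
  exact h2

/-! ### Quadratic offenders -/

variable {x : Ω}

include hS in
/-- If `J(N_T(R))` is not inside `R` and the maps on the larger such subgroups fix `x`, the cocycle
of `x` at `R` is trivial (`p` odd). -/
theorem eq_one_of_offender (hp : p ≠ 2) (hTS : T ≤ S) (hE : E.IsSaturated p) {R : Subgroup Ω}
    (hR : E.IsFullyNormalized R) {W : Subgroup (MulAut R)} {c : MulAut R → Ω}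
    (hD : Data F E p R x W c) (hJ : ¬ thomJ 0 (normalizerIn T R) ≤ R)
    (hbig : ∀ X g, Mor E X g → R < X → ¬ thomJ 0 X ≤ R → Fix F x X g) :
    ∀ a ∈ W, c a = 1 := by
  classical
  haveI := finite_of_le hTS
  have hTp : IsPGroup p T := hS.to_le hTS
  haveI := finite_of_le hR.1
  haveI : Finite ↥(zc R) :=
    Finite.of_injective _ (Subgroup.inclusion_injective (inf_le_left : zc R ≤ R))
  haveI : Finite (Additive ↥(zc R)) := Finite.of_equiv _ Additive.ofMul
  obtain ⟨A, hA, hAR, hAq⟩ := exists_quad hTp (inf_le_left : normalizerIn T R ≤ T)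
    (le_normalizerIn hR.1) inf_le_right hJ
  obtain ⟨P, hP⟩ := exists_sylow hTp hE hR hD.le hD.ind
  obtain ⟨k, hk⟩ := card_zc hS (hR.1.trans hTS)
  obtain ⟨d, hd, -⟩ := QuadraticFixedPoints.exists_coboundary hk (cz hD) (cz_mul hD)
    (P : Subgroup W) (fun a ha => ext_zc (hD.inn a (by rw [hP] at ha; exact ha))) P.not_dvd_index
  set s : Set W := {a | a ∈ (P : Subgroup W) ∧
    ∀ m : Additive ↥(zc R), a • (a • m - m) = a • m - m} with hs
  have hconj : ∀ a ∈ s, ∀ g : W, g * a * g⁻¹ ∈ (P : Subgroup W) → g * a * g⁻¹ ∈ s := by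
    rintro a ⟨-, ha⟩ g hg
    refine ⟨hg, fun m => ?_⟩
    have := congrArg (fun y => g • y) (ha (g⁻¹ • m))
    simpa [mul_smul, smul_sub] using this
  set L : Subgroup W := Subgroup.closure s with hL
  have hLP : L ≤ (P : Subgroup W) := (Subgroup.closure_le _).2 fun a ha => ha.1
  -- the subgroup of `N_T(R)` inducing `L`
  set W' : Subgroup (MulAut R) := L.map W.subtype with hW'
  set X : Subgroup Ω := (W'.comap (nHom T R)).map
    (T ⊓ Subgroup.normalizer (R : Set Ω)).subtype with hX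
  have hXmem : ∀ (t : Ω) (ht : t ∈ normalizerIn T R),
      nHom T R ⟨t, ht⟩ ∈ W' → t ∈ X := fun t ht h => ⟨⟨t, ht⟩, h, rfl⟩
  have hXN : X ≤ normalizerIn T R := Subgroup.map_subtype_le _
  have hind : ∀ (t : Ω) (ht : t ∈ normalizerIn T R),
      (∀ z ∈ zc R, cj t (cj t z * z⁻¹) = cj t z * z⁻¹) → t ∈ X := by
    intro t ht hq
    have hm : nHom T R ⟨t, ht⟩ ∈ autInducedBy T R := (autInducedBy_eq_range T R).ge ⟨_, rfl⟩
    refine hXmem t ht ⟨⟨_, hD.ind hm⟩, Subgroup.subset_closure ⟨?_, fun m => ?_⟩, rfl⟩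
    · rw [hP]; exact hm
    · refine ext_zc ?_
      have hz := (Additive.toMul m).2
      have hz' := afun_mem_zc (nHom T R ⟨t, ht⟩) hz
      have key := hq _ hz
      have e1 : ∀ y ∈ R, afun (nHom T R ⟨t, ht⟩) y = cj t y := fun y hy => afun_nHom _ hy
      rw [← e1 _ hz.1, ← e1 _ (mul_mem hz'.1 (inv_mem hz.1))] at key
      rw [sub_eq_add_neg]
      exact key
  have hRX : R ≤ X := fun r hr => by
    refine hind r ⟨hR.1 hr, Subgroup.le_normalizer hr⟩ fun z hz => ?_
    have e : cj r z = z := by rw [cj_apply, (commute_zc hz hr).eq, mul_inv_cancel_right]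
    rw [e, mul_inv_cancel]
    simp [cj_apply]
  have hAX : A ≤ X := fun a ha => by
    refine hind a (hA.1.le ha) fun z hz => ?_
    have hmem := hAq z hz a ha
    rw [cj_apply a z, cj_apply, mul_inv_eq_iff_eq_mul]
    exact hA.1.comm a ha _ hmem
  have hlt : R < X := lt_of_le_of_ne hRX fun e => hAR (hAX.trans e.ge)
  have hJX : ¬ thomJ 0 X ≤ R := fun h => hAR (le_trans (le_thomJ
    ⟨isFam_zero hAX hA.1.comm, fun B hB => hA.2 B (isFam_zero (hB.le.trans hXN) hB.comm)⟩) h)
  -- the normalizer of `L`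
  have hfix : Subgroup.normalizer (L : Set W) ≤ ker hD := by
    refine le_of_sylow _ _ P (fun g hg => ?_) (fun g hg => hD.inn g (by rw [hP] at hg; exact hg))
      fun g hg hco => ?_
    · have h1 : ∀ g ∈ (P : Subgroup W), ∀ a ∈ L, g * a * g⁻¹ ∈ L := by
        intro g hg a ha
        refine (show L ≤ L.comap (MulAut.conj g).toMonoidHom from
          (Subgroup.closure_le _).2 fun b hb => Subgroup.subset_closure
            (hconj b hb g ((P : Subgroup W).mul_mem ((P : Subgroup W).mul_mem hg hb.1)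
              ((P : Subgroup W).inv_mem hg)))) ha
      refine Subgroup.mem_normalizer_iff.2 fun a => ⟨fun ha => h1 g hg a ha, fun ha => ?_⟩
      simpa [mul_assoc] using h1 g⁻¹ ((P : Subgroup W).inv_mem hg) _ ha
    · obtain ⟨f, hf, hfe⟩ := exists_extend hTp hE hR hXN (hD.le g.2) fun t ht => by
        obtain ⟨⟨t', ht'⟩, ht'', rfl⟩ := ht
        obtain ⟨l, hl, hle⟩ := Subgroup.mem_comap.1 ht''
        show (g : MulAut R) * nHom T R ⟨t', ht'⟩ * (g : MulAut R)⁻¹ ∈ autInducedBy T R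
        rw [← hle]
        have h1 := hLP ((Subgroup.mem_normalizer_iff.1 hg l).1 hl)
        rw [hP] at h1
        exact h1
      rw [sup_eq_right.2 hRX] at hf
      obtain ⟨ψ, hψ, hψe, hψx⟩ := (hbig X f hf hlt hJX).restrict hRX hfe
      exact eq_one_of_fix hD g.2 (by rwa [Subgroup.orderOf_coe]) hψ hψe hψx
  have hall := QuadraticFixedPoints.smul_eq_of_quadratic hp hk P s (fun a ha => ha.1) hconj
    (fun a ha => ha.2) (d := d) fun g hg => by
      have h1 : c g = 1 := hfix hg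
      exact (sub_eq_zero.1 ((hd g).symm.trans (ext_zc h1))).symm
  intro a ha
  have h2 := hd ⟨a, ha⟩
  rw [hall, sub_self] at h2
  exact congrArg (fun z : Additive ↥(zc R) => (z.toMul : Ω)) h2

/-! ### One subgroup -/

include hS hF in
/-- The automorphisms of `R` fix `x` if the maps on the larger subgroups do and the cocycle at an
invariant subgroup `Q ≤ R` is trivial. -/
theorem fix_of_data (hE : E.IsNormalIn F p) (hx : x ∈ centralizerIn S T) {R Q : Subgroup Ω}
    (hR : E.IsFullyNormalized R) (hRc : centralizerIn T R ≤ R) (hQR : Q ≤ R) (hQT : Q ≤ T)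
    (hQc : centralizerIn T Q ≤ Q) {W : Subgroup (MulAut Q)}
    (hD : Data F E p Q x W (fun _ => 1)) (hN : normalizerIn T R ≤ normalizerIn T Q)
    (hpres : ∀ α ∈ E.autGroup R, ∀ q ∈ Q, afun α q ∈ Q)
    (hbig : ∀ g, Mor E (R ⊔ normalizerIn T R) g → Fix F x (R ⊔ normalizerIn T R) g) :
    ∀ α ∈ E.autGroup R, Fix F x R (afun α) := by
  classical
  have hI := hE.1.2.2
  have hTS : T ≤ S := hI.2.1.1
  haveI := finite_of_le hTS
  haveI := finite_of_le hR.1
  have hTp : IsPGroup p T := hS.to_le hTS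
  have hxR : x ∈ centralizerIn S R := cent_le_cent hR.1 hx
  obtain ⟨WR, cR, hDR⟩ := exists_data hS hF hE hR hRc hxR (cent_normalizer hx R)
  have hzQ : zc R ≤ Q := fun z hz => hQc (mem_centralizerIn.2
    ⟨hR.1 hz.1, fun q hq => (mem_zc.1 hz).2 q (hQR hq)⟩)
  have hres : ∀ a ∈ E.autGroup R, ∃ a' ∈ E.autGroup Q, ∀ q ∈ Q, afun a' q = afun a q := by
    intro a ha
    have hm := ((mem_autGroup hR.1).1 ha).restrict_to hQR
    exact hm.exists_aut (hm.im_self (hpres a ha))
  let M : Subgroup (MulAut R) :=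
    { carrier := {m | m ∈ WR ∧ ∃ b ∈ W, ∀ q ∈ Q, afun m q = afun b q}
      one_mem' := ⟨one_mem _, 1, one_mem _, fun q hq => by rw [afun_one hq, afun_one (hQR hq)]⟩
      mul_mem' := by
        rintro m m' ⟨hm, b, hb, he⟩ ⟨hm', b', hb', he'⟩
        exact ⟨mul_mem hm hm', b * b', mul_mem hb hb', fun q hq => by
          rw [afun_mul _ _ (hQR hq), afun_mul _ _ hq, he' q hq, he _ (afun_mem b' hq)]⟩
      inv_mem' := by
        rintro m ⟨hm, b, hb, he⟩
        refine ⟨inv_mem hm, b⁻¹, inv_mem hb, fun q hq => ?_⟩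
        have h2 := he _ (afun_mem b⁻¹ hq)
        rw [afun_apply_inv _ hq] at h2
        conv_lhs => rw [← h2]
        exact afun_inv_apply _ (hQR (afun_mem b⁻¹ hq)) }
  have hMn : ∀ a ∈ E.autGroup R, ∀ m ∈ M, m ∈ E.autGroup R → a * m * a⁻¹ ∈ M := by
    rintro a ha m ⟨hm, b, hb, he⟩ -
    obtain ⟨a', ha', hae⟩ := hres a ha
    refine ⟨hDR.normal a ha m hm, a' * b * a'⁻¹, hD.normal a' ha' b hb, fun q hq => ?_⟩
    have hinv : afun a⁻¹ q = afun a'⁻¹ q := by
      have h2 := hae _ (afun_mem a'⁻¹ hq)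
      rw [afun_apply_inv _ hq] at h2
      conv_lhs => rw [h2]
      exact afun_inv_apply _ (hQR (afun_mem a'⁻¹ hq))
    rw [afun_mul _ _ (hQR hq), afun_mul _ _ (afun_mem _ (hQR hq)), afun_mul _ _ hq,
      afun_mul _ _ (afun_mem _ hq), hinv, he _ (afun_mem _ hq), hae _ (afun_mem _ (afun_mem _ hq))]
  have hindM : autInducedBy T R ≤ M := by
    intro a ha
    obtain ⟨t, ht, htn, hte⟩ := mem_autInducedBy.1 ha
    have htQ := hN ⟨ht, htn⟩
    refine ⟨hDR.ind ha, nHom T Q ⟨t, htQ⟩, hD.ind ((autInducedBy_eq_range T Q).ge ⟨_, rfl⟩),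
      fun q hq => ?_⟩
    rw [afun_nHom _ hq, hte q (hQR hq)]
  have hker : ∀ m ∈ M, cR m = 1 := by
    obtain ⟨P, hP⟩ := exists_sylow hTp hE.1.1 hR hDR.le hDR.ind
    have hle := le_of_sylow (M.subgroupOf WR) (ker hDR) P
      (fun a ha => hindM (by rw [hP] at ha; exact ha))
      (fun a ha => hDR.inn a (by rw [hP] at ha; exact ha)) fun a haM hco => ?_
    · exact fun m hm => hle (x := ⟨m, hm.1⟩) hm
    obtain ⟨-, b, hb, hbe⟩ := (haM : (a : MulAut R) ∈ M)
    obtain ⟨σ, hσ, hσe, hσx⟩ := hDR.ext a a.2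
    have hco' : (orderOf (a : MulAut R)).Coprime p := by rwa [Subgroup.orderOf_coe]
    have hxR' : x ∈ R ⊔ Subgroup.zpowers x := Subgroup.mem_sup_right (Subgroup.mem_zpowers x)
    have hit : ∀ i : ℕ, σ^[i] x = x * cR ((a : MulAut R) ^ i) := by
      intro i
      induction i with
      | zero => rw [pow_zero, c_one hDR, mul_one]; rfl
      | succ i ih =>
        have hci := (hDR.mem _ (WR.pow_mem a.2 i)).1
        rw [Function.iterate_succ_apply', ih, hσ.map_mul hxR' (Subgroup.mem_sup_left hci), hσx,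
          hσe _ hci, pow_succ', hDR.mul _ a.2 _ (WR.pow_mem a.2 i), mul_assoc]
    have hbe' : ∀ q ∈ Q, afun (a : MulAut R) q = afun b q := hbe
    have hco2 : (orderOf b).Coprime p := by
      refine hco'.coprime_dvd_left (orderOf_dvd_of_pow_eq_one (afun_ext fun q hq => ?_))
      rw [← FusionCentralizerSub.pow_restrict hQR (fun y hy => hbe' y hy) _ q hq, pow_orderOf_eq_one,
        afun_one (hQR hq), afun_one hq]
    have h1 := hD.uniq b hb hco2 σ (orderOf (a : MulAut R)) hco'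
      (hσ.restrict_to (sup_le_sup_right hQR _)) (fun q hq => (hσe q (hQR hq)).trans (hbe q hq))
      (by rw [hσx, inv_mul_cancel_left]; exact hzQ (c_mem hDR a.2))
      (by rw [hit, pow_orderOf_eq_one, c_one hDR, mul_one])
    rw [hσx] at h1
    exact mul_left_cancel h1
  intro α hα
  obtain ⟨β, hβ, m, hm, hmE, hαe, f', hf', hfe⟩ :=
    FusionFrattini88.frattini_ext hTp hE.1.1 hR M hMn (le_refl (normalizerIn T R))
      (fun g hg => hindM ((autInducedBy_eq_range T R).ge ⟨_, rfl⟩)) hα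
  obtain ⟨σ, hσ, hσe, hσx⟩ := hDR.ext m hm.1
  rw [hker m hm, mul_one] at hσx
  exact (closed_fix (E := E) hTS hx).congr ((closed_fix (E := E) hTS hx).comp ((mem_autGroup hR.1).1 hmE)
    ((mem_autGroup hR.1).1 hβ) hR.1 hR.1 (fun y hy => afun_mem m hy) ⟨σ, hσ, hσe, hσx⟩
    ((hbig f' hf').restrict le_sup_left hfe)) fun y hy => by
      rw [Function.comp_apply, hαe, afun_mul _ _ hy]

/-! ### The element -/

include hS hF in
/-- A translate of `x` is fixed by extensions of all automorphisms of `T`, and has trivial cocycle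
at `J(T)`. -/
theorem exists_translate (hE : E.IsNormalIn F p) (hx : x ∈ centralizerIn S T) :
    ∃ d ∈ zc T, (∀ f, Mor E T f → Fix F (x * d) T f) ∧
      ∃ W : Subgroup (MulAut ↥(thomJ 0 T)),
        Data F E p (thomJ 0 T) (x * d) W (fun _ => 1) := by
  classical
  have hI := hE.1.2.2
  have hT : F.StronglyClosed T := hI.2.1
  have hTS : T ≤ S := hT.1
  haveI := finite_of_le hTS
  have hTp : IsPGroup p T := hS.to_le hTS
  have hES := hE.1.1
  have hselfT : ∀ {f : Ω → Ω}, Mor E T f → im T f = T := fun hf =>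
    hf.im_self fun y hy => hf.apply_mem hy
  have hTn : E.IsFullyNormalized T :=
    FusionWeakAlperin.fullyNormalized_of_normal le_rfl fun g hg y hy =>
      mul_mem (mul_mem hg hy) (inv_mem hg)
  have hTc : centralizerIn T T ≤ T := inf_le_left
  obtain ⟨W, c, hD⟩ := exists_data hS hF hE hTn hTc hx (cent_normalizer hx T)
  obtain ⟨d₀, hd₀, hc₀, -⟩ := exists_shift hS hTS hES hTn hD
    ((autInducedBy T T).subgroupOf W) le_rfl fun a ha => hD.inn a ha
  have hD0 := shift hD hd₀ hc₀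
  have hcomm : ∀ {z : Ω}, z ∈ zc T → z ∈ centralizerIn S T := fun {z} hz =>
    mem_centralizerIn.2 ⟨hTS hz.1, (mem_zc.1 hz).2⟩
  set y := x * d₀ with hy
  have hyC : y ∈ centralizerIn S T := mul_mem hx (hcomm hd₀)
  have hfixT : ∀ f, Mor E T f → Fix F y T f := by
    intro f hf
    obtain ⟨a, ha, hae⟩ := hf.exists_aut (hselfT hf)
    obtain ⟨σ, hσ, hσe, hσx⟩ := hD0.ext a (hD0.top rfl ha)
    exact ⟨σ, hσ, fun z hz => (hσe z hz).trans (hae z hz), by rw [hσx, mul_one]⟩
  -- the Thompson subgroup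
  set J := thomJ 0 T with hJ
  have hJT : J ≤ T := thomJ_le T
  haveI := finite_of_le hJT
  have hTJ : T ≤ normalizerIn T J := le_inf le_rfl fun t ht =>
    GlaubermanZJ.normalizer_le_thomJ T (Subgroup.le_normalizer ht)
  have hJn : E.IsFullyNormalized J := ⟨hJT, fun Q _ => by
    haveI : Finite (normalizerIn T J) := finite_of_le (inf_le_left : normalizerIn T J ≤ T)
    exact (Subgroup.card_le_of_le (inf_le_left : normalizerIn T Q ≤ T)).trans
      (Subgroup.card_le_of_le hTJ)⟩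
  have hJc : centralizerIn T J ≤ J := fun z hz => FusionThomJMeasure.mem_of_commute le_rfl
    (mem_centralizerIn.1 hz).1 fun a ha => by
      have := (mem_centralizerIn.1 hz).2 a ha
      rw [cj_apply, mul_inv_eq_iff_eq_mul] at this
      exact this.symm
  obtain ⟨WJ, cJ, hDJ⟩ := exists_data hS hF hE hJn hJc (cent_le_cent hJT hyC)
    (cent_normalizer hyC J)
  set H₀ := (autInducedBy T J).subgroupOf WJ with hH₀
  obtain ⟨P, hP⟩ := exists_sylow hTp hES hJn hDJ.le hDJ.ind
  set H := Subgroup.normalizer (H₀ : Set WJ) with hH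
  have hzero : ∀ a ∈ H, cJ (a : MulAut J) = 1 := by
    refine le_of_sylow H (ker hDJ) P (hP ▸ Subgroup.le_normalizer)
      (fun a ha => hDJ.inn a (by rw [hP] at ha; exact ha)) fun a ha hco => ?_
    obtain ⟨f, hf, hfe⟩ := exists_extend hTp hES hJn (le_refl (normalizerIn T J))
      (hDJ.le a.2) fun t ht => by
        have hm : nHom T J ⟨t, ht⟩ ∈ autInducedBy T J :=
          (autInducedBy_eq_range T J).ge ⟨_, rfl⟩
        exact (Subgroup.mem_normalizer_iff.1 ha ⟨_, hDJ.ind hm⟩).1 hm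
    obtain ⟨ψ, hψ, hψe, hψx⟩ := (hfixT f (hf.restrict_to (hTJ.trans le_sup_right))).restrict hJT hfe
    exact eq_one_of_fix hDJ a.2 (by rwa [Subgroup.orderOf_coe]) hψ hψe hψx
  obtain ⟨d₁, hd₁, hc₁, hequiv⟩ := exists_shift hS hTS hES hJn hDJ H
    Subgroup.le_normalizer hzero
  have hd₁T : d₁ ∈ zc T := by
    refine mem_zc.2 ⟨hJT hd₁.1, fun t ht => ?_⟩
    have hm : nHom T J ⟨t, hTJ ht⟩ ∈ autInducedBy T J := (autInducedBy_eq_range T J).ge ⟨_, rfl⟩
    have h1 := hc₁ _ (hDJ.ind hm)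
    rw [hDJ.inn _ hm, afun_nHom _ hd₁.1, eq_comm, mul_inv_eq_one] at h1
    have h2 : cj t d₁ = d₁ := h1.symm
    rw [cj_apply, mul_inv_eq_iff_eq_mul] at h2
    rw [cj_apply, mul_inv_eq_iff_eq_mul]
    exact h2.symm
  have hbfix : ∀ f, Mor E T f → f d₁ = d₁ := by
    intro f hf
    have hJf : im J f = J := by
      have h1 := thomJ_im hf
      rw [hselfT hf] at h1
      exact h1.symm
    obtain ⟨β, hβ, hβe⟩ := hf.exists_aut (hselfT hf)
    obtain ⟨b, hb, hbe⟩ := (hf.restrict_to hJT).exists_aut hJf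
    have hbi : ∀ q ∈ J, afun b⁻¹ q = afun β⁻¹ q := fun q hq => by
      have h2 := hbe _ (afun_mem b⁻¹ hq)
      rw [afun_apply_inv _ hq, ← hβe _ (hJT (afun_mem b⁻¹ hq))] at h2
      conv_rhs => rw [h2]
      exact (afun_inv_apply _ (hJT (afun_mem b⁻¹ hq))).symm
    obtain ⟨ψ, hψ, hψe, hψy⟩ := (hfixT f hf).restrict hJT fun q hq => (hbe q hq).symm
    obtain ⟨χ, hχ, hχe, hχy⟩ := (hfixT _ ((mem_autGroup le_rfl).1 (inv_mem hβ))).restrict hJT
      fun q hq => (hbi q hq).symm
    have hyJ : y ∈ J ⊔ Subgroup.zpowers y := Subgroup.mem_sup_right (Subgroup.mem_zpowers y)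
    have hconjA : ∀ g ∈ WJ, b * g * b⁻¹ ∈ WJ := fun g hg => hDJ.normal b hb g hg
    have hH₀b : ∀ g : WJ, g ∈ H₀ → (⟨_, hconjA g g.2⟩ : WJ) ∈ H₀ := by
      intro g hg
      obtain ⟨t, ht, -, hte⟩ := mem_autInducedBy.1 (Subgroup.mem_subgroupOf.1 hg)
      have hft : f t ∈ T := hf.apply_mem ht
      refine mem_autInducedBy.2 ⟨f t, hft, (hTJ hft).2, fun q hq => ?_⟩
      show afun (b * (g : MulAut J) * b⁻¹) q = cj (f t) q
      have hq1 : afun b⁻¹ q ∈ J := afun_mem _ hq
      have hq2 : cj t (afun b⁻¹ q) ∈ J := hte _ hq1 ▸ afun_mem _ hq1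
      rw [afun_mul _ _ hq, afun_mul _ _ hq1, hte _ hq1, hbe _ hq2,
        hf.map_cj ht (hJT hq1), ← hbe _ hq1, afun_apply_inv _ hq]
    have hgood : ∀ g ∈ WJ, cJ (b * g * b⁻¹) = afun b (cJ g) := by
      let K : Subgroup WJ :=
        { carrier := {g | cJ (b * (g : MulAut J) * b⁻¹) = afun b (cJ g)}
          one_mem' := by
            show cJ (b * (1 : MulAut J) * b⁻¹) = afun b (cJ 1)
            rw [mul_one, mul_inv_cancel, c_one hDJ, afun_map_one]
          mul_mem' := fun {g g'} hg hg' => by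
            show cJ (b * ((g : MulAut J) * g') * b⁻¹) = afun b (cJ ((g : MulAut J) * g'))
            have e : b * ((g : MulAut J) * g') * b⁻¹ =
                (b * (g : MulAut J) * b⁻¹) * (b * g' * b⁻¹) := by simp [mul_assoc]
            have hm := (hDJ.mem _ g'.2).1
            rw [e, hDJ.mul _ (hconjA g g.2) _ (hconjA g' g'.2), show cJ (b * (g : MulAut J) * b⁻¹)
              = afun b (cJ g) from hg, show cJ (b * (g' : MulAut J) * b⁻¹) = afun b (cJ g') from hg',
              hDJ.mul _ g.2 _ g'.2, afun_map_mul b (hDJ.mem _ g.2).1 (afun_mem _ hm),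
              afun_mul _ _ (afun_mem b hm), afun_inv_apply _ hm, afun_mul _ _ hm]
          inv_mem' := fun {g} hg => by
            show cJ (b * (g : MulAut J)⁻¹ * b⁻¹) = afun b (cJ (g : MulAut J)⁻¹)
            have e : b * (g : MulAut J)⁻¹ * b⁻¹ = (b * (g : MulAut J) * b⁻¹)⁻¹ := by
              simp [mul_assoc]
            have hgi := (inv_mem g.2 : (g : MulAut J)⁻¹ ∈ WJ)
            have h1 := hDJ.mul _ (inv_mem (hconjA g g.2)) _ (hconjA g g.2)
            have h2 := hDJ.mul _ hgi _ g.2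
            rw [inv_mul_cancel, c_one hDJ] at h1 h2
            have hgm := (hDJ.mem _ g.2).1
            rw [eq_comm, mul_eq_one_iff_eq_inv] at h1 h2
            rw [e, h1, h2, show cJ (b * (g : MulAut J) * b⁻¹) = afun b (cJ g) from hg,
              afun_map_inv b (afun_mem _ hgm)]
            congr 1
            rw [← e, afun_mul _ _ (afun_mem b hgm), afun_inv_apply _ hgm, afun_mul _ _ hgm] }
      have hK : (⊤ : Subgroup WJ) ≤ K := by
        refine le_of_sylow _ _ P le_top (fun g hg => ?_) fun g _ hco => ?_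
        · rw [hP] at hg
          show cJ (b * (g : MulAut J) * b⁻¹) = afun b (cJ g)
          rw [hDJ.inn (g : MulAut J) hg, afun_map_one]
          exact hDJ.inn _ (hH₀b g hg)
        · obtain ⟨σ, hσ, hσe, hσy⟩ := hDJ.ext g g.2
          have hco' : (orderOf (g : MulAut J)).Coprime p := by rwa [Subgroup.orderOf_coe]
          have hσs := endo hσ (fun q hq => hσe q hq ▸ afun_mem _ hq)
            (hσy ▸ mul_mem hyJ (Subgroup.mem_sup_left (hDJ.mem _ g.2).1))
          have hχs := endo hχ (fun q hq => hχe q hq ▸ afun_mem _ hq) (hχy.symm ▸ hyJ)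
          have hψ' : Mor F (J ⊔ Subgroup.zpowers y) (ψ ∘ (σ ∘ χ)) :=
            (hχ.comp hσ hχs).comp hψ fun z hz => hσs _ (hχs z hz)
          have hval : ∀ u ∈ J, (ψ ∘ (σ ∘ χ)) (y * afun b u) =
              y * afun b (cJ g * afun (g : MulAut J) u) := by
            intro u hu
            simp only [Function.comp_apply]
            rw [hχ.map_mul hyJ (Subgroup.mem_sup_left (afun_mem b hu)), hχy,
              hχe _ (afun_mem b hu), afun_inv_apply _ hu,
              hσ.map_mul hyJ (Subgroup.mem_sup_left hu), hσy, hσe u hu, mul_assoc,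
              hψ.map_mul hyJ (Subgroup.mem_sup_left
                (J.mul_mem (hDJ.mem _ g.2).1 (afun_mem _ hu))), hψy,
              hψe _ (J.mul_mem (hDJ.mem _ g.2).1 (afun_mem _ hu))]
          have hit : ∀ i : ℕ, (ψ ∘ (σ ∘ χ))^[i] y = y * afun b (cJ ((g : MulAut J) ^ i)) := by
            intro i
            induction i with
            | zero => rw [pow_zero, c_one hDJ, afun_map_one, mul_one]; rfl
            | succ i ih =>
              rw [Function.iterate_succ_apply', ih, hval _ (hDJ.mem _ (WJ.pow_mem g.2 i)).1,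
                pow_succ', hDJ.mul _ g.2 _ (WJ.pow_mem g.2 i)]
          have h1 := hDJ.uniq _ (hconjA g g.2)
            (by rwa [← MulAut.conj_apply, MulEquiv.orderOf_eq]) _ (orderOf (g : MulAut J)) hco' hψ'
            (fun q hq => by
              simp only [Function.comp_apply]
              rw [hχe q hq, hσe _ (afun_mem _ hq), hψe _ (afun_mem _ (afun_mem _ hq)),
                afun_mul _ _ hq, afun_mul _ _ (afun_mem _ hq)])
            (by
              have := hit 1
              rw [Function.iterate_one] at this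
              rw [this, inv_mul_cancel_left]
              exact afun_mem b (hDJ.mem _ (WJ.pow_mem g.2 1)).1)
            (by rw [hit, pow_orderOf_eq_one, c_one hDJ, afun_map_one, mul_one])
          have h2 := hit 1
          rw [Function.iterate_one, pow_one] at h2
          exact mul_left_cancel (h1.symm.trans h2)
      exact fun g hg => hK (x := ⟨g, hg⟩) trivial
    have hbH : ∀ a : WJ, a ∈ H → ∀ ha : b * (a : MulAut J) * b⁻¹ ∈ WJ, (⟨_, ha⟩ : WJ) ∈ H := by
      intro a ha hab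
      let ν : WJ →* WJ :=
        { toFun := fun g => ⟨_, hconjA g g.2⟩
          map_one' := Subtype.ext (by simp)
          map_mul' := fun g g' => Subtype.ext (by simp [mul_assoc]) }
      have hν : Function.Injective ν := fun g g' e => Subtype.ext
        (mul_left_cancel (mul_right_cancel
          (congrArg Subtype.val e : b * (g : MulAut J) * b⁻¹ = b * (g' : MulAut J) * b⁻¹)))
      haveI : Finite WJ := inferInstance
      have hmap : H₀.map ν = H₀ := Subgroup.eq_of_le_of_card_ge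
        (Subgroup.map_le_iff_le_comap.2 fun g hg => hH₀b g hg)
        (Nat.card_congr (H₀.equivMapOfInjective ν hν).toEquiv).le
      show ν a ∈ H
      refine Subgroup.mem_normalizer_iff.2 fun g => ?_
      obtain ⟨g', rfl⟩ := Finite.surjective_of_injective hν g
      have hmem : ∀ u, ν u ∈ H₀ ↔ u ∈ H₀ := fun u => by
        conv_lhs => rw [← hmap]
        exact Subgroup.mem_map_iff_mem hν
      rw [hmem, ← map_inv, ← map_mul, ← map_mul, hmem]
      exact Subgroup.mem_normalizer_iff.1 ha g'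
    exact (hbe d₁ hd₁.1).symm.trans (hequiv b hb hgood hbH)
  refine ⟨d₀ * d₁, mul_mem hd₀ hd₁T, fun f hf => ?_, WJ, ?_⟩
  · obtain ⟨ψ, hψ, hψe, hψy⟩ := hfixT f hf
    have hle : T ⊔ Subgroup.zpowers (x * (d₀ * d₁)) ≤ T ⊔ Subgroup.zpowers y := by
      refine sup_le le_sup_left (Subgroup.zpowers_le.2 ?_)
      rw [← mul_assoc]
      exact mul_mem (Subgroup.mem_sup_right (Subgroup.mem_zpowers y))
        (Subgroup.mem_sup_left hd₁T.1)
    refine ⟨ψ, hψ.restrict_to hle, hψe, ?_⟩
    rw [← mul_assoc, hψ.map_mul (Subgroup.mem_sup_right (Subgroup.mem_zpowers y))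
      (Subgroup.mem_sup_left hd₁T.1), hψy, hψe _ hd₁T.1, hbfix f hf]
  · rw [← mul_assoc]
    exact shift hDJ hd₁ hc₁

include hS hF in
theorem exists_valid (hp : p ≠ 2) (hE : E.IsNormalIn F p) (hx : x ∈ centralizerIn S T) :
    ∃ d ∈ T, FusionCentralizerSub.Valid F E (Subgroup.zpowers (x * d)) := by
  classical
  have hI := hE.1.2.2
  have hT : F.StronglyClosed T := hI.2.1
  have hTS : T ≤ S := hT.1
  haveI := finite_of_le hTS
  have hTp : IsPGroup p T := hS.to_le hTS
  have hES := hE.1.1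
  obtain ⟨d, hd, hfixT, WJ, hDJ⟩ := exists_translate hS hF hE hx
  set y := x * d with hy
  have hyC : y ∈ centralizerIn S T :=
    mul_mem hx (mem_centralizerIn.2 ⟨hTS hd.1, (mem_zc.1 hd).2⟩)
  refine ⟨d, hd.1, Subgroup.zpowers_le.2 hyC, fun P f hf => ?_⟩
  suffices h : Fix F y P f by
    obtain ⟨ψ, hψ, he, hfix⟩ := h
    exact ⟨ψ, hψ, he, eq_self_of_zpowers hψ hfix⟩
  refine induction_measure hTp hES (closed_fix (E := E) hTS hyC) (nu T) (fun P Q h hQ => nu_le h hQ)
    (fun P f hf => nu_im hf) (fun R hR hbig α hα => ?_) hf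
  have hRα := (mem_autGroup hR.1).1 hα
  rcases hR.1.eq_or_lt with hRT | hRT
  · subst hRT
    exact hfixT _ hRα
  by_cases hRc : centralizerIn T R ≤ R
  swap
  · obtain ⟨f', hf', hfe, -⟩ := exists_extension_centralizer
      (receptive_of_fullyNormalized hTp hES hR) hRα (im_afun α)
    refine (hbig _ f' hf' (nu_lt ?_ hf'.le)).restrict le_sup_left hfe
    exact lt_of_le_of_ne le_sup_left fun e => hRc (le_sup_right.trans e.ge)
  -- move `J(R)` to a fully normalized position
  set Q := thomJ 0 R with hQ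
  have hQR : Q ≤ R := thomJ_le R
  have hQT : Q ≤ T := hQR.trans hR.1
  have hNRQ : ∀ R' : Subgroup Ω,
      normalizerIn T R' ≤ normalizerIn T (thomJ 0 R') := fun R' =>
    inf_le_inf_left _ (GlaubermanZJ.normalizer_le_thomJ R')
  obtain ⟨Q', hQQ', hQ'n⟩ := exists_fullyNormalized (F := E) hQT
  obtain ⟨θ, hθ, hθN, hθQ⟩ := exists_map_to_fullyNormalized hTp hES hQ'n hQQ'
  have hRN : R ≤ normalizerIn T Q := (le_normalizerIn hR.1).trans (hNRQ R)
  have hθfix : Fix F y (normalizerIn T Q) θ := by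
    refine hbig _ θ hθ (nu_lt (lt_of_le_of_ne hRN fun e => ?_) inf_le_left)
    obtain ⟨g, hgT, hgR, hgn⟩ := FusionSysAlperin.lt_normalizerIn hTp le_rfl hRT
    exact hgR (e.ge (hNRQ R ⟨hgT, hgn⟩))
  have hθR := hθ.restrict_to hRN
  set R' := im R θ with hR'
  have hRc' : E.IsCentric R := FusionSysAlperin.centric_of_fullyCentralized
    (fullyCentralized_of_fullyNormalized hTp hES hR) hRc
  have hconj : E.IsConj R R' := FusionSysBasic.isConj_iff.2 ⟨θ, hθR, rfl⟩
  have hR'c : centralizerIn T R' ≤ R' := hRc'.2 R' hconj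
  have hR'n : E.IsFullyNormalized R' := by
    refine ⟨hθR.im_le, fun U hU => le_trans (hR.2 U (isConj_trans hconj hU)) ?_⟩
    refine card_le_of_mor (hθ.restrict_to (hNRQ R)) (inf_le_left : normalizerIn T R' ≤ T)
      fun t ht => ⟨hθ.apply_mem (hNRQ R ht), mem_normalizer_of_cj_le hθR.im_le fun z hz => ?_⟩
    obtain ⟨w, hw, rfl⟩ := hθR.mem_im.1 hz
    rw [← hθ.map_cj (hNRQ R ht) (hRN hw)]
    exact apply_mem_im (cj_mem_of_normalizer ht.2 hw)
  have hQ' : thomJ 0 R' = Q' := (thomJ_im hθR).trans hθQ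
  have hνR : nu T R' = nu T R := nu_im hθR
  have hμR : muJ T R' = muJ T R := muJ_im hθR
  suffices key : ∀ α' ∈ E.autGroup R', Fix F y R' (afun α') by
    set α' := hθR.transport rfl α with hα'
    have hα'E : α' ∈ E.autGroup R' := hθR.transport_mem rfl hα
    have hα'm := (mem_autGroup hR'n.1).1 hα'E
    obtain ⟨j, hj, hjθ, -, hjR⟩ := hθR.exists_inv
    have h1 : Fix F y R θ := hθfix.restrict hRN fun _ _ => rfl
    have h2 : Fix F y R' j := (closed_fix (E := E) hTS hyC).inv hθR hj hR.1 hjθ h1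
    have h3 := (closed_fix (E := E) hTS hyC).comp hθR hα'm hR.1 hR'n.1 (fun z hz => apply_mem_im hz) h1
      (key α' hα'E)
    have h4 := (closed_fix (E := E) hTS hyC).comp
      (hθR.comp hα'm fun z hz => apply_mem_im hz) hj hR.1 hR'n.1
      (fun z hz => afun_mem α' (apply_mem_im hz)) h3 h2
    refine (closed_fix (E := E) hTS hyC).congr h4 fun z hz => ?_
    simp only [Function.comp_apply]
    rw [hα', hθR.afun_transport rfl α hz, hjθ _ (afun_mem α hz)]
  have hR'T : R' ≤ T := hR'n.1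
  have hbig' : ∀ g, Mor E (R' ⊔ normalizerIn T R') g →
      Fix F y (R' ⊔ normalizerIn T R') g := fun g hg => by
    refine hbig _ g hg ?_
    rw [← hνR]
    have hne : R' ≠ T := fun e => hRT.ne (eq_of_le_of_card_ge le_rfl hR.1
      (by rw [← e, hR', hθR.card_im]))
    obtain ⟨g', hgT, hgR, hgn⟩ :=
      FusionSysAlperin.lt_normalizerIn hTp le_rfl (lt_of_le_of_ne hR'T hne)
    exact nu_lt (lt_of_le_of_ne le_sup_left fun e =>
      hgR (e.ge (Subgroup.mem_sup_right ⟨hgT, hgn⟩))) hg.le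
  intro α' hα'
  by_cases hJR : thomJ 0 (normalizerIn T R') ≤ R'
  swap
  · obtain ⟨W, c, hD⟩ := exists_data hS hF hE hR'n hR'c (cent_le_cent hR'T hyC)
      (cent_normalizer hyC R')
    have hone := eq_one_of_offender hS hp hTS hES hR'n hD hJR fun X g hg hX _ =>
      hbig X g hg (hνR ▸ nu_lt hX hg.le)
    exact fix_of_data hS hF hE hyC hR'n hR'c le_rfl hR'T hR'c (congr_one hD hone) le_rfl
      (fun a _ q hq => afun_mem a hq) hbig' α' hα'
  have hQ'R' : Q' ≤ R' := hQ' ▸ thomJ_le R'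
  have hQ'c : centralizerIn T Q' ≤ Q' := by
    set C := centralizerIn T Q' with hC
    have hNT : normalizerIn T R' ≤ T := inf_le_left
    have hR'N := le_normalizerIn hR'T
    have hcR : ∀ c ∈ C, c ∈ normalizerIn T R' → c ∈ Q' := by
      intro c hc hcN
      obtain ⟨h1, h2⟩ := eq_of_between hNT hJR hR'N
      rw [hQ'.symm.trans h2]
      refine FusionThomJMeasure.mem_of_commute hNT hcN fun a ha => ?_
      have := (mem_centralizerIn.1 hc).2 a (hQ' ▸ h2.symm ▸ ha)
      rw [cj_apply, mul_inv_eq_iff_eq_mul] at this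
      exact this.symm
    intro c hc
    by_contra hcQ
    have hCn : R' ≤ Subgroup.normalizer (C : Set Ω) := fun r hr => by
      refine mem_normalizer_of_cj_le inf_le_left fun z hz => ?_
      have hrQ := (hNRQ R' ⟨hR'T hr, Subgroup.le_normalizer hr⟩).2
      rw [hQ'] at hrQ
      refine mem_centralizerIn.2 ⟨cj_mem_S (hR'T hr) (mem_centralizerIn.1 hz).1, fun q hq => ?_⟩
      have := (mem_centralizerIn.1 hz).2 _
        (cj_mem_of_normalizer (Subgroup.inv_mem _ hrQ) hq)
      calc cj (cj r z) q = cj r (cj z (cj r⁻¹ q)) := by simp [cj_apply, mul_assoc]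
        _ = q := by rw [this, cj_cj_inv]
    have hlt : R' < R' ⊔ C := lt_of_le_of_ne le_sup_left fun e => hcQ (hcR c hc
      (le_normalizerIn hR'T (e.ge (Subgroup.mem_sup_right hc))))
    obtain ⟨g, hg, hgR, hgn⟩ :=
      FusionSysAlperin.lt_normalizerIn hTp (sup_le hR'T inf_le_left) hlt
    have hg' : g ∈ ((R' ⊔ C : Subgroup Ω) : Set Ω) := hg
    rw [Subgroup.coe_mul_of_left_le_normalizer_right _ _ hCn] at hg'
    obtain ⟨r, hr, c', hc', rfl⟩ := hg'
    have hc'N : c' ∈ normalizerIn T R' := by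
      have h1 : r * c' ∈ normalizerIn T R' :=
        ⟨T.mul_mem (hR'T hr) (mem_centralizerIn.1 hc').1, hgn⟩
      simpa using mul_mem (inv_mem (hR'N hr)) h1
    exact hgR (R'.mul_mem hr (hQ'R' (hcR c' hc' hc'N)))
  have hNQ : normalizerIn T R' ≤ normalizerIn T Q' := hQ' ▸ hNRQ R'
  have hpres : ∀ a ∈ E.autGroup R', ∀ q ∈ Q', afun a q ∈ Q' := fun a ha q hq => by
    rw [← hQ'] at hq ⊢
    exact aut_preserves hR'T ha hq
  obtain ⟨W, hD⟩ : ∃ W, Data F E p Q' y W (fun _ => 1) := by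
    by_cases hJQ : thomJ 0 (normalizerIn T Q') ≤ Q'
    · have hNT : normalizerIn T Q' ≤ T := inf_le_left
      obtain ⟨-, h2⟩ := eq_of_between hNT hJQ (le_normalizerIn hQ'n.1)
      have h3 : thomJ 0 (normalizerIn T Q') = Q' := by
        rw [← h2, ← hQ', (thomJ_idem hR'T).2]
      have e : normalizerIn T Q' = T := by
        by_contra hne
        obtain ⟨g, hgT, hgN, hgn⟩ :=
          FusionSysAlperin.lt_normalizerIn hTp le_rfl (lt_of_le_of_ne hNT hne)
        have := (hNRQ _ ⟨hgT, hgn⟩).2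
        rw [h3] at this
        exact hgN ⟨hgT, this⟩
      rw [e] at h3
      subst h3
      exact ⟨WJ, hDJ⟩
    · obtain ⟨W, c, hD⟩ := exists_data hS hF hE hQ'n hQ'c (cent_le_cent hQ'n.1 hyC)
        (cent_normalizer hyC Q')
      refine ⟨W, congr_one hD (eq_one_of_offender hS hp hTS hES hQ'n hD hJQ
        fun X g hg hX hJX => hbig X g hg (nu_lt_of_muJ_lt hR.1 ?_))⟩
      have h1 := muJ_lt hX.le hg.le hJX
      obtain ⟨h4, h5⟩ := thomJ_idem (D := R') hR'T
      rw [hQ'] at h4 h5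
      rw [← hμR]
      calc muJ T R' = muJ T Q' := by rw [muJ, muJ, hQ', h4, h5]
        _ < muJ T X := h1
  exact fix_of_data hS hF hE hyC hR'n hR'c hQ'R' hQ'n.1 hQ'c hD hNQ hpres hbig' α' hα'

end Cfsg.Agent.FusionCentralizerOdd
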