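import Cfsg.Agent.Lib.FusionMeet
import Cfsg.Agent.Lib.FusionSysNormalizer

/-!
The centralizer system of an abelian normal subgroup is a normal subsystem.
-/

set_option autoImplicit false

namespace Cfsg.Agent.FusionCentralizerOfNormal

open Cfsg Cfsg.FusionSystem Cfsg.Agent.FusionSysBasic Cfsg.Agent.FusionSysSaturated
open Cfsg.Agent.FusionSysNormal Cfsg.Agent.FusionKit88

variable {Ω : Type*} [Group Ω] {S J : Subgroup Ω} [Finite S] {F : FusionSystem S} {p : ℕ}
  [Fact p.Prime]

/-- A strongly closed subgroup is fully normalized. -/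
theorem fullyNormalized_of_closed (hJ : F.StronglyClosed J) : F.IsFullyNormalized J := by
  obtain ⟨J', hJJ', hJ'⟩ := exists_fullyNormalized (F := F) hJ.1
  obtain ⟨f, hf, rfl⟩ := FusionSysBasic.isConj_iff.1 hJJ'
  rwa [hf.im_self fun x hx => closed_apply' hJ hf hx hx] at hJ'

/-- The centralizer system of an abelian normal subgroup is normal. -/
theorem centralizerSystem_normal (hS : IsPGroup p S) (hF : F.IsSaturated p) (hJ : F.IsNormal J)
    (hab : ∀ a ∈ J, ∀ b ∈ J, a * b = b * a) :
    (centralizerSystem F J (stronglyClosed_of_normal hJ).1).IsNormalIn F p := by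
  have hcl := stronglyClosed_of_normal hJ
  have hJS : J ≤ S := hcl.1
  have hJn := fullyNormalized_of_closed hcl
  set C := centralizerSystem F J hJS
  have hCS : F.IsCentralizerSystem J C := isCentralizerSystem_centralizerSystem J hJS
  have hU : centralizerIn S J ≤ S := inf_le_left
  haveI := finite_of_le hJS
  haveI := finite_of_le hU
  have hUcl : F.StronglyClosed (centralizerIn S J) := stronglyClosed_iff.2 ⟨hU, fun P f hP hf x hx =>
    mem_centralizerIn.2 ⟨hf.apply_mem hx, fun j hj => by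
      obtain ⟨ψ, hψ, hψe, hψJ⟩ := (isNormal_iff.1 hJ).2 P f hf
      have hJim : im J ψ = J := (hψ.restrict_to le_sup_right).im_self fun y hy =>
        closed_apply' hcl hψ (Subgroup.mem_sup_right hy) hy
      obtain ⟨i, hi, rfl⟩ := (hψ.restrict_to le_sup_right).mem_im.1 (hJim.ge hj)
      rw [← hψe x hx, ← hψ.map_cj (Subgroup.mem_sup_left hx) (Subgroup.mem_sup_right hi),
        (mem_centralizerIn.1 (hP hx)).2 i hi]⟩⟩
  have hJU : J ≤ centralizerIn S J := fun x hx => mem_centralizerIn.2 ⟨hJS hx, fun y hy => by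
    rw [cj_apply, hab x hx y hy, mul_inv_cancel_right]⟩
  have hsat := FusionSysNormalizer.centralizerSystem_saturated hS hF
    (fullyCentralized_of_fullyNormalized hS hF hJn) hCS
  have hsub : C.IsSubsystemOf F := fun P φ hφ =>
    (mor_iff_hom fun x => (toFun_coe φ x).symm).1
      ((mor_centralizerSystem_iff hCS).1 (mor_toFun hφ)).1
  refine ⟨⟨hsat, hF, FusionIso88.invariant_iff.2 ⟨hsub, hUcl, fun P f hf a ha => ?_,
    fun P f hP hf => ?_⟩⟩, fun α hα => ?_⟩
  · obtain ⟨hfF, hPU, hfU, ψ, hψ, hψe, hψJ⟩ := (mor_centralizerSystem_iff hCS).1 hf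
    have ham := (mem_autGroup hU).1 ha
    obtain ⟨ai, hai, haie, -, -⟩ := ham.exists_inv
    rw [im_afun] at hai
    have hsJ : P ⊔ J ≤ centralizerIn S J := sup_le hPU hJU
    have hψU : ∀ x ∈ P ⊔ J, ψ x ∈ centralizerIn S J := fun x hx =>
      closed_apply' hUcl hψ hx (hsJ hx)
    obtain ⟨j, hj, hje, -, hjP⟩ := (ham.restrict_to hsJ).exists_inv
    have e1 : im (P ⊔ J) (afun a) = im P (afun a) ⊔ J := by
      rw [FusionSysNormal.im_sup (ham.restrict_to hsJ), (ham.restrict_to hJU).im_self fun x hx =>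
        closed_apply' hcl ham (hJU hx) hx]
    have hm := (hj.comp hψ hjP).comp ham fun y hy => hψU _ (hjP y hy)
    rw [e1] at hm
    refine ⟨_, (mor_centralizerSystem_iff hCS).2 ⟨hm.restrict_to le_sup_left,
      im_le_iff.2 fun x hx => afun_mem a (hPU hx), fun y hy => afun_mem a (hψU _ (hjP y ?_)), _,
      hm, fun x _ => rfl, fun y hy => ?_⟩, fun x hx => ?_⟩
    · rw [e1]; exact Subgroup.mem_sup_left hy
    · obtain ⟨x, hx, rfl⟩ := (ham.restrict_to hJU).mem_im.1
        (((ham.restrict_to hJU).im_self fun x hx => closed_apply' hcl ham (hJU hx) hx).ge hy)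
      show afun a (ψ (j (afun a x))) = afun a x
      rw [hje x (Subgroup.mem_sup_right hx), hψJ x hx]
    · show afun a (ψ (j (afun a x))) = afun a (f x)
      rw [hje x (Subgroup.mem_sup_left hx), hψe x hx]
  · obtain ⟨ψ, hψ, hψe, -⟩ := (isNormal_iff.1 hJ).2 P f hf
    have hβ := hψ.restrict_to (le_sup_right : J ≤ P ⊔ J)
    have hrec := receptive_of_fullyNormalized hS hF hJn
    obtain ⟨γ, hγ, hγe⟩ := (receptive_iff.1 hrec).2 J ψ (centralizerIn S J) hβ
      (hβ.im_self fun x hx => closed_apply' hcl hψ (Subgroup.mem_sup_right hx) hx) hU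
      (fun g hg => mem_normalizer_of_cj_le hJS fun y hy => by
        rw [(mem_centralizerIn.1 hg).2 y hy]; exact hy)
      fun g hg => ⟨1, S.one_mem, fun x hx => by
        rw [(mem_centralizerIn.1 hg).2 x hx, cj_apply, one_mul, inv_one, mul_one]⟩
    have hγU := hγ.restrict_to (le_sup_right : centralizerIn S J ≤ J ⊔ centralizerIn S J)
    obtain ⟨a, ha, hae⟩ := hγU.exists_aut (hγU.im_self fun x hx =>
      closed_apply' hUcl hγU hx hx)
    have hai := (mem_autGroup hU).1 (inv_mem ha)
    have hψU : ∀ x ∈ P ⊔ J, ψ x ∈ centralizerIn S J := fun x hx =>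
      closed_apply' hUcl hψ hx (sup_le hP hJU hx)
    have hm := hψ.comp hai hψU
    refine ⟨a, ha, _, (mor_centralizerSystem_iff hCS).2 ⟨hm.restrict_to le_sup_left, hP,
      fun x hx => afun_mem _ (hψU x (Subgroup.mem_sup_left hx)), _, hm, fun x _ => rfl,
      fun x hx => ?_⟩, fun x hx => ?_⟩
    · show afun a⁻¹ (ψ x) = x
      rw [← hγe x hx, ← hae x (hJU hx), afun_inv_apply a (hJU hx)]
    · show f x = afun a (afun a⁻¹ (ψ x))
      rw [afun_apply_inv a (hψU x (Subgroup.mem_sup_left hx)), hψe x hx]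
  · have ham := sub_mor hsub ((mem_autGroup le_rfl).1 hα)
    have hcc : centralizerIn S (centralizerIn S J) ≤ centralizerIn S J := fun c hc =>
      mem_centralizerIn.2 ⟨hc.1, fun j hj => (mem_centralizerIn.1 hc).2 j (hJU hj)⟩
    have hle : centralizerIn S J ⊔ centralizerIn S (centralizerIn S J) ≤ centralizerIn S J :=
      sup_le le_rfl hcc
    exact FusionMeet.ext_of_good (α := α) (G := F) (hT := hU) ⟨afun α, ham.restrict_to hle,
      fun x _ => rfl, fun c hc => by
        rw [im_afun]
        exact mul_mem (inv_mem (hcc hc)) (afun_mem α (hcc hc))⟩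

end Cfsg.Agent.FusionCentralizerOfNormal
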