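import Mathlib

/-!
Automorphism groups of finite abelian groups with a Sylow subgroup of order `p` generated by a
transvection `τ` (all `x⁻¹ * τ x` in a subgroup `⟨c⟩` of order `p`).
-/

set_option autoImplicit false

namespace Cfsg.Agent.TransvectionPair

open Subgroup

variable {M : Type*} [CommGroup M]

/-- `τ` is a transvection with centre `⟨c⟩` generating a maximal `p`-subgroup of `H`. -/
structure Tv (p : ℕ) (H : Subgroup (MulAut M)) (τ : MulAut M) (c : M) : Prop where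
  mem : τ ∈ H
  ne : c ≠ 1
  pow_eq : c ^ p = 1
  fix : τ c = c
  move : ∀ x, x⁻¹ * τ x ∈ zpowers c
  nontriv : τ ≠ 1
  max : ∀ γ ∈ H, Commute γ τ → γ ^ p = 1 → γ ∈ zpowers τ

/-- `α` normalizes `⟨τ⟩`. -/
def Nrm (τ α : MulAut M) : Prop := α * τ * α⁻¹ ∈ zpowers τ

variable {p : ℕ} [hp : Fact p.Prime] {H : Subgroup (MulAut M)} {τ : MulAut M} {c : M}

theorem orderOf_c (h : Tv p H τ c) : orderOf c = p :=
  orderOf_eq_prime h.pow_eq h.ne

theorem fix_of_mem (h : Tv p H τ c) {y : M} (hy : y ∈ zpowers c) : τ y = y := by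
  obtain ⟨i, rfl⟩ := mem_zpowers_iff.mp hy
  rw [map_zpow, h.fix]

theorem pow_of_mem (h : Tv p H τ c) {y : M} (hy : y ∈ zpowers c) : y ^ p = 1 := by
  obtain ⟨i, rfl⟩ := mem_zpowers_iff.mp hy
  rw [← zpow_natCast, ← zpow_mul, mul_comm, zpow_mul, zpow_natCast, h.pow_eq, one_zpow]

theorem gen_of_mem (h : Tv p H τ c) {y z : M} (hy : y ∈ zpowers c) (hy1 : y ≠ 1)
    (hz : z ∈ zpowers c) : ∃ j : ℤ, y ^ j = z := by
  have hcard : Nat.card (zpowers c) = p := by rw [Nat.card_zpowers, orderOf_c h]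
  obtain ⟨j, hj⟩ := mem_zpowers_iff.mp (mem_zpowers_of_prime_card hcard
    (g := ⟨y, hy⟩) (g' := ⟨z, hz⟩) (by simpa [Subtype.ext_iff] using hy1))
  exact ⟨j, congrArg Subtype.val hj⟩

theorem zpow_apply (h : Tv p H τ c) (k : ℤ) (x : M) : (τ ^ k) x = x * (x⁻¹ * τ x) ^ k := by
  have step : ∀ y, τ y = y * (y⁻¹ * τ y) := fun y => (mul_inv_cancel_left _ _).symm
  have hfix : ∀ k : ℤ, τ ((x⁻¹ * τ x) ^ k) = (x⁻¹ * τ x) ^ k := fun k =>
    fix_of_mem h (zpow_mem (h.move x) k)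
  induction k using Int.induction_on with
  | zero => simp
  | succ i ih =>
    rw [add_comm, zpow_add, zpow_one, MulAut.mul_apply, ih, map_mul, hfix, step x,
      mul_assoc, ← step x, ← zpow_one_add]
  | pred i ih =>
    rw [sub_eq_neg_add, zpow_add, zpow_neg_one, MulAut.mul_apply, ih]
    apply τ.injective
    rw [MulAut.apply_inv_self, map_mul, hfix, step x, mul_assoc, ← step x, ← zpow_one_add]
    congr 2
    ring

theorem pow_self (h : Tv p H τ c) : τ ^ p = 1 := by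
  refine MulEquiv.ext fun x => ?_
  rw [← zpow_natCast, zpow_apply h, zpow_natCast, pow_of_mem h (h.move x), mul_one]
  rfl

theorem zpow_fix (h : Tv p H τ c) (k : ℤ) {x : M} (hx : τ x = x) : (τ ^ k) x = x := by
  rw [zpow_apply h, hx, inv_mul_cancel, one_zpow, mul_one]

theorem nrm_of_mem {k : ℤ} : Nrm τ (τ ^ k) :=
  ⟨1, by simp only [zpow_one]; group⟩

theorem Nrm.inv (h : Tv p H τ c) {α : MulAut M} (hα : Nrm τ α) : Nrm τ α⁻¹ := by
  have ho : orderOf τ = p := orderOf_eq_prime (pow_self h) h.nontriv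
  have hcard : Nat.card (zpowers τ) = p := by rw [Nat.card_zpowers, ho]
  obtain ⟨j, hj⟩ := mem_zpowers_iff.mp (mem_zpowers_of_prime_card hcard
    (g := ⟨α * τ * α⁻¹, hα⟩) (g' := ⟨τ, mem_zpowers τ⟩)
    (by simpa [Subtype.ext_iff] using h.nontriv))
  refine ⟨j, ?_⟩
  have hj' : (α * τ * α⁻¹) ^ j = τ := congrArg Subtype.val hj
  conv_rhs => rw [inv_inv, ← hj', conj_zpow]
  group

theorem Nrm.mul {α β : MulAut M} (hα : Nrm τ α) (hβ : Nrm τ β) : Nrm τ (α * β) := by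
  obtain ⟨i, hi⟩ := hα
  obtain ⟨j, hj⟩ := hβ
  refine ⟨i * j, ?_⟩
  simp only at hi hj ⊢
  rw [zpow_mul, hi, conj_zpow, hj]
  group

theorem Nrm.apply_fix (h : Tv p H τ c) {α : MulAut M} (hα : Nrm τ α) {x : M} (hx : τ x = x) :
    τ (α x) = α x := by
  obtain ⟨i, hi⟩ := Nrm.inv h hα
  simp only [inv_inv] at hi
  have e : τ * α = α * τ ^ i := by rw [hi]; group
  rw [← MulAut.mul_apply, e, MulAut.mul_apply, zpow_fix h i hx]

theorem Nrm.apply_c (h : Tv p H τ c) {α : MulAut M} (hα : Nrm τ α) : α c ∈ zpowers c := by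
  obtain ⟨x, hx⟩ : ∃ x, x⁻¹ * τ x ≠ 1 := by
    by_contra hh
    push_neg at hh
    exact h.nontriv (MulEquiv.ext fun x => (inv_mul_eq_one.mp (hh x)).symm)
  obtain ⟨j, hj⟩ := gen_of_mem h (h.move x) hx (mem_zpowers c)
  suffices h2 : α (x⁻¹ * τ x) ∈ zpowers c by
    have := zpow_mem h2 j
    rwa [← map_zpow, hj] at this
  obtain ⟨i, hi⟩ := hα
  have e : α (τ x) = (τ ^ i) (α x) := by
    simp only at hi
    rw [hi, MulAut.mul_apply, MulAut.mul_apply, MulAut.inv_apply_self]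
  rw [map_mul, map_inv, e, zpow_apply h, inv_mul_cancel_left]
  exact zpow_mem (h.move _) i

/-- The key dichotomy: if `α c` is fixed by `τ` then `α` normalizes `⟨τ⟩`. -/
theorem nrm_of_fix (h : Tv p H τ c) {α : MulAut M} (hα : α ∈ H) (hfix : τ (α c) = α c) :
    Nrm τ α := by
  obtain ⟨σ, hσdef⟩ : ∃ σ, σ = α * τ * α⁻¹ := ⟨_, rfl⟩
  have hσH : σ ∈ H := hσdef ▸ mul_mem (mul_mem hα h.mem) (inv_mem hα)
  obtain ⟨d, hd⟩ : ∃ d, d = α c := ⟨_, rfl⟩
  rw [← hd] at hfix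
  have hσmove : ∀ x, x⁻¹ * σ x ∈ zpowers d := fun x => by
    obtain ⟨i, hi⟩ := mem_zpowers_iff.mp (h.move (α⁻¹ x))
    refine mem_zpowers_iff.mpr ⟨i, ?_⟩
    rw [hd, ← map_zpow, hi, map_mul, map_inv, MulAut.apply_inv_self, hσdef]
    rfl
  have hσd : σ d = d := by
    rw [hσdef, MulAut.mul_apply, MulAut.mul_apply, hd, MulAut.inv_apply_self, h.fix]
  have hdp : d ^ p = 1 := by rw [hd, ← map_pow, h.pow_eq, map_one]
  have dσ : ∀ y ∈ zpowers d, σ y = y ∧ τ y = y ∧ y ^ p = 1 := by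
    intro y hy
    obtain ⟨i, rfl⟩ := mem_zpowers_iff.mp hy
    refine ⟨by rw [map_zpow, hσd], by rw [map_zpow, hfix], ?_⟩
    rw [← zpow_natCast, ← zpow_mul, mul_comm, zpow_mul, zpow_natCast, hdp, one_zpow]
  have cσ : ∀ x, x⁻¹ * τ x ∈ zpowers c := h.move
  obtain ⟨γ, hγdef⟩ : ∃ γ, γ = (τ * σ)⁻¹ * (σ * τ) := ⟨_, rfl⟩
  -- `γ` is the transvection `x ↦ x * χ'(χ x)`
  set χ : M → M := fun x => x⁻¹ * τ x with hχ
  set χ' : M → M := fun x => x⁻¹ * σ x with hχ'
  have eτ : ∀ x, τ x = x * χ x := fun x => (mul_inv_cancel_left _ _).symm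
  have eσ : ∀ x, σ x = x * χ' x := fun x => (mul_inv_cancel_left _ _).symm
  have hγ : ∀ x, γ x = x * χ' (χ x) := by
    intro x
    rw [hγdef, MulAut.mul_apply]
    apply (τ * σ).injective
    rw [MulAut.apply_inv_self, MulAut.mul_apply, MulAut.mul_apply]
    obtain ⟨hs, ht, -⟩ := dσ _ (hσmove (χ x))
    calc σ (τ x) = σ x * σ (χ x) := by rw [← map_mul, ← eτ x]
      _ = x * χ' x * (χ x * χ' (χ x)) := by rw [← eσ x, ← eσ (χ x)]
      _ = τ x * χ' x * χ' (χ x) := by rw [eτ x]; ac_rfl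
      _ = τ (σ x) * χ' (χ x) := by
        conv_rhs => rw [eσ x, map_mul, (dσ _ (hσmove x)).2.1]
      _ = τ (σ (x * χ' (χ x))) := by rw [map_mul σ, hs, map_mul τ, ht]
  have hγτ : Commute γ τ := by
    refine MulEquiv.ext fun x => ?_
    rw [MulAut.mul_apply, MulAut.mul_apply, hγ, hγ, map_mul, (dσ _ (hσmove _)).2.1]
    congr 2
    show (τ x)⁻¹ * τ (τ x) = x⁻¹ * τ x
    conv_lhs => rw [eτ x, map_mul, fix_of_mem h (cσ x), eτ x]
    simp only [hχ]
    simp [mul_comm, mul_left_comm, mul_assoc]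
  have hγk : ∀ (k : ℕ) x, (γ ^ k) x = x * (χ' (χ x)) ^ k := by
    intro k
    induction k with
    | zero => simp
    | succ k ih =>
      intro x
      have hz : γ (χ' (χ x)) = χ' (χ x) := by
        rw [hγ]
        have : χ (χ' (χ x)) = 1 := by
          show _⁻¹ * τ _ = 1
          rw [(dσ _ (hσmove _)).2.1, inv_mul_cancel]
        rw [this]
        simp [hχ']
      rw [pow_succ', MulAut.mul_apply, ih, map_mul, map_pow, hz, hγ, pow_succ', mul_assoc]
  have hγp : γ ^ p = 1 := MulEquiv.ext fun x => by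
    rw [hγk, (dσ _ (hσmove _)).2.2, mul_one]; rfl
  have hγH : γ ∈ H := hγdef ▸ mul_mem (inv_mem (mul_mem h.mem hσH)) (mul_mem hσH h.mem)
  obtain ⟨i, hi⟩ := h.max γ hγH hγτ hγp
  -- `χ' c = 1`
  have hc1 : χ' c = 1 := by
    by_contra hne
    obtain ⟨x, hx⟩ : ∃ x, χ x ≠ 1 := by
      by_contra hh
      push_neg at hh
      exact h.nontriv (MulEquiv.ext fun x => by rw [eτ x, hh x, mul_one]; rfl)
    obtain ⟨j, hj⟩ := gen_of_mem h (cσ x) hx (mem_zpowers c)
    have hmul : ∀ (j : ℤ) y, χ' (y ^ j) = χ' y ^ j := fun j y => by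
      show (y ^ j)⁻¹ * σ (y ^ j) = (y⁻¹ * σ y) ^ j
      rw [map_zpow, mul_zpow, inv_zpow]
    have h1 : χ' (χ x) ∈ zpowers c := by
      have := hγ x
      rw [← hi, zpow_apply h] at this
      rw [← mul_left_cancel this]
      exact zpow_mem (cσ x) i
    have h2 : χ' c ∈ zpowers c := by
      have := zpow_mem h1 j
      rwa [← hmul, hj] at this
    have hdcard : Nat.card (zpowers d) = p := by
      rw [Nat.card_zpowers]
      exact orderOf_eq_prime hdp (fun e => h.ne (α.injective (by rw [← hd, e, map_one])))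
    obtain ⟨k, hk⟩ := mem_zpowers_iff.mp (mem_zpowers_of_prime_card hdcard
      (g := ⟨χ' c, hσmove c⟩) (g' := ⟨d, mem_zpowers d⟩) (by simpa [Subtype.ext_iff] using hne))
    have hdc : d ∈ zpowers c := by
      have : χ' c ^ k = d := congrArg Subtype.val hk
      rw [← this]
      exact zpow_mem h2 k
    obtain ⟨l, hl⟩ := gen_of_mem h hdc (fun e => h.ne (α.injective (by rw [← hd, e, map_one])))
      (mem_zpowers c)
    apply hne
    rw [← hl, hmul]
    show (d⁻¹ * σ d) ^ l = 1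
    rw [hσd, inv_mul_cancel, one_zpow]
  have hcomm : Commute σ τ := by
    refine MulEquiv.ext fun x => ?_
    obtain ⟨k, hk⟩ := mem_zpowers_iff.mp (cσ x)
    have : σ (χ x) = χ x := by
      show σ (x⁻¹ * τ x) = _
      rw [← hk, map_zpow, eσ c, hc1, mul_one]
      exact hk
    calc σ (τ x) = σ x * σ (χ x) := by rw [← map_mul, ← eτ x]
      _ = x * χ x * χ' x := by rw [this, eσ x]; ac_rfl
      _ = τ (σ x) := by
        conv_rhs => rw [eσ x, map_mul, (dσ _ (hσmove x)).2.1, eτ x]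
  unfold Nrm
  rw [← hσdef]
  refine h.max σ hσH hcomm ?_
  rw [hσdef, conj_pow, pow_self h, mul_one, mul_inv_cancel]

/-- The data produced by an element not normalizing `⟨τ⟩`. -/
structure Opp (p : ℕ) (H : Subgroup (MulAut M)) (τ : MulAut M) (c : M) (w : MulAut M) (d : M) :
    Prop where
  mem : w ∈ H
  apply_c : w c = d
  apply_d : w d = c⁻¹
  moves : τ d ≠ d
  pow_d : d ^ p = 1
  decomp : ∀ x, ∃ (i j : ℤ) (v : M), x = c ^ i * d ^ j * v ∧ τ v = v ∧ w v = v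
  fixed : ∀ i : ℤ, w (c ^ i) = c ^ i → c ^ i = 1

theorem exists_opp (h : Tv p H τ c) {α : MulAut M} (hα : α ∈ H) (hn : ¬ Nrm τ α) :
    ∃ w d, Opp p H τ c w d := by
  obtain ⟨σ, hσdef⟩ : ∃ σ, σ = α * τ * α⁻¹ := ⟨_, rfl⟩
  have hσH : σ ∈ H := hσdef ▸ mul_mem (mul_mem hα h.mem) (inv_mem hα)
  obtain ⟨e, he⟩ : ∃ e, e = α c := ⟨_, rfl⟩
  have hτe : τ e ≠ e := fun hh => hn (nrm_of_fix h hα (he ▸ hh))
  have hσc : σ c ≠ c := by
    intro hh
    rw [hσdef] at hh
    apply hn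
    have h2 : τ (α⁻¹ c) = α⁻¹ c := by
      apply α.injective
      rw [MulAut.apply_inv_self]
      exact hh
    have := Nrm.inv h (nrm_of_fix h (inv_mem hα) h2)
    rwa [inv_inv] at this
  have hep : e ^ p = 1 := by rw [he, ← map_pow, h.pow_eq, map_one]
  have he1 : e ≠ 1 := fun h1 => hτe (by rw [h1, map_one])
  have hσmove : ∀ x, x⁻¹ * σ x ∈ zpowers e := fun x => by
    obtain ⟨i, hi⟩ := mem_zpowers_iff.mp (h.move (α⁻¹ x))
    refine mem_zpowers_iff.mpr ⟨i, ?_⟩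
    rw [he, ← map_zpow, hi, map_mul, map_inv, MulAut.apply_inv_self, hσdef]
    rfl
  have hσe : σ e = e := by
    rw [hσdef, MulAut.mul_apply, MulAut.mul_apply, he, MulAut.inv_apply_self, h.fix]
  obtain ⟨d, hddef⟩ : ∃ d, d = c⁻¹ * σ c := ⟨_, rfl⟩
  obtain ⟨l, hl⟩ := mem_zpowers_iff.mp (hσmove c)
  have hd1 : d ≠ 1 := fun hh => hσc (inv_mul_eq_one.mp (hddef ▸ hh)).symm
  have hσd : σ d = d := by rw [hddef, ← hl, map_zpow, hσe]
  have hdp : d ^ p = 1 := by
    rw [hddef, ← hl, ← zpow_natCast, ← zpow_mul, mul_comm, zpow_mul, zpow_natCast, hep, one_zpow]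
  have hecard : Nat.card (zpowers e) = p := by
    rw [Nat.card_zpowers]; exact orderOf_eq_prime hep he1
  have hgen : ∀ x, ∃ j : ℤ, d ^ j = x⁻¹ * σ x := fun x => by
    obtain ⟨j, hj⟩ := mem_zpowers_iff.mp (mem_zpowers_of_prime_card hecard
      (g := ⟨d, hddef ▸ hσmove c⟩) (g' := ⟨_, hσmove x⟩) (by simpa [Subtype.ext_iff] using hd1))
    exact ⟨j, congrArg Subtype.val hj⟩
  have hτd : τ d ≠ d := by
    intro hh
    obtain ⟨j, hj⟩ := mem_zpowers_iff.mp (mem_zpowers_of_prime_card hecard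
      (g := ⟨d, hddef ▸ hσmove c⟩) (g' := ⟨e, mem_zpowers e⟩) (by simpa [Subtype.ext_iff] using hd1))
    have hj' : d ^ j = e := congrArg Subtype.val hj
    exact hτe (by rw [← hj', map_zpow, hh])
  have hd2 : d⁻¹ * τ d ≠ 1 := fun hh => hτd (inv_mul_eq_one.mp hh).symm
  obtain ⟨m, hm⟩ := gen_of_mem h (h.move d) hd2 (inv_mem (mem_zpowers c))
  have hσc' : σ c = c * d := by rw [hddef, mul_inv_cancel_left]
  have hτ₁d : (τ ^ m) d = d * c⁻¹ := by rw [zpow_apply h, hm]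
  obtain ⟨w, hwdef⟩ : ∃ w, w = σ * τ ^ m * σ := ⟨_, rfl⟩
  have hwc : w c = d := by
    rw [hwdef, MulAut.mul_apply, MulAut.mul_apply, hσc', map_mul, zpow_fix h m h.fix, hτ₁d,
      mul_comm d c⁻¹, mul_inv_cancel_left, hσd]
  have hwd : w d = c⁻¹ := by
    rw [hwdef, MulAut.mul_apply, MulAut.mul_apply, hσd, hτ₁d, map_mul, map_inv, hσc', hσd,
      mul_inv_rev, mul_inv_cancel_left]
  refine ⟨w, d, hwdef ▸ mul_mem (mul_mem hσH (zpow_mem h.mem m)) hσH, hwc, hwd, hτd, hdp,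
    fun x => ?_, fun i hi => ?_⟩
  · obtain ⟨j, hj⟩ := gen_of_mem h (h.move d) hd2 (h.move x)
    obtain ⟨i, hi⟩ := hgen (x * (d ^ j)⁻¹)
    set v := x * (d ^ j)⁻¹ * (c ^ i)⁻¹ with hvdef
    have hτv : τ v = v := by
      have hτdj : τ (d ^ j) = d ^ j * (d⁻¹ * τ d) ^ j := by
        rw [map_zpow, ← mul_zpow, mul_inv_cancel_left]
      rw [hvdef, map_mul, map_mul, map_inv, map_inv, hτdj, hj, map_zpow, h.fix]
      group
    have hσv : σ v = v := by
      rw [hvdef, map_mul, map_inv, map_zpow, hσc', mul_zpow, hi]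
      simp [mul_comm, mul_left_comm, mul_assoc]
    refine ⟨i, j, v, ?_, hτv, ?_⟩
    · rw [hvdef]; simp [mul_comm, mul_left_comm, mul_assoc]
    · rw [hwdef, MulAut.mul_apply, MulAut.mul_apply, hσv, zpow_fix h m hτv, hσv]
  · rw [map_zpow, hwc] at hi
    have : τ (d ^ i) = d ^ i := by rw [hi]; exact fix_of_mem h (zpow_mem (mem_zpowers c) i)
    rw [map_zpow] at this
    have h3 : (d⁻¹ * τ d) ^ i = 1 := by rw [mul_zpow, inv_zpow, this, inv_mul_cancel]
    have hdo : orderOf (d⁻¹ * τ d) = p := orderOf_eq_prime (pow_of_mem h (h.move d)) hd2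
    rw [← orderOf_dvd_iff_zpow_eq_one, hdo] at h3
    rwa [← orderOf_dvd_iff_zpow_eq_one, orderOf_c h]

variable {w : MulAut M} {d : M}

theorem Opp.not_nrm (h : Tv p H τ c) (o : Opp p H τ c w d) : ¬ Nrm τ w := fun hn =>
  o.moves (o.apply_c ▸ Nrm.apply_fix h hn h.fix)

/-- Every element of `H` is, up to a normalizing element, `τ ^ k * w`. -/
theorem split (h : Tv p H τ c) (o : Opp p H τ c w d) {β : MulAut M} (hβ : β ∈ H) :
    Nrm τ β ∨ ∃ (k : ℤ) (n : MulAut M), n ∈ H ∧ Nrm τ n ∧ β = τ ^ k * w * n := by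
  by_cases hn : Nrm τ β
  · exact Or.inl hn
  right
  obtain ⟨i, j, v, hx, hτv, hwv⟩ := o.decomp (β c)
  have hτe : τ (β c) ≠ β c := fun hh => hn (nrm_of_fix h hβ hh)
  have he1 : (β c)⁻¹ * τ (β c) ≠ 1 := fun hh => hτe (inv_mul_eq_one.mp hh).symm
  obtain ⟨k, hk⟩ := gen_of_mem h (h.move (β c)) he1 (zpow_mem (mem_zpowers c) i)
  refine ⟨k, (τ ^ k * w)⁻¹ * β, ?_, ?_, by group⟩
  · exact mul_mem (inv_mem (mul_mem (zpow_mem h.mem k) o.mem)) hβ
  · refine nrm_of_fix h (mul_mem (inv_mem (mul_mem (zpow_mem h.mem k) o.mem)) hβ) ?_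
    have key : (τ ^ k * w) (c ^ j * v) = β c := by
      rw [MulAut.mul_apply, map_mul w, map_zpow, o.apply_c, hwv]
      apply (τ ^ k)⁻¹.injective
      rw [MulAut.inv_apply_self, ← zpow_neg, zpow_apply h, zpow_neg, hk, hx]
      simp [mul_comm, mul_left_comm, mul_assoc]
    have : ((τ ^ k * w)⁻¹ * β) c = c ^ j * v := by
      rw [MulAut.mul_apply, ← key, MulAut.inv_apply_self]
    rw [this, map_mul, map_zpow, h.fix, hτv]

/-- `H` preserves the common fixed points of `τ` and `w`. -/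
theorem invariant (h : Tv p H τ c) (o : Opp p H τ c w d) {β : MulAut M} (hβ : β ∈ H) {x : M}
    (hτx : τ x = x) (hwx : w x = x) : τ (β x) = β x ∧ w (β x) = β x := by
  have base : ∀ n ∈ H, Nrm τ n → τ (n x) = n x ∧ w (n x) = n x := by
    intro n hn hnn
    refine ⟨hnn.apply_fix h hτx, ?_⟩
    have hnot : ¬ Nrm τ (n * w) := fun hh => o.not_nrm h (by
      simpa using (hnn.inv h).mul hh)
    rcases split h o (mul_mem hn o.mem) with hh | ⟨k, n', -, hn'n, e⟩
    · exact absurd hh hnot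
    obtain ⟨i, j, v, hx', hτv, hwv⟩ := o.decomp (n' x)
    have hz : τ (n' x) = n' x := hn'n.apply_fix h hτx
    have hj : c ^ 0 = c ^ 0 := rfl
    have hdj : τ (d ^ j) = d ^ j := by
      rw [hx', map_mul, map_mul, hτv, map_zpow, h.fix] at hz
      exact mul_left_cancel (mul_right_cancel hz)
    have hy : n x = (τ ^ k) (w (n' x)) := by
      have := congrArg (fun f : MulAut M => f x) e
      simpa [MulAut.mul_apply, hwx] using this
    have hdj1 : d ^ j = 1 := by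
      rw [map_zpow] at hdj
      have h3 : (d⁻¹ * τ d) ^ j = 1 := by rw [mul_zpow, inv_zpow, hdj, inv_mul_cancel]
      have hd2 : d⁻¹ * τ d ≠ 1 := fun hh => o.moves (inv_mul_eq_one.mp hh).symm
      rw [← orderOf_dvd_iff_zpow_eq_one, orderOf_eq_prime (pow_of_mem h (h.move d)) hd2] at h3
      rw [← orderOf_dvd_iff_zpow_eq_one,
        orderOf_eq_prime o.pow_d (fun h1 => o.moves (by rw [h1, map_one]))]
      exact h3
    have hw' : w (n' x) = d ^ i * v := by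
      rw [hx', hdj1, mul_one, map_mul, map_zpow, o.apply_c, hwv]
    have hτy : τ (n x) = n x := hnn.apply_fix h hτx
    have hy2 : n x = d ^ i * v := by
      have := zpow_fix h (-k) hτy
      rw [hy, hw', zpow_neg, MulAut.inv_apply_self] at this
      rw [this, hy, hw']
    have hdi : d ^ i = 1 := by
      rw [hy2, map_mul, hτv, map_zpow] at hτy
      have hdi' := mul_right_cancel hτy
      have h3 : (d⁻¹ * τ d) ^ i = 1 := by rw [mul_zpow, inv_zpow, hdi', inv_mul_cancel]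
      have hd2 : d⁻¹ * τ d ≠ 1 := fun hh => o.moves (inv_mul_eq_one.mp hh).symm
      rw [← orderOf_dvd_iff_zpow_eq_one, orderOf_eq_prime (pow_of_mem h (h.move d)) hd2] at h3
      rw [← orderOf_dvd_iff_zpow_eq_one,
        orderOf_eq_prime o.pow_d (fun h1 => o.moves (by rw [h1, map_one]))]
      exact h3
    rw [hy2, hdi, one_mul, hwv]
  rcases split h o hβ with hn | ⟨k, n, hn, hnn, rfl⟩
  · exact base β hβ hn
  · obtain ⟨h1, h2⟩ := base n hn hnn
    rw [MulAut.mul_apply, MulAut.mul_apply, h2, zpow_fix h k h1]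
    exact ⟨h1, h2⟩

theorem Opp.moved (h : Tv p H τ c) (o : Opp p H τ c w d) (x : M) :
    x⁻¹ * w x ∈ zpowers c ⊔ zpowers d := by
  obtain ⟨i, j, v, rfl, -, hwv⟩ := o.decomp x
  have e : (c ^ i * d ^ j * v)⁻¹ * w (c ^ i * d ^ j * v) = c ^ (-i - j) * d ^ (i - j) := by
    rw [inv_mul_eq_iff_eq_mul, map_mul, map_mul, map_zpow, map_zpow, o.apply_c, o.apply_d, hwv,
      mul_right_comm _ v, mul_mul_mul_comm, ← zpow_add, ← zpow_add, inv_zpow', mul_comm (d ^ i)]
    congr 3 <;> ring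
  rw [e]
  exact mul_mem (mem_sup_left (zpow_mem (mem_zpowers c) _))
    (mem_sup_right (zpow_mem (mem_zpowers d) _))

theorem Opp.pow_eq (h : Tv p H τ c) (o : Opp p H τ c w d) (x : M) :
    ∃ v : M, τ v = v ∧ w v = v ∧ x ^ p = v ^ p := by
  obtain ⟨i, j, v, rfl, hτv, hwv⟩ := o.decomp x
  refine ⟨v, hτv, hwv, ?_⟩
  rw [mul_pow, mul_pow, pow_of_mem h (zpow_mem (mem_zpowers c) i), ← zpow_natCast (d ^ j),
    ← zpow_mul, mul_comm j, zpow_mul, zpow_natCast, o.pow_d, one_zpow, one_mul, one_mul]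

end Cfsg.Agent.TransvectionPair
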