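import Cfsg.Agent.Lib.FusionSysNormal
import Cfsg.Agent.Lib.TransvectionPair

/-!
Saturated fusion systems over `p`-groups with centre of index at most `p ^ 2`: the structure of an
essential subgroup and of its automizer.
-/

set_option autoImplicit false

namespace Cfsg.Agent.FusionCentreSq

open Cfsg Cfsg.FusionSystem Cfsg.Agent.FusionSysBasic Cfsg.Agent.FusionSysSaturated
  Cfsg.Agent.FusionSysAlperin Cfsg.Agent.FusionSysNormal

variable {Ω : Type*} [Group Ω] {S : Subgroup Ω}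

/-- The centre of `S` inside the ambient group. -/
def zc (S : Subgroup Ω) : Subgroup Ω := (Subgroup.center ↥S).map S.subtype

theorem mem_zc {x : Ω} : x ∈ zc S ↔ x ∈ S ∧ ∀ s ∈ S, s * x = x * s := by
  constructor
  · rintro ⟨y, hy, rfl⟩
    exact ⟨y.2, fun s hs => congrArg Subtype.val (Subgroup.mem_center_iff.mp hy ⟨s, hs⟩)⟩
  · rintro ⟨hx, h⟩
    exact ⟨⟨x, hx⟩, Subgroup.mem_center_iff.mpr fun s => Subtype.ext (h s s.2), rfl⟩

theorem zc_le : zc S ≤ S := Subgroup.map_subtype_le _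

theorem cj_zc {g z : Ω} (hg : g ∈ S) (hz : z ∈ zc S) : cj g z = z := by
  rw [cj_apply, (mem_zc.mp hz).2 g hg, mul_inv_cancel_right]

/-- Multiplicativity of `cj`. -/
theorem cj_mul (g x y : Ω) : cj g (x * y) = cj g x * cj g y := by simp only [cj_apply]; group

variable [Finite S] {p : ℕ} [hp : Fact p.Prime] (hS : IsPGroup p S)
  (hZ : (Subgroup.center ↥S).index ≤ p ^ 2)

include hS in
theorem sup_zpowers_eq {A B : Subgroup Ω} (hB : B ≤ S) (hAB : A ≤ B)
    (hc : Nat.card B = p * Nat.card A) {x : Ω} (hx : x ∈ B) (hxA : x ∉ A) :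
    A ⊔ Subgroup.zpowers x = B := by
  have hle : A ⊔ Subgroup.zpowers x ≤ B := sup_le hAB (Subgroup.zpowers_le.mpr hx)
  haveI := finite_of_le hB
  haveI := finite_of_le (hAB.trans hB)
  haveI := finite_of_le (hle.trans hB)
  obtain ⟨k, hk⟩ := Subgroup.card_dvd_of_le (le_sup_left : A ≤ A ⊔ Subgroup.zpowers x)
  have hd := Subgroup.card_dvd_of_le hle
  rw [hk, hc, mul_comm p] at hd
  rcases (Nat.dvd_prime hp.out).mp (Nat.dvd_of_mul_dvd_mul_left Nat.card_pos hd) with rfl | rfl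
  · refine absurd ?_ hxA
    have e := eq_of_le_of_card_ge (hle.trans hB) le_sup_left (by rw [hk, mul_one])
    rw [e]
    exact Subgroup.mem_sup_right (Subgroup.mem_zpowers x)
  · exact eq_of_le_of_card_ge hB hle (by rw [hk, hc, mul_comm])

/-- What is known of an essential subgroup before looking at its automizer. -/
structure Shape (p : ℕ) (S E : Subgroup Ω) : Prop where
  le : E ≤ S
  zle : zc S ≤ E
  cardS : Nat.card S = p * Nat.card E
  cardE : Nat.card E = p * Nat.card (zc S)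
  cent : centralizerIn S E = E
  comm : ∀ x ∈ E, ∀ y ∈ E, x * y = y * x
  normal : ∀ g ∈ S, ∀ x ∈ E, cj g x ∈ E

variable {F : FusionSystem S} (hF : F.IsSaturated p)

include hS hF hZ in
theorem shape {E : Subgroup Ω} (hE : F.IsEssential p E) : Shape p S E := by
  have hlt := essential_lt hS hF hE
  have hC : centralizerIn S E ≤ E := centralizerIn_le_of_centric hE.1
  have hzc : ∀ x ∈ zc S, x ∈ centralizerIn S E := fun x hx =>
    mem_centralizerIn.mpr ⟨zc_le hx, fun y hy => by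
      rw [cj_apply, ← (mem_zc.mp hx).2 y (hlt.le hy), mul_inv_cancel_right]⟩
  have hzle : zc S ≤ E := fun x hx => hC (hzc x hx)
  have hzlt : zc S < E := by
    refine lt_of_le_of_ne hzle fun e => hlt.not_ge fun s hs => hC ?_
    refine mem_centralizerIn.mpr ⟨hs, fun y hy => ?_⟩
    rw [← e] at hy
    exact cj_zc hs hy
  haveI := finite_of_le hlt.le
  haveI := finite_of_le (zc_le (S := S))
  obtain ⟨k, hk⟩ := Subgroup.card_dvd_of_le hzle
  obtain ⟨l, hl⟩ := Subgroup.card_dvd_of_le hlt.le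
  have hcard : Nat.card S = Nat.card (zc S) * (Subgroup.center ↥S).index := by
    rw [zc, Subgroup.card_map_of_injective S.subtype_injective, Subgroup.card_mul_index]
  have hkl : k * l ≤ p ^ 2 := by
    refine le_trans (le_of_eq ?_) hZ
    refine Nat.eq_of_mul_eq_mul_left (Nat.card_pos (α := zc S)) ?_
    rw [← hcard, hl, hk, mul_assoc]
  obtain ⟨n, hn⟩ := IsPGroup.iff_card.mp hS
  have hkp : ∀ m, 1 < m → m ∣ Nat.card S → p ≤ m := by
    intro m hm hd
    rw [hn] at hd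
    obtain ⟨i, -, rfl⟩ := (Nat.dvd_prime_pow hp.out).mp hd
    exact Nat.le_self_pow (by rintro rfl; simp at hm) p
  have hk1 : 1 < k := by
    by_contra hh
    refine hzlt.ne (eq_of_le_of_card_ge hlt.le hzle ?_)
    rw [hk]; exact (Nat.mul_le_mul_left _ (by omega : k ≤ 1)).trans (by rw [mul_one])
  have hl1 : 1 < l := by
    by_contra hh
    refine hlt.ne (eq_of_le_of_card_ge le_rfl hlt.le ?_)
    rw [hl]; exact (Nat.mul_le_mul_left _ (by omega : l ≤ 1)).trans (by rw [mul_one])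
  have hpk := hkp k hk1 (by rw [hl, hk]; exact (dvd_mul_left k _).mul_right l)
  have hpl := hkp l hl1 (by rw [hl]; exact dvd_mul_left l _)
  have hp0 := hp.out.pos
  have hek : k = p := by nlinarith
  have hel : l = p := by nlinarith
  rw [hek] at hk
  rw [hel] at hl
  have cE : Nat.card E = p * Nat.card (zc S) := by rw [hk, mul_comm]
  obtain ⟨a, haE, haZ⟩ := SetLike.exists_of_lt hzlt
  have hgen := sup_zpowers_eq hS hlt.le hzle cE haE haZ
  have ha : E ≤ Subgroup.centralizer {a} := by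
    rw [← hgen]
    refine sup_le (fun z hz => ?_) (Subgroup.zpowers_le.mpr ?_)
    · exact Subgroup.mem_centralizer_singleton_iff.mpr ((mem_zc.mp hz).2 a (hlt.le haE)).symm
    · exact Subgroup.mem_centralizer_singleton_iff.mpr rfl
  have hcomm : ∀ x ∈ E, ∀ y ∈ E, x * y = y * x := by
    intro x hx y hy
    have : E ≤ Subgroup.centralizer {x} := by
      rw [← hgen]
      refine sup_le (fun z hz => ?_) (Subgroup.zpowers_le.mpr ?_)
      · exact Subgroup.mem_centralizer_singleton_iff.mpr ((mem_zc.mp hz).2 x (hlt.le hx)).symm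
      · exact Subgroup.mem_centralizer_singleton_iff.mpr
          (Subgroup.mem_centralizer_singleton_iff.mp (ha hx)).symm
    exact (Subgroup.mem_centralizer_singleton_iff.mp (this hy)).symm
  refine ⟨hlt.le, hzle, by rw [hl, mul_comm], cE, le_antisymm hC fun x hx =>
    mem_centralizerIn.mpr ⟨hlt.le hx, fun y hy => by
      rw [cj_apply, hcomm x hx y hy, mul_inv_cancel_right]⟩, hcomm, ?_⟩
  obtain ⟨g, hgS, hgE, hgn⟩ := lt_normalizerIn hS le_rfl hlt
  have hgen2 := sup_zpowers_eq hS le_rfl hlt.le (by rw [hl, mul_comm]) hgS hgE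
  intro s hs x hx
  have hn' : S ≤ Subgroup.normalizer (E : Set Ω) :=
    hgen2 ▸ sup_le Subgroup.le_normalizer (Subgroup.zpowers_le.mpr hgn)
  exact cj_mem_of_normalizer (hn' hs) hx

namespace Shape

variable {E : Subgroup Ω} (h : Shape p S E)
include h

include hS in
theorem sup_eq {x : Ω} (hx : x ∈ S) (hxE : x ∉ E) : E ⊔ Subgroup.zpowers x = S :=
  sup_zpowers_eq hS le_rfl h.le h.cardS hx hxE

include hS in
theorem central_of {x : Ω} (hxS : x ∈ S) (hxE : x ∉ E) {y : Ω} (hy : y ∈ E) (hf : cj x y = y) :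
    y ∈ zc S := by
  refine mem_zc.mpr ⟨h.le hy, fun s hs => ?_⟩
  have : S ≤ Subgroup.centralizer {y} := by
    rw [← h.sup_eq hS hxS hxE]
    refine sup_le (fun e he => ?_) (Subgroup.zpowers_le.mpr ?_)
    · exact Subgroup.mem_centralizer_singleton_iff.mpr (h.comm e he y hy)
    · exact Subgroup.mem_centralizer_singleton_iff.mpr (mul_inv_eq_iff_eq_mul.mp hf)
  exact Subgroup.mem_centralizer_singleton_iff.mp (this hs)

theorem ne : E ≠ S := fun e => by
  have h2 := h.cardS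
  rw [e] at h2
  nlinarith [hp.out.two_le, Nat.card_pos (α := S)]

theorem exists_out : ∃ u ∈ S, u ∉ E := SetLike.exists_of_lt (lt_of_le_of_ne h.le h.ne)

theorem exists_in : ∃ a ∈ E, a ∉ zc S := by
  refine SetLike.exists_of_lt (lt_of_le_of_ne h.zle fun e => ?_)
  haveI := finite_of_le (zc_le (S := S))
  have h2 := h.cardE
  rw [← e] at h2
  nlinarith [hp.out.two_le, Nat.card_pos (α := zc S)]

include hS in
theorem pow_mem {x : Ω} (hx : x ∈ E) : x ^ p ∈ zc S := by
  haveI := finite_of_le h.le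
  haveI : ((zc S).subgroupOf E).Normal := ⟨fun n hn g => by
    show (g : Ω) * n * (g : Ω)⁻¹ ∈ zc S
    rw [h.comm g g.2 n n.2, mul_inv_cancel_right]
    exact hn⟩
  have hi : ((zc S).subgroupOf E).index = p := by
    have := Subgroup.card_mul_index ((zc S).subgroupOf E)
    rw [Nat.card_congr (Subgroup.subgroupOfEquivOfLe h.zle).toEquiv, h.cardE, mul_comm p] at this
    exact Nat.eq_of_mul_eq_mul_left (haveI := finite_of_le (zc_le (S := S)); Nat.card_pos) this
  have h2 := Subgroup.pow_index_mem ((zc S).subgroupOf E) (⟨x, hx⟩ : E)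
  rw [hi] at h2
  exact h2

include hS in
/-- `p`-th powers of elements of `S` are central. -/
theorem pow_mem' {x : Ω} (hx : x ∈ S) : x ^ p ∈ zc S := by
  by_cases hxE : x ∈ E
  · exact h.pow_mem hS hxE
  refine h.central_of hS hx hxE ?_ (by simp only [cj_apply]; group)
  haveI : (E.subgroupOf S).Normal := ⟨fun n hn g => h.normal g g.2 n hn⟩
  have hi : (E.subgroupOf S).index = p := by
    have := Subgroup.card_mul_index (E.subgroupOf S)
    rw [Nat.card_congr (Subgroup.subgroupOfEquivOfLe h.le).toEquiv, h.cardS, mul_comm p] at this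
    exact Nat.eq_of_mul_eq_mul_left (haveI := finite_of_le h.le; Nat.card_pos) this
  have h2 := Subgroup.pow_index_mem (E.subgroupOf S) (⟨x, hx⟩ : S)
  rw [hi] at h2
  exact h2

end Shape

/-- A generator of the derived subgroup. -/
structure Com (p : ℕ) (S : Subgroup Ω) (c : Ω) : Prop where
  mem : c ∈ zc S
  ne : c ≠ 1
  pow_eq : c ^ p = 1
  com : ∀ x ∈ S, ∀ y ∈ S, y⁻¹ * cj x y ∈ Subgroup.zpowers c

include hS hZ in
theorem com_mem_zc {E : Subgroup Ω} (h : Shape p S E) {x y : Ω} (hx : x ∈ S) (hy : y ∈ S) :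
    y⁻¹ * cj x y ∈ zc S := by
  have hq : Subgroup.center ↥S ≠ ⊤ := fun e => by
    obtain ⟨a, ha, haz⟩ := h.exists_in
    exact haz ⟨⟨a, h.le ha⟩, e ▸ Subgroup.mem_top _, rfl⟩
  obtain ⟨k, hk⟩ := IsPGroup.iff_card.mp (hS.to_quotient (Subgroup.center ↥S))
  have hk2 : k ≤ 2 := by
    by_contra hh
    have h1 : p ^ 3 ≤ p ^ k := Nat.pow_le_pow_right hp.out.pos (by omega)
    rw [← hk, ← Subgroup.index_eq_card] at h1
    have := Nat.pow_lt_pow_right hp.out.one_lt (show 2 < 3 by norm_num)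
    omega
  have hcomm : ∀ a b : ↥S ⧸ Subgroup.center ↥S, a * b = b * a := by
    interval_cases k
    · have := (Nat.card_eq_one_iff_unique.mp (hk.trans (pow_zero p))).1
      exact fun a b => Subsingleton.elim _ _
    · haveI := isCyclic_of_prime_card (hk.trans (pow_one p))
      exact fun a b => (IsCyclic.isMulCommutative (α := ↥S ⧸ Subgroup.center ↥S)).is_comm.comm a b
    · exact fun a b => IsPGroup.commutative_of_card_eq_prime_sq hk a b
  refine ⟨⟨y, hy⟩⁻¹ * (⟨x, hx⟩ * ⟨y, hy⟩ * ⟨x, hx⟩⁻¹), ?_, rfl⟩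
  rw [SetLike.mem_coe, ← QuotientGroup.eq_one_iff]
  simp only [QuotientGroup.mk_mul, QuotientGroup.mk_inv]
  rw [hcomm ((⟨x, hx⟩ : ↥S) : ↥S ⧸ Subgroup.center ↥S), mul_inv_cancel_right, inv_mul_cancel]

include hS hZ in
theorem exists_com {E : Subgroup Ω} (h : Shape p S E) : ∃ c, Com p S c := by
  obtain ⟨u, huS, huE⟩ := h.exists_out
  obtain ⟨a, haE, haZ⟩ := h.exists_in
  set c := a⁻¹ * cj u a with hc
  have hcz : c ∈ zc S := com_mem_zc hS hZ h huS (h.le haE)
  have hne : c ≠ 1 := fun e => haZ (h.central_of hS huS huE haE (inv_mul_eq_one.mp e).symm)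
  have hcp : c ^ p = 1 := by
    have hc' : Commute a⁻¹ (cj u a) :=
      h.comm _ (inv_mem haE) _ (h.normal u huS a haE)
    rw [hc, hc'.mul_pow, inv_pow]
    have : cj u a ^ p = cj u (a ^ p) := by
      simp only [cj_apply, conj_pow]
    rw [this, cj_zc huS (h.pow_mem hS haE), inv_mul_cancel]
  refine ⟨c, hcz, hne, hcp, ?_⟩
  -- the maps `y ↦ y⁻¹ * cj x y` are homomorphisms into the centre
  let K : ∀ x ∈ S, Subgroup Ω := fun x hx =>
    { carrier := {y | y ∈ S ∧ y⁻¹ * cj x y ∈ Subgroup.zpowers c}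
      one_mem' := ⟨one_mem _, by simp [cj_apply]⟩
      mul_mem' := fun {y z} hy hz => ⟨mul_mem hy.1 hz.1, by
        have hyy := (mem_zc.mp (com_mem_zc hS hZ h hx hy.1)).2 _ (inv_mem hz.1)
        have e : (y * z)⁻¹ * cj x (y * z) = y⁻¹ * cj x y * (z⁻¹ * cj x z) :=
          calc (y * z)⁻¹ * cj x (y * z)
              = z⁻¹ * (y⁻¹ * cj x y) * z * (z⁻¹ * cj x z) := by simp only [cj_apply]; group
            _ = (y⁻¹ * cj x y) * z⁻¹ * z * (z⁻¹ * cj x z) := by rw [hyy]
            _ = _ := by rw [inv_mul_cancel_right]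
        rw [e]
        exact mul_mem hy.2 hz.2⟩
      inv_mem' := fun {y} hy => ⟨inv_mem hy.1, by
        have hyy := (mem_zc.mp (inv_mem (com_mem_zc hS hZ h hx hy.1))).2 y hy.1
        have e : (y⁻¹)⁻¹ * cj x y⁻¹ = (y⁻¹ * cj x y)⁻¹ :=
          calc (y⁻¹)⁻¹ * cj x y⁻¹ = y * (y⁻¹ * cj x y)⁻¹ * y⁻¹ := by simp only [cj_apply]; group
            _ = (y⁻¹ * cj x y)⁻¹ * y * y⁻¹ := by rw [hyy]
            _ = _ := mul_inv_cancel_right _ _
        rw [e]
        exact inv_mem hy.2⟩ }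
  have hsymm : ∀ {x y : Ω}, x ∈ S → y ∈ S → y⁻¹ * cj x y ∈ Subgroup.zpowers c →
      x⁻¹ * cj y x ∈ Subgroup.zpowers c := by
    intro x y hx hy hm
    have hz := (mem_zc.mp (com_mem_zc hS hZ h hx hy)).2
    have e : x⁻¹ * cj y x = (y⁻¹ * cj x y)⁻¹ :=
      calc x⁻¹ * cj y x = (y * (x⁻¹ * (y⁻¹ * cj x y) * x) * y⁻¹)⁻¹ := by
            simp only [cj_apply]; group
        _ = (y * ((y⁻¹ * cj x y) * x⁻¹ * x) * y⁻¹)⁻¹ := by rw [hz _ (inv_mem hx)]
        _ = (y * (y⁻¹ * cj x y) * y⁻¹)⁻¹ := by rw [inv_mul_cancel_right]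
        _ = _ := by rw [hz _ hy, mul_inv_cancel_right]
    rw [e]
    exact inv_mem hm
  have htriv : ∀ {x y : Ω}, x ∈ S → y ∈ zc S → y⁻¹ * cj x y ∈ Subgroup.zpowers c :=
    fun hx hy => by rw [cj_zc hx hy, inv_mul_cancel]; exact one_mem _
  have hEgen := sup_zpowers_eq hS h.le h.zle h.cardE haE haZ
  have hgen : ∀ x (hx : x ∈ S), a ∈ K x hx → u ∈ K x hx → S ≤ K x hx := by
    intro x hx ha hu
    rw [← h.sup_eq hS huS huE, ← hEgen]
    exact sup_le (sup_le (fun z hz => ⟨zc_le hz, htriv hx hz⟩) (Subgroup.zpowers_le.mpr ha))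
      (Subgroup.zpowers_le.mpr hu)
  have hself : ∀ {x : Ω}, x⁻¹ * cj x x ∈ Subgroup.zpowers c := fun {x} => by
    simp [cj_apply]
  have hKu := hgen u huS ⟨h.le haE, Subgroup.mem_zpowers c⟩ ⟨huS, hself⟩
  have hKa := hgen a (h.le haE) ⟨h.le haE, hself⟩
    ⟨huS, hsymm huS (h.le haE) (Subgroup.mem_zpowers c)⟩
  intro x hx y hy
  exact (hgen x hx ⟨h.le haE, hsymm (h.le haE) hx (hKa hx).2⟩
    ⟨huS, hsymm huS hx (hKu hx).2⟩ hy).2

/-- What is used about the automizer of an essential subgroup. -/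
structure EssData (F : FusionSystem S) (p : ℕ) (c : Ω) (E W : Subgroup Ω) (d : Ω) : Prop where
  shape : Shape p S E
  wle : W ≤ zc S
  decomp : ∀ z ∈ zc S, ∃ i : ℤ, ∃ v ∈ W, z = c ^ i * v
  indep : ∀ i : ℤ, c ^ i ∈ W → c ^ i = 1
  d_mem : d ∈ E
  d_not : d ∉ zc S
  d_pow : d ^ p = 1
  pow_eq : ∀ x ∈ E, ∃ v ∈ zc S, x ^ p = v ^ p
  invariant : ∀ β ∈ F.autGroup E, ∀ x ∈ W, afun β x ∈ W
  agree : ∀ β ∈ F.autGroup E, ∃ ψ ∈ F.autGroup S, ∀ x ∈ W, afun β x = afun ψ x
  moved : ∀ β ∈ F.autGroup E, ∃ ψ ∈ F.autGroup S, ∀ x ∈ E,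
    (afun ψ x)⁻¹ * afun β x ∈ Subgroup.zpowers c ⊔ Subgroup.zpowers d
  theta : ∃ ψ ∈ F.autGroup S, afun ψ c = c⁻¹ ∧ ∀ x ∈ W, afun ψ x = x

include hS hF hZ in
theorem exists_essData {c : Ω} (hc : Com p S c) {E : Subgroup Ω} (hE : F.IsEssential p E) :
    ∃ W d, EssData F p c E W d := by
  have h := shape hS hZ hF hE
  letI : CommGroup E :=
    { (inferInstance : Group E) with mul_comm := fun x y => Subtype.ext (h.comm x x.2 y y.2) }
  haveI := finite_autGroup (F := F) E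
  haveI := finite_of_le h.le
  obtain ⟨u, huS, huE⟩ := h.exists_out
  have hun : ∀ g ∈ S, g ∈ S ⊓ Subgroup.normalizer (E : Set Ω) := fun g hg =>
    ⟨hg, mem_normalizer_of_cj_le h.le (h.normal g hg)⟩
  let τ : MulAut E := nHom S E ⟨u, hun u huS⟩
  have hτv : ∀ x : E, ((τ x : E) : Ω) = cj u x := fun x => rfl
  have hτR : τ ∈ autInducedBy S E := by rw [autInducedBy_eq_range]; exact ⟨_, rfl⟩
  have hRc : Nat.card (autInducedBy S E) = p := by
    have h1 := card_normalizerIn S E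
    have hN : normalizerIn S E = S := le_antisymm inf_le_left fun g hg => hun g hg
    rw [hN, h.cent, h.cardS] at h1
    exact Nat.eq_of_mul_eq_mul_right Nat.card_pos h1.symm
  have hτ1 : τ ≠ 1 := by
    intro e
    obtain ⟨a, haE, haZ⟩ := h.exists_in
    refine haZ (h.central_of hS huS huE haE ?_)
    have := congrArg (fun f : MulAut E => ((f ⟨a, haE⟩ : E) : Ω)) e
    exact this
  have hRz : autInducedBy S E = Subgroup.zpowers τ := by
    refine (Subgroup.eq_of_le_of_card_ge (Subgroup.zpowers_le.mpr hτR) ?_).symm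
    rw [hRc, Nat.card_zpowers]
    have h2 : orderOf τ ∣ p := by
      rw [← hRc, ← Subgroup.orderOf_mk τ hτR]
      exact orderOf_dvd_natCard _
    rcases (Nat.dvd_prime hp.out).mp h2 with h3 | h3
    · exact absurd (orderOf_eq_one_iff.mp h3) hτ1
    · exact h3.ge
  obtain ⟨T, hT⟩ := (fullyAutomized_of_fullyNormalized hS hF hE.2.1).2
  have hτH : τ ∈ F.autGroup E := autInducedBy_le h.le hτR
  have hmax : ∀ γ ∈ F.autGroup E, Commute γ τ → γ ^ p = 1 → γ ∈ Subgroup.zpowers τ := by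
    intro γ hγ hγτ hγp
    let g : F.autGroup E := ⟨γ, hγ⟩
    have hg : IsPGroup p (Subgroup.zpowers g) := by
      rintro ⟨x, hx⟩
      obtain ⟨i, rfl⟩ := Subgroup.mem_zpowers_iff.mp hx
      refine ⟨1, Subtype.ext (Subtype.ext ?_)⟩
      show (γ ^ i) ^ p ^ 1 = 1
      rw [pow_one, ← zpow_natCast, ← zpow_mul, mul_comm, zpow_mul, zpow_natCast, hγp, one_zpow]
    have hTn : (T : Subgroup (F.autGroup E)) ≤ Subgroup.normalizer (Subgroup.zpowers g : Set _) := by
      refine le_trans (fun x hx => ?_) (Subgroup.centralizer_le_normalizer _)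
      rw [hT, Subgroup.mem_subgroupOf, hRz] at hx
      obtain ⟨i, hi⟩ := hx
      rw [Subgroup.mem_centralizer_iff]
      rintro y ⟨j, rfl⟩
      refine Subtype.ext ?_
      show γ ^ j * (x : MulAut E) = (x : MulAut E) * γ ^ j
      rw [show (x : MulAut E) = τ ^ i from hi.symm]
      exact ((hγτ.zpow_left j).zpow_right i).eq
    have hsup := T.3 (IsPGroup.to_sup_of_normal_right' T.2 hg hTn) le_sup_left
    have : g ∈ (T : Subgroup (F.autGroup E)) := by
      rw [← hsup]; exact Subgroup.mem_sup_right (Subgroup.mem_zpowers g)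
    rw [hT, Subgroup.mem_subgroupOf, hRz] at this
    exact this
  let cE : E := ⟨c, h.zle hc.mem⟩
  have tv : TransvectionPair.Tv p (F.autGroup E) τ cE :=
    { mem := hτH
      ne := fun e => hc.ne (congrArg Subtype.val e)
      pow_eq := Subtype.ext hc.pow_eq
      fix := Subtype.ext (cj_zc huS hc.mem)
      move := fun x => by
        obtain ⟨i, hi⟩ := Subgroup.mem_zpowers_iff.mp (hc.com u huS x (h.le x.2))
        exact ⟨i, Subtype.ext hi⟩
      nontriv := hτ1
      max := hmax }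
  have hfix : ∀ x : E, τ x = x ↔ (x : Ω) ∈ zc S := fun x =>
    ⟨fun e => h.central_of hS huS huE x.2 (congrArg Subtype.val e),
      fun hx => Subtype.ext (cj_zc huS hx)⟩
  -- normalizing elements extend to `S`
  obtain ⟨-, hrec⟩ := receptive_iff.mp (receptive_of_fullyNormalized hS hF hE.2.1)
  have hext : ∀ β ∈ F.autGroup E, TransvectionPair.Nrm τ β →
      ∃ ψ ∈ F.autGroup S, ∀ x ∈ E, afun ψ x = afun β x := by
    intro β hβ hn
    obtain ⟨f, hf, hag⟩ := hrec E (afun β) S ((mem_autGroup h.le).mp hβ) (im_afun β) le_rfl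
      (fun g hg => (hun g hg).2) (fun g hg => by
        have hgR : nHom S E ⟨g, hun g hg⟩ ∈ autInducedBy S E := by
          rw [autInducedBy_eq_range]; exact ⟨_, rfl⟩
        rw [hRz] at hgR
        obtain ⟨i, hi⟩ := hgR
        have hm : β * nHom S E ⟨g, hun g hg⟩ * β⁻¹ ∈ autInducedBy S E := by
          rw [hRz, ← hi, ← conj_zpow]
          exact zpow_mem hn i
        obtain ⟨k, hk, -, hke⟩ := mem_autInducedBy.mp hm
        refine ⟨k, hk, fun x hx => ?_⟩
        rw [← hke _ (afun_mem β hx), afun_mul _ _ (afun_mem β hx), afun_inv_apply β hx,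
          afun_mul _ _ hx, afun_nHom _ hx])
    rw [sup_eq_right.mpr h.le] at hf
    obtain ⟨ψ, hψ, he⟩ := hf.exists_aut (hf.im_self fun x hx => hf.apply_mem hx)
    exact ⟨ψ, hψ, fun x hx => (he x (h.le hx)).trans (hag x hx)⟩
  have hnot : ∃ α ∈ F.autGroup E, ¬ TransvectionPair.Nrm τ α := by
    by_contra hh
    push Not at hh
    refine essential_exists_not_extends hS hF hE fun α hα => Subgroup.subset_closure ?_
    obtain ⟨ψ, hψ, he⟩ := hext α hα (hh α hα)
    exact ⟨S, lt_of_le_of_ne h.le h.ne, afun ψ, (mem_autGroup le_rfl).mp hψ, he⟩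
  obtain ⟨α, hα, hαn⟩ := hnot
  obtain ⟨w, d, o⟩ := TransvectionPair.exists_opp tv hα hαn
  let W : Subgroup Ω := ((MonoidHom.eqLocus τ.toMonoidHom (MonoidHom.id E)) ⊓
    (MonoidHom.eqLocus w.toMonoidHom (MonoidHom.id E))).map E.subtype
  have hW : ∀ {x : Ω}, x ∈ W → ∃ hx : x ∈ E, τ ⟨x, hx⟩ = ⟨x, hx⟩ ∧ w ⟨x, hx⟩ = ⟨x, hx⟩ := by
    rintro x ⟨y, hy, rfl⟩
    exact ⟨y.2, hy.1, hy.2⟩
  have hW' : ∀ {x : E}, τ x = x → w x = x → (x : Ω) ∈ W := fun h1 h2 => ⟨_, ⟨h1, h2⟩, rfl⟩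
  have hzp : ∀ (y z : E), z ∈ Subgroup.zpowers y →
      (z : Ω) ∈ Subgroup.zpowers (y : Ω) := by
    rintro y z ⟨i, rfl⟩
    exact ⟨i, (Subgroup.coe_zpow E y i).symm⟩
  refine ⟨W, d, ⟨h, fun x hx => ?_, fun z hz => ?_, fun i hi => ?_, d.2, ?_, ?_, fun x hx => ?_,
    fun β hβ x hx => ?_, fun β hβ => ?_, fun β hβ => ?_, ?_⟩⟩
  · obtain ⟨hxE, h1, -⟩ := hW hx
    exact (hfix _).mp h1
  · obtain ⟨i, j, v, he, hτv', hwv⟩ := o.decomp ⟨z, h.zle hz⟩
    have h1 := (hfix ⟨z, h.zle hz⟩).mpr hz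
    rw [he, map_mul, map_mul, map_zpow, tv.fix, hτv'] at h1
    have h2 : τ (d ^ j) = d ^ j := mul_left_cancel (mul_right_cancel h1)
    refine ⟨i, v, hW' hτv' hwv, ?_⟩
    have hdj : d ^ j = 1 := by
      rw [map_zpow] at h2
      have h3 : (d⁻¹ * τ d) ^ j = 1 := by rw [mul_zpow, inv_zpow, h2, inv_mul_cancel]
      have hd2 : d⁻¹ * τ d ≠ 1 := fun e => o.moves (inv_mul_eq_one.mp e).symm
      rw [← orderOf_dvd_iff_zpow_eq_one,
        orderOf_eq_prime (TransvectionPair.pow_of_mem tv (tv.move d)) hd2] at h3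
      rw [← orderOf_dvd_iff_zpow_eq_one,
        orderOf_eq_prime o.pow_d (fun e => o.moves (by rw [e, map_one]))]
      exact h3
    rw [hdj, mul_one] at he
    have := congrArg Subtype.val he
    simpa [cE] using this
  · obtain ⟨hxE, -, h2⟩ := hW hi
    have e : (⟨c ^ i, hxE⟩ : E) = cE ^ i := Subtype.ext (Subgroup.coe_zpow E cE i).symm
    rw [e] at h2
    have := congrArg Subtype.val (o.fixed i h2)
    rwa [Subgroup.coe_zpow] at this
  · exact fun hd => o.moves ((hfix d).mpr hd)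
  · have := congrArg Subtype.val o.pow_d
    simpa using this
  · obtain ⟨v, h1, -, hv⟩ := o.pow_eq tv ⟨x, hx⟩
    exact ⟨v, (hfix v).mp h1, by simpa using congrArg Subtype.val hv⟩
  · obtain ⟨hxE, h1, h2⟩ := hW hx
    rw [afun_apply β hxE]
    obtain ⟨h3, h4⟩ := TransvectionPair.invariant tv o hβ h1 h2
    exact hW' h3 h4
  · rcases TransvectionPair.split tv o hβ with hn | ⟨k, n, hn, hnn, rfl⟩
    · obtain ⟨ψ, hψ, he⟩ := hext β hβ hn
      exact ⟨ψ, hψ, fun x hx => (he x (hW hx).1).symm⟩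
    · obtain ⟨ψ, hψ, he⟩ := hext n hn hnn
      refine ⟨ψ, hψ, fun x hx => ?_⟩
      obtain ⟨hxE, h1, h2⟩ := hW hx
      obtain ⟨h3, h4⟩ := TransvectionPair.invariant tv o hn h1 h2
      rw [he x hxE, afun_apply _ hxE, afun_apply _ hxE, MulAut.mul_apply, MulAut.mul_apply, h4,
        TransvectionPair.zpow_fix tv k h3]
  · rcases TransvectionPair.split tv o hβ with hn | ⟨k, n, hn, hnn, rfl⟩
    · obtain ⟨ψ, hψ, he⟩ := hext β hβ hn
      exact ⟨ψ, hψ, fun x hx => by rw [he x hx, inv_mul_cancel]; exact one_mem _⟩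
    · obtain ⟨ψ, hψ, he⟩ := hext n hn hnn
      refine ⟨ψ, hψ, fun x hx => ?_⟩
      rw [he x hx, afun_apply _ hx, afun_apply _ hx]
      set y := n ⟨x, hx⟩
      have e : ((τ ^ k * w * n) ⟨x, hx⟩ : E) = (τ ^ k) (w y) := rfl
      rw [e, TransvectionPair.zpow_apply tv k (w y)]
      have hm : y⁻¹ * (w y * ((w y)⁻¹ * τ (w y)) ^ k) ∈
          Subgroup.zpowers cE ⊔ Subgroup.zpowers d := by
        rw [← mul_assoc]
        exact mul_mem (o.moved tv y) (Subgroup.mem_sup_left (zpow_mem (tv.move _) k))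
      have h5 : Subgroup.zpowers cE ⊔ Subgroup.zpowers d ≤
          (Subgroup.zpowers c ⊔ Subgroup.zpowers (d : Ω)).comap E.subtype :=
        sup_le (fun z hz => Subgroup.mem_sup_left (hzp cE z hz))
          (fun z hz => Subgroup.mem_sup_right (hzp d z hz))
      exact h5 hm
  · have hww : w * w ∈ F.autGroup E := mul_mem o.mem o.mem
    have hwwc : (w * w) cE = cE⁻¹ := by rw [MulAut.mul_apply, o.apply_c, o.apply_d]
    have hn : TransvectionPair.Nrm τ (w * w) :=
      TransvectionPair.nrm_of_fix tv hww (by rw [hwwc, map_inv, tv.fix])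
    obtain ⟨ψ, hψ, he⟩ := hext _ hww hn
    refine ⟨ψ, hψ, ?_, fun x hx => ?_⟩
    · rw [he c cE.2, afun_apply _ cE.2]
      exact congrArg Subtype.val hwwc
    · obtain ⟨hxE, h1, h2⟩ := hW hx
      rw [he x hxE, afun_apply _ hxE, MulAut.mul_apply, h2, h2]

end Cfsg.Agent.FusionCentreSq
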