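import Mathlib
import Cfsg.Agent.Lib.ClassTwoPow

/-!
Fixed points of a finite group on a finite abelian `p`-group.

* `exists_coboundary`: a cocycle trivial on a subgroup of index prime to `p` is a coboundary, by a
  canonical averaged vector (so equivariant).
* `smul_eq_of_quadratic` (Glauberman-Lynd norm argument): for `p` odd, if `X` is generated by a
  conjugation-closed set of quadratically acting elements of a Sylow subgroup, then the fixed
  points of the normalizer of `X` are fixed by the whole group.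
-/

set_option autoImplicit false

namespace Cfsg.Agent.QuadraticFixedPoints

variable {G M : Type*} [Group G] [Finite G] [AddCommGroup M] [DistribMulAction G M] {p : ℕ}

theorem exists_inverse_smul [Finite M] [hp : Fact p.Prime] {k N : ℕ} (hM : Nat.card M = p ^ k)
    (hN : ¬ p ∣ N) : ∃ n : ℕ, ∀ m : M, n • (N • m) = m := by
  rcases k.eq_zero_or_pos with rfl | hk
  · haveI : Subsingleton M := (Nat.card_eq_one_iff_unique.1 (by simpa using hM)).1
    exact ⟨0, fun m => Subsingleton.elim _ _⟩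
  have hco : N.Coprime (p ^ k) := ((hp.out.coprime_iff_not_dvd.2 hN).pow_left k).symm
  have h1 : 1 < p ^ k := Nat.one_lt_pow hk.ne' hp.out.one_lt
  obtain ⟨n, -, hn⟩ := Nat.exists_mul_mod_eq_one_of_coprime hco h1
  refine ⟨n, fun m => ?_⟩
  have h0 : (p ^ k) • m = 0 := hM ▸ card_nsmul_eq_zero'
  have h2 : n * N = (p ^ k) * (N * n / p ^ k) + 1 := by
    conv_rhs => rw [← hn, Nat.div_add_mod]
    ring
  rw [← mul_nsmul', h2, add_nsmul, one_nsmul, mul_nsmul, h0, nsmul_zero, zero_add]

theorem cocycle_coset {c : G → M} (hc : ∀ a b, c (a * b) = c a + a • c b) {H : Subgroup G}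
    (hH : ∀ h ∈ H, c h = 0) (g : G) : c (QuotientGroup.mk g : G ⧸ H).out = c g := by
  obtain ⟨h, hh⟩ := QuotientGroup.mk_out_eq_mul H g
  rw [hh, hc, hH _ h.2, smul_zero, add_zero]

/-- A cocycle vanishing on a subgroup of index prime to `p` is the coboundary of a vector, fixed
by every compatible pair of automorphisms. -/
theorem exists_coboundary [Finite M] [Fact p.Prime] {k : ℕ} (hM : Nat.card M = p ^ k)
    (c : G → M) (hc : ∀ a b, c (a * b) = c a + a • c b) (H : Subgroup G)
    (hH : ∀ h ∈ H, c h = 0) (hidx : ¬ p ∣ H.index) :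
    ∃ d : M, (∀ g, c g = d - g • d) ∧
      ∀ (ν : G ≃* G) (L : M ≃+ M), (∀ g, c (ν g) = L (c g)) → (∀ h ∈ H, ν h ∈ H) → L d = d := by
  classical
  obtain ⟨n, hn⟩ := exists_inverse_smul (p := p) hM hidx
  haveI : Fintype (G ⧸ H) := Fintype.ofFinite _
  set s := ∑ q : G ⧸ H, c q.out with hs
  refine ⟨n • s, fun g => ?_, fun ν L hL hνH => ?_⟩
  · have h1 : ∑ q : G ⧸ H, c (g • q).out = s :=
      Fintype.sum_equiv (MulAction.toPerm g) _ _ fun q => rfl
    have h2 : ∀ q : G ⧸ H, c (g • q).out = c g + g • c q.out := by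
      intro q
      conv_lhs => rw [← QuotientGroup.out_eq' q]
      rw [MulAction.Quotient.smul_mk, smul_eq_mul, cocycle_coset hc hH, hc]
    rw [Finset.sum_congr rfl fun q _ => h2 q, Finset.sum_add_distrib, Finset.sum_const,
      ← Finset.smul_sum, ← hs, Finset.card_univ, ← Nat.card_eq_fintype_card] at h1
    have h3 : H.index • c g = s - g • s := eq_sub_of_add_eq h1
    rw [← hn (c g), h3, smul_sub, smul_comm n g s]
  · have hmap : H.map ν.toMonoidHom = H :=
      Subgroup.eq_of_le_of_card_ge (Subgroup.map_le_iff_le_comap.2 hνH)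
        (le_of_eq (Nat.card_congr (H.equivMapOfInjective ν.toMonoidHom ν.injective).toEquiv))
    have hrel : ∀ a b : G, QuotientGroup.leftRel H a b → QuotientGroup.leftRel H (ν a) (ν b) := by
      intro a b hab
      rw [QuotientGroup.leftRel_apply] at hab ⊢
      rw [← map_inv, ← map_mul]
      exact hνH _ hab
    let e : G ⧸ H → G ⧸ H := Quotient.map' ν hrel
    have he : Function.Bijective e := by
      refine Finite.surjective_iff_bijective.1 fun q => ⟨QuotientGroup.mk (ν.symm q.out), ?_⟩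
      show QuotientGroup.mk (ν (ν.symm q.out)) = q
      rw [MulEquiv.apply_symm_apply, QuotientGroup.out_eq']
    rw [map_nsmul]
    congr 1
    rw [hs, map_sum]
    refine Fintype.sum_equiv (Equiv.ofBijective e he) _ _ fun q => ?_
    rw [← hL]
    conv_rhs => rw [← QuotientGroup.out_eq' q]
    exact (cocycle_coset hc hH (ν q.out)).symm

omit [Finite G] in
theorem pow_smul_of_quadratic {a : G} {v : M} (ha : a • (a • v - v) = a • v - v) (i : ℕ) :
    a ^ i • v = v + i • (a • v - v) := by
  induction i with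
  | zero => simp
  | succ i ih =>
    rw [pow_succ', mul_smul, ih, smul_add, smul_comm a i, ha, succ_nsmul]
    abel

omit [Finite G] in
/-- For `p` odd, the norm over `⟨a⟩` of a quadratic `a` sends a vector `v` with `p • v` fixed to
`p • v`. -/
theorem sum_pow_smul (hp : Odd p) {a : G} {v : M} (ha : a • (a • v - v) = a • v - v)
    (hfix : a • (p • v) = p • v) : ∑ i ∈ Finset.range p, a ^ i • v = p • v := by
  rw [Finset.sum_congr rfl fun i _ => pow_smul_of_quadratic ha i, Finset.sum_add_distrib,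
    Finset.sum_const, Finset.card_range, ← Finset.sum_smul]
  obtain ⟨r, hr⟩ := hp
  have h1 : ∑ i ∈ Finset.range p, i = r * p := by
    rw [Finset.sum_range_id, hr]
    have : (2 * r + 1) * (2 * r + 1 - 1) = (r * (2 * r + 1)) * 2 := by
      rw [Nat.add_sub_cancel]; ring
    rw [this, Nat.mul_div_cancel _ (by norm_num)]
  rw [h1, mul_nsmul', smul_sub, smul_comm p a v, hfix, sub_self, smul_zero, add_zero]

open Classical in
/-- Sum over an orbit of a `p`-subgroup not fixing the point: a multiple of `p • d`. -/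
theorem orbit_sum [hp : Fact p.Prime] (hodd : Odd p) {H : Subgroup G} [Fintype (G ⧸ H)]
    (s : Set G) {d : M} (hd : ∀ h ∈ H, h • d = d) (hpd : ∀ g : G, g • (p • d) = p • d)
    (hq : ∀ a ∈ s, ∀ m : M, a • (a • m - m) = a • m - m) :
    ∀ (L : Subgroup G), IsPGroup p L → (∀ a ∈ s, a ∈ L) → ∀ y : G ⧸ H,
      (∃ a ∈ s, a • y ≠ y) →
      ∃ j : ℕ, ∑ z ∈ Finset.univ.filter (fun z => ∃ l ∈ L, l • y = z), z.out • d =
        j • (p • d) := by
  intro L
  induction hn : Nat.card L using Nat.strong_induction_on generalizing L with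
  | _ n ih =>
  intro hL hsL y hy
  obtain ⟨a₀, ha₀, ha₀y⟩ := hy
  haveI : Group.IsNilpotent L := hL.isNilpotent
  let St : Subgroup L := (MulAction.stabilizer G y).subgroupOf L
  have hSt : St ≠ ⊤ := fun e => ha₀y (by
    have : (⟨a₀, hsL _ ha₀⟩ : L) ∈ St := e ▸ Subgroup.mem_top _
    exact this)
  obtain ⟨K, hK, hStK⟩ := (eq_top_or_exists_le_coatom St).resolve_left hSt
  haveI hKn : K.Normal := Subgroup.NormalizerCondition.normal_of_coatom K
    Group.normalizerCondition_of_isNilpotent hK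
  have hfz : ∀ (g : G) (z : G ⧸ H), (g • z).out • d = g • (z.out • d) := by
    intro g z
    have : g • z = QuotientGroup.mk (g * z.out) := by
      conv_lhs => rw [← QuotientGroup.out_eq' z]
      rfl
    rw [this]
    obtain ⟨h, hh⟩ := QuotientGroup.mk_out_eq_mul H (g * z.out)
    rw [hh, mul_smul, hd _ h.2, mul_smul]
  -- the quotient by `K` has order `p`
  obtain ⟨b, hbK, hb⟩ : ∃ b : L, b ∉ K ∧
      ((∃ a ∈ s, (b : G) = a) ∨ ∀ a, ∀ h : a ∈ s, (⟨a, hsL a h⟩ : L) ∈ K) := by
    by_cases h : ∃ a, ∃ h : a ∈ s, (⟨a, hsL a h⟩ : L) ∉ K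
    · obtain ⟨a, ha, haK⟩ := h
      exact ⟨_, haK, Or.inl ⟨a, ha, rfl⟩⟩
    · push Not at h
      obtain ⟨b, hb⟩ : ∃ b, b ∉ K := by
        by_contra h'
        push Not at h'
        exact hK.1 (eq_top_iff.2 fun x _ => h' x)
      exact ⟨b, hb, Or.inr h⟩
  have hgen : ∀ x : L, ∃ i : ℤ, b ^ i * x ∈ K := by
    intro x
    have : K ⊔ Subgroup.zpowers b = ⊤ := (hK.2 _ (lt_of_le_of_ne le_sup_left fun e =>
      hbK (e ▸ Subgroup.mem_sup_right (Subgroup.mem_zpowers b))))
    obtain ⟨u, hu, v, hv, huv⟩ := Subgroup.mem_sup_of_normal_left.1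
      (this ▸ Subgroup.mem_top x : x ∈ K ⊔ Subgroup.zpowers b)
    obtain ⟨i, rfl⟩ := Subgroup.mem_zpowers_iff.1 hv
    refine ⟨-i, ?_⟩
    rw [← huv]
    have := hKn.conj_mem u hu (b ^ (-i))
    simpa [mul_assoc] using this
  have hord : orderOf (QuotientGroup.mk b : L ⧸ K) = p := by
    have hne : (QuotientGroup.mk b : L ⧸ K) ≠ 1 := fun h => hbK ((QuotientGroup.eq_one_iff b).1 h)
    have hpe : Nat.card (L ⧸ K) = p := (ClassTwoPow.coatom_normal_index hL hK).2
    have := orderOf_dvd_natCard (QuotientGroup.mk b : L ⧸ K)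
    rw [hpe] at this
    exact ((Nat.dvd_prime hp.out).1 this).resolve_left fun h => hne (orderOf_eq_one_iff.1 h)
  -- the orbit of `L` splits into `p` translates of the orbit of `K`
  let O' := Finset.univ.filter (fun z : G ⧸ H => ∃ l : L, l ∈ K ∧ (l : G) • y = z)
  have hO : Finset.univ.filter (fun z : G ⧸ H => ∃ l ∈ L, l • y = z) =
      (Finset.range p ×ˢ O').image (fun w => (b : G) ^ w.1 • w.2) := by
    ext z
    simp only [Finset.mem_filter, Finset.mem_univ, true_and, Finset.mem_image, Finset.mem_product,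
      Finset.mem_range, O']
    constructor
    · rintro ⟨l, hl, rfl⟩
      obtain ⟨i, hi⟩ := hgen ⟨l, hl⟩
      have hp0 : (0 : ℤ) < p := by exact_mod_cast hp.out.pos
      set r := ((-i) % (p : ℤ)).toNat with hr
      have hr' : (r : ℤ) = (-i) % p := Int.toNat_of_nonneg (Int.emod_nonneg _ hp0.ne')
      refine ⟨(r, ((b : G) ^ r)⁻¹ • l • y), ⟨?_, ⟨(b ^ r)⁻¹ * ⟨l, hl⟩, ?_, ?_⟩⟩, ?_⟩
      · have := Int.emod_lt_of_pos (-i) hp0
        omega
      · rw [← QuotientGroup.eq_one_iff, QuotientGroup.mk_mul, QuotientGroup.mk_inv,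
          QuotientGroup.mk_pow, ← zpow_natCast, hr', ← hord, zpow_mod_orderOf, zpow_neg, inv_inv,
          ← QuotientGroup.mk_zpow, ← QuotientGroup.mk_mul, QuotientGroup.eq_one_iff]
        exact hi
      · simp [mul_smul]
      · simp
    · rintro ⟨⟨i, w⟩, ⟨-, l, -, rfl⟩, rfl⟩
      exact ⟨(b : G) ^ i * l, mul_mem (pow_mem b.2 i) l.2, mul_smul _ _ _⟩
  have hinj : ∀ w ∈ Finset.range p ×ˢ O', ∀ w' ∈ Finset.range p ×ˢ O',
      (b : G) ^ w.1 • w.2 = (b : G) ^ w'.1 • w'.2 → w = w' := by
    rintro ⟨i, z⟩ hw ⟨i', z'⟩ hw' h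
    simp only [Finset.mem_filter, Finset.mem_univ, true_and, Finset.mem_product,
      Finset.mem_range, O'] at hw hw'
    obtain ⟨hi, l, hl, rfl⟩ := hw
    obtain ⟨hi', l', hl', rfl⟩ := hw'
    have h1 : (b ^ i * l)⁻¹ * (b ^ i' * l') ∈ K := by
      refine hStK ?_
      show ((((b ^ i * l)⁻¹ * (b ^ i' * l') : L) : G)) • y = y
      rw [Subgroup.coe_mul, mul_smul, Subgroup.coe_inv, inv_smul_eq_iff, Subgroup.coe_mul,
        Subgroup.coe_mul, mul_smul, mul_smul, SubmonoidClass.coe_pow, SubmonoidClass.coe_pow]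
      exact h.symm
    rw [← QuotientGroup.eq, QuotientGroup.mk_mul, QuotientGroup.mk_mul,
      (QuotientGroup.eq_one_iff l).2 hl, (QuotientGroup.eq_one_iff l').2 hl', mul_one, mul_one,
      QuotientGroup.mk_pow, QuotientGroup.mk_pow] at h1
    have hii : i = i' :=
      pow_injOn_Iio_orderOf (by rw [hord]; exact hi) (by rw [hord]; exact hi') h1
    subst hii
    exact Prod.ext rfl (smul_left_cancel _ h)
  set v := ∑ z ∈ O', z.out • d with hv
  have hpv : p • v = O'.card • (p • d) := by
    rw [hv, Finset.smul_sum, Finset.sum_congr rfl fun z _ => ?_, Finset.sum_const]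
    rw [← smul_comm, hpd]
  rw [hO, Finset.sum_image hinj, Finset.sum_product,
    Finset.sum_congr rfl fun i _ => (Finset.sum_congr rfl fun z _ => hfz ((b : G) ^ i) z).trans
      (Finset.smul_sum).symm, ← hv]
  rcases hb with ⟨a, ha, hba⟩ | hsK
  · refine ⟨O'.card, ?_⟩
    rw [← hpv, hba]
    refine sum_pow_smul hodd (hq a ha v) ?_
    rw [hpv, smul_comm, hpd]
  · have hlt : Nat.card (K.map L.subtype) < n := by
      rw [← hn, ← Nat.card_congr (K.equivMapOfInjective _ L.subtype_injective).toEquiv]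
      refine lt_of_le_of_ne (Subgroup.card_le_card_group K) fun e => hbK ?_
      rw [Subgroup.eq_top_of_card_eq K e]
      exact Subgroup.mem_top _
    obtain ⟨j, hj⟩ := ih _ hlt (K.map L.subtype) rfl (hL.to_le (Subgroup.map_subtype_le K))
      (fun a ha => ⟨⟨a, hsL a ha⟩, hsK a ha, rfl⟩) y ⟨a₀, ha₀, ha₀y⟩
    have hO' : O' = Finset.univ.filter (fun z : G ⧸ H => ∃ l ∈ K.map L.subtype, l • y = z) := by
      ext z
      simp only [Finset.mem_filter, Finset.mem_univ, true_and, O']
      exact ⟨fun ⟨l, hl, h⟩ => ⟨l, ⟨l, hl, rfl⟩, h⟩, fun ⟨_, ⟨l, hl, rfl⟩, h⟩ => ⟨l, hl, h⟩⟩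
    rw [← hO', ← hv] at hj
    refine ⟨p * j, ?_⟩
    rw [hj, Finset.sum_congr rfl fun i _ => (?_ : (b : G) ^ i • j • p • d = j • p • d),
      Finset.sum_const, Finset.card_range, mul_nsmul']
    rw [smul_comm, hpd]

/-- For `p` odd, vectors fixed by the normalizer of the subgroup generated by a conjugation-closed
set of quadratic elements of a Sylow subgroup are fixed by the whole group. -/
theorem smul_eq_of_quadratic [Finite M] [hp : Fact p.Prime] (hodd : p ≠ 2) {k : ℕ}
    (hM : Nat.card M = p ^ k) (P : Sylow p G) (s : Set G) (hs : ∀ a ∈ s, a ∈ (P : Subgroup G))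
    (hconj : ∀ a ∈ s, ∀ g : G, g * a * g⁻¹ ∈ (P : Subgroup G) → g * a * g⁻¹ ∈ s)
    (hq : ∀ a ∈ s, ∀ m : M, a • (a • m - m) = a • m - m) {d : M}
    (hd : ∀ g ∈ Subgroup.normalizer ((Subgroup.closure s : Subgroup G) : Set G), g • d = d)
    (g : G) : g • d = d := by
  classical
  have hop : Odd p := hp.out.odd_of_ne_two hodd
  set H := Subgroup.normalizer ((Subgroup.closure s : Subgroup G) : Set G) with hH
  suffices ∀ i (d : M), p ^ i • d = 0 → (∀ g ∈ H, g • d = d) → ∀ g : G, g • d = d from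
    this k d (hM ▸ card_nsmul_eq_zero') hd g
  intro i
  induction i with
  | zero => intro d h0 _ g; simp only [pow_zero, one_nsmul] at h0; rw [h0, smul_zero]
  | succ i ih =>
    intro d h0 hd g₀
    have hpd : ∀ g : G, g • (p • d) = p • d := ih (p • d)
      (by rw [← mul_nsmul', ← pow_succ]; exact h0)
      fun g hg => by rw [smul_comm, hd g hg]
    haveI : Fintype (G ⧸ H) := Fintype.ofFinite _
    have hsX : Subgroup.closure s ≤ (P : Subgroup G) := (Subgroup.closure_le _).2 hs
    have hconjX : ∀ (g : G), (∀ a ∈ s, g * a * g⁻¹ ∈ (P : Subgroup G)) → g ∈ H := by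
      intro g hg
      have hle : (Subgroup.closure s).map (MulAut.conj g).toMonoidHom ≤ Subgroup.closure s := by
        rw [MonoidHom.map_closure, Subgroup.closure_le]
        rintro _ ⟨a, ha, rfl⟩
        exact Subgroup.subset_closure (hconj a ha g (hg a ha))
      rw [hH, Subgroup.mem_normalizer_iff_map_conj_eq]
      exact Subgroup.eq_of_le_of_card_ge hle (le_of_eq
        (Nat.card_congr ((Subgroup.closure s).equivMapOfInjective _
          (MulAut.conj g).injective).toEquiv))
    have hPH : (P : Subgroup G) ≤ H := fun g hg => hconjX g fun a ha =>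
      mul_mem (mul_mem hg (hs a ha)) (inv_mem hg)
    set y₀ : G ⧸ H := QuotientGroup.mk 1 with hy₀
    have hfix : ∀ z : G ⧸ H, (∀ a ∈ s, a • z = z) → z = y₀ := by
      intro z hz
      obtain ⟨g, rfl⟩ := QuotientGroup.mk_surjective z
      have hgH : (Subgroup.closure s).map (MulAut.conj g⁻¹).toMonoidHom ≤ H := by
        rw [MonoidHom.map_closure, Subgroup.closure_le]
        rintro _ ⟨a, ha, rfl⟩
        have h1 := (hz a ha).symm
        rw [MulAction.Quotient.smul_mk, smul_eq_mul, QuotientGroup.eq] at h1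
        simpa [mul_assoc] using h1
      let PH : Sylow p H := P.subtype hPH
      obtain ⟨R, hR⟩ := ((P.2.to_le hsX).map (MulAut.conj g⁻¹).toMonoidHom).of_equiv
        (Subgroup.subgroupOfEquivOfLe hgH).symm |>.exists_le_sylow
      obtain ⟨h, hh⟩ := MulAction.exists_smul_eq H R PH
      have hk : (h : G) * g⁻¹ ∈ H := hconjX _ fun a ha => by
        have h1 : (⟨g⁻¹ * a * g, by
            simpa using hgH ⟨a, Subgroup.subset_closure ha, rfl⟩⟩ : H) ∈ (R : Subgroup H) :=
          hR ⟨a, Subgroup.subset_closure ha, by simp⟩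
        have h2 : h * ⟨g⁻¹ * a * g, by
            simpa using hgH ⟨a, Subgroup.subset_closure ha, rfl⟩⟩ * h⁻¹ ∈ (PH : Subgroup H) := by
          rw [← hh, Sylow.coe_subgroup_smul]
          exact ⟨_, h1, rfl⟩
        rw [Sylow.coe_subtype, Subgroup.mem_subgroupOf] at h2
        simpa [mul_assoc] using h2
      rw [hy₀, QuotientGroup.eq]
      have := mul_mem (inv_mem hk) h.2
      simpa using this
    set A := ∑ z : G ⧸ H, z.out • d with hA
    have hsum : ∀ U : Finset (G ⧸ H), y₀ ∉ U → (∀ l ∈ (P : Subgroup G), ∀ z ∈ U, l • z ∈ U) →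
        ∃ j : ℕ, ∑ z ∈ U, z.out • d = j • (p • d) := by
      intro U
      induction U using Finset.strongInduction with
      | _ U IH =>
        intro h1 h2
        rcases U.eq_empty_or_nonempty with rfl | ⟨y, hy⟩
        · exact ⟨0, by simp⟩
        obtain ⟨j₁, hj₁⟩ := orbit_sum hop s hd hpd hq (P : Subgroup G) P.2 hs y (by
          by_contra hne
          push Not at hne
          exact h1 (hfix y hne ▸ hy))
        set O := Finset.univ.filter (fun z => ∃ l ∈ (P : Subgroup G), l • y = z) with hOdef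
        have hOU : O ⊆ U := fun z hz => by
          obtain ⟨l, hl, rfl⟩ := (Finset.mem_filter.1 hz).2
          exact h2 l hl y hy
        have hyO : y ∈ O := Finset.mem_filter.2 ⟨Finset.mem_univ _, 1, one_mem _, one_smul _ _⟩
        obtain ⟨j₂, hj₂⟩ := IH (U \ O) (Finset.sdiff_ssubset hOU ⟨y, hyO⟩)
          (fun h => h1 (Finset.mem_sdiff.1 h).1) fun l hl z hz => by
            obtain ⟨hzU, hzO⟩ := Finset.mem_sdiff.1 hz
            refine Finset.mem_sdiff.2 ⟨h2 l hl z hzU, fun h => hzO ?_⟩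
            obtain ⟨l', hl', he⟩ := (Finset.mem_filter.1 h).2
            exact Finset.mem_filter.2 ⟨Finset.mem_univ _, l⁻¹ * l', mul_mem (inv_mem hl) hl',
              by rw [mul_smul, he, inv_smul_smul]⟩
        exact ⟨j₂ + j₁, by rw [← Finset.sum_sdiff hOU, hj₂, hj₁, add_nsmul]⟩
    obtain ⟨j, hj⟩ := hsum (Finset.univ.erase y₀) (Finset.notMem_erase _ _) fun l hl z hz => by
      refine Finset.mem_erase.2 ⟨fun e => (Finset.mem_erase.1 hz).1 ?_, Finset.mem_univ _⟩
      rw [← inv_smul_smul l z, e, hy₀, MulAction.Quotient.smul_mk, smul_eq_mul, QuotientGroup.eq]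
      simpa using hPH hl
    have hy₀d : y₀.out • d = d := by
      obtain ⟨h, hh⟩ := QuotientGroup.mk_out_eq_mul H (1 : G)
      rw [hy₀, hh, one_mul, hd _ h.2]
    have hAd : A = d + j • (p • d) := by
      rw [hA, ← Finset.add_sum_erase _ _ (Finset.mem_univ y₀), hy₀d, hj]
    have hfixA : g₀ • A = A := by
      rw [hA, Finset.smul_sum]
      refine Fintype.sum_equiv (MulAction.toPerm g₀) _ _ fun z => ?_
      rw [MulAction.toPerm_apply]
      conv_rhs => rw [← QuotientGroup.out_eq' z]
      rw [MulAction.Quotient.smul_mk, smul_eq_mul]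
      obtain ⟨h, hh⟩ := QuotientGroup.mk_out_eq_mul H (g₀ * z.out)
      rw [hh, mul_smul, hd _ h.2, mul_smul]
    rw [hAd, smul_add, smul_comm g₀ j, hpd] at hfixA
    exact add_right_cancel hfixA

end Cfsg.Agent.QuadraticFixedPoints
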