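import Cfsg.Agent.Lib.FusionLiftCocycle
import Cfsg.Agent.Lib.QuadraticFixedPoints
import Cfsg.Agent.Lib.TransferPResidual

/-!
Working with the cocycle `c` of `x` on `W ≤ Aut_E(Q)`: it takes its values in the abelian group
`zc Q = Z(Q)`, it is determined by the elements of order prime to `p` and a Sylow subgroup, it is a
coboundary (`exists_shift`), and the shifted element `x * d` has the trivial cocycle (`shift`).
-/

set_option autoImplicit false

namespace Cfsg.Agent.FusionCocycleShift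

open Cfsg Cfsg.FusionSystem Cfsg.Agent.FusionSysBasic Cfsg.Agent.FusionSysSaturated
open Cfsg.Agent.FusionSysNormal Cfsg.Agent.FusionKit88 Cfsg.Agent.FusionLiftCocycle

variable {Ω : Type*} [Group Ω] {S T : Subgroup Ω} {F : FusionSystem S} {E : FusionSystem T}
  {p : ℕ}

/-! ### The centre of a subgroup as a module for its automorphisms -/

/-- The centre of `Q`, as a subgroup of the ambient group. -/
def zc (Q : Subgroup Ω) : Subgroup Ω := Q ⊓ Subgroup.centralizer (Q : Set Ω)

theorem mem_zc {Q : Subgroup Ω} {z : Ω} : z ∈ zc Q ↔ z ∈ Q ∧ ∀ q ∈ Q, cj z q = q := by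
  rw [zc, Subgroup.mem_inf, Subgroup.mem_centralizer_iff]
  refine and_congr_right fun _ => ?_
  exact forall₂_congr fun q _ => by rw [cj_apply, mul_inv_eq_iff_eq_mul]; exact eq_comm

theorem commute_zc {Q : Subgroup Ω} {z q : Ω} (hz : z ∈ zc Q) (hq : q ∈ Q) : Commute q z :=
  Subgroup.mem_centralizer_iff.1 hz.2 q hq

instance zcCommGroup (Q : Subgroup Ω) : CommGroup ↥(zc Q) :=
  { (zc Q).toGroup with
    mul_comm := fun a b => Subtype.ext (commute_zc b.2 a.2.1).eq }

theorem afun_map_mul {Q : Subgroup Ω} (a : MulAut Q) {x y : Ω} (hx : x ∈ Q) (hy : y ∈ Q) :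
    afun a (x * y) = afun a x * afun a y := by
  rw [afun_apply a (Q.mul_mem hx hy), afun_apply a hx, afun_apply a hy, ← Subgroup.coe_mul,
    ← map_mul]
  rfl

theorem afun_map_one {Q : Subgroup Ω} (a : MulAut Q) : afun a (1 : Ω) = 1 := by
  rw [afun_apply a Q.one_mem, show (⟨1, Q.one_mem⟩ : Q) = 1 from rfl, map_one]
  rfl

theorem afun_map_inv {Q : Subgroup Ω} (a : MulAut Q) {x : Ω} (hx : x ∈ Q) :
    afun a x⁻¹ = (afun a x)⁻¹ :=
  eq_inv_of_mul_eq_one_left (by rw [← afun_map_mul a (Q.inv_mem hx) hx, inv_mul_cancel, afun_map_one])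

theorem afun_mem_zc {Q : Subgroup Ω} (a : MulAut Q) {z : Ω} (hz : z ∈ zc Q) :
    afun a z ∈ zc Q := by
  refine ⟨afun_mem a hz.1, Subgroup.mem_centralizer_iff.2 fun q hq => ?_⟩
  rw [← afun_apply_inv a hq, ← afun_map_mul a (afun_mem _ hq) hz.1,
    ← afun_map_mul a hz.1 (afun_mem _ hq), (commute_zc hz (afun_mem _ hq)).eq]

noncomputable instance zcSMul (Q : Subgroup Ω) : SMul (MulAut ↥Q) (Additive ↥(zc Q)) :=
  ⟨fun a z => Additive.ofMul ⟨afun a (z.toMul : Ω), afun_mem_zc a (Additive.toMul z).2⟩⟩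

theorem coe_smul {Q : Subgroup Ω} (a : MulAut Q) (z : Additive ↥(zc Q)) :
    ((a • z).toMul : Ω) = afun a (z.toMul : Ω) := rfl

theorem ext_zc {Q : Subgroup Ω} {y z : Additive ↥(zc Q)} (h : (y.toMul : Ω) = (z.toMul : Ω)) :
    y = z :=
  Additive.toMul.injective (Subtype.ext h)

noncomputable instance zcAction (Q : Subgroup Ω) : DistribMulAction (MulAut ↥Q) (Additive ↥(zc Q)) where
  one_smul z := ext_zc (afun_one (Additive.toMul z).2.1)
  mul_smul a b z := ext_zc (afun_mul a b (Additive.toMul z).2.1)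
  smul_zero a := ext_zc (afun_map_one a)
  smul_add a y z := ext_zc (afun_map_mul a (Additive.toMul y).2.1 (Additive.toMul z).2.1)

theorem card_zc [Finite S] [Fact p.Prime] (hS : IsPGroup p S) {Q : Subgroup Ω} (hQ : Q ≤ S) :
    ∃ k, Nat.card (Additive ↥(zc Q)) = p ^ k := by
  haveI := finite_of_le (P := zc Q) (S := S) (inf_le_left.trans hQ)
  have hle : zc Q ≤ S := inf_le_left.trans hQ
  obtain ⟨k, hk⟩ := IsPGroup.iff_card.mp (hS.to_le hle)
  exact ⟨k, (Nat.card_congr Additive.toMul).trans hk⟩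

/-! ### Elementary properties of the data -/

variable {Q : Subgroup Ω} {x : Ω} {W : Subgroup (MulAut Q)} {c : MulAut Q → Ω}
  (h : Data F E p Q x W c)

include h

theorem c_mem {a : MulAut Q} (ha : a ∈ W) : c a ∈ zc Q := mem_zc.2 (h.mem a ha)

theorem c_one : c 1 = 1 := h.inn 1 (one_mem _)

/-- The cocycle with values in the module. -/
noncomputable def cz (a : W) : Additive ↥(zc Q) := Additive.ofMul ⟨c a, c_mem h a.2⟩

theorem cz_mul (a b : W) : cz h (a * b) = cz h a + a • cz h b :=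
  ext_zc (h.mul a a.2 b b.2)

/-- The zeros of the cocycle. -/
def ker : Subgroup W where
  carrier := {a | c a = 1}
  one_mem' := c_one h
  mul_mem' := fun {a b} ha hb => by
    show c ((a : MulAut Q) * b) = 1
    rw [h.mul a a.2 b b.2, show c a = 1 from ha, show c b = 1 from hb, one_mul, afun_map_one]
  inv_mem' := fun {a} ha => by
    have e := h.mul a a.2 _ (W.inv_mem a.2)
    rw [mul_inv_cancel, c_one h, show c a = 1 from ha, one_mul] at e
    have e' : afun (a : MulAut Q) (c (a : MulAut Q)⁻¹) = afun (a : MulAut Q) 1 := by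
      rw [afun_map_one]; exact e.symm
    have e2 := congrArg (afun (a : MulAut Q)⁻¹) e'
    rwa [afun_inv_apply _ (h.mem _ (W.inv_mem a.2)).1, afun_inv_apply _ Q.one_mem] at e2

theorem mem_ker {a : W} : a ∈ ker h ↔ c a = 1 := Iff.rfl

/-- Elements of order prime to `p` with an extension that fixes `x` are zeros. -/
theorem eq_one_of_fix {a : MulAut Q} (ha : a ∈ W) (hco : (orderOf a).Coprime p) {ψ : Ω → Ω}
    (hψ : Mor F (Q ⊔ Subgroup.zpowers x) ψ) (he : ∀ q ∈ Q, ψ q = afun a q) (hfix : ψ x = x) :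
    c a = 1 := by
  have h1 := h.uniq a ha hco ψ 1 (Nat.coprime_one_left p) hψ he
    (by rw [hfix, inv_mul_cancel]; exact Q.one_mem) (by rw [Function.iterate_one, hfix])
  rw [hfix] at h1
  exact (mul_eq_left.1 h1.symm)

theorem congr_one (h1 : ∀ a ∈ W, c a = 1) : Data F E p Q x W (fun _ => 1) where
  le := h.le
  normal := h.normal
  ind := h.ind
  top := h.top
  mem := fun _ _ => ⟨Q.one_mem, fun q _ => cj_one q⟩
  mul := fun a _ b _ => by rw [afun_map_one, one_mul]
  inn := fun _ _ => rfl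
  ext := fun a ha => by
    obtain ⟨σ, hσ, he, hx⟩ := h.ext a ha
    exact ⟨σ, hσ, he, by rw [hx, h1 a ha]⟩
  uniq := fun a ha hco ψ n hn hψ he hm hp => by
    rw [h.uniq a ha hco ψ n hn hψ he hm hp, h1 a ha]

omit h

/-- A map that moves `x` inside `Q` and stabilizes `Q` stabilizes `Q⟨x⟩`. -/
theorem endo {P : Subgroup Ω} {ψ : Ω → Ω} (hψ : Mor F (P ⊔ Subgroup.zpowers x) ψ)
    (hP : ∀ q ∈ P, ψ q ∈ P) (hx : ψ x ∈ P ⊔ Subgroup.zpowers x) :
    ∀ y ∈ P ⊔ Subgroup.zpowers x, ψ y ∈ P ⊔ Subgroup.zpowers x := by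
  intro y hy
  obtain ⟨φ, -, hφ⟩ := hψ
  have hle : P ⊔ Subgroup.zpowers x ≤
      ((P ⊔ Subgroup.zpowers x).comap φ).map (P ⊔ Subgroup.zpowers x).subtype := by
    refine sup_le (fun q hq => ⟨⟨q, Subgroup.mem_sup_left hq⟩, ?_, rfl⟩)
      (Subgroup.zpowers_le.2 ⟨⟨x, Subgroup.mem_sup_right (Subgroup.mem_zpowers x)⟩, ?_, rfl⟩)
    · show φ _ ∈ P ⊔ Subgroup.zpowers x
      rw [hφ]; exact Subgroup.mem_sup_left (hP q hq)
    · show φ _ ∈ P ⊔ Subgroup.zpowers x
      rw [hφ]; exact hx
  obtain ⟨z, hz, rfl⟩ := hle hy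
  show ψ z ∈ _
  rw [← hφ z]
  exact hz

/-- The trivialized data of the shifted element. -/
theorem shift (h : Data F E p Q x W c) {d : Ω} (hd : d ∈ zc Q)
    (hc : ∀ a ∈ W, c a = d * (afun a d)⁻¹) : Data F E p Q (x * d) W (fun _ => 1) where
  le := h.le
  normal := h.normal
  ind := h.ind
  top := h.top
  mem := fun _ _ => ⟨Q.one_mem, fun q _ => cj_one q⟩
  mul := fun a _ b _ => by rw [afun_map_one, one_mul]
  inn := fun _ _ => rfl
  ext := fun a ha => by
    obtain ⟨σ, hσ, he, hx⟩ := h.ext a ha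
    have hxd : x * d ∈ Q ⊔ Subgroup.zpowers x :=
      mul_mem (Subgroup.mem_sup_right (Subgroup.mem_zpowers x)) (Subgroup.mem_sup_left hd.1)
    refine ⟨σ, hσ.restrict_to (sup_le le_sup_left (Subgroup.zpowers_le.2 hxd)), he, ?_⟩
    rw [hσ.map_mul (Subgroup.mem_sup_right (Subgroup.mem_zpowers x)) (Subgroup.mem_sup_left hd.1),
      hx, he d hd.1, hc a ha]
    simp [mul_assoc]
  uniq := fun a ha hco ψ n hn hψ he hm hp => by
    have hxd : x * d ∈ Q ⊔ Subgroup.zpowers (x * d) :=
      Subgroup.mem_sup_right (Subgroup.mem_zpowers _)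
    have hdd : d ∈ Q ⊔ Subgroup.zpowers (x * d) := Subgroup.mem_sup_left hd.1
    have hle : Q ⊔ Subgroup.zpowers x ≤ Q ⊔ Subgroup.zpowers (x * d) :=
      sup_le le_sup_left (Subgroup.zpowers_le.2
        (by simpa using mul_mem hxd (inv_mem hdd)))
    have hψs := endo (P := Q) hψ (fun q hq => he q hq ▸ afun_mem a hq) (by
      have := mul_mem hxd (Subgroup.mem_sup_left (T := Subgroup.zpowers (x * d)) hm)
      rwa [mul_inv_cancel_left] at this)
    have hψx : ψ (x * d) = ψ x * afun a d := by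
      rw [hψ.map_mul (hle (Subgroup.mem_sup_right (Subgroup.mem_zpowers x))) hdd, he d hd.1]
    have hit : ∀ i : ℕ, ψ^[i] (x * d) ∈ Q ⊔ Subgroup.zpowers (x * d) ∧
        ψ^[i] x = ψ^[i] (x * d) * (afun (a ^ i) d)⁻¹ := by
      intro i
      induction i with
      | zero => exact ⟨hxd, by simp [afun_one hd.1]⟩
      | succ i ih =>
        refine ⟨?_, ?_⟩
        · rw [Function.iterate_succ_apply']; exact hψs _ ih.1
        · have hda : afun (a ^ i) d ∈ Q := afun_mem _ hd.1
          rw [Function.iterate_succ_apply', ih.2, hψ.map_mul ih.1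
            (Subgroup.mem_sup_left (Q.inv_mem hda)), he _ (Q.inv_mem hda), afun_map_inv a hda,
            ← afun_mul _ _ hd.1, ← pow_succ', Function.iterate_succ_apply']
    have hper : ψ^[n * orderOf a] x = x := by
      have h2 : ψ^[n * orderOf a] (x * d) = x * d :=
        (show Function.IsPeriodicPt ψ n (x * d) from hp).mul_const _
      rw [(hit _).2, h2, pow_mul', pow_orderOf_eq_one, one_pow, afun_one hd.1,
        mul_inv_cancel_right]
    have hmem : x⁻¹ * ψ x ∈ Q := by
      have := Q.mul_mem (Q.mul_mem hd.1 hm) (Q.inv_mem (afun_mem a hd.1))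
      rw [hψx] at this
      simpa [mul_assoc] using this
    have h1 := h.uniq a ha hco ψ (n * orderOf a) (hn.mul_left hco) (hψ.restrict_to hle) he hmem hper
    rw [hψx, h1, hc a ha]
    simp [mul_assoc]

/-! ### Sylow subgroup, generation and the coboundary -/

variable [Finite S] [hp : Fact p.Prime] (hS : IsPGroup p S)

omit [Finite S] in
/-- A subgroup containing a Sylow subgroup lies in `K` if `K` contains that Sylow subgroup and the
elements of order prime to `p`. -/
theorem le_of_sylow {G : Type*} [Group G] [Finite G] (H K : Subgroup G) (P : Sylow p G)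
    (hPH : (P : Subgroup G) ≤ H) (hPK : (P : Subgroup G) ≤ K)
    (h1 : ∀ g ∈ H, (orderOf g).Coprime p → g ∈ K) : H ≤ K := by
  intro g hg
  have htop : (⊤ : Subgroup H) ≤ K.subgroupOf H := by
    rw [← TransferPResidual.sylow_sup_pResidual (P.subtype hPH)]
    refine sup_le ?_ ?_
    · intro y hy
      rw [Sylow.coe_subtype, Subgroup.mem_subgroupOf] at hy
      exact hPK hy
    · rw [TransferPResidual.pResidual_le_iff_coprime]
      intro y hy
      exact h1 y y.2 (by rwa [Subgroup.orderOf_coe])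
  exact htop (x := ⟨g, hg⟩) trivial

include hS in
theorem exists_sylow (hF : F.IsSaturated p) {R : Subgroup Ω} (hR : F.IsFullyNormalized R)
    {W : Subgroup (MulAut R)} (hW : W ≤ F.autGroup R) (hind : autInducedBy S R ≤ W) :
    ∃ P : Sylow p W, (P : Subgroup W) = (autInducedBy S R).subgroupOf W := by
  obtain ⟨-, T0, hT0⟩ := fullyAutomized_of_fullyNormalized hS hF hR
  haveI := finite_autGroup (F := F) R
  have hidx : ¬ p ∣ ((autInducedBy S R).subgroupOf W).index := by
    intro hdvd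
    refine T0.not_dvd_index ?_
    rw [hT0]
    show p ∣ (autInducedBy S R).relIndex (F.autGroup R)
    rw [← Subgroup.relIndex_mul_relIndex _ _ (F.autGroup R) hind hW]
    exact hdvd.mul_right _
  exact ⟨((isPGroup_autInducedBy hS R).comap_of_injective W.subtype W.subtype_injective).toSylow
    hidx, rfl⟩

include hS in
/-- The cocycle is a coboundary, by a vector fixed by the equivariant automorphisms. -/
theorem exists_shift [Finite T] (hT : T ≤ S) (hE : E.IsSaturated p) (hQ : E.IsFullyNormalized Q)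
    (h : Data F E p Q x W c) (H : Subgroup W) (hH : (autInducedBy T Q).subgroupOf W ≤ H)
    (hcH : ∀ a ∈ H, c (a : MulAut Q) = 1) :
    ∃ d ∈ zc Q, (∀ a ∈ W, c a = d * (afun a d)⁻¹) ∧
      ∀ (b : MulAut Q), b ∈ E.autGroup Q →
        (∀ a ∈ W, c (b * a * b⁻¹) = afun b (c a)) →
        (∀ a : W, a ∈ H → ∀ ha : b * (a : MulAut Q) * b⁻¹ ∈ W, (⟨_, ha⟩ : W) ∈ H) →
        afun b d = d := by
  haveI := finite_of_le (P := Q) hQ.1
  haveI : Finite ↥(zc Q) :=
    Finite.of_injective _ (Subgroup.inclusion_injective (inf_le_left : zc Q ≤ Q))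
  haveI : Finite (Additive ↥(zc Q)) := Finite.of_equiv _ Additive.ofMul
  obtain ⟨k, hk⟩ := card_zc hS (hQ.1.trans hT)
  obtain ⟨P, hP⟩ := exists_sylow (hS.to_le hT) hE hQ h.le h.ind
  have hidx : ¬ p ∣ H.index := fun hdvd =>
    P.not_dvd_index (hdvd.trans (Subgroup.index_dvd_of_le (hP ▸ hH)))
  obtain ⟨d, hd, heq⟩ := QuadraticFixedPoints.exists_coboundary hk (cz h) (cz_mul h) H
    (fun a ha => ext_zc (hcH a ha)) hidx
  refine ⟨(d.toMul : Ω), (Additive.toMul d).2, fun a ha => ?_, fun b hb hcb hbH => ?_⟩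
  · have := congrArg (fun z : Additive ↥(zc Q) => (z.toMul : Ω)) (hd ⟨a, ha⟩)
    rw [sub_eq_add_neg] at this
    exact this
  · have hconj : ∀ a : W, b * (a : MulAut Q) * b⁻¹ ∈ W := fun a => h.normal b hb a a.2
    have hconj' : ∀ a : W, b⁻¹ * (a : MulAut Q) * b ∈ W := fun a => by
      simpa using h.normal b⁻¹ (inv_mem hb) a a.2
    let ν : W ≃* W :=
      { toFun := fun a => ⟨_, hconj a⟩
        invFun := fun a => ⟨_, hconj' a⟩
        left_inv := fun a => Subtype.ext (by simp [mul_assoc])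
        right_inv := fun a => Subtype.ext (by simp [mul_assoc])
        map_mul' := fun a a' => Subtype.ext (by simp [mul_assoc]) }
    have := heq ν (DistribMulAction.toAddEquiv (Additive ↥(zc Q)) b)
      (fun a => ext_zc (hcb a a.2)) (fun a ha => hbH a ha (hconj a))
    exact congrArg (fun z : Additive ↥(zc Q) => (z.toMul : Ω)) this

end Cfsg.Agent.FusionCocycleShift
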