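import Cfsg.Agent.Lib.FusionLayerCore
import Cfsg.Agent.Lib.FusionCentralLift

/-!
`D` normal in `F` over `U`, `P ≤ U` fully normalized in `F`, `Q ≤ Aut_U(P)`: an automorphism of `P`
in `D` of order prime to `p` normalizing `Q` extends to `P N_S^Q(P)` so as to move the elements of
`C_S(P)` only inside `U` (`exists_good_extension`).
-/

set_option autoImplicit false

namespace Cfsg.Agent.FusionMeetKey

open Cfsg Cfsg.FusionSystem Cfsg.Agent.FusionSysBasic Cfsg.Agent.FusionSysSaturated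
open Cfsg.Agent.FusionSysNormal Cfsg.Agent.FusionKit88 Cfsg.Agent.FusionGoodLift
open Cfsg.Agent.FusionSysNormalizer Cfsg.Agent.FusionCentralizerSub
open scoped Pointwise

variable {Ω : Type*} [Group Ω] {S U : Subgroup Ω} [Finite S] {F : FusionSystem S} {p : ℕ}
  [Fact p.Prime]

/-- In a group where `N` and the `p`-group `J` are normal, an element of order prime to `p` in `N J`
lies in `N`. -/
theorem mem_of_div_mem {G : Type*} [Group G] {A N J : Subgroup G} (hNA : N ≤ A)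
    (hn : ∀ a ∈ A, ∀ n ∈ N, a * n * a⁻¹ ∈ N) (hJ : IsPGroup p J) (hJA : J ≤ A) {x : G}
    (hx : x ∈ A) (hco : (orderOf x).Coprime p) {n : G} (hnN : n ∈ N) (h : x * n⁻¹ ∈ J) :
    x ∈ N := by
  haveI hNn : (N.subgroupOf A).Normal := ⟨fun m hm a => hn a a.2 m hm⟩
  obtain ⟨k, hk⟩ := hJ ⟨_, h⟩
  have hk' : (x * n⁻¹) ^ p ^ k = 1 := congrArg Subtype.val hk
  have e : QuotientGroup.mk' (N.subgroupOf A) ⟨x, hx⟩ =
      QuotientGroup.mk' (N.subgroupOf A) ⟨x * n⁻¹, hJA h⟩ := by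
    refine QuotientGroup.eq.2 ?_
    rw [Subgroup.mem_subgroupOf]
    simpa using N.inv_mem hnN
  have h1 : orderOf (QuotientGroup.mk' (N.subgroupOf A) ⟨x, hx⟩) ∣ p ^ k := by
    refine orderOf_dvd_of_pow_eq_one ?_
    rw [e, ← map_pow, show (⟨x * n⁻¹, hJA h⟩ : A) ^ p ^ k = 1 from Subtype.ext hk', map_one]
  have h2 : orderOf (QuotientGroup.mk' (N.subgroupOf A) ⟨x, hx⟩) ∣ orderOf x := by
    have := orderOf_map_dvd (QuotientGroup.mk' (N.subgroupOf A)) (⟨x, hx⟩ : A)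
    rwa [Subgroup.orderOf_mk] at this
  have h3 := Nat.eq_one_of_dvd_coprimes (hco.pow_right k) h2 h1
  rw [orderOf_eq_one_iff, QuotientGroup.mk'_apply, QuotientGroup.eq_one_iff,
    Subgroup.mem_subgroupOf] at h3
  exact h3

/-- An exponent fixing the elements of order prime to `p` and killing the `p`-part. -/
theorem exists_exponent {n : ℕ} (hn : n ≠ 0) :
    ∃ e : ℕ, (∀ {G : Type*} [Group G] (x : G), orderOf x ∣ n →
      (orderOf (x ^ e)).Coprime p ∧ ((orderOf x).Coprime p → x ^ e = x)) := by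
  obtain ⟨a, m, hm, hnm⟩ := Nat.exists_eq_pow_mul_and_not_dvd hn p (Fact.out (p := p.Prime)).ne_one
  have hmp : m.Coprime p := ((Fact.out (p := p.Prime)).coprime_iff_not_dvd.2 hm).symm
  obtain ⟨e, he0, he1⟩ := Nat.chineseRemainder ((hmp.pow_right a).symm) 0 1
  refine ⟨e, fun {G} _ x hx => ⟨?_, fun hco => ?_⟩⟩
  · refine hmp.coprime_dvd_left (orderOf_dvd_of_pow_eq_one ?_)
    rw [← pow_mul, ← orderOf_dvd_iff_pow_eq_one]
    refine hx.trans ?_
    rw [hnm]
    exact Nat.mul_dvd_mul_right (Nat.modEq_zero_iff_dvd.1 he0) m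
  · have h1 : orderOf x ∣ m := by
      rw [hnm] at hx
      exact (hco.pow_right a).dvd_of_dvd_mul_left hx
    conv_rhs => rw [← pow_one x]
    exact pow_eq_pow_iff_modEq.2 (he1.of_dvd h1)

/-- An automorphism of order prime to `p` in `D` normalizing `Q ≤ Aut(P)` with commutators
induced by `U` extends to `P N_S^Q(P)` trivially modulo `U`. -/
theorem exists_trivial_extension (hS : IsPGroup p S) (hF : F.IsSaturated p) {D : FusionSystem U}
    (hD : D.IsNormalIn F p) {P : Subgroup Ω} (hPU : P ≤ U) (hP : F.IsFullyNormalized P)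
    {Q : Subgroup (MulAut P)} {u : MulAut P} (hu : u ∈ D.autGroup P)
    (hco : (orderOf u).Coprime p) (huQ : ∀ a ∈ Q, u * a * u⁻¹ ∈ Q)
    (hQ : ∀ a ∈ Q, u * a * u⁻¹ * a⁻¹ ∈ autInducedBy U P) :
    ∃ ψ, Mor F (P ⊔ nK S P Q) ψ ∧ (∀ x ∈ P, ψ x = afun u x) ∧
      (∀ n ∈ nK S P Q, ψ n ∈ nK S P Q) ∧ ∀ c ∈ nK S P Q, c⁻¹ * ψ c ∈ U := by
  classical
  obtain ⟨⟨hDs, -, hinv⟩, -⟩ := id hD
  have hU : F.StronglyClosed U := hinv.2.1
  have hUS : U ≤ S := hU.1
  haveI := finite_of_le hUS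
  have hUp : IsPGroup p U := hS.to_le hUS
  have hPS : P ≤ S := hP.1
  set M := nK S P Q with hMdef
  set Y := P ⊔ M
  have hMS : M ≤ S := nK_le
  have hMN : M ≤ normalizerIn S P := le_inf hMS (nK_normalizes hPS)
  have hCM : centralizerIn S P ≤ M := fun c hc =>
    ⟨hc.1, 1, one_mem _, fun x hx => by rw [afun_one hx, (mem_centralizerIn.1 hc).2 x hx]⟩
  -- the centric subgroup `P2`
  set P2 := P ⊔ centralizerIn U P with hP2
  have hP2U : P2 ≤ U := sup_le hPU inf_le_left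
  have hP2S := hP2U.trans hUS
  set X := P2 ⊔ centralizerIn S P2 with hX
  have hXS : X ≤ S := sup_le hP2S inf_le_left
  have hPX : P ≤ X := le_sup_left.trans le_sup_left
  have hCP : centralizerIn S P2 ≤ centralizerIn S P := fun c hc =>
    mem_centralizerIn.2 ⟨hc.1, fun x hx => (mem_centralizerIn.1 hc).2 x (Subgroup.mem_sup_left hx)⟩
  have hCUS : centralizerIn U P ≤ centralizerIn S P := inf_le_inf_right _ hUS
  have hXY : X ≤ Y := sup_le (sup_le le_sup_left ((hCUS.trans hCM).trans le_sup_right))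
    ((hCP.trans hCM).trans le_sup_right)
  have hPD := fullyNormalized_sub hS hF hinv.1 hU hPU hP
  have hfcD := fullyCentralized_of_fullyNormalized hUp hDs hPD
  obtain ⟨f0, hf0, hf0u, hf0C⟩ := exists_extension_centralizer
    (receptive_of_fullyNormalized hUp hDs hPD) ((mem_autGroup hPU).1 hu) (im_afun u)
  obtain ⟨b, hb, hbe⟩ := hf0.exists_aut (hf0.im_self fun x hx => mor_sup_induction hf0
    (fun a ha => Subgroup.mem_sup_left (hf0u a ha ▸ afun_mem u ha))
    (fun c hc => Subgroup.mem_sup_right (hf0C c hc)) hx)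
  obtain ⟨f, hf, hfe, hfm⟩ := FusionLayerCore.mem_wGroup_centric hS hF hD
    (FusionPrimeIndex88.centric_xc hfcD) hP2S hb
  have hfP2 : ∀ x ∈ P2, f x ∈ P2 := fun x hx => hfe x hx ▸ afun_mem b hx
  obtain ⟨fX, hfX, hfXe⟩ := hf.exists_aut (hf.im_self (sup_map hf hfP2))
  haveI := finite_of_le hXS
  haveI := finite_autGroup (F := F) X
  -- the stabilizer of `P` in the automizer of `X`
  set St := FusionTops.stab F X P hPX
  have hStm : ∀ {a : MulAut X}, a ∈ St → Mor F X (afun a) := fun ha => (mem_autGroup hXS).1 ha.1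
  have hStP : ∀ {a : MulAut X}, a ∈ St → ∀ x ∈ P, afun a x ∈ P :=
    fun ha x hx => ha.2.le (apply_mem_im hx)
  have hStP2 : ∀ {a : MulAut X}, a ∈ St → ∀ x ∈ P2, afun a x ∈ P2 := fun {a} ha x hx =>
    mor_sup_induction ((hStm ha).restrict_to le_sup_left)
      (fun y hy => Subgroup.mem_sup_left (hStP ha y hy))
      (fun c hc => by
        have hcX : c ∈ X := Subgroup.mem_sup_left (Subgroup.mem_sup_right hc)
        have h1 := apply_cent (hStm ha) hPX hcX (hCUS hc)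
        rw [ha.2] at h1
        exact Subgroup.mem_sup_right ⟨closed_apply' hU (hStm ha) hcX hc.1, h1.2⟩) hx
  have hStC : ∀ {a : MulAut X}, a ∈ St → ∀ c ∈ centralizerIn S P2,
      afun a c ∈ centralizerIn S P2 := fun {a} ha c hc => by
    have h1 := apply_cent (hStm ha) (le_sup_left : P2 ≤ X) (Subgroup.mem_sup_right hc) hc
    rwa [((hStm ha).restrict_to le_sup_left).im_self (hStP2 ha)] at h1
  have hnX : ∀ n ∈ normalizerIn S P, ∀ x ∈ X, cj n x ∈ X := by
    intro n hn x hx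
    have hm := mor_cj (F := F) hXS hn.1
    have h2 : ∀ y ∈ P2, cj n y ∈ P2 := fun y hy => mor_sup_induction (hm.restrict_to le_sup_left)
      (fun a ha => Subgroup.mem_sup_left (cj_mem_of_normalizer hn.2 ha))
      (fun c hc => by
        have h1 := apply_cent hm hPX (Subgroup.mem_sup_left (Subgroup.mem_sup_right hc)) (hCUS hc)
        rw [mem_normalizer_iff_im_cj.1 hn.2] at h1
        exact Subgroup.mem_sup_right ⟨cj_mem_of_stronglyClosed hU hn.1 hc.1, h1.2⟩) hy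
    refine mor_sup_induction hm (fun y hy => Subgroup.mem_sup_left (h2 y hy)) (fun c hc => ?_) hx
    have h1 := apply_cent hm (le_sup_left : P2 ≤ X) (Subgroup.mem_sup_right hc) hc
    rw [(hm.restrict_to le_sup_left).im_self h2] at h1
    exact Subgroup.mem_sup_right h1
  have hcjSt : ∀ n ∈ normalizerIn S P, ∃ a ∈ St, ∀ x ∈ X, afun a x = cj n x := by
    intro n hn
    have hm := mor_cj (F := F) hXS hn.1
    obtain ⟨a, ha, he⟩ := hm.exists_aut (hm.im_self (hnX n hn))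
    exact ⟨a, ⟨ha, (im_congr fun x hx => he x (hPX hx)).trans (mem_normalizer_iff_im_cj.1 hn.2)⟩,
      he⟩
  -- automorphisms lying in `D` on `P2` and moving `C_S(P2)` inside `P2`
  let H : Subgroup (MulAut X) :=
    { carrier := {a | a ∈ St ∧ (∃ d ∈ D.autGroup P2, ∀ x ∈ P2, afun a x = afun d x) ∧
        ∀ c ∈ centralizerIn S P2, c⁻¹ * afun a c ∈ P2}
      one_mem' := ⟨one_mem _, ⟨1, one_mem _, fun x hx => by
          rw [afun_one (Subgroup.mem_sup_left hx), afun_one hx]⟩, fun c hc => by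
        rw [afun_one (Subgroup.mem_sup_right hc), inv_mul_cancel]; exact P2.one_mem⟩
      mul_mem' := by
        rintro a a' ⟨ha, ⟨d, hd, hde⟩, hm⟩ ⟨ha', ⟨d', hd', hde'⟩, hm'⟩
        refine ⟨mul_mem ha ha', ⟨d * d', mul_mem hd hd', fun x hx => ?_⟩, fun c hc => ?_⟩
        · rw [afun_mul _ _ (Subgroup.mem_sup_left hx), afun_mul _ _ hx, hde' x hx,
            hde _ (afun_mem d' hx)]
        · rw [afun_mul _ _ (Subgroup.mem_sup_right hc)]
          have := P2.mul_mem (hm' c hc) (hm _ (hStC ha' c hc))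
          simpa [mul_assoc] using this
      inv_mem' := by
        rintro a ⟨ha, ⟨d, hd, hde⟩, hm⟩
        refine ⟨inv_mem ha, ⟨d⁻¹, inv_mem hd, fun x hx => ?_⟩, fun c hc => ?_⟩
        · conv_lhs => rw [← afun_apply_inv d hx, ← hde _ (afun_mem d⁻¹ hx)]
          exact afun_inv_apply a (Subgroup.mem_sup_left (afun_mem d⁻¹ hx))
        · have h1 := hm _ (hStC (inv_mem ha) c hc)
          rw [afun_apply_inv a (Subgroup.mem_sup_right hc)] at h1
          have h2 := P2.inv_mem h1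
          simpa using h2 }
  have hHn : ∀ g ∈ St, ∀ a ∈ H, g * a * g⁻¹ ∈ H := by
    rintro g hg a ⟨ha, ⟨d, hd, hde⟩, hm⟩
    have hg2 := (hStm hg).restrict_to (le_sup_left : P2 ≤ X)
    have him := hg2.im_self (hStP2 hg)
    refine ⟨mul_mem (mul_mem hg ha) (inv_mem hg), ⟨hg2.transport him d,
      FusionWeaklyNormal88.aut_transport hinv hP2U hg2 him hd, fun x hx => ?_⟩, fun c hc => ?_⟩
    · obtain ⟨y, hy, rfl⟩ := hg2.mem_im.1 (him.ge hx)
      have hyX : y ∈ X := Subgroup.mem_sup_left hy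
      rw [hg2.afun_transport him d hy, afun_mul _ _ (afun_mem g hyX),
        afun_inv_apply g hyX, afun_mul _ _ hyX, hde y hy]
    · have hcX : c ∈ X := Subgroup.mem_sup_right hc
      have hc' := hStC (inv_mem hg) c hc
      have h1 := hm _ hc'
      have h2 := hStP2 hg _ h1
      have h3 : (afun g⁻¹ c)⁻¹ * afun a (afun g⁻¹ c) ∈ X := Subgroup.mem_sup_left h1
      rw [afun_map_mul g (X.inv_mem (Subgroup.mem_sup_right hc'))
          (afun_mem a (Subgroup.mem_sup_right hc')),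
        (hStm hg).map_inv (Subgroup.mem_sup_right hc'), afun_apply_inv g hcX] at h2
      rw [afun_mul _ _ hcX, afun_mul _ _ (afun_mem g⁻¹ hcX)]
      exact h2
  let J : Subgroup (MulAut X) :=
    { carrier := {a | a ∈ H ∧ ∀ x ∈ P, afun a x = x}
      one_mem' := ⟨one_mem _, fun x hx => afun_one (hPX hx)⟩
      mul_mem' := fun ⟨ha, ha'⟩ ⟨hb, hb'⟩ => ⟨mul_mem ha hb, fun x hx => by
        rw [afun_mul _ _ (hPX hx), hb' x hx, ha' x hx]⟩
      inv_mem' := fun {a} ⟨ha, ha'⟩ => ⟨inv_mem ha, fun x hx => by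
        conv_lhs => rw [← ha' x hx]
        exact afun_inv_apply a (hPX hx)⟩ }
  have hJn : ∀ g ∈ St, ∀ j ∈ J, g * j * g⁻¹ ∈ J := fun g hg j hj =>
    ⟨hHn g hg j hj.1, fun x hx => by
      rw [afun_mul _ _ (hPX hx), afun_mul _ _ (afun_mem g⁻¹ (hPX hx)),
        hj.2 _ (hStP (inv_mem hg) x hx), afun_apply_inv g (hPX hx)]⟩
  have hJSt : J ≤ St := fun a ha => ha.1.1
  set AM := autInducedBy M X with hAM
  have hAMSt : AM ≤ St := fun a ha => by
    obtain ⟨n, hn, -, he⟩ := mem_autInducedBy.1 ha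
    obtain ⟨a', ha', he'⟩ := hcjSt n (hMN hn)
    rwa [afun_ext (α := a) (β := a') fun x hx => by rw [he x hx, he' x hx]]
  have hAMm : ∀ {a : MulAut X} {n : Ω}, n ∈ M → (∀ x ∈ X, afun a x = cj n x) → a ∈ AM :=
    fun {a n} hn he => mem_autInducedBy.2
      ⟨n, hn, mem_normalizer_of_cj_le hXS (hnX n (hMN hn)), he⟩
  -- the stabilizer of `P` is fully normalized at `X`
  have hK : FullyK F X St := by
    refine ⟨hXS, fun φ hφ => ?_⟩
    have hφP := hφ.restrict_to hPX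
    have h1 : nK S (im X φ) (St.map (hφ.transport rfl).toMonoidHom) ≤
        normalizerIn S (im P φ) := by
      intro g hg
      obtain ⟨hgS, κ, hκ, he⟩ := (mem_nK_transport hφ rfl).1 hg
      refine ⟨hgS, mem_normalizer_of_cj_le hφP.im_le fun y hy => ?_⟩
      obtain ⟨x, hx, rfl⟩ := hφP.mem_im.1 hy
      rw [he x (hPX hx)]
      exact apply_mem_im (hStP hκ x hx)
    have h2 : normalizerIn S P ≤ nK S X St := fun g hg => by
      obtain ⟨a, ha, he⟩ := hcjSt g hg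
      exact ⟨hg.1, a, ha, he⟩
    haveI : Finite ↥(normalizerIn S (im P φ)) := finite_of_le inf_le_left
    haveI : Finite ↥(nK S X St) := finite_of_le nK_le
    exact ((Subgroup.card_le_of_le h1).trans (hP.2 _ (FusionSysBasic.isConj_iff.2 ⟨φ, hφP, rfl⟩))).trans
      (Subgroup.card_le_of_le h2)
  obtain ⟨-, hsylSt⟩ := fullyK_spec hS hF hK
  have hStA : F.autGroup X ⊓ St = St := inf_eq_right.2 fun a ha => ha.1
  rw [hStA] at hsylSt
  set W := AM ⊔ J with hW
  have hWSt : W ≤ St := sup_le hAMSt hJSt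
  haveI : Finite St :=
    Finite.of_injective _ (Subgroup.inclusion_injective (fun a ha => ha.1 : St ≤ F.autGroup X))
  haveI : Finite W := Finite.of_injective _ (Subgroup.inclusion_injective hWSt)
  haveI : Finite J := Finite.of_injective _ (Subgroup.inclusion_injective hJSt)
  have hWmem : ∀ {w : MulAut X}, w ∈ W → ∃ a ∈ AM, ∃ j ∈ J, w = a * j := by
    intro w hw
    have hn : AM ≤ Subgroup.normalizer (J : Set (MulAut X)) := fun a ha =>
      Subgroup.mem_normalizer_iff.2 fun j => ⟨hJn a (hAMSt ha) j, fun h => by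
        have := hJn a⁻¹ (inv_mem (hAMSt ha)) _ h
        simpa [mul_assoc] using this⟩
    have hw' : w ∈ (AM : Set (MulAut X)) * (J : Set (MulAut X)) := by
      rw [← Subgroup.coe_mul_of_left_le_normalizer_right _ _ hn]; exact hw
    obtain ⟨a, ha, j, hj, e⟩ := Set.mem_mul.1 hw'
    exact ⟨a, ha, j, hj, e.symm⟩
  have hAMp : IsPGroup p AM :=
    (isPGroup_autInducedBy hS X).to_le (autInducedBy_mono hMS X)
  have hJsyl : SylIn p ((autInducedBy S X ⊓ St) ⊓ J) J :=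
    FusionCentralLift.sylIn_inf hsylSt ((isPGroup_autInducedBy hS X).to_le inf_le_left) hJSt hJn
  have hJAM : (autInducedBy S X ⊓ St) ⊓ J ≤ AM := by
    rintro a ⟨⟨ha, -⟩, haJ⟩
    obtain ⟨s, hs, -, he⟩ := mem_autInducedBy.1 ha
    exact hAMm (hCM (mem_centralizerIn.2 ⟨hs, fun x hx => by rw [← he x (hPX hx), haJ.2 x hx]⟩)) he
  have hWsyl : SylIn p AM W := by
    obtain ⟨U0, hU0⟩ :=
      (hAMp.of_equiv (Subgroup.subgroupOfEquivOfLe (le_sup_left : AM ≤ W)).symm).exists_le_sylow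
    refine ⟨U0, le_antisymm (fun w hw => ?_) hU0⟩
    rw [Subgroup.mem_subgroupOf]
    obtain ⟨a, ha, j, hj, e⟩ := hWmem w.2
    set U0' := (U0 : Subgroup W).map W.subtype ⊓ J
    have hjU : j ∈ U0' := by
      refine ⟨⟨⟨j, Subgroup.mem_sup_right hj⟩, ?_, rfl⟩, hj⟩
      have h1 := mul_mem (inv_mem (hU0 (x := ⟨a, Subgroup.mem_sup_left ha⟩) ha)) hw
      have e' : (⟨j, Subgroup.mem_sup_right hj⟩ : W) = ⟨a, Subgroup.mem_sup_left ha⟩⁻¹ * w :=
        Subtype.ext (show j = a⁻¹ * (w : MulAut X) by rw [e, inv_mul_cancel_left])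
      rw [e']
      exact h1
    have hle : (autInducedBy S X ⊓ St) ⊓ J ≤ U0' := fun x hx =>
      ⟨⟨⟨x, Subgroup.mem_sup_left (hJAM hx)⟩, hU0 (hJAM hx), rfl⟩, hx.2⟩
    haveI : Finite U0' :=
      Finite.of_injective _ (Subgroup.inclusion_injective (inf_le_right : U0' ≤ J))
    have hcard : Nat.card U0' ≤ Nat.card ↥((autInducedBy S X ⊓ St) ⊓ J) := by
      rw [(sylIn_iff_card inf_le_right).1 hJsyl]
      exact sylIn_le_pow ((U0.2.map W.subtype).to_le inf_le_left) inf_le_right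
    rw [e]
    exact AM.mul_mem ha (hJAM ((Subgroup.eq_of_le_of_card_ge hle hcard).ge hjU))
  -- `fX` lies in `H` and normalizes `W`
  have hfP : ∀ x ∈ P, afun fX x = afun u x := fun x hx => by
    rw [hfXe x (hPX hx), hfe x (Subgroup.mem_sup_left hx), hbe x (Subgroup.mem_sup_left hx),
      hf0u x hx]
  have hfSt : fX ∈ St := ⟨hfX, (im_congr hfP).trans (im_afun u)⟩
  have hfH : fX ∈ H := ⟨hfSt,
    ⟨b, hb, fun x hx => by rw [hfXe x (Subgroup.mem_sup_left hx), hfe x hx]⟩,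
    fun c hc => by rw [hfXe c (Subgroup.mem_sup_right hc)]; exact hfm c hc⟩
  have hconj : ∀ a ∈ AM, fX * a * fX⁻¹ ∈ W := by
    intro a ha
    obtain ⟨n, hn, -, hne⟩ := mem_autInducedBy.1 ha
    obtain ⟨-, l, hl, hle'⟩ := id hn
    have hle : ∀ x ∈ P, afun l x = cj n x := hle'
    have hl' := huQ l hl
    obtain ⟨t', ht', htn', hte'⟩ := mem_autInducedBy.1 (hQ l hl)
    have hcjH : ∀ t ∈ U, t ∈ Subgroup.normalizer (P : Set Ω) →
        ∃ a ∈ H, ∀ x ∈ X, afun a x = cj t x := by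
      intro t ht htn
      obtain ⟨a, ha, he⟩ := hcjSt t ⟨hUS ht, htn⟩
      have h2 : ∀ x ∈ P2, cj t x ∈ P2 := fun x hx => he x (Subgroup.mem_sup_left hx) ▸ hStP2 ha x hx
      have hm := mor_cj (F := D) hP2U ht
      obtain ⟨d, hd, hde⟩ := hm.exists_aut (hm.im_self h2)
      refine ⟨a, ⟨ha, ⟨d, hd, fun x hx => by rw [he x (Subgroup.mem_sup_left hx), hde x hx]⟩,
        fun c hc => ?_⟩, he⟩
      have h1 := hStC ha c hc
      rw [he c (Subgroup.mem_sup_right hc)] at h1 ⊢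
      have h3 : c⁻¹ * cj t c ∈ centralizerIn S P2 := mul_mem (inv_mem hc) h1
      refine Subgroup.mem_sup_right ⟨?_, (hCP h3).2⟩
      have h4 : cj c⁻¹ t ∈ U := cj_mem_of_stronglyClosed hU (S.inv_mem hc.1) ht
      have h5 := U.mul_mem h4 (U.inv_mem ht)
      convert h5 using 1
      simp [cj_apply, mul_assoc]
    obtain ⟨at', hat', hte2'⟩ := hcjH t' ht' htn'
    set m := t' * n with hm
    have hmN : m ∈ normalizerIn S P :=
      ⟨S.mul_mem (hUS ht') (hMS hn), Subgroup.mul_mem _ htn' (hMN hn).2⟩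
    have hme : ∀ x ∈ P, cj m x = afun (u * l * u⁻¹) x := fun x hx => by
      rw [hm, ← cj_cj, ← hle x hx, ← hte' _ (afun_mem l hx), ← afun_mul _ _ hx,
        inv_mul_cancel_right]
    have hmM : m ∈ M := ⟨hmN.1, _, hl', fun x hx => (hme x hx).symm⟩
    obtain ⟨am, hamSt, hame⟩ := hcjSt m hmN
    have eam : am = at' * a := afun_ext fun x hx => by
      rw [afun_mul _ _ hx, hne x hx, hte2' _ (hnX n (hMN hn) x hx), hame x hx, hm, cj_cj]
    have hjJ : fX * a * fX⁻¹ * am⁻¹ ∈ J := by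
      refine ⟨?_, fun x hx => ?_⟩
      · rw [eam, show fX * a * fX⁻¹ * (at' * a)⁻¹ =
          (fX * (a * fX⁻¹ * a⁻¹)) * at'⁻¹ by group]
        exact mul_mem (mul_mem hfH (hHn a (hAMSt ha) _ (inv_mem hfH))) (inv_mem hat')
      · have hy : afun am⁻¹ x ∈ P := hStP (inv_mem hamSt) x hx
        rw [afun_mul _ _ (hPX hx), afun_mul _ _ (hPX hy), afun_mul _ _ (afun_mem fX⁻¹ (hPX hy))]
        set y := afun am⁻¹ x
        have hz : afun u⁻¹ y ∈ P := afun_mem _ hy
        have h1 : afun fX⁻¹ y = afun u⁻¹ y := by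
          conv_lhs => rw [← afun_apply_inv u hy, ← hfP _ hz]
          exact afun_inv_apply fX (hPX hz)
        rw [h1, hne _ (hPX hz), ← hle _ hz, hfP _ (afun_mem l hz), ← afun_mul _ _ hz,
          ← afun_mul _ _ hy, ← hme y hy, ← hame y (hPX hy)]
        exact afun_apply_inv am (hPX hx)
    have e : fX * a * fX⁻¹ = (fX * a * fX⁻¹ * am⁻¹) * am := by group
    rw [e]
    exact W.mul_mem (Subgroup.mem_sup_right hjJ) (Subgroup.mem_sup_left (hAMm hmM hame))
  obtain ⟨w, hw, hwK⟩ := sylIn_absorb (K := AM.map (MulAut.conj fX).toMonoidHom) hWsyl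
    (hAMp.map _) (Subgroup.map_le_iff_le_comap.2 hconj)
  obtain ⟨a0, ha0, j, hj, rfl⟩ := hWmem hw
  set g := j * fX with hg
  have hgH : g ∈ H := mul_mem hj.1 hfH
  have hgP : ∀ x ∈ P, afun g x = afun u x := fun x hx => by
    rw [afun_mul _ _ (hPX hx), hfP x hx, hj.2 _ (afun_mem u hx)]
  have hgAM : ∀ a ∈ AM, g * a * g⁻¹ ∈ AM := fun a ha => by
    have h1 := AM.mul_mem (AM.mul_mem (AM.inv_mem ha0) (hwK _ ⟨a, ha, rfl⟩)) ha0
    convert h1 using 1
    rw [hg, MulEquiv.coe_toMonoidHom, MulAut.conj_apply]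
    group
  -- extension to `X ⊔ M`
  obtain ⟨e, he, hee⟩ := (receptive_iff.1 (receptive_of_fullyK hS hF hK)).2 X _ M (hStm hgH.1)
    (im_afun g) hMS (fun n hn => mem_normalizer_of_cj_le hXS (hnX n (hMN hn))) fun n hn => by
      obtain ⟨an, -, hane⟩ := hcjSt n (hMN hn)
      obtain ⟨v, hv, -, hve⟩ := mem_autInducedBy.1 (hgAM an (hAMm hn hane))
      refine ⟨v, hMS hv, fun x hx => ?_⟩
      rw [← hve _ (afun_mem g hx), afun_mul _ _ (afun_mem g hx),
        afun_inv_apply g hx, afun_mul _ _ hx, hane x hx]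
  have hYXM : Y ≤ X ⊔ M := sup_le (hPX.trans le_sup_left) le_sup_right
  have heP : ∀ x ∈ P, e x = afun u x := fun x hx => (hee x (hPX hx)).trans (hgP x hx)
  have heM : ∀ n ∈ M, e n ∈ M := by
    intro n hn
    obtain ⟨-, l, hl, hle⟩ := id hn
    refine ⟨he.apply_mem (Subgroup.mem_sup_right hn), _, huQ l hl, fun y hy => ?_⟩
    have hz := afun_mem u⁻¹ hy
    conv_rhs => rw [← afun_apply_inv u hy, ← heP _ hz,
      ← he.map_cj (Subgroup.mem_sup_right hn) (Subgroup.mem_sup_left (hPX hz)), ← hle _ hz,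
      heP _ (afun_mem l hz)]
    rw [afun_mul _ _ hy, afun_mul _ _ hz]
  have heY := he.restrict_to hYXM
  obtain ⟨Ψ, hΨ, hΨe⟩ := heY.exists_aut (heY.im_self fun y hy => mor_sup_induction heY
    (fun x hx => Subgroup.mem_sup_left (heP x hx ▸ afun_mem u hx))
    (fun n hn => Subgroup.mem_sup_right (heM n hn)) hy)
  have hYS : Y ≤ S := sup_le hPS hMS
  haveI := finite_of_le hYS
  haveI := finite_autGroup (F := F) Y
  have hpow : ∀ k : ℕ, (∀ x ∈ P, afun (Ψ ^ k) x = afun (u ^ k) x) ∧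
      (∀ x ∈ X, afun (Ψ ^ k) x = afun (g ^ k) x) ∧ ∀ n ∈ M, afun (Ψ ^ k) n ∈ M := by
    intro k
    induction k with
    | zero =>
      refine ⟨fun x hx => ?_, fun x hx => ?_, fun n hn => ?_⟩
      · rw [pow_zero, pow_zero, afun_one (Subgroup.mem_sup_left hx), afun_one hx]
      · rw [pow_zero, pow_zero, afun_one (hXY hx), afun_one hx]
      · rw [pow_zero, afun_one (Subgroup.mem_sup_right hn)]; exact hn
    | succ k ih =>
      obtain ⟨h1, h2, h3⟩ := ih
      refine ⟨fun x hx => ?_, fun x hx => ?_, fun n hn => ?_⟩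
      · have hxY : x ∈ Y := Subgroup.mem_sup_left hx
        rw [pow_succ', pow_succ', afun_mul _ _ hxY, afun_mul _ _ hx, h1 x hx,
          hΨe _ (Subgroup.mem_sup_left (afun_mem _ hx)), heP _ (afun_mem _ hx)]
      · rw [pow_succ', pow_succ', afun_mul _ _ (hXY hx), afun_mul _ _ hx, h2 x hx,
          hΨe _ (hXY (afun_mem _ hx)), hee _ (afun_mem _ hx)]
      · rw [pow_succ', afun_mul _ _ (Subgroup.mem_sup_right hn),
          hΨe _ (Subgroup.mem_sup_right (h3 n hn))]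
        exact heM _ (h3 n hn)
  have hn0 : orderOf Ψ ≠ 0 := by
    have := isOfFinOrder_of_finite (⟨Ψ, hΨ⟩ : F.autGroup Y)
    exact (orderOf_pos_iff.2 ((F.autGroup Y).subtype.isOfFinOrder this)).ne'
  obtain ⟨k, hk⟩ := exists_exponent (p := p) hn0
  have hue : u ^ k = u := by
    refine (hk u (orderOf_dvd_of_pow_eq_one (afun_ext fun x hx => ?_))).2 hco
    rw [← (hpow _).1 x hx, pow_orderOf_eq_one, afun_one (Subgroup.mem_sup_left hx), afun_one hx]
  set Φ := Ψ ^ k with hΦ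
  have hΦco : (orderOf Φ).Coprime p := (hk Ψ dvd_rfl).1
  obtain ⟨hΦP, hΦX, hΦM⟩ := hpow k
  rw [hue] at hΦP
  have hΦm := (mem_autGroup hYS).1 (pow_mem hΨ k)
  set g' := g ^ k
  have hg'H : g' ∈ H := pow_mem hgH k
  refine ⟨afun Φ, hΦm, hΦP, hΦM, fun c hc => ?_⟩
  have hcY : c ∈ Y := Subgroup.mem_sup_right hc
  set s := c⁻¹ * afun Φ c with hs
  have hΦcS : afun Φ c ∈ S := hΦm.apply_mem hcY
  have hcN : c ∈ normalizerIn S P := hMN hc
  obtain ⟨ac, hacSt, hace⟩ := hcjSt c hcN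
  set as := ac⁻¹ * g' * ac * g'⁻¹
  have hasH : as ∈ H := by
    have h1 := hHn ac⁻¹ (inv_mem hacSt) g' hg'H
    rw [inv_inv] at h1
    exact mul_mem h1 (inv_mem hg'H)
  have hase : ∀ x ∈ X, afun as x = cj s x := by
    intro x hx
    have hy := afun_mem g'⁻¹ hx
    have hcy : cj c (afun g'⁻¹ x) ∈ X := hnX c hcN _ hy
    have hz := afun_mem g' hcy
    rw [afun_mul _ _ hx, afun_mul _ _ hy, afun_mul _ _ (afun_mem ac hy), hace _ hy, hs, ← cj_cj]
    have e1 : afun g' (cj c (afun g'⁻¹ x)) = cj (afun Φ c) x := by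
      rw [← hΦX _ hcy, hΦm.map_cj hcY (hXY hy), hΦX _ hy, afun_apply_inv g' hx]
    rw [← e1]
    have h6 : cj c⁻¹ (afun g' (cj c (afun g'⁻¹ x))) ∈ X :=
      hnX _ ⟨S.inv_mem hcN.1, Subgroup.inv_mem _ hcN.2⟩ _ hz
    conv_lhs => rw [← cj_cj_inv c (afun g' (cj c (afun g'⁻¹ x))), ← hace _ h6]
    exact afun_inv_apply ac h6
  obtain ⟨hasSt, ⟨d, hd, hde⟩, -⟩ := hasH
  have hds : ∀ x ∈ P2, afun d x = cj s x := fun x hx => by
    rw [← hde x hx, hase x (Subgroup.mem_sup_left hx)]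
  have hsS : s ∈ S := S.mul_mem (S.inv_mem hc.1) hΦcS
  have hdU : d ∈ autInducedBy U P2 := by
    obtain ⟨-, hsyl⟩ := fullyK_spec hUp hDs (FusionNormalLifts.fullyK_stab hPD)
    set St2 := FusionTops.stab D P2 P le_sup_left
    set R2 := autInducedBy U P2 ⊓ St2
    haveI := finite_autGroup (F := D) P2
    set A2 := D.autGroup P2 ⊓ St2
    haveI : Finite A2 := Finite.of_injective _ (Subgroup.inclusion_injective inf_le_left)
    have hdSt : d ∈ St2 := ⟨hd, by
      rw [im_congr fun x hx => (hde x (Subgroup.mem_sup_left hx)).symm]; exact hasSt.2⟩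
    have hK2 : R2 ⊔ Subgroup.zpowers d ≤ A2 :=
      sup_le (le_inf (inf_le_left.trans (autInducedBy_le hP2U)) inf_le_right)
        (Subgroup.zpowers_le.2 ⟨hd, hdSt⟩)
    have hdS : d ∈ autInducedBy S P2 := mem_autInducedBy.2
      ⟨s, hsS, mem_normalizer_of_cj_le hP2S fun x hx => hds x hx ▸ afun_mem d hx, hds⟩
    have hK2p : IsPGroup p ↥(R2 ⊔ Subgroup.zpowers d : Subgroup (MulAut P2)) :=
      (isPGroup_autInducedBy hS P2).to_le
        (sup_le (inf_le_left.trans (autInducedBy_mono hUS P2)) (Subgroup.zpowers_le.2 hdS))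
    haveI : Finite ↥(R2 ⊔ Subgroup.zpowers d : Subgroup (MulAut P2)) :=
      Finite.of_injective _ (Subgroup.inclusion_injective hK2)
    have hc2 : Nat.card ↥(R2 ⊔ Subgroup.zpowers d : Subgroup (MulAut P2)) ≤ Nat.card R2 := by
      rw [(sylIn_iff_card (le_sup_left.trans hK2)).1 hsyl]
      exact sylIn_le_pow hK2p hK2
    exact ((Subgroup.eq_of_le_of_card_ge le_sup_left hc2).ge
      (Subgroup.mem_sup_right (Subgroup.mem_zpowers d))).1
  obtain ⟨t, ht, -, hte⟩ := mem_autInducedBy.1 hdU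
  set z := t⁻¹ * s with hz
  have hzC : z ∈ centralizerIn S P2 := mem_centralizerIn.2
    ⟨S.mul_mem (S.inv_mem (hUS ht)) hsS, fun x hx => by
      rw [hz, ← cj_cj, ← hds x hx, hte x hx, cj_inv_cj]⟩
  have hzX : z ∈ X := Subgroup.mem_sup_right hzC
  have hΦz : z⁻¹ * afun Φ z ∈ U := by
    rw [hΦX z hzX]; exact hP2U (hg'H.2.2 z hzC)
  -- modulo `U`
  haveI hUn : (U.subgroupOf S).Normal :=
    ⟨fun m hm a => cj_mem_of_stronglyClosed hU a.2 (Subgroup.mem_subgroupOf.1 hm)⟩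
  let q : Y →* S ⧸ U.subgroupOf S :=
    (QuotientGroup.mk' (U.subgroupOf S)).comp (Subgroup.inclusion hYS)
  have hq1 : ∀ y : Y, q y = 1 ↔ (y : Ω) ∈ U := fun y => by
    show QuotientGroup.mk' (U.subgroupOf S) (Subgroup.inclusion hYS y) = 1 ↔ _
    rw [QuotientGroup.mk'_apply, QuotientGroup.eq_one_iff, Subgroup.mem_subgroupOf]
    rfl
  have hqinv : ∀ y y' : Y, q y = q y' → q (Φ y) = q (Φ y') := fun y y' h => by
    have h1 : (((y⁻¹ * y' : Y)) : Ω) ∈ U := (hq1 _).1 (by rw [map_mul, map_inv, h, inv_mul_cancel])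
    have h2 := closed_apply' hU hΦm (y⁻¹ * y').2 h1
    rw [afun_coe] at h2
    have h3 := (hq1 _).2 h2
    rw [map_mul, map_inv, map_mul, map_inv, inv_mul_eq_one] at h3
    exact h3
  set cY : Y := ⟨c, hcY⟩
  set zY : Y := ⟨z, hXY hzX⟩
  have hzfix : q (Φ zY) = q zY := by
    rw [eq_comm, ← inv_mul_eq_one, ← map_inv, ← map_mul]
    refine (hq1 _).2 ?_
    rw [Subgroup.coe_mul, Subgroup.coe_inv, ← afun_coe]
    exact hΦz
  have hcstep : q (Φ cY) = q cY * q zY := by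
    have e : Φ cY = cY * ⟨s, Y.mul_mem (Y.inv_mem hcY) (afun_mem Φ hcY)⟩ := Subtype.ext (by
      rw [Subgroup.coe_mul, ← afun_coe]; exact (mul_inv_cancel_left _ _).symm)
    have e2 : q ⟨s, Y.mul_mem (Y.inv_mem hcY) (afun_mem Φ hcY)⟩ = q zY := by
      rw [eq_comm, ← inv_mul_eq_one, ← map_inv, ← map_mul]
      refine (hq1 _).2 ?_
      show z⁻¹ * s ∈ U
      rw [hz, mul_inv_rev, inv_inv, mul_assoc]
      have := cj_mem_of_stronglyClosed hU (S.inv_mem hsS) ht
      simpa [cj_apply, mul_assoc] using this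
    rw [e, map_mul, e2]
  have hiter : ∀ i : ℕ, q ((Φ ^ i) cY) = q cY * q zY ^ i := by
    intro i
    induction i with
    | zero => simp
    | succ i ih =>
      rw [pow_succ' Φ, MulAut.mul_apply, hqinv _ (cY * zY ^ i) (by rw [ih, map_mul, map_pow]),
        map_mul, map_mul, map_pow, map_pow, hcstep, hzfix, pow_succ', mul_assoc]
  have h1 := hiter (orderOf Φ)
  rw [pow_orderOf_eq_one, MulAut.one_apply, left_eq_mul, ← map_pow, hq1,
    Subgroup.coe_pow] at h1
  obtain ⟨i, hi⟩ := hS ⟨z, hzC.1⟩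
  have hzU : z ∈ U := FusionWeaklyNormal88.mem_of_coprime_pow (hΦco.pow_right i) h1
    (by rw [show z ^ p ^ i = 1 from congrArg Subtype.val hi]; exact one_mem _)
  have h2 := U.mul_mem ht hzU
  rwa [hz, mul_inv_cancel_left] at h2


theorem exists_good_extension (hS : IsPGroup p S) (hF : F.IsSaturated p) {D : FusionSystem U}
    (hD : D.IsNormalIn F p) {P : Subgroup Ω} (hPU : P ≤ U) (hP : F.IsFullyNormalized P)
    {Q : Subgroup (MulAut P)} (hQ : Q ≤ autInducedBy U P) {u : MulAut P} (hu : u ∈ D.autGroup P)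
    (hco : (orderOf u).Coprime p) (huQ : ∀ a ∈ Q, u * a * u⁻¹ ∈ Q) :
    ∃ ψ, Mor F (P ⊔ nK S P Q) ψ ∧ (∀ x ∈ P, ψ x = afun u x) ∧
      (∀ n ∈ nK S P Q, ψ n ∈ nK S P Q) ∧ ∀ c ∈ centralizerIn S P, c⁻¹ * ψ c ∈ U := by
  obtain ⟨ψ, h1, h2, h3, h4⟩ := exists_trivial_extension hS hF hD hPU hP hu hco huQ
    fun a ha => mul_mem (hQ (huQ a ha)) (inv_mem (hQ ha))
  exact ⟨ψ, h1, h2, h3, fun c hc => h4 c
    ⟨hc.1, 1, one_mem _, fun x hx => by rw [afun_one hx, (mem_centralizerIn.1 hc).2 x hx]⟩⟩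

end Cfsg.Agent.FusionMeetKey
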