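import Cfsg.Agent.Lib.FusionLayerCore
import Cfsg.Agent.Lib.FusionCentralizerSub
import Cfsg.Agent.Lib.FusionGoodLift
import Cfsg.Agent.Lib.FusionMeetKey

/-!
Automorphisms of centric radical subgroups of a normal subsystem `M` over `T` extend over a
strongly closed `X` so as to move it only inside `T ⊓ X` (`exists_ext`), and such automorphisms
generate `M` (`gen_induction`).
-/

set_option autoImplicit false

namespace Cfsg.Agent.FusionCommute

open Cfsg Cfsg.FusionSystem Cfsg.Agent.FusionSysBasic Cfsg.Agent.FusionSysSaturated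
open Cfsg.Agent.FusionSysNormal Cfsg.Agent.FusionKit88

variable {Ω : Type*} [Group Ω] {S T X : Subgroup Ω} {F : FusionSystem S} {M : FusionSystem T}
  {p : ℕ}

/-- The normal `p`-subgroups of the automizer are inner. -/
def Rad (M : FusionSystem T) (p : ℕ) (P : Subgroup Ω) : Prop :=
  ∀ O : Subgroup (MulAut P), O ≤ M.autGroup P → IsPGroup p O →
    (∀ a ∈ M.autGroup P, ∀ o ∈ O, a * o * a⁻¹ ∈ O) → O ≤ autInducedBy P P

variable [Finite S] [Fact p.Prime]

theorem rad_self (hS : IsPGroup p S) (hF : F.IsSaturated p) : Rad F p S := fun O hO hOp hOn =>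
  FusionCentralLift.le_autInducedBy_of_normal (fullyAutomized_of_saturated_self hF) hO hOp hOn

omit [Finite S] [Fact p.Prime] in
theorem rad_of_radical {P : Subgroup Ω} (hr : F.IsRadical p P) : Rad F p P := by
  intro O hO hOp hOn
  have h1 : O.subgroupOf (F.autGroup P) ≤ pCore p (F.autGroup P) :=
    le_sSup ⟨⟨fun m hm a => hOn a a.2 m hm⟩,
      hOp.comap_of_injective (F.autGroup P).subtype Subtype.coe_injective⟩
  rw [autInducedBy_self, ← hr.2]
  intro o ho
  exact ⟨⟨o, hO ho⟩, h1 ho, rfl⟩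

/-- Every map is generated by the automorphisms of order prime to `p` of fully normalized centric
radical subgroups. -/
theorem gen_induction (hS : IsPGroup p S) (hF : F.IsSaturated p)
    {Φ : Subgroup Ω → (Ω → Ω) → Prop} (h : FusionInduct88.Closed F (U := S) Φ)
    (haut : ∀ R, F.IsFullyNormalized R → F.IsCentric R → Rad F p R → ∀ α ∈ F.autGroup R,
      (orderOf α).Coprime p → Φ R (afun α))
    {P : Subgroup Ω} {f : Ω → Ω} (hf : Mor F P f) : Φ P f := by
  let E : FusionSystem S := FusionInduct88.subSystem le_rfl h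
  suffices F ≤ E from (FusionInduct88.mor_subSystem.1 (FusionSysAlperin.mor_mono this hf)).2.2.2
  refine FusionSysAlperin.alperin hS hF fun R hR => ?_
  obtain ⟨hn, hc, hr⟩ : F.IsFullyNormalized R ∧ F.IsCentric R ∧ Rad F p R := by
    rcases hR with rfl | hR
    · exact ⟨fullyNormalized_self, ⟨le_rfl, fun Q hQ => by
        rw [isConj_self_eq hQ]; exact inf_le_left⟩, rad_self hS hF⟩
    · exact ⟨hR.2.1, hR.1, rad_of_radical (FusionSysAlperin.radical_of_essential hS hR)⟩
  have hRS := hn.1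
  refine FusionWeakAlperin.autGroup_le_of_fullyNormalized hS hF hn (by
    rw [Subgroup.map_le_iff_le_comap, TransferPResidual.pResidual_le_iff_coprime]
    intro β hβ
    have hm := (mem_autGroup hRS).1 β.2
    exact mem_autGroup_of_mor (FusionInduct88.mor_subSystem.2 ⟨hm, hRS,
      fun x hx => hm.apply_mem hx, haut R hn hc hr β β.2 (by rwa [Subgroup.orderOf_coe])⟩))
    (autInducedBy_le hRS)

variable (hS : IsPGroup p S) (hF : F.IsSaturated p) (hM : M.IsNormalIn F p)
  (hX : F.StronglyClosed X)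

omit [Finite S] [Fact p.Prime] in
include hM hX in
/-- The strongly closed `X` normalizes every subgroup containing `T ⊓ X`. -/
theorem cj_mem_of_inf_le {P : Subgroup Ω} (hPT : P ≤ T) (hJ : T ⊓ X ≤ P) {t x : Ω}
    (ht : t ∈ X) (hx : x ∈ P) : cj t x ∈ P := by
  have hT := hM.1.2.2.2.1
  have h1 : cj t x ∈ T := cj_mem_of_stronglyClosed hT (hX.1 ht) (hPT hx)
  have h2 : cj t x * x⁻¹ ∈ T ⊓ X := ⟨T.mul_mem h1 (T.inv_mem (hPT hx)), by
    have h3 : cj x t⁻¹ ∈ X := cj_mem_of_stronglyClosed hX (hT.1 (hPT hx)) (X.inv_mem ht)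
    have := X.mul_mem ht h3
    simpa [cj_apply, mul_assoc] using this⟩
  have := P.mul_mem (hJ h2) hx
  rwa [inv_mul_cancel_right] at this

include hS hF hM hX

/-- The extension over `X`, for fully normalized `P`. -/
theorem exists_ext_fn {P : Subgroup Ω} (hP : F.IsFullyNormalized P) (hc : M.IsCentric P)
    (hr : Rad M p P) (hJ : T ⊓ X ≤ P) {a : MulAut P} (ha : a ∈ M.autGroup P)
    (hco : (orderOf a).Coprime p)
    (hcomm : ∀ t ∈ X, ∀ x ∈ T ⊓ X, cj t (afun a x) = afun a (cj t x)) :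
    ∃ β ∈ F.autGroup (P ⊔ X), (orderOf β).Coprime p ∧ (∀ x ∈ P, afun β x = afun a x) ∧
      ∀ x ∈ X, afun β x ∈ X ∧ x⁻¹ * afun β x ∈ T ⊓ X := by
  have hI := hM.1.2.2
  have hT : F.StronglyClosed T := hI.2.1
  have hPT : P ≤ T := hc.1
  have hPS : P ≤ S := hPT.trans hT.1
  haveI := finite_of_le hPS
  obtain ⟨g, hg, hge, hgC⟩ := FusionLayerCore.mem_wGroup_centric hS hF hM hc hPS ha
  set C := centralizerIn S P with hC
  set R := P ⊔ C with hRdef
  have hRS : R ≤ S := hg.le
  haveI := finite_of_le hRS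
  have hgP : ∀ x ∈ P, g x ∈ P := fun x hx => (hge x hx).symm ▸ afun_mem a hx
  have hgR : ∀ x ∈ R, g x ∈ R := fun x hx => mor_sup_induction hg
    (fun y hy => Subgroup.mem_sup_left (hgP y hy))
    (fun c hc => by
      have := Subgroup.mul_mem _ (Subgroup.mem_sup_right (S := P) hc)
        (Subgroup.mem_sup_left (T := C) (hgC c hc))
      rwa [mul_inv_cancel_left] at this) hx
  obtain ⟨gA, hgA, hgAe⟩ := hg.exists_aut (hg.im_self hgR)
  have hnR : ∀ y ∈ R, ∀ x ∈ P, cj y x ∈ P := by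
    have hle : R ≤ normalizerIn S P := sup_le (le_normalizerIn hPS) centralizerIn_le_normalizerIn
    exact fun y hy x hx => cj_mem_of_normalizer (hle hy).2 hx
  -- `g` is trivial modulo `P`
  have hgmod : ∀ x ∈ R, x⁻¹ * g x ∈ P := by
    let K : Subgroup Ω :=
      { carrier := {x | x ∈ R ∧ x⁻¹ * g x ∈ P}
        one_mem' := ⟨one_mem _, by rw [hg.map_one, inv_one, one_mul]; exact one_mem _⟩
        mul_mem' := fun {x y} hx hy => ⟨mul_mem hx.1 hy.1, by
          rw [hg.map_mul hx.1 hy.1]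
          have := P.mul_mem (hnR y⁻¹ (inv_mem hy.1) _ hx.2) hy.2
          simpa [cj_apply, mul_assoc] using this⟩
        inv_mem' := fun {x} hx => ⟨inv_mem hx.1, by
          rw [hg.map_inv hx.1]
          have := hnR x hx.1 _ (P.inv_mem hx.2)
          simpa [cj_apply, mul_assoc] using this⟩ }
    have hle : R ≤ K := sup_le (fun x hx => ⟨Subgroup.mem_sup_left hx,
      P.mul_mem (P.inv_mem hx) (hgP x hx)⟩) fun c hc => ⟨Subgroup.mem_sup_right hc, hgC c hc⟩
    exact fun x hx => (hle hx).2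
  -- `R` is receptive
  have hRc : F.IsFullyCentralized R := by
    refine ⟨hRS, fun Q hQ => ?_⟩
    obtain ⟨f, hf, rfl⟩ := FusionSysBasic.isConj_iff.1 hQ
    have hPf := hf.restrict_to (le_sup_left : P ≤ R)
    have hCf := hf.restrict_to (le_sup_right : C ≤ R)
    have him : im C f = centralizerIn S (im P f) := by
      refine eq_of_le_of_card_ge inf_le_left (im_le_iff.2 fun c hc => mem_centralizerIn.2
        ⟨hCf.apply_mem hc, fun y hy => ?_⟩) ?_
      · obtain ⟨x, hx, rfl⟩ := hPf.mem_im.1 hy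
        rw [← hf.map_cj (Subgroup.mem_sup_right hc) (Subgroup.mem_sup_left hx),
          (mem_centralizerIn.1 hc).2 x hx]
      · rw [hCf.card_im]
        exact (fullyCentralized_of_fullyNormalized hS hF hP).2 _
          (FusionSysBasic.isConj_iff.2 ⟨f, hPf, rfl⟩)
    haveI := finite_centralizerIn (S := S) R
    have hCR : centralizerIn S R ≤ R := fun c hc => Subgroup.mem_sup_right
      (mem_centralizerIn.2 ⟨(mem_centralizerIn.1 hc).1, fun x hx =>
        (mem_centralizerIn.1 hc).2 x (Subgroup.mem_sup_left hx)⟩)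
    rw [← (hf.restrict_to hCR).card_im]
    haveI := finite_of_le (hf.restrict_to hCR).im_le
    refine Subgroup.card_le_of_le fun c hc => ?_
    obtain ⟨hcS, hcc⟩ := mem_centralizerIn.1 hc
    have hcC : c ∈ centralizerIn S (im P f) :=
      mem_centralizerIn.2 ⟨hcS, fun y hy => hcc y (im_mono le_sup_left hy)⟩
    rw [← him] at hcC
    obtain ⟨r, hr, rfl⟩ := hCf.mem_im.1 hcC
    refine apply_mem_im (mem_centralizerIn.2 ⟨hRS (Subgroup.mem_sup_right hr), fun x hx => ?_⟩)
    refine hf.injOn ?_ hx ?_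
    · exact R.mul_mem (R.mul_mem (Subgroup.mem_sup_right hr) hx) (R.inv_mem (Subgroup.mem_sup_right hr))
    · rw [hf.map_cj (Subgroup.mem_sup_right hr) hx, hcc _ (apply_mem_im hx)]
  have hrec := receptive_of_fullyCentralized hS hF hRc
  -- the normalizer system of `P`
  set NS := normalizerSystem F P hPS with hNSdef
  have hNS := isNormalizerSystem_normalizerSystem (F := F) P hPS
  have hNs := FusionSysNormalizer.normalizerSystem_saturated hS hF hP hNS
  have hRN : R ≤ normalizerIn S P :=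
    sup_le (le_normalizerIn hPS) centralizerIn_le_normalizerIn
  haveI := finite_normalizerIn (S := S) P
  have hnPS : IsPGroup p (normalizerIn S P) := hS.to_le inf_le_left
  have hRn : ∀ u ∈ normalizerIn S P, ∀ x ∈ R, cj u x ∈ R := fun u hu x hx =>
    mor_sup_induction (T := R) (mor_cj (F := F) hRS hu.1)
      (fun y hy => Subgroup.mem_sup_left (cj_mem_of_normalizer hu.2 hy))
      (fun c hc => Subgroup.mem_sup_right (mem_centralizerIn.2
        ⟨cj_mem_S hu.1 (mem_centralizerIn.1 hc).1, fun y hy => by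
          have hy' : cj u⁻¹ y ∈ P := cj_mem_of_normalizer (Subgroup.inv_mem _ hu.2) hy
          have := congrArg (cj u) ((mem_centralizerIn.1 hc).2 _ hy')
          simp only [cj_apply] at this ⊢
          simpa [mul_assoc] using this⟩)) hx
  have hRfa := fullyAutomized_of_fullyNormalized hnPS hNs
    (FusionWeakAlperin.fullyNormalized_of_normal hRN hRn : NS.IsFullyNormalized R)
  let W : Subgroup (MulAut R) :=
    { carrier := {ε | ε ∈ F.autGroup R ∧ (∀ x ∈ R, x⁻¹ * afun ε x ∈ P) ∧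
        ∃ u ∈ P, ∀ x ∈ P, afun ε x = cj u x}
      one_mem' := ⟨one_mem _, fun x hx => by rw [afun_one hx, inv_mul_cancel]; exact one_mem _,
        1, one_mem _, fun x hx => by rw [afun_one (Subgroup.mem_sup_left hx), cj_one]⟩
      mul_mem' := by
        rintro b c ⟨hb, hb', u, hu, hbe⟩ ⟨hc, hc', v, hv, hce⟩
        refine ⟨mul_mem hb hc, fun x hx => ?_, u * v, mul_mem hu hv, fun x hx => ?_⟩
        · rw [afun_mul _ _ hx]
          have := P.mul_mem (hc' x hx) (hb' _ (afun_mem c hx))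
          simpa [mul_assoc] using this
        · rw [afun_mul _ _ (Subgroup.mem_sup_left hx), hce x hx,
            hbe _ (hnR v (Subgroup.mem_sup_left hv) x hx), cj_cj]
      inv_mem' := by
        rintro b ⟨hb, hb', u, hu, hbe⟩
        refine ⟨inv_mem hb, fun x hx => ?_, u⁻¹, inv_mem hu, fun x hx => ?_⟩
        · have := P.inv_mem (hb' _ (afun_mem b⁻¹ hx))
          rw [afun_apply_inv b hx] at this
          simpa using this
        · have hy : cj u⁻¹ x ∈ P := hnR u⁻¹ (Subgroup.mem_sup_left (inv_mem hu)) x hx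
          have h2 := hbe _ hy
          rw [cj_cj, mul_inv_cancel, cj_one] at h2
          conv_lhs => rw [← h2]
          exact afun_inv_apply b (Subgroup.mem_sup_left hy) }
  have hWp : IsPGroup p W := by
    rintro ⟨b, hb, hb', u, hu, hbe⟩
    obtain ⟨k, hk⟩ := (hS.to_le hPS) ⟨u, hu⟩
    have hk' : u ^ p ^ k = 1 := congrArg Subtype.val hk
    have hpow : ∀ n : ℕ, ∀ x ∈ P, afun (b ^ n) x = cj (u ^ n) x := by
      intro n
      induction n with
      | zero => intro x hx; rw [pow_zero, pow_zero, afun_one (Subgroup.mem_sup_left hx), cj_one]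
      | succ n ih =>
        intro x hx
        rw [pow_succ, pow_succ, afun_mul _ _ (Subgroup.mem_sup_left hx), hbe x hx,
          ih _ (hnR u (Subgroup.mem_sup_left hu) x hx), cj_cj]
    have hmem : ∀ n : ℕ, ∀ x ∈ R, x⁻¹ * afun (b ^ n) x ∈ P := by
      intro n
      induction n with
      | zero => intro x hx; rw [pow_zero, afun_one hx, inv_mul_cancel]; exact one_mem _
      | succ n ih =>
        intro x hx
        rw [pow_succ, afun_mul _ _ hx]
        have := P.mul_mem (hb' x hx) (ih _ (afun_mem b hx))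
        simpa [mul_assoc] using this
    obtain ⟨j, hj⟩ := pow_eq_one_of_stabilizes (hS.to_le hRS) (n := 2)
      (fun i => if i = 0 then ⊥ else if i = 1 then P else R) rfl rfl
      (fun i => by split_ifs <;> simp [hRdef]) (fun i hi => by interval_cases i <;> simp [hRdef])
      (α := b ^ p ^ k) (fun i hi y hy => by
        interval_cases i
        · simp only [zero_add, if_neg one_ne_zero, if_pos rfl] at hy
          simp [hpow _ y (by simpa using hy), hk', cj_one]
        · simp only [if_neg one_ne_zero, if_pos rfl]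
          simp only [show (1 + 1 = 0) = False by simp, show (1 + 1 = 1) = False by simp,
            if_false] at hy
          exact hmem _ y hy)
    exact ⟨k + j, Subtype.ext (by rw [pow_add, pow_mul]; exact hj)⟩
  have hWN : W ≤ NS.autGroup R := by
    rintro b ⟨hb, hb', u, hu, hbe⟩
    have hbP : ∀ x ∈ P, afun b x ∈ P := fun x hx =>
      hbe x hx ▸ hnR u (Subgroup.mem_sup_left hu) x hx
    have hm := ((mem_autGroup hRS).1 hb).restrict_to (le_sup_left : P ≤ R)
    exact mem_autGroup_of_mor ((mor_normalizerSystem_iff hNS).2 ⟨(mem_autGroup hRS).1 hb, hRN,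
      fun x hx => hRN (afun_mem b hx), afun b,
      ((mem_autGroup hRS).1 hb).restrict_to (sup_le le_rfl le_sup_left), fun _ _ => rfl,
      hm.im_self hbP⟩)
  have hWn : ∀ b ∈ NS.autGroup R, ∀ c ∈ W, b * c * b⁻¹ ∈ W := by
    rintro b hb c ⟨hc', hc2, u, hu, hce⟩
    obtain ⟨hbF, -, -, f', hf', hf'e, hf'P⟩ :=
      (mor_normalizerSystem_iff hNS).1 ((mem_autGroup hRN).1 hb)
    have hbP : ∀ x ∈ P, afun b x ∈ P := fun x hx => by
      rw [← hf'e x (Subgroup.mem_sup_left hx)]
      exact hf'P.le (apply_mem_im hx)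
    have hbiP : ∀ x ∈ P, afun b⁻¹ x ∈ P := fun x hx => by
      obtain ⟨y, hy, e⟩ := (hbF.restrict_to le_sup_left).mem_im.1
        (((hbF.restrict_to (le_sup_left : P ≤ R)).im_self hbP).ge hx)
      rw [← e, afun_inv_apply b (Subgroup.mem_sup_left hy)]
      exact hy
    refine ⟨mul_mem (mul_mem ((mem_autGroup hRS).2 hbF) hc') (inv_mem ((mem_autGroup hRS).2 hbF)),
      fun x hx => ?_, afun b u, hbP u hu, fun x hx => ?_⟩
    · rw [afun_mul _ _ hx, afun_mul _ _ (afun_mem b⁻¹ hx)]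
      have hy := afun_mem b⁻¹ hx
      have h1 := hbP _ (hc2 _ hy)
      rw [afun_map_mul b (R.inv_mem hy) (afun_mem c hy), hbF.map_inv hy, afun_apply_inv b hx] at h1
      exact h1
    · have hxR : x ∈ R := Subgroup.mem_sup_left hx
      rw [afun_mul _ _ hxR, afun_mul _ _ (afun_mem b⁻¹ hxR), hce _ (hbiP x hx),
        hbF.map_cj (Subgroup.mem_sup_left hu) (afun_mem b⁻¹ hxR), afun_apply_inv b hxR]
  have hWS := FusionCentralLift.le_autInducedBy_of_normal hRfa hWN hWp hWn
  -- conjugations by `X`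
  have hnX : ∀ t ∈ X, t ∈ normalizerIn S P := fun t ht =>
    ⟨hX.1 ht, mem_normalizer_of_cj_le hPS fun x hx => cj_mem_of_inf_le hM hX hPT hJ ht hx⟩
  have haJ : ∀ x ∈ T ⊓ X, afun a x ∈ T ⊓ X := fun x hx =>
    ⟨hPT (afun_mem a (hJ hx)),
      closed_apply' hX (sub_mor hI.1 ((mem_autGroup hPT).1 ha)) (hJ hx) hx.2⟩
  let V : Subgroup (MulAut P) :=
    { carrier := {d | d ∈ M.autGroup P ∧ (∀ x ∈ P, x⁻¹ * afun d x ∈ T ⊓ X) ∧
        ∀ x ∈ T ⊓ X, afun d x = x}
      one_mem' := ⟨one_mem _, fun x hx => by rw [afun_one hx, inv_mul_cancel]; exact one_mem _,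
        fun x hx => afun_one (hJ hx)⟩
      mul_mem' := by
        rintro b c ⟨hb, hb', hbJ⟩ ⟨hc, hc', hcJ⟩
        refine ⟨mul_mem hb hc, fun x hx => ?_, fun x hx => by
          rw [afun_mul _ _ (hJ hx), hcJ x hx, hbJ x hx]⟩
        rw [afun_mul _ _ hx]
        have := (T ⊓ X).mul_mem (hc' x hx) (hb' _ (afun_mem c hx))
        simpa [mul_assoc] using this
      inv_mem' := by
        rintro b ⟨hb, hb', hbJ⟩
        refine ⟨inv_mem hb, fun x hx => ?_, fun x hx => ?_⟩
        · have := (T ⊓ X).inv_mem (hb' _ (afun_mem b⁻¹ hx))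
          rw [afun_apply_inv b hx] at this
          simpa using this
        · conv_lhs => rw [← hbJ x hx]
          exact afun_inv_apply b (hJ hx) }
  have hVp : IsPGroup p V := by
    rintro ⟨b, hb, hb', hbJ⟩
    obtain ⟨j, hj⟩ := pow_eq_one_of_stabilizes (hS.to_le hPS) (n := 2)
      (fun i => if i = 0 then ⊥ else if i = 1 then T ⊓ X else P) rfl rfl
      (fun i => by split_ifs <;> simp [hJ]) (fun i hi => by interval_cases i <;> simp [hJ])
      (α := b) (fun i hi y hy => by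
        interval_cases i
        · simp only [zero_add, if_neg one_ne_zero, if_pos rfl] at hy
          simp [hbJ y hy]
        · simp only [if_neg one_ne_zero, if_pos rfl]
          simp only [show (1 + 1 = 0) = False by simp, show (1 + 1 = 1) = False by simp,
            if_false] at hy
          exact hb' y hy)
    exact ⟨j, Subtype.ext hj⟩
  have hVn : ∀ b ∈ M.autGroup P, ∀ c ∈ V, b * c * b⁻¹ ∈ V := by
    rintro b hb c ⟨hc', hc2, hcJ⟩
    have hbm := sub_mor hI.1 ((mem_autGroup hPT).1 hb)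
    have hbim := sub_mor hI.1 ((mem_autGroup hPT).1 (inv_mem hb))
    have hbJ : ∀ x ∈ T ⊓ X, afun b x ∈ T ⊓ X := fun x hx =>
      ⟨hPT (afun_mem b (hJ hx)), closed_apply' hX hbm (hJ hx) hx.2⟩
    have hbiJ : ∀ x ∈ T ⊓ X, afun b⁻¹ x ∈ T ⊓ X := fun x hx =>
      ⟨hPT (afun_mem _ (hJ hx)), closed_apply' hX hbim (hJ hx) hx.2⟩
    refine ⟨mul_mem (mul_mem hb hc') (inv_mem hb), fun x hx => ?_, fun x hx => ?_⟩
    · rw [afun_mul _ _ hx, afun_mul _ _ (afun_mem b⁻¹ hx)]
      have hy := afun_mem b⁻¹ hx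
      have h1 := hbJ _ (hc2 _ hy)
      rw [afun_map_mul b (P.inv_mem hy) (afun_mem c hy), hbm.map_inv hy, afun_apply_inv b hx] at h1
      exact h1
    · rw [afun_mul _ _ (hJ hx), afun_mul _ _ (afun_mem b⁻¹ (hJ hx)), hcJ _ (hbiJ x hx),
        afun_apply_inv b (hJ hx)]
  have key : ∀ t ∈ X, ∃ u ∈ P, ∀ x ∈ P, afun a (cj t x) = cj u (cj t (afun a x)) := by
    intro t ht
    have htP : ∀ x ∈ P, cj t x ∈ P := fun x hx => cj_mem_of_inf_le hM hX hPT hJ ht hx
    have htiP : ∀ x ∈ P, cj t⁻¹ x ∈ P := fun x hx =>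
      cj_mem_of_inf_le hM hX hPT hJ (X.inv_mem ht) hx
    set b := nHom S P ⟨t, hX.1 ht, (hnX t ht).2⟩ with hbdef
    have hb : b ∈ F.autGroup P := autInducedBy_le hPS ((autInducedBy_eq_range S P).ge ⟨_, rfl⟩)
    have hbe : ∀ x ∈ P, afun b x = cj t x := fun x hx => afun_nHom _ hx
    have hbie : ∀ x ∈ P, afun b⁻¹ x = cj t⁻¹ x := fun x hx => by
      have h2 := hbe _ (htiP x hx)
      rw [cj_cj, mul_inv_cancel, cj_one] at h2
      conv_lhs => rw [← h2]
      exact afun_inv_apply b (htiP x hx)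
    have hbma := (mem_autGroup hPS).1 hb
    have h1 := FusionWeaklyNormal88.aut_transport hI hPT hbma (im_afun b) (inv_mem ha)
    have e : hbma.transport (im_afun b) a⁻¹ = b * a⁻¹ * b⁻¹ := afun_ext fun x hx => by
      have h2 := hbma.afun_transport (im_afun b) a⁻¹ (afun_mem b⁻¹ hx)
      rw [afun_apply_inv b hx] at h2
      rw [h2, afun_mul _ _ hx, afun_mul _ _ (afun_mem b⁻¹ hx)]
    have hδM : a * (b * a⁻¹ * b⁻¹) ∈ M.autGroup P := mul_mem ha (e ▸ h1)
    have hmodt : ∀ x ∈ P, x⁻¹ * cj t x ∈ T ⊓ X := fun x hx =>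
      ⟨T.mul_mem (T.inv_mem (hPT hx)) (hPT (htP x hx)), by
        have h3 : cj x⁻¹ t ∈ X := cj_mem_of_stronglyClosed hX (S.inv_mem (hPS hx)) ht
        have := X.mul_mem h3 (X.inv_mem ht)
        simpa [cj_apply, mul_assoc] using this⟩
    have hδV : a * (b * a⁻¹ * b⁻¹) ∈ V := by
      refine ⟨hδM, fun x hx => ?_, fun x hx => ?_⟩
      · have hy := htiP x hx
        have hz := afun_mem a⁻¹ hy
        rw [afun_mul _ _ hx, afun_mul _ _ hx, afun_mul _ _ (afun_mem b⁻¹ hx), hbie x hx, hbe _ hz]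
        -- `t` moves inside `T ⊓ X`
        have h3 := haJ _ (hmodt _ hz)
        rw [afun_map_mul a (P.inv_mem hz) (htP _ hz),
          (sub_mor hI.1 ((mem_autGroup hPT).1 ha)).map_inv hz, afun_apply_inv a hy] at h3
        have := (T ⊓ X).mul_mem (hmodt x hx |> fun _ => (by
          have h4 := hmodt _ hy
          rw [cj_cj, mul_inv_cancel, cj_one] at h4
          simpa using (T ⊓ X).inv_mem h4 : x⁻¹ * cj t⁻¹ x ∈ T ⊓ X)) h3
        simpa [mul_assoc] using this
      · have hxP := hJ hx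
        have hy : cj t⁻¹ x ∈ T ⊓ X := ⟨hPT (htiP x hxP), cj_mem_of_stronglyClosed hX
          (S.inv_mem (hX.1 ht)) hx.2⟩
        have hai : afun a⁻¹ (cj t⁻¹ x) ∈ T ⊓ X := ⟨hPT (afun_mem _ (hJ hy)),
          closed_apply' hX (sub_mor hI.1 ((mem_autGroup hPT).1 (inv_mem ha))) (hJ hy) hy.2⟩
        rw [afun_mul _ _ hxP, afun_mul _ _ hxP, afun_mul _ _ (afun_mem b⁻¹ hxP), hbie x hxP,
          hbe _ (hJ hai), ← hcomm t ht _ hai, afun_apply_inv a (hJ hy), cj_cj, mul_inv_cancel,
          cj_one]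
    obtain ⟨u, hu, -, hue⟩ := mem_autInducedBy.1 (hr V (fun d hd => hd.1) hVp hVn hδV)
    refine ⟨u, hu, fun x hx => ?_⟩
    rw [← hue _ (htP _ (afun_mem a hx)), ← hbe x hx, ← hbe _ (afun_mem a hx)]
    have e2 : a * b = a * (b * a⁻¹ * b⁻¹) * (b * a) := by group
    rw [← afun_mul _ _ hx, ← afun_mul _ _ hx, ← afun_mul _ _ hx, e2]
  -- extension
  have hind : ∀ t ∈ X, ∃ s ∈ S, ∀ x ∈ R, g (cj t x) = cj s (g x) := by
    intro t ht
    have htn := hnX t ht
    have htR : t ∈ Subgroup.normalizer (R : Set Ω) :=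
      mem_normalizer_of_cj_le hRS (hRn t htn)
    set τ := nHom S R ⟨t, hX.1 ht, htR⟩ with hτdef
    have hτ : τ ∈ F.autGroup R := autInducedBy_le hRS ((autInducedBy_eq_range S R).ge ⟨_, rfl⟩)
    have hτe : ∀ x ∈ R, afun τ x = cj t x := fun x hx => afun_nHom _ hx
    obtain ⟨u, hu, hue⟩ := key t ht
    set ε := gA * τ * gA⁻¹ * τ⁻¹ with hεdef
    have hεW : ε ∈ W := by
      refine ⟨mul_mem (mul_mem (mul_mem hgA hτ) (inv_mem hgA)) (inv_mem hτ), fun x hx => ?_,
        u, hu, fun x hx => ?_⟩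
      · -- trivial modulo `P`
        have hy := afun_mem τ⁻¹ hx
        have hz := afun_mem gA⁻¹ hy
        have h1 : (afun gA⁻¹ (afun τ⁻¹ x))⁻¹ * afun τ⁻¹ x ∈ P := by
          have := hgmod _ hz
          rwa [← hgAe _ hz, afun_apply_inv gA hy] at this
        have hw : afun τ (afun gA⁻¹ (afun τ⁻¹ x)) ∈ R := afun_mem τ hz
        have h2 : (afun τ (afun gA⁻¹ (afun τ⁻¹ x)))⁻¹ * x ∈ P := by
          have h2 := cj_mem_of_normalizer htn.2 h1
          rw [← hτe _ (R.mul_mem (R.inv_mem hz) hy), afun_map_mul τ (R.inv_mem hz) hy,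
            ((mem_autGroup hRS).1 hτ).map_inv hz, afun_apply_inv τ hx] at h2
          exact h2
        have h3 : (afun τ (afun gA⁻¹ (afun τ⁻¹ x)))⁻¹ *
            afun gA (afun τ (afun gA⁻¹ (afun τ⁻¹ x))) ∈ P := by
          rw [hgAe _ hw]; exact hgmod _ hw
        rw [hεdef, afun_mul _ _ hx, afun_mul _ _ hy, afun_mul _ _ hz]
        have := P.mul_mem (P.inv_mem h2) h3
        simpa [mul_assoc] using this
      · have hxR : x ∈ R := Subgroup.mem_sup_left hx
        have htiP : cj t⁻¹ x ∈ P := cj_mem_of_inf_le hM hX hPT hJ (X.inv_mem ht) hx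
        have e1 : afun τ⁻¹ x = cj t⁻¹ x := by
          have h2 := hτe _ (Subgroup.mem_sup_left htiP : cj t⁻¹ x ∈ R)
          rw [cj_cj, mul_inv_cancel, cj_one] at h2
          conv_lhs => rw [← h2]
          exact afun_inv_apply τ (Subgroup.mem_sup_left htiP)
        set w := afun a⁻¹ (cj t⁻¹ x) with hwdef
        have hw : w ∈ P := afun_mem _ htiP
        have e2 : afun gA⁻¹ (cj t⁻¹ x) = w := by
          have h2 : afun gA w = cj t⁻¹ x := by
            rw [hgAe _ (Subgroup.mem_sup_left hw), hge w hw, hwdef, afun_apply_inv a htiP]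
          conv_lhs => rw [← h2]
          exact afun_inv_apply gA (Subgroup.mem_sup_left hw)
        have hcw : cj t w ∈ P := cj_mem_of_inf_le hM hX hPT hJ ht hw
        rw [hεdef, afun_mul _ _ hxR, afun_mul _ _ (afun_mem τ⁻¹ hxR), e1,
          afun_mul _ _ (afun_mem gA⁻¹ (Subgroup.mem_sup_left htiP)), e2,
          hτe w (Subgroup.mem_sup_left hw), hgAe _ (Subgroup.mem_sup_left hcw), hge _ hcw,
          hue w hw, hwdef, afun_apply_inv a htiP, cj_cj t, mul_inv_cancel, cj_one]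
    obtain ⟨s, hs, -, hse⟩ := mem_autInducedBy.1 (hWS hεW)
    refine ⟨s * t, S.mul_mem hs.1 (hX.1 ht), fun x hx => ?_⟩
    have e3 : gA * τ = ε * (τ * gA) := by rw [hεdef]; group
    rw [← hgAe _ (hRn t htn x hx), ← hτe x hx, ← afun_mul _ _ hx, e3, afun_mul _ _ hx,
      afun_mul _ _ hx, hτe _ (afun_mem gA hx), hse _ (hRn t htn _ (afun_mem gA hx)), cj_cj,
      hgAe x hx]
  have hXn : R ≤ Subgroup.normalizer (X : Set Ω) :=
    hRS.trans (le_normalizer_of_stronglyClosed hX)
  obtain ⟨G, hG, hGe⟩ := (receptive_iff.1 hrec).2 R g (R ⊔ X) hg (hg.im_self hgR)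
    (sup_le hRS hX.1)
    (sup_le Subgroup.le_normalizer fun t ht =>
      mem_normalizer_of_cj_le hRS (hRn t (hnX t ht)))
    (fun m hm => by
      have : m ∈ ((R ⊔ X : Subgroup Ω) : Set Ω) := hm
      rw [Subgroup.coe_mul_of_left_le_normalizer_right R X hXn] at this
      obtain ⟨r, hr', t, ht, rfl⟩ := this
      obtain ⟨s, hs, hse⟩ := hind t ht
      refine ⟨g r * s, S.mul_mem (hg.apply_mem hr') hs, fun x hx => ?_⟩
      show g (cj (r * t) x) = _
      rw [← cj_cj, hg.map_cj hr' (hRn t (hnX t ht) x hx), hse x hx, cj_cj])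
  have hYle : P ⊔ X ≤ R ⊔ (R ⊔ X) :=
    sup_le (le_sup_left.trans le_sup_left) (le_sup_right.trans le_sup_right)
  have hGY := hG.restrict_to hYle
  have hGP : ∀ x ∈ P, G x = afun a x := fun x hx => by
    rw [hGe x (Subgroup.mem_sup_left hx), hge x hx]
  have hGX : ∀ x ∈ X, G x ∈ X := fun x hx => closed_apply' hX hGY (Subgroup.mem_sup_right hx) hx
  haveI := finite_of_le hGY.le
  obtain ⟨β₀, hβ₀, hβ₀e⟩ := hGY.exists_aut (hGY.im_self fun x hx => mor_sup_induction hGY
    (fun y hy => Subgroup.mem_sup_left ((hGP y hy).symm ▸ afun_mem a hy))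
    (fun y hy => Subgroup.mem_sup_right (hGX y hy)) hx)
  have hβP : ∀ x ∈ P, afun β₀ x = afun a x := fun x hx => by
    rw [hβ₀e x (Subgroup.mem_sup_left hx), hGP x hx]
  -- the motion of an element of `X`
  have hd : ∀ t ∈ X, t⁻¹ * afun β₀ t ∈ R ∧ t⁻¹ * afun β₀ t ∈ X := by
    intro t ht
    have hdX : t⁻¹ * afun β₀ t ∈ X :=
      X.mul_mem (X.inv_mem ht) (by rw [hβ₀e t (Subgroup.mem_sup_right ht)]; exact hGX t ht)
    refine ⟨?_, hdX⟩
    obtain ⟨u, hu, hue⟩ := key t ht
    set d := t⁻¹ * afun β₀ t with hddef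
    have hu' : cj t⁻¹ u ∈ P := cj_mem_of_inf_le hM hX hPT hJ (X.inv_mem ht) hu
    have hw : (cj t⁻¹ u)⁻¹ * d ∈ C := mem_centralizerIn.2
      ⟨S.mul_mem (S.inv_mem (hPS hu')) (hX.1 hdX), fun x hx => by
        have hz : afun a⁻¹ x ∈ P := afun_mem _ hx
        have h1 : cj (afun β₀ t) x = cj u (cj t x) := by
          have h2 := hue _ hz
          rw [afun_apply_inv a hx] at h2
          rw [← h2, hβ₀e t (Subgroup.mem_sup_right ht)]
          conv_lhs => rw [← afun_apply_inv a hx, ← hGP _ hz]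
          rw [← hGY.map_cj (Subgroup.mem_sup_right ht) (Subgroup.mem_sup_left hz),
            hGP _ (cj_mem_of_inf_le hM hX hPT hJ ht hz)]
        have e : afun β₀ t = t * d := (mul_inv_cancel_left _ _).symm
        rw [e, ← cj_cj t d] at h1
        have h3 := congrArg (cj t⁻¹) h1
        rw [cj_inv_cj] at h3
        rw [← cj_cj, h3]
        simp only [cj_apply]
        group⟩
    have := Subgroup.mul_mem _ (Subgroup.mem_sup_left (T := C) hu')
      (Subgroup.mem_sup_right (S := P) hw)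
    rwa [mul_inv_cancel_left] at this
  obtain ⟨k, hkco, hkpow⟩ := FusionGoodLift.exists_pow_coprime (p := p) β₀
  have hak : a ^ k = a := hkpow a (afun_ext fun x hx => by
    rw [← FusionCentralizerSub.pow_restrict le_sup_left hβP _ x hx, pow_orderOf_eq_one,
      afun_one (Subgroup.mem_sup_left hx), afun_one hx]) hco
  refine ⟨β₀ ^ k, pow_mem hβ₀ k, hkco, fun x hx => by
    rw [FusionCentralizerSub.pow_restrict le_sup_left hβP _ x hx, hak], fun t ht => ?_⟩
  have hkm := (mem_autGroup hGY.le).1 (pow_mem hβ₀ k)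
  have htX : afun (β₀ ^ k) t ∈ X := closed_apply' hX hkm (Subgroup.mem_sup_right ht) ht
  refine ⟨htX, ?_⟩
  obtain ⟨hdR, hdX⟩ := hd t ht
  set d := t⁻¹ * afun β₀ t with hddef
  have htd : afun β₀ t = t * d := (mul_inv_cancel_left _ _).symm
  have htY : t ∈ P ⊔ X := Subgroup.mem_sup_right ht
  have hdY : d ∈ P ⊔ X := Subgroup.mem_sup_right hdX
  -- `β₀` fixes `d` modulo `P`
  have hdfix : ∀ n : ℕ, d⁻¹ * afun (β₀ ^ n) d ∈ P := by
    intro n
    induction n with
    | zero => rw [pow_zero, afun_one hdY, inv_mul_cancel]; exact one_mem _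
    | succ n ih =>
      rw [pow_succ', afun_mul _ _ hdY,
        show afun (β₀ ^ n) d = d * (d⁻¹ * afun (β₀ ^ n) d) by rw [mul_inv_cancel_left],
        afun_map_mul β₀ hdY (Subgroup.mem_sup_left ih), ← mul_assoc]
      refine mul_mem ?_ (by rw [hβP _ ih]; exact afun_mem a ih)
      rw [hβ₀e d hdY, hGe d hdR]
      exact hgmod d hdR
  have hiter : ∀ n : ℕ, (d ^ n)⁻¹ * (t⁻¹ * afun (β₀ ^ n) t) ∈ P := by
    intro n
    induction n with
    | zero => rw [pow_zero, pow_zero, afun_one htY, inv_mul_cancel, inv_one, one_mul]; exact one_mem _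
    | succ n ih =>
      rw [pow_succ β₀, afun_mul _ _ htY, htd, afun_map_mul _ htY hdY]
      have := P.mul_mem (hnR d⁻¹ (R.inv_mem hdR) _ ih) (hdfix n)
      simpa [pow_succ, cj_apply, mul_assoc] using this
  have hone : d ^ (k * orderOf (β₀ ^ k)) ∈ P := by
    have := hiter (k * orderOf (β₀ ^ k))
    rw [pow_mul β₀, pow_orderOf_eq_one, afun_one htY, inv_mul_cancel, mul_one] at this
    simpa using P.inv_mem this
  obtain ⟨m, hm⟩ := hS ⟨d, hX.1 hdX⟩
  have hm' : d ^ p ^ m = 1 := congrArg Subtype.val hm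
  have hdk : d ^ k ∈ P := by
    refine FusionWeaklyNormal88.mem_of_coprime_pow (m := orderOf (β₀ ^ k)) (n := p ^ m)
      (hkco.pow_right m) ?_ ?_
    · rwa [← pow_mul]
    · rw [← pow_mul, mul_comm, pow_mul, hm', one_pow]
      exact one_mem _
  have h5 : t⁻¹ * afun (β₀ ^ k) t ∈ P := by
    have := P.mul_mem hdk (hiter k)
    rwa [mul_inv_cancel_left] at this
  exact ⟨hPT h5, X.mul_mem (X.inv_mem ht) htX⟩

/-- The extension over `X`. -/
theorem exists_ext {P : Subgroup Ω} (hc : M.IsCentric P) (hr : Rad M p P) (hJ : T ⊓ X ≤ P)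
    {a : MulAut P} (ha : a ∈ M.autGroup P) (hco : (orderOf a).Coprime p)
    (hcomm : ∀ t ∈ X, ∀ x ∈ T ⊓ X, cj t (afun a x) = afun a (cj t x)) :
    ∃ β ∈ F.autGroup (P ⊔ X), (orderOf β).Coprime p ∧ (∀ x ∈ P, afun β x = afun a x) ∧
      ∀ x ∈ X, afun β x ∈ X ∧ x⁻¹ * afun β x ∈ T ⊓ X := by
  have hI := hM.1.2.2
  have hT : F.StronglyClosed T := hI.2.1
  have hPT : P ≤ T := hc.1
  have hPS : P ≤ S := hPT.trans hT.1
  obtain ⟨P', hPP', hP'⟩ := exists_fullyNormalized (F := F) hPS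
  obtain ⟨θ, hθ, -, hθP⟩ := exists_map_to_fullyNormalized hS hF hP' hPP'
  have hYN : P ⊔ X ≤ normalizerIn S P := sup_le (le_normalizerIn hPS) fun t ht =>
    ⟨hX.1 ht, mem_normalizer_of_cj_le hPS fun x hx => cj_mem_of_inf_le hM hX hPT hJ ht hx⟩
  have hθY := hθ.restrict_to hYN
  have hθr : Mor F P θ := hθ.restrict_to (le_normalizerIn hPS)
  haveI := finite_of_le hX.1
  have hθX : im X θ = X := (hθY.restrict_to le_sup_right).im_self fun x hx =>
    closed_apply' hX hθY (Subgroup.mem_sup_right hx) hx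
  have hθT : ∀ x ∈ P, θ x ∈ T := fun x hx => closed_apply' hT hθr hx (hPT hx)
  have hP'T : P' ≤ T := hθP ▸ im_le_iff.2 hθT
  obtain ⟨θi, hθi, hθiθ, hθθi, hθiY⟩ := hθY.exists_inv
  have hY' : im (P ⊔ X) θ = P' ⊔ X := by
    rw [im_sup hθY, hθP, hθX]
  rw [hY'] at hθi hθθi hθiY
  have hc' : M.IsCentric P' := hθP ▸ FusionWeaklyNormal88.centric_image hI hc hθr
  have hθir : Mor F P' θi := hθi.restrict_to le_sup_left
  have hθiP : im P' θi = P := by
    rw [← hθP, hθr.im_comp]
    exact (im_congr fun x hx => hθiθ x (Subgroup.mem_sup_left hx)).trans (im_id P)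
  have hr' : Rad M p P' := by
    intro O hO hOp hOn o ho
    set e := hθr.transport hθP with he
    let O₀ : Subgroup (MulAut P) := O.comap e.toMonoidHom
    have hback : ∀ b : MulAut P, e b ∈ M.autGroup P' → b ∈ M.autGroup P := fun b hb => by
      have h1 := FusionWeaklyNormal88.aut_transport hI hP'T hθir hθiP hb
      have e1 : hθir.transport hθiP (e b) = b := afun_ext fun x hx => by
        have hx' : θ x ∈ P' := hθP ▸ apply_mem_im hx
        have h2 := hθir.afun_transport hθiP (e b) hx'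
        rw [hθiθ x (Subgroup.mem_sup_left hx), he, hθr.afun_transport hθP b hx,
          hθiθ _ (Subgroup.mem_sup_left (afun_mem b hx))] at h2
        exact h2
      exact e1 ▸ h1
    have h0 : O₀ ≤ autInducedBy P P := hr O₀ (fun b hb => hback b (hO hb))
      (hOp.comap_of_injective e.toMonoidHom e.injective) fun b hb c hc => by
        show e (b * c * b⁻¹) ∈ O
        rw [map_mul, map_mul, map_inv]
        exact hOn _ (FusionWeaklyNormal88.aut_transport hI hPT hθr hθP hb) _ hc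
    obtain ⟨o₀, rfl⟩ := e.surjective o
    obtain ⟨u, hu, -, hue⟩ := mem_autInducedBy.1 (h0 (show o₀ ∈ O₀ from ho))
    refine mem_autInducedBy.2 ⟨θ u, hθP ▸ apply_mem_im hu,
      Subgroup.le_normalizer (hθP ▸ apply_mem_im hu), fun y hy => ?_⟩
    obtain ⟨x, hx, rfl⟩ := hθr.mem_im.1 (hθP.ge hy)
    rw [he, hθr.afun_transport hθP o₀ hx, hue x hx, hθr.map_cj hu hx]
  have hXback : ∀ x ∈ X, θi x ∈ X := fun x hx =>
    closed_apply' hX hθi (Subgroup.mem_sup_right hx) hx
  have hJ' : T ⊓ X ≤ P' := fun x hx => by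
    have h1 : θi x ∈ T ⊓ X := ⟨closed_apply' hT hθi (Subgroup.mem_sup_right hx.2) hx.1,
      hXback x hx.2⟩
    rw [← hθθi x (Subgroup.mem_sup_right hx.2), ← hθP]
    exact apply_mem_im (hJ h1)
  set a' := hθr.transport hθP a with ha'def
  have ha'M : a' ∈ M.autGroup P' := FusionWeaklyNormal88.aut_transport hI hPT hθr hθP ha
  have hcomm' : ∀ t ∈ X, ∀ x ∈ T ⊓ X, cj t (afun a' x) = afun a' (cj t x) := by
    intro t ht x hx
    have hx0 : θi x ∈ T ⊓ X := ⟨closed_apply' hT hθi (Subgroup.mem_sup_right hx.2) hx.1,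
      hXback x hx.2⟩
    have ht0 := hXback t ht
    obtain ⟨x₀, hx₀, rfl⟩ : ∃ x₀ ∈ T ⊓ X, θ x₀ = x :=
      ⟨θi x, hx0, hθθi x (Subgroup.mem_sup_right hx.2)⟩
    obtain ⟨t₀, ht₀, rfl⟩ : ∃ t₀ ∈ X, θ t₀ = t :=
      ⟨θi t, ht0, hθθi t (Subgroup.mem_sup_right ht)⟩
    have hxP := hJ hx₀
    rw [ha'def, hθr.afun_transport hθP a hxP,
      ← hθY.map_cj (Subgroup.mem_sup_right ht₀) (Subgroup.mem_sup_left (afun_mem a hxP)),
      ← hθY.map_cj (Subgroup.mem_sup_right ht₀) (Subgroup.mem_sup_left hxP),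
      hθr.afun_transport hθP a (cj_mem_of_inf_le hM hX hPT hJ ht₀ hxP), hcomm t₀ ht₀ x₀ hx₀]
  obtain ⟨β', hβ', hβ'co, hβ'P, hβ'X⟩ := exists_ext_fn hS hF hM hX hP' hc' hr' hJ' ha'M
    (by rwa [ha'def, MulEquiv.orderOf_eq]) hcomm'
  have hiY : im (P' ⊔ X) θi = P ⊔ X := by
    rw [← hY', hθY.im_comp]
    exact (im_congr fun x hx => hθiθ x hx).trans (im_id _)
  refine ⟨hθi.transport hiY β', hθi.transport_mem hiY hβ', by rwa [MulEquiv.orderOf_eq],
    fun x hx => ?_, fun x hx => ?_⟩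
  · have hx' : θ x ∈ P' := hθP ▸ apply_mem_im hx
    have h1 := hθi.afun_transport hiY β' (Subgroup.mem_sup_left hx')
    rw [hθiθ x (Subgroup.mem_sup_left hx), hβ'P _ hx', ha'def, hθr.afun_transport hθP a hx,
      hθiθ _ (Subgroup.mem_sup_left (afun_mem a hx))] at h1
    exact h1
  · have hx' : θ x ∈ X := hθX.le (apply_mem_im hx)
    have hxY : θ x ∈ P' ⊔ X := Subgroup.mem_sup_right hx'
    obtain ⟨h2, h3⟩ := hβ'X _ hx'
    have h1 := hθi.afun_transport hiY β' hxY
    rw [hθiθ x (Subgroup.mem_sup_right hx)] at h1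
    rw [h1]
    have h4 : afun β' (θ x) ∈ P' ⊔ X := afun_mem _ hxY
    refine ⟨hXback _ h2, ?_⟩
    have h5 : x⁻¹ * θi (afun β' (θ x)) = θi ((θ x)⁻¹ * afun β' (θ x)) := by
      rw [hθi.map_mul (inv_mem hxY) h4, hθi.map_inv hxY, hθiθ x (Subgroup.mem_sup_right hx)]
    rw [h5]
    exact ⟨closed_apply' hT hθi (Subgroup.mem_sup_right h3.2) h3.1, hXback _ h3.2⟩

end Cfsg.Agent.FusionCommute
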