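import Cfsg.Agent.Lib.FusionLayer
import Cfsg.Agent.Lib.FusionResidualNormal88

/-!
In a quasisimple system a normal subsystem over a proper subgroup is central
(`quasisimple_proper`).
-/

set_option autoImplicit false

namespace Cfsg.Agent.FusionQuotientNormal

open Cfsg Cfsg.FusionSystem Cfsg.Agent.FusionSysBasic Cfsg.Agent.FusionSysSaturated
open Cfsg.Agent.FusionSysNormal Cfsg.Agent.FusionKit88 Cfsg.Agent.FusionMorph88

variable {Ω Ω' : Type*} [Group Ω] [Group Ω'] {S Z T : Subgroup Ω} {S' : Subgroup Ω'}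
  {F : FusionSystem S} {E : FusionSystem S'} {θ : S →* Ω'} {N : FusionSystem T} {p : ℕ}
  [Finite S] [Fact p.Prime]

/-- The image of a normal subsystem modulo a central subgroup has a normal subsystem over the
same group. -/
theorem exists_image (hS : IsPGroup p S) (hF : F.IsSaturated p) (hZ : F.IsCentral Z)
    (hfac : F.IsFactorSystem Z θ E) (hN : N.IsNormalIn F p) :
    ∃ N' : FusionSystem (imageAlong θ T), N'.IsNormalIn E p := by
  have hI := hN.1.2.2
  have hTcl : F.StronglyClosed T := hI.2.1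
  have hTS : T ≤ S := hTcl.1
  haveI := finite_of_le hTS
  have hfixZ : ∀ {P : Subgroup Ω} {f : Ω → Ω}, Mor F P f → ∀ z ∈ P, z ∈ Z → f z = z := by
    intro P f hf z hz hzZ
    obtain ⟨ψ, -, he, hψ⟩ := (isCentral_iff.1 hZ).2 P f hf
    rw [← he z hz, hψ z hzZ]
  have hZcl : F.StronglyClosed Z := stronglyClosed_iff.2 ⟨hfac.1, fun P f hP hf x hx => by
    rw [hfixZ hf x hx (hP hx)]; exact hP hx⟩
  have hsurj := S5134.result p hS F hF Z hZcl θ E hfac
  have hEs := saturated_of_surjective hS hF hsurj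
  have hrange : θ.range = S' := hfac.2.2.1
  haveI : Finite S' := hrange ▸ Finite.of_surjective θ.rangeRestrict θ.rangeRestrict_surjective
  have hS'p : IsPGroup p S' :=
    hrange ▸ hS.of_surjective θ.rangeRestrict θ.rangeRestrict_surjective
  set α : T →* Ω' := θ.comp (Subgroup.inclusion hTS) with hα
  have happ : ∀ x ∈ T, app α x = app θ x := fun x hx => by
    rw [app_apply α hx, app_apply θ (hTS hx)]; rfl
  set T' := imageAlong θ T with hT'
  have hT'S : T' ≤ S' := hrange ▸ imageAlong_le_range T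
  have hαrange : α.range = T' := by
    ext y
    rw [hT', mem_imageAlong]
    constructor
    · rintro ⟨x, rfl⟩
      exact ⟨x, x.2, hTS x.2, by rw [← happ x x.2, app_apply α x.2]⟩
    · rintro ⟨x, hx, -, rfl⟩
      exact ⟨⟨x, hx⟩, by rw [← happ x hx, app_apply α hx]⟩
  have hmem : ∀ {P' : Subgroup Ω'} {x : Ω},
      x ∈ preimageAlong α P' ↔ x ∈ T ∧ x ∈ preimageAlong θ P' := by
    intro P' x
    rw [mem_preimageAlong, mem_preimageAlong]
    exact ⟨fun h => ⟨h.1, hTS h.1, happ x h.1 ▸ h.2⟩,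
      fun h => ⟨h.1, (happ x h.1).symm ▸ h.2.2⟩⟩
  set J := Z ⊓ T with hJ
  have hJc : N.IsCentral J := isCentral_of_fixed (p := p) (hS.to_le hTS) hN.1.1 inf_le_right
    fun x hx y hy => by
      obtain ⟨f, hf, rfl⟩ := isConjElt_iff.1 hy
      exact hfixZ (sub_mor hI.1 hf) x (Subgroup.mem_zpowers x) hx.1
  have hker : ∀ x ∈ T, app α x = 1 ↔ x ∈ J := fun x hx => by
    rw [happ x hx, app_apply θ (hTS hx)]
    exact ⟨fun e => ⟨(hfac.2.1 _).1 e, hx⟩, fun h => (hfac.2.1 _).2 h.1⟩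
  let Φ : Subgroup Ω' → (Ω' → Ω') → Prop := fun P' f' =>
    ∃ f, Mor N (preimageAlong α P') f ∧ ∀ x ∈ preimageAlong α P', f' (app α x) = app α (f x)
  have hsrc : ∀ {P' : Subgroup Ω'}, P' ≤ T' →
      ∀ y ∈ P', ∃ x ∈ preimageAlong α P', app α x = y := fun {P'} hP y hy => by
    obtain ⟨x, hx, -, e⟩ :=
      mem_imageAlong.1 ((imageAlong_preimageAlong (hαrange ▸ hP)).ge hy)
    exact ⟨x, hx, e⟩
  have hJP : ∀ (P' : Subgroup Ω'), J ≤ preimageAlong α P' := fun P' x hx =>
    mem_preimageAlong.2 ⟨hx.2, by rw [(hker x hx.2).2 hx]; exact one_mem _⟩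
  have hmorE : ∀ {P' : Subgroup Ω'} {f' : Ω' → Ω'}, P' ≤ T' → Φ P' f' → Mor E P' f' := by
    rintro P' f' hP' ⟨f, hf, he⟩
    obtain ⟨ψ, hψ, hψe, -⟩ := (isCentral_iff.1 hZ).2 _ f (sub_mor hI.1 hf)
    obtain ⟨g, hg, hge⟩ := morphism_mor hsurj.1 hψ
    have hle : P' ≤ imageAlong θ (preimageAlong α P' ⊔ Z) := fun y hy => by
      obtain ⟨x, hx, rfl⟩ := hsrc hP' y hy
      rw [happ x (hmem.1 hx).1]
      exact app_mem_imageAlong (Subgroup.mem_sup_left hx) hψ.le
    refine (hg.restrict_to hle).congr fun y hy => ?_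
    obtain ⟨x, hx, rfl⟩ := hsrc hP' y hy
    rw [he x hx, happ x (hmem.1 hx).1, hge x (Subgroup.mem_sup_left hx), hψe x hx,
      happ _ (hf.apply_mem hx)]
  have hc : FusionInduct88.Closed E (U := T') Φ :=
    { congr := fun {P' f' g'} hΦ he => by
        obtain ⟨f, hf, hfe⟩ := hΦ
        exact ⟨f, hf, fun x hx => (he _ (mem_preimageAlong.1 hx).2).symm.trans (hfe x hx)⟩
      conj := fun {P' u} hP' hu => by
        rw [← hαrange] at hu
        obtain ⟨⟨t, ht⟩, rfl⟩ := hu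
        refine ⟨cj t, mor_cj (preimageAlong_le α P') ht, fun x hx => ?_⟩
        rw [app_cj ht (preimageAlong_le α P' hx), app_apply α ht]
      comp := fun {P R f f'} hf hf' hP hR hfR h₁ h₂ => by
        obtain ⟨a, ha, hae⟩ := h₁
        obtain ⟨b, hb, hbe⟩ := h₂
        have hm : ∀ w ∈ preimageAlong α P, a w ∈ preimageAlong α R := fun w hw =>
          mem_preimageAlong.2 ⟨ha.apply_mem hw, hae w hw ▸ hfR _ (mem_preimageAlong.1 hw).2⟩
        refine ⟨b ∘ a, ha.comp hb hm, fun w hw => ?_⟩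
        simp only [Function.comp_apply]
        rw [hae w hw, hbe _ (hm w hw)]
      inv := fun {P f f'} hf hf' hP hff' h₁ => by
        obtain ⟨a, ha, hae⟩ := h₁
        obtain ⟨j, hj, hja, -, -⟩ := ha.exists_inv
        have key : ∀ y ∈ preimageAlong α (im P f), ∃ w ∈ preimageAlong α P, a w = y := by
          intro y hy
          obtain ⟨hym, hyP⟩ := mem_preimageAlong.1 hy
          obtain ⟨x, hx, hxe⟩ := hf.mem_im.1 hyP
          obtain ⟨w, hw, rfl⟩ := hsrc hP x hx
          have hz : (a w)⁻¹ * y ∈ J := (hker _ (mul_mem (inv_mem (ha.apply_mem hw)) hym)).1 (by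
            rw [app_mul (inv_mem (ha.apply_mem hw)) hym, app_inv (ha.apply_mem hw), ← hae w hw,
              hxe, inv_mul_cancel])
          refine ⟨w * ((a w)⁻¹ * y), mul_mem hw (hJP P hz), ?_⟩
          rw [ha.map_mul hw (hJP P hz), hfixZ (sub_mor hI.1 ha) _ (hJP P hz) hz.1,
            mul_inv_cancel_left]
        refine ⟨j, hj.restrict_to fun y hy => ?_, fun y hy => ?_⟩
        · obtain ⟨w, hw, rfl⟩ := key y hy
          exact apply_mem_im hw
        · obtain ⟨w, hw, rfl⟩ := key y hy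
          rw [hja w hw, ← hae w hw, hff' _ (mem_preimageAlong.1 hw).2] }
  let N₀ := FusionInduct88.subSystem (F := E) hT'S hc
  have hfacN : N.IsFactorSystem J α N₀ := by
    refine ⟨inf_le_right, fun s => ?_, hαrange, fun P' φ' => ?_⟩
    · rw [← app_apply α s.2]; exact hker s s.2
    constructor
    · rintro ⟨-, hP', -, f, hf, he⟩
      obtain ⟨φ, hφ, heφ⟩ := hf
      exact ⟨hP', φ, hφ, (inducedAlong_iff (preimageAlong_le α P') (N.le_of_mem hφ).2 heφ
        (fun y => (toFun_coe φ' y).symm)).2 fun w hw => ⟨(mem_preimageAlong.1 hw).2, he w hw⟩⟩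
    · rintro ⟨hP', φ, hφ, hi⟩
      have he := (inducedAlong_iff (preimageAlong_le α P') (N.le_of_mem hφ).2
        (fun x => (toFun_coe φ x).symm) (fun y => (toFun_coe φ' y).symm)).1 hi
      have hΦ : Φ P' (toFun φ') := ⟨toFun φ, mor_toFun hφ, fun w hw => (he w hw).2⟩
      refine ⟨(mor_iff_hom (F := E) fun x => (toFun_coe φ' x).symm).1 (hmorE hP' hΦ), hP',
        fun y => ?_, hΦ⟩
      obtain ⟨w, hw, e⟩ := hsrc hP' y y.2
      rw [← toFun_coe φ' y, ← e, (he w hw).2, app_apply α ((mor_toFun hφ).apply_mem hw), ← hαrange]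
      exact ⟨_, rfl⟩
  have hJcl : N.StronglyClosed J := stronglyClosed_iff.2 ⟨inf_le_right, fun P f hP hf x hx => by
    rw [hfixZ (sub_mor hI.1 hf) x hx (hP hx).1]; exact hP hx⟩
  have hsN := S5134.result p (hS.to_le hTS) N hN.1.1 J hJcl α N₀ hfacN
  have hN₀s := saturated_of_surjective (hS.to_le hTS) hN.1.1 hsN
  have himT : imageAlong α T = T' := le_antisymm (hαrange ▸ imageAlong_le_range T) fun y hy => by
    obtain ⟨x, hx, rfl⟩ := hsrc le_rfl y hy
    exact app_mem_imageAlong (preimageAlong_le α T' hx) le_rfl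
  have hpreT : ∀ x ∈ T, x ∈ preimageAlong θ T' := fun x hx =>
    mem_preimageAlong.2 ⟨hTS hx, app_mem_imageAlong hx hTS⟩
  have hcl : E.StronglyClosed T' := by
    refine stronglyClosed_iff.2 ⟨hT'S, fun P' f' hP' hf' y hy => ?_⟩
    obtain ⟨-, f, hf, he⟩ := (factor_mor hfac).1 hf'
    obtain ⟨x, hx, rfl⟩ := hsrc hP' y hy
    obtain ⟨hxT, hxθ⟩ := hmem.1 hx
    rw [happ x hxT, he x hxθ]
    exact app_mem_imageAlong (closed_apply' hTcl hf hxθ hxT) hTS
  have hw : N₀.IsWeaklyNormalIn E p := by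
    refine ⟨hN₀s, hEs, FusionIso88.invariant_iff.2 ⟨fun _ _ hφ => hφ.1, hcl,
      fun P' f' hf' a ha => ?_, fun P' f' hP' hf' => ?_⟩⟩
    · obtain ⟨hP', f, hf, he⟩ := (factor_mor hfacN).1 hf'
      obtain ⟨g, hg, hge⟩ := surjective_mor hsurj ((mem_autGroup hT'S).1 ha)
      have hgT := hg.restrict_to hpreT
      obtain ⟨b, hb, hbe⟩ := hgT.exists_aut (hgT.im_self fun t ht =>
        closed_apply' hTcl hg (hpreT t ht) ht)
      obtain ⟨f'', hf'', he''⟩ := morphism_mor hsN.1 (FusionWeaklyNormal88.inv_mor hI hf hb)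
      have hbm := ((mem_autGroup hTS).1 hb).restrict_to hf.le
      have hval : ∀ x ∈ T, afun a (app α x) = app α (afun b x) := fun x hx => by
        rw [happ x hx, happ _ (afun_mem b hx), hge x (hpreT x hx), hbe x hx]
      refine ⟨f'', hf''.restrict_to fun z hz => ?_, fun y hy => ?_⟩
      · obtain ⟨y, hy, rfl⟩ := ((((mem_autGroup hT'S).1 ha)).restrict_to hP').mem_im.1 hz
        obtain ⟨x, hx, rfl⟩ := hsrc hP' y hy
        rw [hval x (hf.le hx)]
        exact app_mem_imageAlong (apply_mem_im hx)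
          (im_le_iff.2 fun x hx => afun_mem b (hf.le hx))
      · obtain ⟨x, hx, rfl⟩ := hsrc hP' y hy
        rw [hval x (hf.le hx), he'' _ (apply_mem_im hx), he x hx]
        simp only [Function.comp_apply, afun_inv_apply b (hf.le hx)]
        rw [hval _ (hf.apply_mem hx)]
    · obtain ⟨-, f, hf, he⟩ := (factor_mor hfac).1 hf'
      have hle : preimageAlong α P' ≤ preimageAlong θ P' := fun x hx => (hmem.1 hx).2
      obtain ⟨b, hb, e, he', hfe⟩ :=
        FusionWeaklyNormal88.inv_factor hI (preimageAlong_le α P') (hf.restrict_to hle)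
      obtain ⟨e', hee, hee'⟩ := morphism_mor hsN.1 he'
      rw [imageAlong_preimageAlong (hαrange ▸ hP')] at hee
      obtain ⟨g, hg, hge⟩ := morphism_mor hsurj.1 ((mem_autGroup hTS).1 hb)
      haveI := finite_of_le hT'S
      obtain ⟨a', ha', hae⟩ := hg.exists_aut (hg.im_self fun y hy => by
        obtain ⟨x, hx, hxS, rfl⟩ := mem_imageAlong.1 hy
        rw [hge x hx]
        exact app_mem_imageAlong (afun_mem b hx) hTS)
      refine ⟨a', ha', e', hee, fun y hy => ?_⟩
      obtain ⟨x, hx, rfl⟩ := hsrc hP' y hy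
      obtain ⟨hxT, hxθ⟩ := hmem.1 hx
      have heT := he'.apply_mem hx
      rw [hee' x hx, happ _ heT, hae _ (app_mem_imageAlong heT hTS), hge _ heT, happ x hxT,
        he x hxθ, hfe x hx]
  haveI := finite_of_le hT'S
  exact ⟨FusionPrimeIndex88.EH N₀ p (FusionPrimeIndex88.A0 N₀ p),
    FusionResidualNormal88.normal_EH hS'p hw
      (FusionPrimeIndex88.saturated_EH (hS'p.to_le hT'S) hN₀s le_rfl) fun _ _ => Iff.rfl⟩

/-- A normal subsystem over a proper subgroup of a quasisimple system is central. -/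
theorem quasisimple_proper (hS : IsPGroup p S) (hq : F.Quasisimple p) (hN : N.IsNormalIn F p)
    (hne : T ≠ S) : T ≤ F.center := by
  obtain ⟨hF, hhyp, hsimp⟩ := hq
  have hI := hN.1.2.2
  have hTcl : F.StronglyClosed T := hI.2.1
  have hZc : F.IsCentral F.center := center_isCentral
  set Z := F.center with hZdef
  have hfix : ∀ {P : Subgroup Ω} {f : Ω → Ω}, Mor F P f → ∀ z ∈ P, z ∈ Z → f z = z := by
    intro P f hf z hzP hzZ
    obtain ⟨ψ, -, he, hψ⟩ := (isCentral_iff.1 hZc).2 P f hf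
    rw [← he z hzP, hψ z hzZ]
  have hZcl : F.StronglyClosed Z := stronglyClosed_iff.2 ⟨hZc.1, fun P f hP hf x hx => by
    rw [hfix hf x hx (hP hx)]; exact hP hx⟩
  set q := Z.subgroupOf S with hqdef
  set θ := QuotientGroup.mk' q with hθdef
  let E := S5132.factorSys F Z hZcl
  have hfac : F.IsFactorSystem Z θ E := ⟨hZc.1, fun s => by
    rw [← MonoidHom.mem_ker, QuotientGroup.ker_mk', Subgroup.mem_subgroupOf],
    QuotientGroup.range_mk' _, fun P' φ' => Iff.rfl⟩
  obtain ⟨-, hne', hsimple⟩ := hsimp E hfac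
  obtain ⟨N', hN'⟩ := exists_image hS hF hZc hfac hN
  have hTS := hTcl.1
  rcases hsimple _ _ hN' with h | ⟨h, -⟩
  · intro x hx
    have h1 := Subgroup.mem_bot.1 (h.le (app_mem_imageAlong hx hTS))
    rw [app_apply θ (hTS hx)] at h1
    exact (hfac.2.1 _).1 h1
  -- `S = T Z`, so the hyperfocal subgroup lies in `T`
  refine absurd (le_antisymm hTS ?_) hne
  conv_lhs => rw [← hhyp]
  refine (Subgroup.closure_le _).2 ?_
  rintro _ ⟨R, a, x, hR, -, rfl⟩
  obtain ⟨ψ, hψ, hψe, hψZ⟩ := (isCentral_iff.1 hZc).2 R _ ((mem_autGroup hR).1 a.2)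
  have hxS : (x : Ω) ∈ S := hR x.2
  obtain ⟨t, ht, htS, e⟩ := mem_imageAlong.1 (h.ge (Subgroup.mem_top (app θ (x : Ω))))
  have hz : t⁻¹ * (x : Ω) ∈ Z := (hfac.2.1 ⟨_, S.mul_mem (S.inv_mem htS) hxS⟩).1 (by
    rw [← app_apply θ, app_mul (S.inv_mem htS) hxS, app_inv htS, e, inv_mul_cancel])
  set z := t⁻¹ * (x : Ω) with hzdef
  have htR : t ∈ R ⊔ Z := by
    have := mul_mem (Subgroup.mem_sup_left (T := Z) x.2)
      (Subgroup.mem_sup_right (S := R) (inv_mem hz))
    simpa [hzdef, mul_assoc] using this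
  have hxe : (x : Ω) = t * z := (mul_inv_cancel_left _ _).symm
  have hψt : ψ t ∈ T := closed_apply' hTcl hψ htR ht
  have e1 : afun (a : MulAut R) x = ψ t * z := by
    rw [← hψe x x.2]
    conv_lhs => rw [hxe]
    rw [hψ.map_mul htR (Subgroup.mem_sup_right hz), hψZ z hz]
  rw [afun_coe] at e1
  show (x : Ω)⁻¹ * _ ∈ T
  rw [e1, hxe]
  have h2 : t⁻¹ * ψ t ∈ T := T.mul_mem (T.inv_mem ht) hψt
  have h3 := F.center_le_centralizer hz (t⁻¹ * ψ t) (hTS h2)
  have : (t * z)⁻¹ * (ψ t * z) = t⁻¹ * ψ t := by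
    rw [mul_inv_rev, mul_assoc, ← mul_assoc t⁻¹, h3, inv_mul_cancel_left]
  rw [this]
  exact h2

end Cfsg.Agent.FusionQuotientNormal
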