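import Cfsg.Agent.Lib.FusionCommute
import Cfsg.Agent.Lib.FusionQuotientNormal
import Cfsg.Agent.Lib.FusionCentralizerNormal

/-!
A component lies in a normal subsystem or commutes with it (`component_or_commute`): each of the
two is then contained in the centralizer system of the group of the other.
-/

set_option autoImplicit false

namespace Cfsg.Agent.FusionCompNormal

open Cfsg Cfsg.FusionSystem Cfsg.Agent.FusionSysBasic Cfsg.Agent.FusionSysSaturated
open Cfsg.Agent.FusionSysNormal Cfsg.Agent.FusionKit88 Cfsg.Agent.FusionCommute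
open Cfsg.Agent.FusionCentralizerSub (Valid)

variable {Ω : Type*} [Group Ω] {S T X : Subgroup Ω} {F : FusionSystem S} {M : FusionSystem T}
  {p : ℕ}

/-- A predicate "all motions lie in `W`" is closed. -/
theorem closed_moves {W : Subgroup Ω} (hW : ∀ m ∈ T, ∀ x ∈ T, x⁻¹ * cj m x ∈ W) :
    FusionInduct88.Closed M (U := T) (fun P f => ∀ x ∈ P, x⁻¹ * f x ∈ W) where
  congr := fun h he x hx => he x hx ▸ h x hx
  conj := fun hP hm x hx => hW _ hm x (hP hx)
  comp := fun {P Q f g} _ _ _ _ hfQ h1 h2 x hx => by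
    have := W.mul_mem (h1 x hx) (h2 _ (hfQ x hx))
    simpa [mul_assoc] using this
  inv := fun {P f g} hf _ _ hgf h1 y hy => by
    obtain ⟨x, hx, rfl⟩ := hf.mem_im.1 hy
    have := W.inv_mem (h1 x hx)
    rw [hgf x hx]
    simpa using this

/-- A predicate "extends over `X` as a conjugation by `T`" is closed. -/
theorem closed_extends (hsub : M.IsSubsystemOf F) (hX : F.StronglyClosed X) :
    FusionInduct88.Closed M (U := T) (fun P f =>
      ∃ ψ, Mor F (P ⊔ X) ψ ∧ (∀ x ∈ P, ψ x = f x) ∧ ∃ m ∈ T, ∀ x ∈ X, ψ x = cj m x) where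
  congr := fun ⟨ψ, h1, h2, h3⟩ he => ⟨ψ, h1, fun x hx => (h2 x hx).trans (he x hx), h3⟩
  conj := fun {P m} hP hm => ⟨cj m, mor_cj (sup_le (hP.trans (sub_le hsub)) hX.1) (sub_le hsub hm),
    fun _ _ => rfl, m, hm, fun _ _ => rfl⟩
  comp := fun {P Q f g} _ _ _ _ hfQ ⟨ψ, hψ, hψe, m, hm, hψX⟩ ⟨χ, hχ, hχe, n, hn, hχX⟩ => by
    have hmX : ∀ x ∈ X, cj m x ∈ X := fun x hx =>
      cj_mem_of_stronglyClosed hX (sub_le hsub hm) hx
    refine ⟨χ ∘ ψ, hψ.comp hχ fun x hx => mor_sup_induction hψ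
      (fun y hy => Subgroup.mem_sup_left ((hψe y hy).symm ▸ hfQ y hy))
      (fun y hy => Subgroup.mem_sup_right ((hψX y hy).symm ▸ hmX y hy)) hx, fun x hx => ?_,
      n * m, T.mul_mem hn hm, fun x hx => ?_⟩
    · simp only [Function.comp_apply]
      rw [hψe x hx, hχe _ (hfQ x hx)]
    · simp only [Function.comp_apply]
      rw [hψX x hx, hχX _ (hmX x hx), cj_cj]
  inv := fun {P f g} hf _ _ hgf ⟨ψ, hψ, hψe, m, hm, hψX⟩ => by
    obtain ⟨j, hj, hjψ, -, -⟩ := hψ.exists_inv
    have hmi : ∀ x ∈ X, cj m⁻¹ x ∈ X := fun x hx =>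
      cj_mem_of_stronglyClosed hX (S.inv_mem (sub_le hsub hm)) hx
    have hle : im P f ⊔ X ≤ im (P ⊔ X) ψ := sup_le (im_le_iff.2 fun x hx =>
      hψe x hx ▸ apply_mem_im (Subgroup.mem_sup_left hx)) fun x hx => by
        have := apply_mem_im (f := ψ) (Subgroup.mem_sup_right (S := P) (hmi x hx))
        rwa [hψX _ (hmi x hx), cj_cj, mul_inv_cancel, cj_one] at this
    refine ⟨j, hj.restrict_to hle, fun y hy => ?_, m⁻¹, T.inv_mem hm, fun y hy => ?_⟩
    · obtain ⟨x, hx, rfl⟩ := hf.mem_im.1 hy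
      rw [hgf x hx, ← hψe x hx, hjψ x (Subgroup.mem_sup_left hx)]
    · have h2 : ψ (cj m⁻¹ y) = y := by rw [hψX _ (hmi y hy), cj_cj, mul_inv_cancel, cj_one]
      conv_lhs => rw [← h2]
      exact hjψ _ (Subgroup.mem_sup_right (hmi y hy))

variable [Finite S] [Fact p.Prime]

/-- An abelian normal invariant subgroup lies in the centric radical subgroups. -/
theorem le_of_rad (hS : IsPGroup p S) {J P : Subgroup Ω} (hJS : J ≤ S) (hJcl : F.StronglyClosed J)
    (hab : ∀ x ∈ J, ∀ y ∈ J, x * y = y * x) (hc : F.IsCentric P) (hr : Rad F p P) : J ≤ P := by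
  have hPS := hc.1
  haveI := finite_of_le hPS
  have hn : P ≤ Subgroup.normalizer (J : Set Ω) :=
    hPS.trans (le_normalizer_of_stronglyClosed hJcl)
  let V : Subgroup (MulAut P) :=
    { carrier := {d | d ∈ F.autGroup P ∧ (∀ x ∈ P, x⁻¹ * afun d x ∈ J) ∧
        ∀ x ∈ P ⊓ J, afun d x = x}
      one_mem' := ⟨one_mem _, fun x hx => by rw [afun_one hx, inv_mul_cancel]; exact one_mem _,
        fun x hx => afun_one hx.1⟩
      mul_mem' := by
        rintro b c ⟨hb, hb', hbJ⟩ ⟨hc, hc', hcJ⟩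
        refine ⟨mul_mem hb hc, fun x hx => ?_, fun x hx => by
          rw [afun_mul _ _ hx.1, hcJ x hx, hbJ x hx]⟩
        rw [afun_mul _ _ hx]
        have := J.mul_mem (hc' x hx) (hb' _ (afun_mem c hx))
        simpa [mul_assoc] using this
      inv_mem' := by
        rintro b ⟨hb, hb', hbJ⟩
        refine ⟨inv_mem hb, fun x hx => ?_, fun x hx => ?_⟩
        · have := J.inv_mem (hb' _ (afun_mem b⁻¹ hx))
          rw [afun_apply_inv b hx] at this
          simpa using this
        · conv_lhs => rw [← hbJ x hx]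
          exact afun_inv_apply b hx.1 }
  have hVp : IsPGroup p V := by
    rintro ⟨b, hb, hb', hbJ⟩
    obtain ⟨j, hj⟩ := pow_eq_one_of_stabilizes (hS.to_le hPS) (n := 2)
      (fun i => if i = 0 then ⊥ else if i = 1 then P ⊓ J else P) rfl rfl
      (fun i => by split_ifs <;> simp) (fun i hi => by interval_cases i <;> simp)
      (α := b) (fun i hi y hy => by
        interval_cases i
        · simp only [zero_add, if_neg one_ne_zero, if_pos rfl] at hy
          simp [hbJ y hy]
        · simp only [if_neg one_ne_zero, if_pos rfl]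
          simp only [show (1 + 1 = 0) = False by simp, show (1 + 1 = 1) = False by simp,
            if_false] at hy
          exact ⟨P.mul_mem (P.inv_mem hy) (afun_mem b hy), hb' y hy⟩)
    exact ⟨j, Subtype.ext hj⟩
  have hVn : ∀ b ∈ F.autGroup P, ∀ c ∈ V, b * c * b⁻¹ ∈ V := by
    rintro b hb c ⟨hc', hc2, hcJ⟩
    have hbm := (mem_autGroup hPS).1 hb
    have hbim := (mem_autGroup hPS).1 (inv_mem hb)
    refine ⟨mul_mem (mul_mem hb hc') (inv_mem hb), fun x hx => ?_, fun x hx => ?_⟩
    · rw [afun_mul _ _ hx, afun_mul _ _ (afun_mem b⁻¹ hx)]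
      have hy := afun_mem b⁻¹ hx
      have hd : (afun b⁻¹ x)⁻¹ * afun c (afun b⁻¹ x) ∈ P :=
        P.mul_mem (P.inv_mem hy) (afun_mem c hy)
      have h1 := closed_apply' hJcl hbm hd (hc2 _ hy)
      rw [afun_map_mul b (P.inv_mem hy) (afun_mem c hy), hbm.map_inv hy, afun_apply_inv b hx] at h1
      exact h1
    · rw [afun_mul _ _ hx.1, afun_mul _ _ (afun_mem b⁻¹ hx.1),
        hcJ _ ⟨afun_mem _ hx.1, closed_apply' hJcl hbim hx.1 hx.2⟩, afun_apply_inv b hx.1]
  by_contra hle
  obtain ⟨g, hgS, hgP, hgn⟩ :=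
    FusionSysAlperin.lt_normalizerIn hS (sup_le hPS hJS) (left_lt_sup.mpr hle)
  rw [← SetLike.mem_coe, Subgroup.coe_mul_of_left_le_normalizer_right _ _ hn] at hgS
  obtain ⟨u, hu, q, hq, rfl⟩ := Set.mem_mul.mp hgS
  have hqn : q ∈ Subgroup.normalizer (P : Set Ω) := by
    simpa using mul_mem (inv_mem (Subgroup.le_normalizer (H := P) hu)) hgn
  refine hgP (P.mul_mem hu (FusionSysAlperin.mem_of_nHom_mem_inn hPS
    (FusionSysAlperin.centralizerIn_le_of_centric hc) ⟨q, hJS hq, hqn⟩ ?_))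
  rw [← autInducedBy_self]
  refine hr V (fun d hd => hd.1) hVp hVn ⟨autInducedBy_le hPS ((autInducedBy_eq_range S P).ge
    ⟨_, rfl⟩), fun x hx => ?_, fun x hx => ?_⟩
  · rw [afun_nHom _ hx]
    have h1 : cj x⁻¹ q ∈ J := cj_mem_of_stronglyClosed hJcl (S.inv_mem (hPS hx)) hq
    have := J.mul_mem h1 (J.inv_mem hq)
    simpa [cj_apply, mul_assoc] using this
  · rw [afun_nHom _ hx.1, cj_apply, hab q hq x hx.2, mul_inv_cancel_right]

variable (hS : IsPGroup p S) (hF : F.IsSaturated p) (hM : M.IsNormalIn F p)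
  (hX : F.StronglyClosed X)
include hS hF hM hX

/-- A normal `M` whose intersection with `X` is central in it moves only inside `C_M(X)`, and its
maps extend over `X` as conjugations. -/
theorem moves_in_centralizer (hfix : ∀ {P : Subgroup Ω} {f : Ω → Ω}, Mor M P f →
      ∀ x ∈ P, x ∈ X → f x = x) (hcomm : ∀ j ∈ T ⊓ X, ∀ x ∈ T, x * j = j * x)
    {P : Subgroup Ω} {f : Ω → Ω} (hf : Mor M P f) :
    (∀ x ∈ P, ∀ t ∈ X, cj t (x⁻¹ * f x) = x⁻¹ * f x) ∧
      ∃ ψ, Mor F (P ⊔ X) ψ ∧ (∀ x ∈ P, ψ x = f x) ∧ ∃ m ∈ T, ∀ x ∈ X, ψ x = cj m x := by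
  have hI := hM.1.2.2
  have hT : F.StronglyClosed T := hI.2.1
  have hTS : T ≤ S := hT.1
  haveI := finite_of_le hTS
  have hmod : ∀ t ∈ X, ∀ x ∈ T, x⁻¹ * cj t x ∈ T ⊓ X := fun t ht x hx =>
    ⟨T.mul_mem (T.inv_mem hx) (cj_mem_of_stronglyClosed hT (hX.1 ht) hx), by
      have h3 : cj x⁻¹ t ∈ X := cj_mem_of_stronglyClosed hX (S.inv_mem (hTS hx)) ht
      have := X.mul_mem h3 (X.inv_mem ht)
      simpa [cj_apply, mul_assoc] using this⟩
  let W : Subgroup Ω :=
    { carrier := {y | y ∈ T ∧ ∀ t ∈ X, cj t y = y}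
      one_mem' := ⟨one_mem _, fun t _ => by simp [cj_apply]⟩
      mul_mem' := fun {y z} hy hz => ⟨mul_mem hy.1 hz.1, fun t ht => by
        have h1 := hy.2 t ht
        have h2 := hz.2 t ht
        simp only [cj_apply] at h1 h2 ⊢
        calc t * (y * z) * t⁻¹ = (t * y * t⁻¹) * (t * z * t⁻¹) := by group
          _ = y * z := by rw [h1, h2]⟩
      inv_mem' := fun {y} hy => ⟨inv_mem hy.1, fun t ht => by
        have h1 := hy.2 t ht
        simp only [cj_apply] at h1 ⊢
        conv_rhs => rw [← h1]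
        group⟩ }
  have hWcomm : ∀ m ∈ T, ∀ x ∈ T, x⁻¹ * cj m x ∈ W := fun m hm x hx => by
    have hc : x⁻¹ * cj m x ∈ T :=
      T.mul_mem (T.inv_mem hx) (T.mul_mem (T.mul_mem hm hx) (T.inv_mem hm))
    refine ⟨hc, fun t ht => ?_⟩
    obtain ⟨j, hj, hje⟩ : ∃ j ∈ T ⊓ X, cj t x = x * j :=
      ⟨_, hmod t ht x hx, (mul_inv_cancel_left _ _).symm⟩
    obtain ⟨k, hk, hke⟩ : ∃ k ∈ T ⊓ X, cj t m = m * k :=
      ⟨_, hmod t ht m hm, (mul_inv_cancel_left _ _).symm⟩
    have e : cj t (x⁻¹ * cj m x) = (cj t x)⁻¹ * cj (cj t m) (cj t x) := by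
      simp only [cj_apply]; group
    rw [e, hje, hke, cj_apply, cj_apply]
    have hA : k * (x * j) * k⁻¹ = x * j := by
      rw [← hcomm k hk (x * j) (T.mul_mem hx hj.1), mul_inv_cancel_right]
    have hB : j * m⁻¹ = m⁻¹ * j := (hcomm j hj _ (T.inv_mem hm)).symm
    have hC : j⁻¹ * (x⁻¹ * (m * x * m⁻¹) * j) = x⁻¹ * (m * x * m⁻¹) := by
      rw [hcomm j hj _ (T.mul_mem (T.inv_mem hx) (T.mul_mem (T.mul_mem hm hx) (T.inv_mem hm))),
        inv_mul_cancel_left]
    calc (x * j)⁻¹ * (m * k * (x * j) * (m * k)⁻¹)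
        = (x * j)⁻¹ * (m * (k * (x * j) * k⁻¹) * m⁻¹) := by group
      _ = (x * j)⁻¹ * (m * (x * j) * m⁻¹) := by rw [hA]
      _ = j⁻¹ * (x⁻¹ * (m * x * (j * m⁻¹))) := by group
      _ = j⁻¹ * (x⁻¹ * (m * x * m⁻¹) * j) := by rw [hB]; group
      _ = x⁻¹ * (m * x * m⁻¹) := hC
  have gen : ∀ R, M.IsCentric R → Rad M p R → ∀ α ∈ M.autGroup R, (orderOf α).Coprime p →
      ∃ β ∈ F.autGroup (R ⊔ X), (∀ x ∈ R, afun β x = afun α x) ∧ ∀ x ∈ X, afun β x = x := by
    intro R hRc hRr α hα hco
    have hRT := hRc.1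
    have hJR : T ⊓ X ≤ R := fun j hj => FusionSysAlperin.centralizerIn_le_of_centric hRc
      (mem_centralizerIn.2 ⟨hj.1, fun x hx => by
        rw [cj_apply, ← hcomm j hj x (hRT hx), mul_inv_cancel_right]⟩)
    have hαJ : ∀ x ∈ T ⊓ X, afun α x = x := fun x hx =>
      hfix ((mem_autGroup hRT).1 hα) x (hJR hx) hx.2
    obtain ⟨β, hβ, hβco, hβR, hβX⟩ := exists_ext hS hF hM hX hRc hRr hJR hα hco fun t ht x hx => by
      rw [hαJ x hx, hαJ (cj t x) ⟨cj_mem_of_stronglyClosed hT (hX.1 ht) hx.1,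
        X.mul_mem (X.mul_mem ht hx.2) (X.inv_mem ht)⟩]
    refine ⟨β, hβ, hβR, ?_⟩
    have hRS : R ⊔ X ≤ S := sup_le (hRT.trans hTS) hX.1
    have hbm := ((mem_autGroup hRS).1 hβ).restrict_to (le_sup_right : X ≤ R ⊔ X)
    haveI := finite_of_le hX.1
    obtain ⟨b, hb, hbe⟩ := hbm.exists_aut (hbm.im_self fun x hx => (hβX x hx).1)
    have hb1 : b = 1 := FusionComponentExists.eq_one_of_moves_fixed (Z := T ⊓ X) hS hX.1
      (hβco.coprime_dvd_left (orderOf_dvd_of_pow_eq_one (afun_ext fun q hq => by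
        rw [← FusionCentralizerSub.pow_restrict le_sup_right (fun x hx => (hbe x hx).symm) _ q hq,
          pow_orderOf_eq_one, afun_one (Subgroup.mem_sup_right hq), afun_one hq])))
      (fun q hq => by rw [hbe q hq]; exact (hβX q hq).2)
      (fun q hq hqJ => by rw [hbe q hq, hβR q (hJR hqJ), hαJ q hqJ])
    exact fun x hx => by rw [← hbe x hx, hb1, afun_one hx]
  constructor
  · intro x hx t ht
    refine ((gen_induction (Φ := fun P f => ∀ x ∈ P, x⁻¹ * f x ∈ W) (hS.to_le hTS) hM.1.1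
      (closed_moves hWcomm) (fun R _ hRc hRr α hα hco y hy => ?_) hf) x hx).2 t ht
    have hRT := hRc.1
    have hyT := hRT hy
    refine ⟨T.mul_mem (T.inv_mem hyT) (hRT (afun_mem α hy)), fun t ht => ?_⟩
    obtain ⟨β, hβ, hβR, hβX⟩ := gen R hRc hRr α hα hco
    have hJR : T ⊓ X ≤ R := fun j hj => FusionSysAlperin.centralizerIn_le_of_centric hRc
      (mem_centralizerIn.2 ⟨hj.1, fun z hz => by
        rw [cj_apply, ← hcomm j hj z (hRT hz), mul_inv_cancel_right]⟩)
    set j := y⁻¹ * cj t y with hjdef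
    have hj : j ∈ T ⊓ X := hmod t ht y hyT
    have hcy : cj t y = y * j := (mul_inv_cancel_left _ _).symm
    have hbm := (mem_autGroup (sup_le (hRT.trans hTS) hX.1)).1 hβ
    have htY : t ∈ R ⊔ X := Subgroup.mem_sup_right ht
    have hyY : y ∈ R ⊔ X := Subgroup.mem_sup_left hy
    have h1 : afun β (cj t y) = cj t (afun α y) := by
      rw [hbm.map_cj htY hyY, hβR y hy, hβX t ht]
    rw [hcy, afun_map_mul β hyY (Subgroup.mem_sup_right hj.2), hβR y hy, hβX j hj.2] at h1
    have e : cj t (y⁻¹ * afun α y) = (cj t y)⁻¹ * cj t (afun α y) := by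
      simp only [cj_apply]; group
    rw [e, ← h1, hcy, mul_inv_rev]
    have hc := hcomm j hj (y⁻¹ * afun α y) (T.mul_mem (T.inv_mem hyT) (hRT (afun_mem α hy)))
    calc j⁻¹ * y⁻¹ * (afun α y * j) = j⁻¹ * ((y⁻¹ * afun α y) * j) := by group
      _ = y⁻¹ * afun α y := by rw [hc, inv_mul_cancel_left]
  · refine gen_induction (Φ := fun P f =>
      ∃ ψ, Mor F (P ⊔ X) ψ ∧ (∀ x ∈ P, ψ x = f x) ∧ ∃ m ∈ T, ∀ x ∈ X, ψ x = cj m x)
      (hS.to_le hTS) hM.1.1 (closed_extends hI.1 hX) (fun R _ hRc hRr α hα hco => ?_) hf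
    obtain ⟨β, hβ, hβR, hβX⟩ := gen R hRc hRr α hα hco
    exact ⟨afun β, (mem_autGroup (sup_le (hRc.1.trans hTS) hX.1)).1 hβ, hβR, 1, one_mem _,
      fun x hx => by rw [hβX x hx, cj_one]⟩

omit hS hF hM hX in
omit [Finite S] [Fact p.Prime] in
theorem component_or_commute' {TC : Subgroup Ω} {C : FusionSystem TC}
    (hC : C.IsSubnormalIn F p) :
    Fact p.Prime → Finite S → IsPGroup p S → F.IsSaturated p → C.Quasisimple p →
      ∀ {TN : Subgroup Ω} {N : FusionSystem TN}, N.IsNormalIn F p →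
        C.IsSubsystemOf N ∨ (Valid F C TN ∧ Valid F N TC) := by
  induction hC with
  | refl F' p' =>
    intro hp hfin hS hF hq TN N hN
    haveI := hp
    haveI := hfin
    by_cases hne : TN = TC
    · subst hne
      exact Or.inl (FusionLayer.quasisimple_le hS hq hN)
    have hZ := FusionQuotientNormal.quasisimple_proper hS hq hN hne
    have hcent : ∀ z ∈ TN, ∀ x ∈ TC, cj x z = z := fun z hz x hx => by
      rw [cj_apply, F'.center_le_centralizer (hZ hz) x hx, mul_inv_cancel_right]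
    have hTN : TN ≤ TC := hN.1.2.2.2.1.1
    refine Or.inr ⟨⟨fun z hz => mem_centralizerIn.2 ⟨hTN hz, fun x hx => ?_⟩, fun P f hf => ?_⟩,
      ⟨fun x hx => mem_centralizerIn.2 ⟨hx, fun z hz => hcent z hz x hx⟩, fun P f hf => ?_⟩⟩
    · rw [cj_apply, ← F'.center_le_centralizer (hZ hz) x hx, mul_inv_cancel_right]
    · obtain ⟨ψ, hψ, he, hfix⟩ := (isCentral_iff.1 center_isCentral).2 P f hf
      exact ⟨ψ, hψ.restrict_to (sup_le_sup_left hZ P), he, fun x hx => hfix x (hZ hx)⟩
    · refine ⟨fun x => x, mor_id (sup_le (hf.le.trans hTN) le_rfl), fun x hx => ?_, fun _ _ => rfl⟩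
      obtain ⟨ψ, -, he, hfix⟩ := (isCentral_iff.1 center_isCentral).2 P f (sub_mor hN.1.2.2.1 hf)
      rw [← he x hx, hfix x (hZ (hf.le hx))]
  | @step U S' E D F' p' hsub hn ih =>
    intro hp hfin hS hF hq TN N hN
    haveI := hp
    haveI := hfin
    have hUS : U ≤ S' := sub_le hn.1.2.2.1
    haveI := finite_of_le hUS
    obtain ⟨M', ⟨hMF, hMD, hMN⟩, -⟩ :=
      (⟨hS, hF, hn, hN⟩ : FusionMeet.Setup F' D N p').exists_meet
    rcases ih hp inferInstance (hS.to_le hUS) hn.1.1 hq hMD with h | ⟨-, hMC⟩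
    · exact Or.inl fun P => (h P).trans (hMN.1.2.2.1 P)
    have hTCS : TC ≤ S' := (subnormal_le hsub).trans hUS
    have hTCU : TC ≤ U := subnormal_le hsub
    have hval : Valid F' M' TC := by
      refine ⟨fun x hx => mem_centralizerIn.2 ⟨hTCS hx, (mem_centralizerIn.1 (hMC.1 hx)).2⟩,
        fun P f hf => ?_⟩
      obtain ⟨ψ, hψ, he, hfix⟩ := hMC.2 P f hf
      exact ⟨ψ, sub_mor hn.1.2.2.1 hψ, he, hfix⟩
    obtain ⟨K, hK, hKM⟩ := FusionCentralizerNormal.exists_normal_centralizer hS hF hMF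
    have hTY : TC ≤ FusionCentralizerSub.cs F' M' p' :=
      FusionCentralizerSub.valid_le_cs hS hF hMF.1.2.2 hval
    let TL : Subgroup Ω := U ⊓ FusionCentralizerSub.cs F' M' p'
    obtain ⟨L, ⟨hLF, hLD, hLK⟩, -⟩ : ∃ L : FusionSystem TL, (L.IsNormalIn F' p' ∧
        L.IsNormalIn D p' ∧ L.IsNormalIn K p') ∧ _ :=
      (⟨hS, hF, hn, hK⟩ : FusionMeet.Setup F' D K p').exists_meet
    have hsub' := IsSubnormalIn.step hsub hn
    have hEL : E.IsSubsystemOf L := FusionLayer.component_le hsub' inferInstance inferInstance hS hq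
      _ L hLF (le_inf hTCU hTY)
    have hTLS : TL ≤ S' := inf_le_left.trans hUS
    haveI := finite_of_le hTLS
    have hX : F'.StronglyClosed TN := hN.1.2.2.2.1
    have hTNS : TN ≤ S' := hX.1
    haveI := finite_of_le hTNS
    haveI := finite_of_le hTCS
    -- the intersection is central in `L`
    have hfixL : ∀ {P : Subgroup Ω} {f : Ω → Ω}, Mor L P f → ∀ x ∈ P, x ∈ TN → f x = x := by
      intro P f hf x hx hxN
      obtain ⟨φ, hφ, he⟩ := sub_mor hLK.1.2.2.1 hf
      obtain ⟨ψ, -, hψe, hψQ⟩ := (ext_central_iff he).1 (hKM P hφ).2.2.2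
      rw [← hψe x hx, hψQ x ⟨(hf.le hx).1, hxN⟩]
    have hTLcent : ∀ x ∈ TL, ∀ j ∈ U ⊓ TN, x * j = j * x := fun x hx j hj => by
      have := (mem_centralizerIn.1 (FusionCentralizerSub.cs_le hx.2)).2 j hj
      rw [cj_apply, mul_inv_eq_iff_eq_mul] at this
      exact this
    have hcommL : ∀ j ∈ TL ⊓ TN, ∀ x ∈ TL, x * j = j * x := fun j hj x hx =>
      hTLcent x hx j ⟨hj.1.1, hj.2⟩
    have hmov := fun {P f} (hf : Mor L P f) => moves_in_centralizer hS hF hLF hX hfixL hcommL hf
    have hTC : TC ≤ TL := le_inf hTCU hTY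
    have hCS : TC ≤ centralizerIn S' TN := by
      conv_lhs => rw [← hq.2.1]
      refine (Subgroup.closure_le _).2 ?_
      rintro _ ⟨R, α, x, hR, -, rfl⟩
      have hm : Mor L R (afun (α : MulAut R)) := sub_mor hEL ((mem_autGroup hR).1 α.2)
      have h1 := (hmov hm).1 (x : Ω) x.2
      rw [afun_coe] at h1
      exact mem_centralizerIn.2
        ⟨S'.mul_mem (S'.inv_mem (hTCS (hR x.2))) (hTCS (hR ((α : MulAut R) x).2)), fun t ht => FusionLayerCore.cj_comm.1 (h1 t ht)⟩
    refine Or.inr ⟨⟨fun z hz => mem_centralizerIn.2 ⟨hTNS hz, fun x hx => ?_⟩, fun P f hf => ?_⟩,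
      ⟨hCS, fun P f hf => ?_⟩⟩
    · have h1 := (mem_centralizerIn.1 (hCS hx)).2 z hz
      rw [cj_apply, mul_inv_eq_iff_eq_mul] at h1
      rw [cj_apply, ← h1, mul_inv_cancel_right]
    · -- maps of the component fix `TN`
      refine FusionInduct88.induction' (hS.to_le hTCS) hq.1 (Φ := fun P f =>
        ∃ ψ, Mor F' (P ⊔ TN) ψ ∧ (∀ x ∈ P, ψ x = f x) ∧ ∀ x ∈ TN, ψ x = x)
        { congr := fun ⟨ψ, h1, h2, h3⟩ he => ⟨ψ, h1, fun x hx => (h2 x hx).trans (he x hx), h3⟩
          conj := fun {P m} hP hm => ⟨cj m, mor_cj (sup_le (hP.trans hTCS) hTNS) (hTCS hm),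
            fun _ _ => rfl, fun x hx => by
              have h1 := (mem_centralizerIn.1 (hCS hm)).2 x hx
              rw [cj_apply, mul_inv_eq_iff_eq_mul] at h1
              rw [cj_apply, h1, mul_inv_cancel_right]⟩
          comp := fun {P Q f g} _ _ _ _ hfQ ⟨ψ, hψ, hψe, hψX⟩ ⟨χ, hχ, hχe, hχX⟩ =>
            ⟨χ ∘ ψ, hψ.comp hχ fun x hx => mor_sup_induction hψ
              (fun y hy => Subgroup.mem_sup_left ((hψe y hy).symm ▸ hfQ y hy))
              (fun y hy => Subgroup.mem_sup_right ((hψX y hy).symm ▸ hy)) hx,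
            fun x hx => by simp only [Function.comp_apply]; rw [hψe x hx, hχe _ (hfQ x hx)],
            fun x hx => by simp only [Function.comp_apply]; rw [hψX x hx, hχX x hx]⟩
          inv := fun {P f g} hf _ _ hgf ⟨ψ, hψ, hψe, hψX⟩ => by
            obtain ⟨j, hj, hjψ, -, -⟩ := hψ.exists_inv
            have hle : im P f ⊔ TN ≤ im (P ⊔ TN) ψ := sup_le (im_le_iff.2 fun x hx =>
              hψe x hx ▸ apply_mem_im (Subgroup.mem_sup_left hx)) fun x hx =>
                hψX x hx ▸ apply_mem_im (Subgroup.mem_sup_right hx)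
            refine ⟨j, hj.restrict_to hle, fun y hy => ?_, fun y hy => ?_⟩
            · obtain ⟨x, hx, rfl⟩ := hf.mem_im.1 hy
              rw [hgf x hx, ← hψe x hx, hjψ x (Subgroup.mem_sup_left hx)]
            · conv_lhs => rw [← hψX y hy]
              exact hjψ y (Subgroup.mem_sup_right hy) }
        (fun R hR α hα hco => ?_) hf
      obtain ⟨ψ, hψ, hψe, m, hm, hψX⟩ := (hmov (sub_mor hEL ((mem_autGroup hR).1 hα))).2
      have hmX : ∀ x ∈ TN, cj m x ∈ TN := fun x hx =>
        cj_mem_of_stronglyClosed hX (hTLS hm) hx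
      haveI := finite_of_le hψ.le
      obtain ⟨b, hb, hbe⟩ := hψ.exists_aut (hψ.im_self fun x hx => mor_sup_induction hψ
        (fun y hy => Subgroup.mem_sup_left ((hψe y hy).symm ▸ afun_mem α hy))
        (fun y hy => Subgroup.mem_sup_right ((hψX y hy).symm ▸ hmX y hy)) hx)
      obtain ⟨e, heco, hepow⟩ := FusionGoodLift.exists_pow_coprime (p := p') b
      have hbR : ∀ x ∈ R, afun b x = afun α x := fun x hx => by
        rw [hbe x (Subgroup.mem_sup_left hx), hψe x hx]
      have hαb : α ^ orderOf b = 1 := afun_ext fun x hx => by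
        rw [← FusionCentralizerSub.pow_restrict le_sup_left hbR _ x hx, pow_orderOf_eq_one,
          afun_one (Subgroup.mem_sup_left hx), afun_one hx]
      exact ⟨afun (b ^ e), (mem_autGroup hψ.le).1 (pow_mem hb e), fun x hx => by
          rw [FusionCentralizerSub.pow_restrict le_sup_left hbR _ x hx, hepow α hαb hco],
        FusionLayerCore.fix_of_cj hS le_sup_right heco (hTLS hm) hmX fun x hx => by
          rw [hbe x (Subgroup.mem_sup_right hx), hψX x hx]⟩
    · -- maps of `N` fix `TC`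
      have hNI := hN.1.2.2
      refine gen_induction (Φ := fun P f =>
        ∃ ψ, Mor F' (P ⊔ TC) ψ ∧ (∀ x ∈ P, ψ x = f x) ∧ ∀ x ∈ TC, ψ x = x) (hS.to_le hTNS) hN.1.1
        { congr := fun ⟨ψ, h1, h2, h3⟩ he => ⟨ψ, h1, fun x hx => (h2 x hx).trans (he x hx), h3⟩
          conj := fun {P m} hP hm => ⟨cj m, mor_cj (sup_le (hP.trans hTNS) hTCS) (hTNS hm),
            fun _ _ => rfl, fun x hx => FusionLayerCore.cj_comm.1 ((mem_centralizerIn.1 (hCS hx)).2 m hm)⟩
          comp := fun {P Q f g} _ _ _ _ hfQ ⟨ψ, hψ, hψe, hψX⟩ ⟨χ, hχ, hχe, hχX⟩ =>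
            ⟨χ ∘ ψ, hψ.comp hχ fun x hx => mor_sup_induction hψ
              (fun y hy => Subgroup.mem_sup_left ((hψe y hy).symm ▸ hfQ y hy))
              (fun y hy => Subgroup.mem_sup_right ((hψX y hy).symm ▸ hy)) hx,
            fun x hx => by simp only [Function.comp_apply]; rw [hψe x hx, hχe _ (hfQ x hx)],
            fun x hx => by simp only [Function.comp_apply]; rw [hψX x hx, hχX x hx]⟩
          inv := fun {P f g} hf _ _ hgf ⟨ψ, hψ, hψe, hψX⟩ => by
            obtain ⟨j, hj, hjψ, -, -⟩ := hψ.exists_inv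
            have hle : im P f ⊔ TC ≤ im (P ⊔ TC) ψ := sup_le (im_le_iff.2 fun x hx =>
              hψe x hx ▸ apply_mem_im (Subgroup.mem_sup_left hx)) fun x hx =>
                hψX x hx ▸ apply_mem_im (Subgroup.mem_sup_right hx)
            refine ⟨j, hj.restrict_to hle, fun y hy => ?_, fun y hy => ?_⟩
            · obtain ⟨x, hx, rfl⟩ := hf.mem_im.1 hy
              rw [hgf x hx, ← hψe x hx, hjψ x (Subgroup.mem_sup_left hx)]
            · conv_lhs => rw [← hψX y hy]
              exact hjψ y (Subgroup.mem_sup_right hy) }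
        (fun R _ hRc hRr α hα hco => ?_) hf
      have hTL : F'.StronglyClosed TL := hLF.1.2.2.2.1
      have hRN := hRc.1
      have hRS : R ≤ S' := hRN.trans hTNS
      have hJcl : N.StronglyClosed (TN ⊓ TL) := stronglyClosed_iff.2 ⟨inf_le_left,
        fun P g hP hg x hx => ⟨hg.apply_mem hx,
          closed_apply' hTL (sub_mor hNI.1 hg) hx (hP hx).2⟩⟩
      have hJR : TN ⊓ TL ≤ R := le_of_rad (hS.to_le hTNS) inf_le_left hJcl
        (fun x hx y hy => hTLcent x hx.2 y ⟨hy.2.1, hy.1⟩) hRc hRr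
      have hαJ : ∀ x ∈ TN ⊓ TL, afun α x ∈ TN ⊓ TL := fun x hx =>
        ⟨hRN (afun_mem α (hJR hx)),
          closed_apply' hTL (sub_mor hNI.1 ((mem_autGroup hRN).1 hα)) (hJR hx) hx.2⟩
      have hfixJ : ∀ t ∈ TL, ∀ x ∈ TN ⊓ TL, cj t x = x := fun t ht x hx => by
        rw [cj_apply, hTLcent t ht x ⟨hx.2.1, hx.1⟩, mul_inv_cancel_right]
      obtain ⟨β, hβ, hβco, hβR, hβX⟩ := exists_ext hS hF hN hTL hRc hRr hJR hα hco
        fun t ht x hx => by rw [hfixJ t ht _ (hαJ x hx), hfixJ t ht x hx]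
      have hbm := (mem_autGroup (sup_le hRS hTLS)).1 hβ
      have hbr := hbm.restrict_to (le_sup_right : TL ≤ R ⊔ TL)
      obtain ⟨σ, hσ, hσe⟩ := hbr.exists_aut (hbr.im_self fun x hx => (hβX x hx).1)
      have hσco : (orderOf σ).Coprime p' :=
        hβco.coprime_dvd_left (orderOf_dvd_of_pow_eq_one (afun_ext fun q hq => by
          rw [← FusionCentralizerSub.pow_restrict le_sup_right (fun x hx => (hσe x hx).symm) _ q hq,
            pow_orderOf_eq_one, afun_one (Subgroup.mem_sup_right hq), afun_one hq]))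
      have hσmod : ∀ x ∈ TL, x⁻¹ * afun σ x ∈ TL ⊓ TN := fun x hx => by
        rw [hσe x hx, inf_comm]; exact (hβX x hx).2
      have hσm := (mem_autGroup hTLS).1 hσ
      -- `σ` fixes the moves of `L`
      let W : Subgroup Ω :=
        { carrier := {y | y ∈ TL ∧ afun σ y = y}
          one_mem' := ⟨one_mem _, hσm.map_one⟩
          mul_mem' := fun {y z} hy hz => ⟨mul_mem hy.1 hz.1, by
            rw [hσm.map_mul hy.1 hz.1, hy.2, hz.2]⟩
          inv_mem' := fun {y} hy => ⟨inv_mem hy.1, by rw [hσm.map_inv hy.1, hy.2]⟩ }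
      have hfixC : ∀ {P : Subgroup Ω} {g : Ω → Ω}, Mor L P g → ∀ x ∈ P, x⁻¹ * g x ∈ W := by
        intro P g hg
        refine gen_induction (Φ := fun P g => ∀ x ∈ P, x⁻¹ * g x ∈ W) (hS.to_le hTLS) hLF.1.1
          (closed_moves fun m hm x hx => ?_) (fun Q _ hQc hQr l hl hlco x hx => ?_) hg
        · refine ⟨TL.mul_mem (TL.inv_mem hx) (TL.mul_mem (TL.mul_mem hm hx) (TL.inv_mem hm)), ?_⟩
          have hj := hσmod x hx
          have hk := hσmod m hm
          set j := x⁻¹ * afun σ x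
          set k := m⁻¹ * afun σ m
          have hmx : cj m x ∈ TL := TL.mul_mem (TL.mul_mem hm hx) (TL.inv_mem hm)
          rw [hσm.map_mul (TL.inv_mem hx) hmx, hσm.map_inv hx, hσm.map_cj hm hx,
            show afun σ x = x * j from (mul_inv_cancel_left _ _).symm,
            show afun σ m = m * k from (mul_inv_cancel_left _ _).symm, cj_apply, cj_apply]
          have hA : k * (x * j) * k⁻¹ = x * j := by
            rw [← hcommL k hk (x * j) (TL.mul_mem hx hj.1), mul_inv_cancel_right]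
          have hB : j * m⁻¹ = m⁻¹ * j := (hcommL j hj _ (TL.inv_mem hm)).symm
          have hC : j⁻¹ * (x⁻¹ * (m * x * m⁻¹) * j) = x⁻¹ * (m * x * m⁻¹) := by
            rw [hcommL j hj _ (TL.mul_mem (TL.inv_mem hx)
              (TL.mul_mem (TL.mul_mem hm hx) (TL.inv_mem hm))), inv_mul_cancel_left]
          calc (x * j)⁻¹ * (m * k * (x * j) * (m * k)⁻¹)
              = (x * j)⁻¹ * (m * (k * (x * j) * k⁻¹) * m⁻¹) := by group
            _ = (x * j)⁻¹ * (m * (x * j) * m⁻¹) := by rw [hA]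
            _ = j⁻¹ * (x⁻¹ * (m * x * (j * m⁻¹))) := by group
            _ = j⁻¹ * (x⁻¹ * (m * x * m⁻¹) * j) := by rw [hB]; group
            _ = x⁻¹ * (m * x * m⁻¹) := hC
        have hQT := hQc.1
        have hQS : Q ≤ S' := hQT.trans hTLS
        haveI := finite_of_le hQS
        have hJQ : TL ⊓ TN ≤ Q := fun z hz => FusionSysAlperin.centralizerIn_le_of_centric hQc
          (mem_centralizerIn.2 ⟨hz.1, fun y hy => by
            rw [cj_apply, ← hcommL z hz y (hQT hy), mul_inv_cancel_right]⟩)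
        have hσQ := hσm.restrict_to hQT
        obtain ⟨s, hs, hse⟩ := hσQ.exists_aut (hσQ.im_self fun y hy => by
          have := Q.mul_mem hy (hJQ (hσmod y (hQT hy)))
          rwa [mul_inv_cancel_left] at this)
        have hlJ : ∀ z ∈ TL ⊓ TN, afun l z = z := fun z hz =>
          hfixL ((mem_autGroup hQT).1 hl) z (hJQ hz) hz.2
        have hsM := (mem_autGroup hQS).1 hs
        have h1 := FusionWeaklyNormal88.aut_transport hLF.1.2.2 hQT hsM (im_afun s) hl
        have e : hsM.transport (im_afun s) l = s * l * s⁻¹ := afun_ext fun y hy => by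
          have h2 := hsM.afun_transport (im_afun s) l (afun_mem s⁻¹ hy)
          rw [afun_apply_inv s hy] at h2
          rw [h2, afun_mul _ _ hy, afun_mul _ _ (afun_mem s⁻¹ hy)]
        have hlsM : s * l * s⁻¹ * l⁻¹ ∈ L.autGroup Q := mul_mem (e ▸ h1) (inv_mem hl)
        let V : Subgroup (MulAut Q) :=
          { carrier := {d | d ∈ L.autGroup Q ∧ ∀ y ∈ Q, y⁻¹ * afun d y ∈ TL ⊓ TN}
            one_mem' := ⟨one_mem _, fun y hy => by
              rw [afun_one hy, inv_mul_cancel]; exact one_mem _⟩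
            mul_mem' := by
              rintro b c ⟨hb, hb'⟩ ⟨hc, hc'⟩
              refine ⟨mul_mem hb hc, fun y hy => ?_⟩
              rw [afun_mul _ _ hy]
              have := (TL ⊓ TN).mul_mem (hc' y hy) (hb' _ (afun_mem c hy))
              simpa [mul_assoc] using this
            inv_mem' := by
              rintro b ⟨hb, hb'⟩
              refine ⟨inv_mem hb, fun y hy => ?_⟩
              have := (TL ⊓ TN).inv_mem (hb' _ (afun_mem b⁻¹ hy))
              rw [afun_apply_inv b hy] at this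
              simpa using this }
        have hLfix : ∀ {d : MulAut Q}, d ∈ L.autGroup Q → ∀ z ∈ TL ⊓ TN, afun d z = z :=
          fun hd z hz => hfixL ((mem_autGroup hQT).1 hd) z (hJQ hz) hz.2
        have hVp : IsPGroup p' V := by
          rintro ⟨b, hb, hb'⟩
          obtain ⟨i, hi⟩ := pow_eq_one_of_stabilizes (hS.to_le hQS) (n := 2)
            (fun i => if i = 0 then ⊥ else if i = 1 then TL ⊓ TN else Q) rfl rfl
            (fun i => by split_ifs <;> simp [hJQ]) (fun i hi => by interval_cases i <;> simp [hJQ])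
            (α := b) (fun i hi y hy => by
              interval_cases i
              · simp only [zero_add, if_neg one_ne_zero, if_pos rfl] at hy
                simp [hLfix hb y hy]
              · simp only [if_neg one_ne_zero, if_pos rfl]
                simp only [show (1 + 1 = 0) = False by simp, show (1 + 1 = 1) = False by simp,
                  if_false] at hy
                exact hb' y hy)
          exact ⟨i, Subtype.ext hi⟩
        have hVn : ∀ b ∈ L.autGroup Q, ∀ c ∈ V, b * c * b⁻¹ ∈ V := by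
          rintro b hb c ⟨hc', hc2⟩
          refine ⟨mul_mem (mul_mem hb hc') (inv_mem hb), fun y hy => ?_⟩
          rw [afun_mul _ _ hy, afun_mul _ _ (afun_mem b⁻¹ hy)]
          have hz := afun_mem b⁻¹ hy
          have h2 := hLfix hb _ (hc2 _ hz)
          rw [afun_map_mul b (Q.inv_mem hz) (afun_mem c hz),
            ((mem_autGroup hQT).1 hb).map_inv hz, afun_apply_inv b hy] at h2
          rw [h2]
          exact hc2 _ hz
        have hlam : ∀ y ∈ Q, afun s y = y * (y⁻¹ * afun s y) ∧ y⁻¹ * afun s y ∈ TL ⊓ TN :=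
          fun y hy => ⟨(mul_inv_cancel_left _ _).symm, by rw [hse y hy]; exact hσmod y (hQT hy)⟩
        have hcomm2 : ∀ y ∈ Q, ∃ a ∈ TL ⊓ TN, afun (s * l) y = afun (l * s) y * a := by
          intro y hy
          have hly := afun_mem l hy
          obtain ⟨e1, h1'⟩ := hlam _ hly
          obtain ⟨e2, h2'⟩ := hlam y hy
          refine ⟨(y⁻¹ * afun s y)⁻¹ * ((afun l y)⁻¹ * afun s (afun l y)),
            mul_mem (inv_mem h2') h1', ?_⟩
          rw [afun_mul _ _ hy, afun_mul _ _ hy, e2,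
            afun_map_mul l hy (hJQ (e2 ▸ h2' : _)), hlJ _ h2']
          group
        have hδV : s * l * s⁻¹ * l⁻¹ ∈ V := by
          refine ⟨hlsM, fun y hy => ?_⟩
          have hz := afun_mem s⁻¹ (afun_mem l⁻¹ hy)
          obtain ⟨a, ha, hae⟩ := hcomm2 _ hz
          rw [afun_mul _ _ hz, afun_mul _ _ hz, afun_apply_inv s (afun_mem l⁻¹ hy),
            afun_apply_inv l hy] at hae
          rw [afun_mul _ _ hy, afun_mul _ _ (afun_mem l⁻¹ hy), afun_mul _ _ hz, hae,
            inv_mul_cancel_left]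
          exact ha
        obtain ⟨u, hu, -, hue⟩ := mem_autInducedBy.1 (hQr V (fun d hd => hd.1) hVp hVn hδV)
        have hσsl : ∀ y ∈ Q, afun σ (afun l y) = cj u (afun l (afun σ y)) := by
          intro y hy
          rw [← hse _ (afun_mem l hy), ← hse y hy, ← afun_mul _ _ hy,
            ← hue _ (afun_mem l (afun_mem s hy)), ← afun_mul _ _ hy, ← afun_mul _ _ hy]
          exact congrArg (fun d => afun d y) (show s * l = s * l * s⁻¹ * l⁻¹ * (l * s) by group)
        have hiter : ∀ n : ℕ, ∀ y ∈ Q, afun (σ ^ n) (afun l y) =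
            cj (u ^ n) (afun l y) * (y⁻¹ * afun (σ ^ n) y) ∧
              y⁻¹ * afun (σ ^ n) y ∈ TL ⊓ TN := by
          intro n
          induction n with
          | zero =>
            intro y hy
            rw [pow_zero, pow_zero, afun_one (hQT (afun_mem l hy)), afun_one (hQT hy),
              inv_mul_cancel, cj_one, mul_one]
            exact ⟨rfl, one_mem _⟩
          | succ n ih =>
            intro y hy
            obtain ⟨hn1, hn2⟩ := ih y hy
            have hly := hQT (afun_mem l hy)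
            have hyT := hQT hy
            have hj := hσmod y hyT
            set a := y⁻¹ * afun (σ ^ n) y with hadef
            set j := y⁻¹ * afun σ y with hjdef
            have hye : afun σ y = y * j := (mul_inv_cancel_left _ _).symm
            have hyn : afun (σ ^ n) y = y * a := (mul_inv_cancel_left _ _).symm
            have hun : u ^ n ∈ TL := hQT (Q.pow_mem hu n)
            have hσa : afun σ a ∈ TL ⊓ TN := by
              have := mul_mem hn2 (hσmod a hn2.1)
              rwa [mul_inv_cancel_left] at this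
            have e1 : y⁻¹ * afun (σ ^ (n + 1)) y = j * afun σ a := by
              rw [pow_succ', afun_mul _ _ hyT, hyn, hσm.map_mul hyT hn2.1, hye]
              group
            refine ⟨?_, e1 ▸ mul_mem hj hσa⟩
            rw [e1, pow_succ' σ, afun_mul _ _ hly, hn1,
              hσm.map_mul (show cj (u ^ n) (afun l y) ∈ TL from
                TL.mul_mem (TL.mul_mem hun hly) (TL.inv_mem hun)) hn2.1,
              hσm.map_cj hun hly, hσsl y hy, hye,
              afun_map_mul l hy (hJQ hj), hlJ j hj]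
            have h3 := hσmod (u ^ n) hun
            set k := (u ^ n)⁻¹ * afun σ (u ^ n) with hkdef
            have huT := hQT hu
            rw [show afun σ (u ^ n) = u ^ n * k from (mul_inv_cancel_left _ _).symm, ← cj_cj]
            have hk' : ∀ z ∈ TL, cj k z = z := fun z hz => by
              rw [cj_apply, ← hcommL k h3 z hz, mul_inv_cancel_right]
            have hcjj : ∀ z ∈ TL, cj z j = j := fun z hz => by
              rw [cj_apply, hcommL j hj z hz, mul_inv_cancel_right]
            have hlj : cj u (afun l y * j) = cj u (afun l y) * j := by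
              have := hcjj u huT
              simp only [cj_apply] at this ⊢
              calc u * (afun l y * j) * u⁻¹ = u * afun l y * u⁻¹ * (u * j * u⁻¹) := by group
                _ = _ := by rw [this]
            have hm1 : cj u (afun l y) ∈ TL := TL.mul_mem (TL.mul_mem huT hly) (TL.inv_mem huT)
            rw [hk' _ (show cj u (afun l y * j) ∈ TL from
              TL.mul_mem (TL.mul_mem huT (TL.mul_mem hly hj.1)) (TL.inv_mem huT)), hlj]
            have h5 : cj (u ^ n) (cj u (afun l y) * j) = cj (u ^ (n + 1)) (afun l y) * j := by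
              have := hcjj (u ^ n) hun
              simp only [cj_apply] at this ⊢
              calc u ^ n * (u * afun l y * u⁻¹ * j) * (u ^ n)⁻¹
                  = u ^ n * (u * afun l y * u⁻¹) * (u ^ n)⁻¹ * (u ^ n * j * (u ^ n)⁻¹) := by group
                _ = _ := by rw [this, pow_succ]; group
            rw [h5, mul_assoc]
        -- the inner correction is trivial
        have hufix : ∀ y ∈ Q, cj u (afun l y) = afun l y := fun y hy => by
          obtain ⟨h2, -⟩ := hiter (orderOf σ) y hy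
          rw [pow_orderOf_eq_one, afun_one (hQT (afun_mem l hy)), afun_one (hQT hy),
            inv_mul_cancel, mul_one] at h2
          obtain ⟨i, hi⟩ := hS ⟨u, hQS hu⟩
          have hi' : u ^ p' ^ i = 1 := congrArg Subtype.val hi
          have hmem : u ∈ Subgroup.centralizer ({afun l y} : Set Ω) := by
            refine FusionWeaklyNormal88.mem_of_coprime_pow (hσco.pow_right i) ?_
              (hi' ▸ Subgroup.one_mem _)
            rw [Subgroup.mem_centralizer_singleton_iff]
            rw [eq_comm, cj_apply, mul_inv_eq_iff_eq_mul] at h2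
            exact h2
          rw [Subgroup.mem_centralizer_singleton_iff] at hmem
          rw [cj_apply, hmem, mul_inv_cancel_right]
        have hxT := hQT hx
        have hlx := hQT (afun_mem l hx)
        refine ⟨TL.mul_mem (TL.inv_mem hxT) hlx, ?_⟩
        obtain ⟨h2, h2m⟩ := hiter 1 x hx
        rw [pow_one, pow_one, hufix x hx] at h2
        rw [pow_one] at h2m
        rw [hσm.map_mul (TL.inv_mem hxT) hlx, hσm.map_inv hxT, h2]
        have h6 := hcommL _ h2m (x⁻¹ * afun l x) (TL.mul_mem (TL.inv_mem hxT) hlx)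
        calc (afun σ x)⁻¹ * (afun l x * (x⁻¹ * afun σ x))
            = (x⁻¹ * afun σ x)⁻¹ * ((x⁻¹ * afun l x) * (x⁻¹ * afun σ x)) := by group
          _ = x⁻¹ * afun l x := by rw [h6, inv_mul_cancel_left]
      have hTCW : TC ≤ W := by
        conv_lhs => rw [← hq.2.1]
        refine (Subgroup.closure_le _).2 ?_
        rintro _ ⟨Q, γ, x, hQ, -, rfl⟩
        have := hfixC (sub_mor hEL ((mem_autGroup hQ).1 γ.2)) (x : Ω) x.2
        rwa [afun_coe] at this
      refine ⟨afun β, hbm.restrict_to (sup_le_sup_left hTC R), hβR, fun x hx => ?_⟩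
      rw [← hσe x (hTC hx)]
      exact (hTCW hx).2

omit hM hX in
/-- A component lies in a normal subsystem or each lies in the centralizer of the other. -/
theorem component_or_commute {TC : Subgroup Ω} {C : FusionSystem TC} (hC : C.IsSubnormalIn F p)
    (hq : C.Quasisimple p) {TN : Subgroup Ω} {N : FusionSystem TN} (hN : N.IsNormalIn F p) :
    C.IsSubsystemOf N ∨ (Valid F C TN ∧ Valid F N TC) :=
  component_or_commute' hC inferInstance inferInstance hS hF hq hN

end Cfsg.Agent.FusionCompNormal
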