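import Cfsg.Agent.Lib.FusionLayer
import Cfsg.Agent.Lib.FusionCentralProduct
import Cfsg.Prelude.Def_FusionFitting

/-!
A layer centralizes the largest normal subgroup (`fit_of_layer`), so generalized Fitting subsystems
exist and are normal.
-/

set_option autoImplicit false

namespace Cfsg.Agent.FusionGenFitting

open Cfsg Cfsg.FusionSystem Cfsg.Agent.FusionSysBasic Cfsg.Agent.FusionSysSaturated
open Cfsg.Agent.FusionSysNormal Cfsg.Agent.FusionKit88 Cfsg.Agent.FusionMorph88

variable {Ω : Type*} [Group Ω] {S : Subgroup Ω} {F : FusionSystem S} {p : ℕ}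

theorem ext_of_hom {U : Subgroup Ω} {A B : FusionSystem U} (h : ∀ P, A.Hom P = B.Hom P) :
    A = B := by
  obtain ⟨a, _, _, _, _, _⟩ := A
  obtain ⟨b, _, _, _, _, _⟩ := B
  obtain rfl : a = b := funext h
  rfl

theorem normal_cast {U V : Subgroup Ω} {A : FusionSystem U} {B : FusionSystem V} {W : Subgroup Ω}
    {G : FusionSystem W} (e : U = V) (h : ∀ P, A.Hom P = B.Hom P) (hA : A.IsNormalIn G p) :
    B.IsNormalIn G p := by
  subst e
  rwa [← ext_of_hom h]

variable [Finite S] [Fact p.Prime]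

/-- The data of the central product of the inner system of the largest normal subgroup and a
layer. -/
theorem fit_of_layer (hS : IsPGroup p S) (hF : F.IsSaturated p) {T : Subgroup Ω}
    {E : FusionSystem T} (hE : E.IsLayerOf F p) :
    FusionCentralProduct.Fit F F.core E p := by
  set Q := F.core with hQdef
  have hQn : F.IsNormal Q := core_isNormal
  have hQS := hQn.1
  haveI := finite_of_le hQS
  set CQ := centralizerIn S Q with hCQ
  have hCS : CQ ≤ S := inf_le_left
  haveI := finite_of_le hCS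
  have hcentQ : ∀ c ∈ CQ, ∀ q ∈ Q, cj q c = c := fun c hc q hq => by
    have := (mem_centralizerIn.1 hc).2 q hq
    rw [cj_apply, mul_inv_eq_iff_eq_mul] at this
    rw [cj_apply, ← this, mul_inv_cancel_right]
  set I := Cfsg.innerFusionSystem Q with hIdef
  have hIn : I.IsNormalIn F p := FusionComponentExists.inner_normal hS hF hQn
  have hvalid : ∀ P, I.Hom P ⊆ F.centralizerHom CQ P := fun P φ hφ => by
    obtain ⟨hP, g, hg, he⟩ := FusionSysAlperin.mor_inner_iff.1 (mor_toFun hφ)
    have hPC : P ⊔ CQ ≤ S := sup_le (hP.trans hQS) inf_le_left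
    have hm := mor_cj (F := F) (P := P) (hP.trans hQS) (hQS hg)
    have hQC : ∀ y ∈ Q, y ∈ centralizerIn S CQ := fun y hy =>
      mem_centralizerIn.2 ⟨hQS hy, fun c hc => by
        have := (mem_centralizerIn.1 hc).2 y hy
        rw [cj_apply, mul_inv_eq_iff_eq_mul] at this
        rw [cj_apply, ← this, mul_inv_cancel_right]⟩
    have hval : ∀ x : P, φ x = cj g x := fun x => by rw [← toFun_coe φ x, he x x.2]
    refine ⟨(mor_iff_hom hval).1 hm, fun x hx => hQC x (hP hx), fun x => hQC _ ?_,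
      (ext_central_iff (f := cj g) hval).2 ⟨cj g, mor_cj hPC (hQS hg), fun _ _ => rfl,
        fun c hc => hcentQ c hc g hg⟩⟩
    exact (I.le_of_mem hφ).2 x
  have hY : FusionCentralizerSub.cs F I p = CQ :=
    le_antisymm FusionCentralizerSub.cs_le (FusionCentralizerSub.valid_le_cs hS hF hIn.1.2.2
      ((FusionCentralizerSub.valid_iff hIn.1.2.2.1).2 ⟨le_rfl, hvalid⟩))
  obtain ⟨D', hD'⟩ := FusionCentralizerNormal.exists_normal_centralizer' hS hF hIn
  revert hD'
  revert D'
  rw [hY]
  rintro D ⟨hD, hDQ, hcop⟩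
  -- every map fixing `Q` belongs to `D`
  let DT := centralizerSystem F Q hQS
  have hDT := isCentralizerSystem_centralizerSystem (F := F) Q hQS
  have hDTs : DT.IsSaturated p := FusionSysNormalizer.centralizerSystem_saturated hS hF
    (fullyCentralized_of_fullyNormalized hS hF (FusionWeakAlperin.fullyNormalized_of_normal hQS
      fun _ hg _ hx => cj_mem_of_normalizer (le_normalizer_of_normal hQn hg) hx)) hDT
  have hCp : IsPGroup p CQ := hS.to_le hCS
  have hall : ∀ {P : Subgroup Ω} {f : Ω → Ω}, Mor DT P f → Mor D P f := fun hf => by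
    refine FusionInduct88.induction' hCp hDTs (Φ := fun P f => Mor D P f)
      { congr := fun h he => h.congr he
        conj := fun hP hg => mor_cj hP hg
        comp := fun _ _ _ _ hfQ h1 h2 => h1.comp h2 hfQ
        inv := fun _ _ _ hgf h1 => by
          obtain ⟨k, hk, hkf, -, -⟩ := h1.exists_inv
          refine hk.congr fun y hy => ?_
          obtain ⟨x, hx, rfl⟩ := h1.mem_im.1 hy
          rw [hkf x hx, hgf x hx] }
      (fun R hR α hα hco => ?_) hf
    obtain ⟨-, -, -, ψ, hψ, hψe, hψQ⟩ :=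
      (mor_centralizerSystem_iff hDT).1 ((mem_autGroup hR).1 hα)
    exact hcop hR hco ⟨ψ, hψ, hψe, hψQ⟩
  -- the layer lies in `D`
  have hcomp : ∀ (V : Subgroup Ω) (C : FusionSystem V), C.IsComponentIn F p →
      C.IsSubsystemOf D := fun V C hC => FusionLayer.component_le hC.1 inferInstance inferInstance hS
    hC.2 _ D hD (FusionLayerCore.component_centralizes_core hC.1 inferInstance inferInstance hS hF
      hC.2).1
  have hED := hE.2.2 CQ D hD hcomp
  have hTC : T ≤ CQ := FusionLayer.le_of_subsystem hED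
  have hTS : T ≤ S := hTC.trans hCS
  haveI := finite_of_le hTS
  have hext : ∀ {P : Subgroup Ω} {e : Ω → Ω}, Mor D P e →
      ∃ ψ, Mor F (P ⊔ Q) ψ ∧ (∀ x ∈ P, ψ x = e x) ∧ ∀ q ∈ Q, ψ q = q := fun he => by
    obtain ⟨φ, hφ, hφe⟩ := he
    exact (ext_central_iff hφe).1 (hDQ _ hφ).2.2.2
  -- `E` is normal in `D`
  obtain ⟨M, ⟨hMF, hME, hMD⟩, -⟩ :=
    (⟨hS, hF, hE.1, hD⟩ : FusionMeet.Setup F E D p).exists_meet
  have hEM : E.IsSubsystemOf M := hE.2.2 _ M hMF fun V C hC =>
    FusionLayer.component_le hC.1 inferInstance inferInstance hS hC.2 _ M hMF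
      (le_inf (FusionLayer.le_of_subsystem (hE.2.1 V C hC))
        (FusionLayer.le_of_subsystem (hcomp V C hC)))
  have hEnD : E.IsNormalIn D p := normal_cast (inf_eq_left.2 hTC)
    (fun P => Set.Subset.antisymm (hME.1.2.2.1 P) (hEM P)) hMD
  refine ⟨hS, hF, hQn, hE.1, hTC, fun he => hext (sub_mor hED he), fun {P g} hP hg hgQ => ?_⟩
  have hgT : ∀ x ∈ P, g x ∈ T := fun x hx =>
    closed_apply' hE.1.1.2.2.2.1 hg (Subgroup.mem_sup_left hx) (hP hx)
  have hgD : Mor D P g := hall ((mor_centralizerSystem_iff hDT).2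
    ⟨hg.restrict_to le_sup_left, hP.trans hTC, fun x hx => hTC (hgT x hx), g, hg,
      fun _ _ => rfl, hgQ⟩)
  obtain ⟨a, ha, e, he, hge⟩ := FusionWeaklyNormal88.inv_factor hEnD.1.2.2 hP hgD
  obtain ⟨ψ, hψ, hψe, hψQ⟩ := hext ((mem_autGroup hTC).1 ha)
  exact ⟨ψ, hψ, hψQ, e, he, fun x hx => by rw [hge x hx, hψe _ (he.apply_mem hx)]⟩

/-- Generalized Fitting subsystems exist and are normal. -/
theorem generalized_fitting (hS : IsPGroup p S) (hF : F.IsSaturated p) :
    (∃ (U : Subgroup Ω) (D : FusionSystem U), D.IsGeneralizedFittingOf F p) ∧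
      ∀ (U : Subgroup Ω) (D : FusionSystem U), D.IsGeneralizedFittingOf F p →
        D.IsNormalIn F p := by
  refine ⟨?_, fun U D hD => ?_⟩
  · obtain ⟨T, E, hE⟩ := FusionLayer.exists_layer hS hF
    obtain ⟨D, hD⟩ := (fit_of_layer hS hF hE).exists_cp
    exact ⟨_, D, T, E, hE, hD⟩
  · obtain ⟨T, E, hE, D₀, hprod, Z, θ, hZ, -, -, h1, h2, hfac⟩ := hD
    exact (fit_of_layer hS hF hE).normal hprod h1 h2 hfac hZ

end Cfsg.Agent.FusionGenFitting
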