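import Cfsg.Agent.Lib.FusionCompNormal
import Cfsg.Agent.Lib.FusionGenFitting
import Cfsg.Agent.Lib.FusionCP
import Cfsg.Agent.S5148

/-!
Components pass to normal subsystems containing them (`subnormal_of_le`); two components are equal
or commute (`components_commute`).
-/

set_option autoImplicit false

namespace Cfsg.Agent.FusionComponents

open Cfsg Cfsg.FusionSystem Cfsg.Agent.FusionSysBasic Cfsg.Agent.FusionSysSaturated
open Cfsg.Agent.FusionSysNormal Cfsg.Agent.FusionKit88
open Cfsg.Agent.FusionCentralizerSub (Valid)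

variable {Ω : Type*} [Group Ω] {S : Subgroup Ω} {F : FusionSystem S} {p : ℕ}

theorem subnormal_of_le' {T : Subgroup Ω} {C : FusionSystem T} (h : C.IsSubnormalIn F p) :
    Fact p.Prime → Finite S → IsPGroup p S → C.Quasisimple p →
      ∀ {U : Subgroup Ω} {D : FusionSystem U}, D.IsNormalIn F p → C.IsSubsystemOf D →
        C.IsSubnormalIn D p := by
  induction h with
  | refl F' p' =>
    intro hp hfin hS hq U D hD hCD
    haveI := hp
    haveI := hfin
    obtain rfl : U = T := le_antisymm (sub_le hD.1.2.2.1) (FusionLayer.le_of_subsystem hCD)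
    rw [FusionGenFitting.ext_of_hom fun P => Set.Subset.antisymm (hD.1.2.2.1 P) (hCD P)]
    exact .refl F' p'
  | @step V S' E G F' p' hsub hn ih =>
    intro hp hfin hS hq U D hD hCD
    haveI := hp
    haveI := hfin
    have hVS : V ≤ S' := sub_le hn.1.2.2.1
    haveI := finite_of_le hVS
    obtain ⟨M, ⟨-, hMG, hMD⟩, -⟩ :=
      (⟨hS, hn.1.2.1, hn, hD⟩ : FusionMeet.Setup F' G D p').exists_meet
    have hCM : E.IsSubsystemOf M := FusionLayer.component_le hsub inferInstance inferInstance
      (hS.to_le hVS) hq _ M hMG (le_inf (subnormal_le hsub) (FusionLayer.le_of_subsystem hCD))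
    exact .step (ih hp inferInstance (hS.to_le hVS) hq hMG hCM) hMD

variable [Finite S] [Fact p.Prime]

/-- A component lying in a normal subsystem is subnormal in it. -/
theorem subnormal_of_le (hS : IsPGroup p S) {T U : Subgroup Ω} {C : FusionSystem T}
    {D : FusionSystem U} (h : C.IsComponentIn F p) (hD : D.IsNormalIn F p)
    (hCD : C.IsSubsystemOf D) : C.IsComponentIn D p :=
  ⟨subnormal_of_le' h.1 inferInstance inferInstance hS h.2 hD hCD, h.2⟩

/-- The group of a component is not centralized by itself. -/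
theorem not_self_centralizing (hS : IsPGroup p S) {T : Subgroup Ω} {C : FusionSystem T}
    (h : C.IsComponentIn F p) (hc : T ≤ centralizerIn S T) : False := by
  have hTS := subnormal_le h.1
  haveI := finite_of_le hTS
  refine S5148.false_of_abelian (hS.to_le hTS) h.2 fun a ha b hb => ?_
  have := (mem_centralizerIn.1 (hc ha)).2 b hb
  rwa [cj_apply, mul_inv_eq_iff_eq_mul] at this

omit [Finite S] [Fact p.Prime] in
/-- A quasisimple system is its only component. -/
theorem component_of_quasisimple {T : Subgroup Ω} {C : FusionSystem T}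
    (h : C.IsSubnormalIn F p) :
    Fact p.Prime → Finite S → IsPGroup p S → F.Quasisimple p → C.Quasisimple p →
      T = S ∧ ∀ P, C.Hom P = F.Hom P := by
  induction h with
  | refl F' p' => exact fun _ _ _ _ _ => ⟨rfl, fun _ => rfl⟩
  | @step U S' E D G p' hsub hn ih =>
    intro hp hfin hS hq hC
    haveI := hp
    haveI := hfin
    by_cases hne : U = S'
    · subst hne
      obtain rfl : D = G := FusionGenFitting.ext_of_hom fun P =>
        Set.Subset.antisymm (hn.1.2.2.1 P) (FusionLayer.quasisimple_le hS hq hn P)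
      exact ih hp hfin hS hq hC
    · have hZ := FusionQuotientNormal.quasisimple_proper hS hq hn hne
      refine (not_self_centralizing hS ⟨IsSubnormalIn.step hsub hn, hC⟩ fun x hx => ?_).elim
      have hxU := subnormal_le hsub hx
      exact mem_centralizerIn.2 ⟨(sub_le hn.1.2.2.1) hxU, fun y hy => by
        rw [cj_apply, ← G.center_le_centralizer (hZ hxU) y
          ((sub_le hn.1.2.2.1) (subnormal_le hsub hy)), mul_inv_cancel_right]⟩

omit [Finite S] [Fact p.Prime] in
theorem components_commute' {T' : Subgroup Ω} {C' : FusionSystem T'}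
    (h : C'.IsSubnormalIn F p) :
    Fact p.Prime → Finite S → IsPGroup p S → F.IsSaturated p → C'.Quasisimple p →
      ∀ {T : Subgroup Ω} {C : FusionSystem T}, C.IsComponentIn F p →
        (T = T' ∧ ∀ P, C.Hom P = C'.Hom P) ∨ (Valid F C T' ∧ Valid F C' T) := by
  induction h with
  | refl F' p' =>
    intro hp hfin hS hF hq T C hC
    haveI := hp
    haveI := hfin
    exact Or.inl (component_of_quasisimple hC.1 hp hfin hS hq hC.2)
  | @step U S' E D F' p' hsub hn ih =>
    intro hp hfin hS hF hq T C hC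
    haveI := hp
    haveI := hfin
    have hUS : U ≤ S' := sub_le hn.1.2.2.1
    haveI := finite_of_le hUS
    rcases FusionCompNormal.component_or_commute hS hF hC.1 hC.2 hn with hCD | ⟨h1, h2⟩
    · rcases ih hp inferInstance (hS.to_le hUS) hn.1.1 hq (subnormal_of_le hS hC hn hCD) with
        he | ⟨h1, h2⟩
      · exact Or.inl he
      · refine Or.inr ⟨⟨fun x hx => ?_, fun P f hf => ?_⟩, ⟨fun x hx => ?_, fun P f hf => ?_⟩⟩
        · exact mem_centralizerIn.2
            ⟨hUS (mem_centralizerIn.1 (h1.1 hx)).1, (mem_centralizerIn.1 (h1.1 hx)).2⟩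
        · obtain ⟨ψ, hψ, he, hfix⟩ := h1.2 P f hf
          exact ⟨ψ, sub_mor hn.1.2.2.1 hψ, he, hfix⟩
        · exact mem_centralizerIn.2
            ⟨hUS (mem_centralizerIn.1 (h2.1 hx)).1, (mem_centralizerIn.1 (h2.1 hx)).2⟩
        · obtain ⟨ψ, hψ, he, hfix⟩ := h2.2 P f hf
          exact ⟨ψ, sub_mor hn.1.2.2.1 hψ, he, hfix⟩
    · refine Or.inr ⟨h1.mono (subnormal_le hsub), ⟨fun x hx => mem_centralizerIn.2
        ⟨(mem_centralizerIn.1 (h2.1 hx)).1, fun y hy =>
          (mem_centralizerIn.1 (h2.1 hx)).2 y (subnormal_le hsub hy)⟩, fun P f hf => ?_⟩⟩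
      exact h2.2 P f (sub_mor (FusionComponentExists.subnormal_sub hsub) hf)

/-- Two components are equal or commute. -/
theorem components_commute (hS : IsPGroup p S) (hF : F.IsSaturated p) {T T' : Subgroup Ω}
    {C : FusionSystem T} {C' : FusionSystem T'} (hC : C.IsComponentIn F p)
    (hC' : C'.IsComponentIn F p) :
    (T = T' ∧ ∀ P, C.Hom P = C'.Hom P) ∨ (Valid F C T' ∧ Valid F C' T) :=
  components_commute' hC'.1 inferInstance inferInstance hS hF hC'.2 hC

/-- A component of a central product is a component of a factor. -/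
theorem component_of_factor (hS : IsPGroup p S) (hF : F.IsSaturated p) {S₁ S₂ : Subgroup Ω}
    {F₁ : FusionSystem S₁} {F₂ : FusionSystem S₂} (h₁ : F₁.IsSaturated p) (h₂ : F₂.IsSaturated p)
    (hc : FusionCP.CP F F₁ F₂) {T : Subgroup Ω} {C : FusionSystem T}
    (hC : C.IsComponentIn F p) : C.IsComponentIn F₁ p ∨ C.IsComponentIn F₂ p := by
  have n1 := hc.normal_left hS hF h₁
  have n2 := hc.symm.normal_left hS hF h₂
  rcases FusionCompNormal.component_or_commute hS hF hC.1 hC.2 n1 with h | ⟨-, v1⟩
  · exact Or.inl (subnormal_of_le hS hC n1 h)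
  rcases FusionCompNormal.component_or_commute hS hF hC.1 hC.2 n2 with h | ⟨-, v2⟩
  · exact Or.inr (subnormal_of_le hS hC n2 h)
  refine (not_self_centralizing hS hC fun x hx => mem_centralizerIn.2
    ⟨subnormal_le hC.1 hx, fun y hy => ?_⟩).elim
  obtain ⟨a, ha, b, hb, rfl⟩ :=
    FusionCP.mem_mul hc.comm le_rfl (hc.eq.ge (subnormal_le hC.1 hy))
  have e1 : cj x a = a := (mem_centralizerIn.1 (v1.1 hx)).2 a ha
  have e2 : cj x b = b := (mem_centralizerIn.1 (v2.1 hx)).2 b hb
  simp only [cj_apply] at e1 e2 ⊢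
  calc x * (a * b) * x⁻¹ = (x * a * x⁻¹) * (x * b * x⁻¹) := by group
    _ = a * b := by rw [e1, e2]

end Cfsg.Agent.FusionComponents
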