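import Mathlib
import Cfsg.Agent.Lib.FusionSysChain
import Cfsg.Agent.Lib.FusionSysGroup
import Cfsg.Agent.Lib.SylowCount
import Cfsg.Agent.Lib.HallCore

/-!
A criterion for a saturated system to be constrained, and its consequences for group fusion
systems: constrainedness passes to normal subgroups and to quotients by central subgroups.
-/

set_option autoImplicit false

namespace Cfsg.Agent.FusionConstrained88

open scoped commutatorElement
open Cfsg Cfsg.FusionSystem Cfsg.Agent.FusionSysBasic Cfsg.Agent.FusionSysSaturated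
  Cfsg.Agent.FusionSysNormal Cfsg.Agent.FusionSysChain Cfsg.Agent.FusionSysGroup

section Criterion

variable {Ω : Type*} [Group Ω] {S : Subgroup Ω} [Finite S] {F : FusionSystem S} {p : ℕ}
  [Fact p.Prime]

omit [Finite S] [Fact p.Prime] in
theorem mul_comm_of_centralizer {R : Subgroup Ω} {a : Ω} (ha : a ∈ centralizerIn S R) {r : Ω}
    (hr : r ∈ R) : a * r = r * a := by
  have := (mem_centralizerIn.1 ha).2 r hr
  rwa [cj_apply, mul_inv_eq_iff_eq_mul] at this

/-- A strongly closed subgroup centralizing a normal subgroup `R` and abelian modulo `R` lies in the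
largest normal subgroup. -/
theorem le_core_of_centralizing (hS : IsPGroup p S) (hF : F.IsSaturated p) {R A : Subgroup Ω}
    (hR : F.IsNormal R) (hA : F.StronglyClosed A) (hAC : A ≤ centralizerIn S R)
    (hab : ⁅A, A⁆ ≤ R) : A ≤ F.core := by
  set Q := R ⊔ A with hQdef
  have hmul : ∀ x ∈ Q, ∃ r ∈ R, ∃ a ∈ A, r * a = x := by
    intro x hx
    rw [hQdef, ← SetLike.mem_coe, Subgroup.coe_mul_of_right_le_normalizer_left _ _
      (hA.1.trans (le_normalizer_of_normal hR))] at hx
    obtain ⟨r, hr, a, ha, e⟩ := Set.mem_mul.1 hx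
    exact ⟨r, hr, a, ha, e⟩
  have hQcl : F.StronglyClosed Q := by
    refine stronglyClosed_iff.2 ⟨sup_le hR.1 hA.1, fun P f hP hf x hx => ?_⟩
    obtain ⟨f', hf', hag, him⟩ := (isNormal_iff.1 hR).2 P f hf
    obtain ⟨r, hr, a, ha, e⟩ := hmul x (hP hx)
    have hrm : r ∈ P ⊔ R := Subgroup.mem_sup_right hr
    have ham : a ∈ P ⊔ R := by
      have := (P ⊔ R).mul_mem ((P ⊔ R).inv_mem hrm) (Subgroup.mem_sup_left hx)
      rwa [← e, inv_mul_cancel_left] at this
    rw [← hag x hx, ← e, hf'.map_mul hrm ham]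
    exact Q.mul_mem (Subgroup.mem_sup_left (him.le (apply_mem_im hr)))
      (Subgroup.mem_sup_right (stronglyClosed_invariant hA hf' ham ha))
  obtain ⟨m, Y, hY0, hYm, hYmono, hYn, hYc⟩ := exists_chain_of_normal hS hR
  refine (le_sup_right : A ≤ Q).trans (le_core ?_)
  refine isNormal_of_chain hS hF (n := m + 1) (fun i => if i ≤ m then Y i else Q)
    (by simp [hY0]) (by simp [hQdef]) hQcl (fun i hi => ?_) (fun i hi => ?_) (fun i hi => ?_)
  · have hi' : i ≤ m := by omega
    by_cases h : i + 1 ≤ m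
    · simp only [hi', h, if_true]; exact hYmono (Nat.le_succ i)
    · have e : i = m := by omega
      subst e
      simp only [le_refl, h, if_true, if_false, hYm]; exact le_sup_left
  · by_cases h : i + 1 ≤ m
    · simp only [h, if_true]; exact stronglyClosed_of_normal (hYn _)
    · simp only [h, if_false]; exact hQcl
  · have hi' : i ≤ m := by omega
    by_cases h : i + 1 ≤ m
    · simp only [hi', h, if_true]
      refine Subgroup.commutator_le.2 fun x hx y hy => ?_
      obtain ⟨r, hr, a, ha, rfl⟩ := hmul x hx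
      have hyR : y ∈ R := hYm ▸ hYmono h hy
      have e : ⁅r * a, y⁆ = ⁅r, y⁆ := by
        simp only [commutatorElement_def, mul_inv_rev]
        rw [show r * a * y * (a⁻¹ * r⁻¹) = r * (a * y * a⁻¹) * r⁻¹ by group,
          mul_comm_of_centralizer (hAC ha) hyR, mul_inv_cancel_right]
      rw [e]
      exact hYc i (Subgroup.commutator_mem_commutator hr hy)
    · have e : i = m := by omega
      subst e
      simp only [le_refl, h, if_true, if_false, hYm]
      refine Subgroup.commutator_le.2 fun x hx y hy => ?_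
      obtain ⟨r, hr, a, ha, rfl⟩ := hmul x hx
      obtain ⟨r', hr', a', ha', rfl⟩ := hmul y hy
      have c1 := mul_comm_of_centralizer (hAC ha) hr'
      have c2 := mul_comm_of_centralizer (hAC (A.inv_mem ha')) (R.inv_mem hr)
      have e1 : ⁅r * a, r' * a'⁆ = r * (r' * ⁅a, a'⁆) * r⁻¹ * r'⁻¹ := by
        simp only [commutatorElement_def, mul_inv_rev]
        calc r * a * (r' * a') * (a⁻¹ * r⁻¹) * (a'⁻¹ * r'⁻¹)
            = r * (a * r') * a' * a⁻¹ * (r⁻¹ * a'⁻¹) * r'⁻¹ := by group
          _ = r * (r' * a) * a' * a⁻¹ * (a'⁻¹ * r⁻¹) * r'⁻¹ := by rw [c1, c2]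
          _ = _ := by group
      rw [e1]
      have hc' : ⁅a, a'⁆ ∈ R := hab (Subgroup.commutator_mem_commutator ha ha')
      exact R.mul_mem (R.mul_mem (R.mul_mem hr (R.mul_mem hr' hc')) (R.inv_mem hr)) (R.inv_mem hr')

omit [Finite S] [Fact p.Prime] in
theorem centralizer_stronglyClosed {R : Subgroup Ω} (hR : F.IsNormal R) :
    F.StronglyClosed (centralizerIn S R) := by
  refine stronglyClosed_iff.2 ⟨inf_le_left, fun P f hP hf x hx => ?_⟩
  obtain ⟨f', hf', hag, him⟩ := (isNormal_iff.1 hR).2 P f hf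
  refine mem_centralizerIn.2 ⟨hf.apply_mem hx, fun y hy => ?_⟩
  obtain ⟨r, hr, rfl⟩ := (hf'.restrict_to le_sup_right).mem_im.1 (him.ge hy)
  rw [← hag x hx, ← hf'.map_cj (Subgroup.mem_sup_left hx) (Subgroup.mem_sup_right hr),
    (mem_centralizerIn.1 (hP hx)).2 r hr]

/-- A saturated system with a normal subgroup `R` whose centralizer is abelian modulo `R` is
constrained. -/
theorem constrained_of_normal (hS : IsPGroup p S) (hF : F.IsSaturated p) {R : Subgroup Ω}
    (hR : F.IsNormal R) (hab : ⁅centralizerIn S R, centralizerIn S R⁆ ≤ R) : F.IsConstrained p := by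
  have h := le_core_of_centralizing hS hF hR (centralizer_stronglyClosed hR) le_rfl hab
  refine ⟨hF, F.core, core_isNormal, core_isNormal.1, fun Q hQ => ?_⟩
  obtain ⟨f, hf, rfl⟩ := FusionSysBasic.isConj_iff.1 hQ
  rw [hf.im_self fun x hx => stronglyClosed_invariant (stronglyClosed_of_normal core_isNormal) hf hx hx]
  intro c hc
  obtain ⟨hcS, hcc⟩ := mem_centralizerIn.1 hc
  exact h (mem_centralizerIn.2 ⟨hcS, fun x hx => hcc x (le_core hR hx)⟩)

/-- Commutators of two elements acting on `R` through commuting fixed translations centralize `R`. -/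
theorem comm_centralizes {G : Type*} [Group G] {R : Subgroup G} {a b : G}
    (hb : b ∈ Subgroup.normalizer (R : Set G)) (ha : a ∈ Subgroup.normalizer (R : Set G))
    (h : ∀ x ∈ R, cj a (x⁻¹ * cj b x) = x⁻¹ * cj b x ∧ cj b (x⁻¹ * cj a x) = x⁻¹ * cj a x ∧
      (x⁻¹ * cj a x) * (x⁻¹ * cj b x) = (x⁻¹ * cj b x) * (x⁻¹ * cj a x))
    {x : G} (hx : x ∈ R) : cj ⁅a, b⁆ x = x := by
  have key : ∀ y ∈ R, cj (a * b) y = cj (b * a) y := by
    intro y hy
    obtain ⟨h1, h2, h3⟩ := h y hy
    have e : ∀ u v : G, cj (u * v) y = y * (y⁻¹ * cj u y) * cj u (y⁻¹ * cj v y) := fun u v => by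
      simp only [cj_apply]; group
    rw [e a b, e b a, h1, h2, mul_assoc, h3, ← mul_assoc]
  have hy : cj (b * a)⁻¹ x ∈ R :=
    cj_mem_of_normalizer (inv_mem (mul_mem hb ha)) hx
  rw [show ⁅a, b⁆ = (a * b) * (b * a)⁻¹ by rw [commutatorElement_def]; group, ← cj_cj, key _ hy,
    cj_cj_inv]

end Criterion

section Groups

variable {G H : Type*} [Group G] [Group H] [Finite G] [Finite H] {p : ℕ} [Fact p.Prime]

theorem centralizer_le_of_constrained {S : Subgroup G}
    (hc : (groupFusionSystem S).IsConstrained p) :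
    ∃ R, (groupFusionSystem S).IsNormal R ∧ centralizerIn S R ≤ R := by
  obtain ⟨-, R, hR, hcen⟩ := hc
  exact ⟨R, hR, hcen.2 R (isConj_refl hcen.1)⟩

omit [Finite G] [Finite H] [Fact p.Prime] in
theorem commutator_le_left {A : Subgroup G} : ⁅A, A⁆ ≤ A :=
  Subgroup.commutator_le.2 fun a ha b hb =>
    A.mul_mem (A.mul_mem (A.mul_mem ha hb) (A.inv_mem ha)) (A.inv_mem hb)

/-- The Sylow subgroup of a normal subgroup, read through an injective homomorphism. -/
theorem exists_sylow_comap (S : Sylow p G) (ι : H →* G) (hι : Function.Injective ι)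
    [hn : ι.range.Normal] : ∃ T : Sylow p H, (T : Subgroup H) = (S : Subgroup G).comap ι := by
  have hp : IsPGroup p ((S : Subgroup G).comap ι) := S.isPGroup'.comap_of_injective ι hι
  refine ⟨hp.toSylow ?_, rfl⟩
  rw [Subgroup.index_comap]
  have := SylowCount.inf_normal_not_dvd S ι.range
  rwa [← Subgroup.relIndex, Subgroup.inf_relIndex_right] at this

/-- Constrainedness passes to normal subgroups. -/
theorem constrained_comap (S : Sylow p G) (ι : H →* G) (hι : Function.Injective ι)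
    [hn : ι.range.Normal] (hc : (groupFusionSystem (S : Subgroup G)).IsConstrained p) :
    (groupFusionSystem ((S : Subgroup G).comap ι)).IsConstrained p := by
  obtain ⟨T, hT⟩ := exists_sylow_comap S ι hι
  obtain ⟨R, hR, hcen⟩ := centralizer_le_of_constrained hc
  rw [← hT]
  have hT' : IsPGroup p (T : Subgroup H) := T.isPGroup'
  have hsat := saturated_group T
  have hcl : ∀ X : Subgroup G, (groupFusionSystem (S : Subgroup G)).StronglyClosed X →
      (groupFusionSystem (T : Subgroup H)).StronglyClosed (X.comap ι) := by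
    intro X hX
    refine stronglyClosed_iff.2 ⟨hT ▸ Subgroup.comap_mono hX.1, fun P f hP hf x hx => ?_⟩
    obtain ⟨-, g, hg, hgT⟩ := mor_group_iff.1 hf
    have hm : Mor (groupFusionSystem (S : Subgroup G)) (P.map ι) (cj (ι g)) := by
      refine mor_group_iff.2 ⟨?_, ι g, fun _ _ => rfl, ?_⟩
      · rintro _ ⟨y, hy, rfl⟩; exact hX.1 (hP hy)
      · rintro _ ⟨y, hy, rfl⟩
        have := hT.le (hgT y hy)
        simpa [cj_apply] using this
    show ι (f x) ∈ X
    rw [hg x hx, cj_apply, map_mul, map_mul, map_inv]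
    exact stronglyClosed_invariant hX hm ⟨x, hx, rfl⟩ (hP hx)
  have hRcl := stronglyClosed_of_normal hR
  set R₀ := R.comap ι with hR₀
  have hR₀n : (groupFusionSystem (T : Subgroup H)).IsNormal R₀ := by
    obtain ⟨m, Y, hY0, hYm, hYmono, hYn, hYc⟩ := exists_chain_of_normal S.isPGroup' hR
    refine isNormal_of_chain hT' hsat (n := m) (fun i => (Y i).comap ι) ?_ (by simp [hYm, hR₀])
      (hcl R hRcl) (fun i _ => Subgroup.comap_mono (hYmono (Nat.le_succ i)))
      (fun i _ => hcl _ (stronglyClosed_of_normal (hYn _))) (fun i _ => ?_)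
    · simp only [hY0, MonoidHom.comap_bot, (MonoidHom.ker_eq_bot_iff ι).2 hι]
    · refine Subgroup.commutator_le.2 fun a ha b hb => ?_
      show ι ⁅a, b⁆ ∈ Y i
      rw [map_commutatorElement]
      exact hYc i (Subgroup.commutator_mem_commutator ha hb)
  refine constrained_of_normal hT' hsat hR₀n (Subgroup.commutator_le.2 fun a ha b hb => ?_)
  show ι ⁅a, b⁆ ∈ R
  obtain ⟨haT, hac⟩ := mem_centralizerIn.1 ha
  obtain ⟨hbT, hbc⟩ := mem_centralizerIn.1 hb
  have haS : ι a ∈ (S : Subgroup G) := hT.le haT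
  have hbS : ι b ∈ (S : Subgroup G) := hT.le hbT
  have hnR := le_normalizer_of_normal hR
  have hz : ∀ c : H, ι c ∈ (S : Subgroup G) → ∀ x ∈ R, ∃ z : H, z ∈ R₀ ∧ ι z = x⁻¹ * cj (ι c) x := by
    intro c hcS x hx
    have h1 : x⁻¹ * cj (ι c) x ∈ ι.range := by
      rw [show x⁻¹ * cj (ι c) x = x⁻¹ * ι c * (x⁻¹)⁻¹ * (ι c)⁻¹ by simp only [cj_apply]; group]
      exact mul_mem (hn.conj_mem _ ⟨c, rfl⟩ x⁻¹) (inv_mem ⟨c, rfl⟩)
    obtain ⟨z, hz⟩ := h1
    exact ⟨z, show ι z ∈ R from hz ▸ R.mul_mem (R.inv_mem hx) (cj_mem_of_normalizer (hnR hcS) hx), hz⟩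
  have hfix : ∀ c : H, (∀ r ∈ R₀, cj c r = r) → ∀ r ∈ R₀, cj (ι c) (ι r) = ι r := fun c hc r hr => by
    rw [cj_apply, ← map_inv, ← map_mul, ← map_mul, ← cj_apply, hc r hr]
  rw [map_commutatorElement]
  refine hcen (mem_centralizerIn.2 ⟨Subgroup.commutator_le.1 commutator_le_left _ haS _ hbS,
    fun x hx => comm_centralizes (hnR hbS) (hnR haS) (fun y hy => ?_) hx⟩)
  obtain ⟨za, hza, ea⟩ := hz a haS y hy
  obtain ⟨zb, hzb, eb⟩ := hz b hbS y hy
  refine ⟨by rw [← eb]; exact hfix a hac zb hzb, by rw [← ea]; exact hfix b hbc za hza, ?_⟩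
  obtain ⟨w, hw⟩ : cj y (ι zb) ∈ ι.range := hn.conj_mem _ ⟨zb, rfl⟩ y
  have hwR : w ∈ R₀ := show ι w ∈ R from hw ▸ R.mul_mem (R.mul_mem hy hzb) (R.inv_mem hy)
  have h1 : cj (ι a) (cj y (ι zb)) = cj y (ι zb) := by rw [← hw]; exact hfix a hac w hwR
  have h2 : cj (ι a) (ι zb) = ι zb := hfix a hac zb hzb
  have h3 : cj (y⁻¹ * cj (ι a) y) (ι zb) = ι zb := by
    have e : cj (y⁻¹ * cj (ι a) y) (ι zb) = cj y⁻¹ (cj (ι a) (cj y (cj (ι a)⁻¹ (ι zb)))) := by
      simp only [cj_apply]; group
    rw [e, show cj (ι a)⁻¹ (ι zb) = ι zb by conv_lhs => rw [← h2, cj_inv_cj], h1, cj_inv_cj]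
  rw [cj_apply, mul_inv_eq_iff_eq_mul] at h3
  rw [← eb]
  exact h3

/-- Constrainedness passes to quotients by central subgroups. -/
theorem constrained_map (S : Sylow p G) (π : G →* H) (hπ : Function.Surjective π)
    (hker : π.ker ≤ Subgroup.center G) (hc : (groupFusionSystem (S : Subgroup G)).IsConstrained p) :
    (groupFusionSystem ((S : Subgroup G).map π)).IsConstrained p := by
  obtain ⟨R, hR, hcen⟩ := centralizer_le_of_constrained hc
  let T : Sylow p H := S.mapSurjective hπ
  have hT : (T : Subgroup H) = (S : Subgroup G).map π := Sylow.coe_mapSurjective hπ S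
  rw [← hT]
  have hT' : IsPGroup p (T : Subgroup H) := T.isPGroup'
  have hsat := saturated_group T
  -- a `p`-element lying over `S` lies in `S`
  have hin : ∀ y : G, (∃ k : ℕ, y ^ p ^ k = 1) → π y ∈ (S : Subgroup G).map π → y ∈ (S : Subgroup G) := by
    rintro y ⟨k, hk⟩ ⟨s, hs, e⟩
    have hz : s⁻¹ * y ∈ π.ker := by
      rw [MonoidHom.mem_ker, map_mul, map_inv, e, inv_mul_cancel]
    have hzc := hker hz
    have hcomm : Commute s⁻¹ y := by
      have h1 := Subgroup.mem_center_iff.1 hzc s⁻¹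
      show s⁻¹ * y = y * s⁻¹
      calc s⁻¹ * y = s * (s⁻¹ * (s⁻¹ * y)) := by group
        _ = s * ((s⁻¹ * y) * s⁻¹) := by rw [h1]
        _ = _ := by group
    obtain ⟨l, hl⟩ := S.isPGroup' ⟨s, hs⟩
    have hl' : s ^ p ^ l = 1 := congrArg Subtype.val hl
    have hzp : (s⁻¹ * y) ^ p ^ (k + l) = 1 := by
      rw [hcomm.mul_pow, inv_pow, pow_add]
      conv_lhs => rw [pow_mul y, hk, one_pow, mul_comm (p ^ k), pow_mul, hl', one_pow, inv_one, one_mul]
    haveI : (Subgroup.zpowers (s⁻¹ * y)).Normal := ⟨fun n hn g => by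
      have := Subgroup.mem_center_iff.1 ((Subgroup.zpowers_le.2 hzc) hn) g
      rw [this, mul_inv_cancel_right]
      exact hn⟩
    have hP : IsPGroup p (Subgroup.zpowers (s⁻¹ * y)) := by
      obtain ⟨c, -, hc⟩ := (Nat.dvd_prime_pow (Fact.out (p := p.Prime))).1 (orderOf_dvd_of_pow_eq_one hzp)
      exact IsPGroup.of_card (n := c) (by rw [Nat.card_zpowers, hc])
    have hzS : s⁻¹ * y ∈ (S : Subgroup G) :=
      HallCore.pCore_le_sylow S ((le_sSup ⟨inferInstance, hP⟩ : _ ≤ Cfsg.pCore p G) (Subgroup.mem_zpowers _))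
    simpa using (S : Subgroup G).mul_mem hs hzS
  have hcl : ∀ X : Subgroup G, (groupFusionSystem (S : Subgroup G)).StronglyClosed X →
      (groupFusionSystem (T : Subgroup H)).StronglyClosed (X.map π) := by
    intro X hX
    refine stronglyClosed_iff.2 ⟨hT ▸ Subgroup.map_mono hX.1, fun P f hP hf x hx => ?_⟩
    obtain ⟨-, g', hg, hgT⟩ := mor_group_iff.1 hf
    obtain ⟨g, rfl⟩ := hπ g'
    obtain ⟨y, hy, rfl⟩ := hP hx
    have hgy : cj g y ∈ (S : Subgroup G) := by
      refine hin _ ?_ ?_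
      · obtain ⟨k, hk⟩ := S.isPGroup' ⟨y, hX.1 hy⟩
        have hk' : y ^ p ^ k = 1 := congrArg Subtype.val hk
        exact ⟨k, by rw [cj_apply, conj_pow, hk', mul_one, mul_inv_cancel]⟩
      · rw [show π (cj g y) = cj (π g) (π y) by simp [cj_apply], ← hT]
        exact hgT _ hx
    refine ⟨cj g y, ?_, ?_⟩
    · have hm : Mor (groupFusionSystem (S : Subgroup G)) (Subgroup.zpowers y) (cj g) := by
        refine mor_group_iff.2 ⟨Subgroup.zpowers_le.2 (hX.1 hy), g, fun _ _ => rfl, ?_⟩
        have hle : Subgroup.zpowers y ≤ (S : Subgroup G).comap (MulAut.conj g).toMonoidHom :=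
          Subgroup.zpowers_le.2 hgy
        exact fun z hz => hle hz
      exact stronglyClosed_invariant hX hm (Subgroup.mem_zpowers y) hy
    · rw [hg _ hx]; simp [cj_apply]
  set R₀ := R.map π with hR₀
  have hR₀n : (groupFusionSystem (T : Subgroup H)).IsNormal R₀ := by
    obtain ⟨m, Y, hY0, hYm, hYmono, hYn, hYc⟩ := exists_chain_of_normal S.isPGroup' hR
    refine isNormal_of_chain hT' hsat (n := m) (fun i => (Y i).map π) (by simp [hY0])
      (by simp [hYm, hR₀]) (hcl R (stronglyClosed_of_normal hR))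
      (fun i _ => Subgroup.map_mono (hYmono (Nat.le_succ i)))
      (fun i _ => hcl _ (stronglyClosed_of_normal (hYn _))) (fun i _ => ?_)
    rw [hR₀, ← Subgroup.map_commutator]
    exact Subgroup.map_mono (hYc i)
  refine constrained_of_normal hT' hsat hR₀n (Subgroup.commutator_le.2 fun a' ha b' hb => ?_)
  obtain ⟨haT, hac⟩ := mem_centralizerIn.1 ha
  obtain ⟨hbT, hbc⟩ := mem_centralizerIn.1 hb
  obtain ⟨a, haS, rfl⟩ := hT.le haT
  obtain ⟨b, hbS, rfl⟩ := hT.le hbT
  refine ⟨⁅a, b⁆, hcen (mem_centralizerIn.2 ⟨Subgroup.commutator_le.1 commutator_le_left _ haS _ hbS,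
    fun x hx => comm_centralizes (le_normalizer_of_normal hR hbS) (le_normalizer_of_normal hR haS)
      (fun y hy => ?_) hx⟩), map_commutatorElement π a b⟩
  have hz : ∀ c : G, cj (π c) (π y) = π y → y⁻¹ * cj c y ∈ Subgroup.center G := fun c hc => hker (by
    rw [MonoidHom.mem_ker, map_mul, map_inv, show π (cj c y) = cj (π c) (π y) by simp [cj_apply], hc,
      inv_mul_cancel])
  have za := hz a (hac _ ⟨y, hy, rfl⟩)
  have zb := hz b (hbc _ ⟨y, hy, rfl⟩)
  exact ⟨by rw [cj_apply a, Subgroup.mem_center_iff.1 zb a, mul_inv_cancel_right],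
    by rw [cj_apply b, Subgroup.mem_center_iff.1 za b, mul_inv_cancel_right],
    Subgroup.mem_center_iff.1 zb _⟩

end Groups

end Cfsg.Agent.FusionConstrained88

namespace Cfsg.Agent.FusionConstrained88

open Cfsg Cfsg.FusionSystem

/-- Constrainedness passes to subnormal subgroups. -/
theorem constrained_subnormal {G : Type*} [Group G] [Finite G] {p : ℕ} [Fact p.Prime]
    (S : Sylow p G) (hc : (groupFusionSystem (S : Subgroup G)).IsConstrained p) {H : Subgroup G}
    (hH : H.IsSubnormal) :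
    ∃ T : Sylow p H, (T : Subgroup H) = (S : Subgroup G).subgroupOf H ∧
      (groupFusionSystem (T : Subgroup H)).IsConstrained p := by
  induction hH with
  | top =>
    haveI : (⊤ : Subgroup G).subtype.range.Normal := by rw [Subgroup.range_subtype]; infer_instance
    obtain ⟨T, hT⟩ := exists_sylow_comap S (⊤ : Subgroup G).subtype (Subgroup.subtype_injective _)
    exact ⟨T, hT, hT ▸ constrained_comap S _ (Subgroup.subtype_injective _) hc⟩
  | step H K hle hK hN ih =>
    obtain ⟨T, hT, hTc⟩ := ih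
    haveI : (Subgroup.inclusion hle).range.Normal := by rw [Subgroup.inclusion_range]; exact hN
    obtain ⟨U, hU⟩ := exists_sylow_comap T (Subgroup.inclusion hle) (Subgroup.inclusion_injective hle)
    refine ⟨U, ?_, hU ▸ constrained_comap T _ (Subgroup.inclusion_injective hle) hTc⟩
    rw [hU, hT]
    exact SetLike.ext fun x => Iff.rfl

end Cfsg.Agent.FusionConstrained88
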