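import Cfsg.Agent.Lib.FusionSysChain
import Cfsg.Agent.Lib.FusionInduct88
import Cfsg.Agent.Lib.TransferOmega
import Cfsg.Agent.Lib.PGroupsCritical
import Cfsg.Agent.Lib.PGroupsBasic
import Cfsg.Agent.Lib.OmegaCoprime

/-!
Elements of order `p` (or `4`) of the hyperfocal subgroup control normality of `S` in a saturated
fusion system.
-/

set_option autoImplicit false

namespace Cfsg.Agent.FusionSmallElements

open Cfsg Cfsg.FusionSystem Cfsg.Agent.FusionSysBasic Cfsg.Agent.FusionSysSaturated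
open Cfsg.Agent.TransferOmega (IsSmall)
open scoped commutatorElement

/-- A coprime automorphism moving `x` by an element it fixes fixes `x`. -/
theorem eq_of_step {P : Type*} [Group P] {p : ℕ} (hP : IsPGroup p P) {α : MulAut P}
    (hα : (orderOf α).Coprime p) {x : P} (h : α (x⁻¹ * α x) = x⁻¹ * α x) : α x = x := by
  have hit : ∀ n : ℕ, (α ^ n) x = x * (x⁻¹ * α x) ^ n := by
    intro n
    induction n with
    | zero => simp
    | succ n ih =>
      rw [pow_succ', MulAut.mul_apply, ih, map_mul, map_pow, h, pow_succ', ← mul_assoc x,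
        mul_inv_cancel_left]
  have h1 := hit (orderOf α)
  rw [pow_orderOf_eq_one, MulAut.one_apply, left_eq_mul] at h1
  obtain ⟨k, hk⟩ := hP (x⁻¹ * α x)
  have h2 := pow_gcd_eq_one.mpr ⟨h1, hk⟩
  rw [(Nat.Coprime.pow_right k hα).gcd_eq_one, pow_one, inv_mul_eq_one] at h2
  exact h2.symm

/-- Some characteristic subgroup of small exponent detects automorphisms of order prime to `p`. -/
theorem exists_detecting {P : Type*} [Group P] [Finite P] {p : ℕ} [Fact p.Prime]
    (hP : IsPGroup p P) :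
    ∃ D : Subgroup P, (∀ α : MulAut P, ∀ x ∈ D, α x ∈ D) ∧ (∀ x ∈ D, IsSmall p x) ∧
      ∀ α : MulAut P, (orderOf α).Coprime p → (∀ x ∈ D, α x = x) → α = 1 := by
  obtain ⟨C, hCc, hfr, hcom, hcent⟩ := PGroupsCritical.exists_critical hP
  haveI := hCc
  have hz : ∀ x ∈ C, ∀ y ∈ C, ⁅y, x⁆ ∈ C ⊓ Subgroup.centralizer (C : Set P) := fun x _ y hy =>
    hcom (Subgroup.commutator_mem_commutator hy (Subgroup.mem_top x))
  have hpow : ∀ y ∈ C, y ^ p ∈ Subgroup.centralizer (C : Set P) := fun y hy =>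
    hfr ⟨⟨y, hy⟩ ^ p, PGroupsBasic.pow_mem_frattini (hP.to_subgroup C) _, rfl⟩
  obtain ⟨e, he⟩ : ∃ e : ℕ, e = if p = 2 then 4 else p := ⟨_, rfl⟩
  -- powers of products
  have hmul : ∀ x ∈ C, ∀ y ∈ C, (x * y) ^ e = x ^ e * y ^ e := by
    intro x hx y hy
    have hw := hz x hx y hy
    set z := ⁅x⁻¹, y⁻¹⁆ with hzdef
    have hzc : z ∈ C ⊓ Subgroup.centralizer (C : Set P) := hz _ (C.inv_mem hy) _ (C.inv_mem hx)
    have hcx : ∀ c ∈ C, Commute z c := fun c hc => (Subgroup.mem_centralizer_iff.mp hzc.2 c hc).symm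
    have hrel : y * x = x * y * ⁅y⁻¹, x⁻¹⁆ := by simp only [commutatorElement_def]; group
    set t := ⁅y⁻¹, x⁻¹⁆ with htdef
    have htc : t ∈ C ⊓ Subgroup.centralizer (C : Set P) := hz _ (C.inv_mem hx) _ (C.inv_mem hy)
    have htcomm : ∀ c ∈ C, Commute t c := fun c hc =>
      (Subgroup.mem_centralizer_iff.mp htc.2 c hc).symm
    have hyn : ∀ n : ℕ, y ^ n * x = x * y ^ n * t ^ n := by
      intro n
      induction n with
      | zero => simp
      | succ n ih =>
        calc y ^ (n + 1) * x = y ^ n * (y * x) := by rw [pow_succ]; group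
          _ = (y ^ n * x) * y * t := by rw [hrel]; group
          _ = x * y ^ n * (t ^ n * y) * t := by rw [ih]; group
          _ = x * y ^ n * (y * t ^ n) * t := by rw [((htcomm y hy).pow_left n).eq]
          _ = x * y ^ (n + 1) * t ^ (n + 1) := by rw [pow_succ y, pow_succ t]; group
    have htp : t ^ p = 1 := by
      have h1 := hyn p
      rw [← Subgroup.mem_centralizer_iff.mp (hpow y hy) x hx, left_eq_mul] at h1
      exact h1
    rw [OmegaCoprime.mul_pow_class_two hrel (htcomm x hx) (htcomm y hy)]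
    suffices t ^ e.choose 2 = 1 by rw [this, mul_one]
    obtain ⟨m, hm⟩ : p ∣ e.choose 2 := by
      rw [he]
      by_cases h : p = 2
      · subst h; decide
      · rw [if_neg h]
        exact (Fact.out : p.Prime).dvd_choose_self two_ne_zero
          (lt_of_le_of_ne (Fact.out : p.Prime).two_le (Ne.symm h))
    rw [hm, pow_mul, htp, one_pow]
  let D : Subgroup P :=
    { carrier := {x | x ∈ C ∧ x ^ e = 1}
      one_mem' := ⟨C.one_mem, one_pow _⟩
      mul_mem' := fun {x y} hx hy => ⟨C.mul_mem hx.1 hy.1, by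
        rw [hmul x hx.1 y hy.1, hx.2, hy.2, mul_one]⟩
      inv_mem' := fun {x} hx => ⟨C.inv_mem hx.1, by rw [inv_pow, hx.2, inv_one]⟩ }
  have hCinv : ∀ α : MulAut P, ∀ c ∈ C, α c ∈ C := fun α c hc => by
    have := Subgroup.characteristic_iff_le_comap.mp hCc α hc
    exact this
  refine ⟨D, fun α x hx => ⟨hCinv α x hx.1, by rw [← map_pow, hx.2, map_one]⟩, fun x hx => ?_,
    fun α hα hfix => ?_⟩
  · have h : x ^ e = 1 := hx.2
    rw [he] at h
    by_cases h2 : p = 2
    · rw [if_pos h2] at h; exact Or.inr ⟨h2, h⟩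
    · rw [if_neg h2] at h; exact Or.inl h
  -- `α` fixes `C`
  haveI : Finite (MulAut P) :=
    Finite.of_injective (fun β : MulAut P => (β : P → P)) DFunLike.coe_injective
  have hC : ∀ c ∈ C, α c = c := by
    by_contra hne
    haveI : Finite (P ⋊[MonoidHom.id (MulAut P)] MulAut P) :=
      Finite.of_equiv _ SemidirectProduct.equivProd.symm
    let i : P →* P ⋊[MonoidHom.id (MulAut P)] MulAut P := SemidirectProduct.inl
    let a : P ⋊[MonoidHom.id (MulAut P)] MulAut P := SemidirectProduct.inr α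
    have hconj : ∀ c, a * i c * a⁻¹ = i (α c) := fun c => by
      rw [← map_inv]
      exact (SemidirectProduct.inl_aut (φ := MonoidHom.id (MulAut P)) α c).symm
    have ha : a ∈ Subgroup.normalizer ((C.map i : Subgroup _) : Set _) := by
      rw [Subgroup.mem_normalizer_iff]
      intro y
      constructor
      · rintro ⟨c, hc, rfl⟩
        exact ⟨α c, hCinv α c hc, (hconj c).symm⟩
      · rintro ⟨c, hc, hce⟩
        refine ⟨α⁻¹ c, hCinv _ c hc, ?_⟩
        have h1 := hconj (α⁻¹ c)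
        rw [MulAut.apply_inv_self, hce] at h1
        exact mul_left_cancel (mul_right_cancel h1)
    have hord : orderOf a = orderOf α :=
      orderOf_injective SemidirectProduct.inr SemidirectProduct.inr_injective α
    obtain ⟨R, hR, -, hR2, hR3⟩ := TransferOmega.exists_small_of_not_centralize (p := p) (C.map i)
      ((hP.to_subgroup C).map i) ha (hord ▸ hα) (by
        intro hc
        refine hne fun c hcC => ?_
        have h1 := Subgroup.mem_centralizer_iff.mp hc (i c) ⟨c, hcC, rfl⟩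
        have h2 := hconj c
        rw [← h1, mul_inv_cancel_right] at h2
        exact (SemidirectProduct.inl_injective h2).symm)
    refine hR2 (Subgroup.mem_centralizer_iff.mpr fun y hy => ?_)
    obtain ⟨c, hc, rfl⟩ := hR hy
    have hsm : c ^ e = 1 := by
      rw [he]
      rcases hR3 _ hy with h | ⟨h2, h⟩
      · rw [← map_pow, ← map_one i] at h
        have h := SemidirectProduct.inl_injective h
        by_cases hp2 : p = 2
        · subst hp2; rw [if_pos rfl, show 4 = 2 * 2 from rfl, pow_mul, h, one_pow]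
        · rw [if_neg hp2, h]
      · rw [← map_pow, ← map_one i] at h
        rw [if_pos h2]
        exact SemidirectProduct.inl_injective h
    have h2 := hconj c
    rw [hfix c ⟨hc, hsm⟩] at h2
    exact (mul_inv_eq_iff_eq_mul.mp h2).symm
  -- `α` fixes `P`
  ext x
  refine eq_of_step hP hα (hC _ (hcent (Subgroup.mem_centralizer_iff.mpr fun d hd => ?_)))
  have h1 : x * d * x⁻¹ ∈ C := (inferInstance : C.Normal).conj_mem d hd x
  have h2 := hC _ h1
  rw [map_mul, map_mul, map_inv, hC d hd] at h2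
  calc d * (x⁻¹ * α x) = x⁻¹ * (x * d * x⁻¹) * α x := by group
    _ = x⁻¹ * (α x * d * (α x)⁻¹) * α x := by rw [h2]
    _ = x⁻¹ * α x * d := by group

variable {Ω : Type*} [Group Ω] {S : Subgroup Ω} [Finite S] {p : ℕ} [Fact p.Prime]
  {F : Cfsg.FusionSystem S}

/-- The detecting subgroup, read in the ambient group. -/
theorem exists_detecting_in {R : Subgroup Ω} [Finite R] (hR : IsPGroup p R) :
    ∃ D : Subgroup Ω, D ≤ R ∧ (∀ α : MulAut R, ∀ x ∈ D, afun α x ∈ D) ∧
      (∀ x ∈ D, IsSmall p x) ∧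
      ∀ α : MulAut R, (orderOf α).Coprime p → (∀ x ∈ D, afun α x = x) → α = 1 := by
  obtain ⟨D, h1, h2, h3⟩ := exists_detecting hR
  refine ⟨D.map R.subtype, Subgroup.map_subtype_le _, ?_, ?_, fun α hα h => h3 α hα fun x hx => ?_⟩
  · rintro α _ ⟨x, hx, rfl⟩
    rw [afun_apply α (show R.subtype x ∈ R from x.2)]
    exact ⟨α x, h1 α x hx, rfl⟩
  · rintro _ ⟨x, hx, rfl⟩
    rcases h2 x hx with h | ⟨hp, h⟩
    · exact Or.inl (by rw [← map_pow, h, map_one])
    · exact Or.inr ⟨hp, by rw [← map_pow, h, map_one]⟩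
  · refine Subtype.ext ?_
    rw [← afun_coe]
    exact h _ ⟨x, hx, rfl⟩

/-- An automorphism of order prime to `p` in the system that fixes the part of the detecting
subgroup inside a subgroup containing the hyperfocal subgroup is trivial. -/
theorem eq_one_of_fix (hS : IsPGroup p S) {R D H : Subgroup Ω} (hRS : R ≤ S) (hDR : D ≤ R)
    (hDinv : ∀ α : MulAut R, ∀ x ∈ D, afun α x ∈ D)
    (hdet : ∀ α : MulAut R, (orderOf α).Coprime p → (∀ x ∈ D, afun α x = x) → α = 1)
    (hH : F.hyperfocalSubgroup p ≤ H) {α : MulAut R} (hα : α ∈ F.autGroup R)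
    (hc : (orderOf α).Coprime p) (hfix : ∀ x ∈ D, x ∈ H → afun α x = x) : α = 1 := by
  haveI := finite_of_le hRS
  refine hdet α hc fun x hx => ?_
  have hxR := hDR hx
  have hd : x⁻¹ * afun α x ∈ H := hH (FusionInduct88.gen_mem_hyperfocal hRS hα hc hxR)
  have hd' : x⁻¹ * afun α x ∈ D := D.mul_mem (D.inv_mem hx) (hDinv α x hx)
  have h1 := hfix _ hd' hd
  rw [afun_apply α hxR] at h1 ⊢
  refine congrArg Subtype.val (eq_of_step (hS.to_le hRS) hc (x := ⟨x, hxR⟩) (Subtype.ext ?_))
  rw [← afun_coe]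
  exact h1

/-- A group of automorphisms in which every element of order prime to `p` is trivial is a
`p`-group. -/
theorem isPGroup_of_coprime_trivial {A : Type*} [Group A] [Finite A] (M : Subgroup A)
    (h : ∀ a ∈ M, (orderOf a).Coprime p → a = 1) : IsPGroup p M := by
  rintro ⟨a, ha⟩
  obtain ⟨k, m, hm, he⟩ := Nat.exists_eq_pow_mul_and_not_dvd (orderOf_pos a).ne' p
    (Fact.out : p.Prime).one_lt.ne'
  refine ⟨k, Subtype.ext ?_⟩
  refine h _ (pow_mem ha _) ?_
  have : orderOf (a ^ p ^ k) ∣ m :=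
    orderOf_dvd_of_pow_eq_one (by rw [← pow_mul, ← he, pow_orderOf_eq_one])
  exact ((Fact.out : p.Prime).coprime_iff_not_dvd.mpr fun hd => hm (hd.trans this)).symm

/-- `S` is normal when, in every essential automizer, some normal subgroup contains the
automorphisms induced by `S` and its elements of order prime to `p` fix the small elements. -/
theorem isNormal_of_stabilizer (hS : IsPGroup p S) (hF : F.IsSaturated p) {H : Subgroup Ω}
    (hH : F.hyperfocalSubgroup p ≤ H)
    (h : ∀ R D : Subgroup Ω, F.IsEssential p R → D ≤ R → (∀ α : MulAut R, ∀ x ∈ D, afun α x ∈ D) →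
      (∀ x ∈ D, IsSmall p x) → ∃ M : Subgroup (MulAut R), M ≤ F.autGroup R ∧
        (∀ α ∈ F.autGroup R, ∀ m ∈ M, α * m * α⁻¹ ∈ M) ∧
        (∀ g : ↥(S ⊓ Subgroup.normalizer (R : Set Ω)), nHom S R g ∈ M) ∧
        ∀ m ∈ M, (orderOf m).Coprime p → ∀ x ∈ D, x ∈ H → afun m x = x) :
    F.IsNormal S := by
  refine FusionSysNormal.isNormal_of_le_centric_radical hS hF
    (FusionSysNormal.stronglyClosed_iff.mpr ⟨le_rfl, fun P f _ hf x hx => hf.apply_mem hx⟩)
    fun R hR => ?_
  have hRS := hR.1.1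
  haveI := finite_of_le hRS
  haveI := finite_autGroup (F := F) R
  obtain ⟨D, hDR, hDinv, hDs, hdet⟩ := exists_detecting_in (hS.to_le hRS)
  obtain ⟨M, hMA, hMn, hMg, hMfix⟩ := h R D hR hDR hDinv hDs
  haveI : Finite (MulAut R) :=
    Finite.of_injective (fun β : MulAut R => (β : R → R)) DFunLike.coe_injective
  exact FusionSysNormal.le_of_normal_pSubgroup hS hR.1 (FusionSysAlperin.radical_of_essential hS hR)
    le_rfl (hRS.trans Subgroup.le_normalizer) hMA
    (isPGroup_of_coprime_trivial M fun m hm hc =>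
      eq_one_of_fix hS hRS hDR hDinv hdet hH (hMA hm) hc (hMfix m hm hc))
    hMn fun g _ => hMg g

/-- The upper central series of `S`, read in the ambient group. -/
def zSer (S : Subgroup Ω) (i : ℕ) : Subgroup Ω :=
  (Subgroup.upperCentralSeries S i).map S.subtype

omit [Finite S] in
theorem zSer_zero : zSer S 0 = ⊥ := by simp [zSer]

theorem exists_zSer_top (hS : IsPGroup p S) : ∃ n, zSer S n = S := by
  haveI := hS.isNilpotent
  refine ⟨Group.nilpotencyClass S, ?_⟩
  rw [zSer, Subgroup.upperCentralSeries_nilpotencyClass, ← MonoidHom.range_eq_map,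
    Subgroup.range_subtype]

omit [Finite S] in
theorem zSer_le (i : ℕ) : zSer S i ≤ S := Subgroup.map_subtype_le _

omit [Finite S] in
theorem zSer_div {i : ℕ} {s x : Ω} (hs : s ∈ S) (hx : x ∈ zSer S (i + 1)) :
    x⁻¹ * cj s x ∈ zSer S i := by
  obtain ⟨x, hx, rfl⟩ := hx
  refine ⟨x⁻¹ * (⟨s, hs⟩ * x * ⟨s, hs⟩⁻¹), ?_, rfl⟩
  have h := Subgroup.mem_upperCentralSeries_succ_iff.mp (inv_mem hx) ⟨s, hs⟩
  rw [commutatorElement_def, inv_inv] at h
  show _ ∈ Subgroup.upperCentralSeries S i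
  convert h using 1
  group

omit [Finite S] in
theorem zSer_aut {i : ℕ} (β : MulAut S) {x : Ω} (hx : x ∈ zSer S i) : afun β x ∈ zSer S i := by
  obtain ⟨x, hx, rfl⟩ := hx
  rw [afun_apply β (show S.subtype x ∈ S from x.2)]
  exact ⟨β x, Subgroup.characteristic_iff_le_comap.mp inferInstance β hx, rfl⟩

omit [Finite S] in
/-- A `p'`-automorphism moving each layer of the central series of `S` one step down fixes it. -/
theorem fix_of_layers {R V : Subgroup Ω} (hR : IsPGroup p R) (hVR : V ≤ R) {m : MulAut R}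
    (hc : (orderOf m).Coprime p) {n : ℕ} (hn : zSer S n = S) (hVS : V ≤ S)
    (hVinv : ∀ x ∈ V, afun m x ∈ V)
    (h : ∀ i < n, ∀ x ∈ V, x ∈ zSer S (i + 1) → x⁻¹ * afun m x ∈ zSer S i) :
    ∀ x ∈ V, afun m x = x := by
  suffices ∀ i ≤ n, ∀ x ∈ V, x ∈ zSer S i → afun m x = x from
    fun x hx => this n le_rfl x hx (hn.ge (hVS hx))
  intro i
  induction i with
  | zero =>
    intro _ x hxV hx
    rw [zSer_zero, Subgroup.mem_bot] at hx
    subst hx
    rw [afun_apply m R.one_mem, show (⟨1, R.one_mem⟩ : R) = 1 from rfl, map_one]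
    rfl
  | succ i ih =>
    intro hi x hxV hx
    have h1 := ih (by omega) _ (V.mul_mem (V.inv_mem hxV) (hVinv x hxV)) (h i hi x hxV hx)
    have hxR := hVR hxV
    rw [afun_apply m hxR] at h1 ⊢
    refine congrArg Subtype.val (eq_of_step hR hc (x := ⟨x, hxR⟩) (Subtype.ext ?_))
    rw [← afun_coe]
    exact h1

/-- Small elements of the hyperfocal subgroup whose morphisms extend to `S` force `S` to be
normal. -/
theorem isNormal_of_small_extends (hS : IsPGroup p S) (hF : F.IsSaturated p)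
    (h : ∀ x ∈ F.hyperfocalSubgroup p, IsSmall p x → ∀ f, Mor F (Subgroup.zpowers x) f →
      ∃ β ∈ F.autGroup S, f x = afun β x) : F.IsNormal S := by
  refine isNormal_of_stabilizer hS hF le_rfl fun R D hR hDR hDinv hDs => ?_
  have hRS := hR.1.1
  obtain ⟨n, hn⟩ := exists_zSer_top hS
  have hsc := FusionInduct88.hyperfocal_stronglyClosed hS hF
  let Y : ℕ → Subgroup Ω := fun i => (D ⊓ F.hyperfocalSubgroup p) ⊓ zSer S i
  have hYR : ∀ i ≤ n, Y i ≤ R := fun i _ => inf_le_left.trans (inf_le_left.trans hDR)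
  have hVinv : ∀ α ∈ F.autGroup R, ∀ x ∈ D ⊓ F.hyperfocalSubgroup p,
      afun α x ∈ D ⊓ F.hyperfocalSubgroup p := fun α hα x hx =>
    ⟨hDinv α x hx.1, FusionSysNormal.stronglyClosed_invariant hsc ((mem_autGroup hRS).mp hα)
      (hDR hx.1) hx.2⟩
  have hinv : ∀ α ∈ F.autGroup R, ∀ i ≤ n, ∀ y ∈ Y i, afun α y ∈ Y i := by
    intro α hα i _ y hy
    refine ⟨hVinv α hα y hy.1, ?_⟩
    have hyR := hDR hy.1.1
    obtain ⟨β, -, he⟩ := h y hy.1.2 (hDs y hy.1.1) (afun α)
      (((mem_autGroup hRS).mp hα).restrict_to (Subgroup.zpowers_le.mpr hyR))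
    rw [he]
    exact zSer_aut β hy.2
  refine ⟨FusionSysChain.stabGroup (F.autGroup R) Y n hYR hinv, fun α hα => hα.1,
    fun α hα m hm => FusionSysChain.stabGroup_normal hα hm, fun g => ?_, fun m hm hc x hx hxH => ?_⟩
  · have hg : nHom S R g ∈ F.autGroup R := autInducedBy_le hRS (mem_autInducedBy.mpr
      ⟨g, g.2.1, g.2.2, fun x hx => afun_nHom g hx⟩)
    refine ⟨hg, fun i hi y hy => ?_⟩
    have hyV := hy.1
    refine ⟨Subgroup.mul_mem _ (Subgroup.inv_mem _ hyV) (hVinv _ hg y hyV), ?_⟩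
    rw [afun_nHom g (hDR hyV.1)]
    exact zSer_div g.2.1 hy.2
  · refine fix_of_layers (hS.to_le hRS) (inf_le_left.trans hDR) hc hn
      (inf_le_left.trans (hDR.trans hRS)) (hVinv m hm.1)
      (fun i hi y hyV hy => (hm.2 i hi y ⟨hyV, hy⟩).2) x ⟨hx, hxH⟩

/-- A map on a small element of the hyperfocal subgroup is a map between cyclic subgroups of
order `p` or `4` inside it. -/
theorem exists_homSet (hS : IsPGroup p S) (hF : F.IsSaturated p) {x : Ω}
    (hx : x ∈ F.hyperfocalSubgroup p) (hs : IsSmall p x) (hx1 : x ≠ 1) {f : Ω → Ω}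
    (hf : Mor F (Subgroup.zpowers x) f) :
    ∃ (B : Subgroup Ω) (φ : Subgroup.zpowers x →* Ω), B ≤ F.hyperfocalSubgroup p ∧
      (Nat.card (Subgroup.zpowers x) = p ∨ Nat.card (Subgroup.zpowers x) = 4) ∧
      IsCyclic B ∧ (Nat.card B = p ∨ Nat.card B = 4) ∧
      φ ∈ F.homSet (Subgroup.zpowers x) B ∧ φ ⟨x, Subgroup.mem_zpowers x⟩ = f x := by
  have hsc := FusionInduct88.hyperfocal_stronglyClosed hS hF
  have hord : Nat.card (Subgroup.zpowers x) = p ∨ Nat.card (Subgroup.zpowers x) = 4 := by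
    rw [Nat.card_zpowers]
    rcases hs with h | ⟨hp2, h⟩
    · exact Or.inl (orderOf_eq_prime h hx1)
    · subst hp2
      by_cases h2 : x ^ 2 = 1
      · exact Or.inl (orderOf_eq_prime h2 hx1)
      · exact Or.inr (orderOf_eq_prime_pow (p := 2) (n := 1) (by simpa using h2) h)
  obtain ⟨φ, hφ, he⟩ := hf
  refine ⟨φ.range, φ, ?_, hord, isCyclic_of_surjective φ.rangeRestrict φ.rangeRestrict_surjective, ?_,
    ⟨hφ, fun y => ⟨y, rfl⟩⟩, he ⟨x, Subgroup.mem_zpowers x⟩⟩
  · rintro _ ⟨y, rfl⟩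
    exact hsc.2 _ (Subgroup.zpowers_le.mpr hx) φ hφ y
  · rw [← Nat.card_congr (MonoidHom.ofInjective (F.injective_of_mem hφ)).toEquiv]
    exact hord

end Cfsg.Agent.FusionSmallElements
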