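import Cfsg.Agent.Lib.FusionSysNormalizer
import Cfsg.Agent.Lib.FusionSmallElements

/-!
The theorem of Benson, Grodal and Henke for saturated fusion systems: a saturated subsystem over
the same `p`-group having the same maps on the abelian subgroups of exponent `p` (exponent dividing
`4` for `p = 2`) of the hyperfocal subgroup is the whole system.
-/

set_option autoImplicit false

namespace Cfsg.Agent.FusionControlElementary

open Cfsg Cfsg.FusionSystem Cfsg.Agent.FusionSysBasic Cfsg.Agent.FusionSysSaturated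
open Cfsg.Agent.FusionSysNormalizer Cfsg.Agent.FusionSysNormal
open Cfsg.Agent.FusionSysAlperin
open Cfsg.Agent.TransferOmega (IsSmall)

variable {Ω : Type*} [Group Ω]

/-- `x` is fixed by every map of the system defined on it. -/
def Fixed {S : Subgroup Ω} (F : Cfsg.FusionSystem S) (x : Ω) : Prop :=
  ∀ (P : Subgroup Ω) (f : Ω → Ω), Mor F P f → x ∈ P → f x = x

/-- An abelian subgroup of `H` of exponent `p` (exponent dividing `4` for `p = 2`). -/
def SmallAb (p : ℕ) (H A : Subgroup Ω) : Prop :=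
  A ≤ H ∧ (∀ a ∈ A, ∀ b ∈ A, a * b = b * a) ∧ ∀ a ∈ A, IsSmall p a

/-- The systems `F` and `E` over `S` satisfy the hypothesis of the theorem for `H`. -/
structure Ctrl {S : Subgroup Ω} (p : ℕ) (E F : Cfsg.FusionSystem S) (H : Subgroup Ω) : Prop where
  satE : E.IsSaturated p
  satF : F.IsSaturated p
  sub : ∀ P f, Mor E P f → Mor F P f
  closed : F.StronglyClosed H
  gen : ∀ R : Subgroup Ω, R ≤ S → ∀ α ∈ F.autGroup R, (orderOf α).Coprime p → ∀ x ∈ R,
    x⁻¹ * afun α x ∈ H
  ctrl : ∀ A : Subgroup Ω, SmallAb p H A → ∀ f, Mor F A f → Mor E A f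

variable {p : ℕ} [Fact p.Prime]

theorem isSmall_mul {a b : Ω} (h : a * b = b * a) (ha : IsSmall p a) (hb : IsSmall p b) :
    IsSmall p (a * b) := by
  have hc : Commute a b := h
  rcases ha with ha | ⟨hp, ha⟩ <;> rcases hb with hb | ⟨hp', hb⟩
  · exact Or.inl (by rw [hc.mul_pow, ha, hb, one_mul])
  · subst hp'
    exact Or.inr ⟨rfl, by rw [hc.mul_pow, hb, show 4 = 2 * 2 from rfl, pow_mul, ha, one_pow, one_mul]⟩
  · subst hp
    exact Or.inr ⟨rfl, by rw [hc.mul_pow, ha, show 4 = 2 * 2 from rfl, pow_mul b, hb, one_pow, one_mul]⟩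
  · exact Or.inr ⟨hp, by rw [hc.mul_pow, ha, hb, one_mul]⟩

theorem isSmall_inv {a : Ω} (ha : IsSmall p a) : IsSmall p a⁻¹ := by
  rcases ha with ha | ⟨hp, ha⟩
  · exact Or.inl (by rw [inv_pow, ha, inv_one])
  · exact Or.inr ⟨hp, by rw [inv_pow, ha, inv_one]⟩

section Fixed

variable {S : Subgroup Ω} [Finite S] {F : Cfsg.FusionSystem S}

omit [Fact p.Prime] [Finite S] in
theorem Fixed.centralizes {x s : Ω} (hx : Fixed F x) (hxS : x ∈ S) (hs : s ∈ S) :
    cj s x = x :=
  hx (Subgroup.zpowers x) (cj s) (mor_cj (Subgroup.zpowers_le.mpr hxS) hs)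
    (Subgroup.mem_zpowers x)

omit [Fact p.Prime] [Finite S] in
theorem Fixed.mem_centralizerIn {x : Ω} {A : Subgroup Ω} (hA : A ≤ S) (hx : Fixed F x)
    (hxS : x ∈ S) : x ∈ centralizerIn S A := by
  refine FusionSysBasic.mem_centralizerIn.mpr ⟨hxS, fun y hy => ?_⟩
  have h := hx.centralizes hxS (hA hy)
  rw [cj_apply, mul_inv_eq_iff_eq_mul] at h ⊢
  exact h.symm

omit [Finite S] in
theorem centralizes_mem {A : Subgroup Ω} {c : Ω} :
    c ∈ centralizerIn S A ↔ c ∈ S ∧ ∀ a ∈ A, c * a = a * c := by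
  rw [FusionSysBasic.mem_centralizerIn]
  refine and_congr_right fun _ => forall₂_congr fun a _ => ?_
  rw [cj_apply, mul_inv_eq_iff_eq_mul]

end Fixed

section Step

variable {S : Subgroup Ω} [Finite S] {E F : Cfsg.FusionSystem S} {H : Subgroup Ω}

/-- Every map of `F` on `C` is a map of `E`. -/
def Good (E F : Cfsg.FusionSystem S) (C : Subgroup Ω) : Prop :=
  ∀ f, Mor F C f → Mor E C f

omit [Fact p.Prime] in
theorem Ctrl.isConj_sub (h : Ctrl p E F H) {P Q : Subgroup Ω} (hPQ : E.IsConj P Q) :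
    F.IsConj P Q := by
  obtain ⟨f, hf, him⟩ := FusionSysBasic.isConj_iff.mp hPQ
  exact FusionSysBasic.isConj_iff.mpr ⟨f, h.sub _ _ hf, him⟩

omit [Fact p.Prime] in
theorem Ctrl.smallAb_im (h : Ctrl p E F H) {A : Subgroup Ω} (hA : SmallAb p H A) {f : Ω → Ω}
    (hf : Mor F A f) : SmallAb p H (im A f) := by
  refine ⟨im_le_iff.mpr fun x hx => (stronglyClosed_iff.mp h.closed).2 A f hA.1 hf x hx,
    fun a ha b hb => ?_, fun a ha => ?_⟩
  · obtain ⟨x, hx, rfl⟩ := hf.mem_im.mp ha
    obtain ⟨y, hy, rfl⟩ := hf.mem_im.mp hb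
    rw [← hf.map_mul hx hy, hA.2.1 x hx y hy, hf.map_mul hy hx]
  · obtain ⟨x, hx, rfl⟩ := hf.mem_im.mp ha
    have hpow : ∀ n : ℕ, f (x ^ n) = f x ^ n := fun n => by
      induction n with
      | zero => rw [pow_zero, pow_zero, hf.map_one]
      | succ n ih => rw [pow_succ, pow_succ, hf.map_mul (A.pow_mem hx n) hx, ih]
    rcases hA.2.2 x hx with h1 | ⟨hp, h1⟩
    · exact Or.inl (by rw [← hpow, h1, hf.map_one])
    · exact Or.inr ⟨hp, by rw [← hpow, h1, hf.map_one]⟩

/-- The hypothesis passes to the centralizer systems of a small abelian subgroup fully centralized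
in `F`. -/
theorem Ctrl.centralizer (hS : IsPGroup p S) (h : Ctrl p E F H) {A₀ : Subgroup Ω}
    (hA₀ : SmallAb p H A₀) (hFC : F.IsFullyCentralized A₀) :
    Ctrl p (centralizerSystem E A₀ hFC.1) (centralizerSystem F A₀ hFC.1)
      (H ⊓ centralizerIn S A₀) := by
  have hEC : E.IsFullyCentralized A₀ :=
    ⟨hFC.1, fun R hR => hFC.2 R (h.isConj_sub hR)⟩
  have hiF := isCentralizerSystem_centralizerSystem (F := F) A₀ hFC.1
  have hiE := isCentralizerSystem_centralizerSystem (F := E) A₀ hFC.1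
  refine ⟨centralizerSystem_saturated hS h.satE hEC hiE,
    centralizerSystem_saturated hS h.satF hFC hiF, fun P f hf => ?_, ?_, ?_, ?_⟩
  · rw [mor_centralizerSystem_iff hiE] at hf
    obtain ⟨hf, hP, him, f', hf', hag, hfix⟩ := hf
    exact (mor_centralizerSystem_iff hiF).mpr
      ⟨h.sub _ _ hf, hP, him, f', h.sub _ _ hf', hag, hfix⟩
  · refine stronglyClosed_iff.mpr ⟨inf_le_right, fun P f hP hf x hx => ?_⟩
    exact ⟨(stronglyClosed_iff.mp h.closed).2 P f (hP.trans inf_le_left)
      ((mor_centralizerSystem_iff hiF).mp hf).1 x hx, hf.apply_mem hx⟩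
  · intro R hR α hα hc x hx
    refine ⟨h.gen R (hR.trans inf_le_left) α ?_ hc x hx,
      (centralizerIn S A₀).mul_mem ((centralizerIn S A₀).inv_mem (hR hx)) (hR (afun_mem α hx))⟩
    exact mem_autGroup_of_mor
      ((mor_centralizerSystem_iff hiF).mp ((mem_autGroup hR).mp hα)).1
  · intro A hA f hf
    obtain ⟨hf0, hP, him, f', hf', hag, hfix⟩ := (mor_centralizerSystem_iff hiF).mp hf
    refine (mor_centralizerSystem_iff hiE).mpr
      ⟨h.ctrl A ⟨hA.1.trans inf_le_left, hA.2⟩ f hf0, hP, him, f', ?_, hag, hfix⟩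
    refine h.ctrl _ ⟨sup_le (hA.1.trans inf_le_left) hA₀.1, ?_⟩ f' hf'
    have key : ∀ y ∈ A ⊔ A₀, ∃ a ∈ A, ∃ b ∈ A₀, y = a * b := by
      have hcm : ∀ a ∈ A, ∀ b ∈ A₀, a * b = b * a := fun a ha b hb =>
        (centralizes_mem.mp (hP ha)).2 b hb
      let M : Subgroup Ω :=
        { carrier := {y | ∃ a ∈ A, ∃ b ∈ A₀, y = a * b}
          one_mem' := ⟨1, A.one_mem, 1, A₀.one_mem, (one_mul 1).symm⟩
          mul_mem' := by
            rintro _ _ ⟨a, ha, b, hb, rfl⟩ ⟨c, hc, d, hd, rfl⟩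
            refine ⟨a * c, A.mul_mem ha hc, b * d, A₀.mul_mem hb hd, ?_⟩
            rw [mul_assoc a b, ← mul_assoc b c, ← hcm c hc b hb, mul_assoc c, ← mul_assoc]
          inv_mem' := by
            rintro _ ⟨a, ha, b, hb, rfl⟩
            exact ⟨a⁻¹, A.inv_mem ha, b⁻¹, A₀.inv_mem hb, by
              rw [mul_inv_rev, hcm _ (A.inv_mem ha) _ (A₀.inv_mem hb)]⟩ }
      intro y hy
      exact (sup_le (fun a ha => ⟨a, ha, 1, A₀.one_mem, (mul_one a).symm⟩)
        (fun b hb => ⟨1, A.one_mem, b, hb, (one_mul b).symm⟩) : A ⊔ A₀ ≤ M) hy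
    refine ⟨fun y hy z hz => ?_, fun y hy => ?_⟩
    · obtain ⟨a, ha, b, hb, rfl⟩ := key y hy
      obtain ⟨c, hc, d, hd, rfl⟩ := key z hz
      have e1 : Commute a c := hA.2.1 a ha c hc
      have e2 : Commute a d := (centralizes_mem.mp (hP ha)).2 d hd
      have e3 : Commute b c := ((centralizes_mem.mp (hP hc)).2 b hb).symm
      have e4 : Commute b d := hA₀.2.1 b hb d hd
      exact ((e1.mul_right e2).mul_left (e3.mul_right e4)).eq
    · obtain ⟨a, ha, b, hb, rfl⟩ := key y hy
      exact isSmall_mul ((centralizes_mem.mp (hP ha)).2 b hb) (hA.2.2 a ha) (hA₀.2.2 b hb)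

/-- A subgroup centralizing a small abelian subgroup of itself that is not fixed is good, given
the theorem for systems with fewer moved elements. -/
theorem good_of_centralizes (hS : IsPGroup p S) (h : Ctrl p E F H)
    (IH : ∀ (S' : Subgroup Ω) (_ : Finite S') (E' F' : Cfsg.FusionSystem S') (H' : Subgroup Ω),
      S' ≤ S → {x | x ∈ S' ∧ ¬ Fixed F' x}.ncard < {x | x ∈ S ∧ ¬ Fixed F x}.ncard →
      Ctrl p E' F' H' → ∀ P f, Mor F' P f → Mor E' P f)
    {C A : Subgroup Ω} (hA : SmallAb p H A) (hAC : A ≤ C) (hcent : C ≤ centralizerIn S A)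
    {z : Ω} (hz : z ∈ A) (hzF : ¬ Fixed F z) : Good E F C := by
  intro f hf
  have hAS : A ≤ S := hAC.trans hf.le
  obtain ⟨A₀, hconj, hFC⟩ := exists_fullyCentralized (F := F) hAS
  obtain ⟨u, hu, huim⟩ := FusionSysBasic.isConj_iff.mp hconj
  have hA₀ : SmallAb p H A₀ := huim ▸ h.smallAb_im hA hu
  have hEC : E.IsFullyCentralized A₀ := ⟨hFC.1, fun R hR => hFC.2 R (h.isConj_sub hR)⟩
  have hrecE := receptive_of_fullyCentralized hS h.satE hEC
  -- extend `u` to `C`
  obtain ⟨u', hu', huag, hucent⟩ := exists_extension_centralizer hrecE (h.ctrl A hA u hu) huim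
  have hu'C : Mor E C u' := hu'.restrict_to (hcent.trans le_sup_right)
  have hu'mem : ∀ c ∈ C, u' c ∈ centralizerIn S A₀ := fun c hc => hucent c (hcent hc)
  -- the other end
  have hfA := hf.restrict_to hAC
  have hA' : SmallAb p H (im A f) := h.smallAb_im hA hfA
  obtain ⟨w, hw, hwim⟩ := FusionSysBasic.isConj_iff.mp (FusionSysBasic.isConj_trans
    (FusionSysBasic.isConj_symm (FusionSysBasic.isConj_iff.mpr ⟨f, hfA, rfl⟩)) hconj)
  obtain ⟨w', hw', hwag, hwcent⟩ := exists_extension_centralizer hrecE (h.ctrl _ hA' w hw) hwim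
  have hC' : im C f ≤ centralizerIn S (im A f) := by
    refine im_le_iff.mpr fun c hc => centralizes_mem.mpr ⟨hf.apply_mem hc, fun a ha => ?_⟩
    obtain ⟨x, hx, rfl⟩ := hfA.mem_im.mp ha
    rw [← hf.map_mul hc (hAC hx), (centralizes_mem.mp (hcent hc)).2 x hx, hf.map_mul (hAC hx) hc]
  have hw'C : Mor E (im C f) w' := hw'.restrict_to (hC'.trans le_sup_right)
  -- the automorphism of `A₀`
  obtain ⟨ui, hui, huiu, huui, huimem⟩ := hu.exists_inv
  rw [huim] at hui huui huimem
  have ha : Mor F A₀ (w ∘ f ∘ ui) :=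
    Mor.comp (hui.comp hfA huimem) hw fun x hx => apply_mem_im (huimem x hx)
  have haim : im A₀ (w ∘ f ∘ ui) = A₀ :=
    ha.im_self fun x hx => hwim.le (apply_mem_im (f := w) (apply_mem_im (huimem x hx)))
  obtain ⟨e, he, heag, hecent⟩ := exists_extension_centralizer hrecE (h.ctrl A₀ hA₀ _ ha) haim
  have heC : Mor E (centralizerIn S A₀) e := he.restrict_to le_sup_right
  have hχ : Mor E C (e ∘ u') := hu'C.comp heC hu'mem
  -- the part centralizing `A₀`
  obtain ⟨χi, hχi, hχiχ, hχχi, hχimem⟩ := hχ.exists_inv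
  let θ : Ω → Ω := fun y => w' (f (χi y))
  have hθF : Mor F (im C (e ∘ u')) θ :=
    Mor.comp ((h.sub _ _ hχi).comp hf hχimem) (h.sub _ _ hw'C)
      fun y hy => apply_mem_im (hχimem y hy)
  have hA₀im : A₀ ≤ im C (e ∘ u') := by
    intro y hy
    have hy' : y ∈ im A₀ (w ∘ f ∘ ui) := haim.symm ▸ hy
    obtain ⟨x, hx, rfl⟩ := ha.mem_im.mp hy'
    rw [← heag x hx]
    have : e x = (e ∘ u') (ui x) := by
      show e x = e (u' (ui x))
      rw [huag _ (huimem x hx), huui x hx]
    rw [this]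
    exact apply_mem_im (hAC (huimem x hx))
  have hθfix : ∀ y ∈ A₀, θ y = y := by
    intro y hy
    obtain ⟨x, hx, rfl⟩ := ha.mem_im.mp (haim.symm ▸ hy : y ∈ im A₀ (w ∘ f ∘ ui))
    show w' (f (χi (w (f (ui x))))) = w (f (ui x))
    have e1 : (e ∘ u') (ui x) = w (f (ui x)) := by
      show e (u' (ui x)) = _
      rw [huag _ (huimem x hx), huui x hx, heag x hx]; rfl
    rw [← e1, hχiχ _ (hAC (huimem x hx)), hwag _ (apply_mem_im (huimem x hx))]
    exact e1.symm
  have hθC : Mor (centralizerSystem F A₀ hFC.1) (im C (e ∘ u')) θ :=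
    (mor_centralizerSystem_iff (isCentralizerSystem_centralizerSystem A₀ hFC.1)).mpr
      ⟨hθF, im_le_iff.mpr fun c hc => hecent _ (hu'mem c hc),
        fun y hy => hwcent _ (hC' (apply_mem_im (hχimem y hy))), θ,
        by rwa [sup_eq_left.mpr hA₀im], fun _ _ => rfl, hθfix⟩
  -- induction
  haveI := finite_centralizerIn (S := S) A₀
  have hlt : {x | x ∈ centralizerIn S A₀ ∧ ¬ Fixed (centralizerSystem F A₀ hFC.1) x}.ncard <
      {x | x ∈ S ∧ ¬ Fixed F x}.ncard := by
    have hfin : {x | x ∈ S ∧ ¬ Fixed F x}.Finite :=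
      (Set.toFinite (S : Set Ω)).subset fun x hx => hx.1
    refine Set.ncard_lt_ncard ((Set.ssubset_iff_exists).mpr ⟨fun x hx => ⟨hx.1.1, fun hF => ?_⟩,
      u z, ⟨hu.apply_mem hz, fun hF => ?_⟩, fun hx => ?_⟩) hfin
    · exact hx.2 fun P g hg hxP => hF P g
        ((mor_centralizerSystem_iff (isCentralizerSystem_centralizerSystem A₀ hFC.1)).mp hg).1 hxP
    · refine hzF fun P g hg hzP => ?_
      obtain ⟨ui', hui', huiu', -, -⟩ := (hu.restrict_to (Subgroup.zpowers_le.mpr hz)).exists_inv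
      have e1 : ui' (u z) = u z := hF _ ui' hui' (apply_mem_im (Subgroup.mem_zpowers z))
      rw [huiu' z (Subgroup.mem_zpowers z)] at e1
      rw [← e1] at hF
      exact hF P g hg hzP
    · refine hx.2 fun P g hg hxP => ?_
      obtain ⟨-, -, -, g', -, hag, hfix⟩ :=
        (mor_centralizerSystem_iff (isCentralizerSystem_centralizerSystem A₀ hFC.1)).mp hg
      rw [← hag _ hxP]
      exact hfix _ (huim ▸ apply_mem_im hz)
  have hθE : Mor E (im C (e ∘ u')) θ :=
    ((mor_centralizerSystem_iff (isCentralizerSystem_centralizerSystem A₀ hFC.1)).mp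
      (IH _ (finite_centralizerIn _) _ _ _ inf_le_left hlt (h.centralizer hS hA₀ hFC) _ θ hθC)).1
  -- conclude
  have hwf : Mor E C (w' ∘ f) := (hχ.comp_im hθE).congr fun c hc => by
    show w' (f (χi ((e ∘ u') c))) = w' (f c)
    rw [hχiχ c hc]
  obtain ⟨wi, hwi, hwiw, -, -⟩ := hw'C.exists_inv
  refine (hwf.comp hwi fun c hc => apply_mem_im (apply_mem_im hc)).congr fun c hc => ?_
  exact hwiw _ (apply_mem_im hc)

end Step

section Main

variable {S : Subgroup Ω} [Finite S] {E F : Cfsg.FusionSystem S} {H : Subgroup Ω}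

/-- Automorphisms of a fully normalized subgroup lie in `E`, given the induction hypotheses. -/
theorem autGroup_le (hS : IsPGroup p S) (h : Ctrl p E F H)
    (IH : ∀ (S' : Subgroup Ω) (_ : Finite S') (E' F' : Cfsg.FusionSystem S') (H' : Subgroup Ω),
      S' ≤ S → {x | x ∈ S' ∧ ¬ Fixed F' x}.ncard < {x | x ∈ S ∧ ¬ Fixed F x}.ncard →
      Ctrl p E' F' H' → ∀ P f, Mor F' P f → Mor E' P f)
    {R : Subgroup Ω} (hR : F.IsFullyNormalized R)
    (hbig : ∀ (Q : Subgroup Ω) (f : Ω → Ω), Nat.card R < Nat.card Q → Mor F Q f → Mor E Q f) :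
    F.autGroup R ≤ E.autGroup R := by
  have hRS := hR.1
  haveI := finite_of_le hRS
  haveI : Finite (MulAut R) :=
    Finite.of_injective (fun β : MulAut R => (β : R → R)) DFunLike.coe_injective
  have hRE : E.IsFullyNormalized R := ⟨hRS, fun Q hQ => hR.2 Q (h.isConj_sub hQ)⟩
  have hsylF : SylIn p (autInducedBy S R) (F.autGroup R) :=
    (fullyAutomized_of_fullyNormalized hS h.satF hR).2
  have hsylE : SylIn p (autInducedBy S R) (E.autGroup R) :=
    (fullyAutomized_of_fullyNormalized hS h.satE hRE).2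
  -- maps with an extension to a larger subgroup
  have extend : ∀ α ∈ F.autGroup R, ∀ t, t ∈ normalizerIn S R → t ∉ R →
      (∃ k ∈ S, ∀ x ∈ R, afun α (cj t x) = cj k (afun α x)) → α ∈ E.autGroup R := by
    intro α hα t ht htR hk
    let N : Subgroup Ω := Subgroup.zpowers t
    obtain ⟨g, hg, hag⟩ := (receptive_iff.mp (receptive_of_fullyNormalized hS h.satF hR)).2 R
      (afun α) N ((mem_autGroup hRS).mp hα) (im_afun α)
      (Subgroup.zpowers_le.mpr ht.1) (Subgroup.zpowers_le.mpr ht.2) (by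
        intro n hn
        obtain ⟨k, hkS, hke⟩ := hk
        obtain ⟨i, rfl⟩ := hn
        -- elements acting through `S`
        let M : Subgroup Ω :=
          { carrier := {n | n ∈ normalizerIn S R ∧
              ∃ l ∈ S, ∀ x ∈ R, afun α (cj n x) = cj l (afun α x)}
            one_mem' := ⟨one_mem _, 1, S.one_mem, fun x _ => by rw [cj_one, cj_one]⟩
            mul_mem' := by
              rintro a b ⟨ha, la, hla, hae⟩ ⟨hb, lb, hlb, hbe⟩
              refine ⟨mul_mem ha hb, la * lb, S.mul_mem hla hlb, fun x hx => ?_⟩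
              rw [← cj_cj, ← cj_cj, hae _ (cj_mem_of_normalizer hb.2 hx), hbe x hx]
            inv_mem' := by
              rintro a ⟨ha, la, hla, hae⟩
              refine ⟨inv_mem ha, la⁻¹, S.inv_mem hla, fun x hx => ?_⟩
              have := hae _ (cj_mem_of_normalizer (inv_mem ha.2) hx)
              rw [cj_cj_inv] at this
              rw [this, cj_inv_cj] }
        have hle : N ≤ M := Subgroup.zpowers_le.mpr (⟨ht, k, hkS, hke⟩ : t ∈ M)
        exact (hle ⟨i, rfl⟩).2)
    have hlt : Nat.card R < Nat.card ↥(R ⊔ N) := by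
      haveI := finite_of_le (sup_le hRS (Subgroup.zpowers_le.mpr ht.1) : R ⊔ N ≤ S)
      refine lt_of_le_of_ne (Subgroup.card_le_of_le le_sup_left) fun e => htR ?_
      rw [Subgroup.eq_of_le_of_card_ge le_sup_left e.ge]
      exact Subgroup.mem_sup_right (Subgroup.mem_zpowers t)
    exact mem_autGroup_of_mor (((hbig _ g hlt hg).restrict_to le_sup_left).congr hag)
  intro g hg
  by_cases hC : ∃ t ∈ centralizerIn S R, t ∉ R
  · obtain ⟨t, ht, htR⟩ := hC
    refine extend g hg t (centralizerIn_le_normalizerIn ht) htR ⟨1, S.one_mem, fun x hx => ?_⟩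
    rw [cj_one, (FusionSysBasic.mem_centralizerIn.mp ht).2 x hx]
  push Not at hC
  by_cases hA : ∃ A : Subgroup Ω, SmallAb p H A ∧ A ≤ R ∧
      (∀ r ∈ R, ∀ a ∈ A, cj r a ∈ A) ∧ ∃ z ∈ A, ¬ Fixed F z
  · obtain ⟨A, hA, hAR, hAn, z, hz, hzF⟩ := hA
    let C : Subgroup Ω := R ⊓ centralizerIn S A
    have hAC : A ≤ C := le_inf hAR fun a ha =>
      centralizes_mem.mpr ⟨hRS (hAR ha), fun b hb => hA.2.1 a ha b hb⟩
    have hCS : C ≤ S := inf_le_left.trans hRS
    have hgood : Good E F C := good_of_centralizes hS h IH hA hAC inf_le_right hz hzF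
    have hCn : ∀ r ∈ R, ∀ c ∈ C, cj r c ∈ C := by
      intro r hr c hc
      refine ⟨R.mul_mem (R.mul_mem hr hc.1) (R.inv_mem hr), centralizes_mem.mpr
        ⟨S.mul_mem (S.mul_mem (hRS hr) (hCS hc)) (S.inv_mem (hRS hr)), fun a ha => ?_⟩⟩
      have h1 := (centralizes_mem.mp hc.2).2 _ (hAn r⁻¹ (R.inv_mem hr) a ha)
      rw [cj_apply, inv_inv] at h1
      calc r * c * r⁻¹ * a = r * (c * (r⁻¹ * a * r)) * r⁻¹ := by group
        _ = r * (r⁻¹ * a * r * c) * r⁻¹ := by rw [h1]
        _ = a * (r * c * r⁻¹) := by group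
    -- automorphisms fixing `C`
    let K : Subgroup (MulAut R) :=
      { carrier := {γ | γ ∈ F.autGroup R ∧ ∀ c ∈ C, afun γ c = c}
        one_mem' := ⟨one_mem _, fun c hc => afun_one hc.1⟩
        mul_mem' := fun {a b} ha hb => ⟨mul_mem ha.1 hb.1, fun c hc => by
          rw [afun_mul _ _ hc.1, hb.2 c hc, ha.2 c hc]⟩
        inv_mem' := fun {a} ha => ⟨inv_mem ha.1, fun c hc => by
          conv_lhs => rw [← ha.2 c hc]
          exact afun_inv_apply a hc.1⟩ }
    have hKA : K ≤ F.autGroup R := fun γ hγ => hγ.1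
    have hKp : IsPGroup p K := by
      refine FusionSmallElements.isPGroup_of_coprime_trivial K fun γ hγ hc => afun_ext fun x hx => ?_
      rw [afun_one hx, afun_apply γ hx]
      refine congrArg Subtype.val
        (FusionSmallElements.eq_of_step (hS.to_le hRS) hc (x := ⟨x, hx⟩) (Subtype.ext ?_))
      rw [← afun_coe]
      refine hγ.2 _ ⟨(⟨x, hx⟩⁻¹ * γ ⟨x, hx⟩ : R).2, centralizes_mem.mpr ⟨hRS (SetLike.coe_mem _),
        fun a ha => ?_⟩⟩
      have ha' : cj x a ∈ C := hCn x hx a (hAC ha)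
      have h1 := hγ.2 _ ha'
      have h2 : afun γ (cj x a) = cj (afun γ x) (afun γ a) :=
        ((mem_autGroup hRS).mp hγ.1).map_cj hx (hAR ha)
      rw [h2, hγ.2 a (hAC ha), afun_apply γ hx] at h1
      simp only [cj_apply] at h1
      push_cast
      calc x⁻¹ * (γ ⟨x, hx⟩ : Ω) * a
          = x⁻¹ * ((γ ⟨x, hx⟩ : Ω) * a * (γ ⟨x, hx⟩ : Ω)⁻¹) * (γ ⟨x, hx⟩ : Ω) := by group
        _ = x⁻¹ * (x * a * x⁻¹) * (γ ⟨x, hx⟩ : Ω) := by rw [h1]
        _ = a * (x⁻¹ * (γ ⟨x, hx⟩ : Ω)) := by group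
    -- strong embedding
    have hinn : ∀ β ∈ F.autGroup R, ∀ x ∈ Inn R, β * x * β⁻¹ ∈ Inn R := fun β _ x hx =>
      (inferInstance : (Inn R).Normal).conj_mem x hx β
    have strong : ∀ α ∈ F.autGroup R, ∀ x ∈ E.autGroup R, (∃ k, orderOf x = p ^ k) →
        x ∉ Inn R → α * x * α⁻¹ ∈ E.autGroup R → α ∈ E.autGroup R := by
      intro α hα x hx ⟨k, hk⟩ hxI hy
      haveI := finite_autGroup (F := E) R
      have hp : ∀ y, y = x ∨ y = α * x * α⁻¹ → IsPGroup p (Subgroup.zpowers y) := by
        intro y hy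
        refine IsPGroup.of_card (n := k) ?_
        rw [Nat.card_zpowers]
        rcases hy with rfl | rfl
        · exact hk
        · rw [← hk, ← orderOf_injective (MulAut.conj α).toMonoidHom (MulAut.conj α).injective x]
          rfl
      obtain ⟨b₁, hb₁, hb₁e⟩ := sylIn_absorb hsylE (hp x (Or.inl rfl))
        (Subgroup.zpowers_le.mpr hx)
      obtain ⟨b₂, hb₂, hb₂e⟩ := sylIn_absorb hsylE (hp _ (Or.inr rfl))
        (Subgroup.zpowers_le.mpr hy)
      obtain ⟨t, ht, htn, hte⟩ := mem_autInducedBy.mp (hb₁e x (Subgroup.mem_zpowers x))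
      obtain ⟨l, hl, -, hle⟩ := mem_autInducedBy.mp (hb₂e _ (Subgroup.mem_zpowers _))
      have hγ : b₂ * α * b₁⁻¹ ∈ F.autGroup R := by
        have hsub : E.autGroup R ≤ F.autGroup R := fun β hβ =>
          mem_autGroup_of_mor (h.sub _ _ ((mem_autGroup hRS).mp hβ))
        exact mul_mem (mul_mem (hsub hb₂) hα) (inv_mem (hsub hb₁))
      have := extend _ hγ t ⟨ht, htn⟩ (fun htR => hxI ?_) ⟨l, hl, fun y hy => ?_⟩
      · have e1 : α = b₂⁻¹ * (b₂ * α * b₁⁻¹) * b₁ := by group
        rw [e1]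
        exact mul_mem (mul_mem (inv_mem hb₂) this) hb₁
      · have hmem : b₁ * x * b₁⁻¹ ∈ Inn R := by
          rw [← autInducedBy_self]
          exact mem_autInducedBy.mpr ⟨t, htR, Subgroup.le_normalizer htR, hte⟩
        have := (inferInstance : (Inn R).Normal).conj_mem _ hmem b₁⁻¹
        simpa [mul_assoc] using this
      · have e1 : b₂ * α * b₁⁻¹ * (b₁ * x * b₁⁻¹) =
            b₂ * (α * x * α⁻¹) * b₂⁻¹ * (b₂ * α * b₁⁻¹) := by group
        rw [← hte y hy, ← hle _ (afun_mem _ hy)]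
        exact ((afun_mul _ _ hy).symm.trans (congrArg (fun β => afun β y) e1)).trans
          (afun_mul _ _ hy)
    have hsub : E.autGroup R ≤ F.autGroup R := fun β hβ =>
      mem_autGroup_of_mor (h.sub _ _ ((mem_autGroup hRS).mp hβ))
    -- growth of the part of `K` in `E`
    have grow : (∃ x ∈ K, x ∈ E.autGroup R ∧ x ∉ Inn R) → K ≤ E.autGroup R := by
      rintro ⟨x, hxK, hxE, hxI⟩
      by_contra hne
      haveI := hKp.isNilpotent
      have hlt : (E.autGroup R).subgroupOf K < ⊤ :=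
        lt_top_iff_ne_top.mpr fun e => hne (Subgroup.subgroupOf_eq_top.mp e)
      obtain ⟨n, hn, hnE⟩ := SetLike.exists_of_lt (normalizerCondition_of_isNilpotent _ hlt)
      refine hnE (Subgroup.mem_subgroupOf.mpr (strong n n.2.1 x hxE ?_ hxI ?_))
      · obtain ⟨k, hk⟩ := IsPGroup.iff_orderOf.mp hKp ⟨x, hxK⟩
        exact ⟨k, by rw [← hk, Subgroup.orderOf_mk]⟩
      · exact (Subgroup.mem_normalizer_iff.mp hn ⟨x, hxK⟩).mp hxE
    -- a fully normalized conjugate of `C`
    obtain ⟨C₀, hC₀, hC₀n⟩ := exists_fullyNormalized (F := E) hCS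
    have hgood₀ : ∀ C' : Subgroup Ω, E.IsConj C C' → Good E F C' := by
      intro C' hC' f hf
      obtain ⟨v, hv, hvim⟩ := FusionSysBasic.isConj_iff.mp hC'
      obtain ⟨vi, hvi, -, hvvi, hvimem⟩ := hv.exists_inv
      rw [hvim] at hvi hvvi hvimem
      refine (hvi.comp (hgood _ ((h.sub _ _ hv).comp hf fun c hc => hvim ▸ apply_mem_im hc))
        hvimem).congr fun y hy => ?_
      show f (v (vi y)) = f y
      rw [hvvi y hy]
    have main : ∀ γ ∈ F.autGroup R, (∃ β ∈ E.autGroup R, β⁻¹ * γ ∈ K) ∨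
        ∃ x ∈ K, x ∈ E.autGroup R ∧ x ∉ Inn R ∧ γ * x * γ⁻¹ ∈ E.autGroup R := by
      intro γ hγ
      have hγm := (mem_autGroup hRS).mp hγ
      have hγC : E.IsConj C (im C (afun γ)) :=
        FusionSysBasic.isConj_iff.mpr ⟨_, hgood _ (hγm.restrict_to inf_le_left), rfl⟩
      have hγCR : im C (afun γ) ≤ R := im_le_iff.mpr fun c hc => afun_mem γ hc.1
      have hRn : R ≤ normalizerIn S C := fun r hr =>
        ⟨hRS hr, mem_normalizer_of_cj_le hCS fun c hc => hCn r hr c hc⟩
      have hRn' : R ≤ normalizerIn S (im C (afun γ)) := by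
        refine fun r hr => ⟨hRS hr, mem_normalizer_of_cj_le (hγCR.trans hRS) fun y hy => ?_⟩
        obtain ⟨c, hc, rfl⟩ := (hγm.restrict_to inf_le_left).mem_im.mp hy
        rw [← afun_apply_inv γ hr, ← hγm.map_cj (afun_mem γ⁻¹ hr) hc.1]
        exact apply_mem_im (hCn _ (afun_mem γ⁻¹ hr) c hc)
      obtain ⟨χ, hχ, hχN, hχim⟩ := exists_map_to_fullyNormalized hS h.satE hC₀n hC₀
      obtain ⟨χ', hχ', hχ'N, hχ'im⟩ := exists_map_to_fullyNormalized hS h.satE hC₀n
        (FusionSysBasic.isConj_trans (FusionSysBasic.isConj_symm hγC) hC₀)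
      have hχR : Mor E R χ := hχ.restrict_to hRn
      have hχ'R : Mor E R χ' := hχ'.restrict_to hRn'
      obtain ⟨χi, hχi, hχiχ, hχχi, hχimem⟩ :=
        (hχ.restrict_to (le_normalizerIn hCS)).exists_inv
      rw [hχim] at hχi hχχi hχimem
      -- the map on `C₀`
      let a : Ω → Ω := fun y => χ' (afun γ (χi y))
      have haF : Mor F C₀ a :=
        Mor.comp ((h.sub _ _ hχi).comp (hγm.restrict_to inf_le_left) hχimem) (h.sub _ _ hχ'R)
          fun y hy => afun_mem γ (hχimem y hy).1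
      have haim : im C₀ a = C₀ := haF.im_self fun y hy =>
        hχ'im.le (apply_mem_im (apply_mem_im (hχimem y hy)))
      have haE := hgood₀ C₀ hC₀ a haF
      have hR₁ : im R χ ≤ normalizerIn S C₀ := im_le_iff.mpr fun r hr => hχN r (hRn hr)
      obtain ⟨e, he, heag⟩ := (receptive_iff.mp (receptive_of_fullyNormalized hS h.satE hC₀n)).2
        C₀ a (im R χ) haE haim (hR₁.trans inf_le_left) (hR₁.trans inf_le_right) (by
          intro n hn
          obtain ⟨r, hr, rfl⟩ := hχR.mem_im.mp hn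
          refine ⟨χ' (afun γ r), hχ'R.apply_mem (afun_mem γ hr), fun y hy => ?_⟩
          obtain ⟨c, hc, rfl⟩ := (hχ.restrict_to (le_normalizerIn hCS)).mem_im.mp
            (hχim.symm ▸ hy)
          show χ' (afun γ (χi (cj (χ r) (χ c)))) = cj _ (χ' (afun γ (χi (χ c))))
          rw [← hχR.map_cj hr hc.1, hχiχ c hc, hχiχ _ (hCn r hr c hc),
            hγm.map_cj hr hc.1, hχ'R.map_cj (afun_mem γ hr) (afun_mem γ hc.1)])
      have hf₁ : Mor E R (e ∘ χ) := hχR.comp he fun r hr =>
        Subgroup.mem_sup_right (apply_mem_im hr)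
      -- `e ∘ χ` and `χ' ∘ γ` agree on `C`
      have hagC : ∀ c ∈ C, (e ∘ χ) c = χ' (afun γ c) := fun c hc => by
        have hcC₀ : χ c ∈ C₀ := hχim ▸ apply_mem_im hc
        show e (χ c) = _
        rw [heag _ hcC₀]
        show χ' (afun γ (χi (χ c))) = _
        rw [hχiχ c hc]
      by_cases heq : im R (e ∘ χ) = im R χ'
      · obtain ⟨ξ, hξ, hξχ, -, hξmem⟩ := hχ'R.exists_inv
        have hh : Mor E R (ξ ∘ e ∘ χ) :=
          hf₁.comp hξ fun r hr => heq ▸ apply_mem_im hr
        obtain ⟨β, hβ, hβe⟩ := hh.exists_aut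
          (hh.im_self fun r hr => hξmem _ (heq ▸ apply_mem_im hr))
        refine Or.inl ⟨β, hβ, mul_mem (inv_mem (hsub hβ)) hγ, fun c hc => ?_⟩
        rw [afun_mul _ _ hc.1]
        have e1 : afun β c = afun γ c := by
          rw [hβe c hc.1]
          show ξ ((e ∘ χ) c) = _
          rw [hagC c hc, hξχ _ (afun_mem γ hc.1)]
        rw [← e1, afun_inv_apply β hc.1]
      -- the common overgroup
      set R₂ := im R χ' with hR₂def
      set R₃ := im R (e ∘ χ) with hR₃def
      have hR₂S : R₂ ≤ S := hχ'R.im_le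
      have hR₃S : R₃ ≤ S := hf₁.im_le
      have hR₂n : R₂ ≤ normalizerIn S C₀ := im_le_iff.mpr fun r hr => hχ'N r (hRn' hr)
      have hact : ∀ r ∈ R, ∀ y ∈ C₀, cj ((e ∘ χ) r) y = cj (χ' (afun γ r)) y := by
        intro r hr y hy
        obtain ⟨c, hc, rfl⟩ : ∃ c ∈ C, (e ∘ χ) c = y := by
          obtain ⟨y', hy', rfl⟩ := haF.mem_im.mp (haim.symm ▸ hy)
          refine ⟨χi y', hχimem y' hy', ?_⟩
          show e (χ (χi y')) = a y'
          rw [hχχi y' hy', heag y' hy']
        rw [← hf₁.map_cj hr hc.1, hagC _ (hCn r hr c hc), hagC c hc, hγm.map_cj hr hc.1,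
          hχ'R.map_cj (afun_mem γ hr) (afun_mem γ hc.1)]
      -- an element centralizing `C₀` and normalizing one image, outside it
      have outside : ∀ T T' : Subgroup Ω, T ≤ normalizerIn S C₀ → T' ≤ S →
          Nat.card T' = Nat.card T → T' ≠ T →
          (∀ b ∈ T', ∃ r ∈ T, ∀ y ∈ C₀, cj b y = cj r y) →
          ∃ t, t ∈ centralizerIn S C₀ ∧ t ∈ Subgroup.normalizer (T : Set Ω) ∧ t ∉ T := by
        intro T T' hT hT' hcard hne hsame
        let X : Subgroup Ω :=
          { carrier := {b | b ∈ normalizerIn S C₀ ∧ ∃ r ∈ T, ∀ y ∈ C₀, cj b y = cj r y}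
            one_mem' := ⟨one_mem _, 1, T.one_mem, fun _ _ => rfl⟩
            mul_mem' := by
              rintro b b' ⟨hb, r, hr, hre⟩ ⟨hb', r', hr', hre'⟩
              refine ⟨mul_mem hb hb', r * r', T.mul_mem hr hr', fun y hy => ?_⟩
              rw [← cj_cj, ← cj_cj, hre' y hy, hre _ (cj_mem_of_normalizer (hT hr').2 hy)]
            inv_mem' := by
              rintro b ⟨hb, r, hr, hre⟩
              refine ⟨inv_mem hb, r⁻¹, T.inv_mem hr, fun y hy => ?_⟩
              have h1 := hre _ (cj_mem_of_normalizer (inv_mem (hT hr).2) hy)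
              rw [cj_cj_inv] at h1
              have h2 := congrArg (cj b⁻¹) h1
              rw [cj_inv_cj] at h2
              exact h2.symm }
        have hTX : T ≤ X := fun r hr => ⟨hT hr, r, hr, fun _ _ => rfl⟩
        have hT'X : T' ≤ X := fun b hb => by
          obtain ⟨r, hr, hre⟩ := hsame b hb
          exact ⟨⟨hT' hb, mem_normalizer_of_cj_le hC₀n.1 fun y hy =>
            (hre y hy).symm ▸ cj_mem_of_normalizer (hT hr).2 hy⟩, r, hr, hre⟩
        have hXS : X ≤ S := fun b hb => hb.1.1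
        have hlt : T < X := lt_of_le_of_ne hTX fun e => hne
          (eq_of_le_of_card_ge (hT.trans inf_le_left) (e ▸ hT'X) hcard.ge)
        obtain ⟨b, hb, hbT, hbn⟩ := FusionSysAlperin.lt_normalizerIn hS hXS hlt
        obtain ⟨hb1, r, hr, hre⟩ := hb
        refine ⟨r⁻¹ * b, FusionSysBasic.mem_centralizerIn.mpr
          ⟨S.mul_mem (S.inv_mem (hT hr).1) hb1.1, fun y hy => ?_⟩,
          mul_mem (inv_mem (Subgroup.le_normalizer hr)) hbn, fun hm => hbT ?_⟩
        · rw [← cj_cj, hre y hy, cj_inv_cj]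
        · simpa using T.mul_mem hr hm
      have hcard : Nat.card R₃ = Nat.card R₂ := by rw [hf₁.card_im, hχ'R.card_im]
      obtain ⟨t₂, ht₂C, ht₂n, ht₂⟩ := outside R₂ R₃ hR₂n hR₃S hcard heq (fun b hb => by
        obtain ⟨r, hr, rfl⟩ := hf₁.mem_im.mp hb
        exact ⟨χ' (afun γ r), apply_mem_im (afun_mem γ hr), hact r hr⟩)
      have hR₃n : R₃ ≤ normalizerIn S C₀ := fun b hb => by
        obtain ⟨r, hr, rfl⟩ := hf₁.mem_im.mp hb
        exact ⟨hR₃S hb, mem_normalizer_of_cj_le hC₀n.1 fun y hy => (hact r hr y hy).symm ▸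
          cj_mem_of_normalizer (hR₂n (apply_mem_im (afun_mem γ hr))).2 hy⟩
      obtain ⟨t₃, ht₃C, ht₃n, ht₃⟩ := outside R₃ R₂ hR₃n hR₂S hcard.symm (Ne.symm heq)
        (fun b hb => by
          obtain ⟨r, hr, rfl⟩ := hχ'R.mem_im.mp hb
          refine ⟨(e ∘ χ) (afun γ⁻¹ r), apply_mem_im (afun_mem _ hr), fun y hy => ?_⟩
          rw [hact _ (afun_mem _ hr) y hy, afun_apply_inv γ hr])
      -- pulling an element back to an automorphism of `R`
      have pull : ∀ φ, Mor E R φ → ∀ t, t ∈ S → t ∈ Subgroup.normalizer (im R φ : Set Ω) →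
          t ∉ im R φ → ∀ D : Subgroup Ω, D ≤ R → (∀ d ∈ D, cj t (φ d) = φ d) →
          ∃ β ∈ E.autGroup R, (∀ d ∈ D, afun β d = d) ∧ β ∉ Inn R ∧
            ∃ k, orderOf β = p ^ k := by
        intro φ hφ t htS htn htR D hD hfix
        obtain ⟨b, hb, hbN, hbim⟩ := exists_map_to_fullyNormalized hS h.satF hR
          (FusionSysBasic.isConj_symm (FusionSysBasic.isConj_iff.mpr ⟨φ, h.sub _ _ hφ, rfl⟩))
        have hbE : Mor E (normalizerIn S (im R φ)) b := hbig _ b (by
          rw [← hφ.card_im]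
          haveI := finite_normalizerIn (S := S) (im R φ)
          refine lt_of_le_of_ne (Subgroup.card_le_of_le (le_normalizerIn hφ.im_le)) fun e => htR ?_
          rw [eq_of_le_of_card_ge inf_le_left (le_normalizerIn hφ.im_le) e.ge]
          exact ⟨htS, htn⟩) hb
        have hm : Mor E R (b ∘ φ) := hφ.comp (hbE.restrict_to (le_normalizerIn hφ.im_le))
          fun r hr => apply_mem_im hr
        obtain ⟨η, hη, hηe⟩ := hm.exists_aut (by rw [← hφ.im_comp, hbim])
        let τ := nHom S R ⟨b t, hbN t ⟨htS, htn⟩⟩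
        have hτ : τ ∈ autInducedBy S R := by rw [autInducedBy_eq_range]; exact ⟨_, rfl⟩
        refine ⟨η⁻¹ * τ * η, mul_mem (mul_mem (inv_mem hη) (autInducedBy_le hRS hτ)) hη,
          fun d hd => ?_, fun hI => htR ?_, ?_⟩
        · have hdR := hD hd
          rw [afun_mul _ _ hdR, afun_mul _ _ (afun_mem η hdR), afun_nHom _ (afun_mem η hdR),
            hηe d hdR]
          show afun η⁻¹ (cj (b t) (b (φ d))) = d
          rw [← hb.map_cj ⟨htS, htn⟩ (le_normalizerIn hφ.im_le (apply_mem_im hdR)), hfix d hd,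
            ← Function.comp_apply (f := b), ← hηe d hdR, afun_inv_apply η hdR]
        · have hτI : τ ∈ Inn R := by
            have := (inferInstance : (Inn R).Normal).conj_mem _ hI η
            simpa [mul_assoc] using this
          have hbt : b t ∈ R := FusionSysAlperin.mem_of_nHom_mem_inn hRS
            (fun x hx => hC x hx) _ hτI
          obtain ⟨x, hx, hxe⟩ := (hb.restrict_to (le_normalizerIn hφ.im_le)).mem_im.mp
            (hbim.symm ▸ hbt)
          rw [← hb.injOn (le_normalizerIn hφ.im_le hx) ⟨htS, htn⟩ hxe]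
          exact hx
        · obtain ⟨k, hk⟩ := IsPGroup.iff_orderOf.mp (isPGroup_autInducedBy hS R) ⟨τ, hτ⟩
          refine ⟨k, ?_⟩
          rw [Subgroup.orderOf_mk] at hk
          rw [← hk, ← orderOf_injective (MulAut.conj η⁻¹).toMonoidHom
            (MulAut.conj η⁻¹).injective τ]
          simp
      obtain ⟨x, hxE, hxfix, hxI, hxk⟩ := pull _ hf₁ t₃ ht₃C.1 ht₃n ht₃ C inf_le_left
        fun c hc => (FusionSysBasic.mem_centralizerIn.mp ht₃C).2 _ (by
          rw [hagC c hc]; exact hχ'im.le (apply_mem_im (apply_mem_im hc)))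
      obtain ⟨y, hyE, hyfix, hyI, hyk⟩ := pull _ hχ'R t₂ ht₂C.1 ht₂n ht₂ _ hγCR
        fun d hd => (FusionSysBasic.mem_centralizerIn.mp ht₂C).2 _
          (hχ'im.le (apply_mem_im hd))
      have hKE := grow ⟨x, ⟨hsub hxE, hxfix⟩, hxE, hxI⟩
      have hy' : γ⁻¹ * y * γ ∈ K := ⟨mul_mem (mul_mem (inv_mem hγ) (hsub hyE)) hγ, fun c hc => by
        rw [afun_mul _ _ hc.1, afun_mul _ _ (afun_mem γ hc.1), hyfix _ (apply_mem_im hc),
          afun_inv_apply γ hc.1]⟩
      refine Or.inr ⟨_, hy', hKE hy', fun hI => hyI ?_, by simpa [mul_assoc] using hyE⟩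
      have := (inferInstance : (Inn R).Normal).conj_mem _ hI γ
      simpa [mul_assoc] using this
    have hK : K ≤ E.autGroup R := by
      by_contra hne
      obtain ⟨b, hb, hbe⟩ := sylIn_absorb hsylF hKp hKA
      rcases main b hb with ⟨β, hβ, hβK⟩ | ⟨x, hxK, hxE, hxI, -⟩
      · refine hne fun x hx => ?_
        set k := β⁻¹ * b with hk
        have h1 := autInducedBy_le (F := E) hRS
          (hbe (k⁻¹ * x * k) (mul_mem (mul_mem (inv_mem hβK) hx) hβK))
        have e1 : b * (k⁻¹ * x * k) * b⁻¹ = β * x * β⁻¹ := by rw [hk]; group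
        rw [e1] at h1
        have := mul_mem (mul_mem (inv_mem hβ) h1) hβ
        simpa [mul_assoc] using this
      · exact hne (grow ⟨x, hxK, hxE, hxI⟩)
    rcases main g hg with ⟨β, hβ, hβK⟩ | ⟨x, hxK, hxE, hxI, hgx⟩
    · have := mul_mem hβ (hK hβK)
      simpa using this
    · obtain ⟨k, hk⟩ := IsPGroup.iff_orderOf.mp hKp ⟨x, hxK⟩
      exact strong g hg x hxE ⟨k, by rw [← hk, Subgroup.orderOf_mk]⟩ hxI hgx
  · push Not at hA
    obtain ⟨D, hDR, hDinv, hDs, hdet⟩ :=
      FusionSmallElements.exists_detecting_in (hS.to_le hRS)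
    have hfixed : ∀ x ∈ D, x ∈ H → Fixed F x := by
      obtain ⟨n, hn⟩ := FusionSmallElements.exists_zSer_top (hS.to_le hRS)
      suffices ∀ i, ∀ x ∈ D, x ∈ H → x ∈ FusionSmallElements.zSer R i → Fixed F x from
        fun x hx hxH => this n x hx hxH (hn.ge (hDR hx))
      intro i
      induction i with
      | zero =>
        intro x _ _ hx P f hf _
        rw [FusionSmallElements.zSer_zero, Subgroup.mem_bot] at hx
        rw [hx, hf.map_one]
      | succ i ih =>
        intro x hxD hxH hxi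
        let Z : Subgroup Ω := Subgroup.closure {y | y ∈ D ∧ y ∈ H ∧ Fixed F y}
        have hZD : Z ≤ D := (Subgroup.closure_le D).mpr fun y hy => hy.1
        have hZH : Z ≤ H := (Subgroup.closure_le H).mpr fun y hy => hy.2.1
        have hZc : Z ≤ centralizerIn S S := (Subgroup.closure_le _).mpr fun y hy =>
          hy.2.2.mem_centralizerIn le_rfl (hRS (hDR hy.1))
        have hZcj : ∀ y ∈ Z, ∀ s ∈ S, cj s y = y := fun y hy s hs => by
          have := (centralizes_mem.mp (hZc hy)).2 s hs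
          rw [cj_apply, mul_inv_eq_iff_eq_mul]
          exact this.symm
        by_contra hxF
        refine hxF (hA (Z ⊔ Subgroup.zpowers x) ?_ ?_ ?_ x
          (Subgroup.mem_sup_right (Subgroup.mem_zpowers x)))
        rotate_left
        · exact sup_le (hZD.trans hDR) (Subgroup.zpowers_le.mpr (hDR hxD))
        · intro r hr
          have hle : Z ⊔ Subgroup.zpowers x ≤
              (Z ⊔ Subgroup.zpowers x).comap (MulAut.conj r).toMonoidHom := by
            refine sup_le (fun y hy => ?_) (Subgroup.zpowers_le.mpr ?_)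
            · rw [Subgroup.mem_comap]
              show cj r y ∈ Z ⊔ Subgroup.zpowers x
              rw [hZcj y hy r (hRS hr)]
              exact Subgroup.mem_sup_left hy
            · rw [Subgroup.mem_comap]
              show cj r x ∈ Z ⊔ Subgroup.zpowers x
              have hd : x⁻¹ * cj r x ∈ Z := by
                have hxD' : cj r x ∈ D := by
                  have h1 := hDinv (nHom R R ⟨r, hr, Subgroup.le_normalizer hr⟩) x hxD
                  rwa [afun_nHom _ (hDR hxD)] at h1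
                have hH : cj r x ∈ H := cj_mem_of_stronglyClosed h.closed (hRS hr) hxH
                exact Subgroup.subset_closure ⟨D.mul_mem (D.inv_mem hxD) hxD', H.mul_mem (H.inv_mem hxH) hH,
                  ih _ (D.mul_mem (D.inv_mem hxD) hxD') (H.mul_mem (H.inv_mem hxH) hH)
                    (FusionSmallElements.zSer_div hr hxi)⟩
              have := Subgroup.mul_mem (Z ⊔ Subgroup.zpowers x)
                (Subgroup.mem_sup_right (Subgroup.mem_zpowers x)) (Subgroup.mem_sup_left hd)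
              simpa using this
          exact fun a ha => hle ha
        · have hle : Z ⊔ Subgroup.zpowers x ≤ D :=
            sup_le hZD (Subgroup.zpowers_le.mpr hxD)
          have hc : ∀ a ∈ Z ⊔ Subgroup.zpowers x, ∀ b ∈ Z ⊔ Subgroup.zpowers x,
              a * b = b * a := by
            have hxS : x ∈ S := hRS (hDR hxD)
            have hgen : Z ⊔ Subgroup.zpowers x = Subgroup.closure ((Z : Set Ω) ∪ {x}) := by
              rw [Subgroup.closure_union, Subgroup.closure_eq, Subgroup.zpowers_eq_closure]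
            rw [hgen]
            intro a ha b hb
            refine congrArg Subtype.val ((Subgroup.isMulCommutative_closure
              (k := (Z : Set Ω) ∪ {x}) ?_).1.comm ⟨a, ha⟩ ⟨b, hb⟩)
            rintro u (hu | rfl) v (hv | rfl)
            · exact (centralizes_mem.mp (hZc hu)).2 v (hRS (hDR (hZD hv)))
            · exact (centralizes_mem.mp (hZc hu)).2 _ hxS
            · exact ((centralizes_mem.mp (hZc hv)).2 _ hxS).symm
            · rfl
          exact ⟨sup_le hZH (Subgroup.zpowers_le.mpr hxH), hc, fun y hy => hDs y (hle hy)⟩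
    have hGp : IsPGroup p (F.autGroup R) := by
      refine FusionSmallElements.isPGroup_of_coprime_trivial _ fun α hα hc => hdet α hc fun x hx => ?_
      have hxR := hDR hx
      have hd : x⁻¹ * afun α x ∈ D := D.mul_mem (D.inv_mem hx) (hDinv α x hx)
      have h1 := hfixed _ hd (h.gen R hRS α hα hc x hxR) R _ ((mem_autGroup hRS).mp hα) (hDR hd)
      rw [afun_apply α hxR] at h1 ⊢
      refine congrArg Subtype.val
        (FusionSmallElements.eq_of_step (hS.to_le hRS) hc (x := ⟨x, hxR⟩) (Subtype.ext ?_))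
      rw [← afun_coe]
      exact h1
    obtain ⟨b, hb, hbe⟩ := sylIn_absorb hsylF hGp le_rfl
    have h1 := hbe (b⁻¹ * g * b) (mul_mem (mul_mem (inv_mem hb) hg) hb)
    have e1 : b * (b⁻¹ * g * b) * b⁻¹ = g := by group
    rw [e1] at h1
    exact autInducedBy_le hRS h1

/-- Every map of `F` is a map of `E`. -/
theorem mor_of_ctrl {S : Subgroup Ω} [Finite S] {E F : Cfsg.FusionSystem S} {H : Subgroup Ω}
    (hS : IsPGroup p S) (h : Ctrl p E F H) : ∀ P f, Mor F P f → Mor E P f := by
  suffices ∀ (n : ℕ) (S : Subgroup Ω) (_ : Finite S) (E F : Cfsg.FusionSystem S)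
      (H : Subgroup Ω), IsPGroup p S → {x | x ∈ S ∧ ¬ Fixed F x}.ncard = n → Ctrl p E F H →
      ∀ P f, Mor F P f → Mor E P f from this _ S inferInstance E F H hS rfl h
  intro n
  induction n using Nat.strong_induction_on with
  | _ n ih =>
    intro S _ E F H hS hn h
    have IH : ∀ (S' : Subgroup Ω) (_ : Finite S') (E' F' : Cfsg.FusionSystem S')
        (H' : Subgroup Ω), S' ≤ S →
        {x | x ∈ S' ∧ ¬ Fixed F' x}.ncard < {x | x ∈ S ∧ ¬ Fixed F x}.ncard →
        Ctrl p E' F' H' → ∀ P f, Mor F' P f → Mor E' P f :=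
      fun S' hf E' F' H' hle hlt h' => ih _ (hn ▸ hlt) S' hf E' F' H' (hS.to_le hle) rfl h'
    suffices ∀ (m : ℕ) (P : Subgroup Ω) (f : Ω → Ω), Nat.card S - Nat.card P = m → Mor F P f → Mor E P f from
      fun P f hf => this _ P f rfl hf
    intro m
    induction m using Nat.strong_induction_on with
    | _ m ihm =>
      intro P f hm hf
      have hPS := hf.le
      obtain ⟨R, hPR, hR⟩ := exists_fullyNormalized (F := F) hPS
      have hcardR := FusionSysBasic.isConj_card hPR
      have hbig : ∀ (Q : Subgroup Ω) (g : Ω → Ω), Nat.card R < Nat.card Q → Mor F Q g → Mor E Q g := fun Q g hlt hg =>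
        ihm _ (by
          have := Subgroup.card_le_of_le hg.le
          omega) Q g rfl hg
      have haut := autGroup_le hS h IH hR hbig
      -- maps to the fully normalized conjugate
      have toR : ∀ Q : Subgroup Ω, F.IsConj Q R → ∃ a, Mor E Q a ∧ im Q a = R := by
        intro Q hQ
        rcases eq_or_lt_of_le (FusionSysBasic.isConj_left_le hQ) with rfl | hlt
        · have := isConj_self_eq hQ
          subst this
          exact ⟨_, mor_id le_rfl, im_id _⟩
        · obtain ⟨a, ha, -, haim⟩ := exists_map_to_fullyNormalized hS h.satF hR hQ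
          refine ⟨a, (hbig _ a ?_ ha).restrict_to (le_normalizerIn hlt.le), haim⟩
          rw [← FusionSysBasic.isConj_card hQ]
          exact normalizerIn_gt hS hlt
      obtain ⟨a, ha, haim⟩ := toR P hPR
      obtain ⟨b, hb, hbim⟩ := toR (im P f) (FusionSysBasic.isConj_trans
        (FusionSysBasic.isConj_symm (FusionSysBasic.isConj_iff.mpr ⟨f, hf, rfl⟩)) hPR)
      obtain ⟨ai, hai, haia, haai, haimem⟩ := ha.exists_inv
      rw [haim] at hai haai haimem
      have hc : Mor F R (b ∘ f ∘ ai) :=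
        Mor.comp ((h.sub _ _ hai).comp hf haimem) (h.sub _ _ hb)
          fun x hx => apply_mem_im (haimem x hx)
      obtain ⟨γ, hγ, hγe⟩ := hc.exists_aut
        (hc.im_self fun x hx => hbim.le (apply_mem_im (apply_mem_im (haimem x hx))))
      have hγE : Mor E R (afun γ) := (mem_autGroup hR.1).mp (haut hγ)
      have hbf : Mor E P (b ∘ f) := (ha.comp hγE fun x hx => haim ▸ apply_mem_im hx).congr
        fun x hx => by
          show afun γ (a x) = b (f x)
          rw [hγe _ (haim ▸ apply_mem_im hx)]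
          show b (f (ai (a x))) = _
          rw [haia x hx]
      obtain ⟨bi, hbi, hbib, -, -⟩ := hb.exists_inv
      exact (hbf.comp hbi fun x hx => apply_mem_im (apply_mem_im hx)).congr
        fun x hx => hbib _ (apply_mem_im hx)

end Main

end Cfsg.Agent.FusionControlElementary
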