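import Cfsg.Agent.Lib.FusionFunctorLocal
import Cfsg.Agent.Lib.PGroupsBasic

/-!
Control by a functor when the core is not centric: only the normalizer systems of fully normalized
subgroups properly over the core are used.
-/

set_option autoImplicit false

universe u

namespace Cfsg.Agent.FusionCoreNoncentric

open Cfsg Cfsg.FusionSystem Cfsg.Agent.FusionSysBasic Cfsg.Agent.FusionSysSaturated
  Cfsg.Agent.FusionSysNormal Cfsg.Agent.FusionFunctorLocal Cfsg.Agent.FusionInduct88

variable {W : ∀ (Q : Type u) [Group Q], Subgroup Q} {p : ℕ} [Fact p.Prime] {Ω : Type u} [Group Ω]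
  {S : Subgroup Ω} [Finite S] {F : FusionSystem S}

/-- Control in the normalizer systems of fully normalized subgroups that are not normal. -/
def CtlNormalizers (W : ∀ (Q : Type u) [Group Q], Subgroup Q) (F : FusionSystem S)
    (Φ : Subgroup Ω → (Ω → Ω) → Prop) : Prop :=
  ∀ (R : Subgroup Ω) (hR : F.IsFullyNormalized R), ¬ F.IsNormal R →
    haveI := finite_normalizerIn (S := S) R
    Ctl W (normalizerSystem F R hR.1) Φ

/-- Maps on subgroups of order above `m` have the property if the automorphisms over `C` do. -/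
theorem large_of {Φ : Subgroup Ω → (Ω → Ω) → Prop} (hΦ : Closed F (U := S) Φ) (hS : IsPGroup p S)
    (hF : F.IsSaturated p) {C : Subgroup Ω} (hC : F.IsNormal C) (m : ℕ)
    (h : ∀ R, F.IsFullyNormalized R → C ≤ R → m < Nat.card R → ∀ α ∈ F.autGroup R, Φ R (afun α))
    {P : Subgroup Ω} {f : Ω → Ω} (hf : Mor F P f) (hP : m < Nat.card P) : Φ P f := by
  suffices ∀ d j, Nat.card S ≤ j + d → m ≤ j → ∀ P f, Mor F P f → j < Nat.card P → Φ P f from
    this (Nat.card S) m (Nat.le_add_left _ _) le_rfl P f hf hP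
  intro d
  induction d with
  | zero =>
    intro j hj _ P f hf hP
    have := Subgroup.card_le_of_le hf.le
    omega
  | succ d ihd =>
    intro j hj hmj P f hf hP
    refine (FusionInduct88.induction hS hF (closed_large hΦ j) (fun R hR α hα hn => ?_) hf :
      Large j Φ P f) hP
    by_cases hCR : C ≤ R
    · exact h R hR hCR (hmj.trans_lt hn) α hα
    obtain ⟨f', hf', hag, -⟩ := (isNormal_iff.mp hC).2 R (afun α) ((mem_autGroup hR.1).mp hα)
    have hle : R ⊔ C ≤ S := sup_le hR.1 (normal_le hC)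
    have hlt : Nat.card R < Nat.card ↥(R ⊔ C) := by
      haveI := finite_of_le hle
      refine lt_of_le_of_ne (Subgroup.card_le_of_le le_sup_left) fun e => hCR ?_
      exact (le_sup_right : C ≤ R ⊔ C).trans (eq_of_le_of_card_ge hle le_sup_left e.ge).ge
    exact hΦ.congr (closed_mor_restrict hΦ hf' le_sup_left
      (ihd (j + 1) (by omega) (by omega) _ f' hf' (by omega))) hag

/-- An element centralizing a non-centric normal subgroup, outside it and central modulo it. -/
theorem exists_central_mod (hS : IsPGroup p S) {C : Subgroup Ω} (hC : F.IsNormal C)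
    (hQc : ¬ F.IsCentric C) :
    ∃ c ∈ S, c ∉ C ∧ (∀ y ∈ C, y * c = c * y) ∧ ∀ r ∈ S, r⁻¹ * c * r * c⁻¹ ∈ C := by
  classical
  have hCS : C ≤ S := normal_le hC
  set C' := C.subgroupOf S with hC'
  haveI : C'.Normal := Subgroup.normal_subgroupOf_of_le_normalizer (le_normalizer_of_normal hC)
  set K := Subgroup.centralizer (C' : Set ↥S) with hK
  haveI : K.Normal := Subgroup.normal_centralizer
  set θ := QuotientGroup.mk' C' with hθ
  haveI : (K.map θ).Normal :=
    Subgroup.Normal.map inferInstance θ (QuotientGroup.mk'_surjective _)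
  have hne : K.map θ ≠ ⊥ := by
    intro e
    refine hQc ⟨hCS, fun Q' hQ' => ?_⟩
    obtain ⟨f, hf, rfl⟩ := FusionSysBasic.isConj_iff.mp hQ'
    rw [hf.im_self fun x hx => normal_invariant hC hf hx hx]
    intro c hc
    obtain ⟨hcS, hcc⟩ := mem_centralizerIn.mp hc
    have h1 : (⟨c, hcS⟩ : ↥S) ∈ K := Subgroup.mem_centralizer_iff.mpr fun y hy => Subtype.ext (by
      have h2 := hcc y hy
      rw [cj_apply, mul_inv_eq_iff_eq_mul] at h2
      exact h2.symm)
    have h2 := Subgroup.mem_map_of_mem θ h1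
    rw [e, Subgroup.mem_bot] at h2
    exact (QuotientGroup.eq_one_iff (N := C') _).mp h2
  obtain ⟨⟨q, ⟨k, hk, rfl⟩, hz⟩, hne1⟩ :=
    Subgroup.ne_bot_iff_exists_ne_one.mp (PGroupsBasic.inf_center_ne_bot (hS.to_quotient C') hne)
  refine ⟨k, k.2, fun hkC => hne1 (Subtype.ext ((QuotientGroup.eq_one_iff _).mpr hkC)),
    fun y hy => congrArg Subtype.val (Subgroup.mem_centralizer_iff.mp hk ⟨y, hCS hy⟩ hy),
    fun r hr => ?_⟩
  have h3 := Subgroup.mem_center_iff.mp hz (θ ⟨r, hr⟩)⁻¹
  have h4 : θ ((⟨r, hr⟩ : ↥S)⁻¹ * k * ⟨r, hr⟩ * k⁻¹) = 1 := by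
    rw [map_mul, map_mul, map_mul, map_inv, map_inv, h3]; group
  exact (QuotientGroup.eq_one_iff (N := C') _).mp h4

variable (hW : Fn p W)
  (hWC : ∀ (Q : Type u) [Group Q] [Finite Q], IsPGroup p Q →
    Subgroup.centralizer (W Q : Set Q) ≤ W Q)
include hW hWC

/-- The maps preserving a subgroup properly over the core have the property. -/
theorem onNormalizer_over {Φ : Subgroup Ω → (Ω → Ω) → Prop} (hΦ : Closed F (U := S) Φ)
    (hS : IsPGroup p S) (hF : F.IsSaturated p) (hB : OnNormalizer F (Ws W S) Φ)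
    (IH : CtlNormalizers W F Φ) (hQc : ¬ F.IsCentric F.core) {R : Subgroup Ω}
    (hR : F.IsFullyNormalized R) (hCR : F.core < R) : OnNormalizer F R Φ := by
  have hCn : F.IsNormal F.core := core_isNormal
  have hCS : F.core ≤ S := normal_le hCn
  have hSC : S ≤ Subgroup.normalizer (F.core : Set Ω) := le_normalizer_of_normal hCn
  suffices ∀ n, ∀ R : Subgroup Ω, F.IsFullyNormalized R → F.core < R →
      Nat.card S ≤ Nat.card (normalizerIn S R) + n → OnNormalizer F R Φ from
    this _ R hR hCR (Nat.le_add_left _ _)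
  clear! R
  intro n
  induction n using Nat.strong_induction_on with
  | _ n IHn =>
    intro R hR hR1 hcard
    have hRS : R ≤ S := hR.1
    haveI := finite_normalizerIn (S := S) R
    have hG := isNormalizerSystem_normalizerSystem (F := F) R hRS
    have hTS : normalizerIn S R ≤ S := inf_le_left
    have hTp : IsPGroup p (normalizerIn S R) := hS.to_le hTS
    have h := IH R hR (fun hN => hR1.not_ge (le_core hN)) ?_
    · exact fun P f hf hP hfv hx => h P f ((mor_normalizerSystem_iff hG).mpr ⟨hf, hP, hfv, hx⟩)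
    intro P g hg hP hgv ⟨g', hg', hag, him⟩
    rcases hTS.eq_or_lt with hT | hT
    · rw [show Ws W (normalizerIn S R) = Ws W S by rw [hT]] at hP hgv him hg'
      refine hB P g ((mor_normalizerSystem_iff hG).mp hg).1 (hP.trans ?_)
        (fun x hx => (?_ : normalizerIn (normalizerIn S R) (Ws W S) ≤ _) (hgv x hx))
        ⟨g', ((mor_normalizerSystem_iff hG).mp hg').1, hag, him⟩
      all_goals exact inf_le_inf_right _ hTS
    set T := normalizerIn S R with hTdef
    set U₁ := Ws W T with hU₁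
    have hU₁T : U₁ ≤ T := Ws_le T
    have hCT : F.core ≤ T := hR1.le.trans (le_normalizerIn hRS)
    -- the functor value is not inside the core
    have hU₁C : ¬ U₁ ≤ F.core := by
      intro hle
      obtain ⟨c, hcS, hcC, hcc, hcen⟩ := exists_central_mod hS hCn hQc
      have hcT : c ∈ T := ⟨hcS, mem_normalizer_of_cj_le hRS fun r hr => by
        have h2 : cj c r = r * (r⁻¹ * c * r * c⁻¹) := by rw [cj_apply]; group
        rw [h2]; exact R.mul_mem hr (hR1.le (hcen r (hRS hr)))⟩
      have hcW : (⟨c, hcT⟩ : ↥T) ∈ W ↥T := hWC ↥T hTp (Subgroup.mem_centralizer_iff.mpr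
        fun u hu => Subtype.ext (hcc u (hle ⟨u, hu, rfl⟩)))
      exact hcC (hle ⟨_, hcW, rfl⟩)
    set U₀ := U₁ ⊔ F.core with hU₀
    have hU₀S : U₀ ≤ S := sup_le (hU₁T.trans hTS) hCS
    set D := normalizerIn S U₀ with hD
    haveI := finite_normalizerIn (S := S) U₀
    have hnorm : ∀ x ∈ S, x ∈ Subgroup.normalizer (T : Set Ω) → x ∈ D := fun x hxS hx =>
      ⟨hxS, mem_normalizer_of_cj_le hU₀S fun y hy => mor_sup_induction
        (mor_cj (F := F) hU₀S hxS) (fun a ha => Subgroup.mem_sup_left (cj_mem_Ws hW hTp hx ha))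
        (fun b hb => Subgroup.mem_sup_right (cj_mem_of_normalizer (hSC hxS) hb)) hy⟩
    have hTle : T ≤ D := fun x hx => hnorm x (hTS hx) (Subgroup.le_normalizer hx)
    have hTD : Nat.card T < Nat.card D :=
      (FusionWeakAlperin.card_lt_normalizerIn hS hT).trans_le
        (Subgroup.card_le_of_le fun x hx => hnorm x hx.1 hx.2)
    obtain ⟨U, hconj, hUfn⟩ := exists_fullyNormalized (F := F) hU₀S
    obtain ⟨θ, hθ, hθv, hθU⟩ := exists_map_to_fullyNormalized hS hF hUfn hconj
    have hU₀D : U₀ ≤ D := le_normalizerIn hU₀S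
    have hCD : F.core ≤ D := (le_sup_right : F.core ≤ U₀).trans hU₀D
    have hCU : F.core < U := by
      have him : im F.core θ = F.core := (hθ.restrict_to hCD).im_self fun x hx =>
        normal_invariant hCn hθ (hCD hx) hx
      refine lt_of_le_of_ne (him ▸ hθU ▸ im_mono le_sup_right) fun e => hU₁C ?_
      have h1 : Nat.card U₀ = Nat.card U := by rw [← hθU, (hθ.restrict_to hU₀D).card_im]
      rw [← e] at h1
      exact (le_sup_left : U₁ ≤ U₀).trans (eq_of_le_of_card_ge hU₀S le_sup_right h1.le).ge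
    have hcardU : Nat.card D ≤ Nat.card (normalizerIn S U) := hUfn.2 U₀ (isConj_symm hconj)
    have hDS : Nat.card D ≤ Nat.card S := Subgroup.card_le_of_le inf_le_left
    -- the property for the map to `U`
    have hCcard : Nat.card F.core ≤ Nat.card T := Subgroup.card_le_of_le hCT
    have hθΦ : Φ D θ := by
      refine large_of hΦ hS hF hCn (Nat.card T) (fun R' hR' hCR' hn α hα => ?_) hθ hTD
      haveI := finite_normalizerIn (S := S) R'
      have hle : Nat.card R' ≤ Nat.card (normalizerIn S R') :=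
        Subgroup.card_le_of_le (le_normalizerIn hR'.1)
      have hlt : F.core < R' := lt_of_le_of_ne hCR' fun e => by rw [← e] at hn; omega
      exact IHn (Nat.card S - Nat.card (normalizerIn S R')) (by omega) R' hR' hlt (by omega) R'
        (afun α) ((mem_autGroup hR'.1).mp hα) (le_normalizerIn hR'.1)
        (fun x hx => le_normalizerIn hR'.1 (afun_mem α hx))
        ⟨afun α, by rw [sup_idem]; exact (mem_autGroup hR'.1).mp hα, fun _ _ => rfl, im_afun α⟩
    have hU : OnNormalizer F U Φ :=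
      IHn (Nat.card S - Nat.card (normalizerIn S U)) (by omega) U hUfn hCU (by omega)
    -- extend the map over the core
    obtain ⟨g'', hg'', hag', himC⟩ :=
      (isNormal_iff.mp hCn).2 _ g' ((mor_normalizerSystem_iff hG).mp hg').1
    have hP'eq : P ⊔ U₀ = P ⊔ U₁ ⊔ F.core := (sup_assoc _ _ _).symm
    set P' := P ⊔ U₁ ⊔ F.core with hP'def
    have hP'T : P' ≤ T := sup_le hg'.le hCT
    have hg'T : ∀ x ∈ P', g'' x ∈ T := fun x hx => mor_sup_induction hg''
      (fun a ha => by rw [hag' a ha]; exact hg'.apply_mem ha)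
      (fun b hb => hCT (himC.le (apply_mem_im hb))) hx
    have hPP' : P ≤ P' := le_sup_left.trans le_sup_left
    have hU₀P' : U₀ ≤ P' := hP'eq ▸ le_sup_right
    have him'' : im U₀ g'' = U₀ := (hg''.restrict_to hU₀P').im_self fun x hx =>
      mor_sup_induction (hg''.restrict_to hU₀P')
        (fun a ha => Subgroup.mem_sup_left (by
          rw [hag' a (Subgroup.mem_sup_right ha)]; exact him.le (apply_mem_im ha)))
        (fun b hb => Subgroup.mem_sup_right (himC.le (apply_mem_im hb))) hx
    have hP'D : P' ≤ D := hP'T.trans hTle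
    obtain ⟨j, hj, hjl, -, hjv⟩ := hθ.exists_inv
    have hjΦ : Φ (im D θ) j := hΦ.inv hθ hj hθ.le hjl hθΦ
    have hθP := hθ.restrict_to hP'D
    have hjP : Mor F (im P' θ) j := hj.restrict_to (im_mono hP'D)
    have h1 : Mor F (im P' θ) (g'' ∘ j) := hjP.comp hg'' fun y hy => by
      obtain ⟨x, hx, rfl⟩ := hθP.mem_im.mp hy
      rw [hjl x (hP'D hx)]; exact hx
    have h1D : ∀ y ∈ im P' θ, (g'' ∘ j) y ∈ D := fun y hy => by
      obtain ⟨x, hx, rfl⟩ := hθP.mem_im.mp hy
      rw [Function.comp_apply, hjl x (hP'D hx)]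
      exact hTle (hg'T x hx)
    have hh : Mor F (im P' θ) (θ ∘ (g'' ∘ j)) := h1.comp hθ h1D
    have hUP' : U ≤ im P' θ := hθU ▸ im_mono hU₀P'
    have hhU : Φ (im P' θ) (θ ∘ (g'' ∘ j)) := by
      refine hU _ _ hh (im_le_iff.mpr fun x hx => hθv x (hP'D hx)) (fun y hy => hθv _ (h1D y hy))
        ⟨θ ∘ (g'' ∘ j), by rwa [sup_eq_left.mpr hUP'], fun _ _ => rfl, ?_⟩
      refine (hh.restrict_to hUP').im_self fun y hy => ?_
      rw [← hθU] at hy
      obtain ⟨x, hx, rfl⟩ := (hθP.restrict_to hU₀P').mem_im.mp hy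
      rw [Function.comp_apply, Function.comp_apply, hjl x (hP'D (hU₀P' hx)), ← hθU]
      exact apply_mem_im (him''.le (apply_mem_im hx))
    have h2 : Φ P' ((θ ∘ (g'' ∘ j)) ∘ θ) :=
      hΦ.comp hθP hh hθP.le hh.le (fun x hx => apply_mem_im hx)
        (closed_mor_restrict hΦ hθ hP'D hθΦ) hhU
    have hcomp : Mor F P' ((θ ∘ (g'' ∘ j)) ∘ θ) := hθP.comp hh fun x hx => apply_mem_im hx
    have hval : ∀ x ∈ P', ((θ ∘ (g'' ∘ j)) ∘ θ) x = θ (g'' x) := fun x hx => by
      simp only [Function.comp_apply, hjl x (hP'D hx)]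
    have h3 : Φ P' (j ∘ ((θ ∘ (g'' ∘ j)) ∘ θ)) :=
      hΦ.comp hcomp hj hcomp.le hj.le
        (fun x hx => by rw [hval x hx]; exact apply_mem_im (hTle (hg'T x hx))) h2 hjΦ
    have h4 : Φ P' g'' := hΦ.congr h3 fun x hx => by
      rw [Function.comp_apply, hval x hx, hjl _ (hTle (hg'T x hx))]
    exact hΦ.congr (closed_mor_restrict hΦ hg'' hPP' h4) fun x hx => by
      rw [hag' x (Subgroup.mem_sup_left hx), hag x hx]

/-- Control when the core is not centric. -/
theorem all_of_core_noncentric {Φ : Subgroup Ω → (Ω → Ω) → Prop} (hΦ : Closed F (U := S) Φ)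
    (hS : IsPGroup p S) (hF : F.IsSaturated p) (hB : OnNormalizer F (Ws W S) Φ)
    (IH : CtlNormalizers W F Φ) (hQc : ¬ F.IsCentric F.core) {P : Subgroup Ω} {f : Ω → Ω}
    (hf : Mor F P f) : Φ P f := by
  have hCn : F.IsNormal F.core := core_isNormal
  have hCS : F.core ≤ S := normal_le hCn
  have hbig : ∀ R, F.IsFullyNormalized R → F.core < R → ∀ α ∈ F.autGroup R, Φ R (afun α) :=
    fun R hR hlt α hα => onNormalizer_over hW hWC hΦ hS hF hB IH hQc hR hlt R (afun α)
      ((mem_autGroup hR.1).mp hα) (le_normalizerIn hR.1)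
      (fun x hx => le_normalizerIn hR.1 (afun_mem α hx))
      ⟨afun α, by rw [sup_idem]; exact (mem_autGroup hR.1).mp hα, fun _ _ => rfl, im_afun α⟩
  refine large_of hΦ hS hF hCn 0 (fun R hR hle _ α hα => ?_) hf (by
    haveI := finite_of_le hf.le; exact Nat.card_pos)
  rcases hle.eq_or_lt with e | hlt
  · obtain ⟨f', hf', hag, -⟩ := exists_extension_centralizer
      (receptive_of_fullyNormalized hS hF hR) ((mem_autGroup hR.1).mp hα) (im_afun α)
    obtain ⟨c, hcS, hcC, hcc, -⟩ := exists_central_mod hS hCn hQc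
    have hlt : Nat.card F.core < Nat.card ↥(R ⊔ centralizerIn S R) := by
      subst e
      have hle : F.core ⊔ centralizerIn S F.core ≤ S := sup_le hCS inf_le_left
      haveI := finite_of_le hle
      refine lt_of_le_of_ne (Subgroup.card_le_of_le le_sup_left) fun e => hcC ?_
      rw [eq_of_le_of_card_ge hle le_sup_left e.ge]
      refine Subgroup.mem_sup_right (mem_centralizerIn.mpr ⟨hcS, fun y hy => ?_⟩)
      rw [cj_apply, ← hcc y hy, mul_inv_cancel_right]
    exact hΦ.congr (closed_mor_restrict hΦ hf' le_sup_left (large_of hΦ hS hF hCn (Nat.card F.core)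
      (fun R' hR' hle' hn α' hα' => hbig R' hR'
        (lt_of_le_of_ne hle' fun e' => by rw [← e'] at hn; omega) α' hα') hf' hlt)) hag
  · exact hbig R hR hlt α hα

end Cfsg.Agent.FusionCoreNoncentric
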