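import Cfsg.Agent.Lib.FusionNilReduction
import Cfsg.Agent.Lib.GlaubermanZJ
import Cfsg.Agent.Lib.ThompsonAQ
import Cfsg.Agent.S3082
import Cfsg.Agent.Lib.FusionSolvable88

/-!
Nilpotency criteria for saturated fusion systems at odd primes: the Glauberman-Thompson criterion
relative to a strongly closed subgroup, and tools for the transfer between systems, models and
quotients.
-/

set_option autoImplicit false

universe u v

namespace Cfsg.Agent.FusionCriteria

open Cfsg Cfsg.FusionSystem Cfsg.Agent.FusionSysBasic Cfsg.Agent.FusionSysSaturated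
  Cfsg.Agent.FusionSysNormal Cfsg.Agent.FusionNilReduction

variable {Ω : Type u} [Group Ω] {S : Subgroup Ω} [Finite S] {F : FusionSystem S} {p : ℕ}
  [Fact p.Prime]

theorem nil_of_inner (hS : IsPGroup p S)
    (h : ∀ P : Subgroup Ω, F.Hom P = (innerFusionSystem S).Hom P) : Nil F p := by
  intro R hR
  refine (isPGroup_autInducedBy hS R).to_le fun α hα => ?_
  obtain ⟨φ, hφ, he⟩ := (mem_autGroup hR).mp hα
  rw [h R] at hφ
  obtain ⟨-, g, hg, hge⟩ := hφ
  have key : ∀ x ∈ R, afun α x = cj g x := fun x hx => (he ⟨x, hx⟩).symm.trans (hge ⟨x, hx⟩)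
  refine mem_autInducedBy.mpr ⟨g, hg, mem_normalizer_of_cj_le hR fun x hx => ?_, key⟩
  rw [← key x hx]
  exact afun_mem α hx

theorem hom_eq_inner_of_nil (hS : IsPGroup p S) (hF : F.IsSaturated p) (h : Nil F p) :
    ∀ P : Subgroup Ω, F.Hom P = (innerFusionSystem S).Hom P := fun P => by
  rw [← eq_inner_of_nil hS hF h]

/-! ### The groups `Z(J)` inside a possibly infinite ambient group -/

omit [Finite S] [Fact p.Prime] in
theorem thomY_eq_map {D : Subgroup Ω} (hD : D ≤ S) :
    GlaubermanZJ.thomY 0 D = (GlaubermanZJ.thomY 0 (D.subgroupOf S)).map S.subtype := by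
  rw [← GlaubermanZJ.thomY_map S.subtype_injective, Subgroup.map_subgroupOf_eq_of_le hD]

theorem thomY_ne_bot (hS : IsPGroup p S) {D : Subgroup Ω} (hD : D ≤ S) (hne : D ≠ ⊥) :
    GlaubermanZJ.thomY 0 D ≠ ⊥ := by
  rw [thomY_eq_map hD, ne_eq, Subgroup.map_eq_bot_iff_of_injective _ S.subtype_injective]
  refine GlaubermanZJ.thomY_ne_bot (p := p) (Or.inl rfl) (hS.to_subgroup _) fun e => hne ?_
  rw [← Subgroup.map_subgroupOf_eq_of_le hD, e, Subgroup.map_bot]

theorem upS_thomY {G : Type v} [Group G] (ι : S →* G) (hι : Function.Injective ι)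
    {D : Subgroup Ω} (hD : D ≤ S) :
    FusionRealized87.upS ι (GlaubermanZJ.thomY 0 D) =
      GlaubermanZJ.thomY 0 (FusionRealized87.upS ι D) := by
  show ((GlaubermanZJ.thomY 0 D).subgroupOf S).map ι =
    GlaubermanZJ.thomY 0 ((D.subgroupOf S).map ι)
  rw [GlaubermanZJ.thomY_map hι]
  congr 1
  rw [thomY_eq_map hD]
  exact Subgroup.comap_map_eq_self_of_injective S.subtype_injective _

/-! ### Models -/

theorem nil_of_isPGroup_model {L : Type v} [Group L] {ι : S →* L} (hS : IsPGroup p S)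
    (hM : F.IsModel p L ι) (hL : IsPGroup p L) : Nil F p := by
  obtain ⟨hfin, hι, ⟨T, hT⟩, -⟩ := hM
  haveI := hfin
  have hrange : ι.range = ⊤ := by
    rw [← hT]
    exact (T.3 (hL.of_equiv Subgroup.topEquiv.symm) le_top).symm
  intro R hR
  refine (isPGroup_autInducedBy hS R).to_le fun α hα => ?_
  obtain ⟨-, -, g, hg⟩ := (FusionRealized87.mor_iff hι).mp ((mem_autGroup hR).mp hα)
  obtain ⟨s, rfl⟩ : g ∈ ι.range := hrange ▸ Subgroup.mem_top g
  have key : ∀ x ∈ R, afun α x = cj (s : Ω) x := fun x hx => by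
    refine FusionRealized87.up_inj hι (hR (afun_mem α hx)) (cj_mem_S s.2 (hR hx)) ?_
    rw [hg x hx, FusionRealized87.up_cj ι s.2 (hR hx), FusionRealized87.up_apply ι s.2]
  refine mem_autInducedBy.mpr ⟨s, s.2, mem_normalizer_of_cj_le hR fun x hx => ?_, key⟩
  rw [← key x hx]
  exact afun_mem α hx

/-- If the normalizer system of a subgroup normal in `S` is nilpotent, so is the normalizer of its
image in a model. -/
theorem isPGroup_normalizer_model (hS : IsPGroup p S) (hF : F.IsConstrained p) {L : Type v}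
    [Group L] {ι : S →* L} (hM : F.IsModel p L ι) {U : Subgroup Ω} (hU : U ≤ S)
    (hUn : S ≤ Subgroup.normalizer (U : Set Ω)) (h : NilAt F p U) :
    IsPGroup p ↥(Subgroup.normalizer ((FusionRealized87.upS ι U : Subgroup L) : Set L)) := by
  obtain ⟨hFs, Q₀, hQ₀, hQ₀c⟩ := hF
  have hι := hM.2.1
  set Q := F.core with hQ
  have hQn : F.IsNormal Q := core_isNormal
  have hQS : Q ≤ S := normal_le hQn
  have hQc : F.IsCentric Q := FusCentric.centric_upward hQ₀c (le_core hQ₀) hQS
  have hC := FusionModelTools.model_centralizer_le hS hFs hM hQn hQc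
  refine isPGroup_of_forall fun g hg => ?_
  set R := Q ⊔ U
  have hRS : R ≤ S := sup_le hQS hU
  have hgQ : ∀ x ∈ Q, ∃ y ∈ Q, FusionRealized87.up ι y = cj g (FusionRealized87.up ι x) := by
    intro x hx
    obtain ⟨r, hr, e⟩ := FusionSysModel.model_conj hM hQn g ⟨x, hQS hx⟩ hx
    exact ⟨r, hr, by rw [FusionRealized87.up_apply ι r.2, FusionRealized87.up_apply ι (hQS hx)]
                     exact e.symm⟩
  have hgU : ∀ x ∈ U, ∃ y ∈ U, FusionRealized87.up ι y = cj g (FusionRealized87.up ι x) := by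
    intro x hx
    obtain ⟨y, hy, -, e⟩ := (FusionRealized87.mem_upS ι).mp
      ((Subgroup.mem_normalizer_iff.mp hg _).mp (FusionRealized87.up_mem_upS ι hU hx))
    exact ⟨y, hy, e⟩
  have hle : FusionRealized87.upS ι R ≤
      (FusionRealized87.upS ι R).comap (MulAut.conj g).toMonoidHom := by
    rw [FusionRealized87.upS_sup ι hQS hU]
    refine sup_le (fun z hz => ?_) (fun z hz => ?_)
    · obtain ⟨x, hx, -, rfl⟩ := (FusionRealized87.mem_upS ι).mp hz
      obtain ⟨y, hy, e⟩ := hgQ x hx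
      refine Subgroup.mem_sup_left ?_
      show cj g (FusionRealized87.up ι x) ∈ _
      rw [← e]
      exact FusionRealized87.up_mem_upS ι hQS hy
    · obtain ⟨x, hx, -, rfl⟩ := (FusionRealized87.mem_upS ι).mp hz
      obtain ⟨y, hy, e⟩ := hgU x hx
      refine Subgroup.mem_sup_right ?_
      show cj g (FusionRealized87.up ι x) ∈ _
      rw [← e]
      exact FusionRealized87.up_mem_upS ι hU hy
  have hin : ∀ x ∈ R, cj g (FusionRealized87.up ι x) ∈ FusionRealized87.upS ι R := fun x hx =>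
    hle (FusionRealized87.up_mem_upS ι hRS hx)
  have hm := FusionRealized87.mor_of_conj hι hRS
    fun x hx => FusionRealized87.upS_le ι R (hin x hx)
  have him := hm.im_self fun x hx => by
    obtain ⟨y, hy, -, e⟩ := (FusionRealized87.mem_upS ι).mp (hin x hx)
    show FusionRealized87.down ι (cj g (FusionRealized87.up ι x)) ∈ R
    rw [← e, FusionRealized87.down_up hι (hRS hy)]
    exact hy
  obtain ⟨α, hα, hαe⟩ := hm.exists_aut him
  obtain ⟨k, hk⟩ := h R hRS le_sup_right (sup_le (hQS.trans hUn) Subgroup.le_normalizer) α hα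
    fun x hx => by
      obtain ⟨y, hy, e⟩ := hgU x hx
      rw [hαe x (Subgroup.mem_sup_right hx)]
      show FusionRealized87.down ι (cj g (FusionRealized87.up ι x)) ∈ U
      rw [← e, FusionRealized87.down_up hι (hU hy)]
      exact hy
  have hpow : ∀ (n : ℕ), ∀ x ∈ R,
      FusionRealized87.up ι (afun (α ^ n) x) = cj (g ^ n) (FusionRealized87.up ι x) := by
    intro n
    induction n with
    | zero => intro x hx; rw [pow_zero, pow_zero, afun_one hx, cj_one]
    | succ n ih =>
      intro x hx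
      rw [pow_succ', pow_succ', afun_mul _ _ hx, hαe _ (afun_mem _ hx),
        FusionRealized87.up_down ι (FusionRealized87.upS_le ι R (hin _ (afun_mem _ hx))),
        ih x hx, cj_cj]
  have hcent : g ^ p ^ k ∈ Subgroup.centralizer
      (((Q.subgroupOf S).map ι : Subgroup L) : Set L) := by
    refine Subgroup.mem_centralizer_iff.mpr fun z hz => ?_
    obtain ⟨q, hq, rfl⟩ := hz
    have e := hpow (p ^ k) q (Subgroup.mem_sup_left hq)
    rw [hk, afun_one (show (q : Ω) ∈ R from Subgroup.mem_sup_left hq), FusionRealized87.up_apply ι q.2, cj_apply,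
      eq_mul_inv_iff_mul_eq] at e
    exact e
  obtain ⟨z, -, hz⟩ := hC hcent
  obtain ⟨m, hm'⟩ := hS z
  exact ⟨k + m, by rw [pow_add, pow_mul, ← hz, ← map_pow, hm', map_one]⟩

/-- A group of characteristic `p` with a normal `p`-complement is a `p`-group. -/
theorem isPGroup_of_hasNormalPComplement {L : Type v} [Group L] [Finite L]
    (h : Cfsg.HasNormalPComplement p L)
    (hC : Subgroup.centralizer ((pCore p L : Subgroup L) : Set L) ≤ pCore p L) : IsPGroup p L := by
  obtain ⟨P, N, hN, hcomp⟩ := h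
  haveI := hN
  haveI := HallCore.pCore_normal p L
  have hcard : (Nat.card N).Coprime p := by
    rw [← hcomp.index_eq_card]
    exact ((Fact.out (p := p.Prime)).coprime_iff_not_dvd.mpr P.not_dvd_index).symm
  have hinf : N ⊓ pCore p L = ⊥ := by
    exact disjoint_iff.mp (Subgroup.disjoint_of_coprime_natCard (by
      obtain ⟨n, hn⟩ := IsPGroup.iff_card.mp (HallCore.isPGroup_pCore p L)
      rw [hn]
      exact Nat.Coprime.pow_right n hcard))
  have hNbot : N = ⊥ := by
    have hle : N ≤ pCore p L := fun n hn => hC (Subgroup.mem_centralizer_iff.mpr fun q hq => by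
      have h1 : q * n * q⁻¹ * n⁻¹ ∈ N ⊓ pCore p L := by
        refine ⟨mul_mem (hN.conj_mem n hn q) (Subgroup.inv_mem _ hn), ?_⟩
        rw [mul_assoc q n, mul_assoc]
        exact mul_mem hq ((HallCore.pCore_normal p L).conj_mem _ (Subgroup.inv_mem _ hq) n)
      rw [hinf, Subgroup.mem_bot, mul_inv_eq_one, mul_inv_eq_iff_eq_mul] at h1
      exact h1)
    rw [eq_bot_iff, ← hinf]
    exact le_inf le_rfl hle
  rw [hNbot, Subgroup.isComplement'_bot_left] at hcomp
  exact P.2.of_equiv ((MulEquiv.subgroupCongr hcomp).trans Subgroup.topEquiv)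

theorem hasNormalPComplement_of_isPGroup {L : Type v} [Group L] [Finite L] (hL : IsPGroup p L) :
    Cfsg.HasNormalPComplement p L := by
  obtain ⟨P⟩ : Nonempty (Sylow p L) := inferInstance
  refine ⟨P, ⊥, inferInstance, ?_⟩
  rw [Subgroup.isComplement'_bot_left]
  exact (P.3 (hL.of_equiv Subgroup.topEquiv.symm) le_top).symm

/-! ### Quotients -/

/-- A nilpotent normalizer system of the preimage gives one in the factor system. -/
theorem nilAt_factor {Ω' : Type u} [Group Ω'] {S' : Subgroup Ω'} {θ : S →* Ω'} {Q : Subgroup Ω}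
    {E : FusionSystem S'} (hE : F.IsFactorSystem Q θ E) {V : Subgroup Ω'} (hV : V ≤ S')
    (h : NilAt F p (preimageAlong θ V)) : NilAt E p V := by
  intro R hR hVR hRn α hα hαV
  have hrange := hE.2.2.1
  set R₀ := preimageAlong θ R with hR₀
  have hR₀S : R₀ ≤ S := FusionMorph88.preimageAlong_le θ R
  have happ : ∀ x ∈ R₀, FusionMorph88.app θ x ∈ R := fun x hx =>
    (FusionMorph88.mem_preimageAlong.mp hx).2
  obtain ⟨-, f, hf, hfe⟩ := (FusionMorph88.factor_mor hE).mp ((mem_autGroup hR).mp hα)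
  have hfR : ∀ x ∈ R₀, f x ∈ R₀ := fun x hx =>
    FusionMorph88.mem_preimageAlong.mpr ⟨hf.apply_mem hx, by
      rw [← hfe x hx]; exact afun_mem α (happ x hx)⟩
  obtain ⟨γ, hγ, hγe⟩ := hf.exists_aut (hf.im_self hfR)
  have hVS : preimageAlong θ V ≤ R₀ := FusionMorph88.preimageAlong_mono hVR
  obtain ⟨k, hk⟩ := h R₀ hR₀S hVS
    (fun r hr => mem_normalizer_of_cj_le (FusionMorph88.preimageAlong_le θ V) fun x hx => by
      have hxS := FusionMorph88.preimageAlong_le θ V hx
      refine FusionMorph88.mem_preimageAlong.mpr ⟨cj_mem_S (hR₀S hr) hxS, ?_⟩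
      rw [FusionMorph88.app_cj (hR₀S hr) hxS]
      exact cj_mem_of_normalizer (hRn (happ r hr)) (FusionMorph88.mem_preimageAlong.mp hx).2)
    γ hγ fun x hx => FusionMorph88.mem_preimageAlong.mpr ⟨hR₀S (afun_mem γ (hVS hx)), by
      rw [hγe x (hVS hx), ← hfe x (hVS hx)]
      exact hαV _ (FusionMorph88.mem_preimageAlong.mp hx).2⟩
  refine ⟨k, afun_ext fun y hy => ?_⟩
  rw [afun_one hy]
  obtain ⟨x, hx, -, rfl⟩ := FusionMorph88.mem_imageAlong.mp
    ((FusionMorph88.imageAlong_preimageAlong (hrange ▸ hR : R ≤ θ.range)).ge hy)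
  have hpow : ∀ n : ℕ, ∀ x ∈ R₀, afun (α ^ n) (FusionMorph88.app θ x) =
      FusionMorph88.app θ (afun (γ ^ n) x) := by
    intro n
    induction n with
    | zero => intro x hx; rw [pow_zero, pow_zero, afun_one hx, afun_one (happ x hx)]
    | succ n ih =>
      intro x hx
      rw [pow_succ', pow_succ', afun_mul _ _ (happ x hx), afun_mul _ _ hx, ih x hx,
        hfe _ (afun_mem _ hx), hγe _ (afun_mem _ hx)]
  rw [hpow _ x hx, hk, afun_one hx]

/-! ### The Glauberman-Thompson criterion -/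

/-- The hypothesis: some nontrivial strongly closed `D` has nilpotent `N(Z(J(D)))`. -/
def HypZJ (p : ℕ) (Ω : Type u) [Group Ω] (S : Subgroup Ω) (F : FusionSystem S) : Prop :=
  ∃ D : Subgroup Ω, F.StronglyClosed D ∧ D ≠ ⊥ ∧ NilAt F p (GlaubermanZJ.thomY 0 D)

theorem mor_of_sub {T : Subgroup Ω} (hTS : T ≤ S) {G : FusionSystem T} (hG : G.IsSubsystemOf F)
    {P : Subgroup Ω} {f : Ω → Ω} (hf : Mor G P f) : Mor F P f := by
  obtain ⟨φ, hφ, he⟩ := hf
  exact ⟨φ, hG P hφ, he⟩

theorem stronglyClosed_inf_sub {T D : Subgroup Ω} (hD : F.StronglyClosed D) (hTS : T ≤ S)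
    {G : FusionSystem T} (hG : G.IsSubsystemOf F) : G.StronglyClosed (D ⊓ T) := by
  refine stronglyClosed_iff.mpr ⟨inf_le_right, fun P f hP hf x hx => ?_⟩
  exact ⟨(stronglyClosed_iff.mp hD).2 P f (hP.trans inf_le_left) (mor_of_sub hTS hG hf)
    x hx, hf.apply_mem hx⟩

theorem inf_normalizerIn_ne_bot (hS : IsPGroup p S) {D U : Subgroup Ω} (hD : F.StronglyClosed D)
    (hne : D ≠ ⊥) (hU : U ≤ S) : D ⊓ normalizerIn S U ≠ ⊥ := by
  haveI := hS.isNilpotent
  haveI : (D.subgroupOf S).Normal := ⟨fun d hd g =>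
    cj_mem_of_stronglyClosed hD g.2 hd⟩
  obtain ⟨z, hz, hz1, hzc⟩ := ThompsonAQ.exists_central_mem (N := D.subgroupOf S) fun e => hne (by
    rw [← Subgroup.map_subgroupOf_eq_of_le hD.1, e, Subgroup.map_bot])
  intro e
  refine hz1 (Subtype.ext ?_)
  have : (z : Ω) ∈ D ⊓ normalizerIn S U := ⟨hz, z.2, Subgroup.centralizer_le_normalizer _
    (Subgroup.mem_centralizer_iff.mpr fun u hu =>
      congrArg Subtype.val (Subgroup.mem_center_iff.mp hzc ⟨u, hU hu⟩))⟩
  rwa [e, Subgroup.mem_bot] at this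

omit [Finite S] [Fact p.Prime] in
theorem le_normalizer_closed [Finite S] {D : Subgroup Ω} (hD : F.StronglyClosed D) :
    S ≤ Subgroup.normalizer ((GlaubermanZJ.thomY 0 D : Subgroup Ω) : Set Ω) :=
  (le_normalizer_of_stronglyClosed hD).trans (GlaubermanZJ.normalizer_le_thomY D)

theorem adm_zj (hp : p ≠ 2) : Adm.{u} p (HypZJ p) where
  local_step := by
    intro Ω _ S _ hS F hF hH U hU hfn hlt G hG hV
    obtain ⟨D, hD, hne, -⟩ := hH
    set T := normalizerIn S U
    have hTS : T ≤ S := inf_le_left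
    haveI := finite_normalizerIn (S := S) U
    have hsub := normalizerSystem_sub hG
    have hD' := inf_normalizerIn_ne_bot hS hD hne hfn.1 (F := F)
    refine ⟨D ⊓ T, stronglyClosed_inf_sub hD hTS hsub, hD', nilAt_sub hsub hTS
      (hV _ ((GlaubermanZJ.thomY_le _).trans (inf_le_right.trans hTS))
        (thomY_ne_bot hS (inf_le_right.trans hTS) hD') ?_)⟩
    obtain ⟨g, hgS, hgT, hgn⟩ := FusionSysAlperin.lt_normalizerIn hS le_rfl hlt
    have key : ∀ g ∈ S, g ∈ Subgroup.normalizer (T : Set Ω) →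
        g ∈ normalizerIn S (GlaubermanZJ.thomY 0 (D ⊓ T)) := fun g hg hgn => by
      refine ⟨hg, GlaubermanZJ.normalizer_le_thomY _ ?_⟩
      refine mem_normalizer_of_cj_le (inf_le_right.trans hTS) fun x hx =>
        ⟨cj_mem_of_stronglyClosed hD hg hx.1, cj_mem_of_normalizer hgn hx.2⟩
    exact lt_of_le_of_ne (fun t ht => key t (hTS ht) (Subgroup.le_normalizer ht))
      fun e => hgT (e ▸ key g hgS hgn)
  top_step := by
    intro Ω _ S _ hS F hF hH U hU hUS hT G hG
    obtain ⟨D, hD, hne, hnil⟩ := hH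
    have hsub := normalizerSystem_sub hG
    have hDT : D ⊓ normalizerIn S U = D := by rw [hT]; exact inf_eq_left.mpr hD.1
    refine ⟨D, hDT ▸ stronglyClosed_inf_sub hD inf_le_left hsub, hne,
      nilAt_sub hsub inf_le_left hnil⟩
  quot_step := by
    intro Ω _ S _ hS F hF hH Q hQn hQlt Ω' _ S' θ E hE hY
    have hrange := hE.2.2.1
    haveI : Finite S' := by
      rw [← hrange]; exact Finite.of_surjective _ θ.rangeRestrict_surjective
    have hS' : IsPGroup p S' := by
      rw [← hrange]; exact hS.of_surjective _ θ.rangeRestrict_surjective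
    have hne : (S' : Subgroup Ω') ≠ ⊥ := by
      intro e
      obtain ⟨x, hxS, hxQ⟩ := SetLike.exists_of_lt hQlt
      refine hxQ ((hE.2.1 ⟨x, hxS⟩).mp ?_)
      have : θ ⟨x, hxS⟩ ∈ S' := hrange ▸ ⟨_, rfl⟩
      rwa [e, Subgroup.mem_bot] at this
    set W := GlaubermanZJ.thomY 0 S' with hW
    have hWS : W ≤ S' := GlaubermanZJ.thomY_le S'
    have hWne : W ≠ ⊥ := thomY_ne_bot hS' le_rfl hne
    refine ⟨S', FusionSolvable88.stronglyClosed_self E, hne, nilAt_factor hE hWS
      (hY _ (FusionMorph88.preimageAlong_le θ W) ?_ ?_)⟩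
    · have hker := FusionMorph88.factor_stronglyClosed hE
      refine lt_of_le_of_ne (hker ▸ FusionMorph88.ker_le_preimageAlong W) fun e => hWne ?_
      refine (Subgroup.eq_bot_iff_forall _).mpr fun y hy => ?_
      obtain ⟨s, rfl⟩ : y ∈ θ.range := hrange ▸ hWS hy
      have : (s : Ω) ∈ preimageAlong θ W :=
        FusionMorph88.mem_preimageAlong.mpr ⟨s.2, by rwa [FusionMorph88.app_apply θ s.2]⟩
      exact (hE.2.1 s).mpr (e ▸ this)
    · intro g hg
      refine mem_normalizer_of_cj_le (FusionMorph88.preimageAlong_le θ W) fun x hx => ?_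
      have hxS := FusionMorph88.preimageAlong_le θ W hx
      refine FusionMorph88.mem_preimageAlong.mpr ⟨cj_mem_S hg hxS, ?_⟩
      rw [FusionMorph88.app_cj hg hxS]
      refine cj_mem_of_normalizer (GlaubermanZJ.normalizer_le_thomY S' (Subgroup.le_normalizer ?_))
        (FusionMorph88.mem_preimageAlong.mp hx).2
      rw [FusionMorph88.app_apply θ hg]
      exact hrange ▸ ⟨_, rfl⟩
  base := by
    intro Ω _ S _ hS F hFc hH
    obtain ⟨D, hD, hne, hnil⟩ := hH
    obtain ⟨hFs, Q₀, hQ₀, hQ₀c⟩ := hFc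
    have hh : FusionSysModel.Hyp p F Q₀ := ⟨hS, hFs, hQ₀, hQ₀c⟩
    haveI := FusionSysModel.k0_normal hh
    have hM := FusionSysModel.isModel hh
    set ι := FusionSysModel.iota hh
    obtain ⟨hfin, hι, ⟨P, hP⟩, hC⟩ := id hM
    haveI := hfin
    have hDup : Cfsg.IsStronglyClosed (FusionRealized87.upS ι D) (P : Subgroup _) := by
      refine ⟨hP ▸ FusionRealized87.upS_le ι D, ?_⟩
      intro z hz g hg
      obtain ⟨x, hxD, hxS, rfl⟩ := (FusionRealized87.mem_upS ι).mp hz
      rw [hP] at hg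
      have hle : Subgroup.zpowers (⟨x, hxS⟩ : S) ≤
          ι.range.comap ((MulAut.conj g).toMonoidHom.comp ι) := by
        rw [Subgroup.zpowers_le]
        show cj g (ι ⟨x, hxS⟩) ∈ ι.range
        rw [FusionRealized87.up_apply ι hxS] at hg
        exact hg
      have hzp : (Subgroup.zpowers (⟨x, hxS⟩ : S)).map S.subtype = Subgroup.zpowers x :=
        MonoidHom.map_zpowers _ _
      have hm := FusionRealized87.mor_of_conj hι (P := Subgroup.zpowers x)
        (Subgroup.zpowers_le.mpr hxS) (g := g) fun y hy => by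
          rw [← hzp] at hy
          obtain ⟨s, hs, rfl⟩ := hy
          show cj g (FusionRealized87.up ι (s : Ω)) ∈ ι.range
          rw [FusionRealized87.up_apply ι s.2]
          exact hle hs
      have hmem := (stronglyClosed_iff.mp hD).2 _ _ (Subgroup.zpowers_le.mpr hxD) hm x
        (Subgroup.mem_zpowers x)
      have := FusionRealized87.up_mem_upS ι hD.1 hmem
      rwa [FusionRealized87.up_down ι (show cj g (FusionRealized87.up ι x) ∈ ι.range from hg)] at this
    refine nil_of_isPGroup_model hS hM (isPGroup_of_hasNormalPComplement ?_ hC)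
    refine S3082.result hp P _ hDup (Or.inl ?_)
    have hN := isPGroup_normalizer_model hS ⟨hFs, Q₀, hQ₀, hQ₀c⟩ hM
      ((GlaubermanZJ.thomY_le D).trans hD.1) (le_normalizer_closed hD) hnil
    rw [upS_thomY ι hι.1 hD.1, ← GlaubermanZJ.centerThompsonAOf_eq] at hN
    exact hasNormalPComplement_of_isPGroup hN

/-- The Glauberman-Thompson criterion for fusion systems. -/
theorem nil_of_zj (hp : p ≠ 2) (hS : IsPGroup p S) (hF : F.IsSaturated p) {D : Subgroup Ω}
    (hD : F.StronglyClosed D) (h : NilAt F p (Cfsg.centerThompsonAOf D)) : Nil F p := by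
  rw [GlaubermanZJ.centerThompsonAOf_eq] at h
  by_cases hb : D = ⊥
  · subst hb
    have hb' : GlaubermanZJ.thomY 0 (⊥ : Subgroup Ω) = ⊥ := eq_bot_iff.mpr (GlaubermanZJ.thomY_le _)
    rw [hb'] at h
    intro R hR
    exact isPGroup_of_forall fun α hα => h R hR bot_le
      (fun r _ => by rw [Subgroup.normalizer_eq_top]; trivial) α hα fun x hx => by
        rw [Subgroup.mem_bot] at hx ⊢
        subst hx
        exact ((mem_autGroup hR).mp hα).map_one
  exact nil_of_hyp (adm_zj hp) hS hF ⟨D, hD, hb, h⟩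

end Cfsg.Agent.FusionCriteria
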