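import Cfsg.Agent.Lib.FusionEBalanceCore
import Cfsg.Agent.Lib.FusionCompNormal
import Cfsg.Agent.S5150

/-!
The components of `N_F(X)` lie over the group of the layer of `F` (`component_le_layer`).
-/

set_option autoImplicit false

namespace Cfsg.Agent.FusionEBalance

open Cfsg Cfsg.FusionSystem Cfsg.Agent.FusionSysBasic Cfsg.Agent.FusionSysSaturated
open Cfsg.Agent.FusionSysNormal Cfsg.Agent.FusionKit88
open Cfsg.Agent.FusionCentralizerSub (Valid cs)
open scoped Pointwise

variable {Ω : Type*} [Group Ω] {S : Subgroup Ω} [Finite S] {F : FusionSystem S}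
  {p : ℕ} [Fact p.Prime]

omit [Finite S] [Fact p.Prime] in
/-- A normal subsystem is normal in an intermediate system containing the maps that matter. -/
theorem normal_sub {U U' V : Subgroup Ω} {K : FusionSystem V} {N : FusionSystem U}
    {N' : FusionSystem U'} (hU : U' = U) (hN' : N'.IsSaturated p) (hK : K.IsNormalIn N p)
    (hsub : N'.IsSubsystemOf N)
    (h1 : ∀ P f, P ≤ V → Mor N P f → Mor N' P f)
    (h2 : ∀ f, Mor N (V ⊔ centralizerIn U V) f → Mor N' (V ⊔ centralizerIn U V) f) :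
    K.IsNormalIn N' p := by
  subst hU
  obtain ⟨⟨hKs, -, hI⟩, hext⟩ := hK
  obtain ⟨hKN, hcl, hinv, hfr⟩ := FusionIso88.invariant_iff.1 hI
  have hVU : V ≤ U' := hcl.1
  have hCle : V ⊔ centralizerIn U' V ≤ U' := sup_le hVU inf_le_left
  have haut : ∀ a, a ∈ N.autGroup V ↔ a ∈ N'.autGroup V := fun a =>
    ⟨fun h => mem_autGroup_of_mor (h1 V _ le_rfl ((mem_autGroup hVU).1 h)),
      fun h => mem_autGroup_of_mor (sub_mor hsub ((mem_autGroup hVU).1 h))⟩
  refine ⟨⟨hKs, hN', FusionIso88.invariant_iff.2 ⟨fun P φ hφ => (mor_iff_hom fun x =>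
      (toFun_coe φ x).symm).1 (h1 P _ (mor_toFun hφ).le (sub_mor hKN (mor_toFun hφ))),
    stronglyClosed_iff.2 ⟨hVU, fun P f hP hf x hx => closed_apply hcl (sub_mor hsub hf) hP hx⟩,
    fun P f hf a ha => hinv P f hf a ((haut a).2 ha), fun P f hP hf => ?_⟩⟩, fun α hα => ?_⟩
  · obtain ⟨a, ha, e, he, hfe⟩ := hfr P f hP (sub_mor hsub hf)
    exact ⟨a, (haut a).1 ha, e, he, hfe⟩
  · obtain ⟨β, hβ, hβe⟩ := hext α hα
    exact ⟨β, mem_autGroup_of_mor (h2 _ ((mem_autGroup hCle).1 hβ)), hβe⟩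

omit [Finite S] in
/-- The size of a subsystem drops. -/
theorem lt_measure [Finite S] {S' : Subgroup Ω} {G : FusionSystem S'} (hsub : G.IsSubsystemOf F)
    (hne : S' = S → ¬ F.IsSubsystemOf G) :
    Nat.card S' < Nat.card S ∨ (Nat.card S' = Nat.card S ∧
      (FusionComponentExists.mapSet S' G).ncard < (FusionComponentExists.mapSet S F).ncard) := by
  rcases (sub_le hsub).eq_or_lt with e | hlt
  swap
  · exact Or.inl (Set.Finite.card_lt_card (Set.toFinite _) hlt)
  subst e
  refine Or.inr ⟨rfl, ?_⟩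
  haveI : Finite {P : Subgroup Ω // P ≤ S'} := Set.Finite.to_subtype finite_le_S
  haveI : ∀ P : {P : Subgroup Ω // P ≤ S'}, Finite (P.1 → S') := fun P => by
    haveI := finite_of_le P.2
    infer_instance
  refine Set.ncard_lt_ncard ⟨fun s ⟨φ, hφ, he⟩ => ⟨φ, hsub _ hφ, he⟩, fun hle => hne rfl ?_⟩
    (Set.toFinite _)
  intro P φ hφ
  obtain ⟨hPS, hφS⟩ := F.le_of_mem hφ
  obtain ⟨ψ, hψ, hψe⟩ := hle (⟨φ, hφ, fun _ => rfl⟩ :
    (⟨⟨P, hPS⟩, fun x => ⟨φ x, hφS x⟩⟩ : Σ P : {P : Subgroup Ω // P ≤ S'}, (P.1 → S')) ∈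
      FusionComponentExists.mapSet S' F)
  exact (MonoidHom.ext fun x => hψe x : φ = ψ) ▸ hψ

variable (hS : IsPGroup p S) (hF : F.IsSaturated p) {T X : Subgroup Ω} {E : FusionSystem T}
  (hE : E.IsLayerOf F p)

include hS hF hE in
/-- The step of the induction, when `N_T(X) X` is fully normalized. -/
theorem step (hX : F.IsFullyNormalized X)
    {N : FusionSystem (normalizerIn S X)} (hN : F.IsNormalizerSystem X N)
    (hY : F.IsFullyNormalized (T ⊓ normalizerIn S X ⊔ X))
    (ihY : ∀ Y : Subgroup Ω, Nat.card X < Nat.card Y → ∀ NY : FusionSystem (normalizerIn S Y),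
      F.IsFullyNormalized Y → F.IsNormalizerSystem Y NY →
      ∀ (TD : Subgroup Ω) (D : FusionSystem TD), D.IsComponentIn NY p → TD ≤ T)
    (ihG : ∀ {S' : Subgroup Ω} (G : FusionSystem S'), G.IsSubsystemOf F →
      (S' = S → ¬ F.IsSubsystemOf G) → G.IsSaturated p →
      ∀ (X' : Subgroup Ω) (NX : FusionSystem (normalizerIn S' X')), G.IsFullyNormalized X' →
      G.IsNormalizerSystem X' NX → ∀ {T' : Subgroup Ω} (E' : FusionSystem T'), E'.IsLayerOf G p →
      ∀ (TC : Subgroup Ω) (C : FusionSystem TC), C.IsComponentIn NX p → TC ≤ T')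
    {TC : Subgroup Ω} {C : FusionSystem TC} (hC : C.IsComponentIn N p) : TC ≤ T := by
  have hWS : normalizerIn S X ≤ S := inf_le_left
  haveI := finite_of_le hWS
  have hWp := hS.to_le hWS
  have hNs := FusionSysNormalizer.normalizerSystem_saturated hS hF hX hN
  have hTcl : F.StronglyClosed T := hE.1.1.2.2.2.1
  have hTS := hTcl.1
  set R := T ⊓ normalizerIn S X with hR
  obtain ⟨M, hM, -⟩ := FusionLocalSub.exists_normal_inside hS hF hE.1 hX hN
  rcases FusionCompNormal.component_or_commute hWp hNs hC.1 hC.2 hM with hCM | ⟨hv, hv'⟩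
  · exact (FusionLayer.le_of_subsystem hCM).trans inf_le_left
  exfalso
  by_cases hTX : T ≤ normalizerIn S X
  · exact false_of_T_le hS hF hX hN hC hE hTX (hv.mono (le_inf le_rfl hTX))
  set Y := R ⊔ X with hYdef
  have hXY : X ≤ Y := le_sup_right
  have hXW : X ≤ normalizerIn S X := le_normalizerIn hX.1
  have hYW : Y ≤ normalizerIn S X := sup_le inf_le_right hXW
  have hXlt : Nat.card X < Nat.card Y := by
    haveI := finite_of_le (hYW.trans hWS)
    refine Set.Finite.card_lt_card (Set.toFinite _) (lt_of_le_of_ne hXY fun e => hTX ?_)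
    have hRX : R ≤ X := le_sup_left.trans e.ge
    have hXT : X ≤ Subgroup.normalizer (T : Set Ω) := fun x hx =>
      mem_normalizer_of_cj_le hTS fun t ht => cj_mem_of_stronglyClosed hTcl (hX.1 hx) ht
    set V := X ⊔ T with hV
    have hVS : V ≤ S := sup_le hX.1 hTS
    haveI := finite_of_le hVS
    have hVX : V ≤ X := by
      by_contra hcon
      have hlt := FusionFrattini88.card_lt_normalizerIn (hS.to_le hVS) le_rfl
        (lt_of_le_of_ne (le_sup_left : X ≤ V) fun e => hcon e.ge)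
      haveI := finite_of_le hX.1
      refine absurd (Subgroup.card_le_of_le (H := normalizerIn V X) (K := X) fun v hv' => ?_)
        (not_le.2 hlt)
      have hv1 : v ∈ (X : Set Ω) * (T : Set Ω) := by
        rw [← Subgroup.coe_mul_of_left_le_normalizer_right _ _ hXT]; exact hv'.1
      obtain ⟨x, hx, t, ht, rfl⟩ := Set.mem_mul.1 hv1
      refine X.mul_mem hx (hRX ⟨ht, hTS ht, ?_⟩)
      have := Subgroup.mul_mem _ (Subgroup.inv_mem _ (Subgroup.le_normalizer hx)) hv'.2
      rwa [inv_mul_cancel_left] at this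
    exact (le_sup_right.trans hVX).trans hXW
  have hRcl : ∀ {P : Subgroup Ω} {f : Ω → Ω}, Mor N P f → ∀ x ∈ P, x ∈ R → f x ∈ R :=
    fun hf x hxP hx => ⟨closed_apply' hTcl ((mor_normalizerSystem_iff hN).1 hf).1 hxP hx.1,
      hf.apply_mem hxP⟩
  have hWY : normalizerIn S X ≤ normalizerIn S Y := fun g hg => by
    refine ⟨hg.1, mem_normalizer_of_cj_le hY.1 fun y hy => ?_⟩
    have hm : Mor N Y (cj g) := mor_cj hYW hg
    exact mor_sup_induction hm
      (fun r hr => Subgroup.mem_sup_left (hRcl hm r (Subgroup.mem_sup_left hr) hr))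
      (fun x hx => Subgroup.mem_sup_right (cj_mem_of_normalizer hg.2 hx)) hy
  let G := normalizerSystem F Y hY.1
  have hG := isNormalizerSystem_normalizerSystem (F := F) Y hY.1
  have hGS : normalizerIn S Y ≤ S := inf_le_left
  haveI := finite_of_le hGS
  have hGp := hS.to_le hGS
  have hGs := FusionSysNormalizer.normalizerSystem_saturated hS hF hY hG
  have hGsub : G.IsSubsystemOf F := fun P φ hφ => (mor_iff_hom fun x => (toFun_coe φ x).symm).1
    ((mor_normalizerSystem_iff hG).1 (mor_toFun hφ)).1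
  have hGne : normalizerIn S Y = S → ¬ F.IsSubsystemOf G := by
    intro _ hFG
    have hYn : F.IsNormal Y := isNormal_iff.2 ⟨hY.1, fun P f hf => by
      obtain ⟨-, -, -, g, hg, hge, hgY⟩ := (mor_normalizerSystem_iff hG).1 (sub_mor hFG hf)
      exact ⟨g, hg, hge, hgY⟩⟩
    obtain ⟨φ, hφ, -⟩ := (mor_id (F := E) (le_refl T) : Mor E T fun x => x)
    have hTQ : T ≤ centralizerIn S F.core := (S5150.result p hS F hF E hE T hφ).2.1
    exact hTX fun t ht => ⟨hTS ht, mem_normalizer_of_cj_le hX.1 fun x hx => by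
      rw [(mem_centralizerIn.1 (hTQ ht)).2 x (le_core hYn (hXY hx))]; exact hx⟩
  have heq : normalizerIn (normalizerIn S Y) X = normalizerIn S X :=
    le_antisymm (inf_le_inf_right _ hGS) fun g hg => ⟨hWY hg, hg.2⟩
  have hXG : G.IsFullyNormalized X := by
    refine ⟨hXY.trans (le_normalizerIn hY.1), fun Q hQ => ?_⟩
    rw [heq]
    haveI : Finite ↥(S ⊓ Subgroup.normalizer (Q : Set Ω)) := finite_of_le inf_le_left
    exact le_trans (Subgroup.card_le_of_le (inf_le_inf_right _ hGS)) (hX.2 Q (sub_isConj hGsub hQ))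
  let N' := normalizerSystem G X hXG.1
  have hN' := isNormalizerSystem_normalizerSystem (F := G) X hXG.1
  have hN's := FusionSysNormalizer.normalizerSystem_saturated hGp hGs hXG hN'
  have hN'sub : N'.IsSubsystemOf N := fun P φ hφ => by
    obtain ⟨hfG, hP, hv, f', hf', he', hX'⟩ := (mor_normalizerSystem_iff hN').1 (mor_toFun hφ)
    exact (mor_iff_hom fun x => (toFun_coe φ x).symm).1 ((mor_normalizerSystem_iff hN).2
      ⟨sub_mor hGsub hfG, hP.trans heq.le, fun x hx => heq.le (hv x hx), f', sub_mor hGsub hf',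
        he', hX'⟩)
  -- the maps of `N` defined on `R` are maps of `N'`
  have hext : ∀ {P : Subgroup Ω} {f : Ω → Ω}, R ≤ P → Mor N P f → Mor N' P f := by
    intro P f hRP hf
    obtain ⟨hfF, hPW, hfW, g, hg, hge, hgX⟩ := (mor_normalizerSystem_iff hN).1 hf
    have hYP : Y ≤ P ⊔ X := sup_le_sup_right hRP X
    have hgW : ∀ x ∈ P ⊔ X, g x ∈ normalizerIn S X := fun x hx => mor_sup_induction hg
      (fun y hy => (hge y hy).symm ▸ hfW y hy)
      (fun y hy => hXW (hgX.le (apply_mem_im hy))) hx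
    haveI := finite_of_le hY.1
    have hgY : im Y g = Y := (hg.restrict_to hYP).im_self fun y hy =>
      mor_sup_induction (hg.restrict_to hYP)
        (fun r hr => Subgroup.mem_sup_left ((hge r (hRP hr)).symm ▸ hRcl hf r (hRP hr) hr))
        (fun x hx => Subgroup.mem_sup_right (hgX.le (apply_mem_im hx))) hy
    have hgG : Mor G (P ⊔ X) g := (mor_normalizerSystem_iff hG).2
      ⟨hg, (sup_le hPW hXW).trans hWY, fun x hx => hWY (hgW x hx), g,
        hg.restrict_to (sup_le le_rfl hYP), fun _ _ => rfl, hgY⟩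
    exact (mor_normalizerSystem_iff hN').2 ⟨(hgG.restrict_to le_sup_left).congr hge,
      hPW.trans heq.ge, fun x hx => heq.ge (hfW x hx), g, hgG, hge, hgX⟩
  -- `C` is a component of `N'`
  obtain ⟨K, hK, hKc⟩ := FusionCentralizerNormal.exists_normal_centralizer hWp hNs hM
  have hTCcs : TC ≤ cs N M p := FusionCentralizerSub.valid_le_cs hWp hNs hM.1.2.2 hv'
  have hCK := FusionLayer.component_le hC.1 inferInstance inferInstance hWp hC.2 _ K hK hTCcs
  have hCK' := FusionComponents.subnormal_of_le hWp hC hK hCK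
  have hKsub := hK.1.2.2
  have hcsW : cs N M p ≤ normalizerIn S X := FusionCentralizerSub.cs_le.trans inf_le_left
  have hRcs : R ≤ centralizerIn (normalizerIn S X) (cs N M p) := fun r hr =>
    mem_centralizerIn.2 ⟨hr.2, fun c hc => FusionLayerCore.cj_comm.1
      ((mem_centralizerIn.1 (FusionCentralizerSub.cs_le hc)).2 r hr)⟩
  have hK' : K.IsNormalIn N' p := normal_sub heq hN's hK hN'sub (fun P f hP hf => by
    obtain ⟨a, ha, e, he, hfe⟩ := FusionWeaklyNormal88.inv_factor hKsub hP hf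
    obtain ⟨φ, hφ, hφe⟩ := id he
    obtain ⟨ψ, hψ, hψe, -⟩ := (ext_central_iff hφe).1 (hKc P hφ).2.2.2
    have he' : Mor N' P e :=
      ((hext (le_sup_right : R ≤ P ⊔ R) hψ).restrict_to le_sup_left).congr hψe
    haveI := finite_of_le hcsW
    have ham := (mem_autGroup hcsW).1 ha
    have hVn : N.IsFullyNormalized (cs N M p) :=
      FusionCentralizerSub.fullyNormalized_T hWp hKsub
    obtain ⟨γ, hγ, hγe⟩ := (receptive_iff.1 (receptive_of_fullyNormalized hWp hNs hVn)).2
      (cs N M p) (afun a) (centralizerIn (normalizerIn S X) (cs N M p)) ham (im_afun a) inf_le_left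
      (fun g hg => mem_normalizer_of_cj_le hcsW fun y hy => by
        rw [(mem_centralizerIn.1 hg).2 y hy]; exact hy)
      fun g hg => ⟨1, one_mem _, fun x hx => by
        rw [(mem_centralizerIn.1 hg).2 x hx, cj_apply, one_mul, inv_one, mul_one]⟩
    have ha' : Mor N' (cs N M p) (afun a) :=
      ((hext (hRcs.trans le_sup_right) hγ).restrict_to le_sup_left).congr hγe
    exact (he'.comp ha' fun x hx => he.apply_mem hx).congr fun x hx => (hfe x hx).symm)
    fun f hf => hext (hRcs.trans le_sup_right) hf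
  have hC' : C.IsComponentIn N' p := ⟨.step hCK'.1 hK', hC.2⟩
  obtain ⟨TG, EG, hEG⟩ := FusionLayer.exists_layer hGp hGs
  have h1 : TC ≤ TG := ihG G hGsub hGne hGs X N' hXG hN' EG hEG TC C hC'
  obtain ⟨MY, hMY, -⟩ := FusionLocalSub.exists_normal_inside hS hF hE.1 hY hG
  have h2 : TG ≤ T := (FusionLayer.le_of_subsystem (hEG.2.2 _ MY hMY fun V D hD =>
    FusionLayer.component_le hD.1 inferInstance inferInstance hGp hD.2 _ MY hMY
      (le_inf (ihY Y hXlt G hY hG V D hD) (subnormal_le hD.1)))).trans inf_le_left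
  have h3 : TC ≤ R := le_inf (h1.trans h2) (subnormal_le hC.1)
  refine FusionComponents.not_self_centralizing hWp hC fun y hy => mem_centralizerIn.2
    ⟨subnormal_le hC.1 hy, fun z hz => ?_⟩
  exact (mem_centralizerIn.1 (hv.1 (h3 hy))).2 z hz

/-- A map of `F` carrying `N_S(X)` onto `N_S(X')` and `X` to `X'` carries `N_F(X)` into `N_F(X')`. -/
theorem push_mor {X' : Subgroup Ω} {N : FusionSystem (normalizerIn S X)}
    {N' : FusionSystem (normalizerIn S X')} (hN : F.IsNormalizerSystem X N)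
    (hN' : F.IsNormalizerSystem X' N') (hXS : X ≤ S) {a b : Ω → Ω}
    (ha : Mor F (normalizerIn S X) a) (hb : Mor F (normalizerIn S X') b)
    (hB : FusionIso88.Bij (normalizerIn S X) (normalizerIn S X') a b) (hX' : im X a = X')
    {P : Subgroup Ω} {f : Ω → Ω} (hf : Mor N P f) :
    Mor N' (FusionIso88.img a P) (a ∘ f ∘ b) := by
  obtain ⟨-, hPW, hfW, g, hg, hge, hgX⟩ := (mor_normalizerSystem_iff hN).1 hf
  have hXW : X ≤ normalizerIn S X := le_normalizerIn hXS
  have hgW : ∀ x ∈ P ⊔ X, g x ∈ normalizerIn S X := fun x hx => mor_sup_induction hg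
    (fun y hy => (hge y hy).symm ▸ hfW y hy)
    (fun y hy => hXW (hgX.le (apply_mem_im hy))) hx
  have hQ : FusionIso88.img a P ⊔ X' = im (P ⊔ X) a := by
    rw [FusionSysNormal.im_sup (ha.restrict_to (sup_le hPW hXW)), hX']
    rfl
  have hle : im (P ⊔ X) a ≤ normalizerIn S X' :=
    im_le_iff.2 fun x hx => hB.map_mem x (sup_le hPW hXW hx)
  have hbP : ∀ y ∈ im (P ⊔ X) a, b y ∈ P ⊔ X := fun y hy => by
    obtain ⟨x, hx, rfl⟩ := (ha.restrict_to (sup_le hPW hXW)).mem_im.1 hy
    rwa [hB.left x (sup_le hPW hXW hx)]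
  have hm : Mor F (FusionIso88.img a P ⊔ X') (a ∘ g ∘ b) := by
    rw [hQ]
    exact ((hb.restrict_to hle).comp hg hbP).comp ha fun y hy => hgW _ (hbP y hy)
  have hval : ∀ y ∈ FusionIso88.img a P, (a ∘ g ∘ b) y = (a ∘ f ∘ b) y := fun y hy => by
    obtain ⟨x, hx, rfl⟩ := (hB.mem_img hPW).1 hy
    simp only [Function.comp_apply, hB.left x (hPW hx), hge x hx]
  refine (mor_normalizerSystem_iff hN').2 ⟨(hm.restrict_to le_sup_left).congr hval,
    hB.img_le hPW, fun y hy => ?_, _, hm, hval, ?_⟩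
  · obtain ⟨x, hx, rfl⟩ := (hB.mem_img hPW).1 hy
    simp only [Function.comp_apply, hB.left x (hPW hx)]
    exact hB.map_mem _ (hfW x hx)
  · haveI := finite_of_le (hX' ▸ (ha.restrict_to hXW).im_le : X' ≤ S)
    refine (hm.restrict_to le_sup_right).im_self fun y hy => ?_
    rw [← hX'] at hy
    obtain ⟨x, hx, rfl⟩ := (ha.restrict_to hXW).mem_im.1 hy
    simp only [Function.comp_apply, hB.left x (hXW hx)]
    exact hX' ▸ apply_mem_im (hgX.le (apply_mem_im hx))

include hS hF hE in
/-- The step of the induction. -/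
theorem step' (hX : F.IsFullyNormalized X)
    {N : FusionSystem (normalizerIn S X)} (hN : F.IsNormalizerSystem X N)
    (ihY : ∀ Y : Subgroup Ω, Nat.card X < Nat.card Y → ∀ NY : FusionSystem (normalizerIn S Y),
      F.IsFullyNormalized Y → F.IsNormalizerSystem Y NY →
      ∀ (TD : Subgroup Ω) (D : FusionSystem TD), D.IsComponentIn NY p → TD ≤ T)
    (ihG : ∀ {S' : Subgroup Ω} (G : FusionSystem S'), G.IsSubsystemOf F →
      (S' = S → ¬ F.IsSubsystemOf G) → G.IsSaturated p →
      ∀ (X' : Subgroup Ω) (NX : FusionSystem (normalizerIn S' X')), G.IsFullyNormalized X' →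
      G.IsNormalizerSystem X' NX → ∀ {T' : Subgroup Ω} (E' : FusionSystem T'), E'.IsLayerOf G p →
      ∀ (TC : Subgroup Ω) (C : FusionSystem TC), C.IsComponentIn NX p → TC ≤ T')
    {TC : Subgroup Ω} {C : FusionSystem TC} (hC : C.IsComponentIn N p) : TC ≤ T := by
  have hWS : normalizerIn S X ≤ S := inf_le_left
  haveI := finite_of_le hWS
  have hTcl : F.StronglyClosed T := hE.1.1.2.2.2.1
  have hXW : X ≤ normalizerIn S X := le_normalizerIn hX.1
  set Y := T ⊓ normalizerIn S X ⊔ X with hYdef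
  have hYW : Y ≤ normalizerIn S X := sup_le inf_le_right hXW
  have hYS : Y ≤ S := hYW.trans hWS
  have hWY : normalizerIn S X ≤ normalizerIn S Y := fun g hg => by
    refine ⟨hg.1, mem_normalizer_of_cj_le hYS fun y hy => ?_⟩
    have hm : Mor F Y (cj g) := mor_cj hYS hg.1
    exact mor_sup_induction hm
      (fun r hr => Subgroup.mem_sup_left (Subgroup.mem_inf.2
        ⟨cj_mem_of_stronglyClosed hTcl hg.1 hr.1, cj_mem_S hg hr.2⟩))
      (fun x hx => Subgroup.mem_sup_right (cj_mem_of_normalizer hg.2 hx)) hy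
  obtain ⟨Y', hYY', hY'⟩ := exists_fullyNormalized (F := F) hYS
  obtain ⟨θ, hθ, -, hθY⟩ := exists_map_to_fullyNormalized hS hF hY' hYY'
  have hθW := hθ.restrict_to hWY
  set X' := im X θ with hX'def
  have hθX := hθW.restrict_to hXW
  have hconj : F.IsConj X X' := FusionSysBasic.isConj_iff.2 ⟨θ, hθX, rfl⟩
  have hX'S : X' ≤ S := hθX.im_le
  haveI := finite_of_le hX'S
  haveI : Finite ↥(normalizerIn S X') := finite_of_le inf_le_left
  have hW' : im (normalizerIn S X) θ = normalizerIn S X' :=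
    hθW.im_eq_of_le inf_le_left
      (im_le_iff.2 fun x hx => mor_normalizer_mem hθW hX.1 rfl hx) (hX.2 X' hconj)
  have hX'n : F.IsFullyNormalized X' := ⟨hX'S, fun Q hQ => by
    rw [← hW', hθW.card_im]
    exact hX.2 Q (isConj_trans hconj hQ)⟩
  obtain ⟨b, hb, hbθ, hθb, hbW⟩ := hθW.exists_inv
  rw [hW'] at hb hθb hbW
  have hB : FusionIso88.Bij (normalizerIn S X) (normalizerIn S X') θ b :=
    ⟨fun x hx => hW' ▸ apply_mem_im hx, hbW, hbθ, hθb, fun x hx y hy => hθW.map_mul hx hy⟩
  let N' := normalizerSystem F X' hX'S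
  have hN' := isNormalizerSystem_normalizerSystem (F := F) X' hX'S
  have hbX : im X' b = X := by
    rw [hX'def, hθX.im_comp]
    exact (im_congr fun x hx => hbθ x (hXW hx)).trans (im_id X)
  have hTr : FusionIso88.Tr N N' θ b :=
    ⟨hB, fun hf => push_mor hN hN' hX.1 hθW hb hB rfl hf,
      fun hf => push_mor hN' hN hX'S hb hθW hB.symm hbX hf⟩
  have hCs := FusionIso88.subnormal_subsystem hC.1
  have hTC : TC ≤ normalizerIn S X := subnormal_le hC.1
  haveI := finite_of_le hTC
  have hCtr := FusionIso88.push_tr hTr hCs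
  have hC' : (FusionIso88.push hTr hCs).IsComponentIn N' p :=
    ⟨FusionIso88.subnormal_transport hC.1 inferInstance inferInstance (hS.to_le hWS) N' _ _ hTr _
      hCtr, hCtr.quasisimple (hS.to_le (hTC.trans hWS)) hC.2⟩
  have hR' : im (T ⊓ normalizerIn S X) θ = T ⊓ normalizerIn S X' := by
    refine le_antisymm (im_le_iff.2 fun x hx =>
      ⟨closed_apply' hTcl hθW hx.2 hx.1, hW' ▸ apply_mem_im hx.2⟩) fun y hy => ?_
    rw [← hθb y hy.2]
    exact apply_mem_im ⟨closed_apply' hTcl hb hy.2 hy.1, hbW y hy.2⟩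
  have hY'e : Y' = T ⊓ normalizerIn S X' ⊔ X' := by
    rw [← hθY, hYdef, FusionSysNormal.im_sup (hθW.restrict_to hYW), hR']
  have h := step hS hF hE hX'n hN' (hY'e ▸ hY')
    (fun Y₁ hlt => ihY Y₁ (by rwa [← hθX.card_im])) ihG hC'
  intro x hx
  rw [← hbθ x (hTC hx)]
  exact closed_apply' hTcl hb (hB.map_mem x (hTC hx)) (h (FusionIso88.apply_mem_img hx))

omit [Finite S] in
/-- Every component of `N_F(X)` is over a subgroup of the group of the layer of `F`. -/
theorem component_le_layer : ∀ (n m k : ℕ) {S : Subgroup Ω} [Finite S] (F : FusionSystem S),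
    IsPGroup p S → F.IsSaturated p → Nat.card S ≤ n →
    (FusionComponentExists.mapSet S F).ncard ≤ m →
    ∀ (X : Subgroup Ω) (N : FusionSystem (normalizerIn S X)), F.IsFullyNormalized X →
      F.IsNormalizerSystem X N → Nat.card S ≤ Nat.card X + k →
      ∀ {T : Subgroup Ω} (E : FusionSystem T), E.IsLayerOf F p →
      ∀ (TC : Subgroup Ω) (C : FusionSystem TC), C.IsComponentIn N p → TC ≤ T := by
  intro n
  induction n using Nat.strong_induction_on with
  | _ n ihn =>
  intro m
  induction m using Nat.strong_induction_on with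
  | _ m ihm =>
  intro k
  induction k using Nat.strong_induction_on with
  | _ k ihk =>
  intro S _ F hS hF hn hm X N hX hN hk T E hE TC C hC
  refine step' hS hF hE hX hN (fun Y hlt NY hY hNY TD D hD => ?_) ?_ hC
  · have : Nat.card Y ≤ Nat.card S := Subgroup.card_le_of_le hY.1
    exact ihk (k - 1) (by omega) F hS hF hn hm Y NY hY hNY (by omega) E hE TD D hD
  · intro S' G hsub hne hGs X' NX hX' hNX T' E' hE' TC' C' hC'
    have hS'S : S' ≤ S := sub_le hsub
    haveI := finite_of_le hS'S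
    rcases lt_measure hsub hne with hlt | ⟨heq, hlt⟩
    · exact ihn _ (lt_of_lt_of_le hlt hn) _ _ G (hS.to_le hS'S) hGs le_rfl le_rfl X' NX hX' hNX
        (Nat.le_add_left _ _) E' hE' TC' C' hC'
    · exact ihm _ (lt_of_lt_of_le hlt hm) _ G (hS.to_le hS'S) hGs (heq ▸ hn) le_rfl X' NX hX' hNX
        (Nat.le_add_left _ _) E' hE' TC' C' hC'

end Cfsg.Agent.FusionEBalance
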