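import Cfsg.Agent.Lib.TransferAlperin
import Cfsg.Agent.Lib.SylowCount

/-!
Consequences of Alperin's theorem in a finite group with Sylow `p`-subgroup `P`: a closed predicate
holding for the elements of `P` and for the elements of order prime to `p` normalizing subgroups of
`P` holds always (`closed_induction`); if the commutators of the subgroups of `P` with these
elements lie in `R ◁ P`, then so does `P ∩ O^p(G)` (`inf_pResidual_le`).
-/

set_option autoImplicit false
set_option linter.style.haveILetI false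

namespace Cfsg.Agent.FusionMeetGroup

open Subgroup Cfsg.Agent.TransferPResidual Cfsg.Agent.TransferAlperin
open scoped commutatorElement

variable {G : Type*} [Group G] [Finite G] {p : ℕ} [hp : Fact p.Prime]

/-- A predicate closed under composition, inversion and restriction holding for the elements of
`P` and the elements of order prime to `p` normalizing a subgroup holds for all pairs inside
`P`. -/
theorem closed_induction (P : Sylow p G) (Φ : Subgroup G → G → Prop)
    (trans : ∀ T g h, T ≤ (P : Subgroup G) → cj g T ≤ (P : Subgroup G) →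
      cj h (cj g T) ≤ (P : Subgroup G) → Φ T g → Φ (cj g T) h → Φ T (h * g))
    (inv : ∀ T g, T ≤ (P : Subgroup G) → cj g T ≤ (P : Subgroup G) → Φ T g → Φ (cj g T) g⁻¹)
    (mono : ∀ S T g, S ≤ T → T ≤ (P : Subgroup G) → cj g T ≤ (P : Subgroup G) → Φ T g → Φ S g)
    (hP : ∀ T, T ≤ (P : Subgroup G) → ∀ g ∈ (P : Subgroup G), g ∈ normalizer (T : Set G) → Φ T g)
    (hco : ∀ T, T ≤ (P : Subgroup G) → ∀ g ∈ normalizer (T : Set G),
      (orderOf g).Coprime p → Φ T g) :
    ∀ T g, T ≤ (P : Subgroup G) → cj g T ≤ (P : Subgroup G) → Φ T g := by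
  refine alperin_induction P Φ trans inv mono fun T hT hfn _ c hc => ?_
  let K : Subgroup G :=
    { carrier := {g | g ∈ normalizer (T : Set G) ∧ Φ T g}
      one_mem' := ⟨one_mem _, hP T hT 1 (one_mem _) (one_mem _)⟩
      mul_mem' := fun {a b} ⟨ha, ha'⟩ ⟨hb, hb'⟩ => ⟨mul_mem ha hb, by
        have e := cj_eq_self (T := T) hb
        exact trans T b a hT (e.le.trans hT) (by rw [e, cj_eq_self ha]; exact hT) hb'
          (by rw [e]; exact ha')⟩
      inv_mem' := fun {a} ⟨ha, ha'⟩ => ⟨inv_mem ha, by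
        have e := cj_eq_self (T := T) ha
        have := inv T a hT (e.le.trans hT) ha'
        rwa [e] at this⟩ }
  have hPN : IsPGroup p ↥((P : Subgroup G).subgroupOf (normalizer (T : Set G))) :=
    P.isPGroup'.comap_subtype
  have hidx : ¬ p ∣ ((P : Subgroup G).subgroupOf (normalizer (T : Set G))).index := by
    have := not_dvd_relIndex_of_isFullyNormalized P hfn
    rwa [inf_relIndex_right] at this
  have htop : (⊤ : Subgroup (normalizer (T : Set G))) ≤ K.subgroupOf (normalizer (T : Set G)) := by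
    rw [← sylow_sup_pResidual (hPN.toSylow hidx)]
    refine sup_le (fun g hg => ?_) (pResidual_le_iff_coprime.2 fun g hg => ?_)
    · exact mem_subgroupOf.2 ⟨g.2, hP T hT g hg g.2⟩
    · exact mem_subgroupOf.2 ⟨g.2, hco T hT g g.2 (by rwa [Subgroup.orderOf_coe])⟩
  exact (htop (x := ⟨c, hc⟩) trivial).2

/-- A normal subgroup of a finite `p`-group covering the commutator quotient is the whole group. -/
theorem eq_top_of_sup_commutator {A : Type*} [Group A] [Finite A] (hA : IsPGroup p A)
    {R : Subgroup A} [R.Normal] (h : R ⊔ commutator A = ⊤) : R = ⊤ := by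
  by_contra hne
  haveI : Nontrivial (A ⧸ R) := QuotientGroup.nontrivial_iff.2 hne
  haveI : Group.IsNilpotent A := hA.isNilpotent
  have hlt := Group.IsSolvable.commutator_lt_top_of_nontrivial (A ⧸ R)
  refine hlt.ne ?_
  have hs := QuotientGroup.mk'_surjective R
  have h1 : (⊤ : Subgroup (A ⧸ R)) = (commutator A).map (QuotientGroup.mk' R) := by
    rw [← Subgroup.map_top_of_surjective _ hs, ← h, Subgroup.map_sup,
      QuotientGroup.map_mk'_self, bot_sup_eq]
  rw [h1, commutator_def A, Subgroup.map_commutator, Subgroup.map_top_of_surjective _ hs,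
    commutator_def]

/-- The case `O^p(G) = G`. -/
theorem sylow_le_of_residual (P : Sylow p G) (hG : Cfsg.pResidual p G = ⊤) {R : Subgroup G}
    (hR : R ≤ (P : Subgroup G)) (hn : ∀ g ∈ (P : Subgroup G), ∀ x ∈ R, g * x * g⁻¹ ∈ R)
    (h : ∀ T, T ≤ (P : Subgroup G) → ∀ g ∈ normalizer (T : Set G), (orderOf g).Coprime p →
      ∀ x ∈ T, g * x * g⁻¹ * x⁻¹ ∈ R) : (P : Subgroup G) ≤ R := by
  set P' := (⁅(P : Subgroup G), P⁆ : Subgroup G)
  set K := R ⊔ P'
  have key := closed_induction P (fun T g => ∀ x ∈ T, g * x * g⁻¹ * x⁻¹ ∈ K) ?_ ?_ ?_ ?_ ?_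
  · have hfoc : (P : Subgroup G).focalSubgroup ≤ K := by
      rw [Subgroup.focalSubgroup_def, Subgroup.closure_le]
      rintro _ ⟨hg, x, hx, u, rfl⟩
      have h1 : u * x⁻¹ * u⁻¹ ∈ (P : Subgroup G) := by
        have := mul_mem (inv_mem hx) hg
        simpa [commutatorElement_def, mul_assoc] using this
      have h2 := key (zpowers x⁻¹) u (zpowers_le.2 (inv_mem hx)) (by
        rw [cj, MonoidHom.map_zpowers, zpowers_le]; exact h1) x⁻¹ (mem_zpowers _)
      have h3 : ⁅x, u * x⁻¹ * u⁻¹⁆ ∈ P' := commutator_mem_commutator hx h1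
      have h4 := K.mul_mem (Subgroup.mem_sup_right (S := R) h3) h2
      convert h4 using 1
      simp only [commutatorElement_def, SetLike.mem_coe]; group
    have hPK : (P : Subgroup G) ≤ K := fun x hx =>
      hfoc (inf_pResidual_le_focal P ⟨hx, hG ▸ mem_top x⟩)
    haveI : (R.subgroupOf (P : Subgroup G)).Normal := ⟨fun x hx g => hn g g.2 x hx⟩
    refine Subgroup.subgroupOf_eq_top.1 (eq_top_of_sup_commutator P.isPGroup' (eq_top_iff.2 ?_))
    intro x _
    have h1 : (commutator (P : Subgroup G)).map (P : Subgroup G).subtype = P' :=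
      Subgroup.map_subtype_commutator _
    have h2 : (R.subgroupOf (P : Subgroup G)).map (P : Subgroup G).subtype = R := by
      rw [Subgroup.subgroupOf_map_subtype, inf_eq_left.2 hR]
    have h3 := hPK x.2
    have e : K = (R.subgroupOf (P : Subgroup G) ⊔ commutator (P : Subgroup G)).map
        (P : Subgroup G).subtype := by rw [Subgroup.map_sup, h1, h2]
    rw [e] at h3
    obtain ⟨y, hy, hyx⟩ := h3
    rwa [Subtype.ext hyx] at hy
  · intro T g k _ _ _ h1 h2 x hx
    have := K.mul_mem (h2 _ (conj_mem_cj hx)) (h1 x hx)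
    convert this using 1
    group
  · intro T g _ _ h1 y hy
    obtain ⟨x, hx, rfl⟩ := hy
    have := K.inv_mem (h1 x hx)
    convert this using 1
    simp only [MulEquiv.coe_toMonoidHom, MulAut.conj_apply]
    group
  · exact fun S T g hST _ _ h1 x hx => h1 x (hST hx)
  · intro T hT g hg _ x hx
    exact Subgroup.mem_sup_right (commutator_mem_commutator hg (hT hx))
  · exact fun T hT g hg hco x hx => Subgroup.mem_sup_left (h T hT g hg hco x hx)

/-- If `R ◁ P` absorbs the commutators of subgroups of `P` with elements of order prime to `p`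
normalizing them, it contains `P ∩ O^p(G)`. -/
theorem inf_pResidual_le (P : Sylow p G) {R : Subgroup G}
    (hn : ∀ g ∈ (P : Subgroup G), ∀ x ∈ R, g * x * g⁻¹ ∈ R)
    (h : ∀ T, T ≤ (P : Subgroup G) → ∀ g ∈ normalizer (T : Set G), (orderOf g).Coprime p →
      ∀ x ∈ T, g * x * g⁻¹ * x⁻¹ ∈ R) :
    (P : Subgroup G) ⊓ Cfsg.pResidual p G ≤ R := by
  set O := Cfsg.pResidual p G
  let Q : Sylow p O := SylowCount.infSylow P O
  have hQ : (Q : Subgroup O) = ((P : Subgroup G) ⊓ O).subgroupOf O := rfl
  have hle := sylow_le_of_residual Q (pResidual_pResidual (p := p) (G := G))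
    (R := (R ⊓ ((P : Subgroup G) ⊓ O)).subgroupOf O)
    (by rw [hQ]; exact fun x hx => hx.2)
    (fun g hg x hx => by
      rw [hQ, mem_subgroupOf] at hg
      obtain ⟨hxR, hxP⟩ := mem_subgroupOf.1 hx
      exact mem_subgroupOf.2 ⟨hn g hg.1 x hxR,
        Subgroup.mul_mem _ (Subgroup.mul_mem _ hg hxP) (Subgroup.inv_mem _ hg)⟩)
    (fun T hT g hg hco x hx => by
      have hTP : ∀ y ∈ T, (y : G) ∈ (P : Subgroup G) ⊓ O := fun y hy => by
        have := hT hy
        rwa [hQ, mem_subgroupOf] at this
      have hgx : g * x * g⁻¹ ∈ T := (mem_normalizer_iff.1 hg x).1 hx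
      refine ⟨h (T.map O.subtype) (by rintro _ ⟨y, hy, rfl⟩; exact (hTP y hy).1) g
        (le_normalizer_map O.subtype ⟨g, hg, rfl⟩) (by rwa [Subgroup.orderOf_coe])
        x ⟨x, hx, rfl⟩, ?_⟩
      exact Subgroup.mul_mem _ (hTP _ hgx) (Subgroup.inv_mem _ (hTP x hx)))
  intro x hx
  exact (hle (x := ⟨x, hx.2⟩) (by rw [hQ]; exact hx)).1

end Cfsg.Agent.FusionMeetGroup
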