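import Cfsg.Agent.Lib.FusionMeetBase
import Cfsg.Agent.Lib.FusionMeetGroup

/-!
The meet of two normal subsystems, generated by common automorphisms, is saturated
(`saturated_meet`).
-/

set_option autoImplicit false

namespace Cfsg.Agent.FusionMeet

open Cfsg Cfsg.FusionSystem Cfsg.Agent.FusionSysBasic Cfsg.Agent.FusionSysSaturated
open Cfsg.Agent.FusionSysNormal Cfsg.Agent.FusionKit88 Cfsg.Agent.FusionSysNormalizer
open Cfsg.Agent.FusionTops Cfsg.Agent.FusionGenerated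
open scoped Pointwise

/-- If the `p`-group `A` normalizes `J` and contains a Sylow subgroup of it, it is Sylow in `A J`. -/
theorem sylIn_sup {G : Type*} [Group G] {p : ℕ} [Fact p.Prime] {A J R : Subgroup G}
    [Finite ↥(A ⊔ J : Subgroup G)] (hA : IsPGroup p A)
    (hn : ∀ a ∈ A, ∀ j ∈ J, a * j * a⁻¹ ∈ J) (hR : SylIn p R J) (hRJ : R ≤ J) (hRA : R ≤ A) :
    SylIn p A (A ⊔ J) ∧ ∀ w ∈ A ⊔ J, ∃ a ∈ A, ∃ j ∈ J, w = a * j := by
  haveI : Finite J := Finite.of_injective _ (Subgroup.inclusion_injective (le_sup_right : J ≤ A ⊔ J))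
  have hdec : ∀ w ∈ A ⊔ J, ∃ a ∈ A, ∃ j ∈ J, w = a * j := by
    intro w hw
    have hN : A ≤ Subgroup.normalizer (J : Set G) := fun a ha =>
      Subgroup.mem_normalizer_iff.2 fun j => ⟨hn a ha j, fun h => by
        have := hn a⁻¹ (inv_mem ha) _ h
        simpa [mul_assoc] using this⟩
    have hw' : w ∈ (A : Set G) * (J : Set G) := by
      rw [← Subgroup.coe_mul_of_left_le_normalizer_right _ _ hN]; exact hw
    obtain ⟨a, ha, j, hj, e⟩ := Set.mem_mul.1 hw'
    exact ⟨a, ha, j, hj, e.symm⟩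
  refine ⟨?_, hdec⟩
  obtain ⟨U0, hU0⟩ :=
    (hA.of_equiv (Subgroup.subgroupOfEquivOfLe (le_sup_left : A ≤ A ⊔ J)).symm).exists_le_sylow
  refine ⟨U0, le_antisymm (fun w hw => ?_) hU0⟩
  rw [Subgroup.mem_subgroupOf]
  obtain ⟨a, ha, j, hj, e⟩ := hdec w w.2
  set U0' := (U0 : Subgroup ↥(A ⊔ J : Subgroup G)).map (A ⊔ J).subtype ⊓ J
  have hjU : j ∈ U0' := by
    refine ⟨⟨⟨j, Subgroup.mem_sup_right hj⟩, ?_, rfl⟩, hj⟩
    have h1 := mul_mem (inv_mem (hU0 (x := ⟨a, Subgroup.mem_sup_left ha⟩) ha)) hw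
    have e' : (⟨j, Subgroup.mem_sup_right hj⟩ : ↥(A ⊔ J : Subgroup G)) =
        ⟨a, Subgroup.mem_sup_left ha⟩⁻¹ * w :=
      Subtype.ext (show j = a⁻¹ * (w : G) by rw [e, inv_mul_cancel_left])
    rw [e']
    exact h1
  have hle : R ≤ U0' := fun x hx =>
    ⟨⟨⟨x, Subgroup.mem_sup_left (hRA hx)⟩, hU0 (hRA hx), rfl⟩, hRJ hx⟩
  haveI : Finite U0' := Finite.of_injective _ (Subgroup.inclusion_injective (inf_le_right : U0' ≤ J))
  have hcard : Nat.card U0' ≤ Nat.card R := by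
    rw [(sylIn_iff_card hRJ).1 hR]
    exact sylIn_le_pow ((U0.2.map _).to_le inf_le_left) inf_le_right
  rw [e]
  exact A.mul_mem ha (hRA ((Subgroup.eq_of_le_of_card_ge hle hcard).ge hjU))

variable {Ω : Type*} [Group Ω] {S T₁ T₂ : Subgroup Ω} {F : FusionSystem S}
  {D₁ : FusionSystem T₁} {D₂ : FusionSystem T₂} {p : ℕ}

/-- What an automorphism in a normal subsystem induced by `S` looks like at a fully normalized
subgroup. -/
theorem autS_inf_le [Finite S] [Fact p.Prime] (hS : IsPGroup p S) {U : Subgroup Ω}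
    {D : FusionSystem U} (hD : D.IsNormalIn F p) {P : Subgroup Ω} (hP : P ≤ U)
    (hn : F.IsFullyNormalized P) : autInducedBy S P ⊓ D.autGroup P ≤ autInducedBy U P := by
  obtain ⟨⟨hDs, hF, hinv⟩, -⟩ := id hD
  have hUS := hinv.2.1.1
  haveI := finite_of_le hUS
  haveI := finite_autGroup (F := D) P
  have hle : autInducedBy U P ≤ autInducedBy S P ⊓ D.autGroup P :=
    le_inf (autInducedBy_mono hUS P) (autInducedBy_le hP)
  have hsyl := (fullyAutomized_of_fullyNormalized (hS.to_le hUS) hDs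
    (fullyNormalized_sub hS hF hinv.1 hinv.2.1 hP hn)).2
  haveI : Finite ↥(autInducedBy S P ⊓ D.autGroup P) :=
    Finite.of_injective _ (Subgroup.inclusion_injective inf_le_right)
  refine (Subgroup.eq_of_le_of_card_ge hle ?_).ge
  rw [(sylIn_iff_card (autInducedBy_le hP)).1 hsyl]
  exact sylIn_le_pow ((isPGroup_autInducedBy hS P).to_le inf_le_left) inf_le_right

local notation "T" => (T₁ ⊓ T₂)

namespace Setup

variable (h : Setup F D₁ D₂ p) [Finite S] [Fact p.Prime]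
include h

local notation "L" => meetSys F D₁ D₂ p (Setup.T_le h)

omit [Finite S] [Fact p.Prime] in
theorem generated_meet : Generated L (Gam F D₁ D₂ p) := by
  intro Φ hc hg P f hf
  have hcl : FusionInduct88.Closed F (U := T) (fun P f => Mor L P f ∧ Φ P f) :=
    { congr := fun ⟨h1, h2⟩ he => ⟨h1.congr he, hc.congr h2 he⟩
      conj := fun hP hg => ⟨mor_cj hP hg, hc.conj hP hg⟩
      comp := fun _ _ hP hQ hfQ ⟨h1, h2⟩ ⟨h3, h4⟩ =>
        ⟨h1.comp h3 hfQ, hc.comp h1 h3 hP hQ hfQ h2 h4⟩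
      inv := fun {P f g} _ _ hP hgf ⟨h1, h2⟩ => by
        obtain ⟨i, hi, hif, -, -⟩ := h1.exists_inv
        have hg : Mor L (im P f) g := hi.congr fun y hy => by
          obtain ⟨x, hx, rfl⟩ := h1.mem_im.1 hy
          rw [hif x hx, hgf x hx]
        exact ⟨hg, hc.inv h1 hg hP hgf h2⟩ }
  exact (h.meet_induction hcl
    (fun R g hG => ⟨h.gam_mor hG, hg R g (h.gam_mor hG) hG.2.2.2.2.1 hG⟩) hf).2

/-- At a fully normalized subgroup, a `p`-subgroup of the group generated by `Aut_T(P)` and the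
common automorphisms of order prime to `p` is no larger than `Aut_T(P)`. -/
theorem card_le_autT {P : Subgroup Ω} (hP : P ≤ T) (hn : F.IsFullyNormalized P)
    {V : Subgroup (MulAut P)} (hV : IsPGroup p V)
    (hVB : V ≤ ((autInducedBy T P).subgroupOf (com D₁ D₂ P) ⊔
      Cfsg.pResidual p (com D₁ D₂ P)).map (com D₁ D₂ P).subtype) :
    Nat.card V ≤ Nat.card (autInducedBy T P) := by
  have hPS : P ≤ S := hn.1
  have hP1 : P ≤ T₁ := hP.trans inf_le_left
  have hP2 : P ≤ T₂ := hP.trans inf_le_right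
  set A := com D₁ D₂ P with hA
  set R1 := autInducedBy T P with hR1
  have hAF : A ≤ F.autGroup P := h.com_le hP
  haveI := finite_autGroup (F := F) P
  haveI : Finite A := Finite.of_injective _ (Subgroup.inclusion_injective hAF)
  have hFA := fullyAutomized_of_fullyNormalized h.pgrp h.sat hn
  obtain ⟨P0, hP0⟩ := FusionCentralLift.sylIn_inf hFA.2 (isPGroup_autInducedBy h.pgrp P) hAF
    fun a ha b hb => h.com_conj hP ha hb
  have hmemP0 : ∀ {g : A}, g ∈ (P0 : Subgroup A) → (g : MulAut P) ∈ autInducedBy S P :=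
    fun {g} hg => by rw [hP0, Subgroup.mem_subgroupOf] at hg; exact hg.1
  have hR1A : R1 ≤ A := autT_le_com hP
  have hnR1 : ∀ g ∈ (P0 : Subgroup A), ∀ x ∈ R1.subgroupOf A, g * x * g⁻¹ ∈ R1.subgroupOf A := by
    intro g hg x hx
    obtain ⟨s, hs, hsn, hse⟩ := mem_autInducedBy.1 (hmemP0 hg)
    obtain ⟨t, ht, htn, hte⟩ := mem_autInducedBy.1 (Subgroup.mem_subgroupOf.1 hx)
    refine Subgroup.mem_subgroupOf.2 (mem_autInducedBy.2 ⟨cj s t,
      cj_mem_of_stronglyClosed h.closedT hs ht,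
      Subgroup.mul_mem _ (Subgroup.mul_mem _ hsn htn) (Subgroup.inv_mem _ hsn), fun y hy => ?_⟩)
    have hy' : cj s⁻¹ y ∈ P := cj_mem_of_normalizer (Subgroup.inv_mem _ hsn) hy
    have e1 : afun (g : MulAut P)⁻¹ y = cj s⁻¹ y := by
      conv_lhs => rw [← cj_cj_inv s y, ← hse _ hy']
      exact afun_inv_apply _ hy'
    rw [Subgroup.coe_mul, Subgroup.coe_mul, Subgroup.coe_inv, afun_mul _ _ hy, e1,
      afun_mul _ _ hy', hte _ hy', hse _ (cj_mem_of_normalizer htn hy')]
    simp [cj_apply, mul_assoc]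
  have hfocal : (P0 : Subgroup A) ⊓ Cfsg.pResidual p A ≤ R1.subgroupOf A := by
    refine FusionMeetGroup.inf_pResidual_le P0 hnR1 fun Q hQ g hg hco x hx => ?_
    set Q' := Q.map A.subtype with hQ'
    have hQU : Q' ≤ autInducedBy T₂ P := by
      rintro _ ⟨q, hq, rfl⟩
      exact autS_inf_le h.pgrp h.n2 hP2 hn ⟨hmemP0 (hQ hq), q.2.2⟩
    obtain ⟨ψ, hψ, hψP, hψM, hψC⟩ := FusionMeetKey.exists_good_extension h.pgrp h.sat h.n2 hP2 hn
      hQU g.2.2 (by rwa [Subgroup.orderOf_coe]) (by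
        rintro _ ⟨q, hq, rfl⟩
        exact ⟨g * q * g⁻¹, (Subgroup.mem_normalizer_iff.1 hg q).1 hq, rfl⟩)
    have hx1 : (x : MulAut P) ∈ autInducedBy T₁ P :=
      autS_inf_le h.pgrp h.n1 hP1 hn ⟨hmemP0 (hQ hx), x.2.1⟩
    obtain ⟨t1, ht1, ht1n, ht1e⟩ := mem_autInducedBy.1 hx1
    obtain ⟨t2, ht2, -, ht2e⟩ := mem_autInducedBy.1 (hQU ⟨x, hx, rfl⟩)
    simp only [Subgroup.coe_subtype] at ht2e
    have hT1S := h.i1.2.1.1
    have hT2S := h.i2.2.1.1
    have hM1 : t1 ∈ nK S P Q' := ⟨hT1S ht1, (x : MulAut P), ⟨x, hx, rfl⟩, ht1e⟩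
    have hM2 : t2 ∈ nK S P Q' := ⟨hT2S ht2, (x : MulAut P), ⟨x, hx, rfl⟩, ht2e⟩
    set c := t2⁻¹ * t1 with hc
    have hcC : c ∈ centralizerIn S P := mem_centralizerIn.2
      ⟨S.mul_mem (S.inv_mem (hT2S ht2)) (hT1S ht1), fun y hy => by
        rw [hc, ← cj_cj, ← ht1e y hy, ht2e y hy, cj_inv_cj]⟩
    have hcM : c ∈ nK S P Q' := mul_mem (inv_mem hM2) hM1
    have hm : ∀ {y : Ω}, y ∈ nK S P Q' → y ∈ P ⊔ nK S P Q' := fun hy => Subgroup.mem_sup_right hy
    set w := ψ t1 * t1⁻¹ with hw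
    have hw1 : w ∈ T₁ := T₁.mul_mem (closed_apply' h.i1.2.1 hψ (hm hM1) ht1) (T₁.inv_mem ht1)
    have hw2 : w ∈ T₂ := by
      have e : t1 = t2 * c := by rw [hc, mul_inv_cancel_left]
      rw [hw, e, hψ.map_mul (hm hM2) (hm hcM), mul_inv_rev,
        show ψ t2 * ψ c * (c⁻¹ * t2⁻¹) = ψ t2 * cj c (c⁻¹ * ψ c) * t2⁻¹ by
          simp [cj_apply, mul_assoc]]
      exact T₂.mul_mem (T₂.mul_mem (closed_apply' h.i2.2.1 hψ (hm hM2) ht2)
        (cj_mem_of_stronglyClosed h.i2.2.1 hcC.1 (hψC c hcC))) (T₂.inv_mem ht2)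
    have he1 : ∀ y ∈ P, cj (ψ t1) y =
        afun ((g : MulAut P) * (x : MulAut P) * (g : MulAut P)⁻¹) y := by
      intro y hy
      have hz := afun_mem (g : MulAut P)⁻¹ hy
      conv_lhs => rw [← afun_apply_inv (g : MulAut P) hy, ← hψP _ hz,
        ← hψ.map_cj (hm hM1) (Subgroup.mem_sup_left hz), ← ht1e _ hz,
        hψP _ (afun_mem _ hz)]
      rw [afun_mul _ _ hy, afun_mul _ _ hz]
    have hψn : ψ t1 ∈ Subgroup.normalizer (P : Set Ω) :=
      mem_normalizer_of_cj_le hPS fun y hy => he1 y hy ▸ afun_mem _ hy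
    refine Subgroup.mem_subgroupOf.2 (mem_autInducedBy.2 ⟨w, ⟨hw1, hw2⟩,
      Subgroup.mul_mem _ hψn (Subgroup.inv_mem _ ht1n), fun y hy => ?_⟩)
    have hy' : cj t1⁻¹ y ∈ P := cj_mem_of_normalizer (Subgroup.inv_mem _ ht1n) hy
    have e1 : afun (x : MulAut P)⁻¹ y = cj t1⁻¹ y := by
      conv_lhs => rw [← cj_cj_inv t1 y, ← ht1e _ hy']
      exact afun_inv_apply _ hy'
    simp only [Subgroup.coe_mul, Subgroup.coe_inv]
    rw [afun_mul _ _ hy, e1, ← he1 _ hy', hw, cj_cj]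
  -- conclusion
  set O := Cfsg.pResidual p A
  haveI hOn : O.Normal := inferInstance
  set Bs := R1.subgroupOf A ⊔ O with hBs
  have hR1P0 : ∀ {g : A}, g ∈ R1.subgroupOf A → g ∈ (P0 : Subgroup A) := fun {g} hg => by
    rw [hP0, Subgroup.mem_subgroupOf]
    exact ⟨autInducedBy_mono h.T_le P hg, g.2⟩
  have hRB : ∀ g : A, g ∈ (P0 : Subgroup A) → g ∈ Bs → (g : MulAut P) ∈ R1 := by
    intro g hg hgB
    obtain ⟨r, hr, o, ho, rfl⟩ := Subgroup.mem_sup_of_normal_right.1 hgB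
    have hoR : o ∈ (P0 : Subgroup A) := by
      have := mul_mem (inv_mem (hR1P0 hr)) hg
      rwa [inv_mul_cancel_left] at this
    exact R1.mul_mem hr (hfocal ⟨hoR, ho⟩)
  have hVA : V ≤ A := hVB.trans (Subgroup.map_subtype_le _)
  obtain ⟨Q, hQ⟩ := (hV.of_equiv (Subgroup.subgroupOfEquivOfLe hVA).symm).exists_le_sylow
  obtain ⟨a, ha⟩ := MulAction.exists_smul_eq A Q P0
  obtain ⟨r, hr, o, ho, rfl⟩ := Subgroup.mem_sup_of_normal_right.1
    ((TransferPResidual.sylow_sup_pResidual P0).ge (Subgroup.mem_top a))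
  rw [Nat.card_congr (V.equivMapOfInjective (MulAut.conj (o : MulAut P)).toMonoidHom
    (MulAut.conj (o : MulAut P)).injective).toEquiv]
  haveI : Finite R1 := Finite.of_injective _ (Subgroup.inclusion_injective hR1A)
  refine Subgroup.card_le_of_le ?_
  rintro _ ⟨v, hv, rfl⟩
  obtain ⟨v', hv'B, rfl⟩ := hVB hv
  have h1 : r * o * v' * (r * o)⁻¹ ∈ ((r * o) • Q : Sylow p A) := by
    refine Subgroup.mem_map.mpr ⟨v', hQ (Subgroup.mem_subgroupOf.2 hv), ?_⟩
    simp [MulDistribMulAction.toMonoidEnd_apply, mul_assoc]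
  rw [ha] at h1
  have h2 : o * v' * o⁻¹ ∈ (P0 : Subgroup A) := by
    have := mul_mem (mul_mem (inv_mem hr) h1) hr
    simpa [mul_assoc] using this
  have hoB : o ∈ Bs := Subgroup.mem_sup_right ho
  have h3 := hRB _ h2 (mul_mem (mul_mem hoB hv'B) (inv_mem hoB))
  simpa using h3

/-- A universal subgroup matches a fully normalized subgroup of `F`. -/
theorem exists_point {W : Subgroup Ω} (hW : W ≤ T) (huniv : ∀ Q, (L).IsConj W Q → To L Q W) :
    ∃ P ψ, F.IsFullyNormalized P ∧ P ≤ T ∧ Mor F (normalizerIn T W) ψ ∧ im W ψ = P ∧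
      im (normalizerIn T W) ψ = normalizerIn T P := by
  have hTS := h.T_le
  haveI := finite_of_le hTS
  have hWS := hW.trans hTS
  obtain ⟨P, hWP, hP⟩ := FusionSysSaturated.exists_fullyNormalized (F := F) hWS
  obtain ⟨ψ, hψ, hψN, hψP⟩ := exists_map_to_fullyNormalized h.pgrp h.sat hP hWP
  have hψ0 := hψ.restrict_to (le_normalizerIn hWS)
  have hPT : P ≤ T := hψP ▸ im_le_iff.2 fun x hx => closed_apply h.closedT hψ0 hW hx
  have hNW : normalizerIn T W ≤ normalizerIn S W := inf_le_inf_right _ hTS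
  have hψT := hψ.restrict_to hNW
  refine ⟨P, ψ, hP, hPT, hψT, hψP, ?_⟩
  refine eq_of_le_of_card_ge inf_le_left (im_le_iff.2 fun t ht =>
    ⟨closed_apply h.closedT hψT inf_le_left ht, (hψN t (hNW ht)).2⟩) ?_
  rw [hψT.card_im]
  obtain ⟨a, ha, e, he, hfe⟩ := h.frattini h.ambient_F hW hψ0
  have h1 := (huniv _ (FusionSysBasic.isConj_iff.2 ⟨e, he, rfl⟩)).card_le
  have hai := (mem_autGroup hTS).1 (inv_mem ha)
  have heP : im P (afun a⁻¹) = im W e := by
    conv_lhs => rw [← hψP]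
    rw [hψ0.im_comp]
    exact im_congr fun x hx => by
      rw [Function.comp_apply, hfe x hx, afun_inv_apply a (he.apply_mem hx)]
  exact (card_le_of_mor (hai.restrict_to inf_le_left) (inf_le_left.trans hTS) fun n hn =>
    ⟨afun_mem _ hn.1, heP ▸ FusionWeaklyNormal88.apply_normalizes hai hPT hn.1 hn.2⟩).trans h1

/-- A universal subgroup that is not centric relative to `T` does not contain its centralizer. -/
theorem cent_not_le {W : Subgroup Ω} (hW : W ≤ T) (huniv : ∀ Q, (L).IsConj W Q → To L Q W)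
    (hn : ¬ TC F T W) : ¬ centralizerIn T W ≤ W := by
  have hTS := h.T_le
  simp only [TC, not_and, not_forall] at hn
  obtain ⟨Q, hQ, hQn⟩ := hn hW
  obtain ⟨g, hg, rfl⟩ := FusionSysBasic.isConj_iff.1 hQ
  obtain ⟨a, ha, e, he, hge⟩ := h.frattini h.ambient_F hW hg
  obtain ⟨-, k, hk, hkW⟩ := huniv _ (FusionSysBasic.isConj_iff.2 ⟨e, he, rfl⟩)
  refine fun hle => hQn fun c hc => ?_
  have ham := (mem_autGroup hTS).1 ha
  have hd : afun a⁻¹ c ∈ centralizerIn T (im W e) := by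
    refine mem_centralizerIn.2 ⟨afun_mem _ hc.1, fun y hy => ?_⟩
    obtain ⟨x, hx, rfl⟩ := he.mem_im.1 hy
    have hgx : g x ∈ T := hge x hx ▸ afun_mem a (he.apply_mem hx)
    have hai := (mem_autGroup hTS).1 (inv_mem ha)
    have e1 : e x = afun a⁻¹ (g x) := by rw [hge x hx, afun_inv_apply a (he.apply_mem hx)]
    rw [e1, ← hai.map_cj hc.1 hgx, (mem_centralizerIn.1 hc).2 _ (apply_mem_im hx)]
  have hdN := centralizerIn_le_normalizerIn hd
  have h1 := hle ((mor_centralizer_iff hk he.im_le hkW hdN).2 hd)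
  obtain ⟨y, hy, hye⟩ := (hk.restrict_to (le_normalizerIn he.im_le)).mem_im.1 (hkW.symm ▸ h1)
  obtain rfl := hk.injOn (le_normalizerIn he.im_le hy) hdN hye
  obtain ⟨x, hx, hxe⟩ := he.mem_im.1 hy
  have h2 : g x = c := by rw [hge x hx, hxe, afun_apply_inv a hc.1]
  exact h2 ▸ apply_mem_im hx

omit [Finite S] [Fact p.Prime] in
theorem no_gam {W : Subgroup Ω} (hn : ¬ TC F T W) (Q : Subgroup Ω) (γ : Ω → Ω)
    (hQ : (L).IsConj W Q) : ¬ Gam F D₁ D₂ p Q γ := fun hG =>
  hn (h.tc_conj hG.1 (isConj_symm (sub_isConj h.meet_sub hQ)))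

/-- Universal subgroups are fully automized. -/
theorem automized {W : Subgroup Ω} (hW : W ≤ T) (hgood : GoodAbove L p (Nat.card W))
    (huniv : ∀ Q, (L).IsConj W Q → To L Q W) : (L).IsFullyAutomized p W := by
  have hTS := h.T_le
  haveI := finite_of_le hTS
  have hTp : IsPGroup p ↥T := h.pgrp.to_le hTS
  by_cases hc : TC F T W
  swap
  · obtain ⟨x, hx, hxW⟩ := SetLike.not_le_iff_exists.1 (h.cent_not_le hW huniv hc)
    refine automized_of_normal hTp h.generated_meet hW hgood huniv (fun Q γ hQ => h.no_gam hc Q γ hQ)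
      (O := ⊥) bot_le (fun a _ o ho => ?_) IsPGroup.of_bot (centralizerIn_le_normalizerIn hx) hxW
      (Subgroup.mem_bot.2 (afun_ext fun w hw => by
        rw [afun_nHom _ hw, afun_one hw, (mem_centralizerIn.1 hx).2 w hw]))
    rw [Subgroup.mem_bot] at ho ⊢; simp [ho]
  obtain ⟨P, ψ, hP, hPT, hψT, hψP, hsub⟩ := h.exists_point hW huniv
  have hψ0 := hψT.restrict_to (le_normalizerIn hW)
  set t := hψ0.transport hψP
  have hmap : (autInducedBy T W).map t.toMonoidHom = autInducedBy T P := by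
    ext b
    constructor
    · rintro ⟨a, ha, rfl⟩
      obtain ⟨u, hu, hun, he⟩ := mem_autInducedBy.1 ha
      have huN : u ∈ normalizerIn T W := ⟨hu, hun⟩
      refine mem_autInducedBy.2 ⟨ψ u, (hsub.le (apply_mem_im huN)).1,
        (hsub.le (apply_mem_im huN)).2, fun y hy => ?_⟩
      obtain ⟨x, hx, rfl⟩ := hψ0.mem_im.1 (hψP.symm ▸ hy)
      show afun (hψ0.transport hψP a) (ψ x) = _
      rw [hψ0.afun_transport hψP a hx, he x hx,
        hψT.map_cj huN (le_normalizerIn hW hx)]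
    · intro hb
      obtain ⟨u, hu, hun, he⟩ := mem_autInducedBy.1 hb
      obtain ⟨v, hv, rfl⟩ := hψT.mem_im.1 (hsub.ge ⟨hu, hun⟩)
      refine ⟨nHom T W ⟨v, hv.1, hv.2⟩, mem_autInducedBy.2 ⟨v, hv.1, hv.2, fun x hx =>
        afun_nHom _ hx⟩, afun_ext fun y hy => ?_⟩
      obtain ⟨x, hx, rfl⟩ := hψ0.mem_im.1 (hψP.symm ▸ hy)
      rw [he _ hy]
      show afun (hψ0.transport hψP _) (ψ x) = _
      rw [hψ0.afun_transport hψP _ hx, afun_nHom _ hx]
      exact hψT.map_cj hv (le_normalizerIn hW hx)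
  set A := com D₁ D₂ P
  set B := ((autInducedBy T P).subgroupOf A ⊔ Cfsg.pResidual p A).map A.subtype
  have hAutL : (L).autGroup W ≤ B.comap t.toMonoidHom := by
    refine aut_le_of_coprime hTp h.generated_meet
      (fun R f α hG hα => hG.2.2.2.2.2 α hα) hW hgood huniv _ (fun a ha => ?_) fun a ha hco => ?_
    · have h1 : t a ∈ autInducedBy T P := hmap.le ⟨a, ha, rfl⟩
      exact ⟨⟨t a, autT_le_com hPT h1⟩, Subgroup.mem_sup_left (Subgroup.mem_subgroupOf.2 h1), rfl⟩
    · refine ⟨⟨t a, h.com_transport hW hψ0 hψP (h.meet_aut_le hW ha)⟩, Subgroup.mem_sup_right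
        (TransferPResidual.mem_pResidual_of_coprime ?_), rfl⟩
      rwa [Subgroup.orderOf_mk, MulEquiv.orderOf_eq]
  haveI := finite_autGroup (F := L) W
  have hle : autInducedBy T W ≤ (L).autGroup W := autInducedBy_le hW
  refine ⟨hW, (sylIn_iff_card hle).2 (le_antisymm
    (sylIn_le_pow (isPGroup_autInducedBy hTp W) hle) ?_)⟩
  obtain ⟨V⟩ : Nonempty (Sylow p ((L).autGroup W)) := inferInstance
  set V' := (V : Subgroup ((L).autGroup W)).map ((L).autGroup W).subtype
  have hcV : Nat.card V' = p ^ (Nat.card ((L).autGroup W)).factorization p :=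
    (Nat.card_congr ((V : Subgroup ((L).autGroup W)).equivMapOfInjective _
      ((L).autGroup W).subtype_injective).toEquiv).symm.trans V.card_eq_multiplicity
  rw [← hcV, Nat.card_congr (V'.equivMapOfInjective t.toMonoidHom t.injective).toEquiv,
    Nat.card_congr ((autInducedBy T W).equivMapOfInjective t.toMonoidHom t.injective).toEquiv,
    hmap]
  exact h.card_le_autT hPT hP ((V.2.map _).map _)
    (Subgroup.map_le_iff_le_comap.2 ((Subgroup.map_subtype_le _).trans hAutL))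

/-- A common automorphism of order prime to `p` normalizing a group of automorphisms induced by `T`
extends, in the meet, to the preimage of that group. -/
theorem extends_coprime {W : Subgroup Ω} (hW : W ≤ T) (huniv : ∀ Q, (L).IsConj W Q → To L Q W)
    (hc : TC F T W) {Q : Subgroup (MulAut W)} (hQ : Q ≤ autInducedBy T W) {g : MulAut W}
    (hg : g ∈ com D₁ D₂ W) (hco : (orderOf g).Coprime p)
    (hgQ : ∀ a ∈ Q, g * a * g⁻¹ ∈ Q) :
    ∃ e, Mor L (W ⊔ nK T W Q) e ∧ ∀ x ∈ W, e x = afun g x := by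
  have hTS := h.T_le
  haveI := finite_of_le hTS
  obtain ⟨P, ψ, hP, hPT, hψT, hψP, hsub⟩ := h.exists_point hW huniv
  have hψ0 := hψT.restrict_to (le_normalizerIn hW)
  set u := hψ0.transport hψP g
  have hu : u ∈ com D₁ D₂ P := h.com_transport hW hψ0 hψP hg
  have huco : (orderOf u).Coprime p := by rwa [MulEquiv.orderOf_eq]
  set Q' := Q.map (hψ0.transport hψP).toMonoidHom
  have huQ' : ∀ a ∈ Q', u * a * u⁻¹ ∈ Q' := by
    rintro _ ⟨a, ha, rfl⟩
    exact ⟨g * a * g⁻¹, hgQ a ha, by simp [u]⟩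
  obtain ⟨ψi, hψi, hψiψ, hψψi, hψiN⟩ := hψT.exists_inv
  rw [hsub] at hψi hψψi hψiN
  have hPS := hP.1
  have hTC' : TC F T P := h.tc_conj hc (FusionSysBasic.isConj_iff.2 ⟨ψ, hψ0, hψP⟩)
  -- the preimages correspond
  set N := W ⊔ nK T W Q with hN
  set N' := P ⊔ nK T P Q' with hN'
  have hnKT : nK T P Q' ≤ normalizerIn T P := le_inf nK_le fun n hn =>
    (nK_normalizes (S := T) hPT hn)
  have hnKW : nK T W Q ≤ normalizerIn T W := le_inf nK_le fun n hn =>
    (nK_normalizes (S := T) hW hn)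
  have hN'T : N' ≤ normalizerIn T P := sup_le (le_normalizerIn hPT) hnKT
  have hN'le : N' ≤ T := hN'T.trans inf_le_left
  have hfw : ∀ x ∈ N, ψ x ∈ N' := fun x hx =>
    mor_sup_induction (hψT.restrict_to (sup_le (le_normalizerIn hW) hnKW))
      (fun y hy => Subgroup.mem_sup_left (hψP ▸ apply_mem_im hy))
      (fun n hn => by
        obtain ⟨-, l, hl, hle⟩ := id hn
        refine Subgroup.mem_sup_right ⟨(hsub.le (apply_mem_im (hnKW hn))).1, _, ⟨l, hl, rfl⟩,
          fun y hy => ?_⟩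
        obtain ⟨x, hx, rfl⟩ := hψ0.mem_im.1 (hψP.symm ▸ hy)
        rw [MulEquiv.coe_toMonoidHom, hψ0.afun_transport hψP l hx, hle x hx]
        exact hψT.map_cj (hnKW hn) (le_normalizerIn hW hx)) hx
  have hψiP : ∀ y ∈ P, ψi y ∈ W := fun y hy => by
    obtain ⟨x, hx, rfl⟩ := hψ0.mem_im.1 (hψP.symm ▸ hy)
    rw [hψiψ x (le_normalizerIn hW hx)]; exact hx
  have hψiN' := hψi.restrict_to hN'T
  have himN : im N' ψi = N := by
    refine le_antisymm (im_le_iff.2 fun y hy => mor_sup_induction hψiN'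
      (fun y hy => Subgroup.mem_sup_left (hψiP y hy)) (fun n hn => ?_) hy) fun x hx => ?_
    · obtain ⟨-, _, ⟨l, hl, rfl⟩, hle⟩ := id hn
      have hin := hψiN n (hnKT hn)
      refine Subgroup.mem_sup_right ⟨hin.1, l, hl, fun x hx => ?_⟩
      have hxP : ψ x ∈ P := hψP ▸ apply_mem_im hx
      have h1 := hle _ hxP
      rw [MulEquiv.coe_toMonoidHom, hψ0.afun_transport hψP l hx] at h1
      have h2 := congrArg ψi h1
      rw [hψiψ _ (le_normalizerIn hW (afun_mem l hx)), hψi.map_cj (hnKT hn) (le_normalizerIn hPT hxP),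
        hψiψ x (le_normalizerIn hW hx)] at h2
      exact h2
    · rw [← hψiψ x (sup_le (le_normalizerIn hW) hnKW hx)]
      exact apply_mem_im (hfw x hx)
  -- the extensions in the two subsystems
  have ext : ∀ {U : Subgroup Ω} {D : FusionSystem U}, D.IsNormalIn F p → T ≤ U →
      u ∈ D.autGroup P → ∃ b ∈ D.autGroup N', ∀ y ∈ P, afun b y = afun u y := by
    intro U D hD hU huD
    obtain ⟨⟨hDs, -, hinv⟩, -⟩ := id hD
    have hUS : U ≤ S := hinv.2.1.1
    haveI := finite_of_le hUS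
    have hPU : P ≤ U := hPT.trans hU
    have hPD := fullyNormalized_sub h.pgrp h.sat hinv.1 hinv.2.1 hPU hP
    obtain ⟨e, he, hee⟩ := (receptive_iff.1 (receptive_of_fullyNormalized (h.pgrp.to_le hUS) hDs
        hPD)).2 P _ (nK T P Q') ((mem_autGroup hPU).1 huD) (im_afun u) (nK_le.trans hU)
      (fun n hn => (hnKT hn).2) fun n hn => by
        obtain ⟨-, l, hl, hle⟩ := id hn
        obtain ⟨l0, hl0, hl0e⟩ := huQ' l hl
        obtain ⟨t, ht, -, hte⟩ := mem_autInducedBy.1 (hQ hl0)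
        refine ⟨ψ t, hU (closed_apply h.closedT hψT inf_le_left (?_ : t ∈ normalizerIn T W)),
          fun x hx => ?_⟩
        · exact ⟨ht, mem_normalizer_of_cj_le (hW.trans hTS) fun z hz => hte z hz ▸ afun_mem l0 hz⟩
        · have htN : t ∈ normalizerIn T W :=
            ⟨ht, mem_normalizer_of_cj_le (hW.trans hTS) fun z hz => hte z hz ▸ afun_mem l0 hz⟩
          obtain ⟨z, hz, hze⟩ := hψ0.mem_im.1 (show afun u x ∈ im W ψ by rw [hψP]; exact afun_mem u hx)
          rw [← hze, ← hψT.map_cj htN (le_normalizerIn hW hz), ← hte z hz,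
            ← hψ0.afun_transport hψP l0 hz]
          simp only [MulEquiv.coe_toMonoidHom] at hl0e
          rw [hl0e, hze, afun_mul _ _ (afun_mem u hx), afun_inv_apply u hx, afun_mul _ _ hx,
            hle x hx]
    have heY : ∀ y ∈ N', e y ∈ N' := fun y hy => mor_sup_induction he
      (fun x hx => Subgroup.mem_sup_left (hee x hx ▸ afun_mem u hx))
      (fun n hn => by
        obtain ⟨-, l, hl, hle⟩ := id hn
        refine Subgroup.mem_sup_right ⟨closed_apply h.closedT (sub_mor hinv.1 he) hN'le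
          (Subgroup.mem_sup_right hn), _, huQ' l hl, fun y hy => ?_⟩
        have hz := afun_mem u⁻¹ hy
        conv_rhs => rw [← afun_apply_inv u hy, ← hee _ hz,
          ← he.map_cj (Subgroup.mem_sup_right hn) (Subgroup.mem_sup_left hz), ← hle _ hz,
          hee _ (afun_mem l hz)]
        rw [afun_mul _ _ hy, afun_mul _ _ hz]) hy
    obtain ⟨b, hb, hbe⟩ := he.exists_aut (he.im_self heY)
    exact ⟨b, hb, fun y hy => (hbe y (Subgroup.mem_sup_left hy)).trans (hee y hy)⟩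
  obtain ⟨b1, hb1, hb1e⟩ := ext h.n1 inf_le_left hu.1
  obtain ⟨b2, hb2, hb2e⟩ := ext h.n2 inf_le_right hu.2
  have hN'S := hN'le.trans hTS
  haveI := finite_of_le hN'S
  haveI := finite_autGroup (F := F) N'
  have hbF : ∀ {U : Subgroup Ω} {D : FusionSystem U}, D.IsNormalIn F p → T ≤ U →
      ∀ {b : MulAut N'}, b ∈ D.autGroup N' → b ∈ F.autGroup N' := fun hD hU b hb =>
    mem_autGroup_of_mor (sub_mor hD.1.2.2.1 ((mem_autGroup (hN'le.trans hU)).1 hb))
  -- powers of order prime to `p`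
  have hn0 : orderOf b1 * orderOf b2 ≠ 0 := by
    have h1 := isOfFinOrder_of_finite (⟨b1, hbF h.n1 inf_le_left hb1⟩ : F.autGroup N')
    have h2 := isOfFinOrder_of_finite (⟨b2, hbF h.n2 inf_le_right hb2⟩ : F.autGroup N')
    exact Nat.mul_ne_zero (orderOf_pos_iff.2 ((F.autGroup N').subtype.isOfFinOrder h1)).ne'
      (orderOf_pos_iff.2 ((F.autGroup N').subtype.isOfFinOrder h2)).ne'
  obtain ⟨k, hk⟩ := FusionMeetKey.exists_exponent (p := p) hn0
  have hrestr : ∀ {b : MulAut N'}, (∀ y ∈ P, afun b y = afun u y) → ∀ i : ℕ, ∀ y ∈ P,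
      afun (b ^ i) y = afun (u ^ i) y := by
    intro b hb i
    induction i with
    | zero => intro y hy; rw [pow_zero, pow_zero, afun_one (Subgroup.mem_sup_left hy), afun_one hy]
    | succ i ih =>
      intro y hy
      rw [pow_succ', pow_succ', afun_mul _ _ (Subgroup.mem_sup_left hy), afun_mul _ _ hy, ih y hy,
        hb _ (afun_mem _ hy)]
  have huk : u ^ k = u := by
    refine (hk u (dvd_mul_of_dvd_left (orderOf_dvd_of_pow_eq_one (afun_ext fun y hy => ?_)) _)).2 huco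
    rw [← hrestr hb1e _ y hy, pow_orderOf_eq_one, afun_one (Subgroup.mem_sup_left hy), afun_one hy]
  set c1 := b1 ^ k
  set c2 := b2 ^ k
  have hc1 : c1 ∈ D₁.autGroup N' := pow_mem hb1 k
  have hc2 : c2 ∈ D₂.autGroup N' := pow_mem hb2 k
  have hc1e : ∀ y ∈ P, afun c1 y = afun u y := fun y hy => by rw [hrestr hb1e k y hy, huk]
  have hc2e : ∀ y ∈ P, afun c2 y = afun u y := fun y hy => by rw [hrestr hb2e k y hy, huk]
  have hc2co : (orderOf c2).Coprime p := (hk b2 (dvd_mul_left _ _)).1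
  -- they differ by a `p`-element
  let J : Subgroup (MulAut N') :=
    { carrier := {a | a ∈ F.autGroup N' ∧ (∀ y ∈ P, afun a y = y) ∧
        ∀ y ∈ N', y⁻¹ * afun a y ∈ P}
      one_mem' := ⟨one_mem _, fun y hy => afun_one (Subgroup.mem_sup_left hy), fun y hy => by
        rw [afun_one hy, inv_mul_cancel]; exact P.one_mem⟩
      mul_mem' := by
        rintro a a' ⟨ha, hf, hm⟩ ⟨ha', hf', hm'⟩
        refine ⟨mul_mem ha ha', fun y hy => ?_, fun y hy => ?_⟩
        · rw [afun_mul _ _ (Subgroup.mem_sup_left hy), hf' y hy, hf y hy]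
        · rw [afun_mul _ _ hy]
          have := P.mul_mem (hm' y hy) (hm _ (afun_mem a' hy))
          simpa [mul_assoc] using this
      inv_mem' := by
        rintro a ⟨ha, hf, hm⟩
        refine ⟨inv_mem ha, fun y hy => ?_, fun y hy => ?_⟩
        · conv_lhs => rw [← hf y hy]
          exact afun_inv_apply a (Subgroup.mem_sup_left hy)
        · have h1 := hm _ (afun_mem a⁻¹ hy)
          rw [afun_apply_inv a hy] at h1
          simpa using P.inv_mem h1 }
  have hJp : IsPGroup p J := fun a => by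
    obtain ⟨j, hj⟩ := pow_eq_one_of_stabilizes (h.pgrp.to_le hN'S) (n := 2)
      (fun i => if i = 0 then ⊥ else if i = 1 then P else N') rfl rfl
      (fun i => by
        split_ifs
        · exact bot_le
        · exact le_sup_left
        · exact le_rfl)
      (fun i hi => by
        interval_cases i
        · simp
        · simp [hN'])
      (α := (a : MulAut N')) (fun i hi y hy => by
        interval_cases i
        · simp only [zero_add, if_neg one_ne_zero, if_pos rfl] at hy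
          simp [a.2.2.1 y hy]
        · simp only [if_neg one_ne_zero, if_pos rfl]
          simp only [show (1 + 1 = 0) = False by simp, show (1 + 1 = 1) = False by simp,
            if_false] at hy
          exact a.2.2.2 y hy)
    exact ⟨j, Subtype.ext (by simpa using hj)⟩
  have hdiv : c2 * c1⁻¹ ∈ J := by
    refine ⟨mul_mem (hbF h.n2 inf_le_right hc2) (inv_mem (hbF h.n1 inf_le_left hc1)),
      fun y hy => ?_, fun y hy => ?_⟩
    · have hy' := afun_mem u⁻¹ hy
      rw [afun_mul _ _ (Subgroup.mem_sup_left hy)]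
      conv_lhs => rw [← afun_apply_inv u hy, ← hc1e _ hy',
        afun_inv_apply c1 (Subgroup.mem_sup_left hy'), hc2e _ hy']
      exact afun_apply_inv u hy
    · rw [afun_mul _ _ hy]
      set z := afun c1⁻¹ y with hz
      have hzN : z ∈ N' := afun_mem _ hy
      rw [show y⁻¹ = (afun c1 z)⁻¹ by rw [hz, afun_apply_inv c1 hy]]
      have h1 : afun c1 z ∈ T := hN'le (afun_mem _ hzN)
      have h2 : afun c2 z ∈ T := hN'le (afun_mem _ hzN)
      refine hTC'.2 P (FusionSysBasic.isConj_refl hPS) (mem_centralizerIn.2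
        ⟨Subgroup.mul_mem _ (Subgroup.inv_mem _ h1) h2, fun w hw => ?_⟩)
      have hw' := afun_mem u⁻¹ hw
      have hwN : afun u⁻¹ w ∈ N' := Subgroup.mem_sup_left hw'
      have hzw : cj z (afun u⁻¹ w) ∈ P := cj_mem_of_normalizer (hN'T hzN).2 hw'
      have e1 : ∀ {b : MulAut N'}, b ∈ F.autGroup N' → (∀ y ∈ P, afun b y = afun u y) →
          cj (afun b z) w = afun u (cj z (afun u⁻¹ w)) := fun hb hbe => by
        rw [← hbe _ hzw, ((mem_autGroup hN'S).1 hb).map_cj hzN hwN, hbe _ hw', afun_apply_inv u hw]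
      rw [← cj_cj, e1 (hbF h.n2 inf_le_right hc2) hc2e, ← e1 (hbF h.n1 inf_le_left hc1) hc1e,
        cj_inv_cj]
  have hc21 : c2 ∈ D₁.autGroup N' := by
    refine FusionMeetKey.mem_of_div_mem (fun b hb => hbF h.n1 inf_le_left hb) (fun a ha b hb => ?_)
      hJp (fun a ha => ha.1) (hbF h.n2 inf_le_right hc2) hc2co hc1 hdiv
    have hm := (mem_autGroup hN'S).1 ha
    have e : a * b * a⁻¹ = hm.transport (im_afun a) b := afun_ext fun y hy => by
      obtain ⟨x, hx, rfl⟩ : ∃ x ∈ N', afun a x = y :=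
        ⟨afun a⁻¹ y, afun_mem _ hy, afun_apply_inv a hy⟩
      rw [hm.afun_transport (im_afun a) b hx, afun_mul _ _ (afun_mem a hx),
        afun_inv_apply a hx, afun_mul _ _ hx]
    rw [e]
    exact FusionWeaklyNormal88.aut_transport h.i1 (hN'le.trans inf_le_left) hm (im_afun a) hb
  have hψiF : Mor F N' ψi := hψiN'
  have hcc : c2 ∈ com D₁ D₂ N' := ⟨hc21, hc2⟩
  have hTCN : TC F T N := tc_upward hc le_sup_left (sup_le hW nK_le)
  have hres := h.gam_aut hTCN (h.com_transport hN'le hψiF himN hcc)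
    (by rwa [MulEquiv.orderOf_eq])
  refine ⟨_, (mem_autGroup hTCN.1).1 hres, fun x hx => ?_⟩
  have hxP : ψ x ∈ P := hψP ▸ apply_mem_im hx
  conv_lhs => rw [← hψiψ x (le_normalizerIn hW hx)]
  rw [hψiF.afun_transport himN c2 (Subgroup.mem_sup_left hxP), hc2e _ hxP,
    hψ0.afun_transport hψP g hx, hψiψ _ (le_normalizerIn hW (afun_mem g hx))]

/-- Automorphisms of a fully automized universal subgroup extend. -/
theorem extends_aut {W : Subgroup Ω} (hW : W ≤ T) (hgood : GoodAbove L p (Nat.card W))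
    (huniv : ∀ Q, (L).IsConj W Q → To L Q W) (ha : (L).IsFullyAutomized p W) {β : MulAut W}
    (hβ : β ∈ (L).autGroup W) {M : Subgroup Ω} (hM : M ≤ normalizerIn T W)
    (hc : ∀ g ∈ M, ∃ k ∈ T, ∀ x ∈ W, afun β (cj g x) = cj k (afun β x)) :
    ∃ e, Mor L (W ⊔ M) e ∧ ∀ x ∈ W, e x = afun β x := by
  classical
  have hTS := h.T_le
  haveI := finite_of_le hTS
  have hWS := hW.trans hTS
  have hTp : IsPGroup p ↥T := h.pgrp.to_le hTS
  have hkN : ∀ g ∈ M, ∀ k ∈ T, (∀ x ∈ W, afun β (cj g x) = cj k (afun β x)) →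
      k ∈ normalizerIn T W := fun g hg k hk he => ⟨hk, mem_normalizer_of_cj_le hWS fun y hy => by
    have hy' := afun_mem β⁻¹ hy
    rw [← afun_apply_inv β hy, ← he _ hy']
    exact afun_mem β (cj_mem_of_normalizer (hM hg).2 hy')⟩
  set X := (L).autGroup W with hX
  haveI := finite_autGroup (F := L) W
  set QM := autInducedBy M W with hQM
  have hQMT : QM ≤ autInducedBy T W := autInducedBy_mono (hM.trans inf_le_left) W
  have hQMX : QM ≤ X := hQMT.trans (autInducedBy_le hW)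
  have hβQ : ∀ a ∈ QM, β * a * β⁻¹ ∈ autInducedBy T W := by
    intro a ha'
    obtain ⟨g, hg, -, hge⟩ := mem_autInducedBy.1 ha'
    obtain ⟨k, hk, hke⟩ := hc g hg
    refine mem_autInducedBy.2 ⟨k, hk, (hkN g hg k hk hke).2, fun y hy => ?_⟩
    have hy' := afun_mem β⁻¹ hy
    rw [afun_mul _ _ hy, afun_mul _ _ hy', hge _ hy', hke _ hy', afun_apply_inv β hy]
  by_cases hTC : TC F T W
  · -- fusion in the automizer
    obtain ⟨P0, hP0⟩ := ha.2
    have hPT : ∀ {V : Subgroup X}, V ≤ (P0 : Subgroup X) →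
        ∀ a ∈ V.map X.subtype, a ∈ autInducedBy T W := by
      rintro V hV _ ⟨a, ha', rfl⟩
      have := hV ha'
      rw [hP0, Subgroup.mem_subgroupOf] at this
      exact this
    let Mm : Subgroup X → Subgroup Ω := fun V => W ⊔ nK T W (V.map X.subtype)
    have hMmN : ∀ V : Subgroup X, Mm V ≤ normalizerIn T W := fun V =>
      sup_le (le_normalizerIn hW) (le_inf nK_le fun n hn => nK_normalizes (S := T) hW hn)
    have hvals : ∀ {V : Subgroup X} {g : X} {e : Ω → Ω}, Mor L (Mm V) e →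
        (∀ x ∈ W, e x = afun (g : MulAut W) x) →
        ∀ y ∈ Mm V, e y ∈ Mm (TransferAlperin.cj g V) := by
      intro V g e he hee y hy
      refine mor_sup_induction he
        (fun x hx => Subgroup.mem_sup_left (hee x hx ▸ afun_mem _ hx)) (fun n hn => ?_) hy
      obtain ⟨-, _, ⟨l, hl, rfl⟩, hle⟩ := id hn
      refine Subgroup.mem_sup_right ⟨he.apply_mem (Subgroup.mem_sup_right hn),
        ((g * l * g⁻¹ : X) : MulAut W), ⟨_, TransferAlperin.conj_mem_cj hl, rfl⟩, fun z hz => ?_⟩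
      have hz' := afun_mem (g : MulAut W)⁻¹ hz
      conv_rhs => rw [← afun_apply_inv (g : MulAut W) hz, ← hee _ hz',
        ← he.map_cj (Subgroup.mem_sup_right hn) (Subgroup.mem_sup_left hz'), ← hle _ hz',
        hee _ (afun_mem _ hz')]
      simp only [Subgroup.coe_mul, Subgroup.coe_inv, Subgroup.coe_subtype]
      rw [afun_mul _ _ hz, afun_mul _ _ hz']
    have key := FusionMeetGroup.closed_induction P0
      (fun V g => ∃ e, Mor L (Mm V) e ∧ ∀ x ∈ W, e x = afun (g : MulAut W) x) ?_ ?_ ?_ ?_ ?_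
    · have h1 : TransferAlperin.cj (⟨β, hβ⟩ : X) (QM.subgroupOf X) ≤ (P0 : Subgroup X) := by
        rintro _ ⟨a, ha', rfl⟩
        rw [hP0, Subgroup.mem_subgroupOf]
        exact hβQ _ ha'
      obtain ⟨e, he, hee⟩ := key (QM.subgroupOf X) ⟨β, hβ⟩ (fun a ha' => by
        rw [hP0, Subgroup.mem_subgroupOf]; exact hQMT ha') h1
      refine ⟨e, he.restrict_to (sup_le_sup_left (fun g hg => ?_) W), hee⟩
      refine ⟨(hM hg).1, nHom M W ⟨g, hg, (hM hg).2⟩, ?_, fun x hx => afun_nHom _ hx⟩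
      rw [Subgroup.subgroupOf_map_subtype]
      have hmem : nHom M W ⟨g, hg, (hM hg).2⟩ ∈ QM :=
        mem_autInducedBy.2 ⟨g, hg, (hM hg).2, fun x hx => afun_nHom _ hx⟩
      exact ⟨hmem, hQMX hmem⟩
    · intro V g k _ _ _ ⟨e, he, hee⟩ ⟨e', he', hee'⟩
      refine ⟨e' ∘ e, he.comp he' (hvals he hee), fun x hx => ?_⟩
      rw [Function.comp_apply, hee x hx, hee' _ (afun_mem _ hx), Subgroup.coe_mul,
        afun_mul _ _ hx]
    · intro V g hV _ ⟨e, he, hee⟩
      obtain ⟨i, hi, hie, -, -⟩ := he.exists_inv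
      refine ⟨i, hi.restrict_to ?_, fun x hx => ?_⟩
      · have hWle : W ≤ im (Mm V) e := fun x hx => by
          rw [← afun_apply_inv (g : MulAut W) hx, ← hee _ (afun_mem _ hx)]
          exact apply_mem_im (Subgroup.mem_sup_left (afun_mem _ hx))
        refine sup_le hWle fun n hn => ?_
        obtain ⟨hnT, _, ⟨_, ⟨l, hl, rfl⟩, rfl⟩, hle⟩ := id hn
        obtain ⟨t, ht, htn, hte⟩ := mem_autInducedBy.1 (hPT hV (l : MulAut W) ⟨l, hl, rfl⟩)
        have htM : t ∈ Mm V := Subgroup.mem_sup_right ⟨ht, (l : MulAut W), ⟨l, hl, rfl⟩, hte⟩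
        have hd : (e t)⁻¹ * n ∈ W := hTC.2 W (FusionSysBasic.isConj_refl hWS)
          (mem_centralizerIn.2 ⟨Subgroup.mul_mem _ (Subgroup.inv_mem _ (he.apply_mem htM)) hnT,
            fun z hz => by
              rw [← cj_cj, ← hle z hz]
              have hz' := afun_mem (g : MulAut W)⁻¹ hz
              simp only [MulEquiv.coe_toMonoidHom, MulAut.conj_apply, Subgroup.coe_subtype,
                Subgroup.coe_mul, Subgroup.coe_inv]
              rw [afun_mul _ _ hz, afun_mul _ _ hz', hte _ hz',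
                ← hee _ (cj_mem_of_normalizer htn hz'),
                he.map_cj htM (Subgroup.mem_sup_left hz'), hee _ hz',
                afun_apply_inv (g : MulAut W) hz, cj_inv_cj]⟩)
        have := mul_mem (apply_mem_im htM) (hWle hd)
        rwa [mul_inv_cancel_left] at this
      · have hx' := afun_mem (g : MulAut W)⁻¹ hx
        conv_lhs => rw [← afun_apply_inv (g : MulAut W) hx, ← hee _ hx']
        rw [hie _ (Subgroup.mem_sup_left hx'), Subgroup.coe_inv]
    · intro V V' g hVV _ _ ⟨e, he, hee⟩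
      refine ⟨e, he.restrict_to (sup_le_sup_left ?_ W), hee⟩
      rintro n ⟨hn, l, hl, hle⟩
      exact ⟨hn, l, Subgroup.map_mono hVV hl, hle⟩
    · intro V _ g hg _
      rw [hP0, Subgroup.mem_subgroupOf] at hg
      obtain ⟨t, ht, -, hte⟩ := mem_autInducedBy.1 hg
      exact ⟨cj t, mor_cj ((hMmN V).trans inf_le_left) ht, fun x hx => (hte x hx).symm⟩
    · intro V hV g hgn hco
      refine h.extends_coprime hW huniv hTC (fun a ha' => hPT hV a ha')
        (h.meet_aut_le hW g.2) (by rwa [Subgroup.orderOf_coe]) ?_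
      rintro _ ⟨a, ha', rfl⟩
      exact ⟨g * a * g⁻¹, (Subgroup.mem_normalizer_iff.1 hgn a).1 ha', rfl⟩
  -- `W` does not contain its centralizer
  obtain ⟨x0, hx0, hx0W⟩ := SetLike.not_le_iff_exists.1 (h.cent_not_le hW huniv hTC)
  obtain ⟨Y, hloc, -, hYC, hext, hYmap⟩ := local_of_normal hTp h.generated_meet hW hgood huniv
    (fun Q γ hQ => h.no_gam hTC Q γ hQ) (O := ⊥) bot_le
    (fun a _ o ho => by rw [Subgroup.mem_bot] at ho ⊢; simp [ho]) IsPGroup.of_bot
    (centralizerIn_le_normalizerIn hx0) hx0W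
    (Subgroup.mem_bot.2 (afun_ext fun w hw => by
      rw [afun_nHom _ hw, afun_one hw, (mem_centralizerIn.1 hx0).2 w hw]))
  have hYT : Y ≤ T := hloc.leN.trans inf_le_left
  obtain ⟨b, hb, hbe⟩ := hext β hβ
  haveI := finite_autGroup (F := L) Y
  set St := FusionTops.stab L Y W hloc.le
  have hnY : ∀ s ∈ normalizerIn T W, s ∈ normalizerIn T Y := fun s hs =>
    ⟨hs.1, mem_normalizer_of_cj_le (hYT.trans hTS) fun y hy =>
      hYmap Y _ (mor_cj (F := L) hYT hs.1) le_rfl (mem_normalizer_iff_im_cj.1 hs.2) y hy⟩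
  have hbSt : b ∈ St := ⟨hb, (im_congr hbe).trans (im_afun β)⟩
  let E : Subgroup (MulAut Y) :=
    { carrier := {a | a ∈ St ∧ ∀ x ∈ W, afun a x = x}
      one_mem' := ⟨one_mem _, fun x hx => afun_one (hloc.le hx)⟩
      mul_mem' := fun ⟨ha, ha'⟩ ⟨hb, hb'⟩ => ⟨mul_mem ha hb, fun x hx => by
        rw [afun_mul _ _ (hloc.le hx), hb' x hx, ha' x hx]⟩
      inv_mem' := fun {a} ⟨ha, ha'⟩ => ⟨inv_mem ha, fun x hx => by
        conv_lhs => rw [← ha' x hx]
        exact afun_inv_apply a (hloc.le hx)⟩ }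
  have hEn : ∀ g ∈ St, ∀ a ∈ E, g * a * g⁻¹ ∈ E := fun g hg a ha' =>
    ⟨mul_mem (mul_mem hg ha'.1) (inv_mem hg), fun x hx => by
      have hgx : afun g⁻¹ x ∈ W := (inv_mem hg : g⁻¹ ∈ St).2.le (apply_mem_im hx)
      rw [afun_mul _ _ (hloc.le hx), afun_mul _ _ (hloc.le hgx), ha'.2 _ hgx,
        afun_apply_inv g (hloc.le hx)]⟩
  set K : Subgroup Ω := nK T W (QM.map (MulAut.conj β).toMonoidHom) with hK
  have hKN : K ≤ normalizerIn T W := le_inf nK_le fun n hn => nK_normalizes (S := T) hW hn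
  set AK := autInducedBy K Y
  have hAKSt : AK ≤ St := by
    exact (autInducedBy_mono hKN Y).trans (autInducedBy_le_stab hYT hloc.le le_rfl)
  have hRE : (autInducedBy (normalizerIn T Y ⊓ normalizerIn T W) Y) ⊓ E ≤ AK := by
    rintro a ⟨ha', haE⟩
    obtain ⟨s, hs, hsn, hse⟩ := mem_autInducedBy.1 ha'
    refine mem_autInducedBy.2 ⟨s, ⟨hs.2.1, 1, one_mem _, fun x hx => ?_⟩, hsn, hse⟩
    rw [afun_one hx, ← hse x (hloc.le hx), haE.2 x hx]
  haveI : Finite St :=
    Finite.of_injective _ (Subgroup.inclusion_injective (fun a ha => ha.1 : St ≤ (L).autGroup Y))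
  haveI : Finite ↥(AK ⊔ E : Subgroup (MulAut Y)) :=
    Finite.of_injective _ (Subgroup.inclusion_injective (sup_le hAKSt fun a ha => ha.1 : AK ⊔ E ≤ St))
  have hAKp : IsPGroup p AK :=
    (isPGroup_autInducedBy hTp Y).to_le (autInducedBy_mono nK_le Y)
  obtain ⟨hsyl, hdec⟩ := sylIn_sup hAKp (fun a ha' j hj => hEn a (hAKSt ha') j hj)
    (FusionCentralLift.sylIn_inf (hloc.sylow hloc.le)
      ((isPGroup_autInducedBy hTp Y).to_le (autInducedBy_mono (inf_le_left.trans inf_le_left) Y))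
      (fun a ha' => ha'.1) hEn) inf_le_right hRE
  have hMY : M ≤ normalizerIn T Y ⊓ normalizerIn T W := le_inf (fun s hs => hnY s (hM hs)) hM
  have hconj : (autInducedBy M Y).map (MulAut.conj b).toMonoidHom ≤ AK ⊔ E := by
    rintro _ ⟨a, ha', rfl⟩
    obtain ⟨s, hs, hsn, hse⟩ := mem_autInducedBy.1 ha'
    obtain ⟨k, hk, hke⟩ := hc s hs
    have hkW := hkN s hs k hk hke
    have hkK : k ∈ K := by
      refine ⟨hk, _, ⟨nHom M W ⟨s, hs, (hM hs).2⟩,
        mem_autInducedBy.2 ⟨s, hs, (hM hs).2, fun x hx => afun_nHom _ hx⟩, rfl⟩, fun y hy => ?_⟩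
      have hy' := afun_mem β⁻¹ hy
      simp only [MulEquiv.coe_toMonoidHom, MulAut.conj_apply]
      rw [afun_mul _ _ hy, afun_mul _ _ hy', afun_nHom _ hy', hke _ hy', afun_apply_inv β hy]
    set ak : MulAut Y := nHom T Y ⟨k, hk, (hnY k hkW).2⟩
    have hakK : ak ∈ AK :=
      mem_autInducedBy.2 ⟨k, hkK, (hnY k hkW).2, fun y hy => afun_nHom _ hy⟩
    have hSt : b * a * b⁻¹ ∈ St := mul_mem (mul_mem hbSt
      (autInducedBy_le_stab hYT hloc.le inf_le_right (autInducedBy_mono hMY Y ha')))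
      (inv_mem hbSt)
    have hE : (b * a * b⁻¹) * ak⁻¹ ∈ E := by
      refine ⟨mul_mem hSt (inv_mem (hAKSt hakK)), fun x hx => ?_⟩
      have h1 : afun ak⁻¹ x = cj k⁻¹ x := by
        have hx' : cj k⁻¹ x ∈ W := cj_mem_of_normalizer (Subgroup.inv_mem _ hkW.2) hx
        conv_lhs => rw [← cj_cj_inv k x, ← afun_nHom (⟨k, hk, (hnY k hkW).2⟩ :
          ↥(T ⊓ Subgroup.normalizer (Y : Set Ω))) (hloc.le hx')]
        exact afun_inv_apply ak (hloc.le hx')
      have hx' : cj k⁻¹ x ∈ W := cj_mem_of_normalizer (Subgroup.inv_mem _ hkW.2) hx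
      have hy' : afun β⁻¹ (cj k⁻¹ x) ∈ W := afun_mem _ hx'
      have h2 : afun b⁻¹ (cj k⁻¹ x) = afun β⁻¹ (cj k⁻¹ x) := by
        conv_lhs => rw [← afun_apply_inv β hx', ← hbe _ hy']
        exact afun_inv_apply b (hloc.le hy')
      rw [afun_mul _ _ (hloc.le hx), h1, afun_mul _ _ (hloc.le hx'), h2,
        afun_mul _ _ (hloc.le hy'), hse _ (hloc.le hy'),
        hbe _ (cj_mem_of_normalizer (hM hs).2 hy'), hke _ hy', afun_apply_inv β hx', cj_cj_inv]
    have e : (MulAut.conj b).toMonoidHom a = (b * a * b⁻¹ * ak⁻¹) * ak := by simp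
    rw [e]
    exact mul_mem (Subgroup.mem_sup_right hE) (Subgroup.mem_sup_left hakK)
  obtain ⟨w, hw, hwK⟩ := sylIn_absorb hsyl
    (((isPGroup_autInducedBy hTp Y).to_le (autInducedBy_mono (hM.trans inf_le_left) Y)).map _) hconj
  obtain ⟨a0, ha0, j, hj, rfl⟩ := hdec w hw
  obtain ⟨e, he, hee⟩ := hloc.ext (j * b) (mul_mem hj.1.1 hb)
    ((im_congr fun x hx => by
      rw [afun_mul _ _ (hloc.le hx), hbe x hx, hj.2 _ (afun_mem β hx)]).trans (im_afun β))
    M hMY fun s hs => by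
      have has : nHom M Y ⟨s, hs, (hMY hs).1.2⟩ ∈ autInducedBy M Y :=
        mem_autInducedBy.2 ⟨s, hs, (hMY hs).1.2, fun y hy => afun_nHom _ hy⟩
      have h1 := AK.mul_mem (AK.mul_mem (AK.inv_mem ha0) (hwK _ ⟨_, has, rfl⟩)) ha0
      obtain ⟨v, hv, -, hve⟩ := mem_autInducedBy.1 h1
      refine ⟨v, nK_le hv, fun y hy => ?_⟩
      have hy1 := afun_mem (j * b) hy
      rw [← hve _ hy1, show a0⁻¹ * (a0 * j * (MulAut.conj b).toMonoidHom
        (nHom M Y ⟨s, hs, (hMY hs).1.2⟩) * (a0 * j)⁻¹) * a0 =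
          (j * b) * nHom M Y ⟨s, hs, (hMY hs).1.2⟩ * (j * b)⁻¹ by
            simp only [MulEquiv.coe_toMonoidHom, MulAut.conj_apply]; group,
        afun_mul _ _ hy1, afun_inv_apply _ hy, afun_mul _ _ hy, afun_nHom _ hy]
  refine ⟨e, he.restrict_to (sup_le_sup_right hloc.le M), fun x hx => ?_⟩
  rw [hee x (hloc.le hx), afun_mul _ _ (hloc.le hx), hbe x hx, hj.2 _ (afun_mem β hx)]

/-- The meet is saturated. -/
theorem saturated_meet : (L).IsSaturated p := by
  have hTS := h.T_le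
  haveI := finite_of_le hTS
  have hTp : IsPGroup p ↥T := h.pgrp.to_le hTS
  refine saturated_of_classes fun P hP hgood => ?_
  obtain ⟨W, hPW, hWn, huniv⟩ := exists_universal hTp h.generated_meet hP hgood
  rw [FusionSysBasic.isConj_card hPW] at hgood
  have hW := hWn.1
  have ha := h.automized hW hgood huniv
  refine ⟨W, hPW, ha, receptive_iff.2 ⟨hW, fun Q f M hf him hMS hMn hM => ?_⟩⟩
  obtain ⟨hQS, k, hk, hkW⟩ := huniv Q (isConj_symm (FusionSysBasic.isConj_iff.2 ⟨f, hf, him⟩))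
  have hkQ := hk.restrict_to (le_normalizerIn hQS)
  obtain ⟨ki, hki, hkik, -, hkiQ⟩ := hkQ.exists_inv
  rw [hkW] at hki hkiQ
  have hb : Mor L W (f ∘ ki) := hki.comp hf hkiQ
  obtain ⟨β, hβ, hβe⟩ := hb.exists_aut (hb.im_self fun w hw => him ▸ apply_mem_im (hkiQ w hw))
  have hMN : M ≤ normalizerIn T Q := le_inf hMS hMn
  have hkM := hk.restrict_to hMN
  obtain ⟨e, he, hee⟩ := h.extends_aut hW hgood huniv ha hβ (M := im M k)
    (im_le_iff.2 fun s hs => mor_normalizer_mem hk hQS hkW (hMN hs)) fun s hs => by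
      obtain ⟨v, hv, rfl⟩ := hkM.mem_im.1 hs
      obtain ⟨j, hj, hje⟩ := hM v hv
      refine ⟨j, hj, fun w hw => ?_⟩
      obtain ⟨x, hx, rfl⟩ := hkQ.mem_im.1 (hkW.ge hw)
      have hvx := cj_mem_of_normalizer (hMn hv) hx
      rw [← hk.map_cj (hMN hv) (le_normalizerIn hQS hx), hβe _ (hkW ▸ apply_mem_im hvx),
        hβe _ (hkW ▸ apply_mem_im hx), Function.comp_apply, Function.comp_apply, hkik _ hvx,
        hkik x hx, hje x hx]
  refine ⟨e ∘ k, (hk.restrict_to (sup_le (le_normalizerIn hQS) hMN)).comp he fun y hy =>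
    mor_sup_induction (hk.restrict_to (sup_le (le_normalizerIn hQS) hMN))
      (fun x hx => Subgroup.mem_sup_left (hkW ▸ apply_mem_im hx))
      (fun x hx => Subgroup.mem_sup_right (apply_mem_im hx)) hy, fun x hx => ?_⟩
  have hkx : k x ∈ W := hkW ▸ apply_mem_im hx
  rw [Function.comp_apply, hee _ hkx, hβe _ hkx, Function.comp_apply, hkik x hx]

end Setup

end Cfsg.Agent.FusionMeet
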