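import Cfsg.Agent.Lib.FusionLocalSys
import Cfsg.Agent.Lib.FusionMeetSat
import Cfsg.Agent.Lib.FusionResidualNormal88

/-!
The part `locSys` of `N = N_F(X)` in `E` is saturated (`saturated_loc`) and weakly normal in `N`;
so `N` has a normal subsystem over `N_T(X)` inside `E` (`exists_normal_inside`).
-/

set_option autoImplicit false

namespace Cfsg.Agent.FusionLocalSub

open Cfsg Cfsg.FusionSystem Cfsg.Agent.FusionSysBasic Cfsg.Agent.FusionSysSaturated
open Cfsg.Agent.FusionSysNormal Cfsg.Agent.FusionKit88 Cfsg.Agent.FusionSysNormalizer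
open Cfsg.Agent.FusionTops Cfsg.Agent.FusionGenerated
open Cfsg.Agent.FusionLocalPart
open scoped Pointwise

variable {Ω : Type*} [Group Ω] {S T X : Subgroup Ω} {F : FusionSystem S} {E : FusionSystem T}
  {N : FusionSystem (normalizerIn S X)} {p : ℕ}

local notation "RR" => (T ⊓ normalizerIn S X)
local notation "L" => locSys F E N p

/-- In the larger subgroups the automizers of `locSys` consist of automorphisms in the part in
`E`. -/
def AutAbove (F : FusionSystem S) (E : FusionSystem T) (N : FusionSystem (normalizerIn S X)) (p : ℕ)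
    (n : ℕ) : Prop :=
  ∀ U : Subgroup Ω, n < Nat.card U → TCN T N U →
    ∀ a ∈ (locSys F E N p).autGroup U, InCom F E N p U a

namespace NCtx

variable (h : NCtx F E N p) [Finite S] [Fact p.Prime]
include h

omit [Finite S] [Fact p.Prime] in
theorem generated_loc : Generated L (Gam F E N p) := by
  intro Φ hc hg P f hf
  have hcl : FusionInduct88.Closed N (U := RR) (fun P f => Mor L P f ∧ Φ P f) :=
    { congr := fun ⟨h1, h2⟩ he => ⟨h1.congr he, hc.congr h2 he⟩
      conj := fun hP hg => ⟨mor_cj hP hg, hc.conj hP hg⟩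
      comp := fun _ _ hP hQ hfQ ⟨h1, h2⟩ ⟨h3, h4⟩ =>
        ⟨h1.comp h3 hfQ, hc.comp h1 h3 hP hQ hfQ h2 h4⟩
      inv := fun {P f g} _ _ hP hgf ⟨h1, h2⟩ => by
        obtain ⟨i, hi, hif, -, -⟩ := h1.exists_inv
        have hg : Mor L (im P f) g := hi.congr fun y hy => by
          obtain ⟨x, hx, rfl⟩ := h1.mem_im.1 hy
          rw [hif x hx, hgf x hx]
        exact ⟨hg, hc.inv h1 hg hP hgf h2⟩ }
  exact (h.loc_induction hcl
    (fun R g hG => ⟨h.gam_mor hG, hg R g (h.gam_mor hG) hG.2.2.1 hG⟩) hf).2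

/-- A universal subgroup matches a fully normalized subgroup of `N`. -/
theorem exists_point {W : Subgroup Ω} (hW : W ≤ RR) (huniv : ∀ Q, (L).IsConj W Q → To L Q W) :
    ∃ P ψ, N.IsFullyNormalized P ∧ P ≤ RR ∧ Mor N (normalizerIn RR W) ψ ∧ im W ψ = P ∧
      im (normalizerIn RR W) ψ = normalizerIn RR P := by
  have hTS : RR ≤ normalizerIn S X := inf_le_right
  haveI : Finite ↥(normalizerIn S X) := finite_of_le inf_le_left
  haveI := finite_of_le hTS
  have hWS := hW.trans hTS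
  obtain ⟨P, hWP, hP⟩ := FusionSysSaturated.exists_fullyNormalized (F := N) hWS
  obtain ⟨ψ, hψ, hψN, hψP⟩ := exists_map_to_fullyNormalized h.Np h.satN hP hWP
  have hψ0 := hψ.restrict_to (le_normalizerIn hWS)
  have hPT : P ≤ RR := hψP ▸ im_le_iff.2 fun x hx => closed_apply h.closedR hψ0 hW hx
  have hNW : normalizerIn RR W ≤ normalizerIn (normalizerIn S X) W := inf_le_inf_right _ hTS
  have hψT := hψ.restrict_to hNW
  refine ⟨P, ψ, hP, hPT, hψT, hψP, ?_⟩
  refine eq_of_le_of_card_ge inf_le_left (im_le_iff.2 fun t ht =>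
    ⟨closed_apply h.closedR hψT inf_le_left ht, (hψN t (hNW ht)).2⟩) ?_
  rw [hψT.card_im]
  obtain ⟨a, ha, e, he, hfe⟩ := h.frattini hW hψ0
  have h1 := (huniv _ (FusionSysBasic.isConj_iff.2 ⟨e, he, rfl⟩)).card_le
  have hai := (mem_autGroup hTS).1 (inv_mem ha)
  have heP : im P (afun a⁻¹) = im W e := by
    conv_lhs => rw [← hψP]
    rw [hψ0.im_comp]
    exact im_congr fun x hx => by
      rw [Function.comp_apply, hfe x hx, afun_inv_apply a (he.apply_mem hx)]
  exact (card_le_of_mor (hai.restrict_to inf_le_left) (inf_le_left.trans hTS) fun n hn =>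
    ⟨afun_mem _ hn.1, heP ▸ FusionWeaklyNormal88.apply_normalizes hai hPT hn.1 hn.2⟩).trans h1

/-- A universal subgroup that is not `TCN` is moved by a normal `p`-subgroup of its automizer. -/
theorem exists_moving {W : Subgroup Ω} (hW : W ≤ RR) (huniv : ∀ Q, (L).IsConj W Q → To L Q W)
    (hn : ¬ TCN T N W) : ∃ (O : Subgroup (MulAut W)) (x : Ω) (hx : x ∈ normalizerIn RR W),
      O ≤ (L).autGroup W ∧ (∀ a ∈ (L).autGroup W, ∀ o ∈ O, a * o * a⁻¹ ∈ O) ∧ IsPGroup p O ∧
      x ∉ W ∧ nHom RR W ⟨x, hx⟩ ∈ O := by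
  have hTS : RR ≤ normalizerIn S X := inf_le_right
  haveI : Finite ↥(normalizerIn S X) := finite_of_le inf_le_left
  haveI := finite_of_le hTS
  have hTp : IsPGroup p ↥RR := h.Np.to_le hTS
  by_cases hX0 : X ⊓ T ≤ W
  · have hcent : ¬ centralizerIn RR W ≤ W := by
      intro hle
      simp only [TCN, hW, hX0, true_and, not_forall] at hn
      obtain ⟨Q, hQ, hQn⟩ := hn
      obtain ⟨g, hg, rfl⟩ := FusionSysBasic.isConj_iff.1 hQ
      obtain ⟨a, ha, e, he, hge⟩ := h.frattini hW hg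
      obtain ⟨-, k, hk, hkW⟩ := huniv _ (FusionSysBasic.isConj_iff.2 ⟨e, he, rfl⟩)
      refine hQn fun c hc => ?_
      have ham := (mem_autGroup hTS).1 ha
      have hd : afun a⁻¹ c ∈ centralizerIn RR (im W e) := by
        refine mem_centralizerIn.2 ⟨afun_mem _ hc.1, fun y hy => ?_⟩
        obtain ⟨x, hx, rfl⟩ := he.mem_im.1 hy
        have hgx : g x ∈ RR := hge x hx ▸ afun_mem a (he.apply_mem hx)
        have hai := (mem_autGroup hTS).1 (inv_mem ha)
        have e1 : e x = afun a⁻¹ (g x) := by rw [hge x hx, afun_inv_apply a (he.apply_mem hx)]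
        rw [e1, ← hai.map_cj hc.1 hgx, (mem_centralizerIn.1 hc).2 _ (apply_mem_im hx)]
      have hdN := centralizerIn_le_normalizerIn hd
      have h1 := hle ((mor_centralizer_iff hk he.im_le hkW hdN).2 hd)
      obtain ⟨y, hy, hye⟩ := (hk.restrict_to (le_normalizerIn he.im_le)).mem_im.1 (hkW.symm ▸ h1)
      obtain rfl := hk.injOn (le_normalizerIn he.im_le hy) hdN hye
      obtain ⟨x, hx, hxe⟩ := he.mem_im.1 hy
      have h2 : g x = c := by rw [hge x hx, hxe, afun_apply_inv a hc.1]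
      exact h2 ▸ apply_mem_im hx
    obtain ⟨x, hx, hxW⟩ := SetLike.not_le_iff_exists.1 hcent
    refine ⟨⊥, x, centralizerIn_le_normalizerIn hx, bot_le, fun a _ o ho => ?_, IsPGroup.of_bot, hxW,
      Subgroup.mem_bot.2 (afun_ext fun w hw => by
        rw [afun_nHom _ hw, afun_one hw, (mem_centralizerIn.1 hx).2 w hw])⟩
    rw [Subgroup.mem_bot] at ho ⊢; simp [ho]
  · have hX0R : X ⊓ T ≤ RR := le_inf inf_le_right (inf_le_left.trans (le_normalizerIn h.hX.1))
    have hX0cl : ∀ {P : Subgroup Ω} {g : Ω → Ω}, Mor N P g → ∀ x ∈ P, x ∈ X ⊓ T → g x ∈ X ⊓ T :=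
      fun hg x hxP hx => ⟨normal_invariant h.X_normal hg hxP hx.1,
        closed_apply' h.ctx.closed (sub_mor h.subN hg) hxP hx.2⟩
    -- an element of `X ⊓ T` outside `W` normalizing it
    have hWX : W ≤ Subgroup.normalizer ((X ⊓ T : Subgroup Ω) : Set Ω) := fun w hw =>
      mem_normalizer_of_cj_le (hX0R.trans hTS) fun x hx =>
        hX0cl (mor_cj (F := N) (hX0R.trans hTS) (hTS (hW hw))) x hx hx
    set V := W ⊔ (X ⊓ T) with hV
    have hVR : V ≤ RR := sup_le hW hX0R
    haveI := finite_of_le hVR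
    have hlt := FusionFrattini88.card_lt_normalizerIn (hTp.to_le hVR) le_rfl
      (lt_of_le_of_ne (le_sup_left : W ≤ V) fun e => hX0 (le_sup_right.trans e.ge))
    obtain ⟨v, hv, hvW⟩ : ∃ v ∈ normalizerIn V W, v ∉ W := by
      by_contra hcon
      simp only [not_exists, not_and, not_not] at hcon
      haveI := finite_of_le hW
      exact absurd (Subgroup.card_le_of_le hcon) (not_le.2 hlt)
    have hv' : v ∈ (W : Set Ω) * ((X ⊓ T : Subgroup Ω) : Set Ω) := by
      rw [← Subgroup.coe_mul_of_left_le_normalizer_right _ _ hWX]; exact hv.1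
    obtain ⟨w, hw, x, hx, rfl⟩ := Set.mem_mul.1 hv'
    have hxn : x ∈ Subgroup.normalizer (W : Set Ω) := by
      have := Subgroup.mul_mem _ (Subgroup.inv_mem _ (Subgroup.le_normalizer hw)) hv.2
      rwa [inv_mul_cancel_left] at this
    refine ⟨autInducedBy (X ⊓ T) W, x, ⟨hX0R hx, hxn⟩,
      (autInducedBy_mono hX0R W).trans (autInducedBy_le hW), ?_,
      (isPGroup_autInducedBy hTp W).to_le (autInducedBy_mono hX0R W), fun hxW => hvW (W.mul_mem hw hxW),
      mem_autInducedBy.2 ⟨x, hx, hxn, fun z hz => afun_nHom _ hz⟩⟩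
    intro a ha o ho
    obtain ⟨t, ht, htn, hte⟩ := mem_autInducedBy.1 ho
    obtain ⟨g, hg, hge, -⟩ := (isNormal_iff.1 h.X_normal).2 W _
      (sub_mor h.loc_sub ((mem_autGroup hW).1 ha))
    have htWX : t ∈ W ⊔ X := Subgroup.mem_sup_right ht.1
    have hgW : im W g = W := (im_congr hge).trans (im_afun a)
    refine mem_autInducedBy.2 ⟨g t, hX0cl hg t htWX ht,
      hgW ▸ FusionWeaklyNormal88.apply_normalizes hg le_sup_left htWX htn, fun y hy => ?_⟩
    have hy' := afun_mem a⁻¹ hy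
    rw [afun_mul _ _ hy, afun_mul _ _ hy', hte _ hy', ← hge _ (cj_mem_of_normalizer htn hy'),
      hg.map_cj htWX (Subgroup.mem_sup_left hy'), hge _ hy', afun_apply_inv a hy]

omit [Finite S] [Fact p.Prime] in
theorem no_gam {W : Subgroup Ω} (hn : ¬ TCN T N W) (Q : Subgroup Ω) (γ : Ω → Ω)
    (hQ : (L).IsConj W Q) : ¬ Gam F E N p Q γ := fun hG =>
  hn (h.tc_conj hG.1 (isConj_symm (sub_isConj h.loc_sub hQ)))

/-- The automizer of a universal relatively centric subgroup lies in the part in `E`. -/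
theorem aut_le_com {W : Subgroup Ω} (hc : TCN T N W) (hgood : GoodAbove L p (Nat.card W))
    (huniv : ∀ Q, (L).IsConj W Q → To L Q W) (habove : AutAbove F E N p (Nat.card W)) :
    (L).autGroup W ≤ h.comG hc := by
  have hW := hc.1
  have hTS : RR ≤ normalizerIn S X := inf_le_right
  haveI : Finite ↥(normalizerIn S X) := finite_of_le inf_le_left
  haveI := finite_of_le hTS
  have hTp : IsPGroup p ↥RR := h.Np.to_le hTS
  obtain ⟨P, ψ, hP, hPT, hψT, hψP, hsub⟩ := h.exists_point hW huniv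
  have hψ0 := hψT.restrict_to (le_normalizerIn hW)
  have hcP : TCN T N P := h.tc_conj hc (FusionSysBasic.isConj_iff.2 ⟨ψ, hψ0, hψP⟩)
  have hback : ∀ m : MulAut W, InCom F E N p P (hψ0.transport hψP m) → InCom F E N p W m := by
    intro m hm
    obtain ⟨i, hi, hiψ, -, -⟩ := hψ0.exists_inv
    rw [hψP] at hi
    have himi : im P i = W := by
      rw [← hψP, hψ0.im_comp]
      exact (im_congr fun x hx => hiψ x hx).trans (im_id W)
    have := h.inCom_transport hi himi hm
    rwa [transport_inv hψ0 hψP hi himi hiψ] at this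
  refine aut_le hTp h.generated_loc hW huniv (h.comG hc) (fun a ha => h.autR_inCom hc ha) ?_
    fun Q γ k hk hkW hγ hγQ hΓ m hm => ?_
  · refine ext_induction hTp hW hgood huniv (h.comG hc) fun R hR hlt _ b hb hbT m hm => ?_
    have hRR : R ≤ RR := hR.leN.trans inf_le_left
    obtain ⟨r, hr⟩ := exists_res (F := L) hRR hR.le
    haveI := finite_stab L hR.le
    obtain ⟨P0, hP0⟩ := hR.sylow hR.le
    have htop : (⊤ : Subgroup (FusionTops.stab L R W hR.le)) ≤
        ((h.comG hc).subgroupOf ((L).autGroup W)).comap r := by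
      rw [← TransferPResidual.sylow_sup_pResidual P0]
      refine sup_le (fun k hk => ?_) (TransferPResidual.pResidual_le_iff_coprime.2 fun k hk => ?_)
      · rw [hP0, Subgroup.mem_subgroupOf] at hk
        obtain ⟨g, hg, -, he⟩ := mem_autInducedBy.1 hk
        refine h.autR_inCom hc (mem_autInducedBy.2 ⟨g, hg.2.1, hg.2.2, fun x hx => ?_⟩)
        show afun (r k : MulAut W) x = _
        rw [hr k x hx, he x (hR.le hx)]
      · have hkR := habove R hlt (tc_upward hc hR.le hRR) _ k.2.1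
        have hψR := hψT.restrict_to hR.leN
        refine hback _ (h.com_down hP hcP (U := im R ψ) (hψP ▸ im_mono hR.le)
          (im_le_iff.2 fun x hx => hsub.le (apply_mem_im (hR.leN hx)))
          (h.inCom_transport hψR rfl hkR) (by
            rw [MulEquiv.orderOf_eq, Subgroup.orderOf_coe]; exact hk) fun y hy => ?_)
        obtain ⟨x, hx, rfl⟩ := hψ0.mem_im.1 (hψP.symm ▸ hy)
        rw [hψR.afun_transport rfl _ (hR.le hx), hψ0.afun_transport hψP _ hx]
        exact congrArg ψ (hr k x hx).symm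
    have e : m = (r ⟨b, hb, hbT⟩ : MulAut W) := afun_ext fun x hx => by rw [hm x hx, hr _ x hx]
    exact e ▸ htop (x := ⟨b, hb, hbT⟩) trivial
  · obtain ⟨α, hα, he⟩ := hγ.exists_aut hγQ
    have hk0 := hk.restrict_to (le_normalizerIn hγ.le)
    have e : m = hk0.transport hkW α := loop_unique hk0 hkW fun x hx => by
      rw [hm x hx, hk0.afun_transport hkW α hx, he x hx]
    subst e
    show InCom F E N p W _
    rw [transport_sub hk0 (sub_mor h.loc_sub hk0) hkW]
    exact h.inCom_transport _ _ (hΓ.2.2.2 α he).1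

/-- Universal subgroups are fully automized. -/
theorem automized {W : Subgroup Ω} (hW : W ≤ RR) (hgood : GoodAbove L p (Nat.card W))
    (huniv : ∀ Q, (L).IsConj W Q → To L Q W) (habove : AutAbove F E N p (Nat.card W)) :
    (L).IsFullyAutomized p W := by
  have hTS : RR ≤ normalizerIn S X := inf_le_right
  haveI : Finite ↥(normalizerIn S X) := finite_of_le inf_le_left
  haveI := finite_of_le hTS
  have hTp : IsPGroup p ↥RR := h.Np.to_le hTS
  by_cases hc : TCN T N W
  swap
  · obtain ⟨O, x, hx, hOA, hOn, hOp, hxW, hxO⟩ := h.exists_moving hW huniv hc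
    exact automized_of_normal hTp h.generated_loc hW hgood huniv (fun Q γ hQ => h.no_gam hc Q γ hQ)
      hOA hOn hOp hx hxW hxO
  obtain ⟨P, ψ, hP, hPT, hψT, hψP, hsub⟩ := h.exists_point hW huniv
  have hψ0 := hψT.restrict_to (le_normalizerIn hW)
  have hcP : TCN T N P := h.tc_conj hc (FusionSysBasic.isConj_iff.2 ⟨ψ, hψ0, hψP⟩)
  have hAutL := h.aut_le_com hc hgood huniv habove
  haveI := finite_autGroup (F := L) W
  have hle : autInducedBy RR W ≤ (L).autGroup W := autInducedBy_le hW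
  refine ⟨hW, (sylIn_iff_card hle).2 (le_antisymm
    (sylIn_le_pow (isPGroup_autInducedBy hTp W) hle) ?_)⟩
  obtain ⟨V⟩ : Nonempty (Sylow p ((L).autGroup W)) := inferInstance
  set V' := (V : Subgroup ((L).autGroup W)).map ((L).autGroup W).subtype
  have hcV : Nat.card V' = p ^ (Nat.card ((L).autGroup W)).factorization p :=
    (Nat.card_congr ((V : Subgroup ((L).autGroup W)).equivMapOfInjective _
      ((L).autGroup W).subtype_injective).toEquiv).symm.trans V.card_eq_multiplicity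
  set t := hψ0.transport hψP
  have hVt : V'.map t.toMonoidHom ≤ h.comG hcP := by
    rintro _ ⟨a, ha, rfl⟩
    exact h.inCom_transport hψ0 hψP (hAutL (Subgroup.map_subtype_le _ ha))
  have hTt : autInducedBy RR P ≤ (autInducedBy RR W).map t.toMonoidHom := by
    intro b hb
    obtain ⟨u, hu, hun, he⟩ := mem_autInducedBy.1 hb
    obtain ⟨v, hv, rfl⟩ := hψT.mem_im.1 (hsub.ge ⟨hu, hun⟩)
    refine ⟨nHom RR W ⟨v, hv.1, hv.2⟩, mem_autInducedBy.2 ⟨v, hv.1, hv.2, fun x hx =>
      afun_nHom _ hx⟩, afun_ext fun y hy => ?_⟩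
    obtain ⟨x, hx, rfl⟩ := hψ0.mem_im.1 (hψP.symm ▸ hy)
    rw [he _ hy]
    show afun (hψ0.transport hψP _) (ψ x) = _
    rw [hψ0.afun_transport hψP _ hx, afun_nHom _ hx]
    exact hψT.map_cj hv (le_normalizerIn hW hx)
  haveI := finite_autGroup (F := N) P
  have hAN : h.comG hcP ≤ N.autGroup P := fun x hx => h.inCom_mem hx
  haveI : Finite (h.comG hcP) := Finite.of_injective _ (Subgroup.inclusion_injective hAN)
  have hsyl := FusionCentralLift.sylIn_inf (fullyAutomized_of_fullyNormalized h.Np h.satN hP).2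
    (isPGroup_autInducedBy h.Np P) hAN fun a ha m hm => h.com_conj ha hP.1 hm
  rw [← hcV, Nat.card_congr (V'.equivMapOfInjective t.toMonoidHom t.injective).toEquiv,
    Nat.card_congr ((autInducedBy RR W).equivMapOfInjective t.toMonoidHom t.injective).toEquiv]
  refine le_trans (sylIn_le_pow ((V.2.map _).map _) hVt) ?_
  rw [← (sylIn_iff_card inf_le_right).1 hsyl]
  haveI : Finite ↥((autInducedBy RR W).map t.toMonoidHom) := by
    haveI : Finite (autInducedBy RR W) := Finite.of_injective _ (Subgroup.inclusion_injective hle)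
    exact Finite.of_equiv _ ((autInducedBy RR W).equivMapOfInjective t.toMonoidHom t.injective).toEquiv
  exact Subgroup.card_le_of_le fun a ha => hTt (h.com_sylow hP hcP ha.1 ha.2)

/-- An automorphism in the part in `E` of order prime to `p` normalizing a group of automorphisms
induced by `R` extends, in `locSys`, to the preimage of that group. -/
theorem extends_coprime {W : Subgroup Ω} (hW : W ≤ RR) (huniv : ∀ Q, (L).IsConj W Q → To L Q W)
    (hc : TCN T N W) {Q : Subgroup (MulAut W)} (hQ : Q ≤ autInducedBy RR W) {g : MulAut W}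
    (hg : InCom F E N p W g) (hco : (orderOf g).Coprime p)
    (hgQ : ∀ a ∈ Q, g * a * g⁻¹ ∈ Q) :
    ∃ e, Mor L (W ⊔ nK RR W Q) e ∧ ∀ x ∈ W, e x = afun g x := by
  have hTS : RR ≤ normalizerIn S X := inf_le_right
  haveI : Finite ↥(normalizerIn S X) := finite_of_le inf_le_left
  haveI := finite_of_le hTS
  obtain ⟨P, ψ, hP, hPT, hψT, hψP, hsub⟩ := h.exists_point hW huniv
  have hψ0 := hψT.restrict_to (le_normalizerIn hW)
  set u := hψ0.transport hψP g
  set Q' := Q.map (hψ0.transport hψP).toMonoidHom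
  have huQ' : ∀ a ∈ Q', u * a * u⁻¹ ∈ Q' := by
    rintro _ ⟨a, ha, rfl⟩
    exact ⟨g * a * g⁻¹, hgQ a ha, by simp [u]⟩
  obtain ⟨ψi, hψi, hψiψ, hψψi, hψiN⟩ := hψT.exists_inv
  rw [hsub] at hψi hψψi hψiN
  have hTC' : TCN T N P := h.tc_conj hc (FusionSysBasic.isConj_iff.2 ⟨ψ, hψ0, hψP⟩)
  -- the preimages correspond
  set N1 := W ⊔ nK RR W Q with hN1
  set N' := P ⊔ nK RR P Q' with hN'
  have hnKT : nK RR P Q' ≤ normalizerIn RR P := le_inf nK_le fun n hn =>
    (nK_normalizes (S := RR) hPT hn)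
  have hnKW : nK RR W Q ≤ normalizerIn RR W := le_inf nK_le fun n hn =>
    (nK_normalizes (S := RR) hW hn)
  have hN'T : N' ≤ normalizerIn RR P := sup_le (le_normalizerIn hPT) hnKT
  have hQ' : Q' ≤ autInducedBy RR P := by
    rintro _ ⟨l, hl, rfl⟩
    obtain ⟨t, ht, htn, hte⟩ := mem_autInducedBy.1 (hQ hl)
    have htN : t ∈ normalizerIn RR W := ⟨ht, htn⟩
    refine mem_autInducedBy.2 ⟨ψ t, (hsub.le (apply_mem_im htN)).1,
      (hsub.le (apply_mem_im htN)).2, fun y hy => ?_⟩
    obtain ⟨x, hx, rfl⟩ := hψ0.mem_im.1 (hψP.symm ▸ hy)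
    rw [MulEquiv.coe_toMonoidHom, hψ0.afun_transport hψP l hx, hte x hx]
    exact hψT.map_cj htN (le_normalizerIn hW hx)
  have hfw : ∀ x ∈ N1, ψ x ∈ N' := fun x hx =>
    mor_sup_induction (hψT.restrict_to (sup_le (le_normalizerIn hW) hnKW))
      (fun y hy => Subgroup.mem_sup_left (hψP ▸ apply_mem_im hy))
      (fun n hn => by
        obtain ⟨-, l, hl, hle⟩ := id hn
        refine Subgroup.mem_sup_right ⟨(hsub.le (apply_mem_im (hnKW hn))).1, _, ⟨l, hl, rfl⟩,
          fun y hy => ?_⟩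
        obtain ⟨x, hx, rfl⟩ := hψ0.mem_im.1 (hψP.symm ▸ hy)
        rw [MulEquiv.coe_toMonoidHom, hψ0.afun_transport hψP l hx, hle x hx]
        exact hψT.map_cj (hnKW hn) (le_normalizerIn hW hx)) hx
  have hψiP : ∀ y ∈ P, ψi y ∈ W := fun y hy => by
    obtain ⟨x, hx, rfl⟩ := hψ0.mem_im.1 (hψP.symm ▸ hy)
    rw [hψiψ x (le_normalizerIn hW hx)]; exact hx
  have hψiN' := hψi.restrict_to hN'T
  have himN : im N' ψi = N1 := by
    refine le_antisymm (im_le_iff.2 fun y hy => mor_sup_induction hψiN'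
      (fun y hy => Subgroup.mem_sup_left (hψiP y hy)) (fun n hn => ?_) hy) fun x hx => ?_
    · obtain ⟨-, _, ⟨l, hl, rfl⟩, hle⟩ := id hn
      have hin := hψiN n (hnKT hn)
      refine Subgroup.mem_sup_right ⟨hin.1, l, hl, fun x hx => ?_⟩
      have hxP : ψ x ∈ P := hψP ▸ apply_mem_im hx
      have h1 := hle _ hxP
      rw [MulEquiv.coe_toMonoidHom, hψ0.afun_transport hψP l hx] at h1
      have h2 := congrArg ψi h1
      rw [hψiψ _ (le_normalizerIn hW (afun_mem l hx)), hψi.map_cj (hnKT hn) (le_normalizerIn hPT hxP),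
        hψiψ x (le_normalizerIn hW hx)] at h2
      exact h2
    · rw [← hψiψ x (sup_le (le_normalizerIn hW) hnKW hx)]
      exact apply_mem_im (hfw x hx)
  obtain ⟨c, hcC, hcco, hce⟩ := h.com_up hP hTC' (h.inCom_transport hψ0 hψP hg)
    (by rwa [MulEquiv.orderOf_eq]) hQ' huQ'
  have hTCN : TCN T N N1 := tc_upward hc le_sup_left (sup_le hW nK_le)
  have hres := h.gam_aut hTCN (h.inCom_transport hψiN' himN hcC) (by rwa [MulEquiv.orderOf_eq])
  refine ⟨_, (mem_autGroup hTCN.1).1 hres, fun x hx => ?_⟩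
  have hxP : ψ x ∈ P := hψP ▸ apply_mem_im hx
  conv_lhs => rw [← hψiψ x (le_normalizerIn hW hx)]
  rw [hψiN'.afun_transport himN c (Subgroup.mem_sup_left hxP), hce _ hxP,
    hψ0.afun_transport hψP g hx, hψiψ _ (le_normalizerIn hW (afun_mem g hx))]

/-- Automorphisms of a fully automized universal subgroup extend. -/
theorem extends_aut {W : Subgroup Ω} (hW : W ≤ RR) (hgood : GoodAbove L p (Nat.card W))
    (habove : AutAbove F E N p (Nat.card W))
    (huniv : ∀ Q, (L).IsConj W Q → To L Q W) (ha : (L).IsFullyAutomized p W) {β : MulAut W}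
    (hβ : β ∈ (L).autGroup W) {M : Subgroup Ω} (hM : M ≤ normalizerIn RR W)
    (hc : ∀ g ∈ M, ∃ k ∈ RR, ∀ x ∈ W, afun β (cj g x) = cj k (afun β x)) :
    ∃ e, Mor L (W ⊔ M) e ∧ ∀ x ∈ W, e x = afun β x := by
  classical
  have hTS : RR ≤ normalizerIn S X := inf_le_right
  haveI : Finite ↥(normalizerIn S X) := finite_of_le inf_le_left
  haveI := finite_of_le hTS
  have hWS := hW.trans hTS
  have hTp : IsPGroup p ↥RR := h.Np.to_le hTS
  have hkN : ∀ g ∈ M, ∀ k ∈ RR, (∀ x ∈ W, afun β (cj g x) = cj k (afun β x)) →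
      k ∈ normalizerIn RR W := fun g hg k hk he => ⟨hk, mem_normalizer_of_cj_le hWS fun y hy => by
    have hy' := afun_mem β⁻¹ hy
    rw [← afun_apply_inv β hy, ← he _ hy']
    exact afun_mem β (cj_mem_of_normalizer (hM hg).2 hy')⟩
  set AW := (L).autGroup W with hX
  haveI := finite_autGroup (F := L) W
  set QM := autInducedBy M W with hQM
  have hQMT : QM ≤ autInducedBy RR W := autInducedBy_mono (hM.trans inf_le_left) W
  have hQMX : QM ≤ AW := hQMT.trans (autInducedBy_le hW)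
  have hβQ : ∀ a ∈ QM, β * a * β⁻¹ ∈ autInducedBy RR W := by
    intro a ha'
    obtain ⟨g, hg, -, hge⟩ := mem_autInducedBy.1 ha'
    obtain ⟨k, hk, hke⟩ := hc g hg
    refine mem_autInducedBy.2 ⟨k, hk, (hkN g hg k hk hke).2, fun y hy => ?_⟩
    have hy' := afun_mem β⁻¹ hy
    rw [afun_mul _ _ hy, afun_mul _ _ hy', hge _ hy', hke _ hy', afun_apply_inv β hy]
  by_cases hTC : TCN T N W
  · -- fusion in the automizer
    obtain ⟨P0, hP0⟩ := ha.2
    have hPT : ∀ {V : Subgroup AW}, V ≤ (P0 : Subgroup AW) →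
        ∀ a ∈ V.map AW.subtype, a ∈ autInducedBy RR W := by
      rintro V hV _ ⟨a, ha', rfl⟩
      have := hV ha'
      rw [hP0, Subgroup.mem_subgroupOf] at this
      exact this
    let Mm : Subgroup AW → Subgroup Ω := fun V => W ⊔ nK RR W (V.map AW.subtype)
    have hMmN : ∀ V : Subgroup AW, Mm V ≤ normalizerIn RR W := fun V =>
      sup_le (le_normalizerIn hW) (le_inf nK_le fun n hn => nK_normalizes (S := RR) hW hn)
    have hvals : ∀ {V : Subgroup AW} {g : AW} {e : Ω → Ω}, Mor L (Mm V) e →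
        (∀ x ∈ W, e x = afun (g : MulAut W) x) →
        ∀ y ∈ Mm V, e y ∈ Mm (TransferAlperin.cj g V) := by
      intro V g e he hee y hy
      refine mor_sup_induction he
        (fun x hx => Subgroup.mem_sup_left (hee x hx ▸ afun_mem _ hx)) (fun n hn => ?_) hy
      obtain ⟨-, _, ⟨l, hl, rfl⟩, hle⟩ := id hn
      refine Subgroup.mem_sup_right ⟨he.apply_mem (Subgroup.mem_sup_right hn),
        ((g * l * g⁻¹ : AW) : MulAut W), ⟨_, TransferAlperin.conj_mem_cj hl, rfl⟩, fun z hz => ?_⟩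
      have hz' := afun_mem (g : MulAut W)⁻¹ hz
      conv_rhs => rw [← afun_apply_inv (g : MulAut W) hz, ← hee _ hz',
        ← he.map_cj (Subgroup.mem_sup_right hn) (Subgroup.mem_sup_left hz'), ← hle _ hz',
        hee _ (afun_mem _ hz')]
      simp only [Subgroup.coe_mul, Subgroup.coe_inv, Subgroup.coe_subtype]
      rw [afun_mul _ _ hz, afun_mul _ _ hz']
    have key := FusionMeetGroup.closed_induction P0
      (fun V g => ∃ e, Mor L (Mm V) e ∧ ∀ x ∈ W, e x = afun (g : MulAut W) x) ?_ ?_ ?_ ?_ ?_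
    · have h1 : TransferAlperin.cj (⟨β, hβ⟩ : AW) (QM.subgroupOf AW) ≤ (P0 : Subgroup AW) := by
        rintro _ ⟨a, ha', rfl⟩
        rw [hP0, Subgroup.mem_subgroupOf]
        exact hβQ _ ha'
      obtain ⟨e, he, hee⟩ := key (QM.subgroupOf AW) ⟨β, hβ⟩ (fun a ha' => by
        rw [hP0, Subgroup.mem_subgroupOf]; exact hQMT ha') h1
      refine ⟨e, he.restrict_to (sup_le_sup_left (fun g hg => ?_) W), hee⟩
      refine ⟨(hM hg).1, nHom M W ⟨g, hg, (hM hg).2⟩, ?_, fun x hx => afun_nHom _ hx⟩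
      rw [Subgroup.subgroupOf_map_subtype]
      have hmem : nHom M W ⟨g, hg, (hM hg).2⟩ ∈ QM :=
        mem_autInducedBy.2 ⟨g, hg, (hM hg).2, fun x hx => afun_nHom _ hx⟩
      exact ⟨hmem, hQMX hmem⟩
    · intro V g k _ _ _ ⟨e, he, hee⟩ ⟨e', he', hee'⟩
      refine ⟨e' ∘ e, he.comp he' (hvals he hee), fun x hx => ?_⟩
      rw [Function.comp_apply, hee x hx, hee' _ (afun_mem _ hx), Subgroup.coe_mul,
        afun_mul _ _ hx]
    · intro V g hV _ ⟨e, he, hee⟩
      obtain ⟨i, hi, hie, -, -⟩ := he.exists_inv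
      refine ⟨i, hi.restrict_to ?_, fun x hx => ?_⟩
      · have hWle : W ≤ im (Mm V) e := fun x hx => by
          rw [← afun_apply_inv (g : MulAut W) hx, ← hee _ (afun_mem _ hx)]
          exact apply_mem_im (Subgroup.mem_sup_left (afun_mem _ hx))
        refine sup_le hWle fun n hn => ?_
        obtain ⟨hnT, _, ⟨_, ⟨l, hl, rfl⟩, rfl⟩, hle⟩ := id hn
        obtain ⟨t, ht, htn, hte⟩ := mem_autInducedBy.1 (hPT hV (l : MulAut W) ⟨l, hl, rfl⟩)
        have htM : t ∈ Mm V := Subgroup.mem_sup_right ⟨ht, (l : MulAut W), ⟨l, hl, rfl⟩, hte⟩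
        have hd : (e t)⁻¹ * n ∈ W := hTC.2.2 W (FusionSysBasic.isConj_refl hWS)
          (mem_centralizerIn.2 ⟨Subgroup.mul_mem _ (Subgroup.inv_mem _ (he.apply_mem htM)) hnT,
            fun z hz => by
              rw [← cj_cj, ← hle z hz]
              have hz' := afun_mem (g : MulAut W)⁻¹ hz
              simp only [MulEquiv.coe_toMonoidHom, MulAut.conj_apply, Subgroup.coe_subtype,
                Subgroup.coe_mul, Subgroup.coe_inv]
              rw [afun_mul _ _ hz, afun_mul _ _ hz', hte _ hz',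
                ← hee _ (cj_mem_of_normalizer htn hz'),
                he.map_cj htM (Subgroup.mem_sup_left hz'), hee _ hz',
                afun_apply_inv (g : MulAut W) hz, cj_inv_cj]⟩)
        have := mul_mem (apply_mem_im htM) (hWle hd)
        rwa [mul_inv_cancel_left] at this
      · have hx' := afun_mem (g : MulAut W)⁻¹ hx
        conv_lhs => rw [← afun_apply_inv (g : MulAut W) hx, ← hee _ hx']
        rw [hie _ (Subgroup.mem_sup_left hx'), Subgroup.coe_inv]
    · intro V V' g hVV _ _ ⟨e, he, hee⟩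
      refine ⟨e, he.restrict_to (sup_le_sup_left ?_ W), hee⟩
      rintro n ⟨hn, l, hl, hle⟩
      exact ⟨hn, l, Subgroup.map_mono hVV hl, hle⟩
    · intro V _ g hg _
      rw [hP0, Subgroup.mem_subgroupOf] at hg
      obtain ⟨t, ht, -, hte⟩ := mem_autInducedBy.1 hg
      exact ⟨cj t, mor_cj ((hMmN V).trans inf_le_left) ht, fun x hx => (hte x hx).symm⟩
    · intro V hV g hgn hco
      refine h.extends_coprime hW huniv hTC (fun a ha' => hPT hV a ha')
        (h.aut_le_com hTC hgood huniv habove g.2) (by rwa [Subgroup.orderOf_coe]) ?_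
      rintro _ ⟨a, ha', rfl⟩
      exact ⟨g * a * g⁻¹, (Subgroup.mem_normalizer_iff.1 hgn a).1 ha', rfl⟩
  -- `W` is moved by a normal `p`-subgroup
  obtain ⟨O, x0, hx0, hOA, hOn, hOp, hx0W, hx0O⟩ := h.exists_moving hW huniv hTC
  obtain ⟨Y, hloc, -, hYC, hext, hYmap⟩ := local_of_normal hTp h.generated_loc hW hgood huniv
    (fun Q γ hQ => h.no_gam hTC Q γ hQ) hOA hOn hOp hx0 hx0W hx0O
  have hYT : Y ≤ RR := hloc.leN.trans inf_le_left
  obtain ⟨b, hb, hbe⟩ := hext β hβ
  haveI := finite_autGroup (F := L) Y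
  set St := FusionTops.stab L Y W hloc.le
  have hnY : ∀ s ∈ normalizerIn RR W, s ∈ normalizerIn RR Y := fun s hs =>
    ⟨hs.1, mem_normalizer_of_cj_le (hYT.trans hTS) fun y hy =>
      hYmap Y _ (mor_cj (F := L) hYT hs.1) le_rfl (mem_normalizer_iff_im_cj.1 hs.2) y hy⟩
  have hbSt : b ∈ St := ⟨hb, (im_congr hbe).trans (im_afun β)⟩
  let E : Subgroup (MulAut Y) :=
    { carrier := {a | a ∈ St ∧ ∀ x ∈ W, afun a x = x}
      one_mem' := ⟨one_mem _, fun x hx => afun_one (hloc.le hx)⟩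
      mul_mem' := fun ⟨ha, ha'⟩ ⟨hb, hb'⟩ => ⟨mul_mem ha hb, fun x hx => by
        rw [afun_mul _ _ (hloc.le hx), hb' x hx, ha' x hx]⟩
      inv_mem' := fun {a} ⟨ha, ha'⟩ => ⟨inv_mem ha, fun x hx => by
        conv_lhs => rw [← ha' x hx]
        exact afun_inv_apply a (hloc.le hx)⟩ }
  have hEn : ∀ g ∈ St, ∀ a ∈ E, g * a * g⁻¹ ∈ E := fun g hg a ha' =>
    ⟨mul_mem (mul_mem hg ha'.1) (inv_mem hg), fun x hx => by
      have hgx : afun g⁻¹ x ∈ W := (inv_mem hg : g⁻¹ ∈ St).2.le (apply_mem_im hx)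
      rw [afun_mul _ _ (hloc.le hx), afun_mul _ _ (hloc.le hgx), ha'.2 _ hgx,
        afun_apply_inv g (hloc.le hx)]⟩
  set K : Subgroup Ω := nK RR W (QM.map (MulAut.conj β).toMonoidHom) with hK
  have hKN : K ≤ normalizerIn RR W := le_inf nK_le fun n hn => nK_normalizes (S := RR) hW hn
  set AK := autInducedBy K Y
  have hAKSt : AK ≤ St := by
    exact (autInducedBy_mono hKN Y).trans (autInducedBy_le_stab hYT hloc.le le_rfl)
  have hRE : (autInducedBy (normalizerIn RR Y ⊓ normalizerIn RR W) Y) ⊓ E ≤ AK := by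
    rintro a ⟨ha', haE⟩
    obtain ⟨s, hs, hsn, hse⟩ := mem_autInducedBy.1 ha'
    refine mem_autInducedBy.2 ⟨s, ⟨hs.2.1, 1, one_mem _, fun x hx => ?_⟩, hsn, hse⟩
    rw [afun_one hx, ← hse x (hloc.le hx), haE.2 x hx]
  haveI : Finite St :=
    Finite.of_injective _ (Subgroup.inclusion_injective (fun a ha => ha.1 : St ≤ (L).autGroup Y))
  haveI : Finite ↥(AK ⊔ E : Subgroup (MulAut Y)) :=
    Finite.of_injective _ (Subgroup.inclusion_injective (sup_le hAKSt fun a ha => ha.1 : AK ⊔ E ≤ St))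
  have hAKp : IsPGroup p AK :=
    (isPGroup_autInducedBy hTp Y).to_le (autInducedBy_mono nK_le Y)
  obtain ⟨hsyl, hdec⟩ := FusionMeet.sylIn_sup hAKp (fun a ha' j hj => hEn a (hAKSt ha') j hj)
    (FusionCentralLift.sylIn_inf (hloc.sylow hloc.le)
      ((isPGroup_autInducedBy hTp Y).to_le (autInducedBy_mono (inf_le_left.trans inf_le_left) Y))
      (fun a ha' => ha'.1) hEn) inf_le_right hRE
  have hMY : M ≤ normalizerIn RR Y ⊓ normalizerIn RR W := le_inf (fun s hs => hnY s (hM hs)) hM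
  have hconj : (autInducedBy M Y).map (MulAut.conj b).toMonoidHom ≤ AK ⊔ E := by
    rintro _ ⟨a, ha', rfl⟩
    obtain ⟨s, hs, hsn, hse⟩ := mem_autInducedBy.1 ha'
    obtain ⟨k, hk, hke⟩ := hc s hs
    have hkW := hkN s hs k hk hke
    have hkK : k ∈ K := by
      refine ⟨hk, _, ⟨nHom M W ⟨s, hs, (hM hs).2⟩,
        mem_autInducedBy.2 ⟨s, hs, (hM hs).2, fun x hx => afun_nHom _ hx⟩, rfl⟩, fun y hy => ?_⟩
      have hy' := afun_mem β⁻¹ hy
      simp only [MulEquiv.coe_toMonoidHom, MulAut.conj_apply]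
      rw [afun_mul _ _ hy, afun_mul _ _ hy', afun_nHom _ hy', hke _ hy', afun_apply_inv β hy]
    set ak : MulAut Y := nHom RR Y ⟨k, hk, (hnY k hkW).2⟩
    have hakK : ak ∈ AK :=
      mem_autInducedBy.2 ⟨k, hkK, (hnY k hkW).2, fun y hy => afun_nHom _ hy⟩
    have hSt : b * a * b⁻¹ ∈ St := mul_mem (mul_mem hbSt
      (autInducedBy_le_stab hYT hloc.le inf_le_right (autInducedBy_mono hMY Y ha')))
      (inv_mem hbSt)
    have hE : (b * a * b⁻¹) * ak⁻¹ ∈ E := by
      refine ⟨mul_mem hSt (inv_mem (hAKSt hakK)), fun x hx => ?_⟩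
      have h1 : afun ak⁻¹ x = cj k⁻¹ x := by
        have hx' : cj k⁻¹ x ∈ W := cj_mem_of_normalizer (Subgroup.inv_mem _ hkW.2) hx
        conv_lhs => rw [← cj_cj_inv k x, ← afun_nHom (⟨k, hk, (hnY k hkW).2⟩ :
          ↥(RR ⊓ Subgroup.normalizer (Y : Set Ω))) (hloc.le hx')]
        exact afun_inv_apply ak (hloc.le hx')
      have hx' : cj k⁻¹ x ∈ W := cj_mem_of_normalizer (Subgroup.inv_mem _ hkW.2) hx
      have hy' : afun β⁻¹ (cj k⁻¹ x) ∈ W := afun_mem _ hx'
      have h2 : afun b⁻¹ (cj k⁻¹ x) = afun β⁻¹ (cj k⁻¹ x) := by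
        conv_lhs => rw [← afun_apply_inv β hx', ← hbe _ hy']
        exact afun_inv_apply b (hloc.le hy')
      rw [afun_mul _ _ (hloc.le hx), h1, afun_mul _ _ (hloc.le hx'), h2,
        afun_mul _ _ (hloc.le hy'), hse _ (hloc.le hy'),
        hbe _ (cj_mem_of_normalizer (hM hs).2 hy'), hke _ hy', afun_apply_inv β hx', cj_cj_inv]
    have e : (MulAut.conj b).toMonoidHom a = (b * a * b⁻¹ * ak⁻¹) * ak := by simp
    rw [e]
    exact mul_mem (Subgroup.mem_sup_right hE) (Subgroup.mem_sup_left hakK)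
  obtain ⟨w, hw, hwK⟩ := sylIn_absorb hsyl
    (((isPGroup_autInducedBy hTp Y).to_le (autInducedBy_mono (hM.trans inf_le_left) Y)).map _) hconj
  obtain ⟨a0, ha0, j, hj, rfl⟩ := hdec w hw
  obtain ⟨e, he, hee⟩ := hloc.ext (j * b) (mul_mem hj.1.1 hb)
    ((im_congr fun x hx => by
      rw [afun_mul _ _ (hloc.le hx), hbe x hx, hj.2 _ (afun_mem β hx)]).trans (im_afun β))
    M hMY fun s hs => by
      have has : nHom M Y ⟨s, hs, (hMY hs).1.2⟩ ∈ autInducedBy M Y :=
        mem_autInducedBy.2 ⟨s, hs, (hMY hs).1.2, fun y hy => afun_nHom _ hy⟩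
      have h1 := AK.mul_mem (AK.mul_mem (AK.inv_mem ha0) (hwK _ ⟨_, has, rfl⟩)) ha0
      obtain ⟨v, hv, -, hve⟩ := mem_autInducedBy.1 h1
      refine ⟨v, nK_le hv, fun y hy => ?_⟩
      have hy1 := afun_mem (j * b) hy
      rw [← hve _ hy1, show a0⁻¹ * (a0 * j * (MulAut.conj b).toMonoidHom
        (nHom M Y ⟨s, hs, (hMY hs).1.2⟩) * (a0 * j)⁻¹) * a0 =
          (j * b) * nHom M Y ⟨s, hs, (hMY hs).1.2⟩ * (j * b)⁻¹ by
            simp only [MulEquiv.coe_toMonoidHom, MulAut.conj_apply]; group,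
        afun_mul _ _ hy1, afun_inv_apply _ hy, afun_mul _ _ hy, afun_nHom _ hy]
  refine ⟨e, he.restrict_to (sup_le_sup_right hloc.le M), fun x hx => ?_⟩
  rw [hee x (hloc.le hx), afun_mul _ _ (hloc.le hx), hbe x hx, hj.2 _ (afun_mem β hx)]

/-- A universal subgroup is fully automized and receptive. -/
theorem good_univ {W : Subgroup Ω} (hW : W ≤ RR) (hgood : GoodAbove L p (Nat.card W))
    (huniv : ∀ Q, (L).IsConj W Q → To L Q W) (habove : AutAbove F E N p (Nat.card W)) :
    Good L p W := by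
  have hTS : RR ≤ normalizerIn S X := inf_le_right
  haveI : Finite ↥(normalizerIn S X) := finite_of_le inf_le_left
  haveI := finite_of_le hTS
  have ha := h.automized hW hgood huniv habove
  refine ⟨ha, receptive_iff.2 ⟨hW, fun Q f M hf him hMS hMn hM => ?_⟩⟩
  obtain ⟨hQS, k, hk, hkW⟩ := huniv Q (isConj_symm (FusionSysBasic.isConj_iff.2 ⟨f, hf, him⟩))
  have hkQ := hk.restrict_to (le_normalizerIn hQS)
  obtain ⟨ki, hki, hkik, -, hkiQ⟩ := hkQ.exists_inv
  rw [hkW] at hki hkiQ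
  have hb : Mor L W (f ∘ ki) := hki.comp hf hkiQ
  obtain ⟨β, hβ, hβe⟩ := hb.exists_aut (hb.im_self fun w hw => him ▸ apply_mem_im (hkiQ w hw))
  have hMN : M ≤ normalizerIn RR Q := le_inf hMS hMn
  have hkM := hk.restrict_to hMN
  obtain ⟨e, he, hee⟩ := h.extends_aut hW hgood habove huniv ha hβ (M := im M k)
    (im_le_iff.2 fun s hs => mor_normalizer_mem hk hQS hkW (hMN hs)) fun s hs => by
      obtain ⟨v, hv, rfl⟩ := hkM.mem_im.1 hs
      obtain ⟨j, hj, hje⟩ := hM v hv
      refine ⟨j, hj, fun w hw => ?_⟩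
      obtain ⟨x, hx, rfl⟩ := hkQ.mem_im.1 (hkW.ge hw)
      have hvx := cj_mem_of_normalizer (hMn hv) hx
      rw [← hk.map_cj (hMN hv) (le_normalizerIn hQS hx), hβe _ (hkW ▸ apply_mem_im hvx),
        hβe _ (hkW ▸ apply_mem_im hx), Function.comp_apply, Function.comp_apply, hkik _ hvx,
        hkik x hx, hje x hx]
  refine ⟨e ∘ k, (hk.restrict_to (sup_le (le_normalizerIn hQS) hMN)).comp he fun y hy =>
    mor_sup_induction (hk.restrict_to (sup_le (le_normalizerIn hQS) hMN))
      (fun x hx => Subgroup.mem_sup_left (hkW ▸ apply_mem_im hx))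
      (fun x hx => Subgroup.mem_sup_right (apply_mem_im hx)) hy, fun x hx => ?_⟩
  have hkx : k x ∈ W := hkW ▸ apply_mem_im hx
  rw [Function.comp_apply, hee _ hkx, hβe _ hkx, Function.comp_apply, hkik x hx]

/-- `locSys` is saturated, and its automizers of relatively centric subgroups are in `E`. -/
theorem good_all (P : Subgroup Ω) (hP : P ≤ RR) :
    (∃ W, (L).IsConj P W ∧ Good L p W) ∧
      (TCN T N P → ∀ a ∈ (L).autGroup P, InCom F E N p P a) := by
  haveI : Finite ↥(normalizerIn S X) := finite_of_le inf_le_left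
  haveI : Finite ↥RR := finite_of_le inf_le_right
  have hTp : IsPGroup p ↥RR := h.Np.to_le inf_le_right
  suffices key : ∀ d, ∀ P : Subgroup Ω, P ≤ RR → Nat.card ↥RR ≤ Nat.card P + d →
      (∃ W, (L).IsConj P W ∧ Good L p W) ∧
        (TCN T N P → ∀ a ∈ (L).autGroup P, InCom F E N p P a) from
    key _ P hP (Nat.le_add_left _ _)
  intro d
  induction d using Nat.strong_induction_on with
  | _ d ih =>
  intro P hP hd
  have hgood : GoodAbove L p (Nat.card P) := fun R hR hlt => by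
    have : Nat.card R ≤ Nat.card ↥RR := Subgroup.card_le_of_le hR
    exact (ih (d - 1) (by omega) R hR (by omega)).1
  obtain ⟨W, hPW, hWn, huniv⟩ := exists_universal hTp h.generated_loc hP hgood
  have habove : AutAbove F E N p (Nat.card W) := fun U hlt hU => by
    rw [← FusionSysBasic.isConj_card hPW] at hlt
    have : Nat.card U ≤ Nat.card ↥RR := Subgroup.card_le_of_le hU.1
    exact (ih (d - 1) (by omega) U hU.1 (by omega)).2 hU
  rw [FusionSysBasic.isConj_card hPW] at hgood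
  refine ⟨⟨W, hPW, h.good_univ hWn.1 hgood huniv habove⟩, fun hc a ha => ?_⟩
  obtain ⟨e, he, heW⟩ := FusionSysBasic.isConj_iff.1 hPW
  have hcW : TCN T N W := h.tc_conj hc (sub_isConj h.loc_sub hPW)
  have hin := h.aut_le_com hcW hgood huniv habove (he.transport_mem heW ha)
  obtain ⟨i, hi, hie, -, -⟩ := he.exists_inv
  rw [heW] at hi
  have himi : im W i = P := by
    rw [← heW, he.im_comp]
    exact (im_congr fun x hx => hie x hx).trans (im_id P)
  have hiN := sub_mor h.loc_sub hi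
  have := h.inCom_transport hiN himi hin
  rwa [← transport_sub hi hiN himi, transport_inv he heW hi himi hie] at this

theorem saturated_loc : (L).IsSaturated p := by
  intro P hP
  obtain ⟨W, hW, ha, hr⟩ := (h.good_all P hP).1
  exact ⟨W, hW, ha, hr⟩

theorem weaklyNormal_loc : (L).IsWeaklyNormalIn N p := by
  refine ⟨h.saturated_loc, h.satN, FusionIso88.invariant_iff.2 ⟨h.loc_sub, h.closedR,
    fun P f hf a ha => ?_, fun P f hP hf => h.frattini hP hf⟩⟩
  refine ⟨_, h.loc_conj hf ha, fun x hx => ?_⟩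
  simp only [Function.comp_apply, afun_inv_apply a (hf.le hx)]

end NCtx

/-- `N_F(X)` has a normal subsystem over `N_T(X)` inside `E`. -/
theorem exists_normal_inside [Finite S] [Fact p.Prime] (hS : IsPGroup p S) (hF : F.IsSaturated p)
    (hE : E.IsNormalIn F p) (hX : F.IsFullyNormalized X) (hN : F.IsNormalizerSystem X N) :
    ∃ M : FusionSystem RR, M.IsNormalIn N p ∧ M.IsSubsystemOf E := by
  have h : NCtx F E N p := ⟨⟨hS, hF, hE⟩, hX, hN⟩
  haveI : Finite ↥(normalizerIn S X) := finite_of_le inf_le_left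
  haveI : Finite ↥RR := finite_of_le inf_le_right
  have hTp : IsPGroup p ↥RR := h.Np.to_le inf_le_right
  have hw := h.weaklyNormal_loc
  refine ⟨FusionPrimeIndex88.EH (L) p (FusionPrimeIndex88.A0 (L) p),
    FusionResidualNormal88.normal_EH h.Np hw
      (FusionPrimeIndex88.saturated_EH hTp h.saturated_loc le_rfl) (fun _ _ => Iff.rfl),
    fun P φ hφ => (mor_iff_hom fun x => (toFun_coe φ x).symm).1
      (h.loc_mor_E (FusionPrimeIndex88.eh_le (mor_toFun hφ)))⟩

end Cfsg.Agent.FusionLocalSub
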