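import Cfsg.Agent.Lib.FusionLayerCore
import Cfsg.Agent.Lib.FusionComponents
import Cfsg.Agent.Lib.FusionLocalSat
import Cfsg.Agent.Lib.CharPBasic
import Cfsg.Agent.Lib.FusionModelTools
import Cfsg.Agent.Lib.FusionFocal

/-!
`N = N_F(X)` and `C` a component of `N`. The group of `C` centralizes the largest normal subgroup
of `F` (`component_fix_core`), and `C` cannot centralize the group of the layer of `F`
(`false_of_T_le`).
-/

set_option autoImplicit false

namespace Cfsg.Agent.FusionEBalance

open Cfsg Cfsg.FusionSystem Cfsg.Agent.FusionSysBasic Cfsg.Agent.FusionSysSaturated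
open Cfsg.Agent.FusionSysNormal Cfsg.Agent.FusionKit88
open Cfsg.Agent.FusionGoodLift
open Cfsg.Agent.FusionCentralizerSub (Valid cs pow_restrict)

variable {Ω : Type*} [Group Ω] {S X : Subgroup Ω} [Finite S] {F : FusionSystem S}
  {N : FusionSystem (normalizerIn S X)} {p : ℕ} [Fact p.Prime]

omit [Finite S] in
/-- Thompson's `A × B` lemma for automorphisms. -/
theorem afun_eq_self {Q : Subgroup Ω} [Finite Q] (hQ : IsPGroup p Q) {A : Subgroup (MulAut Q)}
    (hA : IsPGroup p A) {d : MulAut Q} (hco : (orderOf d).Coprime p)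
    (hcomm : ∀ a ∈ A, Commute d a) (hfix : ∀ q : Q, (∀ a ∈ A, a q = q) → d q = q) :
    ∀ q : Q, d q = q := by
  let G := SemidirectProduct Q (MulAut Q) (MonoidHom.id (MulAut Q))
  haveI : Finite (MulAut Q) :=
    Finite.of_injective (fun a : MulAut Q => (a : Q → Q)) DFunLike.coe_injective
  haveI : Finite G := Finite.of_equiv _ SemidirectProduct.equivProd.symm
  let l : Q →* G := SemidirectProduct.inl
  let r : MulAut Q →* G := SemidirectProduct.inr
  have hlr : ∀ (a : MulAut Q) (q : Q), r a * l q = l (a q) * r a := fun a q => by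
    have := SemidirectProduct.inl_aut (φ := MonoidHom.id (MulAut Q)) a q
    simp only [MonoidHom.id_apply, map_inv] at this
    show r a * l q = l (a q) * r a
    rw [show l (a q) = r a * l q * (r a)⁻¹ from this, inv_mul_cancel_right]
  have hfree : ∀ (a : MulAut Q) (q : Q), Commute (r a) (l q) ↔ a q = q := fun a q => by
    constructor
    · intro h
      have h1 := h.eq
      rw [hlr] at h1
      exact SemidirectProduct.inl_injective (mul_right_cancel h1)
    · intro h
      show r a * l q = l q * r a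
      rw [hlr, h]
  have hn : l.range.Normal := by
    show (SemidirectProduct.inl : Q →* G).range.Normal
    rw [SemidirectProduct.range_inl_eq_ker_rightHom]
    infer_instance
  intro q
  refine (hfree d q).1 (CharPBasic.commute_of_centralizes_fixed (P := l.range) (Q := A.map r)
    (x := r d) ?_ (hA.map r) ?_ ?_ ?_ ?_ ?_ (l q) ⟨q, rfl⟩)
  · rw [MonoidHom.range_eq_map]
    exact (hQ.to_subgroup ⊤).map l
  · rw [Subgroup.normalizer_eq_top_iff.2 hn]
    exact le_top
  · rwa [orderOf_injective r SemidirectProduct.inr_injective]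
  · rw [Subgroup.normalizer_eq_top_iff.2 hn]
    trivial
  · rintro _ ⟨a, ha, rfl⟩
    exact (hcomm a ha).map r
  · rintro _ ⟨q, rfl⟩ h
    exact (hfree d q).2 (hfix q fun a ha => (hfree a q).1 (h _ ⟨a, ha, rfl⟩))

variable (hS : IsPGroup p S) (hF : F.IsSaturated p) (hX : F.IsFullyNormalized X)
  (hN : F.IsNormalizerSystem X N)

include hX hN in
omit [Fact p.Prime] in
/-- A normal subgroup of `F` meets `N_S(X)` in a normal subgroup of `N`. -/
theorem inf_normal {Q : Subgroup Ω} (hQ : F.IsNormal Q) :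
    N.IsNormal (Q ⊓ normalizerIn S X) := by
  haveI : Finite ↥(normalizerIn S X) := finite_of_le inf_le_left
  refine isNormal_iff.2 ⟨inf_le_right, fun P f hf => ?_⟩
  obtain ⟨-, hPN, hfN, f', hf', he', hX'⟩ := (mor_normalizerSystem_iff hN).1 hf
  obtain ⟨ψ, hψ, hψe, hψQ⟩ := (isNormal_iff.1 hQ).2 _ f' hf'
  have hψX : im X ψ = X := (im_congr fun x hx => hψe x (Subgroup.mem_sup_right hx)).trans hX'
  have hin : ∀ x ∈ Q ⊓ normalizerIn S X, ψ x ∈ Q ⊓ normalizerIn S X := fun x hx => by
    refine ⟨hψQ.le (apply_mem_im hx.1), hψ.apply_mem (Subgroup.mem_sup_right hx.1), ?_⟩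
    have hm : Mor F (X ⊔ Subgroup.zpowers x) ψ := hψ.restrict_to (sup_le
      (le_sup_right.trans le_sup_left) ((Subgroup.zpowers_le.2 hx.1).trans le_sup_right))
    refine mem_normalizer_of_cj_le hX.1 fun y hy => ?_
    obtain ⟨z, hz, rfl⟩ := (hm.restrict_to le_sup_left).mem_im.1 (hψX.ge hy)
    rw [← hm.map_cj (Subgroup.mem_sup_right (Subgroup.mem_zpowers x)) (Subgroup.mem_sup_left hz)]
    exact hψX.le (apply_mem_im (cj_mem_of_normalizer hx.2.2 hz))
  have hle : P ⊔ (Q ⊓ normalizerIn S X) ⊔ X ≤ P ⊔ X ⊔ Q :=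
    sup_le (sup_le (le_sup_left.trans le_sup_left) (inf_le_left.trans le_sup_right))
      (le_sup_right.trans le_sup_left)
  have hψ' := hψ.restrict_to (le_sup_left.trans hle)
  have hm : Mor N (P ⊔ (Q ⊓ normalizerIn S X)) ψ := (mor_normalizerSystem_iff hN).2
    ⟨hψ', sup_le hPN inf_le_right, fun x hx => mor_sup_induction hψ'
      (fun y hy => by
        rw [hψe y (Subgroup.mem_sup_left hy), he' y hy]
        exact hfN y hy)
      (fun y hy => (hin y hy).2) hx,
      ψ, hψ.restrict_to hle, fun _ _ => rfl, hψX⟩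
  exact ⟨ψ, hm, fun x hx => by rw [hψe x (Subgroup.mem_sup_left hx), he' x hx],
    (hm.restrict_to le_sup_right).im_self hin⟩

include hS hF hX hN in
/-- The group of a component of `N_F(X)` centralizes the largest normal subgroup of `F`. -/
theorem component_fix_core {TC : Subgroup Ω} {C : FusionSystem TC} (hC : C.IsComponentIn N p) :
    TC ≤ centralizerIn S F.core := by
  have hWS : normalizerIn S X ≤ S := inf_le_left
  haveI := finite_of_le hWS
  have hNs := FusionSysNormalizer.normalizerSystem_saturated hS hF hX hN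
  set Q := F.core with hQdef
  have hQn : F.IsNormal Q := core_isNormal
  have hQS := hQn.1
  haveI := finite_of_le hQS
  have hQc : ∀ t ∈ S, ∀ q ∈ Q, cj t q ∈ Q := fun t ht q hq =>
    cj_mem_of_normalizer (le_normalizer_of_normal hQn ht) hq
  set Z := N.core with hZdef
  obtain ⟨hTZ, hCZ⟩ := FusionLayerCore.component_centralizes_core hC.1 inferInstance inferInstance
    (hS.to_le hWS) hNs hC.2
  have hXZ : X ≤ Z := le_core (FusionModelTools.normal_normalizerSystem hX.1 hN)
  have hQZ : Q ⊓ normalizerIn S X ≤ Z := le_core (inf_normal hX hN hQn)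
  have hTS : TC ≤ S := hTZ.trans (inf_le_left.trans hWS)
  conv_lhs => rw [← hC.2.2.1]
  refine (Subgroup.closure_le _).2 ?_
  rintro _ ⟨P, α, x, hP, hα, rfl⟩
  let A : Subgroup (C.autGroup P) :=
    { carrier := {a | ∀ y ∈ P, y⁻¹ * afun (a : MulAut P) y ∈ centralizerIn S Q}
      one_mem' := fun y hy => by
        rw [Subgroup.coe_one, afun_one hy, inv_mul_cancel]
        exact one_mem _
      mul_mem' := fun {a b} ha hb y hy => by
        rw [Subgroup.coe_mul, afun_mul _ _ hy]
        have := (centralizerIn S Q).mul_mem (hb y hy) (ha _ (afun_mem (b : MulAut P) hy))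
        simpa [mul_assoc] using this
      inv_mem' := fun {a} ha y hy => by
        have h1 := (centralizerIn S Q).inv_mem (ha _ (afun_mem (a : MulAut P)⁻¹ hy))
        rw [afun_apply_inv _ hy, mul_inv_rev, inv_inv] at h1
        rw [Subgroup.coe_inv]
        exact h1 }
  have hA : α ∈ A := (TransferPResidual.pResidual_le_iff_coprime.2 fun β hβ y hy => by
    rw [← Subgroup.orderOf_coe] at hβ
    have hm := (mem_autGroup hP).1 β.2
    obtain ⟨φ₀, hφ₀, he₀⟩ := id hm
    obtain ⟨ψ, hψ, he, hfix⟩ := (ext_central_iff he₀).1 (hCZ P hφ₀).2.2.2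
    obtain ⟨ψ', hψ', he', hQψ⟩ := (isNormal_iff.1 hQn).2 _ ψ ((mor_normalizerSystem_iff hN).1 hψ).1
    set W := P ⊔ Z ⊔ Q with hW
    have hPW : P ≤ W := le_sup_left.trans le_sup_left
    have hZW : Z ≤ W := le_sup_right.trans le_sup_left
    have hQW : Q ≤ W := le_sup_right
    have hψP : ∀ u ∈ P, ψ' u = afun (β : MulAut P) u := fun u hu => by
      rw [he' u (Subgroup.mem_sup_left hu), he u hu]
    have hψZ : ∀ u ∈ Z, ψ' u = u := fun u hu => by
      rw [he' u (Subgroup.mem_sup_right hu), hfix u hu]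
    haveI := finite_of_le hψ'.le
    obtain ⟨b, hb, hbe⟩ := hψ'.exists_aut (hψ'.im_self fun u hu => mor_sup_induction hψ'
      (fun v hv => mor_sup_induction (hψ'.restrict_to le_sup_left)
        (fun w hw => hPW ((hψP w hw).symm ▸ afun_mem _ hw))
        (fun w hw => hZW ((hψZ w hw).symm ▸ hw)) hv)
      (fun v hv => hQW (hQψ.le (apply_mem_im hv))) hu)
    obtain ⟨e, heco, hepow⟩ := exists_pow_coprime (p := p) b
    have hbP : ∀ u ∈ P, afun b u = afun (β : MulAut P) u := fun u hu => by
      rw [hbe u (hPW hu), hψP u hu]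
    have hβb : (β : MulAut P) ^ orderOf b = 1 := afun_ext fun u hu => by
      rw [← pow_restrict hPW hbP _ u hu, pow_orderOf_eq_one, afun_one (hPW hu), afun_one hu]
    set c := b ^ e with hc
    have hcP : ∀ u ∈ P, afun c u = afun (β : MulAut P) u := fun u hu => by
      rw [pow_restrict hPW hbP _ u hu, hepow _ hβb hβ]
    have hcZ : ∀ u ∈ Z, afun c u = u := fun u hu => by
      rw [pow_restrict hZW (fun v hv => (by rw [hbe v (hZW hv), hψZ v hv, afun_one hv] :
        afun b v = afun (1 : MulAut Z) v)) _ u hu, one_pow, afun_one hu]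
    have hcm := (mem_autGroup hψ'.le).1 (pow_mem hb e)
    rw [← hc] at hcm
    obtain ⟨b0, hb0, hb0e⟩ := (((mem_autGroup hψ'.le).1 hb).restrict_to hQW).exists_aut
      (((mem_autGroup hψ'.le).1 hb).restrict_to hQW |>.im_self fun u hu => by
        rw [hbe u (hQW hu)]; exact hQψ.le (apply_mem_im hu))
    set d := b0 ^ e with hd
    have hdc : ∀ u ∈ Q, afun c u = afun d u :=
      pow_restrict hQW (fun u hu => (hb0e u hu).symm) e
    have hdco : (orderOf d).Coprime p := heco.coprime_dvd_left
      (orderOf_dvd_of_pow_eq_one (afun_ext fun u hu => by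
        rw [← pow_restrict hQW (fun v hv => hdc v hv) _ u hu, pow_orderOf_eq_one,
          afun_one (hQW hu), afun_one hu]))
    have hXc : ∀ w ∈ X, afun c w = w := fun w hw => hcZ w (hXZ hw)
    have hd1 : ∀ u : Q, d u = u := afun_eq_self (hS.to_le hQS) (A := autInducedBy X Q)
      ((isPGroup_autInducedBy hS Q).to_le (autInducedBy_mono hX.1 Q)) hdco
      (fun a ha => by
        obtain ⟨w, hw, hwn, hwe⟩ := mem_autInducedBy.1 ha
        refine afun_ext fun u hu => ?_
        rw [afun_mul _ _ hu, afun_mul _ _ hu, hwe u hu, hwe _ (afun_mem d hu),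
          ← hdc _ (cj_mem_of_normalizer hwn hu), ← hdc u hu,
          hcm.map_cj (hZW (hXZ hw)) (hQW hu), hXc w hw])
      fun u hu => by
        have hun : (u : Ω) ∈ normalizerIn S X := ⟨hQS u.2, mem_normalizer_of_cj_le hX.1 fun w hw => by
          have h1 : cj w (u : Ω) = u := by
            have := hu _ (mem_autInducedBy.2 ⟨w, hw, le_normalizer_of_normal hQn (hX.1 hw),
              fun v hv => afun_nHom (⟨w, hw, le_normalizer_of_normal hQn (hX.1 hw)⟩ :
                ↥(X ⊓ Subgroup.normalizer (Q : Set Ω))) hv⟩)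
            rw [← afun_nHom (⟨w, hw, le_normalizer_of_normal hQn (hX.1 hw)⟩ :
                ↥(X ⊓ Subgroup.normalizer (Q : Set Ω))) u.2, afun_coe, this]
          rwa [FusionLayerCore.cj_comm.1 h1]⟩
        refine Subtype.ext ?_
        rw [← afun_coe, ← hdc u u.2, hcZ u (hQZ ⟨u.2, hun⟩)]
    have hcQ : ∀ u ∈ Q, afun c u = u := fun u hu => by
      rw [hdc u hu, afun_apply d hu, hd1]
    have hyS : y ∈ S := hTS (hP hy)
    refine mem_centralizerIn.2 ⟨S.mul_mem (S.inv_mem hyS) (hTS (hP (afun_mem _ hy))),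
      fun q hq => ?_⟩
    set z := cj y q
    have hz : z ∈ Q := hQc y hyS q hq
    have h1 : cj (afun (β : MulAut P) y) q = z := by
      conv_lhs => rw [← hcQ q hq, ← hcP y hy]
      rw [← hcm.map_cj (hPW hy) (hQW hq), hcQ z hz]
    rw [← cj_cj, h1, cj_inv_cj]) hα
  have := hA x x.2
  rwa [afun_apply _ x.2] at this

include hS hF hX hN in
/-- A component of `N_F(X)` does not centralize the group of the layer of `F`. -/
theorem false_of_T_le {T TC : Subgroup Ω} {C : FusionSystem TC} (hC : C.IsComponentIn N p)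
    {E : FusionSystem T} (hE : E.IsLayerOf F p) (hTX : T ≤ normalizerIn S X)
    (hv : Valid N C T) : False := by
  have hWS : normalizerIn S X ≤ S := inf_le_left
  haveI := finite_of_le hWS
  have hTS : T ≤ S := sub_le hE.1.1.2.2.1
  haveI := finite_of_le hTS
  have hTCW : TC ≤ normalizerIn S X := subnormal_le hC.1
  haveI := finite_of_le (hTCW.trans hWS)
  have hTCT : TC ≤ centralizerIn S T := fun y hy => mem_centralizerIn.2
    ⟨hWS (hTCW hy), fun t ht => FusionLayerCore.cj_comm.1 ((mem_centralizerIn.1 (hv.1 ht)).2 y hy)⟩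
  have hD := isCentralizerSystem_centralizerSystem (F := F) T hTS
  have hTCcs : TC ≤ cs F E p := by
    conv_lhs => rw [← hC.2.2.1]
    refine (Subgroup.closure_le _).2 ?_
    rintro _ ⟨P, α, x, hP, -, rfl⟩
    have hm := (mem_autGroup hP).1 α.2
    obtain ⟨ψ, hψ, he, hfix⟩ := hv.2 P _ hm
    have hmD : Mor (centralizerSystem F T hTS) P (afun (α : MulAut P)) :=
      (mor_centralizerSystem_iff hD).2
        ⟨((mor_normalizerSystem_iff hN).1
            (sub_mor (FusionIso88.subnormal_subsystem hC.1) hm)).1, hP.trans hTCT,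
          fun y hy => hTCT (hP (afun_mem _ hy)), ψ, ((mor_normalizerSystem_iff hN).1 hψ).1,
          he, hfix⟩
    have := FusionFocal.focal_le_iff.1 (FusionCentralizerSub.focal_le_cs (E := E) hS hF hD)
      P _ hmD x x.2
    rwa [afun_apply _ x.2] at this
  obtain ⟨K, hK, -⟩ := FusionCentralizerNormal.exists_normal_centralizer hS hF hE.1
  have hYS : cs F E p ≤ S := FusionCentralizerSub.cs_le.trans inf_le_left
  haveI := finite_of_le hYS
  have hKc : K.IsConstrained p := by
    by_contra hn
    obtain ⟨TD, D, hD', -⟩ := FusionComponentExists.exists_component (hS.to_le hYS) hK.1.1 hn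
    have hDF : D.IsComponentIn F p := ⟨.step hD'.1 hK, hD'.2⟩
    have hle := FusionLayer.le_of_subsystem (hE.2.1 _ _ hDF)
    refine FusionComponents.not_self_centralizing hS hDF fun y hy => ?_
    obtain ⟨hyS, hyT⟩ := mem_centralizerIn.1 (FusionCentralizerSub.cs_le (subnormal_le hD'.1 hy))
    exact mem_centralizerIn.2 ⟨hyS, fun z hz => hyT z (hle hz)⟩
  obtain ⟨-, R₀, hR₀, hR₀c⟩ := hKc
  have hR₀Q : R₀ ≤ F.core :=
    (le_core hR₀).trans (le_core (FusionComponentExists.core_normal_of_normal hS hK))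
  have hTCQ := component_fix_core hS hF hX hN hC
  have h1 : TC ≤ R₀ := fun y hy => hR₀c.2 R₀ (FusionSysBasic.isConj_refl hR₀c.1)
    (mem_centralizerIn.2 ⟨hTCcs hy, fun r hr => (mem_centralizerIn.1 (hTCQ hy)).2 r (hR₀Q hr)⟩)
  exact FusionComponents.not_self_centralizing (hS.to_le hWS) hC fun y hy =>
    mem_centralizerIn.2 ⟨hTCW hy, fun z hz => (mem_centralizerIn.1 (hTCQ hy)).2 z (hR₀Q (h1 hz))⟩

end Cfsg.Agent.FusionEBalance
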