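import Cfsg.Agent.Lib.FusionSysModel
import Cfsg.Agent.Lib.FusionSysNormalizer
import Cfsg.Agent.Lib.FusionModelTools
import Cfsg.Agent.Lib.FusionWeakAlperin
import Cfsg.Agent.Lib.FusionMorph88
import Cfsg.Agent.S5132
import Cfsg.Agent.S5134
import Cfsg.Agent.Lib.FusionSysAlperin

/-!
Reduction of nilpotency criteria for saturated fusion systems to constrained systems.

`Nil F` says that every `Aut_F(R)` is a `p`-group (then `F` is the inner system), `NilAt F U` says the
same for the normalizer system of `U`. The main theorem `nil_of_hyp` shows that a property of fusion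
systems passing to normalizer systems and quotients as stated in `Adm` forces `Nil` as soon as it
does so for constrained systems.
-/

set_option autoImplicit false

universe u

namespace Cfsg.Agent.FusionNilReduction

open Cfsg Cfsg.FusionSystem Cfsg.Agent.FusionSysBasic Cfsg.Agent.FusionSysSaturated
  Cfsg.Agent.FusionSysNormal

section Defs

variable {Ω : Type u} [Group Ω] {S : Subgroup Ω} (F : FusionSystem S) (p : ℕ)

/-- All automisers are `p`-groups. -/
def Nil : Prop := ∀ R : Subgroup Ω, R ≤ S → IsPGroup p ↥(F.autGroup R)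

/-- The normalizer system of `U` is nilpotent. -/
def NilAt (U : Subgroup Ω) : Prop :=
  ∀ R : Subgroup Ω, R ≤ S → U ≤ R → R ≤ Subgroup.normalizer (U : Set Ω) → ∀ α ∈ F.autGroup R,
    (∀ x ∈ U, afun α x ∈ U) → ∃ k : ℕ, α ^ p ^ k = 1

variable {F p}

theorem isPGroup_of_forall {G : Type*} [Group G] {H : Subgroup G}
    (h : ∀ a ∈ H, ∃ k : ℕ, a ^ p ^ k = 1) : IsPGroup p ↥H := fun a =>
  (h a a.2).imp fun _ hk => Subtype.ext hk

theorem pow_eq_one_of_isPGroup {G : Type*} [Group G] {H : Subgroup G} (h : IsPGroup p ↥H) {a : G}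
    (ha : a ∈ H) : ∃ k : ℕ, a ^ p ^ k = 1 :=
  (h ⟨a, ha⟩).imp fun _ hk => congrArg Subtype.val hk

theorem nilAt_of_nil (h : Nil F p) (U : Subgroup Ω) : NilAt F p U :=
  fun R hR _ _ _ hα _ => pow_eq_one_of_isPGroup (h R hR) hα

theorem eq_inner_of_nil [Finite S] [Fact p.Prime] (hS : IsPGroup p S) (hF : F.IsSaturated p)
    (h : Nil F p) : F = innerFusionSystem S :=
  FusionSysAlperin.eq_inner_of_isPGroup hS hF h

/-- If two automorphisms are compatible then so are their powers. -/
theorem afun_pow_of_eqOn {R R' : Subgroup Ω} (hRR' : R ≤ R') {α : MulAut R} {γ : MulAut R'}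
    (h : ∀ x ∈ R, afun γ x = afun α x) (n : ℕ) : ∀ x ∈ R, afun (γ ^ n) x = afun (α ^ n) x := by
  induction n with
  | zero => intro x hx; rw [pow_zero, pow_zero, afun_one hx, afun_one (hRR' hx)]
  | succ n ih =>
    intro x hx
    rw [pow_succ', pow_succ', afun_mul _ _ (hRR' hx), afun_mul _ _ hx, ih x hx,
      h _ (afun_mem _ hx)]

theorem pow_eq_one_of_eqOn {R R' : Subgroup Ω} (hRR' : R ≤ R') {α : MulAut R} {γ : MulAut R'}
    (h : ∀ x ∈ R, afun γ x = afun α x) {n : ℕ} (hn : γ ^ n = 1) : α ^ n = 1 :=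
  afun_ext fun x hx => by rw [← afun_pow_of_eqOn hRR' h n x hx, hn, afun_one (hRR' hx), afun_one hx]

theorem afun_pow_mem {R U : Subgroup Ω} (hUR : U ≤ R) {α : MulAut R}
    (h : ∀ x ∈ U, afun α x ∈ U) (n : ℕ) : ∀ x ∈ U, afun (α ^ n) x ∈ U := by
  induction n with
  | zero => intro x hx; rwa [pow_zero, afun_one (hUR hx)]
  | succ n ih => intro x hx; rw [pow_succ', afun_mul _ _ (hUR hx)]; exact h _ (ih x hx)

/-- Automorphisms in a subsystem are automorphisms in the system. -/
theorem autGroup_le {T : Subgroup Ω} {E : FusionSystem T} (hE : E.IsSubsystemOf F)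
    (R : Subgroup Ω) : E.autGroup R ≤ F.autGroup R :=
  Subgroup.closure_mono fun _ ha => hE R ha

theorem nilAt_sub {T : Subgroup Ω} {E : FusionSystem T} (hE : E.IsSubsystemOf F) (hTS : T ≤ S)
    {U : Subgroup Ω} (h : NilAt F p U) : NilAt E p U :=
  fun R hR hUR hRn α hα hU => h R (hR.trans hTS) hUR hRn α (autGroup_le hE R hα) hU

theorem normalizerSystem_sub {U : Subgroup Ω} {G : FusionSystem (normalizerIn S U)}
    (hG : F.IsNormalizerSystem U G) : G.IsSubsystemOf F := fun P φ hφ => by
  rw [hG P] at hφ; exact hφ.1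

theorem nilAt_of_nil_normalizerSystem {U : Subgroup Ω}
    {G : FusionSystem (normalizerIn S U)} (hG : F.IsNormalizerSystem U G) (h : Nil G p)
    [Finite S] : NilAt F p U := by
  intro R hR hUR hRn α hα hU
  have hRT : R ≤ normalizerIn S U := le_inf hR hRn
  refine pow_eq_one_of_isPGroup (h R hRT) ((mem_autGroup hRT).mpr ?_)
  have hm := (mem_autGroup hR).mp hα
  refine (mor_normalizerSystem_iff hG).mpr ⟨hm, hRT, fun x hx => hRT (afun_mem α hx), afun α,
    by rwa [sup_eq_left.mpr hUR], fun _ _ => rfl, ?_⟩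
  exact (hm.restrict_to hUR).im_self hU

theorem nil_normalizerSystem [Finite S] {U : Subgroup Ω} (hUS : U ≤ S)
    {G : FusionSystem (normalizerIn S U)} (hG : F.IsNormalizerSystem U G) (h : NilAt F p U) :
    Nil G p := by
  intro R hR
  refine isPGroup_of_forall fun α hα => ?_
  obtain ⟨-, -, -, f, hf, hag, him⟩ := (mor_normalizerSystem_iff hG).mp ((mem_autGroup hR).mp hα)
  have hfU : ∀ x ∈ U, f x ∈ U := fun x hx =>
    him ▸ (hf.restrict_to le_sup_right).mem_im.2 ⟨x, hx, rfl⟩
  obtain ⟨γ, hγ, hγe⟩ := hf.exists_aut (hf.im_self fun x hx => mor_sup_induction hf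
    (fun a ha => Subgroup.mem_sup_left (by rw [hag a ha]; exact afun_mem α ha))
    (fun b hb => Subgroup.mem_sup_right (hfU b hb)) hx)
  obtain ⟨k, hk⟩ := h (R ⊔ U) (sup_le (hR.trans inf_le_left) hUS) le_sup_right
    (sup_le (hR.trans inf_le_right) Subgroup.le_normalizer) γ hγ
    fun x hx => by rw [hγe x (Subgroup.mem_sup_right hx)]; exact hfU x hx
  exact ⟨k, pow_eq_one_of_eqOn le_sup_left
    (fun x hx => by rw [hγe x (Subgroup.mem_sup_left hx), hag x hx]) hk⟩

/-- `NilAt` moves back along a map defined on the normalizer. -/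
theorem nilAt_of_mor [Finite S] {U : Subgroup Ω} {f : Ω → Ω} (hUS : U ≤ S)
    (hf : Mor F (normalizerIn S U) f) (h : NilAt F p (im U f)) : NilAt F p U := by
  intro R hR hUR hRn α hα hU
  have hRT : R ≤ normalizerIn S U := le_inf hR hRn
  have hg := hf.restrict_to hRT
  have hn : im R f ≤ Subgroup.normalizer ((im U f : Subgroup Ω) : Set Ω) := by
    refine im_le_iff.mpr fun r hr => mem_normalizer_of_cj_le (S := S) ?_ fun y hy => ?_
    · exact im_le_iff.mpr fun x hx => hf.apply_mem (le_normalizerIn hUS hx)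
    · obtain ⟨x, hx, rfl⟩ := (hf.restrict_to (le_normalizerIn hUS)).mem_im.mp hy
      rw [← hf.map_cj (hRT hr) (le_normalizerIn hUS hx)]
      exact apply_mem_im (cj_mem_of_normalizer (hRn hr) hx)
  obtain ⟨k, hk⟩ := h (im R f) hg.im_le (im_mono hUR) hn _ (hg.transport_mem rfl hα) fun y hy => by
    obtain ⟨x, hx, rfl⟩ := (hg.restrict_to hUR).mem_im.mp hy
    rw [hg.afun_transport rfl α (hUR hx)]
    exact apply_mem_im (hU x hx)
  refine ⟨k, (hg.transport rfl).injective ?_⟩
  rw [map_pow, hk, map_one]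

/-- Total size of the automisers. -/
noncomputable def sysCard [Finite S] (F : FusionSystem S) : ℕ :=
  ∑ R ∈ (finite_le_S (S := S)).toFinset, Nat.card ↥(F.autGroup R)

theorem sysCard_lt [Finite S] {T : Subgroup Ω} [Finite T] (hT : T = S) {E : FusionSystem T}
    (hE : E.IsSubsystemOf F) {R : Subgroup Ω} (hR : R ≤ S)
    (hne : ¬ F.autGroup R ≤ E.autGroup R) : sysCard E < sysCard F := by
  subst hT
  haveI : ∀ P, Finite ↥(F.autGroup P) := fun P => finite_autGroup P
  refine Finset.sum_lt_sum (fun P _ => Subgroup.card_le_of_le (autGroup_le hE P))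
    ⟨R, (finite_le_S (S := T)).mem_toFinset.mpr hR, lt_of_le_of_ne
      (Subgroup.card_le_of_le (autGroup_le hE R))
      fun e => hne (Subgroup.eq_of_le_of_card_ge (autGroup_le hE R) e.ge).ge⟩

theorem exists_copy {T : Subgroup Ω} (G : FusionSystem T) (hT : T = S) :
    ∃ G' : FusionSystem S, ∀ P, G'.Hom P = G.Hom P := by
  subst hT; exact ⟨G, fun _ => rfl⟩

/-- The normalizer system of a non-normal subgroup misses some automorphism. -/
theorem exists_aut_not_mem [Finite S] [Fact p.Prime] (hS : IsPGroup p S) (hF : F.IsSaturated p)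
    {U : Subgroup Ω} (hUS : U ≤ S) (hT : normalizerIn S U = S)
    {G : FusionSystem (normalizerIn S U)} (hG : F.IsNormalizerSystem U G)
    (hn : ¬ F.IsNormal U) : ∃ R : Subgroup Ω, R ≤ S ∧ ¬ F.autGroup R ≤ G.autGroup R := by
  by_contra! hall
  obtain ⟨G', hG'⟩ := exists_copy G hT
  have hle : ∀ P : Subgroup Ω, (P = S ∨ F.IsEssential p P) → F.autGroup P ≤ G'.autGroup P := by
    intro P hP
    have hPS : P ≤ S := by
      rcases hP with rfl | hP
      · exact le_rfl
      · exact hP.1.1
    refine (hall P hPS).trans ?_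
    exact Subgroup.closure_mono fun _ ha => (hG' P).ge ha
  have hFG := FusionSysAlperin.alperin hS hF hle
  refine hn (isNormal_iff.mpr ⟨hUS, fun P f hf => ?_⟩)
  obtain ⟨φ, hφ, he⟩ := hf
  obtain ⟨-, -, -, f', hf', hag, him⟩ := (mor_normalizerSystem_iff hG).mp
    (show Mor G P f from ⟨φ, (hG' P).le (hFG P hφ), he⟩)
  exact ⟨f', hf', hag, him⟩

end Defs

/-- Admissible properties for the reduction. -/
structure Adm (p : ℕ) [Fact p.Prime]
    (H : ∀ (Ω : Type u) [Group Ω] (S : Subgroup Ω), FusionSystem S → Prop) : Prop where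
  /-- passing to a normalizer system over a proper subgroup -/
  local_step : ∀ {Ω : Type u} [Group Ω] {S : Subgroup Ω} [Finite S], IsPGroup p S →
    ∀ {F : FusionSystem S}, F.IsSaturated p → H Ω S F → ∀ {U : Subgroup Ω}, U ≠ ⊥ →
      F.IsFullyNormalized U → normalizerIn S U < S →
      ∀ {G : FusionSystem (normalizerIn S U)}, F.IsNormalizerSystem U G →
        (∀ V : Subgroup Ω, V ≤ S → V ≠ ⊥ → normalizerIn S U < normalizerIn S V → NilAt F p V) →
          H Ω (normalizerIn S U) G
  /-- passing to a normalizer system over the same subgroup -/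
  top_step : ∀ {Ω : Type u} [Group Ω] {S : Subgroup Ω} [Finite S], IsPGroup p S →
    ∀ {F : FusionSystem S}, F.IsSaturated p → H Ω S F → ∀ {U : Subgroup Ω}, U ≠ ⊥ → U ≤ S →
      normalizerIn S U = S →
      ∀ {G : FusionSystem (normalizerIn S U)}, F.IsNormalizerSystem U G →
          H Ω (normalizerIn S U) G
  /-- passing to the quotient by a normal subgroup -/
  quot_step : ∀ {Ω : Type u} [Group Ω] {S : Subgroup Ω} [Finite S], IsPGroup p S →
    ∀ {F : FusionSystem S}, F.IsSaturated p → H Ω S F → ∀ {Q : Subgroup Ω}, F.IsNormal Q →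
      Q < S → ∀ {Ω' : Type u} [Group Ω'] {S' : Subgroup Ω'} (θ : S →* Ω')
        {E : FusionSystem S'}, F.IsFactorSystem Q θ E →
        (∀ Y : Subgroup Ω, Y ≤ S → Q < Y → S ≤ Subgroup.normalizer (Y : Set Ω) → NilAt F p Y) →
          H Ω' S' E
  /-- constrained systems -/
  base : ∀ {Ω : Type u} [Group Ω] {S : Subgroup Ω} [Finite S], IsPGroup p S →
    ∀ {F : FusionSystem S}, F.IsConstrained p → H Ω S F → Nil F p

variable {p : ℕ} [Fact p.Prime] {H : ∀ (Ω : Type u) [Group Ω] (S : Subgroup Ω), FusionSystem S → Prop}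

/-- Induction hypothesis: smaller systems with the property are nilpotent. -/
def Smaller (p : ℕ) (H : ∀ (Ω : Type u) [Group Ω] (S : Subgroup Ω), FusionSystem S → Prop)
    {Ω : Type u} [Group Ω] {S : Subgroup Ω} [Finite S] (F : FusionSystem S) : Prop :=
  ∀ {Ω' : Type u} [Group Ω'] {S' : Subgroup Ω'} [Finite S'] (E : FusionSystem S'),
    IsPGroup p S' → E.IsSaturated p →
      (Nat.card S' < Nat.card S ∨ (Nat.card S' = Nat.card S ∧ sysCard E < sysCard F)) →
        H Ω' S' E → Nil E p

section Step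

variable (hA : Adm p H) {Ω : Type u} [Group Ω] {S : Subgroup Ω} [Finite S] (hS : IsPGroup p S)
  {F : FusionSystem S} (hF : F.IsSaturated p) (hH : H Ω S F) (IH : Smaller p H F)
include hA hS hF hH IH

theorem nilAt_of_not_normal {U : Subgroup Ω} (hU : U ≠ ⊥) (hUS : U ≤ S)
    (hn : S ≤ Subgroup.normalizer (U : Set Ω)) (hnn : ¬ F.IsNormal U) : NilAt F p U := by
  have hT : normalizerIn S U = S := inf_eq_left.mpr hn
  have hfn : F.IsFullyNormalized U := FusionWeakAlperin.fullyNormalized_of_normal hUS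
    fun g hg x hx => cj_mem_of_normalizer (hn hg) hx
  have hG := isNormalizerSystem_normalizerSystem (F := F) U hUS
  haveI := finite_normalizerIn (S := S) U
  refine nilAt_of_nil_normalizerSystem hG (IH _ (hS.to_le inf_le_left)
    (FusionSysNormalizer.normalizerSystem_saturated hS hF hfn hG) (Or.inr ⟨by rw [hT], ?_⟩)
    (hA.top_step hS hF hH hU hUS hT hG))
  obtain ⟨R, hR, hne⟩ := exists_aut_not_mem hS hF hUS hT hG hnn
  exact sysCard_lt hT (normalizerSystem_sub hG) hR hne

theorem nilAt_of_core_eq_bot (hcore : F.core = ⊥) {U : Subgroup Ω} (hU : U ≠ ⊥)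
    (hUS : U ≤ S) : NilAt F p U := by
  suffices ∀ n, ∀ U : Subgroup Ω, U ≠ ⊥ → U ≤ S →
      Nat.card S ≤ Nat.card (normalizerIn S U) + n → NilAt F p U from
    this _ U hU hUS (Nat.le_add_left _ _)
  intro n
  induction n using Nat.strong_induction_on with
  | _ n IHn =>
    intro U₀ hU₀ hU₀S hn₀
    obtain ⟨U, hconj, hfn⟩ := exists_fullyNormalized (F := F) hU₀S
    obtain ⟨f, hf, -, him⟩ := exists_map_to_fullyNormalized hS hF hfn hconj
    refine nilAt_of_mor hU₀S hf ?_
    rw [him]
    have hUS : U ≤ S := hfn.1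
    have hUne : U ≠ ⊥ := fun e => hU₀ (by
      have hc := isConj_card hconj
      haveI := finite_of_le hU₀S
      rw [e, Subgroup.card_bot] at hc
      exact Subgroup.card_eq_one.mp hc)
    have hcard : Nat.card (normalizerIn S U₀) ≤ Nat.card (normalizerIn S U) :=
      hfn.2 U₀ (isConj_symm hconj)
    haveI := finite_normalizerIn (S := S) U
    rcases (inf_le_left : normalizerIn S U ≤ S).eq_or_lt with hT | hT
    · refine nilAt_of_not_normal hA hS hF hH IH hUne hUS (inf_eq_left.mp hT) fun hN => hUne ?_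
      exact eq_bot_iff.mpr (hcore ▸ le_core hN)
    · have hG := isNormalizerSystem_normalizerSystem (F := F) U hUS
      have hlt : Nat.card (normalizerIn S U) < Nat.card S :=
        lt_of_le_of_ne (Subgroup.card_le_of_le hT.le)
          fun e => hT.ne (eq_of_le_of_card_ge le_rfl hT.le e.ge)
      refine nilAt_of_nil_normalizerSystem hG (IH _ (hS.to_le inf_le_left)
        (FusionSysNormalizer.normalizerSystem_saturated hS hF hfn hG) (Or.inl hlt)
        (hA.local_step hS hF hH hUne hfn hT hG fun V hVS hV hlt' => ?_))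
      haveI := finite_normalizerIn (S := S) V
      have h2 : Nat.card (normalizerIn S U) < Nat.card (normalizerIn S V) :=
        lt_of_le_of_ne (Subgroup.card_le_of_le hlt'.le)
          fun e => hlt'.ne (eq_of_le_of_card_ge inf_le_left hlt'.le e.ge)
      exact IHn (Nat.card S - Nat.card (normalizerIn S V)) (by omega) V hV hVS (by omega)

theorem nil_step : Nil F p := by
  intro R₀ hR₀
  by_cases hcore : F.core = ⊥
  · refine isPGroup_of_forall fun α hα => ?_
    by_cases hb : R₀ = ⊥
    · subst hb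
      exact ⟨0, afun_ext fun x hx => by
        rw [pow_zero, pow_one, afun_one hx]
        have := afun_mem α hx
        rw [Subgroup.mem_bot] at hx this
        rw [this, hx]⟩
    exact nilAt_of_core_eq_bot hA hS hF hH IH hcore hb hR₀ R₀ hR₀ le_rfl Subgroup.le_normalizer α hα
      fun x hx => afun_mem α hx
  have hQn : F.IsNormal F.core := core_isNormal
  have hQS : F.core ≤ S := normal_le hQn
  by_cases hQc : F.IsCentric F.core
  · exact hA.base hS ⟨hF, _, hQn, hQc⟩ hH R₀ hR₀
  set Q := F.core with hQdef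
  have hSQ : S ≤ Subgroup.normalizer (Q : Set Ω) := le_normalizer_of_normal hQn
  have hloc : ∀ Y : Subgroup Ω, Y ≤ S → Q < Y → S ≤ Subgroup.normalizer (Y : Set Ω) →
      NilAt F p Y := fun Y hYS hQY hYn =>
    nilAt_of_not_normal hA hS hF hH IH (ne_bot_of_gt hQY) hYS hYn
      fun hN => hQY.not_ge (le_core hN)
  -- `Aut_F(Q)` is a `p`-group
  set X := Q ⊔ centralizerIn S Q with hX
  have hXS : X ≤ S := sup_le hQS inf_le_left
  have hQX : Q < X := by
    refine lt_of_le_of_ne le_sup_left fun e => hQc ⟨hQS, fun Q' hQ' => ?_⟩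
    obtain ⟨f, hf, rfl⟩ := FusionSysBasic.isConj_iff.mp hQ'
    rw [hf.im_self fun x hx => normal_invariant hQn hf hx hx]
    exact le_sup_right.trans e.ge
  have hSX : S ≤ Subgroup.normalizer (X : Set Ω) := by
    intro g hg
    refine mem_normalizer_of_cj_le hXS fun x hx => ?_
    have hm := mor_cj (F := F) hXS hg
    refine mor_sup_induction hm (fun a ha => Subgroup.mem_sup_left
      (cj_mem_of_normalizer (hSQ hg) ha)) (fun c hc => Subgroup.mem_sup_right ?_) hx
    obtain ⟨hcS, hcc⟩ := mem_centralizerIn.mp hc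
    refine mem_centralizerIn.mpr ⟨cj_mem_S hg hcS, fun y hy => ?_⟩
    have e := hcc (cj g⁻¹ y) (cj_mem_of_normalizer (hSQ (S.inv_mem hg)) hy)
    have := congrArg (cj g) e
    simp only [cj_apply] at this ⊢
    simpa [mul_assoc] using this
  have hfn : F.IsFullyNormalized Q := FusionWeakAlperin.fullyNormalized_of_normal hQS
    fun g hg x hx => cj_mem_of_normalizer (hSQ hg) hx
  have hAQ : ∀ α ∈ F.autGroup Q, ∃ k : ℕ, α ^ p ^ k = 1 := by
    intro α hα
    obtain ⟨f, hf, hag, hC⟩ := exists_extension_centralizer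
      (receptive_of_fullyNormalized hS hF hfn) ((mem_autGroup hQS).1 hα) (im_afun α)
    obtain ⟨γ, hγ, hγe⟩ := hf.exists_aut (hf.im_self fun x hx => mor_sup_induction hf
      (fun a ha => Subgroup.mem_sup_left (by rw [hag a ha]; exact afun_mem α ha))
      (fun b hb => Subgroup.mem_sup_right (hC b hb)) hx)
    obtain ⟨k, hk⟩ := hloc X hXS hQX hSX X hXS le_rfl Subgroup.le_normalizer γ hγ
      fun x hx => afun_mem γ hx
    exact ⟨k, pow_eq_one_of_eqOn le_sup_left
      (fun x hx => by rw [hγe x (Subgroup.mem_sup_left hx), hag x hx]) hk⟩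
  -- the quotient
  have hQlt : Q < S := hQX.trans_le hXS
  haveI hQnS : (Q.subgroupOf S).Normal :=
    ⟨fun q hq g => show cj (g : Ω) (q : Ω) ∈ Q from cj_mem_of_normalizer (hSQ g.2) hq⟩
  obtain ⟨E, hE⟩ := S5132.result p hS F Q (stronglyClosed_of_normal hQn)
  have hsurj := S5134.result p hS F hF Q (stronglyClosed_of_normal hQn) _ E hE
  have hEsat := FusionMorph88.saturated_of_surjective hS hF hsurj
  haveI : Finite (⊤ : Subgroup (↥S ⧸ Q.subgroupOf S)) := inferInstance
  have hS'p : IsPGroup p (⊤ : Subgroup (↥S ⧸ Q.subgroupOf S)) :=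
    (hS.to_quotient _).of_equiv Subgroup.topEquiv.symm
  have hsmall : Nat.card (⊤ : Subgroup (↥S ⧸ Q.subgroupOf S)) < Nat.card S := by
    rw [Subgroup.card_top, Subgroup.card_eq_card_quotient_mul_card_subgroup (Q.subgroupOf S)]
    refine lt_mul_of_one_lt_right Nat.card_pos ?_
    rw [Nat.card_congr (Subgroup.subgroupOfEquivOfLe hQS).toEquiv]
    haveI := finite_of_le hQS
    exact (Subgroup.one_lt_card_iff_ne_bot Q).mpr hcore
  have hEnil : Nil E p :=
    IH E hS'p hEsat (Or.inl hsmall) (hA.quot_step hS hF hH hQn hQlt _ hE hloc)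
  -- back to `F`
  set θ := QuotientGroup.mk' (Q.subgroupOf S)
  suffices hsup : ∀ R, R ≤ S → Q ≤ R → ∀ γ ∈ F.autGroup R, ∃ k : ℕ, γ ^ p ^ k = 1 by
    refine isPGroup_of_forall fun α hα => ?_
    obtain ⟨f, hf, hag, him⟩ := (isNormal_iff.mp hQn).2 R₀ (afun α) ((mem_autGroup hR₀).mp hα)
    obtain ⟨γ, hγ, hγe⟩ := hf.exists_aut (hf.im_self fun x hx => mor_sup_induction hf
      (fun a ha => Subgroup.mem_sup_left (by rw [hag a ha]; exact afun_mem α ha))
      (fun b hb => Subgroup.mem_sup_right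
        (him ▸ (hf.restrict_to le_sup_right).mem_im.2 ⟨b, hb, rfl⟩)) hx)
    obtain ⟨k, hk⟩ := hsup _ (sup_le hR₀ hQS) le_sup_right γ hγ
    exact ⟨k, pow_eq_one_of_eqOn le_sup_left
      (fun x hx => by rw [hγe x (Subgroup.mem_sup_left hx), hag x hx]) hk⟩
  intro R hR hQR γ hγ
  obtain ⟨f', hf', hfe⟩ := FusionMorph88.morphism_mor hsurj.1 ((mem_autGroup hR).mp hγ)
  haveI : Finite ↥(imageAlong θ R) := inferInstance
  obtain ⟨δ, hδ, hδe⟩ := hf'.exists_aut (hf'.im_self fun y hy => by
    obtain ⟨x, hx, -, rfl⟩ := FusionMorph88.mem_imageAlong.mp hy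
    rw [hfe x hx]
    exact FusionMorph88.app_mem_imageAlong (afun_mem γ hx) hR)
  obtain ⟨k, hk⟩ := pow_eq_one_of_isPGroup (hEnil _ le_top) hδ
  have hpow : ∀ n : ℕ, ∀ x ∈ R,
      FusionMorph88.app θ (afun (γ ^ n) x) = afun (δ ^ n) (FusionMorph88.app θ x) := by
    intro n
    induction n with
    | zero => intro x hx; rw [pow_zero, pow_zero, afun_one hx,
        afun_one (FusionMorph88.app_mem_imageAlong hx hR)]
    | succ n ih =>
      intro x hx
      rw [pow_succ', pow_succ', afun_mul _ _ hx,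
        afun_mul _ _ (FusionMorph88.app_mem_imageAlong hx hR), ← ih x hx,
        hδe _ (FusionMorph88.app_mem_imageAlong (afun_mem _ hx) hR), hfe _ (afun_mem _ hx)]
  have hmod : ∀ x ∈ R, x⁻¹ * afun (γ ^ p ^ k) x ∈ Q := by
    intro x hx
    have e := hpow (p ^ k) x hx
    rw [hk, afun_one (FusionMorph88.app_mem_imageAlong hx hR),
      FusionMorph88.app_apply θ (hR hx), FusionMorph88.app_apply θ (hR (afun_mem _ hx))] at e
    exact ((QuotientGroup.eq (s := Q.subgroupOf S)).mp e.symm :)
  have hinv : ∀ x ∈ Q, afun γ x ∈ Q := fun x hx =>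
    normal_invariant hQn ((mem_autGroup hR).mp hγ) (hQR hx) hx
  have hk' : ∀ x ∈ Q, afun (γ ^ p ^ k) x ∈ Q := afun_pow_mem hQR hinv _
  have hm := (mem_autGroup hR).mp ((F.autGroup R).pow_mem hγ (p ^ k))
  obtain ⟨β, hβ, hβe⟩ := (hm.restrict_to hQR).exists_aut ((hm.restrict_to hQR).im_self hk')
  obtain ⟨m, hm'⟩ := hAQ β hβ
  haveI := finite_of_le hR
  obtain ⟨j, hj⟩ := pow_eq_one_of_stabilizes (hS.to_le hR) (n := 2)
    (fun i => if i = 0 then ⊥ else if i = 1 then Q else R) (by simp) (by simp)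
    (fun i => by split_ifs <;> simp [hQR])
    (fun i hi => by interval_cases i <;> simp [hQR])
    (α := (γ ^ p ^ k) ^ p ^ m) (fun i hi y hy => by
      interval_cases i
      · simp only [zero_add, one_ne_zero, if_false, if_true] at hy ⊢
        rw [Subgroup.mem_bot, afun_pow_of_eqOn hQR (fun x hx => (hβe x hx).symm) _ y hy, hm',
          afun_one hy, inv_mul_cancel]
      · simp only [one_ne_zero, if_false, if_true] at hy ⊢
        norm_num at hy
        have hd : ∀ n : ℕ, y⁻¹ * afun ((γ ^ p ^ k) ^ n) y ∈ Q := by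
          intro n
          induction n with
          | zero => rw [pow_zero, afun_one hy, inv_mul_cancel]; exact one_mem Q
          | succ n ih =>
            rw [pow_succ', afun_mul _ _ hy]
            have := mul_mem ih (hmod _ (afun_mem ((γ ^ p ^ k) ^ n) hy))
            rwa [mul_assoc, mul_inv_cancel_left] at this
        exact hd _)
  exact ⟨k + (m + j), by rw [pow_add, pow_add, pow_mul, pow_mul, hj]⟩

end Step

/-- The reduction theorem. -/
theorem nil_of_hyp (hA : Adm p H) {Ω : Type u} [Group Ω] {S : Subgroup Ω} [Finite S]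
    (hS : IsPGroup p S) {F : FusionSystem S} (hF : F.IsSaturated p) (hH : H Ω S F) : Nil F p := by
  suffices ∀ n m : ℕ, ∀ {Ω : Type u} [Group Ω] {S : Subgroup Ω} [Finite S] (F : FusionSystem S),
      IsPGroup p S → F.IsSaturated p → Nat.card S = n → sysCard F = m → H Ω S F → Nil F p from
    this _ _ F hS hF rfl rfl hH
  intro n
  induction n using Nat.strong_induction_on with
  | _ n IHn =>
    intro m
    induction m using Nat.strong_induction_on with
    | _ m IHm =>
      intro Ω _ S _ F hS hF hn hm hH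
      refine nil_step hA hS hF hH ?_
      intro Ω' _ S' _ E hS' hE hlt hHE
      rcases hlt with hlt | ⟨he, hlt⟩
      · exact IHn _ (hn ▸ hlt) _ E hS' hE rfl rfl hHE
      · exact IHm _ (hm ▸ hlt) E hS' hE (he.trans hn) rfl hHE

end Cfsg.Agent.FusionNilReduction
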