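import Cfsg.Agent.Lib.FusionPPower
import Cfsg.Agent.Lib.FusionSupersolubleCriterion
import Cfsg.Agent.Lib.FusionInduct88
import Cfsg.Agent.Lib.FusionNilReduction

/-!
An automorphism of order prime to `p` of a subgroup gives a saturated subsystem over that subgroup;
minimal non-inner systems are semidirect products by a group of prime order.
-/

set_option autoImplicit false

universe u

namespace Cfsg.Agent.FusionExtremelySparse89

open Cfsg Cfsg.FusionSystem Cfsg.Agent.FusionSysBasic Cfsg.Agent.FusionSysSaturated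

variable {Ω : Type u} [Group Ω] {S : Subgroup Ω} {F : FusionSystem S} {p : ℕ} [hp : Fact p.Prime]

theorem exists_semidirect [Finite S] (hS : IsPGroup p S) {R : Subgroup Ω} (hR : R ≤ S)
    (β : MulAut R) (hβ : β ∈ F.autGroup R) (hco : (orderOf β).Coprime p) :
    ∃ E : FusionSystem R, E.IsSaturated p ∧ E.IsSubsystemOf F ∧ β ∈ E.autGroup R ∧
      ∀ (P : Subgroup Ω) (f : Ω → Ω), Mor E P f →
        P ≤ R ∧ ∃ r : R, ∃ h ∈ Subgroup.zpowers β, ∀ x ∈ P, f x = cj (r : Ω) (afun h x) := by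
  classical
  haveI := finite_of_le hR
  haveI : Finite (MulAut ↥R) :=
    Finite.of_injective (fun β : MulAut ↥R => (β : ↥R → ↥R)) DFunLike.coe_injective
  let H := Subgroup.zpowers β
  have hH : (Nat.card ↥H).Coprime p := by rwa [Nat.card_zpowers]
  let ι : ↥R →* SemidirectProduct ↥R ↥H H.subtype := SemidirectProduct.inl
  have hι : Function.Injective ι := SemidirectProduct.inl_injective
  haveI : Finite (SemidirectProduct ↥R ↥H H.subtype) :=
    Finite.of_equiv _ SemidirectProduct.equivProd.symm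
  have hrange : Nat.card ι.range = Nat.card ↥R :=
    Nat.card_congr (MonoidHom.ofInjective hι).symm.toEquiv
  obtain ⟨k, hk⟩ := IsPGroup.iff_card.mp (hS.to_le hR)
  have hcard : Nat.card ι.range =
      p ^ (Nat.card (SemidirectProduct ↥R ↥H H.subtype)).factorization p := by
    have h0 : (Nat.card ↥H).factorization p = 0 :=
      Nat.factorization_eq_zero_of_not_dvd (hp.out.coprime_iff_not_dvd.mp hH.symm)
    rw [hrange, SemidirectProduct.card, hk, Nat.factorization_mul (pow_ne_zero _ hp.out.ne_zero)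
      Nat.card_pos.ne', Finsupp.add_apply, h0, add_zero, hp.out.factorization_pow,
      Finsupp.single_eq_same]
  have hr := FusionSupersolubleCriterion.isRealizedBy_realizedSystem ι hι
  have hmaps : ∀ (P : Subgroup Ω) (f : Ω → Ω),
      Mor (FusionSupersolubleCriterion.realizedSystem ι hι) P f →
        P ≤ R ∧ ∃ r : R, ∃ h ∈ H, ∀ x ∈ P, f x = cj (r : Ω) (afun h x) := by
    intro P f hf
    obtain ⟨hP, hfR, g, hg⟩ := (FusionRealized87.mor_iff hr).mp hf
    refine ⟨hP, g.left, g.right, g.right.2, fun x hx => ?_⟩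
    have h1 := hg x hx
    rw [FusionRealized87.up_apply ι (hfR x hx), FusionRealized87.up_apply ι (hP hx), cj_apply] at h1
    have e : g * ι ⟨x, hP hx⟩ * g⁻¹ =
        ι (g.left * (g.right : MulAut R) ⟨x, hP hx⟩ * g.left⁻¹) := by
      conv_lhs => rw [← SemidirectProduct.inl_left_mul_inr_right g]
      rw [map_mul, map_mul, map_inv,
        show (g.right : MulAut R) ⟨x, hP hx⟩ = H.subtype g.right ⟨x, hP hx⟩ from rfl]
      show _ = SemidirectProduct.inl g.left * SemidirectProduct.inl (H.subtype g.right ⟨x, hP hx⟩) *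
        (SemidirectProduct.inl g.left)⁻¹
      rw [SemidirectProduct.inl_aut, mul_inv_rev, map_inv]
      simp only [mul_assoc, ι]
    have h2 := congrArg Subtype.val (hι (h1.trans e))
    rw [Subgroup.coe_mul, Subgroup.coe_mul, Subgroup.coe_inv, ← afun_coe] at h2
    exact h2
  refine ⟨FusionSupersolubleCriterion.realizedSystem ι hι,
    FusionSupersolubleCriterion.saturated_realizedSystem (p := p) ι hι
      (Sylow.ofCard ι.range hcard) rfl, ?_, ?_, hmaps⟩
  · intro P φ hφ
    have hm : Mor (FusionSupersolubleCriterion.realizedSystem ι hι) P (toFun φ) := mor_toFun hφ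
    obtain ⟨hP, r, h, hh, he⟩ := hmaps _ _ hm
    refine (mor_iff_hom fun x => (toFun_coe φ x).symm).mp ?_
    have h1 : Mor F R (afun h) :=
      (mem_autGroup hR).mp (Subgroup.zpowers_le.mpr hβ hh)
    exact ((h1.restrict_to hP).comp (mor_cj hR (hR r.2))
      fun x hx => afun_mem h (hP hx)).congr fun x hx => (he x hx).symm
  · refine mem_autGroup_of_mor ((FusionRealized87.mor_iff hr).mpr
      ⟨le_rfl, fun x hx => afun_mem β hx, SemidirectProduct.inr ⟨β, Subgroup.mem_zpowers β⟩,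
        fun x hx => ?_⟩)
    rw [FusionRealized87.up_apply ι (afun_mem β hx), FusionRealized87.up_apply ι hx, cj_apply]
    have e : (⟨afun β x, afun_mem β hx⟩ : ↥R) = β ⟨x, hx⟩ := Subtype.ext (afun_apply β hx)
    rw [e, ← map_inv SemidirectProduct.inr]
    exact SemidirectProduct.inl_aut (φ := H.subtype) ⟨β, Subgroup.mem_zpowers β⟩ ⟨x, hx⟩

theorem extremely_sparse [Finite S] (hS : IsPGroup p S) (hF : F.IsSaturated p)
    (hne : ¬ ∀ P : Subgroup Ω, F.Hom P = (innerFusionSystem S).Hom P)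
    (hmin : ∀ (T : Subgroup Ω) (E : FusionSystem T), E.IsSaturated p → E.IsSubsystemOf F →
      (T = S ∧ ∀ P : Subgroup Ω, E.Hom P = F.Hom P) ∨
        ∀ P : Subgroup Ω, E.Hom P = (innerFusionSystem T).Hom P) :
    F.IsNormal S ∧ F.focalSubgroup = S ∧ F.hyperfocalSubgroup p = S ∧
      ∃ (q : ℕ) (β : MulAut ↥S), q.Prime ∧ q ≠ p ∧ β ∈ F.autGroup S ∧ orderOf β = q ∧
        (F.autGroup S : Subgroup (MulAut ↥S)) = Inn ↥S ⊔ Subgroup.zpowers β := by
  classical
  -- a nontrivial automorphism of order prime to `p` lives on `S` and gives all maps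
  have key : ∀ (R : Subgroup Ω), R ≤ S → ∀ β ∈ F.autGroup R, (orderOf β).Coprime p → β ≠ 1 →
      R = S ∧ ∀ (P : Subgroup Ω) (f : Ω → Ω), Mor F P f →
        P ≤ R ∧ ∃ r : R, ∃ h ∈ Subgroup.zpowers β, ∀ x ∈ P, f x = cj (r : Ω) (afun h x) := by
    intro R hR β hβ hco hβ1
    obtain ⟨E, hE, hEF, hβE, hmaps⟩ := exists_semidirect hS hR β hβ hco
    rcases hmin R E hE hEF with ⟨hRS, heq⟩ | heq
    · refine ⟨hRS, fun P f hf => hmaps P f ?_⟩
      obtain ⟨φ, hφ, he⟩ := hf
      exact ⟨φ, (heq P).ge hφ, he⟩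
    exfalso
    haveI := finite_of_le hR
    have hIp : IsPGroup p (Inn R) := (hS.to_le hR).of_surjective _
      (MulAut.conj (G := R)).rangeRestrict_surjective
    have hβI : β ∈ Inn R := by
      obtain ⟨φ, hφ, he⟩ := (mem_autGroup le_rfl).mp hβE
      obtain ⟨-, g, hg, hge⟩ := (heq R).le hφ
      refine ⟨⟨g, hg⟩, MulEquiv.ext fun x => Subtype.ext ?_⟩
      rw [← afun_coe β x, ← he x, hge x]
      rfl
    obtain ⟨k, hk⟩ := hIp ⟨β, hβI⟩
    have hk' : β ^ p ^ k = 1 := congrArg Subtype.val hk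
    exact hβ1 (orderOf_eq_one_iff.mp
      (Nat.eq_one_of_dvd_coprimes (hco.pow_right k) dvd_rfl (orderOf_dvd_of_pow_eq_one hk')))
  obtain ⟨R, hR, α, hα, hαc, hα1⟩ : ∃ R ≤ S, ∃ α ∈ F.autGroup R,
      (orderOf α).Coprime p ∧ α ≠ 1 := by
    by_contra h
    push Not at h
    exact hne (FusionPPower.hom_eq_inner hS hF fun R hR α hα hc => h R hR α hα hc)
  obtain ⟨hRS, -⟩ := key R hR α hα hαc hα1
  subst hRS
  haveI : Finite (MulAut ↥R) :=
    Finite.of_injective (fun β : MulAut ↥R => (β : ↥R → ↥R)) DFunLike.coe_injective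
  obtain ⟨q, hq, hqd⟩ := Nat.exists_prime_and_dvd (fun h => hα1 (orderOf_eq_one_iff.mp h))
  obtain ⟨β, hβdef⟩ : ∃ β, β = α ^ (orderOf α / q) := ⟨_, rfl⟩
  have hβo : orderOf β = q := by
    rw [hβdef, orderOf_pow, Nat.gcd_eq_right (Nat.div_dvd_of_dvd hqd),
      Nat.div_div_self hqd (orderOf_pos α).ne']
  have hqp : q ≠ p := by
    rintro rfl
    exact hq.ne_one (Nat.eq_one_of_dvd_coprimes hαc hqd dvd_rfl)
  have hβ : β ∈ F.autGroup R := hβdef ▸ pow_mem hα _
  have hβc : (orderOf β).Coprime p := by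
    rw [hβo]; exact (Nat.coprime_primes hq hp.out).mpr hqp
  have hβ1 : β ≠ 1 := fun h => hq.ne_one (by rw [← hβo, h, orderOf_one])
  obtain ⟨-, hmaps⟩ := key R le_rfl β hβ hβc hβ1
  -- the hyperfocal subgroup
  let T := Subgroup.closure {y : Ω | ∃ x ∈ R, y = x⁻¹ * afun β x}
  have hTR : T ≤ R := (Subgroup.closure_le R).mpr (by
    rintro _ ⟨x, hx, rfl⟩
    exact R.mul_mem (R.inv_mem hx) (afun_mem β hx))
  have hm := (mem_autGroup le_rfl).mp hβ
  have hTim : ∀ x ∈ T, afun β x ∈ T := by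
    intro x hx
    induction hx using Subgroup.closure_induction with
    | mem y hy =>
      obtain ⟨x, hx, rfl⟩ := hy
      rw [hm.map_mul (R.inv_mem hx) (afun_mem β hx), hm.map_inv hx]
      exact Subgroup.subset_closure ⟨afun β x, afun_mem β hx, rfl⟩
    | one => rw [hm.map_one]; exact T.one_mem
    | mul a b ha hb iha ihb => rw [hm.map_mul (hTR ha) (hTR hb)]; exact T.mul_mem iha ihb
    | inv a ha iha => rw [hm.map_inv (hTR ha)]; exact T.inv_mem iha
  have hT : T = R := by
    by_contra hne'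
    haveI := finite_of_le hTR
    obtain ⟨γ, hγ, hγe⟩ := (hm.restrict_to hTR).exists_aut ((hm.restrict_to hTR).im_self hTim)
    have hγo : γ ^ orderOf β = 1 :=
      FusionNilReduction.pow_eq_one_of_eqOn hTR (α := γ) (γ := β) (fun x hx => (hγe x hx).symm)
        (pow_orderOf_eq_one β)
    have hγ1 : γ = 1 := by
      by_contra hγ1
      exact hne' (key T hTR γ hγ
        (hβc.coprime_dvd_left (orderOf_dvd_of_pow_eq_one hγo)) hγ1).1
    apply hβ1
    refine afun_ext fun x hx => ?_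
    rw [afun_one hx]
    set c := x⁻¹ * afun β x with hc
    have hcT : c ∈ T := Subgroup.subset_closure ⟨x, hx, rfl⟩
    have hcfix : afun β c = c := by rw [← hγe c hcT, hγ1, afun_one hcT]
    have hit : ∀ n : ℕ, afun (β ^ n) x = x * c ^ n := by
      intro n
      induction n with
      | zero => rw [pow_zero, pow_zero, afun_one hx, mul_one]
      | succ n ih =>
        have hcn : afun β (c ^ n) = c ^ n := by
          have h1 : β ⟨c, hTR hcT⟩ = ⟨c, hTR hcT⟩ :=
            Subtype.ext ((afun_apply β (hTR hcT)).symm.trans hcfix)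
          rw [afun_apply β (R.pow_mem (hTR hcT) n),
            show (⟨c ^ n, R.pow_mem (hTR hcT) n⟩ : ↥R) = ⟨c, hTR hcT⟩ ^ n from rfl, map_pow, h1]
          rfl
        rw [pow_succ', afun_mul _ _ hx, ih, hm.map_mul hx (R.pow_mem (hTR hcT) n), hcn, pow_succ',
          ← mul_assoc, hc, mul_inv_cancel_left]
    have h1 := hit (orderOf β)
    rw [pow_orderOf_eq_one, afun_one hx, left_eq_mul] at h1
    obtain ⟨k, hk⟩ := hS ⟨c, hTR hcT⟩
    have h2 : c ^ p ^ k = 1 := congrArg Subtype.val hk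
    have h3 : c ^ Nat.gcd (orderOf β) (p ^ k) = 1 := pow_gcd_eq_one.mpr ⟨h1, h2⟩
    rw [(hβc.pow_right k).gcd_eq_one, pow_one, hc, inv_mul_eq_one] at h3
    exact h3.symm
  have hhyp : R ≤ F.hyperfocalSubgroup p := by
    refine hT.ge.trans ((Subgroup.closure_le _).mpr ?_)
    rintro _ ⟨x, hx, rfl⟩
    exact FusionInduct88.gen_mem_hyperfocal le_rfl hβ hβc hx
  have hfoc : F.focalSubgroup ≤ R := by
    refine (Subgroup.closure_le _).mpr ?_
    rintro _ ⟨P, φ, x, hφ, rfl⟩
    exact R.mul_mem (R.inv_mem ((F.le_of_mem hφ).1 x.2)) ((F.le_of_mem hφ).2 x)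
  have hhf : F.hyperfocalSubgroup p ≤ F.focalSubgroup := by
    refine (Subgroup.closure_le _).mpr ?_
    rintro _ ⟨P, α, x, hP, -, rfl⟩
    refine Subgroup.subset_closure ⟨P, P.subtype.comp (α : MulAut P).toMonoidHom, x, ?_, rfl⟩
    exact (mor_iff_hom fun y => (afun_coe _ y).symm).mp ((mem_autGroup hP).mp α.2)
  refine ⟨?_, le_antisymm hfoc (hhyp.trans hhf), le_antisymm (hhf.trans hfoc) hhyp,
    q, β, hq, hqp, hβ, hβo, le_antisymm ?_ (sup_le (inn_le_autGroup le_rfl)
      (Subgroup.zpowers_le.mpr hβ))⟩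
  · rw [FusionSysNormal.isNormal_iff]
    refine ⟨le_rfl, fun P f hf => ?_⟩
    obtain ⟨hP, r, h, hh, he⟩ := hmaps P f hf
    have hh' : Mor F R (afun h) := (mem_autGroup le_rfl).mp (Subgroup.zpowers_le.mpr hβ hh)
    have hg := hh'.comp (mor_cj le_rfl r.2) fun x hx => afun_mem h hx
    refine ⟨cj (r : Ω) ∘ afun h, by rwa [sup_eq_right.mpr hP], fun x hx => (he x hx).symm,
      hg.im_self fun x hx => R.mul_mem (R.mul_mem r.2 (afun_mem h hx)) (R.inv_mem r.2)⟩
  · intro γ hγ
    obtain ⟨-, r, h, hh, he⟩ := hmaps R (afun γ) ((mem_autGroup le_rfl).mp hγ)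
    have : γ = MulAut.conj r * h := MulEquiv.ext fun x => Subtype.ext (by
      rw [← afun_coe, he x x.2, cj_apply, afun_coe]
      rfl)
    rw [this]
    exact Subgroup.mul_mem_sup ⟨r, rfl⟩ hh

end Cfsg.Agent.FusionExtremelySparse89
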