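import Cfsg.Agent.S5137
import Cfsg.Agent.S5150

/-!
Elementary facts about central products and generalized Fitting subsystems.
-/

set_option autoImplicit false

namespace Cfsg.Agent.FusionFittingBasic

open Cfsg Cfsg.FusionSystem Cfsg.Agent.FusionSysBasic Cfsg.Agent.FusionSysSaturated
open Cfsg.Agent.FusionSysNormal Cfsg.Agent.FusionKit88 Cfsg.Agent.FusionMorph88

variable {Ω : Type*} [Group Ω] {A B U : Subgroup Ω} {E₁ : FusionSystem A} {E₂ : FusionSystem B}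
  {D : FusionSystem U} {θ : ↥(A.prod B) →* Ω}
  (h1 : ∀ (x : Ω) (hx : ((x, 1) : Ω × Ω) ∈ A.prod B), θ ⟨(x, 1), hx⟩ = x)
  (h2 : ∀ (y : Ω) (hy : ((1, y) : Ω × Ω) ∈ A.prod B), θ ⟨(1, y), hy⟩ = y)

include h1 h2

theorem app_mul_eq {x y : Ω} (hx : x ∈ A) (hy : y ∈ B) : app θ (x, y) = x * y := by
  have ha : ((x, 1) : Ω × Ω) ∈ A.prod B := ⟨hx, one_mem _⟩
  have hb : ((1, y) : Ω × Ω) ∈ A.prod B := ⟨one_mem _, hy⟩
  rw [app_apply θ (⟨hx, hy⟩ : ((x, y) : Ω × Ω) ∈ A.prod B)]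
  conv_rhs => rw [← h1 x ha, ← h2 y hb, ← map_mul]
  exact congrArg θ (Subtype.ext (Prod.ext (mul_one x).symm (one_mul y).symm))

theorem commute {x y : Ω} (hx : x ∈ A) (hy : y ∈ B) : x * y = y * x := by
  have ha : ((x, 1) : Ω × Ω) ∈ A.prod B := ⟨hx, one_mem _⟩
  have hb : ((1, y) : Ω × Ω) ∈ A.prod B := ⟨one_mem _, hy⟩
  rw [← h1 x ha, ← h2 y hb, ← map_mul, ← map_mul]
  exact congrArg θ (Subtype.ext (Prod.ext ((mul_one x).trans (one_mul x).symm)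
    ((one_mul y).trans (mul_one y).symm)))

theorem left_le {Z : Subgroup (Ω × Ω)} {D₀ : FusionSystem (A.prod B)}
    (hfac : D₀.IsFactorSystem Z θ D) : A ≤ U :=
  fun x hx => hfac.2.2.1.le ⟨⟨(x, 1), hx, one_mem _⟩, h1 x _⟩

theorem right_le {Z : Subgroup (Ω × Ω)} {D₀ : FusionSystem (A.prod B)}
    (hfac : D₀.IsFactorSystem Z θ D) : B ≤ U :=
  fun y hy => hfac.2.2.1.le ⟨⟨(1, y), one_mem _, hy⟩, h2 y _⟩

/-- A map of the second factor is a map of the central product. -/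
theorem mor_right {D₀ : FusionSystem (A.prod B)} (hprod : IsProductSystem E₁ E₂ D₀)
    {Z : Subgroup (Ω × Ω)} (hZ : Z ≤ D₀.center) (hfac : D₀.IsFactorSystem Z θ D) [Finite A]
    [Finite B] {P : Subgroup Ω} {f : Ω → Ω} (hf : Mor E₂ P f) : Mor D P f := by
  have hPB := hf.le
  set X₀ : Subgroup (Ω × Ω) := (⊥ : Subgroup Ω).prod P with hX₀
  have hX₀le : X₀ ≤ A.prod B := fun w hw => ⟨(Subgroup.mem_bot.1 hw.1).symm ▸ one_mem _, hPB hw.2⟩
  have hm : Mor D₀ X₀ (fun w => (w.1, f w.2)) := (S5137.mor_prod hprod).2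
    ⟨hX₀le, id, f, (mor_id (F := E₁) (P := S5137.P₁ X₀) (fun x ⟨w, hw, e⟩ => e ▸ (hX₀le hw).1)),
      hf.restrict_to (fun y ⟨w, hw, e⟩ => e ▸ hw.2), fun w _ => rfl⟩
  have hfm : ∀ y ∈ P, f y ∈ B := fun y hy => hf.apply_mem hy
  haveI : Finite ↥(A.prod B) := Finite.of_equiv _ (Subgroup.prodEquiv A B).symm.toEquiv
  obtain ⟨ψ, hψ, hψe, hψZ⟩ := (isCentral_iff.1 center_isCentral).2 X₀ _ hm
  have hpre : preimageAlong θ P ≤ X₀ ⊔ D₀.center := by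
    intro w hw
    obtain ⟨hwAB, hwP⟩ := mem_preimageAlong.1 hw
    have hv : ((1, app θ w) : Ω × Ω) ∈ X₀ := ⟨one_mem _, hwP⟩
    have hz : (1, app θ w)⁻¹ * w ∈ Z := by
      have hvAB : ((1, app θ w) : Ω × Ω) ∈ A.prod B := hX₀le hv
      refine (hfac.2.1 ⟨_, (A.prod B).mul_mem ((A.prod B).inv_mem hvAB) hwAB⟩).1 ?_
      rw [← app_apply θ, app_mul ((A.prod B).inv_mem hvAB) hwAB, app_inv hvAB,
        app_mul_eq h1 h2 (one_mem _) (hPB hwP), one_mul, inv_mul_cancel]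
    have := mul_mem (Subgroup.mem_sup_left (T := D₀.center) hv)
      (Subgroup.mem_sup_right (S := X₀) (hZ hz))
    rwa [mul_inv_cancel_left] at this
  refine (factor_mor hfac).2 ⟨hPB.trans (right_le h1 h2 hfac), ψ, hψ.restrict_to hpre,
    fun w hw => ?_⟩
  obtain ⟨hwAB, hwP⟩ := mem_preimageAlong.1 hw
  have hv : ((1, app θ w) : Ω × Ω) ∈ X₀ := ⟨one_mem _, hwP⟩
  have hvAB : ((1, app θ w) : Ω × Ω) ∈ A.prod B := hX₀le hv
  have hz : (1, app θ w)⁻¹ * w ∈ Z := by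
    refine (hfac.2.1 ⟨_, (A.prod B).mul_mem ((A.prod B).inv_mem hvAB) hwAB⟩).1 ?_
    rw [← app_apply θ, app_mul ((A.prod B).inv_mem hvAB) hwAB, app_inv hvAB,
      app_mul_eq h1 h2 (one_mem _) (hPB hwP), one_mul, inv_mul_cancel]
  have hzAB : (1, app θ w)⁻¹ * w ∈ A.prod B := (A.prod B).mul_mem ((A.prod B).inv_mem hvAB) hwAB
  have hθz : app θ ((1, app θ w)⁻¹ * w) = 1 := by
    rw [app_apply θ hzAB]
    exact (hfac.2.1 ⟨_, hzAB⟩).2 hz
  have hw' : w = (1, app θ w) * ((1, app θ w)⁻¹ * w) := (mul_inv_cancel_left _ _).symm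
  have hfv : ψ (1, app θ w) = (1, f (app θ w)) := hψe _ hv
  conv_rhs => rw [hw', hψ.map_mul (Subgroup.mem_sup_left hv) (Subgroup.mem_sup_right (hZ hz)),
    hfv, hψZ _ (hZ hz)]
  rw [app_mul (show ((1, f (app θ w)) : Ω × Ω) ∈ A.prod B from ⟨one_mem _, hfm _ hwP⟩) hzAB, hθz,
    app_mul_eq h1 h2 (one_mem _) (hfm _ hwP), one_mul, mul_one]

end Cfsg.Agent.FusionFittingBasic
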