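import Mathlib
import Cfsg.Agent.Lib.FusionEssential88

/-!
Extension of automorphisms of a fully normalized subgroup carrying an invariant flag with factors
of prime order.
-/

set_option autoImplicit false

namespace Cfsg.Agent.FusionFlag94

open scoped commutatorElement
open Cfsg Cfsg.FusionSystem Cfsg.Agent.FusionSysBasic Cfsg.Agent.FusionSysSaturated
  Cfsg.Agent.FusionSysNormal Cfsg.Agent.FusionSysChain Cfsg.Agent.FusionSysAlperin

variable {Ω : Type*} [Group Ω] {S : Subgroup Ω} [Finite S] {p : ℕ} [Fact p.Prime]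
  {F : FusionSystem S}

/-- An automorphism normalizing `Aut_S(P)` extends to `N_S(P)`, with image `N_S(P)`. -/
theorem extend_of_normalizes (hS : IsPGroup p S) (hF : F.IsSaturated p) {P : Subgroup Ω}
    (hP : F.IsFullyNormalized P) {α : MulAut P} (hα : α ∈ F.autGroup P)
    (hn : ∀ g : ↥(S ⊓ Subgroup.normalizer (P : Set Ω)),
      α * nHom S P g * α⁻¹ ∈ autInducedBy S P) :
    ∃ f, Mor F (normalizerIn S P) f ∧ (∀ x ∈ normalizerIn S P, f x ∈ normalizerIn S P) ∧
      ∀ x ∈ P, f x = afun α x := by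
  have hPS := hP.1
  obtain ⟨-, hrec⟩ := receptive_iff.mp (receptive_of_fullyNormalized hS hF hP)
  obtain ⟨f, hf, hag⟩ := hrec P (afun α) (normalizerIn S P) ((mem_autGroup hPS).mp hα) (im_afun α)
    inf_le_left inf_le_right (fun g hg => by
      obtain ⟨k, hk, -, hke⟩ := mem_autInducedBy.mp (hn ⟨g, hg⟩)
      refine ⟨k, hk, fun x hx => ?_⟩
      rw [← hke _ (afun_mem α hx), afun_mul _ _ (afun_mem α hx), afun_inv_apply α hx,
        afun_mul _ _ hx, afun_nHom _ hx])
  rw [sup_normalizerIn hPS] at hf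
  refine ⟨f, hf, fun x hx => ?_, hag⟩
  have him : im P f = P := (im_congr fun y hy => hag y hy).trans (im_afun α)
  refine ⟨hf.apply_mem hx, mem_normalizer_of_cj_le hPS fun y hy => ?_⟩
  rw [← him] at hy
  obtain ⟨z, hz, rfl⟩ := (hf.restrict_to (le_normalizerIn hPS)).mem_im.mp hy
  rw [← hf.map_cj hx (le_normalizerIn hPS hz), hag _ (cj_mem_of_normalizer hx.2 hz)]
  exact afun_mem α (cj_mem_of_normalizer hx.2 hz)

/-- Every automorphism in the system of a fully normalized subgroup with an invariant flag of prime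
steps extends to its normalizer. -/
theorem extend_of_flag (hS : IsPGroup p S) (hF : F.IsSaturated p) {P : Subgroup Ω}
    (hP : F.IsFullyNormalized P) {n : ℕ} (Y : ℕ → Subgroup Ω) (h0 : Y 0 = ⊥) (hn : Y n = P)
    (hmono : ∀ i < n, Y i ≤ Y (i + 1)) (hYP : ∀ i ≤ n, Y i ≤ P)
    (hstep : ∀ i < n, Nat.card (Y (i + 1)) = Nat.card (Y i) * p)
    (hinv : ∀ α ∈ F.autGroup P, ∀ i ≤ n, ∀ y ∈ Y i, afun α y ∈ Y i)
    {α : MulAut P} (hα : α ∈ F.autGroup P) :
    ∃ f, Mor F (normalizerIn S P) f ∧ (∀ x ∈ normalizerIn S P, f x ∈ normalizerIn S P) ∧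
      ∀ x ∈ P, f x = afun α x := by
  refine extend_of_normalizes hS hF hP hα fun g => ?_
  have hPS := hP.1
  haveI := finite_autGroup (F := F) P
  let N := normalizerIn S P
  have hPN : P ≤ N := le_normalizerIn hPS
  haveI := finite_normalizerIn (S := S) P
  have hnorm : ∀ i ≤ n, ((Y i).subgroupOf N).Normal := by
    intro i hi
    refine ⟨fun m hm x => ?_⟩
    have h := hinv (nHom S P ⟨x, x.2⟩) (autInducedBy_le hPS
      (by rw [autInducedBy_eq_range]; exact ⟨_, rfl⟩)) i hi _ hm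
    rw [afun_nHom (K := S) _ (hYP i hi hm)] at h
    exact h
  have hstab : ∀ x ∈ N, ∀ i < n, ∀ y ∈ Y (i + 1), y⁻¹ * cj x y ∈ Y i := by
    intro x hx i hi y hy
    haveI := hnorm i hi.le
    haveI := hnorm (i + 1) hi
    have hy' : (⟨y, hPN (hYP _ hi hy)⟩ : N) ∈ (Y (i + 1)).subgroupOf N := hy
    have := PGroupsCritical.commutator_mem_of_succ (p := p) (G := N) (hS.to_le (inf_le_left : N ≤ S))
      (A := (Y i).subgroupOf N) (B := (Y (i + 1)).subgroupOf N) (fun z hz => hmono i hi hz)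
      (by rw [Nat.card_congr (Subgroup.subgroupOfEquivOfLe ((hYP _ hi).trans hPN)).toEquiv,
        Nat.card_congr (Subgroup.subgroupOfEquivOfLe ((hYP i hi.le).trans hPN)).toEquiv, hstep i hi])
      (inv_mem hy') (⟨x, hx⟩ : N)
    have h2 : ⁅x, y⁻¹⁆ ∈ Y i := this
    rw [cj_div_eq]
    exact inv_mem h2
  let M := stabGroup (F.autGroup P) Y n hYP hinv
  have hgM : nHom S P g ∈ M := by
    refine ⟨autInducedBy_le hPS (by rw [autInducedBy_eq_range]; exact ⟨_, rfl⟩), fun i hi y hy => ?_⟩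
    rw [afun_nHom g (hYP _ hi hy)]
    exact hstab g g.2 i hi y hy
  have hαg : α * nHom S P g * α⁻¹ ∈ M := stabGroup_normal hα hgM
  obtain ⟨T, hT⟩ := (fullyAutomized_of_fullyNormalized hS hF hP).2
  let M' : Subgroup (F.autGroup P) := M.subgroupOf (F.autGroup P)
  have hMn : M'.Normal := ⟨fun m hm a => stabGroup_normal (hYP := hYP) (hinv := hinv) a.2 hm⟩
  have hMp : IsPGroup p M' := (isPGroup_stabGroup hS hPS h0 hn hmono).of_equiv
    (Subgroup.subgroupOfEquivOfLe (fun m hm => hm.1 : M ≤ F.autGroup P)).symm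
  haveI := hMn
  have hMT : M' ≤ (T : Subgroup (F.autGroup P)) := by
    have h2 := T.3 (T.2.to_sup_of_normal_right hMp) le_sup_left
    exact h2 ▸ le_sup_right
  have h3 : (⟨α * nHom S P g * α⁻¹, hαg.1⟩ : F.autGroup P) ∈ (T : Subgroup (F.autGroup P)) :=
    hMT hαg
  rw [hT] at h3
  exact h3

end Cfsg.Agent.FusionFlag94
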