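import Cfsg.Agent.Lib.FusionFpfSetup20
import Cfsg.Agent.Lib.FusionSysAlperin
import Cfsg.Agent.Lib.HallCore

/-!
Automizers of all subgroups have order prime to `r` as soon as those of the centric radical subgroups
have, and the translation of the morphism hypothesis of S5277.
-/

set_option autoImplicit false

namespace Cfsg.Agent.FusionFpf20

open Cfsg Cfsg.FusionSystem Cfsg.Agent.FusionSysBasic Cfsg.Agent.FusionSysSaturated
open Cfsg.Agent.FusionMorph88

universe u

variable {Ω : Type u} [Group Ω] {S : Subgroup Ω} {F : FusionSystem S} [Finite S]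

/-- An element of prime order of `Aut_F(Q)` extending to an overgroup gives a divisor there. -/
theorem dvd_card_of_extends {r : ℕ} (hr : r.Prime) {Q N : Subgroup Ω} (hQN : Q ≤ N) (hNS : N ≤ S)
    (hdvd : r ∣ Nat.card (F.autGroup Q))
    (hext : ∀ α ∈ F.autGroup Q, ∃ f, Mor F N f ∧ (∀ x ∈ N, f x ∈ N) ∧ ∀ x ∈ Q, f x = afun α x) :
    r ∣ Nat.card (F.autGroup N) := by
  haveI : Fact r.Prime := ⟨hr⟩
  haveI := finite_autGroup (F := F) Q
  haveI := finite_autGroup (F := F) N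
  obtain ⟨⟨α, hα⟩, hαr⟩ := exists_prime_orderOf_dvd_card' r hdvd
  rw [Subgroup.orderOf_mk] at hαr
  obtain ⟨f, hf, hfN, hfQ⟩ := hext α hα
  obtain ⟨β, hβ, hβe⟩ := hf.exists_aut (hf.im_self hfN)
  have hpow : ∀ k : ℕ, ∀ x ∈ Q, afun (β ^ k) x = afun (α ^ k) x := by
    intro k
    induction k with
    | zero =>
      intro x hx
      rw [pow_zero, pow_zero, afun_one (hQN hx), afun_one hx]
    | succ k ih =>
      intro x hx
      rw [pow_succ, pow_succ, afun_mul _ _ (hQN hx), afun_mul _ _ hx, hβe x (hQN hx), hfQ x hx,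
        ih _ (afun_mem α hx)]
  have h1 : α ^ orderOf β = 1 := afun_ext fun x hx => by
    rw [← hpow _ x hx, pow_orderOf_eq_one, afun_one (hQN hx), afun_one hx]
  have h2 : orderOf β ∣ Nat.card (F.autGroup N) := by
    rw [← Subgroup.orderOf_mk β hβ]
    exact orderOf_dvd_natCard _
  exact (hαr ▸ orderOf_dvd_of_pow_eq_one h1 : r ∣ orderOf β).trans h2

variable {p : ℕ} [Fact p.Prime] (hS : IsPGroup p S) (hF : F.IsSaturated p)

include hS hF

/-- A fully normalized subgroup which is not centric: every automorphism extends to `Q C_S(Q)`. -/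
theorem exists_extend_centralizer {Q : Subgroup Ω} (hQ : F.IsFullyNormalized Q) {α : MulAut Q}
    (hα : α ∈ F.autGroup Q) :
    ∃ f, Mor F (Q ⊔ centralizerIn S Q) f ∧
      (∀ x ∈ Q ⊔ centralizerIn S Q, f x ∈ Q ⊔ centralizerIn S Q) ∧ ∀ x ∈ Q, f x = afun α x := by
  obtain ⟨f, hf, hag, hC⟩ := exists_extension_centralizer (receptive_of_fullyNormalized hS hF hQ)
    ((mem_autGroup hQ.1).1 hα) (im_afun α)
  refine ⟨f, hf, fun x hx => mor_sup_induction hf (fun a ha => ?_)
    (fun c hc => Subgroup.mem_sup_right (hC c hc)) hx, hag⟩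
  rw [hag a ha]
  exact Subgroup.mem_sup_left (afun_mem α ha)

/-- A fully normalized subgroup which is not radical has a proper overgroup in its normalizer to
which every automorphism extends. -/
theorem exists_extend_of_not_radical {Q : Subgroup Ω} (hQ : F.IsFullyNormalized Q)
    (hrad : ¬ F.IsRadical p Q) :
    ∃ N : Subgroup Ω, N ≤ S ∧ Q < N ∧ ∀ α ∈ F.autGroup Q,
      ∃ f, Mor F N f ∧ (∀ x ∈ N, f x ∈ N) ∧ ∀ x ∈ Q, f x = afun α x := by
  classical
  have hQS := hQ.1
  haveI := finite_autGroup (F := F) Q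
  set A := F.autGroup Q
  set M : Subgroup (MulAut Q) := (Cfsg.pCore p A).map A.subtype with hM
  obtain ⟨-, T, hT⟩ := fullyAutomized_of_fullyNormalized hS hF hQ
  have hMS : M ≤ autInducedBy S Q := by
    refine (Subgroup.map_mono (HallCore.pCore_le_sylow T)).trans ?_
    rw [hT]
    rintro _ ⟨a, ha, rfl⟩
    exact ha
  haveI := FusionSysAlperin.inn_normal F Q
  have hIM : Inn Q ≤ M := fun α hα =>
    ⟨⟨α, inn_le_autGroup hQS hα⟩, HallCore.le_pCore (N := (Inn Q).subgroupOf A)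
      (((hS.to_le hQS).of_surjective (MulAut.conj (G := Q)).rangeRestrict
        (MonoidHom.rangeRestrict_surjective _)).of_equiv
        (Subgroup.subgroupOfEquivOfLe (inn_le_autGroup hQS)).symm) hα, rfl⟩
  obtain ⟨m, hmM, hmI⟩ : ∃ m ∈ M, m ∉ Inn Q := by
    by_contra h
    refine hrad ⟨hQS, le_antisymm (fun m hm => ?_) hIM⟩
    by_contra hmI
    exact h ⟨m, hm, hmI⟩
  -- the preimage of `M` in the normalizer
  let N : Subgroup Ω := (M.comap (nHom S Q)).map (normalizerIn S Q).subtype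
  have hNmem : ∀ g : Ω, g ∈ N ↔ ∃ hg : g ∈ normalizerIn S Q, nHom S Q ⟨g, hg⟩ ∈ M := by
    intro g
    constructor
    · rintro ⟨⟨g, hg⟩, hm, rfl⟩
      exact ⟨hg, hm⟩
    · rintro ⟨hg, hm⟩
      exact ⟨⟨g, hg⟩, hm, rfl⟩
  have hNn : N ≤ normalizerIn S Q := fun g hg => ((hNmem g).1 hg).1
  have hinn : ∀ (g : Ω) (hg : g ∈ normalizerIn S Q), g ∈ Q → nHom S Q ⟨g, hg⟩ ∈ Inn Q := by
    intro g hg hgQ
    rw [← autInducedBy_self]
    exact mem_autInducedBy.2 ⟨g, hgQ, hg.2, fun x hx => afun_nHom _ hx⟩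
  have hQN : Q ≤ N := fun g hg =>
    (hNmem g).2 ⟨le_normalizerIn hQS hg, hIM (hinn g (le_normalizerIn hQS hg) hg)⟩
  have hlt : Q < N := by
    obtain ⟨g, hg, hgn, hge⟩ := mem_autInducedBy.1 (hMS hmM)
    have heq : nHom S Q ⟨g, hg, hgn⟩ = m := afun_ext fun x hx => by
      rw [afun_nHom _ hx, hge x hx]
    refine lt_of_le_of_ne hQN fun e => hmI ?_
    have hgN : g ∈ N := (hNmem g).2 ⟨⟨hg, hgn⟩, heq ▸ hmM⟩
    rw [← e] at hgN
    exact heq ▸ hinn g _ hgN
  refine ⟨N, hNn.trans inf_le_left, hlt, fun α hα => ?_⟩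
  have hMn : ∀ x ∈ M, α * x * α⁻¹ ∈ M := by
    rintro _ ⟨x, hx, rfl⟩
    exact ⟨⟨α, hα⟩ * x * (⟨α, hα⟩ : A)⁻¹, Subgroup.Normal.conj_mem inferInstance x hx _, rfl⟩
  have hmor := (mem_autGroup hQS).1 hα
  have hstep : ∀ g ∈ N, ∃ h ∈ S, ∀ x ∈ Q, afun α (cj g x) = cj h (afun α x) := by
    intro g hg
    obtain ⟨hgn, hgm⟩ := (hNmem g).1 hg
    obtain ⟨h, hh, -, he⟩ := mem_autInducedBy.1 (hMS (hMn _ hgm))
    refine ⟨h, hh, fun x hx => ?_⟩
    rw [← he _ (afun_mem α hx), afun_mul _ _ (afun_mem α hx), afun_inv_apply α hx,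
      afun_mul _ _ hx, afun_nHom _ hx]
  obtain ⟨f, hf, hag⟩ := (receptive_iff.1 (receptive_of_fullyNormalized hS hF hQ)).2 Q (afun α) N
    hmor (im_afun α) (hNn.trans inf_le_left) (hNn.trans inf_le_right) hstep
  rw [sup_eq_right.2 hQN] at hf
  refine ⟨f, hf, fun g hg => ?_, hag⟩
  obtain ⟨hgn, hgm⟩ := (hNmem g).1 hg
  have hcj : ∀ x ∈ Q, cj (f g) (afun α x) = afun α (cj g x) := fun x hx => by
    rw [← hag x hx, ← hf.map_cj hg (hQN hx), hag _ (cj_mem_of_normalizer hgn.2 hx)]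
  have hfn : f g ∈ normalizerIn S Q := ⟨hf.apply_mem hg, mem_normalizer_of_cj_le hQS fun x hx => by
    have h1 : afun α (afun α⁻¹ x) = x := afun_apply_inv α hx
    rw [← h1, hcj _ (afun_mem α⁻¹ hx)]
    exact afun_mem α (cj_mem_of_normalizer hgn.2 (afun_mem α⁻¹ hx))⟩
  refine (hNmem _).2 ⟨hfn, ?_⟩
  have e : nHom S Q ⟨f g, hfn⟩ = α * nHom S Q ⟨g, hgn⟩ * α⁻¹ := afun_ext fun x hx => by
    rw [afun_nHom _ hx, afun_mul _ _ hx, afun_mul _ _ (afun_mem α⁻¹ hx),
      afun_nHom _ (afun_mem α⁻¹ hx)]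
    conv_lhs => rw [← afun_apply_inv α hx]
    exact hcj _ (afun_mem α⁻¹ hx)
  rw [e]
  exact hMn _ hgm

/-- If `r` divides no automizer of a centric radical subgroup, it divides no automizer. -/
theorem aut_of_centric_radical {r : ℕ} (hr : r.Prime)
    (hcr : ∀ R, F.IsCentric R → F.IsRadical p R → ¬ r ∣ Nat.card (F.autGroup R)) :
    ∀ R ≤ S, ¬ r ∣ Nat.card (F.autGroup R) := by
  suffices ∀ (n : ℕ) (R : Subgroup Ω), R ≤ S → Nat.card S - Nat.card R ≤ n →
      ¬ r ∣ Nat.card (F.autGroup R) from fun R hR => this _ R hR le_rfl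
  intro n
  induction n using Nat.strong_induction_on with
  | _ n IH =>
    intro R hR hn hdvd
    obtain ⟨Q, hRQ, hQ⟩ := exists_fullyNormalized (F := F) hR
    have hQS := hQ.1
    rw [isConj_card_autGroup hRQ] at hdvd
    rw [isConj_card hRQ] at hn
    -- it suffices to extend all automorphisms to a proper overgroup
    have key : ∀ N : Subgroup Ω, N ≤ S → Q < N → (∀ α ∈ F.autGroup Q,
        ∃ f, Mor F N f ∧ (∀ x ∈ N, f x ∈ N) ∧ ∀ x ∈ Q, f x = afun α x) → False := by
      intro N hNS hlt hext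
      haveI := finite_of_le hNS
      have h1 : Nat.card Q < Nat.card N := lt_of_le_of_ne (Subgroup.card_le_of_le hlt.le)
        fun e => hlt.ne (eq_of_le_of_card_ge hNS hlt.le e.ge)
      have h2 : Nat.card N ≤ Nat.card S := Subgroup.card_le_of_le hNS
      exact IH (Nat.card S - Nat.card N) (by omega) N hNS le_rfl
        (dvd_card_of_extends hr hlt.le hNS hdvd hext)
    by_cases hc : centralizerIn S Q ≤ Q
    · by_cases hrad : F.IsRadical p Q
      · exact hcr Q (FusionSysAlperin.centric_of_fullyCentralized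
          (fullyCentralized_of_fullyNormalized hS hF hQ) hc) hrad hdvd
      · obtain ⟨N, hNS, hlt, hext⟩ := exists_extend_of_not_radical hS hF hQ hrad
        exact key N hNS hlt hext
    · refine key (Q ⊔ centralizerIn S Q) (sup_le hQS inf_le_left)
        (lt_of_le_of_ne le_sup_left fun e => hc (le_sup_right.trans e.ge))
        fun α hα => exists_extend_centralizer hS hF hQ hα

omit hS hF [Fact p.Prime] [Finite S] in
/-- An endomorphism of the system given by an automorphism of `S`, in the language of `Mor`. -/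
theorem mor_of_isMorphism (a : MulAut S)
    (hmor : F.IsMorphism F (S.subtype.comp a.toMonoidHom)) :
    ∀ (P : Subgroup Ω) (f : Ω → Ω), Mor F P f →
      ∃ g, Mor F (im P (ext a)) g ∧ ∀ x ∈ P, g (ext a x) = ext a (f x) := by
  intro P f hf
  obtain ⟨g, hg, hge⟩ := morphism_mor hmor hf
  exact ⟨g, hg.restrict_to (im_le_iff.2 fun x hx => app_mem_imageAlong hx hf.le), hge⟩

end Cfsg.Agent.FusionFpf20
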