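import Cfsg.Agent.Lib.FusionFpfSetup20
import Cfsg.Agent.Lib.FlavellReduce20

/-!
Automizers of invariant normal subgroups in a fusion system with a fixed-point-free automorphism of
coprime prime order: `Aut_S(Q)` is normal in `Aut_F(Q)`.
-/

set_option autoImplicit false

namespace Cfsg.Agent.FusionFpf20

open Cfsg Cfsg.FusionSystem Cfsg.Agent.FusionSysBasic Cfsg.Agent.FusionMorph88
open Cfsg.Agent.FusionSysSaturated Cfsg.Agent.FusionWeakAlperin

universe u

variable {Ω : Type u} [Group Ω] {S : Subgroup Ω} [Finite S] {p r : ℕ} [hp : Fact p.Prime]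
  {F : FusionSystem S} {a : MulAut S}

omit [Finite S] in
theorem ext_mul (a : MulAut S) {x y : Ω} (hx : x ∈ S) (hy : y ∈ S) :
    ext a (x * y) = ext a x * ext a y :=
  app_mul hx hy

omit [Finite S] in
theorem ext_inj (a : MulAut S) {x y : Ω} (hx : x ∈ S) (hy : y ∈ S) (h : ext a x = ext a y) :
    x = y := by
  rw [ext_apply a hx, ext_apply a hy] at h
  exact congrArg Subtype.val (a.injective (Subtype.ext h))

omit [Finite S] in
theorem ext_cj (a : MulAut S) {g x : Ω} (hg : g ∈ S) (hx : x ∈ S) :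
    ext a (cj g x) = cj (ext a g) (ext a x) :=
  app_cj hg hx

omit [Finite S] hp in
theorem Hyp.fixed (h : Hyp p r F a) {x : Ω} (hx : x ∈ S) (he : ext a x = x) : x = 1 := by
  rw [ext_apply a hx] at he
  exact congrArg Subtype.val (h.fix ⟨x, hx⟩ (Subtype.ext he))

/-- `r ≠ p`. -/
theorem Hyp.hrp (h : Hyp p r F a) (hne : S ≠ ⊥) : r ≠ p := by
  classical
  intro hrp
  haveI : Fintype S := Fintype.ofFinite S
  have hd : p ∣ Fintype.card S := by
    rw [← Nat.card_eq_fintype_card]
    obtain ⟨k, hk⟩ := IsPGroup.iff_card.1 h.hS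
    rcases Nat.eq_zero_or_pos k with rfl | hk'
    · exact absurd (Subgroup.eq_bot_of_card_eq _ (by simpa using hk)) hne
    · rw [hk]; exact dvd_pow_self p hk'.ne'
  have hpow : ∀ (m : ℕ) (x : S), ((MulEquiv.toEquiv a) ^ m : Equiv.Perm S) x = (a ^ m) x := by
    intro m
    induction m with
    | zero => intro x; rfl
    | succ m ih =>
      intro x
      rw [pow_succ, pow_succ, MulAut.mul_apply, ← ih]
      rfl
  obtain ⟨b, hb, hb1⟩ := Equiv.Perm.exists_fixed_point_of_prime' (p := p) (n := 1) hd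
    (σ := MulEquiv.toEquiv a) (Equiv.ext fun x => by rw [hpow, pow_one, ← hrp, h.pow]; rfl)
    (a := (1 : S)) (map_one a)
  exact hb1 (h.fix b hb)

/-- The restriction of `a` to an invariant subgroup. -/
theorem exists_res (h : Hyp p r F a) {Q : Subgroup Ω} (hQS : Q ≤ S) (hQ : AInv a Q) :
    ∃ aQ : MulAut Q, (∀ x : Q, ((aQ x : Q) : Ω) = ext a x) ∧ aQ ^ r = 1 ∧
      (∀ x : Q, aQ x = x → x = 1) := by
  haveI := finite_of_le hQS
  let f : Q →* Q := MonoidHom.mk' (fun x => ⟨ext a x, hQ x x.2⟩)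
    (fun x y => Subtype.ext (ext_mul a (hQS x.2) (hQS y.2)))
  have hf : Function.Injective f := fun x y e => Subtype.ext
    (ext_inj a (hQS x.2) (hQS y.2) (congrArg Subtype.val e))
  let aQ : MulAut Q := MulEquiv.ofBijective f ⟨hf, Finite.injective_iff_surjective.1 hf⟩
  have hval : ∀ x : Q, ((aQ x : Q) : Ω) = ext a x := fun x => rfl
  refine ⟨aQ, hval, MulEquiv.ext fun x => ?_, fun x hx => Subtype.ext (h.fixed (hQS x.2) (by
    rw [← hval, hx]))⟩
  have hpow : ∀ m : ℕ, (((aQ ^ m) x : Q) : Ω) = ((a ^ m) ⟨x, hQS x.2⟩ : S) := by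
    intro m
    induction m with
    | zero => rfl
    | succ m ih =>
      rw [pow_succ', pow_succ', MulAut.mul_apply, MulAut.mul_apply, hval,
        ext_apply a (hQS (((aQ ^ m) x).2))]
      congr 2
      exact Subtype.ext ih
  refine Subtype.ext ?_
  rw [hpow, h.pow]
  rfl

omit hp in
/-- The restriction normalises `Aut_F(Q)`. -/
theorem res_conj_mem (h : Hyp p r F a) {Q : Subgroup Ω} (hQS : Q ≤ S) {aQ : MulAut Q}
    (hval : ∀ x : Q, ((aQ x : Q) : Ω) = ext a x) {β : MulAut Q} (hβ : β ∈ F.autGroup Q) :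
    aQ * β * aQ⁻¹ ∈ F.autGroup Q := by
  haveI := finite_of_le hQS
  obtain ⟨g, hg, hge⟩ := h.mor Q (afun β) ((mem_autGroup hQS).1 hβ)
  have hle : Q ≤ im Q (ext a) := fun x hx => by
    have h1 : ext a ((aQ⁻¹ ⟨x, hx⟩ : Q) : Ω) = x := by
      rw [← hval]
      exact congrArg Subtype.val (aQ.apply_symm_apply ⟨x, hx⟩)
    exact h1 ▸ apply_mem_im (aQ⁻¹ ⟨x, hx⟩).2
  refine mem_autGroup_of_mor ((hg.restrict_to hle).congr fun x hx => ?_)
  rw [afun_apply _ hx, MulAut.mul_apply, MulAut.mul_apply, hval, ← afun_coe,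
    ← hge _ (aQ⁻¹ ⟨x, hx⟩).2, ← hval]
  exact congrArg g (congrArg Subtype.val (aQ.apply_symm_apply ⟨x, hx⟩)).symm

omit hp in
/-- The restriction normalises `Aut_S(Q)`. -/
theorem res_conj_autInducedBy {Q : Subgroup Ω} (hQS : Q ≤ S) {aQ : MulAut Q}
    (hval : ∀ x : Q, ((aQ x : Q) : Ω) = ext a x) {β : MulAut Q}
    (hβ : β ∈ autInducedBy S Q) : aQ * β * aQ⁻¹ ∈ autInducedBy S Q := by
  haveI := finite_of_le hQS
  obtain ⟨g, hg, -, hge⟩ := mem_autInducedBy.1 hβ
  have he : ∀ x ∈ Q, afun (aQ * β * aQ⁻¹) x = cj (ext a g) x := fun x hx => by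
    rw [afun_apply _ hx, MulAut.mul_apply, MulAut.mul_apply, hval, ← afun_coe,
      hge _ (aQ⁻¹ ⟨x, hx⟩).2, ext_cj a hg (hQS (aQ⁻¹ ⟨x, hx⟩).2), ← hval]
    exact congrArg (cj _) (congrArg Subtype.val (aQ.apply_symm_apply ⟨x, hx⟩))
  refine mem_autInducedBy.2 ⟨ext a g, ext_mem a hg, mem_normalizer_of_cj_le hQS fun x hx => ?_, he⟩
  rw [← he x hx]
  exact afun_mem _ hx

/-- The automizer elements commuting with the restriction form a `p'`-group. -/
theorem not_dvd_fixed (h : Hyp p r F a) (hne : S ≠ ⊥) {Q : Subgroup Ω} (hQS : Q ≤ S)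
    (hQn : ∀ g ∈ S, ∀ x ∈ Q, cj g x ∈ Q) {aQ : MulAut Q}
    (hval : ∀ x : Q, ((aQ x : Q) : Ω) = ext a x) (hpow : aQ ^ r = 1) :
    ¬ p ∣ Nat.card (F.autGroup Q ⊓ Subgroup.centralizer {aQ} : Subgroup (MulAut Q)) := by
  classical
  haveI := finite_of_le hQS
  haveI : Finite (MulAut Q) := inferInstance
  intro hd
  obtain ⟨⟨β, hβ⟩, hβo⟩ := exists_prime_orderOf_dvd_card' p hd
  rw [Subgroup.orderOf_mk] at hβo
  obtain ⟨hβA, hβc⟩ := Subgroup.mem_inf.1 hβ
  set A := F.autGroup Q
  have hA : Subgroup.zpowers aQ ≤ Subgroup.normalizer (A : Set (MulAut Q)) :=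
    Subgroup.zpowers_le.2 (Subgroup.mem_normalizer_fintype (h := fun m hm => res_conj_mem h hQS hval hm))
  have hrp := h.hrp hne
  have hcop : (Nat.card (Subgroup.zpowers aQ)).Coprime (Nat.card A) := by
    rw [Nat.card_zpowers]
    exact ((h.hr.coprime_iff_not_dvd).2 (h.aut Q hQS)).coprime_dvd_left
      (orderOf_dvd_of_pow_eq_one hpow)
  have hsolv : Group.IsSolvable (Subgroup.zpowers aQ) ∨ Group.IsSolvable A :=
    Or.inl (CoprimeAction.isSolvable_zpowers aQ)
  obtain ⟨-, R, hR⟩ := fullyAutomized_of_fullyNormalized h.hS h.hF (fullyNormalized_of_normal hQS hQn)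
    (F := F)
  have hRmap : (R : Subgroup A).map A.subtype = autInducedBy S Q := by
    rw [hR, Subgroup.map_subgroupOf_eq_of_le (autInducedBy_le hQS)]
  have hcl : aQ * β = β * aQ := (Subgroup.mem_centralizer_singleton_iff.1 hβc).symm
  have hβp : IsPGroup p (Subgroup.zpowers β) := IsPGroup.of_card (n := 1) (by
    rw [Nat.card_zpowers, hβo, pow_one])
  obtain ⟨P, hβP, hPa⟩ := CoprimeAction.exists_invariant_sylow_ge (p := p) hA hcop hsolv
    (Subgroup.zpowers_le.2 hβA) hβp (Subgroup.zpowers_le.2 (Subgroup.mem_normalizer_fintype (h := fun m hm => by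
      obtain ⟨i, rfl⟩ := hm
      show aQ * β ^ i * aQ⁻¹ ∈ Subgroup.zpowers β
      rw [((show Commute aQ β from hcl).zpow_right i).eq, mul_inv_cancel_right]
      exact Subgroup.zpow_mem _ (Subgroup.mem_zpowers β) i)))
  obtain ⟨c, hc, hcP⟩ := CoprimeAction.invariant_sylow_conj hA hcop hsolv P R hPa (by
    rw [hRmap]
    exact Subgroup.zpowers_le.2 (Subgroup.mem_normalizer_fintype (h := fun m hm =>
      res_conj_autInducedBy hQS hval hm)))
  set γ := (c : MulAut Q) * β * (c : MulAut Q)⁻¹ with hγ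
  have hγS : γ ∈ autInducedBy S Q := by
    rw [← hRmap]
    obtain ⟨u, hu, hue⟩ := hβP (Subgroup.mem_zpowers β)
    refine ⟨c * u * c⁻¹, ?_, ?_⟩
    · rw [← hcP]
      exact ⟨u, hu, rfl⟩
    · simp only [Subgroup.coe_subtype, Subgroup.coe_mul, Subgroup.coe_inv] at hue ⊢
      rw [hγ, hue]
  have hγc : aQ * γ = γ * aQ := by
    have h1 : Commute aQ (c : MulAut Q) := Subgroup.mem_centralizer_iff.1 hc aQ (Subgroup.mem_zpowers aQ)
    exact ((h1.mul_right hcl).mul_right h1.inv_right).eq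
  obtain ⟨g₀, hg₀, -, hg₀e⟩ := mem_autInducedBy.1 hγS
  -- a fixed element inducing it
  let X : Set S := {s | ∀ x ∈ Q, cj (s : Ω) x = afun γ x}
  have hXinv : ∀ s : S, s ∈ X → a s ∈ X := by
    intro s hs x hx
    have hx' := (aQ⁻¹ ⟨x, hx⟩).2
    have hxe : ext a ((aQ⁻¹ ⟨x, hx⟩ : Q) : Ω) = x := by
      rw [← hval]; exact congrArg Subtype.val (aQ.apply_symm_apply ⟨x, hx⟩)
    calc cj ((a s : S) : Ω) x = cj (ext a s) (ext a ((aQ⁻¹ ⟨x, hx⟩ : Q) : Ω)) := by
          rw [hxe, ext_apply a s.2]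
      _ = ext a (afun γ ((aQ⁻¹ ⟨x, hx⟩ : Q) : Ω)) := by rw [← ext_cj a s.2 (hQS hx'), hs _ hx']
      _ = afun γ x := by
          rw [afun_coe, ← hval, afun_apply γ hx]
          refine congrArg Subtype.val ?_
          show (aQ * γ) (aQ⁻¹ ⟨x, hx⟩) = _
          rw [hγc, MulAut.mul_apply, MulAut.apply_inv_self]
  haveI : Fintype X := Fintype.ofFinite X
  let σ0 : X → X := fun s => ⟨a s.1, hXinv s.1 s.2⟩
  have hσi : Function.Injective σ0 := fun s t e => Subtype.ext (a.injective (congrArg Subtype.val e))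
  let σ : Equiv.Perm X := Equiv.ofBijective σ0 ⟨hσi, Finite.injective_iff_surjective.1 hσi⟩
  have hσp : ∀ (m : ℕ) (s : X), (((σ ^ m) s : X) : S) = (a ^ m) s.1 := by
    intro m
    induction m with
    | zero => intro s; rfl
    | succ m ih =>
      intro s
      rw [pow_succ', pow_succ', MulAut.mul_apply, ← ih s]
      rfl
  have hXcard : ¬ r ∣ Fintype.card X := by
    have hC : Nat.card X = Nat.card (centralizerIn S Q) := by
      refine Nat.card_congr
        { toFun := fun s => ⟨g₀⁻¹ * (s.1 : Ω), mem_centralizerIn.2 ⟨S.mul_mem (S.inv_mem hg₀) s.1.2,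
            fun x hx => by rw [← cj_cj, s.2 x hx, hg₀e x hx, cj_inv_cj]⟩⟩
          invFun := fun c => ⟨⟨g₀ * c, S.mul_mem hg₀ (mem_centralizerIn.1 c.2).1⟩, fun x hx => by
            rw [← cj_cj, (mem_centralizerIn.1 c.2).2 x hx, hg₀e x hx]⟩
          left_inv := fun s => Subtype.ext (Subtype.ext (mul_inv_cancel_left g₀ _))
          right_inv := fun c => Subtype.ext (inv_mul_cancel_left g₀ _) }
    haveI : Finite (centralizerIn S Q) := finite_centralizerIn Q
    have hpC : IsPGroup p (centralizerIn S Q) := h.hS.to_le fun x hx => (mem_centralizerIn.1 hx).1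
    obtain ⟨k, hk⟩ := IsPGroup.iff_card.1 hpC
    rw [← Nat.card_eq_fintype_card, hC, hk]
    exact fun e => hrp ((Nat.prime_dvd_prime_iff_eq h.hr hp.out).1 (h.hr.dvd_of_dvd_pow e))
  haveI : Fact r.Prime := ⟨h.hr⟩
  obtain ⟨s, hs⟩ := Equiv.Perm.exists_fixed_point_of_prime (p := r) (n := 1) hXcard (σ := σ)
    (Equiv.ext fun s => Subtype.ext (by rw [hσp, pow_one, h.pow]; rfl))
  have hs1 : s.1 = 1 := h.fix _ (congrArg Subtype.val hs :)
  have hγ1 : γ = 1 := afun_ext fun x hx => by
    rw [← s.2 x hx, hs1, OneMemClass.coe_one, cj_one, afun_one hx]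
  have hβ1 : β = 1 := conj_eq_one_iff.1 (hγ ▸ hγ1)
  rw [hβ1, orderOf_one] at hβo
  exact hp.out.ne_one hβo.symm

/-- In the automizer of an invariant normal subgroup `Aut_S(Q)` is normal. -/
theorem aut_normalized (h : Hyp p r F a) (hne : S ≠ ⊥)
    (hcore : ∀ (Γ' : Type u) [Group Γ'] [Finite Γ'] (V X : Subgroup Γ') (a' : Γ'),
      Flavell20.Core p r V X a' → Flavell20.PClosed p X)
    {Q : Subgroup Ω} (hQS : Q ≤ S) (hQ : AInv a Q) (hQn : ∀ g ∈ S, ∀ x ∈ Q, cj g x ∈ Q) :
    ∀ β ∈ F.autGroup Q, ∀ m ∈ autInducedBy S Q, β * m * β⁻¹ ∈ autInducedBy S Q := by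
  classical
  haveI := finite_of_le hQS
  by_cases hQ1 : Q = ⊥
  · intro β _ m _
    convert Subgroup.one_mem (autInducedBy S Q) using 1
    refine afun_ext fun x hx => ?_
    have hx1 : x = 1 := by simpa [hQ1] using hx
    have h1 : ∀ γ : MulAut Q, afun γ x = 1 := fun γ => by
      rw [afun_apply γ hx, show (⟨x, hx⟩ : Q) = 1 from Subtype.ext hx1, map_one, OneMemClass.coe_one]
    rw [h1, h1]
  obtain ⟨aQ, hval, hpow, hfix⟩ := exists_res h hQS hQ
  set A := F.autGroup Q
  have hao : orderOf aQ = r := by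
    refine ((Nat.dvd_prime h.hr).1 (orderOf_dvd_of_pow_eq_one hpow)).resolve_left fun e => hQ1 ?_
    exact (Subgroup.eq_bot_iff_forall Q).2 fun x hx => congrArg Subtype.val
      (hfix ⟨x, hx⟩ (by rw [orderOf_eq_one_iff.1 e]; rfl))
  let Γ := ↥Q ⋊[MonoidHom.id (MulAut ↥Q)] MulAut ↥Q
  have : Finite Γ := Finite.of_equiv _ SemidirectProduct.equivProd.symm
  let G : Subgroup Γ := A.comap SemidirectProduct.rightHom
  let b : Γ := SemidirectProduct.inr aQ
  have hAnorm : ∀ m ∈ A, aQ * m * aQ⁻¹ ∈ A := fun m hm => res_conj_mem h hQS hval hm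
  have hGcard : Nat.card G = Nat.card Q * Nat.card A := by
    rw [← Nat.card_prod]
    exact Nat.card_congr
      { toFun := fun x => (x.1.left, ⟨x.1.right, x.2⟩)
        invFun := fun y => ⟨⟨y.1, y.2.1⟩, y.2.2⟩
        left_inv := fun x => rfl
        right_inv := fun y => rfl }
  have hrp := h.hrp hne
  obtain ⟨k, hk⟩ := IsPGroup.iff_card.1 (h.hS.to_le hQS)
  have hact : FlavellFusion20.Act p r G b := by
    refine ⟨hp.out, h.hp2, h.hr, ?_, Subgroup.mem_normalizer_fintype (h := fun x hx => ?_), ?_, ?_⟩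
    · rw [orderOf_injective _ SemidirectProduct.inr_injective, hao]
    · show SemidirectProduct.rightHom (b * x * b⁻¹) ∈ A
      rw [map_mul, map_mul, map_inv]
      exact hAnorm _ hx
    · rw [hGcard, hk]
      intro e
      rcases h.hr.dvd_mul.1 e with e1 | e1
      · exact hrp ((Nat.prime_dvd_prime_iff_eq h.hr hp.out).1 (h.hr.dvd_of_dvd_pow e1))
      · exact h.aut Q hQS e1
    · refine fun e => not_dvd_fixed h hne hQS hQn hval hpow (e.trans ?_)
      have hleft : ∀ x : Γ, x ∈ Flavell20.fixA G b → x.left = 1 ∧ aQ * x.right = x.right * aQ := by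
        intro x hx
        have h1 := Subgroup.mem_centralizer_singleton_iff.1 hx.2
        refine ⟨hfix _ ?_, ?_⟩
        · have h2 : x.left * x.right 1 = 1 * aQ x.left := congrArg SemidirectProduct.left h1
          simpa using h2.symm
        · have h2 : x.right * aQ = aQ * x.right := congrArg SemidirectProduct.right h1
          exact h2.symm
      let ι : Flavell20.fixA G b →* (A ⊓ Subgroup.centralizer {aQ} : Subgroup (MulAut Q)) :=
        (SemidirectProduct.rightHom.comp (Flavell20.fixA G b).subtype).codRestrict _ fun x =>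
          ⟨x.2.1, Subgroup.mem_centralizer_singleton_iff.2 (hleft x x.2).2.symm⟩
      refine Subgroup.card_dvd_of_injective ι fun x y e' => Subtype.ext ?_
      refine SemidirectProduct.ext ((hleft x x.2).1.trans (hleft y y.2).1.symm) ?_
      exact congrArg Subtype.val e'
  let N : Subgroup Γ := (SemidirectProduct.inl : ↥Q →* Γ).range
  have hNG : N ≤ G := by
    rintro _ ⟨q, rfl⟩
    show SemidirectProduct.rightHom (SemidirectProduct.inl q : Γ) ∈ A
    rw [SemidirectProduct.rightHom_inl]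
    exact A.one_mem
  haveI hNn : (N.subgroupOf G).Normal := by
    have : N.Normal := by
      rw [show N = (SemidirectProduct.rightHom : Γ →* MulAut ↥Q).ker from
        SemidirectProduct.range_inl_eq_ker_rightHom]
      infer_instance
    infer_instance
  have hNp : IsPGroup p (N.subgroupOf G) := by
    refine IsPGroup.of_card (n := k) ?_
    rw [Nat.card_congr (Subgroup.subgroupOfEquivOfLe hNG).toEquiv, ← hk]
    exact (Nat.card_congr (MonoidHom.ofInjective SemidirectProduct.inl_injective).toEquiv).symm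
  have hC : Subgroup.centralizer (Cfsg.pCore p ↥G : Set ↥G) ≤ Cfsg.pCore p ↥G := by
    refine le_trans (Subgroup.centralizer_le (HallCore.le_pCore hNp)) ?_
    have hinj : ∀ x ∈ Subgroup.centralizer ((N.subgroupOf G : Subgroup G) : Set G),
        ∀ y ∈ Subgroup.centralizer ((N.subgroupOf G : Subgroup G) : Set G),
          (x : Γ).left = (y : Γ).left → x = y := by
      have key : ∀ x : G, x ∈ Subgroup.centralizer ((N.subgroupOf G : Subgroup G) : Set G) →
          ∀ q : Q, (x : Γ).right q = (x : Γ).left⁻¹ * q * (x : Γ).left := by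
        intro x hx q
        have h1 := congrArg (fun g : G => (g : Γ).left) (Subgroup.mem_centralizer_iff.1 hx
          ⟨SemidirectProduct.inl q, hNG ⟨q, rfl⟩⟩ ⟨q, rfl⟩)
        change q * (1 : MulAut ↥Q) (x : Γ).left = (x : Γ).left * (x : Γ).right q at h1
        rw [MulAut.one_apply] at h1
        rw [mul_assoc, h1]
        group
      intro x hx y hy e
      refine Subtype.ext (SemidirectProduct.ext e (MulEquiv.ext fun q => ?_))
      rw [key x hx, key y hy, e]
    haveI : (Subgroup.centralizer ((N.subgroupOf G : Subgroup G) : Set G)).Normal :=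
      Subgroup.normal_centralizer
    refine HallCore.le_pCore ?_
    intro x
    haveI : (Subgroup.centralizer ((N.subgroupOf G : Subgroup G) : Set G) ⊓ N.subgroupOf G).Normal :=
      Subgroup.normal_inf_normal _ _
    -- the right component is inner of `p`-power order
    obtain ⟨m, hm⟩ : ∃ m, ((x : G) : Γ).left ^ p ^ m = 1 := by
      obtain ⟨m, hm⟩ := (h.hS.to_le hQS) ((x : G) : Γ).left
      exact ⟨m, hm⟩
    have hpowleft : ∀ i : ℕ, (((x : G) ^ i : G) : Γ).left = ((x : G) : Γ).left ^ i := by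
      intro i
      induction i with
      | zero => simp
      | succ i ih =>
        have h1 := congrArg (fun g : G => (g : Γ).left) (Subgroup.mem_centralizer_iff.1 x.2
          ⟨SemidirectProduct.inl ((x : G) : Γ).left, hNG ⟨_, rfl⟩⟩ ⟨_, rfl⟩)
        change _ * (1 : MulAut ↥Q) ((x : G) : Γ).left =
          ((x : G) : Γ).left * ((x : G) : Γ).right ((x : G) : Γ).left at h1
        rw [MulAut.one_apply] at h1
        rw [pow_succ', pow_succ']
        show ((x : G) : Γ).left * ((x : G) : Γ).right (((x : G) ^ i : G) : Γ).left = _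
        rw [ih, map_pow]
        rw [show ((x : G) : Γ).right ((x : G) : Γ).left = ((x : G) : Γ).left from
          (mul_left_cancel h1.symm)]
    refine ⟨m, Subtype.ext (hinj _ (Subgroup.pow_mem _ x.2 _) 1 (Subgroup.one_mem _) ?_)⟩
    rw [hpowleft, hm]
    rfl
  have hO : Cfsg.pCore p ↥G ≠ ⊥ := fun e => hQ1 (Subgroup.eq_bot_iff_forall Q |>.2 fun q hq => by
    have h1 : (⟨SemidirectProduct.inl ⟨q, hq⟩, hNG ⟨_, rfl⟩⟩ : G) ∈ Cfsg.pCore p ↥G :=
      HallCore.le_pCore hNp ⟨⟨q, hq⟩, rfl⟩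
    rw [e, Subgroup.mem_bot] at h1
    exact congrArg Subtype.val (SemidirectProduct.inl_injective
      ((congrArg Subtype.val h1).trans (map_one _).symm) :))
  obtain ⟨P, hPG, hPp, hPi, hPn⟩ := FlavellFusion20.constrained hact hcore hC hO
  -- project
  set P' := P.map SemidirectProduct.rightHom with hP'
  have hmapG : G.map SemidirectProduct.rightHom = A :=
    Subgroup.map_comap_eq_self_of_surjective SemidirectProduct.rightHom_surjective A
  have hP'A : P' ≤ A := hmapG ▸ Subgroup.map_mono hPG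
  have hP'n : A ≤ Subgroup.normalizer (P' : Set (MulAut Q)) := by
    rw [← hmapG]
    rintro _ ⟨g, hg, rfl⟩
    exact Subgroup.le_normalizer_map _ ⟨g, hPn hg, rfl⟩
  have hP'i : ¬ p ∣ P'.relIndex A := fun e => hPi (by
    rw [← hmapG, hP', Subgroup.relIndex_map_map] at e
    exact (e.trans (Subgroup.relIndex_dvd_of_le_left _ le_sup_left)).trans (by
      rw [sup_eq_left.2 (fun x hx =>
        show SemidirectProduct.rightHom x ∈ A from (MonoidHom.mem_ker.1 hx).symm ▸ A.one_mem :
        (SemidirectProduct.rightHom : Γ →* MulAut ↥Q).ker ≤ G)]))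
  obtain ⟨-, R, hR⟩ := fullyAutomized_of_fullyNormalized h.hS h.hF (fullyNormalized_of_normal hQS hQn)
    (F := F)
  have hSp : IsPGroup p (autInducedBy S Q) := isPGroup_autInducedBy h.hS Q
  have hSi : ¬ p ∣ (autInducedBy S Q).relIndex A := by
    show ¬ p ∣ ((autInducedBy S Q).subgroupOf A).index
    rw [← hR]
    exact R.not_dvd_index
  have heq : autInducedBy S Q = P' := Subgroup.eq_of_le_of_card_ge
    (FlavellReduceBase15.pgroup_le (hPp.map _) hP'A hP'i hP'n (autInducedBy_le hQS) hSp)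
    (FlavellReduceBase15.card_le_of_not_dvd (autInducedBy_le hQS) hSi hP'A (hPp.map _))
  intro β hβ m hm
  rw [heq] at hm ⊢
  exact (Subgroup.mem_normalizer_iff.1 (hP'n hβ) m).1 hm

end Cfsg.Agent.FusionFpf20
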