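import Cfsg.Agent.Lib.FusionCriteria

/-!
More on nilpotent fusion systems: descent from a quotient, and subgroups normal in `S`, centric, with
automisers that are not `p`-groups.
-/

set_option autoImplicit false

universe u

namespace Cfsg.Agent.FusionNilTools

open Cfsg Cfsg.FusionSystem Cfsg.Agent.FusionSysBasic Cfsg.Agent.FusionSysSaturated
  Cfsg.Agent.FusionSysNormal Cfsg.Agent.FusionNilReduction

variable {p : ℕ} [Fact p.Prime] {Ω : Type u} [Group Ω] {S : Subgroup Ω} [Finite S]
  {F : FusionSystem S}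

/-- The quotient by a normal subgroup exists, is saturated and is smaller. -/
theorem exists_quotient (hS : IsPGroup p S) (hF : F.IsSaturated p) {Q : Subgroup Ω}
    (hQn : F.IsNormal Q) (hne : Q ≠ ⊥) :
    ∃ (Ω' : Type u) (_ : Group Ω') (S' : Subgroup Ω') (_ : Finite S') (θ : S →* Ω')
      (E : FusionSystem S'), F.IsFactorSystem Q θ E ∧ F.IsSurjectiveMorphism E θ ∧
        IsPGroup p S' ∧ E.IsSaturated p ∧ Nat.card S' < Nat.card S := by
  have hQS : Q ≤ S := normal_le hQn
  have hSQ : S ≤ Subgroup.normalizer (Q : Set Ω) := le_normalizer_of_normal hQn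
  haveI hQnS : (Q.subgroupOf S).Normal :=
    ⟨fun q hq g => show cj (g : Ω) (q : Ω) ∈ Q from cj_mem_of_normalizer (hSQ g.2) hq⟩
  obtain ⟨E, hE⟩ := S5132.result p hS F Q (stronglyClosed_of_normal hQn)
  have hsurj := S5134.result p hS F hF Q (stronglyClosed_of_normal hQn) _ E hE
  refine ⟨_, _, _, inferInstance, _, E, hE, hsurj, (hS.to_quotient _).of_equiv
    Subgroup.topEquiv.symm, FusionMorph88.saturated_of_surjective hS hF hsurj, ?_⟩
  rw [Subgroup.card_top, Subgroup.card_eq_card_quotient_mul_card_subgroup (Q.subgroupOf S)]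
  refine lt_mul_of_one_lt_right Nat.card_pos ?_
  rw [Nat.card_congr (Subgroup.subgroupOfEquivOfLe hQS).toEquiv]
  haveI := finite_of_le hQS
  exact (Subgroup.one_lt_card_iff_ne_bot Q).mpr hne

/-- A system with a normal subgroup whose automiser is a `p`-group and with nilpotent quotient is
nilpotent. -/
theorem nil_of_quotient (hS : IsPGroup p S) {Q : Subgroup Ω} (hQn : F.IsNormal Q)
    (hAQ : ∀ α ∈ F.autGroup Q, ∃ k : ℕ, α ^ p ^ k = 1) {Ω' : Type u} [Group Ω']
    {S' : Subgroup Ω'} [Finite S'] {θ : S →* Ω'} {E : FusionSystem S'}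
    (hE : F.IsFactorSystem Q θ E) (hsurj : F.IsSurjectiveMorphism E θ) (hEnil : Nil E p) :
    Nil F p := by
  have hQS : Q ≤ S := normal_le hQn
  intro R₀ hR₀
  suffices hsup : ∀ R, R ≤ S → Q ≤ R → ∀ γ ∈ F.autGroup R, ∃ k : ℕ, γ ^ p ^ k = 1 by
    refine isPGroup_of_forall fun α hα => ?_
    obtain ⟨f, hf, hag, him⟩ := (isNormal_iff.mp hQn).2 R₀ (afun α) ((mem_autGroup hR₀).mp hα)
    obtain ⟨γ, hγ, hγe⟩ := hf.exists_aut (hf.im_self fun x hx => mor_sup_induction hf
      (fun a ha => Subgroup.mem_sup_left (by rw [hag a ha]; exact afun_mem α ha))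
      (fun b hb => Subgroup.mem_sup_right
        (him ▸ (hf.restrict_to le_sup_right).mem_im.2 ⟨b, hb, rfl⟩)) hx)
    obtain ⟨k, hk⟩ := hsup _ (sup_le hR₀ hQS) le_sup_right γ hγ
    exact ⟨k, pow_eq_one_of_eqOn le_sup_left
      (fun x hx => by rw [hγe x (Subgroup.mem_sup_left hx), hag x hx]) hk⟩
  intro R hR hQR γ hγ
  obtain ⟨f', hf', hfe⟩ := FusionMorph88.morphism_mor hsurj.1 ((mem_autGroup hR).mp hγ)
  have hRS' : imageAlong θ R ≤ S' := hf'.le
  haveI : Finite ↥(imageAlong θ R) := finite_of_le hRS'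
  obtain ⟨δ, hδ, hδe⟩ := hf'.exists_aut (hf'.im_self fun y hy => by
    obtain ⟨x, hx, -, rfl⟩ := FusionMorph88.mem_imageAlong.mp hy
    rw [hfe x hx]
    exact FusionMorph88.app_mem_imageAlong (afun_mem γ hx) hR)
  obtain ⟨k, hk⟩ := pow_eq_one_of_isPGroup (hEnil _ hRS') hδ
  have hpow : ∀ n : ℕ, ∀ x ∈ R,
      FusionMorph88.app θ (afun (γ ^ n) x) = afun (δ ^ n) (FusionMorph88.app θ x) := by
    intro n
    induction n with
    | zero => intro x hx; rw [pow_zero, pow_zero, afun_one hx,
        afun_one (FusionMorph88.app_mem_imageAlong hx hR)]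
    | succ n ih =>
      intro x hx
      rw [pow_succ', pow_succ', afun_mul _ _ hx,
        afun_mul _ _ (FusionMorph88.app_mem_imageAlong hx hR), ← ih x hx,
        hδe _ (FusionMorph88.app_mem_imageAlong (afun_mem _ hx) hR), hfe _ (afun_mem _ hx)]
  have hmod : ∀ x ∈ R, x⁻¹ * afun (γ ^ p ^ k) x ∈ Q := by
    intro x hx
    have e := hpow (p ^ k) x hx
    rw [hk, afun_one (FusionMorph88.app_mem_imageAlong hx hR),
      FusionMorph88.app_apply θ (hR hx), FusionMorph88.app_apply θ (hR (afun_mem _ hx))] at e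
    refine (hE.2.1 ((⟨x, hR hx⟩ : S)⁻¹ * ⟨_, hR (afun_mem (γ ^ p ^ k) hx)⟩)).mp ?_
    rw [map_mul, map_inv, e, inv_mul_cancel]
  have hinv : ∀ x ∈ Q, afun γ x ∈ Q := fun x hx =>
    normal_invariant hQn ((mem_autGroup hR).mp hγ) (hQR hx) hx
  have hk' : ∀ x ∈ Q, afun (γ ^ p ^ k) x ∈ Q := afun_pow_mem hQR hinv _
  have hm := (mem_autGroup hR).mp ((F.autGroup R).pow_mem hγ (p ^ k))
  obtain ⟨β, hβ, hβe⟩ := (hm.restrict_to hQR).exists_aut ((hm.restrict_to hQR).im_self hk')
  obtain ⟨m, hm'⟩ := hAQ β hβ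
  haveI := finite_of_le hR
  obtain ⟨j, hj⟩ := pow_eq_one_of_stabilizes (hS.to_le hR) (n := 2)
    (fun i => if i = 0 then ⊥ else if i = 1 then Q else R) (by simp) (by simp)
    (fun i => by split_ifs <;> simp [hQR])
    (fun i hi => by interval_cases i <;> simp [hQR])
    (α := (γ ^ p ^ k) ^ p ^ m) (fun i hi y hy => by
      interval_cases i
      · simp only [zero_add, one_ne_zero, if_false, if_true] at hy ⊢
        rw [Subgroup.mem_bot, afun_pow_of_eqOn hQR (fun x hx => (hβe x hx).symm) _ y hy, hm',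
          afun_one hy, inv_mul_cancel]
      · simp only [one_ne_zero, if_false, if_true] at hy ⊢
        norm_num at hy
        have hd : ∀ n : ℕ, y⁻¹ * afun ((γ ^ p ^ k) ^ n) y ∈ Q := by
          intro n
          induction n with
          | zero => rw [pow_zero, afun_one hy, inv_mul_cancel]; exact one_mem Q
          | succ n ih =>
            rw [pow_succ', afun_mul _ _ hy]
            have := mul_mem ih (hmod _ (afun_mem ((γ ^ p ^ k) ^ n) hy))
            rwa [mul_assoc, mul_inv_cancel_left] at this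
        exact hd _)
  exact ⟨k + (m + j), by rw [pow_add, pow_add, pow_mul, pow_mul, hj]⟩

/-- Automorphisms of the factor system on the image of `R ≥ Q` lift to `R`. -/
theorem exists_lift_aut {Ω' : Type u} [Group Ω'] {S' : Subgroup Ω'} {θ : S →* Ω'}
    {Q : Subgroup Ω} {E : FusionSystem S'} (hE : F.IsFactorSystem Q θ E) {R : Subgroup Ω'}
    (hR : R ≤ S') {α : MulAut R} (hα : α ∈ E.autGroup R) :
    ∃ γ ∈ F.autGroup (preimageAlong θ R),
      ∀ x ∈ preimageAlong θ R, afun α (FusionMorph88.app θ x) = FusionMorph88.app θ (afun γ x) := by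
  obtain ⟨-, f, hf, hfe⟩ := (FusionMorph88.factor_mor hE).mp ((mem_autGroup hR).mp hα)
  have hfR : ∀ x ∈ preimageAlong θ R, f x ∈ preimageAlong θ R := fun x hx =>
    FusionMorph88.mem_preimageAlong.mpr ⟨hf.apply_mem hx, by
      rw [← hfe x hx]; exact afun_mem α (FusionMorph88.mem_preimageAlong.mp hx).2⟩
  obtain ⟨γ, hγ, hγe⟩ := hf.exists_aut (hf.im_self hfR)
  exact ⟨γ, hγ, fun x hx => by rw [hfe x hx, hγe x hx]⟩

theorem pow_lift {Ω' : Type u} [Group Ω'] {S' : Subgroup Ω'} {θ : S →* Ω'}
    {Q : Subgroup Ω} {E : FusionSystem S'} (hE : F.IsFactorSystem Q θ E) {R : Subgroup Ω'}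
    (hR : R ≤ S') {α : MulAut R} {γ : MulAut ↥(preimageAlong θ R)}
    (hγ : ∀ x ∈ preimageAlong θ R, afun α (FusionMorph88.app θ x) =
      FusionMorph88.app θ (afun γ x)) {n : ℕ} (hn : γ ^ n = 1) : α ^ n = 1 := by
  have happ : ∀ x ∈ preimageAlong θ R, FusionMorph88.app θ x ∈ R := fun x hx =>
    (FusionMorph88.mem_preimageAlong.mp hx).2
  have hpow : ∀ n : ℕ, ∀ x ∈ preimageAlong θ R,
      afun (α ^ n) (FusionMorph88.app θ x) = FusionMorph88.app θ (afun (γ ^ n) x) := by
    intro n
    induction n with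
    | zero => intro x hx; rw [pow_zero, pow_zero, afun_one hx, afun_one (happ x hx)]
    | succ n ih =>
      intro x hx
      rw [pow_succ', pow_succ', afun_mul _ _ (happ x hx), afun_mul _ _ hx, ih x hx,
        hγ _ (afun_mem _ hx)]
  refine afun_ext fun y hy => ?_
  obtain ⟨x, hx, -, rfl⟩ := FusionMorph88.mem_imageAlong.mp
    ((FusionMorph88.imageAlong_preimageAlong (hE.2.2.1 ▸ hR : R ≤ θ.range)).ge hy)
  rw [hpow n x hx, hn, afun_one hx, afun_one hy]

theorem exists_copy_saturated {T : Subgroup Ω} (G : FusionSystem T) (hT : T = S)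
    (hG : G.IsSaturated p) : ∃ G' : FusionSystem S, G'.IsSaturated p ∧ ∀ P, G'.Hom P = G.Hom P := by
  subst hT; exact ⟨G, hG, fun _ => rfl⟩

/-- `F` has a subgroup normal in `S`, containing its centralizer in `S`, whose automiser is not a
`p`-group. -/
def HasY (p : ℕ) {Ω : Type u} [Group Ω] {S : Subgroup Ω} (F : FusionSystem S) : Prop :=
  ∃ Y : Subgroup Ω, Y ≤ S ∧ S ≤ Subgroup.normalizer (Y : Set Ω) ∧ centralizerIn S Y ≤ Y ∧
    ¬ IsPGroup p ↥(F.autGroup Y)

/-- Properties from which `HasY` follows for non-nilpotent systems. -/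
structure YAdm (p : ℕ) [Fact p.Prime]
    (K : ∀ (Ω : Type u) [Group Ω] (S : Subgroup Ω), FusionSystem S → Prop) : Prop where
  /-- saturated subsystems over the same group -/
  sub : ∀ {Ω : Type u} [Group Ω] {S : Subgroup Ω} [Finite S], IsPGroup p S →
    ∀ {F G : FusionSystem S}, F.IsSaturated p → G.IsSaturated p → G.IsSubsystemOf F →
      K Ω S F → K Ω S G
  /-- quotients -/
  quot : ∀ {Ω : Type u} [Group Ω] {S : Subgroup Ω} [Finite S], IsPGroup p S →
    ∀ {F : FusionSystem S}, F.IsSaturated p → K Ω S F → ∀ {Q : Subgroup Ω}, F.IsNormal Q →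
      Q ≠ ⊥ → ∀ {Ω' : Type u} [Group Ω'] {S' : Subgroup Ω'} [Finite S'] (θ : S →* Ω')
        {E : FusionSystem S'}, F.IsFactorSystem Q θ E → K Ω' S' E
  /-- some critical subgroup detects nilpotency -/
  crit : ∀ {Ω : Type u} [Group Ω] {S : Subgroup Ω} [Finite S], IsPGroup p S →
    ∀ {F : FusionSystem S}, F.IsSaturated p → K Ω S F → ¬ Nil F p →
      ∃ Z : Subgroup Ω, Z ≤ S ∧ Z ≠ ⊥ ∧ S ≤ Subgroup.normalizer (Z : Set Ω) ∧ ¬ NilAt F p Z

variable {K : ∀ (Ω : Type u) [Group Ω] (S : Subgroup Ω), FusionSystem S → Prop}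

theorem hasY_of_not_nil (hK : YAdm p K) {Ω : Type u} [Group Ω] {S : Subgroup Ω} [Finite S]
    (hS : IsPGroup p S) {F : FusionSystem S} (hF : F.IsSaturated p) (hKF : K Ω S F)
    (hn : ¬ Nil F p) : HasY p F := by
  suffices ∀ n m : ℕ, ∀ {Ω : Type u} [Group Ω] {S : Subgroup Ω} [Finite S] (F : FusionSystem S),
      IsPGroup p S → F.IsSaturated p → Nat.card S = n → sysCard F = m → K Ω S F → ¬ Nil F p →
        HasY p F from this _ _ F hS hF rfl rfl hKF hn
  intro n
  induction n using Nat.strong_induction_on with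
  | _ n IHn =>
    intro m
    induction m using Nat.strong_induction_on with
    | _ m IHm =>
      intro Ω _ S _ F hS hF hn hm hKF hnil
      obtain ⟨Z, hZS, hZne, hZn, hZnil⟩ := hK.crit hS hF hKF hnil
      have hfn : F.IsFullyNormalized Z := FusionWeakAlperin.fullyNormalized_of_normal hZS
        fun g hg x hx => cj_mem_of_normalizer (hZn hg) hx
      have hT : normalizerIn S Z = S := inf_eq_left.mpr hZn
      haveI := finite_normalizerIn (S := S) Z
      by_cases hnorm : F.IsNormal Z
      · by_cases hA : ∀ α ∈ F.autGroup Z, ∃ k : ℕ, α ^ p ^ k = 1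
        · obtain ⟨Ω', _, S', _, θ, E, hE, hsurj, hS', hEs, hlt⟩ :=
            exists_quotient hS hF hnorm hZne
          have hEn : ¬ Nil E p := fun h => hnil (nil_of_quotient hS hnorm hA hE hsurj h)
          obtain ⟨W, hWS, hWn, hWc, hWA⟩ := IHn _ (hn ▸ hlt) _ E hS' hEs rfl rfl
            (hK.quot hS hF hKF hnorm hZne θ hE) hEn
          refine ⟨preimageAlong θ W, FusionMorph88.preimageAlong_le θ W, fun g hg => ?_,
            fun c hc => ?_, fun hp' => hWA ?_⟩
          · refine mem_normalizer_of_cj_le (FusionMorph88.preimageAlong_le θ W) fun x hx => ?_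
            have hxS := FusionMorph88.preimageAlong_le θ W hx
            refine FusionMorph88.mem_preimageAlong.mpr ⟨cj_mem_S hg hxS, ?_⟩
            rw [FusionMorph88.app_cj hg hxS]
            refine cj_mem_of_normalizer (hWn ?_) (FusionMorph88.mem_preimageAlong.mp hx).2
            rw [FusionMorph88.app_apply θ hg]
            exact hE.2.2.1 ▸ ⟨_, rfl⟩
          · obtain ⟨hcS, hcc⟩ := mem_centralizerIn.mp hc
            refine FusionMorph88.mem_preimageAlong.mpr ⟨hcS, hWc (mem_centralizerIn.mpr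
              ⟨by rw [FusionMorph88.app_apply θ hcS]; exact hE.2.2.1 ▸ ⟨_, rfl⟩, fun y hy => ?_⟩)⟩
            obtain ⟨x, hx, hxS, rfl⟩ := FusionMorph88.mem_imageAlong.mp
              ((FusionMorph88.imageAlong_preimageAlong (hE.2.2.1 ▸ hWS : W ≤ θ.range)).ge hy)
            rw [← FusionMorph88.app_cj hcS hxS, hcc x hx]
          · refine isPGroup_of_forall fun α hα => ?_
            obtain ⟨γ, hγ, hγe⟩ := exists_lift_aut hE hWS hα
            obtain ⟨k, hk⟩ := pow_eq_one_of_isPGroup hp' hγ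
            exact ⟨k, pow_lift hE hWS hγe hk⟩
        · push_neg at hA
          obtain ⟨α, hα, hαk⟩ := hA
          obtain ⟨f, hf, hag, hC⟩ := exists_extension_centralizer
            (receptive_of_fullyNormalized hS hF hfn) ((mem_autGroup hZS).1 hα) (im_afun α)
          obtain ⟨γ, hγ, hγe⟩ := hf.exists_aut (hf.im_self fun x hx => mor_sup_induction hf
            (fun a ha => Subgroup.mem_sup_left (by rw [hag a ha]; exact afun_mem α ha))
            (fun b hb => Subgroup.mem_sup_right (hC b hb)) hx)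
          refine ⟨Z ⊔ centralizerIn S Z, sup_le hZS inf_le_left, fun g hg => ?_, ?_, fun hp' => ?_⟩
          · refine mem_normalizer_of_cj_le (sup_le hZS inf_le_left) fun x hx =>
              mor_sup_induction (mor_cj (F := F) (sup_le hZS inf_le_left) hg)
                (fun a ha => Subgroup.mem_sup_left (cj_mem_of_normalizer (hZn hg) ha))
                (fun c hc => Subgroup.mem_sup_right ?_) hx
            obtain ⟨hcS, hcc⟩ := mem_centralizerIn.mp hc
            refine mem_centralizerIn.mpr ⟨cj_mem_S hg hcS, fun y hy => ?_⟩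
            have e := hcc (cj g⁻¹ y) (cj_mem_of_normalizer (hZn (S.inv_mem hg)) hy)
            have := congrArg (cj g) e
            simp only [cj_apply] at this ⊢
            simpa [mul_assoc] using this
          · intro c hc
            obtain ⟨hcS, hcc⟩ := mem_centralizerIn.mp hc
            exact Subgroup.mem_sup_right
              (mem_centralizerIn.mpr ⟨hcS, fun z hz => hcc z (Subgroup.mem_sup_left hz)⟩)
          · obtain ⟨k, hk⟩ := pow_eq_one_of_isPGroup hp' hγ
            exact hαk k (pow_eq_one_of_eqOn le_sup_left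
              (fun x hx => by rw [hγe x (Subgroup.mem_sup_left hx), hag x hx]) hk)
      · have hG := isNormalizerSystem_normalizerSystem (F := F) Z hZS
        obtain ⟨G, hGs, hGe⟩ := exists_copy_saturated _ hT
          (FusionSysNormalizer.normalizerSystem_saturated hS hF hfn hG)
        have hsub : G.IsSubsystemOf F := fun P φ hφ => normalizerSystem_sub hG P ((hGe P).le hφ)
        obtain ⟨R, hR, hne⟩ := exists_aut_not_mem hS hF hZS hT hG hnorm
        have hlt : sysCard G < sysCard F := sysCard_lt rfl hsub hR fun hle => hne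
          (hle.trans (Subgroup.closure_mono fun _ ha => (hGe R).le ha))
        have hGn : ¬ Nil G p := fun h => hZnil (nilAt_of_nil_normalizerSystem hG fun P hP =>
          (h P (hP.trans inf_le_left)).to_le (Subgroup.closure_mono fun _ ha => (hGe P).ge ha))
        obtain ⟨Y, hY, hYn, hYc, hYA⟩ :=
          IHm _ (hm ▸ hlt) G hS hGs hn rfl (hK.sub hS hF hGs hsub hKF) hGn
        exact ⟨Y, hY, hYn, hYc, fun h => hYA (h.to_le (autGroup_le hsub Y))⟩

/-- From `HasY` a constrained non-inner subsystem over `S`. -/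
theorem exists_constrained_sub (hS : IsPGroup p S) (hF : F.IsSaturated p) (h : HasY p F) :
    ∃ E : FusionSystem S, E.IsSubsystemOf F ∧ E.IsConstrained p ∧ ¬ Nil E p := by
  obtain ⟨Y, hY, hYn, hYc, hYA⟩ := h
  have hfn : F.IsFullyNormalized Y := FusionWeakAlperin.fullyNormalized_of_normal hY
    fun g hg x hx => cj_mem_of_normalizer (hYn hg) hx
  have hc : F.IsCentric Y :=
    FusCentric.centric_of_fullyCentralized (fullyCentralized_of_fullyNormalized hS hF hfn) hYc
  have hG := isNormalizerSystem_normalizerSystem (F := F) Y hY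
  haveI := finite_normalizerIn (S := S) Y
  have hcon := FusionModelTools.constrained_normalizerSystem hS hF hfn hc hG
  have hT : normalizerIn S Y = S := inf_eq_left.mpr hYn
  obtain ⟨E, hEe, hEc⟩ : ∃ E : FusionSystem S,
      (∀ P, E.Hom P = (normalizerSystem F Y hY).Hom P) ∧ E.IsConstrained p := by
    have key : ∀ T (G : FusionSystem T), T = S → G.IsConstrained p →
        ∃ E : FusionSystem S, (∀ P, E.Hom P = G.Hom P) ∧ E.IsConstrained p := by
      rintro T G rfl hG'; exact ⟨G, fun _ => rfl, hG'⟩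
    exact key _ _ hT hcon
  have hsub : E.IsSubsystemOf F := fun P φ hφ => normalizerSystem_sub hG P ((hEe P).le hφ)
  refine ⟨E, hsub, hEc, fun hnil => hYA (isPGroup_of_forall fun α hα => ?_)⟩
  refine pow_eq_one_of_isPGroup (hnil Y hY) ?_
  have hYT : Y ≤ normalizerIn S Y := le_normalizerIn hY
  have hm := (mem_autGroup hY).mp hα
  obtain ⟨φ, hφ, he⟩ := (mor_normalizerSystem_iff hG).mpr ⟨hm, hYT, fun x hx => hYT (afun_mem α hx),
    afun α, by rwa [sup_idem], fun _ _ => rfl, im_afun α⟩
  exact (mem_autGroup hY).mpr ⟨φ, (hEe Y).ge hφ, he⟩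

/-- At odd primes `Z(J(S))` detects nilpotency. -/
theorem yAdm_odd (hp : p ≠ 2) : YAdm.{u} p (fun _ _ _ _ => True) where
  sub := by intros; trivial
  quot := by intros; trivial
  crit := by
    intro Ω _ S _ hS F hF _ hnil
    have hS1 : S ≠ ⊥ := by
      rintro rfl
      refine hnil fun R hR => ?_
      obtain rfl : R = ⊥ := le_bot_iff.mp hR
      exact isPGroup_of_forall fun α hα => ⟨0, afun_ext fun x hx => by
        rw [pow_zero, pow_one, afun_one hx]
        have := afun_mem α hx
        rw [Subgroup.mem_bot] at hx this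
        rw [this, hx]⟩
    refine ⟨GlaubermanZJ.thomY 0 S, GlaubermanZJ.thomY_le S,
      FusionCriteria.thomY_ne_bot hS le_rfl hS1,
      Subgroup.le_normalizer.trans (GlaubermanZJ.normalizer_le_thomY S), fun h => hnil ?_⟩
    exact FusionCriteria.nil_of_zj hp hS hF (FusionSolvable88.stronglyClosed_self F)
      (by rwa [GlaubermanZJ.centerThompsonAOf_eq])

end Cfsg.Agent.FusionNilTools
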