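import Cfsg.Agent.Lib.Rank3Found34

/-!
More tools for the rank three engine: generators modulo a normal subgroup, coprime steps and the
generation of `O^{p'}(Aut_F(E))`.
-/

set_option autoImplicit false
set_option linter.unusedSectionVars false

namespace Cfsg.Agent.Rank3

open Cfsg.FusionSystem Cfsg.Agent.FusionSysBasic Cfsg.Agent.FusionSysSaturated
  Cfsg.Agent.FusionSysNormal Cfsg.Agent.FusionSysAlperin

universe u

variable {Ω : Type u} [Group Ω]

theorem gen_comm {T : Set Ω} {N : Subgroup Ω}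
    (hn : ∀ k ∈ Subgroup.closure T, ∀ y ∈ N, cj k y ∈ N)
    (h : ∀ a ∈ T, ∀ b ∈ T, a * b * a⁻¹ * b⁻¹ ∈ N) :
    ∀ a ∈ Subgroup.closure T, ∀ b ∈ Subgroup.closure T, a * b * a⁻¹ * b⁻¹ ∈ N := by
  have step : ∀ a ∈ Subgroup.closure T, (∀ b ∈ T, a * b * a⁻¹ * b⁻¹ ∈ N) →
      ∀ b ∈ Subgroup.closure T, a * b * a⁻¹ * b⁻¹ ∈ N := by
    intro a ha hab b hb
    induction hb using Subgroup.closure_induction with
    | mem x hx => exact hab x hx
    | one => simp
    | mul x y hx hy ihx ihy =>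
      have := N.mul_mem ihx (hn x hx _ ihy)
      have e : a * (x * y) * a⁻¹ * (x * y)⁻¹ =
          a * x * a⁻¹ * x⁻¹ * cj x (a * y * a⁻¹ * y⁻¹) := by simp only [cj_apply]; group
      rwa [e]
    | inv x hx ihx =>
      have := hn x⁻¹ (inv_mem hx) _ (N.inv_mem ihx)
      have e : a * x⁻¹ * a⁻¹ * x⁻¹⁻¹ = cj x⁻¹ (a * x * a⁻¹ * x⁻¹)⁻¹ := by
        simp only [cj_apply]; group
      rwa [e]
  intro a ha
  refine step a ha fun b hb => ?_
  have h1 := step b (Subgroup.subset_closure hb) (fun c hc => h b hb c hc) a ha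
  have := N.inv_mem h1
  rwa [show (b * a * b⁻¹ * a⁻¹)⁻¹ = a * b * a⁻¹ * b⁻¹ by group] at this

theorem gen_pow {T : Set Ω} {N : Subgroup Ω} {n : ℕ}
    (hn : ∀ k ∈ Subgroup.closure T, ∀ y ∈ N, cj k y ∈ N)
    (h : ∀ a ∈ T, ∀ b ∈ T, a * b * a⁻¹ * b⁻¹ ∈ N) (hp : ∀ a ∈ T, a ^ n ∈ N) :
    ∀ a ∈ Subgroup.closure T, a ^ n ∈ N := by
  let K := Subgroup.closure T
  let N' : Subgroup K := N.subgroupOf K
  haveI : N'.Normal := ⟨fun y hy k => by
    have := hn (k : Ω) k.2 (y : Ω) hy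
    simpa [N', Subgroup.mem_subgroupOf, cj_apply] using this⟩
  have hcomm : ∀ a b : K, Commute (QuotientGroup.mk' N' a) (QuotientGroup.mk' N' b) := by
    intro a b
    rw [commute_iff_eq, ← map_mul, ← map_mul, QuotientGroup.mk'_apply, QuotientGroup.mk'_apply,
      QuotientGroup.eq]
    have := gen_comm hn h _ (K.inv_mem b.2) _ (K.inv_mem a.2)
    simpa [N', Subgroup.mem_subgroupOf, mul_inv_rev, mul_assoc] using this
  intro a ha
  have key : (QuotientGroup.mk' N' ⟨a, ha⟩) ^ n = 1 := by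
    induction ha using Subgroup.closure_induction with
    | mem x hx =>
      rw [← map_pow, QuotientGroup.mk'_apply, QuotientGroup.eq_one_iff, Subgroup.mem_subgroupOf]
      exact hp x hx
    | one => rw [show (⟨1, _⟩ : K) = 1 from rfl, map_one, one_pow]
    | mul x y hx hy ihx ihy =>
      have e : (⟨x * y, K.mul_mem hx hy⟩ : K) = ⟨x, hx⟩ * ⟨y, hy⟩ := rfl
      rw [e, map_mul, (hcomm _ _).mul_pow, ihx, ihy, one_mul]
    | inv x hx ihx =>
      have e : (⟨x⁻¹, K.inv_mem hx⟩ : K) = ⟨x, hx⟩⁻¹ := rfl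
      rw [e, map_inv, inv_pow, ihx, inv_one]
  rw [← map_pow, QuotientGroup.mk'_apply, QuotientGroup.eq_one_iff] at key
  exact key

variable {S : Subgroup Ω} {F : FusionSystem S} {p : ℕ} [Finite S] [Fact p.Prime]

theorem mul_card_le_of_lt (hS : IsPGroup p S) {A B : Subgroup Ω} (hBS : B ≤ S) (h : A < B) :
    p * Nat.card A ≤ Nat.card B := by
  haveI := finite_of_le hBS
  haveI := finite_of_le (h.le.trans hBS)
  obtain ⟨a, ha⟩ := IsPGroup.iff_card.mp (hS.to_le (h.le.trans hBS))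
  obtain ⟨b, hb⟩ := IsPGroup.iff_card.mp (hS.to_le hBS)
  have hlt : Nat.card A < Nat.card B :=
    lt_of_le_of_ne (Subgroup.card_le_of_le h.le) fun e => h.ne (Subgroup.eq_of_le_of_card_ge h.le e.ge)
  rw [ha, hb] at hlt ⊢
  rw [← pow_succ']
  exact Nat.pow_le_pow_right (Fact.out : p.Prime).pos
    ((Nat.pow_lt_pow_iff_right (Fact.out : p.Prime).one_lt).mp hlt)

/-- One more step down for an automorphism of order prime to `p`. -/
theorem coprime_step {E : Subgroup Ω} (hES : E ≤ S) (hS : IsPGroup p S) {A B : Subgroup Ω}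
    (hAE : A ≤ E) (hn : ∀ a ∈ A, ∀ b ∈ B, cj a b ∈ B) {j : MulAut E}
    (hj : (orderOf j).Coprime p) (hA : ∀ a ∈ A, afun j a ∈ A) (hB : ∀ a ∈ B, afun j a ∈ B)
    (hBA : B ≤ A) (hstep : ∀ a ∈ A, a⁻¹ * afun j a ∈ B) {y : Ω} (hy : y ∈ E)
    (hy' : y⁻¹ * afun j y ∈ A) : y⁻¹ * afun j y ∈ B := by
  set a := y⁻¹ * afun j y with hadef
  have hjy : afun j y = y * a := by rw [hadef, mul_inv_cancel_left]
  have hpow : ∀ n : ℕ, ∃ b ∈ B, afun (j ^ n) y = y * (a ^ n * b) := by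
    intro n
    induction n with
    | zero => exact ⟨1, B.one_mem, by rw [pow_zero, afun_one hy, pow_zero, one_mul, mul_one]⟩
    | succ n ih =>
      obtain ⟨b, hb, e⟩ := ih
      have han : a ^ n ∈ A := A.pow_mem hy' n
      have hbA : b ∈ A := hBA hb
      refine ⟨(a ^ n)⁻¹ * afun j (a ^ n) * afun j b, B.mul_mem (hstep _ han) (hB _ hb), ?_⟩
      rw [pow_succ' j, afun_mul _ _ hy, e, afun_map_mul j hy (E.mul_mem (hAE han) (hAE hbA)),
        afun_map_mul j (hAE han) (hAE hbA), hjy, pow_succ]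
      group
  obtain ⟨b, hb, e⟩ := hpow (orderOf j)
  rw [pow_orderOf_eq_one, afun_one hy, left_eq_mul] at e
  have h1 : a ^ orderOf j ∈ B := by
    rw [eq_inv_of_mul_eq_one_left e]; exact B.inv_mem hb
  obtain ⟨k, hk⟩ := hS ⟨a, hES (hAE hy')⟩
  have h2 : a ^ p ^ k = 1 := congrArg Subtype.val hk
  have hcop : (orderOf j).Coprime (p ^ k) := hj.pow_right k
  obtain ⟨r, t, hrt⟩ := Int.isCoprime_iff_gcd_eq_one.mpr
    (show Int.gcd (orderOf j : ℤ) ((p ^ k : ℕ) : ℤ) = 1 by rw [Int.gcd_natCast_natCast]; exact hcop)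
  rw [← zpow_one a, ← hrt, zpow_add, mul_comm r, mul_comm t, zpow_mul, zpow_mul, zpow_natCast,
    zpow_natCast, h2, one_zpow, mul_one]
  exact B.zpow_mem h1 r

theorem coprime_two_pow (hp : Odd p) {k : ℕ} : (2 ^ k).Coprime p :=
  (Nat.coprime_two_left.mpr hp).pow_left k

/-- `O^{p'}(Aut_F(E))` lies in every subgroup normalised by `Aut_F(E)` containing `Aut_S(E)`. -/
theorem Max.opp_le {E : Subgroup Ω} (h : Max F p E) (hS : IsPGroup p S) (hF : F.IsSaturated p)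
    (T : Subgroup (MulAut E)) (hn : ∀ a ∈ F.autGroup E, ∀ m ∈ T, a * m * a⁻¹ ∈ T)
    (hT : ∀ g (hg : g ∈ S), h.conjAut hg ∈ T) : opp F p E ≤ T := by
  haveI : Finite (F.autGroup E) := finite_autGroup E
  refine (Subgroup.closure_le _).mpr ?_
  rintro α ⟨hα, k, hk⟩
  obtain ⟨-, P0, hP0⟩ := fullyAutomized_of_fullyNormalized hS hF h.fullyNormalized
  have hZ : IsPGroup p (Subgroup.zpowers (⟨α, hα⟩ : F.autGroup E)) := by
    refine IsPGroup.of_card (n := k) ?_
    rw [Nat.card_zpowers, Subgroup.orderOf_mk, hk]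
  obtain ⟨Q, hQ⟩ := hZ.exists_le_sylow
  obtain ⟨g, hg⟩ := MulAction.exists_smul_eq (F.autGroup E) P0 Q
  have hm : (⟨α, hα⟩ : F.autGroup E) ∈ (g • P0 : Sylow p (F.autGroup E)).toSubgroup := by
    rw [hg]; exact hQ (Subgroup.mem_zpowers _)
  rw [Sylow.smul_def, Sylow.pointwise_smul_def, Subgroup.mem_pointwise_smul_iff_inv_smul_mem] at hm
  change _ ∈ (P0 : Subgroup (F.autGroup E)) at hm
  rw [hP0, Subgroup.mem_subgroupOf, mem_autInducedBy] at hm
  obtain ⟨s, hs, -, he⟩ := hm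
  have hval : (((MulAut.conj g)⁻¹ • (⟨α, hα⟩ : F.autGroup E) : F.autGroup E) : MulAut E) =
      (g : MulAut E)⁻¹ * α * (g : MulAut E) := by
    simp [MulAut.smul_def, MulAut.conj_inv_apply]
  rw [hval] at he
  have e : (g : MulAut E)⁻¹ * α * (g : MulAut E) = h.conjAut hs :=
    afun_ext fun x hx => by rw [he x hx, h.afun_conjAut hs hx]
  have := hn _ g.2 _ (hT s hs)
  rwa [← e, show (g : MulAut E) * ((g : MulAut E)⁻¹ * α * g) * (g : MulAut E)⁻¹ = α by group]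
    at this

end Cfsg.Agent.Rank3
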