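import Cfsg.Agent.Lib.Rank3PairDef34
import Cfsg.Agent.Lib.Rank3Found34b
import Cfsg.Agent.Lib.FusionNilTools

/-!
The quotient by a largest common invariant subgroup of two maximal essential subgroups (S5189):
the two images are maximal essentials without common invariant subgroup, so the rank three engine
gives the shape of `S / K`.
-/

set_option autoImplicit false
set_option linter.unusedSectionVars false
set_option linter.style.haveILetI false

namespace Cfsg.Agent.Rank3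

open Cfsg Cfsg.FusionSystem Cfsg.Agent.FusionSysBasic Cfsg.Agent.FusionSysSaturated
  Cfsg.Agent.FusionSysNormal Cfsg.Agent.FusionSysAlperin Cfsg.Agent.FusionMorph88

universe u

namespace Quot34

variable {Ω : Type u} [Group Ω] {S : Subgroup Ω} {p : ℕ} [Fact p.Prime]

/-- Sectional rank passes to homomorphic images. -/
theorem rank_of_surjective {X Y : Type u} [Group X] [Group Y] {k : ℕ}
    (h : Cfsg.SectionalPRankLE p k X) (f : X →* Y) (hf : Function.Surjective f) :
    Cfsg.SectionalPRankLE p k Y := by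
  intro H N hN A hab hexp
  let g : ↥(H.comap f) →* H ⧸ N := (QuotientGroup.mk' N).comp (f.subgroupComap H)
  have hg : Function.Surjective g := (QuotientGroup.mk'_surjective N).comp
    (MonoidHom.subgroupComap_surjective_of_surjective f H hf)
  let e := QuotientGroup.quotientKerEquivOfSurjective g hg
  have hb := h (H.comap f) g.ker (A.map e.symm.toMonoidHom) (by
    refine ⟨⟨?_⟩⟩
    rintro ⟨_, a, ha, rfl⟩ ⟨_, b, hb, rfl⟩
    apply Subtype.ext
    show e.symm a * e.symm b = e.symm b * e.symm a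
    rw [← map_mul, ← map_mul]
    exact congrArg _ (congrArg Subtype.val (hab.is_comm.comm ⟨a, ha⟩ ⟨b, hb⟩))) (by
    rintro _ ⟨a, ha, rfl⟩
    rw [← map_pow, hexp a ha, map_one])
  rwa [Subgroup.card_map_of_injective e.symm.injective] at hb

variable [Finite S]

/-- A saturated subsystem in which `K` is normal, containing all maps that stabilise `K`. -/
theorem exists_norm_sys (hS : IsPGroup p S) {F : FusionSystem S} (hF : F.IsSaturated p)
    {K : Subgroup Ω} (hKS : K ≤ S) (hKn : ∀ g ∈ S, ∀ x ∈ K, cj g x ∈ K) :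
    ∃ G : FusionSystem S, G.IsSaturated p ∧ G.IsNormal K ∧
      (∀ P f, Mor G P f → Mor F P f) ∧
      ∀ P f, K ≤ P → Mor F P f → (∀ x ∈ K, f x ∈ K) → Mor G P f := by
  have hfn : F.IsFullyNormalized K := FusionWeakAlperin.fullyNormalized_of_normal hKS hKn
  have hT : normalizerIn S K = S :=
    inf_eq_left.mpr fun g hg => mem_normalizer_of_cj_le hKS (hKn g hg)
  have hE := isNormalizerSystem_normalizerSystem (F := F) K hKS
  have key : ∀ T (G : FusionSystem T), T = S → G.IsSaturated p → G.IsNormal K →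
      (∀ P f, Mor G P f → Mor F P f) →
      (∀ P f, K ≤ P → Mor F P f → (∀ x ∈ K, f x ∈ K) → Mor G P f) →
      ∃ G : FusionSystem S, G.IsSaturated p ∧ G.IsNormal K ∧ (∀ P f, Mor G P f → Mor F P f) ∧
        ∀ P f, K ≤ P → Mor F P f → (∀ x ∈ K, f x ∈ K) → Mor G P f := by
    rintro T G rfl h1 h2 h3 h4
    exact ⟨G, h1, h2, h3, h4⟩
  refine key _ _ hT (FusionSysNormalizer.normalizerSystem_saturated hS hF hfn hE)
    (FusionModelTools.normal_normalizerSystem hKS hE)
    (fun P f hf => ((mor_normalizerSystem_iff hE).mp hf).1) fun P f hKP hf hK => ?_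
  refine (mor_normalizerSystem_iff hE).mpr ⟨hf, hT.symm ▸ hf.le,
    fun x hx => hT.symm ▸ hf.apply_mem hx, f, ?_, fun _ _ => rfl, (hf.restrict_to hKP).im_self hK⟩
  rwa [sup_eq_left.mpr hKP]

/-- The data of the quotient by `K`. -/
structure Quot (F : FusionSystem S) (p : ℕ) (K : Subgroup Ω) {Ω' : Type u} [Group Ω']
    {S' : Subgroup Ω'} (θ : S →* Ω') (F' : FusionSystem S') : Prop where
  le : K ≤ S
  hS' : IsPGroup p S'
  hF' : F'.IsSaturated p
  range : θ.range = S'
  ker : (θ.ker).map S.subtype = K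
  down : ∀ P f, K ≤ P → Mor F P f → (∀ x ∈ K, f x ∈ K) →
    ∃ f', Mor F' (imageAlong θ P) f' ∧ ∀ x ∈ P, f' (app θ x) = app θ (f x)
  up : ∀ P' f', Mor F' P' f' →
    ∃ f, Mor F (preimageAlong θ P') f ∧ ∀ x ∈ preimageAlong θ P', f' (app θ x) = app θ (f x)

theorem exists_quot (hS : IsPGroup p S) {F : FusionSystem S} (hF : F.IsSaturated p)
    {K : Subgroup Ω} (hKS : K ≤ S) (hKn : ∀ g ∈ S, ∀ x ∈ K, cj g x ∈ K) :
    ∃ (Ω' : Type u) (_ : Group Ω') (S' : Subgroup Ω') (_ : Finite S') (θ : S →* Ω')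
      (F' : FusionSystem S'), Quot F p K θ F' := by
  obtain ⟨G, hG, hGK, hsub, hback⟩ := exists_norm_sys hS hF hKS hKn
  haveI hKnS : (K.subgroupOf S).Normal := ⟨fun q hq g => hKn (g : Ω) g.2 (q : Ω) hq⟩
  obtain ⟨E, hE⟩ := S5132.result p hS G K (stronglyClosed_of_normal hGK)
  have hsurj := S5134.result p hS G hG K (stronglyClosed_of_normal hGK) _ E hE
  refine ⟨_, _, _, inferInstance, _, E, hKS,
    (hS.to_quotient _).of_equiv Subgroup.topEquiv.symm, saturated_of_surjective hS hG hsurj,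
    hsurj.2.1, (factor_stronglyClosed hE).symm,
    fun P f hKP hf hK => morphism_mor hsurj.1 (hback P f hKP hf hK), fun P' f' hf' => ?_⟩
  obtain ⟨f, hf, hfe⟩ := surjective_mor hsurj hf'
  exact ⟨f, hsub _ _ hf, hfe⟩

namespace Quot

variable {F : FusionSystem S} {K : Subgroup Ω} {Ω' : Type u} [Group Ω'] {S' : Subgroup Ω'}
  {θ : S →* Ω'} {F' : FusionSystem S'}

theorem app_mem (q : Quot F p K θ F') {x : Ω} (hx : x ∈ S) : app θ x ∈ S' := by
  rw [← q.range, app_apply θ hx]; exact ⟨_, rfl⟩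

theorem app_eq_one (q : Quot F p K θ F') {x : Ω} (hx : x ∈ S) : app θ x = 1 ↔ x ∈ K := by
  rw [← q.ker, mem_kerAlong]; exact ⟨fun h => ⟨hx, h⟩, fun h => h.2⟩

theorem image_top (q : Quot F p K θ F') : imageAlong θ S = S' := by
  ext y
  rw [← q.range, mem_imageAlong, MonoidHom.mem_range]
  constructor
  · rintro ⟨x, hx, -, rfl⟩; exact ⟨⟨x, hx⟩, (app_apply θ hx).symm⟩
  · rintro ⟨⟨x, hx⟩, rfl⟩; exact ⟨x, hx, hx, app_apply θ hx⟩

theorem preimage_image (q : Quot F p K θ F') {P : Subgroup Ω} (hPS : P ≤ S) (hKP : K ≤ P) :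
    preimageAlong θ (imageAlong θ P) = P :=
  preimageAlong_imageAlong hPS (q.ker.le.trans hKP)

theorem preimage_top (q : Quot F p K θ F') : preimageAlong θ S' = S := by
  have := q.preimage_image le_rfl q.le
  rwa [q.image_top] at this

theorem le_preimage (q : Quot F p K θ F') (P' : Subgroup Ω') : K ≤ preimageAlong θ P' :=
  q.ker.ge.trans (ker_le_preimageAlong P')

theorem image_le (q : Quot F p K θ F') (P : Subgroup Ω) : imageAlong θ P ≤ S' :=
  q.range ▸ imageAlong_le_range P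

/-- Orders of images. -/
theorem card_image (q : Quot F p K θ F') {P : Subgroup Ω} (hPS : P ≤ S) :
    Nat.card P = Nat.card (imageAlong θ P) * Nat.card ↥(K ⊓ P) := by
  let f : P →* Ω' := θ.comp (Subgroup.inclusion hPS)
  have hr : f.range = imageAlong θ P := by
    ext y
    rw [mem_imageAlong, MonoidHom.mem_range]
    constructor
    · rintro ⟨⟨x, hx⟩, rfl⟩; exact ⟨x, hx, hPS hx, app_apply θ (hPS hx)⟩
    · rintro ⟨x, hx, -, rfl⟩; exact ⟨⟨x, hx⟩, (app_apply θ (hPS hx)).symm⟩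
  have hk : Nat.card f.ker = Nat.card ↥(K ⊓ P) := by
    refine Nat.card_congr ⟨fun x => ⟨((x : P) : Ω), ?_, (x : P).2⟩,
      fun y => ⟨⟨(y : Ω), y.2.2⟩, ?_⟩, fun x => rfl, fun y => rfl⟩
    · refine (q.app_eq_one (hPS (x : P).2)).mp ?_
      rw [app_apply θ (hPS (x : P).2)]; exact x.2
    · show θ ⟨(y : Ω), hPS y.2.2⟩ = 1
      rw [← app_apply θ (hPS y.2.2)]; exact (q.app_eq_one (hPS y.2.2)).mpr y.2.1
  rw [f.ker.card_eq_card_quotient_mul_card_subgroup, hk,
    Nat.card_congr (QuotientGroup.quotientKerEquivRange f).toEquiv, hr]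

theorem card_image_eq (q : Quot F p K θ F') {P : Subgroup Ω} (hPS : P ≤ S) (hKP : K ≤ P) :
    Nat.card P = Nat.card (imageAlong θ P) * Nat.card K := by
  rw [q.card_image hPS, inf_eq_left.mpr hKP]

theorem card_top (q : Quot F p K θ F') : Nat.card S = Nat.card S' * Nat.card K := by
  rw [q.card_image_eq le_rfl q.le, q.image_top]

/-- Automorphisms stabilising `K` descend. -/
theorem descend (q : Quot F p K θ F') {P : Subgroup Ω} (hPS : P ≤ S) (hKP : K ≤ P)
    {P' : Subgroup Ω'} (hP' : imageAlong θ P = P') (hinv : Inv F P K) {α : MulAut P}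
    (hα : α ∈ F.autGroup P) :
    ∃ β ∈ F'.autGroup P', ∀ x ∈ P, afun β (app θ x) = app θ (afun α x) := by
  subst hP'
  obtain ⟨f', hf', hfe⟩ := q.down P (afun α) hKP ((mem_autGroup hPS).mp hα) fun x hx => hinv α hα x hx
  haveI : Finite S' := q.range ▸ Finite.of_surjective θ.rangeRestrict θ.rangeRestrict_surjective
  obtain ⟨β, hβ, hβe⟩ := hf'.exists_aut (hf'.im_self fun y hy => by
    obtain ⟨x, hx, -, rfl⟩ := mem_imageAlong.mp hy
    rw [hfe x hx]
    exact app_mem_imageAlong (afun_mem α hx) hPS)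
  exact ⟨β, hβ, fun x hx => (hβe _ (app_mem_imageAlong hx hPS)).trans (hfe x hx)⟩

variable [Finite S']

/-- **The image of a maximal essential subgroup is one again.** -/
theorem max_image (q : Quot F p K θ F') {E E' : Subgroup Ω} (h : Pair F p E E')
    (hK : CommonInv F E E' K) (hT : ¬ InvBy (opp F p E) (E ⊓ E')) :
    Max F' p (imageAlong θ E) := by
  have hES : E ≤ S := h.m₁.le
  have hKE : K ≤ E := hK.le.trans inf_le_left
  haveI := h.m₁.finite
  set P' := imageAlong θ E with hP'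
  have hP'S : P' ≤ S' := q.image_le E
  haveI : Finite P' := finite_of_le hP'S
  have hn : ∀ g ∈ S', ∀ y ∈ P', cj g y ∈ P' := by
    intro g hg y hy
    obtain ⟨a, ha, -, rfl⟩ := mem_imageAlong.mp (q.image_top.ge hg)
    obtain ⟨x, hx, -, rfl⟩ := mem_imageAlong.mp hy
    rw [← app_cj ha (hES hx)]
    exact app_mem_imageAlong (h.m₁.normal a ha x hx) hES
  have hK0 : 0 < Nat.card K := by
    haveI := finite_of_le (hKE.trans hES)
    exact Nat.card_pos
  have hcard : Nat.card S' = p * Nat.card P' := by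
    have h1 := h.m₁.card_eq
    rw [q.card_top, q.card_image_eq hES hKE, ← mul_assoc] at h1
    exact Nat.eq_of_mul_eq_mul_right hK0 h1
  have hlt : P' < S' := by
    refine lt_of_le_of_ne hP'S fun e => ?_
    have h0 : 0 < Nat.card P' := Nat.card_pos
    have hc : Nat.card S' = Nat.card P' := (congrArg (fun L : Subgroup Ω' => Nat.card L) e).symm
    have := (Fact.out : p.Prime).one_lt
    nlinarith
  refine ⟨?_, hcard, hn⟩
  have hfn : F'.IsFullyNormalized P' := FusionWeakAlperin.fullyNormalized_of_normal hP'S hn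
  have hcl : Subgroup.closure {β | Extends F' (P := P') β} ≤ F'.autGroup P' :=
    (Subgroup.closure_le _).mpr fun β hβ => hβ.mem_autGroup
  refine (essential_of_ne q.hS' q.hF' hlt hfn hcl ?_ fun β hβ => Subgroup.subset_closure hβ).1
  intro heq
  -- the extendable automorphisms normalise the conjugations
  have hnorm : Subgroup.closure {β | Extends F' (P := P') β} ≤
      Subgroup.normalizer ((autInducedBy S' P' : Subgroup (MulAut P')) : Set (MulAut P')) := by
    refine (Subgroup.closure_le _).mpr fun β hβ => ?_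
    obtain ⟨R, hPR, f, hf, hfe⟩ := hβ
    obtain rfl : R = S' := eq_of_le_of_card_ge le_rfl hf.le
      (hcard ▸ mul_card_le_of_lt q.hS' hf.le hPR)
    refine Subgroup.mem_normalizer_iff_map_conj_eq.mpr (Subgroup.eq_of_le_of_card_ge ?_ ?_)
    · rintro _ ⟨γ, hγ, rfl⟩
      obtain ⟨g, hg, -, hge⟩ := mem_autInducedBy.mp hγ
      refine mem_autInducedBy.mpr ⟨f g, hf.apply_mem hg,
        mem_normalizer_of_cj_le hP'S (hn _ (hf.apply_mem hg)), fun y hy => ?_⟩
      show afun (β * γ * β⁻¹) y = _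
      have hz := afun_mem β⁻¹ hy
      rw [afun_mul _ _ hy, afun_mul _ _ hz, hge _ hz, ← hfe _ (hn g hg _ hz),
        hf.map_cj hg (hP'S hz), hfe _ hz, afun_apply_inv β hy]
    · rw [Subgroup.card_map_of_injective (MulAut.conj β).injective]
  rw [heq] at hnorm
  -- so the conjugates of the conjugations of `E` act on `E ⊓ E'` as elements of `S`
  let T : Set (MulAut E) :=
    {γ | ∃ α ∈ F.autGroup E, ∃ g, ∃ hg : g ∈ S, γ = α * h.m₁.conjAut hg * α⁻¹}
  have hopp : opp F p E ≤ Subgroup.closure T := by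
    refine h.m₁.opp_le h.hS h.hF _ (fun a ha m hm => ?_) fun g hg => ?_
    · have hle : (Subgroup.closure T).map (MulAut.conj a).toMonoidHom ≤ Subgroup.closure T := by
        rw [MonoidHom.map_closure]
        refine Subgroup.closure_mono ?_
        rintro _ ⟨_, ⟨α, hα, g, hg, rfl⟩, rfl⟩
        refine ⟨a * α, mul_mem ha hα, g, hg, ?_⟩
        show a * (α * h.m₁.conjAut hg * α⁻¹) * a⁻¹ = _
        group
      exact hle ⟨m, hm, rfl⟩
    · exact Subgroup.subset_closure ⟨1, one_mem _, g, hg, by group⟩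
  refine hT ((invBy_closure inf_le_left ?_).mono hopp)
  rintro γ ⟨α, hα, g, hg, rfl⟩ x ⟨hx, hx'⟩
  obtain ⟨β, hβ, hβe⟩ := q.descend hES hKE hP'.symm hK.inv₁ hα
  have hgS' : app θ g ∈ S' := q.app_mem hg
  have hgn : app θ g ∈ Subgroup.normalizer (P' : Set Ω') := mem_normalizer_of_cj_le hP'S (hn _ hgS')
  obtain ⟨t, ht, -, hte⟩ := mem_autInducedBy.mp
    ((Subgroup.mem_normalizer_iff_map_conj_eq.mp (hnorm hβ)).le
      ⟨nHom S' P' ⟨app θ g, hgS', hgn⟩, (autInducedBy_eq_range S' P').ge ⟨_, rfl⟩, rfl⟩)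
  obtain ⟨a, ha, -, rfl⟩ := mem_imageAlong.mp (q.image_top.ge ht)
  have hz := afun_mem α⁻¹ hx
  have hyP : app θ x ∈ P' := app_mem_imageAlong hx hES
  have hy : afun β⁻¹ (app θ x) = app θ (afun α⁻¹ x) := by
    have h1 := hβe _ hz
    rw [afun_apply_inv α hx] at h1
    rw [← h1, afun_inv_apply β (app_mem_imageAlong hz hES)]
  have e : app θ (afun (α * h.m₁.conjAut hg * α⁻¹) x) = app θ (cj a x) := by
    rw [app_cj ha (hES hx), ← hte _ hyP, afun_mul _ _ hx, afun_mul _ _ hz,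
      h.m₁.afun_conjAut hg hz]
    show _ = afun (β * nHom S' P' ⟨app θ g, hgS', hgn⟩ * β⁻¹) (app θ x)
    have hzP : app θ (afun α⁻¹ x) ∈ P' := app_mem_imageAlong hz hES
    rw [afun_mul _ _ hyP, hy, afun_mul _ _ hzP, afun_nHom _ hzP,
      ← app_cj hg (hES hz), hβe _ (h.m₁.normal g hg _ hz)]
  have hx1 : cj a x ∈ E ⊓ E' := ⟨h.m₁.normal a ha x hx, h.m₂.normal a ha x hx'⟩
  set w := afun (α * h.m₁.conjAut hg * α⁻¹) x
  have hw : w ∈ E := afun_mem _ hx
  have hdiff : (cj a x)⁻¹ * w ∈ K := by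
    refine (q.app_eq_one (S.mul_mem (S.inv_mem (hES hx1.1)) (hES hw))).mp ?_
    rw [app_mul (S.inv_mem (hES hx1.1)) (hES hw), app_inv (hES hx1.1), e, inv_mul_cancel]
  have := mul_mem hx1 (hK.le hdiff)
  rwa [mul_inv_cancel_left] at this

/-- The image of an `Aut_F(S)`-invariant subgroup is fixed by `Aut_{F'}(S')`. -/
theorem im_image (q : Quot F p K θ F') {E : Subgroup Ω} (hES : E ≤ S) (hc : Inv F S E)
    {α : MulAut S'} (hα : α ∈ F'.autGroup S') : im (imageAlong θ E) (afun α) = imageAlong θ E := by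
  have hm := (mem_autGroup le_rfl).mp hα
  obtain ⟨f, hf, hfe⟩ := q.up S' _ hm
  rw [q.preimage_top] at hf hfe
  obtain ⟨γ, hγ, hγe⟩ := hf.exists_aut (hf.im_self fun x hx => hf.apply_mem hx)
  refine (hm.restrict_to (q.image_le E)).im_self fun y hy => ?_
  obtain ⟨x, hx, -, rfl⟩ := mem_imageAlong.mp hy
  rw [hfe x (hES hx), ← hγe x (hES hx)]
  exact app_mem_imageAlong (hc γ hγ x hx) hES

theorem ctx (q : Quot F p K θ F') {E E' : Subgroup Ω} (h : Pair F p E E')
    (hK : CommonInv F E E' K) (hmax : ∀ K', CommonInv F E E' K' → K ≤ K' → K' = K)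
    (hT : ∀ A B, Pair F p A B → ¬ InvBy (opp F p A) (A ⊓ B)) :
    Ctx F' p {imageAlong θ E, imageAlong θ E'} := by
  have hK' : CommonInv F E' E K := ⟨inf_comm E E' ▸ hK.le, hK.invS, hK.inv₂, hK.inv₁⟩
  have m₁ := q.max_image h hK (hT _ _ h)
  have m₂ := q.max_image h.symm hK' (hT _ _ h.symm)
  refine ⟨h.hp, q.hS', q.hF', ?_, ?_, ?_, ?_, ?_⟩
  · refine rank_of_surjective h.rk ((MulEquiv.subgroupCongr q.range).toMonoidHom.comp θ.rangeRestrict) ?_
    exact (MulEquiv.subgroupCongr q.range).surjective.comp θ.rangeRestrict_surjective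
  · intro e
    have h1 := m₁.card_eq
    have hone : Nat.card S' = 1 := by rw [e, Subgroup.card_bot]
    rw [hone] at h1
    exact (Fact.out : p.Prime).one_lt.ne' (Nat.eq_one_of_mul_eq_one_right h1.symm)
  · rintro P (rfl | rfl)
    exacts [m₁, m₂]
  · rintro P (rfl | rfl) α hα
    · exact Or.inl (q.im_image h.m₁.le h.c₁ hα)
    · exact Or.inr (q.im_image h.m₂.le h.c₂ hα)
  intro L hLS hLinv hall
  obtain ⟨hL₁, hL₁i⟩ := hall _ (Or.inl rfl)
  obtain ⟨hL₂, hL₂i⟩ := hall _ (Or.inr rfl)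
  have hle : ∀ {P : Subgroup Ω}, P ≤ S → K ≤ P → L ≤ imageAlong θ P → preimageAlong θ L ≤ P :=
    fun hPS hKP hLP => (preimageAlong_mono hLP).trans_eq (q.preimage_image hPS hKP)
  have hinv : ∀ {P : Subgroup Ω}, P ≤ S → K ≤ P → Inv F P K → preimageAlong θ L ≤ P →
      (∀ {P' : Subgroup Ω'}, imageAlong θ P = P' → Inv F' P' L) →
      Inv F P (preimageAlong θ L) := by
    intro P hPS hKP hPK hP hLP α hα x hx
    obtain ⟨β, hβ, hβe⟩ := q.descend hPS hKP rfl hPK hα
    refine mem_preimageAlong.mpr ⟨hPS (afun_mem α (hP hx)), ?_⟩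
    rw [← hβe x (hP hx)]
    exact hLP rfl β hβ _ (mem_preimageAlong.mp hx).2
  have hKE : K ≤ E := hK.le.trans inf_le_left
  have hKE' : K ≤ E' := hK.le.trans inf_le_right
  have hM₁ := hle h.m₁.le hKE hL₁
  have hM₂ := hle h.m₂.le hKE' hL₂
  have hM : CommonInv F E E' (preimageAlong θ L) :=
    ⟨le_inf hM₁ hM₂, hinv le_rfl q.le hK.invS (preimageAlong_le θ L) (fun e => by
        rw [← e, q.image_top]; exact hLinv),
      hinv h.m₁.le hKE hK.inv₁ hM₁ (fun e => e ▸ hL₁i),
      hinv h.m₂.le hKE' hK.inv₂ hM₂ (fun e => e ▸ hL₂i)⟩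
  have heq := hmax _ hM (q.le_preimage L)
  rw [Subgroup.eq_bot_iff_forall]
  intro y hy
  obtain ⟨x, hx, hxS, rfl⟩ := mem_imageAlong.mp ((imageAlong_preimageAlong (q.range ▸ hLS)).ge hy)
  exact (q.app_eq_one hxS).mpr (heq ▸ hx)

end Quot

end Quot34

variable {Ω : Type u} [Group Ω] {S : Subgroup Ω} {p : ℕ} {F : FusionSystem S}

/-- **The shape of `S / K`.** -/
theorem quot_shape [Finite S] [Fact p.Prime]
    (hT : ∀ A B, Pair F p A B → ¬ InvBy (opp F p A) (A ⊓ B))
    (heng : ∀ {Ω' : Type u} [Group Ω'] {S' : Subgroup Ω'} [Finite S']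
      (F' : Cfsg.FusionSystem S') (𝔈 : Set (Subgroup Ω')),
      Ctx F' p 𝔈 → Concl S' p 𝔈 ∨ Nat.card S' = p ^ 3)
    {E E' K : Subgroup Ω} (h : Pair F p E E') (hK : CommonInv F E E' K)
    (hmax : ∀ K', CommonInv F E E' K' → K ≤ K' → K' = K) : QuotShape S p E E' K := by
  have hKE : K ≤ E := hK.le.trans inf_le_left
  have hKE' : K ≤ E' := hK.le.trans inf_le_right
  obtain ⟨Ω', _, S', _, θ, F', q⟩ := Quot34.exists_quot h.hS h.hF (hKE.trans h.m₁.le)
    (fun g hg x hx => h.m₁.cj_mem_of_inv hKE hK.inv₁ hg hx)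
  have hctx := q.ctx h hK hmax hT
  rcases heng F' _ hctx with ⟨-, A', hA', B', hB', hBx, hBc, -, hAe, hAc⟩ | hc
  swap
  · exact Or.inl (by rw [q.card_top, hc])
  have hne : A' ≠ B' := by
    rintro rfl
    haveI : Finite A' := finite_of_le ((hctx.max _ hA').ess.1.1)
    have hz : Subgroup.center A' = ⊤ := eq_top_iff.mpr fun a _ =>
      Subgroup.mem_center_iff.mpr fun b => hAe.1.is_comm.comm b a
    have h1 := hBx.2
    rw [hz, Subgroup.card_top, hAc] at h1
    have h2 : p ^ 3 = p ^ 1 := by rw [pow_one]; exact h1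
    have := Nat.pow_right_injective (Fact.out : p.Prime).two_le h2
    omega
  have hcard : Nat.card S = p ^ 4 * Nat.card K := by
    rw [q.card_top, (hctx.max _ hA').card_eq, hAc]; ring
  obtain ⟨A, B, hAB, rfl, rfl⟩ : ∃ A B : Subgroup Ω, ((A = E ∧ B = E') ∨ (A = E' ∧ B = E)) ∧
      A' = imageAlong θ A ∧ B' = imageAlong θ B := by
    rcases hA' with rfl | rfl <;> rcases hB' with rfl | rfl
    · exact absurd rfl hne
    · exact ⟨E, E', Or.inl ⟨rfl, rfl⟩, rfl, rfl⟩
    · exact ⟨E', E, Or.inr ⟨rfl, rfl⟩, rfl, rfl⟩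
    · exact absurd rfl hne
  have hS : A ≤ S ∧ B ≤ S := by
    rcases hAB with ⟨rfl, rfl⟩ | ⟨rfl, rfl⟩
    exacts [⟨h.m₁.le, h.m₂.le⟩, ⟨h.m₂.le, h.m₁.le⟩]
  obtain ⟨hAS, hBS⟩ := hS
  refine Or.inr ⟨hcard, A, B, hAB, fun a ha b hb => ?_, fun a ha => ?_, fun T hTB hT' => ?_⟩
  · have haS := hAS ha
    have hbS := hAS hb
    refine (q.app_eq_one (S.mul_mem (S.mul_mem (S.mul_mem haS hbS) (S.inv_mem haS))
      (S.inv_mem hbS))).mp ?_
    have := congrArg Subtype.val (hAe.1.is_comm.comm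
      ⟨_, app_mem_imageAlong (α := θ) ha hAS⟩ ⟨_, app_mem_imageAlong (α := θ) hb hAS⟩)
    rw [app_mul (S.mul_mem (S.mul_mem haS hbS) (S.inv_mem haS)) (S.inv_mem hbS),
      app_mul (S.mul_mem haS hbS) (S.inv_mem haS), app_mul haS hbS, app_inv haS, app_inv hbS]
    rw [show app θ a * app θ b = app θ b * app θ a from this, mul_inv_cancel_right, mul_inv_cancel]
  · have haS := hAS ha
    refine (q.app_eq_one (S.pow_mem haS p)).mp ?_
    have happ : ∀ n : ℕ, app θ (a ^ n) = app θ a ^ n := fun n => by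
      rw [app_apply θ (S.pow_mem haS n), app_apply θ haS, ← map_pow]; rfl
    rw [happ]
    exact hAe.2 _ (app_mem_imageAlong ha hAS)
  · have hTS := hTB.trans hBS
    rw [q.card_image hTS]
    haveI : Finite K := finite_of_le q.le
    refine Nat.mul_le_mul ?_ (Subgroup.card_le_of_le inf_le_left)
    haveI : Finite ↥(imageAlong θ B) := finite_of_le (q.image_le B)
    refine le_of_le_of_eq (Nat.card_le_card_of_injective (fun y => ?_) ?_) hBx.2
    · refine ⟨⟨(y : Ω'), ?_⟩, Subgroup.mem_center_iff.mpr fun b => ?_⟩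
      · obtain ⟨x, hx, hxS, e⟩ := mem_imageAlong.mp y.2
        exact e ▸ app_mem_imageAlong (hTB hx) hBS
      · obtain ⟨z, hz, hzS, e⟩ := mem_imageAlong.mp y.2
        obtain ⟨b₀, hb₀, hbS, eb⟩ := mem_imageAlong.mp b.2
        refine Subtype.ext ?_
        show (b : Ω') * (y : Ω') = (y : Ω') * (b : Ω')
        rw [← e, ← eb]
        have := (q.app_eq_one (S.mul_mem (S.mul_mem (S.mul_mem hzS hbS) (S.inv_mem hzS))
          (S.inv_mem hbS))).mpr (hT' z hz b₀ hb₀)
        rw [app_mul (S.mul_mem (S.mul_mem hzS hbS) (S.inv_mem hzS)) (S.inv_mem hbS),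
          app_mul (S.mul_mem hzS hbS) (S.inv_mem hzS), app_mul hzS hbS, app_inv hzS, app_inv hbS,
          mul_inv_eq_one, mul_inv_eq_iff_eq_mul] at this
        exact this.symm
    · intro u v e
      exact Subtype.ext (congrArg (fun w => (((w : ↥(imageAlong θ B))) : Ω')) (congrArg Subtype.val e))

end Cfsg.Agent.Rank3
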