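import Cfsg.Agent.Lib.FusionFpfSetup20
import Cfsg.Agent.Lib.Rank3PairQuot34
import Cfsg.Agent.Lib.FusionSysAlperin

/-!
A central subgroup invariant under the fixed-point-free automorphism: reduction to the quotient (S5277).
-/

set_option autoImplicit false
set_option linter.unusedSectionVars false
set_option linter.style.haveILetI false

namespace Cfsg.Agent.FusionFpf20

open Cfsg Cfsg.FusionSystem Cfsg.Agent.FusionSysBasic Cfsg.Agent.FusionSysSaturated
  Cfsg.Agent.FusionSysNormal Cfsg.Agent.FusionSysAlperin Cfsg.Agent.FusionMorph88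
open Cfsg.Agent.Rank3.Quot34

universe u

variable {Ω : Type u} [Group Ω] {S : Subgroup Ω} {p r : ℕ} [Fact p.Prime] [Finite S]
  {F : FusionSystem S} {a : MulAut S}

namespace CentralQuot

/-- The maps of a system fix a central subgroup pointwise. -/
theorem mor_fix_central {Z : Subgroup Ω} (hZ : F.IsCentral Z) {P : Subgroup Ω} {f : Ω → Ω}
    (hf : Mor F P f) (hZP : Z ≤ P) {z : Ω} (hz : z ∈ Z) : f z = z := by
  obtain ⟨φ, hφ, he⟩ := hf
  obtain ⟨ψ, -, hψ, hψz⟩ := hZ.2 P φ hφ
  have h1 := hψ ⟨z, hZP hz⟩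
  have h2 := hψz ⟨z, hz⟩
  rw [← he ⟨z, hZP hz⟩, ← h1]
  exact h2

/-- A central subgroup is centralised by `S`. -/
theorem cj_fix_central {Z : Subgroup Ω} (hZ : F.IsCentral Z) {g z : Ω} (hg : g ∈ S) (hz : z ∈ Z) :
    cj g z = z :=
  mor_fix_central hZ (mor_cj (F := F) le_rfl hg) hZ.1 hz

/-- A central subgroup lies in every centric subgroup. -/
theorem central_le_centric {Z : Subgroup Ω} (hZ : F.IsCentral Z) {P : Subgroup Ω}
    (hP : F.IsCentric P) : Z ≤ P := fun z hz =>
  hP.2 P (isConj_refl hP.1) ⟨hZ.1 hz, Subgroup.mem_centralizer_iff.2 fun x hx => by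
    have h := cj_fix_central hZ (hP.1 hx) hz
    rw [cj_apply] at h
    calc x * z = x * z * x⁻¹ * x := by group
      _ = z * x := by rw [h]⟩

variable {Ω' : Type u} [Group Ω'] {S' : Subgroup Ω'} {Z : Subgroup Ω} {θ : S →* Ω'}
  {F' : FusionSystem S'}

theorem mem_image (q : Quot F p Z θ F') {y : Ω'} (hy : y ∈ S') : ∃ x ∈ S, app θ x = y := by
  rw [← q.range] at hy
  obtain ⟨⟨x, hx⟩, rfl⟩ := hy
  exact ⟨x, hx, app_apply θ hx⟩

/-- Powers of compatible automorphisms are compatible. -/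
theorem afun_pow_compat {R : Subgroup Ω} {R' : Subgroup Ω'} {α : MulAut R} {β : MulAut R'}
    (hmap : ∀ x ∈ R, app θ x ∈ R')
    (h : ∀ x ∈ R, afun β (app θ x) = app θ (afun α x)) :
    ∀ n : ℕ, ∀ x ∈ R, afun (β ^ n) (app θ x) = app θ (afun (α ^ n) x)
  | 0, x, hx => by rw [pow_zero, pow_zero, afun_one hx, afun_one (hmap x hx)]
  | n + 1, x, hx => by
    rw [pow_succ, pow_succ, afun_mul _ _ (hmap x hx), afun_mul _ _ hx, h x hx,
      afun_pow_compat hmap h n _ (afun_mem α hx)]

/-- The quotient satisfies the hypotheses again. -/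
theorem exists_hyp (h : Hyp p r F a) (hZ : F.IsCentral Z) (haZ : AInv a Z)
    (q : Quot F p Z θ F') [Finite S'] : ∃ a' : MulAut S', Hyp p r F' a' := by
  classical
  let θr : S →* S' := θ.codRestrict S' fun x => q.range ▸ ⟨x, rfl⟩
  have hθr : ∀ (x : Ω) (hx : x ∈ S), (θr ⟨x, hx⟩ : Ω') = app θ x :=
    fun x hx => (app_apply θ hx).symm
  have hsur : Function.Surjective θr := fun y => by
    obtain ⟨x, hx, hxy⟩ := mem_image q y.2
    exact ⟨⟨x, hx⟩, Subtype.ext ((hθr x hx).trans hxy)⟩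
  have hker : ∀ x : S, x ∈ θr.ker ↔ (x : Ω) ∈ Z := by
    intro x
    rw [← q.app_eq_one x.2, ← hθr _ x.2, MonoidHom.mem_ker]
    exact ⟨fun e => congrArg Subtype.val e, fun e => Subtype.ext e⟩
  have hak : ∀ x ∈ θr.ker, a x ∈ θr.ker := fun x hx => (hker _).2 (by
    rw [← ext_apply a x.2]; exact haZ _ ((hker x).1 hx))
  have hmap : θr.ker.map a.toMonoidHom = θr.ker := by
    refine Subgroup.eq_of_le_of_card_ge ?_ ?_
    · rintro _ ⟨x, hx, rfl⟩; exact hak x hx
    · rw [Subgroup.card_map_of_injective a.injective]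
  let e := QuotientGroup.quotientKerEquivOfSurjective θr hsur
  let a' : MulAut S' := e.symm.trans ((QuotientGroup.congr _ _ a hmap).trans e)
  have hcomm : ∀ x : S, a' (θr x) = θr (a x) := by
    intro x
    have h1 : e.symm (θr x) = (x : S ⧸ θr.ker) := by
      rw [MulEquiv.symm_apply_eq]; rfl
    show e ((QuotientGroup.congr _ _ a hmap) (e.symm (θr x))) = _
    rw [h1]
    rfl
  have hext : ∀ x ∈ S, ext a' (app θ x) = app θ (ext a x) := by
    intro x hx
    rw [ext_apply a hx, ext_apply a' (q.app_mem hx),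
      show (⟨app θ x, q.app_mem hx⟩ : S') = θr ⟨x, hx⟩ from Subtype.ext (hθr x hx).symm, hcomm,
      ← hθr _ (a ⟨x, hx⟩).2]
  have hpow : ∀ (n : ℕ) (x : S), (a' ^ n) (θr x) = θr ((a ^ n) x) := by
    intro n
    induction n with
    | zero => intro x; simp
    | succ n ih =>
      intro x
      rw [pow_succ, pow_succ, MulAut.mul_apply, MulAut.mul_apply, hcomm, ih]
  refine ⟨a', q.hS', q.hF', h.hp2, h.hr, ?_, ?_, ?_, ?_⟩
  · refine MulEquiv.ext fun y => ?_
    obtain ⟨x, rfl⟩ := hsur y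
    rw [hpow, h.pow]
    rfl
  · intro y hy
    obtain ⟨x, rfl⟩ := hsur y
    rw [hcomm] at hy
    have hc : x⁻¹ * a x ∈ θr.ker := by
      rw [MonoidHom.mem_ker, map_mul, map_inv, hy, inv_mul_cancel]
    have hcen : ∀ z ∈ θr.ker, ∀ g : S, g * z = z * g := by
      intro z hz g
      have h1 := cj_fix_central hZ g.2 ((hker z).1 hz)
      rw [cj_apply] at h1
      refine Subtype.ext ?_
      show (g : Ω) * z = z * g
      calc (g : Ω) * z = (g : Ω) * z * (g : Ω)⁻¹ * g := by group
        _ = z * g := by rw [h1]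
    let ν : θr.ker → θr.ker := fun z =>
      ⟨(z : S)⁻¹ * a z, mul_mem (inv_mem z.2) (hak _ z.2)⟩
    have hinj : Function.Injective ν := by
      intro z w hzw
      have hzw' : (z : S)⁻¹ * a z = (w : S)⁻¹ * a w := congrArg Subtype.val hzw
      have h2 : a ((w : S)⁻¹ * z) = (w : S)⁻¹ * z := by
        have h3 : a (z : S) = (z : S) * ((w : S)⁻¹ * a w) := by
          rw [← hzw']; group
        have hu := mul_mem z.2 (inv_mem w.2)
        calc a ((w : S)⁻¹ * z) = (a (w : S))⁻¹ * ((z : S) * (w : S)⁻¹) * a (w : S) := by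
              rw [map_mul, map_inv, h3]; group
          _ = (z : S) * (w : S)⁻¹ := by rw [hcen _ hu]; group
          _ = (w : S)⁻¹ * z := (hcen _ z.2 _).symm
      have h4 := h.fix _ h2
      exact Subtype.ext (inv_mul_eq_one.1 h4).symm
    obtain ⟨z, hz⟩ := Finite.surjective_of_injective hinj ⟨(x⁻¹ * a x)⁻¹, inv_mem hc⟩
    have hz' : (z : S)⁻¹ * a z = (x⁻¹ * a x)⁻¹ := congrArg Subtype.val hz
    have hfx : a (x * z) = x * z := by
      have h3 : a (z : S) = (z : S) * (x⁻¹ * a x)⁻¹ := by rw [← hz']; group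
      rw [map_mul, h3, ← mul_assoc, hcen _ z.2 (a x), mul_inv_rev, inv_inv, hcen _ z.2 x]
      group
    have h1 := h.fix _ hfx
    rw [show x = (z : S)⁻¹ from eq_inv_of_mul_eq_one_left h1, map_inv,
      MonoidHom.mem_ker.1 z.2, inv_one]
  · intro P' f' hf'
    obtain ⟨f, hf, hfe⟩ := q.up P' f' hf'
    obtain ⟨g, hg, hge⟩ := h.mor _ f hf
    have hP'S : P' ≤ θ.range := q.range ▸ hf'.le
    have hPS := preimageAlong_le θ P'
    have hZQ : Z ≤ im (preimageAlong θ P') (ext a) := fun z hz => by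
      obtain ⟨w, hw⟩ := (Finite.surjective_of_injective (f := fun w : θr.ker => (⟨a w, hak _ w.2⟩ :
        θr.ker)) fun u v huv => Subtype.ext (a.injective (congrArg Subtype.val huv)))
        ⟨⟨z, hZ.1 hz⟩, (hker _).2 hz⟩
      have hw' : a (w : S) = ⟨z, hZ.1 hz⟩ := congrArg Subtype.val hw
      have h5 : ext a ((w : S) : Ω) = z := by rw [ext_apply a (w : S).2, hw']
      rw [← h5]
      exact apply_mem_im (q.le_preimage P' ((hker _).1 w.2))
    obtain ⟨g', hg', hge'⟩ := q.down _ g hZQ hg fun z hz => by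
      rw [mor_fix_central hZ hg hZQ hz]; exact hz
    have him : im P' (ext a') = imageAlong θ (im (preimageAlong θ P') (ext a)) := by
      refine le_antisymm (im_le_iff.2 fun y hy => ?_) fun y hy => ?_
      · obtain ⟨x, hx, rfl⟩ : ∃ x ∈ preimageAlong θ P', app θ x = y := by
          have := (imageAlong_preimageAlong hP'S).ge hy
          obtain ⟨x, hx, -, hxy⟩ := mem_imageAlong.1 this
          exact ⟨x, hx, hxy⟩
        rw [hext x (hPS hx)]
        exact app_mem_imageAlong (apply_mem_im hx) hg.le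
      · obtain ⟨x', hx', hx'S, rfl⟩ := mem_imageAlong.1 hy
        clear hy
        induction hx' using Subgroup.closure_induction with
        | mem b hb =>
          obtain ⟨x, hx, rfl⟩ := hb
          rw [← hext x (hPS hx)]
          exact apply_mem_im (by
            rw [← imageAlong_preimageAlong hP'S]
            exact app_mem_imageAlong hx hPS)
        | one => rw [app_one]; exact one_mem _
        | mul u v hu hv ihu ihv =>
          rw [app_mul (hg.le hu) (hg.le hv)]
          exact mul_mem (ihu (hg.le hu)) (ihv (hg.le hv))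
        | inv u hu ihu =>
          rw [app_inv (hg.le hu)]
          exact inv_mem (ihu (hg.le hu))
    refine ⟨g', him ▸ hg', fun y hy => ?_⟩
    obtain ⟨x, hx, -, rfl⟩ := mem_imageAlong.1 ((imageAlong_preimageAlong hP'S).ge hy)
    rw [hext x (hPS hx), hge' _ (apply_mem_im hx), hge x hx, hfe x hx, hext _ (hf.apply_mem hx)]
  · intro R' hR' hdvd
    haveI : Finite R' := finite_of_le hR'
    haveI := finite_autGroup (F := F') R'
    haveI := Fact.mk h.hr
    obtain ⟨β, hβ⟩ := exists_prime_orderOf_dvd_card' r hdvd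
    set R := preimageAlong θ R'
    have hR'r : R' ≤ θ.range := q.range ▸ hR'
    have hRS : R ≤ S := preimageAlong_le θ R'
    haveI : Finite R := finite_of_le hRS
    obtain ⟨f, hf, hfe⟩ := q.up R' _ ((mem_autGroup hR').mp β.2)
    have hmapR : ∀ x ∈ R, app θ x ∈ R' := fun x hx => by
      rw [← imageAlong_preimageAlong hR'r]
      exact app_mem_imageAlong hx hRS
    have hfR : ∀ x ∈ R, f x ∈ R := fun x hx => by
      refine mem_preimageAlong.2 ?_
      refine ⟨hf.apply_mem hx, ?_⟩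
      rw [← hfe x hx]
      exact afun_mem _ (hmapR x hx)
    obtain ⟨α, hα, hαe⟩ := hf.exists_aut (hf.im_self hfR)
    haveI := finite_autGroup (F := F) R
    refine h.aut R hRS ?_
    refine dvd_trans ?_ (orderOf_dvd_natCard (⟨α, hα⟩ : F.autGroup R))
    rw [← hβ, Subgroup.orderOf_mk, ← Subgroup.orderOf_coe, orderOf_dvd_iff_pow_eq_one]
    refine afun_ext fun y hy => ?_
    obtain ⟨x, hx, -, rfl⟩ := mem_imageAlong.1 ((imageAlong_preimageAlong hR'r).ge hy)
    rw [afun_pow_compat (R := R) hmapR (fun x hx => (hfe x hx).trans (by rw [hαe x hx])) _ x hx,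
      pow_orderOf_eq_one, afun_one hx, afun_one hy]

/-- A centric radical subgroup of a system whose quotient by a central subgroup has its group
normal is the whole group. -/
theorem le_of_normal_image (hS : IsPGroup p S) (hZ : F.IsCentral Z) (q : Quot F p Z θ F')
    [Finite S'] (hN : F'.IsNormal S') {P : Subgroup Ω} (hPc : F.IsCentric P)
    (hPr : F.IsRadical p P) : S ≤ P := by
  classical
  have hPS := hPc.1
  have hZP := central_le_centric hZ hPc
  haveI : Finite P := finite_of_le hPS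
  let C : MulAut P → Ω → Prop := fun m s => ∀ x ∈ P, app θ (afun m x) = app θ (cj s x)
  have hC1 : C 1 1 := fun x hx => by rw [afun_one hx, cj_one]
  have hCm : ∀ {m n : MulAut P} {s t : Ω}, s ∈ S → t ∈ S → C m s → C n t → C (m * n) (s * t) := by
    intro m n s t hs ht hm hn x hx
    rw [afun_mul _ _ hx, hm _ (afun_mem n hx), app_cj hs (hPS (afun_mem n hx)), hn x hx,
      app_cj ht (hPS hx), app_cj (mul_mem hs ht) (hPS hx), app_mul hs ht, cj_cj]
  let M : Subgroup (MulAut P) :=
    { carrier := {m | m ∈ F.autGroup P ∧ ∃ s ∈ S, C m s}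
      mul_mem' := fun {m n} hm hn => by
        obtain ⟨hmA, s, hs, hms⟩ := hm
        obtain ⟨hnA, t, ht, hnt⟩ := hn
        exact ⟨mul_mem hmA hnA, s * t, mul_mem hs ht, hCm hs ht hms hnt⟩
      one_mem' := ⟨one_mem _, 1, one_mem _, hC1⟩
      inv_mem' := fun {m} hm => by
        obtain ⟨hmA, s, hs, hms⟩ := hm
        refine ⟨inv_mem hmA, s⁻¹, inv_mem hs, fun x hx => ?_⟩
        have h1 := hms _ (afun_mem m⁻¹ hx)
        rw [afun_apply_inv m hx, app_cj hs (hPS (afun_mem _ hx))] at h1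
        rw [app_cj (inv_mem hs) (hPS hx), h1, app_inv hs, cj_inv_cj] }
  have hMp : IsPGroup p M := by
    obtain ⟨k, hk⟩ := IsPGroup.iff_card.1 hS
    rintro ⟨m, hmA, s, hs, hms⟩
    refine ⟨k + k, Subtype.ext ?_⟩
    show m ^ p ^ (k + k) = 1
    have hn : ∀ n : ℕ, C (m ^ n) (s ^ n) := by
      intro n
      induction n with
      | zero => simpa using hC1
      | succ n ih =>
        rw [pow_succ, pow_succ]
        exact hCm (pow_mem hs n) hs ih hms
    have hs1 : s ^ p ^ k = 1 := by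
      have h1 : (⟨s, hs⟩ : S) ^ p ^ k = 1 := by rw [← hk]; exact pow_card_eq_one'
      exact congrArg Subtype.val h1
    have hμA : m ^ p ^ k ∈ F.autGroup P := pow_mem hmA _
    have hμ := hn (p ^ k)
    rw [hs1] at hμ
    rw [pow_add, pow_mul]
    generalize m ^ p ^ k = μ at hμA hμ
    refine afun_ext fun x hx => ?_
    set c := x⁻¹ * afun μ x with hc
    have hcP : c ∈ P := mul_mem (inv_mem hx) (afun_mem μ hx)
    have hcZ : c ∈ Z := by
      rw [← q.app_eq_one (hPS hcP), hc, app_mul (inv_mem (hPS hx)) (hPS (afun_mem μ hx)),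
        app_inv (hPS hx), hμ x hx, cj_one, inv_mul_cancel]
    have hfixc : afun μ c = c := mor_fix_central hZ ((mem_autGroup hPS).mp hμA) hZP hcZ
    have hpw : ∀ j : ℕ, afun (μ ^ j) x = x * c ^ j := by
      intro j
      induction j with
      | zero => rw [pow_zero, pow_zero, afun_one hx, mul_one]
      | succ j ih =>
        have hfix : afun μ (c ^ j) = c ^ j := by
          rw [afun_apply μ (pow_mem hcP j)]
          have h2 : μ ⟨c, hcP⟩ = ⟨c, hcP⟩ := Subtype.ext (by rw [← afun_apply μ hcP, hfixc])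
          rw [show (⟨c ^ j, pow_mem hcP j⟩ : P) = (⟨c, hcP⟩ : P) ^ j from rfl, map_pow, h2, Subgroup.coe_pow]
        rw [pow_succ', afun_mul _ _ hx, ih, afun_apply μ (mul_mem hx (pow_mem hcP j)),
          show (⟨x * c ^ j, mul_mem hx (pow_mem hcP j)⟩ : P) = ⟨x, hx⟩ * ⟨c ^ j, pow_mem hcP j⟩ from rfl,
          map_mul, Subgroup.coe_mul, ← afun_apply μ hx, ← afun_apply μ (pow_mem hcP j), hfix, hc,
          pow_succ', ← mul_assoc x, mul_inv_cancel_left]
    have hc1 : c ^ p ^ k = 1 := by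
      have h1 : (⟨c, hPS hcP⟩ : S) ^ p ^ k = 1 := by rw [← hk]; exact pow_card_eq_one'
      exact congrArg Subtype.val h1
    rw [hpw, hc1, mul_one, afun_one hx]
  have hMn : ∀ α ∈ F.autGroup P, ∀ m ∈ M, α * m * α⁻¹ ∈ M := by
    intro α hα m hm
    obtain ⟨hmA, s, hs, hms⟩ := hm
    obtain ⟨f', hf', hfe⟩ := q.down P (afun α) hZP ((mem_autGroup hPS).mp hα) fun z hz => by
      rw [mor_fix_central hZ ((mem_autGroup hPS).mp hα) hZP hz]; exact hz
    obtain ⟨φ, hφ, hφe⟩ := hf'
    obtain ⟨ψ, hψ, hψe, -⟩ := hN.2 _ φ hφ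
    have hψm := mor_toFun hψ
    have hsS : app θ s ∈ S' := q.app_mem hs
    obtain ⟨s', hs', hs'e⟩ := mem_image q (hψm.apply_mem (Subgroup.mem_sup_right hsS))
    refine ⟨mul_mem (mul_mem hα hmA) (inv_mem hα), s', hs', fun x hx => ?_⟩
    set y := afun α⁻¹ x with hy
    have hyP : y ∈ P := afun_mem _ hx
    have hψP : ∀ z ∈ P, toFun ψ (app θ z) = app θ (afun α z) := fun z hz => by
      have hz' := app_mem_imageAlong (α := θ) hz hPS
      rw [toFun_apply ψ (Subgroup.mem_sup_left hz'), ← hfe z hz]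
      exact (hψe ⟨_, hz'⟩).trans (hφe ⟨_, hz'⟩)
    have hmy : afun m y ∈ P := afun_mem _ hyP
    rw [afun_mul _ _ hx, ← hy, afun_mul _ _ hyP, ← hψP _ hmy, hms y hyP, app_cj hs (hPS hyP),
      hψm.map_cj (Subgroup.mem_sup_right hsS) (Subgroup.mem_sup_left (app_mem_imageAlong hyP hPS)),
      hψP y hyP, hy, afun_apply_inv α hx, app_cj hs' (hPS hx), hs'e]
  refine le_of_normal_pSubgroup hS hPc hPr le_rfl (fun g hg => Subgroup.le_normalizer (hPS hg))
    (M := M) (fun m hm => hm.1) hMp hMn fun g _ => ?_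
  refine ⟨autInducedBy_le hPS ((autInducedBy_eq_range S P).ge ⟨g, rfl⟩), g, g.2.1, fun x hx => ?_⟩
  rw [afun_nHom g hx]

end CentralQuot

/-- An invariant central subgroup: the quotient carries the hypotheses, so `S` is normal. -/
theorem central_normal (h : Hyp p r F a) (ih : IH.{u} p r (Nat.card S)) {Z : Subgroup Ω}
    (hZ : F.IsCentral Z) (haZ : AInv a Z) (hne : Z ≠ ⊥) : F.IsNormal S := by
  obtain ⟨Ω', _, S', _, θ, F', q⟩ := exists_quot h.hS h.hF hZ.1 fun g hg z hz => by
    rw [CentralQuot.cj_fix_central hZ hg hz]; exact hz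
  obtain ⟨a', h'⟩ := CentralQuot.exists_hyp h hZ haZ q
  have hlt : Nat.card S' < Nat.card S := by
    haveI : Finite Z := finite_of_le hZ.1
    have h1 : 1 < Nat.card Z := Subgroup.one_lt_card_iff_ne_bot Z |>.2 hne
    have h2 : 0 < Nat.card S' := Nat.card_pos
    rw [q.card_top]
    exact lt_mul_of_one_lt_right h2 h1
  have hN := ih Ω' S' F' a' h' hlt
  have hsc : F.StronglyClosed S := ⟨le_rfl, fun R _ φ hφ x => (F.le_of_mem hφ).2 x⟩
  refine isNormal_of_le_centric_radical h.hS h.hF hsc fun P hP => ?_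
  exact CentralQuot.le_of_normal_image h.hS hZ q hN hP.1 (radical_of_essential h.hS hP)

end Cfsg.Agent.FusionFpf20
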