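import Cfsg.Agent.Lib.FusionCentralTorus31
import Cfsg.Agent.Lib.StemSL2

/-!
A central subgroup `T` of a saturated fusion system which is normal in the normalizer system of the
Thompson subgroup but not weakly closed: some automizer has order divisible by `|SL(2, q)|` and an
involutory automorphism of `T` inverts exactly `q` elements.

The proofs follow `OffenderTorus31.exists_torus` and `FusionCentralTorus31.main`, with the central
involution of `SL(2, q)` next to the generator of the torus.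
-/

set_option autoImplicit false

namespace Cfsg.Agent.FusionTorus20

section offender

open Matrix OffenderSL2Gen31 OffenderTorus31
open scoped MatrixGroups

variable {P : Type*} [Group P] {W : Type*} [AddCommGroup W] [DistribMulAction P W] {p : ℕ}
variable [Finite P] [Finite W] [hp : Fact p.Prime]

/-- The central involution of the `SL₂` of an offender. -/
theorem exists_involution {T0 : AddSubgroup W} {M : Subgroup P} (hp2 : 2 < p)
    (faithful : ∀ g : P, (∀ w : W, g • w = w) → g = 1) (expW : ∃ N : ℕ, ∀ w : W, p ^ N • w = 0)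
    (S : Sylow p P) (hM : M ≠ ⊤) (hMfix : ∀ g : P, (∀ t ∈ T0, g • t = t) → g ∈ M)
    (hMT : ∀ g ∈ M, ∀ t ∈ T0, g • t ∈ T0) (hSM : (S : Subgroup P) ≤ M)
    (hfix : ∀ s ∈ (S : Subgroup P), ∀ t ∈ T0, s • t = t)
    (hK : ∀ R : Subgroup P, R ≠ ⊥ → R ≤ S →
      (S : Subgroup P) ≤ Subgroup.normalizer (R : Set P) → Subgroup.normalizer (R : Set P) ≤ M)
    {A₀ : Subgroup P} (hA₀ : A₀ ≠ ⊥) (hA₀S : A₀ ≤ S)
    (hA₀c : ∀ a ∈ A₀, ∀ b ∈ A₀, a * b = b * a)
    (hA₀off : Nat.card W ≤ Nat.card A₀ * Nat.card (fixW W A₀)) :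
    ∃ q : ℕ, q * ((q + 1) * (q - 1)) ∣ Nat.card P ∧ ∃ g ∈ M, g * g = 1 ∧
      Nat.card {t : T0 // g • (t : W) = -(t : W)} = q := by
  classical
  obtain ⟨B, ⟨hB, hBS, hBc, hBoff⟩, hmin⟩ := Set.exists_min_image
    {B : Subgroup P | B ≠ ⊥ ∧ B ≤ (S : Subgroup P) ∧ (∀ a ∈ B, ∀ b ∈ B, a * b = b * a) ∧
      Nat.card W ≤ Nat.card B * Nat.card (fixW W B)} (fun B => Nat.card B)
    (Set.toFinite _) ⟨A₀, hA₀, hA₀S, hA₀c, hA₀off⟩
  have hsmall : ∀ B' : Subgroup P, B' ≤ B → B' ≠ ⊥ → B' ≠ B →
      Nat.card B' * Nat.card (fixW W B') < Nat.card W := by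
    intro B' hle hne1 hne2
    by_contra hlt
    exact hne2 (Subgroup.eq_of_le_of_card_ge hle (hmin B' ⟨hne1, hle.trans hBS,
      fun a ha b hb => hBc a (hle ha) b (hle hb), not_lt.mp hlt⟩))
  have hexp : ∀ a ∈ B, a ^ p = 1 := pow_p (W := W)
    { faithful := faithful, expW := expW, ne := hB, comm := hBc
      pgroup := fun a ha => by
        obtain ⟨k, hk⟩ := S.isPGroup' ⟨a, hBS ha⟩
        exact ⟨k, congrArg Subtype.val hk⟩
      off := hBoff, small := hsmall
      strict := fun B' h1 h2 h3 => (hsmall B' h1 h2 h3).trans_le hBoff }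
  obtain ⟨g, L, hAL, hAM, hLM, hover, hout⟩ := exists_config (T0 := T0) S hM hSM hK hB hBS
  set A := cjg g B with hA
  have hAp : IsPGroup p A := (S.isPGroup'.to_le hBS).map _
  have hfix' : ∀ X : Subgroup P, IsPGroup p X → X ≤ M → ∀ x ∈ X, ∀ t ∈ T0, x • t = t := by
    intro X hX hXM x hx t ht
    obtain ⟨Q, hQ⟩ := (hX.comap_subtype (K := M)).exists_le_sylow
    obtain ⟨m, hm⟩ := MulAction.exists_smul_eq M (S.subtype hSM) Q
    have h1 : (⟨x, hXM hx⟩ : M) ∈ (Q : Subgroup M) := hQ hx
    rw [← hm, Sylow.coe_subgroup_smul, Subgroup.mem_pointwise_smul_iff_inv_smul_mem] at h1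
    have h2 : (m : P)⁻¹ * x * m ∈ (S : Subgroup P) := by
      simpa [MulAut.smul_def, Subgroup.mem_subgroupOf] using h1
    have h3 := hfix _ h2 _ (hMT _ (M.inv_mem m.2) t ht)
    rw [mul_smul, smul_inv_smul, mul_smul] at h3
    exact MulAction.injective _ h3
  -- the data inside `L`
  set A' := A.subgroupOf L with hA'
  have hA'card : Nat.card A' = Nat.card A := Nat.card_congr (Subgroup.subgroupOfEquivOfLe hAL).toEquiv
  have hfixeq : ∀ X : Subgroup L, fixW W X = fixW W (X.map L.subtype) := by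
    intro X
    ext w
    constructor
    · rintro hw _ ⟨x, hx, rfl⟩
      exact hw x hx
    · exact fun hw x hx => hw x ⟨x, hx, rfl⟩
  have hA'map : A'.map L.subtype = A := Subgroup.map_subgroupOf_eq_of_le hAL
  obtain ⟨T, hT⟩ := (hAp.comap_subtype (K := L)).exists_le_sylow
  have hTne : (T : Subgroup L) ≠ ⊤ := by
    intro e
    have hLp : IsPGroup p L := by
      have := T.isPGroup'
      rw [e] at this
      exact this.of_equiv Subgroup.topEquiv
    obtain ⟨x, hx, hxM⟩ := SetLike.not_le_iff_exists.mp hLM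
    haveI := hLp.isNilpotent
    by_cases hA'top : A' = ⊤
    · exact hLM ((Subgroup.subgroupOf_eq_top.mp hA'top).trans hAM)
    obtain ⟨H, hH, hAH⟩ := (eq_top_or_exists_le_coatom A').resolve_left hA'top
    haveI := Subgroup.NormalizerCondition.normal_of_coatom H normalizerCondition_of_isNilpotent hH
    have hHM : (H.map L.subtype) ≤ M := hover _
      (hA'map ▸ Subgroup.map_mono hAH) (Subgroup.map_subtype_le H) fun e' => hH.1 (by
        rw [← Subgroup.map_subtype_inj, e', ← MonoidHom.range_eq_map, Subgroup.range_subtype])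
    refine hout x hx hxM fun y hy => hHM ?_
    rw [mem_cjg] at hy
    refine ⟨⟨x, hx⟩ * ⟨x⁻¹ * y * x, hAL hy⟩ * ⟨x, hx⟩⁻¹,
      (inferInstance : H.Normal).conj_mem _ (hAH hy) _, ?_⟩
    show x * (x⁻¹ * y * x) * x⁻¹ = y
    group
  have hoverL : ∀ H : Subgroup L, A' ≤ H → H ≠ ⊤ → H ≤ M.subgroupOf L := fun H hAH hH =>
    Subgroup.map_le_iff_le_comap.mp (hover _ (hA'map ▸ Subgroup.map_mono hAH)
      (Subgroup.map_subtype_le H) fun e' => hH (by
        rw [← Subgroup.map_subtype_inj, e', ← MonoidHom.range_eq_map, Subgroup.range_subtype]))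
  have hTM : (T : Subgroup L) ≤ M.subgroupOf L := hoverL _ hT hTne
  obtain ⟨c, hc, x, hxc⟩ : ∃ c ∈ T0, ∃ x ∈ L, x • c ≠ c := by
    by_contra hno
    push Not at hno
    exact hLM fun x hx => hMfix x fun t ht => hno t ht x hx
  obtain ⟨hxL, hxc⟩ := hxc
  have hT0T : ∀ t ∈ T0, t ∈ fixW W (T : Subgroup L) := fun t ht y hy =>
    hfix' ((T : Subgroup L).map L.subtype) (T.isPGroup'.map _) (Subgroup.map_le_iff_le_comap.mpr hTM)
      y ⟨y, hy, rfl⟩ t ht
  have hcT : c ∈ fixW W (T : Subgroup L) ∧ c ∉ fixW W (⊤ : Subgroup L) :=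
    ⟨hT0T c hc, fun hh => hxc (hh ⟨x, hxL⟩ trivial)⟩
  have hyp : OffenderSL2Gen31.Hyp (W := W) p T (M.subgroupOf L) A' :=
    { faithful := fun y hy => Subtype.ext (faithful y hy)
      expW := expW
      notTop := fun e => hLM (Subgroup.subgroupOf_eq_top.mp e)
      sylM := hTM
      uniq := fun H hH hne => hoverL H (hT.trans hH) hne
      AT := hT
      comm := fun a ha b hb => Subtype.ext (by
        obtain ⟨a', ha', ea⟩ := (ha : (a : P) ∈ A)
        obtain ⟨b', hb', eb⟩ := (hb : (b : P) ∈ A)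
        have ea' : (a : P) = (MulAut.conj g).toMonoidHom a' := ea.symm
        have eb' : (b : P) = (MulAut.conj g).toMonoidHom b' := eb.symm
        show (a : P) * b = b * a
        rw [ea', eb', ← map_mul, ← map_mul, hBc a' ha' b' hb'])
      expA := fun a ha => Subtype.ext (by
        obtain ⟨a', ha', ea⟩ := (ha : (a : P) ∈ A)
        have ea' : (a : P) = (MulAut.conj g).toMonoidHom a' := ea.symm
        rw [SubmonoidClass.coe_pow, ea', ← map_pow, hexp a' ha', map_one]
        rfl)
      gen := fun y hy => by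
        by_contra hne
        refine hout y y.2 hy ?_
        have h1 := Subgroup.map_le_iff_le_comap.mpr
          ((le_sup_right : OffenderSL2Gen31.cjg y A' ≤ _).trans (hoverL _ le_sup_left hne))
        refine le_trans (fun z hz => ?_) h1
        rw [mem_cjg] at hz
        refine ⟨y * ⟨_, hAL hz⟩ * y⁻¹, OffenderSL2Gen31.conj_mem_cjg
          (show (⟨_, hAL hz⟩ : L) ∈ A' from hz), ?_⟩
        show (y : P) * ((y : P)⁻¹ * z * y) * (y : P)⁻¹ = z
        group
      off := by
        rw [hA'card, hfixeq, hA'map, hA, card_cjg, card_fix_cjg]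
        exact hBoff
      strict := fun A₁ h1 h2 h3 => by
        rw [hA'card, hfixeq A', hA'map, hA, card_cjg, card_fix_cjg]
        have hle : cjg g⁻¹ (A₁.map L.subtype) ≤ B := by
          have := cjg_mono g⁻¹ (hA'map ▸ Subgroup.map_mono (f := L.subtype) h1 :
            A₁.map L.subtype ≤ A)
          rwa [hA, cjg_cjg, inv_mul_cancel, cjg_one] at this
        have e1 : Nat.card (cjg g⁻¹ (A₁.map L.subtype)) = Nat.card A₁ := by
          rw [card_cjg, Subgroup.card_map_of_injective L.subtype_injective]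
        have e2 := card_fix_cjg (W := W) g⁻¹ (A₁.map L.subtype)
        rw [← hfixeq] at e2
        refine (e1 ▸ e2 ▸ hsmall _ hle ?_ ?_).trans_le hBoff
        · intro e0
          refine h2 (Subgroup.card_eq_one.mp ?_)
          rw [← e1, e0, Subgroup.card_bot]
        · intro e
          refine h3 (Subgroup.eq_of_le_of_card_ge h1 ?_)
          rw [hA'card, hA, card_cjg, ← e, e1]
      moved := ⟨c, hcT⟩ }
  obtain ⟨-, F, instF, instFF, hcard, ρ, ψ, hρ, -, hψ0, hψ⟩ := structure_thm hyp
  -- the line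
  set e := ψ c with he
  have hene : e ≠ 0 := fun h0 => hcT.2 ((hψ0 c).mp h0)
  have hAfix : ∀ a ∈ A', (ρ a : Matrix (Fin 2) (Fin 2) F) *ᵥ e = e := fun a ha => by
    rw [he, ← hψ, hcT.1 a (hT ha)]
  have hline : ∀ t ∈ T0, ∃ μ : F, ψ t = μ • e := by
    intro t ht
    by_contra hno
    push Not at hno
    have hdet : e 0 * ψ t 1 - e 1 * ψ t 0 ≠ 0 := by
      intro hd
      by_cases h0 : e 0 = 0
      · have h1 : e 1 ≠ 0 := fun h1 => hene (by ext i; fin_cases i <;> assumption)
        refine hno (ψ t 1 / e 1) (funext fun i => ?_)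
        fin_cases i
        · rw [h0] at hd
          simp only [zero_mul, zero_sub, neg_eq_zero, mul_eq_zero, h1, false_or] at hd
          simp [hd, h0]
        · simp [h1]
      · refine hno (ψ t 0 / e 0) (funext fun i => ?_)
        fin_cases i
        · simp [h0]
        · show ψ t 1 = ψ t 0 / e 0 * e 1
          rw [div_mul_eq_mul_div, eq_div_iff h0]
          linear_combination hd
    refine hyp.A_ne_bot ((Subgroup.eq_bot_iff_forall A').mpr fun a ha => hρ.1 ?_)
    rw [map_one]
    have h1 := hAfix a ha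
    have h2 : (ρ a : Matrix (Fin 2) (Fin 2) F) *ᵥ ψ t = ψ t := by
      rw [← hψ, hT0T t ht a (hT ha)]
    have hQ : (ρ a : Matrix (Fin 2) (Fin 2) F) * !![e 0, ψ t 0; e 1, ψ t 1] =
        1 * !![e 0, ψ t 0; e 1, ψ t 1] := by
      rw [one_mul]
      ext i j
      fin_cases j
      · have := congrFun h1 i
        simp only [Matrix.mulVec, dotProduct, Fin.sum_univ_two] at this
        fin_cases i <;> simpa [Matrix.mul_apply, Fin.sum_univ_two] using this
      · have := congrFun h2 i
        simp only [Matrix.mulVec, dotProduct, Fin.sum_univ_two] at this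
        fin_cases i <;> simpa [Matrix.mul_apply, Fin.sum_univ_two] using this
    apply Subtype.ext
    have hu : IsUnit (!![e 0, ψ t 0; e 1, ψ t 1] : Matrix (Fin 2) (Fin 2) F) := by
      rw [Matrix.isUnit_iff_isUnit_det, Matrix.det_fin_two, isUnit_iff_ne_zero]
      simpa [mul_comm (ψ t 0)] using hdet
    exact hu.mul_right_cancel hQ
  obtain ⟨lam, hlam⟩ := IsCyclic.exists_generator (α := Fˣ)
  obtain ⟨s, hse, hsn⟩ := exists_diag e hene lam
  obtain ⟨h, rfl⟩ := hρ.2 s
  have hq : 3 ≤ Fintype.card F := by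
    obtain ⟨n, hn⟩ := hAp.exists_card_eq
    rw [hcard, hA'card, hn]
    rcases n with _ | n
    · exfalso
      rw [hA, card_cjg, pow_zero] at hn
      exact hB (Subgroup.card_eq_one.mp hn)
    · exact le_trans hp2 (Nat.le_self_pow (Nat.succ_ne_zero n) p)
  have hlam1 : (lam : F) ≠ 1 := by
    intro h1
    have hl : lam = 1 := Units.ext h1
    have : Fintype.card Fˣ ≤ 1 := Fintype.card_le_one_iff_subsingleton.mpr ⟨fun a b => by
      obtain ⟨i, rfl⟩ := hlam a
      obtain ⟨j, rfl⟩ := hlam b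
      simp [hl]⟩
    rw [Fintype.card_units] at this
    omega
  have hhe : ∀ t ∈ T0, ∀ μ : F, ψ t = μ • e → ψ (h • t) = ((lam : F) * μ) • e := by
    intro t ht μ hμ
    rw [hψ, hμ, Matrix.mulVec_smul, hse, smul_smul, mul_comm]
  have hhM : h ∈ M.subgroupOf L := by
    by_contra hh
    have hd : h • c ∈ fixW W (OffenderSL2Gen31.cjg h A') :=
      smul_mem_fixW fun a ha => hcT.1 a (hT ha)
    have hdZ : h • c ∉ fixW W (⊤ : Subgroup L) := fun hz => hcT.2 (by
      have := hyp.fix_Z (g := h⁻¹) hz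
      rw [inv_smul_smul] at this
      exact this ▸ hz)
    refine hyp.A_ne_bot ((Subgroup.eq_bot_iff_forall A').mpr fun a ha =>
      (hyp.reach hh hd hdZ).1 a ha ((hψ0 _).mp ?_))
    rw [map_sub, hψ, hhe c hc 1 (by rw [one_smul]), Matrix.mulVec_smul, hAfix a ha, sub_self]
  -- the whole line
  have hmul : ∀ μ : F, ∀ t ∈ T0, ψ t = μ • e → ∀ k : ℕ, ∃ t' ∈ T0, ψ t' = ((lam : F) ^ k * μ) • e := by
    intro μ t ht hμ k
    induction k with
    | zero => exact ⟨t, ht, by rw [pow_zero, one_mul, hμ]⟩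
    | succ k ih =>
      obtain ⟨t', ht', he'⟩ := ih
      exact ⟨_, hMT _ hhM _ ht', by rw [pow_succ', mul_assoc]; exact hhe t' ht' _ he'⟩
  have honto : ∀ μ : F, ∃ t ∈ T0, ψ t = μ • e := by
    intro μ
    by_cases h0 : μ = 0
    · exact ⟨0, T0.zero_mem, by rw [h0, map_zero, zero_smul]⟩
    obtain ⟨k, hk⟩ := mem_powers_iff_mem_zpowers.mpr (hlam (Units.mk0 μ h0))
    obtain ⟨t, ht, het⟩ := hmul 1 c hc (by rw [one_smul]) k
    refine ⟨t, ht, ?_⟩
    have := congrArg Units.val hk
    rw [Units.val_pow_eq_pow_val, Units.val_mk0] at this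
    rw [het, mul_one, this]
  -- the central involution
  obtain ⟨τ, hτ⟩ := hρ.2 (-1)
  have hτψ : ∀ w, ψ (τ • w) = -ψ w := fun w => by
    rw [hψ, hτ, Matrix.SpecialLinearGroup.coe_neg, Matrix.SpecialLinearGroup.coe_one,
      Matrix.neg_mulVec, Matrix.one_mulVec]
  have hτM : τ ∈ M.subgroupOf L := by
    by_contra hh
    have hd : τ • c ∈ fixW W (OffenderSL2Gen31.cjg τ A') :=
      smul_mem_fixW fun a ha => hcT.1 a (hT ha)
    have hdZ : τ • c ∉ fixW W (⊤ : Subgroup L) := fun hz => hcT.2 (by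
      have := hyp.fix_Z (g := τ⁻¹) hz
      rw [inv_smul_smul] at this
      exact this ▸ hz)
    refine hyp.A_ne_bot ((Subgroup.eq_bot_iff_forall A').mpr fun a ha =>
      (hyp.reach hh hd hdZ).1 a ha ((hψ0 _).mp ?_))
    rw [map_sub, hψ, hτψ, Matrix.mulVec_neg, hAfix a ha, sub_self]
  obtain ⟨n, hn⟩ := hAp.exists_card_eq
  have hq' : Fintype.card F = p ^ n := by rw [hcard, hA'card, hn]
  have hpodd : Odd p := hp.out.odd_of_ne_two (by omega)
  have h2F : (2 : F) ≠ 0 := by
    intro h2
    have h1 : addOrderOf (1 : F) = 2 := addOrderOf_eq_prime (by rw [two_nsmul, one_add_one_eq_two, h2])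
      one_ne_zero
    have h3 : (2 : ℕ) ∣ p ^ n := by rw [← hq', ← h1]; exact addOrderOf_dvd_card
    exact (Nat.not_even_iff_odd.2 hpodd.pow) (even_iff_two_dvd.2 h3)
  refine ⟨Fintype.card F, ?_, τ, hτM, ?_, ?_⟩
  · have h1 : Nat.card L = Fintype.card F * ((Fintype.card F + 1) * (Fintype.card F - 1)) := by
      rw [Nat.card_congr (Equiv.ofBijective ρ hρ), StemSL2.card_SL2']
    exact h1 ▸ Subgroup.card_subgroup_dvd_card L
  · have : τ * τ = 1 := hρ.1 (by rw [map_mul, hτ, map_one, neg_mul_neg, one_mul])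
    exact congrArg Subtype.val this
  · rw [← Nat.card_eq_fintype_card]
    choose μ hμ using fun t : T0 => hline t t.2
    refine Nat.card_eq_of_bijective (fun t => μ t.1) ⟨fun t t' htt => ?_, fun x => ?_⟩
    · obtain ⟨N, hN⟩ := expW
      have hd0 : ψ ((t.1 : W) - (t'.1 : W)) = 0 := by
        rw [map_sub, hμ, hμ, show μ t.1 = μ t'.1 from htt, sub_self]
      have hfix2 : τ • ((t.1 : W) - (t'.1 : W)) = (t.1 : W) - (t'.1 : W) :=
        hyp.fix_Z (g := τ) ((hψ0 _).mp hd0)
      have hneg : τ • ((t.1 : W) - (t'.1 : W)) = -((t.1 : W) - (t'.1 : W)) := by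
        have e1 : τ • (t.1 : W) = -(t.1 : W) := t.2
        have e2 : τ • (t'.1 : W) = -(t'.1 : W) := t'.2
        rw [smul_sub, e1, e2]; abel
      have h2d : 2 • ((t.1 : W) - (t'.1 : W)) = 0 := by
        rw [two_nsmul]
        nth_rw 1 [← hfix2]
        rw [hneg, neg_add_cancel]
      obtain ⟨j, hj⟩ := (hpodd.pow : Odd (p ^ N))
      have h3 := hN ((t.1 : W) - (t'.1 : W))
      rw [hj, add_nsmul, mul_comm 2 j, mul_nsmul', h2d, smul_zero, zero_add, one_nsmul, sub_eq_zero] at h3
      exact Subtype.ext (Subtype.ext h3)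
    · haveI : NeZero (2 : F) := ⟨h2F⟩
      obtain ⟨t, ht, het⟩ := honto (x / 2)
      have hw : t - τ • t ∈ T0 := T0.sub_mem ht (hMT _ hτM _ ht)
      have hτ2 : τ • τ • t = t := by
        rw [← mul_smul, (hρ.1 (by rw [map_mul, hτ, map_one, neg_mul_neg, one_mul]) : τ * τ = 1),
          one_smul]
      refine ⟨⟨⟨_, hw⟩, ?_⟩, ?_⟩
      · show τ • (t - τ • t) = -(t - τ • t)
        rw [smul_sub, hτ2, neg_sub]
      · show μ ⟨_, hw⟩ = x
        refine smul_left_injective F hene ?_
        show μ ⟨_, hw⟩ • e = x • e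
        rw [← hμ, map_sub, hτψ, sub_neg_eq_add, het, ← add_smul, add_halves]

end offender

section fusion

open Cfsg Cfsg.FusionSystem Cfsg.Agent.FusionSysBasic Cfsg.Agent.FusionSysSaturated
  Cfsg.Agent.FusionSysNormal Cfsg.Agent.FusionInduct88 Cfsg.Agent.FusionWeakAlperin
  Cfsg.Agent.FusionCentralTorus31

variable {Ω : Type*} [Group Ω] {S : Subgroup Ω} [Finite S] {F : FusionSystem S} {p : ℕ}
  [hp : Fact p.Prime] {T : Subgroup Ω}

/-- The main theorem. -/
theorem torus (hS : IsPGroup p S) (hF : F.IsSaturated p) (hp2 : 2 < p) (hTS : T ≤ S)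
    (hTc : ∀ s ∈ S, ∀ t ∈ T, s * t = t * s)
    (hJT : ∀ P f, Mor F P f → P ≤ normalizerIn S (thompsonSubgroupAOf S) →
      (∀ x ∈ P, f x ∈ normalizerIn S (thompsonSubgroupAOf S)) →
      (∃ f', Mor F (P ⊔ thompsonSubgroupAOf S) f' ∧ (∀ x ∈ P, f' x = f x) ∧
        im (thompsonSubgroupAOf S) f' = thompsonSubgroupAOf S) →
      T ≤ P → ∀ t ∈ T, f t ∈ T)
    (hWC : ¬ F.WeaklyClosed T) :
    ∃ W : Subgroup Ω, W ≤ S ∧ ∃ q : ℕ, q * ((q + 1) * (q - 1)) ∣ Nat.card (F.autGroup W) ∧
      ∃ z ∈ F.autGroup T, z * z = 1 ∧ Nat.card {t : T // z t = t⁻¹} = q := by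
  classical
  have hn' : ∀ g ∈ S, ∀ x ∈ T, cj g x ∈ T := fun g hg x hx => (cj_eq hTc hg hx).symm ▸ hx
  -- the worst bad subgroup
  obtain ⟨W₀, hW₀⟩ : ∃ W, Bad F T W := by
    by_contra hno
    push Not at hno
    refine hWC ⟨hTS, fun φ hφ => ?_⟩
    have hm := mor_toFun hφ
    rw [Mor.range_eq_im hφ fun x => (toFun_coe φ x).symm]
    exact hm.im_self fun x hx =>
      (keeps_of_no_bad (n := 0) hS hF hTS hTc (fun W hW => absurd hW (hno W)) hm (Nat.zero_le _) x
        hx).1 hx
  have hfin : {W : Subgroup Ω | Bad F T W}.Finite := by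
    refine Set.Finite.of_finite_image (f := fun Q : Subgroup Ω => Q.subgroupOf S) (Set.toFinite _) ?_
    intro A hA B hB e
    have := congrArg (Subgroup.map S.subtype) e
    simpa [Subgroup.subgroupOf_map_subtype, inf_eq_left.mpr (show A ≤ S from hA.1.1),
      inf_eq_left.mpr (show B ≤ S from hB.1.1)] using this
  obtain ⟨W, ⟨hWf, hTW, α, hα, t₀, ht₀, hmove⟩, hmax⟩ :=
    Set.exists_max_image _ (key S) hfin ⟨W₀, hW₀⟩
  have hWS : W ≤ S := hWf.1
  haveI := finite_of_le hWS
  set N := normalizerIn S W with hNdef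
  haveI := finite_normalizerIn (S := S) W
  have hWN : W ≤ N := le_normalizerIn hWS
  have hNS : N ≤ S := inf_le_left
  have hcW : Nat.card W ≤ Nat.card S := Subgroup.card_le_of_le hWS
  have hS_good : ¬ Bad F T S := by
    rintro ⟨-, -, β, hβ, t, ht, hne⟩
    have hm := (mem_autGroup le_rfl).1 hβ
    have hJ : thompsonSubgroupAOf S ≤ S := thompsonAOf_le S
    have hnJ : S ≤ normalizerIn S (thompsonSubgroupAOf S) := fun g hg =>
      ⟨hg, mem_normalizer_of_cj_le hJ fun x hx => by
        let c : MulAut S := MulAut.conj ⟨g, hg⟩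
        have := maps_J (S := S) le_rfl S hJ le_rfl c x hx
        rwa [afun_apply c (hJ hx)] at this⟩
    refine hne (hJT S (afun β) hm hnJ (fun x hx => hnJ (hm.apply_mem hx)) ⟨afun β, ?_,
      fun _ _ => rfl, (hm.restrict_to hJ).im_self (maps_J le_rfl S hJ le_rfl β)⟩ hTS t ht)
    rwa [sup_eq_left.mpr hJ]
  have hbigkeep : ∀ {P : Subgroup Ω} {f : Ω → Ω}, Mor F P f → Nat.card N ≤ Nat.card P →
      Keeps T P f := by
    refine fun hf hP => keeps_of_no_bad hS hF hTS hTc (fun V hV => ?_) hf hP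
    have hVS : V < S := lt_of_le_of_ne hV.1.1 fun e => hS_good (e ▸ hV)
    have h1 := card_lt_normalizerIn hS hVS
    have h2 : key S V ≤ key S W := hmax V hV
    have h3 : Nat.card (normalizerIn S V) * (Nat.card S + 1) <
        (Nat.card N + 1) * (Nat.card S + 1) := by
      simp only [key, ← hNdef] at h2
      rw [add_mul, one_mul]; omega
    have := Nat.lt_of_mul_lt_mul_right h3
    omega
  have hgood : ∀ X, X ≤ S → T ≤ X → key S W < key S X → ∀ β ∈ F.autGroup X, ∀ t ∈ T,
      afun β t ∈ T := by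
    intro X hX hTX hkey β hβ t ht
    obtain ⟨Y, hXY, hY⟩ := exists_fullyNormalized (F := F) hX
    obtain ⟨θ, hθ, hθN, hθX⟩ := exists_map_to_fullyNormalized hS hF hY hXY
    have hcX : Nat.card X ≤ Nat.card S := Subgroup.card_le_of_le hX
    have hNX : Nat.card N ≤ Nat.card (normalizerIn S X) := by
      have h3 : Nat.card N * (Nat.card S + 1) <
          (Nat.card (normalizerIn S X) + 1) * (Nat.card S + 1) := by
        simp only [key, ← hNdef] at hkey
        rw [add_mul, one_mul]; omega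
      have := Nat.lt_of_mul_lt_mul_right h3
      omega
    have hk := hbigkeep hθ hNX
    have hXle := le_normalizerIn (S := S) hX
    have hθr := hθ.restrict_to hXle
    have hTY : T ≤ Y := by
      rw [← hθX, ← (hθ.restrict_to (hTX.trans hXle)).im_self fun x hx => (hk x (hXle (hTX hx))).1 hx]
      exact im_mono hTX
    have hYgood : ¬ Bad F T Y := by
      intro hb
      have h1 := hmax Y hb
      have h2 := hY.2 X (isConj_symm hXY)
      have h3 := isConj_card hXY
      have h4 := Nat.mul_le_mul_right (Nat.card S + 1) h2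
      simp only [key] at h1 hkey
      omega
    have hβY := hθr.transport_mem hθX hβ
    have h5 := hθr.afun_transport hθX β (hTX ht)
    have hθt : θ t ∈ T := (hk t (hXle (hTX ht))).1 ht
    by_contra hne
    refine hYgood ⟨hY, hTY, _, hβY, θ t, hθt, fun hh => hne ?_⟩
    rw [h5] at hh
    exact (hk _ (hXle (afun_mem β (hTX ht)))).2 hh
  -- the closure of `T`
  set L := F.autGroup W with hL
  haveI : Finite L := finite_autGroup W
  let V : Subgroup W := ⨆ β : L, (T.subgroupOf W).map (β : MulAut W).toMonoidHom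
  have hVZ : V ≤ Subgroup.center W := by
    refine iSup_le fun β => ?_
    rintro _ ⟨t, ht, rfl⟩
    refine Subgroup.mem_center_iff.mpr fun w => ?_
    obtain ⟨w', rfl⟩ := (β : MulAut W).surjective w
    show (β : MulAut W) w' * (β : MulAut W) t = (β : MulAut W) t * (β : MulAut W) w'
    rw [← map_mul, ← map_mul]
    exact congrArg _ (Subtype.ext (hTc w' (hWS w'.2) t ht))
  have hVinv : ∀ β : L, ∀ v ∈ V, (β : MulAut W) v ∈ V := by
    intro β
    suffices V.map (β : MulAut W).toMonoidHom ≤ V from fun v hv => this ⟨v, hv, rfl⟩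
    rw [Subgroup.map_iSup]
    refine iSup_le fun γ => le_trans (le_of_eq ?_) (le_iSup
      (fun δ : L => (T.subgroupOf W).map (δ : MulAut W).toMonoidHom) (β * γ))
    rw [Subgroup.map_map]
    rfl
  have hTV : T.subgroupOf W ≤ V := le_trans (le_of_eq (Subgroup.map_id _).symm)
    (le_iSup (fun δ : L => (T.subgroupOf W).map (δ : MulAut W).toMonoidHom) 1)
  let π : L →* MulAut V :=
    { toFun := fun β =>
        { toFun := fun v => ⟨(β : MulAut W) (v : W), hVinv β v v.2⟩
          invFun := fun v => ⟨((β⁻¹ : L) : MulAut W) (v : W), hVinv _ v v.2⟩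
          left_inv := fun v => Subtype.ext ((β : MulAut W).symm_apply_apply (v : W))
          right_inv := fun v => Subtype.ext ((β : MulAut W).apply_symm_apply (v : W))
          map_mul' := fun u v => Subtype.ext (map_mul (β : MulAut W) (u : W) (v : W)) }
      map_one' := rfl
      map_mul' := fun _ _ => rfl }
  let π' := π.rangeRestrict
  have hπ's : Function.Surjective π' := π.rangeRestrict_surjective
  letI : CommGroup V := { (inferInstance : Group V) with
    mul_comm := fun a b => Subtype.ext (Subgroup.mem_center_iff.mp (hVZ b.2) a) }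
  letI instAct : DistribMulAction π.range (Additive V) :=
    { smul := fun g v => Additive.ofMul ((g : MulAut V) (Additive.toMul v))
      one_smul := fun _ => rfl
      mul_smul := fun _ _ _ => rfl
      smul_zero := fun g => congrArg Additive.ofMul (map_one (g : MulAut V))
      smul_add := fun g u v => congrArg Additive.ofMul (map_mul (g : MulAut V) _ _) }
  let val : Additive V → Ω := fun v => (((Additive.toMul v : V) : W) : Ω)
  have hval_inj : Function.Injective val := fun u v h => Subtype.ext (Subtype.ext h)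
  have hval_smul : ∀ (β : L) (v : Additive V), val (π' β • v) = afun (β : MulAut W) (val v) :=
    fun β v => by
      rw [afun_apply _ ((Additive.toMul v : V) : W).2]
      rfl
  let T0 : AddSubgroup (Additive V) := Subgroup.toAddSubgroup ((T.subgroupOf W).subgroupOf V)
  have hT0 : ∀ v, v ∈ T0 ↔ val v ∈ T := fun v => Iff.rfl
  let emb : T → Additive V := fun t => Additive.ofMul ⟨⟨t, hTW t.2⟩, hTV t.2⟩
  let M : Subgroup π.range :=
    { carrier := {g | ∀ v ∈ T0, g • v ∈ T0}
      one_mem' := fun v hv => by rwa [one_smul]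
      mul_mem' := fun {a b} ha hb v hv => by rw [mul_smul]; exact ha _ (hb v hv)
      inv_mem' := fun {a} ha v hv => by
        obtain ⟨u, hu⟩ := (Finite.injective_iff_surjective
          (f := fun u : T0 => (⟨a • (u : Additive V), ha u u.2⟩ : T0))).mp
          (fun u u' h => Subtype.ext (MulAction.injective a (congrArg Subtype.val h))) ⟨v, hv⟩
        have hu' : a • (u : Additive V) = v := congrArg Subtype.val hu
        rw [← hu', inv_smul_smul]
        exact u.2 }
  have hM : M ≠ ⊤ := by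
    intro e
    refine hmove ?_
    have := (e ▸ Subgroup.mem_top _ : π' ⟨α, hα⟩ ∈ M) (emb ⟨t₀, ht₀⟩) ((hT0 _).2 ht₀)
    rwa [hT0, hval_smul] at this
  -- the maps induced by `N`
  let c : N →* L := (nHom S W).codRestrict L fun g => by
    refine autInducedBy_le hWS ?_
    rw [autInducedBy_eq_range]
    exact ⟨g, rfl⟩
  let χ := π'.comp c
  have hχ : ∀ (g : N) (v : Additive V), val (χ g • v) = cj (g : Ω) (val v) := fun g v => by
    rw [show χ g = π' (c g) from rfl, hval_smul]
    exact afun_nHom g ((Additive.toMul v : V) : W).2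
  have hχT : ∀ (g : N), ∀ v ∈ T0, χ g • v = v := fun g v hv => hval_inj (by
    rw [hχ, cj_eq hTc (hNS g.2) ((hT0 v).1 hv)])
  obtain ⟨-, R₀, hR₀⟩ := fullyAutomized_of_fullyNormalized hS hF hWf
  have hcR₀ : (R₀ : Subgroup L) = c.range := by
    rw [hR₀]
    ext β
    rw [Subgroup.mem_subgroupOf, autInducedBy_eq_range]
    exact ⟨fun ⟨g, hg⟩ => ⟨g, Subtype.ext hg⟩, fun ⟨g, hg⟩ => ⟨g, congrArg Subtype.val hg⟩⟩
  let SP : Sylow p π.range := R₀.mapSurjective hπ's
  have hSP : (SP : Subgroup π.range) = χ.range := by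
    show (R₀ : Subgroup L).map π' = _
    rw [hcR₀, ← MonoidHom.range_comp]
  have hSM : (SP : Subgroup π.range) ≤ M := by
    rw [hSP]
    rintro _ ⟨g, rfl⟩ v hv
    rwa [hχT g v hv]
  -- the normalizer lemma
  have hlift : ∀ Q : Subgroup π.range, Q ≤ χ.range → χ.range ≤ Subgroup.normalizer (Q : Set π.range) →
      (Q.comap χ).map N.subtype ≠ W → Subgroup.normalizer (Q : Set π.range) ≤ M := by
    intro Q hQ hQn hne
    set R := (Q.comap χ).map N.subtype with hR
    have hRN : R ≤ N := Subgroup.map_subtype_le _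
    have hRS := hRN.trans hNS
    have hχW : ∀ g : N, (g : Ω) ∈ W → χ g = 1 := by
      intro g hg
      refine Subtype.ext (MulEquiv.ext fun v => ?_)
      apply Subtype.ext
      apply Subtype.ext
      exact (hχ g (Additive.ofMul v)).trans (by
        show g.1 * (v.1 : Ω) * g.1⁻¹ = (v.1 : Ω)
        have := congrArg Subtype.val (Subgroup.mem_center_iff.mp (hVZ v.2) ⟨g.1, hg⟩)
        rw [show g.1 * (v.1 : Ω) = (v.1 : Ω) * g.1 from this, mul_inv_cancel_right])
    have hWR : W ≤ R := fun w hw => ⟨⟨w, hWN hw⟩, by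
      rw [SetLike.mem_coe, Subgroup.mem_comap, hχW _ hw]; exact Q.one_mem, rfl⟩
    have hTR : T ≤ R := hTW.trans hWR
    have hCR : centralizerIn S W ≤ R := fun g hg => ⟨⟨g, centralizerIn_le_normalizerIn hg⟩, by
      have : χ ⟨g, centralizerIn_le_normalizerIn hg⟩ = 1 := by
        refine Subtype.ext (MulEquiv.ext fun v => Subtype.ext (Subtype.ext ?_))
        exact (hχ _ (Additive.ofMul v)).trans ((mem_centralizerIn.1 hg).2 _ (v : W).2)
      rw [SetLike.mem_coe, Subgroup.mem_comap, this]; exact Q.one_mem, rfl⟩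
    haveI := finite_of_le hRS
    have hNR : N ≤ normalizerIn S R := fun g hg => ⟨hNS hg, mem_normalizer_of_cj_le hRS (by
      rintro _ ⟨x, hx, rfl⟩
      refine ⟨⟨g, hg⟩ * x * ⟨g, hg⟩⁻¹, ?_, rfl⟩
      rw [SetLike.mem_coe, Subgroup.mem_comap, map_mul, map_mul, map_inv]
      exact (Subgroup.mem_normalizer_iff.1 (hQn ⟨⟨g, hg⟩, rfl⟩) _).1 hx)⟩
    have hkey : key S W < key S R := by
      haveI := finite_normalizerIn (S := S) R
      have h1 : Nat.card W < Nat.card R := lt_of_le_of_ne (Subgroup.card_le_of_le hWR)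
        fun e => hne (eq_of_le_of_card_ge hRS hWR e.ge).symm
      have h2 := Nat.mul_le_mul_right (Nat.card S + 1) (Subgroup.card_le_of_le hNR)
      simp only [key, ← hNdef]
      omega
    intro γ hγ v hv
    obtain ⟨β, rfl⟩ := hπ's γ
    set H := (Subgroup.normalizer (Q : Set π.range)).comap π' with hH
    set U := (Q.comap π').subgroupOf H with hU
    haveI : U.Normal := ⟨fun u hu h => by
      show π' ((h : L) * (u : L) * (h : L)⁻¹) ∈ Q
      rw [map_mul, map_mul, map_inv]
      exact (Subgroup.mem_normalizer_iff.1 h.2 _).1 hu⟩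
    have hRH : (R₀ : Subgroup L) ≤ H := by
      rw [hcR₀]
      rintro _ ⟨g, rfl⟩
      exact hQn ⟨g, rfl⟩
    obtain ⟨T', hT'⟩ := OffendersOperated.exists_sylow_inf (R₀.subtype hRH) U
    have hfr := Sylow.normalizer_sup_eq_top T'
    rw [hT'] at hfr
    obtain ⟨y, hy, u, hu, hyu⟩ := Subgroup.mem_sup_of_normal_right.1
      (hfr ▸ Subgroup.mem_top (⟨β, hγ⟩ : H))
    have hyu' : (y : L) * (u : L) = β := congrArg Subtype.val hyu
    have hufix : π' (u : L) • v = v := by
      obtain ⟨g, hg⟩ := hQ hu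
      rw [show π' (u : L) = χ g from hg.symm]
      exact hχT g v hv
    rw [← hyu', map_mul, mul_smul, hufix, hT0, hval_smul]
    have hval : val v ∈ T := (hT0 v).1 hv
    -- `y` extends to `R`
    have hym := (mem_autGroup hWS).1 (y : L).2
    obtain ⟨f', hf', hag⟩ := (receptive_iff.1 (receptive_of_fullyNormalized hS hF hWf)).2 W
      (afun ((y : L) : MulAut W)) R hym (im_afun _) hRS (hRN.trans inf_le_right) (by
        intro g hg
        obtain ⟨g, hgQ, rfl⟩ := hg
        have h1 : (⟨c g, hRH (hcR₀ ▸ ⟨g, rfl⟩)⟩ : H) ∈ (R₀.subtype hRH : Subgroup H) ⊓ U :=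
          ⟨show c g ∈ (R₀ : Subgroup L) by rw [hcR₀]; exact ⟨g, rfl⟩, hgQ⟩
        have h2 := (Subgroup.mem_normalizer_iff.1 hy _).1 h1
        have h3 : (y : L) * c g * (y : L)⁻¹ ∈ (R₀ : Subgroup L) := h2.1
        rw [hcR₀] at h3
        obtain ⟨g', hg'⟩ := h3
        refine ⟨g', hNS g'.2, fun x hx => ?_⟩
        have e : c g' = (y : L) * c g * (y : L)⁻¹ := hg'
        have hxg : cj (g : Ω) x = afun ((c g : L) : MulAut W) x := (afun_nHom g hx).symm
        show afun _ (cj (g : Ω) x) = cj (g' : Ω) _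
        rw [hxg, ← afun_mul _ _ hx, ← afun_nHom g' (afun_mem _ hx)]
        show _ = afun ((c g' : L) : MulAut W) _
        rw [← afun_mul _ _ hx, e]
        simp [mul_assoc])
    have hWRsup : W ⊔ R = R := sup_eq_right.mpr hWR
    rw [hWRsup] at hf'
    have himR : im R f' = R := hf'.im_self fun g hg => by
      obtain ⟨g, hgQ, rfl⟩ := hg
      -- the image has the same action as some member of `R`
      have h1 : (⟨c g, hRH (hcR₀ ▸ ⟨g, rfl⟩)⟩ : H) ∈ (R₀.subtype hRH : Subgroup H) ⊓ U :=
        ⟨show c g ∈ (R₀ : Subgroup L) by rw [hcR₀]; exact ⟨g, rfl⟩, hgQ⟩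
      have h2 := (Subgroup.mem_normalizer_iff.1 hy _).1 h1
      have h3 : (y : L) * c g * (y : L)⁻¹ ∈ (R₀ : Subgroup L) := h2.1
      have h4 : π' ((y : L) * c g * (y : L)⁻¹) ∈ Q := h2.2
      rw [hcR₀] at h3
      obtain ⟨g', hg'⟩ := h3
      have e : c g' = (y : L) * c g * (y : L)⁻¹ := hg'
      have hg'R : (g' : Ω) ∈ R := by
        refine ⟨g', ?_, rfl⟩
        rw [SetLike.mem_coe, Subgroup.mem_comap, show χ g' = π' (c g') from rfl, hg']
        exact h4
      have hgR : (g : Ω) ∈ R := ⟨g, hgQ, rfl⟩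
      have hd : (g' : Ω)⁻¹ * f' g ∈ centralizerIn S W := by
        refine mem_centralizerIn.2 ⟨S.mul_mem (S.inv_mem (hNS g'.2)) (hf'.apply_mem hgR),
          fun w hw => ?_⟩
        rw [← im_afun ((y : L) : MulAut W)] at hw
        obtain ⟨x, hx, rfl⟩ := hym.mem_im.1 hw
        have e1 : cj (f' g) (afun ((y : L) : MulAut W) x) = cj (g' : Ω) (afun ((y : L) : MulAut W) x) := by
          rw [← hag x hx, ← hf'.map_cj hgR (hWR hx),
            hag _ (cj_mem_of_normalizer g.2.2 hx)]
          rw [show cj (g : Ω) x = afun ((c g : L) : MulAut W) x from (afun_nHom g hx).symm,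
            ← afun_mul _ _ hx, hag x hx, show cj (g' : Ω) (afun ((y : L) : MulAut W) x) =
              afun ((c g' : L) : MulAut W) (afun ((y : L) : MulAut W) x) from
              (afun_nHom g' (afun_mem _ hx)).symm, ← afun_mul _ _ hx, e]
          simp [mul_assoc]
        rw [← cj_cj, e1, cj_inv_cj]
      have := R.mul_mem hg'R (hCR hd)
      rwa [mul_inv_cancel_left] at this
    obtain ⟨δ, hδ, hδe⟩ := hf'.exists_aut himR
    have := hgood R hRS hTR hkey δ hδ (val v) hval
    rwa [hδe _ (hTR hval), hag _ (hTW hval)] at this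
  -- `W` is the kernel
  have hR0 : ((⊥ : Subgroup π.range).comap χ).map N.subtype = W := by
    by_contra hne
    have := hlift ⊥ bot_le (by rw [Subgroup.normalizer_eq_top]; exact le_top) hne
    rw [Subgroup.normalizer_eq_top] at this
    exact hM (top_le_iff.1 this)
  have hker : ∀ g : N, χ g = 1 ↔ (g : Ω) ∈ W := fun g => by
    conv_rhs => rw [← hR0]
    rw [← N.subtype_apply, Subgroup.mem_map_iff_mem N.subtype_injective, Subgroup.mem_comap,
      Subgroup.mem_bot]
  -- an abelian subgroup of largest order outside `W`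
  obtain ⟨A, hA, hAW⟩ : ∃ A ∈ maxAbelianSubgroups N, ¬ A.map N.subtype ≤ W := by
    by_contra hno
    push Not at hno
    have hJW : thompsonSubgroupAOf N ≤ W := by
      rw [thompsonSubgroupAOf, thompsonSubgroupA, Subgroup.map_le_iff_le_comap]
      exact sSup_le fun A hA => Subgroup.map_le_iff_le_comap.1 (hno A hA)
    have hJ := maps_J hWS N hJW hWN α
    have hm := (mem_autGroup hWS).1 hα
    rcases (hNS.eq_or_lt) with e | hlt
    · have hJS : thompsonSubgroupAOf N = thompsonSubgroupAOf S := by rw [e]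
      rw [hJS] at hJ hJW
      have hnJ : S ≤ normalizerIn S (thompsonSubgroupAOf S) := fun g hg =>
        ⟨hg, mem_normalizer_of_cj_le (thompsonAOf_le S) fun x hx => by
          let cg : MulAut S := MulAut.conj ⟨g, hg⟩
          have := maps_J (S := S) le_rfl S (thompsonAOf_le S) le_rfl cg x hx
          rwa [afun_apply cg (thompsonAOf_le S hx)] at this⟩
      refine hmove (hJT W (afun α) hm (hWS.trans hnJ) (fun x hx => hnJ (hm.apply_mem hx))
        ⟨afun α, ?_, fun _ _ => rfl, (hm.restrict_to hJW).im_self hJ⟩ hTW t₀ ht₀)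
      rwa [sup_eq_left.mpr hJW]
    · set J := thompsonSubgroupAOf N with hJdef
      have hJS' : J ≤ S := hJW.trans hWS
      obtain ⟨A, hA⟩ : ∃ A, A ∈ maxAbelianSubgroups N := by
        obtain ⟨A, hA, hmaxA⟩ := Set.exists_max_image {A : Subgroup N | IsMulCommutative A}
          (fun A => Nat.card A) (Set.toFinite _) ⟨⊥, ⟨⟨fun a b => Subsingleton.elim _ _⟩⟩⟩
        exact ⟨A, hA, hmaxA⟩
      have hTA : T.subgroupOf N ≤ A := by
        intro t ht
        have hc : ∀ a ∈ A, a * t = t * a := fun a _ => Subtype.ext (hTc a (hNS a.2) t ht)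
        haveI := hA.1
        have hAB : IsMulCommutative (A ⊔ Subgroup.zpowers t : Subgroup N) := by
          rw [Subgroup.zpowers_eq_closure, ← A.closure_eq, ← Subgroup.closure_union]
          refine Subgroup.isMulCommutative_closure ?_
          rintro a (ha | rfl) b (hb | rfl)
          · exact congrArg Subtype.val (hA.1.is_comm.comm ⟨a, ha⟩ ⟨b, hb⟩)
          · exact hc a ha
          · exact (hc b hb).symm
          · rfl
        exact (Subgroup.eq_of_le_of_card_ge le_sup_left (hA.2 _ hAB)).ge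
          (Subgroup.mem_sup_right (Subgroup.mem_zpowers t))
      have hTJ : T ≤ J := fun t ht => ⟨⟨t, hWN (hTW ht)⟩, le_sSup hA (hTA ht), rfl⟩
      haveI := finite_normalizerIn (S := S) J
      have h1 := card_lt_normalizerIn hS hlt
      have h2 : normalizerIn S N ≤ normalizerIn S J := fun g hg =>
        ⟨hg.1, mem_normalizer_of_cj_le hJS' fun x hx => by
          let cg : MulAut N := N.normalizerMonoidHom ⟨g, hg.2⟩
          have := maps_J (S := S) hNS N (thompsonAOf_le N) le_rfl cg x hx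
          rwa [afun_apply cg (thompsonAOf_le N hx)] at this⟩
      have hkey : key S W < key S J := by
        have h3 := Subgroup.card_le_of_le h2
        have h4 : (Nat.card N + 1) * (Nat.card S + 1) ≤
            Nat.card (normalizerIn S J) * (Nat.card S + 1) := Nat.mul_le_mul_right _ (by omega)
        rw [add_mul, one_mul] at h4
        simp only [key, ← hNdef]
        omega
      obtain ⟨δ, hδ, hδe⟩ := (hm.restrict_to hJW).exists_aut ((hm.restrict_to hJW).im_self hJ)
      have := hgood J hJS' hTJ hkey δ hδ t₀ ht₀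
      rw [hδe _ (hTJ ht₀)] at this
      exact hmove this
  haveI := hA.1
  have hAc : ∀ a ∈ A, ∀ b ∈ A, a * b = b * a := fun a ha b hb =>
    congrArg Subtype.val (hA.1.is_comm.comm ⟨a, ha⟩ ⟨b, hb⟩)
  set Ab := A.map χ with hAb
  have hAb1 : Ab ≠ ⊥ := fun e => hAW (by
    rintro _ ⟨a, ha, rfl⟩
    refine (hker a).1 ?_
    have : χ a ∈ Ab := ⟨a, ha, rfl⟩
    rwa [e, Subgroup.mem_bot] at this)
  -- the offending inequality
  have hoff : Nat.card (Additive V) ≤
      Nat.card Ab * Nat.card (OffenderSL2Gen31.fixW (Additive V) Ab) := by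
    let K : Subgroup N := A ⊓ χ.ker
    let VN : Subgroup N := (V.map W.subtype).subgroupOf N
    have hVN : Nat.card VN = Nat.card (Additive V) := by
      show _ = Nat.card V
      rw [Nat.card_congr (Subgroup.subgroupOfEquivOfLe ((Subgroup.map_subtype_le V).trans hWN)).toEquiv,
        Subgroup.card_map_of_injective W.subtype_injective]
    have hVc : ∀ a : N, (a : Ω) ∈ W → ∀ v ∈ VN, a * v = v * a := by
      rintro a ha v ⟨v', hv', e⟩
      refine Subtype.ext ?_
      have := congrArg Subtype.val (Subgroup.mem_center_iff.mp (hVZ hv') ⟨a, ha⟩)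
      show (a : Ω) * v = v * a
      rw [← N.subtype_apply v, ← e]
      exact this
    have hKW : ∀ a ∈ K, (a : Ω) ∈ W := fun a ha => (hker a).1 ha.2
    have hVNW : ∀ v ∈ VN, ((v : N) : Ω) ∈ W := by
      rintro v ⟨v', -, e⟩
      rw [← N.subtype_apply v, ← e]
      exact v'.2
    have hKV : IsMulCommutative (K ⊔ VN : Subgroup N) := by
      rw [← K.closure_eq, ← VN.closure_eq, ← Subgroup.closure_union]
      refine Subgroup.isMulCommutative_closure ?_
      rintro a (ha | ha) b (hb | hb)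
      · exact hAc a ha.1 b hb.1
      · exact hVc a (hKW a ha) b hb
      · exact (hVc b (hKW b hb) a ha).symm
      · exact hVc a (hVNW a ha) b hb
    have hprod := OffendersReplace.card_sup_mul_card_inf K VN
      (OffendersReplace.le_normalizer_of_commute fun k hk v hv => hVc k (hKW k hk) v hv)
    have hAcard : Nat.card Ab * Nat.card K = Nat.card A := by
      let ψ := χ.comp A.subtype
      have e1 := ψ.ker.card_mul_index
      have e2 : ψ.range = Ab := by rw [MonoidHom.range_comp, Subgroup.range_subtype]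
      have e3 : ψ.ker.map A.subtype = K := by
        rw [← MonoidHom.comap_ker, Subgroup.map_comap_eq, Subgroup.range_subtype]
      rw [Subgroup.index_ker, e2] at e1
      rw [← e1, ← e3, Subgroup.card_map_of_injective A.subtype_injective, mul_comm]
    have hKVfix : Nat.card (K ⊓ VN : Subgroup N) ≤
        Nat.card (OffenderSL2Gen31.fixW (Additive V) Ab) := by
      have hex : ∀ k : (K ⊓ VN : Subgroup N), ∃ w ∈ V, ((w : W) : Ω) = ((k : N) : Ω) := by
        rintro ⟨k, -, w, hw, e⟩
        exact ⟨w, hw, e⟩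
      choose w hw hwe using hex
      refine Nat.card_le_card_of_injective (fun k => ⟨Additive.ofMul ⟨w k, hw k⟩, ?_⟩) fun k k' h => ?_
      · rintro _ ⟨a, ha, rfl⟩
        refine hval_inj ((hχ a _).trans ?_)
        show (a : Ω) * (w k : Ω) * (a : Ω)⁻¹ = (w k : Ω)
        rw [hwe k]
        have : (a : Ω) * (k : N) = (k : N) * (a : Ω) :=
          congrArg Subtype.val (hAc a ha (k : N) k.2.1.1)
        rw [this, mul_inv_cancel_right]
      · refine Subtype.ext (Subtype.ext ?_)
        rw [← hwe k, ← hwe k']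
        exact congrArg val (congrArg Subtype.val h)
    refine Nat.le_of_mul_le_mul_right (c := Nat.card K) ?_ Nat.card_pos
    calc Nat.card (Additive V) * Nat.card K = Nat.card K * Nat.card VN := by rw [hVN, mul_comm]
      _ = Nat.card (K ⊔ VN : Subgroup N) * Nat.card (K ⊓ VN : Subgroup N) := hprod.symm
      _ ≤ Nat.card A * Nat.card (OffenderSL2Gen31.fixW (Additive V) Ab) :=
          Nat.mul_le_mul (hA.2 _ hKV) hKVfix
      _ = _ := by rw [← hAcard]; ring
  -- the torus
  obtain ⟨q, hq, g, hgM, hg2, hgcard⟩ := exists_involution (T0 := T0)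
    (M := M) hp2 (fun g hg => Subtype.ext (MulEquiv.ext fun v => hg (Additive.ofMul v))) (by
      obtain ⟨n, hn⟩ := ((hS.to_le hWS).to_subgroup V).exists_card_eq
      refine ⟨n, fun v => ?_⟩
      rw [← hn]
      exact card_nsmul_eq_zero') SP hM
    (fun g hg v hv => by rw [hg v hv]; exact hv) (fun g hg => hg) hSM
    (by rw [hSP]; rintro _ ⟨g, rfl⟩ v hv; exact hχT g v hv)
    (fun R hR1 hRS hRn => by
      rw [hSP] at hRS hRn
      refine hlift R hRS hRn fun e => hR1 ((Subgroup.eq_bot_iff_forall R).2 fun x hx => ?_)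
      obtain ⟨a, rfl⟩ := hRS hx
      refine (hker a).2 ?_
      rw [← e]
      exact ⟨a, hx, rfl⟩) hAb1
    (by rw [hSP]; exact Subgroup.map_le_range χ A)
    (by
      rintro _ ⟨a, ha, rfl⟩ _ ⟨b, hb, rfl⟩
      rw [← map_mul, ← map_mul, hAc a ha b hb]) hoff
  obtain ⟨β, rfl⟩ := hπ's g
  -- restriction to `T`
  have hβT : ∀ t ∈ T, afun (β : MulAut W) t ∈ T := fun t ht => by
    have := hgM (emb ⟨t, ht⟩) ((hT0 _).2 ht)
    rwa [hT0, hval_smul] at this
  have hβm := ((mem_autGroup hWS).1 β.2).restrict_to hTW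
  obtain ⟨ξ, hξ, hξe⟩ := hβm.exists_aut (hβm.im_self hβT)
  have hξemb : ∀ t : T, emb (ξ t) = π' β • emb t := fun t => hval_inj (by
    show ((ξ t : T) : Ω) = _
    rw [hval_smul, ← afun_coe]
    exact hξe t t.2)
  have hξpow : ∀ (n : ℕ) (t : T), emb ((ξ ^ n) t) = π' β ^ n • emb t := by
    intro n
    induction n with
    | zero => intro t; simp
    | succ n ih =>
      intro t
      rw [pow_succ', pow_succ', MulAut.mul_apply, hξemb, ih, mul_smul]
  have hemb_inj : Function.Injective emb := fun a b h => Subtype.ext (congrArg val h)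
  refine ⟨W, hWS, q, hq.trans ?_, ξ, hξ, ?_, ?_⟩
  · exact Subgroup.card_range_dvd π
  · rw [← pow_two]
    exact MulEquiv.ext fun t => hemb_inj (by rw [hξpow, pow_two, hg2, one_smul]; rfl)
  · rw [← hgcard]
    have hembT : ∀ t : T, emb t ∈ T0 := fun t => (hT0 _).2 t.2
    have hneg : ∀ t : T, emb t⁻¹ = -emb t := fun t => rfl
    refine Nat.card_eq_of_bijective (fun t => ⟨⟨emb t.1, hembT t.1⟩, ?_⟩) ⟨fun a b hab => ?_, ?_⟩
    · show π' β • emb t.1 = -emb t.1
      rw [← hξemb, t.2, hneg]
    · exact Subtype.ext (hemb_inj (congrArg Subtype.val (congrArg Subtype.val hab)))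
    · rintro ⟨⟨v, hv⟩, hv'⟩
      have hev : emb ⟨val v, (hT0 v).1 hv⟩ = v := hval_inj rfl
      refine ⟨⟨⟨val v, (hT0 v).1 hv⟩, hemb_inj ?_⟩, Subtype.ext (Subtype.ext hev)⟩
      rw [hξemb, hneg, hev]
      exact hv'

end fusion

end Cfsg.Agent.FusionTorus20
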