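import Cfsg.Agent.Lib.FusionFpfBasic20
import Cfsg.Agent.Lib.FusionTorus20
import Cfsg.Agent.Lib.FlavellTorus20

/-!
In a saturated fusion system with a fixed-point-free automorphism of coprime prime order, an invariant
central subgroup of exponent `p` which is normal in the normalizer system of the Thompson subgroup is
weakly closed: otherwise the torus of an offender contradicts the Hall-Higman theorem.
-/

set_option autoImplicit false
set_option linter.style.haveILetI false

namespace Cfsg.Agent.FusionFpf20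

open Cfsg Cfsg.FusionSystem Cfsg.Agent.FusionSysBasic Cfsg.Agent.FusionMorph88
open Cfsg.Agent.FusionSysSaturated Cfsg.Agent.FusionWeakAlperin

universe u

variable {Ω : Type u} [Group Ω] {S : Subgroup Ω} [Finite S] {p r : ℕ} [hp : Fact p.Prime]
  {F : FusionSystem S} {a : MulAut S}

/-- An invariant central subgroup of exponent `p`, normal in the normalizer system of the Thompson
subgroup, is weakly closed. -/
theorem weaklyClosed_central (h : Hyp p r F a) (hne : S ≠ ⊥) {U : Subgroup Ω} (hUS : U ≤ S)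
    (hUa : AInv a U) (hUc : ∀ s ∈ S, ∀ t ∈ U, s * t = t * s) (hUexp : ∀ t ∈ U, t ^ p = 1)
    (hJT : ∀ P f, Mor F P f → P ≤ normalizerIn S (thompsonSubgroupAOf S) →
      (∀ x ∈ P, f x ∈ normalizerIn S (thompsonSubgroupAOf S)) →
      (∃ f', Mor F (P ⊔ thompsonSubgroupAOf S) f' ∧ (∀ x ∈ P, f' x = f x) ∧
        im (thompsonSubgroupAOf S) f' = thompsonSubgroupAOf S) →
      U ≤ P → ∀ t ∈ U, f t ∈ U) :
    F.WeaklyClosed U := by
  classical
  by_contra hWC
  have hp2 : 2 < p := lt_of_le_of_ne hp.out.two_le (Ne.symm h.hp2)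
  obtain ⟨W, hWS, q, hqd, ζ, hζ, hζ2, hζq⟩ :=
    FusionTorus20.torus h.hS h.hF hp2 hUS hUc hJT hWC
  haveI := finite_of_le hUS
  haveI : Finite (MulAut U) := inferInstance
  obtain ⟨aU, hval, hpow, hfix⟩ := exists_res h hUS hUa
  have hU1 : U ≠ ⊥ := fun e => hWC (by
    refine ⟨hUS, fun φ hφ => ?_⟩
    have hm := mor_toFun hφ
    rw [Mor.range_eq_im hφ fun x => (toFun_coe φ x).symm]
    refine hm.im_self fun x hx => ?_
    have hx1 : x = 1 := by simpa [e] using hx
    rw [hx1, hm.map_one]
    exact U.one_mem)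
  set A := F.autGroup U with hA
  have hao : orderOf aU = r := by
    refine ((Nat.dvd_prime h.hr).1 (orderOf_dvd_of_pow_eq_one hpow)).resolve_left fun e => hU1 ?_
    exact (Subgroup.eq_bot_iff_forall U).2 fun x hx => congrArg Subtype.val
      (hfix ⟨x, hx⟩ (by rw [orderOf_eq_one_iff.1 e]; rfl))
  have hrp := h.hrp hne
  -- the automizer is a `p'`-group
  have hpA : ¬ p ∣ Nat.card A := by
    have hUn : ∀ g ∈ S, ∀ x ∈ U, cj g x ∈ U := fun g hg x hx => by
      rw [cj_apply, hUc g hg x hx, mul_inv_cancel_right]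
      exact hx
    obtain ⟨-, R, hR⟩ := fullyAutomized_of_fullyNormalized h.hS h.hF
      (fullyNormalized_of_normal hUS hUn) (F := F)
    have hbot : autInducedBy S U = ⊥ := (Subgroup.eq_bot_iff_forall _).2 fun β hβ => by
      obtain ⟨g, hg, -, hge⟩ := mem_autInducedBy.1 hβ
      refine afun_ext fun x hx => ?_
      rw [hge x hx, afun_one hx, cj_apply, hUc g hg x hx, mul_inv_cancel_right]
    have := R.not_dvd_index
    rwa [hR, hbot, Subgroup.bot_subgroupOf, Subgroup.index_bot] at this
  let Γ' := ↥U ⋊[MonoidHom.id (MulAut ↥U)] MulAut ↥U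
  have : Finite Γ' := Finite.of_equiv _ SemidirectProduct.equivProd.symm
  let V : Subgroup Γ' := (SemidirectProduct.inl : ↥U →* Γ').range
  let X : Subgroup Γ' := A.map (SemidirectProduct.inr : MulAut ↥U →* Γ')
  let b : Γ' := SemidirectProduct.inr aU
  have hconj : ∀ (β : MulAut U) (y : U),
      (SemidirectProduct.inr β : Γ') * SemidirectProduct.inl y * (SemidirectProduct.inr β)⁻¹ =
        SemidirectProduct.inl (β y) := fun β y => by
    rw [← map_inv]
    exact (SemidirectProduct.inl_aut (φ := MonoidHom.id (MulAut ↥U)) β y).symm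
  have hXcard : Nat.card X = Nat.card A :=
    Subgroup.card_map_of_injective SemidirectProduct.inr_injective
  have hcV : ∀ β : MulAut U, (SemidirectProduct.inr β : Γ') ∈ Subgroup.normalizer (V : Set Γ') :=
    fun β => Flavell20.PNil.mem_normalizer_of_conj (by
      rintro _ ⟨y, rfl⟩
      exact ⟨_, (hconj _ _).symm⟩)
  have hK : Flavell20.Core p r V X b := by
    refine { hp := hp.out, hp2 := h.hp2, hr := h.hr, hrp := hrp
             orda := by rw [orderOf_injective _ SemidirectProduct.inr_injective, hao]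
             Vne := ?_, Vcomm := ?_, Vexp := ?_, aX := ?_, aV := hcV _, XV := ?_, faith := ?_
             fixV := ?_, rX := fun e => h.aut U hUS (hXcard ▸ e)
             pC := fun e => hpA (hXcard ▸ e.trans (Subgroup.card_dvd_of_le inf_le_left)) }
    · intro e
      obtain ⟨u, hu, hu1⟩ := (U.bot_or_exists_ne_one).resolve_left hU1
      have h1 : (SemidirectProduct.inl (⟨u, hu⟩ : U) : Γ') ∈ V := ⟨_, rfl⟩
      rw [e, Subgroup.mem_bot] at h1
      exact hu1 (congrArg Subtype.val
        (SemidirectProduct.inl_injective (h1.trans (map_one _).symm)))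
    · rintro _ ⟨u, rfl⟩ _ ⟨v, rfl⟩
      rw [← map_mul, ← map_mul]
      exact congrArg _ (Subtype.ext (hUc u (hUS u.2) v v.2))
    · rintro _ ⟨u, rfl⟩
      rw [← map_pow, show u ^ p = 1 from Subtype.ext (by simpa using hUexp u u.2), map_one]
    · refine Flavell20.PNil.mem_normalizer_of_conj ?_
      rintro _ ⟨β, hβ, rfl⟩
      rw [← map_inv, ← map_mul, ← map_mul]
      exact Subgroup.mem_map_of_mem _ (res_conj_mem h hUS hval hβ)
    · rintro _ ⟨β, -, rfl⟩
      exact hcV β
    · rw [eq_bot_iff]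
      rintro _ ⟨⟨β, -, rfl⟩, hβ⟩
      have h1 : β = 1 := MulEquiv.ext fun y => by
        refine SemidirectProduct.inl_injective (φ := MonoidHom.id (MulAut ↥U)) ?_
        rw [← hconj, ← Subgroup.mem_centralizer_iff.1 hβ (SemidirectProduct.inl y : Γ') ⟨y, rfl⟩,
          mul_inv_cancel_right]
        rfl
      simp [h1]
    · rw [eq_bot_iff]
      rintro _ ⟨⟨y, rfl⟩, hy⟩
      have h2 : aU y = y := by
        refine SemidirectProduct.inl_injective (φ := MonoidHom.id (MulAut ↥U)) ?_
        rw [← hconj, ← Subgroup.mem_centralizer_singleton_iff.1 hy, mul_inv_cancel_right]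
      rw [Subgroup.mem_bot, hfix y h2, map_one]
  haveI : Fact r.Prime := ⟨h.hr⟩
  have hmod := FlavellTorus20.card_neg_sq_of_core hK (z := SemidirectProduct.inr ζ)
    (Subgroup.mem_map_of_mem _ hζ) (by rw [← map_mul, hζ2, map_one])
  have hcard : Nat.card (FlavellTorus20.neg V hK.Vcomm (SemidirectProduct.inr ζ)) = q := by
    rw [← hζq]
    refine (Nat.card_congr (Equiv.ofBijective
      (fun u : {t : U // ζ t = t⁻¹} =>
        (⟨SemidirectProduct.inl u.1, ⟨_, rfl⟩, ?_⟩ :
          FlavellTorus20.neg V hK.Vcomm (SemidirectProduct.inr ζ))) ⟨?_, ?_⟩)).symm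
    · rw [hconj, u.2, map_inv]
    · intro u v huv
      exact Subtype.ext (SemidirectProduct.inl_injective (congrArg Subtype.val huv))
    · rintro ⟨_, ⟨w, rfl⟩, hwn⟩
      rw [hconj, ← map_inv] at hwn
      exact ⟨⟨w, SemidirectProduct.inl_injective hwn⟩, rfl⟩
  rw [hcard] at hmod
  have hq1 : 1 ≤ q := hcard ▸ Nat.card_pos
  have h1 : r ∣ q ^ 2 - 1 ^ 2 := by
    rw [one_pow]
    exact (Nat.modEq_iff_dvd' (Nat.one_le_pow _ _ hq1)).1 hmod.symm
  rw [Nat.sq_sub_sq] at h1
  exact h.aut W hWS (h1.trans ((Dvd.intro_left _ rfl).trans hqd))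

end Cfsg.Agent.FusionFpf20
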