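import Cfsg.Agent.Lib.FusionFpfReduce20
import Cfsg.Agent.Lib.FusionFpfQuot20
import Cfsg.Agent.Lib.FusionFpfWeak20
import Cfsg.Agent.Lib.FlavellPClosed20
import Cfsg.Agent.Lib.FlavellClosed20
import Cfsg.Agent.Lib.FlavellNoCen8

/-!
A saturated fusion system with a fixed-point-free automorphism of prime order prime to the automizers
has its Sylow group normal (S5277): induction on the order of `S`. The socle `U` of the centre of `S`
is weakly closed, hence normal; the system centralizing it has `S` normal by induction, and so has `F`.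
-/

set_option autoImplicit false

namespace Cfsg.Agent.FusionFpf20

open Cfsg Cfsg.FusionSystem Cfsg.Agent.FusionSysBasic Cfsg.Agent.FusionMorph88
open Cfsg.Agent.FusionSysSaturated Cfsg.Agent.FusionSysNormal Cfsg.Agent.FusionSysAlperin

universe u

variable {Ω : Type u} [Group Ω] {S : Subgroup Ω} [Finite S] {p r : ℕ} [hp : Fact p.Prime]
  {F : FusionSystem S} {a : MulAut S}

omit [Finite S] hp in
theorem core_pclosed :
    ∀ (Γ' : Type u) [Group Γ'] [Finite Γ'] (V X : Subgroup Γ') (a' : Γ'),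
      Flavell20.Core p r V X a' → Flavell20.PClosed p X :=
  fun _ _ _ _ _ _ h => Flavell20.pclosed_of (fun _ _ _ _ _ _ _ _ _ _ h _ => Flavell20.closed h)
    (fun _ _ _ _ _ _ _ _ _ _ h hZ => Flavell20.cen_inf_central h hZ) h

/-- The elements of order dividing `p` of the centre of `S`. -/
def socle (S : Subgroup Ω) (p : ℕ) : Subgroup Ω where
  carrier := {x | x ∈ S ∧ (∀ s ∈ S, s * x = x * s) ∧ x ^ p = 1}
  one_mem' := ⟨one_mem _, fun s _ => by simp, one_pow p⟩
  mul_mem' := by
    rintro x y ⟨hx, hxc, hxp⟩ ⟨hy, hyc, hyp⟩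
    refine ⟨mul_mem hx hy, fun s hs => ?_, ?_⟩
    · rw [← mul_assoc, hxc s hs, mul_assoc, hyc s hs, mul_assoc]
    · rw [(show Commute x y from hyc x hx).mul_pow, hxp, hyp, one_mul]
  inv_mem' := by
    rintro x ⟨hx, hxc, hxp⟩
    exact ⟨inv_mem hx, fun s hs => (show Commute s x from hxc s hs).inv_right.eq,
      by rw [inv_pow, hxp, inv_one]⟩

omit [Finite S] hp in
theorem socle_le : socle S p ≤ S := fun _ hx => hx.1

omit [Finite S] hp in
theorem socle_comm : ∀ s ∈ S, ∀ t ∈ socle S p, s * t = t * s := fun s hs _ ht => ht.2.1 s hs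

omit hp in
theorem socle_invariant (α : MulAut S) {x : Ω} (hx : x ∈ socle S p) : afun α x ∈ socle S p := by
  obtain ⟨hxS, hxc, hxp⟩ := hx
  refine ⟨afun_mem α hxS, fun s hs => ?_, ?_⟩
  · have h1 := afun_mem α⁻¹ hs
    have h2 : (⟨afun α⁻¹ s, h1⟩ : S) * ⟨x, hxS⟩ = ⟨x, hxS⟩ * ⟨afun α⁻¹ s, h1⟩ :=
      Subtype.ext (hxc _ h1)
    have h3 := congrArg (fun z : S => ((α z : S) : Ω)) h2
    simp only [map_mul, Subgroup.coe_mul] at h3
    rwa [← afun_apply α h1, ← afun_apply α hxS, afun_apply_inv α hs] at h3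
  · rw [afun_apply α hxS, ← SubmonoidClass.coe_pow, ← map_pow]
    rw [show (⟨x, hxS⟩ : S) ^ p = 1 from Subtype.ext hxp, map_one, OneMemClass.coe_one]

theorem socle_ne_bot (hS : IsPGroup p S) (hne : S ≠ ⊥) : socle S p ≠ ⊥ := by
  haveI : Nontrivial S := (Subgroup.nontrivial_iff_ne_bot S).2 hne
  haveI := hS.center_nontrivial
  obtain ⟨k, hk, hk'⟩ := (IsPGroup.nontrivial_iff_card (hS.to_subgroup (Subgroup.center S))).1
    inferInstance
  obtain ⟨z, hz⟩ := exists_prime_orderOf_dvd_card' (G := Subgroup.center S) p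
    (by rw [hk']; exact dvd_pow_self p hk.ne')
  intro e
  have hzm : ((z : S) : Ω) ∈ socle S p := ⟨(z : S).2, fun s hs =>
    congrArg Subtype.val (Subgroup.mem_center_iff.1 z.2 ⟨s, hs⟩), by
      rw [← SubmonoidClass.coe_pow, ← SubmonoidClass.coe_pow, ← hz, pow_orderOf_eq_one]; rfl⟩
  rw [e, Subgroup.mem_bot] at hzm
  have : z = 1 := Subtype.ext (Subtype.ext hzm)
  rw [this, orderOf_one] at hz
  exact hp.out.ne_one hz.symm

/-- The inductive step. -/
theorem normal_step (h : Hyp p r F a) (ih : IH.{u} p r (Nat.card S)) : F.IsNormal S := by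
  classical
  by_cases hne : S = ⊥
  · convert normal_bot (F := F)
  set U := socle S p with hU
  have hUS : U ≤ S := socle_le
  have hUa : AInv a U := fun x hx => by
    rw [ext_eq_afun a (hUS hx)]; exact socle_invariant a hx
  have hUc : ∀ s ∈ S, ∀ t ∈ U, s * t = t * s := socle_comm
  have hUn : ∀ g ∈ S, ∀ x ∈ U, cj g x ∈ U := fun g hg x hx => by
    rwa [FusionCentralTorus31.cj_eq hUc hg hx]
  -- the normalizer system of the Thompson subgroup keeps `U`
  set J := thompsonSubgroupAOf S with hJdef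
  have hJS : J ≤ S := FusionCentralTorus31.thompsonAOf_le S
  obtain ⟨GJ, hGJ, hGJJ, -, hbackJ⟩ :=
    exists_norm h hJS (fun g hg x hx => thompson_cj F hg hx) (thompson_aInv a)
  have hGJS : GJ.IsNormal S := normal_of_thompson hGJ hne core_pclosed hGJJ
  have hwc : F.WeaklyClosed U := by
    refine weaklyClosed_central h hne hUS hUa hUc (fun t ht => ht.2.2) ?_
    rintro P f hf - - ⟨f', hf', hag, him⟩ hUP t ht
    have hG := hbackJ _ f' le_sup_right hf' fun x hx => him.le (apply_mem_im hx)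
    obtain ⟨ψ, hψ, hψe, hψS⟩ := (isNormal_iff.1 hGJS).2 _ f' hG
    obtain ⟨α, -, hα⟩ := (hψ.restrict_to le_sup_right).exists_aut hψS
    rw [← hag t (hUP ht), ← hψe t (Subgroup.mem_sup_left (hUP ht)), ← hα t (hUS ht)]
    exact socle_invariant α ht
  have hkeep : ∀ P f, Mor F P f → U ≤ P → ∀ x ∈ U, f x ∈ U := fun P f hf hUP x hx =>
    ((weaklyClosed_iff.1 hwc).2 f (hf.restrict_to hUP)).le (apply_mem_im hx)
  have hUR : ∀ R, F.IsCentric R → U ≤ R := fun R hR x hx =>
    centralizerIn_le_of_centric hR (mem_centralizerIn.2 ⟨hUS hx, fun y hy => by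
      rw [cj_apply, ← hUc y (hR.1 hy) x hx, mul_inv_cancel_right]⟩)
  -- the centralizer system of `U`
  obtain ⟨G, hG, hGU, hback⟩ := exists_cent h hUS hUc hUa
  have hGS : G.IsNormal S := central_normal hG ih hGU hUa (socle_ne_bot h.hS hne)
  refine isNormal_top h.hS h.hF fun R hc hrad hfn => le_antisymm hc.1 ?_
  have hRS := hc.1
  haveI := finite_of_le hRS
  have hUle := hUR R hc
  set A := F.autGroup R
  let K : Subgroup (MulAut R) :=
    { carrier := {β | β ∈ A ∧ ∀ x ∈ U, afun β x = x}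
      one_mem' := ⟨one_mem _, fun x hx => afun_one (hUle hx)⟩
      mul_mem' := by
        rintro α β ⟨hα, hαe⟩ ⟨hβ, hβe⟩
        exact ⟨mul_mem hα hβ, fun x hx => by rw [afun_mul _ _ (hUle hx), hβe x hx, hαe x hx]⟩
      inv_mem' := by
        rintro β ⟨hβ, hβe⟩
        refine ⟨inv_mem hβ, fun x hx => ?_⟩
        conv_lhs => rw [← hβe x hx]
        exact afun_inv_apply β (hUle hx) }
  have hKA : K ≤ A := fun β hβ => hβ.1
  have hIK : autInducedBy S R ≤ K := fun β hβ => by
    obtain ⟨g, hg, -, hge⟩ := mem_autInducedBy.1 hβ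
    exact ⟨autInducedBy_le hRS hβ, fun x hx => by
      rw [hge x (hUle hx), FusionCentralTorus31.cj_eq hUc hg hx]⟩
  have hKn : K ≤ Subgroup.normalizer (autInducedBy S R : Set (MulAut R)) := by
    rintro β ⟨hβ, hβe⟩
    refine Subgroup.mem_normalizer_fintype (h := fun m hm => ?_)
    obtain ⟨g, hg, hgn, hge⟩ := mem_autInducedBy.1 hm
    have hβG := hback R (afun β) hUle ((mem_autGroup hRS).1 hβ) hβe
    obtain ⟨ψ, hψ, hψe, hψS⟩ := (isNormal_iff.1 hGS).2 R (afun β) hβG
    have he : ∀ x ∈ R, afun (β * m * β⁻¹) x = cj (ψ g) x := fun x hx => by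
      have hx' := afun_mem β⁻¹ hx
      rw [afun_mul _ _ hx, afun_mul _ _ hx', hge _ hx',
        ← hψe _ (cj_mem_of_normalizer hgn hx'),
        hψ.map_cj (Subgroup.mem_sup_right hg) (Subgroup.mem_sup_left hx'), hψe _ hx',
        afun_apply_inv β hx]
    refine mem_autInducedBy.2 ⟨ψ g, hψS.le (apply_mem_im hg),
      mem_normalizer_of_cj_le hRS fun x hx => ?_, he⟩
    rw [← he x hx]
    exact afun_mem _ hx
  have hi : ¬ p ∣ (autInducedBy S R).relIndex K := fun e => by
    obtain ⟨-, T, hT⟩ := fullyAutomized_of_fullyNormalized h.hS h.hF hfn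
    refine T.not_dvd_index (?_ : p ∣ (T : Subgroup A).index)
    rw [hT]
    show p ∣ (autInducedBy S R).relIndex A
    exact e.trans (Dvd.intro _ (Subgroup.relIndex_mul_relIndex _ _ _ hIK hKA))
  have hIn : ∀ α ∈ A, ∀ m ∈ autInducedBy S R, α * m * α⁻¹ ∈ autInducedBy S R := by
    intro α hα m hm
    refine FlavellReduceBase15.pgroup_le (isPGroup_autInducedBy h.hS R) hIK hi hKn
      (U := (autInducedBy S R).map (MulAut.conj α).toMonoidHom) ?_
      ((isPGroup_autInducedBy h.hS R).map _) ⟨m, hm, rfl⟩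
    rintro _ ⟨β, hβ, rfl⟩
    obtain ⟨hβA, hβe⟩ := hIK hβ
    refine ⟨mul_mem (mul_mem hα hβA) (inv_mem hα), fun x hx => ?_⟩
    have hαi := (mem_autGroup hRS).1 (inv_mem hα)
    show afun (α * β * α⁻¹) x = x
    rw [afun_mul _ _ (hUle hx), afun_mul _ _ (afun_mem _ (hUle hx)),
      hβe _ (hkeep R _ hαi hUle x hx), afun_apply_inv α (hUle hx)]
  exact le_of_normal_pSubgroup h.hS hc hrad le_rfl (hRS.trans Subgroup.le_normalizer)
    (M := autInducedBy S R) (autInducedBy_le hRS) (isPGroup_autInducedBy h.hS R) hIn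
    fun g hg => mem_autInducedBy.2 ⟨g, hg, g.2.2, fun x hx => afun_nHom g hx⟩

/-- The induction. -/
theorem ih_all : ∀ m, IH.{u} p r m := by
  intro m
  induction m with
  | zero => intro _ _ _ _ _ _ _ hlt; omega
  | succ m ih =>
    intro Ω' _ S' _ F' a' h hlt
    exact normal_step h fun Ω'' _ S'' _ F'' a'' h'' hlt' => ih Ω'' S'' F'' a'' h'' (by omega)

/-- `S` is normal. -/
theorem normal (h : Hyp p r F a) : F.IsNormal S := normal_step h (ih_all _)

end Cfsg.Agent.FusionFpf20
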