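import Cfsg.Agent.Lib.FusionFpfBasic20
import Cfsg.Agent.Lib.Rank3PairQuot34
import Cfsg.Agent.Lib.FusionCentralTorus31
import Cfsg.Agent.Lib.ThompsonAQuad
import Cfsg.Agent.Lib.CharPBasic

/-!
Reductions for S5277: the Sylow group is normal as soon as the Thompson subgroup is; the systems on
the normalizer and the centralizer of invariant subgroups inherit the hypotheses.
-/

set_option autoImplicit false

namespace Cfsg.Agent.FusionFpf20

open Cfsg Cfsg.FusionSystem Cfsg.Agent.FusionSysBasic Cfsg.Agent.FusionMorph88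
open Cfsg.Agent.FusionSysSaturated Cfsg.Agent.FusionSysNormal Cfsg.Agent.FusionSysAlperin

universe u

variable {Ω : Type u} [Group Ω] {S : Subgroup Ω} [Finite S] {p r : ℕ} [hp : Fact p.Prime]
  {F : FusionSystem S} {a : MulAut S}

/-- If `S` is the only fully normalized centric radical subgroup, it is normal. -/
theorem isNormal_top (hS : IsPGroup p S) (hF : F.IsSaturated p)
    (h : ∀ R, F.IsCentric R → F.IsRadical p R → F.IsFullyNormalized R → R = S) : F.IsNormal S :=
  isNormal_of_le_centric_radical hS hF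
    (stronglyClosed_iff.2 ⟨le_rfl, fun _ _ _ hf _ hx => hf.apply_mem hx⟩)
    fun P hP => (h P hP.1 (radical_of_essential hS hP) hP.2.1).ge

omit hp in
theorem ext_eq_afun (a : MulAut S) {x : Ω} (hx : x ∈ S) : ext a x = afun a x := by
  rw [ext_apply a hx, afun_apply a hx]

omit hp in
/-- The Thompson subgroup is invariant under the automorphisms of `S`. -/
theorem thompson_invariant (α : MulAut S) {x : Ω} (hx : x ∈ thompsonSubgroupAOf S) :
    afun α x ∈ thompsonSubgroupAOf S :=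
  FusionCentralTorus31.maps_J (S := S) le_rfl S (FusionCentralTorus31.thompsonAOf_le S) le_rfl α x hx

omit hp in
theorem thompson_aInv (a : MulAut S) : AInv a (thompsonSubgroupAOf S) := fun x hx => by
  rw [ext_eq_afun a (FusionCentralTorus31.thompsonAOf_le S hx)]
  exact thompson_invariant a hx

omit hp in
theorem thompson_cj (F : FusionSystem S) {g x : Ω} (hg : g ∈ S)
    (hx : x ∈ thompsonSubgroupAOf S) : cj g x ∈ thompsonSubgroupAOf S := by
  obtain ⟨α, -, he⟩ := (mor_cj (F := F) le_rfl hg).exists_aut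
    ((mor_cj (F := F) le_rfl hg).im_self fun y hy => cj_mem_S hg hy)
  rw [← he x (FusionCentralTorus31.thompsonAOf_le S hx)]
  exact thompson_invariant α hx

omit hp in
theorem centralizer_thompson {x : Ω} (hx : x ∈ S)
    (hc : ∀ y ∈ thompsonSubgroupAOf S, x * y = y * x) : x ∈ thompsonSubgroupAOf S :=
  ⟨⟨x, hx⟩, ThompsonAQuad.centralizer_le _ (Subgroup.mem_centralizer_iff.2 fun y hy =>
    Subtype.ext (hc y ⟨y, hy, rfl⟩).symm), rfl⟩

/-- Automorphisms of `R` of order prime to `p` fixing `J` pointwise are trivial. -/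
theorem eq_one_of_fixes {R J : Subgroup Ω} (hS : IsPGroup p S) (hRS : R ≤ S) (hJR : J ≤ R)
    (hC : ∀ x ∈ S, (∀ y ∈ J, x * y = y * x) → x ∈ J) {δ : MulAut R}
    (hδ : (orderOf δ).Coprime p) (hfix : ∀ x ∈ J, afun δ x = x) : δ = 1 := by
  haveI := finite_of_le hRS
  let Γ := ↥R ⋊[MonoidHom.id (MulAut ↥R)] MulAut ↥R
  haveI : Finite Γ := Finite.of_equiv _ SemidirectProduct.equivProd.symm
  let i : ↥R →* Γ := SemidirectProduct.inl
  have hi : Function.Injective i := SemidirectProduct.inl_injective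
  have hconj : ∀ y : R, (SemidirectProduct.inr δ : Γ) * i y * (SemidirectProduct.inr δ : Γ)⁻¹ =
      i (δ y) := fun y => by
    rw [← map_inv]
    exact (SemidirectProduct.inl_aut (φ := MonoidHom.id (MulAut ↥R)) δ y).symm
  have hfixJ : ∀ y : R, (y : Ω) ∈ J → δ y = y := fun y hy =>
    Subtype.ext (by rw [← afun_coe]; exact hfix _ hy)
  have hN : i.range.Normal := by
    rw [show i.range = (SemidirectProduct.rightHom : Γ →* MulAut ↥R).ker from
      SemidirectProduct.range_inl_eq_ker_rightHom]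
    infer_instance
  have key := CharPBasic.commute_of_centralizes_fixed (p := p) (P := i.range)
    (Q := (J.subgroupOf R).map i) (x := (SemidirectProduct.inr δ : Γ))
    ((hS.to_le hRS).of_surjective i.rangeRestrict i.rangeRestrict_surjective)
    (((hS.to_le hRS).to_subgroup (J.subgroupOf R)).map i)
    (by rw [Subgroup.normalizer_eq_top_iff.2 hN]; exact le_top)
    (by rwa [orderOf_injective _ SemidirectProduct.inr_injective])
    (by rw [Subgroup.normalizer_eq_top_iff.2 hN]; exact Subgroup.mem_top _) ?_ ?_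
  · refine MulEquiv.ext fun y => hi ?_
    rw [MulAut.one_apply, ← hconj, (key (i y) ⟨y, rfl⟩).eq, mul_inv_cancel_right]
  · rintro _ ⟨y, hy, rfl⟩
    have h1 := hconj y
    rw [hfixJ y hy] at h1
    exact mul_inv_eq_iff_eq_mul.1 h1
  · rintro _ ⟨y, rfl⟩ hy
    have hyJ : (y : Ω) ∈ J := hC _ (hRS y.2) fun j hj => by
      have h1 := hy _ ⟨⟨j, hJR hj⟩, hj, rfl⟩
      have h2 : (⟨j, hJR hj⟩ : R) * y = y * ⟨j, hJR hj⟩ := hi (by rw [map_mul, map_mul]; exact h1.eq)
      exact (congrArg Subtype.val h2).symm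
    have h1 := hconj y
    rw [hfixJ y hyJ] at h1
    exact mul_inv_eq_iff_eq_mul.1 h1

/-- If the Thompson subgroup is normal, so is `S`. -/
theorem normal_of_thompson (h : Hyp p r F a) (hne : S ≠ ⊥)
    (hcore : ∀ (Γ' : Type u) [Group Γ'] [Finite Γ'] (V X : Subgroup Γ') (a' : Γ'),
      Flavell20.Core p r V X a' → Flavell20.PClosed p X)
    (hJ : F.IsNormal (thompsonSubgroupAOf S)) : F.IsNormal S := by
  classical
  refine isNormal_top h.hS h.hF fun R hc hrad _ => le_antisymm hc.1 ?_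
  set J := thompsonSubgroupAOf S with hJdef
  have hJS : J ≤ S := hJ.1
  have hRS := hc.1
  haveI := finite_of_le hRS
  have hJR : J ≤ R := normal_le_centric_radical h.hS hJ hc hrad
  let M : Subgroup (MulAut R) :=
    { carrier := {β | β ∈ F.autGroup R ∧ ∃ g ∈ S, ∀ x ∈ J, afun β x = cj g x}
      one_mem' := ⟨one_mem _, 1, one_mem _, fun x hx => by rw [afun_one (hJR hx), cj_one]⟩
      mul_mem' := by
        rintro α β ⟨hα, g, hg, hge⟩ ⟨hβ, k, hk, hke⟩
        refine ⟨mul_mem hα hβ, g * k, mul_mem hg hk, fun x hx => ?_⟩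
        rw [afun_mul _ _ (hJR hx), hke x hx, hge _ (thompson_cj F hk hx), cj_cj]
      inv_mem' := by
        rintro β ⟨hβ, g, hg, hge⟩
        refine ⟨inv_mem hβ, g⁻¹, inv_mem hg, fun x hx => ?_⟩
        have hy := thompson_cj F (inv_mem hg) hx
        have h1 : afun β (cj g⁻¹ x) = x := by rw [hge _ hy, cj_cj, mul_inv_cancel, cj_one]
        conv_lhs => rw [← h1]
        exact afun_inv_apply β (hJR hy) }
  have hMn : ∀ α ∈ F.autGroup R, ∀ m ∈ M, α * m * α⁻¹ ∈ M := by
    rintro α hα β ⟨hβ, g, hg, hge⟩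
    refine ⟨mul_mem (mul_mem hα hβ) (inv_mem hα), ?_⟩
    have hm := ((mem_autGroup hRS).1 hα).restrict_to hJR
    obtain ⟨αJ, hαJ, hαe⟩ := hm.exists_aut
      (hm.im_self fun x hx => normal_invariant hJ hm hx hx)
    have hc' := mor_cj (F := F) hJS hg
    obtain ⟨mJ, -, hme⟩ := hc'.exists_aut (hc'.im_self fun x hx => thompson_cj F hg hx)
    obtain ⟨g', hg', -, hge'⟩ := mem_autInducedBy.1 (aut_normalized h hne hcore hJS (thompson_aInv a)
      (fun s hs x hx => thompson_cj F hs hx) αJ hαJ mJ (mem_autInducedBy.2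
        ⟨g, hg, mem_normalizer_of_cj_le hJS (fun x hx => thompson_cj F hg hx), hme⟩))
    refine ⟨g', hg', fun x hx => ?_⟩
    have hx' := afun_mem αJ⁻¹ hx
    have hinv : afun α⁻¹ x = afun αJ⁻¹ x := by
      have h1 : afun α (afun αJ⁻¹ x) = x := by rw [← hαe _ hx', afun_apply_inv _ hx]
      conv_lhs => rw [← h1]
      exact afun_inv_apply α (hJR hx')
    rw [← hge' x hx, afun_mul _ _ (hJR hx), afun_mul _ _ (afun_mem _ (hJR hx)), afun_mul _ _ hx,
      afun_mul _ _ hx', hinv, hge _ hx', hme _ hx', hαe _ (thompson_cj F hg hx')]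
  have hMp : IsPGroup p M := by
    rintro ⟨β, hβA, g, hg, hge⟩
    obtain ⟨k₀, hk₀⟩ := h.hS ⟨g, hg⟩
    have hpow : ∀ k : ℕ, ∀ x ∈ J, afun (β ^ k) x = cj (g ^ k) x := by
      intro k
      induction k with
      | zero => intro x hx; rw [pow_zero, pow_zero, afun_one (hJR hx), cj_one]
      | succ k ih =>
        intro x hx
        rw [pow_succ, pow_succ, afun_mul _ _ (hJR hx), hge x hx, ih _ (thompson_cj F hg hx), cj_cj]
    set β₀ := β ^ p ^ k₀ with hβ₀
    have hfix₀ : ∀ x ∈ J, afun β₀ x = x := fun x hx => by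
      rw [hpow _ x hx, show g ^ p ^ k₀ = 1 from congrArg Subtype.val hk₀, cj_one]
    obtain ⟨k, m, hm, hkm⟩ :=
      Nat.exists_eq_pow_mul_and_not_dvd (orderOf_pos β₀).ne' p hp.out.ne_one
    have hfix : ∀ n : ℕ, ∀ x ∈ J, afun (β₀ ^ n) x = x := by
      intro n
      induction n with
      | zero => intro x hx; rw [pow_zero, afun_one (hJR hx)]
      | succ n ih => intro x hx; rw [pow_succ, afun_mul _ _ (hJR hx), hfix₀ x hx, ih x hx]
    have h1 : β₀ ^ p ^ k = 1 := by
      refine eq_one_of_fixes h.hS hRS hJR (fun x hx hxc => centralizer_thompson hx hxc) ?_ (hfix _)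
      refine Nat.Coprime.coprime_dvd_left ?_ ((hp.out.coprime_iff_not_dvd.2 hm).symm)
      exact orderOf_dvd_of_pow_eq_one (by rw [← pow_mul, ← hkm, pow_orderOf_eq_one])
    refine ⟨k₀ + k, Subtype.ext ?_⟩
    show β ^ p ^ (k₀ + k) = 1
    rw [pow_add, pow_mul, ← hβ₀, h1]
  refine le_of_normal_pSubgroup h.hS hc hrad le_rfl (hRS.trans Subgroup.le_normalizer)
    (M := M) (fun β hβ => hβ.1) hMp hMn fun g hg => ⟨?_, g, hg, fun x hx => afun_nHom g (hJR hx)⟩
  exact autInducedBy_le hRS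
    (mem_autInducedBy.2 ⟨g, hg, g.2.2, fun x hx => afun_nHom g hx⟩)

omit hp in
theorem autGroup_le_of_mor {G : FusionSystem S} (hsub : ∀ P f, Mor G P f → Mor F P f)
    {R : Subgroup Ω} (hRS : R ≤ S) : G.autGroup R ≤ F.autGroup R := fun _ hα =>
  mem_autGroup_of_mor (hsub _ _ ((mem_autGroup hRS).1 hα))

omit hp in
theorem mor_im_sup {P K : Subgroup Ω} (hK : AInv a K) (hPS : P ≤ S) (hKS : K ≤ S) :
    K ≤ im (P ⊔ K) (ext a) := by
  haveI := finite_of_le hKS
  have hinj : Function.Injective (fun x : K => (⟨ext a x, hK x x.2⟩ : K)) := fun x y e =>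
    Subtype.ext (ext_inj a (hKS x.2) (hKS y.2) (congrArg Subtype.val e))
  intro y hy
  obtain ⟨x, hx⟩ := Finite.injective_iff_surjective.1 hinj ⟨y, hy⟩
  have h1 : ext a (x : Ω) = y := congrArg Subtype.val hx
  exact h1 ▸ apply_mem_im (Subgroup.mem_sup_right x.2)

omit hp in
/-- The normalizer system of an invariant normal subgroup satisfies the hypotheses. -/
theorem exists_norm (h : Hyp p r F a) [Fact p.Prime] {K : Subgroup Ω} (hKS : K ≤ S)
    (hKn : ∀ g ∈ S, ∀ x ∈ K, cj g x ∈ K) (hKa : AInv a K) :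
    ∃ G : FusionSystem S, Hyp p r G a ∧ G.IsNormal K ∧
      (∀ P f, Mor G P f → Mor F P f) ∧
      ∀ P f, K ≤ P → Mor F P f → (∀ x ∈ K, f x ∈ K) → Mor G P f := by
  obtain ⟨G, hG, hGK, hsub, hback⟩ := Rank3.Quot34.exists_norm_sys h.hS h.hF hKS hKn
  refine ⟨G, ?_, hGK, hsub, hback⟩
  refine { hS := h.hS, hF := hG, hp2 := h.hp2, hr := h.hr, pow := h.pow, fix := h.fix,
           mor := fun P f hf => ?_, aut := fun R hR hd => h.aut R hR
             (hd.trans (Subgroup.card_dvd_of_le (autGroup_le_of_mor hsub hR))) }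
  obtain ⟨f', hf', hag, him⟩ := (isNormal_iff.1 hGK).2 P f hf
  obtain ⟨g, hg, hge⟩ := h.mor _ f' (hsub _ _ hf')
  have hKim := mor_im_sup hKa hf.le hKS
  refine ⟨g, ?_, fun x hx => by rw [hge x (Subgroup.mem_sup_left hx), hag x hx]⟩
  refine (hback _ g hKim hg fun y hy => ?_).restrict_to (im_mono le_sup_left)
  obtain ⟨x, hx, rfl⟩ : ∃ x ∈ K, ext a x = y := by
    haveI := finite_of_le hKS
    have hinj : Function.Injective (fun x : K => (⟨ext a x, hKa x x.2⟩ : K)) := fun x y e =>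
      Subtype.ext (ext_inj a (hKS x.2) (hKS y.2) (congrArg Subtype.val e))
    obtain ⟨x, hx⟩ := Finite.injective_iff_surjective.1 hinj ⟨y, hy⟩
    exact ⟨x, x.2, congrArg Subtype.val hx⟩
  rw [hge x (Subgroup.mem_sup_right hx)]
  exact hKa _ (him.le (apply_mem_im hx))

/-- A system in which `U` is central, containing all maps that centralise `U`. -/
theorem exists_cent (h : Hyp p r F a) {U : Subgroup Ω} (hUS : U ≤ S)
    (hUc : ∀ s ∈ S, ∀ t ∈ U, s * t = t * s) (hUa : AInv a U) :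
    ∃ G : FusionSystem S, Hyp p r G a ∧ G.IsCentral U ∧
      ∀ P f, U ≤ P → Mor F P f → (∀ x ∈ U, f x = x) → Mor G P f := by
  have hUn : ∀ g ∈ S, ∀ x ∈ U, cj g x ∈ U := fun g hg x hx => by
    rwa [FusionCentralTorus31.cj_eq hUc hg hx]
  have hT : centralizerIn S U = S := le_antisymm (fun x hx => (mem_centralizerIn.1 hx).1)
    fun g hg => mem_centralizerIn.2 ⟨hg, fun x hx => FusionCentralTorus31.cj_eq hUc hg hx⟩
  have hfc : F.IsFullyCentralized U := fullyCentralized_of_receptive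
    (receptive_of_fullyNormalized h.hS h.hF (FusionWeakAlperin.fullyNormalized_of_normal hUS hUn))
  have hE := isCentralizerSystem_centralizerSystem (F := F) U hUS
  have key : ∀ T (G : FusionSystem T), T = S → G.IsSaturated p →
      (∀ P f, Mor G P f ↔ Mor F P f ∧ ∃ f', Mor F (P ⊔ U) f' ∧ (∀ x ∈ P, f' x = f x) ∧
        ∀ x ∈ U, f' x = x) →
      ∃ G : FusionSystem S, G.IsSaturated p ∧
      ∀ P f, Mor G P f ↔ Mor F P f ∧ ∃ f', Mor F (P ⊔ U) f' ∧ (∀ x ∈ P, f' x = f x) ∧
        ∀ x ∈ U, f' x = x := by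
    rintro T G rfl h1 h2
    exact ⟨G, h1, h2⟩
  obtain ⟨G, hG, hmor⟩ := key _ _ hT (FusionSysNormalizer.centralizerSystem_saturated h.hS h.hF hfc hE)
    fun P f => (mor_centralizerSystem_iff hE).trans
      ⟨fun hf => ⟨hf.1, hf.2.2.2⟩, fun hf => ⟨hf.1, hT.symm ▸ hf.1.le,
        fun x hx => hT.symm ▸ hf.1.apply_mem hx, hf.2⟩⟩
  have hback : ∀ P f, U ≤ P → Mor F P f → (∀ x ∈ U, f x = x) → Mor G P f := fun P f hUP hf hfix =>
    (hmor P f).2 ⟨hf, f, by rwa [sup_eq_left.2 hUP], fun _ _ => rfl, hfix⟩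
  refine ⟨G, ?_, isCentral_iff.2 ⟨hUS, fun P f hf => ?_⟩, hback⟩
  · refine { hS := h.hS, hF := hG, hp2 := h.hp2, hr := h.hr, pow := h.pow, fix := h.fix,
             mor := fun P f hf => ?_, aut := fun R hR hd => h.aut R hR
               (hd.trans (Subgroup.card_dvd_of_le
                 (autGroup_le_of_mor (fun P f hf => ((hmor P f).1 hf).1) hR))) }
    obtain ⟨hfF, f', hf', hag, hfix⟩ := (hmor P f).1 hf
    obtain ⟨g, hg, hge⟩ := h.mor _ f' hf'
    refine ⟨g, ?_, fun x hx => by rw [hge x (Subgroup.mem_sup_left hx), hag x hx]⟩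
    refine (hback _ g (mor_im_sup hUa hfF.le hUS) hg fun y hy => ?_).restrict_to (im_mono le_sup_left)
    obtain ⟨x, hx, rfl⟩ : ∃ x ∈ U, ext a x = y := by
      haveI := finite_of_le hUS
      have hinj : Function.Injective (fun x : U => (⟨ext a x, hUa x x.2⟩ : U)) := fun x y e =>
        Subtype.ext (ext_inj a (hUS x.2) (hUS y.2) (congrArg Subtype.val e))
      obtain ⟨x, hx⟩ := Finite.injective_iff_surjective.1 hinj ⟨y, hy⟩
      exact ⟨x, x.2, congrArg Subtype.val hx⟩
    rw [hge x (Subgroup.mem_sup_right hx), hfix x hx]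
  · obtain ⟨-, f', hf', hag, hfix⟩ := (hmor P f).1 hf
    exact ⟨f', hback _ f' le_sup_right hf' hfix, hag, hfix⟩

end Cfsg.Agent.FusionFpf20
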