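import Cfsg.Agent.Lib.FusionSysNormal
import Cfsg.Agent.Lib.FusionWeakAlperin
import Cfsg.Agent.Lib.FusionMorph88

/-!
Setup for: a saturated fusion system with a fixed-point-free automorphism of prime order prime to all
automizers has its Sylow group normal (S5277).
-/

set_option autoImplicit false

namespace Cfsg.Agent.FusionFpf20

open Cfsg Cfsg.FusionSystem Cfsg.Agent.FusionSysBasic Cfsg.Agent.FusionMorph88

universe u

variable {Ω : Type u} [Group Ω] {S : Subgroup Ω}

/-- An automorphism of `S` as a map on `Ω`. -/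
noncomputable abbrev ext (a : MulAut S) : Ω → Ω := app (S.subtype.comp a.toMonoidHom)

theorem ext_apply (a : MulAut S) {x : Ω} (hx : x ∈ S) : ext a x = (a ⟨x, hx⟩ : Ω) :=
  app_apply (S.subtype.comp a.toMonoidHom) hx

theorem ext_mem (a : MulAut S) {x : Ω} (hx : x ∈ S) : ext a x ∈ S := by
  rw [ext_apply a hx]; exact (a ⟨x, hx⟩).2

/-- The hypotheses. -/
structure Hyp (p r : ℕ) (F : FusionSystem S) (a : MulAut S) : Prop where
  hS : IsPGroup p S
  hF : F.IsSaturated p
  hp2 : p ≠ 2
  hr : r.Prime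
  pow : a ^ r = 1
  fix : ∀ x : S, a x = x → x = 1
  mor : ∀ (P : Subgroup Ω) (f : Ω → Ω), Mor F P f →
    ∃ g, Mor F (im P (ext a)) g ∧ ∀ x ∈ P, g (ext a x) = ext a (f x)
  aut : ∀ R : Subgroup Ω, R ≤ S → ¬ r ∣ Nat.card (F.autGroup R)

/-- The induction hypothesis: systems over groups of order less than `m` have their group normal. -/
def IH (p r m : ℕ) : Prop :=
  ∀ (Ω' : Type u) [Group Ω'] (S' : Subgroup Ω') [Finite S'] (F' : FusionSystem S') (a' : MulAut S'),
    Hyp p r F' a' → Nat.card S' < m → F'.IsNormal S'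

/-- A subgroup invariant under `a`. -/
def AInv (a : MulAut S) (Q : Subgroup Ω) : Prop := ∀ x ∈ Q, ext a x ∈ Q

end Cfsg.Agent.FusionFpf20
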