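import Cfsg.Agent.Lib.FusionQd
import Cfsg.Agent.Lib.FusionNilTools
import Cfsg.Prelude.Def_FusionReduction

/-!
`Qd(p)`-free fusion systems, phrased through automisers: no finite group acting on a normal
self-centralizing `p`-subgroup as automorphisms of the system involves `Qd(p)`. The property passes to
subsystems and quotients.
-/

set_option autoImplicit false

universe u v w

namespace Cfsg.Agent.FusionFree

open Cfsg Cfsg.FusionSystem Cfsg.Agent.FusionSysBasic Cfsg.Agent.FusionSysSaturated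
  Cfsg.Agent.FusionSysNormal Cfsg.Agent.FusionNilReduction

variable {p : ℕ} [Fact p.Prime] {Ω : Type u} [Group Ω] {S : Subgroup Ω}
  {F : FusionSystem S}

theorem involves_congr_left {X : Type v} [Group X] {X' : Type w} [Group X'] {G : Type u} [Group G]
    (e : X ≃* X') (h : Cfsg.Involves X G) : Cfsg.Involves X' G := by
  obtain ⟨K, R, hR, ⟨f⟩⟩ := h
  exact ⟨K, R, hR, ⟨f.trans e⟩⟩

/-- No group with a normal self-centralizing `p`-subgroup acting as automorphisms of `F` involves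
`Qd(p)`. -/
def AutFree (p : ℕ) [Fact p.Prime] (F : FusionSystem S) : Prop :=
  ∀ P : Subgroup Ω, P ≤ S → ∀ (G : Type u) [Group G] [Finite G] (Q : Subgroup G) [Q.Normal],
    IsPGroup p Q → Subgroup.centralizer (Q : Set G) ≤ Q → ∀ θ : Q →* Ω, Function.Injective θ →
      θ.range = P →
        (∀ g : G, ∃ α ∈ F.autGroup P, ∀ q : Q,
          afun α (θ q) = θ ⟨g * q * g⁻¹, (inferInstance : Q.Normal).conj_mem _ q.2 g⟩) →
          ¬ Cfsg.Involves ↥(Cfsg.qd p) G

theorem autFree_sub {T : Subgroup Ω} {E : FusionSystem T} (hTS : T ≤ S) (hE : E.IsSubsystemOf F)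
    (h : AutFree p F) : AutFree p E := fun P hP G _ _ Q _ hQ hC θ hθ hr hact =>
  h P (hP.trans hTS) G Q hQ hC θ hθ hr fun g =>
    (hact g).imp fun _ ⟨hα, e⟩ => ⟨autGroup_le hE P hα, e⟩

variable [Finite S]

/-- Every subgroup maps into a fully normalized centric subgroup to which its automorphisms extend. -/
theorem exists_host (hS : IsPGroup p S) (hF : F.IsSaturated p) {P : Subgroup Ω} (hP : P ≤ S) :
    ∃ (R : Subgroup Ω) (f : Ω → Ω), F.IsFullyNormalized R ∧ F.IsCentric R ∧ Mor F P f ∧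
      im P f ≤ R ∧
        ∀ α ∈ F.autGroup P, ∃ β ∈ F.autGroup R, ∀ x ∈ P, afun β (f x) = f (afun α x) := by
  obtain ⟨P', hPP', hfn⟩ := exists_fullyNormalized (F := F) hP
  obtain ⟨f₀, hf₀, him₀⟩ := FusionSysBasic.isConj_iff.mp hPP'
  have hP'S : P' ≤ S := hfn.1
  have hfc := fullyCentralized_of_fullyNormalized hS hF hfn
  set R₀ := P' ⊔ centralizerIn S P' with hR₀
  have hR₀S : R₀ ≤ S := sup_le hP'S inf_le_left
  have hR₀c : F.IsCentric R₀ := by
    refine ⟨hR₀S, fun X hX => ?_⟩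
    obtain ⟨g, hg, rfl⟩ := FusionSysBasic.isConj_iff.mp hX
    have hgP := hg.restrict_to (le_sup_left : P' ≤ R₀)
    intro c hc
    obtain ⟨hcS, hcc⟩ := mem_centralizerIn.mp hc
    have hc' : c ∈ centralizerIn S (im P' g) := mem_centralizerIn.mpr
      ⟨hcS, fun y hy => hcc y (im_mono le_sup_left hy)⟩
    refine (show centralizerIn S (im P' g) ≤ im R₀ g from ?_) hc'
    have hgC := hg.restrict_to (le_sup_right : centralizerIn S P' ≤ R₀)
    have hle : im (centralizerIn S P') g ≤ centralizerIn S (im P' g) := by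
      refine im_le_iff.mpr fun x hx => mem_centralizerIn.mpr
        ⟨hg.apply_mem (Subgroup.mem_sup_right hx), fun y hy => ?_⟩
      obtain ⟨z, hz, rfl⟩ := hgP.mem_im.mp hy
      rw [← hg.map_cj (Subgroup.mem_sup_right hx) (Subgroup.mem_sup_left hz),
        (mem_centralizerIn.mp hx).2 z hz]
    haveI := finite_centralizerIn (S := S) (im P' g)
    have heq := eq_of_le_of_card_ge inf_le_left hle (by
      rw [← isConj_card (F := F) (FusionSysBasic.isConj_iff.mpr ⟨g, hgC, rfl⟩)]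
      exact hfc.2 _ (FusionSysBasic.isConj_iff.mpr ⟨g, hgP, rfl⟩))
    exact heq.ge.trans (im_mono le_sup_right)
  obtain ⟨R, hR₀R, hRfn⟩ := exists_fullyNormalized (F := F) hR₀S
  obtain ⟨h, hh, himh⟩ := FusionSysBasic.isConj_iff.mp hR₀R
  have hf₀m : ∀ x ∈ P, f₀ x ∈ P' := fun x hx => him₀ ▸ apply_mem_im hx
  refine ⟨R, h ∘ f₀, hRfn, FusCentric.centric_conj hR₀c hR₀R, hf₀.comp hh
    (fun x hx => Subgroup.mem_sup_left (hf₀m x hx)),
    im_le_iff.mpr fun x hx => himh ▸ apply_mem_im (Subgroup.mem_sup_left (hf₀m x hx)), ?_⟩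
  intro α hα
  have hα' := hf₀.transport_mem him₀ hα
  obtain ⟨e, he, hag, hC⟩ := exists_extension_centralizer
    (receptive_of_fullyNormalized hS hF hfn) ((mem_autGroup hP'S).mp hα') (im_afun _)
  obtain ⟨β₀, hβ₀, hβ₀e⟩ := he.exists_aut (he.im_self fun x hx => mor_sup_induction he
    (fun a ha => Subgroup.mem_sup_left (by rw [hag a ha]; exact afun_mem _ ha))
    (fun b hb => Subgroup.mem_sup_right (hC b hb)) hx)
  refine ⟨_, hh.transport_mem himh hβ₀, fun x hx => ?_⟩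
  show afun _ (h (f₀ x)) = h (f₀ (afun α x))
  rw [hh.afun_transport himh β₀ (Subgroup.mem_sup_left (hf₀m x hx)),
    hβ₀e _ (Subgroup.mem_sup_left (hf₀m x hx)), hag _ (hf₀m x hx),
    hf₀.afun_transport him₀ α hx]

/-- Automorphisms of `R` are induced in a model of `N_F(R)`. -/
theorem exists_conj_of_aut {R : Subgroup Ω} {N : FusionSystem (normalizerIn S R)}
    (hN : F.IsNormalizerSystem R N) (hR : R ≤ S) {M : Type v} [Group M]
    {ι : ↥(normalizerIn S R) →* M} (hι : N.IsRealizedBy ι) {β : MulAut R}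
    (hβ : β ∈ F.autGroup R) :
    ∃ m : M, ∀ x ∈ R, FusionRealized87.up ι (afun β x) = cj m (FusionRealized87.up ι x) := by
  have hRT : R ≤ normalizerIn S R := le_normalizerIn hR
  have hm := (mem_autGroup hR).mp hβ
  obtain ⟨-, -, g, hg⟩ := (FusionRealized87.mor_iff hι).1 ((mor_normalizerSystem_iff hN).mpr
    ⟨hm, hRT, fun x hx => hRT (afun_mem β hx), afun β, by rwa [sup_idem], fun _ _ => rfl,
      im_afun β⟩)
  exact ⟨g, hg⟩

/-- Conjugation in a model on a normal subgroup comes from the system. -/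
theorem exists_aut_of_conj {M : Type v} [Group M] {ι : S →* M} (hM : F.IsModel p M ι)
    {R : Subgroup Ω} (hR : F.IsNormal R) (m : M) :
    ∃ β ∈ F.autGroup R, ∀ x ∈ R,
      FusionRealized87.up ι (afun β x) = cj m (FusionRealized87.up ι x) := by
  have hι := hM.2.1
  have hRS := normal_le hR
  have hin : ∀ x ∈ R, ∃ y ∈ R, y ∈ S ∧
      cj m (FusionRealized87.up ι x) = FusionRealized87.up ι y := fun x hx => by
    obtain ⟨r', hr', e⟩ := FusionSysModel.model_conj hM hR m ⟨x, hRS hx⟩ hx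
    exact ⟨r', hr', r'.2, by rw [FusionRealized87.up_apply ι (hRS hx),
      FusionRealized87.up_apply ι r'.2]; exact e⟩
  have hr : ∀ x ∈ R, cj m (FusionRealized87.up ι x) ∈ ι.range := fun x hx => by
    obtain ⟨y, -, hy, e⟩ := hin x hx
    exact e ▸ FusionRealized87.up_mem_range ι hy
  have hm := FusionRealized87.mor_of_conj hι hRS hr
  obtain ⟨β, hβ, hβe⟩ := hm.exists_aut (hm.im_self fun x hx => by
    obtain ⟨y, hy, hyS, e⟩ := hin x hx
    show FusionRealized87.down ι (cj m (FusionRealized87.up ι x)) ∈ R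
    rw [e, FusionRealized87.down_up hι hyS]
    exact hy)
  exact ⟨β, hβ, fun x hx => by rw [hβe x hx]; exact FusionRealized87.up_down ι (hr x hx)⟩

/-- A model of a constrained `Qd(p)`-free system is `Qd(p)`-free. -/
theorem not_involves_model (hS : IsPGroup p S) (hF : F.IsConstrained p) (h : AutFree p F)
    {L : Type u} [Group L] {ι : S →* L} (hM : F.IsModel p L ι) :
    ¬ Cfsg.Involves ↥(Cfsg.qd p) L := by
  obtain ⟨hFs, R, hRn, hRc⟩ := hF
  haveI := hM.1
  have hι := hM.2.1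
  have hRS := normal_le hRn
  have hC := FusionModelTools.model_centralizer_le hS hFs hM hRn hRc
  haveI hn : ((R.subgroupOf S).map ι).Normal := ⟨fun z hz g => by
    obtain ⟨r, hr, rfl⟩ := hz
    obtain ⟨r', hr', e⟩ := FusionSysModel.model_conj hM hRn g r hr
    exact ⟨r', hr', e.symm⟩⟩
  let e := MonoidHom.ofInjective hι.1
  let θ : ↥((R.subgroupOf S).map ι) →* Ω :=
    S.subtype.comp (e.symm.toMonoidHom.comp (Subgroup.inclusion (Subgroup.map_le_range ι _)))
  have hθι : ∀ (r : S) (z : ↥((R.subgroupOf S).map ι)), (z : L) = ι r → θ z = r := fun r z hz =>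
    congrArg Subtype.val (e.symm_apply_eq.mpr (Subtype.ext hz) : e.symm _ = r)
  refine h R hRS L _ ((hS.to_subgroup (R.subgroupOf S)).map ι) hC θ (fun a b hab => ?_) ?_
    fun g => ?_
  · obtain ⟨r, hr, ha⟩ := a.2
    obtain ⟨r', hr', hb⟩ := b.2
    rw [hθι r a ha.symm, hθι r' b hb.symm] at hab
    exact Subtype.ext (ha.symm.trans ((congrArg ι (Subtype.ext hab)).trans hb))
  · refine le_antisymm ?_ fun x hx =>
      ⟨⟨ι ⟨x, hRS hx⟩, ⟨x, hRS hx⟩, hx, rfl⟩, hθι ⟨x, hRS hx⟩ _ rfl⟩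
    rintro _ ⟨z, rfl⟩
    obtain ⟨r, hr, hz⟩ := z.2
    rw [hθι r z hz.symm]
    exact hr
  · obtain ⟨β, hβ, hβe⟩ := exists_aut_of_conj hM hRn g
    refine ⟨β, hβ, fun z => ?_⟩
    obtain ⟨r, hr', hz⟩ := z.2
    have hr : (r : Ω) ∈ R := hr'
    have e1 := hβe _ hr
    change FusionRealized87.up ι (afun β (r : Ω)) = cj g (FusionRealized87.up ι (r : Ω)) at e1
    rw [FusionRealized87.up_apply ι (hRS (afun_mem β hr)), FusionRealized87.up_apply ι r.2] at e1
    rw [hθι r z hz.symm]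
    refine (hθι ⟨afun β r, hRS (afun_mem β hr)⟩ _ ?_).symm
    show g * (z : L) * g⁻¹ = _
    rw [← hz]
    exact e1.symm

theorem autFree_of_sectionFree (hS : IsPGroup p S) (hF : F.IsSaturated p) {H : Type v} [Group H]
    (e : Nonempty (↥(Cfsg.qd p) ≃* H)) (h : F.IsSectionFree p H) : AutFree p F := by
  intro P hP G _ _ Q _ hQ hC θ hθ hr hact hinv
  obtain ⟨R, f, hRfn, hRc, hf, hfR, hext⟩ := exists_host hS hF hP
  haveI := finite_normalizerIn (S := S) R
  have hN := isNormalizerSystem_normalizerSystem (F := F) R hRfn.1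
  obtain ⟨hNs, R₁, hR₁, hR₁c⟩ := FusionModelTools.constrained_normalizerSystem hS hF hRfn hRc hN
  have hh : FusionSysModel.Hyp p (normalizerSystem F R hRfn.1) R₁ :=
    ⟨hS.to_le inf_le_left, hNs, hR₁, hR₁c⟩
  haveI := FusionSysModel.k0_normal hh
  have hM := FusionSysModel.isModel hh
  set ι := FusionSysModel.iota hh
  haveI := hM.1
  have hRT : R ≤ normalizerIn S R := le_normalizerIn hRfn.1
  have hθP : ∀ q, θ q ∈ P := fun q => hr ▸ ⟨q, rfl⟩
  have hfθ : ∀ q, f (θ q) ∈ normalizerIn S R := fun q => hRT (hfR (apply_mem_im (hθP q)))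
  let θ' : Q →* FusionSysModel.Model hh :=
    MonoidHom.mk' (fun q => ι ⟨f (θ q), hfθ q⟩) fun a b => by
      rw [← map_mul]
      exact congrArg ι (Subtype.ext (by
        show f (θ (a * b)) = f (θ a) * f (θ b)
        rw [map_mul, hf.map_mul (hθP a) (hθP b)]))
  refine h R hRfn hRc _ hN (FusionSysModel.Model hh) ι hM (involves_congr_left e.some
    (FusionQd.involves_transfer hQ hC θ' (fun a b hab => hθ ?_) (fun g => ?_) hinv))
  · exact hf.injOn (hθP a) (hθP b) (congrArg Subtype.val (hM.2.1.1 hab))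
  · obtain ⟨α, hα, hαe⟩ := hact g
    obtain ⟨β, hβ, hβe⟩ := hext α hα
    obtain ⟨m, hm⟩ := exists_conj_of_aut hN hRfn.1 hM.2.1 hβ
    refine ⟨m, fun q => ?_⟩
    have e1 := hm _ (hfR (apply_mem_im (hθP q)))
    rw [hβe _ (hθP q), hαe q, FusionRealized87.up_apply ι (hfθ _),
      FusionRealized87.up_apply ι (hfθ q)] at e1
    exact e1

/-- `Qd(p)`-freeness passes to quotients by strongly closed subgroups. -/
theorem autFree_factor (hS : IsPGroup p S) (hF : F.IsSaturated p) (h : AutFree p F)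
    {Q₀ : Subgroup Ω} (hQ₀ : F.StronglyClosed Q₀) {Ω' : Type u} [Group Ω'] {S' : Subgroup Ω'}
    {θ₀ : S →* Ω'} {E : FusionSystem S'} (hE : F.IsFactorSystem Q₀ θ₀ E) : AutFree p E := by
  intro P' hP' G _ _ Q _ hQ hC θ hθ hr hact hinv
  set P := preimageAlong θ₀ P'
  have hPS : P ≤ S := FusionMorph88.preimageAlong_le θ₀ P'
  have hQ₀S := hQ₀.1
  have hQ₀P : Q₀ ≤ P := fun x hx => FusionMorph88.mem_preimageAlong.mpr ⟨hQ₀S hx, by
    rw [FusionMorph88.app_apply θ₀ (hQ₀S hx), (hE.2.1 ⟨x, hQ₀S hx⟩).mpr hx]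
    exact one_mem _⟩
  have hker : ∀ x ∈ P, ∀ y ∈ P,
      (FusionMorph88.app θ₀ x = FusionMorph88.app θ₀ y ↔ x⁻¹ * y ∈ Q₀) := fun x hx y hy => by
    rw [FusionMorph88.app_apply θ₀ (hPS hx), FusionMorph88.app_apply θ₀ (hPS hy),
      ← inv_mul_eq_one, ← map_inv, ← map_mul]
    exact hE.2.1 _
  obtain ⟨R, f, hRfn, hRc, hf, hfR, hext⟩ := exists_host hS hF hPS
  haveI := finite_normalizerIn (S := S) R
  have hN := isNormalizerSystem_normalizerSystem (F := F) R hRfn.1
  have hcon := FusionModelTools.constrained_normalizerSystem hS hF hRfn hRc hN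
  obtain ⟨hNs, R₁, hR₁, hR₁c⟩ := id hcon
  have hh : FusionSysModel.Hyp p (normalizerSystem F R hRfn.1) R₁ :=
    ⟨hS.to_le inf_le_left, hNs, hR₁, hR₁c⟩
  haveI := FusionSysModel.k0_normal hh
  have hM := FusionSysModel.isModel hh
  have hfree := not_involves_model (S := normalizerIn S R) (hS.to_le inf_le_left) hcon
    (autFree_sub inf_le_left (normalizerSystem_sub hN) h) hM
  set ι := FusionSysModel.iota hh
  haveI := hM.1
  have hRT : R ≤ normalizerIn S R := le_normalizerIn hRfn.1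
  have hfQ₀ : im Q₀ f = Q₀ :=
    (hf.restrict_to hQ₀P).im_self fun x hx => stronglyClosed_invariant hQ₀ hf (hQ₀P hx) hx
  have hQ₀R : Q₀ ≤ R := hfQ₀ ▸ (im_mono hQ₀P).trans hfR
  set K := (Q₀.subgroupOf (normalizerIn S R)).map ι
  have hmemK : ∀ w : normalizerIn S R, ι w ∈ K ↔ (w : Ω) ∈ Q₀ := fun w =>
    ⟨fun ⟨w', hw', e⟩ => hM.2.1.1 e ▸ hw', fun hw => ⟨w, hw, rfl⟩⟩
  haveI hK : K.Normal := ⟨fun z hz g => by
    obtain ⟨w, hw, rfl⟩ := hz
    obtain ⟨β, hβ, hβe⟩ := exists_aut_of_conj hM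
      (FusionModelTools.normal_normalizerSystem hRfn.1 hN) g
    have hmor : Mor F R (afun β) :=
      FusionCriteria.mor_of_sub inf_le_left (normalizerSystem_sub hN) ((mem_autGroup hRT).mp hβ)
    have hw' : afun β w ∈ Q₀ := stronglyClosed_invariant hQ₀ hmor (hQ₀R hw) hw
    have e1 := hβe _ (hQ₀R hw)
    change FusionRealized87.up ι (afun β (w : Ω)) = cj g (FusionRealized87.up ι (w : Ω)) at e1
    rw [FusionRealized87.up_apply ι (hRT (hQ₀R hw')), FusionRealized87.up_apply ι w.2] at e1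
    exact ⟨_, hw', e1⟩⟩
  have hθP : ∀ q, ∃ x ∈ P, FusionMorph88.app θ₀ x = θ q := fun q => by
    obtain ⟨x, hx, -, e⟩ := FusionMorph88.mem_imageAlong.mp
      ((FusionMorph88.imageAlong_preimageAlong (hE.2.2.1 ▸ hP' : P' ≤ θ₀.range)).ge
        (hr ▸ ⟨q, rfl⟩ : θ q ∈ P'))
    exact ⟨x, hx, e⟩
  choose x hx hxe using hθP
  have hfx : ∀ y ∈ P, f y ∈ normalizerIn S R := fun y hy => hRT (hfR (apply_mem_im hy))
  have hwd : ∀ y (hy : y ∈ P) z (hz : z ∈ P), FusionMorph88.app θ₀ y = FusionMorph88.app θ₀ z →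
      (QuotientGroup.mk (ι ⟨f y, hfx y hy⟩) : FusionSysModel.Model hh ⧸ K) =
        QuotientGroup.mk (ι ⟨f z, hfx z hz⟩) := by
    intro y hy z hz e
    refine QuotientGroup.eq.mpr ?_
    rw [← map_inv, ← map_mul, hmemK]
    show (f y)⁻¹ * f z ∈ Q₀
    rw [← hf.map_inv hy, ← hf.map_mul (inv_mem hy) hz]
    exact stronglyClosed_invariant hQ₀ hf (mul_mem (inv_mem hy) hz) ((hker y hy z hz).mp e)
  let θ' : Q →* FusionSysModel.Model hh ⧸ K :=
    MonoidHom.mk' (fun q => QuotientGroup.mk (ι ⟨f (x q), hfx _ (hx q)⟩)) fun a b => by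
      rw [hwd _ (hx (a * b)) _ (mul_mem (hx a) (hx b)) (by
        rw [hxe, map_mul, ← hxe a, ← hxe b, FusionMorph88.app_apply θ₀ (hPS (hx a)),
          FusionMorph88.app_apply θ₀ (hPS (hx b)), ← map_mul]
        exact (FusionMorph88.app_apply θ₀ (mul_mem (hPS (hx a)) (hPS (hx b)))).symm),
        ← QuotientGroup.mk_mul, ← map_mul]
      exact congrArg _ (congrArg ι (Subtype.ext (hf.map_mul (hx a) (hx b))))
  refine hfree (FusionQd.involves_of_surjective (QuotientGroup.mk'_surjective K)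
    (FusionQd.involves_transfer hQ hC θ' (fun a b hab => hθ ?_) (fun g => ?_) hinv))
  · have h1 := QuotientGroup.eq.mp hab
    rw [← map_inv, ← map_mul, hmemK] at h1
    change (f (x a))⁻¹ * f (x b) ∈ Q₀ at h1
    rw [← hf.map_inv (hx a), ← hf.map_mul (inv_mem (hx a)) (hx b)] at h1
    obtain ⟨w, hw, hwe⟩ := (hf.restrict_to hQ₀P).mem_im.mp (hfQ₀.symm ▸ h1)
    rw [hf.injOn (hQ₀P hw) (mul_mem (inv_mem (hx a)) (hx b)) hwe] at hw
    rw [← hxe a, ← hxe b]
    exact (hker _ (hx a) _ (hx b)).mpr hw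
  · obtain ⟨α, hα, hαe⟩ := hact g
    obtain ⟨γ, hγ, hγe⟩ := FusionNilTools.exists_lift_aut hE hP' hα
    obtain ⟨β, hβ, hβe⟩ := hext γ hγ
    obtain ⟨m, hm⟩ := exists_conj_of_aut hN hRfn.1 hM.2.1 hβ
    refine ⟨QuotientGroup.mk m, fun q => ?_⟩
    have e1 := hm _ (hfR (apply_mem_im (hx q)))
    rw [hβe _ (hx q), FusionRealized87.up_apply ι (hfx _ (afun_mem γ (hx q))),
      FusionRealized87.up_apply ι (hfx _ (hx q))] at e1
    show (QuotientGroup.mk (ι ⟨_, _⟩) : FusionSysModel.Model hh ⧸ K) = _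
    rw [hwd _ (hx _) _ (afun_mem γ (hx q)) (by rw [hxe, ← hγe _ (hx q), hxe q, hαe q])]
    exact congrArg (QuotientGroup.mk : _ → FusionSysModel.Model hh ⧸ K) e1

/-- `Qd(p)`-freeness passes to quotients. -/
theorem autFree_quotient (hS : IsPGroup p S) (hF : F.IsSaturated p) (h : AutFree p F)
    {Q₀ : Subgroup Ω} (hQ₀ : F.IsNormal Q₀) {Ω' : Type u} [Group Ω'] {S' : Subgroup Ω'}
    {θ₀ : S →* Ω'} {E : FusionSystem S'} (hE : F.IsFactorSystem Q₀ θ₀ E) : AutFree p E :=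
  autFree_factor hS hF h (stronglyClosed_of_normal hQ₀) hE

end Cfsg.Agent.FusionFree
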