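import Cfsg.Agent.Lib.FusionNilReduction
import Cfsg.Agent.Lib.FusionInduct88

/-!
# Control by a functor: the local part of the induction

For a positive characteristic functor `W` and a property of maps `Φ`: if control by `W` is known in the
smaller systems then the maps of the normalizer systems of non-normal subgroups have the property.
-/

set_option autoImplicit false

universe u

namespace Cfsg.Agent.FusionFunctorLocal

open Cfsg Cfsg.FusionSystem Cfsg.Agent.FusionSysBasic Cfsg.Agent.FusionSysSaturated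
  Cfsg.Agent.FusionSysNormal Cfsg.Agent.FusionNilReduction Cfsg.Agent.FusionInduct88

/-- A positive characteristic `p`-functor. -/
structure Fn (p : ℕ) (W : ∀ (Q : Type u) [Group Q], Subgroup Q) : Prop where
  ne_bot : ∀ (Q : Type u) [Group Q] [Finite Q], IsPGroup p Q → Nontrivial Q → W Q ≠ ⊥
  nat : ∀ (Q R : Type u) [Group Q] [Group R] [Finite Q], IsPGroup p Q →
    ∀ φ : Q ≃* R, (W Q).map φ.toMonoidHom = W R

variable {W : ∀ (Q : Type u) [Group Q], Subgroup Q} {p : ℕ} {Ω : Type u} [Group Ω]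

/-- The value of the functor at a subgroup. -/
def Ws (W : ∀ (Q : Type u) [Group Q], Subgroup Q) (T : Subgroup Ω) : Subgroup Ω :=
  (W ↥T).map T.subtype

theorem Ws_le (T : Subgroup Ω) : Ws W T ≤ T := Subgroup.map_subtype_le _

variable (hW : Fn p W)
include hW

theorem Ws_ne_bot {T : Subgroup Ω} [Finite T] (hT : IsPGroup p T) (h : T ≠ ⊥) : Ws W T ≠ ⊥ := by
  rw [Ws, ne_eq, Subgroup.map_eq_bot_iff_of_injective _ T.subtype_injective]
  exact hW.ne_bot _ hT ((Subgroup.nontrivial_iff_ne_bot T).mpr h)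

theorem Ws_characteristic {T : Subgroup Ω} [Finite T] (hT : IsPGroup p T) :
    ((Ws W T).subgroupOf T).Characteristic := by
  have e : (Ws W T).subgroupOf T = W ↥T :=
    Subgroup.comap_map_eq_self_of_injective T.subtype_injective _
  rw [e]
  exact Subgroup.characteristic_iff_map_eq.mpr fun φ => hW.nat _ _ hT φ

theorem cj_mem_Ws {T : Subgroup Ω} [Finite T] (hT : IsPGroup p T) {g : Ω}
    (hg : g ∈ Subgroup.normalizer (T : Set Ω)) {x : Ω} (hx : x ∈ Ws W T) : cj g x ∈ Ws W T := by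
  obtain ⟨w, hw, rfl⟩ := hx
  let φ : ↥T ≃* ↥T := ((MulAut.conj g).subgroupMap T).trans
    (MulEquiv.subgroupCongr ((im_cj T g).symm.trans (mem_normalizer_iff_im_cj.mp hg)))
  refine ⟨φ w, ?_, rfl⟩
  rw [SetLike.mem_coe, ← hW.nat _ _ hT φ]
  exact ⟨w, hw, rfl⟩

omit hW

variable {S : Subgroup Ω} [Finite S] {F : FusionSystem S} [Fact p.Prime]

/-- All maps preserving `U` have the property. -/
def OnNormalizer (F : FusionSystem S) (U : Subgroup Ω) (Φ : Subgroup Ω → (Ω → Ω) → Prop) : Prop :=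
  ∀ P f, Mor F P f → P ≤ normalizerIn S U → (∀ x ∈ P, f x ∈ normalizerIn S U) →
    (∃ f', Mor F (P ⊔ U) f' ∧ (∀ x ∈ P, f' x = f x) ∧ im U f' = U) → Φ P f

/-- `W` controls the property `Φ` in `F`. -/
def Ctl (W : ∀ (Q : Type u) [Group Q], Subgroup Q) (F : FusionSystem S)
    (Φ : Subgroup Ω → (Ω → Ω) → Prop) : Prop :=
  OnNormalizer F (Ws W S) Φ → ∀ P f, Mor F P f → Φ P f

/-- `E` is smaller than `F`. -/
def Less {Ω' : Type u} [Group Ω'] {S' : Subgroup Ω'} [Finite S'] (E : FusionSystem S')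
    (F : FusionSystem S) : Prop :=
  Nat.card S' < Nat.card S ∨ (Nat.card S' = Nat.card S ∧ sysCard E < sysCard F)

/-- Control in all systems on subgroups of `S` smaller than `F`. -/
def CtlBelow (W : ∀ (Q : Type u) [Group Q], Subgroup Q) (p : ℕ) (F : FusionSystem S)
    (Φ : Subgroup Ω → (Ω → Ω) → Prop) : Prop :=
  ∀ {T : Subgroup Ω} [Finite T] (E : FusionSystem T), T ≤ S →
    S ⊓ Subgroup.centralizer (S : Set Ω) ≤ T → E.IsSubsystemOf F →
    IsPGroup p T → E.IsSaturated p → Less E F → Ctl W E Φ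

theorem center_le_normalizerIn {U : Subgroup Ω} (hU : U ≤ S) :
    S ⊓ Subgroup.centralizer (S : Set Ω) ≤ normalizerIn S U := fun x hx =>
  ⟨hx.1, mem_normalizer_of_cj_le hU fun y hy => by
    rw [cj_apply, ← Subgroup.mem_centralizer_iff.mp hx.2 y (hU hy), mul_inv_cancel_right]
    exact hy⟩

theorem closed_mor_restrict {Φ : Subgroup Ω → (Ω → Ω) → Prop} (hΦ : Closed F (U := S) Φ)
    {P Q : Subgroup Ω} {f : Ω → Ω} (hQ : Mor F Q f) (hPQ : P ≤ Q) (h : Φ Q f) : Φ P f := by
  have h1 := hΦ.comp (mor_cj (F := F) (hPQ.trans hQ.le) S.one_mem) hQ (hPQ.trans hQ.le) hQ.le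
    (fun x hx => by rw [cj_one]; exact hPQ hx) (hΦ.conj (hPQ.trans hQ.le) S.one_mem) h
  exact hΦ.congr h1 fun x _ => by rw [Function.comp_apply, cj_one]

/-- Restriction of a property to maps on large subgroups. -/
def Large (n : ℕ) (Φ : Subgroup Ω → (Ω → Ω) → Prop) (P : Subgroup Ω) (f : Ω → Ω) : Prop :=
  n < Nat.card P → Φ P f

theorem closed_large {Φ : Subgroup Ω → (Ω → Ω) → Prop} (hΦ : Closed F (U := S) Φ) (n : ℕ) :
    Closed F (U := S) (Large n Φ) where
  congr := fun h he hn => hΦ.congr (h hn) he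
  conj := fun hP hg _ => hΦ.conj hP hg
  comp := fun hf hg hP hQ hfQ h1 h2 hn => hΦ.comp hf hg hP hQ hfQ (h1 hn)
    (h2 (hn.trans_le (card_le_of_mor hf hQ hfQ)))
  inv := fun hf hg hP hgf h1 hn => hΦ.inv hf hg hP hgf (h1 (hf.card_im ▸ hn))

include hW

theorem onNormalizer_top {Φ : Subgroup Ω → (Ω → Ω) → Prop} (hS : IsPGroup p S)
    (hF : F.IsSaturated p) (hB : OnNormalizer F (Ws W S) Φ) (IH : CtlBelow W p F Φ)
    {U : Subgroup Ω} (hUS : U ≤ S) (hn : S ≤ Subgroup.normalizer (U : Set Ω))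
    (hnn : ¬ F.IsNormal U) : OnNormalizer F U Φ := by
  have _ := hW.nat
  have hT : normalizerIn S U = S := inf_eq_left.mpr hn
  have hfn : F.IsFullyNormalized U := FusionWeakAlperin.fullyNormalized_of_normal hUS
    fun g hg x hx => cj_mem_of_normalizer (hn hg) hx
  have hG := isNormalizerSystem_normalizerSystem (F := F) U hUS
  haveI := finite_normalizerIn (S := S) U
  obtain ⟨R, hR, hne⟩ := exists_aut_not_mem hS hF hUS hT hG hnn
  have h := IH (normalizerSystem F U hUS) inf_le_left (center_le_normalizerIn hUS) (normalizerSystem_sub hG) (hS.to_le inf_le_left)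
    (FusionSysNormalizer.normalizerSystem_saturated hS hF hfn hG)
    (Or.inr ⟨by rw [hT], sysCard_lt hT (normalizerSystem_sub hG) hR hne⟩) ?_
  · exact fun P f hf hP hfv hx => h P f ((mor_normalizerSystem_iff hG).mpr ⟨hf, hP, hfv, hx⟩)
  intro P f hf hP hfv ⟨f', hf', hag, him⟩
  rw [show Ws W (normalizerIn S U) = Ws W S by rw [hT]] at hf' hP hfv him
  refine hB P f ((mor_normalizerSystem_iff hG).mp hf).1 (hP.trans ?_)
    (fun x hx => (?_ : normalizerIn (normalizerIn S U) (Ws W S) ≤ _) (hfv x hx))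
    ⟨f', ((mor_normalizerSystem_iff hG).mp hf').1, hag, him⟩
  all_goals exact inf_le_inf_right _ inf_le_left

theorem onNormalizer_of_core_eq_bot {Φ : Subgroup Ω → (Ω → Ω) → Prop} (hΦ : Closed F (U := S) Φ)
    (hS : IsPGroup p S) (hF : F.IsSaturated p) (hB : OnNormalizer F (Ws W S) Φ)
    (IH : CtlBelow W p F Φ) (hcore : F.core = ⊥) {R : Subgroup Ω} (hR : F.IsFullyNormalized R)
    (hR1 : R ≠ ⊥) : OnNormalizer F R Φ := by
  suffices ∀ n, ∀ R : Subgroup Ω, F.IsFullyNormalized R → R ≠ ⊥ →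
      Nat.card S ≤ Nat.card (normalizerIn S R) + n → OnNormalizer F R Φ from
    this _ R hR hR1 (Nat.le_add_left _ _)
  clear! R
  intro n
  induction n using Nat.strong_induction_on with
  | _ n IHn =>
    intro R hR hR1 hcard
    have hRS : R ≤ S := hR.1
    rcases (inf_le_left : normalizerIn S R ≤ S).eq_or_lt with hT | hT
    · exact onNormalizer_top hW hS hF hB IH hRS (inf_eq_left.mp hT)
        fun hN => hR1 (eq_bot_iff.mpr (hcore ▸ le_core hN))
    set T := normalizerIn S R with hTdef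
    haveI := finite_normalizerIn (S := S) R
    have hTp : IsPGroup p T := hS.to_le hT.le
    have hTne : T ≠ ⊥ := fun e => hR1 (eq_bot_iff.mpr (e ▸ le_normalizerIn hRS))
    have hG := isNormalizerSystem_normalizerSystem (F := F) R hRS
    have hlt : Nat.card T < Nat.card S :=
      lt_of_le_of_ne (Subgroup.card_le_of_le hT.le)
        fun e => hT.ne (eq_of_le_of_card_ge le_rfl hT.le e.ge)
    have h := IH (normalizerSystem F R hRS) hT.le (center_le_normalizerIn hRS) (normalizerSystem_sub hG) hTp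
      (FusionSysNormalizer.normalizerSystem_saturated hS hF hR hG) (Or.inl hlt) ?_
    · exact fun P f hf hP hfv hx => h P f ((mor_normalizerSystem_iff hG).mpr ⟨hf, hP, hfv, hx⟩)
    -- maps preserving the functor value at `T`
    intro P g hg hP hgv ⟨g', hg', hag, him⟩
    set U₀ := Ws W T
    have hU₀T : U₀ ≤ T := Ws_le T
    have hU₀S : U₀ ≤ S := hU₀T.trans hT.le
    have hU₀ : U₀ ≠ ⊥ := Ws_ne_bot hW hTp hTne
    set D := normalizerIn S U₀ with hD
    haveI := finite_normalizerIn (S := S) U₀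
    -- `T < D`
    have hTD : Nat.card T < Nat.card D := by
      refine lt_of_lt_of_le (FusionWeakAlperin.card_lt_normalizerIn hS hT) (Subgroup.card_le_of_le ?_)
      exact le_inf inf_le_left fun x hx => mem_normalizer_of_cj_le hU₀S fun y hy =>
        cj_mem_Ws hW hTp hx.2 hy
    obtain ⟨U, hconj, hUfn⟩ := exists_fullyNormalized (F := F) hU₀S
    obtain ⟨θ, hθ, hθv, hθU⟩ := exists_map_to_fullyNormalized hS hF hUfn hconj
    have hUne : U ≠ ⊥ := fun e => hU₀ (by
      have hc := isConj_card hconj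
      haveI := finite_of_le hU₀S
      rw [e, Subgroup.card_bot] at hc
      exact Subgroup.card_eq_one.mp hc)
    have hcardU : Nat.card D ≤ Nat.card (normalizerIn S U) := hUfn.2 U₀ (isConj_symm hconj)
    -- the property for the map to `U`
    have hθΦ : Φ D θ := by
      refine (FusionInduct88.induction hS hF (closed_large hΦ (Nat.card T)) (fun R' hR' α hα hn => ?_) hθ :
        Large (Nat.card T) Φ D θ) hTD
      haveI := finite_normalizerIn (S := S) R'
      have hle : Nat.card R' ≤ Nat.card (normalizerIn S R') :=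
        Subgroup.card_le_of_le (le_normalizerIn hR'.1)
      have hR'1 : R' ≠ ⊥ := fun e => by
        rw [e, Subgroup.card_bot] at hn
        haveI : Nonempty T := ⟨1⟩
        exact absurd hn (not_lt.mpr Nat.card_pos)
      have hm := (mem_autGroup hR'.1).mp hα
      refine IHn (Nat.card S - Nat.card (normalizerIn S R')) (by omega) R' hR' hR'1 (by omega) R'
        (afun α) hm (le_normalizerIn hR'.1) (fun x hx => le_normalizerIn hR'.1 (afun_mem α hx))
        ⟨afun α, by rwa [sup_idem], fun _ _ => rfl, im_afun α⟩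
    have hU : OnNormalizer F U Φ :=
      IHn (Nat.card S - Nat.card (normalizerIn S U)) (by omega) U hUfn hUne (by omega)
    -- transport along `θ`
    set P' := P ⊔ U₀
    have hg'F : Mor F P' g' := ((mor_normalizerSystem_iff hG).mp hg').1
    have hP'T : P' ≤ T := hg'.le
    have hg'T : ∀ x ∈ P', g' x ∈ T := fun x hx => hg'.apply_mem hx
    have hTle : T ≤ D := le_inf inf_le_left fun x hx => mem_normalizer_of_cj_le hU₀S fun y hy =>
      cj_mem_Ws hW hTp (Subgroup.le_normalizer hx) hy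
    have hP'D : P' ≤ D := hP'T.trans hTle
    obtain ⟨j, hj, hjl, -, hjv⟩ := hθ.exists_inv
    have hjΦ : Φ (im D θ) j := hΦ.inv hθ hj hθ.le hjl hθΦ
    have hθP := hθ.restrict_to hP'D
    have hjP : Mor F (im P' θ) j := hj.restrict_to (im_mono hP'D)
    have h1 : Mor F (im P' θ) (g' ∘ j) := hjP.comp hg'F fun y hy => by
      obtain ⟨x, hx, rfl⟩ := hθP.mem_im.mp hy
      rw [hjl x (hP'D hx)]; exact hx
    have h1D : ∀ y ∈ im P' θ, (g' ∘ j) y ∈ D := fun y hy => by
      obtain ⟨x, hx, rfl⟩ := hθP.mem_im.mp hy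
      rw [Function.comp_apply, hjl x (hP'D hx)]
      exact hTle (hg'T x hx)
    have hh : Mor F (im P' θ) (θ ∘ (g' ∘ j)) := h1.comp hθ h1D
    have hUP' : U ≤ im P' θ := hθU ▸ im_mono le_sup_right
    have hhU : Φ (im P' θ) (θ ∘ (g' ∘ j)) := by
      refine hU _ _ hh (im_le_iff.mpr fun x hx => hθv x (hP'D hx)) (fun y hy => hθv _ (h1D y hy))
        ⟨θ ∘ (g' ∘ j), by rwa [sup_eq_left.mpr hUP'], fun _ _ => rfl, ?_⟩
      refine (hh.restrict_to hUP').im_self fun y hy => ?_
      rw [← hθU] at hy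
      obtain ⟨x, hx, rfl⟩ := (hθP.restrict_to le_sup_right).mem_im.mp hy
      rw [Function.comp_apply, Function.comp_apply, hjl x (hP'D (Subgroup.mem_sup_right hx)), ← hθU]
      exact apply_mem_im (him ▸ (hg'F.restrict_to le_sup_right).mem_im.mpr ⟨x, hx, rfl⟩)
    have h2 : Φ P' ((θ ∘ (g' ∘ j)) ∘ θ) :=
      hΦ.comp hθP hh hθP.le hh.le (fun x hx => apply_mem_im hx)
        (closed_mor_restrict hΦ hθ hP'D hθΦ) hhU
    have hcomp : Mor F P' ((θ ∘ (g' ∘ j)) ∘ θ) := hθP.comp hh fun x hx => apply_mem_im hx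
    have hval : ∀ x ∈ P', ((θ ∘ (g' ∘ j)) ∘ θ) x = θ (g' x) := fun x hx => by
      simp only [Function.comp_apply, hjl x (hP'D hx)]
    have h3 : Φ P' (j ∘ ((θ ∘ (g' ∘ j)) ∘ θ)) :=
      hΦ.comp hcomp hj hcomp.le hj.le
        (fun x hx => by rw [hval x hx]; exact apply_mem_im (hTle (hg'T x hx))) h2 hjΦ
    have h4 : Φ P' g' := hΦ.congr h3 fun x hx => by
      rw [Function.comp_apply, hval x hx, hjl _ (hTle (hg'T x hx))]
    exact hΦ.congr (closed_mor_restrict hΦ hg'F le_sup_left h4) hag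

/-- Control in a system with trivial core. -/
theorem all_of_core_eq_bot {Φ : Subgroup Ω → (Ω → Ω) → Prop} (hΦ : Closed F (U := S) Φ)
    (hS : IsPGroup p S) (hF : F.IsSaturated p) (hB : OnNormalizer F (Ws W S) Φ)
    (IH : CtlBelow W p F Φ) (hcore : F.core = ⊥) {P : Subgroup Ω} {f : Ω → Ω} (hf : Mor F P f) :
    Φ P f := by
  refine FusionInduct88.induction hS hF hΦ (fun R hR α hα => ?_) hf
  by_cases hb : R = ⊥
  · subst hb
    refine hΦ.congr (hΦ.conj bot_le S.one_mem) fun x hx => ?_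
    have hy := afun_mem α hx
    rw [Subgroup.mem_bot] at hx hy
    rw [hy, cj_one, hx]
  have hm := (mem_autGroup hR.1).mp hα
  exact onNormalizer_of_core_eq_bot hW hΦ hS hF hB IH hcore hR hb R (afun α) hm
    (le_normalizerIn hR.1) (fun x hx => le_normalizerIn hR.1 (afun_mem α hx))
    ⟨afun α, by rwa [sup_idem], fun _ _ => rfl, im_afun α⟩

omit hW

/-- Induction over smaller saturated systems. -/
theorem induction_less
    {M : ∀ {Ω : Type u} [Group Ω] {S : Subgroup Ω} [Finite S], FusionSystem S → Prop}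
    (step : ∀ {Ω : Type u} [Group Ω] {S : Subgroup Ω} [Finite S] (F : FusionSystem S),
      IsPGroup p S → F.IsSaturated p →
      (∀ {Ω' : Type u} [Group Ω'] {S' : Subgroup Ω'} [Finite S'] (E : FusionSystem S'),
        IsPGroup p S' → E.IsSaturated p → Less E F → M E) → M F)
    {Ω : Type u} [Group Ω] {S : Subgroup Ω} [Finite S] (F : FusionSystem S) (hS : IsPGroup p S)
    (hF : F.IsSaturated p) : M F := by
  suffices ∀ n m : ℕ, ∀ {Ω : Type u} [Group Ω] {S : Subgroup Ω} [Finite S] (F : FusionSystem S),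
      IsPGroup p S → F.IsSaturated p → Nat.card S = n → sysCard F = m → M F from
    this _ _ F hS hF rfl rfl
  intro n
  induction n using Nat.strong_induction_on with
  | _ n IHn =>
    intro m
    induction m using Nat.strong_induction_on with
    | _ m IHm =>
      intro Ω _ S _ F hS hF hn hm
      refine step F hS hF ?_
      intro Ω' _ S' _ E hS' hE hlt
      rcases hlt with hlt | ⟨he, hlt⟩
      · exact IHn _ (hn ▸ hlt) _ E hS' hE rfl rfl
      · exact IHm _ (hm ▸ hlt) E hS' hE (he.trans hn) rfl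

section Quotient

variable {Ω' : Type u} [Group Ω'] {S' : Subgroup Ω'} {θ : S →* Ω'} {E : FusionSystem S'}
  [Finite S']

include hW

/-- The maps controlled by `W` in a factor system by a normal subgroup lift with the property. -/
theorem exists_lift {Φ : Subgroup Ω → (Ω → Ω) → Prop} (hΦ : Closed F (U := S) Φ)
    (hS : IsPGroup p S) (hF : F.IsSaturated p) (hB : OnNormalizer F (Ws W S) Φ)
    (IH : CtlBelow W p F Φ) (hsurj : F.IsSurjectiveMorphism E θ) (hS' : IsPGroup p S')
    (hne : S' ≠ ⊥) (hker : (θ.ker).map S.subtype = F.core) :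
    ∀ P' h, Mor E P' h → P' ≤ normalizerIn S' (Ws W S') →
      (∀ x ∈ P', h x ∈ normalizerIn S' (Ws W S')) →
      (∃ h', Mor E (P' ⊔ Ws W S') h' ∧ (∀ x ∈ P', h' x = h x) ∧ im (Ws W S') h' = Ws W S') →
      ∃ f, Mor F (preimageAlong θ P') f ∧ Φ (preimageAlong θ P') f ∧
        ∀ x ∈ preimageAlong θ P', h (FusionMorph88.app θ x) = FusionMorph88.app θ (f x) := by
  intro P' h hh _ _ ⟨h', hh', hag, him⟩
  set V := Ws W S'
  set Y := preimageAlong θ V with hY
  have hrange := hsurj.2.1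
  have hYS : Y ≤ S := FusionMorph88.preimageAlong_le θ V
  obtain ⟨f, hf, hff'⟩ := FusionMorph88.surjective_mor hsurj hh'
  have hYn : S ≤ Subgroup.normalizer (Y : Set Ω) := fun g hg =>
    mem_normalizer_of_cj_le hYS fun y hy => by
      obtain ⟨hyS, hy'⟩ := FusionMorph88.mem_preimageAlong.mp hy
      refine FusionMorph88.mem_preimageAlong.mpr ⟨cj_mem_S hg hyS, ?_⟩
      rw [FusionMorph88.app_cj hg hyS]
      refine cj_mem_Ws hW hS' (Subgroup.le_normalizer ?_) hy'
      rw [FusionMorph88.app_apply θ hg, ← hrange]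
      exact ⟨_, rfl⟩
  have hYnn : ¬ F.IsNormal Y := fun hN => by
    refine Ws_ne_bot hW hS' hne (eq_bot_iff.mpr fun v hv => ?_)
    obtain ⟨⟨a, haS⟩, rfl⟩ : v ∈ θ.range := hrange.symm ▸ Ws_le S' hv
    have haY : a ∈ Y := FusionMorph88.mem_preimageAlong.mpr
      ⟨haS, by rw [FusionMorph88.app_apply θ haS]; exact hv⟩
    have h1 := le_core hN haY
    rw [← hker, FusionMorph88.mem_kerAlong, FusionMorph88.app_apply θ haS] at h1
    rw [Subgroup.mem_bot, h1.2]
  have hle : Y ≤ preimageAlong θ (P' ⊔ V) := FusionMorph88.preimageAlong_mono le_sup_right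
  have hYim : im Y f = Y := (hf.restrict_to hle).im_self fun y hy => by
    refine FusionMorph88.mem_preimageAlong.mpr ⟨hf.apply_mem (hle hy), ?_⟩
    rw [← hff' y (hle hy), ← him]
    exact apply_mem_im (FusionMorph88.mem_preimageAlong.mp hy).2
  have hSY : normalizerIn S Y = S := inf_eq_left.mpr hYn
  have hfΦ : Φ (preimageAlong θ (P' ⊔ V)) f :=
    onNormalizer_top hW hS hF hB IH hYS hYn hYnn _ f hf (hSY.symm ▸ hf.le)
      (fun x hx => hSY.symm ▸ hf.apply_mem hx)
      ⟨f, by rwa [sup_eq_left.mpr hle], fun _ _ => rfl, hYim⟩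
  have hPle : preimageAlong θ P' ≤ preimageAlong θ (P' ⊔ V) :=
    FusionMorph88.preimageAlong_mono le_sup_left
  exact ⟨f, hf.restrict_to hPle, closed_mor_restrict hΦ hf hPle hfΦ, fun x hx => by
    rw [← hag _ (FusionMorph88.mem_preimageAlong.mp hx).2, hff' x (hPle hx)]⟩

end Quotient

end Cfsg.Agent.FusionFunctorLocal
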