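import Cfsg.Agent.Lib.FusionFunctorLocal

/-!
# Weak closure of central powers controlled by a functor

If in every constrained group the `k`-th power of a central element of a Sylow subgroup fixed by the
normalizer of the functor value is central, the same holds for saturated fusion systems.
-/

set_option autoImplicit false

universe u

namespace Cfsg.Agent.FusionGlauberman

open Cfsg Cfsg.FusionSystem Cfsg.Agent.FusionSysBasic Cfsg.Agent.FusionSysSaturated
  Cfsg.Agent.FusionSysNormal Cfsg.Agent.FusionFunctorLocal Cfsg.Agent.FusionInduct88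

/-- The condition in constrained groups. -/
def Loc (p : ℕ) (W : ∀ (Q : Type u) [Group Q], Subgroup Q) (k : ℕ) : Prop :=
  ∀ (G : Type u) [Group G] [Finite G] (P : Sylow p G),
    Subgroup.centralizer ((Cfsg.pCore p G : Subgroup G) : Set G) ≤ Cfsg.pCore p G →
    ∀ w ∈ (P : Subgroup G), (∀ s ∈ (P : Subgroup G), s * w = w * s) →
      (∀ n ∈ Subgroup.normalizer
        (((W ↥(P : Subgroup G)).map (P : Subgroup G).subtype : Subgroup G) : Set G),
          n * w ^ k = w ^ k * n) → w ^ k ∈ Subgroup.center G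

/-- The element `z` is fixed. -/
def Keep {Ω : Type u} [Group Ω] (z : Ω) (P : Subgroup Ω) (f : Ω → Ω) : Prop :=
  ∀ x ∈ P, (x = z ↔ f x = z)

theorem closed_keep {Ω : Type u} [Group Ω] {S : Subgroup Ω} {F : FusionSystem S} {z : Ω}
    (hconj : ∀ g ∈ S, Keep z S (cj g)) : Closed F (U := S) (Keep z) where
  congr := fun h he x hx => he x hx ▸ h x hx
  conj := fun hP hg x hx => hconj _ hg x (hP hx)
  comp := fun _ _ _ _ hfQ h1 h2 x hx => (h1 x hx).trans (h2 _ (hfQ x hx))
  inv := fun hf _ _ hgf h1 y hy => by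
    obtain ⟨x, hx, rfl⟩ := hf.mem_im.mp hy
    rw [hgf x hx]
    exact (h1 x hx).symm

theorem keep_of_fix {Ω : Type u} [Group Ω] {S : Subgroup Ω} {F : FusionSystem S} {z : Ω}
    (h : ∀ P f, Mor F P f → z ∈ P → f z = z) {P : Subgroup Ω} {f : Ω → Ω} (hf : Mor F P f) :
    Keep z P f := by
  intro x hx
  obtain ⟨j, hj, hjl, -, -⟩ := hf.exists_inv
  refine ⟨fun e => e ▸ h P f hf (e ▸ hx), fun e => ?_⟩
  rw [← hjl x hx, e]
  exact h _ j hj (e ▸ apply_mem_im hx)

theorem apply_zpow_mem {Ω : Type u} [Group Ω] {S : Subgroup Ω} {F : FusionSystem S} {P T : Subgroup Ω}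
    {f : Ω → Ω} (hf : Mor F P f) {z : Ω} (hz : z ∈ P) (hfz : f z ∈ T) {b : Ω}
    (hb : b ∈ Subgroup.zpowers z) : f b ∈ T := by
  obtain ⟨φ, -, he⟩ := hf
  obtain ⟨j, rfl⟩ := Subgroup.mem_zpowers_iff.mp hb
  rw [← he ⟨z, hz⟩] at hfz
  rw [← he ⟨z ^ j, zpow_mem hz j⟩, show (⟨z ^ j, zpow_mem hz j⟩ : P) = ⟨z, hz⟩ ^ j from
    Subtype.ext (by simp), map_zpow]
  exact zpow_mem hfz j

variable {p : ℕ} [Fact p.Prime] {W : ∀ (Q : Type u) [Group Q], Subgroup Q}

theorem Ws_conj (hW : Fn p W) {Ω : Type u} [Group Ω] {S : Subgroup Ω} [Finite S] (hS : IsPGroup p S)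
    {F : FusionSystem S} {z : Ω} (hB : OnNormalizer F (Ws W S) (Keep z)) :
    ∀ g ∈ S, Keep z S (cj g) := by
  have hn : ∀ g ∈ S, g ∈ Subgroup.normalizer ((Ws W S : Subgroup Ω) : Set Ω) := fun g hg =>
    mem_normalizer_of_cj_le (Ws_le S) fun y hy => cj_mem_Ws hW hS (Subgroup.le_normalizer hg) hy
  intro g hg x hx
  refine hB S (cj g) (mor_cj le_rfl hg) (le_inf le_rfl hn) (fun y hy => ?_)
    ⟨cj g, mor_cj (sup_le le_rfl (Ws_le S)) hg, fun _ _ => rfl,
      mem_normalizer_iff_im_cj.mp (hn g hg)⟩ x hx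
  exact ⟨cj_mem_S hg hy, hn _ (cj_mem_S hg hy)⟩

/-- `W` controls the weak closure of the `k`-th powers of central elements. -/
def Fx (W : ∀ (Q : Type u) [Group Q], Subgroup Q) (k : ℕ) {Ω : Type u} [Group Ω] {S : Subgroup Ω}
    [Finite S] (E : FusionSystem S) : Prop :=
  ∀ w ∈ S, (∀ g ∈ S, g * w = w * g) → Ctl W E (Keep (w ^ k))

theorem step (hW : Fn p W) (hWZ : ∀ (Q : Type u) [Group Q] [Finite Q], IsPGroup p Q → Subgroup.center Q ≤ W Q)
    {k : ℕ} (hloc0 : Loc p W k)
    {Ω : Type u} [Group Ω] {S : Subgroup Ω} [Finite S] (F : FusionSystem S) (hS : IsPGroup p S)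
    (hF : F.IsSaturated p)
    (IH : ∀ {Ω' : Type u} [Group Ω'] {S' : Subgroup Ω'} [Finite S'] (E : FusionSystem S'),
      IsPGroup p S' → E.IsSaturated p → Less E F → Fx W k E) : Fx W k F := by
  classical
  intro w hwS hwc hB
  set z := w ^ k with hzdef
  have hconj := Ws_conj hW hS hB
  have hΦ : Closed F (U := S) (Keep z) := closed_keep hconj
  have hbelow : CtlBelow W p F (Keep z) := fun {T} _ E hTS hZT _ hT hE hlt =>
    IH E hT hE hlt w (hZT ⟨hwS, Subgroup.mem_centralizer_iff.mpr hwc⟩) fun g hg => hwc g (hTS hg)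
  by_cases hcore : F.core = ⊥
  · exact fun P f hf => all_of_core_eq_bot hW hΦ hS hF hB hbelow hcore hf
  have hzS : z ∈ S := S.pow_mem hwS k
  have hzc : ∀ g ∈ S, cj g z = z := fun g hg => (hconj g hg z hzS).mp rfl
  have hzcomm : ∀ g ∈ S, g * z = z * g := fun g hg => by
    have := hzc g hg
    rw [cj_apply, mul_inv_eq_iff_eq_mul] at this
    exact this
  have hQn : F.IsNormal F.core := core_isNormal
  set Q := F.core with hQdef
  have hQS : Q ≤ S := normal_le hQn
  have hSQ : S ≤ Subgroup.normalizer (Q : Set Ω) := le_normalizer_of_normal hQn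
  have hfn : F.IsFullyNormalized Q := FusionWeakAlperin.fullyNormalized_of_normal hQS
    fun g hg x hx => cj_mem_of_normalizer (hSQ hg) hx
  set U := Ws W S with hU
  have hnU : ∀ g ∈ S, g ∈ Subgroup.normalizer (U : Set Ω) := fun g hg =>
    mem_normalizer_of_cj_le (Ws_le S) fun y hy => cj_mem_Ws hW hS (Subgroup.le_normalizer hg) hy
  -- the case `Q = S`
  by_cases hQS' : Q = S
  · have hUn : F.IsNormal U :=
      normal_of_characteristic hQn (hQS'.symm ▸ Ws_le S) (by rw [hQS']; exact Ws_characteristic hW hS)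
    intro P f hf
    exact hB P f hf (le_inf hf.le fun x hx => hnU x (hf.le hx))
      (fun x hx => ⟨hf.apply_mem hx, hnU _ (hf.apply_mem hx)⟩) ((isNormal_iff.mp hUn).2 P f hf)
  suffices ∀ P f, Mor F P f → z ∈ P → f z = z from fun P f hf => keep_of_fix this hf
  have hzC : z ∈ centralizerIn S Q := mem_centralizerIn.mpr ⟨hzS, fun y hy => by
    rw [cj_apply, ← hzcomm y (hQS hy), mul_inv_cancel_right]⟩
  intro P f hf hzP
  by_cases hQc : F.IsCentric Q
  · have hwQ : w ∈ Q := hQc.2 Q (FusionSysBasic.isConj_refl hQS) (mem_centralizerIn.mpr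
      ⟨hwS, fun y hy => by rw [cj_apply, ← hwc y (hQS hy), mul_inv_cancel_right]⟩)
    have h : FusionSysModel.Hyp p F Q := ⟨hS, hF, hQn, hQc⟩
    haveI := FusionSysModel.k0_normal h
    obtain ⟨hfin, hι, ⟨T, hTr⟩, hCG⟩ := FusionSysModel.isModel h
    haveI := hfin
    set G := FusionSysModel.Model h
    set ι : S →* G := FusionSysModel.iota h
    have hQnm : ((Q.subgroupOf S).map ι).Normal := by
      constructor
      rintro _ ⟨q, hq, rfl⟩ y
      rw [FusionSysModel.conj_iota_Q h y hq]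
      exact ⟨⟨afun (FusionSysModel.modelFst h y : MulAut Q) q, h.le (afun_mem _ hq)⟩, Subgroup.mem_subgroupOf.mpr (afun_mem _ (Subgroup.mem_subgroupOf.mp hq)), rfl⟩
    have hQp : (Q.subgroupOf S).map ι ≤ Cfsg.pCore p G :=
      HallCore.le_pCore ((hS.to_subgroup _).map _)
    have hWzU : z ∈ U := by
      have hc : (⟨w, hwS⟩ : S) ∈ Subgroup.center ↥S :=
        Subgroup.mem_center_iff.mpr fun g => Subtype.ext (hwc g g.2)
      exact ⟨⟨w, hwS⟩ ^ k, Subgroup.pow_mem _ (hWZ ↥S hS hc) k, by simp [hzdef]⟩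
    set NU := Subgroup.normalizer
      (((W ↥(T : Subgroup G)).map (T : Subgroup G).subtype : Subgroup G) : Set G)
    -- the functor value in the model
    let e : ↥S ≃* ↥(T : Subgroup G) :=
      (MonoidHom.ofInjective hι.1).trans (MulEquiv.subgroupCongr hTr.symm)
    have he : ∀ s : S, ((e s : ↥(T : Subgroup G)) : G) = ι s := fun s => rfl
    have hWe : ∀ y : G, y ∈ (W ↥(T : Subgroup G)).map (T : Subgroup G).subtype ↔
        ∃ w : S, (w : Ω) ∈ U ∧ ι w = y := by
      intro y
      rw [← hW.nat _ _ hS e, Subgroup.map_map]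
      constructor
      · rintro ⟨w, hw, rfl⟩
        exact ⟨w, ⟨w, hw, rfl⟩, he w⟩
      · rintro ⟨w, ⟨w', hw', hwe⟩, rfl⟩
        obtain rfl : w' = w := Subtype.ext hwe
        exact ⟨_, hw', he _⟩
    have hTN : (T : Subgroup G) ≤ NU := by
      intro t ht
      obtain ⟨s, rfl⟩ : t ∈ ι.range := hTr ▸ ht
      refine Subgroup.mem_normalizer_fintype ?_
      intro y hy
      obtain ⟨w, hw, rfl⟩ := (hWe y).mp hy
      refine (hWe _).mpr ⟨s * w * s⁻¹, ?_, by simp⟩
      exact cj_mem_of_normalizer (hnU s s.2) hw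
    have hcen := hloc0 G T hCG (ι ⟨w, hwS⟩) (hTr ▸ ⟨_, rfl⟩) ?_ ?_
    rotate_left
    · intro s hs
      obtain ⟨s', rfl⟩ : s ∈ ι.range := hTr ▸ hs
      rw [← map_mul, ← map_mul]
      exact congrArg ι (Subtype.ext (hwc s' s'.2))
    · intro n hn
      rw [← map_pow, show (⟨w, hwS⟩ : S) ^ k = ⟨z, hzS⟩ from Subtype.ext (by simp [hzdef])]
      have hrange : ∀ y ∈ U, ∃ v : S, (v : Ω) ∈ U ∧ cj n (FusionRealized87.up ι y) = ι v := by
        intro y hy
        rw [FusionRealized87.up_apply ι (Ws_le S hy)]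
        obtain ⟨v, hv, hve⟩ := (hWe _).mp ((Subgroup.mem_normalizer_iff.mp hn _).mp
          ((hWe _).mpr ⟨⟨y, Ws_le S hy⟩, hy, rfl⟩))
        exact ⟨v, hv, hve.symm⟩
      have hm := FusionRealized87.mor_of_conj hι (Ws_le S) fun y hy =>
        (hrange y hy).elim fun v hv => ⟨v, hv.2.symm⟩
      have hfix := (hB U _ hm (le_inf (Ws_le S) fun y hy => hnU y (Ws_le S hy))
        (fun y hy => ⟨hm.apply_mem hy, hnU _ (hm.apply_mem hy)⟩)
        ⟨fun y => FusionRealized87.down ι (cj n (FusionRealized87.up ι y)),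
          by rwa [sup_idem], fun _ _ => rfl, hm.im_self fun y hy => by
            obtain ⟨v, hv, hve⟩ := hrange y hy
            rw [hve, ← FusionRealized87.up_apply ι v.2, FusionRealized87.down_up hι v.2]
            exact hv⟩ z hWzU).mp rfl
      obtain ⟨v, -, hve⟩ := hrange z hWzU
      simp only [hve, ← FusionRealized87.up_apply ι v.2, FusionRealized87.down_up hι v.2] at hfix
      obtain rfl : v = ⟨z, hzS⟩ := Subtype.ext hfix
      rw [FusionRealized87.up_apply ι hzS, cj_apply, mul_inv_eq_iff_eq_mul] at hve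
      exact hve
    rw [← map_pow, show (⟨w, hwS⟩ : S) ^ k = ⟨z, hzS⟩ from Subtype.ext (by simp [hzdef])] at hcen
    obtain ⟨-, hfS, g, hg⟩ := (FusionRealized87.mor_iff hι).mp hf
    refine FusionRealized87.up_inj hι (hfS z hzP) hzS ?_
    rw [hg z hzP, FusionRealized87.up_apply ι hzS, cj_apply,
      Subgroup.mem_center_iff.mp hcen g, mul_inv_cancel_right]
  · -- maps of `N_F(Q C_S(Q))` fix `z`
    set X := Q ⊔ centralizerIn S Q with hX
    have hXS : X ≤ S := sup_le hQS inf_le_left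
    have hQX : Q < X := by
      refine lt_of_le_of_ne le_sup_left fun e => hQc ⟨hQS, fun Q' hQ' => ?_⟩
      obtain ⟨f, hf, rfl⟩ := FusionSysBasic.isConj_iff.mp hQ'
      rw [hf.im_self fun x hx => normal_invariant hQn hf hx hx]
      exact le_sup_right.trans e.ge
    have hSX : S ≤ Subgroup.normalizer (X : Set Ω) := by
      intro g hg
      refine mem_normalizer_of_cj_le hXS fun x hx => ?_
      refine mor_sup_induction (mor_cj (F := F) hXS hg) (fun a ha => Subgroup.mem_sup_left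
        (cj_mem_of_normalizer (hSQ hg) ha)) (fun c hc => Subgroup.mem_sup_right ?_) hx
      obtain ⟨hcS, hcc⟩ := mem_centralizerIn.mp hc
      refine mem_centralizerIn.mpr ⟨cj_mem_S hg hcS, fun y hy => ?_⟩
      have e := hcc (cj g⁻¹ y) (cj_mem_of_normalizer (hSQ (S.inv_mem hg)) hy)
      have := congrArg (cj g) e
      simp only [cj_apply] at this ⊢
      simpa [mul_assoc] using this
    have hloc := onNormalizer_top hW hS hF hB hbelow hXS hSX fun hN => hQX.not_ge (le_core hN)
    have hSXe : normalizerIn S X = S := inf_eq_left.mpr hSX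
  -- modulo `Q`
    -- the quotient by `Q`
    have hQlt : Q < S := lt_of_le_of_ne hQS hQS'
    haveI hQnS : (Q.subgroupOf S).Normal :=
      ⟨fun q hq g => show cj (g : Ω) (q : Ω) ∈ Q from cj_mem_of_normalizer (hSQ g.2) hq⟩
    set θ := QuotientGroup.mk' (Q.subgroupOf S)
    set S' : Subgroup (↥S ⧸ Q.subgroupOf S) := ⊤ with hS'def
    obtain ⟨E, hE⟩ := S5132.result p hS F Q (stronglyClosed_of_normal hQn)
    have hsurj := S5134.result p hS F hF Q (stronglyClosed_of_normal hQn) _ E hE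
    have hEsat := FusionMorph88.saturated_of_surjective hS hF hsurj
    have hS'p : IsPGroup p S' := (hS.to_quotient _).of_equiv Subgroup.topEquiv.symm
    have hsmall : Nat.card S' < Nat.card S := by
      rw [hS'def, Subgroup.card_top,
        Subgroup.card_eq_card_quotient_mul_card_subgroup (Q.subgroupOf S)]
      refine lt_mul_of_one_lt_right Nat.card_pos ?_
      rw [Nat.card_congr (Subgroup.subgroupOfEquivOfLe hQS).toEquiv]
      haveI := finite_of_le hQS
      exact (Subgroup.one_lt_card_iff_ne_bot Q).mpr hcore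
    have hker : (θ.ker).map S.subtype = F.core := (FusionMorph88.factor_stronglyClosed hE).symm
    have hS'ne : S' ≠ ⊥ := by
      intro e
      refine hQlt.not_ge fun s hs => ?_
      have h1 : θ ⟨s, hs⟩ ∈ S' := Subgroup.mem_top _
      rw [e, Subgroup.mem_bot] at h1
      exact (QuotientGroup.eq_one_iff (N := Q.subgroupOf S) _).mp h1
    have hlift := exists_lift hW hΦ hS hF hB hbelow hsurj hS'p hS'ne hker
    have hmod : f z * z⁻¹ ∈ Q := by
      obtain ⟨f', hf', he⟩ := FusionMorph88.morphism_mor hsurj.1 hf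
      have hpow : FusionMorph88.app θ z = FusionMorph88.app θ w ^ k := by
        rw [FusionMorph88.app_apply θ hzS, FusionMorph88.app_apply θ hwS, ← map_pow]
        exact congrArg θ (Subtype.ext (by simp [hzdef]))
      have hctl := IH E hS'p hEsat (Or.inl hsmall) (FusionMorph88.app θ w) (Subgroup.mem_top _)
        (fun g _ => by
          obtain ⟨⟨a, ha⟩, rfl⟩ := QuotientGroup.mk'_surjective (Q.subgroupOf S) g
          rw [FusionMorph88.app_apply θ hwS, ← map_mul, ← map_mul]
          exact congrArg θ (Subtype.ext (hwc a ha))) ?_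
      · rw [← hpow] at hctl
        have h1 := (hctl _ f' hf' _ (FusionMorph88.app_mem_imageAlong hzP hf.le)).mp rfl
        rw [he z hzP] at h1
        rw [hQdef, ← hker]
        exact FusionMorph88.mem_kerAlong.mpr ⟨S.mul_mem (hf.apply_mem hzP) (S.inv_mem hzS), by
          rw [FusionMorph88.app_mul (hf.apply_mem hzP) (S.inv_mem hzS), FusionMorph88.app_inv hzS, h1,
            mul_inv_cancel]⟩
      rw [← hpow]
      intro P' h' hh' hP' hv' hx' y hy
      obtain ⟨f₀, hf₀, hΦ₀, he⟩ := hlift P' h' hh' hP' hv' hx'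
      obtain ⟨⟨a, ha⟩, rfl⟩ := QuotientGroup.mk'_surjective (Q.subgroupOf S) y
      have e2 : FusionMorph88.app θ a = θ ⟨a, ha⟩ := FusionMorph88.app_apply θ ha
      have hap : a ∈ preimageAlong θ P' := FusionMorph88.mem_preimageAlong.mpr ⟨ha, e2.symm ▸ hy⟩
      rw [← e2, he a hap]
      have hkerQ : ∀ q ∈ Q, q ∈ S ∧ FusionMorph88.app θ q = 1 := fun q hq =>
        FusionMorph88.mem_kerAlong.mp (by rw [hker]; exact hq)
      constructor
      · intro hay
        have hzp : z ∈ preimageAlong θ P' :=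
          FusionMorph88.mem_preimageAlong.mpr ⟨hzS, hay ▸ e2.symm ▸ hy⟩
        rw [← he a hap, hay, he z hzp, (hΦ₀ z hzp).mp rfl]
      · intro hfa
        have hfaS := hf₀.apply_mem hap
        have hq : (f₀ a)⁻¹ * z ∈ Q := by
          rw [hQdef, ← hker]
          exact FusionMorph88.mem_kerAlong.mpr ⟨S.mul_mem (S.inv_mem hfaS) hzS, by
            rw [FusionMorph88.app_mul (S.inv_mem hfaS) hzS, FusionMorph88.app_inv hfaS, hfa,
              inv_mul_cancel]⟩
        have hQpre : Q ≤ preimageAlong θ P' := fun q hq =>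
          FusionMorph88.mem_preimageAlong.mpr ⟨(hkerQ q hq).1, (hkerQ q hq).2 ▸ P'.one_mem⟩
        have hQim : im Q f₀ = Q := (hf₀.restrict_to hQpre).im_self fun q hq =>
          normal_invariant hQn hf₀ (hQpre hq) hq
        rw [← hQim, (hf₀.restrict_to hQpre).mem_im] at hq
        obtain ⟨q, hq, hqe⟩ := hq
        have e3 : f₀ (a * q) = z := by rw [hf₀.map_mul hap (hQpre hq), hqe, mul_inv_cancel_left]
        have e4 := congrArg (FusionMorph88.app θ) ((hΦ₀ (a * q) (mul_mem hap (hQpre hq))).mpr e3)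
        rwa [FusionMorph88.app_mul ha (hQS hq), (hkerQ q hq).2, mul_one] at e4
    -- extend to `Q C_S(Q)`
    obtain ⟨f₁, hf₁, hag, him⟩ := (isNormal_iff.mp hQn).2 P f hf
    set P₀ := Q ⊔ Subgroup.zpowers z with hP₀
    have hzz : Subgroup.zpowers z ≤ P := Subgroup.zpowers_le.mpr hzP
    have hP₀S : P₀ ≤ S := sup_le hQS (Subgroup.zpowers_le.mpr hzS)
    have hle : P₀ ≤ P ⊔ Q := sup_le le_sup_right (hzz.trans le_sup_left)
    have hzP₀ : z ∈ P₀ := Subgroup.mem_sup_right (Subgroup.mem_zpowers z)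
    have hf₀ := hf₁.restrict_to hle
    have him₀ : im P₀ f₁ = P₀ := hf₀.im_self fun y hy => mor_sup_induction hf₀
      (fun a ha => Subgroup.mem_sup_left (him ▸ apply_mem_im ha))
      (fun b hb => apply_zpow_mem hf₀ hzP₀ (by
        rw [hag z hzP]
        have := mul_mem (Subgroup.mem_sup_left hmod : f z * z⁻¹ ∈ P₀) hzP₀
        rwa [inv_mul_cancel_right] at this) hb) hy
    have hP₀n : ∀ g ∈ S, ∀ y ∈ P₀, cj g y ∈ P₀ := fun g hg y hy =>
      mor_sup_induction (mor_cj (F := F) hP₀S hg)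
        (fun a ha => Subgroup.mem_sup_left (cj_mem_of_normalizer (hSQ hg) ha))
        (fun b hb => apply_zpow_mem (mor_cj (F := F) hP₀S hg) hzP₀ (by rwa [hzc g hg]) hb) hy
    obtain ⟨f₂, hf₂, hag₂, hC₂⟩ := exists_extension_centralizer
      (receptive_of_fullyNormalized hS hF (FusionWeakAlperin.fullyNormalized_of_normal hP₀S hP₀n))
      hf₀ him₀
    have hCle : centralizerIn S Q ≤ centralizerIn S P₀ := by
      intro c hc
      obtain ⟨hcS, hcc⟩ := mem_centralizerIn.mp hc
      refine mem_centralizerIn.mpr ⟨hcS, fun y hy => ?_⟩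
      have : P₀ ≤ Subgroup.centralizer {c} := by
        refine sup_le (fun q hq => Subgroup.mem_centralizer_iff.mpr fun d hd => ?_)
          (Subgroup.zpowers_le.mpr (Subgroup.mem_centralizer_iff.mpr fun d hd => ?_))
        · rw [Set.mem_singleton_iff] at hd
          have := hcc q hq
          rw [cj_apply, mul_inv_eq_iff_eq_mul] at this
          rw [hd, this]
        · rw [Set.mem_singleton_iff] at hd
          rw [hd, hzcomm c hcS]
      rw [cj_apply, Subgroup.mem_centralizer_iff.mp (this hy) c rfl, mul_inv_cancel_right]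
    have hXle : X ≤ P₀ ⊔ centralizerIn S P₀ := sup_le_sup le_sup_left hCle
    have hf₂X := hf₂.restrict_to hXle
    have hX2 : im X f₂ = X := hf₂X.im_self fun y hy => mor_sup_induction hf₂X
      (fun a ha => Subgroup.mem_sup_left (by
        rw [hag₂ a (Subgroup.mem_sup_left ha)]; exact him ▸ apply_mem_im ha))
      (fun b hb => Subgroup.mem_sup_right (mem_centralizerIn.mpr
        ⟨(mem_centralizerIn.mp (hC₂ b (hCle hb))).1, fun y hy =>
          (mem_centralizerIn.mp (hC₂ b (hCle hb))).2 y (Subgroup.mem_sup_left hy)⟩)) hy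
    have hzX : z ∈ X := Subgroup.mem_sup_right hzC
    have := (hloc X f₂ hf₂X (hSXe.symm ▸ hXS) (fun y hy => hSXe.symm ▸ hf₂X.apply_mem hy)
      ⟨f₂, by rwa [sup_idem], fun _ _ => rfl, hX2⟩ z hzX).mp rfl
    rwa [hag₂ z hzP₀, hag z hzP] at this

/-- `k`-th powers in `Z(S)` that are central in the normalizer of the functor value are central. -/
theorem mem_center_of_loc (hW : Fn p W)
    (hWZ : ∀ (Q : Type u) [Group Q] [Finite Q], IsPGroup p Q → Subgroup.center Q ≤ W Q)
    {k : ℕ} (hloc0 : Loc p W k) {Ω : Type u} [Group Ω] {S : Subgroup Ω} [Finite S] (hS : IsPGroup p S)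
    (F : FusionSystem S) (hF : F.IsSaturated p)
    (N : FusionSystem (normalizerIn S ((W ↥S).map S.subtype)))
    (hN : F.IsNormalizerSystem ((W ↥S).map S.subtype) N) {w : Ω} (hwS : w ∈ S)
    (hwc : ∀ g ∈ S, g * w = w * g) (hz : w ^ k ∈ N.center) : w ^ k ∈ F.center := by
  haveI := finite_normalizerIn (S := S) ((W ↥S).map S.subtype)
  have hWS : Ws W S ≤ S := Ws_le S
  obtain ⟨hZS, hext⟩ := isCentral_iff.mp (center_isCentral (F := N))
  have key : ∀ v ∈ S, (∀ g ∈ S, g * v = v * g) → v ^ k ∈ N.center →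
      ∀ P f, Mor F P f → v ^ k ∈ P → f (v ^ k) = v ^ k := by
    intro v hvS hvc hv P f hf hvP
    have hB : OnNormalizer F (Ws W S) (Keep (v ^ k)) := fun P f hf hP hf' hx =>
      keep_of_fix (fun P f hf hzP => by
        obtain ⟨f', -, hag, hid⟩ := hext P f hf
        rw [← hag _ hzP, hid _ hv]) ((mor_normalizerSystem_iff hN).mpr ⟨hf, hP, hf', hx⟩)
    exact ((induction_less (M := fun {Ω} _ {S} _ E => Fx W k E)
      (fun F₀ h₀ h₁ IH => step hW hWZ hloc0 F₀ h₀ h₁ IH) F hS hF v hvS hvc hB) P f hf _ hvP).mp rfl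
  have hle : Subgroup.zpowers (w ^ k) ≤ S := Subgroup.zpowers_le.mpr (S.pow_mem hwS k)
  refine le_center (isCentral_of_fixed hS hF hle fun x hx y hy => ?_) (Subgroup.mem_zpowers _)
  obtain ⟨φ, hφ, rfl⟩ := hy
  obtain ⟨j, rfl⟩ := Subgroup.mem_zpowers_iff.mp hx
  have e : (w ^ j) ^ k = (w ^ k) ^ j := by
    rw [← zpow_natCast (w ^ j) k, ← zpow_natCast w k, ← zpow_mul, ← zpow_mul, mul_comm]
  have h := key (w ^ j) (S.zpow_mem hwS j)
    (fun g hg => (Commute.zpow_right (hwc g hg : Commute g w) j)) (e ▸ Subgroup.zpow_mem _ hz j) _ _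
    (mor_toFun hφ) (e ▸ Subgroup.mem_zpowers _)
  rw [e, toFun_apply φ (Subgroup.mem_zpowers _)] at h
  exact h

end Cfsg.Agent.FusionGlauberman
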