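import Cfsg.Agent.Lib.GlaubermanQuadPow
import Cfsg.Agent.Lib.FusionGlauberman

/-!
The constrained-group condition from quadratic elements.
-/

set_option autoImplicit false

universe u

namespace Cfsg.Agent.GlaubermanQuadLoc

open Cfsg Cfsg.Agent.FusionFunctorLocal Cfsg.Agent.ConjFunctorBasic

/-- Quadratic elements exist outside `O_p` unless the functor value is normal. -/
def HasQuad (p : ℕ) (W : ∀ (Q : Type u) [Group Q], Subgroup Q) : Prop :=
  ∀ (G : Type u) [Group G] [Finite G] (P : Sylow p G),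
    ¬ (((W ↥(P : Subgroup G)).map (P : Subgroup G).subtype : Subgroup G)).Normal →
      ∃ g : G, g ∈ (P : Subgroup G) ∧ g ∉ Cfsg.pCore p G ∧
        GlaubermanQuadPow.Quad ((Subgroup.center ↥(Cfsg.pCore p G)).map (Cfsg.pCore p G).subtype) g

variable {p : ℕ} [Fact p.Prime] {W : ∀ (Q : Type u) [Group Q], Subgroup Q}

/-- With quadratic elements, `k`-th powers fixed in the normalizer of the functor value are central. -/
theorem loc_of_hasQuad (hW : Fn p W) (hq : HasQuad p W) {k : ℕ} (hk : k = p ∨ (k = 1 ∧ p ≠ 2)) :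
    FusionGlauberman.Loc p W k := by
  suffices ∀ n : ℕ, ∀ (G : Type u) [Group G] [Finite G] (P : Sylow p G), Nat.card G ≤ n →
      Subgroup.centralizer ((Cfsg.pCore p G : Subgroup G) : Set G) ≤ Cfsg.pCore p G →
      ∀ w ∈ (P : Subgroup G), (∀ s ∈ (P : Subgroup G), s * w = w * s) →
        (∀ n ∈ Subgroup.normalizer
          (((W ↥(P : Subgroup G)).map (P : Subgroup G).subtype : Subgroup G) : Set G),
            n * w ^ k = w ^ k * n) → w ^ k ∈ Subgroup.center G from
    fun G _ _ P hC w hw hwc hn => this _ G P le_rfl hC w hw hwc hn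
  intro n
  induction n with
  | zero => intro G _ _ P hn; exact absurd hn Nat.card_pos.not_ge
  | succ n ih =>
  intro G _ _ P hcard hC w hw hwc hN
  set Z := Cfsg.pCore p G with hZ
  haveI : Z.Normal := HallCore.pCore_normal p G
  by_cases hWn : (((W ↥(P : Subgroup G)).map (P : Subgroup G).subtype : Subgroup G)).Normal
  · exact Subgroup.mem_center_iff.mpr fun x => hN x (by
      rw [Subgroup.normalizer_eq_top_iff.mpr hWn]; exact Subgroup.mem_top x)
  obtain ⟨g, hgP, hgZ, hgq⟩ := hq G P hWn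
  have hZP : Z ≤ (P : Subgroup G) := HallCore.pCore_le_sylow P
  have hwZ : w ∈ Z := hC (Subgroup.mem_centralizer_iff.mpr fun y hy => hwc y (hZP hy))
  set V : Subgroup G := (Subgroup.center ↥Z).map Z.subtype with hV
  haveI : V.Normal := by
    refine ⟨fun v hv x => ?_⟩
    obtain ⟨v, hv, rfl⟩ := hv
    refine ⟨⟨x * v * x⁻¹, ‹Z.Normal›.conj_mem _ v.2 x⟩, Subgroup.mem_center_iff.mpr fun y => ?_, rfl⟩
    have hy : x⁻¹ * (y : G) * x ∈ Z := by simpa using ‹Z.Normal›.conj_mem _ y.2 x⁻¹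
    have h1 := congrArg Subtype.val (Subgroup.mem_center_iff.mp hv ⟨_, hy⟩)
    simp only [Subgroup.coe_mul] at h1
    refine Subtype.ext ?_
    simp only [Subgroup.coe_mul]
    have h2 := congrArg (fun a => x * a * x⁻¹) h1
    simpa [mul_assoc] using h2
  haveI : IsMulCommutative V := ⟨⟨fun a b => by
    obtain ⟨a', ha, hae⟩ := a.2
    obtain ⟨b', hb, hbe⟩ := b.2
    refine Subtype.ext ?_
    show (a : G) * b = b * a
    rw [← hae, ← hbe]
    exact congrArg Subtype.val (Subgroup.mem_center_iff.mp hb a')⟩⟩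
  refine GlaubermanQuadPow.pow_mem_center P V
    (((HallCore.isPGroup_pCore p G).to_subgroup _).map _) hgP hgZ hgq hk
    ⟨⟨w, hwZ⟩, Subgroup.mem_center_iff.mpr fun y => Subtype.ext (hwc y (hZP y.2)), rfl⟩ hwc
    fun K hK hPK x hx => ?_
  -- the proper overgroup `K`
  have hlt : Nat.card K < Nat.card G := lt_of_le_of_ne K.card_le_card_group
    fun e => hK (Subgroup.eq_top_of_card_eq K e)
  have hKC : Subgroup.centralizer ((Cfsg.pCore p K : Subgroup K) : Set K) ≤ Cfsg.pCore p K := by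
    intro c hc
    refine HallCore.pCore_subgroupOf_le (p := p) K (Subgroup.mem_subgroupOf.mpr (hC ?_))
    refine Subgroup.mem_centralizer_iff.mpr fun y hy => ?_
    have hyK : (⟨y, hPK (hZP hy)⟩ : K) ∈ Cfsg.pCore p K :=
      HallCore.pCore_subgroupOf_le (p := p) K (Subgroup.mem_subgroupOf.mpr hy)
    exact congrArg Subtype.val (Subgroup.mem_centralizer_iff.mp hc _ hyK)
  let P' : Sylow p K := P.subtype hPK
  let e : ↥(P' : Subgroup K) ≃* ↥(P : Subgroup G) := Subgroup.subgroupOfEquivOfLe hPK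
  have hWmap : ((W ↥(P' : Subgroup K)).map (P' : Subgroup K).subtype).map K.subtype =
      (W ↥(P : Subgroup G)).map (P : Subgroup G).subtype := by
    rw [← hW.nat _ _ P'.isPGroup' e, Subgroup.map_map, Subgroup.map_map]
    rfl
  have h := ih K P' (by omega) hKC ⟨w, hPK hw⟩ (Subgroup.mem_subgroupOf.mpr hw)
    (fun s hs => Subtype.ext (hwc s (Subgroup.mem_subgroupOf.mp hs))) fun m hm => Subtype.ext (by
      refine hN m ?_
      rw [← hWmap]
      have := Subgroup.le_normalizer_map K.subtype (Subgroup.mem_map_of_mem K.subtype hm)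
      exact this)
  exact congrArg Subtype.val (Subgroup.mem_center_iff.mp h ⟨x, hx⟩)

open FusionSystem in
/-- With quadratic elements, `k`-th powers in `Z(S)` central in the normalizer system are central. -/
theorem closure_pow_inf_center_le (hW : Fn p W)
    (hWZ : ∀ (Q : Type u) [Group Q] [Finite Q], IsPGroup p Q → Subgroup.center Q ≤ W Q)
    (hq : HasQuad p W) {k : ℕ} (hk : k = p ∨ (k = 1 ∧ p ≠ 2)) {Ω : Type u} [Group Ω] {S : Subgroup Ω}
    [Finite S] (hS : IsPGroup p S) (F : FusionSystem S) (hF : F.IsSaturated p)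
    (N : FusionSystem (normalizerIn S ((W ↥S).map S.subtype)))
    (hN : F.IsNormalizerSystem ((W ↥S).map S.subtype) N) :
    Subgroup.closure ((fun z => z ^ k) '' ((S ⊓ Subgroup.centralizer (S : Set Ω) : Subgroup Ω) : Set Ω))
      ⊓ N.center ≤ F.center := by
  let C : Subgroup Ω := S ⊓ Subgroup.centralizer (S : Set Ω)
  have hCc : ∀ a ∈ C, ∀ b ∈ C, Commute a b := fun a ha b hb => (ha.2 b hb.1).symm
  let T : Subgroup Ω :=
    { carrier := {x | ∃ a ∈ C, a ^ k = x}
      one_mem' := ⟨1, C.one_mem, one_pow k⟩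
      mul_mem' := by
        rintro _ _ ⟨a, ha, rfl⟩ ⟨b, hb, rfl⟩
        exact ⟨a * b, C.mul_mem ha hb, (hCc a ha b hb).mul_pow k⟩
      inv_mem' := by
        rintro _ ⟨a, ha, rfl⟩
        exact ⟨a⁻¹, C.inv_mem ha, inv_pow a k⟩ }
  rintro x ⟨hx, hxN⟩
  have hxT : x ∈ T := (Subgroup.closure_le T).mpr (by rintro _ ⟨a, ha, rfl⟩; exact ⟨a, ha, rfl⟩) hx
  obtain ⟨a, ha, rfl⟩ := hxT
  exact FusionGlauberman.mem_center_of_loc hW hWZ (loc_of_hasQuad hW hq hk) hS F hF N hN ha.1
    (fun g hg => ha.2 g hg) hxN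

end Cfsg.Agent.GlaubermanQuadLoc
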