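import Cfsg.Agent.Lib.ThompsonAQuad
import Cfsg.Agent.Lib.GlaubermanQuadLoc

/-!
Glauberman's theorem for the abelian Thompson subgroup: the quadratic element and odd primes.
-/

set_option autoImplicit false

universe u

namespace Cfsg.Agent.ThompsonAGlauberman

open scoped commutatorElement
open Cfsg Cfsg.FusionSystem Cfsg.Agent.FusionSysBasic Cfsg.Agent.FusionSysSaturated
  Cfsg.Agent.FusionSysNormal Cfsg.Agent.FusionFunctorLocal Cfsg.Agent.ThompsonAQuad

variable {p : ℕ} [Fact p.Prime]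

theorem isFn : Fn p (fun (Q : Type u) [Group Q] => thompsonSubgroupA Q) where
  ne_bot Q _ _ hQ hn h := by
    haveI := hn
    haveI := hQ.center_nontrivial
    exact (Subgroup.nontrivial_iff_ne_bot _).mp this (eq_bot_iff.mpr (h ▸ center_le Q))
  nat _ _ _ _ _ _ φ := map_thompsonA φ

theorem hasQuad : GlaubermanQuadLoc.HasQuad p (fun (Q : Type u) [Group Q] => thompsonSubgroupA Q) := by
  intro G _ _ P hn
  set Q := pCore p G
  haveI : Q.Normal := HallCore.pCore_normal p G
  set W : Subgroup G := (Subgroup.center ↥Q).map Q.subtype with hW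
  haveI : W.Normal := by
    rw [hW]
    exact ConjAct.normal_of_characteristic_of_normal
  have hQP : Q ≤ (P : Subgroup G) := HallCore.pCore_le_sylow P
  have hWc : ∀ x ∈ Q, ∀ v ∈ W, v * x = x * v := by
    rintro x hx _ ⟨v, hv, rfl⟩
    exact (congrArg Subtype.val (Subgroup.mem_center_iff.mp hv (⟨x, hx⟩ : Q))).symm
  have hWQ : W ≤ Q := Subgroup.map_subtype_le _
  have h0 : ¬ (thompsonSubgroupA ↥(P : Subgroup G)).map (P : Subgroup G).subtype ≤ Q := fun h => by
    haveI : (thompsonSubgroupA ↥Q).Characteristic :=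
      Subgroup.characteristic_iff_map_eq.mpr fun φ => map_thompsonA φ
    refine hn ?_
    rw [thompsonA_map_eq_of_le _ Q hQP h]
    exact ConjAct.normal_of_characteristic_of_normal
  obtain ⟨A, hAP, hAQ, hAc, hAW, -⟩ := exists_quad P W (hWQ.trans hQP)
    (fun v hv v' hv' => hWc v' (hWQ hv') v hv) Q hWc h0
  obtain ⟨g, hgA, hgQ⟩ := Set.not_subset.mp hAQ
  exact ⟨g, hAP hgA, hgQ, fun v hv => commutatorElement_eq_one_iff_mul_comm.mpr
    (hAc _ (hAW v hv g hgA) g hgA)⟩

variable {Ω : Type u} [Group Ω] {S : Subgroup Ω} [Finite S] {F : FusionSystem S}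

omit [Fact p.Prime] in
theorem normalizerIn_eq : normalizerIn S (Ws (fun (Q : Type u) [Group Q] => thompsonSubgroupA Q) S) = S := by
  refine inf_eq_left.mpr fun g hg => mem_normalizer_of_cj_le (Ws_le S) fun x hx => ?_
  obtain ⟨w, hw, rfl⟩ := hx
  refine ⟨(MulAut.conj (⟨g, hg⟩ : S)) w, ?_, rfl⟩
  show (MulAut.conj (⟨g, hg⟩ : S)) w ∈ thompsonSubgroupA ↥S
  rw [← map_thompsonA (MulAut.conj (⟨g, hg⟩ : S))]
  exact ⟨w, hw, rfl⟩

/-- The centre of the system lies in the centre of the normalizer system. -/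
theorem center_le_center (N : FusionSystem (normalizerIn S (thompsonSubgroupAOf S)))
    (hN : F.IsNormalizerSystem (thompsonSubgroupAOf S) N) : F.center ≤ N.center := by
  haveI := finite_normalizerIn (S := S) (thompsonSubgroupAOf S)
  obtain ⟨hZS, hext⟩ := isCentral_iff.mp (center_isCentral (F := F))
  have hT : normalizerIn S (thompsonSubgroupAOf S) = S := normalizerIn_eq
  refine le_center (isCentral_iff.mpr ⟨hT.symm ▸ hZS, fun P f hf => ?_⟩)
  obtain ⟨hfF, hP, hfv, f₁, hf₁, hag₁, him⟩ := (mor_normalizerSystem_iff hN).mp hf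
  obtain ⟨f₂, hf₂, hag₂, hid⟩ := hext _ f₁ hf₁
  have hle : P ⊔ F.center ≤ P ⊔ thompsonSubgroupAOf S ⊔ F.center := sup_le_sup_right le_sup_left _
  refine ⟨f₂, (mor_normalizerSystem_iff hN).mpr ⟨hf₂.restrict_to hle, sup_le hP (hT.symm ▸ hZS),
    fun x hx => hT.symm ▸ hf₂.apply_mem (hle hx), f₂, hf₂.restrict_to ?_, fun _ _ => rfl, ?_⟩,
    fun x hx => (hag₂ x (Subgroup.mem_sup_left hx)).trans (hag₁ x hx), hid⟩
  · exact sup_le hle (le_sup_right.trans le_sup_left)
  · exact (im_congr fun x hx => hag₂ x (Subgroup.mem_sup_right hx)).trans him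

/-- The centre of the normalizer system is central in `S`. -/
theorem mem_center_normalizer (N : FusionSystem (normalizerIn S (thompsonSubgroupAOf S)))
    (hN : F.IsNormalizerSystem (thompsonSubgroupAOf S) N) {z : Ω} (hz : z ∈ N.center) :
    z ∈ S ∧ ∀ g ∈ S, g * z = z * g := by
  haveI := finite_normalizerIn (S := S) (thompsonSubgroupAOf S)
  obtain ⟨hZS, hext⟩ := isCentral_iff.mp (center_isCentral (F := N))
  refine ⟨(hZS hz).1, fun g hg => ?_⟩
  have hgT : g ∈ normalizerIn S (thompsonSubgroupAOf S) := (normalizerIn_eq (S := S)).symm ▸ hg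
  obtain ⟨f', -, hag, hid⟩ := hext _ _ (mor_cj (F := N) (Subgroup.zpowers_le.mpr (hZS hz)) hgT)
  have h := (hag z (Subgroup.mem_zpowers z)).symm.trans (hid z hz)
  rw [cj_apply, mul_inv_eq_iff_eq_mul] at h
  exact h

/-- Glauberman's theorem at odd primes, and for `p`-th powers at all primes. -/
theorem closure_pow_le (hS : IsPGroup p S) (hF : F.IsSaturated p)
    (N : FusionSystem (normalizerIn S (thompsonSubgroupAOf S)))
    (hN : F.IsNormalizerSystem (thompsonSubgroupAOf S) N) {k : ℕ} (hk : k = p ∨ (k = 1 ∧ p ≠ 2)) :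
    Subgroup.closure ((fun z => z ^ k) '' ((S ⊓ Subgroup.centralizer (S : Set Ω) : Subgroup Ω) : Set Ω))
      ⊓ N.center ≤ F.center :=
  GlaubermanQuadLoc.closure_pow_inf_center_le isFn (fun Q _ _ _ => center_le Q) hasQuad hk hS F hF N hN

end Cfsg.Agent.ThompsonAGlauberman
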