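import Cfsg.Agent.Lib.GlaubermanS4Free
import Cfsg.Agent.Lib.ThompsonAGlauberman
import Cfsg.Agent.Lib.ConjFunctorMaster

/-!
Glauberman's theorem at the prime 2 for constrained `S₄`-free groups.
-/

set_option autoImplicit false

universe u

namespace Cfsg.Agent.ThompsonAFreeGroup

open scoped commutatorElement
open Cfsg Subgroup Cfsg.Agent.ThompsonAQuad Cfsg.Agent.ConjFunctorBasic

/-- The functor value inside a proper overgroup. -/
theorem map_subtype_thompsonA {G : Type u} [Group G] [Finite G] (P : Sylow 2 G) {K : Subgroup G}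
    (hPK : (P : Subgroup G) ≤ K) :
    ((thompsonSubgroupA ↥(P.subtype hPK : Subgroup K)).map (P.subtype hPK : Subgroup K).subtype).map
      K.subtype = (thompsonSubgroupA ↥(P : Subgroup G)).map (P : Subgroup G).subtype := by
  let e : ↥(P.subtype hPK : Subgroup K) ≃* ↥(P : Subgroup G) := Subgroup.subgroupOfEquivOfLe hPK
  rw [← map_thompsonA e, Subgroup.map_map, Subgroup.map_map]
  rfl

/-- A `P`-fixed element fixed by the normalizer of `J(P)` is central. -/
theorem mem_center {G : Type u} [Group G] [Finite G] (P : Sylow 2 G)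
    (hC : centralizer ((pCore 2 G : Subgroup G) : Set G) ≤ pCore 2 G)
    (hS4 : ¬ Cfsg.Involves (Equiv.Perm (Fin 4)) G) {w : G} (hwP : w ∈ (P : Subgroup G))
    (hwc : ∀ s ∈ (P : Subgroup G), s * w = w * s)
    (hN : ∀ n ∈ normalizer (((thompsonSubgroupA ↥(P : Subgroup G)).map (P : Subgroup G).subtype :
      Subgroup G) : Set G), n * w = w * n) : w ∈ center G := by
  suffices ∀ n : ℕ, ∀ (G : Type u) [Group G] [Finite G] (P : Sylow 2 G), Nat.card G ≤ n →
      centralizer ((pCore 2 G : Subgroup G) : Set G) ≤ pCore 2 G →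
      ¬ Cfsg.Involves (Equiv.Perm (Fin 4)) G →
      ∀ w ∈ (P : Subgroup G), (∀ s ∈ (P : Subgroup G), s * w = w * s) →
        (∀ n ∈ normalizer (((thompsonSubgroupA ↥(P : Subgroup G)).map (P : Subgroup G).subtype :
          Subgroup G) : Set G), n * w = w * n) → w ∈ center G from
    this _ G P le_rfl hC hS4 w hwP hwc hN
  clear! G
  intro n
  induction n with
  | zero => intro G _ _ P hn; exact absurd hn Nat.card_pos.not_ge
  | succ n ih =>
  intro G _ _ P hcard hC hS4 w hwP hwc hN
  set Q := pCore 2 G with hQ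
  haveI : Q.Normal := HallCore.pCore_normal 2 G
  have hQP : Q ≤ (P : Subgroup G) := HallCore.pCore_le_sylow P
  have hwQ : w ∈ Q := hC (mem_centralizer_iff.mpr fun y hy => hwc y (hQP hy))
  -- the normal closure of `w`
  set V := normalClosure ({w} : Set G) with hV
  have hVZ : V ≤ (Subgroup.center ↥Q).map Q.subtype := by
    haveI : ((Subgroup.center ↥Q).map Q.subtype).Normal := ConjAct.normal_of_characteristic_of_normal
    refine normalClosure_le_normal (Set.singleton_subset_iff.mpr ?_)
    exact ⟨⟨w, hwQ⟩, Subgroup.mem_center_iff.mpr fun y => Subtype.ext (hwc y (hQP y.2)), rfl⟩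
  have hVc : ∀ v ∈ V, ∀ v' ∈ V, v * v' = v' * v := fun v hv v' hv' => by
    obtain ⟨a, ha, rfl⟩ := hVZ hv
    obtain ⟨b, hb, rfl⟩ := hVZ hv'
    exact congrArg Subtype.val (Subgroup.mem_center_iff.mp hb a)
  have hVP : V ≤ (P : Subgroup G) := (hVZ.trans (map_subtype_le _)).trans hQP
  have hV2 : IsPGroup 2 V := P.isPGroup'.to_le hVP
  have hwV : w ∈ V := subset_normalClosure rfl
  set C := centralizer (V : Set G) with hCdef
  haveI hCn : C.Normal := by rw [hCdef]; exact Subgroup.normal_centralizer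
  have hCw : ∀ c ∈ C, c * w = w * c := fun c hc => (mem_centralizer_iff.mp hc w hwV).symm
  have hfrat : ∀ N : Subgroup G, N.Normal → ∀ x : G,
      ∃ b ∈ N, ∃ a ∈ normalizer (((P : Subgroup G) ⊓ N : Subgroup G) : Set G), x = b * a := by
    intro N hNn x
    haveI := hNn
    exact ConjFunctorMaster.frattini_split (H := ⊤) (ConjFunctorMaster.not_dvd_relIndex_of_ge (S := P))
      (by rw [normalizer_eq_top N]) (mem_top x)
  by_cases hJC : (thompsonSubgroupA ↥(P : Subgroup G)).map (P : Subgroup G).subtype ≤ C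
  · -- Frattini
    have hJ := thompsonA_map_eq_of_le (P : Subgroup G) ((P : Subgroup G) ⊓ C) inf_le_left
      (le_inf (map_subtype_le _) hJC)
    refine mem_center_iff.mpr fun x => ?_
    obtain ⟨b, hb, a, ha, rfl⟩ := hfrat C hCn x
    have ha' : a * w = w * a := hN a (by
      rw [hJ]
      exact mem_normalizer_of_cmap_le (cmap_le_iff.mpr fun y hy =>
        FusionFunctorLocal.cj_mem_Ws ThompsonAGlauberman.isFn
          (P.isPGroup'.to_le inf_le_left) ha hy))
    rw [mul_assoc, ha', ← mul_assoc, hCw b hb, mul_assoc]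
  obtain ⟨A, hAP, hAC, hAc, hAW, hoff⟩ :=
    exists_quad P V hVP hVc C (fun x hx v hv => mem_centralizer_iff.mp hx v hv) hJC
  refine GlaubermanS4Free.mem_center_of_offender P V hV2 hVc hS4 (fun N hNn hCN hN2 => ?_)
    ⟨A, hAP, hAC, hAc, fun v hv a ha b hb => commutatorElement_eq_one_iff_mul_comm.mpr
      (hAc _ (hAW v hv a ha) b hb), hoff⟩ hwV hwc ?_ ?_
  · -- no normal 2-subgroup acts
    haveI := hNn
    haveI : (C.subgroupOf N).Normal := hCn.subgroupOf N
    have hle0 : N ≤ C ⊔ ((P : Subgroup G) ⊓ N) := by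
      have hT := ConjFunctorMaster.not_dvd_relIndex_of_ge (S := P) (C := N)
      have h1 := relIndex_dvd_of_le_left N (le_sup_right : (P : Subgroup G) ⊓ N ≤ C ⊔ _)
      have h2 := relIndex_dvd_of_le_left N (le_sup_left : C ≤ C ⊔ ((P : Subgroup G) ⊓ N))
      have hq : IsPGroup 2 (↥N ⧸ C.subgroupOf N) := fun q => by
        induction q using QuotientGroup.induction_on with
        | H x =>
          obtain ⟨k, hk⟩ := hN2 x x.2
          exact ⟨k, (QuotientGroup.eq_one_iff _).mpr (mem_subgroupOf.mpr (by simpa using hk))⟩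
      obtain ⟨k, hk⟩ := IsPGroup.iff_card.mp hq
      have h3 : (C ⊔ ((P : Subgroup G) ⊓ N)).relIndex N ∣ 2 ^ k := hk ▸ h2
      obtain ⟨j, -, hj⟩ := (Nat.dvd_prime_pow Nat.prime_two).mp h3
      rcases j with _ | j
      · exact relIndex_eq_one.mp (by rw [hj, pow_zero])
      · exact absurd ((dvd_pow_self 2 (Nat.succ_ne_zero j)).trans (hj ▸ h1)) hT.2.2
    have hNP : ∀ x ∈ N, ∃ c ∈ C, ∃ s ∈ (P : Subgroup G) ⊓ N, c * s = x := by
      intro x hx
      have h3 := hle0 hx
      rw [← SetLike.mem_coe, Subgroup.normal_mul] at h3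
      exact Set.mem_mul.mp h3
    refine fun x hx => mem_centralizer_iff.mpr fun v hv => ?_
    have hle : V ≤ centralizer (N : Set G) := by
      refine (Subgroup.closure_le _).mpr fun y hy => ?_
      obtain ⟨w', hw', hconj⟩ := Group.mem_conjugatesOfSet_iff.mp hy
      obtain rfl : w' = w := hw'
      obtain ⟨g, rfl⟩ := isConj_iff.mp hconj
      obtain ⟨b, hb, a, ha, rfl⟩ := hfrat N hNn g
      have hfix : ∀ z ∈ N, z * (a * w' * a⁻¹) = a * w' * a⁻¹ * z := fun z hz => by
        obtain ⟨c, hc, s, hs, rfl⟩ := hNP z hz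
        have hv' : a * w' * a⁻¹ ∈ V := normalClosure_normal.conj_mem w' hwV a
        have h2 := hwc (a⁻¹ * s * a) ((Subgroup.mem_normalizer_iff''.mp ha s).mp hs).1
        have h3 : s * (a * w' * a⁻¹) = a * w' * a⁻¹ * s := by
          have := congrArg (fun q => a * q * a⁻¹) h2
          simpa [mul_assoc] using this
        calc c * s * (a * w' * a⁻¹) = c * (a * w' * a⁻¹) * s := by rw [mul_assoc, h3, ← mul_assoc]
          _ = a * w' * a⁻¹ * (c * s) := by rw [← mem_centralizer_iff.mp hc _ hv', mul_assoc]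
      have e1 : b * a * w' * (b * a)⁻¹ = a * w' * a⁻¹ := by
        calc b * a * w' * (b * a)⁻¹ = b * (a * w' * a⁻¹) * b⁻¹ := by group
          _ = _ := by rw [hfix b hb, mul_inv_cancel_right]
      refine mem_centralizer_iff.mpr fun z hz => ?_
      rw [e1]; exact hfix z hz
    exact (mem_centralizer_iff.mp (hle hv) x hx).symm
  · exact GlaubermanQuadLoc.loc_of_hasQuad ThompsonAGlauberman.isFn ThompsonAGlauberman.hasQuad
      (Or.inl rfl) G P hC w hwP hwc fun n hn => (Commute.pow_right (hN n hn : Commute n w) 2)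
  · intro K hK hPK x hx
    have hlt : Nat.card K < Nat.card G := lt_of_le_of_ne K.card_le_card_group
      fun e => hK (Subgroup.eq_top_of_card_eq K e)
    have hKC : centralizer ((pCore 2 K : Subgroup K) : Set K) ≤ pCore 2 K := by
      intro c hc
      refine HallCore.pCore_subgroupOf_le (p := 2) K (mem_subgroupOf.mpr (hC ?_))
      refine mem_centralizer_iff.mpr fun y hy => ?_
      have hyK : (⟨y, hPK (hQP hy)⟩ : K) ∈ pCore 2 K :=
        HallCore.pCore_subgroupOf_le (p := 2) K (mem_subgroupOf.mpr hy)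
      exact congrArg Subtype.val (mem_centralizer_iff.mp hc _ hyK)
    have h := ih K (P.subtype hPK) (by omega) hKC
      (fun hI => hS4 (FusionQd.involves_of_injective (f := K.subtype) K.subtype_injective hI))
      ⟨w, hPK hwP⟩ (mem_subgroupOf.mpr hwP)
      (fun s hs => Subtype.ext (hwc s (mem_subgroupOf.mp hs))) fun m hm => Subtype.ext (by
        refine hN m ?_
        rw [← map_subtype_thompsonA P hPK]
        exact Subgroup.le_normalizer_map K.subtype (Subgroup.mem_map_of_mem K.subtype hm))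
    exact congrArg Subtype.val (Subgroup.mem_center_iff.mp h ⟨x, hx⟩)

end Cfsg.Agent.ThompsonAFreeGroup
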