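import Cfsg.Agent.Lib.FusionSectionFreeLocal
import Cfsg.Agent.Lib.FusionCoreNoncentric
import Cfsg.Agent.Lib.ThompsonAFreeGroup
import Cfsg.Agent.Lib.FusionGlauberman
import Cfsg.Agent.S2761

/-!
Glauberman's theorem for `S₄`-free fusion systems at the prime 2.
-/

set_option autoImplicit false

universe u

namespace Cfsg.Agent.FusionGlaubermanFree

open Cfsg Cfsg.FusionSystem Cfsg.Agent.FusionSysBasic Cfsg.Agent.FusionSysSaturated
  Cfsg.Agent.FusionSysNormal Cfsg.Agent.FusionFunctorLocal Cfsg.Agent.FusionInduct88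
  Cfsg.Agent.FusionGlauberman Cfsg.Agent.FusionCoreNoncentric Cfsg.Agent.FusionNilReduction Cfsg.Agent.ThompsonAQuad

local instance : Fact (Nat.Prime 2) := ⟨Nat.prime_two⟩

variable {Ω : Type u} [Group Ω] {S : Subgroup Ω} [Finite S]

/-- A system free of the symmetric group of degree four is free of `Qd(2)`. -/
theorem free_qd_of_free {F : FusionSystem S} (h : F.IsSectionFree 2 (Equiv.Perm (Fin 4))) :
    F.IsSectionFree 2 ↥(Cfsg.qd 2) := by
  intro Q hQn hQc N hN L _ ι hM hinv
  obtain ⟨e⟩ := S2761.result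
  obtain ⟨K, f, hf⟩ := FusionQd.exists_hom_of_involves hinv
  exact h Q hQn hQc N hN L ι hM
    (FusionQd.involves_of_hom (e.toMonoidHom.comp f) (e.surjective.comp hf))

/-- Over a centric normal subgroup of a free system the model is free. -/
theorem not_involves_of_free {F : FusionSystem S} (hfree : F.IsSectionFree 2 ↥(Cfsg.qd 2))
    {Q : Subgroup Ω} (h : FusionSysModel.Hyp 2 F Q)
    {G : Type u} [Group G] [Finite G] {ι : ↥S →* G} (hι : F.IsRealizedBy ι)
    (hT : ∃ T : Sylow 2 G, (T : Subgroup G) = ι.range)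
    (hCG : Subgroup.centralizer ((pCore 2 G : Subgroup G) : Set G) ≤ pCore 2 G) :
    ¬ Cfsg.Involves (Equiv.Perm (Fin 4)) G := by
  intro hinv
  have hQn := h.hn
  have hQS : Q ≤ S := normal_le hQn
  have hSQ : S ≤ Subgroup.normalizer (Q : Set Ω) := le_normalizer_of_normal hQn
  have hTS : normalizerIn S Q = S := inf_eq_left.mpr hSQ
  have hfn : F.IsFullyNormalized Q := FusionWeakAlperin.fullyNormalized_of_normal hQS
    fun g hg x hx => cj_mem_of_normalizer (hSQ hg) hx
  have hN := isNormalizerSystem_normalizerSystem (F := F) Q hQS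
  let inc : ↥(normalizerIn S Q) →* ↥S := Subgroup.inclusion inf_le_left
  refine hfree Q hfn h.hc (normalizerSystem F Q hQS) hN G (ι.comp inc)
    ⟨inferInstance, ⟨?_, ?_⟩, ?_, hCG⟩ ?_
  · exact hι.1.comp (Subgroup.inclusion_injective inf_le_left)
  · intro P hP φ hφ
    refine Iff.trans ?_ (hι.2 P (hP.trans inf_le_left) φ fun x => (hφ x).1)
    constructor
    · intro hφN
      obtain ⟨ψ, hψ, he⟩ := ((mor_normalizerSystem_iff hN).mp (mor_toFun hφN)).1
      rwa [show φ = ψ from MonoidHom.ext fun x => (toFun_coe φ x).symm.trans (he x).symm]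
    · intro hφF
      have hm : Mor F P (toFun φ) := mor_toFun hφF
      obtain ⟨ψ, hψ, he⟩ := (mor_normalizerSystem_iff hN).mpr ⟨hm, hP,
        fun x hx => by rw [hTS]; exact hm.apply_mem hx, (isNormal_iff.mp hQn).2 P _ hm⟩
      rwa [show φ = ψ from MonoidHom.ext fun x => (toFun_coe φ x).symm.trans (he x).symm]
  · obtain ⟨T, hT⟩ := hT
    refine ⟨T, hT.trans (le_antisymm ?_ ?_)⟩
    · rintro _ ⟨x, rfl⟩
      exact ⟨⟨x, hTS.symm ▸ x.2⟩, rfl⟩
    · rintro _ ⟨x, rfl⟩
      exact ⟨inc x, rfl⟩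
  · obtain ⟨e⟩ := S2761.result
    obtain ⟨K, f, hf⟩ := FusionQd.exists_hom_of_involves hinv
    exact FusionQd.involves_of_hom (e.symm.toMonoidHom.comp f) (e.symm.surjective.comp hf)

/-- `J` controls the fixed central elements of a free system at the prime 2. -/
def Fx2 {Ω : Type u} [Group Ω] {S : Subgroup Ω} [Finite S] (E : FusionSystem S) : Prop :=
  E.IsSectionFree 2 ↥(Cfsg.qd 2) → ∀ w ∈ S, (∀ g ∈ S, g * w = w * g) →
    Ctl (fun (Q : Type u) [Group Q] => thompsonSubgroupA Q) E (Keep w)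

theorem step2 {F : FusionSystem S} (hS : IsPGroup 2 S) (hF : F.IsSaturated 2)
    (IH : ∀ {Ω' : Type u} [Group Ω'] {S' : Subgroup Ω'} [Finite S'] (E : FusionSystem S'),
      IsPGroup 2 S' → E.IsSaturated 2 → Less E F → Fx2 E) : Fx2 F := by
  classical
  intro hfree w hwS hwc hB
  have hW : Fn 2 (fun (Q : Type u) [Group Q] => thompsonSubgroupA Q) := ThompsonAGlauberman.isFn
  have hconj := Ws_conj hW hS hB
  have hΦ : Closed F (U := S) (Keep w) := closed_keep hconj
  have hIH : CtlNormalizers (fun (Q : Type u) [Group Q] => thompsonSubgroupA Q) F (Keep w) := by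
    intro R hR hnn
    haveI := finite_normalizerIn (S := S) R
    have hG := isNormalizerSystem_normalizerSystem (F := F) R hR.1
    have hless : Less (normalizerSystem F R hR.1) F := by
      rcases (inf_le_left : normalizerIn S R ≤ S).eq_or_lt with (hT : normalizerIn S R = S) | (hT : normalizerIn S R < S)
      · obtain ⟨R', hR', hne⟩ := exists_aut_not_mem hS hF hR.1 hT hG hnn
        exact Or.inr ⟨by rw [hT], sysCard_lt hT (FusionNilReduction.normalizerSystem_sub hG) hR' hne⟩
      · exact Or.inl (lt_of_le_of_ne (Subgroup.card_le_of_le hT.le)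
          fun e => hT.ne (eq_of_le_of_card_ge le_rfl hT.le e.ge))
    exact IH (normalizerSystem F R hR.1) (hS.to_le inf_le_left)
      (FusionSysNormalizer.normalizerSystem_saturated hS hF hR hG) hless
      (FusionSectionFreeLocal.free_normalizerSystem hS hF hfree hR hG) w
      (center_le_normalizerIn hR.1 ⟨hwS, Subgroup.mem_centralizer_iff.mpr hwc⟩)
      fun g hg => hwc g hg.1
  by_cases hQc : F.IsCentric F.core
  swap
  · exact fun P f hf => all_of_core_noncentric hW (fun Q _ _ _ => centralizer_le Q) hΦ hS hF hB hIH hQc hf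
  have hQn : F.IsNormal F.core := core_isNormal
  set Q := F.core with hQdef
  have hQS : Q ≤ S := normal_le hQn
  set U := Ws (fun (Q : Type u) [Group Q] => thompsonSubgroupA Q) S with hU
  have hnU : ∀ g ∈ S, g ∈ Subgroup.normalizer (U : Set Ω) := fun g hg =>
    mem_normalizer_of_cj_le (Ws_le S) fun y hy => cj_mem_Ws hW hS (Subgroup.le_normalizer hg) hy
  suffices ∀ P f, Mor F P f → w ∈ P → f w = w from fun P f hf => keep_of_fix this hf
  intro P f hf hwP
  have hwQ : w ∈ Q := hQc.2 Q (FusionSysBasic.isConj_refl hQS) (mem_centralizerIn.mpr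
    ⟨hwS, fun y hy => by rw [cj_apply, ← hwc y (hQS hy), mul_inv_cancel_right]⟩)
  have h : FusionSysModel.Hyp 2 F Q := ⟨hS, hF, hQn, hQc⟩
  haveI := FusionSysModel.k0_normal h
  obtain ⟨hfin, hι, ⟨T, hTr⟩, hCG⟩ := FusionSysModel.isModel h
  haveI := hfin
  set G := FusionSysModel.Model h
  set ι : S →* G := FusionSysModel.iota h
  have hQnm : ((Q.subgroupOf S).map ι).Normal := by
    constructor
    rintro _ ⟨q, hq, rfl⟩ y
    rw [FusionSysModel.conj_iota_Q h y hq]
    exact ⟨⟨afun (FusionSysModel.modelFst h y : MulAut Q) q, h.le (afun_mem _ hq)⟩, Subgroup.mem_subgroupOf.mpr (afun_mem _ (Subgroup.mem_subgroupOf.mp hq)), rfl⟩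
  have hQp : (Q.subgroupOf S).map ι ≤ Cfsg.pCore 2 G :=
    HallCore.le_pCore ((hS.to_subgroup _).map _)
  have hWzU : w ∈ U := by
    have hc : (⟨w, hwS⟩ : S) ∈ Subgroup.center ↥S :=
      Subgroup.mem_center_iff.mpr fun g => Subtype.ext (hwc g g.2)
    exact ⟨⟨w, hwS⟩, center_le ↥S hc, rfl⟩
  set NU := Subgroup.normalizer
    (((thompsonSubgroupA ↥(T : Subgroup G)).map (T : Subgroup G).subtype : Subgroup G) : Set G)
  -- the functor value in the model
  let e : ↥S ≃* ↥(T : Subgroup G) :=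
    (MonoidHom.ofInjective hι.1).trans (MulEquiv.subgroupCongr hTr.symm)
  have he : ∀ s : S, ((e s : ↥(T : Subgroup G)) : G) = ι s := fun s => rfl
  have hWe : ∀ y : G, y ∈ (thompsonSubgroupA ↥(T : Subgroup G)).map (T : Subgroup G).subtype ↔
      ∃ w : S, (w : Ω) ∈ U ∧ ι w = y := by
    intro y
    rw [← map_thompsonA e, Subgroup.map_map]
    constructor
    · rintro ⟨w, hw, rfl⟩
      exact ⟨w, ⟨w, hw, rfl⟩, he w⟩
    · rintro ⟨w, ⟨w', hw', hwe⟩, rfl⟩
      obtain rfl : w' = w := Subtype.ext hwe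
      exact ⟨_, hw', he _⟩
  have hTN : (T : Subgroup G) ≤ NU := by
    intro t ht
    obtain ⟨s, rfl⟩ : t ∈ ι.range := hTr ▸ ht
    refine Subgroup.mem_normalizer_fintype ?_
    intro y hy
    obtain ⟨w, hw, rfl⟩ := (hWe y).mp hy
    refine (hWe _).mpr ⟨s * w * s⁻¹, ?_, by simp⟩
    exact cj_mem_of_normalizer (hnU s s.2) hw
  have hG4 := not_involves_of_free hfree h hι ⟨T, hTr⟩ hCG
  have hcen := ThompsonAFreeGroup.mem_center T hCG hG4 (w := ι ⟨w, hwS⟩) (hTr ▸ ⟨_, rfl⟩) ?_ ?_
  rotate_left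
  · intro s hs
    obtain ⟨s', rfl⟩ : s ∈ ι.range := hTr ▸ hs
    rw [← map_mul, ← map_mul]
    exact congrArg ι (Subtype.ext (hwc s' s'.2))
  · intro n hn
    have hrange : ∀ y ∈ U, ∃ v : S, (v : Ω) ∈ U ∧ cj n (FusionRealized87.up ι y) = ι v := by
      intro y hy
      rw [FusionRealized87.up_apply ι (Ws_le S hy)]
      obtain ⟨v, hv, hve⟩ := (hWe _).mp ((Subgroup.mem_normalizer_iff.mp hn _).mp
        ((hWe _).mpr ⟨⟨y, Ws_le S hy⟩, hy, rfl⟩))
      exact ⟨v, hv, hve.symm⟩
    have hm := FusionRealized87.mor_of_conj hι (Ws_le S) fun y hy =>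
      (hrange y hy).elim fun v hv => ⟨v, hv.2.symm⟩
    have hfix := (hB U _ hm (le_inf (Ws_le S) fun y hy => hnU y (Ws_le S hy))
      (fun y hy => ⟨hm.apply_mem hy, hnU _ (hm.apply_mem hy)⟩)
      ⟨fun y => FusionRealized87.down ι (cj n (FusionRealized87.up ι y)),
        by rwa [sup_idem], fun _ _ => rfl, hm.im_self fun y hy => by
          obtain ⟨v, hv, hve⟩ := hrange y hy
          rw [hve, ← FusionRealized87.up_apply ι v.2, FusionRealized87.down_up hι v.2]
          exact hv⟩ w hWzU).mp rfl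
    obtain ⟨v, -, hve⟩ := hrange w hWzU
    simp only [hve, ← FusionRealized87.up_apply ι v.2, FusionRealized87.down_up hι v.2] at hfix
    obtain rfl : v = ⟨w, hwS⟩ := Subtype.ext hfix
    rw [FusionRealized87.up_apply ι hwS, cj_apply, mul_inv_eq_iff_eq_mul] at hve
    exact hve
  obtain ⟨-, hfS, g, hg⟩ := (FusionRealized87.mor_iff hι).mp hf
  refine FusionRealized87.up_inj hι (hfS w hwP) hwS ?_
  rw [hg w hwP, FusionRealized87.up_apply ι hwS, cj_apply,
    Subgroup.mem_center_iff.mp hcen g, mul_inv_cancel_right]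

/-- Glauberman's theorem for free systems at the prime 2. -/
theorem mem_center_of_free {F : FusionSystem S} (hS : IsPGroup 2 S) (hF : F.IsSaturated 2)
    (hfree : F.IsSectionFree 2 (Equiv.Perm (Fin 4)))
    (N : FusionSystem (normalizerIn S (thompsonSubgroupAOf S)))
    (hN : F.IsNormalizerSystem (thompsonSubgroupAOf S) N) {z : Ω} (hz : z ∈ N.center) :
    z ∈ F.center := by
  haveI := finite_normalizerIn (S := S) (thompsonSubgroupAOf S)
  obtain ⟨hZS, hext⟩ := isCentral_iff.mp (center_isCentral (F := N))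
  obtain ⟨hzS, hzc⟩ := ThompsonAGlauberman.mem_center_normalizer N hN hz
  have key : ∀ v ∈ S, (∀ g ∈ S, g * v = v * g) → v ∈ N.center →
      ∀ P f, Mor F P f → v ∈ P → f v = v := by
    intro v hvS hvc hv P f hf hvP
    have hB : OnNormalizer F (Ws (fun (Q : Type u) [Group Q] => thompsonSubgroupA Q) S) (Keep v) :=
      fun P f hf hP hf' hx => keep_of_fix (fun P f hf hzP => by
        obtain ⟨f', -, hag, hid⟩ := hext P f hf
        rw [← hag _ hzP, hid _ hv]) ((mor_normalizerSystem_iff hN).mpr ⟨hf, hP, hf', hx⟩)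
    exact ((induction_less (M := fun {Ω} _ {S} _ E => Fx2 E)
      (fun F₀ h₀ h₁ IH => step2 h₀ h₁ IH) F hS hF (free_qd_of_free hfree) v hvS hvc hB) P f hf v hvP).mp rfl
  refine le_center (isCentral_of_fixed hS hF (Subgroup.zpowers_le.mpr hzS) fun x hx y hy => ?_)
    (Subgroup.mem_zpowers z)
  obtain ⟨φ, hφ, rfl⟩ := hy
  obtain ⟨j, rfl⟩ := Subgroup.mem_zpowers_iff.mp hx
  have h := key (z ^ j) (S.zpow_mem hzS j)
    (fun g hg => (Commute.zpow_right (hzc g hg : Commute g z) j)) (Subgroup.zpow_mem _ hz j) _ _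
    (mor_toFun hφ) (Subgroup.mem_zpowers _)
  rw [toFun_apply φ (Subgroup.mem_zpowers _)] at h
  exact h

end Cfsg.Agent.FusionGlaubermanFree
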