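import Cfsg.Agent.Lib.FusionSysModel
import Cfsg.Agent.Lib.FusionSysGroup
import Cfsg.Agent.Lib.FusionQd

/-!
Models of the normalizer systems of centric subgroups in the fusion system of a finite group:
`N_G(Q)` modulo the `p'`-part of `C_G(Q)`.
-/

set_option autoImplicit false

universe u v

namespace Cfsg.Agent.FusionGroupModel

open scoped Pointwise
open Cfsg Cfsg.FusionSystem Cfsg.Agent.FusionSysBasic Cfsg.Agent.FusionSysSaturated
  Cfsg.Agent.FusionSysGroup Cfsg.Agent.FusionSysNormal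

variable {G : Type u} [Group G] [Finite G] {p : ℕ} [Fact p.Prime]

theorem eq_one_of_coprime_pow {x : G} {a b : ℕ} (ha : x ^ a = 1) (hb : x ^ b = 1)
    (h : a.Coprime b) : x = 1 := by
  have := pow_gcd_eq_one.mpr ⟨ha, hb⟩
  rwa [h.gcd_eq_one, pow_one] at this

theorem pow_card_eq_one_of_mem {H : Subgroup G} {x : G} (hx : x ∈ H) : x ^ Nat.card H = 1 :=
  congrArg Subtype.val (pow_card_eq_one' (x := (⟨x, hx⟩ : H)))

theorem inf_eq_bot_of_coprime {A D : Subgroup G} (hA : IsPGroup p A)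
    (hD : (Nat.card D).Coprime p) : A ⊓ D = ⊥ := by
  obtain ⟨n, hn⟩ := IsPGroup.iff_card.mp hA
  refine (Subgroup.eq_bot_iff_forall _).mpr fun x hx => ?_
  exact eq_one_of_coprime_pow (pow_card_eq_one_of_mem hx.1) (pow_card_eq_one_of_mem hx.2)
    (by rw [hn]; exact Nat.Coprime.pow_left n hD.symm)

/-- A `p`-subgroup of `X ⊔ D` is moved into `X` by an element of `D`. -/
theorem exists_conj_le_of_le_sup {X D A : Subgroup G} [D.Normal] (hX : IsPGroup p X)
    (hD : (Nat.card D).Coprime p) (hA : IsPGroup p A) (hle : A ≤ X ⊔ D) :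
    ∃ d ∈ D, ∀ a ∈ A, cj d a ∈ X := by
  classical
  let K : Subgroup G := X ⊔ D
  have hXK : X ≤ K := le_sup_left
  have hXD := inf_eq_bot_of_coprime hX hD
  have hcard : Nat.card K = Nat.card X * Nat.card D := by
    have h1 : Nat.card K = Nat.card ((X : Set G) * (D : Set G) : Set G) := by
      rw [← Subgroup.mul_normal X D]; rfl
    have hinj : Function.Injective fun q : X × D => (q.1 : G) * q.2 := by
      intro a b e
      have e' : (b.1 : G)⁻¹ * a.1 = b.2 * (a.2 : G)⁻¹ := by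
        simp only at e
        rw [eq_mul_inv_iff_mul_eq, mul_assoc, e, inv_mul_cancel_left]
      have hm : (b.1 : G)⁻¹ * a.1 ∈ X ⊓ D :=
        ⟨mul_mem (Subgroup.inv_mem _ b.1.2) a.1.2, e' ▸ mul_mem b.2.2 (Subgroup.inv_mem _ a.2.2)⟩
      rw [hXD, Subgroup.mem_bot, inv_mul_eq_one] at hm
      have h1 : a.1 = b.1 := Subtype.ext hm.symm
      refine Prod.ext h1 (Subtype.ext ?_)
      simp only [h1] at e
      exact mul_left_cancel e
    rw [h1, ← Nat.card_prod, Nat.card_congr (Equiv.ofInjective _ hinj)]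
    refine congrArg (fun s : Set G => Nat.card s) ?_
    ext y
    simp [Set.mem_mul]
  have hsyl : SylIn p X K := by
    rw [sylIn_iff_card hXK, hcard, Nat.factorization_mul Nat.card_pos.ne' Nat.card_pos.ne']
    obtain ⟨n, hn⟩ := IsPGroup.iff_card.mp hX
    have h0 : (Nat.card D).factorization p = 0 :=
      Nat.factorization_eq_zero_of_not_dvd
        ((Fact.out (p := p.Prime)).coprime_iff_not_dvd.mp hD.symm)
    simp [hn, h0, (Fact.out (p := p.Prime)).factorization_self]
  obtain ⟨T, hT⟩ := hsyl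
  obtain ⟨T', hT'⟩ := (hA.of_equiv (Subgroup.subgroupOfEquivOfLe hle).symm).exists_le_sylow
  obtain ⟨k, hk⟩ := MulAction.exists_smul_eq K T' T
  obtain ⟨x, hx, d, hd, hxd⟩ := Subgroup.mem_sup_of_normal_right.mp k.2
  refine ⟨d, hd, fun a ha => ?_⟩
  have h1 : k * ⟨a, hle ha⟩ * k⁻¹ ∈ (T : Subgroup K) := by
    rw [← hk]
    exact ⟨⟨a, hle ha⟩, hT' ha, rfl⟩
  rw [hT, Subgroup.mem_subgroupOf] at h1
  simp only [Subgroup.coe_mul, InvMemClass.coe_inv, ← hxd] at h1
  have h2 := mul_mem (mul_mem (Subgroup.inv_mem _ hx) h1) hx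
  rw [cj_apply]
  convert h2 using 1
  group

/-- A section with trivial `O_{p'}` passes to the quotient by a normal `p'`-subgroup. -/
theorem involves_quotient_pPrime {X : Type v} [Group X] (D : Subgroup G) [D.Normal]
    (hD : (Nat.card D).Coprime p)
    (hX : ∀ W : Subgroup X, W.Normal → (Nat.card W).Coprime p → W = ⊥)
    (h : Cfsg.Involves X G) : Cfsg.Involves X (G ⧸ D) := by
  obtain ⟨K, f, hf⟩ := FusionQd.exists_hom_of_involves h
  have hW : (D.subgroupOf K).map f = ⊥ := by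
    refine hX _ (Subgroup.Normal.map Subgroup.normal_subgroupOf f hf) ?_
    refine hD.coprime_dvd_left ?_
    refine (Subgroup.card_map_dvd (f := f) (D.subgroupOf K)).trans ?_
    have : Function.Injective fun x : D.subgroupOf K => (⟨((x : K) : G), x.2⟩ : D) :=
      fun a b e => Subtype.ext (Subtype.ext (congrArg Subtype.val e :))
    exact Subgroup.card_dvd_of_injective
      (MonoidHom.mk' (fun x : D.subgroupOf K => (⟨((x : K) : G), x.2⟩ : D)) fun _ _ => rfl) this
  have hker : (D.subgroupOf K) ≤ f.ker := (Subgroup.map_eq_bot_iff _).mp hW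
  let q : K →* ↥(K.map (QuotientGroup.mk' D)) := (QuotientGroup.mk' D).subgroupMap K
  have hq : Function.Surjective q := (QuotientGroup.mk' D).subgroupMap_surjective K
  have hqk : q.ker ≤ f.ker := fun x hx => hker (by
    rw [MonoidHom.mem_ker] at hx
    rw [Subgroup.mem_subgroupOf, ← QuotientGroup.eq_one_iff]
    exact congrArg Subtype.val hx)
  let g := MonoidHom.liftOfSurjective q hq ⟨f, hqk⟩
  refine FusionQd.involves_of_hom g fun y => ?_
  obtain ⟨x, rfl⟩ := hf y
  exact ⟨q x, MonoidHom.liftOfRightInverse_comp_apply _ _ _ ⟨f, hqk⟩ x⟩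

open QdStructure56 in
theorem qd_pPrime_eq_bot_aux (W' : Subgroup (Qd (ZMod p))) (hW' : W'.Normal)
    (hc : (Nat.card W').Coprime p) : W' = ⊥ := by
  have hWT : W' ⊓ transl (ZMod p) = ⊥ := by
    rw [inf_comm]
    exact inf_eq_bot_of_coprime (p := p) transl_isPGroup hc
  refine (Subgroup.eq_bot_iff_forall _).mpr fun w hw => ?_
  have hblk : blk w = 1 := by
    refine eq_one_of_mulVec fun v _ => ?_
    have ht : trn (Multiplicative.ofAdd v) ∈ transl (ZMod p) := mem_transl.mpr (by simp [trn])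
    have h1 : w * trn (Multiplicative.ofAdd v) * w⁻¹ * (trn (Multiplicative.ofAdd v))⁻¹ ∈
        W' ⊓ transl (ZMod p) := by
      refine ⟨?_, mul_mem (transl_normal.conj_mem _ ht w) (Subgroup.inv_mem _ ht)⟩
      rw [mul_assoc w, mul_assoc w]
      exact mul_mem hw (hW'.conj_mem _ (Subgroup.inv_mem _ hw) _)
    rw [hWT, Subgroup.mem_bot, mul_inv_eq_one] at h1
    have := conj_transl w ht
    rw [h1] at this
    simpa [trn] using this.symm
  have : w ∈ W' ⊓ transl (ZMod p) := ⟨hw, mem_transl.mpr hblk⟩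
  rwa [hWT, Subgroup.mem_bot] at this

/-- `Qd(p)` has no nontrivial normal subgroup of order prime to `p`. -/
theorem qd_pPrime_eq_bot (W : Subgroup ↥(Cfsg.qd p)) (hW : W.Normal)
    (hc : (Nat.card W).Coprime p) : W = ⊥ :=
  qd_pPrime_eq_bot_aux W hW hc

/-- The `p'`-part of the centralizer of a centric subgroup. -/
theorem exists_centralizer_complement (S : Sylow p G) {Q : Subgroup G}
    (hfn : (groupFusionSystem (S : Subgroup G)).IsFullyNormalized Q)
    (hc : (groupFusionSystem (S : Subgroup G)).IsCentric Q) :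
    ∃ D : Subgroup G, D ≤ Subgroup.centralizer (Q : Set G) ∧ (Nat.card D).Coprime p ∧
      (∀ c ∈ Subgroup.centralizer (Q : Set G), ∃ z ∈ Q, ∃ d ∈ D, c = z * d) ∧
      ∀ n ∈ Subgroup.normalizer (Q : Set G), ∀ d ∈ D, n * d * n⁻¹ ∈ D := by
  have hQS : Q ≤ (S : Subgroup G) := hfn.1
  set C := Subgroup.centralizer (Q : Set G) with hC
  have hsyl := (sylIn_of_normalizer S.2 ((fullyNormalized_group_iff S hQS).mp hfn)).1
  have hCS : centralizerIn (S : Subgroup G) Q = Q ⊓ C := le_antisymm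
    (le_inf (hc.2 Q (FusionSysBasic.isConj_refl hQS)) inf_le_right) (inf_le_inf_right C hQS)
  let Z : Subgroup C := Q.subgroupOf C
  haveI hZn : Z.Normal := ⟨fun z hz g => by
    have e : (g : G) * (z : G) * (g : G)⁻¹ = z := by
      rw [← Subgroup.mem_centralizer_iff.mp g.2 z hz]; group
    show (g : G) * (z : G) * (g : G)⁻¹ ∈ Q
    rw [e]; exact hz⟩
  obtain ⟨T, hT⟩ := hsyl
  have hTZ : (T : Subgroup C) = Z := by
    rw [hT, hCS]
    ext x
    simp [Z, Subgroup.mem_subgroupOf]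
  have hco : (Nat.card Z).Coprime Z.index := by
    rw [← hTZ]; exact T.card_coprime_index
  obtain ⟨K, hK⟩ := Subgroup.exists_right_complement'_of_coprime hco
  have hKp : (Nat.card K).Coprime p := by
    rw [← hK.symm.index_eq_card, ← hTZ]
    exact ((Fact.out (p := p.Prime)).coprime_iff_not_dvd.mpr T.not_dvd_index).symm
  have hdec : ∀ c ∈ C, ∃ z ∈ Q, ∃ d ∈ K.map C.subtype, c = z * d := by
    intro c hc
    obtain ⟨⟨z, k⟩, e⟩ := hK.2 ⟨c, hc⟩
    exact ⟨_, z.2, _, ⟨k, k.2, rfl⟩, congrArg Subtype.val e.symm⟩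
  have hcard : Nat.card (K.map C.subtype) = Nat.card K :=
    Subgroup.card_map_of_injective C.subtype_injective
  refine ⟨K.map C.subtype, Subgroup.map_subtype_le K, by rwa [hcard], hdec, ?_⟩
  intro n hn d hd
  have hdC : d ∈ C := Subgroup.map_subtype_le K hd
  have hnC : n * d * n⁻¹ ∈ C := by
    refine Subgroup.mem_centralizer_iff.mpr fun q hq => ?_
    have e := Subgroup.mem_centralizer_iff.mp hdC _
      ((Subgroup.mem_normalizer_iff''.mp hn q).mp hq)
    calc q * (n * d * n⁻¹) = n * (n⁻¹ * q * n * d) * n⁻¹ := by group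
      _ = n * (d * (n⁻¹ * q * n)) * n⁻¹ := by rw [e]
      _ = n * d * n⁻¹ * q := by group
  obtain ⟨z, hz, d', hd', e⟩ := hdec _ hnC
  have hcomm : Commute z d' := Subgroup.mem_centralizer_iff.mp (Subgroup.map_subtype_le K hd') z hz
  have h1 : (n * d * n⁻¹) ^ Nat.card (K.map C.subtype) = 1 := by
    rw [conj_pow, pow_card_eq_one_of_mem hd, mul_one, mul_inv_cancel]
  rw [e, hcomm.mul_pow, pow_card_eq_one_of_mem hd', mul_one] at h1
  obtain ⟨a, ha⟩ := IsPGroup.iff_card.mp (S.2.to_le hQS)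
  have hz1 : z = 1 := eq_one_of_coprime_pow (ha ▸ pow_card_eq_one_of_mem hz) h1
    (by rw [hcard]; exact Nat.Coprime.pow_left a hKp.symm)
  rw [e, hz1, one_mul]
  exact hd'

/-- The model of the normalizer system of a centric subgroup in the fusion system of a group. -/
theorem exists_model (S : Sylow p G) {Q : Subgroup G}
    (hfn : (groupFusionSystem (S : Subgroup G)).IsFullyNormalized Q)
    (hc : (groupFusionSystem (S : Subgroup G)).IsCentric Q)
    {E : FusionSystem (normalizerIn (S : Subgroup G) Q)}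
    (hE : (groupFusionSystem (S : Subgroup G)).IsNormalizerSystem Q E) :
    ∃ (D : Subgroup (Subgroup.normalizer (Q : Set G))) (_ : D.Normal)
      (ι : ↥(normalizerIn (S : Subgroup G) Q) →* Subgroup.normalizer (Q : Set G) ⧸ D),
      (Nat.card D).Coprime p ∧ E.IsModel p (Subgroup.normalizer (Q : Set G) ⧸ D) ι := by
  have hQS : Q ≤ (S : Subgroup G) := hfn.1
  obtain ⟨D₀, hD₀C, hD₀p, hdec, hD₀n⟩ := exists_centralizer_complement S hfn hc
  let N := Subgroup.normalizer (Q : Set G)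
  let T := normalizerIn (S : Subgroup G) Q
  have hD₀N : D₀ ≤ N := hD₀C.trans (Subgroup.centralizer_le_normalizer _)
  let D : Subgroup N := D₀.subgroupOf N
  haveI hDn : D.Normal := ⟨fun d hd n => hD₀n n n.2 d hd⟩
  have hDp : (Nat.card D).Coprime p := by
    rwa [Nat.card_congr (Subgroup.subgroupOfEquivOfLe hD₀N).toEquiv]
  let π := QuotientGroup.mk' D
  let ι : T →* N ⧸ D := π.comp (Subgroup.inclusion (inf_le_right : T ≤ N))
  have hTp : IsPGroup p T := S.2.to_le inf_le_left
  let TN : Subgroup N := T.subgroupOf N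
  have hTNp : IsPGroup p TN :=
    hTp.of_equiv (Subgroup.subgroupOfEquivOfLe (inf_le_right : T ≤ N)).symm
  have hTD := inf_eq_bot_of_coprime hTNp hDp
  have hinj : Function.Injective ι := by
    rw [injective_iff_map_eq_one]
    intro t ht
    have h1 : Subgroup.inclusion (inf_le_right : T ≤ N) t ∈ TN ⊓ D :=
      ⟨t.2, (QuotientGroup.eq_one_iff _).mp ht⟩
    rw [hTD, Subgroup.mem_bot] at h1
    exact Subtype.ext (congrArg Subtype.val h1 :)
  -- membership in the normalizer system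
  have hmor : ∀ P : Subgroup G, P ≤ T → ∀ φ : P →* G, (∀ x : P, φ x ∈ T) →
      (φ ∈ E.Hom P ↔ ∃ n : N, ∀ x : P, φ x = (n : G) * x * (n : G)⁻¹) := by
    intro P hP φ hφ
    constructor
    · intro h
      obtain ⟨-, -, -, f', hf', hag, him⟩ := (mor_normalizerSystem_iff hE).mp (mor_toFun h)
      obtain ⟨-, g, hg, -⟩ := mor_group_iff.mp hf'
      refine ⟨⟨g, mem_normalizer_iff_im_cj.mpr ?_⟩, fun x => ?_⟩
      · rw [← im_congr fun x hx => hg x (Subgroup.mem_sup_right hx), him]
      · show φ x = cj g x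
        rw [← hg x (Subgroup.mem_sup_left x.2), hag x x.2, toFun_coe]
    · rintro ⟨n, hn⟩
      refine (mor_iff_hom (f := cj (n : G)) hn).mp ((mor_normalizerSystem_iff hE).mpr ?_)
      have hS' : ∀ x ∈ P, cj (n : G) x ∈ (S : Subgroup G) := fun x hx => by
        have h := (hφ ⟨x, hx⟩).1
        rwa [hn ⟨x, hx⟩] at h
      refine ⟨mor_group_iff.mpr ⟨hP.trans inf_le_left, n, fun _ _ => rfl, hS'⟩, hP,
        fun x hx => ?_, cj (n : G), ?_, fun _ _ => rfl, mem_normalizer_iff_im_cj.mp n.2⟩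
      · have h := hφ ⟨x, hx⟩
        rwa [hn ⟨x, hx⟩] at h
      · refine mor_group_iff.mpr ⟨sup_le (hP.trans inf_le_left) hQS, n, fun _ _ => rfl,
          fun x hx => ?_⟩
        have hle : P ⊔ Q ≤ (S : Subgroup G).comap (MulAut.conj (n : G)).toMonoidHom :=
          sup_le (fun y hy => hS' y hy) fun y hy => hQS ((Subgroup.mem_normalizer_iff.mp n.2 y).mp hy)
        exact hle hx
  have hreal : E.IsRealizedBy ι := by
    refine ⟨hinj, fun P hP φ hφ => ?_⟩
    rw [hmor P hP φ hφ]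
    constructor
    · rintro ⟨n, hn⟩
      refine ⟨π n, fun x => ?_⟩
      show π _ = π n * π _ * (π n)⁻¹
      rw [← map_inv, ← map_mul, ← map_mul]
      exact congrArg π (Subtype.ext (hn x))
    · rintro ⟨X, hX⟩
      obtain ⟨g, rfl⟩ := QuotientGroup.mk'_surjective D X
      let toN : P → N := fun x => ⟨φ x, (hφ x).2⟩
      let Y : Subgroup N := φ.range.subgroupOf N
      have hYT : Y ≤ TN := fun y hy => by
        obtain ⟨x, hx⟩ := hy
        show (y : G) ∈ T
        have h := hφ x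
        rwa [show φ x = (y : G) from hx] at h
      let A : Subgroup N := im (P.subgroupOf N) (cj g)
      have hPN : P.subgroupOf N ≤ TN := fun y hy => hP hy
      have hA : IsPGroup p A := by
        show IsPGroup p ↥(im (P.subgroupOf N) (cj g))
        rw [im_cj]
        exact (hTNp.to_le hPN).map _
      have hle : A ≤ Y ⊔ D := im_le_iff.mpr fun x hx => by
        have e : π (toN ⟨x, hx⟩) = π (g * x * g⁻¹) := by
          rw [map_mul, map_mul, map_inv]; exact hX ⟨x, hx⟩
        have h1 : (toN ⟨x, hx⟩)⁻¹ * (g * x * g⁻¹) ∈ D := QuotientGroup.eq.mp e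
        have h2 : cj g x = toN ⟨x, hx⟩ * ((toN ⟨x, hx⟩)⁻¹ * (g * x * g⁻¹)) := by
          rw [mul_inv_cancel_left]; rfl
        rw [h2]
        exact Subgroup.mul_mem_sup (show toN ⟨x, hx⟩ ∈ Y from ⟨⟨x, hx⟩, rfl⟩) h1
      obtain ⟨d, hd, hdA⟩ := exists_conj_le_of_le_sup (hTNp.to_le hYT) hDp hA hle
      refine ⟨d * g, fun x => ?_⟩
      have hxN : (x : G) ∈ N := (hP x.2).2
      set a : N := cj g ⟨x, hxN⟩ with ha
      have h1 : cj d a ∈ Y := hdA _ (apply_mem_im (show (⟨x, hxN⟩ : N) ∈ P.subgroupOf N from x.2))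
      have hdπ : π d = 1 := (QuotientGroup.eq_one_iff _).mpr hd
      have h2 : π (cj d a) = π (toN x) := by
        rw [cj_apply, map_mul, map_mul, map_inv, hdπ, one_mul, inv_one, mul_one, ha, cj_apply,
          map_mul, map_mul, map_inv]
        exact (hX x).symm
      have h3 : cj d a * (toN x)⁻¹ ∈ TN ⊓ D := by
        refine ⟨mul_mem (hYT h1) (Subgroup.inv_mem _ (hYT (show toN x ∈ Y from ⟨x, rfl⟩))), ?_⟩
        show _ ∈ D
        rw [← QuotientGroup.eq_one_iff]
        show π (cj d a * (toN x)⁻¹) = 1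
        rw [map_mul, map_inv, h2, mul_inv_cancel]
      rw [hTD, Subgroup.mem_bot, mul_inv_eq_one] at h3
      have e := congrArg Subtype.val h3
      simp only [ha, cj_apply, Subgroup.coe_mul, InvMemClass.coe_inv, toN] at e
      rw [← e]
      push_cast
      group
  obtain ⟨T₀, hT₀⟩ := (fullyNormalized_group_iff S hQS).mp hfn
  have hπ : Function.Surjective π := QuotientGroup.mk'_surjective D
  refine ⟨D, hDn, ι, hDp, inferInstance, hreal, ⟨T₀.mapSurjective hπ, ?_⟩, ?_⟩
  · rw [Sylow.coe_mapSurjective, hT₀, MonoidHom.range_comp]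
    exact congrArg (Subgroup.map π) (Subgroup.inclusion_range _).symm
  intro X hX
  obtain ⟨x, rfl⟩ := QuotientGroup.mk'_surjective D X
  have hQN : Q ≤ N := Subgroup.le_normalizer
  let QN : Subgroup N := Q.subgroupOf N
  haveI hQNn : QN.Normal := ⟨fun q hq n => (Subgroup.mem_normalizer_iff.mp n.2 q).mp hq⟩
  have hQp : IsPGroup p QN :=
    (S.2.to_le hQS).of_equiv (Subgroup.subgroupOfEquivOfLe hQN).symm
  have hQcore : QN.map π ≤ pCore p (N ⧸ D) :=
    le_sSup ⟨Subgroup.Normal.map hQNn π hπ, hQp.map π⟩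
  have hxC : (x : G) ∈ Subgroup.centralizer (Q : Set G) := by
    refine Subgroup.mem_centralizer_iff.mpr fun q hq => ?_
    have e := Subgroup.mem_centralizer_iff.mp hX _ (hQcore ⟨⟨q, hQN hq⟩, hq, rfl⟩)
    have h1 : (⟨q, hQN hq⟩ : N) * x * (⟨q, hQN hq⟩ : N)⁻¹ * x⁻¹ ∈ QN ⊓ D := by
      refine ⟨?_, ?_⟩
      · rw [mul_assoc (⟨q, hQN hq⟩ : N) x, mul_assoc (⟨q, hQN hq⟩ : N)]
        exact mul_mem hq (hQNn.conj_mem _ (Subgroup.inv_mem _ (show (⟨q, hQN hq⟩ : N) ∈ QN from hq)) x)
      · show _ ∈ D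
        rw [← QuotientGroup.eq_one_iff]
        show π _ = 1
        rw [map_mul, map_mul, map_mul, map_inv, map_inv, e, mul_inv_cancel_right, mul_inv_cancel]
    rw [inf_eq_bot_of_coprime hQp hDp, Subgroup.mem_bot, mul_inv_eq_one, mul_inv_eq_iff_eq_mul]
      at h1
    exact congrArg Subtype.val h1
  obtain ⟨z, hz, d, hd, e⟩ := hdec _ hxC
  have ex : x = (⟨z, hQN hz⟩ : N) * ⟨d, hD₀N hd⟩ := Subtype.ext e
  have hπd : π ⟨d, hD₀N hd⟩ = 1 := (QuotientGroup.eq_one_iff _).mpr hd
  rw [ex, map_mul, hπd, mul_one]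
  exact hQcore ⟨_, hz, rfl⟩

end Cfsg.Agent.FusionGroupModel
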