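import Cfsg.Agent.Lib.FusionSysAlperin
import Cfsg.Agent.Lib.FusionSysModel
import Cfsg.Agent.Lib.FusCentric

/-!
Fusion systems over Sylow subgroups of `SL₃(q)`: the centric radical proper subgroups are maximal
abelian, an essential one admits no nontrivial invariant subgroup of the centre, so a system with
a nontrivial core is constrained and hence realized by a model.
-/

set_option autoImplicit false

universe u

namespace Cfsg.Agent.FusionHeisenberg9

open Cfsg Cfsg.FusionSystem Cfsg.Agent.FusionSysBasic Cfsg.Agent.FusionSysSaturated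
  Cfsg.Agent.FusionSysNormal Cfsg.Agent.FusionSysAlperin

variable {Ω : Type u} [Group Ω] {S : Subgroup Ω}

/-- The centre of `S`. -/
abbrev zS (S : Subgroup Ω) : Subgroup Ω := centralizerIn S S

/-- The centralizer of an element in `S`. -/
def cS (S : Subgroup Ω) (x : Ω) : Subgroup Ω := S ⊓ Subgroup.centralizer {x}

theorem mem_cS {x y : Ω} : y ∈ cS S x ↔ y ∈ S ∧ y * x = x * y := by
  simp [cS, Subgroup.mem_centralizer_singleton_iff]

/-- The properties of a Sylow subgroup of `SL₃(q)` used here. -/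
structure Heis (S : Subgroup Ω) : Prop where
  nontriv : 1 < Nat.card (zS S)
  comm : ∀ x ∈ S, ∀ y ∈ S, x * y * x⁻¹ * y⁻¹ ∈ zS S
  card : Nat.card S = Nat.card (zS S) ^ 3
  cardC : ∀ x ∈ S, x ∉ zS S → Nat.card (cS S x) = Nat.card (zS S) ^ 2
  abel : ∀ x ∈ S, x ∉ zS S → ∀ y ∈ cS S x, ∀ w ∈ cS S x, y * w = w * y

variable {F : FusionSystem S} {p : ℕ}

theorem mem_zS {z : Ω} : z ∈ zS S ↔ z ∈ S ∧ ∀ x ∈ S, cj z x = x := mem_centralizerIn

theorem zS_le : zS S ≤ S := inf_le_left

theorem commute_zS {z x : Ω} (hz : z ∈ zS S) (hx : x ∈ S) : z * x = x * z :=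
  mul_inv_eq_iff_eq_mul.mp ((mem_zS.mp hz).2 x hx)

variable (H : Heis S)
include H

theorem le_normalizer [Finite S] {P : Subgroup Ω} (hPS : P ≤ S) (hZP : zS S ≤ P) :
    S ≤ Subgroup.normalizer (P : Set Ω) := fun g hg =>
  mem_normalizer_of_cj_le hPS fun x hx => by
    have := P.mul_mem (hZP (H.comm g hg x (hPS hx))) hx
    simpa [cj_apply] using this

theorem cS_eq [Finite S] {x a : Ω} (hx : x ∈ S) (hxZ : x ∉ zS S) (ha : a ∈ cS S x)
    (haZ : a ∉ zS S) : cS S a = cS S x := by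
  haveI := finite_of_le (S := S) (P := cS S a) inf_le_left
  refine (eq_of_le_of_card_ge inf_le_left (fun y hy => mem_cS.mpr ⟨(mem_cS.mp hy).1,
    H.abel x hx hxZ y hy a ha⟩) ?_).symm
  show Nat.card (cS S a) ≤ Nat.card (cS S x)
  rw [H.cardC x hx hxZ, H.cardC a (mem_cS.mp ha).1 haZ]

theorem exists_not_mem_zS {P : Subgroup Ω} (hc : F.IsCentric P) :
    ∃ x ∈ P, x ∉ zS S ∧ zS S ≤ P := by
  have hPS := hc.1
  have hCP := centralizerIn_le_of_centric hc
  have hZP : zS S ≤ P := fun z hz => hCP (mem_centralizerIn.mpr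
    ⟨zS_le hz, fun x hx => (mem_zS.mp hz).2 x (hPS hx)⟩)
  by_contra h
  push Not at h
  have hSZ : S ≤ zS S := fun s hs => by
    by_contra hsZ
    exact h s (hCP (mem_centralizerIn.mpr ⟨hs, fun x hx => by
      have hxZ : x ∈ zS S := by
        by_contra hxZ; exact h x hx hxZ hZP
      rw [cj_apply, ← commute_zS hxZ hs, mul_inv_cancel_right]⟩)) hsZ hZP
  have hcard := H.card
  rw [le_antisymm zS_le hSZ] at hcard
  have h1 := H.nontriv
  rw [le_antisymm zS_le hSZ] at h1
  exact absurd hcard (by have := Nat.pow_lt_pow_right h1 (show 1 < 3 by norm_num); rw [pow_one] at this; omega)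

/-- Centric radical subgroups other than `S` are centralizers of non-central elements. -/
theorem centric_radical [Finite S] [Fact p.Prime] (hS : IsPGroup p S) {P : Subgroup Ω}
    (hc : F.IsCentric P) (hr : F.IsRadical p P) (hne : P ≠ S) :
    ∃ x ∈ P, x ∉ zS S ∧ P = cS S x := by
  obtain ⟨x, hx, hxZ, hZP⟩ := exists_not_mem_zS H hc
  have hPS := hc.1
  refine ⟨x, hx, hxZ, ?_⟩
  by_cases hab : ∀ a ∈ P, ∀ b ∈ P, a * b = b * a
  · refine le_antisymm (fun a ha => mem_cS.mpr ⟨hPS ha, hab a ha x hx⟩) fun a ha => ?_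
    refine centralizerIn_le_of_centric hc (mem_centralizerIn.mpr ⟨ha.1, fun b hb => ?_⟩)
    rw [cj_apply, H.abel x (hPS hx) hxZ a ha b (mem_cS.mpr ⟨hPS hb, hab b hb x hx⟩),
      mul_inv_cancel_right]
  · push Not at hab
    obtain ⟨a, ha, b, hb, hne'⟩ := hab
    haveI := finite_of_le hPS
    have hcen : ∀ w ∈ P, (∀ y ∈ P, w * y = y * w) → w ∈ zS S := fun w hw hwP => by
      by_contra hwZ
      exact hne' (H.abel w (hPS hw) hwZ a (mem_cS.mpr ⟨hPS ha, (hwP a ha).symm⟩) b
        (mem_cS.mpr ⟨hPS hb, (hwP b hb).symm⟩))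
    let M : Subgroup (MulAut P) :=
      { carrier := {α | α ∈ F.autGroup P ∧ (∀ z ∈ zS S, afun α z = z) ∧
          ∀ y ∈ P, y⁻¹ * afun α y ∈ zS S}
        one_mem' := ⟨one_mem _, fun z hz => afun_one (hZP hz),
          fun y hy => by rw [afun_one hy, inv_mul_cancel]; exact one_mem _⟩
        mul_mem' := fun {α β} hα hβ => ⟨mul_mem hα.1 hβ.1,
          fun z hz => by rw [afun_mul _ _ (hZP hz), hβ.2.1 z hz, hα.2.1 z hz],
          fun y hy => by
            have h1 := (zS S).mul_mem (hβ.2.2 y hy) (hα.2.2 _ (afun_mem β hy))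
            rw [afun_mul _ _ hy]
            simpa [mul_assoc] using h1⟩
        inv_mem' := fun {α} hα => ⟨inv_mem hα.1,
          fun z hz => by conv_lhs => rw [← hα.2.1 z hz]; rw [afun_inv_apply _ (hZP hz)],
          fun y hy => by
            have h1 := (zS S).inv_mem (hα.2.2 _ (afun_mem α⁻¹ hy))
            rw [afun_apply_inv _ hy] at h1
            simpa using h1⟩ }
    have hMp : IsPGroup p M := by
      rintro ⟨α, hα, h1, h2⟩
      obtain ⟨k, hk⟩ := pow_eq_one_of_stabilizes (n := 2) (hS.to_le hPS)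
        (fun i => if i = 0 then ⊥ else if i = 1 then zS S else P) (α := α) rfl rfl
        (fun i => by split_ifs <;> [exact bot_le; exact hZP; exact le_rfl])
        (fun i hi => by interval_cases i <;> simp [hZP])
        (fun i hi y hy => by
          interval_cases i
          · simp only [zero_add, one_ne_zero, ↓reduceIte] at hy
            simp [h1 y hy]
          · simp only [show (1 + 1 : ℕ) ≠ 0 by omega, show (1 + 1 : ℕ) ≠ 1 by omega,
              ↓reduceIte] at hy
            simpa using h2 y hy)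
      exact ⟨k, Subtype.ext (by simpa using hk)⟩
    have hinv : ∀ α ∈ F.autGroup P, ∀ z ∈ zS S, afun α z ∈ zS S := fun α hα z hz => by
      refine hcen _ (afun_mem α (hZP hz)) fun y hy => ?_
      have hm := (mem_autGroup hPS).mp hα
      rw [← afun_apply_inv α hy, ← hm.map_mul (hZP hz) (afun_mem _ hy),
        ← hm.map_mul (afun_mem _ hy) (hZP hz), commute_zS hz (hPS (afun_mem _ hy))]
    exfalso
    refine hne (le_antisymm hPS (le_of_normal_pSubgroup hS hc hr le_rfl
      (hPS.trans Subgroup.le_normalizer) (M := M) (fun α hα => hα.1) hMp ?_ ?_))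
    · intro α hα m hm
      refine ⟨mul_mem (mul_mem hα hm.1) (inv_mem hα), fun z hz => ?_, fun y hy => ?_⟩
      · rw [afun_mul _ _ (hZP hz), afun_mul _ _ (afun_mem _ (hZP hz)),
          hm.2.1 _ (hinv _ (inv_mem hα) z hz), afun_apply_inv _ (hZP hz)]
      · rw [afun_mul _ _ hy, afun_mul _ _ (afun_mem _ hy)]
        have hy' := afun_mem α⁻¹ hy
        have h1 := hm.2.2 _ hy'
        have h2 := hinv α hα _ h1
        have hmm := (mem_autGroup hPS).mp hα
        rwa [hmm.map_mul (P.inv_mem hy') (afun_mem _ hy'), hmm.map_inv hy',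
          afun_apply_inv _ hy] at h2
    · intro g _
      refine ⟨autInducedBy_le hPS (autInducedBy_eq_range S P ▸ ⟨g, rfl⟩), fun z hz => ?_,
        fun y hy => ?_⟩
      · rw [afun_nHom _ (hZP hz), cj_apply, ← commute_zS hz g.2.1, mul_inv_cancel_right]
      · rw [afun_nHom _ hy]
        have := H.comm y⁻¹ (S.inv_mem (hPS hy)) _ g.2.1
        simpa [cj_apply, mul_assoc] using this

/-- An essential subgroup has no nontrivial invariant subgroup in the centre. -/
theorem eq_bot_of_essential [Finite S] [Fact p.Prime] (hS : IsPGroup p S) (hF : F.IsSaturated p)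
    {E Q : Subgroup Ω} (hE : F.IsEssential p E) (hQ : F.IsNormal Q) (hQZ : Q ≤ zS S) : Q = ⊥ := by
  have hlt := essential_lt hS hF hE
  have hr := radical_of_essential hS hE
  obtain ⟨x, hxE, hxZ, hEx⟩ := centric_radical H hS hE.1 hr hlt.ne
  have hES := hlt.le
  have hxS := hES hxE
  have hab : ∀ a ∈ E, ∀ b ∈ E, a * b = b * a := fun a ha b hb =>
    H.abel x hxS hxZ a (hEx ▸ ha) b (hEx ▸ hb)
  have hZE : zS S ≤ E := fun z hz => hEx ▸ mem_cS.mpr ⟨zS_le hz, commute_zS hz hxS⟩
  have hEn : S ≤ Subgroup.normalizer (E : Set Ω) := le_normalizer H hES hZE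
  have hfix : ∀ g ∈ S, g ∉ E → ∀ a ∈ E, cj g a = a → a ∈ zS S := fun g hg hgE a ha he => by
    by_contra haZ
    exact hgE (hEx ▸ cS_eq H hxS hxZ (hEx ▸ ha) haZ ▸
      mem_cS.mpr ⟨hg, mul_inv_eq_iff_eq_mul.mp he⟩)
  set A := F.autGroup E
  set T := autInducedBy S E
  haveI := finite_autGroup (F := F) E
  haveI := finite_of_le hES
  have hTA : T ≤ A := autInducedBy_le hES
  have hTsyl : SylIn p T A := (fullyAutomized_of_fullyNormalized hS hF hE.2.1).2
  have hInn : Inn E = ⊥ := by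
    rw [eq_bot_iff]
    rintro _ ⟨e, rfl⟩
    refine Subgroup.mem_bot.mpr (MulEquiv.ext fun y => Subtype.ext ?_)
    show (e : Ω) * y * (e : Ω)⁻¹ = y
    rw [hab e e.2 y y.2, mul_inv_cancel_right]
  have hT : ∀ t ∈ T, t ≠ 1 → ∀ a ∈ E, afun t a = a → a ∈ zS S := by
    intro t ht ht1 a ha he
    obtain ⟨g, hg, -, hge⟩ := mem_autInducedBy.mp ht
    refine hfix g hg (fun hgE => ht1 (afun_ext fun y hy => ?_)) a ha ((hge a ha).symm.trans he)
    rw [hge y hy, afun_one hy, cj_apply, hab g hgE y hy, mul_inv_cancel_right]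
  -- the stabilizer of the series `E > Z > 1`
  have hTM : ∀ t ∈ T, (∀ z ∈ zS S, afun t z = z) ∧ ∀ y ∈ E, y⁻¹ * afun t y ∈ zS S := by
    intro t ht
    obtain ⟨g, hg, -, hge⟩ := mem_autInducedBy.mp ht
    refine ⟨fun z hz => ?_, fun y hy => ?_⟩
    · rw [hge z (hZE hz), cj_apply, ← commute_zS hz hg, mul_inv_cancel_right]
    · rw [hge y hy]
      have := H.comm y⁻¹ (S.inv_mem (hES hy)) g hg
      simpa [cj_apply, mul_assoc] using this
  have hmax : ∀ δ ∈ A, im (zS S) (afun δ) ≤ zS S → ∀ t ∈ T, δ * t * δ⁻¹ ∈ T := by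
    intro δ hδ hδZ t ht
    have hm := (mem_autGroup hES).mp hδ
    have hδ' : ∀ z ∈ zS S, afun δ⁻¹ z ∈ zS S := by
      intro z hz
      have e : im (zS S) (afun δ) = zS S := (hm.restrict_to hZE).im_eq_of_le zS_le hδZ le_rfl
      obtain ⟨w, hw, rfl⟩ := (hm.restrict_to hZE).mem_im.mp (e.symm ▸ hz)
      rwa [afun_inv_apply _ (hZE hw)]
    let M : Subgroup (MulAut E) :=
      { carrier := {α | α ∈ A ∧ (∀ z ∈ zS S, afun α z = z) ∧ ∀ y ∈ E, y⁻¹ * afun α y ∈ zS S}
        one_mem' := ⟨one_mem _, fun z hz => afun_one (hZE hz),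
          fun y hy => by rw [afun_one hy, inv_mul_cancel]; exact one_mem _⟩
        mul_mem' := fun {α β} hα hβ => ⟨mul_mem hα.1 hβ.1,
          fun z hz => by rw [afun_mul _ _ (hZE hz), hβ.2.1 z hz, hα.2.1 z hz],
          fun y hy => by
            have h1 := (zS S).mul_mem (hβ.2.2 y hy) (hα.2.2 _ (afun_mem β hy))
            rw [afun_mul _ _ hy]
            simpa [mul_assoc] using h1⟩
        inv_mem' := fun {α} hα => ⟨inv_mem hα.1,
          fun z hz => by conv_lhs => rw [← hα.2.1 z hz]; rw [afun_inv_apply _ (hZE hz)],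
          fun y hy => by
            have h1 := (zS S).inv_mem (hα.2.2 _ (afun_mem α⁻¹ hy))
            rw [afun_apply_inv _ hy] at h1
            simpa using h1⟩ }
    have hMp : IsPGroup p M := by
      rintro ⟨α, hα, h1, h2⟩
      obtain ⟨k, hk⟩ := pow_eq_one_of_stabilizes (n := 2) (hS.to_le hES)
        (fun i => if i = 0 then ⊥ else if i = 1 then zS S else E) (α := α) rfl rfl
        (fun i => by split_ifs <;> [exact bot_le; exact hZE; exact le_rfl])
        (fun i hi => by interval_cases i <;> simp [hZE])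
        (fun i hi y hy => by
          interval_cases i
          · simp only [zero_add, one_ne_zero, ↓reduceIte] at hy
            simp [h1 y hy]
          · simp only [show (1 + 1 : ℕ) ≠ 0 by omega, show (1 + 1 : ℕ) ≠ 1 by omega,
              ↓reduceIte] at hy
            simpa using h2 y hy)
      exact ⟨k, Subtype.ext (by simpa using hk)⟩
    have hMA : M ≤ A := fun α hα => hα.1
    have hTleM : T ≤ M := fun s hs => ⟨hTA hs, hTM s hs⟩
    have hMT : M = T := by
      obtain ⟨T₀, hT₀⟩ := hTsyl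
      have h := T₀.is_maximal' (hMp.of_equiv (Subgroup.subgroupOfEquivOfLe hMA).symm)
        (hT₀ ▸ fun y hy => hTleM hy)
      exact le_antisymm (fun y hy => (h.trans hT₀).le (show (⟨y, hMA hy⟩ : A) ∈ M.subgroupOf A from hy))
        hTleM
    rw [← hMT]
    refine ⟨mul_mem (mul_mem hδ (hTA ht)) (inv_mem hδ), fun z hz => ?_, fun y hy => ?_⟩
    · rw [afun_mul _ _ (hZE hz), afun_mul _ _ (afun_mem _ (hZE hz)), (hTM t ht).1 _ (hδ' z hz),
        afun_apply_inv _ (hZE hz)]
    · rw [afun_mul _ _ hy, afun_mul _ _ (afun_mem _ hy)]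
      have hy' := afun_mem δ⁻¹ hy
      have h1 := (hTM t ht).2 _ hy'
      have h2 := hδZ (apply_mem_im (f := afun δ) h1)
      rwa [hm.map_mul (E.inv_mem hy') (afun_mem _ hy'), hm.map_inv hy',
        afun_apply_inv _ hy] at h2
  -- `T` is not normal
  obtain ⟨g, hgS, hgE⟩ := SetLike.exists_of_lt hlt
  set t₀ := nHom S E ⟨g, hgS, hEn hgS⟩
  have ht₀ : t₀ ∈ T := by
    show _ ∈ autInducedBy S E
    rw [autInducedBy_eq_range]
    exact ⟨_, rfl⟩
  have ht₀1 : t₀ ≠ 1 := fun e => hxZ (hfix g hgS hgE x hxE (by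
    rw [← afun_nHom (⟨g, hgS, hEn hgS⟩ : ↥(S ⊓ Subgroup.normalizer (E : Set Ω))) hxE]
    show afun t₀ x = x
    rw [e, afun_one hxE]))
  obtain ⟨γ, hγ, hγZ⟩ : ∃ γ ∈ A, ¬ im (zS S) (afun γ) ≤ zS S := by
    by_contra hall
    push Not at hall
    haveI : (T.subgroupOf A).Normal := ⟨fun t ht a => hmax a a.2 (hall a a.2) t ht⟩
    have h1 : T.subgroupOf A ≤ pCore p A :=
      le_sSup (s := {N : Subgroup A | N.Normal ∧ IsPGroup p N})
        ⟨inferInstance, (isPGroup_autInducedBy hS E).of_equiv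
          (Subgroup.subgroupOfEquivOfLe hTA).symm⟩
    have h2 : t₀ ∈ Inn E := hr.2 ▸ ⟨⟨t₀, hTA ht₀⟩, h1 ht₀, rfl⟩
    rw [hInn, Subgroup.mem_bot] at h2
    exact ht₀1 h2
  have hγm := (mem_autGroup hES).mp hγ
  obtain ⟨a, ha, haZ⟩ := SetLike.not_le_iff_exists.mp hγZ
  obtain ⟨a₀, ha₀, rfl⟩ := (hγm.restrict_to hZE).mem_im.mp ha
  have haE : afun γ a₀ ∈ E := afun_mem γ (hZE ha₀)
  set a := afun γ a₀
  have hQinv : ∀ α ∈ A, ∀ q ∈ Q, afun α q ∈ Q := fun α hα q hq =>
    normal_invariant hQ ((mem_autGroup hES).mp hα) (hZE (hQZ hq)) hq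
  let Ga : Subgroup (MulAut E) :=
    { carrier := {δ | δ ∈ A ∧ a⁻¹ * afun δ a ∈ Q}
      one_mem' := ⟨one_mem _, by rw [afun_one haE, inv_mul_cancel]; exact one_mem _⟩
      mul_mem' := fun {α β} hα hβ => ⟨mul_mem hα.1 hβ.1, by
        have hm := (mem_autGroup hES).mp hα.1
        have h1 := Q.mul_mem hα.2 (hQinv α hα.1 _ hβ.2)
        rw [hm.map_mul (E.inv_mem haE) (afun_mem _ haE), hm.map_inv haE] at h1
        rw [afun_mul _ _ haE]
        simpa [mul_assoc] using h1⟩
      inv_mem' := fun {α} hα => ⟨inv_mem hα.1, by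
        have hm := (mem_autGroup hES).mp (inv_mem hα.1)
        have h1 := Q.inv_mem (hQinv _ (inv_mem hα.1) _ hα.2)
        rw [hm.map_mul (E.inv_mem haE) (afun_mem _ haE), hm.map_inv haE,
          afun_inv_apply _ haE] at h1
        simpa using h1⟩ }
  set T' := T.map (MulAut.conj γ).toMonoidHom
  have hGA : Ga ≤ A := fun δ hδ => hδ.1
  have hT'G : T' ≤ Ga := by
    rintro _ ⟨t, ht, rfl⟩
    refine ⟨mul_mem (mul_mem hγ (hTA ht)) (inv_mem hγ), ?_⟩
    show a⁻¹ * afun (γ * t * γ⁻¹) a ∈ Q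
    rw [afun_mul _ _ haE, afun_mul _ _ (afun_mem _ haE), afun_inv_apply _ (hZE ha₀),
      (hTM t ht).1 a₀ ha₀, inv_mul_cancel]
    exact one_mem _
  have hT'syl : SylIn p T' Ga := by
    have hcard : Nat.card T' = Nat.card T :=
      (Nat.card_congr (Subgroup.equivMapOfInjective T _ (MulAut.conj γ).injective).toEquiv).symm
    have hTc := (sylIn_iff_card hTA).mp hTsyl
    refine (sylIn_iff_card hT'G).mpr (le_antisymm ?_ ?_)
    · obtain ⟨k, hk⟩ := IsPGroup.iff_card.mp ((isPGroup_autInducedBy hS E).map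
        (MulAut.conj γ).toMonoidHom)
      rw [hk]
      refine Nat.pow_le_pow_right (Fact.out (p := p.Prime)).pos
        (((Fact.out (p := p.Prime)).pow_dvd_iff_le_factorization Nat.card_pos.ne').mp ?_)
      rw [← hk]
      exact Subgroup.card_dvd_of_le hT'G
    · rw [hcard, hTc]
      refine Nat.pow_le_pow_right (Fact.out (p := p.Prime)).pos ?_
      exact (Nat.factorization_le_iff_dvd Nat.card_pos.ne' Nat.card_pos.ne').mpr
        (Subgroup.card_dvd_of_le hGA) p
  have hfree : ∀ t ∈ T, a⁻¹ * afun t a ∈ Q → t = 1 := by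
    intro t ht hta
    by_contra ht1
    obtain ⟨δ, hδ, hδT⟩ := sylIn_absorb hT'syl
      ((isPGroup_autInducedBy hS E).to_le (inf_le_left : T ⊓ Ga ≤ T)) inf_le_right
    obtain ⟨t', ht', hte⟩ := hδT t ⟨ht, hTA ht, hta⟩
    have hte' : γ * t' * γ⁻¹ = δ * t * δ⁻¹ := hte
    set ε := γ⁻¹ * δ with hε
    have hεA : ε ∈ A := mul_mem (inv_mem hγ) hδ.1
    have he : ε * t * ε⁻¹ = t' := by
      rw [show ε * t * ε⁻¹ = γ⁻¹ * (δ * t * δ⁻¹) * γ by rw [hε]; group, ← hte']
      group
    have hεZ : im (zS S) (afun ε) ≤ zS S := im_le_iff.mpr fun z hz => by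
      refine hT t' ht' (fun e1 => ht1 ?_) _ (afun_mem ε (hZE hz)) ?_
      · rw [e1] at he
        calc t = ε⁻¹ * (ε * t * ε⁻¹) * ε := by group
          _ = 1 := by rw [he]; group
      · rw [← he, afun_mul _ _ (afun_mem _ (hZE hz)),
          afun_mul _ _ (afun_mem _ (afun_mem _ (hZE hz))), afun_inv_apply _ (hZE hz),
          (hTM t ht).1 z hz]
    have hεm := (mem_autGroup hES).mp hεA
    have e : im (zS S) (afun ε) = zS S := (hεm.restrict_to hZE).im_eq_of_le zS_le hεZ le_rfl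
    -- `δ` moves `Z` onto the conjugate centre, which contains `a`
    obtain ⟨z, hz, hza⟩ := (hεm.restrict_to hZE).mem_im.mp (e.symm ▸ ha₀)
    have hδz : afun δ z = a := by
      show afun δ z = afun γ a₀
      rw [← hza, hε, afun_mul _ _ (hZE hz), afun_apply_inv _ (afun_mem _ (hZE hz))]
    have h1 := (Ga.inv_mem hδ).2
    rw [← hδz, afun_inv_apply _ (hZE hz)] at h1
    have h2 : a⁻¹ * z ∈ zS S := hQZ (hδz ▸ h1)
    exact haZ (by
      have := (zS S).mul_mem hz ((zS S).inv_mem h2)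
      simpa [mul_assoc] using this)
  haveI := finite_of_le (S := S) (P := zS S) zS_le
  have hcardT : Nat.card (zS S) ≤ Nat.card T := by
    have h1 := card_normalizerIn S E
    have h2 : FusionSystem.normalizerIn S E = S := inf_eq_left.mpr hEn
    have h3 : FusionSystem.centralizerIn S E = E := le_antisymm
      (centralizerIn_le_of_centric hE.1)
      fun e he => mem_centralizerIn.mpr ⟨hES he, fun y hy => by
        rw [cj_apply, hab e he y hy, mul_inv_cancel_right]⟩
    rw [h2, h3, H.card, show Nat.card E = Nat.card (cS S x) by rw [hEx], H.cardC x hxS hxZ,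
      pow_succ _ 2, mul_comm (Nat.card (zS S) ^ 2)] at h1
    exact (Nat.eq_of_mul_eq_mul_right (pow_pos Nat.card_pos 2) h1).le
  let f : T → zS S ⧸ Q.subgroupOf (zS S) := fun t =>
    QuotientGroup.mk ⟨a⁻¹ * afun (t : MulAut E) a, (hTM t t.2).2 a haE⟩
  have hf : Function.Injective f := by
    intro s t hst
    have hq : (a⁻¹ * afun (s : MulAut E) a)⁻¹ * (a⁻¹ * afun (t : MulAut E) a) ∈ Q :=
      Subgroup.mem_subgroupOf.mp (QuotientGroup.eq.mp (show (QuotientGroup.mk (s := Q.subgroupOf (zS S)) (⟨_, (hTM s s.2).2 a haE⟩ : zS S)) = QuotientGroup.mk ⟨_, (hTM t t.2).2 a haE⟩ from hst))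
    refine Subtype.ext (inv_mul_eq_one.mp (hfree _ (mul_mem (inv_mem s.2) t.2) ?_))
    have hm := (mem_autGroup hES).mp (inv_mem (hTA s.2))
    have h1 := hQinv _ (inv_mem (hTA s.2)) _ hq
    rw [mul_inv_rev, inv_inv, mul_assoc, mul_inv_cancel_left,
      hm.map_mul (E.inv_mem (afun_mem _ haE)) (afun_mem _ haE), hm.map_inv (afun_mem _ haE),
      afun_inv_apply _ haE] at h1
    rwa [afun_mul _ _ haE]
  have h1 := hcardT.trans (Nat.card_le_card_of_injective f hf)
  have h2 := (Q.subgroupOf (zS S)).card_eq_card_quotient_mul_card_subgroup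
  have h3 : Nat.card (Q.subgroupOf (zS S)) = 1 := by
    have hpos : 0 < Nat.card (zS S ⧸ Q.subgroupOf (zS S)) := Nat.card_pos
    have hpos' : 0 < Nat.card (Q.subgroupOf (zS S)) := Nat.card_pos
    by_contra hne1
    have : Nat.card (zS S ⧸ Q.subgroupOf (zS S)) * 2 ≤
        Nat.card (zS S ⧸ Q.subgroupOf (zS S)) * Nat.card (Q.subgroupOf (zS S)) :=
      Nat.mul_le_mul_left _ (by omega)
    omega
  rw [Nat.card_congr (Subgroup.subgroupOfEquivOfLe hQZ).toEquiv] at h3
  exact Subgroup.eq_bot_of_card_eq Q h3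

omit H in
/-- The maps preserving `E`. -/
def presSystem (F : FusionSystem S) (E : Subgroup Ω) (hn : S ≤ Subgroup.normalizer (E : Set Ω)) :
    FusionSystem S where
  Hom R := {φ | φ ∈ F.Hom R ∧ ∀ x : R, ((x : Ω) ∈ E ↔ φ x ∈ E)}
  le_of_mem h := F.le_of_mem h.1
  injective_of_mem h := F.injective_of_mem h.1
  conj_mem {R g} hR hg := ⟨F.conj_mem hR hg, fun x => Subgroup.mem_normalizer_iff.mp (hn hg) x⟩
  comp_mem {R Q φ ψ} hφ hψ h := ⟨F.comp_mem hφ.1 hψ.1 h, fun x => (hφ.2 x).trans (hψ.2 ⟨φ x, h x⟩)⟩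
  inv_mem {R φ} hφ := by
    obtain ⟨ψ, hψ, hinv⟩ := F.inv_mem hφ.1
    refine ⟨ψ, ⟨hψ, ?_⟩, hinv⟩
    rintro ⟨_, x, rfl⟩
    rw [hinv x]
    exact (hφ.2 x).symm

/-- A system over a Heisenberg group with a nontrivial core is realizable. -/
theorem realizable_of_core [Finite S] [Fact p.Prime] (hS : IsPGroup p S) (hF : F.IsSaturated p)
    (hcore : F.core ≠ ⊥) : F.IsRealizable p := by
  set Q := F.core with hQdef
  have hQn : F.IsNormal Q := core_isNormal
  have hQE : ∀ P, F.IsEssential p P → Q ≤ P := fun P hP =>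
    normal_le_centric_radical hS hQn hP.1 (radical_of_essential hS hP)
  obtain ⟨N, hNn, hNc⟩ : ∃ N, F.IsNormal N ∧ F.IsCentric N := by
    by_cases hess : ∃ P, F.IsEssential p P
    swap
    · refine ⟨S, isNormal_of_le_centric_radical hS hF ?_ fun P hP => absurd ⟨P, hP⟩ hess,
        FusCentric.centric_top⟩
      exact stronglyClosed_iff.mpr ⟨le_rfl, fun P f _ hf x hx => hf.apply_mem hx⟩
    · obtain ⟨P₀, hP₀⟩ := hess
      obtain ⟨x, hxQ, hxZ⟩ := SetLike.not_le_iff_exists.mp fun hQZ =>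
        hcore (eq_bot_of_essential H hS hF hP₀ hQn hQZ)
      have hxS := hQn.1 hxQ
      set E := cS S x with hE
      have hEP : ∀ P, F.IsEssential p P → P = E := fun P hP => by
        obtain ⟨y, hy, hyZ, hPy⟩ := centric_radical H hS hP.1 (radical_of_essential hS hP)
          (essential_lt hS hF hP).ne
        rw [hPy, hE, cS_eq H (hP.1.1 hy) hyZ (hPy ▸ hQE P hP hxQ) hxZ]
      have hES : E ≤ S := inf_le_left
      have hZE : zS S ≤ E := fun z hz => mem_cS.mpr ⟨zS_le hz, commute_zS hz hxS⟩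
      have hn := le_normalizer H hES hZE
      have hauto : ∀ α ∈ F.autGroup S, ∀ y ∈ E, afun α y ∈ E := by
        intro α hα y hy
        have hm := (mem_autGroup le_rfl).mp hα
        have hxE : x ∈ E := mem_cS.mpr ⟨hxS, rfl⟩
        have hαxQ : afun α x ∈ Q := normal_invariant hQn hm hxS hxQ
        have hαxZ : afun α x ∉ zS S := fun hz => hxZ (mem_zS.mpr ⟨hxS, fun w hw => by
          refine hm.injOn (S.mul_mem (S.mul_mem hxS hw) (S.inv_mem hxS)) hw ?_
          show afun α (cj x w) = _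
          rw [hm.map_cj hxS hw]
          exact (mem_zS.mp hz).2 _ (hm.apply_mem hw)⟩)
        have h1 : afun α y ∈ cS S (afun α x) := mem_cS.mpr ⟨hm.apply_mem (hES hy), by
          rw [← hm.map_mul (hES hy) hxS, ← hm.map_mul hxS (hES hy), (mem_cS.mp hy).2]⟩
        have hαxE : afun α x ∈ E := hEP P₀ hP₀ ▸ hQE P₀ hP₀ hαxQ
        rwa [cS_eq H hxS hxZ hαxE hαxZ] at h1
      have hle : F ≤ presSystem F E hn := by
        refine alperin hS hF fun P hP α hα => ?_
        have hPS : P ≤ S := by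
          rcases hP with rfl | hP
          exacts [le_rfl, hP.1.1]
        refine Subgroup.subset_closure ⟨mor_afun_iff.mp ((mem_autGroup hPS).mp hα), fun y => ?_⟩
        show ((y : Ω) ∈ E ↔ ((α y : P) : Ω) ∈ E)
        rcases hP with rfl | hP
        · refine ⟨fun hy => by have := hauto α hα y hy; rwa [afun_coe] at this, fun hy => ?_⟩
          have := hauto α⁻¹ (inv_mem hα) _ hy
          rwa [afun_coe, MulAut.inv_apply_self] at this
        · have := hEP P hP
          subst this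
          exact iff_of_true y.2 (α y).2
      have hsc : F.StronglyClosed E := stronglyClosed_iff.mpr ⟨hES, fun P f hPE hf y hy => by
        obtain ⟨φ, hφ, he⟩ := hf
        rw [← he ⟨y, hy⟩]
        exact ((hle P hφ).2 ⟨y, hy⟩).mp (hPE hy)⟩
      have hEn : F.IsNormal E := isNormal_of_le_centric_radical hS hF hsc fun P hP => (hEP P hP).ge
      refine ⟨E, hEn, hES, fun R hR c hc => ?_⟩
      obtain ⟨f, hf, him⟩ := FusionSysBasic.isConj_iff.mp hR
      rw [← him, hf.im_self fun y hy => normal_invariant hEn hf hy hy] at hc ⊢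
      obtain ⟨hcS, hcf⟩ := mem_centralizerIn.mp hc
      exact mem_cS.mpr ⟨hcS, mul_inv_eq_iff_eq_mul.mp (hcf x (mem_cS.mpr ⟨hxS, rfl⟩))⟩
  let h : FusionSysModel.Hyp p F N := ⟨hS, hF, hNn, hNc⟩
  haveI := FusionSysModel.k0_normal h
  obtain ⟨hfin, hreal, hT, -⟩ := FusionSysModel.isModel h
  exact ⟨FusionSysModel.Model h, inferInstance, hfin, FusionSysModel.iota h, hreal, hT⟩

end Cfsg.Agent.FusionHeisenberg9
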