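import Mathlib
import Cfsg.Agent.Lib.FusionWeaklyNormal88
import Cfsg.Agent.Lib.FusionSysAlperin

/-!
A normal subgroup `K` of index prime to `p` in `Aut_F(T)` that contains `Aut_E(T)`, for `E` invariant
over `T`, gives a subsystem of index prime to `p` of `F` containing `E`.
-/

set_option autoImplicit false

namespace Cfsg.Agent.FusionKernelChar88

open Cfsg Cfsg.FusionSystem Cfsg.Agent.FusionSysBasic Cfsg.Agent.FusionSysSaturated
open Cfsg.Agent.FusionKit88 Cfsg.Agent.FusionPrimeIndex88 Cfsg.Agent.FusCentric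
open Cfsg.Agent.FusionWeaklyNormal88 Cfsg.Agent.FusionInduct88 Cfsg.Agent.FusionSysNormalizer
open Cfsg.Agent.FusionSysNormal (afun_map_mul)

variable {Ω : Type*} [Group Ω] {S T : Subgroup Ω} {F : FusionSystem S} {E : FusionSystem T}
  {K : Subgroup (MulAut T)} {p : ℕ}

/-- `K` contains `Aut_E(T)` and has index prime to `p` in `Aut_F(T)`. -/
structure KerLike (F : FusionSystem S) (E : FusionSystem T) (K : Subgroup (MulAut T)) (p : ℕ) :
    Prop where
  inv : E.IsInvariantIn F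
  sat : E.IsSaturated p
  le : K ≤ F.autGroup T
  aut : E.autGroup T ≤ K
  pow : ∀ β ∈ F.autGroup T, ∀ i : ℕ, β ^ p ^ i ∈ K → β ∈ K

/-- A member of `K` following a map of `E`. -/
def DecK (E : FusionSystem T) (K : Subgroup (MulAut T)) (Q : Subgroup Ω) (f : Ω → Ω) : Prop :=
  ∃ β ∈ K, ∃ e, Mor E Q e ∧ ∀ x ∈ Q, f x = afun β (e x)

theorem decK_comp (h : KerLike F E K p) {Q : Subgroup Ω} {f g : Ω → Ω} (hf : DecK E K Q f)
    (hg : DecK E K (im Q f) g) : DecK E K Q (g ∘ f) := by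
  obtain ⟨β, hβ, e₁, he₁, h1⟩ := hf
  obtain ⟨γ, hγ, e₂, he₂, h2⟩ := hg
  have h3 := inv_mor h.inv he₂ (inv_mem (h.le hβ))
  refine ⟨γ * β, mul_mem hγ hβ, _, he₁.comp h3 fun x hx => ?_, fun x hx => ?_⟩
  · have := apply_mem_im (f := afun β⁻¹) (apply_mem_im (f := f) hx)
    rwa [h1 x hx, afun_inv_apply β (he₁.apply_mem hx)] at this
  · have h4 : afun β (e₁ x) = f x := (h1 x hx).symm
    simp only [Function.comp_apply, inv_inv, h4]
    rw [afun_mul _ _ (afun_mem _ (he₂.apply_mem (apply_mem_im hx))),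
      afun_apply_inv β (he₂.apply_mem (apply_mem_im hx))]
    exact h2 _ (apply_mem_im hx)

theorem decK_inv (h : KerLike F E K p) {Q : Subgroup Ω} {f g : Ω → Ω} (hf : DecK E K Q f)
    (hQ : Mor F Q f) (hgf : ∀ x ∈ Q, g (f x) = x) : DecK E K (im Q f) g := by
  obtain ⟨β, hβ, e, he, h1⟩ := hf
  obtain ⟨ei, hei, heie, -, -⟩ := he.exists_inv
  have h3 := inv_mor h.inv hei (h.le hβ)
  have e' : im (im Q e) (afun β) = im Q f := by
    rw [he.im_comp]
    exact im_congr fun x hx => (h1 x hx).symm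
  rw [e'] at h3
  refine ⟨β⁻¹, inv_mem hβ, _, h3, fun y hy => ?_⟩
  obtain ⟨x, hx, rfl⟩ := hQ.mem_im.1 hy
  simp only [Function.comp_apply, h1 x hx, afun_inv_apply β (he.apply_mem hx), heie x hx]
  rw [afun_inv_apply β (he.le hx), ← h1 x hx, hgf x hx]

theorem img_inter (hT : F.StronglyClosed T) {P : Subgroup Ω} {f : Ω → Ω} (hf : Mor F P f) :
    im (P ⊓ T) f = im P f ⊓ T := by
  refine le_antisymm (le_inf (im_mono inf_le_left) (im_le_iff.2 fun x hx =>
    closed_apply' hT hf hx.1 hx.2)) fun y hy => ?_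
  obtain ⟨g, hg, hgf, -, -⟩ := hf.exists_inv
  obtain ⟨x, hx, rfl⟩ := hf.mem_im.1 hy.1
  exact apply_mem_im ⟨hx, hgf x hx ▸ closed_apply' hT hg hy.1 hy.2⟩

variable [Finite S] [Fact p.Prime]

theorem self_map (hT : F.StronglyClosed T) {f : Ω → Ω} (hf : Mor F T f) : im T f = T :=
  hf.im_self fun _ hx => closed_apply hT hf le_rfl hx

theorem mem_of_centric (hS : IsPGroup p S) (h : KerLike F E K p) {U : Subgroup Ω}
    (hU : E.IsCentric U) {β : MulAut T} (hβ : β ∈ F.autGroup T) (hm : Mor E U (afun β)) :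
    β ∈ K := by
  obtain ⟨i, hi⟩ := pow_mem_of_centric hS h.sat h.inv h.sat h.inv _ le_rfl hU hβ hm
  exact h.pow β hβ i (h.aut hi)

theorem dec_unique (hS : IsPGroup p S) (h : KerLike F E K p) {Q : Subgroup Ω}
    (hQ : E.IsCentric Q) {f e' : Ω → Ω} (hf : DecK E K Q f) {γ : MulAut T}
    (hγ : γ ∈ F.autGroup T) (he' : Mor E Q e') (hfe' : ∀ x ∈ Q, f x = afun γ (e' x)) :
    γ ∈ K := by
  obtain ⟨β, hβ, e, he, hfe⟩ := hf
  obtain ⟨ei, hei, heie, -, heiQ⟩ := he'.exists_inv
  have h2 : β⁻¹ * γ ∈ K := by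
    refine mem_of_centric hS h (centric_conj hQ (FusionSysBasic.isConj_iff.2 ⟨e', he', rfl⟩))
      (mul_mem (inv_mem (h.le hβ)) hγ) ((hei.comp he heiQ).congr fun y hy => ?_)
    obtain ⟨x, hx, rfl⟩ := he'.mem_im.1 hy
    rw [Function.comp_apply, heie x hx, afun_mul _ _ (he'.apply_mem hx), ← hfe' x hx, hfe x hx,
      afun_inv_apply β (he.apply_mem hx)]
  simpa using mul_mem hβ h2

/-- The maps of `E0` are members of `K` following maps of `E` on the `E`-centric subgroups. -/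
theorem decK_e0 (hS : IsPGroup p S) (h : KerLike F E K p) {P : Subgroup Ω} {f : Ω → Ω}
    (hf : Mor (E0 F p) P f) {Q : Subgroup Ω} (hQP : Q ≤ P) (hQ : E.IsCentric Q) :
    DecK E K Q f := by
  have hcl : F.StronglyClosed T := h.inv.2.1
  have hTS := hcl.1
  have := finite_of_le hTS
  let Φ : Subgroup Ω → (Ω → Ω) → Prop := fun P f => ∀ Q, Q ≤ P → E.IsCentric Q → DecK E K Q f
  have hΦ : Closed F (U := S) Φ :=
    { congr := fun {P f g} h1 he Q hQ hc => by
        obtain ⟨β, hβ, e, he', hfe⟩ := h1 Q hQ hc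
        exact ⟨β, hβ, e, he', fun x hx => (he x (hQ hx)).symm.trans (hfe x hx)⟩
      conj := fun {P s} hP hs Q hQ hc => by
        have hm := mor_cj (F := F) hTS hs
        obtain ⟨β, hβ, hβe⟩ := hm.exists_aut (self_map hcl hm)
        obtain ⟨j, hj⟩ := IsPGroup.iff_card.1 hS
        refine ⟨β, h.pow β hβ j ?_, fun x => x, mor_id hc.1, fun x hx => (hβe x (hc.1 hx)).symm⟩
        have hs1 : s ^ p ^ j = 1 := by
          rw [← hj]
          exact congrArg Subtype.val (pow_card_eq_one' (x := (⟨s, hs⟩ : S)))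
        have hpow : ∀ k : ℕ, ∀ x ∈ T, afun (β ^ k) x = cj (s ^ k) x := by
          intro k
          induction k with
          | zero => exact fun x hx => by simp [afun_one hx, cj_one]
          | succ k ihk =>
            intro x hx
            rw [pow_succ', pow_succ', afun_mul _ _ hx, hβe _ (afun_mem _ hx), ihk x hx, cj_cj]
        have e : β ^ p ^ j = 1 := afun_ext fun x hx => by
          rw [hpow _ x hx, hs1, cj_one, afun_one hx]
        rw [e]
        exact one_mem _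
      comp := fun {P R f g} hf _ _ _ hfR h1 h2 Q hQ hc =>
        decK_comp h (h1 Q hQ hc) (h2 _ (im_le_iff.2 fun x hx => hfR x (hQ hx))
          (centric_image h.inv hc (hf.restrict_to hQ)))
      inv := fun {P f g} hf hg _ hgf h1 Q hQ hc => by
        have hg' := hg.restrict_to hQ
        have hP0 : im Q g ≤ P := im_le_iff.2 fun y hy => by
          obtain ⟨x, hx, rfl⟩ := hf.mem_im.1 (hQ hy)
          rwa [hgf x hx]
        have e0 : im (im Q g) f = Q := by
          rw [hg'.im_comp]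
          refine (im_congr fun y hy => ?_).trans (im_id Q)
          obtain ⟨x, hx, rfl⟩ := hf.mem_im.1 (hQ hy)
          rw [Function.comp_apply, hgf x hx]
        have h2 := decK_inv h (g := g) (h1 _ hP0 (centric_image h.inv hc hg'))
          (hf.restrict_to hP0) fun x hx => hgf x (hP0 hx)
        rwa [e0] at h2 }
  have hgen : Gen F (subSystem le_rfl hΦ) p := by
    intro R hR α hα hk
    have hαm := (mem_autGroup hR).1 hα
    refine mor_subSystem.2 ⟨hαm, hR, fun x hx => hαm.apply_mem hx, fun Q hQ hc => ?_⟩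
    have hUc : E.IsCentric (R ⊓ T) := centric_upward hc (le_inf hQ hc.1) inf_le_right
    obtain ⟨β, hβ, e, he, hαe⟩ := inv_factor h.inv inf_le_right
      (hαm.restrict_to (inf_le_left : R ⊓ T ≤ R))
    have hUα : ∀ x ∈ R ⊓ T, ∀ k : ℕ, afun (α ^ k) x ∈ R ⊓ T := fun x hx k =>
      ⟨afun_mem _ hx.1, closed_apply' hcl ((mem_autGroup hR).1 (pow_mem hα k)) hx.1 hx.2⟩
    have hstep : ∀ k : ℕ, ∃ d, Mor E (R ⊓ T) d ∧
        ∀ x ∈ R ⊓ T, afun (α ^ k) x = afun (β ^ k) (d x) := by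
      intro k
      induction k with
      | zero => exact ⟨fun x => x, mor_id inf_le_right, fun x hx => by
          simp [afun_one hx.1, afun_one hx.2]⟩
      | succ k ihk =>
        obtain ⟨d, hd, hde⟩ := ihk
        have h3 := inv_mor h.inv he (inv_mem (pow_mem hβ k))
        refine ⟨_, hd.comp h3 fun x hx => ?_, fun x hx => ?_⟩
        · have := apply_mem_im (f := afun (β ^ k)⁻¹) (hUα x hx k)
          rwa [hde x hx, afun_inv_apply _ (hd.apply_mem hx)] at this
        · simp only [Function.comp_apply, inv_inv, ← hde x hx]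
          rw [pow_succ', afun_mul _ _ hx.1, hαe _ (hUα x hx k), pow_succ',
            afun_mul _ _ (afun_mem _ (he.apply_mem (hUα x hx k))),
            afun_apply_inv _ (he.apply_mem (hUα x hx k))]
    obtain ⟨k, hk⟩ := hk
    obtain ⟨d, hd, hde⟩ := hstep (p ^ k)
    obtain ⟨di, hdi, hdid, -, hdiU⟩ := hd.exists_inv
    have hβK : β ∈ K := by
      refine h.pow β hβ k (mem_of_centric hS h
        (centric_conj hUc (FusionSysBasic.isConj_iff.2 ⟨d, hd, rfl⟩)) (pow_mem hβ _)
        (hdi.congr fun y hy => ?_))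
      obtain ⟨x, hx, rfl⟩ := hd.mem_im.1 hy
      rw [hdid x hx, ← hde x hx, ← hk, pow_orderOf_eq_one, afun_one hx.1]
    exact ⟨β, hβK, e, he.restrict_to (le_inf hQ hc.1), fun x hx => hαe x ⟨hQ hx, hc.1 hx⟩⟩
  exact (mor_subSystem.1 (e0_min hgen hf)).2.2.2 Q hQP hQ

/-- The elements of `Aut_F(S)` whose restriction to `T` lies in `K`. -/
def hSub (h : KerLike F E K p) : Subgroup (MulAut S) where
  carrier := {a | a ∈ F.autGroup S ∧ ∃ β ∈ K, ∀ t ∈ T, afun β t = afun a t}
  one_mem' := ⟨one_mem _, 1, one_mem _, fun t ht => by rw [afun_one ht, afun_one (h.inv.2.1.1 ht)]⟩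
  mul_mem' {a b} := fun ⟨ha, β, hβ, he⟩ ⟨hb, γ, hγ, he'⟩ =>
    ⟨mul_mem ha hb, β * γ, mul_mem hβ hγ, fun t ht => by
      rw [afun_mul _ _ ht, afun_mul _ _ (h.inv.2.1.1 ht), he _ (afun_mem γ ht), he' t ht]⟩
  inv_mem' {a} := fun ⟨ha, β, hβ, he⟩ => ⟨inv_mem ha, β⁻¹, inv_mem hβ, fun t ht => by
    have h1 := he _ (afun_mem β⁻¹ ht)
    rw [afun_apply_inv β ht] at h1
    conv_rhs => rw [h1]
    exact (afun_inv_apply a (h.inv.2.1.1 (afun_mem β⁻¹ ht))).symm⟩

omit [Finite S] [Fact p.Prime] in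
theorem mem_hSub {h : KerLike F E K p} {a : MulAut S} :
    a ∈ hSub h ↔ a ∈ F.autGroup S ∧ ∃ β ∈ K, ∀ t ∈ T, afun β t = afun a t := Iff.rfl

theorem res_T (h : KerLike F E K p) {a : MulAut S} (ha : a ∈ F.autGroup S) :
    ∃ β ∈ F.autGroup T, ∀ t ∈ T, afun β t = afun a t := by
  have hm := ((mem_autGroup le_rfl).1 ha).restrict_to h.inv.2.1.1
  exact hm.exists_aut (self_map h.inv.2.1 hm)

theorem good_centric (hS : IsPGroup p S) (h : KerLike F E K p) {P : Subgroup Ω}
    (hU : E.IsCentric (P ⊓ T)) {a : MulAut S} (ha : a ∈ F.autGroup S)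
    (hm : Mor (E0 F p) P (afun a)) : a ∈ hSub h := by
  obtain ⟨β, hβ, hβe⟩ := res_T h ha
  exact ⟨ha, β, dec_unique hS h hU (decK_e0 hS h hm inf_le_left hU) hβ (mor_id inf_le_right)
    fun x hx => (hβe x hx.2).symm, hβe⟩

/-- The automorphisms of `P` that fix `P ∩ T` and act trivially on `P / (P ∩ T)`. -/
def bGroup (F : FusionSystem S) (T P : Subgroup Ω) : Subgroup (MulAut P) where
  carrier := {α | α ∈ F.autGroup P ∧ (∀ x ∈ P ⊓ T, afun α x = x) ∧
    ∀ x ∈ P, x⁻¹ * afun α x ∈ T}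
  one_mem' := ⟨one_mem _, fun x hx => afun_one hx.1, fun x hx => by
    rw [afun_one hx, inv_mul_cancel]; exact one_mem _⟩
  mul_mem' {u v} := fun ⟨hu, hu1, hu2⟩ ⟨hv, hv1, hv2⟩ => ⟨mul_mem hu hv, fun x hx => by
      rw [afun_mul _ _ hx.1, hv1 x hx, hu1 x hx], fun x hx => by
      rw [afun_mul _ _ hx]
      have h1 := mul_mem (hv2 x hx) (hu2 _ (afun_mem v hx))
      rwa [mul_assoc, mul_inv_cancel_left] at h1⟩
  inv_mem' {u} := fun ⟨hu, hu1, hu2⟩ => ⟨inv_mem hu, fun x hx => by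
      conv_lhs => rw [← hu1 x hx]
      exact afun_inv_apply u hx.1, fun x hx => by
      have h1 := inv_mem (hu2 _ (afun_mem u⁻¹ hx))
      rwa [afun_apply_inv u hx, mul_inv_rev, inv_inv] at h1⟩

theorem isPGroup_bGroup (hS : IsPGroup p S) {P : Subgroup Ω} (hP : P ≤ S) :
    IsPGroup p (bGroup F T P) := by
  intro γ
  obtain ⟨-, hfix, hu⟩ := γ.2
  obtain ⟨j, hj⟩ := IsPGroup.iff_card.1 hS
  refine ⟨j, Subtype.ext ?_⟩
  rw [Subgroup.coe_pow, Subgroup.coe_one]
  refine afun_ext fun x hx => ?_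
  have hq : x⁻¹ * afun (γ : MulAut P) x ∈ P ⊓ T :=
    ⟨P.mul_mem (P.inv_mem hx) (afun_mem _ hx), hu x hx⟩
  have hk : ∀ k : ℕ, afun ((γ : MulAut P) ^ k) x = x * (x⁻¹ * afun (γ : MulAut P) x) ^ k := by
    intro k
    induction k with
    | zero => simp [afun_one hx]
    | succ k ihk =>
      have hq' := (P ⊓ T).pow_mem hq k
      rw [pow_succ', afun_mul _ _ hx, ihk, afun_map_mul _ hx hq'.1,
        hfix _ hq', pow_succ', ← mul_assoc x, mul_inv_cancel_left]
  rw [hk, afun_one hx]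
  have h1 : (x⁻¹ * afun (γ : MulAut P) x) ^ p ^ j = 1 := by
    rw [← hj]
    exact congrArg Subtype.val (pow_card_eq_one' (x := (⟨_, hP hq.1⟩ : S)))
  rw [h1, mul_one]

theorem bGroup_transport (hcl : F.StronglyClosed T) {P Q : Subgroup Ω} {φ : Ω → Ω}
    (hφ : Mor F P φ) (him : im P φ = Q) {α : MulAut P} (hα : α ∈ bGroup F T P) :
    hφ.transport him α ∈ bGroup F T Q := by
  obtain ⟨hαF, hfix, hu⟩ := hα
  refine ⟨hφ.transport_mem him hαF, fun y hy => ?_, fun y hy => ?_⟩
  · have hy' : y ∈ im (P ⊓ T) φ := by rw [img_inter hcl hφ, him]; exact hy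
    obtain ⟨x, hx, rfl⟩ := (hφ.restrict_to inf_le_left).mem_im.1 hy'
    rw [hφ.afun_transport him α hx.1, hfix x hx]
  · obtain ⟨x, hx, rfl⟩ := hφ.mem_im.1 (him.symm ▸ hy)
    rw [hφ.afun_transport him α hx, ← hφ.map_inv hx, ← hφ.map_mul (P.inv_mem hx) (afun_mem α hx)]
    exact closed_apply' hcl hφ (P.mul_mem (P.inv_mem hx) (afun_mem α hx)) (hu x hx)

/-- The subgroup `P` enlarged by the elements inducing `bGroup`. -/
def pOne (F : FusionSystem S) (T P : Subgroup Ω) : Subgroup Ω := P ⊔ nK S P (bGroup F T P)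

theorem pOne_normalizes {P : Subgroup Ω} (hP : P ≤ S) :
    pOne F T P ≤ Subgroup.normalizer (P : Set Ω) :=
  sup_le Subgroup.le_normalizer (nK_normalizes hP)

theorem pOne_into (hcl : F.StronglyClosed T) {Q Q' : Subgroup Ω} {g : Ω → Ω}
    (hg : Mor F (pOne F T Q) g) (hQ : im Q g = Q') {x : Ω} (hx : x ∈ pOne F T Q) :
    g x ∈ pOne F T Q' := by
  refine mor_sup_induction hg (fun a ha => Subgroup.mem_sup_left (hQ ▸ apply_mem_im ha))
    (fun n hn => Subgroup.mem_sup_right ?_) hx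
  have hnP : n ∈ pOne F T Q := Subgroup.mem_sup_right hn
  have hgQ : Mor F Q g := hg.restrict_to le_sup_left
  obtain ⟨hnS, l, hl, hle⟩ := mem_nK.1 hn
  refine mem_nK.2 ⟨hg.apply_mem hnP, hgQ.transport hQ l, bGroup_transport hcl hgQ hQ hl,
    fun y hy => ?_⟩
  obtain ⟨a, ha, rfl⟩ := hgQ.mem_im.1 (hQ.symm ▸ hy)
  rw [hgQ.afun_transport hQ l ha, hle a ha, hg.map_cj hnP (Subgroup.mem_sup_left ha)]

theorem lt_pOne (hS : IsPGroup p S) (hF : F.IsSaturated p) (h : KerLike F E K p)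
    {P : Subgroup Ω} (hP : F.IsFullyNormalized P) (hPc : F.IsCentric P)
    (hU : ¬ E.IsCentric (P ⊓ T)) : P < pOne F T P := by
  have hcl : F.StronglyClosed T := h.inv.2.1
  have hTS := hcl.1
  have hfinT := finite_of_le hTS
  have hPS := hP.1
  have hUS : P ⊓ T ≤ S := inf_le_left.trans hPS
  obtain ⟨U', hUU', hU'n⟩ := exists_fullyNormalized (F := F) hUS
  obtain ⟨ψ, hψ, -, hψU⟩ := exists_map_to_fullyNormalized hS hF hU'n hUU'
  have hPN : P ≤ normalizerIn S (P ⊓ T) := fun q hq =>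
    ⟨hPS hq, mem_normalizer_of_cj_le hUS fun x hx => ⟨P.mul_mem (P.mul_mem hq hx.1) (P.inv_mem hq),
      closed_apply hcl (mor_cj (F := F) hTS (hPS hq)) le_rfl hx.2⟩⟩
  have hψP := hψ.restrict_to hPN
  have hU'eq : im P ψ ⊓ T = U' := by rw [← img_inter hcl hψP, hψU]
  have hU'T : U' ≤ T := hU'eq ▸ inf_le_right
  have hnc : ¬ centralizerIn T U' ≤ U' := by
    intro hc
    refine hU ?_
    have hE' : E.IsCentric U' := centric_of_fullyCentralized
      (fullyCentralized_of_fullyNormalized (hS.to_le hTS) h.sat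
        (fullyNormalized_sub hS hF h.inv.1 hcl hU'T hU'n)) hc
    have hψU' := hψ.restrict_to (le_normalizerIn hUS)
    obtain ⟨ψi, hψi, hψiψ, -, -⟩ := hψU'.exists_inv
    have := centric_image h.inv (hψU ▸ hE' : E.IsCentric (im (P ⊓ T) ψ)) hψi
    rwa [hψU'.im_comp,
      show im (P ⊓ T) (ψi ∘ ψ) = P ⊓ T from (im_congr hψiψ).trans (im_id _)] at this
  set P' := im P ψ with hP'
  set C := centralizerIn T U' with hC
  have hP'S : P' ≤ S := hψP.im_le
  have hP'c : F.IsCentric P' := centric_conj hPc (FusionSysBasic.isConj_iff.2 ⟨ψ, hψP, rfl⟩)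
  have hP'C : P' ≤ Subgroup.normalizer (C : Set Ω) := fun q hq => by
    refine mem_normalizer_of_cj_le (inf_le_left.trans hTS) fun c hc => mem_centralizerIn.2
      ⟨closed_apply hcl (mor_cj (F := F) hTS (hP'S hq)) le_rfl (mem_centralizerIn.1 hc).1,
        fun y hy => ?_⟩
    have hy' : cj q⁻¹ y ∈ U' := by
      rw [← hU'eq] at hy ⊢
      exact ⟨P'.mul_mem (P'.mul_mem (P'.inv_mem hq) hy.1) (P'.inv_mem (P'.inv_mem hq)),
        closed_apply hcl (mor_cj (F := F) hTS (S.inv_mem (hP'S hq))) le_rfl hy.2⟩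
    have h1 := (mem_centralizerIn.1 hc).2 _ hy'
    have h2 : cj q c = q * c * q⁻¹ := rfl
    rw [h2, ← cj_cj, ← cj_cj, h1, cj_cj_inv]
  have hWS : P' ⊔ C ≤ S := sup_le hP'S (inf_le_left.trans hTS)
  have hlt : P' < P' ⊔ C := lt_of_le_of_ne le_sup_left fun e => hnc fun c hc => by
    rw [← hU'eq]
    exact ⟨e.symm ▸ (Subgroup.mem_sup_right hc : c ∈ P' ⊔ C), hc.1⟩
  obtain ⟨w, hw, hwP⟩ := SetLike.exists_of_lt (lt_normalizerIn hS hlt hWS)
  obtain ⟨hwW, hwn⟩ := hw
  open scoped Pointwise in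
  have hw' : w ∈ ((P' : Set Ω) * (C : Set Ω)) := by
    rw [← Subgroup.coe_mul_of_left_le_normalizer_right P' C hP'C]
    exact hwW
  obtain ⟨q, hq, c, hc, rfl⟩ := Set.mem_mul.1 hw'
  have hcn : c ∈ Subgroup.normalizer (P' : Set Ω) := by
    have := mul_mem (inv_mem (Subgroup.le_normalizer hq)) hwn
    rwa [inv_mul_cancel_left] at this
  have hcP : c ∉ P' := fun hc' => hwP (P'.mul_mem hq hc')
  have hcS : c ∈ S := hTS hc.1
  -- the automorphism induced by `c`
  have hσF : nHom S P' ⟨c, hcS, hcn⟩ ∈ F.autGroup P' :=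
    autInducedBy_le hP'S ((autInducedBy_eq_range _ _).ge ⟨_, rfl⟩)
  have hσB : nHom S P' ⟨c, hcS, hcn⟩ ∈ bGroup F T P' := by
    refine ⟨hσF, fun x hx => ?_, fun x hx => ?_⟩
    · rw [afun_nHom _ hx.1]
      exact (mem_centralizerIn.1 hc).2 x (hU'eq ▸ hx)
    · rw [afun_nHom _ hx]
      have h1 : cj x⁻¹ c ∈ T :=
        closed_apply hcl (mor_cj (F := F) hTS (S.inv_mem (hP'S hx))) le_rfl hc.1
      have := T.mul_mem h1 (T.inv_mem hc.1)
      simpa [cj_apply, mul_assoc] using this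
  obtain ⟨ψi, hψi, hψiψ, -, -⟩ := hψP.exists_inv
  have hψiP : im P' ψi = P := by
    rw [hP', hψP.im_comp]
    exact (im_congr hψiψ).trans (im_id P)
  have hβB := bGroup_transport hcl hψi hψiP hσB
  -- `bGroup` is induced by `S`
  have := finite_autGroup (F := F) P
  obtain ⟨a, ha, haB⟩ := sylIn_absorb (fullyAutomized_of_fullyNormalized hS hF hP).2
    (isPGroup_bGroup (F := F) (T := T) hS hPS) (fun α hα => hα.1)
  obtain ⟨hβF, hfixβ, huβ⟩ := hβB
  have hβB' : a⁻¹ * hψi.transport hψiP (nHom S P' ⟨c, hcS, hcn⟩) * a ∈ bGroup F T P := by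
    refine ⟨mul_mem (mul_mem (inv_mem ha) hβF) ha, fun x hx => ?_, fun x hx => ?_⟩
    · have hx' : afun a x ∈ P ⊓ T :=
        ⟨afun_mem a hx.1, closed_apply' hcl ((mem_autGroup hPS).1 ha) hx.1 hx.2⟩
      rw [afun_mul _ _ hx.1, afun_mul _ _ hx'.1, hfixβ _ hx', afun_inv_apply a hx.1]
    · have hy := afun_mem a hx
      rw [afun_mul _ _ hx, afun_mul _ _ hy]
      have e : x⁻¹ = afun a⁻¹ (afun a x)⁻¹ := by
        rw [((mem_autGroup hPS).1 (inv_mem ha)).map_inv hy, afun_inv_apply a hx]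
      rw [e, ← afun_map_mul a⁻¹ (P.inv_mem hy) (afun_mem _ hy)]
      exact closed_apply' hcl ((mem_autGroup hPS).1 (inv_mem ha))
        (P.mul_mem (P.inv_mem hy) (afun_mem _ hy)) (huβ _ hy)
  have h1 := haB _ hβB'
  rw [show a * (a⁻¹ * hψi.transport hψiP (nHom S P' ⟨c, hcS, hcn⟩) * a) * a⁻¹ =
    hψi.transport hψiP (nHom S P' ⟨c, hcS, hcn⟩) by group] at h1
  obtain ⟨s, hs, -, hse⟩ := mem_autInducedBy.1 h1
  refine lt_of_le_of_ne le_sup_left fun e => hcP ?_
  have hsP : s ∈ P := e.symm ▸ (Subgroup.mem_sup_right (mem_nK.2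
    ⟨hs, _, ⟨hβF, hfixβ, huβ⟩, hse⟩) : s ∈ pOne F T P)
  have hq' : ψ s ∈ P' := apply_mem_im hsP
  have hdiff : (ψ s)⁻¹ * c ∈ P' := by
    refine hP'c.2 P' (FusionSysBasic.isConj_refl hP'S) (mem_centralizerIn.2
      ⟨S.mul_mem (S.inv_mem (hP'S hq')) hcS, fun y hy => ?_⟩)
    obtain ⟨x, hx, rfl⟩ := hψP.mem_im.1 hy
    have hcx : cj c (ψ x) ∈ P' := cj_mem_of_normalizer hcn hy
    have h2 : cj c (ψ x) = cj (ψ s) (ψ x) := by
      obtain ⟨z, hz, hze⟩ := hψP.mem_im.1 hcx
      rw [← hψP.map_cj hsP hx, ← hse x hx]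
      have h3 : afun (hψi.transport hψiP (nHom S P' ⟨c, hcS, hcn⟩)) x = ψi (cj c (ψ x)) := by
        conv_lhs => rw [← hψiψ x hx]
        rw [hψi.afun_transport hψiP _ hy, afun_nHom _ hy]
      rw [h3, ← hze, hψiψ z hz]
    rw [← cj_cj, h2, cj_inv_cj]
  have := P'.mul_mem hq' hdiff
  rwa [mul_inv_cancel_left] at this

/-- The members of `Aut_F(S)` agreeing with `E0` on a centric subgroup restrict to `K`. -/
theorem good_all (hS : IsPGroup p S) (hF : F.IsSaturated p) (h : KerLike F E K p) :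
    ∀ (n : ℕ) {P : Subgroup Ω} {a : MulAut S}, Nat.card S ≤ Nat.card P + n → F.IsCentric P →
      a ∈ F.autGroup S → Mor (E0 F p) P (afun a) → a ∈ hSub h := by
  have hcl : F.StronglyClosed T := h.inv.2.1
  have hTS := hcl.1
  intro n
  induction n using Nat.strong_induction_on with
  | _ n IH =>
  intro P a hn hPc ha hm
  by_cases hU : E.IsCentric (P ⊓ T)
  · exact good_centric hS h hU ha hm
  set c := Nat.card P with hcdef
  set H := hSub h with hH
  have hlt : ∀ {A B : Subgroup Ω}, A < B → B ≤ S → Nat.card A < Nat.card B := by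
    intro A B hAB hBS
    have := finite_of_le hBS
    exact lt_of_le_of_ne (Subgroup.card_le_of_le hAB.le)
      fun e => hAB.ne (Subgroup.eq_of_le_of_card_ge hAB.le e.ge)
  have IH' : ∀ {R : Subgroup Ω}, c < Nat.card R → F.IsCentric R → ∀ b ∈ F.autGroup S,
      Mor (E0 F p) R (afun b) → b ∈ H := by
    intro R hR hRc b hb hbm
    have := Subgroup.card_le_of_le hRc.1
    exact IH (Nat.card S - Nat.card R) (by omega) (by omega) hRc hb hbm
  have hgood : ∀ {R : Subgroup Ω}, c < Nat.card R → F.IsCentric R → ∀ R', F.IsConj R R' →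
      ∀ b ∈ F.autGroup S, Mor (E0 F p) R' (afun b) → b ∈ H := fun hR hRc R' hRR' =>
    IH' (by rwa [← isConj_card hRR']) (centric_conj hRc hRR')
  -- extension to `pOne`
  have hext : ∀ {Q : Subgroup Ω} {ξ : Ω → Ω} (R : Subgroup Ω), F.IsFullyNormalized (im Q ξ) →
      Q ≤ R → R ≤ normalizerIn S Q → F.IsCentric Q → c < Nat.card R → Mor (E0 F p) R ξ →
      ∃ g, Mor (EH F p H) (pOne F T Q) g ∧ ∀ x ∈ Q, g x = ξ x := by
    intro Q ξ R hQ' hQR hR hQc hcR hξ
    have hξQ := e0_le (hξ.restrict_to hQR)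
    have := finite_autGroup (F := F) (im Q ξ)
    obtain ⟨a', ha', haB⟩ := sylIn_absorb (fullyAutomized_of_fullyNormalized hS hF hQ').2
      (isPGroup_bGroup (F := F) (T := T) hS hQ'.1) (fun α hα => hα.1)
    have hsub : nK S Q (bGroup F T Q) ⊔ R ≤ extSub hξQ := by
      refine sup_le (fun n hn => ?_) fun r hr => ⟨(hR hr).1, (hR hr).2, ξ r, hξ.apply_mem hr,
        fun x hx => (e0_le hξ).map_cj hr (hQR hx)⟩
      obtain ⟨hnS, l, hl, hle⟩ := mem_nK.1 hn
      obtain ⟨hβF, hfixβ, huβ⟩ := bGroup_transport hcl hξQ rfl hl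
      have hβB' : a'⁻¹ * hξQ.transport rfl l * a' ∈ bGroup F T (im Q ξ) := by
        refine ⟨mul_mem (mul_mem (inv_mem ha') hβF) ha', fun x hx => ?_, fun x hx => ?_⟩
        · have hx' : afun a' x ∈ im Q ξ ⊓ T :=
            ⟨afun_mem a' hx.1, closed_apply' hcl ((mem_autGroup hQ'.1).1 ha') hx.1 hx.2⟩
          rw [afun_mul _ _ hx.1, afun_mul _ _ hx'.1, hfixβ _ hx', afun_inv_apply a' hx.1]
        · have hy := afun_mem a' hx
          rw [afun_mul _ _ hx, afun_mul _ _ hy]
          have e : x⁻¹ = afun a'⁻¹ (afun a' x)⁻¹ := by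
            rw [((mem_autGroup hQ'.1).1 (inv_mem ha')).map_inv hy, afun_inv_apply a' hx]
          rw [e, ← afun_map_mul a'⁻¹ (inv_mem hy) (afun_mem _ hy)]
          exact closed_apply' hcl ((mem_autGroup hQ'.1).1 (inv_mem ha'))
            (mul_mem (inv_mem hy) (afun_mem _ hy)) (huβ _ hy)
      have h1 := haB _ hβB'
      rw [show a' * (a'⁻¹ * hξQ.transport rfl l * a') * a'⁻¹ = hξQ.transport rfl l by group] at h1
      obtain ⟨s, hs, -, hse⟩ := mem_autInducedBy.1 h1
      refine ⟨hnS, nK_normalizes hξQ.le hn, s, hs, fun x hx => ?_⟩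
      rw [← hse _ (apply_mem_im hx), hξQ.afun_transport rfl l hx, hle x hx]
    obtain ⟨G, hG, hGe⟩ := (receptive_iff.1 (receptive_of_fullyNormalized hS hF hQ')).2 Q ξ
      (nK S Q (bGroup F T Q) ⊔ R) hξQ rfl (fun g hg => (hsub hg).1) (fun g hg => (hsub hg).2.1)
      fun g hg => (hsub hg).2.2
    have hRW : R ≤ Q ⊔ (nK S Q (bGroup F T Q) ⊔ R) := le_sup_right.trans' le_sup_right
    obtain ⟨z, hz, -, hze⟩ := extension_unique hS hF hQc hQR (hR.trans inf_le_right) (e0_le hξ)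
      (hG.restrict_to hRW) fun x hx => (hGe x hx).symm
    have hzR : z ∈ R := hQR hz
    have hGR : Mor (E0 F p) R G := by
      refine ((mor_cj (F := E0 F p) hξ.le (S.inv_mem (hξ.le hzR))).comp hξ fun x hx =>
        R.mul_mem (R.mul_mem (R.inv_mem hzR) hx) (R.inv_mem (R.inv_mem hzR))).congr fun x hx => ?_
      have hx' : cj z⁻¹ x ∈ R := R.mul_mem (R.mul_mem (R.inv_mem hzR) hx) (R.inv_mem (R.inv_mem hzR))
      rw [Function.comp_apply, hze _ hx', cj_cj_inv]
    have hGW := eh_of_centric hS hF (hgood hcR (centric_upward hQc hQR hξ.le)) hG hRW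
      (eh_of_e0 hGR)
    exact ⟨G, hGW.restrict_to (sup_le_sup_left le_sup_left _), hGe⟩
  -- the predicate
  let Φ : Subgroup Ω → (Ω → Ω) → Prop := fun P f => ∀ P', P' ≤ P → Nat.card P' = c →
    F.IsCentric P' → ¬ E.IsCentric (P' ⊓ T) →
    ∀ u v : Ω → Ω, Mor (E0 F p) (normalizerIn S P') u →
      Mor (E0 F p) (normalizerIn S (im P' f)) v → F.IsFullyNormalized (im P' u) →
      F.IsFullyNormalized (im (im P' f) v) →
      ∃ g, Mor (EH F p H) (pOne F T (im P' u)) g ∧ ∀ x ∈ P', g (u x) = v (f x)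
  have hmove : ∀ {P' R : Subgroup Ω} {f u v : Ω → Ω}, P' ≤ R → R ≤ normalizerIn S P' →
      F.IsCentric P' → c < Nat.card R → Mor (E0 F p) R f →
      Mor (E0 F p) (normalizerIn S P') u → Mor (E0 F p) (normalizerIn S (im P' f)) v →
      F.IsFullyNormalized (im (im P' f) v) →
      ∃ g, Mor (EH F p H) (pOne F T (im P' u)) g ∧ ∀ x ∈ P', g (u x) = v (f x) := by
    intro P' R f u v hPR hR hc' hcR hf hu hv hvn
    have huR := hu.restrict_to hR
    have huP := huR.restrict_to hPR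
    have hfP := hf.restrict_to hPR
    obtain ⟨ui, hui, huiu, -, huiR⟩ := huR.exists_inv
    have hfN : ∀ r ∈ R, f r ∈ normalizerIn S (im P' f) := fun r hr =>
      ⟨hf.apply_mem hr, apply_normalizes (e0_le hf) hPR hr (hR hr).2⟩
    have hξ := (hui.comp hf huiR).comp hv fun y hy => hfN _ (huiR y hy)
    have hval : ∀ x ∈ P', (v ∘ (f ∘ ui)) (u x) = v (f x) := fun x hx => by
      simp only [Function.comp_apply, huiu x (hPR hx)]
    have hn' : F.IsFullyNormalized (im (im P' u) (v ∘ (f ∘ ui))) := by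
      rw [huP.im_comp]
      rw [hfP.im_comp] at hvn
      rwa [show im P' ((v ∘ (f ∘ ui)) ∘ u) = im P' (v ∘ f) from im_congr fun x hx => hval x hx]
    obtain ⟨g, hg, hge⟩ := hext (im R u) hn' (im_mono hPR)
      (im_le_iff.2 fun r hr => mor_normalizer_mem hu (hPR.trans hf.le) rfl (hR hr))
      (centric_conj hc' (FusionSysBasic.isConj_iff.2 ⟨u, e0_le huP, rfl⟩))
      (by rwa [huR.card_im]) hξ
    exact ⟨g, hg, fun x hx => (hge _ (apply_mem_im hx)).trans (hval x hx)⟩
  have hnU : ∀ {A : Subgroup Ω} {f : Ω → Ω}, Mor F A f → ¬ E.IsCentric (A ⊓ T) →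
      ¬ E.IsCentric (im A f ⊓ T) := by
    intro A f hf hA hc'
    obtain ⟨fi, hfi, hfif, -, -⟩ := (hf.restrict_to (inf_le_left : A ⊓ T ≤ A)).exists_inv
    rw [← img_inter hcl hf] at hc'
    have := centric_image h.inv hc' hfi
    rw [(hf.restrict_to (inf_le_left : A ⊓ T ≤ A)).im_comp,
      show im (A ⊓ T) (fi ∘ f) = A ⊓ T from (im_congr hfif).trans (im_id _)] at this
    exact hA this
  have hne : ∀ {A : Subgroup Ω}, F.IsCentric A → ¬ E.IsCentric (A ⊓ T) → A < S := by
    intro A hA hA'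
    refine lt_of_le_of_ne hA.1 fun e => hA' ?_
    rw [e, inf_eq_right.2 hTS]
    have := finite_of_le hTS
    exact centric_top
  have hΦ : Closed F (U := S) Φ :=
    { congr := fun {P f g} h1 he P' hP' hc hPc hPU u v hu hv hun hvn => by
        have e : im P' f = im P' g := im_congr fun x hx => he x (hP' hx)
        obtain ⟨w, hw, hwe⟩ := h1 P' hP' hc hPc hPU u v hu (e ▸ hv) hun (e ▸ hvn)
        exact ⟨w, hw, fun x hx => (hwe x hx).trans (by rw [he x (hP' hx)])⟩
      conj := fun {P g} hP hg P' hP' hc hPc hPU u v hu hv _ hvn =>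
        hmove (le_normalizerIn hPc.1) le_rfl hPc
          (hc ▸ hlt (lt_normalizerIn hS (hne hPc hPU) le_rfl) inf_le_left)
          (mor_cj inf_le_left hg) hu hv hvn
      comp := fun {P Q f g} hf hg _ _ hfQ h1 h2 P' hP' hc hPc hPU u v hu hv hun hvn => by
        have hf' := hf.restrict_to hP'
        have hQ' : im P' f ≤ Q := im_le_iff.2 fun x hx => hfQ x (hP' hx)
        obtain ⟨w, hw, hwn⟩ := to_fn hS hF hf'.im_le
        rw [← hf'.im_comp] at hv hvn
        obtain ⟨g1, hg1, hg1e⟩ := h1 P' hP' hc hPc hPU u w hu hw hun hwn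
        obtain ⟨g2, hg2, hg2e⟩ := h2 _ hQ' (hf'.card_im.trans hc)
          (centric_conj hPc (FusionSysBasic.isConj_iff.2 ⟨f, hf', rfl⟩)) (hnU hf' hPU)
          w v hw hv hwn hvn
        have e : im (im P' u) g1 = im (im P' f) w := by
          rw [(hu.restrict_to (le_normalizerIn hPc.1)).im_comp, hf'.im_comp]
          exact im_congr hg1e
        refine ⟨g2 ∘ g1, hg1.comp hg2 fun x hx => pOne_into hcl (eh_le hg1) e hx, fun x hx => ?_⟩
        rw [Function.comp_apply, hg1e x hx, hg2e _ (apply_mem_im hx)]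
        rfl
      inv := fun {P f g} hf hg _ hgf h1 P' hP' hc hPc hPU u v hu hv hun hvn => by
        have hg' := hg.restrict_to hP'
        have hfg : ∀ y ∈ im P f, f (g y) = y := fun y hy => by
          obtain ⟨x, hx, rfl⟩ := hf.mem_im.1 hy
          rw [hgf x hx]
        have hP0 : im P' g ≤ P := im_le_iff.2 fun y hy => by
          obtain ⟨x, hx, rfl⟩ := hf.mem_im.1 (hP' hy)
          rwa [hgf x hx]
        have e0 : im (im P' g) f = P' := by
          rw [hg'.im_comp]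
          exact (im_congr fun y hy => hfg y (hP' hy)).trans (im_id P')
        obtain ⟨g1, hg1, hg1e⟩ := h1 _ hP0 (hg'.card_im.trans hc)
          (centric_conj hPc (FusionSysBasic.isConj_iff.2 ⟨g, hg', rfl⟩)) (hnU hg' hPU)
          v u hv (e0.symm ▸ hu) hvn (e0.symm ▸ hun)
        have e : im (im (im P' g) v) g1 = im P' u := by
          rw [(hv.restrict_to (le_normalizerIn hg'.im_le)).im_comp,
            show im (im P' g) (g1 ∘ v) = im (im P' g) (u ∘ f) from im_congr hg1e,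
            ← (hf.restrict_to hP0).im_comp, e0]
        obtain ⟨j, hj, hjg, -, -⟩ := hg1.exists_inv
        have hQ0 : F.IsCentric (im (im P' g) v) :=
          centric_conj (centric_conj hPc (FusionSysBasic.isConj_iff.2 ⟨g, hg', rfl⟩))
            (FusionSysBasic.isConj_iff.2
              ⟨v, e0_le (hv.restrict_to (le_normalizerIn hg'.im_le)), rfl⟩)
        have hsub : pOne F T (im P' u) ≤ im (pOne F T (im (im P' g) v)) g1 := by
          obtain ⟨hg1i, hg1im, hg1ie, hg1ei, -⟩ :=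
            ((eh_le hg1).restrict_to (le_sup_left :
              im (im P' g) v ≤ pOne F T (im (im P' g) v))).exists_inv
          rw [e] at hg1im hg1ei
          have hrec := (receptive_iff.1 (receptive_of_fullyNormalized hS hF hvn)).2
          have := finite_autGroup (F := F) (im (im P' g) v)
          obtain ⟨a', ha', haB⟩ := sylIn_absorb (fullyAutomized_of_fullyNormalized hS hF hvn).2
            (isPGroup_bGroup (F := F) (T := T) hS hvn.1) (fun α hα => hα.1)
          refine sup_le (by rw [← e]; exact im_mono le_sup_left) fun n hn => ?_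
          obtain ⟨hnS, l, hl, hle⟩ := mem_nK.1 hn
          have him : im (im P' u) hg1i = im (im P' g) v := by
            rw [← e, ((eh_le hg1).restrict_to (le_sup_left :
              im (im P' g) v ≤ pOne F T (im (im P' g) v))).im_comp]
            exact (im_congr hg1ie).trans (im_id _)
          obtain ⟨hβF, hfixβ, huβ⟩ := bGroup_transport hcl hg1im him hl
          have hβB' : a'⁻¹ * hg1im.transport him l * a' ∈
              bGroup F T (im (im P' g) v) := by
            refine ⟨mul_mem (mul_mem (inv_mem ha') hβF) ha', fun x hx => ?_, fun x hx => ?_⟩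
            · have hx' : afun a' x ∈ im (im P' g) v ⊓ T :=
                ⟨afun_mem a' hx.1, closed_apply' hcl ((mem_autGroup hvn.1).1 ha') hx.1 hx.2⟩
              rw [afun_mul _ _ hx.1, afun_mul _ _ hx'.1, hfixβ _ hx', afun_inv_apply a' hx.1]
            · have hy := afun_mem a' hx
              rw [afun_mul _ _ hx, afun_mul _ _ hy]
              have e' : x⁻¹ = afun a'⁻¹ (afun a' x)⁻¹ := by
                rw [((mem_autGroup hvn.1).1 (inv_mem ha')).map_inv hy, afun_inv_apply a' hx]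
              rw [e', ← afun_map_mul a'⁻¹ (inv_mem hy) (afun_mem _ hy)]
              exact closed_apply' hcl ((mem_autGroup hvn.1).1 (inv_mem ha'))
                (mul_mem (inv_mem hy) (afun_mem _ hy)) (huβ _ hy)
          have hb := haB _ hβB'
          rw [show a' * (a'⁻¹ * hg1im.transport him l * a') * a'⁻¹ = hg1im.transport him l by
            group] at hb
          obtain ⟨s, hs, -, hse⟩ := mem_autInducedBy.1 hb
          have hsP : s ∈ pOne F T (im (im P' g) v) :=
            Subgroup.mem_sup_right (mem_nK.2 ⟨hs, _, ⟨hβF, hfixβ, huβ⟩, hse⟩)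
          have hdiff : (g1 s)⁻¹ * n ∈ im P' u := by
            refine (centric_conj hQ0 (FusionSysBasic.isConj_iff.2
              ⟨g1, (eh_le hg1).restrict_to le_sup_left, e⟩)).2 _
              (FusionSysBasic.isConj_refl hun.1) (mem_centralizerIn.2
                ⟨S.mul_mem (S.inv_mem (hg1.apply_mem hsP)) hnS, fun y hy => ?_⟩)
            obtain ⟨x, hx, rfl⟩ := ((eh_le hg1).restrict_to (le_sup_left :
              im (im P' g) v ≤ pOne F T (im (im P' g) v))).mem_im.1 (e.symm ▸ hy)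
            have h2 : cj n (g1 x) = cj (g1 s) (g1 x) := by
              rw [← hg1.map_cj hsP (Subgroup.mem_sup_left hx), ← hle _ hy, ← hse x hx]
              have h3 : afun (hg1im.transport him l) x = hg1i (afun l (g1 x)) := by
                conv_lhs => rw [← hg1ie x hx]
                rw [hg1im.afun_transport him l hy]
              rw [h3, hg1ei _ (afun_mem l hy)]
            rw [← cj_cj, h2, cj_inv_cj]
          have := Subgroup.mul_mem _ (apply_mem_im (f := g1) hsP)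
            ((by rw [← e]; exact im_mono le_sup_left :
              im P' u ≤ im (pOne F T (im (im P' g) v)) g1) hdiff)
          rwa [mul_inv_cancel_left] at this
        refine ⟨j, hj.restrict_to hsub, fun y hy => ?_⟩
        have hy0 : g y ∈ im P' g := apply_mem_im hy
        have h2 := hjg _ (Subgroup.mem_sup_left (apply_mem_im hy0))
        rwa [hg1e _ hy0, hfg y (hP' hy)] at h2 }
  have hgen : Gen F (subSystem le_rfl hΦ) p := by
    intro R hR α hα hk
    have hαm := (mem_autGroup hR).1 hα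
    refine mor_subSystem.2 ⟨hαm, hR, fun x hx => hαm.apply_mem hx, ?_⟩
    intro P' hP' hc hPc hPU u v hu hv hun hvn
    rcases eq_or_lt_of_le hP' with rfl | hlt'
    · rw [im_afun] at hv hvn
      obtain ⟨g1, hg1, hg1e⟩ := hmove (le_normalizerIn hR) le_rfl hPc
        (hc ▸ hlt (lt_normalizerIn hS (hne hPc hPU) le_rfl) inf_le_left)
        (mor_id (inf_le_left : normalizerIn S P' ≤ S)) hu (by rwa [im_id]) (by rwa [im_id])
      have hv' := e0_le (hv.restrict_to (le_normalizerIn hR))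
      set Q := im P' v with hQ
      set α2 := hv'.transport rfl α with hα2def
      have hα2 : α2 ∈ F.autGroup Q := hv'.transport_mem rfl hα
      obtain ⟨k, hk⟩ := hk
      have hk2 : orderOf α2 = p ^ k := by rw [hα2def, MulEquiv.orderOf_eq, hk]
      have := finite_autGroup (F := F) Q
      obtain ⟨a', ha', haB⟩ := sylIn_absorb (fullyAutomized_of_fullyNormalized hS hF hvn).2
        (isPGroup_bGroup (F := F) (T := T) hS hvn.1) (fun α hα => hα.1)
      have hBS : ∀ β ∈ bGroup F T Q, β ∈ autInducedBy S Q := by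
        intro β hβ
        obtain ⟨hβF, hfixβ, huβ⟩ := hβ
        have hβB' : a'⁻¹ * β * a' ∈ bGroup F T Q := by
          refine ⟨mul_mem (mul_mem (inv_mem ha') hβF) ha', fun x hx => ?_, fun x hx => ?_⟩
          · have hx' : afun a' x ∈ Q ⊓ T :=
              ⟨afun_mem a' hx.1, closed_apply' hcl ((mem_autGroup hvn.1).1 ha') hx.1 hx.2⟩
            rw [afun_mul _ _ hx.1, afun_mul _ _ hx'.1, hfixβ _ hx', afun_inv_apply a' hx.1]
          · have hy := afun_mem a' hx
            rw [afun_mul _ _ hx, afun_mul _ _ hy]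
            have e' : x⁻¹ = afun a'⁻¹ (afun a' x)⁻¹ := by
              rw [((mem_autGroup hvn.1).1 (inv_mem ha')).map_inv hy, afun_inv_apply a' hx]
            rw [e', ← afun_map_mul a'⁻¹ (inv_mem hy) (afun_mem _ hy)]
            exact closed_apply' hcl ((mem_autGroup hvn.1).1 (inv_mem ha'))
              (mul_mem (inv_mem hy) (afun_mem _ hy)) (huβ _ hy)
        have h1 := haB _ hβB'
        rwa [show a' * (a'⁻¹ * β * a') * a'⁻¹ = β by group] at h1
      have hαm2 := (mem_autGroup hvn.1).1 hα2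
      obtain ⟨G, hG, hGe⟩ := (receptive_iff.1 (receptive_of_fullyNormalized hS hF hvn)).2 Q
        (afun α2) (nK S Q (bGroup F T Q)) hαm2 (im_afun α2) nK_le (nK_normalizes hvn.1)
        fun n hn => by
          obtain ⟨hnS, l, hl, hle⟩ := mem_nK.1 hn
          obtain ⟨hβF, hfixβ, huβ⟩ := bGroup_transport hcl hαm2 (im_afun α2) hl
          obtain ⟨s, hs, -, hse⟩ := mem_autInducedBy.1 (hBS _ ⟨hβF, hfixβ, huβ⟩)
          refine ⟨s, hs, fun x hx => ?_⟩
          rw [← hse _ (afun_mem α2 hx), hαm2.afun_transport (im_afun α2) l hx, hle x hx]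
      obtain ⟨Γ, hΓ, hΓe⟩ := hG.exists_aut (hG.im_self fun x hx =>
        pOne_into hcl hG ((im_congr hGe).trans (im_afun α2)) hx)
      have := finite_autGroup (F := F) (pOne F T Q)
      have hord : orderOf Γ ≠ 0 := by
        have h0 := (orderOf_pos (⟨Γ, hΓ⟩ : F.autGroup (pOne F T Q))).ne'
        rwa [← Subgroup.orderOf_coe] at h0
      obtain ⟨e, m, hm', hem⟩ := Nat.exists_eq_pow_mul_and_not_dvd hord p
        (Fact.out : p.Prime).ne_one
      have hcop : m.Coprime (p ^ k) :=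
        ((Fact.out : p.Prime).coprime_iff_not_dvd.2 hm').symm.pow_right k
      obtain ⟨r, hr1, hr2⟩ := Nat.chineseRemainder hcop 0 1
      obtain ⟨r', rfl⟩ := (Nat.modEq_zero_iff_dvd.1 hr1)
      have hΓp : ∃ i, orderOf (Γ ^ (m * r')) = p ^ i := by
        obtain ⟨i, -, hi⟩ := (Nat.dvd_prime_pow (Fact.out : p.Prime)).1
          (orderOf_dvd_of_pow_eq_one (show (Γ ^ (m * r')) ^ p ^ e = 1 by
            rw [← pow_mul, show m * r' * p ^ e = (p ^ e * m) * r' by ring, pow_mul, ← hem,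
              pow_orderOf_eq_one, one_pow]))
        exact ⟨i, hi⟩
      have hg2 := gen_e0 (p := p) _ hG.le _ (pow_mem hΓ (m * r')) hΓp
      have hpow : ∀ i : ℕ, ∀ x ∈ Q, afun (Γ ^ i) x = afun (α2 ^ i) x := by
        intro i
        induction i with
        | zero =>
          intro x hx
          simp [afun_one hx, afun_one (Subgroup.mem_sup_left hx : x ∈ pOne F T Q)]
        | succ i ihk =>
          intro x hx
          rw [pow_succ', pow_succ', afun_mul _ _ (Subgroup.mem_sup_left hx : x ∈ pOne F T Q),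
            afun_mul _ _ hx, ihk x hx, hΓe _ (Subgroup.mem_sup_left (afun_mem _ hx)),
            hGe _ (afun_mem _ hx)]
      have hα2r : α2 ^ (m * r') = α2 := by
        conv_rhs => rw [← pow_one α2]
        rw [pow_eq_pow_iff_modEq, hk2]
        exact hr2
      have e1 : im (im P' u) g1 = Q := by
        rw [(hu.restrict_to (le_normalizerIn hR)).im_comp]
        exact im_congr hg1e
      refine ⟨afun (Γ ^ (m * r')) ∘ g1,
        hg1.comp (eh_of_e0 hg2) fun x hx => pOne_into hcl (eh_le hg1) e1 hx, fun x hx => ?_⟩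
      rw [Function.comp_apply, hg1e x hx, hpow _ _ (apply_mem_im hx), hα2r, hα2def,
        hv'.afun_transport rfl α hx]
    · exact hmove (le_inf hP' Subgroup.le_normalizer) (inf_le_inf_right _ hR) hPc
        (hc ▸ hlt (lt_normalizerIn hS hlt' hR) (inf_le_left.trans hR))
        ((gen_e0 R hR α hα hk).restrict_to inf_le_left) hu hv hvn
  -- conclusion at a fully normalized conjugate
  obtain ⟨u, hu, hun⟩ := to_fn hS hF hPc.1
  have huP := hu.restrict_to (le_normalizerIn hPc.1)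
  set Q := im P u with hQ
  have hQm : Mor (E0 F p) Q (afun a) := m_move ha hm huP
  have hQc : F.IsCentric Q := centric_conj hPc (FusionSysBasic.isConj_iff.2 ⟨u, e0_le huP, rfl⟩)
  by_cases hQU : E.IsCentric (Q ⊓ T)
  · exact good_centric hS h hQU ha hQm
  have hQ' := fn_aut hun ha
  obtain ⟨g, hg, hge⟩ := (mor_subSystem.1 (e0_min hgen hQm)).2.2.2 Q le_rfl huP.card_im hQc hQU
    (fun x => x) (fun x => x) (mor_id inf_le_left) (mor_id inf_le_left)
    (by rwa [im_id]) (by rwa [im_id])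
  rw [im_id] at hg
  have hQ1 : Q < pOne F T Q := lt_pOne hS hF h hun hQc hQU
  obtain ⟨z, hz, -, hze⟩ := extension_unique hS hF hQc hQ1.le (pOne_normalizes hun.1)
    (((mem_autGroup le_rfl).1 ha).restrict_to hg.le) (eh_le hg) fun x hx => (hge x hx).symm
  have hcjz : ∀ x ∈ pOne F T Q, cj z x ∈ pOne F T Q := fun x hx =>
    Subgroup.mul_mem _ (Subgroup.mul_mem _ (hQ1.le hz) hx) (Subgroup.inv_mem _ (hQ1.le hz))
  have hag : Mor (EH F p H) (pOne F T Q) (afun a) :=
    ((mor_cj (F := EH F p H) hg.le (hun.1 hz)).comp hg hcjz).congr fun x hx => (hze x hx).symm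
  obtain ⟨b, hb, hb', e, he, hae⟩ := mor_EH.1 hag
  have hba : b⁻¹ * a ∈ H := by
    refine IH' (by rw [hcdef, ← huP.card_im]; exact hlt hQ1 hg.le)
      (centric_upward hQc hQ1.le hg.le) _ (mul_mem (inv_mem hb') ha) (he.congr fun x hx => ?_)
    rw [afun_mul _ _ (hg.le hx), hae x hx, afun_inv_apply b (he.apply_mem hx)]
  simpa using mul_mem hb hba

theorem a0_le_hSub (hS : IsPGroup p S) (hF : F.IsSaturated p) (h : KerLike F E K p) :
    A0 F p ≤ hSub h :=
  (Subgroup.closure_le _).2 fun _ ⟨ha, _, hP, hm⟩ =>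
    good_all hS hF h _ (Nat.le_add_left _ _) hP ha hm

theorem hSub_conj (h : KerLike F E K p)
    (hn : ∀ γ ∈ F.autGroup T, ∀ β ∈ K, γ * β * γ⁻¹ ∈ K) {γ a : MulAut S}
    (hγ : γ ∈ F.autGroup S) (ha : a ∈ hSub h) : γ * a * γ⁻¹ ∈ hSub h := by
  obtain ⟨ha', β, hβ, he⟩ := ha
  obtain ⟨δ, hδ, hδe⟩ := res_T h hγ
  have hTS := h.inv.2.1.1
  refine ⟨mul_mem (mul_mem hγ ha') (inv_mem hγ), δ * β * δ⁻¹, hn δ hδ β hβ, fun t ht => ?_⟩
  have ht' := afun_mem δ⁻¹ ht
  have e : afun γ⁻¹ t = afun δ⁻¹ t := by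
    conv_lhs => rw [← afun_apply_inv δ ht, hδe _ ht']
    exact afun_inv_apply γ (hTS ht')
  rw [afun_mul _ _ ht, afun_mul _ _ ht', afun_mul _ _ (hTS ht), afun_mul _ _ (afun_mem _ (hTS ht)),
    e, ← he _ ht', hδe _ (afun_mem β ht')]

theorem normal_EH_hSub (hS : IsPGroup p S) (hF : F.IsSaturated p) (h : KerLike F E K p)
    (hn : ∀ γ ∈ F.autGroup T, ∀ β ∈ K, γ * β * γ⁻¹ ∈ K) :
    (EH F p (hSub h)).IsNormalIn F p := by
  have hsat := saturated_EH hS hF (a0_le_hSub hS hF h)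
  refine ⟨⟨hsat, hF, FusionIso88.invariant_iff.2 ⟨eh_sub,
    ⟨le_rfl, fun P _ φ hφ x => (F.le_of_mem hφ).2 x⟩, fun P f hf α hα => ?_,
    fun P f _ hf => ?_⟩⟩, fun α hα => ?_⟩
  · obtain ⟨b, hb, hb', e, he, hfe⟩ := mor_EH.1 hf
    refine ⟨_, mor_EH.2 ⟨_, hSub_conj h hn hα hb, mul_mem (mul_mem hα hb') (inv_mem hα), _,
      e0_invariant he hα, fun y _ => rfl⟩, fun x hx => ?_⟩
    have hxS := hf.le hx
    have hex := he.apply_mem hx
    simp only [Function.comp_apply, afun_inv_apply α hxS]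
    rw [afun_mul _ _ (afun_mem α hex), afun_mul _ _ (afun_mem α⁻¹ (afun_mem α hex)),
      afun_inv_apply α hex, hfe x hx]
  · obtain ⟨a, ha, e, he, hfe⟩ := e0_factor hS hF hf
    exact ⟨a, ha, e, eh_of_e0 he, hfe⟩
  · have hm := eh_le ((mem_autGroup le_rfl).1 hα)
    have hSC : S ⊔ centralizerIn S S = S := sup_eq_left.2 inf_le_left
    have hm' : Mor F (S ⊔ centralizerIn S S) (afun α) := by rw [hSC]; exact hm
    obtain ⟨β, hβ, hβe⟩ := hm'.exists_aut (hm'.im_self fun x hx => by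
      rw [hSC] at hx ⊢
      exact afun_mem α hx)
    refine ⟨β, hβ, fun x => ?_, fun c hc => ?_⟩
    · rw [← afun_coe, ← afun_coe]
      exact hβe _ (Subgroup.mem_sup_left x.2)
    · rw [← afun_coe, hβe _ c.2]
      refine ⟨S.mul_mem (S.inv_mem hc.1) (hm.apply_mem hc.1),
        Subgroup.mul_mem _ (Subgroup.inv_mem _ hc.2)
          (Subgroup.mem_centralizer_iff.2 fun t ht => ?_)⟩
      have ht' := afun_mem α⁻¹ (show t ∈ S from ht)
      rw [← afun_apply_inv α (show t ∈ S from ht), ← hm.map_mul ht' hc.1, ← hm.map_mul hc.1 ht',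
        Subgroup.mem_centralizer_iff.1 hc.2 _ ht']

theorem sub_EH_hSub (hS : IsPGroup p S) (hF : F.IsSaturated p) (h : KerLike F E K p)
    {P : Subgroup Ω} {f : Ω → Ω} (hf : Mor E P f) : Mor (EH F p (hSub h)) P f := by
  have hTS := h.inv.2.1.1
  have := finite_of_le hTS
  have hcen : ∀ {U : Subgroup Ω} {f : Ω → Ω}, E.IsCentric U → Mor E U f →
      Mor (EH F p (hSub h)) U f := by
    intro U f hU hf
    obtain ⟨a, ha, f0, hf0, hfe⟩ := e0_factor hS hF (sub_mor h.inv.1 hf)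
    obtain ⟨γ, hγ, hγe⟩ := res_T h ha
    obtain ⟨β, hβ, e', he', hf0e⟩ := decK_e0 hS h hf0 le_rfl hU
    have hγK : γ * β ∈ K := by
      refine dec_unique hS h hU (f := f)
        ⟨1, one_mem _, f, hf, fun x hx => (afun_one (hf.apply_mem hx)).symm⟩
        (mul_mem hγ (h.le hβ)) he' fun x hx => ?_
      rw [hfe x hx, afun_mul _ _ (he'.apply_mem hx), ← hf0e x hx, hγe _
        (hf0e x hx ▸ afun_mem β (he'.apply_mem hx))]
    refine mor_EH.2 ⟨a, ⟨ha, γ, ?_, hγe⟩, ha, f0, hf0, hfe⟩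
    simpa using mul_mem hγK (inv_mem hβ)
  let Φ : Subgroup Ω → (Ω → Ω) → Prop := fun P f => Mor (EH F p (hSub h)) P f
  have hΦ : Closed E (U := T) Φ :=
    { congr := fun h he => Mor.congr h he
      conj := fun hP hg => mor_cj (hP.trans hTS) (hTS hg)
      comp := fun _ _ _ _ hfQ h1 h2 => Mor.comp h1 h2 hfQ
      inv := fun hf _ _ hgf h1 => by
        obtain ⟨k, hk, hkf, -, -⟩ := Mor.exists_inv h1
        refine hk.congr fun y hy => ?_
        obtain ⟨x, hx, rfl⟩ := hf.mem_im.1 hy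
        rw [hkf x hx, hgf x hx] }
  have key : ∀ R : Subgroup Ω, (R = T ∨ E.IsEssential p R) →
      E.autGroup R ≤ (subSystem le_rfl hΦ).autGroup R := by
    intro R hR α hα
    have hRc : E.IsCentric R := by
      rcases hR with rfl | hR
      exacts [centric_top, hR.1]
    have hm := (mem_autGroup hRc.1).1 hα
    exact mem_autGroup_of_mor (mor_subSystem.2
      ⟨hm, hRc.1, fun x hx => hm.apply_mem hx, hcen hRc hm⟩)
  exact (mor_subSystem.1 (mor_mono (FusionSysAlperin.alperin (hS.to_le hTS) h.sat key) hf)).2.2.2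

theorem autGroup_EH_hSub (hS : IsPGroup p S) (hF : F.IsSaturated p) (h : KerLike F E K p)
    {a : MulAut S} : a ∈ (EH F p (hSub h)).autGroup S ↔ a ∈ hSub h := by
  refine ⟨fun ha => ?_, fun ha => mem_autGroup_of_mor (mor_EH.2 ⟨a, ha, ha.1, fun x => x,
    mor_id le_rfl, fun x _ => rfl⟩)⟩
  have hm := (mem_autGroup le_rfl).1 ha
  exact aut_centric (a0_le_hSub hS hF h) centric_top (mem_autGroup_of_mor (eh_le hm)) hm

end Cfsg.Agent.FusionKernelChar88
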