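import Mathlib
import Cfsg.Agent.Lib.FusionResidualNormal88
import Cfsg.Agent.Lib.FusionKernelChar88
import Cfsg.Agent.Lib.FusionCentralizerSub
import Cfsg.Agent.Lib.FusionPPower
import Cfsg.Agent.Lib.FusionFrattini88

/-!
Invariant subsystems: an invariant subsystem stays invariant in every intermediate saturated system
(`invariant_of_le`), subsystems of `p`-power index over strongly closed subgroups and subsystems
`EH H` of an invariant subsystem are invariant (`invariant_of_pPower`, `invariant_EH`), and an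
invariant subsystem over a subgroup containing its centralizer is normal (`normal_of_cent`).
-/

set_option autoImplicit false

namespace Cfsg.Agent.FusionInvariantSub

open Cfsg Cfsg.FusionSystem Cfsg.Agent.FusionSysBasic Cfsg.Agent.FusionSysSaturated
open Cfsg.Agent.FusionKit88 Cfsg.Agent.FusionPrimeIndex88 Cfsg.Agent.FusionWeaklyNormal88
open Cfsg.Agent.FusionInduct88 Cfsg.Agent.FusionKernelChar88

variable {Ω : Type*} [Group Ω] {S U W T : Subgroup Ω} {F : FusionSystem S} {F1 : FusionSystem U}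
  {p : ℕ}

theorem invariant_self (F : FusionSystem S) : F.IsInvariantIn F := by
  refine FusionIso88.invariant_iff.2 ⟨fun _ => subset_rfl,
    FusionSysNormal.stronglyClosed_iff.2 ⟨le_rfl, fun _ _ _ hf x hx => hf.apply_mem hx⟩,
    fun P f hf α hα => ?_, fun P f hP hf => ⟨1, one_mem _, f, hf,
      fun x hx => (afun_one (hf.apply_mem hx)).symm⟩⟩
  have hα' := (mem_autGroup le_rfl).1 hα
  have hαi := (mem_autGroup le_rfl).1 (inv_mem hα)
  have hm := hα'.restrict_to hf.le
  refine ⟨afun α ∘ f ∘ afun α⁻¹, ((hαi.restrict_to hm.im_le).comp hf fun y hy => ?_).comp hα'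
    fun y hy => ?_, fun x hx => ?_⟩
  · obtain ⟨x, hx, rfl⟩ := hm.mem_im.1 hy
    rw [afun_inv_apply α (hf.le hx)]
    exact hx
  · obtain ⟨x, hx, rfl⟩ := hm.mem_im.1 hy
    simp only [Function.comp_apply, afun_inv_apply α (hf.le hx)]
    exact hf.apply_mem hx
  · simp only [Function.comp_apply, afun_inv_apply α (hf.le hx)]

/-- Strong closure passes from an invariant subsystem to the whole system. -/
theorem closed_of_invariant (hI : F1.IsInvariantIn F) (hW : F1.StronglyClosed W)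
    (h : ∀ α ∈ F.autGroup U, ∀ x ∈ W, afun α x ∈ W) : F.StronglyClosed W := by
  refine FusionSysNormal.stronglyClosed_iff.2 ⟨hW.1.trans hI.2.1.1, fun P f hP hf x hx => ?_⟩
  obtain ⟨a, ha, e, he, hfe⟩ := inv_factor hI (hP.trans hW.1) hf
  rw [hfe x hx]
  exact h a ha _ (closed_apply hW he hP hx)

/-- The maps whose conjugate by a fixed automorphism of `W` lies in `D`. -/
theorem closed_conj {D : FusionSystem W} (hW : W ≤ S) {γ : MulAut W}
    (hγ : γ ∈ F.autGroup W) :
    Closed D (U := W) (fun P f => P ≤ W ∧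
      Mor D (im P (afun γ)) (afun γ ∘ f ∘ afun γ⁻¹)) where
  congr := fun {P f g} h he => ⟨h.1, h.2.congr fun y hy => by
    obtain ⟨x, hx, rfl⟩ := (((mem_autGroup hW).1 hγ).restrict_to h.1).mem_im.1 hy
    simp only [Function.comp_apply, afun_inv_apply γ (h.1 hx), he x hx]⟩
  conj := fun {P g} hP hg => ⟨hP, by
    have hm := ((mem_autGroup hW).1 hγ).restrict_to hP
    refine (mor_cj (F := D) (im_le_iff.2 fun x hx => afun_mem γ (hP hx))
      (afun_mem γ hg)).congr fun y hy => ?_
    obtain ⟨x, hx, rfl⟩ := hm.mem_im.1 hy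
    simp only [Function.comp_apply, afun_inv_apply γ (hP hx)]
    exact (((mem_autGroup hW).1 hγ).map_cj hg (hP hx)).symm⟩
  comp := fun {P Q f g} hf _ hP _ hfQ ⟨_, h1⟩ ⟨_, h2⟩ => ⟨hP, by
    have hm := ((mem_autGroup hW).1 hγ).restrict_to hP
    refine (h1.comp h2 fun y hy => ?_).congr fun y hy => ?_
    · obtain ⟨x, hx, rfl⟩ := hm.mem_im.1 hy
      simp only [Function.comp_apply, afun_inv_apply γ (hP hx)]
      exact apply_mem_im (hfQ x hx)
    · obtain ⟨x, hx, rfl⟩ := hm.mem_im.1 hy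
      simp only [Function.comp_apply, afun_inv_apply γ (hP hx),
        afun_inv_apply γ (hf.apply_mem hx)]⟩
  inv := fun {P f g} hf _ hP hgf ⟨_, h1⟩ => ⟨hf.im_le, by
    have hm := ((mem_autGroup hW).1 hγ).restrict_to hP
    have hm' := ((mem_autGroup hW).1 hγ).restrict_to hf.im_le
    obtain ⟨k, hk, hkf, -, -⟩ := h1.exists_inv
    have e : im (im P (afun γ)) (afun γ ∘ f ∘ afun γ⁻¹) = im (im P f) (afun γ) := by
      rw [hm.im_comp, hf.im_comp]
      exact im_congr fun x hx => by simp only [Function.comp_apply, afun_inv_apply γ (hP hx)]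
    rw [e] at hk
    refine hk.congr fun y hy => ?_
    obtain ⟨z, hz, rfl⟩ := hm'.mem_im.1 hy
    obtain ⟨x, hx, rfl⟩ := hf.mem_im.1 hz
    simp only [Function.comp_apply, afun_inv_apply γ (hf.apply_mem hx), hgf x hx]
    have := hkf _ (apply_mem_im (f := afun γ) hx)
    simpa only [Function.comp_apply, afun_inv_apply γ (hP hx)] using this⟩

theorem mem_of_coprime {E : FusionSystem W} {D : FusionSystem U} (h : E.HasPPowerIndexIn D p)
    {P : Subgroup Ω} (hP : P ≤ W) {α : MulAut P} (hα : α ∈ D.autGroup P)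
    (hc : (orderOf α).Coprime p) : α ∈ E.autGroup P :=
  h.2.2 P hP ⟨⟨α, hα⟩, TransferPResidual.mem_pResidual_of_coprime
    (by rwa [Subgroup.orderOf_mk]), rfl⟩

variable [Finite S] [Fact p.Prime]

section PPower

variable {F2 : FusionSystem W}

theorem conj_pPower (hS : IsPGroup p S) (hI : F1.IsInvariantIn F) (hF2 : F2.IsSaturated p)
    (hidx : F2.HasPPowerIndexIn F1 p) {P : Subgroup Ω} {f : Ω → Ω} (hf : Mor F2 P f)
    {γ : MulAut W} (hγ : γ ∈ F.autGroup W) :
    Mor F2 (im P (afun γ)) (afun γ ∘ f ∘ afun γ⁻¹) := by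
  have hWU := FusionKit88.sub_le hidx.1
  have hWS := hWU.trans hI.2.1.1
  haveI := finite_of_le hWS
  refine (induction' (hS.to_le hWS) hF2 (closed_conj hWS hγ) (fun R hR α hα hc => ⟨hR, ?_⟩) hf).2
  have hg := ((mem_autGroup hWS).1 hγ).restrict_to hR
  have hαF1 : α ∈ F1.autGroup R := FusionPPower.autGroup_mono' hidx.1 R hα
  have h1 : hg.transport rfl α ∈ F1.autGroup (im R (afun γ)) :=
    aut_transport hI (hR.trans hWU) hg rfl hαF1
  have hle : im R (afun γ) ≤ W := im_le_iff.2 fun x hx => afun_mem γ (hR hx)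
  have h2 := mem_of_coprime hidx hle h1 (by rwa [MulEquiv.orderOf_eq])
  refine ((mem_autGroup hle).1 h2).congr fun y hy => ?_
  obtain ⟨x, hx, rfl⟩ := hg.mem_im.1 hy
  rw [hg.afun_transport rfl α hx]
  simp only [Function.comp_apply, afun_inv_apply γ (hR hx)]

/-- A map on `P` is, on `P ⊓ W`, an automorphism of `W` after a map of `F2`. -/
def Dec (D : FusionSystem U) (F2 : FusionSystem W) (P : Subgroup Ω) (f : Ω → Ω) : Prop :=
  ∃ a ∈ D.autGroup W, ∃ e, Mor F2 (P ⊓ W) e ∧ ∀ x ∈ P ⊓ W, f x = afun a (e x)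

theorem dec_pPower (hS : IsPGroup p S) (hI : F1.IsInvariantIn F) (hF1 : F1.IsSaturated p)
    (hF2 : F2.IsSaturated p) (hidx : F2.HasPPowerIndexIn F1 p) (hW : F1.StronglyClosed W)
    {P : Subgroup Ω} {f : Ω → Ω} (hf : Mor F1 P f) : Dec F1 F2 P f := by
  have hUS := hI.2.1.1
  have hWU := hW.1
  haveI := finite_of_le hUS
  have hUp : IsPGroup p U := hS.to_le hUS
  have hcj : ∀ {P : Subgroup Ω} {f : Ω → Ω}, Mor F2 P f → ∀ {a : MulAut W}, a ∈ F1.autGroup W →
      Mor F2 (im P (afun a)) (afun a ∘ f ∘ afun a⁻¹) := fun hf _ ha =>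
    conj_pPower hS hI hF2 hidx hf (FusionPPower.autGroup_mono' hI.1 W ha)
  have hcl : Closed F1 (U := U) (Dec F1 F2) :=
    { congr := fun {P f g} ⟨a, ha, e, he, hfe⟩ h =>
        ⟨a, ha, e, he, fun x hx => (h x hx.1).symm.trans (hfe x hx)⟩
      conj := fun {P g} hP hg => by
        have hm : Mor F1 W (cj g) := mor_cj hWU hg
        obtain ⟨a, ha, hae⟩ := hm.exists_aut (hm.im_self fun x hx => closed_apply hW hm le_rfl hx)
        exact ⟨a, ha, fun x => x, mor_id inf_le_right, fun x hx => (hae x hx.2).symm⟩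
      comp := fun {P Q f g} hf hg _ _ hfQ ⟨a, ha, e, he, hfe⟩ ⟨b, hb, d, hd, hgd⟩ => by
        refine ⟨b * a, mul_mem hb ha, _, he.comp (hcj hd (inv_mem ha)) fun x hx => ?_,
          fun x hx => ?_⟩
        · have hfx : f x ∈ Q ⊓ W := ⟨hfQ x hx.1, closed_apply' hW hf hx.1 hx.2⟩
          have : e x = afun a⁻¹ (f x) := by
            rw [hfe x hx, afun_inv_apply a (he.apply_mem hx)]
          rw [this]
          exact apply_mem_im hfx
        · have hfx : f x ∈ Q ⊓ W := ⟨hfQ x hx.1, closed_apply' hW hf hx.1 hx.2⟩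
          have hex := he.apply_mem hx
          have h1 : afun a⁻¹⁻¹ (e x) = f x := by rw [inv_inv, ← hfe x hx]
          simp only [Function.comp_apply, h1]
          rw [hgd _ hfx, afun_mul _ _ (afun_mem _ (hd.apply_mem hfx)),
            afun_apply_inv a (hd.apply_mem hfx)]
      inv := fun {P f g} hf hg _ hgf ⟨a, ha, e, he, hfe⟩ => by
        obtain ⟨ei, hei, heie, -, heiP⟩ := he.exists_inv
        have e' : im (im (P ⊓ W) e) (afun a) = im P f ⊓ W := by
          rw [he.im_comp, ← img_inter hW hf]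
          exact im_congr fun x hx => (hfe x hx).symm
        have h2 := hcj hei ha
        rw [e'] at h2
        refine ⟨a⁻¹, inv_mem ha, _, h2, fun y hy => ?_⟩
        rw [← e'] at hy
        obtain ⟨z, hz, rfl⟩ := (((mem_autGroup hWU).1 ha).restrict_to hei.le).mem_im.1 hy
        obtain ⟨x, hx, rfl⟩ := he.mem_im.1 hz
        simp only [Function.comp_apply, afun_inv_apply a (he.apply_mem hx), heie x hx,
          afun_inv_apply a hx.2]
        rw [← hfe x hx, hgf x hx.1] }
  refine induction' hUp hF1 hcl (fun R hR α hα hc => ?_) hf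
  have hm := ((mem_autGroup hR).1 hα).restrict_to (inf_le_left : R ⊓ W ≤ R)
  obtain ⟨γ, hγ, hγe⟩ := hm.exists_aut (hm.im_self fun x hx =>
    ⟨afun_mem α hx.1, closed_apply' hW ((mem_autGroup hR).1 hα) hx.1 hx.2⟩)
  have h1 : γ ^ orderOf α = 1 := afun_ext fun x hx => by
    rw [← FusionCentralizerSub.pow_restrict inf_le_left (fun y hy => (hγe y hy).symm) _ x hx,
      pow_orderOf_eq_one, afun_one hx.1, afun_one hx]
  refine ⟨1, one_mem _, afun γ, (mem_autGroup inf_le_right).1
    (mem_of_coprime hidx inf_le_right hγ (Nat.Coprime.coprime_dvd_left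
      (orderOf_dvd_of_pow_eq_one h1) hc)), fun x hx => ?_⟩
  rw [afun_one (afun_mem γ hx).2, hγe x hx]

/-- A saturated subsystem of `p`-power index over a strongly closed subgroup is invariant. -/
theorem invariant_of_pPower (hS : IsPGroup p S) (hI : F1.IsInvariantIn F)
    (hF1 : F1.IsSaturated p) (hF2 : F2.IsSaturated p) (hidx : F2.HasPPowerIndexIn F1 p)
    (hW1 : F1.StronglyClosed W) (hW : F.StronglyClosed W) : F2.IsInvariantIn F := by
  have hWU := FusionKit88.sub_le hidx.1
  refine FusionIso88.invariant_iff.2 ⟨fun P => (hidx.1 P).trans (hI.1 P), hW,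
    fun P f hf α hα => ⟨_, conj_pPower hS hI hF2 hidx hf hα, fun x hx => ?_⟩,
    fun P f hP hf => ?_⟩
  · simp only [Function.comp_apply, afun_inv_apply α (hf.le hx)]
  obtain ⟨a, ha, e, he, hfe⟩ := inv_factor hI (hP.trans hWU) hf
  have haW := ((mem_autGroup hI.2.1.1).1 ha).restrict_to hWU
  obtain ⟨a', ha', hae⟩ := haW.exists_aut (haW.im_self fun x hx => closed_apply hW haW le_rfl hx)
  obtain ⟨b, hb, d, hd, hed⟩ := dec_pPower hS hI hF1 hF2 hidx hW1 he
  rw [inf_eq_left.2 hP] at hd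
  refine ⟨a' * b, mul_mem ha' (FusionPPower.autGroup_mono' hI.1 W hb), d, hd, fun x hx => ?_⟩
  rw [afun_mul _ _ (hd.apply_mem hx), hae _ (afun_mem b (hd.apply_mem hx)),
    ← hed x ⟨hx, hP hx⟩, hfe x hx]

end PPower

/-- The systems `EH H` of an invariant subsystem, with `H` normalized, are invariant. -/
theorem invariant_EH (hS : IsPGroup p S) (hI : F1.IsInvariantIn F) (hF1 : F1.IsSaturated p)
    {H : Subgroup (MulAut U)}
    (hH : ∀ γ ∈ F.autGroup U, ∀ a ∈ H, a ∈ F1.autGroup U → γ * a * γ⁻¹ ∈ H) :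
    (EH F1 p H).IsInvariantIn F := by
  have hUS := hI.2.1.1
  haveI := finite_of_le hUS
  refine FusionIso88.invariant_iff.2 ⟨fun P => (eh_sub P).trans (hI.1 P), hI.2.1,
    fun P f hf α hα => ?_, fun P f hP hf => ?_⟩
  · obtain ⟨b, hb, hb', e, he, hfe⟩ := mor_EH.1 hf
    refine ⟨_, mor_EH.2 ⟨_, hH α hα b hb hb',
      FusionCentralizerSub.conj_mem_autGroup hI le_rfl hα hb', _,
      FusionResidualNormal88.e0_invariant_F hI he hα, fun y _ => rfl⟩, fun x hx => ?_⟩
    have hxU := hf.le hx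
    have hex := he.apply_mem hx
    simp only [Function.comp_apply, afun_inv_apply α hxU]
    rw [afun_mul _ _ (afun_mem α hex), afun_mul _ _ (afun_mem α⁻¹ (afun_mem α hex)),
      afun_inv_apply α hex, hfe x hx]
  · obtain ⟨a, ha, e, he, hfe⟩ := inv_factor hI hP hf
    obtain ⟨b, hb, d, hd, hed⟩ := e0_factor (hS.to_le hUS) hF1 he
    exact ⟨a * b, mul_mem ha (FusionPPower.autGroup_mono' hI.1 U hb), d, eh_of_e0 hd,
      fun x hx => by rw [afun_mul _ _ (hd.apply_mem hx), ← hed x hx, hfe x hx]⟩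

/-- An invariant saturated subsystem is invariant in every intermediate saturated system. -/
theorem invariant_of_le {E : FusionSystem T} {D : FusionSystem U} (hS : IsPGroup p S)
    (hI : E.IsInvariantIn F) (hDF : D.IsSubsystemOf F)
    (hD : D.IsSaturated p) (hED : E.IsSubsystemOf D) : E.IsInvariantIn D := by
  have hUS := FusionKit88.sub_le hDF
  have hTU := FusionKit88.sub_le hED
  haveI := finite_of_le hUS
  have hUp : IsPGroup p U := hS.to_le hUS
  have hTS := hI.2.1.1
  haveI := finite_of_le hTS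
  have hT : D.StronglyClosed T := FusionSysNormal.stronglyClosed_iff.2
    ⟨hTU, fun P f hP hf x hx => closed_apply hI.2.1 (sub_mor hDF hf) hP hx⟩
  have hDaut : ∀ P, D.autGroup P ≤ F.autGroup P := FusionPPower.autGroup_mono' hDF
  obtain ⟨-, -, hinv, -⟩ := FusionIso88.invariant_iff.1 hI
  refine FusionIso88.invariant_iff.2 ⟨hED, hT, fun P f hf α hα => hinv P f hf α (hDaut T hα),
    fun P f hP hf => ?_⟩
  suffices ∀ (m : ℕ) (P : Subgroup Ω) (f : Ω → Ω), Nat.card T - Nat.card P = m → P ≤ T →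
      Mor D P f → ∃ a ∈ D.autGroup T, ∃ e, Mor E P e ∧ ∀ x ∈ P, f x = afun a (e x) from
    this _ P f rfl hP hf
  clear hP hf f P
  intro m
  induction m using Nat.strong_induction_on with
  | _ m ihm =>
    intro P f hm hPT hf
    rcases eq_or_lt_of_le hPT with rfl | hlt
    · obtain ⟨a, ha, hae⟩ := hf.exists_aut (hf.im_self fun x hx => closed_apply hT hf le_rfl hx)
      exact ⟨a, ha, fun x => x, mor_id le_rfl, fun x hx => (hae x hx).symm⟩
    have inv_step : ∀ {Q : Subgroup Ω} {g k : Ω → Ω}, Q ≤ T → Mor D Q g →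
        (∀ x ∈ Q, k (g x) = x) →
        (∃ a ∈ D.autGroup T, ∃ e, Mor E Q e ∧ ∀ x ∈ Q, g x = afun a (e x)) →
        ∃ a ∈ D.autGroup T, ∃ e, Mor E (im Q g) e ∧ ∀ y ∈ im Q g, k y = afun a (e y) := by
      rintro Q g k hQT hg hk ⟨a, ha, e, he, hge⟩
      obtain ⟨ei, hei, heie, -, -⟩ := he.exists_inv
      have e' : im (im Q e) (afun a) = im Q g := by
        rw [he.im_comp]
        exact im_congr fun x hx => (hge x hx).symm
      have h2 := inv_mor hI hei (hDaut T ha)
      rw [e'] at h2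
      refine ⟨a⁻¹, inv_mem ha, _, h2, fun y hy => ?_⟩
      obtain ⟨x, hx, rfl⟩ := hg.mem_im.1 hy
      simp only [Function.comp_apply, hge x hx, afun_inv_apply a (he.apply_mem hx), heie x hx,
        afun_inv_apply a (hQT hx)]
      rw [← hge x hx, hk x hx]
    have comp_step : ∀ {Q R : Subgroup Ω} {g k : Ω → Ω}, (∀ x ∈ Q, g x ∈ R) →
        (∃ a ∈ D.autGroup T, ∃ e, Mor E Q e ∧ ∀ x ∈ Q, g x = afun a (e x)) →
        (∃ a ∈ D.autGroup T, ∃ e, Mor E R e ∧ ∀ x ∈ R, k x = afun a (e x)) →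
        ∃ a ∈ D.autGroup T, ∃ e, Mor E Q e ∧ ∀ x ∈ Q, k (g x) = afun a (e x) := by
      rintro Q R g k hgR ⟨a, ha, e, he, hge⟩ ⟨b, hb, d, hd, hkd⟩
      refine ⟨b * a, mul_mem hb ha, _,
        he.comp (inv_mor hI hd (inv_mem (hDaut T ha))) fun x hx => ?_, fun x hx => ?_⟩
      · have := apply_mem_im (f := afun a⁻¹) (hgR x hx)
        rwa [hge x hx, afun_inv_apply a (he.apply_mem hx)] at this
      · have h1 : afun a⁻¹⁻¹ (e x) = g x := by rw [inv_inv, ← hge x hx]
        simp only [Function.comp_apply, h1]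
        have hgx := hgR x hx
        rw [hkd _ hgx, afun_mul _ _ (afun_mem _ (hd.apply_mem hgx)),
          afun_apply_inv a (hd.apply_mem hgx)]
    obtain ⟨R, hPR, hR⟩ := exists_fullyNormalized (F := D) (hPT.trans hTU)
    have hRT : R ≤ T := by
      obtain ⟨g, hg, rfl⟩ := isConj_iff.1 hPR
      exact im_le_iff.2 fun x hx => closed_apply hT hg hPT hx
    have hRlt : R < T := lt_of_le_of_ne hRT fun e => hlt.ne
      (eq_of_le_of_card_ge le_rfl hPT (by rw [isConj_card hPR, e]))
    have hTp : IsPGroup p T := hS.to_le hTS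
    have hbig : ∀ (Q : Subgroup Ω) (g : Ω → Ω), Nat.card R < Nat.card Q → Q ≤ T → Mor D Q g →
        ∃ a ∈ D.autGroup T, ∃ e, Mor E Q e ∧ ∀ x ∈ Q, g x = afun a (e x) :=
      fun Q g hlt' hQT hg => ihm _ (by
        have := Subgroup.card_le_of_le hQT
        have := isConj_card hPR
        omega) Q g rfl hQT hg
    -- maps to `R`
    have toR : ∀ Q : Subgroup Ω, Q ≤ T → D.IsConj Q R → ∃ k, Mor D Q k ∧ im Q k = R ∧
        ∃ a ∈ D.autGroup T, ∃ e, Mor E Q e ∧ ∀ x ∈ Q, k x = afun a (e x) := by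
      intro Q hQT hQ
      obtain ⟨k, hk, -, hkim⟩ := exists_map_to_fullyNormalized hUp hD hR hQ
      have hQN : Q ≤ normalizerIn U Q := le_normalizerIn (hQT.trans hTU)
      have hQlt : Q < T := lt_of_le_of_ne hQT fun e => hRlt.ne
        (eq_of_le_of_card_ge le_rfl hRT (by rw [← isConj_card hQ, e]))
      have hsub : normalizerIn T Q ≤ normalizerIn U Q := inf_le_inf_right _ hTU
      obtain ⟨a, ha, e, he, hke⟩ := hbig (normalizerIn T Q) k (by
        rw [← isConj_card hQ]
        exact FusionSysAlperin.normalizerIn_gt hTp hQlt) inf_le_left (hk.restrict_to hsub)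
      exact ⟨k, hk.restrict_to hQN, hkim, a, ha, e, he.restrict_to (le_normalizerIn hQT),
        fun x hx => hke x (le_normalizerIn hQT hx)⟩
    have hfT : im P f ≤ T := im_le_iff.2 fun x hx => closed_apply hT hf hPT hx
    obtain ⟨a, haD, haim, hdecA⟩ := toR P hPT hPR
    obtain ⟨b, hbD, hbim, hdecB⟩ := toR (im P f) hfT
      (isConj_trans (isConj_symm (isConj_iff.2 ⟨f, hf, rfl⟩)) hPR)
    obtain ⟨ai, hai, haia, haai, haimem⟩ := haD.exists_inv
    rw [haim] at hai haimem haai
    have hc : Mor D R (b ∘ f ∘ ai) :=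
      Mor.comp (hai.comp hf haimem) hbD fun x hx => apply_mem_im (haimem x hx)
    obtain ⟨γ, hγ, hγe⟩ := hc.exists_aut
      (hc.im_self fun x hx => hbim.le (apply_mem_im (apply_mem_im (haimem x hx))))
    have hN : normalizerIn T R ≤ normalizerIn U R := inf_le_inf_right _ hTU
    obtain ⟨β, hβ, μ, hμ, -, hγβ, g, hg, hgβ⟩ := FusionFrattini88.frattini_ext hUp hD hR
      (E.autGroup R)
      (fun x hx m hm _ => FusionCentralizerSub.conj_mem_autGroup hI hRT (hDaut R hx) hm)
      hN (fun t ht => mem_autGroup_of_mor ((mor_cj (F := E) hRT ht.1).congr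
        fun x hx => (afun_nHom ⟨t, hN ht⟩ hx).symm)) hγ
    have hdecγ : ∃ a ∈ D.autGroup T, ∃ e, Mor E R e ∧ ∀ x ∈ R, afun γ x = afun a (e x) := by
      obtain ⟨c, hc, e, he, hge⟩ := hbig (R ⊔ normalizerIn T R) g (by
        rw [sup_normalizerIn hRT]
        exact FusionSysAlperin.normalizerIn_gt hTp hRlt) (sup_le hRT inf_le_left) hg
      refine ⟨c, hc, _, ((mem_autGroup hRT).1 hμ).comp (he.restrict_to le_sup_left)
        fun x hx => afun_mem μ hx, fun x hx => ?_⟩
      rw [hγβ, afun_mul _ _ hx, ← hgβ _ (afun_mem μ hx),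
        hge _ (Subgroup.mem_sup_left (afun_mem μ hx))]
      rfl
    obtain ⟨bi, hbi, hbib, -, -⟩ := hbD.exists_inv
    rw [hbim] at hbi
    have hbi' := inv_step hfT hbD (k := bi) hbib hdecB
    rw [hbim] at hbi'
    obtain ⟨c, hc', e, he, h3⟩ := comp_step (Q := P) (R := R) (g := fun x => afun γ (a x))
      (k := bi) (fun x hx => afun_mem γ (haim ▸ apply_mem_im hx))
      (comp_step (Q := P) (R := R) (g := a) (k := afun γ) (fun x hx => haim ▸ apply_mem_im hx)
        hdecA hdecγ) hbi'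
    refine ⟨c, hc', e, he, fun x hx => ?_⟩
    rw [← h3 x hx, hγe _ (haim ▸ apply_mem_im hx)]
    simp only [Function.comp_apply, haia x hx, hbib _ (apply_mem_im hx)]

/-- An invariant saturated subsystem over a subgroup containing its centralizer is normal. -/
theorem normal_of_cent (hI : F1.IsInvariantIn F) (hF : F.IsSaturated p) (hF1 : F1.IsSaturated p)
    (hC : centralizerIn S U ≤ U) : F1.IsNormalIn F p := by
  refine ⟨⟨hF1, hF, hI⟩, fun α hα => ?_⟩
  have hUC : U ⊔ centralizerIn S U = U := sup_eq_left.2 hC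
  have hUS := hI.2.1.1
  have hm : Mor F U (afun α) := sub_mor hI.1 ((mem_autGroup le_rfl).1 hα)
  have hm' : Mor F (U ⊔ centralizerIn S U) (afun α) := by rw [hUC]; exact hm
  obtain ⟨β, hβ, hβe⟩ := hm'.exists_aut (hm'.im_self fun x hx => by
    rw [hUC] at hx ⊢
    exact afun_mem α hx)
  refine ⟨β, hβ, fun x => ?_, fun c hc => ?_⟩
  · rw [← afun_coe, ← afun_coe]
    exact hβe _ (Subgroup.mem_sup_left x.2)
  · rw [← afun_coe, hβe _ c.2]
    have hcU : (c : Ω) ∈ U := hC hc
    refine Subgroup.mem_inf.2 ⟨U.mul_mem (U.inv_mem hcU) (afun_mem α hcU),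
      Subgroup.mul_mem _ (Subgroup.inv_mem _ hc.2)
        (Subgroup.mem_centralizer_iff.2 fun t ht => ?_)⟩
    have ht' := afun_mem α⁻¹ (show t ∈ U from ht)
    rw [← afun_apply_inv α (show t ∈ U from ht), ← hm.map_mul ht' hcU, ← hm.map_mul hcU ht',
      Subgroup.mem_centralizer_iff.1 hc.2 _ ht']

end Cfsg.Agent.FusionInvariantSub
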