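import Cfsg.Agent.Lib.FusionLayer
import Cfsg.Agent.Lib.FusionGenFitting
import Cfsg.Agent.Lib.FusionCPNormal
import Cfsg.Agent.Lib.FusionComponents
import Cfsg.Agent.Lib.FusionCentralizerNormal
import Cfsg.Agent.Lib.FusionIso88
import Cfsg.Agent.Lib.FusionResidualNormal88

/-!
The layer of a normal subsystem is normal, and every component is normal in the layer.
-/

set_option autoImplicit false

namespace Cfsg.Agent.FusionLayerNormal

open Cfsg Cfsg.FusionSystem Cfsg.Agent.FusionSysBasic Cfsg.Agent.FusionSysSaturated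
open Cfsg.Agent.FusionSysNormal Cfsg.Agent.FusionKit88 Cfsg.Agent.FusionMorph88

variable {Ω : Type*} [Group Ω] {S U : Subgroup Ω} [Finite S] {F : FusionSystem S}
  {D : FusionSystem U} {p : ℕ} [Fact p.Prime]

/-- The layer of a normal subsystem is invariant under the automorphisms of its group. -/
theorem layer_conj (hS : IsPGroup p S) (hD : D.IsNormalIn F p) {T : Subgroup Ω}
    {L : FusionSystem T} (hL : L.IsLayerOf D p) {a : MulAut U} (ha : a ∈ F.autGroup U)
    {P : Subgroup Ω} {f : Ω → Ω} (hf : Mor L P f) :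
    Mor L (FusionIso88.img (afun a) P) (afun a ∘ f ∘ afun a⁻¹) := by
  have hUS : U ≤ S := sub_le hD.1.2.2.1
  haveI := finite_of_le hUS
  have hUp : IsPGroup p U := hS.to_le hUS
  have hA := FusionIso88.tr_of_aut hD.1.2.2 (inv_mem ha)
  rw [inv_inv] at hA
  have hsub := hL.1.1.2.2.1
  have hpush := FusionIso88.push_tr hA hsub
  have hn := hA.normalIn hpush hUp hL.1
  have hall : ∀ (V : Subgroup Ω) (C : FusionSystem V), C.IsComponentIn D p →
      C.IsSubsystemOf (FusionIso88.push hA hsub) := by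
    intro V C hC Q φ hφ
    have hCs := FusionIso88.subnormal_subsystem hC.1
    have hVU : V ≤ U := subnormal_le hC.1
    haveI := finite_of_le hVU
    have hC' := FusionIso88.push_tr hA.symm hCs
    have hcomp : (FusionIso88.push hA.symm hCs).IsComponentIn D p :=
      ⟨FusionIso88.subnormal_transport hC.1 inferInstance inferInstance hUp D _ _ hA.symm _ hC',
        hC'.quasisimple (hUp.to_le hVU) hC.2⟩
    have hm := mor_toFun hφ
    have h1 := hpush.mor (sub_mor (hL.2.1 _ _ hcomp) (hC'.mor hm))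
    have hQU : Q ≤ U := hm.le.trans hVU
    rw [hA.bij.symm.img_img hQU] at h1
    refine (mor_iff_hom fun x => (toFun_coe φ x).symm).1 (h1.congr fun x hx => ?_)
    simp only [Function.comp_apply]
    rw [afun_inv_apply a (hQU hx), afun_inv_apply a (hVU (hm.apply_mem hx))]
  have hle := hL.2.2 _ _ hn hall
  have hfU : P ≤ U := hf.le.trans (sub_le hsub)
  have h2 := hpush.mor' (sub_mor hle hf)
  exact h2

/-- The layer of a normal subsystem is weakly normal. -/
theorem layer_weakly (hS : IsPGroup p S) (hF : F.IsSaturated p) (hD : D.IsNormalIn F p)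
    {T : Subgroup Ω} {L : FusionSystem T} (hL : L.IsLayerOf D p) : L.IsWeaklyNormalIn F p := by
  have hUS : U ≤ S := sub_le hD.1.2.2.1
  haveI := finite_of_le hUS
  have hI := hD.1.2.2
  have hLI := hL.1.1.2.2
  have hTU : T ≤ U := sub_le hLI.1
  have hTS := hTU.trans hUS
  haveI := finite_of_le hTS
  have haT : ∀ a ∈ F.autGroup U, ∀ x ∈ T, afun a x ∈ T := fun a ha x hx =>
    (layer_conj hS hD hL ha (mor_id (F := L) le_rfl)).le (FusionIso88.apply_mem_img hx)
  have hres : ∀ a ∈ F.autGroup U, ∃ b ∈ F.autGroup T, ∀ x ∈ T, afun b x = afun a x := by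
    intro a ha
    have h := ((mem_autGroup hUS).1 ha).restrict_to hTU
    exact h.exists_aut (h.im_self (haT a ha))
  have hsplit : ∀ {P : Subgroup Ω} {g : Ω → Ω}, P ≤ T → Mor F P g →
      ∃ a ∈ F.autGroup U, ∃ e, Mor D P e ∧ (∀ x ∈ P, e x ∈ T) ∧ ∀ x ∈ P, g x = afun a (e x) := by
    intro P g hP hg
    obtain ⟨a, ha, e, he, hge⟩ := FusionWeaklyNormal88.inv_factor hI (hP.trans hTU) hg
    exact ⟨a, ha, e, he, fun x hx => closed_apply' hLI.2.1 he hx (hP hx), hge⟩
  refine ⟨hL.1.1.1, hF, FusionIso88.invariant_iff.2 ⟨fun P φ hφ => hI.1 P (hLI.1 P hφ),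
    stronglyClosed_iff.2 ⟨hTS, fun P g hP hg x hx => ?_⟩, fun P f hf b hb => ?_,
    fun P g hP hg => ?_⟩⟩
  · obtain ⟨a, ha, e, -, heT, hge⟩ := hsplit hP hg
    rw [hge x hx]
    exact haT a ha _ (heT x hx)
  · obtain ⟨a, ha, e, he, heT, hbe⟩ := hsplit le_rfl ((mem_autGroup hTS).1 hb)
    obtain ⟨c, hc, hce⟩ := he.exists_aut (he.im_self heT)
    have h1 := FusionWeaklyNormal88.inv_mor hLI hf hc
    have h2 := layer_conj hS hD hL ha h1
    have hb' : ∀ x ∈ T, afun b x = afun a (afun c x) := fun x hx => by rw [hbe x hx, hce x hx]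
    have e1 : FusionIso88.img (afun a) (im P (afun c)) = im P (afun b) := by
      refine le_antisymm (FusionIso88.img_le_iff.2 fun y hy => ?_) (im_le_iff.2 fun x hx => ?_)
      · obtain ⟨x, hx, rfl⟩ := (((mem_autGroup hTU).1 hc).restrict_to hf.le).mem_im.1 hy
        exact hb' x (hf.le hx) ▸ apply_mem_im hx
      · exact (hb' x (hf.le hx)).symm ▸ FusionIso88.apply_mem_img (apply_mem_im hx)
    rw [e1] at h2
    refine ⟨_, h2, fun x hx => ?_⟩
    have hxT := hf.le hx
    simp only [Function.comp_apply]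
    rw [hb' x hxT, afun_inv_apply a (hTU (afun_mem c hxT)), afun_inv_apply c hxT,
      hb' _ (hf.apply_mem hx)]
  · obtain ⟨a, ha, e, he, -, hge⟩ := hsplit hP hg
    obtain ⟨c, hc, e', he', hee⟩ := FusionWeaklyNormal88.inv_factor hLI hP he
    obtain ⟨b, hb, hbe⟩ := hres a ha
    refine ⟨b * c, mul_mem hb (mem_autGroup_of_mor (sub_mor hI.1 ((mem_autGroup hTU).1 hc))), e',
      he', fun x hx => ?_⟩
    rw [hge x hx, hee x hx, afun_mul _ _ (he'.apply_mem hx), hbe _ (afun_mem c (he'.apply_mem hx))]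

/-- The layer of a normal subsystem is normal. -/
theorem layer_normal (hS : IsPGroup p S) (hF : F.IsSaturated p) (hD : D.IsNormalIn F p)
    {T : Subgroup Ω} {L : FusionSystem T} (hL : L.IsLayerOf D p) : L.IsNormalIn F p := by
  have hUS : U ≤ S := sub_le hD.1.2.2.1
  haveI := finite_of_le hUS
  have hTU : T ≤ U := sub_le hL.1.1.2.2.1
  haveI := finite_of_le hTU
  have hw := layer_weakly hS hF hD hL
  have hTS := hTU.trans hUS
  set L₀ := FusionPrimeIndex88.EH L p (FusionPrimeIndex88.A0 L p) with hL₀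
  have hL₀n : L₀.IsNormalIn F p := FusionResidualNormal88.normal_EH hS hw
    (FusionPrimeIndex88.saturated_EH (hS.to_le hTS) hw.1 le_rfl) fun _ _ => Iff.rfl
  obtain ⟨M, ⟨-, hML, hMD⟩, -⟩ :=
    (⟨hS, hF, hL₀n, hD⟩ : FusionMeet.Setup F L₀ D p).exists_meet
  have hall : ∀ (V : Subgroup Ω) (C : FusionSystem V), C.IsComponentIn D p → C.IsSubsystemOf M :=
    fun V C hC => FusionLayer.component_le hC.1 inferInstance inferInstance (hS.to_le hUS) hC.2 _ M
      hMD (le_inf (FusionLayer.le_of_subsystem (hL.2.1 V C hC)) (subnormal_le hC.1))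
  have hle : L.IsSubsystemOf L₀ := fun P φ hφ => hML.1.2.2.1 P (hL.2.2 _ M hMD hall P hφ)
  exact FusionGenFitting.normal_cast rfl
    (fun P => Set.Subset.antisymm (FusionPrimeIndex88.eh_sub P) (hle P)) hL₀n

omit [Finite S] [Fact p.Prime] in
/-- A component is normal in the layer once it is normal in some normal subsystem containing
all components. -/
theorem normal_in_layer [Finite S] [Fact p.Prime] (hS : IsPGroup p S) (hF : F.IsSaturated p)
    {TC : Subgroup Ω} {C : FusionSystem TC} (hC : C.IsComponentIn F p)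
    {V : Subgroup Ω} {P : FusionSystem V} (hP : P.IsNormalIn F p)
    (hall : ∀ (W : Subgroup Ω) (C' : FusionSystem W), C'.IsComponentIn F p → C'.IsSubsystemOf P)
    (hCP : C.IsNormalIn P p) {T : Subgroup Ω} {L : FusionSystem T} (hL : L.IsLayerOf F p) :
    C.IsNormalIn L p := by
  have hVS : V ≤ S := sub_le hP.1.2.2.1
  haveI := finite_of_le hVS
  have hLP := hL.2.2 _ P hP hall
  have hTV : T ≤ V := FusionLayer.le_of_subsystem hLP
  obtain ⟨M, ⟨hMF, hML, hMP⟩, -⟩ := (⟨hS, hF, hL.1, hP⟩ : FusionMeet.Setup F L P p).exists_meet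
  have hLM : L.IsSubsystemOf M := hL.2.2 _ M hMF fun W C' hC' =>
    FusionLayer.component_le hC'.1 inferInstance inferInstance hS hC'.2 _ M hMF
      (le_inf (FusionLayer.le_of_subsystem (hL.2.1 W C' hC'))
        (FusionLayer.le_of_subsystem (hall W C' hC')))
  have hLnP : L.IsNormalIn P p := FusionGenFitting.normal_cast (inf_eq_left.2 hTV)
    (fun Q => Set.Subset.antisymm (hML.1.2.2.1 Q) (hLM Q)) hMP
  have hTCV : TC ≤ V := sub_le hCP.1.2.2.1
  haveI := finite_of_le hTCV
  have hTCT : TC ≤ T := FusionLayer.le_of_subsystem (hL.2.1 TC C hC)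
  obtain ⟨M₂, ⟨-, hM₂C, hM₂L⟩, -⟩ :=
    (⟨hS.to_le hVS, hP.1.1, hCP, hLnP⟩ : FusionMeet.Setup P C L p).exists_meet
  have e : TC ⊓ T = TC := inf_eq_left.2 hTCT
  have hsub : ∀ {W : Subgroup Ω} (M' : FusionSystem W), W = TC → M'.IsNormalIn C p →
      C.IsSubsystemOf M' := by
    rintro W M' rfl hn
    exact FusionLayer.quasisimple_le ((hS.to_le hVS).to_le hTCV) hC.2 hn
  exact FusionGenFitting.normal_cast e
    (fun Q => Set.Subset.antisymm (hM₂C.1.2.2.1 Q) (hsub M₂ e hM₂C Q)) hM₂L

omit [Finite S] [Fact p.Prime] in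
/-- Some normal subsystem containing all components has a given component as a normal
subsystem. -/
theorem exists_super {TC : Subgroup Ω} {C : FusionSystem TC} (h : C.IsSubnormalIn F p) :
    Fact p.Prime → Finite S → IsPGroup p S → F.IsSaturated p → C.Quasisimple p →
      ∃ (V : Subgroup Ω) (P : FusionSystem V), P.IsNormalIn F p ∧
        (∀ (W : Subgroup Ω) (C' : FusionSystem W), C'.IsComponentIn F p → C'.IsSubsystemOf P) ∧
        C.IsNormalIn P p := by
  induction h with
  | refl F' p' =>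
    intro hp hfin hS hF hq
    exact ⟨_, F', FusionLayer.self_normal hF,
      fun W C' hC' => FusionIso88.subnormal_subsystem hC'.1, FusionLayer.self_normal hF⟩
  | @step U₁ S' C D F' p' hsub hn ih =>
    intro hp hfin hS hF hq
    haveI := hp
    haveI := hfin
    have hUS : U₁ ≤ S' := sub_le hn.1.2.2.1
    haveI := finite_of_le hUS
    have hUp := hS.to_le hUS
    have hCD : C.IsComponentIn D p' := ⟨hsub, hq⟩
    obtain ⟨V, P, hP, hall, hCP⟩ := ih hp inferInstance hUp hn.1.1 hq
    obtain ⟨TL, L, hL⟩ := FusionLayer.exists_layer hUp hn.1.1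
    have hCL := normal_in_layer hUp hn.1.1 hCD hP hall hCP hL
    have hLF := layer_normal hS hF hn hL
    obtain ⟨K, hK, hKc⟩ := FusionCentralizerNormal.exists_normal_centralizer hS hF hLF
    have hv1 := FusionCentralizerSub.valid_cs hS hF hLF
    have hv2 : FusionCentralizerSub.Valid F' K TL := by
      refine (FusionCentralizerSub.valid_iff hK.1.2.2.1).2 ⟨fun t ht => ?_, hKc⟩
      refine mem_centralizerIn.2 ⟨(sub_le hLF.1.2.2.1) ht, fun k hk => ?_⟩
      have h1 := (mem_centralizerIn.1 (hv1.1 hk)).2 t ht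
      rw [cj_apply, mul_inv_eq_iff_eq_mul] at h1
      rw [cj_apply, ← h1, mul_inv_cancel_right]
    have hcom : FusionCPNormal.Com F' L K p' := ⟨hS, hF, hLF, hK, hv1, hv2⟩
    obtain ⟨R, -, hR, hRs⟩ := hcom.exists_cp
    have hRn := hcom.cp_normal hR hRs
    have hRS := hcom.le_sup
    haveI := finite_of_le hRS
    refine ⟨_, R, hRn, fun W C' hC' => ?_, hR.trans_left (hS.to_le hRS) hRs hCL⟩
    rcases FusionCompNormal.component_or_commute hS hF hC'.1 hC'.2 hLF with h1 | ⟨-, h2⟩
    · exact fun Q => (h1 Q).trans (hR.sub_left Q)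
    · have hWK : W ≤ FusionCentralizerSub.cs F' L p' :=
        FusionCentralizerSub.valid_le_cs hS hF hLF.1.2.2 h2
      have h3 := FusionLayer.component_le hC'.1 inferInstance inferInstance hS hC'.2 _ K hK hWK
      exact fun Q => (h3 Q).trans (hR.symm.sub_left Q)

/-- Every component is normal in the layer. -/
theorem component_normal_in_layer (hS : IsPGroup p S) (hF : F.IsSaturated p) {TC : Subgroup Ω}
    {C : FusionSystem TC} (hC : C.IsComponentIn F p) {T : Subgroup Ω} {L : FusionSystem T}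
    (hL : L.IsLayerOf F p) : C.IsNormalIn L p := by
  obtain ⟨V, P, hP, hall, hCP⟩ := exists_super hC.1 inferInstance inferInstance hS hF hC.2
  exact normal_in_layer hS hF hC hP hall hCP hL

end Cfsg.Agent.FusionLayerNormal
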