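import Cfsg.Agent.Lib.FusionCentralizerSub

/-!
The cocycle of an element `x ∈ C_S(Q)` on the normal closure of `Aut_T(Q)` in `Aut_E(Q)`.

For `E` normal in `F` over `T`, `Q ≤ T` fully normalized and centric in `E`, and `x ∈ C_S(Q)`
centralizing `N_T(Q)`, there are a normal subgroup `W` of `Aut_E(Q)` containing `Aut_T(Q)` and a
cocycle `c : W → Z(Q)`, zero on `Aut_T(Q)`, such that each `a ∈ W` extends to a map sending `x` to
`x * c a`; for `a` of order prime to `p` the value `c a` is the only one possible (`exists_data`).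
-/

set_option autoImplicit false

namespace Cfsg.Agent.FusionLiftCocycle

open Cfsg Cfsg.FusionSystem Cfsg.Agent.FusionSysBasic Cfsg.Agent.FusionSysSaturated
open Cfsg.Agent.FusionSysNormal Cfsg.Agent.FusionGoodLift Cfsg.Agent.FusionKit88
open Cfsg.Agent.FusionCentralizerSub

variable {Ω : Type*} [Group Ω] {S T : Subgroup Ω} [Finite S] {F : FusionSystem S}
  {E : FusionSystem T} {p : ℕ} [Fact p.Prime]

/-- A lift agrees at `x ∈ C_S(P)` with every other extension of the same map that moves `x` inside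
`P` and has period prime to `p` at `x`. -/
theorem eq_of_ext (hS : IsPGroup p S) (hF : F.IsSaturated p) {P : Subgroup Ω} {b : Ω → Ω}
    (h : Lift F p P b) {x : Ω} (hx : x ∈ centralizerIn S P) {ψ : Ω → Ω}
    (hψ : Mor F (P ⊔ Subgroup.zpowers x) ψ) (he : ∀ y ∈ P, ψ y = b y) (hψx : x⁻¹ * ψ x ∈ P)
    {n : ℕ} (hn : n.Coprime p) (hper : ψ^[n] x = x) : ψ x = b x := by
  have hC : centralizerIn S P ≤ P ⊔ centralizerIn S P := le_sup_right
  have hb : Mor F (P ⊔ Subgroup.zpowers x) b :=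
    h.mor.restrict_to (sup_le le_sup_left (Subgroup.zpowers_le.2 (hC hx)))
  obtain ⟨g, hg, hgb, -, hgP⟩ := hb.exists_inv
  have hxz : x ∈ P ⊔ Subgroup.zpowers x := Subgroup.mem_sup_right (Subgroup.mem_zpowers x)
  have hle : Subgroup.zpowers (b x) ⊔ P ≤ im (P ⊔ Subgroup.zpowers x) b := by
    refine sup_le (Subgroup.zpowers_le.2 (apply_mem_im hxz)) ?_
    exact ((hb.restrict_to (le_sup_left : P ≤ P ⊔ Subgroup.zpowers x)).im_self h.stab).ge.trans
      (im_mono le_sup_left)
  have hγ : Mor F (Subgroup.zpowers (b x) ⊔ P) (ψ ∘ g) :=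
    (hg.restrict_to hle).comp hψ fun y hy => hgP y (hle hy)
  have hγP : ∀ y ∈ P, (ψ ∘ g) y = y := fun y hy => by
    obtain ⟨w, hw, rfl⟩ := (hb.restrict_to le_sup_left).mem_im.1
      (((hb.restrict_to le_sup_left).im_self h.stab).ge hy)
    rw [Function.comp_apply, hgb w (Subgroup.mem_sup_left hw), he w hw]
  have hbx := h.mem_cent hx
  have hk := h.comm hS hF (Subgroup.zpowers_le.2 hbx) hγ hγP (b x) (Subgroup.mem_zpowers _)
  rw [Function.comp_apply, hgb x hxz] at hk
  have hψC : ψ x ∈ centralizerIn S P := by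
    have := apply_cent hψ le_sup_left hxz hx
    rwa [(hψ.restrict_to le_sup_left).im_self fun y hy => he y hy ▸ h.stab y hy] at this
  set w := (b x)⁻¹ * ψ x with hw
  have hwP : w ∈ P := by
    have := P.mul_mem (P.inv_mem (h.move x hx)) hψx
    simpa [hw, mul_assoc] using this
  have hwC : w ∈ centralizerIn S P := mul_mem (inv_mem hbx) hψC
  have e1 : ψ x = b x * w := by rw [hw, mul_inv_cancel_left]
  have hbw : b w = w := by
    rw [e1, h.mor.map_mul (hC hbx) (hC hwC)] at hk
    have hcm := h.move_comm hbx hwC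
    calc b w = (b (b x))⁻¹ * b x * w * ((b x * w)⁻¹ * (b (b x) * b w)) := by
          simp [mul_assoc]
      _ = (b (b x))⁻¹ * b x * w * ((b x)⁻¹ * b (b x)) := by rw [hk]
      _ = ((b x)⁻¹ * b (b x))⁻¹ * (((b x)⁻¹ * b (b x)) * w) := by
          rw [hcm.eq]; simp [mul_assoc]
      _ = w := inv_mul_cancel_left _ _
  have hb1 : ∀ y ∈ P ⊔ centralizerIn S P, b y ∈ P ⊔ centralizerIn S P := sup_map h.mor h.stab
  have hbit : ∀ k : ℕ, b^[k] x ∈ centralizerIn S P ∧ x⁻¹ * b^[k] x ∈ P := by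
    intro k
    induction k with
    | zero => exact ⟨hx, by simp⟩
    | succ k ih =>
      rw [Function.iterate_succ_apply']
      refine ⟨h.mem_cent ih.1, ?_⟩
      have := P.mul_mem ih.2 (h.move _ ih.1)
      simpa [mul_assoc] using this
  have hiter : ∀ k : ℕ, ψ^[k] x = b^[k] x * w ^ k := by
    intro k
    induction k with
    | zero => simp
    | succ k ih =>
      rw [Function.iterate_succ_apply', ih, Function.iterate_succ_apply']
      obtain ⟨q, hq⟩ : ∃ q, b^[k] x = x * q :=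
        ⟨x⁻¹ * b^[k] x, (mul_inv_cancel_left _ _).symm⟩
      have hqP : q ∈ P := by
        have := (hbit k).2
        rwa [hq, inv_mul_cancel_left] at this
      have hbpow : b (w ^ k) = w ^ k := by
        clear hqP ih hq q
        induction k with
        | zero => simp [h.mor.map_one]
        | succ k ihk =>
          rw [pow_succ, h.mor.map_mul (hC (pow_mem hwC k)) (hC hwC), hbw, ihk]
      have hcq : Commute w (b q) := by
        have := (mem_centralizerIn.1 hwC).2 _ (h.stab q hqP)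
        rw [cj_apply, mul_inv_eq_iff_eq_mul] at this
        exact this
      rw [hq, mul_assoc,
        hψ.map_mul hxz (Subgroup.mem_sup_left (P.mul_mem hqP (pow_mem hwP k))),
        he _ (P.mul_mem hqP (pow_mem hwP k)), e1,
        h.mor.map_mul (Subgroup.mem_sup_left hqP) (Subgroup.mem_sup_left (pow_mem hwP k)),
        hbpow, h.mor.map_mul (hC hx) (Subgroup.mem_sup_left hqP), pow_succ']
      calc b x * w * (b q * w ^ k) = b x * (w * b q) * w ^ k := by simp [mul_assoc]
        _ = b x * b q * (w * w ^ k) := by rw [hcq.eq]; simp [mul_assoc]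
  obtain ⟨m, hm, hid⟩ := h.period
  have hbm : b^[n * m] x = x := by
    have hfix : Function.IsPeriodicPt b m x := hid x (hC hx)
    exact hfix.const_mul n
  have hψm : ψ^[n * m] x = x := by
    have hfix : Function.IsPeriodicPt ψ n x := hper
    exact hfix.mul_const m
  rw [hiter, hbm] at hψm
  have hw1 : w = 1 := eq_one_of_pow hS (h.full.1 hwP) (hn.mul_left hm) (mul_eq_left.1 hψm)
  rw [e1, hw1, mul_one]

/-- The data of a cocycle of `x` at `Q`. -/
structure Data (F : FusionSystem S) (E : FusionSystem T) (p : ℕ) (Q : Subgroup Ω) (x : Ω)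
    (W : Subgroup (MulAut Q)) (c : MulAut Q → Ω) : Prop where
  le : W ≤ E.autGroup Q
  normal : ∀ a ∈ E.autGroup Q, ∀ m ∈ W, a * m * a⁻¹ ∈ W
  ind : autInducedBy T Q ≤ W
  top : Q = T → E.autGroup Q ≤ W
  mem : ∀ a ∈ W, c a ∈ Q ∧ ∀ q ∈ Q, cj (c a) q = q
  mul : ∀ a ∈ W, ∀ b ∈ W, c (a * b) = c a * afun a (c b)
  inn : ∀ a ∈ autInducedBy T Q, c a = 1
  ext : ∀ a ∈ W, ∃ σ, Mor F (Q ⊔ Subgroup.zpowers x) σ ∧ (∀ q ∈ Q, σ q = afun a q) ∧
    σ x = x * c a
  uniq : ∀ a ∈ W, (orderOf a).Coprime p → ∀ (ψ : Ω → Ω) (n : ℕ), n.Coprime p →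
    Mor F (Q ⊔ Subgroup.zpowers x) ψ → (∀ q ∈ Q, ψ q = afun a q) → x⁻¹ * ψ x ∈ Q →
      ψ^[n] x = x → ψ x = x * c a

theorem exists_data (hS : IsPGroup p S) (hF : F.IsSaturated p) (hE : E.IsNormalIn F p)
    {Q : Subgroup Ω} (hQ : E.IsFullyNormalized Q) (hcen : centralizerIn T Q ≤ Q) {x : Ω}
    (hx : x ∈ centralizerIn S Q) (hxN : ∀ t ∈ normalizerIn T Q, cj t x = x) :
    ∃ W c, Data F E p Q x W c := by
  classical
  have hI := hE.1.2.2
  have hT : F.StronglyClosed T := hI.2.1
  have hTS : T ≤ S := hT.1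
  haveI := finite_of_le hTS
  have hTp : IsPGroup p T := hS.to_le hTS
  have hQS : Q ≤ S := hQ.1.trans hTS
  obtain ⟨Q', hQQ', hQ'n⟩ := exists_fullyNormalized (F := F) hQS
  obtain ⟨θ, hθ, hθN, hθQ⟩ := exists_map_to_fullyNormalized hS hF hQ'n hQQ'
  have hQ'T : Q' ≤ T := hθQ ▸ im_le_iff.2 fun q hq =>
    closed_apply' hT hθ (le_normalizerIn hQS hq) (hQ.1 hq)
  have hQc : E.IsCentric Q := FusionSysAlperin.centric_of_fullyCentralized
    (fullyCentralized_of_fullyNormalized hTp hE.1.1 hQ) hcen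
  have hθ0 : Mor F Q θ := hθ.restrict_to (le_normalizerIn hQS)
  have hQ'c : centralizerIn T Q' ≤ Q' := hθQ ▸ FusionSysAlperin.centralizerIn_le_of_centric
    (FusionWeaklyNormal88.centric_image hI hQc hθ0)
  have hQ'fc := fullyCentralized_of_fullyNormalized hS hF hQ'n
  have hQ'En : E.IsFullyNormalized Q' := fullyNormalized_sub hS hF hI.1 hT hQ'T hQ'n
  have hQ'S : Q' ≤ S := hQ'n.1
  -- the normalizers in `T` correspond
  have hNθ : normalizerIn T Q ≤ normalizerIn S Q := inf_le_inf_right _ hTS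
  have hθT : ∀ t ∈ normalizerIn T Q, θ t ∈ normalizerIn T Q' := fun t ht =>
    ⟨closed_apply' hT hθ (hNθ ht) ht.1, (hθN t (hNθ ht)).2⟩
  have hNsurj : ∀ t' ∈ normalizerIn T Q', ∃ t ∈ normalizerIn T Q, θ t = t' := by
    have hm : Mor F (normalizerIn T Q) θ := hθ.restrict_to hNθ
    have hle : Nat.card (normalizerIn T Q') ≤ Nat.card (normalizerIn T Q) := by
      obtain ⟨a, ha, e, he, hfe⟩ := FusionWeaklyNormal88.inv_factor hI hQ.1 hθ0
      have ham := (mem_autGroup hTS).1 (inv_mem ha)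
      have him : im Q' (afun a⁻¹) = im Q e := by
        rw [← hθQ, hθ0.im_comp]
        exact im_congr fun q hq => by
          rw [Function.comp_apply, hfe q hq, afun_inv_apply a (he.apply_mem hq)]
      refine le_trans ?_ (hQ.2 (im Q e) (FusionSysBasic.isConj_iff.2 ⟨e, he, rfl⟩))
      refine card_le_of_mor (ham.restrict_to inf_le_left) (inf_le_left.trans hTS) fun t ht =>
        ⟨afun_mem _ ht.1, ?_⟩
      rw [← him]
      exact FusionWeaklyNormal88.apply_normalizes ham hQ'T ht.1 ht.2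
    have himN : im (normalizerIn T Q) θ = normalizerIn T Q' :=
      hm.im_eq_of_le (inf_le_left.trans hTS) (im_le_iff.2 hθT) hle
    exact fun t' ht' => hm.mem_im.1 (himN.ge ht')
  set x' := θ x with hx'
  have hxNS : x ∈ normalizerIn S Q := centralizerIn_le_normalizerIn hx
  have hx'C : x' ∈ centralizerIn S Q' := hθQ ▸ apply_cent hθ (le_normalizerIn hQS) hxNS hx
  have hx'N : ∀ t' ∈ normalizerIn T Q', cj t' x' = x' := fun t' ht' => by
    obtain ⟨t, ht, rfl⟩ := hNsurj t' ht'
    rw [hx', ← hθ.map_cj (hNθ ht) hxNS, hxN t ht]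
  -- automorphisms of `V = Q' C_S(Q')`
  set V := Q' ⊔ centralizerIn S Q' with hV
  have hVS : V ≤ S := sup_le hQ'S inf_le_left
  haveI := finite_of_le hVS
  haveI := finite_of_le hQ'S
  haveI := finite_centralizerIn (S := S) Q'
  have hQV : Q' ≤ V := le_sup_left
  have hCV : centralizerIn S Q' ≤ V := le_sup_right
  have hCmap : ∀ {f : MulAut V}, f ∈ F.autGroup V →
      (∀ q ∈ Q', afun f q ∈ Q') → ∀ c ∈ centralizerIn S Q', afun f c ∈ centralizerIn S Q' :=
    fun {f} hf hq => cent_map ((mem_autGroup hVS).1 hf) hq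
  let A : Subgroup (MulAut V) :=
    { carrier := {f | f ∈ F.autGroup V ∧ (∀ c ∈ centralizerIn S Q', c⁻¹ * afun f c ∈ Q') ∧
        ∃ a ∈ E.autGroup Q', ∀ q ∈ Q', afun f q = afun a q}
      one_mem' := ⟨one_mem _, fun c hc => by
          rw [afun_one (hCV hc), inv_mul_cancel]; exact Q'.one_mem,
        1, one_mem _, fun q hq => by rw [afun_one (hQV hq), afun_one hq]⟩
      mul_mem' := by
        rintro f g ⟨hf, hfm, a, ha, he⟩ ⟨hg, hgm, b, hb, he'⟩
        refine ⟨mul_mem hf hg, fun c hc => ?_, a * b, mul_mem ha hb, fun q hq => ?_⟩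
        · rw [afun_mul _ _ (hCV hc)]
          have := Q'.mul_mem (hgm c hc)
            (hfm _ (hCmap hg (fun q hq => he' q hq ▸ afun_mem b hq) c hc))
          simpa [mul_assoc] using this
        · rw [afun_mul _ _ (hQV hq), afun_mul _ _ hq, he' q hq, he _ (afun_mem b hq)]
      inv_mem' := by
        rintro f ⟨hf, hfm, a, ha, he⟩
        have hinv : ∀ q ∈ Q', afun f⁻¹ q = afun a⁻¹ q := fun q hq => by
          have h2 := he _ (afun_mem a⁻¹ hq)
          rw [afun_apply_inv _ hq] at h2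
          conv_lhs => rw [← h2]
          exact afun_inv_apply _ (hQV (afun_mem a⁻¹ hq))
        refine ⟨inv_mem hf, fun c hc => ?_, a⁻¹, inv_mem ha, hinv⟩
        have h3 := Q'.inv_mem (hfm _ (hCmap (inv_mem hf)
          (fun q hq => hinv q hq ▸ afun_mem a⁻¹ hq) c hc))
        rw [afun_apply_inv _ (hCV hc)] at h3
        simpa using h3 }
  have hAF : ∀ f : A, (f : MulAut V) ∈ F.autGroup V := fun f => f.2.1
  let res : A →* MulAut Q' :=
    { toFun := fun f => Classical.choose f.2.2.2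
      map_one' := afun_ext fun q hq => by
        rw [← (Classical.choose_spec (1 : A).2.2.2).2 q hq, Subgroup.coe_one, afun_one (hQV hq),
          afun_one hq]
      map_mul' := fun f g => afun_ext fun q hq => by
        rw [← (Classical.choose_spec (f * g).2.2.2).2 q hq, afun_mul _ _ hq, Subgroup.coe_mul,
          afun_mul _ _ (hQV hq), (Classical.choose_spec g.2.2.2).2 q hq,
          (Classical.choose_spec f.2.2.2).2 _ (afun_mem _ hq)] }
  have hres : ∀ (f : A), ∀ q ∈ Q', afun (res f) q = afun (f : MulAut V) q := fun f q hq =>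
    ((Classical.choose_spec f.2.2.2).2 q hq).symm
  have hresE : ∀ f : A, res f ∈ E.autGroup Q' := fun f => (Classical.choose_spec f.2.2.2).1
  -- the range
  have hrange : ∀ a, a ∈ wGroup F hQ'n.1 ⊓ E.autGroup Q' ↔ a ∈ res.range := by
    intro a
    constructor
    · rintro ⟨⟨f, hf, hfe, hfm⟩, haE⟩
      obtain ⟨B, hB, hBe⟩ := hf.exists_aut
        (hf.im_self (sup_map hf fun q hq => hfe q hq ▸ afun_mem a hq))
      refine ⟨⟨B, hB, fun c hc => ?_, a, haE, fun q hq => ?_⟩, afun_ext fun q hq => ?_⟩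
      · rw [hBe c (hCV hc)]; exact hfm c hc
      · rw [hBe q (hQV hq), hfe q hq]
      · rw [hres _ q hq]
        show afun B q = _
        rw [hBe q (hQV hq), hfe q hq]
    · rintro ⟨f, rfl⟩
      exact ⟨⟨afun (f : MulAut V), (mem_autGroup hVS).1 (hAF f), fun q hq => (hres f q hq).symm,
        f.2.2.1⟩, hresE f⟩
  -- the kernel consists of conjugations by elements of `C_S(Q')`, so it is central
  have hzfix : ∀ z ∈ Q', z ∈ centralizerIn S Q' → ∀ v ∈ V, cj z v = v := by
    intro z hzQ hzC v hv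
    have hV' : V ≤ Subgroup.centralizer {z} := by
      refine sup_le (fun q hq => Subgroup.mem_centralizer_singleton_iff.2 ?_)
        (fun d hd => Subgroup.mem_centralizer_singleton_iff.2 ?_)
      · have := (mem_centralizerIn.1 hzC).2 q hq
        rw [cj_apply, mul_inv_eq_iff_eq_mul] at this
        exact this.symm
      · have := (mem_centralizerIn.1 hd).2 z hzQ
        rw [cj_apply, mul_inv_eq_iff_eq_mul] at this
        exact this
    rw [cj_apply, ← Subgroup.mem_centralizer_singleton_iff.1 (hV' hv), mul_inv_cancel_right]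
  have hker : ∀ k ∈ res.ker, ∃ w ∈ centralizerIn S Q',
      ∀ v ∈ V, afun ((k : A) : MulAut V) v = cj w v := by
    intro k hk
    let D := centralizerSystem F Q' hQ'S
    have hD := isCentralizerSystem_centralizerSystem (F := F) Q' hQ'S
    have hDs : D.IsSaturated p :=
      FusionSysNormalizer.centralizerSystem_saturated hS hF hQ'fc hD
    have hCp : IsPGroup p (centralizerIn S Q') := hS.to_le inf_le_left
    haveI := finite_autGroup (F := D) (centralizerIn S Q')
    have hDfix : ∀ {γ : MulAut ↥(centralizerIn S Q')}, γ ∈ D.autGroup (centralizerIn S Q') →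
        ∀ c ∈ centralizerIn S Q', c ∈ Q' → afun γ c = c := by
      intro γ hγ c hc hcQ
      obtain ⟨-, -, -, g, -, hge, hgQ⟩ :=
        (mor_centralizerSystem_iff hD).1 ((mem_autGroup le_rfl).1 hγ)
      rw [← hge c hc, hgQ c hcQ]
    let K₀ : Subgroup (D.autGroup (centralizerIn S Q')) :=
      { carrier := {γ | ∀ c ∈ centralizerIn S Q', c⁻¹ * afun (γ : MulAut ↥(centralizerIn S Q')) c ∈ Q'}
        one_mem' := fun c hc => by rw [Subgroup.coe_one, afun_one hc, inv_mul_cancel]
                                   exact Q'.one_mem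
        mul_mem' := fun {a b} ha hb c hc => by
          rw [Subgroup.coe_mul, afun_mul _ _ hc]
          have := Q'.mul_mem (hb c hc)
            (ha _ (afun_mem (b : MulAut ↥(centralizerIn S Q')) hc))
          simpa [mul_assoc] using this
        inv_mem' := fun {a} ha c hc => by
          rw [Subgroup.coe_inv]
          have := Q'.inv_mem (ha _ (afun_mem (a : MulAut ↥(centralizerIn S Q'))⁻¹ hc))
          rw [afun_apply_inv _ hc] at this
          simpa using this }
    haveI : K₀.Normal := ⟨fun γ hγ a c hc => by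
      rw [Subgroup.coe_mul, Subgroup.coe_mul, Subgroup.coe_inv, afun_mul _ _ hc,
        afun_mul _ _ (afun_mem _ hc)]
      have hc' := afun_mem (a : MulAut ↥(centralizerIn S Q'))⁻¹ hc
      have h1 := hγ _ hc'
      have hm := (mem_autGroup le_rfl).1 a.2
      have h2 := hDfix a.2 _ (mul_mem (inv_mem hc') (afun_mem _ hc')) h1
      rw [hm.map_mul (inv_mem hc') (afun_mem _ hc'), hm.map_inv hc', afun_apply_inv _ hc] at h2
      rw [h2]
      exact h1⟩
    have hK₀p : IsPGroup p K₀ := fun γ => by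
      obtain ⟨j, hj⟩ := pow_eq_one_of_stabilizes hCp (n := 2)
        (fun i => if i = 0 then ⊥ else if i = 1 then centralizerIn S Q' ⊓ Q'
          else centralizerIn S Q') rfl rfl
        (fun i => by split_ifs <;> simp) (fun i hi => by
          interval_cases i <;> simp)
        (α := ((γ : D.autGroup (centralizerIn S Q')) : MulAut _)) (fun i hi y hy => by
          interval_cases i
          · simp only [zero_add, if_neg one_ne_zero, if_pos rfl] at hy
            simp [hDfix γ.1.2 y hy.1 hy.2]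
          · simp only [if_neg one_ne_zero, if_pos rfl]
            simp only [show (1 + 1 = 0) = False by simp, show (1 + 1 = 1) = False by simp,
              if_false] at hy
            exact ⟨Subgroup.mul_mem _ (Subgroup.inv_mem _ hy) (afun_mem _ hy), γ.2 y hy⟩)
      exact ⟨j, Subtype.ext (Subtype.ext (by simpa using hj))⟩
    obtain ⟨-, T0, hT0⟩ := fullyAutomized_of_fullyNormalized hCp hDs fullyNormalized_self
    have hK₀T : K₀ ≤ (T0 : Subgroup (D.autGroup (centralizerIn S Q'))) :=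
      le_sup_right.trans (T0.is_maximal' (T0.2.to_sup_of_normal_right hK₀p) le_sup_left).le
    have hkQ : ∀ q ∈ Q', afun ((k : A) : MulAut V) q = q := fun q hq => by
      rw [← hres k q hq, (MonoidHom.mem_ker.1 hk : res k = 1), afun_one hq]
    have hkm := (mem_autGroup hVS).1 (hAF k)
    have hkC : ∀ c ∈ centralizerIn S Q',
        afun ((k : A) : MulAut V) c ∈ centralizerIn S Q' :=
      hCmap (hAF k) fun q hq => (hkQ q hq).symm ▸ hq
    have hkD : Mor D (centralizerIn S Q') (afun ((k : A) : MulAut V)) := by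
      refine (mor_centralizerSystem_iff hD).2 ⟨hkm.restrict_to hCV, le_rfl, hkC,
        afun ((k : A) : MulAut V), ?_, fun _ _ => rfl, hkQ⟩
      rw [sup_comm]; exact hkm
    obtain ⟨γ, hγ, hγe⟩ := hkD.exists_aut (hkD.im_self hkC)
    have hγK : (⟨γ, hγ⟩ : D.autGroup (centralizerIn S Q')) ∈ K₀ := fun c hc => by
      show c⁻¹ * afun γ c ∈ Q'
      rw [hγe c hc]; exact (k : A).2.2.1 c hc
    have h1 := hK₀T hγK
    rw [hT0, Subgroup.mem_subgroupOf] at h1
    obtain ⟨w, hw, -, hwe⟩ := mem_autInducedBy.1 h1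
    refine ⟨w, hw, fun v hv => ?_⟩
    refine eqOn_sup hkm (mor_cj hVS hw.1) (fun q hq => ?_) (fun d hd => ?_) hv
    · rw [hkQ q hq, (mem_centralizerIn.1 hw).2 q hq]
    · rw [← hγe d hd]; exact hwe d hd
  have hcentral : ∀ k ∈ res.ker, ∀ g : A, g * k = k * g := by
    intro k hk g
    obtain ⟨w, hw, hwe⟩ := hker k hk
    refine Subtype.ext (afun_ext fun v hv => ?_)
    have hm := (mem_autGroup hVS).1 (hAF g)
    have hgw := hCmap (hAF g) (fun q hq => hres g q hq ▸ afun_mem _ hq) w hw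
    have hz : w⁻¹ * afun (g : MulAut V) w ∈ centralizerIn S Q' := mul_mem (inv_mem hw) hgw
    rw [Subgroup.coe_mul, Subgroup.coe_mul, afun_mul _ _ hv, afun_mul _ _ hv, hwe v hv,
      hwe _ (afun_mem _ hv), hm.map_cj (hCV hw) hv]
    conv_lhs => rw [← mul_inv_cancel_left w (afun (g : MulAut V) w), ← cj_cj]
    rw [hzfix _ (g.2.2.1 w hw) hz _ (afun_mem _ hv)]
  have hKp : IsPGroup p res.ker := by
    intro k
    obtain ⟨w, hw, hwe⟩ := hker k k.2
    obtain ⟨j, hj⟩ := hS ⟨w, hw.1⟩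
    refine ⟨j, Subtype.ext (Subtype.ext (afun_ext fun v hv => ?_))⟩
    have hpow : ∀ i : ℕ, afun (((k : A) : MulAut V) ^ i) v = cj (w ^ i) v := by
      intro i
      induction i with
      | zero => rw [pow_zero, pow_zero, afun_one hv, cj_one]
      | succ i ih =>
        rw [pow_succ', afun_mul _ _ hv, hwe _ (afun_mem _ hv), ih, cj_cj, ← pow_succ']
    have hj' : w ^ p ^ j = 1 := congrArg Subtype.val hj
    simp only [Subgroup.coe_pow, Subgroup.coe_one]
    rw [hpow, hj', cj_one, afun_one hv]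
  -- conjugations by `N_T(Q')`
  let B : Subgroup A := (autInducedBy (normalizerIn T Q') V).comap A.subtype
  have hBel : ∀ t ∈ normalizerIn T Q', ∃ b ∈ B, ∀ v ∈ V, afun ((b : A) : MulAut V) v = cj t v := by
    intro t ht
    have htS := hTS ht.1
    have hC : ∀ c ∈ centralizerIn S Q', cj t c ∈ centralizerIn S Q' := fun c hc => by
      refine mem_centralizerIn.2 ⟨cj_mem_S htS (mem_centralizerIn.1 hc).1, fun y hy => ?_⟩
      have := (mem_centralizerIn.1 hc).2 _ (cj_mem_of_normalizer (Subgroup.inv_mem _ ht.2) hy)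
      calc cj (cj t c) y = cj t (cj c (cj t⁻¹ y)) := by simp [cj_apply, mul_assoc]
        _ = y := by rw [this, cj_cj_inv]
    have htV : t ∈ Subgroup.normalizer (V : Set Ω) :=
      mem_normalizer_of_cj_le hVS fun v hv => mor_sup_induction (mor_cj (F := F) hVS htS)
        (fun q hq => hQV (cj_mem_of_normalizer ht.2 hq)) (fun c hc => hCV (hC c hc)) hv
    let β := nHom (normalizerIn T Q') V ⟨t, ht, htV⟩
    have hβF : β ∈ F.autGroup V := autInducedBy_le hVS
      (autInducedBy_mono (inf_le_left.trans hTS) V ((autInducedBy_eq_range _ V).ge ⟨_, rfl⟩))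
    refine ⟨⟨β, hβF, fun c hc => ?_, nHom T Q' ⟨t, ht⟩, mem_autGroup_of_mor
      ((mor_cj hQ'T ht.1).congr fun q hq => (afun_nHom (K := T) ⟨t, ht⟩ hq).symm), fun q hq => by
        rw [afun_nHom _ (hQV hq), afun_nHom _ hq]⟩,
      (autInducedBy_eq_range _ V).ge ⟨_, rfl⟩, fun v hv => afun_nHom _ hv⟩
    rw [afun_nHom _ (hCV hc)]
    refine hQ'c (mem_centralizerIn.2 ⟨?_, (mem_centralizerIn.1 (mul_mem (inv_mem hc) (hC c hc))).2⟩)
    have := T.mul_mem (cj_mem_of_stronglyClosed hT (S.inv_mem (mem_centralizerIn.1 hc).1) ht.1)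
      (T.inv_mem ht.1)
    simpa [cj_apply, mul_assoc] using this
  have hBt : ∀ b ∈ B, ∃ t ∈ normalizerIn T Q', ∀ v ∈ V, afun ((b : A) : MulAut V) v = cj t v :=
    fun b hb => by
      obtain ⟨t, ht, -, he⟩ := mem_autInducedBy.1 (Subgroup.mem_comap.1 hb)
      exact ⟨t, ht, he⟩
  have hBK : ∀ b ∈ B, b ∈ res.ker → b = 1 := by
    intro b hb hbk
    obtain ⟨t, ht, he⟩ := hBt b hb
    have htC : t ∈ centralizerIn T Q' := mem_centralizerIn.2 ⟨ht.1, fun q hq => by
      rw [← he q (hQV hq), ← hres b q hq, (MonoidHom.mem_ker.1 hbk : res b = 1), afun_one hq]⟩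
    refine Subtype.ext (afun_ext fun v hv => ?_)
    rw [he v hv, hzfix t (hQ'c htC)
      (mem_centralizerIn.2 ⟨hTS ht.1, (mem_centralizerIn.1 htC).2⟩) v hv, Subgroup.coe_one,
      afun_one hv]
  -- a Sylow subgroup
  let P : Subgroup A := (autInducedBy T Q').comap res
  have hBP : B ≤ P := fun b hb => by
    obtain ⟨t, ht, he⟩ := hBt b hb
    exact mem_autInducedBy.2 ⟨t, ht.1, ht.2, fun q hq => by rw [hres b q hq, he q (hQV hq)]⟩
  have hKP : res.ker ≤ P := fun k hk => by
    show res k ∈ autInducedBy T Q'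
    rw [MonoidHom.mem_ker.1 hk]; exact one_mem _
  have hdec : ∀ q ∈ P, ∃ b ∈ B, ∃ k ∈ res.ker, q = b * k := by
    intro q hq
    obtain ⟨t, ht, htn, he⟩ := mem_autInducedBy.1 (Subgroup.mem_comap.1 hq)
    obtain ⟨b, hb, hbe⟩ := hBel t ⟨ht, htn⟩
    refine ⟨b, hb, b⁻¹ * q, ?_, (mul_inv_cancel_left b q).symm⟩
    rw [MonoidHom.mem_ker, map_mul, map_inv, inv_mul_eq_one]
    exact afun_ext fun y hy => by rw [hres b y hy, hbe y (hQV hy), he y hy]
  haveI := finite_autGroup (F := E) Q'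
  have hTsyl := fullyAutomized_of_fullyNormalized hTp hE.1.1 hQ'En
  have hindT : autInducedBy T Q' ≤ res.range := fun a ha => by
    obtain ⟨t, ht, htn, he⟩ := mem_autInducedBy.1 ha
    obtain ⟨b, -, hbe⟩ := hBel t ⟨ht, htn⟩
    exact ⟨b, afun_ext fun q hq => by rw [hres b q hq, hbe q (hQV hq), he q hq]⟩
  have hPidx : ¬ p ∣ P.index := by
    rw [Subgroup.index_comap]
    intro hdvd
    obtain ⟨-, T0, hT0⟩ := hTsyl
    refine T0.not_dvd_index ?_
    rw [hT0]
    show p ∣ (autInducedBy T Q').relIndex (E.autGroup Q')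
    rw [← Subgroup.relIndex_mul_relIndex _ _ (E.autGroup Q') hindT
      (by rintro _ ⟨f, rfl⟩; exact hresE f)]
    exact hdvd.mul_right _
  -- the projection `P → res.ker`
  haveI hKc : IsMulCommutative res.ker :=
    ⟨⟨fun a b => Subtype.ext (hcentral b b.2 a)⟩⟩
  letI : CommGroup res.ker := { (inferInstance : Group res.ker) with
    mul_comm := fun a b => IsMulCommutative.is_comm.comm a b }
  let μ : B × res.ker →* P :=
    (MonoidHom.noncommCoprod B.subtype res.ker.subtype fun b k => hcentral k k.2 b).codRestrict P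
      fun w => P.mul_mem (hBP w.1.2) (hKP w.2.2)
  have hμ : Function.Bijective μ := by
    refine ⟨(injective_iff_map_eq_one μ).2 fun w hw => ?_, fun q => ?_⟩
    · have h1 : (w.1 : A) * (w.2 : A) = 1 := congrArg Subtype.val hw
      have h2 : (w.1 : A) = (w.2 : A)⁻¹ := eq_inv_of_mul_eq_one_left h1
      have h3 : (w.1 : A) = 1 := hBK _ w.1.2 (h2 ▸ inv_mem w.2.2)
      rw [h3, one_mul] at h1
      exact Prod.ext (Subtype.ext h3) (Subtype.ext h1)
    · obtain ⟨b, hb, k, hk, he⟩ := hdec q q.2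
      exact ⟨(⟨b, hb⟩, ⟨k, hk⟩), Subtype.ext he.symm⟩
  let τ : P →* res.ker := (MonoidHom.snd B res.ker).comp (MulEquiv.ofBijective μ hμ).symm.toMonoidHom
  have hτ : ∀ (q : P) (b : A) (k : A) (hb : b ∈ B) (hk : k ∈ res.ker), (q : A) = b * k →
      τ q = ⟨k, hk⟩ := by
    intro q b k hb hk he
    have h1 : q = MulEquiv.ofBijective μ hμ (⟨b, hb⟩, ⟨k, hk⟩) := Subtype.ext he
    rw [h1]
    show Prod.snd ((MulEquiv.ofBijective μ hμ).symm _) = _
    rw [MulEquiv.symm_apply_apply]
  -- `B` is closed under fusion in `P`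
  have hVrec : F.IsReceptive V := by
    refine receptive_of_fullyCentralized hS hF ⟨hVS, fun V₁ hV₁ => ?_⟩
    obtain ⟨h, hh, rfl⟩ := FusionSysBasic.isConj_iff.1 hV₁
    have hQ₁ : F.IsConj Q' (im Q' h) :=
      FusionSysBasic.isConj_iff.2 ⟨h, hh.restrict_to hQV, rfl⟩
    have hle : im (centralizerIn S Q') h ≤ centralizerIn S (im Q' h) :=
      im_le_iff.2 fun c hc => apply_cent hh hQV (hCV hc) hc
    have heq : im (centralizerIn S Q') h = centralizerIn S (im Q' h) :=
      eq_of_le_of_card_ge inf_le_left hle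
        ((hQ'fc.2 _ hQ₁).trans (hh.restrict_to hCV).card_im.ge)
    have hsub : centralizerIn S (im V h) ≤ im (centralizerIn S V) h := by
      intro d hd
      have hd' : d ∈ im (centralizerIn S Q') h := heq.ge (mem_centralizerIn.2
        ⟨(mem_centralizerIn.1 hd).1, fun y hy => (mem_centralizerIn.1 hd).2 y (im_mono hQV hy)⟩)
      obtain ⟨c, hc, rfl⟩ := (hh.restrict_to hCV).mem_im.1 hd'
      refine apply_mem_im (mem_centralizerIn.2 ⟨(mem_centralizerIn.1 hc).1, fun v hv => ?_⟩)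
      have hcv : cj c v ∈ V := mul_mem (mul_mem (hCV hc) hv) (inv_mem (hCV hc))
      refine hh.injOn hcv hv ?_
      rw [hh.map_cj (hCV hc) hv]
      exact (mem_centralizerIn.1 hd).2 _ (apply_mem_im hv)
    have hCle : centralizerIn S V ≤ V := fun c hc => hCV (mem_centralizerIn.2
      ⟨(mem_centralizerIn.1 hc).1, fun y hy => (mem_centralizerIn.1 hc).2 y (hQV hy)⟩)
    haveI := finite_of_le ((hh.restrict_to hCle).im_le)
    exact (Subgroup.card_le_of_le hsub).trans (hh.restrict_to hCle).card_im.le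
  have hstab : ∀ (g q : A) (hq : q ∈ P) (h : g⁻¹ * q * g ∈ P), τ ⟨_, h⟩ = τ ⟨q, hq⟩ := by
    intro g q hq h
    obtain ⟨b, hb, k, hk, rfl⟩ := hdec q hq
    have hkc : g⁻¹ * (b * k) * g = g⁻¹ * b * g * k := by
      rw [mul_assoc g⁻¹ b g, mul_assoc g⁻¹ (b * k), mul_assoc b k, ← hcentral k hk g]
      simp [mul_assoc]
    have hgb : g⁻¹ * b * g ∈ P := by
      have := P.mul_mem h (P.inv_mem (hKP hk))
      rwa [hkc, mul_inv_cancel_right] at this
    obtain ⟨b', hb', k', hk', hbk'⟩ := hdec _ hgb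
    obtain ⟨t, ht, hte⟩ := hBt b hb
    obtain ⟨t', ht', hte'⟩ := hBt b' hb'
    obtain ⟨w, hw, hwe⟩ := hker k' hk'
    set hA : MulAut V := ((g⁻¹ : A) : MulAut V) with hhA
    let N : Subgroup Ω := ((autInducedBy S V).comap
      ((MulAut.conj hA).toMonoidHom.comp (nHom S V))).map
        (S ⊓ Subgroup.normalizer (V : Set Ω)).subtype
    have htV : t ∈ S ⊓ Subgroup.normalizer (V : Set Ω) :=
      ⟨hTS ht.1, mem_normalizer_of_cj_le hVS fun v hv => hte v hv ▸ afun_mem _ hv⟩
    have htN : t ∈ N := by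
      refine ⟨⟨t, htV⟩, ?_, rfl⟩
      have e : hA * nHom S V ⟨t, htV⟩ * hA⁻¹ = ((g⁻¹ * b * g : A) : MulAut V) := by
        rw [show nHom S V ⟨t, htV⟩ = (b : MulAut V) from
          afun_ext fun v hv => by rw [afun_nHom _ hv, hte v hv]]
        simp [hhA]
      show MulAut.conj hA (nHom S V ⟨t, htV⟩) ∈ autInducedBy S V
      rw [MulAut.conj_apply, e, hbk', Subgroup.coe_mul]
      refine mem_autInducedBy.2 ⟨t' * w, S.mul_mem (hTS ht'.1) hw.1,
        mem_normalizer_of_cj_le hVS fun v hv => ?_, fun v hv => ?_⟩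
      · rw [← cj_cj, ← hwe v hv, ← hte' _ (afun_mem _ hv)]; exact afun_mem _ (afun_mem _ hv)
      · rw [afun_mul _ _ hv, hte' _ (afun_mem _ hv), hwe v hv, cj_cj]
    have hAV := (mem_autGroup hVS).1 (hAF g⁻¹)
    obtain ⟨e, he, hee⟩ := (receptive_iff.1 hVrec).2 V (afun hA) N hAV (im_afun _)
      (fun y hy => by obtain ⟨y, -, rfl⟩ := hy; exact y.2.1)
      (fun y hy => by obtain ⟨y, -, rfl⟩ := hy; exact y.2.2)
      (fun y hy => by
        obtain ⟨y, hy, rfl⟩ := hy
        obtain ⟨s, hs, -, hse⟩ := mem_autInducedBy.1 (Subgroup.mem_comap.1 hy)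
        refine ⟨s, hs, fun v hv => ?_⟩
        have hy2 : afun (hA * nHom S V y * hA⁻¹) (afun hA v) = cj s (afun hA v) :=
          hse _ (afun_mem _ hv)
        rw [afun_mul _ _ (afun_mem _ hv), afun_inv_apply _ hv, afun_mul _ _ hv,
          afun_nHom _ hv] at hy2
        exact hy2)
    have heT : e t ∈ T := closed_apply' hT he (Subgroup.mem_sup_right htN) ht.1
    have hgv : ∀ v ∈ V, afun ((g⁻¹ * b * g : A) : MulAut V) v = cj (e t) v := by
      intro v hv
      have hv' := afun_mem ((g : A) : MulAut V) hv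
      have hinv : afun hA (afun ((g : A) : MulAut V) v) = v := by
        rw [hhA, Subgroup.coe_inv]; exact afun_inv_apply _ hv
      rw [Subgroup.coe_mul, Subgroup.coe_mul, afun_mul _ _ hv, afun_mul _ _ hv', hte _ hv',
        ← hhA, ← hee _ (hte _ hv' ▸ afun_mem _ hv'),
        he.map_cj (Subgroup.mem_sup_right htN) (Subgroup.mem_sup_left hv'), hee _ hv', hinv]
    have heN : e t ∈ normalizerIn T Q' := ⟨heT, mem_normalizer_of_cj_le hQ'S fun y hy => by
      rw [← hgv y (hQV hy), ← hres _ y hy]; exact afun_mem _ hy⟩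
    have hgbB : g⁻¹ * b * g ∈ B := mem_autInducedBy.2 ⟨e t, heN,
      mem_normalizer_of_cj_le hVS fun v hv => hgv v hv ▸ afun_mem _ hv, hgv⟩
    rw [hτ _ (g⁻¹ * b * g) k hgbB hk hkc, hτ _ b k hb hk rfl]
  -- transfer
  let f : A →* res.ker := MonoidHom.transfer τ
  have hfB : ∀ b ∈ B, f b = 1 := by
    intro b hb
    show MonoidHom.transfer τ b = 1
    letI := P.fintypeQuotientOfFiniteIndex
    haveI : Fintype (Quotient (MulAction.orbitRel (Subgroup.zpowers b) (A ⧸ P))) :=
      Fintype.ofFinite _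
    rw [MonoidHom.transfer_eq_prod_quotient_orbitRel_zpowers_quot]
    refine Finset.prod_eq_one fun q _ => ?_
    rw [hstab _ _ (hBP (pow_mem hb _)) _, hτ _ _ 1 (pow_mem hb _) (one_mem _) (mul_one _).symm]
    rfl
  have hfK : ∀ (k : A) (hk : k ∈ res.ker), f k = (⟨k, hk⟩ : res.ker) ^ P.index := by
    intro k hk
    show MonoidHom.transfer τ k = _
    rw [MonoidHom.transfer_eq_pow τ k fun m g₀ _ => by
      rw [mul_assoc, ← hcentral _ (pow_mem hk m) g₀, inv_mul_cancel_left]]
    rw [hτ _ 1 (k ^ P.index) (one_mem _) (pow_mem hk _) (one_mul _).symm]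
    exact Subtype.ext rfl
  have hco : p.Coprime P.index := (Fact.out : p.Prime).coprime_iff_not_dvd.2 hPidx
  have hfker : ∀ g : A, f g = 1 → g ∈ res.ker → g = 1 := by
    intro g hg hgk
    rw [hfK g hgk] at hg
    exact congrArg Subtype.val ((hKp.powEquiv hco).injective
      (a₁ := ⟨g, hgk⟩) (a₂ := 1) (by simp only [IsPGroup.powEquiv_apply, hg, one_pow]))
  have hlift : ∀ a ∈ res.range, ∃ g : A, f g = 1 ∧ res g = a := by
    rintro a ⟨g, rfl⟩
    obtain ⟨k, hk⟩ := (hKp.powEquiv hco).surjective (f g)⁻¹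
    rw [IsPGroup.powEquiv_apply] at hk
    refine ⟨g * k, ?_, ?_⟩
    · rw [map_mul, hfK k k.2, hk, mul_inv_cancel]
    · rw [map_mul, MonoidHom.mem_ker.1 k.2, mul_one]
  -- back to `Q`
  let W : Subgroup (MulAut Q) :=
    (wGroup F hQ'n.1 ⊓ E.autGroup Q').comap (hθ0.transport hθQ).toMonoidHom
  have hW : ∀ {a}, a ∈ W → hθ0.transport hθQ a ∈ res.range := fun ha => (hrange _).1 ha
  have hWE : W ≤ E.autGroup Q := by
    intro a ha
    obtain ⟨j, hj, hjθ, -, -⟩ := hθ0.exists_inv
    rw [hθQ] at hj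
    have hjQ : im Q' j = Q := by
      rw [← hθQ, hθ0.im_comp]; exact (im_congr hjθ).trans (im_id Q)
    have := FusionWeaklyNormal88.aut_transport hI hQ'T hj hjQ ha.2
    convert this using 1
    refine afun_ext fun q hq => ?_
    have hθq : θ q ∈ Q' := hθQ ▸ apply_mem_im hq
    conv_rhs => rw [← hjθ q hq, hj.afun_transport hjQ _ hθq]
    show afun a q = j (afun (hθ0.transport hθQ a) (θ q))
    rw [hθ0.afun_transport hθQ a hq, hjθ _ (afun_mem a hq)]
  let σ : (a : MulAut Q) → a ∈ W → A := fun a ha => Classical.choose (hlift _ (hW ha))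
  have hσ1 : ∀ a ha, f (σ a ha) = 1 := fun a ha =>
    (Classical.choose_spec (hlift _ (hW ha))).1
  have hσ2 : ∀ a ha, res (σ a ha) = hθ0.transport hθQ a := fun a ha =>
    (Classical.choose_spec (hlift _ (hW ha))).2
  have huniq : ∀ a ha (g : A), f g = 1 → res g = hθ0.transport hθQ a → σ a ha = g := by
    intro a ha g hg hge
    refine (inv_mul_eq_one.1 (hfker ((σ a ha)⁻¹ * g) ?_ ?_))
    · rw [map_mul, map_inv, hσ1 a ha, hg, inv_one, one_mul]
    · rw [MonoidHom.mem_ker, map_mul, map_inv, hσ2 a ha, hge, inv_mul_cancel]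
  obtain ⟨θi, hθi, hθiθ, -, hθiQ⟩ := hθ.exists_inv
  let c : MulAut Q → Ω := fun a =>
    if ha : a ∈ W then θi (x'⁻¹ * afun ((σ a ha : A) : MulAut V) x') else 1
  have hxV : x' ∈ V := hCV hx'C
  have hval : ∀ a (ha : a ∈ W), c a ∈ Q ∧ (∀ q ∈ Q, cj (c a) q = q) ∧
      afun ((σ a ha : A) : MulAut V) x' = θ (x * c a) := by
    intro a ha
    have hc : c a = θi (x'⁻¹ * afun ((σ a ha : A) : MulAut V) x') := by
      simp only [c, dif_pos ha]
    set g := σ a ha
    have hgx : afun (g : MulAut V) x' ∈ centralizerIn S Q' :=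
      hCmap (hAF g) (fun q hq => hres g q hq ▸ afun_mem _ hq) x' hx'C
    have hz : x'⁻¹ * afun (g : MulAut V) x' ∈ Q' := g.2.2.1 x' hx'C
    have hzC : x'⁻¹ * afun (g : MulAut V) x' ∈ centralizerIn S Q' := mul_mem (inv_mem hx'C) hgx
    obtain ⟨q₀, hq₀, hq₀e⟩ := hθ0.mem_im.1 (hθQ.symm ▸ hz)
    have hcq : c a = q₀ := by rw [hc, ← hq₀e, hθiθ q₀ (le_normalizerIn hQS hq₀)]
    rw [hcq]
    refine ⟨hq₀, fun q hq => ?_, ?_⟩
    · refine hθ0.injOn (mul_mem (mul_mem hq₀ hq) (inv_mem hq₀)) hq ?_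
      rw [hθ0.map_cj hq₀ hq, hq₀e]
      exact (mem_centralizerIn.1 hzC).2 _ (hθQ ▸ apply_mem_im hq)
    · rw [hθ.map_mul hxNS (le_normalizerIn hQS hq₀), hq₀e, ← hx', mul_inv_cancel_left]
  have hind : autInducedBy T Q ≤ W ∧ ∀ a ∈ autInducedBy T Q, c a = 1 := by
    have key : ∀ a ∈ autInducedBy T Q, ∃ ha : a ∈ W, c a = 1 := by
      intro a ha
      obtain ⟨t, ht, htn, he⟩ := mem_autInducedBy.1 ha
      have htN : t ∈ normalizerIn T Q := ⟨ht, htn⟩
      obtain ⟨b, hb, hbe⟩ := hBel (θ t) (hθT t htN)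
      have hbr : res b = hθ0.transport hθQ a := afun_ext fun y hy => by
        obtain ⟨q, hq, rfl⟩ := hθ0.mem_im.1 (hθQ.symm ▸ hy)
        rw [hres b _ hy, hbe _ (hQV hy), hθ0.afun_transport hθQ a hq, he q hq,
          hθ.map_cj (hNθ htN) (le_normalizerIn hQS hq)]
      have haW : a ∈ W := (hrange _).2 ⟨b, hbr⟩
      refine ⟨haW, ?_⟩
      simp only [c, dif_pos haW, huniq a haW b (hfB b hb) hbr]
      rw [hbe x' hxV, hx'N _ (hθT t htN), inv_mul_cancel]
      exact (congrArg θi hθ.map_one).symm.trans (hθiθ 1 (one_mem _))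
    exact ⟨fun a ha => (key a ha).1, fun a ha => (key a ha).2⟩
  refine ⟨W, c,
    { le := hWE
      normal := fun a ha m hm => ?_
      ind := hind.1
      top := fun hQT a ha => ?_
      mem := fun a ha => ⟨(hval a ha).1, (hval a ha).2.1⟩
      mul := fun a ha b hb => ?_
      inn := hind.2
      ext := fun a ha => ?_
      uniq := fun a ha hcoa ψ n hn hψ hψe hψx hper => ?_ }⟩
  · show hθ0.transport hθQ (a * m * a⁻¹) ∈ wGroup F hQ'n.1 ⊓ E.autGroup Q'
    have haF : a ∈ F.autGroup Q := mem_autGroup_of_mor (sub_mor hI.1 ((mem_autGroup hQ.1).1 ha))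
    rw [map_mul, map_mul, map_inv]
    exact ⟨wGroup_normal hS hF hQ'fc (hθ0.transport_mem hθQ haF) hm.1,
      conj_mem_autGroup hI hQ'T (hθ0.transport_mem hθQ haF) hm.2⟩
  · have h1 := FusionWeaklyNormal88.aut_transport hI hQ.1 hθ0 hθQ ha
    have e : Q' = T := by
      subst hQT
      exact hθQ.symm.trans (self_conj_eq hT hθ0)
    show hθ0.transport hθQ a ∈ wGroup F hQ'n.1 ⊓ E.autGroup Q'
    subst e
    exact ⟨mem_wGroup_of_normal hE h1, h1⟩
  · have hab := mul_mem ha hb
    have hs : σ (a * b) hab = σ a ha * σ b hb := huniq _ hab _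
      (by rw [map_mul, hσ1 a ha, hσ1 b hb, one_mul])
      (by rw [map_mul, hσ2 a ha, hσ2 b hb, map_mul])
    have h3 := (hval _ hab).2.2
    rw [hs, Subgroup.coe_mul, afun_mul _ _ hxV, (hval b hb).2.2] at h3
    have hbN := le_normalizerIn hQS (hval b hb).1
    have haN := le_normalizerIn hQS (hval a ha).1
    have habN := le_normalizerIn hQS (hval _ hab).1
    have hm := (mem_autGroup hVS).1 (hAF (σ a ha))
    have hbQ : θ (c b) ∈ Q' := hθQ ▸ apply_mem_im (hval b hb).1
    rw [hθ.map_mul hxNS hbN, hm.map_mul hxV (hQV hbQ), (hval a ha).2.2,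
      ← hres _ _ hbQ, hσ2 a ha, hθ0.afun_transport hθQ a (hval b hb).1,
      ← hθ.map_mul (mul_mem hxNS haN) (le_normalizerIn hQS (afun_mem a (hval b hb).1)),
      mul_assoc] at h3
    have h4 := hθ.injOn (mul_mem hxNS (mul_mem haN
      (le_normalizerIn hQS (afun_mem a (hval b hb).1)))) (mul_mem hxNS habN) h3
    exact (mul_left_cancel h4).symm
  · -- extensions on `Q ⊔ ⟨x⟩`
    have hle : Q ⊔ Subgroup.zpowers x ≤ normalizerIn S Q :=
      sup_le (le_normalizerIn hQS) (Subgroup.zpowers_le.2 hxNS)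
    have hθx := hθ.restrict_to hle
    obtain ⟨j, hj, hjθ, -, -⟩ := hθx.exists_inv
    set g := σ a ha
    have hm := (mem_autGroup hVS).1 (hAF g)
    have hin : ∀ y ∈ Q ⊔ Subgroup.zpowers x, θ y ∈ V := fun y hy => mor_sup_induction hθx
      (fun q hq => hQV (hθQ ▸ apply_mem_im hq))
      (fun q hq => hCV (hθQ ▸ apply_cent hθ (le_normalizerIn hQS)
        (hle (Subgroup.mem_sup_right hq)) ((Subgroup.zpowers_le.2 hx) hq))) hy
    have hgθ : Mor F (Q ⊔ Subgroup.zpowers x) (afun (g : MulAut V) ∘ θ) := hθx.comp hm hin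
    have hq' : ∀ q ∈ Q, afun (g : MulAut V) (θ q) = θ (afun a q) := fun q hq => by
      rw [← hres g _ (hθQ ▸ apply_mem_im hq), hσ2 a ha, hθ0.afun_transport hθQ a hq]
    have hxc : x * c a ∈ Q ⊔ Subgroup.zpowers x :=
      mul_mem (Subgroup.mem_sup_right (Subgroup.mem_zpowers x))
        (Subgroup.mem_sup_left (hval a ha).1)
    refine ⟨j ∘ (afun (g : MulAut V) ∘ θ), hgθ.comp hj fun y hy => mor_sup_induction hgθ
      (fun q hq => by
        simp only [Function.comp_apply]
        rw [hq' q hq]; exact apply_mem_im (Subgroup.mem_sup_left (afun_mem a hq)))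
      (fun q hq => by
        obtain ⟨i, rfl⟩ := Subgroup.mem_zpowers_iff.1 hq
        have h1 : (afun (g : MulAut V) ∘ θ) x ∈ im (Q ⊔ Subgroup.zpowers x) θ := by
          simp only [Function.comp_apply]
          rw [← hx', (hval a ha).2.2]; exact apply_mem_im hxc
        obtain ⟨φ, -, hφ⟩ := hgθ
        rw [← hφ ⟨x ^ i, Subgroup.mem_sup_right hq⟩]
        rw [← hφ ⟨x, Subgroup.mem_sup_right (Subgroup.mem_zpowers x)⟩] at h1
        have e : (⟨x ^ i, Subgroup.mem_sup_right hq⟩ : ↥(Q ⊔ Subgroup.zpowers x)) =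
            ⟨x, Subgroup.mem_sup_right (Subgroup.mem_zpowers x)⟩ ^ i := Subtype.ext (by simp)
        rw [e, map_zpow]
        exact zpow_mem h1 i) hy,
      fun q hq => ?_, ?_⟩
    · simp only [Function.comp_apply]
      rw [hq' q hq, hjθ _ (Subgroup.mem_sup_left (afun_mem a hq))]
    · simp only [Function.comp_apply]
      rw [← hx', (hval a ha).2.2, hjθ _ hxc]
  · -- uniqueness for automorphisms of order prime to `p`
    set g := σ a ha
    have hgn : g ^ orderOf a = 1 := by
      refine hfker _ (by rw [map_pow, hσ1 a ha, one_pow]) ?_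
      rw [MonoidHom.mem_ker, map_pow, hσ2 a ha, ← map_pow, pow_orderOf_eq_one, map_one]
    have hqmem : ∀ q ∈ Q', afun (g : MulAut V) q ∈ Q' :=
      fun q hq => hres g q hq ▸ afun_mem _ hq
    have hb : Lift F p Q' (afun (g : MulAut V)) := by
      refine ⟨hQ'fc, (mem_autGroup hVS).1 (hAF g), hqmem, g.2.2.1, orderOf a, hcoa,
        fun v hv => ?_⟩
      have hit : ∀ i : ℕ, (afun (g : MulAut V))^[i] v = afun ((g : MulAut V) ^ i) v := by
        intro i
        induction i with
        | zero => rw [pow_zero, afun_one hv]; rfl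
        | succ i ih => rw [Function.iterate_succ_apply', ih, pow_succ', afun_mul _ _ hv]
      rw [hit, ← Subgroup.coe_pow, hgn, Subgroup.coe_one, afun_one hv]
    have hle : Q ⊔ Subgroup.zpowers x ≤ normalizerIn S Q :=
      sup_le (le_normalizerIn hQS) (Subgroup.zpowers_le.2 hxNS)
    have hθx := hθ.restrict_to hle
    obtain ⟨j, hj, hjθ, -, hjQ⟩ := hθx.exists_inv
    have hle' : Q' ⊔ Subgroup.zpowers x' ≤ im (Q ⊔ Subgroup.zpowers x) θ :=
      sup_le (hθQ ▸ im_mono le_sup_left)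
        (Subgroup.zpowers_le.2 (apply_mem_im (Subgroup.mem_sup_right (Subgroup.mem_zpowers x))))
    have hψs : ∀ y ∈ Q ⊔ Subgroup.zpowers x, ψ y ∈ Q ⊔ Subgroup.zpowers x := by
      intro y hy
      refine mor_sup_induction hψ (fun q hq => hψe q hq ▸ Subgroup.mem_sup_left (afun_mem a hq))
        (fun q hq => ?_) hy
      obtain ⟨i, rfl⟩ := Subgroup.mem_zpowers_iff.1 hq
      have h1 : ψ x ∈ Q ⊔ Subgroup.zpowers x := by
        have := mul_mem (Subgroup.mem_sup_right (S := Q) (Subgroup.mem_zpowers x))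
          (Subgroup.mem_sup_left (T := Subgroup.zpowers x) hψx)
        rwa [mul_inv_cancel_left] at this
      obtain ⟨φ, -, hφ⟩ := hψ
      rw [← hφ ⟨x ^ i, Subgroup.mem_sup_right hq⟩]
      rw [← hφ ⟨x, Subgroup.mem_sup_right (Subgroup.mem_zpowers x)⟩] at h1
      have e : (⟨x ^ i, Subgroup.mem_sup_right hq⟩ : ↥(Q ⊔ Subgroup.zpowers x)) =
          ⟨x, Subgroup.mem_sup_right (Subgroup.mem_zpowers x)⟩ ^ i := Subtype.ext (by simp)
      rw [e, map_zpow]
      exact zpow_mem h1 i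
    have hψ' : Mor F (Q' ⊔ Subgroup.zpowers x') (θ ∘ (ψ ∘ j)) :=
      ((hj.restrict_to hle').comp hψ fun y hy => hjQ y (hle' hy)).comp hθx
        fun y hy => hψs _ (hjQ y (hle' hy))
    have hxQ : x ∈ Q ⊔ Subgroup.zpowers x := Subgroup.mem_sup_right (Subgroup.mem_zpowers x)
    have hit : ∀ i : ℕ, ψ^[i] x ∈ Q ⊔ Subgroup.zpowers x ∧
        (θ ∘ (ψ ∘ j))^[i] x' = θ (ψ^[i] x) := by
      intro i
      induction i with
      | zero => exact ⟨hxQ, rfl⟩
      | succ i ih =>
        rw [Function.iterate_succ_apply', Function.iterate_succ_apply', ih.2]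
        refine ⟨hψs _ ih.1, ?_⟩
        simp only [Function.comp_apply]
        rw [hjθ _ ih.1]
    have h5 : (θ ∘ (ψ ∘ j)) x' = afun (g : MulAut V) x' := by
      refine eq_of_ext hS hF hb hx'C hψ' (fun y hy => ?_) ?_ hn ((hit n).2.trans (by rw [hper]))
      · obtain ⟨q, hq, rfl⟩ := hθ0.mem_im.1 (hθQ.symm ▸ hy)
        simp only [Function.comp_apply]
        rw [hjθ q (Subgroup.mem_sup_left hq), hψe q hq, ← hres g _ hy, hσ2 a ha,
          hθ0.afun_transport hθQ a hq]
      · simp only [Function.comp_apply]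
        rw [hx', hjθ x hxQ, ← hθ.map_inv hxNS, ← hθ.map_mul (inv_mem hxNS) (hle (hψs x hxQ))]
        exact hθQ ▸ apply_mem_im hψx
    simp only [Function.comp_apply] at h5
    rw [hjθ x hxQ, (hval a ha).2.2] at h5
    exact hθ.injOn (hle (hψs x hxQ)) (mul_mem hxNS (le_normalizerIn hQS (hval a ha).1)) h5

end Cfsg.Agent.FusionLiftCocycle
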