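import Mathlib
import Cfsg.Agent.S5139
import Cfsg.Agent.Lib.HallSolvable
import Cfsg.Agent.Lib.SylowCount
import Cfsg.Agent.Lib.FusionRealized87
import Cfsg.Agent.Lib.FusionIso88
import Cfsg.Agent.Lib.FusionPrimeIndex88
import Cfsg.Agent.Lib.FusionSolvable88

/-!
The alternating series of residual subsystems of a system with a model follows the series of
residual subgroups of the model; systems with a terminating series are constrained.
-/

set_option autoImplicit false

universe u

namespace Cfsg.Agent.FusionResidualSeries88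

open Cfsg Cfsg.FusionSystem Cfsg.Agent.FusionSysBasic Cfsg.Agent.FusionSysSaturated
  Cfsg.Agent.FusionRealized87 Cfsg.Agent.FusionInduct88

/-! ### Subgroups of the model -/

section Group

variable {p : ℕ} (G : Type*) [Group G]

/-- The subgroup generated by the elements of `p`-power order. -/
def genP (p : ℕ) : Subgroup G := Subgroup.closure {g : G | ∃ k, orderOf g = p ^ k}

variable {G}

theorem genP_normal : (genP G p).Normal := by
  refine ⟨fun n hn g => ?_⟩
  have : genP G p ≤ (genP G p).comap (MulAut.conj g).toMonoidHom :=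
    (Subgroup.closure_le _).2 fun x ⟨k, hk⟩ => Subgroup.subset_closure
      ⟨k, (MulEquiv.orderOf_eq (MulAut.conj g) x).trans hk⟩
  exact this hn

theorem le_genP [Fact p.Prime] {A : Subgroup G} (hA : IsPGroup p A) : A ≤ genP G p := fun x hx => by
  obtain ⟨k, hk⟩ := IsPGroup.iff_orderOf.1 hA ⟨x, hx⟩
  exact Subgroup.subset_closure ⟨k, by rwa [Subgroup.orderOf_mk] at hk⟩

theorem exists_pow_mem_genP [Finite G] [hp : Fact p.Prime] (g : G) :
    ∃ m, ¬ p ∣ m ∧ g ^ m ∈ genP G p := by
  obtain ⟨e, m, hm, he⟩ :=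
    Nat.exists_eq_pow_mul_and_not_dvd (orderOf_pos g).ne' p hp.out.ne_one
  refine ⟨m, hm, Subgroup.subset_closure ?_⟩
  have h : orderOf (g ^ m) ∣ p ^ e := orderOf_dvd_of_pow_eq_one
    (by rw [← pow_mul, mul_comm m, ← he, pow_orderOf_eq_one])
  obtain ⟨k, -, hk⟩ := (Nat.dvd_prime_pow hp.out).1 h
  exact ⟨k, hk⟩

theorem genP_genP : genP (genP G p) p = ⊤ :=
  (Subgroup.map_injective (genP G p).subtype_injective) (by
    rw [← MonoidHom.range_eq_map, Subgroup.range_subtype]
    refine le_antisymm (Subgroup.map_subtype_le _) ((Subgroup.closure_le _).2 fun g hg => ?_)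
    obtain ⟨k, hk⟩ := id hg
    exact ⟨⟨g, Subgroup.subset_closure hg⟩,
      Subgroup.subset_closure ⟨k, (Subgroup.orderOf_mk g _).trans hk⟩, rfl⟩)

/-- A normal subgroup containing a Sylow subgroup contains all elements of `p`-power order. -/
theorem genP_le [Finite G] [hp : Fact p.Prime] {N : Subgroup G} [N.Normal]
    (h : N.index.Coprime p) : genP G p ≤ N := by
  refine (Subgroup.closure_le _).2 fun g ⟨k, hk⟩ => ?_
  obtain ⟨i, hi⟩ := exists_pow_eq_self_of_coprime (x := g) (n := N.index)
    (hk ▸ Nat.Coprime.pow_right k h)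
  exact hi ▸ Subgroup.pow_mem _ (Subgroup.pow_index_mem N g) i

/-- A `p`-soluble group generated by its elements of `p`-power order and equal to its `p`-residual
is trivial. -/
theorem subsingleton_of_perfect [Finite G] [hp : Fact p.Prime] (hG : Cfsg.IsPSolvable p G)
    (hgen : genP G p = ⊤) (hres : Cfsg.pResidual p G = ⊤) : Subsingleton G := by
  obtain ⟨n, K, h0, hn, hmono, hN, hpc⟩ := hG
  have key : ∀ i, K i = ⊤ := by
    intro i
    induction i using Fin.reverseInduction with
    | last => exact hn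
    | cast i ih =>
      haveI := hN i.castSucc
      have h := hpc i
      rw [ih, Subgroup.relIndex_top_right] at h
      rcases h with ⟨m, hm⟩ | h
      · exact top_le_iff.1 (hres ▸ TransferPResidual.pResidual_le_of_index hm)
      · exact top_le_iff.1 (hgen ▸ genP_le h)
  exact Subgroup.subsingleton_iff.1 (subsingleton_of_bot_eq_top (h0.symm.trans (key 0)))

/-- In a group with self-centralizing `O_p`, the same holds for a normal subgroup. -/
theorem centralizer_pCore_subgroup [Finite G] [Fact p.Prime] (K : Subgroup G) [hK : K.Normal]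
    (hC : Subgroup.centralizer ((Cfsg.pCore p G : Subgroup G) : Set G) ≤ Cfsg.pCore p G) :
    Subgroup.centralizer ((Cfsg.pCore p K : Subgroup K) : Set K) ≤ Cfsg.pCore p K := by
  haveI := HallCore.pCore_normal p G
  set O := Cfsg.pCore p G with hO
  set R : Subgroup G := O ⊓ K with hR
  have hRK := HallCore.map_subtype_pCore (p := p) K
  rw [← hO, ← hR] at hRK
  haveI : R.Normal := Subgroup.normal_inf_normal O K
  set C : Subgroup G := K ⊓ Subgroup.centralizer (R : Set G) with hCdef
  haveI : C.Normal := Subgroup.normal_inf_normal K _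
  have hCp : IsPGroup p C := by
    rintro ⟨c, hcK, hcR⟩
    have hcc : ∀ r ∈ R, c * r = r * c := fun r hr => ((Subgroup.mem_centralizer_iff.1 hcR) r hr).symm
    have hmem : c ^ Nat.card O ∈ O := by
      refine hC (Subgroup.mem_centralizer_iff.2 fun o ho => ?_)
      set r := c * o * c⁻¹ * o⁻¹ with hr
      have hrR : r ∈ R := ⟨O.mul_mem (‹O.Normal›.conj_mem o ho c) (O.inv_mem ho), by
        rw [hr, show c * o * c⁻¹ * o⁻¹ = c * (o * c⁻¹ * o⁻¹) by group]
        exact K.mul_mem hcK (hK.conj_mem _ (K.inv_mem hcK) o)⟩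
      have hn : ∀ n : ℕ, c ^ n * o * (c ^ n)⁻¹ = r ^ n * o := by
        intro n
        induction n with
        | zero => simp
        | succ n ih =>
          have hcom : c * r ^ n = r ^ n * c := (hcc _ (R.pow_mem hrR n))
          calc c ^ (n + 1) * o * (c ^ (n + 1))⁻¹ = c * (c ^ n * o * (c ^ n)⁻¹) * c⁻¹ := by
                rw [pow_succ' c n]; group
            _ = (c * r ^ n) * o * c⁻¹ := by rw [ih]; group
            _ = r ^ n * (c * o * c⁻¹ * o⁻¹) * o := by rw [hcom]; group
            _ = _ := by rw [← hr, ← pow_succ]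
      have hr1 : r ^ Nat.card O = 1 := by
        have := pow_card_eq_one' (x := (⟨r, hrR.1⟩ : O))
        exact congrArg Subtype.val this
      have h := hn (Nat.card O)
      rw [hr1, one_mul, mul_inv_eq_iff_eq_mul] at h
      exact h.symm
    obtain ⟨e, he⟩ := (HallCore.isPGroup_pCore p G) ⟨_, hmem⟩
    obtain ⟨j, hj⟩ := (IsPGroup.iff_card).1 (HallCore.isPGroup_pCore p G)
    refine ⟨j + e, Subtype.ext ?_⟩
    have he' : (c ^ Nat.card O) ^ p ^ e = 1 := congrArg Subtype.val he
    show c ^ p ^ (j + e) = 1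
    rw [pow_add, pow_mul, ← hj, he']
  intro c hc
  have hcC : (c : G) ∈ C := ⟨c.2, Subgroup.mem_centralizer_iff.2 fun r hr => by
    obtain ⟨r', hr', rfl⟩ := hRK.ge hr
    exact congrArg Subtype.val (Subgroup.mem_centralizer_iff.1 hc r' hr')⟩
  have : (c : G) ∈ R := ⟨HallCore.le_pCore hCp hcC, c.2⟩
  obtain ⟨c', hc', e⟩ := hRK.ge this
  exact (Subtype.ext e : c' = c) ▸ hc'

end Group

/-! ### Subsystems cut out by normal subgroups of a model -/

variable {Ω : Type*} [Group Ω] {S : Subgroup Ω} {F : FusionSystem S} {G : Type*} [Group G]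
  {ι : S →* G} {p : ℕ}

/-- `U` is the intersection of `S` with `K`. -/
def Cut (ι : S →* G) (K : Subgroup G) (U : Subgroup Ω) : Prop :=
  ∀ x, x ∈ U ↔ x ∈ S ∧ up ι x ∈ K

theorem Cut.le {K : Subgroup G} {U : Subgroup Ω} (h : Cut ι K U) : U ≤ S :=
  fun x hx => ((h x).1 hx).1

theorem cut_self {K : Subgroup G} (h : ι.range ≤ K) : Cut ι K S :=
  fun _ => ⟨fun hx => ⟨hx, h (up_mem_range ι hx)⟩, And.left⟩

/-- Some element of `K` induces the map. -/
def InK (ι : S →* G) (K : Subgroup G) (P : Subgroup Ω) (f : Ω → Ω) : Prop :=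
  ∃ h ∈ K, ∀ x ∈ P, up ι (f x) = cj h (up ι x)

theorem closed_inK {K : Subgroup G} {U : Subgroup Ω} (hU : Cut ι K U) :
    Closed F (U := U) (InK ι K) where
  congr := fun ⟨h, hh, he⟩ e => ⟨h, hh, fun x hx => e x hx ▸ he x hx⟩
  conj := fun hP hg => ⟨_, ((hU _).1 hg).2, fun x hx => up_cj ι (hU.le hg) (hU.le (hP hx))⟩
  comp := fun _ _ _ _ hfQ ⟨h, hh, he⟩ ⟨h', hh', he'⟩ => ⟨h' * h, mul_mem hh' hh, fun x hx => by
    rw [Function.comp_apply, he' _ (hfQ x hx), he x hx, cj_cj]⟩
  inv := fun hf _ _ hgf ⟨h, hh, he⟩ => ⟨h⁻¹, inv_mem hh, fun y hy => by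
    obtain ⟨x, hx, rfl⟩ := hf.mem_im.1 hy
    rw [hgf x hx, he x hx, cj_inv_cj]⟩

variable (F) in
/-- The maps induced by `K`. -/
noncomputable def sysOf {K : Subgroup G} {U : Subgroup Ω} (hU : Cut ι K U) : FusionSystem U :=
  subSystem hU.le (closed_inK (F := F) hU)

theorem mor_sysOf (hF : F.IsRealizedBy ι) {K : Subgroup G} {U : Subgroup Ω} (hU : Cut ι K U)
    {P : Subgroup Ω} {f : Ω → Ω} :
    Mor (sysOf F hU) P f ↔ P ≤ U ∧ (∀ x ∈ P, f x ∈ U) ∧ InK ι K P f := by
  rw [sysOf, mor_subSystem]
  refine ⟨fun h => h.2, fun ⟨hP, hfU, hK⟩ => ⟨(mor_iff hF).2 ?_, hP, hfU, hK⟩⟩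
  exact ⟨hP.trans hU.le, fun x hx => hU.le (hfU x hx), hK.imp fun _ h => h.2⟩

theorem sysOf_sub {K : Subgroup G} {U : Subgroup Ω} (hU : Cut ι K U) :
    (sysOf F hU).IsSubsystemOf F := fun _ _ h => h.1

/-- `ι` on `U` with values in `K`. -/
def restr {K : Subgroup G} {U : Subgroup Ω} (hU : Cut ι K U) : U →* K :=
  (ι.comp (Subgroup.inclusion hU.le)).codRestrict K fun x => by
    have := ((hU x).1 x.2).2
    rw [up_apply ι (hU.le x.2)] at this
    exact this

theorem up_restr {K : Subgroup G} {U : Subgroup Ω} (hU : Cut ι K U) {x : Ω} (hx : x ∈ U) :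
    ((up (restr hU) x : K) : G) = up ι x := by
  rw [up_apply _ hx, up_apply ι (hU.le hx)]
  rfl

variable [Finite S] [Fact p.Prime]

/-- The maps induced by a normal subgroup of a model have it as a model. -/
theorem isModel_restr (hM : F.IsModel p G ι) {K : Subgroup G} [hK : K.Normal] {U : Subgroup Ω}
    (hU : Cut ι K U) : (sysOf F hU).IsModel p K (restr hU) := by
  obtain ⟨hfin, hF, ⟨T, hT⟩, hC⟩ := hM
  haveI := hfin
  refine ⟨inferInstance, ⟨?_, fun P hP φ hφ => ?_⟩, ⟨SylowCount.infSylow T K, ?_⟩,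
    centralizer_pCore_subgroup K hC⟩
  · intro x y e
    have h := congrArg Subtype.val e
    exact Subgroup.inclusion_injective hU.le (hF.1 h)
  · rw [← mor_iff_hom (fun x => (toFun_coe φ x).symm), mor_sysOf hF hU]
    have e : ∀ x : P, up ι (φ x) = (restr hU ⟨φ x, hφ x⟩ : G) ∧
        up ι (x : Ω) = (restr hU ⟨x, hP x.2⟩ : G) := fun x =>
      ⟨by rw [← up_restr hU (hφ x), up_apply], by rw [← up_restr hU (hP x.2), up_apply]⟩
    constructor
    · rintro ⟨-, -, h, hh, he⟩
      refine ⟨⟨h, hh⟩, fun x => Subtype.ext ?_⟩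
      have := he x x.2
      rw [toFun_coe, (e x).1, (e x).2, cj_apply] at this
      exact this
    · rintro ⟨g, hg⟩
      refine ⟨hP, fun x hx => (toFun_apply φ hx).symm ▸ hφ _, g, g.2, fun x hx => ?_⟩
      have := congrArg Subtype.val (hg ⟨x, hx⟩)
      rw [toFun_apply φ hx, (e ⟨x, hx⟩).1, (e ⟨x, hx⟩).2, cj_apply]
      exact this
  · ext y
    show y ∈ ((T : Subgroup G) ⊓ K).subgroupOf K ↔ _
    rw [Subgroup.mem_subgroupOf, hT, MonoidHom.mem_range]
    constructor
    · rintro ⟨⟨⟨s, hs⟩, he⟩, -⟩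
      have hsU : s ∈ U := (hU s).2 ⟨hs, by rw [up_apply ι hs, he]; exact y.2⟩
      exact ⟨⟨s, hsU⟩, Subtype.ext he⟩
    · rintro ⟨x, rfl⟩
      exact ⟨⟨_, rfl⟩, Subtype.coe_prop _⟩

omit [Finite S] [Fact p.Prime] in
/-- An element normalizing the image of `P` induces the powers of an automorphism by its powers. -/
theorem up_pow {P : Subgroup Ω} {α : MulAut P} {g : G}
    (hg : ∀ x ∈ P, up ι (afun α x) = cj g (up ι x)) :
    ∀ n : ℕ, ∀ x ∈ P, up ι (afun (α ^ n) x) = cj (g ^ n) (up ι x) := by
  intro n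
  induction n with
  | zero => intro x hx; rw [pow_zero, pow_zero, afun_one hx, cj_one]
  | succ n ih =>
    intro x hx
    rw [pow_succ, pow_succ, afun_mul _ _ hx, ← cj_cj, ← hg x hx]
    exact ih _ (afun_mem α hx)

omit [Finite S] [Fact p.Prime] in
theorem inK_of_coprime (hF : F.IsRealizedBy ι) {K : Subgroup G} {P : Subgroup Ω} (hP : P ≤ S)
    {α : MulAut P} (hα : α ∈ F.autGroup P)
    (hK : ∀ g : G, ∃ n : ℕ, (orderOf α).Coprime n ∧ g ^ n ∈ K) : InK ι K P (afun α) := by
  obtain ⟨-, -, g, hg⟩ := (mor_iff hF).1 ((mem_autGroup hP).1 hα)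
  obtain ⟨n, hn, hgn⟩ := hK g
  obtain ⟨i, hi⟩ := exists_pow_eq_self_of_coprime (x := α) (n := n) hn.symm
  refine ⟨(g ^ n) ^ i, pow_mem hgn i, fun x hx => ?_⟩
  rw [← pow_mul, ← up_pow hg _ x hx, pow_mul, hi]

/-! ### The `p'`-residual -/

theorem range_le_genP (hS : IsPGroup p S) : ι.range ≤ genP G p :=
  le_genP ((hS.to_quotient ι.ker).of_equiv (QuotientGroup.quotientKerEquivRange ι))

/-- The system of the subgroup generated by the `p`-elements of a model is the `p'`-residual. -/
theorem pPrimeResidual_model (hS : IsPGroup p S) (hM : F.IsModel p G ι) :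
    F.IsPPrimeResidual p (sysOf F (cut_self (range_le_genP (p := p) (ι := ι) hS))) := by
  set hU := cut_self (range_le_genP (p := p) (ι := ι) hS)
  haveI := genP_normal (G := G) (p := p)
  obtain ⟨hfin, hF, ⟨T, hT⟩, hC⟩ := id hM
  haveI := hfin
  refine ⟨?_, ⟨sysOf_sub hU, fun P hP => ?_⟩, fun D hDs hD => ?_⟩
  · exact (constrained_of_model _ (isModel_restr hM hU)).1
  · rw [Subgroup.map_le_iff_le_comap, Subgroup.closure_le]
    rintro ⟨α, hα⟩ ⟨k, hk⟩
    rw [Subgroup.orderOf_mk] at hk
    refine mem_autGroup_of_mor ((mor_sysOf hF hU).2 ⟨hP, fun x hx => hP (afun_mem α hx), ?_⟩)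
    refine inK_of_coprime hF hP hα fun g => ?_
    obtain ⟨m, hm, hgm⟩ := exists_pow_mem_genP (p := p) g
    exact ⟨m, hk ▸ Nat.Coprime.pow_left k ((Fact.out : p.Prime).coprime_iff_not_dvd.2 hm), hgm⟩
  · haveI := HallCore.pCore_normal p G
    have hO : Cfsg.pCore p G ≤ ι.range := hT ▸ HallCore.pCore_le_sylow T
    set Q := downS ι (Cfsg.pCore p G) with hQ
    have hQS : Q ≤ S := downS_le ι _
    have hupQ : upS ι Q = Cfsg.pCore p G := upS_downS ι hO
    have hQc : F.IsCentric Q := centric_downS hF hO hC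
    let act : G → Ω → Ω := fun g x => down ι (cj g (up ι x))
    have hin : ∀ g : G, ∀ x ∈ Q, cj g (up ι x) ∈ Cfsg.pCore p G := fun g x hx =>
      (HallCore.pCore_normal p G).conj_mem _ ((mem_downS ι).1 hx).2 g
    have hactQ : ∀ g : G, ∀ x ∈ Q, act g x ∈ Q := fun g x hx =>
      (mem_downS ι).2 ⟨down_mem ι _, by rw [up_down ι (hO (hin g x hx))]; exact hin g x hx⟩
    have hmul : ∀ a b : G, ∀ x ∈ Q, act (a * b) x = act a (act b x) := fun a b x hx => by
      simp only [act]
      rw [up_down ι (hO (hin b x hx)), cj_cj]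
    have hone : ∀ x ∈ Q, act 1 x = x := fun x hx => by
      simp only [act]; rw [cj_one, down_up hF (hQS hx)]
    have hpow : ∀ g, Mor D Q (act g) → ∀ n : ℕ, Mor D Q (act (g ^ n)) := by
      intro g hg n
      induction n with
      | zero => exact (mor_id hQS).congr fun x hx => by rw [pow_zero, hone x hx]
      | succ n ih =>
        exact (hg.comp ih fun x hx => hactQ g x hx).congr fun x hx => by
          rw [Function.comp_apply, pow_succ, hmul _ _ x hx]
    let N : Subgroup G :=
      { carrier := {g | Mor D Q (act g)}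
        one_mem' := (mor_id hQS).congr fun x hx => (hone x hx).symm
        mul_mem' := fun {a b} ha hb => (Mor.comp hb ha fun x hx => hactQ b x hx).congr fun x hx =>
          (hmul a b x hx).symm
        inv_mem' := fun {g} hg => by
          have e : g⁻¹ = g ^ (orderOf g - 1) := inv_eq_of_mul_eq_one_right (by
            rw [← pow_succ', Nat.sub_add_cancel (orderOf_pos g), pow_orderOf_eq_one])
          show Mor D Q (act g⁻¹)
          rw [e]; exact hpow g hg _ }
    have hN : genP G p ≤ N := by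
      refine (Subgroup.closure_le _).2 fun g ⟨k, hk⟩ => ?_
      have hm : Mor F Q (act g) := mor_of_conj hF hQS fun x hx => hO (hin g x hx)
      obtain ⟨α, hα, hαe⟩ := hm.exists_aut (hm.im_self fun x hx => hactQ g x hx)
      have hg : ∀ x ∈ Q, up ι (afun α x) = cj g (up ι x) := fun x hx => by
        rw [hαe x hx]; exact up_down ι (hO (hin g x hx))
      have hord : orderOf α ∣ p ^ k := by
        refine orderOf_dvd_of_pow_eq_one (afun_ext fun x hx => up_inj hF ?_ ?_ ?_)
        · exact hQS (afun_mem _ hx)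
        · exact hQS (afun_mem _ hx)
        · rw [up_pow hg _ x hx, ← hk, pow_orderOf_eq_one, cj_one, afun_one hx]
      obtain ⟨j, -, hj⟩ := (Nat.dvd_prime_pow Fact.out).1 hord
      exact (FusionPrimeIndex88.gen_of_primeIndex hD Q hQS α hα ⟨j, hj⟩).congr hαe
    have key : ∀ P f, Mor (sysOf F hU) P f → Mor D P f := by
      intro P f hf
      obtain ⟨hP, hfS, h, hh, he⟩ := (mor_sysOf hF hU).1 hf
      have hle : upS ι (P ⊔ Q) ≤ ι.range.comap (MulAut.conj h).toMonoidHom := by
        rw [upS_sup ι hP hQS, hupQ]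
        refine sup_le (fun y hy => ?_) (fun y hy => hO ((HallCore.pCore_normal p G).conj_mem y hy h))
        obtain ⟨x, hx, -, rfl⟩ := (mem_upS ι).1 hy
        show cj h (up ι x) ∈ ι.range
        rw [← he x hx]
        exact up_mem_range ι (hfS x hx)
      have hm : Mor F (P ⊔ Q) (act h) := mor_of_conj hF (sup_le hP hQS) fun x hx =>
        hle (up_mem_upS ι (sup_le hP hQS) hx)
      have hDF : D ≤ F := fun R φ hφ => hD.1 R hφ
      refine ((FusCentric.mor_sub_of_centric hS (saturated_of_realized hF T hT) hDs hDF hm _ le_rfl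
        le_sup_right hQc (hN hh)).restrict_to le_sup_left).congr fun x hx => ?_
      show down ι (cj h (up ι x)) = f x
      rw [← he x hx, down_up hF (hfS x hx)]
    exact fun P φ hφ => (mor_iff_hom fun x => (toFun_coe φ x).symm).1 (key P _ (mor_toFun hφ))

/-! ### The `p`-residual -/

omit [Finite S] [Fact p.Prime] in
theorem bij_up (hF : F.IsRealizedBy ι) : FusionIso88.Bij S ι.range (up ι) (down ι) :=
  ⟨fun _ hx => up_mem_range ι hx, fun y _ => down_mem ι y, fun _ hx => down_up hF hx,
    fun _ hy => up_down ι hy, fun _ hx _ hy => up_mul ι hx hy⟩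

omit [Finite S] [Fact p.Prime] in
theorem tr_group (hF : F.IsRealizedBy ι) :
    FusionIso88.Tr F (Cfsg.groupFusionSystem ι.range) (up ι) (down ι) := by
  have hB := bij_up hF
  refine ⟨hB, fun {P f} hf => ?_, fun {P f} hf => ?_⟩
  · obtain ⟨hP, hfS, g, hg⟩ := (mor_iff hF).1 hf
    refine FusionSysGroup.mor_group_iff.2 ⟨hB.img_le hP, g, fun y hy => ?_, fun y hy => ?_⟩
    · obtain ⟨x, hx, rfl⟩ := (hB.mem_img hP).1 hy
      rw [Function.comp_apply, Function.comp_apply, down_up hF (hP hx), hg x hx]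
    · obtain ⟨x, hx, rfl⟩ := (hB.mem_img hP).1 hy
      rw [← hg x hx]
      exact up_mem_range ι (hfS x hx)
  · obtain ⟨hP, g, hg, hin⟩ := FusionSysGroup.mor_group_iff.1 hf
    refine (mor_iff hF).2 ⟨hB.symm.img_le hP, fun x hx => down_mem ι _, g, fun x hx => ?_⟩
    obtain ⟨y, hy, rfl⟩ := (hB.symm.mem_img hP).1 hx
    rw [Function.comp_apply, Function.comp_apply, up_down ι (hP hy), hg y hy,
      up_down ι (hin y hy)]

/-- The hyperfocal subgroup of the system of a group. -/
theorem cut_hyperfocal (hM : F.IsModel p G ι) :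
    Cut ι (Cfsg.pResidual p G) (F.hyperfocalSubgroup p) := by
  obtain ⟨hfin, hF, ⟨T, hT⟩, -⟩ := hM
  haveI := hfin
  have h := (tr_group hF).hyperfocal (p := p)
  have h' := S5139.sylow_inf_pResidual_eq T
  rw [hT] at h'
  rw [h'] at h
  have hle := FusionPPower.hyperfocal_le (p := p) F
  intro x
  constructor
  · intro hx
    exact ⟨hle hx, (h.ge (FusionIso88.apply_mem_img hx)).2⟩
  · rintro ⟨hx, hK⟩
    obtain ⟨y, hy, e⟩ := ((bij_up hF).mem_img hle).1 (h.le ⟨up_mem_range ι hx, hK⟩)
    exact up_inj hF (hle hy) hx e ▸ hy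

/-- The system of the `p`-residual of a model is the `p`-residual. -/
theorem pResidual_model (hM : F.IsModel p G ι) :
    F.IsPResidual p (sysOf F (cut_hyperfocal hM)) := by
  obtain ⟨hfin, hF, -, -⟩ := id hM
  haveI := hfin
  haveI : (Cfsg.pResidual p G).Normal := S5139.pResidual_normal
  have hle := FusionPPower.hyperfocal_le (p := p) F
  haveI := finite_of_le hle
  refine ⟨(constrained_of_model _ (isModel_restr hM (cut_hyperfocal hM))).1,
    sysOf_sub _, le_rfl, fun P hP => ?_⟩
  refine FusionPPower.map_pResidual_le_of_coprime fun α hα hc => ?_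
  refine mem_autGroup_of_mor ((mor_sysOf hF _).2 ⟨hP, fun x hx => hP (afun_mem α hx), ?_⟩)
  refine inK_of_coprime hF (hP.trans hle) hα fun g => ?_
  obtain ⟨a, ha⟩ := TransferPResidual.exists_pow_mem_pResidual (p := p) g
  exact ⟨p ^ a, hc.pow_right a, ha⟩

/-! ### Terminating series and `p`-solubility of models -/

theorem coprime_index_of_sylow_le {G : Type*} [Group G] [Finite G] {p : ℕ} [Fact p.Prime]
    (T : Sylow p G) {K : Subgroup G} (h : (T : Subgroup G) ≤ K) : K.index.Coprime p :=
  ((Fact.out : p.Prime).coprime_iff_not_dvd.2 fun hd =>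
    T.not_dvd_index (hd.trans (Subgroup.index_dvd_of_le h))).symm

section Series

variable {Ω : Type u} [Group Ω]

/-- The series of a system with a `p`-soluble model terminates. -/
theorem series_of_model {p : ℕ} [Fact p.Prime] : ∀ (n : ℕ) (S : Subgroup Ω) [Finite S]
    (F : FusionSystem S) (G : Type u) [Group G] (ι : S →* G), Nat.card S ≤ n → IsPGroup p S →
    F.IsModel p G ι → Cfsg.IsPSolvable p G → F.HasTerminatingResidualSeries p := by
  intro n
  induction n using Nat.strong_induction_on with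
  | _ n ih =>
  intro S _ F G _ ι hn hS hM hps
  by_cases hS0 : S = ⊥
  · exact .trivial F p hS0
  haveI := hM.1
  haveI := genP_normal (G := G) (p := p)
  haveI : (Cfsg.pResidual p (genP G p)).Normal := S5139.pResidual_normal
  set hU := cut_self (range_le_genP (p := p) (ι := ι) hS)
  set E := sysOf F hU
  have hME := isModel_restr hM hU
  have hcut := cut_hyperfocal hME
  have hle := FusionPPower.hyperfocal_le (p := p) E
  haveI := finite_of_le hle
  have hlt : Nat.card (E.hyperfocalSubgroup p) < Nat.card S := by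
    refine lt_of_le_of_ne (Subgroup.card_le_of_le hle) fun e => hS0 ?_
    have eU := Subgroup.eq_of_le_of_card_ge hle e.ge
    obtain ⟨-, hFE, ⟨T, hT⟩, -⟩ := id hME
    have hTK : (T : Subgroup (genP G p)) ≤ Cfsg.pResidual p (genP G p) := by
      rw [hT]
      rintro _ ⟨x, rfl⟩
      have := ((hcut x).1 (eU.ge x.2)).2
      rwa [up_apply _ x.2] at this
    have hK : Cfsg.pResidual p (genP G p) = ⊤ :=
      top_le_iff.1 (genP_genP.ge.trans (genP_le (coprime_index_of_sylow_le T hTK)))
    haveI := subsingleton_of_perfect (HallSolvable.isPSolvable_subgroup hps (genP G p))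
      genP_genP hK
    refine (Subgroup.eq_bot_iff_forall _).2 fun x hx => ?_
    exact congrArg Subtype.val (hFE.1 (Subsingleton.elim (restr hU ⟨x, hx⟩) (restr hU 1)))
  refine .step F E p _ (pPrimeResidual_model hS hM) (pResidual_model hME) ?_
  exact ih _ (lt_of_lt_of_le hlt hn) _ _ _ _ le_rfl (hS.to_le hle) (isModel_restr hME hcut)
    (HallSolvable.isPSolvable_subgroup (HallSolvable.isPSolvable_subgroup hps _) _)

/-- The models of a system with a terminating series are `p`-soluble. -/
theorem isPSolvable_of_series {S : Subgroup Ω} {F : FusionSystem S} {p : ℕ}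
    (h : F.HasTerminatingResidualSeries p) : ∀ [Fact p.Prime] [Finite S] (G : Type u) [Group G]
      (ι : S →* G), IsPGroup p S → F.IsModel p G ι → Cfsg.IsPSolvable p G := by
  induction h with
  | @trivial S F p hS0 =>
    intro _ _ G _ ι hS hM
    obtain ⟨hfin, -, ⟨T, hT⟩, hC⟩ := hM
    haveI := hfin
    have hbot : Cfsg.pCore p G ≤ ⊥ := (hT ▸ HallCore.pCore_le_sylow T).trans (by
      rintro _ ⟨⟨x, hx⟩, rfl⟩
      subst hS0
      rw [Subgroup.mem_bot] at hx ⊢
      subst hx
      exact ι.map_one)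
    haveI : Subsingleton G := subsingleton_of_forall_eq 1 fun g =>
      Subgroup.mem_bot.1 (hbot (hC (Subgroup.mem_centralizer_iff.2 fun y hy => by
        rw [Subgroup.mem_bot.1 (hbot hy), one_mul, mul_one])))
    exact (HallSolvable.isPSolvable_iff p).2 HallSolvable.isPiSeparable_of_subsingleton
  | @step S F E p D hE hD _ ih =>
    intro _ _ G _ ι hS hM
    haveI := hM.1
    haveI := genP_normal (G := G) (p := p)
    haveI : (Cfsg.pResidual p (genP G p)).Normal := S5139.pResidual_normal
    obtain rfl := FusionPPower.pPrimeResidual_unique hE (pPrimeResidual_model hS hM)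
    set hU := cut_self (range_le_genP (p := p) (ι := ι) hS)
    have hME := isModel_restr hM hU
    have hcut := cut_hyperfocal hME
    obtain rfl := FusionPPower.hom_ext
      (FusionPPower.pPower_unique hS hD.1 (pResidual_model hME).1 hD.2 (pResidual_model hME).2 rfl)
    have hle := FusionPPower.hyperfocal_le (p := p) (sysOf F hU)
    haveI := finite_of_le hle
    have hK := ih _ (restr hcut) (hS.to_le hle) (isModel_restr hME hcut)
    haveI := (TransferPResidual.isPGroup_quotient_pResidual (G := genP G p) (p := p)).isNilpotent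
    have hH := HallSolvable.isPSolvable_extension _ hK (HallSolvable.isPSolvable_of_solvable p)
    refine HallSolvable.isPSolvable_extension _ hH ((HallSolvable.isPSolvable_iff p).2
      (HallSolvable.isPiSeparable_of_piece (Or.inr
        ((HallCore.piNat_compl_singleton_iff (Fact.out : p.Prime)).2 ?_))))
    obtain ⟨-, -, ⟨T, hT⟩, -⟩ := id hM
    rw [← Subgroup.index_eq_card]
    exact coprime_index_of_sylow_le T (hT ▸ range_le_genP hS)

end Series

/-! ### Invariant chains -/

section InvChains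

open Cfsg.Agent.FusionIso88 Cfsg.Agent.FusionPrimeIndex88 Cfsg.Agent.FusionSysNormal

variable {Ω : Type*} [Group Ω] {S U : Subgroup Ω} {F E : FusionSystem S} {D : FusionSystem U}
  {p : ℕ}

/-- `X` is invariant under the automorphisms of the system. -/
def Inv (F : FusionSystem S) (X : Subgroup Ω) : Prop :=
  ∀ a b : Ω → Ω, Tr F F a b → ∀ x ∈ X, a x ∈ X

/-- Chains of invariant strongly closed subgroups with abelian quotients, from `⊥`. -/
inductive InvChain (F : FusionSystem S) : Subgroup Ω → Prop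
  | base : InvChain F ⊥
  | snoc {B C : Subgroup Ω} : InvChain F B → F.StronglyClosed C → Inv F C → B ≤ C →
      ⁅C, C⁆ ≤ B → InvChain F C

theorem InvChain.chain [Finite S] {C : Subgroup Ω} (h : InvChain F C) : FusionSolvable88.Chain F ⊥ C := by
  induction h with
  | base => exact FusionSolvable88.Chain.refl (stronglyClosed_of_normal normal_bot)
  | snoc _ hC _ hBC hab ih => exact ih.snoc hC hBC hab

theorem InvChain.lift {C : Subgroup Ω}
    (hl : ∀ X, D.StronglyClosed X → Inv D X → E.StronglyClosed X ∧ Inv E X) (h : InvChain D C) :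
    InvChain E C := by
  induction h with
  | base => exact .base
  | snoc _ hC hI hBC hab ih => exact ih.snoc (hl _ hC hI).1 (hl _ hC hI).2 hBC hab

theorem exists_push {a b : Ω → Ω} {T T' : Subgroup Ω} {K : FusionSystem T} (h : Tr F F a b)
    (hsub : K.IsSubsystemOf F) (hT : img a T = T') :
    ∃ K' : FusionSystem T', K'.IsSubsystemOf F ∧ Tr K K' a b := by
  subst hT
  exact ⟨push h hsub, push_sub h hsub, push_tr h hsub⟩

theorem primeIndex_of_gen (hsub : E.IsSubsystemOf F) (h : Gen F E p) :
    E.HasPrimeToPIndexIn F p := by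
  refine ⟨hsub, fun P hP => ?_⟩
  rw [Subgroup.map_le_iff_le_comap, Subgroup.closure_le]
  rintro ⟨γ, hγ⟩ ⟨k, hk⟩
  rw [Subgroup.orderOf_mk] at hk
  exact mem_autGroup_of_mor (h P hP γ hγ ⟨k, hk⟩)

variable [Finite S] [Fact p.Prime]

theorem tr_pPrimeResidual (hS : IsPGroup p S) (hE : F.IsPPrimeResidual p E) {a b : Ω → Ω}
    (h : Tr F F a b) : Tr E E a b := by
  have key : ∀ {a b : Ω → Ω}, Tr F F a b → ∀ {P f}, Mor E P f → Mor E (img b P) (b ∘ f ∘ a) := by
    intro a b h P f hf
    obtain ⟨E', hE', htr⟩ := exists_push h hE.2.1.1 h.bij.img_self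
    have hgen : Gen F E' p := fun R hR γ hγ hk => by
      have hm := gen_of_primeIndex hE.2.1 _ (h.bij.symm.img_le hR) _
        ((h.symm.mem_autGroup hR).2 hγ) (hk.imp fun k hk => (MulEquiv.orderOf_eq _ γ).trans hk)
      have h1 := htr.mor hm
      rw [h.bij.symm.img_img hR] at h1
      refine h1.congr fun y hy => ?_
      rw [Function.comp_apply, Function.comp_apply, h.symm.afun_te hR γ hy,
        h.bij.right _ (hR (afun_mem γ hy))]
    exact htr.mor' (FusionKit88.sub_mor
      (hE.2.2 E' (htr.saturated hS hE.1) (primeIndex_of_gen hE' hgen)) hf)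
  exact ⟨h.bij, key h.symm, key h⟩

theorem tr_pResidual (hS : IsPGroup p S) {D : FusionSystem (E.hyperfocalSubgroup p)}
    (hD : E.IsPResidual p D) {a b : Ω → Ω} (h : Tr E E a b) : Tr D D a b := by
  have hle := FusionPPower.hyperfocal_le (p := p) E
  haveI := finite_of_le hle
  obtain ⟨D', hsub, htr⟩ := exists_push h hD.2.1 h.hyperfocal.symm
  have hidx : D'.HasPPowerIndexIn E p := by
    refine ⟨hsub, le_rfl, fun P hP => ?_⟩
    refine FusionPPower.map_pResidual_le_of_coprime fun γ hγ hc => ?_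
    have hPS := hP.trans hle
    have hQ : img b P ≤ E.hyperfocalSubgroup p := (img_mono hP).trans h.symm.hyperfocal.ge
    have h1 := hD.2.2.2 _ hQ ⟨⟨_, (h.symm.mem_autGroup hPS).2 hγ⟩,
      TransferPResidual.mem_pResidual_of_coprime
        (by rw [Subgroup.orderOf_mk, MulEquiv.orderOf_eq]; exact hc), rfl⟩
    have h2 := htr.mor ((mem_autGroup hQ).1 h1)
    rw [h.bij.symm.img_img hPS] at h2
    refine mem_autGroup_of_mor (h2.congr fun y hy => ?_)
    show a (afun (MulAut.congr (h.symm.te hPS) γ) (b y)) = afun γ y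
    rw [h.symm.afun_te hPS γ hy, h.bij.right _ (hPS (afun_mem γ hy))]
  obtain rfl := FusionPPower.hom_ext
    (FusionPPower.pPower_unique hS (htr.saturated (hS.to_le hle) hD.1) hD.1 hidx hD.2 rfl)
  exact htr

theorem lift_pResidual (hS : IsPGroup p S) (hE : E.IsSaturated p)
    {D : FusionSystem (E.hyperfocalSubgroup p)} (hD : E.IsPResidual p D) {X : Subgroup Ω}
    (hX : D.StronglyClosed X) (hI : Inv D X) : E.StronglyClosed X ∧ Inv E X := by
  have hle := FusionPPower.hyperfocal_le (p := p) E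
  have hIE : Inv E X := fun a b h => hI a b (tr_pResidual hS hD h)
  have hn : ∀ s ∈ S, ∀ x ∈ X, cj s x ∈ X := fun s hs => by
    refine hIE (cj s) (cj s⁻¹) (tr_of_mor (mor_cj le_rfl hs) ?_)
    exact ⟨fun x hx => cj_mem_S hs hx, fun x hx => cj_mem_S (S.inv_mem hs) hx,
      fun x _ => cj_inv_cj .., fun x _ => cj_cj_inv ..,
      fun x _ y _ => by simp [cj_apply, mul_assoc]⟩
  refine ⟨stronglyClosed_iff.2 ⟨hX.1.trans hle, fun P f hP hf x hx =>
    (induction' hS hE (closed_keeps hn) ?_ hf x hx).1 (hP hx)⟩, hIE⟩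
  intro R hR α hα hc
  have fwd : ∀ α ∈ E.autGroup R, (orderOf α).Coprime p → ∀ y ∈ R, y ∈ X → afun α y ∈ X := by
    intro α hα hc y hy hyX
    set W := R ⊓ E.hyperfocalSubgroup p
    have hm : Mor E W (afun α) := ((mem_autGroup hR).1 hα).restrict_to inf_le_left
    have hW : ∀ w ∈ W, afun α w ∈ W := fun w hw => ⟨afun_mem α hw.1,
      stronglyClosed_invariant (hyperfocal_stronglyClosed hS hE) hm hw hw.2⟩
    obtain ⟨β, hβ, hβe⟩ := hm.exists_aut (hm.im_self hW)
    have hpw : ∀ n : ℕ, ∀ w ∈ W, afun (β ^ n) w = afun (α ^ n) w := by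
      intro n
      induction n with
      | zero => intro w hw; rw [pow_zero, pow_zero, afun_one hw, afun_one hw.1]
      | succ n ih =>
        intro w hw
        rw [pow_succ, pow_succ, afun_mul _ _ hw, afun_mul _ _ hw.1, hβe w hw]
        exact ih _ (hW w hw)
    have hord : orderOf β ∣ orderOf α := orderOf_dvd_of_pow_eq_one (afun_ext fun w hw => by
      rw [hpw _ w hw, pow_orderOf_eq_one, afun_one hw.1, afun_one hw])
    have h1 := hD.2.2.2 W inf_le_right ⟨⟨β, hβ⟩, TransferPResidual.mem_pResidual_of_coprime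
      (by rw [Subgroup.orderOf_mk]; exact hc.coprime_dvd_left hord), rfl⟩
    have hyW : y ∈ W := ⟨hy, hX.1 hyX⟩
    rw [← hβe y hyW]
    exact stronglyClosed_invariant hX ((mem_autGroup inf_le_right).1 h1) hyW hyX
  exact fun y hy => ⟨fwd α hα hc y hy, fun h => by
    have h1 := fwd α⁻¹ (inv_mem hα) (by rwa [orderOf_inv]) _ (afun_mem α hy) h
    rwa [afun_inv_apply α hy] at h1⟩

theorem lift_pPrimeResidual (hS : IsPGroup p S) (hF : F.IsSaturated p)
    (hE : F.IsPPrimeResidual p E) {X : Subgroup Ω} (hX : E.StronglyClosed X) (hI : Inv E X) :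
    F.StronglyClosed X ∧ Inv F X := by
  have hIF : Inv F X := fun a b h => hI a b (tr_pPrimeResidual hS hE h)
  refine ⟨stronglyClosed_iff.2 ⟨hX.1, fun P f hP hf x hx => ?_⟩, hIF⟩
  obtain ⟨a, ha, e, he, hfe⟩ := e0_factor hS hF hf
  have h1 := stronglyClosed_invariant hX (e0_min (gen_of_primeIndex hE.2.1) he) hx (hP hx)
  rw [hfe x hx]
  have hm := (mem_autGroup le_rfl).1 ha
  exact hIF (afun a) (afun a⁻¹) (tr_of_mor hm
    ⟨fun y hy => afun_mem a hy, fun y hy => afun_mem a⁻¹ hy, fun y hy => afun_inv_apply a hy,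
      fun y hy => afun_apply_inv a hy, fun y hy z hz => hm.map_mul hy hz⟩) _ h1

/-- An invariant chain up to the hyperfocal subgroup extends to `S`. -/
theorem InvChain.extend (hS : IsPGroup p S) (hE : E.IsSaturated p)
    (h : InvChain E (E.hyperfocalSubgroup p)) : InvChain E S := by
  set U := E.hyperfocalSubgroup p
  have hUS := FusionPPower.hyperfocal_le (p := p) E
  haveI hUn : (U.subgroupOf S).Normal := ⟨fun n hn g => cj_mem_hyperfocal g.2 hn⟩
  let W : ℕ → Subgroup S := fun j => U.subgroupOf S ⊔ derivedSeries S j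
  let Y : ℕ → Subgroup Ω := fun j => (W j).map S.subtype
  haveI := hS.isNilpotent
  obtain ⟨n, hn⟩ := (Group.isSolvable_def S).1 inferInstance
  have hYn : Y n = U := by
    simp only [Y, W, hn, sup_bot_eq, Subgroup.subgroupOf_map_subtype, inf_eq_left.2 (show U ≤ S from hUS)]
  have hY0 : Y 0 = S := by
    simp only [Y, W, derivedSeries_zero, sup_top_eq, ← MonoidHom.range_eq_map,
      Subgroup.range_subtype]
  suffices ∀ j, InvChain E (Y j) → InvChain E (Y 0) by
    have h0 := this n (by rw [hYn]; exact h)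
    rwa [hY0] at h0
  intro j
  induction j with
  | zero => exact id
  | succ j ih =>
    intro hj
    haveI : (derivedSeries S j).Normal := derivedSeries_normal S j
    haveI hWn : (W j).Normal := Subgroup.sup_normal _ _
    refine ih (hj.snoc (stronglyClosed_of_hyperfocal_le hS hE (Subgroup.map_subtype_le _) ?_ ?_)
      ?_ (Subgroup.map_mono (sup_le_sup_left (derivedSeries_antitone S (Nat.le_succ j)) _)) ?_)
    · rintro g hg _ ⟨w, hw, rfl⟩
      exact ⟨_, hWn.conj_mem w hw ⟨g, hg⟩, rfl⟩
    · exact fun x hx => ⟨⟨x, hUS hx⟩, Subgroup.mem_sup_left hx, rfl⟩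
    · rintro a b htr _ ⟨w, hw, rfl⟩
      let ψ : S →* S := MonoidHom.mk' (fun x => ⟨a x, htr.bij.map_mem x x.2⟩) fun x y =>
        Subtype.ext (htr.bij.map_mul x x.2 y y.2)
      have hle : (W j).map ψ ≤ W j := by
        rw [Subgroup.map_sup]
        refine sup_le_sup ?_ (map_derivedSeries_le_derivedSeries ψ j)
        rintro _ ⟨x, hx, rfl⟩
        exact htr.hyperfocal.ge (apply_mem_img hx)
      exact ⟨ψ w, hle ⟨w, hw, rfl⟩, rfl⟩
    · rw [← Subgroup.map_commutator]
      refine Subgroup.map_mono ?_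
      have e : W (j + 1) = ((derivedSeries S (j + 1)).map
          (QuotientGroup.mk' (U.subgroupOf S))).comap (QuotientGroup.mk' (U.subgroupOf S)) := by
        rw [Subgroup.comap_map_eq, QuotientGroup.ker_mk', sup_comm]
      rw [e, ← Subgroup.map_le_iff_le_comap, Subgroup.map_commutator, derivedSeries_succ,
        Subgroup.map_commutator]
      have e' : (W j).map (QuotientGroup.mk' (U.subgroupOf S)) =
          (derivedSeries S j).map (QuotientGroup.mk' (U.subgroupOf S)) := by
        rw [Subgroup.map_sup, (Subgroup.map_eq_bot_iff _).2 (QuotientGroup.ker_mk' _).ge, bot_sup_eq]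
      rw [e']

end InvChains

section Series

open Cfsg.Agent.FusionPrimeIndex88

/-- A system with a terminating series has an invariant chain from `⊥` to `S`. -/
theorem invChain_of_series {Ω' : Type*} [Group Ω'] {S' : Subgroup Ω'} {F' : FusionSystem S'} {q : ℕ}
    (h : F'.HasTerminatingResidualSeries q) : ∀ [Fact q.Prime] [Finite S'],
      IsPGroup q S' → F'.IsSaturated q → InvChain F' S' := by
  induction h with
  | @trivial S F p hS0 =>
    intros
    subst hS0
    exact .base
  | @step S F E p D hE hD _ ih =>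
    intro _ _ hS hF
    have hle := FusionPPower.hyperfocal_le (p := p) E
    haveI := finite_of_le hle
    have h1 : InvChain E (E.hyperfocalSubgroup p) :=
      (ih (hS.to_le hle) hD.1).lift fun X hX hI => lift_pResidual hS hE.1 hD hX hI
    exact (h1.extend hS hE.1).lift fun X hX hI => lift_pPrimeResidual hS hF hE hX hI

end Series

end Cfsg.Agent.FusionResidualSeries88
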