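import Mathlib
import Cfsg.Prelude.Def_FusionReduction
import Cfsg.Agent.Lib.FusionPPowerIndex88
import Cfsg.Agent.Lib.FusionResidualSeries88
import Cfsg.Agent.Lib.FusionInvariantSub
import Cfsg.Agent.Lib.FusionCocycleShift

/-!
Residual limits: they exist, are contained in the system they start from, and are not changed by
passing to a saturated subsystem of index prime to `p` (`limit_primeIndex`).
-/

set_option autoImplicit false

namespace Cfsg.Agent.FusionLimitPrime

open Cfsg Cfsg.FusionSystem Cfsg.Agent.FusionSysBasic Cfsg.Agent.FusionSysSaturated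
open Cfsg.Agent.FusionKit88 Cfsg.Agent.FusionPrimeIndex88 Cfsg.Agent.FusionInduct88

variable {Ω : Type*} [Group Ω] {S U W T : Subgroup Ω} {F : FusionSystem S} {p : ℕ}

theorem primeIndex_trans {D E : FusionSystem S} (h1 : D.HasPrimeToPIndexIn F p)
    (h2 : E.HasPrimeToPIndexIn D p) : E.HasPrimeToPIndexIn F p :=
  FusionResidualSeries88.primeIndex_of_gen (fun P => (h2.1 P).trans (h1.1 P))
    fun R hR α hα hk => gen_of_primeIndex h2 R hR α
      (mem_autGroup_of_mor (gen_of_primeIndex h1 R hR α hα hk)) hk

theorem primeIndex_of_between {D E : FusionSystem S} (hED : E.IsSubsystemOf D)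
    (hDF : D.IsSubsystemOf F) (h : E.HasPrimeToPIndexIn F p) : E.HasPrimeToPIndexIn D p :=
  FusionResidualSeries88.primeIndex_of_gen hED fun R hR α hα hk =>
    gen_of_primeIndex h R hR α (FusionPPower.autGroup_mono' hDF R hα) hk

/-- The residual of `F` is the residual of every saturated subsystem of index prime to `p`. -/
theorem residual_of_primeIndex {D E : FusionSystem S} (hDs : D.IsSaturated p)
    (hD : D.HasPrimeToPIndexIn F p) (hE : F.IsPPrimeResidual p E) : D.IsPPrimeResidual p E :=
  ⟨hE.1, primeIndex_of_between (hE.2.2 D hDs hD) hD.1 hE.2.1,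
    fun X hX hX' => hE.2.2 X hX (primeIndex_trans hD hX')⟩

theorem residual_self {E : FusionSystem S} (hE : F.IsPPrimeResidual p E) :
    E.IsPPrimeResidual p E :=
  residual_of_primeIndex hE.1 hE.2.1 hE

theorem step_of {L : Subgroup Ω} {E : FusionSystem L} (F : FusionSystem S)
    (hU : U = F.hyperfocalSubgroup p) (D D' : FusionSystem U) (h1 : D.IsSaturated p)
    (h2 : D.HasPPowerIndexIn F p) (h3 : D.IsPPrimeResidual p D')
    (h4 : E.IsResidualLimitOf D' p) : E.IsResidualLimitOf F p := by
  subst hU
  exact IsResidualLimitOf.step F p D D' ⟨h1, h2⟩ h3 h4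

/-- A residual limit is a subsystem of the system it starts from. -/
theorem limit_sub {L : Subgroup Ω} {E : FusionSystem L} (h : E.IsResidualLimitOf F p) :
    E.IsSubsystemOf F := by
  induction h with
  | stable F p _ _ => exact fun _ => subset_rfl
  | step F p D D' hD hD' _ ih => exact fun P => (ih P).trans ((hD'.2.1.1 P).trans (hD.2.1 P))

variable [Finite S] [Fact p.Prime]

theorem exists_residual (hS : IsPGroup p S) (hF : F.IsSaturated p) :
    ∃ E, F.IsPPrimeResidual p E :=
  ⟨_, isPPrimeResidual_EH hS hF⟩

omit [Finite S] in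
theorem exists_limit_aux : ∀ (n : ℕ) (S : Subgroup Ω) [Finite S] (F : FusionSystem S),
    Nat.card S ≤ n → IsPGroup p S → F.IsSaturated p →
    ∃ (L : Subgroup Ω) (E : FusionSystem L), E.IsResidualLimitOf F p := by
  intro n
  induction n with
  | zero => intro S _ F hn; exact absurd Nat.card_pos (by omega : ¬ 0 < Nat.card S)
  | succ n ih =>
    intro S _ F hn hS hF
    have small : ∀ (G : FusionSystem S), G.IsSaturated p → G.hyperfocalSubgroup p ≠ S →
        ∃ (L : Subgroup Ω) (E : FusionSystem L), E.IsResidualLimitOf G p := by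
      intro G hG hne
      have hle := FusionPPower.hyperfocal_le (p := p) G
      haveI := finite_of_le hle
      obtain ⟨D, hD, hD'⟩ := FusionPPowerIndex88.exists_pPower _ S G _ le_rfl hS hG hle le_rfl
      obtain ⟨D', hres⟩ := exists_residual (hS.to_le hle) hD
      obtain ⟨L, E, hE⟩ := ih (G.hyperfocalSubgroup p) D' (by
        have hlt : Nat.card (G.hyperfocalSubgroup p) < Nat.card S :=
          lt_of_le_of_ne (Subgroup.card_le_of_le hle)
            fun e => hne (eq_of_le_of_card_ge le_rfl hle e.ge)
        omega) (hS.to_le hle) hres.1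
      exact ⟨L, E, IsResidualLimitOf.step G p D D' ⟨hD, hD'⟩ hres hE⟩
    by_cases hU : F.hyperfocalSubgroup p = S
    · obtain ⟨F', hF'⟩ := exists_residual hS hF
      obtain ⟨L, E, hE⟩ : ∃ (L : Subgroup Ω) (E : FusionSystem L), E.IsResidualLimitOf F' p := by
        by_cases hU' : F'.hyperfocalSubgroup p = S
        · exact ⟨S, F', IsResidualLimitOf.stable F' p hU' (residual_self hF')⟩
        · exact small F' hF'.1 hU'
      exact ⟨L, E, step_of F hU.symm F F' hF (FusionPPower.pPower_self hU) hF' hE⟩
    · exact small F hF hU

/-- Residual limits exist. -/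
theorem exists_limit (hS : IsPGroup p S) (hF : F.IsSaturated p) :
    ∃ (L : Subgroup Ω) (E : FusionSystem L), E.IsResidualLimitOf F p :=
  exists_limit_aux _ S F le_rfl hS hF

/-- The residual limits of `F` and of `D` have the same maps. -/
def Same (F : FusionSystem S) (D : FusionSystem U) (p : ℕ) : Prop :=
  ∀ {A B : Subgroup Ω} (LA : FusionSystem A) (LB : FusionSystem B),
    LA.IsResidualLimitOf F p → LB.IsResidualLimitOf D p → ∀ P, LA.Hom P = LB.Hom P

omit [Finite S] [Fact p.Prime] in
theorem Same.symm {D : FusionSystem U} (h : Same F D p) : Same D F p :=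
  fun LA LB hA hB P => (h LB LA hB hA P).symm

omit [Finite S] in
theorem Same.trans {D : FusionSystem U} {G : FusionSystem W} [Finite U] (hU : IsPGroup p U)
    (hD : D.IsSaturated p) (h1 : Same F D p) (h2 : Same D G p) : Same F G p := by
  obtain ⟨L, E, hE⟩ := exists_limit hU hD
  exact fun LA LB hA hB P => (h1 LA E hA hE P).trans (h2 E LB hE hB P)

theorem same_refl (hS : IsPGroup p S) (hF : F.IsSaturated p) : Same F F p :=
  fun _ _ hA hB => FusionPPower.limit_unique hA hS hF hB

theorem same_pPower (hS : IsPGroup p S) (hF : F.IsSaturated p) {E : FusionSystem U}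
    (hE : E.IsSaturated p) (hi : E.HasPPowerIndexIn F p) : Same F E p :=
  fun _ _ hA hB => FusionPPower.limit_pPower hS hF hE hi hA hB

omit [Finite S] in
theorem same_residual_aux : ∀ (n : ℕ) (S : Subgroup Ω) [Finite S] (F F' : FusionSystem S),
    Nat.card S ≤ n → IsPGroup p S → F.IsSaturated p → F.IsPPrimeResidual p F' → Same F F' p := by
  intro n
  induction n with
  | zero => intro S _ F F' hn; exact absurd Nat.card_pos (by omega : ¬ 0 < Nat.card S)
  | succ n ih =>
    intro S _ F F' hn hS hF hF' A B LA LB hA hB
    cases hA with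
    | stable _ _ hst hst' =>
      obtain rfl := FusionPPower.pPrimeResidual_unique hF' hst'
      exact fun P => (FusionPPower.limit_of_stable hB hS hF hst hst' P).symm
    | step _ _ D D' hD hD' hlim =>
      by_cases hU : (F.hyperfocalSubgroup p) = S
      · have key : ∀ (V : Subgroup Ω) (D D' : FusionSystem V), V = S →
            (∀ P, D.Hom P = F.Hom P) → D.IsPPrimeResidual p D' →
            LA.IsResidualLimitOf D' p → ∀ P, LA.Hom P = LB.Hom P := by
          intro V D₀ D₀' hV hDF hD₀' hlim₀
          subst hV
          rw [FusionPPower.hom_ext hDF] at hD₀'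
          rw [FusionPPower.pPrimeResidual_unique hF' hD₀'] at hB
          exact FusionPPower.limit_unique hlim₀ hS hD₀'.1 hB
        exact key (F.hyperfocalSubgroup p) D D' hU (FusionPPower.pPower_unique hS hD.1 hF hD.2
          (FusionPPower.pPower_self hU) hU) hD' hlim
      · have hUS : (F.hyperfocalSubgroup p) ≤ S := FusionPPower.hyperfocal_le (p := p) F
        have hUfin : Finite (F.hyperfocalSubgroup p) := finite_of_le hUS
        have hUp : IsPGroup p (F.hyperfocalSubgroup p) := hS.to_le hUS
        obtain ⟨X, hXs, hX⟩ := FusionPPowerIndex88.exists_pPower _ S F' (F.hyperfocalSubgroup p) le_rfl hS hF'.1 hUS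
          (FusionPPower.hyperfocal_mono hF'.2.1.1)
        have hI : F'.IsInvariantIn F := by
          have h := FusionInvariantSub.invariant_EH (F1 := F) hS
            (FusionInvariantSub.invariant_self F) hF (H := A0 F p) fun γ hγ a ha _ => a0_conj hγ ha
          rwa [FusionPPower.pPrimeResidual_unique (isPPrimeResidual_EH hS hF) hF'] at h
        have hcl : F.StronglyClosed (F.hyperfocalSubgroup p) := hyperfocal_stronglyClosed hS hF
        have hcl' : F'.StronglyClosed (F.hyperfocalSubgroup p) := FusionSysNormal.stronglyClosed_iff.2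
          ⟨hUS, fun P f hP hf x hx => closed_apply hcl (sub_mor hI.1 hf) hP hx⟩
        have hXI : X.IsInvariantIn F :=
          FusionInvariantSub.invariant_of_pPower hS hI hF'.1 hXs hX hcl' hcl
        have hXD : X.IsSubsystemOf D :=
          FusionPPower.le_of_pPower hS hXs hXI.1 le_rfl fun P hP α hα hc =>
            FusionInvariantSub.mem_of_coprime hD.2 hP hα hc
        have hgen : Gen D X p := by
          intro R hR α hα hk
          obtain ⟨Q, hRQ, hQ⟩ := exists_fullyNormalized (F := D) hR
          obtain ⟨h, hh, hhQ⟩ := FusionSysBasic.isConj_iff.1 hRQ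
          have hhF : Mor F R h := sub_mor hD.2.1 hh
          haveI := finite_autGroup (F := D) Q
          let H : Subgroup (MulAut Q) := D.autGroup Q ⊓ F'.autGroup Q
          have hind : autInducedBy (F.hyperfocalSubgroup p) Q ≤ X.autGroup Q := autInducedBy_le hQ.1
          have hindH : autInducedBy (F.hyperfocalSubgroup p) Q ≤ H := le_inf (autInducedBy_le hQ.1)
            ((autInducedBy_mono hUS Q).trans (autInducedBy_le (hQ.1.trans hUS)))
          obtain ⟨P0, hP0⟩ := FusionCocycleShift.exists_sylow hUp hD.1 hQ
            (inf_le_left : H ≤ D.autGroup Q) hindH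
          have hle : H ≤ X.autGroup Q := by
            haveI : Finite H := Finite.of_injective _
              (Subgroup.inclusion_injective (inf_le_left : H ≤ D.autGroup Q))
            have key := FusionCocycleShift.le_of_sylow (⊤ : Subgroup H)
              ((X.autGroup Q).subgroupOf H) P0 le_top (fun g hg => by
                rw [hP0, Subgroup.mem_subgroupOf] at hg
                exact Subgroup.mem_subgroupOf.2 (hind hg)) fun g _ hg =>
                Subgroup.mem_subgroupOf.2 (FusionInvariantSub.mem_of_coprime hX hQ.1 g.2.2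
                  (by rwa [Subgroup.orderOf_coe]))
            intro g hg
            exact Subgroup.mem_subgroupOf.1 (key (Subgroup.mem_top ⟨g, hg⟩))
          have hk' : ∃ k, orderOf (hhF.transport hhQ α) = p ^ k := by
            obtain ⟨k, hk⟩ := hk
            exact ⟨k, by rw [MulEquiv.orderOf_eq, hk]⟩
          have ht : hhF.transport hhQ α ∈ H := by
            refine ⟨?_, mem_autGroup_of_mor (gen_of_primeIndex hF'.2.1 Q (hQ.1.trans hUS) _
              (hhF.transport_mem hhQ (FusionPPower.autGroup_mono' hD.2.1 R hα)) hk')⟩
            have h1 : hh.transport hhQ α = hhF.transport hhQ α := afun_ext fun y hy => by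
              rw [← hhQ] at hy
              obtain ⟨x, hx, rfl⟩ := hh.mem_im.1 hy
              rw [hh.afun_transport hhQ α hx, hhF.afun_transport hhQ α hx]
            exact h1 ▸ hh.transport_mem hhQ hα
          obtain ⟨g, hg, hgh, hhg, hgR⟩ := hhF.exists_inv
          rw [hhQ] at hg hhg hgR
          have hgim : im Q g = R := by
            rw [← hhQ, hhF.im_comp]
            exact (im_congr hgh).trans (im_id R)
          have h2 := FusionWeaklyNormal88.aut_transport hXI hQ.1 hg hgim (hle ht)
          have h3 : hg.transport hgim (hhF.transport hhQ α) = α := afun_ext fun x hx => by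
            have e1 : h x ∈ Q := hhQ ▸ apply_mem_im hx
            conv_lhs => rw [← hgh x hx]
            rw [hg.afun_transport hgim _ e1, hhF.afun_transport hhQ α hx,
              hgh _ (afun_mem α hx)]
          rw [h3] at h2
          exact (mem_autGroup hR).1 h2
        have hD'X : X.IsPPrimeResidual p D' := residual_of_primeIndex hXs
          (FusionResidualSeries88.primeIndex_of_gen hXD hgen) hD'
        have hlt : Nat.card (F.hyperfocalSubgroup p) < Nat.card S :=
          lt_of_le_of_ne (Subgroup.card_le_of_le hUS)
            fun e => hU (eq_of_le_of_card_ge le_rfl hUS e.ge)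
        obtain ⟨C, LC, hC⟩ := exists_limit hUp hXs
        intro P
        rw [← (ih (F.hyperfocalSubgroup p) X D' (by omega) hUp hXs hD'X) LC LA hC hlim P]
        exact (same_pPower hS hF'.1 hXs hX LB LC hB hC P).symm

/-- A saturated subsystem of index prime to `p` has the same residual limits. -/
theorem limit_primeIndex (hS : IsPGroup p S) (hF : F.IsSaturated p) {D : FusionSystem S}
    (hDs : D.IsSaturated p) (hD : D.HasPrimeToPIndexIn F p) : Same F D p := by
  obtain ⟨F', hF'⟩ := exists_residual hS hF
  exact Same.trans hS hF'.1 (same_residual_aux _ S F F' le_rfl hS hF hF')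
    (Same.symm (same_residual_aux _ S D F' le_rfl hS hDs (residual_of_primeIndex hDs hD hF')))

end Cfsg.Agent.FusionLimitPrime
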