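import Cfsg.Agent.Lib.FusionLocalUpDown

/-!
`E` normal in `F` over `T`, `X` fully normalized, `N` the normalizer system of `X`, `R = N_T(X)`.
For `P ≤ R` centric relative to `R` and containing `X ⊓ T`, the part `InCom` of `Aut_N(P)` in `E`
consists of the restrictions of the automorphisms of `P X C(P)` in `N` belonging to `E`.
-/

set_option autoImplicit false

namespace Cfsg.Agent.FusionLocalSub

open Cfsg Cfsg.FusionSystem Cfsg.Agent.FusionSysBasic Cfsg.Agent.FusionSysSaturated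
open Cfsg.Agent.FusionSysNormal Cfsg.Agent.FusionKit88 Cfsg.Agent.FusionSysNormalizer
open Cfsg.Agent.FusionLocalPart
open scoped Pointwise

variable {Ω : Type*} [Group Ω] {S T X : Subgroup Ω} {F : FusionSystem S} {E : FusionSystem T}
  {N : FusionSystem (normalizerIn S X)} {p : ℕ}

/-- `P X C(P)`. -/
def dd (S X P : Subgroup Ω) : Subgroup Ω := P ⊔ X ⊔ centralizerIn (normalizerIn S X) P

theorem le_dd (P : Subgroup Ω) : P ≤ dd S X P := le_sup_left.trans le_sup_left

theorem X_le_dd (P : Subgroup Ω) : X ≤ dd S X P := le_sup_right.trans le_sup_left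

theorem cent_le_dd (P : Subgroup Ω) : centralizerIn (normalizerIn S X) P ≤ dd S X P := le_sup_right

/-- `P ≤ R` contains `X ⊓ T` and is centric relative to `R`. -/
def TCN (T : Subgroup Ω) (N : FusionSystem (normalizerIn S X)) (P : Subgroup Ω) : Prop :=
  P ≤ T ⊓ normalizerIn S X ∧ X ⊓ T ≤ P ∧
    ∀ Q, N.IsConj P Q → centralizerIn (T ⊓ normalizerIn S X) Q ≤ Q

/-- The part in `E` at a fully normalized subgroup. -/
def InCom0 (F : FusionSystem S) (E : FusionSystem T) (N : FusionSystem (normalizerIn S X)) (p : ℕ)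
    (P : Subgroup Ω) (a : MulAut P) : Prop :=
  ∃ b : MulAut (dd S X P), b ∈ N.autGroup (dd S X P) ∧ InA F E p (dd S X P) b ∧
    ∀ x ∈ P, afun b x = afun a x

/-- The part in `E`. -/
def InCom (F : FusionSystem S) (E : FusionSystem T) (N : FusionSystem (normalizerIn S X)) (p : ℕ)
    (P : Subgroup Ω) (a : MulAut P) : Prop :=
  ∃ (P' : Subgroup Ω) (θ : Ω → Ω) (hθ : Mor N P θ) (him : im P θ = P'),
    N.IsFullyNormalized P' ∧ InCom0 F E N p P' (hθ.transport him a)

/-- The hypotheses. -/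
structure NCtx (F : FusionSystem S) (E : FusionSystem T) (N : FusionSystem (normalizerIn S X))
    (p : ℕ) : Prop where
  ctx : Ctx F E p
  hX : F.IsFullyNormalized X
  hN : F.IsNormalizerSystem X N

/-- The transport of an automorphism along a map of a subsystem. -/
theorem transport_sub {U : Subgroup Ω} {G : FusionSystem U} {P Q : Subgroup Ω} {θ : Ω → Ω}
    (hG : Mor G P θ) (hF : Mor F P θ) (him : im P θ = Q) (a : MulAut P) :
    hG.transport him a = hF.transport him a := by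
  refine afun_ext fun y hy => ?_
  obtain ⟨x, hx, rfl⟩ := hG.mem_im.1 (him.symm ▸ hy)
  rw [hG.afun_transport him a hx, hF.afun_transport him a hx]

/-- The `p`-elements of the image of a hom are in any `p`-subgroup containing the image of a Sylow
subgroup. -/
theorem inf_range_le {G A : Type*} [Group G] [Group A] [Finite G] [Finite A] {p : ℕ}
    [Fact p.Prime] (r : G →* A) (P1 : Sylow p G) {T0 S0 : Subgroup A} (hS0 : IsPGroup p S0)
    (h0 : T0 ≤ S0) (hT0 : T0 ≤ r.range) (h1 : (P1 : Subgroup G).map r ≤ T0) :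
    S0 ⊓ r.range ≤ T0 := by
  set P2 := P1.mapSurjective r.rangeRestrict_surjective
  have e : ((P2 : Subgroup r.range)).map r.range.subtype = (P1 : Subgroup G).map r := by
    rw [show (P2 : Subgroup r.range) = (P1 : Subgroup G).map r.rangeRestrict from
      Sylow.coe_mapSurjective _ _, Subgroup.map_map, MonoidHom.subtype_comp_rangeRestrict]
  have h2 : (P2 : Subgroup r.range) ≤ (S0 ⊓ r.range).subgroupOf r.range := by
    intro x hx
    refine Subgroup.mem_subgroupOf.2 ⟨h0 (h1 ?_), x.2⟩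
    rw [← e]
    exact ⟨x, hx, rfl⟩
  have h3 := P2.is_maximal'
    ((hS0.to_le (inf_le_left : S0 ⊓ r.range ≤ _)).of_equiv
      (Subgroup.subgroupOfEquivOfLe inf_le_right).symm) h2
  intro x hx
  have hx' : (⟨x, hx.2⟩ : r.range) ∈ (P2 : Subgroup r.range) := h3 ▸ Subgroup.mem_subgroupOf.2 hx
  exact h1 (e.le ⟨_, hx', rfl⟩)

namespace NCtx

variable (h : NCtx F E N p)
include h

theorem subN : N.IsSubsystemOf F := fun P φ hφ => by rw [h.hN P] at hφ; exact hφ.1

theorem X_normal : N.IsNormal X := by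
  refine isNormal_iff.2 ⟨le_normalizerIn h.hX.1, fun P f hf => ?_⟩
  obtain ⟨-, hP, hfv, f', hf', hfe, him⟩ := (mor_normalizerSystem_iff h.hN).1 hf
  have hP' : P ⊔ X ≤ normalizerIn S X := sup_le hP (le_normalizerIn h.hX.1)
  have himX : ∀ x ∈ X, f' x ∈ normalizerIn S X := fun x hx =>
    le_normalizerIn h.hX.1 (him ▸ apply_mem_im hx)
  refine ⟨f', (mor_normalizerSystem_iff h.hN).2 ⟨hf', hP', fun x hx =>
    mor_sup_induction hf' (fun y hy => hfe y hy ▸ hfv y hy) himX hx, f', ?_, fun _ _ => rfl, him⟩,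
    hfe, him⟩
  exact hf'.restrict_to (sup_le le_rfl le_sup_right)

theorem closedR : N.StronglyClosed (T ⊓ normalizerIn S X) :=
  stronglyClosed_iff.2 ⟨inf_le_right, fun P f hP hf x hx =>
    ⟨closed_apply h.ctx.closed (sub_mor h.subN hf) (hP.trans inf_le_left) hx, hf.apply_mem hx⟩⟩

theorem Np : IsPGroup p (normalizerIn S X) := h.ctx.pgrp.to_le inf_le_left

theorem tc_conj {P Q : Subgroup Ω} (hP : TCN T N P) (hPQ : N.IsConj P Q) : TCN T N Q := by
  obtain ⟨f, hf, rfl⟩ := FusionSysBasic.isConj_iff.1 hPQ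
  refine ⟨im_le_iff.2 fun x hx => closed_apply h.closedR hf hP.1 hx, ?_,
    fun Q' hQ' => hP.2.2 Q' (isConj_trans hPQ hQ')⟩
  intro x hx
  obtain ⟨i, hi, hif, hfi, -⟩ := hf.exists_inv
  obtain ⟨f', hf', hag, him⟩ := (isNormal_iff.1 h.X_normal).2 P f hf
  have hxX : x ∈ im X f' := him.symm ▸ hx.1
  obtain ⟨y, hy, rfl⟩ := (hf'.restrict_to le_sup_right).mem_im.1 hxX
  have hyT : y ∈ T := by
    obtain ⟨j, hj, hjf, -, -⟩ := hf'.exists_inv
    rw [← hjf y (Subgroup.mem_sup_right hy)]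
    exact closed_apply' h.ctx.closed (sub_mor h.subN hj) (apply_mem_im (Subgroup.mem_sup_right hy))
      hx.2
  rw [hag y (hP.2.1 ⟨hy, hyT⟩)]
  exact apply_mem_im (hP.2.1 ⟨hy, hyT⟩)

omit h in
theorem tc_upward {P U : Subgroup Ω} (hP : TCN T N P) (hPU : P ≤ U)
    (hU : U ≤ T ⊓ normalizerIn S X) : TCN T N U := by
  refine ⟨hU, hP.2.1.trans hPU, fun Q hQ c hc => ?_⟩
  obtain ⟨f, hf, rfl⟩ := FusionSysBasic.isConj_iff.1 hQ
  exact im_mono hPU (hP.2.2 _ (FusionSysBasic.isConj_iff.2 ⟨f, hf.restrict_to hPU, rfl⟩)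
    (mem_centralizerIn.2 ⟨hc.1, fun y hy => (mem_centralizerIn.1 hc).2 y (im_mono hPU hy)⟩))

variable [Finite S]

theorem dd_le {P : Subgroup Ω} (hP : TCN T N P) :
    dd S X P ≤ normalizerIn (normalizerIn S X) P := by
  have hPS : P ≤ normalizerIn S X := hP.1.trans inf_le_right
  haveI : Finite ↥(normalizerIn S X) := finite_of_le inf_le_left
  refine sup_le (sup_le (le_normalizerIn hPS) fun x hx => ⟨le_normalizerIn h.hX.1 hx, ?_⟩)
    centralizerIn_le_normalizerIn
  refine mem_normalizer_of_cj_le hPS fun u hu => ?_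
  have hxS := h.hX.1 hx
  have hu' := hP.1 hu
  have h1 : cj x u * u⁻¹ ∈ X ⊓ T := by
    refine ⟨?_, T.mul_mem (cj_mem_of_stronglyClosed h.ctx.closed hxS hu'.1) (T.inv_mem hu'.1)⟩
    have h2 : cj u x⁻¹ ∈ X := cj_mem_of_normalizer hu'.2.2 (X.inv_mem hx)
    have h3 := X.mul_mem hx h2
    simpa [cj_apply, mul_assoc] using h3
  have := P.mul_mem (hP.2.1 h1) hu
  simpa using this

theorem dd_map {P P' : Subgroup Ω} {f : Ω → Ω} (hf : Mor N (dd S X P) f)
    (hfP : im P f = P') : im (dd S X P) f ≤ dd S X P' := by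
  refine im_le_iff.2 fun x hx => mor_sup_induction hf
    (fun y hy => mor_sup_induction (hf.restrict_to le_sup_left)
      (fun a ha => le_dd _ (hfP ▸ apply_mem_im ha))
      (fun a ha => X_le_dd _ (normal_invariant h.X_normal hf (X_le_dd P ha) ha)) hy)
    (fun c hc => cent_le_dd _ (hfP ▸ FusionCentralizerSub.apply_cent hf (le_dd P) (cent_le_dd P hc) hc))
    hx

theorem dd_le_image {P U U' W : Subgroup Ω} (hP : N.IsFullyCentralized P) (hPU : P ≤ U)
    (hUW : U ≤ W) (hdW : dd S X P ≤ W) {θ : Ω → Ω} (hθ : Mor N W θ) (hU' : im U θ = U') :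
    dd S X U' ≤ im W θ := by
  haveI : Finite ↥(normalizerIn S X) := finite_of_le inf_le_left
  refine sup_le (sup_le (hU' ▸ im_mono hUW) ?_) ?_
  · have hXW : X ≤ W := (X_le_dd P).trans hdW
    have hX' := (hθ.restrict_to hXW).im_self fun x hx =>
      normal_invariant h.X_normal hθ (hXW hx) hx
    exact hX'.ge.trans (im_mono hXW)
  · intro c hc
    obtain ⟨e, -⟩ := FusionNormalLifts.cent_image hP
      (hθ.restrict_to (sup_le (hPU.trans hUW) ((cent_le_dd P).trans hdW)))
    refine im_mono ((cent_le_dd P).trans hdW) (e.ge (mem_centralizerIn.2 ⟨hc.1, fun y hy => ?_⟩))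
    exact (mem_centralizerIn.1 hc).2 y (hU' ▸ im_mono hPU hy)

theorem dd_eq {P P' : Subgroup Ω} (hP : N.IsFullyCentralized P) {f : Ω → Ω}
    (hf : Mor N (dd S X P) f) (hfP : im P f = P') : im (dd S X P) f = dd S X P' :=
  le_antisymm (h.dd_map hf hfP) (h.dd_le_image hP le_rfl (le_dd P) le_rfl hf hfP)

variable [Fact p.Prime]

theorem satN : N.IsSaturated p := normalizerSystem_saturated h.ctx.pgrp h.ctx.sat h.hX h.hN

theorem fc_of_fn {P : Subgroup Ω} (hP : N.IsFullyNormalized P) : N.IsFullyCentralized P :=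
  haveI : Finite ↥(normalizerIn S X) := finite_of_le inf_le_left
  fullyCentralized_of_fullyNormalized h.Np h.satN hP

theorem dd_centric {P : Subgroup Ω} (hP : N.IsFullyNormalized P) :
    F.IsCentric (dd S X P) := by
  haveI : Finite ↥(normalizerIn S X) := finite_of_le inf_le_left
  have hS' : dd S X P ≤ normalizerIn S X :=
    sup_le (sup_le hP.1 (le_normalizerIn h.hX.1)) inf_le_left
  refine ⟨hS'.trans inf_le_left, fun Q hQ c hc => ?_⟩
  obtain ⟨φ, hφ, rfl⟩ := FusionSysBasic.isConj_iff.1 hQ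
  have hXd : X ≤ dd S X P := X_le_dd P
  have hX' : F.IsConj (im X φ) X :=
    isConj_symm (FusionSysBasic.isConj_iff.2 ⟨φ, hφ.restrict_to hXd, rfl⟩)
  obtain ⟨ψ, hψ, hψN, hψX⟩ := exists_map_to_fullyNormalized h.ctx.pgrp h.ctx.sat h.hX hX'
  -- the image normalizes the image of `X`
  have hN' : ∀ x ∈ dd S X P, φ x ∈ normalizerIn S (im X φ) := fun x hx =>
    ⟨hφ.apply_mem hx, FusionWeaklyNormal88.apply_normalizes hφ hXd hx (hS' hx).2⟩
  have hcN : c ∈ normalizerIn S (im X φ) := centralizerIn_le_normalizerIn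
    (mem_centralizerIn.2 ⟨hc.1, fun y hy => (mem_centralizerIn.1 hc).2 y (im_mono hXd hy)⟩)
  have hχ : Mor F (dd S X P) (ψ ∘ φ) := hφ.comp hψ hN'
  have hχN : Mor N (dd S X P) (ψ ∘ φ) := by
    refine (mor_normalizerSystem_iff h.hN).2 ⟨hχ, hS', fun x hx => hψN _ (hN' x hx), ψ ∘ φ,
      hχ.restrict_to (sup_le le_rfl hXd), fun _ _ => rfl, ?_⟩
    rw [← (hφ.restrict_to hXd).im_comp, hψX]
  obtain ⟨e, -⟩ := FusionNormalLifts.cent_image (h.fc_of_fn hP)
    (hχN.restrict_to (sup_le (le_dd P) (cent_le_dd P)))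
  have h1 : ψ c ∈ centralizerIn (normalizerIn S X) (im P (ψ ∘ φ)) := by
    refine mem_centralizerIn.2 ⟨hψN c hcN, fun y hy => ?_⟩
    obtain ⟨x, hx, rfl⟩ := (hχ.restrict_to (le_dd P)).mem_im.1 hy
    simp only [Function.comp_apply]
    rw [← hψ.map_cj hcN (hN' x (le_dd P hx)),
      (mem_centralizerIn.1 hc).2 _ (apply_mem_im (le_dd P hx))]
  obtain ⟨d, hd, hde⟩ := (hχN.restrict_to (cent_le_dd P)).mem_im.1 (e.symm ▸ h1)
  have hdd := cent_le_dd P hd
  obtain rfl := hψ.injOn (hN' d hdd) hcN hde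
  exact apply_mem_im hdd

/-- Automorphisms of a fully normalized relatively centric subgroup extend to `P X C(P)`. -/
theorem exists_ext_dd {P : Subgroup Ω} (hP : N.IsFullyNormalized P) (hc : TCN T N P)
    {a : MulAut P} (ha : a ∈ N.autGroup P) :
    ∃ b ∈ N.autGroup (dd S X P), ∀ x ∈ P, afun b x = afun a x := by
  haveI : Finite ↥(normalizerIn S X) := finite_of_le inf_le_left
  have hPS := hP.1
  have ham := (mem_autGroup hPS).1 ha
  obtain ⟨g, hg, hge, -⟩ := (isNormal_iff.1 h.X_normal).2 P _ ham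
  have hd := h.dd_le hc
  obtain ⟨f, hf, hfe⟩ := (receptive_iff.1 (receptive_of_fullyNormalized h.Np h.satN hP)).2 P _
    (dd S X P) ham (im_afun a) (hd.trans inf_le_left) (hd.trans inf_le_right) (by
      suffices dd S X P ≤ nK (normalizerIn S X) P
          ((autInducedBy (normalizerIn S X) P).comap (MulAut.conj a).toMonoidHom) by
        intro y hy
        obtain ⟨-, l, hl, hle⟩ := this hy
        obtain ⟨k, hk, -, hke⟩ := mem_autInducedBy.1 (Subgroup.mem_comap.1 hl)
        refine ⟨k, hk, fun x hx => ?_⟩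
        rw [← hke _ (afun_mem a hx), ← hle x hx]
        simp only [MulEquiv.coe_toMonoidHom, MulAut.conj_apply]
        rw [afun_mul _ _ (afun_mem a hx), afun_inv_apply a hx, afun_mul _ _ hx]
      refine sup_le (fun y hy => ?_) fun y hy => ⟨hy.1, 1, one_mem _, fun x hx => by
        rw [afun_one hx, (mem_centralizerIn.1 hy).2 x hx]⟩
      have hyN := hd (le_sup_left (b := centralizerIn (normalizerIn S X) P) hy)
      refine ⟨hyN.1, nHom (normalizerIn S X) P ⟨y, hyN⟩, ?_, fun x hx => afun_nHom _ hx⟩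
      have hgP : im P g = P := (im_congr hge).trans (im_afun a)
      refine mem_autInducedBy.2 ⟨g y, hg.apply_mem hy,
        hgP ▸ FusionWeaklyNormal88.apply_normalizes hg le_sup_left hy hyN.2, fun x hx => ?_⟩
      have hx' := afun_mem a⁻¹ hx
      simp only [MulEquiv.coe_toMonoidHom, MulAut.conj_apply]
      rw [afun_mul _ _ hx, afun_mul _ _ hx', afun_nHom _ hx',
        ← hge _ (cj_mem_of_normalizer hyN.2 hx'), hg.map_cj hy (Subgroup.mem_sup_left hx'),
        hge _ hx', afun_apply_inv a hx])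
  have hfd := hf.restrict_to (le_sup_right : dd S X P ≤ P ⊔ dd S X P)
  have hfP : im P f = P := (im_congr hfe).trans (im_afun a)
  obtain ⟨b, hb, hbe⟩ := hfd.exists_aut (hfd.im_self fun x hx =>
    h.dd_map hfd hfP (apply_mem_im hx))
  exact ⟨b, hb, fun x hx => (hbe x (le_dd P hx)).trans (hfe x hx)⟩

theorem inCom0_conj {P : Subgroup Ω} (hP : N.IsFullyNormalized P) (hc : TCN T N P)
    {n a : MulAut P} (hn : n ∈ N.autGroup P) (ha : InCom0 F E N p P a) :
    InCom0 F E N p P (n * a * n⁻¹) := by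
  haveI : Finite ↥(normalizerIn S X) := finite_of_le inf_le_left
  obtain ⟨b, hb, hbA, hbe⟩ := ha
  obtain ⟨m, hm, hme⟩ := h.exists_ext_dd hP hc hn
  have hdd : dd S X P ≤ normalizerIn S X := (h.dd_le hc).trans inf_le_left
  have hmF : m ∈ F.autGroup (dd S X P) :=
    mem_autGroup_of_mor (sub_mor h.subN ((mem_autGroup hdd).1 hm))
  refine ⟨m * b * m⁻¹, mul_mem (mul_mem hm hb) (inv_mem hm),
    h.ctx.inA_conj (hdd.trans inf_le_left) hmF hbA, fun x hx => ?_⟩
  have hx' := afun_mem n⁻¹ hx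
  have h1 : afun m⁻¹ x = afun n⁻¹ x := by
    conv_lhs => rw [← afun_apply_inv n hx, ← hme _ hx']
    exact afun_inv_apply m (le_dd P hx')
  rw [afun_mul _ _ (le_dd P hx), afun_mul _ _ (afun_mem _ (le_dd P hx)), h1, hbe _ hx',
    hme _ (afun_mem a hx'), afun_mul _ _ hx, afun_mul _ _ hx']

/-- At a fully normalized subgroup the part in `E` is computed directly. -/
theorem inCom_fn {P : Subgroup Ω} (hP : N.IsFullyNormalized P) (hc : TCN T N P) {a : MulAut P} :
    InCom F E N p P a ↔ InCom0 F E N p P a := by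
  haveI : Finite ↥(normalizerIn S X) := finite_of_le inf_le_left
  have hPS := hP.1
  refine ⟨fun ha => ?_, fun ha => ⟨P, fun x => x, mor_id hPS, im_id P, hP, ?_⟩⟩
  swap
  · rwa [transport_id]
  obtain ⟨P', θ, hθ, him, hP', b, hb, hbA, hbe⟩ := ha
  have hcon : N.IsConj P P' := FusionSysBasic.isConj_iff.2 ⟨θ, hθ, him⟩
  have hc' := h.tc_conj hc hcon
  obtain ⟨γ, hγ, hγN, hγP⟩ :=
    exists_map_to_fullyNormalized h.Np h.satN hP (isConj_symm hcon)
  have hγ0 := hγ.restrict_to (le_normalizerIn hP'.1)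
  have hγd := hγ.restrict_to (h.dd_le hc')
  have him' := h.dd_eq (h.fc_of_fn hP') hγd hγP
  have hcomp : Mor N P (γ ∘ θ) := hθ.comp hγ0 fun x hx => him ▸ apply_mem_im hx
  have hcim : im P (γ ∘ θ) = P := by rw [← hθ.im_comp, him, hγP]
  obtain ⟨u, hu, hue⟩ := hcomp.exists_aut hcim
  have key : InCom0 F E N p P (u * a * u⁻¹) := by
    refine ⟨hγd.transport him' b, hγd.transport_mem him' hb, ?_, ?_⟩
    · rw [transport_sub hγd (sub_mor h.subN hγd) him']
      exact inA_transport _ _ hbA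
    · intro y hy
      obtain ⟨x, hx, rfl⟩ := hγ0.mem_im.1 (hγP.symm ▸ hy)
      rw [hγd.afun_transport him' b (le_dd P' hx), hbe x hx,
        ← hγ0.afun_transport hγP (hθ.transport him a) hx,
        transport_comp hθ him hγ0 hγP hcomp hcim,
        transport_congr hcomp hcim ((mem_autGroup hPS).1 hu) (im_afun u)
          (fun z hz => (hue z hz).symm), mor_conj_eq]
  have := h.inCom0_conj hP hc (inv_mem hu) key
  simpa [mul_assoc] using this

theorem inCom_transport {P P2 : Subgroup Ω} {φ : Ω → Ω} (hφ : Mor N P φ) (him : im P φ = P2)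
    {a : MulAut P} (ha : InCom F E N p P a) : InCom F E N p P2 (hφ.transport him a) := by
  obtain ⟨P', θ, hθ, hθP, hP', hin⟩ := ha
  obtain ⟨i, hi, hiφ, -, hiP⟩ := hφ.exists_inv
  rw [him] at hi hiP
  have himi : im P2 i = P := by
    rw [← him, hφ.im_comp]
    exact (im_congr fun x hx => hiφ x hx).trans (im_id P)
  refine ⟨P', θ ∘ i, hi.comp hθ hiP, by rw [← hi.im_comp, himi, hθP], hP', ?_⟩
  rw [← transport_comp hi himi hθ hθP, transport_inv hφ him hi himi hiφ]
  exact hin

/-- The part in `E`, as a subgroup. -/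
def comG {P : Subgroup Ω} (hc : TCN T N P) : Subgroup (MulAut P) where
  carrier := {a | InCom F E N p P a}
  one_mem' := by
    haveI : Finite ↥(normalizerIn S X) := finite_of_le inf_le_left
    obtain ⟨P', hPP', hP'⟩ :=
      FusionSysSaturated.exists_fullyNormalized (F := N) (hc.1.trans inf_le_right)
    obtain ⟨θ, hθ, him⟩ := FusionSysBasic.isConj_iff.1 hPP'
    refine ⟨P', θ, hθ, him, hP', 1, one_mem _, (h.ctx.inA_group (h.dd_centric hP')).1, ?_⟩
    intro x hx
    rw [map_one, afun_one hx, afun_one (le_dd P' hx)]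
  mul_mem' := by
    rintro a c ⟨P', θ, hθ, him, hP', hin⟩ hb
    have hc' := h.tc_conj hc (FusionSysBasic.isConj_iff.2 ⟨θ, hθ, him⟩)
    obtain ⟨u, hu, huA, hue⟩ := hin
    obtain ⟨v, hv, hvA, hve⟩ := (h.inCom_fn hP' hc').1 (h.inCom_transport hθ him hb)
    refine ⟨P', θ, hθ, him, hP', u * v, mul_mem hu hv,
      (h.ctx.inA_group (h.dd_centric hP')).2.1 _ _ huA hvA, fun x hx => ?_⟩
    rw [map_mul, afun_mul _ _ (le_dd P' hx), afun_mul _ _ hx, hve x hx,
      hue _ (afun_mem _ hx)]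
  inv_mem' := by
    rintro a ⟨P', θ, hθ, him, hP', u, hu, huA, hue⟩
    refine ⟨P', θ, hθ, him, hP', u⁻¹, inv_mem hu,
      (h.ctx.inA_group (h.dd_centric hP')).2.2 _ huA, fun x hx => ?_⟩
    rw [map_inv]
    conv_lhs => rw [← afun_apply_inv (hθ.transport him a) hx, ← hue _ (afun_mem _ hx)]
    exact afun_inv_apply u (le_dd P' (afun_mem _ hx))

theorem inCom_mem {P : Subgroup Ω} {a : MulAut P} (ha : InCom F E N p P a) :
    a ∈ N.autGroup P := by
  obtain ⟨P', θ, hθ, him, hP', b, hb, -, hbe⟩ := ha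
  haveI : Finite ↥(normalizerIn S X) := finite_of_le inf_le_left
  have h1 : hθ.transport him a ∈ N.autGroup P' := by
    have hdd : dd S X P' ≤ normalizerIn S X :=
      sup_le (sup_le hP'.1 (le_normalizerIn h.hX.1)) inf_le_left
    exact mem_autGroup_of_mor ((((mem_autGroup hdd).1 hb).restrict_to (le_dd P')).congr hbe)
  rw [← hθ.map_transport him] at h1
  obtain ⟨c, hc, hce⟩ := h1
  rwa [← (hθ.transport him).injective hce]

theorem inCom_E {P : Subgroup Ω} (hPR : P ≤ T) {a : MulAut P} (ha : InCom F E N p P a) :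
    a ∈ E.autGroup P := by
  obtain ⟨P', θ, hθ, him, hP', b, hb, hbA, hbe⟩ := ha
  have hθF := sub_mor h.subN hθ
  have hP'T : P' ≤ T := him ▸ im_le_iff.2 fun x hx => closed_apply h.ctx.closed hθF hPR hx
  haveI := finite_of_le h.ctx.T_le
  obtain ⟨-, -, e, he, hee⟩ := h.ctx.inA_bst hbA
  have hle : P' ≤ dd S X P' ⊓ T := le_inf (le_dd P') hP'T
  have hm := ((mem_autGroup (inf_le_right : dd S X P' ⊓ T ≤ T)).1 he).restrict_to hle
  have h1 : hθF.transport him a ∈ E.autGroup P' := by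
    refine mem_autGroup_of_mor (hm.congr fun x hx => ?_)
    rw [← hee x (hle hx), hbe x hx, transport_sub hθ hθF him]
  obtain ⟨i, hi, hiθ, -, -⟩ := hθF.exists_inv
  rw [him] at hi
  have himi : im P' i = P := by
    rw [← him, hθF.im_comp]
    exact (im_congr fun x hx => hiθ x hx).trans (im_id P)
  rw [← transport_inv hθF him hi himi hiθ a]
  exact FusionWeaklyNormal88.aut_transport h.ctx.inv hP'T hi himi h1

/-- The part in `E` contains the automorphisms induced by `R`. -/
theorem autR_inCom {P : Subgroup Ω} (hc : TCN T N P) {a : MulAut P}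
    (ha : a ∈ autInducedBy (T ⊓ normalizerIn S X) P) : InCom F E N p P a := by
  haveI : Finite ↥(normalizerIn S X) := finite_of_le inf_le_left
  have hPS : P ≤ normalizerIn S X := hc.1.trans inf_le_right
  obtain ⟨P', hPP', hP'⟩ := FusionSysSaturated.exists_fullyNormalized (F := N) hPS
  obtain ⟨θ, hθN, hθN', him⟩ := exists_map_to_fullyNormalized h.Np h.satN hP' hPP'
  have hθ := hθN.restrict_to (le_normalizerIn hPS)
  obtain ⟨t, ht, htn, hte⟩ := mem_autInducedBy.1 ha
  have htN : t ∈ normalizerIn (normalizerIn S X) P := ⟨ht.2, htn⟩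
  have htR := closed_apply' h.closedR hθN htN ht
  have htn' := (hθN' t htN).2
  have hdd : dd S X P' ≤ normalizerIn S X :=
    sup_le (sup_le hP'.1 (le_normalizerIn h.hX.1)) inf_le_left
  have hm := mor_cj (F := N) hdd htR.2
  have htD : θ t ∈ Subgroup.normalizer ((dd S X P' : Subgroup Ω) : Set Ω) :=
    mem_normalizer_of_cj_le hdd fun x hx =>
      h.dd_map hm (mem_normalizer_iff_im_cj.1 htn') (apply_mem_im hx)
  set b := nHom T (dd S X P') ⟨θ t, htR.1, htD⟩
  refine ⟨P', θ, hθ, him, hP', b, mem_autGroup_of_mor (hm.congr fun x hx =>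
      (afun_nHom (⟨θ t, htR.1, htD⟩ : ↥(T ⊓ Subgroup.normalizer ((dd S X P' : Subgroup Ω) : Set Ω))) hx).symm),
    h.ctx.autT_inA (h.dd_centric hP')
      (mem_autInducedBy.2 ⟨θ t, htR.1, htD, fun x hx => afun_nHom _ hx⟩), fun y hy => ?_⟩
  rw [afun_nHom _ (le_dd P' hy)]
  obtain ⟨x, hx, rfl⟩ := hθ.mem_im.1 (him.symm ▸ hy)
  rw [hθ.afun_transport him a hx, hte x hx, hθN.map_cj htN (le_normalizerIn hPS hx)]

theorem fullyK_dd {P : Subgroup Ω} (hP : N.IsFullyNormalized P) (hc : TCN T N P) :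
    FullyK N (dd S X P) (FusionTops.stab N (dd S X P) P (le_dd P)) := by
  haveI : Finite ↥(normalizerIn S X) := finite_of_le inf_le_left
  have hdd := (h.dd_le hc).trans inf_le_left
  refine ⟨hdd, fun φ hφ => ?_⟩
  have hφP := hφ.restrict_to (le_dd P)
  have h1 : nK (normalizerIn S X) (im (dd S X P) φ) ((FusionTops.stab N (dd S X P) P (le_dd P)).map
      (hφ.transport rfl).toMonoidHom) ≤ normalizerIn (normalizerIn S X) (im P φ) := by
    intro g hg
    obtain ⟨hgS, κ, hκ, he⟩ := (mem_nK_transport hφ rfl).1 hg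
    refine ⟨hgS, mem_normalizer_of_cj_le hφP.im_le fun y hy => ?_⟩
    obtain ⟨x, hx, rfl⟩ := hφP.mem_im.1 hy
    rw [he x (le_dd P hx)]
    exact apply_mem_im (hκ.2.le (apply_mem_im hx))
  have h2 : normalizerIn (normalizerIn S X) P ≤
      nK (normalizerIn S X) (dd S X P) (FusionTops.stab N (dd S X P) P (le_dd P)) := by
    intro g hg
    have hm := mor_cj (F := N) hdd hg.1
    obtain ⟨κ, hκ, he⟩ := hm.exists_aut (hm.im_self fun x hx =>
      h.dd_map hm (mem_normalizer_iff_im_cj.1 hg.2) (apply_mem_im hx))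
    exact ⟨hg.1, κ, ⟨hκ, (im_congr fun x hx => he x (le_dd P hx)).trans
      (mem_normalizer_iff_im_cj.1 hg.2)⟩, he⟩
  haveI := finite_normalizerIn (S := normalizerIn S X) (im P φ)
  haveI : Finite ↥(nK (normalizerIn S X) (dd S X P)
    (FusionTops.stab N (dd S X P) P (le_dd P))) := finite_of_le nK_le
  exact ((Subgroup.card_le_of_le h1).trans (hP.2 _ (FusionSysBasic.isConj_iff.2 ⟨φ, hφP, rfl⟩))).trans
    (Subgroup.card_le_of_le h2)

/-- The Sylow data at `P X C(P)`. -/
theorem sylow_dd {P : Subgroup Ω} (hP : N.IsFullyNormalized P) (hc : TCN T N P) :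
    SylIn p (autInducedBy (normalizerIn S X) (dd S X P) ⊓ FusionTops.stab N (dd S X P) P (le_dd P))
      (FusionTops.stab N (dd S X P) P (le_dd P)) := by
  haveI : Finite ↥(normalizerIn S X) := finite_of_le inf_le_left
  obtain ⟨-, hsyl⟩ := fullyK_spec h.Np h.satN (h.fullyK_dd hP hc)
  have e : N.autGroup (dd S X P) ⊓ FusionTops.stab N (dd S X P) P (le_dd P) =
      FusionTops.stab N (dd S X P) P (le_dd P) := inf_eq_right.2 fun b hb => hb.1
  rwa [e] at hsyl

/-- The automorphisms in `E` induced by `N_S(X)` are induced by `R`. -/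
theorem com_sylow {P : Subgroup Ω} (hP : N.IsFullyNormalized P) (hc : TCN T N P) {a : MulAut P}
    (haS : a ∈ autInducedBy (normalizerIn S X) P) (ha : InCom F E N p P a) :
    a ∈ autInducedBy (T ⊓ normalizerIn S X) P := by
  classical
  haveI : Finite ↥(normalizerIn S X) := finite_of_le inf_le_left
  have hPS := hP.1
  have hdd : dd S X P ≤ normalizerIn S X := (h.dd_le hc).trans inf_le_left
  have hcD := h.dd_centric hP
  set St := FusionTops.stab N (dd S X P) P (le_dd P) with hSt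
  haveI := finite_autGroup (F := N) (dd S X P)
  haveI := finite_autGroup (F := N) P
  haveI : Finite St :=
    Finite.of_injective _ (Subgroup.inclusion_injective (fun b hb => hb.1 : St ≤ N.autGroup (dd S X P)))
  set G1 := St ⊓ h.ctx.aSub hcD with hG1
  haveI : Finite G1 := Finite.of_injective _ (Subgroup.inclusion_injective (inf_le_left : G1 ≤ St))
  obtain ⟨P1, hP1⟩ := FusionCentralLift.sylIn_inf (h.sylow_dd hP hc)
    ((isPGroup_autInducedBy h.Np _).to_le inf_le_left) (inf_le_left : G1 ≤ St)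
    fun g hg b hb => ⟨St.mul_mem (St.mul_mem hg hb.1) (St.inv_mem hg),
      h.ctx.inA_conj (hdd.trans inf_le_left)
        (mem_autGroup_of_mor (sub_mor h.subN ((mem_autGroup hdd).1 hg.1))) hb.2⟩
  obtain ⟨r, hr⟩ := FusionGenerated.exists_res (F := N) hdd (le_dd P)
  set r' : G1 →* N.autGroup P := r.comp (Subgroup.inclusion (inf_le_left : G1 ≤ St)) with hr'
  have hr'' : ∀ b : G1, ∀ x ∈ P, afun (r' b : MulAut P) x = afun (b : MulAut (dd S X P)) x :=
    fun b x hx => hr _ x hx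
  set T0 := (autInducedBy (T ⊓ normalizerIn S X) P).subgroupOf (N.autGroup P) with hT0def
  set S0 := (autInducedBy (normalizerIn S X) P).subgroupOf (N.autGroup P) with hS0def
  have hS0 : IsPGroup p S0 := (isPGroup_autInducedBy h.Np P).comap_of_injective
    (N.autGroup P).subtype (Subgroup.subtype_injective _)
  have h0 : T0 ≤ S0 := fun x hx => autInducedBy_mono inf_le_right P hx
  have inR : ∀ b : MulAut P, InCom0 F E N p P b → ∃ hb : b ∈ N.autGroup P,
      (⟨b, hb⟩ : N.autGroup P) ∈ r'.range := by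
    rintro b ⟨c, hc', hcA, hce⟩
    have hcSt : c ∈ St := ⟨hc', (im_congr hce).trans (im_afun b)⟩
    have e : (r' ⟨c, hcSt, hcA⟩ : MulAut P) = b :=
      afun_ext fun x hx => (hr'' _ x hx).trans (hce x hx)
    exact ⟨e ▸ (r' ⟨c, hcSt, hcA⟩).2, ⟨c, hcSt, hcA⟩, Subtype.ext e⟩
  have hT0 : T0 ≤ r'.range := fun x hx => by
    obtain ⟨_, hx'⟩ := inR x ((h.inCom_fn hP hc).1 (h.autR_inCom hc hx))
    exact hx'
  have h1 : (P1 : Subgroup G1).map r' ≤ T0 := by
    rintro _ ⟨b, hb, rfl⟩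
    rw [hP1, SetLike.mem_coe, Subgroup.mem_subgroupOf] at hb
    obtain ⟨s, hs, hsn, hse⟩ := mem_autInducedBy.1 hb.1.1
    obtain ⟨t, ht, htn, hte⟩ := mem_autInducedBy.1
      (h.ctx.inA_sylow hcD (autInducedBy_mono inf_le_left _ hb.1.1) hb.2.2)
    have htS : t ∈ normalizerIn S X := by
      have hz : t⁻¹ * s ∈ centralizerIn S (dd S X P) := mem_centralizerIn.2
        ⟨S.mul_mem (S.inv_mem (h.ctx.T_le ht)) hs.1, fun x hx => by
          rw [← cj_cj, ← hse x hx, hte x hx, cj_inv_cj]⟩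
      have := (normalizerIn S X).mul_mem hs
        ((normalizerIn S X).inv_mem (hdd (hcD.2 _ (isConj_refl hcD.1) hz)))
      simpa using this
    have htP : ∀ x ∈ P, afun (r' b : MulAut P) x = cj t x := fun x hx => by
      rw [hr'' b x hx, hte x (le_dd P hx)]
    exact Subgroup.mem_subgroupOf.2 (mem_autInducedBy.2 ⟨t, ⟨ht, htS⟩,
      mem_normalizer_of_cj_le hPS fun x hx => htP x hx ▸ afun_mem _ hx, htP⟩)
  obtain ⟨haN, har⟩ := inR a ((h.inCom_fn hP hc).1 ha)
  exact Subgroup.mem_subgroupOf.1 (inf_range_le r' P1 hS0 h0 hT0 h1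
    ⟨(Subgroup.mem_subgroupOf.2 haS : (⟨a, haN⟩ : N.autGroup P) ∈ S0), har⟩)

end NCtx

end Cfsg.Agent.FusionLocalSub
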