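import Cfsg.Agent.Lib.FusionComponentExists
import Cfsg.Agent.Lib.FusionModelTools
import Cfsg.Agent.Lib.CharPLocal

/-!
Centralizer systems of central elements inside local subsystems, used for the dichotomy between
characteristic `p`-type and component type.
-/

set_option autoImplicit false

universe u

namespace Cfsg.Agent.FusionLocalComponent

open Cfsg Cfsg.FusionSystem Cfsg.Agent.FusionSysBasic Cfsg.Agent.FusionSysSaturated
open Cfsg.Agent.FusionSysNormal Cfsg.Agent.FusionKit88 Cfsg.Agent.FusionMorph88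

variable {Ω : Type u} [Group Ω] {S : Subgroup Ω} [Finite S] {F : FusionSystem S} {p : ℕ}
  [Fact p.Prime]

omit [Finite S] [Fact p.Prime] in
theorem cj_eq_iff {a b : Ω} : cj a b = b ↔ cj b a = a := by
  simp only [cj_apply, mul_inv_eq_iff_eq_mul]
  exact eq_comm

/-- If a system is not constrained, neither is the centralizer system of a subgroup of its core
centralized by all of `S`. -/
theorem not_constrained_centralizer (hS : IsPGroup p S) (hF : F.IsSaturated p)
    (hn : ¬ F.IsConstrained p) {X : Subgroup Ω} (hX : X ≤ F.core)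
    (hXc : ∀ x ∈ X, ∀ s ∈ S, cj s x = x) {E : FusionSystem (centralizerIn S X)}
    (hE : F.IsCentralizerSystem X E) : ¬ E.IsConstrained p := by
  intro hc
  set Q := F.core with hQdef
  have hQn : F.IsNormal Q := core_isNormal
  have hQS := hQn.1
  set CQ := centralizerIn S Q with hCQ
  have hnle : ¬ CQ ≤ Q := by
    intro hle
    refine hn ⟨hF, Q, hQn, hQS, fun R hR => ?_⟩
    obtain ⟨f, hf, rfl⟩ := FusionSysBasic.isConj_iff.1 hR
    obtain ⟨ψ, hψ, hψe, hψQ⟩ := (isNormal_iff.1 hQn).2 Q f hf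
    rwa [im_congr fun x hx => (hψe x hx).symm, hψQ]
  have hcentQ : ∀ c ∈ CQ, ∀ q ∈ Q, cj q c = c := fun c hc q hq =>
    cj_eq_iff.1 ((mem_centralizerIn.1 hc).2 q hq)
  obtain ⟨D, hD, hDQ⟩ := S5155.result p hS F hF (Cfsg.innerFusionSystem Q)
    (FusionComponentExists.inner_normal hS hF hQn)
    CQ le_rfl (fun P φ hφ => by
      obtain ⟨hP, g, hg, he⟩ := FusionSysAlperin.mor_inner_iff.1 (mor_toFun hφ)
      have hPC : P ⊔ CQ ≤ S := sup_le (hP.trans hQS) inf_le_left
      have hm := mor_cj (F := F) (P := P) (hP.trans hQS) (hQS hg)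
      have hQC : ∀ y ∈ Q, y ∈ centralizerIn S CQ := fun y hy =>
        mem_centralizerIn.2 ⟨hQS hy, fun c hc => hcentQ c hc y hy⟩
      have hval : ∀ x : P, φ x = cj g x := fun x => by rw [← toFun_coe φ x, he x x.2]
      refine ⟨(mor_iff_hom hval).1 hm, fun x hx => hQC x (hP hx), fun x => hQC _ ?_,
        (ext_central_iff (f := cj g) hval).2 ⟨cj g, mor_cj hPC (hQS hg), fun _ _ => rfl,
          fun c hc => hcentQ c hc g hg⟩⟩
      exact ((Cfsg.innerFusionSystem Q).le_of_mem hφ).2 x)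
    (fun Y hY _ => hY)
  have hCS : CQ ≤ S := inf_le_left
  haveI := finite_of_le hCS
  have hXQ : ∀ x ∈ X, x ∈ CQ := fun x hx => mem_centralizerIn.2
    ⟨hQS (hX hx), fun q hq => cj_eq_iff.1 (hXc x hx q (hQS hq))⟩
  have hCW : CQ ≤ centralizerIn S X := fun c hc => mem_centralizerIn.2
    ⟨hCS hc, fun x hx => (mem_centralizerIn.1 hc).2 x (hX hx)⟩
  have hWS : centralizerIn S X ≤ S := inf_le_left
  haveI := finite_of_le hWS
  -- the maps of `D` fix `X`
  have hfixD : ∀ {P : Subgroup Ω} {f : Ω → Ω}, Mor D P f →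
      ∃ ψ, Mor F (P ⊔ Q) ψ ∧ (∀ x ∈ P, ψ x = f x) ∧ ∀ x ∈ Q, ψ x = x := by
    intro P f hf
    obtain ⟨φ, hφ, he⟩ := hf
    exact (ext_central_iff he).1 (hDQ P hφ).2.2.2
  have hsub : D.IsSubsystemOf E := fun P φ hφ => by
    obtain ⟨hP, -⟩ := D.le_of_mem hφ
    obtain ⟨ψ, hψ, he, hfix⟩ := hfixD (mor_toFun hφ)
    refine (mor_iff_hom fun x => (toFun_coe φ x).symm).1 ((mor_centralizerSystem_iff hE).2
      ⟨sub_mor hD.1.2.2.1 (mor_toFun hφ), hP.trans hCW,
        fun x hx => hCW ((mor_toFun hφ).apply_mem hx), ψ,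
        hψ.restrict_to (sup_le_sup_left hX P), he, fun x hx => hfix x (hX hx)⟩)
  obtain ⟨-, hcl, hinv, hfr⟩ := FusionIso88.invariant_iff.1 hD.1.2.2
  have hmE : ∀ {P : Subgroup Ω} {f : Ω → Ω}, Mor E P f → Mor F P f := fun h =>
    ((mor_centralizerSystem_iff hE).1 h).1
  have hw : D.IsWeaklyNormalIn E p := by
    refine ⟨hD.1.1, hc.1, FusionIso88.invariant_iff.2 ⟨hsub, stronglyClosed_iff.2 ⟨hCW,
      fun P f hP hf x hx => (stronglyClosed_iff.1 hcl).2 P f hP (hmE hf) x hx⟩,
      fun P f hf α hα => hinv P f hf α ((mem_autGroup hCS).2 (hmE ((mem_autGroup hCW).1 hα))),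
      fun P f hP hf => ?_⟩⟩
    obtain ⟨hfF, -, hfW, f', hf', he', hfix'⟩ := (mor_centralizerSystem_iff hE).1 hf
    obtain ⟨a, ha, e, he, hae⟩ := hfr _ f' (sup_le hP fun x hx => hXQ x hx) hf'
    obtain ⟨ψ, hψ, hψe, hψfix⟩ := hfixD he
    have hafix : ∀ x ∈ X, afun a x = x := fun x hx => by
      have h1 : e x = x := by
        rw [← hψe x (Subgroup.mem_sup_right hx), hψfix x (hX hx)]
      have h2 := hae x (Subgroup.mem_sup_right hx)
      rw [h1, hfix' x hx] at h2
      exact h2.symm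
    refine ⟨a, ?_, e, he.restrict_to le_sup_left, fun x hx => by
      rw [← he' x hx, hae x (Subgroup.mem_sup_left hx)]⟩
    refine (mem_autGroup hCW).2 ((mor_centralizerSystem_iff hE).2
      ⟨(mem_autGroup hCS).1 ha, hCW, fun x hx => hCW (afun_mem a hx), afun a, ?_,
        fun _ _ => rfl, hafix⟩)
    rw [sup_eq_left.2 fun x hx => hXQ x hx]
    exact (mem_autGroup hCS).1 ha
  obtain ⟨-, R, hR, hRc⟩ :=
    FusionConstrainedSub.constrained_weaklyNormal (hS.to_le hWS) hc hw
  have hRQ : R ≤ Q := (le_core hR).trans (le_core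
    (FusionComponentExists.core_normal_of_normal hS hD))
  exact hnle fun c hc' => hRQ (hRc.2 R (FusionSysBasic.isConj_refl hRc.1) (mem_centralizerIn.2
    ⟨hc', fun r hr => (mem_centralizerIn.1 hc').2 r (hRQ hr)⟩))

open FusionRealized87 in
/-- If the centralizer system of `ψ X` is constrained, where `ψ` is defined on `N_S(U)`, then so is
the centralizer system of `X` in the normalizer system of `U`. -/
theorem constrained_centralizer_normalizer (hS : IsPGroup p S) {U X : Subgroup Ω}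
    (hU : F.IsFullyNormalized U) (hXU : X ≤ U)
    (hXc : ∀ x ∈ X, ∀ s ∈ normalizerIn S U, cj s x = x)
    {N : FusionSystem (normalizerIn S U)} (hN : F.IsNormalizerSystem U N)
    {E : FusionSystem (centralizerIn (normalizerIn S U) X)} (hE : N.IsCentralizerSystem X E)
    {ψ : Ω → Ω} (hψ : Mor F (normalizerIn S U) ψ) {X' : Subgroup Ω} (hX' : im X ψ = X')
    {C : FusionSystem (centralizerIn S X')} (hC : F.IsCentralizerSystem X' C)
    (hc : C.IsConstrained p) : E.IsConstrained p := by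
  obtain ⟨hCs, R₀, hR₀, hR₀c⟩ := hc
  have hWS : centralizerIn S X' ≤ S := inf_le_left
  haveI := finite_of_le hWS
  have hH : FusionSysModel.Hyp p C R₀ := ⟨hS.to_le hWS, hCs, hR₀, hR₀c⟩
  haveI := FusionSysModel.k0_normal hH
  obtain ⟨G, hGgrp, ι, hM⟩ : ∃ (G : Type u) (_ : Group G) (ι : centralizerIn S X' →* G),
      C.IsModel p G ι :=
    ⟨FusionSysModel.Model hH, inferInstance, FusionSysModel.iota hH, FusionSysModel.isModel hH⟩
  obtain ⟨hGfin, hι, ⟨T, hT⟩, hG⟩ := hM
  haveI := hGfin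
  have hAS : (normalizerIn S U) ≤ S := inf_le_left
  haveI := finite_of_le hAS
  have hUA : U ≤ (normalizerIn S U) := le_normalizerIn hU.1
  have hXA : X ≤ (normalizerIn S U) := hXU.trans hUA
  have hWA : (centralizerIn (normalizerIn S U) X) = (normalizerIn S U) := le_antisymm inf_le_left fun s hs =>
    mem_centralizerIn.2 ⟨hs, fun x hx => hXc x hx s hs⟩
  haveI : Finite (centralizerIn (normalizerIn S U) X) := finite_of_le (inf_le_left.trans hAS)
  -- `ψ` carries `N_S(U)` onto the normalizer of the image of `U`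
  set U' := im U ψ with hU'
  have hUr := hψ.restrict_to hUA
  have hconj : F.IsConj U U' := FusionSysBasic.isConj_iff.2 ⟨ψ, hUr, rfl⟩
  have hAim : im (normalizerIn S U) ψ = normalizerIn S U' :=
    hψ.im_eq_of_le inf_le_left (im_le_iff.2 fun x hx => mor_normalizer_mem hψ hU.1 rfl hx)
      (hU.2 U' hconj)
  have hXfix : ∀ s ∈ (normalizerIn S U), ∀ y ∈ X', cj (ψ s) y = y := by
    intro s hs y hy
    rw [← hX'] at hy
    obtain ⟨x, hx, rfl⟩ := (hψ.restrict_to hXA).mem_im.1 hy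
    rw [← hψ.map_cj hs (hXA hx), hXc x hx s hs]
  have hψW : ∀ s ∈ (normalizerIn S U), ψ s ∈ centralizerIn S X' := fun s hs =>
    mem_centralizerIn.2 ⟨hψ.apply_mem hs, hXfix s hs⟩
  let ι' : (centralizerIn (normalizerIn S U) X) →* G :=
    { toFun := fun w => up ι (ψ w)
      map_one' := by
        rw [OneMemClass.coe_one, hψ.map_one, up_apply ι (one_mem _)]
        exact map_one ι
      map_mul' := fun a b => by
        rw [Subgroup.coe_mul, hψ.map_mul (hWA.le a.2) (hWA.le b.2),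
          up_mul ι (hψW _ (hWA.le a.2)) (hψW _ (hWA.le b.2))] }
  set V : Subgroup G := upS ι U' with hV
  have hU'W : U' ≤ centralizerIn S X' := im_le_iff.2 fun x hx => hψW x (hUA hx)
  have hVp : IsPGroup p V := ((hS.to_le hWS).to_subgroup _).map _
  set H := Subgroup.normalizer (V : Set G) with hHdef
  have hrange : ∀ w : (centralizerIn (normalizerIn S U) X), ι' w ∈ H := by
    intro w
    refine mem_normalizer_iff_im_cj.2 (le_antisymm (im_le_iff.2 fun y hy => ?_) ?_)
    · obtain ⟨z, hz, hzS, rfl⟩ := (mem_upS ι).1 hy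
      show cj (up ι (ψ w)) (up ι z) ∈ V
      rw [← up_cj ι (hψW _ (hWA.le w.2)) hzS]
      exact up_mem_upS ι hU'W (cj_mem_of_normalizer
        (mor_normalizer_mem hψ hU.1 rfl (hWA.le w.2)).2 hz)
    · intro y hy
      refine mem_im_cj.2 ?_
      obtain ⟨z, hz, hzS, rfl⟩ := (mem_upS ι).1 hy
      show cj (up ι (ψ w))⁻¹ (up ι z) ∈ V
      rw [← up_inv ι (hψW _ (hWA.le w.2)), ← up_cj ι (inv_mem (hψW _ (hWA.le w.2))) hzS]
      exact up_mem_upS ι hU'W (cj_mem_of_normalizer
        (inv_mem (mor_normalizer_mem hψ hU.1 rfl (hWA.le w.2)).2) hz)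
  let ιH : (centralizerIn (normalizerIn S U) X) →* H := ι'.codRestrict H hrange
  have hval : ∀ w : (centralizerIn (normalizerIn S U) X), ((ιH w : H) : G) = up ι (ψ w) := fun _ => rfl
  have hinj : Function.Injective ιH := fun a b h => by
    have h1 := up_inj hι (hψW _ (hWA.le a.2)) (hψW _ (hWA.le b.2))
      ((hval a).symm.trans ((congrArg Subtype.val h).trans (hval b)))
    exact Subtype.ext (hψ.injOn (hWA.le a.2) (hWA.le b.2) h1)
  obtain ⟨ψi, hψi, hψiψ, hψψi, hψiA⟩ := hψ.exists_inv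
  refine FusionRealized87.constrained_of_model ιH ⟨inferInstance,
    ⟨hinj, fun P hP φ hφ => ⟨fun hmem => ?_, fun hg => ?_⟩⟩, ?_, ?_⟩
  · -- a map of `E` is a conjugation in `H`
    have hf := mor_toFun hmem
    obtain ⟨-, -, -, f₁, hf₁, he₁, hfix₁⟩ := (mor_centralizerSystem_iff hE).1 hf
    obtain ⟨-, hPXA, -, f, hfF, he, hfU⟩ := (mor_normalizerSystem_iff hN).1 hf₁
    set B := P ⊔ X ⊔ U
    have hBA : B ≤ (normalizerIn S U) := sup_le hPXA hUA
    have hfA : ∀ x ∈ B, f x ∈ (normalizerIn S U) := fun x hx => mor_sup_induction hfF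
      (fun a ha => by rw [he a ha]; exact hf₁.apply_mem ha)
      (fun b hb => hUA (hfU.le (apply_mem_im hb))) hx
    have hBr := hψ.restrict_to hBA
    have hm1 : Mor F (im B ψ) ψi := hψi.restrict_to (im_mono hBA)
    have hm2 : Mor F (im B ψ) (f ∘ ψi) := hm1.comp hfF fun y hy => by
      obtain ⟨x, hx, rfl⟩ := hBr.mem_im.1 hy
      rwa [hψiψ x (hBA hx)]
    have hm3 : Mor F (im B ψ) (ψ ∘ (f ∘ ψi)) := hm2.comp hψ fun y hy => by
      obtain ⟨x, hx, rfl⟩ := hBr.mem_im.1 hy
      simp only [Function.comp_apply, hψiψ x (hBA hx)]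
      exact hfA x hx
    have hX'B : X' ≤ im B ψ := hX' ▸ im_mono (le_sup_right.trans le_sup_left)
    have hmC : Mor C (im B ψ) (ψ ∘ (f ∘ ψi)) := by
      refine (mor_centralizerSystem_iff hC).2 ⟨hm3, im_le_iff.2 fun x hx => hψW x (hBA hx),
        fun y hy => ?_, _, by rwa [sup_eq_left.2 hX'B], fun _ _ => rfl, fun y hy => ?_⟩
      · obtain ⟨x, hx, rfl⟩ := hBr.mem_im.1 hy
        simp only [Function.comp_apply, hψiψ x (hBA hx)]
        exact hψW _ (hfA x hx)
      · rw [← hX'] at hy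
        obtain ⟨x, hx, rfl⟩ := (hψ.restrict_to hXA).mem_im.1 hy
        simp only [Function.comp_apply, hψiψ x (hXA hx)]
        rw [he x (Subgroup.mem_sup_right hx), hfix₁ x hx]
    obtain ⟨g, hg⟩ := ((mor_iff hι).1 hmC).2.2
    have hgx : ∀ x ∈ B, cj g (up ι (ψ x)) = up ι (ψ (f x)) := fun x hx => by
      rw [← hg _ (apply_mem_im hx)]
      simp only [Function.comp_apply, hψiψ x (hBA hx)]
    have hgH : g ∈ H := by
      have hle : im V (cj g) ≤ V := im_le_iff.2 fun y hy => by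
        obtain ⟨z, hz, hzS, rfl⟩ := (mem_upS ι).1 hy
        obtain ⟨x, hx, rfl⟩ := hUr.mem_im.1 hz
        rw [hgx x (Subgroup.mem_sup_right hx)]
        exact up_mem_upS ι hU'W (apply_mem_im (hfU.le (apply_mem_im hx)))
      exact mem_normalizer_iff_im_cj.2 (Subgroup.eq_of_le_of_card_ge hle (FusionSysGroup.card_im_cj V g).ge)
    refine ⟨⟨g, hgH⟩, fun x => Subtype.ext ?_⟩
    show up ι (ψ (φ x)) = cj g (up ι (ψ x))
    rw [hgx x (Subgroup.mem_sup_left (Subgroup.mem_sup_left x.2)),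
      he x (Subgroup.mem_sup_left x.2), he₁ x x.2, toFun_coe]
  · -- a conjugation in `H` gives a map of `E`
    obtain ⟨⟨g, hgH⟩, hg⟩ := hg
    have hgP : ∀ x : P, cj g (up ι (ψ x)) = up ι (ψ (φ x)) := fun x =>
      (congrArg Subtype.val (hg x)).symm
    have hPA : P ≤ (normalizerIn S U) := hP.trans hWA.le
    set B := P ⊔ U
    have hBA : B ≤ (normalizerIn S U) := sup_le hPA hUA
    have hBr := hψ.restrict_to hBA
    have hBW : im B ψ ≤ centralizerIn S X' := im_le_iff.2 fun x hx => hψW x (hBA hx)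
    -- `g` carries the image of `B` into the image of `N_S(U)`
    have hin : ∀ y ∈ im B ψ, ∃ a ∈ (normalizerIn S U), cj g (up ι y) = up ι (ψ a) := by
      have hle : upS ι (im B ψ) ≤ (upS ι (im (normalizerIn S U) ψ)).comap (MulAut.conj g).toMonoidHom := by
        rw [im_sup hBr, upS_sup ι ((im_mono le_sup_left).trans hBW)
          ((im_mono le_sup_right).trans hBW)]
        refine sup_le (fun z hz => ?_) fun z hz => ?_
        · obtain ⟨y, hy, hyS, rfl⟩ := (mem_upS ι).1 hz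
          obtain ⟨x, hx, rfl⟩ := (hψ.restrict_to hPA).mem_im.1 hy
          rw [Subgroup.mem_comap]
          show cj g (up ι (ψ x)) ∈ _
          rw [hgP ⟨x, hx⟩]
          exact (mem_upS ι).2 ⟨_, apply_mem_im (hWA.le (hφ ⟨x, hx⟩)),
            hψW _ (hWA.le (hφ ⟨x, hx⟩)), rfl⟩
        · have h1 : cj g z ∈ V := cj_mem_of_normalizer hgH hz
          obtain ⟨y, hy, hyS, e⟩ := (mem_upS ι).1 h1
          rw [Subgroup.mem_comap]
          show cj g z ∈ _
          exact (mem_upS ι).2 ⟨y, im_mono hUA hy, hyS, e⟩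
      intro y hy
      obtain ⟨z, hz, hzS, e⟩ := (mem_upS ι).1 (hle (up_mem_upS ι hBW hy))
      obtain ⟨a, ha, rfl⟩ := hψ.mem_im.1 hz
      exact ⟨a, ha, e.symm⟩
    have hinr : ∀ y ∈ im B ψ, cj g (up ι y) ∈ ι.range := fun y hy => by
      obtain ⟨a, ha, e⟩ := hin y hy
      exact e ▸ up_mem_range ι (hψW a ha)
    have hh := ((mor_centralizerSystem_iff hC).1 (mor_of_conj hι hBW hinr))
    obtain ⟨hhF, -, -, h', hh', hhe, hhfix⟩ := hh
    set h := fun y => down ι (cj g (up ι y)) with hhdef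
    have hha : ∀ y ∈ im B ψ, ∃ a ∈ (normalizerIn S U), h y = ψ a := fun y hy => by
      obtain ⟨a, ha, e⟩ := hin y hy
      exact ⟨a, ha, by simp only [hhdef, e, down_up hι (hψW a ha)]⟩
    have hX'B : X' ≤ im B ψ := hX' ▸ im_mono (hXU.trans le_sup_right)
    have hm1 : Mor F B (h ∘ ψ) := hBr.comp hhF fun x hx => apply_mem_im hx
    have hm2 : Mor F B (ψi ∘ (h ∘ ψ)) := hm1.comp hψi fun x hx => by
      obtain ⟨a, ha, e⟩ := hha _ (apply_mem_im hx)
      rw [Function.comp_apply, e]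
      exact apply_mem_im ha
    set f := ψi ∘ (h ∘ ψ) with hfdef
    have hfA : ∀ x ∈ B, f x ∈ (normalizerIn S U) := fun x hx => by
      obtain ⟨a, ha, e⟩ := hha _ (apply_mem_im hx)
      simp only [hfdef, Function.comp_apply, e, hψiψ a ha]
      exact ha
    have hfU : im U f = U := (hm2.restrict_to le_sup_right).im_self fun x hx => by
      obtain ⟨y, hy, hyS, e⟩ := (mem_upS ι).1
        (cj_mem_of_normalizer hgH (up_mem_upS ι hU'W (apply_mem_im (f := ψ) hx)) : _ ∈ V)
      obtain ⟨a, ha, rfl⟩ := hUr.mem_im.1 hy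
      simp only [hfdef, hhdef, Function.comp_apply, ← e, down_up hι hyS, hψiψ a (hUA ha)]
      exact ha
    have hfX : ∀ x ∈ X, f x = x := fun x hx => by
      have hy : ψ x ∈ X' := hX' ▸ apply_mem_im hx
      show ψi (h (ψ x)) = x
      have h2 : h (ψ x) = ψ x := (hhe _ (hX'B hy)).symm.trans (hhfix _ hy)
      rw [h2, hψiψ x (hXA hx)]
    have hfP : ∀ x : P, f x = φ x := fun x => by
      simp only [hfdef, hhdef, Function.comp_apply, hgP x,
        down_up hι (hψW _ (hWA.le (hφ x))), hψiψ _ (hWA.le (hφ x))]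
    have hPX : P ⊔ X ≤ B := sup_le le_sup_left (hXU.trans le_sup_right)
    have hNm : ∀ {P₁ : Subgroup Ω}, P₁ ≤ B → Mor N P₁ f := fun {P₁} hP₁ =>
      (mor_normalizerSystem_iff hN).2 ⟨hm2.restrict_to hP₁, hP₁.trans hBA,
        fun x hx => hfA x (hP₁ hx), f, hm2.restrict_to (sup_le hP₁ le_sup_right),
        fun _ _ => rfl, hfU⟩
    refine (mor_iff_hom fun x => (hfP x).symm).1 ((mor_centralizerSystem_iff hE).2
      ⟨hNm le_sup_left, hP, fun x hx => (hfP ⟨x, hx⟩).symm ▸ hφ ⟨x, hx⟩, f, hNm hPX,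
        fun _ _ => rfl, hfX⟩)
  · -- the Sylow property
    have hVA : ∀ {x : Ω}, x ∈ U → ∀ (h : x ∈ (centralizerIn (normalizerIn S U) X)), ((ιH ⟨x, h⟩ : H) : G) ∈ V := fun {x} hx h =>
      up_mem_upS ι hU'W (apply_mem_im (f := ψ) hx)
    have hWp : IsPGroup p (centralizerIn (normalizerIn S U) X) := hS.to_le (inf_le_left.trans hAS)
    have hrp : IsPGroup p ιH.range := by
      rw [MonoidHom.range_eq_map]
      exact (hWp.to_subgroup ⊤).map ιH |>.to_le (Subgroup.map_mono le_rfl)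
    obtain ⟨K, hK⟩ := hrp.exists_le_sylow
    refine ⟨K, (Subgroup.eq_of_le_of_card_ge hK ?_).symm⟩
    set K' : Subgroup G := (K : Subgroup H).map H.subtype
    have hK'p : IsPGroup p K' := K.2.map _
    obtain ⟨T', hT'⟩ := hK'p.exists_le_sylow
    obtain ⟨g, hg⟩ := MulAction.exists_smul_eq G T' T
    have hgT : ∀ y ∈ K', cj g y ∈ ι.range := fun y hy => by
      rw [← hT, ← hg]
      exact ⟨y, hT' hy, rfl⟩
    have hVK : V ≤ K' := fun y hy => by
      obtain ⟨z, hz, -, rfl⟩ := (mem_upS ι).1 hy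
      obtain ⟨x, hx, rfl⟩ := hUr.mem_im.1 hz
      exact ⟨_, hK ⟨⟨x, hWA.ge (hUA hx)⟩, rfl⟩, rfl⟩
    have hKn : K' ≤ H := Subgroup.map_subtype_le _
    set U'' := downS ι (im V (cj g)) with hU''
    have hVr : im V (cj g) ≤ ι.range := im_le_iff.2 fun y hy => hgT y (hVK hy)
    have hU''up : upS ι U'' = im V (cj g) := upS_downS ι hVr
    have hU''W : U'' ≤ centralizerIn S X' := downS_le ι _
    have hconjC : C.IsConj U' U'' := (isConj_iff_up hι).2 ⟨hU'W, hU''W, g, hU''up.symm⟩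
    have hconjF : F.IsConj U U'' := by
      obtain ⟨k, hk, hkU⟩ := FusionSysBasic.isConj_iff.1 hconjC
      exact isConj_trans hconj
        (FusionSysBasic.isConj_iff.2 ⟨k, ((mor_centralizerSystem_iff hC).1 hk).1, hkU⟩)
    have hK''r : im K' (cj g) ≤ ι.range := im_le_iff.2 hgT
    set K'' := downS ι (im K' (cj g))
    have hK''n : K'' ≤ normalizerIn S U'' := fun k hk => by
      obtain ⟨hkW, hkup⟩ := (mem_downS ι).1 hk
      refine ⟨hkW.1, mem_normalizer_of_cj_le (hU''W.trans hWS) fun y hy => ?_⟩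
      obtain ⟨hyW, hyup⟩ := (mem_downS ι).1 hy
      refine (mem_downS ι).2 ⟨mul_mem (mul_mem hkW hyW) (inv_mem hkW), ?_⟩
      rw [up_cj ι hkW hyW]
      rw [mem_im_cj] at hkup hyup ⊢
      have hn := cj_mem_of_normalizer (hKn hkup) hyup
      convert hn using 1
      simp [cj_apply, mul_assoc]
    calc Nat.card K = Nat.card K' := (Subgroup.card_map_of_injective H.subtype_injective).symm
      _ = Nat.card (upS ι K'') := by rw [upS_downS ι hK''r, FusionSysGroup.card_im_cj]
      _ = Nat.card K'' := (Nat.card_congr (upEquiv hι (downS_le ι _)).toEquiv).symm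
      _ ≤ Nat.card (normalizerIn S U'') :=
        haveI := finite_of_le (S := S) (P := normalizerIn S U'') inf_le_left
        Subgroup.card_le_of_le hK''n
      _ ≤ Nat.card (normalizerIn S U) := hU.2 U'' hconjF
      _ = Nat.card ιH.range := by
        rw [← Nat.card_congr (MonoidHom.ofInjective hinj).toEquiv, hWA]
  · exact CharPLocal.hasCharP_normalizer_of_centralizer V hVp
      (CharPLocal.hasCharP_centralizer hG V hVp)

end Cfsg.Agent.FusionLocalComponent
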