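import Cfsg.Agent.Lib.FusionMeetSat
import Cfsg.Agent.Lib.FusionConstrained88

/-!
`E` normal in `F` over `T`, `Q` centric in `F`. The part of `Aut_F(Q)` belonging to `E` is defined
by recursion (`InA`): when `Q ⊓ T` is centric relative to `T` it is generated by `Aut_T(Q)` and the
automorphisms of order prime to `p` trivial modulo `T` and in `E` on `Q ⊓ T`; otherwise its
elements are the restrictions from `Q N_{C_T(Q ⊓ T)}(Q)`, at a good representative (`Rep`).
-/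

set_option autoImplicit false

namespace Cfsg.Agent.FusionLocalPart

open Cfsg Cfsg.FusionSystem Cfsg.Agent.FusionSysBasic Cfsg.Agent.FusionSysSaturated
open Cfsg.Agent.FusionSysNormal Cfsg.Agent.FusionKit88 Cfsg.Agent.FusionSysNormalizer
open scoped Pointwise

variable {Ω : Type*} [Group Ω] {S T : Subgroup Ω} {F : FusionSystem S} {E : FusionSystem T}
  {p : ℕ}

/-- A centric subgroup fully normalized together with its part in `T`. -/
def Rep (F : FusionSystem S) (T Q : Subgroup Ω) : Prop :=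
  F.IsFullyNormalized Q ∧ F.IsFullyNormalized (Q ⊓ T) ∧ F.IsCentric Q

/-- The part of `Q` in `T` is centric relative to `T`. -/
def TCq (F : FusionSystem S) (T Q : Subgroup Ω) : Prop :=
  ∀ R, F.IsConj (Q ⊓ T) R → centralizerIn T R ≤ R

/-- The next subgroup. -/
def upq (T Q : Subgroup Ω) : Subgroup Ω :=
  Q ⊔ (centralizerIn T (Q ⊓ T) ⊓ Subgroup.normalizer (Q : Set Ω))

theorem le_upq (Q : Subgroup Ω) : Q ≤ upq T Q := le_sup_left

theorem mem_upq {Q : Subgroup Ω} {x : Ω} (hx : x ∈ Q) : x ∈ upq T Q := le_upq Q hx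

/-- The automorphisms of `Q` trivial modulo `T` and lying in `E` on `Q ⊓ T`. -/
def bst (F : FusionSystem S) (E : FusionSystem T) (Q : Subgroup Ω) : Subgroup (MulAut Q) where
  carrier := {a | a ∈ F.autGroup Q ∧ (∀ x ∈ Q, x⁻¹ * afun a x ∈ T) ∧
    ∃ e ∈ E.autGroup (Q ⊓ T), ∀ x ∈ Q ⊓ T, afun a x = afun e x}
  one_mem' := ⟨one_mem _, fun x hx => by rw [afun_one hx, inv_mul_cancel]; exact T.one_mem,
    1, one_mem _, fun x hx => by rw [afun_one hx.1, afun_one hx]⟩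
  mul_mem' := by
    rintro a b ⟨ha, ha', e, he, hee⟩ ⟨hb, hb', d, hd, hde⟩
    refine ⟨mul_mem ha hb, fun x hx => ?_, e * d, mul_mem he hd, fun x hx => ?_⟩
    · rw [afun_mul _ _ hx]
      have := T.mul_mem (hb' x hx) (ha' _ (afun_mem b hx))
      simpa [mul_assoc] using this
    · rw [afun_mul _ _ hx.1, afun_mul _ _ hx, hde x hx, hee _ (afun_mem d hx)]
  inv_mem' := by
    rintro a ⟨ha, ha', e, he, hee⟩
    refine ⟨inv_mem ha, fun x hx => ?_, e⁻¹, inv_mem he, fun x hx => ?_⟩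
    · have := T.inv_mem (ha' _ (afun_mem a⁻¹ hx))
      rw [afun_apply_inv a hx] at this
      simpa using this
    · conv_lhs => rw [← afun_apply_inv e hx, ← hee _ (afun_mem e⁻¹ hx)]
      exact afun_inv_apply a (afun_mem e⁻¹ hx).1

/-- The part belonging to `E` when `Q ⊓ T` is centric relative to `T`. -/
def baseG (F : FusionSystem S) (E : FusionSystem T) (p : ℕ) (Q : Subgroup Ω) :
    Subgroup (MulAut Q) :=
  Subgroup.closure {a | a ∈ bst F E Q ∧ (orderOf a).Coprime p} ⊔ autInducedBy T Q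

/-- The part of `Aut_F(Q)` belonging to `E`. -/
inductive InA (F : FusionSystem S) (E : FusionSystem T) (p : ℕ) :
    (Q : Subgroup Ω) → MulAut Q → Prop
  | base {Q Q' : Subgroup Ω} {θ : Ω → Ω} {a : MulAut Q} (hθ : Mor F Q θ) (him : im Q θ = Q')
      (hr : Rep F T Q') (hc : TCq F T Q') (ha : hθ.transport him a ∈ baseG F E p Q') : InA F E p Q a
  | step {Q Q' : Subgroup Ω} {θ : Ω → Ω} {a : MulAut Q} (hθ : Mor F Q θ) (him : im Q θ = Q')
      (hr : Rep F T Q') (hc : ¬ TCq F T Q') (b : MulAut (upq T Q')) (hb : InA F E p (upq T Q') b)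
      (he : ∀ x ∈ Q', afun b x = afun (hθ.transport him a) x) : InA F E p Q a

/-- The hypotheses. -/
structure Ctx (F : FusionSystem S) (E : FusionSystem T) (p : ℕ) : Prop where
  pgrp : IsPGroup p S
  sat : F.IsSaturated p
  nE : E.IsNormalIn F p

section Transport

theorem mor_conj_eq {Q : Subgroup Ω} {a : MulAut Q} (hm : Mor F Q (afun a)) (b : MulAut Q) :
    hm.transport (im_afun a) b = a * b * a⁻¹ := by
  refine afun_ext fun y hy => ?_
  obtain ⟨x, hx, rfl⟩ : ∃ x ∈ Q, afun a x = y :=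
    ⟨afun a⁻¹ y, afun_mem _ hy, afun_apply_inv a hy⟩
  rw [hm.afun_transport (im_afun a) b hx, afun_mul _ _ (afun_mem a hx),
    afun_inv_apply a hx, afun_mul _ _ hx]

/-- Transports depend only on the map on the source. -/
theorem transport_congr {Q Q' : Subgroup Ω} {f g : Ω → Ω} (hf : Mor F Q f) (hfQ : im Q f = Q')
    (hg : Mor F Q g) (hgQ : im Q g = Q') (he : ∀ x ∈ Q, f x = g x) (a : MulAut Q) :
    hf.transport hfQ a = hg.transport hgQ a := by
  refine afun_ext fun y hy => ?_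
  obtain ⟨x, hx, rfl⟩ := hf.mem_im.1 (hfQ.symm ▸ hy)
  conv_rhs => rw [he x hx, hg.afun_transport hgQ a hx]
  rw [hf.afun_transport hfQ a hx, he _ (afun_mem a hx)]

/-- The transport of a composite. -/
theorem transport_comp {Q Q' Q'' : Subgroup Ω} {f g : Ω → Ω} (hf : Mor F Q f)
    (hfQ : im Q f = Q') (hg : Mor F Q' g) (hgQ : im Q' g = Q'') (hgf : Mor F Q (g ∘ f))
    (hgfQ : im Q (g ∘ f) = Q'') (a : MulAut Q) :
    hg.transport hgQ (hf.transport hfQ a) = hgf.transport hgfQ a := by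
  refine afun_ext fun y hy => ?_
  obtain ⟨x, hx, rfl⟩ := hgf.mem_im.1 (hgfQ.symm ▸ hy)
  conv_rhs => rw [hgf.afun_transport hgfQ a hx]
  simp only [Function.comp_apply]
  rw [hg.afun_transport hgQ _ (hfQ ▸ apply_mem_im hx), hf.afun_transport hfQ a hx]

/-- Transports along a map and its inverse cancel. -/
theorem transport_inv {Q Q' : Subgroup Ω} {f g : Ω → Ω} (hf : Mor F Q f) (hfQ : im Q f = Q')
    (hg : Mor F Q' g) (hgQ : im Q' g = Q) (he : ∀ x ∈ Q, g (f x) = x) (a : MulAut Q) :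
    hg.transport hgQ (hf.transport hfQ a) = a := by
  refine afun_ext fun x hx => ?_
  conv_lhs => rw [← he x hx]
  rw [hg.afun_transport hgQ _ (hfQ ▸ apply_mem_im hx), hf.afun_transport hfQ a hx,
    he _ (afun_mem a hx)]

variable [Finite S]

/-- A map carries the part in a strongly closed subgroup onto that of the image. -/
theorem im_inf {Q Q' : Subgroup Ω} (hT : F.StronglyClosed T) {f : Ω → Ω} (hf : Mor F Q f)
    (hfQ : im Q f = Q') : im (Q ⊓ T) f = Q' ⊓ T := by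
  obtain ⟨g, hg, hgf, hfg, hgQ⟩ := hf.exists_inv
  refine le_antisymm (im_le_iff.2 fun x hx => ⟨hfQ ▸ apply_mem_im hx.1,
    closed_apply' hT hf hx.1 hx.2⟩) fun y hy => ?_
  obtain ⟨x, hx, rfl⟩ := hf.mem_im.1 (hfQ.symm ▸ hy.1)
  refine apply_mem_im ⟨hx, ?_⟩
  rw [← hgf x hx]
  exact closed_apply' hT hg (apply_mem_im hx) hy.2

theorem tcq_conj {Q Q' : Subgroup Ω} (hT : F.StronglyClosed T) {f : Ω → Ω} (hf : Mor F Q f)
    (hfQ : im Q f = Q') (hQ : TCq F T Q) : TCq F T Q' := fun R hR =>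
  hQ R (isConj_trans (FusionSysBasic.isConj_iff.2
    ⟨f, hf.restrict_to inf_le_left, im_inf hT hf hfQ⟩) hR)

end Transport

namespace Ctx

variable (h : Ctx F E p)
include h

theorem closed : F.StronglyClosed T := h.nE.1.2.2.2.1

theorem T_le : T ≤ S := h.closed.1

theorem inv : E.IsInvariantIn F := h.nE.1.2.2

variable [Finite S]

theorem bst_transport {Q Q' : Subgroup Ω} {f : Ω → Ω} (hf : Mor F Q f) (hfQ : im Q f = Q')
    {a : MulAut Q} (ha : a ∈ bst F E Q) : hf.transport hfQ a ∈ bst F E Q' := by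
  obtain ⟨ha, ha', e, he, hee⟩ := ha
  have h0 := hf.restrict_to (inf_le_left : Q ⊓ T ≤ Q)
  have him := im_inf h.closed hf hfQ
  refine ⟨hf.transport_mem hfQ ha, fun y hy => ?_, h0.transport him e,
    FusionWeaklyNormal88.aut_transport h.inv inf_le_right h0 him he, fun y hy => ?_⟩
  · obtain ⟨x, hx, rfl⟩ := hf.mem_im.1 (hfQ.symm ▸ hy)
    rw [hf.afun_transport hfQ a hx, ← hf.map_inv hx, ← hf.map_mul (Q.inv_mem hx) (afun_mem a hx)]
    exact closed_apply' h.closed hf (Q.mul_mem (Q.inv_mem hx) (afun_mem a hx)) (ha' x hx)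
  · obtain ⟨x, hx, rfl⟩ := h0.mem_im.1 (him.symm ▸ hy)
    rw [hf.afun_transport hfQ a hx.1, h0.afun_transport him e hx, hee x hx]

theorem autT_le_bst {Q : Subgroup Ω} (hQ : Q ≤ S) : autInducedBy T Q ≤ bst F E Q := by
  intro a ha
  obtain ⟨t, ht, htn, hte⟩ := mem_autInducedBy.1 ha
  have hm := mor_cj (F := F) hQ (h.T_le ht)
  have htn' : ∀ x ∈ Q, cj t x ∈ Q := fun x hx => cj_mem_of_normalizer htn hx
  refine ⟨mem_autGroup_of_mor (hm.congr fun x hx => (hte x hx).symm), fun x hx => ?_, ?_⟩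
  · rw [hte x hx]
    have h1 : cj x⁻¹ t * t⁻¹ ∈ T :=
      T.mul_mem (cj_mem_of_stronglyClosed h.closed (S.inv_mem (hQ hx)) ht) (T.inv_mem ht)
    convert h1 using 1
    simp [cj_apply, mul_assoc]
  · have hm0 := mor_cj (F := E) (inf_le_right : Q ⊓ T ≤ T) ht
    haveI := finite_of_le h.T_le
    obtain ⟨e, he, hee⟩ := hm0.exists_aut (hm0.im_self fun x hx =>
      ⟨htn' x hx.1, T.mul_mem (T.mul_mem ht hx.2) (T.inv_mem ht)⟩)
    exact ⟨e, he, fun x hx => by rw [hte x hx.1, hee x hx]⟩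

theorem bst_conj {Q : Subgroup Ω} (hQ : Q ≤ S) {a b : MulAut Q} (ha : a ∈ F.autGroup Q)
    (hb : b ∈ bst F E Q) : a * b * a⁻¹ ∈ bst F E Q :=
  mor_conj_eq ((mem_autGroup hQ).1 ha) b ▸ h.bst_transport _ _ hb

theorem baseG_le_bst {Q : Subgroup Ω} (hQ : Q ≤ S) : baseG F E p Q ≤ bst F E Q :=
  sup_le ((Subgroup.closure_le _).2 fun _ ha => ha.1) (h.autT_le_bst hQ)

/-- The next subgroup is carried into the next subgroup. -/
theorem upq_map {Q Q' : Subgroup Ω} {f : Ω → Ω} (hf : Mor F (upq T Q) f)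
    (hfQ : im Q f = Q') : im (upq T Q) f ≤ upq T Q' := by
  refine im_le_iff.2 fun x hx => mor_sup_induction hf
    (fun y hy => Subgroup.mem_sup_left (hfQ ▸ apply_mem_im hy)) (fun t ht => ?_) hx
  have htU : t ∈ upq T Q := Subgroup.mem_sup_right ht
  refine Subgroup.mem_sup_right ⟨mem_centralizerIn.2 ⟨closed_apply' h.closed hf htU ht.1.1, ?_⟩,
    hfQ ▸ FusionWeaklyNormal88.apply_normalizes hf le_sup_left htU ht.2⟩
  intro y hy
  have h0 := hf.restrict_to (le_sup_left : Q ≤ upq T Q)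
  obtain ⟨z, hz, rfl⟩ := (h0.restrict_to inf_le_left).mem_im.1 ((im_inf h.closed h0 hfQ).symm ▸ hy)
  rw [← hf.map_cj htU (Subgroup.mem_sup_left hz.1), (mem_centralizerIn.1 ht.1).2 z hz]

omit [Finite S] in
theorem upq_le {Q : Subgroup Ω} (hQ : Q ≤ S) : upq T Q ≤ normalizerIn S Q :=
  sup_le (le_normalizerIn hQ) fun _ ht => ⟨h.T_le ht.1.1, ht.2⟩

variable [Fact p.Prime]

theorem normalizer_le_inf {Q : Subgroup Ω} (hQ : Q ≤ S) :
    normalizerIn S Q ≤ normalizerIn S (Q ⊓ T) := fun g hg =>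
  ⟨hg.1, mem_normalizer_of_cj_le (inf_le_left.trans hQ) fun x hx =>
    ⟨cj_mem_of_normalizer hg.2 hx.1, cj_mem_of_stronglyClosed h.closed hg.1 hx.2⟩⟩

/-- Every centric subgroup has a good representative, reached with its normalizer. -/
theorem exists_rep {Q : Subgroup Ω} (hQ : F.IsCentric Q) :
    ∃ Q' θ, Rep F T Q' ∧ Mor F (normalizerIn S Q) θ ∧ im Q θ = Q' ∧
      ∀ g ∈ normalizerIn S Q, θ g ∈ normalizerIn S Q' := by
  have hQS := hQ.1
  obtain ⟨Q1, hQQ1, hQ1⟩ := FusionSysSaturated.exists_fullyNormalized (F := F) hQS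
  obtain ⟨θ1, hθ1, hθ1N, hθ1Q⟩ := exists_map_to_fullyNormalized h.pgrp h.sat hQ1 hQQ1
  obtain ⟨R, hR1, hR⟩ := FusionSysSaturated.exists_fullyNormalized (F := F)
    (inf_le_left.trans hQ1.1 : Q1 ⊓ T ≤ S)
  obtain ⟨θ2, hθ2, -, hθ2R⟩ := exists_map_to_fullyNormalized h.pgrp h.sat hR hR1
  have hθ2' := hθ2.restrict_to (h.normalizer_le_inf hQ1.1)
  have hθ2Q := hθ2'.restrict_to (le_normalizerIn hQ1.1)
  have hc : F.IsConj Q1 (im Q1 θ2) := FusionSysBasic.isConj_iff.2 ⟨θ2, hθ2Q, rfl⟩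
  have hN2 : ∀ g ∈ normalizerIn S Q1, θ2 g ∈ normalizerIn S (im Q1 θ2) := fun g hg =>
    ⟨hθ2'.apply_mem hg,
      FusionWeaklyNormal88.apply_normalizes hθ2' (le_normalizerIn hQ1.1) hg hg.2⟩
  have hn : F.IsFullyNormalized (im Q1 θ2) := ⟨hθ2Q.im_le, fun P hP =>
    (hQ1.2 P (isConj_trans hc hP)).trans (card_le_of_mor hθ2' inf_le_left hN2)⟩
  have hf : Mor F (normalizerIn S Q) (θ2 ∘ θ1) := hθ1.comp hθ2' hθ1N
  refine ⟨im Q1 θ2, θ2 ∘ θ1, ⟨hn, ?_, FusCentric.centric_conj (FusCentric.centric_conj hQ hQQ1) hc⟩,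
    hf, ?_, fun g hg => hN2 _ (hθ1N g hg)⟩
  · rw [← im_inf h.closed hθ2Q rfl, hθ2R]
    exact hR
  · rw [← (hθ1.restrict_to (le_normalizerIn hQS)).im_comp, hθ1Q]

/-- Two representatives of one class are linked by a map of the normalizers. -/
theorem exists_link {Q Q' : Subgroup Ω} (hr : Rep F T Q) (hr' : Rep F T Q')
    (hc : F.IsConj Q Q') :
    ∃ γ, Mor F (normalizerIn S Q) γ ∧ im Q γ = Q' ∧
      im (normalizerIn S Q) γ = normalizerIn S Q' ∧ im (upq T Q) γ = upq T Q' := by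
  obtain ⟨γ, hγ, hγN, hγQ⟩ := exists_map_to_fullyNormalized h.pgrp h.sat hr'.1 hc
  have hN : im (normalizerIn S Q) γ = normalizerIn S Q' :=
    eq_of_le_of_card_ge inf_le_left (im_le_iff.2 hγN)
      (by rw [hγ.card_im]; exact hr.1.2 _ hc)
  refine ⟨γ, hγ, hγQ, hN, le_antisymm (h.upq_map (hγ.restrict_to (h.upq_le hr.1.1)) hγQ) ?_⟩
  obtain ⟨i, hi, hiγ, hγi, -⟩ := hγ.exists_inv
  rw [hN] at hi hγi
  have hi' := hi.restrict_to (h.upq_le hr'.1.1)
  have hiQ : im Q' i = Q := by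
    rw [← hγQ, (hγ.restrict_to (le_normalizerIn hr.1.1)).im_comp]
    exact (im_congr fun x hx => hiγ x (le_normalizerIn hr.1.1 hx)).trans (im_id Q)
  intro y hy
  have := h.upq_map hi' hiQ (apply_mem_im hy)
  rw [← hγi y (h.upq_le hr'.1.1 hy)]
  exact apply_mem_im this

/-- The automorphisms trivial on `Q ⊓ T` and modulo `T` form a `p`-group. -/
theorem kerQ_pGroup {Q : Subgroup Ω} (hQ : Q ≤ S) {a : MulAut Q}
    (hfix : ∀ x ∈ Q ⊓ T, afun a x = x) (htriv : ∀ x ∈ Q, x⁻¹ * afun a x ∈ T) :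
    ∃ k : ℕ, a ^ p ^ k = 1 := by
  haveI := finite_of_le hQ
  refine pow_eq_one_of_stabilizes (h.pgrp.to_le hQ) (n := 2)
    (fun i => if i = 0 then ⊥ else if i = 1 then Q ⊓ T else Q) rfl rfl
    (fun i => by split_ifs <;> simp) (fun i hi => by interval_cases i <;> simp) fun i hi y hy => ?_
  interval_cases i
  · simp only [zero_add, if_neg one_ne_zero, if_pos rfl] at hy
    simp [hfix y hy]
  · simp only [if_neg one_ne_zero, if_pos rfl]
    simp only [show (1 + 1 = 0) = False by simp, show (1 + 1 = 1) = False by simp, if_false] at hy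
    exact ⟨Q.mul_mem (Q.inv_mem hy) (afun_mem _ hy), htriv y hy⟩

/-- The automorphisms trivial on `Q ⊓ T` and modulo `T`. -/
theorem exists_kerQ {Q : Subgroup Ω} (hQ : F.IsFullyNormalized Q) :
    ∃ K : Subgroup (MulAut Q),
      (∀ a, a ∈ K ↔ a ∈ F.autGroup Q ∧ (∀ x ∈ Q ⊓ T, afun a x = x) ∧
        ∀ x ∈ Q, x⁻¹ * afun a x ∈ T) ∧
      K ≤ autInducedBy S Q ∧ ∀ a ∈ F.autGroup Q, ∀ k ∈ K, a * k * a⁻¹ ∈ K := by
  have hQS := hQ.1
  let K : Subgroup (MulAut Q) :=
    { carrier := {a | a ∈ F.autGroup Q ∧ (∀ x ∈ Q ⊓ T, afun a x = x) ∧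
        ∀ x ∈ Q, x⁻¹ * afun a x ∈ T}
      one_mem' := ⟨one_mem _, fun x hx => afun_one hx.1,
        fun x hx => by rw [afun_one hx, inv_mul_cancel]; exact T.one_mem⟩
      mul_mem' := fun {a b} ⟨ha, ha', ha''⟩ ⟨hb, hb', hb''⟩ => ⟨mul_mem ha hb,
        fun x hx => by rw [afun_mul _ _ hx.1, hb' x hx, ha' x hx],
        fun x hx => by
          rw [afun_mul _ _ hx]
          have := T.mul_mem (hb'' x hx) (ha'' _ (afun_mem b hx))
          simpa [mul_assoc] using this⟩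
      inv_mem' := fun {a} ⟨ha, ha', ha''⟩ => ⟨inv_mem ha,
        fun x hx => by
          conv_lhs => rw [← ha' x hx]
          exact afun_inv_apply a hx.1,
        fun x hx => by
          have := T.inv_mem (ha'' _ (afun_mem a⁻¹ hx))
          rw [afun_apply_inv a hx] at this
          simpa using this⟩ }
  have hn : ∀ a ∈ F.autGroup Q, ∀ k ∈ K, a * k * a⁻¹ ∈ K := by
    rintro a ha k ⟨hk, hk', hk''⟩
    have hm := (mem_autGroup hQS).1 ha
    have hi := (mem_autGroup hQS).1 (inv_mem ha)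
    refine ⟨mul_mem (mul_mem ha hk) (inv_mem ha), fun x hx => ?_, fun x hx => ?_⟩
    · have h1 : afun a⁻¹ x ∈ Q ⊓ T := ⟨afun_mem _ hx.1, closed_apply' h.closed hi hx.1 hx.2⟩
      rw [afun_mul _ _ hx.1, afun_mul _ _ h1.1, hk' _ h1, afun_apply_inv a hx.1]
    · have hy := afun_mem a⁻¹ hx
      have h1 := closed_apply' h.closed hm (Q.mul_mem (Q.inv_mem hy) (afun_mem k hy)) (hk'' _ hy)
      rw [hm.map_mul (Q.inv_mem hy) (afun_mem k hy), hm.map_inv hy, afun_apply_inv a hx] at h1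
      rw [afun_mul _ _ hx, afun_mul _ _ hy]
      exact h1
  refine ⟨K, fun a => Iff.rfl, ?_, hn⟩
  refine FusionCentralLift.le_autInducedBy_of_normal
    (fullyAutomized_of_fullyNormalized h.pgrp h.sat hQ) (fun a ha => ha.1) ?_ hn
  exact fun a => by
    obtain ⟨k, hk⟩ := h.kerQ_pGroup hQS a.2.2.1 a.2.2.2
    exact ⟨k, Subtype.ext (by simpa using hk)⟩

/-- Automorphisms of a fully normalized subgroup extend to the next one. -/
theorem exists_ext_upq {Q : Subgroup Ω} (hQ : F.IsFullyNormalized Q) {a : MulAut Q}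
    (ha : a ∈ F.autGroup Q) :
    ∃ b ∈ F.autGroup (upq T Q), ∀ x ∈ Q, afun b x = afun a x := by
  obtain ⟨K, hK, hKS, hKn⟩ := h.exists_kerQ hQ
  have hQS := hQ.1
  have hU := h.upq_le hQS
  obtain ⟨f, hf, hfe⟩ := (receptive_iff.1 (receptive_of_fullyNormalized h.pgrp h.sat hQ)).2 Q _
    (centralizerIn T (Q ⊓ T) ⊓ Subgroup.normalizer (Q : Set Ω)) ((mem_autGroup hQS).1 ha)
    (im_afun a) (fun t ht => h.T_le ht.1.1) inf_le_right (by
      intro t ht
      have hl : nHom T Q ⟨t, ht.1.1, ht.2⟩ ∈ K := by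
        have hb := h.autT_le_bst hQS
          (mem_autInducedBy.2 ⟨t, ht.1.1, ht.2, fun x hx =>
            afun_nHom (⟨t, ht.1.1, ht.2⟩ : ↥(T ⊓ Subgroup.normalizer (Q : Set Ω))) hx⟩)
        exact (hK _).2 ⟨hb.1, fun x hx => by
          rw [afun_nHom _ hx.1, (mem_centralizerIn.1 ht.1).2 x hx], hb.2.1⟩
      obtain ⟨k, hk, hkn, hke⟩ := mem_autInducedBy.1 (hKS (hKn a ha _ hl))
      refine ⟨k, hk, fun x hx => ?_⟩
      rw [← hke _ (afun_mem a hx), afun_mul _ _ (afun_mem a hx), afun_inv_apply a hx,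
        afun_mul _ _ hx, afun_nHom _ hx])
  · have hfQ : im Q f = Q := (im_congr hfe).trans (im_afun a)
    obtain ⟨b, hb, hbe⟩ := hf.exists_aut (hf.im_self fun x hx =>
      h.upq_map hf hfQ (apply_mem_im hx))
    exact ⟨b, hb, fun x hx => (hbe x (Subgroup.mem_sup_left hx)).trans (hfe x hx)⟩

/-- The next subgroup is larger when the part in `T` is not centric relative to `T`. -/
theorem card_lt_upq {Q : Subgroup Ω} (hr : Rep F T Q) (hc : ¬ TCq F T Q) :
    Nat.card Q < Nat.card (upq T Q) := by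
  have hQS := hr.1.1
  have hU := (h.upq_le hQS).trans inf_le_left
  haveI := finite_of_le hU
  refine Set.Finite.card_lt_card (Set.toFinite _) (lt_of_le_of_ne (le_sup_left : Q ≤ upq T Q) fun e => ?_)
  -- the centralizer of the part in `T` is too large
  simp only [TCq, not_forall] at hc
  obtain ⟨R, hR, hRn⟩ := hc
  obtain ⟨c, hc, hcR⟩ := SetLike.not_le_iff_exists.1 hRn
  obtain ⟨θ, hθ, -, hθR⟩ :=
    exists_map_to_fullyNormalized h.pgrp h.sat hr.2.1 (isConj_symm hR)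
  have hRS := isConj_right_le hR
  have hcN : c ∈ normalizerIn S R :=
    centralizerIn_le_normalizerIn ⟨h.T_le hc.1, hc.2⟩
  have hθc : θ c ∈ centralizerIn T (Q ⊓ T) := mem_centralizerIn.2
    ⟨closed_apply' h.closed hθ hcN hc.1, fun y hy => by
      obtain ⟨x, hx, rfl⟩ := (hθ.restrict_to (le_normalizerIn hRS)).mem_im.1 (hθR.symm ▸ hy)
      rw [← hθ.map_cj hcN (le_normalizerIn hRS hx), (mem_centralizerIn.1 hc).2 x hx]⟩
  have hθQ : θ c ∉ Q := fun hQ => by
    have h1 : θ c ∈ Q ⊓ T := ⟨hQ, hθc.1⟩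
    obtain ⟨x, hx, hxe⟩ := (hθ.restrict_to (le_normalizerIn hRS)).mem_im.1 (hθR.symm ▸ h1)
    exact hcR (hθ.injOn (le_normalizerIn hRS hx) hcN hxe ▸ hx)
  -- normalizers grow
  set C := centralizerIn T (Q ⊓ T) with hC
  have hQC : Q ≤ Subgroup.normalizer (C : Set Ω) := by
    intro q hq
    refine mem_normalizer_of_cj_le ((inf_le_left : C ≤ T).trans h.T_le) fun d hd => ?_
    refine mem_centralizerIn.2 ⟨cj_mem_of_stronglyClosed h.closed (hQS hq) hd.1, fun y hy => ?_⟩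
    have hy' : cj q⁻¹ y ∈ Q ⊓ T :=
      ⟨Q.mul_mem (Q.mul_mem (Q.inv_mem hq) hy.1) (Q.inv_mem (Q.inv_mem hq)),
        cj_mem_of_stronglyClosed h.closed (S.inv_mem (hQS hq)) hy.2⟩
    rw [show cj (cj q d) y = cj q (cj d (cj q⁻¹ y)) by simp [cj_apply, mul_assoc],
      (mem_centralizerIn.1 hd).2 _ hy', cj_cj_inv]
  set V := Q ⊔ C with hV
  have hVS : V ≤ S := sup_le hQS (inf_le_left.trans h.T_le)
  have hlt : Q < V := lt_of_le_of_ne le_sup_left fun e' =>
    hθQ (e'.ge (Subgroup.mem_sup_right hθc))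
  haveI := finite_of_le hVS
  have h2 := FusionFrattini88.card_lt_normalizerIn (h.pgrp.to_le hVS) le_rfl hlt
  refine h2.ne' (le_antisymm ?_ ?_)
  · haveI := finite_of_le hQS
    refine Subgroup.card_le_of_le fun v hv => ?_
    have hv' : v ∈ (Q : Set Ω) * (C : Set Ω) := by
      rw [← Subgroup.coe_mul_of_left_le_normalizer_right _ _ hQC]; exact hv.1
    obtain ⟨q, hq, d, hd, rfl⟩ := Set.mem_mul.1 hv'
    refine Q.mul_mem hq (e.ge (Subgroup.mem_sup_right ⟨hd, ?_⟩))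
    have h3 := Subgroup.mul_mem _ (Subgroup.inv_mem _ (Subgroup.le_normalizer hq : q ∈
      Subgroup.normalizer (Q : Set Ω))) hv.2
    rwa [inv_mul_cancel_left] at h3
  · haveI : Finite ↥(normalizerIn V Q) :=
      finite_of_le ((inf_le_left : normalizerIn V Q ≤ V).trans hVS)
    exact Subgroup.card_le_of_le (le_normalizerIn le_sup_left)

end Ctx

end Cfsg.Agent.FusionLocalPart
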