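import Cfsg.Agent.Lib.FusionLocalCom

/-!
In `N = N_F(X)`: automorphisms of order prime to `p` in the part `InCom` belonging to `E` pass up to
the preimages in `R` of the groups they normalize (`com_up`) and down to stable fully normalized
subgroups (`com_down`).
-/

set_option autoImplicit false

namespace Cfsg.Agent.FusionLocalSub

open Cfsg Cfsg.FusionSystem Cfsg.Agent.FusionSysBasic Cfsg.Agent.FusionSysSaturated
open Cfsg.Agent.FusionSysNormal Cfsg.Agent.FusionKit88 Cfsg.Agent.FusionSysNormalizer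
open Cfsg.Agent.FusionLocalPart
open scoped Pointwise

variable {Ω : Type*} [Group Ω] {S T X : Subgroup Ω} {F : FusionSystem S} {E : FusionSystem T}
  {N : FusionSystem (normalizerIn S X)} {p : ℕ}

/-- The elements of `N_U(P)` with image under `a` again induced by `U`. -/
def domK (U P : Subgroup Ω) (a : MulAut P) : Subgroup Ω :=
  nK U P ((autInducedBy U P).comap (MulAut.conj a).toMonoidHom)

theorem le_domK {U : Subgroup Ω} [Finite U] {G : FusionSystem U} {P W : Subgroup Ω} {a : MulAut P}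
    {f : Ω → Ω} (hf : Mor G W f) (hPW : P ≤ W) (hW : W ≤ normalizerIn U P)
    (he : ∀ x ∈ P, f x = afun a x) : W ≤ domK U P a := by
  intro y hy
  refine ⟨(hW hy).1, nHom U P ⟨y, hW hy⟩, ?_, fun x hx => afun_nHom _ hx⟩
  have hfP : im P f = P := (im_congr he).trans (im_afun a)
  refine mem_autInducedBy.2 ⟨f y, hf.apply_mem hy,
    hfP ▸ FusionWeaklyNormal88.apply_normalizes hf hPW hy (hW hy).2, fun x hx => ?_⟩
  have hx' := afun_mem a⁻¹ hx
  simp only [MulEquiv.coe_toMonoidHom, MulAut.conj_apply]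
  rw [afun_mul _ _ hx, afun_mul _ _ hx', afun_nHom _ hx',
    ← he _ (cj_mem_of_normalizer (hW hy).2 hx'), hf.map_cj hy (hPW hx'), he _ hx',
    afun_apply_inv a hx]

theorem exists_joint_ext {U : Subgroup Ω} {p : ℕ} [Finite U] [Fact p.Prime] (hU : IsPGroup p U)
    {G : FusionSystem U} (hG : G.IsSaturated p) {P : Subgroup Ω} (hP : G.IsFullyNormalized P)
    {a : MulAut P} (ha : a ∈ G.autGroup P) {W : Subgroup Ω} (hW : W ≤ domK U P a) :
    ∃ f, Mor G W f ∧ ∀ x ∈ P, x ∈ W → f x = afun a x := by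
  obtain ⟨f, hf, hfe⟩ := (receptive_iff.1 (receptive_of_fullyNormalized hU hG hP)).2 P _
    (domK U P a) ((mem_autGroup hP.1).1 ha) (im_afun a) nK_le (nK_normalizes hP.1) (by
      rintro y ⟨-, l, hl, hle⟩
      obtain ⟨k, hk, -, hke⟩ := mem_autInducedBy.1 (Subgroup.mem_comap.1 hl)
      refine ⟨k, hk, fun x hx => ?_⟩
      rw [← hke _ (afun_mem a hx), ← hle x hx]
      simp only [MulEquiv.coe_toMonoidHom, MulAut.conj_apply]
      rw [afun_mul _ _ (afun_mem a hx), afun_inv_apply a hx, afun_mul _ _ hx])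
  exact ⟨f, hf.restrict_to (hW.trans le_sup_right), fun x hx _ => hfe x hx⟩

/-- Powers of an automorphism of a finite subgroup can be taken of order prime to `p`, keeping a
given restriction of order prime to `p`. -/
theorem exists_pow_keep {U : Subgroup Ω} [Finite U] {G : FusionSystem U} {p : ℕ} [Fact p.Prime]
    {W P : Subgroup Ω} (hPW : P ≤ W) {Ψ : MulAut W} (hΨ : Ψ ∈ G.autGroup W) {a : MulAut P}
    (hco : (orderOf a).Coprime p) (he : ∀ x ∈ P, afun Ψ x = afun a x) :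
    ∃ k : ℕ, (orderOf (Ψ ^ k)).Coprime p ∧ ∀ x ∈ P, afun (Ψ ^ k) x = afun a x := by
  haveI := finite_autGroup (F := G) W
  have hn0 : orderOf Ψ ≠ 0 := by
    have := isOfFinOrder_of_finite (⟨Ψ, hΨ⟩ : G.autGroup W)
    exact (orderOf_pos_iff.2 ((G.autGroup W).subtype.isOfFinOrder this)).ne'
  obtain ⟨k, hk⟩ := FusionMeetKey.exists_exponent (p := p) hn0
  have hpow := FusionCentralizerSub.pow_restrict hPW he
  have hak : a ^ k = a := by
    refine (hk a (orderOf_dvd_of_pow_eq_one (afun_ext fun x hx => ?_))).2 hco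
    rw [← hpow _ x hx, pow_orderOf_eq_one, afun_one (hPW hx), afun_one hx]
  exact ⟨k, (hk Ψ dvd_rfl).1, fun x hx => by rw [hpow k x hx, hak]⟩

namespace NCtx

variable (h : NCtx F E N p) [Finite S] [Fact p.Prime]
include h

theorem com_conj {P : Subgroup Ω} {n a : MulAut P} (hn : n ∈ N.autGroup P) (hP : P ≤ normalizerIn S X)
    (ha : InCom F E N p P a) : InCom F E N p P (n * a * n⁻¹) :=
  mor_conj_eq ((mem_autGroup hP).1 hn) a ▸ h.inCom_transport _ _ ha

omit [Fact p.Prime] in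
theorem normalizer_dd {P : Subgroup Ω} (hc : TCN T N P) {g : Ω}
    (hg : g ∈ normalizerIn (normalizerIn S X) P) :
    g ∈ Subgroup.normalizer ((dd S X P : Subgroup Ω) : Set Ω) := by
  haveI : Finite ↥(normalizerIn S X) := finite_of_le inf_le_left
  have hdd := (h.dd_le hc).trans inf_le_left
  exact mem_normalizer_of_cj_le hdd fun x hx =>
    h.dd_map (mor_cj (F := N) hdd hg.1) (mem_normalizer_iff_im_cj.1 hg.2) (apply_mem_im hx)

/-- An automorphism in the part in `E` extends, inside that part, to the preimages of the groups it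
normalizes. -/
theorem exists_ext {P : Subgroup Ω} (hP : N.IsFullyNormalized P) (hc : TCN T N P) {a : MulAut P}
    (ha : InCom F E N p P a) (hco : (orderOf a).Coprime p) {V : Subgroup Ω}
    (hV : V ≤ normalizerIn (normalizerIn S X) P) (hdV : dd S X P ≤ V)
    (hn : ∀ v ∈ V, ∃ w ∈ V, ∀ x ∈ P, afun a (cj v x) = cj w (afun a x)) :
    ∃ Φ ∈ N.autGroup V, (orderOf Φ).Coprime p ∧ InA F E p V Φ ∧
      ∀ x ∈ P, afun Φ x = afun a x := by
  classical
  haveI : Finite ↥(normalizerIn S X) := finite_of_le inf_le_left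
  have hPS := hP.1
  have hdd : dd S X P ≤ normalizerIn S X := (h.dd_le hc).trans inf_le_left
  have hcD := h.dd_centric hP
  have hVS : V ≤ normalizerIn S X := hV.trans inf_le_left
  have hPd : P ≤ dd S X P := le_dd P
  obtain ⟨b, hb, hbA, hbe⟩ := (h.inCom_fn hP hc).1 ha
  set St := FusionTops.stab N (dd S X P) P (le_dd P) with hSt
  have hbSt : b ∈ St := ⟨hb, (im_congr hbe).trans (im_afun a)⟩
  haveI := finite_autGroup (F := N) (dd S X P)
  haveI : Finite St :=
    Finite.of_injective _ (Subgroup.inclusion_injective (fun c hc => hc.1 : St ≤ N.autGroup (dd S X P)))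
  have hStF : ∀ {g : MulAut (dd S X P)}, g ∈ St → g ∈ F.autGroup (dd S X P) := fun hg =>
    mem_autGroup_of_mor (sub_mor h.subN ((mem_autGroup hdd).1 hg.1))
  set G1 := St ⊓ h.ctx.aSub hcD with hG1
  have hG1n : ∀ g ∈ St, ∀ j ∈ G1, g * j * g⁻¹ ∈ G1 := fun g hg j hj =>
    ⟨St.mul_mem (St.mul_mem hg hj.1) (St.inv_mem hg),
      h.ctx.inA_conj (hdd.trans inf_le_left) (hStF hg) hj.2⟩
  let JA : Subgroup (MulAut (dd S X P)) :=
    { carrier := {g | g ∈ G1 ∧ ∀ x ∈ P, afun g x = x}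
      one_mem' := ⟨one_mem _, fun x hx => afun_one (hPd hx)⟩
      mul_mem' := fun {g g'} ⟨hg, hg'⟩ ⟨hk, hk'⟩ => ⟨mul_mem hg hk, fun x hx => by
        rw [afun_mul _ _ (hPd hx), hk' x hx, hg' x hx]⟩
      inv_mem' := fun {g} ⟨hg, hg'⟩ => ⟨inv_mem hg, fun x hx => by
        conv_lhs => rw [← hg' x hx]
        exact afun_inv_apply g (hPd hx)⟩ }
  have hJSt : JA ≤ St := fun g hg => hg.1.1
  have hJn : ∀ g ∈ St, ∀ j ∈ JA, g * j * g⁻¹ ∈ JA := fun g hg j hj =>
    ⟨hG1n g hg j hj.1, fun x hx => by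
      have hx' : afun g⁻¹ x ∈ P := (St.inv_mem hg).2.le (apply_mem_im hx)
      rw [afun_mul _ _ (hPd hx), afun_mul _ _ (hPd hx'), hj.2 _ hx', afun_apply_inv g (hPd hx)]⟩
  set AV := autInducedBy V (dd S X P) with hAV
  have hAVSt : AV ≤ St := fun g hg => by
    obtain ⟨v, hv, -, hve⟩ := mem_autInducedBy.1 hg
    exact ⟨autInducedBy_le hdd (autInducedBy_mono hVS _ hg),
      (im_congr fun x hx => hve x (hPd hx)).trans (mem_normalizer_iff_im_cj.1 (hV hv).2)⟩
  have hAVp : IsPGroup p AV := (isPGroup_autInducedBy h.Np _).to_le (autInducedBy_mono hVS _)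
  have hR : autInducedBy (normalizerIn S X) (dd S X P) ⊓ St ⊓ JA ≤ AV := by
    rintro g ⟨⟨hg, -⟩, hgJ⟩
    obtain ⟨s, hs, hsn, hse⟩ := mem_autInducedBy.1 hg
    exact mem_autInducedBy.2 ⟨s, hdV (cent_le_dd P (mem_centralizerIn.2 ⟨hs, fun x hx => by
      rw [← hse x (hPd hx), hgJ.2 x hx]⟩)), hsn, hse⟩
  haveI : Finite ↥(AV ⊔ JA : Subgroup (MulAut (dd S X P))) :=
    Finite.of_injective _ (Subgroup.inclusion_injective (sup_le hAVSt hJSt : AV ⊔ JA ≤ St))
  obtain ⟨hsyl, hdec⟩ := FusionMeet.sylIn_sup hAVp (fun g hg j hj => hJn g (hAVSt hg) j hj)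
    (FusionCentralLift.sylIn_inf (h.sylow_dd hP hc)
      ((isPGroup_autInducedBy h.Np _).to_le inf_le_left) hJSt hJn) inf_le_right hR
  -- the conjugate of `AV`
  have hconj : AV.map (MulAut.conj b).toMonoidHom ≤ AV ⊔ JA := by
    rintro _ ⟨g, hg, rfl⟩
    obtain ⟨v, hv, hvn, hve⟩ := mem_autInducedBy.1 hg
    obtain ⟨w, hw, hwe⟩ := hn v hv
    set cv : MulAut P := nHom (normalizerIn S X) P ⟨v, hV hv⟩
    set cw : MulAut P := nHom (normalizerIn S X) P ⟨w, hV hw⟩
    have hcvN : cv ∈ N.autGroup P := autInducedBy_le hPS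
      (mem_autInducedBy.2 ⟨v, (hV hv).1, (hV hv).2, fun x hx => afun_nHom _ hx⟩)
    have hcw : cw = a * cv * a⁻¹ := afun_ext fun x hx => by
      have hx' := afun_mem a⁻¹ hx
      rw [afun_nHom _ hx, afun_mul _ _ hx, afun_mul _ _ hx', afun_nHom _ hx', hwe _ hx',
        afun_apply_inv a hx]
    have hu1 : InCom F E N p P (cw * cv⁻¹) := by
      rw [hcw, show a * cv * a⁻¹ * cv⁻¹ = a * (cv * a⁻¹ * cv⁻¹) by group]
      exact (h.comG hc).mul_mem ha (h.com_conj hcvN hPS ((h.comG hc).inv_mem ha))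
    have hu2 : cw * cv⁻¹ ∈ autInducedBy (normalizerIn S X) P :=
      mul_mem (mem_autInducedBy.2 ⟨w, (hV hw).1, (hV hw).2, fun x hx => afun_nHom _ hx⟩)
        (Subgroup.inv_mem _
          (mem_autInducedBy.2 ⟨v, (hV hv).1, (hV hv).2, fun x hx => afun_nHom _ hx⟩))
    obtain ⟨t, ht, htn, hte⟩ := mem_autInducedBy.1 (h.com_sylow hP hc hu2 hu1)
    have hcvi : ∀ {x : Ω}, x ∈ P → afun cv⁻¹ x = cj v⁻¹ x := fun {x} hx => by
      have hx' : cj v⁻¹ x ∈ P := cj_mem_of_normalizer (Subgroup.inv_mem _ (hV hv).2) hx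
      conv_lhs => rw [← cj_cj_inv v x, ← afun_nHom (⟨v, hV hv⟩ :
        ↥(normalizerIn S X ⊓ Subgroup.normalizer (P : Set Ω))) hx']
      exact afun_inv_apply cv hx'
    have htw : ∀ {x : Ω}, x ∈ P → cj t x = cj w (cj v⁻¹ x) := fun {x} hx => by
      rw [← hte x hx, afun_mul _ _ hx, hcvi hx,
        afun_nHom _ (cj_mem_of_normalizer (Subgroup.inv_mem _ (hV hv).2) hx)]
    have htV : t ∈ V := by
      have hz : (w * v⁻¹)⁻¹ * t ∈ centralizerIn (normalizerIn S X) P := mem_centralizerIn.2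
        ⟨Subgroup.mul_mem _ (Subgroup.inv_mem _ (hVS (V.mul_mem hw (V.inv_mem hv)))) ht.2,
          fun x hx => by rw [← cj_cj, htw hx, cj_cj w v⁻¹ x, cj_inv_cj]⟩
      have := V.mul_mem (V.mul_mem hw (V.inv_mem hv)) (hdV (cent_le_dd P hz))
      rwa [mul_inv_cancel_left] at this
    have htD := h.normalizer_dd hc ⟨ht.2, htn⟩
    set τ : MulAut (dd S X P) := nHom T (dd S X P) ⟨t, ht.1, htD⟩
    have hτV : τ ∈ AV := mem_autInducedBy.2 ⟨t, htV, htD, fun x hx => afun_nHom _ hx⟩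
    have hτA : τ ∈ G1 := ⟨hAVSt hτV,
      h.ctx.autT_inA hcD (mem_autInducedBy.2 ⟨t, ht.1, htD, fun x hx => afun_nHom _ hx⟩)⟩
    set j := b * g * b⁻¹ * g⁻¹ * τ⁻¹ with hj
    have hjG : j ∈ G1 := by
      refine G1.mul_mem ?_ (G1.inv_mem hτA)
      rw [show b * g * b⁻¹ * g⁻¹ = b * (g * b⁻¹ * g⁻¹) by group]
      exact G1.mul_mem ⟨hbSt, hbA⟩ (hG1n g (hAVSt hg) _ (G1.inv_mem ⟨hbSt, hbA⟩))
    have hjJ : j ∈ JA := by
      refine ⟨hjG, fun x hx => ?_⟩
      have hy : cj t⁻¹ x ∈ P := cj_mem_of_normalizer (Subgroup.inv_mem _ htn) hx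
      have h1 : afun τ⁻¹ x = cj t⁻¹ x := by
        conv_lhs => rw [← cj_cj_inv t x, ← afun_nHom (⟨t, ht.1, htD⟩ :
          ↥(T ⊓ Subgroup.normalizer ((dd S X P : Subgroup Ω) : Set Ω))) (hPd hy)]
        exact afun_inv_apply τ (hPd hy)
      have hz : cj v⁻¹ (cj t⁻¹ x) ∈ P := cj_mem_of_normalizer (Subgroup.inv_mem _ (hV hv).2) hy
      have h2 : afun g⁻¹ (cj t⁻¹ x) = cj v⁻¹ (cj t⁻¹ x) := by
        conv_lhs => rw [← cj_cj_inv v (cj t⁻¹ x), ← hve _ (hPd hz)]
        exact afun_inv_apply g (hPd hz)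
      have hz' := afun_mem a⁻¹ hz
      have h3 : afun b⁻¹ (cj v⁻¹ (cj t⁻¹ x)) = afun a⁻¹ (cj v⁻¹ (cj t⁻¹ x)) := by
        conv_lhs => rw [← afun_apply_inv a hz, ← hbe _ hz']
        exact afun_inv_apply b (hPd hz')
      rw [hj, afun_mul _ _ (hPd hx), h1, afun_mul _ _ (hPd hy), h2, afun_mul _ _ (hPd hz), h3,
        afun_mul _ _ (hPd hz'), hve _ (hPd hz'), hbe _ (cj_mem_of_normalizer (hV hv).2 hz'),
        hwe _ hz', afun_apply_inv a hz, ← htw hy, cj_cj_inv]
    have e : (MulAut.conj b).toMonoidHom g = j * (τ * g) := by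
      simp [hj, mul_assoc]
    rw [e]
    exact mul_mem (Subgroup.mem_sup_right hjJ) (Subgroup.mem_sup_left (mul_mem hτV hg))
  obtain ⟨w0, hw0, hw0K⟩ := sylIn_absorb hsyl (hAVp.map _) hconj
  obtain ⟨a0, ha0, j, hj, rfl⟩ := hdec w0 hw0
  set b' := j * b with hb'
  have hb'G : b' ∈ G1 := G1.mul_mem hj.1 ⟨hbSt, hbA⟩
  have hb'e : ∀ x ∈ P, afun b' x = afun a x := fun x hx => by
    rw [afun_mul _ _ (hPd hx), hbe x hx, hj.2 _ (afun_mem a hx)]
  have hb'AV : ∀ g ∈ AV, b' * g * b'⁻¹ ∈ AV := fun g hg => by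
    have h1 := AV.mul_mem (AV.mul_mem (AV.inv_mem ha0) (hw0K _ ⟨g, hg, rfl⟩)) ha0
    convert h1 using 1
    rw [hb', MulEquiv.coe_toMonoidHom, MulAut.conj_apply]
    group
  -- extend
  have hVD : V ≤ Subgroup.normalizer ((dd S X P : Subgroup Ω) : Set Ω) :=
    fun v hv => h.normalizer_dd hc (hV hv)
  have hrec := receptive_of_fullyK h.Np h.satN (h.fullyK_dd hP hc)
  obtain ⟨f, hf, hfe⟩ := (receptive_iff.1 hrec).2 (dd S X P) _ V ((mem_autGroup hdd).1 hb'G.1.1)
    (im_afun b') hVS hVD fun v hv => by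
      obtain ⟨k, hk, -, hke⟩ := mem_autInducedBy.1
        (hb'AV _ (mem_autInducedBy.2 ⟨v, hv, hVD hv, fun x hx =>
          afun_nHom (⟨v, hv, hVD hv⟩ : ↥(V ⊓ Subgroup.normalizer ((dd S X P : Subgroup Ω) : Set Ω))) hx⟩))
      refine ⟨k, hVS hk, fun x hx => ?_⟩
      rw [← hke _ (afun_mem b' hx), afun_mul _ _ (afun_mem b' hx), afun_inv_apply b' hx,
        afun_mul _ _ hx, afun_nHom _ hx]
  have hfV := hf.restrict_to (le_sup_right : V ≤ dd S X P ⊔ V)
  have hmapV : ∀ v ∈ V, f v ∈ V := by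
    intro v hv
    obtain ⟨k, hk, -, hke⟩ := mem_autInducedBy.1
      (hb'AV _ (mem_autInducedBy.2 ⟨v, hv, hVD hv, fun x hx =>
        afun_nHom (⟨v, hv, hVD hv⟩ : ↥(V ⊓ Subgroup.normalizer ((dd S X P : Subgroup Ω) : Set Ω))) hx⟩))
    have hz : k⁻¹ * f v ∈ centralizerIn (normalizerIn S X) P := mem_centralizerIn.2
      ⟨Subgroup.mul_mem _ (Subgroup.inv_mem _ (hVS hk)) (hf.apply_mem (Subgroup.mem_sup_right hv)),
        fun y hy => by
          obtain ⟨x, hx, rfl⟩ : ∃ x ∈ P, afun a x = y :=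
            ⟨afun a⁻¹ y, afun_mem _ hy, afun_apply_inv a hy⟩
          have hxd := hPd hx
          rw [← cj_cj]
          conv_lhs => rw [← hb'e x hx, ← hfe x hxd,
            ← hf.map_cj (Subgroup.mem_sup_right hv) (Subgroup.mem_sup_left hxd),
            hfe _ (cj_mem_of_normalizer (hVD hv) hxd)]
          rw [← hb'e x hx]
          have h5 := hke _ (afun_mem b' hxd)
          rw [afun_mul _ _ (afun_mem b' hxd), afun_inv_apply b' hxd, afun_mul _ _ hxd,
            afun_nHom _ hxd] at h5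
          rw [h5, cj_inv_cj]⟩
    have := V.mul_mem hk (hdV (cent_le_dd P hz))
    rwa [mul_inv_cancel_left] at this
  obtain ⟨Ψ, hΨ, hΨe⟩ := hfV.exists_aut (hfV.im_self hmapV)
  have hΨb : ∀ x ∈ dd S X P, afun Ψ x = afun b' x := fun x hx =>
    (hΨe x (hdV hx)).trans (hfe x hx)
  obtain ⟨k, hkco, hke⟩ := exists_pow_keep (hPd.trans hdV) hΨ hco fun x hx =>
    (hΨb x (hPd hx)).trans (hb'e x hx)
  refine ⟨Ψ ^ k, pow_mem hΨ k, hkco, ?_, hke⟩
  exact (h.ctx.inA_iff hcD hdV (hVS.trans inf_le_left)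
    (mem_autGroup_of_mor (sub_mor h.subN ((mem_autGroup hVS).1 (pow_mem hΨ k)))) hkco
    (FusionCentralizerSub.pow_restrict hdV hΨb k)).1 (pow_mem hb'G.2 k)

/-- Restriction of a transported extension. -/
theorem inCom0_of_overgroup {U V : Subgroup Ω} (hU : N.IsFullyNormalized U)
    (hdV : dd S X U ≤ V) (hVS : V ≤ normalizerIn S X) {Φ : MulAut V} (hΦ : Φ ∈ N.autGroup V)
    (hco : (orderOf Φ).Coprime p) (hA : InA F E p V Φ) {a : MulAut U}
    (he : ∀ x ∈ U, afun Φ x = afun a x) : InCom0 F E N p U a := by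
  haveI : Finite ↥(normalizerIn S X) := finite_of_le inf_le_left
  have hm := ((mem_autGroup hVS).1 hΦ).restrict_to hdV
  have himU : im U (afun Φ) = U := (im_congr he).trans (im_afun a)
  obtain ⟨c, hc', hce⟩ := hm.exists_aut (hm.im_self fun x hx =>
    h.dd_map hm himU (apply_mem_im hx))
  refine ⟨c, hc', (h.ctx.inA_iff (h.dd_centric hU) hdV (hVS.trans inf_le_left)
    (mem_autGroup_of_mor (sub_mor h.subN ((mem_autGroup hVS).1 hΦ))) hco
    fun x hx => (hce x hx).symm).2 hA, fun x hx => ?_⟩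
  rw [hce x (le_dd U hx), he x hx]

omit [Fact p.Prime] in
theorem dd_normalizes {P U : Subgroup Ω} (hPU : P ≤ U) (hUN : U ≤ normalizerIn (T ⊓ normalizerIn S X) P)
    (hc : TCN T N P) : U ⊔ dd S X P ≤ normalizerIn (normalizerIn S X) U := by
  haveI : Finite ↥(normalizerIn S X) := finite_of_le inf_le_left
  have hUR : U ≤ T ⊓ normalizerIn S X := hUN.trans inf_le_left
  have hUS : U ≤ normalizerIn S X := hUR.trans inf_le_right
  have hU' := tc_upward hc hPU hUR
  refine sup_le (le_normalizerIn hUS) (sup_le (sup_le ((hPU.trans (le_normalizerIn hUS)))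
    ((X_le_dd U).trans (h.dd_le hU'))) fun c hcc => ⟨hcc.1, mem_normalizer_of_cj_le hUS ?_⟩)
  intro u hu
  have huR := hUR hu
  have hcuR : cj c u ∈ T ⊓ normalizerIn S X := cj_mem_of_stronglyClosed h.closedR hcc.1 huR
  have hz : u⁻¹ * cj c u ∈ centralizerIn (T ⊓ normalizerIn S X) P := mem_centralizerIn.2
    ⟨Subgroup.mul_mem _ (Subgroup.inv_mem _ huR) hcuR, fun x hx => by
      have hux : cj u x ∈ P := cj_mem_of_normalizer (hUN hu).2 hx
      have h1 : cj c⁻¹ x = x := by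
        conv_lhs => rw [← (mem_centralizerIn.1 hcc).2 x hx]
        exact cj_inv_cj c x
      rw [← cj_cj, show cj (cj c u) x = cj c (cj u (cj c⁻¹ x)) by simp [cj_apply, mul_assoc], h1,
        (mem_centralizerIn.1 hcc).2 _ hux, cj_inv_cj]⟩
  have := U.mul_mem hu (hPU (hc.2.2 P (isConj_refl (hc.1.trans inf_le_right)) hz))
  rwa [mul_inv_cancel_left] at this

/-- Going up. -/
theorem com_up {P : Subgroup Ω} (hP : N.IsFullyNormalized P) (hc : TCN T N P) {a : MulAut P}
    (ha : InCom F E N p P a) (hco : (orderOf a).Coprime p) {Q : Subgroup (MulAut P)}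
    (hQ : Q ≤ autInducedBy (T ⊓ normalizerIn S X) P) (haQ : ∀ l ∈ Q, a * l * a⁻¹ ∈ Q) :
    ∃ e : MulAut ↥(P ⊔ nK (T ⊓ normalizerIn S X) P Q),
      InCom F E N p (P ⊔ nK (T ⊓ normalizerIn S X) P Q) e ∧ (orderOf e).Coprime p ∧
        ∀ x ∈ P, afun e x = afun a x := by
  haveI : Finite ↥(normalizerIn S X) := finite_of_le inf_le_left
  have hPS := hP.1
  haveI : Finite ↥(T ⊓ normalizerIn S X) := finite_of_le (inf_le_right.trans inf_le_left)
  set U := P ⊔ nK (T ⊓ normalizerIn S X) P Q with hUdef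
  have hUN : U ≤ normalizerIn (T ⊓ normalizerIn S X) P :=
    sup_le (le_normalizerIn hc.1) (le_inf nK_le (nK_normalizes hc.1))
  have hUR : U ≤ T ⊓ normalizerIn S X := hUN.trans inf_le_left
  set V := U ⊔ dd S X P with hVdef
  have hV : V ≤ normalizerIn (normalizerIn S X) P :=
    sup_le (hUN.trans (inf_le_inf_right _ inf_le_right)) (h.dd_le hc)
  obtain ⟨b, hb, -, hbe⟩ := (h.inCom_fn hP hc).1 ha
  have hdd : dd S X P ≤ normalizerIn S X := (h.dd_le hc).trans inf_le_left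
  -- the images normalize correspondingly
  have hnV : ∀ v ∈ V, ∃ w ∈ V, ∀ x ∈ P, afun a (cj v x) = cj w (afun a x) := by
    have hin : ∀ y ∈ V, ∀ w ∈ V, (∀ x ∈ P, afun a (cj y x) = cj w (afun a x)) →
        y ∈ nK V P ((autInducedBy V P).comap (MulAut.conj a).toMonoidHom) := by
      intro y hy w hw he
      refine ⟨hy, nHom V P ⟨y, hy, (hV hy).2⟩, ?_, fun x hx => afun_nHom _ hx⟩
      refine mem_autInducedBy.2 ⟨w, hw, (hV hw).2, fun x hx => ?_⟩
      have hx' := afun_mem a⁻¹ hx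
      simp only [MulEquiv.coe_toMonoidHom, MulAut.conj_apply]
      rw [afun_mul _ _ hx, afun_mul _ _ hx', afun_nHom _ hx', he _ hx', afun_apply_inv a hx]
    have hle : V ≤ nK V P ((autInducedBy V P).comap (MulAut.conj a).toMonoidHom) := by
      refine sup_le (sup_le (fun y hy => ?_) fun y hy => ?_) fun y hy => ?_
      · exact hin y (Subgroup.mem_sup_left (Subgroup.mem_sup_left hy)) (afun a y)
          (Subgroup.mem_sup_left (Subgroup.mem_sup_left (afun_mem a hy)))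
          fun x hx => ((mem_autGroup hPS).1 (h.inCom_mem ha)).map_cj hy hx
      · obtain ⟨-, l, hl, hle⟩ := id hy
        obtain ⟨k, hk, -, hke⟩ := mem_autInducedBy.1 (hQ (haQ l hl))
        refine hin y (Subgroup.mem_sup_left (Subgroup.mem_sup_right hy)) k
          (Subgroup.mem_sup_left (Subgroup.mem_sup_right ⟨hk, _, haQ l hl, hke⟩)) fun x hx => ?_
        rw [← hke _ (afun_mem a hx), afun_mul _ _ (afun_mem a hx), afun_inv_apply a hx,
          afun_mul _ _ hx, hle x hx]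
      · refine hin y (Subgroup.mem_sup_right hy) (afun b y) (Subgroup.mem_sup_right (afun_mem b hy))
          fun x hx => ?_
        rw [← hbe _ (cj_mem_of_normalizer (h.dd_le hc hy).2 hx),
          ((mem_autGroup hdd).1 hb).map_cj hy (le_dd P hx), hbe x hx]
    intro v hv
    obtain ⟨-, l, hl, hle'⟩ := hle hv
    obtain ⟨w, hw, -, hwe⟩ := mem_autInducedBy.1 (Subgroup.mem_comap.1 hl)
    refine ⟨w, hw, fun x hx => ?_⟩
    rw [← hwe _ (afun_mem a hx), ← hle' x hx]
    simp only [MulEquiv.coe_toMonoidHom, MulAut.conj_apply]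
    rw [afun_mul _ _ (afun_mem a hx), afun_inv_apply a hx, afun_mul _ _ hx]
  obtain ⟨Φ, hΦ, hΦco, hΦA, hΦe⟩ := h.exists_ext hP hc ha hco hV le_sup_right hnV
  have hVS : V ≤ normalizerIn S X := hV.trans inf_le_left
  have hΦm := (mem_autGroup hVS).1 hΦ
  have hUV : U ≤ V := le_sup_left
  have hΦU : ∀ x ∈ U, afun Φ x ∈ U := by
    intro x hx
    refine mor_sup_induction (hΦm.restrict_to hUV)
      (fun y hy => Subgroup.mem_sup_left (hΦe y hy ▸ afun_mem a hy)) (fun y hy => ?_) hx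
    obtain ⟨hyR, l, hl, hle⟩ := id hy
    have hyV : y ∈ V := hUV (Subgroup.mem_sup_right hy)
    refine Subgroup.mem_sup_right ⟨closed_apply' h.closedR hΦm hyV hyR, _, haQ l hl, fun z hz => ?_⟩
    have hz' := afun_mem a⁻¹ hz
    rw [afun_mul _ _ hz, afun_mul _ _ hz']
    conv_rhs => rw [← afun_apply_inv a hz, ← hΦe _ hz',
      ← hΦm.map_cj hyV (hUV (Subgroup.mem_sup_left hz')), ← hle _ hz', hΦe _ (afun_mem l hz')]
  have hmU := hΦm.restrict_to hUV
  haveI := finite_of_le (hUR.trans (inf_le_right.trans inf_le_left))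
  obtain ⟨e, he, hee⟩ := hmU.exists_aut (hmU.im_self hΦU)
  refine ⟨e, ?_, coprime_restrict hUV hΦco fun x hx => (hee x hx).symm,
    fun x hx => (hee x (Subgroup.mem_sup_left hx)).trans (hΦe x hx)⟩
  -- a representative of `U`
  have hUS : U ≤ normalizerIn S X := hUR.trans inf_le_right
  obtain ⟨U', hUU', hU'⟩ := FusionSysSaturated.exists_fullyNormalized (F := N) hUS
  obtain ⟨θ, hθN, -, hθU⟩ := exists_map_to_fullyNormalized h.Np h.satN hU' hUU'
  have hθV := hθN.restrict_to (h.dd_normalizes (le_sup_left : P ≤ U) hUN hc)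
  have hθ0 := hθV.restrict_to hUV
  refine ⟨U', θ, hθ0, hθU, hU', ?_⟩
  have hdW := h.dd_le_image (h.fc_of_fn hP) (le_sup_left : P ≤ U) hUV le_sup_right hθV hθU
  refine h.inCom0_of_overgroup hU' hdW hθV.im_le (hθV.transport_mem rfl hΦ)
    (by rwa [MulEquiv.orderOf_eq]) (by
      rw [transport_sub hθV (sub_mor h.subN hθV) rfl]
      exact inA_transport _ _ hΦA) fun y hy => ?_
  obtain ⟨x, hx, rfl⟩ := hθ0.mem_im.1 (hθU.symm ▸ hy)
  rw [hθV.afun_transport rfl Φ (hUV hx), hθ0.afun_transport hθU e hx, hee x hx]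

/-- Going down. -/
theorem com_down {P U : Subgroup Ω} (hP : N.IsFullyNormalized P) (hc : TCN T N P) (hPU : P ≤ U)
    (hUN : U ≤ normalizerIn (T ⊓ normalizerIn S X) P) {k : MulAut U} (hk : InCom F E N p U k)
    (hco : (orderOf k).Coprime p) {a : MulAut P} (hka : ∀ x ∈ P, afun k x = afun a x) :
    InCom F E N p P a := by
  classical
  haveI : Finite ↥(normalizerIn S X) := finite_of_le inf_le_left
  have hPS := hP.1
  have hUR : U ≤ T ⊓ normalizerIn S X := hUN.trans inf_le_left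
  have hUS : U ≤ normalizerIn S X := hUR.trans inf_le_right
  have hcU : TCN T N U := tc_upward hc hPU hUR
  haveI := finite_of_le hUS
  have hkN := h.inCom_mem hk
  have hkm := (mem_autGroup hUS).1 hkN
  have haN : a ∈ N.autGroup P := mem_autGroup_of_mor ((hkm.restrict_to hPU).congr hka)
  have haco : (orderOf a).Coprime p := coprime_restrict hPU hco hka
  obtain ⟨b, hb, hbe⟩ := h.exists_ext_dd hP hc haN
  have hdd : dd S X P ≤ normalizerIn S X := (h.dd_le hc).trans inf_le_left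
  -- a common extension
  set W := U ⊔ dd S X P with hWdef
  have hWN : W ≤ normalizerIn (normalizerIn S X) P :=
    sup_le (hUN.trans (inf_le_inf_right _ inf_le_right)) (h.dd_le hc)
  have hWS : W ≤ normalizerIn S X := hWN.trans inf_le_left
  have hUW : U ≤ W := le_sup_left
  have hPW : P ≤ W := hPU.trans hUW
  haveI := finite_of_le hWS
  obtain ⟨f, hf, hfe⟩ := exists_joint_ext h.Np h.satN hP haN (W := W)
    (sup_le (le_domK hkm hPU (hUN.trans (inf_le_inf_right _ inf_le_right)) hka)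
      (le_domK ((mem_autGroup hdd).1 hb) (le_dd P) (h.dd_le hc) hbe))
  -- extensions of `a` preserve `U`
  have hUmap : ∀ {g : Ω → Ω}, Mor N W g → (∀ x ∈ P, g x = afun a x) → ∀ u ∈ U, g u ∈ U := by
    intro g hg hge u hu
    have hR1 := closed_apply' h.closedR hg (hUW hu) (hUR hu)
    have hR2 := hUR (afun_mem k hu)
    have hz : (afun k u)⁻¹ * g u ∈ centralizerIn (T ⊓ normalizerIn S X) P := mem_centralizerIn.2
      ⟨Subgroup.mul_mem _ (Subgroup.inv_mem _ hR2) hR1, fun y hy => by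
        obtain ⟨x, hx, rfl⟩ : ∃ x ∈ P, afun a x = y :=
          ⟨afun a⁻¹ y, afun_mem _ hy, afun_apply_inv a hy⟩
        have hux : cj u x ∈ P := cj_mem_of_normalizer (hUN hu).2 hx
        rw [← cj_cj]
        conv_lhs => rw [← hge x hx, ← hg.map_cj (hUW hu) (hPW hx), hge _ hux, ← hka _ hux,
          hkm.map_cj hu (hPU hx), hka x hx, cj_inv_cj]⟩
    have := U.mul_mem (afun_mem k hu) (hPU (hc.2.2 P (isConj_refl hPS) hz))
    rwa [mul_inv_cancel_left] at this
  have hfP : ∀ x ∈ P, f x = afun a x := fun x hx => hfe x hx (hPW hx)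
  have hfPi : im P f = P := (im_congr hfP).trans (im_afun a)
  obtain ⟨Ψ, hΨ, hΨe⟩ := hf.exists_aut (hf.im_self fun x hx => mor_sup_induction hf
    (fun u hu => Subgroup.mem_sup_left (hUmap hf hfP u hu))
    (fun d hd => Subgroup.mem_sup_right
      (h.dd_map (hf.restrict_to le_sup_right) hfPi (apply_mem_im hd))) hx)
  obtain ⟨i, hico, hie⟩ := exists_pow_keep hPW hΨ haco fun x hx =>
    (hΨe x (hPW hx)).trans (hfP x hx)
  set Φ1 := Ψ ^ i
  have hΦ1 : Φ1 ∈ N.autGroup W := pow_mem hΨ i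
  have hΦ1m := (mem_autGroup hWS).1 hΦ1
  have hΦ1U := hΦ1m.restrict_to hUW
  obtain ⟨k1, hk1, hk1e⟩ := hΦ1U.exists_aut (hΦ1U.im_self (hUmap hΦ1m hie))
  have hk1co : (orderOf k1).Coprime p := coprime_restrict hUW hico fun x hx => (hk1e x hx).symm
  have hk1a : ∀ x ∈ P, afun k1 x = afun a x := fun x hx => (hk1e x (hPU hx)).trans (hie x hx)
  -- `k1` differs from `k` by a `p`-element
  have hκP : ∀ x ∈ P, afun (k1 * k⁻¹) x = x := fun x hx => by
    have hx' := afun_mem a⁻¹ hx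
    have h1 : afun k⁻¹ x = afun a⁻¹ x := by
      conv_lhs => rw [← afun_apply_inv a hx, ← hka _ hx']
      exact afun_inv_apply k (hPU hx')
    rw [afun_mul _ _ (hPU hx), h1, hk1a _ hx', afun_apply_inv a hx]
  have hκU : ∀ u ∈ U, u⁻¹ * afun (k1 * k⁻¹) u ∈ P := fun u hu => by
    have hu' := afun_mem (k1 * k⁻¹) hu
    have hm := (mem_autGroup hUS).1 (mul_mem hk1 (inv_mem hkN))
    refine hc.2.2 P (isConj_refl hPS) (mem_centralizerIn.2
      ⟨Subgroup.mul_mem _ (Subgroup.inv_mem _ (hUR hu)) (hUR hu'), fun x hx => ?_⟩)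
    have hux : cj u x ∈ P := cj_mem_of_normalizer (hUN hu).2 hx
    rw [← cj_cj]
    conv_lhs => rw [← hκP x hx, ← hm.map_cj hu (hPU hx), hκP _ hux, cj_inv_cj]
  obtain ⟨j, hj⟩ : ∃ j : ℕ, (k1 * k⁻¹) ^ p ^ j = 1 := by
    refine pow_eq_one_of_stabilizes (h.Np.to_le hUS) (n := 2)
      (fun i => if i = 0 then ⊥ else if i = 1 then P else U) rfl rfl
      (fun i => by split_ifs <;> simp [hPU]) (fun i hi => by interval_cases i <;> simp [hPU])
      fun i hi y hy => ?_
    interval_cases i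
    · simp only [zero_add, if_neg one_ne_zero, if_pos rfl] at hy
      simp [hκP y hy]
    · simp only [if_neg one_ne_zero, if_pos rfl]
      simp only [show (1 + 1 = 0) = False by simp, show (1 + 1 = 1) = False by simp, if_false] at hy
      exact hκU y hy
  have hk1C : InCom F E N p U k1 := by
    refine FusionMeetKey.mem_of_div_mem (N := h.comG hcU) (J := Subgroup.zpowers (k1 * k⁻¹))
      (fun x hx => h.inCom_mem hx) (fun u hu x hx => h.com_conj hu hUS hx) ?_
      (Subgroup.zpowers_le.2 (mul_mem hk1 (inv_mem hkN))) hk1 hk1co hk (Subgroup.mem_zpowers _)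
    obtain ⟨l, -, hl⟩ := (Nat.dvd_prime_pow (Fact.out : p.Prime)).1 (orderOf_dvd_of_pow_eq_one hj)
    exact IsPGroup.of_card (n := l) (by rw [Nat.card_zpowers, hl])
  -- a representative of `U`
  obtain ⟨U', hUU', hU'⟩ := FusionSysSaturated.exists_fullyNormalized (F := N) hUS
  obtain ⟨θ, hθN, hθN', hθU⟩ := exists_map_to_fullyNormalized h.Np h.satN hU' hUU'
  have hWNU := h.dd_normalizes hPU hUN hc
  have hθV := hθN.restrict_to hWNU
  have hθ0 := hθV.restrict_to hUW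
  have hdW := h.dd_le_image (h.fc_of_fn hP) hPU hUW le_sup_right hθV hθU
  have hV' : im W θ ≤ normalizerIn (normalizerIn S X) U' :=
    im_le_iff.2 fun x hx => hθN' x (hWNU hx)
  have hcU' := h.tc_conj hcU (FusionSysBasic.isConj_iff.2 ⟨θ, hθ0, hθU⟩)
  obtain ⟨Φ, hΦ, hΦco, hΦA, hΦe⟩ := h.exists_ext hU' hcU' (h.inCom_transport hθ0 hθU hk1C)
    (by rwa [MulEquiv.orderOf_eq]) hV' hdW fun v hv => by
      obtain ⟨v0, hv0, rfl⟩ := hθV.mem_im.1 hv
      refine ⟨θ (afun Φ1 v0), apply_mem_im (afun_mem Φ1 hv0), fun y hy => ?_⟩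
      obtain ⟨x, hx, rfl⟩ := hθ0.mem_im.1 (hθU.symm ▸ hy)
      have hvx : cj v0 x ∈ U := cj_mem_of_normalizer (hWNU hv0).2 hx
      rw [← hθV.map_cj hv0 (hUW hx), hθ0.afun_transport hθU k1 hvx, hθ0.afun_transport hθU k1 hx,
        ← hθV.map_cj (afun_mem Φ1 hv0) (hUW (afun_mem k1 hx)), hk1e _ hvx, hk1e x hx,
        hΦ1m.map_cj hv0 (hUW hx)]
  -- back to `W`
  obtain ⟨ii, hii, hiiθ, -, -⟩ := hθV.exists_inv
  have himi : im (im W θ) ii = W := by
    rw [hθV.im_comp]
    exact (im_congr fun x hx => hiiθ x hx).trans (im_id W)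
  refine (h.inCom_fn hP hc).2 (h.inCom0_of_overgroup hP (le_sup_right : dd S X P ≤ W) hWS
    (hii.transport_mem himi hΦ) (by rwa [MulEquiv.orderOf_eq]) (by
      rw [transport_sub hii (sub_mor h.subN hii) himi]
      exact inA_transport _ _ hΦA) fun x hx => ?_)
  have hθx : θ x ∈ U' := hθU ▸ apply_mem_im (hPU hx)
  conv_lhs => rw [← hiiθ x (hPW hx)]
  rw [hii.afun_transport himi Φ (apply_mem_im (hPW hx)), hΦe _ hθx,
    hθ0.afun_transport hθU k1 (hPU hx), hiiθ _ (hUW (afun_mem k1 (hPU hx))), hk1a x hx]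

end NCtx

end Cfsg.Agent.FusionLocalSub
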