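import Cfsg.Agent.Lib.FusionLocalDefs

/-!
The part of `Aut_F(Q)` belonging to a normal subsystem `E` over `T` is a normal subgroup containing
`Aut_T(Q)`, made of automorphisms trivial modulo `T` and lying in `E` on `Q ⊓ T`; the automorphisms
in it induced by `S` are induced by `T` (`inA_sylow`), and extensions of order prime to `p` to
normalizing overgroups are trivial modulo `T` (`triv_of_inA`).
-/

set_option autoImplicit false

namespace Cfsg.Agent.FusionLocalPart

open Cfsg Cfsg.FusionSystem Cfsg.Agent.FusionSysBasic Cfsg.Agent.FusionSysSaturated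
open Cfsg.Agent.FusionSysNormal Cfsg.Agent.FusionKit88 Cfsg.Agent.FusionSysNormalizer
open scoped Pointwise

variable {Ω : Type*} [Group Ω] {S T : Subgroup Ω} {F : FusionSystem S} {E : FusionSystem T}
  {p : ℕ}

/-- The transport along a map agreeing with the identity. -/
theorem transport_id {Q : Subgroup Ω} (hm : Mor F Q (fun x => x)) (hi : im Q (fun x => x) = Q)
    (a : MulAut Q) : hm.transport hi a = a := by
  refine afun_ext fun x hx => ?_
  exact hm.afun_transport hi a hx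

theorem inA_transport {Q Q2 : Subgroup Ω} {φ : Ω → Ω} (hφ : Mor F Q φ) (him : im Q φ = Q2)
    {a : MulAut Q} (ha : InA F E p Q a) : InA F E p Q2 (hφ.transport him a) := by
  obtain ⟨i, hi, hiφ, -, hiQ⟩ := hφ.exists_inv
  rw [him] at hi hiQ
  have himi : im Q2 i = Q := by
    rw [← him, hφ.im_comp]
    exact (im_congr fun x hx => hiφ x hx).trans (im_id Q)
  cases ha with
  | base hθ hθQ hr hc hb =>
    refine InA.base (hi.comp hθ hiQ) (by rw [← hi.im_comp, himi, hθQ]) hr hc ?_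
    rw [← transport_comp hi himi hθ hθQ, transport_inv hφ him hi himi hiφ]
    exact hb
  | step hθ hθQ hr hc b hb he =>
    refine InA.step (hi.comp hθ hiQ) (by rw [← hi.im_comp, himi, hθQ]) hr hc b hb ?_
    intro x hx
    rw [← transport_comp hi himi hθ hθQ, transport_inv hφ him hi himi hiφ]
    exact he x hx

/-- Automorphisms of order prime to `p` agreeing with a conjugation modulo a strongly closed
subgroup are trivial modulo it. -/
theorem triv_of_conj [Finite S] [Fact p.Prime] (hS : IsPGroup p S) (hT : F.StronglyClosed T)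
    {Y : Subgroup Ω} (hY : Y ≤ S) {Φ : MulAut Y} (hco : (orderOf Φ).Coprime p) {u : Ω} (hu : u ∈ S)
    (h : ∀ y ∈ Y, (cj u y)⁻¹ * afun Φ y ∈ T) : ∀ y ∈ Y, y⁻¹ * afun Φ y ∈ T := by
  haveI hn : (T.subgroupOf S).Normal :=
    ⟨fun m hm a => cj_mem_of_stronglyClosed hT a.2 (Subgroup.mem_subgroupOf.1 hm)⟩
  let q : Y →* S ⧸ T.subgroupOf S :=
    (QuotientGroup.mk' (T.subgroupOf S)).comp (Subgroup.inclusion hY)
  set ub : S ⧸ T.subgroupOf S := QuotientGroup.mk' (T.subgroupOf S) ⟨u, hu⟩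
  have hstep : ∀ y : Y, q (Φ y) = ub * q y * ub⁻¹ := fun y => by
    show QuotientGroup.mk' (T.subgroupOf S) (Subgroup.inclusion hY (Φ y)) =
      QuotientGroup.mk' (T.subgroupOf S) ⟨u, hu⟩ *
        QuotientGroup.mk' (T.subgroupOf S) (Subgroup.inclusion hY y) *
        (QuotientGroup.mk' (T.subgroupOf S) ⟨u, hu⟩)⁻¹
    rw [← map_inv, ← map_mul, ← map_mul, QuotientGroup.mk'_apply, QuotientGroup.mk'_apply]
    refine (QuotientGroup.eq.2 ?_).symm
    rw [Subgroup.mem_subgroupOf]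
    have := h y y.2
    rw [afun_coe] at this
    exact this
  have hiter : ∀ (i : ℕ) (y : Y), q ((Φ ^ i) y) = ub ^ i * q y * (ub ^ i)⁻¹ := by
    intro i
    induction i with
    | zero => intro y; simp
    | succ i ih =>
      intro y
      rw [pow_succ' Φ, MulAut.mul_apply, hstep, ih y, pow_succ' ub]
      group
  intro y hy
  have h1 := hiter (orderOf Φ) ⟨y, hy⟩
  rw [pow_orderOf_eq_one, MulAut.one_apply] at h1
  obtain ⟨i, hi⟩ := hS ⟨u, hu⟩
  have hi' : ub ^ p ^ i = 1 := by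
    show QuotientGroup.mk' (T.subgroupOf S) ⟨u, hu⟩ ^ p ^ i = 1
    rw [← map_pow, hi, map_one]
  have hm : ub ^ orderOf Φ ∈ Subgroup.centralizer ({q ⟨y, hy⟩} : Set (S ⧸ T.subgroupOf S)) := by
    rw [Subgroup.mem_centralizer_singleton_iff]
    rw [eq_mul_inv_iff_mul_eq] at h1
    exact h1.symm
  have hu' := FusionWeaklyNormal88.mem_of_coprime_pow (hco.pow_right i) hm
    (by rw [hi']; exact one_mem _)
  rw [Subgroup.mem_centralizer_singleton_iff] at hu'
  have h2 := hstep ⟨y, hy⟩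
  rw [hu', mul_inv_cancel_right, eq_comm, ← inv_mul_eq_one, ← map_inv, ← map_mul] at h2
  change QuotientGroup.mk' (T.subgroupOf S) (Subgroup.inclusion hY _) = 1 at h2
  rw [QuotientGroup.mk'_apply, QuotientGroup.eq_one_iff, Subgroup.mem_subgroupOf] at h2
  rw [afun_apply Φ hy]
  exact h2

/-- An element moved modulo `T` by a fixed element `c` by an automorphism of order prime to `p`
is fixed modulo `T`. -/
theorem triv_of_mul [Finite S] [Fact p.Prime] (hS : IsPGroup p S) (hT : F.StronglyClosed T)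
    {Y : Subgroup Ω} (hY : Y ≤ S) {Φ : MulAut Y} (hΦ : Φ ∈ F.autGroup Y)
    (hco : (orderOf Φ).Coprime p) {y c : Ω} (hy : y ∈ Y) (hc : c ∈ Y)
    (hcfix : c⁻¹ * afun Φ c ∈ T) (h : (y * c)⁻¹ * afun Φ y ∈ T) : y⁻¹ * afun Φ y ∈ T := by
  haveI hn : (T.subgroupOf S).Normal :=
    ⟨fun m hm a => cj_mem_of_stronglyClosed hT a.2 (Subgroup.mem_subgroupOf.1 hm)⟩
  let q : Y →* S ⧸ T.subgroupOf S :=
    (QuotientGroup.mk' (T.subgroupOf S)).comp (Subgroup.inclusion hY)
  have hq1 : ∀ y : Y, q y = 1 ↔ (y : Ω) ∈ T := fun y => by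
    show QuotientGroup.mk' (T.subgroupOf S) (Subgroup.inclusion hY y) = 1 ↔ _
    rw [QuotientGroup.mk'_apply, QuotientGroup.eq_one_iff, Subgroup.mem_subgroupOf]
    rfl
  have hqinv : ∀ a b : Y, q a = q b → q (Φ a) = q (Φ b) := fun a b hab => by
    have h1 : ((a⁻¹ * b : Y) : Ω) ∈ T := (hq1 _).1 (by rw [map_mul, map_inv, hab, inv_mul_cancel])
    have h2 := closed_apply' hT ((mem_autGroup hY).1 hΦ) (a⁻¹ * b).2 h1
    rw [afun_coe] at h2
    have h3 := (hq1 _).2 h2
    rw [map_mul, map_inv, map_mul, map_inv, inv_mul_eq_one] at h3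
    exact h3
  set cY : Y := ⟨c, hc⟩
  set yY : Y := ⟨y, hy⟩
  have hcq : q (Φ cY) = q cY := by
    rw [eq_comm, ← inv_mul_eq_one, ← map_inv, ← map_mul]
    refine (hq1 _).2 ?_
    rw [Subgroup.coe_mul, Subgroup.coe_inv, ← afun_coe]
    exact hcfix
  have hyq : q (Φ yY) = q yY * q cY := by
    rw [← map_mul, eq_comm, ← inv_mul_eq_one, ← map_inv, ← map_mul]
    refine (hq1 _).2 ?_
    rw [Subgroup.coe_mul, Subgroup.coe_inv, ← afun_coe]
    exact h
  have hiter : ∀ i : ℕ, q ((Φ ^ i) yY) = q yY * q cY ^ i := by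
    intro i
    induction i with
    | zero => simp
    | succ i ih =>
      rw [pow_succ' Φ, MulAut.mul_apply, hqinv _ (yY * cY ^ i) (by rw [ih, map_mul, map_pow]),
        map_mul, map_mul, map_pow, map_pow, hyq, hcq, pow_succ', mul_assoc]
  have h1 := hiter (orderOf Φ)
  rw [pow_orderOf_eq_one, MulAut.one_apply, left_eq_mul, ← map_pow, hq1, Subgroup.coe_pow] at h1
  obtain ⟨i, hi⟩ := hS ⟨c, hY hc⟩
  have hcT : c ∈ T := FusionWeaklyNormal88.mem_of_coprime_pow (hco.pow_right i) h1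
    (by rw [show c ^ p ^ i = 1 from congrArg Subtype.val hi]; exact one_mem _)
  have h4 := T.mul_mem hcT h
  simpa [mul_assoc] using h4

namespace Ctx

variable (h : Ctx F E p)
include h

variable [Finite S]

theorem bst_back {Q Q' : Subgroup Ω} {θ : Ω → Ω} (hθ : Mor F Q θ) (him : im Q θ = Q')
    {a : MulAut Q} (ha : hθ.transport him a ∈ bst F E Q') : a ∈ bst F E Q := by
  obtain ⟨i, hi, hiφ, -, -⟩ := hθ.exists_inv
  rw [him] at hi
  have himi : im Q' i = Q := by
    rw [← him, hθ.im_comp]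
    exact (im_congr fun x hx => hiφ x hx).trans (im_id Q)
  rw [← transport_inv hθ him hi himi hiφ a]
  exact h.bst_transport hi himi ha

/-- Everything in the part belonging to `E` is trivial modulo `T` and in `E` on `Q ⊓ T`. -/
theorem inA_bst {Q : Subgroup Ω} {a : MulAut Q} (ha : InA F E p Q a) : a ∈ bst F E Q := by
  induction ha with
  | base hθ him hr hc hb => exact h.bst_back hθ him (h.baseG_le_bst hr.1.1 hb)
  | @step Q Q' θ a hθ him hr hc b hb he ih =>
    obtain ⟨hbF, hbT, e, hee, hbe⟩ := ih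
    refine h.bst_back hθ him ⟨?_, fun x hx => ?_, ?_⟩
    · exact mem_autGroup_of_mor ((((mem_autGroup ((h.upq_le hr.1.1).trans inf_le_left)).1 hbF
        ).restrict_to le_sup_left).congr he)
    · rw [← he x hx]
      exact hbT x (Subgroup.mem_sup_left hx)
    · have hQT : Q' ⊓ T ≤ upq T Q' ⊓ T := inf_le_inf_right T le_sup_left
      haveI := finite_of_le h.T_le
      have hm := ((mem_autGroup (inf_le_right : upq T Q' ⊓ T ≤ T)).1 hee).restrict_to hQT
      obtain ⟨d, hd, hde⟩ := hm.exists_aut (hm.im_self fun x hx => ⟨by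
        rw [← hbe x (hQT hx), he x hx.1]; exact afun_mem _ hx.1, (afun_mem e (hQT hx)).2⟩)
      exact ⟨d, hd, fun x hx => by rw [← he x hx.1, hbe x (hQT hx), hde x hx]⟩

theorem inA_mem {Q : Subgroup Ω} {a : MulAut Q} (ha : InA F E p Q a) : a ∈ F.autGroup Q :=
  (h.inA_bst ha).1

theorem inA_conj {Q : Subgroup Ω} (hQ : Q ≤ S) {a b : MulAut Q} (ha : a ∈ F.autGroup Q)
    (hb : InA F E p Q b) : InA F E p Q (a * b * a⁻¹) :=
  mor_conj_eq ((mem_autGroup hQ).1 ha) b ▸ inA_transport _ _ hb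

omit [Finite S] in
/-- Maps of the normalizers carry `Aut_T(Q)` into `Aut_T(Q')`. -/
theorem autT_transport {Q Q' : Subgroup Ω} {γ : Ω → Ω} (hγ : Mor F (normalizerIn S Q) γ)
    (hγN : ∀ g ∈ normalizerIn S Q, γ g ∈ normalizerIn S Q') (hQ : Q ≤ S)
    (hγQ : im Q γ = Q') {a : MulAut Q} (ha : a ∈ autInducedBy T Q) :
    (hγ.restrict_to (le_normalizerIn hQ)).transport hγQ a ∈ autInducedBy T Q' := by
  obtain ⟨t, ht, htn, hte⟩ := mem_autInducedBy.1 ha
  have htN : t ∈ normalizerIn S Q := ⟨h.T_le ht, htn⟩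
  have hQN := le_normalizerIn (S := S) hQ
  refine mem_autInducedBy.2 ⟨γ t, closed_apply' h.closed hγ htN ht, (hγN t htN).2, fun y hy => ?_⟩
  obtain ⟨x, hx, rfl⟩ := (hγ.restrict_to hQN).mem_im.1 (hγQ.symm ▸ hy)
  rw [(hγ.restrict_to hQN).afun_transport hγQ a hx, hte x hx, hγ.map_cj htN (hQN hx)]

theorem baseG_transport {Q Q' : Subgroup Ω} {γ : Ω → Ω} (hγ : Mor F (normalizerIn S Q) γ)
    (hγN : ∀ g ∈ normalizerIn S Q, γ g ∈ normalizerIn S Q') (hQ : Q ≤ S)
    (hγQ : im Q γ = Q') {a : MulAut Q} (ha : a ∈ baseG F E p Q) :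
    (hγ.restrict_to (le_normalizerIn hQ)).transport hγQ a ∈ baseG F E p Q' := by
  set t := (hγ.restrict_to (le_normalizerIn hQ)).transport hγQ
  have : baseG F E p Q ≤ (baseG F E p Q').comap t.toMonoidHom := by
    refine sup_le ((Subgroup.closure_le _).2 fun b hb => ?_) fun b hb =>
      Subgroup.mem_sup_right (h.autT_transport hγ hγN hQ hγQ hb)
    exact Subgroup.mem_sup_left (Subgroup.subset_closure
      ⟨h.bst_transport _ hγQ hb.1, (congrArg (fun n : ℕ => n.Coprime p) (t.orderOf_eq b)).mpr hb.2⟩)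
  exact this ha

variable [Fact p.Prime]

/-- At a representative, `baseG` is normal in `Aut_F(Q)`. -/
theorem baseG_conj {Q : Subgroup Ω} (hQn : F.IsFullyNormalized Q) {a : MulAut Q}
    (ha : a ∈ F.autGroup Q) {b : MulAut Q} (hb : b ∈ baseG F E p Q) :
    a * b * a⁻¹ ∈ baseG F E p Q := by
  classical
  have hQ := hQn.1
  haveI := finite_autGroup (F := F) Q
  set A := Subgroup.closure {a | a ∈ bst F E Q ∧ (orderOf a).Coprime p} with hA
  have hBF : baseG F E p Q ≤ F.autGroup Q := fun x hx => (h.baseG_le_bst hQ hx).1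
  haveI : Finite (baseG F E p Q) := Finite.of_injective _ (Subgroup.inclusion_injective hBF)
  -- automorphisms carrying `Aut_T(Q)` into `baseG` normalize it
  have key : ∀ g ∈ F.autGroup Q, (∀ t ∈ autInducedBy T Q, g * t * g⁻¹ ∈ baseG F E p Q) →
      g ∈ Subgroup.normalizer (baseG F E p Q : Set (MulAut Q)) := by
    intro g hg hgT
    have hle : (baseG F E p Q).map (MulAut.conj g).toMonoidHom ≤ baseG F E p Q := by
      rw [Subgroup.map_le_iff_le_comap]
      refine sup_le ((Subgroup.closure_le _).2 fun x hx => ?_) fun x hx => ?_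
      · exact Subgroup.mem_sup_left (Subgroup.subset_closure ⟨h.bst_conj hQ hg hx.1,
          (congrArg (fun n : ℕ => n.Coprime p) ((MulAut.conj g).orderOf_eq x)).mpr hx.2⟩)
      · exact hgT x hx
    have e := Subgroup.eq_of_le_of_card_ge hle
      (Nat.card_congr ((baseG F E p Q).equivMapOfInjective (MulAut.conj g).toMonoidHom
        (MulAut.conj g).injective).toEquiv).le
    refine Subgroup.mem_normalizer_iff.2 fun x => ⟨fun hx => hle ⟨x, hx, rfl⟩, fun hx => ?_⟩
    obtain ⟨y, hy, hye⟩ := e.ge hx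
    obtain rfl : y = x := (MulAut.conj g).injective hye
    exact hy
  -- a Frattini argument
  have hN : nK S Q (bst F E Q) ≤ normalizerIn S Q := le_inf nK_le (nK_normalizes hQ)
  obtain ⟨β, hβ, m, hm, -, rfl, f, hf, hfe⟩ := FusionFrattini88.frattini_ext h.pgrp h.sat hQn
    (bst F E Q) (fun a ha m hm _ => h.bst_conj hQ ha hm) hN
    (fun g hg => by
      obtain ⟨-, κ, hκ, hκe⟩ := id hg
      rwa [afun_ext (α := nHom S Q ⟨g, hN hg⟩) (β := κ) fun x hx => by
        rw [hκe x hx, afun_nHom _ hx]]) ha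
  have hβN : β ∈ Subgroup.normalizer (baseG F E p Q : Set (MulAut Q)) := by
    refine key β hβ fun t ht => Subgroup.mem_sup_right ?_
    obtain ⟨u, hu, hun, hue⟩ := mem_autInducedBy.1 ht
    have huN : u ∈ nK S Q (bst F E Q) := ⟨h.T_le hu, t, h.autT_le_bst hQ ht, hue⟩
    have huQ : u ∈ Q ⊔ nK S Q (bst F E Q) := Subgroup.mem_sup_right huN
    have hfQ : im Q f = Q := (im_congr hfe).trans (im_afun β)
    refine mem_autInducedBy.2 ⟨f u, closed_apply' h.closed hf huQ hu,
      hfQ ▸ FusionWeaklyNormal88.apply_normalizes hf le_sup_left huQ hun, fun y hy => ?_⟩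
    obtain ⟨x, hx, rfl⟩ : ∃ x ∈ Q, afun β x = y :=
      ⟨afun β⁻¹ y, afun_mem _ hy, afun_apply_inv β hy⟩
    rw [afun_mul _ _ (afun_mem β hx), afun_inv_apply β hx, afun_mul _ _ hx, hue x hx,
      ← hfe x hx, ← hf.map_cj huQ (Subgroup.mem_sup_left hx),
      hfe _ (cj_mem_of_normalizer hun hx)]
  have hmN : m ∈ Subgroup.normalizer (baseG F E p Q : Set (MulAut Q)) := by
    have hBa : bst F E Q ≤ F.autGroup Q := fun x hx => hx.1
    haveI : Finite (bst F E Q) := Finite.of_injective _ (Subgroup.inclusion_injective hBa)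
    obtain ⟨P0, hP0⟩ := FusionCentralLift.sylIn_inf
      (fullyAutomized_of_fullyNormalized h.pgrp h.sat hQn).2 (isPGroup_autInducedBy h.pgrp Q) hBa
      fun a ha m hm => h.bst_conj hQ ha hm
    have htop : (⊤ : Subgroup (bst F E Q)) ≤
        (Subgroup.normalizer (baseG F E p Q : Set (MulAut Q))).subgroupOf (bst F E Q) := by
      rw [← TransferPResidual.sylow_sup_pResidual P0]
      refine sup_le (fun g hg => ?_) (TransferPResidual.pResidual_le_iff_coprime.2 fun g hg => ?_)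
      · rw [hP0, Subgroup.mem_subgroupOf] at hg
        obtain ⟨s, hs, hsn, hse⟩ := mem_autInducedBy.1 hg.1
        refine Subgroup.mem_subgroupOf.2 (key _ (hBa g.2) fun t ht => Subgroup.mem_sup_right ?_)
        obtain ⟨u, hu, hun, hue⟩ := mem_autInducedBy.1 ht
        refine mem_autInducedBy.2 ⟨cj s u, cj_mem_of_stronglyClosed h.closed hs hu,
          Subgroup.mul_mem _ (Subgroup.mul_mem _ hsn hun) (Subgroup.inv_mem _ hsn), fun y hy => ?_⟩
        have hy' : cj s⁻¹ y ∈ Q := cj_mem_of_normalizer (Subgroup.inv_mem _ hsn) hy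
        have e1 : afun (g : MulAut Q)⁻¹ y = cj s⁻¹ y := by
          conv_lhs => rw [← cj_cj_inv s y, ← hse _ hy']
          exact afun_inv_apply _ hy'
        rw [afun_mul _ _ hy, e1, afun_mul _ _ hy', hue _ hy',
          hse _ (cj_mem_of_normalizer hun hy')]
        simp [cj_apply, mul_assoc]
      · refine Subgroup.mem_subgroupOf.2 (Subgroup.le_normalizer (Subgroup.mem_sup_left
          (Subgroup.subset_closure ⟨g.2, ?_⟩)))
        rwa [Subgroup.orderOf_coe]
    exact htop (x := ⟨m, hm⟩) trivial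
  exact (Subgroup.mem_normalizer_iff.1 (Subgroup.mul_mem _ hβN hmN) b).1 hb

/-- At a representative the part belonging to `E` is computed directly. -/
theorem inA_rep {Q : Subgroup Ω} (hr : Rep F T Q) {a : MulAut Q} (ha : InA F E p Q a) :
    (TCq F T Q → a ∈ baseG F E p Q) ∧
      (¬ TCq F T Q → ∃ b, InA F E p (upq T Q) b ∧ ∀ x ∈ Q, afun b x = afun a x) := by
  have hQS := hr.1.1
  have hQN := le_normalizerIn (S := S) hQS
  have main : ∀ {Q' : Subgroup Ω} {θ : Ω → Ω} (hθ : Mor F Q θ) (him : im Q θ = Q'),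
      Rep F T Q' → ∃ γ, ∃ hγ : Mor F (normalizerIn S Q') γ, ∃ hγQ : im Q' γ = Q,
        (∀ g ∈ normalizerIn S Q', γ g ∈ normalizerIn S Q) ∧ im (upq T Q') γ = upq T Q ∧
        ∃ η ∈ F.autGroup Q, ∀ hQ' : Q' ≤ S, ∀ a : MulAut Q,
          a = η * (hγ.restrict_to (le_normalizerIn hQ')).transport hγQ (hθ.transport him a) * η⁻¹ := by
    intro Q' θ hθ him hr'
    obtain ⟨γ, hγ, hγQ, hγN, hγU⟩ :=
      h.exists_link hr' hr (isConj_symm (FusionSysBasic.isConj_iff.2 ⟨θ, hθ, him⟩))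
    have hQ'N := le_normalizerIn (S := S) hr'.1.1
    have hcomp : Mor F Q (γ ∘ θ) :=
      hθ.comp hγ fun x hx => hQ'N (him ▸ apply_mem_im hx)
    have hcim : im Q (γ ∘ θ) = Q := by rw [← hθ.im_comp, him, hγQ]
    obtain ⟨u, hu, hue⟩ := hcomp.exists_aut hcim
    refine ⟨γ, hγ, hγQ, fun g hg => hγN ▸ apply_mem_im hg, hγU, u⁻¹, inv_mem hu, fun hQ' a => ?_⟩
    rw [transport_comp hθ him _ hγQ hcomp hcim,
      transport_congr hcomp hcim ((mem_autGroup hQS).1 hu) (im_afun u) fun x hx => (hue x hx).symm,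
      mor_conj_eq]
    group
  cases ha with
  | base hθ him hr' hc hb =>
    obtain ⟨γ, hγ, hγQ, hγN, -, η, hη, he⟩ := main hθ him hr'
    refine ⟨fun _ => ?_, fun hn => absurd (tcq_conj h.closed
      (hγ.restrict_to (le_normalizerIn hr'.1.1)) hγQ hc) hn⟩
    rw [he hr'.1.1 a]
    exact h.baseG_conj hr.1 hη (h.baseG_transport hγ hγN hr'.1.1 hγQ hb)
  | @step _ Q' θ _ hθ him hr' hc b hb hbe =>
    obtain ⟨γ, hγ, hγQ, hγN, hγU, η, hη, he⟩ := main hθ him hr'
    refine ⟨fun hn => absurd ?_ hc, fun _ => ?_⟩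
    · obtain ⟨i, hi, hiγ, -, -⟩ := (hγ.restrict_to (le_normalizerIn hr'.1.1)).exists_inv
      rw [hγQ] at hi
      have h1 := (hγ.restrict_to (le_normalizerIn hr'.1.1)).im_comp i
      rw [hγQ] at h1
      exact tcq_conj h.closed hi
        (h1.trans ((im_congr fun x hx => hiγ x hx).trans (im_id Q'))) hn
    · have hγ' := hγ.restrict_to (h.upq_le hr'.1.1)
      obtain ⟨e, he', hee⟩ := h.exists_ext_upq hr.1 hη
      refine ⟨e * hγ'.transport hγU b * e⁻¹,
        h.inA_conj ((h.upq_le hQS).trans inf_le_left) he' (inA_transport hγ' hγU hb), ?_⟩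
      intro x hx
      have hU : ∀ {z : Ω}, z ∈ Q → z ∈ upq T Q := fun hz => Subgroup.mem_sup_left hz
      have hx' := afun_mem η⁻¹ hx
      have h1 : afun e⁻¹ x = afun η⁻¹ x := by
        conv_lhs => rw [← afun_apply_inv η hx, ← hee _ hx']
        exact afun_inv_apply e (hU hx')
      obtain ⟨z, hz, hze⟩ := (hγ.restrict_to (le_normalizerIn hr'.1.1)).mem_im.1
        (show afun η⁻¹ x ∈ im Q' γ by rw [hγQ]; exact hx')
      conv_rhs => rw [he hr'.1.1 a, afun_mul _ _ hx, afun_mul _ _ (afun_mem _ hx)]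
      rw [afun_mul _ _ (hU hx), afun_mul _ _ (afun_mem e⁻¹ (hU hx)), h1, ← hze,
        (hγ.restrict_to (le_normalizerIn hr'.1.1)).afun_transport hγQ _ hz,
        hγ'.afun_transport hγU b (Subgroup.mem_sup_left hz), hbe z hz,
        hee _ (hγQ.le (apply_mem_im (afun_mem _ hz)))]

/-- The part belonging to `E` contains `1` and is closed under products and inverses. -/
theorem inA_group {Q : Subgroup Ω} (hQ : F.IsCentric Q) :
    InA F E p Q 1 ∧ (∀ a b, InA F E p Q a → InA F E p Q b → InA F E p Q (a * b)) ∧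
      ∀ a, InA F E p Q a → InA F E p Q a⁻¹ := by
  suffices key : ∀ (n : ℕ) {Q : Subgroup Ω}, F.IsCentric Q → Nat.card S ≤ Nat.card Q + n →
      InA F E p Q 1 ∧ (∀ a b, InA F E p Q a → InA F E p Q b → InA F E p Q (a * b)) ∧
        ∀ a, InA F E p Q a → InA F E p Q a⁻¹ from key _ hQ (Nat.le_add_left _ _)
  intro n
  induction n using Nat.strong_induction_on with
  | _ n ih =>
  intro Q hQ hn
  obtain ⟨Q', θ, hr, hθN, hθQ, -⟩ := h.exists_rep hQ
  have hθ := hθN.restrict_to (le_normalizerIn hQ.1)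
  have hQ'S := hr.1.1
  by_cases hc : TCq F T Q'
  · have hrep : ∀ {a : MulAut Q}, InA F E p Q a → hθ.transport hθQ a ∈ baseG F E p Q' :=
      fun ha => (h.inA_rep hr (inA_transport hθ hθQ ha)).1 hc
    refine ⟨InA.base hθ hθQ hr hc (by rw [map_one]; exact one_mem _), fun a b ha hb => ?_,
      fun a ha => ?_⟩
    · exact InA.base hθ hθQ hr hc (by rw [map_mul]; exact mul_mem (hrep ha) (hrep hb))
    · exact InA.base hθ hθQ hr hc (by rw [map_inv]; exact inv_mem (hrep ha))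
  · have hlt := h.card_lt_upq hr hc
    have hUS := (h.upq_le hQ'S).trans inf_le_left
    have hcU : F.IsCentric (upq T Q') := FusCentric.centric_upward hr.2.2 (le_upq Q') hUS
    have hle : Nat.card (upq T Q') ≤ Nat.card S := Subgroup.card_le_of_le hUS
    have hcard : Nat.card Q' = Nat.card Q := by rw [← hθQ, hθ.card_im]
    obtain ⟨h1, hmul, hinv⟩ := ih (n - 1) (by omega) hcU (by omega)
    have hrep : ∀ {a : MulAut Q}, InA F E p Q a → ∃ b, InA F E p (upq T Q') b ∧
        ∀ x ∈ Q', afun b x = afun (hθ.transport hθQ a) x :=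
      fun ha => (h.inA_rep hr (inA_transport hθ hθQ ha)).2 hc
    have hsub : ∀ {z : Ω}, z ∈ Q' → z ∈ upq T Q' := fun hz => Subgroup.mem_sup_left hz
    refine ⟨InA.step hθ hθQ hr hc 1 h1 fun x hx => by
      rw [map_one, afun_one hx, afun_one (hsub hx)], fun a b ha hb => ?_, fun a ha => ?_⟩
    · obtain ⟨c, hc1, hce⟩ := hrep ha
      obtain ⟨d, hd, hde⟩ := hrep hb
      refine InA.step hθ hθQ hr hc (c * d) (hmul c d hc1 hd) fun x hx => ?_
      rw [map_mul, afun_mul _ _ (hsub hx), afun_mul _ _ hx, hde x hx, hce _ (afun_mem _ hx)]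
    · obtain ⟨c, hc1, hce⟩ := hrep ha
      refine InA.step hθ hθQ hr hc c⁻¹ (hinv c hc1) fun x hx => ?_
      rw [map_inv]
      set u := hθ.transport hθQ a
      conv_lhs => rw [← afun_apply_inv u hx, ← hce _ (afun_mem u⁻¹ hx)]
      exact afun_inv_apply c (hsub (afun_mem u⁻¹ hx))

/-- The part belonging to `E`, as a subgroup. -/
def aSub {Q : Subgroup Ω} (hQ : F.IsCentric Q) : Subgroup (MulAut Q) where
  carrier := {a | InA F E p Q a}
  one_mem' := (h.inA_group hQ).1
  mul_mem' := fun {a b} ha hb => (h.inA_group hQ).2.1 a b ha hb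
  inv_mem' := fun {a} ha => (h.inA_group hQ).2.2 a ha

theorem autT_inA {Q : Subgroup Ω} (hQ : F.IsCentric Q) {a : MulAut Q}
    (ha : a ∈ autInducedBy T Q) : InA F E p Q a := by
  suffices key : ∀ (n : ℕ) {Q : Subgroup Ω}, F.IsCentric Q → Nat.card S ≤ Nat.card Q + n →
      ∀ {a : MulAut Q}, a ∈ autInducedBy T Q → InA F E p Q a from key _ hQ (Nat.le_add_left _ _) ha
  intro n
  induction n using Nat.strong_induction_on with
  | _ n ih =>
  intro Q hQ hn a ha
  obtain ⟨Q', θ, hr, hθN, hθQ, hθN'⟩ := h.exists_rep hQ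
  have hθ := hθN.restrict_to (le_normalizerIn hQ.1)
  have ha' : hθ.transport hθQ a ∈ autInducedBy T Q' := h.autT_transport hθN hθN' hQ.1 hθQ ha
  by_cases hc : TCq F T Q'
  · exact InA.base hθ hθQ hr hc (Subgroup.mem_sup_right ha')
  · obtain ⟨t, ht, htn, hte⟩ := mem_autInducedBy.1 ha'
    have hQ'S := hr.1.1
    have hlt := h.card_lt_upq hr hc
    have hUS := (h.upq_le hQ'S).trans inf_le_left
    have hle : Nat.card (upq T Q') ≤ Nat.card S := Subgroup.card_le_of_le hUS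
    have hcard : Nat.card Q' = Nat.card Q := by rw [← hθQ, hθ.card_im]
    have hm := mor_cj (F := F) hUS (h.T_le ht)
    have htU : ∀ x ∈ upq T Q', cj t x ∈ upq T Q' := fun x hx =>
      h.upq_map hm (mem_normalizer_iff_im_cj.1 htn) (apply_mem_im hx)
    have htUn : t ∈ Subgroup.normalizer ((upq T Q' : Subgroup Ω) : Set Ω) :=
      mem_normalizer_of_cj_le hUS htU
    exact InA.step hθ hθQ hr hc (nHom T (upq T Q') ⟨t, ht, htUn⟩)
      (ih (n - 1) (by omega) (FusCentric.centric_upward hr.2.2 (le_upq Q') hUS) (by omega)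
        (mem_autInducedBy.2 ⟨t, ht, htUn, fun x hx => afun_nHom _ hx⟩))
      fun x hx => by rw [afun_nHom _ (mem_upq hx), hte x hx]

/-- In the relatively centric case, an automorphism of order prime to `p` normalizing a group of
automorphisms induced by `S` moves it only by elements induced by `T`. -/
theorem base_comm {Q : Subgroup Ω} (hr : Rep F T Q) (hc : TCq F T Q) {L : Subgroup (MulAut Q)}
    (hL : L ≤ autInducedBy S Q) {g : MulAut Q} (hg : g ∈ bst F E Q) (hco : (orderOf g).Coprime p)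
    (hgL : ∀ l ∈ L, g * l * g⁻¹ ∈ L) :
    ∀ l ∈ L, g * l * g⁻¹ * l⁻¹ ∈ autInducedBy T Q := by
  classical
  obtain ⟨hgF, hgT, e, he, hge⟩ := hg
  have hQS := hr.1.1
  have hTS := h.T_le
  haveI := finite_of_le hTS
  haveI := finite_of_le hQS
  -- an extension of `g` to the preimage `W` of `L`
  set W := Q ⊔ nK S Q L with hW
  have hWN : W ≤ normalizerIn S Q := sup_le (le_normalizerIn hQS) (le_inf nK_le (nK_normalizes hQS))
  have hWS : W ≤ S := hWN.trans inf_le_left
  haveI := finite_of_le hWS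
  obtain ⟨f, hf, hfe⟩ := (receptive_iff.1 (receptive_of_fullyNormalized h.pgrp h.sat hr.1)).2 Q _
    (nK S Q L) ((mem_autGroup hQS).1 hgF) (im_afun g) nK_le (nK_normalizes hQS) (by
      intro w hw
      obtain ⟨-, l, hl, hle⟩ := id hw
      obtain ⟨k, hk, hkn, hke⟩ := mem_autInducedBy.1 (hL (hgL l hl))
      refine ⟨k, hk, fun x hx => ?_⟩
      rw [← hke _ (afun_mem g hx), afun_mul _ _ (afun_mem g hx), afun_inv_apply g hx,
        afun_mul _ _ hx, hle x hx])
  have hfQ : ∀ x ∈ Q, f x ∈ Q := fun x hx => hfe x hx ▸ afun_mem g hx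
  have hfW : ∀ x ∈ W, f x ∈ W := fun x hx => mor_sup_induction hf
    (fun y hy => Subgroup.mem_sup_left (hfQ y hy))
    (fun w hw => by
      obtain ⟨-, l, hl, hle⟩ := id hw
      refine Subgroup.mem_sup_right ⟨hf.apply_mem (Subgroup.mem_sup_right hw), _, hgL l hl,
        fun y hy => ?_⟩
      have hy' := afun_mem g⁻¹ hy
      rw [afun_mul _ _ hy, afun_mul _ _ hy']
      conv_rhs => rw [← afun_apply_inv g hy, ← hfe _ hy',
        ← hf.map_cj (Subgroup.mem_sup_right hw) (Subgroup.mem_sup_left hy'), ← hle _ hy',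
        hfe _ (afun_mem l hy')]) hx
  obtain ⟨Ψ, hΨ, hΨe⟩ := hf.exists_aut (hf.im_self hfW)
  haveI := finite_autGroup (F := F) W
  have hn0 : orderOf Ψ ≠ 0 := by
    have := isOfFinOrder_of_finite (⟨Ψ, hΨ⟩ : F.autGroup W)
    exact (orderOf_pos_iff.2 ((F.autGroup W).subtype.isOfFinOrder this)).ne'
  obtain ⟨k, hk⟩ := FusionMeetKey.exists_exponent (p := p) hn0
  have hQW : Q ≤ W := le_sup_left
  have hpow := FusionCentralizerSub.pow_restrict hQW
    (fun x hx => (hΨe x (hQW hx)).trans (hfe x hx))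
  have hgk : g ^ k = g := by
    refine (hk g (orderOf_dvd_of_pow_eq_one (afun_ext fun x hx => ?_))).2 hco
    rw [← hpow _ x hx, pow_orderOf_eq_one, afun_one (hQW hx), afun_one hx]
  set Φ := Ψ ^ k with hΦ
  have hΦco : (orderOf Φ).Coprime p := (hk Ψ dvd_rfl).1
  have hΦF : Φ ∈ F.autGroup W := pow_mem hΨ k
  have hΦm := (mem_autGroup hWS).1 hΦF
  have hΦg : ∀ x ∈ Q, afun Φ x = afun g x := fun x hx => by rw [hΦ, hpow k x hx, hgk]
  -- a trivial extension of the restriction to `Q ⊓ T`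
  have hW0 : W ≤ normalizerIn S (Q ⊓ T) := hWN.trans (h.normalizer_le_inf hQS)
  have hQ0 : Q ⊓ T ≤ W := inf_le_left.trans hQW
  set L0 := autInducedBy W (Q ⊓ T) with hL0
  have hae : ∀ x ∈ Q ⊓ T, afun Φ x = afun e x := fun x hx => by rw [hΦg x hx.1, hge x hx]
  have hconj : ∀ w ∈ W, ∀ x ∈ Q ⊓ T, cj (afun Φ w) (afun e x) = afun e (cj w x) := fun w hw x hx => by
    rw [← hae x hx, ← hΦm.map_cj hw (hQ0 hx),
      hae _ (cj_mem_of_normalizer (hW0 hw).2 hx)]
  have hΦN : ∀ w ∈ W, afun Φ w ∈ Subgroup.normalizer ((Q ⊓ T : Subgroup Ω) : Set Ω) :=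
    fun w hw => (hW0 (afun_mem Φ hw)).2
  have heL : ∀ l ∈ L0, e * l * e⁻¹ ∈ L0 := by
    intro l hl
    obtain ⟨w, hw, hwn, hwe⟩ := mem_autInducedBy.1 hl
    refine mem_autInducedBy.2 ⟨afun Φ w, afun_mem Φ hw, hΦN w hw, fun y hy => ?_⟩
    have hy' := afun_mem e⁻¹ hy
    rw [afun_mul _ _ hy, afun_mul _ _ hy', hwe _ hy', ← hconj w hw _ hy', afun_apply_inv e hy]
  have heco : (orderOf e).Coprime p := hco.coprime_dvd_left (orderOf_dvd_of_pow_eq_one
    (afun_ext fun x hx => by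
      rw [← FusionCentralizerSub.pow_restrict (inf_le_left : Q ⊓ T ≤ Q) (fun y hy => hge y hy) _ x hx,
        pow_orderOf_eq_one, afun_one hx.1, afun_one hx]))
  have hcommT : ∀ l ∈ L0, e * l * e⁻¹ * l⁻¹ ∈ autInducedBy T (Q ⊓ T) := by
    intro l hl
    refine FusionMeet.autS_inf_le h.pgrp h.nE inf_le_right hr.2.1 ⟨?_, ?_⟩
    · exact mul_mem (autInducedBy_mono hWS _ (heL l hl))
        (Subgroup.inv_mem _ (autInducedBy_mono hWS _ hl))
    · have hlF : l ∈ F.autGroup (Q ⊓ T) :=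
        autInducedBy_le hr.2.1.1 (autInducedBy_mono hWS _ hl)
      rw [show e * l * e⁻¹ * l⁻¹ = e * (l * e⁻¹ * l⁻¹) by group]
      exact mul_mem he (FusionCentralizerSub.conj_mem_autGroup h.inv inf_le_right hlF (inv_mem he))
  obtain ⟨ψ, hψ, hψe, -, hψT⟩ := FusionMeetKey.exists_trivial_extension h.pgrp h.sat h.nE
    inf_le_right hr.2.1 he heco heL hcommT
  have hWK : W ≤ nK S (Q ⊓ T) L0 := fun w hw => ⟨hWS hw, nHom W (Q ⊓ T) ⟨w, hw, (hW0 hw).2⟩,
    mem_autInducedBy.2 ⟨w, hw, (hW0 hw).2, fun x hx =>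
      afun_nHom (⟨w, hw, (hW0 hw).2⟩ : ↥(W ⊓ Subgroup.normalizer ((Q ⊓ T : Subgroup Ω) : Set Ω))) hx⟩,
    fun x hx => afun_nHom _ hx⟩
  have hWD : ∀ {w : Ω}, w ∈ W → w ∈ (Q ⊓ T) ⊔ nK S (Q ⊓ T) L0 := fun hw =>
    Subgroup.mem_sup_right (hWK hw)
  -- `ψ` maps `Q` to itself
  have hψQ : ∀ q ∈ Q, ψ q ∈ Q := by
    intro q hq
    have hqW := hQW hq
    have hd : (afun Φ q)⁻¹ * ψ q ∈ Q ⊓ T := by
      refine hc _ (isConj_refl hr.2.1.1) (mem_centralizerIn.2 ⟨?_, fun y hy => ?_⟩)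
      · have h1 := hψT q (hWK hqW)
        have h2 := hgT q hq
        rw [← hΦg q hq] at h2
        have h3 := T.mul_mem (T.inv_mem h2) h1
        simpa [mul_assoc] using h3
      · obtain ⟨x, hx, rfl⟩ : ∃ x ∈ Q ⊓ T, afun e x = y :=
          ⟨afun e⁻¹ y, afun_mem _ hy, afun_apply_inv e hy⟩
        rw [← cj_cj]
        conv_lhs => rw [← hψe x hx, ← hψ.map_cj (hWD hqW) (Subgroup.mem_sup_left hx),
          hψe _ (cj_mem_of_normalizer (hW0 hqW).2 hx), ← hconj q hqW x hx, cj_inv_cj]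
    have h4 := Q.mul_mem (afun_mem Φ hqW |> fun _ => hΦg q hq ▸ afun_mem g hq : afun Φ q ∈ Q) hd.1
    rwa [mul_inv_cancel_left] at h4
  have hψQm : Mor F Q ψ := hψ.restrict_to fun x hx => hWD (hQW hx)
  obtain ⟨γ, hγ, hγe⟩ := hψQm.exists_aut (hψQm.im_self hψQ)
  -- the difference is a conjugation
  obtain ⟨K, hK, hKS, -⟩ := h.exists_kerQ hr.1
  have hkK : γ * g⁻¹ ∈ K := by
    refine (hK _).2 ⟨mul_mem hγ (inv_mem hgF), fun x hx => ?_, fun x hx => ?_⟩
    · have hx' := afun_mem e⁻¹ hx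
      have h1 : afun g⁻¹ x = afun e⁻¹ x := by
        conv_lhs => rw [← afun_apply_inv e hx, ← hge _ hx']
        exact afun_inv_apply g hx'.1
      rw [afun_mul _ _ hx.1, h1, hγe _ hx'.1, hψe _ hx', afun_apply_inv e hx]
    · have hx' := afun_mem g⁻¹ hx
      rw [afun_mul _ _ hx, hγe _ hx']
      have h1 := hgT _ hx'
      rw [afun_apply_inv g hx] at h1
      have h2 := T.mul_mem (T.inv_mem h1) (hψT _ (hWK (hQW hx')))
      simpa [mul_assoc] using h2
  obtain ⟨s, hs, hsn, hse⟩ := mem_autInducedBy.1 (hKS hkK)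
  have hsi := S.inv_mem hs
  have himW : im W ψ ≤ S := (hψ.restrict_to fun w hw => hWD hw).im_le
  have hf' : Mor F W (cj s⁻¹ ∘ ψ) :=
    (hψ.restrict_to fun w hw => hWD hw).comp_im (mor_cj himW hsi)
  obtain ⟨z, hz, -, hzeq⟩ := FusCentric.extension_unique h.pgrp h.sat hr.2.2 hQW
    (hWN.trans inf_le_right) hΦm hf' fun q hq => by
      have h1 : ψ q = cj s (afun Φ q) := by
        rw [← hγe q hq, hΦg q hq, ← hse _ (afun_mem g hq), afun_mul _ _ (afun_mem g hq),
          afun_inv_apply g hq]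
      rw [Function.comp_apply, h1, cj_inv_cj]
  have hu : s⁻¹ * z ∈ S := S.mul_mem hsi (hQS hz)
  have htriv := triv_of_conj h.pgrp h.closed hWS hΦco hu fun w hw => by
    have hzw : cj z w ∈ W := W.mul_mem (W.mul_mem (hQW hz) hw) (W.inv_mem (hQW hz))
    have h1 := cj_mem_of_stronglyClosed h.closed hsi (hψT _ (hWK hzw))
    rw [hzeq w hw, Function.comp_apply]
    convert h1 using 1
    simp [cj_apply, mul_assoc]
  intro l hl
  obtain ⟨w, hw, hwn, hwe⟩ := mem_autInducedBy.1 (hL hl)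
  have hwW : w ∈ W := Subgroup.mem_sup_right ⟨hw, l, hl, hwe⟩
  have hΦw : afun Φ w ∈ Subgroup.normalizer (Q : Set Ω) := (hWN (afun_mem Φ hwW)).2
  refine mem_autInducedBy.2 ⟨afun Φ w * w⁻¹, ?_, Subgroup.mul_mem _ hΦw (Subgroup.inv_mem _ hwn),
    fun y hy => ?_⟩
  · have h1 := cj_mem_of_stronglyClosed h.closed hw (htriv w hwW)
    convert h1 using 1
    simp [cj_apply, mul_assoc]
  · have hy' : cj w⁻¹ y ∈ Q := cj_mem_of_normalizer (Subgroup.inv_mem _ hwn) hy
    have e1 : afun l⁻¹ y = cj w⁻¹ y := by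
      conv_lhs => rw [← cj_cj_inv w y, ← hwe _ hy']
      exact afun_inv_apply _ hy'
    have hz' := afun_mem g⁻¹ hy'
    rw [afun_mul _ _ hy, e1, afun_mul _ _ hy', afun_mul _ _ hz', ← cj_cj]
    conv_rhs => rw [← afun_apply_inv g hy', ← hΦg _ hz',
      ← hΦm.map_cj hwW (hQW hz'), ← hwe _ hz', hΦg _ (afun_mem l hz')]

/-- In the relatively centric case the automorphisms in `baseG` induced by `S` come from `T`. -/
theorem baseG_sylow {Q : Subgroup Ω} (hr : Rep F T Q) (hc : TCq F T Q) {a : MulAut Q}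
    (haS : a ∈ autInducedBy S Q) (ha : a ∈ baseG F E p Q) : a ∈ autInducedBy T Q := by
  classical
  have hQS := hr.1.1
  haveI := finite_autGroup (F := F) Q
  set B := bst F E Q with hB
  have hBa : B ≤ F.autGroup Q := fun x hx => hx.1
  haveI : Finite B := Finite.of_injective _ (Subgroup.inclusion_injective hBa)
  obtain ⟨P0, hP0⟩ := FusionCentralLift.sylIn_inf
    (fullyAutomized_of_fullyNormalized h.pgrp h.sat hr.1).2 (isPGroup_autInducedBy h.pgrp Q) hBa
    fun a ha m hm => h.bst_conj hQS ha hm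
  have hmemP0 : ∀ {g : B}, g ∈ (P0 : Subgroup B) → (g : MulAut Q) ∈ autInducedBy S Q :=
    fun {g} hg => by rw [hP0, Subgroup.mem_subgroupOf] at hg; exact hg.1
  set R1 := (autInducedBy T Q).subgroupOf B with hR1
  have hfocal : (P0 : Subgroup B) ⊓ Cfsg.pResidual p B ≤ R1 := by
    refine FusionMeetGroup.inf_pResidual_le P0 ?_ fun V hV g hg hco x hx => ?_
    · intro g hg x hx
      obtain ⟨s, hs, hsn, hse⟩ := mem_autInducedBy.1 (hmemP0 hg)
      obtain ⟨t, ht, htn, hte⟩ := mem_autInducedBy.1 (Subgroup.mem_subgroupOf.1 hx)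
      refine Subgroup.mem_subgroupOf.2 (mem_autInducedBy.2 ⟨cj s t,
        cj_mem_of_stronglyClosed h.closed hs ht,
        Subgroup.mul_mem _ (Subgroup.mul_mem _ hsn htn) (Subgroup.inv_mem _ hsn), fun y hy => ?_⟩)
      have hy' : cj s⁻¹ y ∈ Q := cj_mem_of_normalizer (Subgroup.inv_mem _ hsn) hy
      have e1 : afun (g : MulAut Q)⁻¹ y = cj s⁻¹ y := by
        conv_lhs => rw [← cj_cj_inv s y, ← hse _ hy']
        exact afun_inv_apply _ hy'
      rw [Subgroup.coe_mul, Subgroup.coe_mul, Subgroup.coe_inv, afun_mul _ _ hy, e1,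
        afun_mul _ _ hy', hte _ hy', hse _ (cj_mem_of_normalizer htn hy')]
      simp [cj_apply, mul_assoc]
    · refine Subgroup.mem_subgroupOf.2 ?_
      have := h.base_comm hr hc (L := V.map B.subtype)
        (by rintro _ ⟨v, hv, rfl⟩; exact hmemP0 (hV hv)) g.2 (by rwa [Subgroup.orderOf_coe])
        (by
          rintro _ ⟨v, hv, rfl⟩
          exact ⟨g * v * g⁻¹, (Subgroup.mem_normalizer_iff.1 hg v).1 hv, rfl⟩)
        (x : MulAut Q) ⟨x, hx, rfl⟩
      simpa using this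
  set O := Cfsg.pResidual p B
  haveI : O.Normal := inferInstance
  have hle : baseG F E p Q ≤ (R1 ⊔ O).map B.subtype := by
    refine sup_le ((Subgroup.closure_le _).2 fun x hx => ?_) fun x hx => ?_
    · exact ⟨⟨x, hx.1⟩, Subgroup.mem_sup_right (TransferPResidual.mem_pResidual_of_coprime
        (by rw [Subgroup.orderOf_mk]; exact hx.2)), rfl⟩
    · exact ⟨⟨x, h.autT_le_bst hQS hx⟩, Subgroup.mem_sup_left (Subgroup.mem_subgroupOf.2 hx), rfl⟩
  obtain ⟨g, hg, rfl⟩ := hle ha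
  obtain ⟨r, hr', o, ho, rfl⟩ := Subgroup.mem_sup_of_normal_right.1 hg
  have hrP : r ∈ (P0 : Subgroup B) := by
    rw [hP0, Subgroup.mem_subgroupOf]
    exact ⟨autInducedBy_mono h.T_le Q (Subgroup.mem_subgroupOf.1 hr'), r.2⟩
  have hgP : r * o ∈ (P0 : Subgroup B) := by
    rw [hP0, Subgroup.mem_subgroupOf]
    exact ⟨haS, (r * o).2⟩
  have hoP : o ∈ (P0 : Subgroup B) := by
    have := mul_mem (inv_mem hrP) hgP
    rwa [inv_mul_cancel_left] at this
  exact (autInducedBy T Q).mul_mem (Subgroup.mem_subgroupOf.1 hr')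
    (Subgroup.mem_subgroupOf.1 (hfocal ⟨hoP, ho⟩))

/-- The subgroup `R₁` above `Q`, with the stabilizer of `Q`, is fully normalized. -/
theorem fullyK_upq {Q : Subgroup Ω} (hQ : F.IsFullyNormalized Q) :
    FullyK F (upq T Q) (FusionTops.stab F (upq T Q) Q (le_upq Q)) := by
  have hQS := hQ.1
  have hU := (h.upq_le hQS).trans inf_le_left
  refine ⟨hU, fun φ hφ => ?_⟩
  have hφQ := hφ.restrict_to (le_sup_left : Q ≤ upq T Q)
  have h1 : nK S (im (upq T Q) φ) ((FusionTops.stab F (upq T Q) Q (le_upq Q)).map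
      (hφ.transport rfl).toMonoidHom) ≤ normalizerIn S (im Q φ) := by
    intro g hg
    obtain ⟨hgS, κ, hκ, he⟩ := (mem_nK_transport hφ rfl).1 hg
    refine ⟨hgS, mem_normalizer_of_cj_le hφQ.im_le fun y hy => ?_⟩
    obtain ⟨x, hx, rfl⟩ := hφQ.mem_im.1 hy
    rw [he x (Subgroup.mem_sup_left hx)]
    exact apply_mem_im (hκ.2.le (apply_mem_im hx))
  have h2 : normalizerIn S Q ≤ nK S (upq T Q) (FusionTops.stab F (upq T Q) Q (le_upq Q)) := by
    intro g hg
    have hm := mor_cj (F := F) hU hg.1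
    obtain ⟨κ, hκ, he⟩ := hm.exists_aut (hm.im_self fun x hx =>
      h.upq_map hm (mem_normalizer_iff_im_cj.1 hg.2) (apply_mem_im hx))
    exact ⟨hg.1, κ, ⟨hκ, (im_congr fun x hx => he x (Subgroup.mem_sup_left hx)).trans
      (mem_normalizer_iff_im_cj.1 hg.2)⟩, he⟩
  haveI := finite_normalizerIn (S := S) (im Q φ)
  haveI : Finite ↥(nK S (upq T Q) (FusionTops.stab F (upq T Q) Q (le_upq Q))) := finite_of_le nK_le
  exact ((Subgroup.card_le_of_le h1).trans (hQ.2 _ (FusionSysBasic.isConj_iff.2 ⟨φ, hφQ, rfl⟩))).trans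
    (Subgroup.card_le_of_le h2)

/-- The automorphisms belonging to `E` induced by `S` are induced by `T`. -/
theorem inA_sylow {Q : Subgroup Ω} (hQ : F.IsCentric Q) {a : MulAut Q}
    (haS : a ∈ autInducedBy S Q) (ha : InA F E p Q a) : a ∈ autInducedBy T Q := by
  classical
  suffices key : ∀ (n : ℕ) {Q : Subgroup Ω}, F.IsCentric Q → Nat.card S ≤ Nat.card Q + n →
      ∀ {a : MulAut Q}, a ∈ autInducedBy S Q → InA F E p Q a → a ∈ autInducedBy T Q from
    key _ hQ (Nat.le_add_left _ _) haS ha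
  intro n
  induction n using Nat.strong_induction_on with
  | _ n ih =>
  intro Q hQ hn a haS ha
  obtain ⟨Q', θ, hr, hθN, hθQ, hθN'⟩ := h.exists_rep hQ
  have hQN := le_normalizerIn (S := S) hQ.1
  have hθ := hθN.restrict_to hQN
  obtain ⟨s, hs, hsn, hse⟩ := mem_autInducedBy.1 haS
  have hsN : s ∈ normalizerIn S Q := ⟨hs, hsn⟩
  -- reduce to the representative
  suffices hrep : hθ.transport hθQ a ∈ autInducedBy T Q' by
    obtain ⟨t, ht, htn, hte⟩ := mem_autInducedBy.1 hrep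
    have hz : t⁻¹ * θ s ∈ centralizerIn S Q' := mem_centralizerIn.2
      ⟨S.mul_mem (S.inv_mem (h.T_le ht)) (hθN.apply_mem hsN), fun y hy => by
        obtain ⟨x, hx, rfl⟩ := hθ.mem_im.1 (hθQ.symm ▸ hy)
        rw [← cj_cj, ← hθN.map_cj hsN (hQN hx), ← hse x hx, ← hθ.afun_transport hθQ a hx,
          hte _ (hθQ ▸ apply_mem_im hx), cj_inv_cj]⟩
    have hzQ := hr.2.2.2 _ (isConj_refl hr.1.1) hz
    obtain ⟨z, hzm, hze⟩ := hθ.mem_im.1 (hθQ.symm ▸ hzQ)
    have hm' : s * z⁻¹ ∈ normalizerIn S Q := Subgroup.mul_mem _ hsN (inv_mem (hQN hzm))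
    have e : θ (s * z⁻¹) = t := by
      rw [hθN.map_mul hsN (inv_mem (hQN hzm)), hθN.map_inv (hQN hzm), hze]
      group
    obtain ⟨i, hi, hiθ, -, -⟩ := hθN.exists_inv
    have hT' : s * z⁻¹ ∈ T := by
      rw [← hiθ _ hm', e]
      exact closed_apply' h.closed hi (e ▸ apply_mem_im hm') ht
    refine mem_autInducedBy.2 ⟨s * z⁻¹, hT', hm'.2, fun x hx => ?_⟩
    refine hθ.injOn (afun_mem a hx) (cj_mem_of_normalizer hm'.2 hx) ?_
    rw [← hθ.afun_transport hθQ a hx, hte _ (hθQ ▸ apply_mem_im hx),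
      hθN.map_cj hm' (hQN hx), e]
  have hQ'S := hr.1.1
  have haS' : hθ.transport hθQ a ∈ autInducedBy S Q' := by
    refine mem_autInducedBy.2 ⟨θ s, hθN.apply_mem hsN, (hθN' s hsN).2, fun y hy => ?_⟩
    obtain ⟨x, hx, rfl⟩ := hθ.mem_im.1 (hθQ.symm ▸ hy)
    rw [hθ.afun_transport hθQ a hx, hse x hx, hθN.map_cj hsN (hQN hx)]
  have ha' := inA_transport hθ hθQ ha
  by_cases hc : TCq F T Q'
  · exact h.baseG_sylow hr hc haS' ((h.inA_rep hr ha').1 hc)
  -- the images of a Sylow subgroup at the next subgroup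
  have hlt := h.card_lt_upq hr hc
  have hUS := (h.upq_le hQ'S).trans inf_le_left
  have hle : Nat.card (upq T Q') ≤ Nat.card S := Subgroup.card_le_of_le hUS
  have hcard : Nat.card Q' = Nat.card Q := by rw [← hθQ, hθ.card_im]
  have hcU : F.IsCentric (upq T Q') := FusCentric.centric_upward hr.2.2 (le_upq Q') hUS
  set St := FusionTops.stab F (upq T Q') Q' (le_upq Q') with hSt
  obtain ⟨-, hsyl⟩ := fullyK_spec h.pgrp h.sat (h.fullyK_upq hr.1)
  have hStA : F.autGroup (upq T Q') ⊓ St = St := inf_eq_right.2 fun b hb => hb.1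
  rw [hStA] at hsyl
  haveI := finite_autGroup (F := F) (upq T Q')
  haveI : Finite St :=
    Finite.of_injective _ (Subgroup.inclusion_injective (fun b hb => hb.1 : St ≤ F.autGroup (upq T Q')))
  set G1 := St ⊓ h.aSub hcU with hG1
  haveI : Finite G1 := Finite.of_injective _ (Subgroup.inclusion_injective (inf_le_left : G1 ≤ St))
  obtain ⟨P1, hP1⟩ := FusionCentralLift.sylIn_inf hsyl
    ((isPGroup_autInducedBy h.pgrp _).to_le inf_le_left) (inf_le_left : G1 ≤ St)
    fun g hg b hb => ⟨St.mul_mem (St.mul_mem hg hb.1) (St.inv_mem hg), h.inA_conj hUS hg.1 hb.2⟩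
  obtain ⟨r, hr'⟩ := FusionGenerated.exists_res (F := F) hUS (le_upq Q')
  set r' : G1 →* F.autGroup Q' := r.comp (Subgroup.inclusion (inf_le_left : G1 ≤ St))
  have hr'' : ∀ b : G1, ∀ x ∈ Q', afun (r' b : MulAut Q') x = afun (b : MulAut (upq T Q')) x :=
    fun b x hx => hr' _ x hx
  set H := r'.range.map (F.autGroup Q').subtype with hH
  -- `Aut_T(Q')` lies in the image
  have hTH : autInducedBy T Q' ≤ H := by
    intro c hc
    obtain ⟨t, ht, htn, hte⟩ := mem_autInducedBy.1 hc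
    have hm := mor_cj (F := F) hUS (h.T_le ht)
    have htUn : t ∈ Subgroup.normalizer ((upq T Q' : Subgroup Ω) : Set Ω) :=
      mem_normalizer_of_cj_le hUS fun x hx =>
        h.upq_map hm (mem_normalizer_iff_im_cj.1 htn) (apply_mem_im hx)
    set b := nHom T (upq T Q') ⟨t, ht, htUn⟩
    have hbT : b ∈ autInducedBy T (upq T Q') :=
      mem_autInducedBy.2 ⟨t, ht, htUn, fun x hx => afun_nHom _ hx⟩
    have hbSt : b ∈ St := ⟨autInducedBy_le hUS (autInducedBy_mono h.T_le _ hbT),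
      (im_congr fun x hx => afun_nHom _ (mem_upq hx)).trans
        (mem_normalizer_iff_im_cj.1 htn)⟩
    refine ⟨r' ⟨b, hbSt, h.autT_inA hcU hbT⟩, ⟨_, rfl⟩, afun_ext fun x hx => ?_⟩
    show afun (r' _ : MulAut Q') x = _
    rw [hr'' _ x hx, afun_nHom _ (mem_upq hx), hte x hx]
  -- and contains the image of the Sylow subgroup
  have hP1T : ((P1 : Subgroup G1).map r').map (F.autGroup Q').subtype ≤ autInducedBy T Q' := by
    rintro _ ⟨_, ⟨b, hb, rfl⟩, rfl⟩
    rw [hP1, SetLike.mem_coe, Subgroup.mem_subgroupOf] at hb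
    obtain ⟨t, ht, htn, hte⟩ := mem_autInducedBy.1
      (ih (n - 1) (by omega) hcU (by omega) hb.1.1 hb.2.2)
    have htQ : ∀ x ∈ Q', afun (r' b : MulAut Q') x = cj t x := fun x hx => by
      rw [hr'' b x hx, hte x (mem_upq hx)]
    exact mem_autInducedBy.2 ⟨t, ht, mem_normalizer_of_cj_le hQ'S fun x hx =>
      htQ x hx ▸ afun_mem _ hx, htQ⟩
  haveI := finite_autGroup (F := F) Q'
  have haH : hθ.transport hθQ a ∈ H := by
    obtain ⟨b, hb, hbe⟩ := (h.inA_rep hr ha').2 hc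
    have hbSt : b ∈ St := ⟨h.inA_mem hb, (im_congr hbe).trans (im_afun _)⟩
    exact ⟨r' ⟨b, hbSt, hb⟩, ⟨_, rfl⟩, afun_ext fun x hx => (hr'' _ x hx).trans (hbe x hx)⟩
  haveI : Finite H :=
    Finite.of_injective _ (Subgroup.inclusion_injective (Subgroup.map_subtype_le r'.range))
  have hTp : IsPGroup p (autInducedBy T Q') :=
    (isPGroup_autInducedBy h.pgrp Q').to_le (autInducedBy_mono h.T_le Q')
  have hsylT : SylIn p (autInducedBy T Q') H := by
    refine (sylIn_iff_card hTH).2 (le_antisymm (sylIn_le_pow hTp hTH) ?_)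
    set P2 := P1.mapSurjective r'.rangeRestrict_surjective
    have h2 : Nat.card H = Nat.card r'.range :=
      (Nat.card_congr (r'.range.equivMapOfInjective _ (F.autGroup Q').subtype_injective).toEquiv).symm
    rw [h2, ← P2.card_eq_multiplicity]
    haveI : Finite (autInducedBy T Q') := Finite.of_injective _ (Subgroup.inclusion_injective hTH)
    refine le_trans (le_of_eq ?_) (Subgroup.card_le_of_le hP1T)
    rw [Nat.card_congr (((P1 : Subgroup G1).map r').equivMapOfInjective _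
      (F.autGroup Q').subtype_injective).symm.toEquiv]
    refine Nat.card_congr (((P2 : Subgroup r'.range).equivMapOfInjective r'.range.subtype
      r'.range.subtype_injective).toEquiv.trans (Equiv.cast ?_))
    rw [show (P2 : Subgroup r'.range) = (P1 : Subgroup G1).map r'.rangeRestrict from
      Sylow.coe_mapSurjective _ _, Subgroup.map_map, MonoidHom.subtype_comp_rangeRestrict]
  -- a `p`-element of the image
  obtain ⟨P3, hP3⟩ := hsylT
  have hinf : (autInducedBy S Q' ⊓ H).subgroupOf H = (P3 : Subgroup H) := by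
    refine P3.is_maximal' ?_ ?_
    · exact (((isPGroup_autInducedBy h.pgrp Q').to_le (inf_le_left : autInducedBy S Q' ⊓ H ≤ _)).of_equiv
        (Subgroup.subgroupOfEquivOfLe inf_le_right).symm)
    · rw [hP3]
      exact Subgroup.comap_mono (le_inf (autInducedBy_mono h.T_le Q') hTH)
  have : (⟨_, haH⟩ : H) ∈ (P3 : Subgroup H) := hinf ▸ Subgroup.mem_subgroupOf.2 ⟨haS', haH⟩
  rwa [hP3, Subgroup.mem_subgroupOf] at this

/-- An extension of order prime to `p` to a normalizing overgroup of an automorphism belonging to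
`E` is trivial modulo `T`. -/
theorem triv_of_inA {Q W : Subgroup Ω} (hQ : F.IsCentric Q) (hQW : Q ≤ W)
    (hW : W ≤ normalizerIn S Q) {e : MulAut W} (he : e ∈ F.autGroup W)
    (hco : (orderOf e).Coprime p) {a : MulAut Q} (ha : InA F E p Q a)
    (hea : ∀ x ∈ Q, afun e x = afun a x) : ∀ y ∈ W, y⁻¹ * afun e y ∈ T := by
  intro y hy
  have hQS := hQ.1
  have hWS : W ≤ S := hW.trans inf_le_left
  have hem := (mem_autGroup hWS).1 he
  set c := nHom S Q ⟨y, hW hy⟩
  have hcS : c ∈ autInducedBy S Q :=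
    mem_autInducedBy.2 ⟨y, hWS hy, (hW hy).2, fun x hx => afun_nHom _ hx⟩
  have hey := hW (afun_mem e hy)
  set d := nHom S Q ⟨afun e y, hey⟩
  have hdS : d ∈ autInducedBy S Q :=
    mem_autInducedBy.2 ⟨afun e y, hey.1, hey.2, fun x hx => afun_nHom _ hx⟩
  have hd : d = a * c * a⁻¹ := afun_ext fun x hx => by
    have hx' := afun_mem a⁻¹ hx
    rw [afun_nHom _ hx, afun_mul _ _ hx, afun_mul _ _ hx', afun_nHom _ hx']
    conv_lhs => rw [← afun_apply_inv a hx, ← hea _ hx', ← hem.map_cj hy (hQW hx'),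
      hea _ (cj_mem_of_normalizer (hW hy).2 hx')]
  have hin : InA F E p Q (d * c⁻¹) := by
    rw [hd, show a * c * a⁻¹ * c⁻¹ = a * (c * a⁻¹ * c⁻¹) by group]
    exact (h.inA_group hQ).2.1 _ _ ha
      (h.inA_conj hQS (autInducedBy_le hQS hcS) ((h.inA_group hQ).2.2 a ha))
  obtain ⟨t, ht, htn, hte⟩ := mem_autInducedBy.1 (h.inA_sylow hQ (mul_mem hdS (inv_mem hcS)) hin)
  set v := t⁻¹ * (afun e y * y⁻¹) with hv
  have hvQ : v ∈ Q := hQ.2 _ (isConj_refl hQS) (mem_centralizerIn.2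
    ⟨S.mul_mem (S.inv_mem (h.T_le ht)) (S.mul_mem hey.1 (S.inv_mem (hWS hy))), fun x hx => by
      have hx' : cj y⁻¹ x ∈ Q := cj_mem_of_normalizer (Subgroup.inv_mem _ (hW hy).2) hx
      have e1 : afun c⁻¹ x = cj y⁻¹ x := by
        conv_lhs => rw [← cj_cj_inv y x, ← afun_nHom (⟨y, hW hy⟩ :
          ↥(S ⊓ Subgroup.normalizer (Q : Set Ω))) hx']
        exact afun_inv_apply _ hx'
      have h1 := hte x hx
      rw [afun_mul _ _ hx, e1, afun_nHom _ hx', cj_cj] at h1
      rw [hv, ← cj_cj, h1, cj_inv_cj]⟩)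
  have hc' : cj y⁻¹ v ∈ Q := cj_mem_of_normalizer (Subgroup.inv_mem _ (hW hy).2) hvQ
  refine triv_of_mul h.pgrp h.closed hWS he hco hy (hQW hc') ?_ ?_
  · rw [hea _ hc']
    exact (h.inA_bst ha).2.1 _ hc'
  · have h1 := cj_mem_of_stronglyClosed h.closed (S.inv_mem (S.mul_mem (hQS hvQ) (hWS hy))) ht
    convert h1 using 1
    simp [hv, cj_apply, mul_assoc]

end Ctx

end Cfsg.Agent.FusionLocalPart
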