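import Cfsg.Agent.Lib.FusionMeetKey
import Cfsg.Agent.Lib.FusionFrattini88

/-!
`D₁`, `D₂` normal in the saturated system `F` over `T₁`, `T₂`, and `T = T₁ ⊓ T₂`. The system
`meetSys` over `T` is generated by the conjugations by `T` and the common automorphisms of order
prime to `p` of the subgroups centric relative to `T`. Every map of `F`, `D₁`, `D₂` on a subgroup of
`T` is an automorphism of `T` after a map of `meetSys` (`frattini`).
-/

set_option autoImplicit false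

namespace Cfsg.Agent.FusionMeet

open Cfsg Cfsg.FusionSystem Cfsg.Agent.FusionSysBasic Cfsg.Agent.FusionSysSaturated
open Cfsg.Agent.FusionSysNormal Cfsg.Agent.FusionKit88 Cfsg.Agent.FusionMorph88

variable {Ω : Type*} [Group Ω] {S T₁ T₂ : Subgroup Ω} {F : FusionSystem S}
  {D₁ : FusionSystem T₁} {D₂ : FusionSystem T₂} {p : ℕ}

/-- The hypotheses. -/
structure Setup (F : FusionSystem S) (D₁ : FusionSystem T₁) (D₂ : FusionSystem T₂) (p : ℕ) :
    Prop where
  pgrp : IsPGroup p S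
  sat : F.IsSaturated p
  n1 : D₁.IsNormalIn F p
  n2 : D₂.IsNormalIn F p

/-- `R` and all its conjugates in `F` contain their centralizers in `T`. -/
def TC (F : FusionSystem S) (T R : Subgroup Ω) : Prop :=
  R ≤ T ∧ ∀ Q, F.IsConj R Q → centralizerIn T Q ≤ Q

/-- The common automorphisms. -/
def com (D₁ : FusionSystem T₁) (D₂ : FusionSystem T₂) (R : Subgroup Ω) : Subgroup (MulAut R) :=
  D₁.autGroup R ⊓ D₂.autGroup R

/-- The generating automorphisms. -/
def Gam (F : FusionSystem S) (D₁ : FusionSystem T₁) (D₂ : FusionSystem T₂) (p : ℕ)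
    (R : Subgroup Ω) (f : Ω → Ω) : Prop :=
  TC F (T₁ ⊓ T₂) R ∧ Mor F R f ∧ Mor D₁ R f ∧ Mor D₂ R f ∧ im R f = R ∧
    ∀ α : MulAut R, (∀ x ∈ R, afun α x = f x) → (orderOf α).Coprime p

/-- The least closed predicate containing the generators. -/
def Phi0 (F : FusionSystem S) (D₁ : FusionSystem T₁) (D₂ : FusionSystem T₂) (p : ℕ)
    (P : Subgroup Ω) (f : Ω → Ω) : Prop :=
  ∀ Φ : Subgroup Ω → (Ω → Ω) → Prop, FusionInduct88.Closed F (U := T₁ ⊓ T₂) Φ →
    (∀ R g, Gam F D₁ D₂ p R g → Φ R g) → Φ P f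

theorem closed_phi0 : FusionInduct88.Closed F (U := T₁ ⊓ T₂) (Phi0 F D₁ D₂ p) where
  congr := fun h he Φ hc hg => hc.congr (h Φ hc hg) he
  conj := fun hP hg _ hc _ => hc.conj hP hg
  comp := fun hf hg hP hQ hfQ h1 h2 Φ hc hg' =>
    hc.comp hf hg hP hQ hfQ (h1 Φ hc hg') (h2 Φ hc hg')
  inv := fun hf hg hP hgf h Φ hc hg' => hc.inv hf hg hP hgf (h Φ hc hg')

/-- The meet of `D₁` and `D₂`, generated by common automorphisms. -/
noncomputable def meetSys (F : FusionSystem S) (D₁ : FusionSystem T₁) (D₂ : FusionSystem T₂)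
    (p : ℕ) (hT : T₁ ⊓ T₂ ≤ S) : FusionSystem (T₁ ⊓ T₂) :=
  FusionInduct88.subSystem hT (closed_phi0 (F := F) (D₁ := D₁) (D₂ := D₂) (p := p))

local notation "T" => (T₁ ⊓ T₂)

namespace Setup

variable (h : Setup F D₁ D₂ p)
include h

theorem i1 : D₁.IsInvariantIn F := h.n1.1.2.2

theorem i2 : D₂.IsInvariantIn F := h.n2.1.2.2

theorem T_le : T ≤ S := inf_le_left.trans h.i1.2.1.1

theorem closedT : F.StronglyClosed T := stronglyClosed_iff.2 ⟨h.T_le, fun P _ hP hf _ hx =>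
  ⟨closed_apply h.i1.2.1 hf (hP.trans inf_le_left) hx,
    closed_apply h.i2.2.1 hf (hP.trans inf_le_right) hx⟩⟩

local notation "L" => meetSys F D₁ D₂ p (Setup.T_le h)

theorem mor_meet {P : Subgroup Ω} {f : Ω → Ω} :
    Mor L P f ↔ Mor F P f ∧ P ≤ T ∧ (∀ x ∈ P, f x ∈ T) ∧ Phi0 F D₁ D₂ p P f :=
  FusionInduct88.mor_subSystem

theorem meet_sub : (L).IsSubsystemOf F := fun _ _ hφ => hφ.1

theorem meet_induction {Φ : Subgroup Ω → (Ω → Ω) → Prop}
    (hc : FusionInduct88.Closed F (U := T) Φ) (hg : ∀ R g, Gam F D₁ D₂ p R g → Φ R g)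
    {P : Subgroup Ω} {f : Ω → Ω} (hf : Mor L P f) : Φ P f :=
  (h.mor_meet.1 hf).2.2.2 Φ hc hg

theorem gam_mor {R : Subgroup Ω} {f : Ω → Ω} (hG : Gam F D₁ D₂ p R f) : Mor L R f :=
  h.mor_meet.2 ⟨hG.2.1, hG.1.1, fun _ hx => hG.1.1 (hG.2.2.2.2.1.le (apply_mem_im hx)),
    fun _ _ hg => hg R f hG⟩

omit h in
theorem closed_of_sub {U : Subgroup Ω} {D : FusionSystem U} (hU : T ≤ U) :
    FusionInduct88.Closed F (U := T) (fun P f => Mor D P f) where
  congr := fun hf he => hf.congr he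
  conj := fun hP hg => mor_cj (hP.trans hU) (hU hg)
  comp := fun _ _ _ _ hfQ h1 h2 => h1.comp h2 hfQ
  inv := fun hf _ _ hgf h1 => by
    obtain ⟨k, hk, hkf, -, -⟩ := h1.exists_inv
    refine hk.congr fun y hy => ?_
    obtain ⟨x, hx, rfl⟩ := hf.mem_im.1 hy
    rw [hkf x hx, hgf x hx]

theorem meet_mor1 {P : Subgroup Ω} {f : Ω → Ω} (hf : Mor L P f) : Mor D₁ P f :=
  h.meet_induction (closed_of_sub inf_le_left) (fun _ _ hG => hG.2.2.1) hf

theorem meet_mor2 {P : Subgroup Ω} {f : Ω → Ω} (hf : Mor L P f) : Mor D₂ P f :=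
  h.meet_induction (closed_of_sub inf_le_right) (fun _ _ hG => hG.2.2.2.1) hf

theorem meet_aut_le {R : Subgroup Ω} (hR : R ≤ T) : (L).autGroup R ≤ com D₁ D₂ R := fun _ ha =>
  ⟨mem_autGroup_of_mor (h.meet_mor1 ((mem_autGroup hR).1 ha)),
    mem_autGroup_of_mor (h.meet_mor2 ((mem_autGroup hR).1 ha))⟩

theorem com_le {R : Subgroup Ω} (hR : R ≤ T) : com D₁ D₂ R ≤ F.autGroup R := fun _ ha =>
  mem_autGroup_of_mor (sub_mor h.i1.1 ((mem_autGroup (hR.trans inf_le_left)).1 ha.1))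

omit h in
theorem autT_le_com {R : Subgroup Ω} (hR : R ≤ T) : autInducedBy T R ≤ com D₁ D₂ R :=
  le_inf ((autInducedBy_mono inf_le_left R).trans (autInducedBy_le (hR.trans inf_le_left)))
    ((autInducedBy_mono inf_le_right R).trans (autInducedBy_le (hR.trans inf_le_right)))

theorem com_transport {P Q : Subgroup Ω} (hP : P ≤ T) {φ : Ω → Ω} (hφ : Mor F P φ)
    (him : im P φ = Q) {a : MulAut P} (ha : a ∈ com D₁ D₂ P) :
    hφ.transport him a ∈ com D₁ D₂ Q :=
  ⟨FusionWeaklyNormal88.aut_transport h.i1 (hP.trans inf_le_left) hφ him ha.1,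
    FusionWeaklyNormal88.aut_transport h.i2 (hP.trans inf_le_right) hφ him ha.2⟩

theorem com_conj {R : Subgroup Ω} (hR : R ≤ T) {a b : MulAut R} (ha : a ∈ F.autGroup R)
    (hb : b ∈ com D₁ D₂ R) : a * b * a⁻¹ ∈ com D₁ D₂ R := by
  have hm := (mem_autGroup (hR.trans h.T_le)).1 ha
  have e : a * b * a⁻¹ = hm.transport (im_afun a) b := afun_ext fun y hy => by
    obtain ⟨x, hx, rfl⟩ : ∃ x ∈ R, afun a x = y :=
      ⟨afun a⁻¹ y, afun_mem _ hy, afun_apply_inv a hy⟩
    rw [hm.afun_transport (im_afun a) b hx, afun_mul _ _ (afun_mem a hx),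
      afun_inv_apply a hx, afun_mul _ _ hx]
  rw [e]
  exact h.com_transport hR hm (im_afun a) hb

theorem gam_aut {R : Subgroup Ω} (hR : TC F T R) {a : MulAut R} (ha : a ∈ com D₁ D₂ R)
    (hco : (orderOf a).Coprime p) : a ∈ (L).autGroup R := by
  refine mem_autGroup_of_mor (h.gam_mor ⟨hR, (mem_autGroup (hR.1.trans h.T_le)).1 (h.com_le hR.1 ha),
    (mem_autGroup (hR.1.trans inf_le_left)).1 ha.1,
    (mem_autGroup (hR.1.trans inf_le_right)).1 ha.2, im_afun a, fun b hb => ?_⟩)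
  rwa [afun_ext (α := b) (β := a) hb]

theorem tc_conj {R Q : Subgroup Ω} (hR : TC F T R) (hc : F.IsConj R Q) : TC F T Q := by
  refine ⟨?_, fun Q' hQ' => hR.2 Q' (isConj_trans hc hQ')⟩
  obtain ⟨f, hf, rfl⟩ := FusionSysBasic.isConj_iff.1 hc
  exact im_le_iff.2 fun x hx => closed_apply h.closedT hf hR.1 hx

omit h in
theorem tc_upward {R R' : Subgroup Ω} (hR : TC F T R) (hRR : R ≤ R') (hR' : R' ≤ T) :
    TC F T R' := by
  refine ⟨hR', fun Q hQ c hc => ?_⟩
  obtain ⟨f, hf, rfl⟩ := FusionSysBasic.isConj_iff.1 hQ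
  exact im_mono hRR (hR.2 _ (FusionSysBasic.isConj_iff.2 ⟨f, hf.restrict_to hRR, rfl⟩)
    (mem_centralizerIn.2 ⟨hc.1, fun y hy => (mem_centralizerIn.1 hc).2 y (im_mono hRR hy)⟩))

/-- The meet is invariant under `Aut_F(T)`. -/
theorem meet_conj [Finite S] {P : Subgroup Ω} {f : Ω → Ω} (hf : Mor L P f)
    {a : MulAut ↥T} (ha : a ∈ F.autGroup T) :
    Mor L (im P (afun a)) (afun a ∘ f ∘ afun a⁻¹) := by
  have hTS := h.T_le
  suffices ∀ a ∈ F.autGroup T, Mor L (im P (afun a)) (afun a ∘ f ∘ afun a⁻¹) from this a ha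
  refine h.meet_induction (Φ := fun P f => P ≤ T ∧ (∀ x ∈ P, f x ∈ T) ∧
    ∀ a ∈ F.autGroup T, Mor L (im P (afun a)) (afun a ∘ f ∘ afun a⁻¹)) ?_ ?_ hf |>.2.2
  · have hm : ∀ {a : MulAut ↥T}, a ∈ F.autGroup T → Mor F T (afun a) := fun ha =>
      (mem_autGroup hTS).1 ha
    exact
    { congr := fun {P f g} ⟨hP, hfT, hk⟩ he => ⟨hP, fun x hx => he x hx ▸ hfT x hx, fun a ha =>
        (hk a ha).congr fun y hy => by
          obtain ⟨x, hx, rfl⟩ := ((hm ha).restrict_to hP).mem_im.1 hy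
          simp only [Function.comp_apply, afun_inv_apply a (hP hx), he x hx]⟩
      conj := fun {P g} hP hg => ⟨hP, fun x hx => cj_mem_S hg (hP hx), fun a ha => by
        have hle : im P (afun a) ≤ T := im_le_iff.2 fun x hx => afun_mem a (hP hx)
        refine (mor_cj hle (afun_mem a hg)).congr fun y hy => ?_
        obtain ⟨x, hx, rfl⟩ := ((hm ha).restrict_to hP).mem_im.1 hy
        simp only [Function.comp_apply, afun_inv_apply a (hP hx), (hm ha).map_cj hg (hP hx)]⟩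
      comp := fun {P Q f g} _ _ _ _ hfQ ⟨hP, hfT, hk⟩ ⟨hQ, hgT, hk'⟩ => ⟨hP,
        fun x hx => hgT _ (hfQ x hx), fun a ha => by
          refine ((hk a ha).comp (hk' a ha) fun y hy => ?_).congr fun y hy => ?_
          · obtain ⟨x, hx, rfl⟩ := ((hm ha).restrict_to hP).mem_im.1 hy
            simp only [Function.comp_apply, afun_inv_apply a (hP hx)]
            exact apply_mem_im (hfQ x hx)
          · obtain ⟨x, hx, rfl⟩ := ((hm ha).restrict_to hP).mem_im.1 hy
            simp only [Function.comp_apply, afun_inv_apply a (hP hx), afun_inv_apply a (hfT x hx)]⟩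
      inv := fun {P f g} hf _ _ hgf ⟨hP, hfT, hk⟩ => by
        refine ⟨im_le_iff.2 hfT, fun y hy => ?_, fun a ha => ?_⟩
        · obtain ⟨x, hx, rfl⟩ := hf.mem_im.1 hy
          rw [hgf x hx]; exact hP hx
        obtain ⟨i, hi, hif, -, -⟩ := (hk a ha).exists_inv
        have e : im (im P (afun a)) (afun a ∘ f ∘ afun a⁻¹) = im (im P f) (afun a) := by
          rw [((hm ha).restrict_to hP).im_comp, hf.im_comp]
          exact im_congr fun x hx => by simp [afun_inv_apply a (hP hx)]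
        rw [e] at hi
        refine hi.congr fun y hy => ?_
        obtain ⟨z, hz, rfl⟩ := ((hm ha).restrict_to (im_le_iff.2 hfT)).mem_im.1 hy
        obtain ⟨x, hx, rfl⟩ := hf.mem_im.1 hz
        have h1 := hif (afun a x) (apply_mem_im hx)
        simp only [Function.comp_apply, afun_inv_apply a (hP hx)] at h1
        simp only [Function.comp_apply, afun_inv_apply a (hfT x hx), hgf x hx, h1] }
  · intro R f hG
    obtain ⟨hRc, hfm, hf1, hf2, hfR, hco⟩ := hG
    refine ⟨hRc.1, fun x hx => hRc.1 (hfR.le (apply_mem_im hx)), fun a ha => ?_⟩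
    have haR := ((mem_autGroup hTS).1 ha).restrict_to hRc.1
    obtain ⟨α, hα, hαe⟩ := hfm.exists_aut hfR
    have hαc : α ∈ com D₁ D₂ R := ⟨mem_autGroup_of_mor (hf1.congr fun x hx => (hαe x hx).symm),
      mem_autGroup_of_mor (hf2.congr fun x hx => (hαe x hx).symm)⟩
    have h1 := h.gam_aut (h.tc_conj hRc (FusionSysBasic.isConj_iff.2 ⟨_, haR, rfl⟩))
      (h.com_transport hRc.1 haR rfl hαc) (by rw [MulEquiv.orderOf_eq]; exact hco α hαe)
    refine ((mem_autGroup (im_le_iff.2 fun x hx => afun_mem a (hRc.1 hx))).1 h1).congr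
      fun y hy => ?_
    obtain ⟨x, hx, rfl⟩ := haR.mem_im.1 hy
    rw [haR.afun_transport rfl α hx, hαe x hx]
    simp only [Function.comp_apply, afun_inv_apply a (hRc.1 hx)]

end Setup

/-! ### The Frattini property -/

/-- What is used of the three systems `F`, `D₁`, `D₂`. -/
structure Ambient {U : Subgroup Ω} (G : FusionSystem U) (F : FusionSystem S)
    (D₁ : FusionSystem T₁) (D₂ : FusionSystem T₂) (p : ℕ) : Prop where
  sat : G.IsSaturated p
  sub : G.IsSubsystemOf F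
  le : T₁ ⊓ T₂ ≤ U
  com : ∀ R : Subgroup Ω, R ≤ T₁ ⊓ T₂ → FusionMeet.com D₁ D₂ R ≤ G.autGroup R
  nt : ∀ R : Subgroup Ω, R ≤ T₁ ⊓ T₂ → ¬ TC F (T₁ ⊓ T₂) R →
    ∃ R', G.IsConj R R' ∧ ¬ centralizerIn (T₁ ⊓ T₂) R' ≤ R'

/-- `f` on `P` is an automorphism in `G` of `T` after a map of the meet. -/
def Dec {U : Subgroup Ω} (G : FusionSystem U) (F : FusionSystem S) (D₁ : FusionSystem T₁)
    (D₂ : FusionSystem T₂) (p : ℕ) (hT : T₁ ⊓ T₂ ≤ S) (P : Subgroup Ω) (f : Ω → Ω) : Prop :=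
  ∃ a ∈ G.autGroup T, ∃ e, Mor (meetSys F D₁ D₂ p hT) P e ∧ ∀ x ∈ P, f x = afun a (e x)

namespace Setup

variable (h : Setup F D₁ D₂ p) [Finite S] [Fact p.Prime]
include h

local notation "L" => meetSys F D₁ D₂ p (Setup.T_le h)

omit [Fact p.Prime] in
/-- `R` not `T`-centric has, in an invariant subsystem containing `T`, a conjugate not containing its
centralizer in `T`. -/
theorem exists_conj_not_le {U : Subgroup Ω} {D : FusionSystem U} (hD : D.IsInvariantIn F)
    (hU : T ≤ U) {R : Subgroup Ω} (hR : R ≤ T) (hn : ¬ TC F T R) :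
    ∃ R', D.IsConj R R' ∧ ¬ centralizerIn T R' ≤ R' := by
  have hTS := h.T_le
  simp only [TC, not_and, not_forall] at hn
  obtain ⟨Q, hQ, hQn⟩ := hn hR
  obtain ⟨g, hg, rfl⟩ := FusionSysBasic.isConj_iff.1 hQ
  obtain ⟨a, ha, e, he, hge⟩ := FusionWeaklyNormal88.inv_factor hD (hR.trans hU) hg
  have hUS := hD.2.1.1
  have hai := (mem_autGroup hUS).1 (inv_mem ha)
  have hgU : im R g ≤ U :=
    im_le_iff.2 fun x hx => hge x hx ▸ afun_mem a (he.apply_mem hx)
  refine ⟨im R e, FusionSysBasic.isConj_iff.2 ⟨e, he, rfl⟩, fun hle => hQn fun c hc => ?_⟩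
  have hcU : c ∈ U := hU hc.1
  have h1 : afun a⁻¹ c ∈ centralizerIn T (im R e) := by
    refine mem_centralizerIn.2 ⟨closed_apply' h.closedT hai hcU hc.1, fun y hy => ?_⟩
    obtain ⟨x, hx, rfl⟩ := he.mem_im.1 hy
    have hgx : g x ∈ U := hgU (apply_mem_im hx)
    have e1 : e x = afun a⁻¹ (g x) := by rw [hge x hx, afun_inv_apply a (he.apply_mem hx)]
    rw [e1, ← hai.map_cj hcU hgx, (mem_centralizerIn.1 hc).2 _ (apply_mem_im hx)]
  obtain ⟨x, hx, hxe⟩ := he.mem_im.1 (hle h1)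
  have h2 : g x = c := by rw [hge x hx, hxe, afun_apply_inv a hcU]
  exact h2 ▸ apply_mem_im hx

theorem ambient_F : Ambient F F D₁ D₂ p where
  sat := h.sat
  sub := fun _ _ hφ => hφ
  le := h.T_le
  com := fun _ hR => h.com_le hR
  nt := fun R hR hn => by
    simp only [TC, not_and, not_forall] at hn
    obtain ⟨Q, hQ, hQn⟩ := hn hR
    exact ⟨Q, hQ, hQn⟩

theorem ambient_1 : Ambient D₁ F D₁ D₂ p where
  sat := h.n1.1.1
  sub := h.i1.1
  le := inf_le_left
  com := fun _ _ => inf_le_left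
  nt := fun _ hR hn => h.exists_conj_not_le h.i1 inf_le_left hR hn

theorem ambient_2 : Ambient D₂ F D₁ D₂ p where
  sat := h.n2.1.1
  sub := h.i2.1
  le := inf_le_right
  com := fun _ _ => inf_le_right
  nt := fun _ hR hn => h.exists_conj_not_le h.i2 inf_le_right hR hn

variable {U : Subgroup Ω} {G : FusionSystem U}

omit [Fact p.Prime] in
theorem amb_aut_F (hG : Ambient G F D₁ D₂ p) {a : MulAut ↥T} (ha : a ∈ G.autGroup T) :
    a ∈ F.autGroup T :=
  mem_autGroup_of_mor (sub_mor hG.sub ((mem_autGroup hG.le).1 ha))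

theorem dec_comp (hG : Ambient G F D₁ D₂ p) {P Q : Subgroup Ω} {f g : Ω → Ω}
    (hf : Dec G F D₁ D₂ p h.T_le P f) (hg : Dec G F D₁ D₂ p h.T_le Q g)
    (hfQ : ∀ x ∈ P, f x ∈ Q) : Dec G F D₁ D₂ p h.T_le P (g ∘ f) := by
  obtain ⟨a, ha, e, he, hfe⟩ := hf
  obtain ⟨b, hb, e', he', hge⟩ := hg
  refine ⟨b * a, mul_mem hb ha, (afun a⁻¹ ∘ e' ∘ afun a) ∘ e, ?_, fun x hx => ?_⟩
  · refine he.comp (?_ : Mor L (im Q (afun a⁻¹)) (afun a⁻¹ ∘ e' ∘ afun a)) fun x hx => ?_
    · have := h.meet_conj he' (inv_mem (h.amb_aut_F hG ha))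
      rwa [inv_inv] at this
    · have h1 := hfQ x hx
      rw [hfe x hx] at h1
      rw [← afun_inv_apply a (he.apply_mem hx)]
      exact apply_mem_im h1
  · have h1 : afun a (e x) ∈ Q := hfe x hx ▸ hfQ x hx
    simp only [Function.comp_apply]
    rw [hfe x hx, hge _ h1, afun_mul _ _ (afun_mem _ (he'.apply_mem h1)),
      afun_apply_inv a (he'.apply_mem h1)]

theorem dec_inv (hG : Ambient G F D₁ D₂ p) {P : Subgroup Ω} {f g : Ω → Ω} (hfm : Mor G P f)
    (hgf : ∀ x ∈ P, g (f x) = x) (hf : Dec G F D₁ D₂ p h.T_le P f) :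
    Dec G F D₁ D₂ p h.T_le (im P f) g := by
  obtain ⟨a, ha, e, he, hfe⟩ := hf
  obtain ⟨i, hi, hie, -, -⟩ := he.exists_inv
  have h1 := h.meet_conj hi (h.amb_aut_F hG ha)
  have e1 : im (im P e) (afun a) = im P f := by
    rw [he.im_comp]; exact im_congr fun x hx => (hfe x hx).symm
  rw [e1] at h1
  refine ⟨a⁻¹, inv_mem ha, _, h1, fun y hy => ?_⟩
  obtain ⟨x, hx, rfl⟩ := hfm.mem_im.1 hy
  simp only [Function.comp_apply, hfe x hx, afun_inv_apply a (he.apply_mem hx), hie x hx]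
  rw [← hfe x hx, hgf x hx, afun_inv_apply a (he.le hx)]

omit [Finite S] [Fact p.Prime] in
theorem dec_restrict {P Q : Subgroup Ω} {f : Ω → Ω} (hf : Dec G F D₁ D₂ p h.T_le Q f)
    (hPQ : P ≤ Q) : Dec G F D₁ D₂ p h.T_le P f := by
  obtain ⟨a, ha, e, he, hfe⟩ := hf
  exact ⟨a, ha, e, he.restrict_to hPQ, fun x hx => hfe x (hPQ hx)⟩

omit [Finite S] [Fact p.Prime] in
theorem dec_congr {P : Subgroup Ω} {f g : Ω → Ω} (hf : Dec G F D₁ D₂ p h.T_le P f)
    (he : ∀ x ∈ P, f x = g x) : Dec G F D₁ D₂ p h.T_le P g := by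
  obtain ⟨a, ha, e, hem, hfe⟩ := hf
  exact ⟨a, ha, e, hem, fun x hx => (he x hx).symm.trans (hfe x hx)⟩

/-- Every map of `G` on a subgroup of `T` is an automorphism of `T` after a map of the meet. -/
theorem frattini (hG : Ambient G F D₁ D₂ p) {P : Subgroup Ω} (hP : P ≤ T) {f : Ω → Ω}
    (hf : Mor G P f) : Dec G F D₁ D₂ p h.T_le P f := by
  have hTS := h.T_le
  have hUS : U ≤ S := sub_le hG.sub
  haveI := finite_of_le hUS
  haveI := finite_of_le hTS
  have hUp : IsPGroup p U := h.pgrp.to_le hUS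
  have hTp : IsPGroup p ↥T := h.pgrp.to_le hTS
  have hTG : G.StronglyClosed T := stronglyClosed_iff.2 ⟨hG.le, fun P f hP hf x hx =>
    closed_apply h.closedT (sub_mor hG.sub hf) hP hx⟩
  suffices key : ∀ (n : ℕ) {P : Subgroup Ω}, P ≤ T → Nat.card ↥T ≤ Nat.card P + n →
      ∀ {f : Ω → Ω}, Mor G P f → Dec G F D₁ D₂ p h.T_le P f from
    key _ hP (Nat.le_add_left _ _) hf
  intro n
  induction n using Nat.strong_induction_on with
  | _ n ih =>
  intro P hP hn f hf
  rcases hP.eq_or_lt with e | hlt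
  · subst e
    obtain ⟨a, ha, hae⟩ := hf.exists_aut (hf.im_self fun x hx => closed_apply hTG hf le_rfl hx)
    exact ⟨a, ha, fun x => x, mor_id le_rfl, fun x hx => (hae x hx).symm⟩
  have hcPT : Nat.card P < Nat.card ↥T := Set.Finite.card_lt_card (Set.toFinite _) hlt
  obtain ⟨R, hPR, hR⟩ := exists_fullyNormalized (F := G) (hP.trans hG.le)
  have hP2 : im P f ≤ T := im_le_iff.2 fun x hx => closed_apply hTG hf hP hx
  have hR2 : G.IsConj (im P f) R :=
    isConj_trans (isConj_symm (FusionSysBasic.isConj_iff.2 ⟨f, hf, rfl⟩)) hPR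
  have hRT : R ≤ T := by
    obtain ⟨g, hg, rfl⟩ := FusionSysBasic.isConj_iff.1 hPR
    exact im_le_iff.2 fun x hx => closed_apply hTG hg hP hx
  have big : ∀ {Q Y : Subgroup Ω} {g : Ω → Ω}, Mor G Y g → Q ≤ Y → Y ≤ T →
      Nat.card P < Nat.card Y → Dec G F D₁ D₂ p h.T_le Q g := fun {Q Y g} hg hQY hY hlt =>
    h.dec_restrict (ih (n - 1) (by omega) hY (by omega) hg) hQY
  -- maps to the fully normalized subgroup
  have toR : ∀ {P' : Subgroup Ω}, P' ≤ T → Nat.card P' = Nat.card P → G.IsConj P' R →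
      ∃ θ, Mor G P' θ ∧ im P' θ = R ∧ Dec G F D₁ D₂ p h.T_le P' θ := by
    intro P' hP' hc hconj
    obtain ⟨θ, hθ, -, hθP⟩ := exists_map_to_fullyNormalized hUp hG.sat hR hconj
    have hN : normalizerIn T P' ≤ normalizerIn U P' := inf_le_inf_right _ hG.le
    refine ⟨θ, hθ.restrict_to (le_normalizerIn (hP'.trans hG.le)), hθP,
      big (hθ.restrict_to hN) (le_normalizerIn hP') inf_le_left ?_⟩
    rw [← hc]
    refine FusionFrattini88.card_lt_normalizerIn hTp le_rfl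
      (lt_of_le_of_ne hP' fun e => hcPT.ne ?_)
    rw [← hc, e]
  obtain ⟨θ1, hθ1, him1, hd1⟩ := toR hP rfl hPR
  obtain ⟨θ2, hθ2, him2, hd2⟩ := toR hP2 hf.card_im hR2
  obtain ⟨j1, hj1, hj1θ, -, hj1P⟩ := hθ1.exists_inv
  rw [him1] at hj1 hj1P
  obtain ⟨j2, hj2, hj2θ, -, -⟩ := hθ2.exists_inv
  rw [him2] at hj2
  have hβm : Mor G R (θ2 ∘ (f ∘ j1)) :=
    (hj1.comp hf hj1P).comp hθ2 fun y hy => apply_mem_im (hj1P y hy)
  obtain ⟨β, hβ, hβe⟩ := hβm.exists_aut (hβm.im_self fun y hy => him2 ▸ apply_mem_im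
    (apply_mem_im (hj1P y hy)))
  suffices hdβ : Dec G F D₁ D₂ p h.T_le R (afun β) by
    have h2 := h.dec_inv hG hθ2 hj2θ hd2
    rw [him2] at h2
    refine h.dec_congr (h.dec_comp hG (h.dec_comp hG hd1 hdβ fun x hx => him1 ▸ apply_mem_im hx) h2
      fun x hx => afun_mem β (him1 ▸ apply_mem_im hx)) fun x hx => ?_
    simp only [Function.comp_apply]
    rw [hβe _ (him1 ▸ apply_mem_im hx)]
    simp only [Function.comp_apply, hj1θ x hx, hj2θ _ (apply_mem_im hx)]
  have hcR : Nat.card R = Nat.card P := (isConj_card hPR).symm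
  have hRlt : R < T := lt_of_le_of_ne hRT fun e => hcPT.ne (by rw [← hcR, e])
  have hRU : R ≤ U := hRT.trans hG.le
  by_cases hTC : TC F T R
  · -- a Frattini argument
    set A := FusionMeet.com D₁ D₂ R
    let K : Subgroup (MulAut R) :=
      { carrier := {a | a ∈ G.autGroup R ∧ Dec G F D₁ D₂ p h.T_le R (afun a)}
        one_mem' := ⟨one_mem _, ⟨1, one_mem _, fun x => x, mor_id hRT, fun x hx => by
          rw [afun_one hx, afun_one (hRT hx)]⟩⟩
        mul_mem' := fun {a b} ⟨ha, ha'⟩ ⟨hb, hb'⟩ => ⟨mul_mem ha hb,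
          h.dec_congr (h.dec_comp hG hb' ha' fun x hx => afun_mem b hx)
            fun x hx => (afun_mul a b hx).symm⟩
        inv_mem' := fun {a} ⟨ha, ha'⟩ => ⟨inv_mem ha, by
          have := h.dec_inv hG ((mem_autGroup hRU).1 ha) (g := afun a⁻¹)
            (fun x hx => afun_inv_apply a hx) ha'
          rwa [im_afun] at this⟩ }
    have hN : normalizerIn T R ≤ normalizerIn U R := inf_le_inf_right _ hG.le
    have hNlt : Nat.card P < Nat.card (normalizerIn T R) :=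
      hcR ▸ FusionFrattini88.card_lt_normalizerIn hTp le_rfl hRlt
    obtain ⟨b, hb, m, hm, hmG, rfl, e, he, hee⟩ := FusionFrattini88.frattini_ext hUp hG.sat hR A
      (fun a ha m hm _ => h.com_conj hRT
        (mem_autGroup_of_mor (sub_mor hG.sub ((mem_autGroup hRU).1 ha))) hm)
      hN (fun g hg => autT_le_com hRT (mem_autInducedBy.2 ⟨g, hg.1, hg.2, fun x hx => afun_nHom _ hx⟩))
      hβ
    have hbK : b ∈ K := ⟨hb, h.dec_congr (big (he.restrict_to le_sup_right) (le_normalizerIn hRT)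
      inf_le_left hNlt) hee⟩
    have hmK : m ∈ K := by
      haveI := finite_autGroup (F := G) R
      have hAG : A ≤ G.autGroup R := hG.com R hRT
      have hsyl := FusionCentralLift.sylIn_inf (fullyAutomized_of_fullyNormalized hUp hG.sat hR).2
        (isPGroup_autInducedBy hUp R) hAG fun a ha m hm => h.com_conj hRT
          (mem_autGroup_of_mor (sub_mor hG.sub ((mem_autGroup hRU).1 ha))) hm
      obtain ⟨P0, hP0⟩ := hsyl
      haveI : Finite A := Finite.of_injective _ (Subgroup.inclusion_injective hAG)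
      have htop : (⊤ : Subgroup A) ≤ K.subgroupOf A := by
        rw [← TransferPResidual.sylow_sup_pResidual P0]
        refine sup_le (fun a ha => ?_) (TransferPResidual.pResidual_le_iff_coprime.2 fun a ha => ?_)
        · rw [hP0, Subgroup.mem_subgroupOf] at ha
          obtain ⟨g, hg, hgn, hge⟩ := mem_autInducedBy.1 ha.1
          exact Subgroup.mem_subgroupOf.2 ⟨hAG a.2, h.dec_congr
            (big (mor_cj (F := G) (inf_le_left.trans hG.le : normalizerIn T R ≤ U) hg)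
              (le_normalizerIn hRT) inf_le_left hNlt) fun x hx => (hge x hx).symm⟩
        · refine Subgroup.mem_subgroupOf.2 ⟨hAG a.2, 1, one_mem _, afun (a : MulAut R),
            (mem_autGroup hRT).1 (h.gam_aut hTC a.2 (by rwa [Subgroup.orderOf_coe])), fun x hx => ?_⟩
          rw [afun_one (hRT (afun_mem _ hx))]
      exact htop (x := ⟨m, hm⟩) trivial
    exact (K.mul_mem hbK hmK).2
  · obtain ⟨R', hR', hR'n⟩ := hG.nt R hRT hTC
    have hrec := receptive_of_fullyNormalized hUp hG.sat hR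
    obtain ⟨e, he, hee, -⟩ :=
      exists_extension_centralizer hrec ((mem_autGroup hRU).1 hβ) (im_afun β)
    have hCle : centralizerIn T R ≤ centralizerIn U R := inf_le_inf_right _ hG.le
    refine h.dec_congr (big (Y := R ⊔ centralizerIn T R) (he.restrict_to (sup_le_sup_left hCle R))
      le_sup_left (sup_le hRT inf_le_left) ?_) hee
    rw [← hcR]
    haveI : Finite ↥(R ⊔ centralizerIn T R : Subgroup Ω) :=
      finite_of_le (S := T) (sup_le hRT inf_le_left)
    have hlt' : R < R ⊔ centralizerIn T R := by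
      refine lt_of_le_of_ne le_sup_left fun e => hR'n ?_
      have hRC : centralizerIn T R ≤ R := le_sup_right.trans e.ge
      obtain ⟨g, hg, hgR⟩ := FusionSysBasic.isConj_iff.1 (isConj_symm hR')
      obtain ⟨g', hg', hge, hgC⟩ := exists_extension_centralizer hrec hg hgR
      intro c hc
      have hcU : c ∈ centralizerIn U R' := ⟨hG.le hc.1, hc.2⟩
      have h1 : g' c ∈ R := hRC ⟨closed_apply' hTG hg' (Subgroup.mem_sup_right hcU) hc.1,
        (hgC c hcU).2⟩
      obtain ⟨x, hx, hxe⟩ := hg.mem_im.1 (hgR.symm ▸ h1)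
      rw [← hge x hx] at hxe
      exact hg'.injOn (Subgroup.mem_sup_left hx) (Subgroup.mem_sup_right hcU) hxe ▸ hx
    exact Set.Finite.card_lt_card (Set.toFinite _) hlt'

end Setup

end Cfsg.Agent.FusionMeet
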