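import Cfsg.Agent.Lib.FusionLocalExt
import Cfsg.Agent.Lib.FusionInduct88
import Cfsg.Agent.Lib.FusionMeetBase

/-!
The system `locSys` over `R = N_T(X)` generated by the conjugations by `R` and the automorphisms of
order prime to `p` in the part `InCom`. Every map of `N` on a subgroup of `R` is an automorphism of
`R` after a map of `locSys` (`frattini`).
-/

set_option autoImplicit false

namespace Cfsg.Agent.FusionLocalSub

open Cfsg Cfsg.FusionSystem Cfsg.Agent.FusionSysBasic Cfsg.Agent.FusionSysSaturated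
open Cfsg.Agent.FusionSysNormal Cfsg.Agent.FusionKit88
open Cfsg.Agent.FusionLocalPart

variable {Ω : Type*} [Group Ω] {S T X : Subgroup Ω} {F : FusionSystem S} {E : FusionSystem T}
  {N : FusionSystem (normalizerIn S X)} {p : ℕ}

local notation "RR" => (T ⊓ normalizerIn S X)

/-- The generating automorphisms. -/
def Gam (F : FusionSystem S) (E : FusionSystem T) (N : FusionSystem (normalizerIn S X)) (p : ℕ)
    (P : Subgroup Ω) (f : Ω → Ω) : Prop :=
  TCN T N P ∧ Mor N P f ∧ im P f = P ∧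
    ∀ α : MulAut P, (∀ x ∈ P, afun α x = f x) → InCom F E N p P α ∧ (orderOf α).Coprime p

/-- The least closed predicate containing the generators. -/
def Phi0 (F : FusionSystem S) (E : FusionSystem T) (N : FusionSystem (normalizerIn S X)) (p : ℕ)
    (P : Subgroup Ω) (f : Ω → Ω) : Prop :=
  ∀ Φ : Subgroup Ω → (Ω → Ω) → Prop, FusionInduct88.Closed N (U := RR) Φ →
    (∀ R g, Gam F E N p R g → Φ R g) → Φ P f

theorem closed_phi0 : FusionInduct88.Closed N (U := RR) (Phi0 F E N p) where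
  congr := fun h he Φ hc hg => hc.congr (h Φ hc hg) he
  conj := fun hP hg _ hc _ => hc.conj hP hg
  comp := fun hf hg hP hQ hfQ h1 h2 Φ hc hg' =>
    hc.comp hf hg hP hQ hfQ (h1 Φ hc hg') (h2 Φ hc hg')
  inv := fun hf hg hP hgf h Φ hc hg' => hc.inv hf hg hP hgf (h Φ hc hg')

/-- The part of `N` in `E`. -/
noncomputable def locSys (F : FusionSystem S) (E : FusionSystem T)
    (N : FusionSystem (normalizerIn S X)) (p : ℕ) :
    FusionSystem (T ⊓ normalizerIn S X) :=
  FusionInduct88.subSystem inf_le_right (closed_phi0 (F := F) (E := E) (N := N) (p := p))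

local notation "L" => locSys F E N p

namespace NCtx

variable (h : NCtx F E N p)
include h

theorem R_le : RR ≤ normalizerIn S X := inf_le_right

theorem mor_loc {P : Subgroup Ω} {f : Ω → Ω} :
    Mor L P f ↔ Mor N P f ∧ P ≤ RR ∧ (∀ x ∈ P, f x ∈ RR) ∧ Phi0 F E N p P f :=
  FusionInduct88.mor_subSystem

theorem loc_sub : (L).IsSubsystemOf N := fun _ _ hφ => hφ.1

theorem loc_induction {Φ : Subgroup Ω → (Ω → Ω) → Prop}
    (hc : FusionInduct88.Closed N (U := RR) Φ) (hg : ∀ R g, Gam F E N p R g → Φ R g)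
    {P : Subgroup Ω} {f : Ω → Ω} (hf : Mor L P f) : Φ P f :=
  (h.mor_loc.1 hf).2.2.2 Φ hc hg

theorem gam_mor {P : Subgroup Ω} {f : Ω → Ω} (hG : Gam F E N p P f) : Mor L P f :=
  h.mor_loc.2 ⟨hG.2.1, hG.1.1, fun _ hx => hG.1.1 (hG.2.2.1.le (apply_mem_im hx)),
    fun _ _ hg => hg P f hG⟩

theorem gam_aut [Finite S] [Fact p.Prime] {P : Subgroup Ω} (hP : TCN T N P) {a : MulAut P}
    (ha : InCom F E N p P a) (hco : (orderOf a).Coprime p) : a ∈ (L).autGroup P := by
  refine mem_autGroup_of_mor (h.gam_mor ⟨hP,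
    (mem_autGroup (hP.1.trans inf_le_right)).1 (h.inCom_mem ha), im_afun a, fun b hb => ?_⟩)
  rw [afun_ext (α := b) (β := a) hb]
  exact ⟨ha, hco⟩

/-- The maps of the part of `N` in `E` are maps of `E`. -/
theorem loc_mor_E [Finite S] [Fact p.Prime] {P : Subgroup Ω} {f : Ω → Ω} (hf : Mor L P f) :
    Mor E P f := by
  refine h.loc_induction (Φ := fun P f => Mor E P f) ?_ ?_ hf
  · exact
    { congr := fun hf he => hf.congr he
      conj := fun hP hg => mor_cj (hP.trans inf_le_left) hg.1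
      comp := fun _ _ _ _ hfQ h1 h2 => h1.comp h2 hfQ
      inv := fun hf _ _ hgf h1 => by
        obtain ⟨k, hk, hkf, -, -⟩ := h1.exists_inv
        refine hk.congr fun y hy => ?_
        obtain ⟨x, hx, rfl⟩ := hf.mem_im.1 hy
        rw [hkf x hx, hgf x hx] }
  · rintro P f ⟨hc, hfm, hfP, hco⟩
    haveI : Finite ↥(normalizerIn S X) := finite_of_le inf_le_left
    obtain ⟨α, hα, hαe⟩ := hfm.exists_aut hfP
    exact ((mem_autGroup (hc.1.trans inf_le_left)).1
      (h.inCom_E (hc.1.trans inf_le_left) (hco α hαe).1)).congr hαe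

/-- The part of `N` in `E` is invariant under `Aut_N(R)`. -/
theorem loc_conj [Finite S] [Fact p.Prime] {P : Subgroup Ω} {f : Ω → Ω} (hf : Mor L P f)
    {a : MulAut ↥RR} (ha : a ∈ N.autGroup RR) :
    Mor L (im P (afun a)) (afun a ∘ f ∘ afun a⁻¹) := by
  haveI : Finite ↥(normalizerIn S X) := finite_of_le inf_le_left
  have hTS : RR ≤ normalizerIn S X := inf_le_right
  suffices ∀ a ∈ N.autGroup RR, Mor L (im P (afun a)) (afun a ∘ f ∘ afun a⁻¹) from this a ha
  refine h.loc_induction (Φ := fun P f => P ≤ RR ∧ (∀ x ∈ P, f x ∈ RR) ∧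
    ∀ a ∈ N.autGroup RR, Mor L (im P (afun a)) (afun a ∘ f ∘ afun a⁻¹)) ?_ ?_ hf |>.2.2
  · have hm : ∀ {a : MulAut ↥RR}, a ∈ N.autGroup RR → Mor N RR (afun a) := fun ha =>
      (mem_autGroup hTS).1 ha
    exact
    { congr := fun {P f g} ⟨hP, hfT, hk⟩ he => ⟨hP, fun x hx => he x hx ▸ hfT x hx, fun a ha =>
        (hk a ha).congr fun y hy => by
          obtain ⟨x, hx, rfl⟩ := ((hm ha).restrict_to hP).mem_im.1 hy
          simp only [Function.comp_apply, afun_inv_apply a (hP hx), he x hx]⟩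
      conj := fun {P g} hP hg => ⟨hP, fun x hx => cj_mem_S hg (hP hx), fun a ha => by
        have hle : im P (afun a) ≤ RR := im_le_iff.2 fun x hx => afun_mem a (hP hx)
        refine (mor_cj hle (afun_mem a hg)).congr fun y hy => ?_
        obtain ⟨x, hx, rfl⟩ := ((hm ha).restrict_to hP).mem_im.1 hy
        simp only [Function.comp_apply, afun_inv_apply a (hP hx), (hm ha).map_cj hg (hP hx)]⟩
      comp := fun {P Q f g} _ _ _ _ hfQ ⟨hP, hfT, hk⟩ ⟨hQ, hgT, hk'⟩ => ⟨hP,
        fun x hx => hgT _ (hfQ x hx), fun a ha => by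
          refine ((hk a ha).comp (hk' a ha) fun y hy => ?_).congr fun y hy => ?_
          · obtain ⟨x, hx, rfl⟩ := ((hm ha).restrict_to hP).mem_im.1 hy
            simp only [Function.comp_apply, afun_inv_apply a (hP hx)]
            exact apply_mem_im (hfQ x hx)
          · obtain ⟨x, hx, rfl⟩ := ((hm ha).restrict_to hP).mem_im.1 hy
            simp only [Function.comp_apply, afun_inv_apply a (hP hx), afun_inv_apply a (hfT x hx)]⟩
      inv := fun {P f g} hf _ _ hgf ⟨hP, hfT, hk⟩ => by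
        refine ⟨im_le_iff.2 hfT, fun y hy => ?_, fun a ha => ?_⟩
        · obtain ⟨x, hx, rfl⟩ := hf.mem_im.1 hy
          rw [hgf x hx]; exact hP hx
        obtain ⟨i, hi, hif, -, -⟩ := (hk a ha).exists_inv
        have e : im (im P (afun a)) (afun a ∘ f ∘ afun a⁻¹) = im (im P f) (afun a) := by
          rw [((hm ha).restrict_to hP).im_comp, hf.im_comp]
          exact im_congr fun x hx => by simp [afun_inv_apply a (hP hx)]
        rw [e] at hi
        refine hi.congr fun y hy => ?_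
        obtain ⟨z, hz, rfl⟩ := ((hm ha).restrict_to (im_le_iff.2 hfT)).mem_im.1 hy
        obtain ⟨x, hx, rfl⟩ := hf.mem_im.1 hz
        have h1 := hif (afun a x) (apply_mem_im hx)
        simp only [Function.comp_apply, afun_inv_apply a (hP hx)] at h1
        simp only [Function.comp_apply, afun_inv_apply a (hfT x hx), hgf x hx, h1] }
  · rintro P f ⟨hRc, hfm, hfP, hco⟩
    refine ⟨hRc.1, fun x hx => hRc.1 (hfP.le (apply_mem_im hx)), fun a ha => ?_⟩
    have haR := ((mem_autGroup hTS).1 ha).restrict_to hRc.1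
    obtain ⟨α, hα, hαe⟩ := hfm.exists_aut hfP
    have h1 := h.gam_aut (h.tc_conj hRc (FusionSysBasic.isConj_iff.2 ⟨_, haR, rfl⟩))
      (h.inCom_transport haR rfl (hco α hαe).1) (by rw [MulEquiv.orderOf_eq]; exact (hco α hαe).2)
    refine ((mem_autGroup (im_le_iff.2 fun x hx => afun_mem a (hRc.1 hx))).1 h1).congr
      fun y hy => ?_
    obtain ⟨x, hx, rfl⟩ := haR.mem_im.1 hy
    rw [haR.afun_transport rfl α hx, hαe x hx]
    simp only [Function.comp_apply, afun_inv_apply a (hRc.1 hx)]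

end NCtx

/-- `f` on `P` is an automorphism in `N` of `R` after a map of the part in `E`. -/
def Dec (F : FusionSystem S) (E : FusionSystem T) (N : FusionSystem (normalizerIn S X)) (p : ℕ)
    (P : Subgroup Ω) (f : Ω → Ω) : Prop :=
  ∃ a ∈ N.autGroup RR, ∃ e, Mor (locSys F E N p) P e ∧ ∀ x ∈ P, f x = afun a (e x)

namespace NCtx

variable (h : NCtx F E N p) [Finite S] [Fact p.Prime]
include h

theorem dec_comp {P Q : Subgroup Ω} {f g : Ω → Ω}
    (hf : Dec F E N p P f) (hg : Dec F E N p Q g)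
    (hfQ : ∀ x ∈ P, f x ∈ Q) : Dec F E N p P (g ∘ f) := by
  obtain ⟨a, ha, e, he, hfe⟩ := hf
  obtain ⟨b, hb, e', he', hge⟩ := hg
  refine ⟨b * a, mul_mem hb ha, (afun a⁻¹ ∘ e' ∘ afun a) ∘ e, ?_, fun x hx => ?_⟩
  · refine he.comp (?_ : Mor L (im Q (afun a⁻¹)) (afun a⁻¹ ∘ e' ∘ afun a)) fun x hx => ?_
    · have := h.loc_conj he' (inv_mem ha)
      rwa [inv_inv] at this
    · have h1 := hfQ x hx
      rw [hfe x hx] at h1
      rw [← afun_inv_apply a (he.apply_mem hx)]
      exact apply_mem_im h1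
  · have h1 : afun a (e x) ∈ Q := hfe x hx ▸ hfQ x hx
    simp only [Function.comp_apply]
    rw [hfe x hx, hge _ h1, afun_mul _ _ (afun_mem _ (he'.apply_mem h1)),
      afun_apply_inv a (he'.apply_mem h1)]

theorem dec_inv {P : Subgroup Ω} {f g : Ω → Ω} (hfm : Mor N P f)
    (hgf : ∀ x ∈ P, g (f x) = x) (hf : Dec F E N p P f) :
    Dec F E N p (im P f) g := by
  obtain ⟨a, ha, e, he, hfe⟩ := hf
  obtain ⟨i, hi, hie, -, -⟩ := he.exists_inv
  have h1 := h.loc_conj hi ha
  have e1 : im (im P e) (afun a) = im P f := by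
    rw [he.im_comp]; exact im_congr fun x hx => (hfe x hx).symm
  rw [e1] at h1
  refine ⟨a⁻¹, inv_mem ha, _, h1, fun y hy => ?_⟩
  obtain ⟨x, hx, rfl⟩ := hfm.mem_im.1 hy
  simp only [Function.comp_apply, hfe x hx, afun_inv_apply a (he.apply_mem hx), hie x hx]
  rw [← hfe x hx, hgf x hx, afun_inv_apply a (he.le hx)]

omit h [Finite S] [Fact p.Prime] in
theorem dec_restrict {P Q : Subgroup Ω} {f : Ω → Ω} (hf : Dec F E N p Q f)
    (hPQ : P ≤ Q) : Dec F E N p P f := by
  obtain ⟨a, ha, e, he, hfe⟩ := hf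
  exact ⟨a, ha, e, he.restrict_to hPQ, fun x hx => hfe x (hPQ hx)⟩

omit h [Finite S] [Fact p.Prime] in
theorem dec_congr {P : Subgroup Ω} {f g : Ω → Ω} (hf : Dec F E N p P f)
    (he : ∀ x ∈ P, f x = g x) : Dec F E N p P g := by
  obtain ⟨a, ha, e, hem, hfe⟩ := hf
  exact ⟨a, ha, e, hem, fun x hx => (he x hx).symm.trans (hfe x hx)⟩

/-- Every map of `N` on a subgroup of `R` is an automorphism of `R` after a map of `locSys`. -/
theorem frattini {P : Subgroup Ω} (hP : P ≤ RR) {f : Ω → Ω}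
    (hf : Mor N P f) : Dec F E N p P f := by
  have hTS : RR ≤ normalizerIn S X := inf_le_right
  haveI : Finite ↥(normalizerIn S X) := finite_of_le inf_le_left
  haveI := finite_of_le hTS
  have hUp : IsPGroup p ↥(normalizerIn S X) := h.Np
  have hTp : IsPGroup p ↥RR := hUp.to_le hTS
  have hTG := h.closedR
  suffices key : ∀ (n : ℕ) {P : Subgroup Ω}, P ≤ RR → Nat.card ↥RR ≤ Nat.card P + n →
      ∀ {f : Ω → Ω}, Mor N P f → Dec F E N p P f from
    key _ hP (Nat.le_add_left _ _) hf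
  intro n
  induction n using Nat.strong_induction_on with
  | _ n ih =>
  intro P hP hn f hf
  rcases hP.eq_or_lt with e | hlt
  · subst e
    obtain ⟨a, ha, hae⟩ := hf.exists_aut (hf.im_self fun x hx => closed_apply hTG hf le_rfl hx)
    exact ⟨a, ha, fun x => x, mor_id le_rfl, fun x hx => (hae x hx).symm⟩
  have hcPT : Nat.card P < Nat.card ↥RR := Set.Finite.card_lt_card (Set.toFinite _) hlt
  obtain ⟨R, hPR, hR⟩ := exists_fullyNormalized (F := N) (hP.trans hTS)
  have hP2 : im P f ≤ RR := im_le_iff.2 fun x hx => closed_apply hTG hf hP hx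
  have hR2 : N.IsConj (im P f) R :=
    isConj_trans (isConj_symm (FusionSysBasic.isConj_iff.2 ⟨f, hf, rfl⟩)) hPR
  have hRT : R ≤ RR := by
    obtain ⟨g, hg, rfl⟩ := FusionSysBasic.isConj_iff.1 hPR
    exact im_le_iff.2 fun x hx => closed_apply hTG hg hP hx
  have big : ∀ {Q Y : Subgroup Ω} {g : Ω → Ω}, Mor N Y g → Q ≤ Y → Y ≤ RR →
      Nat.card P < Nat.card Y → Dec F E N p Q g := fun {Q Y g} hg hQY hY hlt =>
    dec_restrict (ih (n - 1) (by omega) hY (by omega) hg) hQY
  -- maps to the fully normalized subgroup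
  have toR : ∀ {P' : Subgroup Ω}, P' ≤ RR → Nat.card P' = Nat.card P → N.IsConj P' R →
      ∃ θ, Mor N P' θ ∧ im P' θ = R ∧ Dec F E N p P' θ := by
    intro P' hP' hc hconj
    obtain ⟨θ, hθ, -, hθP⟩ := exists_map_to_fullyNormalized hUp h.satN hR hconj
    have hN : normalizerIn RR P' ≤ normalizerIn (normalizerIn S X) P' := inf_le_inf_right _ hTS
    refine ⟨θ, hθ.restrict_to (le_normalizerIn (hP'.trans hTS)), hθP,
      big (hθ.restrict_to hN) (le_normalizerIn hP') inf_le_left ?_⟩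
    rw [← hc]
    refine FusionFrattini88.card_lt_normalizerIn hTp le_rfl
      (lt_of_le_of_ne hP' fun e => hcPT.ne ?_)
    rw [← hc, e]
  obtain ⟨θ1, hθ1, him1, hd1⟩ := toR hP rfl hPR
  obtain ⟨θ2, hθ2, him2, hd2⟩ := toR hP2 hf.card_im hR2
  obtain ⟨j1, hj1, hj1θ, -, hj1P⟩ := hθ1.exists_inv
  rw [him1] at hj1 hj1P
  obtain ⟨j2, hj2, hj2θ, -, -⟩ := hθ2.exists_inv
  rw [him2] at hj2
  have hβm : Mor N R (θ2 ∘ (f ∘ j1)) :=
    (hj1.comp hf hj1P).comp hθ2 fun y hy => apply_mem_im (hj1P y hy)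
  obtain ⟨β, hβ, hβe⟩ := hβm.exists_aut (hβm.im_self fun y hy => him2 ▸ apply_mem_im
    (apply_mem_im (hj1P y hy)))
  suffices hdβ : Dec F E N p R (afun β) by
    have h2 := h.dec_inv hθ2 hj2θ hd2
    rw [him2] at h2
    refine dec_congr (h.dec_comp (h.dec_comp hd1 hdβ fun x hx => him1 ▸ apply_mem_im hx) h2
      fun x hx => afun_mem β (him1 ▸ apply_mem_im hx)) fun x hx => ?_
    simp only [Function.comp_apply]
    rw [hβe _ (him1 ▸ apply_mem_im hx)]
    simp only [Function.comp_apply, hj1θ x hx, hj2θ _ (apply_mem_im hx)]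
  have hcR : Nat.card R = Nat.card P := (isConj_card hPR).symm
  have hRlt : R < RR := lt_of_le_of_ne hRT fun e => hcPT.ne (by rw [← hcR, e])
  have hRU : R ≤ (normalizerIn S X) := hRT.trans hTS
  by_cases hTC : TCN T N R
  · -- a Frattini argument
    set A := h.comG hTC
    let K : Subgroup (MulAut R) :=
      { carrier := {a | a ∈ N.autGroup R ∧ Dec F E N p R (afun a)}
        one_mem' := ⟨one_mem _, ⟨1, one_mem _, fun x => x, mor_id hRT, fun x hx => by
          rw [afun_one hx, afun_one (hRT hx)]⟩⟩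
        mul_mem' := fun {a b} ⟨ha, ha'⟩ ⟨hb, hb'⟩ => ⟨mul_mem ha hb,
          dec_congr (h.dec_comp hb' ha' fun x hx => afun_mem b hx)
            fun x hx => (afun_mul a b hx).symm⟩
        inv_mem' := fun {a} ⟨ha, ha'⟩ => ⟨inv_mem ha, by
          have := h.dec_inv ((mem_autGroup hRU).1 ha) (g := afun a⁻¹)
            (fun x hx => afun_inv_apply a hx) ha'
          rwa [im_afun] at this⟩ }
    have hN : normalizerIn RR R ≤ normalizerIn (normalizerIn S X) R := inf_le_inf_right _ hTS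
    have hNlt : Nat.card P < Nat.card (normalizerIn RR R) :=
      hcR ▸ FusionFrattini88.card_lt_normalizerIn hTp le_rfl hRlt
    obtain ⟨b, hb, m, hm, hmG, rfl, e, he, hee⟩ := FusionFrattini88.frattini_ext hUp h.satN hR A
      (fun a ha m hm _ => h.com_conj ha (hRT.trans hTS) hm)
      hN (fun g hg => h.autR_inCom hTC (mem_autInducedBy.2 ⟨g, hg.1, hg.2, fun x hx => afun_nHom _ hx⟩))
      hβ
    have hbK : b ∈ K := ⟨hb, dec_congr (big (he.restrict_to le_sup_right) (le_normalizerIn hRT)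
      inf_le_left hNlt) hee⟩
    have hmK : m ∈ K := by
      haveI := finite_autGroup (F := N) R
      have hAG : A ≤ N.autGroup R := fun x hx => h.inCom_mem hx
      have hsyl := FusionCentralLift.sylIn_inf (fullyAutomized_of_fullyNormalized hUp h.satN hR).2
        (isPGroup_autInducedBy hUp R) hAG fun a ha m hm => h.com_conj ha (hRT.trans hTS) hm
      obtain ⟨P0, hP0⟩ := hsyl
      haveI : Finite A := Finite.of_injective _ (Subgroup.inclusion_injective hAG)
      have htop : (⊤ : Subgroup A) ≤ K.subgroupOf A := by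
        rw [← TransferPResidual.sylow_sup_pResidual P0]
        refine sup_le (fun a ha => ?_) (TransferPResidual.pResidual_le_iff_coprime.2 fun a ha => ?_)
        · rw [hP0, Subgroup.mem_subgroupOf] at ha
          obtain ⟨g, hg, hgn, hge⟩ := mem_autInducedBy.1 (h.com_sylow hR hTC ha.1 a.2)
          exact Subgroup.mem_subgroupOf.2 ⟨hAG a.2, dec_congr
            (big (mor_cj (F := N) (inf_le_left.trans hTS : normalizerIn RR R ≤ normalizerIn S X) hg.2)
              (le_normalizerIn hRT) inf_le_left hNlt) fun x hx => (hge x hx).symm⟩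
        · refine Subgroup.mem_subgroupOf.2 ⟨hAG a.2, 1, one_mem _, afun (a : MulAut R),
            (mem_autGroup hRT).1 (h.gam_aut hTC a.2 (by rwa [Subgroup.orderOf_coe])), fun x hx => ?_⟩
          rw [afun_one (hRT (afun_mem _ hx))]
      exact htop (x := ⟨m, hm⟩) trivial
    exact (K.mul_mem hbK hmK).2
  · by_cases hX0 : X ⊓ T ≤ R
    swap
    · -- `X ⊓ T` enlarges `R`
      obtain ⟨g, hg, hge, -⟩ := (isNormal_iff.1 h.X_normal).2 R _ ((mem_autGroup hRU).1 hβ)
      have hX0R : X ⊓ T ≤ RR := le_inf inf_le_right (inf_le_left.trans (le_normalizerIn h.hX.1))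
      refine dec_congr (big (Y := R ⊔ (X ⊓ T))
        (hg.restrict_to (sup_le_sup_left inf_le_left R)) le_sup_left (sup_le hRT hX0R) ?_) hge
      rw [← hcR]
      haveI : Finite ↥(R ⊔ (X ⊓ T) : Subgroup Ω) := finite_of_le (S := RR) (sup_le hRT hX0R)
      exact Set.Finite.card_lt_card (Set.toFinite _)
        (lt_of_le_of_ne (le_sup_left : R ≤ R ⊔ (X ⊓ T)) fun e => hX0 (le_sup_right.trans e.ge))
    obtain ⟨R', hR', hR'n⟩ : ∃ R', N.IsConj R R' ∧ ¬ centralizerIn RR R' ≤ R' := by
      simp only [TCN, hRT, hX0, true_and, not_forall] at hTC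
      obtain ⟨Q, hQ, hQn⟩ := hTC
      exact ⟨Q, hQ, hQn⟩
    have hrec := receptive_of_fullyNormalized hUp h.satN hR
    obtain ⟨e, he, hee, -⟩ :=
      exists_extension_centralizer hrec ((mem_autGroup hRU).1 hβ) (im_afun β)
    have hCle : centralizerIn RR R ≤ centralizerIn (normalizerIn S X) R := inf_le_inf_right _ hTS
    refine dec_congr (big (Y := R ⊔ centralizerIn RR R) (he.restrict_to (sup_le_sup_left hCle R))
      le_sup_left (sup_le hRT inf_le_left) ?_) hee
    rw [← hcR]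
    haveI : Finite ↥(R ⊔ centralizerIn RR R : Subgroup Ω) :=
      finite_of_le (S := RR) (sup_le hRT inf_le_left)
    have hlt' : R < R ⊔ centralizerIn RR R := by
      refine lt_of_le_of_ne le_sup_left fun e => hR'n ?_
      have hRC : centralizerIn RR R ≤ R := le_sup_right.trans e.ge
      obtain ⟨g, hg, hgR⟩ := FusionSysBasic.isConj_iff.1 (isConj_symm hR')
      obtain ⟨g', hg', hge, hgC⟩ := exists_extension_centralizer hrec hg hgR
      intro c hc
      have hcU : c ∈ centralizerIn (normalizerIn S X) R' := ⟨hTS hc.1, hc.2⟩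
      have h1 : g' c ∈ R := hRC ⟨closed_apply' hTG hg' (Subgroup.mem_sup_right hcU) hc.1,
        (hgC c hcU).2⟩
      obtain ⟨x, hx, hxe⟩ := hg.mem_im.1 (hgR.symm ▸ h1)
      rw [← hge x hx] at hxe
      exact hg'.injOn (Subgroup.mem_sup_left hx) (Subgroup.mem_sup_right hcU) hxe ▸ hx
    exact Set.Finite.card_lt_card (Set.toFinite _) hlt'

end NCtx

end Cfsg.Agent.FusionLocalSub
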