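import Cfsg.Agent.Lib.FusionLocalPart

/-!
For centric `Q ≤ Q'` and an automorphism of order prime to `p` of `Q'` stabilizing `Q`, belonging to
`E` is the same for the automorphism and for its restriction (`inA_iff`).
-/

set_option autoImplicit false

namespace Cfsg.Agent.FusionLocalPart

open Cfsg Cfsg.FusionSystem Cfsg.Agent.FusionSysBasic Cfsg.Agent.FusionSysSaturated
open Cfsg.Agent.FusionSysNormal Cfsg.Agent.FusionKit88 Cfsg.Agent.FusionSysNormalizer
open scoped Pointwise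

variable {Ω : Type*} [Group Ω] {S T : Subgroup Ω} {F : FusionSystem S} {E : FusionSystem T}
  {p : ℕ}

theorem inA_transport_iff {Q Q2 : Subgroup Ω} {φ : Ω → Ω} (hφ : Mor F Q φ) (him : im Q φ = Q2)
    {a : MulAut Q} : InA F E p Q2 (hφ.transport him a) ↔ InA F E p Q a := by
  refine ⟨fun ha => ?_, inA_transport hφ him⟩
  obtain ⟨i, hi, hiφ, -, -⟩ := hφ.exists_inv
  rw [him] at hi
  have himi : im Q2 i = Q := by
    rw [← him, hφ.im_comp]
    exact (im_congr fun x hx => hiφ x hx).trans (im_id Q)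
  have := inA_transport hi himi ha
  rwa [transport_inv hφ him hi himi hiφ] at this

/-- Restrictions of automorphisms of order prime to `p` have order prime to `p`. -/
theorem coprime_restrict {Q R : Subgroup Ω} (hQR : Q ≤ R) {f : MulAut R} {a : MulAut Q}
    (hco : (orderOf f).Coprime p) (h : ∀ x ∈ Q, afun f x = afun a x) : (orderOf a).Coprime p :=
  hco.coprime_dvd_left (orderOf_dvd_of_pow_eq_one (afun_ext fun x hx => by
    rw [← FusionCentralizerSub.pow_restrict hQR h _ x hx, pow_orderOf_eq_one, afun_one (hQR hx),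
      afun_one hx]))

namespace Ctx

variable (h : Ctx F E p) [Finite S] [Fact p.Prime]
include h

/-- In the relatively centric case membership only needs `bst`. -/
theorem inA_of_bst {Q : Subgroup Ω} (hQ : F.IsCentric Q) (hc : TCq F T Q) {a : MulAut Q}
    (ha : a ∈ bst F E Q) (hco : (orderOf a).Coprime p) : InA F E p Q a := by
  obtain ⟨Q', θ, hr, hθN, hθQ, -⟩ := h.exists_rep hQ
  have hθ := hθN.restrict_to (le_normalizerIn hQ.1)
  exact InA.base hθ hθQ hr (tcq_conj h.closed hθ hθQ hc) (Subgroup.mem_sup_left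
    (Subgroup.subset_closure ⟨h.bst_transport hθ hθQ ha, by rwa [MulEquiv.orderOf_eq]⟩))

omit [Finite S] [Fact p.Prime] in
theorem tcq_upward {Q Q' : Subgroup Ω} (hc : TCq F T Q) (hQQ' : Q ≤ Q') : TCq F T Q' := by
  intro R hR c hc'
  obtain ⟨g, hg, rfl⟩ := FusionSysBasic.isConj_iff.1 hR
  have hle : Q ⊓ T ≤ Q' ⊓ T := inf_le_inf_right T hQQ'
  exact im_mono hle (hc _ (FusionSysBasic.isConj_iff.2 ⟨g, hg.restrict_to hle, rfl⟩)
    (mem_centralizerIn.2 ⟨hc'.1, fun y hy => (mem_centralizerIn.1 hc').2 y (im_mono hle hy)⟩))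

/-- A normal step in the relatively centric case, upwards. -/
theorem base_up {Q Q' : Subgroup Ω} (hr : Rep F T Q) (hc : TCq F T Q) (hQQ' : Q ≤ Q')
    (hN : Q' ≤ normalizerIn S Q) {f : MulAut Q'} (hf : f ∈ F.autGroup Q')
    (hco : (orderOf f).Coprime p) {a : MulAut Q} (hfa : ∀ x ∈ Q, afun f x = afun a x)
    (ha : InA F E p Q a) : InA F E p Q' f := by
  have hQ'S : Q' ≤ S := hN.trans inf_le_left
  have hTS := h.T_le
  haveI := finite_of_le hTS
  have hTp : IsPGroup p T := h.pgrp.to_le hTS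
  obtain ⟨-, haT, e, he, hee⟩ := h.inA_bst ha
  have hfm := (mem_autGroup hQ'S).1 hf
  -- the part in `T`
  have hm0 := hfm.restrict_to (inf_le_left : Q' ⊓ T ≤ Q')
  have hmap : ∀ x ∈ Q' ⊓ T, afun f x ∈ Q' ⊓ T := fun x hx =>
    ⟨afun_mem f hx.1, closed_apply' h.closed hfm hx.1 hx.2⟩
  obtain ⟨φ, hφ, hφe⟩ := hm0.exists_aut (hm0.im_self hmap)
  have hle : Q ⊓ T ≤ Q' ⊓ T := inf_le_inf_right T hQQ'
  have hN0 : Q' ⊓ T ≤ Subgroup.normalizer ((Q ⊓ T : Subgroup Ω) : Set Ω) :=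
    fun x hx => (h.normalizer_le_inf hr.1.1 (hN hx.1)).2
  have hfe : ∀ x ∈ Q ⊓ T, afun f x = afun e x := fun x hx => by rw [hfa x hx.1, hee x hx]
  -- an extension in `E`
  obtain ⟨g, hg, hge⟩ := (receptive_iff.1 (receptive_of_fullyNormalized hTp h.nE.1.1
    (fullyNormalized_sub h.pgrp h.sat h.inv.1 h.closed inf_le_right hr.2.1))).2 (Q ⊓ T) _
    (Q' ⊓ T) ((mem_autGroup inf_le_right).1 he) (im_afun e) inf_le_right hN0 fun x hx =>
      ⟨afun f x, (hmap x hx).2, fun y hy => by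
        rw [← hfe y hy, ← hfe _ (cj_mem_of_normalizer (hN0 hx) hy),
          hfm.map_cj hx.1 (hle hy).1]⟩
  have hgd : ∀ x ∈ Q' ⊓ T, (afun f x)⁻¹ * g x ∈ Q ⊓ T := by
    intro x hx
    have hxD : x ∈ Q ⊓ T ⊔ Q' ⊓ T := Subgroup.mem_sup_right hx
    refine hc _ (isConj_refl hr.2.1.1) (mem_centralizerIn.2
      ⟨T.mul_mem (T.inv_mem (hmap x hx).2) (hg.apply_mem hxD), fun y hy => ?_⟩)
    obtain ⟨z, hz, rfl⟩ : ∃ z ∈ Q ⊓ T, afun e z = y :=
      ⟨afun e⁻¹ y, afun_mem _ hy, afun_apply_inv e hy⟩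
    rw [← cj_cj]
    conv_lhs => rw [← hge z hz, ← hg.map_cj hxD (Subgroup.mem_sup_left hz),
      hge _ (cj_mem_of_normalizer (hN0 hx) hz), ← hfe _ (cj_mem_of_normalizer (hN0 hx) hz),
      hfm.map_cj hx.1 (hle hz).1, hfe z hz, cj_inv_cj]
  have hg' := hg.restrict_to (le_sup_right : Q' ⊓ T ≤ Q ⊓ T ⊔ Q' ⊓ T)
  have hgmap : ∀ x ∈ Q' ⊓ T, g x ∈ Q' ⊓ T := fun x hx => by
    have := (Q' ⊓ T).mul_mem (hmap x hx) (hle (hgd x hx))
    rwa [mul_inv_cancel_left] at this
  obtain ⟨ε, hε, hεe⟩ := hg'.exists_aut (hg'.im_self hgmap)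
  have hεF : ε ∈ F.autGroup (Q' ⊓ T) :=
    mem_autGroup_of_mor (sub_mor h.inv.1 ((mem_autGroup inf_le_right).1 hε))
  have hκ : ∃ k : ℕ, (φ⁻¹ * ε) ^ p ^ k = 1 := by
    haveI : Finite ↥(Q' ⊓ T) := finite_of_le (inf_le_left.trans hQ'S)
    refine pow_eq_one_of_stabilizes (h.pgrp.to_le (inf_le_left.trans hQ'S)) (n := 2)
      (fun i => if i = 0 then ⊥ else if i = 1 then Q ⊓ T else Q' ⊓ T) rfl rfl
      (fun i => by split_ifs <;> simp [hle]) (fun i hi => by interval_cases i <;> simp [hle])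
      fun i hi y hy => ?_
    interval_cases i
    · simp only [zero_add, if_neg one_ne_zero, if_pos rfl] at hy
      have h1 : afun ε y = afun φ y := by
        rw [hεe y (hle hy), hge y hy, hφe y (hle hy), hfe y hy]
      simp [afun_mul _ _ (hle hy), h1, afun_inv_apply φ (hle hy)]
    · simp only [if_neg one_ne_zero, if_pos rfl]
      simp only [show (1 + 1 = 0) = False by simp, show (1 + 1 = 1) = False by simp, if_false] at hy
      set d := (afun f y)⁻¹ * g y
      have hd : d ∈ Q ⊓ T := hgd y hy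
      have hd' : afun φ⁻¹ d ∈ Q ⊓ T := by
        have h1 : afun φ⁻¹ d = afun e⁻¹ d := by
          conv_lhs => rw [← afun_apply_inv e hd, ← hfe _ (afun_mem _ hd),
            ← hφe _ (hle (afun_mem _ hd))]
          exact afun_inv_apply φ (hle (afun_mem _ hd))
        rw [h1]; exact afun_mem _ hd
      have h2 : afun (φ⁻¹ * ε) y = y * afun φ⁻¹ d := by
        rw [afun_mul _ _ hy, hεe y hy, show g y = afun φ y * d by
          rw [hφe y hy, mul_inv_cancel_left], afun_map_mul _ (afun_mem φ hy) (hle hd),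
          afun_inv_apply φ hy]
      rw [h2, inv_mul_cancel_left]
      exact hd'
  obtain ⟨k, hk⟩ := hκ
  have hφE : φ ∈ E.autGroup (Q' ⊓ T) := by
    refine FusionMeetKey.mem_of_div_mem (J := Subgroup.zpowers (φ * ε⁻¹))
      (fun x hx => mem_autGroup_of_mor (sub_mor h.inv.1 ((mem_autGroup inf_le_right).1 hx)))
      (fun u hu n hn => FusionCentralizerSub.conj_mem_autGroup h.inv inf_le_right hu hn) ?_
      (Subgroup.zpowers_le.2 (mul_mem hφ (inv_mem hεF))) hφ
      (coprime_restrict (inf_le_left : Q' ⊓ T ≤ Q') hco fun x hx => (hφe x hx).symm)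
      hε (Subgroup.mem_zpowers _)
    have h3 : (φ * ε⁻¹) ^ p ^ k = 1 := by
      have h4 : (φ⁻¹ * ε)⁻¹ = φ⁻¹ * (φ * (φ⁻¹ * ε)⁻¹ * φ⁻¹) * φ := by group
      have h5 : φ * ε⁻¹ = φ * (φ⁻¹ * ε)⁻¹ * φ⁻¹ := by group
      rw [h5, conj_pow, inv_pow, hk]; group
    obtain ⟨j, -, hj⟩ := (Nat.dvd_prime_pow (Fact.out : p.Prime)).1 (orderOf_dvd_of_pow_eq_one h3)
    exact IsPGroup.of_card (n := j) (by rw [Nat.card_zpowers, hj])
  refine h.inA_of_bst (FusCentric.centric_upward hr.2.2 hQQ' hQ'S) (h.tcq_upward hc hQQ')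
    ⟨hf, h.triv_of_inA hr.2.2 hQQ' hN hf hco ha hfa, φ, hφE, fun x hx => (hφe x hx).symm⟩ hco

/-- An extension of a `p'`-automorphism to `Q' R₁`. -/
theorem exists_U {Q Q' : Subgroup Ω} (hr : Rep F T Q) (hQQ' : Q ≤ Q')
    (hN : Q' ≤ normalizerIn S Q) {f : MulAut Q'} (hf : f ∈ F.autGroup Q')
    (hco : (orderOf f).Coprime p) {a : MulAut Q} (hfa : ∀ x ∈ Q, afun f x = afun a x) :
    ∃ Φ ∈ F.autGroup (Q' ⊔ upq T Q), (orderOf Φ).Coprime p ∧
      (∀ x ∈ Q', afun Φ x = afun f x) ∧ ∀ x ∈ upq T Q, afun Φ x ∈ upq T Q := by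
  have hQS := hr.1.1
  have hQ'S : Q' ≤ S := hN.trans inf_le_left
  set U := Q' ⊔ upq T Q with hU
  have hUN : U ≤ normalizerIn S Q := sup_le hN (h.upq_le hQS)
  have hUS : U ≤ S := hUN.trans inf_le_left
  have hfm := (mem_autGroup hQ'S).1 hf
  have ham : Mor F Q (afun a) := (hfm.restrict_to hQQ').congr hfa
  obtain ⟨b, hb, hbe⟩ := h.exists_ext_upq hr.1 (mem_autGroup_of_mor ham)
  have hbm := (mem_autGroup ((h.upq_le hQS).trans inf_le_left)).1 hb
  set L := (autInducedBy S Q).comap (MulAut.conj a).toMonoidHom with hL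
  -- anything with a conjugate image is in the domain
  have hmem : ∀ {R : Subgroup Ω} {ψ : Ω → Ω}, Mor F R ψ → Q ≤ R → R ≤ normalizerIn S Q →
      (∀ x ∈ Q, ψ x = afun a x) → R ≤ nK S Q L := by
    intro R ψ hψ hQR hRN hψa y hy
    refine ⟨(hRN hy).1, nHom S Q ⟨y, hRN hy⟩, ?_, fun x hx => afun_nHom _ hx⟩
    have hψQ : im Q ψ = Q := (im_congr hψa).trans (im_afun a)
    refine mem_autInducedBy.2 ⟨ψ y, hψ.apply_mem hy,
      hψQ ▸ FusionWeaklyNormal88.apply_normalizes hψ hQR hy (hRN hy).2, fun x hx => ?_⟩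
    have hx' := afun_mem a⁻¹ hx
    simp only [MulEquiv.coe_toMonoidHom, MulAut.conj_apply]
    rw [afun_mul _ _ hx, afun_mul _ _ hx', afun_nHom _ hx',
      ← hψa _ (cj_mem_of_normalizer (hRN hy).2 hx'), hψ.map_cj hy (hQR hx'), hψa _ hx',
      afun_apply_inv a hx]
  have hM : U ≤ nK S Q L :=
    sup_le (hmem hfm hQQ' hN hfa) (hmem hbm (le_upq Q) (h.upq_le hQS) hbe)
  obtain ⟨f0, hf0, hf0e⟩ := (receptive_iff.1 (receptive_of_fullyNormalized h.pgrp h.sat hr.1)).2 Q _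
    (nK S Q L) ham (im_afun a) nK_le (nK_normalizes hQS) (by
      rintro y ⟨-, l, hl, hle⟩
      obtain ⟨k, hk, -, hke⟩ := mem_autInducedBy.1 (Subgroup.mem_comap.1 hl)
      refine ⟨k, hk, fun x hx => ?_⟩
      rw [← hke _ (afun_mem a hx), ← hle x hx]
      simp only [MulEquiv.coe_toMonoidHom, MulAut.conj_apply]
      rw [afun_mul _ _ (afun_mem a hx), afun_inv_apply a hx, afun_mul _ _ hx])
  have hf0U := hf0.restrict_to (hM.trans le_sup_right)
  obtain ⟨z, hz, -, hze⟩ := FusCentric.extension_unique h.pgrp h.sat hr.2.2 hQQ'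
    (hN.trans inf_le_right) hfm (hf0U.restrict_to le_sup_left) fun x hx => by
      rw [hfa x hx, hf0e x hx]
  have hzU : z ∈ U := Subgroup.mem_sup_left (hQQ' hz)
  have hcU : ∀ x ∈ U, cj z x ∈ U := fun x hx =>
    U.mul_mem (U.mul_mem hzU hx) (U.inv_mem hzU)
  have hf1 : Mor F U (f0 ∘ cj z) := (mor_cj (F := F) hUS (hQS hz)).comp hf0U hcU
  have hf1e : ∀ x ∈ Q', (f0 ∘ cj z) x = afun f x := fun x hx => (hze x hx).symm
  have hf1Q : im Q (f0 ∘ cj z) = Q :=
    (im_congr fun x hx => (hf1e x (hQQ' hx)).trans (hfa x hx)).trans (im_afun a)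
  have hup : ∀ x ∈ upq T Q, (f0 ∘ cj z) x ∈ upq T Q := fun x hx =>
    h.upq_map (hf1.restrict_to le_sup_right) hf1Q (apply_mem_im hx)
  obtain ⟨Ψ, hΨ, hΨe⟩ := hf1.exists_aut (hf1.im_self fun x hx => mor_sup_induction hf1
    (fun y hy => Subgroup.mem_sup_left (hf1e y hy ▸ afun_mem f hy))
    (fun y hy => Subgroup.mem_sup_right (hup y hy)) hx)
  haveI := finite_autGroup (F := F) U
  have hn0 : orderOf Ψ ≠ 0 := by
    have := isOfFinOrder_of_finite (⟨Ψ, hΨ⟩ : F.autGroup U)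
    exact (orderOf_pos_iff.2 ((F.autGroup U).subtype.isOfFinOrder this)).ne'
  obtain ⟨k, hk⟩ := FusionMeetKey.exists_exponent (p := p) hn0
  have hpow := FusionCentralizerSub.pow_restrict (le_sup_left : Q' ≤ U)
    (m := Ψ) (a := f) fun x hx => (hΨe x (Subgroup.mem_sup_left hx)).trans (hf1e x hx)
  have hfk : f ^ k = f := by
    refine (hk f (orderOf_dvd_of_pow_eq_one (afun_ext fun x hx => ?_))).2 hco
    rw [← hpow _ x hx, pow_orderOf_eq_one, afun_one (Subgroup.mem_sup_left hx), afun_one hx]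
  refine ⟨Ψ ^ k, pow_mem hΨ k, (hk Ψ dvd_rfl).1, fun x hx => by rw [hpow k x hx, hfk], ?_⟩
  suffices ∀ i : ℕ, ∀ x ∈ upq T Q, afun (Ψ ^ i) x ∈ upq T Q from this k
  intro i
  induction i with
  | zero => exact fun x hx => by rw [pow_zero, afun_one (Subgroup.mem_sup_right hx : x ∈ U)]; exact hx
  | succ i ih =>
    intro x hx
    rw [pow_succ', afun_mul _ _ (Subgroup.mem_sup_right hx : x ∈ U),
      hΨe _ (Subgroup.mem_sup_right (ih x hx))]
    exact hup _ (ih x hx)

/-- Belonging to `E` passes between a centric subgroup and its overgroups. -/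
theorem inA_iff {Q Q' : Subgroup Ω} (hQ : F.IsCentric Q) (hQQ' : Q ≤ Q') (hQ'S : Q' ≤ S)
    {f : MulAut Q'} (hf : f ∈ F.autGroup Q') (hco : (orderOf f).Coprime p) {a : MulAut Q}
    (hfa : ∀ x ∈ Q, afun f x = afun a x) : InA F E p Q a ↔ InA F E p Q' f := by
  suffices key : ∀ (n : ℕ) {Q Q' : Subgroup Ω}, Nat.card S ≤ Nat.card Q + n → F.IsCentric Q →
      Q ≤ Q' → Q' ≤ S → ∀ {f : MulAut Q'}, f ∈ F.autGroup Q' → (orderOf f).Coprime p →
        ∀ {a : MulAut Q}, (∀ x ∈ Q, afun f x = afun a x) → (InA F E p Q a ↔ InA F E p Q' f) from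
    key _ (Nat.le_add_left _ _) hQ hQQ' hQ'S hf hco hfa
  intro n
  induction n using Nat.strong_induction_on with
  | _ n ih =>
  intro Q Q' hn hQ hQQ' hQ'S f hf hco a hfa
  rcases hQQ'.eq_or_lt with e | hlt
  · subst e
    rw [show f = a from afun_ext hfa]
  haveI := finite_of_le hQ'S
  -- bigger subgroups
  have big : ∀ {A B : Subgroup Ω}, Nat.card Q < Nat.card A → F.IsCentric A → A ≤ B → B ≤ S →
      ∀ {g : MulAut B}, g ∈ F.autGroup B → (orderOf g).Coprime p → ∀ {c : MulAut A},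
        (∀ x ∈ A, afun g x = afun c x) → (InA F E p A c ↔ InA F E p B g) := by
    intro A B hlt hA hAB hBS g hg hgco c hgc
    have : Nat.card A ≤ Nat.card S := Subgroup.card_le_of_le hA.1
    exact ih (n - 1) (by omega) (by omega) hA hAB hBS hg hgco hgc
  -- a normal step
  have step : ∀ {Q1 : Subgroup Ω}, Q < Q1 → Q1 ≤ normalizerIn S Q → ∀ {g : MulAut Q1},
      g ∈ F.autGroup Q1 → (orderOf g).Coprime p → (∀ x ∈ Q, afun g x = afun a x) →
        (InA F E p Q a ↔ InA F E p Q1 g) := by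
    intro Q1 hlt hN g hg hgco hga
    have hQ1S : Q1 ≤ S := hN.trans inf_le_left
    haveI := finite_of_le hQ1S
    have hcard1 : Nat.card Q < Nat.card Q1 := Set.Finite.card_lt_card (Set.toFinite _) hlt
    obtain ⟨R, θ, hr, hθN, hθQ, hθN'⟩ := h.exists_rep hQ
    have hθ := hθN.restrict_to (le_normalizerIn hQ.1)
    have hθ1 := hθN.restrict_to hN
    rw [← inA_transport_iff hθ hθQ, ← inA_transport_iff hθ1 (rfl : im Q1 θ = im Q1 θ)]
    set a' := hθ.transport hθQ a
    set g' := hθ1.transport (rfl : im Q1 θ = im Q1 θ) g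
    have hRQ1 : R ≤ im Q1 θ := hθQ ▸ im_mono hlt.le
    have hN' : im Q1 θ ≤ normalizerIn S R := im_le_iff.2 fun x hx => hθN' x (hN hx)
    have hg' : g' ∈ F.autGroup (im Q1 θ) := hθ1.transport_mem rfl hg
    have hg'co : (orderOf g').Coprime p := by rwa [MulEquiv.orderOf_eq]
    have hga' : ∀ x ∈ R, afun g' x = afun a' x := fun y hy => by
      obtain ⟨x, hx, rfl⟩ := hθ.mem_im.1 (hθQ.symm ▸ hy)
      rw [hθ1.afun_transport rfl g (hlt.le hx), hθ.afun_transport hθQ a hx, hga x hx]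
    have hRS := hr.1.1
    have hQ1' : im Q1 θ ≤ S := hN'.trans inf_le_left
    have hcR : Nat.card R = Nat.card Q := by rw [← hθQ, hθ.card_im]
    by_cases hc : TCq F T R
    · refine ⟨h.base_up hr hc hRQ1 hN' hg' hg'co hga', fun hin => ?_⟩
      obtain ⟨hgF, hgT, e, he, hge⟩ := h.inA_bst hin
      have hle : R ⊓ T ≤ im Q1 θ ⊓ T := inf_le_inf_right T hRQ1
      haveI := finite_of_le h.T_le
      have hm := ((mem_autGroup (inf_le_right : im Q1 θ ⊓ T ≤ T)).1 he).restrict_to hle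
      obtain ⟨d, hd, hde⟩ := hm.exists_aut (hm.im_self fun x hx => ⟨by
        rw [← hge x (hle hx), hga' x hx.1]; exact afun_mem _ hx.1, (afun_mem e (hle hx)).2⟩)
      refine h.inA_of_bst hr.2.2 hc ⟨mem_autGroup_of_mor
        ((((mem_autGroup hQ1').1 hgF).restrict_to hRQ1).congr hga'),
        fun x hx => ?_, d, hd, fun x hx => by rw [← hga' x hx.1, hge x (hle hx), hde x hx]⟩
        (coprime_restrict hRQ1 hg'co hga')
      rw [← hga' x hx]
      exact hgT x (hRQ1 hx)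
    · obtain ⟨Φ, hΦ, hΦco, hΦe, hΦU⟩ := h.exists_U hr hRQ1 hN' hg' hg'co hga'
      have hUS := (h.upq_le hRS).trans inf_le_left
      have hVS : im Q1 θ ⊔ upq T R ≤ S := sup_le hQ1' hUS
      haveI := finite_of_le hUS
      have hm := ((mem_autGroup hVS).1 hΦ).restrict_to
        (le_sup_right : upq T R ≤ im Q1 θ ⊔ upq T R)
      obtain ⟨c, hc', hce⟩ := hm.exists_aut (hm.im_self hΦU)
      have hcU : F.IsCentric (upq T R) := FusCentric.centric_upward hr.2.2 (le_upq R) hUS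
      have hcQ1 : F.IsCentric (im Q1 θ) := FusCentric.centric_upward hr.2.2 hRQ1 hQ1'
      have h1 : InA F E p (im Q1 θ) g' ↔ InA F E p (im Q1 θ ⊔ upq T R) Φ :=
        big (by rw [hθ1.card_im]; exact hcard1) hcQ1 le_sup_left hVS hΦ hΦco hΦe
      have h2 : InA F E p (upq T R) c ↔ InA F E p (im Q1 θ ⊔ upq T R) Φ :=
        big (hcR ▸ h.card_lt_upq hr hc) hcU le_sup_right hVS hΦ hΦco fun x hx => (hce x hx).symm
      rw [h1, ← h2]
      have hca : ∀ x ∈ R, afun c x = afun a' x := fun x hx => by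
        rw [hce x (mem_upq hx), hΦe x (hRQ1 hx), hga' x hx]
      refine ⟨fun ha' => ?_, fun hin => ?_⟩
      · obtain ⟨b, hb, hbe⟩ := (h.inA_rep hr ha').2 hc
        haveI := finite_autGroup (F := F) (upq T R)
        refine FusionMeetKey.mem_of_div_mem (N := h.aSub hcU) (fun x hx => h.inA_mem hx)
          (fun u hu x hx => h.inA_conj hUS hu hx) (isPGroup_autInducedBy h.pgrp _)
          (autInducedBy_le hUS) hc' (coprime_restrict le_sup_right hΦco fun x hx => (hce x hx).symm)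
          hb ?_
        have hcm := (mem_autGroup hUS).1 hc'
        have hbm := (mem_autGroup hUS).1 (h.inA_mem hb)
        obtain ⟨z, hz, -, hze⟩ := FusCentric.extension_unique h.pgrp h.sat hr.2.2 (le_upq R)
          ((h.upq_le hRS).trans inf_le_right) hcm hbm fun x hx => by rw [hca x hx, hbe x hx]
        have hzU : z ∈ upq T R := mem_upq hz
        refine mem_autInducedBy.2 ⟨afun b z, hUS (afun_mem b hzU),
          Subgroup.le_normalizer (afun_mem b hzU), fun y hy => ?_⟩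
        have hy' := afun_mem b⁻¹ hy
        rw [afun_mul _ _ hy, hze _ hy']
        conv_rhs => rw [← afun_apply_inv b hy, ← hbm.map_cj hzU hy']
      · exact InA.step (mor_id hRS) (im_id R) hr hc c hin fun x hx => by
          rw [transport_id, hca x hx]
    -- the chain of normalizers
  set Q1 := normalizerIn Q' Q with hQ1
  have hQ1N : Q1 ≤ normalizerIn S Q := inf_le_inf_right _ hQ'S
  have hQQ1 : Q ≤ Q1 := le_normalizerIn hQQ'
  have hlt1 : Q < Q1 := lt_of_le_of_ne hQQ1 fun e => by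
    have := FusionFrattini88.card_lt_normalizerIn (h.pgrp.to_le hQ'S) le_rfl hlt
    exact this.ne (congrArg (fun A : Subgroup Ω => Nat.card A) e)
  have hfm := (mem_autGroup hQ'S).1 hf
  have hfQ : im Q (afun f) = Q := (im_congr hfa).trans (im_afun a)
  have hm1 := hfm.restrict_to (show Q1 ≤ Q' from inf_le_left)
  obtain ⟨f1, hf1, hf1e⟩ := hm1.exists_aut (hm1.im_self fun x hx =>
    ⟨afun_mem f hx.1, hfQ ▸ FusionWeaklyNormal88.apply_normalizes hfm hQQ' hx.1 hx.2⟩)
  have hf1co : (orderOf f1).Coprime p :=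
    coprime_restrict (inf_le_left : Q1 ≤ Q') hco fun x hx => (hf1e x hx).symm
  have hQ1S : Q1 ≤ S := hQ1N.trans inf_le_left
  haveI := finite_of_le hQ1S
  rw [step hlt1 hQ1N hf1 hf1co fun x hx => (hf1e x (hQQ1 hx)).trans (hfa x hx)]
  exact big (Set.Finite.card_lt_card (Set.toFinite _) hlt1)
    (FusCentric.centric_upward hQ hQQ1 hQ1S) inf_le_left hQ'S hf hco fun x hx => (hf1e x hx).symm

end Ctx

end Cfsg.Agent.FusionLocalPart
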