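import Mathlib
import Cfsg.Agent.Lib.TransferAlperin

/-!
# Marks of transitive permutation representations of a finite group

`mark L K` is the number of cosets of `L` fixed by `K`.
-/

set_option autoImplicit false

namespace Cfsg.Agent.FusionMarks

open Subgroup

variable {T : Type*} [Group T]

/-- The number of points of `T ⧸ L` fixed by `K`. -/
noncomputable def mark (L K : Subgroup T) : ℕ :=
  Nat.card (MulAction.fixedPoints K (T ⧸ L))

theorem mk_mem_fixedPoints {L K : Subgroup T} {t : T} :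
    (t : T ⧸ L) ∈ MulAction.fixedPoints K (T ⧸ L) ↔ ∀ k ∈ K, t⁻¹ * k * t ∈ L := by
  have key : ∀ k : T, ((k * t : T) : T ⧸ L) = (t : T ⧸ L) ↔ t⁻¹ * k * t ∈ L := by
    intro k
    rw [eq_comm, QuotientGroup.eq, mul_assoc]
  exact ⟨fun h k hk => (key k).mp (h ⟨k, hk⟩), fun h k => (key k).mpr (h k k.2)⟩

theorem mk_mem_fixedPoints_iff_le {L K : Subgroup T} {t : T} :
    (t : T ⧸ L) ∈ MulAction.fixedPoints K (T ⧸ L) ↔ K ≤ TransferAlperin.cj t L :=
  mk_mem_fixedPoints.trans ⟨fun h k hk => TransferAlperin.mem_cj.mpr (h k hk),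
    fun h k hk => TransferAlperin.mem_cj.mp (h hk)⟩

theorem exists_le_cj_of_mark_ne_zero {L K : Subgroup T} (h : mark L K ≠ 0) :
    ∃ t : T, K ≤ TransferAlperin.cj t L := by
  by_contra hno
  push Not at hno
  refine h ?_
  rw [mark, Nat.card_eq_zero]
  left
  refine ⟨fun q => ?_⟩
  obtain ⟨t, ht⟩ := QuotientGroup.mk_surjective q.1
  exact hno t (mk_mem_fixedPoints_iff_le.mp (ht ▸ q.2))

theorem mark_cj (L K : Subgroup T) (t : T) : mark L (TransferAlperin.cj t K) = mark L K := by
  refine (Nat.card_congr (Equiv.subtypeEquiv (MulAction.toPerm t) fun q => ?_)).symm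
  obtain ⟨s, rfl⟩ := QuotientGroup.mk_surjective q
  change ((s : T) : T ⧸ L) ∈ MulAction.fixedPoints K (T ⧸ L) ↔
    ((t * s : T) : T ⧸ L) ∈ MulAction.fixedPoints (TransferAlperin.cj t K : Subgroup T) (T ⧸ L)
  rw [mk_mem_fixedPoints_iff_le, mk_mem_fixedPoints_iff_le, TransferAlperin.cj_mul]
  exact ⟨TransferAlperin.cj_mono t, fun h k hk =>
    (TransferAlperin.cj_inv_cj t (TransferAlperin.cj s L)) ▸
      TransferAlperin.mem_cj.mpr (by
        have := TransferAlperin.mem_cj.mp (h (TransferAlperin.conj_mem_cj (g := t) hk))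
        simpa [mul_assoc] using h (TransferAlperin.conj_mem_cj (g := t) hk))⟩

theorem mark_eq_zero_of_card_lt [Finite T] {L K : Subgroup T} (h : Nat.card L < Nat.card K) :
    mark L K = 0 := by
  by_contra hne
  obtain ⟨t, ht⟩ := exists_le_cj_of_mark_ne_zero hne
  have := Subgroup.card_le_of_le ht
  rw [TransferAlperin.card_cj] at this
  omega

/-- For subgroups of equal order the mark is supported on conjugates. -/
theorem eq_cj_of_mark_ne_zero [Finite T] {L K : Subgroup T} (h : mark L K ≠ 0)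
    (hc : Nat.card L ≤ Nat.card K) : ∃ t : T, K = TransferAlperin.cj t L := by
  obtain ⟨t, ht⟩ := exists_le_cj_of_mark_ne_zero h
  exact ⟨t, eq_of_le_of_card_ge ht (by rwa [TransferAlperin.card_cj])⟩

theorem mark_self [Finite T] (K : Subgroup T) :
    mark K K * Nat.card K = Nat.card (normalizer (K : Set T)) := by
  haveI : Finite (K : Set T) := inferInstanceAs (Finite K)
  rw [mark, Nat.card_congr (Sylow.fixedPointsMulLeftCosetsEquivQuotient K),
    Subgroup.card_eq_card_quotient_mul_card_subgroup (K.comap (normalizer (K : Set T)).subtype)]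
  congr 1
  exact (Nat.card_congr (subgroupOfEquivOfLe le_normalizer).toEquiv).symm

theorem mark_self_ne_zero [Finite T] (K : Subgroup T) : mark K K ≠ 0 := fun h => by
  have := mark_self K
  rw [h, zero_mul] at this
  exact (Nat.card_pos (α := normalizer (K : Set T))).ne' this.symm

/-- Burnside's congruence. -/
theorem dvd_sum_mark [Finite T] (L : Subgroup T) {K N : Subgroup T}
    (hN : N ≤ normalizer (K : Set T)) [Fintype N] :
    (Nat.card N : ℤ) ∣ ∑ w : N, (mark L (K ⊔ zpowers (w : T)) : ℤ) := by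
  classical
  have hinv : ∀ (w : N) (q : T ⧸ L), q ∈ MulAction.fixedPoints K (T ⧸ L) →
      (w : T) • q ∈ MulAction.fixedPoints K (T ⧸ L) := by
    intro w q hq
    obtain ⟨t, rfl⟩ := QuotientGroup.mk_surjective q
    change ((w * t : T) : T ⧸ L) ∈ _
    rw [mk_mem_fixedPoints] at hq ⊢
    intro k hk
    have h1 := (mem_normalizer_iff.mp (inv_mem (hN w.2)) k).mp hk
    have := hq _ h1
    simpa [mul_assoc] using this
  letI : MulAction N (MulAction.fixedPoints K (T ⧸ L)) :=
    { smul := fun w q => ⟨(w : T) • (q : T ⧸ L), hinv w q q.2⟩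
      one_smul := fun q => Subtype.ext (one_smul T (q : T ⧸ L))
      mul_smul := fun a b q => Subtype.ext (mul_smul (a : T) (b : T) (q : T ⧸ L)) }
  haveI : Fintype (T ⧸ L) := Fintype.ofFinite _
  have hB := MulAction.sum_card_fixedBy_eq_card_orbits_mul_card_group N
    (MulAction.fixedPoints K (T ⧸ L))
  have hw : ∀ w : N, mark L (K ⊔ zpowers (w : T)) =
      Fintype.card (MulAction.fixedBy (MulAction.fixedPoints K (T ⧸ L)) w) := by
    intro w
    rw [mark, ← Nat.card_eq_fintype_card]
    refine Nat.card_congr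
      { toFun := fun q => ⟨⟨q.1, fun k => q.2 ⟨k, mem_sup_left k.2⟩⟩,
          Subtype.ext (q.2 ⟨w, mem_sup_right (mem_zpowers _)⟩)⟩
        invFun := fun q => ⟨q.1.1, fun x => ?_⟩
        left_inv := fun q => rfl
        right_inv := fun q => rfl }
    have hle : K ⊔ zpowers (w : T) ≤ MulAction.stabilizer T (q.1.1 : T ⧸ L) :=
      sup_le (fun k hk => q.1.2 ⟨k, hk⟩) (zpowers_le.mpr (congrArg Subtype.val q.2))
    exact hle x.2
  refine ⟨(Fintype.card (Quotient (MulAction.orbitRel N (MulAction.fixedPoints K (T ⧸ L)))) : ℤ), ?_⟩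
  rw [Nat.card_eq_fintype_card, mul_comm]
  exact_mod_cast (Finset.sum_congr rfl fun w _ => hw w).trans hB

end Cfsg.Agent.FusionMarks
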