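import Mathlib
import Cfsg.Agent.Lib.FusionSysChain
import Cfsg.Agent.Lib.CoprimeActionAut
import Cfsg.Agent.Lib.PGroupsBasic
import Cfsg.Agent.Lib.PGroupsCyclic
import Cfsg.Prelude.Def_OddOrderLocal
import Cfsg.Prelude.Def_CaseTheorems

/-! Strongly closed metacyclic 2-subgroups outside the dihedral, semidihedral and quaternion case are
normal. -/

set_option autoImplicit false
set_option linter.style.haveILetI false
set_option linter.unusedSectionVars false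

open Cfsg
open Cfsg.Agent.FusionSysBasic Cfsg.Agent.FusionSysSaturated Cfsg.Agent.FusionSysNormal
  Cfsg.Agent.FusionSysChain Cfsg.Agent.FusionSysAlperin
open scoped commutatorElement

namespace Cfsg.Agent.FusionMetacyclicTwo

variable {Ω : Type*} [Group Ω]

/-! ### Cyclic 2-groups -/

section cyclic

variable {G : Type*} [Group G]

theorem exists_two_pow {x : G} (hx : ∃ n : ℕ, x ^ 2 ^ n = 1) {u : G} (hu : u ∈ Subgroup.zpowers x) :
    ∃ k : ℕ, Subgroup.zpowers u = Subgroup.zpowers (x ^ 2 ^ k) := by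
  obtain ⟨n, hn⟩ := hx
  obtain ⟨i, hi⟩ := (IsOfFinOrder.mem_powers_iff_mem_zpowers
    (isOfFinOrder_iff_pow_eq_one.mpr ⟨2 ^ n, by positivity, hn⟩)).mpr hu
  simp only at hi
  subst hi
  rcases Nat.eq_zero_or_pos i with rfl | hi0
  · exact ⟨n, by rw [hn, pow_zero]⟩
  obtain ⟨k, m, hm, rfl⟩ := Nat.exists_eq_pow_mul_and_not_dvd hi0.ne' 2 (by norm_num)
  refine ⟨k, ?_⟩
  have hpow : (x ^ 2 ^ k) ^ 2 ^ n = 1 := by rw [← pow_mul, mul_comm, pow_mul, hn, one_pow]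
  have hco : m.Coprime (orderOf (x ^ 2 ^ k)) :=
    ((Nat.Prime.coprime_iff_not_dvd Nat.prime_two).mpr hm).symm.pow_right n
      |>.coprime_dvd_right (orderOf_dvd_of_pow_eq_one hpow)
  obtain ⟨j, hj⟩ := exists_pow_eq_self_of_coprime hco
  rw [pow_mul]
  refine le_antisymm (Subgroup.zpowers_le.mpr (pow_mem (Subgroup.mem_zpowers _) m))
    (Subgroup.zpowers_le.mpr ?_)
  have h := pow_mem (Subgroup.mem_zpowers ((x ^ 2 ^ k) ^ m)) j
  rwa [hj] at h

/-- The subgroups of a cyclic 2-group form a chain. -/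
theorem mem_or_mem {x : G} (hx : ∃ n : ℕ, x ^ 2 ^ n = 1) {u v : G} (hu : u ∈ Subgroup.zpowers x)
    (hv : v ∈ Subgroup.zpowers x) : u ∈ Subgroup.zpowers v ∨ v ∈ Subgroup.zpowers u := by
  obtain ⟨k, hk⟩ := exists_two_pow hx hu
  obtain ⟨l, hl⟩ := exists_two_pow hx hv
  rcases le_total k l with h | h
  · right
    have : Subgroup.zpowers v ≤ Subgroup.zpowers u := by
      rw [hk, hl]
      obtain ⟨d, rfl⟩ := Nat.exists_eq_add_of_le h
      rw [pow_add, pow_mul]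
      exact Subgroup.zpowers_le.mpr (pow_mem (Subgroup.mem_zpowers _) _)
    exact this (Subgroup.mem_zpowers v)
  · left
    have : Subgroup.zpowers u ≤ Subgroup.zpowers v := by
      rw [hk, hl]
      obtain ⟨d, rfl⟩ := Nat.exists_eq_add_of_le h
      rw [pow_add, pow_mul]
      exact Subgroup.zpowers_le.mpr (pow_mem (Subgroup.mem_zpowers _) _)
    exact this (Subgroup.mem_zpowers u)

/-- The last power of an element of `2`-power order outside a subgroup. -/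
theorem exists_last_outside {H : Subgroup G} {y : G} {n : ℕ} (hy : y ∉ H) (hn : y ^ 2 ^ n = 1) :
    ∃ l, y ^ 2 ^ l ∉ H ∧ (y ^ 2 ^ l) ^ 2 ∈ H := by
  classical
  have hex : ∃ l, y ^ 2 ^ l ∈ H := ⟨n, hn ▸ one_mem H⟩
  have h0 : Nat.find hex ≠ 0 := fun h => by
    have := Nat.find_spec hex
    rw [h, pow_zero, pow_one] at this
    exact hy this
  obtain ⟨l, hl⟩ := Nat.exists_eq_succ_of_ne_zero h0
  refine ⟨l, Nat.find_min hex (by omega), ?_⟩
  have := Nat.find_spec hex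
  rwa [hl, pow_succ, pow_mul] at this

theorem zpow_conj {g x : G} {t : ℤ} (h : g * x * g⁻¹ = x ^ t) (i : ℤ) :
    g * x ^ i * g⁻¹ = x ^ (t * i) := by
  rw [← conj_zpow, h, zpow_mul]

end cyclic

/-! ### Squares -/

/-- The subgroup generated by the squares of the elements of `Q`. -/
def sq (Q : Subgroup Ω) : Subgroup Ω := Subgroup.closure ((fun q => q ^ 2) '' (Q : Set Ω))

theorem sq_mem {Q : Subgroup Ω} {q : Ω} (hq : q ∈ Q) : q ^ 2 ∈ sq Q :=
  Subgroup.subset_closure ⟨q, hq, rfl⟩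

theorem sq_le (Q : Subgroup Ω) : sq Q ≤ Q :=
  (Subgroup.closure_le _).mpr (by rintro _ ⟨q, hq, rfl⟩; exact pow_mem hq 2)

theorem comm_mem_sq {Q : Subgroup Ω} {u v : Ω} (hu : u ∈ Q) (hv : v ∈ Q) : ⁅u, v⁆ ∈ sq Q := by
  have e : ⁅u, v⁆ = u ^ 2 * (u⁻¹ * v) ^ 2 * v⁻¹ ^ 2 := by
    rw [commutatorElement_def, pow_two, pow_two, pow_two]; group
  rw [e]
  exact mul_mem (mul_mem (sq_mem hu) (sq_mem (mul_mem (inv_mem hu) hv))) (sq_mem (inv_mem hv))

theorem conj_mem_sq {Q : Subgroup Ω} {g x : Ω} (hg : g ∈ Q) (hx : x ∈ sq Q) :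
    g * x * g⁻¹ ∈ sq Q := by
  have h : g * x * g⁻¹ = ⁅g, x⁆ * x := by rw [commutatorElement_def]; group
  rw [h]
  exact mul_mem (comm_mem_sq hg (sq_le Q hx)) hx

theorem zpow_two_mul_mem_sq {Q : Subgroup Ω} {q : Ω} (hq : q ∈ Q) (l : ℤ) :
    q ^ (2 * l) ∈ sq Q := by
  rw [zpow_mul]
  exact zpow_mem (by rw [zpow_ofNat]; exact sq_mem hq) l

/-- The elements of `Q` whose commutator with `y` lies in `sq Q`. -/
def commSub (Q : Subgroup Ω) (y : Ω) : Subgroup Ω where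
  carrier := {v | v ∈ Q ∧ ⁅y, v⁆ ∈ sq Q}
  one_mem' := ⟨one_mem Q, by simp [one_mem]⟩
  mul_mem' := fun {u v} hu hv => ⟨mul_mem hu.1 hv.1, by
    rw [show ⁅y, u * v⁆ = ⁅y, u⁆ * (u * ⁅y, v⁆ * u⁻¹) by
      simp only [commutatorElement_def]; group]
    exact mul_mem hu.2 (conj_mem_sq hu.1 hv.2)⟩
  inv_mem' := fun {u} hu => ⟨inv_mem hu.1, by
    rw [show ⁅y, u⁻¹⁆ = u⁻¹ * ⁅y, u⁆⁻¹ * u⁻¹⁻¹ by
      simp only [commutatorElement_def]; group]
    exact conj_mem_sq (inv_mem hu.1) (inv_mem hu.2)⟩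

theorem sq_le_commSub {Q : Subgroup Ω} {y : Ω} (h : ∀ v ∈ Q, y * v * y⁻¹ ∈ Q) :
    sq Q ≤ commSub Q y := by
  refine (Subgroup.closure_le _).mpr ?_
  rintro _ ⟨v, hv, rfl⟩
  refine ⟨pow_mem hv 2, ?_⟩
  show ⁅y, v ^ 2⁆ ∈ sq Q
  rw [show ⁅y, v ^ 2⁆ = (y * v * y⁻¹) ^ 2 * v⁻¹ ^ 2 by rw [commutatorElement_def, conj_pow, inv_pow]]
  exact mul_mem (sq_mem (h v hv)) (sq_mem (inv_mem hv))

/-- Conjugation raises an element of 2-power order to an odd power. -/
theorem eq_one_or_odd {g x : Ω} {t : ℤ} (h : g * x * g⁻¹ = x ^ t) (hx : ∃ n : ℕ, x ^ 2 ^ n = 1) :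
    x = 1 ∨ Odd t := by
  rcases Int.even_or_odd' t with ⟨u, rfl | rfl⟩
  · left
    obtain ⟨n, hn⟩ := hx
    have hord : orderOf (x ^ (2 * u)) = orderOf x := by
      rw [← h]
      exact orderOf_injective (MulAut.conj g).toMonoidHom (MulAut.conj g).injective x
    obtain ⟨m, -, hm⟩ := (Nat.dvd_prime_pow Nat.prime_two).mp (orderOf_dvd_of_pow_eq_one hn)
    rcases m with _ | m
    · exact orderOf_eq_one_iff.mp hm
    have : orderOf (x ^ (2 * u)) ∣ 2 ^ m := by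
      apply orderOf_dvd_of_pow_eq_one
      rw [← zpow_natCast, ← zpow_mul, ← orderOf_dvd_iff_zpow_eq_one, hm]
      exact ⟨u, by push_cast; ring⟩
    rw [hord, hm, Nat.pow_dvd_pow_iff_le_right (by norm_num : 1 < 2)] at this
    omega
  · exact Or.inr ⟨u, by ring⟩

theorem afun_closure_mem {R : Subgroup Ω} (α : MulAut R) {s : Set Ω} {K : Subgroup Ω}
    (hs : s ⊆ R) (h : ∀ x ∈ s, afun α x ∈ K) {x : Ω} (hx : x ∈ Subgroup.closure s) :
    afun α x ∈ K := by
  let f : R →* Ω := R.subtype.comp α.toMonoidHom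
  have hle : Subgroup.closure s ≤ (K.comap f).map R.subtype := (Subgroup.closure_le _).mpr
    fun y hy => ⟨⟨y, hs hy⟩, by
      show f ⟨y, hs hy⟩ ∈ K
      have := h y hy
      rwa [afun_apply _ (hs hy)] at this, rfl⟩
  obtain ⟨y, hy, rfl⟩ := hle hx
  rw [show afun α (R.subtype y) = (α y : Ω) from afun_coe α y]
  exact hy

theorem afun_sq {R Q : Subgroup Ω} (α : MulAut R) (hQR : Q ≤ R)
    (h : ∀ q ∈ Q, afun α q ∈ Q) {x : Ω} (hx : x ∈ sq Q) : afun α x ∈ sq Q := by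
  refine afun_closure_mem α ?_ ?_ hx
  · rintro _ ⟨q, hq, rfl⟩
    exact pow_mem (hQR hq) 2
  · rintro _ ⟨q, hq, rfl⟩
    show afun α (q ^ 2) ∈ sq Q
    rw [pow_two, afun_map_mul α (hQR hq) (hQR hq), ← pow_two]
    exact sq_mem (h q hq)

/-! ### Elements acting trivially on a short series -/

variable {S : Subgroup Ω} [Finite S] {F : FusionSystem S}

theorem mem_of_trivial (hS : IsPGroup 2 S) {R Q W : Subgroup Ω} (hc : F.IsCentric R)
    (hr : F.IsRadical 2 R) (hQR : Q ≤ R)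
    (hQinv : ∀ α ∈ F.autGroup R, ∀ q ∈ Q, afun α q ∈ Q) (hsW : sq Q ≤ W) (hWQ : W ≤ Q)
    (hWinv : ∀ α ∈ F.autGroup R, ∀ w ∈ W, afun α w ∈ W) {y : Ω} (hyS : y ∈ S)
    (hy : y ∈ Subgroup.normalizer (R : Set Ω)) (h1 : ∀ r ∈ R, ⁅y, r⁆ ∈ Q)
    (h2 : ∀ q ∈ Q, ⁅y, q⁆ ∈ W) (h3 : ∀ w ∈ W, ⁅y, w⁆ ∈ sq Q) : y ∈ R := by
  have hRS : R ≤ S := hc.1
  haveI := finite_of_le hRS
  haveI := finite_of_le (hQR.trans hRS)
  let Y : ℕ → Subgroup Ω := fun i => if i = 0 then sq Q else if i = 1 then W else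
    if i = 2 then Q else R
  have hYR : ∀ i ≤ 3, Y i ≤ R := by
    intro i hi
    interval_cases i
    · exact (sq_le Q).trans hQR
    · exact hWQ.trans hQR
    · exact hQR
    · exact le_rfl
  have hinv : ∀ α ∈ F.autGroup R, ∀ i ≤ 3, ∀ z ∈ Y i, afun α z ∈ Y i := by
    intro α hα i hi
    interval_cases i
    · exact fun z hz => afun_sq α hQR (hQinv α hα) hz
    · exact hWinv α hα
    · exact hQinv α hα
    · exact fun z hz => afun_mem α hz
  set M := stabGroup (F.autGroup R) Y 3 hYR hinv with hMdef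
  have hMn : ∀ α ∈ F.autGroup R, ∀ m ∈ M, α * m * α⁻¹ ∈ M := fun α hα m hm =>
    stabGroup_normal hα hm
  have hMp : IsPGroup 2 M := by
    intro m
    haveI := finite_autGroup (F := F) R
    haveI : Finite M := Finite.of_injective
      (fun u : M => (⟨u.1, u.2.1⟩ : F.autGroup R))
      (fun u v huv => Subtype.ext (congrArg Subtype.val huv :))
    obtain ⟨k, j, hj, hkj⟩ := Nat.exists_eq_pow_mul_and_not_dvd (orderOf_pos m).ne' 2 (by norm_num)
    refine ⟨k, ?_⟩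
    set φ := m ^ 2 ^ k with hφdef
    have hφj : φ ^ j = 1 := by rw [hφdef, ← pow_mul, ← hkj, pow_orderOf_eq_one]
    obtain ⟨l, hl⟩ : ∃ l, j + 1 = 2 * l := ⟨(j + 1) / 2, by omega⟩
    set f : MulAut R := (φ : MulAut R) with hf
    have hfj : f ^ j = 1 := by rw [hf, ← SubgroupClass.coe_pow, hφj]; rfl
    have hfA : f ∈ F.autGroup R := φ.2.1
    have hstab := φ.2.2
    -- `f` is trivial on `Q` modulo squares
    have hQtriv : ∀ g ∈ Subgroup.zpowers f, ∀ q ∈ Q, q⁻¹ * afun g q ∈ sq Q := by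
      let Y' : ℕ → Subgroup Ω := fun i => if i = 0 then sq Q else Q
      have hY'R : ∀ i ≤ 1, Y' i ≤ R := by
        intro i hi
        interval_cases i
        · exact (sq_le Q).trans hQR
        · exact hQR
      have hinv' : ∀ α ∈ F.autGroup R, ∀ i ≤ 1, ∀ z ∈ Y' i, afun α z ∈ Y' i := by
        intro α hα i hi
        interval_cases i
        · exact fun z hz => afun_sq α hQR (hQinv α hα) hz
        · exact hQinv α hα
      have hff : f * f ∈ stabGroup (F.autGroup R) Y' 1 hY'R hinv' := by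
        refine ⟨mul_mem hfA hfA, fun i hi q hq => ?_⟩
        obtain rfl : i = 0 := by omega
        simp only [Y', zero_add, one_ne_zero, if_false, if_true] at hq ⊢
        have hqR := hQR hq
        have hw : q⁻¹ * afun f q ∈ W := by simpa [Y] using hstab 1 (by norm_num) q (by simpa [Y] using hq)
        set w := q⁻¹ * afun f q
        have hwR := hQR (hWQ hw)
        have e : afun f q = q * w := (mul_inv_cancel_left _ _).symm
        rw [afun_mul _ _ hqR, e, afun_map_mul f hqR hwR, e]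
        have hw2 : w⁻¹ * afun f w ∈ sq Q := by
          simpa [Y] using hstab 0 (by norm_num) w (by simpa [Y] using hw)
        have e2 : q⁻¹ * (q * w * afun f w) = w ^ 2 * (w⁻¹ * afun f w) := by
          rw [pow_two]; group
        rw [e2]
        exact mul_mem (sq_mem (hWQ hw)) hw2
      have hfm : f ∈ stabGroup (F.autGroup R) Y' 1 hY'R hinv' := by
        have : f = (f * f) ^ l := by
          rw [← pow_two, ← pow_mul, ← hl, pow_succ, hfj, one_mul]
        rw [this]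
        exact pow_mem hff l
      intro g hg q hq
      simpa [Y'] using ((Subgroup.zpowers_le.mpr hfm) hg).2 0 one_pos q (by simpa [Y'] using hq)
    -- hence trivial on `Q`
    let A := Subgroup.zpowers f
    have hAQ : ∀ a : A, ∀ q ∈ Q, afun (a : MulAut R) q ∈ Q := fun a q hq =>
      hQinv _ (Subgroup.zpowers_le.mpr hfA a.2) q hq
    let res : A →* MulAut Q := MonoidHom.mk'
      (fun a => { toFun := fun q => ⟨afun (a : MulAut R) q, hAQ a q q.2⟩
                  invFun := fun q => ⟨afun ((a⁻¹ : A) : MulAut R) q, hAQ a⁻¹ q q.2⟩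
                  left_inv := fun q => Subtype.ext (by
                    show afun ((a⁻¹ : A) : MulAut R) (afun (a : MulAut R) q) = q
                    rw [← afun_mul _ _ (hQR q.2), ← Subgroup.coe_mul, inv_mul_cancel,
                      Subgroup.coe_one, afun_one (hQR q.2)])
                  right_inv := fun q => Subtype.ext (by
                    show afun (a : MulAut R) (afun ((a⁻¹ : A) : MulAut R) q) = q
                    rw [← afun_mul _ _ (hQR q.2), ← Subgroup.coe_mul, mul_inv_cancel,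
                      Subgroup.coe_one, afun_one (hQR q.2)])
                  map_mul' := fun q r => Subtype.ext
                    (afun_map_mul (a : MulAut R) (hQR q.2) (hQR r.2)) })
      (fun a b => MulEquiv.ext fun q => Subtype.ext (afun_mul _ _ (hQR q.2)))
    have hfix : ∀ q ∈ Q, afun f q = q := by
      intro q hq
      have hsqf : (sq Q).subgroupOf Q ≤ frattini Q := by
        have : sq Q ≤ (frattini Q).map Q.subtype := (Subgroup.closure_le _).mpr (by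
          rintro _ ⟨z, hz, rfl⟩
          exact ⟨(⟨z, hz⟩ : Q) ^ 2, PGroupsBasic.pow_mem_frattini (hS.to_le (hQR.trans hRS)) _, rfl⟩)
        intro z hz
        obtain ⟨w, hw, hwz⟩ := this (Subgroup.mem_subgroupOf.mp hz)
        exact Subtype.ext hwz ▸ hw
      have hcop : (Nat.card A).Coprime (Nat.card (frattini Q)) := by
        obtain ⟨c, hc'⟩ := IsPGroup.iff_card.mp ((hS.to_le (hQR.trans hRS)).to_subgroup (frattini Q))
        rw [Nat.card_zpowers, hc']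
        exact (((Nat.Prime.coprime_iff_not_dvd Nat.prime_two).mpr hj).symm.coprime_dvd_left
          (orderOf_dvd_of_pow_eq_one hfj)).pow_right c
      have := CoprimeActionAut.eq_self_of_frattini (φ := res) hcop
        (fun a z => hsqf (Subgroup.mem_subgroupOf.mpr (hQtriv _ a.2 z z.2)))
        ⟨f, Subgroup.mem_zpowers f⟩ ⟨q, hq⟩
      exact congrArg Subtype.val this
    apply Subtype.ext
    show f = 1
    refine MulEquiv.ext fun r => Subtype.ext ?_
    rw [← afun_coe f r]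
    have hd : (r : Ω)⁻¹ * afun f r ∈ Q := by
      simpa [Y] using hstab 2 (by norm_num) r (by simpa [Y] using r.2)
    have hp := pow_fix_step (X := Q) (Y := R) le_rfl hfix
      (fun z hz => by simpa [Y] using hstab 2 (by norm_num) z (by simpa [Y] using hz)) j r r.2
    rw [hfj, afun_one r.2] at hp
    have hdj : ((r : Ω)⁻¹ * afun f r) ^ j = 1 := mul_eq_left.mp hp.symm
    obtain ⟨c, hc'⟩ := hS ⟨_, hRS (hQR hd)⟩
    have hone : (r : Ω)⁻¹ * afun f r = 1 := orderOf_eq_one_iff.mp (Nat.eq_one_of_dvd_coprimes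
      (((Nat.Prime.coprime_iff_not_dvd Nat.prime_two).mpr hj).pow_left c)
      (orderOf_dvd_of_pow_eq_one (congrArg Subtype.val hc' :)) (orderOf_dvd_of_pow_eq_one hdj))
    exact (inv_mul_eq_one.mp hone).symm
  have hMA : M ≤ F.autGroup R := fun u hu => hu.1
  have hMI : M ≤ Inn R := by
    intro m hm
    rw [← hr.2]
    refine ⟨⟨m, hMA hm⟩, ?_, rfl⟩
    refine (le_sSup (show M.subgroupOf (F.autGroup R) ∈
      {N : Subgroup (F.autGroup R) | N.Normal ∧ IsPGroup 2 N} from ⟨⟨fun n hn' a => hMn a a.2 n hn'⟩,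
        hMp.of_equiv (Subgroup.subgroupOfEquivOfLe hMA).symm⟩) : _ ≤ pCore 2 (F.autGroup R)) ?_
    exact hm
  refine mem_of_nHom_mem_inn hRS (centralizerIn_le_of_centric hc) ⟨y, hyS, hy⟩ (hMI ⟨?_, ?_⟩)
  · exact autInducedBy_le hRS (mem_autInducedBy.mpr ⟨y, hyS, hy, fun x hx => afun_nHom ⟨y, hyS, hy⟩ hx⟩)
  · intro i hi z hz
    have hzR := hYR (i + 1) hi hz
    rw [afun_nHom _ hzR, cj_div_eq]
    refine inv_mem ?_
    interval_cases i <;> simp [Y] at hz ⊢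
    · exact h3 _ (inv_mem hz)
    · exact h2 _ (inv_mem hz)
    · exact h1 _ (inv_mem hz)

/-! ### Recognition -/

theorem shape {G : Type*} [Group G] [Finite G] {a b : G} {t : ℤ} {e : ℕ}
    (he : 2 ≤ e) (ha : orderOf a = 2 ^ e) (hconj : b * a * b⁻¹ = a ^ t) (ht : t % 4 = 3)
    (hb : b ∉ Subgroup.zpowers a) (hb2 : b ^ 2 ∈ Subgroup.zpowers a)
    (hgen : ∀ g : G, ∃ i k : ℤ, g = a ^ i * b ^ k) :
    (∃ m : ℕ, Nonempty (G ≃* DihedralGroup m)) ∨ (∃ m : ℕ, Nonempty (G ≃* QuaternionGroup m)) ∨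
      Cfsg.IsQuasiDihedral G := by
  set A := Subgroup.zpowers a
  have hcard : Nat.card G = 2 * 2 ^ e := by
    have hidx : A.index = 2 := by
      rw [Subgroup.index_eq_two_iff]
      refine ⟨b, fun g => ?_⟩
      obtain ⟨i, k, rfl⟩ := hgen g
      obtain ⟨l, rfl | rfl⟩ : ∃ l : ℤ, k = 2 * l ∨ k = 2 * l + 1 :=
        ⟨k / 2, by omega⟩
      · refine Or.inr ⟨mul_mem (zpow_mem (Subgroup.mem_zpowers a) i) ?_, ?_⟩
        · rw [zpow_mul, zpow_ofNat]; exact zpow_mem hb2 l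
        · intro h
          refine hb ?_
          have h' : b ^ (2 * l + 1) ∈ A := by
            rw [zpow_add_one]
            exact (mul_mem_cancel_left (x := a ^ i) (zpow_mem (Subgroup.mem_zpowers a) i)).mp
              (by simpa [mul_assoc] using h)
          rw [zpow_add_one, zpow_mul, zpow_ofNat] at h'
          exact (mul_mem_cancel_left (zpow_mem hb2 l)).mp h'
      · refine Or.inl ⟨?_, ?_⟩
        · rw [mul_assoc, ← zpow_add_one]
          refine mul_mem (zpow_mem (Subgroup.mem_zpowers a) i) ?_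
          rw [show 2 * l + 1 + 1 = 2 * (l + 1) by ring, zpow_mul, zpow_ofNat]
          exact zpow_mem hb2 _
        · intro h
          refine hb ?_
          have h' := (mul_mem_cancel_left (zpow_mem (Subgroup.mem_zpowers a) i)).mp h
          rw [zpow_add_one, zpow_mul, zpow_ofNat] at h'
          exact (mul_mem_cancel_left (zpow_mem hb2 l)).mp h'
    rw [← A.card_mul_index, hidx, Nat.card_zpowers, ha, mul_comm]
  obtain ⟨e', rfl⟩ : ∃ e', e = e' + 1 := ⟨e - 1, by omega⟩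
  obtain ⟨i, hi⟩ := Subgroup.mem_zpowers_iff.mp hb2
  have hfix : b * a ^ i * b⁻¹ = a ^ i := by rw [hi]; group
  rw [zpow_conj hconj, zpow_eq_zpow_iff_modEq, Int.modEq_iff_dvd, ha] at hfix
  have htt : (2 ^ (e' + 1) : ℤ) ∣ (t + 1) * (t - 1) := by
    have h1 : b * (b * a * b⁻¹) * b⁻¹ = a := by
      rw [show b * (b * a * b⁻¹) * b⁻¹ = b ^ 2 * a * (b ^ 2)⁻¹ by rw [pow_two]; group, ← hi]
      group
    rw [hconj, zpow_conj hconj] at h1
    nth_rewrite 2 [← zpow_one a] at h1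
    rw [zpow_eq_zpow_iff_modEq, Int.modEq_iff_dvd, ha] at h1
    push_cast at h1
    have e1 : (t + 1) * (t - 1) = -(1 - t * t) := by ring
    rw [e1]
    exact h1.neg_right
  obtain ⟨r, hr, hr'⟩ : ∃ r : ℤ, t - 1 = 2 * r ∧ IsCoprime (2 : ℤ) r := by
    refine ⟨(t - 1) / 2, by omega, ?_⟩
    rw [Int.isCoprime_iff_nat_coprime]
    exact (Nat.Prime.coprime_iff_not_dvd Nat.prime_two).mpr (by omega)
  push_cast at hfix
  have hi2 : (2 ^ e' : ℤ) ∣ i := by
    have h1 : (2 ^ (e' + 1) : ℤ) ∣ 2 * (r * i) := by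
      have e1 : 2 * (r * i) = -(i - t * i) := by rw [← mul_assoc, ← hr]; ring
      rw [e1]; exact hfix.neg_right
    rw [pow_succ', mul_dvd_mul_iff_left (by norm_num : (2 : ℤ) ≠ 0)] at h1
    exact hr'.pow_left.dvd_of_dvd_mul_left h1
  have ht2 : (2 ^ e' : ℤ) ∣ t + 1 := by
    rw [hr, mul_left_comm, pow_succ', mul_dvd_mul_iff_left (by norm_num : (2 : ℤ) ≠ 0)] at htt
    exact hr'.pow_left.dvd_of_dvd_mul_right htt
  have hb2' : b ^ 2 = 1 ∨ b ^ 2 = a ^ 2 ^ e' := by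
    obtain ⟨l, rfl⟩ := hi2
    rcases Int.even_or_odd' l with ⟨m, rfl | rfl⟩
    · left
      rw [← hi, ← orderOf_dvd_iff_zpow_eq_one, ha]
      exact ⟨m, by push_cast; ring⟩
    · right
      rw [← hi, ← zpow_natCast a (2 ^ e'), zpow_eq_zpow_iff_modEq, Int.modEq_iff_dvd, ha]
      exact ⟨-m, by push_cast; ring⟩
  obtain ⟨c, hc⟩ := ht2
  rcases Int.even_or_odd' c with ⟨m, rfl | rfl⟩
  · -- inversion
    have hinv : b * a * b⁻¹ = a⁻¹ := by
      rw [hconj, ← zpow_neg_one, zpow_eq_zpow_iff_modEq, Int.modEq_iff_dvd, ha]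
      exact ⟨-m, by push_cast; linear_combination (-1 : ℤ) * hc⟩
    rcases hb2' with h | h
    · haveI : NeZero (2 ^ (e' + 1)) := ⟨by positivity⟩
      exact Or.inl ⟨_, PGroupsCyclic.nonempty_mulEquiv_dihedral ha hb hinv h hcard⟩
    · haveI : NeZero (2 ^ e') := ⟨by positivity⟩
      exact Or.inr (Or.inl ⟨_, PGroupsCyclic.nonempty_mulEquiv_quaternion
        (ha.trans (pow_succ' 2 e')) hb hinv h (hcard.trans (by ring))⟩)
  · -- semidihedral
    have he' : 2 ≤ e' := by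
      by_contra h
      obtain rfl : e' = 1 := by omega
      omega
    have hq : b * a * b⁻¹ = a ^ (2 ^ e' - 1) := by
      rw [hconj, ← zpow_natCast, Nat.cast_sub Nat.one_le_two_pow, zpow_eq_zpow_iff_modEq,
        Int.modEq_iff_dvd, ha]
      exact ⟨-m, by push_cast; linear_combination (-1 : ℤ) * hc⟩
    refine Or.inr (Or.inr ⟨e' + 1, by omega, hcard.trans (pow_succ' 2 _).symm, ?_⟩)
    rw [Nat.add_sub_cancel]
    have hb1 : b ≠ 1 := fun h => hb (h ▸ one_mem A)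
    rcases hb2' with h | h
    · exact ⟨a, b, ha, orderOf_eq_prime h hb1, hq⟩
    · refine ⟨a, a * b, ha, orderOf_eq_prime ?_ (fun hab => hb ?_), ?_⟩
      · have e1 : (a * b) ^ 2 = a * (b * a * b⁻¹) * b ^ 2 := by rw [pow_two, pow_two]; group
        rw [e1, hq, h, ← pow_succ', ← pow_add, ← orderOf_dvd_iff_pow_eq_one, ha,
          Nat.sub_add_cancel Nat.one_le_two_pow, ← two_mul, ← pow_succ']
      · rw [eq_inv_of_mul_eq_one_right hab]
        exact inv_mem (Subgroup.mem_zpowers a)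
      · rw [mul_inv_rev, show a * b * a * (b⁻¹ * a⁻¹) = a * (b * a * b⁻¹) * a⁻¹ by group, hq,
          ← pow_succ', pow_succ, mul_inv_cancel_right]

/-! ### The theorem -/

theorem isNormal (hS : IsPGroup 2 S) (hF : F.IsSaturated 2) {P : Subgroup Ω}
    (hP : F.StronglyClosed P) (hm : Cfsg.IsMetacyclic P)
    (hd : ¬ ∃ m : ℕ, Nonempty (P ≃* DihedralGroup m))
    (hq : ¬ ∃ m : ℕ, Nonempty (P ≃* QuaternionGroup m)) (hsd : ¬ Cfsg.IsQuasiDihedral P) :
    F.IsNormal P := by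
  refine isNormal_of_le_centric_radical hS hF hP fun R hess => ?_
  have hc : F.IsCentric R := hess.1
  have hr := radical_of_essential hS hess
  have hRS : R ≤ S := hc.1
  have hPS : P ≤ S := hP.1
  haveI := finite_of_le hPS
  by_contra hPR
  obtain ⟨N, hN, hNc, hQc⟩ := hm
  haveI := hN
  obtain ⟨a', ha'⟩ := hNc.exists_generator
  set a : Ω := ((a' : P) : Ω) with haa
  set A := Subgroup.zpowers a with hA
  let π : P →* P ⧸ N := QuotientGroup.mk' N
  have hπ : ∀ g : P, π g = 1 ↔ (g : Ω) ∈ A := by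
    intro g
    refine (QuotientGroup.eq_one_iff g).trans ⟨fun h => ?_, fun h => ?_⟩
    · obtain ⟨k, hk⟩ := Subgroup.mem_zpowers_iff.mp (ha' ⟨g, h⟩)
      exact Subgroup.mem_zpowers_iff.mpr ⟨k, congrArg (fun u : N => ((u : P) : Ω)) hk⟩
    · obtain ⟨k, hk⟩ := Subgroup.mem_zpowers_iff.mp h
      have : g = (a' : P) ^ k := Subtype.ext hk.symm
      rw [this]
      exact zpow_mem a'.2 k
  have hAP : A ≤ P := Subgroup.zpowers_le.mpr (a' : P).2
  have hconj : ∀ g ∈ P, ∃ t : ℤ, g * a * g⁻¹ = a ^ t := by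
    intro g hg
    have h := hN.conj_mem _ a'.2 ⟨g, hg⟩
    obtain ⟨k, hk⟩ := Subgroup.mem_zpowers_iff.mp (ha' ⟨_, h⟩)
    exact ⟨k, (congrArg (fun u : N => ((u : P) : Ω)) hk).symm⟩
  have h2pow : ∀ g ∈ P, ∃ n : ℕ, g ^ 2 ^ n = 1 := fun g hg => by
    obtain ⟨n, hn⟩ := hS ⟨g, hPS hg⟩
    exact ⟨n, congrArg Subtype.val hn⟩
  have hQ2 : IsPGroup 2 (P ⧸ N) := (hS.to_le hPS).to_quotient N
  obtain ⟨β, hβ⟩ := hQc.exists_generator
  have hcomm : ∀ u ∈ P, ∀ v ∈ P, ⁅u, v⁆ ∈ A := by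
    intro u hu v hv
    refine (hπ ⁅(⟨u, hu⟩ : P), ⟨v, hv⟩⁆).mp ?_
    rw [map_commutatorElement, commutatorElement_eq_one_iff_mul_comm]
    obtain ⟨i, hi⟩ := Subgroup.mem_zpowers_iff.mp (hβ (π ⟨u, hu⟩))
    obtain ⟨j, hj⟩ := Subgroup.mem_zpowers_iff.mp (hβ (π ⟨v, hv⟩))
    rw [← hi, ← hj]
    exact (Commute.refl β).zpow_zpow i j
  have hPn : S ≤ Subgroup.normalizer (P : Set Ω) := le_normalizer_of_stronglyClosed hP
  set Q := P ⊓ R with hQ
  have hQR : Q ≤ R := inf_le_right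
  have hQP : Q ≤ P := inf_le_left
  have hQinv : ∀ α ∈ F.autGroup R, ∀ q ∈ Q, afun α q ∈ Q := fun α hα q hq =>
    ⟨stronglyClosed_invariant hP ((mem_autGroup hRS).mp hα) hq.2 hq.1, afun_mem α hq.2⟩
  -- elements of `N_P(R)` outside `R` act non-trivially modulo squares
  have hstep : ∀ y ∈ P, y ∈ Subgroup.normalizer (R : Set Ω) → ∀ r ∈ R, ⁅y, r⁆ ∈ Q := by
    intro y hy hyR r hr'
    refine ⟨?_, ?_⟩
    · rw [commutatorElement_def, show y * r * y⁻¹ * r⁻¹ = y * (r * y⁻¹ * r⁻¹) by group]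
      exact mul_mem hy ((Subgroup.mem_normalizer_iff.mp (hPn (hRS hr')) _).mp (inv_mem hy))
    · rw [commutatorElement_def]
      exact R.mul_mem ((Subgroup.mem_normalizer_iff.mp hyR r).mp hr') (R.inv_mem hr')
  have hQc' : IsCyclic ↥((Q.subgroupOf P).map π) := inferInstance
  obtain ⟨⟨c0, hc0⟩, hgen0⟩ := hQc'.exists_generator
  obtain ⟨b₀, hb₀, hb₀c⟩ := id hc0
  set b1 : Ω := (b₀ : Ω) with hb1
  have hb1Q : b1 ∈ Q := hb₀
  have hdec : ∀ q ∈ Q, ∃ k : ℤ, q * (b1 ^ k)⁻¹ ∈ A ⊓ Q := by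
    intro q hq
    obtain ⟨k, hk⟩ := Subgroup.mem_zpowers_iff.mp
      (hgen0 ⟨π ⟨q, hq.1⟩, ⟨⟨q, hq.1⟩, hq, rfl⟩⟩)
    refine ⟨k, ?_, Q.mul_mem hq (Q.inv_mem (Q.zpow_mem hb1Q k))⟩
    refine (hπ (⟨q, hq.1⟩ * (b₀ ^ k)⁻¹)).mp ?_
    have hk' : c0 ^ k = π ⟨q, hq.1⟩ := congrArg Subtype.val hk
    rw [map_mul, map_inv, map_zpow, hb₀c, hk', mul_inv_cancel]
  have hkey : ∀ y ∈ P, y ∈ Subgroup.normalizer (R : Set Ω) → y ∉ R → ⁅y, b1⁆ ∉ sq Q := by
    intro y hy hyn hyR hb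
    refine hyR (mem_of_trivial hS hc hr hQR hQinv le_rfl (sq_le Q)
      (fun α hα w hw => afun_sq α hQR (hQinv α hα) hw) (hPS hy) hyn (hstep y hy hyn) ?_ ?_)
    · intro q hq
      obtain ⟨k, hk⟩ := hdec q hq
      have hd' : q * (b1 ^ k)⁻¹ ∈ commSub Q y := by
        refine ⟨hk.2, ?_⟩
        obtain ⟨i, hi⟩ := Subgroup.mem_zpowers_iff.mp hk.1
        obtain ⟨t, ht⟩ := hconj y hy
        rw [commutatorElement_def, ← hi, zpow_conj ht, ← zpow_neg, ← zpow_add,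
          show t * i + -i = (t - 1) * i by ring]
        rcases eq_one_or_odd ht (h2pow a (hAP (Subgroup.mem_zpowers a))) with h1 | ⟨u, rfl⟩
        · rw [h1, one_zpow]
          exact one_mem _
        · rw [show (2 * u + 1 - 1) * i = i * (2 * u) by ring, zpow_mul, hi]
          exact zpow_two_mul_mem_sq hk.2 u
      have hbL : b1 ∈ commSub Q y := ⟨hb1Q, hb⟩
      have := mul_mem hd' (zpow_mem hbL k)
      rw [inv_mul_cancel_right] at this
      exact this.2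
    · intro w hw
      refine (sq_le_commSub (fun v hv => ?_) hw).2
      exact ⟨mul_mem (mul_mem hy hv.1) (P.inv_mem hy), (Subgroup.mem_normalizer_iff.mp hyn v).mp hv.2⟩
  -- an element of `N_P(R)` outside `R`
  obtain ⟨y, hy, hyn, hyR⟩ : ∃ y ∈ P, y ∈ Subgroup.normalizer (R : Set Ω) ∧ y ∉ R := by
    obtain ⟨g, hgS, hgR, hgn⟩ := lt_normalizerIn hS (sup_le hRS hPS) (left_lt_sup.mpr hPR)
    rw [← SetLike.mem_coe, Subgroup.coe_mul_of_left_le_normalizer_right _ _ (hRS.trans hPn)] at hgS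
    obtain ⟨u, hu, q, hq', rfl⟩ := Set.mem_mul.mp hgS
    refine ⟨q, hq', ?_, fun h => hgR (mul_mem hu h)⟩
    simpa using mul_mem (inv_mem (Subgroup.le_normalizer (H := R) hu)) hgn
  obtain ⟨n, hn⟩ := h2pow y hy
  obtain ⟨l, hl, hl2⟩ := exists_last_outside hyR hn
  set y' := y ^ 2 ^ l with hy'def
  have hy' : y' ∈ P := pow_mem hy _
  have hyn' : y' ∈ Subgroup.normalizer (R : Set Ω) := pow_mem hyn _
  have hy2Q : y' ^ 2 ∈ Q := ⟨pow_mem hy' 2, hl2⟩
  have hexβ : ∃ n : ℕ, β ^ 2 ^ n = 1 := hQ2 β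
  -- `π y'` is a power of `π b1`
  have hyb : π ⟨y', hy'⟩ ∈ Subgroup.zpowers c0 := by
    rcases mem_or_mem hexβ (hβ (π ⟨y', hy'⟩)) (hβ c0) with h | h
    · exact h
    obtain ⟨i, hi⟩ := Subgroup.mem_zpowers_iff.mp h
    rcases Int.even_or_odd' i with ⟨j, rfl | rfl⟩
    · -- then `b1` is a product of a square of `y'` and an element of `A`
      exfalso
      have hy2j : y' ^ (2 * j) ∈ Q := by rw [zpow_mul, zpow_ofNat]; exact zpow_mem hy2Q j
      have hδ : b1 * (y' ^ (2 * j))⁻¹ ∈ A ⊓ Q := by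
        refine ⟨(hπ (b₀ * ((⟨y', hy'⟩ : P) ^ (2 * j))⁻¹)).mp ?_, Q.mul_mem hb1Q (Q.inv_mem hy2j)⟩
        rw [map_mul, map_inv, map_zpow, hb₀c, hi, mul_inv_cancel]
      set δ := b1 * (y' ^ (2 * j))⁻¹
      refine hkey y' hy' hyn' hl ?_
      have e1 : b1 = δ * y' ^ (2 * j) := (inv_mul_cancel_right _ _).symm
      have e2 : ⁅y', b1⁆ = ⁅y', δ⁆ := by
        rw [e1, commutatorElement_def, commutatorElement_def]; group
      rw [e2]
      obtain ⟨m, hm'⟩ := Subgroup.mem_zpowers_iff.mp hδ.1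
      obtain ⟨t, ht⟩ := hconj y' hy'
      have hyδ : cj y' δ ∈ Q := by
        rw [cj_apply]
        exact ⟨P.mul_mem (P.mul_mem hy' hδ.2.1) (P.inv_mem hy'),
          (Subgroup.mem_normalizer_iff.mp hyn' δ).mp hδ.2.2⟩
      have hcj : cj y' δ = δ ^ t := by
        rw [cj_apply, ← hm', zpow_conj ht, mul_comm, zpow_mul]
      rw [commutatorElement_def, show y' * δ * y'⁻¹ = δ ^ t from hcj, ← zpow_neg_one, ← zpow_add]
      rcases eq_one_or_odd (show y' * δ * y'⁻¹ = δ ^ t from hcj) (h2pow δ hδ.2.1) with h1 | ⟨u, rfl⟩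
      · rw [h1, one_zpow]
        exact one_mem _
      · rw [show (2 * u + 1 + -1) = 2 * u by ring]
        exact zpow_two_mul_mem_sq hδ.2 u
    · -- odd exponent
      have hu2 : (π ⟨y', hy'⟩) ^ 2 ∈ Subgroup.zpowers c0 := by
        obtain ⟨k, hk⟩ := Subgroup.mem_zpowers_iff.mp (hgen0 ⟨π ⟨y' ^ 2, hy2Q.1⟩, ⟨⟨y' ^ 2, hy2Q.1⟩, hy2Q, rfl⟩⟩)
        refine Subgroup.mem_zpowers_iff.mpr ⟨k, ?_⟩
        have hk' : c0 ^ k = π ⟨y' ^ 2, hy2Q.1⟩ := congrArg Subtype.val hk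
        rw [hk', ← map_pow]
        rfl
      have e1 : π ⟨y', hy'⟩ = c0 * ((π ⟨y', hy'⟩) ^ 2) ^ (-j) := by
        rw [← hi, ← zpow_natCast (π ⟨y', hy'⟩) 2, ← zpow_mul, ← zpow_add,
          show 2 * j + 1 + ((2 : ℕ) : ℤ) * -j = 1 by push_cast; ring, zpow_one]
      rw [e1]
      exact mul_mem (Subgroup.mem_zpowers c0) (zpow_mem hu2 _)
  -- pass to an element of `A`
  obtain ⟨k, hk⟩ := Subgroup.mem_zpowers_iff.mp hyb
  set α := y' * (b1 ^ k)⁻¹ with hαdef
  have hαA : α ∈ A := by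
    refine (hπ (⟨y', hy'⟩ * (b₀ ^ k)⁻¹)).mp ?_
    rw [map_mul, map_inv, map_zpow, hb₀c, hk, mul_inv_cancel]
  have hαR : α ∉ R := fun h => hl (by
    rw [show y' = α * b1 ^ k from (inv_mul_cancel_right _ _).symm]
    exact R.mul_mem h (R.zpow_mem hb1Q.2 k))
  have hαn : α ∈ Subgroup.normalizer (R : Set Ω) :=
    mul_mem hyn' (inv_mem (Subgroup.le_normalizer (R.zpow_mem hb1Q.2 k)))
  obtain ⟨n₁, hn₁⟩ := h2pow α (hAP hαA)
  obtain ⟨l₁, hzR, hz2R⟩ := exists_last_outside hαR hn₁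
  set z := α ^ 2 ^ l₁ with hzdef
  have hzA : z ∈ A := pow_mem hαA _
  have hz2Q : z ^ 2 ∈ Q := ⟨pow_mem (hAP hzA) 2, hz2R⟩
  have hbz := hkey z (hAP hzA) (pow_mem hαn _) hzR
  obtain ⟨s, hs⟩ := hconj b1 hb1Q.1
  obtain ⟨zc, hzc⟩ := Subgroup.mem_zpowers_iff.mp hzA
  have hbzb : b1 * z * b1⁻¹ = z ^ s := by rw [← hzc, zpow_conj hs, mul_comm, zpow_mul]
  have hcomz : ⁅z, b1⁆ = z ^ (1 - s) := by
    rw [commutatorElement_def, show z * b1 * z⁻¹ * b1⁻¹ = z * (b1 * z * b1⁻¹)⁻¹ by group, hbzb,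
      sub_eq_add_neg, zpow_add, zpow_one, zpow_neg]
  have hsodd : Odd s := (eq_one_or_odd hbzb (h2pow z (hAP hzA))).resolve_left
    fun h => hzR (h ▸ one_mem R)
  have hs4 : s % 4 = 3 := by
    by_contra h4
    obtain ⟨u, hu⟩ : ∃ u, 1 - s = 2 * (2 * u) := ⟨(1 - s) / 4, by rcases hsodd with ⟨w, rfl⟩; omega⟩
    refine hbz ?_
    rw [hcomz, hu, mul_left_comm, zpow_mul, zpow_ofNat, pow_two]
    rw [show (z * z) ^ (2 * u) = (z ^ 2) ^ (2 * u) by rw [pow_two]]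
    exact zpow_two_mul_mem_sq hz2Q u
  have hz2ne : z ^ 2 ≠ 1 := by
    intro h
    obtain ⟨u, hu⟩ : ∃ u, 1 - s = 2 * u := ⟨(1 - s) / 2, by omega⟩
    exact hbz (by rw [hcomz, hu, zpow_mul, zpow_ofNat, h, one_zpow]; exact one_mem _)
  -- `D := A ∩ Q` is generated by `z²`
  have hD : ∀ d ∈ A ⊓ Q, d ∈ Subgroup.zpowers (z ^ 2) := by
    intro d hd'
    rcases mem_or_mem (h2pow a (hAP (Subgroup.mem_zpowers a))) hd'.1 hzA with h | h
    · obtain ⟨i, hi⟩ := Subgroup.mem_zpowers_iff.mp h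
      rcases Int.even_or_odd' i with ⟨j, rfl | rfl⟩
      · exact Subgroup.mem_zpowers_iff.mpr ⟨j, by rw [← hi, zpow_mul, zpow_ofNat]⟩
      · exfalso
        refine hzR ?_
        have e1 : z = d * ((z ^ 2) ^ j)⁻¹ := by
          rw [← hi, zpow_add_one, zpow_mul, zpow_ofNat]
          group
        rw [e1]
        exact R.mul_mem hd'.2.2 (R.inv_mem (R.zpow_mem hz2Q.2 j))
    · exact absurd ((Subgroup.zpowers_le.mpr hd'.2.2) h) hzR
  -- `P = A⟨b1⟩`
  obtain ⟨bb, hbb⟩ := QuotientGroup.mk'_surjective N β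
  obtain ⟨tb, htb⟩ := hconj bb bb.2
  obtain ⟨e, hea⟩ : ∃ e, orderOf a = 2 ^ e := by
    obtain ⟨n', hn'⟩ := h2pow a (hAP (Subgroup.mem_zpowers a))
    obtain ⟨m', -, hm'⟩ := (Nat.dvd_prime_pow Nat.prime_two).mp (orderOf_dvd_of_pow_eq_one hn')
    exact ⟨m', hm'⟩
  have he2 : 2 ≤ e := by
    by_contra h
    have h2 : a ^ 2 = 1 := by
      rw [← orderOf_dvd_iff_pow_eq_one, hea]
      exact (pow_dvd_pow 2 (by omega : e ≤ 1)).trans (dvd_of_eq (pow_one 2))
    refine hz2ne ?_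
    rw [← hzc, ← zpow_natCast, ← zpow_mul, mul_comm, zpow_mul, zpow_natCast, h2, one_zpow]
  have h4 : (4 : ℤ) ∣ (orderOf a : ℤ) := by
    rw [hea]; push_cast
    exact (dvd_of_eq (by norm_num : (4 : ℤ) = 2 ^ 2)).trans (pow_dvd_pow 2 he2)
  obtain ⟨j, hj⟩ := Subgroup.mem_zpowers_iff.mp (hβ c0)
  have hjodd : Odd j := by
    by_contra hev
    obtain ⟨i, rfl⟩ := even_iff_two_dvd.mp (Int.not_odd_iff_even.mp hev)
    have hδ : b1 * ((bb : Ω) ^ (2 * i))⁻¹ ∈ A := by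
      refine (hπ (b₀ * (bb ^ (2 * i))⁻¹)).mp ?_
      rw [map_mul, map_inv, map_zpow, hb₀c, hbb, hj, mul_inv_cancel]
    obtain ⟨d, hd'⟩ := Subgroup.mem_zpowers_iff.mp hδ
    have hpows : ∀ k : ℕ, ((bb : Ω) ^ k) * a * ((bb : Ω) ^ k)⁻¹ = a ^ (tb ^ k) := by
      intro k
      induction k with
      | zero => simp
      | succ k ih =>
        rw [pow_succ' (bb : Ω), show (bb : Ω) * (bb : Ω) ^ k * a * ((bb : Ω) * (bb : Ω) ^ k)⁻¹ =
          (bb : Ω) * ((bb : Ω) ^ k * a * ((bb : Ω) ^ k)⁻¹) * (bb : Ω)⁻¹ by group, ih,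
          zpow_conj htb, ← pow_succ']
    haveI : Finite P := finite_of_le hPS
    obtain ⟨i', hi'⟩ := (IsOfFinOrder.mem_powers_iff_mem_zpowers
      (isOfFinOrder_of_finite (bb ^ 2 : P))).mpr (Subgroup.mem_zpowers_iff.mpr ⟨i, rfl⟩ :
        (bb ^ 2 : P) ^ i ∈ Subgroup.zpowers (bb ^ 2 : P))
    have hbpow : (bb : Ω) ^ (2 * i) = (bb : Ω) ^ (2 * i') := by
      rw [zpow_mul, zpow_ofNat, pow_mul]
      exact (congrArg Subtype.val hi').symm
    have hconj1 : b1 * a * b1⁻¹ = a ^ (tb ^ (2 * i')) := by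
      rw [hbpow] at hd'
      rw [show b1 = a ^ d * (bb : Ω) ^ (2 * i') by rw [hd', inv_mul_cancel_right],
        show a ^ d * (bb : Ω) ^ (2 * i') * a * (a ^ d * (bb : Ω) ^ (2 * i'))⁻¹ =
          a ^ d * ((bb : Ω) ^ (2 * i') * a * ((bb : Ω) ^ (2 * i'))⁻¹) * (a ^ d)⁻¹ by group,
        hpows, ← zpow_neg, ← zpow_add, ← zpow_add]
      congr 1; ring
    rw [hs, zpow_eq_zpow_iff_modEq, Int.modEq_iff_dvd] at hconj1
    have h5 : (4 : ℤ) ∣ tb ^ (2 * i') - s := h4.trans hconj1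
    rw [pow_mul] at h5
    rcases Int.even_or_odd' tb with ⟨u, rfl | rfl⟩
    · rcases i' with _ | i''
      · rw [pow_zero] at h5; omega
      · obtain ⟨w, hw⟩ : (4 : ℤ) ∣ ((2 * u) ^ 2) ^ (i'' + 1) :=
          (Dvd.intro (u ^ 2) (by ring)).trans (dvd_pow_self _ (by omega))
        rw [hw] at h5; omega
    · obtain ⟨w, hw⟩ : (4 : ℤ) ∣ ((2 * u + 1) ^ 2) ^ i' - 1 := by
        have : (4 : ℤ) ∣ (2 * u + 1) ^ 2 - 1 := Dvd.intro (u * u + u) (by ring)
        exact this.trans (sub_one_dvd_pow_sub_one _ _)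
      omega
  have hβc : β ∈ Subgroup.zpowers c0 := by
    rcases mem_or_mem hexβ (Subgroup.mem_zpowers β) (hβ c0) with h | h
    · exact h
    obtain ⟨n', hn'⟩ := hexβ
    have hco : IsCoprime j ((2 ^ n' : ℕ) : ℤ) := by
      push_cast
      refine IsCoprime.pow_right ?_
      obtain ⟨w, rfl⟩ := hjodd
      exact ⟨1, -w, by ring⟩
    obtain ⟨u, v, huv⟩ := hco
    refine Subgroup.mem_zpowers_iff.mpr ⟨u, ?_⟩
    rw [← hj, ← zpow_mul]
    nth_rewrite 2 [← zpow_one β]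
    rw [zpow_eq_zpow_iff_modEq, Int.modEq_iff_dvd]
    exact (Int.natCast_dvd_natCast.mpr (orderOf_dvd_of_pow_eq_one hn')).trans
      ⟨v, by linear_combination (-1 : ℤ) * huv⟩
  have hPgen : ∀ g ∈ P, ∃ i k : ℤ, g = a ^ i * b1 ^ k := by
    intro g hg
    obtain ⟨k, hk'⟩ := Subgroup.mem_zpowers_iff.mp ((Subgroup.zpowers_le.mpr hβc) (hβ (π ⟨g, hg⟩)))
    have : g * (b1 ^ k)⁻¹ ∈ A := by
      refine (hπ (⟨g, hg⟩ * (b₀ ^ k)⁻¹)).mp ?_
      rw [map_mul, map_inv, map_zpow, hb₀c, hk', mul_inv_cancel]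
    obtain ⟨i, hi⟩ := Subgroup.mem_zpowers_iff.mp this
    exact ⟨i, k, by rw [hi, inv_mul_cancel_right]⟩
  -- `b1² ∈ A`: some automorphism moves `z²` out of `W`
  have hb12 : b1 ^ 2 ∈ A := by
    by_contra hb12
    set W := sq Q ⊔ Subgroup.zpowers (z ^ 2) with hW
    have hWQ : W ≤ Q := sup_le (sq_le Q) (Subgroup.zpowers_le.mpr hz2Q)
    obtain ⟨φ, hφ, w, hw, hwW⟩ : ∃ φ ∈ F.autGroup R, ∃ w ∈ W, afun φ w ∉ W := by
      by_contra hall
      push Not at hall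
      refine hzR (mem_of_trivial hS hc hr hQR hQinv le_sup_left hWQ hall (hPS (hAP hzA))
        (pow_mem hαn _) (hstep z (hAP hzA) (pow_mem hαn _)) (fun q hq => ?_) (fun w hw => ?_))
      · exact (Subgroup.mem_sup_right (hD _ ⟨hcomm z (hAP hzA) q hq.1,
          hstep z (hAP hzA) (pow_mem hαn _) q hq.2⟩) : _ ∈ sq Q ⊔ Subgroup.zpowers (z ^ 2))
      · have hle : W ≤ commSub Q z := by
          refine sup_le (sq_le_commSub fun v hv => ?_) (Subgroup.zpowers_le.mpr ⟨hz2Q, ?_⟩)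
          · exact ⟨mul_mem (mul_mem (hAP hzA) hv.1) (P.inv_mem (hAP hzA)),
              (Subgroup.mem_normalizer_iff.mp (pow_mem hαn _) v).mp hv.2⟩
          · rw [commutatorElement_eq_one_iff_mul_comm.mpr ((Commute.self_pow z 2).eq)]
            exact one_mem _
        exact (hle hw).2
    -- the square of the image of `z²` lies in `A`
    have hz2W : afun φ (z ^ 2) ∉ W := by
      intro h
      refine hwW ?_
      rw [hW, Subgroup.sup_eq_closure] at hw
      refine afun_closure_mem φ ?_ ?_ hw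
      · rintro v (hv | hv)
        · exact hQR (sq_le Q hv)
        · exact (Subgroup.zpowers_le.mpr hz2Q.2) hv
      · rintro v (hv | hv)
        · exact Subgroup.mem_sup_left (afun_sq φ hQR (hQinv φ hφ) hv)
        · have hv' : v ∈ Subgroup.closure ({z ^ 2} : Set Ω) := by
            rwa [← Subgroup.zpowers_eq_closure]
          exact afun_closure_mem φ (Set.singleton_subset_iff.mpr hz2Q.2)
            (fun x hx => by rwa [Set.mem_singleton_iff.mp hx]) hv'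
    set d := z ^ 2 with hdd
    set w' := afun φ d with hw'
    have hw'Q : w' ∈ Q := hQinv φ hφ d hz2Q
    obtain ⟨k', hk'⟩ := hdec w' hw'Q
    have hk'odd : Odd k' := by
      by_contra hev
      obtain ⟨m, rfl⟩ := even_iff_two_dvd.mp (Int.not_odd_iff_even.mp hev)
      refine hz2W ?_
      rw [show w' = w' * (b1 ^ (2 * m))⁻¹ * b1 ^ (2 * m) from (inv_mul_cancel_right _ _).symm]
      exact mul_mem (Subgroup.mem_sup_right (hD _ hk'))
        (Subgroup.mem_sup_left (zpow_two_mul_mem_sq hb1Q m))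
    -- `[d, b1] = d ^ (1 - s)` maps to a commutator
    have hcd : d * b1 * d⁻¹ * b1⁻¹ = d ^ (1 - s) := by
      rw [show d * b1 * d⁻¹ * b1⁻¹ = d * (b1 * d * b1⁻¹)⁻¹ by group,
        show b1 * d * b1⁻¹ = d ^ s by
          rw [hdd, ← conj_pow, hbzb, ← zpow_natCast, ← zpow_mul, mul_comm, zpow_mul, zpow_natCast],
        sub_eq_add_neg, zpow_add, zpow_one, zpow_neg]
    have hφb := hQinv φ hφ b1 hb1Q
    have himg : w' ^ (1 - s) ∈ A := by
      have e1 : w' ^ (1 - s) = ⁅w', afun φ b1⁆ := by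
        have h0 := congrArg (fun u : R => ((φ u : R) : Ω))
          (show (⟨d, hz2Q.2⟩ : R) * ⟨b1, hb1Q.2⟩ * ⟨d, hz2Q.2⟩⁻¹ * ⟨b1, hb1Q.2⟩⁻¹ =
            ⟨d, hz2Q.2⟩ ^ (1 - s) from Subtype.ext (by simpa using hcd))
        simp only [map_mul, map_inv, map_zpow, Subgroup.coe_mul, Subgroup.coe_inv,
          SubgroupClass.coe_zpow, ← afun_apply] at h0
        rw [commutatorElement_def]
        exact h0.symm
      rw [e1]
      exact hcomm _ hw'Q.1 _ hφb.1
    have hπw : π ⟨w', hw'Q.1⟩ = c0 ^ k' := by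
      have h0 : π (⟨w', hw'Q.1⟩ * (b₀ ^ k')⁻¹) = 1 := (hπ _).mpr hk'.1
      rwa [map_mul, map_inv, map_zpow, hb₀c, mul_inv_eq_one] at h0
    have h0 : c0 ^ (k' * (1 - s)) = 1 := by
      rw [zpow_mul, ← hπw, ← map_zpow]
      exact (hπ _).mpr himg
    refine hb12 ((hπ (b₀ ^ 2)).mp ?_)
    rw [map_pow, hb₀c, ← orderOf_dvd_iff_pow_eq_one]
    obtain ⟨n', hn'⟩ := hQ2 c0
    obtain ⟨m', -, hm'⟩ := (Nat.dvd_prime_pow Nat.prime_two).mp (orderOf_dvd_of_pow_eq_one hn')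
    rw [← orderOf_dvd_iff_zpow_eq_one, hm'] at h0
    rw [hm']
    obtain ⟨r, hr'⟩ : ∃ r : ℤ, k' * (1 - s) = 2 * (2 * r + 1) := by
      obtain ⟨p', rfl⟩ := hk'odd
      obtain ⟨q', rfl⟩ : ∃ q', s = 4 * q' + 3 := ⟨s / 4, by omega⟩
      exact ⟨-(2 * p' * q') - q' - p' - 1, by ring⟩
    rcases Nat.lt_or_ge m' 2 with hlt | hge
    · exact (pow_dvd_pow 2 (by omega : m' ≤ 1)).trans (dvd_of_eq (pow_one 2))
    · exfalso
      push_cast at h0
      have h8 : (4 : ℤ) ∣ 2 * (2 * r + 1) := hr' ▸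
        ((dvd_of_eq (by norm_num : (4 : ℤ) = 2 ^ 2)).trans (pow_dvd_pow 2 hge)).trans h0
      omega
  have hb1A : b1 ∉ A := by
    intro h
    obtain ⟨i, hi⟩ := Subgroup.mem_zpowers_iff.mp h
    refine hbz ?_
    rw [commutatorElement_eq_one_iff_mul_comm.mpr (show z * b1 = b1 * z by
      rw [← hi, ← hzc]; exact ((Commute.refl a).zpow_zpow zc i).eq)]
    exact one_mem _
  have hsh := shape (G := P) (a := (a' : P)) (b := b₀) he2
    (by rw [← hea]; exact (Subgroup.orderOf_coe _).symm) (Subtype.ext (by simpa [haa, hb1] using hs)) hs4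
    (fun h => hb1A (by
      obtain ⟨i, hi⟩ := Subgroup.mem_zpowers_iff.mp h
      exact Subgroup.mem_zpowers_iff.mpr ⟨i, congrArg Subtype.val hi⟩))
    (by
      obtain ⟨i, hi⟩ := Subgroup.mem_zpowers_iff.mp hb12
      exact Subgroup.mem_zpowers_iff.mpr ⟨i, Subtype.ext (by simpa [haa, hb1] using hi)⟩)
    (fun g => by
      obtain ⟨i, k, h⟩ := hPgen g g.2
      exact ⟨i, k, Subtype.ext (by simpa [haa, hb1] using h)⟩)
  rcases hsh with h | h | h
  · exact hd h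
  · exact hq h
  · exact hsd h

end Cfsg.Agent.FusionMetacyclicTwo
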