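import Cfsg.Agent.Lib.MetacyclicAutCases
import Cfsg.Agent.Lib.FusionMetacyclicTwo
import Cfsg.Agent.Lib.FusionSupersolubleCriterion

/-!
Saturated systems on metacyclic `2`-groups outside the exceptional cases are inner.
-/

set_option autoImplicit false
set_option linter.style.haveILetI false

open Cfsg
open Cfsg.Agent.FusionSysBasic Cfsg.Agent.FusionSysSaturated Cfsg.Agent.FusionSysNormal
  Cfsg.Agent.FusionSysAlperin

namespace Cfsg.Agent.FusionMetacyclicResistant

variable {Ω : Type*} [Group Ω] {S : Subgroup Ω} [Finite S]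

/-- With a characteristic line at the prime two the automorphism group is a `2`-group. -/
theorem isPGroup_mulAut {R : Type*} [Group R] [Finite R] (hR : IsPGroup 2 R)
    (h : MetacyclicAutCases.HasCharLine R) : IsPGroup 2 (MulAut R) := by
  haveI : Fact (Nat.Prime 2) := ⟨Nat.prime_two⟩
  haveI : Finite (MulAut R) :=
    Finite.of_injective (fun β : MulAut R => (β : R → R)) DFunLike.coe_injective
  intro a
  obtain ⟨k, m, hm, he⟩ := Nat.exists_eq_pow_mul_and_not_dvd (orderOf_pos a).ne' 2 (by norm_num)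
  refine ⟨k, ?_⟩
  have hord : orderOf (a ^ 2 ^ k) ∣ m :=
    orderOf_dvd_of_pow_eq_one (by rw [← pow_mul, ← he, pow_orderOf_eq_one])
  have hc : (Nat.card (Subgroup.zpowers (a ^ 2 ^ k))).Coprime 2 := by
    rw [Nat.card_zpowers]
    exact (Nat.prime_two.coprime_iff_not_dvd.mpr fun hd => hm (hd.trans hord)).symm
  have := (MetacyclicAutCases.diagonal_of_charLine hR h _ hc).2 _ (Subgroup.mem_zpowers _)
  rwa [show (2 : ℕ) - 1 = 1 from rfl, pow_one] at this

/-- A normal `S` with a `p`-group of automorphisms gives the inner system. -/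
theorem eq_inner {p : ℕ} [Fact p.Prime] {F : FusionSystem S} (hF : F.IsSaturated p)
    (hn : F.IsNormal S) (ha : IsPGroup p (MulAut ↥S)) :
    F = innerFusionSystem S := by
  refine le_antisymm_hom (fun P φ hφ => ?_) inner_le
  haveI : Finite (MulAut ↥S) :=
    Finite.of_injective (fun β : MulAut ↥S => (β : ↥S → ↥S)) DFunLike.coe_injective
  have hA : F.autGroup S = autInducedBy S S := by
    refine le_antisymm ?_ (autInducedBy_le le_rfl)
    obtain ⟨T, hT⟩ := (fullyAutomized_of_saturated_self hF).2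
    obtain ⟨k, hk⟩ := IsPGroup.iff_card.mp (ha.to_subgroup (F.autGroup S))
    refine Subgroup.subgroupOf_eq_top.mp ?_
    rw [← hT]
    refine Subgroup.eq_top_of_card_eq _ ?_
    rw [T.card_eq_multiplicity, hk, Nat.Prime.factorization_pow (Fact.out (p := p.Prime)),
      Finsupp.single_eq_same]
  obtain ⟨g, hg, hag, him⟩ := (isNormal_iff.mp hn).2 P _ (mor_toFun hφ)
  have hP : P ≤ S := (F.le_of_mem hφ).1
  rw [sup_eq_right.mpr hP] at hg
  obtain ⟨α, hα, hαe⟩ := hg.exists_aut him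
  rw [hA] at hα
  obtain ⟨s, hs, -, hse⟩ := mem_autInducedBy.mp hα
  refine ⟨hP, s, hs, fun x => ?_⟩
  rw [← toFun_coe φ x, ← hag _ x.2, ← hαe _ (hP x.2), hse _ (hP x.2), cj_apply]

/-- A cyclic `2`-group is homocyclic of rank one. -/
theorem exists_homocyclic_of_isCyclic {R : Type*} [Group R] [Finite R] (hR : IsPGroup 2 R)
    (h : IsCyclic R) : ∃ n k : ℕ, Nonempty (R ≃* Multiplicative (Fin k → ZMod (2 ^ n))) := by
  haveI : Fact (Nat.Prime 2) := ⟨Nat.prime_two⟩
  obtain ⟨n, hn⟩ := IsPGroup.iff_card.mp hR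
  exact ⟨n, 1, ⟨(mulEquivOfCyclicCardEq (G' := Multiplicative (ZMod (2 ^ n)))
    (hn.trans (Nat.card_zmod _).symm)).trans
    (AddEquiv.toMultiplicative (LinearEquiv.funUnique (Fin 1) ℤ (ZMod (2 ^ n))).symm.toAddEquiv)⟩⟩

/-- A square is homocyclic of rank two. -/
theorem exists_homocyclic_of_square {R : Type*} [Group R] {n : ℕ}
    (e : R ≃* Multiplicative (ZMod (2 ^ n)) × Multiplicative (ZMod (2 ^ n))) :
    ∃ m k : ℕ, Nonempty (R ≃* Multiplicative (Fin k → ZMod (2 ^ m))) :=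
  ⟨n, 2, ⟨e.trans ((MulEquiv.prodMultiplicative (ZMod (2 ^ n)) (ZMod (2 ^ n))).symm.trans
    (AddEquiv.toMultiplicative (LinearEquiv.finTwoArrow ℤ (ZMod (2 ^ n))).symm.toAddEquiv))⟩⟩

theorem inner_of_metacyclic (hS : IsPGroup 2 ↥S) {F : FusionSystem S} (hF : F.IsSaturated 2)
    (hm : Cfsg.IsMetacyclic ↥S)
    (hh : ¬ ∃ n k : ℕ, Nonempty (↥S ≃* Multiplicative (Fin k → ZMod (2 ^ n))))
    (hd : ¬ ∃ m : ℕ, Nonempty (↥S ≃* DihedralGroup m))
    (hq : ¬ ∃ m : ℕ, Nonempty (↥S ≃* QuaternionGroup m)) (hsd : ¬ Cfsg.IsQuasiDihedral ↥S) :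
    F = innerFusionSystem S := by
  haveI : Fact (Nat.Prime 2) := ⟨Nat.prime_two⟩
  refine eq_inner hF (FusionMetacyclicTwo.isNormal hS hF
    (stronglyClosed_iff.mpr ⟨le_rfl, fun P f _ hf x hx => hf.apply_mem hx⟩) hm hd hq hsd) ?_
  rcases MetacyclicAutCases.cases hS hm with h | h | ⟨n, -, ⟨e⟩⟩ | ⟨-, h⟩
  · exact absurd (exists_homocyclic_of_isCyclic hS h) hh
  · exact isPGroup_mulAut hS h
  · exact absurd (exists_homocyclic_of_square e) hh
  · exact absurd ⟨2, h⟩ hq

end Cfsg.Agent.FusionMetacyclicResistant
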