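import Cfsg.Agent.Lib.FusionWeaklyNormal88
import Cfsg.Agent.Lib.FusionSysAlperin

/-!
A weakly normal subsystem over `T` is determined by its automizer of `T`.
-/

set_option autoImplicit false

namespace Cfsg.Agent.FusionWeaklyNormalEq

open Cfsg Cfsg.FusionSystem Cfsg.Agent.FusionSysBasic Cfsg.Agent.FusionSysSaturated
open Cfsg.Agent.FusionWeaklyNormal88

/-- A subgroup between a Sylow subgroup and the group has the same Sylow subgroup. -/
theorem sylIn_of_le {G : Type*} [Group G] [Finite G] {p : ℕ} [Fact p.Prime] {R I A : Subgroup G}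
    (h : SylIn p R A) (hRI : R ≤ I) (hIA : I ≤ A) : SylIn p R I := by
  have hc := (sylIn_iff_card (hRI.trans hIA)).1 h
  rw [sylIn_iff_card hRI, hc]
  have h1 : p ^ (Nat.card A).factorization p ∣ Nat.card I := hc ▸ Subgroup.card_dvd_of_le hRI
  refine congrArg (p ^ ·) (le_antisymm
    (((Fact.out : p.Prime).pow_dvd_iff_le_factorization Nat.card_pos.ne').1 h1) ?_)
  exact (Nat.factorization_le_iff_dvd Nat.card_pos.ne' Nat.card_pos.ne').2
    (Subgroup.card_dvd_of_le hIA) p

variable {Ω : Type*} [Group Ω] {S T : Subgroup Ω} [Finite S] {F : FusionSystem S}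
  {E D : FusionSystem T} {p : ℕ} [Fact p.Prime]

theorem le_of_aut_le (hS : IsPGroup p S) (hE : E.IsWeaklyNormalIn F p)
    (hD : D.IsWeaklyNormalIn F p) (hA : E.autGroup T ≤ D.autGroup T) :
    ∀ P f, Mor E P f → Mor D P f := by
  obtain ⟨hEs, -, hEi⟩ := hE
  obtain ⟨hDs, -, hDi⟩ := hD
  have hTS : T ≤ S := hEi.2.1.1
  haveI := finite_of_le hTS
  have hTp : IsPGroup p T := hS.to_le hTS
  suffices ∀ (m : ℕ) (P : Subgroup Ω) (f : Ω → Ω), Nat.card T - Nat.card P = m → Mor E P f →
      Mor D P f from fun P f hf => this _ P f rfl hf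
  intro m
  induction m using Nat.strong_induction_on with
  | _ m ihm =>
    intro P f hm hf
    have hPT := hf.le
    rcases eq_or_lt_of_le hPT with rfl | hlt
    · have him : im P f = P := hf.im_self fun x hx => hf.apply_mem hx
      obtain ⟨α, hα, he⟩ := hf.exists_aut him
      exact ((mem_autGroup le_rfl).1 (hA hα)).congr he
    obtain ⟨R, hPR, hR⟩ := exists_fullyNormalized (F := E) hPT
    have hbig : ∀ (Q : Subgroup Ω) (g : Ω → Ω), Nat.card R < Nat.card Q → Mor E Q g →
        Mor D Q g := fun Q g hlt hg => ihm _ (by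
      have := Subgroup.card_le_of_le hg.le
      have := FusionSysBasic.isConj_card hPR
      omega) Q g rfl hg
    have hRT : R < T := lt_of_le_of_ne hR.1 fun e => hlt.ne
      (eq_of_le_of_card_ge le_rfl hPT (by rw [FusionSysBasic.isConj_card hPR, e]))
    -- maps to `R` that lie in both systems
    have toR : ∀ Q : Subgroup Ω, E.IsConj Q R → ∃ a, Mor E Q a ∧ Mor D Q a ∧ im Q a = R := by
      intro Q hQ
      obtain ⟨a, ha, -, haim⟩ := exists_map_to_fullyNormalized hTp hEs hR hQ
      have hQT := FusionSysBasic.isConj_left_le hQ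
      refine ⟨a, ha.restrict_to (le_normalizerIn hQT),
        (hbig _ a ?_ ha).restrict_to (le_normalizerIn hQT), haim⟩
      rw [← FusionSysBasic.isConj_card hQ]
      refine FusionSysAlperin.normalizerIn_gt hTp (lt_of_le_of_ne hQT fun e => hRT.ne ?_)
      exact eq_of_le_of_card_ge le_rfl hR.1 (by rw [← FusionSysBasic.isConj_card hQ, e])
    have haut : E.autGroup R ≤ D.autGroup R := by
      haveI := finite_of_le hR.1
      haveI : Finite (MulAut R) :=
        Finite.of_injective (fun β : MulAut R => (β : R → R)) DFunLike.coe_injective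
      let I : Subgroup (MulAut R) := Subgroup.closure
        {γ | ∃ β ∈ E.autGroup R, ∃ t ∈ autInducedBy T R, γ = β * t * β⁻¹}
      have hTI : autInducedBy T R ≤ I := fun t ht =>
        Subgroup.subset_closure ⟨1, one_mem _, t, ht, by simp⟩
      have hIE : I ≤ E.autGroup R := (Subgroup.closure_le _).2 fun γ ⟨β, hβ, t, ht, e⟩ =>
        e ▸ mul_mem (mul_mem hβ (autInducedBy_le hR.1 ht)) (inv_mem hβ)
      have hID : I ≤ D.autGroup R := by
        refine (Subgroup.closure_le _).2 fun γ ⟨β, hβ, t, ht, e⟩ => ?_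
        subst e
        have hβF : Mor F R (afun β) := by
          obtain ⟨φ, hφ, he⟩ := (mem_autGroup hR.1).1 hβ
          exact ⟨φ, hEi.1 R hφ, he⟩
        have h1 := aut_transport hDi hR.1 hβF (im_afun β) (autInducedBy_le (F := D) hR.1 ht)
        rw [SetLike.mem_coe]
        suffices e1 : β * t * β⁻¹ = hβF.transport (im_afun β) t by rw [e1]; exact h1
        refine afun_ext fun y hy => ?_
        conv_rhs => rw [← afun_apply_inv β hy]
        rw [hβF.afun_transport (im_afun β) t (afun_mem β⁻¹ hy), afun_mul _ _ hy,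
          afun_mul _ _ (afun_mem _ hy)]
      have hsyl : SylIn p (autInducedBy T R) I :=
        sylIn_of_le (fullyAutomized_of_fullyNormalized hTp hEs hR).2 hTI hIE
      intro α hα
      obtain ⟨i, hi, hie⟩ := sylIn_absorb hsyl (K := (autInducedBy T R).map (MulAut.conj α).toMonoidHom)
        ((isPGroup_autInducedBy hTp R).map _) (by
          rintro _ ⟨t, ht, rfl⟩
          exact Subgroup.subset_closure ⟨α, hα, t, ht, rfl⟩)
      have hn : i * α ∈ E.autGroup R := mul_mem (hIE hi) hα
      obtain ⟨g, hg, hag⟩ := (receptive_iff.1 (receptive_of_fullyNormalized hTp hEs hR)).2 R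
        (afun (i * α)) (normalizerIn T R) ((mem_autGroup hR.1).1 hn) (im_afun _) inf_le_left
        inf_le_right (by
          intro t ht
          have htm : nHom T R ⟨t, ht⟩ ∈ autInducedBy T R := by
            rw [autInducedBy_eq_range]; exact ⟨_, rfl⟩
          obtain ⟨l, hl, -, hle⟩ := mem_autInducedBy.1
            (hie _ (Subgroup.mem_map_of_mem _ htm))
          refine ⟨l, hl, fun x hx => ?_⟩
          rw [← hle _ (afun_mem _ hx)]
          have e1 : i * α * nHom T R ⟨t, ht⟩ =
              i * (MulAut.conj α (nHom T R ⟨t, ht⟩)) * i⁻¹ * (i * α) := by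
            rw [MulAut.conj_apply]; group
          have e2 := congrArg (fun γ => afun γ x) e1
          simp only [afun_mul _ _ hx] at e2
          rw [afun_nHom _ hx] at e2
          simp only [MulEquiv.coe_toMonoidHom, afun_mul _ _ hx]
          exact e2)
      have hgD := hbig _ g (by
        rw [sup_normalizerIn hR.1]
        exact FusionSysAlperin.normalizerIn_gt hTp hRT) hg
      have hnD : i * α ∈ D.autGroup R :=
        mem_autGroup_of_mor ((hgD.restrict_to le_sup_left).congr hag)
      have := mul_mem (inv_mem (hID hi)) hnD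
      rwa [inv_mul_cancel_left] at this
    obtain ⟨a, ha, haD, haim⟩ := toR P hPR
    obtain ⟨b, hb, hbD, hbim⟩ := toR (im P f) (FusionSysBasic.isConj_trans
      (FusionSysBasic.isConj_symm (FusionSysBasic.isConj_iff.2 ⟨f, hf, rfl⟩)) hPR)
    obtain ⟨ai, hai, haia, -, haimem⟩ := ha.exists_inv
    rw [haim] at hai haimem
    have hc : Mor E R (b ∘ f ∘ ai) :=
      Mor.comp (hai.comp hf haimem) hb fun x hx => apply_mem_im (haimem x hx)
    obtain ⟨γ, hγ, hγe⟩ := hc.exists_aut
      (hc.im_self fun x hx => hbim.le (apply_mem_im (apply_mem_im (haimem x hx))))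
    have hbf : Mor D P (b ∘ f) :=
      (haD.comp ((mem_autGroup hR.1).1 (haut hγ)) fun x hx => haim ▸ apply_mem_im hx).congr
        fun x hx => by
          show afun γ (a x) = b (f x)
          rw [hγe _ (haim ▸ apply_mem_im hx)]
          show b (f (ai (a x))) = _
          rw [haia x hx]
    obtain ⟨bi, hbi, hbib, -, -⟩ := hbD.exists_inv
    exact (hbf.comp hbi fun x hx => apply_mem_im (apply_mem_im hx)).congr
      fun x hx => hbib _ (apply_mem_im hx)

/-- Two weakly normal subsystems over `T` with the same automizer of `T` are equal. -/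
theorem hom_eq_of_aut_eq (hS : IsPGroup p S) (hE : E.IsWeaklyNormalIn F p)
    (hD : D.IsWeaklyNormalIn F p) (hA : E.autGroup T = D.autGroup T) (P : Subgroup Ω) :
    E.Hom P = D.Hom P := by
  have key : ∀ (E' D' : FusionSystem T), (∀ Q f, Mor E' Q f → Mor D' Q f) →
      E'.Hom P ⊆ D'.Hom P := fun E' D' h φ hφ => by
    obtain ⟨ψ, hψ, he⟩ := h P _ (mor_toFun hφ)
    have : ψ = φ := MonoidHom.ext fun x => (he x).trans (toFun_coe φ x)
    exact this ▸ hψ
  exact Set.Subset.antisymm (key E D (le_of_aut_le hS hE hD hA.le))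
    (key D E (le_of_aut_le hS hD hE hA.ge))

end Cfsg.Agent.FusionWeaklyNormalEq
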