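import Mathlib
import Cfsg.Agent.Lib.FusionWeaklyNormalEq
import Cfsg.Agent.Lib.FusionSysGroup
import Cfsg.Agent.Lib.FusionTransport88
import Cfsg.Agent.Lib.HallCore
import Cfsg.Agent.Lib.FusionSmallElements
import Cfsg.Agent.Lib.SylowCount
import Cfsg.Agent.S5118

/-!
Normal subsystems of the fusion system of a constrained group come from normal subgroups.
-/

set_option autoImplicit false

namespace Cfsg.Agent.FusionNormalSubgroups

open Cfsg Cfsg.FusionSystem Cfsg.Agent.FusionSysBasic Cfsg.Agent.FusionSysSaturated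

variable {G : Type*} [Group G] [Finite G] {p : ℕ} [Fact p.Prime]

/-- An element is the product of powers of itself of `p`-power order and of order prime to `p`. -/
theorem exists_parts {X : Type*} [Group X] [Finite X] (x : X) :
    ∃ i j : ℕ, x = x ^ i * x ^ j ∧ (∃ k, orderOf (x ^ i) ∣ p ^ k) ∧
      (orderOf (x ^ j)).Coprime p := by
  obtain ⟨k, m, hm, he⟩ := Nat.exists_eq_pow_mul_and_not_dvd (orderOf_pos x).ne' p
    (Fact.out : p.Prime).one_lt.ne'
  have hcop : m.Coprime (p ^ k) :=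
    (((Fact.out : p.Prime).coprime_iff_not_dvd.2 hm).symm).pow_right k
  obtain ⟨i, hi1, hi2⟩ := Nat.chineseRemainder hcop 0 1
  obtain ⟨j, hj1, hj2⟩ := Nat.chineseRemainder hcop 1 0
  refine ⟨i, j, ?_, ⟨k, orderOf_dvd_of_pow_eq_one ?_⟩, ?_⟩
  · rw [← pow_add]
    conv_lhs => rw [← pow_one x]
    rw [pow_eq_pow_iff_modEq, he, mul_comm]
    exact (Nat.modEq_and_modEq_iff_modEq_mul hcop).1 ⟨(hi1.add hj1).symm, (hi2.add hj2).symm⟩
  · rw [← pow_mul]
    refine orderOf_dvd_iff_pow_eq_one.1 ?_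
    rw [he, mul_comm i]
    exact mul_dvd_mul_left _ (Nat.modEq_zero_iff_dvd.1 hi1)
  · have h1 : orderOf (x ^ j) ∣ m := orderOf_dvd_of_pow_eq_one (by
      rw [← pow_mul]
      refine orderOf_dvd_iff_pow_eq_one.1 ?_
      rw [he]
      exact mul_dvd_mul_right (Nat.modEq_zero_iff_dvd.1 hj2) _)
    exact ((Fact.out : p.Prime).coprime_iff_not_dvd.2 fun hd => hm (hd.trans h1)).symm

theorem eq_one_of_coprime_pow {X : Type*} [Group X] {y : X} {n k : ℕ} (hn : n.Coprime p)
    (h1 : y ^ n = 1) (h2 : y ^ p ^ k = 1) : y = 1 := by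
  have h := pow_gcd_eq_one.mpr ⟨h1, h2⟩
  rwa [(Nat.Coprime.pow_right k hn).gcd_eq_one, pow_one] at h

/-- The statement for a fixed normal subsystem. -/
theorem exists_unique_subgroup (S : Sylow p G)
    (hG : Subgroup.centralizer ((Cfsg.pCore p G : Subgroup G) : Set G) ≤ Cfsg.pCore p G)
    (T : Subgroup G) (hTS : T ≤ S) (E : Cfsg.FusionSystem T)
    (hE : E.IsNormalIn (Cfsg.groupFusionSystem (S : Subgroup G)) p) :
    ∃ H : Subgroup G, (∃ hTH : T ≤ H, H.Normal ∧ (∃ R : Sylow p H, (R : Subgroup H) = T.subgroupOf H) ∧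
      ∀ P : Subgroup G, E.Hom P = (Cfsg.fusionSystemOfSubgroup H T hTH).Hom P) ∧
      ∀ H' : Subgroup G, (∃ hTH' : T ≤ H', H'.Normal ∧
        (∃ R : Sylow p H', (R : Subgroup H') = T.subgroupOf H') ∧
        ∀ P : Subgroup G, E.Hom P = (Cfsg.fusionSystemOfSubgroup H' T hTH').Hom P) → H' = H := by
  classical
  obtain ⟨hEw, hext⟩ := hE
  obtain ⟨hEs, hFs, hEi⟩ := hEw
  set F := Cfsg.groupFusionSystem (S : Subgroup G) with hFdef
  have hTp : IsPGroup p T := S.2.to_le hTS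
  -- `T` is strongly closed
  have hcl : ∀ g x : G, x ∈ T → cj g x ∈ (S : Subgroup G) → cj g x ∈ T := by
    intro g x hx hgx
    refine (FusionSysNormal.stronglyClosed_iff.1 hEi.2.1).2 (Subgroup.zpowers x) (cj g)
      (Subgroup.zpowers_le.2 hx) (FusionSysGroup.mor_group_iff.2 ⟨Subgroup.zpowers_le.2 (hTS hx),
        g, fun _ _ => rfl, ?_⟩) x (Subgroup.mem_zpowers x)
    rintro y ⟨n, rfl⟩
    have : cj g (x ^ n) = (cj g x) ^ n := (map_zpow (MulAut.conj g) x n)
    rw [this]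
    exact Subgroup.zpow_mem _ hgx n
  have hTnS : ∀ s ∈ (S : Subgroup G), ∀ x ∈ T, cj s x ∈ T := fun s hs x hx =>
    hcl s x hx ((S : Subgroup G).mul_mem ((S : Subgroup G).mul_mem hs (hTS hx))
      ((S : Subgroup G).inv_mem hs))
  -- the core
  set Q : Subgroup G := Cfsg.pCore p G with hQdef
  haveI hQn : Q.Normal := HallCore.pCore_normal p G
  have hQp : IsPGroup p Q := HallCore.isPGroup_pCore p G
  have hQS : Q ≤ (S : Subgroup G) := hQp.le_sylow_of_normal S
  set Q₀ : Subgroup G := Q ⊓ T with hQ₀def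
  have hQ₀cl : ∀ g x : G, x ∈ Q₀ → cj g x ∈ Q₀ := fun g x hx =>
    ⟨hQn.conj_mem x hx.1 g, hcl g x hx.2 (hQS (hQn.conj_mem x hx.1 g))⟩
  haveI hQ₀n : Q₀.Normal := ⟨fun x hx g => hQ₀cl g x hx⟩
  have hQ₀T : Q₀ ≤ T := inf_le_right
  have hmorS : ∀ (P : Subgroup G) (g : G), P ≤ (S : Subgroup G) →
      (∀ x ∈ P, cj g x ∈ (S : Subgroup G)) → Mor F P (cj g) := fun P g hP h =>
    FusionSysGroup.mor_group_iff.2 ⟨hP, g, fun _ _ => rfl, h⟩
  -- the automizer of `Q₀`
  let A : Subgroup (MulAut Q₀) := E.autGroup Q₀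
  have hAn : ∀ (g : G), ∀ a ∈ A, ∃ b ∈ A, ∀ x ∈ Q₀, afun b x = cj g (afun a (cj g⁻¹ x)) := by
    intro g a ha
    have hφ : Mor F Q₀ (cj g) :=
      hmorS _ g (hQ₀T.trans hTS) fun x hx => hTS (hQ₀T (hQ₀cl g x hx))
    have him : im Q₀ (cj g) = Q₀ := hφ.im_self fun x hx => hQ₀cl g x hx
    refine ⟨_, FusionWeaklyNormal88.aut_transport hEi hQ₀T hφ him ha, fun x hx => ?_⟩
    conv_lhs => rw [← cj_cj_inv g x]
    rw [hφ.afun_transport him a (hQ₀cl g⁻¹ x hx)]
  -- the group `M`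
  let M : Subgroup G :=
    { carrier := {g | (∀ q ∈ Q, q⁻¹ * cj g q ∈ Q₀) ∧ ∃ a ∈ A, ∀ x ∈ Q₀, afun a x = cj g x}
      one_mem' := ⟨fun q _ => by rw [cj_one, inv_mul_cancel]; exact one_mem _,
        1, one_mem _, fun x hx => by rw [afun_one hx, cj_one]⟩
      mul_mem' := by
        rintro g h ⟨hg, a, ha, hae⟩ ⟨hh, b, hb, hbe⟩
        refine ⟨fun q hq => ?_, a * b, mul_mem ha hb, fun x hx => ?_⟩
        · have h1 := hg (cj h q) (hQn.conj_mem q hq h)
          rw [cj_cj] at h1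
          have := Q₀.mul_mem (hh q hq) h1
          simpa [mul_assoc] using this
        · rw [afun_mul _ _ hx, hbe x hx, hae _ (hQ₀cl h x hx), cj_cj]
      inv_mem' := by
        rintro g ⟨hg, a, ha, hae⟩
        refine ⟨fun q hq => ?_, a⁻¹, inv_mem ha, fun x hx => ?_⟩
        · have h1 := Q₀.inv_mem (hg (cj g⁻¹ q) (hQn.conj_mem q hq g⁻¹))
          rw [cj_cj_inv] at h1
          simpa [mul_assoc] using h1
        · conv_lhs => rw [← cj_cj_inv g x, ← hae _ (hQ₀cl g⁻¹ x hx)]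
          exact afun_inv_apply a (hQ₀cl g⁻¹ x hx) }
  haveI hMn : M.Normal := by
    refine ⟨fun m ⟨hm, a, ha, hae⟩ g => ⟨fun q hq => ?_, ?_⟩⟩
    · have h1 := hQ₀cl g _ (hm (cj g⁻¹ q) (hQn.conj_mem q hq g⁻¹))
      simp only [cj_apply] at h1 ⊢
      convert h1 using 1
      group
    · obtain ⟨b, hb, hbe⟩ := hAn g a ha
      refine ⟨b, hb, fun x hx => ?_⟩
      rw [hbe x hx, hae _ (hQ₀cl g⁻¹ x hx), cj_cj, cj_cj]
  have hTM : T ≤ M := fun t ht => by
    refine ⟨fun q hq => ⟨Q.mul_mem (Q.inv_mem hq) (hQn.conj_mem q hq t), ?_⟩, ?_⟩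
    · have := T.mul_mem (hTnS q⁻¹ (inv_mem (hQS hq)) t ht) (T.inv_mem ht)
      show q⁻¹ * cj t q ∈ T
      simpa [cj_apply, mul_assoc] using this
    · have htn : t ∈ Subgroup.normalizer (Q₀ : Set G) := by
        rw [Subgroup.normalizer_eq_top]; trivial
      exact ⟨nHom T Q₀ ⟨t, ht, htn⟩, autInducedBy_le hQ₀T (mem_autInducedBy.2
        ⟨t, ht, htn, fun x hx => afun_nHom _ hx⟩), fun x hx => afun_nHom _ hx⟩
  -- its part centralizing `Q₀`
  haveI : Finite G := inferInstance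
  let π := QuotientGroup.mk' Q₀
  have hπ : ∀ a b : G, a⁻¹ * b ∈ Q₀ → π a = π b := fun a b h => QuotientGroup.eq.2 h
  set Ker : Subgroup G := M ⊓ Subgroup.centralizer (Q₀ : Set G) with hKdef
  haveI : (Subgroup.centralizer (Q₀ : Set G)).Normal := Subgroup.normal_centralizer
  haveI : Ker.Normal := Subgroup.normal_inf_normal _ _
  have hKp : IsPGroup p Ker := by
    have hone : ∀ g ∈ Ker, (orderOf g).Coprime p → g = 1 := by
      intro g hg hc
      have hfix : ∀ q ∈ Q, cj g q = q := by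
        intro q hq
        set u := q⁻¹ * cj g q with hu
        have hu0 : u ∈ Q₀ := hg.1.1 q hq
        have hgu : cj g u = u := by
          rw [cj_apply, ← Subgroup.mem_centralizer_iff.1 hg.2 u hu0, mul_inv_cancel_right]
        have hit : ∀ n : ℕ, cj (g ^ n) q = q * u ^ n := by
          intro n
          induction n with
          | zero => simp [cj_one]
          | succ n ih =>
            rw [pow_succ', ← cj_cj, ih]
            have e1 : cj g (q * u ^ n) = cj g q * cj g u ^ n := by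
              show MulAut.conj g (q * u ^ n) = MulAut.conj g q * MulAut.conj g u ^ n
              rw [map_mul, map_pow]
            rw [e1, hgu, pow_succ', ← mul_assoc, hu, mul_inv_cancel_left]
        have h1 := hit (orderOf g)
        rw [pow_orderOf_eq_one, cj_one, left_eq_mul] at h1
        obtain ⟨k, hk⟩ := hQp ⟨u, hu0.1⟩
        have h2 : u = 1 := eq_one_of_coprime_pow hc h1 (by simpa [Subtype.ext_iff] using hk)
        rw [hu, inv_mul_eq_one] at h2
        exact h2.symm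
      have hgQ : g ∈ Q := hG (Subgroup.mem_centralizer_iff.2 fun q hq => by
        have := hfix q hq
        rw [cj_apply, mul_inv_eq_iff_eq_mul] at this
        exact this.symm)
      obtain ⟨k, hk⟩ := hQp ⟨g, hgQ⟩
      exact eq_one_of_coprime_pow hc (pow_orderOf_eq_one g) (by simpa [Subtype.ext_iff] using hk)
    exact FusionSmallElements.isPGroup_of_coprime_trivial Ker hone
  have hKQ : Ker ≤ Q := HallCore.le_pCore hKp
  -- `S ⊓ M = T Ker`
  have hsylA : SylIn p (autInducedBy T Q₀) A := by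
    have hn : E.IsFullyNormalized Q₀ := by
      refine ⟨hQ₀T, fun R hR => ?_⟩
      obtain ⟨f, hf, him⟩ := FusionSysBasic.isConj_iff.1 hR
      have : R = Q₀ := by
        obtain ⟨φ, hφ, he⟩ := id hf
        obtain ⟨-, -, g, hg⟩ := hEi.1 _ hφ
        rw [← him, hf.im_self fun x hx => ?_]
        rw [← he ⟨x, hx⟩, hg]
        exact hQ₀cl g x hx
      rw [this]
    exact (fullyAutomized_of_fullyNormalized hTp hEs hn).2
  haveI : Finite (MulAut Q₀) :=
    Finite.of_injective (fun β : MulAut Q₀ => (β : Q₀ → Q₀)) DFunLike.coe_injective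
  have hdec : ∀ s ∈ (S : Subgroup G), s ∈ M → ∃ t ∈ T, t⁻¹ * s ∈ Ker := by
    intro s hs hsM
    obtain ⟨-, a, ha, hae⟩ := id hsM
    have hsn : s ∈ Subgroup.normalizer (Q₀ : Set G) := by
      rw [Subgroup.normalizer_eq_top]; trivial
    set I : Subgroup (MulAut Q₀) := autInducedBy (S : Subgroup G) Q₀ ⊓ A
    have hTI : autInducedBy T Q₀ ≤ I := le_inf (fun γ hγ => by
      obtain ⟨t, ht, htn, he⟩ := mem_autInducedBy.1 hγ
      exact mem_autInducedBy.2 ⟨t, hTS ht, htn, he⟩) (autInducedBy_le hQ₀T)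
    have hIp : IsPGroup p I := (isPGroup_autInducedBy S.2 Q₀).to_le inf_le_left
    have hIeq : autInducedBy T Q₀ = I := by
      refine Subgroup.eq_of_le_of_card_ge hTI ?_
      rw [(sylIn_iff_card (autInducedBy_le hQ₀T)).1 hsylA]
      exact FusionSysGroup.card_le_pow_factorization hIp inf_le_right
    have haI : a ∈ I := ⟨mem_autInducedBy.2 ⟨s, hs, hsn, hae⟩, ha⟩
    rw [← hIeq] at haI
    obtain ⟨t, ht, -, hte⟩ := mem_autInducedBy.1 haI
    refine ⟨t, ht, M.mul_mem (M.inv_mem (hTM ht)) hsM, Subgroup.mem_centralizer_iff.2 fun x hx => ?_⟩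
    have h1 : cj (t⁻¹ * s) x = x := by rw [← cj_cj, ← hae x hx, hte x hx, cj_inv_cj]
    rw [cj_apply, mul_inv_eq_iff_eq_mul] at h1
    exact h1.symm
  -- transfer to `(S ⊓ M) / T`
  let U : Subgroup M := (SylowCount.infSylow S M : Subgroup M)
  have hUS : ∀ u : U, ((u : M) : G) ∈ (S : Subgroup G) := fun u => (u.2 : ((u : M) : G) ∈ (S : Subgroup G) ⊓ M).1
  let N : Subgroup U := (T.subgroupOf M).subgroupOf U
  have hmemN : ∀ u : U, u ∈ N ↔ ((u : M) : G) ∈ T := fun u => Iff.rfl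
  haveI : N.Normal := ⟨fun n hn u => hTnS _ (hUS u) _ hn⟩
  have hcomm : ∀ a b : U ⧸ N, a * b = b * a := by
    intro a b
    induction a using QuotientGroup.induction_on with | H a => ?_
    induction b using QuotientGroup.induction_on with | H b => ?_
    obtain ⟨t, ht, hk⟩ := hdec _ (hUS a) (a : M).2
    obtain ⟨t', ht', hk'⟩ := hdec _ (hUS b) (b : M).2
    let k : U := ⟨⟨t⁻¹ * ((a : M) : G), hk.1⟩,
      ⟨(S : Subgroup G).mul_mem ((S : Subgroup G).inv_mem (hTS ht)) (hUS a), hk.1⟩⟩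
    let k' : U := ⟨⟨t'⁻¹ * ((b : M) : G), hk'.1⟩,
      ⟨(S : Subgroup G).mul_mem ((S : Subgroup G).inv_mem (hTS ht')) (hUS b), hk'.1⟩⟩
    have eq1 : ∀ (x : U) (y : G), y ∈ T → ∀ hy : y⁻¹ * ((x : M) : G) ∈ M,
        ∀ hy' : (⟨_, hy⟩ : M) ∈ U, ((x : U) : U ⧸ N) = ((⟨⟨_, hy⟩, hy'⟩ : U) : U ⧸ N) := by
      intro x y hy hy1 hy2
      refine QuotientGroup.eq.2 ((hmemN _).2 ?_)
      show ((x : M) : G)⁻¹ * (y⁻¹ * ((x : M) : G)) ∈ T
      have := hTnS _ (inv_mem (hUS x)) _ (T.inv_mem hy)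
      simpa [cj_apply, mul_assoc] using this
    rw [eq1 a t ht hk.1 k.2, eq1 b t' ht' hk'.1 k'.2, ← QuotientGroup.mk_mul,
      ← QuotientGroup.mk_mul]
    refine QuotientGroup.eq.2 ((hmemN _).2 ?_)
    have h1 := hQ₀T (hk.1.1 _ (hKQ (inv_mem hk')))
    show (t⁻¹ * ((a : M) : G) * (t'⁻¹ * ((b : M) : G)))⁻¹ *
      (t'⁻¹ * ((b : M) : G) * (t⁻¹ * ((a : M) : G))) ∈ T
    have h2 := hTnS _ (inv_mem ((S : Subgroup G).mul_mem
      ((S : Subgroup G).mul_mem ((S : Subgroup G).inv_mem (hTS ht')) (hUS b))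
      ((S : Subgroup G).mul_mem ((S : Subgroup G).inv_mem (hTS ht)) (hUS a)))) _ h1
    convert h2 using 1
    simp only [cj_apply]
    group
  letI : CommGroup (U ⧸ N) := { (inferInstance : Group (U ⧸ N)) with mul_comm := hcomm }
  let φ : U →* U ⧸ N := QuotientGroup.mk' N
  haveI : U.FiniteIndex := Subgroup.finiteIndex_of_finite_quotient
  let τ : M →* U ⧸ N := MonoidHom.transfer φ
  have hUp : IsPGroup p (U ⧸ N) :=
    ((SylowCount.infSylow S M).2).of_surjective φ (QuotientGroup.mk'_surjective N)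
  have hτT : ∀ m : M, (m : G) ∈ T → τ m = 1 := by
    intro m hm
    show MonoidHom.transfer φ m = 1
    haveI := Fintype.ofFinite (Quotient (MulAction.orbitRel (Subgroup.zpowers m) (M ⧸ U)))
    rw [MonoidHom.transfer_eq_prod_quotient_orbitRel_zpowers_quot]
    refine Finset.prod_eq_one fun c _ => (QuotientGroup.eq_one_iff _).2 ((hmemN _).2 ?_)
    have h1 := hcl ((c.out.out : M) : G)⁻¹
      ((m ^ Function.minimalPeriod (m • ·) c.out : M) : G) (by simpa using T.pow_mem hm _)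
    simp only [cj_apply, inv_inv] at h1
    exact h1 (hUS ⟨_, QuotientGroup.out_conj_pow_minimalPeriod_mem U m c.out⟩)
  have hKU : ∀ m : M, (m : G) ∈ Ker → m ∈ U := fun m hm => ⟨hQS (hKQ hm), m.2⟩
  have hτK : ∀ m : M, ∀ hm : (m : G) ∈ Ker, τ m = φ ⟨m, hKU m hm⟩ ^ U.index := by
    intro m hm
    show MonoidHom.transfer φ m = _
    haveI := Fintype.ofFinite (Quotient (MulAction.orbitRel (Subgroup.zpowers m) (M ⧸ U)))
    rw [MonoidHom.transfer_eq_prod_quotient_orbitRel_zpowers_quot,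
      Subgroup.index_eq_sum_minimalPeriod U m, ← Finset.prod_pow_eq_pow_sum]
    refine Finset.prod_congr rfl fun c _ => ?_
    rw [← map_pow]
    refine QuotientGroup.eq.2 ((hmemN _).2 (hQ₀T ?_))
    set g : M := c.out.out
    set n := Function.minimalPeriod (m • ·) c.out
    have hmn : (m : G) ^ n ∈ Ker := Ker.pow_mem hm n
    have h1 := (inv_mem g.2 : (g : G)⁻¹ ∈ M).1 _ (hKQ hmn)
    simp only [cj_apply, inv_inv] at h1
    have h2 := Q₀.inv_mem h1
    show ((g⁻¹ * m ^ n * g : M) : G)⁻¹ * ((m : G) ^ n) ∈ Q₀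
    push_cast
    simpa [mul_assoc] using h2
  have hτc : ∀ m : M, (orderOf m).Coprime p → τ m = 1 := fun m hm => by
    obtain ⟨k, hk⟩ := hUp (τ m)
    exact eq_one_of_coprime_pow hm (by rw [← map_pow, pow_orderOf_eq_one, map_one]) hk
  set H : Subgroup G := τ.ker.map M.subtype with hHdef
  have hmemH : ∀ x, x ∈ H ↔ ∃ hx : x ∈ M, τ ⟨x, hx⟩ = 1 := by
    intro x
    constructor
    · rintro ⟨m, hm, rfl⟩
      exact ⟨m.2, hm⟩
    · rintro ⟨hx, he⟩
      exact ⟨⟨x, hx⟩, he, rfl⟩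
  have hTH : T ≤ H := fun t ht => (hmemH t).2 ⟨hTM ht, hτT _ ht⟩
  have hSH : ∀ x ∈ H, x ∈ (S : Subgroup G) → x ∈ T := by
    intro x hx hxS
    obtain ⟨hxM, hxτ⟩ := (hmemH x).1 hx
    obtain ⟨t, ht, hk⟩ := hdec x hxS hxM
    let k : M := ⟨t⁻¹ * x, hk.1⟩
    have h1 : τ k = 1 := by
      have : k = (⟨t, hTM ht⟩ : M)⁻¹ * ⟨x, hxM⟩ := rfl
      rw [this, map_mul, map_inv, hτT _ ht, hxτ, inv_one, one_mul]
    rw [hτK k hk] at h1
    obtain ⟨i, hi⟩ := hUp (φ ⟨k, hKU k hk⟩)
    have hU : ¬ p ∣ U.index := (SylowCount.infSylow S M).not_dvd_index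
    have h2 := eq_one_of_coprime_pow ((Fact.out : p.Prime).coprime_iff_not_dvd.2 hU).symm h1 hi
    have h3 : t⁻¹ * x ∈ T := (hmemN _).1 ((QuotientGroup.eq_one_iff _).1 h2)
    simpa using T.mul_mem ht h3
  -- `p`-elements of `M`
  have hconjS : ∀ x, x ∈ M → (∃ k, orderOf x ∣ p ^ k) → ∃ m ∈ M, cj m x ∈ (S : Subgroup G) := by
    intro x hx ⟨k, hk⟩
    have hXp : IsPGroup p (Subgroup.zpowers (⟨x, hx⟩ : M)) := by
      obtain ⟨i, -, hi⟩ := (Nat.dvd_prime_pow (Fact.out : p.Prime)).1 hk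
      exact IsPGroup.of_card (n := i) (by rw [Nat.card_zpowers, Subgroup.orderOf_mk, hi])
    obtain ⟨P, hP⟩ := hXp.exists_le_sylow
    obtain ⟨m, hm⟩ := MulAction.exists_smul_eq M P (SylowCount.infSylow S M)
    refine ⟨m, m.2, ?_⟩
    have h1 : m * ⟨x, hx⟩ * m⁻¹ ∈ ((m • P : Sylow p M) : Subgroup M) :=
      Subgroup.mem_map.2 ⟨⟨x, hx⟩, hP (Subgroup.mem_zpowers _), by
        simp [MulDistribMulAction.toMonoidEnd_apply]⟩
    rw [hm] at h1
    exact (h1 : (m : G) * x * (m : G)⁻¹ ∈ (S : Subgroup G) ⊓ M).1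
  have hHM : H ≤ M := fun x hx => ((hmemH x).1 hx).1
  have hHconjM : ∀ m ∈ M, ∀ x ∈ H, cj m x ∈ H := by
    intro m hm x hx
    obtain ⟨hxM, hxτ⟩ := (hmemH x).1 hx
    refine (hmemH _).2 ⟨M.mul_mem (M.mul_mem hm hxM) (M.inv_mem hm), ?_⟩
    show τ (⟨m, hm⟩ * ⟨x, hxM⟩ * (⟨m, hm⟩ : M)⁻¹) = 1
    rw [map_mul, map_mul, map_inv, hxτ, mul_one, mul_inv_cancel]
  haveI hHn : H.Normal := by
    refine ⟨fun x hx g => ?_⟩
    obtain ⟨i, j, hxe, ⟨k, hk⟩, hj⟩ := exists_parts (p := p) x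
    have hpart : ∀ y ∈ H, (orderOf y).Coprime p → g * y * g⁻¹ ∈ H := fun y hy hc => by
      have hyM : g * y * g⁻¹ ∈ M := hMn.conj_mem y (hHM hy) g
      refine (hmemH _).2 ⟨hyM, hτc _ ?_⟩
      rw [Subgroup.orderOf_mk, show orderOf (g * y * g⁻¹) = orderOf y from
        orderOf_injective (MulAut.conj g).toMonoidHom (MulAut.conj g).injective y]
      exact hc
    have hp' : ∀ y ∈ H, (∃ k, orderOf y ∣ p ^ k) → g * y * g⁻¹ ∈ H := fun y hy hyp => by
      obtain ⟨m, hm, hmS⟩ := hconjS y (hHM hy) hyp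
      have hyT := hSH _ (hHconjM m hm y hy) hmS
      have hyM : g * y * g⁻¹ ∈ M := hMn.conj_mem y (hHM hy) g
      obtain ⟨n, hn, hnS⟩ := hconjS _ hyM (by
        rwa [show orderOf (g * y * g⁻¹) = orderOf y from
          orderOf_injective (MulAut.conj g).toMonoidHom (MulAut.conj g).injective y])
      have e1 : cj n (g * y * g⁻¹) = cj (n * g * m⁻¹) (cj m y) := by simp [cj_apply, mul_assoc]
      have h2 : cj n (g * y * g⁻¹) ∈ T := by
        rw [e1] at hnS ⊢
        exact hcl _ _ hyT hnS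
      have h3 := hHconjM n⁻¹ (M.inv_mem hn) _ (hTH h2)
      rwa [cj_inv_cj] at h3
    rw [hxe]
    have := H.mul_mem (hp' _ (H.pow_mem hx i) ⟨k, hk⟩) (hpart _ (H.pow_mem hx j) hj)
    simpa [mul_assoc] using this
  have hSHeq : (S : Subgroup G) ⊓ H = T :=
    le_antisymm (fun x hx => hSH x hx.2 hx.1) (le_inf hTS hTH)
  have hsylH : ∃ R : Sylow p H, (R : Subgroup H) = T.subgroupOf H :=
    ⟨SylowCount.infSylow S H, by rw [← hSHeq]; rfl⟩
  have hDw : (Cfsg.fusionSystemOfSubgroup H T hTH).IsWeaklyNormalIn F p := by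
    have key : ∀ (U : Subgroup G) (hU : U ≤ H), U = (S : Subgroup G) ⊓ H →
        (Cfsg.fusionSystemOfSubgroup H U hU).IsWeaklyNormalIn F p := by
      rintro U hU rfl
      exact (S5118.result p S H).1
    exact key T hTH hSHeq.symm
  -- lifting automorphisms of `T`
  haveI := FusionSysBasic.finite_of_le (S := (S : Subgroup G)) hTS
  haveI : Finite (MulAut T) :=
    Finite.of_injective (fun β : MulAut T => (β : T → T)) DFunLike.coe_injective
  have hsylT : SylIn p (autInducedBy T T) (E.autGroup T) :=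
    (fullyAutomized_of_fullyNormalized hTp hEs fullyNormalized_self).2
  have hinner : ∀ γ ∈ E.autGroup T, (∃ k, orderOf γ ∣ p ^ k) → γ ∈ Inn T := by
    intro γ hγ ⟨k, hk⟩
    have hγp : IsPGroup p (Subgroup.zpowers γ) := by
      obtain ⟨i, -, hi⟩ := (Nat.dvd_prime_pow (Fact.out : p.Prime)).1 hk
      exact IsPGroup.of_card (n := i) (by rw [Nat.card_zpowers, hi])
    obtain ⟨b, -, hb⟩ := sylIn_absorb hsylT hγp (Subgroup.zpowers_le.2 hγ)
    have h1 := hb γ (Subgroup.mem_zpowers γ)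
    rw [autInducedBy_self] at h1
    have := (inferInstance : (Inn T).Normal).conj_mem _ h1 b⁻¹
    simpa [mul_assoc] using this
  have hlift : ∀ α ∈ E.autGroup T, (orderOf α).Coprime p →
      ∃ g ∈ H, ∀ x ∈ T, cj g x = afun α x := by
    intro α hα hc
    obtain ⟨β, hβ, hβT, hβC⟩ := hext α hα
    have hTC : T ⊔ centralizerIn (S : Subgroup G) T ≤ (S : Subgroup G) := sup_le hTS inf_le_left
    obtain ⟨g₀, -, -, hg₀⟩ :=
      mem_autInducedBy.1 ((FusionSysGroup.mem_autGroup_group hTC).1 hβ)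
    have hg₀T : ∀ x ∈ T, cj g₀ x = afun α x := fun x hx => by
      rw [← hg₀ x (Subgroup.mem_sup_left hx), afun_apply β (Subgroup.mem_sup_left hx),
        afun_apply α hx]
      exact hβT ⟨x, hx⟩
    have hg₀C : ∀ c ∈ centralizerIn (S : Subgroup G) T,
        c⁻¹ * cj g₀ c ∈ T ⊓ Subgroup.centralizer (T : Set G) := fun c hc => by
      rw [← hg₀ c (Subgroup.mem_sup_right hc), afun_apply β (Subgroup.mem_sup_right hc)]
      exact hβC ⟨c, Subgroup.mem_sup_right hc⟩ hc
    have hpowT : ∀ n : ℕ, ∀ x ∈ T, cj (g₀ ^ n) x = afun (α ^ n) x := by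
      intro n
      induction n with
      | zero => intro x hx; rw [pow_zero, pow_zero, cj_one, afun_one hx]
      | succ n ih =>
        intro x hx
        rw [pow_succ, pow_succ, ← cj_cj, hg₀T x hx, ih _ (afun_mem α hx), ← afun_mul _ _ hx]
    have hpowC : ∀ n : ℕ, ∀ c ∈ centralizerIn (S : Subgroup G) T,
        c⁻¹ * cj (g₀ ^ n) c ∈ T ⊓ Subgroup.centralizer (T : Set G) := by
      intro n
      induction n with
      | zero => intro c _; rw [pow_zero, cj_one, inv_mul_cancel]; exact one_mem _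
      | succ n ih =>
        intro c hc
        set z := c⁻¹ * cj g₀ c with hz
        have hzZ := hg₀C c hc
        have hzimg : cj (g₀ ^ n) z ∈ T ⊓ Subgroup.centralizer (T : Set G) := by
          refine ⟨by rw [hpowT n z hzZ.1]; exact afun_mem _ hzZ.1, ?_⟩
          show cj (g₀ ^ n) z ∈ Subgroup.centralizer (T : Set G)
          rw [Subgroup.mem_centralizer_iff]
          intro y hy
          obtain ⟨y', hy', rfl⟩ : ∃ y' ∈ T, cj (g₀ ^ n) y' = y :=
            ⟨afun (α ^ n)⁻¹ y, afun_mem _ hy, by rw [hpowT n _ (afun_mem _ hy), afun_apply_inv _ hy]⟩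
          show MulAut.conj (g₀ ^ n) y' * MulAut.conj (g₀ ^ n) z = _
          rw [← map_mul, Subgroup.mem_centralizer_iff.1 hzZ.2 y' hy', map_mul]
          rfl
        have e1 : c⁻¹ * cj (g₀ ^ (n + 1)) c = c⁻¹ * cj (g₀ ^ n) c * cj (g₀ ^ n) z := by
          rw [hz, pow_succ]
          simp only [cj_apply]
          group
        rw [e1]
        exact Subgroup.mul_mem _ (ih c hc) hzimg
    obtain ⟨i, j, hge, ⟨k, hk⟩, hj⟩ := exists_parts (p := p) g₀
    set g := g₀ ^ j with hgdef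
    have hgT : ∀ x ∈ T, cj g x = afun α x := by
      intro x hx
      have h1 : α = α ^ i * α ^ j := by
        refine afun_ext fun y hy => ?_
        rw [← pow_add, ← hpowT _ y hy, pow_add, ← hge, hg₀T y hy]
      have h2 : α ^ i = 1 := by
        refine afun_ext fun y hy => ?_
        have h3 : (α ^ i) ^ p ^ k = 1 := by
          refine afun_ext fun z hz => ?_
          rw [← pow_mul, ← hpowT _ z hz, pow_mul, orderOf_dvd_iff_pow_eq_one.1 hk, cj_one,
            afun_one hz]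
        have h4 : (α ^ i) ^ orderOf α = 1 := by
          rw [← pow_mul, mul_comm, pow_mul, pow_orderOf_eq_one, one_pow]
        rw [eq_one_of_coprime_pow hc h4 h3]
      rw [h2, one_mul] at h1
      rw [hpowT j x hx, ← h1]
    have hgC := hpowC j
    rw [← hgdef] at hgC
    have hgQ₀ : ∀ x ∈ Q₀, cj g x ∈ Q₀ := fun x hx => hQ₀cl g x hx
    have hgM : g ∈ M := by
      refine ⟨fun q hq => ?_, ?_⟩
      · set u := q⁻¹ * cj g q with hu
        have huQ : u ∈ Q := Q.mul_mem (Q.inv_mem hq) (hQn.conj_mem q hq g)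
        have hqn : ∀ x ∈ (S : Subgroup G), x ∈ Subgroup.normalizer (T : Set G) :=
          fun x hx => mem_normalizer_of_cj_le hTS (hTnS x hx)
        have hqm : Mor F T (cj q⁻¹) :=
          hmorS T _ hTS fun x hx => hTS (hTnS _ (inv_mem (hQS hq)) x hx)
        have him : im T (cj q⁻¹) = T := hqm.im_self fun x hx => hTnS _ (inv_mem (hQS hq)) x hx
        have hb := mul_mem (FusionWeaklyNormal88.aut_transport hEi le_rfl hqm him hα) (inv_mem hα)
        set γ := hqm.transport him α * α⁻¹ with hγ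
        have hγu : γ = nHom (S : Subgroup G) T ⟨u, hQS huQ, hqn u (hQS huQ)⟩ := by
          refine afun_ext fun y hy => ?_
          have hy' := afun_mem α⁻¹ hy
          have hmem : cj q (afun α⁻¹ y) ∈ T := hTnS q (hQS hq) _ hy'
          rw [hγ, afun_mul _ _ hy, afun_nHom _ hy]
          conv_lhs => rw [← cj_inv_cj q (afun α⁻¹ y)]
          rw [hqm.afun_transport him α hmem, ← hgT _ hmem]
          have e2 : afun α⁻¹ y = cj g⁻¹ y := by
            conv_rhs => rw [← afun_apply_inv α hy, ← hgT _ hy']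
            rw [cj_inv_cj]
          rw [e2]
          show _ = cj u y
          simp only [hu, cj_apply]
          group
        have hγI : γ ∈ Inn T := hinner γ hb (by
          obtain ⟨i, hi⟩ := isPGroup_autInducedBy S.2 T ⟨γ, hγu ▸ mem_autInducedBy.2
            ⟨u, hQS huQ, hqn u (hQS huQ), fun x hx => afun_nHom _ hx⟩⟩
          exact ⟨i, orderOf_dvd_of_pow_eq_one (congrArg Subtype.val hi)⟩)
        rw [← autInducedBy_self, mem_autInducedBy] at hγI
        obtain ⟨t, ht, -, hte⟩ := hγI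
        set c := t⁻¹ * u with hcdef
        have hcC : c ∈ centralizerIn (S : Subgroup G) T := mem_centralizerIn.2
          ⟨(S : Subgroup G).mul_mem ((S : Subgroup G).inv_mem (hTS ht)) (hQS huQ), fun y hy => by
            have h1 := hte y hy
            rw [hγu, afun_nHom _ hy] at h1
            rw [hcdef, ← cj_cj, h1, cj_inv_cj]⟩
        have hu1 : u⁻¹ * cj g u ∈ Q₀ := by
          refine ⟨Q.mul_mem (Q.inv_mem huQ) (hQn.conj_mem u huQ g), ?_⟩
          have hgt : t⁻¹ * cj g t ∈ T := T.mul_mem (T.inv_mem ht) (hgT t ht ▸ afun_mem α ht)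
          have h1 := T.mul_mem hgt (hgC c hcC).1
          have h2 : cj c⁻¹ (t⁻¹ * cj g t) = t⁻¹ * cj g t := by
            have := (mem_centralizerIn.1 hcC).2 _ hgt
            conv_lhs => rw [← this]
            rw [cj_inv_cj]
          show u⁻¹ * cj g u ∈ T
          have e3 : u⁻¹ * cj g u = cj c⁻¹ (t⁻¹ * cj g t) * (c⁻¹ * cj g c) := by
            rw [hcdef]
            simp only [cj_apply]
            group
          rw [e3, h2]
          exact h1
        have hit : ∀ n : ℕ, π (cj (g ^ n) u) = π u ∧ π (cj (g ^ n) q) = π q * π u ^ n := by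
          intro n
          induction n with
          | zero => simp [cj_one]
          | succ n ih =>
            have e1 : ∀ x, cj (g ^ (n + 1)) x = cj (g ^ n) (cj g x) := fun x => by
              rw [pow_succ, cj_cj]
            have e2 : cj g u = u * (u⁻¹ * cj g u) := by rw [mul_inv_cancel_left]
            have e3 : cj g q = q * u := by rw [hu, mul_inv_cancel_left]
            have hm : ∀ a b, cj (g ^ n) (a * b) = cj (g ^ n) a * cj (g ^ n) b := fun a b =>
              map_mul (MulAut.conj (g ^ n)) a b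
            refine ⟨?_, ?_⟩
            · rw [e1, e2, hm, map_mul, ih.1]
              have : π (cj (g ^ n) (u⁻¹ * cj g u)) = 1 :=
                (QuotientGroup.eq_one_iff _).2 (hQ₀cl _ _ hu1)
              rw [this, mul_one]
            · rw [e1, e3, hm, map_mul, ih.1, ih.2, pow_succ, mul_assoc]
        have h1 := (hit (orderOf g)).2
        rw [pow_orderOf_eq_one, cj_one, left_eq_mul] at h1
        obtain ⟨i, hi⟩ := hQp ⟨u, huQ⟩
        have h2 := eq_one_of_coprime_pow (y := π u) hj h1 (by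
          rw [← map_pow, show u ^ p ^ i = 1 from congrArg Subtype.val hi, map_one])
        exact (QuotientGroup.eq_one_iff _).1 h2
      · have hm : Mor E Q₀ (afun α) := ((mem_autGroup le_rfl).1 hα).restrict_to hQ₀T
        obtain ⟨a, ha, hae⟩ := hm.exists_aut
          (hm.im_self fun x hx => hgT x (hQ₀T hx) ▸ hgQ₀ x hx)
        exact ⟨a, ha, fun x hx => (hae x hx).trans (hgT x (hQ₀T hx)).symm⟩
    exact ⟨g, (hmemH g).2 ⟨hgM, hτc _ (by rw [Subgroup.orderOf_mk]; exact hj)⟩, hgT⟩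
  have hEH : E.autGroup T ≤ (Cfsg.fusionSystemOfSubgroup H T hTH).autGroup T := by
    intro e he
    obtain ⟨i, j, hee, ⟨k, hk⟩, hj⟩ := exists_parts (p := p) e
    have h1 := hinner _ (pow_mem he i) ⟨k, hk⟩
    rw [← autInducedBy_self] at h1
    obtain ⟨g, hg, hge⟩ := hlift _ (pow_mem he j) hj
    rw [hee]
    refine mul_mem (autInducedBy_le le_rfl h1) (mem_autGroup_of_mor ?_)
    exact FusionTransport88.mor_subgroup_iff.2 ⟨le_rfl, g, hg,
      fun x hx => (hge x hx).symm, fun x hx => hge x hx ▸ afun_mem _ hx⟩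
  have hHQ₀ : ∀ x ∈ H, x ∈ Subgroup.centralizer (Q₀ : Set G) → x ∈ T := fun x hx hc =>
    hSH x hx (hQS (hKQ ⟨hHM hx, hc⟩))
  have hHE : (Cfsg.fusionSystemOfSubgroup H T hTH).autGroup T ≤ E.autGroup T := by
    intro γ hγ
    obtain ⟨-, h, hh, hhe, -⟩ := FusionTransport88.mor_subgroup_iff.1 ((mem_autGroup le_rfl).1 hγ)
    obtain ⟨-, a, ha, hae⟩ := hHM hh
    have hn : E.IsFullyNormalized Q₀ := by
      refine ⟨hQ₀T, fun R hR => ?_⟩
      obtain ⟨f, hf, him⟩ := FusionSysBasic.isConj_iff.1 hR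
      have : R = Q₀ := by
        obtain ⟨φ, hφ, he⟩ := id hf
        obtain ⟨-, -, g, hg⟩ := hEi.1 _ hφ
        rw [← him, hf.im_self fun x hx => ?_]
        rw [← he ⟨x, hx⟩, hg]
        exact hQ₀cl g x hx
      rw [this]
    obtain ⟨f, hf, hag⟩ := (receptive_iff.1 (receptive_of_fullyNormalized hTp hEs hn)).2 Q₀
      (afun a) T ((mem_autGroup hQ₀T).1 ha) (im_afun a) le_rfl
      (fun t _ => by rw [Subgroup.normalizer_eq_top]; trivial) (fun t ht => by
        refine ⟨afun γ t, afun_mem γ ht, fun x hx => ?_⟩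
        rw [hae _ (hQ₀cl t x hx), hae x hx, hhe t ht]
        simp only [cj_apply]
        group)
    rw [sup_eq_right.2 hQ₀T] at hf
    obtain ⟨e, he, hee⟩ := hf.exists_aut (hf.im_self fun x hx => hf.apply_mem hx)
    obtain ⟨-, h', hh', hh'e, -⟩ :=
      FusionTransport88.mor_subgroup_iff.1 ((mem_autGroup le_rfl).1 (hEH he))
    set t := h'⁻¹ * h with ht
    have htT : t ∈ T := hHQ₀ t (H.mul_mem (H.inv_mem hh') hh)
      (Subgroup.mem_centralizer_iff.2 fun x hx => by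
        have h1 : cj t x = x := by
          rw [ht, ← cj_cj, ← hae x hx, ← hag x hx, ← hee x (hQ₀T hx), hh'e x (hQ₀T hx), cj_inv_cj]
        rw [cj_apply, mul_inv_eq_iff_eq_mul] at h1
        exact h1.symm)
    have : γ = e * nHom T T ⟨t, htT, Subgroup.le_normalizer htT⟩ := afun_ext fun x hx => by
      rw [afun_mul _ _ hx, afun_nHom _ hx, hhe x hx]
      show cj h x = afun e (cj t x)
      rw [hh'e (cj t x) (T.mul_mem (T.mul_mem htT hx) (T.inv_mem htT)), cj_cj]
      simp only [ht, mul_inv_cancel_left]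
    rw [this]
    exact mul_mem he (autInducedBy_le le_rfl (mem_autInducedBy.2
      ⟨t, htT, Subgroup.le_normalizer htT, fun x hx => afun_nHom _ hx⟩))
  have hhom := FusionWeaklyNormalEq.hom_eq_of_aut_eq S.2 ⟨hEs, hFs, hEi⟩ hDw
    (le_antisymm hEH hHE)
  refine ⟨H, ⟨hTH, hHn, hsylH, hhom⟩, ?_⟩
  rintro H' ⟨hTH', hH'n, ⟨R, hR⟩, hhom'⟩
  have hmor' : ∀ P f, Mor E P f ↔ Mor (Cfsg.fusionSystemOfSubgroup H' T hTH') P f := fun P f => by
    simp only [Mor, hhom' P]
  have hSH' : ∀ x ∈ H', x ∈ (S : Subgroup G) → x ∈ T := by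
    have h1 : (((S : Subgroup G) ⊓ H').subgroupOf H') = R := R.3
      (S.2.comap_subtype.to_le (Subgroup.comap_mono inf_le_left))
      (by rw [hR]; exact Subgroup.comap_mono (le_inf hTS hTH'))
    intro x hx hxS
    have h2 : (⟨x, hx⟩ : H') ∈ (R : Subgroup H') := h1 ▸ (show x ∈ (S : Subgroup G) ⊓ H' from ⟨hxS, hx⟩)
    rw [hR] at h2
    exact h2
  have hH'M : H' ≤ M := by
    intro x hx
    refine ⟨fun q hq => ?_, ?_⟩
    · have hmemQ : q⁻¹ * cj x q ∈ Q := Q.mul_mem (Q.inv_mem hq) (hQn.conj_mem q hq x)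
      refine ⟨hmemQ, hSH' _ ?_ (hQS hmemQ)⟩
      have := H'.mul_mem (hH'n.conj_mem x hx q⁻¹) (H'.inv_mem hx)
      simpa [cj_apply, mul_assoc] using this
    · have hm : Mor E Q₀ (cj x) := (hmor' _ _).2 (FusionTransport88.mor_subgroup_iff.2
        ⟨hQ₀T, x, hx, fun _ _ => rfl, fun y hy => hQ₀T (hQ₀cl x y hy)⟩)
      exact hm.exists_aut (hm.im_self fun y hy => hQ₀cl x y hy)
  have hle : H' ≤ H := by
    intro x hx
    obtain ⟨i, j, hxe, ⟨k, hk⟩, hj⟩ := exists_parts (p := p) x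
    rw [hxe]
    refine H.mul_mem ?_ ((hmemH _).2 ⟨hH'M (H'.pow_mem hx j), hτc _ (by rwa [Subgroup.orderOf_mk])⟩)
    obtain ⟨m, hm, hmS⟩ := hconjS _ (hH'M (H'.pow_mem hx i)) ⟨k, hk⟩
    have h1 : cj m (x ^ i) ∈ T := hSH' _ (hH'n.conj_mem _ (H'.pow_mem hx i) m) hmS
    have h2 := hHconjM m⁻¹ (M.inv_mem hm) _ (hTH h1)
    rwa [cj_inv_cj] at h2
  refine le_antisymm hle fun x hx => ?_
  obtain ⟨-, a, ha, hae⟩ := hHM hx
  obtain ⟨-, y, hy, hye, -⟩ := FusionTransport88.mor_subgroup_iff.1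
    ((hmor' _ _).1 ((mem_autGroup hQ₀T).1 ha))
  have h1 : y⁻¹ * x ∈ T := hHQ₀ _ (H.mul_mem (H.inv_mem (hle hy)) hx)
    (Subgroup.mem_centralizer_iff.2 fun z hz => by
      have h2 : cj (y⁻¹ * x) z = z := by rw [← cj_cj, ← hae z hz, hye z hz, cj_inv_cj]
      rw [cj_apply, mul_inv_eq_iff_eq_mul] at h2
      exact h2.symm)
  simpa using H'.mul_mem hy (hTH' h1)

end Cfsg.Agent.FusionNormalSubgroups
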