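import Mathlib

/-!
The Sylow 2-subgroup of the alternating group of degree 7 as an explicit dihedral group, and the
even-weight module over the field with two elements.
-/

set_option autoImplicit false

namespace Cfsg.Agent.FusionOmega7Perm45

open Equiv Equiv.Perm

/-- Vectors over the field with two elements. -/
abbrev V2 : Type := Fin 7 → ZMod 2

/-- Even weight. -/
def Ev (s : V2) : Prop := ∑ i, s i = 0

instance (s : V2) : Decidable (Ev s) := inferInstanceAs (Decidable (_ = _))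

/-- Permuting the coordinates. -/
def pm (π : Perm (Fin 7)) (s : V2) : V2 := fun i => s (π.symm i)

theorem pm_one (s : V2) : pm 1 s = s := rfl

theorem pm_mul (π σ : Perm (Fin 7)) (s : V2) : pm (π * σ) s = pm π (pm σ s) := rfl

theorem pm_add (π : Perm (Fin 7)) (s t : V2) : pm π (s + t) = pm π s + pm π t := rfl

theorem pm_zero (π : Perm (Fin 7)) : pm π 0 = 0 := rfl

theorem ev_zero : Ev 0 := by simp [Ev]

theorem ev_add {s t : V2} (hs : Ev s) (ht : Ev t) : Ev (s + t) := by
  simp only [Ev, Pi.add_apply, Finset.sum_add_distrib] at *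
  rw [hs, ht, add_zero]

theorem ev_pm {π : Perm (Fin 7)} {s : V2} (hs : Ev s) : Ev (pm π s) :=
  (Equiv.sum_comp π.symm s).trans hs

theorem add_self (s : V2) : s + s = 0 := funext fun _ => CharTwo.add_self_eq_zero _

/-- The tables of the eight elements. -/
def T : Fin 8 → (Fin 7 → Fin 7) :=
  ![![0, 1, 2, 3, 4, 5, 6], ![1, 2, 3, 0, 5, 4, 6], ![2, 3, 0, 1, 4, 5, 6], ![3, 0, 1, 2, 5, 4, 6],
    ![2, 1, 0, 3, 5, 4, 6], ![3, 2, 1, 0, 4, 5, 6], ![0, 3, 2, 1, 5, 4, 6], ![1, 0, 3, 2, 4, 5, 6]]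

/-- The tables of the inverses. -/
def T' : Fin 8 → (Fin 7 → Fin 7) :=
  ![![0, 1, 2, 3, 4, 5, 6], ![3, 0, 1, 2, 5, 4, 6], ![2, 3, 0, 1, 4, 5, 6], ![1, 2, 3, 0, 5, 4, 6],
    ![2, 1, 0, 3, 5, 4, 6], ![3, 2, 1, 0, 4, 5, 6], ![0, 3, 2, 1, 5, 4, 6], ![1, 0, 3, 2, 4, 5, 6]]

theorem T_inv : ∀ k i, T' k (T k i) = i ∧ T k (T' k i) = i := by decide +kernel

/-- The eight elements. -/
def De (k : Fin 8) : Perm (Fin 7) := ⟨T k, T' k, fun i => (T_inv k i).1, fun i => (T_inv k i).2⟩

theorem De_apply (k : Fin 8) (i : Fin 7) : De k i = T k i := rfl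

theorem De_symm_apply (k : Fin 8) (i : Fin 7) : (De k).symm i = T' k i := rfl

/-- Membership in the dihedral group. -/
def InD (π : Perm (Fin 7)) : Prop := ∃ k, De k = π

theorem De_injective : Function.Injective De := by
  have h : ∀ i j, (∀ x, T i x = T j x) → i = j := by decide +kernel
  exact fun i j hij => h i j fun x => congrArg (fun e : Perm (Fin 7) => e x) hij

theorem De_zero : De 0 = 1 := by
  have h : ∀ x, T 0 x = x := by decide +kernel
  exact Equiv.ext h

theorem D_one : InD 1 := ⟨0, De_zero⟩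

theorem D_mul {x y : Perm (Fin 7)} : InD x → InD y → InD (x * y) := by
  rintro ⟨i, rfl⟩ ⟨j, rfl⟩
  have h : ∀ i j, ∃ k, ∀ x, T k x = T i (T j x) := by decide +kernel
  obtain ⟨k, hk⟩ := h i j
  exact ⟨k, Equiv.ext hk⟩

theorem D_inv {x : Perm (Fin 7)} : InD x → InD x⁻¹ := by
  rintro ⟨i, rfl⟩
  have h : ∀ i, ∃ k, ∀ x, T k x = T' i x := by decide +kernel
  obtain ⟨k, hk⟩ := h i
  exact ⟨k, Equiv.ext hk⟩

theorem De_sign : ∀ k, sign (De k) = 1 := by decide +kernel

theorem D_sign {x : Perm (Fin 7)} : InD x → sign x = 1 := by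
  rintro ⟨i, rfl⟩; exact De_sign i

/-- The central involution. -/
def sg0 : Perm (Fin 7) := De 2

theorem D_sg0 : InD sg0 := ⟨2, rfl⟩

theorem De_sq_iff (k : Fin 8) : De k * De k = 1 ↔ ∀ x, T k (T k x) = x :=
  ⟨fun h x => congrArg (fun e : Perm (Fin 7) => e x) h, fun h => Equiv.ext h⟩

theorem De_comm_iff (i j : Fin 8) : De i * De j = De j * De i ↔ ∀ x, T i (T j x) = T j (T i x) :=
  ⟨fun h x => congrArg (fun e : Perm (Fin 7) => e x) h, fun h => Equiv.ext h⟩

theorem D_gen {x : Perm (Fin 7)} : InD x →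
    ∃ y z, InD y ∧ InD z ∧ y * y = 1 ∧ z * z = 1 ∧ x = y * z := by
  rintro ⟨k, rfl⟩
  have h : ∀ k, ∃ i j, (∀ x, T i (T i x) = x) ∧ (∀ x, T j (T j x) = x) ∧
      ∀ x, T k x = T i (T j x) := by decide +kernel
  obtain ⟨i, j, hi, hj, hk⟩ := h k
  exact ⟨_, _, ⟨i, rfl⟩, ⟨j, rfl⟩, (De_sq_iff i).2 hi, (De_sq_iff j).2 hj, Equiv.ext hk⟩

/-- Tables of conjugating elements. -/
def C : Fin 5 → (Fin 7 → Fin 7) :=
  ![![0, 1, 2, 3, 4, 5, 6], ![0, 4, 2, 5, 1, 3, 6], ![4, 1, 5, 3, 0, 2, 6], ![0, 1, 3, 2, 5, 4, 6],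
    ![0, 2, 1, 3, 5, 4, 6]]

theorem C_inv : ∀ k i, C k (C k i) = i := by decide +kernel

/-- The conjugating elements. -/
def Ce (k : Fin 5) : Perm (Fin 7) := ⟨C k, C k, C_inv k, C_inv k⟩

theorem Ce_sign : ∀ k, sign (Ce k) = 1 := by decide +kernel

theorem D_invol {x : Perm (Fin 7)} : InD x → x * x = 1 → x ≠ 1 →
    ∃ c : Perm (Fin 7), sign c = 1 ∧ x = c * sg0 * c⁻¹ := by
  rintro ⟨k, rfl⟩ h2 h1
  have h : ∀ k, (∀ x, T k (T k x) = x) → (∀ x, T k x = x) ∨
      ∃ c, ∀ x, T k x = C c (T 2 (C c x)) := by decide +kernel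
  rcases h k ((De_sq_iff k).1 h2) with h' | ⟨c, hc⟩
  · exact absurd (Equiv.ext h') h1
  · exact ⟨Ce c, Ce_sign c, Equiv.ext hc⟩

theorem De_ne_one {k : Fin 8} (h : De k ≠ 1) : k ≠ 0 := fun hc => h (hc ▸ De_zero)

theorem D_comm_count {k : Fin 8} (hk : De k ≠ 1) :
    (Finset.univ.filter fun j => De j * De j = 1 ∧ De j * De k = De k * De j).card ≤ 6 := by
  have h : ∀ k : Fin 8, k ≠ 0 → (Finset.univ.filter fun j =>
      (∀ x, T j (T j x) = x) ∧ ∀ x, T j (T k x) = T k (T j x)).card ≤ 6 := by decide +kernel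
  refine le_trans (le_of_eq ?_) (h k (De_ne_one hk))
  congr 1
  ext j
  simp [De_sq_iff, De_comm_iff]

theorem pm_De_eq_iff (k : Fin 8) (s : V2) : pm (De k) s = s ↔ ∀ i, s (T' k i) = s i :=
  funext_iff

theorem D_fix_one {k : Fin 8} (hk : De k ≠ 1) :
    (Finset.univ.filter fun s : V2 => Ev s ∧ pm (De k) s = s).card ≤ 16 := by
  have h : ∀ k : Fin 8, k ≠ 0 → (Finset.univ.filter fun s : V2 =>
      (∑ i, s i = 0) ∧ ∀ i, s (T' k i) = s i).card ≤ 16 := by decide +kernel
  refine le_trans (le_of_eq ?_) (h k (De_ne_one hk))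
  congr 1
  ext s
  simp [pm_De_eq_iff, Ev]

theorem D_fix_two {k l : Fin 8} (hk : De k ≠ 1) (hl : De l ≠ 1) (hkl : k ≠ l)
    (hk2 : De k * De k = 1) (hl2 : De l * De l = 1) (hc : De k * De l = De l * De k) :
    (Finset.univ.filter fun s : V2 => Ev s ∧ pm (De k) s = s ∧ pm (De l) s = s).card ≤ 8 := by
  have h : ∀ k l : Fin 8, k ≠ 0 → l ≠ 0 → k ≠ l → (∀ x, T k (T k x) = x) → (∀ x, T l (T l x) = x) →
      (∀ x, T k (T l x) = T l (T k x)) → (Finset.univ.filter fun s : V2 =>
      (∑ i, s i = 0) ∧ (∀ i, s (T' k i) = s i) ∧ ∀ i, s (T' l i) = s i).card ≤ 8 := by decide +kernel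
  refine le_trans (le_of_eq ?_) (h k l (De_ne_one hk) (De_ne_one hl) hkl ((De_sq_iff k).1 hk2)
    ((De_sq_iff l).1 hl2) ((De_comm_iff k l).1 hc))
  congr 1
  ext s
  simp [pm_De_eq_iff, Ev]

theorem ev_card : (Finset.univ.filter fun s : V2 => Ev s).card = 64 := by decide +kernel

theorem D_norm_table : ∀ e : Fin 8, (e = 1 ∨ e = 3) → (∀ z, T e z = z → z = 6) ∧
    ∀ x y : Fin 7, Function.Injective
      (![x, T e x, T e (T e x), T e (T e (T e x)), y, T e y, 6] : Fin 7 → Fin 7) →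
      ∃ d, (∀ i, T d i = ![x, T e x, T e (T e x), T e (T e (T e x)), y, T e y, 6] i) ∨
        (∀ i, T d (![0, 1, 2, 3, 5, 4, 6] i) =
          ![x, T e x, T e (T e x), T e (T e (T e x)), y, T e y, 6] i) := by
  decide +kernel

/-- The Sylow subgroup is self-normalising in the alternating group. -/
theorem D_normalizer {π : Perm (Fin 7)} (hs : sign π = 1)
    (h : ∀ d, InD d → InD (π * d * π⁻¹)) : InD π := by
  obtain ⟨e, he⟩ := h _ ⟨1, rfl⟩
  have hcomm : ∀ i, π (T 1 i) = T e (π i) := by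
    intro i
    have h' := congrArg (fun f : Perm (Fin 7) => f (π i)) he
    simp only [Perm.mul_apply, De_apply, Perm.inv_def, Equiv.symm_apply_apply] at h'
    exact h'.symm
  have he' : e = 1 ∨ e = 3 := by
    have h4 : ∀ e, ¬ (∀ x, T e (T e x) = x) → e = 1 ∨ e = 3 := by decide +kernel
    refine h4 e fun hc => ?_
    have hh : T 1 (T 1 0) = (0 : Fin 7) := π.injective (by rw [hcomm, hcomm, hc])
    exact absurd hh (by decide +kernel)
  obtain ⟨hfix, htab⟩ := D_norm_table e he'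
  have h6 : π 6 = 6 := hfix _ (by rw [← hcomm, show T 1 6 = 6 by decide +kernel])
  have hπ : ∀ i, π i = ![π 0, T e (π 0), T e (T e (π 0)), T e (T e (T e (π 0))), π 4, T e (π 4), 6] i := by
    have h1 : π 1 = T e (π 0) := by rw [← hcomm, show T 1 0 = 1 by decide +kernel]
    have h2 : π 2 = T e (T e (π 0)) := by rw [← h1, ← hcomm, show T 1 1 = 2 by decide +kernel]
    have h3 : π 3 = T e (T e (T e (π 0))) := by rw [← h2, ← hcomm, show T 1 2 = 3 by decide +kernel]
    have h5 : π 5 = T e (π 4) := by rw [← hcomm, show T 1 4 = 5 by decide +kernel]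
    intro i
    fin_cases i
    · rfl
    · exact h1
    · exact h2
    · exact h3
    · rfl
    · exact h5
    · exact h6
  obtain ⟨d, hd⟩ := htab (π 0) (π 4) (by
    intro i j hij
    exact π.injective ((hπ i).trans (hij.trans (hπ j).symm)))
  rcases hd with hd | hd
  · exact ⟨d, Equiv.ext fun i => (hd i).trans (hπ i).symm⟩
  · have hsw : ∀ i, swap (4 : Fin 7) 5 i = ![0, 1, 2, 3, 5, 4, 6] i := by decide +kernel
    have : π = De d * swap 4 5 := Equiv.ext fun i => by
      rw [Perm.mul_apply, De_apply, hsw, hd, ← hπ]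
    rw [this, map_mul, De_sign, one_mul, sign_swap (by decide)] at hs
    exact absurd hs (by decide)

/-- An even permutation sending one ordered pair to another. -/
theorem exists_even_pair {i j p r : Fin 7} (hij : i ≠ j) (hpr : p ≠ r) :
    ∃ π : Perm (Fin 7), sign π = 1 ∧ π i = p ∧ π j = r := by
  set π₀ : Perm (Fin 7) := swap (swap i p j) r * swap i p with hπ₀
  have hi : π₀ i = p := by
    rw [hπ₀, Perm.mul_apply, swap_apply_left, swap_apply_of_ne_of_ne _ hpr]
    intro hc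
    exact hij.symm ((swap i p).injective (hc.symm.trans (swap_apply_left i p).symm))
  have hj : π₀ j = r := by rw [hπ₀, Perm.mul_apply, swap_apply_left]
  rcases Int.units_eq_one_or (sign π₀) with h | h
  · exact ⟨π₀, h, hi, hj⟩
  obtain ⟨k, hk⟩ : ∃ k : Fin 7, k ∉ ({p, r} : Finset (Fin 7)) := by
    by_contra hc
    push Not at hc
    have h1 : (Finset.univ : Finset (Fin 7)) ⊆ {p, r} := fun x _ => hc x
    have h2 := Finset.card_le_card h1
    simp [Finset.card_pair hpr] at h2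
  obtain ⟨l, hl⟩ : ∃ l : Fin 7, l ∉ ({p, r, k} : Finset (Fin 7)) := by
    by_contra hc
    push Not at hc
    have h1 : (Finset.univ : Finset (Fin 7)) ⊆ {p, r, k} := fun x _ => hc x
    have h2 := Finset.card_le_card h1
    have h3 := Finset.card_le_three (a := p) (b := r) (c := k)
    simp at h2
    omega
  simp only [Finset.mem_insert, Finset.mem_singleton, not_or] at hk hl
  refine ⟨swap k l * π₀, ?_, ?_, ?_⟩
  · rw [map_mul, h, sign_swap (Ne.symm hl.2.2)]; rfl
  · rw [Perm.mul_apply, hi, swap_apply_of_ne_of_ne (Ne.symm hk.1) (Ne.symm hl.1)]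
  · rw [Perm.mul_apply, hj, swap_apply_of_ne_of_ne (Ne.symm hk.2) (Ne.symm hl.2.1)]

/-- The even-weight module is irreducible under even permutations. -/
theorem module_top (U : V2 → Prop) (hadd : ∀ s t, U s → U t → U (s + t))
    (hperm : ∀ (π : Perm (Fin 7)) (s : V2), sign π = 1 → U s → U (pm π s))
    {u : V2} (hu : U u) (huev : Ev u) (hu0 : u ≠ 0) {s : V2} (hs : Ev s) : U s := by
  have h01 : ∀ c : ZMod 2, c = 0 ∨ c = 1 := by decide
  obtain ⟨i, hi⟩ : ∃ i, u i = 1 := by
    obtain ⟨i, hi⟩ := Function.ne_iff.1 hu0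
    exact ⟨i, (h01 _).resolve_left hi⟩
  obtain ⟨j, hj⟩ : ∃ j, u j = 0 := by
    by_contra hc
    push Not at hc
    have : u = fun _ => (1 : ZMod 2) := funext fun j => (h01 _).resolve_left (hc j)
    rw [this] at huev
    exact absurd huev (by decide +kernel)
  have hij : i ≠ j := fun h => by rw [h, hj] at hi; exact zero_ne_one hi
  obtain ⟨⟨k, hk⟩, ⟨l, hl⟩, hkl, hukl⟩ := Fintype.exists_ne_map_eq_of_card_lt
    (fun x : {x : Fin 7 // x ≠ i ∧ x ≠ j} => u x) (by
      have he : Fintype.card {x : Fin 7 // x ≠ i ∧ x ≠ j} = 5 := by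
        rw [Fintype.card_subtype]
        have : (Finset.univ.filter fun x : Fin 7 => x ≠ i ∧ x ≠ j) = (Finset.univ.erase i).erase j := by
          ext x; simp [and_comm]
        rw [this, Finset.card_erase_of_mem (by simp [Ne.symm hij]),
          Finset.card_erase_of_mem (Finset.mem_univ _)]
        simp
      rw [he, ZMod.card]; norm_num)
  simp only [ne_eq, Subtype.mk.injEq] at hkl hukl
  have hpair : U (Pi.single i 1 + Pi.single j 1) := by
    have hsg : sign (swap i j * swap k l) = 1 := by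
      rw [map_mul, sign_swap hij, sign_swap hkl]; rfl
    have h := hadd _ _ hu (hperm _ _ hsg hu)
    convert h using 1
    funext x
    show Pi.single (M := fun _ => ZMod 2) i 1 x + Pi.single (M := fun _ => ZMod 2) j 1 x
      = u x + u (swap k l (swap i j x))
    by_cases hxi : x = i
    · subst hxi
      rw [swap_apply_left, swap_apply_of_ne_of_ne (Ne.symm hk.2) (Ne.symm hl.2), hi, hj,
        Pi.single_eq_same, Pi.single_eq_of_ne hij]
    by_cases hxj : x = j
    · subst hxj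
      rw [swap_apply_right, swap_apply_of_ne_of_ne (Ne.symm hk.1) (Ne.symm hl.1), hi, hj,
        Pi.single_eq_same, Pi.single_eq_of_ne (Ne.symm hij)]
    rw [swap_apply_of_ne_of_ne hxi hxj, Pi.single_eq_of_ne hxi, Pi.single_eq_of_ne hxj]
    by_cases hxk : x = k
    · subst hxk; rw [swap_apply_left, hukl, add_zero, CharTwo.add_self_eq_zero]
    by_cases hxl : x = l
    · subst hxl; rw [swap_apply_right, hukl, add_zero, CharTwo.add_self_eq_zero]
    rw [swap_apply_of_ne_of_ne hxk hxl, add_zero, CharTwo.add_self_eq_zero]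
  have h0 : U 0 := by
    have := hadd _ _ hu hu
    rwa [add_self] at this
  have hall : ∀ p r, U (Pi.single p 1 + Pi.single r 1) := by
    intro p r
    by_cases hpr : p = r
    · subst hpr; rw [add_self]; exact h0
    obtain ⟨π, hπ, hπi, hπj⟩ := exists_even_pair hij hpr
    have h := hperm π _ hπ hpair
    convert h using 1
    funext x
    show _ = Pi.single (M := fun _ => ZMod 2) i 1 (π.symm x) + Pi.single (M := fun _ => ZMod 2) j 1 (π.symm x)
    simp only [Pi.add_apply, Pi.single_apply, Equiv.symm_apply_eq, hπi, hπj]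
  have hrw : s = ∑ x : Fin 7, if s x = 1 then (Pi.single x 1 + Pi.single 6 1 : V2) else 0 := by
    have h1 : ∀ x : Fin 7, (if s x = 1 then (Pi.single x 1 + Pi.single 6 1 : V2) else 0)
        = Pi.single x (s x) + Pi.single 6 (s x) := by
      intro x
      rcases h01 (s x) with h | h <;> simp [h]
    rw [Finset.sum_congr rfl fun x _ => h1 x, Finset.sum_add_distrib, Finset.univ_sum_single]
    have h2 : ∑ x : Fin 7, (Pi.single 6 (s x) : V2) = 0 := by
      have := (map_sum (AddMonoidHom.single (fun _ : Fin 7 => ZMod 2) 6) s Finset.univ).symm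
      rw [show (∑ i, s i) = 0 from hs, map_zero] at this
      exact this
    rw [h2, add_zero]
  rw [hrw]
  exact Finset.sum_induction _ U hadd h0 fun x _ => by split_ifs; exacts [hall x 6, h0]

end Cfsg.Agent.FusionOmega7Perm45
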