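import Cfsg.Agent.Lib.FusionSimpleCrit
import Cfsg.Agent.Lib.FusionOmega7Perm45

/-!
A finite group with a self-normalising monomial subgroup `2^6 : A7` of odd index and one further
fusion has a simple fusion system at the prime two.
-/

set_option autoImplicit false

namespace Cfsg.Agent.FusionOmega7Frame45

open Cfsg Cfsg.FusionSystem Cfsg.Agent.FusionSysBasic Cfsg.Agent.FusionSysGroup
open Cfsg.Agent.FusionOmega7Perm45
open Equiv Equiv.Perm

/-- The vector `e₀ + e₁`. -/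
def s0 : V2 := ![1, 1, 0, 0, 0, 0, 0]

theorem ev_s0 : Ev s0 := by decide +kernel

theorem s0_ne : s0 ≠ 0 := by decide +kernel

/-- The monomial data. -/
structure Frame (G : Type*) [Group G] where
  μ : V2 → Perm (Fin 7) → G
  mul : ∀ s t π σ, Ev s → Ev t → sign π = 1 → sign σ = 1 →
    μ s π * μ t σ = μ (s + pm π t) (π * σ)
  inj : ∀ s t π σ, Ev s → Ev t → sign π = 1 → sign σ = 1 → μ s π = μ t σ → s = t ∧ π = σ
  norm : ∀ g : G, (∀ s, Ev s → ∃ t, Ev t ∧ g * μ s 1 * g⁻¹ = μ t 1) →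
    ∃ s π, Ev s ∧ sign π = 1 ∧ g = μ s π
  fuse : ∃ g : G, g * μ s0 1 * g⁻¹ = μ 0 sg0
  two : ∀ P : Sylow 2 G, Nat.card (P : Subgroup G) = 512

variable {G : Type*} [Group G] (X : Frame G)

/-- Transport along conjugation. -/
def Frame.conj (h : G) : Frame G where
  μ s π := h * X.μ s π * h⁻¹
  mul s t π σ hs ht hπ hσ := by
    rw [← X.mul s t π σ hs ht hπ hσ]; group
  inj s t π σ hs ht hπ hσ he :=
    X.inj s t π σ hs ht hπ hσ (mul_left_cancel (mul_right_cancel he))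
  norm g hg := by
    obtain ⟨s, π, hs, hπ, he⟩ := X.norm (h⁻¹ * g * h) fun s hs => by
      obtain ⟨t, ht, he⟩ := hg s hs
      refine ⟨t, ht, ?_⟩
      have e2 : X.μ t 1 = h⁻¹ * (h * X.μ t 1 * h⁻¹) * h := by group
      rw [e2, ← he]; group
    exact ⟨s, π, hs, hπ, by rw [← he]; group⟩
  fuse := by
    obtain ⟨g, hg⟩ := X.fuse
    exact ⟨h * g * h⁻¹, by rw [← hg]; group⟩
  two := X.two

namespace Frame

theorem one_eq : X.μ 0 1 = 1 := by
  have h := X.mul 0 0 1 1 ev_zero ev_zero (map_one _) (map_one _)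
  rw [pm_zero, add_zero, one_mul] at h
  exact mul_eq_left.1 h

/-- The Sylow subgroup. -/
def syl : Subgroup G where
  carrier := {g | ∃ s π, Ev s ∧ InD π ∧ g = X.μ s π}
  one_mem' := ⟨0, 1, ev_zero, D_one, (X.one_eq).symm⟩
  mul_mem' := by
    rintro _ _ ⟨s, π, hs, hπ, rfl⟩ ⟨t, σ, ht, hσ, rfl⟩
    exact ⟨_, _, ev_add hs (ev_pm ht), D_mul hπ hσ, X.mul s t π σ hs ht (D_sign hπ) (D_sign hσ)⟩
  inv_mem' := by
    rintro _ ⟨s, π, hs, hπ, rfl⟩
    refine ⟨pm π⁻¹ s, π⁻¹, ev_pm hs, D_inv hπ, inv_eq_of_mul_eq_one_right ?_⟩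
    rw [X.mul _ _ _ _ hs (ev_pm hs) (D_sign hπ) (D_sign (D_inv hπ)), ← pm_mul, mul_inv_cancel,
      pm_one, add_self, X.one_eq]

theorem mem_syl {g : G} : g ∈ X.syl ↔ ∃ s π, Ev s ∧ InD π ∧ g = X.μ s π := Iff.rfl

theorem card_syl : Nat.card X.syl = 512 := by
  let f : {s : V2 // Ev s} × Fin 8 → X.syl := fun p =>
    ⟨X.μ p.1.1 (De p.2), p.1.1, De p.2, p.1.2, ⟨p.2, rfl⟩, rfl⟩
  have hf : Function.Bijective f := by
    constructor
    · rintro ⟨⟨s, hs⟩, k⟩ ⟨⟨t, ht⟩, l⟩ h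
      obtain ⟨h1, h2⟩ := X.inj s t (De k) (De l) hs ht (De_sign k) (De_sign l) (congrArg Subtype.val h)
      subst h1
      rw [De_injective h2]
    · rintro ⟨g, s, π, hs, ⟨k, rfl⟩, rfl⟩
      exact ⟨(⟨s, hs⟩, k), rfl⟩
  rw [← Nat.card_eq_of_bijective f hf, Nat.card_prod, Nat.card_eq_fintype_card,
    Fintype.card_subtype, ev_card, Nat.card_eq_fintype_card, Fintype.card_fin]

include X in
theorem exists_frame [Finite G] (S : Sylow 2 G) : ∃ Y : Frame G, (S : Subgroup G) = Y.syl := by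
  haveI : Fact (Nat.Prime 2) := ⟨Nat.prime_two⟩
  have hp : IsPGroup 2 X.syl := IsPGroup.of_card (n := 9) (by rw [X.card_syl]; norm_num)
  obtain ⟨P, hP⟩ := hp.exists_le_sylow
  obtain ⟨h, hh⟩ := MulAction.exists_smul_eq G P S
  have hP' : X.syl = (P : Subgroup G) :=
    Subgroup.eq_of_le_of_card_ge hP (by rw [X.card_syl, X.two P])
  refine ⟨X.conj h, ?_⟩
  rw [← hh, Sylow.coe_subgroup_smul, ← hP']
  ext g
  rw [Subgroup.mem_pointwise_smul_iff_inv_smul_mem]
  simp only [MulAut.smul_def, ← map_inv, MulAut.conj_apply, mem_syl, inv_inv]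
  show (∃ s π, Ev s ∧ InD π ∧ h⁻¹ * g * h = X.μ s π) ↔
    ∃ s π, Ev s ∧ InD π ∧ g = h * X.μ s π * h⁻¹
  refine exists₂_congr fun s π => and_congr_right fun _ => and_congr_right fun _ => ?_
  constructor <;> intro he
  · rw [← he]; group
  · rw [he]; group

theorem mul_E {s t : V2} (hs : Ev s) (ht : Ev t) : X.μ s 1 * X.μ t 1 = X.μ (s + t) 1 := by
  rw [X.mul s t 1 1 hs ht (map_one _) (map_one _), pm_one, one_mul]

theorem conj_E {s t : V2} {π : Perm (Fin 7)} (hs : Ev s) (ht : Ev t) (hπ : sign π = 1) :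
    X.μ t π * X.μ s 1 * (X.μ t π)⁻¹ = X.μ (pm π s) 1 := by
  rw [mul_inv_eq_iff_eq_mul, X.mul t s π 1 ht hs hπ (map_one _), mul_one,
    X.mul _ t 1 π (ev_pm hs) ht (map_one _) hπ, pm_one, one_mul, add_comm]

theorem conj_W {π σ : Perm (Fin 7)} (hπ : sign π = 1) (hσ : sign σ = 1) :
    X.μ 0 π * X.μ 0 σ * (X.μ 0 π)⁻¹ = X.μ 0 (π * σ * π⁻¹) := by
  rw [mul_inv_eq_iff_eq_mul, X.mul 0 0 π σ ev_zero ev_zero hπ hσ,
    X.mul 0 0 (π * σ * π⁻¹) π ev_zero ev_zero
      (by rw [map_mul, map_mul, hπ, hσ, map_inv, hπ]; simp) hπ,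
    pm_zero, pm_zero, inv_mul_cancel_right]

open scoped Classical in
/-- The monomial translations form the only elementary abelian subgroup of order 64 in the Sylow
subgroup. -/
theorem elem_unique (A : Subgroup G) (hA : A ≤ X.syl) (h2 : ∀ x ∈ A, x * x = 1)
    (hcard : 64 ≤ Nat.card A) {s : V2} (hs : Ev s) : X.μ s 1 ∈ A := by
  obtain ⟨P, hP⟩ : ∃ P : Finset (V2 × Fin 8), ∀ p, p ∈ P ↔ Ev p.1 ∧ X.μ p.1 (De p.2) ∈ A :=
    ⟨Finset.univ.filter fun p => Ev p.1 ∧ X.μ p.1 (De p.2) ∈ A,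
      fun p => Finset.mem_filter.trans (and_iff_right (Finset.mem_univ p))⟩
  have hPcard : P.card = Nat.card A := by
    let f : P → A := fun p => ⟨X.μ p.1.1 (De p.1.2), ((hP p.1).1 p.2).2⟩
    have hf : Function.Bijective f := by
      constructor
      · rintro ⟨⟨s, k⟩, hp⟩ ⟨⟨t, l⟩, hq⟩ h
        obtain ⟨h1, h2⟩ := X.inj s t (De k) (De l) ((hP _).1 hp).1
          ((hP _).1 hq).1 (De_sign k) (De_sign l) (congrArg Subtype.val h)
        subst h1
        rw [Subtype.mk.injEq, De_injective h2]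
      · rintro ⟨g, hg⟩
        obtain ⟨t, π, ht, ⟨k, rfl⟩, rfl⟩ := hA hg
        exact ⟨⟨(t, k), (hP _).2 ⟨ht, hg⟩⟩, rfl⟩
    rw [← Nat.card_eq_of_bijective f hf, Nat.card_eq_fintype_card, Fintype.card_coe]
  have hcomm : ∀ x ∈ A, ∀ y ∈ A, x * y = y * x := by
    intro x hx y hy
    have h := h2 _ (A.mul_mem hx hy)
    calc x * y = (x * y)⁻¹ := (inv_eq_of_mul_eq_one_right h).symm
      _ = y⁻¹ * x⁻¹ := mul_inv_rev x y
      _ = y * x := by rw [inv_eq_of_mul_eq_one_right (h2 x hx), inv_eq_of_mul_eq_one_right (h2 y hy)]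
  obtain ⟨K, hK⟩ : ∃ K : Finset V2, ∀ k, k ∈ K ↔ Ev k ∧ X.μ k 1 ∈ A :=
    ⟨Finset.univ.filter fun k => Ev k ∧ X.μ k 1 ∈ A,
      fun p => Finset.mem_filter.trans (and_iff_right (Finset.mem_univ p))⟩
  obtain ⟨I, hI⟩ : ∃ I : Finset (Fin 8), I = P.image Prod.snd := ⟨_, rfl⟩
  have hle : P.card ≤ K.card * I.card := by
    rw [hI]
    refine Finset.card_le_mul_card_image P K.card fun k hk => ?_
    obtain ⟨⟨t0, k0⟩, ht0, hk0⟩ := Finset.mem_image.1 hk
    simp only at hk0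
    subst hk0
    obtain ⟨ht0, ht0A⟩ := (hP _).1 ht0
    refine Finset.card_le_card_of_injOn (fun p => p.1 + t0) ?_ ?_
    · intro p hp
      simp only [Finset.mem_coe, Finset.mem_filter, hP] at hp
      obtain ⟨⟨hp1, hpA⟩, hp2⟩ := hp
      rw [Finset.mem_coe, hK]
      refine ⟨ev_add hp1 ht0, ?_⟩
      have h := A.mul_mem hpA (A.inv_mem ht0A)
      have e : X.μ (p.1 + t0) 1 * X.μ t0 (De k0) = X.μ p.1 (De k0) := by
        rw [X.mul _ _ _ _ (ev_add hp1 ht0) ht0 (map_one _) (De_sign k0), pm_one, one_mul,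
          add_assoc, add_self, add_zero]
      rw [hp2, ← e, mul_inv_cancel_right] at h
      exact h
    · intro p hp p' hp' he
      simp only [Finset.mem_coe, Finset.mem_filter] at hp hp'
      exact Prod.ext (add_right_cancel he) (hp.2.trans hp'.2.symm)
  have hKfix : ∀ k ∈ I, ∀ v ∈ K, pm (De k) v = v := by
    intro k hk v hv
    obtain ⟨⟨t, k'⟩, ht, rfl⟩ := Finset.mem_image.1 (hI ▸ hk)
    obtain ⟨ht, htA⟩ := (hP _).1 ht
    obtain ⟨hv, hvA⟩ := (hK _).1 hv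
    have h := hcomm _ htA _ hvA
    rw [X.mul t v _ 1 ht hv (De_sign k') (map_one _), X.mul v t 1 _ hv ht (map_one _) (De_sign k'),
      mul_one, one_mul, pm_one] at h
    have h' := (X.inj _ _ _ _ (ev_add ht (ev_pm hv)) (ev_add hv ht) (De_sign k') (De_sign k') h).1
    rw [add_comm v t] at h'
    exact add_left_cancel h'
  have hIrel : ∀ k ∈ I, De k * De k = 1 ∧ ∀ l ∈ I, De k * De l = De l * De k := by
    intro k hk
    obtain ⟨⟨t, k'⟩, ht, rfl⟩ := Finset.mem_image.1 (hI ▸ hk)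
    obtain ⟨ht, htA⟩ := (hP _).1 ht
    constructor
    · have h := h2 _ htA
      rw [X.mul t t _ _ ht ht (De_sign k') (De_sign k'), ← X.one_eq] at h
      exact (X.inj _ _ _ _ (ev_add ht (ev_pm ht)) ev_zero (by rw [map_mul, De_sign]; simp)
        (map_one _) h).2
    · intro l hl
      obtain ⟨⟨u, l'⟩, hu, rfl⟩ := Finset.mem_image.1 (hI ▸ hl)
      obtain ⟨hu, huA⟩ := (hP _).1 hu
      have h := hcomm _ htA _ huA
      rw [X.mul t u _ _ ht hu (De_sign k') (De_sign l'), X.mul u t _ _ hu ht (De_sign l') (De_sign k')] at h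
      exact (X.inj _ _ _ _ (ev_add ht (ev_pm hu)) (ev_add hu (ev_pm ht))
        (by rw [map_mul, De_sign, De_sign]; simp) (by rw [map_mul, De_sign, De_sign]; simp) h).2
  have hKev : ∀ v ∈ K, Ev v := fun v hv => ((hK v).1 hv).1
  by_cases hone : ∀ k ∈ I, De k = 1
  · have hsub : K = Finset.univ.filter fun v : V2 => Ev v := by
      have h1 : I.card ≤ 1 := Finset.card_le_one.2 fun a ha b hb =>
        De_injective ((hone a ha).trans (hone b hb).symm)
      refine Finset.eq_of_subset_of_card_le (fun v hv => by simp [hKev v hv]) ?_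
      rw [ev_card]
      have := Nat.mul_le_mul_left K.card h1
      omega
    have : s ∈ K := by rw [hsub]; simp [hs]
    exact ((hK s).1 this).2
  · push Not at hone
    obtain ⟨k, hk, hk1⟩ := hone
    exfalso
    have hI6 : I.card ≤ 6 := le_trans (Finset.card_le_card fun l hl => by
      simp [(hIrel l hl).1, (hIrel l hl).2 k hk]) (D_comm_count hk1)
    by_cases htwo : ∃ l ∈ I, De l ≠ 1 ∧ l ≠ k
    · obtain ⟨l, hl, hl1, hlk⟩ := htwo
      have hK8 : K.card ≤ 8 := le_trans (Finset.card_le_card fun v hv => by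
        simp [hKev v hv, hKfix k hk v hv, hKfix l hl v hv])
        (D_fix_two hk1 hl1 (Ne.symm hlk) (hIrel k hk).1 (hIrel l hl).1 ((hIrel k hk).2 l hl))
      have := Nat.mul_le_mul hK8 hI6
      omega
    · push Not at htwo
      have hI2 : I.card ≤ 2 := le_trans (Finset.card_le_card (t := {0, k}) fun l hl => by
        by_cases h : De l = 1
        · simp [De_injective (h.trans De_zero.symm)]
        · simp [htwo l hl h]) Finset.card_le_two
      have hK16 : K.card ≤ 16 := le_trans (Finset.card_le_card fun v hv => by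
        simp [hKev v hv, hKfix k hk v hv]) (D_fix_one hk1)
      have := Nat.mul_le_mul hK16 hI2
      omega

/-- The monomial translations. -/
def trans : Subgroup G where
  carrier := {g | ∃ s, Ev s ∧ g = X.μ s 1}
  one_mem' := ⟨0, ev_zero, X.one_eq.symm⟩
  mul_mem' := by
    rintro _ _ ⟨s, hs, rfl⟩ ⟨t, ht, rfl⟩
    exact ⟨_, ev_add hs ht, X.mul_E hs ht⟩
  inv_mem' := by
    rintro _ ⟨s, hs, rfl⟩
    exact ⟨s, hs, inv_eq_of_mul_eq_one_right (by rw [X.mul_E hs hs, add_self, X.one_eq])⟩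

theorem card_trans : Nat.card X.trans = 64 := by
  let f : {s : V2 // Ev s} → X.trans := fun p => ⟨X.μ p.1 1, p.1, p.2, rfl⟩
  have hf : Function.Bijective f := by
    constructor
    · rintro ⟨s, hs⟩ ⟨t, ht⟩ h
      exact Subtype.ext (X.inj s t 1 1 hs ht (map_one _) (map_one _) (congrArg Subtype.val h)).1
    · rintro ⟨g, s, hs, rfl⟩
      exact ⟨⟨s, hs⟩, rfl⟩
  rw [← Nat.card_eq_of_bijective f hf, Nat.card_eq_fintype_card, Fintype.card_subtype, ev_card]

theorem trans_mem_syl {s : V2} (hs : Ev s) : X.μ s 1 ∈ X.syl := ⟨s, 1, hs, D_one, rfl⟩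

theorem W_mem_syl {π : Perm (Fin 7)} (hπ : InD π) : X.μ 0 π ∈ X.syl := ⟨0, π, ev_zero, hπ, rfl⟩

theorem normalizer_le [Finite G] {g : G} (hg : ∀ x ∈ X.syl, g * x * g⁻¹ ∈ X.syl) : g ∈ X.syl := by
  set A := X.trans.map (MulAut.conj g).toMonoidHom with hA
  have hAmem : ∀ s, Ev s → X.μ s 1 ∈ A := fun s hs => X.elem_unique A
    (by rintro _ ⟨_, ⟨t, ht, rfl⟩, rfl⟩; exact hg _ (X.trans_mem_syl ht))
    (by
      rintro _ ⟨_, ⟨t, ht, rfl⟩, rfl⟩
      rw [← map_mul, X.mul_E ht ht, add_self, X.one_eq, map_one])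
    (by rw [hA, Subgroup.card_map_of_injective (MulAut.conj g).injective, X.card_trans]) hs
  have hle : X.trans ≤ A := by rintro _ ⟨s, hs, rfl⟩; exact hAmem s hs
  have heq : X.trans = A := Subgroup.eq_of_le_of_card_ge hle
    (by rw [hA, Subgroup.card_map_of_injective (MulAut.conj g).injective])
  obtain ⟨s, π, hs, hπ, rfl⟩ := X.norm g fun s hs => by
    have h : g * X.μ s 1 * g⁻¹ ∈ X.trans := heq ▸ ⟨_, ⟨s, hs, rfl⟩, rfl⟩
    exact h
  refine ⟨s, π, hs, D_normalizer hπ fun d hd => ?_, rfl⟩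
  have hsplit : X.μ s π = X.μ s 1 * X.μ 0 π := by
    rw [X.mul s 0 1 π hs ev_zero (map_one _) hπ, pm_zero, add_zero, one_mul]
  have h := hg _ (X.W_mem_syl hd)
  rw [hsplit] at h
  have h' := X.syl.mul_mem (X.syl.mul_mem (X.syl.inv_mem (X.trans_mem_syl hs)) h) (X.trans_mem_syl hs)
  have e : (X.μ s 1)⁻¹ * (X.μ s 1 * X.μ 0 π * X.μ 0 d * (X.μ s 1 * X.μ 0 π)⁻¹) * X.μ s 1
      = X.μ 0 (π * d * π⁻¹) := by
    rw [← X.conj_W hπ (D_sign hd)]; group
  rw [e] at h'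
  obtain ⟨t, σ, ht, hσ, he⟩ := h'
  rw [(X.inj _ _ _ _ ev_zero ht (by rw [map_mul, map_mul, hπ, D_sign hd, map_inv, hπ]; simp)
    (D_sign hσ) he).2]
  exact hσ

theorem closed_eq (S : Sylow 2 G) (hS : (S : Subgroup G) = X.syl) (T : Subgroup G)
    (hT : (groupFusionSystem (S : Subgroup G)).StronglyClosed T) (hne : T ≠ ⊥) [Finite G] :
    T = (S : Subgroup G) := by
  haveI : Fact (Nat.Prime 2) := ⟨Nat.prime_two⟩
  obtain ⟨z, hzT, hz1, hzS, hzc⟩ := FusionSimpleCrit.exists_central_mem hT hne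
  rw [hS] at hzS hzc
  obtain ⟨u, π, hu, hπ, rfl⟩ := hzS
  have conjT : ∀ {t g : G}, t ∈ T → g * t * g⁻¹ ∈ X.syl → g * t * g⁻¹ ∈ T := fun ht hg =>
    FusionSimpleCrit.mem_of_conj hT ht (hS.symm ▸ hg)
  have hπ1 : π = 1 := by
    by_contra hne1
    obtain ⟨k, rfl⟩ := hπ
    have hfix : ∀ v, Ev v → pm (De k) v = v := by
      intro v hv
      have h := hzc _ (X.trans_mem_syl hv)
      rw [X.mul v u 1 _ hv hu (map_one _) (De_sign k), X.mul u v _ 1 hu hv (De_sign k) (map_one _),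
        one_mul, mul_one, pm_one, add_comm v u] at h
      exact (add_left_cancel (X.inj _ _ _ _ (ev_add hu hv) (ev_add hu (ev_pm hv)) (De_sign k)
        (De_sign k) h).1).symm
    have h1 := D_fix_one hne1
    have h2 : (Finset.univ.filter fun s : V2 => Ev s ∧ pm (De k) s = s)
        = Finset.univ.filter fun s : V2 => Ev s :=
      Finset.filter_congr fun s _ => ⟨fun h => h.1, fun h => ⟨h, hfix s h⟩⟩
    rw [h2, ev_card] at h1
    omega
  subst hπ1
  let U : V2 → Prop := fun s => Ev s ∧ X.μ s 1 ∈ T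
  have hall : ∀ s, Ev s → X.μ s 1 ∈ T := fun s hs => (module_top U
    (fun s t h h' => ⟨ev_add h.1 h'.1, by rw [← X.mul_E h.1 h'.1]; exact T.mul_mem h.2 h'.2⟩)
    (fun π s hπ h => ⟨ev_pm h.1, by
      rw [← X.conj_E h.1 ev_zero hπ]
      exact conjT h.2 (by rw [X.conj_E h.1 ev_zero hπ]; exact X.trans_mem_syl (ev_pm h.1))⟩)
    (u := u) ⟨hu, hzT⟩ hu (fun h0 => hz1 (h0 ▸ X.one_eq)) hs).2
  obtain ⟨g, hg⟩ := X.fuse
  have hsg : X.μ 0 sg0 ∈ T := by
    rw [← hg]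
    exact conjT (hall _ ev_s0) (by rw [hg]; exact X.W_mem_syl D_sg0)
  have hinv : ∀ {y}, InD y → y * y = 1 → X.μ 0 y ∈ T := by
    intro y hy hy2
    by_cases hy1 : y = 1
    · rw [hy1, X.one_eq]; exact T.one_mem
    obtain ⟨c, hc, rfl⟩ := D_invol hy hy2 hy1
    rw [← X.conj_W hc (D_sign D_sg0)]
    exact conjT hsg (by rw [X.conj_W hc (D_sign D_sg0)]; exact X.W_mem_syl hy)
  refine le_antisymm hT.1 ?_
  rw [hS]
  rintro _ ⟨s, σ, hs, hσ, rfl⟩
  obtain ⟨y, z, hy, hz, hy2, hz2, rfl⟩ := D_gen hσ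
  have e : X.μ s (y * z) = X.μ s 1 * (X.μ 0 y * X.μ 0 z) := by
    rw [X.mul 0 0 y z ev_zero ev_zero (D_sign hy) (D_sign hz), pm_zero, add_zero,
      X.mul s 0 1 _ hs ev_zero (map_one _) (D_sign (D_mul hy hz)), pm_zero, add_zero, one_mul]
  rw [e]
  exact T.mul_mem (hall s hs) (T.mul_mem (hinv hy hy2) (hinv hz hz2))

include X in
/-- The three conclusions. -/
theorem main [Finite G] (S : Sylow 2 G) :
    (groupFusionSystem (S : Subgroup G)).autGroup (S : Subgroup G) = Inn ↥(S : Subgroup G) ∧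
    (∀ T : Subgroup G, (groupFusionSystem (S : Subgroup G)).StronglyClosed T →
      T = ⊥ ∨ T = (S : Subgroup G)) ∧
    (groupFusionSystem (S : Subgroup G)).IsSimple 2 := by
  haveI : Fact (Nat.Prime 2) := ⟨Nat.prime_two⟩
  obtain ⟨Y, hY⟩ := X.exists_frame S
  have hn : Subgroup.normalizer ((S : Subgroup G) : Set G) ≤ (S : Subgroup G) := fun g hg => by
    rw [hY]
    exact Y.normalizer_le fun x hx => hY ▸ (Subgroup.mem_normalizer_iff.1 hg x).1 (hY.symm ▸ hx)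
  have hcl : ∀ T : Subgroup G, (groupFusionSystem (S : Subgroup G)).StronglyClosed T → T ≠ ⊥ →
      T = (S : Subgroup G) := fun T hT h => Y.closed_eq S hY T hT h
  refine ⟨?_, fun T hT => or_iff_not_imp_left.2 (hcl T hT), ?_⟩
  · refine le_antisymm ?_ (inn_le_autGroup le_rfl)
    rw [autGroup_group le_rfl, ← autInducedBy_self]
    intro α hα
    obtain ⟨g, -, hgn, he⟩ := mem_autInducedBy.1 hα
    exact mem_autInducedBy.2 ⟨g, hn hgn, hgn, he⟩
  · refine FusionSimpleCrit.isSimple_of_closed_gen (fun h => ?_) hcl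
      (hn.trans (fun g hg => Subgroup.subset_closure (Or.inl hg)))
    have hc := X.two S
    rw [h, Subgroup.card_bot] at hc
    omega

end Frame

end Cfsg.Agent.FusionOmega7Frame45
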