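import Cfsg.Agent.Lib.FusionOmega7Frame45
import Cfsg.Agent.Lib.OrthUnitaryForms
import Cfsg.Agent.Lib.OrthUnitaryPrelude
import Cfsg.Agent.Lib.QuadClassify

/-!
The monomial data inside the commutator subgroup of the orthogonal group of seven negated squares
over a field in which two is not a square.
-/

set_option autoImplicit false
set_option linter.unusedSectionVars false

namespace Cfsg.Agent.FusionOmega7Orth45

open QuadraticMap
open Cfsg.Agent.OrthUnitaryQuad Cfsg.Agent.OrthUnitaryRefl Cfsg.Agent.OrthUnitaryOmega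
open Cfsg.Agent.FusionOmega7Perm45 Cfsg.Agent.FusionOmega7Frame45
open Equiv Equiv.Perm

/-- Transport along an isomorphism. -/
def frameOfEquiv {G H : Type*} [Group G] [Group H] (e : G ≃* H) (X : Frame H) : Frame G where
  μ s π := e.symm (X.μ s π)
  mul s t π σ hs ht hπ hσ := by rw [← map_mul, X.mul s t π σ hs ht hπ hσ]
  inj s t π σ hs ht hπ hσ he := X.inj s t π σ hs ht hπ hσ (e.symm.injective he)
  norm g hg := by
    obtain ⟨s, π, hs, hπ, he⟩ := X.norm (e g) fun s hs => by
      obtain ⟨t, ht, he⟩ := hg s hs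
      exact ⟨t, ht, e.symm.injective (by
        rw [map_mul, map_mul, map_inv, e.symm_apply_apply]; exact he)⟩
    exact ⟨s, π, hs, hπ, by rw [← he, e.symm_apply_apply]⟩
  fuse := by
    obtain ⟨g, hg⟩ := X.fuse
    exact ⟨e.symm g, by rw [← map_inv, ← map_mul, ← map_mul, hg]⟩
  two P := by
    let P' : Sylow 2 H := P.comapOfInjective e.symm.toMonoidHom e.symm.injective (by
      rw [MonoidHom.range_eq_top.2 e.symm.surjective]; exact le_top)
    rw [← X.two P']
    show _ = Nat.card ((P : Subgroup G).comap e.symm.toMonoidHom)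
    rw [← Subgroup.map_equiv_eq_comap_symm']
    exact (Subgroup.card_map_of_injective e.injective).symm

variable {F : Type*} [Field F]

/-- Seven negated squares. -/
def Qs (F : Type*) [Field F] : QuadraticForm F (Fin 7 → F) :=
  QuadraticMap.weightedSumSquares F fun _ : Fin 7 => (-1 : F)

theorem Qs_apply (x : Fin 7 → F) : Qs F x = -∑ i, x i * x i := by
  simp [Qs, Finset.sum_neg_distrib]

theorem polar_Qs (x y : Fin 7 → F) : polar (Qs F) x y = -2 * ∑ i, x i * y i := by
  simp only [polar, Qs_apply, Pi.add_apply, Finset.mul_sum, ← Finset.sum_neg_distrib,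
    ← Finset.sum_sub_distrib]
  exact Finset.sum_congr rfl fun i _ => by ring

theorem isReg_Qs (h2 : (2 : F) ≠ 0) : IsReg (Qs F) := by
  intro x hx _
  funext i
  have h := hx (Pi.single i 1)
  rw [polar_Qs, Finset.sum_eq_single i (fun j _ hj => by simp [hj]) (by simp)] at h
  simpa [h2] using h

/-- The sign of a bit. -/
def sg (c : ZMod 2) : F := if c = 0 then 1 else -1

theorem sg_zero : sg (F := F) 0 = 1 := rfl

theorem sg_one : sg (F := F) 1 = -1 := if_neg (by decide)

theorem sg_sq (c : ZMod 2) : sg (F := F) c * sg c = 1 := by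
  unfold sg; split_ifs <;> simp

theorem sg_add (a b : ZMod 2) : sg (F := F) (a + b) = sg a * sg b := by
  have h : ∀ c : ZMod 2, c = 0 ∨ c = 1 := by decide
  rcases h a with rfl | rfl <;> rcases h b with rfl | rfl <;>
    simp [sg, show (1 : ZMod 2) + 1 = 0 by decide, show (1 : ZMod 2) ≠ 0 by decide]

theorem sg_inj (h2 : (2 : F) ≠ 0) {a b : ZMod 2} (h : sg (F := F) a = sg b) : a = b := by
  have h01 : ∀ c : ZMod 2, c = 0 ∨ c = 1 := by decide
  rcases h01 a with rfl | rfl <;> rcases h01 b with rfl | rfl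
  · rfl
  · rw [sg_zero, sg_one] at h
    exact absurd (by linear_combination h : (2 : F) = 0) h2
  · rw [sg_zero, sg_one] at h
    exact absurd (by linear_combination -h : (2 : F) = 0) h2
  · rfl

/-- The monomial map. -/
def monoEquiv (s : V2) (π : Perm (Fin 7)) : (Fin 7 → F) ≃ₗ[F] (Fin 7 → F) where
  toFun x i := sg (s i) * x (π.symm i)
  map_add' x y := by funext i; simp [mul_add]
  map_smul' c x := by funext i; simp [mul_left_comm]
  invFun x i := sg (s (π i)) * x (π i)
  left_inv x := by funext i; simp [← mul_assoc, sg_sq]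
  right_inv x := by funext i; simp [← mul_assoc, sg_sq]

/-- The monomial isometry. -/
def mono (s : V2) (π : Perm (Fin 7)) : orth (Qs F) :=
  ⟨monoEquiv s π, fun x => by
    rw [Qs_apply, Qs_apply]
    congr 1
    rw [← Equiv.sum_comp π.symm fun i => x i * x i]
    exact Finset.sum_congr rfl fun i _ => by
      show sg (s i) * x (π.symm i) * (sg (s i) * x (π.symm i)) = _
      rw [mul_mul_mul_comm, sg_sq, one_mul]⟩

theorem mono_apply (s : V2) (π : Perm (Fin 7)) (x : Fin 7 → F) (i : Fin 7) :
    (mono s π : orth (Qs F)).1 x i = sg (s i) * x (π.symm i) := rfl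

theorem mono_mul (s t : V2) (π σ : Perm (Fin 7)) :
    (mono s π : orth (Qs F)) * mono t σ = mono (s + pm π t) (π * σ) := by
  apply orth_ext
  intro x
  funext i
  rw [orth_mul_apply, mono_apply, mono_apply, mono_apply, Pi.add_apply, sg_add, mul_assoc]
  rfl

theorem mono_single (s : V2) (π : Perm (Fin 7)) (i : Fin 7) :
    (mono s π : orth (Qs F)).1 (Pi.single i (1 : F)) = Pi.single (π i) (sg (s (π i))) := by
  funext j
  rw [mono_apply]
  by_cases h : j = π i
  · subst h; simp
  · rw [Pi.single_eq_of_ne h, Pi.single_eq_of_ne (fun hc => h (by rw [← hc, Equiv.apply_symm_apply])),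
      mul_zero]

theorem mono_inj (h2 : (2 : F) ≠ 0) {s t : V2} {π σ : Perm (Fin 7)}
    (h : (mono s π : orth (Qs F)) = mono t σ) : s = t ∧ π = σ := by
  have hp : π = σ := Equiv.ext fun i => by
    by_contra hne
    have h' := congrArg (fun g : orth (Qs F) => g.1 (Pi.single i (1 : F)) (π i)) h
    rw [mono_single, mono_single, Pi.single_eq_same, Pi.single_eq_of_ne hne] at h'
    exact one_ne_zero ((sg_sq (F := F) (s (π i))).symm.trans (by rw [h', mul_zero]))
  subst hp
  refine ⟨funext fun j => sg_inj h2 ?_, rfl⟩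
  have h' := congrArg (fun g : orth (Qs F) => g.1 (Pi.single (π.symm j) (1 : F)) j) h
  simpa [mono_single] using h'

theorem Qs_single (i : Fin 7) : Qs F (Pi.single i 1) = -1 := by
  rw [Qs_apply, Finset.sum_eq_single i (fun j _ hj => by simp [hj]) (by simp)]
  simp

theorem Qs_sub {i j : Fin 7} (hij : i ≠ j) :
    Qs F (Pi.single i 1 - Pi.single j 1) = -2 := by
  rw [Qs_apply, Finset.sum_eq_add i j hij (fun c _ hc => by simp [hc.1, hc.2]) (by simp) (by simp)]
  simp [hij, Ne.symm hij]
  norm_num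

theorem refl_single {i : Fin 7} (h : Qs F (Pi.single i 1) ≠ 0) :
    OrthUnitaryQuad.refl (Qs F) (Pi.single i 1) h = mono (Pi.single i 1) 1 := by
  apply orth_ext
  intro x
  funext k
  rw [OrthUnitaryQuad.refl_apply, mono_apply, Qs_single, polar_Qs,
    Finset.sum_eq_single i (fun j _ hj => by simp [hj]) (by simp)]
  show _ = sg ((Pi.single i 1 : V2) k) * x k
  by_cases hk : k = i
  · subst hk; simp [sg_one]; ring
  · simp [hk, sg_zero]

theorem refl_swap {i j : Fin 7} (hij : i ≠ j) (h2 : (2 : F) ≠ 0)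
    (h : Qs F (Pi.single i 1 - Pi.single j 1) ≠ 0) :
    refl (Qs F) (Pi.single i 1 - Pi.single j 1) h = mono 0 (swap i j) := by
  apply orth_ext
  intro x
  funext k
  rw [OrthUnitaryQuad.refl_apply, mono_apply, Qs_sub hij, polar_Qs,
    Finset.sum_eq_add i j hij (fun c _ hc => by simp [hc.1, hc.2]) (by simp) (by simp)]
  simp only [Pi.zero_apply, sg_zero, one_mul, Pi.sub_apply, Pi.smul_apply, smul_eq_mul,
    Pi.single_eq_same, Pi.single_eq_of_ne hij, Pi.single_eq_of_ne (Ne.symm hij), symm_swap]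
  by_cases hki : k = i
  · subst hki
    rw [swap_apply_left, Pi.single_eq_same, Pi.single_eq_of_ne hij]
    field_simp
    ring
  by_cases hkj : k = j
  · subst hkj
    rw [swap_apply_right, Pi.single_eq_same, Pi.single_eq_of_ne (Ne.symm hij)]
    field_simp
    ring
  rw [swap_apply_of_ne_of_ne hki hkj, Pi.single_eq_of_ne hki, Pi.single_eq_of_ne hkj]
  ring

/-- A character constant on the sign changes and on the transpositions, on monomial maps. -/
theorem char_mono {H : Type*} [CommGroup H] (χ : orth (Qs F) →* H) {a b : H} (hb : b * b = 1)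
    (ha' : ∀ i, χ (mono (Pi.single i 1) 1) = a) (hb' : ∀ i j, i ≠ j → χ (mono 0 (swap i j)) = b)
    (ha : a * a = 1) (s : V2) (π : Perm (Fin 7)) :
    χ (mono s π) = a ^ (∑ i, s i).val * (if sign π = 1 then 1 else b) := by
  have hone : (mono 0 1 : orth (Qs F)) = 1 := orth_ext fun x => funext fun i => one_mul (x i)
  have hπ : χ (mono 0 π) = if sign π = 1 then 1 else b := by
    induction π using Equiv.Perm.swap_induction_on with
    | one => simp [hone]
    | swap_mul f x y hxy ih =>
      have : (mono 0 (swap x y * f) : orth (Qs F)) = mono 0 (swap x y) * mono 0 f := by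
        rw [mono_mul, pm_zero, add_zero]
      rw [this, map_mul, hb' x y hxy, ih, map_mul, sign_swap hxy]
      rcases Int.units_eq_one_or (sign f) with h | h <;> simp [h, hb]
  have hadd : ∀ u v : V2, (mono (u + v) 1 : orth (Qs F)) = mono u 1 * mono v 1 := fun u v => by
    rw [mono_mul, pm_one, one_mul]
  have hs : χ (mono s 1) = a ^ (∑ i, s i).val := by
    have key : ∀ A : Finset (Fin 7),
        χ (mono (∑ i ∈ A, Pi.single i (s i)) 1) = a ^ (∑ i ∈ A, s i).val := by
      intro A
      induction A using Finset.induction with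
      | empty => simp [hone]
      | insert i A hi ih =>
        rw [Finset.sum_insert hi, Finset.sum_insert hi, hadd, map_mul, ih]
        have h01 : ∀ c : ZMod 2, c = 0 ∨ c = 1 := by decide
        rcases h01 (s i) with h | h <;> rw [h]
        · simp [Pi.single_zero, hone]
        · rw [ha' i]
          rcases h01 (∑ j ∈ A, s j) with h' | h' <;> rw [h']
          · simp [ZMod.val_zero, ZMod.val_one]
          · rw [show (1 : ZMod 2) + 1 = 0 by decide, ZMod.val_one, ZMod.val_zero, pow_one, pow_zero, ha]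
    have := key Finset.univ
    rwa [Finset.univ_sum_single] at this
  have hsplit : (mono s π : orth (Qs F)) = mono s 1 * mono 0 π := by
    rw [mono_mul, pm_zero, add_zero, one_mul]
  rw [hsplit, map_mul, hs, hπ]

variable [Fintype F]

/-- The standing facts on the two characters. -/
theorem char_values (h2 : (2 : F) ≠ 0) :
    (∀ s π, detHom (Qs F) (mono s π) = (-1) ^ (∑ i, s i).val * (if sign π = 1 then 1 else -1)) ∧
    (¬ IsSquare (2 : F) → ∃ a : ℤˣ, ∀ s π,
      theta (Qs F) (mono s π) = a ^ (∑ i, s i).val * (if sign π = 1 then 1 else -a)) := by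
  classical
  have h1 : ∀ i : Fin 7, Qs F (Pi.single i 1) ≠ 0 := fun i => by rw [Qs_single]; simp
  have h3 : ∀ i j : Fin 7, i ≠ j → Qs F (Pi.single i 1 - Pi.single j 1) ≠ 0 := fun i j hij => by
    rw [Qs_sub hij]; simpa using h2
  refine ⟨fun s π => char_mono (detHom (Qs F)) (by simp)
    (fun i => by rw [← refl_single (h1 i), detHom_refl])
    (fun i j hij => by rw [← refl_swap hij h2 (h3 i j hij), detHom_refl]) (by simp) s π,
    fun hns => ⟨if IsSquare (-1 : F) then -1 else 1, fun s π => ?_⟩⟩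
  refine char_mono (theta (Qs F)) (Int.units_mul_self _)
    (fun i => by rw [← refl_single (h1 i), theta_refl h2, Qs_single])
    (fun i j hij => ?_) (Int.units_mul_self _) s π
  rw [← refl_swap hij h2 (h3 i j hij), theta_refl h2, Qs_sub hij]
  by_cases hm : IsSquare (-1 : F)
  · have : ¬ IsSquare (-2 : F) := fun hc => hns (by
      have := hm.mul hc
      rwa [show (-1 : F) * -2 = 2 by ring] at this)
    simp [hm, this]
  · have : IsSquare (-2 : F) := by
      have := isSquare_div_of_not hm hns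
      rwa [div_neg, div_one] at this
    simp [hm, this]

theorem mem_comm (h2 : (2 : F) ≠ 0) (g : orth (Qs F)) :
    g ∈ commutator (orth (Qs F)) ↔ detHom (Qs F) g = 1 ∧ theta (Qs F) g = 1 :=
  (odd_main h2 (isReg_Qs h2)).1 g

theorem neg_one_ne (h2 : (2 : F) ≠ 0) : (-1 : Fˣ) ≠ 1 := fun h => h2 (by
  have := congrArg Units.val h
  rw [Units.val_neg, Units.val_one] at this
  linear_combination -this)

theorem mono_mem_iff (h2 : (2 : F) ≠ 0) (hns : ¬ IsSquare (2 : F)) (s : V2) (π : Perm (Fin 7)) :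
    (mono s π : orth (Qs F)) ∈ commutator (orth (Qs F)) ↔ Ev s ∧ sign π = 1 := by
  obtain ⟨hdet, hth⟩ := char_values (F := F) h2
  obtain ⟨a, ha⟩ := hth hns
  rw [mem_comm h2, hdet, ha]
  have h01 : ∀ c : ZMod 2, c = 0 ∨ c = 1 := by decide
  have hev : Ev s ↔ ∑ i, s i = 0 := Iff.rfl
  have hne := neg_one_ne (F := F) h2
  rcases h01 (∑ i, s i) with h | h <;> rcases Int.units_eq_one_or (sign π) with h' | h' <;>
    rcases Int.units_eq_one_or a with ha1 | ha1 <;>
    simp [hev, h, h', ha1, hne, ZMod.val_one]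

/-- Monomiality of the normaliser. -/
theorem norm_mono (h2 : (2 : F) ≠ 0) (g : orth (Qs F))
    (hg : ∀ s, Ev s → ∃ t, Ev t ∧ g * mono s 1 * g⁻¹ = mono t 1) :
    ∃ s π, g = mono s π := by
  classical
  choose f hf hf' using fun s : {s : V2 // Ev s} => hg s.1 s.2
  let f' : {s : V2 // Ev s} → {s : V2 // Ev s} := fun s => ⟨f s, hf s⟩
  have hinj : Function.Injective f' := by
    intro s t h
    have h' : g * mono s.1 1 * g⁻¹ = g * mono t.1 1 * g⁻¹ := by
      rw [hf' s, hf' t, show f s = f t from congrArg Subtype.val h]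
    exact Subtype.ext (mono_inj h2 (mul_left_cancel (mul_right_cancel h'))).1
  have hsurj := Finite.surjective_of_injective hinj
  have hline : ∀ i, ∃ j, ∃ c : ZMod 2, g.1 (Pi.single i (1 : F)) = Pi.single j (sg c) := by
    intro i
    set v := g.1 (Pi.single i (1 : F))
    have hrel : ∀ s : {s : V2 // Ev s}, ∀ j, v j ≠ 0 → f s j = s.1 i := by
      intro s j hj
      have h : g * mono s.1 1 = mono (f s) 1 * g := by rw [← hf' s, inv_mul_cancel_right]
      have h' := congrArg (fun u : orth (Qs F) => u.1 (Pi.single i (1 : F)) j) h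
      simp only [orth_mul_apply, mono_single, Perm.one_apply] at h'
      rw [mono_apply, show Pi.single i (sg (F := F) (s.1 i)) = sg (F := F) (s.1 i) • Pi.single i (1 : F) by
        rw [← Pi.single_smul, smul_eq_mul, mul_one], map_smul, Pi.smul_apply, smul_eq_mul] at h'
      exact (sg_inj h2 (mul_right_cancel₀ hj h')).symm
    have hv : v ≠ 0 := fun h => by
      have := g.1.injective (h.trans (map_zero g.1).symm)
      simpa using congrFun this i
    obtain ⟨j, hj⟩ := Function.ne_iff.1 hv
    have hother : ∀ k, k ≠ j → v k = 0 := by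
      intro k hk
      by_contra hk0
      obtain ⟨l, hl⟩ : ∃ l : Fin 7, l ≠ j ∧ l ≠ k := by
        by_contra hc
        push Not at hc
        have h1 : (Finset.univ : Finset (Fin 7)) ⊆ {j, k} := fun x _ => by
          by_cases hx : x = j
          · simp [hx]
          · simp [hc x hx]
        have h2 := Finset.card_le_card h1
        simp [Finset.card_pair (Ne.symm hk)] at h2
      have hev : Ev (Pi.single j 1 + Pi.single l 1 : V2) := by
        simp [Ev, Finset.sum_add_distrib, show (1 : ZMod 2) + 1 = 0 by decide]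
      obtain ⟨s, hs⟩ := hsurj ⟨_, hev⟩
      have hs' : f s = Pi.single j 1 + Pi.single l 1 := congrArg Subtype.val hs
      have e1 := hrel s j hj
      have e2 := hrel s k hk0
      rw [hs', Pi.add_apply, Pi.single_eq_same, Pi.single_eq_of_ne (Ne.symm hl.1)] at e1
      rw [hs', Pi.add_apply, Pi.single_eq_of_ne hk, Pi.single_eq_of_ne (Ne.symm hl.2)] at e2
      rw [← e2] at e1
      simp at e1
    have hsingle : v = Pi.single j (v j) := funext fun k => by
      by_cases hk : k = j
      · subst hk; rw [Pi.single_eq_same]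
      · rw [Pi.single_eq_of_ne hk]; exact hother k hk
    have hq : Qs F v = -1 := by rw [map_orth g, Qs_single]
    rw [hsingle, Qs_apply, Finset.sum_eq_single j (fun k _ hk => by simp [hk]) (by simp),
      Pi.single_eq_same, neg_inj, mul_self_eq_one_iff] at hq
    rcases hq with h | h
    · exact ⟨j, 0, by rw [hsingle, h, sg_zero]⟩
    · exact ⟨j, 1, by rw [hsingle, h, sg_one]⟩
  choose p c hp using hline
  have hpinj : Function.Injective p := by
    intro i i' h
    by_contra hne
    have e : g.1 ((sg (F := F) (c i)) • Pi.single i (1 : F))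
        = g.1 ((sg (F := F) (c i')) • Pi.single i' (1 : F)) := by
      rw [map_smul, map_smul, hp, hp, h, ← Pi.single_smul, ← Pi.single_smul, smul_eq_mul, smul_eq_mul,
        sg_sq, sg_sq]
    have := congrFun (g.1.injective e) i
    rw [Pi.smul_apply, Pi.smul_apply, Pi.single_eq_same, Pi.single_eq_of_ne hne, smul_eq_mul,
      smul_eq_mul, mul_one, mul_zero] at this
    exact one_ne_zero ((sg_sq (F := F) (c i)).symm.trans (by rw [this, mul_zero]))
  let π : Perm (Fin 7) := Equiv.ofBijective p (Finite.injective_iff_bijective.1 hpinj)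
  refine ⟨fun j => c (π.symm j), π, orth_ext fun x => ?_⟩
  have hx : x = ∑ i, x i • Pi.single i (1 : F) := pi_eq_sum_univ' x
  rw [hx, map_sum, map_sum]
  refine Finset.sum_congr rfl fun i _ => ?_
  rw [map_smul, map_smul, mono_single, Equiv.symm_apply_apply, hp]
  rfl

theorem det_cases (h2 : (2 : F) ≠ 0) (g : orth (Qs F)) :
    detHom (Qs F) g = 1 ∨ detHom (Qs F) g = -1 := by
  have hgen := reflGroup_eq_top (isReg_Qs (F := F) h2) (Or.inl ⟨-1, neg_ne_zero.2 one_ne_zero,
    fun h => h2 (by linear_combination -h)⟩)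
  have hg : g ∈ reflGroup (Qs F) := hgen ▸ Subgroup.mem_top g
  induction hg using Subgroup.closure_induction with
  | mem y hy => obtain ⟨v, hv, rfl⟩ := hy; exact Or.inr (detHom_refl v hv)
  | one => exact Or.inl (map_one _)
  | mul y z _ _ hy hz => rw [map_mul]; rcases hy with h | h <;> rcases hz with h' | h' <;> simp [h, h']
  | inv y _ hy => rw [map_inv]; rcases hy with h | h <;> simp [h]

/-- The rotation realising the extra fusion. -/
theorem exists_fuse_orth (h2 : (2 : F) ≠ 0) :
    ∃ g : orth (Qs F), g * mono s0 1 = mono 0 sg0 * g := by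
  obtain ⟨α, β, hab⟩ := QuadClassify.exists_two_squares (F := F) h2 (a := 2) (b := 2) h2 h2 1
  let gf : (Fin 7 → F) ≃ₗ[F] (Fin 7 → F) :=
    { toFun := fun x => ![α * x 0 - β * x 1 + α * x 2 - β * x 3,
        β * x 0 + α * x 1 + β * x 2 + α * x 3, -α * x 0 + β * x 1 + α * x 2 - β * x 3,
        -β * x 0 - α * x 1 + β * x 2 + α * x 3, x 4, x 5, x 6]
      map_add' := fun x y => by funext i; fin_cases i <;> simp <;> ring
      map_smul' := fun c x => by funext i; fin_cases i <;> simp <;> ring
      invFun := fun y => ![α * y 0 + β * y 1 - α * y 2 - β * y 3,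
        -β * y 0 + α * y 1 + β * y 2 - α * y 3, α * y 0 + β * y 1 + α * y 2 + β * y 3,
        -β * y 0 + α * y 1 - β * y 2 + α * y 3, y 4, y 5, y 6]
      left_inv := fun x => by
        funext i
        fin_cases i <;> simp
        · linear_combination x 0 * hab
        · linear_combination x 1 * hab
        · linear_combination x 2 * hab
        · linear_combination x 3 * hab
      right_inv := fun x => by
        funext i
        fin_cases i <;> simp
        · linear_combination x 0 * hab
        · linear_combination x 1 * hab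
        · linear_combination x 2 * hab
        · linear_combination x 3 * hab }
  obtain ⟨g, hgap⟩ : ∃ g : orth (Qs F), ∀ x, g.1 x = gf x := by
    refine ⟨⟨gf, fun x => ?_⟩, fun _ => rfl⟩
    rw [Qs_apply, Qs_apply, neg_inj]
    simp [gf, Fin.sum_univ_seven]
    linear_combination (x 0 * x 0 + x 1 * x 1 + x 2 * x 2 + x 3 * x 3) * hab
  refine ⟨g, orth_ext fun x => ?_⟩
  · show g.1 ((mono s0 1 : orth (Qs F)).1 x) = (mono 0 sg0 : orth (Qs F)).1 (g.1 x)
    rw [hgap, hgap]
    funext i
    rw [mono_apply 0 sg0, Pi.zero_apply, sg_zero, one_mul]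
    have hT : ∀ i, sg0.symm i = T 2 i := by decide +kernel
    rw [hT]
    have e : ∀ i, (mono s0 1 : orth (Qs F)).1 x i = sg (s0 i) * x i := fun i => rfl
    generalize (mono s0 1 : orth (Qs F)).1 x = y at e ⊢
    obtain rfl : y = fun i => sg (s0 i) * x i := funext e
    fin_cases i <;> simp [gf, T, s0, sg_zero, sg_one] <;> ring

theorem exists_fuse (h2 : (2 : F) ≠ 0) (hns : ¬ IsSquare (2 : F)) :
    ∃ g ∈ commutator (orth (Qs F)), g * mono s0 1 * g⁻¹ = (mono 0 sg0 : orth (Qs F)) := by
  obtain ⟨g, hg⟩ := exists_fuse_orth (F := F) h2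
  obtain ⟨hdet, hth⟩ := char_values (F := F) h2
  obtain ⟨a, ha⟩ := hth hns
  have hc1 : Commute (mono (Pi.single 2 1) 1 : orth (Qs F)) (mono s0 1) := by
    rw [Commute, SemiconjBy, mono_mul, mono_mul, pm_one, pm_one, add_comm]
  have hc2 : Commute (mono 0 (swap 2 3) : orth (Qs F)) (mono s0 1) := by
    rw [Commute, SemiconjBy, mono_mul, mono_mul, pm_zero, show pm (swap 2 3) s0 = s0 by decide +kernel,
      zero_add, add_zero, mul_one, one_mul]
  have fin : ∀ k : orth (Qs F), Commute k (mono s0 1) → detHom (Qs F) g * detHom (Qs F) k = 1 →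
      theta (Qs F) g * theta (Qs F) k = 1 →
      ∃ g ∈ commutator (orth (Qs F)), g * mono s0 1 * g⁻¹ = (mono 0 sg0 : orth (Qs F)) := by
    intro k hk hd ht
    refine ⟨g * k, (mem_comm h2 _).2 ⟨by rw [map_mul, hd], by rw [map_mul, ht]⟩, ?_⟩
    rw [mul_inv_eq_iff_eq_mul, mul_assoc, hk.eq, ← mul_assoc, hg, mul_assoc]
  have e1 : detHom (Qs F) (mono (Pi.single 2 1) 1) = -1 := by simp [hdet, ZMod.val_one]
  have e2 : detHom (Qs F) (mono 0 (swap 2 3)) = -1 := by simp [hdet, sign_swap]
  have t1 : theta (Qs F) (mono (Pi.single 2 1) 1) = a := by simp [ha, ZMod.val_one]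
  have t2 : theta (Qs F) (mono 0 (swap 2 3)) = -a := by simp [ha, sign_swap]
  rcases det_cases h2 g with hd | hd <;>
    rcases Int.units_eq_one_or (theta (Qs F) g) with ht | ht
  · exact fin 1 (Commute.one_left _) (by simp [hd]) (by simp [ht])
  · exact fin _ (hc1.mul_left hc2) (by simp [map_mul, hd, e1, e2])
      (by rw [map_mul, ht, t1, t2, mul_neg, Int.units_mul_self]; simp)
  · rcases Int.units_eq_one_or a with h | h
    · exact fin _ hc1 (by simp [hd, e1]) (by simp [ht, t1, h])
    · exact fin _ hc2 (by simp [hd, e2]) (by simp [ht, t2, h])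
  · rcases Int.units_eq_one_or a with h | h
    · exact fin _ hc2 (by simp [hd, e2]) (by simp [ht, t2, h])
    · exact fin _ hc1 (by simp [hd, e1]) (by simp [ht, t1, h])

/-- An isometry from seven negated squares to the standard odd form. -/
theorem exists_equiv (h2 : (2 : F) ≠ 0) :
    ∃ e : (Fin 7 → F) ≃ₗ[F] (Unit ⊕ (Fin 3 ⊕ Fin 3) → F),
      ∀ x, QuadClassify.qOdd 3 F (e x) = Qs F x := by
  obtain ⟨a, b, hab⟩ := QuadClassify.exists_two_squares (F := F) h2 (a := 1) (b := 1) one_ne_zero
    one_ne_zero (-1)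
  let p : (Fin 7 → F) → Fin 3 → F :=
    fun y => ![-b * y 0 + a * y 1, a * y 2 + b * y 3, -b * y 2 + a * y 3]
  let n : (Fin 7 → F) → Fin 3 → F := fun y => ![y 4, y 5, y 6]
  let L : (Fin 7 → F) →ₗ[F] (Unit ⊕ (Fin 3 ⊕ Fin 3) → F) :=
    { toFun := fun y => Sum.elim (fun _ => a * y 0 + b * y 1)
        (Sum.elim (fun i => p y i + n y i) (fun i => p y i - n y i))
      map_add' := fun x y => by
        funext i
        rcases i with _ | i | i
        · simp; ring
        · fin_cases i <;> simp [p, n] <;> ring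
        · fin_cases i <;> simp [p, n] <;> ring
      map_smul' := fun c y => by
        funext i
        rcases i with _ | i | i
        · simp; ring
        · fin_cases i <;> simp [p, n] <;> ring
        · fin_cases i <;> simp [p, n] <;> ring }
  have hinj : Function.Injective L := by
    rw [← LinearMap.ker_eq_bot, LinearMap.ker_eq_bot']
    intro y hy
    have h0 : a * y 0 + b * y 1 = 0 := congrFun hy (Sum.inl ())
    have hp : ∀ i, p y i + n y i = 0 := fun i => congrFun hy (Sum.inr (Sum.inl i))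
    have hn : ∀ i, p y i - n y i = 0 := fun i => congrFun hy (Sum.inr (Sum.inr i))
    have hn0 : ∀ i, n y i = 0 := fun i =>
      mul_left_cancel₀ h2 (by linear_combination hp i - hn i)
    have hp0 : ∀ i, p y i = 0 := fun i => by linear_combination hp i - hn0 i
    have q0 : -b * y 0 + a * y 1 = 0 := hp0 0
    have q1 : a * y 2 + b * y 3 = 0 := hp0 1
    have q2 : -b * y 2 + a * y 3 = 0 := hp0 2
    funext i
    fin_cases i
    · show y 0 = 0; linear_combination (-a) * h0 + b * q0 + y 0 * hab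
    · show y 1 = 0; linear_combination (-b) * h0 + (-a) * q0 + y 1 * hab
    · show y 2 = 0; linear_combination (-a) * q1 + b * q2 + y 2 * hab
    · show y 3 = 0; linear_combination (-b) * q1 + (-a) * q2 + y 3 * hab
    · exact hn0 0
    · exact hn0 1
    · exact hn0 2
  refine ⟨LinearMap.linearEquivOfInjective L hinj (by
    rw [Module.finrank_fintype_fun_eq_card, Module.finrank_fintype_fun_eq_card]; rfl), fun x => ?_⟩
  rw [QuadClassify.qOdd_apply, Qs_apply, LinearMap.linearEquivOfInjective_apply]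
  simp [L, Cfsg.quadFormOdd, p, n, Fin.sum_univ_three, Fin.sum_univ_seven]
  linear_combination (x 0 * x 0 + x 1 * x 1 + x 2 * x 2 + x 3 * x 3) * hab

/-- The monomial data in the standard seven-dimensional group. -/
theorem nonempty_frame [DecidableEq F] {q : ℕ} (hF : Fintype.card F = q)
    (hq : q % 8 = 3 ∨ q % 8 = 5) :
    Nonempty (Frame ↥(Cfsg.Omega F (Cfsg.quadFormOdd 3 F))) := by
  have hodd : Odd q := by rw [Nat.odd_iff]; omega
  have h2 : (2 : F) ≠ 0 := OrthUnitaryForms.two_ne_zero_of_odd hF hodd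
  have hns : ¬ IsSquare (2 : F) := by
    rw [FiniteField.isSquare_two_iff, hF]; omega
  obtain ⟨e, he⟩ := exists_equiv (F := F) h2
  let Φ : Cfsg.isometryGroup F (Cfsg.quadFormOdd 3 F) ≃* orth (Qs F) :=
    (isometryGroupEquiv (QuadClassify.qOdd 3 F) (Cfsg.quadFormOdd 3 F)
      fun v => (QuadClassify.qOdd_apply 3 v).symm).trans (orthCongr e he).symm
  let Ψ : ↥(Cfsg.Omega F (Cfsg.quadFormOdd 3 F)) ≃* ↥(commutator (orth (Qs F))) :=
    (Φ.subgroupMap (Cfsg.Omega F (Cfsg.quadFormOdd 3 F))).trans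
      (MulEquiv.subgroupCongr (map_commutator_equiv Φ))
  haveI : Finite (Fin 7 → F) := inferInstance
  haveI := finite_orth (Qs F)
  have hcard : 4 * Nat.card (commutator (orth (Qs F)))
      = 2 * q ^ 9 * ((q ^ 2 - 1) * (q ^ 4 - 1) * (q ^ 6 - 1)) := by
    have h := (odd_main h2 (isReg_Qs (F := F) h2)).2 (by simp)
    have h' := Subgroup.card_mul_index (commutator (orth (Qs F)))
    rw [h, ← Nat.card_congr Φ.toEquiv, OrthUnitaryForms.card_isometryGroup_odd hF hodd 3] at h'
    simp only [Finset.prod_range_succ, Finset.prod_range_zero, one_mul] at h'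
    norm_num at h' ⊢
    linarith
  obtain ⟨u, hu, hu2⟩ : ∃ u, Odd u ∧ q ^ 2 = 8 * u + 1 := by
    obtain ⟨j, hj⟩ : ∃ j, q = 8 * j + 3 ∨ q = 8 * j + 5 := ⟨q / 8, by omega⟩
    rcases hj with rfl | rfl
    · exact ⟨8 * j ^ 2 + 6 * j + 1, ⟨4 * j ^ 2 + 3 * j, by ring⟩, by ring⟩
    · exact ⟨8 * j ^ 2 + 10 * j + 3, ⟨4 * j ^ 2 + 5 * j + 1, by ring⟩, by ring⟩
  have hfact : Nat.card (commutator (orth (Qs F)))
      = 2 ^ 9 * (q ^ 9 * (u * (4 * u ^ 2 + u) * (64 * u ^ 3 + 24 * u ^ 2 + 3 * u))) := by
    have h4 : q ^ 4 - 1 = 16 * (4 * u ^ 2 + u) := by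
      rw [show q ^ 4 = (q ^ 2) ^ 2 by ring, hu2,
        show (8 * u + 1) ^ 2 = 16 * (4 * u ^ 2 + u) + 1 by ring, Nat.add_sub_cancel]
    have h6 : q ^ 6 - 1 = 8 * (64 * u ^ 3 + 24 * u ^ 2 + 3 * u) := by
      rw [show q ^ 6 = (q ^ 2) ^ 3 by ring, hu2,
        show (8 * u + 1) ^ 3 = 8 * (64 * u ^ 3 + 24 * u ^ 2 + 3 * u) + 1 by ring, Nat.add_sub_cancel]
    rw [h4, h6, hu2, Nat.add_sub_cancel] at hcard
    linarith
  have htwo : ∀ P : Sylow 2 (commutator (orth (Qs F))),
      Nat.card (P : Subgroup (commutator (orth (Qs F)))) = 512 := by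
    intro P
    haveI : Fact (Nat.Prime 2) := ⟨Nat.prime_two⟩
    rw [P.card_eq_multiplicity, hfact]
    have hmo : Odd (q ^ 9 * (u * (4 * u ^ 2 + u) * (64 * u ^ 3 + 24 * u ^ 2 + 3 * u))) := by
      obtain ⟨w, hw⟩ := hu
      have o1 : Odd (4 * u ^ 2 + u) := ⟨2 * u ^ 2 + w, by rw [hw]; ring⟩
      have o2 : Odd (64 * u ^ 3 + 24 * u ^ 2 + 3 * u) :=
        ⟨32 * u ^ 3 + 12 * u ^ 2 + 3 * w + 1, by rw [hw]; ring⟩
      exact hodd.pow.mul ((Odd.mul ⟨w, hw⟩ o1).mul o2)
    rw [Nat.factorization_mul (by norm_num) hmo.pos.ne', Finsupp.add_apply,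
      Nat.factorization_eq_zero_of_not_dvd (n := q ^ 9 * _) (fun hc => by
        rw [Nat.odd_iff] at hmo; omega), Nat.Prime.factorization_pow Nat.prime_two, Finsupp.single_eq_same]
    rfl
  have mem := mono_mem_iff (F := F) h2 hns
  refine ⟨frameOfEquiv Ψ
    { μ := fun s π => if h : Ev s ∧ sign π = 1 then ⟨mono s π, (mem s π).2 h⟩ else 1
      mul := fun s t π σ hs ht hπ hσ => ?_
      inj := fun s t π σ hs ht hπ hσ h => ?_
      norm := fun g hg => ?_
      fuse := ?_
      two := htwo }⟩
  · rw [dif_pos ⟨hs, hπ⟩, dif_pos ⟨ht, hσ⟩,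
      dif_pos ⟨ev_add hs (ev_pm ht), by rw [map_mul, hπ, hσ, mul_one]⟩]
    exact Subtype.ext (mono_mul s t π σ)
  · rw [dif_pos ⟨hs, hπ⟩, dif_pos ⟨ht, hσ⟩] at h
    exact mono_inj h2 (congrArg Subtype.val h)
  · obtain ⟨s, π, h⟩ := norm_mono h2 g.1 fun s hs => by
      obtain ⟨t, ht, h⟩ := hg s hs
      rw [dif_pos ⟨hs, map_one _⟩, dif_pos ⟨ht, map_one _⟩] at h
      exact ⟨t, ht, congrArg Subtype.val h⟩
    have hm := (mem s π).1 (h ▸ g.2)
    exact ⟨s, π, hm.1, hm.2, by rw [dif_pos hm]; exact Subtype.ext h⟩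
  · obtain ⟨g, hg, h⟩ := exists_fuse (F := F) h2 hns
    refine ⟨⟨g, hg⟩, ?_⟩
    rw [dif_pos ⟨ev_s0, map_one _⟩, dif_pos ⟨ev_zero, D_sign D_sg0⟩]
    exact Subtype.ext h

end Cfsg.Agent.FusionOmega7Orth45
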