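import Cfsg.Agent.Lib.FusionTransfer
import Cfsg.Agent.Lib.FusionSysNormal

/-!
The stable homomorphism of a semicharacteristic biset on the whole `p`-group, with its values orbit
by orbit.
-/

set_option autoImplicit false

namespace Cfsg.Agent.FusionOrbits89

open Cfsg Cfsg.FusionSystem Cfsg.Agent.FusionSysBasic Cfsg.Agent.FusionBiset
open Cfsg.Agent.FusionMarks Cfsg.Agent.FusionCocycle Cfsg.Agent.FusionTransfer

variable {Ω : Type*} [Group Ω] {S : Subgroup Ω} {F : FusionSystem S} {p : ℕ}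
  {A : Type*} [CommGroup A] [Finite S] {χ : Ω → A}

/-- The transfer cocycle of `χ` along a twisted diagonal. -/
noncomputable def lam (χ : Ω → A) (L : Subgroup (↥S × ↥S)) (s : ↥S) (q : Pts L) : A :=
  χ (snd' L (fac L s q) : Ω)

theorem lam_mul (hχ : IsInvHom S S χ) {L : Subgroup (↥S × ↥S)} (hL : Diag F L) (s t : ↥S)
    (q : Pts L) : lam χ L (s * t) q = lam χ L s (t • q) * lam χ L t q := by
  simp only [lam, fac_mul, snd'_mul hL (fac_mem L _ _) (fac_mem L _ _), Subgroup.coe_mul]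
  exact hχ.mul _ (SetLike.coe_mem _) _ (SetLike.coe_mem _)

theorem stronglyClosed_self : F.StronglyClosed S :=
  FusionSysNormal.stronglyClosed_iff.2 ⟨le_rfl, fun _ _ _ hf _ hx => hf.apply_mem hx⟩

noncomputable instance (L : Subgroup (↥S × ↥S)) : Fintype (Pts L) := Fintype.ofFinite _

/-- The transfer along a twisted diagonal. -/
noncomputable def tr (χ : Ω → A) (L : Subgroup (↥S × ↥S)) (x : ↥S) : A :=
  ∏ q : Pts L, lam χ L x q

/-- The indices. -/
abbrev Idx (F : FusionSystem S) : Type _ := {L : Subgroup (↥S × ↥S) // Diag F L}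

noncomputable instance : Fintype (Idx F) := Fintype.ofFinite _

set_option maxHeartbeats 800000 in
theorem exists_stable [hp : Fact p.Prime] (hS : IsPGroup p S) (hF : F.IsSaturated p)
    (hχ : IsInvHom S S χ) :
    ∃ a : Idx F → ℤ, (¬ (p : ℤ) ∣ ∑ L : Idx F, a L * (Nat.card (Pts L.1) : ℤ)) ∧
      ∀ (P : Subgroup Ω) (g : Ω → Ω), Mor F P g → ∀ x y : ↥S, (x : Ω) ∈ P → g (x : Ω) = (y : Ω) →
        ∏ L : Idx F, tr χ L.1 x ^ a L = ∏ L : Idx F, tr χ L.1 y ^ a L := by
  classical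
  obtain ⟨a, ha, hst, hdeg⟩ := exists_biset hS hF
  refine ⟨fun L => a L.1, ?_⟩
  haveI : Fintype ↥S := Fintype.ofFinite _
  set ι := Idx F
  have hdeg' : (∑ L : ι, a L.1 * (Nat.card (Pts L.1) : ℤ)) = degree a := by
    rw [degree, ← Finset.sum_subset (Finset.subset_univ
      (Finset.univ.filter fun L => Diag F L)) (fun L _ hL => by
        rw [by_contra (fun h => hL (Finset.mem_filter.mpr ⟨Finset.mem_univ _, ha L h⟩)), zero_mul])]
    rw [Finset.sum_subtype (Finset.univ.filter fun L => Diag F L) (p := fun L => Diag F L)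
      (by simp) (fun L => a L * ((Nat.card S / Nat.card L : ℕ) : ℤ))]
    refine Finset.sum_congr rfl fun L _ => ?_
    congr 2
    rw [← card_fstS L.2,
      Subgroup.card_eq_card_quotient_mul_card_subgroup (fstS L.1),
      Nat.mul_div_cancel _ Nat.card_pos]
  refine ⟨hdeg' ▸ hdeg, fun P g hg x y hxP hxy => ?_⟩
  have hT := stronglyClosed_self (F := F)
  let w : ∀ L : ι, (S.subgroupOf S) → Pts L.1 → A := fun L => wT (T := S) χ L.1 1
  have hsig : ∀ (L : ι) (s : S.subgroupOf S) (q : Pts L.1), sig L.1 1 (s : ↥S) q ∈ S := by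
    intro L s q
    refine S.mul_mem (S.mul_mem (SetLike.coe_mem _) ?_) (S.inv_mem (SetLike.coe_mem _))
    rw [OneMemClass.coe_one, cj_one]
    exact SetLike.coe_mem _
  have hw : ∀ L : ι, ∀ s t q, w L (s * t) q = w L s (t • q) * w L t q := by
    intro L s t q
    show χ _ = χ _ * χ _
    rw [← hχ.mul _ (hsig L s _) _ (hsig L t _)]
    exact congrArg χ (sig_mul L.2 _ _ _ _)
  have htel : ∀ (L : ι) (s : S.subgroupOf S),
      ∏ q, w L s q = ∏ q, lam χ L.1 (s : ↥S) q := by
    intro L s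
    have h1 : ∀ q, w L s q = χ (((s : ↥S) • q).out : Ω) * lam χ L.1 (s : ↥S) q * (χ (q.out : Ω))⁻¹ := by
      intro q
      have h2 : ∀ z ∈ S, χ z⁻¹ = (χ z)⁻¹ := fun z hz => eq_inv_of_mul_eq_one_left (by
        rw [← hχ.mul _ (S.inv_mem hz) _ hz, inv_mul_cancel, hχ.map_one])
      show χ (sig L.1 1 (s : ↥S) q) = _
      rw [sig, OneMemClass.coe_one, cj_one,
        hχ.mul _ (S.mul_mem (SetLike.coe_mem _) (SetLike.coe_mem _)) _
          (S.inv_mem (SetLike.coe_mem _)),
        hχ.mul _ (SetLike.coe_mem _) _ (SetLike.coe_mem _), h2 _ (SetLike.coe_mem _)]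
      rfl
    simp only [h1, Finset.prod_mul_distrib, Finset.prod_inv_distrib]
    rw [show (∏ q : Pts L.1, χ (((s : ↥S) • q).out : Ω)) = ∏ q : Pts L.1, χ (q.out : Ω) from
      Equiv.prod_comp (MulAction.toPerm (s : ↥S)) (fun q : Pts L.1 => χ (q.out : Ω))]
    exact mul_inv_cancel_comm _ _
  set tg : S.subgroupOf S := ⟨y, Subgroup.mem_subgroupOf.mpr y.2⟩
  set tx : S.subgroupOf S := ⟨x, Subgroup.mem_subgroupOf.mpr x.2⟩
  have hx' : ∀ L : ι, tr χ L.1 x = ∏ q, w L tx q := fun L => (htel L tx).symm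
  have hy' : ∀ L : ι, tr χ L.1 y = ∏ q, w L tg q := fun L => (htel L tg).symm
  simp only [hx', hy']
  refine prod_zpow_total_eq (fun L => w L) hw (fun L : ι => a L.1) tx tg fun k hk c => ?_
  refine mul_right_cancel₀ (b := (Nat.card S : ℤ)) (by exact_mod_cast Nat.card_pos.ne') ?_
  have key : ∀ t : S.subgroupOf S,
      (∑ L : ι, a L.1 * (count (w L) t k c : ℤ)) * (Nat.card S : ℤ) =
        ∑ z ∈ Finset.univ.filter (fun z : ↥S => (z : Ω) ∈ S ∧ χ z = c),
          marks a (Subgroup.zpowers (((t ^ k : S.subgroupOf S) : ↥S), z)) := by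
    intro t
    rw [Finset.sum_mul]
    simp only [marks]
    rw [Finset.sum_comm, ← Finset.sum_subset (Finset.subset_univ
      (Finset.univ.filter fun L => Diag F L)) (fun L _ hL => Finset.sum_eq_zero fun z _ => by
        rw [by_contra (fun h => hL (Finset.mem_filter.mpr ⟨Finset.mem_univ _, ha L h⟩)),
          zero_mul])]
    rw [Finset.sum_subtype (Finset.univ.filter fun L => Diag F L) (p := fun L => Diag F L)
      (by simp) (fun L => ∑ z ∈ Finset.univ.filter (fun z : ↥S => (z : Ω) ∈ S ∧ χ z = c),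
        a L * (mark L (Subgroup.zpowers (((t ^ k : S.subgroupOf S) : ↥S), z)) : ℤ))]
    refine Finset.sum_congr rfl fun L _ => ?_
    rw [← Finset.mul_sum, mul_assoc, ← Nat.cast_mul, count_mul_card hT hχ L.2, Nat.cast_sum]
  rw [key, key]
  refine Finset.sum_congr rfl fun z _ => ?_
  set u : ↥S := ((tx ^ k : S.subgroupOf S) : ↥S)
  set v : ↥S := ((tg ^ k : S.subgroupOf S) : ↥S)
  have hu : (u : Ω) = (x : Ω) ^ k := by simp [u, tx]
  have hgp : ∀ n : ℕ, g ((x : Ω) ^ n) = g x ^ n := fun n => by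
    induction n with
    | zero => rw [pow_zero, pow_zero, hg.map_one]
    | succ n ih => rw [pow_succ, hg.map_mul (pow_mem hxP n) hxP, ih, pow_succ]
  have hv : (v : Ω) = g x ^ k := by simp [v, tg, hxy]
  have hmove : ∀ {h : Ω → Ω} {P' : Subgroup Ω} {w' : Ω}, Mor F (Subgroup.zpowers (z : Ω)) h →
      h z = w' → w' ∈ P' → ∀ e ∈ Subgroup.zpowers (z : Ω), h e ∈ P' := by
    intro h P' w' hh he hw' e hem
    obtain ⟨j, rfl⟩ := Subgroup.mem_zpowers_iff.mp hem
    have : h ((z : Ω) ^ j) = w' ^ j := by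
      rw [← he]
      exact map_zpow
        ({ toFun := fun y => h y
           map_one' := hh.map_one
           map_mul' := fun a c => hh.map_mul a.2 c.2 } : Subgroup.zpowers (z : Ω) →* Ω)
        ⟨z, Subgroup.mem_zpowers _⟩ j
    rw [this]
    exact zpow_mem hw' j
  by_cases hd : Diag F (Subgroup.zpowers ((u, z) : ↥S × ↥S))
  · refine (hst _ _ ?_ hd (Nat.zero_le _) (by rw [sndImg_zpowers, sndImg_zpowers])).symm
    obtain ⟨h, hh, he⟩ := mem_diag_zpowers.mp hd
    refine mem_diag_zpowers.mpr ⟨g ∘ h, hh.comp hg (hmove hh (he.trans hu) (pow_mem hxP k)), ?_⟩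
    show g (h z) = v
    rw [he, hu, hgp, hv]
  · rw [marks_eq_zero ha hd, marks_eq_zero ha]
    intro hd'
    refine hd ?_
    obtain ⟨h, hh, he⟩ := mem_diag_zpowers.mp hd'
    obtain ⟨i, hi, hil, -, -⟩ := hg.exists_inv
    refine mem_diag_zpowers.mpr ⟨i ∘ h,
      hh.comp hi (hmove hh (he.trans hv) (pow_mem (apply_mem_im hxP) k)), ?_⟩
    show i (h z) = u
    rw [he, hv, ← hgp, hil _ (pow_mem hxP k), hu]

end Cfsg.Agent.FusionOrbits89
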