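import Cfsg.Agent.Lib.FusionMeetKey
import Cfsg.Agent.Lib.FusionResidualNormal88
import Cfsg.Agent.S5120

/-!
The `p`-residual of a normal subsystem is normal: for `E ◁ F` over `T`, the saturated subsystem of
`p`-power index of `E` over the hyperfocal subgroup of `E` is normal in `F` (`normal_residual`).
-/

set_option autoImplicit false

namespace Cfsg.Agent.FusionPResidualNormal5

open Cfsg Cfsg.FusionSystem Cfsg.Agent.FusionSysBasic Cfsg.Agent.FusionSysSaturated
open Cfsg.Agent.FusionSysNormal Cfsg.Agent.FusionKit88 Cfsg.Agent.FusionInduct88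
open Cfsg.Agent.FusionSysNormalizer Cfsg.Agent.FusionCentralizerSub
open Cfsg.Agent.FusionResidualNormal88 (Good good_congr good_comp good_inv)

variable {Ω : Type*} [Group Ω] {S T : Subgroup Ω} [Finite S] {F : FusionSystem S}
  {E : FusionSystem T} {p : ℕ} [Fact p.Prime] {E1 : FusionSystem (E.hyperfocalSubgroup p)}

local notation "H" => E.hyperfocalSubgroup p

/-- A normal `p`-subgroup of the automizer of a fully normalized subgroup is induced. -/
theorem le_autInducedBy (hS : IsPGroup p S) (hF : F.IsSaturated p) {P : Subgroup Ω}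
    (hP : F.IsFullyNormalized P) {K : Subgroup (MulAut P)} (hKA : K ≤ F.autGroup P)
    (hn : ∀ a ∈ F.autGroup P, ∀ k ∈ K, a * k * a⁻¹ ∈ K) (hK : IsPGroup p K) :
    K ≤ autInducedBy S P := by
  haveI := finite_autGroup (F := F) P
  obtain ⟨a, ha, h⟩ := sylIn_absorb (fullyAutomized_of_fullyNormalized hS hF hP).2 hK hKA
  intro k hk
  have h2 := h _ (hn a⁻¹ (inv_mem ha) k hk)
  simpa [mul_assoc] using h2

theorem hyp_le_T (hE : E.IsNormalIn F p) : H ≤ T := by
  haveI := finite_of_le hE.1.2.2.2.1.1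
  exact FusionPPower.hyperfocal_le E

omit [Finite S] [Fact p.Prime] in
/-- The automorphisms of `T` in `F` preserve the hyperfocal subgroup of `E`. -/
theorem hyp_aut (hE : E.IsInvariantIn F) {a : MulAut T} (ha : a ∈ F.autGroup T) {y : Ω}
    (hy : y ∈ H) : afun a y ∈ H := by
  have hTS := hE.2.1.1
  suffices y ∈ T ∧ afun a y ∈ H from this.2
  induction hy using Subgroup.closure_induction with
  | mem y hy =>
    obtain ⟨P, α, x, hP, hα, rfl⟩ := hy
    have hm : Mor F P (afun a) := ((mem_autGroup hTS).1 ha).restrict_to hP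
    refine ⟨T.mul_mem (T.inv_mem (hP x.2)) (hP ((α : MulAut P) x).2), ?_⟩
    let t : E.autGroup P →* E.autGroup (im P (afun a)) :=
      ((hm.transport rfl).toMonoidHom.comp (E.autGroup P).subtype).codRestrict _
        fun b => FusionWeaklyNormal88.aut_transport hE hP hm rfl b.2
    refine Subgroup.subset_closure ⟨_, t α, ⟨afun a x, apply_mem_im x.2⟩,
      im_le_iff.2 fun z hz => afun_mem a (hP hz),
      TransferPResidual.map_pResidual_le t ⟨α, hα, rfl⟩, ?_⟩
    rw [← afun_coe (t α : MulAut (im P (afun a)))]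
    show _ = (afun a x)⁻¹ * afun (hm.transport rfl (α : MulAut P)) (afun a x)
    rw [hm.afun_transport rfl _ x.2, afun_map_mul a (T.inv_mem (hP x.2)) (hP ((α : MulAut P) x).2),
      afun_coe (α : MulAut P), hm.map_inv x.2]
  | one => exact ⟨T.one_mem, by
      rw [afun_apply a T.one_mem]
      convert (one_mem H) using 1
      exact congrArg Subtype.val (map_one a)⟩
  | mul x z _ _ h1 h2 =>
    exact ⟨T.mul_mem h1.1 h2.1, afun_map_mul a h1.1 h2.1 ▸ Subgroup.mul_mem _ h1.2 h2.2⟩
  | inv x _ h1 =>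
    refine ⟨T.inv_mem h1.1, ?_⟩
    rw [((mem_autGroup hTS).1 ha).map_inv h1.1]
    exact Subgroup.inv_mem _ h1.2

/-- The hyperfocal subgroup of a normal subsystem is strongly closed. -/
theorem hyp_closed (hS : IsPGroup p S) (hE : E.IsNormalIn F p) : F.StronglyClosed H := by
  have hTS := hE.1.2.2.2.1.1
  haveI := finite_of_le hTS
  have hHE := hyperfocal_stronglyClosed (hS.to_le hTS) hE.1.1
  refine stronglyClosed_iff.2 ⟨(hyp_le_T hE).trans hTS, fun P f hP hf x hx => ?_⟩
  obtain ⟨a, ha, e, he, hfe⟩ :=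
    FusionWeaklyNormal88.inv_factor hE.1.2.2 (hP.trans (hyp_le_T hE)) hf
  rw [hfe x hx]
  exact hyp_aut hE.1.2.2 ha (closed_apply hHE he hP hx)

/-- The residual is invariant under the automorphisms of `T`. -/
theorem residual_inv (hS : IsPGroup p S) (hE : E.IsNormalIn F p) (hs : E1.IsSaturated p)
    (hi : E1.HasPPowerIndexIn E p) {P : Subgroup Ω} {f : Ω → Ω} (hf : Mor E1 P f) {a : MulAut T}
    (ha : a ∈ F.autGroup T) :
    ∃ k, Mor E1 (im P (afun a)) k ∧ ∀ x ∈ P, k (afun a x) = afun a (f x) := by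
  have hTS := hE.1.2.2.2.1.1
  have hHT := hyp_le_T hE
  haveI := finite_of_le hTS
  have haF : Mor F T (afun a) := (mem_autGroup hTS).1 ha
  have haH : ∀ {Q : Subgroup Ω}, Q ≤ H → im Q (afun a) ≤ H := fun hQ =>
    im_le_iff.2 fun x hx => hyp_aut hE.1.2.2 ha (hQ hx)
  have hclosed : Closed E (U := H) (fun P f => ∃ k, Mor E1 (im P (afun a)) k ∧
      ∀ x ∈ P, k (afun a x) = afun a (f x)) := by
    constructor
    · rintro P f g ⟨k, hk, e⟩ he
      exact ⟨k, hk, fun x hx => (e x hx).trans (congrArg _ (he x hx))⟩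
    · intro P g hP hg
      refine ⟨cj (afun a g), mor_cj (haH hP) (hyp_aut hE.1.2.2 ha hg), fun x hx => ?_⟩
      exact (haF.map_cj (hHT hg) (hHT (hP hx))).symm
    · rintro P Q f g - - hP hQ hfQ ⟨k₁, hk₁, e₁⟩ ⟨k₂, hk₂, e₂⟩
      refine ⟨k₂ ∘ k₁, hk₁.comp hk₂ (fun y hy => ?_), fun x hx => ?_⟩
      · obtain ⟨x, hx, rfl⟩ := (haF.restrict_to (hP.trans hHT)).mem_im.1 hy
        rw [e₁ x hx]
        exact apply_mem_im (hfQ x hx)
      · rw [Function.comp_apply, e₁ x hx, e₂ _ (hfQ x hx)]; rfl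
    · rintro P f g hfm - hP hgf ⟨k, hk, e⟩
      obtain ⟨r, hr, hrk, -, -⟩ := hk.exists_inv
      refine ⟨r, hr.restrict_to ?_, fun y hy => ?_⟩
      · rw [im_le_iff]
        intro y hy
        obtain ⟨x, hx, rfl⟩ := hfm.mem_im.1 hy
        rw [← e x hx]
        exact apply_mem_im (apply_mem_im hx)
      · obtain ⟨x, hx, rfl⟩ := hfm.mem_im.1 hy
        rw [hgf x hx, ← e x hx, hrk _ (apply_mem_im hx)]
  obtain ⟨φ, hφ, he⟩ := hf
  have hEP := FusionPPower.le_of_pPower (hS.to_le hTS) hs hi.1 (D := subSystem hHT hclosed) le_rfl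
    (fun R hR β hβ hc => by
      have hm := haF.restrict_to (hR.trans hHT)
      refine mem_autGroup_of_mor (mor_subSystem.2 ⟨(mem_autGroup (hR.trans hHT)).1 hβ, hR,
        fun x hx => hR (afun_mem β hx), afun (hm.transport rfl β),
        (mem_autGroup (haH hR)).1 (S5120.coprime_mem_autGroup hi (haH hR)
          (FusionWeaklyNormal88.aut_transport hE.1.2.2 (hR.trans hHT) hm rfl hβ)
          (by rwa [MulEquiv.orderOf_eq])),
        fun x hx => hm.afun_transport rfl β hx⟩))
  exact (mor_subSystem.1 ⟨φ, hEP P hφ, he⟩).2.2.2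

/-- An automorphism of order prime to `p` of `H` in the residual extends to `H C_S(H)`. -/
theorem good_coprime (hS : IsPGroup p S) (hE : E.IsNormalIn F p) (hi : E1.HasPPowerIndexIn E p)
    {u : MulAut H} (hu : u ∈ E1.autGroup H) (hco : (orderOf u).Coprime p) :
    Good F H H (afun u) := by
  classical
  obtain ⟨⟨hEs, hF, hinv⟩, -⟩ := id hE
  have hTS := hinv.2.1.1
  have hT : F.StronglyClosed T := hinv.2.1
  haveI := finite_of_le hTS
  have hTp : IsPGroup p T := hS.to_le hTS
  have hHT := hyp_le_T hE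
  have hHS := hHT.trans hTS
  have hH := hyp_closed hS hE
  have hnH : ∀ g ∈ S, ∀ x ∈ H, cj g x ∈ H := fun g hg x hx => cj_mem_of_stronglyClosed hH hg hx
  have huE : Mor E H (afun u) := sub_mor hi.1 ((mem_autGroup le_rfl).1 hu)
  set P2 := H ⊔ centralizerIn T H with hP2
  have hP2T : P2 ≤ T := sup_le hHT inf_le_left
  have hP2S := hP2T.trans hTS
  obtain ⟨f0, hf0, hf0u, hf0C⟩ := exists_extension_centralizer
    (receptive_of_fullyNormalized hTp hEs
      (FusionWeakAlperin.fullyNormalized_of_normal hHT fun g hg x hx => hnH g (hTS hg) x hx))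
    huE (im_afun u)
  obtain ⟨b0, hb0, hb0e⟩ := hf0.exists_aut (hf0.im_self fun x hx => mor_sup_induction hf0
    (fun a ha => Subgroup.mem_sup_left (hf0u a ha ▸ afun_mem u ha))
    (fun c hc => Subgroup.mem_sup_right (hf0C c hc)) hx)
  haveI := finite_autGroup (F := E) P2
  obtain ⟨k, hk⟩ := FusionMeetKey.exists_exponent (p := p) (n := orderOf b0)
    (orderOf_pos_iff.2 ((E.autGroup P2).subtype.isOfFinOrder
      (isOfFinOrder_of_finite (⟨b0, hb0⟩ : E.autGroup P2)))).ne'
  have hres : ∀ x ∈ H, afun u x = afun b0 x := fun x hx =>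
    (hb0e x (Subgroup.mem_sup_left hx)).trans (hf0u x hx) |>.symm
  have huk : u ^ k = u :=
    (hk u (S5120.orderOf_dvd_of_restrict (le_sup_left : H ≤ P2) hres)).2 hco
  set u2 := b0 ^ k
  have hu2 : u2 ∈ E.autGroup P2 := pow_mem hb0 k
  have hu2co : (orderOf u2).Coprime p := (hk b0 dvd_rfl).1
  have hu2H : ∀ x ∈ H, afun u2 x = afun u x := fun x hx => by
    rw [← S5120.afun_pow_eq (le_sup_left : H ≤ P2) hres k x hx, huk]
  -- the kernel of restriction to `H`
  let K : Subgroup (MulAut P2) :=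
    { carrier := {a | a ∈ E.autGroup P2 ∧ ∀ x ∈ H, afun a x = x}
      one_mem' := ⟨one_mem _, fun x hx => afun_one (Subgroup.mem_sup_left hx)⟩
      mul_mem' := fun ⟨ha, ha'⟩ ⟨hb, hb'⟩ => ⟨mul_mem ha hb, fun x hx => by
        rw [afun_mul _ _ (Subgroup.mem_sup_left hx), hb' x hx, ha' x hx]⟩
      inv_mem' := fun {a} ⟨ha, ha'⟩ => ⟨inv_mem ha, fun x hx => by
        conv_lhs => rw [← ha' x hx]
        exact afun_inv_apply a (Subgroup.mem_sup_left hx)⟩ }
  have hK1 : ∀ a ∈ K, (orderOf a).Coprime p → a = 1 := by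
    intro a ha hac
    haveI := finite_of_le hP2S
    obtain ⟨i, hi'⟩ := pow_eq_one_of_stabilizes (hS.to_le hP2S) (n := 2)
      (fun i => if i = 0 then ⊥ else if i = 1 then H else P2) rfl rfl
      (fun i => by
        split_ifs
        · exact bot_le
        · exact le_sup_left
        · exact le_rfl)
      (fun i hi => by
        interval_cases i
        · simp
        · simp [hP2])
      (α := a) (fun i hi y hy => by
        interval_cases i
        · simp only [zero_add, if_neg one_ne_zero, if_pos rfl] at hy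
          simp [ha.2 y hy]
        · simp only [if_neg one_ne_zero, if_pos rfl]
          simp only [show (1 + 1 = 0) = False by simp, show (1 + 1 = 1) = False by simp,
            if_false] at hy
          exact gen_mem_hyperfocal hP2T ha.1 hac hy)
    rw [← orderOf_eq_one_iff]
    exact Nat.eq_one_of_dvd_coprimes (hac.pow_right i) dvd_rfl (orderOf_dvd_of_pow_eq_one hi')
  have hKp : IsPGroup p K := fun a => by
    haveI : Finite K := Finite.of_injective _
      (Subgroup.inclusion_injective (fun x hx => hx.1 : K ≤ E.autGroup P2))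
    obtain ⟨i, m, hm, hn⟩ := Nat.exists_eq_pow_mul_and_not_dvd (orderOf_pos a).ne' p
      (Fact.out : p.Prime).ne_one
    refine ⟨i, ?_⟩
    have h1 : (orderOf ((a : MulAut P2) ^ p ^ i)).Coprime p := by
      refine Nat.Coprime.coprime_dvd_left (orderOf_dvd_of_pow_eq_one ?_)
        ((Nat.Prime.coprime_iff_not_dvd Fact.out).2 hm).symm
      rw [← pow_mul, ← hn, ← Subgroup.coe_pow, pow_orderOf_eq_one, Subgroup.coe_one]
    exact Subtype.ext (hK1 _ (pow_mem a.2 _) h1)
  -- `P2` is normal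
  have hP2n : ∀ g ∈ S, ∀ x ∈ P2, cj g x ∈ P2 := fun g hg x hx =>
    mor_sup_induction (mor_cj (F := F) hP2S hg)
      (fun h hh => Subgroup.mem_sup_left (hnH g hg h hh))
      (fun c hc => Subgroup.mem_sup_right (mem_centralizerIn.2
        ⟨cj_mem_of_stronglyClosed hT hg hc.1, fun y hy => by
          have h1 := (mem_centralizerIn.1 hc).2 _ (hnH g⁻¹ (S.inv_mem hg) y hy)
          conv_lhs => rw [← cj_cj_inv g y]
          conv_rhs => rw [← cj_cj_inv g y, ← h1]
          simp [cj_apply, mul_assoc]⟩)) hx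
  have hKT : K ≤ autInducedBy T P2 := le_autInducedBy hTp hEs
    (FusionWeakAlperin.fullyNormalized_of_normal hP2T fun g hg => hP2n g (hTS hg))
    (fun x hx => hx.1) (fun a ha k hk => ⟨mul_mem (mul_mem ha hk.1) (inv_mem ha), fun x hx => by
      have hx' : afun a⁻¹ x ∈ H := closed_apply' (hyperfocal_stronglyClosed hTp hEs)
        ((mem_autGroup hP2T).1 (inv_mem ha)) (Subgroup.mem_sup_left hx) hx
      rw [afun_mul _ _ (Subgroup.mem_sup_left hx), afun_mul _ _ (afun_mem _ (Subgroup.mem_sup_left hx)),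
        hk.2 _ hx', afun_apply_inv a (Subgroup.mem_sup_left hx)]⟩) hKp
  set C := centralizerIn S H with hC
  set Q := autInducedBy C P2 with hQdef
  have hQF : Q ≤ F.autGroup P2 :=
    (autInducedBy_mono inf_le_left P2).trans (autInducedBy_le hP2S)
  have hQH : ∀ a ∈ Q, ∀ x ∈ H, afun a x = x := fun a ha x hx => by
    obtain ⟨c, hc, -, he⟩ := mem_autInducedBy.1 ha
    rw [he x (Subgroup.mem_sup_left hx), (mem_centralizerIn.1 hc).2 x hx]
  have huH : ∀ x ∈ H, afun u2⁻¹ x ∈ H := fun x hx => closed_apply'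
    (hyperfocal_stronglyClosed hTp hEs) ((mem_autGroup hP2T).1 (inv_mem hu2))
    (Subgroup.mem_sup_left hx) hx
  have hd : ∀ a ∈ Q, u2 * a * u2⁻¹ * a⁻¹ ∈ K := by
    intro a ha
    have hm := (mem_autGroup hP2S).1 (hQF ha)
    have e : a * u2⁻¹ * a⁻¹ = hm.transport (im_afun a) u2⁻¹ := afun_ext fun y hy => by
      obtain ⟨x, hx, rfl⟩ : ∃ x ∈ P2, afun a x = y :=
        ⟨afun a⁻¹ y, afun_mem _ hy, afun_apply_inv a hy⟩
      rw [hm.afun_transport (im_afun a) _ hx, afun_mul _ _ (afun_mem a hx),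
        afun_inv_apply a hx, afun_mul _ _ hx]
    refine ⟨?_, fun x hx => ?_⟩
    · rw [show u2 * a * u2⁻¹ * a⁻¹ = u2 * (a * u2⁻¹ * a⁻¹) by group, e]
      exact mul_mem hu2
        (FusionWeaklyNormal88.aut_transport hinv hP2T hm (im_afun a) (inv_mem hu2))
    · have hxP : x ∈ P2 := Subgroup.mem_sup_left hx
      have h1 : afun a⁻¹ x = x := by
        conv_lhs => rw [← hQH a ha x hx]
        exact afun_inv_apply a hxP
      have h2 := huH x hx
      rw [afun_mul _ _ hxP, h1, afun_mul _ _ hxP, afun_mul _ _ (afun_mem _ hxP), hQH a ha _ h2,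
        afun_apply_inv u2 hxP]
  have huQ : ∀ a ∈ Q, u2 * a * u2⁻¹ ∈ Q := by
    intro a ha
    have h1 : u2 * a * u2⁻¹ * a⁻¹ ∈ Q := by
      obtain ⟨t, ht, htn, hte⟩ := mem_autInducedBy.1 (hKT (hd a ha))
      refine mem_autInducedBy.2 ⟨t, mem_centralizerIn.2 ⟨hTS ht, fun x hx => ?_⟩, htn, hte⟩
      rw [← hte x (Subgroup.mem_sup_left hx), (hd a ha).2 x hx]
    have := mul_mem h1 ha
    rwa [inv_mul_cancel_right] at this
  obtain ⟨ψ, hψ, hψP, -, hψT⟩ := FusionMeetKey.exists_trivial_extension hS hF hE hP2T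
    (FusionWeakAlperin.fullyNormalized_of_normal hP2S hP2n) hu2 hu2co huQ
    fun a ha => hKT (hd a ha)
  have hCN : C ≤ nK S P2 Q := fun c hc => ⟨hc.1, nHom C P2
    ⟨c, hc, mem_normalizer_of_cj_le hP2S fun x hx => hP2n c hc.1 x hx⟩,
    mem_autInducedBy.2 ⟨c, hc, mem_normalizer_of_cj_le hP2S fun x hx => hP2n c hc.1 x hx,
      fun x hx => afun_nHom _ hx⟩, fun x hx => afun_nHom _ hx⟩
  set W := H ⊔ C with hWdef
  have hψW := hψ.restrict_to (sup_le (le_sup_left.trans le_sup_left) (hCN.trans le_sup_right) :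
    W ≤ P2 ⊔ nK S P2 Q)
  have hψH : ∀ x ∈ H, ψ x = afun u x := fun x hx =>
    (hψP x (Subgroup.mem_sup_left hx)).trans (hu2H x hx)
  obtain ⟨b, hb, hbe⟩ := hψW.exists_aut (hψW.im_self fun x hx => mor_sup_induction hψW
    (fun h hh => Subgroup.mem_sup_left (hψH h hh ▸ afun_mem u hh))
    (fun c hc => Subgroup.mem_sup_right (mem_centralizerIn.2
      ⟨hψW.apply_mem (Subgroup.mem_sup_right hc), fun y hy => by
        obtain ⟨x, hx, rfl⟩ : ∃ x ∈ H, afun u x = y :=
          ⟨afun u⁻¹ y, afun_mem _ hy, afun_apply_inv u hy⟩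
        rw [← hψH x hx, ← hψW.map_cj (Subgroup.mem_sup_right hc) (Subgroup.mem_sup_left hx),
          (mem_centralizerIn.1 hc).2 x hx]⟩)) hx)
  have hWS : W ≤ S := sup_le hHS inf_le_left
  haveI := finite_autGroup (F := F) W
  obtain ⟨l, hl⟩ := FusionMeetKey.exists_exponent (p := p) (n := orderOf b)
    (orderOf_pos_iff.2 ((F.autGroup W).subtype.isOfFinOrder
      (isOfFinOrder_of_finite (⟨b, hb⟩ : F.autGroup W)))).ne'
  have hbH : ∀ x ∈ H, afun u x = afun b x := fun x hx =>
    ((hbe x (Subgroup.mem_sup_left hx)).trans (hψH x hx)).symm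
  have hul : u ^ l = u := (hl u (S5120.orderOf_dvd_of_restrict (le_sup_left : H ≤ W) hbH)).2 hco
  set b' := b ^ l with hb'
  have hb'co : (orderOf b').Coprime p := (hl b dvd_rfl).1
  have hb'm := (mem_autGroup hWS).1 (pow_mem hb l)
  have hb'H : ∀ x ∈ H, afun b' x = afun u x := fun x hx => by
    rw [hb', ← S5120.afun_pow_eq (le_sup_left : H ≤ W) hbH l x hx, hul]
  have hP2W : P2 ≤ W := sup_le_sup_left (inf_le_inf_right _ hTS) H
  have hbP2 : ∀ x ∈ P2, afun u2 x = afun b x := fun x hx =>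
    ((hbe x (hP2W hx)).trans (hψP x hx)).symm
  have hb'P2 : ∀ x ∈ P2, x⁻¹ * afun b' x ∈ H := fun x hx => by
    rw [hb', ← S5120.afun_pow_eq hP2W hbP2 l x hx]
    exact gen_mem_hyperfocal hP2T (pow_mem hu2 l)
      (hu2co.coprime_dvd_left (orderOf_pow_dvd l)) hx
  have hbT : ∀ (n : ℕ), ∀ c ∈ C, afun (b ^ n) c ∈ C ∧ c⁻¹ * afun (b ^ n) c ∈ T := by
    intro n
    induction n with
    | zero => intro c hc; rw [pow_zero, afun_one (Subgroup.mem_sup_right hc)]; exact ⟨hc, by simp⟩
    | succ n ih =>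
      intro c hc
      obtain ⟨h1, h2⟩ := ih c hc
      have hbc : afun b (afun (b ^ n) c) = ψ (afun (b ^ n) c) := hbe _ (Subgroup.mem_sup_right h1)
      rw [pow_succ', afun_mul _ _ (Subgroup.mem_sup_right hc)]
      refine ⟨?_, ?_⟩
      · rw [hbc]
        refine mem_centralizerIn.2 ⟨hψW.apply_mem (Subgroup.mem_sup_right h1), fun y hy => ?_⟩
        obtain ⟨x, hx, rfl⟩ : ∃ x ∈ H, afun u x = y :=
          ⟨afun u⁻¹ y, afun_mem _ hy, afun_apply_inv u hy⟩
        rw [← hψH x hx, ← hψW.map_cj (Subgroup.mem_sup_right h1) (Subgroup.mem_sup_left hx),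
          (mem_centralizerIn.1 h1).2 x hx]
      · have := T.mul_mem h2 (hψT _ (hCN h1))
        rw [hbc]
        simpa [mul_assoc] using this
  refine ⟨afun b', hb'm, hb'H, fun c hc => ?_⟩
  rw [im_afun]
  have hcW : c ∈ W := Subgroup.mem_sup_right hc
  obtain ⟨hbc, hdT⟩ := hbT l c hc
  set d := c⁻¹ * afun b' c with hd'
  have hdC : d ∈ centralizerIn T H := ⟨hdT, Subgroup.mul_mem _ (Subgroup.inv_mem _ hc.2) hbc.2⟩
  have hdP2 : d ∈ P2 := Subgroup.mem_sup_right hdC
  have hiter : ∀ n : ℕ, (c * d ^ n)⁻¹ * afun (b' ^ n) c ∈ H := by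
    intro n
    induction n with
    | zero => rw [pow_zero, pow_zero, afun_one hcW, mul_one, inv_mul_cancel]; exact one_mem _
    | succ n ih =>
      set h := (c * d ^ n)⁻¹ * afun (b' ^ n) c
      have hdn : d ^ n ∈ P2 := pow_mem hdP2 n
      have e1 : afun (b' ^ n) c = c * (d ^ n * h) := by
        simp only [h, mul_inv_rev, mul_assoc, mul_inv_cancel_left]
      rw [pow_succ' b', afun_mul _ _ hcW, e1,
        afun_map_mul b' hcW (W.mul_mem (hP2W hdn) (Subgroup.mem_sup_left ih)),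
        afun_map_mul b' (hP2W hdn) (Subgroup.mem_sup_left ih), hb'H h ih,
        show afun b' c = c * d from (mul_inv_cancel_left _ _).symm]
      have := Subgroup.mul_mem _ (hb'P2 _ hdn) (afun_mem u ih)
      convert this using 1
      rw [pow_succ']; group
  have h1 := hiter (orderOf b')
  rw [pow_orderOf_eq_one, afun_one hcW] at h1
  have h2 : d ^ orderOf b' ∈ H := by
    have := Subgroup.inv_mem _ h1
    simpa using this
  obtain ⟨i, hi'⟩ := hS ⟨d, hTS hdT⟩
  exact FusionWeaklyNormal88.mem_of_coprime_pow (hb'co.pow_right i) h2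
    (by rw [show d ^ p ^ i = 1 from congrArg Subtype.val hi']; exact one_mem _)

/-- The `p`-residual of a normal subsystem is normal. -/
theorem normal_residual (hS : IsPGroup p S) (hE : E.IsNormalIn F p) (hs : E1.IsSaturated p)
    (hi : E1.HasPPowerIndexIn E p) : E1.IsNormalIn F p := by
  obtain ⟨⟨hEs, hF, hinv⟩, -⟩ := id hE
  have hTS := hinv.2.1.1
  haveI := finite_of_le hTS
  have hTp : IsPGroup p T := hS.to_le hTS
  have hHT := hyp_le_T hE
  have hHS := hHT.trans hTS
  haveI := finite_of_le hHS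
  have hH := hyp_closed hS hE
  have hHE := hyperfocal_stronglyClosed hTp hEs
  have hinvE := S5120.inv_of_pPower hTp hs hi hHE
  have hsub : E1.IsSubsystemOf F := fun P φ hφ => hinv.1 P (hi.1 P hφ)
  have hfr : ∀ {P : Subgroup Ω} {e : Ω → Ω}, P ≤ H → Mor E P e → S5119.Good E E1 P e :=
    fun {P e} hP he => by
      have h := S5120.frattini_of_pPower hTp hEs hi hHE hinvE he
      rwa [inf_eq_left.2 hP] at h
  refine ⟨⟨hs, hF, FusionIso88.invariant_iff.2 ⟨hsub, hH, fun P f hf γ hγ => ?_,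
    fun P f hP hf => ?_⟩⟩, fun α hα => ?_⟩
  · have hγm := (mem_autGroup hHS).1 hγ
    obtain ⟨a, ha, e, he, hγe⟩ := FusionWeaklyNormal88.inv_factor hinv hHT hγm
    obtain ⟨ε, hε, hεe⟩ := he.exists_aut (he.im_self fun x hx => closed_apply hHE he le_rfl hx)
    obtain ⟨k1, hk1, ek1⟩ := hinvE P f hf ε hε
    obtain ⟨k2, hk2, ek2⟩ := residual_inv hS hE hs hi hk1 ha
    have hPH := hf.le
    refine ⟨k2, hk2.restrict_to (im_le_iff.2 fun x hx => ?_), fun x hx => ?_⟩
    · rw [hγe x (hPH hx), ← hεe x (hPH hx)]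
      exact apply_mem_im (apply_mem_im hx)
    · rw [hγe x (hPH hx), ← hεe x (hPH hx), ek2 _ (apply_mem_im hx), ek1 x hx,
        hγe _ (hf.apply_mem hx), hεe _ (hf.apply_mem hx)]
  · obtain ⟨a, ha, e, he, hfe⟩ := FusionWeaklyNormal88.inv_factor hinv (hP.trans hHT) hf
    obtain ⟨β, hβ, e1, he1, hee⟩ := hfr hP he
    have hβm : Mor F H (afun β) := sub_mor hinv.1 ((mem_autGroup hHT).1 hβ)
    have hm : Mor F H (afun a ∘ afun β) :=
      hβm.comp ((mem_autGroup hTS).1 ha) fun x hx => hHT (afun_mem β hx)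
    obtain ⟨γ, hγ, hγe⟩ := hm.exists_aut (hm.im_self fun x hx =>
      hyp_aut hinv ha (afun_mem β hx))
    refine ⟨γ, hγ, e1, he1, fun x hx => ?_⟩
    rw [hγe _ (he1.apply_mem hx), Function.comp_apply, ← hee x hx, hfe x hx]
  let A : Subgroup (MulAut H) :=
    { carrier := {a | Good F H H (afun a)}
      one_mem' := ⟨fun x => x, mor_id (sup_le hHS inf_le_left), fun x hx => (afun_one hx).symm,
        fun c _ => by simp⟩
      mul_mem' := fun {u v} hu hv => good_congr (good_comp hv (by rwa [im_afun]))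
        fun x hx => (afun_mul u v hx).symm
      inv_mem' := fun {u} hu => by
        have := good_inv (f' := afun u⁻¹) hu fun x hx => afun_inv_apply u hx
        rwa [im_afun] at this }
  have hA : E1.autGroup H ≤ A :=
    FusionWeakAlperin.autGroup_le_of_fullyNormalized (hS.to_le hHS) hs fullyNormalized_self
      (FusionPPower.map_pResidual_le_of_coprime fun a ha hc => good_coprime hS hE hi ha hc)
      fun a ha => by
        obtain ⟨g, hg, -, hge⟩ := mem_autInducedBy.1 ha
        refine ⟨cj g, mor_cj (sup_le hHS inf_le_left) (hHS hg), fun x hx => (hge x hx).symm,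
          fun c hc => ?_⟩
        have e : cj g c = c := by
          rw [cj_apply, Subgroup.mem_centralizer_iff.1 hc.2 g hg, mul_inv_cancel_right]
        rw [e, inv_mul_cancel]
        exact one_mem _
  obtain ⟨g, hg, hge, hgc⟩ : Good F H H (afun α) := hA hα
  have hgT : ∀ c ∈ centralizerIn S H, c⁻¹ * g c ∈ H := fun c hc => by
    have h1 := hgc c hc
    rwa [im_afun] at h1
  obtain ⟨β, hβ, hβe⟩ := hg.exists_aut (hg.im_self fun x hx =>
    mor_sup_induction hg (fun t ht => Subgroup.mem_sup_left (hge t ht ▸ afun_mem α ht))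
      (fun c hc => by
        have := Subgroup.mul_mem _ (Subgroup.mem_sup_right (S := H) hc)
          (Subgroup.mem_sup_left (T := centralizerIn S H) (hgT c hc))
        rwa [mul_inv_cancel_left] at this) hx)
  refine ⟨β, hβ, fun x => ?_, fun c hc => ?_⟩
  · rw [← afun_coe, ← afun_coe]
    exact (hβe _ (Subgroup.mem_sup_left x.2)).trans (hge _ x.2)
  · rw [← afun_coe, hβe _ c.2]
    refine ⟨hgT _ hc, Subgroup.mem_centralizer_iff.2 fun t ht => ?_⟩
    obtain ⟨u, hu, rfl⟩ : ∃ u ∈ H, g u = t := ⟨afun α⁻¹ t, afun_mem _ ht, by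
      rw [hge _ (afun_mem _ ht), afun_apply_inv α ht]⟩
    have h1 : g u * g c = g c * g u := by
      rw [← hg.map_mul (Subgroup.mem_sup_left hu) c.2, ← hg.map_mul c.2 (Subgroup.mem_sup_left hu),
        Subgroup.mem_centralizer_iff.1 hc.2 u hu]
    have h2 : g u * (c : Ω) = (c : Ω) * g u := Subgroup.mem_centralizer_iff.1 hc.2 _ ht
    have h3 : g u * (c : Ω)⁻¹ = (c : Ω)⁻¹ * g u :=
      (Commute.inv_right (h2 : Commute (g u) (c : Ω))).eq
    rw [← mul_assoc, h3, mul_assoc, h1, ← mul_assoc]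

end Cfsg.Agent.FusionPResidualNormal5
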