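import Cfsg.Agent.Lib.PSLSimple

/-!
Upper unitriangular subgroup, parabolic radicals and transvection conjugacy in `SL n F`.
-/

set_option autoImplicit false

namespace Cfsg.Agent.PSLUnipotent

open Matrix Matrix.SpecialLinearGroup
open scoped MatrixGroups

variable {F : Type*} [Field F] {n : ℕ}

local notation "M" => Matrix (Fin n) (Fin n) F
local notation "SLn" => SpecialLinearGroup (Fin n) F

/-- Upper unitriangular matrices as a predicate. -/
def IsUnitri (A : Matrix (Fin n) (Fin n) F) : Prop :=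
  (∀ i, A i i = 1) ∧ ∀ i j, j < i → A i j = 0

theorem isUnitri_det {A : M} (h : IsUnitri A) : A.det = 1 := by
  rw [Matrix.det_of_isUpperTriangular (fun i j hij => h.2 i j hij)]
  simp [h.1]

theorem isUnitri_one : IsUnitri (1 : M) :=
  ⟨fun i => Matrix.one_apply_eq i, fun _ _ h => Matrix.one_apply_ne h.ne'⟩

theorem isUnitri_mul {A B : M} (hA : IsUnitri A) (hB : IsUnitri B) : IsUnitri (A * B) := by
  constructor
  · intro i
    rw [Matrix.mul_apply, Finset.sum_eq_single i]
    · rw [hA.1, hB.1, mul_one]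
    · intro j _ hj
      rcases lt_or_gt_of_ne hj with h | h
      · rw [hA.2 i j h, zero_mul]
      · rw [hB.2 j i h, mul_zero]
    · simp
  · intro i j hij
    rw [Matrix.mul_apply]
    refine Finset.sum_eq_zero fun k _ => ?_
    rcases lt_or_ge k i with h | h
    · rw [hA.2 i k h, zero_mul]
    · rw [hB.2 k j (hij.trans_le h), mul_zero]

variable [Finite F]

omit [Finite F] in
theorem cmul (A B : SpecialLinearGroup (Fin n) F) : (A * B).1 = A.1 * B.1 := rfl

omit [Finite F] in
theorem cone : (1 : SpecialLinearGroup (Fin n) F).1 = 1 := rfl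

omit [Finite F] in
theorem cpow (A : SpecialLinearGroup (Fin n) F) (m : ℕ) : (A ^ m).1 = A.1 ^ m :=
  Matrix.SpecialLinearGroup.coe_pow A m

/-- A submonoid of the finite group `SL n F` as a subgroup. -/
def ofSubmonoid (S : Submonoid SLn) : Subgroup SLn where
  toSubmonoid := S
  inv_mem' {x} hx := by
    have hfin : IsOfFinOrder x := isOfFinOrder_of_finite x
    rw [inv_eq_of_mul_eq_one_left (a := x ^ (orderOf x - 1)) (by
      rw [← pow_succ, Nat.sub_add_cancel hfin.orderOf_pos, pow_orderOf_eq_one])]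
    exact S.pow_mem hx _

theorem mem_ofSubmonoid {S : Submonoid SLn} {x : SLn} : x ∈ ofSubmonoid S ↔ x ∈ S := Iff.rfl

/-- The upper unitriangular subgroup. -/
def U (F : Type*) [Field F] [Finite F] (n : ℕ) : Subgroup (SpecialLinearGroup (Fin n) F) :=
  ofSubmonoid
    { carrier := {A | IsUnitri A.1}
      one_mem' := isUnitri_one
      mul_mem' := fun ha hb => isUnitri_mul ha hb }

theorem mem_U {A : SLn} : A ∈ U F n ↔ IsUnitri A.1 := Iff.rfl

theorem transvection_apply {i j : Fin n} (hij : i ≠ j) (c : F) (k l : Fin n) :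
    (SpecialLinearGroup.transvection hij c).1 k l =
      (if k = l then 1 else 0) + (if i = k ∧ j = l then c else 0) := by
  rw [SpecialLinearGroup.transvection_coe, Matrix.add_apply, Matrix.one_apply, Matrix.single_apply]

theorem transvection_mem_U {i j : Fin n} (hij : i < j) (c : F) :
    SpecialLinearGroup.transvection hij.ne c ∈ U F n := by
  refine ⟨fun k => ?_, fun k l hkl => ?_⟩
  · rw [transvection_apply, if_pos rfl, if_neg, add_zero]
    rintro ⟨rfl, rfl⟩; exact absurd hij (lt_irrefl _)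
  · rw [transvection_apply, if_neg hkl.ne', if_neg, add_zero]
    rintro ⟨rfl, rfl⟩; exact absurd hij hkl.le.not_gt

/-- The entries above the diagonal. -/
noncomputable def unitriEquiv : U F n ≃ ({z : Fin n × Fin n // z.1 < z.2} → F) where
  toFun A z := A.1.1 z.1.1 z.1.2
  invFun f :=
    ⟨⟨Matrix.of fun i j => if h : i < j then f ⟨(i, j), h⟩ else if i = j then 1 else 0,
      isUnitri_det ⟨fun i => by simp, fun i j hij => by simp [hij.not_gt, hij.ne']⟩⟩,
      ⟨fun i => by simp, fun i j hij => by simp [hij.not_gt, hij.ne']⟩⟩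
  left_inv A := by
    refine Subtype.ext (Subtype.ext ?_)
    ext i j
    rcases lt_trichotomy i j with h | rfl | h
    · simp [h]
    · simp [A.2.1 i]
    · simp [h.not_gt, h.ne', A.2.2 i j h]
  right_inv f := by
    funext z
    simp [z.2]

theorem card_U : Nat.card (U F n) = Nat.card F ^ (∑ i : Fin n, (i : ℕ)) := by
  rw [Nat.card_congr unitriEquiv, Nat.card_fun]
  congr 1
  let e₁ : {z : Fin n × Fin n // z.1 < z.2} ≃ Σ j : Fin n, {i : Fin n // i < j} :=
    { toFun := fun z => ⟨z.1.2, z.1.1, z.2⟩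
      invFun := fun s => ⟨(s.2.1, s.1), s.2.2⟩
      left_inv := fun _ => rfl
      right_inv := fun _ => rfl }
  rw [Nat.card_congr e₁, Nat.card_sigma]
  refine Finset.sum_congr rfl fun i _ => ?_
  rw [Nat.card_eq_fintype_card, Fintype.card_subtype, ← Fin.card_Iio i]
  congr 1
  ext a; simp

variable (p : ℕ) [hp : Fact p.Prime] [CharP F p]

theorem card_eq_prime_pow : ∃ e : ℕ, 0 < e ∧ Nat.card F = p ^ e := by
  have := Fintype.ofFinite F
  obtain ⟨e, -, he⟩ := FiniteField.card F p
  exact ⟨e, e.pos, by rw [Nat.card_eq_fintype_card, he]⟩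

theorem isPGroup_U : IsPGroup p (U F n) := by
  obtain ⟨e, -, he⟩ := card_eq_prime_pow (F := F) p
  exact IsPGroup.of_card (n := e * ∑ i : Fin n, (i : ℕ)) (by rw [card_U, he, pow_mul])

/-- `|SL_n(q)|` is `|U|` times a number prime to the characteristic. -/
theorem card_SL_factor [NeZero n] :
    ∃ b : ℕ, ¬ p ∣ b ∧ Nat.card SLn = Nat.card (U F n) * b := by
  obtain ⟨e, he0, he⟩ := card_eq_prime_pow (F := F) p
  have hGL := PSLCard.card_SL (F := F) n
  have hprod : ∏ i : Fin n, (Nat.card F ^ n - Nat.card F ^ (i : ℕ)) =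
      Nat.card (U F n) * ∏ i : Fin n, (Nat.card F ^ (n - i) - 1) := by
    rw [card_U, ← Finset.prod_pow_eq_pow_sum, ← Finset.prod_mul_distrib]
    refine Finset.prod_congr rfl fun i _ => ?_
    rw [Nat.mul_sub, ← pow_add, mul_one, Nat.add_sub_cancel' i.2.le]
  have hcop : ∀ j : ℕ, 0 < j → ¬ p ∣ Nat.card F ^ j - 1 := by
    intro j hj hd
    have h1 : p ∣ Nat.card F ^ j := dvd_pow (he ▸ dvd_pow_self p he0.ne') hj.ne'
    have h2 := Nat.dvd_sub h1 hd
    rw [Nat.sub_sub_self (Nat.one_le_pow _ _ Nat.card_pos)] at h2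
    exact hp.out.not_dvd_one h2
  have hd : Nat.card (U F n) ∣ Nat.card SLn := Subgroup.card_subgroup_dvd_card _
  obtain ⟨b, hb⟩ := hd
  refine ⟨b, fun hpb => ?_, hb⟩
  rw [hb, hprod, ← mul_assoc, mul_comm _ (Nat.card (U F n)), mul_assoc] at hGL
  have h := Nat.eq_of_mul_eq_mul_left Nat.card_pos hGL
  have hdvd : p ∣ ∏ i : Fin n, (Nat.card F ^ (n - i) - 1) := h ▸ dvd_mul_of_dvd_right hpb _
  obtain ⟨i, -, hi⟩ := hp.out.prime.exists_mem_finset_dvd hdvd
  exact hcop _ (by omega) hi

omit [Finite F] in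
/-- A scalar that is a quotient of two elements of `p`-power order is `1`. -/
theorem scalar_eq_one {c : F} {k : ℕ} (h : c ^ p ^ k = 1) : c = 1 :=
  iterateFrobenius_inj F p k (by simp only [iterateFrobenius_def, one_pow, h])

include p hp in
/-- A scalar multiple of a unitriangular matrix conjugate to a unitriangular one is itself. -/
theorem eq_of_conj_smul [NeZero n] {g u u' : SLn} (hu : u ∈ U F n) (hu' : u' ∈ U F n) {c : F}
    (h : g.1 * u.1 = c • (u'.1 * g.1)) : g.1 * u.1 = u'.1 * g.1 := by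
  suffices c = 1 by rw [h, this, one_smul]
  obtain ⟨k, hk⟩ := (isPGroup_U (F := F) (n := n) p) ⟨u, hu⟩
  obtain ⟨k', hk'⟩ := (isPGroup_U (F := F) (n := n) p) ⟨u', hu'⟩
  have hk1 : u ^ p ^ k = 1 := congrArg Subtype.val hk
  have hk1' : u' ^ p ^ k' = 1 := congrArg Subtype.val hk'
  have hiter : ∀ m : ℕ, g.1 * u.1 ^ m = c ^ m • (u'.1 ^ m * g.1) := by
    intro m
    induction m with
    | zero => simp
    | succ m ih =>
      rw [pow_succ, ← mul_assoc, ih, smul_mul_assoc, mul_assoc, h, mul_smul_comm, smul_smul,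
        ← mul_assoc, ← pow_succ, ← pow_succ]
  have := hiter (p ^ (k + k'))
  have e1 : u.1 ^ p ^ (k + k') = 1 := by
    rw [← cpow, pow_add, pow_mul, hk1, one_pow, cone]
  have e2 : u'.1 ^ p ^ (k + k') = 1 := by
    rw [← cpow, pow_add, mul_comm, pow_mul, hk1', one_pow,
      cone]
  rw [e1, e2, mul_one, one_mul] at this
  refine scalar_eq_one p (k := k + k') ?_
  by_contra hne
  have h0 : ((1 : F) - c ^ p ^ (k + k')) • g.1 = 0 := by rw [sub_smul, one_smul, ← this, sub_self]
  have : Nonempty (Fin n) := Fin.pos_iff_nonempty.1 (Nat.pos_of_ne_zero (NeZero.ne n))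
  have := g.2
  rw [(smul_eq_zero.1 h0).resolve_left (fun e => hne (sub_eq_zero.1 e).symm),
    Matrix.det_zero] at this
  exact zero_ne_one this

omit hp [CharP F p] in
/-- An element conjugating `U` into itself is upper triangular. -/
theorem upper_of_conj {g : SLn} (h : ∀ u ∈ U F n, ∃ u' ∈ U F n, u * g = g * u') :
    ∀ i j, j < i → g.1 i j = 0 := by
  suffices hV : ∀ (m : ℕ) (v : Fin n → F), (∀ l : Fin n, m ≤ l → v l = 0) →
      ∀ l : Fin n, m ≤ l → (g.1 *ᵥ v) l = 0 by
    intro i j hji
    have := hV (j + 1) (Pi.single j 1) (fun l hl => by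
      rw [Pi.single_eq_of_ne]; intro e; subst e; omega) i (by omega)
    simpa using this
  intro m
  induction m with
  | zero =>
    intro v hv l _
    rw [show v = 0 from funext fun l => hv l (Nat.zero_le _), Matrix.mulVec_zero, Pi.zero_apply]
  | succ m ih =>
    intro v hv l hl
    let k : Fin n := ⟨m, by have := l.2; omega⟩
    have hkl : k < l := Fin.mk_lt_of_lt_val (by omega)
    obtain ⟨u', hu', he⟩ := h _ (transvection_mem_U (F := F) hkl 1)
    have hlow : ∀ l' : Fin n, m ≤ l' → (u'.1 *ᵥ v - v) l' = 0 := by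
      intro l' hl'
      rw [Pi.sub_apply, Matrix.mulVec, dotProduct, Finset.sum_eq_single l']
      · rw [hu'.1, one_mul, sub_self]
      · intro j _ hj
        rcases lt_or_gt_of_ne hj with hlt | hlt
        · rw [hu'.2 l' j hlt, zero_mul]
        · rw [hv j (by have : (l' : ℕ) < (j : ℕ) := hlt; omega), mul_zero]
      · simp
    have h1 := ih _ hlow k le_rfl
    rw [Matrix.mulVec_sub, Matrix.mulVec_mulVec, show g.1 * u'.1 = (g * u').1 from rfl, ← he,
      show ((SpecialLinearGroup.transvection hkl.ne 1 : SLn) * g).1 =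
        (SpecialLinearGroup.transvection hkl.ne (1 : F)).1 * g.1 from rfl,
      ← Matrix.mulVec_mulVec, PSLSimple.transvection_mulVec] at h1
    simpa using h1

omit hp [CharP F p] in
/-- `U` is generated by the elementary transvections in it. -/
theorem U_le (H : Subgroup SLn)
    (hH : ∀ (i j : Fin n) (hij : i < j) (c : F), SpecialLinearGroup.transvection hij.ne c ∈ H) :
    U F n ≤ H := by
  classical
  intro A
  induction hN : (Finset.univ.filter fun z : Fin n × Fin n => z.1 < z.2 ∧ A.1 z.1 z.2 ≠ 0).card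
    using Nat.strong_induction_on generalizing A with
  | _ N ih =>
  intro hA
  set s := Finset.univ.filter fun z : Fin n × Fin n => z.1 < z.2 ∧ A.1 z.1 z.2 ≠ 0 with hs
  rcases s.eq_empty_or_nonempty with he | hne
  · have : A = 1 := by
      refine Subtype.ext ?_
      ext i j
      rcases lt_trichotomy i j with h | rfl | h
      · have : (i, j) ∉ s := by rw [he]; simp
        simp [hs, h] at this
        simp [this, h.ne]
      · simp [hA.1 i]
      · simp [hA.2 i j h, h.ne']
    rw [this]; exact one_mem H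
  · obtain ⟨⟨i, j⟩, hij, hmax⟩ := s.exists_max_image (fun z => z.1) hne
    simp only [hs, Finset.mem_filter, Finset.mem_univ, true_and] at hij
    set t : SLn := SpecialLinearGroup.transvection hij.1.ne (-(A.1 i j)) with ht
    have hrow : ∀ l, A.1 j l = if j = l then 1 else 0 := by
      intro l
      rcases lt_trichotomy j l with h | h | h
      · rw [if_neg h.ne]
        by_contra hne'
        exact absurd (hmax (j, l) (by simp [hs, h, hne'])) hij.1.not_ge
      · rw [← h, if_pos rfl, hA.1]
      · rw [if_neg h.ne', hA.2 j l h]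
    have hentry : ∀ k l, (t * A).1 k l =
        A.1 k l + if i = k ∧ j = l then -(A.1 i j) else 0 := by
      intro k l
      rw [cmul, ht, SpecialLinearGroup.transvection_coe, add_mul, one_mul,
        Matrix.add_apply]
      by_cases hk : i = k
      · subst hk
        rw [Matrix.single_mul_apply_same, hrow]
        by_cases hl : j = l <;> simp [hl]
      · rw [Matrix.single_mul_apply_of_ne _ _ _ _ _ (Ne.symm hk), if_neg (fun h => hk h.1)]
    obtain ⟨M', hM'⟩ : ∃ M', M' = (Finset.univ.filter fun z : Fin n × Fin n =>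
        z.1 < z.2 ∧ (t * A).1 z.1 z.2 ≠ 0).card := ⟨_, rfl⟩
    have hmem := ih M' ?_ hM'.symm (Subgroup.mul_mem _ (transvection_mem_U hij.1 _) hA)
    · rw [show A = t⁻¹ * (t * A) by group]
      exact H.mul_mem (H.inv_mem (hH i j hij.1 _)) hmem
    rw [hM', ← hN]
    refine Finset.card_lt_card (Finset.ssubset_iff_of_subset ?_ |>.2 ⟨(i, j), ?_, ?_⟩)
    · intro z hz
      simp only [hs, Finset.mem_filter, Finset.mem_univ, true_and, hentry] at hz ⊢
      refine ⟨hz.1, fun h0 => hz.2 ?_⟩
      by_cases h : i = z.1 ∧ j = z.2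
      · rw [if_pos h, h.1, h.2, add_neg_cancel]
      · rw [if_neg h, add_zero, h0]
    · simpa [hs] using hij
    · simp [hs, hentry]

omit hp [CharP F p] in
/-- An element commuting with every element of `U` is `1` plus a multiple of the corner. -/
theorem comm_U {A : SLn} (hA : A ∈ U F n) (h : ∀ u ∈ U F n, u * A = A * u) {i j : Fin n}
    (hij : i < j) (hne : A.1 i j ≠ 0) : (i : ℕ) = 0 ∧ (j : ℕ) + 1 = n := by
  constructor
  · by_contra h0
    let z : Fin n := ⟨0, by omega⟩
    have hzi : z < i := Fin.mk_lt_of_lt_val (Nat.pos_of_ne_zero h0)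
    have := congrArg (fun X : SLn => X.1 z j) (h _ (transvection_mem_U hzi (1 : F)))
    simp [SpecialLinearGroup.transvection_coe, add_mul, mul_add, hij.ne', hij.ne] at this
    exact hne this
  · by_contra h0
    let z : Fin n := ⟨n - 1, by omega⟩
    have hjz : j < z := Fin.lt_def.2 (show (j : ℕ) < n - 1 by have := j.2; omega)
    have := congrArg (fun X : SLn => X.1 i z) (h _ (transvection_mem_U hjz (1 : F)))
    simp [SpecialLinearGroup.transvection_coe, add_mul, mul_add, hij.ne', hij.ne] at this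
    exact hne this

/-! ### Parabolic radicals -/

/-- The radical of the maximal parabolic subgroup of the cut `k`. -/
def R (F : Type*) [Field F] [Finite F] {n : ℕ} (k : ℕ) : Subgroup (SpecialLinearGroup (Fin n) F) :=
  ofSubmonoid
    { carrier := {A | ∀ i j : Fin n, ¬((i : ℕ) < k ∧ k ≤ j) → A.1 i j = (1 : Matrix (Fin n) (Fin n) F) i j}
      one_mem' := fun _ _ _ => rfl
      mul_mem' := fun {A B} hA hB i j hij => by
        rw [cmul, Matrix.mul_apply, Finset.sum_eq_single i]
        · rw [hA i i (by omega), hB i j hij, Matrix.one_apply_eq, one_mul]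
        · intro l _ hl
          by_cases h1 : (i : ℕ) < k ∧ k ≤ l
          · rw [hB l j (by omega), Matrix.one_apply_ne (fun e => by subst e; exact hij h1), mul_zero]
          · rw [hA i l h1, Matrix.one_apply_ne (Ne.symm hl), zero_mul]
        · simp }

/-- The maximal parabolic subgroup of the cut `k`. -/
def P (F : Type*) [Field F] [Finite F] {n : ℕ} (k : ℕ) : Subgroup (SpecialLinearGroup (Fin n) F) :=
  ofSubmonoid
    { carrier := {A | ∀ i j : Fin n, k ≤ i → (j : ℕ) < k → A.1 i j = 0}
      one_mem' := fun i j hi hj => Matrix.one_apply_ne (fun e => by subst e; omega)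
      mul_mem' := fun {A B} hA hB i j hi hj => by
        rw [cmul, Matrix.mul_apply]
        refine Finset.sum_eq_zero fun l _ => ?_
        rcases lt_or_ge (l : ℕ) k with h | h
        · rw [hA i l hi h, zero_mul]
        · rw [hB l j h hj, mul_zero] }

theorem mem_R {A : SLn} {k : ℕ} :
    A ∈ R F k ↔ ∀ i j : Fin n, ¬((i : ℕ) < k ∧ k ≤ j) → A.1 i j = (1 : M) i j := Iff.rfl

theorem mem_P {A : SLn} {k : ℕ} :
    A ∈ P F k ↔ ∀ i j : Fin n, k ≤ i → (j : ℕ) < k → A.1 i j = 0 := Iff.rfl

omit hp [CharP F p] in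
theorem R_le_U (k : ℕ) : (R F k : Subgroup SLn) ≤ U F n := fun A hA =>
  ⟨fun i => (hA i i (by omega)).trans (Matrix.one_apply_eq i),
    fun i j h => (hA i j (by rw [Fin.lt_def] at h; omega)).trans (Matrix.one_apply_ne h.ne')⟩

omit hp [CharP F p] in
theorem U_le_P (k : ℕ) : U F n ≤ (P F k : Subgroup SLn) :=
  fun A hA i j hi hj => hA.2 i j (Fin.lt_def.2 (by omega))

omit hp [CharP F p] in
theorem conj_R {g A : SLn} {k : ℕ} (hg : g ∈ P F k) (hA : A ∈ R F k) :
    g * A * g⁻¹ ∈ R F k := by
  intro i j hij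
  have hg' : g⁻¹ ∈ P F k := Subgroup.inv_mem _ hg
  have hdec : (g * A * g⁻¹).1 = 1 + g.1 * (A.1 - 1) * (g⁻¹).1 := by
    rw [mul_sub, sub_mul, mul_one, ← cmul, ← cmul,
      ← cmul, mul_inv_cancel, cone]
    abel
  rw [hdec, Matrix.add_apply, Matrix.mul_apply]
  simp only [add_eq_left]
  refine Finset.sum_eq_zero fun l _ => ?_
  rcases eq_or_ne ((g⁻¹).1 l j) 0 with h | h
  · rw [h, mul_zero]
  · rw [Matrix.mul_apply, Finset.sum_eq_zero, zero_mul]
    intro m _
    by_cases hml : (m : ℕ) < k ∧ k ≤ l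
    · have hkj : k ≤ (j : ℕ) := by
        by_contra hc
        exact h (hg' l j hml.2 (by omega))
      rw [hg i m (by omega) hml.1, zero_mul]
    · rw [Matrix.sub_apply, hA m l hml, sub_self, mul_zero]

omit hp [CharP F p] in
theorem transvection_mem_R {i j : Fin n} {k : ℕ} (hij : i ≠ j) (hi : (i : ℕ) < k) (hj : k ≤ j)
    (c : F) : SpecialLinearGroup.transvection hij c ∈ R F k := by
  intro a b hab
  rw [transvection_apply, Matrix.one_apply, if_neg (c := i = a ∧ j = b), add_zero]
  rintro ⟨rfl, rfl⟩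
  exact hab ⟨hi, hj⟩

omit hp [CharP F p] in
theorem transvection_mem_P {i j : Fin n} {k : ℕ} (hij : i ≠ j)
    (h : k ≤ (i : ℕ) → k ≤ (j : ℕ)) (c : F) : SpecialLinearGroup.transvection hij c ∈ P F k := by
  intro a b ha hb
  rw [transvection_apply, if_neg, if_neg, add_zero]
  · rintro ⟨rfl, rfl⟩; have := h ha; omega
  · rintro rfl; omega

omit hp [CharP F p] in
/-- The centraliser of a parabolic radical. -/
theorem center_mul_R_of_comm {A : SLn} {k : ℕ} (hk0 : 0 < k) (hkn : k < n)
    (h : ∀ r ∈ R F k, r * A = A * r) :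
    ∃ c : F, c ≠ 0 ∧ ∀ i j : Fin n, ¬((i : ℕ) < k ∧ k ≤ j) → A.1 i j = c * (1 : M) i j := by
  let i₀ : Fin n := ⟨0, by omega⟩
  let j₀ : Fin n := ⟨k, hkn⟩
  have key : ∀ (i j : Fin n), (i : ℕ) < k → k ≤ (j : ℕ) →
      A.1 i i = A.1 j j ∧ (∀ l, l ≠ i → A.1 l i = 0) ∧ ∀ l, l ≠ j → A.1 j l = 0 := by
    intro i j hi hj
    have hij : i ≠ j := fun e => by subst e; omega
    have he := congrArg Subtype.val (h _ (transvection_mem_R (F := F) hij hi hj 1))
    simp only [cmul, SpecialLinearGroup.transvection_coe, add_mul, mul_add,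
      one_mul, mul_one, add_right_inj] at he
    have he' : ∀ a b : Fin n, (Matrix.single i j (1 : F) * A.1 : M) a b =
        (A.1 * Matrix.single i j (1 : F) : M) a b :=
      fun a b => by rw [he]
    refine ⟨?_, fun l hl => ?_, fun l hl => ?_⟩
    · simpa using (he' i j).symm
    · have := he' l j
      rw [Matrix.single_mul_apply_of_ne _ _ _ _ _ hl] at this
      simpa using this.symm
    · have := he' i l
      rw [Matrix.mul_single_apply_of_ne _ _ _ _ _ hl] at this
      simpa using this
  have hzero : ∀ a b : Fin n, a ≠ b → ¬((a : ℕ) < k ∧ k ≤ b) → A.1 a b = 0 := by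
    intro a b hab hn'
    rcases lt_or_ge (b : ℕ) k with hb | hb
    · exact (key b j₀ hb le_rfl).2.1 a hab
    · exact (key i₀ a hk0 (not_lt.1 fun ha => hn' ⟨ha, hb⟩)).2.2 b hab.symm
  have hdiag : ∀ a : Fin n, A.1 a a = A.1 i₀ i₀ := by
    intro a
    rcases lt_or_ge (a : ℕ) k with ha | ha
    · exact (key a j₀ ha le_rfl).1.trans (key i₀ j₀ hk0 le_rfl).1.symm
    · exact (key i₀ a hk0 ha).1.symm
  refine ⟨A.1 i₀ i₀, fun hz => ?_, fun a b hab => ?_⟩
  · have := A.2
    rw [Matrix.det_eq_zero_of_column_eq_zero i₀ (fun a => ?_)] at this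
    · exact zero_ne_one this
    · rcases eq_or_ne a i₀ with rfl | ha
      · exact hz
      · exact (key i₀ j₀ hk0 le_rfl).2.1 a ha
  · rcases eq_or_ne a b with rfl | hne
    · rw [Matrix.one_apply_eq, mul_one, hdiag]
    · rw [Matrix.one_apply_ne hne, mul_zero, hzero a b hne hab]

omit hp [CharP F p] in
/-- All elementary transvections are conjugate in `SL n F` for `n ≥ 3`. -/
theorem isConj_transvection (hn : 3 ≤ n) {i j k l : Fin n} (hij : i ≠ j) (hkl : k ≠ l) {a b : F}
    (ha : a ≠ 0) (hb : b ≠ 0) :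
    IsConj (SpecialLinearGroup.transvection hij a) (SpecialLinearGroup.transvection hkl b) := by
  classical
  let e₁ : Equiv.Perm (Fin n) := Equiv.swap i k
  let σ : Equiv.Perm (Fin n) := (Equiv.swap (e₁ j) l) * e₁
  have hσi : σ i = k := by
    simp only [σ, Equiv.Perm.mul_apply, e₁, Equiv.swap_apply_left]
    refine Equiv.swap_apply_of_ne_of_ne (fun e => ?_) hkl
    exact hij (e₁.injective ((Equiv.swap_apply_left i k).trans e))
  have hσj : σ j = l := by simp [σ]
  obtain ⟨r, hri, hrj⟩ := PSLSimple.exists_third (ι := Fin n) (by simpa using hn) i j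
  let P : M := (Equiv.toPEquiv σ⁻¹).toMatrix
  have hP : ∀ x y, P x y = if σ y = x then 1 else 0 := fun x y => by
    by_cases h : σ y = x
    · subst h; simp [P, PEquiv.toMatrix_apply, Equiv.toPEquiv_apply]
    · rw [if_neg h]
      simp only [P, PEquiv.toMatrix_apply, Equiv.toPEquiv_apply, Option.mem_some_iff]
      rw [if_neg]
      exact fun e => h (by rw [← e]; exact σ.apply_symm_apply x)
  have hPdet : P.det ≠ 0 := by
    rw [show P.det = (Equiv.Perm.sign σ⁻¹ : ℤ) from Matrix.det_permutation σ⁻¹]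
    rcases Int.units_eq_one_or (Equiv.Perm.sign σ⁻¹) with h | h <;> simp [h]
  let d : Fin n → F := fun x => if x = i then b else if x = j then a else
    if x = r then (P.det * b * a)⁻¹ else 1
  let g : M := P * Matrix.diagonal d
  have hg : g.det = 1 := by
    rw [Matrix.det_mul, Matrix.det_diagonal,
      ← Finset.prod_subset (Finset.subset_univ {i, j, r}) (fun x _ hx => by
        simp at hx; simp [d, hx])]
    rw [Finset.prod_insert (by simp [hij, Ne.symm hri]), Finset.prod_insert (by simp [Ne.symm hrj]),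
      Finset.prod_singleton]
    simp [d, hij.symm, hri, hrj]
    field_simp
  refine isConj_iff.2 ⟨(⟨g, hg⟩ : SLn), mul_inv_eq_iff_eq_mul.2 (Subtype.ext ?_)⟩
  show g * (SpecialLinearGroup.transvection hij a).1 =
    (SpecialLinearGroup.transvection hkl b).1 * g
  simp only [SpecialLinearGroup.transvection_coe, mul_add, add_mul,
    mul_one, one_mul]
  congr 1
  have hgapp : ∀ x y, g x y = if σ y = x then d y else 0 := fun x y => by
    simp [g, hP, ite_mul]
  ext x y
  by_cases hy : y = j <;> by_cases hx : x = k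
  · subst hy hx
    simp [hgapp, hσi, hσj, d, hij.symm]
  · subst hy
    rw [Matrix.mul_single_apply_same, Matrix.single_mul_apply_of_ne _ _ _ _ _ hx, hgapp, hσi,
      if_neg (Ne.symm hx), zero_mul]
  · subst hx
    rw [Matrix.mul_single_apply_of_ne _ _ _ _ _ hy, Matrix.single_mul_apply_same, hgapp,
      if_neg (fun e => hy (σ.injective (e.trans hσj.symm))), mul_zero]
  · rw [Matrix.mul_single_apply_of_ne _ _ _ _ _ hy, Matrix.single_mul_apply_of_ne _ _ _ _ _ hx]

end Cfsg.Agent.PSLUnipotent
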