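import Cfsg.Agent.Lib.OrthUnitaryPSU
import Cfsg.Agent.Lib.PSLUnipotent

/-!
Sylow subgroups of `SU n q` in the defining characteristic, without coordinates: fixed isotropic
vectors, Eichler groups, recursion along hyperbolic planes, generation by elements of `p`-power order.
-/

set_option autoImplicit false

namespace Cfsg.Agent.FusionPSUBasic

open Cfsg Matrix
open Cfsg.Agent.OrthUnitaryHerm Cfsg.Agent.OrthUnitaryTransvection

variable {F : Type*} [Field F] [Fintype F] {q n : ℕ}

/-- `w, μ` describe an element of the Eichler group at `e`. -/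
def QEset (hF : Fintype.card F = q ^ 2) (e : Fin n → F) : Set (SU n F q) :=
  {g | ∃ (w : Fin n → F) (μ : F) (he : hermForm n F q e e = 0) (hw : hermForm n F q w e = 0)
    (hμ : μ + μ ^ q + hermForm n F q w w = 0), g = eich hF e w μ he hw hμ}

/-- The Eichler group at an isotropic vector. -/
def QE (hF : Fintype.card F = q ^ 2) (e : Fin n → F) (he : hermForm n F q e e = 0) :
    Subgroup (SU n F q) :=
  let M : Submonoid (SU n F q) :=
    { carrier := QEset hF e
      one_mem' := ⟨0, 0, he, herm_zero_left _, by simp [herm_zero_left, zero_pow_q hF], by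
        apply su_ext; intro x
        rw [eich_act, act_one, herm_zero_right hF]; simp⟩
      mul_mem' := by
        rintro a b ⟨w, μ, h, hw, hμ, rfl⟩ ⟨w', μ', -, hw', hμ', rfl⟩
        exact ⟨_, _, h, _, _, eich_mul hF h hw hw' hμ hμ'⟩ }
  { M with
    inv_mem' := fun {x} hx => by
      obtain ⟨k, hk, hk1⟩ := (isOfFinOrder_of_finite x).exists_pow_eq_one
      have : x⁻¹ = x ^ (k - 1) := by
        rw [inv_eq_iff_mul_eq_one, ← pow_succ', Nat.sub_add_cancel hk, hk1]
      rw [this]
      exact M.pow_mem hx _ }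

theorem mem_QE {hF : Fintype.card F = q ^ 2} {e : Fin n → F} {he : hermForm n F q e e = 0}
    {g : SU n F q} : g ∈ QE hF e he ↔ g ∈ QEset hF e := Iff.rfl

theorem eich_mem_QE (hF : Fintype.card F = q ^ 2) {e w : Fin n → F} {μ : F}
    (he : hermForm n F q e e = 0) (hw : hermForm n F q w e = 0)
    (hμ : μ + μ ^ q + hermForm n F q w w = 0) :
    eich hF e w μ he hw hμ ∈ QE hF e he := ⟨w, μ, he, hw, hμ, rfl⟩

theorem tv_mem_QE (hF : Fintype.card F = q ^ 2) {e : Fin n → F} {c : F}
    (he : hermForm n F q e e = 0) (hc : c + c ^ q = 0) :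
    tv hF e c he hc ∈ QE hF e he := by
  have hμ : c + c ^ q + hermForm n F q (0 : Fin n → F) 0 = 0 := by rw [herm_zero_left, add_zero, hc]
  exact ⟨0, c, he, herm_zero_left _, hμ, (eich_eq_tv hF he (herm_zero_left _) hμ).symm⟩

theorem QE_fix (hF : Fintype.card F = q ^ 2) {e : Fin n → F} (he : hermForm n F q e e = 0)
    {g : SU n F q} (hg : g ∈ QE hF e he) : act g e = e := by
  obtain ⟨w, μ, h, hw, hμ, rfl⟩ := hg
  exact eich_self hF e w μ h hw hμ

theorem act_zero (g : SU n F q) : act g (0 : Fin n → F) = 0 := Matrix.mulVec_zero _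

theorem act_inv_of (g : SU n F q) {x y : Fin n → F} (h : act g x = y) : act g⁻¹ y = x := by
  rw [← h, act_inv_act]

/-- Rescaling the centre of an Eichler element. -/
theorem eich_scale (hF : Fintype.card F = q ^ 2) {e w : Fin n → F} {μ lam : F}
    (he : hermForm n F q e e = 0) (he' : hermForm n F q (lam • e) (lam • e) = 0)
    (hw : hermForm n F q w (lam • e) = 0) (hw' : hermForm n F q (lam ^ q • w) e = 0)
    (hμ : μ + μ ^ q + hermForm n F q w w = 0)
    (hμ' : lam ^ (q + 1) * μ + (lam ^ (q + 1) * μ) ^ q + hermForm n F q (lam ^ q • w) (lam ^ q • w) = 0) :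
    eich hF (lam • e) w μ he' hw hμ =
      eich hF e (lam ^ q • w) (lam ^ (q + 1) * μ) he hw' hμ' := by
  apply su_ext
  intro x
  rw [eich_act, eich_act, herm_smul_right, herm_smul_right, pow_q_q hF, pow_succ]
  module

theorem conj_QE (hF : Fintype.card F = q ^ 2) {e : Fin n → F} (he : hermForm n F q e e = 0)
    {g : SU n F q} {lam : F} (hg : act g e = lam • e) {x : SU n F q} (hx : x ∈ QE hF e he) :
    g * x * g⁻¹ ∈ QE hF e he := by
  obtain ⟨w, μ, h, hw, hμ, rfl⟩ := hx
  have hw1 : hermForm n F q (act g w) (lam • e) = 0 := by rw [← hg, herm_act, hw]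
  have he1 : hermForm n F q (lam • e) (lam • e) = 0 := by rw [← hg, herm_act, h]
  have hμ1 : μ + μ ^ q + hermForm n F q (act g w) (act g w) = 0 := by rw [herm_act, hμ]
  have hw2 : hermForm n F q (lam ^ q • act g w) e = 0 := by
    rw [herm_smul_left, ← hw1, herm_smul_right]
  have hμ2 : lam ^ (q + 1) * μ + (lam ^ (q + 1) * μ) ^ q +
      hermForm n F q (lam ^ q • act g w) (lam ^ q • act g w) = 0 := by
    rw [herm_smul_left, herm_smul_right, pow_q_q hF, mul_pow, pow_succ, mul_pow, pow_q_q hF]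
    linear_combination (lam * lam ^ q) * hμ1
  refine ⟨_, _, h, hw2, hμ2, ?_⟩
  rw [eich_conj hF g h hw hμ, ← eich_scale hF h he1 hw1 hw2 hμ1 hμ2]
  apply su_ext
  intro y
  rw [eich_act, eich_act, hg]

section Field

/-- The `q`-power is not the identity. -/
theorem exists_pow_q_ne (hF : Fintype.card F = q ^ 2) : ∃ z : F, z ^ q ≠ z := by
  obtain ⟨c, hc0, hc⟩ := exists_skew hF
  obtain ⟨l, hl, hl2⟩ := exists_normOne_sq_ne_one hF
  by_contra h
  push Not at h
  refine hl2 (Units.ext ?_)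
  have := congrArg Units.val hl
  rw [Units.val_pow_eq_pow_val, pow_succ, h, Units.val_one] at this
  rw [Units.val_pow_eq_pow_val, sq, this, Units.val_one]

end Field

/-- A vector fixed by the Eichler group at `e` is a multiple of `e`. -/
theorem eq_smul_of_fix (hF : Fintype.card F = q ^ 2) {e x : Fin n → F} (he0 : e ≠ 0)
    (he : hermForm n F q e e = 0) (hx : ∀ g ∈ QE hF e he, act g x = x) : ∃ a : F, x = a • e := by
  obtain ⟨c, hc0, hc⟩ := exists_skew hF
  have h1 := hx _ (tv_mem_QE hF he hc)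
  rw [tv_act, add_eq_left, smul_eq_zero, or_iff_left he0, mul_eq_zero, or_iff_right hc0] at h1
  by_contra hno
  push Not at hno
  obtain ⟨z, hze, hzx⟩ := exists_herm_pair hF he0 hno 0 1
  obtain ⟨μ, hμ⟩ := exists_mu hF z
  have h2 := hx _ (eich_mem_QE hF he hze hμ)
  rw [eich_act, h1, zero_smul, add_zero, mul_zero, zero_sub, add_eq_left, smul_eq_zero,
    or_iff_left he0, neg_eq_zero] at h2
  rw [herm_conj hF, h2, zero_pow_q hF] at hzx
  exact zero_ne_one hzx

variable {p : ℕ} [Fact p.Prime] [CharP F p]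

/-- A unipotent element of `SU` has `p`-power order. -/
theorem pow_eq_one_of_cube (g : SU n F q)
    (h : ∀ x : Fin n → F, act g (act g (act g x - x) - (act g x - x)) -
      (act g (act g x - x) - (act g x - x)) = 0) : g ^ p ^ 2 = 1 := by
  rcases Nat.eq_zero_or_pos n with rfl | hn
  · exact su_ext fun x => funext fun i => i.elim0
  have : Nonempty (Fin n) := ⟨⟨0, hn⟩⟩
  have : CharP (Matrix (Fin n) (Fin n) F) p := inferInstance
  set A : Matrix (Fin n) (Fin n) F := (g : SpecialLinearGroup (Fin n) F).1 with hA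
  have hN : (A - 1) ^ 3 = 0 := by
    refine Matrix.ext_of_mulVec_single fun i => ?_
    have e1 : ∀ x, (A - 1) *ᵥ x = act g x - x := fun x => by
      rw [Matrix.sub_mulVec, Matrix.one_mulVec]; rfl
    rw [Matrix.zero_mulVec, pow_succ, pow_succ, pow_one, ← Matrix.mulVec_mulVec,
      ← Matrix.mulVec_mulVec, e1, e1, e1]
    exact h _
  have h3 : 3 ≤ p ^ 2 := by
    have := (Fact.out : p.Prime).two_le
    nlinarith
  apply Subtype.ext; apply Subtype.ext
  show ((g ^ p ^ 2 : SU n F q) : SpecialLinearGroup (Fin n) F).1 = 1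
  rw [SubmonoidClass.coe_pow, Matrix.SpecialLinearGroup.coe_pow, ← hA,
    show A = 1 + (A - 1) by abel, add_pow_char_pow_of_commute (p := p) 2 (Commute.one_left _),
    one_pow, pow_eq_zero_of_le h3 hN, add_zero]

theorem eich_pow (hF : Fintype.card F = q ^ 2) {e w : Fin n → F} {μ : F}
    (he : hermForm n F q e e = 0) (hw : hermForm n F q w e = 0)
    (hμ : μ + μ ^ q + hermForm n F q w w = 0) : eich hF e w μ he hw hμ ^ p ^ 2 = 1 := by
  refine pow_eq_one_of_cube _ fun x => ?_
  have d : ∀ y : Fin n → F, act (eich hF e w μ he hw hμ) y - y =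
      hermForm n F q y e • w + (μ * hermForm n F q y e - hermForm n F q y w) • e := fun y => by
    rw [eich_act]; abel
  simp only [d, herm_add_left, herm_smul_left, he, hw, herm_skew_zero hF hw, mul_zero, add_zero,
    zero_smul, zero_add, zero_sub, neg_zero, sub_zero]

theorem isPGroup_QE (hF : Fintype.card F = q ^ 2) {e : Fin n → F} (he : hermForm n F q e e = 0) :
    IsPGroup p (QE hF e he) := by
  rintro ⟨g, w, μ, h, hw, hμ, rfl⟩
  exact ⟨2, Subtype.ext (eich_pow hF h hw hμ)⟩

theorem exists_orderOf_eq {G : Type*} [Group G] {g : G} {k : ℕ} (h : g ^ p ^ k = 1) :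
    ∃ i : ℕ, orderOf g = p ^ i := by
  obtain ⟨i, -, hi⟩ := (Nat.dvd_prime_pow (Fact.out : p.Prime)).1 (orderOf_dvd_of_pow_eq_one h)
  exact ⟨i, hi⟩

/-- A `p`-subgroup normalized by a Sylow subgroup is contained in it. -/
theorem le_sylow {G : Type*} [Group G] {H : Subgroup G} (hH : IsPGroup p H) (S : Sylow p G)
    (hN : (S : Subgroup G) ≤ Subgroup.normalizer (H : Set G)) : H ≤ (S : Subgroup G) :=
  le_sup_right.trans (S.3 (S.2.to_sup_of_normal_right' hH hN) le_sup_left).le

theorem mem_normalizer_QE (hF : Fintype.card F = q ^ 2) {e : Fin n → F} (he0 : e ≠ 0)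
    (he : hermForm n F q e e = 0) {g : SU n F q} {lam : F} (hg : act g e = lam • e) :
    g ∈ Subgroup.normalizer (QE hF e he : Set (SU n F q)) := by
  have hl : lam ≠ 0 := by
    rintro rfl
    rw [zero_smul] at hg
    exact he0 (by rw [← act_inv_act g e, hg, act_zero])
  have hg' : act g⁻¹ e = lam⁻¹ • e := act_inv_of g (by rw [act_smul, hg, inv_smul_smul₀ hl])
  refine Subgroup.mem_normalizer_iff.2 fun x => ⟨conj_QE hF he hg, fun hx => ?_⟩
  have := conj_QE hF he hg' hx
  simpa [mul_assoc] using this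

theorem QE_le_sylow (hF : Fintype.card F = q ^ 2) {e : Fin n → F} (he0 : e ≠ 0)
    (he : hermForm n F q e e = 0) (S : Sylow p (SU n F q)) (hS : ∀ s ∈ S, act s e = e) :
    QE hF e he ≤ (S : Subgroup (SU n F q)) :=
  le_sylow (isPGroup_QE hF he) S fun s hs =>
    mem_normalizer_QE hF he0 he (lam := 1) (by rw [one_smul, hS s hs])

/-- A Sylow subgroup fixes an isotropic vector. -/
theorem exists_fixed_isotropic (hF : Fintype.card F = q ^ 2) (hn : 2 ≤ n)
    (S : Sylow p (SU n F q)) :
    ∃ e : Fin n → F, e ≠ 0 ∧ hermForm n F q e e = 0 ∧ ∀ s ∈ S, act s e = e := by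
  classical
  obtain ⟨v, hv0, hv⟩ := exists_isotropic (F := F) (q := q) hF hn
  have hne : ∃ s ∈ S, ∃ x : Fin n → F, act s x ≠ x := by
    by_contra hall
    push Not at hall
    obtain ⟨g, hg⟩ := ((isPGroup_QE (p := p) hF hv).exists_le_sylow)
    obtain ⟨k, hk⟩ := MulAction.exists_smul_eq (SU n F q) S g
    obtain ⟨c, hc0, hc⟩ := exists_skew hF
    have ht := hg (tv_mem_QE hF hv hc)
    rw [← hk] at ht
    obtain ⟨s, hs, hst⟩ := ht
    have hs1 : s = 1 := su_ext fun x => by rw [hall s hs, act_one]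
    have h1 : tv hF v c hv hc = 1 := by rw [← hst, hs1]; exact map_one _
    obtain ⟨z, hz⟩ := exists_herm_eq hF hv0 1
    have h2 := congrArg (fun a => act a z) h1
    simp only [tv_act, act_one, hz, mul_one, add_eq_left, smul_eq_zero] at h2
    exact h2.elim hc0 hv0
  obtain ⟨s₀, hs₀, x₀, hx₀⟩ := hne
  -- the vectors orthogonal to all fixed vectors
  let W : Submodule F (Fin n → F) :=
    { carrier := {x | ∀ y, (∀ s ∈ S, act s y = y) → hermForm n F q x y = 0}
      zero_mem' := fun y _ => herm_zero_left y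
      add_mem' := fun {a b} ha hb y hy => by rw [herm_add_left, ha y hy, hb y hy, add_zero]
      smul_mem' := fun c a ha y hy => by rw [herm_smul_left, ha y hy, mul_zero] }
  have hinv : ∀ s ∈ S, ∀ x ∈ W, act s x ∈ W := fun s hs x hx y hy => by
    rw [show y = act s y from (hy s hs).symm, herm_act]
    exact hx y hy
  let _inst : MulAction (S : Subgroup (SU n F q)) W :=
    { smul := fun s x => ⟨act (s : SU n F q) x.1, hinv _ s.2 _ x.2⟩
      one_smul := fun x => Subtype.ext (act_one _)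
      mul_smul := fun s t x => Subtype.ext (act_mul _ _ _) }
  have hWne : act s₀ x₀ - x₀ ∈ W := fun y hy => by
    rw [herm_sub_left]
    conv_lhs => arg 1; rw [← hy s₀ hs₀]
    rw [herm_act, sub_self]
  have : Nontrivial W := ⟨⟨⟨_, hWne⟩, 0, fun h => hx₀ (sub_eq_zero.1 (congrArg Subtype.val h))⟩⟩
  have hdvd : p ∣ Nat.card W := by
    obtain ⟨k, -, hk⟩ := FiniteField.card F p
    rw [Module.natCard_eq_pow_finrank (K := F), Nat.card_eq_fintype_card, hk]
    exact dvd_pow (dvd_pow_self p k.ne_zero) (Module.finrank_pos.ne')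
  obtain ⟨e, he, hne⟩ := S.2.exists_fixed_point_of_prime_dvd_card_of_fixed_point W hdvd
    (a := 0) (fun s => Subtype.ext (act_zero _))
  have hfix : ∀ s ∈ S, act s e.1 = e.1 := fun s hs => congrArg Subtype.val (he ⟨s, hs⟩)
  exact ⟨e.1, fun h => hne (Subtype.ext h.symm), e.2 e.1 hfix, hfix⟩

/-- The data of the orthogonal complement of a hyperbolic pair. -/
structure Split (q : ℕ) (e f : Fin (n + 2) → F) where
  /-- The embedding of the small group. -/
  j : SU n F q →* SU (n + 2) F q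
  /-- The embedding of the small space. -/
  ι : (Fin n → F) →ₗ[F] (Fin (n + 2) → F)
  inj : Function.Injective j
  herm_ι : ∀ x y, hermForm (n + 2) F q (ι x) (ι y) = hermForm n F q x y
  act_ι : ∀ k x, act (j k) (ι x) = ι (act k x)
  act_e : ∀ k, act (j k) e = e
  act_f : ∀ k, act (j k) f = f
  exists_j : ∀ g : SU (n + 2) F q, act g e = e → act g f = f → ∃ k, j k = g
  ι_e : ∀ x, hermForm (n + 2) F q (ι x) e = 0
  ι_f : ∀ x, hermForm (n + 2) F q (ι x) f = 0
  exists_ι : ∀ x, hermForm (n + 2) F q x e = 0 → hermForm (n + 2) F q x f = 0 → ∃ y, ι y = x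

/-- Embedding along a non-isotropic vector. -/
theorem exists_stab_one (hF : Fintype.card F = q ^ 2) {a : Fin (n + 1) → F}
    (ha : hermForm (n + 1) F q a a ≠ 0) :
    ∃ (j : SU n F q →* SU (n + 1) F q) (ι : (Fin n → F) →ₗ[F] (Fin (n + 1) → F)),
      Function.Injective j ∧ (∀ x y, hermForm (n + 1) F q (ι x) (ι y) = hermForm n F q x y) ∧
      (∀ k x, act (j k) (ι x) = ι (act k x)) ∧ (∀ k, act (j k) a = a) ∧
      (∀ g, act g a = a → ∃ k, j k = g) ∧ (∀ x, hermForm (n + 1) F q (ι x) a = 0) ∧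
      (∀ x, hermForm (n + 1) F q x a = 0 → ∃ y, ι y = x) := by
  obtain ⟨z, hz⟩ := exists_norm_eq hF (a := (hermForm (n + 1) F q a a)⁻¹)
    (by rw [inv_pow, herm_self_pow hF])
  have hz0 : z ≠ 0 := by
    rintro rfl
    rw [zero_pow (Nat.succ_ne_zero q)] at hz
    exact inv_ne_zero ha hz.symm
  have h1 : hermForm (n + 1) F q (z • a) (z • a) = 1 := by
    rw [herm_smul_left, herm_smul_right, ← mul_assoc, ← pow_succ', hz, inv_mul_cancel₀ ha]
  obtain ⟨M, hM, hMa⟩ := exists_isU_map hF (u := z • a) (v := Pi.single 0 1)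
    (by rw [h1, herm_single_right hF]; simp) (by rw [h1]; exact one_ne_zero)
  have hd : IsUnit M.det := (Matrix.isUnit_iff_isUnit_det M).1 (hM.isUnit hF)
  have hMM : ∀ x, M⁻¹ *ᵥ (M *ᵥ x) = x := fun x => by
    rw [Matrix.mulVec_mulVec, Matrix.nonsing_inv_mul _ hd, Matrix.one_mulVec]
  have hMi : M⁻¹ *ᵥ (Pi.single 0 1) = z • a := by rw [← hMa, hMM]
  let ι : (Fin n → F) →ₗ[F] (Fin (n + 1) → F) :=
    { toFun := fun x => M⁻¹ *ᵥ Fin.cons 0 x
      map_add' := fun x y => by
        rw [← Matrix.mulVec_add]; congr 1; funext i; cases i using Fin.cases <;> simp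
      map_smul' := fun c x => by
        rw [RingHom.id_apply, ← Matrix.mulVec_smul]; congr 1; funext i
        cases i using Fin.cases <;> simp }
  have hι : ∀ x, ι x = M⁻¹ *ᵥ Fin.cons 0 x := fun _ => rfl
  let j : SU n F q →* SU (n + 1) F q := (conjU hF M⁻¹ (isU_inv hF hM)).comp extSU
  have hjι : ∀ k x, act (j k) (ι x) = ι (act k x) := fun k x => by
    rw [hι, hι]
    show act (conjU hF M⁻¹ (isU_inv hF hM) (extSU k)) _ = _
    rw [conjU_act, extSU_act, Fin.cons_zero, Fin.tail_cons]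
  refine ⟨j, ι, ?_, fun x y => ?_, hjι, fun k => ?_, fun g hg => ?_, fun x => ?_, fun x hx => ?_⟩
  · intro k k' hk
    apply su_ext
    intro x
    have h2 := (hjι k x).symm.trans ((congrArg (fun g => act g (ι x)) hk).trans (hjι k' x))
    have h3 := congrArg (fun v => Fin.tail (M *ᵥ v)) h2
    simp only [hι, Matrix.mulVec_mulVec, Matrix.mul_nonsing_inv _ hd, Matrix.one_mulVec,
      Fin.tail_cons] at h3
    exact h3
  · rw [hι, hι, isU_inv hF hM, herm_cons]; ring
  · have h2 : act (j k) (z • a) = z • a := by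
      rw [← hMi]
      show act (conjU hF M⁻¹ (isU_inv hF hM) (extSU k)) _ = _
      rw [conjU_act, extSU_act, Pi.single_eq_same,
        show Fin.tail (Pi.single (0 : Fin (n + 1)) (1 : F) : Fin (n + 1) → F) = 0 from
          funext fun i => Pi.single_eq_of_ne (Fin.succ_ne_zero i) 1, act_zero]
      congr 1
      funext i
      cases i using Fin.cases <;> simp
    rw [act_smul] at h2
    exact smul_right_injective _ hz0 h2
  · have hfix : act (conjU hF M hM g) (Pi.single 0 1) = Pi.single 0 1 := by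
      rw [← hMa, conjU_act, act_smul, hg]
    obtain ⟨hN, hU⟩ := isU_stab hF (isU_of_mem_SU (conjU hF M hM g)) hfix
    refine ⟨mkSU _ (by rw [← det_extendMat, ← hN]; exact (conjU hF M hM g).1.2) hU, ?_⟩
    show conjU hF M⁻¹ (isU_inv hF hM) (extSU _) = g
    conv_rhs => rw [← conjU_inv hF M hM g]
    congr 1
    exact (Subtype.ext (Subtype.ext hN)).symm
  · have h2 : hermForm (n + 1) F q (ι x) (z • a) = 0 := by
      rw [← hMi, hι, isU_inv hF hM, herm_single_right hF]; simp
    rw [herm_smul_right, mul_eq_zero] at h2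
    exact h2.resolve_left (pow_ne_zero _ hz0)
  · refine ⟨Fin.tail (M *ᵥ x), ?_⟩
    have h0 : (M *ᵥ x) 0 = 0 := by
      rw [← herm_single_right hF 0 (M *ᵥ x), ← hMa, hM, herm_smul_right, hx, mul_zero]
    have h2 : (Fin.cons 0 (Fin.tail (M *ᵥ x)) : Fin (n + 1) → F) = M *ᵥ x := by
      rw [← h0, Fin.cons_self_tail]
    rw [hι, h2, hMM]

/-- The split along a hyperbolic pair. -/
theorem nonempty_split (hF : Fintype.card F = q ^ 2) {e f : Fin (n + 2) → F}
    (he : hermForm (n + 2) F q e e = 0) (hff : hermForm (n + 2) F q f f = 0)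
    (hfe : hermForm (n + 2) F q f e = 1) (hef : hermForm (n + 2) F q e f = 1) :
    Nonempty (Split q e f) := by
  obtain ⟨s, hs⟩ := exists_trace hF (a := (1 : F)) (one_pow q)
  obtain ⟨a, ha⟩ : ∃ a, a = e + s • f := ⟨_, rfl⟩
  obtain ⟨b, hb⟩ : ∃ b, b = e + (-(s ^ q)) • f := ⟨_, rfl⟩
  have haa : hermForm (n + 2) F q a a = 1 := by
    simp only [ha, herm_add_left, herm_add_right hF, herm_smul_left, herm_smul_right, he,
      hfe, hef, hff]
    linear_combination hs
  have hbb : hermForm (n + 2) F q b b = -1 := by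
    simp only [hb, herm_add_left, herm_add_right hF, herm_smul_left, herm_smul_right, he,
      hfe, hef, hff, neg_pow_q hF, pow_q_q hF]
    linear_combination -hs
  have hba : hermForm (n + 2) F q b a = 0 := by
    simp only [ha, hb, herm_add_left, herm_add_right hF, herm_smul_left, herm_smul_right, he,
      hfe, hef, hff]
    ring
  have hf' : f = a - b := by
    rw [ha, hb]
    linear_combination (norm := module) (-1 : F) • (congrArg (fun c : F => c • f) hs)
  obtain ⟨j₁, ι₁, hj₁, hh₁, ha₁, hf₁, he₁, hp₁, hs₁⟩ :=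
    exists_stab_one hF (a := a) (by rw [haa]; exact one_ne_zero)
  obtain ⟨b', hb'⟩ := hs₁ b hba
  obtain ⟨j₂, ι₂, hj₂, hh₂, ha₂, hf₂, he₂, hp₂, hs₂⟩ := exists_stab_one hF (a := b')
    (by rw [← hh₁, hb', hbb]; exact neg_ne_zero.2 one_ne_zero)
  have hι1inj : Function.Injective ι₁ := by
    rw [injective_iff_map_eq_zero]
    intro x hx
    refine eq_zero_of_herm_eq_zero hF fun y => ?_
    rw [← hh₁, hx, herm_zero_left]
  have fixb : ∀ k, act (j₁ (j₂ k)) b = b := fun k => by rw [← hb', ha₁, hf₂]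
  have fixa : ∀ k, act (j₁ (j₂ k)) a = a := fun k => hf₁ _
  have fixf : ∀ k, act (j₁ (j₂ k)) f = f := fun k => by rw [hf', act_sub, fixa, fixb]
  refine ⟨⟨j₁.comp j₂, ι₁.comp ι₂, hj₁.comp hj₂, fun x y => ?_, fun k x => ?_, fun k => ?_, fixf,
    fun g hge hgf => ?_, fun x => ?_, fun x => ?_, fun x hxe hxf => ?_⟩⟩
  · simp only [LinearMap.comp_apply, hh₁, hh₂]
  · simp only [LinearMap.comp_apply, MonoidHom.comp_apply, ha₁, ha₂]
  · rw [show e = a - s • f by rw [ha, add_sub_cancel_right], act_sub, act_smul,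
      MonoidHom.comp_apply, fixa, fixf]
  · have hga : act g a = a := by rw [ha, act_add, act_smul, hge, hgf]
    have hgb : act g b = b := by rw [hb, act_add, act_smul, hge, hgf]
    obtain ⟨k₁, rfl⟩ := he₁ g hga
    rw [← hb', ha₁] at hgb
    obtain ⟨k₂, rfl⟩ := he₂ k₁ (hι1inj hgb)
    exact ⟨k₂, rfl⟩
  · rw [show e = a - s • f by rw [ha, add_sub_cancel_right], hf', herm_sub_right hF,
      herm_smul_right, herm_sub_right hF, LinearMap.comp_apply, hp₁, ← hb', hh₁, hp₂]
    ring
  · rw [hf', herm_sub_right hF, LinearMap.comp_apply, hp₁, ← hb', hh₁, hp₂, sub_zero]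
  · have hxa : hermForm (n + 2) F q x a = 0 := by
      rw [ha, herm_add_right hF, herm_smul_right, hxe, hxf]; ring
    have hxb : hermForm (n + 2) F q x b = 0 := by
      rw [hb, herm_add_right hF, herm_smul_right, hxe, hxf]; ring
    obtain ⟨y, rfl⟩ := hs₁ x hxa
    rw [← hb', hh₁] at hxb
    obtain ⟨w, rfl⟩ := hs₂ y hxb
    exact ⟨w, rfl⟩

section SplitFacts

variable {e f : Fin (n + 2) → F} (sp : Split q e f)

/-- Every vector decomposes along a split. -/
theorem Split.decomp (he : hermForm (n + 2) F q e e = 0) (hff : hermForm (n + 2) F q f f = 0)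
    (hfe : hermForm (n + 2) F q f e = 1) (hef : hermForm (n + 2) F q e f = 1)
    (x : Fin (n + 2) → F) :
    ∃ y, x = sp.ι y + hermForm (n + 2) F q x f • e + hermForm (n + 2) F q x e • f := by
  obtain ⟨y, hy⟩ := sp.exists_ι
    (x - hermForm (n + 2) F q x f • e - hermForm (n + 2) F q x e • f)
    (by simp only [herm_sub_left, herm_smul_left, he, hfe]; ring)
    (by simp only [herm_sub_left, herm_smul_left, hef, hff]; ring)
  exact ⟨y, by rw [hy]; abel⟩

theorem Split.map_eich (hF : Fintype.card F = q ^ 2) (he : hermForm (n + 2) F q e e = 0)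
    (hff : hermForm (n + 2) F q f f = 0)
    (hfe : hermForm (n + 2) F q f e = 1) (hef : hermForm (n + 2) F q e f = 1)
    {u w : Fin n → F} {μ : F} (hu : hermForm n F q u u = 0) (hw : hermForm n F q w u = 0)
    (hμ : μ + μ ^ q + hermForm n F q w w = 0) :
    sp.j (eich hF u w μ hu hw hμ) = eich hF (sp.ι u) (sp.ι w) μ (by rw [sp.herm_ι, hu])
      (by rw [sp.herm_ι, hw]) (by rw [sp.herm_ι, hμ]) := by
  apply su_ext
  intro x
  obtain ⟨y, hx⟩ := sp.decomp he hff hfe hef x
  rw [hx, act_add, act_add, act_smul, act_smul, sp.act_e, sp.act_f, sp.act_ι, eich_act, eich_act]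
  simp only [herm_add_left, herm_smul_left, sp.herm_ι, herm_skew_zero hF (sp.ι_e _),
    herm_skew_zero hF (sp.ι_f _), mul_zero, add_zero, map_add, map_smul]
  abel

/-- An element fixing `e` is an Eichler element times an element of the complement. -/
theorem Split.exists_factor (hF : Fintype.card F = q ^ 2) (he : hermForm (n + 2) F q e e = 0)
    (hff : hermForm (n + 2) F q f f = 0) (hfe : hermForm (n + 2) F q f e = 1)
    {g : SU (n + 2) F q} (hg : act g e = e) :
    ∃ E ∈ QE hF e he, ∃ k, g = E * sp.j k := by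
  obtain ⟨w, μ, hw, hμ, hmv⟩ := exists_eich_move hF he (u := act g f) (v := f)
    (by rw [herm_act, hff]) hff
    (by conv_lhs => arg 5; rw [← hg]
        rw [herm_act, hfe]) hfe
  obtain ⟨k, hk⟩ := sp.exists_j (eich hF e w μ he hw hμ * g)
    (by rw [act_mul, hg, eich_self]) (by rw [act_mul, hmv])
  exact ⟨(eich hF e w μ he hw hμ)⁻¹, inv_mem (eich_mem_QE hF he hw hμ), k, by
    rw [hk, inv_mul_cancel_left]⟩

theorem Split.j_mem_normalizer (hF : Fintype.card F = q ^ 2) (he0 : e ≠ 0)
    (he : hermForm (n + 2) F q e e = 0) (k : SU n F q) :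
    sp.j k ∈ Subgroup.normalizer (QE hF e he : Set (SU (n + 2) F q)) :=
  mem_normalizer_QE hF he0 he (lam := 1) (by rw [one_smul, sp.act_e])

/-- The Sylow subgroup below. -/
theorem Split.exists_sylow (hF : Fintype.card F = q ^ 2) (he0 : e ≠ 0)
    (he : hermForm (n + 2) F q e e = 0) (hff : hermForm (n + 2) F q f f = 0)
    (hfe : hermForm (n + 2) F q f e = 1) (S : Sylow p (SU (n + 2) F q))
    (hS : ∀ s ∈ S, act s e = e) :
    ∃ S' : Sylow p (SU n F q), ∀ k, k ∈ S' ↔ sp.j k ∈ S := by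
  have hQ := QE_le_sylow hF he0 he S hS
  have hp : IsPGroup p ((S : Subgroup (SU (n + 2) F q)).comap sp.j) :=
    S.2.comap_of_injective sp.j sp.inj
  refine ⟨⟨(S : Subgroup (SU (n + 2) F q)).comap sp.j, hp, fun {P} hP hle => le_antisymm ?_ hle⟩,
    fun k => Iff.rfl⟩
  have hPQ : IsPGroup p ((P.map sp.j) ⊔ QE hF e he : Subgroup (SU (n + 2) F q)) := by
    refine (hP.map sp.j).to_sup_of_normal_right' (isPGroup_QE hF he) ?_
    rintro _ ⟨k, -, rfl⟩
    exact sp.j_mem_normalizer hF he0 he k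
  have hSle : (S : Subgroup (SU (n + 2) F q)) ≤ P.map sp.j ⊔ QE hF e he := by
    intro s hs
    obtain ⟨E, hE, k, rfl⟩ := sp.exists_factor hF he hff hfe (hS s hs)
    refine mul_mem (Subgroup.mem_sup_right hE) (Subgroup.mem_sup_left ⟨k, hle ?_, rfl⟩)
    show sp.j k ∈ (S : Subgroup (SU (n + 2) F q))
    have := mul_mem (inv_mem (hQ hE)) hs
    rwa [inv_mul_cancel_left] at this
  intro k hk
  show sp.j k ∈ (S : Subgroup (SU (n + 2) F q))
  rw [← S.3 hPQ hSle]
  exact Subgroup.mem_sup_left ⟨k, hk, rfl⟩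

end SplitFacts

theorem subsingleton_SU (hn : n ≤ 1) : Subsingleton (SU n F q) := by
  refine ⟨fun g h => ?_⟩
  apply Subtype.ext; apply Subtype.ext
  ext i j
  obtain rfl : n = 1 := by have := i.isLt; omega
  have e1 := g.1.2
  have e2 := h.1.2
  rw [Matrix.det_fin_one] at e1 e2
  rw [Subsingleton.elim i 0, Subsingleton.elim j 0, e1, e2]

/-- Every Sylow subgroup is generated by the Eichler elements it contains. -/
theorem sylow_le_closure (hF : Fintype.card F = q ^ 2) : ∀ n : ℕ, ∀ S : Sylow p (SU n F q),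
    (S : Subgroup (SU n F q)) ≤ Subgroup.closure
      {g | g ∈ S ∧ ∃ (e : Fin n → F), e ≠ 0 ∧ g ∈ QEset hF e} := by
  intro n
  induction n using Nat.strong_induction_on with
  | _ n ih =>
  intro S s hs
  match n, ih, S, s, hs with
  | 0, _, S, s, _ =>
    have := subsingleton_SU (F := F) (q := q) (n := 0) (by omega)
    rw [Subsingleton.elim s 1]; exact one_mem _
  | 1, _, S, s, _ =>
    have := subsingleton_SU (F := F) (q := q) (n := 1) le_rfl
    rw [Subsingleton.elim s 1]; exact one_mem _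
  | m + 2, ih, S, s, hs =>
    obtain ⟨e, he0, he, hSe⟩ := exists_fixed_isotropic hF (by omega) S
    obtain ⟨f, hff, hfe, hef⟩ := exists_hyp hF he0 he
    obtain ⟨sp⟩ := nonempty_split hF he hff hfe hef
    obtain ⟨S', hS'⟩ := sp.exists_sylow hF he0 he hff hfe S hSe
    have hQ := QE_le_sylow hF he0 he S hSe
    obtain ⟨E, hE, k, rfl⟩ := sp.exists_factor hF he hff hfe (hSe s hs)
    refine mul_mem (Subgroup.subset_closure ⟨hQ hE, e, he0, hE⟩) ?_
    have hk : k ∈ S' := (hS' k).2 (by
      have := mul_mem (inv_mem (hQ hE)) hs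
      rwa [inv_mul_cancel_left] at this)
    have h := ih m (by omega) S' hk
    rw [← Subgroup.mem_comap]
    refine (Subgroup.closure_le _).2 ?_ h
    rintro x ⟨hx, u, hu0, w, μ, hu, hw, hμ, rfl⟩
    refine Subgroup.mem_comap.2 ?_
    refine Subgroup.subset_closure ⟨(hS' _).1 hx, sp.ι u, fun h0 => hu0 ?_, sp.ι w, μ,
      by rw [sp.herm_ι, hu], by rw [sp.herm_ι, hw], by rw [sp.herm_ι, hμ],
      sp.map_eich hF he hff hfe hef hu hw hμ⟩
    refine eq_zero_of_herm_eq_zero hF fun y => ?_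
    rw [← sp.herm_ι, h0, herm_zero_left]

/-- Transitivity on isotropic lines. -/
theorem exists_move_ray (hF : Fintype.card F = q ^ 2) {u v : Fin n → F} (hu0 : u ≠ 0)
    (hu : hermForm n F q u u = 0) (hv0 : v ≠ 0) (hv : hermForm n F q v v = 0) :
    ∃ (g : SU n F q) (lam : F), lam ≠ 0 ∧ act g u = lam • v := by
  have key : ∀ u v : Fin n → F, hermForm n F q u u = 0 → hermForm n F q v v = 0 →
      hermForm n F q u v ≠ 0 → ∃ (g : SU n F q) (lam : F), lam ≠ 0 ∧ act g u = lam • v := by
    intro u v hu hv huv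
    obtain ⟨c, hc0, hc⟩ := exists_skew hF
    set r := hermForm n F q u v with hr
    have hd : -(c * r * r ^ q)⁻¹ + (-(c * r * r ^ q)⁻¹) ^ q = 0 := by
      rw [neg_pow_q hF, inv_pow, mul_pow, mul_pow, pow_q_q hF,
        show c ^ q = -c by linear_combination hc]
      field_simp
      ring
    refine ⟨tv hF u (-(c * r * r ^ q)⁻¹) hu hd * tv hF v c hv hc, c * r, mul_ne_zero hc0 huv, ?_⟩
    rw [act_mul, tv_act, tv_act, ← hr, herm_add_left, herm_smul_left, hu, herm_conj hF u v, ← hr]
    match_scalars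
    · field_simp; ring
    · ring
  by_cases huv : hermForm n F q u v = 0
  · obtain ⟨z, hzu, hzv⟩ : ∃ z, hermForm n F q z u ≠ 0 ∧ hermForm n F q z v ≠ 0 := by
      obtain ⟨z₁, h₁⟩ := exists_herm_ne hF hu0
      obtain ⟨z₂, h₂⟩ := exists_herm_ne hF hv0
      by_cases h₁' : hermForm n F q z₁ v = 0
      · by_cases h₂' : hermForm n F q z₂ u = 0
        · exact ⟨z₁ + z₂, by rw [herm_add_left, h₂', add_zero]; exact h₁,
            by rw [herm_add_left, h₁', zero_add]; exact h₂⟩
        · exact ⟨z₂, h₂', h₂⟩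
      · exact ⟨z₁, h₁, h₁'⟩
    obtain ⟨a, ha⟩ := exists_iso_add hF hu hzu
    obtain ⟨g₁, l₁, hl₁, hg₁⟩ := key u (z + a • u) hu ha
      (herm_skew_ne hF (by rw [herm_add_left, herm_smul_left, hu, mul_zero, add_zero]; exact hzu))
    obtain ⟨g₂, l₂, hl₂, hg₂⟩ := key (z + a • u) v ha hv
      (by rw [herm_add_left, herm_smul_left, huv, mul_zero, add_zero]; exact hzv)
    exact ⟨g₂ * g₁, l₁ * l₂, mul_ne_zero hl₁ hl₂, by rw [act_mul, hg₁, act_smul, hg₂, smul_smul]⟩
  · exact key u v hu hv huv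

variable (p) in
/-- `SU n q`, `n ≥ 2`, is generated by elements of `p`-power order. -/
theorem closure_pElements (hF : Fintype.card F = q ^ 2) (hn : 2 ≤ n) :
    Subgroup.closure {g : SU n F q | ∃ k : ℕ, orderOf g = p ^ k} = ⊤ := by
  set H := Subgroup.closure {g : SU n F q | ∃ k : ℕ, orderOf g = p ^ k}
  have hE : ∀ (e w : Fin n → F) (μ : F) (he : hermForm n F q e e = 0)
      (hw : hermForm n F q w e = 0) (hμ : μ + μ ^ q + hermForm n F q w w = 0),
      eich hF e w μ he hw hμ ∈ H := fun e w μ he hw hμ =>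
    Subgroup.subset_closure (exists_orderOf_eq (eich_pow (p := p) hF he hw hμ))
  by_cases h32 : n = 3 ∧ q = 2
  · obtain ⟨rfl, -⟩ := h32
    rw [Subgroup.eq_top_iff']
    intro g
    obtain ⟨e, he0, he⟩ := exists_isotropic (F := F) (q := q) (n := 3) hF (by omega)
    obtain ⟨f, hff, hfe, hef⟩ := exists_hyp hF he0 he
    obtain ⟨sp⟩ := nonempty_split (n := 1) hF he hff hfe hef
    obtain ⟨t, ht, hte⟩ := exists_move hF le_rfl H hE
      (fun h => he0 (by rw [← act_inv_act g e, h, act_zero]) : act g e ≠ 0)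
      (by rw [herm_act, he]) he0 he
    obtain ⟨E, hEm, k, hk⟩ := sp.exists_factor hF he hff hfe (g := t * g) (by rw [act_mul, hte])
    have := subsingleton_SU (F := F) (q := q) (n := 1) le_rfl
    rw [Subsingleton.elim k 1, map_one, mul_one] at hk
    obtain ⟨w, μ, h, hw, hμ, rfl⟩ := hEm
    rw [show g = t⁻¹ * eich hF e w μ h hw hμ by rw [← hk, inv_mul_cancel_left]]
    exact mul_mem (inv_mem ht) (hE _ _ _ _ _ _)
  · refine top_unique ?_
    rw [← tGroup_eq_top hF (by omega) h32, tGroup, Subgroup.closure_le]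
    rintro A ⟨v, c, hv, hA⟩
    rcases eq_tv_or_one hF hv hA with rfl | ⟨hc, rfl, -⟩
    · exact one_mem H
    · have hμ : c + c ^ q + hermForm n F q (0 : Fin n → F) 0 = 0 := by
        rw [herm_zero_left, add_zero, hc]
      rw [← eich_eq_tv hF hv (herm_zero_left _) hμ]
      exact hE _ _ _ _ _ _

end Cfsg.Agent.FusionPSUBasic
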