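import Cfsg.Agent.Lib.FusionPSUTools
import Cfsg.Agent.Lib.FusionSimpleCrit

/-!
The fusion system of `PSU n q`, `n ≥ 4`, in the defining characteristic is simple.
-/

set_option autoImplicit false

namespace Cfsg.Agent.FusionPSUSimple

open Cfsg Matrix
open Cfsg.Agent.OrthUnitaryHerm Cfsg.Agent.OrthUnitaryTransvection Cfsg.Agent.FusionPSUBasic
  Cfsg.Agent.FusionPSUTools Cfsg.Agent.FusionSimpleCrit

variable {F : Type*} [Field F] [Fintype F] {q m : ℕ} {p : ℕ} [Fact p.Prime] [CharP F p]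
  {G : Type*} [Group G] (ψ : SU (m + 2 + 2) F q →* G)

theorem split_map_tv {n : ℕ} {e f : Fin (n + 2) → F} (sp : Split q e f)
    (hF : Fintype.card F = q ^ 2) (he : hermForm (n + 2) F q e e = 0)
    (hff : hermForm (n + 2) F q f f = 0)
    (hfe : hermForm (n + 2) F q f e = 1) (hef : hermForm (n + 2) F q e f = 1)
    {v : Fin n → F} {c : F} (hv : hermForm n F q v v = 0) (hc : c + c ^ q = 0) :
    sp.j (tv hF v c hv hc) = tv hF (sp.ι v) c (by rw [sp.herm_ι, hv]) hc := by
  have hμ : c + c ^ q + hermForm n F q (0 : Fin n → F) 0 = 0 := by rw [herm_zero_left, add_zero, hc]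
  rw [← eich_eq_tv hF hv (herm_zero_left _) hμ, sp.map_eich hF he hff hfe hef hv _ hμ]
  apply su_ext
  intro x
  rw [eich_act, tv_act, map_zero, herm_zero_right hF, smul_zero, add_zero, sub_zero]

variable (hψ : ∀ x, ψ x = 1 ↔ x ∈ Subgroup.center (SU (m + 2 + 2) F q))
include hψ

variable [Finite G]

/-- A strongly closed subgroup meeting `S` nontrivially is `S`. -/
theorem closed_eq (hF : Fintype.card F = q ^ 2) (St : Sylow p (SU (m + 2 + 2) F q)) (S : Sylow p G)
    (hS : (St : Subgroup (SU (m + 2 + 2) F q)).map ψ = (S : Subgroup G))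
    {e f : Fin (m + 2 + 2) → F} (he0 : e ≠ 0) (he : hermForm (m + 2 + 2) F q e e = 0)
    (hff : hermForm (m + 2 + 2) F q f f = 0)
    (hfe : hermForm (m + 2 + 2) F q f e = 1) (hef : hermForm (m + 2 + 2) F q e f = 1)
    (hSe : ∀ s ∈ St, act s e = e) (sp : Split q e f) (S' : Sylow p (SU (m + 2) F q))
    (hS' : ∀ k, k ∈ S' ↔ sp.j k ∈ St)
    {u0 : Fin (m + 2) → F} (hu00 : u0 ≠ 0) (hu0 : hermForm (m + 2) F q u0 u0 = 0)
    (hS'u : ∀ s ∈ S', act s u0 = u0)
    (htor : ∀ l : F, l ≠ 0 → ∃ t : SU (m + 2 + 2) F q, act t e = l • e)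
    (T : Subgroup G) (hT : (groupFusionSystem (S : Subgroup G)).StronglyClosed T) (hne : T ≠ ⊥) :
    T = (S : Subgroup G) := by
  have hn : 2 ≤ m + 2 + 2 := by omega
  have hQ := QE_le_sylow hF he0 he St hSe
  have conjT : ∀ g t : SU (m + 2 + 2) F q, ψ t ∈ T → g * t * g⁻¹ ∈ St → ψ (g * t * g⁻¹) ∈ T := by
    intro g t ht hg
    have h1 : ψ (g * t * g⁻¹) ∈ (S : Subgroup G) := hS ▸ Subgroup.mem_map_of_mem ψ hg
    rw [map_mul, map_mul, map_inv] at h1 ⊢
    exact mem_of_conj hT ht h1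
  have pow1 : ∀ s ∈ St, ∃ i : ℕ, s ^ p ^ i = 1 := fun s hs => by
    obtain ⟨i, hi⟩ := St.2 ⟨s, hs⟩
    exact ⟨i, congrArg Subtype.val hi⟩
  -- a central transvection
  obtain ⟨c1, hc10, hc1, hT1⟩ : ∃ (c : F) (_ : c ≠ 0) (hc : c + c ^ q = 0), ψ (tv hF e c he hc) ∈ T := by
    obtain ⟨z, hzT, hz1, hzS, hzc⟩ := exists_central_mem hT hne
    rw [← hS] at hzS
    obtain ⟨A, hA, rfl⟩ := hzS
    have hcom : ∀ x ∈ QE hF e he, Commute A x := fun x hx => by
      obtain ⟨i, hi⟩ := pow1 x (hQ hx)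
      exact exact_comm ψ hψ hF hn hi (hzc _ (hS ▸ Subgroup.mem_map_of_mem ψ (hQ hx))).symm
    obtain ⟨E, hE, a, ha⟩ := comm_QE hF he0 he hff hfe hef hcom
    have hAE := eq_of_scalar ψ hψ ha
    have hEc : ∀ x ∈ QE hF e he, Commute E x := fun x hx => by
      obtain ⟨i, hi⟩ := pow1 x (hQ hx)
      refine exact_comm ψ hψ hF hn hi ?_
      rw [← hAE]
      exact (hzc _ (hS ▸ Subgroup.mem_map_of_mem ψ (hQ hx))).symm
    obtain ⟨c, hc, rfl⟩ := central_QE hF he0 he hE hEc
    refine ⟨c, fun h0 => hz1 ?_, hc, hAE ▸ hzT⟩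
    subst h0
    rw [hAE, show tv hF e 0 he hc = 1 from su_ext fun x => by
      rw [tv_act, zero_mul, zero_smul, add_zero, act_one], map_one]
  have hTe : ∀ c (hc : c + c ^ q = 0), ψ (tv hF e c he hc) ∈ T := by
    intro c hc
    by_cases hc0 : c = 0
    · subst hc0
      rw [show tv hF e 0 he hc = 1 from su_ext fun x => by
        rw [tv_act, zero_mul, zero_smul, add_zero, act_one], map_one]
      exact one_mem T
    obtain ⟨l, hl⟩ := exists_norm_eq hF (a := c / c1) (by
      rw [div_pow, show c ^ q = -c by linear_combination hc, show c1 ^ q = -c1 by linear_combination hc1,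
        neg_div_neg_eq])
    rw [pow_succ] at hl
    have hl0 : l ≠ 0 := by
      rintro rfl
      rw [mul_zero] at hl
      exact div_ne_zero hc0 hc10 hl.symm
    obtain ⟨t, ht⟩ := htor l hl0
    have e1 : t * tv hF e c1 he hc1 * t⁻¹ = tv hF e c he hc := by
      refine su_ext fun x => ?_
      rw [OrthUnitaryPSU.tv_conj hF t he hc1, tv_act, tv_act, ht, herm_smul_right, smul_smul]
      rw [show c1 * (l ^ q * hermForm (m + 2 + 2) F q x e) * l =
        (l ^ q * l * c1) * hermForm (m + 2 + 2) F q x e by ring, hl, div_mul_cancel₀ _ hc10]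
    rw [← e1]
    exact conjT t _ hT1 (e1 ▸ hQ (tv_mem_QE hF he hc))
  have hTv : ∀ v c (hv : hermForm (m + 2 + 2) F q v v = 0) (hc : c + c ^ q = 0),
      tv hF v c hv hc ∈ St → ψ (tv hF v c hv hc) ∈ T := by
    intro v c hv hc hmem
    by_cases hv0 : v = 0
    · rw [show tv hF v c hv hc = 1 from su_ext fun x => by
        rw [tv_act, hv0, smul_zero, add_zero, act_one], map_one]
      exact one_mem T
    obtain ⟨k, l, hl, hk⟩ := exists_move_ray hF he0 he hv0 hv
    have e1 : k * tv hF e _ he (OrthUnitaryPSU.norm_mul_skew hF l⁻¹ hc) * k⁻¹ = tv hF v c hv hc := by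
      refine su_ext fun x => ?_
      rw [OrthUnitaryPSU.tv_conj hF k he, tv_act, tv_act, hk, herm_smul_right, smul_smul,
        inv_pow]
      have := pow_ne_zero q hl
      congr 2
      field_simp
    rw [← e1]
    exact conjT k _ (hTe _ _) (e1 ▸ hmem)
  -- `P w`: every Eichler element with vector `w` at `e` lies in `T`
  obtain ⟨P, hP⟩ : ∃ P : (Fin (m + 2 + 2) → F) → Prop, ∀ w, P w ↔ ∀ μ
      (hw : hermForm (m + 2 + 2) F q w e = 0) (hμ : μ + μ ^ q + hermForm (m + 2 + 2) F q w w = 0),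
      ψ (eich hF e w μ he hw hμ) ∈ T := ⟨_, fun _ => Iff.rfl⟩
  have hP1 : ∀ w μ (hw : hermForm (m + 2 + 2) F q w e = 0)
      (hμ : μ + μ ^ q + hermForm (m + 2 + 2) F q w w = 0), ψ (eich hF e w μ he hw hμ) ∈ T → P w := by
    intro w μ hw hμ h
    rw [hP]
    intro μ' _ hμ'
    have hd : μ' - μ + (μ' - μ) ^ q = 0 := by rw [sub_pow_q hF]; linear_combination hμ' - hμ
    have e1 : eich hF e w μ' he hw hμ' = tv hF e (μ' - μ) he hd * eich hF e w μ he hw hμ := by
      refine su_ext fun x => ?_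
      rw [act_mul, tv_act, eich_act, eich_act]
      simp only [herm_add_left, herm_smul_left, he, hw, mul_zero, add_zero]
      module
    rw [e1, map_mul]
    exact mul_mem (hTe _ hd) h
  have hadd : ∀ w w', hermForm (m + 2 + 2) F q w e = 0 → hermForm (m + 2 + 2) F q w' e = 0 →
      P w → P w' → P (w + w') := by
    intro w w' hw hw' h h'
    obtain ⟨μ, hμ⟩ := exists_mu hF w
    obtain ⟨μ', hμ'⟩ := exists_mu hF w'
    have := mul_mem ((hP w).1 h μ hw hμ) ((hP w').1 h' μ' hw' hμ')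
    rw [← map_mul, eich_mul] at this
    exact hP1 _ _ _ _ this
  have hu : ∀ b : F, P (sp.ι (b • u0)) := by
    obtain ⟨c, hc0, hc⟩ := exists_skew hF
    have hnc : -c + (-c) ^ q = 0 := by rw [neg_pow_q hF]; linear_combination -hc
    intro b
    obtain ⟨v, hvdef⟩ : ∃ v, v = sp.ι ((b / c) • u0) := ⟨_, rfl⟩
    have hb0 : hermForm (m + 2) F q ((b / c) • u0) ((b / c) • u0) = 0 := by
      rw [herm_smul_left, herm_smul_right, hu0]; ring
    have hvv : hermForm (m + 2 + 2) F q v v = 0 := by rw [hvdef, sp.herm_ι, hb0]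
    have hve : hermForm (m + 2 + 2) F q v e = 0 := by rw [hvdef, sp.ι_e]
    have hev := herm_skew_zero hF hve
    have hsum : hermForm (m + 2 + 2) F q (e + v) (e + v) = 0 := by
      rw [herm_add_left, herm_add_right hF, herm_add_right hF, he, hev, hve, hvv]; ring
    have htvS : tv hF v (-c) hvv hnc ∈ St := by
      have h1 : tv hF ((b / c) • u0) (-c) hb0 hnc ∈ S' := by
        refine QE_le_sylow hF hu00 hu0 S' hS'u ?_
        rw [OrthUnitaryPSU.tv_smul hF hb0 hnc hu0 (OrthUnitaryPSU.norm_mul_skew hF _ hnc)]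
        exact tv_mem_QE hF hu0 _
      have h2 := (hS' _).1 h1
      rw [split_map_tv sp hF he hff hfe hef hb0 hnc] at h2
      simpa only [hvdef] using h2
    have hw : hermForm (m + 2 + 2) F q (c • v) e = 0 := by rw [herm_smul_left, hve, mul_zero]
    have hμ : (0 : F) + 0 ^ q + hermForm (m + 2 + 2) F q (c • v) (c • v) = 0 := by
      rw [herm_smul_left, herm_smul_right, hvv, zero_pow_q hF]; ring
    have e1 : eich hF e (c • v) 0 he hw hμ =
        tv hF (e + v) c hsum hc * tv hF v (-c) hvv hnc * tv hF e (-c) he hnc := by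
      refine su_ext fun x => ?_
      rw [eich_act, act_mul, act_mul, tv_act, tv_act, tv_act, herm_smul_right]
      simp only [herm_add_left, herm_add_right hF, herm_smul_left, he, hve, hev, hvv, mul_zero,
        add_zero]
      rw [show c ^ q = -c by linear_combination hc]
      module
    have hES := hQ (eich_mem_QE hF he hw hμ)
    have hsumS : tv hF (e + v) c hsum hc ∈ St := by
      have := mul_mem (mul_mem hES (inv_mem (hQ (tv_mem_QE hF he hnc)))) (inv_mem htvS)
      rwa [e1, mul_inv_cancel_right, mul_inv_cancel_right] at this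
    have hfin : P (c • v) := hP1 _ _ hw hμ (by
      rw [e1, map_mul, map_mul]
      exact mul_mem (mul_mem (hTv _ _ _ _ hsumS) (hTv _ _ _ _ htvS)) (hTe _ _))
    rwa [hvdef, ← map_smul, smul_smul, mul_div_cancel₀ _ hc0] at hfin
  have hiso : ∀ y, hermForm (m + 2) F q y y = 0 → P (sp.ι y) := by
    intro y hy
    by_cases hy0 : y = 0
    · rw [hy0]; simpa using hu 0
    obtain ⟨k, l, hl, hk⟩ := exists_move_ray hF hu00 hu0 hy0 hy
    have hky : act (sp.j k) (sp.ι (l⁻¹ • u0)) = sp.ι y := by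
      rw [sp.act_ι, act_smul, hk, inv_smul_smul₀ hl]
    obtain ⟨μ, hμ⟩ := exists_mu hF (sp.ι (l⁻¹ • u0))
    have hμy : μ + μ ^ q + hermForm (m + 2 + 2) F q (sp.ι y) (sp.ι y) = 0 := by
      rw [← hky, herm_act, hμ]
    refine hP1 _ μ (sp.ι_e y) hμy ?_
    have e1 : sp.j k * eich hF e (sp.ι (l⁻¹ • u0)) μ he (sp.ι_e _) hμ * (sp.j k)⁻¹ =
        eich hF e (sp.ι y) μ he (sp.ι_e y) hμy := by
      refine su_ext fun x => ?_
      rw [eich_conj hF (sp.j k) he (sp.ι_e _) hμ, eich_act, eich_act, sp.act_e, hky]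
    rw [← e1]
    exact conjT _ _ ((hP _).1 (hu l⁻¹) μ _ hμ) (e1 ▸ hQ (eich_mem_QE hF he _ _))
  have hι : ∀ y, P (sp.ι y) := by
    intro y
    obtain ⟨f0, h0ff, h0fe, h0ef⟩ := exists_hyp hF hu00 hu0
    obtain ⟨h1, h2⟩ := proj2_perp hu0 h0ff h0ef h0fe y
    set y' := proj2 q u0 f0 y with hy'
    obtain ⟨s, hs⟩ := exists_mu hF y'
    have hi : hermForm (m + 2) F q (y' + u0 + s • f0) (y' + u0 + s • f0) = 0 := by
      simp only [herm_add_left, herm_add_right hF, herm_smul_left, herm_smul_right, hu0, h0ff,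
        h0fe, h0ef, h1, h2, herm_skew_zero hF h1, herm_skew_zero hF h2]
      linear_combination hs
    rw [show y = (y' + u0 + s • f0) + (hermForm (m + 2) F q y f0 - 1) • u0 +
      (hermForm (m + 2) F q y u0 - s) • f0 by rw [hy', proj2_apply]; module, map_add, map_add]
    refine hadd _ _ ?_ (sp.ι_e _) (hadd _ _ (sp.ι_e _) (sp.ι_e _) (hiso _ hi) (hu _)) (hiso _ ?_)
    · rw [herm_add_left, sp.ι_e, sp.ι_e, add_zero]
    · rw [herm_smul_left, herm_smul_right, h0ff]; ring
  have hall : ∀ x ∈ QE hF e he, ψ x ∈ T := by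
    rintro x ⟨w, μ, _he, hw, hμ, rfl⟩
    obtain ⟨y, hy⟩ := sp.decomp he hff hfe hef w
    rw [hw, zero_smul, add_zero] at hy
    refine (hP w).1 ?_ μ hw hμ
    rw [hy]
    refine hadd _ _ (sp.ι_e y) (by rw [herm_smul_left, he, mul_zero]) (hι y) ?_
    obtain ⟨a, ha⟩ : ∃ a, a = hermForm (m + 2 + 2) F q w f := ⟨_, rfl⟩
    rw [← ha]
    have hh : (0 : F) + 0 ^ q + hermForm (m + 2 + 2) F q (a • e) (a • e) = 0 := by
      rw [herm_smul_left, herm_smul_right, he, zero_pow_q hF]; ring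
    refine hP1 _ 0 (by rw [herm_smul_left, he, mul_zero]) hh ?_
    have hd : a - a ^ q + (a - a ^ q) ^ q = 0 := by rw [sub_pow_q hF, pow_q_q hF]; ring
    rw [show eich hF e (a • e) 0 he _ hh = tv hF e (a - a ^ q) he hd from su_ext fun x => by
      rw [eich_act, tv_act, herm_smul_right]; module]
    exact hTe _ hd
  refine le_antisymm hT.1 ?_
  rw [← hS, Subgroup.map_le_iff_le_comap]
  refine (sylow_le_closure (p := p) hF _ St).trans ((Subgroup.closure_le _).2 ?_)
  rintro x ⟨hx, e', he'0, w, μ, he', hw, hμ, rfl⟩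
  obtain ⟨k, l, hl, hk⟩ := exists_move_ray hF he0 he he'0 he'
  have hk' : act k⁻¹ e' = l⁻¹ • e := act_inv_of k (by rw [act_smul, hk, inv_smul_smul₀ hl])
  have hbase : k⁻¹ * eich hF e' w μ he' hw hμ * k⁻¹⁻¹ ∈ QE hF e he := by
    rw [eich_conj hF k⁻¹ he' hw hμ]
    have hl1 : hermForm (m + 2 + 2) F q (l⁻¹ • e) (l⁻¹ • e) = 0 := by rw [← hk', herm_act, he']
    convert eich_smul_mem_QE hF he hl1 (w := act k⁻¹ w) (μ := μ)
      (by rw [← hk', herm_act, hw]) (by rw [herm_act, hμ]) using 2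
  refine Subgroup.mem_comap.2 ?_
  have := conjT k _ (hall _ hbase)
  simpa [mul_assoc] using this (by simpa [mul_assoc] using hx)

omit [Fact p.Prime] [CharP F p] [Finite G] hψ in
theorem map_mem_normalizer {H : Subgroup (SU (m + 2 + 2) F q)} {g : SU (m + 2 + 2) F q}
    (hg : g ∈ Subgroup.normalizer (H : Set (SU (m + 2 + 2) F q))) :
    ψ g ∈ Subgroup.normalizer ((H.map ψ : Subgroup G) : Set G) :=
  Subgroup.le_normalizer_map ψ (Subgroup.mem_map_of_mem ψ hg)

/-- The simplicity. -/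
theorem core (hF : Fintype.card F = q ^ 2) (hsur : Function.Surjective ψ)
    (St : Sylow p (SU (m + 2 + 2) F q)) (S : Sylow p G)
    (hS : (St : Subgroup (SU (m + 2 + 2) F q)).map ψ = (S : Subgroup G)) :
    (groupFusionSystem (S : Subgroup G)).IsSimple p := by
  have hn : 2 ≤ m + 2 + 2 := by omega
  obtain ⟨e, he0, he, hSe⟩ := exists_fixed_isotropic hF hn St
  obtain ⟨f, hff, hfe, hef⟩ := exists_hyp hF he0 he
  obtain ⟨sp⟩ := nonempty_split hF he hff hfe hef
  obtain ⟨S', hS'⟩ := sp.exists_sylow hF he0 he hff hfe St hSe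
  obtain ⟨u0, hu00, hu0, hS'u⟩ := exists_fixed_isotropic hF (by omega) S'
  obtain ⟨f0, h0ff, h0fe, h0ef⟩ := exists_hyp hF hu00 hu0
  obtain ⟨sp'⟩ := nonempty_split hF hu0 h0ff h0fe h0ef
  have fr : Frame q e f (sp.ι u0) (sp.ι f0) :=
    ⟨he, hff, by rw [sp.herm_ι, hu0], by rw [sp.herm_ι, h0ff], hfe, hef,
      by rw [sp.herm_ι, h0fe], by rw [sp.herm_ι, h0ef], herm_skew_zero hF (sp.ι_e _),
      herm_skew_zero hF (sp.ι_e _), herm_skew_zero hF (sp.ι_f _), herm_skew_zero hF (sp.ι_f _),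
      sp.ι_e _, sp.ι_e _, sp.ι_f _, sp.ι_f _⟩
  have hQ := QE_le_sylow hF he0 he St hSe
  have pow1 : ∀ s ∈ St, ∃ i : ℕ, s ^ p ^ i = 1 := fun s hs => by
    obtain ⟨i, hi⟩ := St.2 ⟨s, hs⟩
    exact ⟨i, congrArg Subtype.val hi⟩
  -- the factors of the elements of the Sylow subgroup
  have hfac : ∀ s ∈ St, ∃ E ∈ QE hF e he, ∃ k ∈ S', s = E * sp.j k := fun s hs => by
    obtain ⟨E, hE, k, rfl⟩ := sp.exists_factor hF he hff hfe (hSe s hs)
    refine ⟨E, hE, k, (hS' k).2 ?_, rfl⟩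
    have := mul_mem (inv_mem (hQ hE)) hs
    rwa [inv_mul_cancel_left] at this
  have hline : (St : Subgroup (SU (m + 2 + 2) F q)) ≤ lineStab hF e (sp.ι u0) := by
    intro s hs
    obtain ⟨E, hE, k, hk, rfl⟩ := hfac s hs
    refine mul_mem ?_ ?_
    · obtain ⟨w, μ, _he, hw, hμ, rfl⟩ := hE
      refine ⟨⟨1, 0, by rw [eich_self]; module⟩,
        ⟨-(hermForm (m + 2 + 2) F q (sp.ι u0) w), 1, ?_⟩⟩
      rw [eich_act, sp.ι_e]; module
    · exact ⟨⟨1, 0, by rw [sp.act_e]; module⟩, ⟨0, 1, by rw [sp.act_ι, hS'u k hk]; module⟩⟩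
  have hR : lineRad q e (sp.ι u0) ≤ (St : Subgroup (SU (m + 2 + 2) F q)) :=
    le_sylow (isPGroup_lineRad fr hF) St (hline.trans (lineStab_le_normalizer hF _ _))
  apply isSimple_of_closed_gen
  · intro h
    obtain ⟨c, hc0, hc⟩ := exists_skew hF
    have hmem : ψ (tv hF e c he hc) ∈ (S : Subgroup G) :=
      hS ▸ Subgroup.mem_map_of_mem ψ (hQ (tv_mem_QE hF he hc))
    rw [h, Subgroup.mem_bot, ← map_one ψ] at hmem
    obtain ⟨i, hi⟩ := pow1 _ (hQ (tv_mem_QE hF he hc))
    have h1 := congrArg (fun g => act g f) (exact ψ hψ hF hn hi (one_pow (p ^ 0)) hmem)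
    simp [tv_act, act_one, hfe, hc0, he0] at h1
  · exact closed_eq ψ hψ hF St S hS he0 he hff hfe hef hSe sp S' hS' hu00 hu0 hS'u
      fun l hl => (exists_torus fr hF (p := p) hl).imp fun t ht => ht.1
  · intro x hx
    obtain ⟨A, rfl⟩ := hsur x
    rw [← hS] at hx
    have hA : ∀ s ∈ St, A * s * A⁻¹ ∈ St := fun s hs => by
      obtain ⟨s', hs', he'⟩ := (Subgroup.mem_normalizer_iff.1 hx (ψ s)).1 (Subgroup.mem_map_of_mem ψ hs)
      obtain ⟨i, hi⟩ := pow1 s hs
      obtain ⟨j, hj⟩ := pow1 s' hs'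
      rwa [← exact ψ hψ hF hn hj (a := s') (b := A * s * A⁻¹) (j := i)
        (by rw [conj_pow, hi, mul_one, mul_inv_cancel]) (by rw [he', map_mul, map_mul, map_inv])]
    have hAN := mem_normalizer_of_conj hA
    obtain ⟨l, hl⟩ := eq_smul_of_fix hF he0 he (x := act A e) fun y hy => by
      have h1 := hSe _ ((Subgroup.mem_normalizer_iff.1 (inv_mem hAN) y).1 (hQ hy))
      rw [inv_inv, act_mul, act_mul] at h1
      conv_rhs => rw [← h1, act_act_inv]
    have hl0 : l ≠ 0 := by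
      rintro rfl
      rw [zero_smul] at hl
      exact he0 (by rw [← act_inv_act A e, hl, act_zero])
    obtain ⟨t, hte, htu, htf, htg, htfix, htP, htcl⟩ := exists_torus fr hF (p := p) hl0
    have htN : t ∈ Subgroup.normalizer ((St : Subgroup (SU (m + 2 + 2) F q)) : Set (SU (m + 2 + 2) F q)) := by
      refine mem_normalizer_of_conj fun s hs => ?_
      obtain ⟨E, hE, k, hk, rfl⟩ := hfac s hs
      rw [← conj_mul]
      refine mul_mem (hQ (conj_QE hF he hte hE)) ?_
      obtain ⟨E', hE', k', rfl⟩ := sp'.exists_factor hF hu0 h0ff h0fe (hS'u k hk)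
      rw [map_mul, ← conj_mul]
      refine mul_mem (hR ?_) ?_
      · obtain ⟨w, μ, _hu, hw, hμ, rfl⟩ := hE'
        rw [sp.map_eich hF he hff hfe hef hu0 hw hμ, eich_conj hF t]
        refine eich_mem_lineRad fr hF (a := 0) (b := l⁻¹) ?_ _ _ _ ?_ ?_
        · rw [htu]; module
        · have h1 : hermForm (m + 2 + 2) F q (act t (sp.ι w)) (l • e) = 0 := by
            rw [← hte, herm_act, sp.ι_e]
          rw [herm_smul_right] at h1
          exact (mul_eq_zero.1 h1).resolve_left (pow_ne_zero _ hl0)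
        · have h1 : hermForm (m + 2 + 2) F q (act t (sp.ι w)) (l⁻¹ • sp.ι u0) = 0 := by
            rw [← htu, herm_act, sp.herm_ι, hw]
          rw [herm_smul_right] at h1
          exact (mul_eq_zero.1 h1).resolve_left (pow_ne_zero _ (inv_ne_zero hl0))
      · have hjk : sp.j (sp'.j k') ∈ St := (hS' _).1 (by
          have h1 := QE_le_sylow hF hu00 hu0 S' hS'u hE'
          have := mul_mem (inv_mem h1) hk
          rwa [inv_mul_cancel_left] at this)
        suffices h : t * sp.j (sp'.j k') = sp.j (sp'.j k') * t by rwa [h, mul_inv_cancel_right]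
        have j1 : ∀ y, act (sp.j (sp'.j k')) (sp.ι y) = sp.ι (act (sp'.j k') y) := sp.act_ι _
        refine fr.ext hF ?_ ?_ ?_ ?_ fun w h1 h2 h3 h4 => ?_
        · simp only [act_mul, hte, act_smul, sp.act_e]
        · simp only [act_mul, htf, act_smul, sp.act_f]
        · simp only [act_mul, htu, act_smul, j1, sp'.act_e]
        · simp only [act_mul, htg, act_smul, j1, sp'.act_f]
        · rw [act_mul, act_mul, htfix w h1 h2 h3 h4]
          obtain ⟨K, hK⟩ : ∃ K, K = sp.j (sp'.j k') := ⟨_, rfl⟩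
          rw [← hK]
          refine htfix _ ?_ ?_ ?_ ?_
          · have := herm_act K w e; rwa [h1, show act K e = e by rw [hK, sp.act_e]] at this
          · have := herm_act K w f; rwa [h2, show act K f = f by rw [hK, sp.act_f]] at this
          · have := herm_act K w (sp.ι u0)
            rwa [h3, show act K (sp.ι u0) = sp.ι u0 by rw [hK, j1, sp'.act_e]] at this
          · have := herm_act K w (sp.ι f0)
            rwa [h4, show act K (sp.ι f0) = sp.ι f0 by rw [hK, j1, sp'.act_f]] at this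
    obtain ⟨B, hB⟩ : ∃ B, B = t⁻¹ * A := ⟨_, rfl⟩
    have hBe : act B e = e := by rw [hB, act_mul, hl, ← hte, act_inv_act]
    obtain ⟨E, hE, k, hk⟩ := sp.exists_factor hF he hff hfe hBe
    have hjN : sp.j k ∈ Subgroup.normalizer ((St : Subgroup (SU (m + 2 + 2) F q)) : Set (SU (m + 2 + 2) F q)) := by
      rw [show sp.j k = E⁻¹ * (t⁻¹ * A) by rw [← hB, hk, inv_mul_cancel_left]]
      exact mul_mem (inv_mem (Subgroup.le_normalizer (hQ hE))) (mul_mem (inv_mem htN) hAN)
    rw [show A = t * (E * sp.j k) by rw [← hk, hB, mul_inv_cancel_left], map_mul, map_mul]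
    refine mul_mem ?_ (mul_mem (Subgroup.subset_closure
      (Or.inl (hS ▸ Subgroup.mem_map_of_mem ψ (hQ hE)))) ?_)
    · refine Subgroup.subset_closure (Or.inr (Or.inr ⟨hS ▸ map_mem_normalizer ψ htN,
        (lineRad q e (sp.ι u0)).map ψ, hS ▸ Subgroup.map_mono hR, ?_, ?_,
        map_mem_normalizer ψ (lineStab_le_normalizer hF _ _ htP), ?_⟩))
      · rw [← hS]
        rintro _ ⟨s, hs, rfl⟩
        exact map_mem_normalizer ψ (lineStab_le_normalizer hF _ _ (hline hs))
      · intro z hz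
        obtain ⟨C, rfl⟩ := hsur z
        obtain ⟨R, hR', a, ha⟩ := comm_lineRad fr hF (A := C) fun r hr => by
          obtain ⟨i, hi⟩ := pow1 r (hR hr)
          exact exact_comm ψ hψ hF hn hi
            (Subgroup.mem_centralizer_iff.1 hz _ (Subgroup.mem_map_of_mem ψ hr)).symm
        exact ⟨R, hR', (eq_of_scalar ψ hψ ha).symm⟩
      · refine (MonoidHom.map_closure ψ _ ▸ Subgroup.mem_map_of_mem ψ htcl :
          ψ t ∈ Subgroup.closure (ψ '' _)) |> Subgroup.closure_mono ?_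
        rintro _ ⟨a, ⟨ha1, j, ha2⟩, rfl⟩
        exact ⟨map_mem_normalizer ψ (lineStab_le_normalizer hF _ _ ha1),
          exists_orderOf_eq (k := j) (by rw [← map_pow, ← ha2, pow_orderOf_eq_one, map_one])⟩
    · have hN : ∀ k, ψ (sp.j k) ∈ Subgroup.normalizer (((QE hF e he).map ψ : Subgroup G) : Set G) :=
        fun k => map_mem_normalizer ψ (sp.j_mem_normalizer hF he0 he k)
      refine Subgroup.subset_closure (Or.inr (Or.inr ⟨hS ▸ map_mem_normalizer ψ hjN,
        (QE hF e he).map ψ, hS ▸ Subgroup.map_mono hQ, ?_, ?_, hN k, ?_⟩))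
      · rw [← hS]
        rintro _ ⟨s, hs, rfl⟩
        exact map_mem_normalizer ψ (mem_normalizer_QE hF he0 he (lam := 1) (by rw [one_smul, hSe s hs]))
      · intro z hz
        obtain ⟨C, rfl⟩ := hsur z
        obtain ⟨R, hR', a, ha⟩ := comm_QE hF he0 he hff hfe hef (A := C) fun r hr => by
          obtain ⟨i, hi⟩ := pow1 r (hQ hr)
          exact exact_comm ψ hψ hF hn hi
            (Subgroup.mem_centralizer_iff.1 hz _ (Subgroup.mem_map_of_mem ψ hr)).symm
        exact ⟨R, hR', (eq_of_scalar ψ hψ ha).symm⟩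
      · have hk' : ψ (sp.j k) ∈ (⊤ : Subgroup (SU (m + 2) F q)).map (ψ.comp sp.j) :=
          Subgroup.mem_map_of_mem (ψ.comp sp.j) (Subgroup.mem_top k)
        rw [← closure_pElements p hF (by omega : 2 ≤ m + 2), MonoidHom.map_closure] at hk'
        refine Subgroup.closure_mono ?_ hk'
        rintro _ ⟨a, ⟨j, ha⟩, rfl⟩
        exact ⟨hN a, exists_orderOf_eq (k := j)
          (by rw [← map_pow, ← ha, pow_orderOf_eq_one, map_one])⟩

end Cfsg.Agent.FusionPSUSimple
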