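import Cfsg.Agent.Lib.FusionModelTools
import Cfsg.Agent.Lib.FusionGroupModel
import Cfsg.Agent.Lib.HallSolvable
import Cfsg.Agent.Lib.FusionRealized87
import Cfsg.Prelude.Def_Local

/-!
Fusion systems of `p`-solvable groups: a model is the quotient by `O_{p'}`, and `Aut_F(O_p(F))` is
`p`-solvable; conversely.
-/

set_option autoImplicit false

universe u v

namespace Cfsg.Agent.FusionPSolvable

open Cfsg Cfsg.FusionSystem Cfsg.Agent.FusionSysBasic

variable {Ω : Type u} [Group Ω] {S : Subgroup Ω} [Finite S] {F : FusionSystem S} {p : ℕ}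
  [Fact p.Prime]

/-- A system realized by `G` is realized by the quotient by a normal subgroup of order prime to
`p`. -/
theorem realized_quotient {G : Type v} [Group G] [Finite G] (hS : IsPGroup p S) {ι : S →* G}
    (hι : F.IsRealizedBy ι) {D : Subgroup G} [D.Normal] (hD : (Nat.card D).Coprime p) :
    F.IsRealizedBy ((QuotientGroup.mk' D).comp ι) := by
  obtain ⟨hinj, hreal⟩ := hι
  have hrange : ι.range ⊓ D = ⊥ :=
    FusionGroupModel.inf_eq_bot_of_coprime (hS.of_surjective _ ι.rangeRestrict_surjective) hD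
  have hD1 : ∀ s : S, ι s ∈ D → s = 1 := fun s hs => hinj (by
    rw [map_one]
    exact Subgroup.mem_bot.mp (hrange ▸ ⟨⟨s, rfl⟩, hs⟩))
  refine ⟨?_, fun P hP φ hφ => ⟨?_, ?_⟩⟩
  · rw [injective_iff_map_eq_one]
    exact fun s hs => hD1 s ((QuotientGroup.eq_one_iff _).mp hs)
  · intro h
    obtain ⟨g, hg⟩ := (hreal P hP φ hφ).mp h
    refine ⟨QuotientGroup.mk' D g, fun x => ?_⟩
    simp only [MonoidHom.comp_apply, hg x, map_mul, map_inv]
  · rintro ⟨gb, hg⟩
    obtain ⟨g, rfl⟩ := QuotientGroup.mk'_surjective D gb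
    let ψ : P →* G := ι.comp (φ.codRestrict S hφ)
    let χ : P →* G := (MulAut.conj g).toMonoidHom.comp (ι.comp (Subgroup.inclusion hP))
    have hPp : IsPGroup p P := hS.to_le hP
    have hmk : ∀ x : P, (ψ x)⁻¹ * χ x ∈ D := fun x =>
      QuotientGroup.eq.mp (show (ψ x : G ⧸ D) = χ x from hg x)
    obtain ⟨d, hd, hda⟩ := FusionGroupModel.exists_conj_le_of_le_sup (X := ψ.range) (A := χ.range)
      (hPp.of_surjective _ ψ.rangeRestrict_surjective) hD
      (hPp.of_surjective _ χ.rangeRestrict_surjective) (by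
        rintro _ ⟨x, rfl⟩
        have := Subgroup.mul_mem_sup (MonoidHom.mem_range.mpr ⟨x, rfl⟩ : ψ x ∈ ψ.range) (hmk x)
        rwa [mul_inv_cancel_left] at this)
    refine (hreal P hP φ hφ).mpr ⟨d * g, fun x => ?_⟩
    obtain ⟨y, hy⟩ := hda (χ x) ⟨x, rfl⟩
    have hd1 : (QuotientGroup.mk d : G ⧸ D) = 1 := (QuotientGroup.eq_one_iff _).mpr hd
    have h1 : (QuotientGroup.mk (ψ y) : G ⧸ D) = QuotientGroup.mk (ψ x) := by
      rw [hy, cj_apply, QuotientGroup.mk_mul, QuotientGroup.mk_mul, QuotientGroup.mk_inv, hd1,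
        one_mul, inv_one, mul_one]
      exact (QuotientGroup.eq.mpr (hmk x)).symm
    have h2 : ι ((φ.codRestrict S hφ y)⁻¹ * φ.codRestrict S hφ x) ∈ D := by
      rw [map_mul, map_inv]
      exact QuotientGroup.eq.mp h1
    have h3 := hD1 _ h2
    rw [inv_mul_eq_one] at h3
    show ψ x = _
    rw [show ψ x = ψ y from (congrArg ι h3).symm, hy, cj_apply]
    show d * (g * ι ⟨x, hP x.2⟩ * g⁻¹) * d⁻¹ = _
    group

/-- Realizability by a `p`-solvable group gives a constrained system with `p`-solvable core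
automiser. -/
theorem constrained_of_psolvable (hS : IsPGroup p S) {G : Type v} [Group G] [Finite G] {ι : S →* G}
    (hG : Cfsg.IsPSolvable p G) (hι : F.IsRealizedBy ι) (T : Sylow p G)
    (hT : (T : Subgroup G) = ι.range) :
    F.IsConstrained p ∧ Cfsg.IsPSolvable p ↥(F.autGroup F.core) := by
  haveI hDn : (Cfsg.pPrimeCore p G).Normal := HallCore.pPrimeCore_normal p G
  have hcop : (Nat.card (Cfsg.pPrimeCore p G)).Coprime p := HallCore.coprime_card_pPrimeCore p G
  set π := QuotientGroup.mk' (Cfsg.pPrimeCore p G)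
  have hπ : Function.Surjective π := QuotientGroup.mk'_surjective _
  have hreal := realized_quotient hS hι hcop
  have hbot : Cfsg.pPrimeCore p (G ⧸ Cfsg.pPrimeCore p G) = ⊥ :=
    HallCore.pPrimeCore_quotient_self p G
  have hsyl : ∃ T' : Sylow p (G ⧸ Cfsg.pPrimeCore p G),
      (T' : Subgroup (G ⧸ Cfsg.pPrimeCore p G)) = (π.comp ι).range :=
    ⟨T.mapSurjective hπ, by rw [Sylow.coe_mapSurjective, hT, MonoidHom.range_comp]⟩
  have hM : F.IsModel p (G ⧸ Cfsg.pPrimeCore p G) (π.comp ι) :=
    ⟨inferInstance, hreal, hsyl,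
      HallSolvable.centralizer_pCore_le (HallSolvable.isPSolvable_quotient hG _) hbot⟩
  have hcon := FusionRealized87.constrained_of_model (ι := π.comp ι) hM
  obtain ⟨hFs, Q₀, hQ₀, hQ₀c⟩ := id hcon
  have hQn : F.IsNormal F.core := FusionSysNormal.core_isNormal
  have hh : FusionSysModel.Hyp p F F.core := ⟨hS, hFs, hQn,
    FusCentric.centric_upward hQ₀c (FusionSysNormal.le_core hQ₀) (FusionSysNormal.normal_le hQn)⟩
  haveI := FusionSysModel.k0_normal hh
  obtain ⟨e, -⟩ := FusionSysModel.model_unique hS hcon hM (FusionSysModel.isModel hh)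
  exact ⟨hcon, HallSolvable.isPSolvable_of_surjective (HallSolvable.isPSolvable_quotient hG _)
    (f := (FusionSysModel.modelFst hh).comp e.toMonoidHom)
    ((FusionSysModel.modelFst_surjective hh).comp e.surjective)⟩

/-- The model of a constrained system with `p`-solvable core automiser is `p`-solvable. -/
theorem exists_psolvable_model (hS : IsPGroup p S) (hF : F.IsConstrained p)
    (hA : Cfsg.IsPSolvable p ↥(F.autGroup F.core)) :
    ∃ (G : Type u) (_ : Group G) (_ : Finite G) (ι : S →* G), Cfsg.IsPSolvable p G ∧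
      F.IsRealizedBy ι ∧ ∃ T : Sylow p G, (T : Subgroup G) = ι.range := by
  obtain ⟨hFs, Q₀, hQ₀, hQ₀c⟩ := hF
  have hQn : F.IsNormal F.core := FusionSysNormal.core_isNormal
  have hh : FusionSysModel.Hyp p F F.core := ⟨hS, hFs, hQn,
    FusCentric.centric_upward hQ₀c (FusionSysNormal.le_core hQ₀) (FusionSysNormal.normal_le hQn)⟩
  haveI := FusionSysModel.k0_normal hh
  obtain ⟨hfin, hι, hT, -⟩ := FusionSysModel.isModel hh
  haveI := hfin
  refine ⟨FusionSysModel.Model hh, inferInstance, hfin, FusionSysModel.iota hh, ?_, hι, hT⟩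
  set K := (FusionSysModel.modelFst hh).ker
  have hK : IsPGroup p K := by
    rw [show K = _ from FusionSysModel.ker_modelFst hh]
    exact (hS.to_subgroup _).map _
  haveI := hK.isNilpotent
  haveI := FusionSysModel.autGroup_isFinite F F.core
  refine HallSolvable.isPSolvable_extension K (HallSolvable.isPSolvable_of_solvable p)
    (HallSolvable.isPSolvable_of_surjective hA
      (f := (QuotientGroup.quotientKerEquivOfSurjective (FusionSysModel.modelFst hh)
        (FusionSysModel.modelFst_surjective hh)).symm.toMonoidHom) (MulEquiv.surjective _))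

end Cfsg.Agent.FusionPSolvable
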