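import Cfsg.Agent.Lib.AutPSpTransv
import Cfsg.Agent.Lib.SymplecticRootGroups
import Cfsg.Agent.Lib.PSLUnipotent

/-!
The unitriangular symplectic group: Siegel elements, the Levi embedding of `GL_m`, generation,
the normalizer of the unitriangular group, and centralizers of two parabolic radicals.
-/

set_option autoImplicit false

namespace Cfsg.Agent.FusionPSpBorel

open Matrix
open Cfsg.Agent.SymplecticBasic Cfsg.Agent.SymplecticSimple Cfsg.Agent.AutPSpBasic
  Cfsg.Agent.AutPSpTransv

variable {m : ℕ} {F : Type*} [Field F]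

local notation "Mat" => Matrix (Fin m ⊕ Fin m) (Fin m ⊕ Fin m) F

theorem entry (s : Sp m F) (a b : Fin m ⊕ Fin m) :
    (s : Mat) a b = (s • (Pi.single b 1 : Vc m F)) a := by
  simp [smul_def, mulVec_single_one]

/-- The element `[[1, S], [0, 1]]`. -/
def sieg (S : Matrix (Fin m) (Fin m) F) (h : S.IsSymm) : Sp m F :=
  ⟨Matrix.fromBlocks 1 S 0 1, by
    rw [SymplecticGroup.mem_iff, Matrix.J, Matrix.fromBlocks_transpose]
    simp [Matrix.fromBlocks_multiply, h.eq]⟩

theorem coe_sieg (S : Matrix (Fin m) (Fin m) F) (h : S.IsSymm) :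
    (sieg S h : Mat) = Matrix.fromBlocks 1 S 0 1 := rfl

theorem sieg_smul (S : Matrix (Fin m) (Fin m) F) (h : S.IsSymm) (x : Vc m F) :
    sieg S h • x = Sum.elim (x ∘ Sum.inl + S *ᵥ (x ∘ Sum.inr)) (x ∘ Sum.inr) := by
  rw [smul_def, coe_sieg, Matrix.fromBlocks_mulVec]
  simp

theorem sieg_mul {S T : Matrix (Fin m) (Fin m) F} (hS : S.IsSymm) (hT : T.IsSymm) :
    sieg S hS * sieg T hT = sieg (S + T) (hS.add hT) := by
  refine Subtype.ext ?_
  show (sieg S hS : Mat) * sieg T hT = sieg (S + T) (hS.add hT)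
  simp [coe_sieg, Matrix.fromBlocks_multiply, add_comm]

theorem sieg_zero : sieg (0 : Matrix (Fin m) (Fin m) F) (Matrix.isSymm_zero) = 1 := by
  refine Subtype.ext ?_
  show Matrix.fromBlocks _ _ _ _ = (1 : Mat)
  rw [Matrix.fromBlocks_one]

theorem sieg_congr {S T : Matrix (Fin m) (Fin m) F} (hS : S.IsSymm) (hT : T.IsSymm) (h : S = T) :
    sieg S hS = sieg T hT := by subst h; rfl

theorem sieg_inv {S : Matrix (Fin m) (Fin m) F} (hS : S.IsSymm) :
    (sieg S hS)⁻¹ = sieg (-S) hS.neg := by
  refine inv_eq_of_mul_eq_one_right ?_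
  rw [sieg_mul, ← sieg_zero]
  exact sieg_congr _ _ (add_neg_cancel S)

/-- The Levi embedding `g ↦ diag(g, g⁻ᵀ)`. -/
def lev : GL (Fin m) F →* Sp m F where
  toFun g := ⟨Matrix.fromBlocks g.1 0 0 (g⁻¹).1ᵀ, by
    rw [SymplecticGroup.mem_iff, Matrix.J, Matrix.fromBlocks_transpose]
    simp [Matrix.fromBlocks_multiply, ← Matrix.transpose_mul]⟩
  map_one' := Subtype.ext (by simp [Matrix.fromBlocks_one])
  map_mul' g h := Subtype.ext (by
    show Matrix.fromBlocks _ _ _ _ = Matrix.fromBlocks _ _ _ _ * Matrix.fromBlocks _ _ _ _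
    simp [Matrix.fromBlocks_multiply, _root_.mul_inv_rev])

theorem coe_lev (g : GL (Fin m) F) :
    (lev g : Mat) = Matrix.fromBlocks g.1 0 0 (g⁻¹).1ᵀ := rfl

theorem lev_smul (g : GL (Fin m) F) (x : Vc m F) :
    lev g • x = Sum.elim (g.1 *ᵥ (x ∘ Sum.inl)) ((g⁻¹).1ᵀ *ᵥ (x ∘ Sum.inr)) := by
  rw [smul_def, coe_lev, Matrix.fromBlocks_mulVec]
  simp

theorem symm_conj {S : Matrix (Fin m) (Fin m) F} (g : Matrix (Fin m) (Fin m) F) (hS : S.IsSymm) :
    (g * S * gᵀ).IsSymm := by
  unfold Matrix.IsSymm
  rw [Matrix.transpose_mul, Matrix.transpose_mul, Matrix.transpose_transpose, hS.eq, mul_assoc]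

theorem lev_conj (g : GL (Fin m) F) {S : Matrix (Fin m) (Fin m) F} (hS : S.IsSymm) :
    lev g * sieg S hS * (lev g)⁻¹ = sieg (g.1 * S * g.1ᵀ) (symm_conj g.1 hS) := by
  rw [mul_inv_eq_iff_eq_mul]
  refine Subtype.ext ?_
  show (lev g : Mat) * sieg S hS = (sieg (g.1 * S * g.1ᵀ) _ : Mat) * lev g
  simp [coe_lev, coe_sieg, Matrix.fromBlocks_multiply, Matrix.mul_assoc, ← Matrix.transpose_mul]

/-- Diagonal matrices as units. -/
def dgHom : (Fin m → Fˣ) →* GL (Fin m) F :=
  (Units.map (Matrix.diagonalRingHom (Fin m) F).toMonoidHom).comp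
    (MulEquiv.piUnits.symm.toMonoidHom)

theorem coe_dgHom (D : Fin m → Fˣ) :
    (dgHom D : GL (Fin m) F).1 = Matrix.diagonal fun i => (D i : F) := rfl

/-- The diagonal torus. -/
def tor : (Fin m → Fˣ) →* Sp m F := lev.comp dgHom

theorem tor_smul (D : Fin m → Fˣ) (x : Vc m F) :
    tor D • x = Sum.elim (fun i => (D i : F) * x (.inl i)) (fun i => ((D i)⁻¹ : Fˣ) * x (.inr i)) := by
  have e : ((dgHom D)⁻¹ : GL (Fin m) F).1 = Matrix.diagonal fun i => (((D i)⁻¹ : Fˣ) : F) := by
    rw [← map_inv]; rfl
  rw [tor, MonoidHom.comp_apply, lev_smul, e, coe_dgHom, Matrix.diagonal_transpose]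
  funext z
  rcases z with i | i <;> simp [Matrix.mulVec_diagonal]

/-- The diagonal of `tor D`. -/
def tdiag (D : Fin m → Fˣ) : Fin m ⊕ Fin m → F :=
  Sum.elim (fun i => (D i : F)) (fun i => ((D i)⁻¹ : Fˣ))

theorem coe_tor (D : Fin m → Fˣ) : (tor D : Mat) = Matrix.diagonal (tdiag D) := by
  ext a b
  rw [entry, tor_smul]
  rcases a with i | i <;> rcases b with j | j <;> simp [Matrix.diagonal, Pi.single_apply, tdiag]

variable [Fintype F]

theorem sieg_mem_unitri {S : Matrix (Fin m) (Fin m) F} (hS : S.IsSymm) :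
    sieg S hS ∈ unitri m F := by
  rw [mem_unitri]
  intro a b hab
  rw [coe_sieg]
  rcases a with i | i <;> rcases b with j | j
  · simp [Matrix.one_apply]
  · exfalso
    have := i.isLt; have := j.isLt
    simp [rk] at hab; omega
  · simp
  · simp [Matrix.one_apply]

theorem lev_mem_unitri {g : GL (Fin m) F} (hg : PSLUnipotent.IsUnitri g.1)
    (hg' : PSLUnipotent.IsUnitri (g⁻¹).1) : lev g ∈ unitri m F := by
  rw [mem_unitri]
  intro a b hab
  rw [coe_lev]
  rcases a with i | i <;> rcases b with j | j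
  · simp only [rk, Sum.elim_inl] at hab
    rcases hab.lt_or_eq with h | h
    · rw [Matrix.fromBlocks_apply₁₁, hg.2 i j (Fin.lt_def.2 h), if_neg]
      intro e; simp at e; omega
    · obtain rfl : j = i := Fin.ext h
      simp [hg.1]
  · simp
  · simp
  · simp only [rk, Sum.elim_inr] at hab
    have := i.isLt; have := j.isLt
    rcases (show (i : ℕ) ≤ j by omega).lt_or_eq with h | h
    · rw [Matrix.fromBlocks_apply₂₂, Matrix.transpose_apply, hg'.2 j i (Fin.lt_def.2 h), if_neg]
      intro e; simp at e; omega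
    · obtain rfl : i = j := Fin.ext h
      rw [Matrix.fromBlocks_apply₂₂, Matrix.transpose_apply, hg'.1, if_pos rfl]

omit [Fintype F] in
theorem tl_coe (g : SpecialLinearGroup (Fin m) F) :
    (SpecialLinearGroup.toGL g : GL (Fin m) F).1 = g.1 := rfl

theorem levU_mem {g : SpecialLinearGroup (Fin m) F} (hg : g ∈ PSLUnipotent.U F m) :
    lev (SpecialLinearGroup.toGL g) ∈ unitri m F :=
  lev_mem_unitri (PSLUnipotent.mem_U.1 hg) (by
    rw [← map_inv]; exact PSLUnipotent.mem_U.1 (inv_mem hg))

/-- `U = (unitriangular Levi part) ⋅ (Siegel part)`. -/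
theorem unitri_decomp {s : Sp m F} (hs : s ∈ unitri m F) :
    ∃ (g : SpecialLinearGroup (Fin m) F) (S : Matrix (Fin m) (Fin m) F) (h : S.IsSymm),
      g ∈ PSLUnipotent.U F m ∧ s = lev (SpecialLinearGroup.toGL g) * sieg S h := by
  classical
  set a : Matrix (Fin m) (Fin m) F := Matrix.of fun i j => (s : Mat) (.inl i) (.inl j) with ha
  have hau : PSLUnipotent.IsUnitri a := by
    refine ⟨fun i => ?_, fun i j h => ?_⟩
    · simpa [ha] using mem_unitri.1 hs (.inl i) (.inl i) le_rfl
    · have := mem_unitri.1 hs (.inl i) (.inl j) (Fin.lt_def.1 h).le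
      simpa [ha, h.ne'] using this
  let g : SpecialLinearGroup (Fin m) F := ⟨a, PSLUnipotent.isUnitri_det hau⟩
  have hg : g ∈ PSLUnipotent.U F m := PSLUnipotent.mem_U.2 hau
  set t := (lev (SpecialLinearGroup.toGL g))⁻¹ * s with ht
  have htU : t ∈ unitri m F := mul_mem (inv_mem (levU_mem hg)) hs
  -- `t` fixes the first half of the basis
  have hsl : ∀ j, s • (Pi.single (.inl j) 1 : Vc m F) = lev (SpecialLinearGroup.toGL g) •
      (Pi.single (.inl j) 1 : Vc m F) := by
    intro j
    funext z
    rw [← entry, ← entry, coe_lev]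
    rcases z with i | i
    · rfl
    · have h2 := mem_unitri.1 hs (.inr i) (.inl j) (by
        have := i.isLt; have := j.isLt; simp [rk]; omega)
      simpa using h2
  have hte : ∀ j, t • (Pi.single (.inl j) 1 : Vc m F) = Pi.single (.inl j) 1 := fun j => by
    rw [ht, mul_smul, hsl, inv_smul_smul]
  have hinr : ∀ (x : Vc m F) k, (t • x) (.inr k) = x (.inr k) := by
    intro x k
    have h := form_map t x (Pi.single (.inl k) 1)
    rw [hte] at h
    simpa [form_single_inl_right] using h
  let S : Matrix (Fin m) (Fin m) F := Matrix.of fun r k => (t : Mat) (.inl r) (.inr k)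
  have hS : S.IsSymm := by
    refine Matrix.IsSymm.ext fun r k => ?_
    have h := form_map t (Pi.single (.inr r) 1 : Vc m F) (Pi.single (.inr k) 1)
    rw [form_eq_sum, form_eq_sum] at h
    simp [hinr, ← entry, Pi.single_apply, Finset.sum_sub_distrib, S] at h ⊢
    linear_combination -h
  refine ⟨g, S, hS, hg, ?_⟩
  rw [show s = lev (SpecialLinearGroup.toGL g) * t by rw [ht, mul_inv_cancel_left]]
  congr 1
  refine ext_smul_single fun b => funext fun z => ?_
  rw [← entry, ← entry, coe_sieg]
  rcases z with i | i <;> rcases b with j | j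
  · rw [entry, hte]; simp [Pi.single_apply, Matrix.one_apply]
  · rfl
  · rw [entry, hte]; simp
  · rw [entry, hinr]; simp [Pi.single_apply, Matrix.one_apply]

omit [Fintype F] in
theorem symm_decomp (S : Matrix (Fin m) (Fin m) F) (hS : S.IsSymm)
    (H : AddSubgroup (Matrix (Fin m) (Fin m) F))
    (h : ∀ (c : F) (v : Fin m → F), c • vecMulVec v v ∈ H) : S ∈ H := by
  classical
  induction m with
  | zero => rw [Subsingleton.elim S 0]; exact zero_mem H
  | succ n ih =>
    -- strip the first row and column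
    let e : Fin (n + 1) → F := Pi.single 0 1
    let u : Fin (n + 1) → F := fun j => if j = 0 then 0 else S 0 j
    have key : S - S 0 0 • vecMulVec e e -
        ((1 : F) • vecMulVec (e + u) (e + u) - (1 : F) • vecMulVec e e - (1 : F) • vecMulVec u u) =
        Matrix.of fun i j => if i = 0 ∨ j = 0 then 0 else S i j := by
      ext i j
      by_cases hi : i = 0 <;> by_cases hj : j = 0 <;>
        simp [e, u, vecMulVec_apply, Pi.single_apply, hi, hj, hS.apply]
    have hrest : (Matrix.of fun i j : Fin (n + 1) => if i = 0 ∨ j = 0 then 0 else S i j) ∈ H := by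
      let ψ : Matrix (Fin n) (Fin n) F →+ Matrix (Fin (n + 1)) (Fin (n + 1)) F :=
        { toFun := fun T => Matrix.of fun i j =>
            Fin.cases (0 : F) (fun i' => Fin.cases (0 : F) (fun j' => T i' j') j) i
          map_zero' := by ext i j; cases i using Fin.cases <;> cases j using Fin.cases <;> simp
          map_add' := fun T T' => by
            ext i j; cases i using Fin.cases <;> cases j using Fin.cases <;> simp }
      have := ih (S.submatrix Fin.succ Fin.succ) (hS.submatrix _) (H.comap ψ) fun c v => by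
        rw [AddSubgroup.mem_comap]
        convert h c (Fin.cases (0 : F) v) using 1
        ext i j
        cases i using Fin.cases <;> cases j using Fin.cases <;> simp [ψ, vecMulVec_apply]
      rw [AddSubgroup.mem_comap] at this
      convert this using 1
      ext i j
      cases i using Fin.cases <;> cases j using Fin.cases <;> simp [ψ, Fin.succ_ne_zero]
    rw [show S = (Matrix.of fun i j => if i = 0 ∨ j = 0 then 0 else S i j) +
      (S 0 0 • vecMulVec e e +
        ((1 : F) • vecMulVec (e + u) (e + u) - (1 : F) • vecMulVec e e - (1 : F) • vecMulVec u u)) by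
      rw [← key]; abel]
    exact add_mem hrest (add_mem (h _ _) (sub_mem (sub_mem (h _ _) (h _ _)) (h _ _)))

/-! ### Upper triangular elements -/

/-- Upper triangular with respect to the flag. -/
def Upper (A : Sp m F) : Prop := ∀ a b, rk b < rk a → (A : Mat) a b = 0

omit [Fintype F] in
theorem upper_mul {A B : Sp m F} (hA : Upper A) (hB : Upper B) :
    Upper (A * B) ∧ ∀ a, ((A * B : Sp m F) : Mat) a a = (A : Mat) a a * (B : Mat) a a := by
  refine ⟨fun a b hab => ?_, fun a => ?_⟩
  · show ((A : Mat) * B) a b = 0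
    rw [Matrix.mul_apply]
    refine Finset.sum_eq_zero fun c _ => ?_
    rcases lt_or_ge (rk c) (rk a) with h | h
    · rw [hA a c h, zero_mul]
    · rw [hB c b (by omega), mul_zero]
  · show ((A : Mat) * B) a a = _
    rw [Matrix.mul_apply, Finset.sum_eq_single a]
    · intro c _ hc
      rcases lt_trichotomy (rk c) (rk a) with h | h | h
      · rw [hA a c h, zero_mul]
      · exact absurd (rk_injective h) hc
      · rw [hB c a h, mul_zero]
    · simp

omit [Fintype F] in
theorem upper_pow {A : Sp m F} (hA : Upper A) :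
    ∀ n : ℕ, Upper (A ^ n) ∧ ∀ a, ((A ^ n : Sp m F) : Mat) a a = (A : Mat) a a ^ n
  | 0 => by
    refine ⟨fun a b h => ?_, fun a => ?_⟩
    · rw [pow_zero]
      show (1 : Mat) a b = 0
      exact Matrix.one_apply_ne fun e => by subst e; exact lt_irrefl _ h
    · rw [pow_zero, pow_zero]
      show (1 : Mat) a a = 1
      exact Matrix.one_apply_eq a
  | n + 1 => by
    obtain ⟨h1, h2⟩ := upper_pow hA n
    obtain ⟨h3, h4⟩ := upper_mul h1 hA
    rw [pow_succ]
    exact ⟨h3, fun a => by rw [h4, h2, pow_succ]⟩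

omit [Fintype F] in
theorem upper_inr_diag {A : Sp m F} (hA : Upper A) (i : Fin m) :
    (A : Mat) (.inl i) (.inl i) * (A : Mat) (.inr i) (.inr i) = 1 := by
  have h := form_map A (Pi.single (.inr i) 1 : Vc m F) (Pi.single (.inl i) 1)
  rw [form_eq_sum, form_eq_sum] at h
  simp only [← entry] at h
  rw [Finset.sum_eq_single i, Finset.sum_eq_single i] at h
  · rw [hA (.inr i) (.inl i) (by have := i.isLt; simp [rk]; omega)] at h
    simp at h
    linear_combination h
  · intro k _ hk; simp [hk]
  · simp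
  · intro k _ hk
    rw [hA (.inr k) (.inl i) (by have := i.isLt; have := k.isLt; simp [rk]; omega)]
    rcases lt_or_gt_of_ne (Fin.val_ne_of_ne hk) with h | h
    · rw [hA (.inr k) (.inr i) (by have := i.isLt; simp [rk]; omega)]; ring
    · rw [hA (.inl k) (.inl i) (by simpa [rk] using h)]; ring
  · simp

/-- An upper triangular element is unitriangular times diagonal. -/
theorem upper_decomp {A : Sp m F} (hA : Upper A) :
    ∃ (u : Sp m F) (D : Fin m → Fˣ), u ∈ unitri m F ∧ A = u * tor D ∧
      ∀ i, (D i : F) = (A : Mat) (.inl i) (.inl i) := by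
  have h0 : ∀ i, (A : Mat) (.inl i) (.inl i) ≠ 0 := fun i h => by
    have := upper_inr_diag hA i
    rw [h, zero_mul] at this
    exact zero_ne_one this
  let D : Fin m → Fˣ := fun i => Units.mk0 _ (h0 i)
  refine ⟨A * (tor D)⁻¹, D, ?_, by rw [inv_mul_cancel_right], fun i => rfl⟩
  rw [← map_inv, mem_unitri]
  intro a b hab
  show ((A : Mat) * (tor D⁻¹ : Sp m F)) a b = _
  rw [coe_tor, Matrix.mul_diagonal]
  rcases hab.lt_or_eq with h | h
  · rw [hA a b h, zero_mul, if_neg]
    intro e; subst e; exact lt_irrefl _ h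
  · obtain rfl := rk_injective h
    rw [if_pos rfl]
    rcases b with i | i
    · simp [tdiag, D, mul_inv_cancel₀ (h0 i)]
    · have := upper_inr_diag hA i
      simp [tdiag, D]
      linear_combination this

/-- An element conjugating `U` into itself is upper triangular. -/
theorem upper_of_conj {g : Sp m F} (h : ∀ u ∈ unitri m F, ∃ u' ∈ unitri m F, u * g = g * u') :
    Upper g := by
  classical
  suffices hV : ∀ (k : ℕ) (v : Vc m F), (∀ l, k ≤ rk l → v l = 0) →
      ∀ l, k ≤ rk l → (g • v) l = 0 by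
    intro a b hab
    have := hV (rk b + 1) (Pi.single b 1) (fun l hl => by
      rw [Pi.single_eq_of_ne]; intro e; subst e; omega) a (by omega)
    rwa [← entry] at this
  intro k
  induction k with
  | zero =>
    intro v hv l _
    rw [show v = 0 from funext fun l => hv l (Nat.zero_le _), smul_def, Matrix.mulVec_zero,
      Pi.zero_apply]
  | succ k ih =>
    intro v hv l hl
    -- for each `u`, the vector `u (g v) - g v` is supported below `k`
    have hlow : ∀ u ∈ unitri m F, ∀ z, k ≤ rk z → (u • (g • v)) z = (g • v) z := by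
      intro u hu z hz
      obtain ⟨u', hu', he⟩ := h u hu
      have hd : ∀ l', k ≤ rk l' → (u' • v - v) l' = 0 := by
        intro l' hl'
        rw [Pi.sub_apply, smul_def, Matrix.mulVec, dotProduct, Finset.sum_eq_single l']
        · rw [mem_unitri.1 hu' l' l' le_rfl, if_pos rfl, one_mul, sub_self]
        · intro j _ hj
          rcases le_or_gt (rk j) (rk l') with hle | hlt
          · rw [mem_unitri.1 hu' l' j hle, if_neg hj.symm, zero_mul]
          · rw [hv j (by omega), mul_zero]
        · simp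
      have h1 := ih _ hd z hz
      rw [smul_def g, Matrix.mulVec_sub, ← smul_def, ← smul_def, ← mul_smul, ← he, mul_smul,
        Pi.sub_apply, sub_eq_zero] at h1
      exact h1
    rcases l with ⟨j, hj⟩ | ⟨j, hj⟩
    · simp only [rk, Sum.elim_inl] at hl
      let i : Fin m := ⟨j - 1, by omega⟩
      have hij : i < (⟨j, hj⟩ : Fin m) := Fin.lt_def.2 (show j - 1 < j by omega)
      have := hlow _ (levi_mem_unitri (F := F) hij) (.inl i) (by simp [rk, i]; omega)
      rw [levi_smul] at this
      simpa [Pi.single_apply] using this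
    · simp only [rk, Sum.elim_inr] at hl
      by_cases hlast : j + 1 < m
      · let i : Fin m := ⟨j + 1, hlast⟩
        have hij : (⟨j, hj⟩ : Fin m) < i := Fin.lt_def.2 (show j < j + 1 by omega)
        have := hlow _ (levi_mem_unitri (F := F) hij) (.inr i) (by simp [rk, i]; omega)
        rw [levi_smul] at this
        simpa [Pi.single_apply] using this
      · have := hlow _ (transv_mem_unitri (F := F) (Pi.single (.inl ⟨j, hj⟩) 1)
          (fun r => by simp) 1) (.inl ⟨j, hj⟩) (by simp [rk]; omega)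
        rw [transv_smul, form_single_inl_right] at this
        simpa using this

theorem tor_mem_normalizer (D : Fin m → Fˣ) {u : Sp m F} (hu : u ∈ unitri m F) :
    tor D * u * (tor D)⁻¹ ∈ unitri m F := by
  rw [← map_inv, mem_unitri]
  intro a b hab
  show ((tor D : Mat) * u * (tor D⁻¹ : Sp m F)) a b = _
  rw [coe_tor, coe_tor, Matrix.mul_diagonal, Matrix.diagonal_mul, mem_unitri.1 hu a b hab]
  split_ifs with h
  · subst h
    rcases a with i | i <;> simp [tdiag]
  · simp

/-! ### The point parabolic radical -/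

variable [NeZero m]

/-- The first basis vector. -/
def e0 (m : ℕ) (F : Type*) [Field F] [NeZero m] : Vc m F := Pi.single (.inl 0) 1

/-- The radical of the stabilizer of a point. -/
def Q1 (m : ℕ) (F : Type*) [Field F] [NeZero m] : Subgroup (Sp m F) where
  carrier := {s | s • e0 m F = e0 m F ∧
    ∀ x : Vc m F, sympForm m F x (e0 m F) = 0 → ∃ t : F, s • x = x + t • e0 m F}
  one_mem' := ⟨one_smul _ _, fun x _ => ⟨0, by simp⟩⟩
  mul_mem' := by
    rintro a b ⟨ha, ha'⟩ ⟨hb, hb'⟩
    refine ⟨by rw [mul_smul, hb, ha], fun x hx => ?_⟩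
    obtain ⟨t, ht⟩ := hb' x hx
    obtain ⟨t', ht'⟩ := ha' x hx
    refine ⟨t + t', ?_⟩
    rw [mul_smul, ht, smul_def a (_ + _), Matrix.mulVec_add, Matrix.mulVec_smul, ← smul_def,
      ← smul_def, ha, ht', add_smul]
    abel
  inv_mem' := by
    rintro a ⟨ha, ha'⟩
    refine ⟨inv_smul_eq_iff.2 ha.symm, fun x hx => ?_⟩
    obtain ⟨t, ht⟩ := ha' x hx
    refine ⟨-t, inv_smul_eq_iff.2 ?_⟩
    rw [smul_def a (_ + _), Matrix.mulVec_add, Matrix.mulVec_smul, ← smul_def, ← smul_def, ha, ht,
      neg_smul, add_neg_cancel_right]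

omit [Fintype F] in
theorem conj_Q1 {g s : Sp m F} {lam : F} (hg : g • e0 m F = lam • e0 m F) (hl : lam ≠ 0)
    (hs : s ∈ Q1 m F) : g * s * g⁻¹ ∈ Q1 m F := by
  have hg' : g⁻¹ • e0 m F = lam⁻¹ • e0 m F := by
    rw [inv_smul_eq_iff, scalar_smul, hg, smul_smul, inv_mul_cancel₀ hl, one_smul]
  refine ⟨?_, fun x hx => ?_⟩
  · rw [mul_smul, mul_smul, hg', scalar_smul, hs.1, scalar_smul, hg, smul_smul,
      inv_mul_cancel₀ hl, one_smul]
  · obtain ⟨t, ht⟩ := hs.2 (g⁻¹ • x) (by
      have h1 := form_map g (g⁻¹ • x) (e0 m F)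
      rw [smul_inv_smul, hg, form_smul_right, hx, mul_zero] at h1
      exact h1.symm)
    refine ⟨t * lam, ?_⟩
    rw [mul_smul, mul_smul, ht, smul_def g (_ + _), Matrix.mulVec_add, Matrix.mulVec_smul,
      ← smul_def, ← smul_def, smul_inv_smul, hg, smul_smul]

theorem Q1_le_unitri : Q1 m F ≤ unitri m F := by
  rintro s ⟨hs, hs'⟩
  rw [mem_unitri]
  intro a b hab
  rw [entry]
  by_cases hb : b = .inr 0
  · subst hb
    have h1 : rk (Sum.inr 0 : Fin m ⊕ Fin m) = 2 * m - 1 := by simp [rk]
    have hra : rk a = 2 * m - 1 := by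
      have := rk_lt a
      rw [h1] at hab
      omega
    obtain rfl : a = .inr 0 := rk_injective (by rw [hra]; simp [rk])
    have h := form_map s (Pi.single (.inr 0) 1 : Vc m F) (e0 m F)
    rw [hs] at h
    simpa [e0, form_single_inl_right] using h
  · obtain ⟨t, ht⟩ := hs' (Pi.single b 1) (by
      rw [e0, form_single_inl_right, Pi.single_eq_of_ne (Ne.symm hb)])
    rw [ht]
    by_cases ha : a = .inl 0
    · subst ha
      obtain rfl : b = .inl 0 := rk_injective (by simp [rk] at hab ⊢; exact hab)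
      rw [show (Pi.single (.inl 0) 1 : Vc m F) = e0 m F from rfl] at ht ⊢
      rw [hs] at ht
      rw [← ht]
      simp [e0]
    · simp [e0, ha, Pi.single_apply]

theorem unitri_fix_e0 {u : Sp m F} (hu : u ∈ unitri m F) : u • e0 m F = e0 m F := by
  funext a
  rw [e0, ← entry, mem_unitri.1 hu a (.inl 0) (by simp [rk])]
  simp [Pi.single_apply]

/-- The centralizer of the point radical. -/
theorem comm_Q1 {g : Sp m F} (h : ∀ r ∈ Q1 m F, r * g = g * r) :
    ∃ a : F, a * a = 1 ∧ ∀ t : Sp m F, (∀ x : Vc m F, t • x = a • (g • x)) → t ∈ Q1 m F := by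
  set e := e0 m F with he
  have hmem : ∀ w : Vc m F, sympForm m F w e = 0 → ∀ c : F,
      transv (w + c • e) 1 * transv w (-1) ∈ Q1 m F := by
    intro w hw c
    have hew : sympForm m F e w = 0 := form_eq_zero_comm.1 hw
    refine ⟨?_, fun x hx => ⟨c * sympForm m F x w, ?_⟩⟩
    · simp only [mul_smul, transv_smul, form_add_right, form_smul_right, form_self, ← he, hew,
        mul_zero, zero_smul, smul_zero, add_zero]
    · rw [mul_smul, transv_smul, transv_smul]
      simp only [form_add_right, form_smul_right, form_add_left, form_smul_left, form_self, hw,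
        show sympForm m F x e = 0 from hx]
      module
  have hz : transv e (1 : F) ∈ Q1 m F := by
    refine ⟨by rw [transv_smul, form_self, mul_zero, zero_smul, add_zero], fun x hx => ⟨0, ?_⟩⟩
    rw [transv_smul, show sympForm m F x e = 0 from hx, mul_zero, zero_smul]
  let f0 : Vc m F := Pi.single (.inr 0) 1
  have hf : sympForm m F f0 e = 1 := by simp [f0, he, e0, form_single_inl_right]
  set lam := sympForm m F (g • f0) e with hlam
  have hge : g • e = lam • e := by
    have := congrArg (fun s : Sp m F => s • f0) (h _ hz)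
    simp only [mul_smul, transv_smul, hf, one_mul, one_smul, ← hlam] at this
    rw [smul_def g (_ + _), Matrix.mulVec_add, ← smul_def, ← smul_def] at this
    exact (add_left_cancel this).symm
  have hinv : ∀ x : Vc m F, lam * sympForm m F (g • x) e = sympForm m F x e := fun x => by
    rw [← form_smul_right, ← hge, form_map]
  have hl2 : lam * lam = 1 := by
    have := hinv f0
    rwa [hf, ← hlam] at this
  refine ⟨lam, hl2, fun t ht => ⟨by rw [ht, hge, smul_smul, hl2, one_smul], fun x hx => ?_⟩⟩
  have h1 := congrArg (fun s : Sp m F => s • f0) (h _ (hmem x hx 1))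
  beta_reduce at h1
  rw [mul_smul, mul_smul, mul_smul, mul_smul] at h1
  simp only [transv_smul, one_mul, neg_mul, one_smul] at h1
  simp only [form_add_right, form_add_left, form_smul_left, form_self, hf,
    show sympForm m F x e = 0 from hx, form_eq_zero_comm.1 hx, ← hlam] at h1
  refine ⟨lam * (sympForm m F (g • f0) x - lam * sympForm m F f0 x), ?_⟩
  rw [ht]
  have h2 : g • x = lam • x + (sympForm m F (g • f0) x - lam * sympForm m F f0 x) • e := by
    simp only [smul_def, mul_zero, add_zero, Matrix.mulVec_add, Matrix.mulVec_smul] at h1 hge ⊢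
    rw [hge] at h1
    linear_combination (norm := module) -h1
  rw [h2, smul_add, smul_smul, smul_smul, hl2, one_smul]

end Cfsg.Agent.FusionPSpBorel
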