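import Cfsg.Agent.Lib.FusionPSpBorel
import Cfsg.Agent.Lib.FusionSimpleCrit

/-!
The fusion system of `PSp_{2m}(q)` in the defining characteristic is simple.
-/

set_option autoImplicit false

namespace Cfsg.Agent.FusionPSpSimple

open Matrix Cfsg
open Cfsg.Agent.SymplecticBasic Cfsg.Agent.SymplecticSimple Cfsg.Agent.AutPSpBasic
  Cfsg.Agent.AutPSpTransv Cfsg.Agent.FusionPSpBorel Cfsg.Agent.FusionSimpleCrit

universe u v

variable {m : ℕ} {F : Type u} [Field F] [Fintype F] {p : ℕ} [Fact p.Prime] [CharP F p]
  {G : Type v} [Group G] (ψ : Sp m F →* G)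

local notation "Mat" => Matrix (Fin m ⊕ Fin m) (Fin m ⊕ Fin m) F
local notation "Mm" => Matrix (Fin m) (Fin m) F

omit [Fintype F] in
theorem mem_normalizer_of_conj {H : Subgroup G} [Finite G] {g : G}
    (h : ∀ x ∈ H, g * x * g⁻¹ ∈ H) : g ∈ Subgroup.normalizer (H : Set G) := by
  refine Subgroup.mem_normalizer_iff.2 fun x => ⟨h x, fun hx => ?_⟩
  have hle : H.map (MulAut.conj g).toMonoidHom ≤ H := by
    rintro _ ⟨y, hy, rfl⟩
    exact h y hy
  have he := Subgroup.eq_of_le_of_card_ge hle
    (le_of_eq (Nat.card_congr (H.equivMapOfInjective _ (MulAut.conj g).injective).toEquiv))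
  have hx' : g * x * g⁻¹ ∈ H.map (MulAut.conj g).toMonoidHom := by rw [he]; exact hx
  obtain ⟨y, hy, hyx⟩ := hx'
  have : y = x := by simpa using hyx
  exact this ▸ hy

/-- A symmetric pair of vectors as a matrix. -/
def P (v w : Fin m → F) : Matrix (Fin m) (Fin m) F := vecMulVec v w + vecMulVec w v

omit [Fintype F] in
theorem P_symm (v w : Fin m → F) : (P v w).IsSymm := by
  unfold Matrix.IsSymm P
  rw [Matrix.transpose_add, Matrix.transpose_vecMulVec, Matrix.transpose_vecMulVec, add_comm]

omit [Fintype F] in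
theorem vv_symm (v : Fin m → F) : (vecMulVec v v).IsSymm := Matrix.transpose_vecMulVec v v

omit [Fintype F] in
theorem conj_vv (g : Mm) (v w : Fin m → F) :
    g * vecMulVec v w * gᵀ = vecMulVec (g *ᵥ v) (g *ᵥ w) := by
  rw [Matrix.mul_vecMulVec, Matrix.vecMulVec_mul, Matrix.vecMul_transpose]

omit [Fintype F] in
theorem conj_P (g : Mm) (v w : Fin m → F) : g * P v w * gᵀ = P (g *ᵥ v) (g *ᵥ w) := by
  rw [P, P, mul_add, add_mul, conj_vv, conj_vv]

omit [Fintype F] in
theorem exists_gl_map {v : Fin m → F} (hv : v ≠ 0) (i0 : Fin m) :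
    ∃ g : GL (Fin m) F, g.1 *ᵥ Pi.single i0 1 = v := by
  obtain ⟨k, hk⟩ := Function.ne_iff.1 hv
  let M : Mm := (1 : Mm).updateCol k v
  let σ : Mm := (Equiv.swap i0 k).toPEquiv.toMatrix
  have hσ : σ.det ≠ 0 := by
    rw [show σ.det = (Equiv.Perm.sign (Equiv.swap i0 k) : ℤ) from Matrix.det_permutation _]
    rcases Int.units_eq_one_or (Equiv.Perm.sign (Equiv.swap i0 k)) with h | h <;> simp [h]
  have hM : M.det ≠ 0 := by
    rw [show M.det = v k from ?_]
    · exact hk
    · rw [show M.det = (1 : Mm).cramer v k from (Matrix.cramer_apply _ _ _).symm,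
        Matrix.cramer_one]
      rfl
  refine ⟨Matrix.GeneralLinearGroup.mkOfDetNeZero (M * σ) (by rw [det_mul]; exact mul_ne_zero hM hσ), ?_⟩
  show (M * σ) *ᵥ _ = v
  rw [← Matrix.mulVec_mulVec]
  have e : σ *ᵥ Pi.single i0 1 = Pi.single k 1 := by
    funext a
    simp only [σ, Matrix.mulVec_single_one, Matrix.col_apply, PEquiv.toMatrix_apply,
      Equiv.toPEquiv_apply, Option.mem_some_iff, Pi.single_apply]
    refine if_congr ⟨fun h => ?_, fun h => by rw [h, Equiv.swap_apply_right]⟩ rfl rfl
    exact (Equiv.swap_apply_eq_iff.1 h).trans (Equiv.swap_apply_left _ _)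
  rw [e]
  funext a
  simp [M]

/-- `diag(a⁻¹, a)` in `SL₂`. -/
def sl2diag (a : Fˣ) : SpecialLinearGroup (Fin 2) F :=
  ⟨!![((a⁻¹ : Fˣ) : F), 0; 0, (a : F)], by simp [Matrix.det_fin_two]⟩

omit [Fintype F] in
theorem coe_sl2diag (a : Fˣ) : (sl2diag a).1 = !![((a⁻¹ : Fˣ) : F), 0; 0, (a : F)] := rfl

variable (hψ : ∀ x, ψ x = 1 ↔ x ∈ Subgroup.center (Sp m F))
include hψ

theorem eq_scalar (hm : 1 ≤ m) {s t : Sp m F} (h : ψ s = ψ t) :
    ∃ a : F, a * a = 1 ∧ ∀ x : Vc m F, t • x = a • (s • x) := by
  have hz : s⁻¹ * t ∈ Subgroup.center (Sp m F) := (hψ _).1 (by rw [map_mul, map_inv, h, inv_mul_cancel])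
  obtain ⟨a, ha, ha'⟩ := (mem_center_iff hm).1 hz
  refine ⟨a, by rw [← ha, sq], fun x => ?_⟩
  rw [← scalar_smul, ← ha', ← mul_smul, mul_inv_cancel_left]

theorem eq_of_scalar {s t : Sp m F} {a : F} (h : ∀ x : Vc m F, t • x = a • (s • x)) : ψ t = ψ s := by
  have hz : s⁻¹ * t ∈ Subgroup.center (Sp m F) := mem_center_of_scalar (a := a) fun v => by
    rw [mul_smul, inv_smul_eq_iff, scalar_smul, h]
  have := (hψ _).2 hz
  rw [map_mul, map_inv, inv_mul_eq_one] at this
  exact this.symm

theorem inj_unitri [NeZero m] {s t : Sp m F} (hs : s ∈ unitri m F) (ht : t ∈ unitri m F)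
    (h : ψ s = ψ t) : s = t := by
  obtain ⟨a, -, ha⟩ := eq_scalar ψ hψ (Nat.one_le_iff_ne_zero.2 (NeZero.ne m)) h
  have h1 := congrFun (ha (e0 m F)) (.inl 0)
  rw [unitri_fix_e0 ht, unitri_fix_e0 hs] at h1
  simp [e0] at h1
  exact ext_smul fun x => by rw [ha, ← h1, one_smul]

theorem exact_conj (hm : 1 ≤ m) (p : ℕ) [Fact p.Prime] [CharP F p] {g u u' : Sp m F}
    (hu : u ∈ unitri m F) (hu' : u' ∈ unitri m F) (h : ψ (g * u) = ψ (u' * g)) :
    g * u = u' * g := by
  obtain ⟨k, hk⟩ := isPGroup_unitri (F := F) (m := m) hm p ⟨u, hu⟩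
  obtain ⟨k', hk'⟩ := isPGroup_unitri (F := F) (m := m) hm p ⟨u', hu'⟩
  have h1 : u ^ p ^ (k + k') = 1 := by
    have := congrArg Subtype.val hk
    rw [pow_add, pow_mul, show u ^ p ^ k = 1 from this, one_pow]
  have h2 : u' ^ p ^ (k + k') = 1 := by
    have := congrArg Subtype.val hk'
    rw [pow_add, mul_comm, pow_mul, show u' ^ p ^ k' = 1 from this, one_pow]
  set z := (g * u) * (u' * g)⁻¹ with hz
  have hzc : z ∈ Subgroup.center (Sp m F) := (hψ _).1 (by rw [map_mul, map_inv, h, mul_inv_cancel])
  obtain ⟨a, -, ha⟩ := (mem_center_iff hm).1 hzc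
  have hpow : ∀ n : ℕ, ∀ x : Vc m F, (z ^ n) • x = a ^ n • x := by
    intro n
    induction n with
    | zero => intro x; simp
    | succ n ih => intro x; rw [pow_succ, mul_smul, ha, scalar_smul, ih, smul_smul, pow_succ']
  have hc : Commute z u' := (Subgroup.mem_center_iff.1 hzc u').symm
  have hzN : z ^ p ^ (k + k') = 1 := by
    have e : g * u * g⁻¹ = z * u' := by rw [hz]; group
    have := congrArg (· ^ p ^ (k + k')) e
    rw [conj_pow, h1, hc.mul_pow, h2, mul_one, mul_one, mul_inv_cancel] at this
    exact this.symm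
  have haN : a ^ p ^ (k + k') = 1 := by
    have := congrFun (hpow (p ^ (k + k')) (Pi.single (.inl ⟨0, hm⟩) 1)) (.inl ⟨0, hm⟩)
    rw [hzN, one_smul] at this
    simpa using this.symm
  have ha1 : a = 1 := PSLUnipotent.scalar_eq_one p haN
  have : z = 1 := ext_smul fun x => by rw [ha, ha1, one_smul, one_smul]
  exact mul_inv_eq_one.1 this

theorem upper_of_normalizer (hm : 1 ≤ m) (p : ℕ) [Fact p.Prime] [CharP F p] {A : Sp m F}
    (hA : ψ A ∈ Subgroup.normalizer (((unitri m F).map ψ : Subgroup G) : Set G)) : Upper A := by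
  refine upper_of_conj fun u hu => ?_
  have h1 := (Subgroup.mem_normalizer_iff.1 (inv_mem hA) (ψ u)).1 (Subgroup.mem_map_of_mem ψ hu)
  obtain ⟨u', hu', he⟩ := h1
  refine ⟨u', hu', exact_conj ψ hψ hm p hu' hu ?_ |>.symm⟩
  rw [map_mul, map_mul, he, inv_inv]
  group

/-- The unitriangular group is a Sylow subgroup. -/
theorem sylow_eq [Finite G] (hm : 1 ≤ m) (hsur : Function.Surjective ψ) (S : Sylow p G)
    (hle : (unitri m F).map ψ ≤ (S : Subgroup G)) : (unitri m F).map ψ = (S : Subgroup G) := by
  by_contra hne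
  have : Group.IsNilpotent ↥(S : Subgroup G) := S.2.isNilpotent
  have hlt : ((unitri m F).map ψ).subgroupOf (S : Subgroup G) < ⊤ := lt_top_iff_ne_top.2 fun h =>
    hne (le_antisymm hle (Subgroup.subgroupOf_eq_top.1 h))
  obtain ⟨⟨x, hxS⟩, hxN, hxU⟩ := SetLike.exists_of_lt (normalizerCondition_of_isNilpotent _ hlt)
  apply hxU
  show x ∈ (unitri m F).map ψ
  have hxN' : x ∈ Subgroup.normalizer (((unitri m F).map ψ : Subgroup G) : Set G) := by
    refine mem_normalizer_of_conj fun y hy => ?_
    exact ((Subgroup.mem_normalizer_iff.1 hxN) ⟨y, hle hy⟩).1 hy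
  obtain ⟨A, rfl⟩ := hsur x
  have hup := upper_of_normalizer ψ hψ hm p hxN'
  obtain ⟨k, hk⟩ := S.2 ⟨ψ A, hxS⟩
  have hAk : ψ (A ^ p ^ k) = ψ 1 := by rw [map_pow, map_one]; exact congrArg Subtype.val hk
  obtain ⟨a, ha, ha'⟩ := eq_scalar ψ hψ hm hAk.symm
  have hdiag : ∀ b, (A : Mat) b b ^ p ^ k = a := fun b => by
    rw [← (upper_pow hup (p ^ k)).2 b, entry, ha', one_smul]
    simp
  have hap : a ^ p ^ k = a := by
    rcases mul_self_eq_one_iff.1 ha with h | h
    · rw [h, one_pow]
    · rcases (Fact.out : p.Prime).eq_two_or_odd' with h2 | h2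
      · subst h2
        have h1 : (-1 : F) = 1 := by linear_combination -(CharTwo.two_eq_zero (R := F))
        rw [h, h1, one_pow]
      · rw [h, (h2.pow).neg_one_pow]
  have ha0 : a ≠ 0 := fun h => by rw [h, mul_zero] at ha; exact zero_ne_one ha
  have hd : ∀ b, (A : Mat) b b = a := by
    intro b
    have h1 : ((A : Mat) b b * a⁻¹) ^ p ^ k = 1 := by
      rw [mul_pow, hdiag, inv_pow, hap, mul_inv_cancel₀ ha0]
    exact (mul_inv_eq_one₀ ha0).1 (PSLUnipotent.scalar_eq_one p h1)
  obtain ⟨u, D, hu, hAuD, hD⟩ := upper_decomp hup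
  refine ⟨u, hu, (eq_of_scalar ψ hψ (a := a) fun x => ?_).symm⟩
  rw [hAuD, mul_smul, ← scalar_smul]
  congr 1
  rw [tor_smul]
  funext z
  rcases z with i | i
  · simp [hD, hd]
  · have : ((D i)⁻¹ : Fˣ) = (a : F) := by
      rw [Units.val_inv_eq_inv_val, hD, hd, inv_eq_of_mul_eq_one_right ha]
    simp only [Sum.elim_inr, this, Pi.smul_apply, smul_eq_mul]

variable [Finite G]

/-- A strongly closed subgroup meeting `S` nontrivially is `S`. -/
theorem closed_eq (hm : 2 ≤ m) (hex : m = 2 → 3 ≤ Fintype.card F) (hsur : Function.Surjective ψ)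
    (S : Sylow p G) (hS : (unitri m F).map ψ = (S : Subgroup G)) (T : Subgroup G)
    (hT : (groupFusionSystem (S : Subgroup G)).StronglyClosed T) (hne : T ≠ ⊥) :
    T = (S : Subgroup G) := by
  classical
  have : NeZero m := ⟨by omega⟩
  let B : AddSubgroup Mm :=
    { carrier := {M | ∃ h : M.IsSymm, ψ (sieg M h) ∈ T}
      zero_mem' := ⟨Matrix.isSymm_zero, by rw [sieg_zero, map_one]; exact one_mem T⟩
      add_mem' := by
        rintro M N ⟨hM, hMT⟩ ⟨hN, hNT⟩
        exact ⟨hM.add hN, by rw [← sieg_mul hM hN, map_mul]; exact mul_mem hMT hNT⟩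
      neg_mem' := by
        rintro M ⟨hM, hMT⟩
        exact ⟨hM.neg, by rw [← sieg_inv hM, map_inv]; exact inv_mem hMT⟩ }
  have hBT : ∀ {M : Mm} (h : M.IsSymm), M ∈ B → ψ (sieg M h) ∈ T := fun h hM => hM.2
  have hBconj : ∀ (g : GL (Fin m) F) (M : Mm), M ∈ B → g.1 * M * g.1ᵀ ∈ B := by
    rintro g M ⟨hM, hMT⟩
    refine ⟨symm_conj g.1 hM, ?_⟩
    have e : ψ (sieg (g.1 * M * g.1ᵀ) (symm_conj g.1 hM)) = ψ (lev g) * ψ (sieg M hM) * (ψ (lev g))⁻¹ := by
      rw [← map_inv, ← map_mul, ← map_mul, lev_conj]
    rw [e]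
    exact mem_of_conj hT hMT (e ▸ hS ▸ Subgroup.mem_map_of_mem ψ (sieg_mem_unitri _))
  set i0 : Fin m := ⟨0, by omega⟩ with hi0
  set i1 : Fin m := ⟨1, by omega⟩ with hi1
  have d01 : i0 ≠ i1 := Fin.ne_of_val_ne (by simp [hi0, hi1])
  set e : Fin m → F := Pi.single i0 1 with he
  set e' : Fin m → F := Pi.single i1 1 with he'
  have hdg : ∀ (D : Fin m → Fˣ) (i : Fin m),
      (dgHom D : GL (Fin m) F).1 *ᵥ (Pi.single i 1 : Fin m → F) = (D i : F) • Pi.single i 1 := by
    intro D i
    funext a
    by_cases h : a = i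
    · subst h; simp [coe_dgHom]
    · simp [coe_dgHom, h]
  have hscale : ∀ (l : Fˣ) (c : F), c • vecMulVec e e ∈ B → ((l : F) ^ 2 * c) • vecMulVec e e ∈ B := by
    intro l c hc
    have h := hBconj (dgHom (Function.update 1 i0 l)) _ hc
    rw [mul_smul_comm, smul_mul_assoc, conj_vv, he, hdg, Function.update_self, ← he,
      Matrix.smul_vecMulVec, Matrix.vecMulVec_smul, smul_smul, smul_smul] at h
    convert h using 2
    ring
  -- Levi root elements from symmetric pairs
  have hlevT : ∀ (i j : Fin m) (hij : i < j) (c : F), c • P (Pi.single i 1) (Pi.single j 1) ∈ B →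
      ψ (lev (SpecialLinearGroup.toGL (SpecialLinearGroup.transvection hij.ne c))) ∈ T := by
    rintro i j hij c ⟨hs, hsT⟩
    have hf : sympForm m F (Pi.single (.inr j) 1) (Pi.single (.inl j) 1) = 1 := by
      simp [form_single_inl_right]
    let W : Sp m F := SymplecticRootGroups.planeHom hf
      ⟨!![0, -1; 1, 0], by simp [Matrix.det_fin_two]⟩
    have hW : ∀ x : Vc m F, W • x =
        Function.update (Function.update x (.inl j) (x (.inr j))) (.inr j) (-x (.inl j)) := by
      intro x
      rw [show W • x = _ from SymplecticRootGroups.planeHom_smul hf _ x, form_single_inl_right,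
        form_swap x,
        form_single_inr_right]
      funext z
      rcases z with a | a <;> by_cases ha : a = j <;> simp [Pi.single_apply, ha, Function.update]
      <;> ring
    have hinv : ((SpecialLinearGroup.toGL (SpecialLinearGroup.transvection hij.ne c))⁻¹ : GL (Fin m) F).1 =
        1 + Matrix.single i j (-c) := by
      rw [← map_inv, inv_eq_of_mul_eq_one_right (b := SpecialLinearGroup.transvection hij.ne (-c))]
      · rfl
      · refine Subtype.ext ?_
        show (_ : Mm) * _ = 1
        simp [SpecialLinearGroup.transvection_coe, add_mul, mul_add, hij.ne', add_assoc,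
          ← Matrix.single_add]
    have key : W * sieg _ hs =
        lev (SpecialLinearGroup.toGL (SpecialLinearGroup.transvection hij.ne c)) * W := by
      have hsm : ∀ (r r' : Fin m) (d : F) (y : Fin m → F),
          Matrix.single r r' d *ᵥ y = Pi.single r (d * y r') := by
        intro r r' d y
        funext k
        rw [Matrix.mulVec, dotProduct, Finset.sum_eq_single r'] <;>
          simp +contextual [Matrix.single_apply, Pi.single_apply, eq_comm]
      refine ext_smul fun x => ?_
      rw [mul_smul, mul_smul, hW, hW, sieg_smul, lev_smul, hinv, tl_coe,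
        SpecialLinearGroup.transvection_coe]
      funext z
      rcases z with a | a <;> by_cases ha : a = j <;> by_cases hb : a = i <;>
        simp [P, hsm, ha, hb, hij.ne, hij.ne', Matrix.add_mulVec, Matrix.smul_mulVec, Pi.single_apply,
          Matrix.vecMulVec_mulVec, Function.update, Matrix.transpose_add, Matrix.transpose_single]
      <;> ring
    have hmem : ψ (lev (SpecialLinearGroup.toGL (SpecialLinearGroup.transvection hij.ne c))) ∈
        (S : Subgroup G) := hS ▸ Subgroup.mem_map_of_mem ψ (levU_mem (PSLUnipotent.transvection_mem_U hij c))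
    have e1 : ψ (lev (SpecialLinearGroup.toGL (SpecialLinearGroup.transvection hij.ne c))) =
        ψ W * ψ (sieg _ hs) * (ψ W)⁻¹ := by
      rw [← map_inv, ← map_mul, ← map_mul, key, mul_inv_cancel_right]
    rw [e1] at hmem ⊢
    exact mem_of_conj hT hsT hmem
  -- one rank one element
  obtain ⟨γ, hγ0, hγ⟩ : ∃ γ : F, γ ≠ 0 ∧ γ • vecMulVec e e ∈ B := by
    have pure : ∀ b : F, b ≠ 0 → b • P e e' ∈ B → ∃ γ : F, γ ≠ 0 ∧ γ • vecMulVec e e ∈ B := by
      intro b hb hbB
      refine ⟨b * b, mul_ne_zero hb hb, ?_⟩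
      have h01 : i0 < i1 := Fin.lt_def.2 (by simp [hi0, hi1])
      set g := SpecialLinearGroup.toGL (SpecialLinearGroup.transvection h01.ne b) with hg
      have hx := hlevT i0 i1 h01 b hbB
      have hy : ψ (sieg _ (vv_symm e')) ∈ (S : Subgroup G) :=
        hS ▸ Subgroup.mem_map_of_mem ψ (sieg_mem_unitri _)
      have h := mul_mem hx (conj_mem_of_mem hT (inv_mem hx) hy)
      have e1 : ψ (lev g) * (ψ (sieg _ (vv_symm e')) * (ψ (lev g))⁻¹ * (ψ (sieg _ (vv_symm e')))⁻¹) =
          ψ (sieg (g.1 * vecMulVec e' e' * g.1ᵀ + -vecMulVec e' e')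
            ((symm_conj g.1 (vv_symm e')).add (vv_symm e').neg)) := by
        rw [← sieg_mul (symm_conj g.1 (vv_symm e')) (vv_symm e').neg, ← sieg_inv (vv_symm e'),
          ← lev_conj g (vv_symm e'), map_mul, map_mul, map_mul, map_inv, map_inv]
        group
      rw [← hg, e1] at h
      have hB : g.1 * vecMulVec e' e' * g.1ᵀ + -vecMulVec e' e' ∈ B := ⟨_, h⟩
      rw [conj_vv, show g.1 *ᵥ e' = e' + b • e by
        rw [hg, tl_coe, SpecialLinearGroup.transvection_coe, Matrix.add_mulVec, Matrix.one_mulVec]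
        funext a
        simp [he, he', Pi.single_apply, Matrix.single_apply, eq_comm]] at hB
      convert B.sub_mem hB hbB using 1
      ext a c
      simp [P, vecMulVec_apply]
      ring
    obtain ⟨z, hzT, hz1, hzS, hzc⟩ := exists_central_mem hT hne
    rw [← hS] at hzS
    obtain ⟨A, hA, rfl⟩ := hzS
    have hcom : ∀ u ∈ unitri m F, Commute (QuotientGroup.mk A : PS m F) (QuotientGroup.mk u) := by
      intro u hu
      have h1 : ψ (A * u) = ψ (u * A) := by
        rw [map_mul, map_mul]
        exact (hzc _ (hS ▸ Subgroup.mem_map_of_mem ψ hu)).symm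
      rw [Commute, SemiconjBy, exact_conj ψ hψ (by omega) p hu hu h1 |> congrArg QuotientGroup.mk |>
        (QuotientGroup.mk_mul _ A u).symm.trans, QuotientGroup.mk_mul]
    obtain ⟨s, a, b, hs, h2b, hform⟩ := centralizer_unitri hm (QuotientGroup.mk A : PS m F)
      (fun v hv => hcom _ (transv_mem_unitri v hv 1)) (fun i j h => hcom _ (levi_mem_unitri h))
    have hM : (a • vecMulVec e e + b • P e e').IsSymm :=
      ((vv_symm e).smul a).add ((P_symm e e').smul b)
    have hss : s = sieg _ hM := by
      refine ext_smul fun x => ?_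
      rw [hform, sieg_smul]
      funext z
      rcases z with r | r
      · simp [P, he, he', ← hi0, ← hi1, Matrix.add_mulVec, Matrix.smul_mulVec,
          Matrix.vecMulVec_mulVec, Pi.single_apply]
        split_ifs <;> ring
      · simp
    have hab : a • vecMulVec e e + b • P e e' ∈ B := by
      refine ⟨hM, ?_⟩
      have hz := QuotientGroup.eq.1 hs
      have := (hψ _).2 hz
      rw [map_mul, map_inv, inv_mul_eq_one] at this
      rw [← hss, ← this]
      exact hzT
    have hne0 : a ≠ 0 ∨ b ≠ 0 := by
      by_contra h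
      push Not at h
      refine hz1 ?_
      rw [show ψ A = 1 ↔ A ∈ Subgroup.center (Sp m F) from hψ A, ← QuotientGroup.eq_one_iff, hs]
      have : s = 1 := ext_smul fun x => by rw [hform, h.1, h.2]; simp
      rw [this, QuotientGroup.mk_one]
    by_cases hb : b = 0
    · refine ⟨a, hne0.resolve_right (fun h => h hb), ?_⟩
      simpa [hb] using hab
    have h2 : (2 : F) = 0 := (mul_eq_zero.1 h2b).resolve_right hb
    by_cases ha : a = 0
    · exact pure b hb (by simpa [ha] using hab)
    by_cases hl : ∃ l : Fˣ, (l : F) ^ 2 ≠ 1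
    · obtain ⟨l, hl⟩ := hl
      refine ⟨((l : F) ^ 2 - 1) * a, mul_ne_zero (sub_ne_zero.2 hl) ha, ?_⟩
      let D : Fin m → Fˣ := Function.update (Function.update 1 i0 l) i1 l⁻¹
      have hD0 : D i0 = l := by simp [D, d01]
      have hD1 : D i1 = l⁻¹ := by simp [D]
      have h := B.sub_mem (hBconj (dgHom D) _ hab) hab
      rw [mul_add, add_mul, mul_smul_comm, smul_mul_assoc, mul_smul_comm, smul_mul_assoc, conj_vv,
        conj_P, he, he', hdg, hdg, hD0, hD1, ← he, ← he'] at h
      convert h using 1
      ext r c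
      simp [P, vecMulVec_apply, Units.val_inv_eq_inv_val]
      field_simp
    · push Not at hl
      -- two elements
      have hF : ∀ c : F, c ≠ 0 → c = 1 := by
        intro c hc
        have := hl (Units.mk0 c hc)
        simp at this
        rcases this with h | h
        · exact h
        · rw [h]; linear_combination -h2
      have hm3 : 3 ≤ m := by
        by_contra hm3
        have h3 := hex (by omega)
        obtain ⟨c, hc⟩ := Finset.exists_mem_notMem_of_card_lt_card
          (s := ({0, 1} : Finset F)) (t := Finset.univ) (by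
            rw [Finset.card_univ]; exact lt_of_le_of_lt Finset.card_le_two h3)
        simp at hc
        exact hc.2 (hF c hc.1)
      obtain rfl := hF a ha
      obtain rfl := hF b hb
      refine pure 1 one_ne_zero ?_
      set i2 : Fin m := ⟨2, by omega⟩ with hi2
      have d02 : i0 ≠ i2 := Fin.ne_of_val_ne (by simp [hi0, hi2])
      have d12 : i1 ≠ i2 := Fin.ne_of_val_ne (by simp [hi1, hi2])
      set e'' : Fin m → F := Pi.single i2 1 with he''
      let σ : Mm := (Equiv.swap i1 i2).toPEquiv.toMatrix
      have hσ : ∀ v : Fin m → F, σ *ᵥ v = v ∘ Equiv.swap i1 i2 := fun v => by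
        rw [show σ *ᵥ v = _ from PEquiv.toMatrix_toPEquiv_mulVec _ _]
      have hσ0 : σ *ᵥ e = e := by
        rw [hσ]; funext r
        simp only [Function.comp_apply, he, Pi.single_apply]
        refine if_congr ?_ rfl rfl
        rw [Equiv.swap_apply_eq_iff, Equiv.swap_apply_of_ne_of_ne d01 d02]
      have hσ1 : σ *ᵥ e' = e'' := by
        rw [hσ]; funext r
        simp only [Function.comp_apply, he', he'', Pi.single_apply]
        refine if_congr ?_ rfl rfl
        rw [Equiv.swap_apply_eq_iff, Equiv.swap_apply_left]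
      have hσd : σ.det ≠ 0 := by
        rw [show σ.det = (Equiv.Perm.sign (Equiv.swap i1 i2) : ℤ) from Matrix.det_permutation _]
        simp [d12]
      have h := B.add_mem hab (hBconj (Matrix.GeneralLinearGroup.mkOfDetNeZero σ hσd) _ hab)
      rw [show (Matrix.GeneralLinearGroup.mkOfDetNeZero σ hσd : GL (Fin m) F).1 = σ from rfl,
        mul_add, add_mul, mul_smul_comm, smul_mul_assoc, mul_smul_comm, smul_mul_assoc, conj_vv,
        conj_P, hσ0, hσ1] at h
      have h' := hBconj (SpecialLinearGroup.toGL (SpecialLinearGroup.transvection d12.symm (1 : F))) _ h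
      rw [tl_coe] at h'
      set g : Mm := (SpecialLinearGroup.transvection d12.symm (1 : F)).1 with hg
      have hge : ∀ i : Fin m, g *ᵥ (Pi.single i 1 : Fin m → F) =
          Pi.single i 1 + if i = i1 then Pi.single i2 1 else 0 := by
        intro i
        rw [hg, SpecialLinearGroup.transvection_coe, Matrix.add_mulVec, Matrix.one_mulVec]
        funext r
        by_cases hi : i = i1
        · subst hi; simp [Pi.single_apply, Matrix.single_apply, eq_comm]
        · simp [hi, Matrix.single_apply, Ne.symm hi]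
      simp only [mul_add, add_mul, mul_smul_comm, smul_mul_assoc, conj_vv, conj_P] at h'
      rw [he, he', he'', hge, hge, hge, if_neg d01, if_pos rfl, if_neg d12.symm, add_zero, add_zero,
        ← he, ← he', ← he''] at h'
      convert h' using 1
      ext r c
      simp [P, vecMulVec_apply]
      linear_combination -(e r * e c + e r * e'' c + e'' r * e c) * h2
  -- all rank one elements
  have hscal : ∀ c : F, c • vecMulVec e e ∈ B := by
    have hsq : ∀ x : F, (x ^ 2 * γ) • vecMulVec e e ∈ B := fun x => by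
      by_cases hx : x = 0
      · simp [hx]
      · exact hscale (Units.mk0 x hx) γ hγ
    intro c
    by_cases h2 : (2 : F) = 0
    · have : CharP F 2 := CharTwo.of_one_ne_zero_of_two_eq_zero one_ne_zero h2
      obtain ⟨x, hx⟩ := surjective_frobenius F 2 (c / γ)
      rw [frobenius_def] at hx
      have := hsq x
      rwa [hx, div_mul_cancel₀ _ hγ0] at this
    · have := B.sub_mem (hsq ((c / γ + 1) / 2)) (hsq ((c / γ - 1) / 2))
      convert this using 1
      rw [← sub_smul]
      congr 1
      field_simp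
      ring
  have hall : ∀ (M : Mm), M.IsSymm → M ∈ B := by
    intro M hM
    refine symm_decomp M hM B fun c v => ?_
    by_cases hv : v = 0
    · subst hv; simp
    obtain ⟨g, hg⟩ := exists_gl_map hv i0
    have := hBconj g _ (hscal c)
    rwa [mul_smul_comm, smul_mul_assoc, conj_vv, he, hg] at this
  refine le_antisymm hT.1 ?_
  rw [← hS, Subgroup.map_le_iff_le_comap]
  intro u hu
  obtain ⟨g, M, hM, hg, rfl⟩ := unitri_decomp hu
  refine mul_mem ?_ (Subgroup.mem_comap.2 (hBT hM (hall M hM)))
  refine PSLUnipotent.U_le ((T.comap ψ).comap (lev.comp SpecialLinearGroup.toGL)) ?_ hg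
  intro i j hij c
  exact hlevT i j hij c (hall _ ((P_symm _ _).smul c))

omit [Fintype F] hψ in
/-- Images of `SL` normalizing `R` are products of `p`-elements normalizing `R`. -/
theorem range_le_closure {n : ℕ} [Nontrivial (Fin n)] (φ : SpecialLinearGroup (Fin n) F →* G)
    (R : Subgroup G) (h : ∀ x, φ x ∈ Subgroup.normalizer (R : Set G)) (x : SpecialLinearGroup (Fin n) F) :
    φ x ∈ Subgroup.closure {a : G | a ∈ Subgroup.normalizer (R : Set G) ∧ ∃ k : ℕ, orderOf a = p ^ k} := by
  have htop : (Subgroup.closure {a : G | a ∈ Subgroup.normalizer (R : Set G) ∧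
      ∃ k : ℕ, orderOf a = p ^ k}).comap φ = ⊤ := by
    refine PSLSimple.eq_top_of_transvection_mem _ fun i j hij c => ?_
    refine Subgroup.subset_closure ⟨h _, ?_⟩
    have hp : (φ (SpecialLinearGroup.transvection hij c)) ^ p ^ 1 = 1 := by
      rw [pow_one, ← map_pow]
      convert map_one φ
      refine Subtype.ext ?_
      have : ∀ N : ℕ, ((SpecialLinearGroup.transvection hij c) ^ N).1 =
          1 + Matrix.single i j ((N : F) * c) := by
        intro N
        induction N with
        | zero => simp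
        | succ N ih =>
          rw [pow_succ, PSLUnipotent.cmul, ih]
          simp [SpecialLinearGroup.transvection_coe, add_mul, mul_add, hij.symm, add_assoc,
            ← Matrix.single_add]
      simp [this, CharP.cast_eq_zero]
    obtain ⟨k, -, hk⟩ := (Nat.dvd_prime_pow (Fact.out : p.Prime)).1 (orderOf_dvd_of_pow_eq_one hp)
    exact ⟨k, hk⟩
  exact (htop ▸ Subgroup.mem_top x :)

/-- The simplicity. -/
theorem core (hm : 2 ≤ m) (hex : m = 2 → 3 ≤ Fintype.card F) (hsur : Function.Surjective ψ)
    (S : Sylow p G) (hS : (unitri m F).map ψ = (S : Subgroup G)) :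
    (groupFusionSystem (S : Subgroup G)).IsSimple p := by
  classical
  have : NeZero m := ⟨by omega⟩
  apply isSimple_of_closed_gen
  · intro h
    set z := transv (e0 m F) (1 : F) with hz
    have hzU : z ∈ unitri m F := transv_mem_unitri _ (fun i => by simp [e0]) 1
    have hm' : ψ z ∈ (S : Subgroup G) := hS ▸ Subgroup.mem_map_of_mem ψ hzU
    rw [h, Subgroup.mem_bot, ← map_one ψ] at hm'
    have := congrArg (fun s : Sp m F => (s • (Pi.single (.inr 0) 1 : Vc m F)) (.inl 0))
      (inj_unitri ψ hψ hzU (one_mem _) hm')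
    simp [hz, transv_smul, e0, form_single_inl_right] at this
  · exact closed_eq ψ hψ hm hex hsur S hS
  · intro g hg
    obtain ⟨A, rfl⟩ := hsur g
    rw [← hS] at hg
    obtain ⟨u, D, hu, rfl, -⟩ := upper_decomp (upper_of_normalizer ψ hψ (by omega) p hg)
    rw [map_mul]
    refine mul_mem (Subgroup.subset_closure (Or.inl (hS ▸ Subgroup.mem_map_of_mem ψ hu))) ?_
    set i1 : Fin m := ⟨1, by omega⟩ with hi1
    set δ : Fˣ := ∏ i, D i with hδ
    set E : Fin m → Fˣ := Function.update 1 i1 δ with hE
    have hNS : ∀ C : Fin m → Fˣ, ψ (tor C) ∈ Subgroup.normalizer ((S : Subgroup G) : Set G) := by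
      intro C
      refine mem_normalizer_of_conj fun y hy => ?_
      rw [← hS] at hy ⊢
      obtain ⟨v, hv, rfl⟩ := hy
      rw [← map_inv, ← map_mul, ← map_mul]
      exact Subgroup.mem_map_of_mem ψ (tor_mem_normalizer C hv)
    rw [show tor D = tor (D * E⁻¹) * tor E by rw [← map_mul, inv_mul_cancel_right], map_mul]
    have : Nontrivial (Fin m) := Fin.nontrivial_iff_two_le.2 hm
    refine mul_mem ?_ ?_
    · -- the Siegel parabolic
      let R0 : Subgroup (Sp m F) :=
        { carrier := {s | ∃ (M : Mm) (h : M.IsSymm), s = sieg M h}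
          one_mem' := ⟨0, Matrix.isSymm_zero, sieg_zero.symm⟩
          mul_mem' := by
            rintro _ _ ⟨M, hM, rfl⟩ ⟨N, hN, rfl⟩
            exact ⟨M + N, hM.add hN, sieg_mul hM hN⟩
          inv_mem' := by
            rintro _ ⟨M, hM, rfl⟩
            exact ⟨-M, hM.neg, sieg_inv hM⟩ }
      have hlevN : ∀ g : GL (Fin m) F, ψ (lev g) ∈ Subgroup.normalizer ((R0.map ψ : Subgroup G) : Set G) := by
        intro g
        refine mem_normalizer_of_conj ?_
        rintro _ ⟨_, ⟨M, hM, rfl⟩, rfl⟩
        rw [← map_inv, ← map_mul, ← map_mul, lev_conj]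
        exact Subgroup.mem_map_of_mem ψ ⟨_, _, rfl⟩
      refine Subgroup.subset_closure (Or.inr (Or.inr ⟨hNS _, R0.map ψ, ?_, ?_, ?_, hlevN _, ?_⟩))
      · rw [← hS]
        refine Subgroup.map_mono ?_
        rintro _ ⟨M, hM, rfl⟩
        exact sieg_mem_unitri hM
      · rw [← hS]
        rintro _ ⟨v, hv, rfl⟩
        obtain ⟨g, M, hM, -, rfl⟩ := unitri_decomp hv
        rw [map_mul]
        exact mul_mem (hlevN _) (Subgroup.le_normalizer (Subgroup.mem_map_of_mem ψ ⟨M, hM, rfl⟩))
      · intro x hx
        obtain ⟨g, rfl⟩ := hsur x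
        have hc : ∀ (M : Mm) (hM : M.IsSymm), sieg M hM * g = g * sieg M hM := fun M hM => by
          refine (exact_conj ψ hψ (by omega) p (sieg_mem_unitri hM) (sieg_mem_unitri hM) ?_).symm
          rw [map_mul, map_mul]
          exact (Subgroup.mem_centralizer_iff.1 hx _ (Subgroup.mem_map_of_mem ψ ⟨M, hM, rfl⟩)).symm
        have hblk : ∀ (M : Mm), M.IsSymm →
            (g : Mat).toBlocks₁₁ * M = M * (g : Mat).toBlocks₂₂ ∧ (g : Mat).toBlocks₂₁ * M = 0 := by
          intro M hM
          have h := congrArg (fun s : Sp m F => (s : Mat)) (hc M hM)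
          simp only [Submonoid.coe_mul, coe_sieg] at h
          rw [← Matrix.fromBlocks_toBlocks (g : Mat), Matrix.fromBlocks_multiply,
            Matrix.fromBlocks_multiply, Matrix.fromBlocks_inj] at h
          obtain ⟨-, h12, -, h22⟩ := h
          simp at h12 h22
          exact ⟨by linear_combination (norm := abel) -h12, h22⟩
        have hC : (g : Mat).toBlocks₂₁ = 0 := by simpa using (hblk 1 Matrix.isSymm_one).2
        have hAD : (g : Mat).toBlocks₂₂ = (g : Mat).toBlocks₁₁ := by
          simpa using (hblk 1 Matrix.isSymm_one).1.symm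
        set X := (g : Mat).toBlocks₁₁ with hX
        have hXd : ∀ r i : Fin m, r ≠ i → X r i = 0 := by
          intro r i hri
          have h := congrFun (congrFun (hblk _ (vv_symm (Pi.single i (1 : F)))).1 r) i
          rw [hAD, Matrix.mul_vecMulVec, Matrix.vecMulVec_mul] at h
          simpa [vecMulVec_apply, hri] using h
        set lam := X 0 0 with hlam
        have hXs : ∀ i, X i i = lam := by
          intro i
          by_cases hi : i = 0
          · rw [hi]
          have h := congrFun (congrFun (hblk _ (P_symm (Pi.single i (1 : F)) (Pi.single 0 1))).1 i) 0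
          rw [hAD] at h
          simpa [P, mul_add, add_mul, Matrix.mul_vecMulVec, Matrix.vecMulVec_mul, vecMulVec_apply,
            hi, Ne.symm hi, hlam] using h
        have hll : lam * lam = 1 := by
          have h := form_map g (Pi.single (.inr 0) 1 : Vc m F) (Pi.single (.inl 0) 1)
          rw [form_single_inl_right, Pi.single_eq_same, form_eq_sum] at h
          simp only [← entry] at h
          rw [Finset.sum_eq_single 0] at h
          · have e1 : (g : Mat) (.inr 0) (.inl 0) = 0 := congrFun (congrFun hC 0) 0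
            have e2 : (g : Mat) (.inr 0) (.inr 0) = lam := congrFun (congrFun hAD 0) 0
            rw [e1, e2] at h
            simpa [hlam, hX, Matrix.toBlocks₁₁] using h
          · intro k _ hk
            have e1 : (g : Mat) (.inr k) (.inl 0) = 0 := congrFun (congrFun hC k) 0
            have e3 : (g : Mat) (.inl k) (.inl 0) = 0 := hXd k 0 hk
            rw [e1, e3]; ring
          · simp
        obtain ⟨t, ht, -⟩ := exists_scaled g hll
        have hent : ∀ a b, (t : Mat) a b = lam * (g : Mat) a b := fun a b => by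
          rw [entry, entry, ht]; rfl
        have hXe : ∀ r i, X r i = lam * if r = i then 1 else 0 := fun r i => by
          split_ifs with h
          · rw [h, hXs, mul_one]
          · rw [hXd r i h, mul_zero]
        have hb11 : ∀ r i, (t : Mat) (.inl r) (.inl i) = if r = i then 1 else 0 := fun r i => by
          rw [hent, show (g : Mat) (.inl r) (.inl i) = X r i from rfl, hXe, ← mul_assoc, hll, one_mul]
        have htU : t ∈ unitri m F := by
          rw [mem_unitri]
          intro a b hab
          rcases a with r | r <;> rcases b with i | i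
          · simp [hb11]
          · exfalso
            have := r.isLt; have := i.isLt
            simp [rk] at hab; omega
          · rw [hent, show (g : Mat) (.inr r) (.inl i) = 0 from congrFun (congrFun hC r) i]
            simp
          · rw [hent, show (g : Mat) (.inr r) (.inr i) = X r i from congrFun (congrFun hAD r) i, hXe,
              ← mul_assoc, hll, one_mul]
            simp
        obtain ⟨g', M, hM, -, htd⟩ := unitri_decomp htU
        have hg' : g' = 1 := by
          refine Subtype.ext (Matrix.ext fun r i => ?_)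
          have := congrArg (fun s : Sp m F => (s : Mat) (.inl r) (.inl i)) htd
          simp [Submonoid.coe_mul, coe_lev, coe_sieg, Matrix.fromBlocks_multiply, hb11] at this
          rw [← this]; simp [Matrix.one_apply]
        refine ⟨t, ⟨M, hM, ?_⟩, eq_of_scalar ψ hψ ht⟩
        rw [htd, hg', map_one, map_one, one_mul]
      · let D' : SpecialLinearGroup (Fin m) F := ⟨(dgHom (D * E⁻¹)).1, by
          rw [coe_dgHom, Matrix.det_diagonal, ← Units.coe_prod]
          simp [Finset.prod_mul_distrib, hE, Finset.prod_update_of_mem, hδ]⟩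
        have : tor (D * E⁻¹) = lev (SpecialLinearGroup.toGL D') := by
          rw [tor, MonoidHom.comp_apply]
          exact congrArg lev (Units.ext rfl)
        rw [this]
        exact range_le_closure (p := p) (ψ.comp (lev.comp SpecialLinearGroup.toGL)) _
          (fun x => hlevN _) D'
    · -- the point parabolic
      have hf : sympForm m F (Pi.single (.inr i1) 1) (Pi.single (.inl i1) 1) = 1 := by
        simp [form_single_inl_right]
      have hNQ : ∀ (g : Sp m F) (l : F), g • e0 m F = l • e0 m F → l ≠ 0 →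
          ψ g ∈ Subgroup.normalizer (((Q1 m F).map ψ : Subgroup G) : Set G) := by
        intro g l hg hl
        refine mem_normalizer_of_conj ?_
        rintro _ ⟨v, hv, rfl⟩
        rw [← map_inv, ← map_mul, ← map_mul]
        exact Subgroup.mem_map_of_mem ψ (conj_Q1 hg hl hv)
      have h10 : i1 ≠ 0 := Fin.ne_of_val_ne (by simp [hi1])
      have hpl : ∀ x : SpecialLinearGroup (Fin 2) F,
          ψ (SymplecticRootGroups.planeHom hf x) ∈
            Subgroup.normalizer (((Q1 m F).map ψ : Subgroup G) : Set G) := fun x => by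
        refine hNQ _ 1 ?_ one_ne_zero
        rw [SymplecticRootGroups.planeHom_smul hf x (e0 m F), form_single_inl_right, form_swap (e0 m F),
          form_single_inr_right]
        simp [e0, h10]
      have htor : tor E = SymplecticRootGroups.planeHom hf
          (sl2diag δ) := by
        refine ext_smul fun x => ?_
        rw [tor_smul, SymplecticRootGroups.planeHom_smul, form_single_inl_right, form_swap x,
          form_single_inr_right, coe_sl2diag]
        funext z
        rcases z with a | a <;> by_cases ha : a = i1 <;> simp [hE, ha] <;> ring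
      refine Subgroup.subset_closure (Or.inr (Or.inr ⟨hNS _, (Q1 m F).map ψ, ?_, ?_, ?_,
        htor ▸ hpl _, ?_⟩))
      · rw [← hS]; exact Subgroup.map_mono Q1_le_unitri
      · rw [← hS]
        rintro _ ⟨v, hv, rfl⟩
        exact hNQ v 1 (by rw [unitri_fix_e0 hv, one_smul]) one_ne_zero
      · intro x hx
        obtain ⟨g, rfl⟩ := hsur x
        obtain ⟨a, ha, hat⟩ := comm_Q1 (g := g) fun r hr => by
          refine (exact_conj ψ hψ (by omega) p (Q1_le_unitri hr) (Q1_le_unitri hr) ?_).symm
          rw [map_mul, map_mul]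
          exact (Subgroup.mem_centralizer_iff.1 hx _ (Subgroup.mem_map_of_mem ψ hr)).symm
        obtain ⟨t, ht, -⟩ := exists_scaled g ha
        exact ⟨t, hat t ht, eq_of_scalar ψ hψ ht⟩
      · rw [htor]
        exact range_le_closure (p := p) (ψ.comp (SymplecticRootGroups.planeHom hf)) _ hpl _

end Cfsg.Agent.FusionPSpSimple
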