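import Mathlib
import Cfsg.Agent.Lib.FusionSysNormal
import Cfsg.Agent.Lib.TransvectionPair
import Cfsg.Agent.Lib.FusionPearl

/-!
A group of order `p ^ 3`, `p` odd, carrying a pearl has exponent `p`.
-/

set_option autoImplicit false

open scoped commutatorElement

namespace Cfsg.Agent.FusionPearlCube

open Cfsg Cfsg.FusionSystem Cfsg.Agent.FusionSysBasic Cfsg.Agent.FusionSysSaturated
  Cfsg.Agent.FusionSysAlperin Cfsg.Agent.FusionSysNormal

variable {Ω : Type*} [Group Ω] {S : Subgroup Ω} [Finite S] {p : ℕ} [hp : Fact p.Prime]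
  {F : FusionSystem S}

theorem exponent_of_pearl (hS : IsPGroup p S) (hF : F.IsSaturated p) (hp2 : p ≠ 2)
    (hS3 : Nat.card S = p ^ 3) {E : Subgroup Ω} (hE : F.IsEssential p E)
    (hcard : Nat.card E = p ^ 2) (hexp : ∀ x ∈ E, x ^ p = 1) :
    ¬ IsMulCommutative S ∧ ∀ s : S, s ^ p = 1 := by
  have hES : E ≤ S := hE.1.1
  haveI := finite_of_le hES
  haveI := finite_autGroup (F := F) E
  have hlt := essential_lt hS hF hE
  have hC := centralizerIn_le_of_centric hE.1
  have hEc : ∀ a ∈ E, ∀ b ∈ E, a * b = b * a := fun a ha b hb => congrArg Subtype.val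
    (IsPGroup.commutative_of_card_eq_prime_sq hcard (⟨a, ha⟩ : E) ⟨b, hb⟩)
  have hcent : centralizerIn S E = E := le_antisymm hC fun x hx =>
    mem_centralizerIn.mpr ⟨hES hx, fun y hy => by
      rw [cj_apply, hEc x hx y hy, mul_inv_cancel_right]⟩
  have hnc : ¬ IsMulCommutative S := fun h => hlt.not_ge fun s hs => hC
    (mem_centralizerIn.mpr ⟨hs, fun y hy => by
      have := congrArg Subtype.val
        (PGroupsBasic.comm_of_isMulCommutative (H := (⊤ : Subgroup S))
          ⟨⟨fun a b => Subtype.ext (h.is_comm.comm _ _)⟩⟩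
          (Subgroup.mem_top ⟨s, hs⟩) (Subgroup.mem_top ⟨y, hES hy⟩))
      simp only [Subgroup.coe_mul] at this
      rw [cj_apply, this, mul_inv_cancel_right]⟩)
  have hZ : Nat.card (Subgroup.center S) = p := FusionPearl.card_center_of_card_cube hS3 hnc
  have hidx : (Subgroup.center S).index = p ^ 2 := by
    have h := Subgroup.card_mul_index (Subgroup.center S)
    rw [hZ, hS3, show p ^ 3 = p * p ^ 2 by ring] at h
    exact Nat.eq_of_mul_eq_mul_left hp.out.pos h
  have hcomm : commutator S ≤ Subgroup.center S :=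
    PGroupsBasic.commutator_le_of_index_le_sq hS hidx.le
  have hZE : ∀ z : S, z ∈ Subgroup.center S → (z : Ω) ∈ E := fun z hz => hC
    (mem_centralizerIn.mpr ⟨z.2, fun y hy => by
      have := congrArg Subtype.val (Subgroup.mem_center_iff.mp hz ⟨y, hES hy⟩)
      simp only [Subgroup.coe_mul] at this
      rw [cj_apply, ← this, mul_inv_cancel_right]⟩)
  have hEidx : (E.subgroupOf S).index = p := by
    have h := Subgroup.card_mul_index (E.subgroupOf S)
    rw [Nat.card_congr (Subgroup.subgroupOfEquivOfLe hES).toEquiv, hcard, hS3,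
      show p ^ 3 = p ^ 2 * p by ring] at h
    exact Nat.eq_of_mul_eq_mul_left (pow_pos hp.out.pos 2) h
  haveI hEn : (E.subgroupOf S).Normal := PGroupsBasic.normal_of_index_eq hS hEidx
  have hnorm : ∀ g ∈ S, g ∈ S ⊓ Subgroup.normalizer (E : Set Ω) := fun g hg =>
    ⟨hg, mem_normalizer_of_cj_le hES fun x hx =>
      hEn.conj_mem ⟨x, hES hx⟩ hx ⟨g, hg⟩⟩
  refine ⟨hnc, fun s => ?_⟩
  letI : CommGroup E :=
    { (inferInstance : Group E) with mul_comm := fun x y => Subtype.ext (hEc x x.2 y y.2) }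
  obtain ⟨u, huS, huE⟩ := SetLike.exists_of_lt hlt
  let τ : MulAut E := nHom S E ⟨u, hnorm u huS⟩
  have hτR : τ ∈ autInducedBy S E := by rw [autInducedBy_eq_range]; exact ⟨_, rfl⟩
  have hRc : Nat.card (autInducedBy S E) = p := by
    have h1 := card_normalizerIn S E
    have hN : normalizerIn S E = S := le_antisymm inf_le_left fun g hg => hnorm g hg
    rw [hN, hcent, hS3, hcard, show p ^ 3 = p * p ^ 2 by ring] at h1
    exact (Nat.eq_of_mul_eq_mul_right (pow_pos hp.out.pos 2) h1).symm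
  have hτ1 : τ ≠ 1 := fun e => huE (hC (mem_centralizerIn.mpr ⟨huS, fun y hy =>
    congrArg (fun f : MulAut E => ((f ⟨y, hy⟩ : E) : Ω)) e⟩))
  have hRz : autInducedBy S E = Subgroup.zpowers τ := by
    refine (Subgroup.eq_of_le_of_card_ge (Subgroup.zpowers_le.mpr hτR) ?_).symm
    rw [hRc, Nat.card_zpowers]
    have h2 : orderOf τ ∣ p := by
      rw [← hRc, ← Subgroup.orderOf_mk τ hτR]
      exact orderOf_dvd_natCard _
    rcases (Nat.dvd_prime hp.out).mp h2 with h3 | h3
    · exact absurd (orderOf_eq_one_iff.mp h3) hτ1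
    · exact h3.ge
  obtain ⟨T, hT⟩ := (fullyAutomized_of_fullyNormalized hS hF hE.2.1).2
  have hmax : ∀ γ ∈ F.autGroup E, Commute γ τ → γ ^ p = 1 → γ ∈ Subgroup.zpowers τ := by
    intro γ hγ hγτ hγp
    let g : F.autGroup E := ⟨γ, hγ⟩
    have hg : IsPGroup p (Subgroup.zpowers g) := by
      rintro ⟨x, hx⟩
      obtain ⟨i, rfl⟩ := Subgroup.mem_zpowers_iff.mp hx
      refine ⟨1, Subtype.ext (Subtype.ext ?_)⟩
      show (γ ^ i) ^ p ^ 1 = 1
      rw [pow_one, ← zpow_natCast, ← zpow_mul, mul_comm, zpow_mul, zpow_natCast, hγp, one_zpow]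
    have hTn : (T : Subgroup (F.autGroup E)) ≤ Subgroup.normalizer (Subgroup.zpowers g : Set _) := by
      refine le_trans (fun x hx => ?_) (Subgroup.centralizer_le_normalizer _)
      rw [hT, Subgroup.mem_subgroupOf, hRz] at hx
      obtain ⟨i, hi⟩ := hx
      rw [Subgroup.mem_centralizer_iff]
      rintro y ⟨j, rfl⟩
      refine Subtype.ext ?_
      show γ ^ j * (x : MulAut E) = (x : MulAut E) * γ ^ j
      rw [show (x : MulAut E) = τ ^ i from hi.symm]
      exact ((hγτ.zpow_left j).zpow_right i).eq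
    have hsup := T.3 (IsPGroup.to_sup_of_normal_right' T.2 hg hTn) le_sup_left
    have : g ∈ (T : Subgroup (F.autGroup E)) := by
      rw [← hsup]; exact Subgroup.mem_sup_right (Subgroup.mem_zpowers g)
    rw [hT, Subgroup.mem_subgroupOf, hRz] at this
    exact this
  haveI : Fact p.Prime := hp
  obtain ⟨z, hzZ, hzo⟩ := PGroupsBasic.exists_orderOf_eq_of_ne_bot (p := p)
    (hS.to_subgroup (Subgroup.center S)) (H := Subgroup.center S) (fun h => by
      rw [h, Subgroup.card_bot] at hZ; exact hp.out.one_lt.ne hZ)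
  have hzgen : ∀ y ∈ Subgroup.center S, y ∈ Subgroup.zpowers z := by
    intro y hy
    rw [Subgroup.eq_of_le_of_card_ge (Subgroup.zpowers_le.mpr hzZ)
      (by rw [hZ, Nat.card_zpowers, hzo])]
    exact hy
  let cE : E := ⟨(z : Ω), hZE z hzZ⟩
  have hcp : cE ^ p = 1 := Subtype.ext (hexp _ cE.2)
  have tv : TransvectionPair.Tv p (F.autGroup E) τ cE :=
    { mem := autInducedBy_le hES hτR
      ne := fun e => by
        have hz1 : z = 1 := Subtype.ext (congrArg Subtype.val e : (z : Ω) = 1)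
        rw [hz1, orderOf_one] at hzo
        exact hp.out.one_lt.ne hzo
      pow_eq := hcp
      fix := Subtype.ext (by
        have := congrArg Subtype.val (Subgroup.mem_center_iff.mp hzZ ⟨u, huS⟩)
        simp only [Subgroup.coe_mul] at this
        show cj u (z : Ω) = z
        rw [cj_apply, this, mul_inv_cancel_right])
      move := fun x => by
        obtain ⟨i, hi⟩ := Subgroup.mem_zpowers_iff.mp (hzgen _ (hcomm
          (Subgroup.commutator_mem_commutator (Subgroup.mem_top (⟨(x : Ω), hES x.2⟩ : S)⁻¹)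
            (Subgroup.mem_top (⟨u, huS⟩ : S)))))
        refine ⟨i, Subtype.ext ?_⟩
        have h := congrArg Subtype.val hi
        simp only [Subgroup.coe_zpow] at h
        show ((cE ^ i : E) : Ω) = (x : Ω)⁻¹ * cj u (x : Ω)
        rw [Subgroup.coe_zpow, h, cj_apply]
        simp [commutatorElement_def, mul_assoc]
      nontriv := hτ1
      max := hmax }
  obtain ⟨-, hrec⟩ := receptive_iff.mp (receptive_of_fullyNormalized hS hF hE.2.1)
  have hext : ∀ β ∈ F.autGroup E, TransvectionPair.Nrm τ β →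
      ∃ ψ ∈ F.autGroup S, ∀ x ∈ E, afun ψ x = afun β x := by
    intro β hβ hn
    obtain ⟨f, hf, hag⟩ := hrec E (afun β) S ((mem_autGroup hES).mp hβ) (im_afun β) le_rfl
      (fun g hg => (hnorm g hg).2) (fun g hg => by
        have hgR : nHom S E ⟨g, hnorm g hg⟩ ∈ autInducedBy S E := by
          rw [autInducedBy_eq_range]; exact ⟨_, rfl⟩
        rw [hRz] at hgR
        obtain ⟨i, hi⟩ := hgR
        have hm : β * nHom S E ⟨g, hnorm g hg⟩ * β⁻¹ ∈ autInducedBy S E := by
          rw [hRz, ← hi, ← conj_zpow]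
          exact zpow_mem hn i
        obtain ⟨k, hk, -, hke⟩ := mem_autInducedBy.mp hm
        refine ⟨k, hk, fun x hx => ?_⟩
        rw [← hke _ (afun_mem β hx), afun_mul _ _ (afun_mem β hx), afun_inv_apply β hx,
          afun_mul _ _ hx, afun_nHom _ hx])
    rw [sup_eq_right.mpr hES] at hf
    obtain ⟨ψ, hψ, he⟩ := hf.exists_aut (hf.im_self fun x hx => hf.apply_mem hx)
    exact ⟨ψ, hψ, fun x hx => (he x (hES hx)).trans (hag x hx)⟩
  obtain ⟨α, hα, hαn⟩ : ∃ α ∈ F.autGroup E, ¬ TransvectionPair.Nrm τ α := by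
    by_contra hh
    push Not at hh
    refine essential_exists_not_extends hS hF hE fun α hα => Subgroup.subset_closure ?_
    obtain ⟨ψ, hψ, he⟩ := hext α hα (hh α hα)
    exact ⟨S, hlt, afun ψ, (mem_autGroup le_rfl).mp hψ, he⟩
  obtain ⟨w, d, o⟩ := TransvectionPair.exists_opp tv hα hαn
  -- the common fixed points of `τ` and `w` are trivial
  have hfix : ∀ v : E, τ v = v → w v = v → v = 1 := by
    intro v hτv hwv
    have hvZ : (⟨(v : Ω), hES v.2⟩ : S) ∈ Subgroup.center S := by
      have hle : (E.subgroupOf S) ⊔ Subgroup.zpowers (⟨u, huS⟩ : S) = ⊤ :=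
        (PGroupsBasic.isCoatom_of_index_eq hEidx).2 _ (lt_of_le_of_ne le_sup_left fun e =>
          huE (show (⟨u, huS⟩ : S) ∈ E.subgroupOf S by
            rw [e]; exact Subgroup.mem_sup_right (Subgroup.mem_zpowers _)))
      rw [Subgroup.mem_center_iff]
      intro g
      have hg : g ∈ Subgroup.centralizer ({⟨(v : Ω), hES v.2⟩} : Set S) := by
        refine (sup_le (fun a ha => ?_) (Subgroup.zpowers_le.mpr ?_) :
          (E.subgroupOf S) ⊔ Subgroup.zpowers (⟨u, huS⟩ : S) ≤ _) (hle ▸ Subgroup.mem_top g)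
        · exact Subgroup.mem_centralizer_singleton_iff.mpr (Subtype.ext (hEc _ ha _ v.2))
        · refine Subgroup.mem_centralizer_singleton_iff.mpr (Subtype.ext ?_)
          exact mul_inv_eq_iff_eq_mul.mp (congrArg Subtype.val hτv)
      exact Subgroup.mem_centralizer_singleton_iff.mp hg
    obtain ⟨i, hi⟩ := Subgroup.mem_zpowers_iff.mp (hzgen _ hvZ)
    have hv : v = cE ^ i := Subtype.ext (by
      have h := congrArg Subtype.val hi
      simp only [Subgroup.coe_zpow] at h
      rw [Subgroup.coe_zpow]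
      exact h.symm)
    rw [hv] at hwv ⊢
    exact o.fixed i hwv
  have hneg : ∀ x : E, (w * w) x = x⁻¹ := by
    intro x
    obtain ⟨i, j, v, rfl, hτv, hwv⟩ := o.decomp x
    rw [hfix v hτv hwv, mul_one, MulAut.mul_apply, map_mul w, map_zpow, map_zpow, o.apply_c,
      o.apply_d, map_mul, map_zpow, map_zpow, o.apply_d, map_inv, o.apply_c, inv_zpow, inv_zpow,
      mul_inv]
  have hww : TransvectionPair.Nrm τ (w * w) :=
    TransvectionPair.nrm_of_fix tv (mul_mem o.mem o.mem) (by rw [hneg, map_inv, tv.fix])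
  obtain ⟨ψ, -, hψ⟩ := hext _ (mul_mem o.mem o.mem) hww
  have hinv : ∀ y : S, (y : Ω) ∈ E → ψ y = y⁻¹ := fun y hy => by
    refine Subtype.ext ?_
    have h := hψ y hy
    rw [afun_apply ψ y.2, afun_apply _ hy, hneg] at h
    exact h
  let e : S := s⁻¹ * ψ s
  have he : (e : Ω) ∈ E := by
    refine hC (mem_centralizerIn.mpr ⟨e.2, fun y hy => ?_⟩)
    let y' : S := ⟨y, hES hy⟩
    have h1 : ψ (s * y' * s⁻¹) = (s * y' * s⁻¹)⁻¹ :=
      hinv _ (hEn.conj_mem y' hy s)
    rw [map_mul, map_mul, map_inv, hinv y' hy] at h1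
    have h2 : e * y' * e⁻¹ = y' := by
      have h3 := congrArg (fun t => (s⁻¹ * t * s)⁻¹) h1
      simp only [e]
      group at h3 ⊢
      exact h3
    exact congrArg Subtype.val h2
  have hse : ψ s = s * e := (mul_inv_cancel_left _ _).symm
  have hpowE : (((s ^ p : S) : S) : Ω) ∈ E := by
    have h := (E.subgroupOf S).pow_index_mem s
    rwa [hEidx] at h
  have hc : ⁅e, s⁆ ∈ Subgroup.center S :=
    hcomm (Subgroup.commutator_mem_commutator (Subgroup.mem_top e) (Subgroup.mem_top s))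
  have h1 : ψ (s ^ p) = s ^ p := by
    rw [map_pow, hse, PGroupsBasic.mul_pow_of_central hc]
    obtain ⟨m, hm⟩ := hp.out.dvd_choose_self two_ne_zero
      (lt_of_le_of_ne hp.out.two_le (Ne.symm hp2))
    rw [show e ^ p = 1 from Subtype.ext (hexp _ he), mul_one, hm, pow_mul,
      PGroupsBasic.pow_eq_one_of_card hZ hc, one_pow, mul_one]
  rw [hinv _ hpowE] at h1
  have h2 : (s ^ p) ^ 2 = 1 := by
    rw [sq, ← inv_eq_iff_mul_eq_one]; exact h1
  obtain ⟨k, hk⟩ := IsPGroup.iff_orderOf.mp hS (s ^ p)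
  have h3 : orderOf (s ^ p) ∣ 2 := orderOf_dvd_of_pow_eq_one h2
  rw [hk] at h3
  have hk0 : k = 0 := by
    by_contra hk0
    exact hp2 (((Nat.prime_dvd_prime_iff_eq hp.out Nat.prime_two).mp
      ((dvd_pow_self p hk0).trans h3)))
  rw [hk0, pow_zero, orderOf_eq_one_iff] at hk
  exact hk

end Cfsg.Agent.FusionPearlCube
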