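import Cfsg.Agent.Lib.FusionProductR5Key
import Cfsg.Agent.Lib.FusionSysAlperin

/-!
The system `E S` generated by the conjugations by `S` and the lifts of order prime to `p` of `E`
(`prodSys`), and the decomposition of every map of `F` on `P` as a map of `F` defined on `P T`
after a local map of `E S` (`frattini`).
-/

set_option autoImplicit false

namespace Cfsg.Agent.FusionProductR5

open Cfsg Cfsg.FusionSystem Cfsg.Agent.FusionSysBasic Cfsg.Agent.FusionSysSaturated
open Cfsg.Agent.FusionSysNormal Cfsg.Agent.FusionKit88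
open Cfsg.Agent.FusionPResidualNormal5 (le_autInducedBy)

variable {Ω : Type*} [Group Ω] {S T : Subgroup Ω} {F : FusionSystem S} {E : FusionSystem T}
  {p : ℕ}

/-- The generators. -/
def Gam (F : FusionSystem S) (E : FusionSystem T) (p : ℕ) (R : Subgroup Ω) (f : Ω → Ω) : Prop :=
  TC F T (R ⊓ T) ∧ Mor F R f ∧ im R f = R ∧ Small E R f ∧
    ∀ α : MulAut R, (∀ x ∈ R, afun α x = f x) → (orderOf α).Coprime p

/-- The least closed predicate containing the generators. -/
def Phi0 (F : FusionSystem S) (E : FusionSystem T) (p : ℕ) (P : Subgroup Ω) (f : Ω → Ω) : Prop :=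
  ∀ Φ : Subgroup Ω → (Ω → Ω) → Prop, FusionInduct88.Closed F (U := S) Φ →
    (∀ R g, Gam F E p R g → Φ R g) → Φ P f

theorem closed_phi0 : FusionInduct88.Closed F (U := S) (Phi0 F E p) where
  congr := fun h he Φ hc hg => hc.congr (h Φ hc hg) he
  conj := fun hP hg _ hc _ => hc.conj hP hg
  comp := fun hf hg hP hQ hfQ h1 h2 Φ hc hg' =>
    hc.comp hf hg hP hQ hfQ (h1 Φ hc hg') (h2 Φ hc hg')
  inv := fun hf hg hP hgf h Φ hc hg' => hc.inv hf hg hP hgf (h Φ hc hg')

/-- The product of `E` and `S`. -/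
noncomputable def prodSys (F : FusionSystem S) (E : FusionSystem T) (p : ℕ) : FusionSystem S :=
  FusionInduct88.subSystem le_rfl (closed_phi0 (F := F) (E := E) (p := p))

/-- Composites of conjugations by `T` and restrictions of generators living inside `P T`. -/
inductive Loc (F : FusionSystem S) (E : FusionSystem T) (p : ℕ) :
    Subgroup Ω → (Ω → Ω) → Prop
  | conj {P : Subgroup Ω} {t : Ω} : P ≤ S → t ∈ T → Loc F E p P (cj t)
  | gen {P R : Subgroup Ω} {f : Ω → Ω} : Gam F E p R f → P ≤ R → R ≤ P ⊔ T → Loc F E p P f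
  | comp {P : Subgroup Ω} {f g : Ω → Ω} : Loc F E p P f → Loc F E p (im P f) g →
      Loc F E p P (g ∘ f)
  | congr {P : Subgroup Ω} {f g : Ω → Ω} : Loc F E p P f → (∀ x ∈ P, f x = g x) → Loc F E p P g

/-- `f` is a map of `F` on `P T` after a local map. -/
def Dec (F : FusionSystem S) (E : FusionSystem T) (p : ℕ) (P : Subgroup Ω) (f : Ω → Ω) : Prop :=
  ∃ g, Loc F E p P g ∧ ∃ β, Mor F (P ⊔ T) β ∧ ∀ x ∈ P, f x = β (g x)

/-- A map of the product is, on the part in `T`, a map of `E` before a conjugation by `S`, and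
modulo `T` that conjugation. -/
def Res (E : FusionSystem T) (s : Ω) (P : Subgroup Ω) (f : Ω → Ω) : Prop :=
  (∀ x ∈ P, (cj s x)⁻¹ * f x ∈ T) ∧ Mor E (P ⊓ T) (cj s⁻¹ ∘ f)

theorem mem_sup_mod {P : Subgroup Ω} {f : Ω → Ω} (hs : ∀ x ∈ P, x⁻¹ * f x ∈ T) :
    im P f ⊔ T = P ⊔ T := by
  refine le_antisymm (sup_le (im_le_iff.2 fun x hx => ?_) le_sup_right)
    (sup_le (fun x hx => ?_) le_sup_right)
  · have := mul_mem (Subgroup.mem_sup_left (T := T) hx) (Subgroup.mem_sup_right (hs x hx))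
    rwa [mul_inv_cancel_left] at this
  · have := mul_mem (Subgroup.mem_sup_left (T := T) (apply_mem_im (f := f) hx))
      (Subgroup.mem_sup_right (T.inv_mem (hs x hx)))
    simpa using this

namespace Setup

variable (h : Setup F E p)
include h

local notation "G" => prodSys F E p

omit h in
theorem mor_prod {P : Subgroup Ω} {f : Ω → Ω} :
    Mor G P f ↔ Mor F P f ∧ P ≤ S ∧ (∀ x ∈ P, f x ∈ S) ∧ Phi0 F E p P f :=
  FusionInduct88.mor_subSystem

omit h in
theorem prod_sub : (prodSys F E p).IsSubsystemOf F := fun _ _ hφ => hφ.1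

omit h in
theorem prod_induction {Φ : Subgroup Ω → (Ω → Ω) → Prop}
    (hc : FusionInduct88.Closed F (U := S) Φ) (hg : ∀ R g, Gam F E p R g → Φ R g)
    {P : Subgroup Ω} {f : Ω → Ω} (hf : Mor G P f) : Φ P f :=
  (mor_prod.1 hf).2.2.2 Φ hc hg

omit h in
theorem gam_mor {R : Subgroup Ω} {f : Ω → Ω} (hG : Gam F E p R f) : Mor G R f :=
  mor_prod.2 ⟨hG.2.1, hG.2.1.le, fun _ hx => hG.2.1.apply_mem hx, fun _ _ hg => hg R f hG⟩

theorem small_cj {P : Subgroup Ω} (hP : P ≤ S) {t : Ω} (ht : t ∈ T) : Small E P (cj t) :=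
  ⟨fun x hx => by
    have := T.mul_mem (h.cjT (S.inv_mem (hP hx)) ht) (T.inv_mem ht)
    simpa [cj_apply, mul_assoc] using this, mor_cj inf_le_right ht⟩

theorem loc_mor {P : Subgroup Ω} {f : Ω → Ω} (hl : Loc F E p P f) : Mor G P f := by
  induction hl with
  | conj hP ht => exact mor_cj hP (h.T_le ht)
  | gen hG hPR _ => exact (gam_mor hG).restrict_to hPR
  | comp _ _ ih1 ih2 => exact ih1.comp_im ih2
  | congr _ he ih => exact ih.congr he

theorem loc_morF {P : Subgroup Ω} {f : Ω → Ω} (hl : Loc F E p P f) : Mor F P f :=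
  sub_mor prod_sub (h.loc_mor hl)

theorem loc_small {P : Subgroup Ω} {f : Ω → Ω} (hl : Loc F E p P f) : Small E P f := by
  induction hl with
  | conj hP ht => exact h.small_cj hP ht
  | gen hG hPR _ => exact small_restrict hG.2.2.2.1 hPR
  | comp _ _ ih1 ih2 => exact small_comp ih1 ih2
  | congr _ he ih => exact small_congr ih he

theorem loc_id {P : Subgroup Ω} (hP : P ≤ S) : Loc F E p P fun x => x :=
  (Loc.conj hP T.one_mem).congr fun x _ => cj_one x

variable [Finite S]

theorem gam_inf {R W : Subgroup Ω} {f : Ω → Ω} (hG : Gam F E p R f) (hW : T ≤ W) :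
    Gam F E p (R ⊓ W) f := by
  obtain ⟨hc, hf, hR, hs, hco⟩ := hG
  have hf' := hf.restrict_to (inf_le_left : R ⊓ W ≤ R)
  have him : im (R ⊓ W) f = R ⊓ W := hf'.im_self fun x hx => ⟨hR.le (apply_mem_im hx.1), by
    have := W.mul_mem hx.2 (hW (hs.1 x hx.1))
    rwa [mul_inv_cancel_left] at this⟩
  refine ⟨?_, hf', him, small_restrict hs inf_le_left, fun α hα => ?_⟩
  · rwa [inf_assoc, inf_eq_right.2 hW]
  · obtain ⟨a, ha, hae⟩ := hf.exists_aut hR
    exact (hco a hae).coprime_dvd_left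
      (S5120.orderOf_dvd_of_restrict inf_le_left fun x hx => (hα x hx).trans (hae x hx.1).symm)

theorem loc_restrict {P P' : Subgroup Ω} {f : Ω → Ω} (hl : Loc F E p P f) (hP : P' ≤ P) :
    Loc F E p P' f := by
  induction hl generalizing P' with
  | conj hPS ht => exact .conj (hP.trans hPS) ht
  | gen hG hPR _ =>
    exact .gen (h.gam_inf hG (W := P' ⊔ T) le_sup_right)
      (le_inf (hP.trans hPR) le_sup_left) inf_le_right
  | comp _ _ ih1 ih2 => exact .comp (ih1 hP) (ih2 (im_mono hP))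
  | congr _ he ih => exact (ih hP).congr fun x hx => he x (hP hx)

theorem loc_inv {P : Subgroup Ω} {f : Ω → Ω} (hl : Loc F E p P f) :
    ∃ g, Loc F E p (im P f) g ∧ ∀ x ∈ P, g (f x) = x := by
  induction hl with
  | @conj P t hP ht =>
    exact ⟨cj t⁻¹, .conj (mor_cj (F := F) hP (h.T_le ht)).im_le (T.inv_mem ht),
      fun x _ => cj_inv_cj t x⟩
  | @gen P R f hG hPR hRP =>
    obtain ⟨hc, hf, hR, hs, hco⟩ := id hG
    obtain ⟨a, ha, hae⟩ := hf.exists_aut hR
    have haL : a⁻¹ ∈ h.lifts hf.le :=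
      Subgroup.inv_mem (h.lifts hf.le) ⟨ha, small_congr hs fun x hx => (hae x hx).symm⟩
    have hG' : Gam F E p R (afun a⁻¹) := ⟨hc, (mem_autGroup hf.le).1 haL.1, im_afun _, haL.2,
      fun α hα => by rw [afun_ext hα, orderOf_inv]; exact hco a hae⟩
    refine ⟨afun a⁻¹, .gen hG' (im_le_iff.2 fun x hx => hR.le (apply_mem_im (hPR hx))) ?_,
      fun x hx => by rw [← hae x (hPR hx), afun_inv_apply a (hPR hx)]⟩
    rwa [mem_sup_mod fun x hx => hs.1 x (hPR hx)]
  | @comp P f g h1 _ ih1 ih2 =>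
    obtain ⟨i1, hi1, hie1⟩ := ih1
    obtain ⟨i2, hi2, hie2⟩ := ih2
    have hm := h.loc_morF h1
    have e : im (im (im P f) g) i2 = im P f :=
      ((h.loc_morF ‹Loc F E p (im P f) g›).im_comp i2).trans ((im_congr hie2).trans (im_id _))
    rw [hm.im_comp] at hi2
    refine ⟨i1 ∘ i2, hi2.comp ?_, fun x hx => ?_⟩
    · rw [← hm.im_comp, e]
      exact hi1
    · simp only [Function.comp_apply, hie2 _ (apply_mem_im hx), hie1 x hx]
  | @congr P f g _ he ih =>
    obtain ⟨i, hi, hie⟩ := ih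
    exact ⟨i, im_congr he ▸ hi, fun x hx => he x hx ▸ hie x hx⟩

omit [Finite S] in
theorem im_T [Finite S] {W : Subgroup Ω} {β : Ω → Ω} (hβ : Mor F W β) (hTW : T ≤ W) :
    im T β = T :=
  (hβ.restrict_to hTW).im_self fun x hx => closed_apply' h.closedT hβ (hTW hx) hx

/-- Local maps are carried to local maps by the maps of `F` defined on `P T`. -/
theorem loc_transport {P : Subgroup Ω} {f : Ω → Ω} (hl : Loc F E p P f) {W : Subgroup Ω}
    {β : Ω → Ω} (hβ : Mor F W β) (hPW : P ⊔ T ≤ W) :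
    ∃ k, Loc F E p (im P β) k ∧ ∀ x ∈ P, k (β x) = β (f x) := by
  induction hl with
  | @conj P t hP ht =>
    have htW : t ∈ W := hPW (Subgroup.mem_sup_right ht)
    refine ⟨cj (β t), .conj (hβ.restrict_to (le_sup_left.trans hPW)).im_le
      (closed_apply' h.closedT hβ htW ht), fun x hx => ?_⟩
    exact (hβ.map_cj htW (hPW (Subgroup.mem_sup_left hx))).symm
  | @gen P R f hG hPR hRP =>
    obtain ⟨hc, hf, hR, hs, hco⟩ := id hG
    obtain ⟨a, ha, hae⟩ := hf.exists_aut hR
    have hβR := hβ.restrict_to (hRP.trans hPW)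
    set t := hβR.transport (rfl : im R β = im R β) a with ht
    have htL : t ∈ h.lifts hβR.im_le := h.lifts_transport hβR.im_le hβR rfl
      (show a ∈ h.lifts hβR.le from ⟨ha, small_congr hs fun x hx => (hae x hx).symm⟩)
    have hG' : Gam F E p (im R β) (afun t) := by
      refine ⟨?_, (mem_autGroup hβR.im_le).1 htL.1, im_afun _, htL.2, fun α hα => ?_⟩
      · exact h.tc_conj hc (FusionSysBasic.isConj_iff.2
          ⟨β, hβR.restrict_to inf_le_left, h.im_inf hβR⟩)
      · rw [afun_ext hα, ht, MulEquiv.orderOf_eq]; exact hco a hae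
    refine ⟨afun t, .gen hG' (im_mono hPR) (im_le_iff.2 fun x hx => ?_), fun x hx => ?_⟩
    · exact mor_sup_induction (hβ.restrict_to hPW) (fun a ha => Subgroup.mem_sup_left (apply_mem_im ha))
        (fun b hb => Subgroup.mem_sup_right
          (closed_apply' h.closedT hβ (hPW (Subgroup.mem_sup_right hb)) hb)) (hRP hx)
    · rw [ht, hβR.afun_transport rfl a (hPR hx), hae x (hPR hx)]
  | @comp P f g h1 _ ih1 ih2 =>
    obtain ⟨k1, hk1, e1⟩ := ih1 hPW
    obtain ⟨k2, hk2, e2⟩ := ih2 (by rwa [mem_sup_mod (h.loc_small h1).1])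
    have hβP := hβ.restrict_to (le_sup_left.trans hPW)
    have hm := h.loc_morF h1
    have e : im (im P β) k1 = im (im P f) β := by
      rw [hβP.im_comp, hm.im_comp]; exact im_congr e1
    refine ⟨k2 ∘ k1, hk1.comp (e.symm ▸ hk2), fun x hx => ?_⟩
    simp only [Function.comp_apply, e1 x hx, e2 _ (apply_mem_im hx)]
  | @congr P f g _ he ih =>
    obtain ⟨k, hk, ek⟩ := ih hPW
    exact ⟨k, hk, fun x hx => by rw [ek x hx, he x hx]⟩

theorem dec_congr {P : Subgroup Ω} {f g : Ω → Ω} (hf : Dec F E p P f)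
    (he : ∀ x ∈ P, f x = g x) : Dec F E p P g := by
  obtain ⟨k, hk, β, hβ, hfe⟩ := hf
  exact ⟨k, hk, β, hβ, fun x hx => (he x hx).symm.trans (hfe x hx)⟩

theorem dec_restrict {P Q : Subgroup Ω} {f : Ω → Ω} (hf : Dec F E p Q f) (hPQ : P ≤ Q) :
    Dec F E p P f := by
  obtain ⟨k, hk, β, hβ, hfe⟩ := hf
  exact ⟨k, h.loc_restrict hk hPQ, β, hβ.restrict_to (sup_le_sup_right hPQ T),
    fun x hx => hfe x (hPQ hx)⟩

theorem dec_comp {P Q : Subgroup Ω} {f g : Ω → Ω} (hf : Dec F E p P f) (hg : Dec F E p Q g)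
    (hfQ : ∀ x ∈ P, f x ∈ Q) : Dec F E p P (g ∘ f) := by
  obtain ⟨k, hk, β, hβ, hfe⟩ := hf
  have hg' := h.dec_restrict hg (im_le_iff.2 hfQ : im P f ≤ Q)
  obtain ⟨l, hl, γ, hγ, hge⟩ := hg'
  have hkT : im P k ⊔ T = P ⊔ T := mem_sup_mod (h.loc_small hk).1
  have hkmem : ∀ x ∈ P, k x ∈ P ⊔ T := fun x hx =>
    hkT.le (Subgroup.mem_sup_left (apply_mem_im hx))
  obtain ⟨i, hi, hiβ, hβi, -⟩ := hβ.exists_inv
  have hβm : ∀ x ∈ P ⊔ T, β x ∈ im P f ⊔ T := fun x hx => by
    refine mor_sup_induction (hβ.restrict_to (hkT.le : im P k ⊔ T ≤ P ⊔ T))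
      (fun y hy => ?_) (fun t ht => Subgroup.mem_sup_right
        (closed_apply' h.closedT hβ (Subgroup.mem_sup_right ht) ht)) (hkT.ge hx)
    obtain ⟨z, hz, rfl⟩ := (h.loc_morF hk).mem_im.1 hy
    exact hfe z hz ▸ Subgroup.mem_sup_left (apply_mem_im hz)
  have hsub : im P f ⊔ T ≤ im (P ⊔ T) β := by
    refine sup_le (im_le_iff.2 fun x hx => hfe x hx ▸ apply_mem_im (hkmem x hx)) ?_
    exact (h.im_T hβ le_sup_right).ge.trans (im_mono le_sup_right)
  obtain ⟨l', hl', el'⟩ := h.loc_transport hl hi hsub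
  have e : im (im P f) i = im P k := by
    have hfm : Mor F P f :=
      ((h.loc_morF hk).comp hβ hkmem).congr fun x hx => (hfe x hx).symm
    rw [hfm.im_comp]
    exact im_congr fun x hx => by rw [Function.comp_apply, hfe x hx, hiβ _ (hkmem x hx)]
  rw [e] at hl'
  refine ⟨l' ∘ k, hk.comp hl', γ ∘ β, hβ.comp hγ hβm, fun x hx => ?_⟩
  have hfx : f x ∈ im P f := apply_mem_im hx
  have hlf : l (f x) ∈ im P f ⊔ T :=
    (mem_sup_mod (h.loc_small hl).1).le (Subgroup.mem_sup_left (apply_mem_im hfx))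
  simp only [Function.comp_apply]
  rw [hge _ hfx]
  congr 1
  rw [show k x = i (f x) by rw [hfe x hx, hiβ _ (hkmem x hx)], el' _ hfx, hβi _ (hsub hlf)]

theorem dec_inv {P : Subgroup Ω} {f g : Ω → Ω} (hf : Dec F E p P f) (hgf : ∀ x ∈ P, g (f x) = x) :
    Dec F E p (im P f) g := by
  obtain ⟨k, hk, β, hβ, hfe⟩ := hf
  obtain ⟨j, hj, hjk⟩ := h.loc_inv hk
  have hkT : im P k ⊔ T = P ⊔ T := mem_sup_mod (h.loc_small hk).1
  have hkmem : ∀ x ∈ P, k x ∈ P ⊔ T := fun x hx =>
    hkT.le (Subgroup.mem_sup_left (apply_mem_im hx))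
  obtain ⟨j', hj', ej'⟩ := h.loc_transport hj hβ hkT.le
  have hfm : Mor F P f := ((h.loc_morF hk).comp hβ hkmem).congr fun x hx => (hfe x hx).symm
  have e : im (im P k) β = im P f := by
    rw [(h.loc_morF hk).im_comp]; exact im_congr fun x hx => (hfe x hx).symm
  rw [e] at hj'
  obtain ⟨i, hi, hiβ, -, -⟩ := hβ.exists_inv
  refine ⟨j', hj', i, hi.restrict_to (sup_le (im_le_iff.2 fun x hx =>
    hfe x hx ▸ apply_mem_im (hkmem x hx)) ((h.im_T hβ le_sup_right).ge.trans (im_mono le_sup_right))),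
    fun y hy => ?_⟩
  obtain ⟨x, hx, rfl⟩ := hfm.mem_im.1 hy
  rw [hgf x hx, hfe x hx, ej' _ (apply_mem_im hx), hjk x hx, hiβ _ (Subgroup.mem_sup_left hx)]

omit h in
theorem exists_norm_outside [Fact p.Prime] (hS : IsPGroup p S) {R C : Subgroup Ω} (hR : R ≤ S)
    (hC : C ≤ S) (hn : ∀ r ∈ R, ∀ c ∈ C, cj r c ∈ C) (hne : ¬ C ≤ R) :
    ∃ c ∈ C, c ∈ Subgroup.normalizer (R : Set Ω) ∧ c ∉ R := by
  have hCS := hC
  have hRC : R ⊔ C ≤ S := sup_le hR hC
  have hlt : R < R ⊔ C := lt_of_le_of_ne le_sup_left fun e => hne (le_sup_right.trans e.ge)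
  obtain ⟨y, hy, hyR, hyn⟩ := FusionSysAlperin.lt_normalizerIn hS hRC hlt
  have hN : R ≤ Subgroup.normalizer (C : Set Ω) := fun r hr =>
    mem_normalizer_of_cj_le hC fun c hc => hn r hr c hc
  have hy' : y ∈ (↑(R ⊔ C) : Set Ω) := hy
  rw [Subgroup.coe_mul_of_left_le_normalizer_right R C hN] at hy'
  obtain ⟨r, hr, c, hc, rfl⟩ := hy'
  refine ⟨c, hc, ?_, fun hcR => hyR (R.mul_mem hr hcR)⟩
  have := mul_mem (inv_mem (Subgroup.le_normalizer hr)) hyn
  rwa [inv_mul_cancel_left] at this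

variable [Fact p.Prime]

/-- Every map of `F` decomposes. -/
theorem frattini {P : Subgroup Ω} {f : Ω → Ω} (hf : Mor F P f) : Dec F E p P f := by
  classical
  suffices key : ∀ (n : ℕ) {P : Subgroup Ω}, P ≤ S → Nat.card S ≤ Nat.card P + n →
      ∀ {f : Ω → Ω}, Mor F P f → Dec F E p P f from key _ hf.le (Nat.le_add_left _ _) hf
  intro n
  induction n using Nat.strong_induction_on with
  | _ n ih =>
  intro P hP hn f hf
  -- maps extending to larger subgroups
  have big : ∀ {Q Y : Subgroup Ω} {g : Ω → Ω}, Mor F Y g → Q ≤ Y →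
      Nat.card P < Nat.card Y → Dec F E p Q g := fun {Q Y g} hg hQY hlt =>
    h.dec_restrict (ih (n - 1) (by
      have : Nat.card Y ≤ Nat.card S := Subgroup.card_le_of_le hg.le
      omega) hg.le (by omega) hg) hQY
  have hconjS : ∀ {Q : Subgroup Ω} {g : Ω}, Q ≤ S → g ∈ S → Dec F E p Q (cj g) := fun hQ hg =>
    ⟨fun x => x, h.loc_id hQ, cj _, mor_cj (sup_le hQ h.T_le) hg, fun _ _ => rfl⟩
  obtain ⟨R, φ, hR, hR0, hφ, -, hφP⟩ := h.exists_rep hP
  have hRS := hR.1
  have hPR : F.IsConj P R :=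
    FusionSysBasic.isConj_iff.2 ⟨φ, hφ.restrict_to (le_normalizerIn hP), hφP⟩
  have hfR : F.IsConj (im P f) R :=
    isConj_trans (isConj_symm (FusionSysBasic.isConj_iff.2 ⟨f, hf, rfl⟩)) hPR
  have hcR : Nat.card R = Nat.card P := (isConj_card hPR).symm
  -- automorphisms of `R`
  have hauts : ∀ β ∈ F.autGroup R, Dec F E p R (afun β) := by
    intro β hβ
    by_cases hTR : T ≤ R
    · exact ⟨fun x => x, h.loc_id hRS, afun β,
        ((mem_autGroup hRS).1 hβ).restrict_to (sup_le le_rfl hTR), fun _ _ => rfl⟩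
    have hbig : ∀ {N : Subgroup Ω} {e : Ω → Ω} {c : Ω} {b : MulAut R}, Mor F (R ⊔ N) e →
        c ∈ N → c ∉ R → (∀ x ∈ R, e x = afun b x) → Dec F E p R (afun b) := by
      intro N e c b he hc hcR' hee
      haveI := finite_of_le he.le
      refine h.dec_congr (big he le_sup_left ?_) hee
      rw [← hcR]
      have hlt : R < R ⊔ N :=
        lt_of_le_of_ne le_sup_left fun e' => hcR' (e'.ge (Subgroup.mem_sup_right hc))
      exact Set.Finite.card_lt_card (Set.toFinite _) hlt
    set R0 := R ⊓ T with hR0def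
    let J : Subgroup (MulAut R) :=
      { carrier := {a | a ∈ F.autGroup R ∧ (∀ x ∈ R, x⁻¹ * afun a x ∈ T) ∧
          ∀ x ∈ R0, afun a x = x}
        one_mem' := ⟨one_mem _, fun x hx => by rw [afun_one hx]; simp,
          fun x hx => afun_one hx.1⟩
        mul_mem' := fun {a b} ⟨ha, ha1, ha2⟩ ⟨hb, hb1, hb2⟩ => ⟨mul_mem ha hb, fun x hx => by
          rw [afun_mul _ _ hx]
          have := T.mul_mem (hb1 x hx) (ha1 _ (afun_mem b hx))
          simpa [mul_assoc] using this, fun x hx => by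
          rw [afun_mul _ _ hx.1, hb2 x hx, ha2 x hx]⟩
        inv_mem' := fun {a} ⟨ha, ha1, ha2⟩ => ⟨inv_mem ha, fun x hx => by
          have h1 := T.inv_mem (ha1 _ (afun_mem a⁻¹ hx))
          rw [afun_apply_inv a hx] at h1
          simpa using h1, fun x hx => by
          conv_lhs => rw [← ha2 x hx]
          exact afun_inv_apply a hx.1⟩ }
    haveI := finite_of_le hRS
    by_cases hCT : centralizerIn T R0 ≤ R0
    · -- lifts of `E`
      have hc : TC F T R0 := h.tc_of_fn inf_le_right hR0 hCT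
      obtain ⟨c, hc1, hc2, hc3⟩ := exists_norm_outside h.pgrp hRS h.T_le
        (fun r hr t ht => h.cjT (hRS hr) ht) hTR
      have hmem : ∀ (g : Ω) (hg : g ∈ normalizerIn T R),
          nHom S R ⟨g, h.T_le hg.1, hg.2⟩ ∈ h.lifts hRS := fun g hg =>
        ⟨autInducedBy_le hRS ((autInducedBy_eq_range S R).ge ⟨_, rfl⟩),
          small_congr (h.small_cj hRS hg.1) fun x hx =>
            (afun_nHom (⟨g, h.T_le hg.1, hg.2⟩ : ↥(S ⊓ Subgroup.normalizer (R : Set Ω))) hx).symm⟩
      obtain ⟨b, hb, m, hm, hmF, rfl, e, he, hee⟩ := FusionFrattini88.frattini_ext h.pgrp h.sat hR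
        (h.lifts hRS) (fun a ha m hm _ => h.lifts_conj hRS ha hm)
        (inf_le_inf_right _ h.T_le : normalizerIn T R ≤ normalizerIn S R) hmem hβ
      have hdb : Dec F E p R (afun b) := hbig he ⟨hc1, hc2⟩ hc3 hee
      let K : Subgroup (MulAut R) :=
        { carrier := {a | a ∈ F.autGroup R ∧ Dec F E p R (afun a)}
          one_mem' := ⟨one_mem _, h.dec_congr (hconjS hRS S.one_mem) fun x hx => by
            rw [cj_one, afun_one hx]⟩
          mul_mem' := fun {a b} ⟨ha, ha'⟩ ⟨hb, hb'⟩ => ⟨mul_mem ha hb,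
            h.dec_congr (h.dec_comp hb' ha' fun x hx => afun_mem b hx)
              fun x hx => (afun_mul a b hx).symm⟩
          inv_mem' := fun {a} ⟨ha, ha'⟩ => ⟨inv_mem ha, by
            have := h.dec_inv ha' (g := afun a⁻¹) fun x hx => afun_inv_apply a hx
            rwa [im_afun] at this⟩ }
      have hmK : m ∈ K := by
        haveI := finite_autGroup (F := F) R
        have hAF : h.lifts hRS ≤ F.autGroup R := fun a ha => ha.1
        haveI : Finite (h.lifts hRS) := Finite.of_injective _ (Subgroup.inclusion_injective hAF)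
        obtain ⟨P0, hP0⟩ := FusionCentralLift.sylIn_inf
          (fullyAutomized_of_fullyNormalized h.pgrp h.sat hR).2 (isPGroup_autInducedBy h.pgrp R) hAF
          fun a ha m hm => h.lifts_conj hRS ha hm
        have htop : (⊤ : Subgroup (h.lifts hRS)) ≤ K.subgroupOf (h.lifts hRS) := by
          rw [← TransferPResidual.sylow_sup_pResidual P0]
          refine sup_le (fun a ha => ?_) (TransferPResidual.pResidual_le_iff_coprime.2 fun a ha => ?_)
          · rw [hP0, Subgroup.mem_subgroupOf] at ha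
            obtain ⟨g, hg, -, hge⟩ := mem_autInducedBy.1 ha.1
            exact Subgroup.mem_subgroupOf.2 ⟨hAF a.2,
              h.dec_congr (hconjS hRS hg) fun x hx => (hge x hx).symm⟩
          · have hG : Gam F E p R (afun (a : MulAut R)) := ⟨hc,
              (mem_autGroup hRS).1 (hAF a.2), im_afun _, a.2.2, fun α hα => by
                rw [afun_ext hα, Subgroup.orderOf_coe]; exact ha⟩
            exact Subgroup.mem_subgroupOf.2 ⟨hAF a.2, afun (a : MulAut R),
              .gen hG le_rfl le_sup_left, fun x => x, mor_id (sup_le hRS h.T_le), fun _ _ => rfl⟩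
        exact htop (x := ⟨m, hm⟩) trivial
      exact (K.mul_mem ⟨hb, hdb⟩ hmK).2
    · -- the part in `T` does not contain its centralizer
      have hCS : centralizerIn T R0 ≤ S := inf_le_left.trans h.T_le
      obtain ⟨c, hc1, hc2, hc3⟩ := exists_norm_outside h.pgrp hRS hCS
        (fun r hr t ht => mem_centralizerIn.2 ⟨h.cjT (hRS hr) ht.1, fun y hy => by
          have hy' : cj r⁻¹ y ∈ R0 := ⟨R.mul_mem (R.mul_mem (R.inv_mem hr) hy.1) (by simpa using hr),
            h.cjT (S.inv_mem (hRS hr)) hy.2⟩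
          have h1 := (mem_centralizerIn.1 ht).2 _ hy'
          conv_lhs => rw [← cj_cj_inv r y]
          conv_rhs => rw [← cj_cj_inv r y, ← h1]
          simp [cj_apply, mul_assoc]⟩)
        fun hle => hCT fun x hx => ⟨hle hx, hx.1⟩
      have hJn : ∀ a ∈ F.autGroup R, ∀ j ∈ J, a * j * a⁻¹ ∈ J := by
        intro a ha j hj
        have hm := (mem_autGroup hRS).1 ha
        refine ⟨mul_mem (mul_mem ha hj.1) (inv_mem ha), fun x hx => ?_, fun x hx => ?_⟩
        · have hx' := afun_mem a⁻¹ hx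
          rw [afun_mul _ _ hx, afun_mul _ _ hx']
          conv in x⁻¹ => rw [← afun_apply_inv a hx]
          rw [← hm.map_inv hx', ← hm.map_mul (R.inv_mem hx') (afun_mem j hx')]
          exact closed_apply' h.closedT hm (R.mul_mem (R.inv_mem hx') (afun_mem j hx'))
            (hj.2.1 _ hx')
        · have hm' := (mem_autGroup hRS).1 (inv_mem ha)
          have hx' : afun a⁻¹ x ∈ R0 :=
            ⟨afun_mem _ hx.1, closed_apply' h.closedT hm' hx.1 hx.2⟩
          rw [afun_mul _ _ hx.1, afun_mul _ _ (afun_mem _ hx.1), hj.2.2 _ hx',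
            afun_apply_inv a hx.1]
      have hJp : IsPGroup p J := fun a => by
        obtain ⟨j, hj⟩ := pow_eq_one_of_stabilizes (h.pgrp.to_le hRS) (n := 2)
          (fun i => if i = 0 then ⊥ else if i = 1 then R0 else R) rfl rfl
          (fun i => by
            split_ifs
            · exact bot_le
            · exact inf_le_left
            · exact le_rfl)
          (fun i hi => by
            interval_cases i
            · simp
            · simp [hR0def])
          (α := (a : MulAut R)) (fun i hi y hy => by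
            interval_cases i
            · simp only [zero_add, if_neg one_ne_zero, if_pos rfl] at hy
              simp [a.2.2.2 y hy]
            · simp only [if_neg one_ne_zero, if_pos rfl]
              simp only [show (1 + 1 = 0) = False by simp, show (1 + 1 = 1) = False by simp,
                if_false] at hy
              exact ⟨R.mul_mem (R.inv_mem hy) (afun_mem _ hy), a.2.2.1 y hy⟩)
        exact ⟨j, Subtype.ext (by simpa using hj)⟩
      set N := normalizerIn (centralizerIn T R0) R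
      have hmem : ∀ (g : Ω) (hg : g ∈ N), nHom S R ⟨g, hCS hg.1, hg.2⟩ ∈ J := fun g hg =>
        ⟨autInducedBy_le hRS ((autInducedBy_eq_range S R).ge ⟨_, rfl⟩), fun x hx => by
          rw [afun_nHom _ hx]; exact (h.small_cj hRS hg.1.1).1 x hx, fun x hx => by
          rw [afun_nHom _ hx.1]; exact (mem_centralizerIn.1 hg.1).2 x hx⟩
      obtain ⟨b, hb, m, hm, hmF, rfl, e, he, hee⟩ := FusionFrattini88.frattini_ext h.pgrp h.sat hR
        J (fun a ha m hm _ => hJn a ha m hm)
        (inf_le_inf_right _ hCS : N ≤ normalizerIn S R) hmem hβ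
      obtain ⟨g, hg, -, hge⟩ :=
        mem_autInducedBy.1 (le_autInducedBy h.pgrp h.sat hR (fun a (ha : a ∈ J) => ha.1) hJn hJp hm)
      exact h.dec_congr (h.dec_comp (h.dec_congr (hconjS hRS hg) fun x hx => (hge x hx).symm)
        (hbig he ⟨hc1, hc2⟩ hc3 hee) fun x hx => afun_mem m hx) fun x hx => (afun_mul b m hx).symm
  -- general maps
  rcases hP.eq_or_lt with e | hlt
  · subst e
    obtain rfl := isConj_self_eq (F := F) hPR
    obtain ⟨a, ha, hae⟩ := hf.exists_aut (hf.im_self fun x hx => hf.apply_mem hx)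
    exact h.dec_congr (hauts a ha) hae
  have hcPS : Nat.card P < Nat.card S := Set.Finite.card_lt_card (Set.toFinite _) hlt
  have toR : ∀ {P' : Subgroup Ω}, Nat.card P' = Nat.card P → F.IsConj P' R →
      ∃ θ, Mor F P' θ ∧ im P' θ = R ∧ Dec F E p P' θ := by
    intro P' hc hconj
    have hP'S := isConj_left_le hconj
    obtain ⟨θ, hθ, -, hθP⟩ := exists_map_to_fullyNormalized h.pgrp h.sat hR hconj
    refine ⟨θ, hθ.restrict_to (le_normalizerIn hP'S), hθP, big hθ (le_normalizerIn hP'S) ?_⟩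
    rw [← hc]
    refine FusionFrattini88.card_lt_normalizerIn h.pgrp le_rfl (lt_of_le_of_ne hP'S fun e => ?_)
    rw [e] at hc
    omega
  obtain ⟨θ1, hθ1, him1, hd1⟩ := toR rfl hPR
  obtain ⟨θ2, hθ2, him2, hd2⟩ := toR hf.card_im hfR
  obtain ⟨j1, hj1, hj1θ, -, hj1P⟩ := hθ1.exists_inv
  rw [him1] at hj1 hj1P
  obtain ⟨j2, hj2, hj2θ, -, -⟩ := hθ2.exists_inv
  have hβm : Mor F R (θ2 ∘ (f ∘ j1)) :=
    (hj1.comp hf hj1P).comp hθ2 fun y hy => apply_mem_im (hj1P y hy)
  obtain ⟨β, hβ, hβe⟩ := hβm.exists_aut (hβm.im_self fun y hy => him2 ▸ apply_mem_im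
    (apply_mem_im (hj1P y hy)))
  have h2 := h.dec_inv hd2 hj2θ
  rw [him2] at h2
  refine h.dec_congr (h.dec_comp (h.dec_comp hd1 (hauts β hβ) fun x hx => him1 ▸ apply_mem_im hx) h2
    fun x hx => afun_mem β (him1 ▸ apply_mem_im hx)) fun x hx => ?_
  simp only [Function.comp_apply]
  rw [hβe _ (him1 ▸ apply_mem_im hx)]
  simp only [Function.comp_apply, hj1θ x hx, hj2θ _ (apply_mem_im hx)]

/-! ### Maps of the product -/

omit [Fact p.Prime] in
theorem inv_cj {P : Subgroup Ω} {e : Ω → Ω} (he : Mor E P e) {s : Ω} (hs : s ∈ S) :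
    Mor E (im P (cj s)) (cj s ∘ e ∘ cj s⁻¹) := by
  have hn : s ∈ Subgroup.normalizer (T : Set Ω) :=
    mem_normalizer_of_cj_le h.T_le fun t ht => h.cjT hs ht
  set a := nHom S T ⟨s, hs, hn⟩
  have ha : a ∈ F.autGroup T :=
    autInducedBy_le h.T_le ((autInducedBy_eq_range S T).ge ⟨_, rfl⟩)
  have h1 := FusionWeaklyNormal88.inv_mor h.inv he ha
  have e1 : im P (afun a) = im P (cj s) := im_congr fun x hx => afun_nHom _ (he.le hx)
  rw [e1] at h1
  refine h1.congr fun y hy => ?_
  obtain ⟨x, hx, rfl⟩ := (mor_cj (F := F) (he.le.trans h.T_le) hs).mem_im.1 hy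
  have ex : cj s x = afun a x :=
    (afun_nHom (⟨s, hs, hn⟩ : ↥(S ⊓ Subgroup.normalizer (T : Set Ω))) (he.le hx)).symm
  simp only [Function.comp_apply, cj_inv_cj]
  rw [ex, afun_inv_apply a (he.le hx)]
  exact afun_nHom _ (he.apply_mem hx)

omit [Fact p.Prime] in
theorem res_comp {P Q : Subgroup Ω} {f g : Ω → Ω} {s t : Ω} (hf : Mor F P f)
    (hfQ : ∀ x ∈ P, f x ∈ Q) (hs : s ∈ S) (ht : t ∈ S) (h1 : Res E s P f) (h2 : Res E t Q g) :
    Res E (t * s) P (g ∘ f) := by
  have hf0 := hf.restrict_to (inf_le_left : P ⊓ T ≤ P)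
  have hm : ∀ x ∈ P ⊓ T, f x ∈ Q ⊓ T := fun x hx =>
    ⟨hfQ x hx.1, closed_apply h.closedT hf0 inf_le_right hx⟩
  refine ⟨fun x hx => ?_, ?_⟩
  · have := T.mul_mem (h.cjT ht (h1.1 x hx)) (h2.1 _ (hfQ x hx))
    simpa [cj_apply, mul_assoc] using this
  · have h3 := h.inv_cj (h2.2.restrict_to (im_le_iff.2 hm : im (P ⊓ T) f ≤ Q ⊓ T))
      (S.inv_mem hs)
    rw [hf0.im_comp] at h3
    refine (h1.2.comp_im h3).congr fun x _ => ?_
    simp [cj_apply, mul_assoc]

omit [Fact p.Prime] in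
theorem res_inv {P : Subgroup Ω} {f g : Ω → Ω} {s : Ω} (hf : Mor F P f) (hs : s ∈ S)
    (hgf : ∀ x ∈ P, g (f x) = x) (h1 : Res E s P f) : Res E s⁻¹ (im P f) g := by
  refine ⟨fun y hy => ?_, ?_⟩
  · obtain ⟨x, hx, rfl⟩ := hf.mem_im.1 hy
    have := h.cjT (S.inv_mem hs) (T.inv_mem (h1.1 x hx))
    rw [hgf x hx]
    simpa [cj_apply, mul_assoc] using this
  · obtain ⟨i, hi, hie, -, -⟩ := h1.2.exists_inv
    have h3 := h.inv_cj hi hs
    have hf0 := hf.restrict_to (inf_le_left : P ⊓ T ≤ P)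
    have e : im (im (P ⊓ T) (cj s⁻¹ ∘ f)) (cj s) = im P f ⊓ T := by
      rw [h1.2.im_comp, ← h.im_inf hf]
      exact im_congr fun x _ => cj_cj_inv s (f x)
    rw [e] at h3
    refine h3.congr fun y hy => ?_
    obtain ⟨x, hx, rfl⟩ := hf0.mem_im.1 ((h.im_inf hf).symm ▸ hy)
    have := hie x hx
    simp only [Function.comp_apply] at this ⊢
    rw [this, hgf x hx.1, inv_inv]

omit [Fact p.Prime] in
theorem prod_res {P : Subgroup Ω} {f : Ω → Ω} (hf : Mor G P f) : ∃ s ∈ S, Res E s P f := by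
  refine prod_induction (Φ := fun P f => ∃ s ∈ S, Res E s P f) ⟨?_, ?_, ?_, ?_⟩ ?_ hf
  · rintro P f g ⟨s, hs, h1, h2⟩ he
    exact ⟨s, hs, fun x hx => he x hx ▸ h1 x hx,
      h2.congr fun x hx => by simp only [Function.comp_apply, he x hx.1]⟩
  · intro P g hP hg
    refine ⟨g, hg, fun x hx => by simp, (mor_id (F := E) inf_le_right).congr fun x _ => ?_⟩
    simp [cj_inv_cj]
  · rintro P Q f g hfm - - - hfQ ⟨s, hs, h1⟩ ⟨t, ht, h2⟩
    exact ⟨t * s, S.mul_mem ht hs, h.res_comp hfm hfQ hs ht h1 h2⟩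
  · rintro P f g hfm - - hgf ⟨s, hs, h1⟩
    exact ⟨s⁻¹, S.inv_mem hs, h.res_inv hfm hs hgf h1⟩
  · intro R g hG
    refine ⟨1, S.one_mem, fun x hx => by rw [cj_one]; exact hG.2.2.2.1.1 x hx,
      hG.2.2.2.1.2.congr fun x _ => ?_⟩
    simp [cj_apply]

/-- Automorphisms of order prime to `p` in the product are lifts. -/
theorem coprime_lifts {P : Subgroup Ω} (hP : P ≤ S) {a : MulAut P}
    (ha : a ∈ (prodSys F E p).autGroup P) (hco : (orderOf a).Coprime p) : a ∈ h.lifts hP := by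
  have hm := (mem_autGroup hP).1 ha
  have hmF := sub_mor prod_sub hm
  obtain ⟨s, hs, h1⟩ := h.prod_res hm
  have hk : ∀ k : ℕ, Res E (s ^ k) P (afun (a ^ k)) := by
    intro k
    induction k with
    | zero =>
      refine ⟨fun x hx => ?_, (mor_id (F := E) inf_le_right).congr fun x hx => ?_⟩
      · rw [pow_zero, pow_zero, afun_one hx, cj_one, inv_mul_cancel]; exact T.one_mem
      · rw [pow_zero, pow_zero, Function.comp_apply, afun_one hx.1, inv_one, cj_one]
    | succ k ih =>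
      have hk' := (mem_autGroup hP).1 (pow_mem ha k)
      have := h.res_comp (sub_mor prod_sub hk') (fun x hx => afun_mem _ hx) (S.pow_mem hs k) hs ih h1
      rw [← pow_succ'] at this
      exact ⟨fun x hx => by rw [pow_succ' a, afun_mul _ _ hx]; exact this.1 x hx,
        this.2.congr fun x hx => by
          simp only [Function.comp_apply]
          rw [pow_succ' a, afun_mul _ _ hx.1]⟩
  have hN : s ^ Nat.card S = 1 := congrArg Subtype.val (pow_card_eq_one' (x := (⟨s, hs⟩ : S)))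
  have h2 := hk (Nat.card S)
  rw [hN] at h2
  have haN : a ^ Nat.card S ∈ h.lifts hP :=
    ⟨pow_mem (mem_autGroup_of_mor hmF) _, fun x hx => by have := h2.1 x hx; rwa [cj_one] at this,
      h2.2.congr fun x _ => by simp [cj_apply]⟩
  obtain ⟨i, hi⟩ := IsPGroup.iff_card.1 h.pgrp
  rw [hi] at haN
  exact FusionWeaklyNormal88.mem_of_coprime_pow (hco.pow_right i)
    (by rw [pow_orderOf_eq_one]; exact one_mem _) haN

theorem gam_of_lift {P : Subgroup Ω} (hP : P ≤ S) (hc : TC F T (P ⊓ T)) {a : MulAut P}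
    (ha : a ∈ h.lifts hP) (hco : (orderOf a).Coprime p) : Gam F E p P (afun a) :=
  ⟨hc, (mem_autGroup hP).1 ha.1, im_afun _, ha.2, fun α hα => by rwa [afun_ext hα]⟩

theorem lift_mem_prod {P : Subgroup Ω} (hP : P ≤ S) (hc : TC F T (P ⊓ T)) {a : MulAut P}
    (ha : a ∈ h.lifts hP) (hco : (orderOf a).Coprime p) : a ∈ (prodSys F E p).autGroup P :=
  mem_autGroup_of_mor (gam_mor (h.gam_of_lift hP hc ha hco))

/-- The hyperfocal subgroup of the product lies in `T`. -/
theorem hyp_prod_le : (prodSys F E p).hyperfocalSubgroup p ≤ T := by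
  refine (Subgroup.closure_le _).2 ?_
  rintro _ ⟨P, α, x, hP, hα, rfl⟩
  have hle : Cfsg.pResidual p ((prodSys F E p).autGroup P) ≤
      (h.lifts hP).subgroupOf ((prodSys F E p).autGroup P) :=
    TransferPResidual.pResidual_le_iff_coprime.2 fun a ha =>
      h.coprime_lifts hP a.2 ((Subgroup.orderOf_coe a).symm ▸ ha)
  have h1 := (hle hα).2.1 x x.2
  rwa [afun_coe] at h1

/-- `E` lies in the product. -/
theorem sub_prod : E.IsSubsystemOf (prodSys F E p) := by
  haveI := finite_of_le h.T_le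
  have hc : FusionInduct88.Closed E (U := T) (fun P f => Mor G P f) :=
    { congr := fun hf he => hf.congr he
      conj := fun hP hg => mor_cj (hP.trans h.T_le) (h.T_le hg)
      comp := fun _ _ _ _ hfQ h1 h2 => h1.comp h2 hfQ
      inv := fun hf _ _ hgf h1 => by
        obtain ⟨k, hk, hkf, -, -⟩ := h1.exists_inv
        refine hk.congr fun y hy => ?_
        obtain ⟨x, hx, rfl⟩ := hf.mem_im.1 hy
        rw [hkf x hx, hgf x hx] }
  have hle : E ≤ FusionInduct88.subSystem le_rfl hc := by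
    refine FusionSysAlperin.alperin h.pT h.nE.1.1 fun P hP => ?_
    have hPT : P ≤ T := by
      rcases hP with rfl | hP
      · exact le_rfl
      · exact hP.1.1
    have hfn : E.IsFullyNormalized P := by
      rcases hP with rfl | hP
      · exact fullyNormalized_self
      · exact hP.2.1
    have hcen : E.IsCentric P := by
      rcases hP with rfl | hP
      · exact FusCentric.centric_top
      · exact hP.1
    have htc : TC F T (P ⊓ T) := by
      rw [inf_eq_left.2 hPT]
      refine ⟨hPT, fun Q hQ => ?_⟩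
      obtain ⟨f, hf, rfl⟩ := FusionSysBasic.isConj_iff.1 hQ
      exact (FusionWeaklyNormal88.centric_image h.inv hcen hf).2 _
        (FusionSysBasic.isConj_refl
          (im_le_iff.2 fun x hx => closed_apply h.closedT hf hPT hx))
    have hPS := hPT.trans h.T_le
    refine FusionWeakAlperin.autGroup_le_of_fullyNormalized h.pT h.nE.1.1 hfn
      (FusionPPower.map_pResidual_le_of_coprime fun a ha hco => ?_) (autInducedBy_le hPT)
    have hm : Mor E P (afun a) := (mem_autGroup hPT).1 ha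
    have hl : a ∈ h.lifts hPS := by
      refine ⟨mem_autGroup_of_mor (sub_mor h.inv.1 hm), fun x hx => ?_,
        hm.restrict_to inf_le_left⟩
      exact T.mul_mem (T.inv_mem (hPT hx)) (hPT (afun_mem a hx))
    refine mem_autGroup_of_mor (FusionInduct88.mor_subSystem.2 ⟨hm, hPT,
      fun x hx => hm.apply_mem hx, gam_mor (h.gam_of_lift hPS htc hl hco)⟩)
  exact fun P φ hφ => by
    obtain ⟨ψ, hψ, he⟩ := (FusionInduct88.mor_subSystem.1 (mor_toFun (hle P hφ))).2.2.2
    have : φ = ψ := MonoidHom.ext fun x => (toFun_coe φ x).symm.trans (he x).symm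
    exact this ▸ hψ

end Setup

end Cfsg.Agent.FusionProductR5
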