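import Cfsg.Agent.Lib.FusionPResidualNormal5
import Cfsg.Agent.Lib.FusionMeetSat

/-!
`E ◁ F` over `T` with `hyp(E) = T`. The automorphisms of `P ≤ S` acting trivially modulo `T` and
lying in `E` on `P ⊓ T` are determined, when of order prime to `p` and `P ⊓ T` is centric relative
to `T`, by their restriction up to conjugation by `P ⊓ T`, and extend trivially modulo `T`
(`key`, `unique_lift`).
-/

set_option autoImplicit false

namespace Cfsg.Agent.FusionProductR5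

open Cfsg Cfsg.FusionSystem Cfsg.Agent.FusionSysBasic Cfsg.Agent.FusionSysSaturated
open Cfsg.Agent.FusionSysNormal Cfsg.Agent.FusionKit88 Cfsg.Agent.FusionSysNormalizer
open Cfsg.Agent.FusionCentralizerSub
open Cfsg.Agent.FusionPResidualNormal5 (le_autInducedBy)

variable {Ω : Type*} [Group Ω] {S T : Subgroup Ω} {F : FusionSystem S} {E : FusionSystem T}
  {p : ℕ}

/-- The hypotheses. -/
structure Setup (F : FusionSystem S) (E : FusionSystem T) (p : ℕ) : Prop where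
  pgrp : IsPGroup p S
  nE : E.IsNormalIn F p
  hyp : E.hyperfocalSubgroup p = T

/-- `V ≤ T` and all its conjugates in `F` contain their centralizers in `T`. -/
def TC (F : FusionSystem S) (T V : Subgroup Ω) : Prop :=
  V ≤ T ∧ ∀ Q, F.IsConj V Q → centralizerIn T Q ≤ Q

/-- Trivial modulo `T` and in `E` on the part in `T`. -/
def Small (E : FusionSystem T) (P : Subgroup Ω) (f : Ω → Ω) : Prop :=
  (∀ x ∈ P, x⁻¹ * f x ∈ T) ∧ Mor E (P ⊓ T) f

theorem small_congr {P : Subgroup Ω} {f g : Ω → Ω} (h : Small E P f) (he : ∀ x ∈ P, f x = g x) :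
    Small E P g :=
  ⟨fun x hx => he x hx ▸ h.1 x hx, h.2.congr fun x hx => he x hx.1⟩

theorem small_id {P : Subgroup Ω} : Small E P fun x => x :=
  ⟨fun x _ => by simp, mor_id inf_le_right⟩

theorem small_comp {P : Subgroup Ω} {f g : Ω → Ω} (hf : Small E P f) (hg : Small E (im P f) g) :
    Small E P (g ∘ f) :=
  ⟨fun x hx => by
      have := T.mul_mem (hf.1 x hx) (hg.1 _ (apply_mem_im hx))
      simpa [mul_assoc] using this,
    hf.2.comp hg.2 fun x hx => ⟨apply_mem_im hx.1, hf.2.apply_mem hx⟩⟩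

theorem small_restrict {P Q : Subgroup Ω} {f : Ω → Ω} (h : Small E Q f) (hPQ : P ≤ Q) :
    Small E P f :=
  ⟨fun x hx => h.1 x (hPQ hx), h.2.restrict_to (inf_le_inf_right _ hPQ)⟩

namespace Setup

variable (h : Setup F E p)
include h

theorem sat : F.IsSaturated p := h.nE.1.2.1

theorem inv : E.IsInvariantIn F := h.nE.1.2.2

theorem closedT : F.StronglyClosed T := h.inv.2.1

theorem T_le : T ≤ S := h.closedT.1

theorem pT : IsPGroup p T := h.pgrp.to_le h.T_le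

theorem cjT {g x : Ω} (hg : g ∈ S) (hx : x ∈ T) : cj g x ∈ T :=
  cj_mem_of_stronglyClosed h.closedT hg hx

theorem im_inf {P : Subgroup Ω} {f : Ω → Ω} (hf : Mor F P f) :
    im (P ⊓ T) f = im P f ⊓ T := by
  refine le_antisymm (im_le_iff.2 fun x hx => ⟨apply_mem_im hx.1,
    closed_apply h.closedT (hf.restrict_to inf_le_left) inf_le_right hx⟩) fun y hy => ?_
  obtain ⟨x, hx, rfl⟩ := hf.mem_im.1 hy.1
  obtain ⟨g, hg, hgf, -, -⟩ := hf.exists_inv
  have := closed_apply' h.closedT hg hy.1 hy.2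
  rw [hgf x hx] at this
  exact apply_mem_im (f := f) (show x ∈ P ⊓ T from ⟨hx, this⟩)

theorem tc_conj {R Q : Subgroup Ω} (hR : TC F T R) (hc : F.IsConj R Q) : TC F T Q := by
  refine ⟨?_, fun Q' hQ' => hR.2 Q' (isConj_trans hc hQ')⟩
  obtain ⟨f, hf, rfl⟩ := FusionSysBasic.isConj_iff.1 hc
  exact im_le_iff.2 fun x hx => closed_apply h.closedT hf hR.1 hx

omit h in
theorem tc_upward {R R' : Subgroup Ω} (hR : TC F T R) (hRR : R ≤ R') (hR' : R' ≤ T) :
    TC F T R' := by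
  refine ⟨hR', fun Q hQ c hc => ?_⟩
  obtain ⟨f, hf, rfl⟩ := FusionSysBasic.isConj_iff.1 hQ
  exact im_mono hRR (hR.2 _ (FusionSysBasic.isConj_iff.2 ⟨f, hf.restrict_to hRR, rfl⟩)
    (mem_centralizerIn.2 ⟨hc.1, fun y hy => (mem_centralizerIn.1 hc).2 y (im_mono hRR hy)⟩))

/-- The automorphisms in `F` trivial modulo `T` and in `E` on the part in `T`. -/
def lifts [Finite S] {P : Subgroup Ω} (hP : P ≤ S) : Subgroup (MulAut P) where
  carrier := {a | a ∈ F.autGroup P ∧ Small E P (afun a)}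
  one_mem' := ⟨one_mem _, small_congr small_id fun x hx => (afun_one hx).symm⟩
  mul_mem' := fun {a b} ha hb => ⟨mul_mem ha.1 hb.1,
    small_congr (small_comp hb.2 (by rw [im_afun]; exact ha.2))
      fun x hx => (afun_mul a b hx).symm⟩
  inv_mem' := fun {a} ha => by
    have hm := (mem_autGroup hP).1 ha.1
    have e : im (P ⊓ T) (afun a) = P ⊓ T := by rw [h.im_inf hm, im_afun]
    refine ⟨inv_mem ha.1, fun x hx => ?_, ?_⟩
    · have h1 := T.inv_mem (ha.2.1 _ (afun_mem a⁻¹ hx))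
      rw [afun_apply_inv a hx] at h1
      simpa using h1
    · obtain ⟨g, hg, hga, -, -⟩ := ha.2.2.exists_inv
      rw [e] at hg
      refine hg.congr fun y hy => ?_
      obtain ⟨x, hx, rfl⟩ := ha.2.2.mem_im.1 (e.ge hy)
      rw [hga x hx, afun_inv_apply a hx.1]

variable [Finite S]

theorem mem_lifts {P : Subgroup Ω} {hP : P ≤ S} {a : MulAut P} :
    a ∈ h.lifts hP ↔ a ∈ F.autGroup P ∧ Small E P (afun a) := Iff.rfl

/-- The restriction of a lift to the part in `T`. -/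
theorem restrict_lift {P : Subgroup Ω} (hP : P ≤ S) {a : MulAut P} (ha : a ∈ h.lifts hP) :
    ∃ u ∈ E.autGroup (P ⊓ T), (∀ x ∈ P ⊓ T, afun u x = afun a x) ∧
      orderOf u ∣ orderOf a := by
  obtain ⟨u, hu, hue⟩ := ha.2.2.exists_aut
    (by rw [h.im_inf ((mem_autGroup hP).1 ha.1), im_afun])
  exact ⟨u, hu, hue, S5120.orderOf_dvd_of_restrict inf_le_left hue⟩

theorem lifts_transport {P Q : Subgroup Ω} (hQ : Q ≤ S) {φ : Ω → Ω} (hφ : Mor F P φ)
    (him : im P φ = Q) {a : MulAut P} (ha : a ∈ h.lifts hφ.le) :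
    hφ.transport him a ∈ h.lifts hQ := by
  refine ⟨hφ.transport_mem him ha.1, fun y hy => ?_, ?_⟩
  · obtain ⟨x, hx, rfl⟩ := hφ.mem_im.1 (him.ge hy)
    rw [hφ.afun_transport him a hx, ← hφ.map_inv hx,
      ← hφ.map_mul (P.inv_mem hx) (afun_mem a hx)]
    exact closed_apply' h.closedT hφ (P.mul_mem (P.inv_mem hx) (afun_mem a hx)) (ha.2.1 x hx)
  · obtain ⟨u, hu, hue, -⟩ := h.restrict_lift hφ.le ha
    have hφ0 := hφ.restrict_to (inf_le_left : P ⊓ T ≤ P)
    have e : im (P ⊓ T) φ = Q ⊓ T := by rw [h.im_inf hφ, him]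
    have h1 := FusionWeaklyNormal88.aut_transport h.inv inf_le_right hφ0 e hu
    refine ((mem_autGroup inf_le_right).1 h1).congr fun y hy => ?_
    obtain ⟨x, hx, rfl⟩ := hφ0.mem_im.1 (e.ge hy)
    rw [hφ0.afun_transport e u hx, hφ.afun_transport him a hx.1, hue x hx]

theorem lifts_conj {P : Subgroup Ω} (hP : P ≤ S) {a b : MulAut P} (ha : a ∈ F.autGroup P)
    (hb : b ∈ h.lifts hP) : a * b * a⁻¹ ∈ h.lifts hP := by
  have hm := (mem_autGroup hP).1 ha
  have e : a * b * a⁻¹ = hm.transport (im_afun a) b := afun_ext fun y hy => by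
    obtain ⟨x, hx, rfl⟩ : ∃ x ∈ P, afun a x = y :=
      ⟨afun a⁻¹ y, afun_mem _ hy, afun_apply_inv a hy⟩
    rw [hm.afun_transport (im_afun a) b hx, afun_mul _ _ (afun_mem a hx),
      afun_inv_apply a hx, afun_mul _ _ hx]
  rw [e]
  exact h.lifts_transport hP hm (im_afun a) hb

variable [Fact p.Prime]

/-- A fully normalized subgroup containing its centralizer in `T` is centric relative to `T`. -/
theorem tc_of_fn {V : Subgroup Ω} (hVT : V ≤ T) (hV : F.IsFullyNormalized V)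
    (hc : centralizerIn T V ≤ V) : TC F T V := by
  refine ⟨hVT, fun Q hQ c hc' => ?_⟩
  obtain ⟨f, hf, -, him⟩ := exists_map_to_fullyNormalized h.pgrp h.sat hV (isConj_symm hQ)
  have hQS : Q ≤ S := isConj_right_le hQ
  have hcS : c ∈ centralizerIn S Q := ⟨h.T_le hc'.1, hc'.2⟩
  have hcN := centralizerIn_le_normalizerIn hcS
  have h1 := (mor_centralizer_iff hf hQS him hcN).2 hcS
  have h2 := hc ⟨closed_apply' h.closedT hf hcN hc'.1, h1.2⟩
  obtain ⟨x, hx, hxe⟩ := (hf.restrict_to (le_normalizerIn hQS)).mem_im.1 (him.ge h2)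
  exact hf.injOn (le_normalizerIn hQS hx) hcN hxe ▸ hx

/-- Every subgroup reaches, with its normalizer, a fully normalized subgroup whose part in `T` is
fully normalized. -/
theorem exists_rep {P : Subgroup Ω} (hP : P ≤ S) :
    ∃ R φ, F.IsFullyNormalized R ∧ F.IsFullyNormalized (R ⊓ T) ∧ Mor F (normalizerIn S P) φ ∧
      (∀ x ∈ normalizerIn S P, φ x ∈ normalizerIn S R) ∧ im P φ = R := by
  obtain ⟨R1, hPR1, hR1⟩ := exists_fullyNormalized (F := F) hP
  have hR10 : R1 ⊓ T ≤ S := inf_le_left.trans hR1.1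
  obtain ⟨V, hV1, hV⟩ := exists_fullyNormalized (F := F) hR10
  obtain ⟨k, hk, -, hkV⟩ := exists_map_to_fullyNormalized h.pgrp h.sat hV hV1
  have hNN : normalizerIn S R1 ≤ normalizerIn S (R1 ⊓ T) := fun g hg =>
    ⟨hg.1, mem_normalizer_of_cj_le hR10 fun x hx =>
      ⟨cj_mem_of_normalizer hg.2 hx.1, h.cjT hg.1 hx.2⟩⟩
  have hkN := hk.restrict_to hNN
  have hkR := hkN.restrict_to (le_normalizerIn hR1.1)
  set R := im R1 k
  have hRc : F.IsConj R1 R := FusionSysBasic.isConj_iff.2 ⟨k, hkR, rfl⟩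
  have hRn : F.IsFullyNormalized R := by
    refine ⟨hkR.im_le, fun Q hQ => (hR1.2 Q (isConj_trans hRc hQ)).trans ?_⟩
    exact card_le_of_mor hkN inf_le_left fun x hx => mor_normalizer_mem hkN hR1.1 rfl hx
  have hRV : R ⊓ T = V := by rw [← h.im_inf hkR, hkV]
  obtain ⟨φ, hφ, hφN, him⟩ :=
    exists_map_to_fullyNormalized h.pgrp h.sat hRn (isConj_trans hPR1 hRc)
  exact ⟨R, φ, hRn, hRV ▸ hV, hφ, hφN, him⟩

/-- At a well placed `Y`, a lift of order prime to `p` is, up to conjugation by `Y ⊓ T`, the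
restriction of a map trivial modulo `T` which depends only on its restriction to `Y ⊓ T`. -/
theorem key0 {Y : Subgroup Ω} (hY : F.IsFullyNormalized Y) (hV : F.IsFullyNormalized (Y ⊓ T))
    (hc : TC F T (Y ⊓ T)) {Q : Subgroup (MulAut Y)} (hQ : Q ≤ autInducedBy S Y) {g : MulAut Y}
    (hg : g ∈ h.lifts hY.1) (hco : (orderOf g).Coprime p) (hgQ : ∀ a ∈ Q, g * a * g⁻¹ ∈ Q) :
    ∃ Φ, Mor F (Y ⊔ nK S Y Q) Φ ∧ (∀ x ∈ Y ⊔ nK S Y Q, x⁻¹ * Φ x ∈ T) ∧
      ∀ g' ∈ h.lifts hY.1, (orderOf g').Coprime p → (∀ x ∈ Y ⊓ T, afun g' x = afun g x) →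
        ∃ v ∈ Y ⊓ T, ∀ x ∈ Y, afun g' x = cj v (Φ x) := by
  classical
  have hYS := hY.1
  set V := Y ⊓ T with hVdef
  have hVT : V ≤ T := inf_le_right
  have hVY : V ≤ Y := inf_le_left
  set N := nK S Y Q with hNdef
  set X := Y ⊔ N with hXdef
  have hXS : X ≤ S := sup_le hYS nK_le
  have hNY : N ≤ normalizerIn S Y := le_inf nK_le (nK_normalizes hYS)
  have hXY : X ≤ normalizerIn S Y := sup_le (le_normalizerIn hYS) hNY
  have hXV : ∀ x ∈ X, ∀ v ∈ V, cj x v ∈ V := fun x hx v hv =>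
    ⟨cj_mem_of_normalizer (hXY hx).2 hv.1, h.cjT (hXS hx) hv.2⟩
  -- `g` normalizes the automorphisms induced by `X`
  have hX : ∀ x ∈ X, ∃ x' ∈ X, ∀ y ∈ Y, afun g (cj x y) = cj x' (afun g y) := by
    set QX := Inn Y ⊔ Q
    have hle : QX ≤ autInducedBy X Y := by
      refine sup_le ?_ fun a ha => ?_
      · rw [← autInducedBy_self]
        exact autInducedBy_mono le_sup_left Y
      · obtain ⟨s, hs, hsn, hse⟩ := mem_autInducedBy.1 (hQ ha)
        exact mem_autInducedBy.2 ⟨s, Subgroup.mem_sup_right ⟨hs, a, ha, hse⟩, hsn, hse⟩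
    have hge : X ≤ (QX.comap (nHom S Y)).map (normalizerIn S Y).subtype := by
      refine sup_le (fun y hy => ?_) fun n hn => ?_
      · refine ⟨⟨y, le_normalizerIn hYS hy⟩, Subgroup.mem_sup_left ?_, rfl⟩
        rw [← autInducedBy_self]
        exact mem_autInducedBy.2 ⟨y, hy, Subgroup.le_normalizer hy, fun z hz => afun_nHom _ hz⟩
      · obtain ⟨-, l, hl, hle'⟩ := id hn
        refine ⟨⟨n, hNY hn⟩, ?_, rfl⟩
        show nHom S Y ⟨n, hNY hn⟩ ∈ QX
        refine Subgroup.mem_sup_right ?_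
        rwa [show nHom S Y ⟨n, hNY hn⟩ = l from afun_ext fun z hz => by
          rw [afun_nHom _ hz]; exact (hle' z hz).symm]
    have hgQX : QX ≤ QX.comap (MulAut.conj g).toMonoidHom := by
      refine sup_le (fun a ha => Subgroup.mem_sup_left ?_) fun a ha =>
        Subgroup.mem_sup_right (hgQ a ha)
      obtain ⟨y, rfl⟩ := ha
      exact ⟨g y, MulEquiv.ext fun z => by simp [mul_assoc]⟩
    intro x hx
    obtain ⟨n, hn, rfl⟩ := hge hx
    obtain ⟨x', hx', -, hxe⟩ := mem_autInducedBy.1 (hle (hgQX hn))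
    refine ⟨x', hx', fun y hy => ?_⟩
    rw [← hxe _ (afun_mem g hy)]
    simp only [MulEquiv.coe_toMonoidHom, MulAut.conj_apply]
    rw [afun_mul _ _ (afun_mem g hy), afun_mul _ _ (afun_mem _ (afun_mem g hy)),
      afun_inv_apply g hy, afun_nHom n hy]
    rfl
  obtain ⟨u, hu, hue, hudvd⟩ := h.restrict_lift hYS hg
  have huco : (orderOf u).Coprime p := hco.coprime_dvd_left hudvd
  set Q0 := autInducedBy X V
  have huQ0 : ∀ a ∈ Q0, u * a * u⁻¹ ∈ Q0 := by
    intro a ha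
    obtain ⟨x, hx, -, hxe⟩ := mem_autInducedBy.1 ha
    obtain ⟨x', hx', he⟩ := hX x hx
    refine mem_autInducedBy.2 ⟨x', hx',
      mem_normalizer_of_cj_le (hVY.trans hYS) (hXV x' hx'), fun v hv => ?_⟩
    have hw := afun_mem u⁻¹ hv
    rw [afun_mul _ _ hv, afun_mul _ _ hw, hxe _ hw, hue _ (hXV x hx _ hw), he _ (hVY hw),
      ← hue _ hw, afun_apply_inv u hv]
  have hQ0S : Q0 ≤ autInducedBy S V := autInducedBy_mono hXS V
  have hQ0T : ∀ a ∈ Q0, u * a * u⁻¹ * a⁻¹ ∈ autInducedBy T V := by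
    intro a ha
    refine FusionMeet.autS_inf_le h.pgrp h.nE hVT hV
      ⟨Subgroup.mul_mem _ (hQ0S (huQ0 a ha)) (Subgroup.inv_mem _ (hQ0S ha)), ?_⟩
    have hVS := hVT.trans h.T_le
    have hm := (mem_autGroup hVS).1 (autInducedBy_le hVS (hQ0S ha) : a ∈ F.autGroup V)
    have e : a * u⁻¹ * a⁻¹ = hm.transport (im_afun a) u⁻¹ := afun_ext fun y hy => by
      obtain ⟨x, hx, rfl⟩ : ∃ x ∈ V, afun a x = y :=
        ⟨afun a⁻¹ y, afun_mem _ hy, afun_apply_inv a hy⟩
      rw [hm.afun_transport (im_afun a) _ hx, afun_mul _ _ (afun_mem a hx),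
        afun_inv_apply a hx, afun_mul _ _ hx]
    rw [show u * a * u⁻¹ * a⁻¹ = u * (a * u⁻¹ * a⁻¹) by group, e]
    exact mul_mem hu (FusionWeaklyNormal88.aut_transport h.inv hVT hm (im_afun a) (inv_mem hu))
  obtain ⟨ψ, hψ, hψV, hψN, hψT⟩ := FusionMeetKey.exists_trivial_extension h.pgrp h.sat h.nE hVT hV
    hu huco huQ0 hQ0T
  set M := V ⊔ nK S V Q0 with hMdef
  have hMS : M ≤ S := sup_le (hVT.trans h.T_le) nK_le
  have hψmem : ∀ x ∈ M, ψ x ∈ M := fun x hx => mor_sup_induction hψ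
    (fun v hv => Subgroup.mem_sup_left (hψV v hv ▸ afun_mem u hv))
    (fun n hn => Subgroup.mem_sup_right (hψN n hn)) hx
  have hXn : X ≤ nK S V Q0 := fun x hx => ⟨hXS hx, nHom X V
    ⟨x, hx, mem_normalizer_of_cj_le (hVT.trans h.T_le) (hXV x hx)⟩,
    mem_autInducedBy.2 ⟨x, hx, mem_normalizer_of_cj_le (hVT.trans h.T_le) (hXV x hx),
      fun v hv => afun_nHom _ hv⟩, fun v hv => afun_nHom _ hv⟩
  have hXM : X ≤ M := hXn.trans le_sup_right
  -- a power of order prime to `p`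
  obtain ⟨b0, hb0, hb0e⟩ := hψ.exists_aut (hψ.im_self hψmem)
  have hb0T : ∀ x ∈ M, x⁻¹ * afun b0 x ∈ T := by
    intro x hx
    have hle : M ≤ (⊤ : Subgroup Ω) := le_top
    have hn : V ≤ nK S V Q0 := (hVY.trans le_sup_left).trans hXn
    rw [sup_eq_right.2 hn] at hMdef
    rw [hb0e x hx]
    exact hψT x (hMdef ▸ hx)
  haveI := finite_autGroup (F := F) M
  obtain ⟨k, hk⟩ := FusionMeetKey.exists_exponent (p := p) (n := orderOf b0)
    (orderOf_pos_iff.2 ((F.autGroup M).subtype.isOfFinOrder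
      (isOfFinOrder_of_finite (⟨b0, hb0⟩ : F.autGroup M)))).ne'
  have hb0V : ∀ x ∈ V, afun u x = afun b0 x := fun x hx =>
    ((hb0e x (Subgroup.mem_sup_left hx)).trans (hψV x hx)).symm
  have huk : u ^ k = u :=
    (hk u (S5120.orderOf_dvd_of_restrict (le_sup_left : V ≤ M) hb0V)).2 huco
  set Ψ := b0 ^ k with hΨdef
  have hΦ : Mor F M (afun Ψ) := (mem_autGroup hMS).1 (pow_mem hb0 k)
  have hΦV : ∀ x ∈ V, afun Ψ x = afun u x := fun x hx => by
    rw [hΨdef, ← S5120.afun_pow_eq (le_sup_left : V ≤ M) hb0V k x hx, huk]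
  have hΦT : ∀ (n : ℕ), ∀ x ∈ M, x⁻¹ * afun (b0 ^ n) x ∈ T := by
    intro n
    induction n with
    | zero => intro x hx; rw [pow_zero, afun_one hx]; simp
    | succ n ih =>
      intro x hx
      have := T.mul_mem (ih x hx) (hb0T _ (afun_mem (b0 ^ n) hx))
      rw [pow_succ', afun_mul _ _ hx]
      simpa [mul_assoc] using this
  have hCT : ∀ x ∈ T, (∀ v ∈ V, cj x v = v) → x ∈ V := fun x hx hv =>
    hc.2 V (FusionSysBasic.isConj_refl (hVT.trans h.T_le)) (mem_centralizerIn.2 ⟨hx, hv⟩)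
  -- `Ψ` preserves `Y`
  have hΦY : ∀ y ∈ Y, afun Ψ y ∈ Y := by
    intro y hy
    have hyM : y ∈ M := hXM (Subgroup.mem_sup_left hy)
    have hgy := afun_mem g hy
    set d := (afun g y)⁻¹ * afun Ψ y with hd
    have hdT : d ∈ T := by
      have := T.mul_mem (T.inv_mem (hg.2.1 y hy)) (hΦT k y hyM)
      simpa [hd, hΨdef, mul_assoc] using this
    have hdV : ∀ v ∈ V, cj d v = v := by
      intro v hv
      have hw := afun_mem u⁻¹ hv
      have hcw : cj y (afun u⁻¹ v) ∈ V := hXV y (Subgroup.mem_sup_left hy) _ hw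
      have e1 : cj (afun Ψ y) v = afun u (cj y (afun u⁻¹ v)) := by
        rw [← hΦV _ hcw, hΦ.map_cj hyM (Subgroup.mem_sup_left hw), hΦV _ hw, afun_apply_inv u hv]
      have e2 : cj (afun g y) v = afun u (cj y (afun u⁻¹ v)) := by
        rw [hue _ hcw, ((mem_autGroup hYS).1 hg.1).map_cj hy (hVY hw), ← hue _ hw,
          afun_apply_inv u hv]
      rw [hd, ← cj_cj, e1, ← e2, cj_inv_cj]
    have := Y.mul_mem hgy (hVY (hCT d hdT hdV))
    rwa [hd, mul_inv_cancel_left] at this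
  have hΦm := hΦ.restrict_to ((le_sup_left : Y ≤ X).trans hXM)
  obtain ⟨b, hb, hbe⟩ := hΦm.exists_aut (hΦm.im_self hΦY)
  have hbco : (orderOf b).Coprime p := (hk b0 dvd_rfl).1.coprime_dvd_left
    (S5120.orderOf_dvd_of_restrict ((le_sup_left : Y ≤ X).trans hXM) hbe)
  have hbA : b ∈ h.lifts hYS := by
    refine ⟨hb, fun y hy => ?_, ((mem_autGroup hVT).1 hu).congr fun v hv => ?_⟩
    · rw [hbe y hy]; exact hΦT k y (hXM (Subgroup.mem_sup_left hy))
    · rw [hbe v (hVY hv), hΦV v hv]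
  -- the kernels
  let J : Subgroup (MulAut Y) :=
    { carrier := {a | a ∈ h.lifts hYS ∧ ∀ v ∈ V, afun a v = v}
      one_mem' := ⟨one_mem _, fun v hv => afun_one (hVY hv)⟩
      mul_mem' := fun ⟨ha, ha'⟩ ⟨hb, hb'⟩ => ⟨mul_mem ha hb, fun v hv => by
        rw [afun_mul _ _ (hVY hv), hb' v hv, ha' v hv]⟩
      inv_mem' := fun {a} ⟨ha, ha'⟩ => ⟨inv_mem ha, fun v hv => by
        conv_lhs => rw [← ha' v hv]
        exact afun_inv_apply a (hVY hv)⟩ }
  haveI := finite_of_le hYS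
  have hJp : IsPGroup p J := fun a => by
    obtain ⟨j, hj⟩ := pow_eq_one_of_stabilizes (h.pgrp.to_le hYS) (n := 2)
      (fun i => if i = 0 then ⊥ else if i = 1 then V else Y) rfl rfl
      (fun i => by
        split_ifs
        · exact bot_le
        · exact hVY
        · exact le_rfl)
      (fun i hi => by
        interval_cases i
        · simp
        · simpa using hVY)
      (α := (a : MulAut Y)) (fun i hi y hy => by
        interval_cases i
        · simp only [zero_add, if_neg one_ne_zero, if_pos rfl] at hy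
          simp [a.2.2 y hy]
        · simp only [if_neg one_ne_zero, if_pos rfl]
          simp only [show (1 + 1 = 0) = False by simp, show (1 + 1 = 1) = False by simp,
            if_false] at hy
          exact ⟨Y.mul_mem (Y.inv_mem hy) (afun_mem _ hy), a.2.1.2.1 y hy⟩)
    exact ⟨j, Subtype.ext (by simpa using hj)⟩
  have hJn : ∀ a ∈ F.autGroup Y, ∀ j ∈ J, a * j * a⁻¹ ∈ J := fun a ha j hj =>
    ⟨h.lifts_conj hYS ha hj.1, fun v hv => by
      have hm := ((mem_autGroup hYS).1 (inv_mem ha)).restrict_to hVY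
      have hv' : afun a⁻¹ v ∈ V := ⟨afun_mem _ hv.1, closed_apply h.closedT hm hVT hv⟩
      rw [afun_mul _ _ hv.1, afun_mul _ _ (afun_mem _ hv.1), hj.2 _ hv', afun_apply_inv a hv.1]⟩
  have hJS := le_autInducedBy h.pgrp h.sat hY (fun a (ha : a ∈ J) => (h.mem_lifts.1 ha.1).1) hJn hJp
  set J' := (autInducedBy V Y).subgroupOf (F.autGroup Y) with hJ'
  haveI : J'.Normal := ⟨fun m hm a => by
    rw [hJ', Subgroup.mem_subgroupOf] at hm ⊢
    obtain ⟨v, hv, -, hve⟩ := mem_autInducedBy.1 hm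
    have ha := (mem_autGroup hYS).1 a.2
    refine mem_autInducedBy.2 ⟨afun (a : MulAut Y) v,
      closed_apply h.closedT (ha.restrict_to hVY) hVT hv |> fun hT => ⟨afun_mem _ hv.1, hT⟩,
      Subgroup.le_normalizer (afun_mem _ hv.1), fun y hy => ?_⟩
    have hy' := afun_mem (a : MulAut Y)⁻¹ hy
    rw [Subgroup.coe_mul, Subgroup.coe_mul, Subgroup.coe_inv, afun_mul _ _ hy,
      afun_mul _ _ hy', hve _ hy', ha.map_cj hv.1 hy', afun_apply_inv _ hy]⟩
  refine ⟨afun Ψ, hΦ.restrict_to hXM, fun x hx => hΦT k x (hXM hx), fun g' hg' hg'co hg'e => ?_⟩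
  set j := g' * b⁻¹ with hjdef
  have hjJ : j ∈ J := by
    refine ⟨mul_mem hg' (inv_mem hbA), fun v hv => ?_⟩
    have hv' : afun b⁻¹ v ∈ V := by
      have hm := ((mem_autGroup hYS).1 (inv_mem hb)).restrict_to hVY
      exact ⟨afun_mem _ hv.1, closed_apply h.closedT hm hVT hv⟩
    rw [afun_mul _ _ hv.1, hg'e _ hv', ← hue _ hv', ← hΦV _ hv', ← hbe _ hv'.1,
      afun_apply_inv b hv.1]
  obtain ⟨s, hs, hsn, hse⟩ := mem_autInducedBy.1 (hJS hjJ)
  have hsV : ∀ v ∈ V, cj s v = v := fun v hv => by rw [← hse v hv.1, hjJ.2 v hv]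
  have hsM : s ∈ M := Subgroup.mem_sup_right
    ⟨hs, 1, one_mem _, fun v hv => by rw [afun_one hv, hsV v hv]⟩
  set t := afun Ψ s * s⁻¹ with ht
  have htV : t ∈ V := by
    refine hCT t ?_ fun v hv => ?_
    · have h1 := h.cjT hs (hΦT k s hsM)
      simpa [ht, hΨdef, cj_apply, mul_assoc] using h1
    · have hw := afun_mem u⁻¹ hv
      have e1 : cj (afun Ψ s) v = v := by
        conv_lhs => rw [← afun_apply_inv u hv, ← hΦV _ hw, ← hΦ.map_cj hsM (Subgroup.mem_sup_left hw),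
          hsV _ hw, hΦV _ hw, afun_apply_inv u hv]
      conv_lhs => rw [ht, ← cj_cj, show cj s⁻¹ v = v by
        conv_lhs => rw [← hsV v hv]
        exact cj_inv_cj s v]
      exact e1
  have hjb : b * j * b⁻¹ * j⁻¹ ∈ autInducedBy V Y := by
    refine mem_autInducedBy.2 ⟨t, htV, Subgroup.le_normalizer htV.1, fun y hy => ?_⟩
    have h1 : afun j⁻¹ y = cj s⁻¹ y := by
      have hy' : cj s⁻¹ y ∈ Y := cj_mem_of_normalizer (Subgroup.inv_mem _ hsn) hy
      conv_lhs => rw [← cj_cj_inv s y, ← hse _ hy']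
      exact afun_inv_apply j hy'
    have hy1 : cj s⁻¹ y ∈ Y := cj_mem_of_normalizer (Subgroup.inv_mem _ hsn) hy
    have hy2 := afun_mem b⁻¹ hy1
    rw [afun_mul _ _ hy, h1, afun_mul _ _ hy1, afun_mul _ _ hy2, hse _ hy2,
      hbe _ (cj_mem_of_normalizer hsn hy2), hΦ.map_cj hsM (hXM (Subgroup.mem_sup_left hy2)),
      ← hbe _ hy2, afun_apply_inv b hy1, cj_cj, ht]
  haveI := finite_autGroup (F := F) Y
  let q := QuotientGroup.mk' J'
  set G' : F.autGroup Y := ⟨g', hg'.1⟩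
  set B' : F.autGroup Y := ⟨b, hb⟩
  have hcomm : Commute (q B') (q (G' * B'⁻¹)) := by
    show q B' * q (G' * B'⁻¹) = q (G' * B'⁻¹) * q B'
    rw [← mul_inv_eq_one, ← map_mul, ← map_mul, ← map_inv, ← map_mul, QuotientGroup.mk'_apply,
      QuotientGroup.eq_one_iff, hJ', Subgroup.mem_subgroupOf]
    convert hjb using 1
    simp [G', B', hjdef, mul_assoc]
  have hj1 : q (G' * B'⁻¹) = 1 := by
    have hc1 : Commute (q G') (q B'⁻¹) := by
      have h1 : Commute (q (G' * B'⁻¹) * q B') (q B') := hcomm.symm.mul_left (Commute.refl _)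
      rw [← map_mul, inv_mul_cancel_right] at h1
      rw [map_inv]
      exact h1.inv_right
    rw [← orderOf_eq_one_iff]
    obtain ⟨i, hi⟩ := hJp ⟨j, hjJ⟩
    refine Nat.eq_one_of_dvd_coprimes (k := orderOf (q (G' * B'⁻¹))) ?_
      (a := orderOf g' * orderOf b) (b := p ^ i) ?_ ?_
    · exact (Nat.Coprime.mul_left hg'co hbco).pow_right i
    · rw [map_mul]
      refine hc1.orderOf_mul_dvd_lcm.trans (Nat.lcm_dvd ?_ ?_)
      · exact dvd_mul_of_dvd_left ((orderOf_map_dvd q G').trans (by rw [← Subgroup.orderOf_coe])) _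
      · refine dvd_mul_of_dvd_right ?_ _
        rw [map_inv, orderOf_inv]
        exact (orderOf_map_dvd q B').trans (by rw [← Subgroup.orderOf_coe])
    · refine orderOf_dvd_of_pow_eq_one ?_
      have hi' : j ^ p ^ i = 1 := congrArg Subtype.val hi
      rw [← map_pow, show (G' * B'⁻¹) ^ p ^ i = 1 from Subtype.ext hi', map_one]
  rw [QuotientGroup.mk'_apply, QuotientGroup.eq_one_iff, hJ', Subgroup.mem_subgroupOf] at hj1
  obtain ⟨v, hv, -, hve⟩ := mem_autInducedBy.1 hj1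
  refine ⟨v, hv, fun x hx => ?_⟩
  rw [← hbe x hx, ← hve _ (afun_mem b hx)]
  simp only [Subgroup.coe_mul, Subgroup.coe_inv, G', B']
  rw [afun_mul _ _ (afun_mem b hx), afun_inv_apply b hx]

/-- Lifts of order prime to `p` extend trivially modulo `T`. -/
theorem key {Y : Subgroup Ω} (hY : F.IsFullyNormalized Y) (hV : F.IsFullyNormalized (Y ⊓ T))
    (hc : TC F T (Y ⊓ T)) {Q : Subgroup (MulAut Y)} (hQ : Q ≤ autInducedBy S Y) {g : MulAut Y}
    (hg : g ∈ h.lifts hY.1) (hco : (orderOf g).Coprime p) (hgQ : ∀ a ∈ Q, g * a * g⁻¹ ∈ Q) :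
    ∃ ψ, Mor F (Y ⊔ nK S Y Q) ψ ∧ (∀ x ∈ Y, ψ x = afun g x) ∧
      (∀ n ∈ nK S Y Q, ψ n ∈ nK S Y Q) ∧ ∀ x ∈ Y ⊔ nK S Y Q, x⁻¹ * ψ x ∈ T := by
  obtain ⟨Φ, hΦ, hΦT, hu⟩ := h.key0 hY hV hc hQ hg hco hgQ
  obtain ⟨v, hv, hve⟩ := hu g hg hco fun _ _ => rfl
  have hYS := hY.1
  have hvS : v ∈ S := hYS hv.1
  have hψ : Mor F (Y ⊔ nK S Y Q) (cj v ∘ Φ) := hΦ.comp_im (mor_cj hΦ.im_le hvS)
  refine ⟨cj v ∘ Φ, hψ, fun x hx => (hve x hx).symm, fun n hn => ?_, fun x hx => ?_⟩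
  · obtain ⟨-, l, hl, hle⟩ := id hn
    refine ⟨hψ.apply_mem (Subgroup.mem_sup_right hn), _, hgQ l hl, fun y hy => ?_⟩
    have hz := afun_mem g⁻¹ hy
    have hzl : afun l (afun g⁻¹ y) ∈ Y := afun_mem l hz
    rw [afun_mul _ _ hy, afun_mul _ _ hz, hve _ hzl]
    show cj v (Φ (afun l (afun g⁻¹ y))) = _
    conv_rhs => rw [← afun_apply_inv g hy, hve _ hz]
    show (cj v ∘ Φ) (afun l (afun g⁻¹ y)) = cj ((cj v ∘ Φ) n) ((cj v ∘ Φ) (afun g⁻¹ y))
    rw [← hψ.map_cj (Subgroup.mem_sup_right hn) (Subgroup.mem_sup_left hz), hle _ hz]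
  · have h1 := hΦT x hx
    have hxS : x ∈ S := hΦ.le hx
    have h3 : cj v (Φ x) = x * (cj x⁻¹ v * (x⁻¹ * Φ x) * v⁻¹) := by
      simp [cj_apply, mul_assoc]
    rw [Function.comp_apply, h3, inv_mul_cancel_left]
    exact T.mul_mem (T.mul_mem (h.cjT (S.inv_mem hxS) hv.2) h1) (T.inv_mem hv.2)

/-- Two lifts of order prime to `p` with the same restriction to the part in `T` differ by a
conjugation by that part. -/
theorem unique_lift {P : Subgroup Ω} (hP : P ≤ S) (hc : TC F T (P ⊓ T)) {a b : MulAut P}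
    (ha : a ∈ h.lifts hP) (hb : b ∈ h.lifts hP) (hac : (orderOf a).Coprime p)
    (hbc : (orderOf b).Coprime p) (he : ∀ x ∈ P ⊓ T, afun a x = afun b x) :
    ∃ v ∈ P ⊓ T, ∀ x ∈ P, afun a x = cj v (afun b x) := by
  obtain ⟨Y, φ, hY, hV, hφ, -, him⟩ := h.exists_rep hP
  have hφP := hφ.restrict_to (le_normalizerIn hP)
  have e0 : im (P ⊓ T) φ = Y ⊓ T := by rw [h.im_inf hφP, him]
  have hcY : TC F T (Y ⊓ T) := h.tc_conj hc
    (FusionSysBasic.isConj_iff.2 ⟨φ, hφP.restrict_to inf_le_left, e0⟩)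
  set t := hφP.transport him
  obtain ⟨Φ, hΦ, -, hu⟩ := h.key0 (Q := ⊥) hY hV hcY bot_le (h.lifts_transport hY.1 hφP him ha)
    (by rwa [MulEquiv.orderOf_eq]) (fun q hq => by rw [Subgroup.mem_bot] at hq ⊢; simp [hq])
  obtain ⟨v, hv, hve⟩ := hu _ (h.lifts_transport hY.1 hφP him ha) (by rwa [MulEquiv.orderOf_eq])
    fun _ _ => rfl
  obtain ⟨w, hw, hwe⟩ := hu _ (h.lifts_transport hY.1 hφP him hb) (by rwa [MulEquiv.orderOf_eq])
    fun y hy => by
      obtain ⟨x, hx, rfl⟩ := (hφP.restrict_to inf_le_left).mem_im.1 (e0.ge hy)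
      rw [hφP.afun_transport him _ hx.1, hφP.afun_transport him _ hx.1, he x hx]
  obtain ⟨z, hz, hze⟩ := (hφP.restrict_to inf_le_left).mem_im.1
    (e0.ge ((Y ⊓ T).mul_mem hv ((Y ⊓ T).inv_mem hw)))
  refine ⟨z, hz, fun x hx => hφP.injOn (afun_mem a hx)
    (cj_mem_of_normalizer (Subgroup.le_normalizer hz.1) (afun_mem b hx)) ?_⟩
  have hy : φ x ∈ Y := him ▸ apply_mem_im hx
  have e1 := hve _ hy
  have e2 := hwe _ hy
  rw [hφP.afun_transport him _ hx] at e1 e2
  rw [e1, hφP.map_cj hz.1 (afun_mem b hx), hze, e2, cj_cj, inv_mul_cancel_right]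

end Setup

end Cfsg.Agent.FusionProductR5
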