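import Cfsg.Agent.Lib.FusionProductR5Sat
import Cfsg.Agent.Lib.FusionPPowerIndex88

/-!
For `E ◁ F` over `T` with `hyp(E) = T` and `T ≤ R ≤ S` there is exactly one saturated subsystem of
`F` over `R` with hyperfocal subgroup `T` in which `E` has `p`-power index (`exists_product`,
`product_le`).
-/

set_option autoImplicit false

namespace Cfsg.Agent.FusionProductR5

open Cfsg Cfsg.FusionSystem Cfsg.Agent.FusionSysBasic Cfsg.Agent.FusionSysSaturated
open Cfsg.Agent.FusionSysNormal Cfsg.Agent.FusionKit88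

variable {Ω : Type*} [Group Ω] {S T R : Subgroup Ω} [Finite S] {F : FusionSystem S}
  {E : FusionSystem T} {p : ℕ} [Fact p.Prime]

/-- A subsystem over `R` of the kind of `E R`. -/
structure IsProd (F : FusionSystem S) (E : FusionSystem T) (p : ℕ) (D : FusionSystem R) :
    Prop where
  sat : D.IsSaturated p
  sub : D.IsSubsystemOf F
  hyp : D.hyperfocalSubgroup p = T
  idx : E.HasPPowerIndexIn D p

namespace Setup

variable (h : Setup F E p)
include h

omit [Fact p.Prime] in
theorem tc_of_centric {V : Subgroup Ω} (hV : E.IsCentric V) : TC F T V := by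
  refine ⟨hV.1, fun Q hQ => ?_⟩
  obtain ⟨f, hf, rfl⟩ := FusionSysBasic.isConj_iff.1 hQ
  exact (FusionWeaklyNormal88.centric_image h.inv hV hf).2 _
    (FusionSysBasic.isConj_refl (im_le_iff.2 fun x hx => closed_apply h.closedT hf hV.1 hx))

variable {D : FusionSystem R}

theorem le_R (hD : IsProd F E p D) : T ≤ R := by
  haveI := finite_of_le (sub_le hD.sub)
  exact hD.hyp ▸ FusionPPower.hyperfocal_le D

/-- Automorphisms of order prime to `p` in such a subsystem are lifts. -/
theorem prod_coprime_lifts (hD : IsProd F E p D) {P : Subgroup Ω} (hP : P ≤ R) {a : MulAut P}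
    (ha : a ∈ D.autGroup P) (hco : (orderOf a).Coprime p) :
    a ∈ h.lifts (hP.trans (sub_le hD.sub)) := by
  have hm := (mem_autGroup hP).1 ha
  have hmF := sub_mor hD.sub hm
  obtain ⟨u, hu, hue⟩ := (hm.restrict_to (inf_le_left : P ⊓ T ≤ P)).exists_aut
    (by rw [h.im_inf hmF, im_afun])
  have huE : u ∈ E.autGroup (P ⊓ T) := S5120.coprime_mem_autGroup hD.idx inf_le_right hu
    (hco.coprime_dvd_left (S5120.orderOf_dvd_of_restrict inf_le_left hue))
  refine ⟨mem_autGroup_of_mor hmF, fun x hx => ?_,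
    ((mem_autGroup inf_le_right).1 huE).congr fun x hx => hue x hx⟩
  exact hD.hyp.le (FusionInduct88.gen_mem_hyperfocal hP ha hco hx)

/-- The subgroups carrying the automizers of such a subsystem are centric relative to `T`. -/
theorem prod_tc (hD : IsProd F E p D) {P : Subgroup Ω} (hP : P = R ∨ D.IsEssential p P) :
    TC F T (P ⊓ T) := by
  have hTR := h.le_R hD
  have hRS := sub_le hD.sub
  haveI := finite_of_le hRS
  have hRp : IsPGroup p R := h.pgrp.to_le hRS
  rcases hP with rfl | hP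
  · rw [inf_eq_right.2 hTR]
    refine ⟨le_rfl, fun Q hQ => ?_⟩
    obtain ⟨f, hf, rfl⟩ := FusionSysBasic.isConj_iff.1 hQ
    rw [hf.im_self fun x hx => closed_apply h.closedT hf le_rfl hx]
    exact inf_le_left
  have hrad := FusionSysAlperin.radical_of_essential hRp hP
  have hPR : P ≤ R := hP.1.1
  have hcen : D.IsCentric P := hP.1
  have hPT : P ⊓ T ≤ R := inf_le_left.trans hPR
  obtain ⟨V, hPV, hV⟩ := FusionSysSaturated.exists_fullyNormalized (F := D) hPT
  obtain ⟨θ, hθ, -, hθV⟩ := exists_map_to_fullyNormalized hRp hD.sat hV hPV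
  have hPN : P ≤ normalizerIn R (P ⊓ T) := fun x hx =>
    ⟨hPR hx, mem_normalizer_of_cj_le hPT fun y hy =>
      ⟨cj_mem_of_normalizer (Subgroup.le_normalizer hx) hy.1, h.cjT (hRS (hPR hx)) hy.2⟩⟩
  have hθP := hθ.restrict_to hPN
  set P' := im P θ
  have hP'V : P' ⊓ T = V := by rw [← h.im_inf (sub_mor hD.sub hθP), hθV]
  have hVT : V ≤ T := hP'V ▸ inf_le_right
  have hCV : centralizerIn T V ≤ V := by
    intro x hx
    by_contra hxV
    have hne : ¬ centralizerIn T V ≤ P' := fun hle => hxV (hP'V ▸ ⟨hle hx, hx.1⟩)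
    obtain ⟨c, hc, hcn, hcP⟩ := exists_norm_outside hRp hθP.im_le
      (inf_le_left.trans hTR : centralizerIn T V ≤ R) (fun r hr t ht =>
        mem_centralizerIn.2 ⟨h.cjT (hRS (hθP.im_le hr)) ht.1, fun y hy => by
          rw [← hP'V] at hy
          have hy' : cj r⁻¹ y ∈ V := hP'V ▸ ⟨P'.mul_mem (P'.mul_mem (P'.inv_mem hr) hy.1)
            (by simpa using hr), h.cjT (S.inv_mem (hRS (hθP.im_le hr))) hy.2⟩
          have h1 := (mem_centralizerIn.1 ht).2 _ hy'
          conv_lhs => rw [← cj_cj_inv r y]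
          conv_rhs => rw [← cj_cj_inv r y, ← h1]
          simp [cj_apply, mul_assoc]⟩) hne
    let J : Subgroup (MulAut P) :=
      { carrier := {a | a ∈ D.autGroup P ∧ (∀ x ∈ P, x⁻¹ * afun a x ∈ T) ∧
          ∀ x ∈ P ⊓ T, afun a x = x}
        one_mem' := ⟨one_mem _, fun x hx => by rw [afun_one hx]; simp,
          fun x hx => afun_one hx.1⟩
        mul_mem' := fun {a b} ⟨ha, ha1, ha2⟩ ⟨hb, hb1, hb2⟩ => ⟨mul_mem ha hb, fun x hx => by
          rw [afun_mul _ _ hx]
          have := T.mul_mem (hb1 x hx) (ha1 _ (afun_mem b hx))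
          simpa [mul_assoc] using this, fun x hx => by
          rw [afun_mul _ _ hx.1, hb2 x hx, ha2 x hx]⟩
        inv_mem' := fun {a} ⟨ha, ha1, ha2⟩ => ⟨inv_mem ha, fun x hx => by
          have h1 := T.inv_mem (ha1 _ (afun_mem a⁻¹ hx))
          rw [afun_apply_inv a hx] at h1
          simpa using h1, fun x hx => by
          conv_lhs => rw [← ha2 x hx]
          exact afun_inv_apply a hx.1⟩ }
    haveI := finite_of_le (hPR.trans hRS)
    have hJp : IsPGroup p J := fun a => by
      obtain ⟨j, hj⟩ := pow_eq_one_of_stabilizes (h.pgrp.to_le (hPR.trans hRS)) (n := 2)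
        (fun i => if i = 0 then ⊥ else if i = 1 then P ⊓ T else P) rfl rfl
        (fun i => by
          split_ifs
          · exact bot_le
          · exact inf_le_left
          · exact le_rfl)
        (fun i hi => by
          interval_cases i
          · simp
          · simp)
        (α := (a : MulAut P)) (fun i hi y hy => by
          interval_cases i
          · simp only [zero_add, if_neg one_ne_zero, if_pos rfl] at hy
            simp [a.2.2.2 y hy]
          · simp only [if_neg one_ne_zero, if_pos rfl]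
            simp only [show (1 + 1 = 0) = False by simp, show (1 + 1 = 1) = False by simp,
              if_false] at hy
            exact ⟨P.mul_mem (P.inv_mem hy) (afun_mem _ hy), a.2.2.1 y hy⟩)
      exact ⟨j, Subtype.ext (by simpa using hj)⟩
    set J0 := J.subgroupOf (D.autGroup P)
    haveI : J0.Normal := ⟨fun o ho a => by
      rw [Subgroup.mem_subgroupOf] at ho ⊢
      have hm := (mem_autGroup hPR).1 a.2
      have hm' := (mem_autGroup hPR).1 (inv_mem a.2)
      refine ⟨mul_mem (mul_mem a.2 ho.1) (inv_mem a.2), fun x hx => ?_, fun x hx => ?_⟩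
      · have hx' := afun_mem (a : MulAut P)⁻¹ hx
        rw [Subgroup.coe_mul, Subgroup.coe_mul, Subgroup.coe_inv, afun_mul _ _ hx,
          afun_mul _ _ hx']
        conv in x⁻¹ => rw [← afun_apply_inv (a : MulAut P) hx]
        rw [← hm.map_inv hx', ← hm.map_mul (P.inv_mem hx') (afun_mem o.1 hx')]
        exact closed_apply' h.closedT (sub_mor hD.sub hm)
          (P.mul_mem (P.inv_mem hx') (afun_mem o.1 hx')) (ho.2.1 _ hx')
      · have hx' : afun (a : MulAut P)⁻¹ x ∈ P ⊓ T :=
          ⟨afun_mem _ hx.1, closed_apply' h.closedT (sub_mor hD.sub hm') hx.1 hx.2⟩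
        rw [Subgroup.coe_mul, Subgroup.coe_mul, Subgroup.coe_inv, afun_mul _ _ hx.1,
          afun_mul _ _ (afun_mem _ hx.1), ho.2.2 _ hx', afun_apply_inv _ hx.1]⟩
    have hJI : J ≤ Inn P := by
      intro o ho
      rw [← hrad.2]
      exact ⟨⟨o, ho.1⟩, HallCore.le_pCore (N := J0)
        (hJp.of_equiv (Subgroup.subgroupOfEquivOfLe (fun a ha => ha.1 : J ≤ D.autGroup P)).symm)
        ho, rfl⟩
    obtain ⟨θi, hθi, hθiθ, hθθi, hθiP⟩ := hθP.exists_inv
    have hcR : c ∈ R := hTR hc.1
    have hm : Mor D P (θi ∘ (cj c ∘ θ)) :=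
      ((hθP.comp (mor_cj hθP.im_le hcR) fun x hx => apply_mem_im hx).comp hθi
        fun x hx => cj_mem_of_normalizer hcn (apply_mem_im hx))
    obtain ⟨a, ha, hae⟩ := hm.exists_aut (hm.im_self fun x hx =>
      hθiP _ (cj_mem_of_normalizer hcn (apply_mem_im hx)))
    have haθ : ∀ x ∈ P, θ (afun a x) = cj c (θ x) := fun x hx => by
      rw [hae x hx]
      exact hθθi _ (cj_mem_of_normalizer hcn (apply_mem_im hx))
    have haJ : a ∈ J := by
      refine ⟨ha, fun x hx => ?_, fun x hx => ?_⟩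
      · have hm' := P.mul_mem (P.inv_mem hx) (afun_mem a hx)
        have h1 : θ (x⁻¹ * afun a x) ∈ T := by
          rw [hθP.map_mul (P.inv_mem hx) (afun_mem a hx), hθP.map_inv hx, haθ x hx]
          exact (h.small_cj (hθP.im_le.trans hRS) hc.1).1 _ (apply_mem_im hx)
        have h2 := closed_apply' h.closedT (sub_mor hD.sub hθi) (apply_mem_im (f := θ) hm') h1
        rwa [hθiθ _ hm'] at h2
      · refine hθP.injOn (afun_mem a hx.1) hx.1 ?_
        rw [haθ x hx.1]
        exact (mem_centralizerIn.1 hc).2 _ (hθV ▸ apply_mem_im hx)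
    obtain ⟨z, hz⟩ := hJI haJ
    have hzc : (θ z)⁻¹ * c ∈ centralizerIn R P' := mem_centralizerIn.2
      ⟨R.mul_mem (R.inv_mem (hθP.apply_mem z.2)) hcR, fun y hy => by
        obtain ⟨x, hx, rfl⟩ := hθP.mem_im.1 hy
        rw [← cj_cj, ← haθ x hx, show afun a x = cj (z : Ω) x by
          rw [← hz, afun_apply _ hx]; rfl, hθP.map_cj z.2 hx, cj_inv_cj]⟩
    have := P'.mul_mem (apply_mem_im (f := θ) z.2)
      ((FusCentric.centric_conj hcen (FusionSysBasic.isConj_iff.2 ⟨θ, hθP, rfl⟩)).2 P'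
        (FusionSysBasic.isConj_refl hθP.im_le) hzc)
    rw [mul_inv_cancel_left] at this
    exact hcP this
  have hcE : E.IsCentric V := by
    refine ⟨hVT, fun Q hQ c hc => ?_⟩
    obtain ⟨f, hf, -, him⟩ := exists_map_to_fullyNormalized hRp hD.sat hV
      (sub_isConj hD.idx.1 (isConj_symm hQ))
    have hQR : Q ≤ R := (isConj_right_le hQ).trans hTR
    have hcS : c ∈ centralizerIn R Q := ⟨hTR hc.1, hc.2⟩
    have hcN := centralizerIn_le_normalizerIn hcS
    have h1 := (mor_centralizer_iff hf hQR him hcN).2 hcS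
    have h2 := hCV ⟨closed_apply' h.closedT (sub_mor hD.sub hf) hcN hc.1, h1.2⟩
    obtain ⟨x, hx, hxe⟩ := (hf.restrict_to (le_normalizerIn hQR)).mem_im.1 (him.ge h2)
    exact hf.injOn (le_normalizerIn hQR hx) hcN hxe ▸ hx
  exact h.tc_conj (h.tc_of_centric hcE) (isConj_symm (sub_isConj hD.sub hPV))

/-- Such subsystems contain the lifts of order prime to `p` on the subgroups of `R`. -/
theorem lift_mem (hD : IsProd F E p D) {P : Subgroup Ω} (hP : P ≤ R) (hc : TC F T (P ⊓ T))
    {a : MulAut P} (ha : a ∈ h.lifts (hP.trans (sub_le hD.sub))) (hco : (orderOf a).Coprime p) :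
    a ∈ D.autGroup P := by
  have hTR := h.le_R hD
  have hRS := sub_le hD.sub
  haveI := finite_of_le hRS
  have hRp : IsPGroup p R := h.pgrp.to_le hRS
  have hPT : P ⊓ T ≤ R := inf_le_left.trans hP
  obtain ⟨V, hPV, hV⟩ := FusionSysSaturated.exists_fullyNormalized (F := D) hPT
  obtain ⟨θ, hθ, -, hθV⟩ := exists_map_to_fullyNormalized hRp hD.sat hV hPV
  have hPN : P ≤ normalizerIn R (P ⊓ T) := fun x hx =>
    ⟨hP hx, mem_normalizer_of_cj_le hPT fun y hy =>
      ⟨cj_mem_of_normalizer (Subgroup.le_normalizer hx) hy.1, h.cjT (hRS (hP hx)) hy.2⟩⟩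
  have hθP := hθ.restrict_to hPN
  have hθF := sub_mor hD.sub hθP
  set P' := im P θ with hP'
  have hP'R : P' ≤ R := hθP.im_le
  have hP'S := hP'R.trans hRS
  have hP'V : P' ⊓ T = V := by rw [← h.im_inf hθF, hθV]
  have hcV : TC F T (P' ⊓ T) := h.tc_conj hc (hP'V.symm ▸ sub_isConj hD.sub hPV)
  set a' := hθF.transport hP'.symm a with ha'
  have ha'L : a' ∈ h.lifts hP'S := h.lifts_transport hP'S hθF hP'.symm ha
  have ha'co : (orderOf a').Coprime p := by rwa [ha', MulEquiv.orderOf_eq]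
  obtain ⟨u, hu, hue, hudvd⟩ := h.restrict_lift hP'S ha'L
  have ha'm := (mem_autGroup hP'S).1 ha'L.1
  set C := centralizerIn R (P' ⊓ T) with hC
  set M := P' ⊔ C with hMdef
  have hCR : C ≤ R := inf_le_left
  have hPC : ∀ y ∈ P', ∀ c ∈ C, cj y c ∈ C := fun y hy c hc =>
    mem_centralizerIn.2 ⟨R.mul_mem (R.mul_mem (hP'R hy) hc.1) (R.inv_mem (hP'R hy)), fun v hv => by
      have hv' : cj y⁻¹ v ∈ P' ⊓ T := ⟨P'.mul_mem (P'.mul_mem (P'.inv_mem hy) hv.1) (by simpa using hy),
        h.cjT (S.inv_mem (hP'S hy)) hv.2⟩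
      have h1 := (mem_centralizerIn.1 hc).2 _ hv'
      conv_lhs => rw [← cj_cj_inv y v]
      conv_rhs => rw [← cj_cj_inv y v, ← h1]
      simp [cj_apply, mul_assoc]⟩
  have hMR : M ≤ R := sup_le hP'R hCR
  have hP'n : ∀ y ∈ P', ∀ v ∈ P' ⊓ T, cj y v ∈ P' ⊓ T := fun y hy v hv =>
    ⟨cj_mem_of_normalizer (Subgroup.le_normalizer hy) hv.1, h.cjT (hP'S hy) hv.2⟩
  have hMn : M ≤ Subgroup.normalizer ((P' ⊓ T : Subgroup Ω) : Set Ω) := sup_le
    (fun y hy => mem_normalizer_of_cj_le (inf_le_left.trans hP'S) (hP'n y hy))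
    (centralizerIn_le_normalizerIn.trans inf_le_right)
  have hVfn : D.IsFullyNormalized (P' ⊓ T) := hP'V.symm ▸ hV
  have huD : Mor D (P' ⊓ T) (afun u) := sub_mor hD.idx.1 ((mem_autGroup inf_le_right).1 hu)
  obtain ⟨e, he, hee⟩ := (receptive_iff.1 (receptive_of_fullyNormalized hRp hD.sat hVfn)).2
    (P' ⊓ T) _ M huD (im_afun u) hMR hMn fun n hn => by
      have hN : P' ≤ Subgroup.normalizer (C : Set Ω) := fun r hr =>
        mem_normalizer_of_cj_le (hCR.trans hRS) fun c hc => hPC r hr c hc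
      have hn' : n ∈ (↑(P' ⊔ C) : Set Ω) := hn
      rw [Subgroup.coe_mul_of_left_le_normalizer_right P' C hN] at hn'
      obtain ⟨y, hy, c, hcC, rfl⟩ := hn'
      refine ⟨afun a' y, hP'R (afun_mem a' hy), fun v hv => ?_⟩
      rw [← cj_cj, (mem_centralizerIn.1 hcC).2 v hv, hue _ (hP'n y hy v hv),
        ha'm.map_cj hy hv.1, hue v hv]
  have he1 := he.restrict_to (le_sup_right : M ≤ P' ⊓ T ⊔ M)
  have hVM : P' ⊓ T ≤ M := inf_le_left.trans le_sup_left
  have heC : ∀ c ∈ C, e c ∈ C := fun c hc => mem_centralizerIn.2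
    ⟨he1.apply_mem (Subgroup.mem_sup_right hc), fun v hv => by
      have hv' := afun_mem u⁻¹ hv
      rw [← afun_apply_inv u hv, ← hee _ hv', ← he1.map_cj (Subgroup.mem_sup_right hc) (hVM hv'),
        (mem_centralizerIn.1 hc).2 _ hv']⟩
  have heY : ∀ y ∈ P', (afun a' y)⁻¹ * e y ∈ C := fun y hy => mem_centralizerIn.2
    ⟨R.mul_mem (R.inv_mem (hP'R (afun_mem a' hy))) (he1.apply_mem (Subgroup.mem_sup_left hy)),
      fun v hv => by
      have hv' := afun_mem u⁻¹ hv
      have hcw := hP'n y hy _ hv'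
      have e2 : cj (e y) v = afun u (cj y (afun u⁻¹ v)) := by
        rw [← hee _ hcw, he1.map_cj (Subgroup.mem_sup_left hy) (hVM hv'), hee _ hv',
          afun_apply_inv u hv]
      have e3 : cj (afun a' y) v = afun u (cj y (afun u⁻¹ v)) := by
        rw [hue _ hcw, ha'm.map_cj hy hv'.1, ← hue _ hv', afun_apply_inv u hv]
      rw [← cj_cj, e2, ← e3, cj_inv_cj]⟩
  obtain ⟨b0, hb0, hb0e⟩ := he1.exists_aut (he1.im_self fun x hx => mor_sup_induction he1
    (fun y hy => by
      have := mul_mem (Subgroup.mem_sup_left (T := C) (afun_mem a' hy))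
        (Subgroup.mem_sup_right (heY y hy))
      rwa [mul_inv_cancel_left] at this)
    (fun c hcC => Subgroup.mem_sup_right (heC c hcC)) hx)
  haveI := finite_autGroup (F := D) M
  obtain ⟨k, hk⟩ := FusionMeetKey.exists_exponent (p := p) (n := orderOf b0)
    (orderOf_pos_iff.2 ((D.autGroup M).subtype.isOfFinOrder
      (isOfFinOrder_of_finite (⟨b0, hb0⟩ : D.autGroup M)))).ne'
  have hb0V : ∀ x ∈ P' ⊓ T, afun u x = afun b0 x := fun x hx =>
    ((hb0e x (hVM hx)).trans (hee x hx)).symm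
  have huk : u ^ k = u :=
    (hk u (S5120.orderOf_dvd_of_restrict hVM hb0V)).2 (ha'co.coprime_dvd_left hudvd)
  set b := b0 ^ k
  have hbD : b ∈ D.autGroup M := pow_mem hb0 k
  have hbco : (orderOf b).Coprime p := (hk b0 dvd_rfl).1
  have hbV : ∀ x ∈ P' ⊓ T, afun b x = afun u x := fun x hx => by
    rw [← S5120.afun_pow_eq hVM hb0V k x hx, huk]
  have hbm := (mem_autGroup hMR).1 hbD
  have hbL := h.prod_coprime_lifts hD hMR hbD hbco
  have hbP : ∀ y ∈ P', afun b y ∈ P' := by
    intro y hy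
    have hyM : y ∈ M := Subgroup.mem_sup_left hy
    have hd : (afun a' y)⁻¹ * afun b y ∈ P' ⊓ T := by
      refine hcV.2 _ (FusionSysBasic.isConj_refl (inf_le_left.trans hP'S)) (mem_centralizerIn.2
        ⟨?_, fun v hv => ?_⟩)
      · have := T.mul_mem (T.inv_mem (ha'L.2.1 y hy)) (hbL.2.1 y hyM)
        simpa [mul_assoc] using this
      · have hv' := afun_mem u⁻¹ hv
        have hcw := hP'n y hy _ hv'
        have e2 : cj (afun b y) v = afun u (cj y (afun u⁻¹ v)) := by
          rw [← hbV _ hcw, hbm.map_cj hyM (hVM hv'), hbV _ hv', afun_apply_inv u hv]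
        have e3 : cj (afun a' y) v = afun u (cj y (afun u⁻¹ v)) := by
          rw [hue _ hcw, ha'm.map_cj hy hv'.1, ← hue _ hv', afun_apply_inv u hv]
        rw [← cj_cj, e2, ← e3, cj_inv_cj]
    have := P'.mul_mem (afun_mem a' hy) hd.1
    rwa [mul_inv_cancel_left] at this
  have hbm' := hbm.restrict_to (le_sup_left : P' ≤ M)
  obtain ⟨b', hb', hb'e⟩ := hbm'.exists_aut (hbm'.im_self hbP)
  have hb'co : (orderOf b').Coprime p :=
    hbco.coprime_dvd_left (S5120.orderOf_dvd_of_restrict (le_sup_left : P' ≤ M) hb'e)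
  obtain ⟨v, hv, hve⟩ := h.unique_lift hP'S hcV ha'L (h.prod_coprime_lifts hD hP'R hb' hb'co)
    ha'co hb'co fun x hx => by rw [hb'e x hx.1, hbV x hx, hue x hx]
  obtain ⟨θi, hθi, hθiθ, -, hθiP⟩ := hθP.exists_inv
  have hm : Mor D P (θi ∘ (cj v ∘ (afun b' ∘ θ))) := by
    refine (((hθP.comp ((mem_autGroup hP'R).1 hb') fun x hx => apply_mem_im hx).comp
      (mor_cj hP'R (hP'R hv.1)) fun x hx => afun_mem b' (apply_mem_im hx)).comp hθi
      fun x hx => ?_)
    exact cj_mem_of_normalizer (Subgroup.le_normalizer hv.1) (afun_mem b' (apply_mem_im hx))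
  refine mem_autGroup_of_mor (hm.congr fun x hx => ?_)
  simp only [Function.comp_apply]
  rw [← hve _ (apply_mem_im hx), ha', hθF.afun_transport hP'.symm a hx, hθiθ _ (afun_mem a hx)]

/-- Any two such subsystems coincide. -/
theorem product_le {D' : FusionSystem R} (hD : IsProd F E p D) (hD' : IsProd F E p D') :
    D ≤ D' := by
  have hRS := sub_le hD.sub
  haveI := finite_of_le hRS
  have hRp : IsPGroup p R := h.pgrp.to_le hRS
  refine FusionSysAlperin.alperin hRp hD.sat fun P hP => ?_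
  have hPR : P ≤ R := by
    rcases hP with rfl | hP
    · exact le_rfl
    · exact hP.1.1
  have hfn : D.IsFullyNormalized P := by
    rcases hP with rfl | hP
    · exact fullyNormalized_self
    · exact hP.2.1
  have htc := h.prod_tc hD hP
  exact FusionWeakAlperin.autGroup_le_of_fullyNormalized hRp hD.sat hfn
    (FusionPPower.map_pResidual_le_of_coprime fun a ha hco =>
      h.lift_mem hD' hPR htc (h.prod_coprime_lifts hD hPR ha hco) hco)
    (autInducedBy_le hPR)

/-- Existence. -/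
theorem exists_product (hTR : T ≤ R) (hRS : R ≤ S) :
    ∃ D : FusionSystem R, IsProd F E p D := by
  haveI := finite_of_le hRS
  haveI := finite_of_le h.T_le
  have hG := h.saturated_prod
  obtain ⟨D, hDs, hDi⟩ := FusionPPowerIndex88.exists_pPower (Nat.card S) S (prodSys F E p) R le_rfl
    h.pgrp hG hRS (h.hyp_prod_le.trans hTR)
  have hsub : D.IsSubsystemOf F := fun P φ hφ => prod_sub P (hDi.1 P hφ)
  have hGT : (prodSys F E p).hyperfocalSubgroup p = T :=
    le_antisymm h.hyp_prod_le (h.hyp.ge.trans (FusionPPower.hyperfocal_mono h.sub_prod))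
  have hDT : D.hyperfocalSubgroup p = T := (FusionPPower.hyperfocal_eq h.pgrp hDi).trans hGT
  refine ⟨D, hDs, hsub, hDT, ?_, hDT.le, fun P hP => ?_⟩
  · exact FusionPPower.le_of_pPower h.pgrp h.nE.1.1 h.sub_prod hTR fun P hP a ha hco =>
      S5120.coprime_mem_autGroup hDi (hP.trans hTR) ha hco
  · refine FusionPPower.map_pResidual_le_of_coprime fun a ha hco => ?_
    have hPR := hP.trans hTR
    have haG : a ∈ (prodSys F E p).autGroup P :=
      mem_autGroup_of_mor (sub_mor hDi.1 ((mem_autGroup hPR).1 ha))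
    have hl := h.coprime_lifts (hP.trans h.T_le) haG hco
    exact mem_autGroup_of_mor (hl.2.2.restrict_to (le_inf le_rfl hP))

end Setup

end Cfsg.Agent.FusionProductR5
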