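import Cfsg.Agent.Lib.FusionProductR5Base
import Cfsg.Agent.Lib.FusionMeetSat

/-!
The product of a normal subsystem `E` with `hyp(E) = T` and `S` is saturated (`saturated_prod`).
-/

set_option autoImplicit false

namespace Cfsg.Agent.FusionProductR5

open Cfsg Cfsg.FusionSystem Cfsg.Agent.FusionSysBasic Cfsg.Agent.FusionSysSaturated
open Cfsg.Agent.FusionSysNormal Cfsg.Agent.FusionKit88 Cfsg.Agent.FusionSysNormalizer
open Cfsg.Agent.FusionCentralizerSub Cfsg.Agent.FusionTops Cfsg.Agent.FusionGenerated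
open scoped Pointwise

variable {Ω : Type*} [Group Ω] {S T : Subgroup Ω} {F : FusionSystem S} {E : FusionSystem T}
  {p : ℕ}

local notation "G" => prodSys F E p

/-- The automorphisms trivial modulo `T` and on the part in `T`. -/
def kerT (F : FusionSystem S) (E : FusionSystem T) (p : ℕ) (W : Subgroup Ω) : Subgroup (MulAut W) where
  carrier := {a | a ∈ (prodSys F E p).autGroup W ∧ (∀ x ∈ W, x⁻¹ * afun a x ∈ T) ∧
    ∀ x ∈ W ⊓ T, afun a x = x}
  one_mem' := ⟨one_mem _, fun x hx => by rw [afun_one hx]; simp, fun x hx => afun_one hx.1⟩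
  mul_mem' := fun {a b} ⟨ha, ha1, ha2⟩ ⟨hb, hb1, hb2⟩ => ⟨mul_mem ha hb, fun x hx => by
    rw [afun_mul _ _ hx]
    have := T.mul_mem (hb1 x hx) (ha1 _ (afun_mem b hx))
    simpa [mul_assoc] using this, fun x hx => by
    rw [afun_mul _ _ hx.1, hb2 x hx, ha2 x hx]⟩
  inv_mem' := fun {a} ⟨ha, ha1, ha2⟩ => ⟨inv_mem ha, fun x hx => by
    have h1 := T.inv_mem (ha1 _ (afun_mem a⁻¹ hx))
    rw [afun_apply_inv a hx] at h1
    simpa using h1, fun x hx => by
    conv_lhs => rw [← ha2 x hx]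
    exact afun_inv_apply a hx.1⟩

namespace Setup

variable (h : Setup F E p)
include h

omit h in
theorem generated_prod : Generated (prodSys F E p) (Gam F E p) := by
  intro Φ hc hg P f hf
  have hcl : FusionInduct88.Closed F (U := S) (fun P f => Mor G P f ∧ Φ P f) :=
    { congr := fun ⟨h1, h2⟩ he => ⟨h1.congr he, hc.congr h2 he⟩
      conj := fun hP hg => ⟨mor_cj hP hg, hc.conj hP hg⟩
      comp := fun _ _ hP hQ hfQ ⟨h1, h2⟩ ⟨h3, h4⟩ =>
        ⟨h1.comp h3 hfQ, hc.comp h1 h3 hP hQ hfQ h2 h4⟩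
      inv := fun {P f g} _ _ hP hgf ⟨h1, h2⟩ => by
        obtain ⟨i, hi, hif, -, -⟩ := h1.exists_inv
        have hg : Mor G (im P f) g := hi.congr fun y hy => by
          obtain ⟨x, hx, rfl⟩ := h1.mem_im.1 hy
          rw [hif x hx, hgf x hx]
        exact ⟨hg, hc.inv h1 hg hP hgf h2⟩ }
  exact (prod_induction hcl (fun R g hG => ⟨gam_mor hG, hg R g (gam_mor hG) hG.2.2.1 hG⟩) hf).2

variable [Finite S] [Fact p.Prime]

/-- A universal subgroup is carried, with its normalizer in `T`, onto a well placed subgroup. -/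
theorem exists_point {W : Subgroup Ω} (hW : W ≤ S) (huniv : ∀ Q, (G).IsConj W Q → To G Q W) :
    ∃ Y φ, F.IsFullyNormalized Y ∧ F.IsFullyNormalized (Y ⊓ T) ∧
      Mor F (normalizerIn S W) φ ∧ (∀ x ∈ normalizerIn S W, φ x ∈ normalizerIn S Y) ∧
      im W φ = Y ∧ im (normalizerIn T W) φ = normalizerIn T Y := by
  obtain ⟨Y, φ, hY, hY0, hφ, hφN, hφY⟩ := h.exists_rep hW
  have hNW : normalizerIn T W ≤ normalizerIn S W := inf_le_inf_right _ h.T_le
  have hφT := hφ.restrict_to hNW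
  have hφ0 := hφ.restrict_to (le_normalizerIn hW)
  refine ⟨Y, φ, hY, hY0, hφ, hφN, hφY, ?_⟩
  refine eq_of_le_of_card_ge (inf_le_left.trans h.T_le) (im_le_iff.2 fun t ht =>
    ⟨closed_apply h.closedT hφT inf_le_left ht, (hφN t (hNW ht)).2⟩) ?_
  rw [hφT.card_im]
  obtain ⟨χ, hχ, hχφ, -, -⟩ := hφ0.exists_inv
  obtain ⟨k, hk, β, hβ, hχe⟩ := h.frattini hχ
  rw [hφY] at hk hβ hχe
  obtain ⟨l, hl, hle⟩ := h.loc_transport hk hβ le_rfl
  have hβY := hβ.restrict_to le_sup_left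
  set Q := im Y β
  have himl : im Q l = W := by
    rw [show Q = im Y β from rfl, hβY.im_comp]
    refine le_antisymm (im_le_iff.2 fun y hy => ?_) fun w hw => ?_
    · obtain ⟨x, hx, rfl⟩ := hφ0.mem_im.1 (hφY.ge hy)
      rw [Function.comp_apply, hle _ hy, ← hχe _ hy, hχφ x hx]
      exact hx
    · have hy : φ w ∈ Y := hφY ▸ apply_mem_im hw
      have := apply_mem_im (f := l ∘ β) hy
      rwa [Function.comp_apply, hle _ hy, ← hχe _ hy, hχφ w hw] at this
  obtain ⟨-, κ, hκ, hκW⟩ :=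
    huniv Q (isConj_symm (FusionSysBasic.isConj_iff.2 ⟨l, h.loc_mor hl, himl⟩))
  have hNY : normalizerIn T Y ≤ Y ⊔ T := inf_le_left.trans le_sup_right
  have hβN := hβ.restrict_to hNY
  have hmem : ∀ n ∈ normalizerIn T Y, β n ∈ normalizerIn S Q := fun n hn =>
    ⟨hβ.apply_mem (hNY hn),
      FusionWeaklyNormal88.apply_normalizes hβ le_sup_left (hNY hn) hn.2⟩
  refine card_le_of_mor (hβN.comp (sub_mor prod_sub hκ) hmem) (inf_le_left.trans h.T_le)
    fun n hn => ?_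
  have h1 := mor_normalizer_mem hκ hβY.im_le hκW (hmem n hn)
  exact ⟨closed_apply' h.closedT (sub_mor prod_sub hκ) (hmem n hn)
    (closed_apply' h.closedT hβN hn hn.1), h1.2⟩

/-- The residual of the lifts at a well placed subgroup meets `Aut_S` inside `Aut_T`. -/
theorem focal {Y : Subgroup Ω} (hY : F.IsFullyNormalized Y) (hY0 : F.IsFullyNormalized (Y ⊓ T))
    (hc : TC F T (Y ⊓ T)) {a : MulAut Y} (ha : a ∈ autInducedBy S Y)
    (hO : a ∈ (Cfsg.pResidual p (h.lifts hY.1)).map (h.lifts hY.1).subtype) :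
    a ∈ autInducedBy T Y := by
  set A := h.lifts hY.1
  set R1 := autInducedBy T Y
  have hAF : A ≤ F.autGroup Y := fun a ha => (h.mem_lifts.1 ha).1
  haveI := finite_autGroup (F := F) Y
  haveI : Finite A := Finite.of_injective _ (Subgroup.inclusion_injective hAF)
  obtain ⟨P0, hP0⟩ := FusionCentralLift.sylIn_inf
    (fullyAutomized_of_fullyNormalized h.pgrp h.sat hY).2 (isPGroup_autInducedBy h.pgrp Y) hAF
    fun a ha b hb => h.lifts_conj hY.1 ha hb
  have hmemP0 : ∀ {g : A}, g ∈ (P0 : Subgroup A) → (g : MulAut Y) ∈ autInducedBy S Y :=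
    fun {g} hg => by rw [hP0, Subgroup.mem_subgroupOf] at hg; exact hg.1
  have hnR1 : ∀ g ∈ (P0 : Subgroup A), ∀ x ∈ R1.subgroupOf A, g * x * g⁻¹ ∈ R1.subgroupOf A := by
    intro g hg x hx
    obtain ⟨s, hs, hsn, hse⟩ := mem_autInducedBy.1 (hmemP0 hg)
    obtain ⟨t, ht, htn, hte⟩ := mem_autInducedBy.1 (Subgroup.mem_subgroupOf.1 hx)
    refine Subgroup.mem_subgroupOf.2 (mem_autInducedBy.2 ⟨cj s t, h.cjT hs ht,
      Subgroup.mul_mem _ (Subgroup.mul_mem _ hsn htn) (Subgroup.inv_mem _ hsn), fun y hy => ?_⟩)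
    have hy' : cj s⁻¹ y ∈ Y := cj_mem_of_normalizer (Subgroup.inv_mem _ hsn) hy
    have e1 : afun (g : MulAut Y)⁻¹ y = cj s⁻¹ y := by
      conv_lhs => rw [← cj_cj_inv s y, ← hse _ hy']
      exact afun_inv_apply _ hy'
    rw [Subgroup.coe_mul, Subgroup.coe_mul, Subgroup.coe_inv, afun_mul _ _ hy, e1,
      afun_mul _ _ hy', hte _ hy', hse _ (cj_mem_of_normalizer htn hy')]
    simp [cj_apply, mul_assoc]
  obtain ⟨o, ho, rfl⟩ := hO
  refine Subgroup.mem_subgroupOf.1 (FusionMeetGroup.inf_pResidual_le P0 hnR1 ?_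
    (⟨?_, ho⟩ : o ∈ (P0 : Subgroup A) ⊓ Cfsg.pResidual p A))
  swap
  · exact hP0.ge (show o ∈ (autInducedBy S Y ⊓ A).subgroupOf A from ⟨ha, o.2⟩)
  intro Q hQ g hg hco x hx
  set Q' := Q.map A.subtype
  obtain ⟨ψ, hψ, hψY, -, hψT⟩ := h.key hY hY0 hc (Q := Q')
    (by rintro _ ⟨q, hq, rfl⟩; exact hmemP0 (hQ hq)) g.2 (by rwa [Subgroup.orderOf_coe]) (by
      rintro _ ⟨q, hq, rfl⟩
      exact ⟨g * q * g⁻¹, (Subgroup.mem_normalizer_iff.1 hg q).1 hq, rfl⟩)
  obtain ⟨s, hs, hsn, hse⟩ := mem_autInducedBy.1 (hmemP0 (hQ hx))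
  have hsM : s ∈ nK S Y Q' := ⟨hs, (x : MulAut Y), ⟨x, hx, rfl⟩, hse⟩
  set w := ψ s * s⁻¹ with hw
  have hwT : w ∈ T := by
    have := h.cjT hs (hψT s (Subgroup.mem_sup_right hsM))
    simpa [hw, cj_apply, mul_assoc] using this
  have he1 : ∀ y ∈ Y, cj (ψ s) y =
      afun ((g : MulAut Y) * (x : MulAut Y) * (g : MulAut Y)⁻¹) y := by
    intro y hy
    have hz := afun_mem (g : MulAut Y)⁻¹ hy
    conv_lhs => rw [← afun_apply_inv (g : MulAut Y) hy, ← hψY _ hz,
      ← hψ.map_cj (Subgroup.mem_sup_right hsM) (Subgroup.mem_sup_left hz), ← hse _ hz,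
      hψY _ (afun_mem _ hz)]
    rw [afun_mul _ _ hy, afun_mul _ _ hz]
  have hψn : ψ s ∈ Subgroup.normalizer (Y : Set Ω) :=
    mem_normalizer_of_cj_le hY.1 fun y hy => he1 y hy ▸ afun_mem _ hy
  refine Subgroup.mem_subgroupOf.2 (mem_autInducedBy.2 ⟨w, hwT,
    Subgroup.mul_mem _ hψn (Subgroup.inv_mem _ hsn), fun y hy => ?_⟩)
  have hy' : cj s⁻¹ y ∈ Y := cj_mem_of_normalizer (Subgroup.inv_mem _ hsn) hy
  have e1 : afun (x : MulAut Y)⁻¹ y = cj s⁻¹ y := by
    conv_lhs => rw [← cj_cj_inv s y, ← hse _ hy']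
    exact afun_inv_apply _ hy'
  simp only [Subgroup.coe_mul, Subgroup.coe_inv]
  rw [afun_mul _ _ hy, e1, ← he1 _ hy', hw, cj_cj]

theorem kerT_normal {W : Subgroup Ω} (hW : W ≤ S) :
    ∀ a ∈ (G).autGroup W, ∀ o ∈ kerT F E p W, a * o * a⁻¹ ∈ kerT F E p W := by
  intro a ha o ho
  have hm := sub_mor (prod_sub (F := F) (E := E) (p := p)) ((mem_autGroup hW).1 ha)
  have hm' := sub_mor (prod_sub (F := F) (E := E) (p := p)) ((mem_autGroup hW).1 (inv_mem ha))
  refine ⟨mul_mem (mul_mem ha ho.1) (inv_mem ha), fun x hx => ?_, fun x hx => ?_⟩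
  · have hx' := afun_mem a⁻¹ hx
    rw [afun_mul _ _ hx, afun_mul _ _ hx']
    conv in x⁻¹ => rw [← afun_apply_inv a hx]
    rw [← hm.map_inv hx', ← hm.map_mul (W.inv_mem hx') (afun_mem o hx')]
    exact closed_apply' h.closedT hm (W.mul_mem (W.inv_mem hx') (afun_mem o hx')) (ho.2.1 _ hx')
  · have hx' : afun a⁻¹ x ∈ W ⊓ T := ⟨afun_mem _ hx.1, closed_apply' h.closedT hm' hx.1 hx.2⟩
    rw [afun_mul _ _ hx.1, afun_mul _ _ (afun_mem _ hx.1), ho.2.2 _ hx', afun_apply_inv a hx.1]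

theorem kerT_pgroup {W : Subgroup Ω} (hW : W ≤ S) : IsPGroup p (kerT F E p W) := fun a => by
  haveI := finite_of_le hW
  obtain ⟨j, hj⟩ := pow_eq_one_of_stabilizes (h.pgrp.to_le hW) (n := 2)
    (fun i => if i = 0 then ⊥ else if i = 1 then W ⊓ T else W) rfl rfl
    (fun i => by
      split_ifs
      · exact bot_le
      · exact inf_le_left
      · exact le_rfl)
    (fun i hi => by
      interval_cases i
      · simp
      · simp)
    (α := (a : MulAut W)) (fun i hi y hy => by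
      interval_cases i
      · simp only [zero_add, if_neg one_ne_zero, if_pos rfl] at hy
        simp [a.2.2.2 y hy]
      · simp only [if_neg one_ne_zero, if_pos rfl]
        simp only [show (1 + 1 = 0) = False by simp, show (1 + 1 = 1) = False by simp,
          if_false] at hy
        exact ⟨W.mul_mem (W.inv_mem hy) (afun_mem _ hy), a.2.2.1 y hy⟩)
  exact ⟨j, Subtype.ext (by simpa using hj)⟩

/-- Outside the centric case a universal subgroup has an outer element acting trivially. -/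
theorem exists_kerT {W : Subgroup Ω} (hW : W ≤ S) (huniv : ∀ Q, (G).IsConj W Q → To G Q W)
    (hn : ¬ TC F T (W ⊓ T)) :
    ∃ x, ∃ hx : x ∈ normalizerIn S W, x ∉ W ∧ nHom S W ⟨x, hx⟩ ∈ kerT F E p W := by
  obtain ⟨Y, φ, hY, hY0, hφ, -, hφY, hsub⟩ := h.exists_point hW huniv
  have hφ0 := hφ.restrict_to (le_normalizerIn hW)
  have e0 : im (W ⊓ T) φ = Y ⊓ T := by rw [h.im_inf hφ0, hφY]
  have hCV : ¬ centralizerIn T (Y ⊓ T) ≤ Y ⊓ T := fun hle => hn (h.tc_conj
    (h.tc_of_fn inf_le_right hY0 hle)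
    (isConj_symm (FusionSysBasic.isConj_iff.2 ⟨φ, hφ0.restrict_to inf_le_left, e0⟩)))
  obtain ⟨c, hc, hcn, hcY⟩ := exists_norm_outside h.pgrp hY.1
    (inf_le_left.trans h.T_le : centralizerIn T (Y ⊓ T) ≤ S)
    (fun r hr t ht => mem_centralizerIn.2 ⟨h.cjT (hY.1 hr) ht.1, fun y hy => by
      have hy' : cj r⁻¹ y ∈ Y ⊓ T := ⟨Y.mul_mem (Y.mul_mem (Y.inv_mem hr) hy.1) (by simpa using hr),
        h.cjT (S.inv_mem (hY.1 hr)) hy.2⟩
      have h1 := (mem_centralizerIn.1 ht).2 _ hy'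
      conv_lhs => rw [← cj_cj_inv r y]
      conv_rhs => rw [← cj_cj_inv r y, ← h1]
      simp [cj_apply, mul_assoc]⟩)
    fun hle => hCV fun x hx => ⟨hle hx, hx.1⟩
  have hNW : normalizerIn T W ≤ normalizerIn S W := inf_le_inf_right _ h.T_le
  obtain ⟨x, hx, rfl⟩ := (hφ.restrict_to hNW).mem_im.1 (hsub.ge ⟨hc.1, hcn⟩)
  refine ⟨x, hNW hx, fun hxW => hcY (hφY ▸ apply_mem_im hxW), ?_⟩
  refine ⟨autInducedBy_le hW ((autInducedBy_eq_range S W).ge ⟨_, rfl⟩), fun w hw => ?_,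
    fun w hw => ?_⟩
  · rw [afun_nHom _ hw]; exact (h.small_cj hW hx.1).1 w hw
  · rw [afun_nHom _ hw.1]
    have hwN := le_normalizerIn hW hw.1
    have hxw : cj x w ∈ normalizerIn S W :=
      le_normalizerIn hW (cj_mem_of_normalizer hx.2 hw.1)
    refine hφ.injOn hxw hwN ?_
    show φ (cj x w) = φ w
    rw [hφ.map_cj (hNW hx) hwN]
    exact (mem_centralizerIn.1 hc).2 _ (e0 ▸ apply_mem_im hw)

theorem no_gam {W : Subgroup Ω} (hn : ¬ TC F T (W ⊓ T)) (Q : Subgroup Ω) (γ : Ω → Ω)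
    (hQ : (G).IsConj W Q) : ¬ Gam F E p Q γ := fun hG => by
  obtain ⟨f, hf, rfl⟩ := FusionSysBasic.isConj_iff.1 hQ
  have hf' := sub_mor (prod_sub (F := F) (E := E) (p := p)) hf
  refine hn (h.tc_conj (R := im W f ⊓ T) hG.1 (isConj_symm ?_))
  rw [← h.im_inf hf']
  exact FusionSysBasic.isConj_iff.2 ⟨f, hf'.restrict_to inf_le_left, rfl⟩

/-- Universal subgroups are fully automized. -/
theorem automized {W : Subgroup Ω} (hW : W ≤ S) (hgood : GoodAbove G p (Nat.card W))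
    (huniv : ∀ Q, (G).IsConj W Q → To G Q W) : (G).IsFullyAutomized p W := by
  by_cases hc : TC F T (W ⊓ T)
  swap
  · obtain ⟨x, hx, hxW, hxK⟩ := h.exists_kerT hW huniv hc
    exact automized_of_normal h.pgrp generated_prod hW hgood huniv
      (fun Q γ hQ => h.no_gam hc Q γ hQ) (O := kerT F E p W) (fun a ha => ha.1)
      (h.kerT_normal hW) (h.kerT_pgroup hW) hx hxW hxK
  obtain ⟨Y, φ, hY, hY0, hφ, hφN, hφY, hsub⟩ := h.exists_point hW huniv
  have hφ0 := hφ.restrict_to (le_normalizerIn hW)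
  have e0 : im (W ⊓ T) φ = Y ⊓ T := by rw [h.im_inf hφ0, hφY]
  have hcY : TC F T (Y ⊓ T) :=
    h.tc_conj hc (FusionSysBasic.isConj_iff.2 ⟨φ, hφ0.restrict_to inf_le_left, e0⟩)
  set t := hφ0.transport hφY
  set R1 := (autInducedBy S W).map t.toMonoidHom with hR1
  have hR1S : R1 ≤ autInducedBy S Y := by
    rintro _ ⟨a, ha, rfl⟩
    obtain ⟨u, hu, hun, he⟩ := mem_autInducedBy.1 ha
    have huN : u ∈ normalizerIn S W := ⟨hu, hun⟩
    refine mem_autInducedBy.2 ⟨φ u, (hφN u huN).1, (hφN u huN).2, fun y hy => ?_⟩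
    obtain ⟨x, hx, rfl⟩ := hφ0.mem_im.1 (hφY.symm ▸ hy)
    show afun (hφ0.transport hφY a) (φ x) = _
    rw [hφ0.afun_transport hφY a hx, he x hx, hφ.map_cj huN (le_normalizerIn hW hx)]
  have hTR1 : autInducedBy T Y ≤ R1 := by
    intro b hb
    obtain ⟨u, hu, hun, he⟩ := mem_autInducedBy.1 hb
    have hNW : normalizerIn T W ≤ normalizerIn S W := inf_le_inf_right _ h.T_le
    obtain ⟨v, hv, rfl⟩ := (hφ.restrict_to hNW).mem_im.1 (hsub.ge ⟨hu, hun⟩)
    refine ⟨nHom S W ⟨v, hNW hv⟩, mem_autInducedBy.2 ⟨v, h.T_le hv.1, hv.2, fun x hx =>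
      afun_nHom _ hx⟩, afun_ext fun y hy => ?_⟩
    obtain ⟨x, hx, rfl⟩ := hφ0.mem_im.1 (hφY.symm ▸ hy)
    rw [he _ hy]
    show afun (hφ0.transport hφY _) (φ x) = _
    rw [hφ0.afun_transport hφY _ hx, afun_nHom _ hx]
    exact hφ.map_cj (hNW hv) (le_normalizerIn hW hx)
  set A := h.lifts hY.1 with hA
  set O := (Cfsg.pResidual p A).map A.subtype with hOdef
  have hAF : A ≤ F.autGroup Y := fun a ha => (h.mem_lifts.1 ha).1
  have hOF : O ≤ F.autGroup Y := (Subgroup.map_subtype_le _).trans hAF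
  have hR1F : R1 ≤ F.autGroup Y := hR1S.trans (autInducedBy_le hY.1)
  have hOn : ∀ a ∈ F.autGroup Y, ∀ o ∈ O, a * o * a⁻¹ ∈ O := by
    rintro a ha _ ⟨o, ho, rfl⟩
    let c : A →* A :=
      { toFun := fun x => ⟨a * x * a⁻¹, h.lifts_conj hY.1 ha x.2⟩
        map_one' := Subtype.ext (by simp)
        map_mul' := fun x y => Subtype.ext (by simp [mul_assoc]) }
    exact ⟨c o, TransferPResidual.map_pResidual_le c ⟨o, ho, rfl⟩, rfl⟩
  haveI := finite_autGroup (F := F) Y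
  haveI := finite_autGroup (F := G) W
  haveI : Finite ↥(R1 ⊔ O : Subgroup (MulAut Y)) :=
    Finite.of_injective _ (Subgroup.inclusion_injective (sup_le hR1F hOF))
  have hR1p : IsPGroup p R1 := (isPGroup_autInducedBy h.pgrp W).map _
  obtain ⟨hsyl, -⟩ := FusionMeet.sylIn_sup (R := autInducedBy S Y ⊓ O) hR1p
    (fun a ha o ho => hOn a (hR1F ha) o ho)
    (FusionCentralLift.sylIn_inf (fullyAutomized_of_fullyNormalized h.pgrp h.sat hY).2
      (isPGroup_autInducedBy h.pgrp Y) hOF hOn) inf_le_right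
    fun a ha => hTR1 (h.focal hY hY0 hcY ha.1 ha.2)
  have hAutG : (G).autGroup W ≤ (R1 ⊔ O).comap t.toMonoidHom := by
    refine aut_le_of_coprime h.pgrp generated_prod
      (fun R f α hG hα => hG.2.2.2.2 α hα) hW hgood huniv _ (fun a ha => ?_) fun a ha hco => ?_
    · exact Subgroup.mem_sup_left ⟨a, ha, rfl⟩
    · refine Subgroup.mem_sup_right ⟨⟨t a, h.lifts_transport hY.1 hφ0 hφY
        (h.coprime_lifts hW ha hco)⟩, TransferPResidual.mem_pResidual_of_coprime ?_, rfl⟩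
      rwa [Subgroup.orderOf_mk, MulEquiv.orderOf_eq]
  have hle : autInducedBy S W ≤ (G).autGroup W := autInducedBy_le hW
  refine ⟨hW, (sylIn_iff_card hle).2 (le_antisymm
    (sylIn_le_pow (isPGroup_autInducedBy h.pgrp W) hle) ?_)⟩
  obtain ⟨V⟩ : Nonempty (Sylow p ((G).autGroup W)) := inferInstance
  set V' := (V : Subgroup ((G).autGroup W)).map ((G).autGroup W).subtype
  have hcV : Nat.card V' = p ^ (Nat.card ((G).autGroup W)).factorization p :=
    (Nat.card_congr ((V : Subgroup ((G).autGroup W)).equivMapOfInjective _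
      ((G).autGroup W).subtype_injective).toEquiv).symm.trans V.card_eq_multiplicity
  rw [← hcV, Nat.card_congr (V'.equivMapOfInjective t.toMonoidHom t.injective).toEquiv,
    Nat.card_congr ((autInducedBy S W).equivMapOfInjective t.toMonoidHom t.injective).toEquiv,
    (sylIn_iff_card (le_sup_left : R1 ≤ R1 ⊔ O)).1 hsyl]
  exact sylIn_le_pow ((V.2.map _).map _)
    (Subgroup.map_le_iff_le_comap.2 ((Subgroup.map_subtype_le _).trans hAutG))

/-- An automorphism of order prime to `p` in the product normalizing a group of automorphisms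
induced by `S` extends, in the product, to the preimage of that group. -/
theorem extends_coprime {W : Subgroup Ω} (hW : W ≤ S) (huniv : ∀ Q, (G).IsConj W Q → To G Q W)
    (hc : TC F T (W ⊓ T)) {Q : Subgroup (MulAut W)} (hQ : Q ≤ autInducedBy S W) {g : MulAut W}
    (hg : g ∈ (G).autGroup W) (hco : (orderOf g).Coprime p)
    (hgQ : ∀ a ∈ Q, g * a * g⁻¹ ∈ Q) :
    ∃ e, Mor G (W ⊔ nK S W Q) e ∧ ∀ x ∈ W, e x = afun g x := by
  obtain ⟨Y, φ, hY, hY0, hφ, hφN, hφY, hsub⟩ := h.exists_point hW huniv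
  have hφ0 := hφ.restrict_to (le_normalizerIn hW)
  have e0 : im (W ⊓ T) φ = Y ⊓ T := by rw [h.im_inf hφ0, hφY]
  have hcY : TC F T (Y ⊓ T) :=
    h.tc_conj hc (FusionSysBasic.isConj_iff.2 ⟨φ, hφ0.restrict_to inf_le_left, e0⟩)
  have hglift := h.coprime_lifts hW hg hco
  set u := hφ0.transport hφY g
  have hu : u ∈ h.lifts hY.1 := h.lifts_transport hY.1 hφ0 hφY hglift
  have huco : (orderOf u).Coprime p := by rwa [MulEquiv.orderOf_eq]
  set Q' := Q.map (hφ0.transport hφY).toMonoidHom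
  have huQ' : ∀ a ∈ Q', u * a * u⁻¹ ∈ Q' := by
    rintro _ ⟨a, ha, rfl⟩
    exact ⟨g * a * g⁻¹, hgQ a ha, by simp [u]⟩
  have hQ'S : Q' ≤ autInducedBy S Y := by
    rintro _ ⟨a, ha, rfl⟩
    obtain ⟨s, hs, hsn, he⟩ := mem_autInducedBy.1 (hQ ha)
    have huN : s ∈ normalizerIn S W := ⟨hs, hsn⟩
    refine mem_autInducedBy.2 ⟨φ s, (hφN s huN).1, (hφN s huN).2, fun y hy => ?_⟩
    obtain ⟨x, hx, rfl⟩ := hφ0.mem_im.1 (hφY.symm ▸ hy)
    show afun (hφ0.transport hφY a) (φ x) = _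
    rw [hφ0.afun_transport hφY a hx, he x hx, hφ.map_cj huN (le_normalizerIn hW hx)]
  obtain ⟨ψ, hψ, hψY, hψN, hψT⟩ := h.key hY hY0 hcY hQ'S hu huco huQ'
  set N := W ⊔ nK S W Q with hN
  have hnKW : nK S W Q ≤ normalizerIn S W := le_inf nK_le (nK_normalizes hW)
  have hNN : N ≤ normalizerIn S W := sup_le (le_normalizerIn hW) hnKW
  have hNS : N ≤ S := hNN.trans inf_le_left
  have hφNm := hφ.restrict_to hNN
  have hfn : ∀ n ∈ nK S W Q, φ n ∈ nK S Y Q' := by
    intro n hn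
    obtain ⟨-, l, hl, hle⟩ := id hn
    refine ⟨(hφN n (hnKW hn)).1, _, ⟨l, hl, rfl⟩, fun y hy => ?_⟩
    obtain ⟨x, hx, rfl⟩ := hφ0.mem_im.1 (hφY.symm ▸ hy)
    rw [MulEquiv.coe_toMonoidHom, hφ0.afun_transport hφY l hx, hle x hx]
    exact hφ.map_cj (hnKW hn) (le_normalizerIn hW hx)
  have hfw : ∀ x ∈ N, φ x ∈ Y ⊔ nK S Y Q' := fun x hx => mor_sup_induction hφNm
    (fun y hy => Subgroup.mem_sup_left (hφY ▸ apply_mem_im hy))
    (fun n hn => Subgroup.mem_sup_right (hfn n hn)) hx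
  have hψφ := hφNm.comp hψ hfw
  have himψ : ∀ x ∈ N, ψ (φ x) ∈ im N φ := fun x hx => mor_sup_induction hψφ
    (T := im N φ)
    (fun y hy => by
      have hy' : φ y ∈ Y := hφY ▸ apply_mem_im hy
      show ψ (φ y) ∈ im N φ
      rw [hψY _ hy', hφ0.afun_transport hφY g hy]
      exact apply_mem_im (Subgroup.mem_sup_left (afun_mem g hy)))
    (fun n hn => by
      show ψ (φ n) ∈ im N φ
      have hm := hψN _ (hfn n hn)
      set τ := (φ n)⁻¹ * ψ (φ n) with hτ
      have hτT : τ ∈ T := hψT _ (Subgroup.mem_sup_right (hfn n hn))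
      have hτn : τ ∈ normalizerIn T Y := ⟨hτT, Subgroup.mul_mem _
        (Subgroup.inv_mem _ (hφN n (hnKW hn)).2) (nK_normalizes hY.1 hm)⟩
      have hNW : normalizerIn T W ≤ normalizerIn S W := inf_le_inf_right _ h.T_le
      obtain ⟨t, ht, hte⟩ := (hφ.restrict_to hNW).mem_im.1 (hsub.ge hτn)
      have hn' : n * t ∈ normalizerIn S W := Subgroup.mul_mem _ (hnKW hn) (hNW ht)
      have e : φ (n * t) = ψ (φ n) := by
        rw [hφ.map_mul (hnKW hn) (hNW ht), hte, hτ, mul_inv_cancel_left]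
      obtain ⟨-, _, ⟨l, hl, rfl⟩, hle⟩ := hm
      have hnt : n * t ∈ nK S W Q := ⟨hn'.1, l, hl, fun x hx => by
        refine hφ.injOn (le_normalizerIn hW (afun_mem l hx))
          (le_normalizerIn hW (cj_mem_of_normalizer hn'.2 hx)) ?_
        have hxY : φ x ∈ Y := hφY ▸ apply_mem_im hx
        rw [hφ.map_cj hn' (le_normalizerIn hW hx), e, ← hle _ hxY]
        exact (hφ0.afun_transport hφY l hx).symm⟩
      rw [← e]
      exact apply_mem_im (Subgroup.mem_sup_right hnt)) hx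
  obtain ⟨i, hi, hiφ, hφi, hiN⟩ := hφNm.exists_inv
  have he0 := hψφ.comp hi himψ
  obtain ⟨b, hb, hbe⟩ := he0.exists_aut (he0.im_self fun x hx => hiN _ (himψ x hx))
  have hbT : ∀ x ∈ N, x⁻¹ * afun b x ∈ T := by
    intro x hx
    have hbm := afun_mem b hx
    have h1 : φ (afun b x) = ψ (φ x) := by
      rw [hbe x hx]; exact hφi _ (himψ x hx)
    have h2 : φ (x⁻¹ * afun b x) ∈ T := by
      rw [hφNm.map_mul (N.inv_mem hx) hbm, hφNm.map_inv hx, h1]
      exact hψT _ (hfw x hx)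
    have hm := N.mul_mem (N.inv_mem hx) hbm
    have h3 := closed_apply' h.closedT hi (apply_mem_im (f := φ) hm) h2
    rwa [hiφ _ hm] at h3
  have hbW : ∀ x ∈ W, afun g x = afun b x := fun x hx => by
    have hy : φ x ∈ Y := hφY ▸ apply_mem_im hx
    rw [hbe x (Subgroup.mem_sup_left hx)]
    show _ = i (ψ (φ x))
    rw [hψY _ hy, hφ0.afun_transport hφY g hx, hiφ _ (Subgroup.mem_sup_left (afun_mem g hx))]
  haveI := finite_autGroup (F := F) N
  obtain ⟨k, hk⟩ := FusionMeetKey.exists_exponent (p := p) (n := orderOf b)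
    (orderOf_pos_iff.2 ((F.autGroup N).subtype.isOfFinOrder
      (isOfFinOrder_of_finite (⟨b, hb⟩ : F.autGroup N)))).ne'
  have hgk : g ^ k = g :=
    (hk g (S5120.orderOf_dvd_of_restrict (le_sup_left : W ≤ N) hbW)).2 hco
  set c := b ^ k with hcdef
  have hcW : ∀ x ∈ W, afun c x = afun g x := fun x hx => by
    rw [hcdef, ← S5120.afun_pow_eq (le_sup_left : W ≤ N) hbW k x hx, hgk]
  have hcT : ∀ (n : ℕ), ∀ x ∈ N, x⁻¹ * afun (b ^ n) x ∈ T := by
    intro n
    induction n with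
    | zero => intro x hx; rw [pow_zero, afun_one hx]; simp
    | succ n ih =>
      intro x hx
      have := T.mul_mem (ih x hx) (hbT _ (afun_mem (b ^ n) hx))
      rw [pow_succ', afun_mul _ _ hx]
      simpa [mul_assoc] using this
  have hcF : Mor F N (afun c) := (mem_autGroup hNS).1 (pow_mem hb k)
  have hcco : (orderOf c).Coprime p := (hk b dvd_rfl).1
  -- the part in `T`
  set N0 := N ⊓ T with hN0
  obtain ⟨c0, hc0, hc0e⟩ := (hcF.restrict_to (inf_le_left : N0 ≤ N)).exists_aut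
    (by rw [h.im_inf hcF, im_afun])
  have hc0co : (orderOf c0).Coprime p :=
    hcco.coprime_dvd_left (S5120.orderOf_dvd_of_restrict inf_le_left hc0e)
  have hφN0 := hφNm.restrict_to (inf_le_left : N0 ≤ N)
  set N1 := im N0 φ with hN1
  have hN1T : N1 ≤ T := im_le_iff.2 fun x hx => closed_apply h.closedT hφN0 inf_le_right hx
  have hN1Y : N1 ≤ normalizerIn S Y := im_le_iff.2 fun x hx => hφN x (hNN hx.1)
  set V := Y ⊓ T with hV
  have hVN1 : V ≤ N1 := e0 ▸ im_mono (inf_le_inf_right _ le_sup_left)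
  have hN1V : N1 ≤ Subgroup.normalizer (V : Set Ω) := fun n hn =>
    mem_normalizer_of_cj_le (inf_le_left.trans hY.1) fun v hv =>
      ⟨cj_mem_of_normalizer (hN1Y hn).2 hv.1, h.cjT (hN1Y hn).1 hv.2⟩
  set d := hφN0.transport hN1.symm c0 with hd
  have hdF : d ∈ F.autGroup N1 := hφN0.transport_mem hN1.symm hc0
  have hN1S := hN1T.trans h.T_le
  have hdm := (mem_autGroup hN1S).1 hdF
  obtain ⟨uV, huV, huVe, -⟩ := h.restrict_lift hY.1 hu
  have hdV : ∀ v ∈ V, afun d v = afun uV v := by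
    intro v hv
    obtain ⟨x, hx, rfl⟩ := (hφ0.restrict_to inf_le_left).mem_im.1 (e0.ge hv)
    have hxN : x ∈ N0 := ⟨Subgroup.mem_sup_left hx.1, hx.2⟩
    rw [hd, hφN0.afun_transport hN1.symm c0 hxN, hc0e x hxN, huVe _ hv,
      hφ0.afun_transport hφY g hx.1, hcW x hx.1]
  haveI := finite_of_le h.T_le
  have hVE := fullyNormalized_sub h.pgrp h.sat h.inv.1 h.closedT inf_le_right hY0
  obtain ⟨e', he', he'e⟩ := (receptive_iff.1 (receptive_of_fullyNormalized h.pT h.nE.1.1 hVE)).2 V _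
    N1 ((mem_autGroup inf_le_right).1 huV) (im_afun uV) hN1T hN1V fun n hn =>
      ⟨afun d n, hN1T (afun_mem d hn), fun v hv => by
        have hv' : cj n v ∈ V := cj_mem_of_normalizer (hN1V hn) hv
        rw [← hdV _ hv', ← hdV v hv, hdm.map_cj hn (hVN1 hv)]⟩
  have he1 := he'.restrict_to (le_sup_right : N1 ≤ V ⊔ N1)
  have he'mem : ∀ n ∈ N1, e' n ∈ N1 := by
    intro n hn
    have hz : (afun d n)⁻¹ * e' n ∈ V := by
      refine hcY.2 V (FusionSysBasic.isConj_refl (inf_le_left.trans hY.1)) (mem_centralizerIn.2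
        ⟨T.mul_mem (T.inv_mem (hN1T (afun_mem d hn))) (he1.apply_mem hn), fun v hv => ?_⟩)
      have hv' := afun_mem uV⁻¹ hv
      have hcw : cj n (afun uV⁻¹ v) ∈ V := cj_mem_of_normalizer (hN1V hn) hv'
      have e2 : cj (e' n) v = afun uV (cj n (afun uV⁻¹ v)) := by
        rw [← he'e _ hcw, he1.map_cj hn (hVN1 hv'), he'e _ hv', afun_apply_inv uV hv]
      have e3 : cj (afun d n) v = afun uV (cj n (afun uV⁻¹ v)) := by
        rw [← hdV _ hcw, hdm.map_cj hn (hVN1 hv'), hdV _ hv', afun_apply_inv uV hv]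
      rw [← cj_cj, e2, ← e3, cj_inv_cj]
    have := N1.mul_mem (afun_mem d hn) (hVN1 hz)
    rwa [mul_inv_cancel_left] at this
  obtain ⟨d', hd', hd'e⟩ := he1.exists_aut (he1.im_self he'mem)
  haveI := finite_of_le hN1S
  haveI := finite_autGroup (F := F) N1
  have hd'F : d' ∈ F.autGroup N1 :=
    mem_autGroup_of_mor (sub_mor h.inv.1 ((mem_autGroup hN1T).1 hd'))
  let J : Subgroup (MulAut N1) :=
    { carrier := {a | a ∈ F.autGroup N1 ∧ ∀ v ∈ V, afun a v = v}
      one_mem' := ⟨one_mem _, fun v hv => afun_one (hVN1 hv)⟩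
      mul_mem' := fun ⟨ha, ha'⟩ ⟨hb, hb'⟩ => ⟨mul_mem ha hb, fun v hv => by
        rw [afun_mul _ _ (hVN1 hv), hb' v hv, ha' v hv]⟩
      inv_mem' := fun {a} ⟨ha, ha'⟩ => ⟨inv_mem ha, fun v hv => by
        conv_lhs => rw [← ha' v hv]
        exact afun_inv_apply a (hVN1 hv)⟩ }
  have hJp : IsPGroup p J := fun a => by
    obtain ⟨j, hj⟩ := FusionWeaklyNormal88.exists_pow_eq_one h.pgrp
      (FusionWeaklyNormal88.pow_card_eq_one_of_fixes hN1S hVN1 hN1V
        (hcY.2 V (FusionSysBasic.isConj_refl (inf_le_left.trans hY.1))) hN1T a.2.2)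
    exact ⟨j, Subtype.ext (by simpa using hj)⟩
  have hdE : d ∈ E.autGroup N1 := by
    refine FusionMeetKey.mem_of_div_mem
      (fun b hb => mem_autGroup_of_mor (sub_mor h.inv.1 ((mem_autGroup hN1T).1 hb)))
      (fun a ha b hb => ?_) hJp (fun a ha => ha.1) hdF (by rwa [hd, MulEquiv.orderOf_eq]) hd'
      ⟨mul_mem hdF (inv_mem hd'F), fun v hv => ?_⟩
    · have hm := (mem_autGroup hN1S).1 ha
      have e : a * b * a⁻¹ = hm.transport (im_afun a) b := afun_ext fun y hy => by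
        obtain ⟨x, hx, rfl⟩ : ∃ x ∈ N1, afun a x = y :=
          ⟨afun a⁻¹ y, afun_mem _ hy, afun_apply_inv a hy⟩
        rw [hm.afun_transport (im_afun a) b hx, afun_mul _ _ (afun_mem a hx),
          afun_inv_apply a hx, afun_mul _ _ hx]
      rw [e]
      exact FusionWeaklyNormal88.aut_transport h.inv hN1T hm (im_afun a) hb
    · have hv' := afun_mem uV⁻¹ hv
      rw [afun_mul _ _ (hVN1 hv)]
      conv_lhs => rw [← afun_apply_inv uV hv, ← he'e _ hv', ← hd'e _ (hVN1 hv'),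
        afun_inv_apply d' (hVN1 hv'), hdV _ hv']
      exact afun_apply_inv uV hv
  have hc0E : Mor E N0 (afun c0) := by
    obtain ⟨j, hj, hjφ, -, -⟩ := hφN0.exists_inv
    have ej : im N1 j = N0 := by
      rw [hN1, hφN0.im_comp]; exact (im_congr hjφ).trans (im_id N0)
    have h1 := FusionWeaklyNormal88.aut_transport h.inv hN1T (hN1 ▸ hj) ej hdE
    refine ((mem_autGroup inf_le_right).1 h1).congr fun x hx => ?_
    have hφx : φ x ∈ N1 := apply_mem_im hx
    conv_lhs => rw [← hjφ x hx]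
    rw [(hN1 ▸ hj : Mor F N1 j).afun_transport ej d hφx, hd,
      hφN0.afun_transport hN1.symm c0 hx, hjφ _ (afun_mem c0 hx)]
  have hG : Gam F E p N (afun c) :=
    ⟨tc_upward hc (inf_le_inf_right _ le_sup_left) inf_le_right, hcF, im_afun c,
      ⟨fun x hx => hcT k x hx, hc0E.congr hc0e⟩, fun α hα => by rwa [afun_ext hα]⟩
  exact ⟨afun c, gam_mor hG, hcW⟩

/-- Automorphisms of a fully automized universal subgroup extend. -/
theorem extends_aut {W : Subgroup Ω} (hW : W ≤ S) (hgood : GoodAbove G p (Nat.card W))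
    (huniv : ∀ Q, (G).IsConj W Q → To G Q W) (ha : (G).IsFullyAutomized p W) {β : MulAut W}
    (hβ : β ∈ (G).autGroup W) {M : Subgroup Ω} (hM : M ≤ normalizerIn S W)
    (hc : ∀ g ∈ M, ∃ k ∈ S, ∀ x ∈ W, afun β (cj g x) = cj k (afun β x)) :
    ∃ e, Mor G (W ⊔ M) e ∧ ∀ x ∈ W, e x = afun β x := by
  classical
  have hkN : ∀ g ∈ M, ∀ k ∈ S, (∀ x ∈ W, afun β (cj g x) = cj k (afun β x)) →
      k ∈ normalizerIn S W := fun g hg k hk he => ⟨hk, mem_normalizer_of_cj_le hW fun y hy => by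
    have hy' := afun_mem β⁻¹ hy
    rw [← afun_apply_inv β hy, ← he _ hy']
    exact afun_mem β (cj_mem_of_normalizer (hM hg).2 hy')⟩
  set X := (G).autGroup W with hX
  haveI := finite_autGroup (F := G) W
  set QM := autInducedBy M W with hQM
  have hQMT : QM ≤ autInducedBy S W := autInducedBy_mono (hM.trans inf_le_left) W
  have hQMX : QM ≤ X := hQMT.trans (autInducedBy_le hW)
  have hβQ : ∀ a ∈ QM, β * a * β⁻¹ ∈ autInducedBy S W := by
    intro a ha'
    obtain ⟨g, hg, -, hge⟩ := mem_autInducedBy.1 ha'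
    obtain ⟨k, hk, hke⟩ := hc g hg
    refine mem_autInducedBy.2 ⟨k, hk, (hkN g hg k hk hke).2, fun y hy => ?_⟩
    have hy' := afun_mem β⁻¹ hy
    rw [afun_mul _ _ hy, afun_mul _ _ hy', hge _ hy', hke _ hy', afun_apply_inv β hy]
  by_cases hTC : TC F T (W ⊓ T)
  · -- fusion in the automizer
    obtain ⟨P0, hP0⟩ := ha.2
    have hPT : ∀ {V : Subgroup X}, V ≤ (P0 : Subgroup X) →
        ∀ a ∈ V.map X.subtype, a ∈ autInducedBy S W := by
      rintro V hV _ ⟨a, ha', rfl⟩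
      have := hV ha'
      rw [hP0, Subgroup.mem_subgroupOf] at this
      exact this
    let Mm : Subgroup X → Subgroup Ω := fun V => W ⊔ nK S W (V.map X.subtype)
    have hMmN : ∀ V : Subgroup X, Mm V ≤ normalizerIn S W := fun V =>
      sup_le (le_normalizerIn hW) (le_inf nK_le fun n hn => nK_normalizes hW hn)
    have hvals : ∀ {V : Subgroup X} {g : X} {e : Ω → Ω}, Mor G (Mm V) e →
        (∀ x ∈ W, e x = afun (g : MulAut W) x) →
        ∀ y ∈ Mm V, e y ∈ Mm (TransferAlperin.cj g V) := by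
      intro V g e he hee y hy
      refine mor_sup_induction he
        (fun x hx => Subgroup.mem_sup_left (hee x hx ▸ afun_mem _ hx)) (fun n hn => ?_) hy
      obtain ⟨-, _, ⟨l, hl, rfl⟩, hle⟩ := id hn
      refine Subgroup.mem_sup_right ⟨he.apply_mem (Subgroup.mem_sup_right hn),
        ((g * l * g⁻¹ : X) : MulAut W), ⟨_, TransferAlperin.conj_mem_cj hl, rfl⟩, fun z hz => ?_⟩
      have hz' := afun_mem (g : MulAut W)⁻¹ hz
      conv_rhs => rw [← afun_apply_inv (g : MulAut W) hz, ← hee _ hz',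
        ← he.map_cj (Subgroup.mem_sup_right hn) (Subgroup.mem_sup_left hz'), ← hle _ hz',
        hee _ (afun_mem _ hz')]
      simp only [Subgroup.coe_mul, Subgroup.coe_inv, Subgroup.coe_subtype]
      rw [afun_mul _ _ hz, afun_mul _ _ hz']
    have key := FusionMeetGroup.closed_induction P0
      (fun V g => ∃ e, Mor G (Mm V) e ∧ ∀ x ∈ W, e x = afun (g : MulAut W) x) ?_ ?_ ?_ ?_ ?_
    · have h1 : TransferAlperin.cj (⟨β, hβ⟩ : X) (QM.subgroupOf X) ≤ (P0 : Subgroup X) := by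
        rintro _ ⟨a, ha', rfl⟩
        rw [hP0, Subgroup.mem_subgroupOf]
        exact hβQ _ ha'
      obtain ⟨e, he, hee⟩ := key (QM.subgroupOf X) ⟨β, hβ⟩ (fun a ha' => by
        rw [hP0, Subgroup.mem_subgroupOf]; exact hQMT ha') h1
      refine ⟨e, he.restrict_to (sup_le_sup_left (fun g hg => ?_) W), hee⟩
      refine ⟨(hM hg).1, nHom M W ⟨g, hg, (hM hg).2⟩, ?_, fun x hx => afun_nHom _ hx⟩
      rw [Subgroup.subgroupOf_map_subtype]
      have hmem : nHom M W ⟨g, hg, (hM hg).2⟩ ∈ QM :=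
        mem_autInducedBy.2 ⟨g, hg, (hM hg).2, fun x hx => afun_nHom _ hx⟩
      exact ⟨hmem, hQMX hmem⟩
    · intro V g k _ _ _ ⟨e, he, hee⟩ ⟨e', he', hee'⟩
      refine ⟨e' ∘ e, he.comp he' (hvals he hee), fun x hx => ?_⟩
      rw [Function.comp_apply, hee x hx, hee' _ (afun_mem _ hx), Subgroup.coe_mul,
        afun_mul _ _ hx]
    · intro V g hV _ ⟨e, he, hee⟩
      obtain ⟨i, hi, hie, -, -⟩ := he.exists_inv
      refine ⟨i, hi.restrict_to ?_, fun x hx => ?_⟩
      · have hWle : W ≤ im (Mm V) e := fun x hx => by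
          rw [← afun_apply_inv (g : MulAut W) hx, ← hee _ (afun_mem _ hx)]
          exact apply_mem_im (Subgroup.mem_sup_left (afun_mem _ hx))
        have hCMm : centralizerIn S W ≤ Mm V := fun c hc =>
          Subgroup.mem_sup_right ⟨hc.1, 1, one_mem _, fun z hz => by
            rw [afun_one hz, (mem_centralizerIn.1 hc).2 z hz]⟩
        have hC : centralizerIn S W ≤ im (Mm V) e := by
          refine le_trans (le_of_eq ?_) (im_mono hCMm)
          refine ((he.restrict_to hCMm).im_self fun c hc => mem_centralizerIn.2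
            ⟨he.apply_mem (hCMm hc), fun z hz => ?_⟩).symm
          have hz' := afun_mem (g : MulAut W)⁻¹ hz
          rw [← afun_apply_inv (g : MulAut W) hz, ← hee _ hz',
            ← he.map_cj (hCMm hc) (Subgroup.mem_sup_left hz'), (mem_centralizerIn.1 hc).2 _ hz']
        refine sup_le hWle fun n hn => ?_
        obtain ⟨hnT, _, ⟨_, ⟨l, hl, rfl⟩, rfl⟩, hle⟩ := id hn
        obtain ⟨t, ht, htn, hte⟩ := mem_autInducedBy.1 (hPT hV (l : MulAut W) ⟨l, hl, rfl⟩)
        have htM : t ∈ Mm V := Subgroup.mem_sup_right ⟨ht, (l : MulAut W), ⟨l, hl, rfl⟩, hte⟩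
        have hd : (e t)⁻¹ * n ∈ centralizerIn S W :=
          mem_centralizerIn.2 ⟨Subgroup.mul_mem _ (Subgroup.inv_mem _ (he.apply_mem htM)) hnT,
            fun z hz => by
              rw [← cj_cj, ← hle z hz]
              have hz' := afun_mem (g : MulAut W)⁻¹ hz
              simp only [MulEquiv.coe_toMonoidHom, MulAut.conj_apply, Subgroup.coe_subtype,
                Subgroup.coe_mul, Subgroup.coe_inv]
              rw [afun_mul _ _ hz, afun_mul _ _ hz', hte _ hz',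
                ← hee _ (cj_mem_of_normalizer htn hz'),
                he.map_cj htM (Subgroup.mem_sup_left hz'), hee _ hz',
                afun_apply_inv (g : MulAut W) hz, cj_inv_cj]⟩
        have := mul_mem (apply_mem_im (f := e) htM) (hC hd)
        rwa [mul_inv_cancel_left] at this
      · have hx' := afun_mem (g : MulAut W)⁻¹ hx
        conv_lhs => rw [← afun_apply_inv (g : MulAut W) hx, ← hee _ hx']
        rw [hie _ (Subgroup.mem_sup_left hx'), Subgroup.coe_inv]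
    · intro V V' g hVV _ _ ⟨e, he, hee⟩
      refine ⟨e, he.restrict_to (sup_le_sup_left ?_ W), hee⟩
      rintro n ⟨hn, l, hl, hle⟩
      exact ⟨hn, l, Subgroup.map_mono hVV hl, hle⟩
    · intro V _ g hg _
      rw [hP0, Subgroup.mem_subgroupOf] at hg
      obtain ⟨t, ht, -, hte⟩ := mem_autInducedBy.1 hg
      exact ⟨cj t, mor_cj ((hMmN V).trans inf_le_left) ht, fun x hx => (hte x hx).symm⟩
    · intro V hV g hgn hco
      refine h.extends_coprime hW huniv hTC (fun a ha' => hPT hV a ha') g.2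
        (by rwa [Subgroup.orderOf_coe]) ?_
      rintro _ ⟨a, ha', rfl⟩
      exact ⟨g * a * g⁻¹, (Subgroup.mem_normalizer_iff.1 hgn a).1 ha', rfl⟩
  -- a normal `p`-subgroup of the automizer has an outer element
  obtain ⟨x0, hx0, hx0W, hx0K⟩ := h.exists_kerT hW huniv hTC
  obtain ⟨Y, hloc, -, hYC, hext, hYmap⟩ := local_of_normal h.pgrp generated_prod hW hgood huniv
    (fun Q γ hQ => h.no_gam hTC Q γ hQ) (O := kerT F E p W) (fun a ha => ha.1)
    (h.kerT_normal hW) (h.kerT_pgroup hW) hx0 hx0W hx0K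
  have hYT : Y ≤ S := hloc.leN.trans inf_le_left
  obtain ⟨b, hb, hbe⟩ := hext β hβ
  haveI := finite_autGroup (F := G) Y
  set St := FusionTops.stab G Y W hloc.le
  have hnY : ∀ s ∈ normalizerIn S W, s ∈ normalizerIn S Y := fun s hs =>
    ⟨hs.1, mem_normalizer_of_cj_le hYT fun y hy =>
      hYmap Y _ (mor_cj (F := G) hYT hs.1) le_rfl (mem_normalizer_iff_im_cj.1 hs.2) y hy⟩
  have hbSt : b ∈ St := ⟨hb, (im_congr hbe).trans (im_afun β)⟩
  let Ek : Subgroup (MulAut Y) :=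
    { carrier := {a | a ∈ St ∧ ∀ x ∈ W, afun a x = x}
      one_mem' := ⟨one_mem _, fun x hx => afun_one (hloc.le hx)⟩
      mul_mem' := fun ⟨ha, ha'⟩ ⟨hb, hb'⟩ => ⟨mul_mem ha hb, fun x hx => by
        rw [afun_mul _ _ (hloc.le hx), hb' x hx, ha' x hx]⟩
      inv_mem' := fun {a} ⟨ha, ha'⟩ => ⟨inv_mem ha, fun x hx => by
        conv_lhs => rw [← ha' x hx]
        exact afun_inv_apply a (hloc.le hx)⟩ }
  have hEn : ∀ g ∈ St, ∀ a ∈ Ek, g * a * g⁻¹ ∈ Ek := fun g hg a ha' =>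
    ⟨mul_mem (mul_mem hg ha'.1) (inv_mem hg), fun x hx => by
      have hgx : afun g⁻¹ x ∈ W := (inv_mem hg : g⁻¹ ∈ St).2.le (apply_mem_im hx)
      rw [afun_mul _ _ (hloc.le hx), afun_mul _ _ (hloc.le hgx), ha'.2 _ hgx,
        afun_apply_inv g (hloc.le hx)]⟩
  set K : Subgroup Ω := nK S W (QM.map (MulAut.conj β).toMonoidHom) with hK
  have hKN : K ≤ normalizerIn S W := le_inf nK_le fun n hn => nK_normalizes hW hn
  set AK := autInducedBy K Y
  have hAKSt : AK ≤ St := by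
    exact (autInducedBy_mono hKN Y).trans (autInducedBy_le_stab hYT hloc.le le_rfl)
  have hRE : (autInducedBy (normalizerIn S Y ⊓ normalizerIn S W) Y) ⊓ Ek ≤ AK := by
    rintro a ⟨ha', haE⟩
    obtain ⟨s, hs, hsn, hse⟩ := mem_autInducedBy.1 ha'
    refine mem_autInducedBy.2 ⟨s, ⟨hs.2.1, 1, one_mem _, fun x hx => ?_⟩, hsn, hse⟩
    rw [afun_one hx, ← hse x (hloc.le hx), haE.2 x hx]
  haveI : Finite St :=
    Finite.of_injective _ (Subgroup.inclusion_injective (fun a ha => ha.1 : St ≤ (G).autGroup Y))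
  haveI : Finite ↥(AK ⊔ Ek : Subgroup (MulAut Y)) :=
    Finite.of_injective _ (Subgroup.inclusion_injective (sup_le hAKSt fun a ha => ha.1 : AK ⊔ Ek ≤ St))
  have hAKp : IsPGroup p AK :=
    (isPGroup_autInducedBy h.pgrp Y).to_le (autInducedBy_mono nK_le Y)
  obtain ⟨hsyl, hdec⟩ := FusionMeet.sylIn_sup hAKp (fun a ha' j hj => hEn a (hAKSt ha') j hj)
    (FusionCentralLift.sylIn_inf (hloc.sylow hloc.le)
      ((isPGroup_autInducedBy h.pgrp Y).to_le (autInducedBy_mono (inf_le_left.trans inf_le_left) Y))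
      (fun a ha' => ha'.1) hEn) inf_le_right hRE
  have hMY : M ≤ normalizerIn S Y ⊓ normalizerIn S W := le_inf (fun s hs => hnY s (hM hs)) hM
  have hconj : (autInducedBy M Y).map (MulAut.conj b).toMonoidHom ≤ AK ⊔ Ek := by
    rintro _ ⟨a, ha', rfl⟩
    obtain ⟨s, hs, hsn, hse⟩ := mem_autInducedBy.1 ha'
    obtain ⟨k, hk, hke⟩ := hc s hs
    have hkW := hkN s hs k hk hke
    have hkK : k ∈ K := by
      refine ⟨hk, _, ⟨nHom M W ⟨s, hs, (hM hs).2⟩,
        mem_autInducedBy.2 ⟨s, hs, (hM hs).2, fun x hx => afun_nHom _ hx⟩, rfl⟩, fun y hy => ?_⟩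
      have hy' := afun_mem β⁻¹ hy
      simp only [MulEquiv.coe_toMonoidHom, MulAut.conj_apply]
      rw [afun_mul _ _ hy, afun_mul _ _ hy', afun_nHom _ hy', hke _ hy', afun_apply_inv β hy]
    set ak : MulAut Y := nHom S Y ⟨k, hk, (hnY k hkW).2⟩
    have hakK : ak ∈ AK :=
      mem_autInducedBy.2 ⟨k, hkK, (hnY k hkW).2, fun y hy => afun_nHom _ hy⟩
    have hSt : b * a * b⁻¹ ∈ St := mul_mem (mul_mem hbSt
      (autInducedBy_le_stab hYT hloc.le inf_le_right (autInducedBy_mono hMY Y ha')))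
      (inv_mem hbSt)
    have hE : (b * a * b⁻¹) * ak⁻¹ ∈ Ek := by
      refine ⟨mul_mem hSt (inv_mem (hAKSt hakK)), fun x hx => ?_⟩
      have h1 : afun ak⁻¹ x = cj k⁻¹ x := by
        have hx' : cj k⁻¹ x ∈ W := cj_mem_of_normalizer (Subgroup.inv_mem _ hkW.2) hx
        conv_lhs => rw [← cj_cj_inv k x, ← afun_nHom (⟨k, hk, (hnY k hkW).2⟩ :
          ↥(S ⊓ Subgroup.normalizer (Y : Set Ω))) (hloc.le hx')]
        exact afun_inv_apply ak (hloc.le hx')
      have hx' : cj k⁻¹ x ∈ W := cj_mem_of_normalizer (Subgroup.inv_mem _ hkW.2) hx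
      have hy' : afun β⁻¹ (cj k⁻¹ x) ∈ W := afun_mem _ hx'
      have h2 : afun b⁻¹ (cj k⁻¹ x) = afun β⁻¹ (cj k⁻¹ x) := by
        conv_lhs => rw [← afun_apply_inv β hx', ← hbe _ hy']
        exact afun_inv_apply b (hloc.le hy')
      rw [afun_mul _ _ (hloc.le hx), h1, afun_mul _ _ (hloc.le hx'), h2,
        afun_mul _ _ (hloc.le hy'), hse _ (hloc.le hy'),
        hbe _ (cj_mem_of_normalizer (hM hs).2 hy'), hke _ hy', afun_apply_inv β hx', cj_cj_inv]
    have e : (MulAut.conj b).toMonoidHom a = (b * a * b⁻¹ * ak⁻¹) * ak := by simp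
    rw [e]
    exact mul_mem (Subgroup.mem_sup_right hE) (Subgroup.mem_sup_left hakK)
  obtain ⟨w, hw, hwK⟩ := sylIn_absorb hsyl
    (((isPGroup_autInducedBy h.pgrp Y).to_le (autInducedBy_mono (hM.trans inf_le_left) Y)).map _) hconj
  obtain ⟨a0, ha0, j, hj, rfl⟩ := hdec w hw
  obtain ⟨e, he, hee⟩ := hloc.ext (j * b) (mul_mem hj.1.1 hb)
    ((im_congr fun x hx => by
      rw [afun_mul _ _ (hloc.le hx), hbe x hx, hj.2 _ (afun_mem β hx)]).trans (im_afun β))
    M hMY fun s hs => by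
      have has : nHom M Y ⟨s, hs, (hMY hs).1.2⟩ ∈ autInducedBy M Y :=
        mem_autInducedBy.2 ⟨s, hs, (hMY hs).1.2, fun y hy => afun_nHom _ hy⟩
      have h1 := AK.mul_mem (AK.mul_mem (AK.inv_mem ha0) (hwK _ ⟨_, has, rfl⟩)) ha0
      obtain ⟨v, hv, -, hve⟩ := mem_autInducedBy.1 h1
      refine ⟨v, nK_le hv, fun y hy => ?_⟩
      have hy1 := afun_mem (j * b) hy
      rw [← hve _ hy1, show a0⁻¹ * (a0 * j * (MulAut.conj b).toMonoidHom
        (nHom M Y ⟨s, hs, (hMY hs).1.2⟩) * (a0 * j)⁻¹) * a0 =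
          (j * b) * nHom M Y ⟨s, hs, (hMY hs).1.2⟩ * (j * b)⁻¹ by
            simp only [MulEquiv.coe_toMonoidHom, MulAut.conj_apply]; group,
        afun_mul _ _ hy1, afun_inv_apply _ hy, afun_mul _ _ hy, afun_nHom _ hy]
  refine ⟨e, he.restrict_to (sup_le_sup_right hloc.le M), fun x hx => ?_⟩
  rw [hee x (hloc.le hx), afun_mul _ _ (hloc.le hx), hbe x hx, hj.2 _ (afun_mem β hx)]

/-- The product is saturated. -/
theorem saturated_prod : (G).IsSaturated p := by
  refine saturated_of_classes fun P hP hgood => ?_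
  obtain ⟨W, hPW, hWn, huniv⟩ := exists_universal h.pgrp generated_prod hP hgood
  rw [FusionSysBasic.isConj_card hPW] at hgood
  have hW := hWn.1
  have ha := h.automized hW hgood huniv
  refine ⟨W, hPW, ha, receptive_iff.2 ⟨hW, fun Q f M hf him hMS hMn hM => ?_⟩⟩
  obtain ⟨hQS, k, hk, hkW⟩ := huniv Q (isConj_symm (FusionSysBasic.isConj_iff.2 ⟨f, hf, him⟩))
  have hkQ := hk.restrict_to (le_normalizerIn hQS)
  obtain ⟨ki, hki, hkik, -, hkiQ⟩ := hkQ.exists_inv
  rw [hkW] at hki hkiQ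
  have hb : Mor G W (f ∘ ki) := hki.comp hf hkiQ
  obtain ⟨β, hβ, hβe⟩ := hb.exists_aut (hb.im_self fun w hw => him ▸ apply_mem_im (hkiQ w hw))
  have hMN : M ≤ normalizerIn S Q := le_inf hMS hMn
  have hkM := hk.restrict_to hMN
  obtain ⟨e, he, hee⟩ := h.extends_aut hW hgood huniv ha hβ (M := im M k)
    (im_le_iff.2 fun s hs => mor_normalizer_mem hk hQS hkW (hMN hs)) fun s hs => by
      obtain ⟨v, hv, rfl⟩ := hkM.mem_im.1 hs
      obtain ⟨j, hj, hje⟩ := hM v hv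
      refine ⟨j, hj, fun w hw => ?_⟩
      obtain ⟨x, hx, rfl⟩ := hkQ.mem_im.1 (hkW.ge hw)
      have hvx := cj_mem_of_normalizer (hMn hv) hx
      rw [← hk.map_cj (hMN hv) (le_normalizerIn hQS hx), hβe _ (hkW ▸ apply_mem_im hvx),
        hβe _ (hkW ▸ apply_mem_im hx), Function.comp_apply, Function.comp_apply, hkik _ hvx,
        hkik x hx, hje x hx]
  refine ⟨e ∘ k, (hk.restrict_to (sup_le (le_normalizerIn hQS) hMN)).comp he fun y hy =>
    mor_sup_induction (hk.restrict_to (sup_le (le_normalizerIn hQS) hMN))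
      (fun x hx => Subgroup.mem_sup_left (hkW ▸ apply_mem_im hx))
      (fun x hx => Subgroup.mem_sup_right (apply_mem_im hx)) hy, fun x hx => ?_⟩
  have hkx : k x ∈ W := hkW ▸ apply_mem_im hx
  rw [Function.comp_apply, hee _ hkx, hβe _ hkx, Function.comp_apply, hkik x hx]

end Setup

end Cfsg.Agent.FusionProductR5
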