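import Cfsg.Agent.Lib.FusionModelTools
import Cfsg.Agent.Lib.FusionQd
import Cfsg.Agent.Lib.FusionRealized87
import Cfsg.Agent.S5281
import Cfsg.Prelude.Def_FusionReduction
import Cfsg.Agent.Lib.HallCore

/-!
Groups realising automorphisms of a `Qd(p)`-free system are `Qd(p)`-free.
-/

set_option autoImplicit false

universe u v

namespace Cfsg.Agent.FusionQdFree89

open Cfsg Cfsg.FusionSystem Cfsg.Agent.FusionSysBasic Cfsg.Agent.FusionSysSaturated
  Cfsg.Agent.FusionSysNormal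

variable {Ω : Type u} [Group Ω] {S : Subgroup Ω} [Finite S] {F : FusionSystem S} {p : ℕ}
  [Fact p.Prime]

/-- `G` has a normal self-centralizing `p`-subgroup `R/K` (`K` normal in `F`) on which it acts
through maps of `F`; then `Qd(p)` is not involved in `G`. -/
theorem not_involves (hS : IsPGroup p S) (hF : F.IsSaturated p)
    (hfree : F.IsSectionFree p ↥(Cfsg.qd p)) {R K : Subgroup Ω} (hRS : R ≤ S) (hK : F.IsNormal K)
    (hKR : K ≤ R) {G : Type v} [Group G] [Finite G] {Rb : Subgroup G} [hRb : Rb.Normal]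
    (hC : Subgroup.centralizer (Rb : Set G) ≤ Rb) (π : R →* Rb) (hπ : Function.Surjective π)
    (hker : ∀ r : R, π r = 1 ↔ (r : Ω) ∈ K)
    (hact : ∀ g : G, ∃ f, Mor F R f ∧ ∀ r : R, ∃ h : f r ∈ R,
      g * (π r : G) * g⁻¹ = (π ⟨f r, h⟩ : G)) :
    ¬ Cfsg.Involves ↥(Cfsg.qd p) G := by
  intro hinv
  haveI := finite_of_le hRS
  obtain ⟨Rn, hRRn, hRnn⟩ := exists_fullyNormalized (F := F) hRS
  obtain ⟨W, R', hWn, hWc, hWr, hR'W, hRnR', hext⟩ := S5281.exists_radical_over hS hF hRnn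
  obtain ⟨f0, hf0, hf0R⟩ := FusionSysBasic.isConj_iff.mp (isConj_trans hRRn hRnR')
  have hWS : W ≤ S := hWn.1
  have hWT : W ≤ normalizerIn S W := le_normalizerIn hWS
  let N' := normalizerSystem F W hWS
  have hN' := isNormalizerSystem_normalizerSystem (F := F) W hWS
  have hS' : IsPGroup p ↥(normalizerIn S W) := hS.to_le inf_le_left
  haveI : Finite ↥(normalizerIn S W) := finite_normalizerIn W
  obtain ⟨-, W₀, hW₀n, hW₀c⟩ := FusionModelTools.constrained_normalizerSystem hS hF hWn hWc hN'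
  have hH : FusionSysModel.Hyp p N' W₀ :=
    ⟨hS', FusionSysNormalizer.normalizerSystem_saturated hS hF hWn hN', hW₀n, hW₀c⟩
  haveI := FusionSysModel.k0_normal hH
  haveI := FusionSysModel.finite_model hH
  have hM' := FusionSysModel.isModel hH
  apply hfree W hWn hWc N' hN' _ _ hM'
  let ι' := FusionSysModel.iota hH
  have hf0W : ∀ x ∈ R, f0 x ∈ W := fun x hx => hR'W (hf0R ▸ apply_mem_im hx)
  have hKf : ∀ x ∈ K, f0 x ∈ K := fun x hx => normal_invariant hK hf0 (hKR hx) hx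
  have hKim : im K f0 = K := (hf0.restrict_to hKR).im_self hKf
  have hKW : K ≤ W := fun x hx => by
    obtain ⟨y, hy, rfl⟩ := (hf0.restrict_to hKR).mem_im.mp (hKim.ge hx)
    exact hf0W y (hKR hy)
  have hKN : N'.IsNormal K := by
    refine isNormal_iff.mpr ⟨hKW.trans hWT, fun P f hf => ?_⟩
    obtain ⟨-, hP, hfT, f', hf', hag, him⟩ := (mor_normalizerSystem_iff hN').mp hf
    have hKm : Mor F K f' := hf'.restrict_to (hKW.trans le_sup_right)
    have himK : im K f' = K := hKm.im_self fun x hx =>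
      normal_invariant hK hf' (Subgroup.mem_sup_right (hKW hx)) hx
    have hle : P ⊔ K ≤ P ⊔ W := sup_le_sup_left hKW P
    refine ⟨f', (mor_normalizerSystem_iff hN').mpr ⟨hf'.restrict_to hle,
      sup_le hP (hKW.trans hWT), fun x hx => ?_, f',
      hf'.restrict_to (sup_le hle le_sup_right), fun _ _ => rfl, him⟩, hag, himK⟩
    exact mor_sup_induction (hf'.restrict_to hle)
      (fun a ha => by rw [hag a ha]; exact hfT a ha)
      (fun b hb => hWT (hKW (himK.le (apply_mem_im hb)))) hx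
  let KM : Subgroup (FusionSysModel.Model hH) :=
    (K.subgroupOf (normalizerIn S W)).map ι'
  haveI hKMn : KM.Normal := ⟨fun x hx g => by
    obtain ⟨r, hr, rfl⟩ := hx
    obtain ⟨r', hr', e⟩ := FusionSysModel.model_conj hM' hKN g r hr
    exact ⟨r', hr', e.symm⟩⟩
  let τ : R →* FusionSysModel.Model hH ⧸ KM :=
    ((QuotientGroup.mk' KM).comp ι').comp
      { toFun := fun x => ⟨f0 x, hWT (hf0W x x.2)⟩
        map_one' := Subtype.ext hf0.map_one
        map_mul' := fun x y => Subtype.ext (hf0.map_mul x.2 y.2) }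
  have hτ : ∀ r : R, τ r = 1 ↔ (r : Ω) ∈ K := by
    intro r
    show QuotientGroup.mk' KM (ι' ⟨f0 r, hWT (hf0W r r.2)⟩) = 1 ↔ _
    rw [QuotientGroup.mk'_apply, QuotientGroup.eq_one_iff]
    constructor
    · rintro ⟨s, hs, hse⟩
      have hsk : (s : Ω) ∈ K := hs
      rw [FusionSysModel.iota_injective hH hse] at hsk
      obtain ⟨y, hy, hye⟩ := (hf0.restrict_to hKR).mem_im.mp (hKim.ge hsk)
      rw [← hf0.injOn (hKR hy) r.2 hye]
      exact hy
    · exact fun hr => ⟨_, hKf r hr, rfl⟩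
  have hker' : π.ker ≤ τ.ker := fun r hr => (hτ r).mpr ((hker r).mp hr)
  let θ : Rb →* FusionSysModel.Model hH ⧸ KM := π.liftOfSurjective hπ ⟨τ, hker'⟩
  have hθ : ∀ r : R, θ (π r) = τ r := fun r =>
    π.liftOfRightInverse_comp_apply _ _ ⟨τ, hker'⟩ r
  have hθi : Function.Injective θ := by
    rw [injective_iff_map_eq_one]
    intro a ha
    obtain ⟨r, rfl⟩ := hπ a
    rw [hθ] at ha
    exact (hker r).mpr ((hτ r).mp ha)
  refine FusionQd.involves_of_surjective (QuotientGroup.mk'_surjective KM)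
    (FusionQd.involves_transfer (Q := Rb) ?_ hC θ hθi ?_ hinv)
  · exact (hS.to_le hRS).of_surjective π hπ
  intro g
  obtain ⟨f, hf, hfc⟩ := hact g
  obtain ⟨α, hα, hαe⟩ := hf.exists_aut (hf.im_self fun x hx => (hfc ⟨x, hx⟩).choose)
  obtain ⟨γ, hγ, hγe⟩ := hext _ (hf0.transport_mem hf0R hα)
  have hγm : Mor F W (afun γ) := (mem_autGroup hWS).mp hγ
  obtain ⟨-, -, l, hl⟩ := (FusionRealized87.mor_iff hM'.2.1).mp
    ((mor_normalizerSystem_iff hN').mpr ⟨hγm, hWT, fun x hx => hWT (afun_mem γ hx), afun γ,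
      by rwa [sup_idem], fun _ _ => rfl, im_afun γ⟩)
  refine ⟨QuotientGroup.mk' KM l, fun q => ?_⟩
  obtain ⟨r, rfl⟩ := hπ q
  obtain ⟨hfr, he⟩ := hfc r
  have e0 : (⟨g * (π r : G) * g⁻¹, hRb.conj_mem _ (π r).2 g⟩ : Rb) = π ⟨f r, hfr⟩ := Subtype.ext he
  rw [show (⟨g * (π r : G) * g⁻¹, (inferInstance : Rb.Normal).conj_mem _ (π r).2 g⟩ : Rb) = _ from e0,
    hθ, hθ]
  have hx' : f0 r ∈ W := hf0W r r.2
  have e2 := hl (f0 r) hx'
  rw [hγe (f0 r) (hf0R ▸ apply_mem_im r.2), hf0.afun_transport hf0R α r.2, hαe r r.2,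
    FusionRealized87.up_apply ι' (hWT (hf0W _ hfr)),
    FusionRealized87.up_apply ι' (hWT hx')] at e2
  show QuotientGroup.mk' KM (ι' _) = QuotientGroup.mk' KM l * QuotientGroup.mk' KM (ι' _) *
    (QuotientGroup.mk' KM l)⁻¹
  rw [← map_inv, ← map_mul, ← map_mul]
  exact congrArg (QuotientGroup.mk' KM) e2

/-- The largest normal `p`-subgroup of a model and the maps realised on it. -/
theorem model_data {Ω' : Type*} [Group Ω'] {T : Subgroup Ω'} {X : FusionSystem T}
    {G : Type v} [Group G] {ι : T →* G} (hM : X.IsModel p G ι) :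
    ∃ (P : Subgroup Ω') (hP : P ≤ T) (π : P →* ↥(Cfsg.pCore p G)), Function.Surjective π ∧
      (∀ r : P, (π r : G) = ι ⟨r, hP r.2⟩) ∧
      ∀ g : G, ∃ f, Mor X P f ∧ ∀ r : P, ∃ h : f r ∈ P, g * (π r : G) * g⁻¹ = (π ⟨f r, h⟩ : G) := by
  obtain ⟨hfin, hreal, ⟨T₀, hT₀⟩, -⟩ := hM
  haveI := hfin
  haveI : (Cfsg.pCore p G).Normal := HallCore.pCore_normal p G
  have hle : Cfsg.pCore p G ≤ ι.range := by
    rw [← hT₀]
    exact le_sup_left.trans (T₀.3 ((HallCore.isPGroup_pCore p G).to_sup_of_normal_left T₀.2)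
      le_sup_right).le
  set P := FusionRealized87.downS ι (Cfsg.pCore p G) with hPdef
  have hP : P ≤ T := FusionRealized87.downS_le ι _
  have hmem : ∀ r : P, ι ⟨r, hP r.2⟩ ∈ Cfsg.pCore p G := fun r => by
    rw [← FusionRealized87.up_apply ι (hP r.2)]
    exact ((FusionRealized87.mem_downS ι).mp r.2).2
  let π : P →* ↥(Cfsg.pCore p G) :=
    (ι.comp (Subgroup.inclusion hP)).codRestrict _ fun r => hmem r
  refine ⟨P, hP, π, fun a => ?_, fun r => rfl, fun g => ?_⟩
  · obtain ⟨t, ht⟩ := hle a.2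
    refine ⟨⟨t, (FusionRealized87.mem_downS ι).mpr ⟨t.2, ?_⟩⟩, Subtype.ext ?_⟩
    · rw [FusionRealized87.up_apply ι t.2, Subtype.coe_eta, ht]; exact a.2
    · exact ht
  have hin : ∀ x ∈ P, cj g (FusionRealized87.up ι x) ∈ ι.range := fun x hx =>
    hle (Subgroup.Normal.conj_mem inferInstance _ ((FusionRealized87.mem_downS ι).mp hx).2 g)
  refine ⟨_, FusionRealized87.mor_of_conj hreal hP hin, fun r => ?_⟩
  have hd := FusionRealized87.down_mem ι (cj g (FusionRealized87.up ι (r : Ω')))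
  have hup := FusionRealized87.up_down ι (hin r r.2)
  refine ⟨(FusionRealized87.mem_downS ι).mpr ⟨hd, ?_⟩, ?_⟩
  · rw [hup]
    exact Subgroup.Normal.conj_mem inferInstance _ ((FusionRealized87.mem_downS ι).mp r.2).2 g
  · show g * ι ⟨r, hP r.2⟩ * g⁻¹ = ι ⟨_, _⟩
    rw [← FusionRealized87.up_apply ι (hP r.2), ← FusionRealized87.up_apply ι hd, hup, cj_apply]

end Cfsg.Agent.FusionQdFree89
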