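import Mathlib
import Cfsg.Agent.Lib.RankOneFusion55Shapes
import Cfsg.Agent.Lib.RankOneFusion55WreathModels
import Cfsg.Agent.Lib.FusionPPowerIndex88
import Cfsg.Agent.Lib.FusionPResidualNormal5
import Cfsg.Agent.Lib.FusionFocal
import Cfsg.Agent.Lib.FusionLayer
import Cfsg.Agent.S5337

/-!
Consequences of simplicity for saturated fusion systems on 2-groups: trivial centre, the group is
not normal, the hyperfocal subgroup is everything, and both classes of the rank two shapes move.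
-/

set_option autoImplicit false
set_option linter.style.haveILetI false
set_option linter.unusedSectionVars false

open Cfsg Cfsg.FusionSystem
open Cfsg.Agent.FusionSysBasic Cfsg.Agent.FusionSysSaturated Cfsg.Agent.FusionSysNormal
  Cfsg.Agent.FusionSysAlperin Cfsg.Agent.TwoGroupRel44

namespace Cfsg.Agent.FusionRankTwoSimple47

universe u

variable {Ω : Type u} [Group Ω] {S T : Subgroup Ω}

/-- An abelian strongly closed subgroup whose maps all come from its automorphisms carries a normal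
inner subsystem. -/
theorem inner_normal' [Finite S] {p : ℕ} [Fact p.Prime] (hS : IsPGroup p S) {F : FusionSystem S}
    (hF : F.IsSaturated p) (habT : ∀ x ∈ T, ∀ y ∈ T, x * y = y * x) (hT : F.StronglyClosed T)
    (hext : ∀ (P : Subgroup Ω) (f : Ω → Ω), Mor F P f → P ≤ T →
      ∃ α ∈ F.autGroup T, ∀ x ∈ P, f x = afun α x) :
    (innerFusionSystem T).IsNormalIn F p := by
  haveI := finite_of_le hT.1
  have hfix : ∀ {P : Subgroup Ω} {φ : P →* Ω}, φ ∈ (innerFusionSystem T).Hom P →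
      ∀ x : P, φ x = x := by
    rintro P φ ⟨hP, g, hg, he⟩ x
    rw [he, ← cj_apply, S5337.cj_eq habT hg (hP x.2)]
  refine ⟨⟨S5337.inner_saturated (hS.to_le hT.1) habT, hF, ?_, hT, ?_, ?_⟩, ?_⟩
  · rintro P φ ⟨hP, g, hg, he⟩
    exact (mor_iff_hom he).mp (mor_cj (F := F) (hP.trans hT.1) (hT.1 hg))
  · intro P hPT φ hφ α _
    refine ⟨Cfsg.conjHom _ (1 : Ω), (innerFusionSystem T).conj_mem ?_ T.one_mem, fun x hφx hαx => ?_⟩
    · rintro _ ⟨y, -, rfl⟩
      exact (α y).2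
    · have e : (⟨φ x, hφx⟩ : T) = ⟨x, hPT x.2⟩ := Subtype.ext (hfix hφ x)
      rw [e]
      show cj 1 _ = _
      rw [cj_one]
      rfl
  · intro P hP φ hφ
    obtain ⟨α, hα, he⟩ := hext P _ (mor_toFun hφ) hP
    refine ⟨α, hα, Cfsg.conjHom P (1 : Ω), (innerFusionSystem T).conj_mem hP T.one_mem,
      fun x hx => ?_⟩
    have e : (⟨Cfsg.conjHom P (1 : Ω) x, hx⟩ : T) = ⟨x, hP x.2⟩ :=
      Subtype.ext (cj_one (x : Ω))
    rw [e, ← toFun_coe φ x, he x x.2, afun_apply]
  · intro α hα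
    refine ⟨1, one_mem _, fun x => ?_, fun c _ => ?_⟩
    · have h := S5337.mor_inner_abelian habT ((mem_autGroup le_rfl).mp hα) x.2
      rw [afun_coe] at h
      rw [h]
      rfl
    · simp only [MulAut.one_apply, inv_mul_cancel]
      exact one_mem _

variable [Finite S] [Fact (Nat.Prime 2)] {F : FusionSystem S}

/-- A simple system over a group with a four-subgroup is over a nonabelian group. -/
theorem nonabelian (hS : IsPGroup 2 S) (hr : Cfsg.PRankAtLeast 2 2 ↥S) (hs : F.IsSimple 2)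
    (hab : ∀ x ∈ S, ∀ y ∈ S, x * y = y * x) : False := by
  obtain ⟨hc, -⟩ := (S5337.result 2 hS F hs.1 hab).mp hs
  obtain ⟨A, -, -, hA⟩ := hr
  have := hA.trans (Subgroup.card_le_card_group A)
  omega

/-- A simple system has trivial centre. -/
theorem center_eq_bot (hS : IsPGroup 2 S) (hr : Cfsg.PRankAtLeast 2 2 ↥S) (hs : F.IsSimple 2) :
    F.center = ⊥ := by
  by_contra hne
  obtain ⟨hQS, hQ⟩ := isCentral_iff.mp (center_isCentral (F := F))
  have hfix : ∀ (P : Subgroup Ω) (f : Ω → Ω), Mor F P f → ∀ x ∈ P, x ∈ F.center → f x = x := by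
    intro P f hf x hxP hxQ
    obtain ⟨f', -, hag, hid⟩ := hQ P f hf
    rw [← hag x hxP, hid x hxQ]
  have habQ : ∀ x ∈ F.center, ∀ y ∈ F.center, x * y = y * x := fun x hx y hy => by
    have := hfix S (cj x) (mor_cj le_rfl (hQS hx)) y (hQS hy) hy
    rwa [cj_apply, mul_inv_eq_iff_eq_mul] at this
  have hN := inner_normal' hS hs.1 habQ
    (stronglyClosed_iff.mpr ⟨hQS, fun P f hP hf x hx => by rw [hfix P f hf x hx (hP hx)]; exact hP hx⟩)
    fun P f hf hP => ⟨1, one_mem _, fun x hx => by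
      rw [hfix P f hf x hx (hP hx), afun_one (hP hx)]⟩
  obtain ⟨e, -⟩ := (hs.2.2 _ _ hN).resolve_left hne
  exact nonabelian hS hr hs fun x hx y hy => habQ x (by rw [e]; exact hx) y (by rw [e]; exact hy)

/-- In a simple system the whole group is not normal. -/
theorem not_normal (hS : IsPGroup 2 S) (hr : Cfsg.PRankAtLeast 2 2 ↥S) (hs : F.IsSimple 2) :
    ¬ F.IsNormal S := by
  intro hn
  set Z := (Subgroup.center ↥S).map S.subtype with hZ
  have hZS : Z ≤ S := Subgroup.map_subtype_le _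
  have hZc : (Z.subgroupOf S).Characteristic := by
    rw [hZ, Subgroup.subgroupOf, Subgroup.comap_map_eq_self_of_injective S.subtype_injective]
    infer_instance
  have hZn := normal_of_characteristic hn hZS hZc
  have habZ : ∀ x ∈ Z, ∀ y ∈ Z, x * y = y * x := by
    rintro x hx y hy
    obtain ⟨x', hx', rfl⟩ := hx
    exact congrArg Subtype.val ((Subgroup.mem_center_iff.mp hx') ⟨y, hZS hy⟩).symm
  have hN := inner_normal' hS hs.1 habZ (stronglyClosed_of_normal hZn) fun P f hf hP => by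
    obtain ⟨f', hf', hag, him⟩ := (isNormal_iff.mp hZn).2 P f hf
    have hm := hf'.restrict_to (le_sup_right : Z ≤ P ⊔ Z)
    obtain ⟨α, hα, he⟩ := hm.exists_aut him
    exact ⟨α, hα, fun x hx => by rw [he x (hP hx), hag x hx]⟩
  have hne : Z ≠ ⊥ := by
    haveI : Nontrivial S := (Subgroup.nontrivial_iff_ne_bot S).mpr hs.2.1
    haveI := hS.center_nontrivial
    rw [hZ, ne_eq, Subgroup.map_eq_bot_iff_of_injective _ S.subtype_injective]
    exact (Subgroup.nontrivial_iff_ne_bot _).mp inferInstance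
  obtain ⟨e, -⟩ := (hs.2.2 _ _ hN).resolve_left hne
  exact nonabelian hS hr hs fun x hx y hy => habZ x (by rw [e]; exact hx) y (by rw [e]; exact hy)

/-- In a simple system the hyperfocal subgroup is everything. -/
theorem hyperfocal_eq (hS : IsPGroup 2 S) (hr : Cfsg.PRankAtLeast 2 2 ↥S) (hs : F.IsSimple 2) :
    F.hyperfocalSubgroup 2 = S := by
  obtain ⟨E, hE, hEi⟩ := FusionPPowerIndex88.exists_pPower (Nat.card S) S F
    (F.hyperfocalSubgroup 2) le_rfl hS hs.1 (FusionPPower.hyperfocal_le F) le_rfl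
  rcases hs.2.2 _ _ (FusionPResidualNormal5.normal_residual hS (FusionLayer.self_normal hs.1) hE hEi)
    with h | h
  · refine absurd ?_ (not_normal hS hr hs)
    have hall := FusionPPower.hom_eq_inner hS hs.1 fun P hP α hα hc => afun_ext fun x hx => by
      have := FusionInduct88.gen_mem_hyperfocal (F := F) (p := 2) hP hα hc hx
      rw [h, Subgroup.mem_bot, inv_mul_eq_one] at this
      rw [← this, afun_one hx]
    refine isNormal_iff.mpr ⟨le_rfl, fun P f hf => ?_⟩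
    obtain ⟨φ, hφ, he⟩ := hf
    rw [hall P] at hφ
    obtain ⟨hP, g, hg, hge⟩ := hφ
    refine ⟨cj g, mor_cj (sup_le hP le_rfl) hg,
      fun x hx => by rw [← he ⟨x, hx⟩, hge]; rfl, ?_⟩
    exact (mor_cj (F := F) le_rfl hg).im_self fun x hx => cj_mem_S hg hx
  · exact h.1

/-- A subgroup of index two that contains all essential subgroups. -/
theorem not_le_index_two (hS : IsPGroup 2 S) (hr : Cfsg.PRankAtLeast 2 2 ↥S) (hs : F.IsSimple 2)
    (haut : ∀ α : MulAut S, ∃ k : ℕ, α ^ 2 ^ k = 1) {M : Subgroup Ω} (hMS : M ≤ S)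
    {w : Ω} (hw : w ∈ S) (hwM : w ∉ M)
    (htwo : ∀ u ∈ S, ∀ v ∈ S, u ∉ M → v ∉ M → u⁻¹ * v ∈ M)
    (hess : ∀ P : Subgroup Ω, F.IsEssential 2 P → P ≤ M) : False := by
  have hF := hs.1
  have hn : ∀ g ∈ S, ∀ u ∈ S, cj g u ∈ M ↔ u ∈ M := by
    have key : ∀ g ∈ S, ∀ u ∈ M, cj g u ∈ M := by
      intro g hg u hu
      by_cases hgM : g ∈ M
      · exact M.mul_mem (M.mul_mem hgM hu) (M.inv_mem hgM)
      by_contra hc
      have h1 := htwo g hg _ (cj_mem_S hg (hMS hu)) hgM hc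
      rw [cj_apply, mul_assoc, inv_mul_cancel_left, Subgroup.mul_mem_cancel_left _ hu] at h1
      exact hgM (inv_mem_iff.mp h1)
    intro g hg u hu
    refine ⟨fun h => ?_, key g hg u⟩
    have := key g⁻¹ (S.inv_mem hg) _ h
    rwa [cj_inv_cj] at this
  have hkeep : ∀ {P : Subgroup Ω} {f : Ω → Ω}, Mor F P f → ∀ u ∈ P, f u ∈ M ↔ u ∈ M := by
    intro P f hf u hu
    refine RankOneFusion55.mor_keep hS hF (M : Set Ω) ?_ hf hu
    rintro Q (rfl | hQ) α hα v hv
    · obtain ⟨g, hg, -, he⟩ := mem_autInducedBy.mp (RankOneFusion55.autGroup_self_le hF haut hα)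
      rw [he v hv]
      exact hn g hg v hv
    · exact iff_of_true (hess Q hQ (afun_mem α hv)) (hess Q hQ hv)
  have hfoc : F.focalSubgroup ≤ M := FusionFocal.focal_le_iff.mpr fun P f hf x hx => by
    by_cases hxM : x ∈ M
    · exact M.mul_mem (M.inv_mem hxM) ((hkeep hf x hx).mpr hxM)
    · exact htwo x (hf.le hx) _ (hf.apply_mem hx) hxM fun h => hxM ((hkeep hf x hx).mp h)
  exact hwM (hfoc (FusionFocal.hyperfocal_le_focal ((hyperfocal_eq hS hr hs).ge hw)))

open RankOneFusion55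

/-- In a simple system both classes of a maximal class group move. -/
theorem mc_moved {x y : Ω} {n r s : ℕ} (h : MC S x y n r s) (hsd : n = 2 → 2 ^ n ∣ s)
    (hr : Cfsg.PRankAtLeast 2 2 ↥S) (hs : F.IsSimple 2) (k : ℤ) : Moved F x y k := by
  by_contra hk
  have hro : (2 : ℤ) ∣ (r : ℤ) - 1 := by have := h.hr; omega
  have hse : (2 : ℤ) ∣ (s : ℤ) := by
    obtain ⟨d, hd⟩ := h.hs
    obtain ⟨m, hm⟩ := Nat.exists_eq_add_of_le h.two
    rw [hm, pow_add] at hd
    have : s = 2 * (2 ^ m * d) := by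
      have e : 2 * s = 2 * (2 * (2 ^ m * d)) := by rw [hd]; ring
      omega
    exact ⟨((2 ^ m * d : ℕ) : ℤ), by rw [this]; push_cast; ring⟩
  have h2n : (2 : ℤ) ∣ 2 ^ n := dvd_pow_self 2 (by have := h.two; omega)
  have hpar : ∀ {a b : ℤ}, x ^ a = x ^ b → (2 : ℤ) ∣ a - b := fun e =>
    h2n.trans ((h.eq_iff _ _).mp e)
  let M : Subgroup Ω :=
    { carrier := {u | ∃ a : ℤ, (u = x ^ a ∧ 2 ∣ a) ∨ (u = x ^ a * y ∧ 2 ∣ a - (k + 1))}
      one_mem' := ⟨0, Or.inl ⟨(zpow_zero x).symm, dvd_zero 2⟩⟩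
      mul_mem' := by
        rintro _ _ ⟨a, ⟨rfl, ha⟩ | ⟨rfl, ha⟩⟩ ⟨b, ⟨rfl, hb⟩ | ⟨rfl, hb⟩⟩
        · exact ⟨a + b, Or.inl ⟨(zpow_add x a b).symm, by omega⟩⟩
        · exact ⟨a + b, Or.inr ⟨by rw [← mul_assoc, ← zpow_add], by omega⟩⟩
        · refine ⟨(r : ℤ) * b + a, Or.inr ⟨?_, ?_⟩⟩
          · rw [h.conj_inside, ← mul_assoc, ← zpow_add]
          · have := hb.mul_left (r : ℤ); omega
        · refine ⟨(r : ℤ) * b + a + s, Or.inl ⟨?_, ?_⟩⟩
          · rw [show x ^ a * y * (x ^ b * y) = (x ^ a * y * x ^ b) * y by group, h.conj_inside,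
              mul_assoc, mul_assoc, h.rel.YY, ← zpow_add, ← zpow_add, add_assoc]
          · obtain ⟨e, he⟩ := hro
            rw [show (r : ℤ) * b = b + 2 * (e * b) by linear_combination b * he]
            omega
      inv_mem' := by
        rintro _ ⟨a, ⟨rfl, ha⟩ | ⟨rfl, ha⟩⟩
        · exact ⟨-a, Or.inl ⟨(zpow_neg x a).symm, ha.neg_right⟩⟩
        · refine ⟨-(s : ℤ) + (r : ℤ) * (-a), Or.inr ⟨?_, ?_⟩⟩
          · have hY : y⁻¹ = x ^ (-(s : ℤ)) * y := inv_eq_of_mul_eq_one_left (by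
              rw [mul_assoc, h.rel.YY, ← zpow_add, neg_add_cancel, zpow_zero])
            rw [mul_inv_rev, ← zpow_neg, hY, h.conj_inside, ← mul_assoc, ← zpow_add, add_comm]
          · obtain ⟨e, he⟩ := hro
            rw [show (r : ℤ) * (-a) = -a + 2 * (e * -a) by linear_combination (-a) * he]
            omega }
  have hM1 : ∀ a : ℤ, x ^ a ∈ M ↔ 2 ∣ a := fun a =>
    ⟨fun ⟨b, hb⟩ => by
      rcases hb with ⟨e, hb⟩ | ⟨e, -⟩
      · have := hpar e; omega
      · exact absurd (e ▸ zpow_mem (Subgroup.mem_zpowers x) a) (h.out_not_mem b),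
    fun ha => ⟨a, Or.inl ⟨rfl, ha⟩⟩⟩
  have hM2 : ∀ a : ℤ, x ^ a * y ∈ M ↔ 2 ∣ a - (k + 1) := fun a =>
    ⟨fun ⟨b, hb⟩ => by
      rcases hb with ⟨e, -⟩ | ⟨e, hb⟩
      · exact absurd (e ▸ zpow_mem (Subgroup.mem_zpowers x) b) (h.out_not_mem a)
      · have := hpar (mul_right_cancel e); omega,
    fun ha => ⟨a, Or.inr ⟨rfl, ha⟩⟩⟩
  refine not_le_index_two h.isPGroup hr hs
    (fun α => h.pow_eq_one_of_keep le_rfl (h.keep_self hsd α))
    (M := M) (w := x) ?_ h.x_mem ?_ ?_ ?_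
  · rintro u ⟨a, ⟨rfl, -⟩ | ⟨rfl, -⟩⟩
    · exact h.mem_S.mpr ⟨a, Or.inl rfl⟩
    · exact h.out_mem a
  · intro e
    have := (hM1 1).mp (by rwa [zpow_one])
    omega
  · intro u hu v hv hnu hnv
    have hY : y⁻¹ = x ^ (-(s : ℤ)) * y := inv_eq_of_mul_eq_one_left (by
      rw [mul_assoc, h.rel.YY, ← zpow_add, neg_add_cancel, zpow_zero])
    obtain ⟨a, rfl | rfl⟩ := h.mem_S.mp hu <;> obtain ⟨b, rfl | rfl⟩ := h.mem_S.mp hv
    · rw [← zpow_neg, ← zpow_add, hM1]
      rw [hM1] at hnu hnv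
      omega
    · rw [← zpow_neg, ← mul_assoc, ← zpow_add, hM2]
      rw [hM1] at hnu; rw [hM2] at hnv
      omega
    · rw [mul_inv_rev, ← zpow_neg, hY, h.conj_inside]
      rw [show x ^ ((r : ℤ) * -a) * (x ^ (-(s : ℤ)) * y) * x ^ b =
        x ^ ((r : ℤ) * -a) * (x ^ (-(s : ℤ)) * y * x ^ b) by group, h.conj_inside,
        ← mul_assoc, ← mul_assoc, ← zpow_add, ← zpow_add, hM2]
      rw [hM2] at hnu; rw [hM1] at hnv
      obtain ⟨e, he⟩ := hro
      rw [show (r : ℤ) * -a = -a + 2 * (e * -a) by linear_combination (-a) * he,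
        show (r : ℤ) * b = b + 2 * (e * b) by linear_combination b * he]
      omega
    · refine ⟨(r : ℤ) * (b - a), Or.inl ⟨?_, ?_⟩⟩
      · rw [mul_inv_rev, mul_assoc, ← mul_assoc (x ^ a)⁻¹, ← zpow_neg x a, ← zpow_add, hY, mul_assoc,
          ← mul_assoc y, h.rel.move, mul_assoc, h.rel.YY, ← zpow_add, ← zpow_add]
        congr 1
        ring
      · rw [hM2] at hnu hnv
        refine Dvd.dvd.mul_left ?_ _
        omega
  · intro P hP
    obtain ⟨a, rfl, -⟩ := h.essential_cand hs.1 hP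
    have hak : ¬ (2 : ℤ) ∣ a - k := fun e => hk (by
      have hm := h.moved_of_essential hs.1 hP
      simp only [Moved, cls_congr x y e] at hm
      exact hm)
    refine sup_le ?_ ?_
    · rw [Subgroup.zpowers_le]
      have key : ∀ m : ℕ, m ≠ 0 → x ^ 2 ^ m ∈ M := fun m hm => by
        rw [← zpow_natCast, hM1]
        exact_mod_cast dvd_pow_self 2 hm
      unfold RankOneFusion55.core
      split_ifs with hw
      · exact key _ (by have := h.two; omega)
      · refine key _ fun e => hw ?_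
        have hn2 : n = 2 := by have := h.two; omega
        rw [h.sq_eq, h.eq_one_iff]
        have hr4 : (2 : ℤ) ^ n ∣ a * (1 + r) := by
          rw [hn2]
          refine Dvd.dvd.mul_left ?_ a
          have := h.hr
          omega
        exact dvd_add hr4 (by exact_mod_cast hsd hn2)
    · rw [Subgroup.zpowers_le, hM2]
      omega

/-- In a simple system the outside elements of a wreathed group move. -/
theorem wd_movE {x y t : Ω} {n : ℕ} (h : WD S x y t n) (hr : Cfsg.PRankAtLeast 2 2 ↥S)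
    (hs : F.IsSimple 2) : h.MovE F := by
  by_contra hE
  refine not_le_index_two h.isPGroup hr hs h.aut_S_two h.base_le (h.out_mem 0 0)
    (h.out_not_base 0 0) (fun u hu v hv hub hvb => h.out_div hu hub hv hvb) fun P hP => ?_
  rcases h.essential_cases hs.1 hP with e | ⟨j, e⟩
  · exact e.le
  · subst e
    exact absurd (h.movE_of_cand hs.1 hP) hE

/-- In a simple system the central involution of a wreathed group moves. -/
theorem wd_movZ {x y t : Ω} {n : ℕ} (h : WD S x y t n) (hr : Cfsg.PRankAtLeast 2 2 ↥S)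
    (hs : F.IsSimple 2) : h.MovZ F := by
  by_contra hZ
  have h2 : (2 : ℤ) ∣ 2 ^ n := dvd_pow_self 2 (by have := h.rel.two; omega)
  have hh : (2 : ℤ) ∣ hN n := h.two_dvd_h
  let M : Subgroup Ω :=
    { carrier := {u | ∃ a b : ℤ, 2 ∣ a + b ∧ (u = el x y a b ∨ u = el x y a b * t)}
      one_mem' := ⟨0, 0, dvd_zero _, Or.inl h.rel.el_zero.symm⟩
      mul_mem' := by
        rintro _ _ ⟨a, b, hab, rfl | rfl⟩ ⟨c, d, hcd, rfl | rfl⟩
        · exact ⟨a + c, b + d, by omega, Or.inl (h.rel.el_mul _ _ _ _)⟩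
        · exact ⟨a + c, b + d, by omega, Or.inr (h.rel.el_mul_out _ _ _ _)⟩
        · exact ⟨a + d, b + c, by omega, Or.inr (h.rel.out_mul_el _ _ _ _)⟩
        · exact ⟨a + d, b + c, by omega, Or.inl (h.rel.out_mul_out _ _ _ _)⟩
      inv_mem' := by
        rintro _ ⟨a, b, hab, rfl | rfl⟩
        · exact ⟨-a, -b, by omega, Or.inl (h.rel.el_inv _ _)⟩
        · exact ⟨-b, -a, by omega, Or.inr (h.rel.out_inv _ _)⟩ }
  refine not_le_index_two h.isPGroup hr hs h.aut_S_two (M := M) (w := x) ?_ ?_ ?_ ?_ ?_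
  · rintro u ⟨a, b, -, rfl | rfl⟩
    · exact h.el_mem a b
    · exact h.out_mem a b
  · exact h.rel.x_eq ▸ h.el_mem 1 0
  · rintro ⟨a, b, hab, e | e⟩
    · replace e := (h.rel.el_eq 1 0 a b).mp (h.rel.x_eq.trans e)
      have := h2.trans e.1; have := h2.trans e.2
      omega
    · exact h.rel.el_ne_out 1 0 a b (h.rel.x_eq.trans e)
  · intro u hu v hv hnu hnv
    obtain ⟨a, b, rfl | rfl⟩ := (h.mem u).mp hu <;> obtain ⟨c, d, rfl | rfl⟩ := (h.mem v).mp hv
    all_goals
      have h1 : ¬ (2 : ℤ) ∣ a + b := fun e => hnu ⟨a, b, e, by first | exact Or.inl rfl | exact Or.inr rfl⟩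
      have h3 : ¬ (2 : ℤ) ∣ c + d := fun e => hnv ⟨c, d, e, by first | exact Or.inl rfl | exact Or.inr rfl⟩
    · rw [h.rel.el_inv, h.rel.el_mul]; exact ⟨_, _, by omega, Or.inl rfl⟩
    · rw [h.rel.el_inv, h.rel.el_mul_out]; exact ⟨_, _, by omega, Or.inr rfl⟩
    · rw [h.rel.out_inv, h.rel.out_mul_el]; exact ⟨_, _, by omega, Or.inr rfl⟩
    · rw [h.rel.out_inv, h.rel.out_mul_out]; exact ⟨_, _, by omega, Or.inl rfl⟩
  · intro P hP
    rcases h.essential_cases hs.1 hP with e | ⟨j, e⟩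
    · subst e
      exact absurd (h.movZ_of_base hs.1 hP) hZ
    · subst e
      rintro u ⟨c, e, rfl | rfl⟩
      · exact ⟨_, _, by have := hh.mul_right e; omega, Or.inl rfl⟩
      · exact ⟨_, _, by have := hh.mul_right e; omega, Or.inr rfl⟩

/-- Generators of a dihedral group of order at least eight. -/
theorem mc_of_dihedral (hS : IsPGroup 2 S) {m : ℕ} (hm : 4 ≤ m) (hD : ↥S ≃* DihedralGroup m) :
    ∃ (n : ℕ) (x y : Ω), MC S x y n (2 ^ n - 1) 0 := by
  obtain ⟨k, hk⟩ := IsPGroup.iff_card.mp hS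
  rw [Nat.card_congr hD.toEquiv, DihedralGroup.nat_card] at hk
  obtain ⟨n, rfl⟩ : ∃ n, k = n + 1 := ⟨k - 1, by rcases k with _ | k <;> simp at hk ⊢⟩
  obtain rfl : m = 2 ^ n := by rw [pow_succ] at hk; omega
  have hn : 2 ≤ n := (Nat.pow_le_pow_iff_right (by norm_num : 1 < 2)).mp (by simpa using hm)
  haveI : NeZero (2 ^ n) := ⟨by positivity⟩
  have hxy : Rel (hD.symm (DihedralGroup.r 1)) (hD.symm (DihedralGroup.sr 0)) (2 ^ n)
      (2 ^ n - 1) 0 := by
    refine ⟨?_, ?_, ?_, ?_⟩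
    · rw [MulEquiv.orderOf_eq, DihedralGroup.orderOf_r_one]
    · rintro ⟨l, hl⟩
      have := congrArg hD hl
      rw [map_zpow, MulEquiv.apply_symm_apply, MulEquiv.apply_symm_apply] at this
      obtain ⟨j, hj⟩ := (mem_powers_iff_mem_zpowers (x := DihedralGroup.r (1 : ZMod (2 ^ n)))).mpr
        ⟨l, this⟩
      simp only [DihedralGroup.r_one_pow] at hj
      exact absurd hj (by simp)
    · rw [← map_inv, ← map_mul, ← map_mul, ← map_pow]
      congr 1
      rw [DihedralGroup.r_one_pow, mul_inv_eq_iff_eq_mul, DihedralGroup.sr_mul_r,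
        DihedralGroup.r_mul_sr]
      congr 1
      rw [Nat.cast_sub Nat.one_le_two_pow, ZMod.natCast_self]
      simp
    · rw [← map_pow, pow_zero, pow_two, DihedralGroup.sr_mul_self, map_one]
  refine ⟨n, _, _, mc_of_rel hxy ?_ hn (two_pow_pred_mod n hn) ?_ (dvd_zero _)⟩
  · rw [Nat.card_congr hD.toEquiv, DihedralGroup.nat_card]
  · rw [Nat.sub_add_cancel Nat.one_le_two_pow]
    exact dvd_mul_left _ _

/-- Generators of a semidihedral group. -/
theorem mc_of_quasiDihedral (h : Cfsg.IsQuasiDihedral ↥S) :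
    ∃ (v : ℕ) (x y : Ω), 2 ≤ v ∧ MC S x y (v + 1) (2 ^ v - 1) 0 := by
  obtain ⟨n, hn, hcard, x, y, hx, hy, hconj⟩ := h
  obtain ⟨v, rfl⟩ : ∃ v, n = v + 1 := ⟨n - 1, by omega⟩
  have hy2 : y ^ 2 = 1 := hy ▸ pow_orderOf_eq_one y
  have hxy : Rel x y (2 ^ (v + 1)) (2 ^ v - 1) 0 := by
    refine ⟨hx, fun hmem => ?_, hconj, by rw [hy2, pow_zero]⟩
    have hyx : y * x * y⁻¹ = x := by
      obtain ⟨l, rfl⟩ := hmem
      exact mul_inv_eq_iff_eq_mul.mpr ((Commute.refl x).zpow_left l).eq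
    rw [hyx, Nat.add_sub_cancel] at hconj
    have h2 := pow_inj_mod (x := x) (n := 1) (m := 2 ^ v - 1)
    rw [pow_one, hx] at h2
    have hlt : 2 ^ v - 1 < 2 ^ (v + 1) := by
      have := Nat.pow_lt_pow_right (a := 2) (by norm_num) (show v < v + 1 by omega); omega
    have := h2.mp hconj
    rw [Nat.mod_eq_of_lt (Nat.one_lt_two_pow (by omega)), Nat.mod_eq_of_lt hlt] at this
    have : 2 ^ 2 ≤ 2 ^ v := Nat.pow_le_pow_right two_pos (by omega)
    omega
  refine ⟨v, _, _, by omega,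
    mc_of_rel hxy (by rw [hcard, pow_succ']) (by omega) (two_pow_pred_mod v (by omega)) ?_
      (dvd_zero _)⟩
  rw [Nat.sub_add_cancel Nat.one_le_two_pow, ← pow_succ']

end Cfsg.Agent.FusionRankTwoSimple47
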