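import Mathlib
import Cfsg.Agent.Lib.FusionLimitPrime
import Cfsg.Agent.Lib.HallSolvable
import Cfsg.Agent.Lib.FusionCentralizerSub
import Cfsg.Agent.S5198
import Cfsg.Agent.Lib.FusionCentralizerNormal

/-!
Reduction to `T C_S(T)`: for `E` invariant in `F` over `T` with `Aut_F(T)/Aut_E(T)` `p`-solvable
there is an invariant saturated subsystem `F₀` over `T C_S(T)` containing `E`, with
`Aut_{F₀}(T) = Aut_E(T)` and the residual limits of `F` (`exists_reduced`).
-/

set_option autoImplicit false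

namespace Cfsg.Agent.FusionReductionChain

open Cfsg Cfsg.FusionSystem Cfsg.Agent.FusionSysBasic Cfsg.Agent.FusionSysSaturated
open Cfsg.Agent.FusionKit88 Cfsg.Agent.FusionPrimeIndex88 Cfsg.Agent.FusionInduct88
open Cfsg.Agent.FusionInvariantSub Cfsg.Agent.FusionLimitPrime Cfsg.Agent.FusionKernelChar88
open Cfsg.Agent.FusionResidualSeries88 (genP genP_normal exists_pow_mem_genP subsingleton_of_perfect)

variable {Ω : Type*} [Group Ω] {S U T : Subgroup Ω} {F : FusionSystem S} {E : FusionSystem T}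
  {F1 : FusionSystem U} {p : ℕ}

/-- A stage of the reduction. -/
structure Stage (F : FusionSystem S) (E : FusionSystem T) (F1 : FusionSystem U) (p : ℕ) :
    Prop where
  sat : F1.IsSaturated p
  inv : F1.IsInvariantIn F
  ge : T ⊔ centralizerIn S T ≤ U
  sub : E.IsSubsystemOf F1
  same : Same F F1 p

/-- The elements of `U` inducing elements of `K` on `T`. -/
def cut (U : Subgroup Ω) (K : Subgroup (MulAut T)) : Subgroup Ω where
  carrier := {z | z ∈ U ∧ ∃ α ∈ K, ∀ y ∈ T, afun α y = cj z y}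
  one_mem' := ⟨U.one_mem, 1, K.one_mem, fun y hy => by rw [afun_one hy, cj_one]⟩
  mul_mem' := fun {a b} ⟨ha, α, hα, he⟩ ⟨hb, β, hβ, he'⟩ =>
    ⟨U.mul_mem ha hb, α * β, K.mul_mem hα hβ, fun y hy => by
      rw [afun_mul α β hy, he _ (afun_mem β hy), he' y hy, cj_cj]⟩
  inv_mem' := fun {a} ⟨ha, α, hα, he⟩ =>
    ⟨U.inv_mem ha, α⁻¹, K.inv_mem hα, fun y hy => by
      have h2 := he _ (afun_mem α⁻¹ hy)
      rw [afun_apply_inv α hy] at h2
      exact ((congrArg (cj a⁻¹) h2).trans (cj_inv_cj a _)).symm⟩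

theorem mem_cut {K : Subgroup (MulAut T)} {z : Ω} :
    z ∈ cut U K ↔ z ∈ U ∧ ∃ α ∈ K, ∀ y ∈ T, afun α y = cj z y := Iff.rfl

theorem res_aut [Finite S] (hT : F.StronglyClosed T) (hUS : U ≤ S) (hTU : T ≤ U) {α : MulAut U}
    (hα : α ∈ F.autGroup U) : ∃ δ ∈ F.autGroup T, ∀ t ∈ T, afun δ t = afun α t := by
  have hm := ((mem_autGroup hUS).1 hα).restrict_to hTU
  exact hm.exists_aut (hm.im_self fun x hx => closed_apply hT hm le_rfl hx)

theorem cut_stable [Finite S] (hT : F.StronglyClosed T) (hUS : U ≤ S) (hTU : T ≤ U)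
    {K : Subgroup (MulAut T)} (hK : ∀ γ ∈ F.autGroup T, ∀ m ∈ K, γ * m * γ⁻¹ ∈ K)
    {α : MulAut U} (hα : α ∈ F.autGroup U) {z : Ω} (hz : z ∈ cut U K) :
    afun α z ∈ cut U K := by
  obtain ⟨hzU, κ, hκ, he⟩ := mem_cut.1 hz
  obtain ⟨δ, hδ, hδe⟩ := res_aut hT hUS hTU hα
  refine mem_cut.2 ⟨afun_mem α hzU, δ * κ * δ⁻¹, hK δ hδ κ hκ, fun y hy => ?_⟩
  have hy' := afun_mem δ⁻¹ hy
  rw [afun_mul _ _ hy, afun_mul _ _ hy', he _ hy', hδe _ (he _ hy' ▸ afun_mem κ hy'),
    ((mem_autGroup hUS).1 hα).map_cj hzU (hTU hy'), ← hδe _ hy', afun_apply_inv δ hy]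

theorem conj_comap_mem {G : Type*} [Group G] {K : Subgroup G} {γ m : G}
    (h : m ∈ K.comap (MulAut.conj γ).toMonoidHom) : γ * m * γ⁻¹ ∈ K := by
  simpa using h

variable [Finite S] [Fact p.Prime]

theorem exists_pPower_step (hS : IsPGroup p S) (hI : E.IsInvariantIn F) (hEs : E.IsSaturated p)
    (h1 : Stage F E F1 p) {K : Subgroup (MulAut T)}
    (hK : K = (Cfsg.pResidual p ↥(F1.autGroup T)).map (F1.autGroup T).subtype ⊔ E.autGroup T) :
    ∃ (W : Subgroup Ω) (F2 : FusionSystem W), Stage F E F2 p ∧ F2.autGroup T ≤ K := by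
  have hUS := h1.inv.2.1.1
  haveI := finite_of_le hUS
  have hUp : IsPGroup p U := hS.to_le hUS
  have hT : F.StronglyClosed T := hI.2.1
  have hTU : T ≤ U := le_sup_left.trans h1.ge
  have hT1 : F1.StronglyClosed T := (invariant_of_le hS hI h1.inv.1 h1.sat h1.sub).2.1
  have hKn : ∀ γ ∈ F.autGroup T, ∀ m ∈ K, γ * m * γ⁻¹ ∈ K := by
    intro γ hγ m hm
    refine conj_comap_mem ((?_ : K ≤ K.comap (MulAut.conj γ).toMonoidHom) hm)
    conv_lhs => rw [hK]
    refine sup_le (FusionPPower.map_pResidual_le_of_coprime fun a ha hc => ?_) fun a ha => ?_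
    · show MulAut.conj γ a ∈ K
      rw [hK]
      refine Subgroup.mem_sup_left ⟨⟨_, FusionCentralizerSub.conj_mem_autGroup h1.inv hTU hγ ha⟩,
        TransferPResidual.mem_pResidual_of_coprime ?_, rfl⟩
      rw [Subgroup.orderOf_mk]
      exact (MulEquiv.orderOf_eq (MulAut.conj γ) a).symm ▸ hc
    · show MulAut.conj γ a ∈ K
      rw [hK]
      exact Subgroup.mem_sup_right (FusionCentralizerSub.conj_mem_autGroup hI le_rfl hγ ha)
  have hWU : cut U K ≤ U := fun z hz => (mem_cut.1 hz).1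
  have hn : ∀ g ∈ U, ∀ x ∈ cut U K, cj g x ∈ cut U K := by
    intro g hg x hx
    have hm : Mor F U (cj g) := mor_cj hUS (hUS hg)
    obtain ⟨α, hα, hαe⟩ := hm.exists_aut (hm.im_self fun y hy => cj_mem_S hg hy)
    rw [← hαe x (hWU hx)]
    exact cut_stable hT hUS hTU hKn hα hx
  have hhyp : F1.hyperfocalSubgroup p ≤ cut U K := by
    intro x hx
    obtain ⟨α, hα, hαe⟩ := S5198.result p hUp F1 h1.sat T hT1 x hx
    refine mem_cut.2 ⟨FusionPPower.hyperfocal_le (p := p) F1 hx, α, ?_, fun y hy => ?_⟩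
    · rw [hK]
      exact (sup_le_sup_left (inn_le_autGroup (F := E) le_rfl) _) hα
    · rw [afun_apply α hy]
      exact hαe ⟨y, hy⟩
  have hW1 : F1.StronglyClosed (cut U K) := stronglyClosed_of_hyperfocal_le hUp h1.sat hWU hn hhyp
  have hW : F.StronglyClosed (cut U K) :=
    closed_of_invariant h1.inv hW1 fun α hα x hx => cut_stable hT hUS hTU hKn hα hx
  obtain ⟨F2, hF2, hidx⟩ :=
    FusionPPowerIndex88.exists_pPower _ U F1 _ le_rfl hUp h1.sat hWU hhyp
  have hTW : T ≤ cut U K := fun t ht => mem_cut.2 ⟨hTU ht, MulAut.conj (⟨t, ht⟩ : ↥T),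
    hK ▸ Subgroup.mem_sup_right (inn_le_autGroup (F := E) le_rfl ⟨⟨t, ht⟩, rfl⟩),
    fun y hy => by rw [afun_apply _ hy]; rfl⟩
  have hge : T ⊔ centralizerIn S T ≤ cut U K := sup_le hTW fun c hc =>
    mem_cut.2 ⟨h1.ge (Subgroup.mem_sup_right hc), 1, one_mem _,
      fun y hy => by rw [afun_one hy, (mem_centralizerIn.1 hc).2 y hy]⟩
  haveI := finite_of_le (hWU.trans hUS)
  have hWp : IsPGroup p (cut U K) := hS.to_le (hWU.trans hUS)
  refine ⟨_, F2, ⟨hF2, invariant_of_pPower hS h1.inv h1.sat hF2 hidx hW1 hW, hge,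
    FusionPPower.le_of_pPower hUp hEs h1.sub hTW
      (fun P hP α hα hc => FusionInvariantSub.mem_of_coprime hidx (hP.trans hTW) hα hc),
    Same.trans hUp h1.sat h1.same (same_pPower hUp h1.sat hF2 hidx)⟩, ?_⟩
  refine FusionWeakAlperin.autGroup_le_of_fullyNormalized hWp hF2
    (FusionWeakAlperin.fullyNormalized_of_normal hTW fun g hg x hx =>
      FusionSysNormal.cj_mem_of_stronglyClosed hT1 (hWU hg) hx)
    (FusionPPower.map_pResidual_le_of_coprime fun a ha hc => ?_) fun a ha => ?_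
  · rw [hK]
    refine Subgroup.mem_sup_left ⟨⟨a, FusionPPower.autGroup_mono' hidx.1 T ha⟩,
      TransferPResidual.mem_pResidual_of_coprime ?_, rfl⟩
    rwa [Subgroup.orderOf_mk]
  · obtain ⟨g, hg, -, hge'⟩ := mem_autInducedBy.1 ha
    obtain ⟨-, κ, hκ, hκe⟩ := mem_cut.1 hg
    rwa [afun_ext fun y hy => (hge' y hy).trans (hκe y hy).symm]

theorem exists_pPrime_step (hS : IsPGroup p S) (hI : E.IsInvariantIn F) (hEs : E.IsSaturated p)
    (h1 : Stage F E F1 p) {K : Subgroup (MulAut T)}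
    (hK : K = (genP ↥(F1.autGroup T) p).map (F1.autGroup T).subtype ⊔ E.autGroup T) :
    ∃ (W : Subgroup Ω) (F2 : FusionSystem W), Stage F E F2 p ∧ F2.autGroup T ≤ K := by
  have hUS := h1.inv.2.1.1
  haveI := finite_of_le hUS
  have hUp : IsPGroup p U := hS.to_le hUS
  have hT : F.StronglyClosed T := hI.2.1
  have hTU : T ≤ U := le_sup_left.trans h1.ge
  haveI := finite_of_le (hTU.trans hUS)
  have hI1 := invariant_of_le hS hI h1.inv.1 h1.sat h1.sub
  haveI := finite_autGroup (F := F1) T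
  have hKn : ∀ γ ∈ F.autGroup T, ∀ m ∈ K, γ * m * γ⁻¹ ∈ K := by
    intro γ hγ m hm
    refine conj_comap_mem ((?_ : K ≤ K.comap (MulAut.conj γ).toMonoidHom) hm)
    conv_lhs => rw [hK]
    refine sup_le ?_ fun a ha => ?_
    · rw [genP, Subgroup.map_le_iff_le_comap, Subgroup.closure_le]
      rintro ⟨a, ha⟩ ⟨k, hk⟩
      show MulAut.conj γ a ∈ K
      rw [hK]
      refine Subgroup.mem_sup_left ⟨⟨_, FusionCentralizerSub.conj_mem_autGroup h1.inv hTU hγ ha⟩,
        Subgroup.subset_closure ⟨k, ?_⟩, rfl⟩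
      rw [Subgroup.orderOf_mk] at hk ⊢
      exact (MulEquiv.orderOf_eq (MulAut.conj γ) a).trans hk
    · show MulAut.conj γ a ∈ K
      rw [hK]
      exact Subgroup.mem_sup_right (FusionCentralizerSub.conj_mem_autGroup hI le_rfl hγ ha)
  have hker : KerLike F1 E K p := by
    refine ⟨hI1, hEs, ?_, hK ▸ le_sup_right, fun β hβ i hi => ?_⟩
    · rw [hK]
      exact sup_le (Subgroup.map_subtype_le _) (FusionPPower.autGroup_mono' h1.sub T)
    · obtain ⟨m, hm, hmg⟩ := exists_pow_mem_genP (p := p) (⟨β, hβ⟩ : ↥(F1.autGroup T))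
      refine FusionWeaklyNormal88.mem_of_coprime_pow
        (Nat.Coprime.pow_left i ((Fact.out : p.Prime).coprime_iff_not_dvd.2 hm)) hi ?_
      rw [hK]
      exact Subgroup.mem_sup_left ⟨_, hmg, rfl⟩
  have hA : A0 F1 p ≤ hSub hker := a0_le_hSub hUp h1.sat hker
  have hsat := saturated_EH hUp h1.sat hA
  refine ⟨U, EH F1 p (hSub hker), ⟨hsat, ?_, h1.ge, ?_, ?_⟩, fun γ hγ => ?_⟩
  · refine invariant_EH hS h1.inv h1.sat fun γ hγ a ha haU => ?_
    obtain ⟨ha', β, hβ, he⟩ := mem_hSub.1 ha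
    obtain ⟨δ, hδ, hδe⟩ := res_aut hT hUS hTU hγ
    refine mem_hSub.2 ⟨FusionCentralizerSub.conj_mem_autGroup h1.inv le_rfl hγ haU,
      δ * β * δ⁻¹, hKn δ hδ β hβ, fun t ht => ?_⟩
    have ht' := afun_mem δ⁻¹ ht
    have e1 : afun δ⁻¹ t = afun γ⁻¹ t := by
      have h := hδe _ ht'
      rw [afun_apply_inv δ ht] at h
      conv_rhs => rw [h, afun_inv_apply γ (hTU ht')]
    rw [afun_mul _ _ ht, afun_mul _ _ ht', hδe _ (afun_mem β ht'), he _ ht', e1,
      afun_mul _ _ (hTU ht), afun_mul _ _ (afun_mem γ⁻¹ (hTU ht))]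
  · intro P φ hφ
    exact (mor_iff_hom fun x => (toFun_coe φ x).symm).1
      (sub_EH_hSub hUp h1.sat hker (mor_toFun hφ))
  · exact Same.trans hUp h1.sat h1.same (limit_primeIndex hUp h1.sat hsat primeIndex_EH)
  · obtain ⟨a, ha, -, e, he, hfe⟩ := mor_EH.1 ((mem_autGroup hTU).1 hγ)
    obtain ⟨-, β, hβ, hβe⟩ := mem_hSub.1 ha
    obtain ⟨β', hβ', e', he', hee⟩ := decK_e0 hUp hker he le_rfl FusCentric.centric_top
    obtain ⟨ε, hε, hεe⟩ := he'.exists_aut (he'.im_self fun x hx => he'.apply_mem hx)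
    have hεK : ε ∈ K := hK ▸ Subgroup.mem_sup_right hε
    have e1 : γ = β * (β' * ε) := afun_ext fun t ht => by
      rw [afun_mul _ _ ht, afun_mul _ _ ht, hεe t ht, ← hee t ht,
        hβe _ (hee t ht ▸ afun_mem β' (he'.apply_mem ht)), hfe t ht]
    rw [e1]
    exact mul_mem hβ (mul_mem hβ' hεK)

theorem eq_base (hS : IsPGroup p S) (hI : E.IsInvariantIn F) (hEs : E.IsSaturated p)
    (h1 : Stage F E F1 p) (hle : F1.autGroup T ≤ E.autGroup T) :
    U = T ⊔ centralizerIn S T := by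
  refine le_antisymm (fun x hx => ?_) h1.ge
  have hUS := h1.inv.2.1.1
  have hTS : T ≤ S := hI.2.1.1
  have hTU : T ≤ U := le_sup_left.trans h1.ge
  haveI := finite_of_le hTS
  have hxn : ∀ y ∈ T, cj x y ∈ T := fun y hy =>
    FusionSysNormal.cj_mem_of_stronglyClosed hI.2.1 (hUS hx) hy
  have hxN : x ∈ U ⊓ Subgroup.normalizer (T : Set Ω) :=
    ⟨hx, mem_normalizer_of_cj_le hTS hxn⟩
  have hxE : nHom U T ⟨x, hxN⟩ ∈ E.autGroup T :=
    hle (autInducedBy_le hTU ((autInducedBy_eq_range U T).ge ⟨_, rfl⟩))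
  haveI := finite_autGroup (F := E) T
  obtain ⟨-, P0, hP0⟩ := fullyAutomized_of_fullyNormalized (hS.to_le hTS) hEs
    (FusionWeakAlperin.fullyNormalized_of_normal (F := E) le_rfl fun g hg y hy => cj_mem_S hg hy)
  let R : Subgroup (E.autGroup T) := (autInducedBy U T).subgroupOf (E.autGroup T)
  have hR : IsPGroup p R :=
    (isPGroup_autInducedBy (hS.to_le hUS) T).comap_of_injective _ Subtype.val_injective
  have hPR : (P0 : Subgroup (E.autGroup T)) ≤ R := by
    rw [hP0]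
    exact fun a ha => autInducedBy_mono hTU T ha
  have hmem : (⟨_, hxE⟩ : E.autGroup T) ∈ (P0 : Subgroup (E.autGroup T)) := by
    rw [← P0.3 hR hPR]
    exact Subgroup.mem_subgroupOf.2 ((autInducedBy_eq_range U T).ge ⟨_, rfl⟩)
  rw [hP0, Subgroup.mem_subgroupOf] at hmem
  obtain ⟨t, ht, -, hte⟩ := mem_autInducedBy.1 hmem
  have hc : t⁻¹ * x ∈ centralizerIn S T := mem_centralizerIn.2
    ⟨S.mul_mem (S.inv_mem (hTS ht)) (hUS hx), fun y hy => by
      have := hte y hy
      rw [afun_nHom _ hy] at this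
      rw [← cj_cj, show cj x y = cj t y from this, cj_inv_cj]⟩
  simpa using mul_mem (Subgroup.mem_sup_left ht) (Subgroup.mem_sup_right hc)

omit [Finite S] in
theorem dichotomy [Finite S] {N G1 G : Subgroup (MulAut T)} [Finite G] (hNG : N ≤ G1)
    (hG : G1 ≤ G) [(N.subgroupOf G).Normal]
    (hsolv : Cfsg.IsPSolvable p (↥G ⧸ N.subgroupOf G))
    (hp : (Cfsg.pResidual p ↥G1).map G1.subtype ⊔ N = G1)
    (hp' : (genP ↥G1 p).map G1.subtype ⊔ N = G1) : G1 ≤ N := by
  haveI : Finite G1 := Finite.of_injective _ (Subgroup.inclusion_injective hG)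
  let f : ↥G1 →* ↥G ⧸ N.subgroupOf G := (QuotientGroup.mk' _).comp (Subgroup.inclusion hG)
  have hN1 : ∀ g : ↥G1, (g : MulAut T) ∈ N → f.rangeRestrict g = 1 := fun g hg =>
    Subtype.ext ((QuotientGroup.eq_one_iff _).2 (by simpa [Subgroup.mem_subgroupOf] using hg))
  have key : ∀ (X : Subgroup ↥G1) (Y : Subgroup ↥f.range),
      X.map G1.subtype ⊔ N = G1 → X.map f.rangeRestrict ≤ Y → Y = ⊤ := by
    intro X Y hX hXY
    rw [eq_top_iff]
    intro y _
    obtain ⟨g, rfl⟩ := f.rangeRestrict_surjective y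
    have hg : g ∈ X ⊔ N.subgroupOf G1 := by
      have h : (X ⊔ N.subgroupOf G1).map G1.subtype = G1 := by
        rw [Subgroup.map_sup, Subgroup.map_subgroupOf_eq_of_le hNG, hX]
      have h2 : (g : MulAut T) ∈ (X ⊔ N.subgroupOf G1).map G1.subtype := h.symm ▸ g.2
      obtain ⟨g', hg', he⟩ := h2
      rwa [← Subtype.ext he]
    have hle : X ⊔ N.subgroupOf G1 ≤ Y.comap f.rangeRestrict :=
      sup_le (Subgroup.map_le_iff_le_comap.1 hXY) fun a ha => by
        rw [Subgroup.mem_comap, hN1 a ha]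
        exact one_mem _
    exact hle hg
  have hsub : Subsingleton ↥f.range := subsingleton_of_perfect
    (HallSolvable.isPSolvable_subgroup hsolv f.range)
    (key _ _ hp' (by
      rw [genP, MonoidHom.map_closure, Subgroup.closure_le]
      rintro _ ⟨g, ⟨k, hk⟩, rfl⟩
      obtain ⟨j, -, hj⟩ := (Nat.dvd_prime_pow (Fact.out : p.Prime)).1
        (hk ▸ orderOf_map_dvd f.rangeRestrict g)
      exact Subgroup.subset_closure ⟨j, hj⟩))
    (key _ _ hp (TransferPResidual.map_pResidual_le _))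
  intro g hg
  have := congrArg Subtype.val (Subsingleton.elim (f.rangeRestrict ⟨g, hg⟩) 1)
  simpa [f, Subgroup.mem_subgroupOf] using (QuotientGroup.eq_one_iff _).1 this

theorem descend (hS : IsPGroup p S) (hI : E.IsInvariantIn F) (hEs : E.IsSaturated p)
    [((E.autGroup T).subgroupOf (F.autGroup T)).Normal]
    (hsolv : Cfsg.IsPSolvable p (↥(F.autGroup T) ⧸ (E.autGroup T).subgroupOf (F.autGroup T))) :
    ∀ (n : ℕ) {U : Subgroup Ω} (F1 : FusionSystem U), Nat.card (F1.autGroup T) ≤ n →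
      Stage F E F1 p → ∃ F0 : FusionSystem (T ⊔ centralizerIn S T),
        Stage F E F0 p ∧ F0.autGroup T = E.autGroup T := by
  haveI := finite_of_le hI.2.1.1
  haveI := finite_autGroup (F := F) T
  intro n
  induction n with
  | zero =>
    intro U F1 hn h1
    haveI : Finite (F1.autGroup T) :=
      Finite.of_injective _ (Subgroup.inclusion_injective (FusionPPower.autGroup_mono' h1.inv.1 T))
    exact absurd Nat.card_pos (by omega : ¬ 0 < Nat.card (F1.autGroup T))
  | succ n ih =>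
    intro U F1 hn h1
    have hNG : E.autGroup T ≤ F1.autGroup T := FusionPPower.autGroup_mono' h1.sub T
    have hGF : F1.autGroup T ≤ F.autGroup T := FusionPPower.autGroup_mono' h1.inv.1 T
    haveI : Finite (F1.autGroup T) := Finite.of_injective _ (Subgroup.inclusion_injective hGF)
    by_cases hle : F1.autGroup T ≤ E.autGroup T
    · obtain rfl := eq_base hS hI hEs h1 hle
      exact ⟨F1, h1, le_antisymm hle hNG⟩
    have small : ∀ {W : Subgroup Ω} (F2 : FusionSystem W) (K : Subgroup (MulAut T)),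
        Stage F E F2 p → F2.autGroup T ≤ K → K < F1.autGroup T →
        ∃ F0 : FusionSystem (T ⊔ centralizerIn S T),
          Stage F E F0 p ∧ F0.autGroup T = E.autGroup T := by
      intro W F2 K h2 h2K hlt
      refine ih F2 ?_ h2
      have h3 : Nat.card (F2.autGroup T) < Nat.card (F1.autGroup T) := by
        refine lt_of_le_of_ne (Subgroup.card_le_of_le (h2K.trans hlt.le)) fun e => ?_
        exact hlt.not_ge ((Subgroup.eq_of_le_of_card_ge (h2K.trans hlt.le) e.ge).ge.trans h2K)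
      omega
    by_cases hp : (Cfsg.pResidual p ↥(F1.autGroup T)).map (F1.autGroup T).subtype ⊔
        E.autGroup T = F1.autGroup T
    · have hp' : (genP ↥(F1.autGroup T) p).map (F1.autGroup T).subtype ⊔
          E.autGroup T ≠ F1.autGroup T :=
        fun hp' => hle (dichotomy (p := p) (S := S) (T := T) (N := E.autGroup T) (G1 := F1.autGroup T) (G := F.autGroup T) hNG hGF hsolv hp hp')
      obtain ⟨W, F2, h2, h2K⟩ := exists_pPrime_step hS hI hEs h1 rfl
      exact small F2 _ h2 h2K (lt_of_le_of_ne (sup_le (Subgroup.map_subtype_le _) hNG) hp')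
    · obtain ⟨W, F2, h2, h2K⟩ := exists_pPower_step hS hI hEs h1 rfl
      exact small F2 _ h2 h2K (lt_of_le_of_ne (sup_le (Subgroup.map_subtype_le _) hNG) hp)

/-- The reduced system over `T C_S(T)`. -/
theorem exists_reduced (hS : IsPGroup p S) (hF : F.IsSaturated p) (hI : E.IsInvariantIn F)
    (hEs : E.IsSaturated p) [((E.autGroup T).subgroupOf (F.autGroup T)).Normal]
    (hsolv : Cfsg.IsPSolvable p (↥(F.autGroup T) ⧸ (E.autGroup T).subgroupOf (F.autGroup T))) :
    ∃ F0 : FusionSystem (T ⊔ centralizerIn S T),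
      Stage F E F0 p ∧ F0.autGroup T = E.autGroup T :=
  descend hS hI hEs hsolv _ F le_rfl
    ⟨hF, invariant_self F, sup_le hI.2.1.1 inf_le_left, hI.1, same_refl hS hF⟩

theorem cent_le_base : centralizerIn S (T ⊔ centralizerIn S T) ≤ T ⊔ centralizerIn S T :=
  (FusionCentralizerSub.cent_le_cent le_sup_left).trans le_sup_right

variable {F0 : FusionSystem (T ⊔ centralizerIn S T)}

/-- Over a normal `E` with centralizer inside `T` the hyperfocal subgroup lies in `T`. -/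
theorem hyperfocal_le_T (hS : IsPGroup p S) (hF : F.IsSaturated p) (hE : E.IsNormalIn F p)
    (hcs : FusionCentralizerSub.cs F E p ≤ T) (h0 : Stage F E F0 p)
    (hA : F0.autGroup T = E.autGroup T) : F0.hyperfocalSubgroup p ≤ T := by
  have hI := hE.1.2.2
  have hTS : T ≤ S := hI.2.1.1
  have hT0 : F0.StronglyClosed T := (invariant_of_le hS hI h0.inv.1 h0.sat h0.sub).2.1
  have hUS : T ⊔ centralizerIn S T ≤ S := sup_le hTS inf_le_left
  haveI := finite_of_le hUS
  have hUp : IsPGroup p (T ⊔ centralizerIn S T : Subgroup Ω) := hS.to_le hUS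
  have hD := FusionSysNormal.isCentralizerSystem_centralizerSystem (F := F) T hTS
  haveI : Finite (centralizerIn S T) := finite_of_le (inf_le_left : centralizerIn S T ≤ S)
  refine (Subgroup.closure_le _).2 ?_
  rintro _ ⟨P, α, x, hP, -, rfl⟩
  have hf := (mem_autGroup hP).1 α.2
  obtain ⟨f, hf', hc⟩ := FusionPuig.exists_map_mod hUp h0.sat hT0 hf
  have hf0 := hf'.restrict_to (le_sup_right : T ≤ P ⊔ T)
  obtain ⟨ε, hε, hεe⟩ := hf0.exists_aut
    (hf0.im_self fun y hy => closed_apply hT0 hf0 le_rfl hy)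
  rw [hA] at hε
  obtain ⟨β, hβ, hβe, hβc⟩ := hE.2 ε hε
  obtain ⟨t, ht, c, hc', hx⟩ : ∃ t ∈ T, ∃ c ∈ centralizerIn S T, (x : Ω) = t * c := by
    have h := hP x.2
    have hn : centralizerIn S T ≤ Subgroup.normalizer (T : Set Ω) := fun g hg =>
      (centralizerIn_le_normalizerIn hg).2
    have h' : (x : Ω) ∈ ((T ⊔ centralizerIn S T : Subgroup Ω) : Set Ω) := h
    rw [Subgroup.coe_mul_of_right_le_normalizer_left _ _ hn] at h'
    obtain ⟨t, ht, c, hc', e⟩ := h'
    exact ⟨t, ht, c, hc', e.symm⟩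
  have hcm : c ∈ P ⊔ T := by
    have : c = t⁻¹ * x := by rw [hx, inv_mul_cancel_left]
    rw [this]
    exact mul_mem (Subgroup.mem_sup_right (T.inv_mem ht)) (Subgroup.mem_sup_left x.2)
  have hfF : Mor F (Subgroup.zpowers c ⊔ T) f := (sub_mor h0.inv.1 hf').restrict_to
    (sup_le (Subgroup.zpowers_le.2 hcm) le_sup_right)
  have hβm : Mor F (T ⊔ centralizerIn S T) (afun β) := (mem_autGroup hUS).1 hβ
  obtain ⟨bi, hbi, hbib, -, -⟩ := hβm.exists_inv
  have hzT : Subgroup.zpowers c ⊔ T ≤ T ⊔ centralizerIn S T :=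
    sup_le (Subgroup.zpowers_le.2 (Subgroup.mem_sup_right hc')) le_sup_left
  have hfU : ∀ y ∈ Subgroup.zpowers c ⊔ T, f y ∈ T ⊔ centralizerIn S T := fun y hy =>
    hf'.apply_mem ((sup_le (Subgroup.zpowers_le.2 hcm) le_sup_right) hy)
  have hg : Mor F (Subgroup.zpowers c ⊔ T) (afun β⁻¹ ∘ f) :=
    hfF.comp ((mem_autGroup hUS).1 (inv_mem hβ)) hfU
  have hfix : ∀ y ∈ T, (afun β⁻¹ ∘ f) y = y := fun y hy => by
    have hyU : y ∈ T ⊔ centralizerIn S T := Subgroup.mem_sup_left hy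
    show afun β⁻¹ (f y) = y
    have : f y = afun β y := by
      rw [← hεe y hy, afun_apply β hyU, afun_apply ε hy]
      exact (hβe ⟨y, hy⟩).symm
    rw [this, afun_inv_apply β hyU]
  have hfoc : c⁻¹ * (afun β⁻¹ ∘ f) c ∈ T := by
    refine (((FusionFocal.focal_le_iff.2 fun Q g hg y hy => ?_ :
      (FusionSysNormal.centralizerSystem F T hTS).focalSubgroup ≤ T)) ?_)
    · exact hcs (FusionFocal.focal_le_iff.1 (FusionCentralizerSub.focal_le_cs hS hF hD) Q g hg y hy)
    · exact FusionFocal.gen_mem_focal (FusionCentralizerNormal.mor_cent hI.2.1 hD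
        (Subgroup.zpowers_le.2 hc') hg hfix) (Subgroup.mem_zpowers c)
  have hcU : c ∈ T ⊔ centralizerIn S T := Subgroup.mem_sup_right hc'
  have hd : c⁻¹ * afun β c ∈ T := by
    rw [afun_apply β hcU]
    exact (hβc ⟨c, hcU⟩ hc').1
  have hk : c⁻¹ * f c ∈ T := by
    have hfc : f c ∈ T ⊔ centralizerIn S T := hf'.apply_mem hcm
    have h1 : afun β (afun β⁻¹ (f c)) = f c := afun_apply_inv β hfc
    have h2 : afun β (c * (c⁻¹ * afun β⁻¹ (f c))) = f c := by rw [mul_inv_cancel_left, h1]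
    rw [hβm.map_mul hcU (Subgroup.mem_sup_left (show c⁻¹ * afun β⁻¹ (f c) ∈ T from hfoc))] at h2
    have h3 : afun β (c⁻¹ * (afun β⁻¹ ∘ f) c) ∈ T :=
      closed_apply hI.2.1 (hβm.restrict_to le_sup_left) le_rfl hfoc
    rw [← h2, ← mul_assoc]
    exact T.mul_mem hd h3
  have hft : f t ∈ T := closed_apply hT0 hf0 le_rfl ht
  have hfx : (x : Ω)⁻¹ * f x ∈ T := by
    rw [hx, hf'.map_mul (Subgroup.mem_sup_right ht) hcm,
      show (t * c)⁻¹ * (f t * f c) = c⁻¹ * (t⁻¹ * f t) * c * (c⁻¹ * f c) by group]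
    refine T.mul_mem ?_ hk
    have := FusionSysNormal.cj_mem_of_stronglyClosed hI.2.1 (S.inv_mem hc'.1)
      (T.mul_mem (T.inv_mem ht) hft)
    simpa [cj_apply] using this
  show (x : Ω)⁻¹ * _ ∈ T
  have h := hc x x.2
  rw [afun_coe] at h
  have h' : (f x)⁻¹ * ((α : MulAut P) x : Ω) ∈ T := FusionPuig.cong_symm h
  simpa [mul_assoc] using T.mul_mem hfx h'

/-- `E` has `p`-power index in the reduced system. -/
theorem pPower_index (hS : IsPGroup p S) (hI : E.IsInvariantIn F) (h0 : Stage F E F0 p)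
    (hA : F0.autGroup T = E.autGroup T) (hhyp : F0.hyperfocalSubgroup p ≤ T) :
    E.HasPPowerIndexIn F0 p := by
  refine ⟨h0.sub, hhyp, fun P hP => FusionPPower.map_pResidual_le_of_coprime fun a ha _ => ?_⟩
  obtain ⟨b, hb, e, he, hae⟩ := FusionWeaklyNormal88.inv_factor
    (invariant_of_le hS hI h0.inv.1 h0.sat h0.sub) hP
    ((mem_autGroup (hP.trans le_sup_left)).1 ha)
  rw [hA] at hb
  refine mem_autGroup_of_mor ((he.comp ((mem_autGroup le_rfl).1 hb) fun x hx => he.apply_mem hx).congr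
    fun x hx => (hae x hx).symm)

end Cfsg.Agent.FusionReductionChain
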