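import Cfsg.Agent.Lib.FusionNilTools
import Cfsg.Agent.Lib.GlaubermanPComplement
import Cfsg.Agent.S3082

/-!
The normal `p`-complement criterion for a family of abelian subgroups with a replacement property,
for groups of characteristic `p`, `p` odd.
-/

set_option autoImplicit false

universe u

namespace Cfsg.Agent.FusionReplacement

open Subgroup GlaubermanZJ
open scoped commutatorElement

variable {p : ℕ} [Fact p.Prime] {L : Type u} [Group L]

/-- `x` lies in every member of `𝒜` below `Q`. -/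
def InAll (𝒜 : Set (Subgroup L)) (Q : Subgroup L) (x : L) : Prop := ∀ A ∈ 𝒜, A ≤ Q → x ∈ A

/-- The hypotheses on the family. -/
structure Family (P : Subgroup L) (𝒜 : Set (Subgroup L)) : Prop where
  nonempty : 𝒜.Nonempty
  le : ∀ A ∈ 𝒜, A ≤ P
  comm : ∀ A ∈ 𝒜, ∀ a ∈ A, ∀ b ∈ A, a * b = b * a
  inv : ∀ Q ≤ P, (∃ A ∈ 𝒜, A ≤ Q) → ∀ g ∈ normalizer (Q : Set L), ∀ x : L,
    InAll 𝒜 Q x → InAll 𝒜 Q (g * x * g⁻¹)
  rep : ∀ B ≤ P, ⁅⁅B, B⁆, B⁆ = ⊥ → (∃ A ∈ 𝒜, ⁅B, B⁆ ≤ A ∧ ¬ B ≤ A) →
    ∃ A ∈ 𝒜, ⁅B, B⁆ ≤ A ∧ ¬ B ≤ A ∧ B ≤ normalizer (A : Set L)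

theorem Family.subgroup {P : Subgroup L} {𝒜 : Set (Subgroup L)} (h : Family P 𝒜) {H : Subgroup L}
    (hPH : P ≤ H) : Family (P.subgroupOf H) {A : Subgroup H | A.map H.subtype ∈ 𝒜} where
  nonempty := by
    obtain ⟨A, hA⟩ := h.nonempty
    exact ⟨A.subgroupOf H, by
      rwa [Set.mem_setOf_eq, map_subgroupOf_eq_of_le ((h.le A hA).trans hPH)]⟩
  le := fun A hA x hx => h.le _ hA ⟨x, hx, rfl⟩
  comm := fun A hA a ha b hb => Subtype.ext (h.comm _ hA a ⟨a, ha, rfl⟩ b ⟨b, hb, rfl⟩)
  inv := fun Q hQ ⟨A, hA, hAQ⟩ g hg x hx A' hA' hA'Q => by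
    have hx' : InAll 𝒜 (Q.map H.subtype) (x : L) := fun B hB hBQ => by
      have hBH : B ≤ H := hBQ.trans (map_subtype_le Q)
      have hBQ' : B.subgroupOf H ≤ Q := fun y hy => by
        obtain ⟨z, hz, hze⟩ := hBQ hy
        rwa [← Subtype.ext hze]
      exact hx (B.subgroupOf H) (by rwa [Set.mem_setOf_eq, map_subgroupOf_eq_of_le hBH]) hBQ'
    have hg' : (g : L) ∈ normalizer ((Q.map H.subtype : Subgroup L) : Set L) :=
      le_normalizer_map H.subtype ⟨g, hg, rfl⟩
    obtain ⟨z, hz, hze⟩ := h.inv (Q.map H.subtype) (map_le_iff_le_comap.mpr hQ)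
      ⟨_, hA, map_mono hAQ⟩ (g : L) hg' x hx' _ hA' (map_mono hA'Q)
    rwa [← show z = g * x * g⁻¹ from Subtype.ext hze]
  rep := fun B hB hc ⟨A, hA, hBA, hnA⟩ => by
    have hmap : ∀ C D : Subgroup H, ⁅C, D⁆.map H.subtype = ⁅C.map H.subtype, D.map H.subtype⁆ :=
      fun C D => map_commutator C D H.subtype
    obtain ⟨A', hA', hBA', hnA', hN⟩ := h.rep (B.map H.subtype) (map_le_iff_le_comap.mpr hB)
      (by rw [← hmap, ← hmap, hc, Subgroup.map_bot])
      ⟨_, hA, by rw [← hmap]; exact map_mono hBA,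
        fun e => hnA ((map_le_map_iff_of_injective H.subtype_injective).mp e)⟩
    have hA'H : A' ≤ H := (h.le A' hA').trans hPH
    refine ⟨A'.subgroupOf H, by rwa [Set.mem_setOf_eq, map_subgroupOf_eq_of_le hA'H],
      map_le_iff_le_comap.mp (by rw [hmap]; exact hBA'), fun e => hnA' (map_le_iff_le_comap.mpr e),
      fun b hb => mem_normalizer_iff.mpr fun a => ?_⟩
    simp only [mem_subgroupOf, Subgroup.coe_mul, InvMemClass.coe_inv]
    exact mem_normalizer_iff.mp (hN ⟨b, hb, rfl⟩) _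

/-- For an odd prime a group of characteristic `p` in which the normalizer of the intersection of such
a family is a `p`-group is a `p`-group. -/
theorem isPGroup_of_family (hp : p ≠ 2) : ∀ (n : ℕ) (L : Type u) [Group L] [Finite L],
    Nat.card L = n → ∀ (P : Sylow p L) (𝒜 : Set (Subgroup L)), Family (P : Subgroup L) 𝒜 →
      centralizer ((Cfsg.pCore p L : Subgroup L) : Set L) ≤ Cfsg.pCore p L →
        IsPGroup p (normalizer ((sInf 𝒜 : Subgroup L) : Set L)) → IsPGroup p L := by
  intro n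
  induction n using Nat.strong_induction_on with
  | _ n ih =>
  intro L _ _ hn P 𝒜 hF hC hN
  classical
  haveI hMn := HallCore.pCore_normal p L
  set M := Cfsg.pCore p L with hMdef
  have hMp : IsPGroup p M := HallCore.isPGroup_pCore p L
  have hMP : M ≤ (P : Subgroup L) := HallCore.pCore_le_sylow P
  set Z := sInf 𝒜 with hZdef
  obtain ⟨A₀, hA₀⟩ := hF.nonempty
  have hZP : Z ≤ (P : Subgroup L) := (sInf_le hA₀).trans (hF.le A₀ hA₀)
  have hPZ' : ∀ g ∈ normalizer ((P : Subgroup L) : Set L), ∀ x ∈ Z, g * x * g⁻¹ ∈ Z := by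
    intro g hg x hx
    exact mem_sInf.mpr fun A hA => hF.inv (P : Subgroup L) le_rfl ⟨A₀, hA₀, hF.le A₀ hA₀⟩ g hg x
      (fun B hB _ => mem_sInf.mp hx B hB) A hA (hF.le A hA)
  have hPZ : normalizer ((P : Subgroup L) : Set L) ≤ normalizer (Z : Set L) := fun g hg =>
    mem_normalizer_iff.mpr fun x => ⟨hPZ' g hg x, fun hx => by
      simpa [mul_assoc] using hPZ' g⁻¹ (inv_mem hg) _ hx⟩
  by_contra hnot
  have htop : normalizer (Z : Set L) ≠ ⊤ := fun e => hnot (by
    rw [e] at hN
    exact hN.of_equiv topEquiv)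
  -- proper subgroups over `P`
  have hsub : ∀ H : Subgroup L, H ≠ ⊤ → (P : Subgroup L) ≤ H → IsPGroup p H := by
    intro H hH hPH
    let P' : Sylow p H := P.subtype hPH
    have hP' : (P' : Subgroup H) = (P : Subgroup L).subgroupOf H := P.coe_subtype hPH
    refine ih _ (hn ▸ HallSolvable.card_subgroup_lt hH) H rfl P' {A : Subgroup H | A.map H.subtype ∈ 𝒜}
      (hP' ▸ hF.subgroup hPH) (fun h hh => ?_) ?_
    · haveI := HallCore.pCore_normal p H
      haveI : (M.subgroupOf H).Normal := normal_subgroupOf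
      have hMH : M.subgroupOf H ≤ Cfsg.pCore p H := HallCore.le_pCore hMp.comap_subtype
      refine hMH (mem_subgroupOf.mpr (hC (mem_centralizer_iff.mpr fun m hm => ?_)))
      exact congrArg Subtype.val (mem_centralizer_iff.mp hh ⟨m, hPH (hMP hm)⟩ (hMH hm))
    · have hmem : ∀ x : H, x ∈ sInf {A : Subgroup H | A.map H.subtype ∈ 𝒜} ↔ (x : L) ∈ Z := by
        intro x
        simp only [mem_sInf, Set.mem_setOf_eq, hZdef]
        refine ⟨fun h A hA => ?_, fun h A hA => ?_⟩
        · exact h (A.subgroupOf H) (by rwa [map_subgroupOf_eq_of_le ((hF.le A hA).trans hPH)])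
        · obtain ⟨z, hz, hze⟩ := h _ hA
          rwa [← Subtype.ext hze]
      have e : sInf {A : Subgroup H | A.map H.subtype ∈ 𝒜} = Z.subgroupOf H := by
        ext x; rw [hmem, mem_subgroupOf]
      rw [e]
      refine (hN.comap_of_injective H.subtype H.subtype_injective).to_le fun x hx => ?_
      refine mem_comap.mpr (mem_normalizer_iff.mpr fun z => ?_)
      by_cases hz : z ∈ H
      · exact mem_normalizer_iff.mp hx ⟨z, hz⟩
      · exact iff_of_false (fun h => hz (hPH (hZP h))) fun h => hz (by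
          simpa [mul_assoc] using H.mul_mem (H.mul_mem (H.inv_mem x.2) (hPH (hZP h))) x.2)
  -- the quotient by `M`
  let π := QuotientGroup.mk' M
  have hπ : Function.Surjective π := QuotientGroup.mk'_surjective M
  set Tb := (P : Subgroup L).map π with hTb
  have hTbp : IsPGroup p Tb := P.isPGroup'.map π
  have hTb0 : Tb ≠ ⊥ := by
    intro e
    rw [hTb, Subgroup.map_eq_bot_iff, QuotientGroup.ker_mk'] at e
    have hPn : (P : Subgroup L) = M := le_antisymm e hMP
    exact htop (top_le_iff.mp ((normalizer_eq_top_iff.mpr (hPn ▸ hMn)).ge.trans hPZ))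
  have hover : ∀ U : Subgroup (L ⧸ M), U ≠ ⊤ → Tb ≤ U → IsPGroup p U := by
    intro U hU hle
    have h1 := hsub (U.comap π) (fun e => hU (by
      rw [← map_comap_eq_self_of_surjective hπ U, e, map_top_of_surjective π hπ]))
      (map_le_iff_le_comap.mp hle)
    have := h1.map π
    rwa [map_comap_eq_self_of_surjective hπ] at this
  have hbar : Cfsg.HasNormalPComplement p (L ⧸ M) := by
    let T' : Sylow p (L ⧸ M) := P.mapSurjective hπ
    have hT' : (T' : Subgroup (L ⧸ M)) = Tb := Sylow.coe_mapSurjective hπ P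
    refine S3082.result hp T' T' ⟨le_rfl, fun _ _ _ h => h⟩ (Or.inl ?_)
    rw [centerThompsonAOf_eq, hT']
    refine FusionCriteria.hasNormalPComplement_of_isPGroup
      (hover _ (fun e => ?_) (Subgroup.le_normalizer.trans (normalizer_le_thomY Tb)))
    haveI := normalizer_eq_top_iff.mp e
    have h1 := HallCore.isPGroup_comap_mk' hMp (hTbp.to_le (thomY_le (n := 0) Tb))
    have h2 : (thomY 0 Tb).comap π ≤ M := HallCore.le_pCore h1
    refine thomY_ne_bot (Or.inl rfl) hTbp hTb0 (le_bot_iff.mp ?_)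
    rw [← map_comap_eq_self_of_surjective hπ (thomY 0 Tb)]
    refine (map_mono h2).trans (le_of_eq ?_)
    rw [Subgroup.map_eq_bot_iff, QuotientGroup.ker_mk']
  set K := Cfsg.pResidual p (L ⧸ M) with hK
  have hKp : ¬ p ∣ Nat.card K := TransferPResidual.hasNormalPComplement_iff_not_dvd.mp hbar
  have hcopT : (Nat.card Tb).Coprime (Nat.card K) := by
    obtain ⟨k, hk⟩ := IsPGroup.iff_card.mp hTbp
    rw [hk]
    exact ((Nat.Prime.coprime_iff_not_dvd Fact.out).mpr hKp).pow_left k
  have hmin : ∀ U : Subgroup (L ⧸ M), U ≤ K → Tb ≤ normalizer (U : Set (L ⧸ M)) →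
      U = ⊥ ∨ U = K := by
    intro U hU hUn
    by_cases htopU : U ⊔ Tb = ⊤
    · refine Or.inr (le_antisymm hU fun k hk => ?_)
      have h2 : k ∈ U ⊔ Tb := htopU ▸ mem_top k
      rw [← SetLike.mem_coe, coe_mul_of_right_le_normalizer_left U Tb hUn] at h2
      obtain ⟨l, hl, t, ht, rfl⟩ := h2
      have ht' : t ∈ K ⊓ Tb := ⟨by
        have := mul_mem (inv_mem (hU hl)) hk
        simpa using this, ht⟩
      rw [(disjoint_of_coprime_natCard hcopT.symm).eq_bot, mem_bot] at ht'
      simpa [ht'] using hl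
    · left
      rcases ((hover _ htopU le_sup_right).to_le (le_sup_left : U ≤ U ⊔ Tb)).card_eq_or_dvd
        with h9 | h9
      · exact card_eq_one.mp h9
      · exact absurd (h9.trans (card_dvd_of_le hU)) hKp
  have hTK : Tb ≤ normalizer (K : Set (L ⧸ M)) := le_normalizer_of_normal
  have hcomm : ⁅K, K⁆ = ⊥ := by
    by_cases hK0 : K = ⊥
    · rw [hK0, commutator_bot_left]
    have hq := Nat.minFac_prime (fun h => hK0 (card_eq_one.mp h) : Nat.card K ≠ 1)
    haveI : Fact (Nat.card K).minFac.Prime := ⟨hq⟩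
    obtain ⟨Q, hQ⟩ := CoprimeAction.exists_invariant_sylow hTK hcopT
      (Or.inl (by haveI := hTbp.isNilpotent; infer_instance)) (Nat.card K).minFac
    rcases hmin _ (map_subtype_le _) hQ with h | h
    · exact absurd ((map_eq_bot_iff_of_injective _ K.subtype_injective).mp h)
        (Q.ne_bot_of_dvd_card (Nat.minFac_dvd _))
    · have hnil : Group.IsNilpotent K := by
        have htopQ : (Q : Subgroup K) = ⊤ := by
          apply map_injective K.subtype_injective
          rw [h, ← MonoidHom.range_eq_map, range_subtype]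
        have h2 := Q.isPGroup'
        rw [htopQ] at h2
        exact (h2.of_equiv topEquiv).isNilpotent
      have hinv : Tb ≤ normalizer ((⁅K, K⁆ : Subgroup (L ⧸ M)) : Set (L ⧸ M)) :=
        le_normalizer_of_normal
      rcases hmin _ (commutator_le_self K) hinv with h2 | h2
      · exact h2
      · exfalso
        obtain ⟨m, hm⟩ : ∃ m, K.lowerCentralSeries m = ⊥ :=
          (Subgroup.isNilpotent_iff_lowerCentralSeries K).mp hnil
        have : ∀ i, K.lowerCentralSeries i = K := by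
          intro i
          induction i with
          | zero => exact Subgroup.lowerCentralSeries_zero _
          | succ i ihi => rw [Subgroup.lowerCentralSeries_succ, ihi, h2]
        exact hK0 ((this m).symm.trans hm)
  have hhyp : ⁅Cfsg.pResidual p L, Cfsg.pResidual p L⁆ ≤ Cfsg.pCore p L := by
    rw [← hMdef, ← QuotientGroup.ker_mk' M, ← Subgroup.map_eq_bot_iff, map_commutator,
      TransferPResidual.map_pResidual_eq_of_surjective π hπ]
    exact hcomm
  have hst : ∀ (B : Subgroup L) [B.Normal], IsPGroup p B → Cfsg.IsPStableOn p B := fun B _ hB =>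
    isPStableOn_of_isNormalizerPStable (TransferQuadratic.isNormalizerPStable_of_hyp p hp hhyp) B hB
  -- the dichotomy from stability
  have hkey : ∀ (A B : Subgroup L) [B.Normal], IsPGroup p B → A ≤ (P : Subgroup L) →
      (∀ a ∈ A, ∀ b ∈ A, a * b = b * a) → B ≤ normalizer (A : Set L) →
        A ≤ M ∨ (Z ⊓ B).Normal := by
    intro A B _ hB hAP hAc hBA
    set T := (P : Subgroup L) ⊓ actCore p B with hT
    have hAT : A ≤ T := fun a ha => ⟨hAP ha, mem_actCore_of_quadratic (hst B hB) hAc hBA ha⟩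
    by_cases hTn : normalizer (T : Set L) = ⊤
    · haveI := normalizer_eq_top_iff.mp hTn
      exact Or.inl (hAT.trans (HallCore.le_pCore (P.isPGroup'.to_le inf_le_left)))
    right
    have hPN : (P : Subgroup L) ≤ normalizer (T : Set L) := fun g hg =>
      mem_normalizer_iff.mpr fun x => by
        rw [hT, mem_inf, mem_inf]
        exact and_congr (mem_normalizer_iff.mp (Subgroup.le_normalizer hg) x)
          (mem_normalizer_iff.mp (le_normalizer_of_normal (Subgroup.mem_top g)) x)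
    have hNp := hsub _ hTn hPN
    have hNP : normalizer (T : Set L) ≤ (P : Subgroup L) := (P.3 hNp hPN).le
    have hBP : B ≤ (P : Subgroup L) := (HallCore.le_pCore hB).trans hMP
    refine normalizer_eq_top_iff.mp (top_le_iff.mp ((centralizer_sup_normalizer P B).ge.trans ?_))
    refine sup_le ((centralizer_le inf_le_right).trans (centralizer_le_normalizer _))
      (hNP.trans fun g hg => ?_)
    refine mem_normalizer_iff.mpr fun x => ?_
    rw [mem_inf, mem_inf]
    exact and_congr (mem_normalizer_iff.mp (hPZ (Subgroup.le_normalizer hg)) x)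
      (mem_normalizer_iff.mp (le_normalizer_of_normal (Subgroup.mem_top g)) x)
  have hPleZ : (P : Subgroup L) ≤ normalizer (Z : Set L) := Subgroup.le_normalizer.trans hPZ
  have hZn : ¬ Z.Normal := fun h => htop (normalizer_eq_top_iff.mpr h)
  have hZM : Z ≤ M := by
    rcases hkey Z M hMp hZP (fun a ha b hb => hF.comm A₀ hA₀ a (sInf_le hA₀ ha) b (sInf_le hA₀ hb))
      (hMP.trans hPleZ) with h | h
    · exact h
    · have h2 := HallCore.isPGroup_comap_mk' (hMp.to_le hC)
        (HallCore.isPGroup_pCore p (L ⧸ centralizer (M : Set L)))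
      intro z hz
      exact HallCore.le_pCore (N := actCore p M) h2 (mem_actCore_of_quadratic (hst M hMp)
        (fun a ha b hb => hF.comm A₀ hA₀ a (sInf_le hA₀ ha) b (sInf_le hA₀ hb))
        (hMP.trans hPleZ) hz)
  obtain ⟨B, ⟨hBn, hBp, hBbad⟩, hBmin⟩ := Set.exists_min_image
    {B : Subgroup L | B.Normal ∧ IsPGroup p B ∧ ¬ (Z ⊓ B).Normal} (fun B => Nat.card B)
    (Set.toFinite _) ⟨M, hMn, hMp, by rwa [inf_eq_left.mpr hZM]⟩
  haveI := hBn
  have hsmall : ∀ B' : Subgroup L, B' < B → B'.Normal → (Z ⊓ B').Normal := fun B' hlt hn' => by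
    by_contra h
    exact absurd (hBmin B' ⟨hn', hBp.to_le hlt.le, h⟩)
      (not_le.mpr (Set.Finite.card_lt_card (Set.toFinite _) hlt))
  have hBM : B ≤ M := HallCore.le_pCore hBp
  have hBP : B ≤ (P : Subgroup L) := hBM.trans hMP
  have hBne : B ≠ ⊥ := by
    rintro rfl
    exact hBbad (by rw [inf_bot_eq]; infer_instance)
  have hgen : normalClosure ((Z ⊓ B : Subgroup L) : Set L) = B := by
    have hle : normalClosure ((Z ⊓ B : Subgroup L) : Set L) ≤ B :=
      normalClosure_le_normal (inf_le_right (a := Z))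
    refine eq_of_le_of_not_lt hle fun hlt => hBbad ?_
    have h1 : Z ⊓ normalClosure ((Z ⊓ B : Subgroup L) : Set L) = Z ⊓ B :=
      le_antisymm (inf_le_inf_left _ hle) (le_inf inf_le_left subset_normalClosure)
    rw [← h1]
    exact hsmall _ hlt normalClosure_normal
  haveI hKn : (Z ⊓ ⁅B, B⁆).Normal := hsmall _ (commutator_lt_of_pGroup hBp hBne) inferInstance
  have hgenle : ∀ U : Subgroup L, U.Normal → Z ⊓ B ≤ U → B ≤ U := fun U hUn hle => by
    rw [← hgen]
    haveI := hUn
    exact normalClosure_le_normal hle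
  have hBK : ⁅B, B⁆ ≤ Z ⊓ ⁅B, B⁆ := by
    set K₀ := Z ⊓ ⁅B, B⁆
    rw [← QuotientGroup.ker_mk' K₀, ← Subgroup.map_eq_bot_iff, map_commutator,
      commutator_eq_bot_iff_le_centralizer, map_le_iff_le_comap]
    haveI : (B.map (QuotientGroup.mk' K₀)).Normal :=
      Subgroup.Normal.map inferInstance _ (QuotientGroup.mk'_surjective K₀)
    refine hgenle _ (Normal.comap inferInstance _) ?_
    rw [← map_le_iff_le_comap, ← commutator_eq_bot_iff_le_centralizer, ← map_commutator,
      Subgroup.map_eq_bot_iff, QuotientGroup.ker_mk']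
    refine le_inf (commutator_le.mpr fun z hz b hb => ?_) (commutator_mono inf_le_right le_rfl)
    rw [commutatorElement_def, mul_assoc z, mul_assoc]
    exact mul_mem hz.1 ((mem_normalizer_iff.mp (hPleZ (hBP hb)) _).mp (inv_mem hz.1))
  have hBZ : ⁅B, B⁆ ≤ Z := hBK.trans inf_le_left
  have hcls : ⁅⁅B, B⁆, B⁆ = ⊥ := by
    rw [commutator_comm, commutator_eq_bot_iff_le_centralizer]
    exact hgenle _ inferInstance fun z hz => mem_centralizer_iff.mpr fun c hc =>
      hF.comm A₀ hA₀ c (sInf_le hA₀ (hBZ hc)) z (sInf_le hA₀ hz.1)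
  have hex : ∃ A ∈ 𝒜, ⁅B, B⁆ ≤ A ∧ ¬ B ≤ A := by
    by_contra hno
    push_neg at hno
    refine hBbad ?_
    rw [inf_eq_right.mpr (le_sInf fun A hA => hno A hA (hBZ.trans (sInf_le hA)))]
    exact hBn
  obtain ⟨A, hA, -, hBA, hBN⟩ := hF.rep B hBP hcls hex
  rcases hkey A B hBp (hF.le A hA) (hF.comm A hA) hBN with hAM | h
  swap
  · exact hBbad h
  refine hBA ?_
  rw [← hgen, normalClosure, closure_le]
  intro x hx
  obtain ⟨z, hz, hzx⟩ := Group.mem_conjugatesOfSet_iff.mp hx
  obtain ⟨g, rfl⟩ := isConj_iff.mp hzx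
  exact hF.inv M hMP ⟨A, hA, hAM⟩ g (le_normalizer_of_normal (Subgroup.mem_top g)) z
    (fun C hC _ => mem_sInf.mp hz.1 C hC) A hA hAM

end Cfsg.Agent.FusionReplacement
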