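import Cfsg.Agent.Lib.FusionSysAlperin

/-!
Saturation from a family (Broto–Castellana–Grodal–Levi–Oliver): if all classes of subgroups bigger
than `P` are saturated and the maps on the class of `P` come from bigger subgroups, the class of
`P` is saturated as soon as some normal `p`-subgroup `O` of the automizer meets `Aut_S(P)` outside
the inner automorphisms.

The proof shows that every automorphism of a fully normalized `P` extends to
`K = {g ∈ N_S(P) | c_g ∈ O}`, by downward induction on the source of an extension and the Frattini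
argument.
-/

set_option autoImplicit false

namespace Cfsg.Agent.FusionSaturationCriterion9

open Cfsg Cfsg.FusionSystem Cfsg.Agent.FusionSysBasic Cfsg.Agent.FusionSysSaturated
open Cfsg.Agent.FusionSysAlperin (lt_normalizerIn)

variable {Ω : Type*} [Group Ω] {S : Subgroup Ω} {F : FusionSystem S} {p : ℕ}

/-- Classes of subgroups bigger than `n` have fully automized receptive members. -/
def SatAbove (F : FusionSystem S) (p n : ℕ) : Prop :=
  ∀ R : Subgroup Ω, R ≤ S → n < Nat.card R →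
    ∃ T, F.IsConj R T ∧ F.IsFullyAutomized p T ∧ F.IsReceptive T

/-! ### Generation from bigger subgroups -/

/-- Composites of restrictions of maps with bigger sources. -/
inductive Gen (F : FusionSystem S) : Subgroup Ω → (Ω → Ω) → Prop
  | step {P R : Subgroup Ω} {f : Ω → Ω} : Mor F R f → P < R → Gen F P f
  | congr {P : Subgroup Ω} {f g : Ω → Ω} : Gen F P f → (∀ x ∈ P, f x = g x) → Gen F P g
  | comp {P : Subgroup Ω} {f g : Ω → Ω} : Gen F P f → Gen F (im P f) g → Gen F P (g ∘ f)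

theorem Gen.mor {P : Subgroup Ω} {f : Ω → Ω} (h : Gen F P f) : Mor F P f := by
  induction h with
  | step hf hlt => exact hf.restrict_to hlt.le
  | congr _ he ih => exact ih.congr he
  | comp _ _ ih₁ ih₂ => exact ih₁.comp_im ih₂

theorem Gen.exists_inv [Finite S] {P : Subgroup Ω} {f : Ω → Ω} (h : Gen F P f) :
    ∃ g, Gen F (im P f) g ∧ ∀ x ∈ P, g (f x) = x := by
  induction h with
  | @step P R f hf hlt =>
    obtain ⟨g, hg, hgf, -, -⟩ := hf.exists_inv
    refine ⟨g, .step hg (lt_of_le_of_ne (im_mono hlt.le) fun e => hlt.ne ?_),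
      fun x hx => hgf x (hlt.le hx)⟩
    refine eq_of_le_of_card_ge hf.le hlt.le ?_
    rw [← (hf.restrict_to hlt.le).card_im, e, hf.card_im]
  | @congr P f f' _ he ih =>
    obtain ⟨g, hg, hgf⟩ := ih
    exact ⟨g, im_congr he ▸ hg, fun x hx => he x hx ▸ hgf x hx⟩
  | @comp P f f' h₁ h₂ ih₁ ih₂ =>
    obtain ⟨g, hg, hgf⟩ := ih₁
    obtain ⟨g', hg', hgf'⟩ := ih₂
    rw [h₁.mor.im_comp] at hg'
    refine ⟨g ∘ g', hg'.comp ?_, fun x hx => ?_⟩
    · have e : im (im P (f' ∘ f)) g' = im P f := by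
        rw [← h₁.mor.im_comp, h₂.mor.im_comp]
        exact (im_congr fun y hy => hgf' y hy).trans (im_id _)
      rwa [e]
    · show g (g' (f' (f x))) = x
      rw [hgf' _ (apply_mem_im hx), hgf x hx]

theorem gen_self {P : Subgroup Ω} (hP : P < S) : Gen F P fun x => x :=
  .step (mor_id le_rfl) hP

/-- The subsystem of maps that are generated on the class of `P`. -/
def genSystem [Finite S] (P : Subgroup Ω) (hP : P < S) : FusionSystem S where
  Hom Q := {φ | φ ∈ F.Hom Q ∧ (F.IsConj P Q → Gen F Q (toFun φ))}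
  le_of_mem h := F.le_of_mem h.1
  injective_of_mem h := F.injective_of_mem h.1
  conj_mem {Q g} hQ hg := by
    refine ⟨F.conj_mem hQ hg, fun hPQ => ?_⟩
    have hlt : Q < S := lt_of_le_of_ne hQ fun e => by
      subst e
      exact hP.ne (eq_of_le_of_card_ge le_rfl hP.le (isConj_card hPQ).ge)
    exact (Gen.step (mor_cj le_rfl hg) hlt).congr fun x hx => by rw [toFun_apply _ hx]; rfl
  comp_mem {Q Q' φ ψ} hφ hψ h := by
    refine ⟨F.comp_mem hφ.1 hψ.1 h, fun hPQ => ?_⟩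
    have hm := mor_toFun hφ.1
    have hle : im Q (toFun φ) ≤ Q' := im_le_iff.mpr fun x hx => by
      rw [toFun_apply _ hx]; exact h ⟨x, hx⟩
    have hc : F.IsConj P (im Q (toFun φ)) :=
      isConj_trans hPQ (isConj_iff.mpr ⟨_, hm, rfl⟩)
    have hg : Gen F (im Q (toFun φ)) (toFun ψ) := by
      rcases hle.eq_or_lt with e | e
      · exact e ▸ hψ.2 (e ▸ hc)
      · exact .step (mor_toFun hψ.1) e
    refine ((hφ.2 hPQ).comp hg).congr fun x hx => ?_
    show toFun ψ (toFun φ x) = _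
    rw [toFun_apply _ hx, toFun_apply _ hx, toFun_apply ψ (h ⟨x, hx⟩)]
    rfl
  inv_mem {Q φ} hφ := by
    obtain ⟨ψ, hψ, hinv⟩ := F.inv_mem hφ.1
    refine ⟨ψ, ⟨hψ, fun hc => ?_⟩, hinv⟩
    have hm := mor_toFun hφ.1
    have e := Mor.range_eq_im hφ.1 fun x => (toFun_coe φ x).symm
    have hcQ : F.IsConj P Q :=
      isConj_trans hc (isConj_symm ⟨φ, hφ.1, rfl⟩)
    obtain ⟨g, hg, hgf⟩ := (hφ.2 hcQ).exists_inv
    refine (e ▸ hg : Gen F φ.range g).congr fun y hy => ?_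
    obtain ⟨x, hx, rfl⟩ := hm.mem_im.mp (e ▸ hy)
    rw [hgf x hx, toFun_apply ψ hy]
    refine (hinv ⟨x, hx⟩).symm.trans ?_
    congr 1
    exact Subtype.ext (toFun_apply φ hx).symm

theorem gen_of_mor [Finite S] {P : Subgroup Ω} (hP : P < S) {ℋ : Set (Subgroup Ω)}
    (hℋ : ∀ Q ∈ ℋ, ¬ F.IsConj P Q)
    (hgen : ∀ E : FusionSystem S, (∀ Q ∈ ℋ, F.Hom Q ⊆ E.Hom Q) → F ≤ E)
    {Q : Subgroup Ω} (hQ : F.IsConj P Q) {f : Ω → Ω} (hf : Mor F Q f) : Gen F Q f := by
  obtain ⟨φ, hφ, he⟩ := hf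
  have hE : F ≤ genSystem (F := F) P hP :=
    hgen _ fun R hR φ hφ => ⟨hφ, fun hc => absurd hc (hℋ R hR)⟩
  have h := hE Q hφ
  exact (h.2 hQ).congr fun x hx => by rw [toFun_apply _ hx]; exact he ⟨x, hx⟩

/-! ### Stabilizers -/

/-- Images under an automorphism are images under a homomorphism. -/
theorem im_afun_eq_map {T B : Subgroup Ω} (hBT : B ≤ T) (δ : MulAut T) :
    im B (afun δ) = (B.subgroupOf T).map (T.subtype.comp δ.toMonoidHom) := by
  refine le_antisymm (im_le_iff.mpr fun x hx => ?_) ?_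
  · exact ⟨⟨x, hBT hx⟩, hx, (afun_coe δ ⟨x, hBT hx⟩).symm⟩
  · rintro _ ⟨x, hx, rfl⟩
    have := apply_mem_im (f := afun δ) (show (x : Ω) ∈ B from hx)
    rw [afun_coe] at this
    exact this

theorem mem_im_afun {T B : Subgroup Ω} (hBT : B ≤ T) {δ : MulAut T} {y : Ω} :
    y ∈ im B (afun δ) ↔ ∃ x ∈ B, afun δ x = y := by
  refine ⟨fun hy => ?_, fun ⟨x, hx, e⟩ => e ▸ apply_mem_im hx⟩
  rw [im_afun_eq_map hBT] at hy
  obtain ⟨x, hx, rfl⟩ := hy
  exact ⟨x, hx, afun_coe δ x⟩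

theorem im_afun_mul {T B : Subgroup Ω} (hBT : B ≤ T) (a b : MulAut T) :
    im B (afun (a * b)) = im (im B (afun b)) (afun a) := by
  refine le_antisymm (im_le_iff.mpr fun x hx => ?_) (im_le_iff.mpr fun y hy => ?_)
  · rw [afun_mul _ _ (hBT hx)]
    exact apply_mem_im (apply_mem_im hx)
  · obtain ⟨x, hx, rfl⟩ := (mem_im_afun hBT).mp hy
    rw [← afun_mul _ _ (hBT hx)]
    exact apply_mem_im hx

/-- The automorphisms of `T` in the system that stabilize `B`. -/
noncomputable def stabAut (F : FusionSystem S) (T B : Subgroup Ω) (hBT : B ≤ T) :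
    Subgroup (MulAut T) where
  carrier := {δ | δ ∈ F.autGroup T ∧ im B (afun δ) = B}
  one_mem' := ⟨Subgroup.one_mem _, (im_congr fun x hx => afun_one (hBT hx)).trans (im_id B)⟩
  mul_mem' {a b} ha hb := ⟨Subgroup.mul_mem _ ha.1 hb.1, by rw [im_afun_mul hBT, hb.2, ha.2]⟩
  inv_mem' {a} ha := ⟨Subgroup.inv_mem _ ha.1, by
    conv_lhs => rw [← ha.2]
    rw [← im_afun_mul hBT, inv_mul_cancel]
    exact (im_congr fun x hx => afun_one (hBT hx)).trans (im_id B)⟩

theorem mem_stabAut {T B : Subgroup Ω} (hBT : B ≤ T) {δ : MulAut T} :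
    δ ∈ stabAut F T B hBT ↔ δ ∈ F.autGroup T ∧ im B (afun δ) = B := Iff.rfl

theorem stab_afun_mem {T B : Subgroup Ω} (hBT : B ≤ T) {δ : MulAut T}
    (hδ : δ ∈ stabAut F T B hBT) {x : Ω} (hx : x ∈ B) : afun δ x ∈ B :=
  hδ.2 ▸ apply_mem_im hx

/-- Restriction of stabilizing automorphisms. -/
noncomputable def res {T B : Subgroup Ω} (hBT : B ≤ T) : stabAut F T B hBT →* MulAut B where
  toFun δ :=
    { toFun := fun x => ⟨afun (δ : MulAut T) x, stab_afun_mem hBT δ.2 x.2⟩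
      invFun := fun x => ⟨afun (δ⁻¹ : stabAut F T B hBT).1 x, stab_afun_mem hBT (δ⁻¹).2 x.2⟩
      left_inv := fun x => Subtype.ext (afun_inv_apply _ (hBT x.2))
      right_inv := fun x => Subtype.ext (afun_apply_inv _ (hBT x.2))
      map_mul' := fun x y => Subtype.ext (by
        show afun (δ : MulAut T) ((x : Ω) * y) = afun (δ : MulAut T) x * afun (δ : MulAut T) y
        rw [afun_apply _ (hBT x.2), afun_apply _ (hBT y.2),
          afun_apply _ (T.mul_mem (hBT x.2) (hBT y.2))]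
        exact congrArg Subtype.val (map_mul (δ : MulAut T) ⟨x, hBT x.2⟩ ⟨y, hBT y.2⟩)) }
  map_one' := MulEquiv.ext fun x => Subtype.ext (afun_one (hBT x.2))
  map_mul' a b := MulEquiv.ext fun x => Subtype.ext (afun_mul _ _ (hBT x.2))

theorem afun_res {T B : Subgroup Ω} (hBT : B ≤ T) (δ : stabAut F T B hBT) {x : Ω} (hx : x ∈ B) :
    afun (res hBT δ) x = afun (δ : MulAut T) x := afun_apply _ hx

variable [Finite S] [Fact p.Prime]

omit [Fact p.Prime] [Finite S] in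
theorem im_cj_of_mem {B T : Subgroup Ω} {g : Ω} (hg : g ∈ Subgroup.normalizer (B : Set Ω))
    {δ : MulAut T} (hBT : B ≤ T) (he : ∀ x ∈ T, afun δ x = cj g x) : im B (afun δ) = B :=
  (im_congr fun x hx => he x (hBT hx)).trans (mem_normalizer_iff_im_cj.mp hg)

theorem exists_sylow_position (hS : IsPGroup p S) {T : Subgroup Ω} (hT : F.IsFullyAutomized p T)
    {B : Subgroup Ω} (hBT : B ≤ T) :
    ∃ a ∈ F.autGroup T, ∀ h : im B (afun a) ≤ T,
      SylIn p (autInducedBy S T ⊓ stabAut F T (im B (afun a)) h)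
        (stabAut F T (im B (afun a)) h) := by
  have hTS := hT.1
  haveI := finite_of_le hTS
  obtain ⟨U, hU⟩ : ∃ U : Sylow p (stabAut F T B hBT), True := ⟨default, trivial⟩
  obtain ⟨a, ha, haR⟩ := sylIn_absorb (K := (U : Subgroup _).map (stabAut F T B hBT).subtype)
    (hT.2 : SylIn p (autInducedBy S T) (F.autGroup T)) (U.isPGroup'.map _)
    ((Subgroup.map_subtype_le _).trans fun δ hδ => hδ.1)
  refine ⟨a, ha, fun h => ?_⟩
  set C := im B (afun a) with hC
  have e1 : im C (afun a⁻¹) = B := by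
    rw [hC, ← im_afun_mul hBT, inv_mul_cancel]
    exact (im_congr fun x hx => afun_one (hBT hx)).trans (im_id B)
  have hconj : ∀ δ, δ ∈ stabAut F T B hBT ↔ a * δ * a⁻¹ ∈ stabAut F T C h := by
    intro δ
    rw [mem_stabAut, mem_stabAut]
    constructor
    · rintro ⟨h1, h2⟩
      refine ⟨Subgroup.mul_mem _ (Subgroup.mul_mem _ ha h1) (Subgroup.inv_mem _ ha), ?_⟩
      rw [im_afun_mul h, e1, im_afun_mul hBT, h2]
    · rintro ⟨h1, h2⟩
      have hδ : δ ∈ F.autGroup T := by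
        have := Subgroup.mul_mem _ (Subgroup.mul_mem _ (Subgroup.inv_mem _ ha) h1) ha
        rwa [show a⁻¹ * (a * δ * a⁻¹) * a = δ by group] at this
      refine ⟨hδ, ?_⟩
      rw [im_afun_mul h, e1] at h2
      rw [show δ = a⁻¹ * (a * δ) by group, im_afun_mul hBT, h2, e1]
  haveI : Finite (stabAut F T C h) := inferInstance
  refine (sylIn_iff_card inf_le_right).mpr (le_antisymm ?_ ?_)
  · obtain ⟨k, hk⟩ := IsPGroup.iff_card.mp
      ((isPGroup_autInducedBy hS T).to_le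
        (inf_le_left : autInducedBy S T ⊓ stabAut F T C h ≤ _))
    rw [hk]
    refine Nat.pow_le_pow_right (Fact.out (p := p.Prime)).pos ?_
    refine ((Fact.out (p := p.Prime)).pow_dvd_iff_le_factorization Nat.card_pos.ne').mp ?_
    rw [← hk]
    exact Subgroup.card_dvd_of_le inf_le_right
  · have e : (stabAut F T C h) = (stabAut F T B hBT).map (MulAut.conj a).toMonoidHom := by
      ext δ
      constructor
      · intro hδ
        exact ⟨a⁻¹ * δ * a, (hconj _).mpr (by simpa [mul_assoc] using hδ), by simp [mul_assoc]⟩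
      · rintro ⟨δ', hδ', rfl⟩
        exact (hconj δ').mp hδ'
    rw [e, ← Nat.card_congr (Subgroup.equivMapOfInjective (stabAut F T B hBT) _
      (MulAut.conj a).injective).toEquiv, ← U.card_eq_multiplicity,
      Nat.card_congr (Subgroup.equivMapOfInjective (U : Subgroup _) _
        (stabAut F T B hBT).subtype_injective).toEquiv,
      Nat.card_congr (Subgroup.equivMapOfInjective _ (MulAut.conj a).toMonoidHom
        (MulAut.conj a).injective).toEquiv]
    refine Subgroup.card_le_of_le ?_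
    rintro _ ⟨δ, hδ, rfl⟩
    rw [← e]
    refine ⟨haR δ hδ, (hconj δ).mp ?_⟩
    obtain ⟨d, -, rfl⟩ := hδ
    exact d.2

/-! ### Moving to a fully normalized member -/

omit [Fact p.Prime] in
/-- A map sends the normalizing elements of its source into the normalizer of the image. -/
theorem mem_normalizerIn_im {P R : Subgroup Ω} {f : Ω → Ω} (hf : Mor F R f) (hPR : P ≤ R) {g : Ω}
    (hg : g ∈ R) (hgn : g ∈ Subgroup.normalizer (P : Set Ω)) : f g ∈ normalizerIn S (im P f) := by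
  have hr := hf.restrict_to hPR
  refine ⟨hf.apply_mem hg, mem_normalizer_of_cj_le hr.im_le fun y hy => ?_⟩
  obtain ⟨x, hx, rfl⟩ := hr.mem_im.mp hy
  rw [← hf.map_cj hg (hPR hx)]
  exact apply_mem_im (cj_mem_of_normalizer hgn hx)

omit [Fact p.Prime] in
theorem nHom_mem_stabAut {B T : Subgroup Ω} (hBT : B ≤ T) (hTS : T ≤ S)
    (g : ↥(S ⊓ Subgroup.normalizer (T : Set Ω))) (hg : (g : Ω) ∈ Subgroup.normalizer (B : Set Ω)) :
    nHom S T g ∈ stabAut F T B hBT :=
  ⟨autInducedBy_le hTS (autInducedBy_eq_range S T ▸ ⟨g, rfl⟩),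
    im_cj_of_mem hg hBT fun x hx => afun_nHom g hx⟩

/-- A map onto a receptive subgroup `T`, carrying `P` to a well placed `B`, extends to the
elements normalizing both sources after an adjustment. -/
theorem lift_step (hS : IsPGroup p S) {T B : Subgroup Ω} (hTr : F.IsReceptive T) (hBT : B ≤ T)
    (hpos : SylIn p (autInducedBy S T ⊓ stabAut F T B hBT) (stabAut F T B hBT))
    {P R : Subgroup Ω} {f : Ω → Ω} (hPR : P ≤ R) (hRN : R ≤ normalizerIn S P) (hf : Mor F R f)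
    (hfT : im R f = T) (hfB : im P f = B) :
    ∃ f', Mor F (normalizerIn S P ⊓ normalizerIn S R) f' ∧
      (∀ x ∈ normalizerIn S P ⊓ normalizerIn S R, f' x ∈ normalizerIn S B) ∧
      im R f' = T ∧ im P f' = B := by
  have hRS := hf.le
  haveI := finite_of_le hTr.1
  have hfR : ∀ x ∈ R, f x ∈ T := fun x hx => hfT ▸ apply_mem_im hx
  set N := normalizerIn S P ⊓ normalizerIn S R with hN
  have hRle : R ≤ N := le_inf hRN (le_normalizerIn hRS)
  have hK : ((autInducedBy N R).map (hf.transport hfT).toMonoidHom) ≤ stabAut F T B hBT := by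
    rintro _ ⟨δ, hδ, rfl⟩
    obtain ⟨g, hg, hgn, he⟩ := mem_autInducedBy.mp hδ
    refine ⟨hf.transport_mem hfT (autInducedBy_le hRS (autInducedBy_mono
      (inf_le_left.trans inf_le_left) R hδ)), ?_⟩
    have key : ∀ y ∈ B, afun (hf.transport hfT δ) y ∈ B := by
      intro y hy
      obtain ⟨x, hx, rfl⟩ := (hf.restrict_to hPR).mem_im.mp (hfB.symm ▸ hy)
      rw [hf.afun_transport hfT δ (hPR hx), he x (hPR hx)]
      exact hfB ▸ apply_mem_im (cj_mem_of_normalizer hg.1.2 hx)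
    exact (((mem_autGroup hTr.1).mp (hf.transport_mem hfT (autInducedBy_le hRS (autInducedBy_mono
      (inf_le_left.trans inf_le_left) R hδ)))).restrict_to hBT).im_self key
  obtain ⟨a, ha, haR⟩ := sylIn_absorb hpos
    (((isPGroup_autInducedBy hS R).to_le (autInducedBy_mono (inf_le_left.trans inf_le_left) R)).map _)
    hK
  have hf₁ : Mor F R (afun a ∘ f) := hf.comp ((mem_autGroup hTr.1).mp ha.1) hfR
  have him₁ : im R (afun a ∘ f) = T := by rw [← hf.im_comp, hfT, im_afun]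
  obtain ⟨f', hf', hag⟩ := (receptive_iff.mp hTr).2 R _ N hf₁ him₁
    (inf_le_left.trans inf_le_left) (fun g hg => hg.2.2) (by
      intro g hg
      obtain ⟨h, hh, -, he⟩ := mem_autInducedBy.mp
        (haR _ ⟨nHom N R ⟨g, hg, hg.2.2⟩, autInducedBy_eq_range N R ▸ ⟨_, rfl⟩, rfl⟩).1
      refine ⟨h, hh, fun x hx => ?_⟩
      have hfx := hfR x hx
      show afun a (f (cj g x)) = cj h (afun a (f x))
      rw [← he _ (afun_mem a hfx), afun_mul _ _ (afun_mem a hfx), afun_inv_apply a hfx,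
        afun_mul _ _ hfx]
      refine congrArg (afun a) ?_
      show _ = afun (hf.transport hfT (nHom N R ⟨g, hg, hg.2.2⟩)) (f x)
      rw [hf.afun_transport hfT _ hx, afun_nHom _ hx])
  rw [sup_eq_right.mpr hRle] at hf'
  have hB : im P f' = B := by
    rw [im_congr fun x hx => hag x (hPR hx), ← (hf.restrict_to hPR).im_comp, hfB]
    exact ha.2
  refine ⟨f', hf', fun x hx => ?_, (im_congr hag).trans him₁, hB⟩
  exact hB ▸ mem_normalizerIn_im hf' (hPR.trans hRle) hx hx.1.2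

/-- `P₀` moves to `Ph` together with its normalizer. -/
def Movable (F : FusionSystem S) (Ph P₀ : Subgroup Ω) : Prop :=
  ∃ f, Mor F (normalizerIn S P₀) f ∧
    (∀ x ∈ normalizerIn S P₀, f x ∈ normalizerIn S Ph) ∧ im P₀ f = Ph

omit [Fact p.Prime] in
theorem movable_self {Ph : Subgroup Ω} : Movable F Ph Ph :=
  ⟨fun x => x, mor_id inf_le_left, fun _ hx => hx, im_id Ph⟩

theorem lt_normalizer_inf (hS : IsPGroup p S) {R N : Subgroup Ω} (hN : N ≤ S) (h : R < N) :
    R < N ⊓ normalizerIn S R := by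
  obtain ⟨g, hg, hgR, hgn⟩ := lt_normalizerIn hS hN h
  refine lt_of_le_of_ne (le_inf h.le (le_normalizerIn (h.le.trans hN))) fun e => hgR ?_
  rw [e]
  exact ⟨hg, hN hg, hgn⟩

theorem card_lt_of_lt {R N : Subgroup Ω} (hN : N ≤ S) (h : R < N) : Nat.card R < Nat.card N := by
  by_contra hc
  exact h.ne (eq_of_le_of_card_ge hN h.le (not_lt.mp hc))

/-- Data of a well placed conjugate of a pair. -/
theorem exists_chart (hS : IsPGroup p S) {Ph : Subgroup Ω} (habove : SatAbove F p (Nat.card Ph))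
    {P R : Subgroup Ω} (hP : Nat.card P = Nat.card Ph) (hRS : R ≤ S) (hPR : P < R) :
    ∃ (T B : Subgroup Ω) (hBT : B ≤ T) (f : Ω → Ω), F.IsReceptive T ∧
      SylIn p (autInducedBy S T ⊓ stabAut F T B hBT) (stabAut F T B hBT) ∧
      Mor F R f ∧ im R f = T ∧ im P f = B := by
  obtain ⟨T, hc, hTa, hTr⟩ := habove R hRS (hP ▸ card_lt_of_lt hRS hPR)
  obtain ⟨f₀, hf₀, hT⟩ := isConj_iff.mp hc
  have hBT : im P f₀ ≤ T := hT ▸ im_mono hPR.le
  obtain ⟨a, ha, hsyl⟩ := exists_sylow_position hS hTa hBT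
  have hle : im (im P f₀) (afun a) ≤ T :=
    im_le_iff.mpr fun x hx => afun_mem a (hBT hx)
  refine ⟨T, _, hle, afun a ∘ f₀, hTr, hsyl hle, hf₀.comp ((mem_autGroup hTa.1).mp ha)
    fun x hx => hT ▸ apply_mem_im hx, ?_, ((hf₀.restrict_to hPR.le).im_comp _).symm⟩
  rw [← hf₀.im_comp, hT, im_afun]

theorem move_step (hS : IsPGroup p S) {Ph : Subgroup Ω} (hPh : F.IsFullyNormalized Ph)
    (habove : SatAbove F p (Nat.card Ph)) : ∀ (d : ℕ) (P₀ R : Subgroup Ω) (θ : Ω → Ω),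
      Mor F R θ → Nat.card S ≤ Nat.card R + d → P₀ < R → R ≤ normalizerIn S P₀ →
      Movable F Ph (im P₀ θ) → Movable F Ph P₀ := by
  intro d
  induction d with
  | zero =>
    intro P₀ R θ hθ hd hlt hR hmv
    obtain ⟨Ψ, hΨ, hΨm, hΨi⟩ := hmv
    have hθm : ∀ x ∈ R, θ x ∈ normalizerIn S (im P₀ θ) := fun x hx =>
      mem_normalizerIn_im hθ hlt.le hx (hR hx).2
    have hRS : R = normalizerIn S P₀ := le_antisymm hR fun x hx => by
      rw [eq_of_le_of_card_ge le_rfl hθ.le (by omega)]; exact hx.1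
    refine ⟨Ψ ∘ θ, hRS ▸ hθ.comp hΨ hθm, fun x hx => hΨm _ (hθm x (hRS ▸ hx)), ?_⟩
    rw [← (hθ.restrict_to hlt.le).im_comp, hΨi]
  | succ d ih =>
    intro P₀ R θ₀ hθ₀ hd hlt hR hmv
    obtain ⟨Ψ, hΨ, hΨm, hΨi⟩ := hmv
    have hθm : ∀ x ∈ R, θ₀ x ∈ normalizerIn S (im P₀ θ₀) := fun x hx =>
      mem_normalizerIn_im hθ₀ hlt.le hx (hR hx).2
    have hθ : Mor F R (Ψ ∘ θ₀) := hθ₀.comp hΨ hθm
    set θ := Ψ ∘ θ₀
    have hθP : im P₀ θ = Ph := by rw [← (hθ₀.restrict_to hlt.le).im_comp, hΨi]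
    have hθR : ∀ x ∈ R, θ x ∈ normalizerIn S Ph := fun x hx => hΨm _ (hθm x hx)
    rcases hR.eq_or_lt with e | e
    · exact ⟨θ, e ▸ hθ, fun x hx => hθR x (e ▸ hx), hθP⟩
    have hconj : F.IsConj P₀ Ph := isConj_iff.mpr ⟨θ, hθ.restrict_to hlt.le, hθP⟩
    have hN0 := hPh.2 P₀ (isConj_symm hconj)
    obtain ⟨θi, hθi, hinv, hinv', hθimem⟩ := hθ.exists_inv
    set R₁ := im R θ
    have hR₁ : R₁ ≤ normalizerIn S Ph := im_le_iff.mpr hθR
    have hPR₁ : Ph ≤ R₁ := hθP ▸ im_mono hlt.le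
    have hR₁c : Nat.card R₁ = Nat.card R := hθ.card_im
    have hR₁lt : R₁ < normalizerIn S Ph := lt_of_le_of_ne hR₁ fun e' => by
      have := card_lt_of_lt (N := normalizerIn S P₀) inf_le_left e
      rw [e'] at hR₁c
      omega
    obtain ⟨T, B, hBT, f, hTr, hpos, hf, hfT, hfB⟩ :=
      exists_chart hS habove (isConj_card hconj) hθ.le hlt
    obtain ⟨α, hα, hαm, hαT, hαB⟩ := lift_step hS hTr hBT hpos hlt.le hR hf hfT hfB
    have hg : Mor F R₁ (f ∘ θi) := hθi.comp hf hθimem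
    have hiR : im R₁ θi = R := by
      rw [hθ.im_comp]; exact (im_congr fun x hx => hinv x hx).trans (im_id R)
    have hiP : im Ph θi = P₀ := by
      rw [← hθP, (hθ.restrict_to hlt.le).im_comp]
      exact (im_congr fun x hx => hinv x (hlt.le hx)).trans (im_id P₀)
    obtain ⟨β, hβ, hβm, hβT, hβB⟩ := lift_step hS hTr hBT hpos hPR₁ hR₁ hg
      (by rw [← hθi.im_comp, hiR, hfT])
      (by rw [← (hθi.restrict_to hPR₁).im_comp, hiP, hfB])
    obtain ⟨βi, hβi, hβinv, -, -⟩ := hβ.exists_inv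
    have hle₁ : R₁ ≤ normalizerIn S Ph ⊓ normalizerIn S R₁ := le_inf hR₁ (le_normalizerIn hθ.im_le)
    set R₂ := im (normalizerIn S Ph ⊓ normalizerIn S R₁) β
    have hBc : Nat.card B = Nat.card P₀ := by rw [← hfB, (hf.restrict_to hlt.le).card_im]
    have hR₂c : Nat.card R < Nat.card R₂ := by
      rw [hβ.card_im, ← hR₁c]
      exact card_lt_of_lt (inf_le_left.trans inf_le_left) (lt_normalizer_inf hS inf_le_left hR₁lt)
    have hBR₂ : B < R₂ := lt_of_le_of_ne (hβB ▸ im_mono (hPR₁.trans hle₁)) fun e' => by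
      have := card_lt_of_lt hθ.le hlt
      rw [← e', hBc] at hR₂c
      omega
    have hB : Movable F Ph B := by
      refine ih B R₂ βi hβi (by omega) hBR₂ (im_le_iff.mpr hβm) ?_
      have : im B βi = Ph := by
        rw [← hβB, (hβ.restrict_to (hPR₁.trans hle₁)).im_comp]
        exact (im_congr fun x hx => hβinv x (hle₁ (hPR₁ hx))).trans (im_id Ph)
      rw [this]
      exact movable_self
    have hcard := card_lt_of_lt (N := normalizerIn S P₀ ⊓ normalizerIn S R)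
      (inf_le_left.trans inf_le_left) (lt_normalizer_inf hS inf_le_left e)
    exact ih P₀ _ α hα (by omega) (hlt.trans (lt_normalizer_inf hS inf_le_left e)) inf_le_left
      (hαB.symm ▸ hB)

theorem movable_of_gen (hS : IsPGroup p S) {Ph : Subgroup Ω} (hPh : F.IsFullyNormalized Ph)
    (habove : SatAbove F p (Nat.card Ph)) {P₀ : Subgroup Ω} {f : Ω → Ω} (h : Gen F P₀ f)
    (hmv : Movable F Ph (im P₀ f)) : Movable F Ph P₀ := by
  induction h with
  | @step P R f hf hlt =>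
    obtain ⟨g, hg, hgP, hgn⟩ := lt_normalizerIn hS hf.le hlt
    refine move_step hS hPh habove (Nat.card S) P (R ⊓ normalizerIn S P) f
      (hf.restrict_to inf_le_left) (Nat.le_add_left _ _)
      (lt_of_le_of_ne (le_inf hlt.le (le_normalizerIn (hlt.le.trans hf.le))) fun e => hgP ?_)
      inf_le_right hmv
    rw [e]
    exact ⟨hg, hf.le hg, hgn⟩
  | @congr P f g _ he ih => exact ih (im_congr he ▸ hmv)
  | @comp P f g h₁ _ ih₁ ih₂ => exact ih₁ (ih₂ (by rwa [h₁.mor.im_comp]))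

theorem movable_of_conj (hS : IsPGroup p S) {Ph : Subgroup Ω} (hPh : F.IsFullyNormalized Ph)
    (habove : SatAbove F p (Nat.card Ph))
    (hgen : ∀ (Q : Subgroup Ω) (f : Ω → Ω), F.IsConj Ph Q → Mor F Q f → Gen F Q f)
    {P₀ : Subgroup Ω} (h : F.IsConj Ph P₀) : Movable F Ph P₀ := by
  obtain ⟨f, hf, him⟩ := isConj_iff.mp (isConj_symm h)
  exact movable_of_gen hS hPh habove (hgen P₀ f h hf) (him.symm ▸ movable_self)

/-! ### The subgroup `K` -/

section Kernel

variable (S) {Ph : Subgroup Ω} (O : Subgroup (MulAut Ph))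

/-- The elements of `N_S(Ph)` inducing automorphisms in `O`. -/
def kSub : Subgroup Ω := (O.comap (nHom S Ph)).map (S ⊓ Subgroup.normalizer (Ph : Set Ω)).subtype

variable {S O}

omit [Finite S] [Fact p.Prime] in
theorem mem_kSub {g : Ω} :
    g ∈ kSub S O ↔ g ∈ normalizerIn S Ph ∧ ∃ o ∈ O, ∀ x ∈ Ph, cj g x = afun o x := by
  constructor
  · rintro ⟨g, hg, rfl⟩
    exact ⟨g.2, _, hg, fun x hx => (afun_nHom g hx).symm⟩
  · rintro ⟨hg, o, ho, he⟩
    refine ⟨⟨g, hg⟩, ?_, rfl⟩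
    show nHom S Ph ⟨g, hg⟩ ∈ O
    rwa [show nHom S Ph ⟨g, hg⟩ = o from afun_ext fun x hx => by rw [afun_nHom _ hx, he x hx]]

omit [Finite S] [Fact p.Prime] in
theorem kSub_le : kSub S O ≤ normalizerIn S Ph := fun _ hg => (mem_kSub.mp hg).1

omit [Finite S] [Fact p.Prime] in
theorem le_kSub (hPhS : Ph ≤ S) (hinn : Inn Ph ≤ O) : Ph ≤ kSub S O := fun x hx =>
  mem_kSub.mpr ⟨le_normalizerIn hPhS hx, MulAut.conj (⟨x, hx⟩ : Ph), hinn ⟨_, rfl⟩,
    fun y hy => by rw [afun_apply _ hy]; rfl⟩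

variable (hnorm : ∀ a ∈ F.autGroup Ph, ∀ o ∈ O, a * o * a⁻¹ ∈ O)
include hnorm

omit [Fact p.Prime] in
theorem map_kSub {R : Subgroup Ω} {f : Ω → Ω} (hf : Mor F R f) (hPR : Ph ≤ R) {γ : MulAut Ph}
    (hγ : γ ∈ F.autGroup Ph) (hag : ∀ x ∈ Ph, f x = afun γ x) {g : Ω} (hgR : g ∈ R)
    (hg : g ∈ kSub S O) : f g ∈ kSub S O := by
  obtain ⟨hgn, o, ho, he⟩ := mem_kSub.mp hg
  have key : ∀ y ∈ Ph, cj (f g) y = afun (γ * o * γ⁻¹) y := by
    intro y hy
    have hx := afun_mem γ⁻¹ hy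
    conv_lhs => rw [← afun_apply_inv γ hy, ← hag _ hx, ← hf.map_cj hgR (hPR hx), he _ hx,
      hag _ (afun_mem o hx)]
    rw [afun_mul _ _ hy, afun_mul _ _ hx]
  refine mem_kSub.mpr ⟨⟨hf.apply_mem hgR, mem_normalizer_of_cj_le (hPR.trans hf.le) fun y hy => ?_⟩,
    _, hnorm γ hγ o ho, key⟩
  rw [key y hy]
  exact afun_mem _ hy

omit [Fact p.Prime] in
theorem cj_kSub (hPhS : Ph ≤ S) {g k : Ω} (hg : g ∈ normalizerIn S Ph) (hk : k ∈ kSub S O) :
    cj g k ∈ kSub S O := by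
  refine map_kSub hnorm (mor_cj (inf_le_left : normalizerIn S Ph ≤ S) hg.1)
    (le_normalizerIn hPhS) (γ := nHom S Ph ⟨g, hg⟩) ?_
    (fun x hx => (afun_nHom (⟨g, hg⟩ : ↥(S ⊓ Subgroup.normalizer (Ph : Set Ω))) hx).symm)
    (kSub_le hk) hk
  exact autInducedBy_le hPhS (autInducedBy_eq_range S Ph ▸ ⟨_, rfl⟩)

variable (hinn : Inn Ph ≤ O) (hPhS : Ph ≤ S)
include hinn hPhS

/-- The automorphisms extending to `K`. -/
def extK : Subgroup (MulAut Ph) where
  carrier := {γ | γ ∈ F.autGroup Ph ∧ ∃ f, Mor F (kSub S O) f ∧ ∀ x ∈ Ph, f x = afun γ x}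
  one_mem' := ⟨Subgroup.one_mem _, _, mor_id (kSub_le.trans inf_le_left),
    fun x hx => (afun_one hx).symm⟩
  mul_mem' := fun {a b} ⟨ha, f, hf, hfa⟩ ⟨hb, g, hg, hgb⟩ => ⟨Subgroup.mul_mem _ ha hb, f ∘ g,
    hg.comp hf (fun _ hx => map_kSub hnorm hg (le_kSub hPhS hinn) hb hgb hx hx), fun x hx => by
      show f (g x) = _
      rw [hgb x hx, hfa _ (afun_mem b hx), afun_mul _ _ hx]⟩
  inv_mem' := fun {a} ⟨ha, f, hf, hfa⟩ => by
    obtain ⟨g, hg, hgf, -, -⟩ := hf.exists_inv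
    rw [hf.im_self fun x hx => map_kSub hnorm hf (le_kSub hPhS hinn) ha hfa hx hx] at hg
    refine ⟨Subgroup.inv_mem _ ha, g, hg, fun x hx => ?_⟩
    have hx' := afun_mem a⁻¹ hx
    conv_lhs => rw [← afun_apply_inv a hx, ← hfa _ hx', hgf _ (le_kSub hPhS hinn hx')]

end Kernel

/-! ### The main argument -/

omit [Fact p.Prime] in
theorem exists_restrict {R P : Subgroup Ω} {f : Ω → Ω} (hf : Mor F R f) (hPR : P ≤ R)
    (him : im P f = P) : ∃ γ ∈ F.autGroup P, ∀ x ∈ P, f x = afun γ x := by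
  obtain ⟨γ, hγ, he⟩ := (hf.restrict_to hPR).exists_aut him
  exact ⟨γ, hγ, fun x hx => (he x hx).symm⟩

omit [Fact p.Prime] [Finite S] in
theorem im_of_agree {P : Subgroup Ω} {f : Ω → Ω} {γ : MulAut P}
    (h : ∀ x ∈ P, f x = afun γ x) : im P f = P :=
  (im_congr h).trans (im_afun γ)

omit [Fact p.Prime] in
theorem res_mem {T B : Subgroup Ω} (hBT : B ≤ T) (hTS : T ≤ S) (δ : stabAut F T B hBT) :
    res hBT δ ∈ F.autGroup B :=
  mem_autGroup_of_mor ((((mem_autGroup hTS).mp δ.2.1).restrict_to hBT).congr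
    fun x hx => (afun_res hBT δ hx).symm)

/-- The image of a Sylow subgroup under a surjection. -/
theorem sylow_map_surjective {X A : Type*} [Group X] [Group A] [Finite X] (U : Sylow p X)
    (r : X →* A) (hr : Function.Surjective r) :
    ∃ V : Sylow p A, (V : Subgroup A) = (U : Subgroup X).map r := by
  haveI : Finite A := Finite.of_surjective r hr
  exact ⟨U.mapSurjective hr, rfl⟩

variable {Ph : Subgroup Ω} {O : Subgroup (MulAut Ph)}

/-- Transport of the Sylow position along a map of normalizers. -/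
theorem sylow_transport (hS : IsPGroup p S) {T B : Subgroup Ω} (hBT : B ≤ T)
    (hTS : T ≤ S) (hTB : T ≤ normalizerIn S B)
    (hpos : SylIn p (autInducedBy S T ⊓ stabAut F T B hBT) (stabAut F T B hBT))
    {Ψ : Ω → Ω} (hΨ : Mor F (normalizerIn S B) Ψ) {T' : Subgroup Ω} (hT' : im T Ψ = T')
    (hΨB : im B Ψ = Ph) (hle : Ph ≤ T') :
    SylIn p (autInducedBy S T' ⊓ stabAut F T' Ph hle) (stabAut F T' Ph hle) := by
  have hT'S : T' ≤ S := hT' ▸ (hΨ.restrict_to hTB).im_le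
  have hr := hΨ.restrict_to hTB
  haveI := finite_of_le hTS
  haveI := finite_of_le hT'S
  set tr := hr.transport hT' with htr
  have hΨm : ∀ x ∈ B, Ψ x ∈ Ph := fun x hx => hΨB ▸ apply_mem_im hx
  have hmap : (stabAut F T B hBT).map tr.toMonoidHom = stabAut F T' Ph hle := by
    refine le_antisymm ?_ fun δ hδ => ?_
    · rintro _ ⟨δ, hδ, rfl⟩
      refine ⟨hr.transport_mem hT' hδ.1,
        (((mem_autGroup hT'S).mp (hr.transport_mem hT' hδ.1)).restrict_to hle).im_self fun y hy => ?_⟩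
      obtain ⟨x, hx, rfl⟩ := (hr.restrict_to hBT).mem_im.mp (hΨB.symm ▸ hy)
      show afun (tr δ) (Ψ x) ∈ Ph
      rw [htr, hr.afun_transport hT' δ (hBT hx)]
      exact hΨm _ (stab_afun_mem hBT hδ hx)
    · obtain ⟨δ₀, hδ₀, rfl⟩ := (hr.map_transport hT').ge hδ.1
      refine ⟨δ₀, ⟨hδ₀, (((mem_autGroup hTS).mp hδ₀).restrict_to hBT).im_self fun x hx => ?_⟩, rfl⟩
      have h1 : Ψ (afun δ₀ x) ∈ Ph := by
        rw [← hr.afun_transport hT' δ₀ (hBT hx)]
        exact stab_afun_mem hle hδ (hΨm x hx)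
      obtain ⟨x', hx', e⟩ := (hr.restrict_to hBT).mem_im.mp (hΨB.symm ▸ h1)
      rwa [← hr.injOn (hBT hx') (afun_mem δ₀ (hBT hx)) e]
  have hc : Nat.card (stabAut F T' Ph hle) = Nat.card (stabAut F T B hBT) := by
    rw [← hmap]
    exact (Nat.card_congr (Subgroup.equivMapOfInjective _ _ tr.injective).toEquiv).symm
  have hU : (autInducedBy S T ⊓ stabAut F T B hBT).map tr.toMonoidHom ≤
      autInducedBy S T' ⊓ stabAut F T' Ph hle := by
    rintro _ ⟨δ, hδ, rfl⟩
    refine ⟨?_, hmap ▸ ⟨δ, hδ.2, rfl⟩⟩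
    obtain ⟨g, hg, hgn, he⟩ := mem_autInducedBy.mp hδ.1
    have hgB : g ∈ normalizerIn S B := ⟨hg, mem_normalizer_of_cj_le (hBT.trans hTS) fun x hx => by
      rw [← he x (hBT hx)]; exact stab_afun_mem hBT hδ.2 hx⟩
    refine mem_autInducedBy.mpr ⟨Ψ g, hΨ.apply_mem hgB,
      mem_normalizer_of_cj_le hT'S fun y hy => ?_, fun y hy => ?_⟩
    · obtain ⟨x, hx, rfl⟩ := hr.mem_im.mp (hT'.symm ▸ hy)
      rw [← hΨ.map_cj hgB (hTB hx)]
      exact hT' ▸ apply_mem_im (cj_mem_of_normalizer hgn hx)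
    · obtain ⟨x, hx, rfl⟩ := hr.mem_im.mp (hT'.symm ▸ hy)
      show afun (tr δ) (Ψ x) = _
      rw [htr, hr.afun_transport hT' δ hx, he x hx, hΨ.map_cj hgB (hTB hx)]
  refine (sylIn_iff_card inf_le_right).mpr (le_antisymm ?_ ?_)
  · obtain ⟨k, hk⟩ := IsPGroup.iff_card.mp ((isPGroup_autInducedBy hS T').to_le
      (inf_le_left : autInducedBy S T' ⊓ stabAut F T' Ph hle ≤ _))
    rw [hk]
    refine Nat.pow_le_pow_right (Fact.out (p := p.Prime)).pos ?_
    refine ((Fact.out (p := p.Prime)).pow_dvd_iff_le_factorization Nat.card_pos.ne').mp ?_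
    rw [← hk]
    exact Subgroup.card_dvd_of_le inf_le_right
  · rw [hc, ← (sylIn_iff_card inf_le_right).mp hpos,
      Nat.card_congr (Subgroup.equivMapOfInjective _ tr.toMonoidHom tr.injective).toEquiv]
    exact Subgroup.card_le_of_le hU

variable (hS : IsPGroup p S) (hPh : F.IsFullyNormalized Ph)
  (habove : SatAbove F p (Nat.card Ph))
  (hgen : ∀ (Q : Subgroup Ω) (f : Ω → Ω), F.IsConj Ph Q → Mor F Q f → Gen F Q f)
  (hnorm : ∀ a ∈ F.autGroup Ph, ∀ o ∈ O, a * o * a⁻¹ ∈ O) (hinn : Inn Ph ≤ O)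
  (hO : IsPGroup p O)
include hS hPh habove hgen hnorm hinn hO

omit hgen in
/-- A stabilizing automorphism of a well placed `T'` restricts into the maps extending to `K`. -/
theorem res_mem_extK {T B : Subgroup Ω} (hTr : F.IsReceptive T) (hBT : B ≤ T)
    (hTB : T ≤ normalizerIn S B)
    (hpos : SylIn p (autInducedBy S T ⊓ stabAut F T B hBT) (stabAut F T B hBT))
    {Ψ : Ω → Ω} (hΨ : Mor F (normalizerIn S B) Ψ)
    (hΨm : ∀ x ∈ normalizerIn S B, Ψ x ∈ normalizerIn S Ph) (hΨB : im B Ψ = Ph)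
    {T' : Subgroup Ω} (hT' : im T Ψ = T') (hle : Ph ≤ T') (hlt : Ph < T')
    (ih : ∀ (R : Subgroup Ω) (f : Ω → Ω) (γ : MulAut Ph), γ ∈ F.autGroup Ph → Mor F R f →
      Nat.card T' < Nat.card R → Ph < R → R ≤ normalizerIn S Ph →
      (∀ x ∈ Ph, f x = afun γ x) → γ ∈ extK hnorm hinn hPh.1)
    (δ : stabAut F T' Ph hle) : res hle δ ∈ extK hnorm hinn hPh.1 := by
  have hTS := hTr.1
  have hr := hΨ.restrict_to hTB
  have hT'S : T' ≤ S := hT' ▸ hr.im_le
  have hT'N : T' ≤ normalizerIn S Ph := hT' ▸ im_le_iff.mpr fun x hx => hΨm x (hTB hx)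
  haveI := finite_of_le hT'S
  by_cases hKT : kSub S O ≤ T'
  · exact ⟨res_mem hle hT'S δ, _, ((mem_autGroup hT'S).mp δ.2.1).restrict_to hKT,
      fun x hx => (afun_res hle δ hx).symm⟩
  let X := stabAut F T' Ph hle
  set U : Subgroup X := (autInducedBy S T' ⊓ X).subgroupOf X with hU
  obtain ⟨U', hU'⟩ := sylow_transport hS hBT hTS hTB hpos hΨ hT' hΨB hle
  set Y : Subgroup X := O.comap (res hle) with hY
  haveI hYn : Y.Normal := ⟨fun y hy g => by
    show res hle (g * y * g⁻¹) ∈ O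
    rw [map_mul, map_mul, map_inv]
    exact hnorm _ (res_mem hle hT'S g) _ hy⟩
  -- the Sylow subgroup of `Y`
  have hidx : ¬ p ∣ (U.subgroupOf Y).index := by
    intro hdvd
    refine U'.not_dvd_index (hdvd.trans ?_)
    rw [hU', ← hU]
    show U.relIndex Y ∣ U.index
    have h1 := Subgroup.relIndex_mul_index (inf_le_right : U ⊓ Y ≤ Y)
    have h2 := Subgroup.relIndex_mul_index (inf_le_left : U ⊓ Y ≤ U)
    rw [Subgroup.inf_relIndex_right] at h1
    rw [Subgroup.inf_relIndex_left, ← h1] at h2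
    obtain ⟨e, he⟩ := (Subgroup.relIndex_dvd_index_of_normal Y U)
    rw [he, mul_left_comm] at h2
    exact ⟨e, Nat.eq_of_mul_eq_mul_left
      (Nat.pos_of_ne_zero Subgroup.index_ne_zero_of_finite) h2⟩
  have hUp : IsPGroup p U := by rw [hU, ← hU']; exact U'.isPGroup'
  set V : Sylow p Y := (hUp.comap_subtype (K := Y)).toSylow hidx
  have hV : ((V : Subgroup Y).map Y.subtype) = U ⊓ Y := by
    show (U.subgroupOf Y).map Y.subtype = _
    rw [Subgroup.subgroupOf_map_subtype]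
  have hmem : δ ∈ Subgroup.normalizer ((U ⊓ Y : Subgroup X) : Set X) ⊔ Y := by
    rw [← hV, Sylow.normalizer_sup_eq_top V]
    trivial
  obtain ⟨ν, hν, y, hy, hδ⟩ :=
    (Set.ext_iff.mp (Subgroup.mul_normal _ Y) δ).mp (hmem : δ ∈ _)
  rw [show δ = ν * y from hδ.symm, map_mul (res hle) ν y]
  refine Subgroup.mul_mem _ ?_ ?_
  swap
  · -- the part in `Y` is a conjugation
    let r : Y →* (Y.map (res hle)) := (res hle).subgroupMap Y
    obtain ⟨W, hW⟩ := sylow_map_surjective V r ((res hle).subgroupMap_surjective Y)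
    have hYp : IsPGroup p (Y.map (res hle)) := hO.to_le (Subgroup.map_comap_le _ _)
    have hWtop : (W : Subgroup (Y.map (res hle))) = ⊤ :=
      (W.is_maximal' (hYp.of_equiv (Subgroup.topEquiv).symm) le_top).symm
    obtain ⟨⟨u, huY⟩, huV, hue⟩ := (hW ▸ hWtop ▸ Subgroup.mem_top
      (⟨res hle y, y, hy, rfl⟩ : Y.map (res hle)) :
        (⟨res hle y, y, hy, rfl⟩ : Y.map (res hle)) ∈ (V : Subgroup Y).map r)
    have hue' : res hle u = res hle y := congrArg Subtype.val hue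
    have huA : (u : MulAut T') ∈ autInducedBy S T' := (huV : u ∈ U).1
    obtain ⟨g, hg, hgn, he⟩ := mem_autInducedBy.mp huA
    have hag : ∀ x ∈ Ph, cj g x = afun (res hle y) x := fun x hx => by
      rw [← hue', afun_res hle u hx, he x (hle hx)]
    have hgK : g ∈ kSub S O := mem_kSub.mpr ⟨⟨hg, mem_normalizer_of_cj_le hPh.1 fun x hx => by
      rw [hag x hx]; exact afun_mem _ hx⟩, _, hy, hag⟩
    exact ⟨res_mem hle hT'S y, cj g, mor_cj (kSub_le.trans inf_le_left) hg, hag⟩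
  · -- the part normalizing `U ⊓ Y` extends to `T' ⊔ (K ∩ N(T'))`
    obtain ⟨Ψi, hΨi, hinv, hinv', hΨimem⟩ := hr.exists_inv
    rw [hT'] at hΨi
    have hiT : im T' Ψi = T := by
      rw [← hT', hr.im_comp]; exact (im_congr fun x hx => hinv x hx).trans (im_id T)
    have hiP : im Ph Ψi = B := by
      rw [← hΨB, (hr.restrict_to hBT).im_comp]
      exact (im_congr fun x hx => hinv x (hBT hx)).trans (im_id B)
    obtain ⟨α, hα, hαm, hαT, hαB⟩ := lift_step hS hTr hBT hpos hle hT'N hΨi hiT hiP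
    set W := kSub S O ⊓ normalizerIn S T' with hW
    set N₃ := normalizerIn S Ph ⊓ normalizerIn S T' with hN₃
    have hT'N₃ : T' ≤ N₃ := le_inf hT'N (le_normalizerIn hT'S)
    have hWN₃ : W ≤ N₃ := inf_le_inf_right _ kSub_le
    have hWT : ¬ W ≤ T' := by
      have hnK : T' ≤ Subgroup.normalizer (kSub S O : Set Ω) := fun t ht =>
        mem_normalizer_of_cj_le (kSub_le.trans inf_le_left) fun k hk =>
          cj_kSub hnorm hPh.1 (hT'N ht) hk
      have hlt' : T' < T' ⊔ kSub S O := lt_of_le_of_ne le_sup_left fun e => hKT (e ▸ le_sup_right)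
      obtain ⟨g, hg, hgT, hgn⟩ := lt_normalizerIn hS
        (sup_le hT'S (kSub_le.trans inf_le_left)) hlt'
      obtain ⟨t, ht, k, hk, rfl⟩ := (Set.ext_iff.mp
        (Subgroup.coe_mul_of_left_le_normalizer_right T' (kSub S O) hnK) g).mp hg
      intro hle'
      refine hgT (T'.mul_mem ht (hle' ⟨hk, kSub_le.trans inf_le_left hk, ?_⟩))
      have := Subgroup.mul_mem _ (Subgroup.inv_mem _ (Subgroup.le_normalizer ht)) hgn
      rwa [inv_mul_cancel_left] at this
    have hνT : ∀ x ∈ T', afun (ν : MulAut T') x ∈ T' := fun x hx => afun_mem _ hx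
    have hf₁ : Mor F T' (α ∘ afun (ν : MulAut T')) :=
      ((mem_autGroup hT'S).mp ν.2.1).comp hα fun x hx => hT'N₃ (hνT x hx)
    have him₁ : im T' (α ∘ afun (ν : MulAut T')) = T := by
      rw [← (((mem_autGroup hT'S).mp ν.2.1)).im_comp, im_afun, hαT]
    obtain ⟨f', hf', hag⟩ := (receptive_iff.mp hTr).2 T' _ W hf₁ him₁
      (inf_le_right.trans inf_le_left) (fun g hg => hg.2.2) (by
        intro g hg
        obtain ⟨o, ho, hoe⟩ := (mem_kSub.mp hg.1).2
        set u : X := ⟨nHom S T' ⟨g, hg.2⟩, nHom_mem_stabAut hle hT'S _ (kSub_le hg.1).2⟩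
        have hu : u ∈ U ⊓ Y := by
          refine ⟨⟨autInducedBy_eq_range S T' ▸ ⟨_, rfl⟩, u.2⟩, ?_⟩
          show res hle u ∈ O
          rwa [show res hle u = o from afun_ext fun x hx => by
            rw [afun_res hle u hx, ← hoe x hx]; exact afun_nHom _ (hle hx)]
        have hu' := (Subgroup.mem_normalizer_iff.mp hν u).mp hu
        obtain ⟨h, hh, hhn, he⟩ := mem_autInducedBy.mp (Subgroup.mem_subgroupOf.mp hu'.1).1
        have hhN : h ∈ N₃ := by
          refine ⟨⟨hh, mem_normalizer_of_cj_le hPh.1 fun x hx => ?_⟩, hh, hhn⟩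
          rw [← he x (hle hx)]
          exact stab_afun_mem hle (ν * u * ν⁻¹ : X).2 hx
        refine ⟨α h, hα.apply_mem hhN, fun x hx => ?_⟩
        show α (afun (ν : MulAut T') (cj g x)) = cj (α h) (α (afun (ν : MulAut T') x))
        rw [← hα.map_cj hhN (hT'N₃ (hνT x hx)), ← he _ (hνT x hx)]
        simp only [Subgroup.coe_mul, Subgroup.coe_inv]
        rw [afun_mul _ _ (hνT x hx), afun_inv_apply _ hx, afun_mul _ _ hx]
        exact congrArg (fun z => α (afun (ν : MulAut T') z))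
          (afun_nHom (⟨g, hg.2⟩ : ↥(S ⊓ Subgroup.normalizer (T' : Set Ω))) hx).symm)
    set R' := T' ⊔ W
    have hR'N : R' ≤ normalizerIn S Ph := sup_le hT'N (inf_le_left.trans kSub_le)
    have hT'R' : T' < R' := lt_of_le_of_ne le_sup_left fun e => hWT (e ▸ le_sup_right)
    have hPR' : Ph ≤ R' := hle.trans le_sup_left
    have hf'B : im Ph f' = B := by
      rw [im_congr fun x hx => hag x (hle hx),
        ← (((mem_autGroup hT'S).mp ν.2.1).restrict_to hle).im_comp, ν.2.2, hαB]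
    have hf'm : ∀ x ∈ R', f' x ∈ normalizerIn S B := fun x hx =>
      hf'B ▸ mem_normalizerIn_im hf' hPR' hx (hR'N hx).2
    have hΨα : Mor F N₃ (Ψ ∘ α) := hα.comp hΨ hαm
    obtain ⟨γ₃, hγ₃A, hγ₃⟩ := exists_restrict hΨα (hle.trans hT'N₃)
      (by rw [← (hα.restrict_to (hle.trans hT'N₃)).im_comp, hαB, hΨB])
    have h3 : γ₃ ∈ extK hnorm hinn hPh.1 := by
      refine ih N₃ _ γ₃ hγ₃A hΨα (card_lt_of_lt (inf_le_left.trans inf_le_left) ?_)
        (hlt.trans_le hT'N₃) inf_le_left hγ₃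
      exact hT'R'.trans_le (sup_le hT'N₃ hWN₃)
    have h4 : γ₃ * res hle ν ∈ extK hnorm hinn hPh.1 := by
      refine ih R' (Ψ ∘ f') _ (Subgroup.mul_mem _ hγ₃A (res_mem hle hT'S ν)) (hf'.comp hΨ hf'm)
        (card_lt_of_lt (hR'N.trans inf_le_left) hT'R') (hlt.trans hT'R') hR'N fun x hx => ?_
      show Ψ (f' x) = _
      rw [hag x (hle hx), afun_mul _ _ hx, ← hγ₃ _ (afun_mem _ hx), afun_res hle ν hx]
      rfl
    have := Subgroup.mul_mem _ (Subgroup.inv_mem _ h3) h4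
    rwa [inv_mul_cancel_left] at this

/-- An automorphism extending into the normalizer extends to `K`. -/
theorem extend_mem_extK : ∀ (d : ℕ) (R : Subgroup Ω) (f : Ω → Ω) (γ : MulAut Ph),
    γ ∈ F.autGroup Ph → Mor F R f → Nat.card S ≤ Nat.card R + d → Ph < R →
    R ≤ normalizerIn S Ph → (∀ x ∈ Ph, f x = afun γ x) → γ ∈ extK hnorm hinn hPh.1 := by
  intro d
  induction d with
  | zero =>
    intro R f γ hγ hf hd _ _ hag
    exact ⟨hγ, f, hf.restrict_to (by
      rw [eq_of_le_of_card_ge le_rfl hf.le (by omega)]; exact kSub_le.trans inf_le_left), hag⟩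
  | succ d ih =>
    intro R f γ hγ hf hd hlt hR hag
    by_cases hKR : kSub S O ≤ R
    · exact ⟨hγ, f, hf.restrict_to hKR, hag⟩
    have hRlt : R < normalizerIn S Ph := lt_of_le_of_ne hR fun e => hKR (e ▸ kSub_le)
    have hfP : im Ph f = Ph := im_of_agree hag
    set R₁ := im R f
    have hR₁ : R₁ ≤ normalizerIn S Ph :=
      im_le_iff.mpr fun x hx => hfP ▸ mem_normalizerIn_im hf hlt.le hx (hR hx).2
    have hR₁c : Nat.card R₁ = Nat.card R := hf.card_im
    have hPR₁ : Ph ≤ R₁ := hfP ▸ im_mono hlt.le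
    have hR₁lt : R₁ < normalizerIn S Ph := lt_of_le_of_ne hR₁ fun e => by
      have := card_lt_of_lt (N := normalizerIn S Ph) inf_le_left hRlt
      rw [e] at hR₁c
      omega
    obtain ⟨T, B, hBT, f₁, hTr, hpos, hf₁, hfT, hfB⟩ :=
      exists_chart (F := F) hS habove rfl hf.le hlt
    obtain ⟨α, hα, hαm, hαT, hαB⟩ := lift_step hS hTr hBT hpos hlt.le hR hf₁ hfT hfB
    obtain ⟨fi, hfi, hinv, -, hfimem⟩ := hf.exists_inv
    have hiR : im R₁ fi = R := by
      rw [hf.im_comp]; exact (im_congr fun x hx => hinv x hx).trans (im_id R)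
    have hiP : im Ph fi = Ph := by
      conv_lhs => rw [← hfP, (hf.restrict_to hlt.le).im_comp]
      exact (im_congr fun x hx => hinv x (hlt.le hx)).trans (im_id Ph)
    obtain ⟨β, hβ, hβm, hβT, hβB⟩ := lift_step hS hTr hBT hpos hPR₁ hR₁ (hfi.comp hf₁ hfimem)
      (by rw [← hfi.im_comp, hiR, hfT])
      (by rw [← (hfi.restrict_to hPR₁).im_comp, hiP, hfB])
    obtain ⟨Ψ, hΨ, hΨm, hΨB⟩ := movable_of_conj hS hPh habove hgen
      (isConj_iff.mpr ⟨f₁, hf₁.restrict_to hlt.le, hfB⟩ : F.IsConj Ph B)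
    set N₁ := normalizerIn S Ph ⊓ normalizerIn S R
    set N₂ := normalizerIn S Ph ⊓ normalizerIn S R₁
    have hN₁c : Nat.card R < Nat.card N₁ :=
      card_lt_of_lt (inf_le_left.trans inf_le_left) (lt_normalizer_inf hS inf_le_left hRlt)
    have hN₂c : Nat.card R₁ < Nat.card N₂ :=
      card_lt_of_lt (inf_le_left.trans inf_le_left) (lt_normalizer_inf hS inf_le_left hR₁lt)
    have hRN₁ : R ≤ N₁ := le_inf hR (le_normalizerIn hf.le)
    have hRN₂ : R₁ ≤ N₂ := le_inf hR₁ (le_normalizerIn hf.im_le)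
    have hαmor : Mor F N₁ (Ψ ∘ α) := hα.comp hΨ hαm
    have hβmor : Mor F N₂ (Ψ ∘ β) := hβ.comp hΨ hβm
    obtain ⟨γa, hγaA, hγa⟩ := exists_restrict hαmor (hlt.le.trans hRN₁)
      (by rw [← (hα.restrict_to (hlt.le.trans hRN₁)).im_comp, hαB, hΨB])
    obtain ⟨γb, hγbA, hγb⟩ := exists_restrict hβmor (hPR₁.trans hRN₂)
      (by rw [← (hβ.restrict_to (hPR₁.trans hRN₂)).im_comp, hβB, hΨB])
    have hTN : T ≤ normalizerIn S B := hαT ▸ im_le_iff.mpr fun x hx => hαm x (hRN₁ hx)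
    set T' := im T Ψ with hT'
    have hT'S : T' ≤ S := (hΨ.restrict_to hTN).im_le
    have hle : Ph ≤ T' := hΨB ▸ im_mono hBT
    have hT'c : Nat.card T' = Nat.card R := by
      rw [hT', (hΨ.restrict_to hTN).card_im, ← hfT, hf₁.card_im]
    have hPT' : Ph < T' := lt_of_le_of_ne hle fun e => by
      have := card_lt_of_lt hf.le hlt
      rw [← e] at hT'c
      omega
    have ha : γa ∈ extK hnorm hinn hPh.1 :=
      ih N₁ _ γa hγaA hαmor (by omega) (hlt.trans_le hRN₁) inf_le_left hγa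
    have hb : γb ∈ extK hnorm hinn hPh.1 :=
      ih N₂ _ γb hγbA hβmor (by omega)
        (lt_of_le_of_ne (hPR₁.trans hRN₂) fun e => by
          have := card_lt_of_lt hf.le hlt
          rw [← e] at hN₂c
          omega) inf_le_left hγb
    have hiα : im R (Ψ ∘ α) = T' := by rw [← (hα.restrict_to hRN₁).im_comp, hαT]
    obtain ⟨ai, hai, hainv, -, haimem⟩ := (hαmor.restrict_to hRN₁).exists_inv
    rw [hiα] at hai haimem
    have hδm : Mor F T' ((Ψ ∘ β) ∘ (f ∘ ai)) :=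
      (hai.comp hf haimem).comp (hβmor.restrict_to hRN₂) fun x hx =>
        apply_mem_im (haimem x hx)
    have hδim : im T' ((Ψ ∘ β) ∘ (f ∘ ai)) = T' := by
      refine hδm.im_self fun x hx => ?_
      show Ψ (β (f (ai x))) ∈ T'
      exact hT' ▸ apply_mem_im (hβT ▸ apply_mem_im (apply_mem_im (haimem x hx)))
    obtain ⟨δ, hδA, hδ⟩ := hδm.exists_aut hδim
    have key : ∀ x ∈ Ph, afun δ x = afun (γb * γ * γa⁻¹) x := by
      intro x hx
      have hx' := afun_mem γa⁻¹ hx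
      have hgx : f (afun γa⁻¹ x) ∈ Ph := hfP.le (apply_mem_im hx')
      rw [hδ x (hle hx)]
      show Ψ (β (f (ai x))) = _
      rw [show ai x = afun γa⁻¹ x by
        conv_lhs => rw [← afun_apply_inv γa hx, ← hγa _ hx']
        exact hainv _ (hlt.le hx')]
      show (Ψ ∘ β) _ = _
      rw [hγb _ hgx, hag _ hx', afun_mul _ _ hx, afun_mul _ _ hx']
    have hδs : δ ∈ stabAut F T' Ph hle := ⟨hδA, im_of_agree key⟩
    have hres : res hle ⟨δ, hδs⟩ ∈ extK hnorm hinn hPh.1 :=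
      res_mem_extK hS hPh habove hnorm hinn hO hTr hBT hTN hpos hΨ hΨm hΨB hT'.symm hle hPT'
        (fun R' f' γ' h1 h2 h3 => ih R' f' γ' h1 h2 (by omega)) ⟨δ, hδs⟩
    rw [show res hle ⟨δ, hδs⟩ = γb * γ * γa⁻¹ from afun_ext fun x hx => by
      rw [afun_res hle _ hx]; exact key x hx] at hres
    have := Subgroup.mul_mem _ (Subgroup.mul_mem _ (Subgroup.inv_mem _ hb) hres) ha
    rwa [show γb⁻¹ * (γb * γ * γa⁻¹) * γa = γ by group] at this

theorem gen_mem_extK {P₀ : Subgroup Ω} {f : Ω → Ω} (h : Gen F P₀ f)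
    (hP₀ : F.IsConj Ph P₀) {u v : Ω → Ω} (hu : Mor F (normalizerIn S P₀) u)
    (hu' : im P₀ u = Ph) (hv : Mor F (normalizerIn S (im P₀ f)) v) (hv' : im (im P₀ f) v = Ph)
    {γ : MulAut Ph} (hγA : γ ∈ F.autGroup Ph) (hγ : ∀ x ∈ P₀, v (f x) = afun γ (u x)) :
    γ ∈ extK hnorm hinn hPh.1 := by
  induction h generalizing u v γ with
  | @step P R f hf hlt =>
    obtain ⟨g, hg, hgP, hgn⟩ := lt_normalizerIn hS hf.le hlt
    have hPS := hlt.le.trans hf.le
    set R' := R ⊓ normalizerIn S P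
    have hPR' : P ≤ R' := le_inf hlt.le (le_normalizerIn hPS)
    have hur := hu.restrict_to (inf_le_right : R' ≤ _)
    obtain ⟨ui, hui, huinv, -, huimem⟩ := hur.exists_inv
    have hPlt : P < R' := lt_of_le_of_ne hPR' fun e => hgP (e ▸ ⟨hg, hf.le hg, hgn⟩)
    have hlt' : Ph < im R' u := lt_of_le_of_ne (hu' ▸ im_mono hPR') fun e => by
      have h2 := card_lt_of_lt hur.le hPlt
      rw [← hur.card_im, ← e, ← hu', (hur.restrict_to hPR').card_im] at h2
      omega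
    have hvm : ∀ x ∈ R', f x ∈ normalizerIn S (im P f) := fun x hx =>
      mem_normalizerIn_im hf hlt.le hx.1 hx.2.2
    refine extend_mem_extK hS hPh habove hgen hnorm hinn hO (Nat.card S) (im R' u) (v ∘ f ∘ ui) γ
      hγA (hui.comp ((hf.restrict_to inf_le_left).comp hv hvm) huimem) (Nat.le_add_left _ _) hlt'
      (im_le_iff.mpr fun x hx => hu' ▸ mor_normalizer_mem hu hPS rfl hx.2) fun y hy => ?_
    obtain ⟨x, hx, rfl⟩ := (hu.restrict_to (le_normalizerIn hPS)).mem_im.mp (hu'.symm ▸ hy)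
    show v (f (ui (u x))) = _
    rw [huinv x (hPR' hx)]
    exact hγ x hx
  | @congr P f g _ he ih =>
    rw [← im_congr he] at hv hv'
    exact ih hP₀ hu hu' hv hv' hγA fun x hx => by rw [he x hx]; exact hγ x hx
  | @comp P f g h₁ h₂ ih₁ ih₂ =>
    have hmid : F.IsConj Ph (im P f) := isConj_trans hP₀ (isConj_iff.mpr ⟨f, h₁.mor, rfl⟩)
    obtain ⟨w, hw, -, hw'⟩ := movable_of_conj hS hPh habove hgen hmid
    rw [← h₁.mor.im_comp] at hv hv'
    have hPS := h₁.mor.le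
    obtain ⟨ui, hui, huinv, -, huimem⟩ := (hu.restrict_to (le_normalizerIn hPS)).exists_inv
    rw [hu'] at hui huimem
    have hwP := hw.restrict_to (le_normalizerIn (isConj_right_le hmid))
    have hm : Mor F Ph (w ∘ f ∘ ui) :=
      hui.comp (h₁.mor.comp hwP fun x hx => apply_mem_im hx) huimem
    obtain ⟨γ₁, hγ₁A, hγ₁⟩ := exists_restrict hm le_rfl (hm.im_self fun x hx => by
      show w (f (ui x)) ∈ Ph
      exact hw' ▸ apply_mem_im (apply_mem_im (huimem x hx)))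
    have e₁ : ∀ x ∈ P, w (f x) = afun γ₁ (u x) := fun x hx => by
      rw [← hγ₁ _ (hu' ▸ apply_mem_im hx)]
      show _ = w (f (ui (u x)))
      rw [huinv x hx]
    have h1 := ih₁ hP₀ hu hu' hw hw' hγ₁A e₁
    have h2 := ih₂ hmid hw hw' hv hv' (γ := γ * γ₁⁻¹)
      (Subgroup.mul_mem _ hγA (Subgroup.inv_mem _ hγ₁A)) fun y hy => by
        obtain ⟨x, hx, rfl⟩ := h₁.mor.mem_im.mp hy
        have hux : u x ∈ Ph := hu' ▸ apply_mem_im hx
        rw [e₁ x hx, afun_mul _ _ (afun_mem _ hux), afun_inv_apply _ hux]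
        exact hγ x hx
    have := Subgroup.mul_mem _ h2 h1
    rwa [inv_mul_cancel_right] at this

theorem aut_le_extK {γ : MulAut Ph} (hγ : γ ∈ F.autGroup Ph) :
    γ ∈ extK hnorm hinn hPh.1 := by
  have hm := (mem_autGroup hPh.1).mp hγ
  refine gen_mem_extK hS hPh habove hgen hnorm hinn hO (hgen Ph _ (isConj_refl hPh.1) hm)
    (isConj_refl hPh.1) (u := fun x => x) (v := fun x => x) (mor_id inf_le_left) (im_id Ph)
    (mor_id (inf_le_left.trans le_rfl)) ?_ hγ fun x hx => rfl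
  rw [im_afun, im_id]

/-- The class of `Ph` is saturated. -/
theorem saturated_class (hlt : Ph < kSub S O) :
    F.IsFullyAutomized p Ph ∧ F.IsReceptive Ph := by
  have hA := fun γ => aut_le_extK hS hPh habove hgen hnorm hinn hO (γ := γ)
  have hPhS := hPh.1
  have hKS : kSub S O ≤ S := kSub_le.trans inf_le_left
  have hKN : kSub S O ≤ normalizerIn S Ph := kSub_le
  obtain ⟨T, B, hBT, f₁, hTr, hpos, hf₁, hfT, hfB⟩ := exists_chart (F := F) hS habove rfl hKS hlt
  obtain ⟨α, hα, hαm, hαT, hαB⟩ := lift_step hS hTr hBT hpos hlt.le hKN hf₁ hfT hfB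
  have hN₁ : normalizerIn S Ph ⊓ normalizerIn S (kSub S O) = normalizerIn S Ph :=
    inf_eq_left.mpr fun g hg =>
      ⟨hg.1, mem_normalizer_of_cj_le hKS fun k hk => cj_kSub hnorm hPhS hg hk⟩
  rw [hN₁] at hα hαm
  obtain ⟨Ψ, hΨ, hΨm, hΨB⟩ := movable_of_conj hS hPh habove hgen
    (isConj_iff.mpr ⟨f₁, hf₁.restrict_to hlt.le, hfB⟩ : F.IsConj Ph B)
  have hL : Mor F (normalizerIn S Ph) (Ψ ∘ α) := hα.comp hΨ hαm
  have hPN := le_normalizerIn hPhS
  obtain ⟨γ₃, hγ₃A, hγ₃⟩ := exists_restrict hL hPN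
    (by rw [← (hα.restrict_to hPN).im_comp, hαB, hΨB])
  have hTN : T ≤ normalizerIn S B := hαT ▸ im_le_iff.mpr fun x hx => hαm x (hKN hx)
  have hLK : ∀ x ∈ kSub S O, Ψ (α x) ∈ kSub S O := fun x hx =>
    map_kSub hnorm hL hPN hγ₃A hγ₃ (hKN hx) hx
  have hT' : im T Ψ = kSub S O := by
    rw [← hαT, (hα.restrict_to hKN).im_comp]
    exact (hL.restrict_to hKN).im_self hLK
  have hle : Ph ≤ kSub S O := hlt.le
  have hSyl := sylow_transport hS hBT hTr.1 hTN hpos hΨ hT' hΨB hle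
  haveI := finite_of_le hKS
  haveI := finite_of_le hPhS
  set X := stabAut F (kSub S O) Ph hle
  have hsurj : ∀ γ ∈ F.autGroup Ph, ∃ x : X, res hle x = γ := by
    intro γ hγ
    obtain ⟨-, f, hf, hag⟩ := hA γ hγ
    have him : im (kSub S O) f = kSub S O :=
      hf.im_self fun x hx => map_kSub hnorm hf hle hγ hag hx hx
    obtain ⟨δ, hδA, hδ⟩ := hf.exists_aut him
    have key : ∀ x ∈ Ph, afun δ x = afun γ x := fun x hx => (hδ x (hle hx)).trans (hag x hx)
    exact ⟨⟨δ, hδA, im_of_agree key⟩, afun_ext fun x hx => by rw [afun_res hle _ hx]; exact key x hx⟩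
  have hAutN : ∀ g : ↥(S ⊓ Subgroup.normalizer (Ph : Set Ω)), ∃ u : X,
      (u : MulAut (kSub S O)) ∈ autInducedBy S (kSub S O) ∧ res hle u = nHom S Ph g := by
    intro g
    have hgn : (g : Ω) ∈ Subgroup.normalizer (kSub S O : Set Ω) :=
      mem_normalizer_of_cj_le hKS fun k hk => cj_kSub hnorm hPhS g.2 hk
    refine ⟨⟨nHom S (kSub S O) ⟨g, g.2.1, hgn⟩, nHom_mem_stabAut hle hKS _ g.2.2⟩,
      autInducedBy_eq_range S (kSub S O) ▸ ⟨_, rfl⟩, afun_ext fun x hx => ?_⟩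
    rw [afun_res hle _ hx, afun_nHom _ hx]
    exact afun_nHom _ (hle hx)
  have hT0 : ∀ u : X, (u : MulAut (kSub S O)) ∈ autInducedBy S (kSub S O) →
      res hle u ∈ autInducedBy S Ph := by
    intro u hu
    obtain ⟨g, hg, hgn, he⟩ := mem_autInducedBy.mp hu
    exact mem_autInducedBy.mpr ⟨g, hg, mem_normalizer_of_cj_le hPhS fun x hx => by
      rw [← he x (hle hx)]; exact stab_afun_mem hle u.2 hx,
      fun x hx => by rw [afun_res hle u hx, he x (hle hx)]⟩
  refine ⟨⟨hPhS, ?_⟩, receptive_iff.mpr ⟨hPhS, fun P₀ f N hf him hNS hNn hN => ?_⟩⟩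
  · obtain ⟨U, hU⟩ := hSyl
    let r : X →* F.autGroup Ph := (res hle).codRestrict _ (res_mem hle hKS)
    obtain ⟨V, hV⟩ := sylow_map_surjective U r fun γ => by
      obtain ⟨x, hx⟩ := hsurj γ γ.2
      exact ⟨x, Subtype.ext hx⟩
    refine ⟨V, ?_⟩
    rw [hV, hU]
    ext γ
    constructor
    · rintro ⟨u, hu, rfl⟩
      exact hT0 u hu.1
    · intro hγ
      obtain ⟨g, hg⟩ := (autInducedBy_eq_range S Ph ▸ hγ : (γ : MulAut Ph) ∈ (nHom S Ph).range)
      obtain ⟨u, hu, hue⟩ := hAutN g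
      exact ⟨u, ⟨hu, u.2⟩, Subtype.ext (hue.trans hg)⟩
  · have hP₀S := hf.le
    have hconj : F.IsConj Ph P₀ := isConj_symm (isConj_iff.mpr ⟨f, hf, him⟩)
    obtain ⟨Φ, hΦ, hΦm, hΦP⟩ := movable_of_conj hS hPh habove hgen hconj
    have hP₀N := le_normalizerIn hP₀S
    obtain ⟨Φi, hΦi, hΦinv, -, hΦimem⟩ := (hΦ.restrict_to hP₀N).exists_inv
    rw [hΦP] at hΦi hΦimem
    have hm : Mor F Ph (f ∘ Φi) := hΦi.comp hf hΦimem
    obtain ⟨γ, hγA, hγ⟩ := exists_restrict hm le_rfl (hm.im_self fun x hx =>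
      him ▸ apply_mem_im (hΦimem x hx))
    have hγ' : ∀ x ∈ P₀, afun γ (Φ x) = f x := fun x hx => by
      rw [← hγ _ (hΦP ▸ apply_mem_im hx)]
      show f (Φi (Φ x)) = _
      rw [hΦinv x hx]
    obtain ⟨γ', rfl⟩ := hsurj γ hγA
    -- the automorphisms induced by `N` move into `Aut_S(Ph)`
    let XT : Subgroup X := (autInducedBy S Ph).comap (res hle)
    set U : Subgroup X := (autInducedBy S (kSub S O) ⊓ X).subgroupOf X with hU
    have hUT : U ≤ XT := fun u hu => hT0 u hu.1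
    obtain ⟨U₀, hU₀⟩ := hSyl
    have hSylT : SylIn p U XT := by
      refine ⟨U₀.subtype ?_, ?_⟩
      · rw [hU₀]; exact hUT
      · rw [Sylow.coe_subtype, hU₀]
    have hNN : ∀ g ∈ N, g ∈ normalizerIn S P₀ := fun g hg => ⟨hNS hg, hNn hg⟩
    set N' := im N Φ
    have hN' : N' ≤ normalizerIn S Ph := im_le_iff.mpr fun g hg => hΦm g (hNN g hg)
    let cN : N → X := fun g =>
      ⟨nHom S (kSub S O) ⟨Φ g, (hN' (apply_mem_im g.2)).1, mem_normalizer_of_cj_le hKS
        fun k hk => cj_kSub hnorm hPhS (hN' (apply_mem_im g.2)) hk⟩,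
        nHom_mem_stabAut hle hKS _ (hN' (apply_mem_im g.2)).2⟩
    set C : Subgroup X := Subgroup.closure (Set.range fun g => γ' * cN g * γ'⁻¹) with hC
    have hres : ∀ g : N, res hle (γ' * cN g * γ'⁻¹) ∈ autInducedBy S Ph := by
      intro g
      obtain ⟨h, hh, he⟩ := hN g g.2
      have hhy : ∀ y ∈ Ph, afun (res hle (γ' * cN g * γ'⁻¹)) y = cj h y := by
        intro y hy
        rw [map_mul, map_mul, map_inv, afun_mul _ _ hy, afun_mul _ _ (afun_mem _ hy)]
        obtain ⟨x, hx, rfl⟩ := hf.mem_im.mp (him.symm ▸ hy)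
        rw [← he x hx]
        conv_lhs => rw [← hγ' x hx, afun_inv_apply _ (hΦP ▸ apply_mem_im hx),
          afun_res hle (cN g) (hΦP ▸ apply_mem_im hx)]
        rw [show afun ((cN g : X) : MulAut (kSub S O)) (Φ x) = cj (Φ g) (Φ x) from
          afun_nHom _ (hle (hΦP ▸ apply_mem_im hx)), ← hΦ.map_cj (hNN g g.2) (hP₀N hx)]
        exact hγ' _ (cj_mem_of_normalizer (hNn g.2) hx)
      exact mem_autInducedBy.mpr ⟨h, hh, mem_normalizer_of_cj_le hPhS fun y hy => by
        rw [← hhy y hy]; exact afun_mem _ hy, hhy⟩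
    have hCT : C ≤ XT := by
      rw [hC, Subgroup.closure_le]
      rintro _ ⟨g, rfl⟩
      exact hres g
    have hCp : IsPGroup p C := by
      have hUp : IsPGroup p U := by rw [hU, ← hU₀]; exact U₀.isPGroup'
      refine (hUp.map (MulAut.conj γ').toMonoidHom).to_le ?_
      rw [hC, Subgroup.closure_le]
      rintro _ ⟨g, rfl⟩
      exact ⟨cN g, ⟨autInducedBy_eq_range S (kSub S O) ▸ ⟨_, rfl⟩, (cN g).2⟩, rfl⟩
    obtain ⟨a, ha, haU⟩ := sylIn_absorb hSylT hCp hCT
    obtain ⟨g₀, hg₀⟩ :=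
      (autInducedBy_eq_range S Ph ▸ ha : res hle a ∈ (nHom S Ph).range)
    obtain ⟨u, hu, hue⟩ := hAutN g₀
    have huU : u ∈ U := ⟨hu, u.2⟩
    set γ'' := u⁻¹ * a * γ' with hγ''
    have hres'' : res hle γ'' = res hle γ' := by
      rw [hγ'', map_mul, map_mul, map_inv, hue, hg₀, inv_mul_cancel, one_mul]
    have hγ''N : ∀ g : N, γ'' * cN g * γ''⁻¹ ∈ U := by
      intro g
      have h1 := haU _ (Subgroup.subset_closure ⟨g, rfl⟩)
      have h2 := U.mul_mem (U.mul_mem (U.inv_mem huU) h1) huU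
      rwa [show u⁻¹ * (a * (γ' * cN g * γ'⁻¹) * a⁻¹) * u = γ'' * cN g * γ''⁻¹ by
        rw [hγ'']; group] at h2
    have hγm : ∀ x ∈ kSub S O, afun (γ'' : MulAut (kSub S O)) x ∈ kSub S O :=
      fun x hx => afun_mem _ hx
    have hmγ := (mem_autGroup hKS).mp γ''.2.1
    have hf₂ : Mor F (kSub S O) (α ∘ afun (γ'' : MulAut (kSub S O))) :=
      hmγ.comp hα fun x hx => hKN (hγm x hx)
    have him₂ : im (kSub S O) (α ∘ afun (γ'' : MulAut (kSub S O))) = T := by
      rw [← hmγ.im_comp, im_afun, hαT]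
    obtain ⟨f', hf', hag⟩ := (receptive_iff.mp hTr).2 _ _ N' hf₂ him₂ (hN'.trans inf_le_left)
      (fun g hg => mem_normalizer_of_cj_le hKS fun k hk => cj_kSub hnorm hPhS (hN' hg) hk) (by
        intro g hg
        obtain ⟨g₁, hg₁, rfl⟩ := (hΦ.restrict_to (fun x hx => hNN x hx)).mem_im.mp hg
        obtain ⟨h, hh, -, he⟩ := mem_autInducedBy.mp (hγ''N ⟨g₁, hg₁⟩).1
        have hhN : h ∈ normalizerIn S Ph := ⟨hh, mem_normalizer_of_cj_le hPhS fun x hx => by
          rw [← he x (hle hx)]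
          exact stab_afun_mem hle (γ'' * cN ⟨g₁, hg₁⟩ * γ''⁻¹).2 hx⟩
        refine ⟨α h, hα.apply_mem hhN, fun x hx => ?_⟩
        show α (afun (γ'' : MulAut (kSub S O)) (cj (Φ g₁) x)) =
          cj (α h) (α (afun (γ'' : MulAut (kSub S O)) x))
        rw [← hα.map_cj hhN (hKN (hγm x hx)), ← he _ (hγm x hx)]
        rw [show X.subtype (γ'' * cN ⟨g₁, hg₁⟩ * γ''⁻¹) = (γ'' : MulAut (kSub S O)) *
          (cN ⟨g₁, hg₁⟩ : MulAut (kSub S O)) * (γ'' : MulAut (kSub S O))⁻¹ from rfl]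
        rw [afun_mul _ _ (hγm x hx), afun_inv_apply _ hx, afun_mul _ _ hx]
        refine congrArg (fun z => α (afun (γ'' : MulAut (kSub S O)) z)) ?_
        have hgm := hN' (apply_mem_im (f := Φ) hg₁)
        exact (afun_nHom (⟨Φ g₁, hgm.1, mem_normalizer_of_cj_le hKS fun k hk =>
          cj_kSub hnorm hPhS hgm hk⟩ : ↥(S ⊓ Subgroup.normalizer (kSub S O : Set Ω))) hx).symm)
    have hPR : Ph ≤ kSub S O ⊔ N' := hle.trans le_sup_left
    have hf'B : im Ph f' = B := by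
      rw [im_congr fun x hx => hag x (hle hx), ← (hmγ.restrict_to hle).im_comp, γ''.2.2, hαB]
    have hf'm : ∀ x ∈ kSub S O ⊔ N', f' x ∈ normalizerIn S B := fun x hx =>
      hf'B ▸ mem_normalizerIn_im hf' hPR hx (sup_le hKN hN' hx).2
    obtain ⟨Li, hLi, hLinv, -, -⟩ := hL.exists_inv
    have hLim : im (normalizerIn S Ph) (Ψ ∘ α) = normalizerIn S Ph :=
      hL.im_self fun x hx => hΨm _ (hαm x hx)
    rw [hLim] at hLi
    have hθ : Mor F (kSub S O ⊔ N') (Li ∘ Ψ ∘ f') :=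
      (hf'.comp hΨ hf'm).comp hLi fun x hx => hΨm _ (hf'm x hx)
    have hΦr : Mor F (P₀ ⊔ N) Φ := hΦ.restrict_to (sup_le hP₀N fun x hx => hNN x hx)
    refine ⟨_, hΦr.comp hθ fun x hx => mor_sup_induction hΦr
      (fun a ha => Subgroup.mem_sup_left (hle (hΦP ▸ apply_mem_im ha)))
      (fun b hb => Subgroup.mem_sup_right (apply_mem_im hb)) hx, fun x hx => ?_⟩
    have hΦx : Φ x ∈ Ph := hΦP ▸ apply_mem_im hx
    have hgx : afun (γ'' : MulAut (kSub S O)) (Φ x) = f x := by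
      rw [← afun_res hle γ'' hΦx, hres'', hγ' x hx]
    show Li (Ψ (f' (Φ x))) = f x
    rw [hag _ (hle hΦx)]
    show Li (Ψ (α (afun (γ'' : MulAut (kSub S O)) (Φ x)))) = _
    rw [hgx]
    exact hLinv _ (hPN (him ▸ apply_mem_im hx))

end Cfsg.Agent.FusionSaturationCriterion9
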