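import Cfsg.Agent.Lib.FusionModelTools
import Cfsg.Agent.Lib.FusionQd
import Cfsg.Agent.Lib.FusionGroupModel
import Cfsg.Agent.Lib.FusionRealized87
import Cfsg.Agent.Lib.FusionNilReduction
import Cfsg.Prelude.Def_FusionReduction

/-!
Being `Qd(p)`-free passes to the normalizer systems of fully normalized subgroups.
-/

set_option autoImplicit false

universe u

namespace Cfsg.Agent.FusionSectionFreeLocal

open Cfsg Cfsg.FusionSystem Cfsg.Agent.FusionSysBasic Cfsg.Agent.FusionSysNormal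
  Cfsg.Agent.FusionSysSaturated

variable {p : ℕ} [Fact p.Prime] {Ω : Type u} [Group Ω] {S : Subgroup Ω} [Finite S] {F : FusionSystem S}

/-- The normalizer system of a fully normalized subgroup of a `Qd(p)`-free system is `Qd(p)`-free. -/
theorem free_normalizerSystem (hS : IsPGroup p S) (hF : F.IsSaturated p)
    (hfree : F.IsSectionFree p ↥(Cfsg.qd p)) {U : Subgroup Ω} (hU : F.IsFullyNormalized U)
    {E : FusionSystem (normalizerIn S U)} (hE : F.IsNormalizerSystem U E) :
    E.IsSectionFree p ↥(Cfsg.qd p) := by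
  intro Q hQn hQc N' hN' L _ ι hM hinv
  haveI : Finite ↥(normalizerIn S U) := finite_normalizerIn U
  haveI : Finite ↥(normalizerIn (normalizerIn S U) Q) := finite_normalizerIn Q
  have hT : IsPGroup p (normalizerIn S U) := hS.to_le inf_le_left
  have hEsat := FusionSysNormalizer.normalizerSystem_saturated hS hF hU hE
  have hQS : Q ≤ S := hQn.1.trans inf_le_left
  set Y := Q ⊔ U with hY
  have hYS : Y ≤ S := sup_le hQS hU.1
  -- `Q ⊔ U` is centric
  have hYc : F.IsCentric Y := by
    refine ⟨hYS, fun Y' hY' => ?_⟩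
    obtain ⟨f, hf, rfl⟩ := FusionSysBasic.isConj_iff.mp hY'
    have hfU : F.IsConj (im U f) U :=
      isConj_symm (FusionSysBasic.isConj_iff.mpr ⟨f, hf.restrict_to le_sup_right, rfl⟩)
    obtain ⟨θ, hθ, hθv, hθU⟩ := exists_map_to_fullyNormalized hS hF hU hfU
    have hfUS : im U f ≤ S := im_le_iff.mpr fun x hx => hf.apply_mem (Subgroup.mem_sup_right hx)
    have hfY : ∀ x ∈ Y, f x ∈ normalizerIn S (im U f) := fun x hx => by
      have hUn : ∀ y ∈ Y, ∀ u ∈ U, cj y u ∈ U := fun y hy u hu => cj_mem_of_normalizer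
        ((sup_le hQn.1 (le_normalizerIn hU.1) : Y ≤ (normalizerIn S U)) hy).2 hu
      refine ⟨hf.apply_mem hx, mem_normalizer_of_cj_le hfUS fun z hz => ?_⟩
      obtain ⟨u, hu, rfl⟩ := (hf.restrict_to le_sup_right).mem_im.mp hz
      rw [← hf.map_cj hx (Subgroup.mem_sup_right hu)]
      exact apply_mem_im (hUn x hx u hu)
    have hh : Mor F Y (θ ∘ f) := hf.comp hθ hfY
    have hhU : im U (θ ∘ f) = U := by
      refine (hh.restrict_to le_sup_right).im_self fun u hu => ?_
      exact hθU ▸ apply_mem_im (apply_mem_im hu)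
    have hhE : Mor E Q (θ ∘ f) := (mor_normalizerSystem_iff hE).mpr ⟨hh.restrict_to le_sup_left,
      hQn.1, fun x hx => hθv _ (hfY x (Subgroup.mem_sup_left hx)), θ ∘ f, hh, fun _ _ => rfl, hhU⟩
    intro c hc
    have hcS : c ∈ S := hc.1
    have hccomm : ∀ y ∈ Y, cj c (f y) = f y := fun y hy =>
      (mem_centralizerIn.mp hc).2 _ (apply_mem_im hy)
    have hcD : c ∈ normalizerIn S (im U f) := ⟨hcS, mem_normalizer_of_cj_le hfUS fun z hz => by
      obtain ⟨u, hu, rfl⟩ := (hf.restrict_to le_sup_right).mem_im.mp hz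
      rw [hccomm u (Subgroup.mem_sup_right hu)]; exact hz⟩
    have h1 : θ c ∈ im Q (θ ∘ f) := by
      refine hQc.2 _ (FusionSysBasic.isConj_iff.mpr ⟨_, hhE, rfl⟩)
        (mem_centralizerIn.mpr ⟨hθv c hcD, fun z hz => ?_⟩)
      obtain ⟨y, hy, rfl⟩ := (hh.restrict_to le_sup_left).mem_im.mp hz
      rw [Function.comp_apply, ← hθ.map_cj hcD (hfY y (Subgroup.mem_sup_left hy)),
        hccomm y (Subgroup.mem_sup_left hy)]
    obtain ⟨y, hy, hye⟩ := (hh.restrict_to le_sup_left).mem_im.mp h1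
    have h2 := hθ.injOn (hfY y (Subgroup.mem_sup_left hy)) hcD hye
    exact h2 ▸ apply_mem_im (Subgroup.mem_sup_left hy)
  obtain ⟨R, hYR, hRn⟩ := exists_fullyNormalized (F := F) hYS
  obtain ⟨f, hf, hfR⟩ := FusionSysBasic.isConj_iff.mp hYR
  have hRc : F.IsCentric R := ⟨hRn.1, fun R' hR' => hYc.2 R' (isConj_trans hYR hR')⟩
  let N := normalizerSystem F R hRn.1
  have hN := isNormalizerSystem_normalizerSystem (F := F) R hRn.1
  have hS' : IsPGroup p ↥(normalizerIn S R) := hS.to_le inf_le_left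
  haveI : Finite ↥(normalizerIn S R) := finite_normalizerIn R
  obtain ⟨-, Q₀, hQ₀n, hQ₀c⟩ := FusionModelTools.constrained_normalizerSystem hS hF hRn hRc hN
  have hH : FusionSysModel.Hyp p N Q₀ :=
    ⟨hS', FusionSysNormalizer.normalizerSystem_saturated hS hF hRn hN, hQ₀n, hQ₀c⟩
  haveI := FusionSysModel.k0_normal hH
  have hM' := FusionSysModel.isModel hH
  apply hfree R hRn hRc N hN _ _ hM'
  haveI := hM.1
  haveI := FusionSysModel.finite_model hH
  have hQT : Q ≤ normalizerIn (normalizerIn S U) Q := le_normalizerIn hQn.1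
  have hNsat := FusionSysNormalizer.normalizerSystem_saturated hT hEsat hQn hN'
  have hNn := FusionModelTools.normal_normalizerSystem hQn.1 hN'
  have hS1 : IsPGroup p ↥(normalizerIn (normalizerIn S U) Q) := hT.to_le inf_le_left
  let Qb : Subgroup L := (Q.subgroupOf (normalizerIn (normalizerIn S U) Q)).map ι
  haveI hQbn : Qb.Normal := ⟨fun x hx g => by
    obtain ⟨r, hr, rfl⟩ := hx
    obtain ⟨r', hr', e⟩ := FusionSysModel.model_conj hM hNn g r hr
    exact ⟨r', hr', e.symm⟩⟩
  have hQp : IsPGroup p ↥Qb := (hS1.to_subgroup _).map _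
  have hC := FusionModelTools.model_centralizer_le hS1 hNsat hM hNn
    (FusionModelTools.centric_normalizerSystem hQc hN')
  let ι' := FusionSysModel.iota hH
  have hfYR : ∀ x ∈ Y, f x ∈ R := fun x hx => hfR ▸ apply_mem_im hx
  have hfR' : ∀ x ∈ Q, f x ∈ normalizerIn S R := fun x hx =>
    le_normalizerIn hRn.1 (hfYR x (Subgroup.mem_sup_left hx))
  let fT : ↥Q →* ↥(normalizerIn S R) :=
    { toFun := fun x => ⟨f x, hfR' x x.2⟩
      map_one' := Subtype.ext hf.map_one
      map_mul' := fun x y => Subtype.ext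
        (hf.map_mul (Subgroup.mem_sup_left x.2) (Subgroup.mem_sup_left y.2)) }
  let e : ↥Q ≃* ↥Qb := (Subgroup.subgroupOfEquivOfLe hQT).symm.trans
    ((Q.subgroupOf (normalizerIn (normalizerIn S U) Q)).equivMapOfInjective ι hM.2.1.1)
  let θ : ↥Qb →* FusionSysModel.Model hH := ι'.comp (fT.comp e.symm.toMonoidHom)
  refine FusionQd.involves_transfer hQp hC θ ?_ ?_ hinv
  · refine (FusionSysModel.iota_injective hH).comp ?_
    refine Function.Injective.comp (g := fT) ?_ e.symm.injective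
    exact fun a b h => Subtype.ext (hf.injOn (Subgroup.mem_sup_left a.2) (Subgroup.mem_sup_left b.2)
      (congrArg Subtype.val h))
  intro g
  have hval : ∀ x ∈ Q, cj g (FusionRealized87.up ι x) ∈ ι.range := fun x hx => by
    obtain ⟨r', -, e'⟩ := FusionSysModel.model_conj hM hNn g ⟨x, hQT hx⟩ hx
    exact ⟨r', by rw [FusionRealized87.up_apply ι (hQT hx)]; exact e'.symm⟩
  have hm := FusionRealized87.mor_of_conj hM.2.1 hQT hval
  set c := fun x => FusionRealized87.down ι (cj g (FusionRealized87.up ι x)) with hc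
  have him := hm.im_self fun x hx => normal_invariant hNn hm hx hx
  -- the automorphism of `Q ⊔ U`
  obtain ⟨-, -, -, c', hc', hagc, himU⟩ :=
    (mor_normalizerSystem_iff hE).mp ((mor_normalizerSystem_iff hN').mp hm).1
  have himY : im Y c' = Y := hc'.im_self fun x hx => mor_sup_induction hc'
    (fun a ha => Subgroup.mem_sup_left (by rw [hagc a ha]; exact him ▸ apply_mem_im ha))
    (fun b hb => Subgroup.mem_sup_right (himU ▸ apply_mem_im hb)) hx
  obtain ⟨α, hα, hαe⟩ := hc'.exists_aut himY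
  set γ := hf.transport hfR α with hγdef
  have hγm : Mor F R (afun γ) := (mem_autGroup hRn.1).mp (hf.transport_mem hfR hα)
  have hRT : R ≤ normalizerIn S R := le_normalizerIn hRn.1
  obtain ⟨-, -, l, hl⟩ := (FusionRealized87.mor_iff hM'.2.1).mp
    ((mor_normalizerSystem_iff hN).mpr ⟨hγm, hRT, fun x hx => hRT (afun_mem γ hx), afun γ,
      by rwa [sup_idem], fun _ _ => rfl, im_afun γ⟩)
  refine ⟨l, fun q => ?_⟩
  obtain ⟨x, rfl⟩ := e.surjective q
  have hxY : (x : Ω) ∈ Y := Subgroup.mem_sup_left x.2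
  have hαQ : afun α (x : Ω) ∈ Q := by
    rw [hαe x hxY, hagc x x.2]; exact him.le (apply_mem_im x.2)
  have hcjx : ι ⟨afun α x, hQT hαQ⟩ = g * ι ⟨x, hQT x.2⟩ * g⁻¹ := by
    have h1 := FusionRealized87.up_down ι (hval x x.2)
    rw [show FusionRealized87.down ι (cj g (FusionRealized87.up ι x)) = afun α x by
        rw [hαe x hxY, hagc x x.2], FusionRealized87.up_apply ι (hQT hαQ),
      FusionRealized87.up_apply ι (hQT x.2)] at h1
    exact h1
  have e2 := hl (f x) (hfYR x hxY)
  rw [hf.afun_transport hfR α hxY, FusionRealized87.up_apply ι' (hfR' _ hαQ),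
    FusionRealized87.up_apply ι' (hfR' x x.2)] at e2
  have e3 : (⟨g * (e x : L) * g⁻¹, hQbn.conj_mem _ (e x).2 g⟩ : ↥Qb) =
      e ⟨afun α x, hαQ⟩ := Subtype.ext hcjx.symm
  rw [e3]
  show ι' (fT (e.symm (e _))) = l * ι' (fT (e.symm (e x))) * l⁻¹
  rw [e.symm_apply_apply, e.symm_apply_apply]
  exact e2

end Cfsg.Agent.FusionSectionFreeLocal
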