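import Mathlib
import Cfsg.Agent.Lib.Blackburn20

/-!
`p`-groups of maximal class, `p` odd: the two-step centralisers `Ct X i`, `2 ≤ i ≤ n - 3`, coincide
(degree of commutativity of the central quotient), and in the exceptional case `n` is even and the
level `n - 1` pairing is nowhere trivial.
-/

set_option autoImplicit false

open Subgroup
open scoped commutatorElement

namespace Cfsg.Agent.MaxClassDegree94

open PGroupsHallPetrescu (Gf Gf_antitone commutator_mem_Gf commutator_rotate_le)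
open Blackburn20 (Ct mem_Ct IsUniform)

variable {X : Type*} [Group X]

/-- `Ct X 2` in degree one, the lower central series above. -/
def Mf (X : Type*) [Group X] (i : ℕ) : Subgroup X := if i ≤ 1 then Ct X 2 else Gf X i

theorem Mf_of_two_le {i : ℕ} (h : 2 ≤ i) : Mf X i = Gf X i := if_neg (by omega)

theorem Mf_one : Mf X 1 = Ct X 2 := if_pos le_rfl

theorem Mf_le (i : ℕ) : Mf X i ≤ Gf X i := by
  unfold Mf
  split
  · rw [show Gf X i = ⊤ by
      rcases (show i = 0 ∨ i = 1 by omega) with rfl | rfl <;> rfl]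
    exact le_top
  · exact le_rfl

theorem shift_eq (a b s : X) : s * ⁅a, b⁆ * s⁻¹ = ⁅⁅a, s⁆⁻¹ * a, ⁅b, s⁆⁻¹ * b⁆ := by
  simp only [commutatorElement_def]; group

theorem expand_eq (u a v b : X) : ⁅u * a, v * b⁆ =
    u * ⁅a, v⁆ * (v * ⁅a, b⁆ * v⁻¹) * u⁻¹ * ⁅u, v⁆ * (v * ⁅u, b⁆ * v⁻¹) := by
  simp only [commutatorElement_def]; group

theorem expand_fix {u a v b : X} (hvc : Commute v ⁅a, b⁆) (huA : Commute u ⁅a, v⁆)
    (huc : Commute u ⁅a, b⁆) (hvB : Commute v ⁅u, b⁆) :
    ⁅u * a, v * b⁆ = ⁅a, v⁆ * ⁅a, b⁆ * ⁅u, v⁆ * ⁅u, b⁆ := by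
  rw [expand_eq, hvc.eq, mul_inv_cancel_right, hvB.eq, mul_inv_cancel_right, huA.eq,
    mul_assoc ⁅a, v⁆, huc.eq, ← mul_assoc, mul_inv_cancel_right]

theorem comm_inv_right (a w : X) : ⁅a, w⁻¹⁆ = w⁻¹ * ⁅a, w⁆⁻¹ * w := by
  simp only [commutatorElement_def]; group

theorem comm_inv_left (w b : X) : ⁅w⁻¹, b⁆ = w⁻¹ * ⁅w, b⁆⁻¹ * w := by
  simp only [commutatorElement_def]; group

/-- The sequence `s_1 = a`, `s_{i+1} = [s_i, s]`. -/
def sq (a s : X) : ℕ → X
  | 0 => a
  | 1 => a
  | k + 2 => ⁅sq a s (k + 1), s⁆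

theorem sq_succ (a s : X) {i : ℕ} (h : 1 ≤ i) : sq a s (i + 1) = ⁅sq a s i, s⁆ := by
  obtain ⟨k, rfl⟩ : ∃ k, i = k + 1 := ⟨i - 1, by omega⟩
  rfl

variable [Finite X] {p n : ℕ} [hp : Fact p.Prime]
  (hX : Nat.card X = p ^ n) (hc : Group.nilpotencyClass X = n - 1)

instance ct_normal (i : ℕ) : (Ct X i).Normal := ⟨fun w hw g => by
  have h : ⁅g, w⁆ ∈ Ct X i :=
    Blackburn20.gf_two_le_Ct i (commutator_mem_Gf (i := 1) (j := 1) (mem_top g) (mem_top w))
  have := mul_mem h hw
  rwa [show ⁅g, w⁆ * w = g * w * g⁻¹ by rw [commutatorElement_def]; group] at this⟩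

include hX hc

theorem mem_bot_of_le {i : ℕ} (h : n ≤ i) {x : X} (hx : x ∈ Gf X i) : x = 1 := by
  rwa [S3806.gf_bot hX hc h, mem_bot] at hx

theorem comm_eq_one {i j : ℕ} (h : n ≤ i + j) {x y : X} (hx : x ∈ Gf X i) (hy : y ∈ Gf X j) :
    ⁅x, y⁆ = 1 := mem_bot_of_le hX hc h (commutator_mem_Gf hx hy)

theorem central {x : X} (hx : x ∈ Gf X (n - 1)) (g : X) : g * x = x * g :=
  (commutatorElement_eq_one_iff_mul_comm.mp
    (comm_eq_one hX hc (i := n - 1) (j := 1) (by omega) hx (mem_top g))).symm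

theorem exists_mem_Ct_two (hn : 4 ≤ n) : ∃ a ∈ Ct X 2, a ∉ Gf X 2 := by
  refine SetLike.exists_of_lt (lt_of_le_of_ne (Blackburn20.gf_two_le_Ct 2) fun e => ?_)
  have h1 := card_mul_index (Ct X 2)
  rw [Blackburn20.index_Ct hX hc le_rfl (by omega), ← e, S3806.card_gf hX hc (by omega) le_rfl (by omega),
    hX, ← pow_succ] at h1
  have := Nat.pow_right_injective hp.out.two_le h1
  omega

theorem Mf_succ (hn : 4 ≤ n) {i : ℕ} (h1 : 1 ≤ i) : ⁅Mf X i, (⊤ : Subgroup X)⁆ = Gf X (i + 1) := by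
  rcases h1.eq_or_lt with rfl | h2
  swap
  · rw [Mf_of_two_le h2, S3806.gf_succ (by omega)]
  rw [Mf_one]
  refine le_antisymm (commutator_le.mpr fun a _ b _ =>
    commutator_mem_Gf (i := 1) (j := 1) (mem_top a) (mem_top b)) ?_
  have h3 : Gf X 3 ≤ ⁅Ct X 2, (⊤ : Subgroup X)⁆ := by
    rw [S3806.gf_succ (i := 2) (by omega)]
    exact commutator_mono (Blackburn20.gf_two_le_Ct 2) le_rfl
  obtain ⟨a, ha, ha2⟩ := exists_mem_Ct_two hX hc hn
  have hD : zpowers a ⊔ Gf X 2 ≠ ⊤ := fun e => Blackburn20.Ct_ne_top hX hc (by omega) (i := 2)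
    (by omega) (eq_top_iff.mpr (e.ge.trans (sup_le (zpowers_le.mpr ha) (Blackburn20.gf_two_le_Ct 2))))
  obtain ⟨g, -, hg⟩ := SetLike.exists_of_lt (lt_top_iff_ne_top.mpr hD)
  exact S3806.eq_of_mem_of_notMem hX hc (by omega) le_rfl (by omega) h3
    (commutator_mem_commutator ha (mem_top g))
    (commutator_mem_Gf (i := 1) (j := 1) (mem_top a) (mem_top g))
    (Blackburn20.commutator_notMem hX hc hn
      (Blackburn20.gen_of_notMem hX hc (by omega) ha2 hg))

/-- If the two-step centralisers up to `l` coincide, commutators climb one more step. -/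
theorem Mf_comm (hn : 4 ≤ n) {l : ℕ} (hlow : ∀ k, 2 ≤ k → k ≤ l → Ct X k = Ct X 2) :
    ∀ i, 1 ≤ i → ∀ j, 2 ≤ j → i + j ≤ l + 1 → ⁅Mf X i, Gf X j⁆ ≤ Gf X (i + j + 1) := by
  intro i hi
  induction i, hi using Nat.le_induction with
  | base =>
    intro j hj hjl
    refine commutator_le.mpr fun a ha b hb => ?_
    rw [Mf_one, ← hlow j hj (by omega), mem_Ct] at ha
    rw [← commutatorElement_inv]
    refine inv_mem ?_
    rw [show 1 + j + 1 = j + 2 by omega]
    exact ha b hb
  | succ i hi ih =>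
    intro j hj hjl
    rw [Mf_of_two_le (by omega), ← Mf_succ hX hc hn hi]
    refine commutator_rotate_le ?_ ?_
    · rw [commutator_comm (⊤ : Subgroup X), ← S3806.gf_succ (by omega), commutator_comm]
      refine (ih (j + 1) (by omega) (by omega)).trans (le_of_eq ?_)
      congr 1; omega
    · rw [commutator_comm (Gf X j)]
      refine (commutator_mono (ih j hj (by omega)) le_rfl).trans (le_of_eq ?_)
      rw [← S3806.gf_succ (by omega)]
      congr 1; omega

theorem sq_mem {a s : X} (ha : a ∈ Ct X 2) : ∀ i, 1 ≤ i → sq a s i ∈ Mf X i := by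
  intro i hi
  induction i, hi using Nat.le_induction with
  | base => rwa [Mf_one]
  | succ i hi ih =>
    rw [Mf_of_two_le (by omega), sq_succ a s hi]
    exact commutator_mem_Gf (Mf_le i ih) (mem_top s)

theorem sq_mem_gf {a s : X} (ha : a ∈ Ct X 2) {i : ℕ} (hi : 1 ≤ i) : sq a s i ∈ Gf X i :=
  Mf_le i (sq_mem hX hc ha i hi)

theorem sq_notMem (hn : 4 ≤ n) {a s : X} (ha : a ∈ Ct X 2) (hs : IsUniform n s)
    (hgen : closure ({a, s} : Set X) = ⊤) : ∀ i, 2 ≤ i → i + 1 ≤ n → sq a s i ∉ Gf X (i + 1) := by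
  intro i hi
  induction i, hi using Nat.le_induction with
  | base =>
    intro _
    exact Blackburn20.commutator_notMem hX hc hn hgen
  | succ i hi ih =>
    intro hin h
    rw [sq_succ a s (by omega)] at h
    exact hs.2 i hi (by omega) (Blackburn20.mem_Ct_of_exact hX hc hi (by omega)
      (sq_mem_gf hX hc ha (by omega)) (ih (by omega)) h)

/-- The two top two-step centralisers of the central quotient coincide. -/
theorem top_step (hp2 : p ≠ 2) (hn : 6 ≤ n) (hnp : n ≤ p + 1)
    (hlow : ∀ k, 2 ≤ k → k ≤ n - 4 → Ct X k = Ct X 2) : Ct X (n - 3) = Ct X 2 := by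
  by_contra hne
  obtain ⟨s, hs⟩ := Blackburn20.exists_uniform' hX hc hp2 (by omega)
  obtain ⟨a, ha, ha2⟩ := exists_mem_Ct_two hX hc (by omega)
  have hgen : closure ({a, s} : Set X) = ⊤ := by
    rw [Set.pair_comm]
    refine Blackburn20.gen_of_notMem hX hc (by omega) hs.1 fun h => ha2 ?_
    exact Blackburn20.mem_gf_two_of_mem hX hc (by omega) hs le_rfl (by omega) ha h
  have hanot : a ∉ Ct X (n - 3) := fun h => hne ((Blackburn20.Ct_eq_of_le hX hc le_rfl (by omega)
    (by omega) (by omega) (by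
      intro w hw
      have hle : zpowers a ⊔ Gf X 2 ≤ Ct X (n - 3) :=
        sup_le (zpowers_le.mpr h) (Blackburn20.gf_two_le_Ct _)
      refine hle ?_
      have heq : zpowers a ⊔ Gf X 2 = Ct X 2 := by
        refine eq_of_le_of_card_ge (sup_le (zpowers_le.mpr ha) (Blackburn20.gf_two_le_Ct 2)) ?_
        have h1 := card_mul_index (Ct X 2)
        rw [Blackburn20.index_Ct hX hc le_rfl (by omega), hX] at h1
        obtain ⟨u, hu⟩ := IsPGroup.iff_card.mp
          ((IsPGroup.of_card hX).to_subgroup (zpowers a ⊔ Gf X 2))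
        have hlt : Nat.card (Gf X 2) < Nat.card (zpowers a ⊔ Gf X 2 : Subgroup X) := by
          refine lt_of_le_of_ne (card_le_of_le le_sup_right) fun e => ha2 ?_
          rw [eq_of_le_of_card_ge le_sup_right e.ge]
          exact mem_sup_left (mem_zpowers a)
        rw [S3806.card_gf hX hc (by omega) le_rfl (by omega), hu] at hlt
        rw [hu]
        have := (Nat.pow_lt_pow_iff_right hp.out.one_lt).mp hlt
        refine Nat.le_of_mul_le_mul_right ?_ hp.out.pos
        rw [h1, ← pow_succ]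
        exact Nat.pow_le_pow_right hp.out.pos (by omega)
      rw [heq]
      exact hw)).symm)
  have hM := Mf_comm hX hc (by omega) hlow
  let S := sq a s
  have hS : ∀ i, 1 ≤ i → S i ∈ Gf X i := fun i hi => sq_mem_gf hX hc ha hi
  have hSs : ∀ i, 1 ≤ i → S (i + 1) = ⁅S i, s⁆ := fun i hi => sq_succ a s hi
  let Z := Gf X (n - 1)
  let g : ℕ → X := fun i => ⁅S i, S (n - 1 - i)⁆
  let f : ℕ → X := fun i => ⁅⁅S i, S (n - 2 - i)⁆, s⁆
  have hgZ : ∀ i, 1 ≤ i → i + 2 ≤ n → g i ∈ Z := fun i hi hin => by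
    have := commutator_mem_Gf (hS i hi) (hS (n - 1 - i) (by omega))
    rwa [show i + (n - 1 - i) = n - 1 by omega] at this
  have hcZ : ∀ i, 1 ≤ i → i + 3 ≤ n → ⁅S i, S (n - 2 - i)⁆ ∈ Gf X (n - 2) := fun i hi hin => by
    have := commutator_mem_Gf (hS i hi) (hS (n - 2 - i) (by omega))
    rwa [show i + (n - 2 - i) = n - 2 by omega] at this
  have hfZ : ∀ i, 1 ≤ i → i + 3 ≤ n → f i ∈ Z := fun i hi hin => by
    have := commutator_mem_Gf (hcZ i hi hin) (show s ∈ Gf X 1 from mem_top s)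
    rwa [show n - 2 + 1 = n - 1 by omega] at this
  -- `f i = g (i+1) g i`
  have hfg : ∀ i, 1 ≤ i → i + 3 ≤ n → f i = g (i + 1) * g i := by
    intro i hi hin
    obtain ⟨j, hj⟩ : ∃ j, j = n - 2 - i := ⟨_, rfl⟩
    have hj1 : 1 ≤ j := by omega
    have hc' := hcZ i hi hin
    rw [← hj] at hc'
    have hw : S (j + 1) = ⁅S j, s⁆ := hSs j hj1
    have hw' : S (i + 1) = ⁅S i, s⁆ := hSs i hi
    have e := shift_eq (S i) (S j) s
    rw [← hw, ← hw', expand_eq] at e
    have hu := inv_mem (hS (i + 1) (by omega))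
    have hv := inv_mem (hS (j + 1) (by omega))
    have hA : ⁅S i, (S (j + 1))⁻¹⁆ ∈ Z := by
      have := commutator_mem_Gf (hS i hi) hv
      rwa [show i + (j + 1) = n - 1 by omega] at this
    have hB : ⁅(S (i + 1))⁻¹, S j⁆ ∈ Z := by
      have := commutator_mem_Gf hu (hS j hj1)
      rwa [show (i + 1) + j = n - 1 by omega] at this
    have hv0 := commutatorElement_eq_one_iff_mul_comm.mp (comm_eq_one hX hc (by omega) hv hc')
    have hu0 := commutatorElement_eq_one_iff_mul_comm.mp (comm_eq_one hX hc (by omega) hu hc')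
    rw [← expand_eq, expand_fix (show Commute _ _ from hv0) (central hX hc hA _)
      (show Commute _ _ from hu0) (central hX hc hB _), comm_eq_one hX hc (by omega) hu hv, mul_one,
      comm_inv_right, comm_inv_left] at e
    have hA' : ⁅S i, S (j + 1)⁆⁻¹ ∈ Z := by
      have := commutator_mem_Gf (hS i hi) (hS (j + 1) (by omega))
      rw [show i + (j + 1) = n - 1 by omega] at this
      exact inv_mem this
    have hB' : ⁅S (i + 1), S j⁆⁻¹ ∈ Z := by
      have := commutator_mem_Gf (hS (i + 1) (by omega)) (hS j hj1)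
      rw [show (i + 1) + j = n - 1 by omega] at this
      exact inv_mem this
    rw [central hX hc hA', inv_mul_cancel_right, central hX hc hB', inv_mul_cancel_right] at e
    show ⁅⁅S i, S (n - 2 - i)⁆, s⁆ = g (i + 1) * g i
    rw [← hj, commutatorElement_def, mul_assoc, mul_assoc, ← mul_assoc s,
      show s * ⁅S i, S j⁆⁻¹ * s⁻¹ = (s * ⁅S i, S j⁆ * s⁻¹)⁻¹ by group, e]
    simp only [g, show n - 1 - i = j + 1 by omega, show n - 1 - (i + 1) = j by omega, mul_inv_rev,
      inv_inv]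
    rw [← mul_assoc ⁅S i, S j⁆, central hX hc (inv_mem_iff.mp hB') ⁅S i, S j⁆, mul_assoc,
      mul_inv_cancel_left]
  -- skew symmetry
  have hgskew : ∀ i, i + 2 ≤ n → g (n - 1 - i) = (g i)⁻¹ := fun i hin => by
    show ⁅S (n - 1 - i), S (n - 1 - (n - 1 - i))⁆ = _
    rw [show n - 1 - (n - 1 - i) = i by omega, ← commutatorElement_inv]
  have hfskew : f (n - 3) = (f 1)⁻¹ := by
    show ⁅⁅S (n - 3), S (n - 2 - (n - 3))⁆, s⁆ = _
    have hc1 := inv_mem (hcZ 1 le_rfl (by omega))
    rw [show n - 2 - (n - 3) = 1 by omega, show S (n - 3) = S (n - 2 - 1) from rfl,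
      ← commutatorElement_inv (S 1), comm_inv_left]
    show _ = (⁅⁅S 1, S (n - 2 - 1)⁆, s⁆)⁻¹
    rw [central hX hc (inv_mem (hfZ 1 le_rfl (by omega))), inv_mul_cancel_right]
  -- consecutive `f` are inverse
  have hfstep : ∀ i, 1 ≤ i → i + 4 ≤ n → f i * f (i + 1) = 1 := by
    intro i hi hin
    obtain ⟨j, hj⟩ : ∃ j, j = n - 3 - i := ⟨_, rfl⟩
    have hj1 : 1 ≤ j := by omega
    have hc2 : ⁅S i, S j⁆ ∈ Gf X (n - 2) := by
      rcases Nat.lt_or_ge j 2 with hj2 | hj2
      · have hi2 : 2 ≤ i := by omega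
        obtain rfl : j = 1 := by omega
        rw [← commutatorElement_inv]
        refine inv_mem ?_
        have := commutator_le.mp (hM 1 le_rfl i hi2 (by omega)) _ (sq_mem (s := s) hX hc ha 1 le_rfl) _
          (hS i hi)
        rwa [show 1 + i + 1 = n - 2 by omega] at this
      · have := commutator_le.mp (hM i hi j hj2 (by omega)) _ (sq_mem (s := s) hX hc ha i hi) _ (hS j hj1)
        rwa [show i + j + 1 = n - 2 by omega] at this
    have hw : S (j + 1) = ⁅S j, s⁆ := hSs j hj1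
    have hw' : S (i + 1) = ⁅S i, s⁆ := hSs i hi
    have e := shift_eq (S i) (S j) s
    rw [← hw, ← hw', expand_eq] at e
    have hu := inv_mem (hS (i + 1) (by omega))
    have hv := inv_mem (hS (j + 1) (by omega))
    have hA : ⁅S i, S (j + 1)⁆ ∈ Gf X (n - 2) := by
      have := commutator_mem_Gf (hS i hi) (hS (j + 1) (by omega))
      rwa [show i + (j + 1) = n - 2 by omega] at this
    have hB : ⁅S (i + 1), S j⁆ ∈ Gf X (n - 2) := by
      have := commutator_mem_Gf (hS (i + 1) (by omega)) (hS j hj1)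
      rwa [show (i + 1) + j = n - 2 by omega] at this
    have hD : ⁅(S (i + 1))⁻¹, (S (j + 1))⁻¹⁆ ∈ Z := by
      have := commutator_mem_Gf hu hv
      rwa [show (i + 1) + (j + 1) = n - 1 by omega] at this
    have hfix : ∀ {k : ℕ} {u z : X}, 2 ≤ k → u ∈ Gf X k → z ∈ Gf X (n - 2) → u * z * u⁻¹ = z :=
      fun hk hu' hz => by
        rw [commutatorElement_eq_one_iff_mul_comm.mp (comm_eq_one hX hc (by omega) hu' hz),
          mul_inv_cancel_right]
    have hcomf : ∀ {k : ℕ} {u z : X}, 2 ≤ k → u ∈ Gf X k → z ∈ Gf X (n - 2) → Commute u z :=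
      fun hk hu' hz => commutatorElement_eq_one_iff_mul_comm.mp (comm_eq_one hX hc (by omega) hu' hz)
    have e1 : ⁅S i, (S (j + 1))⁻¹⁆ = ⁅S i, S (j + 1)⁆⁻¹ := by
      rw [comm_inv_right]
      simpa using hfix (by omega : 2 ≤ j + 1) hv (inv_mem hA)
    have e2 : ⁅(S (i + 1))⁻¹, S j⁆ = ⁅S (i + 1), S j⁆⁻¹ := by
      rw [comm_inv_left]
      simpa using hfix (by omega : 2 ≤ i + 1) hu (inv_mem hB)
    rw [← expand_eq, expand_fix (hcomf (by omega : 2 ≤ j + 1) hv hc2)
      (by rw [e1]; exact hcomf (by omega : 2 ≤ i + 1) hu (inv_mem hA))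
      (hcomf (by omega : 2 ≤ i + 1) hu hc2)
      (by rw [e2]; exact hcomf (by omega : 2 ≤ j + 1) hv (inv_mem hB)), e1, e2] at e
    -- modulo the centre: `[S i, S (j+1)] [S (i+1), S j]` is central
    obtain ⟨c, hcdef⟩ : ∃ c, c = ⁅S i, S j⁆ := ⟨_, rfl⟩
    obtain ⟨A, hAdef⟩ : ∃ A, A = ⁅S i, S (j + 1)⁆ := ⟨_, rfl⟩
    obtain ⟨B, hBdef⟩ : ∃ B, B = ⁅S (i + 1), S j⁆ := ⟨_, rfl⟩
    obtain ⟨D, hDdef⟩ : ∃ D, D = ⁅(S (i + 1))⁻¹, (S (j + 1))⁻¹⁆ := ⟨_, rfl⟩
    rw [← hcdef, ← hAdef, ← hBdef, ← hDdef] at e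
    rw [← hcdef] at hc2
    rw [← hAdef] at hA
    rw [← hBdef] at hB
    rw [← hDdef] at hD
    have hcs : ⁅c, s⁆ ∈ Z := by
      have := commutator_mem_Gf hc2 (show s ∈ Gf X 1 from mem_top s)
      rwa [show n - 2 + 1 = n - 1 by omega] at this
    have hcomm : ∀ {x y : X}, x ∈ Gf X (n - 2) → y ∈ Gf X (n - 2) → x * y = y * x := fun hx hy =>
      commutatorElement_eq_one_iff_mul_comm.mp (comm_eq_one hX hc (by omega) hx hy)
    have hAB : B * A ∈ Z := by
      have h1 : ⁅c, s⁆ = c * (A⁻¹ * c * D * B⁻¹)⁻¹ := by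
        rw [← e, commutatorElement_def]; group
      have hDG : D ∈ Gf X (n - 2) := Gf_antitone (by omega) hD
      have h2 : c * (A⁻¹ * c * D * B⁻¹)⁻¹ = B * A * D⁻¹ := by
        have h3 : A⁻¹ * c * D * B⁻¹ = A⁻¹ * D * B⁻¹ * c := by
          simp only [mul_assoc]
          rw [hcomm hc2 (mul_mem hDG (inv_mem hB)), mul_assoc]
        have h4 : c * c⁻¹ = (1 : X) := mul_inv_cancel c
        rw [h3, mul_inv_rev, ← mul_assoc, h4, one_mul, mul_inv_rev, mul_inv_rev, inv_inv, inv_inv,
          hcomm (inv_mem hDG) hA, mul_assoc]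
      rw [h2] at h1
      have := mul_mem hcs hD
      rw [h1] at this
      simpa [mul_assoc] using this
    have hφ : ⁅B * A, s⁆ = ⁅B, s⁆ * ⁅A, s⁆ := by
      have h3 : ⁅A, s⁆ ∈ Z := by
        have := commutator_mem_Gf hA (show s ∈ Gf X 1 from mem_top s)
        rwa [show n - 2 + 1 = n - 1 by omega] at this
      have h4 : ⁅B * A, s⁆ = B * ⁅A, s⁆ * B⁻¹ * ⁅B, s⁆ := by
        simp only [commutatorElement_def]; group
      rw [h4, central hX hc h3 B, mul_inv_cancel_right, central hX hc h3]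
    have h5 : ⁅B * A, s⁆ = 1 := comm_eq_one hX hc (j := 1) (by omega) hAB (mem_top s)
    rw [h5, hBdef, hAdef] at hφ
    show ⁅⁅S i, S (n - 2 - i)⁆, s⁆ * ⁅⁅S (i + 1), S (n - 2 - (i + 1))⁆, s⁆ = 1
    rw [show n - 2 - i = j + 1 by omega, show n - 2 - (i + 1) = j by omega,
      ← central hX hc (by
        have := commutator_mem_Gf (hcZ i hi (by omega)) (show s ∈ Gf X 1 from mem_top s)
        rwa [show n - 2 - i = j + 1 by omega, show n - 2 + 1 = n - 1 by omega] at this)]
    exact hφ.symm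
  obtain ⟨F, hF⟩ : ∃ F, F = f 1 := ⟨_, rfl⟩
  have hfpow : ∀ i, 1 ≤ i → i + 3 ≤ n → f i = F ^ ((-1 : ℤ) ^ (i + 1)) := by
    intro i hi
    induction i, hi using Nat.le_induction with
    | base => intro _; simp [hF]
    | succ i hi ih =>
      intro hin
      have h := hfstep i hi (by omega)
      rw [ih (by omega)] at h
      rw [eq_inv_of_mul_eq_one_right h, ← zpow_neg]
      congr 1
      ring
  have hFne : F ≠ 1 := by
    intro h1
    rw [hF] at h1
    apply hanot
    refine Blackburn20.mem_Ct_of_exact hX hc (by omega) (by omega) (hS (n - 3) (by omega))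
      (by
        have := sq_notMem hX hc (by omega) ha hs hgen (n - 3) (by omega) (by omega)
        exact this) ?_
    rw [show n - 3 + 2 = n - 1 by omega]
    rw [← commutatorElement_inv]
    refine inv_mem ?_
    by_contra hcon
    refine hs.2 (n - 2) (by omega) (by omega) (Blackburn20.mem_Ct_of_exact hX hc (by omega) (by omega)
      (hcZ 1 le_rfl (by omega)) (by
        rw [show n - 2 + 1 = n - 1 by omega, show n - 2 - 1 = n - 3 by omega]
        exact hcon) ?_)
    rw [show ⁅⁅S 1, S (n - 2 - 1)⁆, s⁆ = f 1 from rfl, h1]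
    exact one_mem _
  have hFp : orderOf F = p := by
    refine orderOf_eq_prime ?_ hFne
    have hZc : Nat.card Z = p := by
      show Nat.card (Gf X (n - 1)) = p
      rw [S3806.card_gf hX hc (by omega) (by omega) (by omega), show n - (n - 1) = 1 by omega, pow_one]
    exact PGroupsBasic.pow_eq_one_of_card hZc (hF ▸ hfZ 1 le_rfl (by omega))
  have hdvd : ∀ k : ℤ, F ^ k = 1 → (p : ℤ) ∣ k := fun k hk =>
    hFp ▸ orderOf_dvd_iff_zpow_eq_one.mpr hk
  -- `n` is odd
  have hodd : Odd n := by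
    by_contra hev
    rw [Nat.not_odd_iff_even] at hev
    have h := hfpow (n - 3) (by omega) (by omega)
    rw [hfskew, ← hF, Even.neg_one_pow (by
      rw [show n - 3 + 1 = n - 2 by omega]
      exact (Nat.even_sub (by omega)).mpr (iff_of_true hev even_two)), zpow_one] at h
    have h2 : F ^ (2 : ℤ) = 1 := by
      rw [zpow_two]; nth_rewrite 1 [← h]; rw [inv_mul_cancel]
    have := Int.natCast_dvd_natCast.mp (hdvd 2 h2)
    exact hp2 ((Nat.prime_dvd_prime_iff_eq hp.out Nat.prime_two).mp this)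
  -- `a` centralises `G_{n-2}`
  have hg1 : g 1 = 1 := by
    obtain ⟨c, hcdef⟩ : ∃ c, c = ⁅S 2, S (n - 4)⁆ := ⟨_, rfl⟩
    have hcm : c ∈ Gf X (n - 2) := by
      have := hcZ 2 (by omega) (by omega)
      rwa [show n - 2 - 2 = n - 4 by omega, ← hcdef] at this
    have hcnot : c ∉ Gf X (n - 2 + 1) := fun h => by
      have h2 := hfpow 2 (by omega) (by omega)
      rw [show f 2 = ⁅c, s⁆ by rw [hcdef]; rfl,
        comm_eq_one hX hc (j := 1) (by omega) h (mem_top s)] at h2
      have h3 := hdvd _ h2.symm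
      norm_num at h3
      exact hp.out.one_lt.ne' (Nat.eq_one_of_dvd_one (by exact_mod_cast (show (p:ℤ) ∣ ((1:ℕ):ℤ) by simpa using h3)))
    have hfixc : a ∈ centralizer ({c} : Set X) := by
      have ha' := mem_Ct.mp ha
      have ht : ⁅a, S 2⁆ ∈ Gf X 4 := by
        rw [← commutatorElement_inv]; exact inv_mem (ha' _ (hS 2 (by omega)))
      have ht' : ⁅a, S (n - 4)⁆ ∈ Gf X (n - 2) := by
        rw [← commutatorElement_inv]
        refine inv_mem ?_
        have h := ha
        rw [← hlow (n - 4) (by omega) le_rfl] at h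
        have := mem_Ct.mp h _ (hS (n - 4) (by omega))
        rwa [show n - 4 + 2 = n - 2 by omega] at this
      have e : a * c * a⁻¹ = c := by
        have e1 : ⁅S 2, ⁅a, S (n - 4)⁆⁆ = 1 := comm_eq_one hX hc (by omega) (hS 2 (by omega)) ht'
        have e2 : ⁅⁅a, S 2⁆, S (n - 4)⁆ = 1 := comm_eq_one hX hc (by omega) ht (hS (n - 4) (by omega))
        have c1 : Commute ⁅a, S (n - 4)⁆ ⁅S 2, S (n - 4)⁆ :=
          commutatorElement_eq_one_iff_mul_comm.mp (comm_eq_one hX hc (by omega) ht' (hcdef ▸ hcm))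
        have c2 : Commute ⁅a, S 2⁆ ⁅S 2, S (n - 4)⁆ :=
          commutatorElement_eq_one_iff_mul_comm.mp (comm_eq_one hX hc (by omega) ht (hcdef ▸ hcm))
        rw [hcdef, show a * ⁅S 2, S (n - 4)⁆ * a⁻¹ =
          ⁅⁅a, S 2⁆ * S 2, ⁅a, S (n - 4)⁆ * S (n - 4)⁆ by simp only [commutatorElement_def]; group,
          expand_fix c1 (by rw [e1]; exact Commute.one_right _) c2
            (by rw [e2]; exact Commute.one_right _),
          e1, e2, comm_eq_one hX hc (by omega) ht ht', one_mul, mul_one, mul_one]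
      rw [mem_centralizer_singleton_iff]
      exact mul_inv_eq_iff_eq_mul.mp e
    have hle : Gf X (n - 2) ≤ centralizer ({a} : Set X) :=
      S3806.eq_of_mem_of_notMem hX hc (by omega) (by omega) (by omega)
        (fun z hz => mem_centralizer_singleton_iff.mpr
          ((central hX hc (by rwa [show n - 2 + 1 = n - 1 by omega] at hz) a).symm))
        (mem_centralizer_singleton_iff.mpr (mem_centralizer_singleton_iff.mp hfixc).symm) hcm hcnot
    show ⁅S 1, S (n - 1 - 1)⁆ = 1
    exact commutatorElement_eq_one_iff_mul_comm.mpr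
      (mem_centralizer_singleton_iff.mp (hle (by
        have := hS (n - 1 - 1) (by omega)
        rwa [show n - 1 - 1 = n - 2 by omega] at this ⊢))).symm
  have hgpow : ∀ k, k + 3 ≤ n → g (k + 1) = F ^ ((-1 : ℤ) ^ (k + 1) * k) := by
    intro k
    induction k with
    | zero => intro _; simp [hg1]
    | succ k ih =>
      intro hk
      have h := hfg (k + 1) (by omega) (by omega)
      rw [eq_comm, ← eq_mul_inv_iff_mul_eq] at h
      rw [h, hfpow (k + 1) (by omega) (by omega), ih (by omega), ← zpow_neg, ← zpow_add]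
      congr 1
      push_cast
      ring
  obtain ⟨m, hm⟩ := hodd
  have hgm : g m = 1 := by
    show ⁅S m, S (n - 1 - m)⁆ = 1
    rw [show n - 1 - m = m by omega, commutatorElement_self]
  have h := hgpow (m - 1) (by omega)
  rw [show m - 1 + 1 = m by omega, hgm] at h
  have h2 := hdvd _ h.symm
  rw [IsUnit.dvd_mul_left ((isUnit_one.neg).pow _)] at h2
  have h3 := Nat.le_of_dvd (by omega) (Int.natCast_dvd_natCast.mp h2)
  omega

omit hX hc in
/-- **Blackburn**: the two-step centralisers below the top one coincide. -/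
theorem Ct_low (hp2 : p ≠ 2) : ∀ (n : ℕ) (X : Type*) [Group X] [Finite X], Nat.card X = p ^ n →
    Group.nilpotencyClass X = n - 1 → ∀ i, 2 ≤ i → i + 3 ≤ n → Ct X i = Ct X 2 := by
  intro n
  induction n using Nat.strong_induction_on with
  | _ n ih =>
    intro X _ _ hX hc i h1 hi
    by_cases hnp : p + 2 ≤ n
    · exact Blackburn20.Ct_eq_two hp2 n X hX hc hnp i h1 (by omega)
    by_cases h2 : i = 2
    · rw [h2]
    obtain ⟨hZ, hQ, hQc, -⟩ := MaxClassTwo.center_of_maxClass (by omega) hX hc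
    let π := QuotientGroup.mk' (center X)
    have hker : Gf X (n - 1) = center X := by
      refine eq_of_le_of_card_ge (fun z hz => mem_center_iff.mpr fun g => central hX hc hz g) ?_
      rw [hZ, S3806.card_gf hX hc (by omega) (by omega) (by omega),
        show n - (n - 1) = 1 by omega, pow_one]
    have hsurj : Function.Surjective π := QuotientGroup.mk'_surjective _
    have hcomap : ∀ j, j + 3 ≤ n → Ct X j = (Ct (X ⧸ center X) j).comap π := by
      intro j hj
      ext w
      rw [mem_comap, mem_Ct, mem_Ct, ← Blackburn20.map_gf hsurj, ← Blackburn20.map_gf hsurj]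
      constructor
      · rintro h _ ⟨z, hz, rfl⟩
        rw [← map_commutatorElement]
        exact mem_map_of_mem π (h z hz)
      · intro h z hz
        obtain ⟨t, ht, e⟩ := h _ (mem_map_of_mem π hz)
        rw [← map_commutatorElement, QuotientGroup.mk'_eq_mk'] at e
        obtain ⟨c, hc', e⟩ := e
        rw [← e]
        exact mul_mem ht (Gf_antitone (show j + 2 ≤ n - 1 by omega) (hker.ge hc'))
    have low : ∀ j, 2 ≤ j → j + 4 ≤ n → Ct X j = Ct X 2 := fun j hj hj' => by
      rw [hcomap j (by omega), hcomap 2 (by omega),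
        ih (n - 1) (by omega) (X ⧸ center X) hQ (by rw [hQc]; omega) j hj (by omega)]
    by_cases hin : i + 4 ≤ n
    · exact low i h1 hin
    obtain rfl : i = n - 3 := by omega
    exact top_step hX hc hp2 (by omega) (by omega) fun k hk hk' => low k hk (by omega)

variable (hp2 : p ≠ 2)
include hp2

/-- In the exceptional case the top pairings are nontrivial at every level. -/
theorem top_pairing_iff (hn : 5 ≤ n) : ∀ k, 1 ≤ k → k + 3 ≤ n →
    (⁅Mf X k, Gf X (n - 1 - k)⁆ = ⊥ ↔ Ct X (n - 2) = Ct X 2) := by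
  intro k hk
  induction k, hk using Nat.le_induction with
  | base =>
    intro _
    have hcZ : ∀ z ∈ Gf X (n - 2), ∀ w : X, ⁅z, w⁆ ∈ Gf X (n - 2 + 2) ↔ ⁅w, z⁆ = 1 := fun z hz w => by
      rw [S3806.gf_bot hX hc (by omega), mem_bot, ← commutatorElement_inv w z, inv_eq_one]
    rw [show n - 1 - 1 = n - 2 by omega, Mf_one]
    constructor
    · intro h
      refine (Blackburn20.Ct_eq_of_le hX hc le_rfl (by omega) (by omega) (by omega) fun w hw =>
        mem_Ct.mpr fun z hz => (hcZ z hz w).mpr ?_).symm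
      exact mem_bot.mp (h ▸ commutator_mem_commutator hw hz)
    · intro h
      rw [eq_bot_iff, commutator_le]
      intro w hw z hz
      rw [← h, mem_Ct] at hw
      exact mem_bot.mpr ((hcZ z hz w).mp (hw z hz))
  | succ k hk ih =>
    intro hkn
    rw [← ih (by omega)]
    obtain ⟨j, hj⟩ : ∃ j, j = n - 2 - k := ⟨_, rfl⟩
    rw [show n - 1 - (k + 1) = j by omega, show n - 1 - k = j + 1 by omega]
    have hcen : ⁅⁅Mf X k, Gf X j⁆, (⊤ : Subgroup X)⁆ = ⊥ := by
      have hle : ⁅Mf X k, Gf X j⁆ ≤ Gf X (n - 1) := by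
        have hlow : ∀ i, 2 ≤ i → i ≤ n - 3 → Ct X i = Ct X 2 := fun i h1 h2 =>
          Ct_low hp2 n X hX hc i h1 (by omega)
        refine (Mf_comm hX hc (by omega) hlow k hk j (by omega) (by omega)).trans (le_of_eq ?_)
        congr 1; omega
      rw [eq_bot_iff]
      refine (commutator_mono hle le_rfl).trans ?_
      rw [commutator_le]
      intro z hz g _
      exact mem_bot.mpr (commutatorElement_eq_one_iff_mul_comm.mpr (central hX hc hz g).symm)
    have hM1 : Mf X (k + 1) = ⁅Mf X k, (⊤ : Subgroup X)⁆ := by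
      rw [Mf_of_two_le (by omega), Mf_succ hX hc (by omega) hk]
    rw [hM1, S3806.gf_succ (by omega : 1 ≤ j)]
    have r2 : ⁅⁅Gf X j, Mf X k⁆, (⊤ : Subgroup X)⁆ ≤ ⊥ := by
      rw [commutator_comm (Gf X j), hcen]
    constructor
    · intro h
      rw [eq_bot_iff, commutator_comm] at h ⊢
      refine commutator_rotate_le ?_ (commutator_comm (Mf X k) (Gf X j) ▸ hcen.le)
      rw [commutator_comm (⊤ : Subgroup X), commutator_comm ⁅Mf X k, _⁆]
      exact h
    · intro h
      rw [eq_bot_iff] at h ⊢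
      refine commutator_rotate_le ?_ r2
      rw [commutator_comm (⊤ : Subgroup X), commutator_comm]
      exact h

/-- The exceptional case has even order exponent. -/
theorem even_of_exceptional (hn : 5 ≤ n) (h : Ct X (n - 2) ≠ Ct X 2) : Even n := by
  by_contra hodd
  rw [Nat.not_even_iff_odd] at hodd
  obtain ⟨m, hm⟩ := hodd
  apply h
  rw [← top_pairing_iff hX hc hp2 hn m (by omega) (by omega), show n - 1 - m = m by omega,
    Mf_of_two_le (by omega), eq_bot_iff, commutator_le]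
  obtain ⟨a, ha, ha'⟩ := SetLike.exists_of_lt (S3806.gf_lt hX hc (i := m) (by omega) (by omega))
  have hsub : ∀ {y z : X}, y ∈ Gf X m → z ∈ Gf X (m + 1) → y * z = z * y := fun hy hz =>
    commutatorElement_eq_one_iff_mul_comm.mp (comm_eq_one hX hc (by omega) hy hz)
  intro x hx y hy
  refine mem_bot.mpr (commutatorElement_eq_one_iff_mul_comm.mpr ?_)
  have h1 : Gf X m ≤ centralizer ({a} : Set X) :=
    S3806.eq_of_mem_of_notMem hX hc (by omega) (by omega) (by omega)
      (fun z hz => mem_centralizer_singleton_iff.mpr (hsub ha hz).symm)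
      (mem_centralizer_singleton_iff.mpr rfl) ha ha'
  have h2 : Gf X m ≤ centralizer ({x} : Set X) :=
    S3806.eq_of_mem_of_notMem hX hc (by omega) (by omega) (by omega)
      (fun z hz => mem_centralizer_singleton_iff.mpr (hsub hx hz).symm)
      (mem_centralizer_singleton_iff.mpr (mem_centralizer_singleton_iff.mp (h1 hx)).symm) ha ha'
  exact (mem_centralizer_singleton_iff.mp (h2 hy)).symm

/-- In the exceptional case every element of `G_k` outside `G_{k+1}` pairs nontrivially with every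
element of `G_{n-1-k}` outside `G_{n-k}`. -/
theorem pairing_ne_one (hn : 5 ≤ n) (h : Ct X (n - 2) ≠ Ct X 2) {k : ℕ} (h1 : 2 ≤ k)
    (h2 : k + 3 ≤ n) {a b : X} (ha : a ∈ Gf X k) (ha' : a ∉ Gf X (k + 1))
    (hb : b ∈ Gf X (n - 1 - k)) (hb' : b ∉ Gf X (n - k)) : ⁅a, b⁆ ≠ 1 := by
  intro hab
  apply h
  rw [← top_pairing_iff hX hc hp2 hn k (by omega) (by omega), Mf_of_two_le h1, eq_bot_iff,
    commutator_le]
  have hKa : Gf X (n - 1 - k) ≤ centralizer ({a} : Set X) := by
    refine S3806.eq_of_mem_of_notMem hX hc (by omega) (by omega) (by omega) (fun z hz => ?_)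
      (mem_centralizer_singleton_iff.mpr (commutatorElement_eq_one_iff_mul_comm.mp hab).symm) hb
      (by rwa [show n - 1 - k + 1 = n - k by omega])
    exact mem_centralizer_singleton_iff.mpr
      (commutatorElement_eq_one_iff_mul_comm.mp (comm_eq_one hX hc (by omega) ha hz)).symm
  intro x hx y hy
  refine mem_bot.mpr (commutatorElement_eq_one_iff_mul_comm.mpr ?_)
  have h3 : Gf X k ≤ centralizer ({y} : Set X) := by
    refine S3806.eq_of_mem_of_notMem hX hc (by omega) h1 (by omega) (fun z hz => ?_)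
      (mem_centralizer_singleton_iff.mpr (mem_centralizer_singleton_iff.mp (hKa hy)).symm) ha ha'
    exact mem_centralizer_singleton_iff.mpr
      (commutatorElement_eq_one_iff_mul_comm.mp (comm_eq_one hX hc (by omega) hy hz)).symm
  exact mem_centralizer_singleton_iff.mp (h3 hx)

end Cfsg.Agent.MaxClassDegree94
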