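import Mathlib
import Cfsg.Agent.Lib.MaxClassDegree94

/-!
Self-centralising abelian subgroups of order `p ^ 3` with normalizer of order `p ^ 4` in a `p`-group
of maximal class of order `p ^ n`, `n ≥ 5`.
-/

set_option autoImplicit false

open Subgroup
open scoped commutatorElement

namespace Cfsg.Agent.MaxClassSoft94

open PGroupsHallPetrescu (Gf Gf_antitone commutator_mem_Gf)
open Blackburn20 (Ct mem_Ct IsUniform)
open MaxClassDegree94 (central comm_eq_one expand_eq)

variable {X : Type*} [Group X]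

/-- An abelian self-centralising subgroup of order `p ^ 3` with normalizer of order `p ^ 4`. -/
structure Good (p : ℕ) (E : Subgroup X) : Prop where
  card : Nat.card E = p ^ 3
  comm : ∀ a ∈ E, ∀ b ∈ E, a * b = b * a
  cent : centralizer (E : Set X) ≤ E
  norm : Nat.card (normalizer (E : Set X)) = p ^ 4

/-- `⟨e⟩ G_j`. -/
def Dj (e : X) (j : ℕ) : Subgroup X := zpowers e ⊔ Gf X j

theorem mem_Dj_iff {e x : X} {j : ℕ} : x ∈ Dj e j ↔ ∃ k : ℤ, ∃ g ∈ Gf X j, x = e ^ k * g := by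
  constructor
  · intro hx
    obtain ⟨y, hy, g, hg, rfl⟩ := mem_sup_of_normal_right.mp hx
    obtain ⟨k, rfl⟩ := mem_zpowers_iff.mp hy
    exact ⟨k, g, hg, rfl⟩
  · rintro ⟨k, g, hg, rfl⟩
    exact mul_mem (mem_sup_left (zpow_mem (mem_zpowers e) k)) (mem_sup_right hg)

theorem gf_le_Dj (e : X) (j : ℕ) : Gf X j ≤ Dj e j := le_sup_right

theorem self_mem_Dj (e : X) (j : ℕ) : e ∈ Dj e j := mem_sup_left (mem_zpowers e)

theorem mem_normalizer_of_forall [Finite X] {H : Subgroup X} {g : X}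
    (h : ∀ x ∈ H, ⁅g, x⁆ ∈ H) : g ∈ normalizer (H : Set X) := by
  refine mem_normalizer_fintype fun x hx => ?_
  have := mul_mem (h x hx) hx
  rwa [show ⁅g, x⁆ * x = g * x * g⁻¹ by rw [commutatorElement_def]; group] at this

variable [Finite X] {p n : ℕ} [hp : Fact p.Prime]
  (hX : Nat.card X = p ^ n) (hc : Group.nilpotencyClass X = n - 1) (hp2 : p ≠ 2) (hn : 5 ≤ n)

include hX hc hn

theorem card_gf' {i : ℕ} (h1 : 2 ≤ i) (h2 : i ≤ n) : Nat.card (Gf X i) = p ^ (n - i) :=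
  S3806.card_gf hX hc (by omega) h1 h2

theorem card_Ct {i : ℕ} (h1 : 2 ≤ i) (h2 : i + 2 ≤ n) : Nat.card (Ct X i) = p ^ (n - 1) := by
  have h := card_mul_index (Ct X i)
  rw [Blackburn20.index_Ct hX hc h1 h2, hX, show p ^ n = p ^ (n - 1) * p by
    rw [← pow_succ]; congr 1; omega] at h
  exact Nat.eq_of_mul_eq_mul_right hp.out.pos h

theorem Ct_eq_sup {i : ℕ} (h1 : 2 ≤ i) (h2 : i + 2 ≤ n) {a : X} (ha : a ∈ Ct X i)
    (ha2 : a ∉ Gf X 2) : zpowers a ⊔ Gf X 2 = Ct X i := by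
  refine eq_of_le_of_card_ge (sup_le (zpowers_le.mpr ha) (Blackburn20.gf_two_le_Ct i)) ?_
  rw [card_Ct hX hc hn h1 h2]
  obtain ⟨u, hu⟩ := IsPGroup.iff_card.mp ((IsPGroup.of_card hX).to_subgroup (zpowers a ⊔ Gf X 2))
  have hlt : Nat.card (Gf X 2) < Nat.card (zpowers a ⊔ Gf X 2 : Subgroup X) := by
    refine lt_of_le_of_ne (card_le_of_le le_sup_right) fun e => ha2 ?_
    rw [eq_of_le_of_card_ge le_sup_right e.ge]
    exact mem_sup_left (mem_zpowers a)
  rw [card_gf' hX hc hn le_rfl (by omega), hu] at hlt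
  rw [hu]
  have := (Nat.pow_lt_pow_iff_right hp.out.one_lt).mp hlt
  exact Nat.pow_le_pow_right hp.out.pos (by omega)

/-- `Ct X 2` is commutative modulo `G_4`. -/
theorem comm_Ct_two {x y : X} (hx : x ∈ Ct X 2) (hy : y ∈ Ct X 2) : ⁅x, y⁆ ∈ Gf X 4 := by
  obtain ⟨a, ha, ha2⟩ := MaxClassDegree94.exists_mem_Ct_two hX hc (by omega)
  have hdec : ∀ z ∈ Ct X 2, ∃ k : ℤ, ∃ g ∈ Gf X 2, z = a ^ k * g := fun z hz => by
    rw [← Ct_eq_sup hX hc hn le_rfl (by omega) ha ha2] at hz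
    obtain ⟨u, hu, g, hg, rfl⟩ := mem_sup_of_normal_right.mp hz
    obtain ⟨k, rfl⟩ := mem_zpowers_iff.mp hu
    exact ⟨k, g, hg, rfl⟩
  obtain ⟨k, g, hg, rfl⟩ := hdec x hx
  obtain ⟨l, g', hg', rfl⟩ := hdec y hy
  rw [expand_eq, show ⁅a ^ k, a ^ l⁆ = 1 from commutatorElement_eq_one_iff_mul_comm.mpr
    (Commute.zpow_zpow (Commute.refl a) k l).eq, mul_one]
  have h2 : ∀ (m : ℤ) {z : X}, z ∈ Gf X 2 → ⁅z, a ^ m⁆ ∈ Gf X 4 := fun m z hz =>
    mem_Ct.mp (zpow_mem ha m) z hz
  have hN : (Gf X 4).Normal := inferInstance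
  refine mul_mem ?_ (hN.conj_mem _ ?_ _)
  · rw [mul_assoc (a ^ k)]
    exact hN.conj_mem _ (mul_mem (h2 l hg) (hN.conj_mem _ (commutator_mem_Gf hg hg') _)) _
  · rw [← commutatorElement_inv]
    exact inv_mem (h2 k hg')

omit hn in
/-- Counting commutators with a fixed element. -/
theorem count_le {Y T W H : Subgroup X} {e : X} (hT : ∀ y ∈ Y, ⁅y, e⁆ ∈ T) (hWT : W ≤ T)
    (hHY : H ≤ Y) (hYW : ∀ y ∈ Y, ∀ w ∈ W, y * w * y⁻¹ ∈ W) (hTW : ∀ t ∈ T, ∀ w ∈ W, t * w * t⁻¹ ∈ W)
    (hH : ∀ y ∈ Y, ⁅y, e⁆ ∈ W → y ∈ H) : Nat.card Y * Nat.card W ≤ Nat.card T * Nat.card H := by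
  classical
  let f : Y ⧸ H.subgroupOf Y → T ⧸ W.subgroupOf T := fun q =>
    ((⟨⁅((q.out : Y) : X), e⁆, hT _ q.out.2⟩ : T) : T ⧸ W.subgroupOf T)
  have hinj : Function.Injective f := by
    intro q q' h
    have h' : (⁅((q.out : Y) : X), e⁆)⁻¹ * ⁅((q'.out : Y) : X), e⁆ ∈ W := by
      have := QuotientGroup.eq.mp h
      exact this
    rw [← QuotientGroup.out_eq' q, ← QuotientGroup.out_eq' q']
    refine QuotientGroup.eq.mpr ?_
    show ((q.out : Y) : X)⁻¹ * ((q'.out : Y) : X) ∈ H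
    refine hH _ (mul_mem (inv_mem q.out.2) q'.out.2) ?_
    set y : X := ((q.out : Y) : X)
    set y' : X := ((q'.out : Y) : X)
    have key : ⁅y⁻¹ * y', e⁆ = y⁻¹ * (⁅y, e⁆ * (⁅y, e⁆⁻¹ * ⁅y', e⁆) * ⁅y, e⁆⁻¹) * y⁻¹⁻¹ := by
      simp only [commutatorElement_def]; group
    rw [key]
    exact hYW _ (inv_mem q.out.2) _ (hTW _ (hT _ q.out.2) _ h')
  have h1 := Nat.card_le_card_of_injective f hinj
  have eY := card_mul_index (H.subgroupOf Y)
  have eT := card_mul_index (W.subgroupOf T)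
  rw [Nat.card_congr (subgroupOfEquivOfLe hHY).toEquiv] at eY
  rw [Nat.card_congr (subgroupOfEquivOfLe hWT).toEquiv] at eT
  rw [← eY, ← eT, Subgroup.index, Subgroup.index]
  nlinarith [Nat.mul_le_mul_left (Nat.card W * Nat.card H) h1]

variable {E : Subgroup X} (hE : Good p E)

include hE

theorem lt_normalizer_absurd {m : ℕ} (hm : 5 ≤ m) (h : p ^ m ≤ Nat.card (normalizer (E : Set X))) :
    False := by
  rw [hE.norm, Nat.pow_le_pow_iff_right hp.out.one_lt] at h
  omega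

theorem gf_top_le : Gf X (n - 1) ≤ E := fun z hz =>
  hE.cent (mem_centralizer_iff.mpr fun a _ => central hX hc hz a)

include hp2

theorem le_Ct_or : E ≤ Ct X 2 ∨ E ≤ Ct X (n - 2) := by
  by_contra h
  rw [not_or, SetLike.not_le_iff_exists, SetLike.not_le_iff_exists] at h
  obtain ⟨⟨a, haE, ha⟩, b, hbE, hb⟩ := h
  obtain ⟨x, hxE, hx1, hx2⟩ : ∃ x ∈ E, x ∉ Ct X 2 ∧ x ∉ Ct X (n - 2) := by
    by_cases h1 : a ∈ Ct X (n - 2)
    · by_cases h2 : b ∈ Ct X 2
      · refine ⟨a * b, mul_mem haE hbE, fun h => ha ?_, fun h => hb ?_⟩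
        · simpa using mul_mem h (inv_mem h2)
        · simpa [← mul_assoc] using mul_mem (inv_mem h1) h
      · exact ⟨b, hbE, h2, hb⟩
    · exact ⟨a, haE, ha, h1⟩
  have hu : IsUniform n x := by
    refine ⟨fun h => hx1 (Blackburn20.gf_two_le_Ct 2 h), fun i h1 h2 => ?_⟩
    by_cases h3 : i + 3 ≤ n
    · rwa [MaxClassDegree94.Ct_low hp2 n X hX hc i h1 h3]
    · rwa [show i = n - 2 by omega]
  have h1 := Blackburn20.card_centralizer_uniform hX hc (by omega) hu
  have h2 : E ≤ centralizer ({x} : Set X) := fun y hy =>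
    mem_centralizer_singleton_iff.mpr (hE.comm y hy x hxE)
  have h3 := card_le_of_le h2
  rw [h1, hE.card, Nat.pow_le_pow_iff_right hp.out.one_lt] at h3
  omega

omit hp2 in
theorem gf_two_top_le (h : E ≤ Ct X (n - 2)) : Gf X (n - 2) ≤ E := fun z hz =>
  hE.cent (mem_centralizer_iff.mpr fun a ha => by
    have := mem_Ct.mp (h ha) z hz
    rw [S3806.gf_bot hX hc (by omega), mem_bot, commutatorElement_eq_one_iff_mul_comm] at this
    exact this.symm)

omit hp2 in
theorem not_le_gf_two_of_five (h5 : n = 5) : ¬ E ≤ Gf X 2 := by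
  intro h
  have he : E = Gf X 2 := eq_of_le_of_card_ge h (by
    rw [hE.card, card_gf' hX hc hn le_rfl (by omega), h5])
  refine lt_normalizer_absurd hX hc hn hE le_rfl ?_
  rw [he, normalizer_eq_top, card_top, hX, h5]

/-- The three possible configurations. -/
theorem cases :
    (n = 5 ∧ E ≤ Ct X 2 ∧ E ≤ Ct X (n - 2) ∧ ¬ E ≤ Gf X 2) ∨
    (Even n ∧ 6 ≤ n ∧ Ct X (n - 2) ≠ Ct X 2 ∧ E ≤ Ct X (n - 2) ∧ ¬ E ≤ Ct X 2) ∨
    (n = 6 ∧ Ct X (n - 2) ≠ Ct X 2 ∧ E ≤ Ct X 2 ∧ ¬ E ≤ Ct X (n - 2)) := by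
  have hlow := MaxClassDegree94.Ct_low hp2 n X hX hc
  by_cases hA : E ≤ Ct X (n - 2)
  · by_cases h1 : E ≤ Ct X 2
    · by_cases h5 : n = 5
      · exact Or.inl ⟨h5, h1, hA, not_le_gf_two_of_five hX hc hn hE h5⟩
      exfalso
      have hZ2 := gf_two_top_le hX hc hn hE hA
      obtain ⟨e, heE, he⟩ : ∃ e ∈ E, e ∉ Gf X (n - 2) := by
        by_contra h
        push Not at h
        have := card_le_of_le h
        rw [hE.card, card_gf' hX hc hn (by omega) (by omega), show n - (n - 2) = 2 by omega,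
          Nat.pow_le_pow_iff_right hp.out.one_lt] at this
        omega
      have hEgen : zpowers e ⊔ Gf X (n - 2) = E := by
        refine eq_of_le_of_card_ge (sup_le (zpowers_le.mpr heE) hZ2) ?_
        obtain ⟨u, hu⟩ := IsPGroup.iff_card.mp
          ((IsPGroup.of_card hX).to_subgroup (zpowers e ⊔ Gf X (n - 2)))
        have hlt : Nat.card (Gf X (n - 2)) < Nat.card (zpowers e ⊔ Gf X (n - 2) : Subgroup X) := by
          refine lt_of_le_of_ne (card_le_of_le le_sup_right) fun h => he ?_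
          rw [eq_of_le_of_card_ge le_sup_right h.ge]
          exact mem_sup_left (mem_zpowers e)
        rw [card_gf' hX hc hn (by omega) (by omega), hu, show n - (n - 2) = 2 by omega] at hlt
        rw [hE.card, hu]
        have := (Nat.pow_lt_pow_iff_right hp.out.one_lt).mp hlt
        exact Nat.pow_le_pow_right hp.out.pos (by omega)
      let H : Subgroup X := normalizer (E : Set X) ⊓ Ct X 2
      have hcount := count_le hX hc (Y := Ct X 2) (T := Gf X 4) (W := Gf X (n - 2)) (H := H) (e := e)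
        (fun y hy => comm_Ct_two hX hc hn hy (h1 heE)) (Gf_antitone (by omega)) inf_le_right
        (fun y _ w hw => Normal.conj_mem inferInstance w hw y)
        (fun y _ w hw => Normal.conj_mem inferInstance w hw y)
        (fun y hy hye => ⟨by
          have hN : y ∈ normalizer ((zpowers e ⊔ Gf X (n - 2) : Subgroup X) : Set X) := by
            refine mem_normalizer_of_forall fun x hx => ?_
            obtain ⟨k, g, hg, rfl⟩ := mem_Dj_iff.mp hx
            have hye' : (QuotientGroup.mk' (Gf X (n - 2)) y) * (QuotientGroup.mk' _ e) =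
                (QuotientGroup.mk' _ e) * (QuotientGroup.mk' _ y) :=
              (S3806.comm_mem_iff _ _ _).mp hye
            refine mem_sup_right ((S3806.comm_mem_iff _ _ _).mpr ?_)
            rw [map_mul, (QuotientGroup.eq_one_iff g).mpr hg |> fun h =>
              (show QuotientGroup.mk' (Gf X (n - 2)) g = 1 from h), mul_one, map_zpow]
            exact (Commute.zpow_right hye' k).eq
          rwa [hEgen] at hN, hy⟩)
      have hH : Nat.card H ≤ p ^ 4 := (card_le_of_le inf_le_left).trans hE.norm.le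
      rw [card_Ct hX hc hn le_rfl (by omega), card_gf' hX hc hn (by omega) (by omega),
        card_gf' hX hc hn (by omega) (by omega), ← pow_add] at hcount
      have := hcount.trans (Nat.mul_le_mul le_rfl hH)
      rw [← pow_add, Nat.pow_le_pow_iff_right hp.out.one_lt] at this
      omega
    · have hne : Ct X (n - 2) ≠ Ct X 2 := fun h => h1 (h ▸ hA)
      have hev := MaxClassDegree94.even_of_exceptional hX hc hp2 hn hne
      have h6 : 6 ≤ n := by
        by_contra h
        obtain rfl : n = 5 := by omega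
        exact absurd hev (by decide)
      exact Or.inr (Or.inl ⟨hev, h6, hne, hA, h1⟩)
  · have h1 := (le_Ct_or hX hc hp2 hn hE).resolve_right hA
    have hne : Ct X (n - 2) ≠ Ct X 2 := fun h => hA (h ▸ h1)
    have hev := MaxClassDegree94.even_of_exceptional hX hc hp2 hn hne
    refine Or.inr (Or.inr ⟨?_, hne, h1, hA⟩)
    by_contra h6
    have h8 : 8 ≤ n := by
      obtain ⟨m, rfl⟩ := hev
      omega
    obtain ⟨e, heE, he⟩ := SetLike.not_le_iff_exists.mp hA
    have hW2 : E ⊓ Ct X (n - 2) ≤ Gf X 2 := by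
      intro x hx
      by_contra hx2
      have heq := Ct_eq_sup hX hc hn le_rfl (by omega) (h1 hx.1) hx2
      refine he (Ct_eq_sup hX hc hn (by omega : 2 ≤ n - 2) (by omega) hx.2 hx2 ▸ ?_)
      rw [heq]
      exact h1 heE
    let W : Subgroup X := E ⊓ Ct X (n - 2)
    have hTN : Gf X (n - 3) ≤ normalizer (E : Set X) := by
      intro y hy
      refine mem_normalizer_of_forall fun x hx => gf_top_le hX hc hn hE ?_
      have hx' := h1 hx
      rw [← hlow (n - 3) (by omega) (by omega)] at hx'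
      have := mem_Ct.mp hx' y hy
      rwa [show n - 3 + 2 = n - 1 by omega] at this
    let NG : Subgroup X := normalizer (E : Set X) ⊓ Gf X 2
    have hNG : NG = Gf X (n - 3) := by
      refine (eq_of_le_of_card_ge (le_inf hTN (Gf_antitone (by omega))) ?_).symm
      rw [card_gf' hX hc hn (by omega) (by omega), show n - (n - 3) = 3 by omega]
      obtain ⟨u, hu⟩ := IsPGroup.iff_card.mp ((IsPGroup.of_card hX).to_subgroup NG)
      have hlt : Nat.card NG < p ^ 4 := by
        refine lt_of_le_of_ne ((card_le_of_le inf_le_left).trans hE.norm.le) fun h => he ?_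
        have h2 : NG = normalizer (E : Set X) :=
          eq_of_le_of_card_ge inf_le_left (h ▸ hE.norm.le)
        exact Blackburn20.gf_two_le_Ct _ ((h2.ge.trans inf_le_right) (le_normalizer heE))
      rw [show Nat.card (↥(normalizer (E : Set X) ⊓ Gf X 2)) = p ^ u from hu] 
      rw [hu] at hlt
      have := (Nat.pow_lt_pow_iff_right hp.out.one_lt).mp hlt
      exact Nat.pow_le_pow_right hp.out.pos (by omega)
    have hWT : W ≤ Gf X (n - 3) := hNG ▸ le_inf (inf_le_left.trans le_normalizer) hW2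
    have hWc : ∀ {k : ℕ}, 3 ≤ k → ∀ y ∈ Gf X k, ∀ w ∈ W, y * w * y⁻¹ ∈ W := fun hk y hy w hw => by
      rw [commutatorElement_eq_one_iff_mul_comm.mp (comm_eq_one hX hc (by omega) hy (hWT hw)),
        mul_inv_cancel_right]
      exact hw
    have hcount := count_le hX hc (Y := Gf X 3) (T := Gf X 5) (W := W) (H := Gf X (n - 3)) (e := e)
      (fun y hy => by
        have h := h1 heE
        rw [← hlow 3 (by omega) (by omega)] at h
        exact mem_Ct.mp h y hy) (hWT.trans (Gf_antitone (by omega))) (Gf_antitone (by omega))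
      (fun y hy => hWc le_rfl y hy) (fun y hy => hWc (by omega : 3 ≤ 5) y hy)
      (fun y hy hye => by
        rw [← hNG]
        refine ⟨mem_normalizer_fintype fun x hx => ?_, Gf_antitone (by omega) hy⟩
        have hWe : W ≤ E := inf_le_left
        have hxd : ∃ k : ℤ, e ^ k * x ∈ W := by
          have h' : x ∈ zpowers e ⊔ Gf X 2 := by
            rw [Ct_eq_sup hX hc hn le_rfl (by omega) (h1 heE) fun h => he (Blackburn20.gf_two_le_Ct _ h)]
            exact h1 hx
          obtain ⟨u, hu, g, hg, hug⟩ := mem_sup_of_normal_right.mp h'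
          obtain ⟨k, rfl⟩ := mem_zpowers_iff.mp hu
          refine ⟨-k, mul_mem (zpow_mem heE _) hx, ?_⟩
          rw [← hug, zpow_neg, inv_mul_cancel_left]
          exact Blackburn20.gf_two_le_Ct _ hg
        obtain ⟨k, hk⟩ := hxd
        have h1' : y * e * y⁻¹ ∈ E := by
          have := mul_mem (hWe hye) heE
          rwa [show ⁅y, e⁆ * e = y * e * y⁻¹ by rw [commutatorElement_def]; group] at this
        have h2' := hWe (hWc le_rfl y hy _ hk)
        have := mul_mem (inv_mem (zpow_mem h1' k)) h2'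
        rwa [conj_zpow, show (y * e ^ k * y⁻¹)⁻¹ * (y * (e ^ k * x) * y⁻¹) = y * x * y⁻¹ by group]
          at this)
    have hWc2 : p ^ 2 ≤ Nat.card W := by
      have h := card_mul_index (W.subgroupOf E)
      rw [Nat.card_congr (subgroupOfEquivOfLe inf_le_left).toEquiv, hE.card] at h
      have hd : (W.subgroupOf E).index ∣ p := by
        rw [← Blackburn20.index_Ct hX hc (by omega : 2 ≤ n - 2) (by omega)]
        rw [inf_subgroupOf_left]
        exact relIndex_dvd_index_of_normal _ _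
      have hle := Nat.le_of_dvd hp.out.pos hd
      refine Nat.le_of_mul_le_mul_right ?_ hp.out.pos
      rw [← pow_succ, ← h]
      exact Nat.mul_le_mul_left _ hle
    rw [card_gf' hX hc hn (by omega) (by omega), card_gf' hX hc hn (by omega) (by omega),
      card_gf' hX hc hn (by omega) (by omega)] at hcount
    have := (Nat.mul_le_mul_left _ hWc2).trans hcount
    rw [← pow_add, ← pow_add, Nat.pow_le_pow_iff_right hp.out.one_lt] at this
    omega

/-- Facts common to the three configurations. -/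
structure Frame (p n : ℕ) (E : Subgroup X) (e : X) : Prop where
  mem : e ∈ E
  notMem : e ∉ Gf X 2
  le_normalizer : Gf X (n - 3) ≤ normalizer (E : Set X)
  inf_le : E ⊓ Gf X 2 ≤ Gf X (n - 3)
  card_inf : Nat.card (E ⊓ Gf X 2 : Subgroup X) = p ^ 2
  gen : zpowers e ⊔ (E ⊓ Gf X 2) = E
  normalizer_eq : Dj e (n - 3) = normalizer (E : Set X)

/-- An element of `E` outside `G_2` gives a frame. -/
theorem exists_frame : ∃ e, Frame p n E e := by
  have hlow := MaxClassDegree94.Ct_low hp2 n X hX hc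
  have hP : IsPGroup p X := IsPGroup.of_card hX
  have hcases := cases hX hc hp2 hn hE
  have hnot : ¬ E ≤ Gf X 2 := by
    rcases hcases with ⟨-, -, -, h⟩ | ⟨-, -, -, -, h⟩ | ⟨-, -, -, h⟩
    · exact h
    · exact fun h' => h (h'.trans (Blackburn20.gf_two_le_Ct _))
    · exact fun h' => h (h'.trans (Blackburn20.gf_two_le_Ct _))
  obtain ⟨e, heE, he⟩ := SetLike.not_le_iff_exists.mp hnot
  obtain ⟨k, hk1, hk2, hEk⟩ : ∃ k, 2 ≤ k ∧ k + 2 ≤ n ∧ E ≤ Ct X k := by
    rcases le_Ct_or hX hc hp2 hn hE with h | h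
    · exact ⟨2, le_rfl, by omega, h⟩
    · exact ⟨n - 2, by omega, by omega, h⟩
  -- `E` lies in a maximal subgroup `⟨e⟩ G_2`
  have heq := Ct_eq_sup hX hc hn hk1 hk2 (hEk heE) he
  have hgen : zpowers e ⊔ (E ⊓ Gf X 2) = E := by
    refine le_antisymm (sup_le (zpowers_le.mpr heE) inf_le_left) fun x hx => ?_
    have hx' : x ∈ Dj e 2 := heq.ge (hEk hx)
    obtain ⟨i, g, hg, rfl⟩ := mem_Dj_iff.mp hx'
    refine mul_mem (mem_sup_left (zpow_mem (mem_zpowers e) i)) (mem_sup_right ⟨?_, hg⟩)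
    simpa using mul_mem (inv_mem (zpow_mem heE i)) hx
  have hTN : Gf X (n - 3) ≤ normalizer (E : Set X) := by
    intro y hy
    refine mem_normalizer_of_forall fun x hx => ?_
    by_cases hA : E ≤ Ct X (n - 2)
    · refine gf_two_top_le hX hc hn hE hA ?_
      have := commutator_mem_Gf hy (show x ∈ Gf X 1 from mem_top x)
      rwa [show n - 3 + 1 = n - 2 by omega] at this
    · refine gf_top_le hX hc hn hE ?_
      have hx' := (le_Ct_or hX hc hp2 hn hE).resolve_right hA hx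
      rw [← hlow (n - 3) (by omega) (by omega)] at hx'
      have := mem_Ct.mp hx' y hy
      rwa [show n - 3 + 2 = n - 1 by omega] at this
  have hcardD : Nat.card (Gf X (n - 3)) = p ^ 3 := by
    rw [card_gf' hX hc hn (by omega) (by omega), show n - (n - 3) = 3 by omega]
  have hN2 : normalizer (E : Set X) ⊓ Gf X 2 = Gf X (n - 3) := by
    refine (eq_of_le_of_card_ge (le_inf hTN (Gf_antitone (by omega))) ?_).symm
    obtain ⟨u, hu⟩ := IsPGroup.iff_card.mp
      (hP.to_subgroup (normalizer (E : Set X) ⊓ Gf X 2))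
    have hlt : Nat.card ↥(normalizer (E : Set X) ⊓ Gf X 2) < p ^ 4 := by
      refine lt_of_le_of_ne ((card_le_of_le inf_le_left).trans hE.norm.le) fun h => he ?_
      exact (eq_of_le_of_card_ge inf_le_left (h ▸ hE.norm.le)).ge (Subgroup.le_normalizer heE) |>.2
    rw [hu] at hlt
    rw [hcardD, hu]
    have := (Nat.pow_lt_pow_iff_right hp.out.one_lt).mp hlt
    exact Nat.pow_le_pow_right hp.out.pos (by omega)
  have hWle : E ⊓ Gf X 2 ≤ Gf X (n - 3) :=
    hN2 ▸ inf_le_inf_right _ Subgroup.le_normalizer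
  have hWcard : Nat.card (E ⊓ Gf X 2 : Subgroup X) = p ^ 2 := by
    obtain ⟨u, hu⟩ := IsPGroup.iff_card.mp (hP.to_subgroup (E ⊓ Gf X 2))
    have hlt : Nat.card (E ⊓ Gf X 2 : Subgroup X) < Nat.card E :=
      lt_of_le_of_ne (card_le_of_le inf_le_left) fun h =>
        he ((eq_of_le_of_card_ge inf_le_left h.ge).ge heE).2
    rw [hu, hE.card] at hlt
    have hu3 := (Nat.pow_lt_pow_iff_right hp.out.one_lt).mp hlt
    have h := card_mul_index ((E ⊓ Gf X 2).subgroupOf E)
    rw [Nat.card_congr (subgroupOfEquivOfLe inf_le_left).toEquiv, hu, hE.card] at h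
    have hd : ((E ⊓ Gf X 2).subgroupOf E).index ∣ p := by
      rw [inf_subgroupOf_left]
      have h1 := relIndex_mul_index (Blackburn20.gf_two_le_Ct (X := X) k)
      have h2 : (Gf X 2).relIndex E ∣ (Gf X 2).relIndex (Ct X k) := by
        rw [← relIndex_sup_right]
        have hle : E ⊔ Gf X 2 ≤ Ct X k := sup_le hEk (Blackburn20.gf_two_le_Ct k)
        exact Dvd.intro _ (relIndex_mul_relIndex _ _ _ le_sup_right hle)
      refine h2.trans (dvd_of_eq ?_)
      have h3 := card_mul_index (Gf X 2)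
      rw [card_gf' hX hc hn le_rfl (by omega), hX, ← h1,
        Blackburn20.index_Ct hX hc hk1 hk2, ← mul_assoc, show p ^ n = p ^ (n - 2) * p * p by
          rw [← pow_succ, ← pow_succ]; congr 1; omega] at h3
      exact Nat.eq_of_mul_eq_mul_left (pow_pos hp.out.pos _)
        (Nat.eq_of_mul_eq_mul_right hp.out.pos h3)
    have hle := Nat.mul_le_mul_left (p ^ u) (Nat.le_of_dvd hp.out.pos hd)
    rw [h, ← pow_succ, Nat.pow_le_pow_iff_right hp.out.one_lt] at hle
    rw [hu, show u = 2 by omega]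
  refine ⟨e, heE, he, hTN, hWle, hWcard, hgen, ?_⟩
  refine eq_of_le_of_card_ge
    (sup_le (zpowers_le.mpr (Subgroup.le_normalizer heE)) hTN) ?_
  rw [hE.norm]
  obtain ⟨u, hu⟩ := IsPGroup.iff_card.mp (hP.to_subgroup (Dj e (n - 3)))
  have hlt : Nat.card (Gf X (n - 3)) < Nat.card (Dj e (n - 3)) :=
    lt_of_le_of_ne (card_le_of_le (gf_le_Dj e _)) fun h =>
      he (Gf_antitone (by omega : 2 ≤ n - 3)
        ((eq_of_le_of_card_ge (gf_le_Dj e _) h.ge).ge (self_mem_Dj e _)))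
  rw [hcardD, hu] at hlt
  rw [hu]
  have := (Nat.pow_lt_pow_iff_right hp.out.one_lt).mp hlt
  exact Nat.pow_le_pow_right hp.out.pos (by omega)

/-- `G_{n-2}` is the intersection with `G_2` when `E` centralises it. -/
theorem inf_eq_top_two {e : X} (hf : Frame p n E e) (hA : E ≤ Ct X (n - 2)) :
    E ⊓ Gf X 2 = Gf X (n - 2) := by
  refine (eq_of_le_of_card_ge (le_inf (gf_two_top_le hX hc hn hE hA) (Gf_antitone (by omega))) ?_).symm
  rw [hf.card_inf, card_gf' hX hc hn (by omega) (by omega), show n - (n - 2) = 2 by omega]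

/-- A frame element lies outside `Ct X 2` when `E` does. -/
theorem Frame.notMem_Ct_two {e : X} (hf : Frame p n E e) (h : ¬ E ≤ Ct X 2) : e ∉ Ct X 2 := fun he =>
  h (hf.gen ▸ sup_le (zpowers_le.mpr he) (inf_le_right.trans (Blackburn20.gf_two_le_Ct 2)))

/-- A frame element lies outside `Ct X (n - 2)` when `E` does. -/
theorem Frame.notMem_Ct_top {e : X} (hf : Frame p n E e) (h : ¬ E ≤ Ct X (n - 2)) :
    e ∉ Ct X (n - 2) := fun he =>
  h (hf.gen ▸ sup_le (zpowers_le.mpr he) (inf_le_right.trans (Blackburn20.gf_two_le_Ct _)))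

omit hE

variable {e : X} {j : ℕ}

theorem exact_step (he : e ∉ Ct X 2) {k : ℕ} (h1 : 2 ≤ k) (h2 : k + 3 ≤ n) {y : X} (hy : y ∈ Gf X k)
    (hy' : y ∉ Gf X (k + 1)) : ⁅y, e⁆ ∉ Gf X (k + 2) := fun h => he (by
  rw [← MaxClassDegree94.Ct_low hp2 n X hX hc k h1 h2]
  exact Blackburn20.mem_Ct_of_exact hX hc h1 (by omega) hy hy' h)

theorem zpow_mem_two (he : e ∉ Ct X 2) {k : ℤ} (h : e ^ k ∈ Ct X 2) : e ^ k ∈ Gf X 2 := by
  by_cases hdvd : (p : ℤ) ∣ k
  · obtain ⟨m, rfl⟩ := hdvd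
    rw [zpow_mul, zpow_natCast]
    exact zpow_mem (S3806.pow_mem_gf_two hX hc (by omega) e) m
  refine absurd ?_ he
  obtain ⟨l, hl⟩ := IsPGroup.iff_orderOf.mp (IsPGroup.of_card hX) e
  have hcop : IsCoprime k ((orderOf e : ℕ) : ℤ) := by
    rw [hl, Nat.cast_pow]
    exact (((Nat.prime_iff_prime_int.mp hp.out).coprime_iff_not_dvd).mpr hdvd).symm.pow_right
  obtain ⟨u, v, huv⟩ := hcop
  have e' : e = (e ^ k) ^ u := by
    have h' : e ^ (u * k + v * ((orderOf e : ℕ) : ℤ)) = e := by rw [huv, zpow_one]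
    rw [zpow_add, zpow_mul' e v, zpow_natCast, pow_orderOf_eq_one, one_zpow, mul_one] at h'
    rw [← zpow_mul, mul_comm]
    exact h'.symm
  rw [e']
  exact zpow_mem h u

omit hp2 in
theorem comm_mem_gf {i k : ℕ} {x y : X} (h : k ≤ i + 1) (hx : x ∈ Gf X i) : ⁅x, y⁆ ∈ Gf X k :=
  Gf_antitone h (commutator_mem_Gf hx (show y ∈ Gf X 1 from mem_top y))

omit hp2 in
/-- `D_j ∩ G_2 = G_j` for a frame element. -/
theorem Dj_inf_two (hp' : e ^ p ∈ Gf X j) (he2 : e ∉ Gf X 2) (hj : 2 ≤ j) :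
    Dj e j ⊓ Gf X 2 = Gf X j := by
  refine le_antisymm (fun x hx => ?_) (le_inf (gf_le_Dj e j) (Gf_antitone hj))
  obtain ⟨k, g, hg, rfl⟩ := mem_Dj_iff.mp hx.1
  refine mul_mem ?_ hg
  have hk : e ^ k ∈ Gf X 2 := by simpa using (Gf X 2).mul_mem hx.2 ((Gf X 2).inv_mem (Gf_antitone hj hg))
  by_cases hdvd : (p : ℤ) ∣ k
  · obtain ⟨m, rfl⟩ := hdvd
    rw [zpow_mul, zpow_natCast]
    exact zpow_mem hp' m
  refine absurd ?_ he2
  obtain ⟨l, hl⟩ := IsPGroup.iff_orderOf.mp (IsPGroup.of_card hX) e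
  have hcop : IsCoprime k ((orderOf e : ℕ) : ℤ) := by
    rw [hl, Nat.cast_pow]
    exact (((Nat.prime_iff_prime_int.mp hp.out).coprime_iff_not_dvd).mpr hdvd).symm.pow_right
  obtain ⟨u, v, huv⟩ := hcop
  have e' : e = (e ^ k) ^ u := by
    have h' : e ^ (u * k + v * ((orderOf e : ℕ) : ℤ)) = e := by rw [huv, zpow_one]
    rw [zpow_add, zpow_mul' e v, zpow_natCast, pow_orderOf_eq_one, one_zpow, mul_one] at h'
    rw [← zpow_mul, mul_comm]
    exact h'.symm
  rw [e']
  exact zpow_mem hk u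

omit hp2 in
theorem card_Dj (hp' : e ^ p ∈ Gf X j) (he2 : e ∉ Gf X 2) (hj : 2 ≤ j) (hjn : j ≤ n) :
    Nat.card (Dj e j) = p ^ (n - j + 1) := by
  obtain ⟨u, hu⟩ := IsPGroup.iff_card.mp ((IsPGroup.of_card hX).to_subgroup (Dj e j))
  have hlt : Nat.card (Gf X j) < Nat.card (Dj e j) :=
    lt_of_le_of_ne (card_le_of_le (gf_le_Dj e j)) fun h =>
      he2 (Gf_antitone hj ((eq_of_le_of_card_ge (gf_le_Dj e j) h.ge).ge (self_mem_Dj e j)))
  rw [card_gf' hX hc hn hj hjn, hu] at hlt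
  have h1 := (Nat.pow_lt_pow_iff_right hp.out.one_lt).mp hlt
  have h := card_mul_index ((Gf X j).subgroupOf (Dj e j))
  rw [Nat.card_congr (subgroupOfEquivOfLe (gf_le_Dj e j)).toEquiv, hu,
    card_gf' hX hc hn hj hjn] at h
  have hd : ((Gf X j).subgroupOf (Dj e j)).index ∣ p := by
    rw [← relIndex, Dj, relIndex_sup_right]
    have h3 : (Gf X j).relIndex (zpowers e) ∣ (zpowers (e ^ p)).relIndex (zpowers e) :=
      relIndex_dvd_of_le_left _ (zpowers_le.mpr hp')
    refine h3.trans ?_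
    have h4 := Subgroup.card_mul_index ((zpowers (e ^ p)).subgroupOf (zpowers e))
    rw [Nat.card_congr (subgroupOfEquivOfLe (zpowers_le.mpr (pow_mem (mem_zpowers e) p))).toEquiv,
      Nat.card_zpowers, Nat.card_zpowers, orderOf_pow' e hp.out.ne_zero] at h4
    rcases (Nat.coprime_or_dvd_of_prime hp.out (orderOf e)) with hco | hdv
    · obtain ⟨l, hl⟩ := IsPGroup.iff_orderOf.mp (IsPGroup.of_card hX) e
      rw [hl] at hco
      rcases Nat.eq_zero_or_pos l with rfl | hl0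
      · simp only [pow_zero, orderOf_eq_one_iff] at hl
        exact absurd (hl ▸ one_mem _) he2
      · exact absurd (Nat.Coprime.eq_one_of_dvd hco (dvd_pow_self p hl0.ne')) hp.out.ne_one
    · rw [Nat.gcd_eq_right hdv] at h4
      refine dvd_of_eq ?_
      refine Nat.eq_of_mul_eq_mul_left (Nat.div_pos (Nat.le_of_dvd (orderOf_pos e) hdv) hp.out.pos) ?_
      rw [Nat.div_mul_cancel hdv]
      exact h4
  have hle := Nat.mul_le_mul_left (p ^ (n - j)) (Nat.le_of_dvd hp.out.pos hd)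
  rw [h, ← pow_succ, Nat.pow_le_pow_iff_right hp.out.one_lt] at hle
  rw [hu, show u = n - j + 1 by omega]

/-- Invariant subgroups of `G_2` above `G_{n-2}` are terms of the series. -/
theorem eq_gf_of_invariant (he : e ∉ Ct X 2) {H : Subgroup X} (hH2 : H ≤ Gf X 2)
    (hHt : Gf X (n - 2) ≤ H) (hinv : ∀ y ∈ H, ⁅y, e⁆ ∈ H) : ∃ k, 2 ≤ k ∧ k ≤ n - 2 ∧ H = Gf X k := by
  have climb : ∀ d k, 2 ≤ k → k + d = n - 2 → ∀ y ∈ H, y ∈ Gf X k → y ∉ Gf X (k + 1) →
      Gf X k ≤ H := by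
    intro d
    induction d with
    | zero =>
      intro k _ hk y _ _ _
      rwa [show k = n - 2 by omega]
    | succ d ih =>
      intro k h1 hk y hyH hy hy'
      have hz := exact_step hX hc hp2 hn he h1 (by omega) hy hy'
      have := ih (k + 1) (by omega) (by omega) _ (hinv y hyH) (comm_mem_gf hX hc hn le_rfl hy) hz
      exact S3806.eq_of_mem_of_notMem hX hc (by omega) h1 (by omega) this hyH hy hy'
  have key : ∀ d k, 2 ≤ k → k + d = n - 2 → H ≤ Gf X k →
      ∃ k', 2 ≤ k' ∧ k' ≤ n - 2 ∧ H = Gf X k' := by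
    intro d
    induction d with
    | zero =>
      intro k h1 hk hle
      exact ⟨k, h1, by omega, le_antisymm hle (by rwa [show k = n - 2 by omega])⟩
    | succ d ih =>
      intro k h1 hk hle
      by_cases hle' : H ≤ Gf X (k + 1)
      · exact ih (k + 1) (by omega) (by omega) hle'
      obtain ⟨y, hyH, hy⟩ := SetLike.not_le_iff_exists.mp hle'
      exact ⟨k, h1, by omega, le_antisymm hle (climb (d + 1) k h1 hk y hyH (hle hyH) hy)⟩
  exact key (n - 4) 2 le_rfl (by omega) hH2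

include hE

variable (hf : Frame p n E e)
include hf

omit hp2 in
theorem Frame.pow_mem {j : ℕ} (hj : j ≤ n - 3) : e ^ p ∈ Gf X j :=
  Gf_antitone hj (hf.inf_le ⟨E.pow_mem hf.mem p, S3806.pow_mem_gf_two hX hc (by omega) e⟩)

/-- A proper subgroup containing `E` is some `D_k`. -/
theorem eq_Dj_of_le (hA : E ≤ Ct X (n - 2)) (h1 : ¬ E ≤ Ct X 2) {H : Subgroup X} (hEH : E ≤ H)
    (hH : H ≠ ⊤) : ∃ k, 2 ≤ k ∧ k ≤ n - 2 ∧ H = Dj e k := by
  have he := hf.notMem_Ct_two hX hc hp2 hn hE h1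
  have hHK : H ≤ Ct X (n - 2) := by
    intro h hh
    by_contra hnot
    refine hH (eq_top_iff.mpr ?_)
    rw [← Blackburn20.gen_of_notMem hX hc (by omega) hf.notMem (a := h) (fun h' => hnot
      ((sup_le (zpowers_le.mpr (hA hf.mem)) (Blackburn20.gf_two_le_Ct _)) h'))]
    rw [closure_le]
    rintro t (rfl | rfl)
    · exact hEH hf.mem
    · exact hh
  have hZ2 := gf_two_top_le hX hc hn hE hA
  obtain ⟨k, hk1, hk2, hk⟩ := eq_gf_of_invariant hX hc hp2 hn he (H := H ⊓ Gf X 2) inf_le_right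
    (le_inf (hZ2.trans hEH) (Gf_antitone (by omega))) (fun y hy => ⟨by
      rw [commutatorElement_def]
      exact H.mul_mem (H.mul_mem (H.mul_mem hy.1 (hEH hf.mem)) (H.inv_mem hy.1))
        (H.inv_mem (hEH hf.mem)), comm_mem_gf hX hc hn (by omega) hy.2⟩)
  refine ⟨k, hk1, hk2, le_antisymm (fun h hh => ?_) (sup_le (zpowers_le.mpr (hEH hf.mem))
    (hk ▸ inf_le_left))⟩
  have h' := hHK hh
  rw [← Ct_eq_sup hX hc hn (by omega) (by omega) (hA hf.mem) hf.notMem] at h'
  obtain ⟨i, g, hg, rfl⟩ := mem_Dj_iff.mp h'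
  refine mul_mem (mem_sup_left (zpow_mem (mem_zpowers e) i)) (mem_sup_right ?_)
  rw [← hk]
  exact ⟨by simpa using H.mul_mem (H.inv_mem (H.zpow_mem (hEH hf.mem) i)) hh, hg⟩

/-- The normalizer chain above `E`. -/
theorem normalizer_Dj (hA : E ≤ Ct X (n - 2)) (h1 : ¬ E ≤ Ct X 2) (hj : 3 ≤ j) (hjn : j ≤ n - 3) :
    normalizer (Dj e j : Set X) = Dj e (j - 1) := by
  have he := hf.notMem_Ct_two hX hc hp2 hn hE h1
  have hinf := Dj_inf_two hX hc hn (hf.pow_mem hX hc hn hE hjn) hf.notMem (by omega)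
  have hge : Dj e (j - 1) ≤ normalizer (Dj e j : Set X) := by
    refine sup_le (zpowers_le.mpr (Subgroup.le_normalizer (self_mem_Dj e j))) fun y hy =>
      mem_normalizer_of_forall fun x _ => mem_sup_right ?_
    exact comm_mem_gf hX hc hn (by omega) hy
  refine le_antisymm ?_ hge
  have hEN : E ≤ normalizer (Dj e j : Set X) := (hf.gen ▸ sup_le
    (zpowers_le.mpr (self_mem_Dj e (j - 1))) ((hf.inf_le.trans (Gf_antitone (by omega))).trans
      (gf_le_Dj e _)) : E ≤ Dj e (j - 1)).trans hge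
  have hne : normalizer (Dj e j : Set X) ≠ ⊤ := by
    intro htop
    obtain ⟨s, hs⟩ := SetLike.exists_of_lt (lt_top_iff_ne_top.mpr
      (Blackburn20.Ct_ne_top hX hc (by omega) (by omega : n - 2 + 2 ≤ n)))
    have hgen := Blackburn20.gen_of_notMem hX hc (by omega) hf.notMem (a := s) (fun h => hs.2
      ((sup_le (zpowers_le.mpr (hA hf.mem)) (Blackburn20.gf_two_le_Ct _)) h))
    have h2 := Blackburn20.commutator_notMem hX hc (by omega) hgen
    have hn' : (Dj e j).Normal := normalizer_eq_top_iff.mp htop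
    have hmem : ⁅e, s⁆ ∈ Dj e j ⊓ Gf X 2 := by
      refine ⟨?_, commutator_mem_Gf (i := 1) (j := 1) (mem_top e) (mem_top s)⟩
      rw [commutatorElement_def, mul_assoc, mul_assoc, ← mul_assoc s]
      exact mul_mem (self_mem_Dj e j) (hn'.conj_mem _ (inv_mem (self_mem_Dj e j)) s)
    rw [hinf] at hmem
    exact h2 (Gf_antitone hj hmem)
  obtain ⟨k, hk1, hk2, hk⟩ := eq_Dj_of_le hX hc hp2 hn hE hf hA h1 hEN hne
  rw [hk]
  refine sup_le (zpowers_le.mpr (self_mem_Dj e _)) ?_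
  by_cases hkj : j - 1 ≤ k
  · exact (Gf_antitone hkj).trans (gf_le_Dj e _)
  obtain ⟨y, hy, hy'⟩ := SetLike.exists_of_lt (S3806.gf_lt hX hc (i := j - 2) (by omega) (by omega))
  have hyk : y ∈ normalizer (Dj e j : Set X) := hk ▸ gf_le_Dj e k (Gf_antitone (by omega) hy)
  have hmem : ⁅y, e⁆ ∈ Dj e j ⊓ Gf X 2 := by
    refine ⟨?_, comm_mem_gf hX hc hn (by omega) hy⟩
    rw [commutatorElement_def]
    exact (Dj e j).mul_mem ((mem_normalizer_iff.mp hyk e).mp (self_mem_Dj e j)) ((Dj e j).inv_mem (self_mem_Dj e j))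
  rw [hinf] at hmem
  have := exact_step hX hc hp2 hn he (by omega) (by omega) hy hy'
  rw [show j - 2 + 2 = j by omega] at this
  exact absurd hmem this

/-- `G_j` is the centraliser of `G_{n-3}` in `D_j`. -/
theorem mem_gf_iff_cent (hA : E ≤ Ct X (n - 2)) (h1 : ¬ E ≤ Ct X 2) (hj : 3 ≤ j) (hjn : j ≤ n - 3)
    {y : X} (hy : y ∈ Dj e j) :
    y ∈ Gf X j ↔ ∀ t ∈ Gf X (n - 3), y * t = t * y := by
  refine ⟨fun h t ht => commutatorElement_eq_one_iff_mul_comm.mp (comm_eq_one hX hc (by omega) h ht),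
    fun h => ?_⟩
  have hinf := Dj_inf_two hX hc hn (hf.pow_mem hX hc hn hE hjn) hf.notMem (by omega)
  have he := hf.notMem_Ct_two hX hc hp2 hn hE h1
  obtain ⟨k, g, hg, rfl⟩ := mem_Dj_iff.mp hy
  have h2 : e ^ k * g ∈ Ct X (n - 3) := by
    refine mem_Ct.mpr fun t ht => ?_
    rw [commutatorElement_eq_one_iff_mul_comm.mpr (h t ht).symm]
    exact one_mem _
  rw [MaxClassDegree94.Ct_low hp2 n X hX hc (n - 3) (by omega) (by omega)] at h2
  have h3 : e ^ k ∈ Ct X 2 := by
    simpa using mul_mem h2 (inv_mem (Blackburn20.gf_two_le_Ct 2 (Gf_antitone (by omega) hg)))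
  rw [← hinf]
  exact ⟨hy, mul_mem (zpow_mem_two hX hc hp2 hn he h3) (Gf_antitone (by omega) hg)⟩

/-- The centre of `D_j` is `G_{n-2}`. -/
theorem mem_center_iff' (hA : E ≤ Ct X (n - 2)) (h1 : ¬ E ≤ Ct X 2) (hj : 3 ≤ j) (hjn : j ≤ n - 3)
    {y : X} (hy : y ∈ Dj e j) :
    y ∈ Gf X (n - 2) ↔ ∀ d ∈ Dj e j, y * d = d * y := by
  have hWeq := inf_eq_top_two hX hc hp2 hn hE hf hA
  constructor
  · intro h d hd
    obtain ⟨k, g, hg, rfl⟩ := mem_Dj_iff.mp hd
    have hye : Commute y e := hE.comm y (hWeq.ge h).1 e hf.mem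
    exact (hye.zpow_right k).mul_right
      (commutatorElement_eq_one_iff_mul_comm.mp (comm_eq_one hX hc (by omega) h hg))
  · intro h
    have hyG : y ∈ Gf X j := (mem_gf_iff_cent hX hc hp2 hn hE hf hA h1 hj hjn hy).mpr fun t ht =>
      h t (gf_le_Dj e j (Gf_antitone hjn ht))
    rw [← hWeq]
    refine ⟨hE.cent (mem_centralizer_iff.mpr fun a ha => ?_), Gf_antitone (by omega) hyG⟩
    refine (h a ?_).symm
    rw [← hf.gen] at ha
    exact (sup_le (zpowers_le.mpr (self_mem_Dj e j)) (((hf.inf_le).trans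
      (Gf_antitone hjn)).trans (gf_le_Dj e j)) : _ ≤ Dj e j) ha

/-- The second centre of `D_j` is `G_{n-3}`. -/
theorem mem_gf_three_iff (hA : E ≤ Ct X (n - 2)) (h1 : ¬ E ≤ Ct X 2) (hj : 3 ≤ j) (hjn : j + 4 ≤ n)
    {y : X} (hy : y ∈ Dj e j) :
    y ∈ Gf X (n - 3) ↔ ∀ d ∈ Dj e j, ⁅y, d⁆ ∈ Gf X (n - 2) := by
  refine ⟨fun h d _ => comm_mem_gf hX hc hn (by omega) h, fun h => ?_⟩
  have hinf := Dj_inf_two hX hc hn (hf.pow_mem hX hc hn hE (by omega : j ≤ n - 3)) hf.notMem (by omega)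
  have he := hf.notMem_Ct_two hX hc hp2 hn hE h1
  obtain ⟨k, g, hg, rfl⟩ := mem_Dj_iff.mp hy
  have h2 : e ^ k * g ∈ Ct X (n - 4) := by
    refine mem_Ct.mpr fun t ht => ?_
    rw [← commutatorElement_inv, show n - 4 + 2 = n - 2 by omega]
    exact inv_mem (h t (gf_le_Dj e j (Gf_antitone (by omega) ht)))
  rw [MaxClassDegree94.Ct_low hp2 n X hX hc (n - 4) (by omega) (by omega)] at h2
  have h3 : e ^ k ∈ Ct X 2 := by
    simpa using mul_mem h2 (inv_mem (Blackburn20.gf_two_le_Ct 2 (Gf_antitone (by omega) hg)))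
  have hyj : e ^ k * g ∈ Gf X j := by
    rw [← hinf]
    exact ⟨hy, mul_mem (zpow_mem_two hX hc hp2 hn he h3) (Gf_antitone (by omega) hg)⟩
  by_contra hT
  have key : ∀ d m, m + d = n - 3 → j ≤ m → e ^ k * g ∈ Gf X m → False := by
    intro d
    induction d with
    | zero => intro m hm _ hmem; exact hT (by rwa [← show m = n - 3 by omega])
    | succ d ih =>
      intro m hm hjm hmem
      by_cases h' : e ^ k * g ∈ Gf X (m + 1)
      · exact ih (m + 1) (by omega) (by omega) h'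
      exact exact_step hX hc hp2 hn he (by omega) (by omega) hmem h'
        (Gf_antitone (by omega) (h e (self_mem_Dj e j)))
  exact key (n - 3 - j) j (by omega) le_rfl hyj

omit hE hf in
/-- The next term of the series is `[G_i, D] G_{n-2}`. -/
theorem gf_succ_le (he : e ∉ Ct X 2) {K : Subgroup X} {i : ℕ} (h1 : 2 ≤ i) (h2 : i + 3 ≤ n)
    (hK : Gf X (n - 2) ≤ K) (hK2 : ∀ y ∈ Gf X i, ⁅y, e⁆ ∈ K) : Gf X (i + 1) ≤ K := by
  have key : ∀ d m, m + d = n - 3 → i ≤ m → Gf X (m + 1) ≤ K := by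
    intro d
    induction d with
    | zero =>
      intro m hm _
      rwa [show m + 1 = n - 2 by omega]
    | succ d ih =>
      intro m hm him
      obtain ⟨y, hy, hy'⟩ := SetLike.exists_of_lt (S3806.gf_lt hX hc (i := m) (by omega) (by omega))
      exact S3806.eq_of_mem_of_notMem hX hc (by omega) (by omega) (by omega)
        (ih (m + 1) (by omega) (by omega)) (hK2 y (Gf_antitone him hy))
        (comm_mem_gf hX hc hn le_rfl hy) (exact_step hX hc hp2 hn he (by omega) (by omega) hy hy')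
  exact key (n - 3 - i) i (by omega) le_rfl

end Cfsg.Agent.MaxClassSoft94
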