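import Mathlib
import Cfsg.Agent.Lib.MaxClassSoft94

/-!
Automorphisms of subgroups of a group of maximal class, as functions: invariance of series terms
and sign contradictions.
-/

set_option autoImplicit false

open Subgroup
open scoped commutatorElement

namespace Cfsg.Agent.MaxClassAut94

open PGroupsHallPetrescu (Gf Gf_antitone commutator_mem_Gf)
open Blackburn20 (Ct mem_Ct IsUniform)
open MaxClassDegree94 (central comm_eq_one expand_eq)
open MaxClassSoft94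

variable {X : Type*} [Group X]

/-- `f` restricts to an automorphism of `P`. -/
structure AutX (P : Subgroup X) (f : X → X) : Prop where
  mem : ∀ x ∈ P, f x ∈ P
  mul : ∀ x ∈ P, ∀ y ∈ P, f (x * y) = f x * f y
  surj : ∀ y ∈ P, ∃ x ∈ P, f x = y

namespace AutX

variable {P : Subgroup X} {f : X → X} (h : AutX P f)

include h

theorem map_one : f 1 = 1 := by
  have := h.mul 1 P.one_mem 1 P.one_mem
  rw [mul_one] at this
  exact left_eq_mul.mp this

theorem map_inv {x : X} (hx : x ∈ P) : f x⁻¹ = (f x)⁻¹ := by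
  refine eq_inv_of_mul_eq_one_right ?_
  rw [← h.mul x hx x⁻¹ (P.inv_mem hx), mul_inv_cancel, h.map_one]

/-- The homomorphism on `P`. -/
def hom : P →* X where
  toFun x := f x
  map_one' := h.map_one
  map_mul' x y := h.mul x x.2 y y.2

theorem map_zpow {x : X} (hx : x ∈ P) (k : ℤ) : f (x ^ k) = f x ^ k :=
  (congrArg h.hom (show (⟨x ^ k, P.zpow_mem hx k⟩ : P) = ⟨x, hx⟩ ^ k from Subtype.ext rfl)).trans
    (h.hom.map_zpow ⟨x, hx⟩ k)

theorem map_comm {x y : X} (hx : x ∈ P) (hy : y ∈ P) : f ⁅x, y⁆ = ⁅f x, f y⁆ := by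
  simp only [commutatorElement_def]
  rw [h.mul _ (P.mul_mem (P.mul_mem hx hy) (P.inv_mem hx)) _ (P.inv_mem hy),
    h.mul _ (P.mul_mem hx hy) _ (P.inv_mem hx), h.mul x hx y hy, h.map_inv hx, h.map_inv hy]

theorem injOn [Finite X] {x y : X} (hx : x ∈ P) (hy : y ∈ P) (e : f x = f y) : x = y := by
  let g : P → P := fun x => ⟨f x, h.mem x x.2⟩
  have hs : Function.Surjective g := fun z => by
    obtain ⟨w, hw, e⟩ := h.surj z z.2
    exact ⟨⟨w, hw⟩, Subtype.ext e⟩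
  exact congrArg Subtype.val ((Finite.injective_iff_surjective.mpr hs)
    (Subtype.ext e : g ⟨x, hx⟩ = g ⟨y, hy⟩))

theorem map_closure {s : Set X} {K : Subgroup X} (hs : s ⊆ P) (hK : ∀ x ∈ s, f x ∈ K) :
    ∀ x ∈ closure s, f x ∈ K := by
  intro x hx
  have hsub : closure s ≤ P := (closure_le P).mpr hs
  induction hx using closure_induction with
  | mem x hx => exact hK x hx
  | one => rw [h.map_one]; exact K.one_mem
  | mul x y hx hy hx' hy' => rw [h.mul x (hsub hx) y (hsub hy)]; exact K.mul_mem hx' hy'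
  | inv x hx hx' => rw [h.map_inv (hsub hx)]; exact K.inv_mem hx'

theorem map_commutator {A B A' B' : Subgroup X} (hA : A ≤ P) (hB : B ≤ P)
    (hA' : ∀ a ∈ A, f a ∈ A') (hB' : ∀ b ∈ B, f b ∈ B') : ∀ x ∈ ⁅A, B⁆, f x ∈ ⁅A', B'⁆ := by
  rw [Subgroup.commutator_def A B]
  refine h.map_closure ?_ ?_
  · rintro _ ⟨a, ha, b, hb, rfl⟩
    rw [SetLike.mem_coe, commutatorElement_def]
    exact P.mul_mem (P.mul_mem (P.mul_mem (hA ha) (hB hb)) (P.inv_mem (hA ha))) (P.inv_mem (hB hb))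
  · rintro _ ⟨a, ha, b, hb, rfl⟩
    rw [h.map_comm (hA ha) (hB hb)]
    exact commutator_mem_commutator (hA' a ha) (hB' b hb)

theorem map_sup {A B K : Subgroup X} (hA : A ≤ P) (hB : B ≤ P) (hA' : ∀ a ∈ A, f a ∈ K)
    (hB' : ∀ b ∈ B, f b ∈ K) : ∀ x ∈ A ⊔ B, f x ∈ K := by
  rw [sup_eq_closure]
  exact h.map_closure (Set.union_subset hA hB) (fun x hx => hx.elim (hA' x) (hB' x))

end AutX

/-- Commutation with a fixed element of `G_i`, modulo `G_{i+2}`. -/
def rightComm (i : ℕ) (x : Gf X i) : X →* X ⧸ Gf X (i + 2) :=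
  MonoidHom.mk' (fun y => QuotientGroup.mk' (Gf X (i + 2)) ⁅(x : X), y⁆) fun a b => by
    have e : ⁅(x : X), a * b⁆ = ⁅(x : X), a⁆ * (⁅a, ⁅(x : X), b⁆⁆ * ⁅(x : X), b⁆) := by
      simp only [commutatorElement_def]; group
    have h2 : ⁅a, ⁅(x : X), b⁆⁆ ∈ Gf X (i + 2) := by
      have := commutator_mem_Gf (show a ∈ Gf X 1 from mem_top a)
        (commutator_mem_Gf x.2 (show b ∈ Gf X 1 from mem_top b))
      rwa [show 1 + (i + 1) = i + 2 by omega] at this
    show QuotientGroup.mk' _ ⁅(x : X), a * b⁆ = _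
    rw [e, map_mul, map_mul, show QuotientGroup.mk' (Gf X (i + 2)) ⁅a, ⁅(x : X), b⁆⁆ = 1 from
      (QuotientGroup.eq_one_iff _).mpr h2, one_mul]

theorem rightComm_apply (i : ℕ) (x : Gf X i) (y : X) :
    rightComm i x y = QuotientGroup.mk' (Gf X (i + 2)) ⁅(x : X), y⁆ := rfl

/-- Commutation of `G_i` with a fixed element, modulo `G_{i+2}`. -/
def leftComm (i : ℕ) (y : X) : Gf X i →* X ⧸ Gf X (i + 2) :=
  MonoidHom.mk' (fun x => QuotientGroup.mk' (Gf X (i + 2)) ⁅(x : X), y⁆) fun a b => by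
    have e : ⁅(a : X) * b, y⁆ = ⁅(a : X), ⁅(b : X), y⁆⁆ * ⁅(b : X), y⁆ * ⁅(a : X), y⁆ := by
      simp only [commutatorElement_def]; group
    have hb : ⁅(b : X), y⁆ ∈ Gf X (i + 1) := commutator_mem_Gf b.2 (show y ∈ Gf X 1 from mem_top y)
    have ha : ⁅(a : X), y⁆ ∈ Gf X (i + 1) := commutator_mem_Gf a.2 (show y ∈ Gf X 1 from mem_top y)
    have h2 : ⁅(a : X), ⁅(b : X), y⁆⁆ ∈ Gf X (i + 2) := by
      have := commutator_mem_Gf (show (a : X) ∈ Gf X 1 from mem_top _) hb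
      rwa [show 1 + (i + 1) = i + 2 by omega] at this
    show QuotientGroup.mk' _ ⁅((a * b : Gf X i) : X), y⁆ = _
    rw [Subgroup.coe_mul, e, map_mul, map_mul, show QuotientGroup.mk' (Gf X (i + 2))
      ⁅(a : X), ⁅(b : X), y⁆⁆ = 1 from (QuotientGroup.eq_one_iff _).mpr h2, one_mul]
    refine (S3806.comm_mem_iff _ _ _).mp ?_
    have := commutator_mem_Gf hb (show ⁅(a : X), y⁆ ∈ Gf X 1 from mem_top _)
    exact this

theorem leftComm_apply (i : ℕ) (y : X) (x : Gf X i) :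
    leftComm i y x = QuotientGroup.mk' (Gf X (i + 2)) ⁅(x : X), y⁆ := rfl

variable [Finite X] {p n : ℕ} [hp : Fact p.Prime]
  (hX : Nat.card X = p ^ n) (hc : Group.nilpotencyClass X = n - 1) (hp2 : p ≠ 2) (hn : 5 ≤ n)

theorem gf_invariant {f : X → X} (h : AutX ⊤ f) : ∀ i, ∀ x ∈ Gf X i, f x ∈ Gf X i := by
  intro i
  induction i with
  | zero => exact fun x _ => mem_top _
  | succ i ih =>
    rcases Nat.eq_zero_or_pos i with rfl | hi
    · exact fun x _ => mem_top _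
    rw [S3806.gf_succ hi]
    exact h.map_commutator le_top le_top ih fun b hb => h.mem b hb

include hX hc hn

theorem quot_zpow_eq_one {i : ℕ} {x : X} {k : ℤ} (hp2 : p ≠ 2) (hk : k = 2 ∨ k = -2)
    (h : x ^ k ∈ Gf X i) : x ∈ Gf X i := by
  have h2 : x ^ 2 ∈ Gf X i := by
    rcases hk with rfl | rfl
    · simpa using h
    · simpa using inv_mem h
  rw [← QuotientGroup.eq_one_iff] at h2 ⊢
  rw [QuotientGroup.mk_pow] at h2
  obtain ⟨l, hl⟩ := IsPGroup.iff_orderOf.mp ((IsPGroup.of_card hX).to_quotient (Gf X i)) (x : X ⧸ Gf X i)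
  have h3 := orderOf_dvd_of_pow_eq_one h2
  rw [hl] at h3
  rcases Nat.eq_zero_or_pos l with rfl | hl0
  · exact orderOf_eq_one_iff.mp (by rw [hl, pow_zero])
  · exact absurd ((Nat.prime_dvd_prime_iff_eq hp.out Nat.prime_two).mp
      ((dvd_pow_self p hl0.ne').trans h3)) hp2

include hp2

/-- An automorphism of the whole group cannot act by signs `-1`, `ε`, `+1` on the first layers. -/
theorem sign_absurd {f : X → X} (hf : AutX ⊤ f) {e : X} (he : e ∈ Ct X 2) (he2 : e ∉ Gf X 2)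
    (hfe : f e * e ∈ Gf X 2) {ε : ℤ} (hε : ε = 1 ∨ ε = -1)
    (hfx : ∀ x ∈ Gf X 2, (x ^ ε)⁻¹ * f x ∈ Gf X 3) {m : X} (hm : m ∈ Gf X 3) (hm' : m ∉ Gf X 4)
    (hfm : f m = m) : False := by
  obtain ⟨s, -, hs⟩ := SetLike.exists_of_lt (lt_top_iff_ne_top.mpr
    (Blackburn20.Ct_ne_top hX hc (i := 2) (by omega) (by omega)))
  have hgen := Blackburn20.gen_of_notMem hX hc (by omega) he2 (a := s) (fun h => hs
    ((sup_le (zpowers_le.mpr he) (Blackburn20.gf_two_le_Ct 2)) h))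
  obtain ⟨x, hx⟩ : ∃ x, x = ⁅e, s⁆ := ⟨_, rfl⟩
  have hx2 : x ∈ Gf X 2 := hx ▸ commutator_mem_Gf (i := 1) (j := 1) (mem_top e) (mem_top s)
  have hx3 : x ∉ Gf X 3 := hx ▸ Blackburn20.commutator_notMem hX hc (by omega) hgen
  obtain ⟨u, hu⟩ : ∃ u, u = ⁅x, s⁆ := ⟨_, rfl⟩
  have hu3 : u ∈ Gf X 3 := hu ▸ commutator_mem_Gf hx2 (show s ∈ Gf X 1 from mem_top s)
  have hu4 : u ∉ Gf X 4 := fun h => hs (Blackburn20.mem_Ct_of_exact hX hc le_rfl (by omega) hx2 hx3
    (hu ▸ h))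
  let E1 : Gf X 1 := ⟨e, mem_top e⟩
  let q3 := QuotientGroup.mk' (Gf X 3)
  let φ := rightComm 1 E1
  -- `[f e, y] = [e, y]⁻¹` modulo `G_3`
  have hφ : ∀ y : X, q3 ⁅f e, y⁆ = (φ y)⁻¹ := by
    intro y
    have e1 : f e = (f e * e) * e⁻¹ := (mul_inv_cancel_right _ _).symm
    have h1 : leftComm 1 y ⟨f e, mem_top _⟩ = leftComm 1 y ⟨f e * e, mem_top _⟩ *
        (leftComm 1 y E1)⁻¹ := by
      rw [← map_inv, ← map_mul]
      exact congrArg _ (Subtype.ext e1)
    have h2 : leftComm 1 y ⟨f e * e, mem_top _⟩ = 1 :=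
      (QuotientGroup.eq_one_iff _).mpr (show ⁅f e * e, y⁆ ∈ Gf X (2 + 1) from commutator_mem_Gf hfe (show y ∈ Gf X 1 from mem_top y))
    rw [h2, one_mul] at h1
    exact h1
  have hfs : φ (f s) = (φ s) ^ (-ε) := by
    have h1 : q3 (f x) = (φ s) ^ ε := by
      rw [← map_zpow, show φ (s ^ ε) = rightComm 1 E1 (s ^ ε) from rfl]
      have : q3 (f x) = q3 (x ^ ε) := (QuotientGroup.eq.mpr (hfx x hx2)).symm
      rw [this, map_zpow, map_zpow, rightComm_apply, hx]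
    rw [hx, hf.map_comm (mem_top e) (mem_top s), hφ, inv_eq_iff_eq_inv, ← zpow_neg] at h1
    exact h1
  have hmem : s ^ ε * f s ∈ Ct X 2 := by
    have h1 : φ (s ^ ε * f s) = 1 := by
      rw [map_mul, map_zpow, hfs, ← zpow_add, add_neg_cancel, zpow_zero]
    by_contra hnot
    exact Blackburn20.commutator_notMem hX hc (by omega) (Blackburn20.gen_of_notMem hX hc (by omega) he2
      (a := s ^ ε * f s) (fun h => hnot
      ((sup_le (zpowers_le.mpr he) (Blackburn20.gf_two_le_Ct 2)) h)))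
      ((QuotientGroup.eq_one_iff _).mp h1)
  let X2 : Gf X 2 := ⟨x, hx2⟩
  let ψ := rightComm 2 X2
  have hψ : ψ (f s) = (ψ s) ^ (-ε) := by
    have h1 : ψ (s ^ ε * f s) = 1 := (QuotientGroup.eq_one_iff _).mpr (mem_Ct.mp hmem x hx2)
    rw [map_mul, map_zpow, mul_eq_one_iff_eq_inv] at h1
    rw [zpow_neg, h1, inv_inv]
  have hfu : QuotientGroup.mk' (Gf X 4) (f u) = (QuotientGroup.mk' (Gf X 4) u)⁻¹ := by
    rw [hu, hf.map_comm (mem_top x) (mem_top s)]
    have h1 : leftComm 2 (f s) ⟨f x, gf_invariant hf 2 x hx2⟩ =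
        leftComm 2 (f s) (⟨x, hx2⟩ ^ ε) * leftComm 2 (f s)
          ⟨(x ^ ε)⁻¹ * f x, Gf_antitone (by omega) (hfx x hx2)⟩ := by
      rw [← map_mul]
      exact congrArg _ (Subtype.ext (mul_inv_cancel_left _ _).symm)
    have h2 : leftComm 2 (f s) ⟨(x ^ ε)⁻¹ * f x, Gf_antitone (by omega) (hfx x hx2)⟩ = 1 :=
      (QuotientGroup.eq_one_iff _).mpr
        (show ⁅(x ^ ε)⁻¹ * f x, f s⁆ ∈ Gf X (3 + 1) from commutator_mem_Gf (hfx x hx2) (show f s ∈ Gf X 1 from mem_top _))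
    rw [h2, mul_one, map_zpow, show leftComm 2 (f s) ⟨x, hx2⟩ = ψ (f s) from rfl, hψ, ← zpow_mul] at h1
    have e2 : -ε * ε = -1 := by rcases hε with rfl | rfl <;> norm_num
    rw [e2, zpow_neg_one] at h1
    exact h1
  let A : Subgroup X :=
    { carrier := {z | QuotientGroup.mk' (Gf X 4) (f z) = (QuotientGroup.mk' (Gf X 4) z)⁻¹ ∧ z ∈ Gf X 3}
      one_mem' := ⟨by rw [hf.map_one, map_one, inv_one], one_mem _⟩
      mul_mem' := fun {a b} ha hb => ⟨by
        rw [hf.mul a (mem_top a) b (mem_top b), map_mul, map_mul, ha.1, hb.1, mul_inv_rev]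
        refine (S3806.comm_mem_iff _ _ _).mp ?_
        exact Gf_antitone (show 4 ≤ 3 + 3 by omega) (commutator_mem_Gf ((Gf X 3).inv_mem ha.2) ((Gf X 3).inv_mem hb.2)),
        mul_mem ha.2 hb.2⟩
      inv_mem' := fun {a} ha => ⟨by rw [hf.map_inv (mem_top a), map_inv, map_inv, ha.1], inv_mem ha.2⟩ }
  have hA : Gf X 3 ≤ A := S3806.eq_of_mem_of_notMem hX hc (by omega) (by omega) (by omega)
    (fun z hz => ⟨by
      rw [show QuotientGroup.mk' (Gf X 4) z = 1 from (QuotientGroup.eq_one_iff _).mpr hz, inv_one]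
      exact (QuotientGroup.eq_one_iff _).mpr (gf_invariant hf 4 z hz), Gf_antitone (by omega) hz⟩)
    (⟨hfu, hu3⟩ : u ∈ A) hu3 hu4
  have h := (hA hm).1
  rw [hfm, eq_inv_iff_mul_eq_one, ← map_mul] at h
  refine hm' (quot_zpow_eq_one hX hc hn hp2 (Or.inl rfl) ?_)
  rw [zpow_two]
  exact (QuotientGroup.eq_one_iff _).mp h

omit hp hc hp2 hn hX [Finite X] in
theorem comm_zpow_of_commute {t e : X} (h : Commute ⁅t, e⁆ e) (k : ℤ) : ⁅t, e ^ k⁆ = ⁅t, e⁆ ^ k := by
  have e1 : t * e * t⁻¹ = ⁅t, e⁆ * e := by rw [commutatorElement_def]; group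
  have e2 := congrArg (· ^ k) e1
  simp only [conj_zpow, h.mul_zpow] at e2
  rw [commutatorElement_def, e2, mul_inv_cancel_right]

/-- An automorphism of the middle group of the normalizer chain cannot invert `c` and fix `m`. -/
theorem pairing_absurd (hex : Ct X (n - 2) ≠ Ct X 2) {e c m : X} (he : e ∉ Ct X 2)
    (heK : e ∈ Ct X (n - 2)) {i : ℕ} (hi : n = 2 * i + 2) {f : X → X} (hf : AutX (Dj e i) f)
    (hfi : ∀ k, i < k → k ≤ n - 3 → ∀ x ∈ Gf X k, f x ∈ Gf X k)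
    (hfi2 : i ≠ 2 → ∀ x ∈ Gf X i, f x ∈ Gf X i)
    (hfe : f e * e ∈ Gf X (n - 2)) (hT : ∀ t ∈ Gf X (n - 3), t⁻¹ * f t ∈ Gf X (n - 2))
    (hc2 : c ∈ Gf X (n - 2)) (hcp : orderOf c = p) (hfc : f c = c⁻¹)
    (hTe : ∀ t ∈ Gf X (n - 3), ⁅t, e⁆ ∈ zpowers c)
    (hm : m ∈ Gf X (n - 2)) (hm' : m ∉ zpowers c) (hfm : f m = m) : False := by
  have hD : ∀ {k : ℕ}, i ≤ k → ∀ {x : X}, x ∈ Gf X k → x ∈ Dj e i := fun hk x hx =>
    gf_le_Dj e i (Gf_antitone hk hx)
  have hCk : ∀ {k : ℕ}, k ≤ n - 2 → f e * e ∈ Gf X k := fun hk => Gf_antitone hk hfe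
  -- the commutator with `f e`
  have hfe' : ∀ k, k + 3 ≤ n → ∀ {g : X}, g ∈ Gf X k →
      QuotientGroup.mk' (Gf X (k + 2)) ⁅g, f e⁆ = (QuotientGroup.mk' (Gf X (k + 2)) ⁅g, e⁆)⁻¹ := by
    intro k hk g hg
    have h1 : rightComm k ⟨g, hg⟩ (f e * e) = 1 := by
      refine (QuotientGroup.eq_one_iff _).mpr ?_
      have := commutator_mem_Gf hg hfe
      exact Gf_antitone (by omega) this
    rw [map_mul, mul_eq_one_iff_eq_inv] at h1
    exact h1
  -- alternating signs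
  have hsign : ∀ d k, k + d = n - 3 → i < k → ∃ σ : ℤ, (σ = 1 ∨ σ = -1) ∧
      ∀ x ∈ Gf X k, (x ^ σ)⁻¹ * f x ∈ Gf X (k + 1) := by
    intro d
    induction d with
    | zero =>
      intro k hk _
      obtain rfl : k = n - 3 := by omega
      exact ⟨1, Or.inl rfl, fun x hx => by
        rw [zpow_one, show n - 3 + 1 = n - 2 by omega]; exact hT x hx⟩
    | succ d ih =>
      intro k hk hik
      obtain ⟨σ, hσ, hσ'⟩ := ih (k + 1) (by omega) (by omega)
      refine ⟨-σ, by rcases hσ with rfl | rfl <;> simp, fun x hx => ?_⟩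
      have hfx := hfi k hik (by omega) x hx
      have hb : ⁅x, e⁆ ∈ Gf X (k + 1) := comm_mem_gf hX hc hn le_rfl hx
      have h1 : leftComm k e ⟨f x, hfx⟩ * leftComm k e ⟨x, hx⟩ ^ σ = 1 := by
        have h2 : QuotientGroup.mk' (Gf X (k + 2)) (f ⁅x, e⁆) =
            QuotientGroup.mk' (Gf X (k + 2)) (⁅x, e⁆ ^ σ) :=
          (QuotientGroup.eq.mpr (hσ' _ hb)).symm
        rw [hf.map_comm (hD hik.le hx) (self_mem_Dj e i), hfe' k (by omega) hfx, map_zpow] at h2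
        rw [leftComm_apply, leftComm_apply, ← h2, mul_inv_cancel]
      rw [← map_zpow, ← map_mul] at h1
      have hmem : f x * x ^ σ ∈ Gf X (k + 1) := by
        by_contra hnot
        exact exact_step hX hc hp2 hn he (by omega) (by omega) (mul_mem hfx (zpow_mem hx σ)) hnot
          ((QuotientGroup.eq_one_iff _).mp h1)
      rw [zpow_neg, inv_inv]
      exact (show (Gf X (k + 1)).Normal from inferInstance).mem_comm hmem
  obtain ⟨σ, hσ, hσ'⟩ := hsign (n - 3 - (i + 1)) (i + 1) (by omega) (by omega)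
  obtain ⟨a, ha, ha'⟩ := SetLike.exists_of_lt (S3806.gf_lt hX hc (i := i) (by omega) (by omega))
  obtain ⟨b, hbdef⟩ : ∃ b, b = ⁅a, e⁆ := ⟨_, rfl⟩
  have hb : b ∈ Gf X (i + 1) := hbdef ▸ comm_mem_gf hX hc hn le_rfl ha
  have hb' : b ∉ Gf X (i + 2) := hbdef ▸ exact_step hX hc hp2 hn he (by omega) (by omega) ha ha'
  obtain ⟨z, hzdef⟩ : ∃ z, z = ⁅a, b⁆ := ⟨_, rfl⟩
  have hz : z ∈ Gf X (n - 1) := by
    have := commutator_mem_Gf ha hb
    rwa [show i + (i + 1) = n - 1 by omega, ← hzdef] at this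
  have hz1 : z ≠ 1 := hzdef ▸ MaxClassDegree94.pairing_ne_one hX hc hp2 hn hex (by omega) (by omega)
    ha ha' (by rwa [show n - 1 - i = i + 1 by omega]) (by rwa [show n - i = i + 2 by omega])
  -- the image of `a`
  obtain ⟨α, g, hg, hfa, hα⟩ : ∃ α : ℤ, ∃ g ∈ Gf X i, f a = e ^ α * g ∧ (i ≠ 2 → α = 0) := by
    by_cases h2 : i = 2
    · obtain ⟨α, g, hg, e1⟩ := mem_Dj_iff.mp (hf.mem a (hD le_rfl ha))
      exact ⟨α, g, hg, e1, fun h => absurd h2 h⟩
    · exact ⟨0, f a, hfi2 h2 a ha, by simp, fun _ => rfl⟩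
  have hecomm : ∀ {w : X}, w ∈ Gf X (n - 2) → Commute e w := fun {w} hw => by
    have := mem_Ct.mp heK w hw
    rw [S3806.gf_bot hX hc (by omega), mem_bot, commutatorElement_eq_one_iff_mul_comm] at this
    exact this.symm
  have hgσ : g * a ^ σ ∈ Gf X (i + 1) := by
    have h2 : QuotientGroup.mk' (Gf X (i + 2)) (f b) = QuotientGroup.mk' (Gf X (i + 2)) (b ^ σ) :=
      (QuotientGroup.eq.mpr (hσ' _ hb)).symm
    have h3 : QuotientGroup.mk' (Gf X (i + 2)) (f b) =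
        QuotientGroup.mk' (Gf X (i + 2)) ⁅g, f e⁆ := by
      have e1 : ⁅e ^ α, f e⁆ = 1 := commutatorElement_eq_one_iff_mul_comm.mpr (Commute.eq (by
        have : f e = (f e * e) * e⁻¹ := (mul_inv_cancel_right _ _).symm
        rw [this]
        exact ((hecomm hfe).zpow_left α).mul_right ((Commute.refl e).zpow_left α).inv_right))
      rw [hbdef, hf.map_comm (hD le_rfl ha) (self_mem_Dj e i), hfa,
        show ⁅e ^ α * g, f e⁆ = ⁅e ^ α, ⁅g, f e⁆⁆ * ⁅g, f e⁆ * ⁅e ^ α, f e⁆ by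
          simp only [commutatorElement_def]; group, e1, mul_one, map_mul]
      rw [show QuotientGroup.mk' (Gf X (i + 2)) ⁅e ^ α, ⁅g, f e⁆⁆ = 1 from
        (QuotientGroup.eq_one_iff _).mpr (by
          have := commutator_mem_Gf (show e ^ α ∈ Gf X 1 from mem_top _)
            (comm_mem_gf hX hc hn le_rfl hg : ⁅g, f e⁆ ∈ Gf X (i + 1))
          rwa [show 1 + (i + 1) = i + 2 by omega] at this), one_mul]
    rw [h2, hfe' i (by omega) hg, map_zpow, hbdef] at h3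
    have h1 : leftComm i e (⟨g, hg⟩ * ⟨a, ha⟩ ^ σ) = 1 := by
      rw [map_mul, map_zpow, leftComm_apply, leftComm_apply, h3, mul_inv_cancel]
    by_contra hnot
    exact exact_step hX hc hp2 hn he (by omega) (by omega) (mul_mem hg (zpow_mem ha σ)) hnot
      ((QuotientGroup.eq_one_iff _).mp h1)
  -- the pairing into the centre
  let bilL : ∀ y : Gf X (i + 1), Gf X i →* X := fun y => MonoidHom.mk' (fun x => ⁅(x : X), (y : X)⁆)
    fun x x' => by
      have h1 : ∀ w : Gf X i, ⁅(w : X), (y : X)⁆ ∈ Gf X (n - 1) := fun w => by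
        have := commutator_mem_Gf w.2 y.2
        rwa [show i + (i + 1) = n - 1 by omega] at this
      show ⁅((x * x' : Gf X i) : X), (y : X)⁆ = _
      rw [Subgroup.coe_mul, show ⁅(x : X) * x', (y : X)⁆ = x * ⁅(x' : X), (y : X)⁆ * (x : X)⁻¹ * ⁅(x : X), (y : X)⁆ by
        simp only [commutatorElement_def]; group, central hX hc (h1 x'), mul_inv_cancel_right,
        central hX hc (h1 x)]
  let bilR : ∀ x : Gf X i, Gf X (i + 1) →* X := fun x => MonoidHom.mk' (fun y => ⁅(x : X), (y : X)⁆)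
    fun y y' => by
      have h1 : ⁅(x : X), (y' : X)⁆ ∈ Gf X (n - 1) := by
        have := commutator_mem_Gf x.2 y'.2
        rwa [show i + (i + 1) = n - 1 by omega] at this
      show ⁅(x : X), ((y * y' : Gf X (i + 1)) : X)⁆ = _
      rw [Subgroup.coe_mul, show ⁅(x : X), (y : X) * y'⁆ = ⁅(x : X), (y : X)⁆ * ((y : X) * ⁅(x : X), (y' : X)⁆ * (y : X)⁻¹) by
        simp only [commutatorElement_def]; group, central hX hc h1, mul_inv_cancel_right]
  have hfb : f b ∈ Gf X (i + 1) := hfi (i + 1) (by omega) (by omega) b hb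
  have hgb : ⁅g, f b⁆ = z⁻¹ := by
    have e1 : ⁅g, f b⁆ = ⁅a, f b⁆ ^ (-σ) := by
      have h1 : bilL ⟨f b, hfb⟩ (⟨g, hg⟩ * ⟨a, ha⟩ ^ σ) = 1 :=
        comm_eq_one hX hc (by omega) hgσ hfb
      rw [map_mul, map_zpow, mul_eq_one_iff_eq_inv, ← zpow_neg] at h1
      exact h1
    have e2 : ⁅a, f b⁆ = z ^ σ := by
      have h1 : bilR ⟨a, ha⟩ ((⟨b, hb⟩ ^ σ)⁻¹ * ⟨f b, hfb⟩) = 1 :=
        comm_eq_one hX hc (by omega) ha (hσ' b hb)
      rw [map_mul, map_inv, map_zpow, inv_mul_eq_one] at h1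
      rw [hzdef]
      exact h1.symm
    rw [e1, e2, ← zpow_mul, show σ * -σ = -1 by rcases hσ with rfl | rfl <;> norm_num, zpow_neg_one]
  have hfz : z * f z ∈ zpowers c := by
    have e1 : f z = ⁅e ^ α, ⁅g, f b⁆⁆ * ⁅g, f b⁆ * ⁅e ^ α, f b⁆ := by
      rw [hzdef, hf.map_comm (hD le_rfl ha) (hD (Nat.le_succ i) hb), hfa]
      simp only [commutatorElement_def]; group
    rw [e1, hgb, commutatorElement_eq_one_iff_mul_comm.mpr (central hX hc (inv_mem hz) _), one_mul,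
      mul_inv_cancel_left]
    by_cases h2 : i = 2
    · have hfbT : f b ∈ Gf X (n - 3) := by rwa [show n - 3 = i + 1 by omega]
      rw [← commutatorElement_inv, comm_zpow_of_commute (hecomm (by
        have := commutator_mem_Gf hfbT (show e ∈ Gf X 1 from mem_top e)
        rwa [show n - 3 + 1 = n - 2 by omega] at this)).symm]
      exact inv_mem (zpow_mem (hTe _ hfbT) α)
    · rw [hα h2, zpow_zero, commutatorElement_one_left]
      exact one_mem _
  -- the conclusion on `G_{n-2}`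
  have hcomm2 : ∀ {x y : X}, x ∈ Gf X (n - 2) → y ∈ Gf X (n - 2) → x * y = y * x := fun hx hy =>
    commutatorElement_eq_one_iff_mul_comm.mp (comm_eq_one hX hc (by omega) hx hy)
  let A : Subgroup X :=
    { carrier := {y | y ∈ Gf X (n - 2) ∧ f y ∈ Gf X (n - 2) ∧ y * f y ∈ zpowers c}
      one_mem' := ⟨one_mem _, by rw [hf.map_one]; exact one_mem _, by rw [hf.map_one, one_mul]; exact one_mem _⟩
      mul_mem' := fun {x y} hx hy => ⟨mul_mem hx.1 hy.1, by
        rw [hf.mul x (hD (by omega) hx.1) y (hD (by omega) hy.1)]; exact mul_mem hx.2.1 hy.2.1, by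
        rw [hf.mul x (hD (by omega) hx.1) y (hD (by omega) hy.1),
          show x * y * (f x * f y) = x * (y * f x) * f y by group, hcomm2 hy.1 hx.2.1,
          show x * (f x * y) * f y = (x * f x) * (y * f y) by group]
        exact mul_mem hx.2.2 hy.2.2⟩
      inv_mem' := fun {x} hx => ⟨inv_mem hx.1, by
        rw [hf.map_inv (hD (by omega) hx.1)]; exact inv_mem hx.2.1, by
        rw [hf.map_inv (hD (by omega) hx.1), hcomm2 (inv_mem hx.1) (inv_mem hx.2.1), ← mul_inv_rev]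
        exact inv_mem hx.2.2⟩ }
  have hfz2 : f z ∈ Gf X (n - 2) := by
    have hc2' : zpowers c ≤ Gf X (n - 2) := zpowers_le.mpr hc2
    simpa using mul_mem (inv_mem (Gf_antitone (show n - 2 ≤ n - 1 by omega) hz)) (hc2' hfz)
  have hzA : z ∈ A := ⟨Gf_antitone (by omega) hz, hfz2, hfz⟩
  have hcA : c ∈ A := ⟨hc2, by rw [hfc]; exact inv_mem hc2, by rw [hfc, mul_inv_cancel]; exact one_mem _⟩
  have hZA : Gf X (n - 1) ≤ A := fun y hy => by
    have hcardZ : Nat.card (Gf X (n - 1)) = p := by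
      rw [card_gf' hX hc hn (by omega) (by omega), show n - (n - 1) = 1 by omega, pow_one]
    obtain ⟨j, hj⟩ := mem_zpowers_iff.mp (mem_zpowers_of_prime_card hcardZ
      (g := ⟨z, hz⟩) (g' := ⟨y, hy⟩) (by simpa [Subtype.ext_iff] using hz1))
    rw [show y = z ^ j from (congrArg Subtype.val hj).symm]
    exact A.zpow_mem hzA j
  have hcZ : c ∉ Gf X (n - 1) := fun h => by
    obtain ⟨t, ht, ht'⟩ := SetLike.exists_of_lt (S3806.gf_lt hX hc (i := n - 3) (by omega) (by omega))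
    refine exact_step hX hc hp2 hn he (by omega) (by omega) ht ht' ?_
    rw [show n - 3 + 2 = n - 1 by omega]
    exact zpowers_le.mpr h (hTe t ht)
  have hle : Gf X (n - 2) ≤ A := S3806.eq_of_mem_of_notMem hX hc (by omega) (by omega) (by omega)
    (by rwa [show n - 2 + 1 = n - 1 by omega]) hcA hc2 (by rwa [show n - 2 + 1 = n - 1 by omega])
  have h2 := (hle hm).2.2
  rw [hfm] at h2
  obtain ⟨j, hj⟩ := mem_zpowers_iff.mp h2
  refine hm' ?_
  obtain ⟨l, hl⟩ := IsPGroup.iff_orderOf.mp (IsPGroup.of_card hX) m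
  have hcop : Nat.Coprime 2 (orderOf m) := by
    rw [hl]
    exact Nat.Coprime.pow_right _ ((Nat.coprime_primes Nat.prime_two hp.out).mpr (Ne.symm hp2))
  obtain ⟨k, hk⟩ := exists_pow_eq_self_of_coprime hcop
  rw [← hk, sq, ← hj]
  exact pow_mem (zpow_mem (mem_zpowers c) j) k

end Cfsg.Agent.MaxClassAut94
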