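import Mathlib

/-!
A group of automorphisms of an elementary abelian group of order `p ^ 3` with a trivial-intersection
Sylow `p`-subgroup has Sylow `p`-subgroups of order at most `p`.
-/

set_option autoImplicit false

open Subgroup

namespace Cfsg.Agent.TransvectionSylow94

variable {M : Type*} [CommGroup M] {p : ℕ} [hp : Fact p.Prime]

/-- A nontrivial automorphism fixing `c` and moving everything inside `⟨c⟩`. -/
structure Trans (z : MulAut M) (c : M) : Prop where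
  ne : z ≠ 1
  ne_one : c ≠ 1
  fix : z c = c
  move : ∀ x, x⁻¹ * z x ∈ zpowers c

theorem mem_of_prime {A : Subgroup M} (hA : Nat.card A = p) {u v : M} (hu : u ∈ A) (hu1 : u ≠ 1)
    (hv : v ∈ A) : ∃ j : ℤ, u ^ j = v := by
  obtain ⟨j, hj⟩ := mem_zpowers_iff.mp (mem_zpowers_of_prime_card hA
    (g := ⟨u, hu⟩) (g' := ⟨v, hv⟩) (by simpa [Subtype.ext_iff] using hu1))
  exact ⟨j, congrArg Subtype.val hj⟩

/-- A flag-stabilising group of order at least `p ^ 2` contains a transvection. -/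
theorem exists_trans [Finite M] (A : Subgroup (MulAut M)) (L W : Subgroup M) (hM : Nat.card M = p ^ 3)
    (hL : Nat.card L = p) (hW : Nat.card W = p ^ 2) (hLW : L ≤ W)
    (hAtop : ∀ a ∈ A, ∀ x, x⁻¹ * a x ∈ W) (hAW : ∀ a ∈ A, ∀ w ∈ W, w⁻¹ * a w ∈ L)
    (hAL : ∀ a ∈ A, ∀ l ∈ L, a l = l) (hA : p ^ 2 ≤ Nat.card A) :
    ∃ z ∈ A, ∃ c, orderOf c = p ∧ Trans z c := by
  classical
  obtain ⟨c, hcL, hc1⟩ : ∃ c ∈ L, c ≠ 1 := by
    by_contra h
    push Not at h
    have : L = ⊥ := (eq_bot_iff_forall L).mpr h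
    rw [this, card_bot] at hL
    exact hp.out.one_lt.ne hL
  have hco : orderOf c = p := by
    refine orderOf_eq_prime ?_ hc1
    have := pow_card_eq_one' (G := L) (x := ⟨c, hcL⟩)
    rw [hL] at this
    exact congrArg Subtype.val this
  have hLc : ∀ l ∈ L, l ∈ zpowers c := fun l hl => by
    obtain ⟨j, rfl⟩ := mem_of_prime hL hcL hc1 hl
    exact zpow_mem (mem_zpowers c) j
  obtain ⟨w, hwW, hwL⟩ : ∃ w ∈ W, w ∉ L := by
    by_contra h
    push Not at h
    have := card_le_of_le h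
    rw [hW, hL] at this; have := hp.out.two_le
    nlinarith
  obtain ⟨e, -, heW⟩ : ∃ e ∈ (⊤ : Subgroup M), e ∉ W := by
    by_contra h
    push Not at h
    have := card_le_of_le h
    rw [hW, card_top, hM, Nat.pow_le_pow_iff_right hp.out.one_lt] at this
    omega
  have gen : ∀ (N K : Subgroup M), N ≤ K → Nat.card K = Nat.card N * p → ∀ {u}, u ∈ K → u ∉ N →
      zpowers u ⊔ N = K := by
    intro N K hNK hK u hu hu'
    refine eq_of_le_of_card_ge (sup_le (zpowers_le.mpr hu) hNK) ?_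
    have h1 : N.relIndex (zpowers u ⊔ N) ∣ p := by
      have h := card_mul_index (N.subgroupOf K)
      rw [Nat.card_congr (subgroupOfEquivOfLe hNK).toEquiv, hK] at h
      rw [← show N.relIndex K = p from Nat.eq_of_mul_eq_mul_left Nat.card_pos h]
      exact Dvd.intro _ (relIndex_mul_relIndex _ _ _ le_sup_right (sup_le (zpowers_le.mpr hu) hNK))
    have h2 : N.relIndex (zpowers u ⊔ N) ≠ 1 := fun h =>
      hu' (relIndex_eq_one.mp h (mem_sup_left (mem_zpowers u)))
    have h3 := card_mul_index (N.subgroupOf (zpowers u ⊔ N))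
    rw [Nat.card_congr (subgroupOfEquivOfLe le_sup_right).toEquiv, ← relIndex,
      ((Nat.dvd_prime hp.out).mp h1).resolve_left h2] at h3
    rw [hK, h3]
  by_cases hex : ∃ z ∈ A, z ≠ 1 ∧ z w = w ∧ e⁻¹ * z e ∈ L
  · obtain ⟨z, hzA, hz1, hzw, hze⟩ := hex
    refine ⟨z, hzA, c, hco, hz1, hc1, hAL z hzA c hcL, fun x => hLc _ ?_⟩
    have hW' := gen L W hLW (by rw [hW, hL, sq]) hwW hwL
    have hM' := gen W ⊤ le_top (by rw [card_top, hM, hW, pow_succ]) (mem_top e) heW
    have hx : x ∈ zpowers e ⊔ W := hM' ▸ mem_top x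
    let K : Subgroup M :=
      { carrier := {x | x⁻¹ * z x ∈ L}
        one_mem' := by simp [L.one_mem]
        mul_mem' := fun {a b} ha hb => by
          show (a * b)⁻¹ * z (a * b) ∈ L
          rw [map_mul, show (a * b)⁻¹ * (z a * z b) = (a⁻¹ * z a) * (b⁻¹ * z b) by
            rw [mul_inv_rev, mul_comm b⁻¹]; exact mul_mul_mul_comm _ _ _ _]
          exact L.mul_mem ha hb
        inv_mem' := fun {a} ha => by
          show a⁻¹⁻¹ * z a⁻¹ ∈ L
          rw [map_inv, inv_inv, show a * (z a)⁻¹ = (a⁻¹ * z a)⁻¹ by rw [mul_inv_rev, inv_inv, mul_comm]]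
          exact L.inv_mem ha }
    refine (sup_le (zpowers_le.mpr hze) ?_ : zpowers e ⊔ W ≤ K) hx
    rw [← hW']
    exact sup_le (zpowers_le.mpr (by show w⁻¹ * z w ∈ L; rw [hzw, inv_mul_cancel]; exact L.one_mem))
      fun l hl => by show l⁻¹ * z l ∈ L; rw [hAL z hzA l hl, inv_mul_cancel]; exact L.one_mem
  exfalso
  push Not at hex
  let q := QuotientGroup.mk' L
  let f : A →* W.map q × L :=
    { toFun := fun a => (⟨q (e⁻¹ * (a : MulAut M) e), mem_map_of_mem q (hAtop a a.2 e)⟩,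
        ⟨w⁻¹ * (a : MulAut M) w, hAW a a.2 w hwW⟩)
      map_one' := Prod.ext (Subtype.ext (by simp)) (Subtype.ext (by simp))
      map_mul' := fun a b => by
        have hb : ∀ (x : M), x⁻¹ * ((a * b : A) : MulAut M) x =
            (x⁻¹ * (a : MulAut M) x) * (a : MulAut M) (x⁻¹ * (b : MulAut M) x) := fun x => by
          rw [Subgroup.coe_mul, MulAut.mul_apply, map_mul, map_inv, mul_assoc x⁻¹,
            mul_inv_cancel_left]
        refine Prod.ext (Subtype.ext ?_) (Subtype.ext ?_)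
        · show q (e⁻¹ * ((a * b : A) : MulAut M) e) = q (e⁻¹ * (a : MulAut M) e) *
            q (e⁻¹ * (b : MulAut M) e)
          rw [hb, map_mul]
          congr 1
          exact (QuotientGroup.eq.mpr (hAW a a.2 _ (hAtop b b.2 e))).symm
        · show w⁻¹ * ((a * b : A) : MulAut M) w = (w⁻¹ * (a : MulAut M) w) * (w⁻¹ * (b : MulAut M) w)
          rw [hb, hAL a a.2 _ (hAW b b.2 w hwW)] }
  have hinj : Function.Injective f := by
    rw [injective_iff_map_eq_one]
    intro a ha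
    by_contra ha1
    refine hex a a.2 (fun h => ha1 (Subtype.ext h)) ?_ ?_
    · have := congrArg (fun t => ((t.2 : L) : M)) ha
      exact (inv_mul_eq_one.mp this).symm
    · have := congrArg (fun t => ((t.1 : W.map q) : M ⧸ L)) ha
      exact (QuotientGroup.eq_one_iff _).mp this
  have hq : Nat.card (W.map q) = p := by
    have h := card_mul_index (L.subgroupOf W)
    rw [Nat.card_congr (subgroupOfEquivOfLe hLW).toEquiv, hL, hW, sq] at h
    have hh := relIndex_ker (K := W) q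
    rw [QuotientGroup.ker_mk'] at hh
    rw [← hh]
    exact Nat.eq_of_mul_eq_mul_left hp.out.pos h
  have hsurj : Function.Surjective f :=
    (hinj.bijective_of_nat_card_le (by rw [Nat.card_prod, hq, hL, ← sq]; exact hA)).2
  obtain ⟨u, hu⟩ := hsurj (⟨q w, mem_map_of_mem q hwW⟩, 1)
  obtain ⟨v, hv⟩ := hsurj (1, ⟨c, hcL⟩)
  have huv : u * v = v * u := hinj (by rw [map_mul, map_mul, mul_comm])
  have hu2 : (u : MulAut M) w = w := by
    have := congrArg (fun t => ((t.2 : L) : M)) hu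
    exact (inv_mul_eq_one.mp this).symm
  have hv2 : (v : MulAut M) w = w * c := by
    have := congrArg (fun t => ((t.2 : L) : M)) hv
    exact inv_mul_eq_iff_eq_mul.mp this
  have hv1 : e⁻¹ * (v : MulAut M) e ∈ L := by
    have := congrArg (fun t => ((t.1 : W.map q) : M ⧸ L)) hv
    exact (QuotientGroup.eq_one_iff _).mp this
  have hu1 : w⁻¹ * (e⁻¹ * (u : MulAut M) e) ∈ L := by
    have := congrArg (fun t => ((t.1 : W.map q) : M ⧸ L)) hu
    exact QuotientGroup.eq.mp this.symm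
  obtain ⟨l1, hl1, e1⟩ : ∃ l ∈ L, (v : MulAut M) e = e * l := ⟨_, hv1, (mul_inv_cancel_left _ _).symm⟩
  obtain ⟨l2, hl2, e2⟩ : ∃ l ∈ L, (u : MulAut M) e = e * w * l :=
    ⟨_, hu1, by rw [mul_assoc e w, mul_inv_cancel_left, mul_inv_cancel_left]⟩
  have h := congrArg (fun t : A => (t : MulAut M) e) huv
  simp only [Subgroup.coe_mul, MulAut.mul_apply] at h
  rw [e1, map_mul, e2, hAL _ u.2 l1 hl1, map_mul, map_mul, e1, hv2, hAL _ v.2 l2 hl2] at h
  apply hc1
  rw [show e * l1 * (w * c) * l2 = e * w * l2 * l1 * c by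
    simp [mul_comm, mul_left_comm, mul_assoc]] at h
  exact (mul_eq_left.mp h.symm)

/-- A transvection in a trivial-intersection Sylow subgroup generates it. -/
theorem mem_zpowers_of_trans [Finite M] {H M0 A : Subgroup (MulAut M)} (hAH : A ≤ H)
    (hAp : IsPGroup p A) (hM0 : ∃ g ∈ H, g ∉ M0)
    (hTI : ∀ g ∈ H, ∀ a ∈ A, a ≠ 1 → g * a * g⁻¹ ∈ A → g ∈ M0)
    (hsyl : ∀ R : Subgroup (MulAut M), R ≤ H → IsPGroup p R →
      ∃ h ∈ H, ∀ r ∈ R, h * r * h⁻¹ ∈ A)
    {z : MulAut M} {c : M} (hz : z ∈ A) (hc : orderOf c = p) (ht : Trans z c) :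
    ∀ y ∈ A, y ∈ zpowers z := by
  classical
  have hpair : ∀ u v : MulAut M, u ∈ H → v ∈ H → (∃ k, u ^ p ^ k = 1) → (∃ k, v ^ p ^ k = 1) →
      Commute u v → ∃ h ∈ H, h * u * h⁻¹ ∈ A ∧ h * v * h⁻¹ ∈ A := by
    intro u v hu hv ⟨k, hk⟩ ⟨l, hl⟩ huv
    have hR : IsPGroup p (closure ({u, v} : Set (MulAut M))) := by
      rintro ⟨r, hr⟩
      obtain ⟨a, b, rfl⟩ : ∃ a b : ℤ, u ^ a * v ^ b = r := by
        clear hk hl
        induction hr using closure_induction with
        | mem x hx =>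
          rcases hx with rfl | rfl
          · exact ⟨1, 0, by simp⟩
          · exact ⟨0, 1, by simp⟩
        | one => exact ⟨0, 0, by simp⟩
        | mul x y _ _ hx hy =>
          obtain ⟨a, b, rfl⟩ := hx
          obtain ⟨a', b', rfl⟩ := hy
          refine ⟨a + a', b + b', ?_⟩
          rw [zpow_add, zpow_add, mul_assoc, mul_assoc,
            (Commute.zpow_zpow huv a' b).left_comm]
        | inv x _ hx =>
          obtain ⟨a, b, rfl⟩ := hx
          exact ⟨-a, -b, by rw [mul_inv_rev, ← zpow_neg, ← zpow_neg,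
            (Commute.zpow_zpow huv (-a) (-b)).eq]⟩
      refine ⟨k + l, Subtype.ext ?_⟩
      show (u ^ a * v ^ b) ^ p ^ (k + l) = 1
      rw [(Commute.zpow_zpow huv a b).mul_pow, ← zpow_natCast, ← zpow_mul, mul_comm, zpow_mul,
        zpow_natCast, ← zpow_natCast (v ^ b), ← zpow_mul, mul_comm b, zpow_mul, zpow_natCast,
        pow_add, pow_mul, hk, one_pow, one_zpow, one_mul, mul_comm (p ^ k), pow_mul, hl, one_pow,
        one_zpow]
    obtain ⟨h, hh, hA⟩ := hsyl _ ((closure_le _).mpr (by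
      rintro t (rfl | rfl)
      · exact hu
      · exact hv)) hR
    exact ⟨h, hh, hA u (subset_closure (Or.inl rfl)), hA v (subset_closure (Or.inr rfl))⟩
  have hpow : ∀ a ∈ A, ∃ k, a ^ p ^ k = 1 := fun a ha => by
    obtain ⟨k, hk⟩ := hAp ⟨a, ha⟩
    exact ⟨k, congrArg Subtype.val hk⟩
  have hconjpow : ∀ (g : MulAut M) {a}, a ∈ A → ∃ k, (g * a * g⁻¹) ^ p ^ k = 1 := fun g a ha => by
    obtain ⟨k, hk⟩ := hpow a ha
    exact ⟨k, by rw [conj_pow, hk, mul_one, mul_inv_cancel]⟩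
  -- commuting nontrivial elements force `g ∈ M0`
  have hcom : ∀ g ∈ H, ∀ a ∈ A, a ≠ 1 → ∀ b ∈ A, b ≠ 1 → Commute a (g * b * g⁻¹) → g ∈ M0 := by
    intro g hg a ha ha1 b hb hb1 hab
    obtain ⟨h, hh, h1, h2⟩ := hpair a _ (hAH ha) (mul_mem (mul_mem hg (hAH hb)) (inv_mem hg))
      (hpow a ha) (hconjpow g hb) hab
    have := hTI (h * g) (mul_mem hh hg) b hb hb1 (by simpa [mul_assoc] using h2)
    simpa using mul_mem (inv_mem (hTI h hh a ha ha1 h1)) this
  have hz1 := ht.ne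
  obtain ⟨g, hgH, hg⟩ := hM0
  -- the centre of a conjugate avoids the axis
  have hgen : ∀ {u : M}, u ∈ zpowers c → u ≠ 1 → ∀ {v}, v ∈ zpowers c → ∃ j : ℤ, u ^ j = v :=
    fun {u} hu hu1 {v} hv => mem_of_prime (by rw [Nat.card_zpowers, hc]) hu hu1 hv
  have hzfix : ∀ y ∈ zpowers c, z y = y := by
    intro y hy
    obtain ⟨i, rfl⟩ := mem_zpowers_iff.mp hy
    rw [map_zpow, ht.fix]
  have inc : ∀ g ∈ H, g ∉ M0 → z (g c) ≠ g c := by
    intro g hgH hg hfix
    apply hg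
    obtain ⟨σ, hσdef⟩ : ∃ σ, σ = g * z * g⁻¹ := ⟨_, rfl⟩
    have hσmove : ∀ x, x⁻¹ * σ x ∈ zpowers (g c) := fun x => by
      obtain ⟨i, hi⟩ := mem_zpowers_iff.mp (ht.move (g⁻¹ x))
      refine mem_zpowers_iff.mpr ⟨i, ?_⟩
      rw [← map_zpow, hi, map_mul, map_inv, MulAut.apply_inv_self, hσdef]
      rfl
    have hσd : ∀ y ∈ zpowers (g c), σ y = y ∧ z y = y := by
      intro y hy
      obtain ⟨i, rfl⟩ := mem_zpowers_iff.mp hy
      refine ⟨?_, by rw [map_zpow, hfix]⟩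
      rw [map_zpow, hσdef, MulAut.mul_apply, MulAut.mul_apply, MulAut.inv_apply_self, ht.fix]
    have eτ : ∀ x, z x = x * (x⁻¹ * z x) := fun x => (mul_inv_cancel_left _ _).symm
    have eσ : ∀ x, σ x = x * (x⁻¹ * σ x) := fun x => (mul_inv_cancel_left _ _).symm
    have hσH : σ ∈ H := hσdef ▸ mul_mem (mul_mem hgH (hAH hz)) (inv_mem hgH)
    by_cases hσc : σ c = c
    · refine hcom g hgH z hz hz1 z hz hz1 (hσdef ▸ MulEquiv.ext fun x => ?_)
      obtain ⟨i, hi⟩ := mem_zpowers_iff.mp (ht.move x)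
      calc z (σ x) = z x * (x⁻¹ * σ x) := by
            conv_lhs => rw [eσ x]
            rw [map_mul, (hσd _ (hσmove x)).2]
        _ = σ x * (x⁻¹ * z x) := by rw [mul_left_comm (σ x), ← mul_assoc]; ac_rfl
        _ = σ (z x) := by
            conv_rhs => rw [eτ x, map_mul, ← hi, map_zpow, hσc]
            rw [hi]
    obtain ⟨γ, hγdef⟩ : ∃ γ, γ = (z * σ)⁻¹ * (σ * z) := ⟨_, rfl⟩
    have hγH : γ ∈ H := hγdef ▸
      mul_mem (inv_mem (mul_mem (hAH hz) hσH)) (mul_mem hσH (hAH hz))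
    have hγ : ∀ x, γ x = x * ((x⁻¹ * z x)⁻¹ * σ (x⁻¹ * z x)) := by
      intro x
      rw [hγdef, MulAut.mul_apply]
      apply (z * σ).injective
      rw [MulAut.apply_inv_self, MulAut.mul_apply, MulAut.mul_apply]
      obtain ⟨hs, hτ⟩ := hσd _ (hσmove (x⁻¹ * z x))
      rw [map_mul σ x, hs, map_mul z, hτ, eσ x, map_mul z x, (hσd _ (hσmove x)).2]
      conv_lhs => rw [eτ x, map_mul, eσ x]
      rw [eσ (x⁻¹ * z x)]
      simp [mul_comm, mul_left_comm, mul_assoc]
    have hval : ∀ x, ((x⁻¹ * z x)⁻¹ * σ (x⁻¹ * z x)) ∈ zpowers (g c) := fun x => hσmove _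
    have hcz : Commute γ z := MulEquiv.ext fun x => by
      rw [MulAut.mul_apply, MulAut.mul_apply, hγ, hγ, map_mul z x, (hσd _ (hval x)).2]
      congr 3 <;>
      · show (z x)⁻¹ * z (z x) = x⁻¹ * z x
        conv_lhs => rw [eτ x, map_mul, hzfix _ (ht.move x), eτ x]
        simp [mul_comm, mul_left_comm, mul_assoc]
    have hcs : Commute γ σ := MulEquiv.ext fun x => by
      rw [MulAut.mul_apply, MulAut.mul_apply, hγ, hγ, map_mul σ x, (hσd _ (hval x)).1]
      congr 3 <;>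
      · show (σ x)⁻¹ * z (σ x) = x⁻¹ * z x
        conv_lhs => rw [eσ x, map_mul, (hσd _ (hσmove x)).2]
        simp [mul_comm, mul_left_comm, mul_assoc]
    have hγp : γ ^ p = 1 := by
      have key : ∀ (k : ℕ) x, (γ ^ k) x = x * ((x⁻¹ * z x)⁻¹ * σ (x⁻¹ * z x)) ^ k := by
        intro k
        induction k with
        | zero => simp
        | succ k ih =>
          intro x
          have hfixγ : γ ((x⁻¹ * z x)⁻¹ * σ (x⁻¹ * z x)) = (x⁻¹ * z x)⁻¹ * σ (x⁻¹ * z x) := by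
            rw [hγ, (hσd _ (hval x)).2, inv_mul_cancel]
            simp
          rw [pow_succ', MulAut.mul_apply, ih, map_mul, map_pow, hfixγ, hγ, pow_succ', mul_assoc]
      refine MulEquiv.ext fun x => ?_
      obtain ⟨i, hi⟩ := mem_zpowers_iff.mp (hval x)
      rw [key, ← hi, ← map_zpow, ← map_pow, ← zpow_natCast (c ^ i), ← zpow_mul, mul_comm, zpow_mul,
        zpow_natCast, ← hc, show (c ^ i) ^ orderOf c = 1 by
          rw [← zpow_natCast, ← zpow_mul, mul_comm, zpow_mul, zpow_natCast, pow_orderOf_eq_one, one_zpow],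
        map_one, one_mul]
      rfl
    obtain ⟨h, hh, h1, h2⟩ := hpair γ z hγH (hAH hz) ⟨1, by rw [pow_one, hγp]⟩ (hpow z hz) hcz
    have hhM := hTI h hh z hz hz1 h2
    have hne : h * γ * h⁻¹ ≠ 1 := by
      intro h'
      apply hσc
      have hγ1 : γ = 1 := by
        have := congrArg (fun t => h⁻¹ * t * h) h'
        simpa [mul_assoc] using this
      obtain ⟨x, hx⟩ : ∃ x, x⁻¹ * z x ≠ 1 := by
        by_contra hh'
        push_neg at hh'
        exact hz1 (MulEquiv.ext fun x => by rw [eτ x, hh' x, mul_one]; rfl)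
      obtain ⟨j, hj⟩ := hgen (ht.move x) hx (mem_zpowers c)
      have := hγ x
      rw [hγ1, MulAut.one_apply, left_eq_mul, inv_mul_eq_one] at this
      rw [← hj, map_zpow, ← this]
    have := hcom (h * g) (mul_mem hh hgH) _ h1 hne z hz hz1 (by
      have := (hcs.map (MulAut.conj h).toMonoidHom)
      simpa [hσdef, mul_assoc] using this)
    simpa using mul_mem (inv_mem hhM) this
  -- conjugating a nontrivial element of `A` does not land in `M0`
  have hconj : ∀ g ∈ H, g ∉ M0 → ∀ a ∈ A, a ≠ 1 → g⁻¹ * a * g ∉ M0 := by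
    intro g hgH hg a ha ha1 hmem
    apply hg
    have hAM : A ≤ M0 := fun b hb => hTI b (hAH hb) z hz hz1 (A.mul_mem (A.mul_mem hb hz) (A.inv_mem hb))
    have hb : g⁻¹ * a * g ∈ M0 ⊓ H := ⟨hmem, H.mul_mem (H.mul_mem (H.inv_mem hgH) (hAH ha)) hgH⟩
    let A' : Subgroup (M0 ⊓ H : Subgroup (MulAut M)) := A.subgroupOf (M0 ⊓ H)
    have hA'c : Nat.card A' = Nat.card A :=
      Nat.card_congr (subgroupOfEquivOfLe (le_inf hAM hAH)).toEquiv
    obtain ⟨T, hT⟩ := (hAp.of_equiv (subgroupOfEquivOfLe (le_inf hAM hAH)).symm).exists_le_sylow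
    have hTA : (T : Subgroup (M0 ⊓ H : Subgroup (MulAut M))) = A' := by
      refine (eq_of_le_of_card_ge hT ?_).symm
      have hmp : IsPGroup p ((T : Subgroup _).map (M0 ⊓ H : Subgroup (MulAut M)).subtype) := T.2.map _
      obtain ⟨h, hh, hR⟩ := hsyl _ ((map_subtype_le _).trans inf_le_right) hmp
      have hcard : Nat.card ((T : Subgroup _).map (M0 ⊓ H : Subgroup (MulAut M)).subtype) ≤ Nat.card A :=
        Nat.card_le_card_of_injective (fun r => (⟨h * r * h⁻¹, hR r r.2⟩ : A)) fun r s e =>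
          Subtype.ext (mul_left_cancel (mul_right_cancel (congrArg Subtype.val e)))
      rw [card_map_of_injective (subtype_injective _)] at hcard
      rw [hA'c]
      exact hcard
    obtain ⟨k, hk⟩ := hconjpow g⁻¹ ha
    rw [inv_inv] at hk
    have hbp : IsPGroup p (zpowers (⟨_, hb⟩ : (M0 ⊓ H : Subgroup (MulAut M)))) := by
      rintro ⟨x, hx⟩
      obtain ⟨i, rfl⟩ := mem_zpowers_iff.mp hx
      refine ⟨k, Subtype.ext (Subtype.ext ?_)⟩
      show ((g⁻¹ * a * g) ^ i) ^ p ^ k = 1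
      rw [← zpow_natCast, ← zpow_mul, mul_comm, zpow_mul, zpow_natCast, hk, one_zpow]
    obtain ⟨T', hT'⟩ := hbp.exists_le_sylow
    obtain ⟨m, hm⟩ := MulAction.exists_smul_eq (M0 ⊓ H : Subgroup (MulAut M)) T' T
    have h3 : m * ⟨_, hb⟩ * m⁻¹ ∈ A' := by
      rw [← hTA, ← hm]
      exact ⟨_, hT' (mem_zpowers _), rfl⟩
    have h4 := hTI ((m : MulAut M) * g⁻¹) (mul_mem m.2.2 (inv_mem hgH)) a ha ha1 (by
      simpa [A', mem_subgroupOf, mul_assoc] using h3)
    have h5 : g⁻¹ ∈ M0 := by simpa using M0.mul_mem (M0.inv_mem m.2.1) h4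
    exact inv_mem_iff.mp h5
  intro y hy
  by_contra hyz
  have hy1 : y ≠ 1 := fun h => hyz (h ▸ one_mem _)
  have hygH : y * g ∈ H := mul_mem (hAH hy) hgH
  have hygM : y * g ∉ M0 := fun h => hg (by
    have := mul_mem (inv_mem (hTI y (hAH hy) z hz hz1 (A.mul_mem (A.mul_mem hy hz) (A.inv_mem hy)))) h
    simpa using this)
  obtain ⟨σ, hσdef⟩ : ∃ σ, σ = (y * g) * z * (y * g)⁻¹ := ⟨_, rfl⟩
  have hσfix : ∀ x, σ x = x → z ((y * g)⁻¹ x) = (y * g)⁻¹ x := fun x hx => by
    rw [hσdef, MulAut.mul_apply, MulAut.mul_apply] at hx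
    apply (y * g).injective
    rw [hx, MulAut.apply_inv_self]
  have hσmove : ∀ x, x⁻¹ * σ x ∈ zpowers ((y * g) c) := fun x => by
    obtain ⟨i, hi⟩ := mem_zpowers_iff.mp (ht.move ((y * g)⁻¹ x))
    refine mem_zpowers_iff.mpr ⟨i, ?_⟩
    rw [← map_zpow, hi, map_mul, map_inv, MulAut.apply_inv_self, hσdef]
    rfl
  have hc1 : c⁻¹ * σ c ≠ 1 := fun h => by
    have := hσfix c (inv_mul_eq_one.mp h).symm
    exact inc ((y * g)⁻¹) (inv_mem hygH) (fun h' => hygM (inv_mem_iff.mp h')) this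
  have hdcard : Nat.card (zpowers ((y * g) c)) = p := by
    rw [Nat.card_zpowers, MulEquiv.orderOf_eq, hc]
  obtain ⟨i, hi⟩ := mem_of_prime hdcard (hσmove c) hc1 (hσmove (g c))
  have hgc : (g c)⁻¹ * z (g c) ≠ 1 := fun h => inc g hgH hg (inv_mul_eq_one.mp h).symm
  obtain ⟨k, hk⟩ := hgen (ht.move (g c)) hgc (zpow_mem (mem_zpowers c) (-i))
  have hzk : ∀ (k : ℤ) x, (z ^ k) x = x * (x⁻¹ * z x) ^ k := by
    have step : ∀ y, z y = y * (y⁻¹ * z y) := fun y => (mul_inv_cancel_left _ _).symm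
    have nat : ∀ (k : ℕ) x, (z ^ k) x = x * (x⁻¹ * z x) ^ k := fun k => by
      induction k with
      | zero => simp
      | succ k ih =>
        intro x
        rw [pow_succ', MulAut.mul_apply, ih, map_mul, map_pow, hzfix _ (ht.move x)]
        rw [pow_succ', ← mul_assoc, mul_inv_cancel_left]
    intro k x
    obtain ⟨n, rfl | rfl⟩ := Int.eq_nat_or_neg k
    · rw [zpow_natCast, zpow_natCast, nat]
    · rw [zpow_neg, zpow_neg, zpow_natCast, zpow_natCast]
      apply (z ^ n).injective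
      rw [MulAut.apply_inv_self, map_mul, nat, map_inv, nat, hzfix _ (pow_mem (ht.move x) n)]
      simp [mul_comm, mul_left_comm, mul_assoc]
  have hx : σ ((z ^ k) (g c)) = (z ^ k) (g c) := by
    rw [hzk, hk, map_mul, map_zpow, zpow_neg, zpow_neg]
    have e1 : σ (g c) = g c * (c⁻¹ * σ c) ^ i := by rw [hi, mul_inv_cancel_left]
    rw [e1, mul_zpow, inv_zpow]
    simp [mul_comm, mul_left_comm, mul_assoc]
  have hne : y⁻¹ * z ^ k ≠ 1 := fun h => hyz (inv_mul_eq_one.mp h ▸ zpow_mem (mem_zpowers z) k)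
  have := hconj g hgH hg _ (mul_mem (inv_mem hy) (zpow_mem hz k)) hne
  refine inc _ (mul_mem (mul_mem (inv_mem hgH) (mul_mem (inv_mem (hAH hy)) (zpow_mem (hAH hz) k))) hgH)
    this ?_
  have h' := hσfix _ hx
  have e : (g⁻¹ * (y⁻¹ * z ^ k) * g) c = (y * g)⁻¹ ((z ^ k) (g c)) := by
    rw [mul_inv_rev]; rfl
  rwa [e]

end Cfsg.Agent.TransvectionSylow94
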