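import Mathlib
import Cfsg.Agent.Lib.FusionFlag94
import Cfsg.Agent.Lib.FusionPearlCube
import Cfsg.Agent.Lib.MaxClassAut94
import Cfsg.Agent.Lib.TransvectionSylow94
import Cfsg.Agent.S5186
import Cfsg.Agent.S5326

/-!
No essential elementary abelian subgroup of order `p ^ 3` in a saturated fusion system over a
`p`-group of maximal class of order at least `p ^ 5`, `p` odd.
-/

set_option autoImplicit false

open scoped commutatorElement

namespace Cfsg.Agent.FusionSoft94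

open Cfsg Cfsg.FusionSystem Cfsg.Agent.FusionSysBasic Cfsg.Agent.FusionSysSaturated
  Cfsg.Agent.FusionSysAlperin
open PGroupsHallPetrescu (Gf Gf_antitone commutator_mem_Gf)
open Blackburn20 (Ct mem_Ct)
open MaxClassSoft94 MaxClassAut94

variable {Ω : Type*} [Group Ω] {S : Subgroup Ω}

/-- A subgroup of `S` seen in the ambient group. -/
def up (H : Subgroup S) : Subgroup Ω := H.map S.subtype

theorem coe_mem_up {H : Subgroup S} {x : S} : (x : Ω) ∈ up H ↔ x ∈ H :=
  Subgroup.mem_map_iff_mem S.subtype_injective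

theorem up_le (H : Subgroup S) : up H ≤ S := Subgroup.map_subtype_le _

theorem exists_of_mem_up {H : Subgroup S} {y : Ω} (hy : y ∈ up H) : ∃ x ∈ H, (x : Ω) = y := hy

theorem card_up (H : Subgroup S) : Nat.card (up H) = Nat.card H :=
  Subgroup.card_map_of_injective S.subtype_injective

theorem up_subgroupOf {Q : Subgroup Ω} (hQ : Q ≤ S) : up (Q.subgroupOf S) = Q :=
  Subgroup.map_subgroupOf_eq_of_le hQ

theorem up_mono {H K : Subgroup S} (h : H ≤ K) : up H ≤ up K := Subgroup.map_mono h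

variable [Finite S] {p n : ℕ} [hp : Fact p.Prime] {F : FusionSystem S}

theorem normalizerIn_up (H : Subgroup S) :
    normalizerIn S (up H) = up (Subgroup.normalizer (H : Set S)) := by
  ext y
  constructor
  · intro hy
    refine ⟨⟨y, hy.1⟩, ?_, rfl⟩
    refine Subgroup.mem_normalizer_fintype fun x hx => ?_
    have := cj_mem_of_normalizer hy.2 (coe_mem_up.mpr hx)
    exact (coe_mem_up (x := ⟨y, hy.1⟩ * x * (⟨y, hy.1⟩)⁻¹)).mp this
  · rintro ⟨x, hx, rfl⟩
    refine ⟨x.2, mem_normalizer_of_cj_le (up_le H) fun z hz => ?_⟩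
    obtain ⟨w, hw, rfl⟩ := exists_of_mem_up hz
    exact (coe_mem_up (x := x * w * x⁻¹)).mpr ((Subgroup.mem_normalizer_iff.mp hx w).mp hw)

/-- `f` is an automorphism of `H` in the system. -/
def FAut (F : FusionSystem S) (H : Subgroup S) (f : S → S) : Prop :=
  AutX H f ∧ ∃ g, Mor F (up H) g ∧ ∀ x ∈ H, g (x : Ω) = (f x : Ω)

theorem fAut_of_mor {H : Subgroup S} {g : Ω → Ω} (hg : Mor F (up H) g)
    (him : ∀ x ∈ up H, g x ∈ up H) :
    ∃ f, FAut F H f ∧ ∀ x ∈ H, (f x : Ω) = g (x : Ω) := by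
  classical
  let f : S → S := fun x => if h : x ∈ H then ⟨g x, hg.apply_mem (coe_mem_up.mpr h)⟩ else 1
  have hf : ∀ x ∈ H, (f x : Ω) = g (x : Ω) := fun x hx => by simp only [f, dif_pos hx]
  refine ⟨f, ⟨⟨fun x hx => ?_, fun x hx y hy => ?_, fun y hy => ?_⟩, g, hg, fun x hx => (hf x hx).symm⟩, hf⟩
  · rw [← coe_mem_up, hf x hx]; exact him _ (coe_mem_up.mpr hx)
  · refine Subtype.ext ?_
    rw [Subgroup.coe_mul, hf _ (H.mul_mem hx hy), hf x hx, hf y hy, Subgroup.coe_mul,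
      hg.map_mul (coe_mem_up.mpr hx) (coe_mem_up.mpr hy)]
  · have h := hg.im_self him
    obtain ⟨x, hx, e⟩ := hg.mem_im.mp (h.ge (coe_mem_up.mpr hy))
    obtain ⟨x', hx', rfl⟩ := exists_of_mem_up hx
    exact ⟨x', hx', Subtype.ext ((hf x' hx').trans e)⟩

theorem fAut_of_aut {H : Subgroup S} {α : MulAut (up H)} (hα : α ∈ F.autGroup (up H)) :
    ∃ f, FAut F H f ∧ ∀ x ∈ H, (f x : Ω) = afun α (x : Ω) :=
  fAut_of_mor ((mem_autGroup (up_le H)).mp hα) fun _ hx => afun_mem α hx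

theorem FAut.exists_aut {H : Subgroup S} {f : S → S} (h : FAut F H f) :
    ∃ α ∈ F.autGroup (up H), ∀ x ∈ H, afun α (x : Ω) = (f x : Ω) := by
  obtain ⟨hf, g, hg, he⟩ := h
  obtain ⟨α, hα, hα'⟩ := hg.exists_aut (hg.im_self fun y hy => by
    obtain ⟨x, hx, rfl⟩ := exists_of_mem_up hy
    rw [he x hx]; exact coe_mem_up.mpr (hf.mem x hx))
  exact ⟨α, hα, fun x hx => (hα' _ (coe_mem_up.mpr hx)).trans (he x hx)⟩

/-- A subgroup and its image under an automorphism of a larger subgroup are conjugate. -/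
theorem FAut.isConj {H K K' : Subgroup S} {f : S → S} (h : FAut F H f) (hK : K ≤ H)
    (hmap : ∀ x ∈ K, f x ∈ K') (hc : Nat.card K' ≤ Nat.card K) : F.IsConj (up K) (up K') := by
  obtain ⟨-, g, hg, he⟩ := h
  have hr := hg.restrict_to (up_mono hK)
  refine isConj_iff.mpr ⟨g, hr, hr.im_eq_of_le (up_le K') (im_le_iff.mpr fun y hy => ?_)
    (by rw [card_up, card_up]; exact hc)⟩
  obtain ⟨x, hx, rfl⟩ := exists_of_mem_up hy
  rw [he x (hK hx)]
  exact coe_mem_up.mpr (hmap x hx)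

/-- Extension along an invariant flag with prime steps. -/
theorem FAut.extend (hS : IsPGroup p S) (hF : F.IsSaturated p) {H : Subgroup S}
    (hfn : F.IsFullyNormalized (up H)) {k : ℕ} (K : ℕ → Subgroup S) (h0 : K 0 = ⊥) (hk : K k = H)
    (hmono : ∀ i < k, K i ≤ K (i + 1)) (hle : ∀ i ≤ k, K i ≤ H)
    (hstep : ∀ i < k, Nat.card (K (i + 1)) = Nat.card (K i) * p)
    (hinv : ∀ f, FAut F H f → ∀ i ≤ k, ∀ x ∈ K i, f x ∈ K i) {f : S → S} (hf : FAut F H f) :
    ∃ f', FAut F (Subgroup.normalizer (H : Set S)) f' ∧ ∀ x ∈ H, f' x = f x := by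
  obtain ⟨α, hα, hαf⟩ := hf.exists_aut
  obtain ⟨g, hg, hgN, hgα⟩ := FusionFlag94.extend_of_flag hS hF hfn (fun i => up (K i))
    (by rw [h0]; exact Subgroup.map_bot _) (by rw [hk]) (fun i hi => up_mono (hmono i hi))
    (fun i hi => up_mono (hle i hi)) (fun i hi => by rw [card_up, card_up]; exact hstep i hi)
    (fun β hβ i hi y hy => by
      obtain ⟨f₁, hf₁, he⟩ := fAut_of_aut hβ
      obtain ⟨x, hx, rfl⟩ := exists_of_mem_up hy
      rw [← he x (hle i hi hx)]
      exact coe_mem_up.mpr (hinv f₁ hf₁ i hi x hx)) hα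
  rw [normalizerIn_up] at hg hgN
  obtain ⟨f', hf', he⟩ := fAut_of_mor hg hgN
  refine ⟨f', hf', fun x hx => Subtype.ext ?_⟩
  rw [he x (Subgroup.le_normalizer hx), hgα _ (coe_mem_up.mpr hx), hαf x hx]

/-- A subgroup closed under commutation with generators. -/
theorem comm_mem_of_gen {X : Type*} [Group X] {s : Set X} {C : Subgroup X} {y : X}
    (hs : ∀ x ∈ s, ⁅x, y⁆ ∈ C)
    (hC : ∀ c ∈ C, ∀ x ∈ Subgroup.closure s, x * c = c * x) :
    ∀ x ∈ Subgroup.closure s, ⁅x, y⁆ ∈ C := by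
  intro x hx
  induction hx using Subgroup.closure_induction with
  | mem x hx => exact hs x hx
  | one => rw [commutatorElement_one_left]; exact C.one_mem
  | mul a b ha _ ha' hb' =>
    rw [show ⁅a * b, y⁆ = a * ⁅b, y⁆ * a⁻¹ * ⁅a, y⁆ by simp only [commutatorElement_def]; group,
      hC _ hb' a ha, mul_inv_cancel_right]
    exact C.mul_mem hb' ha'
  | inv a ha ha' =>
    rw [show ⁅a⁻¹, y⁆ = a⁻¹ * ⁅a, y⁆⁻¹ * a by simp only [commutatorElement_def]; group,
      hC _ (C.inv_mem ha') a⁻¹ ((Subgroup.closure s).inv_mem ha), inv_mul_cancel_right]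
    exact C.inv_mem ha'

section Setting

variable (hX : Nat.card S = p ^ n) (hc : Group.nilpotencyClass S = n - 1) (hp2 : p ≠ 2) (hn : 5 ≤ n)
  (hS : IsPGroup p S) (hF : F.IsSaturated p)

include hX hc hp2 hn

/-- A good subgroup lies in no normal subgroup of index `p ^ 2` in the six case. -/
theorem normalizer_ne_top_of_six (h6 : n = 6) {E' Q : Subgroup S} (hE' : Good p E') (hle : E' ≤ Q)
    (hQ : Nat.card Q = p ^ 4) : Subgroup.normalizer (Q : Set S) ≠ ⊤ := by
  intro htop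
  have hn' : Q.Normal := Subgroup.normalizer_eq_top_iff.mp htop
  obtain ⟨e', hf'⟩ := exists_frame hX hc hp2 hn hE'
  have hq : Q.index = p ^ 2 := by
    have h := Q.card_mul_index
    rw [hQ, hX, h6, show p ^ 6 = p ^ 4 * p ^ 2 by ring] at h
    exact Nat.eq_of_mul_eq_mul_left (pow_pos hp.out.pos 4) h
  have hcm : Gf S 2 ≤ Q := by
    have h2 : Gf S 2 = commutator S := Subgroup.top_lowerCentralSeries_one
    rw [h2]
    exact PGroupsBasic.commutator_le_of_index_le_sq (IsPGroup.of_card hX) hq.le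
  have heq : Gf S 2 = Q := Subgroup.eq_of_le_of_card_ge hcm (by
    rw [hQ, card_gf' hX hc hn le_rfl (by omega), h6])
  exact hf'.notMem (heq.ge (hle hf'.mem))

theorem card_le_of_ne_top {H : Subgroup S} (h : H ≠ ⊤) : Nat.card H ≤ p ^ (n - 1) := by
  obtain ⟨u, hu⟩ := IsPGroup.iff_card.mp ((IsPGroup.of_card hX).to_subgroup H)
  have hlt : Nat.card H < p ^ n := by
    rw [← hX]
    refine lt_of_le_of_ne (Subgroup.card_le_card_group H) fun e => h ?_
    exact Subgroup.eq_top_of_card_eq H e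
  rw [hu] at hlt ⊢
  have := (Nat.pow_lt_pow_iff_right hp.out.one_lt).mp hlt
  exact Nat.pow_le_pow_right hp.out.pos (by omega)

end Setting

/-- Data of an inverting automorphism on the normalizer of a good subgroup. -/
structure Sign (E0 : Subgroup S) (e c m : S) (p n : ℕ) (f : S → S) : Prop where
  c_mem : c ∈ E0 ⊓ Gf S 2
  c_ord : orderOf c = p
  m_mem : m ∈ E0 ⊓ Gf S 2
  m_notMem : m ∉ Subgroup.zpowers c
  comm_mem : ∀ t ∈ Gf S (n - 3), ⁅t, e⁆ ∈ Subgroup.zpowers c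
  f_c : f c = c⁻¹
  f_e : f e * e ∈ E0 ⊓ Gf S 2
  f_m : f m = m
  f_t : ∀ t ∈ Gf S (n - 3), t⁻¹ * f t ∈ E0 ⊓ Gf S 2
  c_comm : ∃ t ∈ Gf S (n - 3), ⁅t, e⁆ = c

section Essential

variable (hS : IsPGroup p S) (hF : F.IsSaturated p) {E : Subgroup Ω} (hE : F.IsEssential p E)
  (hcard : Nat.card E = p ^ 3) (hcomm : ∀ a ∈ E, ∀ b ∈ E, a * b = b * a)
  (hexp : ∀ a ∈ E, a ^ p = 1)

include hS hF hE hcard hcomm hexp

omit hexp in
theorem inn_eq_bot : Inn E = ⊥ := by
  rw [Inn, MonoidHom.range_eq_bot_iff]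
  refine MonoidHom.ext fun a => MulEquiv.ext fun b => Subtype.ext ?_
  show (a : Ω) * b * (a : Ω)⁻¹ = b
  rw [hcomm a a.2 b b.2, mul_inv_cancel_right]

omit hexp in
theorem centralizerIn_eq : centralizerIn S E = E :=
  le_antisymm (centralizerIn_le_of_centric hE.1) fun x hx =>
    mem_centralizerIn.mpr ⟨hE.1.1 hx, fun y hy => by
      rw [cj_apply, hcomm x hx y hy, mul_inv_cancel_right]⟩

/-- `Aut_S(E)` has order `p`. -/
theorem card_autInducedBy_eq : Nat.card (autInducedBy S E) = p := by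
  classical
  have hES : E ≤ S := hE.1.1
  haveI := finite_of_le hES
  haveI := finite_autGroup (F := F) E
  haveI := finite_normalizerIn (S := S) E
  letI : CommGroup E :=
    { (inferInstance : Group E) with mul_comm := fun x y => Subtype.ext (hcomm x x.2 y y.2) }
  let A := autInducedBy S E
  have hAH : A ≤ F.autGroup E := autInducedBy_le hES
  have hAp : IsPGroup p A := isPGroup_autInducedBy hS E
  have hcn := card_normalizerIn S E
  rw [centralizerIn_eq hS hF hE hcard hcomm, hcard] at hcn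
  obtain ⟨k, hk⟩ := IsPGroup.iff_card.mp hAp
  have hgt := normalizerIn_gt hS (essential_lt hS hF hE)
  rw [hcn, hcard, hk] at hgt
  have hk1 : 1 ≤ k := by
    by_contra h
    obtain rfl : k = 0 := by omega
    rw [pow_zero, one_mul] at hgt
    exact lt_irrefl _ hgt
  rw [hk]
  by_contra hne
  have hk2 : 2 ≤ k := by
    by_contra h
    obtain rfl : k = 1 := by omega
    exact hne (pow_one p)
  obtain ⟨-, M0, hM0', hM0, hTI⟩ := S5326.exists_M hS hF hE
  have hInn := inn_eq_bot hS hF hE hcard hcomm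
  obtain ⟨g, hg, hgM⟩ : ∃ g ∈ F.autGroup E, g ∉ M0 := by
    by_contra h
    push Not at h
    exact hM0 (le_antisymm hM0' h)
  have hTI' : ∀ g ∈ F.autGroup E, ∀ a ∈ A, a ≠ 1 → g * a * g⁻¹ ∈ A → g ∈ M0 :=
    fun g hg a ha ha1 h => hTI g hg a ha (by rw [hInn, Subgroup.mem_bot]; exact ha1) h
  obtain ⟨T, hT⟩ := (fullyAutomized_of_fullyNormalized hS hF hE.2.1).2
  have hsyl : ∀ R : Subgroup (MulAut E), R ≤ F.autGroup E → IsPGroup p R →
      ∃ h ∈ F.autGroup E, ∀ r ∈ R, h * r * h⁻¹ ∈ A := by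
    intro R hR hRp
    obtain ⟨T', hT'⟩ := (hRp.of_equiv (Subgroup.subgroupOfEquivOfLe hR).symm).exists_le_sylow
    obtain ⟨h, hh⟩ := MulAction.exists_smul_eq (F.autGroup E) T' T
    refine ⟨h, h.2, fun r hr => ?_⟩
    have : h * ⟨r, hR hr⟩ * h⁻¹ ∈ (T : Subgroup (F.autGroup E)) := by
      rw [← hh]
      exact ⟨_, hT' (show (⟨r, hR hr⟩ : F.autGroup E) ∈ R.subgroupOf _ from hr), rfl⟩
    rw [hT] at this
    exact this
  -- a flag stabilised by `Aut_S(E)`
  let N := normalizerIn S E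
  have hEN : E ≤ N := le_normalizerIn hES
  have hN : IsPGroup p N := hS.to_le inf_le_left
  let En : Subgroup N := E.subgroupOf N
  haveI : En.Normal := ⟨fun x hx g => cj_mem_of_normalizer (P := E) g.2.2 hx⟩
  have hEnc : Nat.card En = p ^ 3 := by
    rw [Nat.card_congr (Subgroup.subgroupOfEquivOfLe hEN).toEquiv, hcard]
  have hb : (⊥ : Subgroup N) < En := bot_lt_iff_ne_bot.mpr fun h => by
    rw [h, Subgroup.card_bot] at hEnc
    exact (Nat.one_lt_pow (by norm_num) hp.out.one_lt).ne hEnc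
  obtain ⟨L, hLn, hbL, hLE, hLc⟩ := PGroupsBasic.exists_normal_succ (p := p) hN hb
  rw [Subgroup.card_bot, one_mul] at hLc
  have hLlt : L < En := lt_of_le_of_ne hLE fun h => by
    rw [h, hEnc] at hLc
    exact absurd hLc (Nat.ne_of_gt (lt_self_pow₀ hp.out.one_lt (by norm_num)))
  obtain ⟨W, hWn, hLW, hWE, hWc⟩ := PGroupsBasic.exists_normal_succ (p := p) hN hLlt
  rw [hLc] at hWc
  let ι := Subgroup.inclusion hEN
  let L' : Subgroup E := L.comap ι
  let W' : Subgroup E := W.comap ι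
  have hcomap : ∀ {K : Subgroup N}, K ≤ En → Nat.card (K.comap ι) = Nat.card K := by
    intro K hK
    refine Nat.card_congr (Equiv.ofBijective (fun x => ⟨ι x.1, x.2⟩) ⟨?_, ?_⟩)
    · intro x y h
      exact Subtype.ext (Subgroup.inclusion_injective hEN (congrArg Subtype.val h))
    · rintro ⟨y, hy⟩
      exact ⟨⟨⟨(y : Ω), hK hy⟩, hy⟩, rfl⟩
  have hmove : ∀ (B C : Subgroup N) [B.Normal] [C.Normal], B ≤ C → Nat.card C = Nat.card B * p →
      ∀ a ∈ A, ∀ y : E, ι y ∈ C → y⁻¹ * a y ∈ B.comap ι := by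
    intro B C _ _ hBC hBc a ha y hy
    obtain ⟨g, hgS, hgn, hge⟩ := mem_autInducedBy.mp ha
    have := PGroupsCritical.commutator_mem_of_succ (p := p) (G := N) hN (A := B) (B := C)
      hBC hBc (C.inv_mem hy) (⟨g, hgS, hgn⟩ : N)
    have e : ι (y⁻¹ * a y) = (⁅(⟨g, hgS, hgn⟩ : N), (ι y)⁻¹⁆)⁻¹ := by
      refine Subtype.ext ?_
      show (y : Ω)⁻¹ * ((a y : E) : Ω) = (⁅g, (y : Ω)⁻¹⁆)⁻¹
      rw [← afun_coe, hge _ y.2, FusionSysChain.cj_div_eq]
    show ι (y⁻¹ * a y) ∈ B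
    rw [e]
    exact inv_mem this
  have hA2 : p ^ 2 ≤ Nat.card A := by rw [hk]; exact Nat.pow_le_pow_right hp.out.pos hk2
  obtain ⟨z, hzA, c, hco, hz⟩ := TransvectionSylow94.exists_trans (p := p) A L' W' hcard
    (by rw [hcomap hLE, hLc]) (by rw [hcomap hWE, hWc, sq]) (Subgroup.comap_mono hLW)
    (fun a ha y => hmove W En hWE (by rw [hEnc, hWc]; ring) a ha y y.2)
    (fun a ha w hw => hmove L W hLW (by rw [hWc, hLc]) a ha w hw)
    (fun a ha l hl => by
      have := hmove ⊥ L bot_le (by rw [Subgroup.card_bot, one_mul, hLc]) a ha l hl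
      rw [Subgroup.mem_comap, Subgroup.mem_bot] at this
      exact (inv_mul_eq_one.mp (Subgroup.inclusion_injective hEN (this.trans (map_one ι).symm))).symm)
    hA2
  have hall := TransvectionSylow94.mem_zpowers_of_trans hAH hAp ⟨g, hg, hgM⟩ hTI' hsyl hzA hco hz
  have hzp : z ^ p = 1 := by
    have hfix : ∀ y, z (y⁻¹ * z y) = y⁻¹ * z y := fun y => by
      obtain ⟨i, hi⟩ := Subgroup.mem_zpowers_iff.mp (hz.move y)
      rw [← hi, map_zpow, hz.fix]
    have hpow : ∀ (j : ℕ) y, (z ^ j) y = y * (y⁻¹ * z y) ^ j := by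
      intro j
      induction j with
      | zero => simp
      | succ j ih =>
        intro y
        rw [pow_succ', MulAut.mul_apply, ih, map_mul, map_pow, hfix, pow_succ', ← mul_assoc,
          mul_inv_cancel_left]
    refine MulEquiv.ext fun y => ?_
    rw [hpow, show (y⁻¹ * z y) ^ p = 1 from Subtype.ext (hexp _ (y⁻¹ * z y).2), mul_one]
    rfl
  have hle : A ≤ Subgroup.zpowers z := hall
  have := hA2.trans (Subgroup.card_le_of_le hle)
  rw [Nat.card_zpowers] at this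
  have h2 := this.trans (Nat.le_of_dvd hp.out.pos (orderOf_dvd_of_pow_eq_one hzp))
  rw [sq] at h2
  have := hp.out.two_le
  nlinarith

omit hexp in
/-- Conjugates of `E` are good subgroups, once `|Aut_S(E)| = p`. -/
theorem good_of_conj (hA : Nat.card (autInducedBy S E) = p) {Q : Subgroup Ω} (hQ : F.IsConj E Q) :
    Good p (Q.subgroupOf S) := by
  have hQS : Q ≤ S := isConj_right_le hQ
  have hQc : Nat.card Q = p ^ 3 := (isConj_card hQ).symm.trans hcard
  have hQE : Nat.card (Q.subgroupOf S) = p ^ 3 := by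
    rw [Nat.card_congr (Subgroup.subgroupOfEquivOfLe hQS).toEquiv, hQc]
  have hcent : Subgroup.centralizer ((Q.subgroupOf S : Subgroup S) : Set S) ≤ Q.subgroupOf S := by
    intro x hx
    refine hE.1.2 Q hQ (mem_centralizerIn.mpr ⟨x.2, fun y hy => ?_⟩)
    rw [cj_apply]
    simp only [Subgroup.coe_subtype]
    have := congrArg Subtype.val (Subgroup.mem_centralizer_iff.mp hx ⟨y, hQS hy⟩ hy)
    simp only [Subgroup.coe_mul] at this
    rw [← this, mul_inv_cancel_right]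
  have hNE : Nat.card (normalizerIn S E) = p ^ 4 := by
    rw [card_normalizerIn, hA, centralizerIn_eq hS hF hE hcard hcomm, hcard]; ring
  refine ⟨hQE, fun a ha b hb => ?_, hcent, ?_⟩
  · obtain ⟨f, hf, rfl⟩ := isConj_iff.mp hQ
    obtain ⟨x, hx, e1⟩ := hf.mem_im.mp (show (a : Ω) ∈ im E f from ha)
    obtain ⟨y, hy, e2⟩ := hf.mem_im.mp (show (b : Ω) ∈ im E f from hb)
    refine Subtype.ext ?_
    simp only [Subgroup.coe_mul]
    rw [← e1, ← e2, ← hf.map_mul hx hy, ← hf.map_mul hy hx, hcomm x hx y hy]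
  · have hQN : Nat.card (Subgroup.normalizer ((Q.subgroupOf S : Subgroup S) : Set S)) =
        Nat.card (normalizerIn S Q) := by
      rw [← card_up (Subgroup.normalizer _), ← normalizerIn_up, up_subgroupOf hQS]
    have hle : Nat.card (normalizerIn S Q) ≤ p ^ 4 := hNE ▸ hE.2.1.2 Q hQ
    have hlt : Q < S := lt_of_le_of_ne hQS fun h => by
      have h2 := essential_lt hS hF hE
      exact h2.ne (Subgroup.eq_of_le_of_card_ge h2.le (by rw [← h, hQc, hcard]))
    have hgt := normalizerIn_gt hS hlt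
    rw [hQc] at hgt
    haveI : Finite ↥(normalizerIn S Q) := finite_normalizerIn Q
    obtain ⟨u, hu⟩ := IsPGroup.iff_card.mp (show IsPGroup p (normalizerIn S Q) from hS.to_le inf_le_left)
    rw [hQN]
    rw [show Nat.card ↥(normalizerIn S Q) = p ^ u from hu] at hle hgt ⊢
    have := (Nat.pow_lt_pow_iff_right hp.out.one_lt).mp hgt
    exact le_antisymm hle (Nat.pow_le_pow_right hp.out.pos this)

end Essential

section Main

variable (hX : Nat.card S = p ^ n) (hc : Group.nilpotencyClass S = n - 1) (hp2 : p ≠ 2) (hn : 5 ≤ n)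

include hX hc hp2 hn

/-- Facts about the normalizer of a good subgroup. -/
theorem exists_base {E0 : Subgroup S} (hG : Good p E0) {e : S} (hf : Frame p n E0 e)
    (hexp0 : ∀ a ∈ E0, a ^ p = 1) :
    (∀ w ∈ E0 ⊓ Gf S 2, ∀ x ∈ Dj e (n - 3), w * x = x * w) ∧
    (∀ y ∈ Dj e (n - 3), (∀ x ∈ Dj e (n - 3), y * x = x * y) → y ∈ E0 ⊓ Gf S 2) ∧
    (Dj e (n - 3) ⊓ Gf S 2 = Gf S (n - 3)) ∧
    ∃ t0 ∈ Gf S (n - 3), ∃ c ∈ E0 ⊓ Gf S 2, ⁅t0, e⁆ = c ∧ orderOf c = p ∧
      (∀ x ∈ E0, ⁅t0, x⁆ = 1 → x ∈ E0 ⊓ Gf S 2) ∧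
      Subgroup.zpowers t0 ⊔ (E0 ⊓ Gf S 2) = Gf S (n - 3) ∧
      (∀ x ∈ Dj e (n - 3), ∀ y ∈ Dj e (n - 3), ⁅x, y⁆ ∈ Subgroup.zpowers c) := by
  classical
  set W := E0 ⊓ Gf S 2 with hWdef
  set T := Gf S (n - 3) with hTdef
  have hinf := Dj_inf_two hX hc hn (hf.pow_mem hX hc hn hG le_rfl) hf.notMem (by omega)
  have hWT : ∀ w ∈ W, ∀ t ∈ T, w * t = t * w := by
    intro w hw t ht
    rcases Nat.lt_or_ge n 6 with h5 | h6
    · have h5' : n = 5 := by omega
      rcases cases hX hc hp2 hn hG with ⟨-, -, hA, -⟩ | ⟨-, h6, -⟩ | ⟨h6, -⟩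
      · rw [hWdef, inf_eq_top_two hX hc hp2 hn hG hf hA] at hw
        exact commutatorElement_eq_one_iff_mul_comm.mp
          (MaxClassDegree94.comm_eq_one hX hc (by omega) hw ht)
      all_goals omega
    · exact commutatorElement_eq_one_iff_mul_comm.mp
        (MaxClassDegree94.comm_eq_one hX hc (by omega) (hf.inf_le hw) ht)
  have hWe : ∀ w ∈ W, w * e = e * w := fun w hw => hG.comm w hw.1 e hf.mem
  have hWN : ∀ w ∈ W, ∀ x ∈ Dj e (n - 3), w * x = x * w := by
    intro w hw x hx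
    obtain ⟨k, g, hg, rfl⟩ := mem_Dj_iff.mp hx
    exact ((show Commute w e from hWe w hw).zpow_right k).mul_right (hWT w hw g hg)
  obtain ⟨t0, ht0, ht0W⟩ : ∃ t ∈ T, t ∉ W := by
    by_contra h
    push Not at h
    have := Subgroup.card_le_of_le h
    rw [hTdef, card_gf' hX hc hn (by omega) (by omega), show n - (n - 3) = 3 by omega, hWdef,
      hf.card_inf, Nat.pow_le_pow_iff_right hp.out.one_lt] at this
    omega
  have hcomE : ∀ x : S, x * e = e * x → x ∈ Dj e (n - 3) → (∀ w ∈ W, x * w = w * x) → x ∈ E0 := by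
    intro x hxe _ hxW
    refine hG.cent (Subgroup.mem_centralizer_iff.mpr fun a ha => ?_)
    rw [← hf.gen] at ha
    have hle : Subgroup.zpowers e ⊔ W ≤ Subgroup.centralizer ({x} : Set S) :=
      sup_le (Subgroup.zpowers_le.mpr (Subgroup.mem_centralizer_singleton_iff.mpr hxe.symm))
        fun w hw => Subgroup.mem_centralizer_singleton_iff.mpr (hxW w hw).symm
    exact Subgroup.mem_centralizer_singleton_iff.mp (hle ha)
  have hTle : T ≤ Dj e (n - 3) := gf_le_Dj e _
  have hTsup : Subgroup.zpowers t0 ⊔ W = T := by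
    refine Subgroup.eq_of_le_of_card_ge (sup_le (Subgroup.zpowers_le.mpr ht0) hf.inf_le) ?_
    obtain ⟨u, hu⟩ := IsPGroup.iff_card.mp
      ((IsPGroup.of_card hX).to_subgroup (Subgroup.zpowers t0 ⊔ W))
    have hlt : Nat.card W < Nat.card (Subgroup.zpowers t0 ⊔ W : Subgroup S) :=
      lt_of_le_of_ne (Subgroup.card_le_of_le le_sup_right) fun h => ht0W
        ((Subgroup.eq_of_le_of_card_ge le_sup_right h.ge).ge
          (Subgroup.mem_sup_left (Subgroup.mem_zpowers t0)))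
    rw [hWdef, hf.card_inf, hu] at hlt
    rw [hTdef, card_gf' hX hc hn (by omega) (by omega), show n - (n - 3) = 3 by omega]
    rw [hu]
    have := (Nat.pow_lt_pow_iff_right hp.out.one_lt).mp hlt
    exact Nat.pow_le_pow_right hp.out.pos (by omega)
  obtain ⟨c, hcdef⟩ : ∃ c, c = ⁅t0, e⁆ := ⟨_, rfl⟩
  have hcW : c ∈ W := by
    refine ⟨?_, hcdef ▸ comm_mem_gf hX hc hn (by omega) ht0⟩
    rw [hcdef, commutatorElement_def]
    exact E0.mul_mem ((Subgroup.mem_normalizer_iff.mp (hf.le_normalizer ht0) e).mp hf.mem)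
      (E0.inv_mem hf.mem)
  have hc1 : c ≠ 1 := fun h => ht0W (by
    refine ⟨hcomE t0 ?_ (hTle ht0) fun w hw => (hWT w hw t0 ht0).symm, Gf_antitone (by omega) ht0⟩
    exact commutatorElement_eq_one_iff_mul_comm.mp (hcdef.symm.trans h))
  have hcord : orderOf c = p := orderOf_eq_prime (hexp0 c hcW.1) hc1
  have hC : ∀ z ∈ Subgroup.zpowers c, z ∈ W := fun z hz => Subgroup.zpowers_le.mpr hcW hz
  have hgen : Dj e (n - 3) = Subgroup.closure ({e, t0} ∪ (W : Set S)) := by
    refine le_antisymm (sup_le (Subgroup.zpowers_le.mpr (Subgroup.subset_closure (Or.inl (Or.inl rfl)))) ?_)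
      ((Subgroup.closure_le _).mpr ?_)
    · rw [← hTdef, ← hTsup]
      exact sup_le (Subgroup.zpowers_le.mpr (Subgroup.subset_closure (Or.inl (Or.inr rfl))))
        (fun w hw => Subgroup.subset_closure (Or.inr hw))
    · rintro x ((rfl | rfl) | hx)
      · exact self_mem_Dj _ _
      · exact hTle ht0
      · exact hTle (hf.inf_le hx)
  have hCcen : ∀ z ∈ Subgroup.zpowers c, ∀ x ∈ Subgroup.closure ({e, t0} ∪ (W : Set S)), x * z = z * x :=
    fun z hz x hx => (hWN z (hC z hz) x (hgen ▸ hx)).symm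
  have hgen2 : ∀ y ∈ ({e, t0} ∪ (W : Set S)), ∀ x ∈ Dj e (n - 3), ⁅x, y⁆ ∈ Subgroup.zpowers c := by
    intro y hy x hx
    refine comm_mem_of_gen (s := ({e, t0} ∪ (W : Set S))) (fun x' hx' => ?_) hCcen x (hgen ▸ hx)
    have hx'' : x' ∈ Dj e (n - 3) := hgen ▸ Subgroup.subset_closure hx'
    have hy'' : y ∈ Dj e (n - 3) := hgen ▸ Subgroup.subset_closure hy
    rcases hy with (rfl | rfl) | hy
    rotate_left 2
    · rw [commutatorElement_eq_one_iff_mul_comm.mpr (hWN y hy x' hx'').symm]; exact one_mem _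
    all_goals rcases hx' with (rfl | rfl) | hx'
    · rw [commutatorElement_self]; exact one_mem _
    · rw [← hcdef]; exact Subgroup.mem_zpowers c
    · rw [commutatorElement_eq_one_iff_mul_comm.mpr (hWN x' hx' _ hy'')]; exact one_mem _
    · rw [← commutatorElement_inv, ← hcdef]; exact inv_mem (Subgroup.mem_zpowers c)
    · rw [commutatorElement_self]; exact one_mem _
    · rw [commutatorElement_eq_one_iff_mul_comm.mpr (hWN x' hx' _ hy'')]; exact one_mem _
  have hNN : ∀ x ∈ Dj e (n - 3), ∀ y ∈ Dj e (n - 3), ⁅x, y⁆ ∈ Subgroup.zpowers c := by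
    intro x hx y hy
    rw [← commutatorElement_inv]
    refine inv_mem ?_
    refine comm_mem_of_gen (s := ({e, t0} ∪ (W : Set S))) (fun y' hy' => ?_) hCcen y (hgen ▸ hy)
    rw [← commutatorElement_inv]
    exact inv_mem (hgen2 y' hy' x hx)
  have hfixW : ∀ x ∈ E0, ⁅t0, x⁆ = 1 → x ∈ W := by
    intro x hx hx0
    refine ⟨hx, ?_⟩
    by_contra hx2
    refine hc1 ?_
    rw [hcdef, commutatorElement_eq_one_iff_mul_comm]
    have hge : E0 ≤ Subgroup.centralizer ({t0} : Set S) := by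
      have h1 : Subgroup.zpowers x ⊔ W = E0 := by
        refine Subgroup.eq_of_le_of_card_ge (sup_le (Subgroup.zpowers_le.mpr hx) inf_le_left) ?_
        obtain ⟨u, hu⟩ := IsPGroup.iff_card.mp
          ((IsPGroup.of_card hX).to_subgroup (Subgroup.zpowers x ⊔ W))
        have hlt : Nat.card W < Nat.card (Subgroup.zpowers x ⊔ W : Subgroup S) :=
          lt_of_le_of_ne (Subgroup.card_le_of_le le_sup_right) fun h => hx2
            ((Subgroup.eq_of_le_of_card_ge le_sup_right h.ge).ge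
              (Subgroup.mem_sup_left (Subgroup.mem_zpowers x))).2
        rw [hWdef, hf.card_inf, hu] at hlt
        rw [hG.card, hu]
        have := (Nat.pow_lt_pow_iff_right hp.out.one_lt).mp hlt
        exact Nat.pow_le_pow_right hp.out.pos (by omega)
      rw [← h1]
      exact sup_le (Subgroup.zpowers_le.mpr (Subgroup.mem_centralizer_singleton_iff.mpr
        (commutatorElement_eq_one_iff_mul_comm.mp hx0).symm))
        fun w hw => Subgroup.mem_centralizer_singleton_iff.mpr (hWT w hw t0 ht0)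
    exact (Subgroup.mem_centralizer_singleton_iff.mp (hge hf.mem)).symm
  refine ⟨hWN, fun y hy hyc => ?_, hinf, t0, ht0, c, hcW, hcdef.symm, hcord, hfixW, hTsup, hNN⟩
  have hyE : y ∈ E0 := hcomE y (hyc e (self_mem_Dj e _)) hy fun w hw => (hWN w hw y hy).symm
  exact hfixW y hyE (commutatorElement_eq_one_iff_mul_comm.mpr (hyc t0 (hTle ht0)).symm)

variable (hS : IsPGroup p S) (hF : F.IsSaturated p) {E : Subgroup Ω} (hE : F.IsEssential p E)
  (hcard : Nat.card E = p ^ 3) (hcomm : ∀ a ∈ E, ∀ b ∈ E, a * b = b * a)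
  (hexp : ∀ a ∈ E, a ^ p = 1) (hA : Nat.card (autInducedBy S E) = p)
  {e : S} (hf : Frame p n (E.subgroupOf S) e)

include hS hF hE hcard hcomm hexp hA hf

/-- The normal subgroup `G_{n-3}` is invariant under the automorphisms of `N_S(E)`. -/
theorem T_invariant {f : S → S} (hfa : FAut F (Dj e (n - 3)) f) :
    ∀ t ∈ Gf S (n - 3), f t ∈ Gf S (n - 3) := by
  classical
  have hES : E ≤ S := hE.1.1
  have hG : Good p (E.subgroupOf S) := good_of_conj hS hF hE hcard hcomm hA (isConj_refl hES)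
  obtain ⟨hWN, hcen, hinf, t0, ht0, c, hcW, hcdef, hcord, hfixW, hTsup, hNN⟩ :=
    exists_base hX hc hp2 hn hG hf (fun a ha => Subtype.ext (hexp _ ha))
  set E0 := E.subgroupOf S with hE0
  set N := Dj e (n - 3) with hNdef
  set W := E0 ⊓ Gf S 2 with hWdef
  set T := Gf S (n - 3) with hTdef
  have hTN : T ≤ N := gf_le_Dj e _
  have hWleN : W ≤ N := fun w hw => hTN (hf.inf_le hw)
  have hNE : N = Subgroup.normalizer (E0 : Set S) := hf.normalizer_eq
  have hfW : ∀ w ∈ W, f w ∈ W := by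
    intro w hw
    refine hcen _ (hfa.1.mem w (hWleN hw)) fun x hx => ?_
    obtain ⟨x', hx', rfl⟩ := hfa.1.surj x hx
    rw [← hfa.1.mul w (hWleN hw) x' hx', ← hfa.1.mul x' hx' w (hWleN hw), hWN w hw x' hx']
  intro t ht
  by_cases htW : t ∈ W
  · exact hf.inf_le (hfW t htW)
  by_contra hft
  have hTgen : Subgroup.zpowers t ⊔ W = T := by
    refine Subgroup.eq_of_le_of_card_ge (sup_le (Subgroup.zpowers_le.mpr ht) hf.inf_le) ?_
    obtain ⟨u, hu⟩ := IsPGroup.iff_card.mp (hS.to_subgroup (Subgroup.zpowers t ⊔ W))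
    have hlt : Nat.card W < Nat.card (Subgroup.zpowers t ⊔ W : Subgroup S) :=
      lt_of_le_of_ne (Subgroup.card_le_of_le le_sup_right) fun h => htW
        ((Subgroup.eq_of_le_of_card_ge le_sup_right h.ge).ge
          (Subgroup.mem_sup_left (Subgroup.mem_zpowers t)))
    rw [hWdef, hf.card_inf, hu] at hlt
    rw [hTdef, card_gf' hX hc hn (by omega) (by omega), show n - (n - 3) = 3 by omega]
    rw [hu]
    have := (Nat.pow_lt_pow_iff_right hp.out.one_lt).mp hlt
    exact Nat.pow_le_pow_right hp.out.pos (by omega)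
  have hNtop : N ≠ ⊤ := fun h => by
    have h1 := hG.norm
    rw [← hNE, h, Subgroup.card_top, hX] at h1
    have := Nat.pow_right_injective hp.out.two_le h1
    omega
  haveI := hS.isNilpotent
  obtain ⟨h, hhN, hh⟩ := SetLike.exists_of_lt
    (normalizerCondition_of_isNilpotent N (lt_top_iff_ne_top.mpr hNtop))
  have hconjW : ∀ g ∈ Subgroup.normalizer (N : Set S), ∀ w ∈ W, g * w * g⁻¹ ∈ W := by
    intro g hg w hw
    refine hcen _ ((Subgroup.mem_normalizer_iff.mp hg w).mp (hWleN hw)) fun x hx => ?_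
    have hx' : g⁻¹ * x * g ∈ N := by
      have := (Subgroup.mem_normalizer_iff.mp hg (g⁻¹ * x * g)).mpr (by simpa [mul_assoc] using hx)
      exact this
    have := hWN w hw _ hx'
    calc g * w * g⁻¹ * x = g * (w * (g⁻¹ * x * g)) * g⁻¹ := by group
      _ = g * ((g⁻¹ * x * g) * w) * g⁻¹ := by rw [this]
      _ = x * (g * w * g⁻¹) := by group
  obtain ⟨t1, ht1def⟩ : ∃ t1, t1 = ⁅h, e⁆ := ⟨_, rfl⟩
  have ht1T : t1 ∈ T := by
    rw [← hinf]
    refine ⟨?_, ht1def ▸ commutator_mem_Gf (i := 1) (j := 1) (Subgroup.mem_top h) (Subgroup.mem_top e)⟩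
    rw [ht1def, commutatorElement_def]
    exact N.mul_mem ((Subgroup.mem_normalizer_iff.mp hhN e).mp (self_mem_Dj e _))
      (N.inv_mem (self_mem_Dj e _))
  have ht1W : t1 ∉ W := by
    intro h1
    apply hh
    rw [hNE]
    refine Subgroup.mem_normalizer_fintype fun x hx => ?_
    have hhe : h * e * h⁻¹ ∈ E0 := by
      rw [show h * e * h⁻¹ = t1 * e by rw [ht1def, commutatorElement_def]; group]
      exact E0.mul_mem h1.1 hf.mem
    let K : Subgroup S := E0.comap (MulAut.conj h).toMonoidHom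
    have hK : E0 ≤ K := by
      rw [← hf.gen]
      exact sup_le (Subgroup.zpowers_le.mpr hhe) (fun w hw => (hconjW h hhN w hw).1)
    exact hK hx
  let Wn : Subgroup N := W.subgroupOf N
  haveI hWnn : Wn.Normal := ⟨fun w hw g => by
    show (g : S) * w * (g : S)⁻¹ ∈ W
    rw [← hWN w hw g g.2, mul_inv_cancel_right]
    exact hw⟩
  let q := QuotientGroup.mk' Wn
  have hqc : ∀ a b : N, q a * q b = q b * q a := fun a b => (S3806.comm_mem_iff Wn a b).mp
    (show ⁅(a : S), (b : S)⁆ ∈ W from Subgroup.zpowers_le.mpr hcW (hNN a a.2 b b.2))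
  have hqw : ∀ x : N, (x : S) ∈ W → q x = 1 := fun x hx => (QuotientGroup.eq_one_iff x).mpr hx
  let ce : N := ⟨e, self_mem_Dj e _⟩
  let ct : N := ⟨t1, hTN ht1T⟩
  -- `h` acts trivially on `T` modulo `W`
  have htriv : ∀ x ∈ T, x⁻¹ * (h * x * h⁻¹) ∈ W := by
    intro x hx
    let N2 := Subgroup.normalizer (N : Set S)
    have hle : N ≤ N2 := Subgroup.le_normalizer
    haveI : (W.subgroupOf N2).Normal := ⟨fun w hw g => hconjW g g.2 w hw⟩
    haveI : (T.subgroupOf N2).Normal := Subgroup.Normal.comap inferInstance _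
    have := PGroupsCritical.commutator_mem_of_succ (p := p) (G := N2) (hS.to_subgroup N2)
      (A := W.subgroupOf N2) (B := T.subgroupOf N2) (fun y hy => hf.inf_le hy)
      (by rw [Nat.card_congr (Subgroup.subgroupOfEquivOfLe (hTN.trans hle)).toEquiv,
        Nat.card_congr (Subgroup.subgroupOfEquivOfLe (hWleN.trans hle)).toEquiv, hTdef,
        card_gf' hX hc hn (by omega) (by omega), show n - (n - 3) = 3 by omega, hWdef, hf.card_inf,
        ← pow_succ])
      (inv_mem (show (⟨x, hle (hTN hx)⟩ : N2) ∈ T.subgroupOf N2 from hx)) (⟨h, hhN⟩ : N2)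
    have h2 : ⁅h, x⁻¹⁆ ∈ W := this
    rw [show x⁻¹ * (h * x * h⁻¹) = ⁅h, x⁻¹⁆⁻¹ by rw [commutatorElement_def]; group]
    exact W.inv_mem h2
  have hpowh : ∀ i : ℕ, ∃ a : N, (a : S) = h ^ i * e * (h ^ i)⁻¹ ∧ q a = q ct ^ i * q ce := by
    intro i
    induction i with
    | zero => exact ⟨ce, by simp [ce], by simp⟩
    | succ i ih =>
      obtain ⟨a, ha, hqa⟩ := ih
      have hw : (a : S) * ((ct ^ i * ce : N) : S)⁻¹ ∈ W := by
        have : q (a * (ct ^ i * ce)⁻¹) = 1 := by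
          rw [map_mul, map_inv, map_mul, map_pow, hqa, mul_inv_cancel]
        exact (QuotientGroup.eq_one_iff (N := Wn) _).mp this
      refine ⟨⟨h * a * h⁻¹, (Subgroup.mem_normalizer_iff.mp hhN _).mp a.2⟩, ?_, ?_⟩
      · show h * (a : S) * h⁻¹ = _
        rw [ha, pow_succ']; group
      · have hti : h * t1 ^ i * h⁻¹ ∈ N :=
          (Subgroup.mem_normalizer_iff.mp hhN _).mp (N.pow_mem (hTN ht1T) i)
        have he1 : q ⟨h * t1 ^ i * h⁻¹, hti⟩ = q ct ^ i := by
          rw [← map_pow]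
          refine (QuotientGroup.eq.mpr ?_).symm
          exact htriv _ (T.pow_mem ht1T i)
        have hw' : h * ((a : S) * ((ct ^ i * ce : N) : S)⁻¹) * h⁻¹ ∈ W := hconjW h hhN _ hw
        rw [show (⟨h * a * h⁻¹, (Subgroup.mem_normalizer_iff.mp hhN _).mp a.2⟩ : N) =
          ⟨_, hWleN hw'⟩ * (⟨h * t1 ^ i * h⁻¹, hti⟩ * (ct * ce)) from Subtype.ext (by
            simp only [Subgroup.coe_mul, SubmonoidClass.coe_pow, ct, ce]
            rw [ht1def, commutatorElement_def]; group), map_mul, hqw _ hw', one_mul, map_mul, map_mul,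
          he1, pow_succ, mul_assoc]
  obtain ⟨k, g, hg, hfg⟩ := mem_Dj_iff.mp (hfa.1.mem t (hTN ht))
  have hk : ¬ (p : ℤ) ∣ k := by
    rintro ⟨l, rfl⟩
    apply hft
    rw [hfg]
    refine T.mul_mem ?_ hg
    rw [zpow_mul, zpow_natCast]
    exact T.zpow_mem (hf.pow_mem hX hc hn hG le_rfl) l
  have hsup1 : Subgroup.zpowers t1 ⊔ W = T := by
    refine Subgroup.eq_of_le_of_card_ge (sup_le (Subgroup.zpowers_le.mpr ht1T) hf.inf_le) ?_
    obtain ⟨u, hu⟩ := IsPGroup.iff_card.mp (hS.to_subgroup (Subgroup.zpowers t1 ⊔ W))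
    have hlt : Nat.card W < Nat.card (Subgroup.zpowers t1 ⊔ W : Subgroup S) :=
      lt_of_le_of_ne (Subgroup.card_le_of_le le_sup_right) fun h => ht1W
        ((Subgroup.eq_of_le_of_card_ge le_sup_right h.ge).ge
          (Subgroup.mem_sup_left (Subgroup.mem_zpowers t1)))
    rw [hWdef, hf.card_inf, hu] at hlt
    rw [hTdef, card_gf' hX hc hn (by omega) (by omega), show n - (n - 3) = 3 by omega]
    rw [hu]
    have := (Nat.pow_lt_pow_iff_right hp.out.one_lt).mp hlt
    exact Nat.pow_le_pow_right hp.out.pos (by omega)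
  obtain ⟨j, hqg⟩ : ∃ j : ℤ, q ⟨g, hTN hg⟩ = q ct ^ j := by
    have hle : Subgroup.zpowers t1 ⊔ W ≤ ((Subgroup.zpowers (q ct)).comap q).map N.subtype :=
      sup_le (Subgroup.zpowers_le.mpr ⟨ct, Subgroup.mem_zpowers (q ct), rfl⟩) fun w hw =>
        ⟨⟨w, hWleN hw⟩, by rw [SetLike.mem_coe, Subgroup.mem_comap, hqw ⟨w, hWleN hw⟩ hw]; exact one_mem _, rfl⟩
    obtain ⟨x, hx, e1⟩ := hle (hsup1.ge hg)
    obtain ⟨j, hj⟩ := Subgroup.mem_zpowers_iff.mp hx
    exact ⟨j, (congrArg q (Subtype.ext e1 : x = ⟨g, hTN hg⟩)).symm.trans hj.symm⟩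
  have hqp : q ct ^ (p : ℤ) = 1 := by
    rw [zpow_natCast, ← map_pow]
    refine hqw _ ?_
    show t1 ^ p ∈ W
    haveI : (W.subgroupOf T).Normal := ⟨fun w hw g => by
      show (g : S) * w * (g : S)⁻¹ ∈ W
      rw [← hWN w hw g (hTN g.2), mul_inv_cancel_right]
      exact hw⟩
    have hidx := (W.subgroupOf T).card_mul_index
    rw [Nat.card_congr (Subgroup.subgroupOfEquivOfLe hf.inf_le).toEquiv, hTdef,
      card_gf' hX hc hn (by omega) (by omega), show n - (n - 3) = 3 by omega, hWdef, hf.card_inf,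
      pow_succ p 2] at hidx
    have hi : (W.subgroupOf T).index = p := Nat.eq_of_mul_eq_mul_left (pow_pos hp.out.pos 2) hidx
    have := (W.subgroupOf T).pow_index_mem (⟨t1, ht1T⟩ : T)
    rw [hi] at this
    exact this
  obtain ⟨u, v, huv⟩ := ((Nat.prime_iff_prime_int.mp hp.out).coprime_iff_not_dvd).mpr hk
  -- a conjugate of `E` containing the image of `t`
  obtain ⟨i, hi⟩ : ∃ i : ℕ, (p : ℤ) ∣ (i : ℤ) * k - j := by
    refine ⟨((j * v) % (p : ℤ)).toNat, ?_⟩
    rw [Int.toNat_of_nonneg (Int.emod_nonneg _ (by exact_mod_cast hp.out.ne_zero)), Int.emod_def]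
    exact ⟨-(j * u) - (j * v / (p : ℤ)) * k, by linear_combination j * huv⟩
  obtain ⟨a, ha, hqa⟩ := hpowh i
  let K : Subgroup S := E0.map (MulAut.conj (h ^ i)).toMonoidHom
  have hWK : ∀ w ∈ W, w ∈ K := fun w hw => by
    refine ⟨(h ^ i)⁻¹ * w * h ^ i, ?_, by
      show h ^ i * ((h ^ i)⁻¹ * w * h ^ i) * (h ^ i)⁻¹ = w
      group⟩
    have := hconjW (h ^ i)⁻¹ (inv_mem (pow_mem hhN i)) w hw
    rw [inv_inv] at this
    exact this.1
  have haK : (a : S) ∈ K := ⟨e, hf.mem, ha.symm⟩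
  have hftK : f t ∈ K := by
    have h1 : q ((a ^ k)⁻¹ * (⟨e ^ k, N.zpow_mem (self_mem_Dj e _) k⟩ * ⟨g, hTN hg⟩)) = 1 := by
      have hcm : Commute (q ct ^ i) (q ce) := (show Commute (q ct) (q ce) from hqc _ _).pow_left i
      rw [map_mul, map_inv, map_zpow, hqa, hcm.mul_zpow, map_mul, hqg,
        show (⟨e ^ k, N.zpow_mem (self_mem_Dj e _) k⟩ : N) = ce ^ k from Subtype.ext (by simp [ce]),
        map_zpow, ← zpow_natCast, ← zpow_mul]
      obtain ⟨l, hl⟩ := hi
      rw [show (i : ℤ) * k = (p : ℤ) * l + j by linarith, zpow_add, zpow_mul, hqp, one_zpow, one_mul,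
        ((show Commute (q ct) (q ce) from hqc _ _).zpow_zpow j k).eq, inv_mul_cancel]
    have h2 := hWK _ ((QuotientGroup.eq_one_iff (N := Wn) _).mp h1)
    simp only [Subgroup.coe_subtype, Subgroup.coe_mul, Subgroup.coe_inv, Subgroup.coe_zpow] at h2
    have h3 := K.mul_mem (K.zpow_mem haK k) h2
    rw [mul_inv_cancel_left] at h3
    rw [hfg]
    exact h3
  have hmap : ∀ x ∈ T, f x ∈ K := by
    rw [← hTgen]
    refine hfa.1.map_sup (Subgroup.zpowers_le.mpr (hTN ht)) hWleN (fun x hx => ?_)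
      fun w hw => hWK _ (hfW w hw)
    obtain ⟨l, rfl⟩ := Subgroup.mem_zpowers_iff.mp hx
    rw [hfa.1.map_zpow (hTN ht)]
    exact K.zpow_mem hftK l
  have hKc : Nat.card K ≤ Nat.card T := by
    rw [hTdef, card_gf' hX hc hn (by omega) (by omega), show n - (n - 3) = 3 by omega,
      show Nat.card K = Nat.card E0 from Subgroup.card_map_of_injective (MulEquiv.injective _),
      hG.card]
  have h1 : F.IsConj (up T) (up K) := hfa.isConj hTN hmap hKc
  have h2 : F.IsConj E (up K) := by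
    refine isConj_iff.mpr ⟨cj ((h ^ i : S) : Ω), mor_cj (F := F) hES (h ^ i : S).2, ?_⟩
    refine (mor_cj (F := F) hES (h ^ i : S).2).im_eq_of_le (up_le K) (im_le_iff.mpr fun x hx => ?_) ?_
    · exact (coe_mem_up (H := K) (x := h ^ i * (⟨x, hES hx⟩ : S) * (h ^ i)⁻¹)).mpr
        (Subgroup.mem_map.mpr ⟨(⟨x, hES hx⟩ : S), hx, rfl⟩)
    · rw [card_up, show Nat.card K = Nat.card E0 from Subgroup.card_map_of_injective (MulEquiv.injective _),
        hG.card, hcard]
  have h3 := good_of_conj hS hF hE hcard hcomm hA (isConj_trans h2 (isConj_symm h1))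
  have hTeq : (up T).subgroupOf S = T := by
    ext x
    rw [Subgroup.mem_subgroupOf, coe_mem_up]
  rw [hTeq] at h3
  have h4 := h3.norm
  rw [hTdef, Subgroup.normalizer_eq_top, Subgroup.card_top, hX] at h4
  have := Nat.pow_right_injective hp.out.two_le h4
  omega

/-- An automorphism of `N_S(E)` acting by signs. -/
theorem exists_sign :
    ∃ f c m, FAut F (Dj e (n - 3)) f ∧ Sign (E.subgroupOf S) e c m p n f := by
  classical
  have hES : E ≤ S := hE.1.1
  haveI := finite_of_le hES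
  haveI := finite_autGroup (F := F) E
  have hG : Good p (E.subgroupOf S) := good_of_conj hS hF hE hcard hcomm hA (isConj_refl hES)
  obtain ⟨hWN, hcen, hinf, t0, ht0, c, hcW, hcdef, hcord, hfixW, hTsup, hNN⟩ :=
    exists_base hX hc hp2 hn hG hf (fun a ha => Subtype.ext (hexp _ ha))
  set E0 := E.subgroupOf S with hE0
  have hNE : Dj e (n - 3) = Subgroup.normalizer (E0 : Set S) := hf.normalizer_eq
  have hE0N : E0 ≤ Dj e (n - 3) := hNE ▸ Subgroup.le_normalizer
  have hTN : Gf S (n - 3) ≤ Dj e (n - 3) := gf_le_Dj e _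
  have hNup : normalizerIn S E = up (Dj e (n - 3)) := by
    rw [hNE, ← normalizerIn_up, up_subgroupOf hES]
  letI : CommGroup E :=
    { (inferInstance : Group E) with mul_comm := fun x y => Subtype.ext (hcomm x x.2 y y.2) }
  have hmem : ∀ g ∈ Dj e (n - 3), (g : Ω) ∈ normalizerIn S E := fun g hg =>
    hNup.ge (coe_mem_up.mpr hg)
  obtain ⟨z, hzdef⟩ : ∃ z, z = nHom S E ⟨(t0 : Ω), hmem t0 (hTN ht0)⟩ := ⟨_, rfl⟩
  have hz : ∀ x : E, (z x : Ω) = (t0 : Ω) * x * (t0 : Ω)⁻¹ := fun x => by rw [hzdef]; rfl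
  let lift : ∀ x : S, x ∈ E0 → E := fun x hx => ⟨(x : Ω), hx⟩
  have hzA : z ∈ autInducedBy S E := by rw [autInducedBy_eq_range, hzdef]; exact ⟨_, rfl⟩
  have hzfix : ∀ y : E, z y = y → (⟨(y : Ω), hES y.2⟩ : S) ∈ E0 ⊓ Gf S 2 := fun y hy =>
    hfixW _ y.2 (commutatorElement_eq_one_iff_mul_comm.mpr (Subtype.ext
      (mul_inv_eq_iff_eq_mul.mp ((hz y).symm.trans (congrArg Subtype.val hy)))))
  have hWfix : ∀ y : S, ∀ hy : y ∈ E0 ⊓ Gf S 2, z (lift y hy.1) = lift y hy.1 := fun y hy => by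
    refine Subtype.ext ?_
    rw [hz]
    have := congrArg Subtype.val (hWN y hy t0 (hTN ht0))
    simp only [Subgroup.coe_mul] at this
    show (t0 : Ω) * (y : Ω) * (t0 : Ω)⁻¹ = y
    rw [← this, mul_inv_cancel_right]
  obtain ⟨cE, hcEdef⟩ : ∃ cE, cE = lift c hcW.1 := ⟨_, rfl⟩
  have hc1 : c ≠ 1 := fun h => by rw [h, orderOf_one] at hcord; exact hp.out.one_lt.ne hcord
  have hz1 : z ≠ 1 := fun h => hc1 <| by
    rw [← hcdef, commutatorElement_eq_one_iff_mul_comm]
    refine Subtype.ext (mul_inv_eq_iff_eq_mul.mp ?_)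
    have h1 := hz (lift e hf.mem)
    rw [h] at h1
    exact h1.symm
  have hAz : autInducedBy S E = Subgroup.zpowers z := by
    refine (Subgroup.eq_of_le_of_card_ge (Subgroup.zpowers_le.mpr hzA) ?_).symm
    rw [hA, Nat.card_zpowers]
    have h2 : orderOf z ∣ p := by
      rw [← hA, ← Subgroup.orderOf_mk z hzA]
      exact orderOf_dvd_natCard _
    rcases (Nat.dvd_prime hp.out).mp h2 with h3 | h3
    · exact absurd (orderOf_eq_one_iff.mp h3) hz1
    · exact h3.ge
  obtain ⟨T, hT⟩ := (fullyAutomized_of_fullyNormalized hS hF hE.2.1).2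
  have hmax : ∀ γ ∈ F.autGroup E, Commute γ z → γ ^ p = 1 → γ ∈ Subgroup.zpowers z := by
    intro γ hγ hγz hγp
    let g : F.autGroup E := ⟨γ, hγ⟩
    have hg : IsPGroup p (Subgroup.zpowers g) := by
      rintro ⟨x, hx⟩
      obtain ⟨i, rfl⟩ := Subgroup.mem_zpowers_iff.mp hx
      refine ⟨1, Subtype.ext (Subtype.ext ?_)⟩
      show (γ ^ i) ^ p ^ 1 = 1
      rw [pow_one, ← zpow_natCast, ← zpow_mul, mul_comm, zpow_mul, zpow_natCast, hγp, one_zpow]
    have hTn : (T : Subgroup (F.autGroup E)) ≤ Subgroup.normalizer (Subgroup.zpowers g : Set _) := by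
      refine le_trans (fun x hx => ?_) (Subgroup.centralizer_le_normalizer _)
      rw [hT, Subgroup.mem_subgroupOf, hAz] at hx
      obtain ⟨i, hi⟩ := hx
      rw [Subgroup.mem_centralizer_iff]
      rintro y ⟨j, rfl⟩
      refine Subtype.ext ?_
      show γ ^ j * (x : MulAut E) = (x : MulAut E) * γ ^ j
      rw [show (x : MulAut E) = z ^ i from hi.symm]
      exact ((hγz.zpow_left j).zpow_right i).eq
    have hsup := T.3 (IsPGroup.to_sup_of_normal_right' T.2 hg hTn) le_sup_left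
    have : g ∈ (T : Subgroup (F.autGroup E)) := by
      rw [← hsup]; exact Subgroup.mem_sup_right (Subgroup.mem_zpowers g)
    rw [hT, Subgroup.mem_subgroupOf, hAz] at this
    exact this
  have tv : TransvectionPair.Tv p (F.autGroup E) z cE :=
    { mem := autInducedBy_le hES hzA
      ne := fun h => hc1 (Subtype.ext (show (c : Ω) = 1 by
        rw [hcEdef] at h; exact congrArg (fun u : E => (u : Ω)) h))
      pow_eq := Subtype.ext (hexp _ cE.2)
      fix := hcEdef ▸ hWfix c hcW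
      move := fun x => by
        let x' : S := ⟨(x : Ω), hES x.2⟩
        obtain ⟨i, hi⟩ := Subgroup.mem_zpowers_iff.mp
          (hNN x'⁻¹ (inv_mem (hE0N (show x' ∈ E0 from x.2))) t0 (hTN ht0))
        refine ⟨i, Subtype.ext ?_⟩
        have h := congrArg Subtype.val hi
        rw [Subgroup.coe_zpow] at h
        show ((cE ^ i : E) : Ω) = (x : Ω)⁻¹ * (z x : Ω)
        rw [Subgroup.coe_zpow, hcEdef, hz]
        refine h.trans ?_
        simp [x', commutatorElement_def, mul_assoc]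
      nontriv := hz1
      max := hmax }
  obtain ⟨-, M0, hM0', hM0, hTI⟩ := S5326.exists_M hS hF hE
  obtain ⟨α, hα, hαM⟩ : ∃ α ∈ F.autGroup E, α ∉ M0 := by
    by_contra h
    push Not at h
    exact hM0 (le_antisymm hM0' h)
  have hαn : ¬ TransvectionPair.Nrm z α := fun h => hαM (hTI α hα z hzA
    (by rw [inn_eq_bot hS hF hE hcard hcomm, Subgroup.mem_bot]; exact hz1) (hAz.ge h))
  obtain ⟨w, d, o⟩ := TransvectionPair.exists_opp tv hα hαn
  obtain ⟨τ0, hτ0⟩ : ∃ τ0, τ0 = w * w := ⟨_, rfl⟩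
  have hτc : τ0 cE = cE⁻¹ := by rw [hτ0, MulAut.mul_apply, o.apply_c, o.apply_d]
  have hτd : τ0 d = d⁻¹ := by rw [hτ0, MulAut.mul_apply, o.apply_d, map_inv, o.apply_c]
  have hτn : TransvectionPair.Nrm z τ0 :=
    TransvectionPair.nrm_of_fix tv (hτ0 ▸ mul_mem o.mem o.mem) (by rw [hτc, map_inv, tv.fix])
  obtain ⟨g, hg, hgN, hge⟩ := FusionFlag94.extend_of_normalizes hS hF hE.2.1
    (hτ0 ▸ mul_mem o.mem o.mem : τ0 ∈ F.autGroup E) (fun g => by
      have hgA : nHom S E g ∈ autInducedBy S E := by rw [autInducedBy_eq_range]; exact ⟨_, rfl⟩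
      rw [hAz] at hgA ⊢
      obtain ⟨i, hi⟩ := hgA
      rw [← hi, ← conj_zpow]
      exact zpow_mem hτn i)
  rw [hNup] at hg hgN
  obtain ⟨f, hfa, hfe'⟩ := fAut_of_mor hg hgN
  have hfE : ∀ x, ∀ hx : x ∈ E0, (f x : Ω) = (τ0 (lift x hx) : Ω) := fun x hx => by
    rw [hfe' x (hE0N hx), hge (x : Ω) hx, afun_apply τ0 (show (x : Ω) ∈ E from hx)]
  have hfc : f c = c⁻¹ := Subtype.ext (by rw [hfE c hcW.1, ← hcEdef, hτc, hcEdef]; rfl)
  -- the image of `e`
  have hfee : f e * e ∈ E0 ⊓ Gf S 2 := by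
    obtain ⟨i, j, v, hv, hzv, hwv⟩ := o.decomp (lift e hf.mem)
    have h1 : τ0 (lift e hf.mem) * lift e hf.mem = v * v := by
      have hwwv : τ0 v = v := by rw [hτ0, MulAut.mul_apply, hwv, hwv]
      rw [hv, map_mul, map_mul, map_zpow, map_zpow, hτc, hτd, hwwv, inv_zpow, inv_zpow]
      simp [mul_comm, mul_left_comm, mul_assoc]
    have h2 : f e * e = ⟨(v : Ω), hES v.2⟩ * ⟨(v : Ω), hES v.2⟩ := Subtype.ext (by
      rw [Subgroup.coe_mul, Subgroup.coe_mul, hfE e hf.mem]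
      exact congrArg Subtype.val h1)
    rw [h2]
    exact mul_mem (hzfix v hzv) (hzfix v hzv)
  -- a fixed element
  obtain ⟨y, hyW, hyc⟩ : ∃ y ∈ E0 ⊓ Gf S 2, y ∉ Subgroup.zpowers c := by
    by_contra h
    push Not at h
    have := Subgroup.card_le_of_le h
    rw [hf.card_inf, Nat.card_zpowers, hcord] at this
    exact absurd this (Nat.not_le_of_lt (lt_self_pow₀ hp.out.one_lt (by norm_num)))
  obtain ⟨i, j, v, hv, hzv, hwv⟩ := o.decomp (lift y hyW.1)
  have hdj : d ^ j = 1 := by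
    have hzy := hWfix y hyW
    rw [hv, map_mul, map_mul, hzv, map_zpow, tv.fix] at hzy
    have hdj := mul_left_cancel (mul_right_cancel hzy)
    rw [map_zpow] at hdj
    have h3 : (d⁻¹ * z d) ^ j = 1 := by rw [mul_zpow, inv_zpow, hdj, inv_mul_cancel]
    have hd2 : d⁻¹ * z d ≠ 1 := fun hh => o.moves (inv_mul_eq_one.mp hh).symm
    rw [← orderOf_dvd_iff_zpow_eq_one,
      orderOf_eq_prime (TransvectionPair.pow_of_mem tv (tv.move d)) hd2] at h3
    rw [← orderOf_dvd_iff_zpow_eq_one,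
      orderOf_eq_prime o.pow_d (fun h1 => o.moves (by rw [h1, map_one]))]
    exact h3
  rw [hdj, mul_one] at hv
  have hfm : f ⟨(v : Ω), hES v.2⟩ = ⟨(v : Ω), hES v.2⟩ := Subtype.ext (by
    rw [hfE ⟨(v : Ω), hES v.2⟩ v.2]
    show (τ0 v : Ω) = v
    rw [hτ0, MulAut.mul_apply, hwv, hwv])
  refine ⟨f, c, ⟨(v : Ω), hES v.2⟩, hfa, hcW, hcord, hzfix v hzv, fun h => ?_,
    fun t ht => hNN t (hTN ht) e (self_mem_Dj e _), hfc, hfee, hfm, fun t ht => ?_, t0, ht0, hcdef⟩
  · refine hyc ?_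
    have : y = c ^ i * ⟨(v : Ω), hES v.2⟩ := Subtype.ext (by
      have h1 := congrArg Subtype.val hv
      rw [hcEdef] at h1
      simpa using h1)
    rw [this]
    exact mul_mem (zpow_mem (Subgroup.mem_zpowers c) i) h
  · have hft := T_invariant hX hc hp2 hn hS hF hE hcard hcomm hexp hA hf hfa t ht
    have hce : Commute c e := hWN c hcW e (self_mem_Dj e _)
    obtain ⟨k, hk⟩ := Subgroup.mem_zpowers_iff.mp (hNN t (hTN ht) e (self_mem_Dj e _))
    obtain ⟨l, hl⟩ := Subgroup.mem_zpowers_iff.mp (hNN _ (hTN hft) e (self_mem_Dj e _))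
    have h1 : ⁅f t, f e⁆ = (⁅t, e⁆)⁻¹ := by
      rw [← hfa.1.map_comm (hTN ht) (self_mem_Dj e _), ← hk,
        hfa.1.map_zpow (hTN (hf.inf_le hcW)), hfc, inv_zpow]
    have h2 : ⁅f t, f e⁆ = (⁅f t, e⁆)⁻¹ := by
      rw [← zpow_neg_one, ← comm_zpow_of_commute (by rw [← hl]; exact hce.zpow_left l),
        zpow_neg_one]
      have hcw : (f e * e) * f t = f t * (f e * e) := hWN _ hfee _ (hTN hft)
      have hcw' : (f e * e) * e = e * (f e * e) := hWN _ hfee _ (self_mem_Dj e _)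
      obtain ⟨w0, hw0⟩ : ∃ w0, w0 = f e * e := ⟨_, rfl⟩
      rw [← hw0] at hcw hcw'
      rw [show f e = w0 * e⁻¹ by rw [hw0]; group]
      simp only [commutatorElement_def]
      calc f t * (w0 * e⁻¹) * (f t)⁻¹ * (w0 * e⁻¹)⁻¹
          = (f t * w0) * e⁻¹ * (f t)⁻¹ * e * w0⁻¹ := by group
        _ = w0 * (f t * e⁻¹ * (f t)⁻¹ * e⁻¹⁻¹) * w0⁻¹ := by rw [← hcw]; group
        _ = f t * e⁻¹ * (f t)⁻¹ * e⁻¹⁻¹ := by
          have hc' : w0 * (f t * e⁻¹ * (f t)⁻¹ * e⁻¹⁻¹) = (f t * e⁻¹ * (f t)⁻¹ * e⁻¹⁻¹) * w0 :=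
            hWN w0 (hw0 ▸ hfee) _ (mul_mem (mul_mem (mul_mem (hTN hft) (inv_mem (self_mem_Dj e _)))
              (inv_mem (hTN hft))) (inv_mem (inv_mem (self_mem_Dj e _))))
          rw [hc', mul_inv_cancel_right]
    have h3 : ⁅f t, e⁆ = ⁅t, e⁆ := inv_injective (h2.symm.trans h1)
    have hu : (t⁻¹ * f t) * e = e * (t⁻¹ * f t) := by
      simp only [commutatorElement_def] at h3
      have h4 : f t * e * (f t)⁻¹ = t * e * t⁻¹ := mul_right_cancel h3
      calc t⁻¹ * f t * e = t⁻¹ * (f t * e * (f t)⁻¹) * f t := by group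
        _ = e * (t⁻¹ * f t) := by rw [h4]; group
    have huT : t⁻¹ * f t ∈ Gf S (n - 3) := mul_mem (inv_mem ht) hft
    refine ⟨hG.cent (Subgroup.mem_centralizer_iff.mpr fun a ha => ?_), Gf_antitone (by omega) huT⟩
    rw [← hf.gen] at ha
    have hle : Subgroup.zpowers e ⊔ (E0 ⊓ Gf S 2) ≤
        Subgroup.centralizer ({t⁻¹ * f t} : Set S) :=
      sup_le (Subgroup.zpowers_le.mpr (Subgroup.mem_centralizer_singleton_iff.mpr hu.symm))
        fun w' hw => Subgroup.mem_centralizer_singleton_iff.mpr (hWN w' hw _ (hTN huT))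
    exact Subgroup.mem_centralizer_singleton_iff.mp (hle ha)

end Main

end Cfsg.Agent.FusionSoft94
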