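import Mathlib
import Cfsg.Agent.Lib.FusionSoft94

/-!
The three configurations of an essential elementary abelian subgroup of order `p ^ 3` are impossible.
-/

set_option autoImplicit false

open scoped commutatorElement

namespace Cfsg.Agent.FusionSoftCases94

open Cfsg Cfsg.FusionSystem Cfsg.Agent.FusionSysBasic Cfsg.Agent.FusionSysSaturated
  Cfsg.Agent.FusionSysAlperin
open PGroupsHallPetrescu (Gf Gf_antitone commutator_mem_Gf)
open Blackburn20 (Ct mem_Ct)
open MaxClassSoft94 MaxClassAut94 FusionSoft94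

section Group

variable {X : Type*} [Group X] [Finite X]

/-- The part of `H` that `f` sends into `K`. -/
def preim {H : Subgroup X} {f : X → X} (h : AutX H f) (K : Subgroup X) : Subgroup X where
  carrier := {x | x ∈ H ∧ f x ∈ K}
  one_mem' := ⟨H.one_mem, by rw [h.map_one]; exact K.one_mem⟩
  mul_mem' := fun {x y} hx hy =>
    ⟨H.mul_mem hx.1 hy.1, by rw [h.mul x hx.1 y hy.1]; exact K.mul_mem hx.2 hy.2⟩
  inv_mem' := fun {x} hx => ⟨H.inv_mem hx.1, by rw [h.map_inv hx.1]; exact K.inv_mem hx.2⟩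

theorem surj_of_invariant {H K : Subgroup X} {f : X → X} (h : AutX H f) (hKH : K ≤ H)
    (hK : ∀ x ∈ K, f x ∈ K) : ∀ y ∈ K, ∃ x ∈ K, f x = y := by
  intro y hy
  let g : K → K := fun x => ⟨f x, hK x x.2⟩
  have hinj : Function.Injective g := fun a b e =>
    Subtype.ext (h.injOn (hKH a.2) (hKH b.2) (congrArg Subtype.val e))
  obtain ⟨x, hx⟩ := Finite.surjective_of_injective hinj ⟨y, hy⟩
  exact ⟨x, x.2, congrArg Subtype.val hx⟩

theorem mem_zpowers_of_card {p : ℕ} [Fact p.Prime] {K : Subgroup X} (hK : Nat.card K = p) {a : X}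
    (ha : a ∈ K) (ha1 : a ≠ 1) : K = Subgroup.zpowers a := by
  refine le_antisymm (fun y hy => ?_) (Subgroup.zpowers_le.mpr ha)
  obtain ⟨j, hj⟩ := Subgroup.mem_zpowers_iff.mp (mem_zpowers_of_prime_card hK
    (g := ⟨a, ha⟩) (g' := ⟨y, hy⟩) (by simpa [Subtype.ext_iff] using ha1))
  exact ⟨j, congrArg Subtype.val hj⟩

end Group

variable {Ω : Type*} [Group Ω] {S : Subgroup Ω} [Finite S] {p n : ℕ} [hp : Fact p.Prime]
  {F : FusionSystem S}
  (hX : Nat.card S = p ^ n) (hc : Group.nilpotencyClass S = n - 1) (hp2 : p ≠ 2) (hn : 5 ≤ n)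
  (hS : IsPGroup p S) (hF : F.IsSaturated p) {E : Subgroup Ω} (hE : F.IsEssential p E)
  (hcard : Nat.card E = p ^ 3) (hcomm : ∀ a ∈ E, ∀ b ∈ E, a * b = b * a)
  (hexp : ∀ a ∈ E, a ^ p = 1) (hA : Nat.card (autInducedBy S E) = p)
  {e : S} (hf : Frame p n (E.subgroupOf S) e)

include hX hc hp2 hn hS hF hE hcard hcomm hA

omit hX hc hp2 hn in
/-- A conjugate of a subgroup above `E` contains a good subgroup. -/
theorem exists_good_le {H : Subgroup S} (hEH : E.subgroupOf S ≤ H) {Q : Subgroup Ω}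
    (hQ : F.IsConj (up H) Q) :
    ∃ E', Good p E' ∧ E' ≤ Q.subgroupOf S ∧ Nat.card (Q.subgroupOf S) = Nat.card H := by
  obtain ⟨g, hg, rfl⟩ := isConj_iff.mp hQ
  have hES : E ≤ S := hE.1.1
  have hEu : E ≤ up H := by
    have := up_mono hEH
    rwa [up_subgroupOf hES] at this
  have hr := hg.restrict_to hEu
  refine ⟨(im E g).subgroupOf S, good_of_conj hS hF hE hcard hcomm hA
    (isConj_iff.mpr ⟨g, hr, rfl⟩), ?_, ?_⟩
  · intro x hx
    obtain ⟨z, hz, ez⟩ := hr.mem_im.mp (show (x : Ω) ∈ im E g from hx)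
    exact hg.mem_im.mpr ⟨z, hEu hz, ez⟩
  · rw [Nat.card_congr (Subgroup.subgroupOfEquivOfLe (isConj_right_le hQ)).toEquiv,
      ← isConj_card hQ, card_up]

/-- An overgroup of `E` whose conjugates have small normalizers is fully normalized. -/
theorem fully_normalized_up {H : Subgroup S} (hEH : E.subgroupOf S ≤ H) {m : ℕ}
    (hH : Nat.card (Subgroup.normalizer (H : Set S)) = m)
    (hle : ∀ K E' : Subgroup S, Good p E' → E' ≤ K → Nat.card K = Nat.card H →
      Nat.card (Subgroup.normalizer (K : Set S)) ≤ m) :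
    F.IsFullyNormalized (up H) := by
  refine ⟨up_le H, fun Q hQ => ?_⟩
  obtain ⟨E', hE', hle', hcd⟩ := exists_good_le hS hF hE hcard hcomm hA hEH hQ
  rw [normalizerIn_up, card_up, hH, ← up_subgroupOf (isConj_right_le hQ), normalizerIn_up, card_up]
  exact hle _ E' hE' hle' hcd

include hexp hf

/-- Automorphisms of `N_S(E)` respect a flag. -/
theorem exists_flag :
    ∃ K : ℕ → Subgroup S, K 0 = ⊥ ∧ K 4 = Dj e (n - 3) ∧ (∀ i < 4, K i ≤ K (i + 1)) ∧
      (∀ i ≤ 4, K i ≤ Dj e (n - 3)) ∧ (∀ i < 4, Nat.card (K (i + 1)) = Nat.card (K i) * p) ∧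
      ∀ f, FAut F (Dj e (n - 3)) f → ∀ i ≤ 4, ∀ x ∈ K i, f x ∈ K i := by
  have hES : E ≤ S := hE.1.1
  have hG : Good p (E.subgroupOf S) := good_of_conj hS hF hE hcard hcomm hA (isConj_refl hES)
  obtain ⟨hWN, hcen, hinf, t0, ht0, c, hcW, hcdef, hcord, hfixW, hTsup, hNN⟩ :=
    exists_base hX hc hp2 hn hG hf (fun a ha => Subtype.ext (hexp _ ha))
  have hTN : Gf S (n - 3) ≤ Dj e (n - 3) := gf_le_Dj e _
  have hCW : Subgroup.zpowers c ≤ E.subgroupOf S ⊓ Gf S 2 := Subgroup.zpowers_le.mpr hcW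
  refine ⟨fun i => match i with
    | 0 => ⊥
    | 1 => Subgroup.zpowers c
    | 2 => E.subgroupOf S ⊓ Gf S 2
    | 3 => Gf S (n - 3)
    | _ => Dj e (n - 3), rfl, rfl, ?_, ?_, ?_, ?_⟩
  · intro i hi
    interval_cases i
    · exact bot_le
    · exact hCW
    · exact hf.inf_le
    · exact hTN
  · intro i hi
    interval_cases i
    · exact bot_le
    · exact hCW.trans (hf.inf_le.trans hTN)
    · exact hf.inf_le.trans hTN
    · exact hTN
    · exact le_rfl
  · intro i hi
    interval_cases i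
    · show Nat.card (Subgroup.zpowers c) = Nat.card (⊥ : Subgroup S) * p
      rw [Subgroup.card_bot, one_mul, Nat.card_zpowers, hcord]
    · show Nat.card (E.subgroupOf S ⊓ Gf S 2 : Subgroup S) = Nat.card (Subgroup.zpowers c) * p
      rw [hf.card_inf, Nat.card_zpowers, hcord, sq]
    · show Nat.card (Gf S (n - 3)) = Nat.card (E.subgroupOf S ⊓ Gf S 2 : Subgroup S) * p
      rw [card_gf' hX hc hn (by omega) (by omega), hf.card_inf, show n - (n - 3) = 3 by omega,
        pow_succ]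
    · show Nat.card (Dj e (n - 3)) = Nat.card (Gf S (n - 3)) * p
      rw [hf.normalizer_eq, hG.norm, card_gf' hX hc hn (by omega) (by omega),
        show n - (n - 3) = 3 by omega, pow_succ]
  · intro f hfa i hi
    interval_cases i
    · intro x hx
      replace hx : x ∈ (⊥ : Subgroup S) := hx
      show f x ∈ (⊥ : Subgroup S)
      rw [Subgroup.mem_bot] at hx ⊢
      rw [hx, hfa.1.map_one]
    · intro x hx
      obtain ⟨k, rfl⟩ := Subgroup.mem_zpowers_iff.mp hx
      rw [hfa.1.map_zpow (hTN (hf.inf_le hcW)), ← hcdef, hfa.1.map_comm (hTN ht0) (self_mem_Dj e _)]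
      refine zpow_mem ?_ k
      rw [hcdef]
      exact hNN _ (hfa.1.mem _ (hTN ht0)) _ (hfa.1.mem _ (self_mem_Dj e _))
    · intro w hw
      have hwN := hTN (hf.inf_le hw)
      refine hcen _ (hfa.1.mem w hwN) fun x hx => ?_
      obtain ⟨x', hx', rfl⟩ := hfa.1.surj x hx
      rw [← hfa.1.mul w hwN x' hx', ← hfa.1.mul x' hx' w hwN, hWN w hw x' hx']
    · exact T_invariant hX hc hp2 hn hS hF hE hcard hcomm hexp hA hf hfa
    · exact fun x hx => hfa.1.mem x hx

/-- The case `n = 5`. -/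
theorem five_absurd (h5 : n = 5) (h1 : E.subgroupOf S ≤ Ct S 2)
    (hT : E.subgroupOf S ≤ Ct S (n - 2)) : False := by
  subst h5
  have hES : E ≤ S := hE.1.1
  have hG : Good p (E.subgroupOf S) := good_of_conj hS hF hE hcard hcomm hA (isConj_refl hES)
  obtain ⟨f, c, m, hfa, hs⟩ := exists_sign hX hc hp2 hn hS hF hE hcard hcomm hexp hA hf
  obtain ⟨K, h0, hk, hmono, hle, hstep, hinv⟩ :=
    exists_flag hX hc hp2 hn hS hF hE hcard hcomm hexp hA hf
  have hnorm : Subgroup.normalizer (Dj e (5 - 3) : Set S) = ⊤ := eq_top_iff.mpr fun x _ =>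
    mem_normalizer_of_forall fun y _ => gf_le_Dj e _
      (commutator_mem_Gf (i := 1) (j := 1) (Subgroup.mem_top x) (Subgroup.mem_top y))
  have hfn : F.IsFullyNormalized (up (Dj e (5 - 3))) :=
    fully_normalized_up hX hc hp2 hn hS hF hE hcard hcomm hA
      (hf.normalizer_eq ▸ Subgroup.le_normalizer) (m := p ^ 5)
      (by rw [hnorm, Subgroup.card_top, hX])
      fun K E' _ _ _ => (Subgroup.card_le_card_group _).trans hX.le
  obtain ⟨f', hf', hag⟩ := FAut.extend hS hF hfn K h0 hk hmono hle hstep hinv hfa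
  rw [hnorm] at hf'
  have hW := inf_eq_top_two hX hc hp2 hn hG hf hT
  have he := h1 hf.mem
  obtain ⟨t, ht, htc⟩ := hs.c_comm
  have hc4 : c ∈ Gf S 4 := htc ▸ mem_Ct.mp he t ht
  refine sign_absurd hX hc hp2 hn hf'.1 he hf.notMem ?_ (Or.inl rfl) (fun x hx => ?_)
    (m := m) (hW.le hs.m_mem) (fun hm4 => hs.m_notMem ?_) ?_
  · rw [hag e (self_mem_Dj e _)]
    exact hs.f_e.2
  · rw [zpow_one, hag x (gf_le_Dj e _ hx)]
    exact hW.le (hs.f_t x hx)
  · have h4 : Nat.card (Gf S 4) = p := by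
      rw [card_gf' hX hc hn (by omega) (by omega), pow_one]
    rwa [mem_zpowers_of_card h4 hc4 (fun h => by
      have := hs.c_ord; rw [h, orderOf_one] at this; exact hp.out.one_lt.ne this)] at hm4
  · rw [hag m (gf_le_Dj e _ (hf.inf_le hs.m_mem)), hs.f_m]

/-- The case `n = 6` with `E` in `Ct 2`. -/
theorem six_absurd (h6 : n = 6) (h1 : E.subgroupOf S ≤ Ct S 2)
    (hT : ¬ E.subgroupOf S ≤ Ct S (n - 2)) : False := by
  subst h6
  have hES : E ≤ S := hE.1.1
  have hG : Good p (E.subgroupOf S) := good_of_conj hS hF hE hcard hcomm hA (isConj_refl hES)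
  have he : e ∈ Ct S 2 := h1 hf.mem
  have he4 : e ∉ Ct S 4 := hf.notMem_Ct_top hX hc hp2 hn hG hT
  have hC3 : Ct S 3 = Ct S 2 := MaxClassDegree94.Ct_low hp2 6 S hX hc 3 (by omega) (by omega)
  have hGe : Gf S 2 ≤ Ct S 2 := Blackburn20.gf_two_le_Ct 2
  have hNle : Dj e 3 ≤ Ct S 2 :=
    sup_le (Subgroup.zpowers_le.mpr he) ((Gf_antitone (by omega)).trans hGe)
  have hNc : Nat.card (Dj e 3) = p ^ 4 := by
    rw [show Dj e 3 = Subgroup.normalizer (E.subgroupOf S : Set S) from hf.normalizer_eq, hG.norm]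
  have hbound : ∀ K E' : Subgroup S, Good p E' → E' ≤ K → Nat.card K = Nat.card (Dj e 3) →
      Nat.card (Subgroup.normalizer (K : Set S)) ≤ p ^ 5 := fun K E' hE' hle hK =>
    card_le_of_ne_top (n := 6) hX hc hp2 hn
      (normalizer_ne_top_of_six hX hc hp2 hn rfl hE' hle (hK.trans hNc))
  have hC1c : Nat.card (Ct S 2) = p ^ 5 := card_Ct hX hc hn le_rfl (by omega)
  have hnorm : Subgroup.normalizer (Dj e 3 : Set S) = Ct S 2 := by
    refine (Subgroup.eq_of_le_of_card_ge (fun x hx => mem_normalizer_of_forall fun y hy => ?_) ?_).symm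
    · exact gf_le_Dj e _ (Gf_antitone (by omega) (comm_Ct_two hX hc hn hx (hNle hy)))
    · rw [hC1c]
      exact hbound _ _ hG (hf.normalizer_eq ▸ Subgroup.le_normalizer) rfl
  have hfn : F.IsFullyNormalized (up (Dj e 3)) :=
    fully_normalized_up hX hc hp2 hn hS hF hE hcard hcomm hA
      (hf.normalizer_eq ▸ Subgroup.le_normalizer) (m := p ^ 5) (by rw [hnorm, hC1c]) hbound
  obtain ⟨f, c, m, hfa, hs⟩ := exists_sign hX hc hp2 hn hS hF hE hcard hcomm hexp hA hf
  obtain ⟨K, h0, hk, hmono, hle, hstep, hinv⟩ :=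
    exists_flag hX hc hp2 hn hS hF hE hcard hcomm hexp hA hf
  obtain ⟨f1, hf1, hag1⟩ := FAut.extend hS hF hfn K h0 hk hmono hle hstep hinv hfa
  rw [hnorm] at hf1
  obtain ⟨t0, ht0, htc⟩ := hs.c_comm
  have hc5 : c ∈ Gf S 5 := htc ▸ mem_Ct.mp (hC3.ge he) t0 ht0
  have hc1 : c ≠ 1 := fun h => by
    have := hs.c_ord; rw [h, orderOf_one] at this; exact hp.out.one_lt.ne this
  have hG5 : Gf S 5 = Subgroup.zpowers c := mem_zpowers_of_card (by
    rw [card_gf' hX hc hn (by omega) (by omega), pow_one]) hc5 hc1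
  have hG5E : Gf S 5 ≤ E.subgroupOf S := hG5 ▸ Subgroup.zpowers_le.mpr hs.c_mem.1
  -- the element `e` separates `G_2` from `G_3`
  have hG3 : ∀ y ∈ Gf S 2, ⁅y, e⁆ ∈ Gf S 5 → y ∈ Gf S 3 := by
    intro y hy hye
    rw [← Dj_inf_two hX hc hn (hf.pow_mem hX hc hn hG le_rfl) hf.notMem (by omega)]
    refine ⟨?_, hy⟩
    rw [show Dj e 3 = Subgroup.normalizer (E.subgroupOf S : Set S) from hf.normalizer_eq]
    refine mem_normalizer_of_forall fun x hx => ?_
    let L : Subgroup S := (E.subgroupOf S).comap (MulAut.conj y).toMonoidHom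
    have hL : E.subgroupOf S ≤ L := by
      rw [← hf.gen]
      refine sup_le (Subgroup.zpowers_le.mpr ?_) fun w hw => ?_
      · show y * e * y⁻¹ ∈ E.subgroupOf S
        rw [show y * e * y⁻¹ = ⁅y, e⁆ * e by rw [commutatorElement_def]; group]
        exact mul_mem (hG5E hye) hf.mem
      · show y * w * y⁻¹ ∈ E.subgroupOf S
        rw [show y * w * y⁻¹ = ⁅y, w⁆ * w by rw [commutatorElement_def]; group]
        exact mul_mem (hG5E (commutator_mem_Gf hy (hf.inf_le hw))) hw.1
    rw [commutatorElement_def]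
    exact mul_mem (hL hx) (inv_mem hx)
  obtain ⟨y0, hy0, hy0'⟩ := SetLike.exists_of_lt (S3806.gf_lt hX hc (i := 2) (by omega) (by omega))
  have hu4 : ⁅y0, e⁆ ∈ Gf S 4 := mem_Ct.mp he y0 hy0
  have hu5 : ⁅y0, e⁆ ∉ Gf S 5 := fun h => hy0' (hG3 y0 hy0 h)
  have h4le : Gf S 4 ≤ Ct S 2 := (Gf_antitone (by omega)).trans hGe
  have inv4 : ∀ g, FAut F (Ct S 2) g → ∀ x ∈ Gf S 4, g x ∈ Gf S 4 := by
    intro g hg
    have hcm : ∀ {a b : S}, a ∈ Ct S 2 → b ∈ Ct S 2 → g ⁅a, b⁆ ∈ Gf S 4 := fun ha hb => by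
      rw [hg.1.map_comm ha hb]
      exact comm_Ct_two hX hc hn (hg.1.mem _ ha) (hg.1.mem _ hb)
    have h5' : Gf S 5 ≤ preim hg.1 (Gf S 4) := by
      rw [hG5, Subgroup.zpowers_le, ← htc]
      exact ⟨htc ▸ h4le (Gf_antitone (by omega) hc5),
        hcm (hGe (Gf_antitone (by omega) ht0)) he⟩
    exact fun x hx => (S3806.eq_of_mem_of_notMem hX hc (by omega) (by omega) (by omega) h5'
      (⟨h4le hu4, hcm (hGe hy0) he⟩ : _ ∈ preim hg.1 (Gf S 4)) hu4 hu5 hx).2
  have inv5 : ∀ g, FAut F (Ct S 2) g → ∀ x ∈ Gf S 5, g x ∈ Gf S 5 := by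
    intro g hg x hx
    obtain ⟨y, hy, hy1⟩ : ∃ y ∈ Gf S 4, ⁅y, e⁆ ≠ 1 := by
      by_contra h
      push Not at h
      exact he4 (mem_Ct.mpr fun y hy => by rw [h y hy]; exact one_mem _)
    have hye : ⁅y, e⁆ ∈ Gf S 5 := comm_mem_gf hX hc hn le_rfl hy
    rw [mem_zpowers_of_card (show Nat.card (Gf S 5) = p by
      rw [card_gf' hX hc hn (by omega) (by omega), pow_one]) hye hy1] at hx
    obtain ⟨k, rfl⟩ := Subgroup.mem_zpowers_iff.mp hx
    rw [hg.1.map_zpow (h4le (Gf_antitone (by omega) hye)), hg.1.map_comm (h4le hy) he]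
    exact zpow_mem (comm_mem_gf hX hc hn le_rfl (inv4 g hg y hy)) k
  have hK4 : ∀ y ∈ Ct S 2, (∀ z ∈ Gf S 4, y * z = z * y) → y ∈ Gf S 2 := by
    intro y hy hyz
    have hle' : Gf S 2 ≤ Ct S 2 ⊓ Ct S 4 := le_inf hGe (Blackburn20.gf_two_le_Ct 4)
    have hlt : Nat.card (Ct S 2 ⊓ Ct S 4 : Subgroup S) < p ^ 5 := by
      rw [← hC1c]
      refine lt_of_le_of_ne (Subgroup.card_le_of_le inf_le_left) fun h => he4 ?_
      exact ((Subgroup.eq_of_le_of_card_ge inf_le_left h.ge).ge he).2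
    obtain ⟨u, hu⟩ := IsPGroup.iff_card.mp (hS.to_subgroup (Ct S 2 ⊓ Ct S 4))
    rw [hu] at hlt
    have hu4 := (Nat.pow_lt_pow_iff_right hp.out.one_lt).mp hlt
    rw [Subgroup.eq_of_le_of_card_ge hle' (by
      rw [hu, card_gf' hX hc hn le_rfl (by omega)]
      exact Nat.pow_le_pow_right hp.out.pos (by omega))]
    refine ⟨hy, mem_Ct.mpr fun z hz => ?_⟩
    rw [commutatorElement_eq_one_iff_mul_comm.mpr (hyz z hz).symm]
    exact one_mem _
  have inv2 : ∀ g, FAut F (Ct S 2) g → ∀ x ∈ Gf S 2, g x ∈ Gf S 2 := by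
    intro g hg x hx
    refine hK4 _ (hg.1.mem x (hGe hx)) fun z hz => ?_
    obtain ⟨z', hz', rfl⟩ := surj_of_invariant hg.1 h4le (inv4 g hg) z hz
    rw [← hg.1.mul x (hGe hx) z' (h4le hz'), ← hg.1.mul z' (h4le hz') x (hGe hx),
      commutatorElement_eq_one_iff_mul_comm.mp
        (MaxClassDegree94.comm_eq_one hX hc (by omega) hx hz')]
  have inv3 : ∀ g, FAut F (Ct S 2) g → ∀ x ∈ Gf S 3, g x ∈ Gf S 3 := by
    intro g hg x hx
    refine hG3 _ (inv2 g hg x (Gf_antitone (by omega) hx)) ?_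
    obtain ⟨e', he', hee⟩ := hg.1.surj e he
    rw [← hee, ← hg.1.map_comm (hGe (Gf_antitone (by omega) hx)) he']
    exact inv5 g hg _ (mem_Ct.mp (hC3.ge he') x hx)
  have hC1top : Subgroup.normalizer (Ct S 2 : Set S) = ⊤ := eq_top_iff.mpr fun x _ =>
    mem_normalizer_of_forall fun y _ => hGe
      (commutator_mem_Gf (i := 1) (j := 1) (Subgroup.mem_top x) (Subgroup.mem_top y))
  have hfn1 : F.IsFullyNormalized (up (Ct S 2)) :=
    fully_normalized_up hX hc hp2 hn hS hF hE hcard hcomm hA h1 (m := p ^ 6)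
      (by rw [hC1top, Subgroup.card_top, hX]) fun K E' _ _ _ => (Subgroup.card_le_card_group _).trans hX.le
  obtain ⟨f2, hf2, hag2⟩ := FAut.extend hS hF hfn1 (fun i => match i with
      | 0 => ⊥
      | 1 => Gf S 5
      | 2 => Gf S 4
      | 3 => Gf S 3
      | 4 => Gf S 2
      | _ => Ct S 2) rfl (k := 5) rfl
    (fun i hi => by
      interval_cases i
      · exact bot_le
      · exact Gf_antitone (by omega)
      · exact Gf_antitone (by omega)
      · exact Gf_antitone (by omega)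
      · exact hGe)
    (fun i hi => by
      interval_cases i
      · exact bot_le
      · exact (Gf_antitone (by omega)).trans hGe
      · exact h4le
      · exact (Gf_antitone (by omega)).trans hGe
      · exact hGe
      · exact le_rfl)
    (fun i hi => by
      interval_cases i
      · show Nat.card (Gf S 5) = Nat.card (⊥ : Subgroup S) * p
        rw [Subgroup.card_bot, one_mul, card_gf' hX hc hn (by omega) (by omega), pow_one]
      · show Nat.card (Gf S 4) = Nat.card (Gf S 5) * p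
        rw [card_gf' hX hc hn (by omega) (by omega), card_gf' hX hc hn (by omega) (by omega),
          ← pow_succ]
      · show Nat.card (Gf S 3) = Nat.card (Gf S 4) * p
        rw [card_gf' hX hc hn (by omega) (by omega), card_gf' hX hc hn (by omega) (by omega),
          ← pow_succ]
      · show Nat.card (Gf S 2) = Nat.card (Gf S 3) * p
        rw [card_gf' hX hc hn (by omega) (by omega), card_gf' hX hc hn (by omega) (by omega),
          ← pow_succ]
      · show Nat.card (Ct S 2) = Nat.card (Gf S 2) * p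
        rw [hC1c, card_gf' hX hc hn le_rfl (by omega), ← pow_succ])
    (fun g hg i hi => by
      interval_cases i
      · intro x hx
        replace hx : x ∈ (⊥ : Subgroup S) := hx
        show g x ∈ (⊥ : Subgroup S)
        rw [Subgroup.mem_bot] at hx ⊢
        rw [hx, hg.1.map_one]
      · exact inv5 g hg
      · exact inv4 g hg
      · exact inv3 g hg
      · exact inv2 g hg
      · exact fun x hx => hg.1.mem x hx) hf1
  rw [hC1top] at hf2
  have hagN : ∀ x ∈ Dj e 3, f2 x = f x := fun x hx => by rw [hag2 x (hNle hx), hag1 x hx]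
  have hW4 : ∀ w ∈ E.subgroupOf S ⊓ Gf S 2, w ∈ Gf S 4 → w ∈ Gf S 5 := by
    intro w hw hw4
    by_contra hw5
    have h4W : Gf S 4 ≤ E.subgroupOf S ⊓ Gf S 2 := S3806.eq_of_mem_of_notMem hX hc (by omega)
      (by omega) (by omega) (le_inf hG5E (Gf_antitone (by omega))) hw hw4 hw5
    refine he4 (mem_Ct.mpr fun y hy => ?_)
    rw [commutatorElement_eq_one_iff_mul_comm.mpr (hG.comm y (h4W hy).1 e hf.mem)]
    exact one_mem _
  refine sign_absurd hX hc hp2 hn hf2.1 he hf.notMem ?_ (Or.inr rfl) (fun x hx => ?_)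
    (m := m) (hf.inf_le hs.m_mem) (fun hm4 => hs.m_notMem ?_) ?_
  · rw [hagN e (self_mem_Dj e _)]; exact hs.f_e.2
  · have hfx : f2 x ∈ Gf S 2 := gf_invariant hf2.1 2 x hx
    have hex : Commute x (f2 x) → (x ^ (-1 : ℤ))⁻¹ * f2 x = x * f2 x := fun _ => by
      rw [zpow_neg_one, inv_inv]
    rw [zpow_neg_one, inv_inv]
    refine hG3 _ (mul_mem hx hfx) ?_
    obtain ⟨u, hu⟩ : ∃ u, u = ⁅x, e⁆ := ⟨_, rfl⟩
    obtain ⟨v, hv⟩ : ∃ v, v = ⁅f2 x, e⁆ := ⟨_, rfl⟩
    have hu4' : u ∈ Gf S 4 := hu ▸ mem_Ct.mp he x hx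
    have hv4 : v ∈ Gf S 4 := hv ▸ mem_Ct.mp he _ hfx
    let q := QuotientGroup.mk' (Gf S 5)
    have hq : ∀ {z : S}, z ∈ Gf S 4 → ∀ y : S, q z * q y = q y * q z := fun {z} hz y =>
      (S3806.comm_mem_iff _ _ _).mp (comm_mem_gf hX hc hn le_rfl hz)
    have hfu : q (f2 u) = q u := by
      have hT : u ∈ Gf S 3 := Gf_antitone (by omega) hu4'
      have h := hs.f_t u hT
      rw [← hagN u (gf_le_Dj e _ hT)] at h
      exact (QuotientGroup.eq.mpr (hW4 _ h (mul_mem (inv_mem hu4')
        (gf_invariant hf2.1 4 u hu4')))).symm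
    have hfv : q (f2 u) = (q v)⁻¹ := by
      rw [hu, hf2.1.map_comm (Subgroup.mem_top x) (Subgroup.mem_top e), hagN e (self_mem_Dj e _)]
      obtain ⟨w, hw⟩ : ∃ w, w = f e * e := ⟨_, rfl⟩
      have hw3 : w ∈ Gf S 3 := hw ▸ hf.inf_le hs.f_e
      rw [show f e = w * e⁻¹ by rw [hw]; group,
        show ⁅f2 x, w * e⁻¹⁆ = ⁅f2 x, w⁆ * (w * ⁅f2 x, e⁻¹⁆ * w⁻¹) by
          simp only [commutatorElement_def]; group,
        show ⁅f2 x, e⁻¹⁆ = e⁻¹ * v⁻¹ * e by rw [hv]; simp only [commutatorElement_def]; group]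
      simp only [map_mul, map_inv]
      rw [show q ⁅f2 x, w⁆ = 1 from (QuotientGroup.eq_one_iff _).mpr (commutator_mem_Gf hfx hw3),
        one_mul]
      have h1 := hq (inv_mem hv4) e
      have h2 := hq (inv_mem hv4) w
      rw [map_inv] at h1 h2
      rw [show (q e)⁻¹ * (q v)⁻¹ * q e = (q v)⁻¹ by rw [mul_assoc, h1, inv_mul_cancel_left], ← h2,
        mul_inv_cancel_right]
    have he' : ⁅x * f2 x, e⁆ = v * u := by
      rw [show ⁅x * f2 x, e⁆ = x * v * x⁻¹ * u by
          rw [hu, hv]; simp only [commutatorElement_def]; group,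
        commutatorElement_eq_one_iff_mul_comm.mp
          (MaxClassDegree94.comm_eq_one hX hc (by omega) hx hv4), mul_inv_cancel_right]
    rw [he']
    refine (QuotientGroup.eq_one_iff _).mp ?_
    show q (v * u) = 1
    rw [map_mul, ← hfu, hfv, mul_inv_cancel]
  · rw [hG5] at hW4
    exact hW4 m hs.m_mem hm4
  · rw [hagN m (gf_le_Dj e _ (hf.inf_le hs.m_mem)), hs.f_m]

/-- Invariance in the middle groups `D_j`. -/
theorem inv_Dj (hT : E.subgroupOf S ≤ Ct S (n - 2)) (h1 : ¬ E.subgroupOf S ≤ Ct S 2) {j : ℕ}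
    (hj : 3 ≤ j) (hjn : j ≤ n - 3) {f : S → S} (hfa : FAut F (Dj e j) f) :
    ∀ k, j ≤ k → k ≤ n - 2 → ∀ x ∈ Gf S k, f x ∈ Gf S k := by
  have hES : E ≤ S := hE.1.1
  have hG : Good p (E.subgroupOf S) := good_of_conj hS hF hE hcard hcomm hA (isConj_refl hES)
  have he := hf.notMem_Ct_two hX hc hp2 hn hG h1
  have hD : ∀ {k : ℕ}, j ≤ k → ∀ {x : S}, x ∈ Gf S k → x ∈ Dj e j := fun hk x hx =>
    gf_le_Dj e j (Gf_antitone hk hx)
  have hZ : ∀ x ∈ Gf S (n - 2), f x ∈ Gf S (n - 2) := by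
    intro x hx
    have hxD := hD (by omega : j ≤ n - 2) hx
    refine (mem_center_iff' hX hc hp2 hn hG hf hT h1 hj hjn (hfa.1.mem x hxD)).mpr fun d hd => ?_
    obtain ⟨d', hd', rfl⟩ := hfa.1.surj d hd
    rw [← hfa.1.mul x hxD d' hd', ← hfa.1.mul d' hd' x hxD,
      (mem_center_iff' hX hc hp2 hn hG hf hT h1 hj hjn hxD).mp hx d' hd']
  have h3 : ∀ x ∈ Gf S (n - 3), f x ∈ Gf S (n - 3) := by
    by_cases hj4 : j + 4 ≤ n
    · intro x hx
      have hxD := hD hjn hx
      refine (mem_gf_three_iff hX hc hp2 hn hG hf hT h1 hj hj4 (hfa.1.mem x hxD)).mpr fun d hd => ?_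
      obtain ⟨d', hd', rfl⟩ := hfa.1.surj d hd
      rw [← hfa.1.map_comm hxD hd']
      exact hZ _ ((mem_gf_three_iff hX hc hp2 hn hG hf hT h1 hj hj4 hxD).mp hx d' hd')
    · obtain rfl : j = n - 3 := by omega
      exact T_invariant hX hc hp2 hn hS hF hE hcard hcomm hexp hA hf hfa
  have hJ : ∀ x ∈ Gf S j, f x ∈ Gf S j := by
    intro x hx
    have hxD := hD le_rfl hx
    refine (mem_gf_iff_cent hX hc hp2 hn hG hf hT h1 hj hjn (hfa.1.mem x hxD)).mpr fun t ht => ?_
    obtain ⟨t', ht', rfl⟩ := surj_of_invariant hfa.1 ((Gf_antitone hjn).trans (gf_le_Dj e j)) h3 t ht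
    rw [← hfa.1.mul x hxD t' (hD hjn ht'), ← hfa.1.mul t' (hD hjn ht') x hxD,
      (mem_gf_iff_cent hX hc hp2 hn hG hf hT h1 hj hjn hxD).mp hx t' ht']
  intro k hjk
  induction k, hjk using Nat.le_induction with
  | base => exact fun _ => hJ
  | succ k hjk ih =>
    intro hk x hx
    refine (gf_succ_le hX hc hp2 hn he (K := preim hfa.1 (Gf S (k + 1))) (i := k) (by omega)
      (by omega) (fun y hy => ⟨hD (by omega : j ≤ n - 2) hy,
        Gf_antitone (by omega) (hZ y hy)⟩) (fun y hy => ⟨hD (by omega : j ≤ k + 1)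
        (comm_mem_gf hX hc hn le_rfl hy), ?_⟩) hx).2
    rw [hfa.1.map_comm (hD hjk hy) (self_mem_Dj e j)]
    exact comm_mem_gf hX hc hn le_rfl (ih (by omega) y hy)

/-- The main case: `n` even. -/
theorem even_absurd (hev : Even n) (hn6 : 6 ≤ n) (hex : Ct S (n - 2) ≠ Ct S 2)
    (hT : E.subgroupOf S ≤ Ct S (n - 2)) (h1 : ¬ E.subgroupOf S ≤ Ct S 2) : False := by
  classical
  have hES : E ≤ S := hE.1.1
  have hG : Good p (E.subgroupOf S) := good_of_conj hS hF hE hcard hcomm hA (isConj_refl hES)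
  have he := hf.notMem_Ct_two hX hc hp2 hn hG h1
  have hW := inf_eq_top_two hX hc hp2 hn hG hf hT
  obtain ⟨f0, c, m, hfa0, hs⟩ := exists_sign hX hc hp2 hn hS hF hE hcard hcomm hexp hA hf
  obtain ⟨i, hi⟩ : ∃ i, n = 2 * i + 2 := by
    obtain ⟨r, hr⟩ := hev
    exact ⟨r - 1, by omega⟩
  obtain ⟨t0, ht0, htc⟩ := hs.c_comm
  have hcZ : c ∈ Gf S (n - 2) := hW.le hs.c_mem
  have hce : ∀ {k : ℤ}, Commute (c ^ k) e := fun {k} =>
    (show Commute c e from hG.comm c hs.c_mem.1 e hf.mem).zpow_left k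
  have hcard' : ∀ {j : ℕ}, 2 ≤ j → j ≤ n - 3 → Nat.card (Dj e j) = p ^ (n - j + 1) :=
    fun h2 h3 => card_Dj hX hc hn (hf.pow_mem hX hc hn hG h3) hf.notMem h2 (by omega)
  have hfnD : ∀ j, i < j → j ≤ n - 3 → F.IsFullyNormalized (up (Dj e j)) := by
    intro j hij hjn
    refine fully_normalized_up hX hc hp2 hn hS hF hE hcard hcomm hA
      ((hf.normalizer_eq ▸ Subgroup.le_normalizer : E.subgroupOf S ≤ Dj e (n - 3)).trans
        (sup_le_sup_left (Gf_antitone hjn) _)) (m := p ^ (n - j + 2)) ?_ fun K E' hE' hle hK => ?_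
    · rw [normalizer_Dj hX hc hp2 hn hG hf hT h1 (by omega) hjn, hcard' (by omega) (by omega)]
      congr 1
      omega
    · rw [hcard' (by omega) hjn] at hK
      rcases cases hX hc hp2 hn hE' with ⟨h5, -⟩ | ⟨-, -, -, hT', h1'⟩ | ⟨h6, -⟩
      · omega
      · obtain ⟨e', hf'⟩ := exists_frame hX hc hp2 hn hE'
        have hne : K ≠ ⊤ := fun h => by
          rw [h, Subgroup.card_top, hX] at hK
          have := Nat.pow_right_injective hp.out.two_le hK
          omega
        obtain ⟨k, hk1, hk2, hk⟩ := eq_Dj_of_le hX hc hp2 hn hE' hf' hT' h1' hle hne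
        have hk3 : k ≤ n - 3 := by
          by_contra hk3
          obtain rfl : k = n - 2 := by omega
          have hle' : K ≤ E' := hk ▸ sup_le (Subgroup.zpowers_le.mpr hf'.mem)
            (gf_two_top_le hX hc hn hE' hT')
          have := Subgroup.card_le_of_le hle'
          rw [hK, hE'.card, Nat.pow_le_pow_iff_right hp.out.one_lt] at this
          omega
        rw [hk, card_Dj hX hc hn (hf'.pow_mem hX hc hn hE' hk3) hf'.notMem hk1 (by omega)] at hK
        have := Nat.pow_right_injective hp.out.two_le hK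
        obtain rfl : k = j := by omega
        rw [hk, normalizer_Dj hX hc hp2 hn hE' hf' hT' h1' (by omega) hjn,
          card_Dj hX hc hn (hf'.pow_mem hX hc hn hE' (by omega)) hf'.notMem (by omega) (by omega)]
        exact le_of_eq (by congr 1; omega)
      · rw [show n - j + 1 = 4 by omega] at hK
        refine (card_le_of_ne_top hX hc hp2 hn
          (normalizer_ne_top_of_six hX hc hp2 hn h6 hE' hle hK)).trans ?_
        exact Nat.pow_le_pow_right hp.out.pos (by omega)
  have climb : ∀ d j, j + d = n - 3 → i ≤ j →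
      ∃ f, FAut F (Dj e j) f ∧ ∀ x ∈ Dj e (n - 3), f x = f0 x := by
    intro d
    induction d with
    | zero =>
      intro j hj _
      obtain rfl : j = n - 3 := by omega
      exact ⟨f0, hfa0, fun x _ => rfl⟩
    | succ d ih =>
      intro j hj hij
      obtain ⟨f, hfa, hag⟩ := ih (j + 1) (by omega) (by omega)
      have hj1 : j + 1 ≤ n - 3 := by omega
      obtain ⟨f', hf', hag'⟩ := FAut.extend hS hF (hfnD (j + 1) (by omega) hj1)
        (fun l => if l = 0 then ⊥ else if l = 1 then Subgroup.zpowers c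
          else if l ≤ n - (j + 1) then Gf S (n - l) else Dj e (j + 1))
        (k := n - (j + 1) + 1) (by simp)
        (by
          rw [if_neg (by omega), if_neg (by omega), if_neg (by omega)])
        (fun l hl => by
          rcases (show l = 0 ∨ l = 1 ∨ 2 ≤ l from by omega) with rfl | rfl | hl2
          · rw [if_pos rfl]; exact bot_le
          · rw [if_neg (by omega), if_pos rfl, if_neg (by omega), if_neg (by omega),
              if_pos (by omega), Subgroup.zpowers_le]
            exact Gf_antitone (by omega) hcZ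
          · rw [if_neg (by omega), if_neg (by omega), if_pos (by omega), if_neg (by omega),
              if_neg (by omega)]
            split_ifs with h
            · exact Gf_antitone (by omega)
            · exact (Gf_antitone (by omega)).trans (gf_le_Dj e _))
        (fun l hl => by
          split_ifs with h0 h1' h2
          · exact bot_le
          · exact (Subgroup.zpowers_le.mpr (Gf_antitone (by omega) hcZ)).trans (gf_le_Dj e _)
          · exact (Gf_antitone (by omega)).trans (gf_le_Dj e _)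
          · exact le_rfl)
        (fun l hl => by
          rcases (show l = 0 ∨ l = 1 ∨ 2 ≤ l from by omega) with rfl | rfl | hl2
          · rw [if_neg (by omega), if_pos rfl, if_pos rfl, Subgroup.card_bot, one_mul,
              Nat.card_zpowers, hs.c_ord]
          · rw [if_neg (by omega), if_neg (by omega), if_pos (by omega), if_neg (by omega),
              if_pos rfl, card_gf' hX hc hn (by omega) (by omega), Nat.card_zpowers, hs.c_ord,
              show n - (n - (1 + 1)) = 2 by omega, sq]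
          · rw [if_neg (by omega), if_neg (by omega), if_neg (show ¬ l = 0 by omega),
              if_neg (show ¬ l = 1 by omega), if_pos (show l ≤ n - (j + 1) by omega),
              card_gf' hX hc hn (by omega : 2 ≤ n - l) (by omega)]
            split_ifs with h
            · rw [card_gf' hX hc hn (by omega) (by omega), ← pow_succ]
              congr 1; omega
            · rw [hcard' (by omega) hj1, ← pow_succ]
              congr 1; omega)
        (fun g hg l hl => by
          have hinv := inv_Dj hX hc hp2 hn hS hF hE hcard hcomm hexp hA hf hT h1 (by omega) hj1 hg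
          split_ifs with h0 h1' h2
          · intro x hx
            rw [Subgroup.mem_bot] at hx
            rw [hx, hg.1.map_one]
            exact one_mem _
          · intro x hx
            obtain ⟨a, rfl⟩ := Subgroup.mem_zpowers_iff.mp hx
            have hgt := hinv (n - 3) hj1 (by omega) t0 ht0
            rw [hg.1.map_zpow (gf_le_Dj e _ (Gf_antitone (by omega) hcZ)), ← htc,
              hg.1.map_comm (gf_le_Dj e _ (Gf_antitone hj1 ht0)) (self_mem_Dj e _)]
            refine zpow_mem ?_ a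
            rw [htc]
            obtain ⟨k, g', hg', hge⟩ := mem_Dj_iff.mp (hg.1.mem e (self_mem_Dj e _))
            obtain ⟨b, hb⟩ := Subgroup.mem_zpowers_iff.mp (hs.comm_mem _ hgt)
            rw [hge, show ⁅g t0, e ^ k * g'⁆ =
                ⁅g t0, e ^ k⁆ * (e ^ k * ⁅g t0, g'⁆ * (e ^ k)⁻¹) by
                  simp only [commutatorElement_def]; group,
              MaxClassDegree94.comm_eq_one hX hc (by omega) hgt hg', mul_one, mul_inv_cancel,
              mul_one, comm_zpow_of_commute (by rw [← hb]; exact hce), ← hb, ← zpow_mul]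
            exact zpow_mem (Subgroup.mem_zpowers c) _
          · exact hinv _ (by omega) (by omega)
          · exact fun x hx => hg.1.mem x hx) hfa
      rw [normalizer_Dj hX hc hp2 hn hG hf hT h1 (by omega) hj1, show j + 1 - 1 = j by omega] at hf'
      refine ⟨f', hf', fun x hx => ?_⟩
      rw [hag' x ((sup_le_sup_left (Gf_antitone hj1) _ : Dj e (n - 3) ≤ Dj e (j + 1)) hx), hag x hx]
  obtain ⟨f, hfa, hag⟩ := climb (n - 3 - i) i (by omega) le_rfl
  refine pairing_absurd hX hc hp2 hn hex he (hT hf.mem) (c := c) (m := m) hi hfa.1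
    (fun k hik hk => ?_) (fun hi2 => ?_) ?_ ?_ hcZ hs.c_ord ?_ hs.comm_mem (hW.le hs.m_mem)
    hs.m_notMem ?_
  · by_cases hi2 : i = 2
    · obtain rfl : k = n - 3 := by omega
      intro x hx
      rw [hag x (gf_le_Dj e _ hx)]
      exact T_invariant hX hc hp2 hn hS hF hE hcard hcomm hexp hA hf hfa0 x hx
    · exact inv_Dj hX hc hp2 hn hS hF hE hcard hcomm hexp hA hf hT h1 (by omega) (by omega) hfa k
        hik.le (by omega)
  · exact inv_Dj hX hc hp2 hn hS hF hE hcard hcomm hexp hA hf hT h1 (by omega) (by omega) hfa i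
      le_rfl (by omega)
  · rw [hag e (self_mem_Dj e _)]; exact hW.le hs.f_e
  · intro t ht
    rw [hag t (gf_le_Dj e _ ht)]
    exact hW.le (hs.f_t t ht)
  · rw [hag c (gf_le_Dj e _ (Gf_antitone (by omega) hcZ)), hs.f_c]
  · rw [hag m (gf_le_Dj e _ (hf.inf_le hs.m_mem)), hs.f_m]

omit hf in
/-- No essential elementary abelian subgroup of order `p ^ 3`. -/
theorem no_soft : False := by
  have hG : Good p (E.subgroupOf S) := good_of_conj hS hF hE hcard hcomm hA (isConj_refl hE.1.1)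
  obtain ⟨e, hf⟩ := exists_frame hX hc hp2 hn hG
  rcases cases hX hc hp2 hn hG with ⟨h5, h1, hT, -⟩ | ⟨hev, h6, hex, hT, h1⟩ | ⟨h6, -, h1, hT⟩
  · exact five_absurd hX hc hp2 hn hS hF hE hcard hcomm hexp hA hf h5 h1 hT
  · exact even_absurd hX hc hp2 hn hS hF hE hcard hcomm hexp hA hf hev h6 hex hT h1
  · exact six_absurd hX hc hp2 hn hS hF hE hcard hcomm hexp hA hf h6 h1 hT

end Cfsg.Agent.FusionSoftCases94
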