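import Mathlib
import Cfsg.Agent.Lib.TransferTate

/-!
Group-theoretic lemmas behind the automizer argument for `[S, S] ≤ Q ≤ Φ(S)` in fusion systems:
a normal `p`-complement from a self-normalizing Sylow subgroup with small derived group, invariant
Sylow subgroups, coprime averaging and a splitting lemma.
-/

set_option autoImplicit false

namespace Cfsg.Agent.FusionSplitting

set_option linter.style.haveILetI false

open scoped commutatorElement

/-- If `B` is a self-normalizing Sylow `p`-subgroup, `I ≤ B` is normal with `[B,B] ≤ I ≤ Φ(B)`, then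
there is a normal `p`-complement, and it centralizes `I`. -/
theorem exists_normal_complement {A : Type*} [Group A] [Finite A] {p : ℕ} [Fact p.Prime]
    (B : Sylow p A) (I : Subgroup A) [I.Normal] (hIB : I ≤ (B : Subgroup A))
    (hBI : ⁅(B : Subgroup A), (B : Subgroup A)⁆ ≤ I)
    (hN : Subgroup.normalizer ((B : Subgroup A) : Set A) ≤ (B : Subgroup A))
    (hIΦ : I ≤ (frattini (B : Subgroup A)).map (B : Subgroup A).subtype) :
    ∃ H : Subgroup A, H.Normal ∧ (Nat.card H).Coprime p ∧ H ⊔ (B : Subgroup A) = ⊤ ∧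
      (∀ h ∈ H, ∀ i ∈ I, h * i = i * h) ∧
      (∀ h ∈ H, (∀ b ∈ (B : Subgroup A), b * h = h * b) → h = 1) := by
  let π := QuotientGroup.mk' I
  have hπ : Function.Surjective π := QuotientGroup.mk'_surjective I
  let B' : Sylow p (A ⧸ I) := B.mapSurjective hπ
  have hB' : (B' : Subgroup (A ⧸ I)) = (B : Subgroup A).map π := Sylow.coe_mapSurjective hπ B
  have hcomap : ((B : Subgroup A).map π).comap π = (B : Subgroup A) := by
    rw [Subgroup.comap_map_eq, QuotientGroup.ker_mk', sup_eq_left.mpr hIB]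
  have hN' : Subgroup.normalizer ((B' : Subgroup (A ⧸ I)) : Set (A ⧸ I)) ≤
      Subgroup.centralizer ((B' : Subgroup (A ⧸ I)) : Set (A ⧸ I)) := by
    intro y hy
    obtain ⟨x, rfl⟩ := hπ y
    have hx : x ∈ Subgroup.normalizer ((B : Subgroup A) : Set A) := by
      rw [Subgroup.mem_normalizer_iff]
      intro z
      have h := Subgroup.mem_normalizer_iff.mp hy (π z)
      rw [← hcomap]
      simp only [Subgroup.mem_comap, map_mul, map_inv, ← hB']
      exact h
    rw [Subgroup.mem_centralizer_iff, hB']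
    rintro _ ⟨b, hb, rfl⟩
    have h1 : ⁅b, x⁆ ∈ I := hBI (Subgroup.commutator_mem_commutator hb (hN hx))
    have h2 : ⁅π b, π x⁆ = 1 := by
      rw [← map_commutatorElement]; exact (QuotientGroup.eq_one_iff _).mpr h1
    exact commutatorElement_eq_one_iff_mul_comm.mp h2
  have hc := MonoidHom.ker_transferSylow_isComplement' B' hN'
  set M := (MonoidHom.transferSylow B' hN').ker with hM
  obtain ⟨k, hk⟩ := IsPGroup.iff_card.mp B'.isPGroup'
  have hMi : M.index = p ^ k := by rw [hc.symm.index_eq_card, hk]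
  have hle : Cfsg.pResidual p A ≤ M.comap π := by
    refine TransferPResidual.pResidual_le_of_index (k := k) ?_
    rw [Subgroup.index_comap_of_surjective _ hπ, hMi]
  have hmeet : (B : Subgroup A) ⊓ Cfsg.pResidual p A ≤ I := by
    rintro x ⟨hxB, hxO⟩
    have h1 : π x ∈ (B' : Subgroup (A ⧸ I)) := by rw [hB']; exact Subgroup.mem_map_of_mem π hxB
    have h2 : π x ∈ M := hle hxO
    exact (QuotientGroup.eq_one_iff x).mp (Subgroup.disjoint_def.mp hc.disjoint h2 h1)
  have hcompl : Cfsg.HasNormalPComplement p A :=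
    TransferTate.hasNormalPComplement_of_le_frattini B (hmeet.trans hIΦ)
  have hbot := (TransferPResidual.hasNormalPComplement_iff_inf_eq_bot B).mp hcompl
  set H := Cfsg.pResidual p A with hH
  haveI hHn : H.Normal := by
    haveI := TransferPResidual.pResidual_characteristic (G := A) (p := p)
    exact inferInstance
  refine ⟨H, hHn, ?_, ?_, ?_, ?_⟩
  · rw [Nat.coprime_comm, (Fact.out : p.Prime).coprime_iff_not_dvd]
    intro hdvd
    haveI := Fintype.ofFinite H
    obtain ⟨⟨x, hx⟩, hxo⟩ := exists_prime_orderOf_dvd_card' p hdvd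
    have hx' : orderOf x = p := by rw [← hxo]; exact (Subgroup.orderOf_mk x hx).symm
    have hxp : IsPGroup p ↥(Subgroup.zpowers x) := IsPGroup.of_card (n := 1) (by
      rw [Nat.card_zpowers, hx', pow_one])
    obtain ⟨Q, hQ⟩ := hxp.exists_le_sylow
    obtain ⟨g, hg⟩ := MulAction.exists_smul_eq A Q B
    have h2 : g * x * g⁻¹ ∈ (B : Subgroup A) := by
      rw [← hg, Sylow.smul_def, Sylow.pointwise_smul_def]
      exact Subgroup.mem_map_of_mem _ (hQ (Subgroup.mem_zpowers x))
    have h3 : g * x * g⁻¹ ∈ (B : Subgroup A) ⊓ H := ⟨h2, hHn.conj_mem x hx g⟩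
    rw [hbot, Subgroup.mem_bot, conj_eq_one_iff] at h3
    rw [h3, orderOf_one] at hx'
    exact (Fact.out : p.Prime).one_lt.ne hx'
  · rw [sup_comm, hH]; exact TransferPResidual.sylow_sup_pResidual B
  · intro h hh i hi
    have h1 : ⁅h, i⁆ ∈ (B : Subgroup A) ⊓ H := by
      have hI' : ⁅h, i⁆ ∈ I := by
        rw [commutatorElement_def, mul_assoc, mul_assoc]
        rw [← mul_assoc i]
        have := (‹I.Normal›).conj_mem i hi h
        simpa [mul_assoc] using I.mul_mem this (I.inv_mem hi)
      refine ⟨hIB hI', ?_⟩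
      have : h * (i * h⁻¹ * i⁻¹) ∈ H := H.mul_mem hh (hHn.conj_mem _ (H.inv_mem hh) i)
      simpa [commutatorElement_def, mul_assoc] using this
    rw [hbot, Subgroup.mem_bot] at h1
    exact commutatorElement_eq_one_iff_mul_comm.mp h1
  · intro h hh hcomm
    have hn : h ∈ Subgroup.normalizer ((B : Subgroup A) : Set A) := by
      rw [Subgroup.mem_normalizer_iff]
      intro z
      constructor
      · intro hz
        rw [show h * z * h⁻¹ = z from by rw [← hcomm z hz, mul_assoc, mul_inv_cancel, mul_one]]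
        exact hz
      · intro hz
        have e := hcomm _ hz
        have e2 : h * z * h⁻¹ = z := by
          have := congrArg (fun t => h⁻¹ * t) e
          simpa [mul_assoc] using this.symm
        rw [← e2]; exact hz
    have h3 : h ∈ (B : Subgroup A) ⊓ H := ⟨hN hn, hh⟩
    rwa [hbot, Subgroup.mem_bot] at h3

/-- A normal subgroup `H` has, for every prime `q` dividing its order and every `p`-subgroup `B`
with `p` prime to `|H|` and `H B = A`, a nontrivial `q`-subgroup normalized by `B`. -/
theorem exists_invariant_qSubgroup {A : Type*} [Group A] [Finite A] {p q : ℕ} [Fact p.Prime]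
    [Fact q.Prime] (B : Sylow p A) (H : Subgroup A) [H.Normal] (hco : (Nat.card H).Coprime p)
    (hq : q ∣ Nat.card H) :
    ∃ X : Subgroup A, X ≤ H ∧ IsPGroup q X ∧ X ≠ ⊥ ∧
      (B : Subgroup A) ≤ Subgroup.normalizer (X : Set A) := by
  obtain ⟨X₀⟩ : Nonempty (Sylow q H) := inferInstance
  set X := (X₀ : Subgroup H).map H.subtype with hX
  set N := Subgroup.normalizer (X : Set A) with hN
  have hsup : N ⊔ H = ⊤ := Sylow.normalizer_sup_eq_top X₀
  obtain ⟨P⟩ : Nonempty (Sylow p N) := inferInstance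
  have hidx : ¬ p ∣ ((P : Subgroup N).map N.subtype).index := by
    rw [Subgroup.index_map_subtype, (Fact.out : p.Prime).dvd_mul]
    rintro (h | h)
    · exact P.not_dvd_index h
    · have h1 : N.index ∣ Nat.card H := by
        have e1 := Subgroup.relIndex_mul_index (inf_le_left : N ⊓ H ≤ N)
        have e2 := Subgroup.relIndex_mul_index (inf_le_right : N ⊓ H ≤ H)
        have e3 : H.relIndex N = H.index := by
          rw [← Subgroup.relIndex_sup_right, hsup, Subgroup.relIndex_top_right]
        rw [Subgroup.inf_relIndex_left, e3] at e1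
        rw [Subgroup.inf_relIndex_right, ← e1, mul_comm] at e2
        rw [← mul_left_cancel₀ (Subgroup.index_ne_zero_of_finite) e2]
        exact Subgroup.relIndex_dvd_card _ _
      exact (Fact.out : p.Prime).not_dvd_one
        (Nat.dvd_gcd (h.trans h1) dvd_rfl |>.trans (dvd_of_eq hco))
  let P' : Sylow p A := (P.isPGroup'.map N.subtype).toSylow hidx
  have hP'N : (P' : Subgroup A) ≤ N := Subgroup.map_subtype_le _
  obtain ⟨g, hg⟩ := MulAction.exists_smul_eq A P' B
  refine ⟨X.map (MulAut.conj g).toMonoidHom, ?_, (X₀.isPGroup'.map _).map _, ?_, ?_⟩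
  · rintro _ ⟨x, hx, rfl⟩
    exact (‹H.Normal›).conj_mem x (Subgroup.map_subtype_le _ hx) g
  · rw [ne_eq, Subgroup.map_eq_bot_iff_of_injective _ (MulAut.conj g).injective, hX,
      Subgroup.map_eq_bot_iff_of_injective _ H.subtype_injective]
    exact X₀.ne_bot_of_dvd_card hq
  · intro b hb
    rw [← hg, Sylow.smul_def, Sylow.pointwise_smul_def] at hb
    obtain ⟨n, hn, rfl⟩ := hb
    have hn' := Subgroup.mem_normalizer_iff_map_conj_eq.mp (hP'N hn)
    rw [Subgroup.mem_normalizer_iff_map_conj_eq, Subgroup.map_map]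
    conv_rhs => rw [← hn', Subgroup.map_map]
    congr 1
    ext x
    simp [MulAut.conj_apply, mul_assoc]

/-! ### Coprime averaging -/

section Averaging

variable {W : Type*} [Group W] [Fintype W] {V : Type*} [CommGroup V] [Finite V]

/-- Raising to a power coprime to the order is injective. -/
theorem pow_injective_of_coprime {n : ℕ} (h : (Nat.card V).Coprime n) :
    Function.Injective fun v : V => v ^ n :=
  (powCoprime h).injective

/-- The norm of an action. -/
noncomputable def normHom (ρ : W →* MulAut V) : V →* V :=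
  ∏ w : W, (ρ w).toMonoidHom

theorem normHom_apply (ρ : W →* MulAut V) (v : V) : normHom ρ v = ∏ w : W, ρ w v := by
  simp [normHom, MonoidHom.finsetProd_apply]

theorem apply_normHom (ρ : W →* MulAut V) (x : W) (v : V) : ρ x (normHom ρ v) = normHom ρ v := by
  rw [normHom_apply, map_prod]
  exact Fintype.prod_equiv (Equiv.mulLeft x) _ _ fun w => by simp

theorem normHom_apply_self (ρ : W →* MulAut V) (x : W) (v : V) :
    normHom ρ (ρ x v) = normHom ρ v := by
  rw [normHom_apply, normHom_apply]
  exact Fintype.prod_equiv (Equiv.mulRight x) _ _ fun w => by simp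

/-- A crossed homomorphism into a module of coprime order is principal. -/
theorem exists_coboundary (ρ : W →* MulAut V) (hco : (Nat.card V).Coprime (Fintype.card W))
    (δ : W → V) (hδ : ∀ x w, δ (x * w) = δ x * ρ x (δ w)) :
    ∃ z : V, ∀ w, δ w = z * (ρ w z)⁻¹ := by
  obtain ⟨z, hz⟩ := (powCoprime hco).surjective (∏ x : W, δ x)
  simp only [powCoprime_apply] at hz
  refine ⟨z, fun w => pow_injective_of_coprime hco ?_⟩
  have h1 : ∏ x : W, δ (w * x) = ∏ x : W, δ x :=
    Fintype.prod_equiv (Equiv.mulLeft w) _ _ fun x => rfl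
  simp only [hδ, Finset.prod_mul_distrib, Finset.prod_const, Finset.card_univ] at h1
  simp only [mul_pow, inv_pow, ← map_pow, hz, map_prod]
  exact eq_mul_inv_of_mul_eq h1

/-- Fixed points and the kernel of the norm are complements. -/
theorem exists_fixed_mul_ker (ρ : W →* MulAut V) (hco : (Nat.card V).Coprime (Fintype.card W))
    (v : V) : ∃ u f : V, v = u * f ∧ normHom ρ u = 1 ∧ ∀ w, ρ w f = f := by
  obtain ⟨f, hf⟩ := (powCoprime hco).surjective (normHom ρ v)
  simp only [powCoprime_apply] at hf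
  have hfix : ∀ w, ρ w f = f := fun w => pow_injective_of_coprime hco (by
    simp only [← map_pow, hf, apply_normHom])
  refine ⟨v * f⁻¹, f, by simp, ?_, hfix⟩
  rw [map_mul, map_inv, normHom_apply ρ f]
  simp only [hfix, Finset.prod_const, Finset.card_univ, hf, mul_inv_cancel]

theorem eq_one_of_fixed_of_normHom (ρ : W →* MulAut V)
    (hco : (Nat.card V).Coprime (Fintype.card W)) {u : V} (h : normHom ρ u = 1)
    (hfix : ∀ w, ρ w u = u) : u = 1 := by
  refine pow_injective_of_coprime hco ?_
  rw [normHom_apply] at h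
  simpa [hfix] using h

theorem pow_card_eq (ρ : W →* MulAut V) {u : V} (h : normHom ρ u = 1) :
    u ^ Fintype.card W = (∏ w : W, (ρ w u * u⁻¹))⁻¹ := by
  rw [Finset.prod_mul_distrib, ← normHom_apply, h, Finset.prod_const, Finset.card_univ]
  simp

end Averaging

/-! ### Splitting -/

/-- A crossed homomorphism on `G` extending a given equivariant projection of a normal subgroup
`D`, built from a weight `φ` whose conjugates over `G ⧸ D` multiply to the identity. -/
theorem exists_crossed {G : Type*} [Group G] (D : Subgroup G) [D.Normal] [Fintype (G ⧸ D)]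
    {V : Type*} [CommGroup V] (θ : G →* MulAut V) (hθ : ∀ d ∈ D, θ d = 1)
    (pr : D →* V)
    (hpr : ∀ (g : G) (d : G) (hd : d ∈ D) (hd' : g * d * g⁻¹ ∈ D),
      pr ⟨g * d * g⁻¹, hd'⟩ = θ g (pr ⟨d, hd⟩))
    (φ : V →* V) (hφ : ∀ v : V, ∏ b : G ⧸ D, θ b.out (φ ((θ b.out)⁻¹ v)) = v) :
    ∃ P : G → V, (∀ x y, P (x * y) = P x * θ x (P y)) ∧ ∀ d : D, P d = pr d := by
  have hmem : ∀ (x : G) (b : G ⧸ D), x * b.out * ((x : G ⧸ D) * b).out⁻¹ ∈ D := by
    intro x b
    rw [← QuotientGroup.eq_one_iff]
    simp only [QuotientGroup.mk_mul, QuotientGroup.mk_inv, QuotientGroup.out_eq',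
      mul_inv_cancel]
  let ψ : G ⧸ D → V →* V := fun b =>
    (θ b.out).toMonoidHom.comp (φ.comp ((θ b.out)⁻¹ : MulAut V).toMonoidHom)
  have hψ : ∀ (x : G) (b : G ⧸ D) (v : V), ψ ((x : G ⧸ D) * b) (θ x v) = θ x (ψ b v) := by
    intro x b v
    have h1 : θ ((x : G ⧸ D) * b).out = θ x * θ b.out := by
      have := hθ _ (hmem x b)
      rw [map_mul, map_mul, map_inv, mul_inv_eq_one] at this
      exact this.symm
    simp [ψ, h1]
  refine ⟨fun g => ∏ b : G ⧸ D, ψ ((g : G ⧸ D) * b) (pr ⟨_, hmem g b⟩), ?_, ?_⟩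
  · intro x y
    have key : ∀ b : G ⧸ D,
        ψ (((x * y : G) : G ⧸ D) * b) (pr ⟨_, hmem (x * y) b⟩) =
          θ x (ψ ((y : G ⧸ D) * b) (pr ⟨_, hmem y b⟩)) *
            ψ ((x : G ⧸ D) * ((y : G ⧸ D) * b)) (pr ⟨_, hmem x ((y : G ⧸ D) * b)⟩) := by
      intro b
      have hd' : x * (y * b.out * ((y : G ⧸ D) * b).out⁻¹) * x⁻¹ ∈ D :=
        (‹D.Normal›).conj_mem _ (hmem y b) x
      have e : (⟨_, hmem (x * y) b⟩ : D) =
          ⟨_, hd'⟩ * ⟨_, hmem x ((y : G ⧸ D) * b)⟩ := by
        apply Subtype.ext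
        simp only [Subgroup.coe_mul, QuotientGroup.mk_mul, mul_assoc, inv_mul_cancel_left]
      rw [e, map_mul, map_mul, hpr x _ (hmem y b) hd', QuotientGroup.mk_mul, mul_assoc, hψ]
    simp only [key, Finset.prod_mul_distrib, map_prod]
    rw [mul_comm]
    congr 1
    exact Fintype.prod_equiv (Equiv.mulLeft (y : G ⧸ D)) _ _ fun b => rfl
  · intro d
    have h1 : ((d : G) : G ⧸ D) = 1 := (QuotientGroup.eq_one_iff _).mpr d.2
    refine Eq.trans (Fintype.prod_congr _ _ fun b => ?_) (hφ (pr d))
    have hd' : (b.out)⁻¹ * (d : G) * b.out⁻¹⁻¹ ∈ D := (‹D.Normal›).conj_mem _ d.2 _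
    have e : (⟨_, hmem (d : G) b⟩ : D) = d := by
      apply Subtype.ext
      simp [h1, mul_assoc]
    rw [e, h1, one_mul]
    rfl

/-- A normal abelian subgroup `U`, central in `D` and complemented there by a normal `C`, has a
supplement meeting it trivially as soon as a suitable weight exists. -/
theorem exists_supplement {G : Type*} [Group G] {V : Type*} [CommGroup V] (θ : G →* MulAut V)
    (P : G → V) (hP : ∀ x y, P (x * y) = P x * θ x (P y)) (ι : V →* G)
    (hι : ∀ v, P (ι v) = v) (hθι : ∀ v, θ (ι v) = 1) :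
    ∃ K : Subgroup G, K ⊔ ι.range = ⊤ ∧ K ⊓ ι.range = ⊥ := by
  have h1 : P 1 = 1 := by
    have := hP 1 1
    rw [mul_one, map_one, MulAut.one_apply] at this
    exact mul_eq_left.mp this.symm
  let K : Subgroup G :=
    { carrier := {g | P g = 1}
      one_mem' := h1
      mul_mem' := fun {a b} ha hb => by
        simp only [Set.mem_setOf_eq] at ha hb ⊢
        rw [hP, ha, hb, map_one, mul_one]
      inv_mem' := fun {a} ha => by
        simp only [Set.mem_setOf_eq] at ha ⊢
        have := hP a⁻¹ a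
        rw [inv_mul_cancel, h1, ha, map_one, mul_one] at this
        exact this.symm }
  refine ⟨K, eq_top_iff.mpr fun g _ => ?_, ?_⟩
  · have hk : (ι (P g))⁻¹ * g ∈ K := by
      show P _ = 1
      rw [← map_inv, hP, hι, hθι]
      simp
    have := mul_mem (Subgroup.mem_sup_right (S := K) (MonoidHom.mem_range.mpr ⟨P g, rfl⟩ : ι (P g) ∈ ι.range)) (Subgroup.mem_sup_left hk)
    rwa [mul_inv_cancel_left] at this
  · rw [eq_bot_iff]
    rintro _ ⟨hk, v, rfl⟩
    have hk' : P (ι v) = 1 := hk
    rw [hι] at hk'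
    simp [hk']

end Cfsg.Agent.FusionSplitting
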