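import Cfsg.Agent.Lib.FusionFree

/-!
Thompson's nilpotency criterion for saturated fusion systems and its consequences. The group theoretic
input is the statement `Grp`; at odd primes it follows from the theorem of Glauberman and Thompson.
-/

set_option autoImplicit false

universe u

namespace Cfsg.Agent.FusionThompson

open Cfsg Cfsg.FusionSystem Cfsg.Agent.FusionSysBasic Cfsg.Agent.FusionSysSaturated
  Cfsg.Agent.FusionSysNormal Cfsg.Agent.FusionNilReduction Cfsg.Agent.FusionNilTools
  Cfsg.Agent.FusionFree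

/-- The centre, as a subgroup of the ambient group. -/
def zS {G : Type*} [Group G] (S : Subgroup G) : Subgroup G := S ⊓ Subgroup.centralizer (S : Set G)

section Groups

variable {G : Type*} [Group G]

theorem mem_zS {S : Subgroup G} {x : G} : x ∈ zS S ↔ x ∈ S ∧ ∀ s ∈ S, s * x = x * s :=
  Iff.rfl.trans (and_congr Iff.rfl Subgroup.mem_centralizer_iff)

theorem le_normalizer_zS (S : Subgroup G) :
    S ≤ Subgroup.normalizer ((zS S : Subgroup G) : Set G) := fun g hg =>
  Subgroup.centralizer_le_normalizer _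
    (Subgroup.mem_centralizer_iff.mpr fun z hz => ((mem_zS.mp hz).2 g hg).symm)

theorem subgroupOf_zS (S : Subgroup G) : (zS S).subgroupOf S = Subgroup.center S := by
  ext x
  rw [Subgroup.mem_subgroupOf, mem_zS, Subgroup.mem_center_iff]
  exact ⟨fun h s => Subtype.ext (h.2 s s.2),
    fun h => ⟨x.2, fun s hs => congrArg Subtype.val (h ⟨s, hs⟩)⟩⟩

theorem zS_ne_bot {p : ℕ} [Fact p.Prime] {S : Subgroup G} [Finite S] (hS : IsPGroup p S)
    (h : S ≠ ⊥) : zS S ≠ ⊥ := by
  intro e
  haveI : Nontrivial S := (Subgroup.nontrivial_iff_ne_bot S).mpr h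
  haveI := hS.center_nontrivial
  refine (Subgroup.nontrivial_iff_ne_bot (Subgroup.center S)).mp inferInstance ?_
  rw [← subgroupOf_zS, e, Subgroup.bot_subgroupOf]

theorem map_subgroupOf_thomJ (S : Subgroup G) :
    (GlaubermanZJ.thomJ 0 (⊤ : Subgroup S)).map S.subtype = GlaubermanZJ.thomJ 0 S := by
  rw [← GlaubermanZJ.thomJ_map S.subtype_injective, ← MonoidHom.range_eq_map, Subgroup.range_subtype]

theorem thomJ_characteristic (S : Subgroup G) :
    ((GlaubermanZJ.thomJ 0 S).subgroupOf S).Characteristic := by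
  rw [← map_subgroupOf_thomJ S, Subgroup.subgroupOf,
    Subgroup.comap_map_eq_self_of_injective S.subtype_injective, Subgroup.characteristic_iff_map_eq]
  intro e
  rw [← GlaubermanZJ.thomJ_map e.injective, Subgroup.map_top_of_surjective _ e.surjective]

theorem thomJ_eq_of_le [Finite G] {C S : Subgroup G} (h1 : GlaubermanZJ.thomJ 0 S ≤ C)
    (h2 : C ≤ S) : GlaubermanZJ.thomJ 0 C = GlaubermanZJ.thomJ 0 S := by
  obtain ⟨A₀, hA₀⟩ := GlaubermanZJ.exists_maxFam 0 S
  have hA₀C : GlaubermanZJ.IsFam 0 C A₀ :=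
    ⟨(GlaubermanZJ.le_thomJ hA₀).trans h1, hA₀.1.comm, hA₀.1.pow⟩
  refine le_antisymm (sSup_le fun A hA => GlaubermanZJ.le_thomJ ⟨⟨hA.1.le.trans h2, hA.1.comm,
    hA.1.pow⟩, fun B hB => (hA₀.2 B hB).trans (hA.2 A₀ hA₀C)⟩) (sSup_le fun A hA => ?_)
  exact GlaubermanZJ.le_thomJ ⟨⟨(GlaubermanZJ.le_thomJ hA).trans h1, hA.1.comm, hA.1.pow⟩,
    fun B hB => hA.2 B ⟨hB.le.trans h2, hB.comm, hB.pow⟩⟩

end Groups

/-- Thompson's criterion for groups of characteristic `p`. -/
def Grp (p : ℕ) [Fact p.Prime] : Prop :=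
  ∀ (L : Type u) [Group L] [Finite L] (P : Sylow p L),
    Subgroup.centralizer ((pCore p L : Subgroup L) : Set L) ≤ pCore p L →
      (p ≠ 2 ∨ ¬ Cfsg.Involves ↥(Cfsg.qd p) L) →
        IsPGroup p ↥(Subgroup.centralizer ((zS (P : Subgroup L) : Subgroup L) : Set L)) →
          IsPGroup p
            ↥(Subgroup.normalizer ((GlaubermanZJ.thomJ 0 (P : Subgroup L) : Subgroup L) : Set L)) →
            IsPGroup p L

theorem grp_odd {p : ℕ} [Fact p.Prime] (hp : p ≠ 2) : Grp.{u} p := by
  intro L _ _ P hchar _ hC hN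
  refine FusionCriteria.isPGroup_of_hasNormalPComplement
    (S3082.result hp P P ⟨le_rfl, fun _ _ _ h => h⟩ (Or.inl ?_)) hchar
  rw [GlaubermanZJ.centerThompsonAOf_eq]
  refine FusionCriteria.hasNormalPComplement_of_isPGroup (hN.to_le ?_)
  set J := GlaubermanZJ.thomJ 0 (P : Subgroup L)
  set Y := GlaubermanZJ.thomY 0 (P : Subgroup L)
  set M := Subgroup.normalizer (Y : Set L)
  obtain ⟨A, hA⟩ := GlaubermanZJ.exists_maxFam 0 (P : Subgroup L)
  have hZY : zS (P : Subgroup L) ≤ Y := fun z hz => ⟨GlaubermanZJ.le_thomJ hA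
    (GlaubermanZJ.mem_of_commute hA (mem_zS.mp hz).1 (pow_zero z) fun a ha =>
      (mem_zS.mp hz).2 a (hA.1.le ha)),
    Subgroup.mem_centralizer_iff.mpr fun j hj =>
      (mem_zS.mp hz).2 j (GlaubermanZJ.thomJ_le _ hj)⟩
  set C := Subgroup.centralizer (Y : Set L)
  have hJC : J ≤ C := fun j hj =>
    Subgroup.mem_centralizer_iff.mpr fun y hy => (Subgroup.mem_centralizer_iff.mp hy.2 j hj).symm
  have hCp : IsPGroup p ↥C := hC.to_le (Subgroup.centralizer_le hZY)
  have hPM : (P : Subgroup L) ≤ M :=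
    Subgroup.le_normalizer.trans (GlaubermanZJ.normalizer_le_thomY _)
  have hPC : (P : Subgroup L) ≤ Subgroup.normalizer (C : Set L) := fun g hg => by
    refine TransferAlperin.mem_normalizer_of_cj_eq ?_
    have hgY : Y.map (MulAut.conj g).toMonoidHom = Y := TransferAlperin.cj_eq_self (hPM hg)
    ext x
    constructor
    · rintro ⟨c, hc, rfl⟩
      refine Subgroup.mem_centralizer_iff.mpr fun y hy => ?_
      rw [← hgY] at hy
      obtain ⟨y', hy', rfl⟩ := hy
      show (MulAut.conj g) y' * (MulAut.conj g) c = (MulAut.conj g) c * (MulAut.conj g) y'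
      rw [← map_mul, ← map_mul, Subgroup.mem_centralizer_iff.mp hc y' hy']
    · intro hx
      refine ⟨(MulAut.conj g).symm x, Subgroup.mem_centralizer_iff.mpr fun y hy => ?_,
        (MulAut.conj g).apply_symm_apply x⟩
      have e := Subgroup.mem_centralizer_iff.mp hx _ (hgY ▸ ⟨y, hy, rfl⟩ : (MulAut.conj g) y ∈ Y)
      exact (MulAut.conj g).injective (by rw [map_mul, map_mul, MulEquiv.apply_symm_apply]; exact e)
  have hCP : C ≤ (P : Subgroup L) :=
    le_sup_right.trans (P.3 (P.2.to_sup_of_normal_right' hCp hPC) le_sup_left).le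
  intro g hg
  refine TransferAlperin.mem_normalizer_of_cj_eq ?_
  have h := GlaubermanZJ.thomJ_map (n := 0) (f := (MulAut.conj g).toMonoidHom)
    (MulAut.conj g).injective C
  have hgC : C.map (MulAut.conj g).toMonoidHom = C := by
    refine TransferAlperin.cj_eq_self ?_
    refine Subgroup.mem_normalizer_iff.mpr fun x => ?_
    have key : ∀ g ∈ M, ∀ x ∈ C, g * x * g⁻¹ ∈ C := fun g hg x hx =>
      Subgroup.mem_centralizer_iff.mpr fun y hy => by
        have e := Subgroup.mem_centralizer_iff.mp hx (g⁻¹ * y * g)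
          (by have := (Subgroup.mem_normalizer_iff.mp (M.inv_mem hg) y).mp hy
              rwa [inv_inv] at this)
        calc y * (g * x * g⁻¹) = g * (g⁻¹ * y * g * x) * g⁻¹ := by group
          _ = g * (x * (g⁻¹ * y * g)) * g⁻¹ := by rw [e]
          _ = g * x * g⁻¹ * y := by group
    refine ⟨key g hg x, fun hx => ?_⟩
    have := key g⁻¹ (M.inv_mem hg) _ hx
    simpa [mul_assoc] using this
  rw [hgC, thomJ_eq_of_le hJC hCP] at h
  exact h.symm

section Fusion

variable {p : ℕ} [Fact p.Prime] {Ω : Type u} [Group Ω] {S : Subgroup Ω}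
  {F : FusionSystem S}

/-- Automorphisms centralizing `Z(S)` are `p`-elements. -/
def CentZ (F : FusionSystem S) (p : ℕ) : Prop :=
  ∀ R : Subgroup Ω, R ≤ S → zS S ≤ R → ∀ α ∈ F.autGroup R, (∀ x ∈ zS S, afun α x = x) →
    ∃ k : ℕ, α ^ p ^ k = 1

theorem centZ_of_nilAt (h : NilAt F p (zS S)) : CentZ F p := fun R hR hZR α hα hfix =>
  h R hR hZR (hR.trans (le_normalizer_zS S)) α hα fun x hx => by rw [hfix x hx]; exact hx

theorem centZ_of_centralizerSystem [Finite S]
    {C : FusionSystem (centralizerIn S (zS S))} (hC : F.IsCentralizerSystem (zS S) C)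
    (h : Nil C p) : CentZ F p := by
  intro R hR hZR α hα hfix
  have hRC : R ≤ centralizerIn S (zS S) := fun r hr => mem_centralizerIn.mpr ⟨hR hr, fun z hz => by
    rw [cj_apply, (mem_zS.mp hz).2 r (hR hr), mul_inv_cancel_right]⟩
  refine pow_eq_one_of_isPGroup (h R hRC) ((mem_autGroup hRC).mpr ?_)
  have hm := (mem_autGroup hR).mp hα
  exact (mor_centralizerSystem_iff hC).mpr ⟨hm, hRC, fun x hx => hRC (afun_mem α hx), afun α,
    by rwa [sup_eq_left.mpr hZR], fun _ _ => rfl, hfix⟩

/-- The hypothesis of Thompson's criterion. -/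
def HypT (p : ℕ) [Fact p.Prime] (Ω : Type u) [Group Ω] (S : Subgroup Ω) (F : FusionSystem S) :
    Prop :=
  (p ≠ 2 ∨ AutFree p F) ∧ CentZ F p ∧ NilAt F p (GlaubermanZJ.thomJ 0 S)

theorem thomJ_ne_bot [Finite S] (hS : IsPGroup p S) {D : Subgroup Ω} (hD : D ≤ S) (hne : D ≠ ⊥) :
    GlaubermanZJ.thomJ 0 D ≠ ⊥ :=
  ne_bot_of_le_ne_bot (FusionCriteria.thomY_ne_bot hS hD hne) inf_le_left

theorem adm_thompson (hgrp : Grp.{u} p) : Adm.{u} p (HypT p) where
  local_step := by
    intro Ω _ S _ hS F hF hH U hU hfn hlt G hG hV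
    obtain ⟨hfree, hC, -⟩ := hH
    set T := normalizerIn S U
    have hTS : T ≤ S := inf_le_left
    haveI := finite_normalizerIn (S := S) U
    have hsub := normalizerSystem_sub hG
    have hZ : zS S ≤ zS T := fun z hz => by
      obtain ⟨hzS, hzc⟩ := mem_zS.mp hz
      exact mem_zS.mpr ⟨⟨hzS, Subgroup.centralizer_le_normalizer _
        (Subgroup.mem_centralizer_iff.mpr fun u hu => hzc u (hfn.1 hu))⟩, fun t ht => hzc t (hTS ht)⟩
    have hTne : T ≠ ⊥ := fun e => hU (eq_bot_iff.mpr (e ▸ le_normalizerIn hfn.1))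
    refine ⟨hfree.imp id (autFree_sub hTS hsub), fun R hR hZR α hα hfix =>
      hC R (hR.trans hTS) (hZ.trans hZR) α (autGroup_le hsub R hα) fun x hx => hfix x (hZ hx),
      nilAt_sub hsub hTS (hV _ ((GlaubermanZJ.thomJ_le _).trans hTS) (thomJ_ne_bot hS hTS hTne) ?_)⟩
    obtain ⟨g, hgS, hgT, hgn⟩ := FusionSysAlperin.lt_normalizerIn hS le_rfl hlt
    exact lt_of_le_of_ne
      (fun t ht => ⟨hTS ht, GlaubermanZJ.normalizer_le_thomJ _ (Subgroup.le_normalizer ht)⟩)
      fun e => hgT (e ▸ (⟨hgS, GlaubermanZJ.normalizer_le_thomJ _ hgn⟩ :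
        g ∈ normalizerIn S (GlaubermanZJ.thomJ 0 T)))
  top_step := by
    intro Ω _ S _ hS F hF hH U hU hUS hT G hG
    obtain ⟨hfree, hC, hJ⟩ := hH
    have hsub := normalizerSystem_sub hG
    refine ⟨hfree.imp id (autFree_sub inf_le_left hsub), fun R hR hZR α hα hfix => ?_, ?_⟩
    · rw [hT] at hR hZR hfix
      exact hC R hR hZR α (autGroup_le hsub R hα) hfix
    · have := nilAt_sub hsub inf_le_left hJ
      rwa [show GlaubermanZJ.thomJ 0 (normalizerIn S U) = GlaubermanZJ.thomJ 0 S by rw [hT]]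
  quot_step := by
    intro Ω _ S _ hS F hF hH Q hQn hQlt Ω' _ S' θ E hE hY
    have hrange := hE.2.2.1
    haveI : Finite S' := by
      rw [← hrange]; exact Finite.of_surjective _ θ.rangeRestrict_surjective
    have hS' : IsPGroup p S' := by
      rw [← hrange]; exact hS.of_surjective _ θ.rangeRestrict_surjective
    have hne : (S' : Subgroup Ω') ≠ ⊥ := by
      intro e
      obtain ⟨x, hxS, hxQ⟩ := SetLike.exists_of_lt hQlt
      refine hxQ ((hE.2.1 ⟨x, hxS⟩).mp ?_)
      have : θ ⟨x, hxS⟩ ∈ S' := hrange ▸ ⟨_, rfl⟩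
      rwa [e, Subgroup.mem_bot] at this
    have key : ∀ W : Subgroup Ω', W ≤ S' → W ≠ ⊥ → S' ≤ Subgroup.normalizer (W : Set Ω') →
        NilAt E p W := by
      intro W hWS hWne hWn
      refine FusionCriteria.nilAt_factor hE hWS (hY _ (FusionMorph88.preimageAlong_le θ W) ?_ ?_)
      · have hker := FusionMorph88.factor_stronglyClosed hE
        refine lt_of_le_of_ne (hker ▸ FusionMorph88.ker_le_preimageAlong W) fun e => hWne ?_
        refine (Subgroup.eq_bot_iff_forall _).mpr fun y hy => ?_
        obtain ⟨s, rfl⟩ : y ∈ θ.range := hrange ▸ hWS hy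
        have : (s : Ω) ∈ preimageAlong θ W :=
          FusionMorph88.mem_preimageAlong.mpr ⟨s.2, by rwa [FusionMorph88.app_apply θ s.2]⟩
        exact (hE.2.1 s).mpr (e ▸ this)
      · intro g hg
        refine mem_normalizer_of_cj_le (FusionMorph88.preimageAlong_le θ W) fun x hx => ?_
        have hxS := FusionMorph88.preimageAlong_le θ W hx
        refine FusionMorph88.mem_preimageAlong.mpr ⟨cj_mem_S hg hxS, ?_⟩
        rw [FusionMorph88.app_cj hg hxS]
        refine cj_mem_of_normalizer (hWn ?_) (FusionMorph88.mem_preimageAlong.mp hx).2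
        rw [FusionMorph88.app_apply θ hg]
        exact hrange ▸ ⟨_, rfl⟩
    exact ⟨hH.1.imp id (fun h => autFree_quotient hS hF h hQn hE),
      centZ_of_nilAt (key _ inf_le_left (zS_ne_bot hS' hne) (le_normalizer_zS S')),
      key _ (GlaubermanZJ.thomJ_le _) (thomJ_ne_bot hS' le_rfl hne)
        (Subgroup.le_normalizer.trans (GlaubermanZJ.normalizer_le_thomJ _))⟩
  base := by
    intro Ω _ S _ hS F hFc hH
    obtain ⟨hfree, hCZ, hJ⟩ := hH
    obtain ⟨hFs, Q, hQn, hQc⟩ := id hFc
    have hh : FusionSysModel.Hyp p F Q := ⟨hS, hFs, hQn, hQc⟩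
    haveI := FusionSysModel.k0_normal hh
    have hM := FusionSysModel.isModel hh
    set ι := FusionSysModel.iota hh
    obtain ⟨hfin, hι, ⟨P, hP⟩, hchar⟩ := id hM
    haveI := hfin
    have hPup : (P : Subgroup (FusionSysModel.Model hh)) = FusionRealized87.upS ι S := by
      rw [hP, FusionRealized87.upS, Subgroup.subgroupOf_self, ← MonoidHom.range_eq_map]
    refine FusionCriteria.nil_of_isPGroup_model hS hM
      (hgrp _ P hchar (hfree.imp id fun h => not_involves_model hS hFc h hM) ?_ ?_)
    · refine isPGroup_of_forall fun g hg => ?_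
      have hQS := normal_le hQn
      have hZQ : zS S ≤ Q := fun z hz => hQc.2 Q (isConj_refl hQS) (mem_centralizerIn.mpr
        ⟨(mem_zS.mp hz).1, fun q hq => by
          rw [cj_apply, ← (mem_zS.mp hz).2 q (hQS hq), mul_inv_cancel_right]⟩)
      obtain ⟨β, hβ, hβe⟩ := exists_aut_of_conj hM hQn g
      have hfix : ∀ x ∈ zS S, afun β x = x := by
        intro x hx
        refine FusionRealized87.up_inj hι (hQS (afun_mem β (hZQ hx))) (mem_zS.mp hx).1 ?_
        rw [hβe x (hZQ hx), cj_apply, mul_inv_eq_iff_eq_mul]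
        refine (Subgroup.mem_centralizer_iff.mp hg _ ?_).symm
        show FusionRealized87.up ι x ∈ zS (P : Subgroup (FusionSysModel.Model hh))
        refine mem_zS.mpr ⟨hP ▸ FusionRealized87.up_mem_range ι (mem_zS.mp hx).1, fun s hs => ?_⟩
        rw [hPup] at hs
        obtain ⟨t, ht, -, rfl⟩ := (FusionRealized87.mem_upS ι).mp hs
        rw [← FusionRealized87.up_mul ι ht (mem_zS.mp hx).1, (mem_zS.mp hx).2 t ht,
          FusionRealized87.up_mul ι (mem_zS.mp hx).1 ht]
      obtain ⟨k, hk⟩ := hCZ Q hQS hZQ β hβ hfix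
      have hpow : ∀ n : ℕ, ∀ x ∈ Q,
          FusionRealized87.up ι (afun (β ^ n) x) = cj (g ^ n) (FusionRealized87.up ι x) := by
        intro n
        induction n with
        | zero => intro x hx; rw [pow_zero, pow_zero, afun_one hx, cj_one]
        | succ n ih =>
          intro x hx
          rw [pow_succ', pow_succ', afun_mul _ _ hx, hβe _ (afun_mem _ hx), ih x hx, cj_cj]
      have hcent : g ^ p ^ k ∈ Subgroup.centralizer
          (((Q.subgroupOf S).map ι : Subgroup _) : Set _) := by
        refine Subgroup.mem_centralizer_iff.mpr fun z hz => ?_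
        obtain ⟨q, hq, rfl⟩ := hz
        have hq' : (q : Ω) ∈ Q := hq
        have e := hpow (p ^ k) q hq'
        rw [hk, afun_one hq', FusionRealized87.up_apply ι q.2, cj_apply,
          eq_mul_inv_iff_mul_eq] at e
        exact e
      obtain ⟨z, -, hz⟩ := FusionModelTools.model_centralizer_le hS hFs hM hQn hQc hcent
      obtain ⟨m, hm'⟩ := hS z
      exact ⟨k + m, by rw [pow_add, pow_mul, ← hz, ← map_pow, hm', map_one]⟩
    · have hN := FusionCriteria.isPGroup_normalizer_model hS hFc hM (GlaubermanZJ.thomJ_le S)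
        (Subgroup.le_normalizer.trans (GlaubermanZJ.normalizer_le_thomJ _)) hJ
      have e : GlaubermanZJ.thomJ 0 (P : Subgroup (FusionSysModel.Model hh)) =
          FusionRealized87.upS ι (GlaubermanZJ.thomJ 0 S) := by
        rw [hP, MonoidHom.range_eq_map, GlaubermanZJ.thomJ_map hι.1, FusionRealized87.upS,
          ← map_subgroupOf_thomJ S, Subgroup.subgroupOf,
          Subgroup.comap_map_eq_self_of_injective S.subtype_injective]
      rwa [e]

variable [Finite S]

/-- Thompson's criterion for saturated fusion systems. -/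
theorem nil_thompson (hgrp : Grp.{u} p) (hS : IsPGroup p S) (hF : F.IsSaturated p)
    (hfree : p ≠ 2 ∨ AutFree p F) (hC : CentZ F p) (hJ : NilAt F p (GlaubermanZJ.thomJ 0 S)) :
    Nil F p :=
  nil_of_hyp (adm_thompson hgrp) hS hF ⟨hfree, hC, hJ⟩

theorem ne_bot_of_not_nil (hn : ¬ Nil F p) : S ≠ ⊥ := by
  rintro rfl
  refine hn fun R hR => ?_
  obtain rfl : R = ⊥ := le_bot_iff.mp hR
  exact isPGroup_of_forall fun α hα => ⟨0, afun_ext fun x hx => by
    rw [pow_zero, pow_one, afun_one hx]
    have := afun_mem α hx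
    rw [Subgroup.mem_bot] at hx this
    rw [this, hx]⟩

/-- A non-nilpotent system has a non-nilpotent normalizer system of a characteristic subgroup. -/
theorem exists_char_not_nilAt (hgrp : Grp.{u} p) (hS : IsPGroup p S) (hF : F.IsSaturated p)
    (hfree : p ≠ 2 ∨ AutFree p F) (hn : ¬ Nil F p) :
    ∃ Z : Subgroup Ω, Z ≤ S ∧ Z ≠ ⊥ ∧ (Z.subgroupOf S).Characteristic ∧
      S ≤ Subgroup.normalizer (Z : Set Ω) ∧ ¬ NilAt F p Z := by
  have hne := ne_bot_of_not_nil hn
  by_cases hJ : NilAt F p (GlaubermanZJ.thomJ 0 S)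
  · refine ⟨zS S, inf_le_left, zS_ne_bot hS hne, ?_, le_normalizer_zS S,
      fun h => hn (nil_thompson hgrp hS hF hfree (centZ_of_nilAt h) hJ)⟩
    rw [subgroupOf_zS]
    infer_instance
  · exact ⟨_, GlaubermanZJ.thomJ_le S, thomJ_ne_bot hS le_rfl hne, thomJ_characteristic S,
      Subgroup.le_normalizer.trans (GlaubermanZJ.normalizer_le_thomJ _), hJ⟩

omit [Finite S] in
theorem yAdm (hgrp : Grp.{u} p) : YAdm.{u} p (fun _ _ _ F => p ≠ 2 ∨ AutFree p F) where
  sub := by
    intro Ω _ S _ _ F G _ _ hsub h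
    exact h.imp id (autFree_sub le_rfl hsub)
  quot := by
    intro Ω _ S _ hS F hF h Q hQn _ Ω' _ S' _ θ E hE
    exact h.imp id fun h => autFree_quotient hS hF h hQn hE
  crit := by
    intro Ω _ S _ hS F hF h hn
    obtain ⟨Z, hZS, hZne, -, hZn, hZ⟩ := exists_char_not_nilAt hgrp hS hF h hn
    exact ⟨Z, hZS, hZne, hZn, hZ⟩

/-- If the automisers of all nontrivial characteristic subgroups of `S` are `p`-groups then the system
is nilpotent. -/
theorem nil_of_characteristic (hgrp : Grp.{u} p) (hS : IsPGroup p S) (hF : F.IsSaturated p)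
    (hfree : p ≠ 2 ∨ AutFree p F)
    (hA : ∀ Q : Subgroup Ω, Q ≤ S → Q ≠ ⊥ → (Q.subgroupOf S).Characteristic →
      IsPGroup p (F.autGroup Q)) : Nil F p := by
  suffices ∀ n m : ℕ, ∀ {Ω : Type u} [Group Ω] {S : Subgroup Ω} [Finite S] (F : FusionSystem S),
      IsPGroup p S → F.IsSaturated p → Nat.card S = n → sysCard F = m →
        (p ≠ 2 ∨ AutFree p F) →
          (∀ Q : Subgroup Ω, Q ≤ S → Q ≠ ⊥ → (Q.subgroupOf S).Characteristic →
            IsPGroup p (F.autGroup Q)) → Nil F p from
    this _ _ F hS hF rfl rfl hfree hA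
  clear hA hfree hF hS
  intro n
  induction n using Nat.strong_induction_on with
  | _ n IHn =>
    intro m
    induction m using Nat.strong_induction_on with
    | _ m IHm =>
      intro Ω _ S _ F hS hF hn hm hfree hA
      by_contra hnil
      obtain ⟨Z, hZS, hZne, hZc, hZn, hZnil⟩ := exists_char_not_nilAt hgrp hS hF hfree hnil
      have hfn : F.IsFullyNormalized Z := FusionWeakAlperin.fullyNormalized_of_normal hZS
        fun g hg x hx => cj_mem_of_normalizer (hZn hg) hx
      have hT : normalizerIn S Z = S := inf_eq_left.mpr hZn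
      haveI := finite_normalizerIn (S := S) Z
      by_cases hnorm : F.IsNormal Z
      · obtain ⟨Ω', _, S', _, θ, E, hE, hsurj, hS', hEs, hlt⟩ :=
          exists_quotient hS hF hnorm hZne
        refine hnil (nil_of_quotient hS hnorm
          (fun α hα => pow_eq_one_of_isPGroup (hA Z hZS hZne hZc) hα) hE hsurj
            (IHn _ (hn ▸ hlt) _ E hS' hEs rfl rfl (hfree.imp id fun h =>
              autFree_quotient hS hF h hnorm hE) fun W hW hWne hWc => ?_))
        have hrange := hE.2.2.1
        set W₀ := preimageAlong θ W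
        have hW₀S : W₀ ≤ S := FusionMorph88.preimageAlong_le θ W
        have hW₀ne : W₀ ≠ ⊥ := fun e => hWne ((Subgroup.eq_bot_iff_forall _).mpr fun y hy => by
          obtain ⟨s, rfl⟩ : y ∈ θ.range := hrange ▸ hW hy
          have hs : (s : Ω) ∈ W₀ :=
            FusionMorph88.mem_preimageAlong.mpr ⟨s.2, by rwa [FusionMorph88.app_apply θ s.2]⟩
          rw [e, Subgroup.mem_bot] at hs
          rw [show s = 1 from Subtype.ext hs, map_one])
        have hker : θ.ker = Z.subgroupOf S := by
          ext s; exact hE.2.1 s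
        have hW₀c : (W₀.subgroupOf S).Characteristic := by
          have hW₀e : W₀.subgroupOf S = W.comap θ := by
            ext s
            rw [Subgroup.mem_subgroupOf, FusionMorph88.mem_preimageAlong, Subgroup.mem_comap,
              FusionMorph88.app_apply θ s.2]
            exact ⟨fun h => h.2, fun h => ⟨s.2, h⟩⟩
          refine Subgroup.characteristic_iff_le_comap.mpr fun e s hs => ?_
          rw [hW₀e] at hs ⊢
          have hWrc : (W.subgroupOf θ.range).Characteristic := by rwa [hrange]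
          have hle : θ.rangeRestrict.ker ≤ (θ.rangeRestrict.comp e.toMonoidHom).ker := by
            intro x hx
            rw [MonoidHom.ker_rangeRestrict, hker] at hx
            show θ.rangeRestrict (e x) = 1
            rw [← MonoidHom.mem_ker, MonoidHom.ker_rangeRestrict, hker]
            exact Subgroup.characteristic_iff_le_comap.mp hZc e hx
          set ψ := θ.rangeRestrict.liftOfSurjective θ.rangeRestrict_surjective
            ⟨θ.rangeRestrict.comp e.toMonoidHom, hle⟩ with hψ
          have hψe : ∀ x, ψ (θ.rangeRestrict x) = θ.rangeRestrict (e x) := fun x =>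
            θ.rangeRestrict.liftOfRightInverse_comp_apply _ _ ⟨_, hle⟩ x
          have hsurjψ : Function.Surjective ψ := fun y => by
            obtain ⟨x, rfl⟩ := θ.rangeRestrict_surjective y
            exact ⟨θ.rangeRestrict (e.symm x), by rw [hψe, MulEquiv.apply_symm_apply]⟩
          haveI : Finite θ.range := Finite.of_surjective _ θ.rangeRestrict_surjective
          have hbij : Function.Bijective ψ := Finite.surjective_iff_bijective.mp hsurjψ
          have := Subgroup.characteristic_iff_le_comap.mp hWrc (MulEquiv.ofBijective ψ hbij)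
            (show θ.rangeRestrict s ∈ W.subgroupOf θ.range from hs)
          rw [Subgroup.mem_comap] at this ⊢
          have h2 : ψ (θ.rangeRestrict s) ∈ W.subgroupOf θ.range := this
          rw [hψe] at h2
          exact h2
        refine isPGroup_of_forall fun α hα => ?_
        obtain ⟨γ, hγ, hγe⟩ := exists_lift_aut hE hW hα
        obtain ⟨k, hk⟩ := pow_eq_one_of_isPGroup (hA W₀ hW₀S hW₀ne hW₀c) hγ
        exact ⟨k, pow_lift hE hW hγe hk⟩
      · have hG := isNormalizerSystem_normalizerSystem (F := F) Z hZS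
        obtain ⟨G, hGs, hGe⟩ := exists_copy_saturated _ hT
          (FusionSysNormalizer.normalizerSystem_saturated hS hF hfn hG)
        have hsub : G.IsSubsystemOf F := fun P φ hφ => normalizerSystem_sub hG P ((hGe P).le hφ)
        obtain ⟨R, hR, hne⟩ := exists_aut_not_mem hS hF hZS hT hG hnorm
        have hlt : sysCard G < sysCard F := sysCard_lt rfl hsub hR fun hle => hne
          (hle.trans (Subgroup.closure_mono fun _ ha => (hGe R).le ha))
        have hGn : Nil G p := IHm _ (hm ▸ hlt) G hS hGs hn rfl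
          (hfree.imp id (autFree_sub le_rfl hsub))
          fun Q hQ hQne hQc => (hA Q hQ hQne hQc).to_le (autGroup_le hsub Q)
        exact hZnil (nilAt_of_nil_normalizerSystem hG fun P hP =>
          (hGn P (hP.trans inf_le_left)).to_le (Subgroup.closure_mono fun _ ha => (hGe P).ge ha))

end Fusion

end Cfsg.Agent.FusionThompson
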