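import Cfsg.Agent.Lib.BlockCount91
import Cfsg.Agent.S0165

/-!
The principal `7`-block of a simple group of order `6048` without elements of order `14` or `21`:
the degrees of its four kinds of characters, the relation on `7`-regular elements, and the
resulting equation for the structure constants of two elements of order `3`.
-/

set_option autoImplicit false
set_option linter.style.haveILetI false
set_option linter.unusedSectionVars false

open scoped ComplexConjugate

namespace Cfsg.Agent.G22Block86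

open Cfsg Cfsg.Agent.BlockPrime86 Cfsg.Agent.BlockPrincipal81 Cfsg.Agent.BlockCount91

attribute [local instance] Classical.propDecidable

variable {T : Type*} [Group T] [Fintype T] [IsSimpleGroup T]

theorem not_comm (hc : Nat.card T = 6048) : ¬ IsMulCommutative T := by
  intro h
  letI : CommGroup T := { (inferInstance : Group T) with mul_comm := fun a b => h.is_comm.comm a b }
  have hp : (Nat.card T).Prime := IsSimpleGroup.prime_card
  rw [hc] at hp
  norm_num at hp

theorem mod_cases {d : ℕ} {s : ℤ} (hs : s = 1 ∨ s = -1) (h : (d : ℤ) ≡ s [ZMOD 7]) :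
    (d % 7 = 1 ∨ d % 7 = 6) ∧ s = (if d % 7 = 1 then (1 : ℤ) else -1) := by
  have h' : (d : ℤ) % 7 = s % 7 := h
  rcases hs with e | e <;> subst e
  · have h1 : d % 7 = 1 := by omega
    exact ⟨Or.inl h1, by rw [if_pos h1]⟩
  · have h1 : d % 7 = 6 := by omega
    exact ⟨Or.inr h1, by rw [if_neg (by omega)]⟩

/-- The possible degrees. -/
def degs : List ℕ :=
  (List.range 78).filter fun d =>
    decide (2 ≤ d) && decide (6048 % d = 0) && (decide (d % 7 = 1) || decide (d % 7 = 6))

/-- The relation at the identity. -/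
def rel (da db : ℕ) : ℤ :=
  1 + (if da % 7 = 1 then (1 : ℤ) else -1) * da + (if db % 7 = 1 then (1 : ℤ) else -1) * db

theorem key : ∀ da ∈ degs, ∀ db ∈ degs, da ≤ db → rel da db ≠ 0 → 6048 % (rel da db).natAbs = 0 →
    1 + da * da + db * db + 2 * ((rel da db).natAbs * (rel da db).natAbs) ≤ 6048 →
    (da = 6 ∧ db = 8 ∧ rel da db = 3) ∨ (da = 6 ∧ db = 27 ∧ rel da db = -32) ∨
      (da = 8 ∧ db = 27 ∧ rel da db = -18) := by
  decide +kernel

/-- A free action makes the number of points a multiple of the order of the group. -/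
theorem card_dvd_of_free {H α : Type*} [Group H] [MulAction H α]
    (h : ∀ (g : H) (a : α), g • a = a → g = 1) : ∃ n : ℕ, Nat.card α = Nat.card H * n := by
  refine ⟨Nat.card (MulAction.orbitRel.Quotient H α), ?_⟩
  rw [← Nat.card_prod]
  refine (Nat.card_eq_of_bijective
    (fun q : H × MulAction.orbitRel.Quotient H α => q.1 • Quotient.out q.2) ⟨?_, ?_⟩).symm
  · rintro ⟨g, ω⟩ ⟨g', ω'⟩ he
    change g • Quotient.out ω = g' • Quotient.out ω' at he
    have hω : ω = ω' := by
      rw [← Quotient.out_eq ω, ← Quotient.out_eq ω']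
      refine Quotient.sound ?_
      show Quotient.out ω ∈ MulAction.orbit H (Quotient.out ω')
      exact ⟨g⁻¹ * g', by show (g⁻¹ * g') • _ = _; rw [mul_smul, ← he, inv_smul_smul]⟩
    subst hω
    have hg := h (g'⁻¹ * g) _ (by rw [mul_smul, he, inv_smul_smul])
    rw [inv_mul_eq_one] at hg
    rw [hg]
  · intro a
    have hr : a ∈ MulAction.orbit H (Quotient.out (Quotient.mk (MulAction.orbitRel H α) a)) :=
      (MulAction.orbitRel H α).symm (Quotient.exact (Quotient.out_eq (Quotient.mk (MulAction.orbitRel H α) a)))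
    obtain ⟨g, hg⟩ := hr
    exact ⟨⟨g, Quotient.mk _ a⟩, hg⟩

/-- Pairs of conjugates of `x` and `y` with product conjugate to a self-centralising element `z`
of order `7` come in full orbits of the two centralisers. -/
theorem count_dvd {x y z : T} (hx : orderOf x = 3)
    (hcz : Nat.card ↥(Subgroup.centralizer ({z} : Set T)) = 7)
    (hb : ∀ g : T, orderOf g ≠ 21) :
    ∃ n : ℕ, Nat.card {g : T // IsConj z (x * (g * y * g⁻¹))} =
      Nat.card ↥(Subgroup.centralizer ({x} : Set T)) *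
        Nat.card ↥(Subgroup.centralizer ({y} : Set T)) * n := by
  set A := Subgroup.centralizer ({x} : Set T)
  set B := Subgroup.centralizer ({y} : Set T)
  let S := {g : T // IsConj z (x * (g * y * g⁻¹))}
  have hmem : ∀ (q : ↥A × ↥B) (g : S),
      IsConj z (x * ((q.1 : T) * g.1 * (q.2 : T)⁻¹ * y * ((q.1 : T) * g.1 * (q.2 : T)⁻¹)⁻¹)) := by
    intro q g
    have h1 : (q.1 : T) * x = x * q.1 := Subgroup.mem_centralizer_singleton_iff.1 q.1.2
    have h2 : (q.2 : T) * y = y * q.2 := Subgroup.mem_centralizer_singleton_iff.1 q.2.2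
    have e2 : (q.2 : T)⁻¹ * y * q.2 = y := by rw [mul_assoc, ← h2, inv_mul_cancel_left]
    refine g.2.trans (isConj_iff.2 ⟨(q.1 : T), ?_⟩)
    calc (q.1 : T) * (x * (g.1 * y * g.1⁻¹)) * (q.1 : T)⁻¹
        = ((q.1 : T) * x) * g.1 * y * g.1⁻¹ * (q.1 : T)⁻¹ := by group
      _ = (x * q.1) * g.1 * ((q.2 : T)⁻¹ * y * q.2) * g.1⁻¹ * (q.1 : T)⁻¹ := by rw [h1, e2]
      _ = x * ((q.1 : T) * g.1 * (q.2 : T)⁻¹ * y * ((q.1 : T) * g.1 * (q.2 : T)⁻¹)⁻¹) := by group
  letI : MulAction (↥A × ↥B) S :=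
    { smul := fun q g => ⟨(q.1 : T) * g.1 * (q.2 : T)⁻¹, hmem q g⟩
      one_smul := fun g => Subtype.ext (show (1 : T) * g.1 * (1 : T)⁻¹ = g.1 by group)
      mul_smul := fun q r g => Subtype.ext (show ((q.1 : T) * r.1) * g.1 * ((q.2 : T) * r.2)⁻¹ =
        (q.1 : T) * ((r.1 : T) * g.1 * (r.2 : T)⁻¹) * (q.2 : T)⁻¹ by group) }
  have hfree : ∀ (q : ↥A × ↥B) (g : S), q • g = g → q = 1 := by
    intro q g he
    have he' : (q.1 : T) * g.1 * (q.2 : T)⁻¹ = g.1 := congrArg Subtype.val he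
    set h := (q.1 : T) with hh
    set w := x * (g.1 * y * g.1⁻¹) with hw
    have hk : (q.2 : T) = g.1⁻¹ * h * g.1 := by
      calc (q.2 : T) = g.1⁻¹ * (h * g.1 * (q.2 : T)⁻¹) * q.2 := by rw [he']; group
        _ = g.1⁻¹ * h * g.1 := by group
    have hhx : Commute h x := Subgroup.mem_centralizer_singleton_iff.1 q.1.2
    have hky : Commute (g.1⁻¹ * h * g.1) y := hk ▸ Subgroup.mem_centralizer_singleton_iff.1 q.2.2
    have hhy : Commute h (g.1 * y * g.1⁻¹) := by
      have := (Commute.conj_iff g.1).2 hky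
      simpa [mul_assoc] using this
    have hhw : Commute h w := hhx.mul_right hhy
    obtain ⟨c, hc⟩ := isConj_iff.1 g.2
    have hpow : h ^ 7 = 1 := by
      have hmemz : c⁻¹ * h * c ∈ Subgroup.centralizer ({z} : Set T) := by
        rw [Subgroup.mem_centralizer_singleton_iff]
        have h3 : z = c⁻¹ * w * c := by rw [hw, ← hc]; group
        rw [h3]
        calc c⁻¹ * h * c * (c⁻¹ * w * c) = c⁻¹ * (h * w) * c := by group
          _ = c⁻¹ * (w * h) * c := by rw [hhw.eq]
          _ = c⁻¹ * w * c * (c⁻¹ * h * c) := by group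
      have h4 : (⟨_, hmemz⟩ : ↥(Subgroup.centralizer ({z} : Set T))) ^ 7 = 1 := by
        rw [← hcz]
        exact pow_card_eq_one'
      have h5 : (c⁻¹ * h * c) ^ 7 = 1 := congrArg Subtype.val h4
      have h6 : h = c * (c⁻¹ * h * c) * c⁻¹ := by group
      rw [h6, conj_pow, h5, mul_one, mul_inv_cancel]
    have h1 : h = 1 := by
      by_contra hne
      haveI : Fact (Nat.Prime 7) := ⟨by norm_num⟩
      have ho : orderOf h = 7 := orderOf_eq_prime hpow hne
      refine hb (h * x) ?_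
      rw [hhx.orderOf_mul_eq_mul_orderOf_of_coprime (by rw [ho, hx]; norm_num), ho, hx]
    have h2 : (q.2 : T) = 1 := by rw [hk, h1]; group
    exact Prod.ext (Subtype.ext h1) (Subtype.ext h2)
  obtain ⟨n, hn⟩ := card_dvd_of_free hfree
  exact ⟨n, by rw [hn, Nat.card_prod]⟩

/-- The principal `7`-block of a simple group of order `6048`. -/
theorem exists_data (hc : Nat.card T = 6048) (hb : ∀ g : T, orderOf g ≠ 14 ∧ orderOf g ≠ 21) :
    ∃ (a b η : IrrCharacter T) (da db de : ℕ) (sa sb eps : ℤ),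
      ((da = 6 ∧ sa = -1 ∧ db = 8 ∧ sb = 1 ∧ de = 3 ∧ eps = 1) ∨
        (da = 6 ∧ sa = -1 ∧ db = 27 ∧ sb = -1 ∧ de = 32 ∧ eps = -1) ∨
        (da = 8 ∧ sa = 1 ∧ db = 27 ∧ sb = -1 ∧ de = 18 ∧ eps = -1)) ∧
      (a : T → ℂ) 1 = da ∧ (b : T → ℂ) 1 = db ∧ (η : T → ℂ) 1 = de ∧
      (∀ g : T, ¬ 7 ∣ orderOf g →
        (eps : ℂ) * (η : T → ℂ) g = 1 + sa * (a : T → ℂ) g + sb * (b : T → ℂ) g) ∧
      (db = 27 → ∀ g : T, 3 ∣ orderOf g → (b : T → ℂ) g = 0) ∧
      (∀ x y : T, orderOf x = 3 → orderOf y = 3 → ∃ n : ℕ,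
        (n : ℂ) * (Nat.card (Subgroup.centralizer {x}) : ℂ) * Nat.card (Subgroup.centralizer {y}) =
          864 * (1 + sa * (a : T → ℂ) x * (a : T → ℂ) y / da + sb * (b : T → ℂ) x * (b : T → ℂ) y / db
            + (-eps) * (η : T → ℂ) x * (η : T → ℂ) y / de)) := by
  haveI : Fact (Nat.Prime 7) := ⟨by norm_num⟩
  have hG := not_comm hc
  obtain ⟨P⟩ : Nonempty (Sylow 7 T) := inferInstance
  have hP : Nat.card ↥(P : Subgroup T) = 7 := by
    rw [P.card_eq_multiplicity, hc]
    have : (6048 : ℕ).factorization 7 = 1 := by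
      rw [show (6048 : ℕ) = 7 * 864 by norm_num, Nat.factorization_mul (by norm_num) (by norm_num),
        Finsupp.add_apply, Nat.Prime.factorization_self (by norm_num),
        Nat.factorization_eq_zero_of_not_dvd (by norm_num)]
    rw [this, pow_one]
  set C := Subgroup.centralizer ((P : Subgroup T) : Set T) with hCdef
  set N := Subgroup.normalizer ((P : Subgroup T) : Set T) with hNdef
  have hPC : (P : Subgroup T) ≤ C := SimpleSearch.le_centralizer_self hP
  have hC : Nat.card ↥C = 7 := by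
    obtain ⟨m, hm⟩ : 7 ∣ Nat.card ↥C := hP ▸ Subgroup.card_dvd_of_le hPC
    by_contra hne
    have hm1 : m ≠ 1 := fun e => hne (by rw [hm, e])
    obtain ⟨r, hr, hrm⟩ := Nat.exists_prime_and_dvd hm1
    haveI : Fact r.Prime := ⟨hr⟩
    have hm6 : m ∣ 864 := by
      have h7 : 7 * m ∣ 7 * 864 := by
        rw [← hm, show 7 * 864 = Nat.card T by rw [hc]]
        exact C.card_subgroup_dvd_card
      exact Nat.dvd_of_mul_dvd_mul_left (by norm_num) h7
    have hr23 : r = 2 ∨ r = 3 := by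
      have h1 : r ∣ 2 ^ 5 * 3 ^ 3 := hrm.trans hm6
      rcases hr.dvd_mul.1 h1 with h | h
      · exact Or.inl ((Nat.prime_dvd_prime_iff_eq hr (by norm_num)).1 (hr.dvd_of_dvd_pow h))
      · exact Or.inr ((Nat.prime_dvd_prime_iff_eq hr (by norm_num)).1 (hr.dvd_of_dvd_pow h))
    obtain ⟨⟨u, hu⟩, hur⟩ := exists_prime_orderOf_dvd_card' r (G := ↥C)
      (hrm.trans (Dvd.intro_left 7 hm.symm))
    rw [Subgroup.orderOf_mk] at hur
    obtain ⟨⟨z, hz⟩, hzo⟩ := exists_prime_orderOf_dvd_card' 7 (G := ↥(P : Subgroup T)) (by rw [hP])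
    rw [Subgroup.orderOf_mk] at hzo
    have hcom : Commute z u := Subgroup.mem_centralizer_iff.1 hu z hz
    have ho := hcom.orderOf_mul_eq_mul_orderOf_of_coprime (by
      rw [hzo, hur]; rcases hr23 with rfl | rfl <;> norm_num)
    rw [hzo, hur] at ho
    rcases hr23 with rfl | rfl
    · exact (hb _).1 ho
    · exact (hb _).2 ho
  -- the inertia index
  have hCN : C ≤ N := Subgroup.centralizer_le_normalizer _
  set e := C.relIndex N with he
  have heN : 7 * e = Nat.card ↥N := by
    have h := (C.subgroupOf N).card_mul_index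
    rw [Nat.card_congr (Subgroup.subgroupOfEquivOfLe hCN).toEquiv, hC] at h
    exact h
  have he3 : e = 3 := by
    have hNi : Nat.card ↥N * N.index = 6048 := by rw [← hc]; exact N.card_mul_index
    have hs : Nat.card (Sylow 7 T) = N.index := P.card_eq_index_normalizer
    have hm1 : N.index % 7 = 1 := by
      rw [← hs]
      have := card_sylow_modEq_one 7 T
      simpa [Nat.ModEq] using this
    have hdvd : e ∣ 6 := by
      haveI : IsCyclic ↥(P : Subgroup T) := isCyclic_of_prime_card hP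
      rw [he, hCdef, hNdef, Subgroup.relIndex, ← Subgroup.normalizerMonoidHom_ker, Subgroup.index_ker]
      refine (Subgroup.card_subgroup_dvd_card _).trans ?_
      rw [IsCyclic.card_mulAut, hP, Nat.totient_prime (by norm_num)]
    rw [← heN] at hNi
    have hle := Nat.le_of_dvd (by norm_num) hdvd
    interval_cases e <;> omega
  obtain ⟨M, hM⟩ := ZStarCount.exists_isPModular 7 (Fact.out : Nat.Prime 7)
  haveI : Fintype ↥(P : Subgroup T) := Fintype.ofFinite _
  haveI : Fintype (↥(P : Subgroup T) →* ℂˣ) := Fintype.ofFinite _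
  obtain ⟨X, Y, w, ε, h⟩ := prime_main hP (by norm_num) hM 3 (by rw [← he3])
  have hcz : ∀ y ∈ (P : Subgroup T), y ≠ 1 →
      Nat.card ↥(Subgroup.centralizer ({y} : Set T)) = 7 := fun y hy hy1 => by
    rw [centralizer_conj hP hy hy1]; exact hC
  have hout : ∀ χ, χ ∉ X → χ ∉ Y →
      ∀ y ∈ (P : Subgroup T), y ≠ 1 → (χ : T → ℂ) y = 0 := fun χ hX hY =>
    (M11Order91.dvd_outside hP h (by norm_num) (by norm_num) hcz (by norm_num) hX hY).2
  have h1X : oneChar T ∈ X := by
    rcases (h.block _).1 (oneChar_mem hM) with hx | hy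
    · exact hx
    · exfalso
      have h2 : (deg (oneChar T) : ℤ) % 7 = (ε * ((3 : ℕ) : ℤ)) % 7 := h.degY _ hy
      rw [deg_one] at h2
      rcases h.sign with e' | e' <;> rw [e'] at h2 <;> omega
  have hw1 : w (oneChar T) = 1 := by
    have h2 := (mod_cases (h.valX _ h1X).1 (d := deg (oneChar T)) (h.valX _ h1X).2.1).2
    rw [h2, deg_one, if_pos (by norm_num)]
  obtain ⟨η₁, η₂, hne, hY⟩ := Finset.card_eq_two.1 (show Y.card = 2 by rw [h.cardY])
  have hη1 : η₁ ∈ Y := by simp [hY]
  have hη2 : η₂ ∈ Y := by simp [hY]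
  obtain ⟨u, v, huv, hX'⟩ := Finset.card_eq_two.1 (show (X.erase (oneChar T)).card = 2 by
    rw [Finset.card_erase_of_mem h1X, h.cardX])
  obtain ⟨a, b, hab, hX'', hle⟩ : ∃ a b, a ≠ b ∧ X.erase (oneChar T) = {a, b} ∧ deg a ≤ deg b := by
    rcases le_total (deg u) (deg v) with hl | hl
    · exact ⟨u, v, huv, hX', hl⟩
    · exact ⟨v, u, huv.symm, by rw [hX', Finset.pair_comm], hl⟩
  have hXs : ∀ f : IrrCharacter T → ℂ, ∑ χ ∈ X, f χ = f (oneChar T) + (f a + f b) := by
    intro f
    rw [← Finset.add_sum_erase X f h1X, hX'', Finset.sum_pair hab]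
  have hXn : ∀ f : IrrCharacter T → ℕ, ∑ χ ∈ X, f χ = f (oneChar T) + (f a + f b) := by
    intro f
    rw [← Finset.add_sum_erase X f h1X, hX'', Finset.sum_pair hab]
  have haX : a ∈ X.erase (oneChar T) := by simp [hX'']
  have hbX : b ∈ X.erase (oneChar T) := by simp [hX'']
  obtain ⟨hane, haX⟩ := Finset.mem_erase.1 haX
  obtain ⟨hbne, hbX⟩ := Finset.mem_erase.1 hbX
  obtain ⟨hamod, hwa⟩ := mod_cases (h.valX a haX).1 (d := deg a) (h.valX a haX).2.1
  obtain ⟨hbmod, hwb⟩ := mod_cases (h.valX b hbX).1 (d := deg b) (h.valX b hbX).2.1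
  have h7one : ¬ 7 ∣ orderOf (1 : T) := by rw [orderOf_one]; norm_num
  have hone : ∀ g : T, ((oneChar T : IrrCharacter T) : T → ℂ) g = 1 := fun g => rfl
  have hreg : ∀ g : T, ¬ 7 ∣ orderOf g →
      (ε : ℂ) * (η₁ : T → ℂ) g = 1 + (w a : ℂ) * (a : T → ℂ) g + (w b : ℂ) * (b : T → ℂ) g := by
    intro g hg
    rw [h.regular η₁ hη1 g hg, hXs, hw1, hone]
    push_cast
    ring
  have hde : deg η₂ = deg η₁ := by
    have := h.agree η₂ hη2 η₁ hη1 1 h7one
    rw [apply_one, apply_one] at this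
    exact_mod_cast this
  have hrel : ε * (deg η₁ : ℤ) = rel (deg a) (deg b) := by
    have h1 := hreg 1 h7one
    rw [apply_one, apply_one, apply_one] at h1
    rw [rel, ← hwa, ← hwb]
    exact_mod_cast h1
  have habs : (rel (deg a) (deg b)).natAbs = deg η₁ := by
    rw [← hrel]
    rcases h.sign with e' | e' <;> simp [e']
  have hsq : 1 + deg a * deg a + deg b * deg b + 2 * (deg η₁ * deg η₁) ≤ 6048 := by
    have h1 := sum_subset_le (X ∪ Y)
    rw [Finset.sum_union h.disj, hXn, hY, Finset.sum_pair hne, deg_one, hde, hc] at h1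
    simp only [pow_two] at h1
    omega
  have hmemD : ∀ χ : IrrCharacter T, χ ≠ oneChar T → deg χ * deg χ ≤ 6048 →
      (deg χ % 7 = 1 ∨ deg χ % 7 = 6) → deg χ ∈ degs := by
    intro χ hχ hq hm
    simp only [degs, List.mem_filter, List.mem_range, Bool.and_eq_true, Bool.or_eq_true,
      decide_eq_true_eq]
    refine ⟨by nlinarith, ⟨two_le_deg hG hχ, ?_⟩, hm⟩
    exact Nat.mod_eq_zero_of_dvd (hc ▸ deg_dvd χ)
  have hkey := key (deg a) (hmemD a hane (by omega) hamod) (deg b) (hmemD b hbne (by omega) hbmod)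
    hle (by
      intro h0
      rw [h0] at habs
      have := deg_pos η₁
      simp at habs
      omega)
    (by rw [habs]; exact Nat.mod_eq_zero_of_dvd (hc ▸ deg_dvd η₁)) (by rw [habs]; exact hsq)
  refine ⟨a, b, η₁, deg a, deg b, deg η₁, w a, w b, ε, ?_, apply_one a, apply_one b, apply_one η₁,
    hreg, ?_, ?_⟩
  · rw [hwa, hwb]
    rcases hkey with ⟨ha, hb', hr⟩ | ⟨ha, hb', hr⟩ | ⟨ha, hb', hr⟩ <;>
      rw [ha, hb'] <;> rw [hr] at habs hrel <;>
      rcases h.sign with e' | e' <;> subst e' <;> norm_num at habs hrel ⊢ <;> omega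
  · intro h27 g hg
    obtain ⟨k, ρ, hρ, hρc⟩ := b.2
    haveI := hρ
    have hk : k = 27 := by
      have h1 : (b : T → ℂ) 1 = k := by rw [← hρc, Representation.char_one, Module.finrank_fin_fun]
      rw [apply_one, h27] at h1
      exact_mod_cast h1.symm
    rw [← hρc]
    exact Cfsg.Agent.S0165.result ρ 3 3 (by norm_num) (by rw [hc]; norm_num) (by rw [hc]; norm_num)
      (by rw [Module.finrank_fin_fun, hk]; norm_num) g hg
  · intro x y hx hy
    obtain ⟨⟨z, hz⟩, hzo⟩ := exists_prime_orderOf_dvd_card' 7 (G := ↥(P : Subgroup T)) (by rw [hP])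
    rw [Subgroup.orderOf_mk] at hzo
    have hz1 : z ≠ 1 := by rintro rfl; rw [orderOf_one] at hzo; norm_num at hzo
    obtain ⟨n, hn⟩ := count_dvd (y := y) hx (hcz z hz hz1) (fun g => (hb g).2)
    refine ⟨n, ?_⟩
    have hx7 : ¬ 7 ∣ orderOf x := by rw [hx]; norm_num
    have hy7 : ¬ 7 ∣ orderOf y := by rw [hy]; norm_num
    have hzX : ∀ χ ∈ X, (χ : T → ℂ) z = (w χ : ℂ) := fun χ hχ => (h.valX χ hχ).2.2 z hz hz1
    -- column orthogonality between `z` and `1`
    have hη : (ε : ℂ) * conj ((η₁ : T → ℂ) z + (η₂ : T → ℂ) z) = -1 := by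
      have ho := CharBasicOrth.sum_irr_mul_conj z (1 : T)
      rw [if_neg (fun hc' => hz1 (isConj_one_left.1 hc')),
        ← Finset.sum_subset (Finset.subset_univ (X ∪ Y)) (fun χ _ hχ => by
          rw [hout χ (fun e => hχ (Finset.mem_union_left _ e))
            (fun e => hχ (Finset.mem_union_right _ e)) z hz hz1, zero_mul]),
        Finset.sum_union h.disj, hXs, hY, Finset.sum_pair hne, hzX _ h1X, hzX _ haX, hzX _ hbX,
        hw1] at ho
      simp only [apply_one, Complex.conj_natCast, deg_one, hde] at ho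
      have h1 := hreg 1 h7one
      rw [apply_one, apply_one, apply_one] at h1
      have hd : (deg η₁ : ℂ) ≠ 0 := Nat.cast_ne_zero.2 (deg_pos η₁).ne'
      have h2 := congrArg (starRingEnd ℂ) ho
      simp only [map_add, map_mul, map_one, map_zero, Complex.conj_natCast, map_intCast,
        Int.cast_one, Nat.cast_one] at h2
      refine mul_right_cancel₀ hd ?_
      rcases h.sign with e' | e' <;> rw [e'] at h1 ⊢ <;> push_cast at h1 h2 ⊢
      · rw [map_add]; linear_combination h2 + h1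
      · rw [map_add]; linear_combination -h2 - h1
    have htr := ClassAlgebraVal.sum_irr_triple x y z
    rw [← Finset.sum_subset (Finset.subset_univ (X ∪ Y)) (fun χ _ hχ => by
        rw [hout χ (fun e => hχ (Finset.mem_union_left _ e))
          (fun e => hχ (Finset.mem_union_right _ e)) z hz hz1, map_zero, mul_zero, zero_div]),
      Finset.sum_union h.disj, hXs, hY, Finset.sum_pair hne, hzX _ h1X, hzX _ haX, hzX _ hbX, hw1,
      h.agree η₂ hη2 η₁ hη1 x hx7, h.agree η₂ hη2 η₁ hη1 y hy7, hcz z hz hz1, hn, hc] at htr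
    simp only [apply_one, hde, deg_one, hone, map_intCast, Int.cast_one, Nat.cast_one] at htr
    rw [map_add] at hη
    push_cast at htr ⊢
    simp only [map_one] at htr
    have hes : (ε : ℂ) * ε = 1 := by rcases h.sign with e' | e' <;> simp [e']
    linear_combination (-864 : ℂ) * htr +
      (864 * (ε : ℂ) * (η₁ : T → ℂ) x * (η₁ : T → ℂ) y / (deg η₁ : ℂ)) * hη +
      (-864 * (conj ((η₁ : T → ℂ) z) + conj ((η₂ : T → ℂ) z)) * (η₁ : T → ℂ) x *
        (η₁ : T → ℂ) y / (deg η₁ : ℂ)) * hes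

end Cfsg.Agent.G22Block86
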