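import Mathlib

/-!
Interfaces for the characterisation of `G2(2)` by element orders and order.
-/

set_option autoImplicit false

namespace Cfsg.Agent.G22Defs40

/-- No element has order `9`, `14` or `21`. -/
def NoBad (G : Type*) [Group G] : Prop :=
  ∀ g : G, orderOf g ≠ 9 ∧ orderOf g ≠ 14 ∧ orderOf g ≠ 21

/-- An almost simple group of order `12096` over a simple subgroup of index two. -/
structure Hyp (G : Type*) [Group G] (T : Subgroup G) : Prop where
  card : Nat.card G = 12096
  normal : T.Normal
  simple : IsSimpleGroup T
  cardT : Nat.card T = 6048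
  cent : Subgroup.centralizer (T : Set G) = ⊥
  bad : NoBad T

/-- The local structure at the prime three: a Sylow subgroup of exponent three which is a trivial
intersection subgroup with a self-centralising centre and `28` conjugates. -/
structure Borel (G : Type*) [Group G] (P : Subgroup G) : Prop where
  card : Nat.card G = 12096
  cardP : Nat.card P = 27
  exp : ∀ x ∈ P, x ^ 3 = 1
  nonab : ∃ x ∈ P, ∃ y ∈ P, x * y ≠ y * x
  index : (Subgroup.normalizer (P : Set G)).index = 28
  ti : ∀ g : G, ∀ x ∈ P, x ≠ 1 → g * x * g⁻¹ ∈ P → g ∈ Subgroup.normalizer (P : Set G)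
  cent : Subgroup.centralizer (P : Set G) ≤ P
  core : (Subgroup.normalizer (P : Set G)).normalCore = ⊥

end Cfsg.Agent.G22Defs40
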