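import Cfsg.Agent.Lib.G22Cert47Model
import Cfsg.Agent.Lib.G22Defs40

/-!
A group with the local structure at the prime three of `G₂(2)` is the model of degree `28`.
-/

set_option autoImplicit false
set_option maxRecDepth 100000
set_option linter.style.haveILetI false

namespace Cfsg.Agent.G22Cert47

open Subgroup
open scoped Pointwise

/-! ### Automorphisms of the unitriangular group -/

/-- The images of the generators under the `k`-th automorphism. -/
def wp (k : Fin 16) : Hs × Hs := wPairs.getD k (1, 1)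

/-- The first generator. -/
def e1 : Hs := ⟨1, 0, 0⟩
/-- The second generator. -/
def e2 : Hs := ⟨0, 1, 0⟩

theorem hs_cube : ∀ r : Hs, r ^ 3 = 1 := by decide +kernel
theorem ev_self : ∀ r : Hs, ev e1 e2 r = r := by decide +kernel
theorem e_noncomm : e1 * e2 ≠ e2 * e1 := by decide +kernel

theorem wp_ev : ∀ k : Fin 16, ev (wp k).1 (wp k).2 e1 = (wp k).1 ∧
    ev (wp k).1 (wp k).2 e2 = (wp k).2 ∧ (wp k).1 * (wp k).2 ≠ (wp k).2 * (wp k).1 := by
  decide +kernel

theorem wp_mul : ∀ j k : Fin 16, ∃ l : Fin 16,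
    ev (wp j).1 (wp j).2 (wp k).1 = (wp l).1 ∧ ev (wp j).1 (wp j).2 (wp k).2 = (wp l).2 := by
  decide +kernel

theorem wp_one : wp 0 = (e1, e2) := by decide +kernel
theorem wp_inj : ∀ j k : Fin 16, wp j = wp k → j = k := by decide +kernel

theorem pair_count : (Finset.univ.filter fun x : Hs × Hs => x.1 * x.2 ≠ x.2 * x.1).card = 432 := by
  decide +kernel

theorem aut_apply (σ : MulAut Hs) (r : Hs) : σ r = ev (σ e1) (σ e2) r := by
  conv_lhs => rw [← ev_self r]
  simp [ev, map_mul, map_pow, map_inv]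

theorem aut_ext {σ τ : MulAut Hs} (h1 : σ e1 = τ e1) (h2 : σ e2 = τ e2) : σ = τ :=
  MulEquiv.ext fun r => by rw [aut_apply σ r, aut_apply τ r, h1, h2]

theorem card_aut : Nat.card (MulAut Hs) = 432 := by
  let f : MulAut Hs → {x : Hs × Hs // x.1 * x.2 ≠ x.2 * x.1} := fun σ =>
    ⟨(σ e1, σ e2), fun h => e_noncomm (σ.injective (by rw [map_mul, map_mul]; exact h))⟩
  have hf : Function.Bijective f := by
    refine ⟨fun σ τ h => ?_, fun x => ?_⟩
    · exact aut_ext (congrArg (fun z => z.1.1) h) (congrArg (fun z => z.1.2) h)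
    · obtain ⟨e, he⟩ := exists_mulEquiv Hs.card_Hs hs_cube x.2
      refine ⟨e, Subtype.ext (Prod.ext ?_ ?_)⟩
      · show e e1 = x.1.1
        rw [he]; simp [ev, e1, ZMod.val_one]
      · show e e2 = x.1.2
        rw [he]; simp [ev, e2, ZMod.val_one]
  rw [Nat.card_congr (Equiv.ofBijective f hf), Nat.card_eq_fintype_card, Fintype.card_subtype]
  exact pair_count

instance : Finite (MulAut Hs) := Nat.finite_of_card_ne_zero (by rw [card_aut]; norm_num)

/-- The sixteen automorphisms, as a submonoid. -/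
def W0m : Submonoid (MulAut Hs) where
  carrier := {σ | ∃ k, (σ e1, σ e2) = wp k}
  one_mem' := ⟨0, wp_one.symm⟩
  mul_mem' := by
    rintro σ τ ⟨j, hj⟩ ⟨k, hk⟩
    obtain ⟨l, h1, h2⟩ := wp_mul j k
    refine ⟨l, Prod.ext ?_ ?_⟩
    · show σ (τ e1) = _
      rw [show τ e1 = (wp k).1 from congrArg Prod.fst hk, aut_apply,
        show σ e1 = (wp j).1 from congrArg Prod.fst hj,
        show σ e2 = (wp j).2 from congrArg Prod.snd hj, h1]
    · show σ (τ e2) = _
      rw [show τ e2 = (wp k).2 from congrArg Prod.snd hk, aut_apply,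
        show σ e1 = (wp j).1 from congrArg Prod.fst hj,
        show σ e2 = (wp j).2 from congrArg Prod.snd hj, h2]

/-- The sixteen automorphisms, as a subgroup. -/
def W0 : Subgroup (MulAut Hs) where
  toSubmonoid := W0m
  inv_mem' := fun {σ} hσ => by
    have h : σ⁻¹ = σ ^ (orderOf σ - 1) := inv_eq_of_mul_eq_one_right (by
      rw [← pow_succ', Nat.sub_add_cancel (orderOf_pos σ), pow_orderOf_eq_one])
    rw [h]
    exact W0m.pow_mem hσ _

theorem card_W0 : Nat.card W0 = 16 := by
  have hex : ∀ k, ∃ σ : W0, ((σ : MulAut Hs) e1, (σ : MulAut Hs) e2) = wp k := fun k => by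
    obtain ⟨e, he⟩ := exists_mulEquiv Hs.card_Hs hs_cube (wp_ev k).2.2
    have h : (e e1, e e2) = wp k :=
      Prod.ext ((he e1).trans (wp_ev k).1) ((he e2).trans (wp_ev k).2.1)
    exact ⟨⟨e, k, h⟩, h⟩
  choose f hf using hex
  have hb : Function.Bijective f := by
    refine ⟨fun j k h => wp_inj j k (by rw [← hf j, ← hf k, h]), fun σ => ?_⟩
    obtain ⟨k, hk⟩ := σ.2
    refine ⟨k, Subtype.ext (aut_ext ?_ ?_)⟩
    · exact (congrArg Prod.fst ((hf k).trans hk.symm) :)
    · exact (congrArg Prod.snd ((hf k).trans hk.symm) :)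
  rw [← Nat.card_congr (Equiv.ofBijective f hb), Nat.card_fin]

/-- A subgroup of order sixteen of the automorphism group is conjugate to the chosen one. -/
theorem exists_conj {R : Subgroup (MulAut Hs)} (hR : Nat.card R = 16) :
    ∃ χ : MulAut Hs, ∀ σ, σ ∈ R ↔ χ * σ * χ⁻¹ ∈ W0 := by
  haveI : Fact (Nat.Prime 2) := ⟨Nat.prime_two⟩
  have hp : ∀ K : Subgroup (MulAut Hs), Nat.card K = 16 →
      ∃ P : Sylow 2 (MulAut Hs), (P : Subgroup (MulAut Hs)) = K := by
    intro K hK
    refine ⟨Sylow.ofCard K ?_, rfl⟩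
    rw [hK, card_aut, show (432 : ℕ) = 2 ^ 4 * 27 by norm_num,
      Nat.factorization_mul (by norm_num) (by norm_num), Finsupp.add_apply,
      Nat.Prime.factorization_pow Nat.prime_two, Finsupp.single_eq_same,
      Nat.factorization_eq_zero_of_not_dvd (by norm_num : ¬ 2 ∣ 27)]
    norm_num
  obtain ⟨P, hP⟩ := hp R hR
  obtain ⟨Q, hQ⟩ := hp W0 card_W0
  obtain ⟨χ, hχ⟩ := MulAction.exists_smul_eq (MulAut Hs) P Q
  have hcoe : MulAut.conj χ • (P : Subgroup (MulAut Hs)) = Q := by
    rw [← hχ]; rfl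
  refine ⟨χ, fun σ => ?_⟩
  rw [← hP, ← hQ, ← hcoe, show χ * σ * χ⁻¹ = MulAut.conj χ • σ from rfl,
    Subgroup.smul_mem_pointwise_smul_iff]

/-! ### The points -/

/-- The points as the group with one more point. -/
def pe : Option Hs ≃ Fin 28 := (Equiv.optionCongr Hs.idx).trans (finSuccEquiv 27).symm

theorem pe_T : ∀ (s : Fin 27) (o : Option Hs),
    tv (tabT s) (pe o) = (pe (o.map fun r => Hs.idx.symm s * r) : ℕ) := by
  decide +kernel

theorem pe_W : ∀ (k : Fin 16) (o : Option Hs),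
    tv (tabW k) (pe o) = (pe (o.map fun r => ev (wp k).1 (wp k).2 r) : ℕ) := by
  decide +kernel

variable {G : Type*} [Group G] [Finite G] {P : Subgroup G}

theorem pow_three_mem (h : G22Defs40.Borel G P) {n : G} (hn : n ∈ normalizer (P : Set G))
    (h3 : n ^ 3 = 1) : n ∈ P := by
  set N := normalizer (P : Set G) with hN
  have hle : P ≤ N := le_normalizer
  have hcardN : Nat.card N = 432 := by
    have := N.index_mul_card
    rw [h.index, h.card] at this
    omega
  haveI : (P.subgroupOf N).Normal := Subgroup.normal_subgroupOf_iff_le_normalizer hle |>.2 le_rfl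
  have hq : Nat.card (N ⧸ P.subgroupOf N) = 16 := by
    have := Subgroup.card_eq_card_quotient_mul_card_subgroup (P.subgroupOf N)
    rw [hcardN, Nat.card_congr (Subgroup.subgroupOfEquivOfLe hle).toEquiv, h.cardP] at this
    omega
  let q : N ⧸ P.subgroupOf N := QuotientGroup.mk ⟨n, hn⟩
  have hq1 : q = 1 := by
    refine orderOf_eq_one_iff.mp (Nat.eq_one_of_dvd_coprimes (a := 16) (b := 3) (by norm_num)
      (hq ▸ orderOf_dvd_natCard q) (orderOf_dvd_of_pow_eq_one ?_))
    show (QuotientGroup.mk' (P.subgroupOf N)) ⟨n, hn⟩ ^ 3 = 1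
    rw [← map_pow, show (⟨n, hn⟩ : N) ^ 3 = 1 from Subtype.ext h3, map_one]
  exact Subgroup.mem_subgroupOf.1 ((QuotientGroup.eq_one_iff (⟨n, hn⟩ : N)).1 hq1)

/-- **The local structure determines the group.** -/
theorem iso_of_borel (h : G22Defs40.Borel G P) : Nonempty (G ≃* H0) := by
  classical
  set N := normalizer (P : Set G) with hN
  have hle : P ≤ N := le_normalizer
  have hcard28 : Nat.card (G ⧸ N) = 28 := h.index
  obtain ⟨g1, hg1⟩ : ∃ g : G, g ∉ N := by
    by_contra hall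
    simp only [not_exists, not_not] at hall
    have := h.index
    rw [show normalizer (P : Set G) = ⊤ from eq_top_iff.2 fun g _ => hall g, index_top] at this
    omega
  set o : G ⧸ N := ((1 : G) : G ⧸ N) with ho
  set x1 : G ⧸ N := ((g1 : G) : G ⧸ N) with hx1
  have hfix0 : ∀ g : G, g • o = o ↔ g ∈ N := by
    intro g
    show ((g * 1 : G) : G ⧸ N) = ((1 : G) : G ⧸ N) ↔ _
    rw [mul_one, QuotientGroup.eq, mul_one, inv_mem_iff]
  have hne : ∀ p ∈ N, p • x1 ≠ o := by
    intro p hp e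
    apply hg1
    have e' : ((p * g1 : G) : G ⧸ N) = ((1 : G) : G ⧸ N) := e
    rw [QuotientGroup.eq, mul_one, inv_mem_iff] at e'
    exact (Subgroup.mul_mem_cancel_left N hp).1 e'
  have hfree : ∀ p ∈ P, p • x1 = x1 → p = 1 := by
    intro p hp e
    by_contra hp1
    have e' : ((p * g1 : G) : G ⧸ N) = ((g1 : G) : G ⧸ N) := e
    rw [QuotientGroup.eq] at e'
    have hk : g1⁻¹ * p * g1 ∈ N := by
      have := N.inv_mem e'
      simpa [mul_assoc] using this
    have hk3 : (g1⁻¹ * p * g1) ^ 3 = 1 := by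
      calc (g1⁻¹ * p * g1) ^ 3 = g1⁻¹ * p ^ 3 * g1 := by
            simp [pow_succ, mul_assoc]
        _ = 1 := by rw [h.exp p hp]; group
    have hkP := pow_three_mem h hk hk3
    have := h.ti g1⁻¹ p hp hp1 (by rwa [inv_inv])
    exact hg1 (inv_mem_iff.1 this)
  -- coordinates on `P`
  obtain ⟨x, hx, y, hy, hxy⟩ := h.nonab
  obtain ⟨ι₀, -⟩ := exists_mulEquiv (G := P) h.cardP (fun g => Subtype.ext (h.exp g g.2))
    (x := ⟨x, hx⟩) (y := ⟨y, hy⟩) (fun e => hxy (congrArg Subtype.val e))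
  -- the two point stabiliser
  set W : Subgroup G := N ⊓ MulAction.stabilizer G x1 with hW
  have hWN : ∀ w ∈ W, w ∈ N := fun w hw => (Subgroup.mem_inf.1 hw).1
  have hWx : ∀ w ∈ W, w • x1 = x1 := fun w hw => (Subgroup.mem_inf.1 hw).2
  have hconj : ∀ w ∈ W, ∀ p ∈ P, w * p * w⁻¹ ∈ P := fun w hw p hp =>
    (Subgroup.mem_normalizer_iff.1 (hWN w hw) p).1 hp
  let cj : W → P →* P := fun w => MonoidHom.mk'
    (fun p => ⟨w * p * (w : G)⁻¹, hconj w w.2 p p.2⟩)
    (fun a b => Subtype.ext (by simp only [Subgroup.coe_mul]; group))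
  have cj_mul : ∀ v w : W, ∀ p, cj (v * w) p = cj v (cj w p) := fun v w p =>
    Subtype.ext (by simp only [cj, MonoidHom.mk'_apply, Subgroup.coe_mul, mul_inv_rev, mul_assoc])
  have cj_one : ∀ p, cj 1 p = p := fun p => Subtype.ext (by simp [cj])
  let cje : W → MulAut P := fun w =>
    { toFun := cj w
      invFun := cj w⁻¹
      left_inv := fun p => by rw [← cj_mul, inv_mul_cancel, cj_one]
      right_inv := fun p => by rw [← cj_mul, mul_inv_cancel, cj_one]
      map_mul' := map_mul (cj w) }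
  let φ : W →* MulAut Hs := MonoidHom.mk' (fun w => (ι₀.trans (cje w)).trans ι₀.symm)
    (fun v w => MulEquiv.ext fun r => by
      show ι₀.symm (cj (v * w) (ι₀ r)) = ι₀.symm (cj v (ι₀ (ι₀.symm (cj w (ι₀ r)))))
      rw [MulEquiv.apply_symm_apply, cj_mul])
  have hφ : ∀ (w : W) (r : Hs), (ι₀ (φ w r) : G) = w * ι₀ r * (w : G)⁻¹ := fun w r => by
    show (ι₀ (ι₀.symm (cj w (ι₀ r))) : G) = _
    rw [MulEquiv.apply_symm_apply]
    rfl
  have hφinj : Function.Injective φ := by
    rw [← MonoidHom.ker_eq_bot_iff, eq_bot_iff]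
    intro w hw
    rw [MonoidHom.mem_ker] at hw
    have hwc : (w : G) ∈ centralizer (P : Set G) := by
      rw [Subgroup.mem_centralizer_iff]
      intro p hp
      obtain ⟨r, hr⟩ := ι₀.surjective ⟨p, hp⟩
      have := hφ w r
      rw [hw] at this
      simp only [MulAut.one_apply, hr] at this
      calc p * (w : G) = (w : G) * p * (w : G)⁻¹ * w := by rw [← this]
        _ = (w : G) * p := by group
    rw [Subgroup.mem_bot]
    exact Subtype.ext (hfree w (h.cent hwc) (hWx w w.2))
  -- the points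
  let η₀ : Option P → G ⧸ N := fun q => q.elim o fun p => (p : G) • x1
  have hη₀ : Function.Bijective η₀ := by
    haveI : Finite (G ⧸ N) := Subgroup.finite_quotient_of_finiteIndex
    refine (Nat.bijective_iff_injective_and_card η₀).2 ⟨?_, by
      rw [Finite.card_option, h.cardP, hcard28]⟩
    rintro (_ | p) (_ | q) e
    · rfl
    · exact absurd e.symm (hne q (hle q.2))
    · exact absurd e (hne p (hle p.2))
    · have e1 : ((q : G)⁻¹ * p) • x1 = x1 := by
        rw [mul_smul]
        show (q : G)⁻¹ • η₀ (some p) = x1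
        rw [e]
        exact inv_smul_smul _ _
      have := hfree _ (P.mul_mem (P.inv_mem q.2) p.2) e1
      rw [inv_mul_eq_one] at this
      exact congrArg some (Subtype.ext this.symm)
  -- `N` is the product of `P` and `W`
  have hdec : ∀ n ∈ N, ∃ (p : P) (w : W), n = p * w := by
    intro n hn
    obtain ⟨q, hq⟩ := hη₀.2 (n • x1)
    cases q with
    | none => exact absurd hq.symm (hne n hn)
    | some p =>
      have hw : (p : G)⁻¹ * n ∈ W := Subgroup.mem_inf.2 ⟨N.mul_mem (N.inv_mem (hle p.2)) hn, by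
        show ((p : G)⁻¹ * n) • x1 = x1
        rw [mul_smul, ← hq]
        exact inv_smul_smul _ _⟩
      exact ⟨p, ⟨_, hw⟩, by simp⟩
  have hcardW : Nat.card W = 16 := by
    let m : P × W → N := fun z => ⟨z.1 * z.2, N.mul_mem (hle z.1.2) (hWN _ z.2.2)⟩
    have hm : Function.Bijective m := by
      refine ⟨?_, fun n => ?_⟩
      · rintro ⟨p, w⟩ ⟨p', w'⟩ e
        have e' : (p : G) * w = p' * w' := congrArg Subtype.val e
        have e1 : ((p' : G)⁻¹ * p) • x1 = x1 := by
          have : (p' : G)⁻¹ * p = w' * (w : G)⁻¹ := by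
            rw [eq_mul_inv_iff_mul_eq, mul_assoc, e', inv_mul_cancel_left]
          rw [this, mul_smul, inv_smul_eq_iff.2 (hWx w w.2).symm, hWx w' w'.2]
        have h1 := hfree _ (P.mul_mem (P.inv_mem p'.2) p.2) e1
        rw [inv_mul_eq_one] at h1
        rw [← h1] at e'
        exact Prod.ext (Subtype.ext h1.symm) (Subtype.ext (mul_left_cancel e'))
      · obtain ⟨p, w, hpw⟩ := hdec n n.2
        exact ⟨(p, w), Subtype.ext hpw.symm⟩
    have hcN : Nat.card N = 432 := by
      have := N.index_mul_card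
      rw [h.index, h.card] at this
      omega
    have := Nat.card_congr (Equiv.ofBijective m hm)
    rw [Nat.card_prod, h.cardP, hcN] at this
    omega
  obtain ⟨χ, hχ⟩ := exists_conj (R := φ.range) (by
    rw [← Nat.card_congr (MonoidHom.ofInjective hφinj).toEquiv, hcardW])
  let ι : Hs ≃* P := MulEquiv.trans χ⁻¹ ι₀
  have hι : ∀ (w : W) (r : Hs),
      (ι ((χ * φ w * χ⁻¹) r) : G) = w * ι r * (w : G)⁻¹ := fun w r => by
    show (ι₀ (χ⁻¹ (χ (φ w (χ⁻¹ r)))) : G) = w * ι₀ (χ⁻¹ r) * (w : G)⁻¹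
    rw [MulAut.inv_apply_self, hφ]
  -- numbering
  let ηe : Option Hs ≃ G ⧸ N :=
    (Equiv.optionCongr ι.toEquiv).trans (Equiv.ofBijective η₀ hη₀)
  let E : G ⧸ N ≃ Fin 28 := ηe.symm.trans pe
  let F : G →* Equiv.Perm (Fin 28) := MonoidHom.mk' (fun g => E.permCongr (MulAction.toPerm g))
    (fun a b => Equiv.ext fun i => by simp [Equiv.permCongr_apply, mul_smul])
  have hF : ∀ (g : G) (q q' : Option Hs), g • ηe q = ηe q' → F g (pe q) = pe q' := by
    intro g q q' e
    show E (g • E.symm (pe q)) = pe q'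
    simp [E, e]
  have hF0 : ∀ g : G, F g 0 = 0 ↔ g ∈ N := by
    intro g
    rw [← hfix0]
    show E (g • E.symm 0) = 0 ↔ _
    have e0 : E.symm 0 = o := by
      show ηe (pe.symm 0) = o
      rw [show pe.symm 0 = none from rfl]
      rfl
    rw [e0, ← Equiv.eq_symm_apply, e0]
  have hFinj : Function.Injective F := by
    rw [injective_iff_map_eq_one]
    intro g hg
    have : g ∈ N.normalCore := by
      rw [Subgroup.normalCore_eq_ker, MonoidHom.mem_ker]
      refine Equiv.ext fun z => E.injective ?_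
      have := Equiv.congr_fun hg (E z)
      simpa [F, Equiv.permCongr_apply] using this
    rwa [h.core, Subgroup.mem_bot] at this
  have hT : ∀ s, F (ι (Hs.idx.symm s) : G) = permT s := by
    intro s
    refine Equiv.ext fun i => ?_
    obtain ⟨q, rfl⟩ := pe.surjective i
    rw [hF _ q (q.map fun r => Hs.idx.symm s * r)]
    · exact Fin.ext (pe_T s q).symm
    · cases q with
      | none => exact (hfix0 _).2 (hle (ι _).2)
      | some r =>
        show (ι (Hs.idx.symm s) : G) • (ι r : G) • x1 = (ι (Hs.idx.symm s * r) : G) • x1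
        rw [map_mul, Subgroup.coe_mul, mul_smul]
  have hWF : ∀ (w : W) (k : Fin 16),
      ((χ * φ w * χ⁻¹) e1, (χ * φ w * χ⁻¹) e2) = wp k → F (w : G) = permW k := by
    intro w k hk
    refine Equiv.ext fun i => ?_
    obtain ⟨q, rfl⟩ := pe.surjective i
    rw [hF _ q (q.map fun r => ev (wp k).1 (wp k).2 r)]
    · exact Fin.ext (pe_W k q).symm
    · cases q with
      | none => exact (hfix0 _).2 (hWN w w.2)
      | some r =>
        show (w : G) • (ι r : G) • x1 = (ι (ev (wp k).1 (wp k).2 r) : G) • x1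
        rw [← hk, ← aut_apply, hι, mul_smul, mul_smul,
          inv_smul_eq_iff.2 (hWx w w.2).symm]
  have hmodel : Model F.range := by
    refine ⟨fun s => ⟨_, hT s⟩, fun k => ?_, ?_, ⟨F g1, ⟨g1, rfl⟩, fun e => hg1 ((hF0 g1).1 e)⟩⟩
    · obtain ⟨e, he⟩ := exists_mulEquiv Hs.card_Hs hs_cube (wp_ev k).2.2
      have hk : (e e1, e e2) = wp k :=
        Prod.ext ((he e1).trans (wp_ev k).1) ((he e2).trans (wp_ev k).2.1)
      obtain ⟨w, hw⟩ := (hχ (χ⁻¹ * e * χ)).2 ⟨k, by
        rw [show χ * (χ⁻¹ * e * χ) * χ⁻¹ = e by group]; exact hk⟩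
      exact ⟨_, hWF w k (by rw [hw, show χ * (χ⁻¹ * e * χ) * χ⁻¹ = e by group]; exact hk)⟩
    · rintro _ ⟨g, rfl⟩ hg
      obtain ⟨p, w, rfl⟩ := hdec g ((hF0 g).1 hg)
      obtain ⟨k, hk⟩ := (hχ (φ w)).1 ⟨w, rfl⟩
      obtain ⟨r, rfl⟩ := ι.surjective p
      exact ⟨Hs.idx r, k, by rw [map_mul, ← hT, Equiv.symm_apply_apply, hWF w k hk]⟩
  exact ⟨(MonoidHom.ofInjective hFinj).trans (MulEquiv.subgroupCongr hmodel.eq_H0)⟩

end Cfsg.Agent.G22Cert47
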