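import Mathlib

/-!
The nonabelian group of order `27` and exponent three, with coordinates.
-/

set_option autoImplicit false
set_option linter.style.haveILetI false

namespace Cfsg.Agent.G22Cert47

/-- Upper unitriangular matrices over the field with three elements. -/
@[ext] structure Hs where
  a : ZMod 3
  b : ZMod 3
  c : ZMod 3
deriving DecidableEq

namespace Hs

instance : Mul Hs := ⟨fun p q => ⟨p.a + q.a, p.b + q.b, p.c + q.c + p.a * q.b⟩⟩
instance : One Hs := ⟨⟨0, 0, 0⟩⟩
instance : Inv Hs := ⟨fun p => ⟨-p.a, -p.b, -p.c + p.a * p.b⟩⟩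

@[simp] theorem mul_a (p q : Hs) : (p * q).a = p.a + q.a := rfl
@[simp] theorem mul_b (p q : Hs) : (p * q).b = p.b + q.b := rfl
@[simp] theorem mul_c (p q : Hs) : (p * q).c = p.c + q.c + p.a * q.b := rfl
@[simp] theorem one_a : (1 : Hs).a = 0 := rfl
@[simp] theorem one_b : (1 : Hs).b = 0 := rfl
@[simp] theorem one_c : (1 : Hs).c = 0 := rfl
@[simp] theorem inv_a (p : Hs) : p⁻¹.a = -p.a := rfl
@[simp] theorem inv_b (p : Hs) : p⁻¹.b = -p.b := rfl
@[simp] theorem inv_c (p : Hs) : p⁻¹.c = -p.c + p.a * p.b := rfl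

instance : Group Hs where
  mul_assoc p q r := by
    ext <;> simp only [mul_a, mul_b, mul_c] <;> ring
  one_mul p := by ext <;> simp
  mul_one p := by ext <;> simp
  inv_mul_cancel p := by ext <;> simp

/-- The numbering of the elements. -/
def idx : Hs ≃ Fin 27 where
  toFun r := ⟨r.a.val + 3 * r.b.val + 9 * r.c.val, by
    have := ZMod.val_lt r.a; have := ZMod.val_lt r.b; have := ZMod.val_lt r.c; omega⟩
  invFun i := ⟨((i : ℕ) : ZMod 3), (((i : ℕ) / 3 : ℕ) : ZMod 3), (((i : ℕ) / 9 : ℕ) : ZMod 3)⟩
  left_inv := by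
    rintro ⟨a, b, c⟩
    revert a b c
    decide +kernel
  right_inv := by decide +kernel

instance : Fintype Hs := Fintype.ofEquiv _ idx.symm

theorem card_Hs : Nat.card Hs = 27 := by
  rw [Nat.card_congr idx, Nat.card_fin]

end Hs

variable {G : Type*} [Group G]

/-- The candidate homomorphism with given images of the two generators. -/
def ev (x y : G) (r : Hs) : G :=
  y ^ r.b.val * x ^ r.a.val * (x⁻¹ * y⁻¹ * x * y) ^ r.c.val

theorem mul_pow_comm {x y z : G} (hxy : x * y = y * x * z) (hx : Commute z x) (hy : Commute z y)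
    (m n : ℕ) : x ^ m * y ^ n = y ^ n * x ^ m * z ^ (m * n) := by
  have h1 : ∀ n : ℕ, x * y ^ n = y ^ n * x * z ^ n := by
    intro n
    induction n with
    | zero => simp
    | succ n ih =>
      rw [pow_succ, ← mul_assoc, ih, mul_assoc, (hy.pow_left n).eq, ← mul_assoc, mul_assoc (y ^ n),
        hxy, pow_succ' z]
      simp only [mul_assoc]
  induction m with
  | zero => simp
  | succ m ih =>
    rw [pow_succ' x, mul_assoc, ih, ← mul_assoc x, ← mul_assoc x, h1, mul_assoc (y ^ n * x),
      (hx.pow_pow n m).eq]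
    simp only [mul_assoc]
    rw [← pow_add]
    congr 3
    congr 1
    ring

theorem pow_val {x : G} (h : x ^ 3 = 1) (n : ℕ) : x ^ (n : ZMod 3).val = x ^ n := by
  rw [ZMod.val_natCast, ← pow_eq_pow_mod n h]

/-- Generators of exponent three with central commutator give a homomorphism. -/
theorem ev_mul {x y : G} (hx3 : x ^ 3 = 1) (hy3 : y ^ 3 = 1)
    (hz3 : (x⁻¹ * y⁻¹ * x * y) ^ 3 = 1) (hzx : Commute (x⁻¹ * y⁻¹ * x * y) x)
    (hzy : Commute (x⁻¹ * y⁻¹ * x * y) y) (p q : Hs) : ev x y (p * q) = ev x y p * ev x y q := by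
  have hxy : x * y = y * x * (x⁻¹ * y⁻¹ * x * y) := by group
  have hm := mul_pow_comm hxy hzx hzy
  obtain ⟨a, b, c⟩ := p
  obtain ⟨a', b', c'⟩ := q
  simp only [ev, Hs.mul_a, Hs.mul_b, Hs.mul_c]
  generalize x⁻¹ * y⁻¹ * x * y = z at hz3 hzx hzy hm ⊢
  have ea : x ^ (a + a').val = x ^ (a.val + a'.val) := by
    rw [← pow_val hx3 (a.val + a'.val)]
    simp
  have eb : y ^ (b + b').val = y ^ (b.val + b'.val) := by
    rw [← pow_val hy3 (b.val + b'.val)]
    simp
  have ec : z ^ (c + c' + a * b').val = z ^ (a.val * b'.val + (c.val + c'.val)) := by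
    rw [← pow_val hz3 (a.val * b'.val + (c.val + c'.val))]
    congr 2
    push_cast
    simp
    ring
  rw [ea, eb, ec]
  calc y ^ (b.val + b'.val) * x ^ (a.val + a'.val) * z ^ (a.val * b'.val + (c.val + c'.val))
      = y ^ b.val * y ^ b'.val * x ^ a.val * (x ^ a'.val * z ^ (a.val * b'.val)) *
          (z ^ c.val * z ^ c'.val) := by simp only [pow_add, mul_assoc]
    _ = y ^ b.val * (y ^ b'.val * x ^ a.val * z ^ (a.val * b'.val)) * x ^ a'.val *
          (z ^ c.val * z ^ c'.val) := by
      rw [← (hzx.pow_pow (a.val * b'.val) a'.val).eq]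
      simp only [mul_assoc]
    _ = y ^ b.val * (x ^ a.val * y ^ b'.val) * x ^ a'.val * (z ^ c.val * z ^ c'.val) := by
      rw [← hm]
    _ = y ^ b.val * x ^ a.val * (y ^ b'.val * x ^ a'.val * z ^ c.val) * z ^ c'.val := by
      simp only [mul_assoc]
    _ = y ^ b.val * x ^ a.val * (z ^ c.val * (y ^ b'.val * x ^ a'.val)) * z ^ c'.val := by
      rw [((hzy.pow_pow c.val b'.val).mul_right (hzx.pow_pow c.val a'.val)).eq]
    _ = y ^ b.val * x ^ a.val * z ^ c.val * (y ^ b'.val * x ^ a'.val * z ^ c'.val) := by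
      simp only [mul_assoc]

/-- A noncommuting pair in a group of order 27 and exponent three. -/
theorem exists_iso (hcard : Nat.card G = 27) (h3 : ∀ g : G, g ^ 3 = 1) {x y : G}
    (hne : x * y ≠ y * x) :
    Function.Bijective (ev x y) ∧ ∀ p q, ev x y (p * q) = ev x y p * ev x y q := by
  haveI : Finite G := Nat.finite_of_card_ne_zero (by omega)
  haveI : Fact (Nat.Prime 3) := ⟨Nat.prime_three⟩
  have hsmall : ∀ (K : Subgroup G), Nat.card K ≠ 27 → ∀ u ∈ K, ∀ v ∈ K, u * v = v * u := by
    intro K hK u hu v hv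
    have hd : Nat.card K ∣ 3 ^ 3 := by
      have := Subgroup.card_subgroup_dvd_card K
      rw [hcard] at this
      exact this
    obtain ⟨i, hi, hci⟩ := (Nat.dvd_prime_pow Nat.prime_three).mp hd
    have : ∀ a b : K, a * b = b * a := by
      rcases Nat.eq_zero_or_pos i with rfl | hpos
      · haveI : Subsingleton K := (Nat.card_eq_one_iff_unique.mp hci).1
        exact fun a b => Subsingleton.elim _ _
      · by_cases h1 : i = 1
        · subst h1
          rw [pow_one] at hci
          haveI : IsCyclic K := isCyclic_of_prime_card (p := 3) hci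
          letI := IsCyclic.commGroup (α := K)
          exact fun a b => mul_comm a b
        · have h2 : i = 2 := by
            by_contra
            exact hK (by rw [hci, show i = 3 by omega]; norm_num)
          subst h2
          exact fun a b => IsPGroup.commutative_of_card_eq_prime_sq hci a b
    exact congrArg Subtype.val (this ⟨u, hu⟩ ⟨v, hv⟩)
  have hnc : Nat.card (Subgroup.center G) = 3 := by
    have hd : Nat.card (Subgroup.center G) ∣ 3 ^ 3 := by
      have := Subgroup.card_subgroup_dvd_card (Subgroup.center G)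
      rw [hcard] at this
      exact this
    obtain ⟨i, hi, hci⟩ := (Nat.dvd_prime_pow Nat.prime_three).mp hd
    have hi0 : i ≠ 0 := by
      rintro rfl
      haveI : Nontrivial G := Finite.one_lt_card_iff_nontrivial.mp (by omega)
      have hP : IsPGroup 3 G := IsPGroup.of_card (n := 3) (by rw [hcard]; norm_num)
      haveI := hP.center_nontrivial
      exact absurd (Finite.one_lt_card_iff_nontrivial.mpr ‹_›) (by rw [hci]; norm_num)
    have hi3 : i ≠ 3 := by
      rintro rfl
      have : Subgroup.center G = ⊤ := Subgroup.eq_top_of_card_eq _ (by rw [hci, hcard]; norm_num)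
      exact hne (Subgroup.mem_center_iff.mp (this ▸ Subgroup.mem_top y) x)
    have hi2 : i ≠ 2 := by
      rintro rfl
      have hq : Nat.card (G ⧸ Subgroup.center G) = 3 := by
        have := Subgroup.card_eq_card_quotient_mul_card_subgroup (Subgroup.center G)
        rw [hcard, hci] at this
        omega
      haveI : IsCyclic (G ⧸ Subgroup.center G) := isCyclic_of_prime_card (p := 3) hq
      exact hne (commutative_of_cyclic_center_quotient (QuotientGroup.mk' (Subgroup.center G))
        (by rw [QuotientGroup.ker_mk']) x y)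
    rw [hci, show i = 1 by omega, pow_one]
  have hzc : x⁻¹ * y⁻¹ * x * y ∈ Subgroup.center G := by
    have hq : Nat.card (G ⧸ Subgroup.center G) = 3 ^ 2 := by
      have := Subgroup.card_eq_card_quotient_mul_card_subgroup (Subgroup.center G)
      rw [hcard, hnc] at this
      omega
    rw [← QuotientGroup.eq_one_iff]
    have := IsPGroup.commutative_of_card_eq_prime_sq hq
      (x : G ⧸ Subgroup.center G) (y : G ⧸ Subgroup.center G)
    simp only [QuotientGroup.mk_mul, QuotientGroup.mk_inv]
    rw [mul_assoc, this]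
    group
  have hmul := ev_mul (h3 x) (h3 y) (h3 _)
    (Subgroup.mem_center_iff.mp hzc x).symm (Subgroup.mem_center_iff.mp hzc y).symm
  let f : Hs →* G := MonoidHom.mk' (ev x y) hmul
  have hx : x ∈ f.range := ⟨⟨1, 0, 0⟩, by simp [f, ev, ZMod.val_one]⟩
  have hy : y ∈ f.range := ⟨⟨0, 1, 0⟩, by simp [f, ev, ZMod.val_one]⟩
  have hR : Nat.card f.range = 27 := by
    by_contra h
    exact hne (hsmall _ h x hx y hy)
  have hs : Function.Surjective f := MonoidHom.range_eq_top.mp
    (Subgroup.eq_top_of_card_eq _ (by rw [hR, hcard]))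
  exact ⟨(Nat.bijective_iff_surjective_and_card _).mpr ⟨hs, by rw [Hs.card_Hs, hcard]⟩, hmul⟩

/-- An isomorphism with prescribed images of the generators. -/
theorem exists_mulEquiv (hcard : Nat.card G = 27) (h3 : ∀ g : G, g ^ 3 = 1) {x y : G}
    (hne : x * y ≠ y * x) : ∃ e : Hs ≃* G, ∀ r, e r = ev x y r :=
  ⟨{ Equiv.ofBijective _ (exists_iso hcard h3 hne).1 with
      map_mul' := (exists_iso hcard h3 hne).2 }, fun _ => rfl⟩

end Cfsg.Agent.G22Cert47
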