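import Cfsg.Agent.Lib.G22Cert47Data

/-!
A permutation group of degree `28` whose point stabiliser is the given group of order `432` is
unique, and it has no element of order `14`.
-/

set_option autoImplicit false
set_option maxRecDepth 100000

namespace Cfsg.Agent.G22Cert47

/-- Entry of a packed table. -/
def tv (L i : Nat) : Nat := (L >>> (5 * i)) % 32

/-- Apply a list of tables, the last one first. -/
def run : List Nat → Nat → Nat
  | [], i => i
  | L :: r, i => tv L (run r i)

/-- Equality of two composites on all points. -/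
def eqv (L M : List Nat) : Bool := (List.range 28).all fun i => run L i == run M i

/-- The table of a translation. -/
def tabT (s : Fin 27) : Nat := tT.getD s 0
/-- The table of an automorphism. -/
def tabW (k : Fin 16) : Nat := tW.getD k 0

theorem T_lt : ∀ (s : Fin 27) (i : Fin 28), tv (tabT s) i < 28 := by decide +kernel
theorem W_lt : ∀ (k : Fin 16) (i : Fin 28), tv (tabW k) i < 28 := by decide +kernel
theorem Z_lt : ∀ i : Fin 28, tv tZ i < 28 := by decide +kernel
theorem T_inj : ∀ (s : Fin 27) (i j : Fin 28), tv (tabT s) i = tv (tabT s) j → i = j := by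
  decide +kernel
theorem W_inj : ∀ (k : Fin 16) (i j : Fin 28), tv (tabW k) i = tv (tabW k) j → i = j := by
  decide +kernel
theorem Z_inj : ∀ i j : Fin 28, tv tZ i = tv tZ j → i = j := by decide +kernel

/-- A permutation from a table. -/
noncomputable def permOf (L : Nat) (h1 : ∀ i : Fin 28, tv L i < 28)
    (h2 : ∀ i j : Fin 28, tv L i = tv L j → i = j) : Equiv.Perm (Fin 28) :=
  Equiv.ofBijective (fun i => ⟨tv L i, h1 i⟩)
    (Finite.injective_iff_bijective.mp fun i j h => h2 i j (congrArg Fin.val h))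

/-- The translations. -/
noncomputable def permT (s : Fin 27) : Equiv.Perm (Fin 28) := permOf (tabT s) (T_lt s) (T_inj s)
/-- The automorphisms. -/
noncomputable def permW (k : Fin 16) : Equiv.Perm (Fin 28) := permOf (tabW k) (W_lt k) (W_inj k)
/-- The element swapping the base points. -/
noncomputable def permZ : Equiv.Perm (Fin 28) := permOf tZ Z_lt Z_inj

/-- **The model**: a group of order `12096` on `28` points. -/
def H0 : Subgroup (Equiv.Perm (Fin 28)) :=
  Subgroup.closure (Set.range permT ∪ Set.range permW ∪ {permZ})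

/-- A composite of tables describes a permutation. -/
def Rep (L : List Nat) (σ : Equiv.Perm (Fin 28)) : Prop := ∀ i : Fin 28, (σ i : ℕ) = run L i

theorem rep_one : Rep [] 1 := fun _ => rfl
theorem rep_T (s : Fin 27) : Rep [tabT s] (permT s) := fun _ => rfl
theorem rep_W (k : Fin 16) : Rep [tabW k] (permW k) := fun _ => rfl
theorem rep_Z : Rep [tZ] permZ := fun _ => rfl

theorem rep_mul {L M : List Nat} {σ τ : Equiv.Perm (Fin 28)} (hσ : Rep L σ) (hτ : Rep M τ) :
    Rep (L ++ M) (σ * τ) := fun i => by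
  rw [Equiv.Perm.mul_apply, hσ, hτ]
  induction L with
  | nil => rfl
  | cons a L ih =>
    show tv a (run L (run M i)) = tv a (run (L ++ M) i)
    congr 1
    have : ∀ (L M : List Nat) (j : Nat), run (L ++ M) j = run L (run M j) := by
      intro L M j
      induction L with
      | nil => rfl
      | cons a L ih => exact congrArg (tv a) ih
    rw [this]

theorem eq_of_eqv {L M : List Nat} {σ τ : Equiv.Perm (Fin 28)} (hσ : Rep L σ) (hτ : Rep M τ)
    (h : eqv L M = true) : σ = τ := by
  refine Equiv.ext fun i => Fin.ext ?_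
  rw [hσ i, hτ i]
  simp only [eqv, List.all_eq_true, List.mem_range, beq_iff_eq] at h
  exact h i i.2

theorem pt_T0 : ∀ s : Fin 27, tv (tabT s) 0 = 0 ∧ tv (tabT s) 1 = s + 1 := by decide +kernel
theorem pt_W : ∀ k : Fin 16, tv (tabW k) 0 = 0 ∧ tv (tabW k) 1 = 1 := by decide +kernel
theorem T_zero : eqv [tabT 0] [] = true := by decide +kernel
theorem W_zero : eqv [tabW 0] [] = true := by decide +kernel

theorem permT_zero : permT 0 = 1 := eq_of_eqv (rep_T 0) rep_one T_zero
theorem permW_zero : permW 0 = 1 := eq_of_eqv (rep_W 0) rep_one W_zero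

theorem permT_apply (s : Fin 27) :
    permT s 0 = 0 ∧ ((permT s 1 : Fin 28) : ℕ) = s + 1 :=
  ⟨Fin.ext (pt_T0 s).1, (pt_T0 s).2⟩

theorem permW_apply (k : Fin 16) : permW k 0 = 0 ∧ permW k 1 = 1 :=
  ⟨Fin.ext (pt_W k).1, Fin.ext (pt_W k).2⟩

theorem mem_T (s : Fin 27) : permT s ∈ H0 := Subgroup.subset_closure (Or.inl (Or.inl ⟨s, rfl⟩))
theorem mem_W (k : Fin 16) : permW k ∈ H0 := Subgroup.subset_closure (Or.inl (Or.inr ⟨k, rfl⟩))
theorem mem_Z : permZ ∈ H0 := Subgroup.subset_closure (Or.inr rfl)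

/-- The properties that single out the model. -/
structure Model (R : Subgroup (Equiv.Perm (Fin 28))) : Prop where
  memT : ∀ s, permT s ∈ R
  memW : ∀ k, permW k ∈ R
  stab : ∀ y ∈ R, y 0 = 0 → ∃ s k, y = permT s * permW k
  moves : ∃ y ∈ R, y 0 ≠ 0

/-! ### The search -/

/-- The image of a point under the candidate. -/
def candF (w1 w2 v2 v8 i : Nat) : Nat :=
  let e := wd.getD i (0, [])
  let b := if e.1 = 0 then 1 else if e.1 = 1 then 0 else if e.1 = 10 then v2 else
    if e.1 = 6 then v8 else 2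
  e.2.foldr (fun g v => tv (tW.getD (if g then w1 else w2) 0) v) b

/-- The candidate commutes with the automorphisms on some points. -/
def okOrb (w1 w2 v2 v8 : Nat) (O : List Nat) : Bool :=
  O.all fun p =>
    candF w1 w2 v2 v8 (tv (tW.getD 1 0) p) == tv (tW.getD w1 0) (candF w1 w2 v2 v8 p) &&
      candF w1 w2 v2 v8 (tv (tW.getD 5 0) p) == tv (tW.getD w2 0) (candF w1 w2 v2 v8 p)

/-- The candidate is injective on some points. -/
def injOrb (w1 w2 v2 v8 : Nat) : List Nat → Bool
  | [] => true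
  | p :: O => (O.all fun q => candF w1 w2 v2 v8 p != candF w1 w2 v2 v8 q) && injOrb w1 w2 v2 v8 O

/-- The candidate is compatible with the translation sending the second point to `r`. -/
def okRel (C r : Nat) : Bool :=
  (List.range 27).any fun t =>
    (tv C (tv (tT.getD (r - 1) 0) (tv C 1)) ==
      tv (tT.getD (tv C r - 1) 0) (tv C (tv (tT.getD t 0) 1))) &&
    (List.range 16).any fun k => (List.range 28).all fun i =>
      tv C (tv (tT.getD (r - 1) 0) (tv C i)) ==
        tv (tT.getD (tv C r - 1) 0) (tv C (tv (tT.getD t 0) (tv (tW.getD k 0) i)))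

/-- Every candidate commuting with the automorphisms is listed. -/
def listOk : Bool :=
  (List.range 16).all fun w1 => (List.range 16).all fun w2 =>
    !(okOrb w1 w2 0 0 orb16 && injOrb w1 w2 0 0 orb16) || (List.range 28).all fun v2 =>
      !(decide (2 ≤ v2) && okOrb w1 w2 v2 0 orb2) || (List.range 28).all fun v8 =>
        !(decide (2 ≤ v8) && okOrb w1 w2 v2 v8 orb8) ||
          candL.any fun C => (List.range 28).all fun i => candF w1 w2 v2 v8 i == tv C i

/-- The only compatible candidate is the chosen one. -/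
def searchOk : Bool :=
  candL.all fun C => !(okRel C 10 && okRel C 6 && okRel C 2) ||
    (List.range 28).all fun i => tv C i == tv tZ i

theorem list_ok : listOk = true := by decide +kernel

theorem search_ok : searchOk = true := by decide +kernel

theorem wd_ok : ∀ i : Fin 28,
    ((wd.getD i (0, [])).1 = 0 ∨ (wd.getD i (0, [])).1 = 1 ∨ (wd.getD i (0, [])).1 = 10 ∨
      (wd.getD i (0, [])).1 = 6 ∨ (wd.getD i (0, [])).1 = 2) ∧
    (wd.getD i (0, [])).2.foldr (fun g v => tv (tW.getD (if g then 1 else 5) 0) v)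
      (wd.getD i (0, [])).1 = i := by
  decide +kernel

theorem orb_cl : ∀ p ∈ orb2 ++ orb8 ++ orb16, p < 28 := by decide +kernel

theorem reps_in : (∀ p ∈ orb2, (wd.getD p (0, [])).1 = 10 ∧
    (wd.getD (tv (tW.getD 1 0) p) (0, [])).1 = 10 ∧ (wd.getD (tv (tW.getD 5 0) p) (0, [])).1 = 10) ∧
    (∀ p ∈ orb16, (wd.getD p (0, [])).1 = 2 ∧
    (wd.getD (tv (tW.getD 1 0) p) (0, [])).1 = 2 ∧ (wd.getD (tv (tW.getD 5 0) p) (0, [])).1 = 2) := by
  decide +kernel

theorem regular_ok : (∀ k : Fin 16, tv (tabW k) 2 = 2 → k = 0) ∧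
    ∀ p : Fin 28, 2 ≤ (p : ℕ) → (∃ k : Fin 16, tv (tabW k) 2 = p) ∨
      ∃ k : Fin 16, k ≠ 0 ∧ tv (tabW k) p = p := by
  decide +kernel

theorem W_ne : ∀ k : Fin 16, eqv [tabW k] [] = true → k = 0 := by decide +kernel

theorem candF_local (w1 w2 v2 v8 u2 u8 i : Nat) (h : (wd.getD i (0, [])).1 = 2) :
    candF w1 w2 v2 v8 i = candF w1 w2 u2 u8 i := by
  simp only [candF, h]
  norm_num

theorem candF_local2 (w1 w2 v2 v8 u8 i : Nat) (h : (wd.getD i (0, [])).1 = 10) :
    candF w1 w2 v2 v8 i = candF w1 w2 v2 u8 i := by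
  simp only [candF, h]
  norm_num

theorem okOrb_congr {w1 w2 v2 v8 u2 u8 : Nat} {O : List Nat}
    (h : ∀ p ∈ O, candF w1 w2 v2 v8 p = candF w1 w2 u2 u8 p ∧
      candF w1 w2 v2 v8 (tv (tW.getD 1 0) p) = candF w1 w2 u2 u8 (tv (tW.getD 1 0) p) ∧
      candF w1 w2 v2 v8 (tv (tW.getD 5 0) p) = candF w1 w2 u2 u8 (tv (tW.getD 5 0) p))
    (hok : okOrb w1 w2 v2 v8 O = true) : okOrb w1 w2 u2 u8 O = true := by
  simp only [okOrb, List.all_eq_true] at hok ⊢
  intro p hp
  obtain ⟨e0, e1, e5⟩ := h p hp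
  have := hok p hp
  rwa [e0, e1, e5] at this

/-- **The model is unique.** -/
theorem Model.eq_H0 {R : Subgroup (Equiv.Perm (Fin 28))} (hR : Model R) : R = H0 := by
  have stab01 : ∀ y ∈ R, y 0 = 0 → y 1 = 1 → ∃ k, y = permW k := by
    intro y hy h0 h1
    obtain ⟨s, k, rfl⟩ := hR.stab y hy h0
    refine ⟨k, ?_⟩
    rw [Equiv.Perm.mul_apply, (permW_apply k).2] at h1
    have hs : s = 0 := Fin.ext (by
      have := (permT_apply s).2
      rw [h1] at this
      simpa using this.symm)
    rw [hs, permT_zero, one_mul]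
  have pick : ∀ q : Fin 28, q ≠ 0 → ∃ s, permT s 1 = q := fun q hq => by
    have h : (q : ℕ) ≠ 0 := fun e => hq (Fin.ext e)
    refine ⟨⟨(q : ℕ) - 1, by omega⟩, Fin.ext ?_⟩
    rw [(permT_apply _).2]
    show (q : ℕ) - 1 + 1 = q
    omega
  obtain ⟨σ₁, hσ₁, hs10, hs11⟩ : ∃ σ ∈ R, σ 0 = 1 ∧ σ 1 = 0 := by
    obtain ⟨y, hy, hy0⟩ := hR.moves
    obtain ⟨s, hs⟩ := pick (y 0) hy0
    set y' := (permT s)⁻¹ * y with hy'
    have h01 : y' 0 = 1 := by
      rw [hy', Equiv.Perm.mul_apply, ← hs]
      exact Equiv.symm_apply_apply _ _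
    obtain ⟨t, ht⟩ := pick (y'⁻¹ 0) (fun e => by
      have := congrArg y' e
      rw [← Equiv.Perm.mul_apply, mul_inv_cancel, Equiv.Perm.one_apply, h01] at this
      exact absurd this (by decide))
    refine ⟨y' * permT t, R.mul_mem (R.mul_mem (R.inv_mem (hR.memT s)) hy) (hR.memT t), ?_, ?_⟩
    · rw [Equiv.Perm.mul_apply, (permT_apply t).1, h01]
    · rw [Equiv.Perm.mul_apply, ht, ← Equiv.Perm.mul_apply, mul_inv_cancel, Equiv.Perm.one_apply]
  have norm : ∀ {σ : Equiv.Perm (Fin 28)}, σ ∈ R → σ 0 = 1 → σ 1 = 0 →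
      ∀ k, ∃ j, σ * permW k = permW j * σ := by
    intro σ hσ h0 h1 k
    have e0 : σ⁻¹ 0 = 1 := by rw [← h1]; exact Equiv.symm_apply_apply _ _
    have e1 : σ⁻¹ 1 = 0 := by rw [← h0]; exact Equiv.symm_apply_apply _ _
    obtain ⟨j, hj⟩ := stab01 (σ * permW k * σ⁻¹)
      (R.mul_mem (R.mul_mem hσ (hR.memW k)) (R.inv_mem hσ))
      (by rw [Equiv.Perm.mul_apply, Equiv.Perm.mul_apply, e0, (permW_apply k).2, h1])
      (by rw [Equiv.Perm.mul_apply, Equiv.Perm.mul_apply, e1, (permW_apply k).1, h0])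
    exact ⟨j, by rw [← hj]; group⟩
  obtain ⟨σ, hσ, hs0, hs1, hs2⟩ : ∃ σ ∈ R, σ 0 = 1 ∧ σ 1 = 0 ∧ σ 2 = 2 := by
    set p := σ₁⁻¹ 2 with hp
    have hσp : σ₁ p = 2 := by rw [hp]; exact Equiv.apply_symm_apply _ _
    have hp2 : 2 ≤ (p : ℕ) := by
      by_contra hlt
      rcases (show (p : ℕ) = 0 ∨ (p : ℕ) = 1 by omega) with e | e
      · rw [show p = 0 from Fin.ext e, hs10] at hσp; exact absurd hσp (by decide)
      · rw [show p = 1 from Fin.ext e, hs11] at hσp; exact absurd hσp (by decide)
    rcases regular_ok.2 p hp2 with ⟨k, hk⟩ | ⟨k, hk0, hk⟩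
    · refine ⟨σ₁ * permW k, R.mul_mem hσ₁ (hR.memW k), ?_, ?_, ?_⟩
      · rw [Equiv.Perm.mul_apply, (permW_apply k).1, hs10]
      · rw [Equiv.Perm.mul_apply, (permW_apply k).2, hs11]
      · rw [Equiv.Perm.mul_apply, show permW k 2 = p from Fin.ext hk, hσp]
    · exfalso
      obtain ⟨j, hj⟩ := norm hσ₁ hs10 hs11 k
      have h2 := congrArg (fun e : Equiv.Perm (Fin 28) => e p) hj
      simp only [Equiv.Perm.mul_apply, show permW k p = p from Fin.ext hk, hσp] at h2
      have hj0 : j = 0 := regular_ok.1 j (congrArg Fin.val h2.symm)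
      rw [hj0, permW_zero, one_mul, mul_eq_left] at hj
      exact hk0 (W_ne k (by
        simp only [eqv, List.all_eq_true, List.mem_range, beq_iff_eq]
        intro i hi
        exact congrArg Fin.val (Equiv.congr_fun hj ⟨i, hi⟩)))
  obtain ⟨w1, hw1⟩ := norm hσ hs0 hs1 1
  obtain ⟨w2, hw2⟩ := norm hσ hs0 hs1 5
  set v2 : ℕ := (σ 10 : ℕ) with hv2
  set v8 : ℕ := (σ 6 : ℕ) with hv8
  let c : Nat → Nat := candF w1 w2 v2 v8
  have hstep : ∀ (g : Bool) (p : Fin 28),
      (σ (if g then permW 1 p else permW 5 p) : ℕ) =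
        tv (tW.getD (if g then (w1 : ℕ) else w2) 0) (σ p : ℕ) := by
    intro g p
    cases g
    · exact congrArg Fin.val (Equiv.congr_fun hw2 p)
    · exact congrArg Fin.val (Equiv.congr_fun hw1 p)
  have hc : ∀ i : Fin 28, (σ i : ℕ) = c i := by
    have key : ∀ (l : List Bool) (r q : Fin 28),
        l.foldr (fun g v => tv (tW.getD (if g then 1 else 5) 0) v) (r : ℕ) = q →
        (σ q : ℕ) = l.foldr (fun g v => tv (tW.getD (if g then (w1 : ℕ) else w2) 0) v) (σ r : ℕ) := by
      intro l
      induction l with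
      | nil =>
        intro r q h
        rw [show q = r from Fin.ext h.symm]
        rfl
      | cons g l ih =>
        intro r q h
        simp only [List.foldr_cons] at h ⊢
        have hlt : l.foldr (fun g v => tv (tW.getD (if g then 1 else 5) 0) v) (r : ℕ) < 28 := by
          clear h ih
          induction l with
          | nil => exact r.2
          | cons g l ih =>
            simp only [List.foldr_cons]
            cases g
            · exact W_lt 5 ⟨_, ih⟩
            · exact W_lt 1 ⟨_, ih⟩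
        rw [← ih r ⟨_, hlt⟩ rfl, ← hstep g ⟨_, hlt⟩]
        congr 2
        cases g <;> exact Fin.ext h.symm
    intro i
    obtain ⟨hrep, hword⟩ := wd_ok i
    show (σ i : ℕ) = candF w1 w2 v2 v8 i
    rcases hrep with e | e | e | e | e <;> rw [e] at hword <;> simp only [candF, e]
    · rw [key _ 0 i hword, hs0]; rfl
    · rw [key _ 1 i hword, hs1]; rfl
    · rw [key _ 10 i hword]; rfl
    · rw [key _ 6 i hword]; rfl
    · rw [key _ 2 i hword, hs2]; rfl
  have hcommW : ∀ p : Nat, p < 28 →
      c (tv (tW.getD 1 0) p) = tv (tW.getD w1 0) (c p) ∧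
        c (tv (tW.getD 5 0) p) = tv (tW.getD w2 0) (c p) := by
    intro p hp
    have a := hstep true ⟨p, hp⟩
    have b := hstep false ⟨p, hp⟩
    simp only [if_true, Bool.false_eq_true, if_false] at a b
    rw [hc, hc] at a b
    exact ⟨a, b⟩
  have horb : ∀ O : List Nat, (∀ p ∈ O, p < 28) → okOrb w1 w2 v2 v8 O = true := by
    intro O hO
    simp only [okOrb, List.all_eq_true, Bool.and_eq_true, beq_iff_eq]
    exact fun p hp => hcommW p (hO p hp)
  have hrel : ∀ C : Nat, (∀ i : Fin 28, (σ i : ℕ) = tv C i) →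
      ∀ r : Fin 28, 2 ≤ (r : ℕ) → okRel C r = true := by
    intro C hC r hr
    have hr0 : r ≠ 1 := fun e => by rw [e] at hr; exact absurd hr (by decide)
    have hσr : σ r ≠ 0 := fun e => hr0 (σ.injective (e.trans hs1.symm))
    obtain ⟨s', hs'⟩ := pick (σ r) hσr
    let u : Fin 27 := ⟨(r : ℕ) - 1, by omega⟩
    have hu : permT u 1 = r := Fin.ext (by
      rw [(permT_apply u).2]
      show (r : ℕ) - 1 + 1 = r
      omega)
    set z := σ⁻¹ * (permT s')⁻¹ * (σ * permT u * σ) with hz
    have hz0 : z 0 = 0 := by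
      rw [hz]
      simp only [Equiv.Perm.mul_apply, hs0, hu, ← hs']
      rw [show (permT s')⁻¹ (permT s' 1) = 1 from Equiv.symm_apply_apply _ _, ← hs0]
      exact Equiv.symm_apply_apply _ _
    obtain ⟨t, k, htk⟩ := hR.stab z (R.mul_mem (R.mul_mem (R.inv_mem hσ) (R.inv_mem (hR.memT s')))
      (R.mul_mem (R.mul_mem hσ (hR.memT u)) hσ)) hz0
    have heq : σ * permT u * σ = permT s' * (σ * (permT t * permW k)) := by
      rw [← htk, hz]; group
    have hs'v : (s' : ℕ) = tv C r - 1 := by
      have := (permT_apply s').2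
      rw [hs', hC] at this
      omega
    have hk1 : tv (tW.getD k 0) 1 = 1 := (pt_W k).2
    have hall : ∀ i : Fin 28, tv C (tv (tT.getD ((r : ℕ) - 1) 0) (tv C i)) =
        tv (tT.getD (tv C r - 1) 0) (tv C (tv (tT.getD t 0) (tv (tW.getD k 0) i))) := by
      intro i
      have h := congrArg (fun e : Equiv.Perm (Fin 28) => ((e i : Fin 28) : ℕ)) heq
      simp only [Equiv.Perm.mul_apply] at h
      rw [hC] at h
      change tv C (tv (tT.getD u 0) (σ i : ℕ)) =
        tv (tT.getD s' 0) (σ (permT t (permW k i)) : ℕ) at h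
      rw [hC, hC, hs'v] at h
      exact h
    simp only [okRel, List.any_eq_true, List.all_eq_true, List.mem_range, beq_iff_eq,
      Bool.and_eq_true]
    refine ⟨t, t.2, ?_, k, k.2, fun i hi => hall ⟨i, hi⟩⟩
    have := hall 1
    rw [show ((1 : Fin 28) : ℕ) = 1 from rfl, hk1] at this
    exact this
  have hsig : σ = permZ := by
    have h := list_ok
    simp only [listOk, List.all_eq_true, List.any_eq_true, List.mem_range, Bool.or_eq_true,
      Bool.not_eq_true', Bool.and_eq_false_iff, beq_iff_eq] at h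
    have h16 : okOrb w1 w2 0 0 orb16 = true :=
      okOrb_congr (fun p hp => by
        obtain ⟨a, b, d⟩ := reps_in.2 p hp
        exact ⟨candF_local _ _ _ _ _ _ _ a, candF_local _ _ _ _ _ _ _ b,
          candF_local _ _ _ _ _ _ _ d⟩)
        (horb orb16 fun p hp => orb_cl p (List.mem_append_right _ hp))
    have hi16 : injOrb w1 w2 0 0 orb16 = true := by
      have key : ∀ O : List Nat, O.Nodup → (∀ p ∈ O, p < 28 ∧ (wd.getD p (0, [])).1 = 2) →
          injOrb w1 w2 0 0 O = true := by
        intro O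
        induction O with
        | nil => exact fun _ _ => rfl
        | cons a O ih =>
          intro hnd hO
          rw [List.nodup_cons] at hnd
          simp only [injOrb, Bool.and_eq_true, List.all_eq_true, bne_iff_ne]
          refine ⟨fun q hq e => hnd.1 ?_, ih hnd.2 fun p hp => hO p (List.mem_cons_of_mem _ hp)⟩
          obtain ⟨ha, ha2⟩ := hO a (List.mem_cons_self ..)
          obtain ⟨hq28, hq2⟩ := hO q (List.mem_cons_of_mem _ hq)
          rw [candF_local w1 w2 0 0 v2 v8 a ha2, candF_local w1 w2 0 0 v2 v8 q hq2] at e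
          have : σ ⟨a, ha⟩ = σ ⟨q, hq28⟩ :=
            Fin.ext ((hc ⟨a, ha⟩).trans (e.trans (hc ⟨q, hq28⟩).symm))
          have e2 : a = q := congrArg Fin.val (σ.injective this)
          rw [e2]
          exact hq
      exact key orb16 (by decide +kernel) fun p hp =>
        ⟨orb_cl p (List.mem_append_right _ hp), (reps_in.2 p hp).1⟩
    have h2 : okOrb w1 w2 v2 0 orb2 = true :=
      okOrb_congr (fun p hp => by
        obtain ⟨a, b, d⟩ := reps_in.1 p hp
        exact ⟨candF_local2 _ _ _ _ _ _ a, candF_local2 _ _ _ _ _ _ b,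
          candF_local2 _ _ _ _ _ _ d⟩)
        (horb orb2 fun p hp => orb_cl p (List.mem_append_left _ (List.mem_append_left _ hp)))
    have h8 : okOrb w1 w2 v2 v8 orb8 = true :=
      horb orb8 fun p hp => orb_cl p (List.mem_append_left _ (List.mem_append_right _ hp))
    have hge : ∀ r : Fin 28, r ≠ 0 → r ≠ 1 → 2 ≤ (σ r : ℕ) := by
      intro r a b
      have n0 : (σ r : ℕ) ≠ 0 := fun e => b (σ.injective ((Fin.ext e).trans hs1.symm))
      have n1 : (σ r : ℕ) ≠ 1 := fun e => a (σ.injective ((Fin.ext e).trans hs0.symm))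
      omega
    rcases h w1 w1.2 w2 w2.2 with a | h
    · rcases a with a | a
      · rw [h16] at a; exact absurd a (by decide)
      · rw [hi16] at a; exact absurd a (by decide)
    rcases h v2 (σ 10).2 with a | h
    · rcases a with a | a
      · exact absurd (hge 10 (by decide) (by decide)) (by simpa using a)
      · rw [h2] at a; exact absurd a (by decide)
    rcases h v8 (σ 6).2 with a | h
    · rcases a with a | a
      · exact absurd (hge 6 (by decide) (by decide)) (by simpa using a)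
      · rw [h8] at a; exact absurd a (by decide)
    obtain ⟨C, hCmem, hC⟩ := h
    have hσC : ∀ i : Fin 28, (σ i : ℕ) = tv C i := fun i => (hc i).trans (hC i i.2)
    have h := search_ok
    simp only [searchOk, List.all_eq_true, List.mem_range, Bool.or_eq_true, Bool.not_eq_true',
      Bool.and_eq_false_iff, beq_iff_eq] at h
    rcases h C hCmem with ((a | a) | a) | h
    · have : okRel C 10 = true := hrel C hσC 10 (by decide)
      rw [this] at a; exact absurd a (by decide)
    · have : okRel C 6 = true := hrel C hσC 6 (by decide)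
      rw [this] at a; exact absurd a (by decide)
    · have : okRel C 2 = true := hrel C hσC 2 (by decide)
      rw [this] at a; exact absurd a (by decide)
    exact Equiv.ext fun i => Fin.ext ((hσC i).trans (h i i.2))
  subst hsig
  refine le_antisymm (fun y hy => ?_) ?_
  · by_cases h0 : y 0 = 0
    · obtain ⟨s, k, rfl⟩ := hR.stab y hy h0
      exact H0.mul_mem (mem_T s) (mem_W k)
    · obtain ⟨s, hs⟩ := pick (y 0) h0
      obtain ⟨t, k, htk⟩ := hR.stab ((permT s * permZ)⁻¹ * y)
        (R.mul_mem (R.inv_mem (R.mul_mem (hR.memT s) hσ)) hy) (by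
          rw [Equiv.Perm.mul_apply, ← hs,
            show permT s 1 = (permT s * permZ) 0 by rw [Equiv.Perm.mul_apply, hs0]]
          exact Equiv.symm_apply_apply _ _)
      rw [inv_mul_eq_iff_eq_mul] at htk
      rw [htk]
      exact H0.mul_mem (H0.mul_mem (mem_T s) mem_Z) (H0.mul_mem (mem_T t) (mem_W k))
  · rw [H0, Subgroup.closure_le]
    rintro y ((⟨s, rfl⟩ | ⟨k, rfl⟩) | rfl)
    exacts [hR.memT s, hR.memW k, hσ]

/-! ### Element orders -/

theorem TT_ok : ∀ u s : Fin 27,
    eqv [tabT u, tabT s] [tT.getD (tv (tabT u) (s + 1) - 1) 0] = true ∧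
      1 ≤ tv (tabT u) (s + 1) ∧ tv (tabT u) (s + 1) ≤ 27 := by
  decide +kernel

theorem WT_ok : ∀ (j : Fin 16) (s : Fin 27),
    eqv [tabW j, tabT s] [tT.getD (tv (tabW j) (s + 1) - 1) 0, tabW j] = true ∧
      1 ≤ tv (tabW j) (s + 1) ∧ tv (tabW j) (s + 1) ≤ 27 := by
  decide +kernel

theorem WW_ok : ∀ j k : Fin 16, ∃ l : Fin 16, eqv [tabW j, tabW k] [tabW l] = true := by
  decide +kernel

theorem WZ_ok : ∀ j : Fin 16, ∃ l : Fin 16, eqv [tabW j, tZ] [tZ, tabW l] = true := by
  decide +kernel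

theorem ZTZ_ok : ∀ r : Fin 27,
    (∃ (s : Fin 27) (k : Fin 16), eqv [tZ, tabT r, tZ] [tabT s, tabW k] = true) ∨
      ∃ (s t : Fin 27) (k : Fin 16), run [tZ, tabT r, tZ] 0 = (s : ℕ) + 1 ∧
        eqv [tZ, tabT r, tZ] [tabT s, tZ, tabT t, tabW k] = true := by
  decide +kernel

/-- No order fourteen, for a composite. -/
def not14 (L : List Nat) : Bool :=
  !(eqv (List.replicate 14 L).flatten []) || eqv (List.replicate 7 L).flatten [] ||
    eqv (List.replicate 2 L).flatten []

theorem orders_ok : ∀ (s : Fin 27) (k : Fin 16),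
    not14 [tabT s, tabW k] = true ∧ not14 [tZ, tabT s, tabW k] = true := by
  decide +kernel

theorem rep_pow {L : List Nat} {σ : Equiv.Perm (Fin 28)} (h : Rep L σ) :
    ∀ n, Rep (List.replicate n L).flatten (σ ^ n)
  | 0 => rep_one
  | n + 1 => by
    rw [pow_succ', List.replicate_succ, List.flatten_cons]
    exact rep_mul h (rep_pow h n)

theorem orderOf_ne_of_not14 {L : List Nat} {σ : Equiv.Perm (Fin 28)} (h : Rep L σ)
    (h14 : not14 L = true) : orderOf σ ≠ 14 := by
  intro ho
  simp only [not14, Bool.or_eq_true, Bool.not_eq_true'] at h14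
  rcases h14 with (h14 | h14) | h14
  · have e : σ ^ 14 = 1 := ho ▸ pow_orderOf_eq_one σ
    have : eqv (List.replicate 14 L).flatten [] = true := by
      simp only [eqv, List.all_eq_true, List.mem_range, beq_iff_eq]
      intro i hi
      rw [← rep_pow h 14 ⟨i, hi⟩, e]
      rfl
    rw [h14] at this
    exact absurd this (by decide)
  · have := orderOf_dvd_of_pow_eq_one (eq_of_eqv (rep_pow h 7) rep_one h14)
    rw [ho] at this
    exact absurd this (by decide)
  · have := orderOf_dvd_of_pow_eq_one (eq_of_eqv (rep_pow h 2) rep_one h14)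
    rw [ho] at this
    exact absurd this (by decide)

theorem TT (u s : Fin 27) : ∃ m, permT u * permT s = permT m := by
  obtain ⟨h, h1, h2⟩ := TT_ok u s
  exact ⟨⟨tv (tabT u) (s + 1) - 1, by omega⟩, eq_of_eqv (rep_mul (rep_T u) (rep_T s)) (rep_T _) h⟩

theorem WT (j : Fin 16) (s : Fin 27) : ∃ m, permW j * permT s = permT m * permW j := by
  obtain ⟨h, h1, h2⟩ := WT_ok j s
  exact ⟨⟨tv (tabW j) (s + 1) - 1, by omega⟩,
    eq_of_eqv (rep_mul (rep_W j) (rep_T s)) (rep_mul (rep_T _) (rep_W j)) h⟩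

theorem WW (j k : Fin 16) : ∃ l, permW j * permW k = permW l :=
  (WW_ok j k).imp fun _ h => eq_of_eqv (rep_mul (rep_W j) (rep_W k)) (rep_W _) h

theorem WZ (j : Fin 16) : ∃ l, permW j * permZ = permZ * permW l :=
  (WZ_ok j).imp fun _ h => eq_of_eqv (rep_mul (rep_W j) rep_Z) (rep_mul rep_Z (rep_W _)) h

/-- The two double cosets. -/
def Shape (y : Equiv.Perm (Fin 28)) : Prop :=
  (∃ s k, y = permT s * permW k) ∨ ∃ r s k, y = permT r * permZ * (permT s * permW k)

theorem absorb (j : Fin 16) (s : Fin 27) (k : Fin 16) :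
    ∃ s' k', permW j * (permT s * permW k) = permT s' * permW k' := by
  obtain ⟨m, hm⟩ := WT j s
  obtain ⟨l, hl⟩ := WW j k
  exact ⟨m, l, by rw [← mul_assoc, hm, mul_assoc, hl]⟩

theorem shape_step {g : Equiv.Perm (Fin 28)}
    (hg : g ∈ Set.range permT ∪ Set.range permW ∪ {permZ}) {y : Equiv.Perm (Fin 28)}
    (hy : Shape y) : Shape (g * y) := by
  rcases hg with (⟨u, rfl⟩ | ⟨j, rfl⟩) | rfl <;> rcases hy with ⟨s, k, rfl⟩ | ⟨r, s, k, rfl⟩
  · obtain ⟨m, hm⟩ := TT u s
    exact Or.inl ⟨m, k, by rw [← mul_assoc, hm]⟩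
  · obtain ⟨m, hm⟩ := TT u r
    exact Or.inr ⟨m, s, k, by rw [← mul_assoc (permT u), ← mul_assoc (permT u), hm]⟩
  · obtain ⟨s', k', h⟩ := absorb j s k
    exact Or.inl ⟨s', k', h⟩
  · obtain ⟨m, hm⟩ := WT j r
    obtain ⟨l, hl⟩ := WZ j
    obtain ⟨s', k', h⟩ := absorb l s k
    exact Or.inr ⟨m, s', k', by
      rw [← mul_assoc (permW j), ← mul_assoc (permW j), hm, mul_assoc (permT m) (permW j), hl,
        ← h]
      simp only [mul_assoc]⟩
  · exact Or.inr ⟨0, s, k, by rw [permT_zero, one_mul]⟩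
  · have e : permZ * (permT r * permZ * (permT s * permW k)) =
        permZ * permT r * permZ * (permT s * permW k) := by simp only [mul_assoc]
    rw [e]
    rcases ZTZ_ok r with ⟨a, b, h⟩ | ⟨a, t, b, -, h⟩
    · obtain ⟨s', k', h'⟩ := absorb b s k
      obtain ⟨m, hm⟩ := TT a s'
      refine Or.inl ⟨m, k', ?_⟩
      rw [eq_of_eqv (rep_mul (rep_mul rep_Z (rep_T r)) rep_Z) (rep_mul (rep_T a) (rep_W b)) h,
        mul_assoc, h', ← mul_assoc, hm]
    · obtain ⟨s', k', h'⟩ := absorb b s k
      obtain ⟨m, hm⟩ := TT t s'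
      refine Or.inr ⟨a, m, k', ?_⟩
      rw [eq_of_eqv (rep_mul (rep_mul rep_Z (rep_T r)) rep_Z)
        (rep_mul (rep_mul (rep_mul (rep_T a) rep_Z) (rep_T t)) (rep_W b)) h,
        mul_assoc (permT a * permZ * permT t), h', mul_assoc (permT a * permZ),
        ← mul_assoc (permT t), hm]

theorem shape_of_mem {y : Equiv.Perm (Fin 28)} (hy : y ∈ H0) : Shape y := by
  rw [H0, ← Subgroup.mem_toSubmonoid, Subgroup.closure_toSubmonoid_of_finite] at hy
  induction hy using Submonoid.closure_induction_left with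
  | one => exact Or.inl ⟨0, 0, by rw [permT_zero, permW_zero, one_mul]⟩
  | mul_left g hg y _ ih => exact shape_step hg ih

/-- The model has no element of order fourteen. -/
theorem no_fourteen : ∀ h : H0, orderOf h ≠ 14 := by
  rintro ⟨y, hy⟩
  rw [Subgroup.orderOf_mk]
  rcases shape_of_mem hy with ⟨s, k, rfl⟩ | ⟨r, s, k, rfl⟩
  · exact orderOf_ne_of_not14 (rep_mul (rep_T s) (rep_W k)) (orders_ok s k).1
  · obtain ⟨m, hm⟩ := WT k r
    obtain ⟨n, hn⟩ := TT s m
    have e : SemiconjBy (permT r) (permZ * (permT n * permW k))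
        (permT r * permZ * (permT s * permW k)) := by
      show permT r * (permZ * (permT n * permW k)) =
        permT r * permZ * (permT s * permW k) * permT r
      rw [← hn, mul_assoc (permT s), ← hm]
      simp only [mul_assoc]
    rw [← e.orderOf_eq]
    exact orderOf_ne_of_not14 (rep_mul rep_Z (rep_mul (rep_T n) (rep_W k))) (orders_ok n k).2

end Cfsg.Agent.G22Cert47
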