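import Cfsg.Prelude.Def_Characters
import Cfsg.Agent.Lib.CharBasic
import Cfsg.Agent.Lib.CharBasicOrth
import Cfsg.Agent.Lib.ClassAlgebraVal
import Cfsg.Agent.Lib.CharAverage
import Cfsg.Agent.Lib.DefectOneRoots7

/-!
Representations of a group with trivial centre: no faithful representation of dimension three is
available when the Sylow three-subgroup has order `27` and exponent three, and the traces on an
element of order three are real as soon as one integral relation holds.
-/

set_option autoImplicit false
set_option linter.style.haveILetI false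
set_option linter.unusedSectionVars false

open scoped ComplexConjugate

namespace Cfsg.Agent.G22CharTools40

section Diag

variable {H : Type*} [Group H] [Finite H]

/-- A common eigenvector. -/
def IsEig {V : Type*} [AddCommGroup V] [Module ℂ V] (σ : Representation ℂ H V) (v : V) : Prop :=
  ∀ h : H, ∃ c : ℂ, σ h v = c • v

/-- In a group of odd order a representation of dimension at most two is diagonalisable. -/
theorem span_eig (hodd : Odd (Nat.card H)) :
    ∀ (n : ℕ) (V : Type) [AddCommGroup V] [Module ℂ V] [FiniteDimensional ℂ V]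
      (σ : Representation ℂ H V), Module.finrank ℂ V ≤ n → n ≤ 2 →
      Submodule.span ℂ {v : V | IsEig σ v} = ⊤ := by
  intro n
  induction n with
  | zero =>
    intro V _ _ _ σ h _
    have : Subsingleton V := Module.finrank_zero_iff.1 (Nat.le_zero.1 h)
    exact Subsingleton.elim _ _
  | succ n ih =>
    intro V _ _ _ σ h hn
    rcases Nat.lt_or_ge (Module.finrank ℂ V) 2 with h1 | h1
    · refine eq_top_iff.2 fun v _ => Submodule.subset_span fun x => ?_
      rcases eq_or_ne v 0 with rfl | hv
      · exact ⟨0, by simp⟩
      · haveI : Nontrivial V := ⟨⟨v, 0, hv⟩⟩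
        have h2 : Module.finrank ℂ V = 1 := le_antisymm (by omega) Module.finrank_pos
        obtain ⟨c, hc⟩ := (finrank_eq_one_iff_of_nonzero' v hv).1 h2 (σ x v)
        exact ⟨c, hc.symm⟩
    · have h2 : Module.finrank ℂ V = 2 := by omega
      haveI : Nontrivial V := Module.nontrivial_of_finrank_pos (R := ℂ) (by omega)
      have hred : ¬ σ.IsIrreducible := by
        intro hir
        have hd := CharAverage.charDegree_dvd_card
          ⟨σ.character, CharBasic.isIrrCharacter_of_rep σ⟩
        have e : Cfsg.charDegree σ.character = 2 := by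
          simp [Cfsg.charDegree, h2]
        rw [show Cfsg.charDegree ((⟨σ.character, CharBasic.isIrrCharacter_of_rep σ⟩ :
          Cfsg.IrrCharacter H) : H → ℂ) = 2 from e] at hd
        exact (Nat.not_even_iff_odd.2 hodd) (even_iff_two_dvd.2 hd)
      obtain ⟨U, U', hc, -, -, hU, hU'⟩ := CharBasic.exists_decomposition hred
      have key : ∀ W : Subrepresentation σ, Module.finrank ℂ W.toSubmodule < Module.finrank ℂ V →
          W.toSubmodule ≤ Submodule.span ℂ {v : V | IsEig σ v} := by
        intro W hW
        have := ih _ W.toRepresentation (by omega) (by omega)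
        intro w hw
        have hmem : (⟨w, hw⟩ : W.toSubmodule) ∈
            Submodule.span ℂ {v | IsEig W.toRepresentation v} := this ▸ Submodule.mem_top
        have h3 := Submodule.mem_map_of_mem (f := W.toSubmodule.subtype) hmem
        rw [Submodule.map_span] at h3
        refine Submodule.span_mono ?_ h3
        rintro _ ⟨u, hu, rfl⟩ x
        obtain ⟨c, hc⟩ := hu x
        exact ⟨c, congrArg Subtype.val hc⟩
      rw [eq_top_iff, ← hc.sup_eq_top]
      exact sup_le (key U hU) (key U' hU')

/-- A three-dimensional faithful representation of a group of order `27` and exponent three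
contains a scalar different from the identity. -/
theorem exists_scalar {V : Type} [AddCommGroup V] [Module ℂ V] [FiniteDimensional ℂ V]
    (hH : Nat.card H = 27) (hexp : ∀ h : H, h ^ 3 = 1) (σ : Representation ℂ H V)
    (hV : Module.finrank ℂ V = 3) (hinj : Function.Injective σ) :
    ∃ h : H, h ≠ 1 ∧ ∃ c : ℂ, σ h = c • LinearMap.id := by
  haveI : Nontrivial V := Module.nontrivial_of_finrank_pos (R := ℂ) (by omega)
  have hodd : Odd (Nat.card H) := hH ▸ by decide
  by_cases hir : σ.IsIrreducible
  · haveI : Fact (Nat.Prime 3) := ⟨Nat.prime_three⟩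
    haveI : Nontrivial H := Finite.one_lt_card_iff_nontrivial.1 (by rw [hH]; norm_num)
    haveI := (IsPGroup.of_card (p := 3) (n := 3) (G := H) (by rw [hH]; norm_num)).center_nontrivial
    obtain ⟨⟨z, hz⟩, hz1⟩ := exists_ne (1 : Subgroup.center H)
    exact ⟨z, fun e => hz1 (Subtype.ext e), CharBasic.exists_scalar_of_mem_center σ hz⟩
  · obtain ⟨U, U', hc, -, -, hU, hU'⟩ := CharBasic.exists_decomposition hir
    have key : ∀ W : Subrepresentation σ, Module.finrank ℂ W.toSubmodule < Module.finrank ℂ V →
        W.toSubmodule ≤ Submodule.span ℂ {v : V | IsEig σ v} := by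
      intro W hW
      have := span_eig hodd 2 _ W.toRepresentation (by omega) le_rfl
      intro w hw
      have hmem : (⟨w, hw⟩ : W.toSubmodule) ∈
          Submodule.span ℂ {v | IsEig W.toRepresentation v} := this ▸ Submodule.mem_top
      have h3 := Submodule.mem_map_of_mem (f := W.toSubmodule.subtype) hmem
      rw [Submodule.map_span] at h3
      refine Submodule.span_mono ?_ h3
      rintro _ ⟨u, hu, rfl⟩ x
      obtain ⟨c, hc⟩ := hu x
      exact ⟨c, congrArg Subtype.val hc⟩
    have hspan : ⊤ ≤ Submodule.span ℂ {v : V | IsEig σ v} :=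
      hc.sup_eq_top ▸ sup_le (key U hU) (key U' hU')
    let b := Module.Basis.ofSpan hspan
    haveI : Fintype {x // x ∈ (linearIndepOn_empty ℂ (id : V → V)).extend
        (Set.empty_subset {v : V | IsEig σ v})} := FiniteDimensional.fintypeBasisIndex b
    have hb : ∀ i, IsEig σ (b i) := fun i => Module.Basis.ofSpan_subset hspan ⟨i, rfl⟩
    choose c hcv using hb
    have hne : ∀ i, b i ≠ 0 := fun i => b.ne_zero i
    have hc3 : ∀ i h, c i h ^ 3 = 1 := by
      intro i h
      have h1 : ∀ k : ℕ, σ (h ^ k) (b i) = c i h ^ k • b i := by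
        intro k
        induction k with
        | zero => simp
        | succ k ih => rw [pow_succ', map_mul, Module.End.mul_apply, ih, map_smul, hcv, smul_smul,
            ← pow_succ]
      have := h1 3
      rw [hexp, map_one, Module.End.one_apply] at this
      exact smul_left_injective ℂ (hne i) (by simpa using this.symm)
    set R := {z : ℂ // z ^ 3 = 1}
    have hR : Nat.card R = 3 := by
      have e : R ≃ {z : ℂ // z ∈ Polynomial.nthRootsFinset 3 (1 : ℂ)} :=
        Equiv.subtypeEquivRight fun z => (Polynomial.mem_nthRootsFinset (by norm_num) _).symm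
      rw [Nat.card_congr e, Nat.card_eq_finsetCard]
      exact (Complex.isPrimitiveRoot_exp 3 (by norm_num)).card_nthRootsFinset
    haveI : Finite R := Nat.finite_of_card_ne_zero (by rw [hR]; norm_num)
    let Φ : H → (_ → R) := fun h i => ⟨c i h, hc3 i h⟩
    have hΦ : Function.Injective Φ := fun x y e => hinj (b.ext fun i => by
      rw [hcv, hcv, show c i x = c i y from congrArg Subtype.val (congrFun e i)])
    have hsurj : Function.Surjective Φ := by
      refine ((Nat.bijective_iff_injective_and_card Φ).2 ⟨hΦ, ?_⟩).2
      rw [hH, Nat.card_fun, hR, Nat.card_eq_fintype_card, ← Module.finrank_eq_card_basis b, hV]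
      norm_num
    set ω : ℂ := Complex.exp (2 * Real.pi * Complex.I / (3 : ℕ))
    have hω : IsPrimitiveRoot ω 3 := Complex.isPrimitiveRoot_exp 3 (by norm_num)
    obtain ⟨h, hh⟩ := hsurj fun _ => ⟨ω, hω.pow_eq_one⟩
    have hci : ∀ i, c i h = ω := fun i => congrArg Subtype.val (congrFun hh i)
    refine ⟨h, ?_, ω, b.ext fun i => by rw [hcv, hci]; rfl⟩
    rintro rfl
    obtain ⟨i⟩ := b.index_nonempty
    have := hcv i 1
    rw [map_one, Module.End.one_apply, hci] at this
    exact hω.ne_one (by norm_num) (smul_left_injective ℂ (hne i) (by simpa using this.symm))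

end Diag

/-- Sums of `d` cube roots of unity. -/
theorem cube_sum {ι : Type*} [Fintype ι] (μ : ι → ℂ) (h : ∀ i, μ i ^ 3 = 1) :
    ∃ m : ℕ, m ≤ Fintype.card ι ∧ 2 * (∑ i, μ i).re = 2 * (Fintype.card ι : ℝ) - 3 * m ∧
      ((∀ i, μ i ≠ 1) → m = Fintype.card ι) ∧ (m = Fintype.card ι → ∀ i, μ i ≠ 1) := by
  classical
  refine ⟨(Finset.univ.filter fun i => μ i ≠ 1).card, Finset.card_le_univ _, ?_, fun hall => ?_,
    fun hm i => ?_⟩
  · have hre : ∀ i, 2 * (μ i).re = 2 - (if μ i ≠ 1 then (3 : ℝ) else 0) := by
      intro i
      by_cases h1 : μ i = 1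
      · simp [h1]
      · rw [if_pos h1]
        have h2 : (μ i - 1) * (μ i * μ i + μ i + 1) = 0 := by linear_combination h i
        have h3 := (mul_eq_zero.1 h2).resolve_left (sub_ne_zero.2 h1)
        have e1 := congrArg Complex.re h3
        have e2 := congrArg Complex.im h3
        simp only [Complex.add_re, Complex.mul_re, Complex.one_re, Complex.zero_re] at e1
        simp only [Complex.add_im, Complex.mul_im, Complex.one_im, Complex.zero_im] at e2
        rcases eq_or_ne (μ i).im 0 with h4 | h4
        · exfalso
          rw [h4] at e1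
          nlinarith [sq_nonneg (2 * (μ i).re + 1)]
        · have h5 : (μ i).im * (2 * (μ i).re + 1) = 0 := by linear_combination e2
          linarith [(mul_eq_zero.1 h5).resolve_left h4]
    rw [Complex.re_sum, Finset.mul_sum, Finset.sum_congr rfl fun i _ => hre i, Finset.sum_sub_distrib,
      Finset.sum_const, Finset.card_univ, Finset.sum_ite, Finset.sum_const_zero, add_zero,
      Finset.sum_const, nsmul_eq_mul, nsmul_eq_mul]
    ring
  · rw [Finset.filter_true_of_mem fun i _ => hall i, Finset.card_univ]
  · have := Finset.eq_univ_of_card _ hm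
    have hmem : i ∈ Finset.univ.filter fun i => μ i ≠ 1 := by rw [this]; exact Finset.mem_univ i
    exact (Finset.mem_filter.1 hmem).2

variable {T : Type*} [Group T] [Finite T]

/-- If every eigenvalue at `z` is a nontrivial cube root of unity, the values on a coset of the
powers of `z` sum to zero. -/
theorem sum_coset {V : Type} [AddCommGroup V] [Module ℂ V] [FiniteDimensional ℂ V]
    (ρ : Representation ℂ T V) {z : T} (hz : z ^ 3 = 1)
    (h : ρ.character 1 + ρ.character z + ρ.character (z * z) = 0) {x : T} :
    ρ.character x + ρ.character (x * z) + ρ.character (x * (z * z)) = 0 := by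
  have hzz : z * (z * z) = 1 := by rw [← mul_assoc, ← pow_two, ← pow_succ, hz]
  set E : Module.End ℂ V := (3 : ℂ)⁻¹ • (ρ 1 + ρ z + ρ (z * z)) with hE
  have hidem : E * E = E := by
    rw [hE, smul_mul_smul_comm, add_mul, add_mul, mul_add, mul_add, mul_add, mul_add, mul_add,
      mul_add, ← map_mul, ← map_mul, ← map_mul, ← map_mul, ← map_mul, ← map_mul, ← map_mul,
      ← map_mul, ← map_mul, one_mul, one_mul, one_mul, mul_one, mul_one, hzz,
      show z * z * z = 1 by rw [mul_assoc, hzz],
      show z * z * (z * z) = z by rw [mul_assoc, hzz, mul_one]]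
    module
  have hp : LinearMap.IsProj (LinearMap.range E) E := by
    refine ⟨fun v => LinearMap.mem_range_self _ v, ?_⟩
    rintro _ ⟨y, rfl⟩
    rw [← Module.End.mul_apply, hidem]
  have h0 : LinearMap.trace ℂ V E = 0 := by
    rw [hE, map_smul, map_add, map_add]
    exact (congrArg _ h).trans (smul_zero _)
  have h1 := hp.trace
  rw [h0] at h1
  have hE0 : ρ 1 + ρ z + ρ (z * z) = 0 := by
    have h2 := LinearMap.range_eq_bot.1 (Submodule.finrank_eq_zero.1 (Nat.cast_eq_zero.1 h1.symm))
    rw [hE, smul_eq_zero] at h2
    exact h2.resolve_left (by norm_num)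
  have := congrArg (LinearMap.trace ℂ V) (show ρ x * (ρ 1 + ρ z + ρ (z * z)) = 0 by rw [hE0, mul_zero])
  rw [map_zero, mul_add, mul_add, ← map_mul, ← map_mul, ← map_mul, mul_one, map_add, map_add] at this
  exact this

end Cfsg.Agent.G22CharTools40
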