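import Cfsg.Agent.Lib.G22Defs40
import Cfsg.Agent.Lib.SmallExcG2
import Cfsg.Agent.Lib.SpectrumPSU3
import Cfsg.Agent.Lib.OrthUnitaryPSU
import Cfsg.Agent.Lib.ChevalleySylow
import Cfsg.Agent.S1051
import Cfsg.Agent.S1059

/-!
The Chevalley group of type `G₂` over two elements satisfies the hypotheses of the
characterisation by order and element orders.
-/

set_option autoImplicit false

namespace Cfsg.Agent.G22Chev96

open Subgroup Cfsg.Lie
open scoped commutatorElement

/-- The derived subgroup is the simple group `PSU₃(3)`. -/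
theorem derived (F : Type*) [Field F] [Fintype F] (hF : Fintype.card F = 2) :
    IsSimpleGroup ↥(commutator ↥(chevG2.group F)) ∧
      Nat.card ↥(commutator ↥(chevG2.group F)) = 6048 ∧
      G22Defs40.NoBad ↥(commutator ↥(chevG2.group F)) := by
  classical
  haveI : Fact (Nat.Prime 3) := ⟨Nat.prime_three⟩
  haveI : Fintype (GaloisField 3 2) := Fintype.ofFinite _
  have hK : Fintype.card (GaloisField 3 2) = 9 := by
    rw [← Nat.card_eq_fintype_card, GaloisField.card 3 2 (by norm_num)]; norm_num
  obtain ⟨e⟩ := SmallExcG2.main (K := GaloisField 3 2) hF hK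
  have hsimp : IsSimpleGroup (Cfsg.PSU 3 (GaloisField 3 2) 3) :=
    OrthUnitaryPSU.isSimpleGroup_PSU (q := 3) (by rw [hK]; norm_num) (n := 3) le_rfl (by norm_num)
  refine ⟨?_, ?_, fun g => ?_⟩
  · haveI := hsimp
    haveI : Nontrivial ↥(commutator ↥(chevG2.group F)) := e.toEquiv.nontrivial
    exact IsSimpleGroup.isSimpleGroup_of_surjective e.symm.toMonoidHom e.symm.surjective
  · rw [Nat.card_congr e.toEquiv]
    have hc : Nat.card ↥(Subgroup.center ↥(Cfsg.SU 3 (GaloisField 3 2) 3)) = 1 := by
      rw [Cfsg.Agent.OrthUnitaryHerm.card_center_SU (F := GaloisField 3 2) (q := 3) (n := 3)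
        (by rw [hK]; norm_num) (by norm_num)]
      rfl
    have h := Subgroup.card_eq_card_quotient_mul_card_subgroup
      (Subgroup.center ↥(Cfsg.SU 3 (GaloisField 3 2) 3))
    rw [hc, mul_one, Cfsg.Agent.DegGraphU33.card_SU33 hK] at h
    exact h.symm
  · have h := SpectrumPSU3.orderOf_dvd_cases (p := 3) (q := 3)
      (show Fintype.card (GaloisField 3 2) = 3 ^ 2 by rw [hK]; norm_num) (by norm_num) (e g)
    rw [← e.orderOf_eq g]
    refine ⟨fun h' => ?_, fun h' => ?_, fun h' => ?_⟩ <;>
      · rw [h'] at h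
        norm_num at h

/-- The hypotheses hold for the Chevalley group. -/
theorem hyp_chev (F : Type*) [Field F] [Fintype F] (hF : Fintype.card F = 2) :
    G22Defs40.Hyp ↥(chevG2.group F) (commutator ↥(chevG2.group F)) := by
  classical
  haveI : Fact (Nat.Prime 2) := ⟨Nat.prime_two⟩
  haveI : CharP F 2 := charP_of_card_eq_prime_pow (f := 1) (by rw [hF]; norm_num)
  obtain ⟨hsimp, hT, hbad⟩ := derived F hF
  have hG : Nat.card ↥(chevG2.group F) = 12096 := by
    rw [Cfsg.Agent.S1059.result hF]; norm_num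
  set G := ↥(chevG2.group F) with hGdef
  set T := commutator G with hTdef
  refine ⟨hG, inferInstance, hsimp, hT, ?_, hbad⟩
  haveI := hsimp
  -- the centre of `T`
  have hZ : center ↥T = ⊥ := by
    refine (center ↥T).normal_of_characteristic.eq_bot_or_eq_top.resolve_right fun htop => ?_
    haveI : Fact (Nat.Prime 7) := ⟨by norm_num⟩
    obtain ⟨a, ha⟩ := exists_prime_orderOf_dvd_card' (G := ↥T) 7 (by rw [hT]; norm_num)
    have hn : (zpowers a).Normal := ⟨fun n hn g => by
      rw [mem_center_iff.mp (htop ▸ mem_top n) g, mul_inv_cancel_right]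
      exact hn⟩
    rcases hn.eq_bot_or_eq_top with e | e
    · have : orderOf a = 1 := by rw [← Nat.card_zpowers, e, Subgroup.card_bot]
      omega
    · have : orderOf a = 6048 := by rw [← Nat.card_zpowers, e, Subgroup.card_top, hT]
      omega
  have hTC : ∀ x ∈ centralizer (T : Set G), x ∈ T → x = 1 := fun x hx hxT => by
    have : (⟨x, hxT⟩ : ↥T) ∈ center ↥T :=
      mem_center_iff.mpr fun g => Subtype.ext (mem_centralizer_iff.mp hx g g.2)
    rw [hZ, mem_bot] at this
    exact congrArg Subtype.val this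
  have hidx : T.index = 2 := by
    have h := T.card_mul_index
    rw [hT, hG] at h
    omega
  rw [eq_bot_iff]
  intro c hc
  rw [mem_bot]
  have hc2 : c * c = 1 := hTC _ (mul_mem hc hc) (T.mul_self_mem_of_index_two hidx c)
  have hcen : ∀ g : G, g * c = c * g := fun g => by
    refine mul_inv_eq_iff_eq_mul.mp (mul_inv_eq_one.mp (hTC (g * c * g⁻¹ * c⁻¹) ?_ ?_))
    · exact mul_mem ((inferInstance : (centralizer (T : Set G)).Normal).conj_mem c hc g)
        (inv_mem hc)
    · rw [hTdef, _root_.commutator_def G]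
      exact commutator_mem_commutator (mem_top g) (mem_top c)
  -- a central involution lies in the Borel subgroup
  have hC := ChevalleyAll.cert chevG2 (by simp)
  have S := ChevBruhatInstance.sys chevG2 (by simp) F
  obtain ⟨P, hP⟩ := ChevalleySylow.exists_sylow hC S 2
  have hp : IsPGroup 2 ↥(zpowers c) := by
    intro x
    obtain ⟨k, hk⟩ := mem_zpowers_iff.mp x.2
    refine ⟨1, Subtype.ext ?_⟩
    show (x : G) ^ (2 ^ 1) = 1
    rw [pow_one, sq, ← hk, ← (Commute.refl c).mul_zpow k, hc2, one_zpow]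
  obtain ⟨Q, hQ⟩ := hp.exists_le_sylow
  obtain ⟨g, hg⟩ := MulAction.exists_smul_eq G P Q
  have hcQ : c ∈ (Q : Subgroup G) := hQ (mem_zpowers c)
  rw [← hg, Sylow.coe_subgroup_smul] at hcQ
  obtain ⟨u, hu, hgu⟩ := hcQ
  have huc : u = c := by
    have e : g * u * g⁻¹ = c := hgu
    exact mul_left_cancel (mul_right_cancel
      (e.trans (by rw [hcen g, mul_inv_cancel_right]) : g * u * g⁻¹ = g * c * g⁻¹))
  have hcP : c ∈ (chevG2.posUnipotent F).subgroupOf (chevG2.group F) := by
    rw [← hP]
    exact huc ▸ hu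
  have hcore : c ∈ ((chevG2.borelSubgroup F).subgroupOf (chevG2.group F)).normalCore := by
    intro b
    rw [hcen b, mul_inv_cancel_right]
    exact (le_sup_left : chevG2.posUnipotent F ≤ chevG2.borelSubgroup F) hcP
  rwa [Cfsg.Agent.S1051.result chevG2 (by simp), mem_bot] at hcore

end Cfsg.Agent.G22Chev96
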