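import Cfsg.Agent.Lib.G22CharTools40
import Cfsg.Agent.Lib.BlockCount91
import Cfsg.Agent.Lib.G22Defs40

/-!
Fusion at the prime three in a simple group of order `6048` without elements of order nine, from
the values of the principal seven-block: the centre of a Sylow three-subgroup is weakly closed and
the other elements of order three have centralisers of order nine.
-/

set_option autoImplicit false
set_option linter.style.haveILetI false

open scoped ComplexConjugate

namespace Cfsg.Agent.G22Fusion40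

open Cfsg Cfsg.Agent.G22CharTools40

universe u

variable {T : Type u} [Group T] [Finite T] [IsSimpleGroup T]

/-- What the principal seven-block gives. -/
def BlockData (T : Type u) [Group T] [Finite T] : Prop :=
  ∃ (a b η : IrrCharacter T) (da db de : ℕ) (sa sb eps : ℤ),
   ((da = 6 ∧ sa = -1 ∧ db = 8 ∧ sb = 1 ∧ de = 3 ∧ eps = 1) ∨
    (da = 6 ∧ sa = -1 ∧ db = 27 ∧ sb = -1 ∧ de = 32 ∧ eps = -1) ∨
    (da = 8 ∧ sa = 1 ∧ db = 27 ∧ sb = -1 ∧ de = 18 ∧ eps = -1)) ∧
   (a : T → ℂ) 1 = da ∧ (b : T → ℂ) 1 = db ∧ (η : T → ℂ) 1 = de ∧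
   (∀ g : T, ¬ 7 ∣ orderOf g →
     (eps : ℂ) * (η : T → ℂ) g = 1 + sa * (a : T → ℂ) g + sb * (b : T → ℂ) g) ∧
   (db = 27 → ∀ g : T, 3 ∣ orderOf g → (b : T → ℂ) g = 0) ∧
   (∀ x y : T, orderOf x = 3 → orderOf y = 3 → ∃ n : ℕ,
     (n : ℂ) * (Nat.card (Subgroup.centralizer ({x} : Set T)) : ℂ) *
       Nat.card (Subgroup.centralizer ({y} : Set T)) =
     864 * (1 + sa * (a : T → ℂ) x * (a : T → ℂ) y / da + sb * (b : T → ℂ) x * (b : T → ℂ) y / db +
       (-eps) * (η : T → ℂ) x * (η : T → ℂ) y / de))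

section Basic

variable (hc : Nat.card T = 6048) (h9 : ∀ g : T, orderOf g ≠ 9)

include hc in
theorem noncomm : ¬ IsMulCommutative T :=
  SimpleOrder.not_comm_of_not_prime (G := T) (by rw [hc]; norm_num)

include hc in
theorem center_bot : Subgroup.center T = ⊥ := by
  rcases SimpleOrder.eq_bot_or_top (inferInstance : (Subgroup.center T).Normal) with h | h
  · exact h
  · exact absurd ⟨⟨fun a b => (Subgroup.mem_center_iff.1 (h ▸ Subgroup.mem_top b) a)⟩⟩ (noncomm hc)

include h9 in
theorem pow_three (P : Sylow 3 T) {x : T} (hx : x ∈ (P : Subgroup T)) : x ^ 3 = 1 := by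
  obtain ⟨k, hk⟩ := P.isPGroup' ⟨x, hx⟩
  have hk' : x ^ 3 ^ k = 1 := congrArg Subtype.val hk
  obtain ⟨i, hi, hord⟩ := (Nat.dvd_prime_pow Nat.prime_three).1 (orderOf_dvd_of_pow_eq_one hk')
  rcases Nat.lt_or_ge i 2 with h | h
  · exact orderOf_dvd_iff_pow_eq_one.1 (hord ▸ Nat.pow_dvd_pow 3 (by omega : i ≤ 1))
  · exfalso
    refine h9 (x ^ 3 ^ (i - 2)) ?_
    rw [orderOf_pow' x (pow_ne_zero _ (by norm_num)), hord,
      Nat.gcd_eq_right (Nat.pow_dvd_pow 3 (Nat.sub_le i 2)), Nat.pow_div (Nat.sub_le i 2) (by norm_num),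
      show i - (i - 2) = 2 by omega]

include hc in
theorem card_sylow (P : Sylow 3 T) : Nat.card (P : Subgroup T) = 27 := by
  haveI : Fact (Nat.Prime 3) := ⟨Nat.prime_three⟩
  have e : (6048 : ℕ) = 3 ^ 3 * 224 := by norm_num
  rw [P.card_eq_multiplicity, hc, e, Nat.factorization_mul (by norm_num) (by norm_num),
    Finsupp.add_apply, Nat.Prime.factorization_pow Nat.prime_three, Finsupp.single_eq_same,
    Nat.factorization_eq_zero_of_not_dvd (show ¬ 3 ∣ 224 by norm_num)]
  norm_num

/-- An irreducible character other than the principal one comes from a faithful representation. -/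
theorem exists_faithful {χ : IrrCharacter T} {d : ℕ} (hd : (χ : T → ℂ) 1 = d) (hd1 : d ≠ 1) :
    ∃ ρ : Representation ℂ T (Fin d → ℂ), ρ.IsIrreducible ∧ ρ.character = (χ : T → ℂ) ∧
      Function.Injective ρ := by
  haveI := Fintype.ofFinite T
  obtain ⟨n, ρ, hirr, hχ⟩ := χ.2
  have hn : n = d := by
    have h1 : ρ.character 1 = (d : ℂ) := hχ ▸ hd
    rw [Representation.char_one] at h1
    have h2 : Module.finrank ℂ (Fin n → ℂ) = d := by exact_mod_cast h1
    simpa using h2
  subst hn
  refine ⟨ρ, hirr, hχ, fun x y h => ?_⟩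
  by_contra hne
  have hu : x⁻¹ * y ≠ 1 := fun e => hne (inv_mul_eq_one.1 e)
  have h1 : (χ : T → ℂ) (x⁻¹ * y) = (χ : T → ℂ) 1 := by
    rw [← hχ]
    show LinearMap.trace ℂ _ (ρ (x⁻¹ * y)) = LinearMap.trace ℂ _ (ρ 1)
    rw [map_mul, ← h, ← map_mul, inv_mul_cancel]
  have h2 := BlockCount91.eq_one_of_fixes hu h1
  rw [h2] at hd
  exact hd1 (by exact_mod_cast (show ((n : ℕ) : ℂ) = 1 from hd.symm.trans rfl))

include hc in
theorem eq_one_of_scalar {d : ℕ} {ρ : Representation ℂ T (Fin d → ℂ)} (hρ : Function.Injective ρ)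
    {z : T} {c : ℂ} (hz : ρ z = c • LinearMap.id) : z = 1 := by
  have : z ∈ Subgroup.center T := Subgroup.mem_center_iff.2 fun g => hρ (by
    rw [map_mul, map_mul, hz]; ext v; simp)
  rwa [center_bot hc, Subgroup.mem_bot] at this

end Basic

/-- The fusion facts. -/
theorem facts (hc : Nat.card T = 6048) (h9 : ∀ g : T, orderOf g ≠ 9) (hD : BlockData T)
    (P : Sylow 3 T) :
    (∃ x ∈ (P : Subgroup T), ∃ y ∈ (P : Subgroup T), x * y ≠ y * x) ∧
    (∀ g z : T, z ∈ (P : Subgroup T) → (∀ p ∈ (P : Subgroup T), p * z = z * p) → z ≠ 1 →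
      g * z * g⁻¹ ∈ (P : Subgroup T) →
      ∀ p ∈ (P : Subgroup T), p * (g * z * g⁻¹) = (g * z * g⁻¹) * p) ∧
    (∀ x ∈ (P : Subgroup T), ¬ (∀ p ∈ (P : Subgroup T), p * x = x * p) →
      Nat.card (Subgroup.centralizer ({x} : Set T)) = 9) := by
  classical
  haveI := Fintype.ofFinite T
  haveI : Fact (Nat.Prime 3) := ⟨Nat.prime_three⟩
  obtain ⟨a, b, η, da, db, de, sa, sb, eps, hcase, ha, hb, he, hrel, hvan, hcount⟩ := hD
  have hP := card_sylow hc P
  have hexp := fun {x : T} (hx : x ∈ (P : Subgroup T)) => pow_three h9 P hx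
  have ho3 : ∀ {x : T}, x ∈ (P : Subgroup T) → x ≠ 1 → orderOf x = 3 :=
    fun hx hne => orderOf_eq_prime (hexp hx) hne
  have h7 : ∀ {x : T}, orderOf x = 3 → ¬ 7 ∣ orderOf x := fun h => by rw [h]; norm_num
  -- an element central in some Sylow subgroup exists
  haveI : Nontrivial (P : Subgroup T) := Finite.one_lt_card_iff_nontrivial.1 (by rw [hP]; norm_num)
  haveI := (IsPGroup.of_card (p := 3) (n := 3) (G := (P : Subgroup T))
    (by rw [hP]; norm_num)).center_nontrivial
  obtain ⟨⟨⟨z0, hz0P⟩, hz0c⟩, hz0⟩ := exists_ne (1 : Subgroup.center (P : Subgroup T))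
  have hz0ne : z0 ≠ 1 := fun e => hz0 (by ext; exact e)
  have hz0cen : ∀ p ∈ (P : Subgroup T), p * z0 = z0 * p := fun p hp =>
    congrArg Subtype.val (Subgroup.mem_center_iff.1 hz0c ⟨p, hp⟩)
  have hdvd : ∀ {z : T}, (∀ p ∈ (P : Subgroup T), p * z = z * p) →
      27 ∣ Nat.card (Subgroup.centralizer ({z} : Set T)) := fun hcen => by
    rw [← hP]
    exact Subgroup.card_dvd_of_le fun p hp => Subgroup.mem_centralizer_singleton_iff.2 (hcen p hp)
  -- the degree three is impossible
  rcases hcase with ⟨rfl, rfl, rfl, rfl, rfl, rfl⟩ | hAB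
  · exfalso
    obtain ⟨ρ, -, -, hρ⟩ := exists_faithful he (by norm_num)
    obtain ⟨h, hne, c, hh⟩ := exists_scalar (H := (P : Subgroup T)) hP
      (fun x => Subtype.ext (hexp x.2)) (MonoidHom.comp ρ (P : Subgroup T).subtype) (by simp)
      (hρ.comp Subtype.val_injective)
    exact hne (Subtype.ext (eq_one_of_scalar hc hρ (show ρ (h : T) = c • LinearMap.id from hh)))
  have hdb : db = 27 := by rcases hAB with h | h <;> exact h.2.2.1
  have hbz : ∀ {x : T}, orderOf x = 3 → (b : T → ℂ) x = 0 := fun h => hvan hdb _ (by rw [h])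
  have hsb : sb = -1 := by rcases hAB with h | h <;> exact h.2.2.2.1
  have heps : eps = -1 := by rcases hAB with h | h <;> exact h.2.2.2.2.2
  -- the equation for elements central in a Sylow subgroup
  have heq : ∀ {z : T}, orderOf z = 3 → 27 ∣ Nat.card (Subgroup.centralizer ({z} : Set T)) →
      ∃ N : ℕ, (N : ℂ) * 729 = 864 * (1 + sa * (a : T → ℂ) z * (a : T → ℂ) z / da +
        (1 + sa * (a : T → ℂ) z) * (1 + sa * (a : T → ℂ) z) / de) := by
    intro z hz hd
    obtain ⟨k, hk⟩ := hd
    obtain ⟨n, hn⟩ := hcount z z hz hz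
    have hη := hrel z (h7 hz)
    rw [hbz hz, mul_zero, add_zero, heps] at hη
    push_cast at hη
    refine ⟨n * k * k, ?_⟩
    rw [hk, hbz hz, heps, show (η : T → ℂ) z = -(1 + sa * (a : T → ℂ) z) by linear_combination -hη] at hn
    push_cast at hn ⊢
    linear_combination hn
  -- eigenvalues at an element of order three
  obtain ⟨ρ, -, hρχ, hρ⟩ := exists_faithful ha (by rcases hAB with h | h <;> omega)
  have heig : ∀ {z : T}, z ^ 3 = 1 → z ≠ 1 → ∃ m : ℕ, m ≤ da ∧
      2 * ((a : T → ℂ) z).re = 2 * (da : ℝ) - 3 * m ∧ m ≠ 0 ∧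
      (m = da → (a : T → ℂ) 1 + (a : T → ℂ) z + (a : T → ℂ) (z * z) = 0) := by
    intro z hz hne
    obtain ⟨bs, μ, hbs, hμ, -, hpow⟩ := CharBasic.exists_rep_eigenbasis ρ z
    have hμ3 : ∀ i, μ i ^ 3 = 1 := fun i => by
      rw [← orderOf_eq_prime hz hne]; exact hμ i
    obtain ⟨m, hm, hre, -, hall⟩ := cube_sum μ hμ3
    have hd : Fintype.card (Fin (Module.finrank ℂ (Fin da → ℂ))) = da := by simp
    have hval : ∀ k : ℕ, (a : T → ℂ) (z ^ k) = ∑ i, μ i ^ k := fun k => by rw [← hρχ]; exact hpow k
    refine ⟨m, hd ▸ hm, ?_, ?_, fun hm' => ?_⟩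
    · have := hval 1
      simp only [pow_one] at this
      rw [this, hre, hd]
    · rintro rfl
      have hone : ∀ i, μ i = 1 := by
        have h1 : (Finset.univ.filter fun i => μ i ≠ 1) = ∅ ∨ True := Or.inr trivial
        intro i
        by_contra hi
        have hsum : 2 * (∑ j, μ j).re < 2 * ∑ j : Fin (Module.finrank ℂ (Fin da → ℂ)), (1 : ℝ) := by
          rw [Complex.re_sum]
          refine (mul_lt_mul_iff_right₀ (by norm_num : (0:ℝ) < 2)).2 (Finset.sum_lt_sum (fun j _ => ?_) ⟨i, Finset.mem_univ _, ?_⟩)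
          · exact (Complex.re_le_norm _).trans (Complex.norm_eq_one_of_pow_eq_one (hμ3 j) (by norm_num)).le
          · refine lt_of_le_of_ne ((Complex.re_le_norm _).trans
              (Complex.norm_eq_one_of_pow_eq_one (hμ3 i) (by norm_num)).le) fun h => hi ?_
            have hn := Complex.norm_eq_one_of_pow_eq_one (hμ3 i) (by norm_num)
            have h8 := Complex.nonneg_iff.1 (Complex.re_eq_norm.1 (h.trans hn.symm))
            exact Complex.ext h (by simpa using h8.2.symm)
        rw [hre] at hsum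
        simp at hsum
      refine hne (hρ ?_)
      rw [map_one]
      exact bs.ext fun i => by rw [hbs, hone, one_smul]; rfl
    · have hs : ∀ i, μ i ^ 0 + μ i ^ 1 + μ i ^ 2 = 0 := fun i => by
        have h1 : (μ i - 1) * (μ i ^ 0 + μ i ^ 1 + μ i ^ 2) = 0 := by linear_combination hμ3 i
        exact (mul_eq_zero.1 h1).resolve_left (sub_ne_zero.2 (hall (by omega) i))
      have e0 := hval 0
      have e1 := hval 1
      have e2 := hval 2
      rw [pow_zero] at e0; rw [pow_one] at e1; rw [pow_two] at e2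
      rw [e0, e1, e2, ← Finset.sum_add_distrib, ← Finset.sum_add_distrib]
      exact Finset.sum_eq_zero fun i _ => hs i
  -- the value at such an element
  have hval : ∀ {z : T}, z ^ 3 = 1 → z ≠ 1 → 27 ∣ Nat.card (Subgroup.centralizer ({z} : Set T)) →
      da = 6 ∧ de = 32 ∧ sa = -1 ∧ (a : T → ℂ) z = -3 ∧
        (a : T → ℂ) 1 + (a : T → ℂ) z + (a : T → ℂ) (z * z) = 0 := by
    intro z hz hne hd
    obtain ⟨N, hN⟩ := heq (orderOf_eq_prime hz hne) hd
    obtain ⟨m, hm, hre, hm0, hzero⟩ := heig hz hne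
    set v := (a : T → ℂ) z with hv
    have hv' : v = (v.re : ℂ) + (v.im : ℂ) * Complex.I := (Complex.re_add_im v).symm
    rcases hAB with ⟨rfl, rfl, -, -, rfl, -⟩ | ⟨rfl, rfl, -, -, rfl, -⟩
    · push_cast at hN hre
      have hq : (N : ℂ) * 81 = 99 - 6 * v - 13 * v * v := by linear_combination hN / 9
      rw [hv'] at hq
      have e1 := congrArg Complex.re hq
      have e2 := congrArg Complex.im hq
      simp [Complex.mul_re, Complex.mul_im] at e1 e2
      have him : v.im = 0 := by
        have : v.im * (-6 - 26 * v.re) = 0 := by linarith [e2]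
        refine (mul_eq_zero.1 this).resolve_right fun h => ?_
        have : (39 * m : ℝ) = 162 := by linarith
        have : (39 * m : ℕ) = 162 := by exact_mod_cast this
        omega
      have hvm : v.re = 6 - 3 * (m : ℝ) / 2 := by linarith
      have h4 : m = 6 := by
        rw [him, hvm] at e1
        interval_cases m
        all_goals (try norm_num at e1 hm0 ⊢)
        all_goals
          first
            | (have : (0 : ℝ) ≤ N := Nat.cast_nonneg N; linarith)
            | (exfalso
               obtain h | h | h | h : N = 0 ∨ N = 1 ∨ N = 2 ∨ 3 ≤ N := by omega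
               all_goals (try subst h); (try norm_num at e1)
               have : (3 : ℝ) ≤ N := by exact_mod_cast h
               linarith)
      refine ⟨rfl, rfl, rfl, Complex.ext ?_ ?_, hzero h4⟩
      · rw [hvm, h4]; norm_num
      · simp [him]
    · exfalso
      push_cast at hN hre
      have hq : (N : ℂ) * 243 = 4 * (76 + 8 * v + 13 * v * v) := by linear_combination hN / 3
      rw [hv'] at hq
      have e1 := congrArg Complex.re hq
      have e2 := congrArg Complex.im hq
      simp [Complex.mul_re, Complex.mul_im] at e1 e2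
      have him : v.im = 0 := by
        have : v.im * (8 + 26 * v.re) = 0 := by linarith [e2]
        refine (mul_eq_zero.1 this).resolve_right fun h => ?_
        have : (39 * m : ℝ) = 216 := by linarith
        have : (39 * m : ℕ) = 216 := by exact_mod_cast this
        omega
      have hvm : v.re = 8 - 3 * (m : ℝ) / 2 := by linarith
      rw [him, hvm] at e1
      have e3 : ((243 * N + 24 * 32 + 48 * m * 0 : ℕ) : ℝ) = 243 * (N : ℝ) + 768 := by push_cast; ring
      interval_cases m <;> norm_num at e1 hm0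
      all_goals
        have hN' : (N : ℝ) < 30 := by linarith
        have hN'' : N < 30 := by exact_mod_cast hN'
        interval_cases N <;> norm_num at e1
  obtain ⟨h6, h32, hsa, hvz0, hzero0⟩ := hval (hexp hz0P) hz0ne (hdvd hz0cen)
  subst h6
  have hconj : ∀ g x : T, (a : T → ℂ) (g * x * g⁻¹) = (a : T → ℂ) x := fun g x => by
    rw [← hρχ]; exact Representation.char_conj ρ x g
  -- the group is not abelian
  have hnab : ∃ x ∈ (P : Subgroup T), ∃ y ∈ (P : Subgroup T), x * y ≠ y * x := by
    by_contra hab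
    push Not at hab
    obtain ⟨k, hk⟩ := ClassAlgebraVal.exists_sum_subgroup
      (ClassAlgebraVal.irr_isCharacter a) (P : Subgroup T)
    have hall : ∀ u : (P : Subgroup T), conj ((a : T → ℂ) u) = if u = 1 then 6 else -3 := by
      intro u
      by_cases hu : u = 1
      · subst hu; rw [if_pos rfl, Subgroup.coe_one, ha, map_natCast, Nat.cast_ofNat]
      · rw [if_neg hu, (hval (hexp u.2) (fun e => hu (Subtype.ext e))
          (hdvd fun p hp => hab p hp u u.2)).2.2.2.1]
        rw [map_neg, map_ofNat]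
    rw [Finset.sum_congr rfl fun u _ => hall u, Finset.sum_ite, Finset.sum_const, Finset.sum_const,
      Finset.filter_eq', if_pos (Finset.mem_univ _), Finset.card_singleton,
      Finset.filter_ne', Finset.card_erase_of_mem (Finset.mem_univ _), Finset.card_univ,
      ← Nat.card_eq_fintype_card, hP, nsmul_eq_mul, nsmul_eq_mul] at hk
    have hkre := congrArg Complex.re hk
    simp at hkre
    have : (0 : ℝ) ≤ k := Nat.cast_nonneg k
    linarith
  -- the centre has order three
  have hZ : ∀ {u : T}, u ∈ (P : Subgroup T) → (∀ p ∈ (P : Subgroup T), p * u = u * p) →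
      u = 1 ∨ u = z0 ∨ u = z0 * z0 := by
    obtain ⟨x, hx, y, hy, hxy⟩ := hnab
    intro u hu hucen
    haveI hne : ¬ IsCyclic ((P : Subgroup T) ⧸ Subgroup.center (P : Subgroup T)) := fun hcyc => hxy
      (congrArg Subtype.val ((commGroupOfCyclicCenterQuotient (QuotientGroup.mk' (Subgroup.center (P : Subgroup T)))
        (by rw [QuotientGroup.ker_mk'])).mul_comm ⟨x, hx⟩ ⟨y, hy⟩))
    have hcard : Nat.card (Subgroup.center (P : Subgroup T)) ∣ 3 := by
      have h1 := (Subgroup.center (P : Subgroup T)).card_mul_index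
      rw [hP] at h1
      obtain ⟨i, hi, hi'⟩ := (Nat.dvd_prime_pow Nat.prime_three (m := 3)).1
        (show (Subgroup.center (P : Subgroup T)).index ∣ 3 ^ 3 from ⟨_, (mul_comm _ _).trans h1 |>.symm⟩)
      have hi2 : 2 ≤ i := by
        by_contra hlt
        push Not at hlt
        refine hne ?_
        have hq : Nat.card ((P : Subgroup T) ⧸ Subgroup.center (P : Subgroup T)) = 3 ^ i := hi'
        interval_cases i
        · haveI : Subsingleton ((P : Subgroup T) ⧸ Subgroup.center (P : Subgroup T)) :=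
            (Nat.card_eq_one_iff_unique.1 (by simpa using hq)).1
          exact inferInstance
        · exact isCyclic_of_prime_card (p := 3) (by simpa using hq)
      rw [hi'] at h1
      interval_cases i
      · exact ⟨1, by omega⟩
      · exact ⟨3, by omega⟩
    have hord : orderOf (⟨⟨z0, hz0P⟩, hz0c⟩ : Subgroup.center (P : Subgroup T)) = 3 := by
      rw [← Subgroup.orderOf_coe, ← Subgroup.orderOf_coe]; exact ho3 hz0P hz0ne
    have hc3 : Nat.card (Subgroup.center (P : Subgroup T)) = 3 :=
      Nat.dvd_antisymm hcard (hord.symm.dvd.trans (orderOf_dvd_natCard _))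
    have htop : Subgroup.zpowers (⟨⟨z0, hz0P⟩, hz0c⟩ : Subgroup.center (P : Subgroup T)) = ⊤ :=
      Subgroup.eq_top_of_card_eq _ (by rw [Nat.card_zpowers, hord, hc3])
    have hmem : (⟨⟨u, hu⟩, Subgroup.mem_center_iff.2 fun p => Subtype.ext (hucen p p.2)⟩ :
        Subgroup.center (P : Subgroup T)) ∈ Subgroup.zpowers
        (⟨⟨z0, hz0P⟩, hz0c⟩ : Subgroup.center (P : Subgroup T)) := htop ▸ Subgroup.mem_top _
    obtain ⟨j, hj⟩ := (Submonoid.mem_powers_iff _ _).1 (mem_powers_iff_mem_zpowers.2 hmem)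
    have hj' : z0 ^ j = u := by simpa using congrArg (fun t => ((t.1 : (P : Subgroup T)) : T)) hj
    rw [← hj', ← pow_mod_orderOf, ho3 hz0P hz0ne]
    have : j % 3 < 3 := Nat.mod_lt _ (by norm_num)
    interval_cases h : j % 3 <;> simp [pow_two]
  -- vanishing outside the centre
  have hz2 : z0 * z0 ≠ 1 := fun e => by
    have := hexp hz0P
    rw [pow_succ, pow_two, e, one_mul] at this
    exact hz0ne this
  have hvanish : ∀ x ∈ (P : Subgroup T), ¬ (∀ p ∈ (P : Subgroup T), p * x = x * p) →
      (a : T → ℂ) x = 0 := by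
    intro x hx hxc
    push Not at hxc
    obtain ⟨p, hp, hpx⟩ := hxc
    have hsum := sum_coset ρ (hexp hz0P) (by rw [hρχ]; exact hzero0) (x := x)
    rw [hρχ] at hsum
    -- the commutator is central
    have hcomm : ∀ q : T, q ∈ (P : Subgroup T) → ∀ r ∈ (P : Subgroup T),
        r * (x⁻¹ * (q * x * q⁻¹)) = x⁻¹ * (q * x * q⁻¹) * r := by
      intro q hq r hr
      have hq2 : IsMulCommutative ((P : Subgroup T) ⧸ Subgroup.center (P : Subgroup T)) := by
        refine IsPGroup.isMulCommutative_of_card_eq_prime_sq (p := 3) ?_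
        have h1 := (Subgroup.center (P : Subgroup T)).card_mul_index
        rw [hP] at h1
        have hc3 : Nat.card (Subgroup.center (P : Subgroup T)) = 3 := by
          have hsub : (Set.univ : Set (Subgroup.center (P : Subgroup T))) ⊆
              {1, ⟨⟨z0, hz0P⟩, hz0c⟩, ⟨⟨z0, hz0P⟩, hz0c⟩ * ⟨⟨z0, hz0P⟩, hz0c⟩} := by
            rintro ⟨⟨u, hu⟩, huc⟩ -
            rcases hZ hu (fun p hp => congrArg Subtype.val (Subgroup.mem_center_iff.1 huc ⟨p, hp⟩))
              with rfl | rfl | rfl
            · exact Or.inl (by ext; rfl)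
            · exact Or.inr (Or.inl rfl)
            · exact Or.inr (Or.inr rfl)
          have hle : Nat.card (Subgroup.center (P : Subgroup T)) ≤ 3 := by
            rw [← Set.ncard_univ]
            refine (Set.ncard_le_ncard hsub).trans ?_
            refine (Set.ncard_insert_le _ _).trans (Nat.succ_le_succ ?_)
            exact (Set.ncard_insert_le _ _).trans (by simp)
          have hge : 1 < Nat.card (Subgroup.center (P : Subgroup T)) := Finite.one_lt_card
          have hd : Nat.card (Subgroup.center (P : Subgroup T)) ∣ 27 := ⟨_, h1.symm⟩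
          have : Nat.card (Subgroup.center (P : Subgroup T)) ≠ 2 := fun e => by
            rw [e] at hd; norm_num at hd
          omega
        rw [hc3] at h1
        show (Subgroup.center (P : Subgroup T)).index = 3 ^ 2
        omega
      have hmem : (⟨x, hx⟩ : (P : Subgroup T))⁻¹ * (⟨q, hq⟩ * ⟨x, hx⟩ * ⟨q, hq⟩⁻¹) ∈
          Subgroup.center (P : Subgroup T) := by
        rw [← QuotientGroup.eq_one_iff]
        simp only [QuotientGroup.mk_mul, QuotientGroup.mk_inv]
        rw [hq2.is_comm.comm (⟨q, hq⟩ : (P : Subgroup T))]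
        simp
      exact congrArg Subtype.val (Subgroup.mem_center_iff.1 hmem ⟨r, hr⟩)
    have hmemP : ∀ q ∈ (P : Subgroup T), x⁻¹ * (q * x * q⁻¹) ∈ (P : Subgroup T) := fun q hq =>
      mul_mem (inv_mem hx) (mul_mem (mul_mem hq hx) (inv_mem hq))
    have hall : (a : T → ℂ) (x * z0) = (a : T → ℂ) x ∧ (a : T → ℂ) (x * (z0 * z0)) = (a : T → ℂ) x := by
      have hw := hZ (hmemP p hp) (hcomm p hp)
      have hcz : p * z0 = z0 * p := hz0cen p hp
      have hone : x⁻¹ * (p * x * p⁻¹) ≠ 1 := fun e => hpx (by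
        rw [inv_mul_eq_one] at e
        calc p * x = (p * x * p⁻¹) * p := by group
          _ = x * p := by rw [← e])
      rcases hw with h | h | h
      · exact absurd h hone
      · have h1 : p * x * p⁻¹ = x * z0 := by rw [← h]; group
        have h2 : p * (x * z0) * p⁻¹ = x * (z0 * z0) := by
          rw [show p * (x * z0) * p⁻¹ = p * x * p⁻¹ * (p * z0 * p⁻¹) by group, hcz, h1]
          group
        exact ⟨by rw [← h1, hconj], by rw [← h2, hconj, ← h1, hconj]⟩
      · have h1 : p * x * p⁻¹ = x * (z0 * z0) := by rw [← h]; group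
        have h2 : p * (x * (z0 * z0)) * p⁻¹ = x * z0 := by
          have hzz : p * (z0 * z0) * p⁻¹ = z0 * z0 := by
            rw [show p * (z0 * z0) * p⁻¹ = (p * z0 * p⁻¹) * (p * z0 * p⁻¹) by group, hcz]; group
          rw [show p * (x * (z0 * z0)) * p⁻¹ = p * x * p⁻¹ * (p * (z0 * z0) * p⁻¹) by group, hzz, h1,
            mul_assoc, ← mul_assoc (z0 * z0)]
          have := hexp hz0P
          rw [pow_succ, pow_two] at this
          rw [this, one_mul]
        exact ⟨by rw [← h2, hconj, ← h1, hconj], by rw [← h1, hconj]⟩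
    rw [hall.1, hall.2] at hsum
    linear_combination hsum / 3
  refine ⟨hnab, fun g z hz hzc hz1 hgz p hp => ?_, fun x hx hxc => ?_⟩
  · by_contra hbad
    have h0 := hvanish _ hgz (fun h => hbad (h p hp))
    rw [hconj, (hval (hexp hz) hz1 (hdvd hzc)).2.2.2.1] at h0
    norm_num at h0
  · have hx1 : x ≠ 1 := fun e => hxc fun p _ => by rw [e, mul_one, one_mul]
    have hxo := ho3 hx hx1
    obtain ⟨n, hn⟩ := hcount x x hxo hxo
    have hη := hrel x (h7 hxo)
    rw [hbz hxo, hvanish x hx hxc, heps, h32] at *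
    push_cast at hη
    rw [show (η : T → ℂ) x = -1 by linear_combination -hη] at hn
    set C := Nat.card (Subgroup.centralizer ({x} : Set T)) with hCdef
    have h891 : ((n * C * C : ℕ) : ℂ) = ((891 : ℕ) : ℂ) := by push_cast; linear_combination hn
    have h891' : n * C * C = 891 := by exact_mod_cast h891
    -- nine divides the order of the centraliser
    let D : Subgroup T := (P : Subgroup T) ⊓ Subgroup.centralizer ({x} : Set T)
    have hDC : Nat.card D ∣ C := Subgroup.card_dvd_of_le inf_le_right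
    have hDP : Nat.card D ∣ 27 := hP ▸ Subgroup.card_dvd_of_le inf_le_left
    have hxD : x ∈ D := ⟨hx, Subgroup.mem_centralizer_singleton_iff.2 rfl⟩
    have hzD : z0 ∈ D := ⟨hz0P, Subgroup.mem_centralizer_singleton_iff.2 (hz0cen x hx).symm⟩
    have h4 : 3 < Nat.card D := by
      by_contra hle
      push Not at hle
      have hzp : Subgroup.zpowers z0 = D := Subgroup.eq_of_le_of_card_ge
        (Subgroup.zpowers_le.2 hzD) (by rw [Nat.card_zpowers, ho3 hz0P hz0ne]; exact hle)
      rw [← hzp] at hxD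
      obtain ⟨j, rfl⟩ := Subgroup.mem_zpowers_iff.1 hxD
      exact hxc fun p hp => ((show Commute p z0 from hz0cen p hp).zpow_right j).eq
    have h9' : 9 ∣ C := by
      obtain ⟨i, hi, hie⟩ := (Nat.dvd_prime_pow Nat.prime_three (m := 3)).1 hDP
      have : 2 ≤ i := by
        by_contra hlt
        have := Nat.pow_le_pow_right (show 1 ≤ 3 by norm_num) (show i ≤ 1 by omega)
        omega
      exact ((Nat.pow_dvd_pow 3 this).trans (hie ▸ hDC))
    obtain ⟨j, hj⟩ := h9'
    rw [hj] at h891'
    have h11 : n * (j * j) = 11 := by linarith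
    have hjle : j ≤ 11 := Nat.le_of_dvd (by norm_num) ⟨n * j, by linarith⟩
    interval_cases j <;> omega

end Cfsg.Agent.G22Fusion40
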