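import Cfsg.Agent.Lib.G22Defs40

/-!
The local structure at the prime three in the characterisation of `G2(2)` by element orders: a Sylow
`3`-subgroup is a trivial intersection subgroup with `28` conjugates.
-/

set_option autoImplicit false

namespace Cfsg.Agent.G22Local72

section Count

/-- If all point stabilisers have order `s` then the group order divides `(number of points) * s`. -/
theorem dvd_card_mul {α X : Type*} [Group α] [Finite α] [Finite X] [MulAction α X] (s : ℕ)
    (h : ∀ x : X, Nat.card (MulAction.stabilizer α x) = s) : Nat.card α ∣ Nat.card X * s := by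
  classical
  have := Fintype.ofFinite X
  have := Fintype.ofFinite (Quotient (MulAction.orbitRel α X))
  rw [Nat.card_congr (MulAction.selfEquivSigmaOrbits α X), Nat.card_sigma, Finset.sum_mul]
  refine Finset.dvd_sum fun ω _ => ?_
  rw [Nat.card_congr (MulAction.orbitEquivQuotientStabilizer α ω.out), ← h ω.out,
    ← Subgroup.card_eq_card_quotient_mul_card_subgroup]

variable {G : Type*} [Group G] [Finite G]

/-- The other Sylow subgroups under the action of a given one. -/
theorem others_dvd (P : Sylow 3 G) (s : ℕ)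
    (h : ∀ Q : Sylow 3 G, Q ≠ P → Nat.card ((P : Subgroup G) ⊓ Q : Subgroup G) = s) :
    Nat.card (P : Subgroup G) ∣ (Nat.card (Sylow 3 G) - 1) * s := by
  classical
  let Ω : SubMulAction (P : Subgroup G) (Sylow 3 G) :=
    { carrier := {Q | Q ≠ P}
      smul_mem' := fun p Q hQ e => by
        refine hQ ?_
        have hp : (p : G)⁻¹ • P = P :=
          Sylow.smul_eq_iff_mem_normalizer.2 (Subgroup.le_normalizer (inv_mem p.2))
        rw [← inv_smul_smul (p : G) Q, show (p : G) • Q = P from e, hp] }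
  have hst : ∀ x : Ω, Nat.card (MulAction.stabilizer (P : Subgroup G) x) = s := by
    intro x
    rw [SubMulAction.stabilizer_of_subMul, ← h x.1 x.2,
      ← Subgroup.card_map_of_injective (f := (P : Subgroup G).subtype)
        (K := MulAction.stabilizer (P : Subgroup G) (x : Sylow 3 G))
        (Subgroup.subtype_injective (P : Subgroup G))]
    refine congrArg (fun K : Subgroup G => Nat.card K) ?_
    rw [← P.2.inf_normalizer_sylow (x : Sylow 3 G)]
    ext g
    simp only [Subgroup.mem_map, MulAction.mem_stabilizer_iff, Subgroup.mem_inf]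
    constructor
    · rintro ⟨p, hp, rfl⟩
      exact ⟨p.2, Sylow.smul_eq_iff_mem_normalizer.1 hp⟩
    · rintro ⟨hg, hn⟩
      exact ⟨⟨g, hg⟩, Sylow.smul_eq_iff_mem_normalizer.2 hn, rfl⟩
  have hd := dvd_card_mul (α := (P : Subgroup G)) (X := Ω) s hst
  have hc : Nat.card Ω = Nat.card (Sylow 3 G) - 1 := by
    have := Fintype.ofFinite (Sylow 3 G)
    change Nat.card {Q : Sylow 3 G // Q ≠ P} = _
    rw [Nat.card_eq_fintype_card, Nat.card_eq_fintype_card, Fintype.card_subtype_compl,
      Fintype.card_subtype_eq]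
  rwa [hc] at hd

end Count

variable {G : Type*} [Group G] [Finite G] {T : Subgroup G}

theorem bad_T (h : G22Defs40.Hyp G T) {g : G} (hg : g ∈ T) :
    orderOf g ≠ 9 ∧ orderOf g ≠ 14 ∧ orderOf g ≠ 21 := by
  simpa [Subgroup.orderOf_mk] using h.bad ⟨g, hg⟩

/-- `z` centralises the subgroup `Q`. -/
def Cn (Q : Subgroup G) (z : G) : Prop := ∀ p ∈ Q, p * z = z * p

theorem index_T (h : G22Defs40.Hyp G T) : T.index = 2 := by
  have := T.card_mul_index
  rw [h.card, h.cardT] at this
  omega

theorem le_T (h : G22Defs40.Hyp G T) {Q : Subgroup G} (hQ : IsPGroup 3 Q) : Q ≤ T := by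
  intro x hx
  obtain ⟨k, hk⟩ := hQ ⟨x, hx⟩
  have hk' : x ^ (3 ^ k) = 1 := by simpa using congrArg Subtype.val hk
  obtain ⟨m, hm⟩ : ∃ m, 3 ^ k + 1 = 2 * m := by
    obtain ⟨r, hr⟩ : Odd (3 ^ k) := Odd.pow (by decide)
    exact ⟨r + 1, by omega⟩
  have : x = (x ^ 2) ^ m := by
    rw [← pow_mul, ← hm, pow_succ, hk', one_mul]
  rw [this]
  exact pow_mem (Subgroup.sq_mem_of_index_two (index_T h) x) m

theorem cardP (h : G22Defs40.Hyp G T) (P : Sylow 3 G) : Nat.card (P : Subgroup G) = 27 := by
  rw [P.card_eq_multiplicity, h.card, show (12096 : ℕ) = 3 ^ 3 * 448 by norm_num,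
    Nat.factorization_mul_apply_of_coprime (by norm_num),
    Nat.Prime.factorization_pow (by norm_num), Finsupp.single_eq_same,
    Nat.factorization_eq_zero_of_not_dvd (by norm_num)]
  norm_num

theorem exists_conj_mem (h : G22Defs40.Hyp G T) (P Q : Sylow 3 G) :
    ∃ t ∈ T, ∀ x, x ∈ (Q : Subgroup G) ↔ t * x * t⁻¹ ∈ (P : Subgroup G) := by
  obtain ⟨t, ht⟩ := MulAction.exists_smul_eq T (Q.subtype (le_T h Q.2)) (P.subtype (le_T h P.2))
  refine ⟨t, t.2, fun x => ⟨fun hx => ?_, fun hx => ?_⟩⟩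
  · have hxT := le_T h Q.2 hx
    have : t * ⟨x, hxT⟩ * t⁻¹ ∈ (P.subtype (le_T h P.2) : Subgroup T) := by
      rw [← ht, Sylow.coe_subgroup_smul, ← MulAut.conj_apply]
      exact Subgroup.smul_mem_pointwise_smul _ _ _ hx
    exact this
  · have hxT : x ∈ T := by
      have h1 := le_T h P.2 hx
      have h2 := T.mul_mem (T.mul_mem (T.inv_mem t.2) h1) t.2
      simpa [mul_assoc] using h2
    have h3 : t * ⟨x, hxT⟩ * t⁻¹ ∈ (P.subtype (le_T h P.2) : Subgroup T) := hx
    rw [← ht, Sylow.coe_subgroup_smul, ← MulAut.conj_apply] at h3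
    exact (Subgroup.smul_mem_pointwise_smul_iff (a := MulAut.conj t)
      (S := (Q.subtype (le_T h Q.2) : Subgroup T))).1 h3

/-- The hypothesis on the Sylow subgroups of `T`, read in `G`. -/
structure Loc (P : Sylow 3 G) : Prop where
  nonab : ∃ x ∈ (P : Subgroup G), ∃ y ∈ (P : Subgroup G), x * y ≠ y * x
  zcl : ∀ g ∈ T, ∀ z ∈ (P : Subgroup G), Cn (P : Subgroup G) z → z ≠ 1 →
    g * z * g⁻¹ ∈ (P : Subgroup G) → Cn (P : Subgroup G) (g * z * g⁻¹)
  cent : ∀ x ∈ (P : Subgroup G), ¬ Cn (P : Subgroup G) x →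
    Nat.card (T ⊓ Subgroup.centralizer ({x} : Set G) : Subgroup G) = 9

variable {P Q : Sylow 3 G}

theorem central_both (h : G22Defs40.Hyp G T) (hP : Loc (T := T) P) {z : G}
    (hz : z ∈ (P : Subgroup G)) (hc : Cn (P : Subgroup G) z) (hz1 : z ≠ 1)
    (hzQ : z ∈ (Q : Subgroup G)) : Cn (Q : Subgroup G) z := by
  obtain ⟨t, ht, he⟩ := exists_conj_mem h P Q
  have h1 := hP.zcl t ht z hz hc hz1 ((he z).1 hzQ)
  intro p hp
  have h2 := h1 (t * p * t⁻¹) ((he p).1 hp)
  have h3 : t * (p * z) * t⁻¹ = t * (z * p) * t⁻¹ := by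
    simpa [mul_assoc] using h2
  simpa using h3

theorem centralizer_eq (h : G22Defs40.Hyp G T) (hP : Loc (T := T) P) {x : G}
    (hx : x ∈ (P : Subgroup G)) (hn : ¬ Cn (P : Subgroup G) x) :
    (P : Subgroup G) ⊓ Subgroup.centralizer ({x} : Set G) =
      T ⊓ Subgroup.centralizer ({x} : Set G) := by
  have hPT := le_T h P.2
  refine Subgroup.eq_of_le_of_card_ge (inf_le_inf_right _ hPT) ?_
  rw [hP.cent x hx hn]
  -- the centraliser in `P` of a non-central element has order at least nine
  have hsub : ¬ Nat.card ((P : Subgroup G) ⊓ Subgroup.centralizer ({x} : Set G) : Subgroup G) < 9 := by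
    intro hlt
    have hdvd := Subgroup.card_dvd_of_le
      (show (P : Subgroup G) ⊓ Subgroup.centralizer ({x} : Set G) ≤ P from inf_le_left)
    rw [cardP h P] at hdvd
    have hxm : x ∈ (P : Subgroup G) ⊓ Subgroup.centralizer ({x} : Set G) :=
      ⟨hx, Subgroup.mem_centralizer_singleton_iff.2 rfl⟩
    haveI := Fact.mk (show Nat.Prime 3 by norm_num)
    haveI : Nontrivial (P : Subgroup G) :=
      Finite.one_lt_card_iff_nontrivial.1 (by rw [cardP h P]; norm_num)
    haveI := P.2.center_nontrivial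
    obtain ⟨⟨c, hc⟩, hc1⟩ := exists_ne (1 : Subgroup.center (P : Subgroup G))
    have hcP : Cn (P : Subgroup G) (c : G) := fun p hp =>
      congrArg Subtype.val (Subgroup.mem_center_iff.1 hc ⟨p, hp⟩)
    have hcm : (c : G) ∈ (P : Subgroup G) ⊓ Subgroup.centralizer ({x} : Set G) :=
      ⟨c.2, Subgroup.mem_centralizer_singleton_iff.2 ((hcP x hx).symm)⟩
    have hx1 : x ≠ 1 := fun e => hn (by subst e; intro p _; simp)
    have h3 : Nat.card ((P : Subgroup G) ⊓ Subgroup.centralizer ({x} : Set G) : Subgroup G) = 3 := by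
      obtain ⟨i, hi, e⟩ := (Nat.dvd_prime_pow (p := 3) (m := 3) (by norm_num)).1 (by simpa using hdvd)
      replace e : Nat.card ((P : Subgroup G) ⊓ Subgroup.centralizer ({x} : Set G) : Subgroup G) =
        3 ^ i := e
      rw [e] at hlt
      interval_cases i
      · exfalso
        rw [pow_zero, Subgroup.card_eq_one] at e
        rw [e, Subgroup.mem_bot] at hxm
        exact hx1 hxm
      · exact e
      · norm_num at hlt
      · norm_num at hlt
    have hprime : Nat.card ((P : Subgroup G) ⊓ Subgroup.centralizer ({x} : Set G) : Subgroup G) =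
      3 := h3
    have hz : Subgroup.zpowers (c : G) = (P : Subgroup G) ⊓ Subgroup.centralizer ({x} : Set G) := by
      refine Subgroup.eq_of_le_of_card_ge (Subgroup.zpowers_le.2 hcm) ?_
      rw [hprime, Nat.card_zpowers]
      have hd := Subgroup.card_dvd_of_le (Subgroup.zpowers_le.2 hcm)
      rw [hprime, Nat.card_zpowers] at hd
      rcases (Nat.dvd_prime (by norm_num)).1 hd with e | e
      · rw [orderOf_eq_one_iff] at e
        exact absurd (Subtype.ext (Subtype.ext e)) hc1
      · rw [e]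
    obtain ⟨i, hi⟩ := Subgroup.mem_zpowers_iff.1 (hz ▸ hxm)
    refine hn fun p hp => ?_
    rw [← hi]
    exact (Commute.zpow_right (hcP p hp) i)
  omega

theorem exists_comm_eq (h : G22Defs40.Hyp G T) (hP : Loc (T := T) P) {x : G}
    (hx : x ∈ (P : Subgroup G)) (hn : ¬ Cn (P : Subgroup G) x) :
    (∀ p ∈ (P : Subgroup G), Cn (P : Subgroup G) (p * x * p⁻¹ * x⁻¹)) ∧
      ∀ c ∈ (P : Subgroup G), Cn (P : Subgroup G) c →
        (∃ q ∈ (P : Subgroup G), q * x * q⁻¹ * x⁻¹ = c) ∧
          ∀ z ∈ (P : Subgroup G), Cn (P : Subgroup G) z → z ≠ 1 → c ∈ Subgroup.zpowers z := by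
  haveI := Fact.mk (show Nat.Prime 3 by norm_num)
  haveI : Nontrivial (P : Subgroup G) :=
    Finite.one_lt_card_iff_nontrivial.1 (by rw [cardP h P]; norm_num)
  haveI := P.2.center_nontrivial
  let X : (P : Subgroup G) := ⟨x, hx⟩
  have hcn : ∀ c : (P : Subgroup G), c ∈ Subgroup.center (P : Subgroup G) ↔
      Cn (P : Subgroup G) (c : G) := fun c =>
    ⟨fun hc p hp => congrArg Subtype.val (Subgroup.mem_center_iff.1 hc ⟨p, hp⟩),
      fun hc => Subgroup.mem_center_iff.2 fun p => Subtype.ext (hc p p.2)⟩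
  have hcard : Nat.card (Subgroup.center (P : Subgroup G)) = 3 := by
    have hd := Subgroup.card_subgroup_dvd_card (Subgroup.center (P : Subgroup G))
    rw [cardP h P] at hd
    have hgt : 1 < Nat.card (Subgroup.center (P : Subgroup G)) :=
      Finite.one_lt_card_iff_nontrivial.2 inferInstance
    have h9 := hP.cent x hx hn
    rw [← centralizer_eq h hP hx hn] at h9
    have hlt : Nat.card (Subgroup.center (P : Subgroup G)) < 9 := by
      rw [← h9, ← Subgroup.card_map_of_injective (f := (P : Subgroup G).subtype)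
        (K := Subgroup.center (P : Subgroup G))
        (Subgroup.subtype_injective (P : Subgroup G))]
      have hle : (Subgroup.center (P : Subgroup G)).map (P : Subgroup G).subtype ≤
          (P : Subgroup G) ⊓ Subgroup.centralizer ({x} : Set G) := by
        rintro _ ⟨c, hc, rfl⟩
        exact ⟨c.2, Subgroup.mem_centralizer_singleton_iff.2 (((hcn c).1 hc x hx).symm)⟩
      refine lt_of_le_of_ne (Subgroup.card_le_of_le hle) fun e => hn ?_
      have he := Subgroup.eq_of_le_of_card_ge hle e.ge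
      obtain ⟨c, hc, hce⟩ : x ∈ (Subgroup.center (P : Subgroup G)).map (P : Subgroup G).subtype := by
        rw [he]; exact ⟨hx, Subgroup.mem_centralizer_singleton_iff.2 rfl⟩
      exact hce ▸ (hcn c).1 hc
    obtain ⟨i, hi, e⟩ := (Nat.dvd_prime_pow (p := 3) (m := 3) (by norm_num)).1 (by simpa using hd)
    rw [e] at hgt hlt ⊢
    interval_cases i <;> simp_all
  have hq : Nat.card ((P : Subgroup G) ⧸ Subgroup.center (P : Subgroup G)) = 3 ^ 2 := by
    have h1 := Subgroup.card_eq_card_quotient_mul_card_subgroup (Subgroup.center (P : Subgroup G))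
    rw [cardP h P, hcard] at h1
    norm_num; omega
  have hcl : ∀ p : (P : Subgroup G), p * X * p⁻¹ * X⁻¹ ∈ Subgroup.center (P : Subgroup G) := by
    intro p
    haveI := IsPGroup.isMulCommutative_of_card_eq_prime_sq hq
    rw [← QuotientGroup.eq_one_iff]
    simp only [QuotientGroup.mk_mul, QuotientGroup.mk_inv]
    rw [mul_comm' (p : (P : Subgroup G) ⧸ Subgroup.center (P : Subgroup G))]
    group
  refine ⟨fun p hp => (hcn _).1 (hcl ⟨p, hp⟩), fun c hc hcc => ⟨?_, fun z hz hzc hz1 => ?_⟩⟩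
  swap
  · haveI : Fact (Nat.card (Subgroup.center (P : Subgroup G))).Prime := ⟨by rw [hcard]; norm_num⟩
    let Z : Subgroup.center (P : Subgroup G) := ⟨⟨z, hz⟩, (hcn _).2 hzc⟩
    obtain ⟨i, hi⟩ := Subgroup.mem_zpowers_iff.1 (mem_zpowers_of_prime_card (g := Z)
      (g' := ⟨⟨c, hc⟩, (hcn _).2 hcc⟩) rfl (fun e => hz1 (congrArg (fun u : Subgroup.center
        (P : Subgroup G) => ((u : (P : Subgroup G)) : G)) e)))
    exact ⟨i, by simpa [Z] using congrArg (fun u : Subgroup.center (P : Subgroup G) =>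
      ((u : (P : Subgroup G)) : G)) hi⟩
  let φ : (P : Subgroup G) →* Subgroup.center (P : Subgroup G) :=
    MonoidHom.mk' (fun p => ⟨p * X * p⁻¹ * X⁻¹, hcl p⟩) fun p q => Subtype.ext <| by
      have hq' := Subgroup.mem_center_iff.1 (hcl q) p
      change p * q * X * (p * q)⁻¹ * X⁻¹ = p * X * p⁻¹ * X⁻¹ * (q * X * q⁻¹ * X⁻¹)
      rw [Subgroup.mem_center_iff.1 (hcl q) (p * X * p⁻¹ * X⁻¹)]
      calc p * q * X * (p * q)⁻¹ * X⁻¹ = p * (q * X * q⁻¹ * X⁻¹) * X * p⁻¹ * X⁻¹ := by group
        _ = q * X * q⁻¹ * X⁻¹ * p * X * p⁻¹ * X⁻¹ := by rw [hq']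
        _ = _ := by group
  have htop : φ.range = ⊤ := by
    haveI : Fact (Nat.card (Subgroup.center (P : Subgroup G))).Prime := ⟨by rw [hcard]; norm_num⟩
    refine (φ.range.eq_bot_or_eq_top_of_prime_card).resolve_left fun hb => hn ?_
    intro p hp
    have h1 : φ ⟨p, hp⟩ = 1 := by
      rw [← Subgroup.mem_bot, ← hb]
      exact ⟨_, rfl⟩
    have h2 : p * x * p⁻¹ * x⁻¹ = 1 :=
      congrArg (fun u : Subgroup.center (P : Subgroup G) => ((u : (P : Subgroup G)) : G)) h1
    calc p * x = (p * x * p⁻¹ * x⁻¹) * (x * p) := by group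
      _ = x * p := by rw [h2, one_mul]
  obtain ⟨q, hq'⟩ : (⟨⟨c, hc⟩, (hcn _).2 hcc⟩ : Subgroup.center (P : Subgroup G)) ∈ φ.range := by
    rw [htop]; trivial
  exact ⟨q, q.2, congrArg (fun u : Subgroup.center (P : Subgroup G) => ((u : (P : Subgroup G)) : G)) hq'⟩

/-- Sylow subgroups sharing a non-central element coincide. -/
theorem eq_of_noncentral (h : G22Defs40.Hyp G T) (hl : ∀ R : Sylow 3 G, Loc (T := T) R) {x : G}
    (hx : x ∈ (P : Subgroup G)) (hn : ¬ Cn (P : Subgroup G) x) (hxQ : x ∈ (Q : Subgroup G)) :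
    P = Q := by
  have hx1 : x ≠ 1 := fun e => hn (by subst e; intro p _; simp)
  have hnQ : ¬ Cn (Q : Subgroup G) x := fun hc => hn (central_both h (hl Q) hxQ hc hx1 hx)
  have key : ∀ R S : Sylow 3 G, x ∈ (R : Subgroup G) → ¬ Cn (R : Subgroup G) x →
      x ∈ (S : Subgroup G) → ¬ Cn (S : Subgroup G) x →
      ∀ c ∈ (R : Subgroup G), Cn (R : Subgroup G) c →
        c ∈ (S : Subgroup G) ∧ Cn (S : Subgroup G) c := by
    intro R S hR hnR hS hnS c hc hcR
    have hmem : c ∈ T ⊓ Subgroup.centralizer ({x} : Set G) := by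
      rw [← centralizer_eq h (hl R) hR hnR]
      exact ⟨hc, Subgroup.mem_centralizer_singleton_iff.2 ((hcR x hR).symm)⟩
    rw [← centralizer_eq h (hl S) hS hnS] at hmem
    refine ⟨hmem.1, ?_⟩
    rcases eq_or_ne c 1 with rfl | hc1
    · intro p _; simp
    · exact central_both h (hl R) hc hcR hc1 hmem.1
  have hle : (Q : Subgroup G) ≤ P := by
    intro p hp
    obtain ⟨hc, hcP⟩ := key Q P hxQ hnQ hx hn _
      (mul_mem (mul_mem (mul_mem hp hxQ) (inv_mem hp)) (inv_mem hxQ))
      ((exists_comm_eq h (hl Q) hxQ hnQ).1 p hp)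
    obtain ⟨q, hq, he⟩ := ((exists_comm_eq h (hl P) hx hn).2 _ hc hcP).1
    have h1 : q * x * q⁻¹ = p * x * p⁻¹ := mul_right_cancel he
    have hm : q⁻¹ * p ∈ T ⊓ Subgroup.centralizer ({x} : Set G) :=
      ⟨T.mul_mem (T.inv_mem (le_T h P.2 hq)) (le_T h Q.2 hp),
        Subgroup.mem_centralizer_singleton_iff.2 (by
          calc q⁻¹ * p * x = q⁻¹ * (p * x * p⁻¹) * p := by group
            _ = q⁻¹ * (q * x * q⁻¹) * p := by rw [h1]
            _ = x * (q⁻¹ * p) := by group)⟩
    rw [← centralizer_eq h (hl P) hx hn] at hm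
    have hm1 : q⁻¹ * p ∈ (P : Subgroup G) := hm.1
    simpa using mul_mem hq hm1
  exact (Sylow.ext (Subgroup.eq_of_le_of_card_ge hle (by rw [cardP h P, cardP h Q]))).symm

/-- Sylow subgroups with non-trivial intersection coincide. -/
theorem eq_of_meet (h : G22Defs40.Hyp G T) (hl : ∀ R : Sylow 3 G, Loc (T := T) R) {z : G}
    (hz : z ∈ (P : Subgroup G)) (hz1 : z ≠ 1) (hzQ : z ∈ (Q : Subgroup G)) : P = Q := by
  by_cases hc : Cn (P : Subgroup G) z
  swap
  · exact eq_of_noncentral h hl hz hc hzQ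
  by_contra hne
  haveI := Fact.mk (show Nat.Prime 3 by norm_num)
  have hcQ := central_both h (hl P) hz hc hz1 hzQ
  obtain ⟨C, hC⟩ : ∃ C : Subgroup G, C = T ⊓ Subgroup.centralizer ({z} : Set G) := ⟨_, rfl⟩
  have hle : ∀ R : Sylow 3 G, Cn (R : Subgroup G) z → (R : Subgroup G) ≤ C := fun R hR p hp => by
    rw [hC]
    exact ⟨le_T h R.2 hp, Subgroup.mem_centralizer_singleton_iff.2 (hR p hp)⟩
  have hzC : z ∈ C := hle P hc hz
  let P' : Sylow 3 C := P.subtype (hle P hc)
  let Q' : Sylow 3 C := Q.subtype (hle Q hcQ)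
  have hne' : Q' ≠ P' := fun e => hne <| Sylow.ext <| le_antisymm
    (fun p hp => by
      have h1 : (⟨p, hle P hc hp⟩ : C) ∈ (P' : Subgroup C) := hp
      rw [← e] at h1
      exact h1)
    (fun p hp => by
      have h1 : (⟨p, hle Q hcQ hp⟩ : C) ∈ (Q' : Subgroup C) := hp
      rw [e] at h1
      exact h1)
  have hzord : orderOf z = 3 := by
    have hd : orderOf z ∣ 3 ^ 3 := by
      have := orderOf_dvd_natCard (⟨z, hz⟩ : (P : Subgroup G))
      rw [cardP h P, Subgroup.orderOf_mk] at this
      simpa using this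
    obtain ⟨k, hk, e⟩ := (Nat.dvd_prime_pow (by norm_num)).1 hd
    have hzT := le_T h P.2 hz
    interval_cases k
    · exact absurd (orderOf_eq_one_iff.1 (by simpa using e)) hz1
    · simpa using e
    · exact absurd (by simpa using e) (bad_T h hzT).1
    · exfalso
      apply (bad_T h (pow_mem hzT 3)).1
      rw [orderOf_pow, e]
      norm_num
  have hcP : Nat.card (P' : Subgroup C) = 27 := by
    rw [show (P' : Subgroup C) = (P : Subgroup G).subgroupOf C from rfl,
      Nat.card_congr (Subgroup.subgroupOfEquivOfLe (hle P hc)).toEquiv, cardP h P]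
  -- every other Sylow subgroup of `C` meets `P'` in the centre
  have hs : ∀ R : Sylow 3 C, R ≠ P' →
      Nat.card ((P' : Subgroup C) ⊓ R : Subgroup C) = 3 := by
    intro R hR
    have hRc : Nat.card ((R : Subgroup C).map C.subtype) = 27 := by
      rw [Subgroup.card_map_of_injective C.subtype_injective, R.card_eq_multiplicity,
        ← P'.card_eq_multiplicity, hcP]
    let R' : Sylow 3 G := Sylow.ofCard ((R : Subgroup C).map C.subtype) (by
      rw [hRc, ← P.card_eq_multiplicity, cardP h P])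
    have hR' : ∀ u : C, (u : G) ∈ (R' : Subgroup G) ↔ u ∈ (R : Subgroup C) := fun u => by
      change (u : G) ∈ (R : Subgroup C).map C.subtype ↔ _
      exact Subgroup.mem_map_iff_mem C.subtype_injective
    have hzR : (⟨z, hzC⟩ : C) ∈ (R : Subgroup C) := by
      have hn : (Subgroup.zpowers (⟨z, hzC⟩ : C)).Normal := by
        refine ⟨fun u hu g => ?_⟩
        obtain ⟨i, rfl⟩ := Subgroup.mem_zpowers_iff.1 hu
        have hcm : Commute g (⟨z, hzC⟩ : C) := by
          apply Subtype.ext
          have hg := g.2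
          simp only [hC, Subgroup.mem_inf, Subgroup.mem_centralizer_singleton_iff] at hg
          exact hg.2
        rw [(hcm.zpow_right i).eq, mul_inv_cancel_right]
        exact ⟨i, rfl⟩
      have hp : IsPGroup 3 (Subgroup.zpowers (⟨z, hzC⟩ : C)) :=
        IsPGroup.of_card (n := 1) (by rw [Nat.card_zpowers, Subgroup.orderOf_mk, hzord, pow_one])
      exact hp.le_sylow_of_normal R (Subgroup.mem_zpowers _)
    have heq : (P' : Subgroup C) ⊓ R = Subgroup.zpowers (⟨z, hzC⟩ : C) := by
      refine le_antisymm (fun u hu => ?_) (Subgroup.zpowers_le.2 ⟨hz, hzR⟩)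
      have hu1 : (u : G) ∈ (P : Subgroup G) := hu.1
      by_cases hcu : Cn (P : Subgroup G) (u : G)
      · -- the centre of `P` is generated by `z`
        obtain ⟨x, hx, y, hy, hxy⟩ := (hl P).nonab
        have hnx : ¬ Cn (P : Subgroup G) x := fun hh => hxy (hh y hy).symm
        obtain ⟨i, hi⟩ :=
          ((exists_comm_eq h (hl P) hx hnx).2 (u : G) hu1 hcu).2 z hz hc hz1
        exact ⟨i, Subtype.ext (by simpa using hi)⟩
      · exact absurd (Sylow.ext (by
          ext v
          rw [← hR' v, ← eq_of_noncentral h hl hu1 hcu ((hR' u).2 hu.2)]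
          rfl)) hR
    rw [heq, Nat.card_zpowers, Subgroup.orderOf_mk, hzord]
  have hd := others_dvd P' 3 hs
  rw [hcP] at hd
  have hi := Sylow.card_dvd_index P'
  have hidx : (P' : Subgroup C).index ∣ 32 := by
    have h1 := (P' : Subgroup C).card_mul_index
    rw [hcP] at h1
    have h2 : Nat.card C ∣ 27 * 224 := by
      have := Subgroup.card_dvd_of_le (show C ≤ T by rw [hC]; exact inf_le_left)
      rwa [h.cardT] at this
    rw [← h1] at h2
    have h224 := Nat.dvd_of_mul_dvd_mul_left (by norm_num) h2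
    have h7 : ¬ 7 ∣ (P' : Subgroup C).index := fun h7 => by
      haveI := Fact.mk (show Nat.Prime 7 by norm_num)
      obtain ⟨s, hs7⟩ := exists_prime_orderOf_dvd_card' (G := C) 7
        (h7.trans ((P' : Subgroup C).index_dvd_card))
      have hsg : orderOf (s : G) = 7 := by rw [Subgroup.orderOf_coe, hs7]
      have hcm : Commute (s : G) z := by
        have hg := s.2
        simp only [hC, Subgroup.mem_inf, Subgroup.mem_centralizer_singleton_iff] at hg
        exact hg.2
      have hsT : (s : G) * z ∈ T := by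
        have hg := s.2
        simp only [hC, Subgroup.mem_inf] at hg
        exact mul_mem hg.1 (le_T h P.2 hz)
      refine (bad_T h hsT).2.2 ?_
      rw [hcm.orderOf_mul_eq_mul_orderOf_of_coprime (by rw [hsg, hzord]; norm_num), hsg, hzord]
    exact (Nat.Coprime.dvd_of_dvd_mul_right ((Nat.Prime.coprime_iff_not_dvd (by norm_num)).2 h7).symm
      (by simpa using h224 : (P' : Subgroup C).index ∣ 32 * 7))
  have h32 := hi.trans hidx
  have h2 : 1 < Nat.card (Sylow 3 C) :=
    Finite.one_lt_card_iff_nontrivial.2 ⟨⟨Q', P', hne'⟩⟩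
  obtain ⟨j, hj, e⟩ := (Nat.dvd_prime_pow (p := 2) (m := 5) (by norm_num)).1 (by simpa using h32)
  rw [e] at hd h2
  interval_cases j <;> simp_all <;> omega

theorem subgroupOf_not_normal (h : G22Defs40.Hyp G T) (P : Sylow 3 G) :
    ¬ ((P : Subgroup G).subgroupOf T).Normal := by
  intro hn
  haveI := h.simple
  haveI := hn
  have hc : Nat.card ((P : Subgroup G).subgroupOf T) = 27 := by
    rw [Nat.card_congr (Subgroup.subgroupOfEquivOfLe (le_T h P.2)).toEquiv, cardP h P]
  rcases hn.eq_bot_or_eq_top with e | e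
  · rw [e, Subgroup.card_bot] at hc
    norm_num at hc
  · rw [e, Subgroup.card_top, h.cardT] at hc
    norm_num at hc

/-- Piece C of the characterisation of `G2(2)`. -/
theorem exists_borel {G : Type*} [Group G] [Finite G] {T : Subgroup G} (h : G22Defs40.Hyp G T)
    (hf : ∀ P : Sylow 3 T, (∃ x ∈ (P : Subgroup T), ∃ y ∈ (P : Subgroup T), x * y ≠ y * x) ∧
      (∀ g z : T, z ∈ (P : Subgroup T) → (∀ p ∈ (P : Subgroup T), p * z = z * p) → z ≠ 1 →
        g * z * g⁻¹ ∈ (P : Subgroup T) →
        ∀ p ∈ (P : Subgroup T), p * (g * z * g⁻¹) = (g * z * g⁻¹) * p) ∧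
      (∀ x ∈ (P : Subgroup T), ¬ (∀ p ∈ (P : Subgroup T), p * x = x * p) →
        Nat.card (Subgroup.centralizer ({x} : Set T)) = 9)) :
    ∃ P : Subgroup G, G22Defs40.Borel G P := by
  classical
  haveI := Fact.mk (show Nat.Prime 3 by norm_num)
  have hl : ∀ R : Sylow 3 G, Loc (T := T) R := by
    intro R
    have hRT := le_T h R.2
    obtain ⟨⟨x, hx, y, hy, hxy⟩, h2, h3⟩ := hf (R.subtype hRT)
    refine ⟨⟨x, hx, y, hy, fun e => hxy (Subtype.ext e)⟩, fun g hg z hz hc hz1 hgz => ?_,
      fun u hu hn => ?_⟩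
    · intro p hp
      exact congrArg Subtype.val (h2 ⟨g, hg⟩ ⟨z, hRT hz⟩ hz
        (fun p hp => Subtype.ext (hc p hp)) (fun e => hz1 (congrArg Subtype.val e)) hgz
        ⟨p, hRT hp⟩ hp)
    · have h4 := h3 ⟨u, hRT hu⟩ hu fun hh => hn fun p hp =>
        congrArg Subtype.val (hh ⟨p, hRT hp⟩ hp)
      rw [← h4, ← Subgroup.card_map_of_injective (f := T.subtype)
        (K := Subgroup.centralizer ({(⟨u, hRT hu⟩ : T)} : Set T)) T.subtype_injective]
      refine congrArg (fun K : Subgroup G => Nat.card K) ?_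
      ext g
      simp only [Subgroup.mem_inf, Subgroup.mem_map, Subgroup.mem_centralizer_singleton_iff]
      constructor
      · rintro ⟨hg, hgu⟩
        exact ⟨⟨g, hg⟩, Subtype.ext hgu, rfl⟩
      · rintro ⟨g', hg', rfl⟩
        exact ⟨g'.2, congrArg Subtype.val hg'⟩
  obtain ⟨P⟩ : Nonempty (Sylow 3 G) := inferInstance
  have hexp : ∀ x ∈ (P : Subgroup G), x ^ 3 = 1 := by
    intro x hx
    have hd : orderOf x ∣ 3 ^ 3 := by
      have := orderOf_dvd_natCard (⟨x, hx⟩ : (P : Subgroup G))
      rw [cardP h P, Subgroup.orderOf_mk] at this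
      simpa using this
    obtain ⟨k, hk, e⟩ := (Nat.dvd_prime_pow (by norm_num)).1 hd
    have hxT := le_T h P.2 hx
    rw [← orderOf_dvd_iff_pow_eq_one, e]
    interval_cases k
    · norm_num
    · norm_num
    · exact absurd (by simpa using e) (bad_T h hxT).1
    · exfalso
      apply (bad_T h (pow_mem hxT 3)).1
      rw [orderOf_pow, e]
      norm_num
  have hmeet : ∀ Q : Sylow 3 G, Q ≠ P → (P : Subgroup G) ⊓ Q = ⊥ := fun Q hQ =>
    (Subgroup.eq_bot_iff_forall _).2 fun z hz => by
      by_contra hz1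
      exact hQ (eq_of_meet h hl hz.1 hz1 hz.2).symm
  have hd := others_dvd P 1 fun Q hQ => by rw [hmeet Q hQ, Subgroup.card_bot]
  rw [cardP h P, mul_one] at hd
  have hidx : (P : Subgroup G).index = 448 := by
    have := (P : Subgroup G).card_mul_index
    rw [cardP h P, h.card] at this
    omega
  have hn1 : Nat.card (Sylow 3 G) ≠ 1 := fun e => by
    have hN := Sylow.card_eq_index_normalizer P
    rw [e] at hN
    haveI : (P : Subgroup G).Normal :=
      Subgroup.normalizer_eq_top_iff.1 (Subgroup.index_eq_one.1 hN.symm)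
    exact subgroupOf_not_normal h P inferInstance
  have hn : Nat.card (Sylow 3 G) = 28 := by
    have hdiv := Sylow.card_dvd_index P
    rw [hidx, show (448 : ℕ) = 2 ^ 6 * 7 by norm_num] at hdiv
    obtain ⟨a, b, ha, hb, hab⟩ := Nat.dvd_mul.1 hdiv
    obtain ⟨i, hi, rfl⟩ := (Nat.dvd_prime_pow (by norm_num)).1 ha
    rw [← hab] at hd hn1 ⊢
    rcases (Nat.dvd_prime (by norm_num)).1 hb with rfl | rfl <;> interval_cases i <;>
      revert hd hn1 <;> norm_num
  have hindex : (Subgroup.normalizer (P : Set G)).index = 28 := by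
    rw [← hn]; exact (Sylow.card_eq_index_normalizer P).symm
  have hti : ∀ g : G, ∀ x ∈ (P : Subgroup G), x ≠ 1 → g * x * g⁻¹ ∈ (P : Subgroup G) →
      g ∈ Subgroup.normalizer ((P : Subgroup G) : Set G) := by
    intro g x hx hx1 hgx
    refine Sylow.smul_eq_iff_mem_normalizer.1 ?_
    refine (eq_of_meet h hl hgx (fun e => hx1 (conj_eq_one_iff.1 e)) ?_).symm
    rw [Sylow.coe_subgroup_smul, ← MulAut.conj_apply]
    exact Subgroup.smul_mem_pointwise_smul _ _ _ hx
  have hcore : (Subgroup.normalizer ((P : Subgroup G) : Set G)).normalCore = ⊥ := by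
    obtain ⟨K, hK⟩ : ∃ K, K = (Subgroup.normalizer ((P : Subgroup G) : Set G)).normalCore := ⟨_, rfl⟩
    rw [← hK]
    haveI hKn : K.Normal := by rw [hK]; infer_instance
    haveI := h.simple
    haveI := h.normal
    have hKle : K ≤ Subgroup.normalizer ((P : Subgroup G) : Set G) := by
      rw [hK]; exact Subgroup.normalCore_le _
    rcases (inferInstance : (K.subgroupOf T).Normal).eq_bot_or_eq_top with e | e
    · refine (Subgroup.eq_bot_iff_forall _).2 fun k hk => ?_
      have hkc : k ∈ Subgroup.centralizer (T : Set G) := by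
        refine Subgroup.mem_centralizer_iff.2 fun t ht => ?_
        have h1 : t * k * t⁻¹ * k⁻¹ ∈ K := mul_mem (hKn.conj_mem k hk t) (inv_mem hk)
        have h2 : t * k * t⁻¹ * k⁻¹ ∈ T := by
          have := mul_mem ht (h.normal.conj_mem t⁻¹ (inv_mem ht) k)
          simpa [mul_assoc] using this
        have h3 : (⟨_, h2⟩ : T) ∈ K.subgroupOf T := h1
        rw [e, Subgroup.mem_bot] at h3
        have h4 : t * k * t⁻¹ * k⁻¹ = 1 := congrArg Subtype.val h3
        calc t * k = (t * k * t⁻¹ * k⁻¹) * (k * t) := by group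
          _ = k * t := by rw [h4, one_mul]
      rw [h.cent] at hkc
      simpa using hkc
    · exfalso
      refine subgroupOf_not_normal h P ⟨fun n hnP t => ?_⟩
      exact ((Subgroup.mem_normalizer_iff.1 (hKle (Subgroup.subgroupOf_eq_top.1 e t.2))) _).1 hnP
  have hcent : Subgroup.centralizer ((P : Subgroup G) : Set G) ≤ (P : Subgroup G) := by
    obtain ⟨x, hx, y, hy, hxy⟩ := (hl P).nonab
    have hnx : ¬ Cn (P : Subgroup G) x := fun hh => hxy (hh y hy).symm
    have hT : ∀ c ∈ Subgroup.centralizer ((P : Subgroup G) : Set G), c ∈ T → c ∈ (P : Subgroup G) := by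
      intro c hc hcT
      have : c ∈ T ⊓ Subgroup.centralizer ({x} : Set G) :=
        ⟨hcT, Subgroup.mem_centralizer_singleton_iff.2 ((Subgroup.mem_centralizer_iff.1 hc x hx).symm)⟩
      rw [← centralizer_eq h (hl P) hx hnx] at this
      exact this.1
    intro c hc
    by_contra hcP
    have hcT : c ∉ T := fun e => hcP (hT c hc e)
    have hc2T : c ^ 2 ∈ T := Subgroup.sq_mem_of_index_two (index_T h) c
    have hc2 : c ^ 2 ∈ (P : Subgroup G) := hT _ (pow_mem hc 2) hc2T
    obtain ⟨d, hd'⟩ : ∃ d, d = c ^ 3 := ⟨_, rfl⟩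
    have hdd : d * d = 1 := by
      rw [hd', ← pow_add, show 3 + 3 = 2 * 3 by norm_num, pow_mul]
      exact hexp _ hc2
    have hdc : d ∈ Subgroup.centralizer ((P : Subgroup G) : Set G) := hd' ▸ pow_mem hc 3
    have hdP : d • P = P := Sylow.smul_eq_iff_mem_normalizer.2 (Subgroup.mem_normalizer_iff.2 fun p =>
      ⟨fun hp => by
        rw [← Subgroup.mem_centralizer_iff.1 hdc p hp, mul_inv_cancel_right]; exact hp,
      fun hp => by
        have hq := Subgroup.mem_centralizer_iff.1 hdc _ hp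
        have : p = d * p * d⁻¹ := by
          calc p = d⁻¹ * ((d * p * d⁻¹) * d) := by group
            _ = d⁻¹ * (d * (d * p * d⁻¹)) := by rw [hq]
            _ = d * p * d⁻¹ := by group
        exact this ▸ hp⟩)
    have hfix : ∀ Q : Sylow 3 G, d • Q = Q := by
      intro Q
      by_cases hQ : Q = P
      · rw [hQ, hdP]
      have hne : ∀ p : (P : Subgroup G), (p : G) • Q ≠ P := fun p e => hQ (by
        rw [← inv_smul_smul (p : G) Q, e]
        exact Sylow.smul_eq_iff_mem_normalizer.2 (Subgroup.le_normalizer (inv_mem p.2)))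
      let f : ↥(P : Subgroup G) → {R : Sylow 3 G // R ≠ P} := fun p => ⟨(p : G) • Q, hne p⟩
      have hfree : ∀ g ∈ (P : Subgroup G), g • Q = Q → g = 1 := by
        intro g hg e
        have : g ∈ (P : Subgroup G) ⊓ Subgroup.normalizer (Q : Set G) :=
          ⟨hg, Sylow.smul_eq_iff_mem_normalizer.1 e⟩
        rw [P.2.inf_normalizer_sylow Q, hmeet Q hQ, Subgroup.mem_bot] at this
        exact this
      have hf1 : Function.Injective f := fun p q e => by
        have e' : (p : G) • Q = (q : G) • Q := congrArg Subtype.val e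
        have := hfree _ (mul_mem (inv_mem q.2) p.2) (by rw [mul_smul, e', inv_smul_smul])
        exact Subtype.ext (inv_mul_eq_one.1 this).symm
      have hf2 : Function.Bijective f := by
        refine (Nat.bijective_iff_injective_and_card f).2 ⟨hf1, ?_⟩
        have := Fintype.ofFinite (Sylow 3 G)
        rw [cardP h P, Nat.card_eq_fintype_card, Fintype.card_subtype_compl,
          Fintype.card_subtype_eq, ← Nat.card_eq_fintype_card, hn]
      have hdQ : d • Q ≠ P := fun e => hQ (by
        rw [← inv_smul_smul d Q, e]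
        nth_rewrite 1 [← hdP]
        rw [inv_smul_smul])
      obtain ⟨p, hp⟩ := hf2.2 ⟨d • Q, hdQ⟩
      have hp' : (p : G) • Q = d • Q := congrArg Subtype.val hp
      have h2 : ((p : G) * p) • Q = Q := by
        calc ((p : G) * p) • Q = ((p : G) * d) • Q := by rw [mul_smul, hp', mul_smul]
          _ = (d * p) • Q := by rw [Subgroup.mem_centralizer_iff.1 hdc p p.2]
          _ = (d * d) • Q := by rw [mul_smul, hp', mul_smul]
          _ = Q := by rw [hdd, one_smul]
      have h3 := hfree _ (mul_mem p.2 p.2) h2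
      have h4 : (p : G) = 1 := by
        have := hexp p p.2
        rw [pow_succ, pow_two, h3, one_mul] at this
        exact this
      rw [← hp', h4, one_smul]
    have hdK : d ∈ (Subgroup.normalizer ((P : Subgroup G) : Set G)).normalCore := fun b =>
      Sylow.smul_eq_iff_mem_normalizer.1 (by rw [mul_smul, mul_smul, hfix, smul_inv_smul])
    rw [hcore, Subgroup.mem_bot] at hdK
    refine hcT ?_
    rw [hdK] at hd'
    have : c = (c ^ 2)⁻¹ := eq_inv_of_mul_eq_one_left (by rw [← pow_succ']; exact hd'.symm)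
    rw [this]
    exact inv_mem hc2T
  obtain ⟨x, hx, y, hy, hxy⟩ := (hl P).nonab
  exact ⟨P, ⟨h.card, cardP h P, hexp, ⟨x, hx, y, hy, hxy⟩, hindex, hti, hcent, hcore⟩⟩

end Cfsg.Agent.G22Local72
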