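import Cfsg.Agent.Lib.G22Fusion40
import Cfsg.Agent.Lib.G22Block86
import Cfsg.Agent.Lib.G22Local72

/-!
From an almost simple group of order `12096` to its Borel configuration at the prime three.
-/

set_option autoImplicit false
set_option linter.style.haveILetI false

namespace Cfsg.Agent.G22Main40

variable {G : Type*} [Group G] [Finite G]

/-- The Borel configuration. -/
theorem exists_borel {T : Subgroup G} (h : G22Defs40.Hyp G T) :
    ∃ P : Subgroup G, G22Defs40.Borel G P := by
  haveI := h.simple
  haveI := Fintype.ofFinite T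
  exact G22Local72.exists_borel h fun P => G22Fusion40.facts h.cardT (fun g => (h.bad g).1)
    (G22Block86.exists_data h.cardT fun g => (h.bad g).2) P

/-- In an extension of degree two, elements of odd order lie in the subgroup. -/
theorem mem_of_odd {T : Subgroup G} (h : G22Defs40.Hyp G T) {g : G} (hg : Odd (orderOf g)) : g ∈ T := by
  have hi : T.index = 2 := by
    have := T.card_mul_index
    rw [h.card, h.cardT] at this
    omega
  obtain ⟨k, hk⟩ := hg
  have h2 : g * g ∈ T := Subgroup.mul_self_mem_of_index_two hi g
  have h1 : g = (g * g) ^ (k + 1) := by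
    rw [← pow_two, ← pow_mul, show 2 * (k + 1) = (2 * k + 1) + 1 by ring, pow_succ, ← hk,
      pow_orderOf_eq_one, one_mul]
  rw [h1]
  exact pow_mem h2 _

/-- No element of order `9` or `21`. -/
theorem no_nine {T : Subgroup G} (h : G22Defs40.Hyp G T) (g : G) :
    orderOf g ≠ 9 ∧ orderOf g ≠ 21 := by
  constructor <;> intro hg <;>
    [exact (h.bad ⟨g, mem_of_odd h (hg ▸ by decide)⟩).1 ((Subgroup.orderOf_coe _).symm.trans hg);
     exact (h.bad ⟨g, mem_of_odd h (hg ▸ by decide)⟩).2.2 ((Subgroup.orderOf_coe _).symm.trans hg)]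

end Cfsg.Agent.G22Main40
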