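import Cfsg.Agent.Lib.SimpleRangeLowMain81

/-!
Among the orders `2016`, `4032`, `6048`, `12096`, only `6048` is the order of a simple group without
elements of order `14` or `21`.
-/

set_option autoImplicit false
set_option linter.style.haveILetI false
set_option Elab.async false

namespace Cfsg.Agent.G22Orders88

open Cfsg Cfsg.Agent.BlockPrime86 Cfsg.Agent.BlockPrincipal81 Cfsg.Agent.BlockCount91
  Cfsg.Agent.SimpleOrder Cfsg.Agent.SimpleOrderCheck Cfsg.Agent.SimpleSearch

variable {G : Type*} [Group G] [Finite G]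

/-- An element of prime order `r ≠ 7` commuting with an element of order `7` gives order `7 * r`. -/
theorem orderOf_mul_of_commute {x y : G} {r : ℕ} (hr : r.Prime) (hr7 : r ≠ 7) (hx : orderOf x = r)
    (hy : orderOf y = 7) (h : Commute x y) : orderOf (x * y) = r * 7 := by
  rw [h.orderOf_mul_eq_mul_orderOf_of_coprime
    (by rw [hx, hy]; exact (Nat.coprime_primes hr (by norm_num)).2 hr7), hx, hy]

theorem centralizer_sylow_coprime (hb : ∀ g : G, orderOf g ≠ 14 ∧ orderOf g ≠ 21) {P : Subgroup G}
    (hP : Nat.card ↥P = 7) {r : ℕ} (hr : r = 2 ∨ r = 3) :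
    ¬ r ∣ Nat.card ↥(Subgroup.centralizer (P : Set G)) := by
  intro hd
  have hrp : r.Prime := by rcases hr with rfl | rfl <;> norm_num
  haveI := Fact.mk hrp
  haveI : Fact (Nat.Prime 7) := ⟨by norm_num⟩
  obtain ⟨x, hx⟩ := exists_prime_orderOf_dvd_card' r hd
  obtain ⟨y, hy⟩ := exists_prime_orderOf_dvd_card' (G := ↥P) 7 (by rw [hP])
  have hxy : Commute (x : G) (y : G) :=
    (Subgroup.mem_centralizer_iff.1 x.2 (y : G) y.2).symm
  have ho := orderOf_mul_of_commute hrp (by omega) (by rw [Subgroup.orderOf_coe, hx])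
    (by rw [Subgroup.orderOf_coe, hy]) hxy
  rcases hr with rfl | rfl
  · exact (hb _).1 (by rw [ho])
  · exact (hb _).2 (by rw [ho])

theorem kill_1 : killB 12096 7 1728 (6 * 1) = true := by decide +kernel

theorem kill_2 : killB 12096 7 1728 (6 * 2) = true := by decide +kernel

theorem kill_3 : killB 12096 7 1728 (6 * 3) = true := by decide +kernel

theorem kill_4 : killB 12096 7 1728 (6 * 4) = true := by decide +kernel

theorem kill_6 : killB 12096 7 1728 (6 * 6) = true := by decide +kernel

theorem kill_8 : killB 12096 7 1728 (6 * 8) = true := by decide +kernel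

theorem kill_9 : killB 12096 7 1728 (6 * 9) = true := by decide +kernel

theorem kill_12 : killB 12096 7 1728 (6 * 12) = true := by decide +kernel

theorem kill_16 : killB 12096 7 1728 (6 * 16) = true := by decide +kernel

theorem kill_18 : killB 12096 7 1728 (6 * 18) = true := by decide +kernel

theorem kill_24 : killB 12096 7 1728 (6 * 24) = true := by decide +kernel

theorem kill_32 : killB 12096 7 1728 (6 * 32) = true := by decide +kernel

theorem kill_36 : killB 12096 7 1728 (6 * 36) = true := by decide +kernel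

theorem kill_48 : killB 12096 7 1728 (6 * 48) = true := by decide +kernel

theorem kill_72 : killB 12096 7 1728 (6 * 72) = true := by decide +kernel

theorem kill_96 : killB 12096 7 1728 (6 * 96) = true := by decide +kernel

theorem kill_144 : killB 12096 7 1728 (6 * 144) = true := by decide +kernel

theorem kill_288 : killB 12096 7 1728 (6 * 288) = true := by decide +kernel

/-- No admissible centraliser order of an involution inverting an element of order seven. -/
theorem kills_12096 :
    ∀ j ∈ List.range 289, 1728 % (6 * j) = 0 → killB 12096 7 1728 (6 * j) = true := by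
  intro j hj hd
  have key : ∀ j ∈ List.range 289, 1728 % (6 * j) = 0 → j ∈ ([1, 2, 3, 4, 6, 8, 9, 12, 16, 18, 24, 32, 36, 48, 72, 96, 144, 288] : List ℕ) := by decide +kernel
  have h := key j hj hd
  simp only [List.mem_cons, List.not_mem_nil, or_false] at h
  rcases h with rfl | rfl | rfl | rfl | rfl | rfl | rfl | rfl | rfl | rfl | rfl | rfl | rfl | rfl | rfl | rfl | rfl | rfl
  · exact kill_1
  · exact kill_2
  · exact kill_3
  · exact kill_4
  · exact kill_6
  · exact kill_8
  · exact kill_9
  · exact kill_12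
  · exact kill_16
  · exact kill_18
  · exact kill_24
  · exact kill_32
  · exact kill_36
  · exact kill_48
  · exact kill_72
  · exact kill_96
  · exact kill_144
  · exact kill_288

theorem ne_12096 [IsSimpleGroup G] (hb : ∀ g : G, orderOf g ≠ 14 ∧ orderOf g ≠ 21) :
    Nat.card G ≠ 12096 := by
  intro hn
  have hG := not_comm_of_not_prime (G := G) (by rw [hn]; norm_num)
  haveI := Fintype.ofFinite G
  haveI : Fact (Nat.Prime 7) := ⟨by norm_num⟩
  obtain ⟨M, hM⟩ := ZStarCount.exists_isPModular 7 (by norm_num)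
  obtain ⟨P⟩ : Nonempty (Sylow 7 G) := inferInstance
  have hP : Nat.card ↥(P : Subgroup G) = 7 :=
    sylow_card_of_once (by rw [hn]) (by rw [hn]; decide) P
  have hd := mem_cand hG (p := 7) (v := 1) (m := 1728) Nat.one_pos (by rw [hn]; rfl) (by norm_num)
  obtain ⟨e, he, hC, hN⟩ := exists_eList hG P hP
  rw [hn] at hd he hC hN
  set d := Nat.card (Sylow 7 G) with hdd
  have hall : ∀ d ∈ cand 12096 7 1728, ∀ e ∈ eList 12096 7 d,
      (12096 / d / e) % 2 = 0 ∨ (12096 / d / e) % 3 = 0 ∨ (d = 288 ∧ e = 6) := by decide +kernel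
  rcases hall d hd e he with h | h | ⟨hd288, he6⟩
  · exact centralizer_sylow_coprime hb hP (.inl rfl) (hC ▸ Nat.dvd_of_mod_eq_zero h)
  · exact centralizer_sylow_coprime hb hP (.inr rfl) (hC ▸ Nat.dvd_of_mod_eq_zero h)
  subst he6
  rw [hd288] at hC hN
  have hC7 : Nat.card ↥(Subgroup.centralizer ((P : Subgroup G) : Set G)) = 7 := hC.symm
  have hrel := SmallOrders91.relIndex_eq (P := P) (e := 6) (by rw [hC7, ← hN])
  obtain ⟨y, hy, hy1, t, ht, hinv, h3⟩ := SimpleRangeLow81.exists_inverting_six hP hrel hC7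
  obtain ⟨c, hc⟩ : ∃ c, Nat.card ↥(Subgroup.centralizer ({t} : Set G)) = c := ⟨_, rfl⟩
  have h7 : ¬ 7 ∣ c := by
    intro h
    rw [← hc] at h
    obtain ⟨x, hx⟩ := exists_prime_orderOf_dvd_card' 7 h
    refine (hb (t * (x : G))).1 ?_
    rw [orderOf_mul_of_commute Nat.prime_two (by norm_num) ht (by rw [Subgroup.orderOf_coe, hx])
      (Subgroup.mem_centralizer_singleton_iff.1 x.2).symm]
  have h2 : 2 ∣ c := hc ▸ ht ▸ Subgroup.orderOf_dvd_natCard _
    (Subgroup.mem_centralizer_singleton_iff.2 rfl)
  rw [hc] at h3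
  have hd1 : c ∣ 1728 := by
    have h : c ∣ 7 * 1728 := by
      rw [show 7 * 1728 = Nat.card G by rw [hn], ← hc]
      exact Subgroup.card_subgroup_dvd_card _
    exact (Nat.Coprime.dvd_mul_left (((Fact.out : Nat.Prime 7).coprime_iff_not_dvd.2 h7).symm)).1 h
  have kills : ∀ j ∈ List.range 289, 1728 % (6 * j) = 0 → killB 12096 7 1728 (6 * j) = true :=
    kills_12096
  obtain ⟨j, rfl⟩ : 6 ∣ c := Nat.Coprime.mul_dvd_of_dvd_of_dvd (by norm_num : Nat.Coprime 2 3) h2 h3
  have hj : j ≤ 288 := by have := Nat.le_of_dvd (by norm_num) hd1; omega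
  exact false_of_killB hG hM hP hn (by norm_num) hrel hC7 hy hy1 ht hinv hc
    (kills j (List.mem_range.2 (by omega)) (Nat.mod_eq_zero_of_dvd hd1))

/-- The only possible order. -/
theorem card_eq {T : Type*} [Group T] [Finite T] [IsSimpleGroup T]
    (hb : ∀ g : T, orderOf g ≠ 14 ∧ orderOf g ≠ 21)
    (hc : Nat.card T = 2016 ∨ Nat.card T = 4032 ∨ Nat.card T = 6048 ∨ Nat.card T = 12096) :
    Nat.card T = 6048 := by
  rcases hc with h | h | h | h
  · exfalso
    have hG := not_comm_of_not_prime (G := T) (by rw [h]; norm_num)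
    rcases SimpleRangeLow81.card_low hG (by omega) (by omega) with e | e | e <;> omega
  · exfalso
    have hG := not_comm_of_not_prime (G := T) (by rw [h]; norm_num)
    rcases S0983.result hG (by omega) (by omega) with e | e | e | e <;> omega
  · exact h
  · exact absurd h (ne_12096 hb)

end Cfsg.Agent.G22Orders88
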