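import Cfsg.Agent.Lib.G22Defs40

/-!
A group of order `12096` without elements of order `9`, `14`, `21` has a simple normal subgroup with
trivial centraliser.
-/

set_option autoImplicit false
set_option linter.style.haveILetI false

namespace Cfsg.Agent.G22Reduce40

variable {G : Type*} [Group G] [Finite G]

/-- Among the normal subgroups of order prime to seven one contains all the others. -/
theorem exists_core (H : Type*) [Group H] [Finite H] :
    ∃ K : Subgroup H, K.Normal ∧ ¬ 7 ∣ Nat.card K ∧
      ∀ M : Subgroup H, M.Normal → ¬ 7 ∣ Nat.card M → M ≤ K := by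
  have hne : {K : Subgroup H | K.Normal ∧ ¬ 7 ∣ Nat.card K}.Nonempty :=
    ⟨⊥, inferInstance, by rw [Subgroup.card_bot]; norm_num⟩
  obtain ⟨K, ⟨hKn, hK7⟩, hmax⟩ :=
    Set.Finite.exists_maximalFor (fun K : Subgroup H => Nat.card K) _ (Set.toFinite _) hne
  refine ⟨K, hKn, hK7, fun M hMn hM7 => ?_⟩
  haveI := hKn
  haveI := hMn
  have hd : Nat.card (K ⊔ M : Subgroup H) ∣ Nat.card K * Nat.card M := by
    rw [← Subgroup.relIndex_bot_left, ← Subgroup.relIndex_mul_relIndex ⊥ K (K ⊔ M) bot_le le_sup_left,
      Subgroup.relIndex_bot_left, sup_comm, Subgroup.relIndex_sup_right]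
    exact mul_dvd_mul_left _ ((Subgroup.relIndex_dvd_card _ _))
  have h7 : ¬ 7 ∣ Nat.card (K ⊔ M : Subgroup H) := fun h => by
    rcases (Nat.Prime.dvd_mul (by norm_num)).1 (h.trans hd) with h' | h'
    · exact hK7 h'
    · exact hM7 h'
  have hle : Nat.card K ≤ Nat.card (K ⊔ M : Subgroup H) :=
    Nat.le_of_dvd Nat.card_pos (Subgroup.card_dvd_of_le le_sup_left)
  have h2 := hmax (show K ⊔ M ∈ _ from ⟨inferInstance, h7⟩) hle
  have : K = K ⊔ M := Subgroup.eq_of_le_of_card_ge le_sup_left h2
  exact le_sup_right.trans this.ge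

variable (hc : Nat.card G = 12096) (hb : G22Defs40.NoBad G)

include hc hb in
theorem centralizer_seven {x : G} (hx : orderOf x = 7) :
    Subgroup.centralizer ({x} : Set G) = Subgroup.zpowers x := by
  haveI : Fact (Nat.Prime 7) := ⟨by norm_num⟩
  refine le_antisymm (fun c hcx => ?_)
    (Subgroup.zpowers_le.2 (Subgroup.mem_centralizer_singleton_iff.2 rfl))
  have hcom : Commute c x := Subgroup.mem_centralizer_singleton_iff.1 hcx
  have hbad : ∀ q, q = 2 ∨ q = 3 → ¬ q ∣ orderOf c := by
    intro q hq hdvd
    have hq0 : 0 < orderOf c := orderOf_pos c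
    set d := c ^ (orderOf c / q) with hd
    have hdo : orderOf d = q := by
      rw [hd, orderOf_pow_orderOf_div hq0.ne' hdvd]
    have hdc : Commute d x := hcom.pow_left _
    have ho : orderOf (d * x) = q * 7 := by
      rw [hdc.orderOf_mul_eq_mul_orderOf_of_coprime (by rw [hdo, hx]; rcases hq with rfl | rfl <;> norm_num),
        hdo, hx]
    rcases hq with rfl | rfl
    · exact (hb (d * x)).2.1 ho
    · exact (hb (d * x)).2.2 ho
  have hd7 : orderOf c ∣ 7 := by
    have h : orderOf c ∣ 7 * (2 ^ 6 * 3 ^ 3) := by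
      have := orderOf_dvd_natCard c
      rw [hc] at this; exact this
    refine (Nat.Coprime.dvd_of_dvd_mul_right ?_ h)
    refine Nat.Coprime.mul_right (Nat.Coprime.pow_right _ ?_) (Nat.Coprime.pow_right _ ?_)
    · exact ((Nat.Prime.coprime_iff_not_dvd Nat.prime_two).2 (hbad 2 (Or.inl rfl))).symm
    · exact ((Nat.Prime.coprime_iff_not_dvd Nat.prime_three).2 (hbad 3 (Or.inr rfl))).symm
  -- two commuting elements of order seven in a group with seven dividing its order once
  obtain ⟨P, hP⟩ := (IsPGroup.of_card (p := 7) (n := 1) (G := Subgroup.zpowers x)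
    (by rw [Nat.card_zpowers, hx, pow_one])).exists_le_sylow
  have hPc : Nat.card (P : Subgroup G) = 7 := by
    rw [P.card_eq_multiplicity, hc, show (12096 : ℕ) = 7 ^ 1 * 1728 by norm_num,
      Nat.factorization_mul (by norm_num) (by norm_num), Finsupp.add_apply,
      Nat.Prime.factorization_pow (by norm_num), Finsupp.single_eq_same,
      Nat.factorization_eq_zero_of_not_dvd (show ¬ 7 ∣ 1728 by norm_num)]
    norm_num
  have hPx : Subgroup.zpowers x = (P : Subgroup G) :=
    Subgroup.eq_of_le_of_card_ge hP (by rw [hPc, Nat.card_zpowers, hx])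
  let S : Subgroup G := Subgroup.closure {c, x}
  haveI : IsMulCommutative S := Subgroup.isMulCommutative_closure (by
    rintro a ha b hb' 
    rcases ha with rfl | rfl <;> rcases hb' with rfl | rfl
    exacts [rfl, hcom.eq, hcom.eq.symm, rfl])
  have hS : IsPGroup 7 S := by
    intro a
    refine ⟨1, Subtype.ext ?_⟩
    rw [Subgroup.coe_pow, Subgroup.coe_one, pow_one]
    have : ∀ b ∈ S, b ^ 7 = 1 ∧ b ∈ S := by
      intro b hb'
      refine Subgroup.closure_induction (p := fun b _ => b ^ 7 = 1 ∧ b ∈ S) ?_ ⟨one_pow 7, one_mem _⟩ ?_ ?_ hb'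
      · rintro y hy
        refine ⟨?_, Subgroup.subset_closure hy⟩
        rcases hy with rfl | rfl
        · exact orderOf_dvd_iff_pow_eq_one.1 hd7
        · rw [← hx]; exact pow_orderOf_eq_one _
      · rintro y z - - ⟨hy, hy'⟩ ⟨hz, hz'⟩
        refine ⟨?_, mul_mem hy' hz'⟩
        have hyz : Commute y z := congrArg Subtype.val
          ((inferInstance : IsMulCommutative S).is_comm.comm ⟨y, hy'⟩ ⟨z, hz'⟩)
        rw [hyz.mul_pow, hy, hz, one_mul]
      · rintro y - ⟨hy, hy'⟩
        exact ⟨by rw [inv_pow, hy, inv_one], inv_mem hy'⟩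
    exact (this a a.2).1
  have hPS : (P : Subgroup G) ≤ S := hPx ▸ Subgroup.zpowers_le.2 (Subgroup.subset_closure (Or.inr rfl))
  rw [hPx, ← P.is_maximal' hS hPS]
  exact Subgroup.subset_closure (Or.inl rfl)

include hc hb in
/-- A subgroup of order prime to seven normalised by an element of order seven. -/
theorem card_mod {S : Subgroup G} (hS : ¬ 7 ∣ Nat.card S) {x : G} (hx : orderOf x = 7)
    (hn : x ∈ Subgroup.normalizer (S : Set G)) : Nat.card S % 7 = 1 := by
  haveI : Fact (Nat.Prime 7) := ⟨by norm_num⟩
  let f : ↥(Subgroup.zpowers x) →* MulAut ↥S := (Subgroup.normalizerMonoidHom S).comp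
    (Subgroup.inclusion (Subgroup.zpowers_le.2 hn))
  letI : MulAction ↥(Subgroup.zpowers x) ↥S := MulAction.compHom ↥S f
  have hX : IsPGroup 7 ↥(Subgroup.zpowers x) :=
    IsPGroup.of_card (n := 1) (by rw [Nat.card_zpowers, hx, pow_one])
  have h := hX.card_modEq_card_fixedPoints ↥S
  have hfix : Nat.card (MulAction.fixedPoints ↥(Subgroup.zpowers x) ↥S) = 1 := by
    rw [Nat.card_eq_one_iff_unique]
    refine ⟨⟨fun u v => ?_⟩, ⟨⟨1, fun g => map_one (f g)⟩⟩⟩
    have key : ∀ u : MulAction.fixedPoints ↥(Subgroup.zpowers x) ↥S, ((u : ↥S) : G) = 1 := by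
      rintro ⟨u, hu⟩
      have h1 : x * (u : G) * x⁻¹ = u := congrArg Subtype.val (hu ⟨x, Subgroup.mem_zpowers x⟩)
      have h2 : (u : G) ∈ Subgroup.zpowers x := by
        rw [← centralizer_seven hc hb hx, Subgroup.mem_centralizer_singleton_iff]
        calc (u : G) * x = (x * u * x⁻¹) * x := by rw [h1]
          _ = x * u := by group
      by_contra hne
      refine hS ?_
      have h3 : orderOf (u : G) ∣ 7 := by
        rw [← hx, ← Nat.card_zpowers x]
        exact (Subgroup.orderOf_coe ⟨(u : G), h2⟩).symm ▸ orderOf_dvd_natCard _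
      rcases (Nat.dvd_prime (by norm_num)).1 h3 with h4 | h4
      · exact absurd (orderOf_eq_one_iff.1 h4) hne
      · rw [← h4, Subgroup.orderOf_coe]; exact orderOf_dvd_natCard _
    exact Subtype.ext (Subtype.ext ((key u).trans (key v).symm))
  rw [hfix] at h
  exact h

include hc hb in
theorem normal_two {K : Subgroup G} [K.Normal] (hK : ¬ 7 ∣ Nat.card K) :
    Nat.card K = 1 ∨ Nat.card K = 8 ∨ Nat.card K = 64 := by
  haveI : Fact (Nat.Prime 7) := ⟨by norm_num⟩
  haveI : Fact (Nat.Prime 3) := ⟨Nat.prime_three⟩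
  obtain ⟨x, hx⟩ := exists_prime_orderOf_dvd_card' 7 (show 7 ∣ Nat.card G by rw [hc]; norm_num)
  have h1 := card_mod hc hb hK hx (by rw [Subgroup.normalizer_eq_top]; trivial)
  obtain ⟨Q⟩ : Nonempty (Sylow 3 K) := inferInstance
  set Q' : Subgroup G := (Q : Subgroup K).map K.subtype with hQ'
  have hQc : Nat.card Q' = 3 ^ (Nat.card K).factorization 3 := by
    rw [hQ', Subgroup.card_map_of_injective K.subtype_injective]; exact Q.card_eq_multiplicity
  have htop : Subgroup.normalizer (Q' : Set G) ⊔ K = ⊤ := Sylow.normalizer_sup_eq_top Q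
  have h7 : 7 ∣ Nat.card (Subgroup.normalizer (Q' : Set G)) := by
    have hi : K.index ∣ Nat.card (Subgroup.normalizer (Q' : Set G)) := by
      rw [← Subgroup.relIndex_top_right, ← htop, Subgroup.relIndex_sup_right]
      exact Subgroup.relIndex_dvd_card _ _
    refine Dvd.dvd.trans ?_ hi
    have := K.card_mul_index
    rw [hc] at this
    refine ((Nat.Prime.dvd_mul (by norm_num)).1 (this ▸ (show 7 ∣ 12096 by norm_num))).resolve_left hK
  obtain ⟨y, hy⟩ := exists_prime_orderOf_dvd_card' 7 h7
  have hQd : Nat.card Q' ∣ Nat.card K := Subgroup.card_dvd_of_le (Subgroup.map_subtype_le _)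
  have h3 := card_mod hc hb (fun h => hK (h.trans hQd)) (x := (y : G))
    (by rw [Subgroup.orderOf_coe]; exact hy) y.2
  have hKd : Nat.card K ∣ 12096 := hc ▸ Subgroup.card_subgroup_dvd_card K
  have hnot3 : ¬ 3 ∣ Nat.card K := by
    intro h
    have hf : 1 ≤ (Nat.card K).factorization 3 :=
      (Nat.Prime.dvd_iff_one_le_factorization Nat.prime_three Nat.card_pos.ne').1 h
    have hf3 : (Nat.card K).factorization 3 ≤ 3 := by
      have h12 : (12096 : ℕ).factorization 3 = 3 := by
        rw [show (12096 : ℕ) = 3 ^ 3 * 448 by norm_num,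
          Nat.factorization_mul (by norm_num) (by norm_num), Finsupp.add_apply,
          Nat.Prime.factorization_pow Nat.prime_three, Finsupp.single_eq_same,
          Nat.factorization_eq_zero_of_not_dvd (show ¬ 3 ∣ 448 by norm_num)]
      refine le_trans ?_ h12.le
      exact (Nat.factorization_le_iff_dvd Nat.card_pos.ne' (by norm_num)).2 hKd 3
    rw [hQc] at h3
    interval_cases (Nat.card K).factorization 3 <;> norm_num at h3
  have hd64 : Nat.card K ∣ 2 ^ 6 := by
    have h : Nat.card K ∣ 2 ^ 6 * 7 * 3 ^ 3 := by norm_num; exact hKd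
    exact (((Nat.Prime.coprime_iff_not_dvd (by norm_num)).2 hK).symm.dvd_of_dvd_mul_right
      (Nat.Coprime.dvd_of_dvd_mul_right
        (((Nat.Prime.coprime_iff_not_dvd Nat.prime_three).2 hnot3).symm.pow_right 3) h))
  obtain ⟨i, hi, hK'⟩ := (Nat.dvd_prime_pow Nat.prime_two).1 hd64
  rw [hK'] at h1 ⊢
  interval_cases i
  all_goals (revert h1; norm_num)

include hc hb in
theorem eq_bot_of_not_dvd {M : Subgroup G} (hMn : M.Normal) (hM : ¬ 7 ∣ Nat.card M) : M = ⊥ := by
  haveI : Fact (Nat.Prime 7) := ⟨by norm_num⟩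
  obtain ⟨K, hKn, hK7, hmax⟩ := exists_core G
  suffices K = ⊥ from le_bot_iff.1 (this ▸ hmax M hMn hM)
  haveI := hKn
  obtain ⟨x, hx⟩ := exists_prime_orderOf_dvd_card' 7 (show 7 ∣ Nat.card G by rw [hc]; norm_num)
  have hidx := K.card_mul_index
  rw [hc] at hidx
  have hN : ∀ P : Sylow 7 G, Nat.card (Subgroup.normalizer ((P : Subgroup G) : Set G)) ∣ 42 := by
    intro P
    have hPc : Nat.card (P : Subgroup G) = 7 := by
      rw [P.card_eq_multiplicity, hc, show (12096 : ℕ) = 7 ^ 1 * 1728 by norm_num,
        Nat.factorization_mul (by norm_num) (by norm_num), Finsupp.add_apply,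
        Nat.Prime.factorization_pow (by norm_num), Finsupp.single_eq_same,
        Nat.factorization_eq_zero_of_not_dvd (show ¬ 7 ∣ 1728 by norm_num)]
      norm_num
    obtain ⟨⟨y, hyP⟩, hy⟩ := exists_prime_orderOf_dvd_card' 7 (hPc.symm ▸ dvd_refl 7 : 7 ∣ Nat.card (P : Subgroup G))
    rw [← Subgroup.orderOf_coe] at hy
    have hPy : (P : Subgroup G) = Subgroup.zpowers y :=
      (Subgroup.eq_of_le_of_card_ge (Subgroup.zpowers_le.2 hyP) (by rw [hPc, Nat.card_zpowers, hy])).symm
    set f := Subgroup.normalizerMonoidHom (P : Subgroup G)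
    have hker : Nat.card f.ker = 7 := by
      rw [Subgroup.normalizerMonoidHom_ker,
        Nat.card_congr (Subgroup.subgroupOfEquivOfLe (Subgroup.centralizer_le_normalizer _)).toEquiv,
        hPy, ← centralizer_seven hc hb hy]
      have : Subgroup.centralizer ((Subgroup.centralizer ({y} : Set G) : Subgroup G) : Set G) =
          Subgroup.centralizer ({y} : Set G) := by
        rw [centralizer_seven hc hb hy]
        refine le_antisymm (fun g hg => ?_) (fun g hg => ?_)
        · rw [← centralizer_seven hc hb hy]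
          exact Subgroup.mem_centralizer_singleton_iff.2
            (Subgroup.mem_centralizer_iff.1 hg y (Subgroup.mem_zpowers y)).symm
        · rw [Subgroup.mem_centralizer_iff]
          intro h hh
          obtain ⟨i, rfl⟩ := Subgroup.mem_zpowers_iff.1 hg
          obtain ⟨j, rfl⟩ := Subgroup.mem_zpowers_iff.1 hh
          exact ((Commute.refl y).zpow_zpow j i).eq
      rw [this, centralizer_seven hc hb hy, Nat.card_zpowers, hy]
    have hrange : f.ker.index ∣ 6 := by
      rw [Subgroup.index_ker]
      refine (Subgroup.card_subgroup_dvd_card f.range).trans ?_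
      haveI : IsCyclic (P : Subgroup G) := isCyclic_of_prime_card (p := 7) hPc
      rw [IsCyclic.card_mulAut, hPc]
      decide
    rw [← f.ker.card_mul_index, hker]
    exact (mul_dvd_mul_left 7 hrange).trans (by norm_num)
  rcases normal_two hc hb hK7 with h | h | h
  · exact Subgroup.eq_bot_of_card_eq _ h
  · exfalso
    rw [h] at hidx
    -- the centraliser is the centre of `K`
    have hC7 : ¬ 7 ∣ Nat.card (Subgroup.centralizer (K : Set G)) := by
      intro h7
      obtain ⟨y, hy⟩ := exists_prime_orderOf_dvd_card' 7 h7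
      have hy' : orderOf (y : G) = 7 := by rw [Subgroup.orderOf_coe]; exact hy
      have hle : K ≤ Subgroup.zpowers (y : G) := by
        rw [← centralizer_seven hc hb hy']
        exact fun k hk => Subgroup.mem_centralizer_singleton_iff.2
          (Subgroup.mem_centralizer_iff.1 y.2 k hk)
      have := Subgroup.card_dvd_of_le hle
      rw [h, Nat.card_zpowers, hy'] at this
      norm_num at this
    have hCK : Subgroup.centralizer (K : Set G) ≤ K := hmax _ inferInstance hC7
    let X := {k : K // k ≠ 1}
    have hXc : Nat.card X = 7 := by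
      haveI := Fintype.ofFinite K
      classical
      rw [Nat.card_eq_fintype_card, Fintype.card_subtype_compl, Fintype.card_subtype_eq,
        ← Nat.card_eq_fintype_card, h]
    let φ : G →* Equiv.Perm X :=
      { toFun := fun g => (MulAut.conjNormal g : MulAut K).toEquiv.subtypeEquiv fun k =>
          not_congr (map_eq_one_iff (MulAut.conjNormal g) (MulEquiv.injective _)).symm
        map_one' := by ext k; simp
        map_mul' := fun a b => by ext k; simp }
    have hker : φ.ker ≤ K := fun g hg => hCK (Subgroup.mem_centralizer_iff.2 fun k hk => by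
      rcases eq_or_ne k 1 with rfl | hk1
      · rw [one_mul, mul_one]
      have := congrArg (fun π : Equiv.Perm X => ((π ⟨⟨k, hk⟩, fun e => hk1 (congrArg Subtype.val e)⟩ : K) : G))
        (MonoidHom.mem_ker.1 hg)
      change g * k * g⁻¹ = k at this
      calc k * g = (g * k * g⁻¹) * g := by rw [this]
        _ = g * k := by group)
    have h1 : φ.ker.index ∣ 5040 := by
      rw [Subgroup.index_ker]
      refine (Subgroup.card_subgroup_dvd_card φ.range).trans ?_
      haveI : Fintype X := Fintype.ofFinite X
      classical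
      rw [Nat.card_perm, hXc]
      decide
    have h2 : K.index ∣ 5040 := (Subgroup.index_dvd_of_le hker).trans h1
    rw [show K.index = 1512 by omega] at h2
    norm_num at h2
  · exfalso
    rw [h] at hidx
    have hi : K.index = 189 := by omega
    have hq : Nat.card (G ⧸ K) = 189 := hi
    obtain ⟨Pq⟩ : Nonempty (Sylow 7 (G ⧸ K)) := inferInstance
    have hPq : Nat.card (Pq : Subgroup (G ⧸ K)) = 7 := by
      rw [Pq.card_eq_multiplicity, hq, show (189 : ℕ) = 7 ^ 1 * 27 by norm_num,
        Nat.factorization_mul (by norm_num) (by norm_num), Finsupp.add_apply,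
        Nat.Prime.factorization_pow (by norm_num), Finsupp.single_eq_same,
        Nat.factorization_eq_zero_of_not_dvd (show ¬ 7 ∣ 27 by norm_num)]
      norm_num
    have hone : Nat.card (Sylow 7 (G ⧸ K)) = 1 := by
      have h27 : Nat.card (Sylow 7 (G ⧸ K)) ∣ 27 := by
        have hd := Pq.card_dvd_index
        have := (Pq : Subgroup (G ⧸ K)).card_mul_index
        rw [hPq, hq] at this
        rwa [show (Pq : Subgroup (G ⧸ K)).index = 27 by omega] at hd
      have hmod : Nat.card (Sylow 7 (G ⧸ K)) % 7 = 1 := card_sylow_modEq_one 7 (G ⧸ K)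
      obtain ⟨i, hi', hie⟩ := (Nat.dvd_prime_pow Nat.prime_three (m := 3)).1 h27
      rw [hie] at hmod ⊢
      interval_cases i
      all_goals (revert hmod; norm_num)
    haveI : Subsingleton (Sylow 7 (G ⧸ K)) := (Nat.card_eq_one_iff_unique.1 hone).1
    haveI : (Pq : Subgroup (G ⧸ K)).Normal := Sylow.normal_of_subsingleton Pq
    set M := (Pq : Subgroup (G ⧸ K)).comap (QuotientGroup.mk' K)
    have hMi : M.index = 27 := by
      rw [Subgroup.index_comap_of_surjective _ (QuotientGroup.mk'_surjective K)]
      have := (Pq : Subgroup (G ⧸ K)).card_mul_index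
      rw [hPq, hq] at this
      omega
    haveI : M.Normal := Subgroup.normal_comap _
    obtain ⟨PM⟩ : Nonempty (Sylow 7 M) := inferInstance
    have htop : Subgroup.normalizer (((PM : Subgroup M).map M.subtype : Subgroup G) : Set G) ⊔ M = ⊤ :=
      Sylow.normalizer_sup_eq_top PM
    have hd : M.index ∣ Nat.card (Subgroup.normalizer (((PM : Subgroup M).map M.subtype : Subgroup G) : Set G)) := by
      rw [← Subgroup.relIndex_top_right, ← htop, Subgroup.relIndex_sup_right]
      exact Subgroup.relIndex_dvd_card _ _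
    have hsyl : Nat.card ((PM : Subgroup M).map M.subtype) = 7 ^ (Nat.card G).factorization 7 := by
      rw [Subgroup.card_map_of_injective M.subtype_injective, PM.card_eq_multiplicity]
      congr 1
      have := M.card_mul_index
      rw [hMi] at this
      rw [← this, Nat.factorization_mul Nat.card_pos.ne' (by norm_num), Finsupp.add_apply,
        Nat.factorization_eq_zero_of_not_dvd (show ¬ 7 ∣ 27 by norm_num), add_zero]
    have := hN (Sylow.ofCard _ hsyl)
    rw [hMi] at hd
    have h27 : 27 ∣ 42 := hd.trans this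
    norm_num at h27

/-- The reduction, given the possible orders of the simple group. -/
theorem exists_hyp (hc : Nat.card G = 12096) (hb : G22Defs40.NoBad G)
    (hord : ∀ T : Subgroup G, IsSimpleGroup T → G22Defs40.NoBad T →
      (Nat.card T = 2016 ∨ Nat.card T = 4032 ∨ Nat.card T = 6048 ∨ Nat.card T = 12096) →
      Nat.card T = 6048) :
    ∃ T : Subgroup G, G22Defs40.Hyp G T := by
  haveI : Fact (Nat.Prime 7) := ⟨by norm_num⟩
  set T : Subgroup G := Subgroup.normalClosure {g | orderOf g = 7} with hT
  haveI hTn : T.Normal := Subgroup.normalClosure_normal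
  obtain ⟨x, hx⟩ := exists_prime_orderOf_dvd_card' 7 (show 7 ∣ Nat.card G by rw [hc]; norm_num)
  have hxT : x ∈ T := Subgroup.subset_normalClosure hx
  have hx1 : x ≠ 1 := fun e => by rw [e, orderOf_one] at hx; omega
  have hcardP : ∀ {y : G}, orderOf y = 7 → ∀ P : Sylow 7 G, Subgroup.zpowers y ≤ (P : Subgroup G) →
      Subgroup.zpowers y = (P : Subgroup G) := by
    intro y hy P hP
    refine Subgroup.eq_of_le_of_card_ge hP ?_
    rw [Nat.card_zpowers, hy, P.card_eq_multiplicity, hc, show (12096 : ℕ) = 7 ^ 1 * 1728 by norm_num,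
      Nat.factorization_mul (by norm_num) (by norm_num), Finsupp.add_apply,
      Nat.Prime.factorization_pow (by norm_num), Finsupp.single_eq_same,
      Nat.factorization_eq_zero_of_not_dvd (show ¬ 7 ∣ 1728 by norm_num)]
    norm_num
  have hall : ∀ M : Subgroup G, M.Normal → 7 ∣ Nat.card M → T ≤ M := by
    intro M hM h7
    haveI := hM
    refine Subgroup.normalClosure_le_normal fun g hg => ?_
    obtain ⟨m, hm⟩ := exists_prime_orderOf_dvd_card' 7 h7
    have hm' : orderOf (m : G) = 7 := by rw [Subgroup.orderOf_coe]; exact hm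
    obtain ⟨P, hP⟩ := (IsPGroup.of_card (p := 7) (n := 1) (G := Subgroup.zpowers g)
      (by rw [Nat.card_zpowers, show orderOf g = 7 from hg, pow_one])).exists_le_sylow
    obtain ⟨Q, hQ⟩ := (IsPGroup.of_card (p := 7) (n := 1) (G := Subgroup.zpowers (m : G))
      (by rw [Nat.card_zpowers, hm', pow_one])).exists_le_sylow
    obtain ⟨h, hh⟩ := MulAction.exists_smul_eq G Q P
    have hgP : g ∈ (P : Subgroup G) := hP (Subgroup.mem_zpowers g)
    rw [← hh, Sylow.coe_subgroup_smul, ← hcardP hm' Q hQ, Subgroup.mem_pointwise_smul_iff_inv_smul_mem] at hgP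
    have h2 : h⁻¹ * g * h ∈ M := by
      have := Subgroup.zpowers_le.2 m.2 hgP
      simpa using this
    have := hM.conj_mem _ h2 h
    simpa [mul_assoc] using this
  obtain ⟨R, hRn, hR7, hRmax⟩ := exists_core T
  have hR : R = ⊥ := by
    haveI := hRn
    have hmap : (R.map T.subtype).Normal := by
      refine ⟨fun r hr g => ?_⟩
      obtain ⟨r, hr, rfl⟩ := hr
      let c : T ≃* T := MulAut.conjNormal g
      have hle : R.map c.toMonoidHom ≤ R := hRmax _ (hRn.map _ c.surjective)
        (by rw [Subgroup.card_map_of_injective (f := c.toMonoidHom) c.injective]; exact hR7)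
      exact ⟨c r, hle ⟨r, hr, rfl⟩, rfl⟩
    have := eq_bot_of_not_dvd hc hb hmap (by rw [Subgroup.card_map_of_injective T.subtype_injective]; exact hR7)
    exact (Subgroup.map_eq_bot_iff_of_injective _ T.subtype_injective).1 this
  haveI hTne : Nontrivial T :=
    ⟨⟨⟨x, hxT⟩, 1, fun e => hx1 (congrArg Subtype.val e)⟩⟩
  have hsimple : IsSimpleGroup T := by
    refine ⟨fun M hM => ?_⟩
    by_cases h7 : 7 ∣ Nat.card M
    · refine Or.inr (eq_top_iff.2 ?_)
      haveI := hM
      have hgen : ∀ g : T, orderOf (g : G) = 7 → g ∈ M := by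
        intro g hg
        obtain ⟨P, hP⟩ := (IsPGroup.of_card (p := 7) (n := 1) (G := Subgroup.zpowers g)
          (by rw [Nat.card_zpowers, ← Subgroup.orderOf_coe, hg, pow_one])).exists_le_sylow
        obtain ⟨m, hm⟩ := exists_prime_orderOf_dvd_card' 7 h7
        have hm' : orderOf (m : T) = 7 := by rw [Subgroup.orderOf_coe]; exact hm
        obtain ⟨Q, hQ⟩ := (IsPGroup.of_card (p := 7) (n := 1) (G := Subgroup.zpowers (m : T))
          (by rw [Nat.card_zpowers, hm', pow_one])).exists_le_sylow
        have hT7 : ∀ S : Sylow 7 T, Nat.card (S : Subgroup T) ∣ 7 := fun S => by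
          rw [S.card_eq_multiplicity]
          refine Dvd.dvd.trans (Nat.pow_dvd_pow 7 ((Nat.factorization_le_iff_dvd Nat.card_pos.ne'
            (by norm_num)).2 (hc ▸ Subgroup.card_subgroup_dvd_card T) 7)) ?_
          rw [show (12096 : ℕ) = 7 ^ 1 * 1728 by norm_num,
            Nat.factorization_mul (by norm_num) (by norm_num), Finsupp.add_apply,
            Nat.Prime.factorization_pow (by norm_num), Finsupp.single_eq_same,
            Nat.factorization_eq_zero_of_not_dvd (show ¬ 7 ∣ 1728 by norm_num)]
          norm_num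
        have hQm : Subgroup.zpowers (m : T) = (Q : Subgroup T) :=
          Subgroup.eq_of_le_of_card_ge hQ (by
            rw [Nat.card_zpowers, hm']; exact Nat.le_of_dvd (by norm_num) (hT7 Q))
        obtain ⟨h, hh⟩ := MulAction.exists_smul_eq T Q P
        have hgP : g ∈ (P : Subgroup T) := hP (Subgroup.mem_zpowers g)
        rw [← hh, Sylow.coe_subgroup_smul, ← hQm, Subgroup.mem_pointwise_smul_iff_inv_smul_mem] at hgP
        have h2 : h⁻¹ * g * h ∈ M := by
          have := Subgroup.zpowers_le.2 m.2 hgP
          simpa using this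
        have := hM.conj_mem _ h2 h
        simpa [mul_assoc] using this
      intro t _
      have : (t : G) ∈ M.map T.subtype := by
        refine (show Subgroup.closure (Group.conjugatesOfSet {g : G | orderOf g = 7}) ≤ M.map T.subtype
          from ?_) t.2
        rw [Subgroup.closure_le]
        intro g hg
        obtain ⟨s, hs, hconj⟩ := Group.mem_conjugatesOfSet_iff.1 hg
        obtain ⟨w, hw⟩ := isConj_iff.1 hconj
        have hgT : g ∈ T := Subgroup.conjugatesOfSet_subset_normalClosure hg
        refine ⟨⟨g, hgT⟩, hgen ⟨g, hgT⟩ ?_, rfl⟩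
        show orderOf g = 7
        rw [← hw]
        exact (orderOf_injective (MulAut.conj w).toMonoidHom (MulAut.conj w).injective s).trans hs
      obtain ⟨u, hu, hut⟩ := this
      rwa [← Subtype.ext hut]
    · exact Or.inl (le_bot_iff.1 (hR ▸ hRmax M hM h7))
  have hbT : G22Defs40.NoBad T := fun t => by
    rw [← Subgroup.orderOf_coe]; exact hb t
  have hT7 : 7 ∣ Nat.card T := hx ▸ (Subgroup.orderOf_coe ⟨x, hxT⟩).symm ▸ orderOf_dvd_natCard _
  have h4 : Nat.card T = 2016 ∨ Nat.card T = 4032 ∨ Nat.card T = 6048 ∨ Nat.card T = 12096 := by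
    obtain ⟨P, hP⟩ := (IsPGroup.of_card (p := 7) (n := 1) (G := Subgroup.zpowers x)
      (by rw [Nat.card_zpowers, hx, pow_one])).exists_le_sylow
    have hPT : (P : Subgroup G) ≤ T := hcardP hx P hP ▸ Subgroup.zpowers_le.2 hxT
    have htop : Subgroup.normalizer ((P : Subgroup G) : Set G) ⊔ T = ⊤ := by
      have := Sylow.normalizer_sup_eq_top (P.subtype hPT)
      rwa [Sylow.coe_subtype, Subgroup.map_subgroupOf_eq_of_le hPT] at this
    have hd : T.index ∣ Nat.card (Subgroup.normalizer ((P : Subgroup G) : Set G)) := by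
      rw [← Subgroup.relIndex_top_right, ← htop, Subgroup.relIndex_sup_right]
      exact Subgroup.relIndex_dvd_card _ _
    have hidx := T.card_mul_index
    rw [hc] at hidx
    have hPc : Nat.card (P : Subgroup G) = 7 := by rw [← hcardP hx P hP, Nat.card_zpowers, hx]
    have hN : Nat.card (Subgroup.normalizer ((P : Subgroup G) : Set G)) ∣ 42 := by
      set f := Subgroup.normalizerMonoidHom (P : Subgroup G)
      have hker : Nat.card f.ker ∣ 7 := by
        rw [Subgroup.normalizerMonoidHom_ker,
          Nat.card_congr (Subgroup.subgroupOfEquivOfLe (Subgroup.centralizer_le_normalizer _)).toEquiv]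
        have hle : Subgroup.centralizer ((P : Subgroup G) : Set G) ≤
            Subgroup.centralizer ({x} : Set G) := Subgroup.centralizer_le (by
          rw [← hcardP hx P hP]; exact Set.singleton_subset_iff.2 (Subgroup.mem_zpowers x))
        refine (Subgroup.card_dvd_of_le hle).trans ?_
        rw [centralizer_seven hc hb hx, Nat.card_zpowers, hx]
      have hrange : f.ker.index ∣ 6 := by
        rw [Subgroup.index_ker]
        refine (Subgroup.card_subgroup_dvd_card f.range).trans ?_
        haveI : IsCyclic (P : Subgroup G) := isCyclic_of_prime_card (p := 7) hPc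
        rw [IsCyclic.card_mulAut, hPc]
        decide
      rw [← f.ker.card_mul_index]
      exact (mul_dvd_mul hker hrange).trans (by norm_num)
    have h6 : T.index ∣ 6 := by
      have h7' : ¬ 7 ∣ T.index := by
        intro h
        obtain ⟨u, hu⟩ := hT7
        obtain ⟨v, hv⟩ := h
        rw [hu, hv] at hidx
        have h49 : 49 ∣ 12096 := ⟨u * v, by linarith⟩
        norm_num at h49
      exact ((Nat.Prime.coprime_iff_not_dvd (by norm_num)).2 h7').symm.dvd_of_dvd_mul_left (hd.trans hN)
    have hi : T.index ≤ 6 := Nat.le_of_dvd (by norm_num) h6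
    have hi0 : T.index ≠ 0 := Subgroup.index_ne_zero_of_finite
    interval_cases h : T.index
    all_goals omega
  refine ⟨T, hc, hTn, hsimple, hord T hsimple hbT h4, ?_, hbT⟩
  refine eq_bot_of_not_dvd hc hb inferInstance fun h7 => ?_
  have hle := hall _ inferInstance h7
  haveI := hsimple
  have hab : ∀ a b : T, a * b = b * a := fun a b => Subtype.ext
    (Subgroup.mem_centralizer_iff.1 (hle b.2) a a.2)
  letI : CommGroup T := { (inferInstance : Group T) with mul_comm := hab }
  have := IsSimpleGroup.prime_card (α := T)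
  rcases h4 with h | h | h | h <;> rw [h] at this <;> norm_num at this

end Cfsg.Agent.G22Reduce40
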