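import Cfsg.Agent.Lib.G23Cent42
import Cfsg.Agent.Lib.G23Par28

/-!
The parabolic lemmas of G23Par28 give the hypothesis bundle `ParFacts42` of G23Cent42.
-/

set_option autoImplicit false

namespace Cfsg.Agent.G23x77

variable {G : Type*} [Group G] [Finite G]

/-- A parabolic configuration satisfies the facts used for the involution centralizer. -/
theorem parFacts_of {A Q Z D S : Subgroup G} (h : Par A Q Z D) (hS : S ≤ A)
    (hcard : Nat.card S = 729) : ParFacts42 A Q Z D S where
  levi := (h.exists_levi hS hcard).1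
  card_norm := (h.exists_levi hS hcard).2
  levi_of := fun _ hτ h1 h2 hc => h.levi_of hτ h1 h2 hc
  cent_le := fun _ hd hd1 => h.cent_le hd hd1
  cent_levi := fun _ hτ _ hd hd1 => h.cent_levi hτ hd hd1
  trans := fun _ hτ _ hd hd1 _ hx _ hx' hx1 hx'1 hi hi' => h.trans hτ hd hd1 hx hx1 hx' hx'1 hi hi'

end Cfsg.Agent.G23x77
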