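import Cfsg.Agent.Lib.ChevalleyAll
import Cfsg.Agent.Lib.ChevalleyTorus
import Cfsg.Agent.Lib.ChevalleyDataG2
import Cfsg.Agent.Lib.PSLSimple
import Cfsg.Prelude.Def_ChevG2

/-!
The long root subsystem of type A2 in G2: the adjoint module is `sl₃ ⊕ V ⊕ V*`, giving an explicit
homomorphism of SL(3) into the Chevalley group of type G2, natural in the field.
-/

set_option autoImplicit false

namespace Cfsg.Agent.G2SL3Embed68

open Cfsg.Lie Matrix
open scoped Matrix MatrixGroups

variable {F : Type*} [Field F]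

/-- Coordinates of the adjoint module. -/
abbrev Ix : Type := chevG2.Idx

/-- The coordinate of a fundamental coroot. -/
def hI (i : Fin 2) : Ix := Sum.inl i

/-- The coordinate of a root vector. -/
def eI (r : Fin 12) : Ix := Sum.inr r

theorem eI_inj {r s : Fin 12} : eI r = eI s ↔ r = s := ⟨fun h => Sum.inr.inj h, fun h => h ▸ rfl⟩

theorem hI_inj {i j : Fin 2} : hI i = hI j ↔ i = j := ⟨fun h => Sum.inl.inj h, fun h => h ▸ rfl⟩

theorem hI_ne_eI (i : Fin 2) (r : Fin 12) : hI i ≠ eI r := Sum.inl_ne_inr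

theorem eI_ne_hI (r : Fin 12) (i : Fin 2) : eI r ≠ hI i := Sum.inr_ne_inl

theorem forall_ix {P : Ix → Prop} (hh : ∀ i, P (hI i)) (he : ∀ r, P (eI r)) : ∀ q, P q := by
  rintro (i | r)
  · exact hh i
  · exact he r

/-- `sl₃ ⊕ V ⊕ V*` as ambient space. -/
abbrev Big (F : Type*) : Type _ := Matrix (Fin 3) (Fin 3) F × (Fin 3 → F) × (Fin 3 → F)

/-- The adjoint module inside the ambient space. -/
def emb : (Ix → F) →ₗ[F] Big F where
  toFun v := (!![-v (hI 0) + v (hI 1), v (eI 6), v (eI 11);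
      v (eI 5), 2 * v (hI 0) - v (hI 1), v (eI 10);
      v (eI 0), v (eI 1), -v (hI 0)],
    ![v (eI 8), v (eI 7), v (eI 2)], ![v (eI 3), v (eI 4), v (eI 9)])
  map_add' u v := by
    refine Prod.ext ?_ (Prod.ext ?_ ?_)
    · ext i j; fin_cases i <;> fin_cases j <;> simp <;> ring
    · ext i; fin_cases i <;> simp
    · ext i; fin_cases i <;> simp
  map_smul' c v := by
    refine Prod.ext ?_ (Prod.ext ?_ ?_)
    · ext i j; fin_cases i <;> fin_cases j <;> simp <;> ring
    · ext i; fin_cases i <;> simp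
    · ext i; fin_cases i <;> simp

/-- The coordinates of an element of the ambient space. -/
def coord (z : Big F) : Ix → F :=
  Sum.elim (fun i => ![-z.1 2 2, z.1 0 0 - z.1 2 2] i)
    (fun r => ![z.1 2 0, z.1 2 1, z.2.1 2, z.2.2 0, z.2.2 1, z.1 1 0, z.1 0 1, z.2.1 1, z.2.1 0,
      z.2.2 2, z.1 1 2, z.1 0 2] r)

theorem coord_h (z : Big F) (i : Fin 2) : coord z (hI i) = ![-z.1 2 2, z.1 0 0 - z.1 2 2] i := rfl

theorem coord_e (z : Big F) (r : Fin 12) : coord z (eI r) =
    ![z.1 2 0, z.1 2 1, z.2.1 2, z.2.2 0, z.2.2 1, z.1 1 0, z.1 0 1, z.2.1 1, z.2.1 0,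
      z.2.2 2, z.1 1 2, z.1 0 2] r := rfl

theorem coord_add (y z : Big F) : coord (y + z) = coord y + coord z := by
  funext q
  revert q
  refine forall_ix (fun i => ?_) (fun r => ?_)
  · fin_cases i <;> simp [coord_h] <;> ring
  · fin_cases r <;> simp [coord_e]

theorem coord_smul (c : F) (z : Big F) : coord (c • z) = c • coord z := by
  funext q
  revert q
  refine forall_ix (fun i => ?_) (fun r => ?_)
  · fin_cases i <;> simp [coord_h] <;> ring
  · fin_cases r <;> simp [coord_e]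

/-- The retraction. -/
def proj : Big F →ₗ[F] (Ix → F) where
  toFun := coord
  map_add' := coord_add
  map_smul' := coord_smul

theorem proj_emb (v : Ix → F) : proj (emb v) = v := by
  funext q
  revert q
  refine forall_ix (fun i => ?_) (fun r => ?_)
  · fin_cases i <;> simp [proj, coord_h, emb]
  · fin_cases r <;> simp [proj, coord_e, emb]

theorem emb_proj {z : Big F} (h : z.1.trace = 0) : emb (proj z) = z := by
  rw [Matrix.trace_fin_three] at h
  refine Prod.ext ?_ (Prod.ext ?_ ?_)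
  · ext i j
    fin_cases i <;> fin_cases j <;> simp [proj, coord_h, coord_e, emb]
    linear_combination -h
  · ext i; fin_cases i <;> simp [proj, coord_e, emb]
  · ext i; fin_cases i <;> simp [proj, coord_e, emb]

theorem trace_emb (v : Ix → F) : (emb v).1.trace = 0 := by
  simp [emb, Matrix.trace_fin_three]
  ring

/-- The action of SL(3) on the ambient space. -/
def act (A : Matrix.SpecialLinearGroup (Fin 3) F) : Big F →ₗ[F] Big F where
  toFun z := ((A : Matrix (Fin 3) (Fin 3) F) * z.1 * ((A⁻¹ : Matrix.SpecialLinearGroup (Fin 3) F) : Matrix (Fin 3) (Fin 3) F),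
    (A : Matrix (Fin 3) (Fin 3) F) *ᵥ z.2.1, z.2.2 ᵥ* ((A⁻¹ : Matrix.SpecialLinearGroup (Fin 3) F) : Matrix (Fin 3) (Fin 3) F))
  map_add' y z := by simp [Matrix.mul_add, Matrix.add_mul, Matrix.mulVec_add, Matrix.add_vecMul]
  map_smul' c z := by simp [Matrix.mulVec_smul, Matrix.smul_vecMul]

theorem act_mul (A B : Matrix.SpecialLinearGroup (Fin 3) F) (z : Big F) :
    act (A * B) z = act A (act B z) := by
  simp only [act, LinearMap.coe_mk, AddHom.coe_mk, _root_.mul_inv_rev, Matrix.SpecialLinearGroup.coe_mul,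
    Matrix.mulVec_mulVec, Matrix.vecMul_vecMul, mul_assoc]

theorem trace_act (A : Matrix.SpecialLinearGroup (Fin 3) F) (z : Big F) : (act A z).1.trace = z.1.trace := by
  show ((A : Matrix (Fin 3) (Fin 3) F) * z.1 * _).trace = _
  rw [Matrix.trace_mul_comm, ← mul_assoc, ← Matrix.SpecialLinearGroup.coe_mul, inv_mul_cancel,
    Matrix.SpecialLinearGroup.coe_one, one_mul]

/-- The matrix of an element of SL(3) on the adjoint module of G2. -/
def rhoMat (A : Matrix.SpecialLinearGroup (Fin 3) F) : Matrix Ix Ix F :=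
  LinearMap.toMatrix' (proj ∘ₗ act A ∘ₗ emb)

theorem rhoMat_one : rhoMat (1 : Matrix.SpecialLinearGroup (Fin 3) F) = 1 := by
  rw [rhoMat, show proj ∘ₗ act (1 : Matrix.SpecialLinearGroup (Fin 3) F) ∘ₗ emb = LinearMap.id from
    LinearMap.ext fun v => ?_, LinearMap.toMatrix'_id]
  simp [act, proj_emb]

theorem rhoMat_mul (A B : Matrix.SpecialLinearGroup (Fin 3) F) :
    rhoMat (A * B) = rhoMat A * rhoMat B := by
  rw [rhoMat, rhoMat, rhoMat, ← LinearMap.toMatrix'_comp]
  congr 1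
  refine LinearMap.ext fun v => ?_
  simp only [LinearMap.comp_apply]
  rw [act_mul, emb_proj]
  rw [trace_act, trace_emb]

/-- The homomorphism of SL(3) into the automorphisms of the adjoint module of G2. -/
def rho : Matrix.SpecialLinearGroup (Fin 3) F →* GL Ix F :=
  ((⟨⟨rhoMat, rhoMat_one⟩, rhoMat_mul⟩ : Matrix.SpecialLinearGroup (Fin 3) F →* Matrix Ix Ix F)).toHomUnits

@[simp] theorem coe_rho (A : Matrix.SpecialLinearGroup (Fin 3) F) :
    ((rho A : GL Ix F) : Matrix Ix Ix F) = rhoMat A := rfl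

/-- The roots carrying the standard module. -/
def vRoot : Fin 3 → Fin 12 := ![8, 7, 2]

theorem rhoMat_std (A : Matrix.SpecialLinearGroup (Fin 3) F) (a b : Fin 3) :
    rhoMat A (eI (vRoot a)) (eI (vRoot b)) = (A : Matrix (Fin 3) (Fin 3) F) a b := by
  rw [rhoMat, LinearMap.toMatrix'_apply]
  fin_cases a <;> fin_cases b <;>
    simp [proj, coord_e, emb, act, eI_inj, hI_ne_eI, vRoot, Matrix.mulVec, Matrix.vecHead, Matrix.vecTail, dotProduct,
      Fin.sum_univ_three, Pi.single_apply]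

theorem rho_injective : Function.Injective (rho (F := F)) := fun A B h => by
  refine Subtype.ext (Matrix.ext fun a b => ?_)
  have h' : rhoMat A = rhoMat B := congrArg Units.val h
  rw [← rhoMat_std A a b, h', rhoMat_std]

/-- Naturality in the field. -/
theorem rho_map {K : Type*} [Field K] (τ : F →+* K) (A : Matrix.SpecialLinearGroup (Fin 3) F) :
    rhoMat (Matrix.SpecialLinearGroup.map τ A) = (rhoMat A).map τ := by
  have he : ∀ v : Ix → F, emb (τ ∘ v) = ((emb v).1.map τ, τ ∘ (emb v).2.1, τ ∘ (emb v).2.2) := by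
    intro v
    refine Prod.ext ?_ (Prod.ext ?_ ?_)
    · ext i j; fin_cases i <;> fin_cases j <;> simp [emb, map_ofNat]
    · ext i; fin_cases i <;> simp [emb]
    · ext i; fin_cases i <;> simp [emb]
  have hp : ∀ z : Big F, proj ((z.1.map τ, τ ∘ z.2.1, τ ∘ z.2.2) : Big K) = τ ∘ proj z := by
    intro z
    funext q
    revert q
    refine forall_ix (fun i => ?_) (fun r => ?_)
    · fin_cases i <;> simp [proj, coord_h]
    · fin_cases r <;> simp [proj, coord_e]
  ext q c
  have hs : (fun j => if j = c then (1 : K) else 0) = τ ∘ fun j => if j = c then (1 : F) else 0 := by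
    funext j; simp [apply_ite τ]
  simp only [rhoMat, Matrix.map_apply, LinearMap.toMatrix'_apply, LinearMap.comp_apply]
  rw [show (Pi.single c (1 : K) : Ix → K) = τ ∘ (Pi.single c (1 : F) : Ix → F) by
    funext j; by_cases hj : j = c <;> simp [hj]]
  rw [he]
  have ha : ∀ z : Big F, act (Matrix.SpecialLinearGroup.map τ A) (z.1.map τ, τ ∘ z.2.1, τ ∘ z.2.2) =
      ((act A z).1.map τ, τ ∘ (act A z).2.1, τ ∘ (act A z).2.2) := by
    intro z
    refine Prod.ext ?_ (Prod.ext ?_ ?_)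
    · show _ = (((A : Matrix (Fin 3) (Fin 3) F) * z.1) * ((A⁻¹ : Matrix.SpecialLinearGroup (Fin 3) F) : Matrix (Fin 3) (Fin 3) F)).map τ
      rw [Matrix.map_mul, Matrix.map_mul]
      show (Matrix.SpecialLinearGroup.map τ A : Matrix (Fin 3) (Fin 3) K) * _ *
        ((Matrix.SpecialLinearGroup.map τ A)⁻¹ : Matrix.SpecialLinearGroup (Fin 3) K) = _
      rw [← map_inv]
      rfl
    · funext i
      exact (RingHom.map_mulVec τ (A : Matrix (Fin 3) (Fin 3) F) z.2.1 i).symm
    · show (τ ∘ z.2.2) ᵥ* (((Matrix.SpecialLinearGroup.map τ A)⁻¹ : Matrix.SpecialLinearGroup (Fin 3) K) : Matrix (Fin 3) (Fin 3) K) = _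
      rw [← map_inv]
      funext i
      exact (RingHom.map_vecMul τ ((A⁻¹ : Matrix.SpecialLinearGroup (Fin 3) F) : Matrix (Fin 3) (Fin 3) F) z.2.2 i).symm
  rw [ha, hp]
  rfl

/-- The positions of the long root subgroups. -/
def longRoots : List (Fin 12 × Fin 3 × Fin 3) :=
  [(6, 0, 1), (10, 1, 2), (11, 0, 2), (5, 1, 0), (1, 2, 1), (0, 2, 0)]

theorem exists_long {a b : Fin 3} (h : a ≠ b) : ∃ r, (r, a, b) ∈ longRoots := by
  revert a b; decide

/-- An integer matrix given by its non-zero entries. -/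
def sparse (L : List (Ix × Ix × ℤ)) : Matrix Ix Ix ℤ :=
  Matrix.of fun i j => (L.map fun e => if e.1 = i ∧ e.2.1 = j then e.2.2 else 0).sum

theorem sparse_mulVec (L : List (Ix × Ix × ℤ)) (v : Ix → F) (i : Ix) :
    ((sparse L).map (Int.cast : ℤ → F) *ᵥ v) i =
      (L.map fun e => if e.1 = i then (e.2.2 : F) * v e.2.1 else 0).sum := by
  induction L with
  | nil => simp [sparse, Matrix.mulVec, dotProduct]
  | cons e L ih =>
    rw [List.map_cons, List.sum_cons, ← ih]
    simp only [Matrix.mulVec, dotProduct, Matrix.map_apply, sparse, Matrix.of_apply, List.map_cons,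
      List.sum_cons, Int.cast_add, add_mul, Finset.sum_add_distrib, apply_ite (Int.cast : ℤ → F), Int.cast_zero]
    congr 1
    by_cases he : e.1 = i
    · simp [he, ite_mul]
    · simp [he]

/-- The first and second order terms of the long root elements. -/
def lin1 : Fin 12 → List (Ix × Ix × ℤ)
  | 6 => [(hI 1, eI 5, 1), (eI 1, eI 0, -1), (eI 4, eI 3, -1), (eI 6, hI 0, 3), (eI 6, hI 1, -2), (eI 8, eI 7, 1), (eI 11, eI 10, 1)]
  | 10 => [(hI 0, eI 1, 1), (hI 1, eI 1, 1), (eI 5, eI 0, 1), (eI 7, eI 2, 1), (eI 9, eI 4, -1), (eI 10, hI 0, -3), (eI 10, hI 1, 1), (eI 11, eI 6, -1)]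
  | 11 => [(hI 0, eI 0, 1), (hI 1, eI 0, 2), (eI 6, eI 1, 1), (eI 8, eI 2, 1), (eI 9, eI 3, -1), (eI 10, eI 5, -1), (eI 11, hI 1, -1)]
  | 5 => [(hI 1, eI 6, -1), (eI 0, eI 1, -1), (eI 3, eI 4, -1), (eI 5, hI 0, -3), (eI 5, hI 1, 2), (eI 7, eI 8, 1), (eI 10, eI 11, 1)]
  | 1 => [(hI 0, eI 10, -1), (hI 1, eI 10, -1), (eI 0, eI 5, 1), (eI 1, hI 0, 3), (eI 1, hI 1, -1), (eI 2, eI 7, 1), (eI 4, eI 9, -1), (eI 6, eI 11, -1)]
  | 0 => [(hI 0, eI 11, -1), (hI 1, eI 11, -2), (eI 0, hI 1, 1), (eI 1, eI 6, 1), (eI 2, eI 8, 1), (eI 3, eI 9, -1), (eI 5, eI 10, -1)]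
  | _ => []

def lin2 : Fin 12 → List (Ix × Ix × ℤ)
  | 6 => [(eI 6, eI 5, -1)]
  | 10 => [(eI 10, eI 1, -1)]
  | 11 => [(eI 11, eI 0, -1)]
  | 5 => [(eI 5, eI 6, -1)]
  | 1 => [(eI 1, eI 10, -1)]
  | 0 => [(eI 0, eI 11, -1)]
  | _ => []

set_option synthInstance.maxSize 2000 in
theorem lin_ok : ∀ p ∈ longRoots,
    ∀ q : Ix × Ix,
    ChevalleyEngine.xm chevG2 1 p.1.1 q.1 q.2 = sparse (lin1 p.1) q.1 q.2 ∧
    ChevalleyEngine.xm chevG2 2 p.1.1 q.1 q.2 = sparse (lin2 p.1) q.1 q.2 ∧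
    ChevalleyEngine.xm chevG2 3 p.1.1 q.1 q.2 = 0 := by
  decide +kernel

theorem rhoMat_transvection (r : Fin 12) (a b : Fin 3) (h : a ≠ b) (hr : (r, a, b) ∈ longRoots) (t : F) :
    rhoMat (⟨Matrix.transvection a b t, Matrix.det_transvection_of_ne a b h t⟩ :
      Matrix.SpecialLinearGroup (Fin 3) F) = chevG2.x F r.1 t := by
  let g : Matrix.SpecialLinearGroup (Fin 3) F := ⟨Matrix.transvection a b t, Matrix.det_transvection_of_ne a b h t⟩
  let g' : Matrix.SpecialLinearGroup (Fin 3) F := ⟨Matrix.transvection a b (-t), Matrix.det_transvection_of_ne a b h (-t)⟩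
  have hinv : g⁻¹ = g' :=
    inv_eq_of_mul_eq_one_right (Subtype.ext (by
      show Matrix.transvection a b t * Matrix.transvection a b (-t) = 1
      rw [Matrix.transvection_mul_transvection_same a b h, add_neg_cancel, Matrix.transvection_zero]))
  show rhoMat g = _
  have hlt : r.1 < chevG2.nroots := r.2
  rw [ChevalleyCore.x_eq_xR ChevalleyDataG2.cert hlt t]
  refine Matrix.ext_of_mulVec_single fun c => ?_
  generalize (Pi.single c 1 : Ix → F) = v
  rw [rhoMat, ← Matrix.toLin'_apply, Matrix.toLin'_toMatrix']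
  have hl := lin_ok (r, a, b) hr
  have e1 : ChevalleyEngine.xm chevG2 1 r.1 = sparse (lin1 r) := Matrix.ext fun i j => (hl (i, j)).1
  have e2 : ChevalleyEngine.xm chevG2 2 r.1 = sparse (lin2 r) := Matrix.ext fun i j => (hl (i, j)).2.1
  have e3 : ChevalleyEngine.xm chevG2 3 r.1 = 0 := Matrix.ext fun i j => (hl (i, j)).2.2
  have hgg : act g (emb v) = (Matrix.transvection a b t * (emb v).1 * Matrix.transvection a b (-t),
      Matrix.transvection a b t *ᵥ (emb v).2.1, (emb v).2.2 ᵥ* Matrix.transvection a b (-t)) := by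
    simp only [act, LinearMap.coe_mk, AddHom.coe_mk, hinv]
    rfl
  rw [LinearMap.comp_apply, LinearMap.comp_apply, hgg]
  funext q
  simp only [ChevalleyExp.xR, ChevalleyExp.castM, Matrix.add_mulVec, Matrix.smul_mulVec, Matrix.one_mulVec, Pi.add_apply,
    Pi.smul_apply, smul_eq_mul, e1, e2, e3, sparse_mulVec, Matrix.map_zero _ (Int.cast_zero (R := F)),
    Matrix.zero_mulVec, Pi.zero_apply]
  simp only [longRoots, List.mem_cons, Prod.mk.injEq, List.not_mem_nil, or_false] at hr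
  revert q
  rcases hr with ⟨rfl, rfl, rfl⟩ | ⟨rfl, rfl, rfl⟩ | ⟨rfl, rfl, rfl⟩ | ⟨rfl, rfl, rfl⟩ | ⟨rfl, rfl, rfl⟩ | ⟨rfl, rfl, rfl⟩ <;>
    refine forall_ix (fun i => ?_) (fun u => ?_) <;>
    (first | fin_cases i | fin_cases u) <;>
    simp [proj, coord_h, coord_e, emb, lin1, lin2, sparse_mulVec, eI_inj, hI_inj, hI_ne_eI, eI_ne_hI,
      Matrix.transvection, Matrix.add_mul, Matrix.mul_add, Matrix.mul_apply, Fin.sum_univ_three, Matrix.single,
      Matrix.mulVec, Matrix.vecMul, dotProduct, Matrix.one_apply, Matrix.vecHead, Matrix.vecTail, Function.comp] <;>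
    ring

/-- The image lies in the Chevalley group. -/
theorem rho_mem_group (A : Matrix.SpecialLinearGroup (Fin 3) F) : rho A ∈ chevG2.group F := by
  refine PSLSimple.transvection_induction (fun A => rho A ∈ chevG2.group F) (fun a b h t => ?_)
    (fun A B hA hB => by rw [map_mul]; exact mul_mem hA hB) A
  obtain ⟨r, hr⟩ := exists_long h
  refine Subgroup.subset_closure ⟨r, t, ?_⟩
  rw [coe_rho, show Matrix.SpecialLinearGroup.transvection h t =
    (⟨Matrix.transvection a b t, Matrix.det_transvection_of_ne a b h t⟩ :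
      Matrix.SpecialLinearGroup (Fin 3) F) from rfl, rhoMat_transvection r a b h hr t]
  exact dif_pos r.2

theorem cartan_val : ∀ r : Fin 12, chevG2.cartan 0 r.1 = ![0, -3, -1, 1, -2, 3, -3, 2, -1, 1, 3, 0] r ∧
    chevG2.cartan 1 r.1 = ![-1, 1, 0, -1, 1, -2, 2, -1, 1, 0, -1, 1] r := by
  decide +kernel

theorem tchar_val (c : Fin chevG2.rank → Fˣ) (r : Fin 12) :
    ChevalleyTorus.tchar chevG2 c r.1 = c (0 : Fin 2) ^ (![0, -3, -1, 1, -2, 3, -3, 2, -1, 1, 3, 0] r : ℤ) *
      c (1 : Fin 2) ^ (![-1, 1, 0, -1, 1, -2, 2, -1, 1, 0, -1, 1] r : ℤ) := by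
  rw [← (cartan_val r).1, ← (cartan_val r).2]
  exact Fin.prod_univ_two (fun i : Fin 2 => c i ^ chevG2.cartan i.1 r.1)

/-- The entries of a torus element. -/
def dvec (c : Fin chevG2.rank → Fˣ) : Ix → F :=
  Sum.elim (fun _ => (1 : F)) fun s => (ChevalleyTorus.tchar chevG2 c s.val : F)

theorem dvec_h (c : Fin chevG2.rank → Fˣ) (i : Fin 2) : dvec c (hI i) = (1 : F) := rfl

theorem dvec_e (c : Fin chevG2.rank → Fˣ) (r : Fin 12) :
    dvec c (eI r) = ((ChevalleyTorus.tchar chevG2 c r.1 : Fˣ) : F) := rfl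

/-- A diagonal element of SL(3) as a torus element. -/
theorem rho_diagonal (c : Fin chevG2.rank → Fˣ) (A : Matrix.SpecialLinearGroup (Fin 3) F)
    (hA : (A : Matrix (Fin 3) (Fin 3) F) = Matrix.diagonal ![(c (1 : Fin 2) : F) / c (0 : Fin 2),
      (c (0 : Fin 2) : F) ^ 2 / c (1 : Fin 2), ((c (0 : Fin 2) : F))⁻¹]) :
    rho A = ChevalleyTorus.torus chevG2 c := by
  apply Units.ext
  have ha : ((c (0 : Fin 2) : Fˣ) : F) ≠ 0 := Units.ne_zero _
  have hb : ((c (1 : Fin 2) : Fˣ) : F) ≠ 0 := Units.ne_zero _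
  have hinv : ((A⁻¹ : Matrix.SpecialLinearGroup (Fin 3) F) : Matrix (Fin 3) (Fin 3) F) =
      Matrix.diagonal ![(c (0 : Fin 2) : F) / c (1 : Fin 2),
        (c (1 : Fin 2) : F) / (c (0 : Fin 2) : F) ^ 2, (c (0 : Fin 2) : F)] := by
    have h1 : ((A⁻¹ : Matrix.SpecialLinearGroup (Fin 3) F) : Matrix (Fin 3) (Fin 3) F) * (A : Matrix (Fin 3) (Fin 3) F) = 1 := by
      rw [← Matrix.SpecialLinearGroup.coe_mul, inv_mul_cancel, Matrix.SpecialLinearGroup.coe_one]
    rw [hA] at h1
    refine left_inv_eq_right_inv h1 ?_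
    rw [Matrix.diagonal_mul_diagonal, ← Matrix.diagonal_one]
    congr 1
    funext i
    fin_cases i <;> simp <;> field_simp
  refine Matrix.ext_of_mulVec_single fun k => ?_
  generalize (Pi.single k 1 : Ix → F) = v
  rw [coe_rho, ChevalleyTorus.coe_torus, rhoMat, ← Matrix.toLin'_apply, Matrix.toLin'_toMatrix',
    LinearMap.comp_apply, LinearMap.comp_apply]
  simp only [act, LinearMap.coe_mk, AddHom.coe_mk, hA, hinv]
  funext q
  rw [show ChevalleyTorus.tmat chevG2 c = Matrix.diagonal (dvec c) from rfl, Matrix.mulVec_diagonal]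
  revert q
  refine forall_ix (fun i => ?_) (fun u => ?_)
  · fin_cases i <;>
      simp [proj, coord_h, emb, Matrix.mulVec_diagonal, Matrix.vecMul_diagonal, Matrix.diagonal_mul,
        Matrix.mul_diagonal, dvec_h] <;>
      field_simp <;> ring
  · rw [dvec_e, tchar_val]
    fin_cases u <;>
      simp [proj, coord_e, emb, Matrix.mulVec_diagonal, Matrix.vecMul_diagonal, Matrix.diagonal_mul,
        Matrix.mul_diagonal] <;>
      field_simp <;> first | ring1 | simp

end Cfsg.Agent.G2SL3Embed68
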