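import Mathlib
import Cfsg.Agent.Lib.SemisimpleConjGL

/-!
Elements of prime order `r ∣ q - 1` in `PGL_n(q)`: lifts with `g ^ r = 1` are diagonal up to
conjugacy, the others have characteristic polynomial a power of `X ^ r - λ`.
-/

set_option autoImplicit false

namespace Cfsg.Agent.PglPrimeClasses10

open Polynomial Matrix

/-! ### The index set of diagonalisable classes -/

section Tuples

variable {r n : ℕ}

/-- The multiset of values of a function on `Fin n`. -/
def symOf (f : Fin n → ZMod r) : Sym (ZMod r) n :=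
  ⟨Finset.univ.val.map f, by simp⟩

theorem symOf_surjective : Function.Surjective (symOf (r := r) (n := n)) := by
  rintro ⟨m, hm⟩
  obtain ⟨l, rfl⟩ := Quot.exists_rep m
  have hl : l.length = n := hm
  subst hl
  refine ⟨fun i => l.get i, Sym.ext ?_⟩
  show Finset.univ.val.map (fun i => l.get i) = (l : Multiset (ZMod r))
  rw [Fin.univ_val_map, List.ofFn_get]

theorem symOf_add (f : Fin n → ZMod r) (k : ZMod r) :
    symOf (fun i => f i + k) = (symOf f).map (· + k) :=
  Sym.ext (by
    show (Finset.univ : Finset (Fin n)).val.map (fun i => f i + k) =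
      ((Finset.univ : Finset (Fin n)).val.map f).map (· + k)
    rw [Multiset.map_map]
    rfl)

/-- Multisets of size `n` which are not constant. -/
def Tup (r n : ℕ) : Type := {s : Sym (ZMod r) n // ∀ j, s ≠ Sym.replicate n j}

noncomputable instance [NeZero r] : Fintype (Tup r n) :=
  Fintype.ofFinite {s : Sym (ZMod r) n // ∀ j, s ≠ Sym.replicate n j}

theorem map_add_replicate (k j : ZMod r) :
    (Sym.replicate n j).map (· + k) = Sym.replicate n (j + k) :=
  Sym.ext (by
    show (Multiset.replicate n j).map _ = Multiset.replicate n _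
    rw [Multiset.map_replicate])

/-- Shifting preserves the non-constant multisets. -/
def shift (k : ZMod r) (s : Tup r n) : Tup r n :=
  ⟨s.1.map (· + k), fun j h => s.2 (j + -k) (by
    have := congrArg (fun t : Sym (ZMod r) n => t.map (· + -k)) h
    simp only [Sym.map_map, map_add_replicate] at this
    rw [← this]
    simp [Function.comp_def])⟩

instance : AddAction (ZMod r) (Tup r n) where
  vadd k s := shift k s
  zero_vadd s := Subtype.ext (show s.1.map (· + 0) = s.1 by simp)
  add_vadd a b s := Subtype.ext (show s.1.map (· + (a + b)) = (s.1.map (· + b)).map (· + a) by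
    rw [Sym.map_map]
    congr 1
    funext x
    simp only [Function.comp_apply]
    ring)

theorem vadd_val (k : ZMod r) (s : Tup r n) : (k +ᵥ s).1 = s.1.map (· + k) := rfl

theorem card_tup [NeZero r] (hn : 0 < n) :
    Nat.card (Tup r n) = Nat.choose (n + r - 1) (r - 1) - r := by
  classical
  show Nat.card ({s | ∀ j, s ≠ Sym.replicate n j} : Set (Sym (ZMod r) n)) = _
  have hinj : Function.Injective (fun j : ZMod r => Sym.replicate n j) := fun a b h =>
    (Sym.replicate_right_injective hn.ne') h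
  rw [Nat.card_coe_set_eq,
    show {s : Sym (ZMod r) n | ∀ j, s ≠ Sym.replicate n j} =
      (Set.range fun j : ZMod r => Sym.replicate n j)ᶜ from by
        ext s; simp [eq_comm],
    Set.ncard_compl, Nat.card_eq_fintype_card, Sym.card_sym_eq_choose, ZMod.card,
    Set.ncard_range_of_injective hinj, Nat.card_zmod]
  congr 1
  have h1 : 1 ≤ r := NeZero.one_le
  rw [add_comm r n]
  exact Nat.choose_symm_of_eq_add (by omega)

theorem card_fixed [Fact r.Prime] (hn : 2 ≤ n) {k : ZMod r} (hk : k ≠ 0) :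
    Nat.card (AddAction.fixedBy (Tup r n) k) = if r ∣ n then 1 else 0 := by
  classical
  have hr : r.Prime := Fact.out
  have hcount : ∀ s : Tup r n, s ∈ AddAction.fixedBy (Tup r n) k →
      ∀ j, (s.1 : Multiset (ZMod r)).count j = (s.1 : Multiset (ZMod r)).count 0 := by
    intro s hs j
    have h1 : (s.1 : Multiset (ZMod r)).map (· + k) = s.1 :=
      congrArg (fun t : Tup r n => (t.1 : Multiset (ZMod r))) hs
    have h2 : ∀ x, (s.1 : Multiset (ZMod r)).count (x + k) = (s.1 : Multiset (ZMod r)).count x := by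
      intro x
      conv_lhs => rw [← h1]
      exact Multiset.count_map_eq_count' _ _ (add_left_injective k) x
    have h3 : ∀ m : ℕ, (s.1 : Multiset (ZMod r)).count ((m : ZMod r) * k) =
        (s.1 : Multiset (ZMod r)).count 0 := by
      intro m
      induction m with
      | zero => simp
      | succ m ih => rw [Nat.cast_succ, add_mul, one_mul, h2, ih]
    have := h3 (j * k⁻¹).val
    rwa [ZMod.natCast_zmod_val, mul_assoc, inv_mul_cancel₀ hk, mul_one] at this
  have hsum : ∀ s : Tup r n, s ∈ AddAction.fixedBy (Tup r n) k →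
      r * (s.1 : Multiset (ZMod r)).count 0 = n := by
    intro s hs
    calc r * (s.1 : Multiset (ZMod r)).count 0
        = ∑ j : ZMod r, (s.1 : Multiset (ZMod r)).count j := by
          rw [Finset.sum_congr rfl fun j _ => hcount s hs j, Finset.sum_const, Finset.card_univ,
            ZMod.card, smul_eq_mul]
      _ = n := (Multiset.sum_count_eq_card fun _ _ => Finset.mem_univ _).trans s.1.2
  split_ifs with hdvd
  · obtain ⟨c, hc⟩ := hdvd
    let m : Multiset (ZMod r) := c • (Finset.univ : Finset (ZMod r)).val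
    have hmc : ∀ j, m.count j = c := fun j => by
      simp [m, Multiset.count_nsmul, Multiset.count_eq_one_of_mem Finset.univ.nodup (Finset.mem_univ j)]
    have hcard : Multiset.card m = n := by simp [m, ZMod.card, hc, mul_comm]
    have hc0 : c ≠ 0 := by rintro rfl; omega
    let s : Tup r n := ⟨⟨m, hcard⟩, fun j h => by
      have h1 := congrArg (fun t : Sym (ZMod r) n => (t : Multiset (ZMod r)).count (j + 1)) h
      simp [hmc, hc0, Multiset.count_replicate] at h1⟩
    have hs : s ∈ AddAction.fixedBy (Tup r n) k := by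
      refine Subtype.ext (Sym.ext (Multiset.ext.2 fun j => ?_))
      show (m.map (· + k)).count j = m.count j
      rw [← sub_add_cancel j k, Multiset.count_map_eq_count' _ _ (add_left_injective k), hmc, hmc]
    refine Nat.card_eq_one_iff_unique.2 ⟨⟨fun a b => ?_⟩, ⟨⟨s, hs⟩⟩⟩
    apply Subtype.ext
    refine Subtype.ext (Sym.ext (Multiset.ext.2 fun j => ?_))
    rw [hcount a.1 a.2, hcount b.1 b.2]
    exact Nat.eq_of_mul_eq_mul_left hr.pos ((hsum a.1 a.2).trans (hsum b.1 b.2).symm)
  · have : IsEmpty (AddAction.fixedBy (Tup r n) k) :=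
      ⟨fun a => hdvd ⟨_, (hsum a.1 a.2).symm⟩⟩
    exact Nat.card_of_isEmpty

theorem card_orbits [Fact r.Prime] (hn : 2 ≤ n) :
    Nat.card (AddAction.orbitRel.Quotient (ZMod r) (Tup r n)) =
      (Nat.choose (n + r - 1) (r - 1) - r - (if r ∣ n then 1 else 0)) / r +
        (if r ∣ n then 1 else 0) := by
  classical
  have hr : r.Prime := Fact.out
  set fx := if r ∣ n then 1 else 0 with hfx
  have hb : (∑ k : ZMod r, Fintype.card (AddAction.fixedBy (Tup r n) k)) =
      Fintype.card (AddAction.orbitRel.Quotient (ZMod r) (Tup r n)) * Fintype.card (ZMod r) :=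
    AddAction.sum_card_fixedBy_eq_card_orbits_mul_card_addGroup (ZMod r) (Tup r n)
  have h0 : Nat.card (AddAction.fixedBy (Tup r n) (0 : ZMod r)) = Nat.card (Tup r n) :=
    Nat.card_congr (Equiv.subtypeUnivEquiv fun s => zero_vadd _ s)
  simp only [← Nat.card_eq_fintype_card] at hb
  rw [Nat.card_zmod, ← Finset.add_sum_erase _ _ (Finset.mem_univ (0 : ZMod r)), h0,
    Finset.sum_congr rfl (fun k hk => card_fixed hn (Finset.ne_of_mem_erase hk)), Finset.sum_const,
    Finset.card_erase_of_mem (Finset.mem_univ _), Finset.card_univ, ZMod.card,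
    smul_eq_mul, card_tup (by omega), ← hfx] at hb
  set A := Nat.choose (n + r - 1) (r - 1) - r
  set O := Nat.card (AddAction.orbitRel.Quotient (ZMod r) (Tup r n))
  have hle : fx ≤ O := by
    by_contra hlt
    have hf : fx ≤ 1 := by rw [hfx]; split_ifs <;> simp
    have hO : O = 0 := by omega
    have hf1 : fx = 1 := by omega
    rw [hO, hf1, zero_mul] at hb
    have := hr.two_le
    omega
  have hA : A - fx = r * (O - fx) := by
    obtain ⟨d, hd⟩ := Nat.exists_eq_add_of_le hle
    have h2 := hr.two_le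
    rw [hd, Nat.add_sub_cancel_left]
    obtain ⟨r', rfl⟩ : ∃ r', r = r' + 1 := ⟨r - 1, by omega⟩
    rw [Nat.add_sub_cancel, hd] at hb
    have : A = (r' + 1) * d + fx := by linarith
    omega
  rw [hA, Nat.mul_div_cancel_left _ hr.pos]
  omega

end Tuples

/-! ### Matrices with a scalar prime power -/

variable {F : Type*} [Field F] {n r : ℕ}

theorem dvd_of_pow_eq_scalar {A : Matrix (Fin n) (Fin n) F} {c : F}
    (hA : A ^ r = Matrix.scalar (Fin n) c) {μ : F[X]} (hμ : Irreducible μ) (hd : μ ∣ A.charpoly) :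
    μ ∣ X ^ r - C c := by
  by_contra h
  obtain ⟨x, hx0, hx⟩ := SemisimpleConjGL.exists_ker_of_dvd_charpoly (Matrix.toLin' A) hμ
    (by rwa [Matrix.charpoly_toLin'])
  obtain ⟨u, w, huw⟩ := hμ.coprime_iff_not_dvd.2 h
  apply hx0
  have hz : aeval (Matrix.toLinAlgEquiv' A) (X ^ r - C c : F[X]) = 0 := by
    rw [aeval_algHom_apply, map_sub, map_pow, aeval_X, aeval_C, hA,
      Matrix.algebraMap_eq_diagonal]
    simp [Pi.algebraMap_def]
  have := LinearMap.congr_fun (congrArg (aeval (Matrix.toLinAlgEquiv' A)) huw) x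
  rw [map_add, map_mul, map_mul, hz, mul_zero, add_zero, Module.End.mul_apply] at this
  rw [show aeval (Matrix.toLinAlgEquiv' A) μ x = 0 from hx, map_zero, map_one] at this
  exact this.symm

theorem isSemisimple_of_pow_eq_scalar {A : Matrix (Fin n) (Fin n) F} {c : F} (hc : c ≠ 0)
    (hr : (r : F) ≠ 0) (hA : A ^ r = Matrix.scalar (Fin n) c) :
    Module.End.IsSemisimple (Matrix.toLin' A) := by
  refine Module.End.isSemisimple_of_squarefree_aeval_eq_zero (p := X ^ r - C c)
    (separable_X_pow_sub_C c hr hc).squarefree ?_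
  show aeval (Matrix.toLinAlgEquiv' A) (X ^ r - C c) = 0
  rw [aeval_algHom_apply, map_sub, map_pow, aeval_X, aeval_C, hA, Matrix.algebraMap_eq_diagonal]
  simp [Pi.algebraMap_def]

theorem charpoly_eq_pow {A : Matrix (Fin n) (Fin n) F} {c : F} (hr : r.Prime)
    (hc : ∀ b : F, b ^ r ≠ c) (hA : A ^ r = Matrix.scalar (Fin n) c) :
    r ∣ n ∧ A.charpoly = (X ^ r - C c) ^ (n / r) := by
  classical
  have hirr := X_pow_sub_C_irreducible_of_prime hr hc
  have hm : (X ^ r - C c).Monic := monic_X_pow_sub_C c hr.ne_zero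
  have hP := A.charpoly_monic
  open UniqueFactorizationMonoid in
  have h1 : normalizedFactors A.charpoly =
      Multiset.replicate (Multiset.card (normalizedFactors A.charpoly)) (X ^ r - C c) := by
    refine Multiset.eq_replicate_card.2 fun μ hμ => ?_
    have hμi := irreducible_of_normalized_factor μ hμ
    have hμm : μ.Monic := by
      rw [← normalize_normalized_factor μ hμ]; exact monic_normalize hμi.ne_zero
    exact eq_of_monic_of_associated hμm hm
      (hμi.associated_of_dvd hirr (dvd_of_pow_eq_scalar hA hμi (dvd_of_mem_normalizedFactors hμ)))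
  open UniqueFactorizationMonoid in
  have h2 : (normalizedFactors A.charpoly).prod = A.charpoly := by
    rw [prod_normalizedFactors_eq hP.ne_zero, hP.normalize_eq_self]
  rw [h1, Multiset.prod_replicate] at h2
  have h3 := congrArg natDegree h2
  rw [natDegree_pow, natDegree_X_pow_sub_C, Matrix.charpoly_natDegree_eq_dim, Fintype.card_fin] at h3
  refine ⟨⟨_, h3.symm.trans (mul_comm _ _)⟩, ?_⟩
  rw [Nat.div_eq_of_eq_mul_left hr.pos h3.symm]
  exact h2.symm

theorem exists_pow_eq_scalar (hr : r.Prime) (c : F) {m : ℕ} (hn : n = r * m) :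
    ∃ A : Matrix (Fin n) (Fin n) F, A ^ r = Matrix.scalar (Fin n) c := by
  have hm : (X ^ r - C c).Monic := monic_X_pow_sub_C c hr.ne_zero
  let pb := AdjoinRoot.powerBasis' hm
  have hdim : pb.dim = r := natDegree_X_pow_sub_C
  let e : Fin pb.dim × Fin m ≃ Fin n :=
    finProdFinEquiv.trans (finCongr (by rw [hdim, hn]))
  refine ⟨Matrix.reindexAlgEquiv F F e (Matrix.blockDiagonal fun _ : Fin m =>
    Algebra.leftMulMatrix pb.basis (AdjoinRoot.root (X ^ r - C c))), ?_⟩
  have hroot : (AdjoinRoot.root (X ^ r - C c)) ^ r =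
      algebraMap F (AdjoinRoot (X ^ r - C c)) c := by
    have h := AdjoinRoot.aeval_eq (R := F) (f := X ^ r - C c) (X ^ r - C c)
    rw [AdjoinRoot.mk_self, map_sub, map_pow, aeval_X, aeval_C, sub_eq_zero] at h
    exact h
  rw [← map_pow, ← Matrix.blockDiagonal_pow]
  have hb : ((fun _ : Fin m => Algebra.leftMulMatrix pb.basis (AdjoinRoot.root (X ^ r - C c))) ^ r) =
      fun _ : Fin m => Matrix.scalar (Fin pb.dim) c := by
    funext i
    rw [Pi.pow_apply, ← map_pow, hroot, AlgHom.commutes]
    rfl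
  rw [hb]
  ext i j
  obtain ⟨⟨a, b⟩, rfl⟩ := e.surjective i
  obtain ⟨⟨a', b'⟩, rfl⟩ := e.surjective j
  simp [Matrix.blockDiagonal_apply, Matrix.scalar_apply, Matrix.diagonal_apply, Prod.ext_iff]

/-! ### The projective group -/

open Matrix.GeneralLinearGroup in
theorem isConj_mk_iff (g g' : GL (Fin n) F) :
    IsConj (g : GL (Fin n) F ⧸ Subgroup.center (GL (Fin n) F)) g' ↔
      ∃ μ : Fˣ, IsConj (scalar (Fin n) μ * g) g' := by
  constructor
  · intro h
    obtain ⟨c, hc⟩ := isConj_iff.1 h
    obtain ⟨c, rfl⟩ := QuotientGroup.mk_surjective c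
    rw [← QuotientGroup.mk_inv, ← QuotientGroup.mk_mul, ← QuotientGroup.mk_mul,
      QuotientGroup.eq, center_eq_range_scalar] at hc
    obtain ⟨μ, hμ⟩ := hc
    refine ⟨μ, isConj_iff.2 ⟨c, ?_⟩⟩
    rw [Matrix.GeneralLinearGroup.scalar_commute, ← mul_assoc, mul_assoc (c * g),
      Matrix.GeneralLinearGroup.scalar_commute, ← mul_assoc, hμ]
    group
  · rintro ⟨μ, h⟩
    have hz : ((scalar (Fin n) μ * g : GL (Fin n) F) : GL (Fin n) F ⧸ Subgroup.center _) = g := by
      rw [QuotientGroup.eq, center_eq_range_scalar]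
      exact ⟨μ⁻¹, by rw [_root_.mul_inv_rev, ← map_inv, mul_assoc,
        Matrix.GeneralLinearGroup.scalar_commute, inv_mul_cancel_left]⟩
    rw [← hz]
    exact MonoidHom.map_isConj (QuotientGroup.mk' _) h

open Matrix.GeneralLinearGroup in
theorem val_scalar (μ : Fˣ) :
    ((scalar (Fin n) μ : GL (Fin n) F) : Matrix (Fin n) (Fin n) F) = Matrix.scalar (Fin n) (μ : F) :=
  rfl

theorem isConj_of_charpoly {g g' : GL (Fin n) F} {c : F} (hc : c ≠ 0) (hr : (r : F) ≠ 0)
    (hg : (g : Matrix (Fin n) (Fin n) F) ^ r = Matrix.scalar (Fin n) c)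
    (hg' : (g' : Matrix (Fin n) (Fin n) F) ^ r = Matrix.scalar (Fin n) c)
    (h : (g : Matrix (Fin n) (Fin n) F).charpoly = (g' : Matrix (Fin n) (Fin n) F).charpoly) :
    IsConj g g' := by
  obtain ⟨P, hP⟩ := SemisimpleConjGL.exists_gl_conj (isSemisimple_of_pow_eq_scalar hc hr hg)
    (isSemisimple_of_pow_eq_scalar hc hr hg') h
  exact isConj_iff.2 ⟨P, mul_inv_eq_iff_eq_mul.2 (Units.ext hP)⟩

variable {ζ : Fˣ}

/-- The eigenvalue attached to `j : ZMod r`. -/
def z (ζ : Fˣ) (j : ZMod r) : Fˣ := ζ ^ j.val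

theorem z_add [NeZero r] (hζ : IsPrimitiveRoot ζ r) (a b : ZMod r) :
    z ζ (a + b) = z ζ a * z ζ b := by
  rw [z, z, z, ← pow_add, ZMod.val_add, ← pow_eq_pow_mod _ hζ.pow_eq_one]

theorem z_injective [NeZero r] (hζ : IsPrimitiveRoot ζ r) :
    Function.Injective (fun j : ZMod r => ((z ζ j : Fˣ) : F)) := fun a b h =>
  ZMod.val_injective r (hζ.pow_inj (ZMod.val_lt a) (ZMod.val_lt b) (Units.ext h))

theorem z_pow (hζ : IsPrimitiveRoot ζ r) (j : ZMod r) : z ζ j ^ r = 1 := by
  rw [z, ← pow_mul, mul_comm, pow_mul, hζ.pow_eq_one, one_pow]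

theorem exists_z [NeZero r] (hζ : IsPrimitiveRoot ζ r) {x : F} (hx : x ^ r = 1) :
    ∃ j : ZMod r, ((z ζ j : Fˣ) : F) = x := by
  obtain ⟨i, hi, rfl⟩ :=
    (IsPrimitiveRoot.coe_units_iff.2 hζ).eq_pow_of_pow_eq_one hx
  exact ⟨i, by simp [z, ZMod.val_cast_of_lt hi]⟩

/-- A diagonal element of order dividing `r`. -/
def diagEl (ζ : Fˣ) (f : Fin n → ZMod r) : GL (Fin n) F where
  val := Matrix.diagonal fun i => ((z ζ (f i) : Fˣ) : F)
  inv := Matrix.diagonal fun i => (((z ζ (f i))⁻¹ : Fˣ) : F)
  val_inv := by simp [Matrix.diagonal_mul_diagonal]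
  inv_val := by simp [Matrix.diagonal_mul_diagonal]

/-- The characteristic polynomial attached to a multiset of eigenvalues. -/
noncomputable def poly (ζ : Fˣ) (s : Sym (ZMod r) n) : F[X] :=
  (((s : Multiset (ZMod r)).map fun j => ((z ζ j : Fˣ) : F)).map fun a => X - C a).prod

theorem poly_injective [NeZero r] (hζ : IsPrimitiveRoot ζ r) :
    Function.Injective (poly (n := n) (r := r) ζ) := fun s t h => by
  have h1 := congrArg Polynomial.roots h
  rw [poly, poly, roots_multiset_prod_X_sub_C, roots_multiset_prod_X_sub_C] at h1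
  exact Sym.ext (Multiset.map_injective (z_injective hζ) h1)

theorem charpoly_diagEl (f : Fin n → ZMod r) :
    (diagEl ζ f : Matrix (Fin n) (Fin n) F).charpoly = poly ζ (symOf f) := by
  show (Matrix.diagonal _).charpoly = _
  rw [Matrix.charpoly_diagonal, poly]
  show _ = ((((Finset.univ.val.map f)).map _).map _).prod
  rw [Multiset.map_map, Multiset.map_map]
  rfl

theorem diagEl_pow (hζ : IsPrimitiveRoot ζ r) (f : Fin n → ZMod r) :
    (diagEl ζ f : Matrix (Fin n) (Fin n) F) ^ r = Matrix.scalar (Fin n) 1 := by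
  show (Matrix.diagonal _) ^ r = _
  rw [Matrix.diagonal_pow, Matrix.scalar_apply]
  congr 1
  funext i
  simp [← Units.val_pow_eq_pow_val, z_pow hζ]

theorem scalar_mul_diagEl [NeZero r] (hζ : IsPrimitiveRoot ζ r) (f : Fin n → ZMod r) (k : ZMod r) :
    Matrix.GeneralLinearGroup.scalar (Fin n) (z ζ k) * diagEl ζ f =
      diagEl ζ fun i => f i + k := by
  refine Units.ext ?_
  show Matrix.scalar (Fin n) _ * Matrix.diagonal _ = Matrix.diagonal _
  rw [Matrix.scalar_apply, Matrix.diagonal_mul_diagonal]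
  congr 1
  funext i
  rw [z_add hζ, Units.val_mul, mul_comm]

theorem exists_diag [NeZero r] (hζ : IsPrimitiveRoot ζ r) (hr : (r : F) ≠ 0) (g : GL (Fin n) F)
    (hg : (g : Matrix (Fin n) (Fin n) F) ^ r = Matrix.scalar (Fin n) 1) :
    ∃ f : Fin n → ZMod r, IsConj g (diagEl ζ f) := by
  classical
  set P := (g : Matrix (Fin n) (Fin n) F).charpoly with hP
  have hPm : P.Monic := Matrix.charpoly_monic _
  have hX : (X ^ r - C (1 : F)).Splits := by
    rw [map_one]
    exact X_pow_sub_one_splits (IsPrimitiveRoot.coe_units_iff.2 hζ)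
  have hsp : P.Splits := splits_iff_splits.2 (Or.inr fun {μ} hμ hd =>
    (splits_iff_splits.1 hX).resolve_left (monic_X_pow_sub_C 1 (NeZero.ne r)).ne_zero hμ
      (dvd_of_pow_eq_scalar hg hμ hd))
  have hroots : ∀ x ∈ P.roots, x ^ r = 1 := fun x hx => by
    have hd := dvd_of_pow_eq_scalar hg (irreducible_X_sub_C x)
      (dvd_iff_isRoot.2 ((mem_roots hPm.ne_zero).1 hx))
    have := dvd_iff_isRoot.1 hd
    simpa [IsRoot, sub_eq_zero] using this
  have hcard : Multiset.card P.roots = n := by
    rw [← hsp.natDegree_eq_card_roots, hP, Matrix.charpoly_natDegree_eq_dim, Fintype.card_fin]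
  let s : Sym (ZMod r) n :=
    ⟨P.roots.map (Function.invFun fun j : ZMod r => ((z ζ j : Fˣ) : F)), by simp [hcard]⟩
  obtain ⟨f, hf⟩ := symOf_surjective s
  have h1 : poly ζ s = P := by
    rw [poly]
    show (((P.roots.map _).map _).map _).prod = P
    rw [Multiset.map_map (fun j : ZMod r => ((z ζ j : Fˣ) : F)),
      Multiset.map_congr rfl (fun x hx => show ((fun j : ZMod r => ((z ζ j : Fˣ) : F)) ∘
          Function.invFun fun j : ZMod r => ((z ζ j : Fˣ) : F)) x = x from
        Function.invFun_eq (f := fun j : ZMod r => ((z ζ j : Fˣ) : F))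
          (exists_z hζ (hroots x hx))), Multiset.map_id']
    exact (hsp.eq_prod_roots_of_monic hPm).symm
  exact ⟨f, isConj_of_charpoly one_ne_zero hr hg (diagEl_pow hζ f)
    (by rw [charpoly_diagEl, hf, h1])⟩

end Cfsg.Agent.PglPrimeClasses10
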