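import Cfsg.Agent.Lib.G2EvenWeyl68
import Cfsg.Agent.Lib.G2SL3Embed68
import Cfsg.Agent.Lib.ChevalleyRankOne
import Cfsg.Agent.Lib.PglPrimeClasses10
import Cfsg.Agent.Lib.PSLCard

/-!
Centralisers of torus elements of odd order in the Chevalley group of type G2 over a finite field of
characteristic two, and conjugation of elements of odd order into the torus.
-/

set_option autoImplicit false

namespace Cfsg.Agent.G2EvenCentralizer68

open Cfsg.Lie Cfsg.Agent.ChevWeyl Cfsg.Agent.ChevBruhat Cfsg.Agent.ChevRootCoord68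
  Cfsg.Agent.G2EvenWeyl68
open Cfsg.Agent.ChevCoxTorus68 (Pm act_Pm tor tor_inj tor_add torHom tor_conj_xg conj_tor mem_H_iff)
open Cfsg.Agent.ChevalleyTorusCard (act smithG2 act_mul act_one)
open Cfsg.Agent.ChevalleyCore (xg)
open scoped MatrixGroups

theorem supp : suppCheck chevG2 = true := by decide +kernel

theorem orth : ∀ i j : Fin chevG2.rank, i ≠ j →
    ∑ s : Fin chevG2.nroots, C.coef s.val j.val * chevG2.cartan i.val s.val = 0 := by decide +kernel

theorem norm_pos : ∀ i : Fin chevG2.rank,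
    0 < ∑ s : Fin chevG2.nroots, C.coef s.val i.val * chevG2.cartan i.val s.val := by decide +kernel

theorem pos_sum : ∀ i : Fin chevG2.rank, ∑ s : Fin chevG2.nroots,
    (if chevG2.nroots / 2 ≤ s.val then chevG2.cartan i.val s.val else 0) = 2 := by decide +kernel

theorem top : ∀ j : Fin chevG2.rank, 2 ≤ C.coef (chevG2.nroots - 1) j.val ∧
    C.coef (chevG2.nroots - 1) j.val ≤ ((3 : ℕ) : ℤ) := by decide +kernel

theorem le_top : ∀ p : Fin chevG2.nroots × Fin chevG2.rank,
    C.coef p.1.val p.2.val ≤ C.coef (chevG2.nroots - 1) p.2.val := by decide +kernel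

theorem num : Num C 3 where
  rank_pos := by decide +kernel
  orth := orth
  norm_pos := norm_pos
  pos_sum := pos_sum
  two_le_top j := (top j).1
  top_le j := (top j).2
  le_top s j := le_top (s, j)

/-- A matrix of finite order prime to the characteristic over a field with enough roots of unity is
diagonalisable by an element of determinant one. -/
theorem exists_diag_conj {K : Type*} [Field K] [Fintype K] {n m : ℕ} (hn : (n : K) ≠ 0)
    (hdvd : n ∣ Fintype.card K - 1) {A : Matrix.SpecialLinearGroup (Fin (m + 1)) K} (hA : A ^ n = 1) :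
    ∃ (B : Matrix.SpecialLinearGroup (Fin (m + 1)) K) (d : Fin (m + 1) → K),
      ((B * A * B⁻¹ : Matrix.SpecialLinearGroup (Fin (m + 1)) K) : Matrix (Fin (m + 1)) (Fin (m + 1)) K) =
        Matrix.diagonal d := by
  classical
  have : NeZero n := ⟨fun h => hn (by rw [h, Nat.cast_zero])⟩
  obtain ⟨u, hu, -⟩ := ChevCoxTorus68.exists_prim hdvd
  have hζ : IsPrimitiveRoot u.toMul n := by
    have : orderOf u.toMul = n := by rw [← hu, ← addOrderOf_ofMul_eq_orderOf, ofMul_toMul]
    rw [← this]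
    exact IsPrimitiveRoot.orderOf _
  obtain ⟨f, hf⟩ := PglPrimeClasses10.exists_diag hζ hn (Matrix.SpecialLinearGroup.toGL A) (by
    rw [Matrix.scalar_apply, Matrix.diagonal_one]
    exact congrArg Subtype.val hA)
  obtain ⟨P, hP⟩ := isConj_iff.1 hf
  set M := (P : Matrix (Fin (m + 1)) (Fin (m + 1)) K) with hM
  have hdet : M.det ≠ 0 := Matrix.GeneralLinearGroup.det_ne_zero P
  set d := fun i => ((PglPrimeClasses10.z u.toMul (f i) : Kˣ) : K)
  have hMA : M * (A : Matrix (Fin (m + 1)) (Fin (m + 1)) K) = Matrix.diagonal d * M := by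
    have h := congrArg (fun g : GL (Fin (m + 1)) K => (g : Matrix (Fin (m + 1)) (Fin (m + 1)) K))
      (mul_inv_eq_iff_eq_mul.1 hP)
    exact h
  set e : Fin (m + 1) → K := Function.update (fun _ => 1) 0 M.det⁻¹
  have hB : (Matrix.diagonal e * M).det = 1 := by
    rw [Matrix.det_mul, Matrix.det_diagonal, Finset.prod_update_of_mem (Finset.mem_univ _)]
    simp [hdet]
  let B : Matrix.SpecialLinearGroup (Fin (m + 1)) K := ⟨_, hB⟩
  refine ⟨B, d, ?_⟩
  have h1 : (B : Matrix (Fin (m + 1)) (Fin (m + 1)) K) * A = Matrix.diagonal d * B := by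
    show Matrix.diagonal e * M * A = Matrix.diagonal d * (Matrix.diagonal e * M)
    rw [mul_assoc, hMA, ← mul_assoc, ← mul_assoc, Matrix.diagonal_mul_diagonal,
      Matrix.diagonal_mul_diagonal]
    congr 2
    funext i; exact mul_comm _ _
  rw [Matrix.SpecialLinearGroup.coe_mul, Matrix.SpecialLinearGroup.coe_mul, h1, mul_assoc,
    ← Matrix.SpecialLinearGroup.coe_mul, mul_inv_cancel, Matrix.SpecialLinearGroup.coe_one, mul_one]

section

variable {K : Type*} [Field K]

/-- the Bruhat hypotheses over `K` -/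
noncomputable abbrev S : Sys chevG2 K := ChevBruhatInstance.mkSys C X supp

/-- the Weyl element of a monomial element -/
noncomputable def tW : ↥(chevG2.monomialSubgroup K) →* X.W := (S (K := K)).toW

theorem tW_sN (i : Fin chevG2.rank) : tW ((S (K := K)).sN i) = X.C.simple i := (S (K := K)).toW_sN i

theorem mem_H_of_tW {n : ↥(chevG2.monomialSubgroup K)} (h : tW n = 1) :
    (n : GL chevG2.Idx K) ∈ chevG2.diagonalSubgroup K :=
  (S (K := K)).toW_ker.le (MonoidHom.mem_ker.2 h)

theorem acts_X (i : Fin chevG2.rank) {r : ℕ} (hr : r < chevG2.nroots) :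
    ∃ c : K, ∀ b : K, ((S (K := K)).sN i : GL chevG2.Idx K) * xg C r b *
      ((S (K := K)).sN i : GL chevG2.Idx K)⁻¹ = xg C (chevG2.reflectRoot i.val r) (c * b) := by
  obtain ⟨c, -, e, -⟩ := (S (K := K)).acts_simple i r hr
  refine ⟨c, fun b => ?_⟩
  have h := e b
  rw [show (S (K := K)).X.img ((S (K := K)).X.C.simple i) r = chevG2.reflectRoot i.val r from
    X.img_simple i hr] at h
  exact h

theorem two_free [CharP K 2] (z : Additive Kˣ) (h : (2 : ℕ) • z = 0) : z = 0 := by
  have h1 : (z.toMul : K) ^ 2 = 1 := by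
    rw [← Units.val_pow_eq_pow_val, ← toMul_nsmul, h, toMul_zero, Units.val_one]
  have : Fact (Nat.Prime 2) := ⟨Nat.prime_two⟩
  have h2 : ((z.toMul : K) - 1) ^ 2 = 0 := by rw [sub_pow_char, h1, one_pow, sub_self]
  exact Additive.toMul.injective (Units.ext (sub_eq_zero.1 (eq_zero_of_pow_eq_zero h2)))

theorem tr_mem (χ : Fin chevG2.rank → Additive Kˣ) : tor smithG2 χ ∈ chevG2.diagonalSubgroup K :=
  (mem_H_iff C smithG2).2 ⟨χ, rfl⟩

theorem tr_pow (χ : Fin chevG2.rank → Additive Kˣ) (k : ℕ) : tor smithG2 χ ^ k = tor smithG2 (k • χ) :=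
  (map_pow (torHom smithG2) (Multiplicative.ofAdd χ) k).symm.trans
    (congrArg _ (ofAdd_nsmul k χ).symm)

theorem tr_pow_eq_one {χ : Fin chevG2.rank → Additive Kˣ} {k : ℕ} :
    tor smithG2 χ ^ k = 1 ↔ k • χ = 0 := by
  have h0 : tor smithG2 (0 : Fin chevG2.rank → Additive Kˣ) = 1 := map_one (torHom smithG2)
  rw [tr_pow, ← h0]
  exact ⟨fun h => tor_inj C smithG2 h, fun h => h ▸ rfl⟩

theorem H_pow [Fintype K] {h : GL chevG2.Idx K} (hh : h ∈ chevG2.diagonalSubgroup K) :
    h ^ (Fintype.card K - 1) = 1 := by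
  classical
  obtain ⟨χ, rfl⟩ := (mem_H_iff C smithG2).1 hh
  refine tr_pow_eq_one.2 (funext fun j => Additive.toMul.injective ?_)
  rw [Pi.smul_apply, toMul_nsmul, Pi.zero_apply, toMul_zero, ← Fintype.card_units, pow_card_eq_one]

/-- cell data of an element transporting one torus element to another -/
theorem cell {χ χ' : Fin chevG2.rank → Additive Kˣ} {y : GL chevG2.Idx K} (hy : y ∈ chevG2.group K)
    (h : y * tor smithG2 χ' = tor smithG2 χ * y) :
    ∃ (u₀ u : GL chevG2.Idx K) (n : ↥(chevG2.monomialSubgroup K)), y = u₀ * n * u ∧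
      u₀ ∈ chevG2.posUnipotent K ∧ u ∈ chevG2.posUnipotent K ∧
      tor smithG2 χ * u₀ * (tor smithG2 χ)⁻¹ = u₀ ∧ tor smithG2 χ' * u * (tor smithG2 χ')⁻¹ = u ∧
      act (Pm C X (tW n)) χ = χ' := by
  obtain ⟨u₀, u, n, he, hu₀, hu, hfix⟩ := ChevTorusValues68.cell_data C X supp hy
  obtain ⟨h1, h2, h3⟩ := hfix _ _ h
  refine ⟨u₀, u, n, he, hu₀, hu, h1, h2, ?_⟩
  obtain ⟨χ'', e1, e2⟩ := conj_tor C smithG2 X supp n χ'
  have hχ : χ'' = χ := tor_inj C smithG2 (e1.symm.trans h3)
  subst hχ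
  funext j
  rw [act_Pm]
  exact (e2 _ (X.simple_lt j.isLt)).trans (ev_simple C χ' j)

/-- a fixed unipotent element lies in a subgroup containing the fixed root subgroups -/
theorem mem_of_fixed {χ : Fin chevG2.rank → Additive Kˣ} {u : GL chevG2.Idx K}
    (hu : u ∈ chevG2.posUnipotent K) (hfix : tor smithG2 χ * u * (tor smithG2 χ)⁻¹ = u)
    (H' : Subgroup (GL chevG2.Idx K))
    (hH : ∀ r, chevG2.nroots / 2 ≤ r → r < chevG2.nroots → ev C χ r = 0 → ∀ a, xg C r a ∈ H') :
    u ∈ H' := by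
  obtain ⟨t, ⟨h0, rfl⟩, -⟩ := ChevalleyUnipotent.U_normal_form C hu
  have e : tor smithG2 χ * ChevalleyUnipotent.uProd C (chevG2.nroots / 2) t * (tor smithG2 χ)⁻¹ =
      ChevalleyUnipotent.uProd C (chevG2.nroots / 2) fun r => ((ev C χ r).toMul : Kˣ) * t r := by
    rw [ChevalleyUnipotent.uProd, ChevalleyUnipotent.uProd, ← MulAut.conj_apply, map_list_prod,
      List.map_map]
    refine congrArg List.prod (List.map_congr_left fun r hr => ?_)
    rw [List.mem_range'_1] at hr
    have := C.even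
    exact tor_conj_xg C smithG2 χ (by omega) (t r)
  rw [e] at hfix
  refine Subgroup.list_prod_mem _ fun g hg => ?_
  obtain ⟨r, hr, rfl⟩ := List.mem_map.1 hg
  rw [List.mem_range'_1] at hr
  have := C.even
  by_cases ht : t r = 0
  · rw [ht, ChevalleyCore.xg_zero]; exact one_mem _
  refine hH r hr.1 (by omega) ?_ _
  have h1 := ChevalleyUnipotent.uProd_inj C le_rfl hfix r hr.1 (by omega)
  exact Additive.toMul.injective (Units.ext (mul_right_cancel₀ ht (h1.trans (one_mul _).symm)))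

/-- moving a torus element by a Weyl group element -/
theorem transport (v : X.W) : ∃ g ∈ chevG2.group K,
    ∀ χ : Fin chevG2.rank → Additive Kˣ, g⁻¹ * tor smithG2 χ * g = tor smithG2 (wact C X v χ) := by
  obtain ⟨n, hn⟩ := (S (K := K)).toW_surjective v
  refine ⟨n, (S (K := K)).N_le_group n.2, fun χ => ?_⟩
  obtain ⟨χ'', e1, e2⟩ := conj_tor C smithG2 X supp n (wact C X v χ)
  have : χ'' = χ := by
    funext j
    have hj := X.img_lt v⁻¹ (X.simple_lt j.isLt)
    have h := e2 _ hj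
    rw [ev_wact C X v χ hj, show (ChevCoxTorus68.sysK C X supp).toW n = v from hn, X.img_img_inv,
      ev_simple, ev_simple] at h
    exact h
  rw [this] at e1
  rw [← e1]
  group

theorem regular [Fintype K] {χ : Fin chevG2.rank → Additive Kˣ} {n : ℕ} (hn : 0 < n)
    (hdvd : n ∣ Fintype.card K - 1) (hnχ : n • χ = 0)
    (hreg : ∀ r, r < chevG2.nroots → ev C χ r ≠ 0) {y : GL chevG2.Idx K}
    (hy : y ∈ chevG2.group K) (h : y * tor smithG2 χ = tor smithG2 χ * y) : y ∈ chevG2.diagonalSubgroup K := by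
  obtain ⟨u, hu, hgen⟩ := ChevCoxTorus68.exists_prim (K := K) hdvd
  choose f hf using fun j => hgen (χ j) (congrFun hnχ j)
  have hev : ∀ s, ev C χ s = ev C f s • u := fun s => by
    rw [← ev_smul_const]; exact congrArg (ev C · s) (funext hf).symm
  have hd : ∀ a : ℤ, a • u = 0 ↔ (n : ℤ) ∣ a := fun a => by
    rw [← hu, addOrderOf_dvd_iff_zsmul_eq_zero]
  obtain ⟨u₀, u₁, m, rfl, hu₀, hu₁, h1, h2, h3⟩ := cell hy h
  have e1 := mem_of_fixed hu₀ h1 ⊥ fun r _ hr hz => absurd hz (hreg r hr)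
  have e2 := mem_of_fixed hu₁ h2 ⊥ fun r _ hr hz => absurd hz (hreg r hr)
  rw [Subgroup.mem_bot] at e1 e2
  have hv : tW m = 1 := by
    refine no_fix num X supp (N := (n : ℤ)) (by exact_mod_cast hn) f
      (fun s hs hd' => hreg s hs (by rw [hev, (hd _).2 hd'])) _ fun s hs => (hd _).1 ?_
    rw [act_Pm] at h3
    rw [sub_smul, ← hev, ← hev, ← ev_wact C X _ χ hs, h3, sub_self]
  rw [e1, e2, one_mul, mul_one]
  exact mem_H_of_tW hv

/-- the rank one subgroup of a fundamental root -/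
noncomputable def phi (i : Fin chevG2.rank) :
    Matrix.SpecialLinearGroup (Fin 2) K →* GL chevG2.Idx K :=
  ChevalleySL2.phi (ChevalleyRankOne.rels C (ChevalleyRoots.simple_lt C i.isLt))

theorem xg_mem_range (i : Fin chevG2.rank) {r : ℕ}
    (hr : r = chevG2.simple i.val ∨ r = chevG2.neg (chevG2.simple i.val)) (a : K) :
    xg C r a ∈ (phi i).range := by
  rw [phi, ChevalleySL2.range_phi]
  rcases hr with rfl | rfl
  · exact Subgroup.subset_closure (Or.inl ⟨a, rfl⟩)
  · exact Subgroup.subset_closure (Or.inr ⟨a, rfl⟩)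

theorem phi_mem_group (i : Fin chevG2.rank) (A : Matrix.SpecialLinearGroup (Fin 2) K) :
    phi i A ∈ chevG2.group K := by
  have h : (phi (K := K) i).range ≤ chevG2.group K := by
    rw [phi, ChevalleySL2.range_phi, Subgroup.closure_le]
    rintro _ (⟨a, rfl⟩ | ⟨a, rfl⟩)
    · exact (S (K := K)).xg_mem_group (X.simple_lt i.isLt) a
    · exact (S (K := K)).xg_mem_group (C.neg_lt _) a
  exact h ⟨A, rfl⟩

theorem commute_range (i : Fin chevG2.rank) {z : GL chevG2.Idx K}
    (h1 : ∀ a, z * xg C (chevG2.simple i.val) a * z⁻¹ = xg C (chevG2.simple i.val) a)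
    (h2 : ∀ a, z * xg C (chevG2.neg (chevG2.simple i.val)) a * z⁻¹ =
      xg C (chevG2.neg (chevG2.simple i.val)) a)
    (A : Matrix.SpecialLinearGroup (Fin 2) K) : Commute z (phi i A) := by
  have h : (phi (K := K) i).range ≤ Subgroup.centralizer {z} := by
    rw [phi, ChevalleySL2.range_phi, Subgroup.closure_le]
    rintro _ (⟨a, rfl⟩ | ⟨a, rfl⟩) <;> rw [SetLike.mem_coe, Subgroup.mem_centralizer_singleton_iff]
    · exact (mul_inv_eq_iff_eq_mul.1 (h1 a)).symm
    · exact (mul_inv_eq_iff_eq_mul.1 (h2 a)).symm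
  exact (Subgroup.mem_centralizer_singleton_iff.1 (h ⟨A, rfl⟩)).symm

theorem tr_commute_range (i : Fin chevG2.rank) {χ : Fin chevG2.rank → Additive Kˣ} (hχ : χ i = 0)
    (A : Matrix.SpecialLinearGroup (Fin 2) K) : Commute (tor smithG2 χ) (phi i A) := by
  have hi := X.simple_lt i.isLt
  refine commute_range i (fun a => ?_) (fun a => ?_) A
  · rw [tor_conj_xg C smithG2 χ hi, ev_simple, hχ, toMul_zero, Units.val_one, one_mul]
  · rw [tor_conj_xg C smithG2 χ (C.neg_lt _), ev_neg C χ hi, ev_simple, hχ, neg_zero, toMul_zero,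
      Units.val_one, one_mul]

theorem phi_injective [CharP K 2] (i : Fin chevG2.rank) : Function.Injective (phi (K := K) i) := by
  rw [injective_iff_map_eq_one]
  intro A hA
  set M := (A : Matrix (Fin 2) (Fin 2) K) with hM
  have hp := X.simple_pos i.isLt
  have hpl := X.simple_lt i.isLt
  set x := fun a : K => xg C (chevG2.simple i.val) a with hx
  set y := fun a : K => xg C (chevG2.neg (chevG2.simple i.val)) a with hy
  have R : ChevalleySL2.Rels x y := ChevalleyRankOne.rels C (ChevalleyRoots.simple_lt C i.isLt)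
  change ChevalleySL2.phiE x y (M 0 0) (M 0 1) (M 1 0) (M 1 1) = 1 at hA
  have hxU : ∀ a, x a ∈ chevG2.posUnipotent K := fun a => (S (K := K)).xg_mem_U hp a
  by_cases hc : M 1 0 = 0
  · rw [ChevalleySL2.phiE, if_pos hc] at hA
    have hdet : M 0 0 * M 1 1 = 1 := by
      have := ChevalleySL2.det_eq A
      rwa [← hM, hc, mul_zero, sub_zero] at this
    have ha : M 0 0 ≠ 0 := left_ne_zero_of_mul_eq_one hdet
    have hH : ChevalleySL2.hh x y (M 0 0) ∈ chevG2.diagonalSubgroup K :=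
      (S (K := K)).nn_mul_nn_mem hpl ha (neg_ne_zero.2 one_ne_zero)
    have h1 : ChevalleySL2.hh x y (M 0 0) ∈ chevG2.posUnipotent K := by
      rw [eq_inv_of_mul_eq_one_right hA]; exact inv_mem (hxU _)
    have hh1 : ChevalleySL2.hh x y (M 0 0) = 1 := by
      have := Subgroup.mem_inf.2 ⟨h1, hH⟩
      rwa [ChevalleyTorus.U_inf_H C, Subgroup.mem_bot] at this
    rw [hh1, mul_one] at hA
    have hb : M 0 1 * M 0 0 = 0 := (S (K := K)).xg_eq_one hpl hA
    have h2 := R.hx (M 0 0) ha 1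
    rw [hh1, one_mul, mul_one, mul_one] at h2
    have h3 : (1 : K) = M 0 0 ^ 2 := ((S (K := K)).xg_inj _ _ hpl hpl _ _ one_ne_zero h2).2
    have : Fact (Nat.Prime 2) := ⟨Nat.prime_two⟩
    have h4 : (M 0 0 - 1) ^ 2 = 0 := by rw [sub_pow_char, ← h3, one_pow, sub_self]
    have ha1 : M 0 0 = 1 := sub_eq_zero.1 (eq_zero_of_pow_eq_zero h4)
    apply Subtype.ext
    rw [Matrix.SpecialLinearGroup.coe_one, ← hM]
    ext a b
    fin_cases a <;> fin_cases b
    · simpa using ha1
    · simpa [ha] using hb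
    · simpa using hc
    · simpa [ha1] using hdet
  · exfalso
    rw [ChevalleySL2.phiE, if_neg hc] at hA
    set t := -(M 1 0)⁻¹ with ht
    have ht0 : t ≠ 0 := neg_ne_zero.2 (inv_ne_zero hc)
    have hnU : ChevalleySL2.nn x y t ∈ chevG2.posUnipotent K := by
      have : ChevalleySL2.nn x y t = (x (M 0 0 / M 1 0))⁻¹ * (x (M 1 1 / M 1 0))⁻¹ := by
        rw [eq_inv_mul_iff_mul_eq, eq_inv_iff_mul_eq_one]; exact hA
      rw [this]; exact mul_mem (inv_mem (hxU _)) (inv_mem (hxU _))
    have hnN : ChevalleySL2.nn x y t ∈ chevG2.monomialSubgroup K := by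
      rw [ChevalleySL2.nn_eq R t]
      exact mul_mem (Sys.H_le_N ((S (K := K)).nn_mul_nn_mem hpl ht0 (neg_ne_zero.2 one_ne_zero)))
        ((S (K := K)).nn_mem_N hpl)
    have hn1 : (S (K := K)).nn (chevG2.simple i.val) t = 1 := by
      have h5 := Subgroup.mem_inf.2 ⟨hnU, hnN⟩
      rw [(S (K := K)).U_inf_N, Subgroup.mem_bot] at h5
      exact h5
    have h6 := (S (K := K)).nn_eq_H_mul i ht0
    rw [hn1, one_mul] at h6
    have h7 : (S (K := K)).toW ((S (K := K)).sN i) = 1 :=
      MonoidHom.mem_ker.1 (((S (K := K)).toW_ker).ge h6)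
    rw [(S (K := K)).toW_sN] at h7
    have h8 := X.img_simple i hpl
    rw [show X.C.simple i = 1 from h7, X.img_one, X.reflect_simple i.isLt] at h8
    exact ChevalleyRoots.neg_ne C hpl h8.symm

theorem central_eq_one [CharP K 2] {A : Matrix.SpecialLinearGroup (Fin 2) K}
    (h : ∀ B, A * B = B * A) : A = 1 := by
  have h1 := congrArg Subtype.val (h (ChevalleySL2.upper 1))
  have h2 := congrArg Subtype.val (h (ChevalleySL2.lower 1))
  simp only [Matrix.SpecialLinearGroup.coe_mul] at h1 h2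
  have e00 := congrFun (congrFun h1 0) 0
  have e01 := congrFun (congrFun h1 0) 1
  have f00 := congrFun (congrFun h2 0) 0
  simp [ChevalleySL2.upper, ChevalleySL2.lower, Matrix.mul_apply, Fin.sum_univ_two] at e00 e01 f00
  have hdet := ChevalleySL2.det_eq A
  set M := (A : Matrix (Fin 2) (Fin 2) K)
  have hc : M 1 0 = 0 := by linear_combination e00
  have hb : M 0 1 = 0 := by linear_combination f00
  have had : M 0 0 = M 1 1 := by linear_combination e01
  have : Fact (Nat.Prime 2) := ⟨Nat.prime_two⟩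
  have h4 : (M 0 0 - 1) ^ 2 = 0 := by
    rw [sub_pow_char, one_pow, sub_eq_zero]
    rw [hc, hb, ← had] at hdet
    linear_combination hdet
  have ha : M 0 0 = 1 := sub_eq_zero.1 (eq_zero_of_pow_eq_zero h4)
  apply Subtype.ext
  rw [Matrix.SpecialLinearGroup.coe_one]
  ext a b
  fin_cases a <;> fin_cases b
  · simpa using ha
  · simpa using hb
  · simpa using hc
  · simpa using had.symm.trans ha

theorem exists_sqrt [Fintype K] [CharP K 2] (b : Kˣ) : ∃ a : Kˣ, a ^ 2 = b := by
  classical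
  obtain ⟨k, hk⟩ : 2 ∣ Fintype.card K := by
    rw [← CharP.cast_eq_zero_iff K 2, FiniteField.cast_card_eq_zero]
  refine ⟨b ^ k, ?_⟩
  rw [← pow_mul, mul_comm, ← hk,
    show Fintype.card K = Fintype.card Kˣ + 1 by rw [Fintype.card_units]; have := Fintype.card_pos (α := K); omega,
    pow_succ, pow_card_eq_one, one_mul]

theorem subsystem_A1 [Fintype K] [CharP K 2] {χ : Fin chevG2.rank → Additive Kˣ}
    {i : Fin chevG2.rank} (hi : χ i = 0) (hχ : χ ≠ 0)
    (honly : ∀ r, r < chevG2.nroots → ev C χ r = 0 →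
      r = chevG2.simple i.val ∨ r = chevG2.neg (chevG2.simple i.val))
    {y : GL chevG2.Idx K} (hy : y ∈ chevG2.group K) (h : y * tor smithG2 χ = tor smithG2 χ * y) :
    ∃ (A : Matrix.SpecialLinearGroup (Fin 2) K) (z : GL chevG2.Idx K),
      z ∈ chevG2.diagonalSubgroup K ∧ (∀ B, Commute z (phi i B)) ∧ y = phi i A * z := by
  set L := (phi (K := K) i).range with hL
  have hnorm : ∀ t ∈ chevG2.diagonalSubgroup K, ∀ g ∈ L, t * g * t⁻¹ ∈ L := by
    intro t ht g hg
    obtain ⟨η, rfl⟩ := (mem_H_iff C smithG2).1 ht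
    rw [hL, phi, ChevalleySL2.range_phi] at hg
    refine Sys.conj_closure_le _ ?_ hg
    rintro _ (⟨a, rfl⟩ | ⟨a, rfl⟩)
    · rw [tor_conj_xg C smithG2 η (X.simple_lt i.isLt)]; exact xg_mem_range i (Or.inl rfl) _
    · rw [tor_conj_xg C smithG2 η (C.neg_lt _)]; exact xg_mem_range i (Or.inr rfl) _
  obtain ⟨u₀, u, n, rfl, hu₀, hu, h1, h2, h3⟩ := cell hy h
  have e1 : u₀ ∈ L := mem_of_fixed hu₀ h1 L fun r _ hr hz a => xg_mem_range i (honly r hr hz) a
  have e2 : u ∈ L := mem_of_fixed hu h2 L fun r _ hr hz a => xg_mem_range i (honly r hr hz) a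
  set w := tW n with hw
  have hwi : ev C χ (X.img w (chevG2.simple i.val)) = 0 := by
    rw [show ev C χ (X.img w (chevG2.simple i.val)) = act (Pm C X w) χ i from rfl, h3, hi]
  have hrow : (∀ k, Pm C X w i k = if k = i then 1 else 0) ∨
      (∀ k, Pm C X w i k = if k = i then -1 else 0) := by
    rcases honly _ (X.img_lt w (X.simple_lt i.isLt)) hwi with e | e
    · left; intro k
      show C.coef (X.img w (chevG2.simple i.val)) k.val = _
      rw [e, C.coef_simple _ _ i.isLt k.isLt]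
      simp only [Fin.ext_iff]
    · right; intro k
      show C.coef (X.img w (chevG2.simple i.val)) k.val = _
      rw [e, C.coef_neg _ _ (X.simple_lt i.isLt) k.isLt,
        C.coef_simple _ _ i.isLt k.isLt]
      simp only [Fin.ext_iff]
      split <;> simp
  have hsref : act (Sref i) χ = χ := by
    rw [← Pm_simple, act_Pm]
    funext j
    rw [wact, X.img_simple i (X.simple_lt j.isLt), ev_reflect C χ i (X.simple_lt j.isLt), hi,
      smul_zero, sub_zero, ev_simple]
  have hneg : ∀ M : M2, act M χ = χ → act (-M) χ ≠ χ := by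
    intro M hM h'
    apply hχ
    have e : act (-M) χ = -act M χ := by funext j; simp [act, neg_smul]
    rw [e, hM] at h'
    funext j
    refine two_free _ ?_
    rw [two_nsmul]
    exact neg_eq_iff_add_eq_zero.1 (congrFun h' j)
  have hn : (n : GL chevG2.Idx K) ∈ L ⊔ chevG2.diagonalSubgroup K := by
    rcases Ws_stab i _ (Pm_mem w) hrow with e | e | e | e
    · exact Subgroup.mem_sup_right
        (mem_H_of_tW (Pm_eq_one e))
    · have hwe : w = X.C.simple i := Pm_inj (e.trans (Pm_simple i).symm)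
      have hk : ((S (K := K)).sN i)⁻¹ * n ∈ (tW (K := K)).ker := by
        rw [MonoidHom.mem_ker, map_mul, map_inv, tW_sN, ← hw, hwe, inv_mul_cancel]
      have hh := mem_H_of_tW (MonoidHom.mem_ker.1 hk)
      have hn0 : (((S (K := K)).sN i : ↥(chevG2.monomialSubgroup K)) : GL chevG2.Idx K) ∈ L := by
        show xg C _ (1 : K) * xg C _ _ * xg C _ 1 ∈ L
        exact mul_mem (mul_mem (xg_mem_range i (Or.inl rfl) _) (xg_mem_range i (Or.inr rfl) _))
          (xg_mem_range i (Or.inl rfl) _)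
      have := mul_mem (Subgroup.mem_sup_left (T := chevG2.diagonalSubgroup K) hn0)
        (Subgroup.mem_sup_right (S := L) hh)
      simpa using this
    · exact absurd (e ▸ h3) (hneg 1 (act_one χ))
    · exact absurd (e ▸ h3) (hneg _ hsref)
  have hyL : u₀ * (n : GL chevG2.Idx K) * u ∈ L ⊔ chevG2.diagonalSubgroup K :=
    mul_mem (mul_mem (Subgroup.mem_sup_left e1) hn) (Subgroup.mem_sup_left e2)
  have hle : chevG2.diagonalSubgroup K ≤ Subgroup.normalizer (L : Set (GL chevG2.Idx K)) := by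
    intro t ht
    rw [Subgroup.mem_normalizer_iff]
    refine fun g => ⟨fun hg => hnorm t ht g hg, fun hg => ?_⟩
    simpa [mul_assoc] using hnorm t⁻¹ (inv_mem ht) _ hg
  rw [← SetLike.mem_coe, sup_comm, Subgroup.coe_mul_of_left_le_normalizer_right _ _ hle,
    Set.mem_mul] at hyL
  obtain ⟨t, ht, g, hg, he⟩ := hyL
  obtain ⟨B, hB⟩ := hnorm t ht g hg
  obtain ⟨η, hη⟩ := (mem_H_iff C smithG2).1 ht
  obtain ⟨a, ha⟩ := exists_sqrt (η i).toMul
  set k := ChevalleySL2.hh (fun a : K => xg C (chevG2.simple i.val) a)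
    (fun a : K => xg C (chevG2.neg (chevG2.simple i.val)) a) (a : K) with hk
  have hkR : k = ChevalleyCore.hg C (chevG2.simple i.val) (a : K) := rfl
  have hkH : k ∈ chevG2.diagonalSubgroup K :=
    (S (K := K)).nn_mul_nn_mem (X.simple_lt i.isLt) a.ne_zero (neg_ne_zero.2 one_ne_zero)
  have hkL : k ∈ L := by
    rw [hk]
    unfold ChevalleySL2.hh ChevalleySL2.nn
    exact mul_mem (mul_mem (mul_mem (xg_mem_range i (Or.inl rfl) _) (xg_mem_range i (Or.inr rfl) _))
      (xg_mem_range i (Or.inl rfl) _)) (mul_mem (mul_mem (xg_mem_range i (Or.inl rfl) _)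
      (xg_mem_range i (Or.inr rfl) _)) (xg_mem_range i (Or.inl rfl) _))
  obtain ⟨A, hA⟩ : phi i B * k ∈ L := mul_mem ⟨B, rfl⟩ hkL
  refine ⟨A, k⁻¹ * t, mul_mem (inv_mem hkH) ht, fun B' => ?_, ?_⟩
  · have hi' := X.simple_lt i.isLt
    have hs : ∀ r, r < chevG2.nroots → ∀ b : K, (k⁻¹ * t) * xg C r b * (k⁻¹ * t)⁻¹ =
        xg C r (((ev C η r).toMul : Kˣ) * b / (a : K) ^ chevG2.pairing (chevG2.simple i.val) r) := by
      intro r hr b
      have e : t * xg C r b * t⁻¹ = xg C r (((ev C η r).toMul : Kˣ) * b) := by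
        rw [← hη]; exact tor_conj_xg C smithG2 η hr b
      rw [show k⁻¹ * t * xg C r b * (k⁻¹ * t)⁻¹ = k⁻¹ * (t * xg C r b * t⁻¹) * k by group, e,
        mul_assoc, inv_mul_eq_iff_eq_mul, hkR, ChevalleyCore.hg_conj_xg C hi' hr a.ne_zero]
      congr 2
      exact (mul_div_cancel₀ _ (zpow_ne_zero _ a.ne_zero)).symm
    have hp2 : chevG2.pairing (chevG2.simple i.val) (chevG2.simple i.val) = 2 := C.pair_self _ hi'
    have hab : ((η i).toMul : K) = (a : K) ^ 2 := by
      rw [← Units.val_pow_eq_pow_val, ha]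
    refine commute_range i (fun b => ?_) (fun b => ?_) B'
    · rw [hs _ hi', ev_simple, hp2, hab, zpow_ofNat]
      congr 1
      field_simp
    · rw [hs _ (C.neg_lt _), ev_neg C η hi', ev_simple, toMul_neg, Units.val_inv_eq_inv_val, hab,
        ChevBruhatInstance.pairing_neg C hi', hp2]
      congr 1
      rw [zpow_neg, zpow_ofNat]
      field_simp
  · rw [hA, ← he, hB]
    group

theorem pow_split [CharP K 2] {i : Fin chevG2.rank} {A : Matrix.SpecialLinearGroup (Fin 2) K}
    {z : GL chevG2.Idx K} (hz : ∀ B, Commute z (phi i B)) {k : ℕ} (h : (phi i A * z) ^ k = 1) :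
    A ^ k = 1 ∧ z ^ k = 1 := by
  rw [(hz A).symm.mul_pow, ← map_pow] at h
  have he : phi i (A ^ k) = (z ^ k)⁻¹ := eq_inv_of_mul_eq_one_left h
  have hA : A ^ k = 1 := central_eq_one fun B => phi_injective i (by
    rw [map_mul, map_mul, he]
    exact (((hz B).pow_left k).inv_left).eq)
  refine ⟨hA, ?_⟩
  rwa [hA, map_one, one_mul] at h

theorem long_list : ∀ r : Fin chevG2.nroots,
    (3 : ℤ) ∣ C.coef r.val 0 → r.val ∈ [0, 1, 5, 6, 10, 11] := by decide +kernel

theorem rho_range_xg {r : ℕ} (hr : r ∈ [0, 1, 5, 6, 10, 11]) (a : K) :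
    xg C r a ∈ (G2SL3Embed68.rho (F := K)).range := by
  obtain ⟨r', hr', rfl⟩ : ∃ r' : Fin 12, r' ∈ [(0 : Fin 12), 1, 5, 6, 10, 11] ∧ r'.val = r := by
    simp only [List.mem_cons, List.not_mem_nil, or_false] at hr
    rcases hr with rfl | rfl | rfl | rfl | rfl | rfl
    exacts [⟨0, by simp⟩, ⟨1, by simp⟩, ⟨5, by simp⟩, ⟨6, by simp⟩, ⟨10, by simp⟩, ⟨11, by simp⟩]
  have h2 : ∀ r' : Fin 12, r' ∈ [(0 : Fin 12), 1, 5, 6, 10, 11] →
      ∃ p ∈ G2SL3Embed68.longRoots, p.1 = r' ∧ p.2.1 ≠ p.2.2 := by decide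
  obtain ⟨⟨r'', x, y⟩, hp, rfl, hxy⟩ := h2 r' hr'
  refine ⟨(⟨_, Matrix.det_transvection_of_ne x y hxy a⟩ : Matrix.SpecialLinearGroup (Fin 3) K), Units.ext ?_⟩
  exact ((G2SL3Embed68.coe_rho (F := K) _).trans (G2SL3Embed68.rhoMat_transvection r'' x y hxy hp a)).trans
    (ChevalleyCore.coe_xg C _ _).symm

theorem H_le_rho : chevG2.diagonalSubgroup K ≤ (G2SL3Embed68.rho (F := K)).range := by
  intro h hh
  obtain ⟨c, hc⟩ := (ChevalleyTorus.mem_H_iff C).1 hh
  have h0 : ((c (0 : Fin 2) : Kˣ) : K) ≠ 0 := Units.ne_zero _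
  have h1 : ((c (1 : Fin 2) : Kˣ) : K) ≠ 0 := Units.ne_zero _
  let A : Matrix.SpecialLinearGroup (Fin 3) K := ⟨Matrix.diagonal ![(c (1 : Fin 2) : K) / c (0 : Fin 2),
      (c (0 : Fin 2) : K) ^ 2 / c (1 : Fin 2), ((c (0 : Fin 2) : K))⁻¹], by
    rw [Matrix.det_diagonal, Fin.prod_univ_three]
    simp [field]⟩
  exact ⟨A, (G2SL3Embed68.rho_diagonal c A rfl).trans hc⟩

theorem long_img : chevG2.reflectRoot 0 6 = 10 ∧ chevG2.reflectRoot 0 5 = 1 ∧ chevG2.simple 1 = 6 ∧
    chevG2.neg 6 = 5 := by decide +kernel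

theorem subsystem_A2 {χ : Fin chevG2.rank → Additive Kˣ} (h1 : χ i1 = 0) (h0 : χ i0 ≠ 0)
    (h3 : (3 : ℕ) • χ i0 = 0) {y : GL chevG2.Idx K} (hy : y ∈ chevG2.group K)
    (h : y * tor smithG2 χ = tor smithG2 χ * y) : y ∈ (G2SL3Embed68.rho (F := K)).range := by
  set L := (G2SL3Embed68.rho (F := K)).range with hL
  have hord : ∀ a : ℤ, a • χ i0 = 0 → (3 : ℤ) ∣ a := by
    intro a ha
    have h3' : addOrderOf (χ i0) = 3 :=
      addOrderOf_eq_prime (hp := ⟨Nat.prime_three⟩) h3 h0
    have := addOrderOf_dvd_iff_zsmul_eq_zero.2 ha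
    rwa [h3'] at this
  have hzero : ∀ r, r < chevG2.nroots → ev C χ r = 0 → ∀ a : K, xg C r a ∈ L := by
    intro r hr hz a
    rw [ev_two, h1, smul_zero, add_zero] at hz
    exact rho_range_xg (long_list ⟨r, hr⟩ (hord _ hz)) a
  obtain ⟨u₀, u, n, rfl, hu₀, hu, f1, f2, f3⟩ := cell hy h
  refine mul_mem (mul_mem (mem_of_fixed hu₀ f1 L fun r _ hr hz => hzero r hr hz) ?_)
    (mem_of_fixed hu f2 L fun r _ hr hz => hzero r hr hz)
  let T : Subgroup X.W := (L.subgroupOf (chevG2.monomialSubgroup K)).map tW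
  obtain ⟨l1, l2, l3, l4⟩ := long_img
  have hn1 : (((S (K := K)).sN i1 : ↥(chevG2.monomialSubgroup K)) : GL chevG2.Idx K) ∈ L := by
    show xg C (chevG2.simple 1) (1 : K) * xg C (chevG2.neg (chevG2.simple 1)) _ *
      xg C (chevG2.simple 1) 1 ∈ L
    rw [l3, l4]
    exact mul_mem (mul_mem (rho_range_xg (by simp) _) (rho_range_xg (by simp) _))
      (rho_range_xg (by simp) _)
  have hb : X.C.simple i1 ∈ T := ⟨_, hn1, tW_sN i1⟩
  have hq : X.C.simple i0 * X.C.simple i1 * X.C.simple i0 ∈ T := by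
    refine ⟨(S (K := K)).sN i0 * (S (K := K)).sN i1 * ((S (K := K)).sN i0)⁻¹, ?_, ?_⟩
    · show ((S (K := K)).sN i0 : GL chevG2.Idx K) * (xg C (chevG2.simple 1) (1 : K) *
        xg C (chevG2.neg (chevG2.simple 1)) _ * xg C (chevG2.simple 1) 1) *
        ((S (K := K)).sN i0 : GL chevG2.Idx K)⁻¹ ∈ L
      rw [l3, l4]
      obtain ⟨c, e6⟩ := acts_X (K := K) i0 (show 6 < chevG2.nroots by decide)
      obtain ⟨c', e5⟩ := acts_X (K := K) i0 (show 5 < chevG2.nroots by decide)
      have m6 : ∀ b, ((S (K := K)).sN i0 : GL chevG2.Idx K) * xg C 6 b *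
          ((S (K := K)).sN i0 : GL chevG2.Idx K)⁻¹ ∈ L := fun b => by
        rw [e6 b, show chevG2.reflectRoot i0.val 6 = 10 from l1]
        exact rho_range_xg (by simp) _
      have m5 : ∀ b, ((S (K := K)).sN i0 : GL chevG2.Idx K) * xg C 5 b *
          ((S (K := K)).sN i0 : GL chevG2.Idx K)⁻¹ ∈ L := fun b => by
        rw [e5 b, show chevG2.reflectRoot i0.val 5 = 1 from l2]
        exact rho_range_xg (by simp) _
      have hg : ∀ a b c g : GL chevG2.Idx K, g * (a * b * c) * g⁻¹ =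
          g * a * g⁻¹ * (g * b * g⁻¹) * (g * c * g⁻¹) := fun a b c g => by group
      rw [hg]
      exact mul_mem (mul_mem (m6 _) (m5 _)) (m6 _)
    · rw [map_mul, map_mul, map_inv, tW_sN, tW_sN]
      congr 1
      exact inv_eq_of_mul_eq_one_right (X.C.toCoxeterSystem.simple_mul_simple_self i0)
  set w := tW n with hw
  have hM : (3 : ℤ) ∣ Pm C X w i0 i0 - 1 := by
    refine hord _ ?_
    have := congrFun f3 i0
    rw [act] at this
    rw [sub_smul, one_smul, sub_eq_zero]
    refine Eq.trans ?_ this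
    rw [Finset.sum_eq_single i0]
    · intro j _ hj
      rcases fin_cases2 j with rfl | rfl
      · exact absurd rfl hj
      · rw [h1, smul_zero]
    · simp
  have hwT : w ∈ T := by
    have e1 : S1 = Pm C X (X.C.simple i1) := (Pm_simple i1).symm
    have e2 : S0 * S1 * S0 = Pm C X (X.C.simple i0 * X.C.simple i1 * X.C.simple i0) := by
      rw [ChevSylowTorus68.Pm_mul, ChevSylowTorus68.Pm_mul, Pm_simple, Pm_simple, ← mul_assoc]
      rfl
    have hm : Pm C X w ∈ (T : Set X.W).image (Pm C X) := by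
      have h6 := Ws_six _ (Pm_mem w) hM
      simp only [List.mem_cons, List.not_mem_nil, or_false] at h6
      rcases h6 with h6 | h6 | h6 | h6 | h6 | h6 <;> rw [h6]
      · exact ⟨1, one_mem _, Pm_one⟩
      · exact ⟨_, hb, e1.symm⟩
      · exact ⟨_, hq, e2.symm⟩
      · exact ⟨_, mul_mem hq hb, by rw [ChevSylowTorus68.Pm_mul, ← e1, ← e2]⟩
      · exact ⟨_, mul_mem hb hq, by rw [ChevSylowTorus68.Pm_mul, ← e1, ← e2]⟩
      · exact ⟨_, mul_mem hq (mul_mem hb hq),
          by rw [ChevSylowTorus68.Pm_mul, ChevSylowTorus68.Pm_mul, ← e1, ← e2]⟩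
    obtain ⟨v, hv, hvw⟩ := hm
    rwa [← Pm_inj hvw]
  obtain ⟨m, hm, hmw⟩ := hwT
  have hk : m⁻¹ * n ∈ (tW (K := K)).ker := by
    rw [MonoidHom.mem_ker, map_mul, map_inv, hmw, ← hw, inv_mul_cancel]
  have := mul_mem (show (m : GL chevG2.Idx K) ∈ L from hm) (H_le_rho (mem_H_of_tW (MonoidHom.mem_ker.1 hk)))
  simpa using this

theorem rho_range_index [Fintype K] (h3 : 3 ∣ Fintype.card K - 1) :
    ¬ 3 ∣ ((G2SL3Embed68.rho (F := K)).range.subgroupOf (chevG2.group K)).index := by
  set Q := Fintype.card K with hQ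
  have hQ1 : 1 < Q := Fintype.one_lt_card
  have hH : 1 * Nat.card ↥(chevG2.diagonalSubgroup K) = (Q - 1) ^ chevG2.rank := by
    simpa using ChevalleyTorusCard.card_H (F := K) C smithG2
  have hG := ChevOrder.order_eq (F := K) C X supp [2, 6] (by decide +kernel) hH
  rw [one_mul, ← hQ] at hG
  have hG' : Nat.card ↥(chevG2.group K) = Q ^ 6 * ((Q ^ 2 - 1) * (Q ^ 6 - 1)) := by
    simpa [show chevG2.nroots / 2 = 6 from rfl] using hG
  have hle : (G2SL3Embed68.rho (F := K)).range ≤ chevG2.group K := by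
    rintro _ ⟨A, rfl⟩; exact G2SL3Embed68.rho_mem_group A
  have hR : Nat.card ↥((G2SL3Embed68.rho (F := K)).range.subgroupOf (chevG2.group K)) =
      Nat.card (Matrix.SpecialLinearGroup (Fin 3) K) := by
    rw [Nat.card_congr (Subgroup.subgroupOfEquivOfLe hle).toEquiv]
    exact (Nat.card_congr (MonoidHom.ofInjective G2SL3Embed68.rho_injective).toEquiv).symm
  have hSL : Nat.card (Matrix.SpecialLinearGroup (Fin 3) K) = Q ^ 3 * ((Q ^ 2 - 1) * (Q ^ 3 - 1)) := by
    have h := PSLCard.card_SL (F := K) 3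
    rw [Nat.card_eq_fintype_card (α := K), ← hQ, Fin.prod_univ_three] at h
    simp only [Fin.val_zero, Fin.val_one, Fin.val_two, pow_zero, pow_one] at h
    refine Nat.eq_of_mul_eq_mul_left (show 0 < Q - 1 by omega) ?_
    rw [h, show Q ^ 3 - Q = Q * (Q ^ 2 - 1) by rw [Nat.mul_sub]; ring_nf,
      show Q ^ 3 - Q ^ 2 = Q ^ 2 * (Q - 1) by rw [Nat.mul_sub]; ring_nf]
    ring
  have hidx : ((G2SL3Embed68.rho (F := K)).range.subgroupOf (chevG2.group K)).index =
      Q ^ 3 * (Q ^ 3 + 1) := by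
    have h := ((G2SL3Embed68.rho (F := K)).range.subgroupOf (chevG2.group K)).card_mul_index
    rw [hR, hSL, hG'] at h
    have hpos : 0 < Q ^ 3 * ((Q ^ 2 - 1) * (Q ^ 3 - 1)) := by
      have := Nat.one_lt_pow (show 2 ≠ 0 by norm_num) hQ1
      have := Nat.one_lt_pow (show 3 ≠ 0 by norm_num) hQ1
      exact Nat.mul_pos (pow_pos (by omega) 3) (Nat.mul_pos (by omega) (by omega))
    apply Nat.eq_of_mul_eq_mul_left hpos
    rw [h, show Q ^ 6 - 1 = (Q ^ 3 + 1) * (Q ^ 3 - 1) by
      rw [show Q ^ 6 = (Q ^ 3) ^ 2 by ring, ← Nat.sq_sub_sq, one_pow]]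
    ring
  obtain ⟨e, he⟩ := h3
  rw [hidx, show Q = 3 * e + 1 by omega, Nat.dvd_iff_mod_eq_zero]
  simp [Nat.mul_mod, Nat.pow_mod, Nat.add_mod]

/-- Elements of odd order are conjugate into the torus over a field with enough roots of unity. -/
theorem exists_conj_H [Fintype K] [CharP K 2] {n : ℕ} (hodd : Odd n)
    (hdvd : n ∣ Fintype.card K - 1) {y : GL chevG2.Idx K} (hy : y ∈ chevG2.group K)
    (hn : y ^ n = 1) : ∃ g ∈ chevG2.group K, g * y * g⁻¹ ∈ chevG2.diagonalSubgroup K := by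
  classical
  have hn0 : 0 < n := hodd.pos
  have hnK : (n : K) ≠ 0 := fun h =>
    (Nat.not_even_iff_odd.2 hodd) (even_iff_two_dvd.2 ((CharP.cast_eq_zero_iff K 2 n).1 h))
  by_cases h5 : ∃ r, r.Prime ∧ 5 ≤ r ∧ r ∣ orderOf y
  · obtain ⟨r, hr, hr5, hrd⟩ := h5
    have : Fact r.Prime := ⟨hr⟩
    have hon : orderOf y ∣ n := orderOf_dvd_of_pow_eq_one hn
    set e := orderOf y / r with he
    have hh : orderOf (y ^ e) = r := by
      rw [orderOf_pow_of_dvd (by
        have : 0 < orderOf y := Nat.pos_of_dvd_of_pos hon hn0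
        exact (Nat.div_pos (Nat.le_of_dvd this hrd) hr.pos).ne') (Nat.div_dvd_of_dvd hrd)]
      exact Nat.div_div_self hrd (Nat.pos_of_dvd_of_pos hon hn0).ne'
    have hrK : r ∣ Fintype.card K - 1 := (hrd.trans hon).trans hdvd
    have hcong : (Fintype.card K : ZMod r) = 1 := by
      have := (ZMod.natCast_eq_zero_iff _ r).2 hrK
      rwa [Nat.cast_sub Fintype.card_pos, Nat.cast_one, sub_eq_zero] at this
    obtain ⟨g, hg, hgt⟩ := ChevCoxTorus68.exists_conj_mem_torus C smithG2 X supp [2, 6]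
      (by decide +kernel) rfl hcong (fun a ha hd => by
        have := Nat.le_of_dvd (by fin_cases ha <;> norm_num) hd
        fin_cases ha
        · omega
        · interval_cases r
          · norm_num at hd
          · norm_num at hr)
      (pow_mem hy e) (hh ▸ pow_orderOf_eq_one _)
    obtain ⟨χ, hχ⟩ := (mem_H_iff C smithG2).1 hgt
    have hrχ : r • χ = 0 := by
      rw [← tr_pow_eq_one, show tor smithG2 χ = g * y ^ e * g⁻¹ from hχ, conj_pow, ← hh,
        pow_orderOf_eq_one, mul_one, mul_inv_cancel]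
    have hχ0 : χ ≠ 0 := fun h0 => by
      have : tor smithG2 χ ^ 1 = 1 := tr_pow_eq_one.2 (by rw [h0, smul_zero])
      rw [pow_one, show tor smithG2 χ = g * y ^ e * g⁻¹ from hχ, conj_eq_one_iff] at this
      rw [this, orderOf_one] at hh
      exact hr.ne_one hh.symm
    set y' := g * y * g⁻¹ with hy'
    have hy'G : y' ∈ chevG2.group K := mul_mem (mul_mem hg hy) (inv_mem hg)
    have hcomm : y' * tor smithG2 χ = tor smithG2 χ * y' := by
      rw [show tor smithG2 χ = g * y ^ e * g⁻¹ from hχ, hy', ← conj_pow]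
      exact (pow_mul_comm' _ _).symm
    rcases zero_cases two_free hχ0 with hA | ⟨r', hr', hz, honly⟩ | ⟨h1, h0, h3⟩
    · exact ⟨g, hg, regular hr.pos hrK hrχ hA hy'G hcomm⟩
    · obtain ⟨v, i, hvi⟩ := Sys.exists_root_img (S (K := K)) hr'
      change X.img v (chevG2.simple i.val) = r' at hvi
      obtain ⟨m, hm, htr⟩ := transport (K := K) v
      have hi' : wact C X v χ i = 0 := by
        show ev C χ (X.img v (chevG2.simple i.val)) = 0
        rw [hvi, hz]
      have honly' : ∀ s, s < chevG2.nroots → ev C (wact C X v χ) s = 0 →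
          s = chevG2.simple i.val ∨ s = chevG2.neg (chevG2.simple i.val) := by
        intro s hs hs0
        rw [ev_wact C X v χ hs] at hs0
        rcases honly _ (X.img_lt v hs) hs0 with e | e
        · exact Or.inl (X.img_injective v (e.trans hvi.symm))
        · exact Or.inr (X.img_injective v (e.trans (by rw [X.img_neg v (X.simple_lt i.isLt), hvi])))
      set y'' := m⁻¹ * y' * m with hy''
      obtain ⟨A, z, hzH, hzc, hyA⟩ := subsystem_A1 hi' (wact_ne_zero C X v hχ0) honly'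
        (mul_mem (mul_mem (inv_mem hm) hy'G) hm) (y := y'') (by
          rw [← htr, hy'', show m⁻¹ * y' * m * (m⁻¹ * tor smithG2 χ * m) = m⁻¹ * (y' * tor smithG2 χ) * m by group,
            hcomm]
          group)
      have hyn : y'' ^ n = 1 := by
        rw [hy'', show m⁻¹ * y' * m = m⁻¹ * y' * (m⁻¹)⁻¹ by rw [inv_inv], conj_pow, hy', conj_pow,
          hn]
        group
      obtain ⟨hAn, -⟩ := pow_split hzc (hyA ▸ hyn)
      obtain ⟨B, d, hd⟩ := exists_diag_conj hnK hdvd hAn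
      refine ⟨phi i B * m⁻¹ * g, mul_mem (mul_mem (phi_mem_group i B) (inv_mem hm)) hg, ?_⟩
      rw [show phi i B * m⁻¹ * g * y * (phi i B * m⁻¹ * g)⁻¹ = phi i B * y'' * (phi i B)⁻¹ by
        rw [hy'', hy']; group, hyA,
        show phi i B * (phi i A * z) * (phi i B)⁻¹ = phi i B * phi i A * (z * (phi i B)⁻¹) by group,
        ((hzc B).inv_right).eq, ← map_inv, ← mul_assoc, ← map_mul, ← map_mul]
      refine mul_mem ?_ hzH
      set A' := B * A * B⁻¹ with hA'
      show ChevalleySL2.phiE _ _ _ _ _ _ ∈ _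
      have hdet := ChevalleySL2.det_eq A'
      simp only [hd, Matrix.diagonal_apply, if_true, show (1 : Fin 2) ≠ 0 by decide,
        show (0 : Fin 2) ≠ 1 by decide, if_false, zero_mul, sub_zero] at hdet ⊢
      rw [ChevalleySL2.phiE, if_pos rfl, zero_mul, ChevalleyCore.xg_zero, one_mul]
      exact (S (K := K)).nn_mul_nn_mem (X.simple_lt i.isLt) (left_ne_zero_of_mul_eq_one hdet)
        (neg_ne_zero.2 one_ne_zero)
    · exfalso
      apply h0
      have hor : addOrderOf (χ i0) ∣ r := addOrderOf_dvd_iff_nsmul_eq_zero.2 (congrFun hrχ i0)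
      have ho3 : addOrderOf (χ i0) ∣ 3 := addOrderOf_dvd_iff_nsmul_eq_zero.2 h3
      have hc : Nat.Coprime r 3 := (Nat.coprime_primes hr Nat.prime_three).2 (by omega)
      exact AddMonoid.addOrderOf_eq_one_iff.1 (Nat.eq_one_of_dvd_coprimes hc hor ho3)
  · push Not at h5
    have hon : orderOf y ∣ n := orderOf_dvd_of_pow_eq_one hn
    have hpos : 0 < orderOf y := Nat.pos_of_dvd_of_pos hon hn0
    have hk : orderOf y = 3 ^ (orderOf y).primeFactorsList.length :=
      Nat.eq_prime_pow_of_unique_prime_dvd hpos.ne' fun {d} hd hdd => by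
        have := h5 d hd
        have hd2 : d ≠ 2 := fun h2 => by
          subst h2
          exact (Nat.not_even_iff_odd.2 hodd) (even_iff_two_dvd.2 (hdd.trans hon))
        have := hd.two_le
        by_contra hd3
        have : d = 4 := by
          by_contra h4
          exact absurd hdd (h5 d hd (by omega))
        subst this
        norm_num at hd
    generalize (orderOf y).primeFactorsList.length = k at hk
    rcases Nat.eq_zero_or_pos k with hk0 | hkpos
    · refine ⟨1, one_mem _, ?_⟩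
      rw [hk0, pow_zero, orderOf_eq_one_iff] at hk
      rw [hk]; simp
    have h3K : 3 ∣ Fintype.card K - 1 :=
      ((dvd_pow_self 3 hkpos.ne').trans (hk ▸ dvd_rfl)).trans (hon.trans hdvd)
    have : Fact (Nat.Prime 3) := ⟨Nat.prime_three⟩
    set R := (G2SL3Embed68.rho (F := K)).range.subgroupOf (chevG2.group K) with hR
    let x : ↥(chevG2.group K) := ⟨y, hy⟩
    have hxp : IsPGroup 3 ↥(Subgroup.zpowers x) :=
      IsPGroup.of_card (n := k) (by rw [Nat.card_zpowers, ← Subgroup.orderOf_coe, hk])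
    obtain ⟨a, ha⟩ := hxp.nonempty_fixed_point_of_prime_not_dvd_card (↥(chevG2.group K) ⧸ R)
      (rho_range_index h3K)
    induction a using QuotientGroup.induction_on with
    | _ a =>
      have h1 : (QuotientGroup.mk (x * a) : ↥(chevG2.group K) ⧸ R) = QuotientGroup.mk a :=
        ha ⟨x, Subgroup.mem_zpowers x⟩
      have h2 := QuotientGroup.eq.1 h1.symm
      rw [hR, Subgroup.mem_subgroupOf] at h2
      obtain ⟨A, hA⟩ := h2
      have hA' : G2SL3Embed68.rho A = (a : GL chevG2.Idx K)⁻¹ * y * a := by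
        rw [hA]; simp [x, mul_assoc]
      have hAn : A ^ n = 1 := G2SL3Embed68.rho_injective (by
        rw [map_pow, hA', map_one, show (a : GL chevG2.Idx K)⁻¹ * y * a =
          (a : GL chevG2.Idx K)⁻¹ * y * ((a : GL chevG2.Idx K)⁻¹)⁻¹ by rw [inv_inv], conj_pow, hn]
        group)
      obtain ⟨B, d, hd⟩ := exists_diag_conj hnK hdvd hAn
      refine ⟨G2SL3Embed68.rho B * (a : GL chevG2.Idx K)⁻¹,
        mul_mem (G2SL3Embed68.rho_mem_group B) (inv_mem a.2), ?_⟩
      rw [show G2SL3Embed68.rho B * (a : GL chevG2.Idx K)⁻¹ * y *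
          (G2SL3Embed68.rho B * (a : GL chevG2.Idx K)⁻¹)⁻¹ =
          G2SL3Embed68.rho B * ((a : GL chevG2.Idx K)⁻¹ * y * a) * (G2SL3Embed68.rho B)⁻¹ by group,
        ← hA', ← map_inv, ← map_mul, ← map_mul]
      have hdet : d 0 * d 1 * d 2 = 1 := by
        have := (B * A * B⁻¹).2
        rw [hd, Matrix.det_diagonal, Fin.prod_univ_three] at this
        exact this
      have h00 : d 2 ≠ 0 := right_ne_zero_of_mul_eq_one hdet
      have h11 : d 0 ≠ 0 := left_ne_zero_of_mul (left_ne_zero_of_mul_eq_one hdet)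
      let c : Fin chevG2.rank → Kˣ := fun j =>
        (![(Units.mk0 (d 2) h00)⁻¹, Units.mk0 (d 0) h11 * (Units.mk0 (d 2) h00)⁻¹] : Fin 2 → Kˣ) j
      refine (ChevalleyTorus.mem_H_iff C).2 ⟨c, (G2SL3Embed68.rho_diagonal c _ ?_).symm⟩
      rw [hd]
      congr 1
      funext j
      fin_cases j
      · simp [c]; field_simp
      · simp [c]; field_simp; linear_combination hdet
      · simp [c]

end

end Cfsg.Agent.G2EvenCentralizer68
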