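import Cfsg.Agent.Lib.G2EvenCentralizer68
import Cfsg.Agent.Lib.ChevalleySylow
import Cfsg.Agent.Lib.ChevalleyParabolic

/-!
Element orders of the Chevalley group of type G2 over a finite field of characteristic two: every one
divides a member of a list of seven.
-/

set_option autoImplicit false

namespace Cfsg.Agent.G2EvenFrobenius68

open Cfsg.Lie Cfsg.Agent.ChevWeyl Cfsg.Agent.ChevBruhat Cfsg.Agent.ChevRootCoord68
  Cfsg.Agent.G2EvenWeyl68 Cfsg.Agent.G2EvenCentralizer68
open Cfsg.Agent.ChevCoxTorus68 (Pm act_Pm tor tor_inj map_mem_group conj_tor mem_H_iff)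
open Cfsg.Agent.ChevalleyTorusCard (act smithG2 act_mul act_one act_nsmul)
open Cfsg.Agent.ChevalleyCore (xg)

theorem height_bound : ∀ r : Fin chevG2.nroots, 6 ≤ r.val →
    1 ≤ C.coef r.val 0 + C.coef r.val 1 ∧ C.coef r.val 0 + C.coef r.val 1 ≤ 5 := by decide +kernel

section Unipotent

variable {K : Type*} [Field K]

open Cfsg.Agent.ChevalleyUnipotent Cfsg.Agent.ChevalleyParabolic Cfsg.Agent.ChevalleyAdjoint in
theorem U_le : chevG2.posUnipotent K ≤ upperAt (wJ C (∅ : Set ℕ)) 1 := by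
  refine (Subgroup.closure_le _).2 ?_
  rintro g ⟨r, t, hr, hg⟩
  obtain rfl := (ChevalleyCore.xg_eq_iff C).1 hg
  refine xg_mem_weight C hr.1 (fun k hk a b hab => ?_) t
  have h1 := xm_wJ C (J := (∅ : Set ℕ)) hk hr.1 hab
  have h2 := height_bound ⟨r, hr.1⟩ ((ChevalleyRoots.isPos C).1 hr).1
  have hd : deg C (∅ : Set ℕ) r = C.coef r 0 + C.coef r 1 := by
    simp [deg, show chevG2.rank = 2 from rfl, Finset.sum_range_succ]
  have : (1 : ℤ) ≤ k * deg C (∅ : Set ℕ) r := by
    rw [hd]; nlinarith [show (1 : ℤ) ≤ k by exact_mod_cast hk, h2.1]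
  push_cast
  omega

open Cfsg.Agent.ChevalleyUnipotent Cfsg.Agent.ChevalleyParabolic Cfsg.Agent.ChevalleyAdjoint in
theorem raise_eight_eq_one {v : GL chevG2.Idx K} (hv : v ∈ chevG2.posUnipotent K)
    (h8 : Raise (wJ C (∅ : Set ℕ)) 8 ((v : Matrix chevG2.Idx chevG2.Idx K) - 1)) : v = 1 := by
  obtain ⟨t, ⟨-, rfl⟩, -⟩ := U_normal_form C hv
  suffices h : ∀ k, chevG2.nroots / 2 ≤ k → uProd C k t = uProd C (chevG2.nroots / 2) t by
    rw [← h chevG2.nroots (by decide), uProd_top C le_rfl]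
  intro k hk
  induction k, hk using Nat.le_induction with
  | base => rfl
  | succ k hk ih =>
    rcases Nat.lt_or_ge k chevG2.nroots with hkr | hkr
    swap
    · rw [uProd_top C (by omega), ← ih, uProd_top C hkr]
    rw [← ih] at h8 ⊢
    rw [uProd_succ C hkr]
    suffices ht : t k = 0 by rw [ht, ChevalleyCore.xg_zero, one_mul]
    set v' := uProd C (k + 1) t with hv'
    have hmem : v' ∈ uGe C (F := K) (k + 1) := uProd_mem C (by omega) t
    have hU : v' ∈ chevG2.posUnipotent K := by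
      rw [posUnipotent_eq C]; exact uGe_mono C (by omega) hmem
    set A := ((uProd C k t : GL chevG2.Idx K) : Matrix chevG2.Idx chevG2.Idx K) - 1 with hA
    set B := ((v'⁻¹ : GL chevG2.Idx K) : Matrix chevG2.Idx chevG2.Idx K) - 1 with hB
    have hB1 : Raise (wJ C (∅ : Set ℕ)) 1 B := by
      have := (U_le (inv_mem hU)).1
      exact_mod_cast this
    have he : chevG2.x K k (t k) - 1 = A + A * B + B := by
      have h1 : xg C k (t k) = uProd C k t * v'⁻¹ := by rw [uProd_succ C hkr, mul_inv_cancel_right]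
      have h2 := congrArg (fun g : GL chevG2.Idx K => (g : Matrix chevG2.Idx chevG2.Idx K)) h1
      simp only [ChevalleyCore.coe_xg, Units.val_mul] at h2
      rw [h2, hA, hB]
      noncomm_ring
    obtain ⟨j, hj⟩ := cc_ne_zero C (F := K) hkr
    set a : chevG2.Idx := Sum.inl j
    set b : chevG2.Idx := Sum.inr ⟨chevG2.neg k, C.neg_lt k⟩
    have hneg : C.coef (chevG2.neg k) 0 = -C.coef k 0 ∧ C.coef (chevG2.neg k) 1 = -C.coef k 1 :=
      ⟨C.coef_neg k 0 hkr (by decide), C.coef_neg k 1 hkr (by decide)⟩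
    have hw : wJ C (∅ : Set ℕ) a = 0 ∧ wJ C (∅ : Set ℕ) b = -(C.coef k 0 + C.coef k 1) := by
      constructor <;>
        simp [wJ, cf, a, b, show chevG2.rank = 2 from rfl, Finset.sum_range_succ, hneg.1, hneg.2] <;>
        ring
    have h5 := height_bound ⟨k, hkr⟩ hk
    have hA0 : A a b = 0 := by
      by_contra hne
      have := h8 a b hne
      rw [hw.1, hw.2] at this
      simp only at h5
      omega
    have hAB : (A * B) a b = 0 := by
      by_contra hne
      have := raise_mul _ h8 hB1 a b hne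
      rw [hw.1, hw.2] at this
      simp only at h5
      omega
    have hB0 : B a b = 0 := by
      have hu := uGe_succ_entry C hk hkr (inv_mem hmem)
      have hkp := (ChevalleyRoots.key_pos C hkr).2 hk
      have e := upperAt_entry (kq C) hu (i := a) (j := b) (by
        simp only [kq, a, b, Sum.elim_inl, Sum.elim_inr]
        rw [ChevalleyRoots.key_neg C hkr]; omega)
      rw [hB, Matrix.sub_apply, e, sub_self]
    have h := congrFun (congrFun he a) b
    rw [Matrix.add_apply, Matrix.add_apply, hA0, hAB, hB0, Matrix.sub_apply, x_entry C hkr,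
      Matrix.one_apply_ne (by simp [a, b]), sub_zero, add_zero, add_zero] at h
    exact (mul_eq_zero.1 h).resolve_left hj

open Cfsg.Agent.ChevalleyUnipotent Cfsg.Agent.ChevalleyParabolic in
theorem U_pow_eight [CharP K 2] {u : GL chevG2.Idx K} (hu : u ∈ chevG2.posUnipotent K) :
    u ^ 8 = 1 := by
  refine raise_eight_eq_one (pow_mem hu 8) ?_
  have h := (U_le hu).1
  set A := (u : Matrix chevG2.Idx chevG2.Idx K) - 1 with hA
  have hpow : ∀ n : ℕ, 1 ≤ n → Raise (wJ C (∅ : Set ℕ)) (n : ℤ) (A ^ n) := by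
    intro n hn
    induction n, hn using Nat.le_induction with
    | base => simpa using h
    | succ n _ ih =>
      rw [pow_succ]
      exact_mod_cast raise_mul _ ih h
  haveI : Fact (Nat.Prime 2) := ⟨Nat.prime_two⟩
  haveI : Nonempty chevG2.Idx := ⟨Sum.inl ⟨0, by decide⟩⟩
  have h2 := sub_pow_char_pow_of_commute (p := 2) (n := 3) (x := (u : Matrix chevG2.Idx chevG2.Idx K)) (y := 1)
    (Commute.one_right _)
  rw [show (2 : ℕ) ^ 3 = 8 from rfl, ← hA, one_pow] at h2
  rw [Units.val_pow_eq_pow_val, ← h2]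
  exact_mod_cast hpow 8 (by norm_num)

theorem pow_eight [Fintype K] [CharP K 2] (x : ↥(chevG2.group K)) {j : ℕ} (hj : x ^ 2 ^ j = 1) :
    x ^ 8 = 1 := by
  haveI : Fact (Nat.Prime 2) := ⟨Nat.prime_two⟩
  obtain ⟨P, hP⟩ := ChevalleySylow.exists_sylow C (S (K := K)) 2
  have hpg : IsPGroup 2 ↥(Subgroup.zpowers x) := by
    intro y
    obtain ⟨y, k, rfl⟩ := y
    refine ⟨j, Subtype.ext ?_⟩
    show (x ^ k) ^ (2 ^ j) = 1
    rw [← zpow_natCast, ← zpow_mul, mul_comm, zpow_mul, zpow_natCast, hj, one_zpow]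
  obtain ⟨Q, hQ⟩ := hpg.exists_le_sylow
  obtain ⟨g, hg⟩ := MulAction.exists_smul_eq ↥(chevG2.group K) Q P
  have hmem : g * x * g⁻¹ ∈ (P : Subgroup ↥(chevG2.group K)) := by
    rw [← hg, Sylow.coe_subgroup_smul, Subgroup.mem_pointwise_smul_iff_inv_smul_mem]
    simpa [mul_assoc] using hQ (Subgroup.mem_zpowers x)
  rw [hP, Subgroup.mem_subgroupOf] at hmem
  have h' : (g * x * g⁻¹) ^ 8 = 1 := Subtype.ext (by rw [Subgroup.coe_pow]; exact U_pow_eight hmem)
  rwa [conj_pow, conj_eq_one_iff] at h'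

/-- an element of two-power order in SL(m) has order bounded by the size -/
theorem sl_pow [CharP K 2] {m e k : ℕ} (hme : m ≤ 2 ^ e) {A : Matrix.SpecialLinearGroup (Fin m) K}
    (hA : A ^ 2 ^ k = 1) : A ^ 2 ^ e = 1 := by
  rcases Nat.eq_zero_or_pos m with rfl | hm
  · exact Subtype.ext (Matrix.ext fun i => i.elim0)
  haveI : Nonempty (Fin m) := ⟨⟨0, hm⟩⟩
  haveI : Fact (Nat.Prime 2) := ⟨Nat.prime_two⟩
  set M := (A : Matrix (Fin m) (Fin m) K)
  have hc : ∀ n, (M - 1) ^ 2 ^ n = M ^ 2 ^ n - 1 := fun n => by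
    rw [sub_pow_char_pow_of_commute (p := 2) (n := n) (Commute.one_right M), one_pow]
  have hnil : IsNilpotent (M - 1) := ⟨2 ^ k, by
    rw [hc, ← Matrix.SpecialLinearGroup.coe_pow, hA, Matrix.SpecialLinearGroup.coe_one, sub_self]⟩
  have hch : (M - 1).charpoly = Polynomial.X ^ m := by
    have := (Matrix.isNilpotent_charpoly_sub_pow_of_isNilpotent hnil).eq_zero
    rwa [sub_eq_zero, Fintype.card_fin] at this
  have h0 : (M - 1) ^ m = 0 := by
    have := Matrix.aeval_self_charpoly (M - 1)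
    rwa [hch, map_pow, Polynomial.aeval_X] at this
  have := pow_eq_zero_of_le hme h0
  rw [hc, sub_eq_zero] at this
  exact Subtype.ext (by rw [Matrix.SpecialLinearGroup.coe_pow, Matrix.SpecialLinearGroup.coe_one]; exact this)

end Unipotent

/-- the seven numbers -/
def bounds (q : ℕ) : Finset ℕ :=
  {8, 12, 2 * (q + 1), 2 * (q - 1), q ^ 2 - 1, q ^ 2 + q + 1, q ^ 2 - q + 1}

theorem addOrderOf_dvd_pi {K : Type*} [Field K] {χ : Fin chevG2.rank → Additive Kˣ} {z : ℤ} {N : ℕ}
    (hz : z • χ = 0) (hzN : z = (N : ℤ)) : N • χ = 0 := by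
  subst hzN; rwa [natCast_zsmul] at hz

set_option maxHeartbeats 800000 in
/-- every element order divides one of the seven numbers -/
theorem exists_bound {F : Type*} [Field F] [Fintype F] [CharP F 2] (x : ↥(chevG2.group F)) :
    ∃ N ∈ bounds (Fintype.card F), orderOf x ∣ N := by
  classical
  haveI : Fact (Nat.Prime 2) := ⟨Nat.prime_two⟩
  set q := Fintype.card F with hq
  have hq1 : 1 < q := Fintype.one_lt_card
  have ho : 0 < orderOf x := orderOf_pos x
  obtain ⟨k, n, hnodd, hkn⟩ : ∃ k n, Odd n ∧ orderOf x = 2 ^ k * n := by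
    obtain ⟨k, n, hn, h⟩ := Nat.exists_eq_two_pow_mul_odd ho.ne'
    exact ⟨k, n, hn, h⟩
  by_cases hn1 : n = 1
  · refine ⟨8, by simp [bounds], orderOf_dvd_of_pow_eq_one (pow_eight x (j := k) ?_)⟩
    rw [← mul_one (2 ^ k), ← hn1, ← hkn, pow_orderOf_eq_one]
  have hnpos : 0 < n := hnodd.pos
  set D := Nat.totient n with hD
  haveI : NeZero D := ⟨(Nat.totient_pos.2 hnpos).ne'⟩
  let K := FiniteField.Extension F 2 D
  let _ : Fintype K := Fintype.ofFinite _
  let ι : F →+* K := algebraMap F K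
  haveI : CharP K 2 := charP_of_injective_ringHom ι.injective 2
  have hcardK : Fintype.card K = q ^ D := by
    rw [← Nat.card_eq_fintype_card, FiniteField.natCard_extension, Nat.card_eq_fintype_card]
  have hdvd : n ∣ Fintype.card K - 1 := by
    obtain ⟨e, -, he⟩ := FiniteField.card F 2
    have hc : q.Coprime n := by
      rw [hq, he]
      exact Nat.Coprime.pow_left _ hnodd.coprime_two_left
    rw [hcardK]
    exact (Nat.modEq_iff_dvd' (Nat.one_le_pow _ _ (by omega))).1 (Nat.ModEq.pow_totient hc).symm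
  let mp : GL chevG2.Idx F →* GL chevG2.Idx K := Matrix.GeneralLinearGroup.map ι
  have hmp : Function.Injective mp := by
    intro a b hab
    apply Units.ext
    have h := congrArg (fun g : GL chevG2.Idx K => (g : Matrix chevG2.Idx chevG2.Idx K)) hab
    simp only [mp, ChevFieldAut77.coe_map] at h
    exact Matrix.map_injective ι.injective h
  let σ : K ≃+* K := (FiniteField.frobeniusAlgEquivOfAlgebraic F K).toRingEquiv
  have hσ : ∀ a, σ a = a ^ q := fun a => rfl
  let ψ : GL chevG2.Idx K →* GL chevG2.Idx K := ChevFieldAut77.psi σ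
  have hψι : ∀ y : GL chevG2.Idx F, ψ (mp y) = mp y := by
    intro y
    apply Units.ext
    rw [ChevFieldAut77.coe_map, ChevFieldAut77.coe_map]
    ext i j
    show σ (ι _) = ι _
    rw [hσ, ← map_pow, FiniteField.pow_card]
  have hψtor : ∀ χ, ψ (tor smithG2 χ) = tor smithG2 (q • χ) := by
    intro χ
    rw [tor, tor, ChevFieldAut77.psi_torus, act_nsmul]
    refine congrArg _ (funext fun i => Units.ext ?_)
    simp [toMul_nsmul, hσ]
  -- the two parts
  set X' := mp (x : GL chevG2.Idx F) with hX'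
  have hordX : orderOf X' = 2 ^ k * n := by
    rw [hX', orderOf_injective mp hmp, Subgroup.orderOf_coe, hkn]
  set s := X' ^ 2 ^ k with hs
  set u := X' ^ n with hu
  have hsn : s ^ n = 1 := by rw [hs, ← pow_mul, ← hordX, pow_orderOf_eq_one]
  have huk : u ^ 2 ^ k = 1 := by rw [hu, ← pow_mul, mul_comm, ← hordX, pow_orderOf_eq_one]
  have hords : orderOf s = n := by
    rw [hs, orderOf_pow_of_dvd (by positivity) (hordX ▸ dvd_mul_right _ _), hordX,
      Nat.mul_div_cancel_left _ (by positivity)]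
  have hfinal : ∀ N, s ^ N = 1 → u ^ N = 1 → orderOf x ∣ N := by
    intro N h1 h2
    rw [hkn, ← hordX]
    rw [hs, ← pow_mul] at h1
    rw [hu, ← pow_mul] at h2
    have hc : Nat.Coprime (2 ^ k) n := Nat.Coprime.pow_left _ hnodd.coprime_two_left
    have := Nat.dvd_gcd (orderOf_dvd_of_pow_eq_one h1) (orderOf_dvd_of_pow_eq_one h2)
    rwa [Nat.gcd_mul_right, hc.gcd_eq_one, one_mul] at this
  have hXG : X' ∈ chevG2.group K := map_mem_group C ι x.2
  obtain ⟨g₀, hg₀, hgs⟩ := exists_conj_H hnodd hdvd (pow_mem hXG (2 ^ k)) hsn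
  obtain ⟨χ₀, hχ₀⟩ := (mem_H_iff C smithG2).1 hgs
  change tor smithG2 χ₀ = g₀ * s * g₀⁻¹ at hχ₀
  have hχ00 : χ₀ ≠ 0 := fun h0 => by
    have : tor smithG2 χ₀ ^ 1 = 1 := tr_pow_eq_one.2 (by rw [h0, smul_zero])
    rw [pow_one, hχ₀, conj_eq_one_iff] at this
    rw [this, orderOf_one] at hords
    exact hn1 hords.symm
  -- twisting by Frobenius
  have twist : ∀ g ∈ chevG2.group K, ∀ χ, tor smithG2 χ = g * s * g⁻¹ →
      ∃ w : X.W, act (Pm C X w) χ = q • χ := by
    intro g hg χ hχ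
    have hn'G : g * (ψ g)⁻¹ ∈ chevG2.group K := mul_mem hg (inv_mem (map_mem_group C σ.toRingHom hg))
    have hψs : ψ s = s := by rw [hs, map_pow, hX', hψι]
    obtain ⟨u₀, u₁, m, -, -, -, -, -, h3⟩ := cell hn'G (χ := χ) (χ' := q • χ) (by
      rw [← hψtor, hχ, map_mul, map_mul, map_inv, hψs]
      simp [mul_assoc])
    exact ⟨_, h3⟩
  have hsu : ∀ g : GL chevG2.Idx K, Commute (g * u * g⁻¹) (g * s * g⁻¹) := fun g =>
    ((Commute.refl X').pow_pow n (2 ^ k)).map (MulAut.conj g).toMonoidHom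
  have hcommon : ∀ g ∈ chevG2.group K, ∀ χ, tor smithG2 χ = g * s * g⁻¹ →
      g * u * g⁻¹ ∈ chevG2.group K ∧
        (g * u * g⁻¹) * tor smithG2 χ = tor smithG2 χ * (g * u * g⁻¹) ∧
        (g * u * g⁻¹) ^ 2 ^ k = 1 ∧ n • χ = 0 ∧ ∀ N : ℕ, N • χ = 0 → s ^ N = 1 := by
    intro g hg χ hχ
    refine ⟨mul_mem (mul_mem hg (pow_mem hXG n)) (inv_mem hg), by rw [hχ]; exact (hsu g).eq, ?_, ?_, fun N hN => ?_⟩
    · rw [conj_pow, huk, mul_one, mul_inv_cancel]
    · rw [← tr_pow_eq_one, hχ, conj_pow, hsn, mul_one, mul_inv_cancel]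
    · have := tr_pow_eq_one.2 hN
      rwa [hχ, conj_pow, conj_eq_one_iff] at this
  have hodd2 : ∀ {N : ℕ}, (Fintype.card K - 1) ∣ N → ∀ z : GL chevG2.Idx K,
      z ∈ chevG2.diagonalSubgroup K → z ^ N = 1 := by
    intro N hN z hz
    obtain ⟨e, rfl⟩ := hN
    rw [pow_mul, H_pow hz, one_pow]
  have hKodd : Nat.Coprime (2 ^ k) (Fintype.card K - 1) := by
    refine Nat.Coprime.pow_left _ ((Nat.prime_two.coprime_iff_not_dvd).2 fun h => ?_)
    obtain ⟨e, -, he⟩ := FiniteField.card K 2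
    have : 2 ∣ Fintype.card K := he ▸ dvd_pow_self 2 e.pos.ne'
    have := Fintype.card_pos (α := K)
    omega
  have hH1 : ∀ z : GL chevG2.Idx K, z ∈ chevG2.diagonalSubgroup K → z ^ 2 ^ k = 1 → z = 1 := by
    intro z hz hzk
    have h := Nat.dvd_gcd (orderOf_dvd_of_pow_eq_one hzk) (orderOf_dvd_of_pow_eq_one (H_pow hz))
    rw [hKodd.gcd_eq_one, Nat.dvd_one] at h
    exact orderOf_eq_one_iff.1 h
  rcases zero_cases two_free hχ00 with hA | ⟨r, hr, hz, honly⟩ | ⟨h1, h0, h3⟩
  · -- regular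
    obtain ⟨w, hw⟩ := twist g₀ hg₀ χ₀ hχ₀
    obtain ⟨huG, hcomm, hu2, hnχ, hsN⟩ := hcommon g₀ hg₀ χ₀ hχ₀
    have hu1 : g₀ * u * g₀⁻¹ = 1 := hH1 _ (regular hnpos hdvd hnχ hA huG hcomm) hu2
    rw [conj_eq_one_iff] at hu1
    have hsq : 1 ≤ q ^ 2 := Nat.one_le_pow _ _ (by omega)
    rcases act_quad _ (Pm_mem w) q hw with h | h | h
    · refine ⟨q ^ 2 - 1, by simp [bounds], hfinal _ (hsN _ (addOrderOf_dvd_pi h ?_)) (by rw [hu1, one_pow])⟩
      rw [Nat.cast_sub hsq]; push_cast; ring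
    · refine ⟨q ^ 2 + q + 1, by simp [bounds], hfinal _ (hsN _ (addOrderOf_dvd_pi h ?_)) (by rw [hu1, one_pow])⟩
      push_cast; ring
    · refine ⟨q ^ 2 - q + 1, by simp [bounds], hfinal _ (hsN _ (addOrderOf_dvd_pi h ?_)) (by rw [hu1, one_pow])⟩
      rw [Nat.cast_add, Nat.cast_sub (Nat.le_self_pow two_ne_zero q)]; push_cast; ring
  · -- one pair of roots
    obtain ⟨v, i, hvi⟩ := Sys.exists_root_img (S (K := K)) hr
    change X.img v (chevG2.simple i.val) = r at hvi
    obtain ⟨m, hm, htr⟩ := transport (K := K) v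
    set g := m⁻¹ * g₀ with hgdef
    set χ := wact C X v χ₀ with hχdef
    have hg : g ∈ chevG2.group K := mul_mem (inv_mem hm) hg₀
    have hχ : tor smithG2 χ = g * s * g⁻¹ := by
      rw [hχdef, ← htr, hχ₀, hgdef]; group
    have hχ0 : χ ≠ 0 := wact_ne_zero C X v hχ00
    have hi' : χ i = 0 := by
      show ev C χ₀ (X.img v (chevG2.simple i.val)) = 0
      rw [hvi, hz]
    have honly' : ∀ a, a < chevG2.nroots → ev C χ a = 0 →
        a = chevG2.simple i.val ∨ a = chevG2.neg (chevG2.simple i.val) := by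
      intro a ha ha0
      rw [ev_wact C X v χ₀ ha] at ha0
      rcases honly _ (X.img_lt v ha) ha0 with e | e
      · exact Or.inl (X.img_injective v (e.trans hvi.symm))
      · exact Or.inr (X.img_injective v (e.trans (by rw [X.img_neg v (X.simple_lt i.isLt), hvi])))
    obtain ⟨w, hw⟩ := twist g hg χ hχ
    obtain ⟨huG, hcomm, hu2, hnχ, hsN⟩ := hcommon g hg χ hχ
    obtain ⟨A, z, hzH, hzc, huA⟩ := subsystem_A1 hi' hχ0 honly' huG hcomm
    obtain ⟨hAk, hzk⟩ := pow_split hzc (huA ▸ hu2)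
    have hz1 := hH1 z hzH hzk
    have hu' : u ^ 2 = 1 := by
      have : (g * u * g⁻¹) ^ 2 = 1 := by
        rw [huA, hz1, mul_one, ← map_pow]
        have hA2 : A ^ 2 = 1 := sl_pow (e := 1) le_rfl hAk
        rw [hA2, map_one]
      rwa [conj_pow, conj_eq_one_iff] at this
    have hwi : ev C χ (X.img w (chevG2.simple i.val)) = 0 := by
      rw [show ev C χ (X.img w (chevG2.simple i.val)) = act (Pm C X w) χ i from rfl, hw,
        Pi.smul_apply, hi', smul_zero]
    have hrow : (∀ j, Pm C X w i j = if j = i then 1 else 0) ∨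
        (∀ j, Pm C X w i j = if j = i then -1 else 0) := by
      rcases honly' _ (X.img_lt w (X.simple_lt i.isLt)) hwi with e | e
      · left; intro j
        show C.coef (X.img w (chevG2.simple i.val)) j.val = _
        rw [e, C.coef_simple _ _ i.isLt j.isLt]
        simp only [Fin.ext_iff]
      · right; intro j
        show C.coef (X.img w (chevG2.simple i.val)) j.val = _
        rw [e, C.coef_neg _ _ (X.simple_lt i.isLt) j.isLt, C.coef_simple _ _ i.isLt j.isLt]
        simp only [Fin.ext_iff]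
        split <;> simp
    have hsref : act (Sref i) χ = χ := by
      rw [← Pm_simple, act_Pm]
      funext j
      rw [wact, X.img_simple i (X.simple_lt j.isLt), ev_reflect C χ i (X.simple_lt j.isLt), hi',
        smul_zero, sub_zero, ev_simple]
    have hpm : act (Pm C X w) χ = χ ∨ act (Pm C X w) χ = -χ := by
      have hneg : ∀ M : M2, act (-M) χ = -act M χ := fun M => by funext j; simp [act, neg_smul]
      rcases Ws_stab i _ (Pm_mem w) hrow with e | e | e | e <;> rw [e]
      · exact Or.inl (act_one χ)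
      · exact Or.inl hsref
      · right; rw [hneg, act_one]
      · right; rw [hneg, hsref]
    rcases hpm with e | e
    · refine ⟨2 * (q - 1), by simp [bounds], hfinal _ (hsN _ ?_) (by rw [pow_mul, hu', one_pow])⟩
      rw [e] at hw
      have hz : (q - 1) • χ = 0 := by
        refine addOrderOf_dvd_pi (z := (q : ℤ) - 1) ?_ (by rw [Nat.cast_sub (by omega)]; simp)
        rw [sub_smul, natCast_zsmul, ← hw, one_smul, sub_self]
      rw [mul_nsmul', hz, smul_zero]
    · refine ⟨2 * (q + 1), by simp [bounds], hfinal _ (hsN _ ?_) (by rw [pow_mul, hu', one_pow])⟩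
      rw [e] at hw
      have hz : (q + 1) • χ = 0 := by
        rw [succ_nsmul, ← hw, neg_add_cancel]
      rw [mul_nsmul', hz, smul_zero]
  · -- centre of the long root subgroup
    obtain ⟨huG, hcomm, hu2, hnχ, hsN⟩ := hcommon g₀ hg₀ χ₀ hχ₀
    obtain ⟨A, hA⟩ := subsystem_A2 h1 h0 h3 huG hcomm
    have hA4 : A ^ 2 ^ 2 = 1 := sl_pow (k := k) (by norm_num) (G2SL3Embed68.rho_injective (by
      rw [map_pow, hA, hu2, map_one]))
    have hu4 : u ^ 4 = 1 := by
      have : (g₀ * u * g₀⁻¹) ^ 4 = 1 := by rw [← hA, ← map_pow]; norm_num at hA4; rw [hA4, map_one]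
      rwa [conj_pow, conj_eq_one_iff] at this
    refine ⟨12, by simp [bounds], hfinal _ (hsN _ ?_) (by rw [show 12 = 4 * 3 from rfl, pow_mul, hu4, one_pow])⟩
    funext j
    rw [Pi.smul_apply, Pi.zero_apply]
    rcases fin_cases2 j with rfl | rfl
    · rw [show 12 = 4 * 3 from rfl, mul_nsmul', h3, smul_zero]
    · rw [h1, smul_zero]

end Cfsg.Agent.G2EvenFrobenius68
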