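import Cfsg.Agent.Lib.G2EvenFrobenius68
import Cfsg.Agent.Lib.SmallExcG2Check

/-!
Seven element orders occurring in the Chevalley group of type G2 over a finite field of
characteristic two.
-/

set_option autoImplicit false

namespace Cfsg.Agent.G2EvenOrders68

open Cfsg.Lie Cfsg.Agent.ChevWeyl Cfsg.Agent.ChevBruhat Cfsg.Agent.ChevRootCoord68
  Cfsg.Agent.G2EvenWeyl68 Cfsg.Agent.G2EvenCentralizer68 Cfsg.Agent.SmallExcPerm
open Cfsg.Agent.ChevCoxTorus68 (Pm act_Pm tor tor_inj map_mem_group conj_tor mem_H_iff)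
open Cfsg.Agent.ChevalleyTorusCard (act smithG2 act_mul act_one act_nsmul)
open Cfsg.Agent.ChevalleyCore (xg)
open Cfsg.Agent.SmallExcG2 (tab x_eq_tab)
open scoped Matrix

/-- the tables of a word -/
def tabs (w : List (Fin 12)) (n : ℕ) : List (List ℕ) :=
  (List.replicate n (w.map fun r => tab r.val 1)).flatten

/-- the images of the basis under a power of a word -/
def fixes (w : List (Fin 12)) (n : ℕ) : Bool :=
  (List.range 14).all fun j => mvW 2 (tabs w n) (256 ^ j) == 256 ^ j

theorem okT_tab : ∀ r : Fin 12, okT 2 (tab r.val 1) = true := by decide +kernel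

theorem okV_basis : ∀ j : Fin 14, okV 2 (256 ^ j.val) = true := by decide +kernel

theorem dig_basis : ∀ p : Co × Co, dig 256 (256 ^ ix p.2) (ix p.1) = if p.1 = p.2 then 1 else 0 := by
  decide +kernel

theorem word_coe {F : Type*} [Field F] [CharP F 2] (w : List (Fin 12)) :
    (((w.map fun r => xg C r.val (1 : F)).prod : GL chevG2.Idx F) : Matrix Co Co F) =
      ((w.map fun r => tab r.val 1).map (ofC (R := F))).prod := by
  induction w with
  | nil => rfl
  | cons r w ih =>
    rw [List.map_cons, List.prod_cons, Units.val_mul, ih, List.map_cons, List.map_cons, List.prod_cons,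
      ChevalleyCore.coe_xg]
    congr 1
    have h := ChevFieldAut77.map_x C (ZMod.castHom (dvd_refl 2) F) (r := r.val) r.2 1
    rw [map_one, x_eq_tab] at h
    rw [← h]
    ext i j
    simp [ofC]

theorem word_pow {F : Type*} [Field F] [CharP F 2] (w : List (Fin 12)) (n : ℕ) {j : ℕ} (hj : j < 14) :
    ((((w.map fun r => xg C r.val (1 : F)).prod ^ n : GL chevG2.Idx F) : Matrix Co Co F)) *ᵥ
      vec (256 ^ j) = vec (mvW 2 (tabs w n) (256 ^ j)) ∧ okV 2 (mvW 2 (tabs w n) (256 ^ j)) = true := by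
  have hok : ∀ T ∈ tabs w n, okT 2 T = true := by
    intro T hT
    simp only [tabs, List.mem_flatten, List.mem_replicate] at hT
    obtain ⟨l, ⟨-, rfl⟩, hT⟩ := hT
    obtain ⟨r, -, rfl⟩ := List.mem_map.1 hT
    exact okT_tab r
  obtain ⟨h1, h2⟩ := mulVec_prod (R := F) (p := 2) (by norm_num) (by norm_num) (tabs w n) hok
    (okV_basis ⟨j, hj⟩)
  refine ⟨?_, h1⟩
  rw [← h2]
  congr 1
  rw [Units.val_pow_eq_pow_val, word_coe, tabs, List.map_flatten, List.prod_flatten,
    List.map_replicate, List.map_replicate, List.prod_replicate]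

theorem word_pow_eq_one {F : Type*} [Field F] [CharP F 2] (w : List (Fin 12)) (n : ℕ) :
    (w.map fun r => xg C r.val (1 : F)).prod ^ n = 1 ↔ fixes w n = true := by
  rw [fixes, List.all_eq_true]
  constructor
  · intro h j hj
    rw [List.mem_range] at hj
    obtain ⟨h1, h2⟩ := word_pow (F := F) w n hj
    rw [h, Units.val_one, Matrix.one_mulVec] at h1
    rw [beq_iff_eq]
    exact (vec_injective (R := F) (okV_basis ⟨j, hj⟩) h2 h1).symm
  · intro h
    apply Units.ext
    rw [Units.val_one]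
    refine Matrix.ext_of_mulVec_single fun c => ?_
    have hb : (vec (256 ^ ix c) : Co → F) = Pi.single c 1 := by
      funext i
      rw [vec, dig_basis (i, c), Pi.single_apply]
      split <;> simp
    rw [← hb, (word_pow (F := F) w n (ix_lt c)).1, beq_iff_eq.1 (h _ (List.mem_range.2 (ix_lt c))),
      Matrix.one_mulVec]

theorem word_checks : fixes [7, 6] 8 = true ∧ fixes [7, 6] 4 = false ∧ fixes [7, 6, 4] 12 = true ∧
    fixes [7, 6, 4] 4 = false ∧ fixes [7, 6, 4] 6 = false := by decide +kernel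

theorem word_mem {F : Type*} [Field F] (w : List (Fin 12)) :
    (w.map fun r => xg C r.val (1 : F)).prod ∈ chevG2.group F :=
  Subgroup.list_prod_mem _ fun g hg => by
    obtain ⟨r, -, rfl⟩ := List.mem_map.1 hg
    exact (S (K := F)).xg_mem_group r.2 _

theorem order_eight {F : Type*} [Field F] [CharP F 2] : ∃ g ∈ chevG2.group F, orderOf g = 8 := by
  refine ⟨_, word_mem [7, 6], ?_⟩
  obtain ⟨h1, h2, -⟩ := word_checks
  have : Fact (Nat.Prime 2) := ⟨Nat.prime_two⟩
  exact orderOf_eq_prime_pow (p := 2) (n := 2)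
    (fun h => Bool.false_ne_true (h2.symm.trans ((word_pow_eq_one (F := F) _ 4).1 h)))
    ((word_pow_eq_one (F := F) _ 8).2 h1)

theorem order_twelve {F : Type*} [Field F] [CharP F 2] : ∃ g ∈ chevG2.group F, orderOf g = 12 := by
  refine ⟨_, word_mem [7, 6, 4], ?_⟩
  obtain ⟨-, -, h1, h2, h3⟩ := word_checks
  refine (orderOf_eq_iff (by norm_num)).2 ⟨(word_pow_eq_one (F := F) _ 12).2 h1, fun m hm hm0 h => ?_⟩
  set g := (List.map (fun r : Fin 12 => xg C r.val (1 : F)) [7, 6, 4]).prod with hg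
  have hd : orderOf g ∣ Nat.gcd m 12 := Nat.dvd_gcd (orderOf_dvd_of_pow_eq_one h)
    (orderOf_dvd_of_pow_eq_one ((word_pow_eq_one (F := F) _ 12).2 h1))
  have h46 : Nat.gcd m 12 ∣ 4 ∨ Nat.gcd m 12 ∣ 6 := by interval_cases m <;> decide
  rcases h46 with e | e
  · exact Bool.false_ne_true (h2.symm.trans ((word_pow_eq_one (F := F) _ 4).1
      (orderOf_dvd_iff_pow_eq_one.1 (hd.trans e))))
  · exact Bool.false_ne_true (h3.symm.trans ((word_pow_eq_one (F := F) _ 6).1
      (orderOf_dvd_iff_pow_eq_one.1 (hd.trans e))))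

/-- an element of SL(2) of order one more than the size of the field -/
theorem exists_sl2_order {F : Type*} [Field F] [Fintype F] [CharP F 2] :
    ∃ A : Matrix.SpecialLinearGroup (Fin 2) F, orderOf A = Fintype.card F + 1 := by
  classical
  have : Fact (Nat.Prime 2) := ⟨Nat.prime_two⟩
  set q := Fintype.card F with hq
  have hq1 : 1 < q := Fintype.one_lt_card
  let K := FiniteField.Extension F 2 2
  let _ : Fintype K := Fintype.ofFinite _
  let ι : F →+* K := algebraMap F K
  have : CharP K 2 := charP_of_injective_ringHom ι.injective 2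
  have hcardK : Fintype.card K = q ^ 2 := by
    rw [← Nat.card_eq_fintype_card, FiniteField.natCard_extension, Nat.card_eq_fintype_card]
  obtain ⟨u, hu, -⟩ := ChevCoxTorus68.exists_prim (K := K) (k := q + 1) (by
    rw [hcardK]; exact ⟨q - 1, by
      have := Nat.sq_sub_sq q 1
      rwa [one_pow] at this⟩)
  set ω : K := ((u.toMul : Kˣ) : K) with hω
  have hω0 : ω ≠ 0 := Units.ne_zero _
  have hpow : ∀ k : ℕ, ω ^ k = 1 ↔ q + 1 ∣ k := fun k => by
    rw [hω, ← Units.val_pow_eq_pow_val, Units.val_eq_one, ← hu, ← toMul_nsmul, toMul_eq_one,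
      addOrderOf_dvd_iff_nsmul_eq_zero]
  have hωq : ω ^ q = ω⁻¹ := eq_inv_of_mul_eq_one_left (by rw [← pow_succ, hpow])
  obtain ⟨τ, hτ⟩ := ChevCoxTorus68.mem_range_of_pow_card ι (x := ω + ω⁻¹) (by
    obtain ⟨e, -, he⟩ := FiniteField.card F 2
    rw [he, add_pow_char_pow, inv_pow, ← he, ← hq, hωq, inv_inv, add_comm])
  have h2 : (2 : F) = 0 := by exact_mod_cast CharP.cast_eq_zero F 2
  have h2K : (2 : K) = 0 := by exact_mod_cast CharP.cast_eq_zero K 2
  let A : Matrix.SpecialLinearGroup (Fin 2) F := ⟨!![0, 1; 1, τ], by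
    rw [Matrix.det_fin_two_of]; linear_combination -h2⟩
  set V : Matrix (Fin 2) (Fin 2) K := !![1, 1; ω, ω⁻¹] with hV
  set Dg : Matrix (Fin 2) (Fin 2) K := Matrix.diagonal ![ω, ω⁻¹] with hDg
  have hAV : (A : Matrix (Fin 2) (Fin 2) F).map ι * V = V * Dg := by
    ext i j
    fin_cases i <;> fin_cases j <;>
      simp [A, hV, hDg, Matrix.mul_apply, Fin.sum_univ_two, hτ, hω0] <;>
      (try field_simp)
    · linear_combination h2K + mul_inv_cancel₀ hω0
    · linear_combination h2K + mul_inv_cancel₀ hω0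
  have hpowA : ∀ k : ℕ, ((A ^ k : Matrix.SpecialLinearGroup (Fin 2) F) :
      Matrix (Fin 2) (Fin 2) F).map ι * V = V * Dg ^ k := by
    intro k
    induction k with
    | zero => simp
    | succ k ih =>
      rw [pow_succ, Matrix.SpecialLinearGroup.coe_mul, Matrix.map_mul, Matrix.mul_assoc, hAV,
        ← Matrix.mul_assoc, ih, Matrix.mul_assoc, ← pow_succ]
  have hne : ω⁻¹ - ω ≠ 0 := fun h => by
    have h1 : ω ^ 2 = 1 := by
      rw [sub_eq_zero] at h
      rw [sq]; nth_rewrite 1 [← h]; rw [inv_mul_cancel₀ hω0]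
    have := Nat.le_of_dvd (by norm_num) ((hpow 2).1 h1)
    omega
  have hVdet : IsUnit V.det := by
    rw [isUnit_iff_ne_zero, hV, Matrix.det_fin_two_of, one_mul, one_mul]; exact hne
  refine ⟨A, Nat.dvd_antisymm (orderOf_dvd_of_pow_eq_one ?_) ((hpow _).1 ?_)⟩
  · have h := hpowA (q + 1)
    rw [hDg, Matrix.diagonal_pow, show (![ω, ω⁻¹] ^ (q + 1) : Fin 2 → K) = fun _ => 1 by
      funext i; fin_cases i <;> simp [inv_pow, (hpow _).2 dvd_rfl], Matrix.diagonal_one, mul_one] at h
    have h' : ((A ^ (q + 1) : Matrix.SpecialLinearGroup (Fin 2) F) :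
        Matrix (Fin 2) (Fin 2) F).map ι = 1 := by
      have h'' := congrArg (· * V⁻¹) h
      simp only [Matrix.mul_assoc, Matrix.mul_nonsing_inv _ hVdet, mul_one] at h''
      exact h''
    refine Subtype.ext (Matrix.map_injective ι.injective ?_)
    rw [Matrix.SpecialLinearGroup.coe_one]
    exact h'.trans (Matrix.map_one _ (map_zero ι) (map_one ι)).symm
  · have h := hpowA (orderOf A)
    rw [pow_orderOf_eq_one, Matrix.SpecialLinearGroup.coe_one, Matrix.map_one _ (map_zero ι) (map_one ι),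
      one_mul, hDg, Matrix.diagonal_pow] at h
    have h00 := congrFun (congrFun h 0) 0
    simp [hV, Matrix.mul_apply, Fin.sum_univ_two] at h00
    exact h00.symm

theorem orth_terms : chevG2.commTerms (chevG2.simple 0) 11 = [] ∧
    chevG2.commTerms (chevG2.neg (chevG2.simple 0)) 11 = [] ∧
    11 ≠ chevG2.simple 0 ∧ 11 ≠ chevG2.neg (chevG2.simple 0) ∧
    11 ≠ chevG2.neg (chevG2.neg (chevG2.simple 0)) := by decide +kernel

theorem long_commute {F : Type*} [Field F] (b : F) (A : Matrix.SpecialLinearGroup (Fin 2) F) :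
    Commute (xg C 11 b) (phi i0 A) := by
  obtain ⟨h1, h2, h3, h4, h5⟩ := orth_terms
  have h11 : 11 < chevG2.nroots := by decide
  have key : ∀ r, r < chevG2.nroots → 11 ≠ r → 11 ≠ chevG2.neg r → chevG2.commTerms r 11 = [] →
      ∀ a : F, xg C 11 b * xg C r a * (xg C 11 b)⁻¹ = xg C r a := by
    intro r hr hn1 hn2 ht a
    have h := ChevalleyCore.comm_formula C hr h11 hn1 hn2 a b
    rw [show chevG2.commWord F r 11 a b = [] by simp [ChevalleyDatum.commWord, ht]] at h
    rw [mul_inv_eq_iff_eq_mul, h]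
    simp [ChevalleyCore.wg]
  exact commute_range i0 (fun a => key _ (X.simple_lt i0.isLt) h3 h4 h1 a)
    (fun a => key _ (C.neg_lt _) h4 h5 h2 a) A

theorem orderOf_xg {F : Type*} [Field F] [CharP F 2] {r : ℕ} (hr : r < chevG2.nroots) :
    orderOf (xg C r (1 : F)) = 2 := by
  have : Fact (Nat.Prime 2) := ⟨Nat.prime_two⟩
  refine orderOf_eq_prime ?_ fun h => one_ne_zero ((S (K := F)).xg_eq_one hr h)
  rw [pow_two, ChevalleyCore.xg_mul, CharTwo.add_self_eq_zero, ChevalleyCore.xg_zero]

theorem orderOf_tor {F : Type*} [Field F] (χ : Fin chevG2.rank → Additive Fˣ) :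
    orderOf (tor smithG2 χ) = addOrderOf χ :=
  Nat.dvd_antisymm (orderOf_dvd_of_pow_eq_one (tr_pow_eq_one.2 (addOrderOf_nsmul_eq_zero χ)))
    (addOrderOf_dvd_iff_nsmul_eq_zero.2 (tr_pow_eq_one.1 (pow_orderOf_eq_one _)))

theorem kernel_torus {F : Type*} [Field F] [Fintype F] :
    ∃ χ : Fin chevG2.rank → Additive Fˣ, χ i0 = 0 ∧
      orderOf (tor smithG2 χ) = Fintype.card F - 1 := by
  classical
  obtain ⟨u, hu, -⟩ := ChevCoxTorus68.exists_prim (K := F) (k := Fintype.card F - 1) dvd_rfl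
  refine ⟨fun j => if j = i0 then 0 else u, if_pos rfl, ?_⟩
  rw [orderOf_tor, ← hu]
  refine addOrderOf_eq_addOrderOf_iff.2 fun k => ⟨fun h => ?_, fun h => funext fun j => ?_⟩
  · have := congrFun h i1
    simpa [show i1 ≠ i0 by decide] using this
  · rw [Pi.smul_apply]; split <;> simp [h]

theorem coprime_orders {F : Type*} [Field F] [Fintype F] [CharP F 2] :
    Nat.Coprime (Fintype.card F + 1) 2 ∧ Nat.Coprime (Fintype.card F - 1) 2 ∧
      Nat.Coprime (Fintype.card F + 1) (Fintype.card F - 1) := by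
  obtain ⟨e, he2, he⟩ := FiniteField.card F 2
  set q := Fintype.card F
  have h2 : 2 ∣ q := he ▸ dvd_pow_self 2 e.pos.ne'
  have hq1 : 1 < q := Fintype.one_lt_card
  have ha : Nat.Coprime (q + 1) 2 :=
    ((Nat.prime_two.coprime_iff_not_dvd).2 (by omega)).symm
  refine ⟨ha, ((Nat.prime_two.coprime_iff_not_dvd).2 (by omega)).symm, ?_⟩
  rw [Nat.coprime_comm, Nat.Coprime, show q + 1 = q - 1 + 2 by omega, Nat.gcd_self_add_right]
  exact ((Nat.prime_two.coprime_iff_not_dvd).2 (by omega)).symm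

theorem order_products {F : Type*} [Field F] [Fintype F] [CharP F 2] :
    (∃ g ∈ chevG2.group F, orderOf g = 2 * (Fintype.card F + 1)) ∧
    (∃ g ∈ chevG2.group F, orderOf g = 2 * (Fintype.card F - 1)) ∧
    (∃ g ∈ chevG2.group F, orderOf g = Fintype.card F ^ 2 - 1) := by
  obtain ⟨A, hA⟩ := exists_sl2_order (F := F)
  have hA' : orderOf (phi i0 A) = Fintype.card F + 1 := by
    rw [orderOf_injective _ (phi_injective i0), hA]
  obtain ⟨χ, hχ0, hχ⟩ := kernel_torus (F := F)
  obtain ⟨c1, c2, c3⟩ := coprime_orders (F := F)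
  have h11 : 11 < chevG2.nroots := by decide
  have hs0 := X.simple_lt i0.isLt
  have hT : tor smithG2 χ ∈ chevG2.group F := (S (K := F)).H_le_group (tr_mem χ)
  refine ⟨⟨phi i0 A * xg C 11 1, mul_mem (phi_mem_group i0 A) ((S (K := F)).xg_mem_group h11 1), ?_⟩,
    ⟨tor smithG2 χ * xg C (chevG2.simple i0.val) 1,
      mul_mem hT ((S (K := F)).xg_mem_group hs0 1), ?_⟩,
    ⟨phi i0 A * tor smithG2 χ, mul_mem (phi_mem_group i0 A) hT, ?_⟩⟩
  · rw [(long_commute 1 A).symm.orderOf_mul_eq_mul_orderOf_of_coprime (by rw [hA', orderOf_xg h11]; exact c1),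
      hA', orderOf_xg h11, mul_comm]
  · have hc : Commute (tor smithG2 χ) (xg C (chevG2.simple i0.val) (1 : F)) := by
      have h := ChevCoxTorus68.tor_conj_xg C smithG2 χ hs0 (1 : F)
      rw [ev_simple, hχ0, toMul_zero, Units.val_one, one_mul] at h
      exact mul_inv_eq_iff_eq_mul.1 h
    rw [hc.orderOf_mul_eq_mul_orderOf_of_coprime (by rw [hχ, orderOf_xg hs0]; exact c2),
      hχ, orderOf_xg hs0, mul_comm]
  · rw [(tr_commute_range i0 hχ0 A).symm.orderOf_mul_eq_mul_orderOf_of_coprime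
      (by rw [hA', hχ]; exact c3), hA', hχ]
    have := Nat.sq_sub_sq (Fintype.card F) 1
    rw [one_pow] at this
    exact this.symm

/-- the first row of a matrix of order three or six has a unit off the diagonal -/
theorem cox_row : ∀ M ∈ Ws, (M * M + M + 1 = 0 ∨ M * M - M + 1 = 0) →
    (M i0 i1 = 1 ∨ M i0 i1 = -1) ∧
      ((M * M + M + 1 = 0 → M.det = 1 ∧ M.trace = -1) ∧ (M * M - M + 1 = 0 → M.det = 1 ∧ M.trace = 1)) := by
  decide +kernel

/-- the coefficient vector of a root -/
abbrev coefZ' (t : ℕ) : Fin chevG2.rank → ℤ := ChevSylowTorus68.coefZ C t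

theorem no_eigen : ∀ M ∈ Ws, (M * M + M + 1 = 0 ∨ M * M - M + 1 = 0) → ∀ r : Fin chevG2.nroots,
    Matrix.vecMul (coefZ' r.val) M ≠ coefZ' r.val ∧ Matrix.vecMul (coefZ' r.val) M ≠ -coefZ' r.val := by
  decide +kernel

/-- an element whose order is the value at the field size of a quadratic cyclotomic polynomial -/
theorem order_cyclotomic {F : Type*} [Field F] [Fintype F] [CharP F 2] (q N d : ℕ)
    (hq : q = Fintype.card F) (hq4 : 4 ≤ q) (e : ℤ)
    (he : (d = 3 ∧ e = 1) ∨ (d = 6 ∧ e = -1)) (hN : (N : ℤ) = (q : ℤ) ^ 2 + e * q + 1) :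
    ∃ g ∈ chevG2.group F, orderOf g = N := by
  classical
  haveI : Fact (Nat.Prime 2) := ⟨Nat.prime_two⟩
  subst hq
  set q := Fintype.card F with hq
  have hq1 : 1 < q := by omega
  haveI : NeZero d := ⟨by omega⟩
  have hee : e = 1 ∨ e = -1 := by omega
  have hqd : ∀ {R : Type} [CommRing R] (z : R), z ^ 2 + (e : R) * z + 1 = 0 → z ^ d = 1 := by
    intro R _ z hz
    rcases he with ⟨rfl, rfl⟩ | ⟨rfl, rfl⟩ <;> push_cast at hz
    · linear_combination (z - 1) * hz
    · linear_combination (z ^ 4 + z ^ 3 - z - 1) * hz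
  have hN0 : 0 < N := by
    rcases hee with rfl | rfl <;> nlinarith
  have hNodd : ¬ 2 ∣ N := by
    obtain ⟨m, -, hm⟩ := FiniteField.card F 2
    have h2 : 2 ∣ q := by rw [hq, hm]; exact dvd_pow_self 2 m.pos.ne'
    obtain ⟨a, ha⟩ := h2
    intro hd
    have hd' : (2 : ℤ) ∣ (N : ℤ) := by exact_mod_cast hd
    rw [hN, ha] at hd'
    push_cast at hd'
    have : (2 : ℤ) ∣ 1 := by
      have h : (2 : ℤ) ∣ (2 * (a : ℤ)) ^ 2 + e * (2 * a) := ⟨2 * a ^ 2 + e * a, by ring⟩
      simpa using dvd_sub hd' h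
    norm_num at this
  -- a prime at least five
  obtain ⟨l, hl, hlN, hl3⟩ : ∃ l, l.Prime ∧ l ∣ N ∧ l ≠ 3 := by
    by_contra hcon
    push Not at hcon
    have hk := Nat.eq_prime_pow_of_unique_prime_dvd hN0.ne' fun {d} hd hdd => hcon d hd hdd
    generalize N.primeFactorsList.length = j at hk
    have h9 : ¬ 9 ∣ N := by
      intro h9
      have h : ((N : ℤ) : ZMod 9) = 0 := by
        rw [Int.cast_natCast]; exact (ZMod.natCast_eq_zero_iff _ _).2 h9
      rw [hN] at h
      push_cast at h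
      have : ∀ z : ZMod 9, z ^ 2 + z + 1 ≠ 0 ∧ z ^ 2 + -1 * z + 1 ≠ 0 := by decide
      rcases hee with rfl | rfl <;> push_cast at h
      · exact (this _).1 (by simpa using h)
      · exact (this _).2 h
    have : j ≤ 1 := by
      by_contra hj
      exact h9 (hk ▸ (pow_dvd_pow 3 (show 2 ≤ j by omega)))
    have : N ≤ 3 := by
      rw [hk]; interval_cases j <;> norm_num
    rcases hee with rfl | rfl <;> nlinarith
  have hl2 : l ≠ 2 := fun h => hNodd (h ▸ hlN)
  have hl5 : 5 ≤ l := by
    have := hl.two_le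
    by_contra h
    have : l = 4 := by omega
    rw [this] at hl
    norm_num at hl
  haveI : Fact l.Prime := ⟨hl⟩
  have hlz : (q : ZMod l) ^ 2 + (e : ZMod l) * q + 1 = 0 := by
    have h : ((N : ℤ) : ZMod l) = 0 := by
      rw [Int.cast_natCast]; exact (ZMod.natCast_eq_zero_iff _ _).2 hlN
    rw [hN] at h
    push_cast at h
    exact h
  let K := FiniteField.Extension F 2 d
  let _ : Fintype K := Fintype.ofFinite _
  let ι : F →+* K := algebraMap F K
  haveI : CharP K 2 := charP_of_injective_ringHom ι.injective 2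
  have hcardK : Fintype.card K = q ^ d := by
    rw [← Nat.card_eq_fintype_card, FiniteField.natCard_extension, Nat.card_eq_fintype_card]
  have hNQ : N ∣ Fintype.card K - 1 := by
    have h : ((q : ZMod N)) ^ d = 1 := hqd _ (by
      have h : ((N : ℤ) : ZMod N) = 0 := by simp
      rw [hN] at h
      push_cast at h
      exact h)
    rw [hcardK, ← ZMod.natCast_eq_zero_iff, Nat.cast_sub (Nat.one_le_pow _ _ (by omega)), Nat.cast_pow,
      h, Nat.cast_one, sub_self]
  have hcong : (Fintype.card K : ZMod l) = 1 := by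
    rw [hcardK, Nat.cast_pow]; exact hqd _ hlz
  -- the element of prime order
  have hlG : l ∣ Nat.card ↥(chevG2.group F) := by
    have hH : 1 * Nat.card ↥(chevG2.diagonalSubgroup F) = (q - 1) ^ chevG2.rank := by
      simpa using ChevalleyTorusCard.card_H (F := F) C smithG2
    have hG := ChevOrder.order_eq (F := F) C X supp [2, 6] (by decide +kernel) hH
    rw [one_mul] at hG
    rw [hG]
    refine dvd_mul_of_dvd_right (Dvd.dvd.trans ?_
      (List.dvd_prod (List.mem_map.2 ⟨6, by simp, rfl⟩))) _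
    have h6 : (q : ZMod l) ^ 6 = 1 := by
      rcases he with ⟨rfl, rfl⟩ | ⟨rfl, rfl⟩
      · rw [show 6 = 3 * 2 from rfl, pow_mul, hqd _ hlz, one_pow]
      · exact hqd _ hlz
    rw [← ZMod.natCast_eq_zero_iff, ← hq, Nat.cast_sub (Nat.one_le_pow _ _ (by omega)), Nat.cast_pow,
      h6, Nat.cast_one, sub_self]
  obtain ⟨h₀, hh₀⟩ := exists_prime_orderOf_dvd_card' l hlG
  let mp : GL chevG2.Idx F →* GL chevG2.Idx K := Matrix.GeneralLinearGroup.map ι
  have hmp : Function.Injective mp := by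
    intro a b hab
    apply Units.ext
    have h := congrArg (fun g : GL chevG2.Idx K => (g : Matrix chevG2.Idx chevG2.Idx K)) hab
    simp only [mp, ChevFieldAut77.coe_map] at h
    exact Matrix.map_injective ι.injective h
  set h := mp (h₀ : GL chevG2.Idx F) with hh_def
  have hordh : orderOf h = l := by rw [hh_def, orderOf_injective mp hmp, Subgroup.orderOf_coe, hh₀]
  obtain ⟨g, hg, hgt⟩ := ChevCoxTorus68.exists_conj_mem_torus C smithG2 X supp [2, 6]
    (by decide +kernel) rfl hcong (fun a ha hd => by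
      have := Nat.le_of_dvd (by fin_cases ha <;> norm_num) hd
      fin_cases ha
      · omega
      · interval_cases l
        · norm_num at hd
        · norm_num at hl)
    (map_mem_group C ι h₀.2) (by rw [← hordh]; exact pow_orderOf_eq_one h)
  obtain ⟨χt, hχt⟩ := (mem_H_iff C smithG2).1 hgt
  change tor smithG2 χt = g * h * g⁻¹ at hχt
  let σ : K ≃+* K := (FiniteField.frobeniusAlgEquivOfAlgebraic F K).toRingEquiv
  have hσ : ∀ a, σ a = a ^ q := fun a => rfl
  let ψ : GL chevG2.Idx K →* GL chevG2.Idx K := ChevFieldAut77.psi σ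
  have hψι : ∀ y : GL chevG2.Idx F, ψ (mp y) = mp y := by
    intro y
    apply Units.ext
    rw [ChevFieldAut77.coe_map, ChevFieldAut77.coe_map]
    ext i j
    show σ (ι _) = ι _
    rw [hσ, ← map_pow, FiniteField.pow_card]
  have hψtor : ∀ χ, ψ (tor smithG2 χ) = tor smithG2 (q • χ) := by
    intro χ
    rw [tor, tor, ChevFieldAut77.psi_torus, act_nsmul]
    refine congrArg _ (funext fun i => Units.ext ?_)
    simp [toMul_nsmul, hσ]
  have hn'G : g * (ψ g)⁻¹ ∈ chevG2.group K := mul_mem hg (inv_mem (map_mem_group C σ.toRingHom hg))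
  have hn't : g * (ψ g)⁻¹ * tor smithG2 (q • χt) = tor smithG2 χt * (g * (ψ g)⁻¹) := by
    rw [← hψtor, hχt, map_mul, map_mul, map_inv, hψι (h₀ : GL chevG2.Idx F)]
    simp [mul_assoc, hh_def]
  obtain ⟨u₀, u₁, n, hn', hu₀, hu₁, f1, f2, f3⟩ := cell hn'G hn't
  set w := tW n with hw
  have hlχ : l • χt = 0 := by
    rw [← tr_pow_eq_one, hχt, conj_pow, ← hordh, pow_orderOf_eq_one, mul_one, mul_inv_cancel]
  obtain ⟨j, hj⟩ : ∃ j, χt j ≠ 0 := by
    by_contra hcon
    push Not at hcon
    have : tor smithG2 χt ^ 1 = 1 := tr_pow_eq_one.2 (by rw [one_smul]; exact funext hcon)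
    rw [pow_one, hχt, conj_eq_one_iff] at this
    rw [this, orderOf_one] at hordh
    exact hl.ne_one hordh.symm
  have hord : addOrderOf (χt j) = l := addOrderOf_eq_prime (congrFun hlχ j) hj
  have hdiv : ∀ z : ℤ, z • χt = 0 → (z : ZMod l) = 0 := fun z hz => by
    rw [ZMod.intCast_zmod_eq_zero_iff_dvd, ← hord, addOrderOf_dvd_iff_zsmul_eq_zero]
    exact congrFun hz j
  -- the Weyl element is determined
  set M := Pm C X w with hMdef
  have hMM : M * M + (e : ℤ) • M + 1 = 0 := by
    have hlinA : ∀ A : M2, act A ((q : ℤ) • χt) = (q : ℤ) • act A χt := fun A => by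
      funext i
      simp only [act, Pi.smul_apply]
      exact Eq.trans (Finset.sum_congr rfl fun k _ =>
        (map_zsmul (zsmulAddGroupHom (α := Additive Kˣ) (q : ℤ)) (A i k) (χt k)).symm)
        (map_sum (zsmulAddGroupHom (α := Additive Kˣ) (q : ℤ)) _ _).symm
    have f3' : act M χt = (q : ℤ) • χt := by rw [natCast_zsmul]; exact f3
    have hsq : act (M * M) χt = ((q : ℤ) ^ 2) • χt := by
      rw [act_mul, f3', hlinA, f3', sq, mul_smul]
    have hadd : ∀ A B : M2, act (A + B) χt = act A χt + act B χt := fun A B =>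
      ChevalleyTorusCard.act_add A B χt
    rcases Ws_quad M (Pm_mem w) with h' | h' | h'
    · exfalso
      have hz : (((q : ℤ) ^ 2 - 1 : ℤ) : ZMod l) = 0 := hdiv _ (by
        rw [sub_zsmul, ← hsq, h', act_one, one_zsmul, add_neg_cancel])
      push_cast at hz
      have h1 : (e : ZMod l) * q + 2 = 0 := by linear_combination hlz - hz
      have h4 : ((4 - 1 : ℕ) : ZMod l) = 0 := by
        have he2 : (e : ZMod l) ^ 2 = 1 := by rcases hee with rfl | rfl <;> simp
        push_cast
        linear_combination -((e : ZMod l) * q - 2) * h1 + (q : ZMod l) ^ 2 * he2 + hz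
      rw [ZMod.natCast_eq_zero_iff] at h4
      have := Nat.le_of_dvd (by norm_num) h4
      omega
    · rcases hee with rfl | rfl
      · simpa using h'
      exfalso
      have hz : (((q : ℤ) ^ 2 + q + 1 : ℤ) : ZMod l) = 0 := hdiv _ (by
        have h0 := congrArg (fun A : M2 => act A χt) h'
        simp only [hadd, hsq, f3', act_one] at h0
        rw [add_zsmul, add_zsmul, one_zsmul, h0]
        funext i; simp [act])
      push_cast at hz hlz
      have h2' : ((2 * q : ℕ) : ZMod l) = 0 := by push_cast; linear_combination hz - hlz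
      rw [ZMod.natCast_eq_zero_iff] at h2'
      rcases hl.dvd_mul.1 h2' with h2'' | h2''
      · have := Nat.le_of_dvd (by norm_num) h2''; omega
      · obtain ⟨m, -, hm⟩ := FiniteField.card F 2
        rw [hq, hm] at h2''
        exact hl2 ((Nat.prime_dvd_prime_iff_eq hl Nat.prime_two).1 (hl.dvd_of_dvd_pow h2''))
    · rcases hee with rfl | rfl
      swap
      · simpa [sub_eq_add_neg] using h'
      exfalso
      have hneg : act (-M) χt = -((q : ℤ) • χt) := by
        rw [← f3']; funext i; simp [act, neg_smul]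
      have hz : (((q : ℤ) ^ 2 - q + 1 : ℤ) : ZMod l) = 0 := hdiv _ (by
        have h0 := congrArg (fun A : M2 => act A χt) h'
        simp only [sub_eq_add_neg, hadd, hsq, hneg, act_one] at h0
        rw [add_zsmul, sub_zsmul, one_zsmul, h0]
        funext i; simp [act])
      push_cast at hz hlz
      have h2' : ((2 * q : ℕ) : ZMod l) = 0 := by push_cast; linear_combination hlz - hz
      rw [ZMod.natCast_eq_zero_iff] at h2'
      rcases hl.dvd_mul.1 h2' with h2'' | h2''
      · have := Nat.le_of_dvd (by norm_num) h2''; omega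
      · obtain ⟨m, -, hm⟩ := FiniteField.card F 2
        rw [hq, hm] at h2''
        exact hl2 ((Nat.prime_dvd_prime_iff_eq hl Nat.prime_two).1 (hl.dvd_of_dvd_pow h2''))
  have hMcases : M * M + M + 1 = 0 ∨ M * M - M + 1 = 0 := by
    rcases hee with rfl | rfl
    · left; simpa using hMM
    · right; simpa [sub_eq_add_neg] using hMM
  obtain ⟨hβ, hdt3, hdt6⟩ := cox_row M (Pm_mem w) hMcases
  have hdt : M.det = 1 ∧ M.trace = -e := by
    rcases hee with rfl | rfl
    · exact hdt3 (by simpa using hMM)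
    · obtain ⟨a, b⟩ := hdt6 (by simpa [sub_eq_add_neg] using hMM)
      exact ⟨a, by simpa using b⟩
  -- regularity
  have hreg : ∀ r, r < chevG2.nroots → ev C χt r ≠ 0 := by
    have hχt0 : χt ≠ 0 := fun h0 => hj (congrFun h0 j)
    rcases zero_cases two_free hχt0 with hA | ⟨r, hr, hz, honly⟩ | ⟨h1, h0, h3⟩
    · exact hA
    · exfalso
      have hwr : ev C χt (X.img w r) = 0 := by
        rw [← ev_wact C X w χt hr, ← act_Pm, ← hMdef, f3, ev_nsmul, hz, smul_zero]
      have hco : ∀ t, t < chevG2.nroots → (t = r ∨ t = chevG2.neg r) →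
          coefZ' t = coefZ' r ∨ coefZ' t = -coefZ' r := by
        intro t _ ht
        rcases ht with rfl | rfl
        · exact Or.inl rfl
        · right; funext i; exact C.coef_neg r i.val hr i.isLt
      obtain ⟨e1, e2⟩ := no_eigen M (Pm_mem w) hMcases ⟨r, hr⟩
      rcases hco _ (X.img_lt w hr) (honly _ (X.img_lt w hr) hwr) with h' | h' <;>
        rw [coefZ', ← ChevSylowTorus68.vecMul_coefZ C X w hr] at h'
      · exact e1 h'
      · exact e2 h'
    · exfalso
      have hord0 : addOrderOf (χt i0) = 3 := addOrderOf_eq_prime (hp := ⟨Nat.prime_three⟩) h3 h0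
      have := addOrderOf_dvd_iff_nsmul_eq_zero.2 (congrFun hlχ i0)
      rw [hord0] at this
      exact hl3 ((Nat.prime_dvd_prime_iff_eq Nat.prime_three hl).1 this).symm
  have hu0 : u₀ = 1 := by
    have := mem_of_fixed hu₀ f1 ⊥ fun r _ hr hz => absurd hz (hreg r hr)
    rwa [Subgroup.mem_bot] at this
  have hu1 : u₁ = 1 := by
    have hne : ∀ r, r < chevG2.nroots → ev C (q • χt) r ≠ 0 := fun r hr h0 => hreg r hr (by
      have hr' := X.img_lt w⁻¹ hr
      have h5 : ev C (q • χt) (X.img w⁻¹ r) = ev C χt r := by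
        rw [← f3, act_Pm, ev_wact C X w χt hr', X.img_img_inv]
      rw [ev_nsmul] at h0
      have hlr : l • ev C χt r = 0 := by rw [← ev_nsmul, hlχ, ev_zero]
      have hcop : Nat.Coprime q l := by
        obtain ⟨m, -, hm⟩ := FiniteField.card F 2
        rw [hq, hm]
        exact Nat.Coprime.pow_left _ ((Nat.coprime_primes Nat.prime_two hl).2 hl2.symm)
      exact AddMonoid.addOrderOf_eq_one_iff.1 (Nat.eq_one_of_dvd_coprimes hcop
        (addOrderOf_dvd_iff_nsmul_eq_zero.2 h0) (addOrderOf_dvd_iff_nsmul_eq_zero.2 hlr)))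
    have := mem_of_fixed hu₁ f2 ⊥ fun r _ hr hz => absurd hz (hne r hr)
    rwa [Subgroup.mem_bot] at this
  rw [hu0, hu1, one_mul, mul_one] at hn'
  -- the torus element of order N
  obtain ⟨u, hu, -⟩ := ChevCoxTorus68.exists_prim (K := K) hNQ
  set β := M i0 i1
  set χ : Fin chevG2.rank → Additive Kˣ :=
    fun i => if i = i0 then β • u else ((q : ℤ) - M i0 i0) • u with hχ
  have hχq : act M χ = q • χ := by
    have hMq : ((q : ℤ) - M i0 i0) * ((q : ℤ) - M i1 i1) - β * M i1 i0 = (N : ℤ) := by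
      have h1 : M.det = M i0 i0 * M i1 i1 - β * M i1 i0 := Matrix.det_fin_two M
      have h2 : M.trace = M i0 i0 + M i1 i1 := Matrix.trace_fin_two M
      rw [hdt.1] at h1
      rw [hdt.2] at h2
      rw [hN]; linear_combination (q : ℤ) * h2 - h1
    have hNu : (N : ℤ) • u = 0 := by rw [natCast_zsmul, ← hu, addOrderOf_nsmul_eq_zero]
    have hact : ∀ i, act M χ i = M i i0 • χ i0 + M i i1 • χ i1 := fun i =>
      Fin.sum_univ_two (fun k : Fin 2 => M i k • χ k)
    have hx0 : χ i0 = β • u := if_pos rfl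
    have hx1 : χ i1 = ((q : ℤ) - M i0 i0) • u := if_neg (by decide)
    funext i
    rw [hact, Pi.smul_apply, ← natCast_zsmul, hx0, hx1]
    rcases fin_cases2 i with rfl | rfl
    · rw [hx0, smul_smul, smul_smul, smul_smul, ← add_zsmul]
      congr 1; ring
    · rw [hx1, smul_smul, smul_smul, smul_smul, ← add_zsmul, ← sub_eq_zero, sub_eq_add_neg, ← sub_zsmul,
        show M i1 i0 * β + M i1 i1 * ((q : ℤ) - M i0 i0) - (q : ℤ) * ((q : ℤ) - M i0 i0) = -(N : ℤ) by
          linear_combination -hMq, neg_zsmul, hNu, neg_zero]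
  have hordχ : addOrderOf χ = N := by
    rw [← hu]
    refine addOrderOf_eq_addOrderOf_iff.2 fun k => ⟨fun h0 => ?_, fun h0 => funext fun i => ?_⟩
    · have h1 := congrFun h0 i0
      rw [Pi.smul_apply, hχ] at h1
      simp only [if_true, Pi.zero_apply] at h1
      rcases hβ with hb | hb <;> rw [hb] at h1 <;> simpa using h1
    · rw [Pi.smul_apply, hχ]
      simp only
      split <;> exact (map_nsmul (zsmulAddGroupHom (α := Additive Kˣ) _) k u).symm.trans (by rw [h0, map_zero]; rfl)
  -- descent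
  obtain ⟨χ'', e1, e2⟩ := conj_tor C smithG2 X supp n (q • χ)
  have hχ'' : χ'' = χ := by
    funext i
    have hi := X.img_lt w⁻¹ (X.simple_lt i.isLt)
    have h6 := e2 _ hi
    rw [show (ChevCoxTorus68.sysK C X supp).toW n = w from rfl, X.img_img_inv, ev_simple, ← hχq,
      act_Pm, ev_wact C X w χ hi, X.img_img_inv, ev_simple] at h6
    exact h6
  rw [hχ'', ← hn'] at e1
  set z := g⁻¹ * tor smithG2 χ * g with hz
  have hzG : z ∈ chevG2.group K :=
    mul_mem (mul_mem (inv_mem hg) ((S (K := K)).H_le_group (tr_mem χ))) hg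
  have hzfix : ψ z = z := by
    rw [hz, map_mul, map_mul, map_inv, hψtor, ← e1]
    group
  have hfg := ChevFieldAut77.fixed_mem C (S (K := K)) σ
    (ChevFieldAut77.torus_injective smithG2 C) hzG hzfix
  have key : ∀ a ∈ ChevFieldAut77.fixGen (S (K := K)) σ, ∃ y ∈ chevG2.group F, mp y = a := by
    intro a ha
    induction ha using Subgroup.closure_induction with
    | mem a ha =>
      obtain ⟨r, t, hr, ht, rfl⟩ := ha
      rw [hσ] at ht
      obtain ⟨t₀, rfl⟩ := ChevCoxTorus68.mem_range_of_pow_card ι ht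
      refine ⟨xg C r t₀, (S (K := F)).xg_mem_group hr t₀, Units.ext ?_⟩
      rw [ChevFieldAut77.coe_map, ChevalleyCore.coe_xg]
      exact (ChevFieldAut77.map_x C ι hr t₀).trans ((S (K := K)).coe_xg r (ι t₀)).symm
    | one => exact ⟨1, one_mem _, map_one mp⟩
    | mul a b _ _ ha hb =>
      obtain ⟨y, hy, rfl⟩ := ha
      obtain ⟨z, hz, rfl⟩ := hb
      exact ⟨y * z, mul_mem hy hz, map_mul mp y z⟩
    | inv a _ ha =>
      obtain ⟨y, hy, rfl⟩ := ha
      exact ⟨y⁻¹, inv_mem hy, map_inv mp y⟩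
  obtain ⟨y, hy, hye⟩ := key _ hfg
  refine ⟨y, hy, ?_⟩
  rw [← orderOf_injective mp hmp y, hye, hz, ← hordχ, ← orderOf_tor]
  refine Eq.trans ?_ (orderOf_injective (MulAut.conj g⁻¹).toMonoidHom (MulAut.conj g⁻¹).injective (tor smithG2 χ))
  congr 1

end Cfsg.Agent.G2EvenOrders68
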