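import Cfsg.Agent.Lib.ChevCoxTorus68
import Cfsg.Agent.Lib.ChevSylowTorus68
import Cfsg.Agent.Lib.ChevalleyDataG2

/-!
The twelve elements of the Weyl group of type G2 as integer matrices, and the zero sets of torus
characters whose values have no two-torsion.
-/

set_option autoImplicit false

namespace Cfsg.Agent.G2EvenWeyl68

open Cfsg.Lie Cfsg.Agent.ChevWeyl Cfsg.Agent.ChevRootCoord68
open Cfsg.Agent.ChevCoxTorus68 (Pm act_Pm Pm_pow)
open Cfsg.Agent.ChevSylowTorus68 (Pm_mul coefZ vecMul_coefZ)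
open Cfsg.Agent.ChevalleyTorusCard (act act_mul act_add act_one)

/-- the certificate -/
abbrev C := ChevalleyDataG2.cert

/-- the Weyl group -/
noncomputable abbrev X : Weyl chevG2 := ChevWeylData.g2

/-- two by two integer matrices -/
abbrev M2 : Type := Matrix (Fin chevG2.rank) (Fin chevG2.rank) ℤ

/-- the reflection at the short fundamental root -/
def S0 : M2 := !![-1, 0; 3, 1]

/-- the reflection at the long fundamental root -/
def S1 : M2 := !![1, 1; 0, -1]

/-- the reflection at a fundamental root -/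
def Sref (i : Fin chevG2.rank) : M2 := if i.val = 0 then S0 else S1

/-- the Weyl group -/
def Ws : List M2 :=
  [1, S0, S1, S0 * S1, S1 * S0, S0 * S1 * S0, S1 * S0 * S1, S0 * S1 * S0 * S1, S1 * S0 * S1 * S0,
    S0 * S1 * S0 * S1 * S0, S1 * S0 * S1 * S0 * S1, S0 * S1 * S0 * S1 * S0 * S1]

theorem Pm_one : Pm C X 1 = 1 := by
  simpa using Pm_pow C X 1 0

set_option synthInstance.maxSize 2000 in
theorem sref_coef : ∀ p : Fin chevG2.rank × Fin chevG2.rank × Fin chevG2.rank,
    Sref p.1 p.2.1 p.2.2 = C.coef (chevG2.reflectRoot p.1.val (chevG2.simple p.2.1.val)) p.2.2.val := by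
  decide +kernel

theorem Pm_simple (i : Fin chevG2.rank) : Pm C X (X.C.simple i) = Sref i := by
  ext j k
  rw [Pm, Matrix.of_apply, X.img_simple i (X.simple_lt j.isLt), ← sref_coef (i, j, k)]

theorem Ws_mul : ∀ M ∈ Ws, M * S0 ∈ Ws ∧ M * S1 ∈ Ws := by decide +kernel

theorem Pm_mem (w : X.W) : Pm C X w ∈ Ws := by
  induction w using X.w_induction with
  | one => rw [Pm_one]; exact List.mem_cons_self
  | step i w ih =>
    rw [Pm_mul, Pm_simple]
    obtain ⟨h0, h1⟩ := Ws_mul _ ih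
    unfold Sref
    split
    · exact h0
    · exact h1

theorem Pm_eq_one {w : X.W} (h : Pm C X w = 1) : w = 1 := by
  have hfix : ∀ r, r < chevG2.nroots → X.img w r = r := fun r hr => by
    have h1 := vecMul_coefZ C X w hr
    rw [h, Matrix.vecMul_one] at h1
    exact ChevalleyRoots.coef_inj C (X.img_lt w hr) hr fun j hj => (congrFun h1 ⟨j, hj⟩).symm
  refine X.inv_eq_zero_iff.mp (Finset.card_eq_zero.2 (Finset.eq_empty_of_forall_notMem fun r hr => ?_))
  obtain ⟨hr1, hr2⟩ := X.mem_invSet.1 hr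
  rw [hfix r hr1.1] at hr2
  exact X.not_pos_and_neg hr1 hr2

theorem Pm_inj {v w : X.W} (h : Pm C X v = Pm C X w) : v = w := by
  rw [← inv_mul_eq_one]
  apply Pm_eq_one
  rw [Pm_mul, ← h, ← Pm_mul, inv_mul_cancel, Pm_one]

theorem Ws_quad : ∀ M ∈ Ws, M * M = 1 ∨ M * M + M + 1 = 0 ∨ M * M - M + 1 = 0 := by decide +kernel

theorem Ws_stab : ∀ i : Fin chevG2.rank, ∀ M ∈ Ws,
    ((∀ k, M i k = if k = i then 1 else 0) ∨ (∀ k, M i k = if k = i then -1 else 0)) →
      M = 1 ∨ M = Sref i ∨ M = -1 ∨ M = -Sref i := by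
  decide +kernel

/-- the first fundamental root index -/
def i0 : Fin chevG2.rank := ⟨0, by decide⟩

/-- the second fundamental root index -/
def i1 : Fin chevG2.rank := ⟨1, by decide⟩

theorem fin_cases2 (j : Fin chevG2.rank) : j = i0 ∨ j = i1 := by
  revert j; decide

theorem Ws_six : ∀ M ∈ Ws, (3 : ℤ) ∣ M i0 i0 - 1 →
    M ∈ [1, S1, S0 * S1 * S0, S1 * (S0 * S1 * S0), (S0 * S1 * S0) * S1,
      (S0 * S1 * S0) * S1 * (S0 * S1 * S0)] := by
  decide +kernel

/-- the determinant of two roots -/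
def det2 (r s : ℕ) : ℤ := C.coef r 0 * C.coef s 1 - C.coef r 1 * C.coef s 0

theorem det2_cases : ∀ r s : Fin chevG2.nroots, s = r ∨ s.val = chevG2.neg r.val ∨
    det2 r.val s.val ∈ [1, -1, 2, -2] ∨
      (det2 r.val s.val ∈ [3, -3] ∧ (3 : ℤ) ∣ C.coef r.val 0 ∧ C.coef r.val 1 ∈ [1, -1, 2, -2]) := by
  decide +kernel

section Zero

variable {M : Type*} [AddCommGroup M]

theorem ev_two (χ : Fin chevG2.rank → M) (r : ℕ) :
    ev C χ r = C.coef r 0 • χ i0 + C.coef r 1 • χ i1 :=
  Fin.sum_univ_two (fun j : Fin 2 => C.coef r j.val • χ j)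

theorem eq_zero_of_small (h2 : ∀ z : M, (2 : ℕ) • z = 0 → z = 0) {d : ℤ} (hd : d ∈ [1, -1, 2, -2])
    {z : M} (hz : d • z = 0) : z = 0 := by
  have h : ∀ z : M, (2 : ℤ) • z = 0 → z = 0 := fun z hz => h2 z (by rwa [← natCast_zsmul])
  simp only [List.mem_cons, List.not_mem_nil, or_false] at hd
  rcases hd with rfl | rfl | rfl | rfl
  · simpa using hz
  · simpa using hz
  · exact h z hz
  · exact h z (by rwa [neg_zsmul, neg_eq_zero] at hz)

theorem zero_cases (h2 : ∀ z : M, (2 : ℕ) • z = 0 → z = 0) {χ : Fin chevG2.rank → M} (hχ : χ ≠ 0) :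
    (∀ r, r < chevG2.nroots → ev C χ r ≠ 0) ∨
    (∃ r, r < chevG2.nroots ∧ ev C χ r = 0 ∧
      ∀ s, s < chevG2.nroots → ev C χ s = 0 → s = r ∨ s = chevG2.neg r) ∨
    (χ i1 = 0 ∧ χ i0 ≠ 0 ∧ (3 : ℕ) • χ i0 = 0) := by
  classical
  by_cases h : ∀ r, r < chevG2.nroots → ev C χ r ≠ 0
  · exact Or.inl h
  push Not at h
  obtain ⟨r, hr, hr0⟩ := h
  by_cases hall : ∀ s, s < chevG2.nroots → ev C χ s = 0 → s = r ∨ s = chevG2.neg r
  · exact Or.inr (Or.inl ⟨r, hr, hr0, hall⟩)
  push Not at hall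
  obtain ⟨s, hs, hs0, hsr, hsn⟩ := hall
  have e0 : det2 r s • χ i0 = C.coef s 1 • ev C χ r - C.coef r 1 • ev C χ s := by
    rw [ev_two, ev_two, det2]; module
  have e1 : det2 r s • χ i1 = C.coef r 0 • ev C χ s - C.coef s 0 • ev C χ r := by
    rw [ev_two, ev_two, det2]; module
  rw [hr0, hs0, smul_zero, smul_zero, sub_zero] at e0 e1
  have hboth : χ i0 = 0 → χ i1 = 0 → False := fun h0 h1 => hχ (funext fun j => by
    rcases fin_cases2 j with rfl | rfl <;> assumption)
  rcases det2_cases ⟨r, hr⟩ ⟨s, hs⟩ with h | h | h | ⟨h, h30, h31⟩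
  · exact absurd (congrArg Fin.val h) hsr
  · exact absurd h hsn
  · exact absurd (eq_zero_of_small h2 h e1) (fun h1 => hboth (eq_zero_of_small h2 h e0) h1)
  · have h3 : ∀ z : M, det2 r s • z = 0 → (3 : ℤ) • z = 0 := by
      intro z hz
      simp only [List.mem_cons, List.not_mem_nil, or_false] at h
      rcases h with h | h <;> rw [h] at hz
      · exact hz
      · simpa using hz
    have h10 := h3 _ e0
    obtain ⟨a, ha⟩ := h30
    change C.coef r 0 = 3 * a at ha
    have h1 : χ i1 = 0 := by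
      refine eq_zero_of_small h2 h31 ?_
      have := hr0
      rw [ev_two, ha, mul_comm, mul_smul, h10, smul_zero, zero_add] at this
      exact this
    exact Or.inr (Or.inr ⟨h1, fun h0 => hboth h0 h1, by rwa [← natCast_zsmul]⟩)

theorem act_quad (P : M2) (hP : P ∈ Ws) (q : ℕ) {χ : Fin chevG2.rank → M}
    (h : act P χ = q • χ) :
    ((q : ℤ) ^ 2 - 1) • χ = 0 ∨ ((q : ℤ) ^ 2 + q + 1) • χ = 0 ∨ ((q : ℤ) ^ 2 - q + 1) • χ = 0 := by
  have h' : act P χ = (q : ℤ) • χ := by rw [h, natCast_zsmul]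
  have hsq : act (P * P) χ = ((q : ℤ) ^ 2) • χ := by
    have hlin : act P ((q : ℤ) • χ) = (q : ℤ) • act P χ := by
      funext j
      simp only [act, Pi.smul_apply, Finset.smul_sum]
      exact Finset.sum_congr rfl fun k _ => smul_comm _ _ _
    rw [act_mul, h', hlin, h', sq, mul_smul]
  have hadd : ∀ A B : M2, act (A + B) χ = act A χ + act B χ := fun A B => act_add A B χ
  have hneg : act (-P) χ = -((q : ℤ) • χ) := by
    rw [← h']; funext j; simp [act, neg_smul]
  rcases Ws_quad P hP with e | e | e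
  · left
    rw [e, act_one] at hsq
    rw [sub_smul, ← hsq, one_smul, sub_self]
  · right; left
    have := congrArg (fun A : M2 => act A χ) e
    simp only [hadd, hsq, h', act_one] at this
    rw [add_smul, add_smul, one_smul, this]
    funext j; simp [act]
  · right; right
    have := congrArg (fun A : M2 => act A χ) e
    simp only [sub_eq_add_neg, hadd, hsq, hneg, act_one] at this
    rw [add_smul, sub_smul, one_smul, sub_eq_add_neg, this]
    funext j; simp [act]

end Zero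

end Cfsg.Agent.G2EvenWeyl68
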