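import Mathlib
import Cfsg.Agent.Lib.StMultSmall
import Cfsg.Agent.Lib.StGroupTorus
import Cfsg.Agent.Lib.SchurMultiplierBasic
import Cfsg.Agent.Lib.ChevalleyDataG2

/-!
Kernels of stem extensions of `G₂(3)` have order dividing three.

The only pairs of roots whose relation is not forced to lift are the orthogonal long-short pairs; they form one
orbit of the Weyl group, so all error terms are powers of one central element of order three.
-/

set_option autoImplicit false
set_option linter.unusedSectionVars false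
set_option maxRecDepth 100000

namespace Cfsg.Agent.G2ThreeBound60

open scoped commutatorElement
open Cfsg.Lie Cfsg.Agent.ChevalleyCert Cfsg.Agent.ChevalleyRoots Cfsg.Agent.ChevalleyCheck
open Cfsg.Agent.ChevalleyCheckSound Cfsg.Agent.StBasic Cfsg.Agent.StClosedGen Cfsg.Agent.StLifts
open Cfsg.Agent.StSepData Cfsg.Agent.StThree Cfsg.Agent.ChevalleyTorus

universe u

/-- images of the pair `(11, 4)` under the Weyl group -/
def orbit : List (ℕ × ℕ × List ℕ) :=
  [(11, 4, []), (11, 7, [0]), (10, 3, [1]), (10, 8, [1, 0]), (6, 2, [0, 1]), (6, 9, [0, 1, 0]),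
    (5, 2, [1, 0, 1]), (5, 9, [1, 0, 1, 0]), (1, 3, [0, 1, 0, 1]), (1, 8, [0, 1, 0, 1, 0]),
    (0, 4, [1, 0, 1, 0, 1]), (0, 7, [1, 0, 1, 0, 1, 0])]

/-- the cocharacters used for separation -/
def E : List (List ℤ) := [[1, 0], [0, 1], [1, 1], [1, 2], [1, 3]]

/-- the pair is separated, or in the orbit of `(11, 4)` up to order -/
def pairB (r s : ℕ) : Bool :=
  sepB chevG2 ChevalleyDataG2.tables [1, 3] E r s ||
    (zeroWord chevG2 r s && orbit.any fun q =>
      (Nat.beq q.1 r && Nat.beq q.2.1 s) || (Nat.beq q.1 s && Nat.beq q.2.1 r))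

/-- the whole check -/
def chk : Bool :=
  (List.range chevG2.nroots).all fun r =>
    ((List.range chevG2.rank).any fun j => absIn [1, 3] (cartT ChevalleyDataG2.tables j r)) &&
      (List.range chevG2.nroots).all fun s => Nat.beq s r || Nat.beq s (negA chevG2 r) || pairB r s

theorem chk_ok : chk = true := by decide +kernel

theorem orbit_ok : ∀ q ∈ orbit, (∀ i ∈ q.2.2, i < chevG2.rank) ∧
    wact (D := chevG2) q.2.2 11 = q.1 ∧ wact (D := chevG2) q.2.2 4 = q.2.1 := by
  decide +kernel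

variable {F : Type*} [Field F] {P : Type*} [Group P] {S : Sys ChevalleyDataG2.cert F P}
variable {Γ : Type*} [Group Γ] {π : Γ →* P}

theorem base_comm (h3 : (3 : F) = 0) (t u : F) : Commute (S.x 11 t) (S.x 4 u) :=
  comm_of_zeroWord ChevalleyDataG2.cert h3 (by decide) (by decide +kernel) t u

/-- the bracket of lifts of the base pair -/
theorem base_bracket (hπ : Function.Surjective π) (hc : π.ker ≤ Subgroup.center Γ) (h3 : (3 : F) = 0)
    (hprime : ∀ a : F, ∃ k : ℕ, a = k) :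
    ∃ c : Γ, π c = 1 ∧ c ^ 3 = 1 ∧ ∀ t u : F, ∀ g g' : Γ, π g = S.x 11 t → π g' = S.x 4 u →
      ⁅g, g'⁆ ∈ Subgroup.zpowers c := by
  obtain ⟨a, ha⟩ := hπ (S.x 11 1)
  obtain ⟨b, hb⟩ := hπ (S.x 4 1)
  have hn : ∀ (r : ℕ) (_ : r < chevG2.nroots) (g : Γ), π g = S.x r 1 → ∀ k : ℕ, π (g ^ k) = S.x r (k : F) := by
    intro r hr g hg k
    induction k with
    | zero => rw [pow_zero, map_one, Nat.cast_zero, x_zero S hr]
    | succ k ih => rw [pow_succ, map_mul, ih, hg, S.x_add r hr, Nat.cast_succ]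
  have ha' := hn 11 (by decide) a ha
  have hb' := hn 4 (by decide) b hb
  have hab : ∀ k m : ℕ, Commute (π (a ^ k)) (π (b ^ m)) := fun k m => by
    rw [ha', hb']; exact base_comm h3 _ _
  have hl : ∀ k m : ℕ, ⁅a ^ k, b ^ m⁆ = ⁅a, b ^ m⁆ ^ k := by
    intro k m
    induction k with
    | zero => simp
    | succ k ih =>
      rw [pow_succ a, StemPairing.bracket_mul_left hc (by simpa using hab 1 m), ih, pow_succ]
  have hr : ∀ m : ℕ, ⁅a, b ^ m⁆ = ⁅a, b⁆ ^ m := by
    intro m
    induction m with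
    | zero => simp
    | succ m ih => rw [pow_succ b, StemPairing.bracket_mul_right hc (by simpa using hab 1 1), ih, pow_succ]
  refine ⟨⁅a, b⁆, StemPairing.bracket_mem_ker (by simpa using hab 1 1), ?_, ?_⟩
  · rw [← hr]
    have : π (b ^ 3) = π 1 := by rw [hb', map_one, Nat.cast_ofNat, h3, x_zero S (by decide)]
    rw [StemPairing.bracket_congr hc (a := a) (a' := a) rfl this, commutatorElement_one_right]
  · intro t u g g' hg hg'
    obtain ⟨k, rfl⟩ := hprime t
    obtain ⟨m, rfl⟩ := hprime u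
    rw [StemPairing.bracket_congr hc (hg.trans (ha' k).symm) (hg'.trans (hb' m).symm), hl, hr, ← pow_mul]
    exact ⟨(m * k : ℕ), zpow_natCast _ _⟩

/-- the brackets of all orbit pairs are powers of the same element -/
theorem orbit_bracket (hπ : Function.Surjective π) (hc : π.ker ≤ Subgroup.center Γ) (h3 : (3 : F) = 0)
    {c : Γ} (hb : ∀ t u : F, ∀ g g' : Γ, π g = S.x 11 t → π g' = S.x 4 u → ⁅g, g'⁆ ∈ Subgroup.zpowers c)
    {q : ℕ × ℕ × List ℕ} (hq : q ∈ orbit) :
    ∀ t u : F, ∀ g g' : Γ, π g = S.x q.1 t → π g' = S.x q.2.1 u → ⁅g, g'⁆ ∈ Subgroup.zpowers c := by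
  intro t u g g' hg hg'
  obtain ⟨hl, e1, e2⟩ := orbit_ok q hq
  obtain ⟨e, he, h⟩ := StBruhat.nw_conj S StGen.gen_G2 hl (r := 11) (by decide)
  obtain ⟨f, hf, h'⟩ := StBruhat.nw_conj S StGen.gen_G2 hl (r := 4) (by decide)
  obtain ⟨y, hy⟩ := hπ (StBruhat.nw S q.2.2)
  obtain ⟨k, hk⟩ := hπ (S.x 11 (e * t))
  obtain ⟨k', hk'⟩ := hπ (S.x 4 (f * u))
  have h1 : π (y * k * y⁻¹) = π g := by
    rw [map_mul, map_mul, map_inv, hy, hk, (h _).1, hg, e1, ← mul_assoc, he, one_mul]
  have h2 : π (y * k' * y⁻¹) = π g' := by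
    rw [map_mul, map_mul, map_inv, hy, hk', (h' _).1, hg', e2, ← mul_assoc, hf, one_mul]
  rw [StemPairing.bracket_conj hc y (by rw [hk, hk']; exact base_comm h3 _ _) h1 h2]
  exact hb _ _ k k' hk hk'

/-- Steinberg's relations lift once the orbit pairs commute -/
theorem lift_defect (hπ : Function.Surjective π) (hc : π.ker ≤ Subgroup.center Γ) (h3 : (3 : F) = 0)
    (h2 : (2 : F) ≠ 0) (hprime : ∀ a : F, ∃ k : ℕ, a = k) (hT : TorusOK S π) (hk : π.ker ≤ commutator Γ)
    (hcp : ∀ q ∈ orbit, CommPair S π q.1 q.2.1) :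
    ∃ U : Sys ChevalleyDataG2.cert F Γ, U.θ = S.θ.comp π ∧
      ∀ r, r < chevG2.nroots → ∀ t : F, π (U.x r t) = S.x r t := by
  have hF := ChevalleyDataG2.fast
  have hc0 : (-1 : F) ≠ 0 := neg_ne_zero.2 one_ne_zero
  have hks : ∀ k ∈ [1, 3], (-1 : F) ^ k ≠ 1 := by
    intro k hk' e
    simp only [List.mem_cons, List.not_mem_nil, or_false] at hk'
    rcases hk' with rfl | rfl <;> exact h2 (by linear_combination -e)
  have hchk := chk_ok
  have hL : ∀ r, r < chevG2.nroots → LiftAt S π r := by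
    intro r hr
    have h := (Bool.and_eq_true _ _ ▸ allR hchk hr).1
    simp only [List.any_eq_true, List.mem_range] at h
    obtain ⟨j, hj, h⟩ := h
    rw [cartT_of_fast hF hj hr] at h
    exact liftAt_of_torus hπ hc StGen.gen_G2 hr hj hc0 (ne_one_of_absIn hks h)
      hT (commPair_self_prime hπ hc hr hprime)
  obtain ⟨X⟩ := exists_lifts hL
  refine lift_sys X hπ hc (pairs_of X ?_) hk
  intro r s hr hs h1 h2'
  have h := allR (Bool.and_eq_true _ _ ▸ allR hchk hr).2 hs
  rw [negA, ← ChevalleyDataG2.cert.neg_eq r hr] at h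
  simp only [Bool.or_eq_true, Nat.beq_eq, h1, h2', false_or, pairB, Bool.and_eq_true, List.any_eq_true] at h
  rcases h with h | ⟨hz, q, hq, hqe⟩
  · exact Or.inl (sep_of_sepB hF hc0 hks hr hs h)
  · refine Or.inr ⟨(word_zero ChevalleyDataG2.cert h3 hs hz).2.2.2, ?_⟩
    rcases hqe with ⟨e1, e2⟩ | ⟨e1, e2⟩
    · rw [← e1, ← e2]; exact hcp q hq
    · rw [← e1, ← e2]; exact commPair_symm (hcp q hq)

/-- upper bound for the Steinberg group -/
theorem st_upper {K : Type u} [Field K] [Fintype K] (hK : Fintype.card K = 3) {Γ : Type u} [Group Γ]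
    (π : Γ →* chevG2.SteinbergGroup K) (hπ : Cfsg.IsStemExtension π) :
    ∃ c : Γ, π c = 1 ∧ c ^ 3 = 1 ∧ ∀ z, π z = 1 → z ∈ Subgroup.zpowers c := by
  obtain ⟨h3, h2, hprime⟩ := StMultSmall.three_data K hK
  obtain ⟨hs, hcen, hk⟩ := hπ
  set S := StGroup.sysSt ChevalleyDataG2.cert K
  obtain ⟨c, hc1, hc3, hb⟩ := base_bracket (S := S) hs hcen h3 hprime
  refine ⟨c, hc1, hc3, ?_⟩
  set Z := Subgroup.zpowers c
  have hZk : Z ≤ π.ker := Subgroup.zpowers_le.2 hc1
  haveI : Z.Normal := ⟨fun n hn g => by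
    rw [StemBasic.ker_comm hcen (hZk hn) g, mul_inv_cancel_right]; exact hn⟩
  let π' : Γ ⧸ Z →* chevG2.SteinbergGroup K := QuotientGroup.lift Z π hZk
  have hs' : Function.Surjective π' := fun g => by
    obtain ⟨x, rfl⟩ := hs g
    exact ⟨QuotientGroup.mk x, rfl⟩
  have hcen' : π'.ker ≤ Subgroup.center (Γ ⧸ Z) := by
    intro w hw
    obtain ⟨x, rfl⟩ := QuotientGroup.mk_surjective w
    refine Subgroup.mem_center_iff.2 fun v => ?_
    obtain ⟨y, rfl⟩ := QuotientGroup.mk_surjective v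
    exact congrArg QuotientGroup.mk (StemBasic.ker_comm hcen hw y)
  have hk' : π'.ker ≤ commutator (Γ ⧸ Z) := by
    intro w hw
    obtain ⟨x, rfl⟩ := QuotientGroup.mk_surjective w
    have : QuotientGroup.mk' Z x ∈ (commutator Γ).map (QuotientGroup.mk' Z) := ⟨x, hk hw, rfl⟩
    rw [_root_.commutator_def, Subgroup.map_commutator,
      Subgroup.map_top_of_surjective _ (QuotientGroup.mk'_surjective Z), ← _root_.commutator_def] at this
    exact this
  have hcp : ∀ q ∈ orbit, CommPair S π' q.1 q.2.1 := by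
    intro q hq t u w w' hw hw'
    obtain ⟨g, rfl⟩ := QuotientGroup.mk_surjective w
    obtain ⟨g', rfl⟩ := QuotientGroup.mk_surjective w'
    have hm := orbit_bracket hs hcen h3 hb hq t u g g' hw hw'
    rw [← commutatorElement_eq_one_iff_commute]
    have : ⁅QuotientGroup.mk' Z g, QuotientGroup.mk' Z g'⁆ = 1 := by
      rw [← map_commutatorElement]; exact (QuotientGroup.eq_one_iff _).2 hm
    exact this
  obtain ⟨T, -, hTx⟩ := lift_defect (S := S) hs' hcen' h3 h2 hprime
    (StMultSmall.torus_comm ChevalleyDataG2.cert K StGen.gen_G2 hcen') hk' hcp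
  have hbot := StCentral.ker_eq_bot_of_sys ChevalleyDataG2.cert K (StGroup.relsAB_subset K) subset_rfl
    StGen.gen_G2 π' T hTx
  intro z hz
  have : (QuotientGroup.mk z : Γ ⧸ Z) ∈ π'.ker := hz
  rw [hbot, Subgroup.mem_bot] at this
  exact (QuotientGroup.eq_one_iff _).1 this

/-- the Chevalley group is the Steinberg group -/
theorem proj_bijective {K : Type u} [Field K] [Finite K] :
    Function.Bijective (StCentral.proj ChevalleyDataG2.cert K (StGroup.relsAB_subset (D := chevG2) K) subset_rfl) := by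
  refine ⟨?_, StCentral.proj_surjective _ K _ _⟩
  rw [← MonoidHom.ker_eq_bot_iff, StCentral.ker_proj]
  exact StTorus.ker_eq_bot (StGroup.sysSt ChevalleyDataG2.cert K) StGen.gen_G2
    (StGroupTorus.hMul_st ChevalleyDataG2.cert K)
    (StGroupTorus.torus_ker_bot ChevalleyDataG2.cert K ChevalleyTorusCard.smithG2)

/-- kernels of stem extensions of `G₂(3)` are images of `Z/3` -/
theorem upper {F : Type u} [Field F] [Fintype F] (hF : Fintype.card F = 3) {Γ : Type u} [Group Γ]
    (σ : Γ →* ↥(chevG2.group F)) (hσ : Cfsg.IsStemExtension σ) :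
    ∃ π : Multiplicative (ZMod 3) →* σ.ker, Function.Surjective π := by
  let e := MulEquiv.ofBijective _ (proj_bijective (K := F))
  let τ : Γ →* chevG2.SteinbergGroup F := e.symm.toMonoidHom.comp σ
  have hk : ∀ x, τ x = 1 ↔ σ x = 1 := fun x => e.symm.map_eq_one_iff
  have hker : τ.ker = σ.ker := by ext x; exact hk x
  have hτ : Cfsg.IsStemExtension τ :=
    ⟨e.symm.surjective.comp hσ.1, hker ▸ hσ.2.1, hker ▸ hσ.2.2⟩
  obtain ⟨c, hc1, hc3, hall⟩ := st_upper hF τ hτ
  refine Cfsg.Agent.SchurMultiplierBasic.exists_surjective_zmod 3 (⟨c, (hk c).1 hc1⟩ : σ.ker)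
    (Subtype.ext (by simpa using hc3)) fun y => ?_
  obtain ⟨k, hk'⟩ := hall y.1 ((hk y.1).2 y.2)
  exact ⟨k, Subtype.ext (by simpa using hk')⟩

end Cfsg.Agent.G2ThreeBound60
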