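import Mathlib
import Cfsg.Agent.Lib.StMultSmall
import Cfsg.Agent.Lib.StGroupTorus
import Cfsg.Agent.Lib.SchurMultiplierBasic
import Cfsg.Agent.Lib.ChevalleyDataG2
import Cfsg.Agent.Lib.G2ThreeBound60

/-!
Kernels of stem extensions of the group of type G2 over the field with four elements have order at most two.

All error terms are powers of the commutator of the lifts of two elements of a short root group. Modulo it,
every long root element is a commutator of two short ones, which gives the relations that the torus does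
not separate.
-/

set_option autoImplicit false
set_option linter.unusedSectionVars false
set_option linter.style.haveILetI false
set_option maxRecDepth 100000

namespace Cfsg.Agent.G2FourBound16

open scoped commutatorElement
open Cfsg.Lie Cfsg.Agent.ChevalleyCert Cfsg.Agent.ChevalleyRoots Cfsg.Agent.ChevalleyCheck
open Cfsg.Agent.ChevalleyCheckSound Cfsg.Agent.StBasic Cfsg.Agent.StClosedGen Cfsg.Agent.StLifts
open Cfsg.Agent.StSepData Cfsg.Agent.ChevalleyTorus Cfsg.Agent.ChevalleyCore

universe u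

/-- the cocharacters used for separation -/
def E : List (List ℤ) := [[1, 0], [0, 1], [1, 1], [1, 2]]

/-- the short roots with a Weyl word from the first fundamental root -/
def short : List (ℕ × List ℕ) := [(7, []), (4, [0]), (8, [1]), (9, [0, 1]), (3, [1, 0]), (2, [0, 1, 0])]

/-- long roots as sums of two short roots -/
def long : List (ℕ × ℕ × ℕ) := [(0, 2, 3), (1, 2, 4), (5, 3, 7), (6, 4, 8), (10, 7, 9), (11, 8, 9)]

/-- long roots `r, s` with sum `q`, short `m + n = s`, and `p = r + m` with `p + n = q` -/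
def table : List (ℕ × ℕ × ℕ × ℕ × ℕ × ℕ) :=
  [(0, 6, 1, 8, 4, 2), (0, 10, 5, 9, 7, 3), (1, 5, 0, 7, 3, 2), (1, 11, 6, 9, 8, 4), (5, 1, 0, 4, 2, 3),
    (5, 11, 10, 8, 9, 7), (6, 0, 1, 3, 2, 4), (6, 10, 11, 7, 9, 8), (10, 0, 5, 2, 3, 7), (10, 6, 11, 4, 8, 9),
    (11, 1, 6, 2, 4, 8), (11, 5, 10, 3, 7, 9)]

theorem short_ok : ∀ w ∈ short, (∀ i ∈ w.2, i < chevG2.rank) ∧ wact (D := chevG2) w.2 7 = w.1 := by
  decide +kernel

/-- commuting root elements with zero word which the torus separates -/
def sepZero (r s : ℕ) : Bool :=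
  Nat.blt r 12 && Nat.blt s 12 && !Nat.beq s r && !Nat.beq s (negA chevG2 r) &&
    ((chevG2.commTerms r s).all fun c => zeroB true c.2.1) &&
    sepB chevG2 ChevalleyDataG2.tables [1, 2] E r s

/-- the word of the pair is a single bilinear term -/
def single (r s q : ℕ) : Bool :=
  Nat.blt r 12 && Nat.blt s 12 && Nat.blt q 12 && !Nat.beq s r && !Nat.beq s (negA chevG2 r) &&
    match chevG2.commTerms r s with
    | [c] => Nat.beq c.1 q && decide (c.2.1 % 2 = 1) && Nat.beq c.2.2.1 1 && Nat.beq c.2.2.2 1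
    | _ => false

/-- a short root -/
def isShort (r : ℕ) : Bool := short.any fun w => Nat.beq w.1 r

/-- the long root `r` is the sum of two short roots commuting with `x_s` -/
def viaB (r s : ℕ) : Bool :=
  Nat.blt s 12 && long.any fun w => Nat.beq w.1 r && single w.2.1 w.2.2 r &&
    sepZero w.2.1 s && sepZero w.2.2 s

/-- lifts of the pair commute -/
def cpB (r s : ℕ) : Bool := sepZero r s || sepZero s r || (Nat.beq r s && isShort r) || viaB r s

def rowB (w : ℕ × ℕ × ℕ × ℕ × ℕ × ℕ) : Bool :=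
  let (r, s, q, m, n, p) := w
  single r s q && single m n s && single p n q && sepB chevG2 ChevalleyDataG2.tables [1, 2] E m n &&
    sepB chevG2 ChevalleyDataG2.tables [1, 2] E p n && cpB s m && cpB s n && cpB q p && cpB q n && cpB q m &&
    cpB r n && cpB q s && !Nat.beq m r && !Nat.beq m (negA chevG2 r) && Nat.blt m 12 &&
    (chevG2.commTerms r m).all fun c => cpB q c.1 && (Nat.beq c.1 p || cpB c.1 n)

/-- every pair is separated, commutes, or is in the table -/
def pairB (r s : ℕ) : Bool :=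
  sepB chevG2 ChevalleyDataG2.tables [1, 2] E r s ||
    (((chevG2.commTerms r s).all fun c => zeroB true c.2.1) && cpB r s) ||
    table.any fun w => Nat.beq w.1 r && Nat.beq w.2.1 s && rowB w

/-- the whole check -/
def chk : Bool :=
  (List.range chevG2.nroots).all fun r =>
    ((List.range chevG2.rank).any fun j => absIn [1, 2] (cartT ChevalleyDataG2.tables j r)) && cpB r r &&
      (List.range chevG2.nroots).all fun s => Nat.beq s r || Nat.beq s (negA chevG2 r) || pairB r s

theorem chk_ok : chk = true := by decide +kernel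

theorem all_short : isShort 7 = true := by decide +kernel

variable {F : Type*} [Field F] {P : Type*} [Group P] {S : Sys ChevalleyDataG2.cert F P}
variable {Γ : Type*} [Group Γ] {π : Γ →* P}
variable (hπ : Function.Surjective π) (hc : π.ker ≤ Subgroup.center Γ) (h2 : (2 : F) = 0)

include h2 in
theorem zero_cast {k : ℤ} (hk : zeroB true k = true) : (k : F) = 0 := by
  simp only [zeroB, Bool.or_eq_true, Bool.true_and, decide_eq_true_eq] at hk
  rcases hk with rfl | hk
  · exact Int.cast_zero
  · obtain ⟨m, rfl⟩ := Int.dvd_of_emod_eq_zero hk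
    simp [h2]

include h2 in
theorem odd_cast {k : ℤ} (hk : k % 2 = 1) : (k : F) = 1 := by
  have h := Int.emod_add_mul_ediv k 2
  rw [hk] at h
  rw [← h]
  simp [h2]

include h2 in
/-- the relation of a pair with a single bilinear term -/
theorem single_comm {r s q : ℕ} (h : single r s q = true) :
    r < chevG2.nroots ∧ s < chevG2.nroots ∧ q < chevG2.nroots ∧ s ≠ r ∧ s ≠ chevG2.neg r ∧
      (∀ t u : F, (chevG2.commWord F r s t u) = [(q, -t * u)]) ∧
      ∀ t u : F, S.x s u * S.x r t = S.x r t * S.x s u * S.x q (-t * u) := by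
  simp only [single, Bool.and_eq_true, Bool.not_eq_true', Bool.eq_false_iff, ne_eq, Nat.beq_eq, Nat.blt_eq] at h
  obtain ⟨⟨⟨⟨⟨hr, hs⟩, hq⟩, h1⟩, h2'⟩, h⟩ := h
  rw [negA, ← ChevalleyDataG2.cert.neg_eq r hr] at h2'
  split at h
  · rename_i c hT
    simp only [Bool.and_eq_true, Nat.beq_eq, decide_eq_true_eq] at h
    obtain ⟨⟨⟨e1, e2⟩, e3⟩, e4⟩ := h
    have hW : ∀ t u : F, chevG2.commWord F r s t u = [(q, -t * u)] := fun t u => by
      simp [ChevalleyDatum.commWord, hT, e1, e3, e4, odd_cast h2 e2]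
    refine ⟨hr, hs, hq, h1, h2', hW, fun t u => ?_⟩
    rw [S.comm r s hr hs h1 h2' t u, hW]
    simp
  · exact absurd h Bool.false_ne_true

include h2 in
theorem single_bracket {r s q : ℕ} (h : single r s q = true)
    (hq : ∀ t v : F, Commute (S.x r t) (S.x q v) ∧ Commute (S.x s t) (S.x q v)) (t u : F) :
    ⁅S.x r t, S.x s u⁆ = S.x q (t * u) := by
  obtain ⟨hr, hs, hql, -, -, -, hrel⟩ := single_comm (S := S) h2 h
  have e := hrel t u
  have hinv : (S.x q (-t * u))⁻¹ = S.x q (t * u) := by rw [x_inv S hql, neg_mul, neg_neg]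
  calc ⁅S.x r t, S.x s u⁆ = (S.x r t * S.x s u) * (S.x s u * S.x r t)⁻¹ := by
        rw [commutatorElement_def, mul_inv_rev, ← mul_assoc]
    _ = (S.x r t * S.x s u) * (S.x q (-t * u))⁻¹ * (S.x r t * S.x s u)⁻¹ := by
        rw [e, mul_inv_rev, ← mul_assoc]
    _ = S.x q (t * u) := by
        rw [hinv, ((hq t (t * u)).1.mul_left (hq u (t * u)).2).eq, mul_assoc, mul_inv_cancel, mul_one]

variable {c : F} (hc0 : c ≠ 0) (hc2 : c ^ 2 ≠ 1)

include hc0 hc2 in
theorem hks : ∀ k ∈ [1, 2], c ^ k ≠ 1 := by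
  intro k hk
  simp only [List.mem_cons, List.not_mem_nil, or_false] at hk
  rcases hk with rfl | rfl
  · intro h
    rw [pow_one] at h
    exact hc2 (by rw [h, one_pow])
  · exact hc2

include hπ hc h2 hc0 hc2 in
theorem commPair_sepZero {r s : ℕ} (h : sepZero r s = true) : CommPair S π r s := by
  simp only [sepZero, Bool.and_eq_true, Bool.not_eq_true', Bool.eq_false_iff, ne_eq, Nat.beq_eq, Nat.blt_eq,
    List.all_eq_true] at h
  obtain ⟨⟨⟨⟨⟨hr, hs⟩, h1⟩, h2'⟩, hz⟩, hsep⟩ := h
  rw [negA, ← ChevalleyDataG2.cert.neg_eq r hr] at h2'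
  refine commPair_of_sep hπ hc StGen.gen_G2 hr hs (fun t u => ?_)
    (sep_of_sepB ChevalleyDataG2.fast hc0 (hks hc0 hc2) hr hs hsep)
  have e := S.comm r s hr hs h1 h2' t u
  rw [List.prod_eq_one, mul_one] at e
  · exact e.symm
  intro g hg
  simp only [ChevalleyDatum.commWord, List.map_map, List.mem_map] at hg
  obtain ⟨w, hw, rfl⟩ := hg
  simp only [Function.comp_apply, zero_cast h2 (hz w hw), zero_mul]
  exact x_zero S (commTerms_mem ChevalleyDataG2.cert hr hs hw).1

theorem commPair_symm' {r s : ℕ} (h : CommPair S π r s) : CommPair S π s r :=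
  fun t u g g' hg hg' => (h u t g' g hg' hg).symm

include hπ in
theorem commute_of_commPair {r s : ℕ} (h : CommPair S π r s) (t u : F) : Commute (S.x r t) (S.x s u) := by
  obtain ⟨a, ha⟩ := hπ (S.x r t)
  obtain ⟨b, hb⟩ := hπ (S.x s u)
  rw [← ha, ← hb]
  exact (h t u a b ha hb).map π

/-- long roots are brackets of short ones -/
theorem long_ok : ∀ w ∈ long, single w.2.1 w.2.2 w.1 = true ∧ sepZero w.2.1 w.1 = true ∧
    sepZero w.2.2 w.1 = true := by
  decide +kernel

include hπ hc h2 hc0 hc2 in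
theorem commPair_via {r s : ℕ} (h : viaB r s = true) : CommPair S π r s := by
  simp only [viaB, Bool.and_eq_true, List.any_eq_true, Nat.blt_eq, Nat.beq_eq] at h
  obtain ⟨-, w, hw, ⟨⟨e, h1⟩, hp⟩, hn⟩ := h
  subst e
  obtain ⟨-, hz1, hz2⟩ := long_ok w hw
  have cp := commPair_sepZero hπ hc h2 hc0 hc2 (S := S) hp
  have cn := commPair_sepZero hπ hc h2 hc0 hc2 (S := S) hn
  intro t u g g' hg hg'
  obtain ⟨a, ha⟩ := hπ (S.x w.2.1 t)
  obtain ⟨b, hb⟩ := hπ (S.x w.2.2 1)
  have e : π ⁅a, b⁆ = π g := by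
    rw [map_commutatorElement, ha, hb, hg, single_bracket h2 h1 ?_ t 1, mul_one]
    exact fun x v => ⟨commute_of_commPair hπ (commPair_sepZero hπ hc h2 hc0 hc2 hz1) x v,
      commute_of_commPair hπ (commPair_sepZero hπ hc h2 hc0 hc2 hz2) x v⟩
  have c1 := cp t u a g' ha hg'
  have c2 := cn 1 u b g' hb hg'
  have hcom : Commute ⁅a, b⁆ g' := by
    rw [commutatorElement_def]
    exact ((c1.mul_left c2).mul_left c1.inv_left).mul_left c2.inv_left
  rw [← commutatorElement_eq_one_iff_commute, StemPairing.bracket_congr hc (e.symm) rfl,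
    commutatorElement_eq_one_iff_commute]
  exact hcom

variable (hS : ∀ r, isShort r = true → CommPair S π r r)

include hπ hc h2 hc0 hc2 hS in
theorem commPair_cpB {r s : ℕ} (h : cpB r s = true) : CommPair S π r s := by
  simp only [cpB, Bool.or_eq_true, Bool.and_eq_true, Nat.beq_eq] at h
  rcases h with ((h | h) | ⟨rfl, h⟩) | h
  · exact commPair_sepZero hπ hc h2 hc0 hc2 h
  · exact commPair_symm' (commPair_sepZero hπ hc h2 hc0 hc2 h)
  · exact hS r h
  · exact commPair_via hπ hc h2 hc0 hc2 h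

variable (X : Lifts S π)

theorem x_comm {r s : ℕ} (hr : r < chevG2.nroots) (hs : s < chevG2.nroots) (h : CommPair S π r s) (t u : F) :
    Commute (X.x r t) (X.x s u) :=
  h t u _ _ (X.π_x r hr t) (X.π_x s hs u)

include hπ hc h2 hc0 hc2 in
/-- a separated pair with a single term: the bracket of the lifts is exact -/
theorem exact_single {r s q : ℕ} (h : single r s q = true)
    (hsep : sepB chevG2 ChevalleyDataG2.tables [1, 2] E r s = true) (hqr : CommPair S π q r)
    (hqs : CommPair S π q s) (t u : F) : ⁅X.x r t, X.x s u⁆ = X.x q (t * u) := by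
  obtain ⟨hr, hs, hq, h1, h2', hW, -⟩ := single_comm (S := S) h2 h
  have W_eq : ∀ t u, W X r s t u = X.x q (-t * u) := fun t u => by simp [W, hW]
  have cr : ∀ t u, Commute (X.x q t) (X.x r u) := x_comm X hq hr hqr
  have cs : ∀ t u, Commute (X.x q t) (X.x s u) := x_comm X hq hs hqs
  have ce : ∀ t u, ∀ g : Γ, g * err X r s t u = err X r s t u * g := fun t u =>
    StemBasic.ker_comm hc (π_err X hr hs h1 h2' t u)
  have hsp : ∀ t u, X.x s u * X.x r t = X.x r t * X.x s u * X.x q (-t * u) * err X r s t u := fun t u => by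
    rw [← W_eq]; exact err_spec X r s t u
  have addu : ∀ t u u', err X r s t (u + u') = err X r s t u * err X r s t u' := by
    intro t u u'
    have e : X.x r t * X.x s (u + u') * X.x q (-t * (u + u')) * err X r s t (u + u') =
        X.x r t * X.x s (u + u') * X.x q (-t * (u + u')) * (err X r s t u * err X r s t u') := by
      rw [← hsp]
      calc X.x s (u + u') * X.x r t = X.x s u * (X.x s u' * X.x r t) := by rw [← X.x_add s hs, mul_assoc]
        _ = X.x s u * X.x r t * X.x s u' * X.x q (-t * u') * err X r s t u' := by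
          rw [hsp t u']; simp only [mul_assoc]
        _ = X.x r t * X.x s u * X.x q (-t * u) * (err X r s t u * X.x s u') * X.x q (-t * u') *
            err X r s t u' := by rw [hsp t u]; simp only [mul_assoc]
        _ = X.x r t * X.x s u * (X.x q (-t * u) * X.x s u') * (err X r s t u * X.x q (-t * u')) *
            err X r s t u' := by rw [← ce]; simp only [mul_assoc]
        _ = X.x r t * (X.x s u * X.x s u') * (X.x q (-t * u) * X.x q (-t * u')) *
            (err X r s t u * err X r s t u') := by rw [(cs _ _).eq, ← ce]; simp only [mul_assoc]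
        _ = _ := by rw [X.x_add s hs, X.x_add q hq, mul_add]
    exact mul_left_cancel e
  have addt : ∀ t t' u, err X r s (t + t') u = err X r s t u * err X r s t' u := by
    intro t t' u
    have e : X.x r (t + t') * X.x s u * X.x q (-(t + t') * u) * err X r s (t + t') u =
        X.x r (t + t') * X.x s u * X.x q (-(t + t') * u) * (err X r s t u * err X r s t' u) := by
      rw [← hsp]
      calc X.x s u * X.x r (t + t') = X.x s u * X.x r t * X.x r t' := by rw [← X.x_add r hr, mul_assoc]
        _ = X.x r t * X.x s u * X.x q (-t * u) * (err X r s t u * X.x r t') := by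
          rw [hsp t u]; simp only [mul_assoc]
        _ = X.x r t * X.x s u * (X.x q (-t * u) * X.x r t') * err X r s t u := by
          rw [← ce]; simp only [mul_assoc]
        _ = X.x r t * (X.x s u * X.x r t') * (X.x q (-t * u) * err X r s t u) := by
          rw [(cr _ _).eq]; simp only [mul_assoc]
        _ = X.x r t * X.x r t' * X.x s u * (X.x q (-t' * u) * (err X r s t' u * X.x q (-t * u))) *
            err X r s t u := by rw [hsp t' u]; simp only [mul_assoc]
        _ = X.x r t * X.x r t' * X.x s u * (X.x q (-t' * u) * X.x q (-t * u)) *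
            (err X r s t' u * err X r s t u) := by rw [← ce]; simp only [mul_assoc]
        _ = _ := by
          rw [X.x_add r hr, X.x_add q hq, (show -t' * u + -t * u = -(t + t') * u by ring),
            ← ce t' u (err X r s t u)]
    exact mul_left_cancel e
  obtain ⟨L, hL, hsep'⟩ := sep_of_sepB ChevalleyDataG2.fast hc0 (hks hc0 hc2) hr hs hsep
  have hinv := err_chi X hπ hc hr hs h1 h2' hL
  have hz : err X r s t u = 1 := by
    rcases hsep' with ⟨e1, e2⟩ | ⟨e1, e2⟩
    · have := hinv t (u / (chi chevG2 L s - 1))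
      rw [e1, one_mul,
        show chi chevG2 L s * (u / (chi chevG2 L s - 1)) = u + u / (chi chevG2 L s - 1) by
          field_simp [sub_ne_zero.2 e2]; ring,
        addu, mul_eq_right] at this
      exact this
    · have := hinv (t / (chi chevG2 L r - 1)) u
      rw [e2, one_mul,
        show chi chevG2 L r * (t / (chi chevG2 L r - 1)) = t + t / (chi chevG2 L r - 1) by
          field_simp [sub_ne_zero.2 e1]; ring,
        addt, mul_eq_right] at this
      exact this
  have e := hsp t u
  rw [hz, mul_one] at e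
  calc ⁅X.x r t, X.x s u⁆ = (X.x r t * X.x s u) * (X.x s u * X.x r t)⁻¹ := by
        rw [commutatorElement_def, mul_inv_rev, ← mul_assoc]
    _ = (X.x r t * X.x s u) * (X.x q (-t * u))⁻¹ * (X.x r t * X.x s u)⁻¹ := by
        rw [e, mul_inv_rev, ← mul_assoc]
    _ = X.x q (t * u) := by
        rw [X.x_inv hq, neg_mul, neg_neg, ((cr _ t).symm.mul_left (cs _ u).symm).eq, mul_assoc,
          mul_inv_cancel, mul_one]

include hπ hc h2 hc0 hc2 hS in
/-- the relation of two long roots whose sum is a root -/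
theorem rel_row {r s q m n p : ℕ} (h : rowB (r, s, q, m, n, p) = true) : Rel X r s := by
  simp only [rowB, Bool.and_eq_true, Bool.not_eq_true', Bool.eq_false_iff, ne_eq, Nat.beq_eq, Nat.blt_eq,
    List.all_eq_true, Bool.or_eq_true] at h
  obtain ⟨⟨⟨⟨⟨⟨⟨⟨⟨⟨⟨⟨⟨⟨⟨hrs, hmn⟩, hpn⟩, sm⟩, sp⟩, csm⟩, csn⟩, cqp⟩, cqn⟩, cqm⟩, crn⟩, cqs⟩, hmr⟩, hmr'⟩,
    hm⟩, hT⟩ := h
  have cp := fun {a b : ℕ} (h : cpB a b = true) => commPair_cpB hπ hc h2 hc0 hc2 hS h
  obtain ⟨hr, hs, hq, h1, h2', hW, -⟩ := single_comm (S := S) h2 hrs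
  obtain ⟨-, hn, -⟩ := single_comm (S := S) h2 hmn
  obtain ⟨hp, -⟩ := single_comm (S := S) h2 hpn
  rw [negA, ← ChevalleyDataG2.cert.neg_eq r hr] at hmr'
  intro t u
  have eA : ⁅X.x m u, X.x n 1⁆ = X.x s u := by
    rw [exact_single hπ hc h2 hc0 hc2 X hmn sm (cp csm) (cp csn), mul_one]
  set g := X.x r t with hg
  set b := X.x n 1 with hb
  -- the terms of the conjugate bracket into the sum
  have hKey : ∀ L : List (ℕ × F), (∀ e ∈ L, e.1 < chevG2.nroots ∧ cpB q e.1 = true ∧
      (e.1 = p ∨ cpB e.1 n = true)) →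
      ∃ v, ⁅(L.map fun e => X.x e.1 e.2).prod, b⁆ = X.x q v := by
    intro L hL
    induction L with
    | nil => exact ⟨0, by simp [X.x_zero hq]⟩
    | cons e L ih =>
      obtain ⟨v, hv⟩ := ih fun x hx => hL x (List.mem_cons_of_mem _ hx)
      obtain ⟨he, hqe, hor⟩ := hL e (List.mem_cons_self ..)
      obtain ⟨w, hw⟩ : ∃ w, ⁅X.x e.1 e.2, b⁆ = X.x q w := by
        rcases hor with h' | h'
        · exact ⟨e.2 * 1, by rw [h', exact_single hπ hc h2 hc0 hc2 X hpn sp (cp cqp) (cp cqn)]⟩
        · exact ⟨0, by rw [X.x_zero hq, commutatorElement_eq_one_iff_commute];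
                       exact x_comm X he hn (cp h') _ _⟩
      refine ⟨v + w, ?_⟩
      rw [List.map_cons, List.prod_cons]
      set A := X.x e.1 e.2
      set R := (L.map fun e => X.x e.1 e.2).prod
      calc ⁅A * R, b⁆ = A * ⁅R, b⁆ * A⁻¹ * ⁅A, b⁆ := by simp only [commutatorElement_def]; group
        _ = X.x q (v + w) := by
          rw [hv, hw, (x_comm X he hq (commPair_symm' (cp hqe)) _ _).eq, mul_inv_cancel_right,
            X.x_add q hq]
  obtain ⟨v, hv⟩ := hKey (chevG2.commWord F r m t u) (by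
    intro e he
    simp only [ChevalleyDatum.commWord, List.mem_map] at he
    obtain ⟨c, hcm, rfl⟩ := he
    exact ⟨(commTerms_mem ChevalleyDataG2.cert hr hm hcm).1, hT c hcm⟩)
  set Wl := ((chevG2.commWord F r m t u).map fun e => X.x e.1 e.2).prod
  set a := X.x m u
  have hconj : π (g⁻¹ * a * g) = π (a * Wl) := by
    have e : π (W X r m t u) = π Wl := rfl
    rw [map_mul, map_mul, map_mul, map_inv, ← e, π_W X hr hm, X.π_x r hr, X.π_x m hm, mul_assoc,
      S.comm r m hr hm hmr hmr' t u, ← mul_assoc, ← mul_assoc, inv_mul_cancel, one_mul]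
  have hgb : g⁻¹ * b * g = b := by
    rw [mul_assoc, ← (x_comm X hr hn (cp crn) t 1).eq, inv_mul_cancel_left]
  have e1 : g⁻¹ * X.x s u * g = X.x q v * X.x s u := by
    calc g⁻¹ * X.x s u * g = ⁅g⁻¹ * a * g, g⁻¹ * b * g⁆ := by
          rw [← eA, commutatorElement_def, commutatorElement_def]; group
      _ = ⁅a * Wl, b⁆ := by rw [hgb]; exact StemPairing.bracket_congr hc hconj rfl
      _ = a * ⁅Wl, b⁆ * a⁻¹ * ⁅a, b⁆ := by simp only [commutatorElement_def]; group
      _ = X.x q v * X.x s u := by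
          rw [hv, eA, (x_comm X hm hq (commPair_symm' (cp cqm)) u v).eq, mul_inv_cancel_right]
  -- compare with the relation of the pair
  have hsp := err_spec X r s t u
  have hWq : W X r s t u = X.x q (-t * u) := by simp [W, hW]
  rw [hWq] at hsp
  have e2 : g⁻¹ * X.x s u * g = X.x q (-t * u) * X.x s u * err X r s t u := by
    rw [mul_assoc g⁻¹, hsp, (x_comm X hq hs (cp cqs) (-t * u) u).eq]
    simp only [← mul_assoc, g, inv_mul_cancel, one_mul]
  have e3 : X.x q v * X.x s u = X.x q (-t * u) * X.x s u * err X r s t u := e1.symm.trans e2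
  have e4 := congrArg π e3
  rw [map_mul, map_mul, map_mul, π_err X hr hs h1 h2', mul_one] at e4
  have e5 := mul_right_cancel e4
  rw [X.π_x q hq, X.π_x q hq] at e5
  have e6 : v = -t * u := by
    have := congrArg S.θ e5
    rw [S.θ_x q hq, S.θ_x q hq] at this
    exact xg_inj ChevalleyDataG2.cert hq this
  rw [e6] at e3
  exact mul_eq_left.1 e3.symm

/-! ### Assembly -/

theorem four_vals [Fintype F] (hF : Fintype.card F = 4) (hc0 : c ≠ 0) (hc1 : c ≠ 1) (t : F) :
    t = 0 ∨ t = 1 ∨ t = c ∨ t = 1 + c := by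
  classical
  obtain ⟨h2, -⟩ := StMultSmall.four_data F hF
  have hne : (0 : F) ≠ 1 + c := fun h => hc1 (by linear_combination -h - h2)
  have hne' : (1 : F) ≠ 1 + c := fun h => hc0 (by linear_combination -h)
  have hne'' : c ≠ 1 + c := fun h => one_ne_zero (α := F) (by linear_combination -h)
  have hcard : ({0, 1, c, 1 + c} : Finset F).card = 4 := by
    rw [Finset.card_insert_of_notMem, Finset.card_insert_of_notMem, Finset.card_pair hne''] <;>
      simp [hne, hne', Ne.symm hc0, Ne.symm hc1]
  have : ({0, 1, c, 1 + c} : Finset F) = Finset.univ := Finset.eq_univ_of_card _ (by rw [hcard, hF])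
  have ht := Finset.mem_univ t
  rw [← this] at ht
  simpa using ht

include hπ hc h2 hc0 hc2 in
/-- the brackets in the preimage of one short root group lie in a group of order two -/
theorem self_bracket [Fintype F] (hF : Fintype.card F = 4) :
    ∃ z : Γ, π z = 1 ∧ z ^ 2 = 1 ∧
      ∀ t u : F, ∀ g g' : Γ, π g = S.x 7 t → π g' = S.x 7 u → ⁅g, g'⁆ ∈ Subgroup.zpowers z := by
  have hc1 : c ≠ 1 := fun h => hc2 (by rw [h, one_pow])
  have h7 : 7 < chevG2.nroots := by decide
  have hcm : ∀ t u : F, Commute (S.x 7 t) (S.x 7 u) := fun t u => by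
    rw [Commute, SemiconjBy, S.x_add 7 h7, S.x_add 7 h7, add_comm]
  have hs : ∀ y, π (Function.surjInv hπ y) = y := Function.surjInv_eq hπ
  let B : F → F → Γ := fun t u => ⁅Function.surjInv hπ (S.x 7 t), Function.surjInv hπ (S.x 7 u)⁆
  have hl : ∀ t t' u, B (t + t') u = B t u * B t' u := fun t t' u =>
    bracket_left hc h7 hcm (hs _) (hs _) (hs _) (hs _)
  have hr : ∀ t u u', B t (u + u') = B t u * B t u' := fun t u u' =>
    bracket_right hc h7 hcm (hs _) (hs _) (hs _) (hs _)
  have hd : ∀ t, B t t = 1 := fun t => commutatorElement_eq_one_iff_commute.2 (Commute.refl _)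
  have h0l : ∀ u, B 0 u = 1 := fun u => by
    have := hl 0 0 u; rw [add_zero] at this; exact mul_eq_left.1 this.symm
  have h0r : ∀ t, B t 0 = 1 := fun t => by
    have := hr t 0 0; rw [add_zero] at this; exact mul_eq_left.1 this.symm
  have hsym : B c 1 = (B 1 c)⁻¹ := (commutatorElement_inv _ _).symm
  refine ⟨B 1 c, StemPairing.bracket_mem_ker (by rw [hs, hs]; exact hcm _ _), ?_, fun t u g g' hg hg' => ?_⟩
  · have h11 : (1 : F) + 1 = 0 := by rw [one_add_one_eq_two, h2]
    rw [sq, ← hl, h11, h0l]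
  · rw [StemPairing.bracket_congr hc (hg.trans (hs _).symm) (hg'.trans (hs _).symm)]
    show B t u ∈ _
    have hz := Subgroup.mem_zpowers (B 1 c)
    have hzi : B c 1 ∈ Subgroup.zpowers (B 1 c) := hsym ▸ inv_mem hz
    rcases four_vals hF hc0 hc1 t with e | e | e | e <;>
      rcases four_vals hF hc0 hc1 u with e' | e' | e' | e' <;> subst e <;> subst e' <;>
      (try simp only [hl, hr, hd, h0l, h0r, mul_one, one_mul]) <;>
      first
        | exact one_mem _
        | exact hz
        | exact hzi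
        | exact mul_mem hz hzi

include hπ hc in
/-- transport to the other short roots -/
theorem short_bracket {z : Γ}
    (hb : ∀ t u : F, ∀ g g' : Γ, π g = S.x 7 t → π g' = S.x 7 u → ⁅g, g'⁆ ∈ Subgroup.zpowers z)
    {r : ℕ} (hr : isShort r = true) :
    ∀ t u : F, ∀ g g' : Γ, π g = S.x r t → π g' = S.x r u → ⁅g, g'⁆ ∈ Subgroup.zpowers z := by
  simp only [isShort, List.any_eq_true, Nat.beq_eq] at hr
  obtain ⟨w, hw, rfl⟩ := hr
  obtain ⟨hl, e1⟩ := short_ok w hw
  intro t u g g' hg hg'
  obtain ⟨e, he, h⟩ := StBruhat.nw_conj S StGen.gen_G2 hl (r := 7) (by decide)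
  obtain ⟨y, hy⟩ := hπ (StBruhat.nw S w.2)
  obtain ⟨k, hk⟩ := hπ (S.x 7 (e * t))
  obtain ⟨k', hk'⟩ := hπ (S.x 7 (e * u))
  have h1 : π (y * k * y⁻¹) = π g := by
    rw [map_mul, map_mul, map_inv, hy, hk, (h _).1, hg, e1, ← mul_assoc, he, one_mul]
  have h2 : π (y * k' * y⁻¹) = π g' := by
    rw [map_mul, map_mul, map_inv, hy, hk', (h _).1, hg', e1, ← mul_assoc, he, one_mul]
  have hcm : Commute (π k) (π k') := by
    rw [hk, hk', Commute, SemiconjBy, S.x_add 7 (by decide), S.x_add 7 (by decide), add_comm]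
  rw [StemPairing.bracket_conj hc y hcm h1 h2]
  exact hb _ _ k k' hk hk'

include hπ hc h2 hc0 hc2 hS in
/-- the relations lift once short root groups have commutative preimages -/
theorem lift_short (hT : TorusOK S π) (hk : π.ker ≤ commutator Γ) :
    ∃ U : Sys ChevalleyDataG2.cert F Γ, U.θ = S.θ.comp π ∧
      ∀ r, r < chevG2.nroots → ∀ t : F, π (U.x r t) = S.x r t := by
  have hF := ChevalleyDataG2.fast
  have hchk := chk_ok
  have hrow : ∀ r, r < chevG2.nroots →
      ((List.range chevG2.rank).any fun j => absIn [1, 2] (cartT ChevalleyDataG2.tables j r)) = true ∧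
        cpB r r = true ∧
        ((List.range chevG2.nroots).all fun s => Nat.beq s r || Nat.beq s (negA chevG2 r) || pairB r s) = true := by
    intro r hr
    have h := allR hchk hr
    simp only [Bool.and_eq_true] at h
    exact ⟨h.1.1, h.1.2, h.2⟩
  have hL : ∀ r, r < chevG2.nroots → LiftAt S π r := by
    intro r hr
    obtain ⟨h, hrr, -⟩ := hrow r hr
    simp only [List.any_eq_true, List.mem_range] at h
    obtain ⟨j, hj, h⟩ := h
    rw [cartT_of_fast hF hj hr] at h
    exact liftAt_of_torus hπ hc StGen.gen_G2 hr hj hc0 (ne_one_of_absIn (hks hc0 hc2) h) hT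
      (commPair_cpB hπ hc h2 hc0 hc2 hS hrr)
  obtain ⟨X⟩ := exists_lifts hL
  refine lift_sys X hπ hc ?_ hk
  intro r s hr hs h1 h2'
  have h := allR (hrow r hr).2.2 hs
  rw [negA, ← ChevalleyDataG2.cert.neg_eq r hr] at h
  simp only [Bool.or_eq_true, Nat.beq_eq, h1, h2', false_or, pairB, Bool.and_eq_true, List.any_eq_true,
    List.all_eq_true] at h
  rcases h with (h | ⟨hz, h⟩) | ⟨w, -, ⟨e1, e2⟩, h⟩
  · exact Or.inl (sep_of_sepB hF hc0 (hks hc0 hc2) hr hs h)
  · refine Or.inr (Or.inr (Or.inl fun t u => ⟨List.prod_eq_one ?_,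
      x_comm X hr hs (commPair_cpB hπ hc h2 hc0 hc2 hS h) t u⟩))
    intro g hg
    simp only [ChevalleyDatum.commWord, List.map_map, List.mem_map] at hg
    obtain ⟨e, he, rfl⟩ := hg
    simp only [Function.comp_apply, zero_cast h2 (hz e he), zero_mul]
    exact X.x_zero (commTerms_mem ChevalleyDataG2.cert hr hs he).1
  · obtain ⟨r', s', q, m, n, p⟩ := w
    dsimp only at e1 e2
    subst e1; subst e2
    exact Or.inr (Or.inl (rel_row hπ hc h2 hc0 hc2 hS X h))

/-- upper bound for the Steinberg group -/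
theorem st_upper {K : Type u} [Field K] [Fintype K] (hK : Fintype.card K = 4) {Γ : Type u} [Group Γ]
    (π : Γ →* chevG2.SteinbergGroup K) (hπ : Cfsg.IsStemExtension π) :
    ∃ z : Γ, π z = 1 ∧ z ^ 2 = 1 ∧ ∀ y, π y = 1 → y ∈ Subgroup.zpowers z := by
  obtain ⟨h2, c, hc0, hc2⟩ := StMultSmall.four_data K hK
  obtain ⟨hs, hcen, hk⟩ := hπ
  set S := StGroup.sysSt ChevalleyDataG2.cert K
  obtain ⟨z, hz1, hz2, hb⟩ := self_bracket (S := S) hs hcen h2 hc0 hc2 hK
  refine ⟨z, hz1, hz2, ?_⟩
  set Z := Subgroup.zpowers z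
  have hZk : Z ≤ π.ker := Subgroup.zpowers_le.2 hz1
  haveI : Z.Normal := ⟨fun n hn g => by
    rw [StemBasic.ker_comm hcen (hZk hn) g, mul_inv_cancel_right]; exact hn⟩
  let π' : Γ ⧸ Z →* chevG2.SteinbergGroup K := QuotientGroup.lift Z π hZk
  have hs' : Function.Surjective π' := fun g => by
    obtain ⟨x, rfl⟩ := hs g
    exact ⟨QuotientGroup.mk x, rfl⟩
  have hcen' : π'.ker ≤ Subgroup.center (Γ ⧸ Z) := by
    intro w hw
    obtain ⟨x, rfl⟩ := QuotientGroup.mk_surjective w
    refine Subgroup.mem_center_iff.2 fun v => ?_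
    obtain ⟨y, rfl⟩ := QuotientGroup.mk_surjective v
    exact congrArg QuotientGroup.mk (StemBasic.ker_comm hcen hw y)
  have hk' : π'.ker ≤ commutator (Γ ⧸ Z) := by
    intro w hw
    obtain ⟨x, rfl⟩ := QuotientGroup.mk_surjective w
    have : QuotientGroup.mk' Z x ∈ (commutator Γ).map (QuotientGroup.mk' Z) := ⟨x, hk hw, rfl⟩
    rw [_root_.commutator_def, Subgroup.map_commutator,
      Subgroup.map_top_of_surjective _ (QuotientGroup.mk'_surjective Z), ← _root_.commutator_def] at this
    exact this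
  have hS : ∀ r, isShort r = true → CommPair S π' r r := by
    intro r hr t u w w' hw hw'
    obtain ⟨g, rfl⟩ := QuotientGroup.mk_surjective w
    obtain ⟨g', rfl⟩ := QuotientGroup.mk_surjective w'
    have hm := short_bracket hs hcen hb hr t u g g' hw hw'
    rw [← commutatorElement_eq_one_iff_commute]
    have : ⁅QuotientGroup.mk' Z g, QuotientGroup.mk' Z g'⁆ = 1 := by
      rw [← map_commutatorElement]; exact (QuotientGroup.eq_one_iff _).2 hm
    exact this
  obtain ⟨T, -, hTx⟩ := lift_short (S := S) hs' hcen' h2 hc0 hc2 hS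
    (StMultSmall.torus_comm ChevalleyDataG2.cert K StGen.gen_G2 hcen') hk'
  have hbot := StCentral.ker_eq_bot_of_sys ChevalleyDataG2.cert K (StGroup.relsAB_subset K) subset_rfl
    StGen.gen_G2 π' T hTx
  intro y hy
  have : (QuotientGroup.mk y : Γ ⧸ Z) ∈ π'.ker := hy
  rw [hbot, Subgroup.mem_bot] at this
  exact (QuotientGroup.eq_one_iff _).1 this

/-- kernels of stem extensions of the group over the field with four elements are images of `Z/2` -/
theorem upper {K : Type u} [Field K] [Fintype K] (hK : Fintype.card K = 4) {Γ : Type u} [Group Γ]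
    (σ : Γ →* ↥(chevG2.group K)) (hσ : Cfsg.IsStemExtension σ) :
    ∃ π : Multiplicative (ZMod 2) →* σ.ker, Function.Surjective π := by
  let e := MulEquiv.ofBijective _ (G2ThreeBound60.proj_bijective (K := K))
  let τ : Γ →* chevG2.SteinbergGroup K := e.symm.toMonoidHom.comp σ
  have hk : ∀ x, τ x = 1 ↔ σ x = 1 := fun x => e.symm.map_eq_one_iff
  have hker : τ.ker = σ.ker := by ext x; exact hk x
  have hτ : Cfsg.IsStemExtension τ :=
    ⟨e.symm.surjective.comp hσ.1, hker ▸ hσ.2.1, hker ▸ hσ.2.2⟩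
  obtain ⟨z, hz1, hz2, hall⟩ := st_upper hK τ hτ
  refine Cfsg.Agent.SchurMultiplierBasic.exists_surjective_zmod 2 (⟨z, (hk z).1 hz1⟩ : σ.ker)
    (Subtype.ext (by simpa using hz2)) fun y => ?_
  obtain ⟨k, hk'⟩ := hall y.1 ((hk y.1).2 y.2)
  exact ⟨k, Subtype.ext (by simpa using hk')⟩

end Cfsg.Agent.G2FourBound16
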