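import Mathlib

/-!
Six lifts in dimension twelve over the field with eleven elements: matrices of the
double cover of the group of type G2 over the field with four elements. The data only feeds a checker.
-/

set_option autoImplicit false

namespace Cfsg.Agent.G2FourCoverData16

/-- Lift of the generator `a`. -/
def mA : List (List Nat) := [
  [0, 0, 0, 10, 0, 0, 0, 0, 0, 0, 0, 0],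
  [0, 0, 1, 0, 0, 0, 0, 0, 0, 0, 0, 0],
  [0, 1, 0, 0, 0, 0, 0, 0, 0, 0, 0, 0],
  [10, 0, 0, 0, 0, 0, 0, 0, 0, 0, 0, 0],
  [0, 0, 0, 0, 1, 0, 0, 0, 0, 0, 0, 0],
  [0, 0, 0, 0, 0, 1, 0, 0, 0, 0, 0, 0],
  [0, 0, 0, 0, 0, 0, 0, 0, 0, 10, 0, 0],
  [0, 0, 0, 0, 0, 0, 0, 0, 1, 0, 0, 0],
  [0, 0, 0, 0, 0, 0, 0, 1, 0, 0, 0, 0],
  [0, 0, 0, 0, 0, 0, 10, 0, 0, 0, 0, 0],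
  [0, 0, 0, 0, 0, 0, 0, 0, 0, 0, 1, 0],
  [0, 0, 0, 0, 0, 0, 0, 0, 0, 0, 0, 1]]

/-- Lift of the generator `b`. -/
def mB : List (List Nat) := [
  [6, 0, 9, 7, 4, 6, 0, 0, 0, 0, 0, 0],
  [0, 6, 5, 7, 6, 7, 0, 0, 0, 0, 0, 0],
  [7, 4, 0, 0, 6, 3, 0, 0, 0, 0, 0, 0],
  [6, 9, 0, 0, 9, 0, 0, 0, 0, 0, 0, 0],
  [7, 5, 0, 8, 6, 0, 0, 0, 0, 0, 0, 0],
  [5, 4, 2, 6, 0, 6, 0, 0, 0, 0, 0, 0],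
  [0, 0, 0, 0, 0, 0, 6, 0, 9, 5, 4, 6],
  [0, 0, 0, 0, 0, 0, 0, 6, 7, 7, 6, 7],
  [0, 0, 0, 0, 0, 0, 7, 6, 0, 0, 4, 8],
  [0, 0, 0, 0, 0, 0, 4, 9, 0, 0, 3, 2],
  [0, 0, 0, 0, 0, 0, 7, 5, 2, 3, 6, 0],
  [0, 0, 0, 0, 0, 0, 5, 4, 8, 4, 0, 6]]

/-- Lift of the generator `c`. -/
def mC : List (List Nat) := [
  [1, 0, 0, 0, 0, 0, 0, 0, 0, 0, 0, 0],
  [0, 1, 0, 0, 0, 0, 0, 0, 0, 0, 0, 0],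
  [0, 0, 1, 0, 0, 0, 0, 0, 0, 0, 0, 0],
  [0, 0, 0, 1, 0, 0, 0, 0, 0, 0, 0, 0],
  [0, 0, 0, 0, 10, 0, 0, 0, 0, 0, 0, 0],
  [0, 0, 0, 0, 0, 10, 0, 0, 0, 0, 0, 0],
  [0, 0, 0, 0, 0, 0, 1, 0, 0, 0, 0, 0],
  [0, 0, 0, 0, 0, 0, 0, 1, 0, 0, 0, 0],
  [0, 0, 0, 0, 0, 0, 0, 0, 1, 0, 0, 0],
  [0, 0, 0, 0, 0, 0, 0, 0, 0, 1, 0, 0],
  [0, 0, 0, 0, 0, 0, 0, 0, 0, 0, 10, 0],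
  [0, 0, 0, 0, 0, 0, 0, 0, 0, 0, 0, 10]]

/-- Lift of the generator `d`. -/
def mD : List (List Nat) := [
  [0, 8, 1, 10, 2, 7, 0, 0, 0, 0, 0, 0],
  [2, 0, 10, 4, 0, 7, 0, 0, 0, 0, 0, 0],
  [7, 10, 0, 9, 0, 7, 0, 0, 0, 0, 0, 0],
  [10, 10, 3, 0, 9, 4, 0, 0, 0, 0, 0, 0],
  [4, 7, 7, 7, 8, 4, 0, 0, 0, 0, 0, 0],
  [0, 9, 9, 0, 10, 3, 0, 0, 0, 0, 0, 0],
  [0, 0, 0, 0, 0, 0, 7, 6, 3, 6, 1, 8],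
  [0, 0, 0, 0, 0, 0, 0, 4, 6, 2, 10, 6],
  [0, 0, 0, 0, 0, 0, 9, 6, 4, 0, 10, 6],
  [0, 0, 0, 0, 0, 0, 6, 8, 5, 7, 10, 3],
  [0, 0, 0, 0, 0, 0, 5, 8, 8, 6, 6, 8],
  [0, 0, 0, 0, 0, 0, 10, 10, 10, 1, 3, 5]]

/-- Lift of the generator `e`. -/
def mE : List (List Nat) := [
  [7, 0, 10, 4, 0, 0, 0, 0, 0, 0, 0, 0],
  [10, 4, 4, 0, 0, 0, 0, 0, 0, 0, 0, 0],
  [0, 4, 4, 1, 0, 0, 0, 0, 0, 0, 0, 0],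
  [4, 1, 0, 7, 0, 0, 0, 0, 0, 0, 0, 0],
  [0, 0, 0, 0, 7, 1, 0, 0, 0, 0, 0, 0],
  [0, 0, 0, 0, 5, 4, 0, 0, 0, 0, 0, 0],
  [0, 0, 0, 0, 0, 0, 7, 0, 10, 4, 0, 0],
  [0, 0, 0, 0, 0, 0, 10, 4, 4, 0, 0, 0],
  [0, 0, 0, 0, 0, 0, 0, 4, 4, 1, 0, 0],
  [0, 0, 0, 0, 0, 0, 4, 1, 0, 7, 0, 0],
  [0, 0, 0, 0, 0, 0, 0, 0, 0, 0, 1, 1],
  [0, 0, 0, 0, 0, 0, 0, 0, 0, 0, 9, 10]]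

/-- Lift of the generator `f`. -/
def mF : List (List Nat) := [
  [9, 0, 0, 1, 0, 0, 1, 0, 0, 10, 0, 0],
  [0, 9, 10, 0, 0, 0, 0, 1, 1, 0, 0, 0],
  [0, 10, 9, 0, 0, 0, 0, 1, 1, 0, 0, 0],
  [1, 0, 0, 9, 0, 0, 10, 0, 0, 1, 0, 0],
  [0, 0, 0, 0, 8, 0, 0, 0, 0, 0, 2, 2],
  [0, 0, 0, 0, 0, 8, 0, 0, 0, 0, 6, 8],
  [9, 0, 0, 2, 0, 0, 1, 0, 0, 9, 0, 0],
  [0, 9, 9, 0, 0, 0, 0, 1, 2, 0, 0, 0],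
  [0, 9, 9, 0, 0, 0, 0, 2, 1, 0, 0, 0],
  [2, 0, 0, 9, 0, 0, 9, 0, 0, 1, 0, 0],
  [0, 0, 0, 0, 6, 4, 0, 0, 0, 0, 3, 0],
  [0, 0, 0, 0, 1, 7, 0, 0, 0, 0, 0, 3]]

/-- The lifts. -/
def mats : List (List (List Nat)) := [mA, mB, mC, mD, mE, mF]

end Cfsg.Agent.G2FourCoverData16
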