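import Mathlib
import Cfsg.Agent.Lib.CosetCertPres
import Cfsg.Agent.Lib.G2FourCoverData16

/-!
Arithmetic of twelve by twelve matrices over the field with eleven elements by lists of numbers,
and the units belonging to the six lifts.
-/

set_option autoImplicit false
set_option maxRecDepth 100000

namespace Cfsg.Agent.G2FourCoverMat16

open Cfsg.Agent.CosetCertPres Cfsg.Agent.CosetCertCore Cfsg.Agent.G2FourCoverData16

/-- Square matrices of size twelve. -/
abbrev M12 : Type := Matrix (Fin 12) (Fin 12) (ZMod 11)

/-- Scalar product of two lists. -/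
def dot : List Nat → List Nat → Nat
  | x :: r, y :: c => x * y + dot r c
  | _, _ => 0

/-- Columns. -/
def colsOf (b : List (List Nat)) : List (List Nat) :=
  (List.range 12).map fun j => b.map fun row => row.getD j 0

/-- Product. -/
def mulL (a b : List (List Nat)) : List (List Nat) :=
  let cs := colsOf b
  a.map fun r => cs.map fun c => dot r c % 11

/-- Shape. -/
def okL (a : List (List Nat)) : Bool := Nat.beq a.length 12 && a.all fun r => Nat.beq r.length 12

/-- A multiple of the identity. -/
def diagL (c : Nat) : List (List Nat) :=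
  (List.range 12).map fun i => (List.range 12).map fun j => if Nat.beq i j then c else 0

/-- The matrix of a list of rows. -/
def toM (a : List (List Nat)) : M12 := fun i j => (((a.getD i []).getD j 0 : Nat) : ZMod 11)

theorem getD_map {α β : Type} (f : α → β) (l : List α) (d : β) (i : Nat) (hi : i < l.length) :
    (l.map f).getD i d = f l[i] := by
  rw [List.getD_eq_getElem _ _ (by simpa using hi), List.getElem_map]

theorem dot_eq : ∀ (n : Nat) (r c : List Nat), r.length = n → c.length = n →
    dot r c = ∑ k : Fin n, r.getD k 0 * c.getD k 0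
  | 0, [], [], _, _ => rfl
  | n + 1, x :: r, y :: c, hr, hc => by
    rw [dot, Fin.sum_univ_succ, dot_eq n r c (Nat.succ.inj hr) (Nat.succ.inj hc)]
    simp

theorem toM_mul {a b : List (List Nat)} (ha : okL a = true) (hb : okL b = true) :
    toM (mulL a b) = toM a * toM b ∧ okL (mulL a b) = true := by
  simp only [okL, Bool.and_eq_true, Nat.beq_eq, List.all_eq_true] at ha hb ⊢
  obtain ⟨ha1, ha2⟩ := ha
  obtain ⟨hb1, hb2⟩ := hb
  refine ⟨?_, by simp [mulL, ha1], fun r hr => ?_⟩
  · refine Matrix.ext fun i j => ?_
    have hi : i.1 < a.length := ha1.symm ▸ i.2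
    have hrow : a[i.1].length = 12 := ha2 _ (List.getElem_mem hi)
    have hcol : ∀ k : Fin 12, ((b.map fun row => row.getD j 0).getD k 0) = (b.getD k []).getD j 0 := fun k => by
      have hk : k.1 < b.length := hb1.symm ▸ k.2
      rw [List.getD_eq_getElem _ _ (by simpa using hk), List.getD_eq_getElem _ _ hk, List.getElem_map]
    show (((mulL a b).getD i []).getD j 0 : ZMod 11) = _
    rw [mulL, getD_map _ a [] i hi, getD_map _ (colsOf b) 0 j (by simp [colsOf])]
    simp only [colsOf, List.getElem_map, List.getElem_range]
    rw [ZMod.natCast_mod, dot_eq 12 _ _ hrow (by simpa using hb1), Nat.cast_sum, Matrix.mul_apply]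
    refine Finset.sum_congr rfl fun k _ => ?_
    rw [Nat.cast_mul, hcol, toM, toM, List.getD_eq_getElem a [] hi]
  · simp only [mulL, List.mem_map] at hr
    obtain ⟨x, -, rfl⟩ := hr
    simp [colsOf]

theorem okL_diag (c : Nat) : okL (diagL c) = true := by
  simp [okL, diagL, Nat.beq_eq]

theorem toM_diag (c : Nat) : toM (diagL c) = Matrix.diagonal fun _ => (c : ZMod 11) := by
  refine Matrix.ext fun i j => ?_
  rw [toM, diagL, getD_map _ _ [] i.1 (by simp), getD_map _ _ 0 j.1 (by simp),
    List.getElem_range, List.getElem_range]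
  by_cases h : i = j
  · subst h; simp
  · have : Nat.beq i.1 j.1 = false := Bool.eq_false_iff.2 fun e => h (Fin.ext (Nat.eq_of_beq_eq_true e))
    simp [this, h]

theorem toM_one : toM (diagL 1) = 1 := by
  rw [toM_diag, Nat.cast_one, Matrix.diagonal_one]

theorem toM_neg : toM (diagL 10) = -1 := by
  rw [toM_diag, show ((10 : ℕ) : ZMod 11) = -1 by decide, ← Matrix.diagonal_neg, Matrix.diagonal_one]

/-- The lift with a number, the first one beyond range. -/
def mat (x : Nat) : List (List Nat) := mats.getD x mA

/-- The inverse of a lift. -/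
def invMat (x : Nat) : List (List Nat) := mulL (mat x) (mulL (mat x) (mat x))

theorem mat_facts : ∀ x < 6, okL (mat x) = true ∧ mulL (mat x) (invMat x) = diagL 1 ∧
    mulL (invMat x) (mat x) = diagL 1 := by
  decide +kernel

theorem mat_cases (x : Nat) : x < 6 ∨ mat x = mat 0 := by
  by_cases h : x < 6
  · exact Or.inl h
  · refine Or.inr ?_
    have hl : mats.length ≤ x := by simp [mats]; omega
    rw [mat, List.getD_eq_default _ _ hl]
    rfl

theorem mat_ok (x : Nat) : okL (mat x) = true ∧ mulL (mat x) (invMat x) = diagL 1 ∧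
    mulL (invMat x) (mat x) = diagL 1 := by
  rcases mat_cases x with h | h
  · exact mat_facts x h
  · rw [invMat, h]; exact mat_facts 0 (by norm_num)

/-- The unit of a lift. -/
def u (x : Nat) : M12ˣ where
  val := toM (mat x)
  inv := toM (invMat x)
  val_inv := by
    have h := mat_ok x
    rw [← (toM_mul (b := invMat x) h.1 (toM_mul h.1 (toM_mul h.1 h.1).2).2).1, h.2.1, toM_one]
  inv_val := by
    have h := mat_ok x
    rw [← (toM_mul (a := invMat x) (toM_mul h.1 (toM_mul h.1 h.1).2).2 h.1).1, h.2.2, toM_one]

/-- Product along a word. -/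
def evalL : List Nat → List (List Nat)
  | [] => diagL 1
  | x :: w => mulL (mat x) (evalL w)

theorem val_u : ∀ w : List Nat, ((val u w : M12ˣ) : M12) = toM (evalL w) ∧ okL (evalL w) = true
  | [] => ⟨by rw [val_nil, Units.val_one, evalL, toM_one], okL_diag 1⟩
  | x :: w => by
    obtain ⟨h1, h2⟩ := val_u w
    have h := toM_mul (mat_ok x).1 h2
    exact ⟨by rw [val_cons, Units.val_mul, h1, evalL, h.1]; rfl, h.2⟩

/-- A word acting as plus or minus one. -/
def signOK (w : List Nat) : Bool := evalL w == diagL 1 || evalL w == diagL 10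

theorem val_sign {w : List Nat} (h : signOK w = true) : val u w = 1 ∨ val u w = -1 := by
  simp only [signOK, Bool.or_eq_true, beq_iff_eq] at h
  rcases h with h | h
  · exact Or.inl (Units.ext (by rw [(val_u w).1, h, toM_one, Units.val_one]))
  · exact Or.inr (Units.ext (by rw [(val_u w).1, h, toM_neg, Units.val_neg, Units.val_one]))

end Cfsg.Agent.G2FourCoverMat16
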