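import Cfsg.Agent.Lib.CosetCertG24
import Cfsg.Agent.Lib.G2FourCoverMat16
import Cfsg.Agent.Lib.SchurMultiplierBasic
import Cfsg.Agent.S1055
import Cfsg.Agent.S3662
import Cfsg.Prelude.Def_KGroupFacts

/-!
The double cover of the group of type G2 over the field with four elements.

Six matrices of degree twelve over the field with eleven elements satisfy, up to sign, the relations of
the six generators of that group used by the coset enumerations inside the presented group Suz.
-/

set_option autoImplicit false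
set_option maxRecDepth 100000
set_option linter.style.haveILetI false

namespace Cfsg.Agent.G2FourCover16

open Cfsg.Lie Cfsg.Agent.FieldFour15
open Cfsg.Agent.CosetCertCore Cfsg.Agent.CosetCertPres Cfsg.Agent.CosetCertOrder
open Cfsg.Agent.G2FourCoverMat16

/-! ### The matrix group and its quotient by the sign -/

/-- The six units with the sign. -/
def E : Subgroup M12ˣ := Subgroup.closure (insert (-1) (Set.range u))

/-- The sign in the group. -/
def neg : E := ⟨-1, Subgroup.subset_closure (Set.mem_insert _ _)⟩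

theorem neg_center : Subgroup.zpowers neg ≤ Subgroup.center E := by
  refine Subgroup.zpowers_le.2 (Subgroup.mem_center_iff.2 fun e => Subtype.ext (Units.ext ?_))
  show ((e : M12ˣ) : M12) * ((-1 : M12ˣ) : M12) = ((-1 : M12ˣ) : M12) * ((e : M12ˣ) : M12)
  simp

instance neg_normal : (Subgroup.zpowers neg).Normal :=
  ⟨fun n hn g => by
    rw [(Subgroup.mem_center_iff.1 (neg_center hn) g), mul_inv_cancel_right]; exact hn⟩

/-- The group modulo the sign. -/
abbrev Q : Type := E ⧸ Subgroup.zpowers neg

/-- A lift in the group. -/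
def v (x : Nat) : E := ⟨u x, Subgroup.subset_closure (Set.mem_insert_of_mem _ ⟨x, rfl⟩)⟩

/-- Its image. -/
def q (x : Nat) : Q := QuotientGroup.mk (v x)

theorem val_v (w : List Nat) : ((val v w : E) : M12ˣ) = val u w := by
  unfold val
  rw [← Subgroup.coe_subtype, map_list_prod, List.map_map]
  rfl

theorem q_sign {w : List Nat} (h : signOK w = true) : val q w = 1 := by
  have e : val q w = QuotientGroup.mk' (Subgroup.zpowers neg) (val v w) := by
    unfold val
    rw [map_list_prod, List.map_map]
    rfl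
  rw [e, QuotientGroup.mk'_apply, QuotientGroup.eq_one_iff]
  rcases val_sign h with h' | h'
  · rw [show val v w = 1 from Subtype.ext ((val_v w).trans h')]
    exact one_mem _
  · rw [show val v w = neg from Subtype.ext ((val_v w).trans h')]
    exact Subgroup.mem_zpowers _

theorem sq_ok : ∀ x < 6, signOK [x, x] = true := by decide +kernel

theorem mat_sq (x : Nat) : signOK [x, x] = true := by
  rcases mat_cases x with h | h
  · exact sq_ok x h
  · have := sq_ok 0 (by norm_num)
    simp only [signOK, evalL] at this ⊢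
    rw [h]
    exact this

theorem q_inv (x : Nat) : q x * q x = 1 := by
  simpa [val_cons, val_nil] using q_sign (mat_sq x)

/-! ### Pairs of generators -/

/-- A generator of the presented group together with its matrix. -/
noncomputable def pair (x : Nat) : CosetCertSuzGData.pres.Grp × Q :=
  (CosetCertSuzGData.pres.gg (ren [0, 1, 2, 3, 4, 5] x), q (ren [0, 1, 2, 3, 4, 5] x))

theorem pair_inv (x : Nat) : pair x * pair x = 1 :=
  Prod.ext (CosetCertSuzSimple.invol _) (q_inv _)

theorem val_pair (w : List Nat) : val pair w =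
    (val CosetCertSuzGData.pres.gg (w.map (ren [0, 1, 2, 3, 4, 5])),
      val q (w.map (ren [0, 1, 2, 3, 4, 5]))) := by
  induction w with
  | nil => rfl
  | cons x w ih => rw [val_cons, ih, List.map_cons, val_cons, val_cons]; rfl

/-- The words of a certificate act as plus or minus one on the matrices and die in the presented group. -/
def wordsOK (rels : List (List Nat)) (σ : List Nat) : Bool :=
  rels.all fun w =>
    decide ((w.map (ren σ)).map (ren [0, 1, 2, 3, 4, 5]) ∈ CosetCertSuzGData.pres.relWords) &&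
      signOK ((w.map (ren σ)).map (ren [0, 1, 2, 3, 4, 5]))

theorem rels_pair {C : Cert} {σ : List Nat} (h : wordsOK C.rels σ = true) :
    ∀ w ∈ C.rels, val pair (w.map (ren σ)) = 1 := by
  intro w hw
  simp only [wordsOK, List.all_eq_true, Bool.and_eq_true, decide_eq_true_eq] at h
  rw [val_pair]
  exact Prod.ext (val_relWords CosetCertSuzSimple.good (h w hw).1) (q_sign (h w hw).2)

theorem sgens_pair {C : Cert} {σ τ : List Nat}
    (h : C.sgens.map (List.map (ren σ)) = τ.map fun i => [i]) :
    ∀ w ∈ C.sgens, val pair (w.map (ren σ)) ∈ span pair τ := by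
  intro w hw
  have h1 : w.map (ren σ) ∈ τ.map fun i => [i] := h ▸ List.mem_map_of_mem hw
  obtain ⟨i, hi, hiw⟩ := List.mem_map.mp h1
  rw [← hiw, val_cons, val_nil, mul_one]
  exact Subgroup.subset_closure ⟨i, hi, rfl⟩

theorem bound4 : Finite (span pair [0, 1]) ∧ Nat.card (span pair [0, 1]) ≤ 10 := by
  have h := span_card_le pair pair_inv CosetCertSuzS4.closed (σ := [0, 1]) (by decide +kernel) (by simp)
    (rels_pair (by decide +kernel)) (τ := []) (by decide +kernel) (sgens_pair (by decide +kernel))
    (span_nil_card _)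
  exact ⟨h.1, h.2.trans_eq (by decide +kernel)⟩

theorem bound3 : Finite (span pair [0, 1, 2, 3]) ∧ Nat.card (span pair [0, 1, 2, 3]) ≤ 2160 := by
  have h := span_card_le pair pair_inv CosetCertSuzS3.closed (σ := [0, 1, 2, 3]) (by decide +kernel) (by simp)
    (rels_pair (by decide +kernel)) (τ := [0, 1]) (by decide +kernel) (sgens_pair (by decide +kernel))
    bound4
  exact ⟨h.1, h.2.trans_eq (by decide +kernel)⟩

theorem bound2 : Finite (span pair [0, 1, 2, 3, 4]) ∧ Nat.card (span pair [0, 1, 2, 3, 4]) ≤ 604800 := by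
  have h := span_card_le pair pair_inv CosetCertSuzS2.closed (σ := [0, 1, 2, 3, 4]) (by decide +kernel) (by simp)
    (rels_pair (by decide +kernel)) (τ := [0, 1, 2, 3]) (by decide +kernel) (sgens_pair (by decide +kernel))
    bound3
  exact ⟨h.1, h.2.trans_eq (by decide +kernel)⟩

theorem bound1 : Finite (span pair [0, 1, 2, 3, 4, 5]) ∧ Nat.card (span pair [0, 1, 2, 3, 4, 5]) ≤ 251596800 := by
  have h := span_card_le pair pair_inv CosetCertSuzS1.closed (σ := [0, 1, 2, 3, 4, 5]) (by decide +kernel) (by simp)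
    (rels_pair (by decide +kernel)) (τ := [0, 1, 2, 3, 4]) (by decide +kernel) (sgens_pair (by decide +kernel))
    bound2
  exact ⟨h.1, h.2.trans_eq (by decide +kernel)⟩

/-! ### The isomorphism -/

/-- The group of type G2 as six generated subgroup. -/
abbrev H : Subgroup CosetCertSuzGData.pres.Grp := CosetCertG24.H

theorem ren_id {i : Nat} (hi : i < 6) : ren [0, 1, 2, 3, 4, 5] i = i := by
  interval_cases i <;> rfl

theorem mem_six {i : Nat} (hi : i ∈ [0, 1, 2, 3, 4, 5]) : i < 6 := by
  simp at hi; omega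

theorem map_fst : (span pair [0, 1, 2, 3, 4, 5]).map (MonoidHom.fst _ Q) = H := by
  rw [span, MonoidHom.map_closure]
  refine congrArg Subgroup.closure (Set.ext fun y => ⟨?_, ?_⟩)
  · rintro ⟨_, ⟨i, hi, rfl⟩, rfl⟩
    exact ⟨i, hi, by simp [pair, ren_id (mem_six hi)]⟩
  · rintro ⟨i, hi, rfl⟩
    exact ⟨pair i, ⟨i, hi, rfl⟩, by simp [pair, ren_id (mem_six hi)]⟩

theorem map_snd : (span pair [0, 1, 2, 3, 4, 5]).map (MonoidHom.snd CosetCertSuzGData.pres.Grp Q) = ⊤ := by
  rw [eq_top_iff]
  intro y hy
  clear hy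
  obtain ⟨⟨e, he⟩, rfl⟩ := QuotientGroup.mk_surjective y
  induction he using Subgroup.closure_induction with
  | mem k hk =>
    rcases hk with rfl | ⟨x, rfl⟩
    · exact ⟨1, one_mem _,
        ((QuotientGroup.eq_one_iff neg).2 (Subgroup.mem_zpowers _)).symm.trans rfl⟩
    · obtain ⟨i, hi, hix⟩ : ∃ i < 6, mat x = mat i := by
        rcases mat_cases x with h | h
        exacts [⟨x, h, rfl⟩, ⟨0, by norm_num, h⟩]
      have e' : v x = v i := Subtype.ext (Units.ext (by show toM (mat x) = toM (mat i); rw [hix]))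
      refine ⟨pair i, Subgroup.subset_closure ⟨i, by interval_cases i <;> simp, rfl⟩, ?_⟩
      show q (ren [0, 1, 2, 3, 4, 5] i) = QuotientGroup.mk (v x)
      rw [ren_id hi, e', q]
  | one => exact one_mem _
  | mul a b ha hb iha ihb => exact mul_mem iha ihb
  | inv a ha iha => exact inv_mem iha

theorem card_H : Nat.card H = 251596800 := by
  obtain ⟨e⟩ := CosetCertG24.iso
  rw [Nat.card_congr e.toEquiv, Cfsg.Agent.S1059.result (q := 4) rfl]
  norm_num

theorem ne_one : q 0 ≠ 1 := by
  rw [q, Ne, QuotientGroup.eq_one_iff]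
  intro h
  have hz : Subgroup.zpowers neg ≤ Subgroup.center E := neg_center
  have h1 : (toM (mat 0)) 0 3 ≠ 0 := by decide +kernel
  obtain ⟨k, hk⟩ := Subgroup.mem_zpowers_iff.1 h
  have h2 : ∀ k : ℤ, ((((neg ^ k : E) : M12ˣ) : M12)) 0 3 = 0 := by
    intro k
    rw [Subgroup.coe_zpow, show ((neg : E) : M12ˣ) = -1 from rfl]
    rcases Int.even_or_odd k with hk' | hk'
    · rw [hk'.neg_one_zpow]; simp
    · rw [hk'.neg_one_zpow]; simp
  exact h1 ((congrArg (fun e : E => (((e : M12ˣ) : M12)) 0 3) hk).symm.trans (h2 k))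

/-- The group modulo the sign is the group of type G2. -/
theorem quot_iso : Nonempty (Q ≃* chevG2.group K4) := by
  obtain ⟨e⟩ := CosetCertG24.iso
  obtain ⟨hfin, hle⟩ := bound1
  set S := span pair [0, 1, 2, 3, 4, 5]
  let f1 : S →* H := ((MonoidHom.fst _ Q).comp S.subtype).codRestrict H fun p =>
    map_fst ▸ Subgroup.mem_map_of_mem (MonoidHom.fst _ Q) p.2
  have hf1 : Function.Surjective f1 := fun y => by
    obtain ⟨p, hp, hpy⟩ : y.1 ∈ S.map (MonoidHom.fst _ Q) := map_fst.symm ▸ y.2
    exact ⟨⟨p, hp⟩, Subtype.ext hpy⟩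
  have b1 : Function.Bijective f1 := hf1.bijective_of_nat_card_le (hle.trans_eq card_H.symm)
  let f2 : S →* Q := (MonoidHom.snd CosetCertSuzGData.pres.Grp Q).comp S.subtype
  have hf2 : Function.Surjective f2 := fun y => by
    obtain ⟨p, hp, hpy⟩ : y ∈ S.map (MonoidHom.snd CosetCertSuzGData.pres.Grp Q) :=
      map_snd.symm ▸ Subgroup.mem_top y
    exact ⟨⟨p, hp⟩, hpy⟩
  let ψ : chevG2.group K4 →* Q :=
    f2.comp ((MulEquiv.ofBijective f1 b1).symm.toMonoidHom.comp e.symm.toMonoidHom)
  have hψ : Function.Surjective ψ :=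
    hf2.comp ((MulEquiv.ofBijective f1 b1).symm.surjective.comp e.symm.surjective)
  have : IsSimpleGroup ↥(chevG2.group K4) :=
    (Cfsg.Agent.S1055.result ⟨K4.a, by decide, by decide⟩).1
  refine ⟨(MulEquiv.ofBijective ψ ⟨?_, hψ⟩).symm⟩
  rw [← MonoidHom.ker_eq_bot_iff]
  refine (Subgroup.Normal.eq_bot_or_eq_top (inferInstance : ψ.ker.Normal)).resolve_right fun h => ne_one ?_
  obtain ⟨y, hy⟩ := hψ (q 0)
  rw [← hy]
  exact (MonoidHom.mem_ker).1 (h ▸ Subgroup.mem_top y)

/-! ### The stem extension -/

theorem e_sq : (v 4 : E) * v 4 = neg := by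
  apply Subtype.ext
  apply Units.ext
  show toM (mat 4) * toM (mat 4) = ((-1 : M12ˣ) : M12)
  rw [← (toM_mul (mat_ok 4).1 (mat_ok 4).1).1, show mulL (mat 4) (mat 4) = diagL 10 by decide +kernel,
    toM_neg, Units.val_neg, Units.val_one]

theorem neg_sq : neg * neg = 1 := by
  apply Subtype.ext
  show ((-1 : M12ˣ)) * (-1) = 1
  simp

theorem neg_ne_one : neg ≠ 1 := by
  intro h
  have h' := congrArg (fun e : E => (((e : M12ˣ) : M12)) 0 0) h
  simp only [neg, Units.val_neg, Units.val_one, Matrix.neg_apply, Matrix.one_apply_eq,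
    OneMemClass.coe_one] at h'
  exact absurd h' (by decide)

theorem neg_commutator : neg ∈ commutator E := by
  obtain ⟨φ⟩ := quot_iso
  obtain ⟨hsim, hnc⟩ := Cfsg.Agent.S1055.result (F := K4) ⟨K4.a, by decide, by decide⟩
  have hG : commutator ↥(chevG2.group K4) = ⊤ := by
    refine (Subgroup.Normal.eq_bot_or_eq_top (inferInstance : (commutator _).Normal)).resolve_left fun h => hnc ?_
    refine ⟨⟨fun a b => ?_⟩⟩
    have := Subgroup.commutator_mem_commutator (Subgroup.mem_top a) (Subgroup.mem_top b)
    rw [← _root_.commutator_def, h, Subgroup.mem_bot, commutatorElement_eq_one_iff_commute] at this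
    exact this
  have hQ : commutator Q = ⊤ := by
    have h : (commutator ↥(chevG2.group K4)).map φ.symm.toMonoidHom = commutator Q := by
      rw [_root_.commutator_def, Subgroup.map_commutator, Subgroup.map_top_of_surjective _ φ.symm.surjective,
        ← _root_.commutator_def]
    rw [← h, hG, Subgroup.map_top_of_surjective _ φ.symm.surjective]
  have hm : (QuotientGroup.mk (v 4) : Q) ∈ (commutator E).map (QuotientGroup.mk' (Subgroup.zpowers neg)) := by
    rw [_root_.commutator_def, Subgroup.map_commutator,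
      Subgroup.map_top_of_surjective _ (QuotientGroup.mk'_surjective _), ← _root_.commutator_def, hQ]
    trivial
  obtain ⟨d, hd, hde⟩ := hm
  have hz : d⁻¹ * v 4 ∈ Subgroup.zpowers neg := QuotientGroup.eq.1 hde
  set z := d⁻¹ * v 4 with hzdef
  have hz2 : z * z = 1 := by
    obtain ⟨k, hk⟩ := Subgroup.mem_zpowers_iff.1 hz
    rw [← hk, ← Commute.mul_zpow (Commute.refl neg), neg_sq, one_zpow]
  have hc : d * z = z * d := Subgroup.mem_center_iff.1 (neg_center hz) d
  have e : neg = d * d := by
    rw [← e_sq, show v 4 = d * z by rw [hzdef, mul_inv_cancel_left], mul_assoc, ← mul_assoc z d z, ← hc,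
      mul_assoc d z z, hz2, mul_one]
  rw [e]
  exact mul_mem hd hd

universe w

/-- A double cover which is a stem extension. -/
theorem exists_cover {F : Type w} [Field F] [Fintype F] (hF : Fintype.card F = 4) :
    ∃ (Γ : Type w) (_ : Group Γ) (_ : Finite Γ) (σ : Γ →* ↥(chevG2.group F)),
      Cfsg.IsStemExtension σ ∧ Nonempty (σ.ker ≃* Multiplicative (ZMod 2)) := by
  obtain ⟨φ⟩ := quot_iso
  obtain ⟨r⟩ : Nonempty (K4 ≃+* F) := ⟨FiniteField.ringEquivOfCardEq (by rw [K4.card_eq, hF])⟩
  obtain ⟨ψ⟩ := Cfsg.Agent.S3662.nonempty_equiv chevG2 r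
  let up : ULift.{w} E ≃* E := MulEquiv.ulift
  let σ : ULift.{w} E →* ↥(chevG2.group F) :=
    ((φ.trans ψ).toMonoidHom.comp (QuotientGroup.mk' (Subgroup.zpowers neg))).comp up.toMonoidHom
  have hk : ∀ x, σ x = 1 ↔ up x ∈ Subgroup.zpowers neg := fun x => by
    show (φ.trans ψ) (QuotientGroup.mk' _ (up x)) = 1 ↔ _
    rw [(φ.trans ψ).map_eq_one_iff, QuotientGroup.mk'_apply, QuotientGroup.eq_one_iff]
  have : Finite E := inferInstance
  refine ⟨ULift.{w} E, inferInstance, inferInstance, σ, ⟨?_, ?_, ?_⟩, ⟨?_⟩⟩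
  · exact ((φ.trans ψ).surjective.comp (QuotientGroup.mk'_surjective _)).comp up.surjective
  · intro x hx
    refine Subgroup.mem_center_iff.2 fun y => up.injective ?_
    rw [map_mul, map_mul]
    exact Subgroup.mem_center_iff.1 (neg_center ((hk x).1 hx)) (up y)
  · intro x hx
    have hm : up.symm (up x) ∈ (commutator E).map up.symm.toMonoidHom :=
      ⟨_, Subgroup.zpowers_le.2 neg_commutator ((hk x).1 hx), rfl⟩
    rw [up.symm_apply_apply, _root_.commutator_def, Subgroup.map_commutator,
      Subgroup.map_top_of_surjective _ up.symm.surjective, ← _root_.commutator_def] at hm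
    exact hm
  · let e1 : σ.ker ≃* Subgroup.zpowers neg :=
      { toFun := fun x => ⟨up x.1, (hk x.1).1 x.2⟩
        invFun := fun y => ⟨up.symm y.1, (hk _).2 (by rw [up.apply_symm_apply]; exact y.2)⟩
        left_inv := fun x => Subtype.ext (up.symm_apply_apply _)
        right_inv := fun y => Subtype.ext (up.apply_symm_apply _)
        map_mul' := fun a b => Subtype.ext (map_mul up _ _) }
    have ho : orderOf neg = 2 := orderOf_eq_prime (by rw [sq, neg_sq]) neg_ne_one
    have hc : Nat.card (Subgroup.zpowers neg) = Nat.card (Multiplicative (ZMod 2)) := by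
      rw [Nat.card_zpowers, ho]; simp
    exact e1.trans (mulEquivOfCyclicCardEq hc)

end Cfsg.Agent.G2FourCover16
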