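import Cfsg.Agent.Lib.IcosianRefl

set_option autoImplicit false
set_option maxRecDepth 100000

/-! The 315 reflections as permutations of the lattice. -/

namespace Cfsg.Agent.J2Lines

open Cfsg.Agent.IcosianData Cfsg.Agent.IcosianCoords Cfsg.Agent.IcosianRefl Cfsg.Agent.J2VectorData Cfsg.Spor
  Quaternion

/-- The `i`-th entry of a packed permutation. -/
def getP (P i : ℕ) : ℕ := (P >>> (9 * i)) % 512
/-- A root. -/
def root (k : ℕ) : Ico3 := roots.getD k ⟨zero, zero, zero⟩
/-- Image line of a root under a generator. -/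
def gimg (g k : ℕ) : ℕ := getP (genPerm.getD g 0) k
/-- The unit relating the image to its line. -/
def gunit (g k : ℕ) : Ico := units.getD ((genUnit.getD g 0 >>> (16 * k)) % 65536) zero

theorem table_ok : ∀ g < 4, ((List.range 315).all fun k =>
    decide (gimg g k < 315) && decide ((genUnit.getD g 0 >>> (16 * k)) % 65536 < 120) &&
    decide (gimg g (gimg g k) = k) &&
    reflOK (root (genIdx.getD g 0)) (root k) && mulOK (gunit g k) (root (gimg g k)) &&
    decide (reflC (root (genIdx.getD g 0)) (root k) = mul3 (gunit g k) (root (gimg g k)))) = true := by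
  decide +kernel

theorem genIdx_facts : genIdx.length = 4 ∧ (∀ k ∈ genIdx, k < 315) := by decide +kernel

theorem tree_ok : ((List.range 315).all fun k => decide (k = 0) ||
    (decide ((rootTree.getD k (0, 0)).1 < 4) && decide ((rootTree.getD k (0, 0)).2 < 315) &&
     decide (gimg (rootTree.getD k (0, 0)).1 (rootTree.getD k (0, 0)).2 = k) &&
     decide (rootDepth.getD (rootTree.getD k (0, 0)).2 0 < rootDepth.getD k 0))) = true := by
  decide +kernel

theorem root_zero_ok : norm4 (root 0) = true ∧ inL (root 0) = true := by decide +kernel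

lemma gidx_mem {g : ℕ} (hg : g < 4) : genIdx.getD g 0 ∈ genIdx := by
  have h := genIdx_facts.1
  rw [List.getD_eq_getElem _ _ (by omega)]
  exact List.getElem_mem _

/-- The image of a root under a generator. -/
theorem gen_root {g k : ℕ} (hg : g < 4) (hk : k < 315) :
    gimg g k < 315 ∧ gimg g (gimg g k) = k ∧ gunit g k ∈ units ∧
      qrefl (val3 (root (genIdx.getD g 0))) (val3 (root k)) = lsmul (val (gunit g k)) (val3 (root (gimg g k))) := by
  have h := List.all_eq_true.mp (table_ok g hg) k (List.mem_range.mpr hk)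
  simp only [Bool.and_eq_true, decide_eq_true_eq] at h
  obtain ⟨⟨⟨⟨⟨h1, h2⟩, h3⟩, h4⟩, h5⟩, h6⟩ := h
  refine ⟨h1, h3, ?_, ?_⟩
  · rw [gunit, List.getD_eq_getElem _ _ (by rw [show units.length = 120 from rfl]; exact h2)]
    exact List.getElem_mem _
  · rw [qrefl_val3 h4, h6, val3_mul3 h5]

theorem gen_norm {g : ℕ} (hg : g < 4) :
    qip (val3 (root (genIdx.getD g 0))) (val3 (root (genIdx.getD g 0))) = 4 := by
  have h := gens_refl_ok _ (gidx_mem hg)
  simp only [Bool.and_eq_true] at h
  exact (norm4_iff _).mp h.1.1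

theorem gen_lattice {g : ℕ} (hg : g < 4) {x : Fin 3 → ℍ[ℝ]} (hx : x ∈ icoLeech) :
    qrefl (val3 (root (genIdx.getD g 0))) x ∈ icoLeech := gen_preserves (gidx_mem hg) hx

lemma root_eq {g k : ℕ} (hg : g < 4) (hk : k < 315) :
    val3 (root (gimg g k)) = lsmul (star (val (gunit g k))) (qrefl (val3 (root (genIdx.getD g 0))) (val3 (root k))) := by
  obtain ⟨-, -, hu, he⟩ := gen_root hg hk
  rw [he]
  funext t
  simp only [lsmul]
  rw [← mul_assoc, (unit_star hu).1, one_mul]

/-- Everything about a line. -/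
theorem root_facts : ∀ k < 315, val3 (root k) ∈ icoLeech ∧ qip (val3 (root k)) (val3 (root k)) = 4 ∧
    ∀ x ∈ icoLeech, qrefl (val3 (root k)) x ∈ icoLeech := by
  have key : ∀ d : ℕ, ∀ k < 315, rootDepth.getD k 0 = d → val3 (root k) ∈ icoLeech ∧
      qip (val3 (root k)) (val3 (root k)) = 4 ∧ ∀ x ∈ icoLeech, qrefl (val3 (root k)) x ∈ icoLeech := by
    intro d
    induction d using Nat.strong_induction_on with
    | _ d ih =>
      intro k hk hd
      by_cases h0 : k = 0
      · subst h0
        refine ⟨(inL_iff _).mp root_zero_ok.2, (norm4_iff _).mp root_zero_ok.1, fun x hx => ?_⟩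
        have : (0 : ℕ) = genIdx.getD 0 0 := rfl
        rw [this]
        exact gen_lattice (by norm_num) hx
      have h := List.all_eq_true.mp tree_ok k (List.mem_range.mpr hk)
      simp only [Bool.or_eq_true, Bool.and_eq_true, decide_eq_true_eq, h0, false_or] at h
      set g := (rootTree.getD k (0, 0)).1
      set p := (rootTree.getD k (0, 0)).2
      obtain ⟨⟨⟨hg, hp⟩, hke⟩, hlt⟩ := h
      obtain ⟨pl, pn, pp⟩ := ih _ (hd ▸ hlt) p hp rfl
      obtain ⟨-, -, hu, -⟩ := gen_root hg hp
      obtain ⟨-, hst, -, hic⟩ := units_norm _ hu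
      have hsu := unit_star hu
      rw [← hke, root_eq hg hp]
      refine ⟨?_, ?_, fun x hx => ?_⟩
      · exact lattice_smul ((mem_icosians _).mpr ⟨conj (gunit g p), hic, val_conj _⟩) (gen_lattice hg pl)
      · rw [qip_lsmul_left, qip_lsmul_right, qip_qrefl (gen_norm hg), pn, star_star]
        have h4 : (4 : ℍ[ℝ]) * val (gunit g p) = val (gunit g p) * 4 := by
          simp [show (4 : ℍ[ℝ]) = 1 + 1 + 1 + 1 by norm_num, add_mul, mul_add]
        rw [h4, ← mul_assoc, hsu.1, one_mul]
      · rw [qrefl_unit (by rw [star_star]; exact hsu.2), ← qrefl_conj (gen_norm hg)]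
        exact gen_lattice hg (pp _ (gen_lattice hg hx))
  exact fun k hk => key _ k hk rfl

/-- The reflection in a line. -/
noncomputable def refl (k : Fin 315) : Equiv.Perm icoLeech :=
  Function.Involutive.toPerm (fun x => ⟨qrefl (val3 (root k)) x, (root_facts k k.2).2.2 x x.2⟩)
    fun x => Subtype.ext (qrefl_qrefl (root_facts k k.2).2.1 x)

lemma refl_apply (k : Fin 315) (x : icoLeech) :
    ((refl k x : icoLeech) : Fin 3 → ℍ[ℝ]) = qrefl (val3 (root k)) x := rfl

lemma refl_inv (k : Fin 315) : (refl k)⁻¹ = refl k := Equiv.ext fun x =>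
  Subtype.ext (by rw [Equiv.Perm.inv_def]; rfl)

lemma refl_mul_self (k : Fin 315) : refl k * refl k = 1 := by
  conv_lhs => arg 1; rw [← refl_inv k]
  exact inv_mul_cancel _

theorem isRefl_refl (k : Fin 315) : IsIcoReflection (refl k) :=
  ⟨⟨val3 (root k), (root_facts k k.2).1⟩, (root_facts k k.2).2.1, refl_apply k⟩

/-- Index of a generator. -/
def gfin (g : Fin 4) : Fin 315 :=
  ⟨genIdx.getD g 0, genIdx_facts.2 _ (gidx_mem g.2)⟩

/-- The permutation of lines induced by a generator. -/
def gperm (g : Fin 4) : Equiv.Perm (Fin 315) :=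
  Function.Involutive.toPerm (fun k => ⟨gimg g k, (gen_root g.2 k.2).1⟩)
    fun k => Fin.ext (gen_root g.2 k.2).2.1

lemma gperm_apply (g : Fin 4) (k : Fin 315) : (gperm g k : ℕ) = gimg g k := rfl

theorem refl_conj (g : Fin 4) (k : Fin 315) :
    refl (gfin g) * refl k * (refl (gfin g))⁻¹ = refl (gperm g k) := by
  obtain ⟨-, -, hu, he⟩ := gen_root g.2 k.2
  refine Equiv.ext fun x => Subtype.ext ?_
  rw [refl_inv, Equiv.Perm.mul_apply, Equiv.Perm.mul_apply, refl_apply, refl_apply, refl_apply, refl_apply]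
  show qrefl (val3 (root (genIdx.getD g 0))) (qrefl (val3 (root k)) (qrefl (val3 (root (genIdx.getD g 0))) x)) =
    qrefl (val3 (root (gimg g k))) x
  rw [qrefl_conj (gen_norm g.2), he, qrefl_unit (unit_star hu).1]

end Cfsg.Agent.J2Lines
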