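import Cfsg.Agent.Lib.G2FourModule

/-!
Packed six by six matrices over the field with four elements: one number, twelve bits per row.
-/

set_option autoImplicit false
set_option maxRecDepth 100000

namespace Cfsg.Agent.PackedMat45

open Cfsg.Agent.FieldFour15 Cfsg.Agent.G2FourModule

/-- The field element with a given code. -/
def ofCode : ℕ → K4
  | 0 => .o
  | 1 => .l
  | 2 => .a
  | _ => .b

/-- An entry of a packed row. -/
def ent (r j : ℕ) : K4 := ofCode ((r >>> (2 * j)) % 4)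

/-- A row of a packed matrix. -/
def row (P i : ℕ) : ℕ := (P >>> (12 * i)) % 4096

/-- Decoding. -/
def dec (P : ℕ) : M6 := Matrix.of fun i j => ent (row P i.1) j.1

/-- A packed row times the generator of the field. -/
def timesA (r : ℕ) : ℕ :=
  ((r >>> 1) &&& 0x555) ^^^ (2 * ((r &&& 0x555) ^^^ ((r >>> 1) &&& 0x555)))

/-- A packed row times a field element. -/
def scal (c r : ℕ) : ℕ :=
  match c with
  | 0 => 0
  | 1 => r
  | 2 => timesA r
  | _ => r ^^^ timesA r

/-- A packed row times a packed matrix. -/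
@[irreducible] def mulRow (r Q : ℕ) : ℕ :=
  scal (r % 4) (row Q 0) ^^^ scal ((r >>> 2) % 4) (row Q 1) ^^^ scal ((r >>> 4) % 4) (row Q 2) ^^^
    scal ((r >>> 6) % 4) (row Q 3) ^^^ scal ((r >>> 8) % 4) (row Q 4) ^^^ scal ((r >>> 10) % 4) (row Q 5)

/-- The product of packed matrices. -/
def mulP (P Q : ℕ) : ℕ :=
  mulRow (row P 0) Q % 4096 + (mulRow (row P 1) Q % 4096) <<< 12 + (mulRow (row P 2) Q % 4096) <<< 24 +
    (mulRow (row P 3) Q % 4096) <<< 36 + (mulRow (row P 4) Q % 4096) <<< 48 +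
    (mulRow (row P 5) Q % 4096) <<< 60

/-- The packed identity. -/
def oneP : ℕ :=
  1 + 1 <<< 14 + 1 <<< 28 + 1 <<< 42 + 1 <<< 56 + 1 <<< 70

theorem ent_mod (r : ℕ) (j : Fin 6) : ent (r % 4096) j.1 = ent r j.1 := by
  unfold ent
  congr 1
  fin_cases j <;> simp [Nat.shiftRight_eq_div_pow] <;> omega

theorem ofCode_xor : ∀ a < 4, ∀ b < 4, ofCode (a ^^^ b) = ofCode a + ofCode b := by decide

theorem ent_xor (r s j : ℕ) : ent (r ^^^ s) j = ent r j + ent s j := by
  rw [ent, Nat.shiftRight_xor_distrib, show (4 : ℕ) = 2 ^ 2 from rfl, Nat.xor_mod_two_pow]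
  exact ofCode_xor _ (Nat.mod_lt _ (by norm_num)) _ (Nat.mod_lt _ (by norm_num))

theorem timesA_ent : ∀ r < 4096, ∀ j < 6, ent (timesA r) j = .a * ent r j := by decide +kernel

theorem scal_ent {c r j : ℕ} (hc : c < 4) (hr : r < 4096) (hj : j < 6) :
    ent (scal c r) j = ofCode c * ent r j := by
  have key : ∀ x : K4, (0 : K4) * x = 0 ∧ x = K4.l * x ∧ x + K4.a * x = K4.b * x := by decide
  interval_cases c
  · simp [scal, ent, ofCode]
    exact (key _).1.symm
  · exact (key _).2.1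
  · exact timesA_ent r hr j hj
  · show ent (r ^^^ timesA r) j = _
    rw [ent_xor, timesA_ent r hr j hj]
    exact (key _).2.2

theorem row_lt (P i : ℕ) : row P i < 4096 := Nat.mod_lt _ (by norm_num)

theorem ent_mulRow (r Q : ℕ) (j : Fin 6) :
    ent (mulRow r Q) j.1 = ∑ k : Fin 6, ent r k.1 * dec Q k j := by
  have h4 : ∀ n : ℕ, n % 4 < 4 := fun n => Nat.mod_lt _ (by norm_num)
  unfold mulRow
  simp only [ent_xor, scal_ent (h4 _) (row_lt _ _) j.2, Fin.sum_univ_six, dec, Matrix.of_apply]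
  rfl

theorem row_pack (a0 a1 a2 a3 a4 a5 : ℕ) (h0 : a0 < 4096) (h1 : a1 < 4096) (h2 : a2 < 4096)
    (h3 : a3 < 4096) (h4 : a4 < 4096) (h5 : a5 < 4096) (i : Fin 6) :
    row (a0 + a1 <<< 12 + a2 <<< 24 + a3 <<< 36 + a4 <<< 48 + a5 <<< 60) i.1 = ![a0, a1, a2, a3, a4, a5] i := by
  rw [row]
  simp only [Nat.shiftLeft_eq, Nat.shiftRight_eq_div_pow]
  fin_cases i
  · show _ = a0
    norm_num; omega
  · show _ = a1
    norm_num; omega
  · show _ = a2
    norm_num; omega
  · show _ = a3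
    norm_num; omega
  · show _ = a4
    norm_num; omega
  · show _ = a5
    norm_num; omega

theorem row_mulP (P Q : ℕ) (i : Fin 6) : row (mulP P Q) i.1 = mulRow (row P i.1) Q % 4096 := by
  have key : ∀ f : ℕ → ℕ, (∀ k, f k < 4096) →
      row (f 0 + (f 1) <<< 12 + (f 2) <<< 24 + (f 3) <<< 36 + (f 4) <<< 48 + (f 5) <<< 60) i.1 = f i.1 := by
    intro f hf
    rw [row_pack (f 0) (f 1) (f 2) (f 3) (f 4) (f 5) (hf 0) (hf 1) (hf 2) (hf 3) (hf 4) (hf 5)]
    fin_cases i <;> rfl
  unfold mulP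
  exact key (fun k => mulRow (row P k) Q % 4096) (fun k => Nat.mod_lt _ (by norm_num))

theorem dec_mulP (P Q : ℕ) : dec (mulP P Q) = dec P * dec Q := by
  ext i j
  rw [Matrix.mul_apply]
  show ent (row (mulP P Q) i.1) j.1 = _
  rw [row_mulP, ent_mod, ent_mulRow]
  rfl

theorem dec_oneP : dec oneP = 1 :=
  eq_of_ent6 (by decide +kernel)

/-- The product of a list of packed matrices. -/
def prodP : List ℕ → ℕ
  | [] => oneP
  | P :: w => mulP P (prodP w)

theorem dec_prodP (w : List ℕ) : dec (prodP w) = (w.map dec).prod := by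
  induction w with
  | nil => exact dec_oneP
  | cons P w ih => rw [prodP, dec_mulP, ih, List.map_cons, List.prod_cons]

/-- A Boolean test for equality of products. -/
def sameP (P Q : ℕ) : Bool := Nat.beq P Q

theorem eq_of_sameP {P Q : ℕ} (h : sameP P Q = true) : dec P = dec Q :=
  congrArg dec (Nat.eq_of_beq_eq_true h)

/-- Some entry differs. -/
def diffP (P Q : ℕ) : Bool := !ent6.all fun e => decide (dec P e.1 e.2 = dec Q e.1 e.2)

theorem ne_of_diffP {P Q : ℕ} (h : diffP P Q = true) : dec P ≠ dec Q := by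
  intro e
  simp [diffP, e] at h

end Cfsg.Agent.PackedMat45
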