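import Cfsg.Agent.Lib.G2FourJ2Data45
import Cfsg.Agent.Lib.PackedMat45
import Cfsg.Agent.Lib.J2Lines

/-! Kernel checks on the matrices of the Hall-Janko subgroup of G2(4). -/

set_option autoImplicit false
set_option maxRecDepth 100000

namespace Cfsg.Agent.G2FourJ2Checks45

open Cfsg.Agent.FieldFour15 Cfsg.Agent.G2FourModule Cfsg.Agent.G2FourJ2Data45
  Cfsg.Agent.PackedMat45
open scoped Matrix

/-- The packed matrix of a line. -/
def LP (k : Fin 315) : ℕ := (lineBits >>> (72 * k.1)) % 4722366482869645213696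

/-- The packed spanning matrices. -/
def WP (k : Fin 36) : ℕ := (spanBits >>> (72 * k.1)) % 4722366482869645213696

/-- The matrix of a line. -/
def L (k : Fin 315) : M6 := dec (LP k)

/-- The spanning matrices. -/
def W (k : Fin 36) : M6 := dec (WP k)

/-- The coefficient of a spanning matrix in a target. -/
def coefK (i : Fin 6) (k : Fin 36) : K4 := ofCode (((spanCoef.getD i.1 0) >>> (2 * k.1)) % 4)

/-- The code of a field element. -/
def toCode : K4 → ℕ
  | .o => 0
  | .l => 1
  | .a => 2
  | .b => 3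

/-- A packed root element. -/
def XP (p : Fin 12 × K4) : ℕ :=
  (ent6.map fun e => toCode (X p.1 p.2 e.1 e.2) * 2 ^ (12 * e.1.1 + 2 * e.2.1)).sum

theorem dec_XP (p : Fin 12 × K4) : dec (XP p) = X p.1 p.2 := by
  have h : ∀ p : Fin 12 × K4, ∀ e ∈ ent6, dec (XP p) e.1 e.2 = X p.1 p.2 e.1 e.2 := by decide +kernel
  exact eq_of_ent6 (h p)

/-- The matrix of a word in root elements. -/
def rootProd (w : List (Fin 12 × K4)) : M6 := (w.map fun p => X p.1 p.2).prod

/-- The matrix of a word in the generators. -/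
def genProd (w : List (Fin 4)) : M6 := (w.map fun g => L (J2Lines.gfin g)).prod

/-- A packed word in root elements. -/
def rootP (w : List (Fin 12 × K4)) : ℕ := prodP (w.map XP)

/-- A packed word in the generators. -/
def genP (w : List (Fin 4)) : ℕ := prodP (w.map fun g => LP (J2Lines.gfin g))

theorem dec_rootP (w : List (Fin 12 × K4)) : dec (rootP w) = rootProd w := by
  rw [rootP, dec_prodP, List.map_map, rootProd]
  simp only [Function.comp_def, dec_XP]

theorem dec_genP (w : List (Fin 4)) : dec (genP w) = genProd w := by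
  rw [genP, dec_prodP, List.map_map, genProd]
  rfl

/-- The word of a representative. -/
def xw (n : Fin 2) : List (Fin 12 × K4) := xRoots.getD n.1 []

/-- The word of a generator of a line subgroup. -/
def sw (n j : Fin 2) : List (Fin 4) := (subWords.getD n.1 []).getD j.1 []

/-- The word of its conjugate. -/
def cw (n j : Fin 2) : List (Fin 4) := (conjWords.getD n.1 []).getD j.1 []

/-- The witnessing pair. -/
def bad (n : Fin 2) : Fin 4 × Fin 315 := badPair.getD n.1 (0, 0)

theorem gen_roots_ok : ∀ g : Fin 4,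
    sameP (rootP (genRoots.getD g.1 [])) (LP (J2Lines.gfin g)) = true := by
  decide +kernel

theorem gen_roots (g : Fin 4) : rootProd (genRoots.getD g.1 []) = L (J2Lines.gfin g) := by
  rw [← dec_rootP]; exact eq_of_sameP (gen_roots_ok g)

theorem span_ok : ∀ k : Fin 36, sameP (WP k) (if k = 0 then oneP else
    mulP (LP (J2Lines.gfin (spanPar.getD k.1 (0, 0)).1)) (WP (spanPar.getD k.1 (0, 0)).2)) = true := by
  decide +kernel

theorem span_step (k : Fin 36) : W k = if k = 0 then 1 else
    L (J2Lines.gfin (spanPar.getD k.1 (0, 0)).1) * W (spanPar.getD k.1 (0, 0)).2 := by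
  rw [W, eq_of_sameP (span_ok k), apply_ite dec, dec_oneP, dec_mulP]
  rfl

theorem span_lt : ∀ k : Fin 36, k ≠ 0 → (spanPar.getD k.1 (0, 0)).2 < k := by
  decide +kernel

theorem span_target : ∀ i : Fin 6, ∀ e ∈ ent6,
    ((List.finRange 36).map fun k => coefK i k * W k e.1 e.2).sum =
      if e.1 = i ∧ e.2 = 0 then 1 else 0 := by
  decide +kernel

theorem x_conj_ok : ∀ n j : Fin 2,
    sameP (mulP (genP (sw n j)) (rootP (xw n))) (mulP (rootP (xw n)) (genP (cw n j))) = true := by
  decide +kernel

theorem x_conj (n j : Fin 2) :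
    genProd (sw n j) * rootProd (xw n) = rootProd (xw n) * genProd (cw n j) := by
  rw [← dec_genP, ← dec_genP, ← dec_rootP, ← dec_mulP, ← dec_mulP]
  exact eq_of_sameP (x_conj_ok n j)

theorem bad_ok : ∀ n : Fin 2,
    sameP (mulP (rootP (xw n).reverse) (mulP (LP (J2Lines.gfin (bad n).1)) (rootP (xw n))))
        (badElt.getD n.1 0) = true ∧
      sameP (mulP (badElt.getD n.1 0) (LP (bad n).2))
        (mulP (badConj.getD n.1 0) (badElt.getD n.1 0)) = true ∧
      (List.finRange 315).all (fun j => diffP (badConj.getD n.1 0) (LP j)) = true := by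
  decide +kernel

theorem x_bad (n : Fin 2) : ∃ y z : M6,
    y = rootProd (xw n).reverse * (L (J2Lines.gfin (bad n).1) * rootProd (xw n)) ∧
      y * L (bad n).2 = z * y ∧ ∀ j, z ≠ L j := by
  obtain ⟨h1, h2, h3⟩ := bad_ok n
  refine ⟨dec (badElt.getD n.1 0), dec (badConj.getD n.1 0), ?_, ?_, fun j =>
    ne_of_diffP (List.all_eq_true.mp h3 j (List.mem_finRange j))⟩
  · rw [← eq_of_sameP h1, dec_mulP, dec_mulP, dec_rootP, dec_rootP]
    rfl
  · rw [L, ← dec_mulP, ← dec_mulP]
    exact eq_of_sameP h2

theorem base_ok : (List.finRange 315).all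
    (fun k => decide (k = 0) || diffP (LP 0) (LP k)) = true := by
  decide +kernel

theorem base_ne {k : Fin 315} (hk : k ≠ 0) : L 0 ≠ L k := by
  have h := List.all_eq_true.mp base_ok k (List.mem_finRange k)
  simp only [hk, decide_false, Bool.false_or] at h
  exact ne_of_diffP h

theorem conj_ok : ∀ g : Fin 4, (List.finRange 315).all (fun k =>
    sameP (mulP (LP (J2Lines.gfin g)) (LP k))
      (mulP (LP (J2Lines.gperm g k)) (LP (J2Lines.gfin g)))) = true := by
  decide +kernel

theorem conj_gen (g : Fin 4) (k : Fin 315) :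
    L (J2Lines.gfin g) * L k = L (J2Lines.gperm g k) * L (J2Lines.gfin g) := by
  rw [L, L, L, ← dec_mulP, ← dec_mulP]
  exact eq_of_sameP (List.all_eq_true.mp (conj_ok g) k (List.mem_finRange k))

end Cfsg.Agent.G2FourJ2Checks45
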