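import Cfsg.Agent.Lib.G2FourJ2Checks45
import Cfsg.Agent.Lib.J2Group

/-!
The subgroup of the six-dimensional matrix group of type G2 over the field with four elements
generated by four root involutions is isomorphic to the group of 315 lines.
-/

set_option autoImplicit false
set_option maxRecDepth 100000

namespace Cfsg.Agent.G2FourJ2Embed45

open Cfsg.Agent.FieldFour15 Cfsg.Agent.G2FourModule Cfsg.Agent.G2FourJ2Data45
  Cfsg.Agent.G2FourJ2Checks45 Cfsg.Agent.J2Lines Cfsg.Agent.J2Group
open scoped Matrix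

/-- The matrix of a group element. -/
def mat : ↥M →* M6 := (Units.coeHom M6).comp M.subtype

theorem mat_injective : Function.Injective mat := fun _ _ h => Subtype.ext (Units.ext h)

theorem mat_form (x : ↥M) : (mat x)ᵀ * J * mat x = J := form_of_mem x.2

/-- A word in root elements. -/
def xEl (w : List (Fin 12 × K4)) : ↥M :=
  (w.map fun p => (⟨gX p.1 p.2, gX_mem p.1 p.2⟩ : ↥M)).prod

theorem mat_xEl (w : List (Fin 12 × K4)) : mat (xEl w) = rootProd w := by
  rw [xEl, map_list_prod, List.map_map]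
  rfl

theorem xEl_reverse (w : List (Fin 12 × K4)) : xEl w.reverse = (xEl w)⁻¹ := by
  induction w with
  | nil => simp [xEl]
  | cons p w ih =>
    rw [xEl] at ih ⊢
    rw [List.reverse_cons, List.map_append, List.prod_append, ih, xEl, xEl, List.map_cons,
      List.map_cons, List.prod_cons, List.prod_cons, mul_inv_rev]
    congr 1
    simp only [List.map_cons, List.map_nil, List.prod_cons, List.prod_nil, mul_one]
    exact Subtype.ext (inv_eq_of_mul_eq_one_right (Units.ext (gX p.1 p.2).val_inv)).symm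

/-- A generator. -/
def gen (g : Fin 4) : ↥M := xEl (genRoots.getD g.1 [])

theorem mat_gen (g : Fin 4) : mat (gen g) = L (gfin g) := by
  rw [gen, mat_xEl, gen_roots]

/-- The subgroup. -/
def H : Subgroup ↥M := Subgroup.closure (Set.range gen)

/-- A word in the generators. -/
def wEl (w : List (Fin 4)) : ↥M := (w.map gen).prod

theorem mat_wEl (w : List (Fin 4)) : mat (wEl w) = genProd w := by
  rw [wEl, map_list_prod, List.map_map, genProd]
  simp only [Function.comp_def, mat_gen]

theorem gen_mem (g : Fin 4) : gen g ∈ H := Subgroup.subset_closure ⟨g, rfl⟩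

theorem wEl_mem (w : List (Fin 4)) : wEl w ∈ H :=
  list_prod_mem fun x hx => by
    obtain ⟨g, -, rfl⟩ := List.mem_map.1 hx
    exact gen_mem g

/-- A word of permutations. -/
def wPerm (w : List (Fin 4)) : Equiv.Perm (Fin 315) := (w.map gperm).prod

/-- A matrix moves the 315 line matrices by a permutation. -/
def Moves (B : ↥M) (σ : Equiv.Perm (Fin 315)) : Prop := ∀ k, mat B * L k = L (σ k) * mat B

theorem moves_one : Moves 1 1 := fun k => by simp

theorem moves_mul {B C : ↥M} {σ τ : Equiv.Perm (Fin 315)} (hB : Moves B σ) (hC : Moves C τ) :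
    Moves (B * C) (σ * τ) := fun k => by
  rw [map_mul, Equiv.Perm.mul_apply, mul_assoc, hC, ← mul_assoc, hB, mul_assoc]

theorem moves_inv {B : ↥M} {σ : Equiv.Perm (Fin 315)} (hB : Moves B σ) : Moves B⁻¹ σ⁻¹ := fun k => by
  have h := hB (σ⁻¹ k)
  rw [Equiv.Perm.inv_def, Equiv.apply_symm_apply] at h
  have e1 : mat B⁻¹ * mat B = 1 := by rw [← map_mul, inv_mul_cancel, map_one]
  have e2 : mat B * mat B⁻¹ = 1 := by rw [← map_mul, mul_inv_cancel, map_one]
  calc mat B⁻¹ * L k = mat B⁻¹ * (L k * mat B) * mat B⁻¹ := by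
        rw [mul_assoc, mul_assoc, e2, mul_one]
    _ = L (σ.symm k) * mat B⁻¹ := by
        rw [← h, ← mul_assoc, e1, one_mul]
    _ = L (σ⁻¹ k) * mat B⁻¹ := by rw [Equiv.Perm.inv_def]

theorem moves_gen (g : Fin 4) : Moves (gen g) (gperm g) := fun k => by
  rw [mat_gen]; exact conj_gen g k

theorem moves_wEl (w : List (Fin 4)) : Moves (wEl w) (wPerm w) := by
  induction w with
  | nil => simpa [wEl, wPerm] using moves_one
  | cons p w ih => simpa [wEl, wPerm] using moves_mul (moves_gen p) ih

theorem exists_lift {σ : Equiv.Perm (Fin 315)} (hσ : σ ∈ lineGroup) : ∃ B ∈ H, Moves B σ := by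
  induction hσ using Subgroup.closure_induction with
  | mem x hx => obtain ⟨g, rfl⟩ := hx; exact ⟨_, gen_mem g, moves_gen g⟩
  | one => exact ⟨1, one_mem _, moves_one⟩
  | mul a b _ _ ha hb =>
    obtain ⟨B, hB, h1⟩ := ha
    obtain ⟨C, hC, h2⟩ := hb
    exact ⟨B * C, mul_mem hB hC, moves_mul h1 h2⟩
  | inv a _ ha => obtain ⟨B, hB, h1⟩ := ha; exact ⟨B⁻¹, inv_mem hB, moves_inv h1⟩

theorem mat_cancel (B : ↥M) {P Q : M6} (h : P * mat B = Q * mat B) : P = Q := by
  have e2 : mat B * mat B⁻¹ = 1 := by rw [← map_mul, mul_inv_cancel, map_one]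
  simpa [mul_assoc, e2] using congrArg (· * mat B⁻¹) h

theorem mat_cancel_left (B : ↥M) {P Q : M6} (h : mat B * P = mat B * Q) : P = Q := by
  have e1 : mat B⁻¹ * mat B = 1 := by rw [← map_mul, inv_mul_cancel, map_one]
  simpa [← mul_assoc, e1] using congrArg (mat B⁻¹ * ·) h

theorem L_injective : Function.Injective L := by
  intro j k h
  obtain ⟨σ, hσ, hσj⟩ := lineGroup_transitive j
  obtain ⟨B, -, hB⟩ := exists_lift hσ
  by_contra hne
  have h0 : L 0 = L (σ.symm k) := by
    refine mat_cancel_left B ?_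
    rw [hB, hB, hσj, Equiv.apply_symm_apply, h]
  have hk : σ.symm k ≠ 0 := fun e => hne (by rw [← hσj, ← e, Equiv.apply_symm_apply])
  exact base_ne hk h0

theorem exists_perm {B : ↥M} (hB : B ∈ H) : ∃ σ ∈ lineGroup, Moves B σ := by
  induction hB using Subgroup.closure_induction with
  | mem x hx => obtain ⟨g, rfl⟩ := hx; exact ⟨_, gperm_mem g, moves_gen g⟩
  | one => exact ⟨1, one_mem _, moves_one⟩
  | mul a b _ _ ha hb =>
    obtain ⟨σ, hσ, h1⟩ := ha
    obtain ⟨τ, hτ, h2⟩ := hb
    exact ⟨σ * τ, mul_mem hσ hτ, moves_mul h1 h2⟩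
  | inv a _ ha => obtain ⟨σ, hσ, h1⟩ := ha; exact ⟨σ⁻¹, inv_mem hσ, moves_inv h1⟩

theorem perm_unique {B : ↥M} {σ τ : Equiv.Perm (Fin 315)} (h1 : Moves B σ) (h2 : Moves B τ) : σ = τ :=
  Equiv.ext fun k => L_injective (mat_cancel B ((h1 k).symm.trans (h2 k)))

/-- The action on the line matrices. -/
noncomputable def psi : ↥H →* lineGroup where
  toFun B := ⟨(exists_perm B.2).choose, (exists_perm B.2).choose_spec.1⟩
  map_one' := Subtype.ext (perm_unique (exists_perm (one_mem H)).choose_spec.2 moves_one)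
  map_mul' a b := Subtype.ext (perm_unique (exists_perm (mul_mem a.2 b.2)).choose_spec.2
    (moves_mul (exists_perm a.2).choose_spec.2 (exists_perm b.2).choose_spec.2))

theorem psi_spec (B : ↥H) : Moves B.1 (psi B).1 := (exists_perm B.2).choose_spec.2

theorem psi_surjective : Function.Surjective psi := by
  rintro ⟨σ, hσ⟩
  obtain ⟨B, hB, h⟩ := exists_lift hσ
  exact ⟨⟨B, hB⟩, Subtype.ext (perm_unique (psi_spec ⟨B, hB⟩) h)⟩

/-- A matrix commuting with the four generators commutes with the spanning matrices. -/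
theorem commute_W {B : M6} (hB : ∀ g : Fin 4, B * L (gfin g) = L (gfin g) * B) :
    ∀ k : Fin 36, B * W k = W k * B := by
  intro k
  induction hn : k.1 using Nat.strong_induction_on generalizing k with
  | _ n ih =>
    rw [span_step k]
    split_ifs with h
    · simp
    · rw [← mul_assoc, hB, mul_assoc, ih _ (hn ▸ span_lt k h) _ rfl, mul_assoc]

theorem target_eq (i : Fin 6) : ∑ k, coefK i k • W k = Matrix.single i 0 1 := by
  refine Matrix.ext fun r c => ?_
  rw [Matrix.sum_apply, Fin.sum_univ_def]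
  have h := span_target i (r, c) (by simp [ent6])
  simp only [Matrix.smul_apply, smul_eq_mul]
  rw [h, Matrix.single_apply]
  simp only [eq_comm]

theorem eq_one_of_commute {B : ↥M} (hB : ∀ g : Fin 4, mat B * L (gfin g) = L (gfin g) * mat B) :
    B = 1 := by
  have hs : ∀ i : Fin 6, mat B * Matrix.single i 0 1 = Matrix.single i 0 1 * mat B := by
    intro i
    rw [← target_eq, Finset.mul_sum, Finset.sum_mul]
    exact Finset.sum_congr rfl fun k _ => by rw [mul_smul_comm, smul_mul_assoc, commute_W hB]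
  have e1 : ∀ r i : Fin 6, mat B r i = if r = i then mat B 0 0 else 0 := by
    intro r i
    have h := congrFun (congrFun (hs i) r) 0
    rw [Matrix.mul_single_apply_same, mul_one] at h
    rw [h]
    split_ifs with e
    · subst e; rw [Matrix.single_mul_apply_same, one_mul]
    · rw [Matrix.single_mul_apply_of_ne _ _ _ _ _ e]
  have hm : mat B = Matrix.scalar (Fin 6) (mat B 0 0) := by
    ext r i
    rw [e1 r i, Matrix.scalar_apply, Matrix.diagonal_apply]
  have h5 := congrArg (fun P : M6 => P 0 5) (mat_form B)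
  rw [hm] at h5
  simp [Matrix.mul_apply, Fin.sum_univ_six, J, Matrix.scalar_apply] at h5
  have hc : ∀ c : K4, c * c = 1 → c = 1 := by decide
  refine mat_injective ?_
  rw [hm, hc _ h5, map_one, map_one]

theorem psi_injective : Function.Injective psi := by
  rw [injective_iff_map_eq_one]
  intro B hB
  refine Subtype.ext (eq_one_of_commute fun g => ?_)
  have h := psi_spec B (gfin g)
  rw [hB] at h
  simpa using h

/-- The subgroup is the group of lines. -/
noncomputable def equivH : ↥H ≃* lineGroup :=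
  MulEquiv.ofBijective psi ⟨psi_injective, psi_surjective⟩

theorem psi_wEl (w : List (Fin 4)) : (psi ⟨wEl w, wEl_mem w⟩ : Equiv.Perm (Fin 315)) = wPerm w :=
  perm_unique (psi_spec ⟨wEl w, wEl_mem w⟩) (moves_wEl w)

/-- The two representatives. -/
def rep (n : Fin 2) : ↥M := xEl (xw n)

theorem rep_conj (n j : Fin 2) : (rep n)⁻¹ * wEl (sw n j) * rep n = wEl (cw n j) := by
  have h : wEl (sw n j) * rep n = rep n * wEl (cw n j) := by
    refine mat_injective ?_
    simpa only [map_mul, mat_wEl, rep, mat_xEl] using x_conj n j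
  rw [mul_assoc, h, inv_mul_cancel_left]

theorem rep_moves (n : Fin 2) : ∃ a ∈ H, (rep n)⁻¹ * a * rep n ∉ H := by
  refine ⟨gen (bad n).1, gen_mem _, fun hy => ?_⟩
  obtain ⟨σ, -, hσ⟩ := exists_perm hy
  have h := hσ (bad n).2
  obtain ⟨y, z, hy', hz, hne⟩ := x_bad n
  have e : mat ((rep n)⁻¹ * gen (bad n).1 * rep n) = y := by
    rw [hy', rep, ← xEl_reverse, map_mul, map_mul, mat_xEl, mat_xEl, mat_gen, mul_assoc]
  rw [e, hz] at h
  refine hne (σ (bad n).2) (mat_cancel ((rep n)⁻¹ * gen (bad n).1 * rep n) ?_)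
  rw [e]
  exact h

end Cfsg.Agent.G2FourJ2Embed45
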