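import Mathlib

/-! Certificates for the action on a hundred sets of lines. -/

set_option autoImplicit false

namespace Cfsg.Agent.G2FourJ2SetData45

/-- Two words fixing the set 55. -/
def stabWords : List (List (Fin 4)) := [[2], [0, 1, 0, 3, 1, 3, 2, 0]]
/-- Image of each line under conjugation by the first representative, nine bits; 511 for none. -/
def conjImg : ℕ := 0x7ffffffffbdffffffffffffff12fffffffffffffffffffffffffffcebffffffc6bfe2d48ffffefd9b7fd29fffffffffffffffffffffffffffffffc7bff00ffffffef0ffffe31ffffffffffffffffffffffffffeedffffffffffffffffff1efffffffffa1bffff1ffffffff99ffffffffffffffff8a7ffffff14ffffea5ffc07ffff0afffff1fffffe71fffffffffff467ffffff37ffc29ffff88bfffffffffffffffbcbffff047ffffffffffffe2a417fffffffffffffffffffdddffffffcfdffffffcddff79fffffff527fffffffffffffff04ffffffffffffffffffcd521fffffffffffffa37ffffffffffe03fffffffff0bfffffffffc652bfffffffffffff81bff15ffffe37fffffffffff3fffffffffffffffffff803ffffff8fbffffffffffffffffffffffff8f10fff7e0990601ff85bffffffffffffffffffffff18ffffffffffffffff75ffffffffffffffffffbdbffffffffffffffffffffff177ffffff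
/-- Tree to the set 55: generator, seven bits above. -/
def treeGen : ℕ := 0x604100020010202000020404002020018004000820600103020c100060c10304000000400182000c08100041000008181000c0020200001040c00106000830404101040808206081000600083000c003020c0000608101
/-- Tree to the set 55: predecessor. -/
def treePar : ℕ := 0xc37a8d1c38705fc18ac5b89762bc76e5bdfa5759d362c645bb361d56529a85668d69a2407cf1e6f427ce9864f98911a29b68c993d72455101ee07b71add3356a2c6b15e616aa32193860a80f04326018226046810000281
/-- Tree to the set 55: depth. -/
def treeRank : ℕ := 0x610102060c18406142840c10305060c08408103040a142840c142850c182850c18204041010200142850a102060a183070c1428506143070a0c28106043060c141850c183860818206080810608183870a141850c18205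
/-- Orbit label. -/
def orbLabel : ℕ := 0x408101040408204040820408082040810204040820204102020810202041010408082040808200081020404081040808102081010408082040408202080820408102040810204041010408101040410204041020204101
/-- Orbit tree: generator, two for a root. -/
def orbGen : ℕ := 0x204000020408002040810004001020408000040800004001020400102040810000000000408104040810004001020008102040810204081020408102000810004081000408002040010204001020408102040010200102
/-- Orbit tree: predecessor. -/
def orbPar : ℕ := 0x138e8dd930c05f1cf6ee2880654c76e2a41a497053871e4205121d6120c09b2689145440ba5046ebccdf3488fcd79195b98145f828c5430da556c8b42e052a6aa69975e5122a68b139d9e98c83ad6845c0b080873e00080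
/-- Orbit tree: depth. -/
def orbRank : ℕ := 0x142c4820c24087181010c16042870a1440a0c201861210284061440a10144881024188081c2840028387161c284121850612244820c283880c18183081430a102830b142c48a101c3870e2c386041448804180830a04000
/-- Orbit sizes. -/
def orbSize : List ℕ := [1, 36, 63]

end Cfsg.Agent.G2FourJ2SetData45
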