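import Cfsg.Agent.Lib.J2HundredData76
import Cfsg.Agent.Lib.J2Simple

/-!
The line group of `J2` as a permutation group of degree 100.
-/

set_option autoImplicit false

namespace Cfsg.Agent.J2Hundred76

open Cfsg.Agent.J2HundredData76 Cfsg.Agent.J2Lines Cfsg.Agent.J2Group

/-- The sets of lines. -/
def S (i : Fin 100) : Set (Fin 315) := {k | (mask i).testBit k = true}

theorem S_injective : Function.Injective S := by
  intro i j h
  have hij := List.all_eq_true.mp mask_ok i (List.mem_range.mpr i.2)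
  have hjj := List.all_eq_true.mp mask_ok j (List.mem_range.mpr j.2)
  simp only [Bool.and_eq_true, decide_eq_true_eq, List.all_eq_true, Bool.or_eq_true,
    List.mem_range] at hij hjj
  refine Fin.ext ((hij.2 j j.2).resolve_right fun hne => hne ?_)
  refine Nat.eq_of_testBit_eq fun k => ?_
  by_cases hk : k < 315
  · have := Set.ext_iff.1 h ⟨k, hk⟩
    exact Bool.eq_iff_iff.2 this
  · have hpow : 2 ^ 315 ≤ 2 ^ k := Nat.pow_le_pow_right two_pos (by omega)
    rw [Nat.testBit_eq_false_of_lt (hij.1.trans_le hpow),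
      Nat.testBit_eq_false_of_lt (hjj.1.trans_le hpow)]

theorem simg_facts (g : Fin 4) (i : Fin 100) : simg g i < 100 ∧ simg g (simg g i) = i ∧
    ∀ k : Fin 315, k ∈ S i → ∀ h : simg g i < 100, gperm g k ∈ S ⟨simg g i, h⟩ := by
  have := List.all_eq_true.mp (simg_ok g g.2) i (List.mem_range.mpr i.2)
  simp only [Bool.and_eq_true, decide_eq_true_eq, List.all_eq_true, Bool.or_eq_true,
    Bool.not_eq_true', List.mem_range] at this
  refine ⟨this.1.1, this.1.2, fun k hk h => ?_⟩
  show (mask (simg g i)).testBit (gperm g k : ℕ) = true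
  rw [gperm_apply]
  exact (this.2 k k.2).resolve_left (by rw [show (mask i).testBit k = true from hk]; simp)

theorem exists_perm : ∀ σ ∈ lineGroup, ∃ π : Equiv.Perm (Fin 100),
    ∀ i, ∀ k, σ k ∈ S (π i) ↔ k ∈ S i := by
  intro σ hσ
  induction hσ using Subgroup.closure_induction with
  | mem x hx =>
    obtain ⟨g, rfl⟩ := hx
    let f : Fin 100 → Fin 100 := fun i => ⟨simg g i, (simg_facts g i).1⟩
    have hf : Function.Involutive f := fun i => Fin.ext (simg_facts g i).2.1
    refine ⟨hf.toPerm f, fun i k => ⟨fun hk => ?_, fun hk => (simg_facts g i).2.2 k hk _⟩⟩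
    have := (simg_facts g (f i)).2.2 (gperm g k) hk (simg_facts g (f i)).1
    have e : gperm g (gperm g k) = k := Function.Involutive.toPerm_involutive _ k
    rw [e] at this
    exact (hf i) ▸ this
  | one => exact ⟨1, fun i k => Iff.rfl⟩
  | mul a b _ _ ha hb =>
    obtain ⟨p, hp⟩ := ha
    obtain ⟨q, hq⟩ := hb
    exact ⟨p * q, fun i k => (hp (q i) (b k)).trans (hq i k)⟩
  | inv a _ ha =>
    obtain ⟨p, hp⟩ := ha
    refine ⟨p⁻¹, fun i k => ?_⟩
    have := hp (p⁻¹ i) (a⁻¹ k)
    simpa using this.symm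

theorem perm_unique {σ : Equiv.Perm (Fin 315)} {π π' : Equiv.Perm (Fin 100)}
    (h : ∀ i, ∀ k, σ k ∈ S (π i) ↔ k ∈ S i) (h' : ∀ i, ∀ k, σ k ∈ S (π' i) ↔ k ∈ S i) :
    π = π' :=
  Equiv.ext fun i => S_injective (Set.ext fun x => by
    obtain ⟨k, rfl⟩ : ∃ k, σ k = x := ⟨σ.symm x, σ.apply_symm_apply x⟩
    rw [h i k, h' i k])

/-- The action on the hundred sets. -/
noncomputable def act : lineGroup →* Equiv.Perm (Fin 100) where
  toFun σ := (exists_perm σ σ.2).choose
  map_one' := perm_unique (exists_perm _ (Subtype.prop _)).choose_spec fun _ _ => Iff.rfl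
  map_mul' a b := perm_unique (exists_perm _ (Subtype.prop _)).choose_spec fun i k =>
    ((exists_perm a a.2).choose_spec ((exists_perm b b.2).choose i) (b.1 k)).trans
      ((exists_perm b b.2).choose_spec i k)

theorem act_injective : Function.Injective act := by
  have := J2Simple.lineGroup_simple
  rw [← MonoidHom.ker_eq_bot_iff]
  refine (this.eq_bot_or_eq_top_of_normal act.ker inferInstance).resolve_right fun htop => ?_
  have h1 : act ⟨gperm 0, gperm_mem 0⟩ = 1 :=
    MonoidHom.mem_ker.1 (htop ▸ Subgroup.mem_top _)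
  have hlt : 1 < 100 := by norm_num
  let f : Fin 100 → Fin 100 := fun i => ⟨simg (0 : Fin 4) i, (simg_facts 0 i).1⟩
  have key : S (f ⟨1, hlt⟩) = S ⟨1, hlt⟩ := by
    refine Set.ext fun x => ?_
    obtain ⟨k, rfl⟩ : ∃ k, gperm 0 k = x := ⟨(gperm 0).symm x, (gperm 0).apply_symm_apply x⟩
    have hs := (exists_perm _ (gperm_mem 0)).choose_spec ⟨1, hlt⟩ k
    rw [show (exists_perm _ (gperm_mem 0)).choose = 1 from h1, Equiv.Perm.one_apply] at hs
    rw [hs]
    constructor
    · intro hx
      have e : gperm 0 (gperm 0 k) = k := Function.Involutive.toPerm_involutive _ k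
      have := (simg_facts 0 (f ⟨1, hlt⟩)).2.2 (gperm 0 k) hx (simg_facts 0 (f _)).1
      rw [e] at this
      have hb : (⟨simg (0 : Fin 4) (f ⟨1, hlt⟩), (simg_facts 0 _).1⟩ : Fin 100) = ⟨1, hlt⟩ :=
        Fin.ext (simg_facts 0 ⟨1, hlt⟩).2.1
      rwa [hb] at this
    · exact fun hk => (simg_facts 0 ⟨1, hlt⟩).2.2 k hk _
  exact moved (congrArg Fin.val (S_injective key))

end Cfsg.Agent.J2Hundred76
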