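import Cfsg.Agent.Lib.G2FourJ2Embed45
import Cfsg.Agent.Lib.G2FourJ2SetData45
import Cfsg.Agent.Lib.J2Hundred76

/-!
The action on a hundred sets of lines, and the set attached to the first double coset representative.
-/

set_option autoImplicit false
set_option maxRecDepth 100000

namespace Cfsg.Agent.G2FourJ2Sets45

open Cfsg.Agent.G2FourModule Cfsg.Agent.G2FourJ2Data45 Cfsg.Agent.G2FourJ2Checks45
  Cfsg.Agent.G2FourJ2Embed45 Cfsg.Agent.G2FourJ2SetData45 Cfsg.Agent.PackedMat45
  Cfsg.Agent.J2Lines Cfsg.Agent.J2Group Cfsg.Agent.J2HundredData76 Cfsg.Agent.J2Hundred76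

/-- A seven bit entry. -/
def at7 (P i : ℕ) : ℕ := (P >>> (7 * i)) % 128

/-- The image of a line under the conjugation, or `511`. -/
def cImg (k : ℕ) : ℕ := (conjImg >>> (9 * k)) % 512

/-- Rows of a matrix determine the packed number. -/
theorem eq_of_ent {r s : ℕ} (hr : r < 4096) (hs : s < 4096) (h : ∀ j : Fin 6, ent r j.1 = ent s j.1) :
    r = s := by
  have hc : ∀ a < 4, ∀ b < 4, ofCode a = ofCode b → a = b := by decide
  have h' : ∀ j : Fin 6, (r >>> (2 * j.1)) % 4 = (s >>> (2 * j.1)) % 4 := fun j =>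
    hc _ (Nat.mod_lt _ (by norm_num)) _ (Nat.mod_lt _ (by norm_num)) (h j)
  have e0 := h' 0
  have e1 := h' 1
  have e2 := h' 2
  have e3 := h' 3
  have e4 := h' 4
  have e5 := h' 5
  simp [Nat.shiftRight_eq_div_pow] at e0 e1 e2 e3 e4 e5
  omega

/-- A packed matrix is its own number. -/
theorem eq_of_dec {P Q : ℕ} (hP : P < 4722366482869645213696) (hQ : Q < 4722366482869645213696)
    (h : dec P = dec Q) : P = Q := by
  have hr : ∀ i : Fin 6, row P i.1 = row Q i.1 := fun i =>
    eq_of_ent (row_lt _ _) (row_lt _ _) fun j => congrFun (congrFun h i) j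
  have e0 := hr 0
  have e1 := hr 1
  have e2 := hr 2
  have e3 := hr 3
  have e4 := hr 4
  have e5 := hr 5
  simp [row, Nat.shiftRight_eq_div_pow] at e0 e1 e2 e3 e4 e5
  omega

/-- The packed conjugate of a line matrix. -/
def conjP (k : Fin 315) : ℕ :=
  mulP (rootP (xw 0).reverse) (mulP (LP k) (rootP (xw 0))) % 4722366482869645213696

theorem set_ok : (List.finRange 315).all (fun k =>
    if (mask 55).testBit k.1 then
      decide (cImg k.1 < 315) && Nat.beq (conjP k) (LP ⟨cImg k.1 % 315, Nat.mod_lt _ (by norm_num)⟩)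
    else (List.finRange 315).all (fun j => !Nat.beq (conjP k) (LP j))) = true := by
  decide +kernel

theorem mulP_lt (P Q : ℕ) : mulP P Q < 4722366482869645213696 := by
  have h := fun n : ℕ => Nat.mod_lt n (show 0 < 4096 by norm_num)
  unfold mulP
  simp only [Nat.shiftLeft_eq]
  have h0 := h (mulRow (row P 0) Q)
  have h1 := h (mulRow (row P 1) Q)
  have h2 := h (mulRow (row P 2) Q)
  have h3 := h (mulRow (row P 3) Q)
  have h4 := h (mulRow (row P 4) Q)
  have h5 := h (mulRow (row P 5) Q)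
  generalize mulRow (row P 0) Q % 4096 = a0 at *
  generalize mulRow (row P 1) Q % 4096 = a1 at *
  generalize mulRow (row P 2) Q % 4096 = a2 at *
  generalize mulRow (row P 3) Q % 4096 = a3 at *
  generalize mulRow (row P 4) Q % 4096 = a4 at *
  generalize mulRow (row P 5) Q % 4096 = a5 at *
  norm_num
  omega

/-- The conjugate of a line matrix is a line matrix exactly on the set 55. -/
theorem conj_mem_iff (k : Fin 315) :
    (∃ j, mat (rep 0)⁻¹ * L k * mat (rep 0) = L j) ↔ k ∈ S 55 := by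
  have e : mat (rep 0)⁻¹ * L k * mat (rep 0) = dec (conjP k) := by
    rw [conjP, Nat.mod_eq_of_lt (mulP_lt _ _), dec_mulP, dec_mulP, dec_rootP, dec_rootP, rep,
      ← xEl_reverse, mat_xEl, mat_xEl, mul_assoc]
    rfl
  rw [e]
  have h := List.all_eq_true.mp set_ok k (List.mem_finRange k)
  show _ ↔ (mask 55).testBit k.1 = true
  split_ifs at h with hb
  · simp only [Bool.and_eq_true] at h
    exact ⟨fun _ => hb, fun _ => ⟨_, congrArg dec (Nat.eq_of_beq_eq_true h.2)⟩⟩
  · refine ⟨fun ⟨j, hj⟩ => ?_, fun h' => absurd h' hb⟩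
    have hne := List.all_eq_true.mp h j (List.mem_finRange j)
    have heq : conjP k = LP j := eq_of_dec (Nat.mod_lt _ (by norm_num)) (Nat.mod_lt _ (by norm_num)) hj
    rw [heq, Nat.beq_refl] at hne
    exact Bool.noConfusion hne

/-- The set action of a permutation. -/
theorem act_eq {σ : lineGroup} {π : Equiv.Perm (Fin 100)}
    (h : ∀ i k, σ.1 k ∈ S (π i) ↔ k ∈ S i) : act σ = π :=
  perm_unique (exists_perm σ.1 σ.2).choose_spec h

/-- The action of a generator on the sets. -/
def sPerm (g : Fin 4) : Equiv.Perm (Fin 100) :=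
  Function.Involutive.toPerm (fun i => ⟨simg g i, (simg_facts g i).1⟩)
    fun i => Fin.ext (simg_facts g i).2.1

theorem act_gperm (g : Fin 4) : act ⟨gperm g, gperm_mem g⟩ = sPerm g := by
  refine act_eq fun i k => ⟨fun hk => ?_, fun hk => (simg_facts g i).2.2 k hk _⟩
  have h := (simg_facts g (sPerm g i)).2.2 (gperm g k) hk (simg_facts g (sPerm g i)).1
  rw [show gperm g (gperm g k) = k from Function.Involutive.toPerm_involutive _ k] at h
  exact (show sPerm g (sPerm g i) = i from Fin.ext (simg_facts g i).2.1) ▸ h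

/-- The group of lines acting on the hundred sets. -/
@[reducible] noncomputable def setAction : MulAction lineGroup (Fin 100) :=
  MulAction.compHom _ act

theorem tree_ok : (List.finRange 100).all (fun i => decide (i.1 = 55) ||
    (decide (at7 treeGen i < 4) && decide (at7 treePar i < 100) &&
      decide (at7 treeRank (at7 treePar i) < at7 treeRank i) &&
      decide (simg (at7 treeGen i) (at7 treePar i) = i.1))) = true := by
  decide +kernel

theorem exists_move_set (i : Fin 100) : ∃ σ : lineGroup, act σ 55 = i := by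
  induction hn : at7 treeRank i using Nat.strong_induction_on generalizing i with
  | _ n ih =>
    have h := List.all_eq_true.mp tree_ok i (List.mem_finRange i)
    simp only [Bool.or_eq_true, Bool.and_eq_true, decide_eq_true_eq] at h
    rcases h with h | ⟨⟨⟨hg, hp⟩, hlt⟩, he⟩
    · exact ⟨1, by rw [map_one, Equiv.Perm.one_apply]; exact (Fin.ext h).symm⟩
    · obtain ⟨σ, hσ⟩ := ih _ (hn ▸ hlt) ⟨_, hp⟩ rfl
      refine ⟨⟨gperm ⟨_, hg⟩, gperm_mem _⟩ * σ, ?_⟩
      rw [map_mul, Equiv.Perm.mul_apply, hσ, act_gperm]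
      exact Fin.ext he

/-- A word acting on the sets. -/
def sWord (w : List (Fin 4)) : Equiv.Perm (Fin 100) := (w.map sPerm).prod

/-- The permutation of a word. -/
theorem wPerm_mem (w : List (Fin 4)) : wPerm w ∈ lineGroup :=
  list_prod_mem fun x hx => by
    obtain ⟨g, -, rfl⟩ := List.mem_map.1 hx
    exact gperm_mem g

theorem act_wPerm (w : List (Fin 4)) : act ⟨wPerm w, wPerm_mem w⟩ = sWord w := by
  induction w with
  | nil => exact map_one act
  | cons g w ih =>
    rw [show (⟨wPerm (g :: w), wPerm_mem _⟩ : lineGroup) = ⟨gperm g, gperm_mem g⟩ * ⟨wPerm w, wPerm_mem w⟩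
      from Subtype.ext rfl, map_mul, ih, act_gperm]
    rfl

/-- The stabilising word. -/
def stW (n : Fin 2) : List (Fin 4) := stabWords.getD n.1 []

theorem stW_fix : ∀ n : Fin 2, sWord (stW n) 55 = 55 := by decide +kernel

/-- The orbit label. -/
def lab (i : Fin 100) : Fin 3 := ⟨at7 orbLabel i.1 % 3, Nat.mod_lt _ (by norm_num)⟩

/-- The orbit predecessor. -/
def par (i : Fin 100) : Fin 100 := ⟨at7 orbPar i.1 % 100, Nat.mod_lt _ (by norm_num)⟩

theorem orb_ok : ∀ i : Fin 100,
    (at7 orbGen i < 2 ∧ at7 orbRank (par i) < at7 orbRank i ∧ lab (par i) = lab i ∧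
      sWord (stW ⟨at7 orbGen i % 2, Nat.mod_lt _ (by norm_num)⟩) (par i) = i) ∨
    (at7 orbGen i = 2 ∧ ∀ j : Fin 100, lab j = lab i → at7 orbGen j = 2 → j = i) := by
  decide +kernel

theorem lab_sizes : ∀ c : Fin 3, (Finset.univ.filter fun i => lab i = c).card = ![1, 36, 63] c := by
  decide +kernel

theorem lab_base : ∀ i, lab i = lab 55 → i = 55 := by decide +kernel

theorem lab_arith : ∀ S : Finset (Fin 3), lab 55 ∈ S → (∑ c ∈ S, ![1, 36, 63] c) ∣ 100 →
    S = {lab 55} ∨ S = Finset.univ := by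
  decide +kernel

/-- Every point is moved to the root of its class inside the stabiliser of the set 55. -/
theorem exists_root (i : Fin 100) : ∃ r : Fin 100, lab r = lab i ∧ at7 orbGen r = 2 ∧
    ∃ σ : lineGroup, act σ 55 = 55 ∧ act σ r = i := by
  induction hn : at7 orbRank i using Nat.strong_induction_on generalizing i with
  | _ n ih =>
    rcases orb_ok i with ⟨-, hlt, hl, he⟩ | ⟨h2, -⟩
    · obtain ⟨r, hr, hr2, σ, hσ, hσr⟩ := ih _ (hn ▸ hlt) (par i) rfl
      refine ⟨r, hr.trans hl, hr2,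
        ⟨wPerm (stW ⟨at7 orbGen i % 2, Nat.mod_lt _ (by norm_num)⟩), wPerm_mem _⟩ * σ, ?_, ?_⟩
      · rw [map_mul, Equiv.Perm.mul_apply, hσ, act_wPerm, stW_fix]
      · rw [map_mul, Equiv.Perm.mul_apply, hσr, act_wPerm, he]
    · exact ⟨i, rfl, h2, 1, by simp, by simp⟩

theorem exists_stab_move {i j : Fin 100} (h : lab i = lab j) :
    ∃ σ : lineGroup, act σ 55 = 55 ∧ act σ i = j := by
  obtain ⟨r, hr, hr2, σ, hσ, hσr⟩ := exists_root i
  obtain ⟨r', hr', hr'2, τ, hτ, hτr⟩ := exists_root j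
  obtain rfl : r' = r := by
    rcases orb_ok r with ⟨hlt, -⟩ | ⟨-, hu⟩
    · omega
    · exact hu r' (hr'.trans (h.symm.trans hr.symm)) hr'2
  refine ⟨τ * σ⁻¹, ?_, ?_⟩
  · rw [map_mul, Equiv.Perm.mul_apply, map_inv, Equiv.Perm.inv_eq_iff_eq.mpr hσ.symm, hτ]
  · rw [map_mul, Equiv.Perm.mul_apply, map_inv, Equiv.Perm.inv_eq_iff_eq.mpr hσr.symm, hτr]

end Cfsg.Agent.G2FourJ2Sets45
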