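import Cfsg.Agent.Lib.G2FourJ2Embed45
import Cfsg.Agent.Lib.G2FourJ2Sets45
import Cfsg.Agent.Lib.J2Simple
import Cfsg.Agent.S1059

/-!
The Hall-Janko subgroup of G2(4): the action on its 416 cosets has subdegrees 1, 100, 315, and all
two-point stabilisers are maximal in the point stabiliser.
-/

set_option autoImplicit false
set_option maxRecDepth 100000

namespace Cfsg.Agent.G2FourJ2Max45

open MulAction Cfsg.Agent.FieldFour15 Cfsg.Agent.G2FourModule Cfsg.Agent.G2FourJ2Data45
  Cfsg.Agent.G2FourJ2Checks45 Cfsg.Agent.G2FourJ2Embed45 Cfsg.Agent.J2Lines Cfsg.Agent.J2Group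
  Cfsg.Agent.G2FourJ2Sets45 Cfsg.Agent.J2Hundred76

/-! ### Primitivity from subdegrees -/

/-- A point stabiliser is maximal when no union of suborbits can be a block. -/
theorem isCoatom_stabilizer {G Ω : Type*} [Group G] [MulAction G Ω] [Fintype Ω]
    [IsPretransitive G Ω] (a : Ω) {m : ℕ} (f : Ω → Fin m) (n : Fin m → ℕ)
    (hn : ∀ i, (Finset.univ.filter fun x => f x = i).card = n i)
    (hf : ∀ x y, f x = f y → ∃ g ∈ stabilizer G a, g • x = y)
    (ha : ∀ x, f x = f a → x = a) (htwo : 1 < Fintype.card Ω)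
    (harith : ∀ S : Finset (Fin m), f a ∈ S → (∑ i ∈ S, n i) ∣ Fintype.card Ω →
      S = {f a} ∨ S = Finset.univ) :
    IsCoatom (stabilizer G a) := by
  classical
  refine ⟨fun h => ?_, fun K hK => ?_⟩
  · obtain ⟨b, hb⟩ := Fintype.exists_ne_of_one_lt_card htwo a
    obtain ⟨g, hg⟩ := exists_smul_eq G a b
    have hg' : g ∈ stabilizer G a := h ▸ Subgroup.mem_top g
    rw [mem_stabilizer_iff, hg] at hg'
    exact hb hg'
  set B := Finset.univ.filter fun x => x ∈ orbit K a with hB
  have hmem : ∀ x, x ∈ B ↔ x ∈ orbit K a := fun x => by simp [hB]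
  have hinv : ∀ x y, f x = f y → x ∈ B → y ∈ B := by
    intro x y hxy hx
    obtain ⟨g, hg, rfl⟩ := hf x y hxy
    rw [hmem] at hx ⊢
    obtain ⟨k, rfl⟩ := hx
    exact ⟨⟨g, hK.le hg⟩ * k, mul_smul _ k a⟩
  set S := B.image f with hS
  have hBS : B = Finset.univ.filter fun x => f x ∈ S := by
    ext x
    simp only [Finset.mem_filter, Finset.mem_univ, true_and, hS, Finset.mem_image]
    exact ⟨fun hx => ⟨x, hx, rfl⟩, fun ⟨y, hy, e⟩ => hinv y x e hy⟩
  have hcard : B.card = ∑ i ∈ S, n i := by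
    rw [Finset.card_eq_sum_card_fiberwise (f := f) (t := S) fun x hx => Finset.mem_image_of_mem f hx]
    refine Finset.sum_congr rfl fun i hi => ?_
    rw [← hn i]
    congr 1
    ext x
    rw [hBS]
    simp only [Finset.mem_filter, Finset.mem_univ, true_and, and_iff_right_iff_imp]
    rintro rfl
    exact hi
  have hidx : B.card * K.index = Fintype.card Ω := by
    rw [← Nat.card_eq_fintype_card, ← index_stabilizer_of_transitive G a,
      ← Subgroup.relIndex_mul_index hK.le]
    congr 1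
    have e : stabilizer K a = (stabilizer G a).subgroupOf K := by
      ext k
      simp [Subgroup.mem_subgroupOf, mem_stabilizer_iff, Subgroup.smul_def]
    rw [Subgroup.relIndex, ← e, index_stabilizer, ← Set.ncard_coe_finset, hB]
    congr 1
    ext x
    simp
  have haB : a ∈ B := (hmem a).2 (mem_orbit_self a)
  rcases harith S (Finset.mem_image_of_mem f haB) (hcard ▸ Dvd.intro _ hidx) with h1 | h1
  · refine absurd (le_antisymm hK.le fun k hk => ?_) hK.ne
    rw [mem_stabilizer_iff]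
    refine ha _ (Finset.mem_singleton.1 (h1 ▸ ?_))
    exact Finset.mem_image_of_mem f ((hmem _).2 ⟨⟨k, hk⟩, rfl⟩)
  · have hall : B.card = Fintype.card Ω := by
      rw [hBS, h1]; simp
    rw [hall] at hidx
    exact Subgroup.index_eq_one.1 ((mul_eq_left₀ (by omega)).1 hidx)

/-- The form with representatives of suborbits of pairwise different sizes. -/
theorem isCoatom_of_orbits {G Ω : Type*} [Group G] [MulAction G Ω] [Fintype Ω]
    [IsPretransitive G Ω] (a : Ω) {m : ℕ} (p : Fin (m + 1) → Ω) (n : Fin (m + 1) → ℕ)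
    (hp0 : p 0 = a) (hn : ∀ i, (orbit (stabilizer G a) (p i)).ncard = n i)
    (hinj : Function.Injective n) (hsum : ∑ i, n i = Fintype.card Ω) (htwo : 1 < Fintype.card Ω)
    (harith : ∀ S : Finset (Fin (m + 1)), (0 : Fin (m + 1)) ∈ S → (∑ i ∈ S, n i) ∣ Fintype.card Ω →
      S = {0} ∨ S = Finset.univ) :
    IsCoatom (stabilizer G a) ∧ ∀ x, ∃ i, ∃ g ∈ stabilizer G a, g • p i = x := by
  classical
  have huniq : ∀ x i j, x ∈ orbit (stabilizer G a) (p i) → x ∈ orbit (stabilizer G a) (p j) → i = j := by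
    intro x i j hi hj
    refine hinj ?_
    rw [← hn i, ← hn j, ← orbit_eq_iff.2 hi, orbit_eq_iff.2 hj]
  have hcov : ∀ x, ∃ i, x ∈ orbit (stabilizer G a) (p i) := by
    intro x
    let O : Fin (m + 1) → Finset Ω := fun i =>
      Finset.univ.filter fun y => y ∈ orbit (stabilizer G a) (p i)
    have hO : ∀ i, (O i).card = n i := fun i => by
      rw [← hn i, ← Set.ncard_coe_finset]; congr 1; ext; simp [O]
    have hall : Finset.univ.biUnion O = Finset.univ := by
      refine Finset.eq_univ_of_card _ ?_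
      rw [Finset.card_biUnion fun i _ j _ hij => Finset.disjoint_left.2 fun y hi hj =>
        hij (huniq y i j (by simpa [O] using hi) (by simpa [O] using hj)), ← hsum]
      exact Finset.sum_congr rfl fun i _ => hO i
    have := hall ▸ Finset.mem_univ x
    simpa [O] using this
  choose f hf using hcov
  have hf' : ∀ x i, x ∈ orbit (stabilizer G a) (p i) → f x = i := fun x i h => huniq x _ _ (hf x) h
  refine ⟨isCoatom_stabilizer a f n (fun i => ?_) (fun x y hxy => ?_) (fun x hx => ?_) htwo ?_,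
    fun x => ?_⟩
  · rw [← hn i, ← Set.ncard_coe_finset]
    congr 1
    ext x
    simp only [Finset.coe_filter, Finset.mem_univ, true_and, Set.mem_setOf_eq]
    exact ⟨fun h => h ▸ hf x, hf' x i⟩
  · have hy : y ∈ orbit (stabilizer G a) x := by
      rw [orbit_eq_iff.2 (hf x), hxy]; exact hf y
    obtain ⟨g, hg⟩ := hy
    exact ⟨g, g.2, hg⟩
  · have h := hf x
    rw [hx, hf' a 0 (hp0 ▸ mem_orbit_self _), hp0] at h
    obtain ⟨g, rfl⟩ := h
    exact g.2
  · rw [hf' a 0 (hp0 ▸ mem_orbit_self _)]; exact harith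
  · obtain ⟨g, hg⟩ := hf x
    exact ⟨f x, g, g.2, hg⟩

/-! ### The two maximal subgroups of the group of lines -/

theorem subOf_lt : ∀ z : Fin 315, J2Simple.subOf z < 6 := by decide +kernel

/-- The suborbit of a line. -/
def subF (z : Fin 315) : Fin 6 := ⟨J2Simple.subOf z, subOf_lt z⟩

theorem stab0_coatom : IsCoatom (J2Chain.stab0.subgroupOf lineGroup) := by
  haveI : IsPretransitive lineGroup (Fin 315) := by
    refine ⟨fun x y => ?_⟩
    obtain ⟨σ, hσ, hσ0⟩ := lineGroup_transitive x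
    obtain ⟨τ, hτ, hτ0⟩ := lineGroup_transitive y
    refine ⟨⟨τ * σ⁻¹, mul_mem hτ (inv_mem hσ)⟩, ?_⟩
    show (τ * σ⁻¹) x = y
    rw [Equiv.Perm.mul_apply, ← hσ0, Equiv.Perm.inv_def, Equiv.symm_apply_apply, hτ0]
  have e : J2Chain.stab0.subgroupOf lineGroup = stabilizer lineGroup (0 : Fin 315) := by
    ext σ
    rw [Subgroup.mem_subgroupOf, mem_stabilizer_iff]
    exact ⟨fun h => J2Chain.stab0_fix h, fun h => J2Chain.mem_stab0 σ.2 h⟩
  rw [e]
  refine isCoatom_stabilizer (0 : Fin 315) subF ![1, 80, 10, 32, 32, 160] ?_ ?_ ?_ (by simp) ?_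
  · decide +kernel
  · intro x y hxy
    obtain ⟨g, hg, hx⟩ := J2Simple.exists_move_of_subOf (k := subF x) x rfl
    obtain ⟨h, hh, hy⟩ := J2Simple.exists_move_of_subOf (k := subF x) y (congrArg Fin.val hxy).symm
    refine ⟨⟨h * g⁻¹, mul_mem (J2Chain.stab0_le hh) (inv_mem (J2Chain.stab0_le hg))⟩, ?_, ?_⟩
    · rw [mem_stabilizer_iff]
      exact J2Chain.stab0_fix (mul_mem hh (inv_mem hg))
    · show (h * g⁻¹) x = y
      rw [Equiv.Perm.mul_apply, Equiv.Perm.inv_eq_iff_eq.mpr hx.symm, hy]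
  · decide +kernel
  · rw [Fintype.card_fin]; decide +kernel

theorem index_stab0 : (J2Chain.stab0.subgroupOf lineGroup).index = 315 := by
  have h := (J2Chain.stab0.subgroupOf lineGroup).index_mul_card
  rw [Nat.card_congr (Subgroup.subgroupOfEquivOfLe J2Chain.stab0_le).toEquiv, J2Chain.card_stab0,
    J2Chain.card_lineGroup] at h
  omega

/-- The stabiliser of the set 55. -/
noncomputable def U55 : Subgroup lineGroup :=
  (stabilizer (Equiv.Perm (Fin 100)) (55 : Fin 100)).comap act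

theorem mem_U55 {σ : lineGroup} : σ ∈ U55 ↔ act σ 55 = 55 := Iff.rfl

theorem U55_spec : IsCoatom U55 ∧ U55.index = 100 := by
  letI := setAction
  haveI : IsPretransitive lineGroup (Fin 100) := by
    refine ⟨fun x y => ?_⟩
    obtain ⟨σ, hσ⟩ := exists_move_set x
    obtain ⟨τ, hτ⟩ := exists_move_set y
    refine ⟨τ * σ⁻¹, ?_⟩
    show act (τ * σ⁻¹) x = y
    rw [map_mul, Equiv.Perm.mul_apply, map_inv, Equiv.Perm.inv_eq_iff_eq.mpr hσ.symm, hτ]
  have e : U55 = stabilizer lineGroup (55 : Fin 100) := rfl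
  rw [e]
  refine ⟨isCoatom_stabilizer (55 : Fin 100) lab ![1, 36, 63] lab_sizes (fun x y h => ?_) lab_base
    (by simp) (by rw [Fintype.card_fin]; exact lab_arith), ?_⟩
  · obtain ⟨σ, hσ, hσx⟩ := exists_stab_move h
    exact ⟨σ, hσ, hσx⟩
  · rw [index_stabilizer_of_transitive, Nat.card_fin]

/-! ### Their images in the subgroup of G2(4) -/

theorem base_ext {σ τ : Equiv.Perm (Fin 315)} (hσ : σ ∈ lineGroup) (hτ : τ ∈ lineGroup)
    (h : ∀ p ∈ [(0 : Fin 315), 106, 1], σ p = τ p) : σ = τ := by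
  have h' : ∀ p ∈ [(0 : Fin 315), 106, 1], (τ⁻¹ * σ) p = p := fun p hp => by
    rw [Equiv.Perm.mul_apply, h p hp, Equiv.Perm.inv_def, Equiv.symm_apply_apply]
  exact (inv_mul_eq_one.mp (J2Chain.eq_one_of_fix (mul_mem (inv_mem hτ) hσ) (h' 0 (by simp))
    (h' 106 (by simp)) (h' 1 (by simp)))).symm

theorem word_S : ∀ j : Fin 2, ∀ p ∈ [(0 : Fin 315), 106, 1],
    (wPerm (sw 1 j) p : ℕ) = J2ChainDefs.at9 (J2ChainDefs.sp j) p := by
  decide +kernel

theorem stab0_gen : J2Chain.stab0 = Subgroup.closure (Set.range fun j => wPerm (sw 1 j)) := by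
  rw [J2Chain.stab0]
  refine congrArg _ (congrArg _ (funext fun j => ?_))
  refine base_ext (J2Chain.S_mem j) (wPerm_mem _) fun p hp => Fin.ext ?_
  exact (J2Chain.S_rep j _).trans (word_S j p hp).symm

/-- The coset of a representative. -/
def pt (n : Fin 2) : ↥M ⧸ H := QuotientGroup.mk (rep n)

theorem fix_iff (n : Fin 2) (B : ↥H) : B • pt n = pt n ↔ (rep n)⁻¹ * B.1 * rep n ∈ H := by
  rw [show B • pt n = QuotientGroup.mk (B.1 * rep n) from rfl, eq_comm, pt, QuotientGroup.eq, mul_assoc]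

theorem stab_pt_one :
    stabilizer H (pt 1) = (J2Chain.stab0.subgroupOf lineGroup).comap equivH.toMonoidHom := by
  have hco : IsCoatom ((J2Chain.stab0.subgroupOf lineGroup).comap equivH.toMonoidHom) :=
    (OrderIso.isCoatom_iff equivH.comapSubgroup _).2 stab0_coatom
  have hne : stabilizer H (pt 1) ≠ ⊤ := by
    obtain ⟨a, ha, hna⟩ := rep_moves 1
    intro h
    exact hna ((fix_iff 1 ⟨a, ha⟩).1 (mem_stabilizer_iff.1 (h ▸ Subgroup.mem_top _)))
  have hle : (J2Chain.stab0.subgroupOf lineGroup).comap equivH.toMonoidHom ≤ stabilizer H (pt 1) := by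
    intro B hB
    have h : J2Chain.stab0 ≤ ((stabilizer H (pt 1)).map equivH.toMonoidHom).map lineGroup.subtype := by
      rw [stab0_gen, Subgroup.closure_le]
      rintro _ ⟨j, rfl⟩
      refine ⟨psi ⟨wEl (sw 1 j), G2FourJ2Embed45.wEl_mem _⟩, ⟨⟨wEl (sw 1 j), G2FourJ2Embed45.wEl_mem _⟩, ?_, rfl⟩,
        psi_wEl _⟩
      rw [SetLike.mem_coe, mem_stabilizer_iff, fix_iff, rep_conj]
      exact G2FourJ2Embed45.wEl_mem _
    obtain ⟨c, ⟨C, hC, rfl⟩, e⟩ := h (Subgroup.mem_subgroupOf.1 hB)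
    rwa [← equivH.injective (Subtype.ext e : equivH C = equivH B)]
  exact le_antisymm (le_of_eq (hco.le_iff.1 hle |>.resolve_left hne)) hle

theorem stab_pt_zero_le : stabilizer H (pt 0) ≤ U55.comap equivH.toMonoidHom := by
  intro B hB
  rw [mem_stabilizer_iff, fix_iff] at hB
  set x := rep 0
  set σ : lineGroup := psi B
  have hσ : Moves B.1 σ.1 := psi_spec B
  obtain ⟨τ, -, hτ⟩ := G2FourJ2Embed45.exists_perm hB
  have e1 : mat x * mat x⁻¹ = 1 := by rw [← map_mul, mul_inv_cancel, map_one]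
  have key : ∀ k, k ∈ S 55 → σ.1 k ∈ S 55 := by
    intro k hk
    obtain ⟨j, hj⟩ := (conj_mem_iff k).2 hk
    refine (conj_mem_iff _).1 ⟨τ j, mat_cancel (x⁻¹ * B.1 * x) ?_⟩
    rw [← hτ j, ← hj, map_mul, map_mul]
    calc mat x⁻¹ * L (σ.1 k) * mat x * (mat x⁻¹ * mat B.1 * mat x)
        = mat x⁻¹ * (L (σ.1 k) * ((mat x * mat x⁻¹) * mat B.1)) * mat x := by simp only [mul_assoc]
      _ = mat x⁻¹ * mat B.1 * ((mat x * mat x⁻¹) * L k) * mat x := by
          rw [e1, one_mul, one_mul, ← hσ k]; simp only [mul_assoc]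
      _ = mat x⁻¹ * mat B.1 * mat x * (mat x⁻¹ * L k * mat x) := by simp only [mul_assoc]
  have himg : σ.1 '' S 55 = S 55 := by
    refine Set.eq_of_subset_of_ncard_le (Set.image_subset_iff.2 key) ?_ (Set.toFinite _)
    rw [Set.ncard_image_of_injective _ σ.1.injective]
  show act σ 55 = 55
  refine S_injective (Set.ext fun y => ?_)
  obtain ⟨k, rfl⟩ := σ.1.surjective y
  rw [(Cfsg.Agent.J2Hundred76.exists_perm σ.1 σ.2).choose_spec 55 k |> fun h => (show σ.1 k ∈ S (act σ 55) ↔ k ∈ S 55 from h)]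
  conv_rhs => rw [← himg]
  exact (σ.1.injective.mem_set_image).symm

theorem card_M : Nat.card ↥M = 251596800 := by
  rw [Nat.card_congr equivM.toEquiv, S1059.result (F := K4) (q := 4) (by decide)]
  norm_num

theorem card_H : Nat.card ↥H = 604800 :=
  (Nat.card_congr equivH.toEquiv).trans J2Chain.card_lineGroup

theorem index_H : H.index = 416 := by
  have h := H.index_mul_card
  rw [card_H, card_M] at h
  exact Nat.eq_of_mul_eq_mul_right (by norm_num : 0 < 604800) (h.trans (by norm_num))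

theorem main : IsCoatom H ∧
    ∀ x : ↥M, x ∉ H → IsCoatom ((H ⊓ H.map (MulAut.conj x).toMonoidHom).subgroupOf H) := by
  classical
  haveI : Finite (↥M ⧸ H) := Nat.finite_of_card_ne_zero (by rw [← Subgroup.index_eq_card, index_H]; norm_num)
  haveI : Fintype (↥M ⧸ H) := Fintype.ofFinite _
  set a : ↥M ⧸ H := QuotientGroup.mk 1
  have hstab : stabilizer ↥M a = H := stabilizer_quotient _
  have hcard : Fintype.card (↥M ⧸ H) = 416 := by
    rw [← Nat.card_eq_fintype_card, ← Subgroup.index_eq_card, index_H]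
  have o1 : (orbit H (pt 1)).ncard = 315 := by
    rw [← index_stabilizer, stab_pt_one]
    exact (Subgroup.index_comap_of_surjective _ equivH.surjective).trans index_stab0
  obtain ⟨hU, hUi⟩ := U55_spec
  have hUc : IsCoatom (U55.comap equivH.toMonoidHom) :=
    (OrderIso.isCoatom_iff equivH.comapSubgroup _).2 hU
  have hUci : (U55.comap equivH.toMonoidHom).index = 100 :=
    (Subgroup.index_comap_of_surjective _ equivH.surjective).trans hUi
  have hd : 100 ∣ (orbit H (pt 0)).ncard := by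
    rw [← index_stabilizer, ← hUci]
    exact Subgroup.index_dvd_of_le stab_pt_zero_le
  have hpos : 0 < (orbit H (pt 0)).ncard := (Set.ncard_pos (Set.toFinite _)).2 ⟨_, mem_orbit_self _⟩
  have o0 : (orbit H (pt 0)).ncard = 100 := by
    obtain ⟨m, hm⟩ := hd
    have hdis : Disjoint (orbit H (pt 0)) (orbit H (pt 1)) := by
      rw [Set.disjoint_left]
      intro z h0 h1
      have e0 := congrArg Set.ncard ((orbit_eq_iff.2 h0).symm.trans (orbit_eq_iff.2 h1))
      rw [hm, o1] at e0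
      omega
    have hsub : orbit H (pt 0) ∪ orbit H (pt 1) ⊆ {a}ᶜ := by
      intro z hz hza
      rw [Set.mem_singleton_iff] at hza
      subst hza
      have hoa : (orbit H a).ncard = 1 := by
        rw [show orbit H a = {a} from Set.eq_singleton_iff_unique_mem.2 ⟨mem_orbit_self a, by
          rintro _ ⟨g, rfl⟩; exact (hstab.symm.le g.2 : g.1 ∈ stabilizer ↥M a)⟩, Set.ncard_singleton]
      rcases hz with hz | hz
      · rw [orbit_eq_iff.2 hz] at hoa; omega
      · rw [orbit_eq_iff.2 hz] at hoa; omega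
    have hle := Set.ncard_le_ncard hsub (Set.toFinite _)
    rw [Set.ncard_union_eq hdis, Set.ncard_compl, Set.ncard_singleton, o1, hm,
      Nat.card_eq_fintype_card, hcard] at hle
    omega
  have hS0 : stabilizer H (pt 0) = U55.comap equivH.toMonoidHom := by
    refine le_antisymm stab_pt_zero_le (Subgroup.relIndex_eq_one.1 ?_)
    have h := Subgroup.relIndex_mul_index stab_pt_zero_le
    rw [index_stabilizer, o0, hUci] at h
    omega
  obtain ⟨h1, h2⟩ := isCoatom_of_orbits (G := ↥M) a ![a, pt 0, pt 1] ![1, 100, 315] rfl (by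
    intro i
    fin_cases i
    · show (orbit (stabilizer ↥M a) a).ncard = _
      rw [show orbit (stabilizer ↥M a) a = {a} from ?_, Set.ncard_singleton]
      · rfl
      · exact Set.eq_singleton_iff_unique_mem.2 ⟨mem_orbit_self a, by rintro _ ⟨g, rfl⟩; exact g.2⟩
    · rw [hstab]; exact o0
    · rw [hstab]; exact o1)
    (by decide) (by rw [hcard]; decide) (by rw [hcard]; norm_num) (by rw [hcard]; decide)
  refine ⟨hstab ▸ h1, fun x hx => ?_⟩
  have e : (H ⊓ H.map (MulAut.conj x).toMonoidHom).subgroupOf H =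
      stabilizer H (QuotientGroup.mk x : ↥M ⧸ H) := by
    ext B
    rw [Subgroup.mem_subgroupOf, mem_stabilizer_iff,
      show B • (QuotientGroup.mk x : ↥M ⧸ H) = QuotientGroup.mk (B.1 * x) from rfl,
      eq_comm (b := QuotientGroup.mk x), QuotientGroup.eq, Subgroup.mem_inf, Subgroup.mem_map]
    refine ⟨?_, fun h => ⟨B.2, x⁻¹ * (B.1 * x), h, by simp [mul_assoc]⟩⟩
    rintro ⟨-, c, hc, e⟩
    rw [← e]
    simpa [mul_assoc] using hc
  obtain ⟨i, g, hg, hgx⟩ := h2 (QuotientGroup.mk x)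
  have key : ∀ n : Fin 2, g • pt n = QuotientGroup.mk x →
      IsCoatom ((H ⊓ H.map (MulAut.conj x).toMonoidHom).subgroupOf H) := by
    intro n hn
    rw [e, ← hn, show g • pt n = (⟨g, hstab ▸ hg⟩ : ↥H) • pt n from rfl,
      stabilizer_smul_eq_stabilizer_map_conj]
    refine (OrderIso.isCoatom_iff (MulAut.conj (⟨g, hstab ▸ hg⟩ : ↥H)).mapSubgroup _).2 ?_
    fin_cases n
    · exact hS0 ▸ hUc
    · exact stab_pt_one ▸ (OrderIso.isCoatom_iff equivH.comapSubgroup _).2 stab0_coatom
  fin_cases i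
  · refine absurd ?_ hx
    have h3 : (QuotientGroup.mk 1 : ↥M ⧸ H) = QuotientGroup.mk x := (mem_stabilizer_iff.1 hg).symm.trans hgx
    simpa [QuotientGroup.eq] using h3
  · exact key 0 hgx
  · exact key 1 hgx

end Cfsg.Agent.G2FourJ2Max45
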