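import Mathlib
import Cfsg.Agent.Lib.ChevalleySL2

/-!
Two by two matrices with trace zero and prescribed determinant over a finite field of odd order form
one orbit under conjugation by `SL₂`.
-/

set_option autoImplicit false

namespace Cfsg.Agent.SL2TraceZero71

open Matrix Polynomial
open scoped MatrixGroups

variable {F : Type*} [Field F]

/-- the standard matrix of trace zero and determinant `d` -/
def stdR (d : F) : Matrix (Fin 2) (Fin 2) F := !![0, -d; 1, 0]

theorem exists_rep [Fintype F] (hodd : Fintype.card F % 2 = 1) {a b c : F} (hdisc : a * a + b * c ≠ 0) :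
    ∃ x y : F, c * x * x - 2 * a * x * y - b * y * y = 1 := by
  have h2 : (2 : F) ≠ 0 := by
    intro h
    have := FiniteField.even_card_of_char_two (F := F) ((ringChar.eq_iff).2 (by
      haveI : CharP F 2 := CharTwo.of_one_ne_zero_of_two_eq_zero one_ne_zero h
      infer_instance))
    omega
  by_cases hc : c = 0
  · subst hc
    have ha : a ≠ 0 := by
      intro h; subst h; simp at hdisc
    refine ⟨(-1 - b) / (2 * a), 1, ?_⟩
    field_simp
    ring
  · set k : F := -(a * a + b * c) / c with hk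
    have hk0 : k ≠ 0 := div_ne_zero (neg_ne_zero.2 hdisc) hc
    obtain ⟨X, Y, hXY⟩ := FiniteField.exists_root_sum_quadratic
      (f := (Polynomial.C c * Polynomial.X ^ 2 + Polynomial.C (-1) : F[X]))
      (g := (Polynomial.C k * Polynomial.X ^ 2 : F[X]))
      (by rw [degree_add_C (by rw [degree_C_mul_X_pow 2 hc]; decide), degree_C_mul_X_pow 2 hc]; rfl)
      (by rw [degree_C_mul_X_pow 2 hk0]; rfl) hodd
    simp only [eval_add, eval_mul, eval_C, eval_pow, eval_X] at hXY
    refine ⟨X + a / c * Y, Y, ?_⟩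
    have hkk : k * Y ^ 2 = -(c * X ^ 2) + 1 := by linear_combination hXY
    rw [hk] at hkk
    field_simp at hkk ⊢
    linear_combination hkk

theorem exists_conj_std [Fintype F] (hodd : Fintype.card F % 2 = 1) {d : F} (hd : d ≠ 0)
    {G : Matrix (Fin 2) (Fin 2) F} (htr : G 1 1 = -G 0 0) (hdet : G.det = d) :
    ∃ P : SL(2, F), G * (P : Matrix (Fin 2) (Fin 2) F) = (P : Matrix (Fin 2) (Fin 2) F) * stdR d := by
  set a := G 0 0
  set b := G 0 1
  set c := G 1 0
  rw [det_fin_two] at hdet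
  have hdisc : a * a + b * c ≠ 0 := by
    intro h
    apply hd
    rw [← hdet, htr]
    linear_combination (norm := skip) -h
    simp only [a, b, c]; ring
  obtain ⟨x, y, hxy⟩ := exists_rep hodd hdisc
  refine ⟨⟨!![x, a * x + b * y; y, c * x - a * y], ?_⟩, ?_⟩
  · rw [det_fin_two_of]; linear_combination hxy
  · change G * !![x, a * x + b * y; y, c * x - a * y] = !![x, a * x + b * y; y, c * x - a * y] * stdR d
    have hd' : d = -(a * a) - b * c := by rw [← hdet, htr]; ring
    ext i j
    fin_cases i <;> fin_cases j <;> simp [stdR, Matrix.mul_apply, Fin.sum_univ_two, htr] <;>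
      simp only [hd', a, b, c] <;> ring

/-- the image of a trace zero conjugation: all matrices with these invariants are conjugate -/
theorem exists_conj [Fintype F] (hodd : Fintype.card F % 2 = 1) {d : F} (hd : d ≠ 0)
    {G H : Matrix (Fin 2) (Fin 2) F} (htr : G 1 1 = -G 0 0) (hdet : G.det = d)
    (htr' : H 1 1 = -H 0 0) (hdet' : H.det = d) :
    ∃ P : SL(2, F), G * (P : Matrix (Fin 2) (Fin 2) F) = (P : Matrix (Fin 2) (Fin 2) F) * H := by
  obtain ⟨P, hP⟩ := exists_conj_std hodd hd htr hdet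
  obtain ⟨Q, hQ⟩ := exists_conj_std hodd hd htr' hdet'
  refine ⟨P * Q⁻¹, ?_⟩
  have hQ' : (Q : Matrix (Fin 2) (Fin 2) F) * ((Q⁻¹ : SL(2, F)) : Matrix (Fin 2) (Fin 2) F) = 1 :=
    congrArg Subtype.val (mul_inv_cancel Q)
  have hQ'' : ((Q⁻¹ : SL(2, F)) : Matrix (Fin 2) (Fin 2) F) * (Q : Matrix (Fin 2) (Fin 2) F) = 1 :=
    congrArg Subtype.val (inv_mul_cancel Q)
  have : stdR d * ((Q⁻¹ : SL(2, F)) : Matrix (Fin 2) (Fin 2) F) = ((Q⁻¹ : SL(2, F)) : Matrix (Fin 2) (Fin 2) F) * H := by
    calc stdR d * ((Q⁻¹ : SL(2, F)) : Matrix (Fin 2) (Fin 2) F)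
        = ((Q⁻¹ : SL(2, F)) : Matrix (Fin 2) (Fin 2) F) * ((Q : Matrix (Fin 2) (Fin 2) F) * stdR d) *
            ((Q⁻¹ : SL(2, F)) : Matrix (Fin 2) (Fin 2) F) := by rw [← mul_assoc, hQ'', one_mul]
      _ = _ := by rw [← hQ, mul_assoc, mul_assoc, hQ', mul_one]
  change G * ((P : Matrix (Fin 2) (Fin 2) F) * ((Q⁻¹ : SL(2, F)) : Matrix (Fin 2) (Fin 2) F)) =
    (P : Matrix (Fin 2) (Fin 2) F) * ((Q⁻¹ : SL(2, F)) : Matrix (Fin 2) (Fin 2) F) * H
  rw [← mul_assoc, hP, mul_assoc, this, ← mul_assoc]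

/-- a matrix whose square is scalar but which is not scalar has trace zero -/
theorem trace_zero_of_sq {G : Matrix (Fin 2) (Fin 2) F} {k : F} (h : G * G = k • (1 : Matrix (Fin 2) (Fin 2) F)) :
    G 1 1 = -G 0 0 ∨ (G 0 1 = 0 ∧ G 1 0 = 0 ∧ G 1 1 = G 0 0) := by
  by_cases ht : G 1 1 = -G 0 0
  · exact Or.inl ht
  · right
    have ht' : G 0 0 + G 1 1 ≠ 0 := fun e => ht (by linear_combination e)
    have h01 := congrFun (congrFun h 0) 1
    have h10 := congrFun (congrFun h 1) 0
    have h00 := congrFun (congrFun h 0) 0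
    have h11 := congrFun (congrFun h 1) 1
    simp [Matrix.mul_apply, Fin.sum_univ_two] at h01 h10 h00 h11
    have b0 : G 0 1 = 0 := by
      have : G 0 1 * (G 0 0 + G 1 1) = 0 := by linear_combination h01
      exact (mul_eq_zero.1 this).resolve_right ht'
    have c0 : G 1 0 = 0 := by
      have : G 1 0 * (G 0 0 + G 1 1) = 0 := by linear_combination h10
      exact (mul_eq_zero.1 this).resolve_right ht'
    refine ⟨b0, c0, ?_⟩
    have : (G 0 0 + G 1 1) * (G 1 1 - G 0 0) = 0 := by linear_combination h11 - h00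
    linear_combination (mul_eq_zero.1 this).resolve_left ht'

/-- homomorphisms out of `SL₂` agree when they agree on the root elements -/
theorem hom_ext {G : Type*} [Group G] {f g : SL(2, F) →* G}
    (hu : ∀ t, f (ChevalleySL2.upper t) = g (ChevalleySL2.upper t))
    (hl : ∀ t, f (ChevalleySL2.lower t) = g (ChevalleySL2.lower t)) : f = g := by
  refine MonoidHom.eq_of_eqOn_denseM ChevalleySL2.gen_top ?_
  rintro x (⟨t, rfl⟩ | rfl)
  · exact hu t
  · have : (ChevalleySL2.wel : SL(2, F)) =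
        ChevalleySL2.upper 1 * ChevalleySL2.lower (-1) * ChevalleySL2.upper 1 := by
      apply Subtype.ext
      change (!![0, 1; -1, 0] : Matrix (Fin 2) (Fin 2) F) = !![1, 1; 0, 1] * !![1, 0; -1, 1] * !![1, 1; 0, 1]
      ext i j
      fin_cases i <;> fin_cases j <;> simp [Matrix.mul_apply, Fin.sum_univ_two]
    rw [this]
    simp [hu, hl]

end Cfsg.Agent.SL2TraceZero71
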