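import Cfsg.Agent.Lib.ChevalleyDataG2
import Cfsg.Agent.Lib.ChevalleyRankOne
import Cfsg.Agent.Lib.ChevBruhatInstance
import Cfsg.Agent.Lib.ChevWeylData
import Cfsg.Agent.Lib.ChevFieldAut77
import Cfsg.Agent.Lib.SL2TraceZero71

/-!
`G₂(q)`, `q` odd: the centraliser of the involution `h_a(-1)` is `H · (SL₂ ∘ SL₂)`.
-/

set_option autoImplicit false
set_option linter.unusedSectionVars false
set_option maxRecDepth 10000

namespace Cfsg.Agent.G2InvolBase71

open Cfsg.Lie Cfsg.Agent.ChevalleyEngine Cfsg.Agent.ChevalleyCert Cfsg.Agent.ChevalleyRoots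
open Cfsg.Agent.ChevalleyCore Cfsg.Agent.ChevalleyTorus Cfsg.Agent.ChevalleyUnipotent
open Cfsg.Agent.ChevBruhat Cfsg.Agent.ChevWeyl
open scoped MatrixGroups

abbrev C : Cert chevG2 := ChevalleyDataG2.cert

variable {F : Type*} [Field F]

local notation "G2" => GL chevG2.Idx F
local notation "X" => xg (F := F) C

theorem l7 : 7 < chevG2.nroots := by decide +kernel
theorem l11 : 11 < chevG2.nroots := by decide +kernel

/-- the Bruhat data -/
noncomputable def S (F : Type*) [Field F] : Sys chevG2 F :=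
  ChevBruhatInstance.mkSys C ChevWeylData.g2 (by decide +kernel)

theorem S_xg (r : ℕ) (t : F) : (S F).xg r t = xg C r t := rfl

/-! ### torus -/

/-- torus element with coordinates `a, b` -/
def T (a b : Fˣ) : G2 := torus chevG2 fun i => if i.val = 0 then a else b

theorem tchar_T (a b : Fˣ) (s : ℕ) :
    tchar chevG2 (fun i => if i.val = 0 then a else b) s = a ^ chevG2.cartan 0 s * b ^ chevG2.cartan 1 s := by
  show ∏ i : Fin 2, (if i.val = 0 then a else b) ^ chevG2.cartan i.val s = _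
  rw [Fin.prod_univ_two]
  rfl

theorem T_conj {s : ℕ} (hs : s < chevG2.nroots) (a b : Fˣ) (t : F) :
    T a b * xg C s t * (T a b)⁻¹ = xg C s (((a ^ chevG2.cartan 0 s * b ^ chevG2.cartan 1 s : Fˣ) : F) * t) := by
  rw [T, torus_conj_xg C hs, tchar_T]

theorem T_mem (a b : Fˣ) : T a b ∈ chevG2.diagonalSubgroup F := torus_mem_H C _

theorem exists_T {g : G2} (hg : g ∈ chevG2.diagonalSubgroup F) : ∃ a b : Fˣ, g = T a b := by
  obtain ⟨c, rfl⟩ := (mem_H_iff C).1 hg
  refine ⟨c ⟨0, by decide +kernel⟩, c ⟨1, by decide +kernel⟩, ?_⟩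
  unfold T
  congr 1
  funext i
  obtain ⟨i, hi⟩ := i
  change i < 2 at hi
  interval_cases i <;> rfl

theorem T_inj [Fintype F] {a b a' b' : Fˣ} (h : T a b = T a' b') : a = a' ∧ b = b' := by
  have h' := ChevFieldAut77.torus_injective ChevalleyTorusCard.smithG2 C h
  exact ⟨by simpa using congrFun h' ⟨0, by decide +kernel⟩, by simpa using congrFun h' ⟨1, by decide +kernel⟩⟩

theorem T_mul (a b a' b' : Fˣ) : T a b * T a' b' = T (a * a') (b * b') := by
  rw [T, T, T, ← map_mul]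
  congr 1
  funext i
  by_cases h : i.val = 0 <;> simp [h]

theorem T_one : T (1 : Fˣ) 1 = (1 : G2) := by
  rw [T, show (fun i : Fin chevG2.rank => if i.val = 0 then (1 : Fˣ) else 1) = 1 from funext fun i => by simp,
    map_one]

theorem hg_T {r : ℕ} (hr : r < chevG2.nroots) (t : Fˣ) :
    hg C r (t : F) = T (t ^ cc chevG2 r 0) (t ^ cc chevG2 r 1) := by
  rw [hg_eq_torus C hr, T]
  congr 1
  funext i
  obtain ⟨i, hi⟩ := i
  change i < 2 at hi
  interval_cases i <;> rfl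

theorem hg7 (t : Fˣ) : hg C 7 (t : F) = T t 1 := by
  rw [hg_T l7, show cc chevG2 7 0 = 1 by decide +kernel, show cc chevG2 7 1 = 0 by decide +kernel, zpow_one,
    zpow_zero]

theorem hg11 (t : Fˣ) : hg C 11 (t : F) = T t (t * t) := by
  rw [hg_T l11, show cc chevG2 11 0 = 1 by decide +kernel, show cc chevG2 11 1 = 2 by decide +kernel, zpow_one]
  congr 1
  exact zpow_two t

/-- the involution `h_a(-1)` -/
def t0 : G2 := T (-1) 1

/-! ### the two root `SL₂` -/

/-- `SL₂` on the roots `±a` -/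
noncomputable def phi7 : SL(2, F) →* G2 := ChevalleySL2.phi (ChevalleyRankOne.rels C l7)

/-- `SL₂` on the roots `±(3a+2b)` -/
noncomputable def phi11 : SL(2, F) →* G2 := ChevalleySL2.phi (ChevalleyRankOne.rels C l11)

theorem roots_commute {s r : ℕ} (hs : s = 7 ∨ s = chevG2.neg 7) (hr : r = 11 ∨ r = chevG2.neg 11) (t u : F) :
    Commute (xg C s t) (xg C r u) := by
  have hd : ∀ s ∈ [7, chevG2.neg 7], ∀ r ∈ [11, chevG2.neg 11],
      s < chevG2.nroots ∧ r < chevG2.nroots ∧ r ≠ s ∧ r ≠ chevG2.neg s ∧ chevG2.commTerms s r = [] := by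
    decide +kernel
  obtain ⟨h1, h2, h3, h4, h5⟩ := hd s (by rcases hs with rfl | rfl <;> simp) r
    (by rcases hr with rfl | rfl <;> simp)
  have h := comm_formula C h1 h2 h3 h4 t u
  rw [show chevG2.commWord F s r t u = [] by simp [ChevalleyDatum.commWord, h5]] at h
  simp only [wg, List.map_nil, List.prod_nil, mul_one] at h
  exact h.symm

theorem phi_commute (g g' : SL(2, F)) : Commute (phi7 g) (phi11 g') := by
  have h1 : phi7 g ∈ (phi7 (F := F)).range := ⟨g, rfl⟩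
  have h2 : phi11 g' ∈ (phi11 (F := F)).range := ⟨g', rfl⟩
  rw [phi7, ChevalleySL2.range_phi] at h1
  rw [phi11, ChevalleySL2.range_phi] at h2
  have key : Subgroup.closure (Set.range (fun u : F => xg C 11 u) ∪ Set.range fun u : F => xg C (chevG2.neg 11) u) ≤
      Subgroup.centralizer (Set.range (fun u : F => xg C 7 u) ∪ Set.range fun u : F => xg C (chevG2.neg 7) u) := by
    rw [Subgroup.closure_le]
    intro y hy
    rw [SetLike.mem_coe, Subgroup.mem_centralizer_iff]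
    rintro x (⟨t, rfl⟩ | ⟨t, rfl⟩) <;> obtain ⟨u, rfl⟩ | ⟨u, rfl⟩ := hy <;>
      exact (roots_commute (by simp) (by simp) t u).eq
  have key2 : Subgroup.closure (Set.range (fun u : F => xg C 7 u) ∪ Set.range fun u : F => xg C (chevG2.neg 7) u) ≤
      Subgroup.centralizer {phi11 g'} := by
    rw [Subgroup.closure_le]
    intro x hx
    rw [SetLike.mem_coe, Subgroup.mem_centralizer_singleton_iff]
    exact Subgroup.mem_centralizer_iff.1 (key h2) x hx
  exact Subgroup.mem_centralizer_singleton_iff.1 (key2 h1)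

/-- the homomorphism out of `SL₂ × SL₂` -/
noncomputable def Phi : SL(2, F) × SL(2, F) →* G2 := phi7.noncommCoprod phi11 phi_commute

theorem Phi_apply (g g' : SL(2, F)) : Phi (g, g') = phi7 g * phi11 g' := rfl

theorem phi_value {r : ℕ} (hr : r < chevG2.nroots) (g : SL(2, F)) :
    (g.1 1 0 = 0 → ChevalleySL2.phi (ChevalleyRankOne.rels C hr) g = xg C r (g.1 0 1 * g.1 0 0) * hg C r (g.1 0 0)) ∧
    (g.1 1 0 ≠ 0 → ChevalleySL2.phi (ChevalleyRankOne.rels C hr) g =
      xg C r (g.1 0 0 / g.1 1 0) * ng C r (-(g.1 1 0)⁻¹) * xg C r (g.1 1 1 / g.1 1 0)) := by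
  constructor <;> intro h
  · show ChevalleySL2.phiFun _ _ g = _
    simp only [ChevalleySL2.phiFun, ChevalleySL2.phiE, if_pos h]
    rfl
  · show ChevalleySL2.phiFun _ _ g = _
    simp only [ChevalleySL2.phiFun, ChevalleySL2.phiE, if_neg h]
    rfl

theorem lower_left_zero {r : ℕ} (hr : r < chevG2.nroots) {g : SL(2, F)} {m : F}
    (h : ChevalleySL2.phi (ChevalleyRankOne.rels C hr) g * xg C r 1 *
      (ChevalleySL2.phi (ChevalleyRankOne.rels C hr) g)⁻¹ = xg C r m) : g.1 1 0 = 0 := by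
  by_contra hc
  rw [(phi_value hr g).2 hc] at h
  set s : F := -(g.1 1 0)⁻¹
  have hs : s ≠ 0 := neg_ne_zero.2 (inv_ne_zero hc)
  set P := g.1 0 0 / g.1 1 0
  set Q := g.1 1 1 / g.1 1 0
  have h1 : ng C r s * xg C r 1 * (ng C r s)⁻¹ = xg C r m := by
    have : ng C r s * xg C r 1 * (ng C r s)⁻¹ =
        (xg C r P)⁻¹ * (xg C r P * ng C r s * xg C r Q * xg C r 1 *
          (xg C r P * ng C r s * xg C r Q)⁻¹) * xg C r P := by
      have e : xg C r Q * xg C r 1 * (xg C r Q)⁻¹ = xg C r (1 : F) := by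
        rw [xg_mul, xg_inv, xg_mul]; congr 1; ring
      conv_lhs => rw [← e]
      group
    rw [this, h, xg_inv, xg_mul, xg_mul]
    congr 1; ring
  obtain ⟨k, hk, hkk⟩ := H_conj_xg C (C.neg_lt r) (hg_mem_H C hr hs)
  rw [ng_eq, show hg C r s * ng C r 1 * xg C r 1 * (hg C r s * ng C r 1)⁻¹ =
    hg C r s * (ng C r 1 * xg C r 1 * (ng C r 1)⁻¹) * (hg C r s)⁻¹ by group,
    ChevalleyRankOne.ng_conj_self C hr, hkk] at h1
  exact neg_ne C hr (ChevBruhatInstance.xg_injective C (C.neg_lt r) hr (by simpa using hk) h1).1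

theorem diag_of_mem {g g' : SL(2, F)} (h : Phi (g, g') ∈ chevG2.diagonalSubgroup F) :
    (g.1 0 1 = 0 ∧ g.1 1 0 = 0) ∧ (g'.1 0 1 = 0 ∧ g'.1 1 0 = 0) := by
  obtain ⟨a, -, ha⟩ := H_conj_xg C l7 h
  obtain ⟨a', -, ha'⟩ := H_conj_xg C l11 h
  have up : ∀ {r : ℕ} (hr : r < chevG2.nroots) (t : F), xg C r t =
      ChevalleySL2.phi (ChevalleyRankOne.rels C hr) (ChevalleySL2.upper t) :=
    fun {r} hr t => (ChevalleySL2.phi_upper (ChevalleyRankOne.rels C hr) t).symm
  have hc : g.1 1 0 = 0 := by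
    refine lower_left_zero l7 (m := a * 1) ?_
    rw [← ha 1, Phi_apply]
    show phi7 g * xg C 7 1 * (phi7 g)⁻¹ = _
    have e : phi11 g' * xg C 7 (1 : F) * (phi11 g')⁻¹ = xg C 7 1 := by
      rw [up l7]; exact mul_inv_eq_iff_eq_mul.2 (phi_commute _ g').eq.symm
    conv_lhs => rw [← e]
    group
  have hc' : g'.1 1 0 = 0 := by
    refine lower_left_zero l11 (m := a' * 1) ?_
    rw [← ha' 1, Phi_apply, (phi_commute g g').eq]
    show phi11 g' * xg C 11 1 * (phi11 g')⁻¹ = _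
    have e : phi7 g * xg C 11 (1 : F) * (phi7 g)⁻¹ = xg C 11 1 := by
      rw [up l11]; exact mul_inv_eq_iff_eq_mul.2 (phi_commute g _).eq
    conv_lhs => rw [← e]
    group
  have v7 := (phi_value l7 g).1 hc
  have v11 := (phi_value l11 g').1 hc'
  have ha0 : g.1 0 0 ≠ 0 := by
    intro e; have := ChevalleySL2.det_eq g; rw [e, hc] at this; simp at this
  have ha0' : g'.1 0 0 ≠ 0 := by
    intro e; have := ChevalleySL2.det_eq g'; rw [e, hc'] at this; simp at this
  obtain ⟨k, hk, hkk⟩ := H_conj_xg C l11 (hg_mem_H C l7 ha0)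
  set u := g.1 0 1 * g.1 0 0 with hu
  set u' := g'.1 0 1 * g'.1 0 0 with hu'
  have hP : Phi (g, g') = xg C 7 u * xg C 11 (k * u') * (hg C 7 (g.1 0 0) * hg C 11 (g'.1 0 0)) := by
    rw [Phi_apply, phi7, phi11, v7, v11, ← hkk u']; group
  have hUH : xg C 7 u * xg C 11 (k * u') ∈
      chevG2.posUnipotent F ⊓ chevG2.diagonalSubgroup F := by
    refine ⟨mul_mem (xg_mem_U C (by decide +kernel) l7 _) (xg_mem_U C (by decide +kernel) l11 _), ?_⟩
    have := mul_mem h (inv_mem (mul_mem (hg_mem_H C l7 ha0) (hg_mem_H C l11 ha0')))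
    rwa [hP, mul_inv_cancel_right] at this
  rw [U_inf_H C, Subgroup.mem_bot] at hUH
  have hu0 : u = 0 := by
    by_contra hne
    rw [mul_eq_one_iff_eq_inv, xg_inv] at hUH
    exact absurd (ChevBruhatInstance.xg_injective C l7 l11 hne hUH).1 (by norm_num)
  have hu0' : k * u' = 0 := by
    rw [hu0, xg_zero, one_mul] at hUH
    exact (S F).xg_eq_one l11 hUH
  rw [hu] at hu0
  rw [hu'] at hu0'
  refine ⟨⟨?_, hc⟩, ?_, hc'⟩
  · simpa [ha0] using hu0
  · simpa [hk, ha0'] using hu0'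

theorem Phi_diag {g g' : SL(2, F)} (hb : g.1 0 1 = 0) (hc : g.1 1 0 = 0) (hb' : g'.1 0 1 = 0)
    (hc' : g'.1 1 0 = 0) {a a' : Fˣ} (ha : g.1 0 0 = a) (ha' : g'.1 0 0 = a') :
    Phi (g, g') = T (a * a') (a' * a') := by
  rw [Phi_apply, phi7, phi11, (phi_value l7 g).1 hc, (phi_value l11 g').1 hc', hb, hb', zero_mul, zero_mul,
    xg_zero, xg_zero, one_mul, one_mul, ha, ha', hg7, hg11, T_mul, one_mul]

/-- the diagonal matrix `diag (a, a⁻¹)` -/
def dg (a : Fˣ) : SL(2, F) :=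
  ⟨!![(a : F), 0; 0, (a⁻¹ : Fˣ)], by simp [Matrix.det_fin_two_of]⟩

theorem Phi_dg (a a' : Fˣ) : Phi (dg a, dg a') = T (a * a') (a' * a') :=
  Phi_diag (by simp [dg]) (by simp [dg]) (by simp [dg]) (by simp [dg]) (by simp [dg]) (by simp [dg])

theorem eq_dg {g : SL(2, F)} (hb : g.1 0 1 = 0) (hc : g.1 1 0 = 0) : ∃ a : Fˣ, g = dg a := by
  have hdet := ChevalleySL2.det_eq g
  have h : g.1 0 0 * g.1 1 1 = 1 := by linear_combination hdet + g.1 0 1 * hc
  refine ⟨Units.mkOfMulEqOne _ _ h, Subtype.ext ?_⟩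
  ext i j
  fin_cases i <;> fin_cases j <;> simp [dg, hb, hc, Units.mkOfMulEqOne, eq_inv_of_mul_eq_one_right h]

theorem Phi_ker [Fintype F] {p : SL(2, F) × SL(2, F)} : Phi p = 1 ↔ p = 1 ∨ p = (-1, -1) := by
  have hneg : (dg (-1) : SL(2, F)) = -1 := by
    apply Subtype.ext; ext i j
    fin_cases i <;> fin_cases j <;> simp [dg]
  have hone : (dg 1 : SL(2, F)) = 1 := by
    apply Subtype.ext; ext i j
    fin_cases i <;> fin_cases j <;> simp [dg]
  constructor
  · intro h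
    obtain ⟨g, g'⟩ := p
    obtain ⟨⟨hb, hc⟩, hb', hc'⟩ := diag_of_mem (h ▸ one_mem _ : Phi (g, g') ∈ chevG2.diagonalSubgroup F)
    obtain ⟨a, rfl⟩ := eq_dg hb hc
    obtain ⟨a', rfl⟩ := eq_dg hb' hc'
    rw [Phi_dg, ← T_one] at h
    obtain ⟨h1, h2⟩ := T_inj h
    have h2' : (a' : F) * a' = 1 := by simpa using congrArg Units.val h2
    rcases mul_self_eq_one_iff.1 h2' with e | e
    · obtain rfl : a' = 1 := Units.ext e
      left; rw [mul_one] at h1; subst h1; rw [hone]; rfl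
    · obtain rfl : a' = -1 := Units.ext (by simpa using e)
      right
      obtain rfl : a = -1 := by
        rw [mul_neg, mul_one, neg_eq_iff_eq_neg] at h1; exact h1
      rw [hneg]
  · rintro (rfl | rfl)
    · exact map_one _
    · rw [← hneg, Phi_dg, ← T_one]; simp

/-- the image of `SL₂ × SL₂` -/
noncomputable def K (F : Type*) [Field F] : Subgroup (GL chevG2.Idx F) := (Phi (F := F)).range

theorem Phi_mem (p : SL(2, F) × SL(2, F)) : Phi p ∈ K F := ⟨p, rfl⟩

theorem T_mem_K_iff [Fintype F] {a b : Fˣ} : T a b ∈ K F ↔ IsSquare b := by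
  constructor
  · rintro ⟨⟨g, g'⟩, h⟩
    obtain ⟨⟨hb, hc⟩, hb', hc'⟩ := diag_of_mem (h ▸ T_mem a b : Phi (g, g') ∈ chevG2.diagonalSubgroup F)
    obtain ⟨x, rfl⟩ := eq_dg hb hc
    obtain ⟨y, rfl⟩ := eq_dg hb' hc'
    rw [Phi_dg] at h
    exact ⟨y, (T_inj h).2.symm⟩
  · rintro ⟨y, rfl⟩
    exact ⟨(dg (a * y⁻¹), dg y), by rw [Phi_dg, inv_mul_cancel_right]⟩

/-- conjugation by `diag (k, 1)` -/
def cjd (k : Fˣ) : SL(2, F) →* SL(2, F) where
  toFun g := ⟨!![g.1 0 0, (k : F) * g.1 0 1; g.1 1 0 * (k⁻¹ : Fˣ), g.1 1 1], by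
    rw [Matrix.det_fin_two_of]
    have hdet := ChevalleySL2.det_eq g
    have := k.ne_zero
    field_simp
    push_cast
    field_simp
    linear_combination hdet⟩
  map_one' := by
    apply Subtype.ext; ext i j
    fin_cases i <;> fin_cases j <;> simp
  map_mul' g g' := by
    apply Subtype.ext
    change _ = (!![g.1 0 0, (k : F) * g.1 0 1; g.1 1 0 * (k⁻¹ : Fˣ), g.1 1 1] : Matrix (Fin 2) (Fin 2) F) *
      !![g'.1 0 0, (k : F) * g'.1 0 1; g'.1 1 0 * (k⁻¹ : Fˣ), g'.1 1 1]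
    have := k.ne_zero
    have e : ∀ i j, (g * g').1 i j = g.1 i 0 * g'.1 0 j + g.1 i 1 * g'.1 1 j := fun i j => by
      change (g.1 * g'.1) i j = _
      simp [Matrix.mul_apply, Fin.sum_univ_two]
    ext i j
    fin_cases i <;> fin_cases j <;> simp [Matrix.mul_apply, Fin.sum_univ_two, e] <;> field_simp

theorem T_conj_phi {r : ℕ} (hr : r < chevG2.nroots) (a b k : Fˣ)
    (hk : a ^ chevG2.cartan 0 r * b ^ chevG2.cartan 1 r = k)
    (hkn : a ^ chevG2.cartan 0 (chevG2.neg r) * b ^ chevG2.cartan 1 (chevG2.neg r) = k⁻¹) (g : SL(2, F)) :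
    T a b * ChevalleySL2.phi (ChevalleyRankOne.rels C hr) g * (T a b)⁻¹ =
      ChevalleySL2.phi (ChevalleyRankOne.rels C hr) (cjd k g) := by
  suffices h : (MulAut.conj (T a b)).toMonoidHom.comp (ChevalleySL2.phi (ChevalleyRankOne.rels C hr)) =
      (ChevalleySL2.phi (ChevalleyRankOne.rels C hr)).comp (cjd k) from DFunLike.congr_fun h g
  refine SL2TraceZero71.hom_ext (fun t => ?_) (fun t => ?_)
  · have : cjd k (ChevalleySL2.upper t) = ChevalleySL2.upper ((k : F) * t) := by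
      apply Subtype.ext
      show (!![_, _; _, _] : Matrix (Fin 2) (Fin 2) F) = !![1, (k : F) * t; 0, 1]
      simp [ChevalleySL2.upper]
    simp only [MonoidHom.comp_apply, MulEquiv.coe_toMonoidHom, MulAut.conj_apply, this]
    have pu : ∀ u : F, ChevalleySL2.phi (ChevalleyRankOne.rels C hr) (ChevalleySL2.upper u) = xg C r u :=
      fun u => ChevalleySL2.phi_upper (ChevalleyRankOne.rels C hr) u
    rw [pu, pu]
    rw [T_conj hr, hk]
  · have : cjd k (ChevalleySL2.lower t) = ChevalleySL2.lower (t * (k⁻¹ : Fˣ)) := by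
      apply Subtype.ext
      show (!![_, _; _, _] : Matrix (Fin 2) (Fin 2) F) = !![1, 0; t * ((k⁻¹ : Fˣ) : F), 1]
      simp [ChevalleySL2.lower]
    simp only [MonoidHom.comp_apply, MulEquiv.coe_toMonoidHom, MulAut.conj_apply, this,
      ChevalleySL2.phi_lower]
    rw [T_conj (C.neg_lt r), hkn, mul_comm]

theorem T_conj_Phi (a b : Fˣ) (p : SL(2, F) × SL(2, F)) :
    T a b * Phi p * (T a b)⁻¹ = Phi (cjd (a * a * b⁻¹) p.1, cjd b p.2) := by
  have e : chevG2.cartan 0 7 = 2 ∧ chevG2.cartan 1 7 = -1 ∧ chevG2.cartan 0 (chevG2.neg 7) = -2 ∧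
      chevG2.cartan 1 (chevG2.neg 7) = 1 ∧ chevG2.cartan 0 11 = 0 ∧ chevG2.cartan 1 11 = 1 ∧
      chevG2.cartan 0 (chevG2.neg 11) = 0 ∧ chevG2.cartan 1 (chevG2.neg 11) = -1 := by decide +kernel
  obtain ⟨e1, e2, e3, e4, e5, e6, e7, e8⟩ := e
  obtain ⟨g, g'⟩ := p
  rw [Phi_apply, Phi_apply, ← MulAut.conj_apply, map_mul, MulAut.conj_apply, MulAut.conj_apply]
  congr 1
  · exact T_conj_phi l7 a b _ (by rw [e1, e2, zpow_two, zpow_neg_one])
      (by rw [e3, e4, zpow_one, zpow_neg, zpow_two]; simp [mul_comm, mul_left_comm]) g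
  · exact T_conj_phi l11 a b _ (by rw [e5, e6, zpow_zero, one_mul, zpow_one])
      (by rw [e7, e8, zpow_zero, one_mul, zpow_neg_one]) g'

theorem H_le_normalizer_K : chevG2.diagonalSubgroup F ≤ Subgroup.normalizer (K F : Set G2) := by
  intro h hh
  obtain ⟨a, b, rfl⟩ := exists_T hh
  have key : ∀ (a b : Fˣ) x, x ∈ K F → T a b * x * (T a b)⁻¹ ∈ K F := by
    rintro a b x ⟨p, rfl⟩
    rw [T_conj_Phi]; exact Phi_mem _
  rw [Subgroup.mem_normalizer_iff]
  refine fun x => ⟨key a b x, fun hx => ?_⟩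
  have := key a⁻¹ b⁻¹ _ hx
  have hi : T a⁻¹ b⁻¹ = (T a b)⁻¹ := eq_inv_of_mul_eq_one_right (by rw [T_mul]; simp [T_one])
  rw [hi, inv_inv, show (T a b)⁻¹ * (T a b * x * (T a b)⁻¹) * T a b = x by group] at this
  exact this

/-- the subgroup `H K` -/
noncomputable def HK (F : Type*) [Field F] : Subgroup (GL chevG2.Idx F) := K F ⊔ chevG2.diagonalSubgroup F

theorem mem_HK {x : G2} : x ∈ HK F ↔ ∃ p a b, Phi p * T a b = x := by
  rw [HK, ← SetLike.mem_coe, Subgroup.coe_mul_of_right_le_normalizer_left _ _ H_le_normalizer_K, Set.mem_mul]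
  constructor
  · rintro ⟨_, ⟨p, rfl⟩, h, hh, rfl⟩
    obtain ⟨a, b, rfl⟩ := exists_T hh
    exact ⟨p, a, b, rfl⟩
  · rintro ⟨p, a, b, rfl⟩
    exact ⟨_, Phi_mem p, _, T_mem a b, rfl⟩

theorem Phi_t0 [Fintype F] : Phi (-1, 1) = (t0 : G2) := by
  have hneg : (dg (-1) : SL(2, F)) = -1 := by
    apply Subtype.ext; ext i j
    fin_cases i <;> fin_cases j <;> simp [dg]
  have hone : (dg 1 : SL(2, F)) = 1 := by
    apply Subtype.ext; ext i j
    fin_cases i <;> fin_cases j <;> simp [dg]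
  rw [← hneg, ← hone, Phi_dg, t0]; simp

theorem t0_comm [Fintype F] {x : G2} (hx : x ∈ HK F) : Commute t0 x := by
  obtain ⟨p, a, b, rfl⟩ := mem_HK.1 hx
  refine Commute.mul_right ?_ ?_
  · rw [← Phi_t0]
    refine Commute.map ?_ Phi
    refine Prod.ext ?_ ?_
    · simp
    · simp
  · rw [t0, commute_iff_eq, T_mul, T_mul, mul_comm (-1 : Fˣ), mul_comm (1 : Fˣ)]

end Cfsg.Agent.G2InvolBase71
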