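import Cfsg.Agent.Lib.G2InvolBase71

/-!
`G₂(q)`, `q` odd: `C(h_a(-1)) = H (SL₂ ∘ SL₂)`.
-/

set_option autoImplicit false
set_option linter.unusedSectionVars false
set_option maxRecDepth 10000

namespace Cfsg.Agent.G2InvolCentral71

open Cfsg.Lie Cfsg.Agent.ChevalleyEngine Cfsg.Agent.ChevalleyCert Cfsg.Agent.ChevalleyRoots
open Cfsg.Agent.ChevalleyCore Cfsg.Agent.ChevalleyTorus Cfsg.Agent.ChevalleyUnipotent
open Cfsg.Agent.ChevBruhat Cfsg.Agent.ChevWeyl Cfsg.Agent.G2InvolBase71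
open scoped MatrixGroups

variable {F : Type*} [Field F] [Fintype F]

local notation "G2" => GL chevG2.Idx F

theorem neg_one_ne (h2 : (2 : F) ≠ 0) : (-1 : Fˣ) ≠ 1 := by
  intro h
  have h' : (-1 : F) = 1 := by simpa using congrArg Units.val h
  exact h2 (by linear_combination -h')

theorem neg_one_zpow_eq (h2 : (2 : F) ≠ 0) {n : ℤ} :
    ((-1 : Fˣ) ^ n = 1 → n % 2 = 0) ∧ ((-1 : Fˣ) ^ n = -1 → n % 2 = 1) := by
  rcases Int.even_or_odd n with h | h
  · rw [h.neg_one_zpow]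
    exact ⟨fun _ => Int.even_iff.1 h, fun e => absurd e.symm (neg_one_ne h2)⟩
  · rw [h.neg_one_zpow]
    exact ⟨fun e => absurd e (neg_one_ne h2), fun _ => Int.odd_iff.1 h⟩

theorem t0_eq_hg : hg C 7 (-1 : F) = (t0 : G2) := by
  rw [show (-1 : F) = ((-1 : Fˣ) : F) by simp, hg7, t0]

theorem hg_neg_one_T {r : ℕ} (hr : r < chevG2.nroots) :
    hg C r (-1 : F) = T ((-1 : Fˣ) ^ cc chevG2 r 0) ((-1 : Fˣ) ^ cc chevG2 r 1) := by
  rw [show (-1 : F) = ((-1 : Fˣ) : F) by simp, hg_T hr]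

/-- an element of `N` carries `h_r(-1)` to `h_{wr}(-1)` -/
theorem conj_hg_neg_one (n : ↥(chevG2.monomialSubgroup F)) {r : ℕ} (hr : r < chevG2.nroots) :
    (n : G2) * hg C r (-1 : F) * (n : G2)⁻¹ = hg C ((S F).X.img ((S F).toW n) r) (-1 : F) := by
  obtain ⟨c, hc, h⟩ := (S F).conj_nn ((S F).acts_toW n) hr
  have hh' : ∀ {r : ℕ}, r < chevG2.nroots → ∀ a : F, a ≠ 0 → ng C r a * ng C r a = hg C r (-1 : F) := by
    intro r hr a ha
    apply Units.ext
    rw [ng_pair C hr a a ha ha, coe_hg_eq C hr (neg_ne_zero.2 one_ne_zero), div_self ha]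
  have hn : ∀ t : F, (n : G2) * ng C r t * (n : G2)⁻¹ = ng C ((S F).X.img ((S F).toW n) r) (c * t) := h
  rw [← hh' hr 1 one_ne_zero, ← MulAut.conj_apply, map_mul, MulAut.conj_apply, hn 1,
    hh' ((S F).X.img_lt _ hr) _ (mul_ne_zero hc one_ne_zero)]

theorem cc_par : ∀ r, r < chevG2.nroots → cc chevG2 r 0 % 2 = 1 → cc chevG2 r 1 % 2 = 0 →
      r = 7 ∨ r = 4 ∨ r = 11 ∨ r = 0 := by
  decide +kernel

theorem cc_aut : ∀ r, r < chevG2.nroots → ∀ r', r' < chevG2.nroots →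
      (∀ s, s < chevG2.nroots → ((List.range chevG2.nroots).any fun u =>
        decide (cc chevG2 u 0 = cc chevG2 s 0 * cc chevG2 r 0 + cc chevG2 s 1 * cc chevG2 r' 0 ∧
        cc chevG2 u 1 = cc chevG2 s 0 * cc chevG2 r 1 + cc chevG2 s 1 * cc chevG2 r' 1)) = true) →
      r ≠ 11 ∧ r ≠ 0 := by
  decide +kernel

theorem cc_inj : ∀ r, r < chevG2.nroots → ∀ s, s < chevG2.nroots → cc chevG2 r 0 = cc chevG2 s 0 →
      cc chevG2 r 1 = cc chevG2 s 1 → r = s := by
  decide +kernel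

theorem cor_lin (w : (S F).X.W) {s : ℕ} (hs : s < chevG2.nroots) {j : ℕ} (hj : j < 2) :
    cc chevG2 ((S F).X.img w s) j =
      cc chevG2 s 0 * cc chevG2 ((S F).X.img w 7) j + cc chevG2 s 1 * cc chevG2 ((S F).X.img w 6) j := by
  have h := (S F).X.cor_img w hs j (show j < chevG2.rank by exact hj)
  rw [show chevG2.rank = 2 from rfl, Finset.sum_range_succ, Finset.sum_range_one] at h
  exact h

theorem img_pairs (w : (S F).X.W) (h7 : (S F).X.img w 7 = 7 ∨ (S F).X.img w 7 = 4 ∨ (S F).X.img w 7 = 11 ∨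
    (S F).X.img w 7 = 0) : ((S F).X.img w 7 = 7 ∨ (S F).X.img w 7 = 4) ∧
      ((S F).X.img w 11 = 11 ∨ (S F).X.img w 11 = 0) := by
  have l6 : 6 < chevG2.nroots := by decide +kernel
  have hp := cc_aut _ ((S F).X.img_lt w l7) _ ((S F).X.img_lt w l6)
    (fun s hs => List.any_eq_true.2 ⟨_, List.mem_range.2 ((S F).X.img_lt w hs),
      decide_eq_true ⟨cor_lin w hs (by norm_num), cor_lin w hs (by norm_num)⟩⟩)
  have h7' : (S F).X.img w 7 = 7 ∨ (S F).X.img w 7 = 4 := by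
    rcases h7 with h | h | h | h
    · exact Or.inl h
    · exact Or.inr h
    · exact absurd h hp.1
    · exact absurd h hp.2
  refine ⟨h7', ?_⟩
  have e0 := cor_lin w l11 (j := 0) (by norm_num)
  have e1 := cor_lin w l11 (j := 1) (by norm_num)
  have c11 : cc chevG2 11 0 = 1 ∧ cc chevG2 11 1 = 2 ∧ cc chevG2 7 0 = 1 ∧ cc chevG2 7 1 = 0 ∧
      cc chevG2 4 0 = -1 ∧ cc chevG2 4 1 = 0 := by decide +kernel
  rw [c11.1, c11.2.1] at e0 e1
  have p0 : cc chevG2 ((S F).X.img w 11) 0 % 2 = 1 := by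
    rcases h7' with h | h <;> rw [h] at e0 <;> omega
  have p1 : cc chevG2 ((S F).X.img w 11) 1 % 2 = 0 := by
    rcases h7' with h | h <;> rw [h] at e1 <;> omega
  have hneg : (S F).X.img w 4 = chevG2.neg ((S F).X.img w 7) := by
    rw [← (S F).X.img_neg w l7, show chevG2.neg 7 = 4 by decide +kernel]
  rw [show chevG2.neg ((S F).X.img w 7) = if (S F).X.img w 7 = 7 then 4 else 7 by
    rcases h7' with h | h <;> rw [h] <;> decide +kernel] at hneg
  rcases cc_par _ ((S F).X.img_lt w l11) p0 p1 with h | h | h | h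
  · exfalso
    rcases h7' with h' | h'
    · exact absurd ((S F).X.img_injective w (h.trans h'.symm)) (by norm_num)
    · rw [if_neg (by omega)] at hneg
      exact absurd ((S F).X.img_injective w (h.trans hneg.symm)) (by norm_num)
  · exfalso
    rcases h7' with h' | h'
    · rw [if_pos h'] at hneg
      exact absurd ((S F).X.img_injective w (h.trans hneg.symm)) (by norm_num)
    · exact absurd ((S F).X.img_injective w (h.trans h'.symm)) (by norm_num)
  · exact Or.inl h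
  · exact Or.inr h

theorem toW_eq_one {w : (S F).X.W} (h7 : (S F).X.img w 7 = 7) (h11 : (S F).X.img w 11 = 11) : w = 1 := by
  have c11 : cc chevG2 11 0 = 1 ∧ cc chevG2 11 1 = 2 ∧ cc chevG2 7 0 = 1 ∧ cc chevG2 7 1 = 0 ∧
      cc chevG2 6 0 = 0 ∧ cc chevG2 6 1 = 1 := by decide +kernel
  have e0 := cor_lin w l11 (j := 0) (by norm_num)
  have e1 := cor_lin w l11 (j := 1) (by norm_num)
  rw [h7, h11] at e0 e1
  rw [c11.1, c11.2.1, c11.2.2.1] at e0
  rw [c11.1, c11.2.1, c11.2.2.2.1] at e1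
  have f0 : cc chevG2 ((S F).X.img w 6) 0 = 0 := by omega
  have f1 : cc chevG2 ((S F).X.img w 6) 1 = 1 := by omega
  apply (S F).X.ρ_injective
  apply Equiv.ext
  intro s
  rw [map_one, Equiv.Perm.one_apply]
  apply Fin.ext
  have e : (S F).X.img w s = s := by
    refine cc_inj _ ((S F).X.img_lt w s.2) _ s.2 ?_ ?_
    · rw [cor_lin w s.2 (by norm_num), h7, f0, c11.2.2.1]; ring
    · rw [cor_lin w s.2 (by norm_num), h7, f1, c11.2.2.2.1]; ring
  unfold Weyl.img at e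
  rwa [dif_pos s.2] at e

theorem ng_facts {r r' : ℕ} (h : (r = 7 ∧ r' = 11) ∨ (r = 11 ∧ r' = 7))
    {n : ↥(chevG2.monomialSubgroup F)} (hn : (n : G2) = ng C r 1) :
    (S F).X.img ((S F).toW n) r = chevG2.neg r ∧ (S F).X.img ((S F).toW n) r' = r' := by
  have hr : r < chevG2.nroots := by rcases h with ⟨rfl, -⟩ | ⟨rfl, -⟩ <;> first | exact l7 | exact l11
  have hr' : r' < chevG2.nroots := by rcases h with ⟨-, rfl⟩ | ⟨-, rfl⟩ <;> first | exact l7 | exact l11
  constructor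
  · obtain ⟨c, -, h1, -⟩ := (S F).acts_toW n r hr
    have h1' := h1 1
    rw [S_xg, S_xg, hn, ChevalleyRankOne.ng_conj_self C hr] at h1'
    exact ((ChevBruhatInstance.xg_injective C (C.neg_lt r) ((S F).X.img_lt _ hr) (by simp) h1').1).symm
  · obtain ⟨c, -, h1, -⟩ := (S F).acts_toW n r' hr'
    have h1' := h1 1
    have hc : ng C r (1 : F) * xg C r' 1 * (ng C r 1)⁻¹ = xg C r' 1 := by
      rw [mul_inv_eq_iff_eq_mul]
      unfold ng
      rcases h with ⟨rfl, rfl⟩ | ⟨rfl, rfl⟩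
      · exact ((roots_commute (Or.inl rfl) (Or.inl rfl) _ _).mul_left
          (roots_commute (Or.inr rfl) (Or.inl rfl) _ _)).mul_left (roots_commute (Or.inl rfl) (Or.inl rfl) _ _)
      · exact ((roots_commute (Or.inl rfl) (Or.inl rfl) _ _).symm.mul_left
          (roots_commute (Or.inl rfl) (Or.inr rfl) _ _).symm).mul_left
          (roots_commute (Or.inl rfl) (Or.inl rfl) _ _).symm
    rw [S_xg, S_xg, hn, hc] at h1'
    exact ((ChevBruhatInstance.xg_injective C hr' ((S F).X.img_lt _ hr') one_ne_zero h1').1).symm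

theorem ng7_mem : ng C 7 (1 : F) ∈ K F :=
  ⟨(ChevalleySL2.wel, 1), by
    rw [Phi_apply, map_one, mul_one]; exact ChevalleySL2.phi_wel (ChevalleyRankOne.rels C l7)⟩

theorem ng11_mem : ng C 11 (1 : F) ∈ K F :=
  ⟨(1, ChevalleySL2.wel), by
    rw [Phi_apply, map_one, one_mul]; exact ChevalleySL2.phi_wel (ChevalleyRankOne.rels C l11)⟩

theorem N_comm_mem (h2 : (2 : F) ≠ 0) {n : ↥(chevG2.monomialSubgroup F)} (hn : Commute (t0 : G2) n) :
    (n : G2) ∈ HK F := by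
  have h7 := conj_hg_neg_one n l7
  rw [t0_eq_hg, hn.symm.eq, mul_inv_cancel_right, hg_neg_one_T ((S F).X.img_lt _ l7)] at h7
  obtain ⟨e0, e1⟩ := T_inj (h7.trans rfl)
  have hmem := cc_par _ ((S F).X.img_lt _ l7) ((neg_one_zpow_eq h2).2 e0.symm)
    ((neg_one_zpow_eq h2).1 e1.symm)
  obtain ⟨p7, p11⟩ := img_pairs _ hmem
  set a : ↥(chevG2.monomialSubgroup F) := ⟨ng C 7 1, (S F).nn_mem_N l7⟩ with ha
  set b : ↥(chevG2.monomialSubgroup F) := ⟨ng C 11 1, (S F).nn_mem_N l11⟩ with hb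
  obtain ⟨fa, fa'⟩ := ng_facts (F := F) (Or.inl ⟨rfl, rfl⟩) (n := a) rfl
  obtain ⟨fb, fb'⟩ := ng_facts (F := F) (Or.inr ⟨rfl, rfl⟩) (n := b) rfl
  have n7 : chevG2.neg 7 = 4 ∧ chevG2.neg 4 = 7 ∧ chevG2.neg 11 = 0 ∧ chevG2.neg 0 = 11 := by decide +kernel
  have fa4 : (S F).X.img ((S F).toW a) 4 = 7 := by
    rw [← n7.1, (S F).X.img_neg _ l7, fa, n7.1, n7.2.1]
  have fa0 : (S F).X.img ((S F).toW a) 0 = 0 := by
    rw [← n7.2.2.1, (S F).X.img_neg _ l11, fa']
  have fb0 : (S F).X.img ((S F).toW b) 0 = 11 := by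
    rw [← n7.2.2.1, (S F).X.img_neg _ l11, fb, n7.2.2.1, n7.2.2.2]
  -- choose `m` with `m n` fixing both roots
  have key : ∀ m : ↥(chevG2.monomialSubgroup F), (m : G2) ∈ K F →
      (S F).X.img ((S F).toW m) ((S F).X.img ((S F).toW n) 7) = 7 →
      (S F).X.img ((S F).toW m) ((S F).X.img ((S F).toW n) 11) = 11 → (n : G2) ∈ HK F := by
    intro m hm e7 e11
    have hw : (S F).toW (m * n) = 1 := by
      refine toW_eq_one ?_ ?_ <;> rw [map_mul, (S F).X.img_mul] <;> assumption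
    have hH : ((m * n : ↥(chevG2.monomialSubgroup F)) : G2) ∈ chevG2.diagonalSubgroup F :=
      (S F).toW_ker.le hw
    rw [show (n : G2) = (m : G2)⁻¹ * ((m * n : ↥(chevG2.monomialSubgroup F)) : G2) by simp]
    exact mul_mem (inv_mem (Subgroup.mem_sup_left hm)) (Subgroup.mem_sup_right hH)
  rcases p7 with p7 | p7 <;> rcases p11 with p11 | p11
  · exact key 1 (one_mem _) (by rw [map_one, (S F).X.img_one, p7]) (by rw [map_one, (S F).X.img_one, p11])
  · exact key b ng11_mem (by rw [p7, fb']) (by rw [p11, fb0])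
  · exact key a ng7_mem (by rw [p7, fa4]) (by rw [p11, fa'])
  · refine key (a * b) (mul_mem ng7_mem ng11_mem) ?_ ?_
    · rw [p7, map_mul, (S F).X.img_mul]
      rw [← n7.1, (S F).X.img_neg _ l7, fb', n7.1, fa4]
    · rw [p11, map_mul, (S F).X.img_mul, fb0, fa']

theorem U_comm_mem (h2 : (2 : F) ≠ 0) {u : G2} (hu : u ∈ chevG2.posUnipotent F) (hc : Commute (t0 : G2) u) :
    u ∈ HK F := by
  rw [posUnipotent_eq C] at hu
  obtain ⟨t, -, rfl⟩ := exists_uProd C le_rfl hu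
  set f : ℕ → F := fun s => (((-1 : Fˣ) ^ chevG2.cartan 0 s * (1 : Fˣ) ^ chevG2.cartan 1 s : Fˣ) : F) * t s with hf
  have hconj : t0 * uProd C (chevG2.nroots / 2) t * (t0 : G2)⁻¹ = uProd C (chevG2.nroots / 2) f := by
    rw [uProd, uProd, ← MulAut.conj_apply, map_list_prod, List.map_map]
    congr 1
    refine List.map_congr_left fun s hs => ?_
    have h6 : chevG2.nroots / 2 = 6 ∧ chevG2.nroots = 12 := by decide +kernel
    rw [List.mem_range'_1] at hs
    simp only [Function.comp_apply, MulAut.conj_apply, t0]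
    exact T_conj (by omega) _ _ _
  rw [hc.eq, mul_inv_cancel_right] at hconj
  have hz : ∀ s, s < chevG2.nroots → chevG2.nroots / 2 ≤ s → chevG2.cartan 0 s % 2 = 1 → t s = 0 := by
    intro s hs hs' hodd
    have := uProd_inj C le_rfl hconj s hs' hs
    rw [hf] at this
    simp only [one_zpow, mul_one, (Int.odd_iff.2 hodd).neg_one_zpow] at this
    push_cast at this
    have h' : (2 : F) * t s = 0 := by linear_combination this
    exact (mul_eq_zero.1 h').resolve_left h2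
  have hd : ∀ s ∈ [6, 8, 9, 10], s < chevG2.nroots ∧ chevG2.nroots / 2 ≤ s ∧ chevG2.cartan 0 s % 2 = 1 := by
    decide +kernel
  have z : ∀ s ∈ [6, 8, 9, 10], t s = 0 := fun s hs => hz s (hd s hs).1 (hd s hs).2.1 (hd s hs).2.2
  have e : List.range' (chevG2.nroots / 2) (chevG2.nroots - chevG2.nroots / 2) = [6, 7, 8, 9, 10, 11] := by
    decide +kernel
  rw [uProd, e]
  simp only [List.map_cons, List.map_nil, List.prod_cons, List.prod_nil, z 6 (by simp), z 8 (by simp),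
    z 9 (by simp), z 10 (by simp), xg_zero, one_mul, mul_one]
  refine Subgroup.mem_sup_left (mul_mem ⟨(ChevalleySL2.upper (t 7), 1), ?_⟩ ⟨(1, ChevalleySL2.upper (t 11)), ?_⟩)
  · rw [Phi_apply, map_one, mul_one]; exact ChevalleySL2.phi_upper (ChevalleyRankOne.rels C l7) _
  · rw [Phi_apply, map_one, one_mul]; exact ChevalleySL2.phi_upper (ChevalleyRankOne.rels C l11) _

theorem centralizer_eq (h2 : (2 : F) ≠ 0) :
    chevG2.group F ⊓ Subgroup.centralizer {(t0 : G2)} = HK F := by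
  apply le_antisymm
  · rintro g ⟨hg, hgc⟩
    have hc : Commute (t0 : G2) g := (Subgroup.mem_centralizer_singleton_iff.1 hgc).symm
    obtain ⟨b, hb, n, u, hu, rfl⟩ := (S F).exists_cell_form hg
    obtain ⟨u0, hu0, h, hh, rfl⟩ := (mem_B_iff C).1 hb
    have ht0 : (t0 : G2) ∈ chevG2.diagonalSubgroup F := T_mem _ _
    set h' : G2 := t0 * ((n : G2) * t0⁻¹ * (n : G2)⁻¹) with hh'
    have hh'H : h' ∈ chevG2.diagonalSubgroup F :=
      mul_mem ht0 ((S F).conj_H ((S F).acts_toW n) (inv_mem ht0))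
    have hu' : t0 * u * (t0 : G2)⁻¹ ∈ (S F).Uw ((S F).toW n) := by
      refine Sys.conj_closure_le (T := {g : G2 | ∃ r t, r ∈ (S F).X.invSet ((S F).toW n) ∧ g = (S F).xg r t}) _ ?_ hu
      rintro x ⟨r, t, hr, rfl⟩
      obtain ⟨a, -, ha⟩ := H_conj_xg C ((S F).X.mem_invSet.1 hr).1.1 ht0
      rw [S_xg, ha t]
      exact Subgroup.subset_closure ⟨r, _, hr, rfl⟩
    have hUc : t0 * u0 * (t0 : G2)⁻¹ ∈ chevG2.posUnipotent F :=
      (Subgroup.mem_normalizer_iff.1 (H_le_normalizer_U C ht0) u0).1 hu0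
    have hth : t0 * h * (t0 : G2)⁻¹ = h := by
      rw [H_comm C ht0 hh, mul_inv_cancel_right]
    have hb' : t0 * (u0 * h) * (t0 : G2)⁻¹ * h' ∈ chevG2.borelSubgroup F := by
      refine mul_mem ?_ (Sys.H_le_B hh'H)
      exact mul_mem (mul_mem (Sys.H_le_B ht0) hb) (inv_mem (Sys.H_le_B ht0))
    have e : t0 * (u0 * h) * (t0 : G2)⁻¹ * h' * (n : G2) * (t0 * u * (t0 : G2)⁻¹) = u0 * h * (n : G2) * u := by
      calc t0 * (u0 * h) * (t0 : G2)⁻¹ * h' * (n : G2) * (t0 * u * (t0 : G2)⁻¹)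
          = t0 * (u0 * h * (n : G2) * u) * (t0 : G2)⁻¹ := by rw [hh']; group
        _ = _ := by rw [hc.eq, mul_inv_cancel_right]
    obtain ⟨f1, f2⟩ := (S F).form_unique n hb' hb hu' hu e
    have f3 : (t0 * u0 * (t0 : G2)⁻¹)⁻¹ * u0 = h * h' * h⁻¹ := by
      have : t0 * (u0 * h) * (t0 : G2)⁻¹ = t0 * u0 * (t0 : G2)⁻¹ * h := by
        conv_rhs => rw [← hth]
        group
      rw [this] at f1
      have f1' : u0 = t0 * u0 * (t0 : G2)⁻¹ * h * h' * h⁻¹ := by rw [f1, mul_inv_cancel_right]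
      generalize t0 * u0 * (t0 : G2)⁻¹ = A at f1' ⊢
      rw [f1']
      group
    have f4 : (t0 * u0 * (t0 : G2)⁻¹)⁻¹ * u0 ∈ chevG2.posUnipotent F ⊓ chevG2.diagonalSubgroup F :=
      Subgroup.mem_inf.2 ⟨mul_mem (inv_mem hUc) hu0, by rw [f3]; exact mul_mem (mul_mem hh hh'H) (inv_mem hh)⟩
    rw [U_inf_H C, Subgroup.mem_bot, inv_mul_eq_one] at f4
    have c0 : Commute (t0 : G2) u0 := mul_inv_eq_iff_eq_mul.1 f4
    have h'1 : h' = 1 := by
      rw [f4, inv_mul_cancel] at f3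
      rw [show h' = h⁻¹ * (h * h' * h⁻¹) * h by group, ← f3]; group
    have cn : Commute (t0 : G2) n := by
      have e2 : t0 * (n : G2) * (t0 : G2)⁻¹ = h' * (n : G2) := by rw [hh']; group
      rw [h'1, one_mul] at e2
      exact mul_inv_eq_iff_eq_mul.1 e2
    have cu : Commute (t0 : G2) u := mul_inv_eq_iff_eq_mul.1 f2
    exact mul_mem (mul_mem (mul_mem (U_comm_mem h2 hu0 c0) (Subgroup.mem_sup_right hh)) (N_comm_mem h2 cn))
      (U_comm_mem h2 ((S F).Uw_le_U _ hu) cu)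
  · refine le_inf (sup_le ?_ ((S F).H_le_group)) fun x hx => ?_
    · rintro _ ⟨⟨g, g'⟩, rfl⟩
      rw [Phi_apply]
      have hr : ∀ {r : ℕ} (hr : r < chevG2.nroots) (g : SL(2, F)),
          ChevalleySL2.phi (ChevalleyRankOne.rels C hr) g ∈ chevG2.group F := by
        intro r hr g
        have hm : ChevalleySL2.phi (ChevalleyRankOne.rels C hr) g ∈
            (ChevalleySL2.phi (ChevalleyRankOne.rels C hr)).range := ⟨g, rfl⟩
        rw [ChevalleySL2.range_phi] at hm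
        refine (Subgroup.closure_le _).2 ?_ hm
        rintro x (⟨t, rfl⟩ | ⟨t, rfl⟩) <;> exact xg_mem_group C _ t
      exact mul_mem (hr l7 g) (hr l11 g')
    · exact Subgroup.mem_centralizer_singleton_iff.2 (t0_comm hx).eq.symm

end Cfsg.Agent.G2InvolCentral71
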