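import Cfsg.Agent.Lib.G2InvolMain71
import Cfsg.Agent.Lib.ChevOrder

/-!
`G₂(q)`, `q` odd: orders and the statements inside the Chevalley group.
-/

set_option autoImplicit false
set_option linter.unusedSectionVars false
set_option maxRecDepth 10000

namespace Cfsg.Agent.G2InvolFinal71

open Cfsg.Lie Cfsg.Agent.ChevalleyCore Cfsg.Agent.ChevalleyTorus
open Cfsg.Agent.G2InvolBase71 Cfsg.Agent.G2InvolCentral71 Cfsg.Agent.G2InvolMain71
open scoped MatrixGroups

variable {F : Type*} [Field F] [Fintype F]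

local notation "G2" => GL chevG2.Idx F

theorem card_ker (h2 : (2 : F) ≠ 0) : Nat.card ↥((Phi (F := F)).ker) = 2 := by
  have hset : ((Phi (F := F)).ker : Set (SL(2, F) × SL(2, F))) = {1, (-1, -1)} := by
    ext p; simp [MonoidHom.mem_ker, Phi_ker]
  rw [← SetLike.coe_sort_coe, Nat.card_coe_set_eq, hset]
  refine Set.ncard_pair fun e => h2 ?_
  have := congrArg (fun p : SL(2, F) × SL(2, F) => p.1.1 0 0) e
  simp at this
  linear_combination this

theorem card_K (hodd : Fintype.card F % 2 = 1) :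
    2 * Nat.card ↥(K F) = (Fintype.card F * (Fintype.card F ^ 2 - 1)) ^ 2 := by
  have h := Subgroup.card_mul_index (Phi (F := F)).ker
  rw [Subgroup.index_ker, card_ker (two_ne hodd), Nat.card_prod,
    OrthUnitarySL2.card_SL2 (F := F) rfl, Nat.card_eq_fintype_card (α := F)] at h
  rw [K, h]; ring

theorem relIndex_K (hodd : Fintype.card F % 2 = 1) : (K F).relIndex (HK F) = 2 := by
  obtain ⟨d, hd⟩ := exists_nonsq (F := F) hodd
  have hT : T (1 : Fˣ) d ∈ HK F := Subgroup.mem_sup_right (T_mem _ _)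
  rw [Subgroup.relIndex, Subgroup.index_eq_two_iff]
  refine ⟨⟨T 1 d, hT⟩, fun b => ?_⟩
  simp only [Subgroup.mem_subgroupOf, Subgroup.coe_mul]
  rcases mem_HK_cases hodd hd b.2 with hb | ⟨p, hp⟩
  · refine Or.inr ⟨hb, fun h => ?_⟩
    have := mul_mem (inv_mem hb) h
    rw [inv_mul_cancel_left] at this
    exact T_not_mem hd this
  · refine Or.inl ⟨?_, fun h => ?_⟩
    · rw [hp, mul_assoc, T_mul]
      exact mul_mem (Phi_mem p) (T_mem_K_iff.2 ⟨d, rfl⟩)
    · rw [hp] at h
      have := mul_mem (inv_mem (Phi_mem p)) h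
      rw [inv_mul_cancel_left] at this
      exact T_not_mem hd this

theorem card_HK (hodd : Fintype.card F % 2 = 1) :
    Nat.card ↥(HK F) = Fintype.card F ^ 2 * (Fintype.card F ^ 2 - 1) ^ 2 := by
  have hle : K F ≤ HK F := le_sup_left
  have h := Subgroup.card_mul_index ((K F).subgroupOf (HK F))
  rw [show ((K F).subgroupOf (HK F)).index = 2 from relIndex_K hodd,
    Nat.card_congr (Subgroup.subgroupOfEquivOfLe hle).toEquiv, mul_comm, card_K hodd] at h
  rw [← h]; ring

theorem HK_le_group (hodd : Fintype.card F % 2 = 1) : HK F ≤ chevG2.group F :=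
  fun _ hx => group_le hx (two_ne hodd)

theorem card_G :
    Nat.card ↥(chevG2.group F) =
      Fintype.card F ^ 6 * ((Fintype.card F ^ 2 - 1) * (Fintype.card F ^ 6 - 1)) := by
  have hH : 1 * Nat.card ↥(chevG2.diagonalSubgroup F) = (Fintype.card F - 1) ^ chevG2.rank := by
    simpa using ChevalleyTorusCard.card_H (F := F) C ChevalleyTorusCard.smithG2
  have h := ChevOrder.order_eq (F := F) C ChevWeylData.g2 (by decide +kernel) [2, 6] (by decide +kernel) hH
  rw [show chevG2.nroots / 2 = 6 from rfl] at h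
  simpa using h

theorem odd_index (hodd : Fintype.card F % 2 = 1) :
    ¬ 2 ∣ ((HK F).subgroupOf (chevG2.group F)).index := by
  have h := Subgroup.card_mul_index ((HK F).subgroupOf (chevG2.group F))
  rw [Nat.card_congr (Subgroup.subgroupOfEquivOfLe (HK_le_group hodd)).toEquiv, card_HK hodd, card_G] at h
  set q := Fintype.card F
  set N := ((HK F).subgroupOf (chevG2.group F)).index
  have hq : 2 ≤ q := Fintype.one_lt_card
  obtain ⟨A, hA⟩ : ∃ A, q ^ 2 = A + 1 := ⟨q ^ 2 - 1, by have := Nat.one_le_pow 2 q (by omega); omega⟩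
  have h6 : q ^ 6 - 1 = A * ((A + 1) ^ 2 + (A + 1) + 1) := by
    rw [show q ^ 6 = (q ^ 2) ^ 3 by ring, hA]
    have : (A + 1) ^ 3 = A * ((A + 1) ^ 2 + (A + 1) + 1) + 1 := by ring
    omega
  rw [h6, show q ^ 2 - 1 = A by omega, show q ^ 6 = q ^ 2 * q ^ 4 by ring] at h
  have hApos : 0 < A := by
    have : 4 ≤ q ^ 2 := by nlinarith
    omega
  have h' : N = q ^ 4 * ((A + 1) ^ 2 + (A + 1) + 1) := by
    apply Nat.eq_of_mul_eq_mul_left (show 0 < q ^ 2 * A ^ 2 by positivity)
    rw [h]; ring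
  rw [h', ← hA]
  intro hd
  rcases (Nat.Prime.dvd_mul Nat.prime_two).1 hd with h | h
  · have := Nat.Prime.dvd_of_dvd_pow Nat.prime_two h; omega
  · have e1 : q ^ 2 % 2 = 1 := by rw [Nat.pow_mod, hodd]
    have e2 : (q ^ 2) ^ 2 % 2 = 1 := by rw [Nat.pow_mod, e1]
    omega

/-- `h_a(-1)` inside the group -/
noncomputable def tG (F : Type*) [Field F] : ↥(chevG2.group F) :=
  ⟨t0, (G2InvolBase71.S F).H_le_group (T_mem _ _)⟩

theorem isConj_tG (hodd : Fintype.card F % 2 = 1) (s : ↥(chevG2.group F)) (hs : orderOf s = 2) :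
    IsConj s (tG F) := by
  classical
  set H := (HK F).subgroupOf (chevG2.group F)
  have : Fintype (↥(chevG2.group F) ⧸ H) := Fintype.ofFinite _
  have hs2 : s * s = 1 := by
    have := pow_orderOf_eq_one s
    rwa [hs, pow_two] at this
  have hs1 : s ≠ 1 := fun h => by rw [h, orderOf_one] at hs; omega
  set σ : Equiv.Perm (↥(chevG2.group F) ⧸ H) := MulAction.toPerm s
  have hσ : σ ^ (2 : ℕ) ^ 1 = 1 := by
    rw [pow_one, pow_two]
    ext x
    show s • s • x = x
    rw [smul_smul, hs2, one_smul]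
  obtain ⟨x, hx⟩ := Equiv.Perm.exists_fixed_point_of_prime (p := 2) (n := 1)
    (by rw [← Nat.card_eq_fintype_card]; exact odd_index hodd) hσ
  obtain ⟨g, rfl⟩ := QuotientGroup.mk_surjective x
  have hg : g⁻¹ * (s * g) ∈ H := QuotientGroup.eq.1 (Eq.symm hx)
  obtain ⟨k, hk, hkx⟩ := conj_t0 hodd (x := ((g⁻¹ * (s * g) : ↥(chevG2.group F)) : G2)) hg
    (by rw [← Subgroup.coe_mul, show g⁻¹ * (s * g) * (g⁻¹ * (s * g)) = g⁻¹ * (s * s) * g by group, hs2]; simp)
    (by
      intro e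
      apply hs1
      have : g⁻¹ * (s * g) = 1 := Subtype.ext e
      rw [show s = g * (g⁻¹ * (s * g)) * g⁻¹ by group, this]; group)
  have e1 : (⟨k, hk⟩ : ↥(chevG2.group F)) * tG F * (⟨k, hk⟩ : ↥(chevG2.group F))⁻¹ = g⁻¹ * (s * g) :=
    Subtype.ext hkx
  refine IsConj.symm (isConj_iff.2 ⟨g * ⟨k, hk⟩, ?_⟩)
  rw [show g * ⟨k, hk⟩ * tG F * (g * ⟨k, hk⟩)⁻¹ =
    g * ((⟨k, hk⟩ : ↥(chevG2.group F)) * tG F * (⟨k, hk⟩ : ↥(chevG2.group F))⁻¹) * g⁻¹ by group, e1]
  group

theorem phi_injective : Function.Injective (phi7 (F := F)) ∧ Function.Injective (phi11 (F := F)) := by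
  constructor <;> rw [injective_iff_map_eq_one] <;> intro g hg
  · rcases Phi_ker.1 (show Phi (g, 1) = 1 by rw [Phi_apply, hg, map_one, one_mul]) with h | h
    · exact congrArg Prod.fst h
    · have := congrArg Prod.snd h
      simp only [Prod.snd_neg, Prod.snd_one] at this
      rw [show g = -1 from congrArg Prod.fst h]
      exact this.symm
  · rcases Phi_ker.1 (show Phi (1, g) = 1 by rw [Phi_apply, hg, map_one, one_mul]) with h | h
    · exact congrArg Prod.snd h
    · have := congrArg Prod.fst h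
      simp only [Prod.fst_neg, Prod.fst_one] at this
      rw [show g = -1 from congrArg Prod.snd h]
      exact this.symm

theorem statement (hodd : Fintype.card F % 2 = 1) :
    Nat.card (Subgroup.centralizer ({tG F} : Set ↥(chevG2.group F))) =
      Fintype.card F ^ 2 * (Fintype.card F ^ 2 - 1) ^ 2 ∧
    ∃ L₁ L₂ : Subgroup ↥(chevG2.group F), Nonempty (L₁ ≃* SL(2, F)) ∧ Nonempty (L₂ ≃* SL(2, F)) ∧
      (∀ x ∈ L₁, ∀ y ∈ L₂, x * y = y * x) ∧ L₁ ⊓ L₂ = Subgroup.zpowers (tG F) ∧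
      L₁ ⊔ L₂ ≤ Subgroup.centralizer ({tG F} : Set ↥(chevG2.group F)) ∧
      (L₁ ⊔ L₂).relIndex (Subgroup.centralizer ({tG F} : Set ↥(chevG2.group F))) = 2 := by
  have hce := centralizer_eq (F := F) (two_ne hodd)
  have hc : Subgroup.centralizer ({tG F} : Set ↥(chevG2.group F)) = (HK F).subgroupOf (chevG2.group F) := by
    ext x
    rw [Subgroup.mem_centralizer_singleton_iff, Subgroup.mem_subgroupOf, ← hce, Subgroup.mem_inf,
      Subgroup.mem_centralizer_singleton_iff]
    exact ⟨fun h => ⟨x.2, congrArg Subtype.val h⟩, fun h => Subtype.ext h.2⟩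
  have hKG : K F ≤ chevG2.group F := le_sup_left.trans (HK_le_group hodd)
  have m7 : ∀ g, phi7 (F := F) g ∈ chevG2.group F := fun g =>
    hKG ⟨(g, 1), by rw [Phi_apply, map_one, mul_one]⟩
  have m11 : ∀ g, phi11 (F := F) g ∈ chevG2.group F := fun g =>
    hKG ⟨(1, g), by rw [Phi_apply, map_one, one_mul]⟩
  refine ⟨?_, (phi7.codRestrict _ m7).range, (phi11.codRestrict _ m11).range, ?_, ?_, ?_, ?_, ?_, ?_⟩
  · rw [hc, Nat.card_congr (Subgroup.subgroupOfEquivOfLe (HK_le_group hodd)).toEquiv, card_HK hodd]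
  · exact ⟨(MonoidHom.ofInjective (fun a b h => phi_injective.1 (congrArg Subtype.val h))).symm⟩
  · exact ⟨(MonoidHom.ofInjective (fun a b h => phi_injective.2 (congrArg Subtype.val h))).symm⟩
  · rintro _ ⟨g, rfl⟩ _ ⟨g', rfl⟩
    exact Subtype.ext (phi_commute g g').eq
  · apply le_antisymm
    · rintro x ⟨⟨g, rfl⟩, g', hg'⟩
      have e : Phi (g, g'⁻¹) = 1 := by
        have h0 : phi11 g' = phi7 g := congrArg Subtype.val hg'
        rw [Phi_apply, map_inv, h0, mul_inv_cancel]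
      rcases Phi_ker.1 e with h | h
      · rw [show g = 1 from congrArg Prod.fst h, map_one]
        exact one_mem _
      · rw [show g = -1 from congrArg Prod.fst h]
        refine Subgroup.mem_zpowers_iff.2 ⟨1, ?_⟩
        rw [zpow_one]
        apply Subtype.ext
        show (t0 : G2) = phi7 (-1)
        rw [← Phi_t0, Phi_apply, map_one, mul_one]
    · rw [Subgroup.zpowers_le]
      refine ⟨⟨-1, Subtype.ext ?_⟩, ⟨-1, Subtype.ext ?_⟩⟩
      · show phi7 (-1) = t0
        rw [← Phi_t0, Phi_apply, map_one, mul_one]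
      · show phi11 (-1) = t0
        have : Phi (F := F) (1, -1) = t0 := by
          rw [← Phi_t0, show ((1 : SL(2, F)), (-1 : SL(2, F))) = (-1, -1) * (-1, 1) by simp, map_mul,
            Phi_ker.2 (Or.inr rfl), one_mul]
        rw [← this, Phi_apply, map_one, one_mul]
  · rw [hc]
    refine sup_le ?_ ?_ <;> rintro _ ⟨g, rfl⟩ <;> rw [Subgroup.mem_subgroupOf] <;>
      refine Subgroup.mem_sup_left ?_
    · exact ⟨(g, 1), by rw [Phi_apply, map_one, mul_one]; rfl⟩
    · exact ⟨(1, g), by rw [Phi_apply, map_one, one_mul]; rfl⟩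
  · have hL : (phi7.codRestrict _ m7).range ⊔ (phi11.codRestrict _ m11).range = (K F).subgroupOf (chevG2.group F) := by
      apply le_antisymm
      · refine sup_le ?_ ?_ <;> rintro _ ⟨g, rfl⟩ <;> rw [Subgroup.mem_subgroupOf]
        · exact ⟨(g, 1), by rw [Phi_apply, map_one, mul_one]; rfl⟩
        · exact ⟨(1, g), by rw [Phi_apply, map_one, one_mul]; rfl⟩
      · rintro x ⟨⟨g, g'⟩, hx⟩
        have : x = phi7.codRestrict _ m7 g * phi11.codRestrict _ m11 g' := Subtype.ext hx.symm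
        rw [this]
        exact mul_mem (Subgroup.mem_sup_left ⟨g, rfl⟩) (Subgroup.mem_sup_right ⟨g', rfl⟩)
    rw [hc, hL, Subgroup.relIndex_subgroupOf (HK_le_group hodd), relIndex_K hodd]

theorem transfer (hodd : Fintype.card F % 2 = 1) (t : ↥(chevG2.group F)) (ht : orderOf t = 2) :
    Nat.card (Subgroup.centralizer ({t} : Set ↥(chevG2.group F))) =
      Fintype.card F ^ 2 * (Fintype.card F ^ 2 - 1) ^ 2 ∧
    ∃ L₁ L₂ : Subgroup ↥(chevG2.group F), Nonempty (L₁ ≃* SL(2, F)) ∧ Nonempty (L₂ ≃* SL(2, F)) ∧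
      (∀ x ∈ L₁, ∀ y ∈ L₂, x * y = y * x) ∧ L₁ ⊓ L₂ = Subgroup.zpowers t ∧
      L₁ ⊔ L₂ ≤ Subgroup.centralizer ({t} : Set ↥(chevG2.group F)) ∧
      (L₁ ⊔ L₂).relIndex (Subgroup.centralizer ({t} : Set ↥(chevG2.group F))) = 2 := by
  obtain ⟨g, hg⟩ := isConj_iff.1 (isConj_tG hodd t ht).symm
  set e : ↥(chevG2.group F) ≃* ↥(chevG2.group F) := MulAut.conj g
  have hmapc : (Subgroup.centralizer ({tG F} : Set ↥(chevG2.group F))).map e.toMonoidHom =
      Subgroup.centralizer ({t} : Set ↥(chevG2.group F)) := by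
    ext x
    rw [Subgroup.mem_map_equiv, Subgroup.mem_centralizer_singleton_iff, Subgroup.mem_centralizer_singleton_iff,
      ← hg]
    constructor
    · intro h
      have := congrArg e h
      rw [map_mul, map_mul, MulEquiv.apply_symm_apply] at this
      exact this
    · intro h
      apply e.injective
      rw [map_mul, map_mul, MulEquiv.apply_symm_apply]
      exact h
  obtain ⟨hc, L₁, L₂, ⟨i1⟩, ⟨i2⟩, hcom, hinf, hle, hrel⟩ := statement (F := F) hodd
  refine ⟨?_, L₁.map e.toMonoidHom, L₂.map e.toMonoidHom, ⟨(e.subgroupMap L₁).symm.trans i1⟩,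
    ⟨(e.subgroupMap L₂).symm.trans i2⟩, ?_, ?_, ?_, ?_⟩
  · rw [← hmapc, ← hc]
    exact (Nat.card_congr (e.subgroupMap _).toEquiv).symm
  · rintro _ ⟨x, hx, rfl⟩ _ ⟨y, hy, rfl⟩
    rw [← map_mul, ← map_mul, hcom x hx y hy]
  · rw [← Subgroup.map_inf _ _ _ e.injective, hinf, MonoidHom.map_zpowers, ← hg]
    rfl
  · rw [← hmapc, ← Subgroup.map_sup]
    exact Subgroup.map_mono hle
  · rw [← hmapc, ← Subgroup.map_sup, Subgroup.relIndex_map_map_of_injective _ _ e.injective, hrel]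

end Cfsg.Agent.G2InvolFinal71
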