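import Cfsg.Agent.Lib.G2InvolCentral71
import Cfsg.Agent.Lib.OrthUnitarySL2

/-!
`G₂(q)`, `q` odd: one class of involutions, and the centraliser.
-/

set_option autoImplicit false
set_option linter.unusedSectionVars false
set_option maxRecDepth 10000

namespace Cfsg.Agent.G2InvolMain71

open Cfsg.Lie Cfsg.Agent.ChevalleyEngine Cfsg.Agent.ChevalleyCert Cfsg.Agent.ChevalleyRoots
open Cfsg.Agent.ChevalleyCore Cfsg.Agent.ChevalleyTorus Cfsg.Agent.ChevalleyUnipotent
open Cfsg.Agent.ChevBruhat Cfsg.Agent.ChevWeyl Cfsg.Agent.G2InvolBase71 Cfsg.Agent.G2InvolCentral71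
open Matrix
open scoped MatrixGroups

variable {F : Type*} [Field F] [Fintype F]

local notation "G2" => GL chevG2.Idx F
local notation "M2" => Matrix (Fin 2) (Fin 2) F

theorem two_ne (hodd : Fintype.card F % 2 = 1) : (2 : F) ≠ 0 := by
  intro h
  haveI : CharP F 2 := CharTwo.of_one_ne_zero_of_two_eq_zero one_ne_zero h
  have := FiniteField.even_card_of_char_two (F := F) (ringChar.eq_iff.2 inferInstance)
  omega

theorem exists_nonsq (hodd : Fintype.card F % 2 = 1) : ∃ d : Fˣ, ¬ IsSquare d := by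
  obtain ⟨a, ha⟩ := FiniteField.exists_nonsquare (F := F) fun h => by
    have := FiniteField.even_card_of_char_two h; omega
  refine ⟨Units.mk0 a (fun h => ha (h ▸ IsSquare.zero)), fun ⟨r, hr⟩ => ha ⟨r, ?_⟩⟩
  simpa using congrArg Units.val hr

theorem isSquare_val {u : Fˣ} : IsSquare (u : F) ↔ IsSquare u := by
  constructor
  · rintro ⟨r, hr⟩
    have : r ≠ 0 := by rintro rfl; simp at hr
    exact ⟨Units.mk0 r this, Units.ext hr⟩
  · rintro ⟨r, hr⟩
    exact ⟨r, by rw [hr, Units.val_mul]⟩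

theorem sq_of_not_sq (hodd : Fintype.card F % 2 = 1) {a b : Fˣ} (ha : ¬ IsSquare a) (hb : ¬ IsSquare b) :
    IsSquare (a * b) := by
  classical
  rw [← isSquare_val, Units.val_mul]
  rw [← isSquare_val] at ha hb
  rw [← quadraticChar_one_iff_isSquare (mul_ne_zero a.ne_zero b.ne_zero), map_mul,
    quadraticChar_neg_one_iff_not_isSquare.2 ha, quadraticChar_neg_one_iff_not_isSquare.2 hb]
  ring

theorem mem_HK_cases (hodd : Fintype.card F % 2 = 1) {d : Fˣ} (hd : ¬ IsSquare d) {x : G2} (hx : x ∈ HK F) :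
    x ∈ K F ∨ ∃ p, x = Phi p * T 1 d := by
  obtain ⟨p, a, b, rfl⟩ := mem_HK.1 hx
  by_cases hb : IsSquare b
  · exact Or.inl (mul_mem (Phi_mem p) (T_mem_K_iff.2 hb))
  · right
    have hdi : ¬ IsSquare d⁻¹ := fun ⟨r, hr⟩ => hd ⟨r⁻¹, by rw [← mul_inv, ← hr, inv_inv]⟩
    obtain ⟨q, hq⟩ := (T_mem_K_iff (a := a)).2 (sq_of_not_sq hodd hb hdi)
    refine ⟨p * q, ?_⟩
    rw [map_mul, hq, mul_assoc, T_mul, mul_one, inv_mul_cancel_right]

theorem T_not_mem {a b : Fˣ} (hb : ¬ IsSquare b) : T a b ∉ K F := fun h => hb (T_mem_K_iff.1 h)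

/-- conjugate by an element of `HK` -/
def ConjHK (x y : G2) : Prop := ∃ k ∈ HK F, k * y * k⁻¹ = x

theorem neg_one_sl : ((-1 : SL(2, F)) : M2) = -1 := rfl

theorem sq_one {g : SL(2, F)} (h2 : (2 : F) ≠ 0) (h : g * g = 1) : g = 1 ∨ g = -1 := by
  have hM : (g : M2) * (g : M2) = (1 : F) • (1 : M2) := by
    rw [one_smul]; exact congrArg Subtype.val h
  have hdet := ChevalleySL2.det_eq g
  rcases SL2TraceZero71.trace_zero_of_sq hM with ht | ⟨hb, hc, hd⟩
  · have h00 := congrFun (congrFun hM 0) 0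
    simp [Matrix.mul_apply, Fin.sum_univ_two] at h00
    exact absurd (show (2 : F) = 0 by linear_combination (-1 : F) * h00 - hdet + g.1 0 0 * ht) h2
  · rw [hb, hd, zero_mul, sub_zero] at hdet
    rcases mul_self_eq_one_iff.1 hdet with e | e
    · left; apply Subtype.ext; ext i j
      fin_cases i <;> fin_cases j <;> simp [hb, hc, hd, e]
    · right; apply Subtype.ext; rw [neg_one_sl]; ext i j
      fin_cases i <;> fin_cases j <;> simp [hb, hc, hd, e]

theorem sq_neg_one (hodd : Fintype.card F % 2 = 1) {g : SL(2, F)} (h : g * g = -1) :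
    ∃ P : SL(2, F), g = P * ChevalleySL2.wel * P⁻¹ := by
  have h2 := two_ne hodd
  have hM : (g : M2) * (g : M2) = (-1 : F) • (1 : M2) := by
    rw [neg_smul, one_smul]; exact congrArg Subtype.val h
  have hdet := ChevalleySL2.det_eq g
  rcases SL2TraceZero71.trace_zero_of_sq hM with ht | ⟨hb, hc, hd⟩
  · obtain ⟨P, hP⟩ := SL2TraceZero71.exists_conj hodd (one_ne_zero (α := F)) ht g.2
      (H := (ChevalleySL2.wel : SL(2, F))) (by simp [ChevalleySL2.wel]) (ChevalleySL2.wel : SL(2, F)).2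
    refine ⟨P, eq_mul_inv_of_mul_eq ?_⟩
    exact Subtype.ext hP
  · exfalso
    have h00 := congrFun (congrFun hM 0) 0
    simp [Matrix.mul_apply, Fin.sum_univ_two, hb] at h00
    rw [hb, hd, zero_mul, sub_zero] at hdet
    exact h2 (by linear_combination (-1 : F) * hdet + h00)

/-- the inner representative -/
noncomputable def vv : G2 := Phi (ChevalleySL2.wel, ChevalleySL2.wel)

theorem inner_conj (hodd : Fintype.card F % 2 = 1) {x : G2} (hx : x ∈ K F) (hx2 : x * x = 1) (h1 : x ≠ 1)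
    (h0 : x ≠ t0) : ConjHK x (vv : G2) := by
  obtain ⟨⟨g, g'⟩, rfl⟩ := hx
  have h2 := two_ne hodd
  rw [← map_mul, Phi_ker] at hx2
  have e10 : Phi (F := F) (1, -1) = t0 := by
    rw [← Phi_t0, show ((1 : SL(2, F)), (-1 : SL(2, F))) = (-1, -1) * (-1, 1) by simp, map_mul,
      Phi_ker.2 (Or.inr rfl), one_mul]
  rcases hx2 with e | e <;> simp only [Prod.mk_mul_mk, Prod.mk_eq_one, Prod.mk.injEq] at e
  · exfalso
    rcases sq_one h2 e.1 with rfl | rfl <;> rcases sq_one h2 e.2 with rfl | rfl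
    · exact h1 (map_one _)
    · exact h0 e10
    · exact h0 Phi_t0
    · exact h1 (Phi_ker.2 (Or.inr rfl))
  · obtain ⟨P, hP⟩ := sq_neg_one hodd e.1
    obtain ⟨P', hP'⟩ := sq_neg_one hodd e.2
    refine ⟨Phi (P, P'), Subgroup.mem_sup_left (Phi_mem _), ?_⟩
    rw [vv, ← map_inv, ← map_mul, ← map_mul, hP, hP']
    rfl

/-- the outer building block -/
def rr (k : Fˣ) : SL(2, F) :=
  ⟨!![0, -(k : F); (k⁻¹ : Fˣ), 0], by simp [Matrix.det_fin_two_of]⟩

theorem outer_block (hodd : Fintype.card F % 2 = 1) {k : Fˣ} (hk : ¬ IsSquare k) {g : SL(2, F)}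
    (h : g * cjd k g * dg k = 1 ∨ g * cjd k g * dg k = -1) : ∃ P : SL(2, F), g = P * rr k * cjd k P⁻¹ := by
  have hk0 := k.ne_zero
  set e : M2 := !![(k : F), 0; 0, 1] with he
  have hcj : ∀ g : SL(2, F), ((cjd k g : SL(2, F)) : M2) * e = e * (g : M2) := by
    intro g
    change (!![g.1 0 0, (k : F) * g.1 0 1; g.1 1 0 * (k⁻¹ : Fˣ), g.1 1 1] : M2) * e = e * (g : M2)
    rw [he]
    ext i j
    fin_cases i <;> fin_cases j <;> simp [Matrix.mul_apply, Fin.sum_univ_two] <;> field_simp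
  have hee : e * e = (k : F) • ((dg k : SL(2, F)) : M2) := by
    change e * e = (k : F) • (!![(k : F), 0; 0, ((k⁻¹ : Fˣ) : F)] : M2)
    rw [he]
    ext i j
    fin_cases i <;> fin_cases j <;> simp [Matrix.mul_apply, Fin.sum_univ_two, hk0]
  set G : M2 := (g : M2) * e with hG
  have hsq : G * G = (k : F) • ((g * cjd k g * dg k : SL(2, F)) : M2) := by
    calc G * G = (g : M2) * (e * (g : M2)) * e := by rw [hG, mul_assoc, mul_assoc, mul_assoc]
      _ = (g : M2) * ((cjd k g : SL(2, F)) : M2) * (e * e) := by rw [← hcj, mul_assoc, mul_assoc, mul_assoc]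
      _ = _ := by rw [hee, mul_smul_comm]; rfl
  obtain ⟨s, hs, hGG⟩ : ∃ s : F, (s = k ∨ s = -(k : F)) ∧ G * G = s • (1 : M2) := by
    rcases h with h | h <;> rw [h] at hsq
    · exact ⟨k, Or.inl rfl, hsq⟩
    · refine ⟨-(k : F), Or.inr rfl, ?_⟩
      rw [hsq, neg_smul, ← smul_neg]; rfl
  have hdet : G.det = k := by
    rw [hG, det_mul, g.2, one_mul, he, det_fin_two_of]; ring
  rcases SL2TraceZero71.trace_zero_of_sq hGG with ht | ⟨hb, hc, hd⟩
  · obtain ⟨P, hP⟩ := SL2TraceZero71.exists_conj_std hodd hk0 ht hdet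
    refine ⟨P, ?_⟩
    have hr : (rr k : M2) * e = SL2TraceZero71.stdR (k : F) := by
      change (!![0, -(k : F); ((k⁻¹ : Fˣ) : F), 0] : M2) * e = _
      rw [he, SL2TraceZero71.stdR]
      ext i j
      fin_cases i <;> fin_cases j <;> simp [Matrix.mul_apply, Fin.sum_univ_two, hk0]
    have key : (g : M2) * ((cjd k P : SL(2, F)) : M2) * e = (P : M2) * (rr k : M2) * e := by
      rw [mul_assoc, hcj, ← mul_assoc, ← hG, hP, mul_assoc, hr]
    have hu : IsUnit e := by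
      rw [Matrix.isUnit_iff_isUnit_det, he, det_fin_two_of]; simp [hk0]
    have key' : g * cjd k P = P * rr k := Subtype.ext (hu.mul_right_cancel key)
    rw [← key', mul_assoc, ← map_mul, mul_inv_cancel, map_one, mul_one]
  · exfalso
    rw [det_fin_two, hb, hd, zero_mul, sub_zero] at hdet
    exact hk (isSquare_val.1 ⟨G 0 0, hdet.symm⟩)

/-- the outer representative -/
noncomputable def oo (d : Fˣ) : G2 := Phi (rr d⁻¹, rr d) * T 1 d

theorem T_comm_Phi (d : Fˣ) (p : SL(2, F) × SL(2, F)) :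
    T 1 d * Phi p = Phi (cjd d⁻¹ p.1, cjd d p.2) * T 1 d := by
  rw [← mul_inv_eq_iff_eq_mul, T_conj_Phi, mul_one, one_mul]

theorem outer_conj (hodd : Fintype.card F % 2 = 1) {d : Fˣ} (hd : ¬ IsSquare d) {p : SL(2, F) × SL(2, F)}
    (hx2 : Phi p * T 1 d * (Phi p * T 1 d) = 1) : ConjHK (Phi p * T 1 d) (oo d) := by
  obtain ⟨g, g'⟩ := p
  have hdi : ¬ IsSquare d⁻¹ := fun ⟨r, hr⟩ => hd ⟨r⁻¹, by rw [← mul_inv, ← hr, inv_inv]⟩
  have hTT : T (1 : Fˣ) d * T 1 d = Phi (dg d⁻¹, dg d) := by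
    rw [T_mul, Phi_dg, inv_mul_cancel, mul_one]
  rw [show Phi (g, g') * T 1 d * (Phi (g, g') * T 1 d) = Phi (g, g') * (T 1 d * Phi (g, g')) * T 1 d by group,
    T_comm_Phi, mul_assoc (Phi (g, g')), mul_assoc (Phi _), hTT, ← map_mul, ← map_mul, Phi_ker] at hx2
  simp only [Prod.mk_mul_mk, Prod.mk_eq_one, Prod.mk.injEq, ← mul_assoc] at hx2
  obtain ⟨P, hP⟩ := outer_block hodd hdi (g := g) (hx2.imp And.left And.left)
  obtain ⟨P', hP'⟩ := outer_block hodd hd (g := g') (hx2.imp And.right And.right)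
  refine ⟨Phi (P, P'), Subgroup.mem_sup_left (Phi_mem _), ?_⟩
  rw [oo, ← map_inv]
  rw [show Phi (P, P') * (Phi (rr d⁻¹, rr d) * T 1 d) * Phi (P, P')⁻¹ =
      Phi (P, P') * Phi (rr d⁻¹, rr d) * (T 1 d * Phi (P, P')⁻¹) by group, T_comm_Phi, ← mul_assoc,
    ← map_mul, ← map_mul, hP, hP']
  rfl

theorem group_le {x : G2} (hx : x ∈ HK F) (h2 : (2 : F) ≠ 0) : x ∈ chevG2.group F :=
  ((centralizer_eq h2).symm.le hx).1

/-- conjugate in the Chevalley group -/
def ConjG (x y : G2) : Prop := ∃ k ∈ chevG2.group F, k * y * k⁻¹ = x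

theorem ConjG.trans {x y z : G2} (h : ConjG x y) (h' : ConjG y z) : ConjG x z := by
  obtain ⟨k, hk, rfl⟩ := h
  obtain ⟨l, hl, rfl⟩ := h'
  exact ⟨k * l, mul_mem hk hl, by group⟩

theorem ConjG.symm {x y : G2} (h : ConjG x y) : ConjG y x := by
  obtain ⟨k, hk, rfl⟩ := h
  exact ⟨k⁻¹, inv_mem hk, by group⟩

theorem conj_hg_general (n : ↥(chevG2.monomialSubgroup F)) {r : ℕ} (hr : r < chevG2.nroots) {t : F} (ht : t ≠ 0) :
    (n : G2) * hg C r t * (n : G2)⁻¹ = hg C ((S F).X.img ((S F).toW n) r) t := by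
  obtain ⟨c, hc, h⟩ := (S F).conj_nn ((S F).acts_toW n) hr
  have hn : ∀ t : F, (n : G2) * ng C r t * (n : G2)⁻¹ = ng C ((S F).X.img ((S F).toW n) r) (c * t) := h
  have hlt := (S F).X.img_lt ((S F).toW n) hr
  show (n : G2) * (ng C r t * ng C r (-1)) * (n : G2)⁻¹ = _
  rw [← MulAut.conj_apply, map_mul, MulAut.conj_apply, MulAut.conj_apply, hn t, hn (-1)]
  apply Units.ext
  rw [ng_pair C hlt _ _ (mul_ne_zero hc ht) (mul_ne_zero hc (neg_ne_zero.2 one_ne_zero)), coe_hg_eq C hlt ht]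
  congr 1
  field_simp

theorem l6 : 6 < chevG2.nroots := by decide +kernel

theorem link (hodd : Fintype.card F % 2 = 1) {d : Fˣ} (hd : ¬ IsSquare d) :
    ConjG (oo d) (vv : G2) := by
  have h2 := two_ne hodd
  set va : ↥(chevG2.monomialSubgroup F) := ⟨ng C 7 1, (S F).nn_mem_N l7⟩
  set vb : ↥(chevG2.monomialSubgroup F) := ⟨ng C 11 1, (S F).nn_mem_N l11⟩
  set nb : ↥(chevG2.monomialSubgroup F) := ⟨ng C 6 1, (S F).nn_mem_N l6⟩
  set v : ↥(chevG2.monomialSubgroup F) := va * vb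
  have hv : (v : G2) = vv := by
    rw [vv, Phi_apply, phi7, phi11]
    have w7 : ChevalleySL2.phi (ChevalleyRankOne.rels C l7) (ChevalleySL2.wel : SL(2, F)) = ng C 7 1 :=
      ChevalleySL2.phi_wel (ChevalleyRankOne.rels C l7)
    have w11 : ChevalleySL2.phi (ChevalleyRankOne.rels C l11) (ChevalleySL2.wel : SL(2, F)) = ng C 11 1 :=
      ChevalleySL2.phi_wel (ChevalleyRankOne.rels C l11)
    rw [w7, w11]
    rfl
  obtain ⟨fa, fa'⟩ := ng_facts (F := F) (Or.inl ⟨rfl, rfl⟩) (n := va) rfl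
  obtain ⟨fb, fb'⟩ := ng_facts (F := F) (Or.inr ⟨rfl, rfl⟩) (n := vb) rfl
  have hneg : ∀ r, r < chevG2.nroots → (S F).X.img ((S F).toW v) r = chevG2.neg r := by
    have e7 : (S F).X.img ((S F).toW v) 7 = chevG2.neg 7 := by rw [map_mul, (S F).X.img_mul, fb', fa]
    have e11 : (S F).X.img ((S F).toW v) 11 = chevG2.neg 11 := by
      rw [map_mul, (S F).X.img_mul, fb, (S F).X.img_neg _ l11, fa']
    have a0 := cor_lin ((S F).toW v) l11 (j := 0) (by norm_num)
    have a1 := cor_lin ((S F).toW v) l11 (j := 1) (by norm_num)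
    rw [e7, e11] at a0 a1
    have tb : cc chevG2 (chevG2.neg 7) 0 = -1 ∧ cc chevG2 (chevG2.neg 7) 1 = 0 ∧
        cc chevG2 (chevG2.neg 11) 0 = -1 ∧ cc chevG2 (chevG2.neg 11) 1 = -2 ∧
        cc chevG2 11 0 = 1 ∧ cc chevG2 11 1 = 2 := by decide +kernel
    obtain ⟨t1, t2, t3, t4, t5, t6⟩ := tb
    rw [t1, t3, t5, t6] at a0
    rw [t2, t4, t5, t6] at a1
    have f0 : cc chevG2 ((S F).X.img ((S F).toW v) 6) 0 = 0 := by omega
    have f1 : cc chevG2 ((S F).X.img ((S F).toW v) 6) 1 = -1 := by omega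
    have tn : ∀ r, r < chevG2.nroots → chevG2.neg r < chevG2.nroots ∧
        cc chevG2 (chevG2.neg r) 0 = -cc chevG2 r 0 ∧ cc chevG2 (chevG2.neg r) 1 = -cc chevG2 r 1 := by
      decide +kernel
    intro r hr
    refine cc_inj _ ((S F).X.img_lt _ hr) _ (tn r hr).1 ?_ ?_
    · rw [cor_lin _ hr (by norm_num), e7, f0, t1, (tn r hr).2.1]; ring
    · rw [cor_lin _ hr (by norm_num), e7, f1, t2, (tn r hr).2.2]; ring
  have hcen : (S F).toW (nb * v * nb⁻¹) = (S F).toW v := by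
    apply (S F).X.ρ_injective
    apply Equiv.ext
    intro r
    apply Fin.ext
    have e : (S F).X.img ((S F).toW (nb * v * nb⁻¹)) r = (S F).X.img ((S F).toW v) r := by
      rw [map_mul, map_mul, (S F).X.img_mul, (S F).X.img_mul, hneg _ ((S F).X.img_lt _ r.2), hneg _ r.2,
        (S F).X.img_neg _ ((S F).X.img_lt _ r.2), map_inv, (S F).X.img_img_inv]
    unfold Weyl.img at e
    rwa [dif_pos r.2, dif_pos r.2] at e
  obtain ⟨a, b, hab⟩ := exists_T (F := F) (g := ((nb * v * nb⁻¹ : ↥(chevG2.monomialSubgroup F)) : G2) * (v : G2)⁻¹) (by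
    have : (nb * v * nb⁻¹) * v⁻¹ ∈ (S F).toW.ker := by rw [MonoidHom.mem_ker, map_mul, hcen, map_inv, mul_inv_cancel]
    exact (S F).toW_ker.le this)
  have hbv : (nb : G2) * vv * (nb : G2)⁻¹ = T a b * vv := by
    rw [← hab, hv]; push_cast; rw [hv]; group
  have hvK : (vv : G2) ∈ K F := Phi_mem _
  have hvv : (vv : G2) * vv = 1 := by
    rw [vv, ← map_mul]
    refine Phi_ker.2 (Or.inr ?_)
    have : (ChevalleySL2.wel : SL(2, F)) * ChevalleySL2.wel = -1 := by
      apply Subtype.ext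
      change (!![0, 1; -1, 0] : M2) * !![0, 1; -1, 0] = -1
      ext i j
      fin_cases i <;> fin_cases j <;> simp [Matrix.mul_apply, Fin.sum_univ_two]
    simp [this]
  have hnbG : (nb : G2) ∈ chevG2.group F := (S F).nn_mem_group l6 1
  by_cases hb : IsSquare b
  · -- use `T d 1 * v`
    have hinv : (vv : G2) * T d 1 * (vv : G2)⁻¹ = (T d 1)⁻¹ := by
      rw [← hg7, ← hv, conj_hg_general v l7 d.ne_zero, hneg _ l7]
      rw [hg_T (C.neg_lt 7), show cc chevG2 (chevG2.neg 7) 0 = -1 by decide +kernel,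
        show cc chevG2 (chevG2.neg 7) 1 = 0 by decide +kernel, _root_.zpow_neg_one, zpow_zero]
      refine eq_inv_of_mul_eq_one_right ?_
      rw [hg7, T_mul, mul_inv_cancel, one_mul, T_one]
    set x := T d 1 * (vv : G2) with hx
    have hxK : x ∈ K F := mul_mem (T_mem_K_iff.2 ⟨1, by simp⟩) hvK
    have hxx : x * x = 1 := by
      calc x * x = T d 1 * (vv * T d 1 * (vv : G2)⁻¹) * (vv * vv) := by rw [hx]; group
        _ = 1 := by rw [hinv, hvv]; group
    have hnH : x ∉ chevG2.diagonalSubgroup F := by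
      intro h
      have hvH : (v : G2) ∈ chevG2.diagonalSubgroup F := by
        rw [hv, show (vv : G2) = (T d 1)⁻¹ * x by rw [hx]; group]
        exact mul_mem (inv_mem (T_mem _ _)) h
      have h1 : (S F).toW v = 1 := (S F).toW_ker.symm.le hvH
      have := hneg 7 l7
      rw [h1, (S F).X.img_one] at this
      exact absurd this (by decide +kernel)
    have hx1 : x ≠ 1 := fun h => hnH (h ▸ one_mem _)
    have hx0 : x ≠ t0 := fun h => hnH (h ▸ T_mem _ _)
    obtain ⟨k, hk, hkx⟩ := inner_conj hodd hxK hxx hx1 hx0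
    have h8 : (nb : G2) * T d 1 * (nb : G2)⁻¹ = T d (d * d * d) := by
      rw [← hg7]
      show ns C 1 * hg C 7 (d : F) * (ns C 1)⁻¹ = _
      rw [ns_conj_hg C (by decide +kernel) l7 d.ne_zero, show chevG2.reflectRoot 1 7 = 8 by decide +kernel,
        hg_T (by decide +kernel), show cc chevG2 8 0 = 1 by decide +kernel,
        show cc chevG2 8 1 = 3 by decide +kernel, zpow_one]
      congr 1
      rw [show (3 : ℤ) = ((3 : ℕ) : ℤ) by norm_num, zpow_natCast, pow_succ, pow_two]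
    have hx' : (nb : G2) * x * (nb : G2)⁻¹ = T (d * a) (d * d * d * b) * vv := by
      rw [hx, ← MulAut.conj_apply, map_mul, MulAut.conj_apply, MulAut.conj_apply, h8, hbv, ← mul_assoc, T_mul]
    have hns : ¬ IsSquare (d * d * d * b) := by
      obtain ⟨s, rfl⟩ := hb
      rintro ⟨r, hr⟩
      refine hd ⟨r / (d * s), ?_⟩
      rw [div_mul_div_comm, ← hr, eq_div_iff_mul_eq']
      simp only [mul_assoc, mul_left_comm, mul_comm]
    set y := (nb : G2) * x * (nb : G2)⁻¹ with hy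
    have hyHK : y ∈ HK F := by
      rw [hx']; exact mul_mem (Subgroup.mem_sup_right (T_mem _ _)) (Subgroup.mem_sup_left hvK)
    have hynK : y ∉ K F := by
      rw [hx']; intro h
      have := mul_mem h (inv_mem hvK)
      rw [mul_inv_cancel_right] at this
      exact T_not_mem hns this
    obtain ⟨p, hp⟩ := (mem_HK_cases hodd hd hyHK).resolve_left hynK
    have hyy : y * y = 1 := by
      rw [hy, show (nb : G2) * x * (nb : G2)⁻¹ * ((nb : G2) * x * (nb : G2)⁻¹) = (nb : G2) * (x * x) * (nb : G2)⁻¹ by group,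
        hxx, mul_one, mul_inv_cancel]
    obtain ⟨l, hl, hlx⟩ := outer_conj hodd hd (hp ▸ hyy)
    rw [← hp, hy] at hlx
    exact ConjG.trans ⟨l⁻¹, inv_mem (group_le hl h2), by rw [← hlx]; group⟩
      (ConjG.trans ⟨(nb : G2), hnbG, rfl⟩ ⟨k, group_le hk h2, hkx⟩)
  · set y := (nb : G2) * vv * (nb : G2)⁻¹ with hy
    have hyHK : y ∈ HK F := by
      rw [hbv]; exact mul_mem (Subgroup.mem_sup_right (T_mem _ _)) (Subgroup.mem_sup_left hvK)
    have hynK : y ∉ K F := by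
      rw [hbv]; intro h
      have := mul_mem h (inv_mem hvK)
      rw [mul_inv_cancel_right] at this
      exact T_not_mem hb this
    obtain ⟨p, hp⟩ := (mem_HK_cases hodd hd hyHK).resolve_left hynK
    have hyy : y * y = 1 := by
      rw [hy, show (nb : G2) * vv * (nb : G2)⁻¹ * ((nb : G2) * vv * (nb : G2)⁻¹) = (nb : G2) * (vv * vv) * (nb : G2)⁻¹ by group,
        hvv, mul_one, mul_inv_cancel]
    obtain ⟨l, hl, hlx⟩ := outer_conj hodd hd (hp ▸ hyy)
    rw [← hp, hy] at hlx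
    exact ⟨l⁻¹ * (nb : G2), mul_mem (inv_mem (group_le hl h2)) hnbG, by
      rw [show l⁻¹ * (nb : G2) * vv * (l⁻¹ * (nb : G2))⁻¹ = l⁻¹ * ((nb : G2) * vv * (nb : G2)⁻¹) * l by group,
        ← hlx]; group⟩

theorem conj_t0 (hodd : Fintype.card F % 2 = 1) {x : G2} (hx : x ∈ HK F) (hxx : x * x = 1) (h1 : x ≠ 1) :
    ConjG x (t0 : G2) := by
  have h2 := two_ne hodd
  obtain ⟨d, hd⟩ := exists_nonsq (F := F) hodd
  have all : ∀ y ∈ HK F, y * y = 1 → y ≠ 1 → y ≠ t0 → ConjG y (vv : G2) := by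
    intro y hy hyy hy1 hy0
    rcases mem_HK_cases hodd hd hy with h | ⟨p, rfl⟩
    · obtain ⟨k, hk, hkx⟩ := inner_conj hodd h hyy hy1 hy0
      exact ⟨k, group_le hk h2, hkx⟩
    · obtain ⟨k, hk, hkx⟩ := outer_conj hodd hd hyy
      exact ConjG.trans ⟨k, group_le hk h2, hkx⟩ (link hodd hd)
  by_cases h0 : x = t0
  · subst h0; exact ⟨1, one_mem _, by simp⟩
  refine ConjG.trans (all x hx hxx h1 h0) ?_
  have h8 : ns C 1 * hg C 7 (-1 : F) * (ns C 1)⁻¹ = T (-1 : Fˣ) (-1) := by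
    rw [ns_conj_hg C (by decide +kernel) l7 (neg_ne_zero.2 one_ne_zero),
      show chevG2.reflectRoot 1 7 = 8 by decide +kernel, hg_neg_one_T (by decide +kernel),
      show cc chevG2 8 0 = 1 by decide +kernel, show cc chevG2 8 1 = 3 by decide +kernel, zpow_one,
      Odd.neg_one_zpow (by decide)]
  have hne1 := neg_one_ne h2
  have hT2 : T (-1 : Fˣ) (-1) * T (-1) (-1) = (1 : G2) := by rw [T_mul]; simp [T_one]
  refine ConjG.trans (ConjG.symm (all _ (Subgroup.mem_sup_right (T_mem _ _)) hT2 ?_ ?_)) ?_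
  · intro h
    rw [← T_one] at h
    exact hne1 (T_inj h).1
  · intro h
    exact hne1 (T_inj h).2
  · refine ⟨ns C 1, (S F).nn_mem_group l6 1, ?_⟩
    rw [← h8, t0_eq_hg]

end Cfsg.Agent.G2InvolMain71
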