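import Cfsg.Agent.Lib.PSLSimple
import Cfsg.Agent.Lib.SubspaceStab
import Cfsg.Agent.Lib.ElationOrbitCount

/-!
Transvections of `SL n F` given by a vector and a covector; elation groups and the fixed point
behaviour of transvections in an action on fewer than `(q^n - 1)/(q - 1)` points.
-/

set_option autoImplicit false

namespace Cfsg.Agent.MinIndexTransvection

open Matrix MulAction
open scoped MatrixGroups

variable {n : ℕ} {F : Type*} [Field F]

open scoped Classical in
/-- The transvection `y ↦ y + (φ ⬝ y) v` (the identity unless `φ ⬝ v = 0`). -/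
noncomputable def tv (v φ : Fin n → F) : SL(n, F) :=
  if h : φ ⬝ᵥ v = 0 then
    ⟨1 + vecMulVec v φ, by
      rw [vecMulVec_eq Unit, det_one_add_replicateCol_mul_replicateRow, h, add_zero]⟩
  else 1

theorem coe_tv {v φ : Fin n → F} (h : φ ⬝ᵥ v = 0) : (tv v φ).1 = 1 + vecMulVec v φ := by
  have e : tv v φ = ⟨1 + vecMulVec v φ, by
      rw [vecMulVec_eq Unit, det_one_add_replicateCol_mul_replicateRow, h, add_zero]⟩ := dif_pos h
  exact congrArg Subtype.val e

theorem one_smul_vec (y : Fin n → F) : (1 : SL(n, F)).1 *ᵥ y = y := one_mulVec y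

theorem vecMul_one' (y : Fin n → F) : y ᵥ* (1 : SL(n, F)).1 = y := vecMul_one y

theorem vecMul_mul' (g h : SL(n, F)) (y : Fin n → F) :
    (y ᵥ* g.1) ᵥ* h.1 = y ᵥ* (g * h).1 := vecMul_vecMul y g.1 h.1

theorem tv_apply {v φ : Fin n → F} (h : φ ⬝ᵥ v = 0) (y : Fin n → F) :
    (tv v φ).1 *ᵥ y = y + (φ ⬝ᵥ y) • v := by
  rw [coe_tv h, add_mulVec, one_mulVec, vecMulVec_mulVec, op_smul_eq_smul]

theorem vecMul_tv {v φ : Fin n → F} (h : φ ⬝ᵥ v = 0) (ψ : Fin n → F) :
    ψ ᵥ* (tv v φ).1 = ψ + (ψ ⬝ᵥ v) • φ := by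
  rw [coe_tv h, vecMul_add, vecMul_one, vecMul_vecMulVec]

theorem ext_mulVec {g h : SL(n, F)} (H : ∀ y, g.1 *ᵥ y = h.1 *ᵥ y) : g = h :=
  Subtype.ext (Matrix.ext_iff_mulVec.2 H)

theorem tv_zero_right (v : Fin n → F) : tv v (0 : Fin n → F) = 1 :=
  ext_mulVec fun y => by
    rw [tv_apply (zero_dotProduct v), zero_dotProduct, zero_smul, add_zero, one_smul_vec]

theorem tv_mul {v φ ψ : Fin n → F} (h : φ ⬝ᵥ v = 0) (h' : ψ ⬝ᵥ v = 0) :
    tv v φ * tv v ψ = tv v (φ + ψ) := by
  refine ext_mulVec fun y => ?_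
  rw [PSLSimple.mulVec_mul, tv_apply h', tv_apply h,
    tv_apply (by rw [add_dotProduct, h, h', add_zero]), dotProduct_add, dotProduct_smul, h,
    smul_zero, add_zero, add_dotProduct, add_smul, add_assoc, add_comm ((ψ ⬝ᵥ y) • v)]

theorem tv_mul' {v w φ : Fin n → F} (h : φ ⬝ᵥ v = 0) (h' : φ ⬝ᵥ w = 0) :
    tv v φ * tv w φ = tv (v + w) φ := by
  refine ext_mulVec fun y => ?_
  rw [PSLSimple.mulVec_mul, tv_apply h', tv_apply h,
    tv_apply (by rw [dotProduct_add, h, h', add_zero]), dotProduct_add, dotProduct_smul, h',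
    smul_zero, add_zero, smul_add, add_assoc, add_comm ((φ ⬝ᵥ y) • w)]

theorem tv_inv {v φ : Fin n → F} (h : φ ⬝ᵥ v = 0) : (tv v φ)⁻¹ = tv v (-φ) :=
  inv_eq_of_mul_eq_one_right (by
    rw [tv_mul h (by rw [neg_dotProduct, h, neg_zero]), add_neg_cancel, tv_zero_right])

theorem tv_smul {v φ : Fin n → F} (c : F) (h : φ ⬝ᵥ v = 0) : tv (c • v) φ = tv v (c • φ) := by
  refine ext_mulVec fun y => ?_
  rw [tv_apply (by rw [dotProduct_smul, h, smul_zero]),
    tv_apply (by rw [smul_dotProduct, h, smul_zero]), smul_dotProduct, smul_smul, smul_eq_mul,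
    mul_comm]

theorem tv_ne_one {v φ : Fin n → F} (h : φ ⬝ᵥ v = 0) (hv : v ≠ 0) (hφ : φ ≠ 0) :
    tv v φ ≠ 1 := fun e => by
  obtain ⟨j, hj⟩ := Function.ne_iff.1 hφ
  have := congrArg (fun g : SL(n, F) => g.1 *ᵥ Pi.single j 1) e
  simp only [tv_apply h, dotProduct_single, mul_one, one_smul_vec,
    add_eq_left, smul_eq_zero] at this
  rcases this with e | e
  · exact hj e
  · exact hv e

/-- Conjugate of a transvection. -/
theorem conj_tv (g : SL(n, F)) {v φ : Fin n → F} (h : φ ⬝ᵥ v = 0) :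
    g * tv v φ * g⁻¹ = tv (g.1 *ᵥ v) (φ ᵥ* (g⁻¹).1) := by
  have hh : (φ ᵥ* (g⁻¹).1) ⬝ᵥ (g.1 *ᵥ v) = 0 := by
    rw [← dotProduct_mulVec, ← PSLSimple.mulVec_mul, inv_mul_cancel, one_smul_vec, h]
  refine ext_mulVec fun y => ?_
  rw [PSLSimple.mulVec_mul, PSLSimple.mulVec_mul, tv_apply h, tv_apply hh, mulVec_add,
    mulVec_smul, ← PSLSimple.mulVec_mul g g⁻¹, mul_inv_cancel, one_smul_vec, dotProduct_mulVec]

theorem conj_tv_of_fix (g : SL(n, F)) {v φ : Fin n → F} (h : φ ⬝ᵥ v = 0) (hg : g.1 *ᵥ v = v) :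
    g * tv v φ = tv v (φ ᵥ* (g⁻¹).1) * g := by
  rw [← mul_inv_eq_iff_eq_mul, conj_tv g h, hg]

theorem transvection_eq_tv {i j : Fin n} (hij : i ≠ j) (c : F) :
    SpecialLinearGroup.transvection hij c = tv (Pi.single i 1) (Pi.single j c) := by
  have h : (Pi.single j c : Fin n → F) ⬝ᵥ Pi.single i 1 = 0 := by
    rw [single_dotProduct, Pi.single_eq_of_ne hij.symm, mul_zero]
  refine ext_mulVec fun y => ?_
  rw [PSLSimple.transvection_mulVec, tv_apply h, single_dotProduct]
  congr 1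
  ext k
  by_cases hk : k = i
  · subst hk; simp
  · simp [hk]

/-- A subgroup containing all transvections is everything. -/
theorem eq_top_of_tv_mem [Nontrivial (Fin n)] (H : Subgroup SL(n, F))
    (h : ∀ v φ : Fin n → F, φ ⬝ᵥ v = 0 → tv v φ ∈ H) : H = ⊤ :=
  PSLSimple.eq_top_of_transvection_mem H fun i j hij c => by
    rw [transvection_eq_tv hij c]
    exact h _ _ (by rw [single_dotProduct, Pi.single_eq_of_ne hij.symm, mul_zero])

/-! ### Linear algebra -/

theorem exists_dot_pair {a b : Fin n → F} (ha : a ∉ Submodule.span F {b})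
    (hb : b ∉ Submodule.span F {a}) (x y : F) : ∃ w : Fin n → F, a ⬝ᵥ w = x ∧ b ⬝ᵥ w = y := by
  obtain ⟨w₁, h1, h1'⟩ := SubspaceStab.exists_dot _ ha
  obtain ⟨w₂, h2, h2'⟩ := SubspaceStab.exists_dot _ hb
  refine ⟨x • w₁ + y • w₂, ?_, ?_⟩
  · rw [dotProduct_add, dotProduct_smul, dotProduct_smul, dotProduct_comm a w₁, h1,
      dotProduct_comm a w₂, h2' a (Submodule.mem_span_singleton_self a)]
    simp
  · rw [dotProduct_add, dotProduct_smul, dotProduct_smul, dotProduct_comm b w₂, h2,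
      dotProduct_comm b w₁, h1' b (Submodule.mem_span_singleton_self b)]
    simp

theorem notMem_span_symm {a b : Fin n → F} (ha0 : a ≠ 0) (hb : b ∉ Submodule.span F {a}) :
    a ∉ Submodule.span F {b} := by
  intro h
  obtain ⟨c, hc⟩ := Submodule.mem_span_singleton.1 h
  have hc0 : c ≠ 0 := fun e => ha0 (by rw [← hc, e, zero_smul])
  exact hb (Submodule.mem_span_singleton.2 ⟨c⁻¹, by rw [← hc, smul_smul, inv_mul_cancel₀ hc0, one_smul]⟩)

/-- The two linear forms `φ ↦ φ ⬝ v` and `φ ↦ φ ⬝ w`. -/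
def pairMap (v w : Fin n → F) : (Fin n → F) →ₗ[F] F × F where
  toFun φ := (φ ⬝ᵥ v, φ ⬝ᵥ w)
  map_add' a b := by simp [add_dotProduct]
  map_smul' c a := by simp [smul_dotProduct]

theorem exists_perp_pair (hn : 3 ≤ n) (v w : Fin n → F) :
    ∃ φ : Fin n → F, φ ≠ 0 ∧ φ ⬝ᵥ v = 0 ∧ φ ⬝ᵥ w = 0 := by
  have h : LinearMap.ker (pairMap v w) ≠ ⊥ := by
    refine LinearMap.ker_ne_bot_of_finrank_lt ?_
    rw [Module.finrank_prod, Module.finrank_self, Module.finrank_fin_fun]
    omega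
  obtain ⟨φ, hφ, hφ0⟩ := Submodule.exists_mem_ne_zero_of_ne_bot h
  rw [LinearMap.mem_ker] at hφ
  exact ⟨φ, hφ0, congrArg Prod.fst hφ, congrArg Prod.snd hφ⟩

/-- The covectors killing a vector. -/
def perp (v : Fin n → F) : Submodule F (Fin n → F) where
  carrier := {φ | φ ⬝ᵥ v = 0}
  zero_mem' := zero_dotProduct v
  add_mem' {a b} ha hb := by
    show (a + b) ⬝ᵥ v = 0
    rw [add_dotProduct, show a ⬝ᵥ v = 0 from ha, show b ⬝ᵥ v = 0 from hb, add_zero]
  smul_mem' c a ha := by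
    show (c • a) ⬝ᵥ v = 0
    rw [smul_dotProduct, show a ⬝ᵥ v = 0 from ha, smul_zero]

theorem finrank_perp {v : Fin n → F} (hv : v ≠ 0) : Module.finrank F (perp v) = n - 1 := by
  let f : (Fin n → F) →ₗ[F] F :=
    { toFun := fun φ => φ ⬝ᵥ v
      map_add' := fun a b => add_dotProduct a b v
      map_smul' := fun c a => smul_dotProduct c a v }
  obtain ⟨j, hj⟩ := Function.ne_iff.1 hv
  have hsurj : Function.Surjective f := fun c => ⟨Pi.single j (c / v j), by
    show Pi.single j (c / v j) ⬝ᵥ v = c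
    rw [single_dotProduct, div_mul_cancel₀ c hj]⟩
  have := f.finrank_range_add_finrank_ker
  rw [LinearMap.range_eq_top.2 hsurj, finrank_top, Module.finrank_self,
    Module.finrank_fin_fun] at this
  have e : perp v = LinearMap.ker f := rfl
  rw [e]
  omega

theorem card_perp [Finite F] {v : Fin n → F} (hv : v ≠ 0) :
    Nat.card (perp v) = Nat.card F ^ (n - 1) := by
  rw [Module.natCard_eq_pow_finrank (K := F) (V := perp v), finrank_perp hv]

/-- The elation group of a point as a homomorphism. -/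
noncomputable def tvHom (v : Fin n → F) : Multiplicative (perp v) →* SL(n, F) where
  toFun φ := tv v (φ.toAdd : Fin n → F)
  map_one' := tv_zero_right v
  map_mul' φ ψ := (tv_mul φ.toAdd.2 ψ.toAdd.2).symm

/-- Transitivity of `SL` on nonzero vectors. -/
theorem exists_map_vec (hn : 3 ≤ n) {v w : Fin n → F} (hv : v ≠ 0) (hw : w ≠ 0) :
    ∃ g : SL(n, F), g.1 *ᵥ v = w := by
  have step : ∀ {a b : Fin n → F}, a ≠ 0 → b ∉ Submodule.span F {a} →
      ∃ g : SL(n, F), g.1 *ᵥ a = b := by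
    intro a b ha hb
    have h1 : a ∉ Submodule.span F {b - a} := by
      refine notMem_span_symm ha fun h => hb ?_
      simpa using Submodule.add_mem _ h (Submodule.mem_span_singleton_self a)
    have h2 : b - a ∉ Submodule.span F {a} := fun h => hb (by
      simpa using Submodule.add_mem _ h (Submodule.mem_span_singleton_self a))
    obtain ⟨φ, hφ1, hφ2⟩ := exists_dot_pair h1 h2 1 0
    rw [dotProduct_comm] at hφ1 hφ2
    exact ⟨tv (b - a) φ, by rw [tv_apply hφ2, hφ1, one_smul, add_sub_cancel]⟩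
  by_cases h : w ∈ Submodule.span F {v}
  · obtain ⟨c, rfl⟩ := Submodule.mem_span_singleton.1 h
    obtain ⟨u, hu⟩ : ∃ u, u ∉ Submodule.span F {v} := by
      by_contra hall
      push Not at hall
      have : Submodule.span F {v} = ⊤ := Submodule.eq_top_iff'.2 hall
      have h1 := finrank_span_singleton (K := F) hv
      rw [this, finrank_top, Module.finrank_fin_fun] at h1
      omega
    obtain ⟨g, hg⟩ := step hv hu
    obtain ⟨g', hg'⟩ := step (a := u) (b := c • v) (fun e => hu (e ▸ Submodule.zero_mem _))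
      (notMem_span_symm hw fun e => hu (by
        obtain ⟨d, rfl⟩ := Submodule.mem_span_singleton.1 e
        rw [smul_smul]
        exact Submodule.smul_mem _ _ (Submodule.mem_span_singleton_self v)))
    exact ⟨g' * g, by rw [PSLSimple.mulVec_mul, hg, hg']⟩
  · exact step hv h

/-! ### Fixed points -/

variable {Ω : Type*} (ρ : SL(n, F) →* Equiv.Perm Ω)

/-- `α` is fixed by every elation with centre `v`. -/
def FixAll (v : Fin n → F) (α : Ω) : Prop :=
  ∀ φ : Fin n → F, φ ⬝ᵥ v = 0 → ρ (tv v φ) α = α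

/-- `α` is fixed by the elations with centre `v` whose axis contains `u`. -/
def Line (α : Ω) (v u : Fin n → F) : Prop :=
  ∀ φ : Fin n → F, φ ⬝ᵥ v = 0 → φ ⬝ᵥ u = 0 → ρ (tv v φ) α = α

theorem rho_mul_apply (g h : SL(n, F)) (α : Ω) : ρ (g * h) α = ρ g (ρ h α) := by
  rw [map_mul]; rfl

theorem fix_conj {g x : SL(n, F)} {α : Ω} (h : ρ x α = α) :
    ρ (g * x * g⁻¹) (ρ g α) = ρ g α := by
  rw [← rho_mul_apply, inv_mul_cancel_right, rho_mul_apply, h]

theorem fixAll_map {g : SL(n, F)} {v : Fin n → F} {α : Ω} (h : FixAll ρ v α) :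
    FixAll ρ (g.1 *ᵥ v) (ρ g α) := by
  intro φ hφ
  have h0 : (φ ᵥ* g.1) ⬝ᵥ v = 0 := by rw [← dotProduct_mulVec]; exact hφ
  have := fix_conj ρ (g := g) (h _ h0)
  rwa [conj_tv g h0, vecMul_mul', mul_inv_cancel, vecMul_one'] at this

theorem line_map {g : SL(n, F)} {v u : Fin n → F} {α : Ω} (h : Line ρ α v u) :
    Line ρ (ρ g α) (g.1 *ᵥ v) (g.1 *ᵥ u) := by
  intro φ hφ hφ'
  have h0 : (φ ᵥ* g.1) ⬝ᵥ v = 0 := by rw [← dotProduct_mulVec]; exact hφ
  have h1 : (φ ᵥ* g.1) ⬝ᵥ u = 0 := by rw [← dotProduct_mulVec]; exact hφ'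
  have := fix_conj ρ (g := g) (h _ h0 h1)
  rwa [conj_tv g h0, vecMul_mul', mul_inv_cancel, vecMul_one'] at this

theorem line_unique {α : Ω} {v u u' : Fin n → F} (h : Line ρ α v u) (h' : Line ρ α v u')
    (hm : ¬ FixAll ρ v α) : u' ∈ Submodule.span F {v, u} := by
  by_contra hu'
  obtain ⟨a, ha1, ha0⟩ := SubspaceStab.exists_dot _ hu'
  refine hm fun φ hφ => ?_
  have hav : a ⬝ᵥ v = 0 := ha0 v (Submodule.subset_span (by simp))
  have hau : a ⬝ᵥ u = 0 := ha0 u (Submodule.subset_span (by simp))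
  set φ₁ := (φ ⬝ᵥ u') • a with hφ₁
  have h1 : φ₁ ⬝ᵥ v = 0 := by rw [hφ₁, smul_dotProduct, hav, smul_zero]
  have h2 : (φ - φ₁) ⬝ᵥ v = 0 := by rw [sub_dotProduct, hφ, h1, sub_zero]
  have h3 : (φ - φ₁) ⬝ᵥ u' = 0 := by
    rw [sub_dotProduct, hφ₁, smul_dotProduct, ha1]; simp
  have e1 := h φ₁ h1 (by rw [hφ₁, smul_dotProduct, hau, smul_zero])
  have e2 := h' _ h2 h3
  rw [show φ = φ₁ + (φ - φ₁) by abel, ← tv_mul h1 h2, rho_mul_apply, e2, e1]

variable [Finite F] [Finite Ω]

theorem card_fix_eq {v : Fin n → F} (hn : 3 ≤ n) (hv : v ≠ 0) {φ ψ : Fin n → F}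
    (hφ : φ ⬝ᵥ v = 0) (hψ : ψ ⬝ᵥ v = 0) (hφ0 : φ ≠ 0) (hψ0 : ψ ≠ 0) :
    Nat.card {α : Ω // ρ (tv v φ) α = α} = Nat.card {α : Ω // ρ (tv v ψ) α = α} := by
  have step : ∀ {a b : Fin n → F}, a ⬝ᵥ v = 0 → b ⬝ᵥ v = 0 → a ≠ 0 → b ∉ Submodule.span F {a} →
      Nat.card {α : Ω // ρ (tv v a) α = α} = Nat.card {α : Ω // ρ (tv v b) α = α} := by
    intro a b ha hb ha0 hab
    have h1 : a ∉ Submodule.span F {b} := notMem_span_symm ha0 hab
    obtain ⟨w, hw1, hw2⟩ := exists_dot_pair h1 hab 1 1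
    have hd : (a - b) ⬝ᵥ w = 0 := by rw [sub_dotProduct, hw1, hw2, sub_self]
    set g := tv w (a - b) with hg
    have hgv : g.1 *ᵥ v = v := by
      rw [hg, tv_apply hd, sub_dotProduct, ha, hb, sub_zero, zero_smul, add_zero]
    have hconj : g * tv v a * g⁻¹ = tv v b := by
      rw [conj_tv g ha, hgv, hg, tv_inv hd, vecMul_tv (by rw [neg_dotProduct, hd, neg_zero]),
        hw1, one_smul]
      congr 1
      abel
    refine Nat.card_congr ((ρ g).subtypeEquiv fun α => ?_)
    rw [← hconj]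
    constructor
    · intro h; exact fix_conj ρ h
    · intro h
      have := fix_conj ρ (g := g⁻¹) h
      rwa [show g⁻¹ * (g * tv v a * g⁻¹) * g⁻¹⁻¹ = tv v a by group, ← rho_mul_apply ρ g⁻¹ g,
        inv_mul_cancel, map_one, Equiv.Perm.one_apply] at this
  by_cases h : ψ ∈ Submodule.span F {φ}
  · obtain ⟨χ, hχ, hχφ⟩ : ∃ χ, χ ⬝ᵥ v = 0 ∧ χ ∉ Submodule.span F {φ} := by
      by_contra hall
      push Not at hall
      have hle : perp v ≤ Submodule.span F {φ} := fun χ hχ => hall χ hχ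
      have := Submodule.finrank_mono hle
      rw [finrank_perp hv, finrank_span_singleton hφ0] at this
      omega
    have hχ0 : χ ≠ 0 := fun e => hχφ (e ▸ Submodule.zero_mem _)
    refine (step hφ hχ hφ0 hχφ).trans (step hχ hψ hχ0 ?_)
    obtain ⟨c, rfl⟩ := Submodule.mem_span_singleton.1 h
    refine notMem_span_symm hψ0 fun e => hχφ ?_
    obtain ⟨d, rfl⟩ := Submodule.mem_span_singleton.1 e
    rw [smul_smul]
    exact Submodule.smul_mem _ _ (Submodule.mem_span_singleton_self φ)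
  · exact step hφ hψ hφ0 h

theorem exists_functional {p : ℕ} [Fact p.Prime] {V : Type*} [AddCommGroup V]
    (hp : ∀ x : V, p • x = 0) (W : AddSubgroup V) {x : V} (hx : x ∉ W) :
    ∃ lam : V →+ ZMod p, lam x ≠ 0 ∧ ∀ {χ : V}, χ ∈ W → lam χ = 0 := by
  let : Module (ZMod p) V := AddCommGroup.zmodModule hp
  obtain ⟨lam, h1, h2⟩ := Submodule.exists_le_ker_of_notMem
    (p := AddSubgroup.toZModSubmodule p W) (v := x) fun h => hx h
  exact ⟨lam.toAddMonoidHom, h1, fun h => LinearMap.mem_ker.1 (h2 h)⟩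

/-- The elation group acting on `Ω`. -/
@[reducible] noncomputable def elationAction (v : Fin n → F) :
    MulAction (Multiplicative (perp v)) Ω :=
  MulAction.compHom Ω (ρ.comp (tvHom v))

theorem exists_const (hn : 3 ≤ n) {v : Fin n → F} (hv : v ≠ 0) :
    ∃ φ₀ : ℕ, ∀ x : Multiplicative (perp v), x ≠ 1 →
      letI := elationAction ρ v
      Nat.card (fixedBy Ω x) = φ₀ := by
  obtain ⟨φ, hφ0, hφ, -⟩ := exists_perp_pair hn v v
  refine ⟨Nat.card {α : Ω // ρ (tv v φ) α = α}, fun x hx => ?_⟩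
  have hx0 : (x.toAdd : Fin n → F) ≠ 0 := fun e => hx (by
    rw [← toAdd_eq_zero]; exact Subtype.ext e)
  exact card_fix_eq ρ hn hv x.toAdd.2 hφ hx0 hφ0

theorem exists_move {v : Fin n → F} {α : Ω} (hm : ¬ FixAll ρ v α) :
    ∃ x : Multiplicative (perp v), letI := elationAction ρ v; x • α ≠ α := by
  simp only [FixAll, not_forall] at hm
  obtain ⟨φ, hφ, h⟩ := hm
  exact ⟨Multiplicative.ofAdd ⟨φ, hφ⟩, h⟩

/-- A moved point with a nontrivial stabiliser has a line. -/
theorem exists_line (hn : 3 ≤ n) {v : Fin n → F} (hv : v ≠ 0)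
    (hlt : Nat.card Ω + 1 < 2 * Nat.card F ^ (n - 1)) {α : Ω} (hm : ¬ FixAll ρ v α)
    {φ : Fin n → F} (hφ : φ ⬝ᵥ v = 0) (hφ0 : φ ≠ 0) (hfix : ρ (tv v φ) α = α) :
    ∃ u, u ∉ Submodule.span F {v} ∧ Line ρ α v u := by
  classical
  let _ := elationAction ρ v
  obtain ⟨φ₀, hc⟩ := exists_const ρ hn hv
  obtain ⟨x₀, hx₀⟩ := exists_move ρ hm
  have hlt' : Nat.card Ω + 1 < 2 * Nat.card (Multiplicative (perp v)) := by
    rw [Nat.card_congr Multiplicative.toAdd, card_perp hv]; exact hlt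
  -- the stabiliser and a functional killing it
  obtain ⟨p, _, _⟩ : ∃ p : ℕ, ∃ _ : Fact p.Prime, CharP F p :=
    ⟨ringChar F, ⟨CharP.char_is_prime F _⟩, inferInstance⟩
  let W : AddSubgroup (perp v) := Subgroup.toAddSubgroup'
    (stabilizer (Multiplicative (perp v)) α)
  have hWmem : ∀ χ : perp v, χ ∈ W ↔ ρ (tv v (χ : Fin n → F)) α = α := fun χ => Iff.rfl
  let : Module (ZMod p) F := (ZMod.algebra F p).toModule
  have hp0 : ∀ x : perp v, p • x = 0 := fun x => by
    rw [← Nat.cast_smul_eq_nsmul F, CharP.cast_eq_zero, zero_smul]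
  obtain ⟨x₁, hx₁⟩ : ∃ χ : perp v, χ ∉ W := ⟨x₀.toAdd, fun h => hx₀ h⟩
  obtain ⟨lam, hlam, hlamW⟩ := exists_functional hp0 W hx₁
  -- the largest `F`-subspace in the kernel
  let Λ : perp v →+ (F →+ ZMod p) :=
    { toFun := fun χ => lam.comp
        { toFun := fun c : F => c • χ
          map_zero' := zero_smul F χ
          map_add' := fun a b => add_smul a b χ }
      map_zero' := by ext c; simp
      map_add' := fun a b => by ext c; simp }
  let K : Submodule F (perp v) :=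
    { carrier := {χ | ∀ c : F, lam (c • χ) = 0}
      zero_mem' := fun c => by rw [smul_zero, map_zero]
      add_mem' := fun {a b} ha hb c => by rw [smul_add, map_add, ha c, hb c, add_zero]
      smul_mem' := fun d χ hχ c => by rw [smul_smul]; exact hχ _ }
  have hKlam : ∀ χ ∈ K, lam χ = 0 := fun χ hχ => by simpa using hχ 1
  have hKtop : K ≠ ⊤ := fun e => hlam (hKlam x₁ (e ▸ Submodule.mem_top))
  have hKker : Λ.ker = K.toAddSubgroup := by
    ext χ
    rw [AddMonoidHom.mem_ker]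
    exact ⟨fun h c => DFunLike.congr_fun h c, fun h => AddMonoidHom.ext h⟩
  have hcardHom : Nat.card (F →+ ZMod p) = Nat.card F := by
    have e : (F →+ ZMod p) ≃ (F →ₗ[ZMod p] ZMod p) :=
      { toFun := fun f => AddMonoidHom.toZModLinearMap p f
        invFun := fun f => f.toAddMonoidHom
        left_inv := fun f => rfl
        right_inv := fun f => rfl }
    have := Fintype.ofFinite F
    rw [Nat.card_congr e, Module.natCard_eq_pow_finrank (K := ZMod p) (V := F →ₗ[ZMod p] ZMod p),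
      Module.natCard_eq_pow_finrank (K := ZMod p) (V := F)]
    congr 1
    exact Subspace.dual_finrank_eq
  have hKrank : Module.finrank F K = n - 2 := by
    have hlt2 : Module.finrank F K < n - 1 := finrank_perp hv ▸ Submodule.finrank_lt hKtop
    have hq : 1 < Nat.card F := Finite.one_lt_card
    have hmul : Nat.card (perp v) = Nat.card Λ.range * Nat.card K := by
      rw [AddSubgroup.card_eq_card_quotient_mul_card_addSubgroup Λ.ker,
        Nat.card_congr (QuotientAddGroup.quotientKerEquivRange Λ).toEquiv, hKker]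
      rfl
    have hle : Nat.card Λ.range ≤ Nat.card F := by
      have : Finite (F →+ ZMod p) := Finite.of_injective _ DFunLike.coe_injective
      rw [← hcardHom]
      exact Nat.card_le_card_of_injective _ Subtype.val_injective
    rw [card_perp hv, Module.natCard_eq_pow_finrank (K := F) (V := K)] at hmul
    by_contra hne
    have : Nat.card F ^ (Module.finrank F K + 1) < Nat.card F ^ (n - 1) :=
      Nat.pow_lt_pow_right hq (by omega)
    rw [hmul, pow_succ'] at this
    exact absurd this (not_lt.2 (Nat.mul_le_mul_right _ hle))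
  -- conjugating by suitable transvections
  have move : ∀ χ : perp v, χ ∈ W → ∀ (ψ : perp v) (w : Fin n → F),
      (ψ : Fin n → F) ⬝ᵥ w = 0 →
      ∀ hm : (χ : Fin n → F) - ((χ : Fin n → F) ⬝ᵥ w) • (ψ : Fin n → F) ∈ perp v,
      (⟨_, hm⟩ : perp v) ∈ Subgroup.toAddSubgroup'
        (stabilizer (Multiplicative (perp v)) (ρ (tv w (ψ : Fin n → F)) α)) := by
    intro χ hχ ψ w hw hm'
    have hgv : (tv w (ψ : Fin n → F)).1 *ᵥ v = v := by
      rw [tv_apply hw, show (ψ : Fin n → F) ⬝ᵥ v = 0 from ψ.2, zero_smul, add_zero]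
    have := fix_conj ρ (g := tv w (ψ : Fin n → F)) ((hWmem χ).1 hχ)
    rw [conj_tv _ χ.2, hgv, tv_inv hw, vecMul_tv (by rw [neg_dotProduct, hw, neg_zero]),
      smul_neg, ← sub_eq_add_neg] at this
    exact this
  have move' : ∀ (ψ : perp v) (w : Fin n → F), (ψ : Fin n → F) ⬝ᵥ w = 0 →
      ∀ y ∈ Subgroup.toAddSubgroup'
        (stabilizer (Multiplicative (perp v)) (ρ (tv w (ψ : Fin n → F)) α)),
      ∃ χ ∈ W, (y : Fin n → F) = (χ : Fin n → F) - ((χ : Fin n → F) ⬝ᵥ w) • (ψ : Fin n → F) := by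
    intro ψ w hw y hy
    have hmem : (y : Fin n → F) + ((y : Fin n → F) ⬝ᵥ w) • (ψ : Fin n → F) ∈ perp v :=
      Submodule.add_mem _ y.2 (Submodule.smul_mem _ _ ψ.2)
    refine ⟨⟨_, hmem⟩, ?_, ?_⟩
    · have hgv : ((tv w (ψ : Fin n → F))⁻¹).1 *ᵥ v = v := by
        rw [tv_inv hw, tv_apply (by rw [neg_dotProduct, hw, neg_zero]), neg_dotProduct,
          show (ψ : Fin n → F) ⬝ᵥ v = 0 from ψ.2, neg_zero, zero_smul, add_zero]
      have := fix_conj ρ (g := (tv w (ψ : Fin n → F))⁻¹) (show ρ (tv v (y : Fin n → F)) _ = _ from hy)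
      rw [conj_tv _ y.2, hgv, inv_inv, vecMul_tv hw,
        ← rho_mul_apply ρ (tv w (ψ : Fin n → F))⁻¹ (tv w (ψ : Fin n → F)), inv_mul_cancel, map_one,
        Equiv.Perm.one_apply] at this
      exact this
    · show _ = _ + _ - _
      rw [add_dotProduct, smul_dotProduct, hw, smul_zero, add_zero, add_sub_cancel_right]
  have key : ∀ χ : perp v, χ ∈ W → ∀ ψ ∈ K, (χ : Fin n → F) ∉ Submodule.span F {(ψ : Fin n → F)} →
      ∀ c : F, c • ψ ∈ W := by
    intro χ hχ ψ hψ hind c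
    obtain ⟨w, hw1, hw2⟩ := SubspaceStab.exists_dot _ hind
    have hψw : (ψ : Fin n → F) ⬝ᵥ (c • w) = 0 := by
      rw [dotProduct_smul, dotProduct_comm, hw2 _ (Submodule.mem_span_singleton_self _), smul_zero]
    have hχw : (χ : Fin n → F) ⬝ᵥ (c • w) = c := by
      rw [dotProduct_smul, dotProduct_comm, hw1, smul_eq_mul, mul_one]
    set β := ρ (tv (c • w) (ψ : Fin n → F)) α with hβ
    set W' := Subgroup.toAddSubgroup' (stabilizer (Multiplicative (perp v)) β) with hW'
    -- the new stabiliser is still killed by `lam`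
    have hW'ker : ∀ y ∈ W', lam y = 0 := by
      intro y hy
      obtain ⟨χ', hχ', e⟩ := move' ψ (c • w) hψw y hy
      have ey : y = χ' - ((χ' : Fin n → F) ⬝ᵥ (c • w)) • ψ := Subtype.ext e
      rw [ey, map_sub, hψ, sub_zero]
      exact hlamW hχ'
    -- hence `β` lies in the orbit of `α`
    have horb : β ∈ orbit (Multiplicative (perp v)) α := by
      by_contra hβα
      have hsup := ElationOrbitCount.sup_stabilizer hc hlt' hx₀ hβα
      have hx : Multiplicative.ofAdd x₁ ∈ stabilizer (Multiplicative (perp v)) α ⊔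
          stabilizer (Multiplicative (perp v)) β := hsup ▸ Subgroup.mem_top _
      obtain ⟨a, ha, b, hb, hab⟩ := Subgroup.mem_sup.1 hx
      refine hlam ?_
      rw [show x₁ = a.toAdd + b.toAdd from congrArg Multiplicative.toAdd hab.symm, map_add,
        hlamW (show a.toAdd ∈ W from ha), hW'ker b.toAdd hb, add_zero]
    obtain ⟨z, hz⟩ := horb
    have heq : W' = W := by
      rw [hW', ← hz]
      exact congrArg Subgroup.toAddSubgroup' (ElationOrbitCount.stabilizer_smul_eq z α)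
    have hmem : (χ : Fin n → F) - ((χ : Fin n → F) ⬝ᵥ (c • w)) • (ψ : Fin n → F) ∈ perp v :=
      Submodule.sub_mem _ χ.2 (Submodule.smul_mem _ _ ψ.2)
    have h1 : (⟨_, hmem⟩ : perp v) ∈ W := heq ▸ move χ hχ ψ (c • w) hψw hmem
    have h2 : c • ψ = χ - (⟨_, hmem⟩ : perp v) := Subtype.ext (by
      show c • (ψ : Fin n → F) = _ - (_ - _)
      rw [hχw, sub_sub_cancel])
    rw [h2]
    exact W.sub_mem hχ h1
  -- the hyperplane `K` is inside `W`
  let χ₀ : perp v := ⟨φ, hφ⟩
  have hχ₀ : χ₀ ∈ W := (hWmem χ₀).2 hfix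
  have indep_of : ∀ {χ ψ : perp v}, χ ∉ K → ψ ∈ K →
      (χ : Fin n → F) ∉ Submodule.span F {(ψ : Fin n → F)} := by
    intro χ ψ hχ hψ h
    obtain ⟨d, hd⟩ := Submodule.mem_span_singleton.1 h
    have : χ = d • ψ := Subtype.ext hd.symm
    exact hχ (this ▸ K.smul_mem d hψ)
  have hKW : ∀ ψ ∈ K, ψ ∈ W := by
    by_cases hχK : χ₀ ∈ K
    swap
    · intro ψ hψ
      simpa using key χ₀ hχ₀ ψ hψ (indep_of hχK hψ) 1
    by_cases hdim : ∃ ψ ∈ K, (ψ : Fin n → F) ∉ Submodule.span F {φ}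
    · obtain ⟨ψ, hψ, hψφ⟩ := hdim
      have hψW : ψ ∈ W := by
        simpa using key χ₀ hχ₀ ψ hψ (notMem_span_symm hφ0 hψφ) 1
      intro y hy
      by_cases hyφ : (y : Fin n → F) ∈ Submodule.span F {φ}
      · obtain ⟨d, hd⟩ := Submodule.mem_span_singleton.1 hyφ
        have : y = d • χ₀ := Subtype.ext hd.symm
        rw [this]
        exact key ψ hψW χ₀ hχK hψφ d
      · simpa using key χ₀ hχ₀ y hy (notMem_span_symm hφ0 hyφ) 1
    · push Not at hdim
      intro y hy
      by_contra hyW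
      obtain ⟨ψ, hψK⟩ : ∃ ψ : perp v, ψ ∉ K := by
        by_contra hall
        push Not at hall
        exact hKtop (Submodule.eq_top_iff'.2 hall)
      have hψφ : (ψ : Fin n → F) ∉ Submodule.span F {φ} := indep_of hψK hχK
      obtain ⟨w, hw1, hw2⟩ := exists_dot_pair (notMem_span_symm hφ0 hψφ) hψφ 1 0
      set β := ρ (tv w (ψ : Fin n → F)) α with hβ
      set W' := Subgroup.toAddSubgroup' (stabilizer (Multiplicative (perp v)) β) with hW'
      have hmem : φ - (φ ⬝ᵥ w) • (ψ : Fin n → F) ∈ perp v :=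
        Submodule.sub_mem _ hφ (Submodule.smul_mem _ _ ψ.2)
      have hnew : (⟨_, hmem⟩ : perp v) ∈ W' := move χ₀ hχ₀ ψ w hw2 hmem
      have hWK : ∀ χ ∈ W, χ ∈ K := by
        intro χ hχ
        by_contra hχK'
        exact hyW (by simpa using key χ hχ y hy (indep_of hχK' hy) 1)
      have hnotK : (⟨_, hmem⟩ : perp v) ∉ K := by
        intro h
        have : ψ = χ₀ - (⟨_, hmem⟩ : perp v) := Subtype.ext (by
          show (ψ : Fin n → F) = φ - (φ - _)
          rw [hw1, one_smul, sub_sub_cancel])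
        exact hψK (this ▸ K.sub_mem hχK h)
      have hβα : β ∉ orbit (Multiplicative (perp v)) α := by
        rintro ⟨z, hz⟩
        refine hnotK (hWK _ ?_)
        have : W' = W := by
          rw [hW', ← hz]
          exact congrArg Subgroup.toAddSubgroup' (ElationOrbitCount.stabilizer_smul_eq z α)
        exact this ▸ hnew
      have hsup := ElationOrbitCount.sup_stabilizer hc hlt' hx₀ hβα
      -- count
      have hsurj : Function.Surjective (fun z : W × W' => (z.1 : perp v) + z.2) := by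
        intro x
        have hx : Multiplicative.ofAdd x ∈ stabilizer (Multiplicative (perp v)) α ⊔
            stabilizer (Multiplicative (perp v)) β := hsup ▸ Subgroup.mem_top _
        obtain ⟨a, ha, b, hb, hab⟩ := Subgroup.mem_sup.1 hx
        exact ⟨(⟨a.toAdd, ha⟩, ⟨b.toAdd, hb⟩), congrArg Multiplicative.toAdd hab⟩
      have h1 := Nat.card_le_card_of_surjective _ hsurj
      rw [card_perp hv, Nat.card_prod] at h1
      have h2 : Nat.card W' ≤ Nat.card W := by
        choose f hfW hf using move' ψ w hw2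
        refine Nat.card_le_card_of_injective
          (fun z : W' => (⟨f z.1 z.2, hfW _ z.2⟩ : W)) fun a b hab => ?_
        have e : f a.1 a.2 = f b.1 b.2 := congrArg Subtype.val hab
        refine Subtype.ext (Subtype.ext ?_)
        rw [hf a.1 a.2, hf b.1 b.2, e]
      have h3 : Nat.card W < Nat.card K :=
        Set.Finite.card_lt_card (Set.toFinite _)
          ⟨fun χ hχ => hWK χ hχ, fun h => hyW (h hy)⟩
      have hKle : Module.finrank F K ≤ 1 := by
        have hle : K ≤ Submodule.span F {χ₀} := fun x hx => by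
          obtain ⟨d, hd⟩ := Submodule.mem_span_singleton.1 (hdim x hx)
          exact Submodule.mem_span_singleton.2 ⟨d, Subtype.ext hd⟩
        refine (Submodule.finrank_mono hle).trans ?_
        rw [finrank_span_singleton (fun e => hφ0 (congrArg Subtype.val e))]
      have hn3 : n = 3 := by omega
      rw [Module.natCard_eq_pow_finrank (K := F) (V := K), hKrank, show n - 2 = 3 - 2 by omega] at h3
      rw [show n - 1 = 3 - 1 by omega] at h1
      have h4 : Nat.card W * Nat.card W' ≤ Nat.card W * Nat.card W := Nat.mul_le_mul_left _ h2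
      have h5 : Nat.card W * Nat.card W < Nat.card F * Nat.card F := by
        simp only [show 3 - 2 = 1 from rfl, pow_one] at h3
        exact Nat.mul_self_lt_mul_self h3
      rw [show (3 : ℕ) - 1 = 2 from rfl, sq] at h1
      omega
  -- the vector `u`
  obtain ⟨ψ₀, hψ₀⟩ : ∃ ψ : perp v, ψ ∉ K := by
    by_contra hall
    push Not at hall
    exact hKtop (Submodule.eq_top_iff'.2 hall)
  let K' : Submodule F (Fin n → F) := K.map (perp v).subtype
  have hψ₀' : (ψ₀ : Fin n → F) ∉ K' := by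
    rintro ⟨y, hy, e⟩
    exact hψ₀ (Subtype.ext e ▸ hy)
  obtain ⟨u, hu1, hu0⟩ := SubspaceStab.exists_dot _ hψ₀'
  refine ⟨u, fun h => ?_, fun χ hχv hχu => ?_⟩
  · obtain ⟨d, rfl⟩ := Submodule.mem_span_singleton.1 h
    rw [smul_dotProduct, dotProduct_comm, show (ψ₀ : Fin n → F) ⬝ᵥ v = 0 from ψ₀.2,
      smul_zero] at hu1
    exact zero_ne_one hu1
  · refine (hWmem ⟨χ, hχv⟩).1 (hKW _ ?_)
    have hne : ψ₀ ≠ 0 := fun e => hψ₀ (e ▸ K.zero_mem)
    have hdisj : K ⊔ Submodule.span F {ψ₀} = ⊤ := by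
      have hlt3 : K < K ⊔ Submodule.span F {ψ₀} :=
        left_lt_sup.2 fun h => hψ₀ (h (Submodule.mem_span_singleton_self ψ₀))
      refine Submodule.eq_top_of_finrank_eq (le_antisymm (Submodule.finrank_le _) ?_)
      have := Submodule.finrank_lt_finrank_of_lt hlt3
      rw [finrank_perp hv]
      omega
    obtain ⟨a, ha, b, hb, hab⟩ :=
      Submodule.mem_sup.1 (hdisj ▸ Submodule.mem_top (x := (⟨χ, hχv⟩ : perp v)))
    obtain ⟨d, rfl⟩ := Submodule.mem_span_singleton.1 hb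
    have : d = 0 := by
      have e : (a : Fin n → F) + d • (ψ₀ : Fin n → F) = χ := congrArg Subtype.val hab
      rw [← e, add_dotProduct, smul_dotProduct, dotProduct_comm (a : Fin n → F) u,
        show u ⬝ᵥ (a : Fin n → F) = 0 from hu0 _ ⟨a, ha, rfl⟩, dotProduct_comm (ψ₀ : Fin n → F) u, hu1] at hχu
      simpa using hχu
    rw [← hab, this, zero_smul, add_zero]
    exact ha

end Cfsg.Agent.MinIndexTransvection
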