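import Mathlib
import Cfsg.Agent.Lib.MinIndexTransvection

/-!
Block embedding of `SL m` in `SL (m + 1)`, the abelian radical, transitivity on covectors and
elements realising transvections as commutators inside a character stabiliser.
-/

set_option autoImplicit false

namespace Cfsg.Agent.SLMinDegree32Base

open Matrix Cfsg.Agent.MinIndexTransvection
open scoped MatrixGroups

variable {F : Type*} [Field F] {m : ℕ}

theorem cons_dot_cons (x y : F) (v w : Fin m → F) :
    (Fin.cons x v : Fin (m + 1) → F) ⬝ᵥ Fin.cons y w = x * y + v ⬝ᵥ w := by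
  simp [dotProduct, Fin.sum_univ_succ]

/-- The first coordinate covector. -/
def e0 : Fin (m + 1) → F := Fin.cons 1 0

theorem e0_dot_cons (x : F) (w : Fin m → F) :
    (e0 : Fin (m + 1) → F) ⬝ᵥ Fin.cons x w = x := by
  rw [e0, cons_dot_cons, one_mul, zero_dotProduct, add_zero]

theorem e0_ne : (e0 : Fin (m + 1) → F) ≠ 0 := fun h =>
  one_ne_zero (α := F) (by simpa [e0] using congrFun h 0)

theorem eq_cons_tail_of_dot {a : Fin (m + 1) → F} (h : (e0 : Fin (m + 1) → F) ⬝ᵥ a = 0) :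
    a = Fin.cons 0 (Fin.tail a) := by
  rw [← Fin.cons_self_tail a, e0_dot_cons] at h
  conv_lhs => rw [← Fin.cons_self_tail a, h]

theorem cons_zero_zero : (Fin.cons 0 0 : Fin (m + 1) → F) = 0 := by
  funext i; refine Fin.cases ?_ (fun i => ?_) i <;> simp

/-- The abelian radical. -/
noncomputable def u (v : Fin m → F) : SL(m + 1, F) := tv (Fin.cons 0 v) e0

theorem u_dot (v : Fin m → F) : (e0 : Fin (m + 1) → F) ⬝ᵥ Fin.cons 0 v = 0 := e0_dot_cons 0 v

theorem u_mulVec (v : Fin m → F) (x : F) (w : Fin m → F) :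
    (u v).1 *ᵥ (Fin.cons x w : Fin (m + 1) → F) = Fin.cons x (w + x • v) := by
  rw [u, tv_apply (u_dot v), e0_dot_cons]
  funext i; refine Fin.cases ?_ (fun i => ?_) i <;> simp

theorem u_add (v w : Fin m → F) : u (v + w) = u v * u w := by
  rw [u, u, u, tv_mul' (u_dot v) (u_dot w)]
  congr 1
  funext i; refine Fin.cases ?_ (fun i => ?_) i <;> simp

theorem u_zero : u (0 : Fin m → F) = 1 := by
  refine ext_mulVec fun y => ?_
  rw [← Fin.cons_self_tail y, u_mulVec, one_smul_vec, smul_zero, add_zero]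

/-- Block diagonal matrices. -/
def blk (d : F) (A : Matrix (Fin m) (Fin m) F) : Matrix (Fin (m + 1)) (Fin (m + 1)) F :=
  Matrix.of (Fin.cons (Fin.cons d 0) (fun i => Fin.cons 0 (A i)))

theorem blk_mulVec (d : F) (A : Matrix (Fin m) (Fin m) F) (x : F) (v : Fin m → F) :
    blk d A *ᵥ (Fin.cons x v : Fin (m + 1) → F) = Fin.cons (d * x) (A *ᵥ v) := by
  funext i
  refine Fin.cases ?_ (fun i => ?_) i <;>
    simp [blk, Matrix.mulVec, dotProduct, Fin.sum_univ_succ]

theorem det_blk (d : F) (A : Matrix (Fin m) (Fin m) F) : (blk d A).det = d * A.det := by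
  rw [Matrix.det_succ_row_zero, Fin.sum_univ_succ]
  have h : (blk d A).submatrix Fin.succ (Fin.succAbove 0) = A := by
    ext i j; simp [blk]
  rw [h]
  simp [blk]

/-- A block diagonal element. -/
def lev (d : F) (A : Matrix (Fin m) (Fin m) F) (h : d * A.det = 1) : SL(m + 1, F) :=
  ⟨blk d A, by rw [det_blk, h]⟩

theorem lev_mulVec {d : F} {A : Matrix (Fin m) (Fin m) F} (h : d * A.det = 1) (x : F)
    (v : Fin m → F) :
    (lev d A h).1 *ᵥ (Fin.cons x v : Fin (m + 1) → F) = Fin.cons (d * x) (A *ᵥ v) :=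
  blk_mulVec d A x v

theorem lev_u {d : F} {A : Matrix (Fin m) (Fin m) F} (h : d * A.det = 1) (v : Fin m → F) :
    lev d A h * u v = u (d⁻¹ • (A *ᵥ v)) * lev d A h := by
  have hd : d ≠ 0 := left_ne_zero_of_mul (h.trans_ne one_ne_zero)
  refine ext_mulVec fun y => ?_
  rw [← Fin.cons_self_tail y, PSLSimple.mulVec_mul, PSLSimple.mulVec_mul, u_mulVec, lev_mulVec,
    lev_mulVec, u_mulVec, Matrix.mulVec_add, Matrix.mulVec_smul, smul_smul]
  congr 3
  field_simp

/-- The embedding of `SL m` as the Levi complement. -/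
def levi : SL(m, F) →* SL(m + 1, F) where
  toFun g := lev 1 g.1 (by rw [one_mul, g.2])
  map_one' := ext_mulVec fun y => by
    rw [← Fin.cons_self_tail y, lev_mulVec, one_mul, one_smul_vec, one_smul_vec]
  map_mul' g h := ext_mulVec fun y => by
    rw [← Fin.cons_self_tail y, PSLSimple.mulVec_mul, lev_mulVec, lev_mulVec, lev_mulVec,
      PSLSimple.mulVec_mul, one_mul, one_mul]

theorem levi_mulVec (g : SL(m, F)) (x : F) (v : Fin m → F) :
    (levi g).1 *ᵥ (Fin.cons x v : Fin (m + 1) → F) = Fin.cons x (g.1 *ᵥ v) := by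
  show blk 1 g.1 *ᵥ _ = _
  rw [blk_mulVec, one_mul]

theorem levi_u (g : SL(m, F)) (v : Fin m → F) : levi g * u v = u (g.1 *ᵥ v) * levi g := by
  have h := lev_u (d := 1) (A := g.1) (by rw [one_mul, g.2]) v
  rw [inv_one, one_smul] at h
  exact h

theorem levi_tv {a φ : Fin m → F} (h : φ ⬝ᵥ a = 0) :
    levi (tv a φ) = tv (Fin.cons 0 a) (Fin.cons 0 φ) := by
  refine ext_mulVec fun y => ?_
  have h' : (Fin.cons 0 φ : Fin (m + 1) → F) ⬝ᵥ Fin.cons 0 a = 0 := by
    rw [cons_dot_cons, h, mul_zero, add_zero]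
  rw [← Fin.cons_self_tail y, levi_mulVec, tv_apply h, tv_apply h', cons_dot_cons, zero_mul,
    zero_add]
  funext i; refine Fin.cases ?_ (fun i => ?_) i <;> simp [Fin.tail]

/-- Splitting a transvection with centre in the hyperplane. -/
theorem tv_eq_u_mul_levi {b ψ : Fin (m + 1) → F} (hb : (e0 : Fin (m + 1) → F) ⬝ᵥ b = 0)
    (h : ψ ⬝ᵥ b = 0) :
    Fin.tail ψ ⬝ᵥ Fin.tail b = 0 ∧
      tv b ψ = u (ψ 0 • Fin.tail b) * levi (tv (Fin.tail b) (Fin.tail ψ)) := by
  have hb' := eq_cons_tail_of_dot hb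
  have ht : Fin.tail ψ ⬝ᵥ Fin.tail b = 0 := by
    rw [hb', ← Fin.cons_self_tail ψ, cons_dot_cons, mul_zero, zero_add] at h
    exact h
  refine ⟨ht, ext_mulVec fun y => ?_⟩
  rw [PSLSimple.mulVec_mul, tv_apply h]
  conv_rhs => rw [← Fin.cons_self_tail y, levi_mulVec, u_mulVec, tv_apply ht]
  conv_lhs => rw [← Fin.cons_self_tail ψ, ← Fin.cons_self_tail y, cons_dot_cons, hb']
  funext i; refine Fin.cases ?_ (fun i => ?_) i <;> simp [Fin.tail]
  ring

/-- Transitivity of `SL` on nonzero covectors. -/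
theorem exists_map_row {n : ℕ} (hn : 2 ≤ n) {c c' : Fin n → F} (hc : c ≠ 0) (hc' : c' ≠ 0) :
    ∃ g : SL(n, F), c ᵥ* g.1 = c' := by
  have step : ∀ {a b : Fin n → F}, a ≠ 0 → b ∉ Submodule.span F {a} →
      ∃ g : SL(n, F), a ᵥ* g.1 = b := by
    intro a b ha hb
    have h1 : a ∉ Submodule.span F {b - a} := by
      refine notMem_span_symm ha fun h => hb ?_
      simpa using Submodule.add_mem _ h (Submodule.mem_span_singleton_self a)
    have h2 : b - a ∉ Submodule.span F {a} := fun h => hb (by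
      simpa using Submodule.add_mem _ h (Submodule.mem_span_singleton_self a))
    obtain ⟨w, hw1, hw2⟩ := exists_dot_pair h1 h2 1 0
    exact ⟨tv w (b - a), by rw [vecMul_tv hw2, hw1, one_smul, add_sub_cancel]⟩
  by_cases h : c' ∈ Submodule.span F {c}
  · obtain ⟨k, rfl⟩ := Submodule.mem_span_singleton.1 h
    obtain ⟨b, hb⟩ : ∃ b, b ∉ Submodule.span F {c} := by
      by_contra hall
      push Not at hall
      have h1 := finrank_span_singleton (K := F) hc
      rw [Submodule.eq_top_iff'.2 hall, finrank_top, Module.finrank_fin_fun] at h1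
      omega
    obtain ⟨g, hg⟩ := step hc hb
    obtain ⟨g', hg'⟩ := step (a := b) (b := k • c) (fun e => hb (e ▸ Submodule.zero_mem _))
      (notMem_span_symm hc' fun e => hb (by
        obtain ⟨d, rfl⟩ := Submodule.mem_span_singleton.1 e
        rw [smul_smul]
        exact Submodule.smul_mem _ _ (Submodule.mem_span_singleton_self c)))
    exact ⟨g * g', by rw [← vecMul_mul', hg, hg']⟩
  · exact step hc h

/-- Every transvection is conjugate to an element of the radical. -/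
theorem exists_conj_u (hm : 1 ≤ m) {a φ : Fin (m + 1) → F} (ha : a ≠ 0) (hφ : φ ≠ 0)
    (h : φ ⬝ᵥ a = 0) :
    ∃ (g : SL(m + 1, F)) (v : Fin m → F), v ≠ 0 ∧ g * tv a φ * g⁻¹ = u v := by
  obtain ⟨g, hg⟩ := exists_map_row (by omega) hφ (e0_ne (m := m))
  have hd : (e0 : Fin (m + 1) → F) ⬝ᵥ ((g⁻¹).1 *ᵥ a) = 0 := by
    rw [← hg, ← dotProduct_mulVec, ← PSLSimple.mulVec_mul, mul_inv_cancel, one_smul_vec, h]
  refine ⟨g⁻¹, Fin.tail ((g⁻¹).1 *ᵥ a), fun hv => ha ?_, ?_⟩
  · have h0 : (g⁻¹).1 *ᵥ a = 0 := by rw [eq_cons_tail_of_dot hd, hv, cons_zero_zero]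
    rw [← one_smul_vec a, ← mul_inv_cancel g, PSLSimple.mulVec_mul, h0, Matrix.mulVec_zero]
  · rw [conj_tv _ h, inv_inv, hg, u, ← eq_cons_tail_of_dot hd]

/-! ### Transvections as commutators inside a stabiliser -/

theorem exists_pow_ne_one_of_card [Fintype F] {k : ℕ} (hk : k ≠ 0)
    (h : k < Fintype.card F - 1) : ∃ μ : F, μ ≠ 0 ∧ μ ^ k ≠ 1 := by
  classical
  by_contra! hall
  have hsub : (Finset.univ.erase (0 : F)) ⊆ (Polynomial.nthRoots k (1 : F)).toFinset := fun x hx => by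
    rw [Multiset.mem_toFinset, Polynomial.mem_nthRoots (Nat.pos_of_ne_zero hk)]
    exact hall x (Finset.ne_of_mem_erase hx)
  have h1 := le_trans (Finset.card_le_card hsub) (Multiset.toFinset_card_le _)
  rw [Finset.card_erase_of_mem (Finset.mem_univ _), Finset.card_univ] at h1
  exact absurd (le_trans h1 (Polynomial.card_nthRoots k 1)) (by omega)

/-- A matrix scaling `a` by `l` and `φ` by `μ`. -/
theorem exists_scale {a φ b c : Fin m → F} (ha : a ≠ 0) (hφa : φ ⬝ᵥ a = 0) (hφb : φ ⬝ᵥ b = 1)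
    (hca : c ⬝ᵥ a = 0) (l μ : F) :
    ∃ A : Matrix (Fin m) (Fin m) F, A.det = l * μ ∧ c ᵥ* A = c + ((μ - 1) * (c ⬝ᵥ b)) • φ ∧
      A *ᵥ a = l • a ∧ φ ᵥ* A = μ • φ := by
  obtain ⟨θ, hθ, -⟩ := SubspaceStab.exists_dot (⊥ : Submodule F (Fin m → F)) (x := a)
    (by simpa using ha)
  refine ⟨(1 + vecMulVec ((l - 1) • a) θ) * (1 + vecMulVec ((μ - 1) • b) φ), ?_, ?_, ?_, ?_⟩
  · rw [Matrix.det_mul, vecMulVec_eq Unit, det_one_add_replicateCol_mul_replicateRow,
      vecMulVec_eq Unit, det_one_add_replicateCol_mul_replicateRow, dotProduct_smul,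
      dotProduct_smul, hθ, hφb, smul_eq_mul, smul_eq_mul]
    ring
  · have e : c ᵥ* (1 + vecMulVec ((l - 1) • a) θ) = c := by
      rw [vecMul_add, vecMul_one, vecMul_vecMulVec, dotProduct_smul, hca, smul_zero, zero_smul,
        add_zero]
    rw [← vecMul_vecMul, e, vecMul_add, vecMul_one, vecMul_vecMulVec, dotProduct_smul, smul_eq_mul]
  · rw [← mulVec_mulVec, add_mulVec, one_mulVec, add_mulVec, one_mulVec, vecMulVec_mulVec,
      op_smul_eq_smul, hφa, zero_smul, add_zero, vecMulVec_mulVec, op_smul_eq_smul, hθ, one_smul]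
    module
  · have e : φ ᵥ* (1 + vecMulVec ((l - 1) • a) θ) = φ := by
      rw [vecMul_add, vecMul_one, vecMul_vecMulVec, dotProduct_smul, hφa, smul_zero, zero_smul,
        add_zero]
    rw [← vecMul_vecMul, e, vecMul_add, vecMul_one, vecMul_vecMulVec, dotProduct_smul, hφb,
      smul_eq_mul, mul_one]
    module

theorem lev_tv {d : F} {A : Matrix (Fin m) (Fin m) F} (h : d * A.det = 1) {a φ : Fin m → F}
    (hφa : φ ⬝ᵥ a = 0) {l μ κ : F} (hA1 : A *ᵥ a = l • a) (hA2 : φ ᵥ* A = μ • φ)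
    (hκ : κ * μ = l) :
    lev d A h * levi (tv a φ) = levi (tv (κ • a) φ) * lev d A h := by
  have hφka : φ ⬝ᵥ (κ • a) = 0 := by rw [dotProduct_smul, hφa, smul_zero]
  refine ext_mulVec fun y => ?_
  rw [← Fin.cons_self_tail y, PSLSimple.mulVec_mul, PSLSimple.mulVec_mul, lev_mulVec,
    levi_mulVec, levi_mulVec, lev_mulVec, tv_apply hφa, tv_apply hφka, dotProduct_mulVec, hA2,
    Matrix.mulVec_add, Matrix.mulVec_smul, hA1, smul_dotProduct, smul_smul, smul_smul, ← hκ,
    smul_eq_mul]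
  congr 3
  ring

theorem tv_steinberg {a b φ θ : Fin m → F} (hφa : φ ⬝ᵥ a = 0) (hφb : φ ⬝ᵥ b = 0)
    (hθa : θ ⬝ᵥ a = 0) (hθb : θ ⬝ᵥ b = 1) :
    tv a θ * tv b φ = tv b φ * tv a φ * tv a θ := by
  refine ext_mulVec fun y => ?_
  rw [PSLSimple.mulVec_mul, PSLSimple.mulVec_mul, PSLSimple.mulVec_mul, tv_apply hφb,
    tv_apply hθa, tv_apply hθa, tv_apply hφa, tv_apply hφb]
  simp only [dotProduct_add, dotProduct_smul, hφa, hθb, smul_eq_mul, mul_zero, add_zero, mul_one]
  module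

theorem exists_or_exists_eq_smul {φ c : Fin m → F} (hφ : φ ≠ 0) :
    (∃ b, φ ⬝ᵥ b = 1 ∧ c ⬝ᵥ b = 0) ∨ ∃ k : F, c = k • φ := by
  by_cases h : φ ∈ Submodule.span F {c}
  · obtain ⟨k, hk⟩ := Submodule.mem_span_singleton.1 h
    have hk0 : k ≠ 0 := fun e => hφ (by rw [← hk, e, zero_smul])
    exact Or.inr ⟨k⁻¹, by rw [← hk, smul_smul, inv_mul_cancel₀ hk0, one_smul]⟩
  · obtain ⟨b, hb, hb'⟩ := SubspaceStab.exists_dot (Submodule.span F {c}) h
    refine Or.inl ⟨b, by rwa [dotProduct_comm], ?_⟩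
    rw [dotProduct_comm]
    exact hb' c (Submodule.mem_span_singleton_self c)

theorem three_or_of_dot {φ c a b : Fin m → F} (ha : a ≠ 0) (hc : c ≠ 0) (hφa : φ ⬝ᵥ a = 0)
    (hφb : φ ⬝ᵥ b = 1) (hca : c ⬝ᵥ a = 0) (hcb : c ⬝ᵥ b = 0) : 3 ≤ m := by
  by_contra hm
  have hφ : φ ∉ Submodule.span F {c} := fun h => by
    obtain ⟨k, rfl⟩ := Submodule.mem_span_singleton.1 h
    rw [smul_dotProduct, hcb, smul_zero] at hφb
    exact zero_ne_one hφb
  have hindep : LinearIndependent F ![c, φ] :=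
    (LinearIndependent.pair_iff' hc).2 fun k hk =>
      hφ (Submodule.mem_span_singleton.2 ⟨k, hk⟩)
  have hle : Submodule.span F (Set.range ![c, φ]) ≤ perp a := by
    rw [Submodule.span_le]
    rintro _ ⟨i, rfl⟩
    fin_cases i
    · exact hca
    · exact hφa
  have h2 := Submodule.finrank_mono hle
  rw [finrank_span_eq_card hindep, Fintype.card_fin, finrank_perp ha] at h2
  omega

theorem exists_aux {φ c a : Fin m → F} (ha : a ≠ 0)
    (h : 2 ≤ Module.finrank F (LinearMap.ker (pairMap φ c))) :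
    ∃ b θ, φ ⬝ᵥ b = 0 ∧ c ⬝ᵥ b = 0 ∧ θ ⬝ᵥ a = 0 ∧ θ ⬝ᵥ b = 1 := by
  obtain ⟨b, hb, hba⟩ : ∃ b ∈ LinearMap.ker (pairMap φ c), b ∉ Submodule.span F {a} := by
    by_contra! hall
    have := Submodule.finrank_mono (t := Submodule.span F {a}) hall
    rw [finrank_span_singleton ha] at this
    omega
  rw [LinearMap.mem_ker] at hb
  obtain ⟨θ, hθ, hθ'⟩ := SubspaceStab.exists_dot _ hba
  refine ⟨b, θ, ?_, ?_, hθ' a (Submodule.mem_span_singleton_self a), hθ⟩
  · rw [dotProduct_comm]; exact congrArg Prod.fst hb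
  · rw [dotProduct_comm]; exact congrArg Prod.snd hb

/-- A functional on `G` with multiplicative behaviour on the stabiliser kills transvections. -/
theorem transvection_trivial [Fintype F] {R : Type*} [CommGroup R]
    (S : Subgroup SL(m + 1, F)) (τ : S →* R) {c : Fin m → F} (hc : c ≠ 0)
    (hS : ∀ (d : F) (A : Matrix (Fin m) (Fin m) F) (h : d * A.det = 1),
      d⁻¹ • (c ᵥ* A) = c → lev d A h ∈ S)
    (hm : 2 ≤ m) (hex2 : m = 2 → Fintype.card F ≠ 2 ∧ Fintype.card F ≠ 4)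
    (hex3 : m = 3 → Fintype.card F ≠ 2 ∧ Fintype.card F ≠ 3)
    {a φ : Fin m → F} (ha : a ≠ 0) (hφ : φ ≠ 0) (hφa : φ ⬝ᵥ a = 0) (hca : c ⬝ᵥ a = 0) :
    ∃ hmem : levi (tv a φ) ∈ S, τ ⟨_, hmem⟩ = 1 := by
  classical
  have hlevS : ∀ g : SL(m, F), c ᵥ* g.1 = c → levi g ∈ S := fun g hg =>
    hS 1 g.1 (by rw [one_mul, g.2]) (by rw [inv_one, one_smul, hg])
  have hmem : ∀ x : F, levi (tv (x • a) φ) ∈ S := fun x => hlevS _ (by
    rw [vecMul_tv (by rw [dotProduct_smul, hφa, smul_zero]), dotProduct_smul, hca, smul_zero,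
      zero_smul, add_zero])
  have hmem1 : levi (tv a φ) ∈ S := by simpa using hmem 1
  refine ⟨hmem1, ?_⟩
  let t : F → R := fun x => τ ⟨_, hmem x⟩
  have hadd : ∀ x y, t (x + y) = t x * t y := fun x y => by
    show τ _ = τ _ * τ _
    rw [← map_mul]
    refine congrArg τ (Subtype.ext ?_)
    show levi (tv ((x + y) • a) φ) = levi (tv (x • a) φ) * levi (tv (y • a) φ)
    rw [← map_mul, tv_mul' (by rw [dotProduct_smul, hφa, smul_zero])
      (by rw [dotProduct_smul, hφa, smul_zero]), add_smul]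
  -- it suffices to scale the root group nontrivially
  have hscale : ∀ (d : F) (A : Matrix (Fin m) (Fin m) F) (h : d * A.det = 1) (κ μ : F),
      d⁻¹ • (c ᵥ* A) = c → A *ᵥ a = (κ * μ) • a → φ ᵥ* A = μ • φ → κ ≠ 1 →
      τ ⟨_, hmem1⟩ = 1 := by
    intro d A h κ μ hcA hAa hφA hκ
    set M : S := ⟨lev d A h, hS d A h hcA⟩
    have key : ∀ x, t (κ * x) = t x := fun x => by
      have e : M * ⟨_, hmem x⟩ = ⟨_, hmem (κ * x)⟩ * M := Subtype.ext (by
        show lev d A h * levi (tv (x • a) φ) = levi (tv ((κ * x) • a) φ) * lev d A h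
        rw [mul_smul]
        exact lev_tv h (by rw [dotProduct_smul, hφa, smul_zero])
          (by rw [Matrix.mulVec_smul, hAa, smul_comm]) hφA rfl)
      have h2 : τ M * t x = t (κ * x) * τ M := by
        have := congrArg τ e
        rwa [map_mul, map_mul] at this
      rw [mul_comm] at h2
      exact (mul_right_cancel h2).symm
    have h1 : t 1 = 1 := by
      set x : F := (κ - 1)⁻¹ with hx
      have hx1 : κ * x = x + 1 := by
        have : (κ - 1) * x = 1 := mul_inv_cancel₀ (sub_ne_zero.2 hκ)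
        linear_combination this
      have := key x
      rw [hx1, hadd] at this
      exact mul_eq_left.1 this
    have e1 : (⟨_, hmem1⟩ : S) = ⟨_, hmem 1⟩ := Subtype.ext (by
      show levi (tv a φ) = levi (tv ((1 : F) • a) φ)
      rw [one_smul])
    rw [e1]; exact h1
  -- commutators of root elements
  have hstein : 2 ≤ Module.finrank F (LinearMap.ker (pairMap φ c)) → τ ⟨_, hmem1⟩ = 1 := by
    intro h
    obtain ⟨b, θ, hφb, hcb, hθa, hθb⟩ := exists_aux ha h
    have h1 : levi (tv a θ) ∈ S := hlevS _ (by rw [vecMul_tv hθa, hca, zero_smul, add_zero])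
    have h2 : levi (tv b φ) ∈ S := hlevS _ (by rw [vecMul_tv hφb, hcb, zero_smul, add_zero])
    have e : (⟨_, h1⟩ : S) * ⟨_, h2⟩ = ⟨_, h2⟩ * ⟨_, hmem1⟩ * ⟨_, h1⟩ := Subtype.ext (by
      show levi (tv a θ) * levi (tv b φ) = levi (tv b φ) * levi (tv a φ) * levi (tv a θ)
      rw [← map_mul, ← map_mul, ← map_mul, tv_steinberg hφa hφb hθa hθb])
    have := congrArg τ e
    rw [map_mul, map_mul, map_mul, mul_comm, mul_right_comm] at this
    exact mul_eq_left.1 this.symm
  have hker : ∀ r : ℕ, Module.finrank F (LinearMap.range (pairMap φ c)) ≤ r →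
      r + 2 ≤ m → τ ⟨_, hmem1⟩ = 1 := by
    intro r hr hrm
    refine hstein ?_
    have := LinearMap.finrank_range_add_finrank_ker (pairMap φ c)
    rw [Module.finrank_fin_fun] at this
    omega
  have hF2 : 2 ≤ Fintype.card F := Fintype.one_lt_card
  rcases exists_or_exists_eq_smul (c := c) hφ with ⟨b, hφb, hcb⟩ | ⟨k, hk⟩
  · have hm3 := three_or_of_dot ha hc hφa hφb hca hcb
    by_cases hm4 : 4 ≤ m
    · refine hker 2 ?_ hm4
      refine le_trans (Submodule.finrank_le _) ?_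
      rw [Module.finrank_prod, Module.finrank_self]
    · have hq : 4 ≤ Fintype.card F := by
        have := hex3 (by omega)
        omega
      obtain ⟨l, hl0, hl⟩ := exists_pow_ne_one_of_card (F := F) (k := 2) two_ne_zero (by omega)
      obtain ⟨A, hdet, hcA, hAa, hφA⟩ := exists_scale ha hφa hφb hca l l⁻¹
      rw [hcb, mul_zero, zero_smul, add_zero] at hcA
      refine hscale 1 A (by rw [one_mul, hdet, mul_inv_cancel₀ hl0]) (l ^ 2) l⁻¹
        (by rw [inv_one, one_smul, hcA]) ?_ hφA hl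
      rw [hAa, sq, mul_assoc, mul_inv_cancel₀ hl0, mul_one]
  · by_cases hm3 : 3 ≤ m
    · refine hker 1 ?_ hm3
      have : LinearMap.range (pairMap φ c) ≤ Submodule.span F {((1 : F), k)} := by
        rintro _ ⟨y, rfl⟩
        refine Submodule.mem_span_singleton.2 ⟨y ⬝ᵥ φ, ?_⟩
        refine Prod.ext ?_ ?_
        · show (y ⬝ᵥ φ) * 1 = y ⬝ᵥ φ
          rw [mul_one]
        · show (y ⬝ᵥ φ) * k = y ⬝ᵥ c
          rw [hk, dotProduct_smul, smul_eq_mul, mul_comm]
      refine le_trans (Submodule.finrank_mono this) ?_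
      exact le_of_eq (finrank_span_singleton (fun e => one_ne_zero (congrArg Prod.fst e)))
    · have hq : 5 ≤ Fintype.card F ∨ Fintype.card F = 3 := by
        have := hex2 (by omega)
        omega
      obtain ⟨μ, hμ0, hμ⟩ : ∃ μ : F, μ ≠ 0 ∧ μ ^ 3 ≠ 1 := by
        rcases hq with hq | hq
        · exact exists_pow_ne_one_of_card three_ne_zero (by omega)
        · obtain ⟨μ, hμ0, hμ⟩ := exists_pow_ne_one_of_card (F := F) (k := 1) one_ne_zero (by omega)
          refine ⟨μ, hμ0, fun h3 => hμ ?_⟩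
          have h2 : μ ^ 2 = 1 := by
            have := FiniteField.pow_card_sub_one_eq_one μ hμ0
            rwa [hq] at this
          rw [pow_succ, h2, one_mul] at h3
          rw [pow_one, h3]
      obtain ⟨b, hφb⟩ : ∃ b, φ ⬝ᵥ b = 1 := by
        obtain ⟨b, hb, -⟩ := SubspaceStab.exists_dot (⊥ : Submodule F (Fin m → F)) (x := φ)
          (by simpa using hφ)
        exact ⟨b, by rwa [dotProduct_comm]⟩
      obtain ⟨A, hdet, -, hAa, hφA⟩ := exists_scale ha hφa hφb hca ((μ ^ 2)⁻¹) μ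
      refine hscale μ A ?_ ((μ ^ 3)⁻¹) μ ?_ ?_ hφA (fun e => hμ (inv_eq_one.1 e))
      · rw [hdet]; field_simp
      · rw [hk, smul_vecMul, hφA, smul_smul, smul_smul]
        congr 1
        field_simp
      · rw [hAa]
        congr 1
        field_simp

end Cfsg.Agent.SLMinDegree32Base
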