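import Mathlib

/-!
Eigenspaces of a finite abelian group of operators, indexed by its complex characters.
-/

set_option autoImplicit false

namespace Cfsg.Agent.SUMinDegree32Eigen

variable {A : Type*} [AddCommGroup A] {V : Type*} [AddCommGroup V] [Module ℂ V]

/-- The joint eigenspace of `D` for the character `ψ`. -/
def eig (D : A → Module.End ℂ V) (ψ : AddChar A ℂ) : Submodule ℂ V where
  carrier := {v | ∀ a, D a v = ψ a • v}
  add_mem' := fun hv hw a => by rw [map_add, hv a, hw a, smul_add]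
  zero_mem' := fun a => by rw [map_zero, smul_zero]
  smul_mem' := fun c v hv a => by rw [map_smul, hv a, smul_comm]

theorem mem_eig {D : A → Module.End ℂ V} {ψ : AddChar A ℂ} {v : V} :
    v ∈ eig D ψ ↔ ∀ a, D a v = ψ a • v := Iff.rfl

theorem mem_eig_zero {D : A → Module.End ℂ V} {v : V} :
    v ∈ eig D 0 ↔ ∀ a, D a v = v := by
  simp [mem_eig]

variable [Fintype A]

/-- The (unnormalised) projection on the `ψ`-eigenspace. -/
noncomputable def proj (D : A → Module.End ℂ V) (ψ : AddChar A ℂ) (v : V) : V :=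
  ∑ a, ψ (-a) • D a v

theorem proj_mem_of_inv {D : A → Module.End ℂ V} (U : Submodule ℂ V)
    (hU : ∀ a, ∀ v ∈ U, D a v ∈ U) (ψ : AddChar A ℂ) {v : V} (hv : v ∈ U) : proj D ψ v ∈ U :=
  U.sum_mem fun a _ => U.smul_mem _ (hU a v hv)

theorem proj_mem_eig {D : A → Module.End ℂ V} (hadd : ∀ a b, D (a + b) = D a * D b)
    (ψ : AddChar A ℂ) (v : V) : proj D ψ v ∈ eig D ψ := by
  intro b
  rw [proj, map_sum, Finset.smul_sum]
  refine Fintype.sum_equiv (Equiv.addLeft b) _ _ fun a => ?_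
  simp only [Equiv.coe_addLeft, map_smul, smul_smul, hadd, Module.End.mul_apply]
  congr 1
  rw [← AddChar.map_add_eq_mul]
  congr 1
  abel

theorem proj_of_mem {D : A → Module.End ℂ V} {φ : AddChar A ℂ} {v : V} (hv : v ∈ eig D φ)
    (ψ : AddChar A ℂ) [Decidable (ψ = φ)] :
    proj D ψ v = if ψ = φ then (Fintype.card A : ℂ) • v else 0 := by
  classical
  have h1 : proj D ψ v = (∑ a, (φ - ψ : AddChar A ℂ) a) • v := by
    rw [proj, Finset.sum_smul]
    refine Finset.sum_congr rfl fun a _ => ?_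
    rw [hv a, smul_smul, AddChar.sub_apply, mul_comm, AddChar.map_neg_eq_inv]
  rw [h1, AddChar.sum_eq_ite]
  by_cases h : ψ = φ
  · rw [if_pos h, if_pos (sub_eq_zero.2 h.symm)]
  · rw [if_neg h, if_neg (fun e => h (sub_eq_zero.1 e).symm), zero_smul]

theorem sum_proj {D : A → Module.End ℂ V} (h0 : D 0 = 1) (v : V) :
    ∑ ψ : AddChar A ℂ, proj D ψ v = (Fintype.card A : ℂ) • v := by
  classical
  simp only [proj]
  rw [Finset.sum_comm]
  simp only [← Finset.sum_smul]
  rw [Finset.sum_eq_single (0 : A)]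
  · rw [AddChar.sum_apply_eq_ite, if_pos (neg_zero), h0]
    rfl
  · intro a _ ha
    rw [AddChar.sum_apply_eq_ite, if_neg (by simpa using ha), zero_smul]
  · simp

/-- A nonzero invariant subspace contains an eigenvector. -/
theorem exists_eigen {D : A → Module.End ℂ V} (hadd : ∀ a b, D (a + b) = D a * D b) (h0 : D 0 = 1)
    (U : Submodule ℂ V) (hU : ∀ a, ∀ v ∈ U, D a v ∈ U) {v : V} (hv : v ∈ U) (hne : v ≠ 0) :
    ∃ ψ, ∃ w ∈ U, w ≠ 0 ∧ w ∈ eig D ψ := by
  obtain ⟨ψ, hψ⟩ : ∃ ψ, proj D ψ v ≠ 0 := by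
    by_contra! h
    have := sum_proj h0 v
    simp only [h, Finset.sum_const_zero] at this
    rcases smul_eq_zero.1 this.symm with h1 | h1
    · exact Fintype.card_ne_zero (Nat.cast_eq_zero.1 h1)
    · exact hne h1
  exact ⟨ψ, _, proj_mem_of_inv U hU ψ hv, hψ, proj_mem_eig hadd ψ v⟩

/-- A vector that is not fixed yields a nontrivial character. -/
theorem exists_eigen_nontrivial {D : A → Module.End ℂ V} (hadd : ∀ a b, D (a + b) = D a * D b)
    (h0 : D 0 = 1) (U : Submodule ℂ V) (hU : ∀ a, ∀ v ∈ U, D a v ∈ U) {v : V} (hv : v ∈ U)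
    {a : A} (hne : D a v ≠ v) : ∃ ψ, ψ ≠ 0 ∧ ∃ w ∈ U, w ≠ 0 ∧ w ∈ eig D ψ := by
  classical
  by_contra! hc
  have hz : ∀ ψ : AddChar A ℂ, ψ ≠ 0 → proj D ψ v = 0 := fun ψ hψ => by
    by_contra h
    exact hc ψ hψ _ (proj_mem_of_inv U hU ψ hv) h (proj_mem_eig hadd ψ v)
  have hs := sum_proj h0 v
  rw [Finset.sum_eq_single (0 : AddChar A ℂ) (fun ψ _ h => hz ψ h) (by simp)] at hs
  have hfix := mem_eig_zero.1 (proj_mem_eig hadd 0 v) a
  rw [hs, map_smul] at hfix
  exact hne (smul_right_injective V (Nat.cast_ne_zero.2 Fintype.card_ne_zero) hfix)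

/-- Eigenspaces for different characters are independent. -/
theorem sum_finrank_le [FiniteDimensional ℂ V] (D : A → Module.End ℂ V)
    (U : Submodule ℂ V) (s : Finset (AddChar A ℂ)) :
    ∑ ψ ∈ s, Module.finrank ℂ ↥(U ⊓ eig D ψ) ≤ Module.finrank ℂ ↥U := by
  classical
  let L : (∀ ψ : s, ↥(U ⊓ eig D ψ)) →ₗ[ℂ] ↥U :=
    ∑ ψ : s, (Submodule.inclusion inf_le_left).comp (LinearMap.proj ψ)
  have hL : ∀ x : ∀ ψ : s, ↥(U ⊓ eig D ψ), (L x : V) = ∑ ψ : s, (x ψ : V) := fun x => by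
    simp [L, LinearMap.sum_apply]
  have hinj : Function.Injective L := by
    rw [← LinearMap.ker_eq_bot, LinearMap.ker_eq_bot']
    intro x hx
    funext φ
    have hx' : ∑ ψ : s, (x ψ : V) = 0 := by rw [← hL, hx]; rfl
    have h1 : proj D (φ : AddChar A ℂ) (∑ ψ : s, (x ψ : V)) = (Fintype.card A : ℂ) • (x φ : V) := by
      have e : proj D (φ : AddChar A ℂ) (∑ ψ : s, (x ψ : V)) =
          ∑ ψ : s, proj D (φ : AddChar A ℂ) (x ψ : V) := by
        simp only [proj, map_sum, Finset.smul_sum]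
        rw [Finset.sum_comm]
      rw [e, Finset.sum_eq_single φ]
      · rw [proj_of_mem (x φ).2.2, if_pos rfl]
      · intro ψ _ hne
        rw [proj_of_mem (x ψ).2.2, if_neg (fun h => hne (Subtype.ext h).symm)]
      · simp
    rw [hx'] at h1
    have h2 : proj D (φ : AddChar A ℂ) (0 : V) = 0 := by simp [proj]
    rw [h2] at h1
    rcases smul_eq_zero.1 h1.symm with h3 | h3
    · exact absurd (Nat.cast_eq_zero.1 h3) Fintype.card_ne_zero
    · exact Subtype.ext h3
  have := LinearMap.finrank_le_finrank_of_injective hinj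
  rw [Module.finrank_pi_fintype] at this
  rw [← Finset.sum_coe_sort]
  exact this

end Cfsg.Agent.SUMinDegree32Eigen
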