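import Mathlib
import Cfsg.Agent.Lib.SUMinDegree32Eigen

/-!
Spectral projections of an abelian group of operators and the trace formula for operators
normalising it.
-/

set_option autoImplicit false

namespace Cfsg.Agent.SLMinDegree32Spec

open Cfsg.Agent.SUMinDegree32Eigen

variable {A : Type*} [AddCommGroup A] [Fintype A] {V : Type*} [AddCommGroup V] [Module ℂ V]

/-- The spectral projection. -/
noncomputable def P (D : A → Module.End ℂ V) (ψ : AddChar A ℂ) : Module.End ℂ V :=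
  (Fintype.card A : ℂ)⁻¹ • ∑ a, ψ (-a) • D a

theorem P_apply (D : A → Module.End ℂ V) (ψ : AddChar A ℂ) (v : V) :
    P D ψ v = (Fintype.card A : ℂ)⁻¹ • proj D ψ v := by
  simp [P, proj]

variable {D : A → Module.End ℂ V}

theorem card_ne : (Fintype.card A : ℂ) ≠ 0 := Nat.cast_ne_zero.2 Fintype.card_ne_zero

theorem P_of_mem {ψ : AddChar A ℂ} {v : V} (hv : v ∈ eig D ψ) : P D ψ v = v := by
  classical
  rw [P_apply, proj_of_mem hv, if_pos rfl, inv_smul_smul₀ card_ne]

theorem P_of_mem_ne {ψ φ : AddChar A ℂ} (h : ψ ≠ φ) {v : V} (hv : v ∈ eig D φ) :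
    P D ψ v = 0 := by
  classical
  rw [P_apply, proj_of_mem hv, if_neg h, smul_zero]

variable (hadd : ∀ a b, D (a + b) = D a * D b)

include hadd

theorem P_mem (ψ : AddChar A ℂ) (v : V) : P D ψ v ∈ eig D ψ := by
  rw [P_apply]; exact (eig D ψ).smul_mem _ (proj_mem_eig hadd ψ v)

theorem P_isProj (ψ : AddChar A ℂ) : LinearMap.IsProj (eig D ψ) (P D ψ) :=
  ⟨P_mem hadd ψ, fun _ hv => P_of_mem hv⟩

theorem P_mul_P (ψ : AddChar A ℂ) : P D ψ * P D ψ = P D ψ :=
  LinearMap.ext fun v => P_of_mem (P_mem hadd ψ v)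

theorem P_mul_P_of_ne {ψ φ : AddChar A ℂ} (h : ψ ≠ φ) : P D ψ * P D φ = 0 :=
  LinearMap.ext fun v => P_of_mem_ne h (P_mem hadd φ v)

theorem D_mul_P (a : A) (ψ : AddChar A ℂ) : D a * P D ψ = ψ a • P D ψ :=
  LinearMap.ext fun v => P_mem hadd ψ v a

theorem trace_P [FiniteDimensional ℂ V] (ψ : AddChar A ℂ) :
    LinearMap.trace ℂ V (P D ψ) = (Module.finrank ℂ (eig D ψ) : ℂ) :=
  (P_isProj hadd ψ).trace

omit hadd in
theorem sum_P (h0 : D 0 = 1) : ∑ ψ : AddChar A ℂ, P D ψ = 1 := by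
  refine LinearMap.ext fun v => ?_
  rw [LinearMap.sum_apply]
  simp only [P_apply]
  rw [← Finset.smul_sum, sum_proj h0, inv_smul_smul₀ card_ne, Module.End.one_apply]

theorem sum_D : ∑ a, D a = (Fintype.card A : ℂ) • P D 0 := by
  rw [P, smul_smul, mul_inv_cancel₀ card_ne, one_smul]
  simp

omit hadd in
/-- An operator normalising `D` permutes the projections. -/
theorem comm_P {G : Module.End ℂ V} (θ : A ≃+ A) (hG : ∀ a, G * D a = D (θ a) * G)
    (ψ : AddChar A ℂ) :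
    G * P D ψ = P D (ψ.compAddMonoidHom θ.symm.toAddMonoidHom) * G := by
  rw [P, P, mul_smul_comm, smul_mul_assoc, Finset.mul_sum, Finset.sum_mul]
  congr 1
  refine Fintype.sum_equiv θ.toEquiv _ _ fun a => ?_
  rw [mul_smul_comm, smul_mul_assoc, hG]
  simp

/-- The trace of a product with an operator normalising `D`, in spectral components. -/
theorem trace_D_mul [FiniteDimensional ℂ V] [DecidableEq (AddChar A ℂ)] (h0 : D 0 = 1)
    {G : Module.End ℂ V} (θ : A ≃+ A) (hG : ∀ a, G * D a = D (θ a) * G) (v : A) :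
    LinearMap.trace ℂ V (D v * G) = ∑ ψ : AddChar A ℂ,
      if ψ.compAddMonoidHom θ.symm.toAddMonoidHom = ψ
      then ψ v * LinearMap.trace ℂ V (G * P D ψ) else 0 := by
  conv_lhs => rw [← mul_one (D v * G), ← sum_P h0, Finset.mul_sum, map_sum]
  refine Finset.sum_congr rfl fun ψ _ => ?_
  rw [mul_assoc, comm_P θ hG ψ, ← mul_assoc, D_mul_P hadd, smul_mul_assoc, map_smul, smul_eq_mul]
  split_ifs with h
  · rw [← comm_P θ hG ψ, h]
  · refine mul_eq_zero_of_right _ ?_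
    rw [← comm_P θ hG ψ]
    conv_lhs => rw [← P_mul_P hadd ψ, ← mul_assoc, LinearMap.trace_mul_comm, comm_P θ hG ψ,
      ← mul_assoc, P_mul_P_of_ne hadd (Ne.symm h), zero_mul, map_zero]

omit hadd in
theorem trace_fix_mul_P [FiniteDimensional ℂ V] (hadd : ∀ a b, D (a + b) = D a * D b)
    {G : Module.End ℂ V} (ψ : AddChar A ℂ) (hfix : ∀ v ∈ eig D ψ, G v = v) :
    LinearMap.trace ℂ V (G * P D ψ) = (Module.finrank ℂ (eig D ψ) : ℂ) := by
  have e : G * P D ψ = P D ψ := LinearMap.ext fun v => hfix _ (P_mem hadd ψ v)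
  rw [e, trace_P hadd]

theorem trace_mul_P_zero [FiniteDimensional ℂ V] {G : Module.End ℂ V}
    (hG : ∀ v ∈ eig D 0, G v ∈ eig D 0) :
    LinearMap.trace ℂ V (G * P D 0) =
      LinearMap.trace ℂ (eig D 0) (G.restrict hG) := by
  let p : V →ₗ[ℂ] eig D 0 := (P D 0).codRestrict _ (P_mem hadd 0)
  have e1 : G * P D 0 = ((eig D 0).subtype ∘ₗ G.restrict hG) ∘ₗ p := LinearMap.ext fun v => rfl
  have e2 : p ∘ₗ ((eig D 0).subtype ∘ₗ G.restrict hG) = G.restrict hG :=
    LinearMap.ext fun v => Subtype.ext (P_of_mem (G.restrict hG v).2)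
  rw [e1, LinearMap.trace_comp_comm', e2]

theorem sum_trace_mul [FiniteDimensional ℂ V] {G : Module.End ℂ V}
    (hG : ∀ v ∈ eig D 0, G v ∈ eig D 0) :
    ∑ a, LinearMap.trace ℂ V (D a * G) =
      (Fintype.card A : ℂ) * LinearMap.trace ℂ (eig D 0) (G.restrict hG) := by
  rw [← map_sum, ← Finset.sum_mul, sum_D hadd, smul_mul_assoc, map_smul, smul_eq_mul,
    LinearMap.trace_mul_comm, trace_mul_P_zero hadd hG]

theorem sum_trace [FiniteDimensional ℂ V] :
    ∑ a, LinearMap.trace ℂ V (D a) = (Fintype.card A : ℂ) * (Module.finrank ℂ (eig D 0) : ℂ) := by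
  rw [← map_sum, sum_D hadd, map_smul, smul_eq_mul, trace_P hadd]

end Cfsg.Agent.SLMinDegree32Spec
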