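import Mathlib
import Cfsg.Agent.Lib.CharBasicInt
import Cfsg.Agent.Lib.SLMinDegree32Base
import Cfsg.Agent.Lib.SLMinDegree32Spec

/-!
Lower bound for the degree of nontrivial complex representations of `SL n q`, `n ≥ 3`.
-/

set_option autoImplicit false
set_option maxHeartbeats 800000

namespace Cfsg.Agent.SLMinDegree32

open Matrix Cfsg.Agent.MinIndexTransvection Cfsg.Agent.SUMinDegree32Eigen
open Cfsg.Agent.SLMinDegree32Base Cfsg.Agent.SLMinDegree32Spec
open scoped MatrixGroups

variable {F : Type*} [Field F] [Fintype F]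

/-! ### Characters -/

theorem exists_phi0 : ∃ (l : AddChar F ℂ) (a : F), l a ≠ 1 := by
  obtain ⟨l, hl⟩ := AddChar.exists_apply_ne_zero.2 (one_ne_zero : (1 : F) ≠ 0)
  exact ⟨l, _, hl⟩

/-- A fixed nontrivial additive character. -/
noncomputable def phi0 : AddChar F ℂ := exists_phi0.choose

theorem phi0_ne : ∃ a, (phi0 : AddChar F ℂ) a ≠ 1 := exists_phi0.choose_spec

/-- The character `v ↦ phi0 (c ⬝ v)`. -/
noncomputable def chi {m : ℕ} (c : Fin m → F) : AddChar (Fin m → F) ℂ where
  toFun v := phi0 (c ⬝ᵥ v)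
  map_zero_eq_one' := by rw [dotProduct_zero, AddChar.map_zero_eq_one]
  map_add_eq_mul' v w := by rw [dotProduct_add, AddChar.map_add_eq_mul]

theorem chi_apply {m : ℕ} (c v : Fin m → F) : chi c v = phi0 (c ⬝ᵥ v) := rfl

theorem chi_zero {m : ℕ} : chi (0 : Fin m → F) = 0 := by
  ext v; simp [chi_apply]

theorem chi_bijective {m : ℕ} : Function.Bijective (chi : (Fin m → F) → AddChar (Fin m → F) ℂ) := by
  classical
  rw [Fintype.bijective_iff_injective_and_card]
  refine ⟨fun c c' h => ?_, AddChar.card_eq.symm⟩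
  by_contra hne
  obtain ⟨j, hj⟩ := Function.ne_iff.1 hne
  obtain ⟨s, hs⟩ := phi0_ne (F := F)
  apply hs
  have h1 := DFunLike.congr_fun h (Pi.single j (s / (c j - c' j)))
  rw [chi_apply, chi_apply, dotProduct_single, dotProduct_single] at h1
  have e : c j * (s / (c j - c' j)) = c' j * (s / (c j - c' j)) + s := by
    have : c j - c' j ≠ 0 := sub_ne_zero.2 hj
    field_simp
    ring
  rw [e, AddChar.map_add_eq_mul] at h1
  exact mul_eq_left₀ (AddChar.val_isUnit _ _).ne_zero |>.1 h1

theorem chi_ne_zero {m : ℕ} {c : Fin m → F} (hc : c ≠ 0) : chi c ≠ 0 := fun h =>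
  hc (chi_bijective.1 (h.trans chi_zero.symm))

/-- Summing `chi c v` over a submodule of covectors. -/
theorem sum_chi {m : ℕ} (p : Submodule F (Fin m → F)) [DecidablePred (· ∈ p)] (v : Fin m → F) :
    ((∀ c ∈ p, c ⬝ᵥ v = 0) → ∑ c with c ∈ p, chi c v = (Fintype.card F : ℂ) ^ Module.finrank F p) ∧
      (¬ (∀ c ∈ p, c ⬝ᵥ v = 0) → ∑ c with c ∈ p, chi c v = 0) := by
  classical
  constructor
  · intro h
    rw [Finset.sum_congr rfl (g := fun _ => (1 : ℂ)) (fun c hc => by
      rw [chi_apply, h c (Finset.mem_filter.1 hc).2, AddChar.map_zero_eq_one]), Finset.sum_const,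
      nsmul_one, ← Fintype.card_subtype, Module.card_eq_pow_finrank (K := F) (V := p), Nat.cast_pow]
  · intro h
    push Not at h
    obtain ⟨c, hc, hcv⟩ := h
    obtain ⟨s, hs⟩ := phi0_ne (F := F)
    let ψ : AddChar p ℂ :=
      { toFun := fun c => chi (c : Fin m → F) v
        map_zero_eq_one' := by simp [chi_apply]
        map_add_eq_mul' := fun a b => by
          simp only [chi_apply, Submodule.coe_add, add_dotProduct, AddChar.map_add_eq_mul] }
    have hψ : ψ ≠ 0 := by
      refine AddChar.ne_zero_iff.2 ⟨⟨(s / (c ⬝ᵥ v)) • c, p.smul_mem _ hc⟩, ?_⟩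
      show chi ((s / (c ⬝ᵥ v)) • c) v ≠ 1
      rwa [chi_apply, smul_dotProduct, smul_eq_mul, div_mul_cancel₀ _ hcv]
    have h0 := AddChar.sum_eq_zero_of_ne_one (ψ := ψ) hψ
    rw [← h0]
    exact Finset.sum_subtype _ (fun x => by simp) fun c => chi c v

/-! ### The eigenspaces -/

variable {m : ℕ} {V : Type} [AddCommGroup V] [Module ℂ V]

/-- The operators of the radical. -/
noncomputable def Du (ρ : Representation ℂ SL(m + 1, F) V) : (Fin m → F) → Module.End ℂ V :=
  fun v => ρ (u v)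

variable (ρ : Representation ℂ SL(m + 1, F) V)

omit [Fintype F] in
theorem Du_add (a b : Fin m → F) : Du ρ (a + b) = Du ρ a * Du ρ b := by
  rw [Du, u_add, map_mul]; rfl

omit [Fintype F] in
theorem Du_zero : Du ρ 0 = 1 := by rw [Du, u_zero, map_one]

omit [Fintype F] in
theorem levi_Du (g : SL(m, F)) (a : Fin m → F) :
    ρ (levi g) * Du ρ a = Du ρ (g.1 *ᵥ a) * ρ (levi g) := by
  rw [Du, ← map_mul, levi_u, map_mul]
  rfl

omit [Fintype F] in
theorem rho_injective {n : ℕ} (ρ : Representation ℂ SL(n, F) V) (g : SL(n, F)) :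
    Function.Injective (ρ g) := fun x y h => by
  have h' := congrArg (ρ g⁻¹) h
  rwa [← Module.End.mul_apply, ← Module.End.mul_apply, ← map_mul, inv_mul_cancel, map_one] at h'

theorem levi_map_fix (g : SL(m, F)) : ∀ v ∈ eig (Du ρ) 0, ρ (levi g) v ∈ eig (Du ρ) 0 := by
  intro v hv
  rw [mem_eig_zero] at hv ⊢
  intro a
  have h := congrArg (fun T : Module.End ℂ V => T v) (levi_Du ρ g ((g⁻¹).1 *ᵥ a))
  simp only [Module.End.mul_apply, hv] at h
  rw [← PSLSimple.mulVec_mul, mul_inv_cancel, one_smul_vec] at h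
  exact h.symm

/-- The fixed space of the radical as a representation of the Levi complement. -/
noncomputable def fixRep : Representation ℂ SL(m, F) (eig (Du ρ) 0) where
  toFun g := (ρ (levi g)).restrict (levi_map_fix ρ g)
  map_one' := LinearMap.ext fun v => Subtype.ext (by
    show ρ (levi 1) (v : V) = v
    rw [map_one, map_one, Module.End.one_apply])
  map_mul' g h := LinearMap.ext fun v => Subtype.ext (by
    show ρ (levi (g * h)) (v : V) = ρ (levi g) (ρ (levi h) v)
    rw [map_mul, map_mul, Module.End.mul_apply])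

variable [FiniteDimensional ℂ V]

theorem finrank_eig_eq (hm : 2 ≤ m) {c c' : Fin m → F} (hc : c ≠ 0) (hc' : c' ≠ 0) :
    Module.finrank ℂ (eig (Du ρ) (chi c)) = Module.finrank ℂ (eig (Du ρ) (chi c')) := by
  suffices h : ∀ c c' : Fin m → F, c ≠ 0 → c' ≠ 0 →
      Module.finrank ℂ (eig (Du ρ) (chi c)) ≤ Module.finrank ℂ (eig (Du ρ) (chi c')) from
    le_antisymm (h c c' hc hc') (h c' c hc' hc)
  intro c c' hc hc'
  obtain ⟨g, hg⟩ := exists_map_row hm hc' hc
  have hmap : ∀ v ∈ eig (Du ρ) (chi c), ρ (levi g) v ∈ eig (Du ρ) (chi c') := by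
    intro v hv a
    have h := congrArg (fun T : Module.End ℂ V => T v) (levi_Du ρ g ((g⁻¹).1 *ᵥ a))
    simp only [Module.End.mul_apply, hv ((g⁻¹).1 *ᵥ a), map_smul] at h
    rw [← PSLSimple.mulVec_mul, mul_inv_cancel, one_smul_vec] at h
    rw [← h]
    congr 1
    rw [chi_apply, chi_apply, ← hg, ← dotProduct_mulVec, ← PSLSimple.mulVec_mul, mul_inv_cancel,
      one_smul_vec]
  exact LinearMap.finrank_le_finrank_of_injective (f := (ρ (levi g)).restrict hmap) fun _ _ e =>
    Subtype.ext (rho_injective ρ _ (congrArg Subtype.val e))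

/-- The trace formula on the coset of the radical of a Levi element. -/
theorem char_u_levi (hm : 2 ≤ m) {c₁ : Fin m → F} (hc₁ : c₁ ≠ 0) (g : SL(m, F))
    [DecidablePred fun c : Fin m → F => c ≠ 0 ∧ c ᵥ* g.1 = c]
    (hfix : ∀ c : Fin m → F, c ≠ 0 → c ᵥ* g.1 = c →
      ∀ v ∈ eig (Du ρ) (chi c), ρ (levi g) v = v) (v : Fin m → F) :
    ρ.character (u v * levi g) = (fixRep ρ).character g +
      (Module.finrank ℂ (eig (Du ρ) (chi c₁)) : ℂ) *
        ∑ c with c ≠ 0 ∧ c ᵥ* g.1 = c, chi c v := by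
  classical
  let θ : (Fin m → F) ≃+ (Fin m → F) :=
    { toFun := fun a => g.1 *ᵥ a
      invFun := fun a => (g⁻¹).1 *ᵥ a
      left_inv := fun a => by
        show (g⁻¹).1 *ᵥ (g.1 *ᵥ a) = a
        rw [← PSLSimple.mulVec_mul, inv_mul_cancel, one_smul_vec]
      right_inv := fun a => by
        show g.1 *ᵥ ((g⁻¹).1 *ᵥ a) = a
        rw [← PSLSimple.mulVec_mul, mul_inv_cancel, one_smul_vec]
      map_add' := Matrix.mulVec_add _ }
  have hG : ∀ a, ρ (levi g) * Du ρ a = Du ρ (θ a) * ρ (levi g) := levi_Du ρ g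
  show LinearMap.trace ℂ V (ρ (u v * levi g)) = _
  rw [map_mul]
  show LinearMap.trace ℂ V (Du ρ v * ρ (levi g)) = _
  rw [trace_D_mul (Du_add ρ) (Du_zero ρ) θ hG v, ← (Equiv.ofBijective _ chi_bijective).sum_comp,
    ← Finset.add_sum_erase _ _ (Finset.mem_univ (0 : Fin m → F))]
  congr 1
  · simp only [Equiv.ofBijective_apply, chi_zero]
    rw [if_pos (by ext a; simp), AddChar.zero_apply, one_mul,
      trace_mul_P_zero (Du_add ρ) (levi_map_fix ρ g)]
    rfl
  · rw [Finset.mul_sum, Finset.sum_filter, ← Finset.add_sum_erase _ _ (Finset.mem_univ (0 : Fin m → F)),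
      if_neg (fun h => h.1 rfl), zero_add]
    refine Finset.sum_congr rfl fun c hc => ?_
    have hc0 := Finset.ne_of_mem_erase hc
    simp only [Equiv.ofBijective_apply]
    have hiff : (chi c).compAddMonoidHom θ.symm.toAddMonoidHom = chi c ↔ c ᵥ* g.1 = c := by
      have e : (chi c).compAddMonoidHom θ.symm.toAddMonoidHom = chi (c ᵥ* (g⁻¹).1) := by
        ext a
        show phi0 (c ⬝ᵥ ((g⁻¹).1 *ᵥ a)) = phi0 ((c ᵥ* (g⁻¹).1) ⬝ᵥ a)
        rw [dotProduct_mulVec]
      rw [e, chi_bijective.1.eq_iff]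
      constructor
      · intro h
        conv_lhs => rw [← h, vecMul_mul', inv_mul_cancel, vecMul_one']
      · intro h
        conv_lhs => rw [← h, vecMul_mul', mul_inv_cancel, vecMul_one']
    by_cases h : c ᵥ* g.1 = c
    · rw [if_pos (hiff.2 h), if_pos ⟨hc0, h⟩, trace_fix_mul_P (Du_add ρ) _ (hfix c hc0 h),
        finrank_eig_eq ρ hm hc0 hc₁, mul_comm]
    · rw [if_neg (fun e => h (hiff.1 e)), if_neg (fun e => h e.2)]

theorem vecMul_tv_iff {n : ℕ} {a φ : Fin n → F} (hφ : φ ≠ 0) (h : φ ⬝ᵥ a = 0) (c : Fin n → F) :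
    c ᵥ* (tv a φ).1 = c ↔ c ∈ perp a := by
  rw [vecMul_tv h, add_eq_left, smul_eq_zero]
  exact ⟨fun e => e.resolve_right hφ, fun e => Or.inl e⟩

theorem sum_erase_zero {n : ℕ} [DecidableEq F] (p : Submodule F (Fin n → F)) [DecidablePred (· ∈ p)]
    (v : Fin n → F) :
    (∑ c with c ≠ 0 ∧ c ∈ p, chi c v) = (∑ c with c ∈ p, chi c v) - 1 := by
  have h0 : (0 : Fin n → F) ∈ Finset.univ.filter (fun c => c ∈ p) := by simp
  rw [← Finset.add_sum_erase _ _ h0, chi_apply (0 : Fin n → F), zero_dotProduct,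
    AddChar.map_zero_eq_one, add_sub_cancel_left]
  refine Finset.sum_congr ?_ fun _ _ => rfl
  ext c
  simp [and_comm]

/-- Values at elements of the radical and the dimension count. -/
theorem char_u (hm : 2 ≤ m) {c₁ : Fin m → F} (hc₁ : c₁ ≠ 0) :
    (∀ v : Fin m → F, v ≠ 0 → ρ.character (u v) =
      (Module.finrank ℂ (eig (Du ρ) 0) : ℂ) - Module.finrank ℂ (eig (Du ρ) (chi c₁))) ∧
    (Module.finrank ℂ V : ℂ) = Module.finrank ℂ (eig (Du ρ) 0) +
      (Module.finrank ℂ (eig (Du ρ) (chi c₁)) : ℂ) * ((Fintype.card F : ℂ) ^ m - 1) := by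
  classical
  have key : ∀ v : Fin m → F, ρ.character (u v) = (Module.finrank ℂ (eig (Du ρ) 0) : ℂ) +
      (Module.finrank ℂ (eig (Du ρ) (chi c₁)) : ℂ) *
        ((∑ c with c ∈ (⊤ : Submodule F (Fin m → F)), chi c v) - 1) := by
    intro v
    have h := char_u_levi ρ hm hc₁ 1 (fun c _ _ x _ => by rw [map_one, map_one]; rfl) v
    rw [map_one, mul_one, Representation.char_one] at h
    rw [h, ← sum_erase_zero]
    congr 2
    refine Finset.sum_congr ?_ fun _ _ => rfl
    ext c
    simp [vecMul_one']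
  refine ⟨fun v hv => ?_, ?_⟩
  · rw [key, (sum_chi (⊤ : Submodule F (Fin m → F)) v).2]
    · ring
    · intro h
      obtain ⟨j, hj⟩ := Function.ne_iff.1 hv
      exact hj (by simpa using h (Pi.single j 1) Submodule.mem_top)
  · have h := key 0
    rw [u_zero, Representation.char_one,
      (sum_chi (⊤ : Submodule F (Fin m → F)) 0).1 (fun c _ => dotProduct_zero c), finrank_top,
      Module.finrank_fin_fun] at h
    exact h

theorem char_conj_eq {n : ℕ} (ρ : Representation ℂ SL(n, F) V) {g x y : SL(n, F)}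
    (h : g * x * g⁻¹ = y) : ρ.character x = ρ.character y := by
  rw [← h, Representation.char_conj]

theorem char_tv (hm : 2 ≤ m) {c₁ : Fin m → F} (hc₁ : c₁ ≠ 0) {a φ : Fin (m + 1) → F} (ha : a ≠ 0)
    (hφ : φ ≠ 0) (h : φ ⬝ᵥ a = 0) :
    ρ.character (tv a φ) =
      (Module.finrank ℂ (eig (Du ρ) 0) : ℂ) - Module.finrank ℂ (eig (Du ρ) (chi c₁)) := by
  obtain ⟨g, v, hv, hg⟩ := exists_conj_u (by omega) ha hφ h
  rw [char_conj_eq ρ hg, (char_u ρ hm hc₁).1 v hv]

/-- The side conditions making transvections commutators in character stabilisers. -/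
def Ok (n q : ℕ) : Prop := (n = 3 → q ≠ 2 ∧ q ≠ 4) ∧ (n = 4 → q ≠ 2 ∧ q ≠ 3)

/-- Transvections act trivially on one-dimensional eigenspaces. -/
theorem levi_fix (hm : 2 ≤ m) (hok : Ok (m + 1) (Fintype.card F)) {c : Fin m → F} (hc : c ≠ 0)
    (hd : Module.finrank ℂ (eig (Du ρ) (chi c)) = 1) {a φ : Fin m → F} (ha : a ≠ 0) (hφ : φ ≠ 0)
    (hφa : φ ⬝ᵥ a = 0) (hca : c ⬝ᵥ a = 0) :
    ∀ v ∈ eig (Du ρ) (chi c), ρ (levi (tv a φ)) v = v := by
  classical
  let S : Subgroup SL(m + 1, F) :=
    { carrier := {g | ∀ v, v ∈ eig (Du ρ) (chi c) ↔ ρ g v ∈ eig (Du ρ) (chi c)}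
      one_mem' := fun v => by rw [map_one, Module.End.one_apply]
      mul_mem' := fun {g h} hg hh v => by
        rw [map_mul, Module.End.mul_apply]
        exact (hh v).trans (hg _)
      inv_mem' := fun {g} hg v => by
        have e : ρ g (ρ g⁻¹ v) = v := by
          rw [← Module.End.mul_apply, ← map_mul, mul_inv_cancel, map_one, Module.End.one_apply]
        have := hg (ρ g⁻¹ v)
        rw [e] at this
        exact this.symm }
  let r : S →* Module.End ℂ (eig (Du ρ) (chi c)) :=
    { toFun := fun g => (ρ (g : SL(m + 1, F))).restrict fun v hv => (g.2 v).1 hv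
      map_one' := LinearMap.ext fun v => Subtype.ext (by simp)
      map_mul' := fun g h => LinearMap.ext fun v => Subtype.ext (by simp) }
  obtain ⟨hmem, hτ⟩ := transvection_trivial S
    ((LinearMap.det (M := eig (Du ρ) (chi c))).comp r).toHomUnits hc
    (fun d A h hdA => by
      intro v
      have hd0 : d ≠ 0 := left_ne_zero_of_mul (h.trans_ne one_ne_zero)
      have hA : IsUnit A.det := (right_ne_zero_of_mul (h.trans_ne one_ne_zero)).isUnit
      have hconj : ∀ w, ρ (lev d A h) (Du ρ w v) = Du ρ (d⁻¹ • (A *ᵥ w)) (ρ (lev d A h) v) :=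
        fun w => by
          rw [Du, ← Module.End.mul_apply, ← map_mul, lev_u, map_mul]
          rfl
      have hchi : ∀ w, chi c (d⁻¹ • (A *ᵥ w)) = chi c w := fun w => by
        rw [chi_apply, chi_apply, dotProduct_smul, dotProduct_mulVec, ← smul_dotProduct, hdA]
      constructor
      · intro hv w
        obtain ⟨w', rfl⟩ : ∃ w', w = d⁻¹ • (A *ᵥ w') := ⟨d • (A⁻¹ *ᵥ w), by
          rw [Matrix.mulVec_smul, smul_smul, inv_mul_cancel₀ hd0, one_smul, mulVec_mulVec,
            Matrix.mul_nonsing_inv A hA, one_mulVec]⟩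
        rw [← hconj, hv w', map_smul, hchi]
      · intro hv w
        refine rho_injective ρ (lev d A h) ?_
        rw [hconj, hv, hchi, map_smul])
    hm (fun h => hok.1 (by omega)) (fun h => hok.2 (by omega)) ha hφ hφa hca
  intro v hv
  have h1 : LinearMap.det (r ⟨_, hmem⟩) = 1 := congrArg Units.val hτ
  obtain ⟨w, hw0, hw⟩ := finrank_eq_one_iff'.1 hd
  obtain ⟨k, hk⟩ := hw (r ⟨_, hmem⟩ w)
  have hr : r ⟨_, hmem⟩ = k • LinearMap.id := LinearMap.ext fun x => by
    obtain ⟨l, rfl⟩ := hw x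
    rw [map_smul, ← hk, LinearMap.smul_apply, LinearMap.id_apply, smul_comm]
  rw [hr, LinearMap.det_smul, hd, pow_one, LinearMap.det_id, mul_one] at h1
  have := congrArg (fun T : Module.End ℂ (eig (Du ρ) (chi c)) => ((T ⟨v, hv⟩) : V)) hr
  rw [h1, one_smul] at this
  exact this

/-- Values of the representation on the coset of a Levi transvection. -/
theorem char_u_levi_tv (hm : 2 ≤ m) (hok : Ok (m + 1) (Fintype.card F)) {c₁ : Fin m → F}
    (hc₁ : c₁ ≠ 0) (hd : Module.finrank ℂ (eig (Du ρ) (chi c₁)) = 1)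
    {a φ : Fin m → F} (ha : a ≠ 0) (hφ : φ ≠ 0) (hφa : φ ⬝ᵥ a = 0) (v : Fin m → F) :
    (v ∈ Submodule.span F {a} → ρ.character (u v * levi (tv a φ)) =
      (fixRep ρ).character (tv a φ) + (Fintype.card F : ℂ) ^ (m - 1) - 1) ∧
    (v ∉ Submodule.span F {a} → ρ.character (u v * levi (tv a φ)) =
      (fixRep ρ).character (tv a φ) - 1) := by
  classical
  have h : ρ.character (u v * levi (tv a φ)) = (fixRep ρ).character (tv a φ) +
      ((∑ c with c ∈ perp a, chi c v) - 1) := by
    rw [char_u_levi ρ hm hc₁ _ (fun c hc hca => levi_fix ρ hm hok hc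
      (by rw [finrank_eig_eq ρ hm hc hc₁, hd]) ha hφ hφa ((vecMul_tv_iff hφ hφa c).1 hca)) v, hd,
      Nat.cast_one, one_mul, ← sum_erase_zero]
    congr 1
    refine Finset.sum_congr ?_ fun _ _ => rfl
    ext c
    simp [vecMul_tv_iff hφ hφa]
  constructor
  · intro hv
    rw [h, (sum_chi (perp a) v).1 (fun c hc => by
      obtain ⟨r, rfl⟩ := Submodule.mem_span_singleton.1 hv
      rw [dotProduct_smul, show c ⬝ᵥ a = 0 from hc, smul_zero]), finrank_perp ha]
    ring
  · intro hv
    rw [h, (sum_chi (perp a) v).2 (fun hall => by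
      obtain ⟨c, hc, hc'⟩ := SubspaceStab.exists_dot _ hv
      rw [hall c (hc' a (Submodule.mem_span_singleton_self a))] at hc
      exact zero_ne_one hc)]
    ring

/-- The dimension of the fixed space of the radical from the value on transvections. -/
theorem fix_count (hm : 1 ≤ m) (C : ℂ)
    (hC : ∀ a φ : Fin (m + 1) → F, a ≠ 0 → φ ≠ 0 → φ ⬝ᵥ a = 0 → ρ.character (tv a φ) = C) :
    (Fintype.card F : ℂ) ^ m * Module.finrank ℂ (eig (Du ρ) 0) =
      Module.finrank ℂ V + ((Fintype.card F : ℂ) ^ m - 1) * C := by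
  classical
  have h := sum_trace (Du_add ρ) (V := V)
  rw [Fintype.card_fun, Fintype.card_fin, Nat.cast_pow] at h
  rw [← h, ← Finset.add_sum_erase _ _ (Finset.mem_univ (0 : Fin m → F)), Du_zero, LinearMap.trace_one,
    Finset.sum_congr rfl (g := fun _ => C) (fun v hv => ?_), Finset.sum_const,
    Finset.card_erase_of_mem (Finset.mem_univ _), Finset.card_univ, Fintype.card_fun,
    Fintype.card_fin, nsmul_eq_mul, Nat.cast_sub (Nat.one_le_pow _ _ Fintype.card_pos),
    Nat.cast_pow, Nat.cast_one]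
  show ρ.character (tv (Fin.cons 0 v) e0) = C
  refine hC _ _ (fun e => Finset.ne_of_mem_erase hv ?_) e0_ne (u_dot v)
  funext i
  simpa using congrFun e i.succ

theorem eq_one_of_u (hm : 1 ≤ m) (h : ∀ v, ρ (u v) = 1) (g : SL(m + 1, F)) : ρ g = 1 := by
  haveI : Nontrivial (Fin (m + 1)) := Fin.nontrivial_iff_two_le.2 (by omega)
  have htop : MonoidHom.ker ρ = ⊤ := eq_top_of_tv_mem _ fun a φ hφa => by
    by_cases ha : a = 0
    · have : tv a φ = (1 : SL(m + 1, F)) := ext_mulVec fun y => by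
        rw [tv_apply hφa, ha, smul_zero, add_zero, one_smul_vec]
      rw [this]; exact map_one ρ
    by_cases hφ : φ = 0
    · rw [hφ, tv_zero_right]; exact map_one ρ
    obtain ⟨x, v, -, hx⟩ := exists_conj_u hm ha hφ hφa
    show ρ (tv a φ) = 1
    rw [show tv a φ = x⁻¹ * u v * x by rw [← hx]; group, map_mul, map_mul, h, mul_one, ← map_mul,
      inv_mul_cancel, map_one]
  exact htop.ge (Subgroup.mem_top g)

theorem fin_one_ne {k : ℕ} : (Pi.single 0 1 : Fin (k + 1) → F) ≠ 0 := fun h =>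
  one_ne_zero (α := F) (by simpa using congrFun h 0)

/-- A nontrivial representation is large, or its structure is rigid. -/
theorem dichotomy {k : ℕ} {V : Type} [AddCommGroup V] [Module ℂ V] [FiniteDimensional ℂ V]
    (ρ : Representation ℂ SL(k + 2, F) V) (hk : 1 ≤ k) (hok : Ok (k + 2) (Fintype.card F))
    (hnt : ∃ g, ρ g ≠ 1) :
    2 * (Fintype.card F ^ (k + 1) - 1) ≤ Module.finrank ℂ V ∨
    (Module.finrank ℂ (eig (Du ρ) (chi (Pi.single 0 1 : Fin (k + 1) → F))) = 1 ∧
      Module.finrank ℂ V + 1 = Module.finrank ℂ (eig (Du ρ) 0) + Fintype.card F ^ (k + 1) ∧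
      (∀ a φ : Fin (k + 2) → F, a ≠ 0 → φ ≠ 0 → φ ⬝ᵥ a = 0 →
        ρ.character (tv a φ) = (Module.finrank ℂ (eig (Du ρ) 0) : ℂ) - 1) ∧
      (∀ a φ : Fin (k + 1) → F, a ≠ 0 → φ ≠ 0 → φ ⬝ᵥ a = 0 →
        (fixRep ρ).character (tv a φ) =
          (Module.finrank ℂ (eig (Du ρ) 0) : ℂ) - (Fintype.card F : ℂ) ^ k)) := by
  classical
  set q := Fintype.card F with hq
  set c₁ : Fin (k + 1) → F := Pi.single 0 1 with hc
  have hc₁ : c₁ ≠ 0 := fin_one_ne
  have hm : 2 ≤ k + 1 := by omega
  set d := Module.finrank ℂ (eig (Du ρ) (chi c₁)) with hd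
  set f := Module.finrank ℂ (eig (Du ρ) 0) with hf
  obtain ⟨-, hN⟩ := char_u ρ hm hc₁
  have h1q : 1 ≤ q ^ (k + 1) := Nat.one_le_pow _ _ Fintype.card_pos
  have hN' : Module.finrank ℂ V = f + d * (q ^ (k + 1) - 1) := by
    have : ((Module.finrank ℂ V : ℕ) : ℂ) = ((f + d * (q ^ (k + 1) - 1) : ℕ) : ℂ) := by
      rw [hN]; push_cast [h1q]; rfl
    exact_mod_cast this
  rcases Nat.lt_or_ge d 1 with hd0 | hd1
  · exfalso
    obtain ⟨g, hg⟩ := hnt
    have hV : eig (Du ρ) 0 = ⊤ := by
      refine Submodule.eq_top_of_finrank_eq ?_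
      rw [hN', show d = 0 by omega, zero_mul, add_zero]
    refine hg (eq_one_of_u ρ (by omega) (fun v => LinearMap.ext fun x => ?_) g)
    exact mem_eig_zero.1 (hV.ge Submodule.mem_top : x ∈ eig (Du ρ) 0) v
  rcases Nat.lt_or_ge d 2 with hd2 | hd2
  · right
    have hd1' : d = 1 := by omega
    rw [hd1', one_mul] at hN'
    refine ⟨hd1', by omega, fun a φ ha hφ h => ?_, fun a φ ha hφ h => ?_⟩
    · rw [char_tv ρ hm hc₁ ha hφ h, ← hd, hd1', Nat.cast_one]
    · have h0 := (char_u_levi_tv ρ hm hok hc₁ hd1' ha hφ h 0).1 (Submodule.zero_mem _)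
      rw [u_zero, one_mul, levi_tv h] at h0
      have ha' : (Fin.cons 0 a : Fin (k + 2) → F) ≠ 0 := fun e =>
        ha (funext fun i => by simpa using congrFun e i.succ)
      have hφ' : (Fin.cons 0 φ : Fin (k + 2) → F) ≠ 0 := fun e =>
        hφ (funext fun i => by simpa using congrFun e i.succ)
      rw [char_tv ρ hm hc₁ ha' hφ' (by rw [cons_dot_cons, h, mul_zero, add_zero]), ← hd, hd1',
        Nat.cast_one, Nat.add_sub_cancel] at h0
      linear_combination -h0
  · left
    rw [hN']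
    exact le_trans (Nat.mul_le_mul_right _ hd2) (Nat.le_add_left _ _)

/-- If transvections have value `dim - q ^ m` then the fixed space has codimension `q ^ m - 1`. -/
theorem finrank_fix {m : ℕ} {V : Type} [AddCommGroup V] [Module ℂ V] [FiniteDimensional ℂ V]
    (ρ : Representation ℂ SL(m + 1, F) V) (hm : 1 ≤ m)
    (hC : ∀ a φ : Fin (m + 1) → F, a ≠ 0 → φ ≠ 0 → φ ⬝ᵥ a = 0 →
      ρ.character (tv a φ) = (Module.finrank ℂ V : ℂ) - (Fintype.card F : ℂ) ^ m) :
    Module.finrank ℂ (eig (Du ρ) 0) + Fintype.card F ^ m = Module.finrank ℂ V + 1 := by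
  have h := fix_count ρ hm _ hC
  set q := Fintype.card F
  have hne : (q : ℂ) ^ m ≠ 0 := pow_ne_zero _ (Nat.cast_ne_zero.2 Fintype.card_ne_zero)
  have h1 : (q : ℂ) ^ m * ((Module.finrank ℂ (eig (Du ρ) 0) : ℂ) + (q : ℂ) ^ m)
      = (q : ℂ) ^ m * ((Module.finrank ℂ V : ℂ) + 1) := by linear_combination h
  exact_mod_cast mul_left_cancel₀ hne h1

/-- Counting covectors killed by two independent vectors. -/
theorem finrank_ker_pairMap {n : ℕ} {a b : Fin n → F} (ha : a ∉ Submodule.span F {b})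
    (hb : b ∉ Submodule.span F {a}) :
    Module.finrank F (LinearMap.ker (pairMap a b)) + 2 = n := by
  have hs : Function.Surjective (pairMap a b) := fun p => by
    obtain ⟨w, h1, h2⟩ := exists_dot_pair ha hb p.1 p.2
    exact ⟨w, Prod.ext (show w ⬝ᵥ a = p.1 by rw [dotProduct_comm, h1])
      (show w ⬝ᵥ b = p.2 by rw [dotProduct_comm, h2])⟩
  have := LinearMap.finrank_range_add_finrank_ker (pairMap a b)
  rw [LinearMap.range_eq_top.2 hs, finrank_top, Module.finrank_prod, Module.finrank_self,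
    Module.finrank_fin_fun] at this
  omega

/-- The fixed space is bounded below by two levels of the recursion. -/
theorem fix_lower_two {l : ℕ} {V : Type} [AddCommGroup V] [Module ℂ V] [FiniteDimensional ℂ V]
    (ρ : Representation ℂ SL(l + 3, F) V) (hl : 1 ≤ l) (hok : Ok (l + 3) (Fintype.card F))
    (hd : Module.finrank ℂ (eig (Du ρ) (chi (Pi.single 0 1 : Fin (l + 2) → F))) = 1)
    (hW : ∀ a φ : Fin (l + 2) → F, a ≠ 0 → φ ≠ 0 → φ ⬝ᵥ a = 0 →
      (fixRep ρ).character (tv a φ) =
        (Module.finrank ℂ (eig (Du ρ) 0) : ℂ) - (Fintype.card F : ℂ) ^ (l + 1)) :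
    Fintype.card F ^ (l + 1) + Fintype.card F ^ l ≤ Module.finrank ℂ (eig (Du ρ) 0) + 2 := by
  classical
  set q := Fintype.card F with hq
  set σ := fixRep ρ with hσ
  set f := Module.finrank ℂ (eig (Du ρ) 0) with hf
  have hc₁ : (Pi.single 0 1 : Fin (l + 2) → F) ≠ 0 := fin_one_ne
  have hm : 2 ≤ l + 2 := by omega
  set f0 := Module.finrank ℂ (eig (Du σ) 0) with hf0
  have hf0' : f0 + q ^ (l + 1) = f + 1 := finrank_fix σ (by omega) hW
  -- transvections on the second fixed space
  have hσ0 : ∀ a φ : Fin (l + 1) → F, a ≠ 0 → φ ≠ 0 → φ ⬝ᵥ a = 0 →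
      (fixRep σ).character (tv a φ) = (f0 : ℂ) - (q : ℂ) ^ l := by
    intro a φ ha hφ hφa
    have key : ∀ v : Fin (l + 1) → F, σ.character (u v * levi (tv a φ)) =
        if v ∈ Submodule.span F {a} then (f : ℂ) - (q : ℂ) ^ (l + 1)
        else (f : ℂ) - (q : ℂ) ^ (l + 1) - (q : ℂ) ^ l := by
      intro v
      set A : Fin (l + 2) → F := Fin.cons 0 a with hA
      set Φ : Fin (l + 2) → F := Fin.cons 0 φ with hΦ
      have hA0 : A ≠ 0 := fun e => ha (funext fun i => by simpa [hA] using congrFun e i.succ)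
      have hΦA : Φ ⬝ᵥ A = 0 := by rw [hA, hΦ, cons_dot_cons, hφa, mul_zero, add_zero]
      split_ifs with hv
      · obtain ⟨r, rfl⟩ := Submodule.mem_span_singleton.1 hv
        set Ψ : Fin (l + 2) → F := Fin.cons r φ with hΨ
        have hΨA : Ψ ⬝ᵥ A = 0 := by rw [hA, hΨ, cons_dot_cons, hφa, mul_zero, add_zero]
        have hΨ0 : Ψ ≠ 0 := fun e => hφ (funext fun i => by simpa [hΨ] using congrFun e i.succ)
        obtain ⟨-, hsplit⟩ := tv_eq_u_mul_levi (e0_dot_cons 0 a) hΨA
        simp only [hΨ, hA, Fin.tail_cons, Fin.cons_zero] at hsplit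
        rw [← hsplit]
        exact hW _ _ hA0 hΨ0 hΨA
      · set A1 : Fin (l + 2) → F := Fin.cons 0 v with hA1
        set g : SL(l + 2, F) := tv A1 e0 * tv A Φ with hg
        have hgu : u v * levi (tv a φ) = g := by rw [hg, levi_tv hφa]; rfl
        rw [hgu]
        have hA1A : A1 ∉ Submodule.span F {A} := fun h => by
          obtain ⟨r, hr⟩ := Submodule.mem_span_singleton.1 h
          exact hv (Submodule.mem_span_singleton.2 ⟨r, funext fun i => by
            simpa [hA, hA1] using congrFun hr i.succ⟩)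
        have hAA1 : A ∉ Submodule.span F {A1} := notMem_span_symm hA0 hA1A
        -- the fixed covectors
        have hfix_iff : ∀ c : Fin (l + 2) → F,
            c ᵥ* g.1 = c ↔ c ∈ LinearMap.ker (pairMap A1 A) := by
          intro c
          rw [hg, ← vecMul_mul', vecMul_tv (u_dot v), vecMul_tv hΦA, add_dotProduct, smul_dotProduct,
            show (e0 : Fin (l + 2) → F) ⬝ᵥ A = 0 from e0_dot_cons 0 a, smul_zero, add_zero,
            LinearMap.mem_ker]
          constructor
          · intro h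
            have h0 := congrFun h 0
            have e1 : c ⬝ᵥ A1 = 0 := by simpa [hΦ, e0] using h0
            refine Prod.ext e1 ?_
            rw [e1, zero_smul, add_zero, add_eq_left, smul_eq_zero] at h
            exact h.resolve_right fun e => hφ (funext fun i => by
              simpa [hΦ] using congrFun e i.succ)
          · intro h
            rw [show c ⬝ᵥ A1 = 0 from congrArg Prod.fst h, show c ⬝ᵥ A = 0 from congrArg Prod.snd h,
              zero_smul, zero_smul, add_zero, add_zero]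
        have hfixv : ∀ c : Fin (l + 2) → F, c ≠ 0 → c ᵥ* g.1 = c →
            ∀ x ∈ eig (Du ρ) (chi c), ρ (levi g) x = x := by
          intro c hc hcg x hx
          have hk := (hfix_iff c).1 hcg
          rw [LinearMap.mem_ker] at hk
          have hdc : Module.finrank ℂ (eig (Du ρ) (chi c)) = 1 := by
            rw [finrank_eig_eq ρ hm hc hc₁, hd]
          have hA10 : A1 ≠ 0 := fun e => hA1A (e ▸ Submodule.zero_mem _)
          rw [hg, map_mul, map_mul, Module.End.mul_apply,
            levi_fix ρ hm hok hc hdc hA0 (fun e => hφ (funext fun i => by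
              simpa [hΦ] using congrFun e i.succ)) hΦA (congrArg Prod.snd hk) x hx,
            levi_fix ρ hm hok hc hdc hA10 e0_ne (u_dot v) (congrArg Prod.fst hk) x hx]
        have hV : ρ.character (levi g) = σ.character g + ((q : ℂ) ^ l - 1) := by
          have h := char_u_levi ρ hm hc₁ g hfixv 0
          rw [u_zero, one_mul] at h
          rw [h, hd, Nat.cast_one, one_mul]
          have hfr : Module.finrank F (LinearMap.ker (pairMap A1 A)) = l := by
            have := finrank_ker_pairMap hA1A hAA1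
            omega
          have hs := sum_erase_zero (LinearMap.ker (pairMap A1 A)) (0 : Fin (l + 2) → F)
          rw [(sum_chi (LinearMap.ker (pairMap A1 A)) 0).1 (fun c _ => dotProduct_zero c), hfr] at hs
          rw [← hs]
          congr 1
          refine Finset.sum_congr ?_ fun _ _ => rfl
          ext c
          simp only [Finset.mem_filter, hfix_iff]
        -- the conjugate on the first level
        set B1 : Fin (l + 3) → F := Fin.cons 0 A1 with hB1
        set B : Fin (l + 3) → F := Fin.cons 0 A with hB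
        set P1 : Fin (l + 3) → F := Fin.cons 0 e0 with hP1
        set P : Fin (l + 3) → F := Fin.cons 0 Φ with hP
        have hP10 : P1 ≠ 0 := fun e => e0_ne (funext fun i => by
          simpa [hP1] using congrFun e i.succ)
        obtain ⟨x, hx⟩ := exists_map_row (n := l + 3) (by omega) hP10 (e0_ne (m := l + 2))
        have hd1 : P1 ⬝ᵥ B1 = 0 := by
          rw [hP1, hB1, cons_dot_cons, show (e0 : Fin (l + 2) → F) ⬝ᵥ A1 = 0 from u_dot v,
            mul_zero, add_zero]
        have hd2 : P ⬝ᵥ B = 0 := by rw [hP, hB, cons_dot_cons, hΦA, mul_zero, add_zero]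
        have hd12 : P1 ⬝ᵥ B = 0 := by
          rw [hP1, hB, cons_dot_cons, show (e0 : Fin (l + 2) → F) ⬝ᵥ A = 0 from e0_dot_cons 0 a,
            mul_zero, add_zero]
        set b1 : Fin (l + 3) → F := (x⁻¹).1 *ᵥ B1 with hb1
        set b : Fin (l + 3) → F := (x⁻¹).1 *ᵥ B with hb
        set ψ : Fin (l + 3) → F := P ᵥ* x.1 with hψ
        have hpair : ∀ y z : Fin (l + 3) → F, (y ᵥ* x.1) ⬝ᵥ ((x⁻¹).1 *ᵥ z) = y ⬝ᵥ z := fun y z => by
          rw [← dotProduct_mulVec, ← PSLSimple.mulVec_mul, mul_inv_cancel, one_smul_vec]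
        have he1 : (e0 : Fin (l + 3) → F) ⬝ᵥ b1 = 0 := by rw [hb1, ← hx, hpair, hd1]
        have he2 : (e0 : Fin (l + 3) → F) ⬝ᵥ b = 0 := by rw [hb, ← hx, hpair, hd12]
        have hψb : ψ ⬝ᵥ b = 0 := by rw [hψ, hb, hpair, hd2]
        obtain ⟨htail, hsplit⟩ := tv_eq_u_mul_levi he2 hψb
        have hconj : x⁻¹ * levi g * (x⁻¹)⁻¹ =
            u (Fin.tail b1 + ψ 0 • Fin.tail b) * levi (tv (Fin.tail b) (Fin.tail ψ)) := by
          have e : x⁻¹ * (tv B1 P1 * tv B P) * (x⁻¹)⁻¹ =
              (x⁻¹ * tv B1 P1 * (x⁻¹)⁻¹) * (x⁻¹ * tv B P * (x⁻¹)⁻¹) := by group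
          rw [hg, map_mul, levi_tv (u_dot v), levi_tv hΦA, e, conj_tv _ hd1, conj_tv _ hd2,
            inv_inv, hx, ← hb1, ← hb, ← hψ, hsplit, ← mul_assoc, u_add]
          congr 2
          rw [u]
          conv_lhs => rw [eq_cons_tail_of_dot he1]
        have hinj : ∀ z, (x⁻¹).1 *ᵥ z = 0 → z = 0 := fun z hz => by
          rw [← one_smul_vec z, ← mul_inv_cancel x, PSLSimple.mulVec_mul, hz, Matrix.mulVec_zero]
        have htb0 : Fin.tail b ≠ 0 := fun e => by
          have h0 : b = 0 := by rw [eq_cons_tail_of_dot he2, e, SLMinDegree32Base.cons_zero_zero]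
          exact hA0 (funext fun i => by
            simpa [hB] using congrFun (hinj B h0) i.succ)
        have htψ0 : Fin.tail ψ ≠ 0 := fun e => by
          have h0 : ψ = ψ 0 • (e0 : Fin (l + 3) → F) := by
            conv_lhs => rw [← Fin.cons_self_tail ψ, e]
            funext i; refine Fin.cases ?_ (fun i => ?_) i <;> simp [e0]
          rw [← hx, ← smul_vecMul] at h0
          have h1 : P = ψ 0 • P1 := by
            have := congrArg (fun y => y ᵥ* (x⁻¹).1) h0
            beta_reduce at this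
            have e : ψ ᵥ* (x⁻¹).1 = P := by rw [hψ, vecMul_mul', mul_inv_cancel, vecMul_one']
            rw [e, vecMul_mul', mul_inv_cancel, vecMul_one'] at this
            exact this
          refine hφ (funext fun i => ?_)
          simpa [hP, hP1, hΦ, e0] using congrFun h1 i.succ.succ
        have hnot : Fin.tail b1 + ψ 0 • Fin.tail b ∉ Submodule.span F {Fin.tail b} := by
          intro h
          have h' : Fin.tail b1 ∈ Submodule.span F {Fin.tail b} := by
            simpa using Submodule.sub_mem _ h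
              (Submodule.smul_mem _ (ψ 0) (Submodule.mem_span_singleton_self (Fin.tail b)))
          obtain ⟨r, hr⟩ := Submodule.mem_span_singleton.1 h'
          have h0 : b1 = r • b := by
            rw [eq_cons_tail_of_dot he1, eq_cons_tail_of_dot he2, ← hr]
            funext i; refine Fin.cases ?_ (fun i => ?_) i <;> simp
          have h1 : B1 - r • B = 0 := hinj _ (by
            rw [Matrix.mulVec_sub, Matrix.mulVec_smul, ← hb1, ← hb, h0, sub_self])
          refine hA1A (Submodule.mem_span_singleton.2 ⟨r, funext fun i => ?_⟩)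
          have := congrFun (sub_eq_zero.1 h1) i.succ
          simp [hB1, hB] at this
          simp [this]
        have hlev := char_conj_eq ρ hconj
        rw [(char_u_levi_tv ρ hm hok hc₁ hd htb0 htψ0 htail _).2 hnot, hW _ _ htb0 htψ0 htail, hV]
          at hlev
        linear_combination hlev
    have hsum := sum_trace_mul (Du_add σ) (levi_map_fix σ (tv a φ))
    rw [Fintype.card_fun, Fintype.card_fin, Nat.cast_pow] at hsum
    change _ = (q : ℂ) ^ (l + 1) * (fixRep σ).character (tv a φ) at hsum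
    have hlhs : ∀ v : Fin (l + 1) → F,
        LinearMap.trace ℂ _ (Du σ v * σ (levi (tv a φ))) = σ.character (u v * levi (tv a φ)) :=
      fun v => by rw [Representation.character, MonoidHom.map_mul]; rfl
    rw [Finset.sum_congr rfl (fun v _ => (hlhs v).trans (key v)), Finset.sum_ite, Finset.sum_const,
      Finset.sum_const, nsmul_eq_mul, nsmul_eq_mul] at hsum
    have hspan : (Finset.univ.filter fun v : Fin (l + 1) → F => v ∈ Submodule.span F {a}).card = q := by
      rw [← Fintype.card_subtype, Module.card_eq_pow_finrank (K := F) (V := Submodule.span F {a}),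
        finrank_span_singleton ha, pow_one]
    have hnspan : ((Finset.univ.filter fun v : Fin (l + 1) → F => v ∉ Submodule.span F {a}).card : ℂ) =
        (q : ℂ) ^ (l + 1) - q := by
      have h := Finset.card_filter_add_card_filter_not
        (s := (Finset.univ : Finset (Fin (l + 1) → F))) (fun v => v ∈ Submodule.span F {a})
      rw [hspan, Finset.card_univ, Fintype.card_fun, Fintype.card_fin] at h
      have h' : (q : ℂ) + ((Finset.univ.filter fun v : Fin (l + 1) → F => v ∉ Submodule.span F {a}).card : ℂ) =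
          (q : ℂ) ^ (l + 1) := by exact_mod_cast h
      linear_combination h'
    rw [hspan, hnspan] at hsum
    have hne : (q : ℂ) ^ (l + 1) ≠ 0 := pow_ne_zero _ (Nat.cast_ne_zero.2 Fintype.card_ne_zero)
    have h0 : (f0 : ℂ) + (q : ℂ) ^ (l + 1) = (f : ℂ) + 1 := by exact_mod_cast hf0'
    refine mul_left_cancel₀ hne (hsum.symm.trans ?_)
    rw [pow_succ]
    rw [pow_succ] at h0
    linear_combination (-(q : ℂ) ^ l * q) * h0
  have := finrank_fix (fixRep σ) hl hσ0
  simp only [← hq] at this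
  change _ = f0 + 1 at this
  omega

/-! ### Divisibility -/

/-- The transvections. -/
noncomputable def transvections (n : ℕ) (F : Type*) [Field F] [Fintype F] [DecidableEq F]
    [DecidableEq SL(n, F)] : Finset SL(n, F) :=
  (Finset.univ.filter fun p : (Fin n → F) × (Fin n → F) =>
    p.1 ≠ 0 ∧ p.2 ≠ 0 ∧ p.2 ⬝ᵥ p.1 = 0).image fun p => tv p.1 p.2

theorem tv_eq_tv {n : ℕ} {a φ a' φ' : Fin n → F} (ha : a ≠ 0) (hφ' : φ' ≠ 0) (h : φ ⬝ᵥ a = 0)
    (h' : φ' ⬝ᵥ a' = 0) (e : tv a φ = tv a' φ') :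
    ∃ r : F, a' = r • a ∧ φ = r • φ' := by
  have e' : vecMulVec a φ = vecMulVec a' φ' := by
    have := congrArg Subtype.val e
    rw [coe_tv h, coe_tv h'] at this
    exact add_left_cancel this
  obtain ⟨j, hj⟩ := Function.ne_iff.1 hφ'
  obtain ⟨i, hi⟩ := Function.ne_iff.1 ha
  simp only [Pi.zero_apply] at hi hj
  have hij : ∀ i j, a i * φ j = a' i * φ' j := fun i j => congrFun (congrFun e' i) j
  refine ⟨φ j / φ' j, funext fun k => ?_, funext fun k => ?_⟩
  · simp only [Pi.smul_apply, smul_eq_mul]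
    field_simp
    linear_combination -hij k j
  · simp only [Pi.smul_apply, smul_eq_mul]
    field_simp
    refine mul_left_cancel₀ hi ?_
    linear_combination φ' j * hij i k - φ' k * hij i j

theorem card_transvections (n : ℕ) [DecidableEq F] [DecidableEq SL(n + 1, F)] :
    (transvections (n + 1) F).card * (Fintype.card F - 1) =
      (Fintype.card F ^ (n + 1) - 1) * (Fintype.card F ^ n - 1) := by
  classical
  set q := Fintype.card F with hq
  set s := Finset.univ.filter fun p : (Fin (n + 1) → F) × (Fin (n + 1) → F) =>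
    p.1 ≠ 0 ∧ p.2 ≠ 0 ∧ p.2 ⬝ᵥ p.1 = 0 with hs
  have hmem : ∀ p, p ∈ s ↔ p.1 ≠ 0 ∧ p.2 ≠ 0 ∧ p.2 ⬝ᵥ p.1 = 0 := fun p => by simp [hs]
  have hfib : ∀ g ∈ transvections (n + 1) F,
      (s.filter fun p => tv p.1 p.2 = g).card = q - 1 := by
    intro g hg
    obtain ⟨⟨a, φ⟩, hp, rfl⟩ := Finset.mem_image.1 hg
    obtain ⟨ha, hφ, h⟩ := (hmem _).1 hp
    simp only at ha hφ h
    have e : (s.filter fun p => tv p.1 p.2 = tv a φ) =
        ((Finset.univ.erase (0 : F)).image fun r => (r • a, r⁻¹ • φ)) := by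
      ext p
      simp only [Finset.mem_filter, hmem, Finset.mem_image, Finset.mem_erase, Finset.mem_univ,
        and_true]
      constructor
      · rintro ⟨⟨h1, h2, h3⟩, h4⟩
        obtain ⟨r, hr1, hr2⟩ := tv_eq_tv ha h2 h h3 h4.symm
        have hr : r ≠ 0 := fun e => h1 (by rw [hr1, e, zero_smul])
        exact ⟨r, hr, Prod.ext hr1.symm (by rw [hr2, smul_smul, inv_mul_cancel₀ hr, one_smul])⟩
      · rintro ⟨r, hr, rfl⟩
        refine ⟨⟨smul_ne_zero hr ha, smul_ne_zero (inv_ne_zero hr) hφ,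
          by rw [smul_dotProduct, dotProduct_smul, h, smul_zero, smul_zero]⟩, ?_⟩
        rw [tv_smul r (by rw [smul_dotProduct, h, smul_zero]), smul_smul, mul_inv_cancel₀ hr,
          one_smul]
    rw [e, Finset.card_image_of_injective _ (fun r r' hrr => smul_left_injective F ha
      (congrArg Prod.fst hrr)), Finset.card_erase_of_mem (Finset.mem_univ _), Finset.card_univ]
  have h1 : s.card = (transvections (n + 1) F).card * (q - 1) := by
    have hmaps : ∀ p : (Fin (n + 1) → F) × (Fin (n + 1) → F), p ∈ s →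
        tv p.1 p.2 ∈ transvections (n + 1) F := fun p hp => by
      rw [transvections]
      refine Finset.mem_image.2 ⟨p, ?_, rfl⟩
      simpa only [Finset.mem_filter, Finset.mem_univ, true_and] using (hmem p).1 hp
    rw [Finset.card_eq_sum_card_fiberwise (f := fun p : (Fin (n + 1) → F) × (Fin (n + 1) → F) =>
      tv p.1 p.2) (t := transvections (n + 1) F) hmaps, Finset.sum_congr rfl hfib, Finset.sum_const,
      smul_eq_mul]
  rw [← h1]
  have h2 : s.card = ∑ a ∈ (Finset.univ : Finset (Fin (n + 1) → F)).erase 0,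
      Finset.card ((((Finset.univ : Finset (Fin (n + 1) → F)).filter fun φ => φ ∈ perp a)).erase 0) := by
    rw [← Finset.card_sigma]
    refine Finset.card_nbij' (fun p => ⟨p.1, p.2⟩) (fun p => (p.1, p.2)) ?_ ?_ ?_ ?_
    · intro p hp
      obtain ⟨h1, h2, h3⟩ := (hmem p).1 hp
      simp [h1, h2]
      exact h3
    · rintro ⟨a, φ⟩ hp
      simp only [Finset.coe_sigma, Set.mem_sigma_iff, Finset.mem_coe, Finset.mem_erase,
        Finset.mem_univ, and_true, Finset.mem_filter, true_and] at hp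
      exact (hmem _).2 ⟨hp.1, hp.2.1, hp.2.2⟩
    · intro p _; rfl
    · intro p _; rfl
  rw [h2, Finset.sum_congr rfl (g := fun _ => q ^ n - 1) (fun a ha => ?_), Finset.sum_const,
    Finset.card_erase_of_mem (Finset.mem_univ _), Finset.card_univ, Fintype.card_fun,
    Fintype.card_fin, smul_eq_mul]
  rw [Finset.card_erase_of_mem (by simp), ← Fintype.card_subtype, Module.card_eq_pow_finrank (K := F)
    (V := perp a), finrank_perp (Finset.ne_of_mem_erase ha), Nat.add_sub_cancel]

theorem dvd_transvections {n : ℕ} [DecidableEq F] [DecidableEq SL(n, F)] {V : Type}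
    [AddCommGroup V] [Module ℂ V] [FiniteDimensional ℂ V]
    (ρ : Representation ℂ SL(n, F) V) [ρ.IsIrreducible] (C : ℕ)
    (hC : ∀ a φ : Fin n → F, a ≠ 0 → φ ≠ 0 → φ ⬝ᵥ a = 0 → ρ.character (tv a φ) = (C : ℂ)) :
    Module.finrank ℂ V ∣ (transvections n F).card * C := by
  classical
  set T := transvections n F with hT
  have hmemT : ∀ g, g ∈ T ↔ ∃ a φ : Fin n → F, (a ≠ 0 ∧ φ ≠ 0 ∧ φ ⬝ᵥ a = 0) ∧ tv a φ = g :=
    fun g => by simp [hT, transvections]
  have hconj : ∀ x g, g ∈ T → x * g * x⁻¹ ∈ T := by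
    intro x g hg
    obtain ⟨a, φ, ⟨ha, hφ, h⟩, rfl⟩ := (hmemT g).1 hg
    refine (hmemT _).2 ⟨_, _, ⟨fun e => ha ?_, fun e => hφ ?_, ?_⟩, (conj_tv x h).symm⟩
    · rw [← one_smul_vec a, ← inv_mul_cancel x, PSLSimple.mulVec_mul, e, Matrix.mulVec_zero]
    · rw [← vecMul_one' φ, ← inv_mul_cancel x, ← vecMul_mul', e, Matrix.zero_vecMul]
    · rw [← dotProduct_mulVec, ← PSLSimple.mulVec_mul, inv_mul_cancel, one_smul_vec, h]
  have hf : Cfsg.IsClassFunction SL(n, F) (fun g => if g ∈ T then (1 : ℂ) else 0) := fun g x => by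
    refine if_congr ⟨fun h => ?_, hconj x g⟩ rfl rfl
    have := hconj x⁻¹ _ h
    simpa [mul_assoc] using this
  have h := CharBasicInt.isIntegral_sum_mul_div ρ hf fun g => by
    split_ifs
    · exact isIntegral_one
    · exact isIntegral_zero
  simp only [ite_mul, one_mul, zero_mul, Finset.sum_ite_mem, Finset.univ_inter] at h
  rw [Finset.sum_congr rfl (g := fun _ => (C : ℂ)) (fun g hg => ?_), Finset.sum_const, nsmul_eq_mul,
    ← Nat.cast_mul] at h
  · exact CharBasicInt.dvd_of_isIntegral_div (CharBasic.finrank_pos_of_irreducible ρ).ne' h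
  · obtain ⟨a, φ, ⟨ha, hφ, h⟩, rfl⟩ := (hmemT g).1 hg
    exact hC a φ ha hφ h

/-! ### The bound -/

/-- The geometric sum `1 + q + ⋯ + q ^ (n-1)`. -/
def geom (q n : ℕ) : ℕ := ∑ i ∈ Finset.range n, q ^ i

theorem geom_succ (q n : ℕ) : geom q (n + 1) = geom q n + q ^ n := Finset.sum_range_succ _ _

theorem geom_succ' (q n : ℕ) : geom q (n + 1) = q * geom q n + 1 := by
  rw [geom, geom, Finset.sum_range_succ', Finset.mul_sum]
  simp [pow_succ, mul_comm]

theorem geom_mul {q : ℕ} (hq : 1 ≤ q) : ∀ n : ℕ, geom q n * (q - 1) = q ^ n - 1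
  | 0 => by simp [geom]
  | n + 1 => by
    rw [geom_succ, add_mul, geom_mul hq n, Nat.mul_sub, mul_one, ← pow_succ]
    have := Nat.one_le_pow n q hq
    have := Nat.pow_le_pow_right hq (show n ≤ n + 1 by omega)
    omega

/-- The excluded pairs. -/
def Good (n q : ℕ) : Prop :=
  (n, q) ≠ (3, 2) ∧ (n, q) ≠ (3, 4) ∧ (n, q) ≠ (4, 2) ∧ (n, q) ≠ (4, 3)

theorem Good.ok {n q : ℕ} (h : Good n q) : Ok n q := by
  obtain ⟨h1, h2, h3, h4⟩ := h
  exact ⟨fun e => by subst e; exact ⟨fun e => h1 (by rw [e]), fun e => h2 (by rw [e])⟩,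
    fun e => by subst e; exact ⟨fun e => h3 (by rw [e]), fun e => h4 (by rw [e])⟩⟩

/-- The key congruence. -/
theorem le_of_dvd {q S N K k : ℕ} (hq : 2 ≤ q) (hS : q * S = N + 1)
    (hK : q * K = (q * S + 1) * ((q - 1) * (q * S))) (hdvd : N ∣ K * q ^ k)
    (hcop : Nat.Coprime N q) : N ≤ 2 * (q - 1) := by
  have h1 : N ∣ K := (Nat.Coprime.pow_right k hcop).dvd_of_dvd_mul_right hdvd
  have h2 : N ∣ q * K := h1.mul_left q
  rw [hK, hS] at h2
  have h3 : (N + 1 + 1) * ((q - 1) * (N + 1)) = N * ((N + 3) * (q - 1)) + 2 * (q - 1) := by ring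
  rw [h3] at h2
  exact Nat.le_of_dvd (by omega) ((Nat.dvd_add_right (dvd_mul_right _ _)).1 h2)

/-- Irreducible representations, given the bound one dimension lower. -/
theorem bound_irreducible {k : ℕ} (hk : 1 ≤ k) (hgood : Good (k + 2) (Fintype.card F))
    (ih : 2 ≤ k → Good (k + 1) (Fintype.card F) → ∀ (W : Type) [AddCommGroup W] [Module ℂ W]
      [FiniteDimensional ℂ W] (σ : Representation ℂ SL(k + 1, F) W), (∃ g, σ g ≠ 1) →
      Fintype.card F * geom (Fintype.card F) k ≤ Module.finrank ℂ W)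
    {V : Type} [AddCommGroup V] [Module ℂ V] [FiniteDimensional ℂ V]
    (ρ : Representation ℂ SL(k + 2, F) V) [ρ.IsIrreducible] (hnt : ∃ g, ρ g ≠ 1) :
    Fintype.card F * geom (Fintype.card F) (k + 1) ≤ Module.finrank ℂ V := by
  classical
  set q := Fintype.card F with hq
  have hq2 : 2 ≤ q := Fintype.one_lt_card
  have hgm := geom_mul (q := q) (by omega)
  have hqS : ∀ j, q * geom q j + 1 = geom q (j + 1) := fun j => (geom_succ' q j).symm
  have hP : 1 ≤ q ^ (k + 1) := Nat.one_le_pow _ _ (by omega)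
  rcases dichotomy ρ hk hgood.ok hnt with h | ⟨hd, hN, hV, hW⟩
  · refine le_trans ?_ h
    rw [← hgm (k + 1), ← mul_assoc, mul_comm 2, mul_comm q, mul_assoc]
    exact Nat.mul_le_mul_left _ (by omega)
  have hfix := finrank_fix (fixRep ρ) (m := k) hk hW
  simp only [← hq] at hN hW hfix
  set f := Module.finrank ℂ (eig (Du ρ) 0) with hf
  set N := Module.finrank ℂ V with hNdef
  have hb : q * geom q (k + 1) = q * geom q k + q ^ (k + 1) := by
    rw [geom_succ, mul_add, ← pow_succ']
  have hfk : q ^ k ≤ f + 1 := Nat.le.intro (by rw [add_comm]; exact hfix)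
  have hf1 : 1 ≤ f := by
    have := Nat.le_self_pow (n := k) (by omega) q
    omega
  -- class sum of transvections
  set K := (transvections (k + 2) F).card with hK
  have hKeq : K = geom q (k + 2) * (q ^ (k + 1) - 1) := by
    refine Nat.eq_of_mul_eq_mul_right (show 0 < q - 1 by omega) ?_
    rw [hK, card_transvections (k + 1), ← hgm (k + 1 + 1)]
    ring
  have hdvd : N ∣ K * q ^ (k + 1) := by
    have h := dvd_transvections ρ (f - 1) fun a φ ha hφ h => by
      rw [hV a φ ha hφ h, Nat.cast_sub hf1, Nat.cast_one]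
    have e : K * (f - 1) + K * q ^ (k + 1) = K * N := by
      rw [← mul_add]; congr 1; omega
    exact (Nat.dvd_add_right h).1 (e ▸ dvd_mul_left N K)
  by_contra hlt
  push Not at hlt
  -- the case of equality in the induction
  have key : q * geom q k ≤ f → False := by
    intro hge
    have hNS : q * geom q (k + 1) = N + 1 := by omega
    have hcop : Nat.Coprime N q := by
      have h1 : Nat.gcd N q ∣ N + 1 := hNS ▸ Dvd.dvd.mul_right (Nat.gcd_dvd_right N q) _
      exact Nat.dvd_one.1 ((Nat.dvd_add_right (Nat.gcd_dvd_left N q)).1 h1)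
    have hle := le_of_dvd hq2 (S := geom q (k + 1)) (K := K) hNS (by
      rw [hKeq, hqS (k + 1), ← hgm (k + 1)]; ring) hdvd hcop
    have : q ^ 2 ≤ q ^ (k + 1) := Nat.pow_le_pow_right (by omega) (by omega)
    have : 2 * q ≤ q ^ 2 := by rw [sq]; exact Nat.mul_le_mul_right q hq2
    omega
  by_cases hk1 : k = 1
  · subst hk1
    have hg1 : geom q 1 = 1 := by simp [geom]
    rcases Nat.lt_or_ge f q with h | h
    · have hfq : f + 1 = q := by rw [pow_one] at hfk; omega
      obtain ⟨p, hp⟩ : ∃ p, q = p + 2 := ⟨q - 2, by omega⟩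
      clear_value q
      subst hp
      -- N = (q + 2) (q - 1)
      have e1 : (p + 2) ^ (1 + 1) = p * p + 4 * p + 4 := by ring
      have hNe : N = (p + 4) * (p + 1) := by
        have e2 : (p + 4) * (p + 1) = p * p + 5 * p + 4 := by ring
        omega
      have hKe : K * (p + 2) ^ (1 + 1) =
          (p + 1) * ((1 + (p + 2) + (p + 2) ^ 2) * (p + 3) * (p + 2) ^ 2) := by
        rw [hKeq, show (p + 2) ^ (1 + 1) = (p + 1) * (p + 3) + 1 by ring, Nat.add_sub_cancel]
        simp only [geom, Finset.sum_range_succ, Finset.sum_range_zero]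
        ring
      rw [hKe, hNe, mul_comm (p + 4)] at hdvd
      have h12 : p + 4 ∣ 12 := by
        have h1 : ((p + 4 : ℕ) : ℤ) ∣
            (((1 + (p + 2) + (p + 2) ^ 2) * (p + 3) * (p + 2) ^ 2 : ℕ) : ℤ) :=
          Int.natCast_dvd_natCast.2 (Nat.dvd_of_mul_dvd_mul_left (by omega) hdvd)
        have h2 : ((p + 4 : ℕ) : ℤ) ∣
            (((1 + (p + 2) + (p + 2) ^ 2) * (p + 3) * (p + 2) ^ 2 : ℕ) : ℤ) + 12 :=
          ⟨((p : ℤ) + 4) ^ 4 - 8 * ((p : ℤ) + 4) ^ 3 + 26 * ((p : ℤ) + 4) ^ 2 - 43 * ((p : ℤ) + 4)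
            + 36, by push_cast; ring⟩
        exact Int.natCast_dvd_natCast.1 ((Int.dvd_add_right h1).1 h2)
      have hle := Nat.le_of_dvd (by norm_num) h12
      obtain ⟨g1, g2, -, -⟩ := hgood
      have hpp : IsPrimePow (p + 2) := hq ▸ FiniteField.isPrimePow_card F
      have hp8 : p ≤ 8 := by omega
      interval_cases p <;> norm_num at h12
      all_goals first
        | exact g1 rfl
        | exact g2 rfl
        | exact absurd hpp (by rw [isPrimePow_nat_iff_bounded]; decide)
    · exact key (by rw [hg1, mul_one]; exact h)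
  · have hk2 : 2 ≤ k := by omega
    by_cases hg : Good (k + 1) q
    · refine key (ih hk2 hg _ (fixRep ρ) ⟨tv (Pi.single 0 1) (Pi.single 1 1), fun e => ?_⟩)
      have h01 : (1 : Fin (k + 1)) ≠ 0 := by
        rw [Ne, Fin.one_eq_zero_iff]; omega
      have := hW (Pi.single 0 1) (Pi.single 1 1) fin_one_ne
        (fun e => one_ne_zero (α := F) (by simpa using congrFun e 1))
        (by rw [single_dotProduct, Pi.single_eq_of_ne h01, mul_zero])
      rw [Representation.character, e, LinearMap.trace_one] at this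
      exact pow_ne_zero k (Nat.cast_ne_zero.2 Fintype.card_ne_zero : (q : ℂ) ≠ 0)
        (sub_eq_self.1 this.symm)
    · obtain ⟨l, rfl⟩ : ∃ l, k = l + 1 := ⟨k - 1, by omega⟩
      have h2 := fix_lower_two ρ (l := l) (by omega) hgood.ok hd hW
      simp only [← hq, ← hf] at h2
      have hcase : (l = 1 ∧ q = 4) ∨ (l = 2 ∧ q = 2) ∨ (l = 2 ∧ q = 3) := by
        obtain ⟨g1, g2, g3, g4⟩ := hgood
        simp only [Good, not_and_or, Prod.mk.injEq, ne_eq, not_not] at hg g1 g2 g3 g4
        omega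
      rcases hcase with ⟨rfl, hqe⟩ | ⟨rfl, hqe⟩ | ⟨rfl, hqe⟩ <;>
      · simp only [hqe, geom, Finset.sum_range_succ, Finset.sum_range_zero] at *
        norm_num at *
        have hl : N ≤ _ := Nat.le_of_lt_succ hlt
        interval_cases N <;> omega

/-- A nontrivial representation has a nontrivial irreducible constituent. -/
theorem bound_of_irreducible {G : Type*} [Group G] [Finite G] (b : ℕ)
    (h : ∀ (V : Type) [AddCommGroup V] [Module ℂ V] [FiniteDimensional ℂ V]
      (ρ : Representation ℂ G V), ρ.IsIrreducible → (∃ g, ρ g ≠ 1) → b ≤ Module.finrank ℂ V) :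
    ∀ (N : ℕ) (V : Type) [AddCommGroup V] [Module ℂ V] [FiniteDimensional ℂ V]
      (ρ : Representation ℂ G V), Module.finrank ℂ V = N → (∃ g, ρ g ≠ 1) → b ≤ N := by
  intro N
  induction N using Nat.strong_induction_on with
  | _ N ih =>
    intro V _ _ _ ρ hV hnt
    by_cases hirr : ρ.IsIrreducible
    · exact hV ▸ h V ρ hirr hnt
    obtain ⟨g, hg⟩ := hnt
    haveI : Nontrivial V := by
      by_contra hc
      haveI := not_nontrivial_iff_subsingleton.1 hc
      exact hg (LinearMap.ext fun v => Subsingleton.elim _ _)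
    obtain ⟨U, U', hc, -, -, h1, h2⟩ := CharBasic.exists_decomposition hirr
    by_cases hU : U.toRepresentation g = 1
    · have hU' : U'.toRepresentation g ≠ 1 := fun e => hg (LinearMap.ext fun v => by
        obtain ⟨a, ha, b, hb, rfl⟩ := Submodule.mem_sup.1 (hc.sup_eq_top ▸ Submodule.mem_top :
          v ∈ U.toSubmodule ⊔ U'.toSubmodule)
        have e1 : ρ g a = a := congrArg (fun T : Module.End ℂ U.toSubmodule => (T ⟨a, ha⟩ : V)) hU
        have e2 : ρ g b = b := congrArg (fun T : Module.End ℂ U'.toSubmodule => (T ⟨b, hb⟩ : V)) e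
        rw [map_add, e1, e2, Module.End.one_apply])
      exact le_trans (ih _ (hV ▸ h2) _ U'.toRepresentation rfl ⟨g, hU'⟩) (hV ▸ h2.le)
    · exact le_trans (ih _ (hV ▸ h1) _ U.toRepresentation rfl ⟨g, hU⟩) (hV ▸ h1.le)

/-- Every nontrivial representation of `SL (k+2) q` has degree at least `q + ⋯ + q ^ (k+1)`. -/
theorem le_finrank : ∀ k : ℕ, 1 ≤ k → Good (k + 2) (Fintype.card F) →
    ∀ (V : Type) [AddCommGroup V] [Module ℂ V] [FiniteDimensional ℂ V]
      (ρ : Representation ℂ SL(k + 2, F) V), (∃ g, ρ g ≠ 1) →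
      Fintype.card F * geom (Fintype.card F) (k + 1) ≤ Module.finrank ℂ V := by
  intro k
  induction k using Nat.strong_induction_on with
  | _ k ih =>
    intro hk hgood V _ _ _ ρ hnt
    refine bound_of_irreducible _ (fun V _ _ _ ρ hirr hnt => ?_) _ V ρ rfl hnt
    haveI := hirr
    refine bound_irreducible hk hgood (fun hk2 hg W _ _ _ σ hσ => ?_) ρ hnt
    obtain ⟨j, rfl⟩ : ∃ j, k = j + 1 := ⟨k - 1, by omega⟩
    exact ih j (by omega) (by omega) hg W σ hσ

end Cfsg.Agent.SLMinDegree32
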