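import Cfsg.Agent.Lib.ChevalleyTorus
import Cfsg.Agent.Lib.ChevalleyDataG2
import Cfsg.Agent.Lib.ChevSimpleGen
import Cfsg.Agent.Lib.SLMinDegree32

/-!
Root elements of the Chevalley group of type G2 acting in a complex representation: joint eigenspaces,
their independence and their transport.
-/

set_option autoImplicit false
set_option linter.unusedSectionVars false
set_option maxRecDepth 20000

namespace Cfsg.Agent.G2MinDeg86

open Cfsg.Lie Cfsg.Agent.ChevalleyCore Cfsg.Agent.ChevalleyTorus Cfsg.Agent.SUMinDegree32Eigen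
open Module
open Cfsg.Agent.SLMinDegree32 (phi0 phi0_ne chi chi_apply chi_bijective chi_zero)

variable {F : Type*} [Field F]

local notation "CG" => Cfsg.Agent.ChevalleyDataG2.cert

/-- the group -/
abbrev GG (F : Type*) [Field F] : Subgroup (GL chevG2.Idx F) := chevG2.group F

/-- the root elements -/
def X (r : ℕ) (t : F) : GG F := ⟨xg CG r t, xg_mem_group CG r t⟩

theorem X_add (r : ℕ) (t u : F) : X r t * X r u = X r (t + u) := Subtype.ext (xg_mul CG r t u)

theorem X_zero (r : ℕ) : X r (0 : F) = 1 := Subtype.ext (xg_zero CG r)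

theorem X_inv (r : ℕ) (t : F) : (X r t)⁻¹ = X r (-t) :=
  inv_eq_of_mul_eq_one_right (by rw [X_add, add_neg_cancel, X_zero])

/-- the commutator word in the group -/
def W (l : List (ℕ × ℤ × ℕ × ℕ)) (t u : F) : GG F :=
  (l.map fun c => X c.1 ((c.2.1 : F) * (-t) ^ c.2.2.1 * u ^ c.2.2.2)).prod

/-- a pair of roots with commutator word `l` -/
def pairOK (r s : ℕ) (l : List (ℕ × ℤ × ℕ × ℕ)) : Bool :=
  decide (r < 12) && decide (s < 12) && decide (s ≠ r) && decide (s ≠ 11 - r) &&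
    decide (chevG2.commTerms r s = l)

theorem facts : chevG2.nroots = 12 ∧ chevG2.rank = 2 ∧ chevG2.simple 0 = 7 ∧ chevG2.simple 1 = 6 ∧
    (∀ r, r < 12 → chevG2.neg r = 11 - r) := by decide +kernel

theorem conjX {r s : ℕ} {l : List (ℕ × ℤ × ℕ × ℕ)} (h : pairOK r s l = true) (u t : F) :
    (X r u)⁻¹ * X s t * X r u = X s t * W l u t := by
  simp only [pairOK, Bool.and_eq_true, decide_eq_true_eq] at h
  obtain ⟨⟨⟨⟨h1, h2⟩, h3⟩, h4⟩, h5⟩ := h
  have hn := facts.1
  have hf := comm_formula (F := F) CG (hn ▸ h1) (hn ▸ h2) h3 (by rw [facts.2.2.2.2 r h1]; exact h4) u t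
  rw [mul_assoc, inv_mul_eq_iff_eq_mul, ← mul_assoc]
  refine Subtype.ext ?_
  simp only [Subgroup.coe_mul, W, SubmonoidClass.coe_list_prod, List.map_map]
  refine hf.trans ?_
  congr 1
  rw [wg, ChevalleyDatum.commWord, h5, List.map_map]
  rfl

theorem comm0 {r s : ℕ} (h : pairOK r s [] = true) (u t : F) : Commute (X r u) (X s t) := by
  have h1 := conjX h u t
  rw [W, List.map_nil, List.prod_nil, mul_one, mul_assoc, inv_mul_eq_iff_eq_mul] at h1
  exact h1.symm

/-- the torus elements -/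
def T (a b : Fˣ) : GG F := ⟨torus chevG2 ![a, b], by
  have e : (![a, b] : Fin 2 → Fˣ) = Pi.mulSingle 0 a * Pi.mulSingle 1 b := by
    funext i
    fin_cases i <;> simp [Pi.mulSingle]
  have hh : ∀ (i : Fin 2) (c : Fˣ), torus chevG2 (Pi.mulSingle i c : Fin 2 → Fˣ) ∈ chevG2.group F := by
    intro i c
    have h := hg_simple (F := F) CG (i := (i : Fin chevG2.rank)) c
    exact h ▸ mul_mem (mul_mem (mul_mem (xg_mem_group CG _ _) (xg_mem_group CG _ _)) (xg_mem_group CG _ _))
      (mul_mem (mul_mem (xg_mem_group CG _ _) (xg_mem_group CG _ _)) (xg_mem_group CG _ _))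
  exact e ▸ (map_mul (torus chevG2) (Pi.mulSingle 0 a : Fin 2 → Fˣ) (Pi.mulSingle 1 b)).symm ▸
    mul_mem (hh 0 a) (hh 1 b)⟩

theorem T_mul (a b a' b' : Fˣ) : T a b * T a' b' = T (a * a') (b * b') := by
  refine Subtype.ext ?_
  simp only [Subgroup.coe_mul, T]
  refine (map_mul _ _ _).symm.trans (congrArg _ ?_)
  funext i
  fin_cases i <;> rfl

theorem T_one : T (1 : Fˣ) 1 = 1 := by
  refine Subtype.ext ?_
  simp only [T]
  refine Eq.trans (congrArg _ ?_) (map_one _)
  funext i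
  fin_cases i <;> rfl

theorem T_inv (a b : Fˣ) : (T a b)⁻¹ = T a⁻¹ b⁻¹ :=
  inv_eq_of_mul_eq_one_right (by rw [T_mul, mul_inv_cancel, mul_inv_cancel, T_one])

/-- the weight of a root on the torus -/
def wt (r : ℕ) (a b : Fˣ) : Fˣ := a ^ chevG2.cartan 0 r * b ^ chevG2.cartan 1 r

theorem T_conj {r : ℕ} (hr : r < 12) (a b : Fˣ) (t : F) :
    T a b * X r t * (T a b)⁻¹ = X r ((wt r a b : F) * t) := by
  refine Subtype.ext ?_
  have hc : chevG2.rank = 2 := facts.2.1
  have h := torus_conj_xg (F := F) CG (facts.1 ▸ hr) ![a, b] t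
  refine h.trans ?_
  simp only [X, tchar, wt]
  congr 2
  exact congrArg Units.val (Fin.prod_univ_two (fun i : Fin 2 => (![a, b] i) ^ chevG2.cartan i.val r))

theorem cartan_facts : (List.range 12).map (fun r => (chevG2.cartan 0 r, chevG2.cartan 1 r)) =
    [(0, -1), (-3, 1), (-1, 0), (1, -1), (-2, 1), (3, -2), (-3, 2), (2, -1), (-1, 1), (1, 0), (3, -1), (0, 1)] := by
  decide +kernel

theorem wt6 (a b : Fˣ) : wt 6 a b = b ^ 2 / a ^ 3 := by
  rw [wt, show chevG2.cartan 0 6 = -3 by decide +kernel, show chevG2.cartan 1 6 = 2 by decide +kernel,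
    zpow_neg, div_eq_mul_inv, mul_comm]
  norm_cast

theorem wt7 (a b : Fˣ) : wt 7 a b = a ^ 2 / b := by
  rw [wt, show chevG2.cartan 0 7 = 2 by decide +kernel, show chevG2.cartan 1 7 = -1 by decide +kernel,
    zpow_neg_one, div_eq_mul_inv]
  norm_cast

theorem wt8 (a b : Fˣ) : wt 8 a b = b / a := by
  rw [wt, show chevG2.cartan 0 8 = -1 by decide +kernel, show chevG2.cartan 1 8 = 1 by decide +kernel,
    zpow_neg_one, zpow_one, div_eq_mul_inv, mul_comm]

theorem wt4 (a b : Fˣ) : wt 4 a b = b / a ^ 2 := by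
  rw [wt, show chevG2.cartan 0 4 = -2 by decide +kernel, show chevG2.cartan 1 4 = 1 by decide +kernel,
    zpow_one, zpow_neg, div_eq_mul_inv, mul_comm]
  norm_cast

theorem wt9 (a b : Fˣ) : wt 9 a b = a := by
  rw [wt, show chevG2.cartan 0 9 = 1 by decide +kernel, show chevG2.cartan 1 9 = 0 by decide +kernel,
    zpow_one, zpow_zero, mul_one]

theorem wt10 (a b : Fˣ) : wt 10 a b = a ^ 3 / b := by
  rw [wt, show chevG2.cartan 0 10 = 3 by decide +kernel, show chevG2.cartan 1 10 = -1 by decide +kernel,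
    zpow_neg_one, div_eq_mul_inv]
  norm_cast

theorem wt11 (a b : Fˣ) : wt 11 a b = b := by
  rw [wt, show chevG2.cartan 0 11 = 0 by decide +kernel, show chevG2.cartan 1 11 = 1 by decide +kernel,
    zpow_one, zpow_zero, one_mul]

/-- the reflection representatives: `false` short, `true` long -/
def Ns (i : ℕ) : GG F := ⟨ng CG (chevG2.simple i) 1,
  mul_mem (mul_mem (xg_mem_group CG _ _) (xg_mem_group CG _ _)) (xg_mem_group CG _ _)⟩

theorem Ns_conj {i r : ℕ} (hi : i < 2) (hr : r < 12) :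
    ∃ e : F, e ≠ 0 ∧ ∀ t : F, Ns i * X r t * (Ns i)⁻¹ = X (chevG2.reflectRoot i r) (e * t) := by
  refine ⟨((CG).eta i r : F), ?_, fun t => Subtype.ext (ng_simple_conj CG (facts.2.1 ▸ hi) (facts.1 ▸ hr) t)⟩
  rcases (CG).eta_sq i r with h | h <;> rw [h] <;> simp

theorem refl_facts :
    (List.range 12).map (fun r => (chevG2.reflectRoot 0 r, chevG2.reflectRoot 1 r)) =
    [(0, 1), (5, 0), (3, 2), (2, 4), (7, 3), (1, 6), (10, 5), (4, 8), (9, 7), (8, 9), (6, 11), (11, 10)] := by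
  decide +kernel

/-- the index image -/
def R0 (r : ℕ) : ℕ := ([0, 5, 3, 2, 7, 1, 10, 4, 9, 8, 6, 11] : List ℕ).getD r 0

/-- the index image -/
def R1 (r : ℕ) : ℕ := ([1, 0, 2, 4, 3, 6, 5, 8, 7, 9, 11, 10] : List ℕ).getD r 0

theorem refl_R : ∀ r, r < 12 → chevG2.reflectRoot 0 r = R0 r ∧ chevG2.reflectRoot 1 r = R1 r := by
  decide +kernel

theorem gen_top (K : Subgroup (GG F))
    (h : ∀ t : F, X 7 t ∈ K ∧ X 4 t ∈ K ∧ X 6 t ∈ K ∧ X 5 t ∈ K) : K = ⊤ := by
  refine eq_top_iff.2 fun g _ => ?_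
  have hle : chevG2.group F ≤ K.map (chevG2.group F).subtype := by
    refine (Subgroup.closure_le _).2 ?_
    rintro y ⟨r, t, hy⟩
    have hy' : y = xg CG r.val t := Units.ext (by rw [hy, coe_xg, ChevalleyDatum.x, dif_pos r.isLt])
    rw [hy']
    refine ChevSimpleGen.xg_mem CG _ (fun i hi s => ?_) r.val r.isLt t
    have hi' : i = 0 ∨ i = 1 := by
      have := facts.2.1
      omega
    obtain ⟨h7, h4, h6, h5⟩ := h s
    rcases hi' with rfl | rfl
    · rw [facts.2.2.1, facts.2.2.2.2 7 (by norm_num)]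
      exact ⟨⟨_, h7, rfl⟩, ⟨_, h4, rfl⟩⟩
    · rw [facts.2.2.2.1, facts.2.2.2.2 6 (by norm_num)]
      exact ⟨⟨_, h6, rfl⟩, ⟨_, h5, rfl⟩⟩
  obtain ⟨z, hz, e⟩ := hle g.2
  exact (Subtype.ext (show (z : GL chevG2.Idx F) = (g : GL chevG2.Idx F) from e)) ▸ hz

/-! ### eigenspaces -/

variable {V : Type} [AddCommGroup V] [Module ℂ V] [Fintype F] (σ : Representation ℂ (GG F) V)

/-- the joint eigenspace of a family of roots -/
noncomputable def Es {n : ℕ} (S : Fin n → ℕ) (c : Fin n → F) : Submodule ℂ V where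
  carrier := {v | ∀ i t, σ (X (S i) t) v = phi0 (c i * t) • v}
  add_mem' := fun hv hw i t => by rw [map_add, hv i t, hw i t, smul_add]
  zero_mem' := fun i t => by rw [map_zero, smul_zero]
  smul_mem' := fun a v hv i t => by rw [map_smul, hv i t, smul_comm]

variable {σ}

theorem mem_Es {n : ℕ} {S : Fin n → ℕ} {c : Fin n → F} {v : V} :
    v ∈ Es σ S c ↔ ∀ i t, σ (X (S i) t) v = phi0 (c i * t) • v := Iff.rfl

theorem phi_sep {a b : F} (h : ∀ t, (phi0 : AddChar F ℂ) (a * t) = phi0 (b * t)) : a = b := by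
  have h' : chi (![a] : Fin 1 → F) = chi ![b] := by
    ext v
    simpa [chi_apply, dotProduct] using h (v 0)
  exact congrFun (chi_bijective.1 h') 0

theorem phi_eq_one {a : F} (h : ∀ t, (phi0 : AddChar F ℂ) (a * t) = 1) : a = 0 :=
  phi_sep (b := 0) fun t => by rw [h t, zero_mul, AddChar.map_zero_eq_one]

theorem rho_inj (g : GG F) : Function.Injective (σ g) := fun x y h => by
  have h' := congrArg (σ g⁻¹) h
  rwa [← Module.End.mul_apply, ← Module.End.mul_apply, ← map_mul, inv_mul_cancel, map_one] at h'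

theorem act2 (g h : GG F) (v : V) : σ (g * h) v = σ g (σ h v) := by
  rw [map_mul]; rfl

theorem indep {n : ℕ} {S : Fin n → ℕ} :
    ∀ (s : Finset (Fin n → F)) (v : (Fin n → F) → V), (∀ c ∈ s, v c ∈ Es σ S c) →
      ∑ c ∈ s, v c = 0 → ∀ c ∈ s, v c = 0 := by
  classical
  intro s
  induction s using Finset.induction_on with
  | empty => simp
  | @insert a s ha ih =>
    intro v hv hsum
    rw [Finset.sum_insert ha] at hsum
    have key : ∀ c ∈ s, v c = 0 := by
      intro c hc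
      obtain ⟨i, t, hit⟩ : ∃ i t, (phi0 : AddChar F ℂ) (c i * t) ≠ phi0 (a i * t) := by
        by_contra! h
        exact ha ((funext fun i => phi_sep (h i) : c = a) ▸ hc)
      let w : (Fin n → F) → V := fun d => ((phi0 : AddChar F ℂ) (d i * t) - phi0 (a i * t)) • v d
      have hw : ∀ d ∈ s, w d ∈ Es σ S d :=
        fun d hd => Submodule.smul_mem _ _ (hv d (Finset.mem_insert_of_mem hd))
      have h1 := congrArg (fun x => σ (X (S i) t) x - (phi0 : AddChar F ℂ) (a i * t) • x) hsum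
      simp only [map_add, map_zero, smul_zero, sub_zero, map_sum, smul_add, Finset.smul_sum,
        hv a (Finset.mem_insert_self a s) i t] at h1
      have h2 : ∑ d ∈ s, w d = 0 := by
        rw [← h1, add_sub_add_left_eq_sub, ← Finset.sum_sub_distrib]
        refine Finset.sum_congr rfl fun d hd => ?_
        rw [hv d (Finset.mem_insert_of_mem hd) i t, ← sub_smul]
      have h3 := ih w hw h2 c hc
      rcases smul_eq_zero.1 h3 with h4 | h4
      · exact absurd (sub_eq_zero.1 h4) hit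
      · exact h4
    intro c hc
    rcases Finset.mem_insert.1 hc with rfl | hc
    · rwa [Finset.sum_eq_zero key, add_zero] at hsum
    · exact key c hc

variable [FiniteDimensional ℂ V]

theorem sum_le {n : ℕ} (S : Fin n → ℕ) (U : Submodule ℂ V) (s : Finset (Fin n → F)) :
    ∑ c ∈ s, finrank ℂ ↥(U ⊓ Es σ S c) ≤ finrank ℂ ↥U := by
  classical
  let L : (∀ c : s, ↥(U ⊓ Es σ S c)) →ₗ[ℂ] ↥U :=
    ∑ c : s, (Submodule.inclusion inf_le_left).comp (LinearMap.proj c)
  have hL : ∀ x : ∀ c : s, ↥(U ⊓ Es σ S c), (L x : V) = ∑ c : s, (x c : V) := fun x => by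
    simp [L, LinearMap.sum_apply]
  have hinj : Function.Injective L := by
    rw [← LinearMap.ker_eq_bot, LinearMap.ker_eq_bot']
    intro x hx
    let v : (Fin n → F) → V := fun c => if h : c ∈ s then (x ⟨c, h⟩ : V) else 0
    have hv : ∀ c ∈ s, v c ∈ Es σ S c := fun c hc => by
      simp only [v, dif_pos hc]; exact (x ⟨c, hc⟩).2.2
    have h0 : ∑ c ∈ s, v c = 0 := by
      rw [← Finset.sum_coe_sort]
      have : ∑ c : s, v c = ∑ c : s, (x c : V) := Finset.sum_congr rfl fun c _ => by simp [v]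
      rw [this, ← hL, hx]; rfl
    funext c
    have := indep s v hv h0 c c.2
    exact Subtype.ext (by simpa [v] using this)
  have := LinearMap.finrank_le_finrank_of_injective hinj
  rw [Module.finrank_pi_fintype] at this
  rw [← Finset.sum_coe_sort]
  exact this

theorem card_mul_le {n : ℕ} (S : Fin n → ℕ) (U : Submodule ℂ V) (s : Finset (Fin n → F)) {m : ℕ}
    (h : ∀ c ∈ s, m ≤ finrank ℂ ↥(U ⊓ Es σ S c)) : s.card * m ≤ finrank ℂ ↥U := by
  have := Finset.card_nsmul_le_sum s _ m h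
  exact le_trans (by simpa using this) (sum_le S U s)

omit [FiniteDimensional ℂ V] in
/-- transport of eigenvectors -/
theorem mov_mem {n : ℕ} {S : Fin n → ℕ} {c' : Fin n → F} {g : GG F} {v : V}
    (h : ∀ i t, σ (g⁻¹ * X (S i) t * g) v = phi0 (c' i * t) • v) : σ g v ∈ Es σ S c' := by
  intro i t
  have h1 := congrArg (σ g) (h i t)
  rwa [← act2, map_smul, ← mul_assoc, mul_inv_cancel_left, act2] at h1

theorem mov_le {g : GG F} {U U' : Submodule ℂ V} (h : ∀ v ∈ U, σ g v ∈ U') :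
    finrank ℂ ↥U ≤ finrank ℂ ↥U' :=
  LinearMap.finrank_le_finrank_of_injective (f := (σ g).restrict h)
    fun a b e => Subtype.ext (rho_inj g (congrArg Subtype.val e))

theorem pos_of_mem {U : Submodule ℂ V} {v : V} (h : v ∈ U) (h0 : v ≠ 0) : 1 ≤ finrank ℂ ↥U := by
  haveI : Nontrivial U := ⟨⟨⟨v, h⟩, 0, fun e => h0 (congrArg Subtype.val e)⟩⟩
  exact finrank_pos

theorem exists_of_pos {U : Submodule ℂ V} (h : 1 ≤ finrank ℂ ↥U) : ∃ v ∈ U, v ≠ 0 := by
  by_contra! h'
  have : U = ⊥ := (Submodule.eq_bot_iff U).2 h'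
  rw [this, finrank_bot] at h
  omega

omit [FiniteDimensional ℂ V] in
theorem exists_eig (r : ℕ) (U : Submodule ℂ V) (hU : ∀ t : F, ∀ v ∈ U, σ (X r t) v ∈ U)
    {v : V} (hv : v ∈ U) (h0 : v ≠ 0) :
    ∃ a : F, ∃ w ∈ U, w ≠ 0 ∧ ∀ t, σ (X r t) w = phi0 (a * t) • w := by
  obtain ⟨ψ, w, hw, hw0, he⟩ := exists_eigen (D := fun a : Fin 1 → F => σ (X r (a 0)))
    (fun a b => by rw [← map_mul, X_add]; rfl) (by simp only [Pi.zero_apply]; rw [X_zero, map_one])
    U (fun a v hv => hU _ v hv) hv h0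
  obtain ⟨c, rfl⟩ := chi_bijective.2 ψ
  refine ⟨c 0, w, hw, hw0, fun t => ?_⟩
  have := he ![t]
  simpa [chi_apply, dotProduct] using this

omit [FiniteDimensional ℂ V] in
theorem exists_eig_ne (r : ℕ) (U : Submodule ℂ V) (hU : ∀ t : F, ∀ v ∈ U, σ (X r t) v ∈ U)
    {v : V} (hv : v ∈ U) {s : F} (h0 : σ (X r s) v ≠ v) :
    ∃ a : F, a ≠ 0 ∧ ∃ w ∈ U, w ≠ 0 ∧ ∀ t, σ (X r t) w = phi0 (a * t) • w := by
  obtain ⟨ψ, hψ, w, hw, hw0, he⟩ := exists_eigen_nontrivial (D := fun a : Fin 1 → F => σ (X r (a 0)))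
    (fun a b => by rw [← map_mul, X_add]; rfl) (by simp only [Pi.zero_apply]; rw [X_zero, map_one])
    U (fun a v hv => hU _ v hv) hv (a := ![s]) (by simpa using h0)
  obtain ⟨c, rfl⟩ := chi_bijective.2 ψ
  refine ⟨c 0, fun h => hψ ?_, w, hw, hw0, fun t => ?_⟩
  · have : c = 0 := funext fun i => by fin_cases i; simpa using h
    rw [this, chi_zero]
  · have := he ![t]
    simpa [chi_apply, dotProduct] using this

end Cfsg.Agent.G2MinDeg86
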