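import Cfsg.Agent.Lib.G2MinDeg86Hecke

/-!
A representation of G2 whose radical characters are the cubes forces a contradiction when the field has a
non-cube.
-/

set_option autoImplicit false
set_option linter.unusedSectionVars false
set_option maxRecDepth 20000
set_option maxHeartbeats 1000000

namespace Cfsg.Agent.G2MinDeg86

open Cfsg.Lie Module
open Cfsg.Agent.SLMinDegree32 (phi0 phi0_ne chi chi_apply chi_bijective)

variable {F : Type*} [Field F] [Fintype F] {V : Type} [AddCommGroup V] [Module ℂ V] [FiniteDimensional ℂ V]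
  {σ : Representation ℂ (GG F) V}

theorem inv_Ns {i : ℕ} {v : V} (h : σ (Ns i) v = v) : σ (Ns i)⁻¹ v = v := by
  conv_lhs => rw [← h]
  rw [← act2, inv_mul_cancel, map_one, Module.End.one_apply]

theorem Ng_fix_pre {i r s : ℕ} (hi : i < 2) (hr : r < 12) {v : V} (hv : ∀ t, σ (X (RR i r) t) v = v)
    (hs : RR i r = s) : (∀ t, σ (X s t) v = v) ∧ ∀ t, σ (X r t) (σ (Ns i) v) = σ (Ns i) v :=
  ⟨hs ▸ hv, fun t => Ns_fix hi hr hv t⟩

section Fix

variable (hflat : ∀ c : Fin 5 → F, Pr σ SQ c → c 4 = 0 → c 3 = 0 → c 1 = 0 ∧ c 2 = 0)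
include hflat

theorem fix_E0 {v : V} (h6 : ∀ t, σ (X 6 t) v = v) (h10 : ∀ t, σ (X 10 t) v = v) (h11 : ∀ t, σ (X 11 t) v = v) :
    v ∈ Es σ SQ 0 := by
  have hv : v ∈ Es σ ![6, 10, 11] ![(0 : F), 0, 0] := fun i t => by
    fin_cases i
    · simpa using h6 t
    · simpa using h10 t
    · simpa using h11 t
  have key : ∀ w : V, w ∈ Es σ ![6, 10, 11] ![(0 : F), 0, 0] → w ≠ 0 → ∀ a b : F,
      (∀ t, σ (X 8 t) w = phi0 (a * t) • w) → (∀ t, σ (X 9 t) w = phi0 (b * t) • w) → a = 0 ∧ b = 0 := by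
    intro w hw hw0 a b ha hb
    have := hflat ![0, a, b, 0, 0] ⟨w, fun i t => by
      fin_cases i
      · exact hw 0 t
      · exact ha t
      · exact hb t
      · exact hw 1 t
      · exact hw 2 t, hw0⟩ rfl rfl
    simpa using this
  have inv : ∀ r, r ∈ ([6, 8, 9, 10, 11] : List ℕ) → ∀ (t : F) (w : V),
      w ∈ Es σ ![6, 10, 11] ![(0 : F), 0, 0] → σ (X r t) w ∈ Es σ ![6, 10, 11] ![(0 : F), 0, 0] :=
    fun r hr t w hw => inv_mod11 hr (fun i => by fin_cases i <;> simp) t hw (fix11 (i := 2) rfl rfl hw)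
  have f8 : ∀ (w : V), w ∈ Es σ ![6, 10, 11] ![(0 : F), 0, 0] → ∀ t, σ (X 8 t) w = w := by
    intro w hw t
    by_contra h
    obtain ⟨a, ha, w1, hw1, hw10, e8⟩ := exists_eig_ne 8 _ (fun t v hv => inv 8 (by simp) t v hv) hw h
    obtain ⟨b, w2, hw2, hw20, e9⟩ := exists_eig 9 (Es σ ![6, 10, 11, 8] ![(0 : F), 0, 0, a]) (fun t v hv =>
      inv_mod11 (by simp) (fun i => by fin_cases i <;> simp) t hv (fix11 (i := 2) rfl rfl hv))
      (show w1 ∈ Es σ ![6, 10, 11, 8] ![(0 : F), 0, 0, a] from fun i t => by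
        fin_cases i
        · exact hw1 0 t
        · exact hw1 1 t
        · exact hw1 2 t
        · exact e8 t) hw10
    exact ha (key w2 (fun i t => by
      fin_cases i
      · exact hw2 0 t
      · exact hw2 1 t
      · exact hw2 2 t) hw20 a b (fun t => hw2 3 t) e9).1
  have f9 : ∀ t, σ (X 9 t) v = v := by
    intro t
    by_contra h
    obtain ⟨b, hb, w1, hw1, hw10, e9⟩ := exists_eig_ne 9 _ (fun t v hv => inv 9 (by simp) t v hv) hv h
    exact hb (key w1 hw1 hw10 0 b (fun t => by simpa using f8 w1 hw1 t) e9).2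
  intro i t
  fin_cases i
  · simpa [SQ] using h6 t
  · simpa [SQ] using f8 v hv t
  · simpa [SQ] using f9 t
  · simpa [SQ] using h10 t
  · simpa [SQ] using h11 t

omit hflat in
theorem E0_fix {v : V} (hv : v ∈ Es σ SQ 0) {r : ℕ} (hr : r ∈ ([6, 8, 9, 10, 11] : List ℕ)) (t : F) :
    σ (X r t) v = v := by
  simp only [List.mem_cons, List.not_mem_nil, or_false] at hr
  rcases hr with rfl | rfl | rfl | rfl | rfl
  · simpa [SQ] using hv 0 t
  · simpa [SQ] using hv 1 t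
  · simpa [SQ] using hv 2 t
  · simpa [SQ] using hv 3 t
  · simpa [SQ] using hv 4 t

omit hflat in
/-- the value at a shifted element of the radical -/
theorem n10_form (b : F) (hb : b ≠ 0) :
    ∃ c : Fˣ, Ng 10 b = Ns 0 * T 1 c * Ns 1 * (Ns (F := F) 0)⁻¹ := by
  obtain ⟨e, he, h⟩ := Ns_Ng (F := F) (i := 0) (r := 6) (by norm_num) (by norm_num)
  refine ⟨Units.mk0 (b / e) (div_ne_zero hb he), ?_⟩
  have h' := h (b / e)
  rw [show RR 0 6 = 10 from rfl, mul_div_cancel₀ _ he] at h'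
  have h6 := Ng6 (Units.mk0 (b / e) (div_ne_zero hb he))
  rw [Units.val_mk0] at h6
  rw [← h', h6]
  group

omit hflat in
theorem n11_form (b : F) (hb : b ≠ 0) :
    ∃ b' : F, b' ≠ 0 ∧ Ng 11 b = Ns 1 * Ng 10 b' * (Ns (F := F) 1)⁻¹ := by
  obtain ⟨e, he, h⟩ := Ns_Ng (F := F) (i := 1) (r := 10) (by norm_num) (by norm_num)
  refine ⟨b / e, div_ne_zero hb he, ?_⟩
  rw [h, show RR 1 10 = 11 from rfl, mul_div_cancel₀ _ he]

omit hflat in
theorem T_fix_X {r : ℕ} (hr : r < 12) {v : V} (hv : ∀ t, σ (X r t) v = v) (a b : Fˣ) (t : F) :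
    σ (X r t) (σ (T a b) v) = σ (T a b) v := by
  have h := T_conj hr a⁻¹ b⁻¹ t
  rw [← T_inv, inv_inv] at h
  have h1 := congrArg (σ (T a b)) (hv ((wt r a⁻¹ b⁻¹ : F) * t))
  rwa [← act2, ← h, ← mul_assoc, mul_inv_cancel_left, act2] at h1

omit hflat in
theorem n10_fix6 {b : F} (hb : b ≠ 0) {w : V} (hw : ∀ t, σ (X 11 t) w = w) (t : F) :
    σ (X 6 t) (σ (Ng 10 b) w) = σ (Ng 10 b) w := by
  obtain ⟨c, hc⟩ := n10_form (F := F) b hb
  rw [hc, act2, act2, act2]
  refine Ns_fix' (r' := 10) (by norm_num) (by norm_num) rfl (fun t => ?_) t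
  refine T_fix_X (by norm_num) (fun t => Ns_fix' (r' := 11) (by norm_num) (by norm_num) rfl (fun t => ?_) t) 1 c t
  have h := congrArg (σ (Ns 0)⁻¹) (hw t)
  obtain ⟨e, he, h2⟩ := Ns_conj_inv (F := F) (i := 0) (r := 11) (by norm_num) (by norm_num)
  have h3 := congrArg (σ (Ns 0)⁻¹) (hw (t / e))
  rwa [← act2, show (Ns 0)⁻¹ * X 11 (t / e) = ((Ns 0)⁻¹ * X 11 (t / e) * Ns 0) * (Ns 0)⁻¹ by group, h2,
    show RR 0 11 = 11 from rfl, mul_div_cancel₀ _ he, act2] at h3

omit hflat in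
theorem n11_fix5 {b : F} (hb : b ≠ 0) {w : V} (hw : ∀ t, σ (X 10 t) w = w) (t : F) :
    σ (X 5 t) (σ (Ng 11 b) w) = σ (Ng 11 b) w := by
  obtain ⟨b', hb', hb''⟩ := n11_form (F := F) b hb
  rw [hb'', act2, act2]
  refine Ns_fix' (r' := 6) (by norm_num) (by norm_num) rfl (n10_fix6 hb' fun t => ?_) t
  obtain ⟨e, he, h2⟩ := Ns_conj_inv (F := F) (i := 1) (r := 10) (by norm_num) (by norm_num)
  have h3 := congrArg (σ (Ns 1)⁻¹) (hw (t / e))
  rwa [← act2, show (Ns 1)⁻¹ * X 10 (t / e) = ((Ns 1)⁻¹ * X 10 (t / e) * Ns 1) * (Ns 1)⁻¹ by group, h2,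
    show RR 1 10 = 11 from rfl, mul_div_cancel₀ _ he, act2] at h3

/-- projections of the two kinds of translates -/
theorem PR_n10 {b : F} (hb : b ≠ 0) {w : V} (hw : ∀ t, σ (X 11 t) w = w) : PR σ (σ (Ng 10 b) w) ∈ Es σ SQ 0 := by
  refine fix_E0 hflat (fun t => ?_) (fun t => ?_) (fun t => ?_)
  · rw [← PR_X6, n10_fix6 hb hw]
  · simpa using PR_mem (σ := σ) (σ (Ng 10 b) w) 0 t
  · simpa using PR_mem (σ := σ) (σ (Ng 10 b) w) 1 t

theorem PR_n11 {b : F} (hb : b ≠ 0) {w : V} (hw : ∀ t, σ (X 10 t) w = w) :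
    σ (Ns 1)⁻¹ (PR σ (σ (Ng 11 b) w)) ∈ Es σ SQ 0 := by
  set y := PR σ (σ (Ng 11 b) w) with hy
  have h10 : ∀ t, σ (X 10 t) y = y := fun t => by simpa using PR_mem (σ := σ) (σ (Ng 11 b) w) 0 t
  have h11 : ∀ t, σ (X 11 t) y = y := fun t => by simpa using PR_mem (σ := σ) (σ (Ng 11 b) w) 1 t
  have h5 : ∀ t, σ (X 5 t) y = y := fun t => by rw [hy, ← PR_X5, n11_fix5 hb hw]
  have back : ∀ (r r' : ℕ), r < 12 → RR 1 r = r' → (∀ t, σ (X r t) y = y) →
      ∀ t, σ (X r' t) (σ (Ns 1)⁻¹ y) = σ (Ns 1)⁻¹ y := by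
    intro r r' hr hrr hf t
    obtain ⟨e, he, h2⟩ := Ns_conj_inv (F := F) (i := 1) (r := r) (by norm_num) hr
    have h3 := congrArg (σ (Ns 1)⁻¹) (hf (t / e))
    rwa [← act2, show (Ns 1)⁻¹ * X r (t / e) = ((Ns 1)⁻¹ * X r (t / e) * Ns 1) * (Ns 1)⁻¹ by group, h2, hrr,
      mul_div_cancel₀ _ he, act2] at h3
  exact fix_E0 hflat (back 5 6 (by norm_num) rfl h5) (back 11 10 (by norm_num) rfl h11)
    (back 10 11 (by norm_num) rfl h10)

end Fix

theorem eq_zero_of_add {x : V} {a : ℂ} (h : a • x = 0) (ha : a ≠ 0) : x = 0 :=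
  (smul_eq_zero.1 h).resolve_left ha

section One

variable (hflat : ∀ c : Fin 5 → F, Pr σ SQ c → c 4 = 0 → c 3 = 0 → c 1 = 0 ∧ c 2 = 0)
  (he1 : finrank ℂ ↥(Es σ SQ 0) ≤ 1) (hq : 5 ≤ Fintype.card F) [σ.IsIrreducible] (hk : 2 ≤ finrank ℂ V)
include hflat he1 hq hk

omit hflat hk in
/-- every vector of the line is a multiple of a nonzero one -/
theorem line {v₀ : V} (hv₀ : v₀ ∈ Es σ SQ 0) (h0 : v₀ ≠ 0) {x : V} (hx : x ∈ Es σ SQ 0) :
    ∃ γ : ℂ, x = γ • v₀ := by
  have h1 : finrank ℂ ↥(Es σ SQ 0) = 1 := le_antisymm he1 (pos_of_mem hv₀ h0)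
  obtain ⟨γ, hγ⟩ := exists_smul_eq_of_finrank_eq_one h1
    (x := (⟨v₀, hv₀⟩ : Es σ SQ 0)) (fun e => h0 (congrArg Subtype.val e)) ⟨x, hx⟩
  exact ⟨γ, (congrArg Subtype.val hγ).symm⟩

/-- the fixed vector of the Borel subgroup -/
theorem hecke {v₀ : V} (hv₀ : v₀ ∈ Es σ SQ 0) (h0 : v₀ ≠ 0) :
    σ (Ns 0) v₀ = v₀ ∧ (∀ a b, σ (T a b) v₀ = v₀) ∧ RS σ 6 (σ (Ns 1) v₀) = -v₀ := by
  classical
  have hT : ∀ a b, ∃ μ : ℂ, σ (T a b) v₀ = μ • v₀ := fun a b => line he1 hq hv₀ h0 (by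
    convert T_mem SQ_lt hv₀ a b using 2
    funext i; simp)
  choose μ hμ using hT
  obtain ⟨e, he, hmap⟩ := Ns_map (σ := σ) (i := 0) (by omega) SQ SQ ![3, 2, 1, 0, 4]
    (by intro j; fin_cases j <;> exact ⟨by decide, by decide⟩)
  have hN0 : ∀ v ∈ Es σ SQ 0, σ (Ns 0) v ∈ Es σ SQ 0 := fun v hv => by
    convert hmap _ v hv using 2
    funext i; simp
  have h7mem : ∀ t, ∀ v ∈ Es σ SQ 0, σ (X 7 t) v ∈ Es σ SQ 0 := fun t v hv => by
    convert mvQ7 hv rfl t using 2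
    funext i; fin_cases i <;> simp
  obtain ⟨a7, ha7⟩ : ∃ a : F, ∀ t, σ (X 7 t) v₀ = phi0 (a * t) • v₀ := by
    obtain ⟨a, w, hw, hw0, hwa⟩ := exists_eig 7 _ h7mem hv₀ h0
    obtain ⟨γ, rfl⟩ := line he1 hq hv₀ h0 hw
    refine ⟨a, fun t => ?_⟩
    have := hwa t
    rw [map_smul, smul_comm] at this
    exact smul_right_injective V (fun e => hw0 (by rw [e, zero_smul])) this
  obtain ⟨d, hd⟩ : ∃ d : Fˣ, (d : F) ^ 2 ≠ 1 := by
    by_contra! h
    have hsub : ((Finset.univ : Finset F).erase 0) ⊆ {1, -1} := fun x hx => by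
      have := h (Units.mk0 x (Finset.mem_erase.1 hx).1)
      simp only [Units.val_mk0] at this
      simpa using sq_eq_one_iff.1 this
    have h1 := (Finset.card_le_card hsub).trans Finset.card_le_two
    rw [Finset.card_erase_of_mem (Finset.mem_univ _), Finset.card_univ] at h1
    omega
  have ha70 : a7 = 0 := by
    have hcoef : a7 * (wt 7 d⁻¹ (1 : Fˣ)⁻¹ : F) = a7 := by
      refine phi_sep fun t => ?_
      have h1 := congrArg (σ (T d 1)) (ha7 ((wt 7 d⁻¹ (1 : Fˣ)⁻¹ : F) * t))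
      have h2 := T_conj (by norm_num : 7 < 12) d⁻¹ (1 : Fˣ)⁻¹ t
      rw [← T_inv, inv_inv] at h2
      rw [← act2, ← h2, ← mul_assoc, mul_inv_cancel_left, act2, map_smul, hμ, map_smul, ha7, smul_smul, smul_smul] at h1
      have hμ0 : μ d 1 ≠ 0 := fun e => h0 (rho_inj (T d 1) (by rw [hμ, e, zero_smul, map_zero]))
      have h3 := smul_left_injective ℂ h0 h1
      rw [mul_comm _ (μ d 1)] at h3
      rw [mul_assoc]
      exact (mul_left_cancel₀ hμ0 h3).symm
    rw [wt7] at hcoef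
    by_contra h
    have h4 := mul_eq_left₀ h |>.1 hcoef
    simp at h4
    exact hd (by simpa using h4)
  have h7 : ∀ t, σ (X 7 t) v₀ = v₀ := fun t => by rw [ha7, ha70, zero_mul, AddChar.map_zero_eq_one, one_smul]
  obtain ⟨ν, hν⟩ := line he1 hq hv₀ h0 (hN0 v₀ hv₀)
  have h4 : ∀ t, σ (X 4 t) v₀ = v₀ := fun t => by
    have h := Ns_fix' (σ := σ) (i := 0) (r := 4) (r' := 7) (by norm_num) (by norm_num) rfl h7 t
    rw [hν, map_smul] at h
    exact smul_right_injective V (fun e => h0 (rho_inj (Ns 0) (by rw [hν, e, zero_smul, map_zero]))) h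
  have hNg7 : ∀ b : F, σ (Ng 7 b) v₀ = v₀ := fun b => by
    rw [Ng_def (by norm_num), act2, act2, h7, h4, h7]
  have hN : σ (Ns 0) v₀ = v₀ := by
    have := hNg7 ((1 : Fˣ) : F)
    rwa [Ng7, T_one, one_mul] at this
  have hTa : ∀ a, σ (T a 1) v₀ = v₀ := fun a => by
    have := hNg7 (a : F)
    rw [Ng7, act2, hN] at this
    exact this
  have hTμ : ∀ a b, μ a b = μ 1 b := fun a b => smul_left_injective ℂ h0 (by
    show μ a b • v₀ = μ 1 b • v₀
    rw [← hμ, ← hμ, show T a b = T 1 b * T a 1 by rw [T_mul, mul_one, one_mul], act2, hTa])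
  have hfix : ∀ r ∈ ([6, 8, 9, 10, 11] : List ℕ), ∀ t, σ (X r t) v₀ = v₀ := fun r hr t => E0_fix hv₀ hr t
  set K : V → V := fun v => RS σ 6 (σ (Ns 1) v) with hK
  obtain ⟨γ, hγ⟩ : ∃ γ : ℂ, K v₀ = γ • v₀ := by
    refine line he1 hq hv₀ h0 (fix_E0 hflat (fun t => RS_left 6 t _) (fun t => ?_) (fun t => ?_))
    · have h : ∀ w : V, (∀ s, σ (X 10 s) w = w) → (∀ s, σ (X 11 s) w = w) →
          σ (X 10 t) (RS σ 6 w) = RS σ 6 w := by
        intro w hw hw'
        rw [RS_apply, map_sum]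
        refine Finset.sum_congr rfl fun s _ => ?_
        rw [← act2, show X 10 t * X 6 s = X 6 s * (X 10 t * X 11 (-(s * t))) by
          rw [← c610, mul_assoc (X 6 s)⁻¹, mul_inv_cancel_left], act2, act2, hw', hw]
      exact h _ (Ns_fix' (r' := 11) (by norm_num) (by norm_num) rfl (hfix 11 (by simp)))
        (Ns_fix' (r' := 10) (by norm_num) (by norm_num) rfl (hfix 10 (by simp)))
    · rw [RS_comm (fun s => (com0 (r := 6) (s := 11) (by decide) s t).symm),
        Ns_fix' (r' := 10) (by norm_num) (by norm_num) rfl (hfix 10 (by simp))]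
  have hTK : ∀ a b v, σ (T a b) (K v) = K (σ (T a (a ^ 3 / b)) v) := by
    intro a b v
    simp only [hK]
    have e1 : ∀ w, σ (T a b) (RS σ 6 w) = RS σ 6 (σ (T a b) w) := by
      intro w
      have h2 : ∀ t, (T a b)⁻¹ * X 6 t * T a b = X 6 ((wt 6 a⁻¹ b⁻¹ : F) * t) := fun t => by
        have h := T_conj (by norm_num : 6 < 12) a⁻¹ b⁻¹ t
        rwa [← T_inv, inv_inv] at h
      exact (RS_move (Units.ne_zero _) h2 w).symm
    rw [e1, ← act2, ← act2]
    congr 2
    have h := Ns1_T a (a ^ 3 / b)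
    rw [div_div_cancel] at h
    rw [← h]; group
  have hK2 : ∀ b : Fˣ, K (σ (T 1 b) v₀) = μ 1 b • (γ • v₀) := fun b => by
    rw [hμ]
    simp only [hK, map_smul]
    rw [show RS σ 6 (σ (Ns 1) v₀) = γ • v₀ from hγ]
  have hμ11 : μ 1 1 = 1 := smul_left_injective ℂ h0 (by
    show μ 1 1 • v₀ = (1 : ℂ) • v₀
    rw [← hμ, T_one, map_one, one_smul, Module.End.one_apply])
  obtain ⟨e5, he5, h5c⟩ := Ns_conj (F := F) (i := 1) (r := 6) (by norm_num) (by norm_num)
  rw [(refl_R 6 (by norm_num)).2, show R1 6 = 5 from rfl] at h5c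
  have hterm : ∀ s : F, RS σ 6 (σ (Ns 1) (σ (X 6 s) (σ (Ns 1) v₀))) =
      μ 1 (-1) • RS σ 6 (σ (X 5 (e5 * s)) v₀) := fun s => by
    rw [← act2, show Ns 1 * X 6 s = X 5 (e5 * s) * Ns 1 by rw [← h5c]; group, act2, ← act2 (Ns 1) (Ns 1), Ns1_sq, hμ,
      map_smul, map_smul]
  have hopp : ∀ p : F, p ≠ 0 → ∃ b : Fˣ, RS σ 6 (σ (X 5 p) v₀) = μ 1 b • (γ • v₀) := by
    intro p hp
    have hb : -(p⁻¹) ≠ 0 := neg_ne_zero.2 (inv_ne_zero hp)
    refine ⟨(Units.mk0 _ hb)⁻¹, ?_⟩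
    have h6 := X_neg_root (F := F) (r := 6) (by norm_num) (-(p⁻¹))
    rw [inv_neg, inv_inv, neg_neg, show 11 - 6 = 5 from rfl] at h6
    rw [h6, act2, act2, RS_right, hfix 6 (by simp), ← hK2]
    have hN := Ng6 (Units.mk0 _ hb)
    rw [Units.val_mk0] at hN
    simp only [hK]
    rw [hN, act2]
    have hc : T 1 (Units.mk0 _ hb) * Ns (F := F) 1 = Ns 1 * T 1 (Units.mk0 _ hb)⁻¹ := by
      have h := Ns1_T (F := F) 1 (Units.mk0 _ hb)⁻¹
      rw [one_pow, one_div, inv_inv] at h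
      rw [← h]; group
    rw [← act2, ← act2, hc]
  have hKK : (γ * γ) • v₀ = ∑ s : F, RS σ 6 (σ (Ns 1) (σ (X 6 s) (σ (Ns 1) v₀))) := by
    rw [← map_sum, ← map_sum, ← RS_apply]
    change _ = RS σ 6 (σ (Ns 1) (K v₀))
    rw [hγ, map_smul, map_smul, show RS σ 6 (σ (Ns 1) v₀) = γ • v₀ from hγ, smul_smul]
  rw [Finset.sum_congr rfl fun s _ => hterm s, ← Finset.add_sum_erase _ _ (Finset.mem_univ (0 : F)), mul_zero,
    X_zero, map_one, Module.End.one_apply, RS_fix (hfix 6 (by simp))] at hKK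
  have hq0 : (Fintype.card F : ℂ) ≠ 0 := Nat.cast_ne_zero.2 Fintype.card_ne_zero
  have hγ0 : γ ≠ 0 := by
    intro hg
    rw [hg, mul_zero, zero_smul, Finset.sum_eq_zero fun s hs => by
      obtain ⟨b, hb⟩ := hopp (e5 * s) (mul_ne_zero he5 (Finset.mem_erase.1 hs).1)
      rw [hb, hg, zero_smul, smul_zero, smul_zero], add_zero, smul_smul] at hKK
    rcases smul_eq_zero.1 hKK.symm with h | h
    · refine mul_ne_zero ?_ hq0 h
      intro e
      exact h0 (rho_inj (T 1 (-1)) (by rw [hμ, e, zero_smul, map_zero]))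
    · exact h0 h
  have hsym : ∀ a b, μ 1 b = μ 1 (a ^ 3 / b) := fun a b => by
    have h := hTK a b v₀
    rw [hμ a (a ^ 3 / b)] at h
    simp only [hK, map_smul] at h
    rw [show RS σ 6 (σ (Ns 1) v₀) = γ • v₀ from hγ, map_smul, hμ, smul_smul, smul_smul, hTμ a b,
      hTμ a (a ^ 3 / b), mul_comm (μ 1 (a ^ 3 / b))] at h
    exact mul_left_cancel₀ hγ0 (smul_left_injective ℂ h0 h)
  have hmul : ∀ b c, μ 1 (b * c) = μ 1 b * μ 1 c := fun b c => smul_left_injective ℂ h0 (by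
    show μ 1 (b * c) • v₀ = (μ 1 b * μ 1 c) • v₀
    rw [← hμ, show T (1 : Fˣ) (b * c) = T 1 b * T 1 c by rw [T_mul, one_mul], act2, hμ, map_smul, hμ, smul_smul,
      mul_comm])
  have hμ1 : ∀ b, μ 1 b = 1 := fun b => by
    have h2 : μ 1 b * μ 1 b = 1 := by
      have := hsym 1 b
      rw [one_pow, one_div] at this
      nth_rewrite 2 [this]
      rw [← hmul, mul_inv_cancel, hμ11]
    have h3 : μ 1 b * μ 1 b * μ 1 b = 1 := by
      rw [← hmul, ← hmul, ← pow_three', ← hμ11]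
      have := hsym b 1
      rw [div_one] at this
      exact this.symm
    rwa [h2, one_mul] at h3
  have hTall : ∀ a b, σ (T a b) v₀ = v₀ := fun a b => by rw [hμ, hTμ, hμ1, one_smul]
  refine ⟨hN, hTall, ?_⟩
  rw [Finset.sum_congr rfl fun s hs => (by
    obtain ⟨b, hb⟩ := hopp (e5 * s) (mul_ne_zero he5 (Finset.mem_erase.1 hs).1)
    rw [hb, hμ1, hμ1, one_smul, one_smul] : μ 1 (-1) • RS σ 6 (σ (X 5 (e5 * s)) v₀) = γ • v₀),
    hμ1, one_smul, Finset.sum_const, Finset.card_erase_of_mem (Finset.mem_univ _), Finset.card_univ,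
    ← Nat.cast_smul_eq_nsmul ℂ, smul_smul, ← add_smul] at hKK
  have hquad := smul_left_injective ℂ h0 hKK
  rw [Nat.cast_sub (by omega : 1 ≤ Fintype.card F), Nat.cast_one] at hquad
  have hfac : (γ - (Fintype.card F : ℂ)) * (γ + 1) = 0 := by linear_combination hquad
  rcases mul_eq_zero.1 hfac with h | h
  · exfalso
    have hg := sub_eq_zero.1 h
    have hrig : ∀ t, σ (X 6 t) (σ (Ns 1) v₀) = v₀ := NN_rigid (fun t : F => X 6 t) (by
      rw [← RS_apply]
      show K v₀ = _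
      rw [hγ, hg])
    have hN1 : σ (Ns 1) v₀ = v₀ := by
      have := hrig 0
      rwa [X_zero, map_one, Module.End.one_apply] at this
    have h5 : ∀ t, σ (X 5 t) v₀ = v₀ := fun t => by
      have h := Ns_fix' (σ := σ) (i := 1) (r := 5) (r' := 6) (by norm_num) (by norm_num) rfl (hfix 6 (by simp)) t
      rwa [hN1] at h
    let K' : Subgroup (GG F) :=
      { carrier := {g | σ g v₀ = v₀}
        one_mem' := by simp
        mul_mem' := fun {a b} ha hb => by
          show σ (a * b) v₀ = v₀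
          rw [act2, hb, ha]
        inv_mem' := fun {a} ha => by
          show σ a⁻¹ v₀ = v₀
          conv_lhs => rw [← (ha : σ a v₀ = v₀)]
          rw [← act2, inv_mul_cancel, map_one, Module.End.one_apply] }
    have htop := gen_top K' fun t => ⟨h7 t, h4 t, hfix 6 (by simp) t, h5 t⟩
    let S : Subrepresentation σ := ⟨Submodule.span ℂ {v₀}, fun g v hv => by
      obtain ⟨c, rfl⟩ := Submodule.mem_span_singleton.1 hv
      rw [map_smul, (htop ▸ Subgroup.mem_top g : g ∈ K')]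
      exact Submodule.mem_span_singleton.2 ⟨c, rfl⟩⟩
    rcases IsSimpleOrder.eq_bot_or_eq_top S with hS | hS
    · have : Submodule.span ℂ {v₀} = ⊥ := congrArg Subrepresentation.toSubmodule hS
      exact h0 (Submodule.span_singleton_eq_bot.1 this)
    · have : Submodule.span ℂ {v₀} = ⊤ := congrArg Subrepresentation.toSubmodule hS
      have h1 := finrank_span_singleton (K := ℂ) h0
      rw [this, finrank_top] at h1
      omega
  · show K v₀ = _
    rw [hγ, eq_neg_of_add_eq_zero_left h, neg_one_smul]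

end One

/-- conjugation carrying one root group onto another -/
def Car (g : GG F) (r r' : ℕ) : Prop := ∃ e : F, e ≠ 0 ∧ ∀ t, g⁻¹ * X r t * g = X r' (e * t)

theorem Car.comp {g h : GG F} {r r' r'' : ℕ} (h1 : Car g r r') (h2 : Car h r' r'') : Car (g * h) r r'' := by
  obtain ⟨e, he, h1⟩ := h1
  obtain ⟨e', he', h2⟩ := h2
  refine ⟨e' * e, mul_ne_zero he' he, fun t => ?_⟩
  rw [mul_assoc e', ← h2, ← h1]
  group

theorem car_Ns {i r : ℕ} (hi : i < 2) (hr : r < 12) : Car (Ns (F := F) i) r (RR i r) :=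
  Ns_conj_inv hi hr

theorem car_Ns_inv {i r : ℕ} (hi : i < 2) (hr : r < 12) : Car (Ns (F := F) i)⁻¹ r (RR i r) := by
  obtain ⟨e, he, h⟩ := Ns_conj (F := F) hi hr
  refine ⟨e, he, fun t => ?_⟩
  have hR : chevG2.reflectRoot i r = RR i r := by
    obtain ⟨a, b⟩ := refl_R r hr
    rcases (show i = 0 ∨ i = 1 by omega) with rfl | rfl
    · exact a
    · exact b
  rw [inv_inv, h, hR]

theorem car_T {r : ℕ} (hr : r < 12) (a b : Fˣ) : Car (T a b) r r := by
  refine ⟨_, (wt r a⁻¹ b⁻¹).ne_zero, fun t => ?_⟩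
  have h := T_conj hr a⁻¹ b⁻¹ t
  rwa [← T_inv, inv_inv] at h

section Kill

variable (hcube : ∀ c : Fin 5 → F, Pr σ SQ c → c 4 = 0 → c 3 ≠ 0 → ∃ u : F, c 0 = -(u ^ 3 * c 3))
  (hnc : ∃ n : F, n ≠ 0 ∧ ∀ t : F, t ^ 3 ≠ n)
  (hflat : ∀ c : Fin 5 → F, Pr σ SQ c → c 4 = 0 → c 3 = 0 → c 1 = 0 ∧ c 2 = 0)

/-- projection to an eigenspace of the root `6` -/
noncomputable def EX (σ : Representation ℂ (GG F) V) (x : F) (v : V) : V :=
  ∑ k : F, (phi0 : AddChar F ℂ) (-(x * k)) • σ (X 6 k) v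

theorem EX_X6 (x k : F) (v : V) : EX σ x (σ (X 6 k) v) = (phi0 : AddChar F ℂ) (x * k) • EX σ x v := by
  rw [EX, EX, Finset.smul_sum]
  refine Fintype.sum_equiv (Equiv.addRight k) _ _ fun t => ?_
  rw [← act2, X_add, sm2, Equiv.coe_addRight]
  congr 2
  ring

theorem phi_sum {x : F} (hx : x ≠ 0) : ∑ k : F, (phi0 : AddChar F ℂ) (-(x * k)) = 0 := by
  let ψ : AddChar F ℂ :=
    { toFun := fun k => phi0 (-(x * k))
      map_zero_eq_one' := by simp
      map_add_eq_mul' := fun a b => by rw [mul_add, neg_add, AddChar.map_add_eq_mul] }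
  refine (AddChar.sum_eq_zero_iff_ne_zero (ψ := ψ)).2 fun h => ?_
  obtain ⟨a, ha⟩ := phi0_ne (F := F)
  have h1 := DFunLike.congr_fun h (-(a / x))
  refine ha ?_
  have e : -(x * -(a / x)) = a := by field_simp
  have h2 : (phi0 : AddChar F ℂ) (-(x * -(a / x))) = 1 := h1
  rwa [e] at h2

theorem EX_fix {x : F} (hx : x ≠ 0) {v : V} (h : ∀ k, σ (X 6 k) v = v) : EX σ x v = 0 := by
  rw [EX, Finset.sum_congr rfl fun k _ => by rw [h k], ← Finset.sum_smul, phi_sum hx, zero_smul]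

theorem EX_eig {x : F} {v : V} (h : ∀ k, σ (X 6 k) v = phi0 (x * k) • v) :
    EX σ x v = (Fintype.card F : ℂ) • v := by
  rw [EX, Finset.sum_congr rfl fun k _ => by
    rw [h k, sm2, neg_add_cancel, AddChar.map_zero_eq_one, one_smul], Finset.sum_const, Finset.card_univ,
    ← Nat.cast_smul_eq_nsmul ℂ]

theorem PR_absorb11 (a : F) (v : V) : PR σ (σ (X 11 a) v) = PR σ v := by
  rw [PR_apply, PR_apply, RS_right]

include hcube hnc hflat in
/-- the vectors translated into the other linear characters cannot exist -/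
theorem kill {x : F} (hx : x ≠ 0) {w : V} (hw0 : w ≠ 0) (h6 : ∀ t, σ (X 6 t) w = phi0 (x * t) • w)
    (h10 : ∀ t, σ (X 10 t) w = w) (h11 : ∀ t, σ (X 11 t) w = w) (L : ℂ)
    (hL : ∀ b : F, b ≠ 0 → EX σ x (PR σ (σ (Ng 11 b) w)) = L • w)
    (hne : (Fintype.card F : ℂ) ^ 3 - (Fintype.card F : ℂ) * L ≠ 0) : False := by
  classical
  set g : GG F := Ns 1 * Ns 0 * (Ns 1 * Ns 0) with hg
  have hc : ∀ r r' : ℕ, r < 12 → RR 1 r < 12 → RR 0 (RR 1 r) < 12 → RR 1 (RR 0 (RR 1 r)) < 12 →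
      RR 0 (RR 1 (RR 0 (RR 1 r))) = r' → Car g r r' := fun r r' a b c d h => h ▸
    ((car_Ns (by norm_num) a).comp (car_Ns (by norm_num) b)).comp
      ((car_Ns (by norm_num) c).comp (car_Ns (by norm_num) d))
  obtain ⟨e10, he10, c10⟩ := hc 10 6 (by decide) (by decide) (by decide) (by decide) rfl
  obtain ⟨e0, he0, c0⟩ := hc 6 0 (by decide) (by decide) (by decide) (by decide) rfl
  obtain ⟨e1, he1, c1⟩ := hc 11 1 (by decide) (by decide) (by decide) (by decide) rfl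
  obtain ⟨n, hn0, hn⟩ := hnc
  set xe := x * e10 with hxe
  have hxe0 : xe ≠ 0 := mul_ne_zero hx he10
  set u := -(n * xe) with hu
  have hu0 : u ≠ 0 := neg_ne_zero.2 (mul_ne_zero hn0 hxe0)
  set v' := ∑ t : F, (phi0 : AddChar F ℂ) (-(u * t)) • σ (X 6 t) (RS σ 11 (σ g w)) with hv'
  have hz : v' = 0 := by
    by_contra hv'0
    have f11 : ∀ s, σ (X 11 s) v' = v' := by
      intro s
      rw [hv', map_sum]
      refine Finset.sum_congr rfl fun t _ => ?_
      rw [map_smul, ← act2, ← (com0 (r := 6) (s := 11) (by decide) t s).eq, act2, RS_left]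
    have f6 : ∀ s, σ (X 6 s) v' = phi0 (u * s) • v' := by
      intro s
      rw [hv', map_sum, Finset.smul_sum]
      refine Fintype.sum_equiv (Equiv.addLeft s) _ _ fun t => ?_
      rw [map_smul, ← act2, X_add, Equiv.coe_addLeft, sm2]
      congr 2
      ring
    have f10 : ∀ s, σ (X 10 s) v' = phi0 (xe * s) • v' := by
      intro s
      rw [hv', map_sum, Finset.smul_sum]
      refine Finset.sum_congr rfl fun t _ => ?_
      have hgw : σ (X 10 s) (σ g w) = phi0 (xe * s) • σ g w := by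
        have := congrArg (σ g) (h6 (e10 * s))
        rwa [← act2, ← c10, ← mul_assoc, mul_inv_cancel_left, act2, map_smul, ← mul_assoc, ← hxe] at this
      rw [map_smul, ← act2, show X 10 s * X 6 t = X 6 t * (X 10 s * X 11 (-(t * s))) by
          rw [← c610, mul_assoc (X 6 t)⁻¹, mul_inv_cancel_left], act2, act2, RS_left,
        RS_comm (fun p => com0 (r := 10) (s := 11) (by decide) _ p), hgw, map_smul, map_smul, smul_comm]
    have hm : v' ∈ Es σ ![6, 10, 11] ![u, xe, 0] := fun i t => by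
      fin_cases i
      · exact f6 t
      · exact f10 t
      · simpa using f11 t
    obtain ⟨a, w1, hw1, hw10, e8⟩ := exists_eig 8 (Es σ ![6, 10, 11] ![u, xe, 0]) (fun t v hv =>
      inv_mod11 (by simp) (fun i => by fin_cases i <;> simp) t hv (fix11 (i := 2) rfl rfl hv)) hm hv'0
    obtain ⟨b, w2, hw2, hw20, e9⟩ := exists_eig 9 (Es σ ![6, 10, 11, 8] ![u, xe, 0, a]) (fun t v hv =>
      inv_mod11 (by simp) (fun i => by fin_cases i <;> simp) t hv (fix11 (i := 2) rfl rfl hv))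
      (show w1 ∈ Es σ ![6, 10, 11, 8] ![u, xe, 0, a] from fun i t => by
        fin_cases i
        · exact hw1 0 t
        · exact hw1 1 t
        · exact hw1 2 t
        · exact e8 t) hw10
    obtain ⟨k, hk⟩ := hcube ![u, a, b, xe, 0] ⟨w2, fun i t => by
      fin_cases i
      · exact hw2 0 t
      · exact hw2 3 t
      · exact e9 t
      · exact hw2 1 t
      · exact hw2 2 t, hw20⟩ rfl hxe0
    exact hn k (mul_right_cancel₀ hxe0 (by simpa [hu] using hk.symm))
  -- pull back and project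
  have hrs : RS σ 11 (σ g w) = σ g (RS σ 1 w) := RS_move he1 c1 w
  have hback : ∑ t : F, (phi0 : AddChar F ℂ) (-(u * t)) • σ (X 0 (e0 * t)) (RS σ 1 w) = 0 := by
    refine rho_inj (σ := σ) g (Eq.trans ?_ (hz.trans (map_zero (σ g)).symm))
    rw [hv', map_sum]
    refine Finset.sum_congr rfl fun t _ => ?_
    rw [hrs, map_smul, ← act2, ← c0, ← mul_assoc, mul_inv_cancel_left, act2]
  have hterm : ∀ t z : F, EX σ x (PR σ (σ (X 0 (e0 * t)) (σ (X 1 z) w))) =
      if t = 0 then (if z = 0 then ((Fintype.card F : ℂ) ^ 3) • w else 0) else L • w := by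
    intro t z
    by_cases ht : t = 0
    · subst ht
      rw [mul_zero, X_zero, map_one, Module.End.one_apply, if_pos rfl]
      by_cases hz0 : z = 0
      · subst hz0
        rw [X_zero, map_one, Module.End.one_apply, if_pos rfl, PR_fix (fun i s => by
          fin_cases i
          · simpa using h10 s
          · simpa using h11 s)]
        rw [EX_eig (fun k => by rw [map_smul, h6, smul_comm]), smul_smul]
        ring_nf
      · rw [if_neg hz0]
        have hb : -(z⁻¹) ≠ 0 := neg_ne_zero.2 (inv_ne_zero hz0)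
        have h := X_neg_root (F := F) (r := 10) (by norm_num) (-(z⁻¹))
        rw [inv_neg, inv_inv, neg_neg, show 11 - 10 = 1 from rfl] at h
        rw [h, act2, act2, PR_absorb10, h10]
        exact EX_fix hx fun k => E0_fix (PR_n10 hflat hb h11) (by simp) k
    · rw [if_neg ht]
      set y := e0 * t with hy
      have hy0 : y ≠ 0 := mul_ne_zero he0 ht
      have hk : X 0 y * X 1 z = (X 6 (z / y))⁻¹ * X 0 y * X 6 (z / y) := by
        rw [c60, div_mul_cancel₀ _ hy0]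
      have hb : -(y⁻¹) ≠ 0 := neg_ne_zero.2 (inv_ne_zero hy0)
      have h := X_neg_root (F := F) (r := 11) (by norm_num) (-(y⁻¹))
      rw [inv_neg, inv_inv, neg_neg, show 11 - 11 = 0 from rfl] at h
      rw [← act2, hk, act2, act2, h6, map_smul, map_smul, map_smul, X_inv, PR_X6, h, act2, act2, PR_absorb11,
        h11]
      have hlin : ∀ (c : ℂ) (v : V), EX σ x (c • v) = c • EX σ x v := fun c v => by
        rw [EX, EX, Finset.smul_sum]
        exact Finset.sum_congr rfl fun k _ => by rw [map_smul, smul_comm]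
      rw [hlin, EX_X6, hL _ hb, sm2, show x * (z / y) + x * -(z / y) = 0 by ring, AddChar.map_zero_eq_one, one_smul]
  have hsum : ∑ t : F, (phi0 : AddChar F ℂ) (-(u * t)) •
      ∑ z : F, EX σ x (PR σ (σ (X 0 (e0 * t)) (σ (X 1 z) w))) = 0 := by
    have h := congrArg (fun v => EX σ x (PR σ v)) hback
    simp only [RS_apply, map_sum, map_smul] at h
    rw [EX, EX] at h
    simp only [map_sum, map_smul, map_zero, smul_zero, Finset.sum_const_zero, Finset.smul_sum] at h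
    rw [Finset.sum_comm] at h
    refine Eq.trans (Finset.sum_congr rfl fun t _ => ?_) h
    simp only [EX, map_sum, map_smul, Finset.smul_sum]
    rw [Finset.sum_comm]
    exact Finset.sum_congr rfl fun k _ => Finset.sum_congr rfl fun z _ => smul_comm _ _ _
  simp only [hterm] at hsum
  rw [← Finset.add_sum_erase _ _ (Finset.mem_univ (0 : F))] at hsum
  simp only [if_pos, mul_zero, neg_zero, AddChar.map_zero_eq_one, one_smul, Finset.sum_ite_eq',
    Finset.mem_univ] at hsum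
  rw [Finset.sum_congr rfl fun t ht => by
    rw [Finset.sum_congr rfl fun z _ => if_neg (Finset.mem_erase.1 ht).1, Finset.sum_const, Finset.card_univ,
      ← Nat.cast_smul_eq_nsmul ℂ, smul_smul, smul_smul, mul_assoc], ← Finset.sum_smul, ← Finset.sum_mul,
    ← add_smul] at hsum
  have hs : ∑ t ∈ (Finset.univ : Finset F).erase 0, (phi0 : AddChar F ℂ) (-(u * t)) = -1 := by
    have := phi_sum hu0
    rw [← Finset.add_sum_erase _ _ (Finset.mem_univ (0 : F)), mul_zero, neg_zero, AddChar.map_zero_eq_one] at this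
    exact eq_neg_of_add_eq_zero_right this
  rw [hs] at hsum
  rcases smul_eq_zero.1 hsum with h | h
  · exact hne (by linear_combination h)
  · exact hw0 h

end Kill

/-- the spectrum of cubes is impossible -/
theorem no_cubic [σ.IsIrreducible] (hk : 2 ≤ finrank ℂ V) (hq : 5 ≤ Fintype.card F)
    (hnc : ∃ n : F, n ≠ 0 ∧ ∀ t : F, t ^ 3 ≠ n)
    (he1 : finrank ℂ ↥(Es σ SQ 0) ≤ 1)
    (hcube : ∀ c : Fin 5 → F, Pr σ SQ c → c 4 = 0 → c 3 ≠ 0 → ∃ u : F, c 0 = -(u ^ 3 * c 3))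
    (hflat : ∀ c : Fin 5 → F, Pr σ SQ c → c 4 = 0 → c 3 = 0 → c 1 = 0 ∧ c 2 = 0)
    {x : F} (hx : x ≠ 0) (hP : Pr σ SQ ![x, 0, 0, 0, 0]) : False := by
  classical
  have hq0 : (Fintype.card F : ℂ) ≠ 0 := Nat.cast_ne_zero.2 Fintype.card_ne_zero
  by_cases hE : ∀ v ∈ Es σ SQ 0, v = 0
  · obtain ⟨w, hw, hw0⟩ := hP
    have h6 : ∀ t, σ (X 6 t) w = phi0 (x * t) • w := fun t => hw 0 t
    have h10 : ∀ t, σ (X 10 t) w = w := fun t => by simpa [SQ] using hw 3 t
    have h11 : ∀ t, σ (X 11 t) w = w := fun t => by simpa [SQ] using hw 4 t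
    refine kill hcube hnc hflat hx hw0 h6 h10 h11 0 (fun b hb => ?_) ?_
    · have h := hE _ (PR_n11 hflat hb h10)
      have : PR σ (σ (Ng 11 b) w) = 0 := rho_inj (Ns 1)⁻¹ (by rw [h, map_zero])
      rw [this, zero_smul, EX]
      simp
    · simpa using pow_ne_zero 3 hq0
  push Not at hE
  obtain ⟨v₀, hv₀, h0⟩ := hE
  obtain ⟨hN0, hT, hK⟩ := hecke hflat he1 hq hk hv₀ h0
  have hfix : ∀ r ∈ ([6, 8, 9, 10, 11] : List ℕ), ∀ t, σ (X r t) v₀ = v₀ := fun r hr t => E0_fix hv₀ hr t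
  set v₁ := σ (Ns 1) v₀ with hv1
  set v₂ := σ (Ns 0) v₁ with hv2
  set v₃ := σ (Ns 1) v₂ with hv3
  have f1_10 : ∀ t, σ (X 10 t) v₁ = v₁ :=
    Ns_fix' (r' := 11) (by norm_num) (by norm_num) rfl (hfix 11 (by simp))
  have f1_11 : ∀ t, σ (X 11 t) v₁ = v₁ :=
    Ns_fix' (r' := 10) (by norm_num) (by norm_num) rfl (hfix 10 (by simp))
  have f2_11 : ∀ t, σ (X 11 t) v₂ = v₂ := Ns_fix' (r' := 11) (by norm_num) (by norm_num) rfl f1_11
  have f3_10 : ∀ t, σ (X 10 t) v₃ = v₃ := Ns_fix' (r' := 11) (by norm_num) (by norm_num) rfl f2_11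
  have hT1 : ∀ a b, σ (T a b) v₁ = v₁ := by
    intro a b
    have h := Ns1_T (F := F) a (a ^ 3 / b)
    rw [div_div_cancel] at h
    rw [hv1, ← act2, ← h, show Ns 1 * T a (a ^ 3 / b) * (Ns 1)⁻¹ * Ns 1 = Ns 1 * T a (a ^ 3 / b) by group,
      act2, hT]
  have hn10 : ∀ b : F, b ≠ 0 → σ (Ng 10 b) v₀ = v₂ := by
    intro b hb
    obtain ⟨c, hc⟩ := n10_form (F := F) b hb
    rw [hc, act2, act2, act2, inv_Ns hN0, hT1]
  have hn11 : ∀ b : F, b ≠ 0 → σ (Ng 11 b) v₁ = v₃ := by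
    intro b hb
    obtain ⟨b', hb', h⟩ := n11_form (F := F) b hb
    rw [h, act2, act2, hv1, ← act2 (Ns 1)⁻¹, inv_mul_cancel, map_one, Module.End.one_apply, hn10 b' hb']
  have hR10v2 : RS σ 10 v₂ = -v₀ := by
    rw [hv2, RS_Ns (by norm_num) (by norm_num), show RR 0 10 = 6 from rfl, hK, map_neg, hN0]
  have hPv2 : PR σ v₂ = -(Fintype.card F : ℂ) • v₀ := by
    rw [PR_apply, RS_fix f2_11, map_smul, hR10v2, smul_neg, neg_smul]
  have hPv3 : PR σ v₃ = -(Fintype.card F : ℂ) • v₁ := by rw [hv3, PR_Ns1, hPv2, map_smul]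
  have hPn : ∀ b : F, b ≠ 0 → PR σ (σ (Ng 10 b) v₃) = v₁ := by
    intro b hb
    obtain ⟨e, he, h⟩ := Ns_Ng (F := F) (i := 1) (r := 11) (by norm_num) (by norm_num)
    obtain ⟨e', he', h'⟩ := Ns_Ng (F := F) (i := 0) (r := 11) (by norm_num) (by norm_num)
    have hc := h (b / e)
    rw [show RR 1 11 = 10 from rfl, mul_div_cancel₀ _ he] at hc
    have hc' := h' (b / e / e')
    rw [show RR 0 11 = 11 from rfl, mul_div_cancel₀ _ he'] at hc'
    rw [← hc, ← hc', act2, act2, hv3, ← act2 (Ns 1)⁻¹, inv_mul_cancel, map_one, Module.End.one_apply, hv2, act2,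
      act2, ← act2 (Ns 0)⁻¹, inv_mul_cancel, map_one, Module.End.one_apply,
      hn11 _ (div_ne_zero (div_ne_zero hb he) he'), PR_Ns1, PR_apply, RS_Ns (by norm_num) (by norm_num),
      show RR 0 11 = 11 from rfl, hv3, RS_Ns (by norm_num) (by norm_num), show RR 0 10 = 6 from rfl,
      RS_Ns (by norm_num) (by norm_num), show RR 1 11 = 10 from rfl, hR10v2]
    simp only [map_neg, hK, hN0, neg_neg, ← hv1]
  have hval : ∀ b : F, b ≠ 0 → PR σ (σ (Ng 11 b) (EX σ x v₁)) = -((Fintype.card F : ℂ) + 1) • v₁ := by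
    intro b hb
    obtain ⟨b', hb', h11b⟩ := n11_form (F := F) b hb
    obtain ⟨c, hc⟩ := n10_form (F := F) b' hb'
    have hcar : Car (Ng 11 b) 1 6 := by
      rw [h11b, hc]
      exact ((car_Ns (i := 1) (r := 1) (by norm_num) (by norm_num) : Car (Ns 1) 1 0).comp
        (((((car_Ns (i := 0) (r := 0) (by norm_num) (by norm_num) : Car (Ns 0) 0 0).comp
          (car_T (r := 0) (by norm_num) 1 c)).comp
          (car_Ns (i := 1) (r := 0) (by norm_num) (by norm_num) : Car (Ns 1) 0 1))).comp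
            (car_Ns_inv (i := 0) (r := 1) (by norm_num) (by norm_num) : Car (Ns 0)⁻¹ 1 5))).comp
        (car_Ns_inv (i := 1) (r := 5) (by norm_num) (by norm_num) : Car (Ns 1)⁻¹ 5 6)
    obtain ⟨e, he, hcar⟩ := hcar
    have hk' : ∀ k : F, PR σ (σ (Ng 11 b) (σ (X 6 k) v₁)) =
        if k = 0 then -(Fintype.card F : ℂ) • v₁ else v₁ := by
      intro k
      by_cases hk0 : k = 0
      · subst hk0
        rw [X_zero, map_one, Module.End.one_apply, if_pos rfl, hn11 b hb, hPv3]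
      · rw [if_neg hk0]
        have hz0 : k / e ≠ 0 := div_ne_zero hk0 he
        have hsw : Ng 11 b * X 6 k = X 1 (k / e) * Ng 11 b := by
          have := hcar (k / e)
          rw [mul_div_cancel₀ _ he] at this
          rw [← this]; group
        have hb0 : -((k / e)⁻¹) ≠ 0 := neg_ne_zero.2 (inv_ne_zero hz0)
        have h := X_neg_root (F := F) (r := 10) (by norm_num) (-((k / e)⁻¹))
        rw [inv_neg, inv_inv, neg_neg, show 11 - 10 = 1 from rfl] at h
        rw [← act2, hsw, act2, hn11 b hb, h, act2, act2, PR_absorb10, f3_10, hPn _ hb0]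
    rw [EX, map_sum, map_sum]
    simp only [map_smul, hk']
    rw [← Finset.add_sum_erase _ _ (Finset.mem_univ (0 : F)), Finset.sum_congr rfl fun k hk' => by
      rw [if_neg (Finset.mem_erase.1 hk').1], ← Finset.sum_smul, if_pos rfl, mul_zero, neg_zero,
      AddChar.map_zero_eq_one, one_smul, ← add_smul]
    have hs := phi_sum hx
    rw [← Finset.add_sum_erase _ _ (Finset.mem_univ (0 : F)), mul_zero, neg_zero, AddChar.map_zero_eq_one] at hs
    congr 1
    linear_combination hs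
  have hw0 : EX σ x v₁ ≠ 0 := by
    intro h
    have h1 := hval 1 one_ne_zero
    rw [h, map_zero, map_zero] at h1
    have hne : -((Fintype.card F : ℂ) + 1) ≠ 0 := neg_ne_zero.2 (Nat.cast_add_one_ne_zero _)
    exact h0 (rho_inj (Ns 1) (by rw [← hv1, (smul_eq_zero.1 h1.symm).resolve_left hne, map_zero]))
  refine kill hcube hnc hflat hx hw0 (fun t => ?_) (fun t => ?_) (fun t => ?_)
    (-((Fintype.card F : ℂ) + 1)) (fun b hb => ?_) ?_
  · rw [EX, map_sum, Finset.smul_sum]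
    refine Fintype.sum_equiv (Equiv.addLeft t) _ _ fun k => ?_
    rw [map_smul, ← act2, X_add, Equiv.coe_addLeft, sm2]
    congr 2
    ring
  · rw [EX, map_sum]
    refine Finset.sum_congr rfl fun k _ => ?_
    rw [map_smul, ← act2, show X 10 t * X 6 k = X 6 k * (X 10 t * X 11 (-(k * t))) by
      rw [← c610, mul_assoc (X 6 k)⁻¹, mul_inv_cancel_left], act2, act2, f1_11, f1_10]
  · rw [EX, map_sum]
    refine Finset.sum_congr rfl fun k _ => ?_
    rw [map_smul, ← act2, ← (com0 (r := 6) (s := 11) (by decide) k t).eq, act2, f1_11]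
  · rw [hval b hb, EX, EX, Finset.smul_sum]
    exact Finset.sum_congr rfl fun k _ => by rw [map_smul, smul_comm]
  · have e : (Fintype.card F : ℂ) ^ 3 - (Fintype.card F : ℂ) * -((Fintype.card F : ℂ) + 1) =
        (((Fintype.card F) ^ 3 + Fintype.card F * (Fintype.card F + 1) : ℕ) : ℂ) := by push_cast; ring
    rw [e, Nat.cast_ne_zero]
    positivity

end Cfsg.Agent.G2MinDeg86
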