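import Cfsg.Agent.Lib.G2MinDeg86Three

/-!
The spectrum of the radical of a parabolic subgroup of G2 in characteristic different from three.
-/

set_option autoImplicit false
set_option linter.unusedSectionVars false
set_option maxRecDepth 20000
set_option maxHeartbeats 1000000

namespace Cfsg.Agent.G2MinDeg86

open Cfsg.Lie Module
open Cfsg.Agent.SLMinDegree32 (phi0 phi0_ne chi chi_apply chi_bijective)

/-- root families -/
def SQ : Fin 5 → ℕ := ![6, 8, 9, 10, 11]
/-- root families -/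
def SZ : Fin 3 → ℕ := ![9, 10, 11]

theorem SQ_lt : ∀ i, SQ i < 12 := by decide
theorem SZ_lt : ∀ i, SZ i < 12 := by decide

theorem pr_mod11 : ∀ r ∈ ([6, 8, 9, 10, 11] : List ℕ), ∀ s ∈ ([6, 8, 9, 10, 11] : List ℕ), r = s ∨
    pairOK r s [] = true ∨ pairOK r s [(11, 3, 1, 1)] = true ∨ pairOK r s [(11, -3, 1, 1)] = true ∨
      pairOK r s [(11, 1, 1, 1)] = true ∨ pairOK r s [(11, -1, 1, 1)] = true := by decide +kernel

variable {F : Type*} [Field F]

theorem conj_mod11 {r s : ℕ} (hr : r ∈ ([6, 8, 9, 10, 11] : List ℕ)) (hs : s ∈ ([6, 8, 9, 10, 11] : List ℕ))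
    (u t : F) : ∃ z : F, (X r u)⁻¹ * X s t * X r u = X s t * X 11 z := by
  have one : ∀ l : List (ℕ × ℤ × ℕ × ℕ), (∀ u t : F, ∃ z, W l u t = X 11 z) → pairOK r s l = true →
      ∃ z : F, (X r u)⁻¹ * X s t * X r u = X s t * X 11 z := by
    intro l hl h
    obtain ⟨z, hz⟩ := hl u t
    exact ⟨z, by rw [conjX h, hz]⟩
  rcases pr_mod11 r hr s hs with rfl | h | h | h | h | h
  · exact ⟨0, by rw [X_zero, mul_one, conj_fixed (com_self r)]⟩
  · exact one _ (fun u t => ⟨0, by rw [X_zero]; rfl⟩) h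
  all_goals
    exact one _ (fun u t => ⟨_, by simp only [W, List.map_cons, List.map_nil, List.prod_cons, List.prod_nil, mul_one]; rfl⟩) h

variable [Fintype F] {V : Type} [AddCommGroup V] [Module ℂ V] {σ : Representation ℂ (GG F) V}

theorem inv_mod11 {n : ℕ} {S : Fin n → ℕ} {c : Fin n → F} {r : ℕ} (hr : r ∈ ([6, 8, 9, 10, 11] : List ℕ))
    (hS : ∀ i, S i ∈ ([6, 8, 9, 10, 11] : List ℕ)) (u : F) {v : V} (hv : v ∈ Es σ S c)
    (h11 : ∀ t, σ (X 11 t) v = v) : σ (X r u) v ∈ Es σ S c := by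
  refine mov_mem fun i t => ?_
  obtain ⟨z, hz⟩ := conj_mod11 hr (hS i) u t
  rw [hz, act2, h11]
  exact hv i t

theorem fix11 {n : ℕ} {S : Fin n → ℕ} {c : Fin n → F} {i : Fin n} (hi : S i = 11) (hc : c i = 0)
    {v : V} (hv : v ∈ Es σ S c) (t : F) : σ (X 11 t) v = v := by
  have h := hv i t
  rwa [hi, hc, zero_mul, AddChar.map_zero_eq_one, one_smul] at h

theorem mvQ7 {c : Fin 5 → F} {v : V} (hv : v ∈ Es σ SQ c) (hc : c 4 = 0) (u : F) :
    σ (X 7 u) v ∈ Es σ SQ ![c 0 + u * c 1 + u ^ 2 * c 2 - u ^ 3 * c 3, c 1 + 2 * u * c 2 - 3 * u ^ 2 * c 3,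
      c 2 - 3 * u * c 3, c 3, 0] := by
  have e11 : ∀ t, σ (X 11 t) v = v := fix11 (i := 4) rfl hc hv
  have e6 : ∀ t, σ (X 6 t) v = (phi0 : AddChar F ℂ) (c 0 * t) • v := fun t => hv 0 t
  have e8 : ∀ t, σ (X 8 t) v = (phi0 : AddChar F ℂ) (c 1 * t) • v := fun t => hv 1 t
  have e9 : ∀ t, σ (X 9 t) v = (phi0 : AddChar F ℂ) (c 2 * t) • v := fun t => hv 2 t
  have e10 : ∀ t, σ (X 10 t) v = (phi0 : AddChar F ℂ) (c 3 * t) • v := fun t => hv 3 t
  refine mov_mem fun i t => ?_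
  fin_cases i
  · simp only [SQ, Matrix.cons_val_zero, Fin.isValue, Fin.zero_eta]
    rw [c76, act2, act2, act2, act2]
    simp only [e11, e10, e9, e8, e6, map_smul, sm2]
    exact phi_congr (by ring) v
  · simp only [SQ, Fin.mk_one, Matrix.cons_val_one, Fin.isValue, Matrix.cons_val_zero]
    rw [c78, act2, act2, act2, e11, e10, map_smul, e9, map_smul, map_smul, e8, sm2, sm2]
    exact phi_congr (by ring) v
  · simp only [SQ, Fin.reduceFinMk, Matrix.cons_val]
    rw [c79, act2, e10, map_smul, e9, sm2]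
    exact phi_congr (by ring) v
  · simp only [SQ, Fin.reduceFinMk, Matrix.cons_val]
    rw [conj_fixed (com0 (r := 7) (s := 10) (by decide))]
    exact hv 3 t
  · simp only [SQ, Fin.reduceFinMk, Matrix.cons_val]
    rw [conj_fixed (com0 (r := 7) (s := 11) (by decide)), e11, zero_mul, AddChar.map_zero_eq_one, one_smul]

theorem etaP {c : Fin 5 → F} (h : Pr σ SQ c) {x y : F} (h2 : c 2 = x) (h3 : c 3 = y) (h4 : c 4 = 0) :
    Pr σ SQ ![c 0, c 1, x, y, 0] := by
  convert h using 1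
  funext i
  fin_cases i <;> simp [h2, h3, h4]

theorem mvZ8 {c : Fin 3 → F} {v : V} (hv : v ∈ Es σ SZ c) (u : F) :
    σ (X 8 u) v ∈ Es σ SZ ![c 0 - 3 * u * c 2, c 1, c 2] := by
  refine mov_mem fun i t => ?_
  fin_cases i
  · simp only [SZ, Matrix.cons_val_zero, Fin.isValue, Fin.zero_eta]
    rw [c89, act2, show σ (X 11 _) v = _ from hv 2 _, map_smul, show σ (X 9 t) v = _ from hv 0 t, sm2]
    exact phi_congr (by ring) v
  · simp only [SZ, Fin.mk_one, Matrix.cons_val_one, Fin.isValue, Matrix.cons_val_zero]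
    rw [conj_fixed (com0 (r := 8) (s := 10) (by decide))]
    exact hv 1 t
  · simp only [SZ, Fin.reduceFinMk, Matrix.cons_val]
    rw [conj_fixed (com0 (r := 8) (s := 11) (by decide))]
    exact hv 2 t

theorem mvZ6 {c : Fin 3 → F} {v : V} (hv : v ∈ Es σ SZ c) (u : F) :
    σ (X 6 u) v ∈ Es σ SZ ![c 0, c 1 - u * c 2, c 2] := by
  refine mov_mem fun i t => ?_
  fin_cases i
  · simp only [SZ, Matrix.cons_val_zero, Fin.isValue, Fin.zero_eta]
    rw [conj_fixed (com0 (r := 6) (s := 9) (by decide))]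
    exact hv 0 t
  · simp only [SZ, Fin.mk_one, Matrix.cons_val_one, Fin.isValue, Matrix.cons_val_zero]
    rw [c610, act2, show σ (X 11 _) v = _ from hv 2 _, map_smul, show σ (X 10 t) v = _ from hv 1 t, sm2]
    exact phi_congr (by ring) v
  · simp only [SZ, Fin.reduceFinMk, Matrix.cons_val]
    rw [conj_fixed (com0 (r := 6) (s := 11) (by decide))]
    exact hv 2 t

theorem pr_mix : ∀ p ∈ ([(7, 11), (4, 11), (6, 11), (5, 10), (7, 7), (4, 4)] : List (ℕ × ℕ)),
    p.1 = p.2 ∨ pairOK p.1 p.2 [] = true := by decide +kernel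

/-- `V` has a vector fixed by the centre and moved by the root `10` -/
theorem exists_moved [FiniteDimensional ℂ V] (σ : Representation ℂ (GG F) V) [σ.IsIrreducible] {s₀ : F}
    {v₀ : V} (hv₀ : σ (X 11 s₀) v₀ ≠ v₀) :
    ∃ v ∈ Es σ ![11] ![(0 : F)], ∃ t : F, σ (X 10 t) v ≠ v := by
  by_contra! hall
  set U := Es σ ![11] ![(0 : F)] with hU
  set U' := Es σ ![10] ![(0 : F)] with hU'
  have hle : U ≤ U' := fun v hv i t => by
    fin_cases i
    simpa using hall v hv t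
  obtain ⟨e, he, hmap⟩ := Ns_map (σ := σ) (i := 1) (by omega) (![11] : Fin 1 → ℕ) ![10] id
    (by intro j; fin_cases j; exact ⟨by decide, by decide⟩)
  have hN : ∀ v ∈ U', σ (Ns 1) v ∈ U := fun v hv => by
    have := hmap _ v hv
    convert this using 2
    funext j
    fin_cases j
    simp
  have heq : U = U' := Submodule.eq_of_le_of_finrank_le hle (mov_le (σ := σ) (g := (Ns 1 : GG F)) hN)
  have hcomm : ∀ r : ℕ, r = 7 ∨ r = 4 ∨ r = 6 → ∀ t : F, ∀ v ∈ U, σ (X r t) v ∈ U := by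
    intro r hr t v hv
    refine comm_mem (fun i u => ?_) hv
    fin_cases i
    simp only [Matrix.cons_val_fin_one, Fin.zero_eta]
    rcases hr with rfl | rfl | rfl <;>
      exact comm0 ((pr_mix (_, 11) (by simp)).resolve_left (by decide)) t u
  have h5 : ∀ t : F, ∀ v ∈ U, σ (X 5 t) v ∈ U := by
    intro t v hv
    rw [heq] at hv ⊢
    refine comm_mem (fun i u => ?_) hv
    fin_cases i
    exact comm0 ((pr_mix (5, 10) (by simp)).resolve_left (by decide)) t u
  let K : Subgroup (GG F) :=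
    { carrier := {g | ∀ v, v ∈ U ↔ σ g v ∈ U}
      one_mem' := fun v => by simp
      mul_mem' := fun {a b} ha hb v => by rw [act2]; exact (hb v).trans (ha _)
      inv_mem' := fun {a} ha v => by
        rw [ha (σ a⁻¹ v), ← act2, mul_inv_cancel, map_one, Module.End.one_apply] }
  have hK : ∀ r : ℕ, (∀ t : F, ∀ v ∈ U, σ (X r t) v ∈ U) → ∀ t : F, X r t ∈ K := by
    intro r h t v
    refine ⟨h t v, fun hv => ?_⟩
    have := h (-t) _ hv
    rwa [← act2, X_add, neg_add_cancel, X_zero, map_one, Module.End.one_apply] at this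
  have htop := gen_top K fun t => ⟨hK 7 (hcomm 7 (by simp)) t, hK 4 (hcomm 4 (by simp)) t,
    hK 6 (hcomm 6 (by simp)) t, hK 5 h5 t⟩
  have hbot : U = ⊥ := by
    let S : Subrepresentation σ :=
      ⟨U, fun g v hv => ((htop ▸ Subgroup.mem_top g : g ∈ K) v).1 hv⟩
    rcases IsSimpleOrder.eq_bot_or_eq_top S with h | h
    · exact congrArg Subrepresentation.toSubmodule h
    · exfalso
      apply hv₀
      have hm : v₀ ∈ U := by
        have : S.toSubmodule = ⊤ := congrArg Subrepresentation.toSubmodule h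
        show v₀ ∈ S.toSubmodule
        rw [this]; trivial
      simpa using hm 0 s₀
  obtain ⟨a, ha, w, -, hw0, hw⟩ := exists_eig_ne 11 (⊤ : Submodule ℂ V) (fun _ _ _ => Submodule.mem_top)
    (Submodule.mem_top : v₀ ∈ ⊤) hv₀
  obtain ⟨b, v, hv, hv0, hb⟩ := exists_eig 10 (Es σ ![11] ![a]) (fun t v hv => comm_mem (fun i u => by
    fin_cases i
    exact com0 (by decide) _ _) hv) (fun i t => by fin_cases i; exact hw t) hw0
  have hfix : ∀ t, σ (X 10 t) (σ (X 6 (b / a)) v) = σ (X 6 (b / a)) v := by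
    intro t
    have h : σ ((X 6 (b / a))⁻¹ * X 10 t * X 6 (b / a)) v = v := by
      have e11 : σ (X 11 (-(b / a * t))) v = (phi0 : AddChar F ℂ) (a * -(b / a * t)) • v := hv 0 _
      rw [c610, act2, e11, map_smul, hb, sm2, show a * -(b / a * t) + b * t = 0 by field_simp; ring,
        AddChar.map_zero_eq_one, one_smul]
    have h1 := congrArg (σ (X 6 (b / a))) h
    rwa [← act2, ← mul_assoc, mul_inv_cancel_left, act2] at h1
  have hmem : σ (Ns 1) (σ (X 6 (b / a)) v) ∈ U := hN _ fun i t => by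
    fin_cases i
    simpa using hfix t
  rw [hbot, Submodule.mem_bot] at hmem
  exact hv0 (rho_inj (X 6 (b / a)) (rho_inj (Ns 1 : GG F) (by rw [hmem, map_zero, map_zero])))

section Bound

variable [FiniteDimensional ℂ V] [σ.IsIrreducible] (h3 : (3 : F) ≠ 0) {s₀ : F} {v₀ : V}
  (hv₀ : σ (X 11 s₀) v₀ ≠ v₀)

include h3 hv₀

/-- a normalised character of the radical -/
theorem exists_normal : ∃ f₀ f₁ : F, Pr σ SQ ![f₀, f₁, 0, 1, 0] := by
  obtain ⟨v, hv, t, ht⟩ := exists_moved σ hv₀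
  have h11 : ∀ {w : V}, w ∈ Es σ ![11] ![(0 : F)] → ∀ t, σ (X 11 t) w = w :=
    fun hw => fix11 (i := 0) rfl rfl hw
  obtain ⟨a, ha, w1, hw1, hw10, e10⟩ := exists_eig_ne 10 _ (fun t v hv =>
    inv_mod11 (by simp) (fun i => by fin_cases i; simp) t hv (h11 hv)) hv ht
  obtain ⟨a6, w2, hw2, hw20, e6⟩ := exists_eig 6 (Es σ ![11, 10] ![0, a]) (fun t v hv =>
    inv_mod11 (by simp) (fun i => by fin_cases i <;> simp) t hv (fix11 (i := 0) rfl rfl hv))
    (show w1 ∈ Es σ ![11, 10] ![0, a] from fun i t => by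
      fin_cases i
      · exact hw1 0 t
      · exact e10 t) hw10
  obtain ⟨a8, w3, hw3, hw30, e8⟩ := exists_eig 8 (Es σ ![11, 10, 6] ![0, a, a6]) (fun t v hv =>
    inv_mod11 (by simp) (fun i => by fin_cases i <;> simp) t hv (fix11 (i := 0) rfl rfl hv))
    (show w2 ∈ Es σ ![11, 10, 6] ![0, a, a6] from fun i t => by
      fin_cases i
      · exact hw2 0 t
      · exact hw2 1 t
      · exact e6 t) hw20
  obtain ⟨a9, w4, hw4, hw40, e9⟩ := exists_eig 9 (Es σ ![11, 10, 6, 8] ![0, a, a6, a8]) (fun t v hv =>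
    inv_mod11 (by simp) (fun i => by fin_cases i <;> simp) t hv (fix11 (i := 0) rfl rfl hv))
    (show w3 ∈ Es σ ![11, 10, 6, 8] ![0, a, a6, a8] from fun i t => by
      fin_cases i
      · exact hw3 0 t
      · exact hw3 1 t
      · exact hw3 2 t
      · exact e8 t) hw30
  have hP : Pr σ SQ ![a6, a8, a9, a, 0] := ⟨w4, fun i t => by
    fin_cases i
    · exact hw4 2 t
    · exact hw4 3 t
    · exact e9 t
    · exact hw4 1 t
    · exact hw4 0 t, hw40⟩
  have h3a : (3 : F) * a ≠ 0 := mul_ne_zero h3 ha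
  have hP1 := hP.map _ (fun v hv => mvQ7 hv rfl (a9 / (3 * a)))
  have hP2 := hP1.map _ (fun v hv => T_mem SQ_lt hv 1 (Units.mk0 a ha)⁻¹)
  refine ⟨_, _, etaP hP2 ?_ ?_ ?_⟩
  · simp [SQ, wt9]
    field_simp
    ring
  · simp [SQ, wt10, ha]
  · simp

omit h3 hv₀ in
/-- the torus with fixed weight at the root `10` -/
theorem scale {f₀ f₁ : F} (hP : Pr σ SQ ![f₀, f₁, 0, 1, 0]) (a : Fˣ) :
    Pr σ SQ ![f₀ / (a : F) ^ 3, f₁ / (a : F) ^ 2, 0, 1, 0] := by
  have h := hP.map _ (fun v hv => T_mem SQ_lt hv a (a ^ 3))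
  convert h using 1
  funext i
  have ha := a.ne_zero
  fin_cases i <;> simp [SQ, wt6, wt8, wt9, wt10, wt11] <;> field_simp

/-- the orbit of a normalised character -/
def orb (p : F × F) (z : F × Fˣ) : Fin 5 → F :=
  ![p.1 / (z.2 : F) ^ 2 + z.1 * (p.2 / (z.2 : F)) - z.1 ^ 3 * (z.2 : F), p.2 / (z.2 : F) - 3 * z.1 ^ 2 * (z.2 : F),
    -3 * z.1 * (z.2 : F), (z.2 : F), 0]

omit h3 hv₀ in
theorem orb_mem {p : F × F} (hP : Pr σ SQ ![p.1, p.2, 0, 1, 0]) (z : F × Fˣ) : Pr σ SQ (orb p z) := by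
  obtain ⟨u, b⟩ := z
  have hT : Pr σ SQ ![p.1 / (b : F) ^ 2, p.2 / (b : F), 0, (b : F), 0] := by
    have h2 := hP.map _ (fun v hv => T_mem SQ_lt hv 1 b)
    convert h2 using 1
    funext i
    have hb := b.ne_zero
    fin_cases i <;> simp [SQ, wt6, wt8, wt9, wt10, wt11] <;> field_simp
  have h1 := hT.map _ (fun v hv => mvQ7 hv rfl u)
  convert h1 using 1
  funext i
  fin_cases i <;> simp [orb]

end Bound

end Cfsg.Agent.G2MinDeg86
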