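import Cfsg.Agent.Lib.G2MinDeg86Gen

/-!
Counting the characters of the radical in characteristic different from three.
-/

set_option autoImplicit false
set_option linter.unusedSectionVars false
set_option maxRecDepth 20000
set_option maxHeartbeats 1000000

namespace Cfsg.Agent.G2MinDeg86

open Cfsg.Lie Module
open Cfsg.Agent.SLMinDegree32 (phi0 phi0_ne chi chi_apply chi_bijective)

variable {F : Type*} [Field F] [Fintype F] {V : Type} [AddCommGroup V] [Module ℂ V] [FiniteDimensional ℂ V]
  {σ : Representation ℂ (GG F) V}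

theorem count_U (B : Finset (Fin 5 → F)) (hB : ∀ c ∈ B, Pr σ SQ c ∧ c 4 = 0) (h0 : (0 : Fin 5 → F) ∉ B) :
    B.card + finrank ℂ ↥(Es σ SQ 0) ≤ finrank ℂ ↥(Es σ ![11] ![(0 : F)]) := by
  classical
  have hin : ∀ c : Fin 5 → F, c 4 = 0 → Es σ SQ c ≤ Es σ ![11] ![(0 : F)] := fun c hc v hv i t => by
    fin_cases i
    have h := hv 4 t
    rw [hc] at h
    exact h
  have h := sum_le (σ := σ) SQ (Es σ ![11] ![(0 : F)]) (insert 0 B)
  rw [Finset.sum_insert h0, inf_eq_right.2 (hin 0 rfl)] at h
  have h2 : B.card ≤ ∑ c ∈ B, finrank ℂ ↥(Es σ ![11] ![(0 : F)] ⊓ Es σ SQ c) := by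
    refine le_trans ?_ (Finset.card_nsmul_le_sum B _ 1 fun c hc => ?_)
    · simp
    · obtain ⟨⟨v, hv, hv0⟩, hc4⟩ := hB c hc
      exact pos_of_mem (Submodule.mem_inf.2 ⟨hin c hc4 hv, hv⟩) hv0
  omega

section Bound

variable [σ.IsIrreducible] (h3 : (3 : F) ≠ 0) {s₀ : F} {v₀ : V} (hv₀ : σ (X 11 s₀) v₀ ≠ v₀)

include h3 hv₀

/-- the part where the centre acts non-trivially -/
theorem gen_master : Fintype.card F ^ 2 * (Fintype.card F - 1) + finrank ℂ ↥(Es σ ![11] ![(0 : F)]) ≤
    finrank ℂ V := by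
  classical
  obtain ⟨a, ha, w1, -, hw10, e11⟩ := exists_eig_ne 11 (⊤ : Submodule ℂ V) (fun _ _ _ => Submodule.mem_top)
    (Submodule.mem_top : v₀ ∈ ⊤) hv₀
  obtain ⟨a10, w2, hw2, hw20, e10⟩ := exists_eig 10 (Es σ ![11] ![a]) (fun t v hv => comm_mem (fun i u => by
    fin_cases i; exact com0 (by decide) _ _) hv) (fun i t => by fin_cases i; exact e11 t) hw10
  obtain ⟨a9, w3, hw3, hw30, e9⟩ := exists_eig 9 (Es σ ![11, 10] ![a, a10]) (fun t v hv => comm_mem (fun i u => by
    fin_cases i <;> exact com0 (by decide) _ _) hv)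
    (show w2 ∈ Es σ ![11, 10] ![a, a10] from fun i t => by
      fin_cases i
      · exact hw2 0 t
      · exact e10 t) hw20
  have hP : Pr σ SZ ![a9, a10, a] := ⟨w3, fun i t => by
    fin_cases i
    · exact e9 t
    · exact hw3 1 t
    · exact hw3 0 t, hw30⟩
  have hall : ∀ x y : F, ∀ z : F, z ≠ 0 → Pr σ SZ ![x, y, z] := by
    intro x y z hz
    have hT := hP.map _ (fun v hv => T_mem SZ_lt hv 1 (Units.mk0 (a / z) (div_ne_zero ha hz)))
    obtain ⟨x', y', hT⟩ : ∃ x' y', Pr σ SZ ![x', y', z] := by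
      have key : ∀ c : Fin 3 → F, Pr σ SZ c → c 2 = z → ∃ x' y', Pr σ SZ ![x', y', z] := fun c hc h2 =>
        ⟨c 0, c 1, by convert hc using 1; funext i; fin_cases i <;> simp [h2]⟩
      refine key _ hT ?_
      simp [SZ, wt11]
      field_simp
    have h8 := (hT.map _ (fun v hv => mvZ8 hv ((x' - x) / (3 * z)))).map _
      (fun v hv => mvZ6 hv ((y' - y) / z))
    convert h8 using 1
    funext i
    fin_cases i
    · simp
      field_simp
      ring
    · simp [div_mul_cancel₀ _ hz]
    · simp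
  have hin : ∀ x y z : F, Es σ SZ ![x, y, z] ≤ Es σ ![11] ![z] := fun x y z v hv i t => by
    fin_cases i
    exact hv 2 t
  have hbig : ∀ z : F, z ≠ 0 → Fintype.card F ^ 2 ≤ finrank ℂ ↥(Es σ ![11] ![z]) := by
    intro z hz
    have := card_mul_le (σ := σ) (m := 1) SZ (Es σ ![11] ![z])
      (Finset.univ.image fun p : F × F => ![p.1, p.2, z]) (fun c hc => by
        obtain ⟨p, -, rfl⟩ := Finset.mem_image.1 hc
        obtain ⟨v, hv, hv0⟩ := hall p.1 p.2 z hz
        exact pos_of_mem (Submodule.mem_inf.2 ⟨hin _ _ _ hv, hv⟩) hv0)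
    rwa [Finset.card_image_of_injective _ (fun a b e => Prod.ext (by simpa using congrFun e 0)
      (by simpa using congrFun e 1)), Finset.card_univ, Fintype.card_prod, mul_one, ← sq] at this
  have h := sum_le (σ := σ) ![11] ⊤ ((Finset.univ : Finset F).image fun z => ![z])
  rw [Finset.sum_image (fun a _ b _ e => by simpa using congrFun e 0), finrank_top,
    Finset.sum_congr rfl fun (z : F) _ => by rw [top_inf_eq],
    ← Finset.add_sum_erase _ _ (Finset.mem_univ (0 : F))] at h
  have h2 := Finset.card_nsmul_le_sum ((Finset.univ : Finset F).erase 0)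
    (fun z => finrank ℂ ↥(Es σ ![11] ![z])) _ (fun z hz => hbig z (Finset.mem_erase.1 hz).1)
  rw [Finset.card_erase_of_mem (Finset.mem_univ _), Finset.card_univ, smul_eq_mul] at h2
  rw [mul_comm]
  omega

/-- the orbits of the characters trivial on the centre -/
theorem gen_cases (hq : 5 ≤ Fintype.card F) :
    Fintype.card F ^ 2 + 1 ≤ finrank ℂ ↥(Es σ ![11] ![(0 : F)]) ∨
      (Fintype.card F ^ 2 - 1 + finrank ℂ ↥(Es σ SQ 0) ≤ finrank ℂ ↥(Es σ ![11] ![(0 : F)]) ∧
        finrank ℂ ↥(Es σ SQ 0) ≤ 1 ∧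
        (∀ c, Pr σ SQ c → c 4 = 0 → c 3 ≠ 0 → ∃ u : F, c 0 = -(u ^ 3 * c 3)) ∧
        (∀ c, Pr σ SQ c → c 4 = 0 → c 3 = 0 → c 1 = 0 ∧ c 2 = 0) ∧
        ∃ x : F, x ≠ 0 ∧ Pr σ SQ ![x, 0, 0, 0, 0]) := by
  classical
  set q := Fintype.card F
  have hinj : ∀ p : F × F, Function.Injective (orb p) := by
    intro p z z' e
    have e3 := congrFun e 3
    have e2 := congrFun e 2
    simp only [orb, Matrix.cons_val] at e2 e3
    rw [e3] at e2
    exact Prod.ext (mul_left_cancel₀ (neg_ne_zero.2 h3) (mul_right_cancel₀ z'.2.ne_zero e2)) (Units.ext e3)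
  have h0 : ∀ p z, orb p z ≠ (0 : Fin 5 → F) := fun p z e => by
    have := congrFun e 3
    simp [orb] at this
  have hcardorb : ∀ p : F × F, (Finset.univ.image (orb p)).card = q * (q - 1) := fun p => by
    rw [Finset.card_image_of_injective _ (hinj p), Finset.card_univ, Fintype.card_prod, Fintype.card_units]
  -- all normal forms vanish, or the space is large
  by_cases htriv : ∀ f₀ f₁, Pr σ SQ ![f₀, f₁, 0, 1, 0] → f₀ = 0 ∧ f₁ = 0
  swap
  · left
    push Not at htriv
    obtain ⟨f₀, f₁, hP, hne⟩ := htriv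
    obtain ⟨a, hadiff⟩ : ∃ a : Fˣ, (f₀ / (a : F) ^ 3, f₁ / (a : F) ^ 2) ≠ (f₀, f₁) := by
      by_cases hf1 : f₁ = 0
      · have hf0 : f₀ ≠ 0 := fun h => hne h hf1
        obtain ⟨a, ha⟩ : ∃ a : Fˣ, (a : F) ^ 3 ≠ 1 := by
          by_contra! h
          have hsub : ((Finset.univ : Finset F).erase 0) ⊆
              (Polynomial.X ^ 3 - Polynomial.C (1 : F)).roots.toFinset := fun x hx => by
            have hx0 := (Finset.mem_erase.1 hx).1
            rw [Multiset.mem_toFinset, Polynomial.mem_roots']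
            exact ⟨Polynomial.X_pow_sub_C_ne_zero (by norm_num) _, by simpa [sub_eq_zero] using h (Units.mk0 x hx0)⟩
          have h1 := (Finset.card_le_card hsub).trans ((Multiset.toFinset_card_le _).trans (Polynomial.card_roots' _))
          rw [Finset.card_erase_of_mem (Finset.mem_univ _), Finset.card_univ, Polynomial.natDegree_X_pow_sub_C] at h1
          simp only [q] at hq
          omega
        refine ⟨a, fun e => ha ?_⟩
        have e1 := (Prod.mk.inj e).1
        rw [div_eq_iff (pow_ne_zero _ a.ne_zero)] at e1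
        exact mul_left_cancel₀ hf0 (by rw [← e1, mul_one])
      · obtain ⟨a, ha⟩ : ∃ a : Fˣ, (a : F) ^ 2 ≠ 1 := by
          by_contra! h
          have hsub : ((Finset.univ : Finset F).erase 0) ⊆ {1, -1} := fun x hx => by
            have hx0 := (Finset.mem_erase.1 hx).1
            have := h (Units.mk0 x hx0)
            simp only [Units.val_mk0] at this
            simpa using sq_eq_one_iff.1 this
          have h1 := (Finset.card_le_card hsub).trans Finset.card_le_two
          rw [Finset.card_erase_of_mem (Finset.mem_univ _), Finset.card_univ] at h1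
          simp only [q] at hq
          omega
        refine ⟨a, fun e => ha ?_⟩
        have e1 := (Prod.mk.inj e).2
        rw [div_eq_iff (pow_ne_zero _ a.ne_zero)] at e1
        exact mul_left_cancel₀ hf1 (by rw [← e1, mul_one])
    set p : F × F := (f₀, f₁)
    set p' : F × F := (f₀ / (a : F) ^ 3, f₁ / (a : F) ^ 2)
    have hdis : Disjoint (Finset.univ.image (orb p)) (Finset.univ.image (orb p')) := by
      rw [Finset.disjoint_left]
      rintro c hc hc'
      obtain ⟨z, -, rfl⟩ := Finset.mem_image.1 hc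
      obtain ⟨z', -, e⟩ := Finset.mem_image.1 hc'
      have e3 := congrFun e 3
      have e2 := congrFun e 2
      simp only [orb, Matrix.cons_val] at e2 e3
      rw [e3] at e2
      have hz : z' = z :=
        Prod.ext (mul_left_cancel₀ (neg_ne_zero.2 h3) (mul_right_cancel₀ z.2.ne_zero e2)) (Units.ext e3)
      subst hz
      have e1 := congrFun e 1
      have e0 := congrFun e 0
      simp only [orb, Matrix.cons_val_one, Matrix.cons_val_zero] at e1 e0
      have hb := z'.2.ne_zero
      have q1 : p'.2 = p.2 := by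
        have := sub_left_injective e1
        field_simp at this
        exact this
      rw [q1] at e0
      have q0 : p'.1 = p.1 := by
        have := add_right_cancel (sub_left_injective e0)
        field_simp at this
        exact this
      exact hadiff (Prod.ext q0 q1)
    have h := count_U (Finset.univ.image (orb p) ∪ Finset.univ.image (orb p')) (fun c hc => by
      rcases Finset.mem_union.1 hc with hc | hc <;> obtain ⟨z, -, rfl⟩ := Finset.mem_image.1 hc
      · exact ⟨orb_mem hP z, rfl⟩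
      · exact ⟨orb_mem (p := p') (scale hP a) z, rfl⟩) (fun hc => by
      rcases Finset.mem_union.1 hc with hc | hc <;> obtain ⟨z, -, e⟩ := Finset.mem_image.1 hc <;> exact h0 _ _ e)
    rw [Finset.card_union_of_disjoint hdis, hcardorb, hcardorb] at h
    obtain ⟨r, hr⟩ : ∃ r, q = r + 5 := ⟨q - 5, by omega⟩
    rw [hr, show r + 5 - 1 = r + 4 by omega] at h
    rw [hr]
    nlinarith
  obtain ⟨f₀, f₁, hP⟩ := exists_normal (σ := σ) h3 hv₀
  obtain ⟨rfl, rfl⟩ := htriv f₀ f₁ hP
  obtain ⟨e, he, hmap⟩ := Ns_map (σ := σ) (i := 0) (by omega) SQ SQ ![3, 2, 1, 0, 4]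
    (by intro j; fin_cases j <;> exact ⟨by decide, by decide⟩)
  have hflatall : ∀ x : F, x ≠ 0 → Pr σ SQ ![x, 0, 0, 0, 0] := by
    intro x hx
    have h1 := (orb_mem (p := ((0 : F), (0 : F))) hP
      ((0 : F), Units.mk0 (x / e 0) (div_ne_zero hx (he 0)))).map (Ns 0) (fun v hv => hmap _ v hv)
    convert h1 using 1
    funext i
    fin_cases i <;> simp [orb, mul_div_cancel₀ _ (he 0)]
  set B0 : Finset (Fin 5 → F) := Finset.univ.image (orb ((0 : F), (0 : F))) ∪
    ((Finset.univ : Finset F).erase 0).image (fun x => ![x, 0, 0, 0, 0]) with hB0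
  have hB0P : ∀ c ∈ B0, Pr σ SQ c ∧ c 4 = 0 := fun c hc => by
    rcases Finset.mem_union.1 hc with hc | hc
    · obtain ⟨z, -, rfl⟩ := Finset.mem_image.1 hc
      exact ⟨orb_mem hP z, rfl⟩
    · obtain ⟨x, hx, rfl⟩ := Finset.mem_image.1 hc
      exact ⟨hflatall x (Finset.mem_erase.1 hx).1, rfl⟩
  have hB00 : (0 : Fin 5 → F) ∉ B0 := fun hc => by
    rcases Finset.mem_union.1 hc with hc | hc
    · obtain ⟨z, -, e⟩ := Finset.mem_image.1 hc
      exact h0 _ _ e
    · obtain ⟨x, hx, e⟩ := Finset.mem_image.1 hc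
      exact (Finset.mem_erase.1 hx).1 (by simpa using congrFun e 0)
  have hB0card : B0.card = q * (q - 1) + (q - 1) := by
    rw [hB0, Finset.card_union_of_disjoint, hcardorb, Finset.card_image_of_injective _
      (fun a b e => by simpa using congrFun e 0), Finset.card_erase_of_mem (Finset.mem_univ _), Finset.card_univ]
    rw [Finset.disjoint_left]
    rintro c hc hc'
    obtain ⟨z, -, rfl⟩ := Finset.mem_image.1 hc
    obtain ⟨x, -, e'⟩ := Finset.mem_image.1 hc'
    have := congrFun e' 3
    simp [orb] at this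
    exact z.2.ne_zero this.symm
  have hsq : q * (q - 1) + (q - 1) = q ^ 2 - 1 := by
    obtain ⟨r, hr⟩ : ∃ r, q = r + 1 := ⟨q - 1, by omega⟩
    rw [hr, Nat.add_sub_cancel]
    have : (r + 1) ^ 2 = (r + 1) * r + r + 1 := by ring
    omega
  have hbase := count_U B0 hB0P hB00
  rw [hB0card, hsq] at hbase
  by_cases he1 : finrank ℂ ↥(Es σ SQ 0) ≤ 1
  swap
  · left; omega
  by_cases hflat : ∀ c, Pr σ SQ c → c 4 = 0 → c 3 = 0 → c 1 = 0 ∧ c 2 = 0
  · right
    refine ⟨hbase, he1, ?_, hflat, 1, one_ne_zero, hflatall 1 one_ne_zero⟩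
    intro c hc h4 hc3
    refine ⟨c 2 / (-3 * c 3), ?_⟩
    have h1 := hc.map _ (fun v hv => mvQ7 hv h4 (c 2 / (3 * c 3)))
    have h2 := h1.map _ (fun v hv => T_mem SQ_lt hv 1 (Units.mk0 (c 3) hc3)⁻¹)
    have h3c : (3 : F) * c 3 ≠ 0 := mul_ne_zero h3 hc3
    have h5 := htriv _ _ (etaP h2 (x := 0) (y := 1) (by simp [SQ, wt9]; field_simp; ring)
      (by simp [SQ, wt10, hc3]) (by simp))
    simp [SQ, wt6, wt8, hc3] at h5
    obtain ⟨g0, g1⟩ := h5
    field_simp at g0 g1 ⊢
    linear_combination g0 - 3 * (c 2) * g1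
  · left
    push Not at hflat
    obtain ⟨c, hc, hc4, hc3, hne⟩ := hflat
    have hd : ∀ a : Fˣ, Pr σ SQ ![c 0 * (a : F), c 1 * (a : F), c 2 * (a : F), 0, 0] := fun a => by
      have h1 := hc.map _ (fun v hv => T_mem SQ_lt hv a⁻¹ (a⁻¹ ^ 2))
      convert h1 using 1
      funext i
      have ha := a.ne_zero
      fin_cases i <;> simp [SQ, wt6, wt8, wt9, hc3, hc4] <;> field_simp <;> simp
    have hinj' : Function.Injective fun a : Fˣ => ![c 0 * (a : F), c 1 * (a : F), c 2 * (a : F), 0, 0] := by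
      intro a b e
      by_cases hc1 : c 1 = 0
      · exact Units.ext (mul_left_cancel₀ (hne hc1) (by simpa using congrFun e 2))
      · exact Units.ext (mul_left_cancel₀ hc1 (by simpa using congrFun e 1))
    have h := count_U (B0 ∪ Finset.univ.image fun a : Fˣ => ![c 0 * (a : F), c 1 * (a : F), c 2 * (a : F), 0, 0])
      (fun d hd' => by
        rcases Finset.mem_union.1 hd' with hd' | hd'
        · exact hB0P d hd'
        · obtain ⟨a, -, rfl⟩ := Finset.mem_image.1 hd'
          exact ⟨hd a, rfl⟩)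
      (fun hd' => by
        rcases Finset.mem_union.1 hd' with hd' | hd'
        · exact hB00 hd'
        · obtain ⟨a, -, e'⟩ := Finset.mem_image.1 hd'
          by_cases hc1 : c 1 = 0
          · exact mul_ne_zero (hne hc1) a.ne_zero (by simpa using congrFun e' 2)
          · exact mul_ne_zero hc1 a.ne_zero (by simpa using congrFun e' 1))
    rw [Finset.card_union_of_disjoint, Finset.card_image_of_injective _ hinj', Finset.card_univ,
      Fintype.card_units, hB0card, hsq] at h
    · simp only [q] at h ⊢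
      omega
    · rw [Finset.disjoint_left]
      rintro d hd' hd''
      obtain ⟨a, -, rfl⟩ := Finset.mem_image.1 hd''
      rcases Finset.mem_union.1 hd' with hd' | hd'
      · obtain ⟨z, -, e'⟩ := Finset.mem_image.1 hd'
        have := congrFun e' 3
        simp [orb] at this
      · obtain ⟨x, -, e'⟩ := Finset.mem_image.1 hd'
        by_cases hc1 : c 1 = 0
        · exact mul_ne_zero (hne hc1) a.ne_zero (by simpa using (congrFun e' 2).symm)
        · exact mul_ne_zero hc1 a.ne_zero (by simpa using (congrFun e' 1).symm)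

end Bound

end Cfsg.Agent.G2MinDeg86
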