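import Cfsg.Agent.Lib.G2MinDeg86Gen

/-!
Operators of the parabolic radical of the long root subsystem of G2, and the eigenvalue of the long
reflection on a vector fixed by the Borel subgroup.
-/

set_option autoImplicit false
set_option linter.unusedSectionVars false
set_option maxRecDepth 20000
set_option maxHeartbeats 1000000

namespace Cfsg.Agent.G2MinDeg86

open Cfsg.Lie Module Cfsg.Agent.ChevalleyCore Cfsg.Agent.ChevalleyTorus
open Cfsg.Agent.SLMinDegree32 (phi0 phi0_ne chi chi_apply chi_bijective)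

variable {F : Type*} [Field F]

local notation "CG" => Cfsg.Agent.ChevalleyDataG2.cert

/-- the elements `n_r(b)` -/
def Ng (r : ℕ) (b : F) : GG F := ⟨ng CG r b,
  mul_mem (mul_mem (xg_mem_group CG _ _) (xg_mem_group CG _ _)) (xg_mem_group CG _ _)⟩

theorem Ng_def {r : ℕ} (hr : r < 12) (b : F) : Ng r b = X r b * X (11 - r) (-b⁻¹) * X r b :=
  Subtype.ext (by rw [← facts.2.2.2.2 r hr]; rfl)

theorem X_neg_root {r : ℕ} (hr : r < 12) (b : F) :
    X (11 - r) (-b⁻¹) = X r (-b) * Ng r b * X r (-b) := by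
  rw [Ng_def hr, show X r (-b) = (X r b)⁻¹ from (X_inv r b).symm]
  group

theorem Ng_simple (i : Fin 2) (b : Fˣ) :
    Ng (chevG2.simple i.val) (b : F) = T (if i = 0 then b else 1) (if i = 0 then 1 else b) * Ns i.val := by
  refine Subtype.ext ?_
  simp only [Subgroup.coe_mul, Ng, Ns, T]
  rw [ChevalleyCore.ng_eq CG]
  congr 1
  refine (hg_simple (F := F) CG (i := (i : Fin chevG2.rank)) b).trans (congrArg _ ?_)
  funext j
  fin_cases i <;> fin_cases j <;> rfl

theorem Ng6 (b : Fˣ) : Ng 6 (b : F) = T 1 b * Ns 1 := by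
  have h := Ng_simple (F := F) 1 b
  simpa [facts.2.2.2.1] using h

theorem Ng7 (b : Fˣ) : Ng 7 (b : F) = T b 1 * Ns 0 := by
  have h := Ng_simple (F := F) 0 b
  simpa [facts.2.2.1] using h

theorem Ns_Ng {i r : ℕ} (hi : i < 2) (hr : r < 12) :
    ∃ e : F, e ≠ 0 ∧ ∀ b, Ns i * Ng r b * (Ns i)⁻¹ = Ng (RR i r) (e * b) := by
  refine ⟨((CG).eta i r : F), ?_, fun b => Subtype.ext ?_⟩
  · rcases (CG).eta_sq i r with h | h <;> rw [h] <;> simp
  · have hR : chevG2.reflectRoot i r = RR i r := by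
      obtain ⟨a, b⟩ := refl_R r hr
      rcases (show i = 0 ∨ i = 1 by omega) with rfl | rfl
      · exact a
      · exact b
    rw [← hR]
    exact ng_simple_conj_ng CG (facts.2.1 ▸ hi) (facts.1 ▸ hr) b

theorem Ns1_sq : Ns (F := F) 1 * Ns 1 = T 1 (-1) := by
  refine Subtype.ext (Units.ext ?_)
  simp only [Subgroup.coe_mul, Ns, T]
  have h6 : chevG2.simple 1 < chevG2.nroots := by rw [facts.2.2.2.1, facts.1]; norm_num
  rw [ng_pair CG h6 1 1 one_ne_zero one_ne_zero, div_one, ← coe_hg_eq CG h6 (neg_ne_zero.2 one_ne_zero)]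
  have h := hg_simple (F := F) CG (i := ((1 : Fin 2) : Fin chevG2.rank)) (-1)
  rw [Units.val_neg, Units.val_one] at h
  refine congrArg Units.val (h.trans (congrArg _ ?_))
  funext j
  fin_cases j <;> rfl

theorem hg_T {r : ℕ} (hr : r < 12) (t : Fˣ) :
    (hg CG r (t : F) : GL chevG2.Idx F) =
      ((T (t ^ ChevalleyEngine.cc chevG2 r 0) (t ^ ChevalleyEngine.cc chevG2 r 1) : GG F) : GL chevG2.Idx F) := by
  refine (hg_eq_torus (F := F) CG (facts.1 ▸ hr) t).trans (congrArg _ ?_)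
  funext j
  fin_cases j <;> rfl

theorem cc_facts : (ChevalleyEngine.cc chevG2 7 0, ChevalleyEngine.cc chevG2 7 1) = (1, 0) ∧
    (ChevalleyEngine.cc chevG2 6 0, ChevalleyEngine.cc chevG2 6 1) = (0, 1) ∧
    (ChevalleyEngine.cc chevG2 8 0, ChevalleyEngine.cc chevG2 8 1) = (1, 3) ∧
    (ChevalleyEngine.cc chevG2 5 0, ChevalleyEngine.cc chevG2 5 1) = (0, -1) := by decide +kernel

theorem Ns1_T (a b : Fˣ) : Ns 1 * T a b * (Ns 1)⁻¹ = T a (a ^ 3 / b) := by
  have hns : ∀ {r : ℕ}, r < 12 → ∀ t : Fˣ,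
      ((Ns (F := F) 1 : GG F) : GL chevG2.Idx F) * hg CG r (t : F) * ((Ns (F := F) 1 : GG F) : GL chevG2.Idx F)⁻¹ =
        hg CG (RR 1 r) (t : F) := fun {r} hr t =>
    (ns_conj_hg (F := F) CG (i := 1) (facts.2.1 ▸ (by norm_num : 1 < 2)) (facts.1 ▸ hr) t.ne_zero).trans
      (by rw [(refl_R r hr).2]; rfl)
  obtain ⟨c7, c6, c8, c5⟩ := cc_facts
  have key : ∀ {r r' : ℕ}, r < 12 → r' < 12 → RR 1 r = r' → ∀ {x y : ℤ} {x' y' : ℤ},
      (ChevalleyEngine.cc chevG2 r 0, ChevalleyEngine.cc chevG2 r 1) = (x, y) →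
      (ChevalleyEngine.cc chevG2 r' 0, ChevalleyEngine.cc chevG2 r' 1) = (x', y') → ∀ t : Fˣ,
      Ns 1 * T (t ^ x) (t ^ y) * (Ns 1)⁻¹ = T (t ^ x') (t ^ y') := by
    intro r r' hr hr' hR x y x' y' h h' t
    obtain ⟨rfl, rfl⟩ := Prod.mk.inj h
    obtain ⟨rfl, rfl⟩ := Prod.mk.inj h'
    refine Subtype.ext ?_
    have := hns hr t
    rw [hR, hg_T hr, hg_T hr'] at this
    exact this
  have e1 := key (r := 7) (r' := 8) (by norm_num) (by norm_num) rfl c7 c8 a
  have e2 := key (r := 6) (r' := 5) (by norm_num) (by norm_num) rfl c6 c5 b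
  simp only [zpow_one, zpow_zero, zpow_neg] at e1 e2
  rw [show ((a : Fˣ) ^ (3 : ℤ)) = a ^ 3 from zpow_natCast a 3] at e1
  calc Ns 1 * T a b * (Ns 1)⁻¹ = (Ns 1 * T a 1 * (Ns 1)⁻¹) * (Ns 1 * T 1 b * (Ns 1)⁻¹) := by
        rw [← show T a 1 * T 1 b = T a b by rw [T_mul, mul_one, one_mul]]; group
    _ = T a (a ^ 3 / b) := by rw [e1, e2, T_mul, mul_one, div_eq_mul_inv]

theorem c60 (u t : F) : (X 6 u)⁻¹ * X 0 t * X 6 u = X 0 t * X 1 (u * t) := by
  rw [conjX (show pairOK 6 0 [(1, -1, 1, 1)] = true by decide +kernel)]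
  simp only [W, List.map_cons, List.map_nil, List.prod_cons, List.prod_nil, mul_one]
  push_cast
  ring_nf

theorem c511 (u t : F) : (X 5 u)⁻¹ * X 11 t * X 5 u = X 11 t * X 10 (-(u * t)) := by
  rw [conjX (show pairOK 5 11 [(10, 1, 1, 1)] = true by decide +kernel)]
  simp only [W, List.map_cons, List.map_nil, List.prod_cons, List.prod_nil, mul_one]
  push_cast
  ring_nf

theorem c510 (u t : F) : (X 5 u)⁻¹ * X 10 t * X 5 u = X 10 t :=
  conj_fixed (fun a b => comm0 (show pairOK 5 10 [] = true by decide +kernel) a b) u t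

variable [Fintype F] {V : Type} [AddCommGroup V] [Module ℂ V] (σ : Representation ℂ (GG F) V)

/-- the root group sum -/
noncomputable def RS (r : ℕ) : Module.End ℂ V := ∑ t : F, σ (X r t)

/-- the sum over the radical -/
noncomputable def PR : Module.End ℂ V := RS σ 10 * RS σ 11

variable {σ}

theorem RS_apply (r : ℕ) (v : V) : RS σ r v = ∑ t : F, σ (X r t) v := by
  simp [RS, LinearMap.sum_apply]

theorem RS_left (r : ℕ) (a : F) (v : V) : σ (X r a) (RS σ r v) = RS σ r v := by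
  rw [RS_apply, map_sum]
  refine Fintype.sum_equiv (Equiv.addLeft a) _ _ fun t => ?_
  rw [← act2, X_add]
  rfl

theorem RS_right (r : ℕ) (a : F) (v : V) : RS σ r (σ (X r a) v) = RS σ r v := by
  rw [RS_apply, RS_apply]
  refine Fintype.sum_equiv (Equiv.addRight a) _ _ fun t => ?_
  rw [← act2, X_add]
  rfl

theorem RS_comm {r : ℕ} {g : GG F} (h : ∀ t, Commute g (X r t)) (v : V) :
    σ g (RS σ r v) = RS σ r (σ g v) := by
  rw [RS_apply, RS_apply, map_sum]
  exact Finset.sum_congr rfl fun t _ => by rw [← act2, (h t).eq, act2]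

/-- moving a group element across a root group sum -/
theorem RS_move {r r' : ℕ} {g : GG F} {e : F} (he : e ≠ 0) (h : ∀ t, g⁻¹ * X r t * g = X r' (e * t)) (v : V) :
    RS σ r (σ g v) = σ g (RS σ r' v) := by
  rw [RS_apply, RS_apply, map_sum]
  refine Fintype.sum_equiv (Equiv.mulLeft₀ e he) _ _ fun t => ?_
  rw [← act2, ← act2, Equiv.mulLeft₀_apply, ← h t]
  congr 2
  group

theorem RS_Ns {i r : ℕ} (hi : i < 2) (hr : r < 12) (v : V) :
    RS σ r (σ (Ns i) v) = σ (Ns i) (RS σ (RR i r) v) := by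
  obtain ⟨e, he, h⟩ := Ns_conj_inv (F := F) hi hr
  exact RS_move he h v

theorem RS_fix {r : ℕ} {v : V} (h : ∀ t, σ (X r t) v = v) : RS σ r v = (Fintype.card F : ℂ) • v := by
  rw [RS_apply, Finset.sum_congr rfl fun t _ => h t, Finset.sum_const, Finset.card_univ, ← Nat.cast_smul_eq_nsmul ℂ]

theorem PR_apply (v : V) : PR σ v = RS σ 10 (RS σ 11 v) := rfl

theorem RS_swap (v : V) : RS σ 10 (RS σ 11 v) = RS σ 11 (RS σ 10 v) := by
  rw [RS_apply 10 (RS σ 11 v)]
  simp only [RS_comm (fun t => com0 (r := 10) (s := 11) (by decide) _ t)]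
  rw [← map_sum, ← RS_apply]

theorem PR_mem (v : V) : PR σ v ∈ Es σ ![10, 11] ![(0 : F), 0] := by
  intro i t
  fin_cases i
  · simpa [PR_apply] using RS_left 10 t _
  · simp only [PR_apply, RS_swap]
    simpa using RS_left 11 t _

theorem PR_absorb10 (a : F) (v : V) : PR σ (σ (X 10 a) v) = PR σ v := by
  rw [PR_apply, PR_apply, RS_swap, RS_right, ← RS_swap]

theorem PR_fix {v : V} (h : v ∈ Es σ ![10, 11] ![(0 : F), 0]) :
    PR σ v = ((Fintype.card F : ℂ) ^ 2) • v := by
  have h10 : ∀ t, σ (X 10 t) v = v := fun t => by simpa using h 0 t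
  have h11 : ∀ t, σ (X 11 t) v = v := fun t => by simpa using h 1 t
  rw [PR_apply, RS_fix h11, map_smul, RS_fix h10, smul_smul, sq]

theorem PR_X6 (k : F) (v : V) : PR σ (σ (X 6 k) v) = σ (X 6 k) (PR σ v) := by
  rw [PR_apply, PR_apply, RS_move (r := 11) (r' := 11) one_ne_zero (fun t => by
    rw [one_mul]; exact conj_fixed (com0 (r := 6) (s := 11) (by decide)) k t)]
  have key : ∀ w : V, (∀ s, σ (X 11 s) w = w) → RS σ 10 (σ (X 6 k) w) = σ (X 6 k) (RS σ 10 w) := by
    intro w hw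
    rw [RS_apply, RS_apply, map_sum]
    refine Finset.sum_congr rfl fun t _ => ?_
    rw [← act2, show X 10 t * X 6 k = X 6 k * (X 10 t * X 11 (-(k * t))) by
      rw [← c610, mul_assoc (X 6 k)⁻¹, mul_inv_cancel_left], act2, act2, hw]
  exact key _ fun s => RS_left 11 s _

theorem PR_X5 (k : F) (v : V) : PR σ (σ (X 5 k) v) = σ (X 5 k) (PR σ v) := by
  rw [PR_apply, PR_apply, RS_swap, RS_swap, RS_move (r := 10) (r' := 10) one_ne_zero (fun t => by
    rw [one_mul]; exact c510 k t)]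
  have key : ∀ w : V, (∀ s, σ (X 10 s) w = w) → RS σ 11 (σ (X 5 k) w) = σ (X 5 k) (RS σ 11 w) := by
    intro w hw
    rw [RS_apply, RS_apply, map_sum]
    refine Finset.sum_congr rfl fun t _ => ?_
    rw [← act2, show X 11 t * X 5 k = X 5 k * (X 11 t * X 10 (-(k * t))) by
      rw [← c511, mul_assoc (X 5 k)⁻¹, mul_inv_cancel_left], act2, act2, hw]
  exact key _ fun s => RS_left 10 s _

theorem PR_Ns1 (v : V) : PR σ (σ (Ns 1) v) = σ (Ns 1) (PR σ v) := by
  rw [PR_apply, PR_apply, RS_Ns (by norm_num) (by norm_num), show RR 1 11 = 10 from rfl,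
    RS_Ns (by norm_num) (by norm_num), show RR 1 10 = 11 from rfl, ← RS_swap]

theorem Ns_fix' {i r : ℕ} (hi : i < 2) (hr : r < 12) {v : V} {r' : ℕ} (h : RR i r = r')
    (hf : ∀ t, σ (X r' t) v = v) (t : F) : σ (X r t) (σ (Ns i) v) = σ (Ns i) v :=
  Ns_fix hi hr (by rw [h]; exact hf) t

/-! ### the vector fixed by the Borel subgroup -/

variable [FiniteDimensional ℂ V]

noncomputable local instance : Fintype (GG F) := Fintype.ofFinite _

/-- squared norm of coordinates averaged over the group -/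
noncomputable def NN (σ : Representation ℂ (GG F) V) (x : V) : ℝ :=
  ∑ g : GG F, ∑ i, Complex.normSq ((Module.finBasis ℂ V).repr (σ g x) i)

theorem NN_inv (h : GG F) (x : V) : NN σ (σ h x) = NN σ x := by
  refine Fintype.sum_equiv (Equiv.mulRight h) _ _ fun g => ?_
  rw [← act2]
  rfl

theorem NN_rigid {x : V} {g₀ : GG F} {ι : Type*} [Fintype ι] (h : ι → GG F)
    (hsum : ∑ t, σ (h t) (σ g₀ x) = (Fintype.card ι : ℂ) • x) (t : ι) : σ (h t) (σ g₀ x) = x := by
  classical
  set y := σ g₀ x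
  let a : GG F → Fin (finrank ℂ V) → ι → ℂ := fun g i t => (Module.finBasis ℂ V).repr (σ g (σ (h t) y)) i
  let c : GG F → Fin (finrank ℂ V) → ℂ := fun g i => (Module.finBasis ℂ V).repr (σ g x) i
  have hac : ∀ g i, ∑ t, a g i t = (Fintype.card ι : ℂ) * c g i := by
    intro g i
    have := congrArg (fun z => (Module.finBasis ℂ V).repr (σ g z) i) hsum
    simpa [a, c, map_sum, Finsupp.finsetSum_apply] using this
  have hpt : ∀ g i, ∑ t, Complex.normSq (a g i t - c g i) =
      ∑ t, Complex.normSq (a g i t) - (Fintype.card ι : ℝ) * Complex.normSq (c g i) := by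
    intro g i
    have h1 : ∀ t, Complex.normSq (a g i t - c g i) = Complex.normSq (a g i t) + Complex.normSq (c g i) -
        2 * (a g i t * (starRingEnd ℂ) (c g i)).re := fun t => Complex.normSq_sub _ _
    rw [Finset.sum_congr rfl fun t _ => h1 t, Finset.sum_sub_distrib, Finset.sum_add_distrib, ← Finset.mul_sum,
      ← Complex.re_sum, ← Finset.sum_mul, hac, mul_assoc, Complex.mul_conj, Finset.sum_const, Finset.card_univ,
      nsmul_eq_mul]
    norm_cast
    push_cast
    ring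
  have h0 : ∑ g : GG F, ∑ i, ∑ t, Complex.normSq (a g i t - c g i) = 0 := by
    rw [Finset.sum_congr rfl fun g _ => Finset.sum_congr rfl fun i _ => hpt g i]
    simp only [Finset.sum_sub_distrib, ← Finset.mul_sum]
    have h2 : ∑ g : GG F, ∑ i, ∑ t, Complex.normSq (a g i t) = ∑ t, NN σ (σ (h t) y) := by
      rw [Finset.sum_congr rfl fun g _ => Finset.sum_comm, Finset.sum_comm]
      rfl
    rw [h2, Finset.sum_congr rfl fun t _ => (NN_inv (h t) y).trans (NN_inv g₀ x), Finset.sum_const,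
      Finset.card_univ, nsmul_eq_mul]
    exact sub_self _
  have h3 := (Finset.sum_eq_zero_iff_of_nonneg fun g _ => Finset.sum_nonneg fun i _ =>
    Finset.sum_nonneg fun t _ => Complex.normSq_nonneg _).1 h0 1 (Finset.mem_univ _)
  refine (Module.finBasis ℂ V).ext_elem fun i => ?_
  have h4 := (Finset.sum_eq_zero_iff_of_nonneg fun t _ => Complex.normSq_nonneg _).1
    ((Finset.sum_eq_zero_iff_of_nonneg fun i _ => Finset.sum_nonneg fun t _ => Complex.normSq_nonneg _).1 h3 i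
      (Finset.mem_univ _)) t (Finset.mem_univ _)
  have := sub_eq_zero.1 (Complex.normSq_eq_zero.1 h4)
  simpa [a, c] using this

end Cfsg.Agent.G2MinDeg86
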