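import Cfsg.Agent.Lib.G2MinDeg86Base
import Cfsg.Agent.Lib.ChevalleyAll
import Cfsg.Agent.S1055

/-!
Transport of joint eigenvectors of root elements of G2 by the torus, the reflections and root elements.
-/

set_option autoImplicit false
set_option linter.unusedSectionVars false
set_option maxRecDepth 20000

namespace Cfsg.Agent.G2MinDeg86

open Cfsg.Lie Module Cfsg.Agent.ChevalleyCore
open Cfsg.Agent.SLMinDegree32 (phi0 phi0_ne chi chi_apply chi_bijective)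

variable {F : Type*} [Field F] [Fintype F] {V : Type} [AddCommGroup V] [Module ℂ V]
  {σ : Representation ℂ (GG F) V}

theorem act_X {r : ℕ} {a : F} {v : V} (h : ∀ t, σ (X r t) v = phi0 (a * t) • v) (g : GG F) (t : F) :
    σ (g * X r t) v = phi0 (a * t) • σ g v := by
  rw [act2, h, map_smul]

theorem T_mem {n : ℕ} {S : Fin n → ℕ} (hS : ∀ i, S i < 12) {c : Fin n → F} {v : V} (hv : v ∈ Es σ S c)
    (a b : Fˣ) : σ (T a b) v ∈ Es σ S (fun i => c i * (wt (S i) a⁻¹ b⁻¹ : F)) := by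
  refine mov_mem fun i t => ?_
  have h := T_conj (hS i) a⁻¹ b⁻¹ t
  rw [← T_inv, inv_inv] at h
  rw [h, hv i, mul_assoc]

theorem T_le [FiniteDimensional ℂ V] {n : ℕ} {S : Fin n → ℕ} (hS : ∀ i, S i < 12) (c c' : Fin n → F)
    (a b : Fˣ) (h : ∀ i, c i * (wt (S i) a⁻¹ b⁻¹ : F) = c' i) :
    finrank ℂ ↥(Es σ S c) ≤ finrank ℂ ↥(Es σ S c') :=
  mov_le (g := T a b) fun v hv => (funext h : _ = c') ▸ T_mem hS hv a b

theorem R_inv : ∀ r, r < 12 → R0 (R0 r) = r ∧ R1 (R1 r) = r ∧ R0 r < 12 ∧ R1 r < 12 := by decide +kernel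

/-- the reflection on roots -/
def RR (i r : ℕ) : ℕ := if i = 0 then R0 r else R1 r

theorem RR_inv {i r : ℕ} (hr : r < 12) : RR i (RR i r) = r ∧ RR i r < 12 := by
  obtain ⟨h1, h2, h3, h4⟩ := R_inv r hr
  unfold RR
  split_ifs <;> simp [*]

theorem Ns_conj_inv {i r : ℕ} (hi : i < 2) (hr : r < 12) :
    ∃ e : F, e ≠ 0 ∧ ∀ t : F, (Ns i)⁻¹ * X r t * Ns i = X (RR i r) (e * t) := by
  obtain ⟨h1, h2⟩ := RR_inv (i := i) hr
  obtain ⟨e, he, h⟩ := Ns_conj (F := F) hi h2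
  have hR : chevG2.reflectRoot i (RR i r) = r := by
    obtain ⟨a, b⟩ := refl_R _ h2
    rcases (show i = 0 ∨ i = 1 by omega) with rfl | rfl
    · rw [a]; exact h1
    · rw [b]; exact h1
  refine ⟨e⁻¹, inv_ne_zero he, fun t => ?_⟩
  have h3 := h (e⁻¹ * t)
  rw [hR, mul_inv_cancel_left₀ he] at h3
  rw [← h3]
  group

theorem Ns_map {i : ℕ} (hi : i < 2) {n : ℕ} (S S' : Fin n → ℕ) (π : Fin n → Fin n)
    (hS : ∀ j, S j < 12 ∧ RR i (S j) = S' (π j)) :
    ∃ e : Fin n → F, (∀ j, e j ≠ 0) ∧ ∀ c : Fin n → F, ∀ v : V, v ∈ Es σ S' c →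
      σ (Ns i) v ∈ Es σ S (fun j => e j * c (π j)) := by
  choose e he h using fun j => Ns_conj_inv (F := F) hi (hS j).1
  refine ⟨e, he, fun c v hv => mov_mem fun j t => ?_⟩
  rw [h j t, (hS j).2, hv (π j)]
  congr 2
  ring

theorem Ns_fix {i r : ℕ} (hi : i < 2) (hr : r < 12) {v : V} (h : ∀ t, σ (X (RR i r) t) v = v) (t : F) :
    σ (X r t) (σ (Ns i) v) = σ (Ns i) v := by
  obtain ⟨e, -, he⟩ := Ns_conj_inv (F := F) hi hr
  have h1 := congrArg (σ (Ns i)) (h (e * t))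
  rwa [← act2, ← he, ← mul_assoc, mul_inv_cancel_left, act2] at h1

/-- a subspace cut out by eigen conditions is invariant under commuting root elements -/
theorem comm_mem {n : ℕ} {S : Fin n → ℕ} {c : Fin n → F} {g : GG F}
    (h : ∀ i t, Commute g (X (S i) t)) {v : V} (hv : v ∈ Es σ S c) : σ g v ∈ Es σ S c :=
  mov_mem fun i t => by rw [mul_assoc, ← (h i t).eq, inv_mul_cancel_left, hv i]

theorem phi_congr {a b : F} (h : a = b) (v : V) : (phi0 : AddChar F ℂ) a • v = (phi0 : AddChar F ℂ) b • v := by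
  rw [h]

theorem simple_group (hF : ∃ a : F, a ≠ 0 ∧ a ≠ 1) : IsSimpleGroup (GG F) := (S1055.result hF).1

theorem moved (hF : ∃ a : F, a ≠ 0 ∧ a ≠ 1) (hne : ∃ g : GG F, σ g ≠ 1) {r : ℕ} (hr : r < 12) :
    ∃ (t : F) (v : V), σ (X r t) v ≠ v := by
  by_contra! h
  haveI := simple_group hF
  have h1 : (MonoidHom.ker σ) ≠ ⊥ := by
    intro hb
    have hm : X r (1 : F) ∈ MonoidHom.ker σ := MonoidHom.mem_ker.2 (LinearMap.ext fun v => h 1 v)
    rw [hb, Subgroup.mem_bot] at hm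
    have h2 : xg ChevalleyDataG2.cert r (1 : F) = xg ChevalleyDataG2.cert r 0 :=
      (congrArg Subtype.val hm).trans (ChevalleyCore.xg_zero ChevalleyDataG2.cert r).symm
    exact one_ne_zero (ChevBruhatInstance.xg_injective ChevalleyDataG2.cert (facts.1 ▸ hr) (facts.1 ▸ hr)
      one_ne_zero h2).2
  have h2 := ((MonoidHom.normal_ker σ).eq_bot_or_eq_top).resolve_left h1
  obtain ⟨g, hg⟩ := hne
  exact hg (MonoidHom.mem_ker.1 (h2 ▸ Subgroup.mem_top g))

end Cfsg.Agent.G2MinDeg86
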