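import Cfsg.Agent.Lib.G2MinDeg86Moves

/-!
The spectrum of the root groups in a complex representation of G2 in characteristic three.
-/

set_option autoImplicit false
set_option linter.unusedSectionVars false
set_option maxRecDepth 20000
set_option maxHeartbeats 1000000

namespace Cfsg.Agent.G2MinDeg86

open Cfsg.Lie Module
open Cfsg.Agent.SLMinDegree32 (phi0 phi0_ne chi chi_apply chi_bijective)

variable {F : Type*} [Field F]

theorem pr76 : pairOK 7 6 [(8, -1, 1, 1), (9, 1, 2, 1), (10, 1, 3, 1), (11, 1, 3, 2)] = true := by decide +kernel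
theorem pr67 : pairOK 6 7 [(8, 1, 1, 1), (9, 1, 1, 2), (10, -1, 1, 3), (11, -2, 2, 3)] = true := by decide +kernel
theorem pr78 : pairOK 7 8 [(9, -2, 1, 1), (10, -3, 2, 1), (11, 3, 1, 2)] = true := by decide +kernel
theorem pr79 : pairOK 7 9 [(10, 3, 1, 1)] = true := by decide +kernel
theorem pr89 : pairOK 8 9 [(11, 3, 1, 1)] = true := by decide +kernel
theorem pr610 : pairOK 6 10 [(11, 1, 1, 1)] = true := by decide +kernel
theorem pr0s : ∀ p ∈ ([(7, 10), (7, 11), (6, 8), (6, 9), (6, 11), (8, 10), (8, 11), (9, 10), (9, 11), (10, 11)] :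
    List (ℕ × ℕ)), pairOK p.1 p.2 [] = true := by decide +kernel

theorem com0 {r s : ℕ} (h : (r, s) ∈ ([(7, 10), (7, 11), (6, 8), (6, 9), (6, 11), (8, 10), (8, 11), (9, 10), (9, 11),
    (10, 11)] : List (ℕ × ℕ))) (t u : F) : Commute (X r t) (X s u) := comm0 (pr0s _ h) t u

theorem com_self (r : ℕ) (t u : F) : Commute (X r t) (X r u) := by
  show X r t * X r u = X r u * X r t
  rw [X_add, X_add, add_comm]

theorem c76 (u t : F) : (X 7 u)⁻¹ * X 6 t * X 7 u =
    X 6 t * (X 8 (u * t) * (X 9 (u ^ 2 * t) * (X 10 (-(u ^ 3 * t)) * X 11 (-(u ^ 3 * t ^ 2))))) := by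
  rw [conjX pr76]
  simp only [W, List.map_cons, List.map_nil, List.prod_cons, List.prod_nil, mul_one]
  push_cast
  ring_nf

theorem c67 (u t : F) : (X 6 u)⁻¹ * X 7 t * X 6 u =
    X 7 t * (X 8 (-(u * t)) * (X 9 (-(u * t ^ 2)) * (X 10 (u * t ^ 3) * X 11 (-(2 * u ^ 2 * t ^ 3))))) := by
  rw [conjX pr67]
  simp only [W, List.map_cons, List.map_nil, List.prod_cons, List.prod_nil, mul_one]
  push_cast
  ring_nf

theorem c78 (u t : F) : (X 7 u)⁻¹ * X 8 t * X 7 u =
    X 8 t * (X 9 (2 * u * t) * (X 10 (-(3 * u ^ 2 * t)) * X 11 (-(3 * u * t ^ 2)))) := by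
  rw [conjX pr78]
  simp only [W, List.map_cons, List.map_nil, List.prod_cons, List.prod_nil, mul_one]
  push_cast
  ring_nf

theorem c79 (u t : F) : (X 7 u)⁻¹ * X 9 t * X 7 u = X 9 t * X 10 (-(3 * u * t)) := by
  rw [conjX pr79]
  simp only [W, List.map_cons, List.map_nil, List.prod_cons, List.prod_nil, mul_one]
  push_cast
  ring_nf

theorem c89 (u t : F) : (X 8 u)⁻¹ * X 9 t * X 8 u = X 9 t * X 11 (-(3 * u * t)) := by
  rw [conjX pr89]
  simp only [W, List.map_cons, List.map_nil, List.prod_cons, List.prod_nil, mul_one]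
  push_cast
  ring_nf

theorem c610 (u t : F) : (X 6 u)⁻¹ * X 10 t * X 6 u = X 10 t * X 11 (-(u * t)) := by
  rw [conjX pr610]
  simp only [W, List.map_cons, List.map_nil, List.prod_cons, List.prod_nil, mul_one]
  push_cast
  ring_nf

theorem conj_fixed {r s : ℕ} (h : ∀ a b : F, Commute (X r a) (X s b)) (u t : F) :
    (X r u)⁻¹ * X s t * X r u = X s t := by
  rw [mul_assoc, ← (h u t).eq, inv_mul_cancel_left]

/-- root families -/
def S4 : Fin 4 → ℕ := ![8, 9, 10, 11]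
/-- root families -/
def S3 : Fin 3 → ℕ := ![8, 9, 11]
/-- root families -/
def S3' : Fin 3 → ℕ := ![9, 10, 11]
/-- root families -/
def S2 : Fin 2 → ℕ := ![9, 11]
/-- root families -/
def S5 : Fin 5 → ℕ := ![8, 9, 11, 6, 10]

variable [Fintype F] {V : Type} [AddCommGroup V] [Module ℂ V] {σ : Representation ℂ (GG F) V}

theorem sm2 (a b : F) (v : V) :
    (phi0 : AddChar F ℂ) a • (phi0 : AddChar F ℂ) b • v = (phi0 : AddChar F ℂ) (a + b) • v := by
  rw [smul_smul, AddChar.map_add_eq_mul]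

theorem Ns_map_inv {i : ℕ} (hi : i < 2) {n : ℕ} (S S' : Fin n → ℕ) (π : Fin n → Fin n)
    (hS : ∀ j, S j < 12 ∧ RR i (S j) = S' (π j)) :
    ∃ e : Fin n → F, (∀ j, e j ≠ 0) ∧ ∀ c : Fin n → F, ∀ v : V, v ∈ Es σ S' c →
      σ (Ns i)⁻¹ v ∈ Es σ S (fun j => e j * c (π j)) := by
  choose e he h using fun j => Ns_conj (F := F) hi (hS j).1
  refine ⟨e, he, fun c v hv => mov_mem fun j t => ?_⟩
  have hr : chevG2.reflectRoot i (S j) = S' (π j) := by
    rw [← (hS j).2]
    obtain ⟨a, b⟩ := refl_R _ (hS j).1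
    rcases (show i = 0 ∨ i = 1 by omega) with rfl | rfl
    · exact a
    · exact b
  rw [inv_inv, h j t, hr, hv (π j)]
  congr 2
  ring

/-- presence of a character -/
def Pr (σ : Representation ℂ (GG F) V) {n : ℕ} (S : Fin n → ℕ) (c : Fin n → F) : Prop :=
  ∃ v, v ∈ Es σ S c ∧ v ≠ 0

theorem Pr.map {n m : ℕ} {S : Fin n → ℕ} {S' : Fin m → ℕ} {c : Fin n → F} {c' : Fin m → F} (h : Pr σ S c)
    (g : GG F) (hg : ∀ v ∈ Es σ S c, σ g v ∈ Es σ S' c') : Pr σ S' c' := by
  obtain ⟨v, hv, h0⟩ := h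
  exact ⟨_, hg v hv, fun e => h0 (rho_inj g (by rw [e, map_zero]))⟩

theorem Pr.pos [FiniteDimensional ℂ V] {n : ℕ} {S : Fin n → ℕ} {c : Fin n → F} (h : Pr σ S c) :
    1 ≤ finrank ℂ ↥(Es σ S c) := by
  obtain ⟨v, hv, h0⟩ := h
  exact pos_of_mem hv h0

section Three

variable (h3 : (3 : F) = 0)
include h3

theorem two_ne : (2 : F) ≠ 0 := fun h => one_ne_zero (α := F) (by linear_combination h3 - h)

theorem com89 (u t : F) : Commute (X 8 u) (X 9 t) := by
  have h := c89 u t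
  rw [h3, zero_mul, zero_mul, neg_zero, X_zero, mul_one, mul_assoc, inv_mul_eq_iff_eq_mul] at h
  exact h.symm

/-- the roots commuting with a family -/
theorem com_abel {r s : ℕ} (hr : r ∈ [8, 9, 10, 11]) (hs : s ∈ [8, 9, 10, 11]) (u t : F) :
    Commute (X r u) (X s t) := by
  have hlt : ∀ a b : ℕ, a ∈ [8, 9, 10, 11] → b ∈ [8, 9, 10, 11] → a ≠ b → (a ≠ 8 ∨ b ≠ 9) → (a ≠ 9 ∨ b ≠ 8) →
      (a, b) ∈ ([(8, 10), (8, 11), (9, 10), (9, 11), (10, 11)] : List (ℕ × ℕ)) ∨
      (b, a) ∈ ([(8, 10), (8, 11), (9, 10), (9, 11), (10, 11)] : List (ℕ × ℕ)) := by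
    intro a b ha hb
    simp only [List.mem_cons, List.not_mem_nil, or_false] at ha hb
    rcases ha with rfl | rfl | rfl | rfl <;> rcases hb with rfl | rfl | rfl | rfl <;> decide
  by_cases e : r = s
  · subst e; exact com_self _ _ _
  by_cases e1 : r = 8 ∧ s = 9
  · obtain ⟨rfl, rfl⟩ := e1; exact com89 h3 _ _
  by_cases e2 : r = 9 ∧ s = 8
  · obtain ⟨rfl, rfl⟩ := e2; exact (com89 h3 _ _).symm
  rcases hlt r s hr hs e (not_and_or.1 e1) (not_and_or.1 e2) with h | h
  · exact com0 (by simp only [List.mem_cons, List.not_mem_nil, or_false] at h ⊢; tauto) _ _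
  · exact (com0 (by simp only [List.mem_cons, List.not_mem_nil, or_false] at h ⊢; tauto) _ _).symm

theorem mv7_4 {c : Fin 4 → F} {v : V} (hv : v ∈ Es σ S4 c) (u : F) :
    σ (X 7 u) v ∈ Es σ S4 ![c 0 + 2 * u * c 1, c 1, c 2, c 3] := by
  refine mov_mem fun i t => ?_
  fin_cases i
  · simp only [S4, Matrix.cons_val_zero, Fin.isValue, Fin.zero_eta]
    rw [c78, h3]
    simp only [zero_mul, neg_zero, X_zero, mul_one]
    rw [act2, show σ (X 9 (2 * u * t)) v = _ from hv 1 _, map_smul,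
      show σ (X 8 t) v = _ from hv 0 t, sm2]
    exact phi_congr (by ring) v
  · simp only [S4, Fin.mk_one, Matrix.cons_val_one, Fin.isValue, Matrix.cons_val_zero]
    rw [c79, h3]
    simp only [zero_mul, neg_zero, X_zero, mul_one]
    exact hv 1 t
  · simp only [S4, Fin.reduceFinMk, Matrix.cons_val]
    rw [conj_fixed (com0 (r := 7) (s := 10) (by decide))]
    exact hv 2 t
  · simp only [S4, Fin.reduceFinMk, Matrix.cons_val]
    rw [conj_fixed (com0 (r := 7) (s := 11) (by decide))]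
    exact hv 3 t

theorem mv7_3 {c : Fin 3 → F} {v : V} (hv : v ∈ Es σ S3 c) (u : F) :
    σ (X 7 u) v ∈ Es σ S3 ![c 0 + 2 * u * c 1, c 1, c 2] := by
  refine mov_mem fun i t => ?_
  fin_cases i
  · simp only [S3, Matrix.cons_val_zero, Fin.isValue, Fin.zero_eta]
    rw [c78, h3]
    simp only [zero_mul, neg_zero, X_zero, mul_one]
    rw [act2, show σ (X 9 (2 * u * t)) v = _ from hv 1 _, map_smul,
      show σ (X 8 t) v = _ from hv 0 t, sm2]
    exact phi_congr (by ring) v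
  · simp only [S3, Fin.mk_one, Matrix.cons_val_one, Fin.isValue, Matrix.cons_val_zero]
    rw [c79, h3]
    simp only [zero_mul, neg_zero, X_zero, mul_one]
    exact hv 1 t
  · simp only [S3, Fin.reduceFinMk, Matrix.cons_val]
    rw [conj_fixed (com0 (r := 7) (s := 11) (by decide))]
    exact hv 2 t

theorem mv6_4 {c : Fin 4 → F} {v : V} (hv : v ∈ Es σ S4 c) (u : F) :
    σ (X 6 u) v ∈ Es σ S4 ![c 0, c 1, c 2 - u * c 3, c 3] := by
  refine mov_mem fun i t => ?_
  fin_cases i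
  · simp only [S4, Matrix.cons_val_zero, Fin.isValue, Fin.zero_eta]
    rw [conj_fixed (com0 (r := 6) (s := 8) (by decide))]
    exact hv 0 t
  · simp only [S4, Fin.mk_one, Matrix.cons_val_one, Fin.isValue, Matrix.cons_val_zero]
    rw [conj_fixed (com0 (r := 6) (s := 9) (by decide))]
    exact hv 1 t
  · simp only [S4, Fin.reduceFinMk, Matrix.cons_val]
    rw [c610, act2, show σ (X 11 _) v = _ from hv 3 _, map_smul, show σ (X 10 t) v = _ from hv 2 t, sm2]
    exact phi_congr (by ring) v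
  · simp only [S4, Fin.reduceFinMk, Matrix.cons_val]
    rw [conj_fixed (com0 (r := 6) (s := 11) (by decide))]
    exact hv 3 t

theorem mv6_3' {c : Fin 3 → F} {v : V} (hv : v ∈ Es σ S3' c) (u : F) :
    σ (X 6 u) v ∈ Es σ S3' ![c 0, c 1 - u * c 2, c 2] := by
  refine mov_mem fun i t => ?_
  fin_cases i
  · simp only [S3', Matrix.cons_val_zero, Fin.isValue, Fin.zero_eta]
    rw [conj_fixed (com0 (r := 6) (s := 9) (by decide))]
    exact hv 0 t
  · simp only [S3', Fin.mk_one, Matrix.cons_val_one, Fin.isValue, Matrix.cons_val_zero]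
    rw [c610, act2, show σ (X 11 _) v = _ from hv 2 _, map_smul, show σ (X 10 t) v = _ from hv 1 t, sm2]
    exact phi_congr (by ring) v
  · simp only [S3', Fin.reduceFinMk, Matrix.cons_val]
    rw [conj_fixed (com0 (r := 6) (s := 11) (by decide))]
    exact hv 2 t

theorem mv7_5 {s u w : F} {v : V} (hv : v ∈ Es σ S5 ![s, 0, 0, u, w]) (k : F) :
    σ (X 7 k) v ∈ Es σ S5 ![s, 0, 0, u + k * s - k ^ 3 * w, w] := by
  have e8 : ∀ t, σ (X 8 t) v = (phi0 : AddChar F ℂ) (s * t) • v := fun t => hv 0 t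
  have e9 : ∀ t, σ (X 9 t) v = v := fun t => by
    have := hv 1 t
    simpa [S5] using this
  have e11 : ∀ t, σ (X 11 t) v = v := fun t => by
    have := hv 2 t
    simpa [S5] using this
  have e6 : ∀ t, σ (X 6 t) v = (phi0 : AddChar F ℂ) (u * t) • v := fun t => hv 3 t
  have e10 : ∀ t, σ (X 10 t) v = (phi0 : AddChar F ℂ) (w * t) • v := fun t => hv 4 t
  refine mov_mem fun i t => ?_
  fin_cases i
  · simp only [S5, Matrix.cons_val_zero, Fin.isValue, Fin.zero_eta]
    rw [c78, h3]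
    simp only [zero_mul, neg_zero, X_zero, mul_one]
    rw [act2, e9, e8]
  · simp only [S5, Fin.mk_one, Matrix.cons_val_one, Fin.isValue, Matrix.cons_val_zero]
    rw [c79, h3]
    simp only [zero_mul, neg_zero, X_zero, mul_one]
    rw [e9, AddChar.map_zero_eq_one, one_smul]
  · simp only [S5, Fin.reduceFinMk, Matrix.cons_val]
    rw [conj_fixed (com0 (r := 7) (s := 11) (by decide)), e11, zero_mul, AddChar.map_zero_eq_one, one_smul]
  · simp only [S5, Fin.reduceFinMk, Matrix.cons_val]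
    rw [c76, act2, act2, act2, act2, e11, e10, map_smul, map_smul, e9, e8, map_smul, map_smul, e6, sm2, sm2]
    exact phi_congr (by ring) v
  · simp only [S5, Fin.reduceFinMk, Matrix.cons_val]
    rw [conj_fixed (com0 (r := 7) (s := 10) (by decide))]
    exact e10 t

theorem inv8 {c : Fin 3 → F} (t : F) {v : V} (hv : v ∈ Es σ S3' c) : σ (X 8 t) v ∈ Es σ S3' c :=
  comm_mem (fun i u => by fin_cases i <;> exact com_abel h3 (by simp [S3']) (by simp [S3']) _ _) hv

theorem inv10 {c : Fin 3 → F} (t : F) {v : V} (hv : v ∈ Es σ S3 c) : σ (X 10 t) v ∈ Es σ S3 c :=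
  comm_mem (fun i u => by fin_cases i <;> exact com_abel h3 (by simp [S3]) (by simp [S3]) _ _) hv

theorem inv6 {c : Fin 3 → F} (t : F) {v : V} (hv : v ∈ Es σ S3 c) : σ (X 6 t) v ∈ Es σ S3 c :=
  comm_mem (fun i u => by fin_cases i <;> exact com0 (by simp [S3]) _ _) hv

omit h3 in
theorem join4 {c : Fin 3 → F} {a : F} {v : V} (hv : v ∈ Es σ S3' c)
    (ha : ∀ t, σ (X 8 t) v = phi0 (a * t) • v) : v ∈ Es σ S4 ![a, c 0, c 1, c 2] := by
  intro i t
  fin_cases i
  · exact ha t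
  · exact hv 0 t
  · exact hv 1 t
  · exact hv 2 t

omit h3 in
theorem join4' {c : Fin 3 → F} {a : F} {v : V} (hv : v ∈ Es σ S3 c)
    (ha : ∀ t, σ (X 10 t) v = phi0 (a * t) • v) : v ∈ Es σ S4 ![c 0, c 1, a, c 2] := by
  intro i t
  fin_cases i
  · exact hv 0 t
  · exact hv 1 t
  · exact ha t
  · exact hv 2 t

omit h3 in
theorem res3 {c : Fin 4 → F} {v : V} (hv : v ∈ Es σ S4 c) :
    v ∈ Es σ S3 ![c 0, c 1, c 3] ∧ v ∈ Es σ S3' ![c 1, c 2, c 3] := by
  refine ⟨fun i t => ?_, fun i t => ?_⟩ <;> fin_cases i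
  · exact hv 0 t
  · exact hv 1 t
  · exact hv 3 t
  · exact hv 1 t
  · exact hv 2 t
  · exact hv 3 t

/-- some character with nontrivial short and long centre occurs -/
theorem exists_generic (hq : 3 < Fintype.card F) {s : F} {v₀ : V} (hv₀ : σ (X 11 s) v₀ ≠ v₀) :
    ∃ c : Fin 4 → F, c 1 ≠ 0 ∧ c 3 ≠ 0 ∧ Pr σ S4 c := by
  classical
  by_contra! hnone
  have hno : ∀ c v, v ∈ Es σ S4 c → v ≠ (0 : V) → c 3 ≠ 0 → c 1 = 0 := fun c v hv h0 h3' => by
    by_contra h1
    exact hnone c h1 h3' ⟨v, hv, h0⟩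
  have low : ∀ c v, v ∈ Es σ S4 c → v ≠ (0 : V) → c 3 ≠ 0 → c 0 = 0 ∧ c 1 = 0 := by
    intro c v hv h0 hc
    refine ⟨?_, hno c v hv h0 hc⟩
    by_contra h
    obtain ⟨e, he, hmap⟩ := Ns_map (σ := σ) (i := 0) (by omega) S3 S3 ![1, 0, 2]
      (by intro j; fin_cases j <;> exact ⟨by decide, by decide⟩)
    have hv' := hmap _ v (res3 hv).1
    obtain ⟨a, w, hw, hw0, ha⟩ := exists_eig 10 _ (fun t v hv => inv10 h3 t hv) hv'
      (fun e' => h0 (rho_inj (Ns 0) (by rw [e', map_zero])))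
    have := hno _ w (join4' hw ha) hw0 (by simpa using mul_ne_zero (he 2) hc)
    exact mul_ne_zero (he 1) h (by simpa using this)
  have fix8 : ∀ (c : Fin 3 → F) (v : V), v ∈ Es σ S3' c → c 2 ≠ 0 → ∀ t, σ (X 8 t) v = v := by
    intro c v hv hc t
    by_contra h
    obtain ⟨a, ha, w, hw, hw0, hwa⟩ := exists_eig_ne 8 _ (fun t v hv => inv8 h3 t hv) hv h
    exact ha (by simpa using (low _ w (join4 hw hwa) hw0 (by simpa using hc)).1)
  have fix7 : ∀ (c : Fin 4 → F) (v : V), v ∈ Es σ S4 c → c 2 ≠ 0 → c 3 ≠ 0 → ∀ t, σ (X 7 t) v = v := by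
    intro c v hv h2 h3' t
    obtain ⟨e, he, hmap⟩ := Ns_map_inv (σ := σ) (i := 1) (by omega) S3' S3' ![0, 2, 1]
      (by intro j; fin_cases j <;> exact ⟨by decide, by decide⟩)
    have hv0 := hmap _ v (res3 hv).2
    have h8 : ∀ t, σ (X 8 t) (σ (Ns 1)⁻¹ v) = σ (Ns 1)⁻¹ v :=
      fun t => fix8 _ _ hv0 (by simpa using mul_ne_zero (he 2) h2) t
    have h7 := Ns_fix (i := 1) (r := 7) (by omega) (by omega) h8 t
    rwa [← act2 (Ns 1) (Ns 1)⁻¹ v, mul_inv_cancel, map_one, Module.End.one_apply] at h7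
  obtain ⟨a, ha, w1, -, hw1, e11⟩ := exists_eig_ne 11 (⊤ : Submodule ℂ V) (fun _ _ _ => Submodule.mem_top)
    (Submodule.mem_top : v₀ ∈ ⊤) hv₀
  obtain ⟨a8, w2, hw2, hw20, e8⟩ := exists_eig 8 (Es σ ![11] ![a]) (fun t v hv => comm_mem (fun i u => by
    fin_cases i; exact com_abel h3 (by simp) (by simp) _ _) hv) (fun i t => by fin_cases i; exact e11 t) hw1
  obtain ⟨a9, w3, hw3, hw30, e9⟩ := exists_eig 9 (Es σ ![11, 8] ![a, a8]) (fun t v hv => comm_mem (fun i u => by
    fin_cases i <;> exact com_abel h3 (by simp) (by simp) _ _) hv)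
    (show w2 ∈ Es σ ![11, 8] ![a, a8] from fun i t => by
      fin_cases i
      · exact hw2 0 t
      · exact e8 t) hw20
  obtain ⟨a10, w4, hw4, hw40, e10⟩ := exists_eig 10 (Es σ ![11, 8, 9] ![a, a8, a9]) (fun t v hv =>
    comm_mem (fun i u => by fin_cases i <;> exact com_abel h3 (by simp) (by simp) _ _) hv)
    (show w3 ∈ Es σ ![11, 8, 9] ![a, a8, a9] from fun i t => by
      fin_cases i
      · exact hw3 0 t
      · exact hw3 1 t
      · exact e9 t) hw30
  have h4 : w4 ∈ Es σ S4 ![a8, a9, a10, a] := fun i t => by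
    fin_cases i
    · exact hw4 1 t
    · exact hw4 2 t
    · exact e10 t
    · exact hw4 0 t
  obtain ⟨h80, h90⟩ := low _ w4 h4 hw40 (by simpa using ha)
  simp only [Matrix.cons_val_zero, Matrix.cons_val_one] at h80 h90
  -- shift to a vector with a nonzero coordinate at the root 10
  obtain ⟨v, hv, hv0⟩ : ∃ v, v ∈ Es σ S4 ![0, 0, 1, a] ∧ v ≠ (0 : V) := by
    refine ⟨σ (X 6 ((a10 - 1) / a)) w4, ?_, fun e => hw40 (rho_inj (X 6 ((a10 - 1) / a)) (by rw [e, map_zero]))⟩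
    have := mv6_4 h3 h4 ((a10 - 1) / a)
    convert this using 2
    simp [h80, h90, div_mul_cancel₀ _ ha]
  obtain ⟨u, hu⟩ : ∃ u : F, u ∉ ({0, 1 / a, 1 / (2 * a)} : Finset F) := by
    by_contra! h
    have := Finset.card_le_card (s := (Finset.univ : Finset F)) (fun x _ => h x)
    rw [Finset.card_univ] at this
    have := le_trans this Finset.card_le_three
    omega
  simp only [Finset.mem_insert, Finset.mem_singleton, not_or] at hu
  obtain ⟨hu0, hu1, hu2⟩ := hu
  have hw := mv6_4 h3 hv u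
  have h2a : (2 : F) * a ≠ 0 := mul_ne_zero (two_ne h3) ha
  have hfix : ∀ t : F, (phi0 : AddChar F ℂ) ((u - 2 * u ^ 2 * a) * t ^ 3) = 1 := by
    intro t
    have h7w := fix7 _ _ hw (show (1 : F) - u * a ≠ 0 from fun e => hu1 (by field_simp; linear_combination -e))
      (by simpa using ha) t
    have hb : ∀ s, σ (X 8 s) v = v ∧ σ (X 9 s) v = v := fun s =>
      ⟨by simpa [S4] using hv 0 s, by simpa [S4] using hv 1 s⟩
    have h7v := fix7 _ v hv (show (1 : F) ≠ 0 from one_ne_zero) (by simpa using ha) t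
    have heq : X 7 t * X 6 u = X 6 u *
        (X 7 t * (X 8 (-(u * t)) * (X 9 (-(u * t ^ 2)) * (X 10 (u * t ^ 3) * X 11 (-(2 * u ^ 2 * t ^ 3)))))) := by
      rw [← c67, mul_assoc (X 6 u)⁻¹, mul_inv_cancel_left]
    rw [← act2, heq, act2, act2, act2, act2, act2, show σ (X 11 _) v = _ from hv 3 _, map_smul,
      show σ (X 10 _) v = _ from hv 2 _, sm2] at h7w
    simp only [map_smul, (hb _).1, (hb _).2, h7v] at h7w
    have hne : σ (X 6 u) v ≠ 0 := fun e => hv0 (rho_inj (X 6 u) (by rw [e, map_zero]))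
    have := smul_left_injective ℂ hne (h7w.trans (one_smul ℂ _).symm)
    simp only [Matrix.cons_val] at this
    rw [← this]
    congr 1
    ring
  have hq0 : ∀ y : F, ∃ t : F, t ^ 3 = y := by
    haveI : CharP F 3 := (CharP.charP_iff_prime_eq_zero Nat.prime_three).2 (by exact_mod_cast h3)
    haveI : Fact (Nat.Prime 3) := ⟨Nat.prime_three⟩
    exact fun y => (bijective_frobenius F 3).2 y
  have hz : u - 2 * u ^ 2 * a = 0 := phi_eq_one fun y => by
    obtain ⟨t, rfl⟩ := hq0 y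
    exact hfix t
  exact hu2 (by
    have h1 : u * (1 - 2 * u * a) = 0 := by linear_combination hz
    rcases mul_eq_zero.1 h1 with h | h
    · exact absurd h hu0
    · rw [eq_div_iff h2a]; linear_combination -h)

end Three

end Cfsg.Agent.G2MinDeg86
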