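import Cfsg.Agent.Lib.G2MinDeg86Three

/-!
Degree bounds from the spectrum of the root groups in characteristic three.
-/

set_option autoImplicit false
set_option linter.unusedSectionVars false
set_option maxRecDepth 20000
set_option maxHeartbeats 1000000

namespace Cfsg.Agent.G2MinDeg86

open Cfsg.Lie Module
open Cfsg.Agent.SLMinDegree32 (phi0 phi0_ne chi chi_apply chi_bijective)

variable {F : Type*} [Field F] [Fintype F] {V : Type} [AddCommGroup V] [Module ℂ V] [FiniteDimensional ℂ V]
  {σ : Representation ℂ (GG F) V}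

theorem slots_lt : (∀ i, S4 i < 12) ∧ (∀ i, S3 i < 12) ∧ (∀ i, S3' i < 12) ∧ (∀ i, S5 i < 12) := by decide

section Bound

variable (h3 : (3 : F) = 0) (hq : 3 < Fintype.card F) {s₀ : F} {v₀ : V} (hv₀ : σ (X 11 s₀) v₀ ≠ v₀)

/-- an inverse unit -/
noncomputable def uu {x : F} (hx : x ≠ 0) : Fˣ := (Units.mk0 x hx)⁻¹

theorem uu_val {x : F} (hx : x ≠ 0) : ((uu hx : Fˣ) : F) = x⁻¹ := by simp [uu]

include h3 hq hv₀

theorem all1 (s1 s2 t1 t2 : F) (h2 : s2 ≠ 0) (ht : t2 ≠ 0) : Pr σ S4 ![s1, s2, t1, t2] := by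
  obtain ⟨c, hc1, hc3, hP⟩ := exists_generic h3 hq hv₀
  have hP1 := hP.map _ (fun v hv => T_mem slots_lt.1 hv (Units.mk0 (c 1 / s2) (div_ne_zero hc1 h2))
    (Units.mk0 (c 3 / t2) (div_ne_zero hc3 ht)))
  obtain ⟨c', hP1, hd1, hd3⟩ : ∃ c' : Fin 4 → F, Pr σ S4 c' ∧ c' 1 = s2 ∧ c' 3 = t2 := by
    refine ⟨_, hP1, ?_, ?_⟩
    · simp [S4, wt9, div_ne_zero hc1 h2]
      field_simp
    · simp [S4, wt11, div_ne_zero hc3 ht]
      field_simp
  have h2' : (2 : F) * s2 ≠ 0 := mul_ne_zero (two_ne h3) h2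
  have hP2 := (hP1.map _ (fun v hv => mv7_4 h3 hv ((s1 - c' 0) / (2 * s2)))).map _
    (fun v hv => mv6_4 h3 hv ((c' 2 - t1) / t2))
  convert hP2 using 1
  funext i
  fin_cases i
  · simp [hd1]
    have := two_ne h3 (F := F)
    field_simp
    ring
  · simp [hd1]
  · simp [hd3, div_mul_cancel₀ _ ht]
  · simp [hd3]

/-- characters in the second short root coordinate -/
theorem pr_low (t : F) (ht : t ≠ 0) : Pr σ S4 ![0, 1, t, 0] := by
  obtain ⟨v, hv, hv0⟩ := all1 h3 hq hv₀ 0 1 0 1 one_ne_zero one_ne_zero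
  obtain ⟨e, he, hmap⟩ := Ns_map (σ := σ) (i := 1) (by omega) S3' S3' ![0, 2, 1]
    (by intro j; fin_cases j <;> exact ⟨by decide, by decide⟩)
  have hv' := hmap _ v (res3 hv).2
  obtain ⟨a, w, hw, hw0, ha⟩ := exists_eig 8 _ (fun t v hv => inv8 h3 t hv) hv'
    (fun e' => hv0 (rho_inj (Ns 1) (by rw [e', map_zero])))
  have hP : Pr σ S4 _ := ⟨w, join4 hw ha, hw0⟩
  have h20 : (2 : F) ≠ 0 := two_ne h3
  have hP2 := hP.map _ (fun v hv => mv7_4 h3 hv (-a / (2 * e 0)))
  have hb : t * e 0 ^ 3 / e 1 ≠ 0 := div_ne_zero (mul_ne_zero ht (pow_ne_zero _ (he 0))) (he 1)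
  have hP3 := hP2.map _ (fun v hv => T_mem slots_lt.1 hv (Units.mk0 _ (he 0)) (Units.mk0 _ hb))
  convert hP3 using 1
  funext i
  have e0 := he 0
  have e1 := he 1
  fin_cases i
  · simp
    field_simp
    ring
  · simp [S4, wt9]
    field_simp
  · simp [S4, wt10]
    field_simp
  · simp

theorem R_ge : Fintype.card F - 1 ≤ finrank ℂ ↥(Es σ S3 ![1, 0, 0]) := by
  classical
  obtain ⟨e, he, hmap⟩ := Ns_map (σ := σ) (i := 0) (by omega) S3 S3 ![1, 0, 2]
    (by intro j; fin_cases j <;> exact ⟨by decide, by decide⟩)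
  have h1 : finrank ℂ ↥(Es σ S3 ![0, 1, 0]) ≤ finrank ℂ ↥(Es σ S3 ![e 0, 0, 0]) := by
    refine mov_le (σ := σ) (g := (Ns 0 : GG F)) fun v hv => ?_
    convert hmap _ v hv using 2
    funext i; fin_cases i <;> simp
  have h2 : finrank ℂ ↥(Es σ S3 ![e 0, 0, 0]) ≤ finrank ℂ ↥(Es σ S3 ![1, 0, 0]) := by
    refine T_le (F := F) (S := S3) slots_lt.2.1 _ _ 1 (Units.mk0 (e 0) (he 0)) fun i => ?_
    fin_cases i <;> simp [S3, wt8, he 0]
  refine le_trans ?_ (h1.trans h2)
  have h3' := card_mul_le (σ := σ) (m := 1) S4 (Es σ S3 ![0, 1, 0])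
    ((Finset.univ.erase (0 : F)).image fun t => ![0, 1, t, 0]) (fun c hc => by
      obtain ⟨t, ht, rfl⟩ := Finset.mem_image.1 hc
      obtain ⟨v, hv, hv0⟩ := pr_low h3 hq hv₀ t (Finset.mem_erase.1 ht).1
      exact pos_of_mem (Submodule.mem_inf.2 ⟨by simpa using (res3 hv).1, hv⟩) hv0)
  rw [Finset.card_image_of_injective _ (fun a b e => by simpa using congrFun e 2), Finset.card_erase_of_mem
    (Finset.mem_univ _), Finset.card_univ, mul_one] at h3'
  exact h3'

/-- either the space is large, or a nontrivial character of the abelian quotient occurs -/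
theorem dichotomy :
    Fintype.card F * (Fintype.card F - 1) ≤ 6 * finrank ℂ ↥(Es σ S3 ![1, 0, 0]) ∨
      (Fintype.card F ≤ finrank ℂ ↥(Es σ S3 ![1, 0, 0]) ∧
        ∃ v ∈ Es σ S3' 0, ∃ s : F, σ (X 7 s) v ≠ v) := by
  classical
  obtain ⟨v, hv, hv0⟩ : ∃ v ∈ Es σ S3 ![(1 : F), 0, 0], v ≠ 0 :=
    exists_of_pos (le_trans (by omega) (R_ge h3 hq hv₀))
  obtain ⟨u, v1, hv1, hv10, hu⟩ := exists_eig 6 _ (fun t v hv => inv6 h3 t hv) hv hv0
  -- an eigenvector for both roots
  obtain ⟨w, v2, ⟨hv2, hu2⟩, hv20, hw⟩ := exists_eig 10 (Es σ S3 ![(1 : F), 0, 0] ⊓ Es σ ![6] ![u])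
    (fun t v hv => ⟨inv10 h3 t hv.1, fun i s => by
      fin_cases i
      simp only [Matrix.cons_val_fin_one, Fin.isValue, Fin.zero_eta]
      have h11 : ∀ r, σ (X 11 r) v = v := fun r => by simpa [S3] using hv.1 2 r
      have heq : X 6 s * X 10 t = X 10 t * X 6 s * X 11 (t * s) := by
        have := c610 s t
        have h := congrArg (fun g => X 6 s * g) this
        simp only [← mul_assoc, mul_inv_cancel, one_mul] at h
        rw [h, mul_assoc (X 6 s * X 10 t), X_add, neg_mul_eq_neg_mul]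
        rw [show -s * t + t * s = 0 by ring, X_zero, mul_one]
      rw [← act2, heq, act2, act2, h11, show σ (X 6 s) v = _ from hv.2 0 s, map_smul]
      rfl⟩)
    (Submodule.mem_inf.2 ⟨hv1, fun i t => by fin_cases i; exact hu t⟩) hv10
  have h5 : v2 ∈ Es σ S5 ![1, 0, 0, u, w] := fun i t => by
    fin_cases i
    · exact hv2 0 t
    · exact hv2 1 t
    · exact hv2 2 t
    · exact hu2 0 t
    · exact hw t
  have hle : ∀ c : Fin 5 → F, c 0 = 1 → c 1 = 0 → c 2 = 0 → ∀ v ∈ Es σ S5 c, v ∈ Es σ S3 ![1, 0, 0] := by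
    intro c h0 h1 h2 v hv i t
    fin_cases i
    · simpa [h0, S3, S5] using hv 0 t
    · simpa [h1, S3, S5] using hv 1 t
    · simpa [h2, S3, S5] using hv 2 t
  have hcard : ∀ B : Finset (Fin 5 → F), (∀ c ∈ B, Pr σ S5 c ∧ c 0 = 1 ∧ c 1 = 0 ∧ c 2 = 0) →
      B.card ≤ finrank ℂ ↥(Es σ S3 ![(1 : F), 0, 0]) := by
    intro B hB
    have := card_mul_le (σ := σ) (m := 1) S5 (Es σ S3 ![(1 : F), 0, 0]) B (fun c hc => by
      obtain ⟨⟨v, hv, hv0⟩, h0, h1, h2⟩ := hB c hc
      exact pos_of_mem (Submodule.mem_inf.2 ⟨hle c h0 h1 h2 v hv, hv⟩) hv0)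
    simpa using this
  have hP : Pr σ S5 ![1, 0, 0, u, w] := ⟨v2, h5, hv20⟩
  by_cases hw0 : w = 0
  · right
    subst hw0
    have hk : ∀ k : F, Pr σ S5 ![1, 0, 0, u + k, 0] := fun k => by
      have := hP.map _ (fun v hv => mv7_5 h3 hv k)
      simpa using this
    refine ⟨?_, ?_⟩
    · have := hcard (Finset.univ.image fun k : F => ![1, 0, 0, u + k, 0]) (fun c hc => by
        obtain ⟨k, -, rfl⟩ := Finset.mem_image.1 hc
        exact ⟨hk k, rfl, rfl, rfl⟩)
      rwa [Finset.card_image_of_injective _ (fun a b e => by simpa using congrFun e 3), Finset.card_univ] at this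
    · obtain ⟨v, hv, hv0⟩ := hk (-u)
      obtain ⟨e, he, hmap⟩ := Ns_map (σ := σ) (i := 1) (by omega) (![9, 10, 11, 7] : Fin 4 → ℕ)
        (![9, 11, 10, 8] : Fin 4 → ℕ) id (by intro j; fin_cases j <;> exact ⟨by decide, by decide⟩)
      have hv' := hmap ![0, 0, 0, 1] v (fun i t => by
        fin_cases i
        · simpa [S5] using hv 1 t
        · simpa [S5] using hv 2 t
        · simpa [S5] using hv 4 t
        · simpa [S5] using hv 0 t)
      refine ⟨σ (Ns 1) v, fun i t => ?_, ?_⟩
      · fin_cases i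
        · simpa [S3'] using hv' 0 t
        · simpa [S3'] using hv' 1 t
        · simpa [S3'] using hv' 2 t
      · by_contra! h
        refine he 3 (phi_eq_one fun t => ?_)
        have h1 := hv' 3 t
        simp only [id_eq, Matrix.cons_val, mul_one] at h1
        rw [h t] at h1
        exact (smul_left_injective ℂ (fun e0 => hv0 (rho_inj (Ns 1) (by rw [e0, map_zero])))
          ((one_smul ℂ _).trans h1)).symm
  · left
    let f : Fˣ × F → (Fin 5 → F) := fun p =>
      ![1, 0, 0, (u + p.2 - p.2 ^ 3 * w) * (p.1 : F)⁻¹, w * ((p.1 : F) ^ 2)]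
    have hf : ∀ p, Pr σ S5 (f p) := by
      rintro ⟨a, k⟩
      have := ((hP.map _ (fun v hv => mv7_5 h3 hv k))).map _
        (fun v hv => T_mem slots_lt.2.2.2 hv a⁻¹ a⁻¹)
      convert this using 1
      funext i
      have ha := a.ne_zero
      fin_cases i <;> simp [f, S5, wt8, wt9, wt11, wt6, wt10] <;> field_simp <;> simp
    have hB := hcard (Finset.univ.image f) (fun c hc => by
      obtain ⟨p, -, rfl⟩ := Finset.mem_image.1 hc
      exact ⟨hf p, rfl, rfl, rfl⟩)
    have hfib : ∀ b ∈ Finset.univ.image f, (Finset.univ.filter fun p => f p = b).card ≤ 6 := by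
      intro b hb
      obtain ⟨⟨a0, k0⟩, -, rfl⟩ := Finset.mem_image.1 hb
      let K : Fˣ → Finset F := fun a => Finset.univ.filter fun k : F => f (a, k) = f (a0, k0)
      have hK : ∀ a, (K a).card ≤ 3 := by
        intro a
        rcases (K a).eq_empty_or_nonempty with he | ⟨k1, hk1⟩
        · simp [he]
        · simp only [K, Finset.mem_filter] at hk1
          have hsub : (K a).image (fun k => k - k1) ⊆ Finset.univ.filter fun d : F => d = d ^ 3 * w := by
            intro d hd
            obtain ⟨k, hk, rfl⟩ := Finset.mem_image.1 hd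
            simp only [K, Finset.mem_filter] at hk ⊢
            refine ⟨Finset.mem_univ _, ?_⟩
            have h := congrFun (hk.2.trans hk1.2.symm) 3
            simp only [f, Matrix.cons_val] at h
            have h' := mul_right_cancel₀ (inv_ne_zero a.ne_zero) h
            linear_combination h' + (k * k1 * (k - k1) * w) * h3
          rw [← Finset.card_image_of_injective (K a) (sub_left_injective (b := k1))]
          refine le_trans (Finset.card_le_card hsub) ?_
          by_cases hd : ∃ d : F, d ≠ 0 ∧ d = d ^ 3 * w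
          · obtain ⟨d, hd0, hd⟩ := hd
            refine le_trans (Finset.card_le_card (t := {0, d, -d}) fun x hx => ?_) Finset.card_le_three
            simp only [Finset.mem_filter] at hx
            simp only [Finset.mem_insert, Finset.mem_singleton]
            by_cases hx0 : x = 0
            · exact Or.inl hx0
            · have hd1 : d ^ 2 * w = 1 := mul_left_cancel₀ hd0 (by linear_combination -hd)
              have hx1 : x ^ 2 * w = 1 := mul_left_cancel₀ hx0 (by linear_combination -hx.2)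
              have : (x - d) * (x + d) = 0 := mul_right_cancel₀ hw0 (by linear_combination hx1 - hd1)
              rcases mul_eq_zero.1 this with h | h
              · exact Or.inr (Or.inl (sub_eq_zero.1 h))
              · exact Or.inr (Or.inr (eq_neg_of_add_eq_zero_left h))
          · refine le_trans (Finset.card_le_card (t := {0}) fun x hx => ?_) (by simp)
            simp only [Finset.mem_filter] at hx
            simp only [Finset.mem_singleton]
            by_contra hx0
            exact hd ⟨x, hx0, hx.2⟩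
      refine le_trans (Finset.card_le_card (t := ({a0, -a0} : Finset Fˣ).biUnion fun a => (K a).image (Prod.mk a))
        fun p hp => ?_) (le_trans Finset.card_biUnion_le ?_)
      · obtain ⟨a, k⟩ := p
        simp only [Finset.mem_filter] at hp
        refine Finset.mem_biUnion.2 ⟨a, ?_, Finset.mem_image.2 ⟨k, by simpa [K] using hp.2, rfl⟩⟩
        have h := congrFun hp.2 4
        simp only [f, Matrix.cons_val] at h
        have h' : ((a : F) - a0) * ((a : F) + a0) = 0 := by
          have := mul_left_cancel₀ hw0 h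
          linear_combination this
        simp only [Finset.mem_insert, Finset.mem_singleton]
        rcases mul_eq_zero.1 h' with h | h
        · exact Or.inl (Units.ext (sub_eq_zero.1 h))
        · exact Or.inr (Units.ext (by simpa using eq_neg_of_add_eq_zero_left h))
      · refine le_trans (Finset.sum_le_sum (g := fun _ => 3) fun a _ => le_trans Finset.card_image_le (hK a)) ?_
        rw [Finset.sum_const, smul_eq_mul]
        have : ({a0, -a0} : Finset Fˣ).card ≤ 2 := Finset.card_le_two
        omega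
    have h6 := Finset.card_le_mul_card_image (f := f) Finset.univ 6 hfib
    rw [Finset.card_univ, Fintype.card_prod, Fintype.card_units, mul_comm] at h6
    omega

/-- the characters trivial on the centre of the radical -/
theorem D_ge (hP : ∃ v ∈ Es σ S3 0, ∃ s : F, σ (X 6 s) v ≠ v) :
    Fintype.card F ^ 2 - 1 ≤ finrank ℂ ↥(Es σ S3 0) := by
  classical
  obtain ⟨v, hv, s, hs⟩ := hP
  obtain ⟨u, hu0, v1, hv1, hv10, hu⟩ := exists_eig_ne 6 _ (fun t v hv => inv6 h3 t hv) hv hs
  obtain ⟨w, v2, ⟨hv2, hu2⟩, hv20, hw⟩ := exists_eig 10 (Es σ S3 (0 : Fin 3 → F) ⊓ Es σ ![6] ![u])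
    (fun t v hv => ⟨inv10 h3 t hv.1, fun i r => by
      fin_cases i
      simp only [Matrix.cons_val_fin_one, Fin.isValue, Fin.zero_eta]
      have h11 : ∀ r, σ (X 11 r) v = v := fun r => by simpa [S3] using hv.1 2 r
      have heq : X 6 r * X 10 t = X 10 t * X 6 r * X 11 (t * r) := by
        have := c610 r t
        have h := congrArg (fun g => X 6 r * g) this
        simp only [← mul_assoc, mul_inv_cancel, one_mul] at h
        rw [h, mul_assoc (X 6 r * X 10 t), X_add, neg_mul_eq_neg_mul]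
        rw [show -r * t + t * r = 0 by ring, X_zero, mul_one]
      rw [← act2, heq, act2, act2, h11, show σ (X 6 r) v = _ from hv.2 0 r, map_smul]
      rfl⟩)
    (Submodule.mem_inf.2 ⟨hv1, fun i t => by fin_cases i; exact hu t⟩) hv10
  have hP : Pr σ S5 ![0, 0, 0, u, w] := ⟨v2, fun i t => by
    fin_cases i
    · simpa [S5, S3] using hv2 0 t
    · simpa [S5, S3] using hv2 1 t
    · simpa [S5, S3] using hv2 2 t
    · exact hu2 0 t
    · exact hw t, hv20⟩
  obtain ⟨e, he, hmap⟩ := Ns_map (σ := σ) (i := 0) (by omega) S5 S5 ![1, 0, 2, 4, 3]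
    (by intro j; fin_cases j <;> exact ⟨by decide, by decide⟩)
  have hcube : ∀ y : F, ∃ t : F, t ^ 3 = y := by
    haveI : CharP F 3 := (CharP.charP_iff_prime_eq_zero Nat.prime_three).2 (by exact_mod_cast h3)
    haveI : Fact (Nat.Prime 3) := ⟨Nat.prime_three⟩
    exact fun y => (bijective_frobenius F 3).2 y
  have hshift : ∀ u' w', w' ≠ 0 → Pr σ S5 ![0, 0, 0, u', w'] → ∀ x y, y ≠ 0 → Pr σ S5 ![0, 0, 0, x, y] := by
    intro u' w' hw' hP' x y hy
    have hT := hP'.map _ (fun v hv => T_mem slots_lt.2.2.2 hv 1 (Units.mk0 (y / w') (div_ne_zero hy hw')))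
    obtain ⟨u'', hT⟩ : ∃ u'', Pr σ S5 ![0, 0, 0, u'', y] := by
      refine ⟨u' * (wt 6 1 (Units.mk0 (y / w') (div_ne_zero hy hw'))⁻¹ : F), ?_⟩
      convert hT using 1
      funext i
      fin_cases i <;> simp [S5, wt10, wt6] <;> field_simp
    obtain ⟨k, hk⟩ := hcube ((u'' - x) / y)
    have := hT.map _ (fun v hv => mv7_5 h3 hv k)
    rwa [mul_zero, add_zero, hk, div_mul_cancel₀ _ hy, sub_sub_cancel] at this
  obtain ⟨w0, u0, hw00, hP0⟩ : ∃ w0 u0 : F, w0 ≠ 0 ∧ Pr σ S5 ![0, 0, 0, u0, w0] := by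
    refine ⟨e 4 * u, e 3 * w, mul_ne_zero (he 4) hu0, ?_⟩
    have := hP.map (Ns 0) (fun v hv => hmap _ v hv)
    convert this using 1
    funext i
    fin_cases i <;> first | (simp; done) | rfl
  have hall : ∀ x y : F, (x, y) ≠ (0, 0) → Pr σ S5 ![0, 0, 0, x, y] := by
    intro x y hxy
    by_cases hy : y = 0
    · subst hy
      have hx : x ≠ 0 := fun e => hxy (by rw [e])
      have := (hshift u0 w0 hw00 hP0 0 (x / e 3) (div_ne_zero hx (he 3))).map (Ns 0) (fun v hv => hmap _ v hv)
      convert this using 1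
      funext i
      fin_cases i <;> simp [mul_div_cancel₀ _ (he 3)]
    · exact hshift u0 w0 hw00 hP0 x y hy
  have h := card_mul_le (σ := σ) (m := 1) S5 (Es σ S3 0)
    (((Finset.univ : Finset (F × F)).erase (0, 0)).image fun p => ![0, 0, 0, p.1, p.2]) (fun c hc => by
      obtain ⟨p, hp, rfl⟩ := Finset.mem_image.1 hc
      obtain ⟨v, hv, hv0⟩ := hall p.1 p.2 (Finset.mem_erase.1 hp).1
      refine pos_of_mem (Submodule.mem_inf.2 ⟨fun i t => ?_, hv⟩) hv0
      fin_cases i
      · simpa [S3, S5] using hv 0 t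
      · simpa [S3, S5] using hv 1 t
      · simpa [S3, S5] using hv 2 t)
  rw [Finset.card_image_of_injective _ (fun a b e => Prod.ext (by simpa using congrFun e 3)
    (by simpa using congrFun e 4)), Finset.card_erase_of_mem (Finset.mem_univ _), Finset.card_univ,
    Fintype.card_prod, mul_one] at h
  rwa [sq]

/-- summation over the characters of the two centres -/
theorem master :
    (Fintype.card F - 1) ^ 2 * Fintype.card F ^ 2 +
        (Fintype.card F - 1) * Fintype.card F * finrank ℂ ↥(Es σ S3' ![0, 0, 1]) +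
        (Fintype.card F - 1) * Fintype.card F * finrank ℂ ↥(Es σ S3 ![1, 0, 0]) +
        (Fintype.card F - 1) * finrank ℂ ↥(Es σ S3 ![1, 0, 0]) + finrank ℂ ↥(Es σ S3 0) ≤
      finrank ℂ V := by
  classical
  set q := Fintype.card F
  set R := finrank ℂ ↥(Es σ S3 ![1, 0, 0])
  set R' := finrank ℂ ↥(Es σ S3' ![0, 0, 1])
  set Dd := finrank ℂ ↥(Es σ S3 0)
  obtain ⟨e, he, hmap⟩ := Ns_map (σ := σ) (i := 0) (by omega) S3 S3 ![1, 0, 2]
    (by intro j; fin_cases j <;> exact ⟨by decide, by decide⟩)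
  have hR : ∀ a b : F, b ≠ 0 → R ≤ finrank ℂ ↥(Es σ S3 ![a, b, 0]) := by
    intro a b hb
    have h1 : R ≤ finrank ℂ ↥(Es σ S3 ![0, e 1, 0]) := by
      refine mov_le (σ := σ) (g := (Ns 0 : GG F)) fun v hv => ?_
      convert hmap _ v hv using 2
      funext i; fin_cases i <;> simp
    have h2 : finrank ℂ ↥(Es σ S3 ![0, e 1, 0]) ≤ finrank ℂ ↥(Es σ S3 ![0, b, 0]) := by
      refine T_le slots_lt.2.1 _ _ (Units.mk0 (e 1 / b) (div_ne_zero (he 1) hb)) 1 fun i => ?_
      fin_cases i <;> simp [S3, wt9, wt8, wt11]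
      have := he 1
      field_simp
    refine h1.trans (h2.trans (mov_le (σ := σ) (g := X 7 (a / (2 * b))) fun v hv => ?_))
    convert mv7_3 h3 hv (a / (2 * b)) using 2
    funext i
    fin_cases i
    · simp
      have := two_ne h3 (F := F)
      field_simp
    · simp
    · simp
  have hR1 : ∀ a : F, a ≠ 0 → R ≤ finrank ℂ ↥(Es σ S3 ![a, 0, 0]) := by
    intro a ha
    refine T_le slots_lt.2.1 _ _ (Units.mk0 a ha) 1 fun i => ?_
    fin_cases i <;> simp [S3, wt8]
  have hR' : ∀ a b : F, b ≠ 0 → R' ≤ finrank ℂ ↥(Es σ S3' ![0, a, b]) := by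
    intro a b hb
    have h1 : R' ≤ finrank ℂ ↥(Es σ S3' ![0, 0, b]) := by
      refine T_le slots_lt.2.2.1 _ _ 1 (Units.mk0 b hb)⁻¹ fun i => ?_
      fin_cases i <;> simp [S3', wt11]
    refine h1.trans (mov_le (σ := σ) (g := X 6 (-a / b)) fun v hv => ?_)
    convert mv6_3' h3 hv (-a / b) using 2
    funext i
    fin_cases i <;> simp [div_mul_cancel₀ _ hb]
  have hsub : ∀ {n : ℕ} {S : Fin n → ℕ} {c : Fin n → F} {U : Submodule ℂ V}, Es σ S c ≤ U →
      finrank ℂ ↥(U ⊓ Es σ S c) = finrank ℂ ↥(Es σ S c) := fun h => by rw [inf_eq_right.2 h]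
  let g : F → F → ℕ := fun s t => if s = 0 then (if t = 0 then (q - 1) * R + Dd else q * R') else
    (if t = 0 then q * R else q ^ 2)
  have hg : ∀ s t, g s t ≤ finrank ℂ ↥(Es σ S2 ![s, t]) := by
    intro s t
    by_cases hs : s = 0 <;> by_cases ht : t = 0
    · subst hs ht
      simp only [g, if_pos]
      have h := sum_le (σ := σ) S3 (Es σ S2 ![0, 0])
        (Finset.univ.image fun a : F => ![a, 0, 0])
      rw [Finset.sum_image (fun a _ b _ e => by simpa using congrFun e 0)] at h
      have hin : ∀ a : F, Es σ S3 ![a, 0, 0] ≤ Es σ S2 ![0, 0] := fun a v hv i t => by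
        fin_cases i
        · exact hv 1 t
        · exact hv 2 t
      rw [Finset.sum_congr rfl fun a _ => hsub (hin a)] at h
      rw [← Finset.add_sum_erase _ _ (Finset.mem_univ (0 : F))] at h
      have h2 := Finset.card_nsmul_le_sum ((Finset.univ : Finset F).erase 0)
        (fun a => finrank ℂ ↥(Es σ S3 ![a, 0, 0])) R (fun a ha => hR1 a (Finset.mem_erase.1 ha).1)
      rw [Finset.card_erase_of_mem (Finset.mem_univ _), Finset.card_univ, smul_eq_mul] at h2
      rw [show (![(0 : F), 0, 0] : Fin 3 → F) = 0 by funext i; fin_cases i <;> rfl] at h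
      simp only [q, R, Dd] at h h2 ⊢
      omega
    · subst hs
      simp only [g, if_pos, if_neg ht]
      have := card_mul_le (σ := σ) (m := R') S3' (Es σ S2 ![0, t])
        (Finset.univ.image fun a : F => ![0, a, t]) (fun c hc => by
          obtain ⟨a, -, rfl⟩ := Finset.mem_image.1 hc
          have hin : Es σ S3' ![0, a, t] ≤ Es σ S2 ![0, t] := fun v hv i s => by
            fin_cases i
            · exact hv 0 s
            · exact hv 2 s
          rw [hsub hin]
          exact hR' a t ht)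
      rwa [Finset.card_image_of_injective _ (fun a b e => by simpa using congrFun e 1), Finset.card_univ] at this
    · subst ht
      simp only [g, if_pos, if_neg hs]
      have := card_mul_le (σ := σ) (m := R) S3 (Es σ S2 ![s, 0])
        (Finset.univ.image fun a : F => ![a, s, 0]) (fun c hc => by
          obtain ⟨a, -, rfl⟩ := Finset.mem_image.1 hc
          have hin : Es σ S3 ![a, s, 0] ≤ Es σ S2 ![s, 0] := fun v hv i r => by
            fin_cases i
            · exact hv 1 r
            · exact hv 2 r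
          rw [hsub hin]
          exact hR a s hs)
      rwa [Finset.card_image_of_injective _ (fun a b e => by simpa using congrFun e 0), Finset.card_univ] at this
    · simp only [g, if_neg hs, if_neg ht]
      have := card_mul_le (σ := σ) (m := 1) S4 (Es σ S2 ![s, t])
        (Finset.univ.image fun p : F × F => ![p.1, s, p.2, t]) (fun c hc => by
          obtain ⟨p, -, rfl⟩ := Finset.mem_image.1 hc
          obtain ⟨v, hv, hv0⟩ := all1 h3 hq hv₀ p.1 s p.2 t hs ht
          exact pos_of_mem (Submodule.mem_inf.2 ⟨fun i r => by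
            fin_cases i
            · exact hv 1 r
            · exact hv 3 r, hv⟩) hv0)
      rwa [Finset.card_image_of_injective _ (fun a b e => Prod.ext (by simpa using congrFun e 0)
        (by simpa using congrFun e 2)), Finset.card_univ, Fintype.card_prod, mul_one, ← sq] at this
  have h := sum_le (σ := σ) S2 ⊤ ((Finset.univ : Finset (F × F)).image fun p => ![p.1, p.2])
  rw [Finset.sum_image (fun a _ b _ e => Prod.ext (by simpa using congrFun e 0) (by simpa using congrFun e 1)),
    finrank_top, Finset.sum_congr rfl fun (p : F × F) _ => hsub (le_top : Es σ S2 ![p.1, p.2] ≤ ⊤)] at h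
  refine le_trans ?_ (le_trans (Finset.sum_le_sum fun (p : F × F) _ => hg p.1 p.2) h)
  rw [Fintype.sum_prod_type, ← Finset.add_sum_erase _ _ (Finset.mem_univ (0 : F))]
  have h0 : ∑ t, g 0 t = ((q - 1) * R + Dd) + (q - 1) * (q * R') := by
    rw [← Finset.add_sum_erase _ _ (Finset.mem_univ (0 : F)), Finset.sum_congr rfl
      (fun t ht => show g 0 t = q * R' by simp [g, (Finset.mem_erase.1 ht).1]), Finset.sum_const,
      Finset.card_erase_of_mem (Finset.mem_univ _), Finset.card_univ, smul_eq_mul]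
    simp [g, q]
  have h1 : ∀ s ∈ (Finset.univ : Finset F).erase 0, ∑ t, g s t = q * R + (q - 1) * q ^ 2 := by
    intro s hs
    have hs0 := (Finset.mem_erase.1 hs).1
    rw [← Finset.add_sum_erase _ _ (Finset.mem_univ (0 : F)), Finset.sum_congr rfl
      (fun t ht => show g s t = q ^ 2 by simp [g, hs0, (Finset.mem_erase.1 ht).1]), Finset.sum_const,
      Finset.card_erase_of_mem (Finset.mem_univ _), Finset.card_univ, smul_eq_mul]
    simp [g, hs0, q]
  rw [h0, Finset.sum_congr rfl h1, Finset.sum_const, Finset.card_erase_of_mem (Finset.mem_univ _),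
    Finset.card_univ, smul_eq_mul]
  exact le_of_eq (by ring)

end Bound

end Cfsg.Agent.G2MinDeg86
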