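import Cfsg.Agent.Lib.G2MinDeg86ThreeBound
import Cfsg.Agent.Lib.ChevExcGraphData
import Cfsg.Agent.Lib.DegreeDvd
import Cfsg.Agent.S1059

/-!
The minimal degree of G2 in characteristic three.
-/

set_option autoImplicit false
set_option linter.unusedSectionVars false
set_option maxRecDepth 20000
set_option maxHeartbeats 1000000

namespace Cfsg.Agent.G2MinDeg86

open Cfsg.Lie Module
open Cfsg.Agent.SLMinDegree32 (phi0 phi0_ne chi chi_apply chi_bijective)

/-- no divisor of the group order lies just below `q⁴ + q² + 1` -/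
theorem no_divisor {f k : ℕ} (hf : 2 ≤ f) (h1 : 3 ^ (4 * f) + 3 ^ (2 * f) ≤ k + 3 ^ f + 1)
    (h2 : k ≤ 3 ^ (4 * f) + 3 ^ (2 * f))
    (hd : k ∣ (3 ^ f) ^ 6 * ((3 ^ f) ^ 2 - 1) * ((3 ^ f) ^ 6 - 1)) : False := by
  obtain ⟨q, hqf⟩ : ∃ q, q = 3 ^ f := ⟨_, rfl⟩
  have hq9 : 9 ≤ q := hqf ▸ le_trans (by norm_num) (Nat.pow_le_pow_right (by norm_num) hf)
  have h4 : 3 ^ (4 * f) = q ^ 4 := by rw [hqf, ← pow_mul, mul_comm]
  have h2f : 3 ^ (2 * f) = q ^ 2 := by rw [hqf, ← pow_mul, mul_comm]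
  rw [h4, h2f] at h1 h2
  rw [← hqf] at h1 hd
  obtain ⟨i, hi⟩ : ∃ i, k + i = q ^ 4 + q ^ 2 + 1 := ⟨q ^ 4 + q ^ 2 + 1 - k, by omega⟩
  have hi1 : 1 ≤ i := by omega
  have hi2 : i ≤ q + 2 := by omega
  have hx1 : 1 ≤ q ^ 2 := Nat.one_le_pow _ _ (by omega)
  have h6 : q ^ 6 - 1 = (q ^ 2 - 1) * (k + i) := by
    rw [hi]
    zify [hx1, Nat.one_le_pow 6 q (by omega)]
    ring
  have hdZ : (k : ℤ) ∣ ((q : ℤ) ^ 2) ^ 3 * ((q : ℤ) ^ 2 - 1) * (((q : ℤ) ^ 2) ^ 3 - 1) := by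
    have := Int.natCast_dvd_natCast.2 hd
    push_cast [hx1, Nat.one_le_pow 6 q (by omega)] at this
    rwa [← pow_mul]
  set x : ℤ := (q : ℤ) ^ 2 with hx
  have hkx : (k : ℤ) = x ^ 2 + x + 1 - i := by
    rw [hx]
    have : (k : ℤ) + i = (q : ℤ) ^ 4 + (q : ℤ) ^ 2 + 1 := by exact_mod_cast hi
    linarith [show ((q : ℤ) ^ 2) ^ 2 = (q : ℤ) ^ 4 by ring]
  have hx81 : 81 ≤ x := by rw [hx]; exact_mod_cast (le_trans (by norm_num : 81 ≤ 9 ^ 2) (Nat.pow_le_pow_left hq9 2))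
  -- the two exceptional differences
  rcases eq_or_ne i 1 with rfl | hne1
  · have hk : x + 1 ∣ (k : ℤ) := ⟨x, by rw [hkx]; push_cast; ring⟩
    have h' := hk.trans hdZ
    have hA : x + 1 ∣ (-4 : ℤ) := by
      have e : (-4 : ℤ) = x ^ 3 * (x - 1) * (x ^ 3 - 1) -
          (x + 1) * (x ^ 6 - 2 * x ^ 5 + 2 * x ^ 4 - 3 * x ^ 3 + 4 * x ^ 2 - 4 * x + 4) := by ring
      rw [e]
      exact dvd_sub h' (dvd_mul_right _ _)
    have := Int.le_of_dvd (by norm_num) (dvd_neg.1 hA)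
    linarith
  rcases eq_or_ne i 3 with rfl | hne3
  · have hk : x + 2 ∣ (k : ℤ) := ⟨x - 1, by rw [hkx]; push_cast; ring⟩
    have h' := hk.trans hdZ
    have hA : x + 2 ∣ (-216 : ℤ) := by
      have e : (-216 : ℤ) = x ^ 3 * (x - 1) * (x ^ 3 - 1) -
          (x + 2) * (x ^ 6 - 3 * x ^ 5 + 6 * x ^ 4 - 13 * x ^ 3 + 27 * x ^ 2 - 54 * x + 108) := by ring
      rw [e]
      exact dvd_sub h' (dvd_mul_right _ _)
    have hle := Int.le_of_dvd (by norm_num) (dvd_neg.1 hA)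
    have hf2 : f = 2 := by
      by_contra hf2
      have : 27 ≤ q := hqf ▸ le_trans (by norm_num) (Nat.pow_le_pow_right (by norm_num) (show 3 ≤ f by omega))
      have : (27 : ℤ) ^ 2 ≤ x := by rw [hx]; exact_mod_cast Nat.pow_le_pow_left this 2
      linarith
    subst hf2
    rw [hx, hqf] at hA
    norm_num at hA
  have hb : k ∣ q ^ 6 * ((q ^ 2 - 1) * (q ^ 2 - 1) * i) := by
    have e : q ^ 6 * (q ^ 2 - 1) * (q ^ 6 - 1) =
        q ^ 6 * ((q ^ 2 - 1) * (q ^ 2 - 1)) * k + q ^ 6 * ((q ^ 2 - 1) * (q ^ 2 - 1) * i) := by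
      rw [h6]; ring
    rw [e] at hd
    exact (Nat.dvd_add_right (dvd_mul_left _ _)).1 hd
  have hg : k ∣ Nat.gcd k (q ^ 6) * (Nat.gcd k (q ^ 2 - 1) * Nat.gcd k (q ^ 2 - 1) * i) := by
    have s1 := Nat.gcd_mul_right_dvd_mul_gcd k (q ^ 6) ((q ^ 2 - 1) * (q ^ 2 - 1) * i)
    rw [Nat.gcd_eq_left hb] at s1
    have s2 := Nat.gcd_mul_right_dvd_mul_gcd k ((q ^ 2 - 1) * (q ^ 2 - 1)) i
    have s3 := Nat.gcd_mul_right_dvd_mul_gcd k (q ^ 2 - 1) (q ^ 2 - 1)
    exact s1.trans (Nat.mul_dvd_mul_left _ (s2.trans (Nat.mul_dvd_mul s3 (Nat.gcd_dvd_right _ _))))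
  -- the part at three
  obtain ⟨e, -, he⟩ := (Nat.dvd_prime_pow Nat.prime_three).1
    (show Nat.gcd k (q ^ 6) ∣ 3 ^ (f * 6) by rw [pow_mul, ← hqf]; exact Nat.gcd_dvd_right _ _)
  have he3 : (Nat.gcd k (q ^ 6) : ℤ) ∣ (i : ℤ) - 1 := by
    by_cases hle : 2 * f ≤ e
    · exfalso
      have h : (x : ℤ) ∣ (k : ℤ) := by
        rw [hx]
        have : q ^ 2 ∣ k := dvd_trans (by rw [← h2f, he]; exact pow_dvd_pow 3 hle) (Nat.gcd_dvd_left k (q ^ 6))
        exact_mod_cast this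
      have hd' : x ∣ (i : ℤ) - 1 := by
        have e' : (i : ℤ) - 1 = x * (x + 1) - k := by rw [hkx]; ring
        rw [e']
        exact dvd_sub (dvd_mul_right _ _) h
      have hlt := Int.le_of_dvd (by have : 2 ≤ i := by omega
                                    omega) hd'
      have hq2 : (i : ℤ) ≤ q + 2 := by exact_mod_cast hi2
      nlinarith
    · have h : (Nat.gcd k (q ^ 6) : ℤ) ∣ x := by
        rw [hx]
        have : Nat.gcd k (q ^ 6) ∣ q ^ 2 := by rw [he, ← h2f]; exact pow_dvd_pow 3 (by omega)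
        exact_mod_cast this
      have hk' : (Nat.gcd k (q ^ 6) : ℤ) ∣ (k : ℤ) := Int.natCast_dvd_natCast.2 (Nat.gcd_dvd_left _ _)
      have e' : (i : ℤ) - 1 = x * (x + 1) - k := by rw [hkx]; ring
      rw [e']
      exact dvd_sub (h.mul_right _) hk'
  have he2 : (Nat.gcd k (q ^ 2 - 1) : ℤ) ∣ (i : ℤ) - 3 := by
    have h : (Nat.gcd k (q ^ 2 - 1) : ℤ) ∣ x - 1 := by
      have := Int.natCast_dvd_natCast.2 (Nat.gcd_dvd_right k (q ^ 2 - 1))
      push_cast [hx1] at this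
      exact this
    have hk' : (Nat.gcd k (q ^ 2 - 1) : ℤ) ∣ (k : ℤ) := Int.natCast_dvd_natCast.2 (Nat.gcd_dvd_left _ _)
    have e' : (i : ℤ) - 3 = (x - 1) * (x + 2) - k := by rw [hkx]; ring
    rw [e']
    exact dvd_sub (h.mul_right _) hk'
  have hk0 : 0 < k := by nlinarith
  set g3 := Nat.gcd k (q ^ 6) with hg3
  set g2 := Nat.gcd k (q ^ 2 - 1) with hg2
  have hg3pos : 0 < g3 := Nat.gcd_pos_of_pos_left _ hk0
  have hg2pos : 0 < g2 := Nat.gcd_pos_of_pos_left _ hk0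
  have hK := Nat.le_of_dvd (Nat.mul_pos hg3pos (Nat.mul_pos (Nat.mul_pos hg2pos hg2pos) (by omega))) hg
  have hq4 : q ^ 4 < k + q + 2 := by nlinarith
  rcases Nat.lt_or_ge i 3 with hlt | hge
  · have hi2' : i = 2 := by omega
    subst hi2'
    have a3 : g3 ∣ 1 := by exact_mod_cast he3
    have a2 : (g2 : ℤ) ∣ 1 := by
      have := dvd_neg.2 he2
      norm_num at this
      exact this
    have a2' : g2 ∣ 1 := by exact_mod_cast a2
    rw [Nat.dvd_one.1 a3, Nat.dvd_one.1 a2'] at hK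
    nlinarith
  have hi4 : 4 ≤ i := by omega
  have a3 : g3 ∣ i - 1 := by
    have : (g3 : ℤ) ∣ ((i - 1 : ℕ) : ℤ) := by push_cast [show 1 ≤ i by omega]; exact he3
    exact_mod_cast this
  have a2 : g2 ∣ i - 3 := by
    have : (g2 : ℤ) ∣ ((i - 3 : ℕ) : ℤ) := by push_cast [show 3 ≤ i by omega]; exact he2
    exact_mod_cast this
  have b2 : g2 ≤ i - 3 := Nat.le_of_dvd (by omega) a2
  have b3 : g3 ≤ i - 1 := Nat.le_of_dvd (by omega) a3
  have hK' : k ≤ g3 * ((i - 3) * (i - 3) * i) :=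
    hK.trans (Nat.mul_le_mul_left _ (Nat.mul_le_mul_right _ (Nat.mul_le_mul b2 b2)))
  rcases (show i = q + 2 ∨ i ≤ q + 1 by omega) with hiq | hiq
  · subst hiq
    have hc : Nat.Coprime g3 (q + 2 - 1) := by
      refine Nat.Coprime.coprime_dvd_left (Nat.gcd_dvd_right k (q ^ 6)) (Nat.Coprime.pow_left 6 ?_)
      rw [show q + 2 - 1 = q + 1 by omega]
      simp
    have hg31 : g3 = 1 := Nat.Coprime.eq_one_of_dvd hc a3
    rw [hg31, one_mul, show q + 2 - 3 = q - 1 by omega] at hK'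
    have : (q - 1) * (q - 1) ≤ q * q := Nat.mul_le_mul (Nat.sub_le _ _) (Nat.sub_le _ _)
    nlinarith
  · have hK2 : k ≤ q * ((q - 2) * (q - 2) * (q + 1)) :=
      hK'.trans (Nat.mul_le_mul (b3.trans (by omega))
        (Nat.mul_le_mul (Nat.mul_le_mul (by omega) (by omega)) hiq))
    zify [show 2 ≤ q by omega] at hK2 hq4
    nlinarith

variable {F : Type*} [Field F] [Fintype F] {V : Type} [AddCommGroup V] [Module ℂ V] [FiniteDimensional ℂ V]

/-- twisting by the exceptional symmetry -/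
theorem mirror (h3 : (3 : F) = 0) (hq : 3 < Fintype.card F) (σ : Representation ℂ (GG F) V)
    (hne : ∃ g, σ g ≠ 1) :
    Fintype.card F - 1 ≤ finrank ℂ ↥(Es σ S3' ![0, 0, 1]) ∧
    (Fintype.card F * (Fintype.card F - 1) ≤ 6 * finrank ℂ ↥(Es σ S3' ![0, 0, 1]) ∨
      (Fintype.card F ≤ finrank ℂ ↥(Es σ S3' ![0, 0, 1]) ∧
        ∃ v ∈ Es σ S3 0, ∃ s : F, σ (X 6 s) v ≠ v)) := by
  classical
  haveI : CharP F 3 := (CharP.charP_iff_prime_eq_zero Nat.prime_three).2 (by exact_mod_cast h3)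
  haveI : Fact (Nat.Prime 3) := ⟨Nat.prime_three⟩
  haveI : CharP F ChevExcGraphData.excG2.p := by show CharP F 3; infer_instance
  have hperf : ∀ y : F, ∃ t : F, t ^ 3 = y := fun y => (bijective_frobenius F 3).2 y
  obtain ⟨α, hα⟩ := ChevExcGraph.exists_aut (F := F) ChevExcGraphData.excG2 ChevalleyDataG2.cert
    (ChevBruhatInstance.sys chevG2 (by simp) F) (Or.inr rfl) hperf
  have hX : ∀ r : ℕ, r < 12 → ∀ t : F, α (X r t) =
      X (ChevExcGraphData.excG2.rho r) (t ^ ChevExcGraphData.excG2.e r) := fun r hr t =>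
    Subtype.ext (Units.ext ((hα (X r t) r t (facts.1 ▸ hr) rfl).trans rfl))
  have hfacts : ∀ r : ℕ, r < 12 → (ChevExcGraphData.excG2.rho r, ChevExcGraphData.excG2.e r) =
      (([(2, 1), (3, 1), (0, 3), (1, 3), (5, 3), (4, 1), (7, 1), (6, 3), (10, 3), (11, 3), (8, 1), (9, 1)] :
        List (ℕ × ℕ)).getD r (0, 0)) := by decide +kernel
  have hXv : ∀ r : ℕ, r < 12 → ∀ r' e : ℕ, (([(2, 1), (3, 1), (0, 3), (1, 3), (5, 3), (4, 1), (7, 1), (6, 3),
      (10, 3), (11, 3), (8, 1), (9, 1)] : List (ℕ × ℕ)).getD r (0, 0)) = (r', e) →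
      ∀ t : F, α (X r t) = X r' (t ^ e) := by
    intro r hr r' e h t
    obtain ⟨h1, h2⟩ := Prod.mk.inj ((hfacts r hr).trans h)
    rw [hX r hr, h1, h2]
  have a7 := hXv 7 (by norm_num) 6 3 rfl
  have a8 := hXv 8 (by norm_num) 10 3 rfl
  have a9 := hXv 9 (by norm_num) 11 3 rfl
  have a10 := hXv 10 (by norm_num) 8 1 rfl
  have a11 := hXv 11 (by norm_num) 9 1 rfl
  have hF : ∃ a : F, a ≠ 0 ∧ a ≠ 1 := by
    obtain ⟨a, -, ha⟩ := Finset.exists_mem_notMem_of_card_lt_card (s := ({0, 1} : Finset F)) (t := Finset.univ)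
      (by rw [Finset.card_univ]; exact lt_of_le_of_lt Finset.card_le_two (by omega))
    simp only [Finset.mem_insert, Finset.mem_singleton, not_or] at ha
    exact ⟨a, ha⟩
  set σ' : Representation ℂ (GG F) V := σ.comp α.toMonoidHom with hσ'
  have hap : ∀ g, σ' g = σ (α g) := fun g => rfl
  have hne' : ∃ g, σ' g ≠ 1 := by
    obtain ⟨g, hg⟩ := hne
    exact ⟨α.symm g, by rwa [hap, MulEquiv.apply_symm_apply]⟩
  obtain ⟨s, v₀, hv₀⟩ := moved hF hne' (r := 11) (by norm_num)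
  -- the scalar of the cube roots
  let ψ : AddChar (Fin 1 → F) ℂ :=
    { toFun := fun a => phi0 ((frobeniusEquiv F 3).symm (a 0))
      map_zero_eq_one' := by simp
      map_add_eq_mul' := fun a b => by
        rw [Pi.add_apply, map_add, AddChar.map_add_eq_mul] }
  obtain ⟨cψ, hcψ⟩ := chi_bijective.2 ψ
  have hc : ∀ t : F, (phi0 : AddChar F ℂ) (cψ 0 * t ^ 3) = phi0 t := fun t => by
    have h := DFunLike.congr_fun hcψ ![t ^ 3]
    simp only [chi_apply, dotProduct, Fin.sum_univ_one, Matrix.cons_val_zero] at h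
    rw [h]
    show phi0 ((frobeniusEquiv F 3).symm (t ^ 3)) = _
    rw [show t ^ 3 = frobeniusEquiv F 3 t from rfl, RingEquiv.symm_apply_apply]
  have hc0 : cψ 0 ≠ 0 := fun h => by
    obtain ⟨a, ha⟩ := phi0_ne (F := F)
    exact ha (by rw [← hc, h, zero_mul, AddChar.map_zero_eq_one])
  obtain ⟨e, he, hmap⟩ := Ns_map (σ := σ) (i := 1) (by omega) S3' S3' ![0, 2, 1]
    (by intro j; fin_cases j <;> exact ⟨by decide, by decide⟩)
  have hle : finrank ℂ ↥(Es σ' S3 ![1, 0, 0]) ≤ finrank ℂ ↥(Es σ S3' ![0, 0, 1]) := by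
    have h1 : Es σ' S3 ![(1 : F), 0, 0] ≤ Es σ S3' ![0, cψ 0, 0] := fun v hv i t => by
      fin_cases i
      · have h := hv 2 t
        rw [hap, show S3 2 = 11 from rfl, a11, pow_one] at h
        exact h
      · obtain ⟨y, rfl⟩ := hperf t
        have h := hv 0 y
        rw [hap, show S3 0 = 8 from rfl, a8] at h
        simp only [Matrix.cons_val_zero, one_mul] at h
        rw [← hc y] at h
        exact h
      · obtain ⟨y, rfl⟩ := hperf t
        have h := hv 1 y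
        rw [hap, show S3 1 = 9 from rfl, a9] at h
        simp only [Matrix.cons_val_one, Matrix.cons_val_zero, zero_mul] at h
        simpa [S3'] using h
    refine (Submodule.finrank_mono h1).trans ?_
    have h2 : finrank ℂ ↥(Es σ S3' ![0, cψ 0, 0]) ≤ finrank ℂ ↥(Es σ S3' ![0, 0, e 2 * cψ 0]) := by
      refine mov_le (σ := σ) (g := (Ns 1 : GG F)) fun v hv => ?_
      convert hmap _ v hv using 2
      funext i; fin_cases i <;> simp
    refine h2.trans (T_le slots_lt.2.2.1 _ _ 1 (Units.mk0 _ (mul_ne_zero (he 2) hc0)) fun i => ?_)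
    fin_cases i <;> simp [S3', wt11, he 2, hc0]
    field_simp [he 2, hc0]
  refine ⟨le_trans (R_ge h3 hq hv₀) hle, ?_⟩
  rcases dichotomy h3 hq hv₀ with h | ⟨h, v, hv, s', hs'⟩
  · exact Or.inl (le_trans h (Nat.mul_le_mul_left _ hle))
  · refine Or.inr ⟨h.trans hle, v, fun i t => ?_, s' ^ 3, ?_⟩
    · fin_cases i
      · have h := hv 1 t
        rw [hap, show S3' 1 = 10 from rfl, a10, pow_one] at h
        exact h
      · have h := hv 2 t
        rw [hap, show S3' 2 = 11 from rfl, a11, pow_one] at h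
        exact h
      · obtain ⟨y, rfl⟩ := hperf t
        have h := hv 0 y
        rw [hap, show S3' 0 = 9 from rfl, a9] at h
        simp only [Pi.zero_apply, zero_mul] at h ⊢
        exact h
    · rwa [hap, a7] at hs'

theorem bound_three (h3 : (3 : F) = 0) (hq : 3 < Fintype.card F) (σ : Representation ℂ (GG F) V)
    [σ.IsIrreducible] (hne : ∃ g, σ g ≠ 1) :
    Fintype.card F ^ 4 + Fintype.card F ^ 2 + 1 ≤ finrank ℂ V := by
  classical
  have hF : ∃ a : F, a ≠ 0 ∧ a ≠ 1 := by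
    obtain ⟨a, -, ha⟩ := Finset.exists_mem_notMem_of_card_lt_card (s := ({0, 1} : Finset F)) (t := Finset.univ)
      (by rw [Finset.card_univ]; exact lt_of_le_of_lt Finset.card_le_two (by omega))
    simp only [Finset.mem_insert, Finset.mem_singleton, not_or] at ha
    exact ⟨a, ha⟩
  obtain ⟨s, v₀, hv₀⟩ := moved hF hne (r := 11) (by norm_num)
  have hM := master h3 hq hv₀
  have hR := R_ge h3 hq hv₀
  obtain ⟨hR', hd'⟩ := mirror h3 hq σ hne
  haveI : CharP F 3 := (CharP.charP_iff_prime_eq_zero Nat.prime_three).2 (by exact_mod_cast h3)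
  obtain ⟨f, -, hf⟩ := FiniteField.card F 3
  have hf2 : 2 ≤ (f : ℕ) := by
    by_contra h
    have : (f : ℕ) = 1 := by have := f.pos; omega
    rw [this, pow_one] at hf
    omega
  have hq9 : 9 ≤ Fintype.card F := hf ▸ le_trans (by norm_num) (Nat.pow_le_pow_right (by norm_num) hf2)
  have hcd : finrank ℂ V ∣ Nat.card (GG F) := DegreeDvd.finrank_dvd_card σ
  rw [Cfsg.Agent.S1059.result rfl] at hcd
  set q := Fintype.card F
  set R := finrank ℂ ↥(Es σ S3 ![1, 0, 0])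
  set R' := finrank ℂ ↥(Es σ S3' ![0, 0, 1])
  set D' := finrank ℂ ↥(Es σ S3 0)
  set k := finrank ℂ V
  obtain ⟨p, hp⟩ : ∃ p, q = p + 1 := ⟨q - 1, by omega⟩
  have hM' : p ^ 2 * q ^ 2 + p * q * R' + p * q * R + p * R + D' ≤ k := by
    rw [show q - 1 = p by omega] at hM
    exact hM
  rw [show q - 1 = p by omega] at hR hR'
  have hp8 : 8 ≤ p := by omega
  by_cases hbig : q * p ≤ 6 * R ∨ q * p ≤ 6 * R'
  · rcases hbig with h | h
    · have h1 : (q + 1) * p * (q * p) ≤ (q + 1) * p * (6 * R) := Nat.mul_le_mul_left _ h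
      have h2 : p * q * p ≤ p * q * R' := Nat.mul_le_mul_left _ hR'
      rw [hp] at hM' h1 h2 ⊢
      nlinarith [Nat.mul_le_mul (Nat.mul_le_mul hp8 hp8) hp8]
    · have h1 : q * p * (q * p) ≤ q * p * (6 * R') := Nat.mul_le_mul_left _ h
      have h2 : (q + 1) * p * p ≤ (q + 1) * p * R := Nat.mul_le_mul_left _ hR
      rw [hp] at hM' h1 h2 ⊢
      nlinarith [Nat.mul_le_mul (Nat.mul_le_mul hp8 hp8) hp8]
  push Not at hbig
  have hp' : q - 1 = p := by omega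
  obtain ⟨hRq, -⟩ := (dichotomy h3 hq hv₀).resolve_left (fun h => by
    change q * (q - 1) ≤ 6 * R at h
    rw [hp'] at h
    omega)
  obtain ⟨hR'q, hP⟩ := hd'.resolve_left (fun h => by
    change q * (q - 1) ≤ 6 * R' at h
    rw [hp'] at h
    omega)
  have hD := D_ge h3 hq hv₀ hP
  by_contra hlt
  have h1 : p * q * q ≤ p * q * R' := Nat.mul_le_mul_left _ hR'q
  have h2 : (q + 1) * p * q ≤ (q + 1) * p * R := Nat.mul_le_mul_left _ hRq
  have hD' : q ^ 2 ≤ D' + 1 := by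
    change q ^ 2 - 1 ≤ D' at hD
    omega
  refine no_divisor hf2 ?_ ?_ (hf ▸ hcd)
  · rw [show 3 ^ (4 * (f : ℕ)) = q ^ 4 by rw [hf, ← pow_mul, mul_comm],
      show 3 ^ (2 * (f : ℕ)) = q ^ 2 by rw [hf, ← pow_mul, mul_comm], ← hf]
    rw [hp] at hM' h1 h2 hD' ⊢
    nlinarith
  · rw [show 3 ^ (4 * (f : ℕ)) = q ^ 4 by rw [hf, ← pow_mul, mul_comm],
      show 3 ^ (2 * (f : ℕ)) = q ^ 2 by rw [hf, ← pow_mul, mul_comm]]
    omega

end Cfsg.Agent.G2MinDeg86
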