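import Cfsg.Agent.Lib.G2OddSemisimple68
import Cfsg.Agent.Lib.G2EvenFrobenius68

/-!
Element orders of the Chevalley group of type G2 over a finite field of odd order: every one divides a
member of a list of six.
-/

set_option autoImplicit false

namespace Cfsg.Agent.G2OddFrobenius68

open Cfsg.Lie Cfsg.Agent.ChevWeyl Cfsg.Agent.ChevBruhat Cfsg.Agent.ChevRootCoord68
  Cfsg.Agent.G2EvenWeyl68 Cfsg.Agent.G2EvenCentralizer68 Cfsg.Agent.G2OddTorus68
  Cfsg.Agent.G2OddSemisimple68
open Cfsg.Agent.G2EvenFrobenius68 (height_bound U_le addOrderOf_dvd_pi)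
open Cfsg.Agent.ChevCoxTorus68 (Pm act_Pm tor tor_inj map_mem_group conj_tor mem_H_iff)
open Cfsg.Agent.ChevalleyTorusCard (act smithG2 act_mul act_one act_nsmul)
open Cfsg.Agent.ChevalleyCore (xg)

section Unipotent

variable {K : Type*} [Field K]

open Cfsg.Agent.ChevalleyUnipotent Cfsg.Agent.ChevalleyParabolic Cfsg.Agent.ChevalleyAdjoint in
theorem raise_six_eq_one {v : GL chevG2.Idx K} (hv : v ∈ chevG2.posUnipotent K)
    (h6 : Raise (wJ C (∅ : Set ℕ)) 6 ((v : Matrix chevG2.Idx chevG2.Idx K) - 1)) : v = 1 := by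
  obtain ⟨t, ⟨-, rfl⟩, -⟩ := U_normal_form C hv
  suffices h : ∀ k, chevG2.nroots / 2 ≤ k → uProd C k t = uProd C (chevG2.nroots / 2) t by
    rw [← h chevG2.nroots (by decide), uProd_top C le_rfl]
  intro k hk
  induction k, hk using Nat.le_induction with
  | base => rfl
  | succ k hk ih =>
    rcases Nat.lt_or_ge k chevG2.nroots with hkr | hkr
    swap
    · rw [uProd_top C (by omega), ← ih, uProd_top C hkr]
    rw [← ih] at h6 ⊢
    rw [uProd_succ C hkr]
    suffices ht : t k = 0 by rw [ht, ChevalleyCore.xg_zero, one_mul]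
    set v' := uProd C (k + 1) t with hv'
    have hmem : v' ∈ uGe C (F := K) (k + 1) := uProd_mem C (by omega) t
    have hU : v' ∈ chevG2.posUnipotent K := by
      rw [posUnipotent_eq C]; exact uGe_mono C (by omega) hmem
    set A := ((uProd C k t : GL chevG2.Idx K) : Matrix chevG2.Idx chevG2.Idx K) - 1 with hA
    set B := ((v'⁻¹ : GL chevG2.Idx K) : Matrix chevG2.Idx chevG2.Idx K) - 1 with hB
    have hB1 : Raise (wJ C (∅ : Set ℕ)) 1 B := by
      have := (U_le (inv_mem hU)).1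
      exact_mod_cast this
    have he : chevG2.x K k (t k) - 1 = A + A * B + B := by
      have h1 : xg C k (t k) = uProd C k t * v'⁻¹ := by rw [uProd_succ C hkr, mul_inv_cancel_right]
      have h2 := congrArg (fun g : GL chevG2.Idx K => (g : Matrix chevG2.Idx chevG2.Idx K)) h1
      simp only [ChevalleyCore.coe_xg, Units.val_mul] at h2
      rw [h2, hA, hB]
      noncomm_ring
    obtain ⟨j, hj⟩ := cc_ne_zero C (F := K) hkr
    set a : chevG2.Idx := Sum.inl j
    set b : chevG2.Idx := Sum.inr ⟨chevG2.neg k, C.neg_lt k⟩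
    have hneg : C.coef (chevG2.neg k) 0 = -C.coef k 0 ∧ C.coef (chevG2.neg k) 1 = -C.coef k 1 :=
      ⟨C.coef_neg k 0 hkr (by decide), C.coef_neg k 1 hkr (by decide)⟩
    have hw : wJ C (∅ : Set ℕ) a = 0 ∧ wJ C (∅ : Set ℕ) b = -(C.coef k 0 + C.coef k 1) := by
      constructor <;>
        simp [wJ, cf, a, b, show chevG2.rank = 2 from rfl, Finset.sum_range_succ, hneg.1, hneg.2] <;>
        ring
    have h5 := height_bound ⟨k, hkr⟩ hk
    have hA0 : A a b = 0 := by
      by_contra hne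
      have := h6 a b hne
      rw [hw.1, hw.2] at this
      simp only at h5
      omega
    have hAB : (A * B) a b = 0 := by
      by_contra hne
      have := raise_mul _ h6 hB1 a b hne
      rw [hw.1, hw.2] at this
      simp only at h5
      omega
    have hB0 : B a b = 0 := by
      have hu := uGe_succ_entry C hk hkr (inv_mem hmem)
      have hkp := (ChevalleyRoots.key_pos C hkr).2 hk
      have e := upperAt_entry (kq C) hu (i := a) (j := b) (by
        simp only [kq, a, b, Sum.elim_inl, Sum.elim_inr]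
        rw [ChevalleyRoots.key_neg C hkr]; omega)
      rw [hB, Matrix.sub_apply, e, sub_self]
    have h := congrFun (congrFun he a) b
    rw [Matrix.add_apply, Matrix.add_apply, hA0, hAB, hB0, Matrix.sub_apply, x_entry C hkr,
      Matrix.one_apply_ne (by simp [a, b]), sub_zero, add_zero, add_zero] at h
    exact (mul_eq_zero.1 h).resolve_left hj

open Cfsg.Agent.ChevalleyUnipotent Cfsg.Agent.ChevalleyParabolic in
theorem U_pow {p e : ℕ} [Fact p.Prime] [CharP K p] (he : 6 ≤ p ^ e) {u : GL chevG2.Idx K}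
    (hu : u ∈ chevG2.posUnipotent K) : u ^ p ^ e = 1 := by
  refine raise_six_eq_one (pow_mem hu _) ?_
  have h := (U_le hu).1
  set A := (u : Matrix chevG2.Idx chevG2.Idx K) - 1 with hA
  have hpow : ∀ n : ℕ, 1 ≤ n → Raise (wJ C (∅ : Set ℕ)) (n : ℤ) (A ^ n) := by
    intro n hn
    induction n, hn using Nat.le_induction with
    | base => simpa using h
    | succ n _ ih =>
      rw [pow_succ]
      exact_mod_cast raise_mul _ ih h
  have : Nonempty chevG2.Idx := ⟨Sum.inl ⟨0, by decide⟩⟩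
  have h2 := sub_pow_char_pow_of_commute (p := p) (n := e) (x := (u : Matrix chevG2.Idx chevG2.Idx K)) (y := 1)
    (Commute.one_right _)
  rw [← hA, one_pow] at h2
  rw [Units.val_pow_eq_pow_val, ← h2]
  intro i j hij
  have := hpow (p ^ e) (by omega) i j hij
  have h6 : (6 : ℤ) ≤ ((p ^ e : ℕ) : ℤ) := by exact_mod_cast he
  linarith

theorem pow_bound [Fintype K] {p e : ℕ} [Fact p.Prime] [CharP K p] (he : 6 ≤ p ^ e)
    (x : ↥(chevG2.group K)) {j : ℕ} (hj : x ^ p ^ j = 1) : x ^ p ^ e = 1 := by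
  obtain ⟨P, hP⟩ := ChevalleySylow.exists_sylow C (S (K := K)) p
  have hpg : IsPGroup p ↥(Subgroup.zpowers x) := by
    intro y
    obtain ⟨y, k, rfl⟩ := y
    refine ⟨j, Subtype.ext ?_⟩
    show (x ^ k) ^ (p ^ j) = 1
    rw [← zpow_natCast, ← zpow_mul, mul_comm, zpow_mul, zpow_natCast, hj, one_zpow]
  obtain ⟨Q, hQ⟩ := hpg.exists_le_sylow
  obtain ⟨g, hg⟩ := MulAction.exists_smul_eq ↥(chevG2.group K) Q P
  have hmem : g * x * g⁻¹ ∈ (P : Subgroup ↥(chevG2.group K)) := by
    rw [← hg, Sylow.coe_subgroup_smul, Subgroup.mem_pointwise_smul_iff_inv_smul_mem]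
    simpa [mul_assoc] using hQ (Subgroup.mem_zpowers x)
  rw [hP, Subgroup.mem_subgroupOf] at hmem
  have h' : (g * x * g⁻¹) ^ p ^ e = 1 := Subtype.ext (by rw [Subgroup.coe_pow]; exact U_pow he hmem)
  rwa [conj_pow, conj_eq_one_iff] at h'

/-- an element of p-power order in SL(m) has order p when m is at most p -/
theorem sl_pow {p : ℕ} [Fact p.Prime] [CharP K p] {m k : ℕ} (hme : m ≤ p)
    {A : Matrix.SpecialLinearGroup (Fin m) K} (hA : A ^ p ^ k = 1) : A ^ p = 1 := by
  rcases Nat.eq_zero_or_pos m with rfl | hm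
  · exact Subtype.ext (Matrix.ext fun i => i.elim0)
  have : Nonempty (Fin m) := ⟨⟨0, hm⟩⟩
  set M := (A : Matrix (Fin m) (Fin m) K)
  have hc : ∀ n, (M - 1) ^ p ^ n = M ^ p ^ n - 1 := fun n => by
    rw [sub_pow_char_pow_of_commute (p := p) (n := n) (Commute.one_right M), one_pow]
  have hnil : IsNilpotent (M - 1) := ⟨p ^ k, by
    rw [hc, ← Matrix.SpecialLinearGroup.coe_pow, hA, Matrix.SpecialLinearGroup.coe_one, sub_self]⟩
  have hch : (M - 1).charpoly = Polynomial.X ^ m := by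
    have := (Matrix.isNilpotent_charpoly_sub_pow_of_isNilpotent hnil).eq_zero
    rwa [sub_eq_zero, Fintype.card_fin] at this
  have h0 : (M - 1) ^ m = 0 := by
    have := Matrix.aeval_self_charpoly (M - 1)
    rwa [hch, map_pow, Polynomial.aeval_X] at this
  have := pow_eq_zero_of_le hme h0
  rw [← pow_one p, hc, sub_eq_zero, pow_one] at this
  exact Subtype.ext (by rw [Matrix.SpecialLinearGroup.coe_pow, Matrix.SpecialLinearGroup.coe_one]; exact this)

end Unipotent

theorem three_dvd_succ {a : ℕ} (h : ¬ 3 ∣ a) (h' : ¬ 3 ∣ a - 1) : 3 ∣ a + 1 := by omega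

/-- the numbers -/
def bounds (p q : ℕ) : Finset ℕ :=
  ({p * (q + 1), p * (q - 1), q ^ 2 - 1, q ^ 2 + q + 1, q ^ 2 - q + 1} : Finset ℕ) ∪
    if p = 3 ∨ p = 5 then {p ^ 2} else ∅

set_option maxHeartbeats 4000000 in
/-- every element order divides one of the numbers -/
theorem exists_bound {F : Type*} [Field F] [Fintype F] (p : ℕ) [Fact p.Prime] [CharP F p] (hp2 : p ≠ 2)
    (x : ↥(chevG2.group F)) :
    ∃ N ∈ bounds p (Fintype.card F), orderOf x ∣ N := by
  classical
  have hp : p.Prime := Fact.out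
  set q := Fintype.card F with hq
  have hq1 : 1 < q := Fintype.one_lt_card
  have hpq : p ∣ q := by
    obtain ⟨e, -, he⟩ := FiniteField.card F p
    rw [hq, he]; exact dvd_pow_self p e.pos.ne'
  have hq2 : 2 ∣ q - 1 := by
    have : Odd q := by
      obtain ⟨e, -, he⟩ := FiniteField.card F p
      rw [hq, he]; exact (hp.odd_of_ne_two hp2).pow
    obtain ⟨a, ha⟩ := this
    exact ⟨a, by omega⟩
  have ho : 0 < orderOf x := orderOf_pos x
  obtain ⟨k, n, hnp, hkn⟩ : ∃ k n, ¬ p ∣ n ∧ orderOf x = p ^ k * n := by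
    obtain ⟨k, n, hn, h⟩ := Nat.exists_eq_pow_mul_and_not_dvd ho.ne' p hp.ne_one
    exact ⟨k, n, hn, h⟩
  by_cases hn1 : n = 1
  · have hxk : x ^ p ^ k = 1 := by rw [← mul_one (p ^ k), ← hn1, ← hkn, pow_orderOf_eq_one]
    have hp3 := hp.two_le
    by_cases h35 : p = 3 ∨ p = 5
    · refine ⟨p ^ 2, by simp [bounds, h35], orderOf_dvd_of_pow_eq_one (pow_bound ?_ x hxk)⟩
      rcases h35 with rfl | rfl <;> norm_num
    · refine ⟨p * (q - 1), by simp [bounds], (orderOf_dvd_of_pow_eq_one (pow_bound (e := 1) ?_ x hxk)).trans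
        (by rw [pow_one]; exact dvd_mul_right _ _)⟩
      rw [pow_one]
      by_contra h
      interval_cases p <;> norm_num at *
  have hnpos : 0 < n := Nat.pos_of_ne_zero fun h => hnp (h ▸ dvd_zero p)
  have hcpn : Nat.Coprime p n := (hp.coprime_iff_not_dvd).2 hnp
  set D := Nat.totient n with hD
  have : NeZero D := ⟨(Nat.totient_pos.2 hnpos).ne'⟩
  let K := FiniteField.Extension F p D
  let _ : Fintype K := Fintype.ofFinite _
  have : CharP K p := charP_of_injective_ringHom (algebraMap F K).injective p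
  let L := FiniteField.Extension K p 2
  let _ : Fintype L := Fintype.ofFinite _
  have : CharP L p := charP_of_injective_ringHom (algebraMap K L).injective p
  let ι : F →+* L := (algebraMap K L).comp (algebraMap F K)
  let _ : Algebra F L := ι.toAlgebra
  have hcardK : Fintype.card K = q ^ D := by
    rw [← Nat.card_eq_fintype_card, FiniteField.natCard_extension, Nat.card_eq_fintype_card]
  have hcardL : Fintype.card L = Fintype.card K ^ 2 := by
    rw [← Nat.card_eq_fintype_card, FiniteField.natCard_extension, Nat.card_eq_fintype_card]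
  have hdvd : n ∣ Fintype.card K - 1 := by
    obtain ⟨e, -, he⟩ := FiniteField.card F p
    have hc : q.Coprime n := by
      rw [hq, he]
      exact Nat.Coprime.pow_left _ hcpn
    rw [hcardK]
    exact (Nat.modEq_iff_dvd' (Nat.one_le_pow _ _ (by omega))).1 (Nat.ModEq.pow_totient hc).symm
  have hLK : 2 * (Fintype.card K - 1) ∣ Fintype.card L - 1 := by
    rw [hcardL, show Fintype.card K ^ 2 - 1 = (Fintype.card K + 1) * (Fintype.card K - 1) by
      have := Nat.sq_sub_sq (Fintype.card K) 1; rwa [one_pow] at this]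
    refine mul_dvd_mul_right ?_ _
    rw [hcardK, ← even_iff_two_dvd]
    refine Odd.add_one ?_
    obtain ⟨e, -, he⟩ := FiniteField.card F p
    rw [hq, he]; exact ((hp.odd_of_ne_two hp2).pow).pow
  have hdvdL : n ∣ Fintype.card L - 1 := (hdvd.trans (dvd_mul_left _ 2)).trans hLK
  let mp : GL chevG2.Idx F →* GL chevG2.Idx L := Matrix.GeneralLinearGroup.map ι
  have hmp : Function.Injective mp := by
    intro a b hab
    apply Units.ext
    have h := congrArg (fun g : GL chevG2.Idx L => (g : Matrix chevG2.Idx chevG2.Idx L)) hab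
    simp only [mp, ChevFieldAut77.coe_map] at h
    exact Matrix.map_injective ι.injective h
  let σ : L ≃+* L := (FiniteField.frobeniusAlgEquivOfAlgebraic F L).toRingEquiv
  have hσ : ∀ a, σ a = a ^ q := fun a => rfl
  let ψ : GL chevG2.Idx L →* GL chevG2.Idx L := ChevFieldAut77.psi σ
  have hψι : ∀ y : GL chevG2.Idx F, ψ (mp y) = mp y := by
    intro y
    apply Units.ext
    rw [ChevFieldAut77.coe_map, ChevFieldAut77.coe_map]
    ext i j
    show σ (ι _) = ι _
    rw [hσ, ← map_pow, FiniteField.pow_card]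
  have hψtor : ∀ χ, ψ (tor smithG2 χ) = tor smithG2 (q • χ) := by
    intro χ
    rw [tor, tor, ChevFieldAut77.psi_torus, act_nsmul]
    refine congrArg _ (funext fun i => Units.ext ?_)
    simp [toMul_nsmul, hσ]
  -- the two parts
  set X' := mp (x : GL chevG2.Idx F) with hX'
  have hordX : orderOf X' = p ^ k * n := by
    rw [hX', orderOf_injective mp hmp, Subgroup.orderOf_coe, hkn]
  set s := X' ^ p ^ k with hs
  set u := X' ^ n with hu
  have hppos : 0 < p ^ k := pow_pos hp.pos k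
  have hsn : s ^ n = 1 := by rw [hs, ← pow_mul, ← hordX, pow_orderOf_eq_one]
  have huk : u ^ p ^ k = 1 := by rw [hu, ← pow_mul, mul_comm, ← hordX, pow_orderOf_eq_one]
  have hords : orderOf s = n := by
    rw [hs, orderOf_pow_of_dvd hppos.ne' (hordX ▸ dvd_mul_right _ _), hordX,
      Nat.mul_div_cancel_left _ hppos]
  have hfinal : ∀ N, s ^ N = 1 → u ^ N = 1 → orderOf x ∣ N := by
    intro N h1 h2
    rw [hkn, ← hordX]
    rw [hs, ← pow_mul] at h1
    rw [hu, ← pow_mul] at h2
    have hc : Nat.Coprime (p ^ k) n := Nat.Coprime.pow_left _ hcpn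
    have := Nat.dvd_gcd (orderOf_dvd_of_pow_eq_one h1) (orderOf_dvd_of_pow_eq_one h2)
    rwa [Nat.gcd_mul_right, hc.gcd_eq_one, one_mul] at this
  have hXG : X' ∈ chevG2.group L := map_mem_group C ι x.2
  obtain ⟨g₀, hg₀, hgs⟩ : ∃ g ∈ chevG2.group L, g * s * g⁻¹ ∈ chevG2.diagonalSubgroup L := by
    set sK := Matrix.GeneralLinearGroup.map (algebraMap F K) ((x : GL chevG2.Idx F) ^ p ^ k) with hsK
    have h2K : (2 : K) ≠ 0 := fun h => hp2 ((Nat.prime_dvd_prime_iff_eq hp Nat.prime_two).1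
      ((CharP.cast_eq_zero_iff K p 2).1 (by exact_mod_cast h)))
    have hmap : Matrix.GeneralLinearGroup.map (algebraMap K L) sK = s := by
      rw [hs, hX', ← map_pow]
      apply Units.ext
      rw [ChevFieldAut77.coe_map, hsK, ChevFieldAut77.coe_map, ChevFieldAut77.coe_map, Matrix.map_map]
      rfl
    have hsK1 : sK ^ (Fintype.card K - 1) = 1 := by
      obtain ⟨e, he⟩ := hdvd
      rw [hsK, ← map_pow, he, pow_mul, ← pow_mul _ (p ^ k) n, ← hkn, ← Subgroup.coe_pow,
        pow_orderOf_eq_one, Subgroup.coe_one, one_pow, map_one]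
    obtain ⟨g, hg, h⟩ := exists_conj (algebraMap K L) h2K hLK
      (map_mem_group C (algebraMap F K) (pow_mem x.2 (p ^ k))) hsK1
    exact ⟨g, hg, hmap ▸ h⟩
  obtain ⟨χ₀, hχ₀⟩ := (mem_H_iff C smithG2).1 hgs
  change tor smithG2 χ₀ = g₀ * s * g₀⁻¹ at hχ₀
  have hχ00 : χ₀ ≠ 0 := fun h0 => by
    have : tor smithG2 χ₀ ^ 1 = 1 := tr_pow_eq_one.2 (by rw [h0, smul_zero])
    rw [pow_one, hχ₀, conj_eq_one_iff] at this
    rw [this, orderOf_one] at hords
    exact hn1 hords.symm
  -- twisting by Frobenius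
  have twist : ∀ g ∈ chevG2.group L, ∀ χ, tor smithG2 χ = g * s * g⁻¹ →
      ∃ w : X.W, act (Pm C X w) χ = q • χ := by
    intro g hg χ hχ
    have hn'G : g * (ψ g)⁻¹ ∈ chevG2.group L := mul_mem hg (inv_mem (map_mem_group C σ.toRingHom hg))
    have hψs : ψ s = s := by rw [hs, map_pow, hX', hψι]
    obtain ⟨u₀, u₁, m, -, -, -, -, -, h3⟩ := cell hn'G (χ := χ) (χ' := q • χ) (by
      rw [← hψtor, hχ, map_mul, map_mul, map_inv, hψs]
      simp [mul_assoc])
    exact ⟨_, h3⟩
  have hsu : ∀ g : GL chevG2.Idx L, Commute (g * u * g⁻¹) (g * s * g⁻¹) := fun g =>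
    ((Commute.refl X').pow_pow n (p ^ k)).map (MulAut.conj g).toMonoidHom
  have hcommon : ∀ g ∈ chevG2.group L, ∀ χ, tor smithG2 χ = g * s * g⁻¹ →
      g * u * g⁻¹ ∈ chevG2.group L ∧
        (g * u * g⁻¹) * tor smithG2 χ = tor smithG2 χ * (g * u * g⁻¹) ∧
        (g * u * g⁻¹) ^ p ^ k = 1 ∧ n • χ = 0 ∧ ∀ N : ℕ, N • χ = 0 → s ^ N = 1 := by
    intro g hg χ hχ
    refine ⟨mul_mem (mul_mem hg (pow_mem hXG n)) (inv_mem hg), by rw [hχ]; exact (hsu g).eq, ?_, ?_, fun N hN => ?_⟩
    · rw [conj_pow, huk, mul_one, mul_inv_cancel]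
    · rw [← tr_pow_eq_one, hχ, conj_pow, hsn, mul_one, mul_inv_cancel]
    · have := tr_pow_eq_one.2 hN
      rwa [hχ, conj_pow, conj_eq_one_iff] at this
  have hLp : Nat.Coprime (p ^ k) (Fintype.card L - 1) := by
    refine Nat.Coprime.pow_left _ ((hp.coprime_iff_not_dvd).2 fun h => ?_)
    obtain ⟨e, -, he⟩ := FiniteField.card L p
    have h' : p ∣ Fintype.card L := he ▸ dvd_pow_self p e.pos.ne'
    have := Nat.dvd_sub h' h
    rw [Nat.sub_sub_self Fintype.card_pos, Nat.dvd_one] at this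
    exact hp.ne_one this
  have hH1 : ∀ z : GL chevG2.Idx L, z ∈ chevG2.diagonalSubgroup L → z ^ p ^ k = 1 → z = 1 := by
    intro z hz hzk
    have h := Nat.dvd_gcd (orderOf_dvd_of_pow_eq_one hzk) (orderOf_dvd_of_pow_eq_one (H_pow hz))
    rw [hLp.gcd_eq_one, Nat.dvd_one] at h
    exact orderOf_eq_one_iff.1 h
  have hin : ∀ N, p ∣ N → ∀ g : GL chevG2.Idx L, (g * u * g⁻¹) ^ p = 1 → u ^ N = 1 := by
    intro N hN g h
    rw [conj_pow, conj_eq_one_iff] at h
    obtain ⟨e, rfl⟩ := hN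
    rw [pow_mul, h, one_pow]
  by_cases h2 : (2 : ℕ) • χ₀ = 0
  · -- an involution
    obtain ⟨v, hv0, hv1, hv2⟩ := involution_normal hχ00 h2
    obtain ⟨m, hm, htr⟩ := transport (K := L) v
    set g := m⁻¹ * g₀ with hgdef
    set χ := wact C X v χ₀ with hχdef
    have hg : g ∈ chevG2.group L := mul_mem (inv_mem hm) hg₀
    have hχ : tor smithG2 χ = g * s * g⁻¹ := by
      rw [hχdef, ← htr, hχ₀, hgdef]; group
    obtain ⟨huG, hcomm, hu2, hnχ, hsN⟩ := hcommon g hg χ hχ
    obtain ⟨⟨A, B⟩, hAB⟩ := mem_of_pow H_le_normalizer_psi2 (pair_A1A1 hv0 hv1 hv2 huG hcomm) hLp hu2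
    have hk1 : psi2 (A ^ p ^ k, B ^ p ^ k) = 1 := by
      rw [show ((A ^ p ^ k, B ^ p ^ k) : _ × _) = (A, B) ^ p ^ k from rfl, map_pow, hAB, hu2]
    obtain ⟨hA2, hB2⟩ := psi2_central hk1
    have hp2' : (2 : ℕ) ≤ p := hp.two_le
    have hA' : (A ^ 2) ^ p = 1 := sl_pow (k := k) hp2' (by rw [← pow_mul, mul_comm, pow_mul, hA2])
    have hB' : (B ^ 2) ^ p = 1 := sl_pow (k := k) hp2' (by rw [← pow_mul, mul_comm, pow_mul, hB2])
    have h2p : (g * u * g⁻¹) ^ (2 * p) = 1 := by
      rw [← hAB, ← map_pow, show ((A, B) : _ × _) ^ (2 * p) = (A ^ (2 * p), B ^ (2 * p)) from rfl,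
        pow_mul, pow_mul, hA', hB']
      exact map_one psi2
    have hu' : (g * u * g⁻¹) ^ p = 1 := by
      have h := Nat.dvd_gcd (orderOf_dvd_of_pow_eq_one h2p) (orderOf_dvd_of_pow_eq_one hu2)
      have hc : Nat.Coprime (p ^ k) 2 := Nat.Coprime.pow_left _ ((Nat.coprime_primes hp Nat.prime_two).2 hp2)
      rw [hc.symm.gcd_mul_left_cancel _ |>.trans rfl] at h
      exact orderOf_dvd_iff_pow_eq_one.1 (h.trans (Nat.gcd_dvd_left _ _))
    refine ⟨p * (q - 1), by simp [bounds], hfinal _ ?_ (hin _ (dvd_mul_right _ _) g hu')⟩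
    obtain ⟨_, _, _, _, hsN₀⟩ := hcommon g₀ hg₀ χ₀ hχ₀
    obtain ⟨a, ha⟩ := hq2
    exact hsN₀ _ (by rw [ha, ← mul_assoc, mul_comm p 2, mul_assoc, mul_nsmul, h2, nsmul_zero])
  rcases zero_cases' χ₀ h2 with hA | ⟨r, hr, hz, honly⟩ | ⟨h1, h0, h3⟩
  · -- regular
    obtain ⟨w, hw⟩ := twist g₀ hg₀ χ₀ hχ₀
    obtain ⟨huG, hcomm, hu2, hnχ, hsN⟩ := hcommon g₀ hg₀ χ₀ hχ₀
    have hu1 : g₀ * u * g₀⁻¹ = 1 := hH1 _ (regular hnpos hdvdL hnχ hA huG hcomm) hu2
    rw [conj_eq_one_iff] at hu1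
    have hsq : 1 ≤ q ^ 2 := Nat.one_le_pow _ _ (by omega)
    rcases act_quad _ (Pm_mem w) q hw with h | h | h
    · refine ⟨q ^ 2 - 1, by simp [bounds], hfinal _ (hsN _ (addOrderOf_dvd_pi h ?_)) (by rw [hu1, one_pow])⟩
      rw [Nat.cast_sub hsq]; push_cast; ring
    · refine ⟨q ^ 2 + q + 1, by simp [bounds], hfinal _ (hsN _ (addOrderOf_dvd_pi h ?_)) (by rw [hu1, one_pow])⟩
      push_cast; ring
    · refine ⟨q ^ 2 - q + 1, by simp [bounds], hfinal _ (hsN _ (addOrderOf_dvd_pi h ?_)) (by rw [hu1, one_pow])⟩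
      rw [Nat.cast_add, Nat.cast_sub (Nat.le_self_pow two_ne_zero q)]; push_cast; ring
  · -- one pair of roots
    obtain ⟨v, i, hvi⟩ := Sys.exists_root_img (S (K := L)) hr
    change X.img v (chevG2.simple i.val) = r at hvi
    obtain ⟨m, hm, htr⟩ := transport (K := L) v
    set g := m⁻¹ * g₀ with hgdef
    set χ := wact C X v χ₀ with hχdef
    have hg : g ∈ chevG2.group L := mul_mem (inv_mem hm) hg₀
    have hχ : tor smithG2 χ = g * s * g⁻¹ := by
      rw [hχdef, ← htr, hχ₀, hgdef]; group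
    have h2χ : (2 : ℕ) • χ ≠ 0 := fun h => h2 (by
      funext j
      have hj := X.img_lt v⁻¹ (X.simple_lt j.isLt)
      have h' : ev C ((2 : ℕ) • χ) (X.img v⁻¹ (chevG2.simple j.val)) = 0 := by rw [h, ev_zero]
      rw [ev_nsmul, hχdef, ev_wact C X v χ₀ hj] at h'
      erw [X.img_img_inv] at h'
      rw [ev_simple] at h'
      exact h')
    have hi' : χ i = 0 := by
      show ev C χ₀ (X.img v (chevG2.simple i.val)) = 0
      rw [hvi, hz]
    have honly' : ∀ a, a < chevG2.nroots → ev C χ a = 0 →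
        a = chevG2.simple i.val ∨ a = chevG2.neg (chevG2.simple i.val) := by
      intro a ha ha0
      rw [ev_wact C X v χ₀ ha] at ha0
      rcases honly _ (X.img_lt v ha) ha0 with e | e
      · exact Or.inl (X.img_injective v (e.trans hvi.symm))
      · exact Or.inr (X.img_injective v (e.trans (by rw [X.img_neg v (X.simple_lt i.isLt), hvi])))
    obtain ⟨w, hw⟩ := twist g hg χ hχ
    obtain ⟨huG, hcomm, hu2, hnχ, hsN⟩ := hcommon g hg χ hχ
    have hmem := pair_A1 hi' h2χ honly' huG hcomm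
    rw [← phiR_eq] at hmem
    obtain ⟨A, hAu⟩ := mem_of_pow (H_le_normalizer_phiR _) hmem hLp hu2
    rw [phiR_eq] at hAu
    have hAk : A ^ p ^ k = 1 := phi_injective' i (by rw [map_pow, hAu, hu2, map_one])
    have hu' : (g * u * g⁻¹) ^ p = 1 := by
      rw [← hAu, ← map_pow, sl_pow (k := k) hp.two_le hAk, map_one]
    have hwi : ev C χ (X.img w (chevG2.simple i.val)) = 0 := by
      rw [show ev C χ (X.img w (chevG2.simple i.val)) = act (Pm C X w) χ i from rfl, hw,
        Pi.smul_apply, hi', smul_zero]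
    have hrow : (∀ j, Pm C X w i j = if j = i then 1 else 0) ∨
        (∀ j, Pm C X w i j = if j = i then -1 else 0) := by
      rcases honly' _ (X.img_lt w (X.simple_lt i.isLt)) hwi with e | e
      · left; intro j
        show C.coef (X.img w (chevG2.simple i.val)) j.val = _
        rw [e, C.coef_simple _ _ i.isLt j.isLt]
        simp only [Fin.ext_iff]
      · right; intro j
        show C.coef (X.img w (chevG2.simple i.val)) j.val = _
        rw [e, C.coef_neg _ _ (X.simple_lt i.isLt) j.isLt, C.coef_simple _ _ i.isLt j.isLt]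
        simp only [Fin.ext_iff]
        split <;> simp
    have hsref : act (Sref i) χ = χ := by
      rw [← Pm_simple, act_Pm]
      funext j
      rw [wact, X.img_simple i (X.simple_lt j.isLt), ev_reflect C χ i (X.simple_lt j.isLt), hi',
        smul_zero, sub_zero, ev_simple]
    have hpm : act (Pm C X w) χ = χ ∨ act (Pm C X w) χ = -χ := by
      have hneg : ∀ M : M2, act (-M) χ = -act M χ := fun M => by funext j; simp [act, neg_smul]
      rcases Ws_stab i _ (Pm_mem w) hrow with e | e | e | e <;> rw [e]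
      · exact Or.inl (act_one χ)
      · exact Or.inl hsref
      · right; rw [hneg, act_one]
      · right; rw [hneg, hsref]
    rcases hpm with e | e
    · refine ⟨p * (q - 1), by simp [bounds], hfinal _ (hsN _ ?_) (hin _ (dvd_mul_right _ _) g hu')⟩
      rw [e] at hw
      have hz : (q - 1) • χ = 0 := by
        refine addOrderOf_dvd_pi (z := (q : ℤ) - 1) ?_ (by rw [Nat.cast_sub (by omega)]; simp)
        rw [sub_smul, natCast_zsmul, ← hw, one_smul, sub_self]
      rw [mul_nsmul', hz, smul_zero]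
    · refine ⟨p * (q + 1), by simp [bounds], hfinal _ (hsN _ ?_) (hin _ (dvd_mul_right _ _) g hu')⟩
      rw [e] at hw
      have hz : (q + 1) • χ = 0 := by
        rw [succ_nsmul, ← hw, neg_add_cancel]
      rw [mul_nsmul', hz, smul_zero]
  · -- centre of the long root subgroup
    obtain ⟨huG, hcomm, hu2, hnχ, hsN⟩ := hcommon g₀ hg₀ χ₀ hχ₀
    have hp3 : p ≠ 3 := by
      intro hp3
      apply h0
      have ha : addOrderOf (χ₀ i0) ∣ n := addOrderOf_dvd_iff_nsmul_eq_zero.2 (congrFun hnχ i0)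
      have hb : addOrderOf (χ₀ i0) ∣ p  :=
        (addOrderOf_dvd_iff_nsmul_eq_zero.2 h3).trans (dvd_of_eq hp3.symm)
      exact AddMonoid.addOrderOf_eq_one_iff.1 (Nat.eq_one_of_dvd_coprimes hcpn hb ha)
    obtain ⟨A, hA⟩ := subsystem_A2 h1 h0 h3 huG hcomm
    have hAk : A ^ p ^ k = 1 := G2SL3Embed68.rho_injective (by rw [map_pow, hA, hu2, map_one])
    have hp5 : 3 ≤ p := by have := hp.two_le; omega
    have hu' : (g₀ * u * g₀⁻¹) ^ p = 1 := by rw [← hA, ← map_pow, sl_pow (k := k) hp5 hAk, map_one]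
    have h3χ : ∀ N, 3 ∣ N → N • χ₀ = 0 := by
      rintro N ⟨e, rfl⟩
      funext j
      rw [Pi.smul_apply, Pi.zero_apply]
      rcases fin_cases2 j with rfl | rfl
      · rw [mul_nsmul, h3, smul_zero]
      · rw [h1, smul_zero]
    have hq3 : ¬ 3 ∣ q := by
      obtain ⟨e, -, he⟩ := FiniteField.card F p
      rw [hq, he]
      exact fun h => hp3 ((Nat.prime_dvd_prime_iff_eq Nat.prime_three hp).1 (Nat.prime_three.dvd_of_dvd_pow h)).symm
    by_cases hq' : 3 ∣ q - 1
    · exact ⟨p * (q - 1), by simp [bounds], hfinal _ (hsN _ (h3χ _ (hq'.mul_left p)))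
        (hin _ (dvd_mul_right _ _) g₀ hu')⟩
    · exact ⟨p * (q + 1), by simp [bounds], hfinal _ (hsN _ (h3χ _ ((three_dvd_succ hq3 hq').mul_left p)))
        (hin _ (dvd_mul_right _ _) g₀ hu')⟩

end Cfsg.Agent.G2OddFrobenius68
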