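import Cfsg.Agent.Lib.G2OddFrobenius68
import Cfsg.Agent.Lib.G2EvenOrders68
import Cfsg.Agent.Lib.ChevalleyExp

/-!
Six element orders occurring in the Chevalley group of type G2 over a finite field of odd order.
-/

set_option autoImplicit false

namespace Cfsg.Agent.G2OddOrders68

open Cfsg.Lie Cfsg.Agent.ChevWeyl Cfsg.Agent.ChevBruhat Cfsg.Agent.ChevRootCoord68
  Cfsg.Agent.G2EvenWeyl68 Cfsg.Agent.G2EvenCentralizer68 Cfsg.Agent.G2OddTorus68
open Cfsg.Agent.G2EvenOrders68 (long_commute orderOf_tor cox_row no_eigen coefZ')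
open Cfsg.Agent.ChevCoxTorus68 (Pm act_Pm tor tor_inj map_mem_group conj_tor mem_H_iff)
open Cfsg.Agent.ChevalleyTorusCard (act smithG2 act_mul act_one act_nsmul)
open Cfsg.Agent.ChevalleyCore (xg)
open scoped Matrix

/-- a list as a coordinate vector -/
def lv (l : List ℤ) : chevG2.Idx → ℤ :=
  Sum.elim (fun i => l.getD i.val 0) (fun r => l.getD (2 + r.val) 0)

/-- a root element over the integers -/
def xi (r : ℕ) : Matrix chevG2.Idx chevG2.Idx ℤ := ChevalleyExp.xR chevG2 ℤ r 1

def w0 : List ℤ := [0, 1, 0, 0, 0, 0, 0, 0, 0, 0, 0, 0, 0, 0]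
def a0 : List ℤ := [0, 1, 0, 0, 0, 0, 0, 0, -2, 0, 0, 0, 0, 0]
def w1 : List ℤ := [0, 1, 0, 0, 0, 0, 0, 0, -2, 1, 2, -2, -2, 0]
def a1 : List ℤ := [0, 1, 0, 0, 0, 0, 0, 0, -4, 1, 3, -2, -2, -2]
def w2 : List ℤ := [0, 1, 0, 0, 0, 0, 0, 0, -4, 2, 7, -12, -21, -2]
def a2 : List ℤ := [0, 1, 0, 0, 0, 0, 0, 0, -6, 2, 9, -12, -21, -23]
def w3 : List ℤ := [0, 1, 0, 0, 0, 0, 0, 0, -6, 3, 15, -36, -90, -23]
def a3 : List ℤ := [0, 1, 0, 0, 0, 0, 0, 0, -8, 3, 18, -36, -90, -113]
def w4 : List ℤ := [0, 1, 0, 0, 0, 0, 0, 0, -8, 4, 26, -80, -260, -113]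
def a4 : List ℤ := [0, 1, 0, 0, 0, 0, 0, 0, -10, 4, 30, -80, -260, -373]
def w5 : List ℤ := [0, 1, 0, 0, 0, 0, 0, 0, -10, 5, 40, -150, -600, -373]

theorem orbit_steps :
    (∀ p : List ℤ × List ℤ, p ∈ [(w0, a0), (w1, a1), (w2, a2), (w3, a3), (w4, a4)] →
      ∀ i, (xi 6 *ᵥ lv p.1) i = lv p.2 i) ∧
    (∀ p : List ℤ × List ℤ, p ∈ [(a0, w1), (a1, w2), (a2, w3), (a3, w4), (a4, w5)] →
      ∀ i, (xi 7 *ᵥ lv p.1) i = lv p.2 i) := by
  simp only [List.forall_mem_cons, List.forall_mem_nil, and_true]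
  decide +kernel

/-- the product of the two fundamental root elements has order the square of the characteristic -/
theorem order_sq {F : Type*} [Field F] [Fintype F] (p : ℕ) [Fact p.Prime] [CharP F p] (hp : p = 3 ∨ p = 5) :
    ∃ g ∈ chevG2.group F, orderOf g = p ^ 2 := by
  classical
  set g : GL chevG2.Idx F := xg C 7 1 * xg C 6 1 with hg
  have hgG : g ∈ chevG2.group F :=
    mul_mem ((S (K := F)).xg_mem_group (show 7 < chevG2.nroots by decide) _)
      ((S (K := F)).xg_mem_group (show 6 < chevG2.nroots by decide) _)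
  have hgU : g ∈ chevG2.posUnipotent F :=
    mul_mem ((S (K := F)).xg_mem_U ((ChevalleyRoots.isPos C).2 ⟨by decide, by decide⟩) _)
      ((S (K := F)).xg_mem_U ((ChevalleyRoots.isPos C).2 ⟨by decide, by decide⟩) _)
  set W := xi 7 * xi 6 with hW
  have hcoe : (g : Matrix chevG2.Idx chevG2.Idx F) = (Int.castRingHom F).mapMatrix W := by
    rw [hg, hW, Units.val_mul, map_mul, ChevalleyCore.coe_xg, ChevalleyCore.coe_xg,
      ChevalleyCore.x_eq_xR C (show 7 < chevG2.nroots by decide),
      ChevalleyCore.x_eq_xR C (show 6 < chevG2.nroots by decide), RingHom.mapMatrix_apply,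
      RingHom.mapMatrix_apply, xi, xi, ChevalleyExp.xR_map, ChevalleyExp.xR_map, map_one]
  obtain ⟨h6, h7⟩ := orbit_steps
  simp only [List.forall_mem_cons] at h6 h7
  obtain ⟨s0, s1, s2, s3, s4⟩ := h6
  obtain ⟨t0, t1, t2, t3, t4⟩ := h7
  have step : ∀ {a b c : List ℤ}, (∀ i, (xi 6 *ᵥ lv a) i = lv b i) → (∀ i, (xi 7 *ᵥ lv b) i = lv c i) →
      W *ᵥ lv a = lv c := fun h h' => by rw [hW, ← Matrix.mulVec_mulVec, funext h, funext h']
  have r0 := step s0 t0
  have r1 := step s1 t1
  have r2 := step s2 t2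
  have r3 := step s3 t3
  have r4 := step s4.1 t4.1
  clear step
  clear_value W
  have e3 : (W ^ 3) *ᵥ lv w0 = lv w3 := by
    rw [show W ^ 3 = W * (W * W) by rw [pow_succ', pow_two], ← Matrix.mulVec_mulVec,
      ← Matrix.mulVec_mulVec, r0, r1, r2]
  have e5 : (W ^ 5) *ᵥ lv w0 = lv w5 := by
    rw [show W ^ 5 = W * (W * W ^ 3) by rw [← mul_assoc, ← pow_two, ← pow_add], ← Matrix.mulVec_mulVec,
      ← Matrix.mulVec_mulVec, e3, r3, r4]
  have key : ∀ (n : ℕ) (z : ℤ), ((W ^ n) *ᵥ lv w0) (Sum.inr ⟨11, by decide⟩) = z → g ^ n = 1 → (z : F) = 0 := by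
    intro n z hz h
    have h1 : (Int.castRingHom F).mapMatrix (W ^ n) = 1 := by
      rw [map_pow, ← hcoe, ← Units.val_pow_eq_pow_val, h, Units.val_one]
    have h2 := RingHom.map_mulVec (Int.castRingHom F) (W ^ n) (lv w0) (Sum.inr ⟨11, by decide⟩)
    rw [← RingHom.mapMatrix_apply, h1, Matrix.one_mulVec, hz] at h2
    simp [lv, w0] at h2
    exact h2
  have hne : g ^ p ≠ 1 := by
    intro h
    rcases hp with rfl | rfl
    · have := (CharP.intCast_eq_zero_iff F 3 _).1 (key 3 (lv w3 (Sum.inr ⟨11, by decide⟩)) (by rw [e3]) h)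
      revert this
      decide +kernel
    · have := (CharP.intCast_eq_zero_iff F 5 _).1 (key 5 (lv w5 (Sum.inr ⟨11, by decide⟩)) (by rw [e5]) h)
      revert this
      decide +kernel
  refine ⟨g, hgG, orderOf_eq_prime_pow (p := p) (n := 1) (by rwa [pow_one]) ?_⟩
  exact G2OddFrobenius68.U_pow (e := 2) (by rcases hp with rfl | rfl <;> norm_num) hgU

/-- a generator of the multiplicative group of the quadratic extension as a matrix -/
theorem exists_singer {F : Type*} [Field F] [Fintype F] :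
    ∃ g : GL (Fin 2) F, orderOf g = Fintype.card F ^ 2 - 1 := by
  classical
  obtain ⟨p, hpc⟩ := CharP.exists F
  have : Fact p.Prime := ⟨CharP.char_is_prime F p⟩
  let K := FiniteField.Extension F p 2
  let _ : Fintype K := Fintype.ofFinite _
  have hrk : Module.finrank F K = 2 := FiniteField.finrank_extension ..
  let b := Module.finBasisOfFinrankEq F K hrk
  obtain ⟨u, hu⟩ := IsCyclic.exists_ofOrder_eq_natCard (α := Kˣ)
  let f : K →* Matrix (Fin 2) (Fin 2) F := (Algebra.leftMulMatrix b).toMonoidHom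
  refine ⟨Units.map f u, ?_⟩
  rw [orderOf_injective (Units.map f) (Units.map_injective (Algebra.leftMulMatrix_injective b)), hu,
    Nat.card_units, FiniteField.natCard_extension, Nat.card_eq_fintype_card]

theorem exists_sl2_orders {F : Type*} [Field F] [Fintype F] :
    (∃ A : Matrix.SpecialLinearGroup (Fin 2) F, orderOf A = Fintype.card F + 1) ∧
    (∃ A : Matrix.SpecialLinearGroup (Fin 2) F, orderOf A = Fintype.card F - 1) := by
  classical
  set q := Fintype.card F with hq
  have hq1 : 1 < q := Fintype.one_lt_card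
  constructor
  · obtain ⟨g, hg⟩ := exists_singer (F := F)
    have hdet : ((g ^ (q - 1) : GL (Fin 2) F) : Matrix (Fin 2) (Fin 2) F).det = 1 := by
      rw [Units.val_pow_eq_pow_val, Matrix.det_pow, hq,
        FiniteField.pow_card_sub_one_eq_one _ (Matrix.GeneralLinearGroup.det_ne_zero g)]
    let A : Matrix.SpecialLinearGroup (Fin 2) F := ⟨_, hdet⟩
    refine ⟨A, ?_⟩
    rw [← orderOf_injective Matrix.SpecialLinearGroup.toGL Matrix.SpecialLinearGroup.toGL_injective A,
      show Matrix.SpecialLinearGroup.toGL A = g ^ (q - 1) from Units.ext rfl]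
    have hsq : q ^ 2 - 1 = (q + 1) * (q - 1) := by
      have := Nat.sq_sub_sq q 1; rwa [one_pow] at this
    rw [orderOf_pow_of_dvd (by omega) (by rw [hg, ← hq, hsq]; exact dvd_mul_left _ _), hg, ← hq, hsq,
      Nat.mul_div_cancel _ (by omega)]
  · obtain ⟨u, hu, -⟩ := ChevCoxTorus68.exists_prim (K := F) (k := q - 1) dvd_rfl
    let A : Matrix.SpecialLinearGroup (Fin 2) F :=
      ⟨Matrix.diagonal ![(u.toMul : F), ((u.toMul⁻¹ : Fˣ) : F)], by
        rw [Matrix.det_diagonal, Fin.prod_univ_two]; simp⟩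
    refine ⟨A, ?_⟩
    rw [← hu, show addOrderOf u = orderOf u.toMul from addOrderOf_ofMul_eq_orderOf u.toMul]
    refine orderOf_eq_orderOf_iff.2 fun k => ⟨fun h => ?_, fun h => ?_⟩
    · have h1 := congrFun (congrFun (congrArg Subtype.val h) 0) 0
      rw [Matrix.SpecialLinearGroup.coe_pow, Matrix.diagonal_pow] at h1
      exact Units.ext (by simpa using h1)
    · refine Subtype.ext ?_
      rw [Matrix.SpecialLinearGroup.coe_pow, Matrix.diagonal_pow, Matrix.SpecialLinearGroup.coe_one,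
        ← Matrix.diagonal_one]
      congr 1
      funext i
      fin_cases i <;> simp [← Units.val_pow_eq_pow_val, h]

/-- a copy of GL(2) in SL(3) -/
def blockHom {F : Type*} [Field F] : GL (Fin 2) F →* Matrix.SpecialLinearGroup (Fin 3) F where
  toFun g := ⟨!![(g : Matrix (Fin 2) (Fin 2) F) 0 0, (g : Matrix (Fin 2) (Fin 2) F) 0 1, 0;
      (g : Matrix (Fin 2) (Fin 2) F) 1 0, (g : Matrix (Fin 2) (Fin 2) F) 1 1, 0;
      0, 0, ((g : Matrix (Fin 2) (Fin 2) F).det)⁻¹], by
    have h := Matrix.GeneralLinearGroup.det_ne_zero g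
    have e := Matrix.det_fin_two (g : Matrix (Fin 2) (Fin 2) F)
    rw [Matrix.det_fin_three]
    simp
    rw [← sub_mul, ← e]
    exact mul_inv_cancel₀ h⟩
  map_one' := by
    apply Subtype.ext
    ext i j; fin_cases i <;> fin_cases j <;> simp
  map_mul' g h := by
    refine Subtype.ext (Eq.trans ?_ (Matrix.SpecialLinearGroup.coe_mul _ _).symm)
    ext i j
    fin_cases i <;> fin_cases j <;> simp [Matrix.mul_apply, Fin.sum_univ_two, Fin.sum_univ_three, mul_comm]

theorem blockHom_injective {F : Type*} [Field F] : Function.Injective (blockHom (F := F)) := by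
  intro g h e
  apply Units.ext
  have e' := congrArg Subtype.val e
  ext i j
  have h00 := congrFun (congrFun e' 0) 0
  have h01 := congrFun (congrFun e' 0) 1
  have h10 := congrFun (congrFun e' 1) 0
  have h11 := congrFun (congrFun e' 1) 1
  fin_cases i <;> fin_cases j
  · exact h00
  · exact h01
  · exact h10
  · exact h11

theorem order_products {F : Type*} [Field F] [Fintype F] (p : ℕ) [Fact p.Prime] [CharP F p] :
    (∃ g ∈ chevG2.group F, orderOf g = p * (Fintype.card F + 1)) ∧
    (∃ g ∈ chevG2.group F, orderOf g = p * (Fintype.card F - 1)) ∧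
    (∃ g ∈ chevG2.group F, orderOf g = Fintype.card F ^ 2 - 1) := by
  classical
  have hp : p.Prime := Fact.out
  have h11 : (11 : ℕ) < chevG2.nroots := by decide
  have hx : orderOf (xg C 11 (1 : F)) = p := by
    refine orderOf_eq_prime ?_ fun h => one_ne_zero ((S (K := F)).xg_eq_one h11 h)
    have e : ∀ n : ℕ, xg C 11 (1 : F) ^ n = xg C 11 (n : F) := by
      intro n
      induction n with
      | zero => rw [pow_zero, Nat.cast_zero, ChevalleyCore.xg_zero]
      | succ n ih => rw [pow_succ, ih, ChevalleyCore.xg_mul, Nat.cast_succ]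
    rw [e, CharP.cast_eq_zero, ChevalleyCore.xg_zero]
  have hpq : p ∣ Fintype.card F := by
    obtain ⟨e, -, he⟩ := FiniteField.card F p
    rw [he]; exact dvd_pow_self p e.pos.ne'
  have mk : ∀ (A : Matrix.SpecialLinearGroup (Fin 2) F) (m : ℕ), orderOf A = m → ¬ p ∣ m →
      ∃ g ∈ chevG2.group F, orderOf g = p * m := by
    intro A m hA hm
    refine ⟨phi i0 A * xg C 11 1, mul_mem (phi_mem_group i0 A) ((S (K := F)).xg_mem_group h11 1), ?_⟩
    have hA' : orderOf (phi i0 A) = m := by rw [orderOf_injective _ (phi_injective' i0), hA]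
    rw [(long_commute 1 A).symm.orderOf_mul_eq_mul_orderOf_of_coprime
      (by rw [hA', hx]; exact ((hp.coprime_iff_not_dvd).2 hm).symm), hA', hx, mul_comm]
  obtain ⟨⟨A, hA⟩, ⟨A', hA'⟩⟩ := exists_sl2_orders (F := F)
  have hq1 : 1 < Fintype.card F := Fintype.one_lt_card
  refine ⟨mk A _ hA fun h => hp.ne_one (Nat.dvd_one.1 ((Nat.dvd_add_right hpq).1 h)),
    mk A' _ hA' fun h => hp.ne_one (Nat.dvd_one.1 ?_), ?_⟩
  · have := Nat.dvd_sub hpq h
    rwa [Nat.sub_sub_self (by omega)] at this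
  · obtain ⟨g, hg⟩ := exists_singer (F := F)
    exact ⟨G2SL3Embed68.rho (blockHom g), G2SL3Embed68.rho_mem_group _, by
      rw [orderOf_injective _ G2SL3Embed68.rho_injective, orderOf_injective _ blockHom_injective, hg]⟩

/-- an element whose order is the value at the field size of a quadratic cyclotomic polynomial -/
theorem order_cyclotomic {F : Type*} [Field F] [Fintype F] (p : ℕ) [Fact p.Prime] [CharP F p]
    (hp2 : p ≠ 2) (q N d : ℕ)
    (hq : q = Fintype.card F) (hq4 : 4 ≤ q) (e : ℤ)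
    (he : (d = 3 ∧ e = 1) ∨ (d = 6 ∧ e = -1)) (hN : (N : ℤ) = (q : ℤ) ^ 2 + e * q + 1) :
    ∃ g ∈ chevG2.group F, orderOf g = N := by
  classical
  have hp : p.Prime := Fact.out
  subst hq
  set q := Fintype.card F with hq
  have hq1 : 1 < q := by omega
  have : NeZero d := ⟨by omega⟩
  have hee : e = 1 ∨ e = -1 := by omega
  have hqd : ∀ {R : Type} [CommRing R] (z : R), z ^ 2 + (e : R) * z + 1 = 0 → z ^ d = 1 := by
    intro R _ z hz
    rcases he with ⟨rfl, rfl⟩ | ⟨rfl, rfl⟩ <;> push_cast at hz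
    · linear_combination (z - 1) * hz
    · linear_combination (z ^ 4 + z ^ 3 - z - 1) * hz
  have hN0 : 0 < N := by
    rcases hee with rfl | rfl <;> nlinarith
  obtain ⟨m, -, hm⟩ := FiniteField.card F p
  have hqodd : Odd q := by rw [hq, hm]; exact (hp.odd_of_ne_two hp2).pow
  have hNodd : ¬ 2 ∣ N := by
    obtain ⟨a, ha⟩ := hqodd
    intro hd
    have hd' : (2 : ℤ) ∣ (N : ℤ) := by exact_mod_cast hd
    rw [hN, ha] at hd'
    push_cast at hd'
    rw [show (2 * (a : ℤ) + 1) ^ 2 = 2 * (2 * (a : ℤ) ^ 2 + 2 * a) + 1 by ring] at hd'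
    rcases hee with rfl | rfl <;> omega
  -- a prime at least five
  obtain ⟨l, hl, hlN, hl3⟩ : ∃ l, l.Prime ∧ l ∣ N ∧ l ≠ 3 := by
    by_contra hcon
    push Not at hcon
    have hk := Nat.eq_prime_pow_of_unique_prime_dvd hN0.ne' fun {d} hd hdd => hcon d hd hdd
    generalize N.primeFactorsList.length = j at hk
    have h9 : ¬ 9 ∣ N := by
      intro h9
      have h : ((N : ℤ) : ZMod 9) = 0 := by
        rw [Int.cast_natCast]; exact (ZMod.natCast_eq_zero_iff _ _).2 h9
      rw [hN] at h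
      push_cast at h
      have : ∀ z : ZMod 9, z ^ 2 + z + 1 ≠ 0 ∧ z ^ 2 + -1 * z + 1 ≠ 0 := by decide
      rcases hee with rfl | rfl <;> push_cast at h
      · exact (this _).1 (by simpa using h)
      · exact (this _).2 h
    have : j ≤ 1 := by
      by_contra hj
      exact h9 (hk ▸ (pow_dvd_pow 3 (show 2 ≤ j by omega)))
    have : N ≤ 3 := by
      rw [hk]; interval_cases j <;> norm_num
    rcases hee with rfl | rfl <;> nlinarith
  have hl2 : l ≠ 2 := fun h => hNodd (h ▸ hlN)
  have hl5 : 5 ≤ l := by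
    have := hl.two_le
    by_contra h
    have : l = 4 := by omega
    rw [this] at hl
    norm_num at hl
  have : Fact l.Prime := ⟨hl⟩
  have hlq : ¬ l ∣ q := by
    intro h
    have h1 : (l : ℤ) ∣ (N : ℤ) := by exact_mod_cast hlN
    have h2 : (l : ℤ) ∣ (q : ℤ) := by exact_mod_cast h
    rw [hN] at h1
    have h3 : (l : ℤ) ∣ (q : ℤ) ^ 2 + e * q := dvd_add (dvd_pow h2 two_ne_zero) (h2.mul_left e)
    have h4 := Int.eq_one_of_dvd_one (by omega) ((dvd_add_right h3).1 h1)
    omega
  have hlz : (q : ZMod l) ^ 2 + (e : ZMod l) * q + 1 = 0 := by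
    have h : ((N : ℤ) : ZMod l) = 0 := by
      rw [Int.cast_natCast]; exact (ZMod.natCast_eq_zero_iff _ _).2 hlN
    rw [hN] at h
    push_cast at h
    exact h
  let K := FiniteField.Extension F p d
  let _ : Fintype K := Fintype.ofFinite _
  let ι : F →+* K := algebraMap F K
  have : CharP K p := charP_of_injective_ringHom ι.injective p
  have hcardK : Fintype.card K = q ^ d := by
    rw [← Nat.card_eq_fintype_card, FiniteField.natCard_extension, Nat.card_eq_fintype_card]
  have hNQ : N ∣ Fintype.card K - 1 := by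
    have h : ((q : ZMod N)) ^ d = 1 := hqd _ (by
      have h : ((N : ℤ) : ZMod N) = 0 := by simp
      rw [hN] at h
      push_cast at h
      exact h)
    rw [hcardK, ← ZMod.natCast_eq_zero_iff, Nat.cast_sub (Nat.one_le_pow _ _ (by omega)), Nat.cast_pow,
      h, Nat.cast_one, sub_self]
  have hcong : (Fintype.card K : ZMod l) = 1 := by
    rw [hcardK, Nat.cast_pow]; exact hqd _ hlz
  -- the element of prime order
  have hlG : l ∣ Nat.card ↥(chevG2.group F) := by
    have hH : 1 * Nat.card ↥(chevG2.diagonalSubgroup F) = (q - 1) ^ chevG2.rank := by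
      simpa using ChevalleyTorusCard.card_H (F := F) C smithG2
    have hG := ChevOrder.order_eq (F := F) C X supp [2, 6] (by decide +kernel) hH
    rw [one_mul] at hG
    rw [hG]
    refine dvd_mul_of_dvd_right (Dvd.dvd.trans ?_
      (List.dvd_prod (List.mem_map.2 ⟨6, by simp, rfl⟩))) _
    have h6 : (q : ZMod l) ^ 6 = 1 := by
      rcases he with ⟨rfl, rfl⟩ | ⟨rfl, rfl⟩
      · rw [show 6 = 3 * 2 from rfl, pow_mul, hqd _ hlz, one_pow]
      · exact hqd _ hlz
    rw [← ZMod.natCast_eq_zero_iff, ← hq, Nat.cast_sub (Nat.one_le_pow _ _ (by omega)), Nat.cast_pow,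
      h6, Nat.cast_one, sub_self]
  obtain ⟨h₀, hh₀⟩ := exists_prime_orderOf_dvd_card' l hlG
  let mp : GL chevG2.Idx F →* GL chevG2.Idx K := Matrix.GeneralLinearGroup.map ι
  have hmp : Function.Injective mp := by
    intro a b hab
    apply Units.ext
    have h := congrArg (fun g : GL chevG2.Idx K => (g : Matrix chevG2.Idx chevG2.Idx K)) hab
    simp only [mp, ChevFieldAut77.coe_map] at h
    exact Matrix.map_injective ι.injective h
  set h := mp (h₀ : GL chevG2.Idx F) with hh_def
  have hordh : orderOf h = l := by rw [hh_def, orderOf_injective mp hmp, Subgroup.orderOf_coe, hh₀]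
  obtain ⟨g, hg, hgt⟩ := ChevCoxTorus68.exists_conj_mem_torus C smithG2 X supp [2, 6]
    (by decide +kernel) rfl hcong (fun a ha hd => by
      have := Nat.le_of_dvd (by fin_cases ha <;> norm_num) hd
      fin_cases ha
      · omega
      · interval_cases l
        · norm_num at hd
        · norm_num at hl)
    (map_mem_group C ι h₀.2) (by rw [← hordh]; exact pow_orderOf_eq_one h)
  obtain ⟨χt, hχt⟩ := (mem_H_iff C smithG2).1 hgt
  change tor smithG2 χt = g * h * g⁻¹ at hχt
  let σ : K ≃+* K := (FiniteField.frobeniusAlgEquivOfAlgebraic F K).toRingEquiv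
  have hσ : ∀ a, σ a = a ^ q := fun a => rfl
  let ψ : GL chevG2.Idx K →* GL chevG2.Idx K := ChevFieldAut77.psi σ
  have hψι : ∀ y : GL chevG2.Idx F, ψ (mp y) = mp y := by
    intro y
    apply Units.ext
    rw [ChevFieldAut77.coe_map, ChevFieldAut77.coe_map]
    ext i j
    show σ (ι _) = ι _
    rw [hσ, ← map_pow, FiniteField.pow_card]
  have hψtor : ∀ χ, ψ (tor smithG2 χ) = tor smithG2 (q • χ) := by
    intro χ
    rw [tor, tor, ChevFieldAut77.psi_torus, act_nsmul]
    refine congrArg _ (funext fun i => Units.ext ?_)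
    simp [toMul_nsmul, hσ]
  have hn'G : g * (ψ g)⁻¹ ∈ chevG2.group K := mul_mem hg (inv_mem (map_mem_group C σ.toRingHom hg))
  have hn't : g * (ψ g)⁻¹ * tor smithG2 (q • χt) = tor smithG2 χt * (g * (ψ g)⁻¹) := by
    rw [← hψtor, hχt, map_mul, map_mul, map_inv, hψι (h₀ : GL chevG2.Idx F)]
    simp [mul_assoc, hh_def]
  obtain ⟨u₀, u₁, n, hn', hu₀, hu₁, f1, f2, f3⟩ := cell hn'G hn't
  set w := tW n with hw
  have hlχ : l • χt = 0 := by
    rw [← tr_pow_eq_one, hχt, conj_pow, ← hordh, pow_orderOf_eq_one, mul_one, mul_inv_cancel]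
  obtain ⟨j, hj⟩ : ∃ j, χt j ≠ 0 := by
    by_contra hcon
    push Not at hcon
    have : tor smithG2 χt ^ 1 = 1 := tr_pow_eq_one.2 (by rw [one_smul]; exact funext hcon)
    rw [pow_one, hχt, conj_eq_one_iff] at this
    rw [this, orderOf_one] at hordh
    exact hl.ne_one hordh.symm
  have hord : addOrderOf (χt j) = l := addOrderOf_eq_prime (congrFun hlχ j) hj
  have hdiv : ∀ z : ℤ, z • χt = 0 → (z : ZMod l) = 0 := fun z hz => by
    rw [ZMod.intCast_zmod_eq_zero_iff_dvd, ← hord, addOrderOf_dvd_iff_zsmul_eq_zero]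
    exact congrFun hz j
  -- the Weyl element is determined
  set M := Pm C X w with hMdef
  have hMM : M * M + (e : ℤ) • M + 1 = 0 := by
    have hlinA : ∀ A : M2, act A ((q : ℤ) • χt) = (q : ℤ) • act A χt := fun A => by
      funext i
      simp only [act, Pi.smul_apply]
      exact Eq.trans (Finset.sum_congr rfl fun k _ =>
        (map_zsmul (zsmulAddGroupHom (α := Additive Kˣ) (q : ℤ)) (A i k) (χt k)).symm)
        (map_sum (zsmulAddGroupHom (α := Additive Kˣ) (q : ℤ)) _ _).symm
    have f3' : act M χt = (q : ℤ) • χt := by rw [natCast_zsmul]; exact f3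
    have hsq : act (M * M) χt = ((q : ℤ) ^ 2) • χt := by
      rw [act_mul, f3', hlinA, f3', sq, mul_smul]
    have hadd : ∀ A B : M2, act (A + B) χt = act A χt + act B χt := fun A B =>
      ChevalleyTorusCard.act_add A B χt
    rcases Ws_quad M (Pm_mem w) with h' | h' | h'
    · exfalso
      have hz : (((q : ℤ) ^ 2 - 1 : ℤ) : ZMod l) = 0 := hdiv _ (by
        rw [sub_zsmul, ← hsq, h', act_one, one_zsmul, add_neg_cancel])
      push_cast at hz
      have h1 : (e : ZMod l) * q + 2 = 0 := by linear_combination hlz - hz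
      have h4 : ((4 - 1 : ℕ) : ZMod l) = 0 := by
        have he2 : (e : ZMod l) ^ 2 = 1 := by rcases hee with rfl | rfl <;> simp
        push_cast
        linear_combination -((e : ZMod l) * q - 2) * h1 + (q : ZMod l) ^ 2 * he2 + hz
      rw [ZMod.natCast_eq_zero_iff] at h4
      have := Nat.le_of_dvd (by norm_num) h4
      omega
    · rcases hee with rfl | rfl
      · simpa using h'
      exfalso
      have hz : (((q : ℤ) ^ 2 + q + 1 : ℤ) : ZMod l) = 0 := hdiv _ (by
        have h0 := congrArg (fun A : M2 => act A χt) h'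
        simp only [hadd, hsq, f3', act_one] at h0
        rw [add_zsmul, add_zsmul, one_zsmul, h0]
        funext i; simp [act])
      push_cast at hz hlz
      have h2' : ((2 * q : ℕ) : ZMod l) = 0 := by push_cast; linear_combination hz - hlz
      rw [ZMod.natCast_eq_zero_iff] at h2'
      rcases hl.dvd_mul.1 h2' with h2'' | h2''
      · have := Nat.le_of_dvd (by norm_num) h2''; omega
      · exact hlq h2''
    · rcases hee with rfl | rfl
      swap
      · simpa [sub_eq_add_neg] using h'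
      exfalso
      have hneg : act (-M) χt = -((q : ℤ) • χt) := by
        rw [← f3']; funext i; simp [act, neg_smul]
      have hz : (((q : ℤ) ^ 2 - q + 1 : ℤ) : ZMod l) = 0 := hdiv _ (by
        have h0 := congrArg (fun A : M2 => act A χt) h'
        simp only [sub_eq_add_neg, hadd, hsq, hneg, act_one] at h0
        rw [add_zsmul, sub_zsmul, one_zsmul, h0]
        funext i; simp [act])
      push_cast at hz hlz
      have h2' : ((2 * q : ℕ) : ZMod l) = 0 := by push_cast; linear_combination hlz - hz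
      rw [ZMod.natCast_eq_zero_iff] at h2'
      rcases hl.dvd_mul.1 h2' with h2'' | h2''
      · have := Nat.le_of_dvd (by norm_num) h2''; omega
      · exact hlq h2''
  have hMcases : M * M + M + 1 = 0 ∨ M * M - M + 1 = 0 := by
    rcases hee with rfl | rfl
    · left; simpa using hMM
    · right; simpa [sub_eq_add_neg] using hMM
  obtain ⟨hβ, hdt3, hdt6⟩ := cox_row M (Pm_mem w) hMcases
  have hdt : M.det = 1 ∧ M.trace = -e := by
    rcases hee with rfl | rfl
    · exact hdt3 (by simpa using hMM)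
    · obtain ⟨a, b⟩ := hdt6 (by simpa [sub_eq_add_neg] using hMM)
      exact ⟨a, by simpa using b⟩
  -- regularity
  have hreg : ∀ r, r < chevG2.nroots → ev C χt r ≠ 0 := by
    have hχt0 : χt ≠ 0 := fun h0 => hj (congrFun h0 j)
    have h2χ : (2 : ℕ) • χt ≠ 0 := fun h => hj (by
      have h1 := addOrderOf_dvd_iff_nsmul_eq_zero.2 (congrFun h j)
      rw [hord] at h1
      exact absurd ((Nat.prime_dvd_prime_iff_eq hl Nat.prime_two).1 h1) hl2)
    rcases zero_cases' χt h2χ with hA | ⟨r, hr, hz, honly⟩ | ⟨h1, h0, h3⟩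
    · exact hA
    · exfalso
      have hwr : ev C χt (X.img w r) = 0 := by
        rw [← ev_wact C X w χt hr, ← act_Pm, ← hMdef, f3, ev_nsmul, hz, smul_zero]
      have hco : ∀ t, t < chevG2.nroots → (t = r ∨ t = chevG2.neg r) →
          coefZ' t = coefZ' r ∨ coefZ' t = -coefZ' r := by
        intro t _ ht
        rcases ht with rfl | rfl
        · exact Or.inl rfl
        · right; funext i; exact C.coef_neg r i.val hr i.isLt
      obtain ⟨e1, e2⟩ := no_eigen M (Pm_mem w) hMcases ⟨r, hr⟩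
      rcases hco _ (X.img_lt w hr) (honly _ (X.img_lt w hr) hwr) with h' | h' <;>
        rw [coefZ', ← ChevSylowTorus68.vecMul_coefZ C X w hr] at h'
      · exact e1 h'
      · exact e2 h'
    · exfalso
      have hord0 : addOrderOf (χt i0) = 3 := addOrderOf_eq_prime (hp := ⟨Nat.prime_three⟩) h3 h0
      have := addOrderOf_dvd_iff_nsmul_eq_zero.2 (congrFun hlχ i0)
      rw [hord0] at this
      exact hl3 ((Nat.prime_dvd_prime_iff_eq Nat.prime_three hl).1 this).symm
  have hu0 : u₀ = 1 := by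
    have := mem_of_fixed hu₀ f1 ⊥ fun r _ hr hz => absurd hz (hreg r hr)
    rwa [Subgroup.mem_bot] at this
  have hu1 : u₁ = 1 := by
    have hne : ∀ r, r < chevG2.nroots → ev C (q • χt) r ≠ 0 := fun r hr h0 => hreg r hr (by
      have hr' := X.img_lt w⁻¹ hr
      have h5 : ev C (q • χt) (X.img w⁻¹ r) = ev C χt r := by
        rw [← f3, act_Pm, ev_wact C X w χt hr', X.img_img_inv]
      rw [ev_nsmul] at h0
      have hlr : l • ev C χt r = 0 := by rw [← ev_nsmul, hlχ, ev_zero]
      have hcop : Nat.Coprime q l := ((hl.coprime_iff_not_dvd).2 hlq).symm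
      exact AddMonoid.addOrderOf_eq_one_iff.1 (Nat.eq_one_of_dvd_coprimes hcop
        (addOrderOf_dvd_iff_nsmul_eq_zero.2 h0) (addOrderOf_dvd_iff_nsmul_eq_zero.2 hlr)))
    have := mem_of_fixed hu₁ f2 ⊥ fun r _ hr hz => absurd hz (hne r hr)
    rwa [Subgroup.mem_bot] at this
  rw [hu0, hu1, one_mul, mul_one] at hn'
  -- the torus element of order N
  obtain ⟨u, hu, -⟩ := ChevCoxTorus68.exists_prim (K := K) hNQ
  set β := M i0 i1
  set χ : Fin chevG2.rank → Additive Kˣ :=
    fun i => if i = i0 then β • u else ((q : ℤ) - M i0 i0) • u with hχ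
  have hχq : act M χ = q • χ := by
    have hMq : ((q : ℤ) - M i0 i0) * ((q : ℤ) - M i1 i1) - β * M i1 i0 = (N : ℤ) := by
      have h1 : M.det = M i0 i0 * M i1 i1 - β * M i1 i0 := Matrix.det_fin_two M
      have h2 : M.trace = M i0 i0 + M i1 i1 := Matrix.trace_fin_two M
      rw [hdt.1] at h1
      rw [hdt.2] at h2
      rw [hN]; linear_combination (q : ℤ) * h2 - h1
    have hNu : (N : ℤ) • u = 0 := by rw [natCast_zsmul, ← hu, addOrderOf_nsmul_eq_zero]
    have hact : ∀ i, act M χ i = M i i0 • χ i0 + M i i1 • χ i1 := fun i =>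
      Fin.sum_univ_two (fun k : Fin 2 => M i k • χ k)
    have hx0 : χ i0 = β • u := if_pos rfl
    have hx1 : χ i1 = ((q : ℤ) - M i0 i0) • u := if_neg (by decide)
    funext i
    rw [hact, Pi.smul_apply, ← natCast_zsmul, hx0, hx1]
    rcases fin_cases2 i with rfl | rfl
    · rw [hx0, smul_smul, smul_smul, smul_smul, ← add_zsmul]
      congr 1; ring
    · rw [hx1, smul_smul, smul_smul, smul_smul, ← add_zsmul, ← sub_eq_zero, sub_eq_add_neg, ← sub_zsmul,
        show M i1 i0 * β + M i1 i1 * ((q : ℤ) - M i0 i0) - (q : ℤ) * ((q : ℤ) - M i0 i0) = -(N : ℤ) by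
          linear_combination -hMq, neg_zsmul, hNu, neg_zero]
  have hordχ : addOrderOf χ = N := by
    rw [← hu]
    refine addOrderOf_eq_addOrderOf_iff.2 fun k => ⟨fun h0 => ?_, fun h0 => funext fun i => ?_⟩
    · have h1 := congrFun h0 i0
      rw [Pi.smul_apply, hχ] at h1
      simp only [if_true, Pi.zero_apply] at h1
      rcases hβ with hb | hb <;> rw [hb] at h1 <;> simpa using h1
    · rw [Pi.smul_apply, hχ]
      simp only
      split <;> exact (map_nsmul (zsmulAddGroupHom (α := Additive Kˣ) _) k u).symm.trans (by rw [h0, map_zero]; rfl)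
  -- descent
  obtain ⟨χ'', e1, e2⟩ := conj_tor C smithG2 X supp n (q • χ)
  have hχ'' : χ'' = χ := by
    funext i
    have hi := X.img_lt w⁻¹ (X.simple_lt i.isLt)
    have h6 := e2 _ hi
    rw [show (ChevCoxTorus68.sysK C X supp).toW n = w from rfl, X.img_img_inv, ev_simple, ← hχq,
      act_Pm, ev_wact C X w χ hi, X.img_img_inv, ev_simple] at h6
    exact h6
  rw [hχ'', ← hn'] at e1
  set z := g⁻¹ * tor smithG2 χ * g with hz
  have hzG : z ∈ chevG2.group K :=
    mul_mem (mul_mem (inv_mem hg) ((S (K := K)).H_le_group (tr_mem χ))) hg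
  have hzfix : ψ z = z := by
    rw [hz, map_mul, map_mul, map_inv, hψtor, ← e1]
    group
  have hfg := ChevFieldAut77.fixed_mem C (S (K := K)) σ
    (ChevFieldAut77.torus_injective smithG2 C) hzG hzfix
  have key : ∀ a ∈ ChevFieldAut77.fixGen (S (K := K)) σ, ∃ y ∈ chevG2.group F, mp y = a := by
    intro a ha
    induction ha using Subgroup.closure_induction with
    | mem a ha =>
      obtain ⟨r, t, hr, ht, rfl⟩ := ha
      rw [hσ] at ht
      obtain ⟨t₀, rfl⟩ := ChevCoxTorus68.mem_range_of_pow_card ι ht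
      refine ⟨xg C r t₀, (S (K := F)).xg_mem_group hr t₀, Units.ext ?_⟩
      rw [ChevFieldAut77.coe_map, ChevalleyCore.coe_xg]
      exact (ChevFieldAut77.map_x C ι hr t₀).trans ((S (K := K)).coe_xg r (ι t₀)).symm
    | one => exact ⟨1, one_mem _, map_one mp⟩
    | mul a b _ _ ha hb =>
      obtain ⟨y, hy, rfl⟩ := ha
      obtain ⟨z, hz, rfl⟩ := hb
      exact ⟨y * z, mul_mem hy hz, map_mul mp y z⟩
    | inv a _ ha =>
      obtain ⟨y, hy, rfl⟩ := ha
      exact ⟨y⁻¹, inv_mem hy, map_inv mp y⟩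
  obtain ⟨y, hy, hye⟩ := key _ hfg
  refine ⟨y, hy, ?_⟩
  rw [← orderOf_injective mp hmp y, hye, hz, ← hordχ, ← orderOf_tor]
  refine Eq.trans ?_ (orderOf_injective (MulAut.conj g⁻¹).toMonoidHom (MulAut.conj g⁻¹).injective (tor smithG2 χ))
  congr 1

end Cfsg.Agent.G2OddOrders68
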