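import Cfsg.Agent.Lib.G2OddTorus68

/-!
Elements whose order divides the size of the multiplicative group are conjugate into the torus of the
Chevalley group of type G2 in odd characteristic, at worst over a quadratic extension.
-/

set_option autoImplicit false

namespace Cfsg.Agent.G2OddSemisimple68

open Cfsg.Lie Cfsg.Agent.ChevWeyl Cfsg.Agent.ChevBruhat Cfsg.Agent.ChevRootCoord68
  Cfsg.Agent.G2EvenWeyl68 Cfsg.Agent.G2EvenCentralizer68 Cfsg.Agent.G2OddTorus68
open Cfsg.Agent.ChevCoxTorus68 (Pm act_Pm tor tor_inj tor_add map_mem_group tor_conj_xg mem_H_iff)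
open Cfsg.Agent.ChevalleyTorusCard (act smithG2 act_mul act_one)
open Cfsg.Agent.ChevalleyCore (xg)
open scoped MatrixGroups

section

variable {K : Type*} [Field K]

/-- the diagonal matrix of GL(2) attached to a scalar -/
def dmat (d : Kˣ) : Matrix (Fin 2) (Fin 2) K := Matrix.diagonal ![(d : K), 1]

/-- the twisted product of conjugates -/
def twPow (d : Kˣ) (A : Matrix.SpecialLinearGroup (Fin 2) K) : ℕ → Matrix.SpecialLinearGroup (Fin 2) K
  | 0 => 1
  | k + 1 => A * dconj d (twPow d A k)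

theorem dmat_conj (d : Kˣ) (B : Matrix.SpecialLinearGroup (Fin 2) K) :
    dmat d * (B : Matrix (Fin 2) (Fin 2) K) =
      (dconj d B : Matrix (Fin 2) (Fin 2) K) * dmat d := by
  ext i j
  fin_cases i <;> fin_cases j <;> simp [dmat, dconj, Matrix.mul_apply, Fin.sum_univ_two] <;>
    field_simp

theorem twPow_mat (d : Kˣ) (A : Matrix.SpecialLinearGroup (Fin 2) K) (k : ℕ) :
    ((A : Matrix (Fin 2) (Fin 2) K) * dmat d) ^ k =
      (twPow d A k : Matrix (Fin 2) (Fin 2) K) * dmat d ^ k := by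
  induction k with
  | zero => simp [twPow]
  | succ k ih =>
    rw [pow_succ', ih, pow_succ', twPow, Matrix.SpecialLinearGroup.coe_mul, ← mul_assoc,
      mul_assoc _ (dmat d), dmat_conj, ← mul_assoc, mul_assoc _ (dmat d)]

theorem twist_pow {G : Type*} [Group G] (f : Matrix.SpecialLinearGroup (Fin 2) K →* G) (t : G) (d : Kˣ)
    (hc : ∀ B, t * f B * t⁻¹ = f (dconj d B)) (A : Matrix.SpecialLinearGroup (Fin 2) K) (k : ℕ) :
    (f A * t) ^ k = f (twPow d A k) * t ^ k := by
  induction k with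
  | zero => simp [twPow]
  | succ k ih =>
    rw [pow_succ', ih, pow_succ', twPow, map_mul, ← hc]
    group

theorem twist_pow₂ {G : Type*} [Group G]
    (f : Matrix.SpecialLinearGroup (Fin 2) K × Matrix.SpecialLinearGroup (Fin 2) K →* G) (t : G) (d e : Kˣ)
    (hc : ∀ A B, t * f (A, B) * t⁻¹ = f (dconj d A, dconj e B))
    (A B : Matrix.SpecialLinearGroup (Fin 2) K) (k : ℕ) :
    (f (A, B) * t) ^ k = f (twPow d A k, twPow e B k) * t ^ k := by
  induction k with
  | zero =>
    show (f (A, B) * t) ^ 0 = f 1 * t ^ 0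
    rw [map_one]; simp
  | succ k ih =>
    rw [pow_succ', ih, pow_succ', show ((twPow d A (k + 1), twPow e B (k + 1)) :
      Matrix.SpecialLinearGroup (Fin 2) K × Matrix.SpecialLinearGroup (Fin 2) K) =
      (A, B) * (dconj d (twPow d A k), dconj e (twPow e B k)) from rfl, map_mul, ← hc]
    group

/-- diagonalisation by a matrix of determinant one -/
theorem exists_diag [Fintype K] {d : Kˣ} {A : Matrix.SpecialLinearGroup (Fin 2) K}
    (h : ((A : Matrix (Fin 2) (Fin 2) K) * dmat d) ^ (Fintype.card K - 1) = 1) :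
    ∃ B : Matrix.SpecialLinearGroup (Fin 2) K,
      ((B * A * (dconj d B)⁻¹ : Matrix.SpecialLinearGroup (Fin 2) K) : Matrix (Fin 2) (Fin 2) K) 1 0 = 0 ∧
      ((B * A * (dconj d B)⁻¹ : Matrix.SpecialLinearGroup (Fin 2) K) : Matrix (Fin 2) (Fin 2) K) 0 1 = 0 := by
  classical
  set N := Fintype.card K - 1 with hN
  have hNK : (N : K) ≠ 0 := by
    rw [hN, Nat.cast_sub Fintype.card_pos, FiniteField.cast_card_eq_zero, Nat.cast_one, zero_sub]
    exact neg_ne_zero.2 one_ne_zero
  have : NeZero N := ⟨fun h => hNK (by rw [h, Nat.cast_zero])⟩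
  obtain ⟨u, hu, -⟩ := ChevCoxTorus68.exists_prim (K := K) (k := N) dvd_rfl
  have hζ : IsPrimitiveRoot u.toMul N := by
    have : orderOf u.toMul = N := by rw [← hu, ← addOrderOf_ofMul_eq_orderOf, ofMul_toMul]
    rw [← this]
    exact IsPrimitiveRoot.orderOf _
  have hMdet : ((A : Matrix (Fin 2) (Fin 2) K) * dmat d).det = (d : K) := by
    rw [Matrix.det_mul, A.2, one_mul, dmat, Matrix.det_diagonal, Fin.prod_univ_two]
    simp
  let g : GL (Fin 2) K := Matrix.GeneralLinearGroup.mkOfDetNeZero _ (hMdet ▸ d.ne_zero)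
  obtain ⟨f, hf⟩ := PglPrimeClasses10.exists_diag hζ hNK g (by
    rw [Matrix.scalar_apply, Matrix.diagonal_one]
    exact h)
  obtain ⟨P, hP⟩ := isConj_iff.1 hf
  set M := (P : Matrix (Fin 2) (Fin 2) K) with hM
  have hdet : M.det ≠ 0 := Matrix.GeneralLinearGroup.det_ne_zero P
  set c := fun i => ((PglPrimeClasses10.z u.toMul (f i) : Kˣ) : K)
  have hMA : M * ((A : Matrix (Fin 2) (Fin 2) K) * dmat d) = Matrix.diagonal c * M := by
    have h := congrArg (fun g : GL (Fin 2) K => (g : Matrix (Fin 2) (Fin 2) K))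
      (mul_inv_eq_iff_eq_mul.1 hP)
    exact h
  set e : Fin 2 → K := Function.update (fun _ => 1) 0 M.det⁻¹
  have hB : (Matrix.diagonal e * M).det = 1 := by
    rw [Matrix.det_mul, Matrix.det_diagonal, Finset.prod_update_of_mem (Finset.mem_univ _)]
    simp [hdet]
  let B : Matrix.SpecialLinearGroup (Fin 2) K := ⟨_, hB⟩
  have h1 : (B : Matrix (Fin 2) (Fin 2) K) * ((A : Matrix (Fin 2) (Fin 2) K) * dmat d) =
      Matrix.diagonal c * B := by
    show Matrix.diagonal e * M * _ = Matrix.diagonal c * (Matrix.diagonal e * M)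
    rw [mul_assoc, hMA, ← mul_assoc, ← mul_assoc, Matrix.diagonal_mul_diagonal,
      Matrix.diagonal_mul_diagonal]
    congr 2
    funext i; exact mul_comm _ _
  set A' := B * A * (dconj d B)⁻¹ with hA'
  have h2 : (A' : Matrix (Fin 2) (Fin 2) K) * dmat d = Matrix.diagonal c := by
    have h3 : (dconj d B : Matrix (Fin 2) (Fin 2) K) * (dmat d *
        ((B⁻¹ : Matrix.SpecialLinearGroup (Fin 2) K) : Matrix (Fin 2) (Fin 2) K)) = dmat d := by
      rw [← mul_assoc, ← dmat_conj, mul_assoc, ← Matrix.SpecialLinearGroup.coe_mul, mul_inv_cancel,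
        Matrix.SpecialLinearGroup.coe_one, mul_one]
    have h4 : (A' : Matrix (Fin 2) (Fin 2) K) * dmat d = (B : Matrix (Fin 2) (Fin 2) K) *
        ((A : Matrix (Fin 2) (Fin 2) K) * dmat d) *
        ((B⁻¹ : Matrix.SpecialLinearGroup (Fin 2) K) : Matrix (Fin 2) (Fin 2) K) := by
      rw [hA', Matrix.SpecialLinearGroup.coe_mul]
      nth_rw 1 [← h3]
      rw [← mul_assoc, mul_assoc _ _ (dconj d B : Matrix (Fin 2) (Fin 2) K),
        ← Matrix.SpecialLinearGroup.coe_mul, inv_mul_cancel, Matrix.SpecialLinearGroup.coe_one, mul_one,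
        Matrix.SpecialLinearGroup.coe_mul]
      simp only [mul_assoc]
    rw [h4, h1, mul_assoc, ← Matrix.SpecialLinearGroup.coe_mul, mul_inv_cancel,
      Matrix.SpecialLinearGroup.coe_one, mul_one]
  refine ⟨B, ?_, ?_⟩
  · have := congrFun (congrFun h2 1) 0
    simp [dmat, Matrix.mul_apply, Fin.sum_univ_two, d.ne_zero] at this
    exact this
  · have := congrFun (congrFun h2 0) 1
    simp [dmat, Matrix.mul_apply, Fin.sum_univ_two] at this
    exact this

theorem phiR_diag_mem {r : ℕ} (hr : r < chevG2.nroots) {A : Matrix.SpecialLinearGroup (Fin 2) K}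
    (h1 : (A : Matrix (Fin 2) (Fin 2) K) 1 0 = 0) (h2 : (A : Matrix (Fin 2) (Fin 2) K) 0 1 = 0) :
    phiR hr A ∈ chevG2.diagonalSubgroup K := by
  show ChevalleySL2.phiE _ _ _ _ _ _ ∈ _
  have hdet := ChevalleySL2.det_eq A
  simp only [h1, h2, zero_mul, sub_zero] at hdet ⊢
  rw [ChevalleySL2.phiE, if_pos rfl, zero_mul, ChevalleyCore.xg_zero, one_mul]
  exact (S (K := K)).nn_mul_nn_mem hr (left_ne_zero_of_mul_eq_one hdet) (neg_ne_zero.2 one_ne_zero)

theorem ev_toMul_pow [Fintype K] (η : Fin chevG2.rank → Additive Kˣ) (r : ℕ) :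
    (ev C η r).toMul ^ (Fintype.card K - 1) = 1 := by
  classical
  rw [← Fintype.card_units]; exact pow_card_eq_one

theorem dmat_pow [Fintype K] (d : Kˣ) : dmat d ^ (Fintype.card K - 1) = 1 := by
  classical
  rw [dmat, Matrix.diagonal_pow, ← Matrix.diagonal_one]
  congr 1
  funext i
  fin_cases i
  · simp only [Pi.pow_apply]
    simp [← Units.val_pow_eq_pow_val, ← Fintype.card_units, pow_card_eq_one]
  · simp

theorem split_sup {L : Subgroup (GL chevG2.Idx K)}
    (hL : chevG2.diagonalSubgroup K ≤ Subgroup.normalizer (L : Set (GL chevG2.Idx K)))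
    {y : GL chevG2.Idx K} (hy : y ∈ L ⊔ chevG2.diagonalSubgroup K) :
    ∃ l ∈ L, ∃ η, y = l * tor smithG2 η := by
  rw [← SetLike.mem_coe, sup_comm, Subgroup.coe_mul_of_left_le_normalizer_right _ _ hL, Set.mem_mul] at hy
  obtain ⟨t, ht, g, hg, rfl⟩ := hy
  obtain ⟨η, hη⟩ := (mem_H_iff C smithG2).1 ht
  exact ⟨t * g * t⁻¹, (Subgroup.mem_normalizer_iff.1 (hL ht) g).1 hg, η, by rw [hη]; group⟩

/-- an element of the Levi subgroup of a root is conjugate into the torus -/
theorem levi_conj [Fintype K] {i : Fin chevG2.rank} {y : GL chevG2.Idx K}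
    (hy : y ∈ (phi i).range ⊔ chevG2.diagonalSubgroup K) (hn : y ^ (Fintype.card K - 1) = 1) :
    ∃ g ∈ chevG2.group K, g * y * g⁻¹ ∈ chevG2.diagonalSubgroup K := by
  have hi := X.simple_lt i.isLt
  rw [← phiR_eq] at hy
  obtain ⟨_, ⟨A, rfl⟩, η, rfl⟩ := split_sup (H_le_normalizer_phiR hi) hy
  set d := (ev C η (chevG2.simple i.val)).toMul with hd
  have hpow := twist_pow (phiR (K := K) hi) (tor smithG2 η) d (fun B => tor_conj_phiR hi η B) A
    (Fintype.card K - 1)
  rw [hn, H_pow (tr_mem η), mul_one, ← map_one (phiR (K := K) hi)] at hpow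
  have h1 := (phi_injective' i hpow).symm
  have hM := twPow_mat d A (Fintype.card K - 1)
  rw [h1, dmat_pow, mul_one, Matrix.SpecialLinearGroup.coe_one] at hM
  obtain ⟨B, e1, e2⟩ := exists_diag hM
  refine ⟨phiR hi B, phiR_mem_group hi B, ?_⟩
  have h5 : phiR hi B * (phiR hi A * tor smithG2 η) * (phiR hi B)⁻¹ =
      phiR hi (B * A * (dconj d B)⁻¹) * tor smithG2 η := by
    rw [map_mul, map_mul, map_inv, ← tor_conj_phiR hi η B]
    group
  rw [h5]
  exact mul_mem (phiR_diag_mem hi e1 e2) (tr_mem η)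

theorem card_group_G2 [Fintype K] : Nat.card ↥(chevG2.group K) =
    Fintype.card K ^ 6 * ((Fintype.card K ^ 2 - 1) * (Fintype.card K ^ 6 - 1)) := by
  set Q := Fintype.card K with hQ
  have hH : 1 * Nat.card ↥(chevG2.diagonalSubgroup K) = (Q - 1) ^ chevG2.rank := by
    simpa using ChevalleyTorusCard.card_H (F := K) C smithG2
  have hG := ChevOrder.order_eq (F := K) C X supp [2, 6] (by decide +kernel) hH
  rw [one_mul, ← hQ] at hG
  simpa [show chevG2.nroots / 2 = 6 from rfl] using hG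

/-- elements of the long root subgroup are diagonalisable -/
theorem rho_conj [Fintype K] {y : GL chevG2.Idx K} (hy : y ∈ (G2SL3Embed68.rho (F := K)).range)
    (hn : y ^ (Fintype.card K - 1) = 1) :
    ∃ g ∈ chevG2.group K, g * y * g⁻¹ ∈ chevG2.diagonalSubgroup K := by
  obtain ⟨A, rfl⟩ := hy
  have hNK : ((Fintype.card K - 1 : ℕ) : K) ≠ 0 := by
    rw [Nat.cast_sub Fintype.card_pos, FiniteField.cast_card_eq_zero, Nat.cast_one, zero_sub]
    exact neg_ne_zero.2 one_ne_zero
  have hAn : A ^ (Fintype.card K - 1) = 1 := G2SL3Embed68.rho_injective (by rw [map_pow, hn, map_one])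
  obtain ⟨B, d, hd⟩ := exists_diag_conj hNK dvd_rfl hAn
  refine ⟨G2SL3Embed68.rho B, G2SL3Embed68.rho_mem_group B, ?_⟩
  rw [← map_inv, ← map_mul, ← map_mul]
  have hdet : d 0 * d 1 * d 2 = 1 := by
    have := (B * A * B⁻¹).2
    rw [hd, Matrix.det_diagonal, Fin.prod_univ_three] at this
    exact this
  have h00 : d 2 ≠ 0 := right_ne_zero_of_mul_eq_one hdet
  have h11 : d 0 ≠ 0 := left_ne_zero_of_mul (left_ne_zero_of_mul_eq_one hdet)
  let c : Fin chevG2.rank → Kˣ := fun j =>
    (![(Units.mk0 (d 2) h00)⁻¹, Units.mk0 (d 0) h11 * (Units.mk0 (d 2) h00)⁻¹] : Fin 2 → Kˣ) j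
  refine (ChevalleyTorus.mem_H_iff C).2 ⟨c, (G2SL3Embed68.rho_diagonal c _ ?_).symm⟩
  rw [hd]
  congr 1
  funext j
  fin_cases j
  · simp [c]; field_simp
  · simp [c]; field_simp; linear_combination hdet
  · simp [c]

/-- an element of prime order three is conjugate into the torus -/
theorem three_conj [Fintype K] {h : GL chevG2.Idx K} (hh : h ∈ chevG2.group K)
    (h3 : 3 ∣ Fintype.card K - 1) (hord : h ^ 3 = 1) :
    ∃ g ∈ chevG2.group K, g * h * g⁻¹ ∈ chevG2.diagonalSubgroup K := by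
  classical
  have : Fact (Nat.Prime 3) := ⟨Nat.prime_three⟩
  set R := (G2SL3Embed68.rho (F := K)).range.subgroupOf (chevG2.group K) with hR
  let x : ↥(chevG2.group K) := ⟨h, hh⟩
  have hxp : IsPGroup 3 ↥(Subgroup.zpowers x) := by
    rintro ⟨z, k, rfl⟩
    refine ⟨1, Subtype.ext ?_⟩
    show (x ^ k) ^ (3 ^ 1) = 1
    rw [← zpow_natCast, ← zpow_mul, mul_comm, zpow_mul, zpow_natCast, pow_one,
      show x ^ 3 = 1 from Subtype.ext hord, one_zpow]
  obtain ⟨a, ha⟩ := hxp.nonempty_fixed_point_of_prime_not_dvd_card (↥(chevG2.group K) ⧸ R)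
    (rho_range_index h3)
  induction a using QuotientGroup.induction_on with
  | _ a =>
    have h1 : (QuotientGroup.mk (x * a) : ↥(chevG2.group K) ⧸ R) = QuotientGroup.mk a :=
      ha ⟨x, Subgroup.mem_zpowers x⟩
    have h2 := QuotientGroup.eq.1 h1.symm
    rw [hR, Subgroup.mem_subgroupOf] at h2
    obtain ⟨A, hA⟩ := h2
    have hA' : G2SL3Embed68.rho A = (a : GL chevG2.Idx K)⁻¹ * h * a := by
      rw [hA]; simp [x, mul_assoc]
    obtain ⟨g, hg, hgd⟩ := rho_conj (K := K) ⟨A, hA'⟩ (by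
      obtain ⟨e, he⟩ := h3
      rw [he, pow_mul, show (a : GL chevG2.Idx K)⁻¹ * h * a =
        (a : GL chevG2.Idx K)⁻¹ * h * ((a : GL chevG2.Idx K)⁻¹)⁻¹ by rw [inv_inv], conj_pow, hord]
      group)
    refine ⟨g * (a : GL chevG2.Idx K)⁻¹, mul_mem hg (inv_mem a.2), ?_⟩
    rwa [show g * (a : GL chevG2.Idx K)⁻¹ * h * (g * (a : GL chevG2.Idx K)⁻¹)⁻¹ =
      g * ((a : GL chevG2.Idx K)⁻¹ * h * a) * g⁻¹ by group]

theorem tor_not_mem (η : Fin chevG2.rank → Additive Kˣ)
    (hns : ¬ IsSquare ((η i0).toMul : Kˣ)) : tor smithG2 η ∉ (psi2 (K := K)).range := by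
  rintro ⟨⟨A, B⟩, hAB⟩
  apply hns
  set δ := (η i0).toMul with hδ
  set U := ChevalleySL2.upper (1 : K)
  have hc : phi i0 (dconj δ U) = phi i0 (A * U * A⁻¹) := by
    have h := tor_conj_phiR (X.simple_lt i0.isLt) η U
    rw [ev_simple, phiR_eq, ← hδ] at h
    rw [← h, ← hAB, psi2_apply, map_mul, map_mul, map_inv]
    have hcm : Commute (phiR r11_facts.1 B) (phi i0 U) := by
      have h1 : ((1, B) : Matrix.SpecialLinearGroup (Fin 2) K × Matrix.SpecialLinearGroup (Fin 2) K) *
          (U, 1) = (U, 1) * (1, B) := by simp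
      have := congrArg (psi2 (K := K)) h1
      simp only [psi2_apply, map_mul, map_one, one_mul, mul_one] at this
      exact this
    rw [mul_inv_rev, show phi i0 A * phiR r11_facts.1 B * phi i0 U *
      ((phiR r11_facts.1 B)⁻¹ * (phi i0 A)⁻¹) =
      phi i0 A * (phiR r11_facts.1 B * phi i0 U) * (phiR r11_facts.1 B)⁻¹ * (phi i0 A)⁻¹ by group,
      hcm.eq]
    group
  have h := congrArg (fun g : Matrix.SpecialLinearGroup (Fin 2) K => (g : Matrix (Fin 2) (Fin 2) K))
    ((eq_mul_inv_iff_mul_eq.1 (phi_injective' i0 hc)))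
  simp only [Matrix.SpecialLinearGroup.coe_mul] at h
  have e00 := congrFun (congrFun h 0) 0
  have e01 := congrFun (congrFun h 0) 1
  simp [U, ChevalleySL2.upper, dconj, Matrix.mul_apply, Fin.sum_univ_two] at e00 e01
  have hdet := ChevalleySL2.det_eq A
  set M := (A : Matrix (Fin 2) (Fin 2) K)
  have hc0 : M 1 0 = 0 := e00
  rw [hc0, mul_zero, sub_zero] at hdet
  have hd2 : M 1 1 ≠ 0 := right_ne_zero_of_mul_eq_one hdet
  refine ⟨(Units.mk0 _ hd2)⁻¹, Units.ext ?_⟩
  simp only [Units.val_mul, Units.val_inv_eq_inv_val, Units.val_mk0]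
  field_simp
  linear_combination hdet + M 1 1 * e01

theorem sq_eq_one_cases (h2 : (2 : K) ≠ 0) {A : Matrix.SpecialLinearGroup (Fin 2) K} (h : A ^ 2 = 1) :
    A = 1 ∨ A = -1 := by
  have hA : A = A⁻¹ := eq_inv_of_mul_eq_one_left (by rw [← sq, h])
  have h1 := congrArg (fun g : Matrix.SpecialLinearGroup (Fin 2) K => (g : Matrix (Fin 2) (Fin 2) K)) hA
  simp only [Matrix.SpecialLinearGroup.coe_inv] at h1
  rw [Matrix.adjugate_fin_two] at h1
  have e00 := congrFun (congrFun h1 0) 0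
  have e01 := congrFun (congrFun h1 0) 1
  have e10 := congrFun (congrFun h1 1) 0
  simp at e00 e01 e10
  have hdet := ChevalleySL2.det_eq A
  set M := (A : Matrix (Fin 2) (Fin 2) K) with hM
  have hb : M 0 1 = 0 := (mul_eq_zero.1 (show (2 : K) * M 0 1 = 0 by linear_combination e01)).resolve_left h2
  have hc : M 1 0 = 0 := (mul_eq_zero.1 (show (2 : K) * M 1 0 = 0 by linear_combination e10)).resolve_left h2
  rw [hb, hc, mul_zero, sub_zero, ← e00] at hdet
  rcases mul_self_eq_one_iff.1 hdet with e | e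
  · left
    refine Subtype.ext ?_
    rw [Matrix.SpecialLinearGroup.coe_one, ← hM]
    ext i j; fin_cases i <;> fin_cases j <;> simp [hb, hc, ← e00, e]
  · right
    refine Subtype.ext ?_
    rw [Matrix.SpecialLinearGroup.coe_neg, Matrix.SpecialLinearGroup.coe_one, ← hM]
    ext i j; fin_cases i <;> fin_cases j <;> simp [hb, hc, ← e00, e]

theorem psi2_ker_card [Fintype K] (h2 : (2 : K) ≠ 0) :
    Nat.card ↥((psi2 (K := K)).ker) = 1 ∨ Nat.card ↥((psi2 (K := K)).ker) = 2 := by
  classical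
  have hle : Nat.card ↥((psi2 (K := K)).ker) ≤ 2 := by
    let f : ↥((psi2 (K := K)).ker) → ({1, -1} : Finset (Matrix.SpecialLinearGroup (Fin 2) K)) :=
      fun x => ⟨x.1.1, by simpa using sq_eq_one_cases h2 (psi2_central (MonoidHom.mem_ker.1 x.2)).1⟩
    have hf : Function.Injective f := by
      intro x x' h
      have h1 : x.1.1 = x'.1.1 := congrArg Subtype.val h
      have e : psi2 (K := K) x.1 = psi2 x'.1 :=
        (MonoidHom.mem_ker.1 x.2).trans (MonoidHom.mem_ker.1 x'.2).symm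
      change psi2 (x.1.1, x.1.2) = psi2 (x'.1.1, x'.1.2) at e
      rw [psi2_apply, psi2_apply, h1, mul_right_inj] at e
      exact Subtype.ext (Prod.ext h1 (phi11_injective e))
    refine (Nat.card_le_card_of_injective f hf).trans ?_
    rw [Nat.card_eq_fintype_card, Fintype.card_coe]
    exact Finset.card_le_two
  have : 0 < Nat.card ↥((psi2 (K := K)).ker) := Nat.card_pos
  omega

theorem psi2_sup_index [Fintype K] (h2 : (2 : K) ≠ 0) :
    ¬ 2 ∣ (((psi2 (K := K)).range ⊔ chevG2.diagonalSubgroup K).subgroupOf (chevG2.group K)).index := by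
  classical
  set P := (psi2 (K := K)).range with hP
  set R := P ⊔ chevG2.diagonalSubgroup K with hR
  set Q := Fintype.card K with hQ
  have hQ1 : 1 < Q := Fintype.one_lt_card
  have hQodd : Odd Q := by
    refine Nat.not_even_iff_odd.1 fun he => h2 ?_
    obtain ⟨n, hp, hn⟩ := FiniteField.card K (ringChar K)
    have := (Nat.prime_dvd_prime_iff_eq Nat.prime_two hp).1
      (Nat.prime_two.dvd_of_dvd_pow (hn ▸ (even_iff_two_dvd.1 he) : 2 ∣ ringChar K ^ (n : ℕ)))
    have hc : ((ringChar K : ℕ) : K) = 0 := CharP.cast_eq_zero K _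
    rw [← this] at hc
    exact_mod_cast hc
  have hSL : Nat.card (Matrix.SpecialLinearGroup (Fin 2) K) = Q * (Q ^ 2 - 1) := by
    have h := PSLCard.card_SL (F := K) 2
    rw [Nat.card_eq_fintype_card (α := K), ← hQ, Fin.prod_univ_two] at h
    simp only [Fin.val_zero, Fin.val_one, pow_zero, pow_one] at h
    refine Nat.eq_of_mul_eq_mul_left (show 0 < Q - 1 by omega) ?_
    rw [h, show Q ^ 2 - Q = Q * (Q - 1) by rw [Nat.mul_sub]; ring_nf]
    ring
  have hPG : P ≤ chevG2.group K := by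
    rintro _ ⟨⟨A, B⟩, rfl⟩
    rw [psi2_apply]
    exact mul_mem (phi_mem_group i0 A) (phiR_mem_group r11_facts.1 B)
  have hRG : R ≤ chevG2.group K := sup_le hPG fun t ht => (S (K := K)).H_le_group ht
  have hcard : Nat.card ↥P * Nat.card ↥((psi2 (K := K)).ker) =
      (Q * (Q ^ 2 - 1)) * (Q * (Q ^ 2 - 1)) := by
    rw [hP, ← Subgroup.index_ker, Subgroup.index_mul_card, Nat.card_prod, hSL]
  have hrel : Nat.card ↥P * P.relIndex (chevG2.group K) =
      Q ^ 6 * ((Q ^ 2 - 1) * (Q ^ 6 - 1)) := by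
    rw [← card_group_G2, Subgroup.relIndex, ← (P.subgroupOf (chevG2.group K)).card_mul_index,
      Nat.card_congr (Subgroup.subgroupOfEquivOfLe hPG).toEquiv]
  set k := Nat.card ↥((psi2 (K := K)).ker) with hk
  have hidx : P.relIndex (chevG2.group K) = Q ^ 4 * (Q ^ 4 + Q ^ 2 + 1) * k := by
    have hpos : 0 < (Q * (Q ^ 2 - 1)) * (Q * (Q ^ 2 - 1)) := by
      have := Nat.one_lt_pow (show 2 ≠ 0 by norm_num) hQ1
      have : 0 < Q * (Q ^ 2 - 1) := Nat.mul_pos (by omega) (by omega)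
      exact Nat.mul_pos this this
    apply Nat.eq_of_mul_eq_mul_left hpos
    have e : Q ^ 6 - 1 = (Q ^ 4 + Q ^ 2 + 1) * (Q ^ 2 - 1) := by
      have h1 : 1 ≤ Q ^ 2 := Nat.one_le_pow _ _ (by omega)
      rw [Nat.mul_sub, mul_one, show (Q ^ 4 + Q ^ 2 + 1) * Q ^ 2 = Q ^ 6 + (Q ^ 4 + Q ^ 2) by ring]
      omega
    calc Q * (Q ^ 2 - 1) * (Q * (Q ^ 2 - 1)) * P.relIndex (chevG2.group K)
        = Nat.card ↥P * P.relIndex (chevG2.group K) * k := by rw [← hcard]; ring
      _ = _ := by rw [hrel, e]; ring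
  have hodd : ¬ 2 ∣ Q ^ 4 * (Q ^ 4 + Q ^ 2 + 1) := by
    rw [← even_iff_two_dvd, Nat.not_even_iff_odd]
    exact hQodd.pow.mul (((hQodd.pow).add_odd hQodd.pow).add_one)
  have htower : P.relIndex R * R.relIndex (chevG2.group K) = Q ^ 4 * (Q ^ 4 + Q ^ 2 + 1) * k := by
    rw [← hidx]; exact Subgroup.relIndex_mul_relIndex _ _ _ le_sup_left hRG
  intro h
  rcases psi2_ker_card h2 with hk1 | hk2
  · rw [← hk] at hk1
    rw [hk1, mul_one] at htower
    exact hodd (htower ▸ h.mul_left _)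
  rw [← hk] at hk2
  have heven : 2 ∣ P.relIndex R := by
    have hnorm : R ≤ Subgroup.normalizer (P : Set (GL chevG2.Idx K)) :=
      sup_le Subgroup.le_normalizer H_le_normalizer_psi2
    have : (P.subgroupOf R).Normal := Subgroup.normal_subgroupOf_of_le_normalizer hnorm
    obtain ⟨δ₀, hδ₀⟩ : ∃ a : K, ¬ IsSquare a := FiniteField.exists_nonsquare (by
      intro h
      exact h2 (by exact_mod_cast (ringChar.spec K 2).2 (h ▸ dvd_rfl)))
    have hd0 : δ₀ ≠ 0 := fun h => hδ₀ (h ▸ IsSquare.zero)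
    obtain ⟨e, m, hm, hem⟩ := Nat.exists_eq_two_pow_mul_odd (show Q - 1 ≠ 0 by omega)
    set δ := Units.mk0 δ₀ hd0 ^ m with hδ
    have hns : ¬ IsSquare δ := by
      rintro ⟨a, ha⟩
      apply hδ₀
      obtain ⟨l, rfl⟩ := hm
      refine ⟨(a : K) / δ₀ ^ l, ?_⟩
      have := congrArg Units.val ha
      rw [hδ, Units.val_pow_eq_pow_val, Units.val_mul, Units.val_mk0] at this
      field_simp
      linear_combination this
    let η : Fin chevG2.rank → Additive Kˣ := fun j => if j = i0 then Additive.ofMul δ else 0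
    have hδe : δ ^ 2 ^ e = 1 := by
      rw [hδ, ← pow_mul, mul_comm, ← hem, hQ, ← Fintype.card_units]
      exact pow_card_eq_one
    have hη : tor smithG2 η ^ 2 ^ e = 1 := tr_pow_eq_one.2 (funext fun j => by
      simp only [η, Pi.smul_apply, Pi.zero_apply]
      split
      · rw [← ofMul_pow, hδe, ofMul_one]
      · rw [smul_zero])
    let t : ↥R := ⟨tor smithG2 η, Subgroup.mem_sup_right (tr_mem η)⟩
    have hord : orderOf (QuotientGroup.mk t : ↥R ⧸ P.subgroupOf R) ∣ 2 ^ e := by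
      refine orderOf_dvd_of_pow_eq_one ?_
      rw [← QuotientGroup.mk_pow, show t ^ 2 ^ e = 1 from Subtype.ext hη, QuotientGroup.mk_one]
    obtain ⟨j, -, hj⟩ := (Nat.dvd_prime_pow Nat.prime_two).1 hord
    rcases Nat.eq_zero_or_pos j with hj0 | hjpos
    · exfalso
      rw [hj0, pow_zero, orderOf_eq_one_iff, QuotientGroup.eq_one_iff, Subgroup.mem_subgroupOf] at hj
      exact tor_not_mem η (by simpa [η] using hns) hj
    · rw [Subgroup.relIndex, Subgroup.index]
      have h' := orderOf_dvd_natCard (QuotientGroup.mk t : ↥R ⧸ P.subgroupOf R)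
      rw [hj] at h'
      exact (dvd_pow_self 2 hjpos.ne').trans h'
  rw [hk2] at htower
  have h4 : 2 * 2 ∣ Q ^ 4 * (Q ^ 4 + Q ^ 2 + 1) * 2 := htower ▸ mul_dvd_mul heven h
  exact hodd (Nat.dvd_of_mul_dvd_mul_right two_pos h4)

/-- an element with an odd prime in its order -/
theorem conj_odd [Fintype K] (h2 : (2 : K) ≠ 0) {y : GL chevG2.Idx K} (hy : y ∈ chevG2.group K)
    (hn : y ^ (Fintype.card K - 1) = 1) {r : ℕ} (hr : r.Prime) (hr2 : r ≠ 2) (hrd : r ∣ orderOf y) :
    ∃ g ∈ chevG2.group K, g * y * g⁻¹ ∈ chevG2.diagonalSubgroup K := by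
  classical
  have : Fact r.Prime := ⟨hr⟩
  set N := Fintype.card K - 1 with hN
  have hNpos : 0 < N := by rw [hN]; have := Fintype.one_lt_card (α := K); omega
  have hon : orderOf y ∣ N := orderOf_dvd_of_pow_eq_one hn
  set e := orderOf y / r with he
  have hopos : 0 < orderOf y := Nat.pos_of_dvd_of_pos hon hNpos
  have hh : orderOf (y ^ e) = r := by
    rw [orderOf_pow_of_dvd (Nat.div_pos (Nat.le_of_dvd hopos hrd) hr.pos).ne' (Nat.div_dvd_of_dvd hrd)]
    exact Nat.div_div_self hrd hopos.ne'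
  have hrK : r ∣ N := hrd.trans hon
  obtain ⟨g, hg, hgt⟩ : ∃ g ∈ chevG2.group K, g * y ^ e * g⁻¹ ∈ chevG2.diagonalSubgroup K := by
    by_cases h3 : r = 3
    · subst h3
      exact three_conj (pow_mem hy e) hrK (hh ▸ pow_orderOf_eq_one _)
    have hcong : (Fintype.card K : ZMod r) = 1 := by
      have := (ZMod.natCast_eq_zero_iff _ r).2 hrK
      rwa [hN, Nat.cast_sub Fintype.card_pos, Nat.cast_one, sub_eq_zero] at this
    have hr5 : 5 ≤ r := by
      have := hr.two_le
      by_contra h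
      interval_cases r <;> norm_num at *
    exact ChevCoxTorus68.exists_conj_mem_torus C smithG2 X supp [2, 6]
      (by decide +kernel) rfl hcong (fun a ha hd => by
        have := Nat.le_of_dvd (by fin_cases ha <;> norm_num) hd
        fin_cases ha
        · omega
        · interval_cases r
          · norm_num at hd
          · norm_num at hr)
      (pow_mem hy e) (hh ▸ pow_orderOf_eq_one _)
  obtain ⟨χ, hχ⟩ := (mem_H_iff C smithG2).1 hgt
  have hrχ : r • χ = 0 := by
    rw [← tr_pow_eq_one, show tor smithG2 χ = g * y ^ e * g⁻¹ from hχ, conj_pow, ← hh,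
      pow_orderOf_eq_one, mul_one, mul_inv_cancel]
  have hχ0 : χ ≠ 0 := fun h0 => by
    have : tor smithG2 χ ^ 1 = 1 := tr_pow_eq_one.2 (by rw [h0, smul_zero])
    rw [pow_one, show tor smithG2 χ = g * y ^ e * g⁻¹ from hχ, conj_eq_one_iff] at this
    rw [this, orderOf_one] at hh
    exact hr.ne_one hh.symm
  have h2χ : (2 : ℕ) • χ ≠ 0 := fun h => hχ0 (by
    have h1 := Nat.dvd_gcd (addOrderOf_dvd_iff_nsmul_eq_zero.2 hrχ) (addOrderOf_dvd_iff_nsmul_eq_zero.2 h)
    rw [(Nat.coprime_primes hr Nat.prime_two).2 hr2 |>.gcd_eq_one, Nat.dvd_one] at h1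
    exact AddMonoid.addOrderOf_eq_one_iff.1 h1)
  set y' := g * y * g⁻¹ with hy'
  have hy'G : y' ∈ chevG2.group K := mul_mem (mul_mem hg hy) (inv_mem hg)
  have hy'n : y' ^ N = 1 := by rw [hy', conj_pow, hn]; group
  have hcomm : y' * tor smithG2 χ = tor smithG2 χ * y' := by
    rw [show tor smithG2 χ = g * y ^ e * g⁻¹ from hχ, hy', ← conj_pow]
    exact (pow_mul_comm' _ _).symm
  have hback : ∀ g' ∈ chevG2.group K, g' * y' * g'⁻¹ ∈ chevG2.diagonalSubgroup K →
      ∃ g ∈ chevG2.group K, g * y * g⁻¹ ∈ chevG2.diagonalSubgroup K := fun g' hg' h => by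
    refine ⟨g' * g, mul_mem hg' hg, ?_⟩
    rwa [show g' * g * y * (g' * g)⁻¹ = g' * y' * g'⁻¹ by rw [hy']; group]
  rcases zero_cases' χ h2χ with hA | ⟨r', hr', hz, honly⟩ | ⟨h1, h0, h3⟩
  · exact ⟨g, hg, regular hr.pos hrK hrχ hA hy'G hcomm⟩
  · obtain ⟨v, i, hvi⟩ := Sys.exists_root_img (S (K := K)) hr'
    change X.img v (chevG2.simple i.val) = r' at hvi
    obtain ⟨m, hm, htr⟩ := transport (K := K) v
    have hi' : wact C X v χ i = 0 := by
      show ev C χ (X.img v (chevG2.simple i.val)) = 0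
      rw [hvi, hz]
    have honly' : ∀ s, s < chevG2.nroots → ev C (wact C X v χ) s = 0 →
        s = chevG2.simple i.val ∨ s = chevG2.neg (chevG2.simple i.val) := by
      intro s hs hs0
      rw [ev_wact C X v χ hs] at hs0
      rcases honly _ (X.img_lt v hs) hs0 with e | e
      · exact Or.inl (X.img_injective v (e.trans hvi.symm))
      · exact Or.inr (X.img_injective v (e.trans (by rw [X.img_neg v (X.simple_lt i.isLt), hvi])))
    have h2v : (2 : ℕ) • wact C X v χ ≠ 0 := fun h => h2χ (by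
      funext j
      have hj := X.img_lt v⁻¹ (X.simple_lt j.isLt)
      have h' : ev C ((2 : ℕ) • wact C X v χ) (X.img v⁻¹ (chevG2.simple j.val)) = 0 := by rw [h, ev_zero]
      rw [ev_nsmul, ev_wact C X v χ hj] at h'
      erw [X.img_img_inv] at h'
      rw [ev_simple] at h'
      exact h')
    obtain ⟨g', hg', hd⟩ := levi_conj (y := m⁻¹ * y' * m) (pair_A1 hi' h2v honly'
        (mul_mem (mul_mem (inv_mem hm) hy'G) hm) (by
          rw [← htr, show m⁻¹ * y' * m * (m⁻¹ * tor smithG2 χ * m) = m⁻¹ * (y' * tor smithG2 χ) * m by group,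
            hcomm]
          group))
      (by rw [show m⁻¹ * y' * m = m⁻¹ * y' * (m⁻¹)⁻¹ by rw [inv_inv], conj_pow, hy'n]; group)
    refine hback (g' * m⁻¹) (mul_mem hg' (inv_mem hm)) ?_
    rwa [show g' * m⁻¹ * y' * (g' * m⁻¹)⁻¹ = g' * (m⁻¹ * y' * m) * g'⁻¹ by group]
  · obtain ⟨g', hg', hd⟩ := rho_conj (subsystem_A2 h1 h0 h3 hy'G hcomm) hy'n
    exact hback g' hg' hd

end

section Extend

variable {K L : Type*} [Field K] [Field L] (ι : K →+* L)

theorem map_xg {r : ℕ} (hr : r < chevG2.nroots) (a : K) :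
    Matrix.GeneralLinearGroup.map ι (xg C r a) = xg C r (ι a) := by
  apply Units.ext
  rw [ChevFieldAut77.coe_map, ChevalleyCore.coe_xg, ChevalleyCore.coe_xg]
  exact ChevFieldAut77.map_x C ι hr a

theorem map_phiR {r : ℕ} (hr : r < chevG2.nroots) (A : Matrix.SpecialLinearGroup (Fin 2) K) :
    Matrix.GeneralLinearGroup.map ι (phiR hr A) = phiR hr (Matrix.SpecialLinearGroup.map ι A) := by
  set x := fun a : K => xg C r a
  set y := fun a : K => xg C (chevG2.neg r) a
  set x' := fun a : L => xg C r a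
  set y' := fun a : L => xg C (chevG2.neg r) a
  have hn : ∀ t, Matrix.GeneralLinearGroup.map ι (ChevalleySL2.nn x y t) =
      ChevalleySL2.nn x' y' (ι t) := fun t => by
    simp only [ChevalleySL2.nn, map_mul, x, y, x', y', map_xg ι hr, map_xg ι (C.neg_lt r), map_neg,
      map_inv₀]
  show Matrix.GeneralLinearGroup.map ι (ChevalleySL2.phiE x y _ _ _ _) = ChevalleySL2.phiE x' y' _ _ _ _
  simp only [Matrix.SpecialLinearGroup.map_apply_coe, RingHom.mapMatrix_apply, Matrix.map_apply]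
  unfold ChevalleySL2.phiE
  split
  · rename_i h
    rw [if_pos (by rw [h, map_zero]), map_mul, ChevalleySL2.hh, ChevalleySL2.hh, map_mul, hn, hn]
    simp [x, x', map_xg ι hr]
  · rename_i h
    rw [if_neg (by rwa [map_eq_zero]), map_mul, map_mul, hn]
    simp [x, x', map_xg ι hr, map_div₀]

/-- the additive map of units induced by a field map -/
def unitsMap : Additive Kˣ →+ Additive Lˣ :=
  MonoidHom.toAdditive (Units.map ι.toMonoidHom)

theorem map_tor (η : Fin chevG2.rank → Additive Kˣ) :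
    Matrix.GeneralLinearGroup.map ι (tor smithG2 η) = tor smithG2 (unitsMap ι ∘ η) := by
  apply Units.ext
  rw [tor, tor, ChevFieldAut77.coe_map, ChevalleyTorus.coe_torus, ChevalleyTorus.coe_torus]
  have ht : (fun i => (act smithG2.T (unitsMap ι ∘ η) i).toMul) =
      fun i => Units.map ι.toMonoidHom ((act smithG2.T η i).toMul) := by
    funext i
    show (∑ k, smithG2.T i k • unitsMap ι (η k)).toMul = _
    rw [Finset.sum_congr rfl fun k _ => (map_zsmul (unitsMap ι) _ _).symm, ← map_sum]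
    rfl
  rw [ht]
  unfold ChevalleyTorus.tmat
  rw [Matrix.diagonal_map (map_zero _)]
  congr 1
  funext q
  rcases q with a | s
  · simp
  · simp [ChevalleyTorus.tchar, Function.comp]

theorem map_ev (η : Fin chevG2.rank → Additive Kˣ) (r : ℕ) :
    (ev C (unitsMap ι ∘ η) r).toMul = Units.map ι.toMonoidHom (ev C η r).toMul := by
  show (∑ k : Fin chevG2.rank, C.coef r k.val • unitsMap ι (η k)).toMul = _
  rw [Finset.sum_congr rfl fun k _ => (map_zsmul (unitsMap ι) _ _).symm, ← map_sum]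
  rfl

theorem map_H {h : GL chevG2.Idx K} (hh : h ∈ chevG2.diagonalSubgroup K) :
    Matrix.GeneralLinearGroup.map ι h ∈ chevG2.diagonalSubgroup L := by
  obtain ⟨η, rfl⟩ := (mem_H_iff C smithG2).1 hh
  rw [map_tor]; exact tr_mem _

/-- semisimple elements split over a quadratic extension -/
theorem exists_conj [Fintype K] [Fintype L] (h2 : (2 : K) ≠ 0)
    (hL : 2 * (Fintype.card K - 1) ∣ Fintype.card L - 1)
    {y : GL chevG2.Idx K} (hy : y ∈ chevG2.group K) (hn : y ^ (Fintype.card K - 1) = 1) :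
    ∃ g ∈ chevG2.group L,
      g * Matrix.GeneralLinearGroup.map ι y * g⁻¹ ∈ chevG2.diagonalSubgroup L := by
  classical
  set mp : GL chevG2.Idx K →* GL chevG2.Idx L := Matrix.GeneralLinearGroup.map ι with hmp
  by_cases hodd : ∃ r, r.Prime ∧ r ≠ 2 ∧ r ∣ orderOf y
  · obtain ⟨r, hr, hr2, hrd⟩ := hodd
    obtain ⟨g, hg, hd⟩ := conj_odd h2 hy hn hr hr2 hrd
    refine ⟨mp g, map_mem_group C ι hg, ?_⟩
    rw [← map_inv, ← map_mul, ← map_mul]
    exact map_H ι hd
  push Not at hodd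
  have hNpos : 0 < Fintype.card K - 1 := by have := Fintype.one_lt_card (α := K); omega
  have hk : orderOf y = 2 ^ (orderOf y).primeFactorsList.length :=
    Nat.eq_prime_pow_of_unique_prime_dvd
      (Nat.pos_of_dvd_of_pos (orderOf_dvd_of_pow_eq_one hn) hNpos).ne'
      fun {d} hd hdd => by_contra fun h => hodd d hd h hdd
  generalize (orderOf y).primeFactorsList.length = k at hk
  have : Fact (Nat.Prime 2) := ⟨Nat.prime_two⟩
  set R := ((psi2 (K := K)).range ⊔ chevG2.diagonalSubgroup K).subgroupOf (chevG2.group K) with hR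
  let x : ↥(chevG2.group K) := ⟨y, hy⟩
  have hxp : IsPGroup 2 ↥(Subgroup.zpowers x) :=
    IsPGroup.of_card (n := k) (by rw [Nat.card_zpowers, ← Subgroup.orderOf_coe, hk])
  obtain ⟨a, ha⟩ := hxp.nonempty_fixed_point_of_prime_not_dvd_card (↥(chevG2.group K) ⧸ R)
    (psi2_sup_index h2)
  induction a using QuotientGroup.induction_on with
  | _ a =>
    have h1 : (QuotientGroup.mk (x * a) : ↥(chevG2.group K) ⧸ R) = QuotientGroup.mk a :=
      ha ⟨x, Subgroup.mem_zpowers x⟩
    have h2' := QuotientGroup.eq.1 h1.symm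
    rw [hR, Subgroup.mem_subgroupOf] at h2'
    obtain ⟨_, ⟨⟨A, B⟩, rfl⟩, η, hη⟩ := split_sup H_le_normalizer_psi2 h2'
    have hy' : psi2 (A, B) * tor smithG2 η = (a : GL chevG2.Idx K)⁻¹ * y * a := by
      rw [← hη]; simp [x, mul_assoc]
    set d := (ev C η (chevG2.simple i0.val)).toMul with hd
    set d' := (ev C η r11).toMul with hd'
    have htc : ∀ A' B', tor smithG2 η * psi2 (A', B') * (tor smithG2 η)⁻¹ =
        psi2 (dconj d A', dconj d' B') := by
      intro A' B'
      rw [psi2_apply, psi2_apply, ← tor_conj_phiR r11_facts.1, ← phiR_eq,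
        ← tor_conj_phiR (X.simple_lt i0.isLt)]
      group
    set N := Fintype.card K - 1 with hN
    have hpow := twist_pow₂ psi2 (tor smithG2 η) d d' htc A B N
    rw [hy', show (a : GL chevG2.Idx K)⁻¹ * y * a =
      (a : GL chevG2.Idx K)⁻¹ * y * ((a : GL chevG2.Idx K)⁻¹)⁻¹ by rw [inv_inv], conj_pow, hn,
      H_pow (tr_mem η), mul_one, mul_one, inv_inv, inv_mul_cancel] at hpow
    obtain ⟨hA2, hB2⟩ := psi2_central hpow.symm
    obtain ⟨e, he⟩ := hL
    have hML : ∀ (A : Matrix.SpecialLinearGroup (Fin 2) K) (d : Kˣ), twPow d A N ^ 2 = 1 →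
        ((Matrix.SpecialLinearGroup.map ι A : Matrix (Fin 2) (Fin 2) L) *
          dmat (Units.map ι.toMonoidHom d)) ^ (Fintype.card L - 1) = 1 := by
      intro A d hA
      have e1 : (Matrix.SpecialLinearGroup.map ι A : Matrix (Fin 2) (Fin 2) L) *
          dmat (Units.map ι.toMonoidHom d) = ι.mapMatrix ((A : Matrix (Fin 2) (Fin 2) K) * dmat d) := by
        rw [map_mul]
        congr 1
        rw [dmat, dmat, RingHom.mapMatrix_apply, Matrix.diagonal_map (map_zero _)]
        congr 1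
        funext i; fin_cases i <;> simp
      rw [e1, ← map_pow, he, mul_comm 2, pow_mul, pow_mul, twPow_mat, hN, dmat_pow, mul_one, ← hN,
        ← Matrix.SpecialLinearGroup.coe_pow, ← Matrix.SpecialLinearGroup.coe_pow, hA, one_pow,
        Matrix.SpecialLinearGroup.coe_one, map_one]
    obtain ⟨P, p1, p2⟩ := exists_diag (hML A d hA2)
    obtain ⟨P', q1, q2⟩ := exists_diag (hML B d' hB2)
    set A₁ := Matrix.SpecialLinearGroup.map ι A
    set B₁ := Matrix.SpecialLinearGroup.map ι B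
    set η₁ := unitsMap ι ∘ η with hη₁
    have hm : mp ((a : GL chevG2.Idx K)⁻¹ * y * a) = psi2 (A₁, B₁) * tor smithG2 η₁ := by
      rw [← hy', map_mul, psi2_apply, psi2_apply, map_mul, map_tor ι η, ← phiR_eq, ← phiR_eq,
        map_phiR ι, map_phiR ι]
    refine ⟨psi2 (P, P') * (mp a)⁻¹, mul_mem ?_ (inv_mem (map_mem_group C ι a.2)), ?_⟩
    · rw [psi2_apply]; exact mul_mem (phi_mem_group i0 P) (phiR_mem_group r11_facts.1 P')
    rw [show psi2 (P, P') * (mp a)⁻¹ * mp y * (psi2 (P, P') * (mp a)⁻¹)⁻¹ =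
      psi2 (P, P') * ((mp a)⁻¹ * mp y * mp a) * (psi2 (P, P'))⁻¹ by group,
      ← map_inv mp, ← map_mul mp, ← map_mul mp, hm]
    have h5 : psi2 (P, P') * (psi2 (A₁, B₁) * tor smithG2 η₁) * (psi2 (P, P'))⁻¹ =
        psi2 (P * A₁ * (dconj (Units.map ι.toMonoidHom d) P)⁻¹,
          P' * B₁ * (dconj (Units.map ι.toMonoidHom d') P')⁻¹) * tor smithG2 η₁ := by
      have hc' : tor smithG2 η₁ * psi2 (P, P') * (tor smithG2 η₁)⁻¹ =
          psi2 (dconj (Units.map ι.toMonoidHom d) P, dconj (Units.map ι.toMonoidHom d') P') := by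
        rw [hd, hd', ← map_ev, ← map_ev, ← hη₁, psi2_apply, psi2_apply, ← tor_conj_phiR r11_facts.1,
          ← phiR_eq, ← tor_conj_phiR (X.simple_lt i0.isLt)]
        group
      rw [show ∀ u v u' v' u'' v'' : Matrix.SpecialLinearGroup (Fin 2) L,
        ((u * v * u''⁻¹, u' * v' * v''⁻¹) : Matrix.SpecialLinearGroup (Fin 2) L × Matrix.SpecialLinearGroup (Fin 2) L) =
          (u, u') * (v, v') * (u'', v'')⁻¹ from fun _ _ _ _ _ _ => rfl, map_mul, map_mul, map_inv, ← hc']
      group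
    rw [h5]
    refine mul_mem ?_ (tr_mem _)
    rw [psi2_apply, ← phiR_eq]
    exact mul_mem (phiR_diag_mem _ p1 p2) (phiR_diag_mem _ q1 q2)

end Extend

end Cfsg.Agent.G2OddSemisimple68
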