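import Cfsg.Agent.Lib.G2EvenCentralizer68

/-!
Centralisers of semisimple torus elements in the Chevalley group of type G2 in any characteristic, and
conjugation of semisimple elements into the torus.
-/

set_option autoImplicit false

namespace Cfsg.Agent.G2OddTorus68

open Cfsg.Lie Cfsg.Agent.ChevWeyl Cfsg.Agent.ChevBruhat Cfsg.Agent.ChevRootCoord68
  Cfsg.Agent.G2EvenWeyl68 Cfsg.Agent.G2EvenCentralizer68
open Cfsg.Agent.ChevCoxTorus68 (Pm act_Pm tor tor_inj tor_add tor_conj_xg conj_tor mem_H_iff)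
open Cfsg.Agent.ChevalleyTorusCard (act smithG2 act_mul act_one)
open Cfsg.Agent.ChevalleyCore (xg)
open scoped MatrixGroups

/-- the index of the long root orthogonal to the short fundamental root -/
abbrev r11 : ℕ := 11

theorem r11_facts : r11 < chevG2.nroots ∧ chevG2.nroots / 2 ≤ r11 ∧ chevG2.neg r11 = 0 ∧
    chevG2.simple 0 = 7 ∧ chevG2.neg 7 = 4 ∧ chevG2.simple 1 = 6 := by decide +kernel

theorem zero_cases' {M : Type*} [AddCommGroup M] (χ : Fin chevG2.rank → M) (h2 : (2 : ℕ) • χ ≠ 0) :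
    (∀ r, r < chevG2.nroots → ev C χ r ≠ 0) ∨
    (∃ r, r < chevG2.nroots ∧ ev C χ r = 0 ∧
      ∀ s, s < chevG2.nroots → ev C χ s = 0 → s = r ∨ s = chevG2.neg r) ∨
    (χ i1 = 0 ∧ χ i0 ≠ 0 ∧ (3 : ℕ) • χ i0 = 0) := by
  classical
  by_cases h : ∀ r, r < chevG2.nroots → ev C χ r ≠ 0
  · exact Or.inl h
  push Not at h
  obtain ⟨r, hr, hr0⟩ := h
  by_cases hall : ∀ s, s < chevG2.nroots → ev C χ s = 0 → s = r ∨ s = chevG2.neg r
  · exact Or.inr (Or.inl ⟨r, hr, hr0, hall⟩)
  push Not at hall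
  obtain ⟨s, hs, hs0, hsr, hsn⟩ := hall
  have e0 : det2 r s • χ i0 = C.coef s 1 • ev C χ r - C.coef r 1 • ev C χ s := by
    rw [ev_two, ev_two, det2]; module
  have e1 : det2 r s • χ i1 = C.coef r 0 • ev C χ s - C.coef s 0 • ev C χ r := by
    rw [ev_two, ev_two, det2]; module
  rw [hr0, hs0, smul_zero, smul_zero, sub_zero] at e0 e1
  have hnot : (∀ z : M, det2 r s • z = 0 → (2 : ℤ) • z = 0) → False := fun hz => h2 (funext fun j => by
    rw [Pi.smul_apply, Pi.zero_apply, ← natCast_zsmul]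
    rcases fin_cases2 j with rfl | rfl
    · exact hz _ e0
    · exact hz _ e1)
  rcases det2_cases ⟨r, hr⟩ ⟨s, hs⟩ with h | h | h | ⟨h, h30, h31⟩
  · exact absurd (congrArg Fin.val h) hsr
  · exact absurd h hsn
  · refine (hnot fun z hz => ?_).elim
    simp only [List.mem_cons, List.not_mem_nil, or_false] at h
    rcases h with h | h | h | h <;> rw [h] at hz
    · rw [one_zsmul] at hz; rw [hz, zsmul_zero]
    · rw [neg_zsmul, one_zsmul, neg_eq_zero] at hz; rw [hz, zsmul_zero]
    · exact hz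
    · rwa [neg_zsmul, neg_eq_zero] at hz
  · have h3 : ∀ z : M, det2 r s • z = 0 → (3 : ℤ) • z = 0 := by
      intro z hz
      simp only [List.mem_cons, List.not_mem_nil, or_false] at h
      rcases h with h | h <;> rw [h] at hz
      · exact hz
      · rwa [neg_zsmul, neg_eq_zero] at hz
    have h10 := h3 _ e0
    have h13 := h3 _ e1
    obtain ⟨a, ha⟩ := h30
    change C.coef r 0 = 3 * a at ha
    have hb : C.coef r 1 • χ i1 = 0 := by
      have := hr0
      rw [ev_two, ha, mul_comm, mul_smul, h10, smul_zero, zero_add] at this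
      exact this
    have h1 : χ i1 = 0 := by
      simp only [List.mem_cons, List.not_mem_nil, or_false] at h31
      rcases h31 with e | e | e | e <;> rw [e] at hb
      · rwa [one_zsmul] at hb
      · rwa [neg_zsmul, one_zsmul, neg_eq_zero] at hb
      · rw [show χ i1 = (3 : ℤ) • χ i1 - (2 : ℤ) • χ i1 by module, h13, hb, sub_zero]
      · rw [show χ i1 = (3 : ℤ) • χ i1 - (2 : ℤ) • χ i1 by module, h13,
          show (2 : ℤ) • χ i1 = 0 by rwa [neg_zsmul, neg_eq_zero] at hb, sub_zero]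
    refine Or.inr (Or.inr ⟨h1, fun h0 => h2 (funext fun j => ?_), by rwa [← natCast_zsmul]⟩)
    rw [Pi.smul_apply, Pi.zero_apply]
    rcases fin_cases2 j with rfl | rfl
    · rw [h0, nsmul_zero]
    · rw [h1, nsmul_zero]

section Field

variable {K : Type*} [Field K]

/-- the rank one subgroup of a root -/
noncomputable def phiR {r : ℕ} (hr : r < chevG2.nroots) :
    Matrix.SpecialLinearGroup (Fin 2) K →* GL chevG2.Idx K :=
  ChevalleySL2.phi (ChevalleyRankOne.rels C hr)

theorem phiR_eq (i : Fin chevG2.rank) : phiR (K := K) (X.simple_lt i.isLt) = phi i := rfl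

variable {r : ℕ} (hr : r < chevG2.nroots)

theorem phiR_range_xg {s : ℕ} (hs : s = r ∨ s = chevG2.neg r) (a : K) :
    xg C s a ∈ (phiR (K := K) hr).range := by
  rw [phiR, ChevalleySL2.range_phi]
  rcases hs with rfl | rfl
  · exact Subgroup.subset_closure (Or.inl ⟨a, rfl⟩)
  · exact Subgroup.subset_closure (Or.inr ⟨a, rfl⟩)

theorem phiR_range_le {H' : Subgroup (GL chevG2.Idx K)}
    (h1 : ∀ a, xg C r a ∈ H') (h2 : ∀ a, xg C (chevG2.neg r) a ∈ H') :
    (phiR (K := K) hr).range ≤ H' := by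
  rw [phiR, ChevalleySL2.range_phi, Subgroup.closure_le]
  rintro _ (⟨a, rfl⟩ | ⟨a, rfl⟩)
  · exact h1 a
  · exact h2 a

theorem phiR_mem_group (A : Matrix.SpecialLinearGroup (Fin 2) K) : phiR hr A ∈ chevG2.group K :=
  phiR_range_le hr (fun a => (S (K := K)).xg_mem_group hr a)
    (fun a => (S (K := K)).xg_mem_group (C.neg_lt _) a) ⟨A, rfl⟩

theorem phiR_commute {z : GL chevG2.Idx K} (h1 : ∀ a, Commute z (xg C r a))
    (h2 : ∀ a, Commute z (xg C (chevG2.neg r) a)) (A : Matrix.SpecialLinearGroup (Fin 2) K) :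
    Commute z (phiR hr A) := by
  have h : (phiR (K := K) hr).range ≤ Subgroup.centralizer {z} :=
    phiR_range_le hr (fun a => Subgroup.mem_centralizer_singleton_iff.2 (h1 a).symm.eq)
      (fun a => Subgroup.mem_centralizer_singleton_iff.2 (h2 a).symm.eq)
  exact (Subgroup.mem_centralizer_singleton_iff.1 (h ⟨A, rfl⟩)).symm

/-- conjugation by a diagonal matrix of GL(2) -/
def dconj (d : Kˣ) (A : Matrix.SpecialLinearGroup (Fin 2) K) : Matrix.SpecialLinearGroup (Fin 2) K :=
  ⟨!![(A : Matrix (Fin 2) (Fin 2) K) 0 0, (d : K) * (A : Matrix (Fin 2) (Fin 2) K) 0 1;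
      (A : Matrix (Fin 2) (Fin 2) K) 1 0 / (d : K), (A : Matrix (Fin 2) (Fin 2) K) 1 1], by
    rw [Matrix.det_fin_two_of]
    have := ChevalleySL2.det_eq A
    field_simp
    linear_combination this⟩

theorem dconj_mul (d : Kˣ) (A B : Matrix.SpecialLinearGroup (Fin 2) K) :
    dconj d (A * B) = dconj d A * dconj d B := by
  refine Subtype.ext ?_
  change _ = (dconj d A : Matrix (Fin 2) (Fin 2) K) * (dconj d B : Matrix (Fin 2) (Fin 2) K)
  ext i j
  fin_cases i <;> fin_cases j <;>
    simp [dconj, Matrix.mul_apply, Fin.sum_univ_two] <;> field_simp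

theorem dconj_one (d : Kˣ) : dconj d (1 : Matrix.SpecialLinearGroup (Fin 2) K) = 1 := by
  apply Subtype.ext
  ext i j
  fin_cases i <;> fin_cases j <;> simp [dconj]

/-- a torus element conjugates the rank one subgroup as a diagonal matrix -/
theorem tor_conj_phiR (η : Fin chevG2.rank → Additive Kˣ) (A : Matrix.SpecialLinearGroup (Fin 2) K) :
    tor smithG2 η * phiR hr A * (tor smithG2 η)⁻¹ = phiR hr (dconj (ev C η r).toMul A) := by
  set d := (ev C η r).toMul with hd
  have R : ChevalleySL2.Rels (fun a : K => xg C r a) (fun a : K => xg C (chevG2.neg r) a) :=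
    ChevalleyRankOne.rels C hr
  have hu : ∀ t : K, tor smithG2 η * phiR hr (ChevalleySL2.upper t) * (tor smithG2 η)⁻¹ =
      phiR hr (dconj d (ChevalleySL2.upper t)) := by
    intro t
    rw [show dconj d (ChevalleySL2.upper t) = ChevalleySL2.upper ((d : K) * t) from Subtype.ext (by
      ext i j; fin_cases i <;> fin_cases j <;> simp [dconj, ChevalleySL2.upper])]
    show _ * ChevalleySL2.phiFun _ _ _ * _ = ChevalleySL2.phiFun _ _ _
    rw [ChevalleySL2.phi_upper R, ChevalleySL2.phi_upper R, tor_conj_xg C smithG2 η hr]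
  have hl : ∀ t : K, tor smithG2 η * phiR hr (ChevalleySL2.lower t) * (tor smithG2 η)⁻¹ =
      phiR hr (dconj d (ChevalleySL2.lower t)) := by
    intro t
    rw [show dconj d (ChevalleySL2.lower t) = ChevalleySL2.lower (t / (d : K)) from Subtype.ext (by
      ext i j; fin_cases i <;> fin_cases j <;> simp [dconj, ChevalleySL2.lower])]
    show _ * ChevalleySL2.phi R _ * _ = ChevalleySL2.phi R _
    rw [ChevalleySL2.phi_lower, ChevalleySL2.phi_lower, tor_conj_xg C smithG2 η (C.neg_lt _),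
      ev_neg C η hr, toMul_neg, Units.val_inv_eq_inv_val, ← hd, div_eq_inv_mul]
  have hA : A ∈ Submonoid.closure (Set.range (ChevalleySL2.upper : K → _) ∪ {ChevalleySL2.wel}) := by
    rw [ChevalleySL2.gen_top]; exact Submonoid.mem_top _
  have hmul : ∀ B B' : Matrix.SpecialLinearGroup (Fin 2) K,
      tor smithG2 η * phiR hr B * (tor smithG2 η)⁻¹ = phiR hr (dconj d B) →
      tor smithG2 η * phiR hr B' * (tor smithG2 η)⁻¹ = phiR hr (dconj d B') →
      tor smithG2 η * phiR hr (B * B') * (tor smithG2 η)⁻¹ = phiR hr (dconj d (B * B')) := by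
    intro B B' h h'
    rw [dconj_mul, map_mul, map_mul, ← h, ← h']
    group
  induction hA using Submonoid.closure_induction with
  | mem a ha =>
    rcases ha with ⟨t, rfl⟩ | rfl
    · exact hu t
    · rw [show (ChevalleySL2.wel : SL(2, K)) =
        ChevalleySL2.upper 1 * ChevalleySL2.lower (-1) * ChevalleySL2.upper 1 from Subtype.ext (by
          rw [Matrix.SpecialLinearGroup.coe_mul, Matrix.SpecialLinearGroup.coe_mul]
          ext i j; fin_cases i <;> fin_cases j <;>
            simp [ChevalleySL2.wel, ChevalleySL2.upper, ChevalleySL2.lower, Matrix.mul_apply, Fin.sum_univ_two,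
              Matrix.SpecialLinearGroup.coe_mul])]
      exact hmul _ _ (hmul _ _ (hu _) (hl _)) (hu _)
  | one => rw [dconj_one, map_one]; group
  | mul a b _ _ ha hb => exact hmul a b ha hb

theorem H_le_normalizer_phiR :
    chevG2.diagonalSubgroup K ≤ Subgroup.normalizer ((phiR (K := K) hr).range : Set (GL chevG2.Idx K)) := by
  intro t ht
  have h : ∀ t ∈ chevG2.diagonalSubgroup K, ∀ g ∈ (phiR (K := K) hr).range,
      t * g * t⁻¹ ∈ (phiR (K := K) hr).range := by
    rintro t ht _ ⟨A, rfl⟩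
    obtain ⟨η, rfl⟩ := (mem_H_iff C smithG2).1 ht
    exact ⟨_, (tor_conj_phiR hr η A).symm⟩
  rw [Subgroup.mem_normalizer_iff]
  refine fun g => ⟨fun hg => h t ht g hg, fun hg => ?_⟩
  simpa [mul_assoc] using h t⁻¹ (inv_mem ht) _ hg

omit hr in
theorem pairing_facts : chevG2.pairing 7 6 = -3 ∧ chevG2.pairing 6 7 = -1 ∧
    chevG2.pairing 11 6 = 1 := by decide +kernel

theorem phiR_injective (hpos : chevG2.nroots / 2 ≤ r) (hs : ∃ s, s < chevG2.nroots ∧ Odd (chevG2.pairing r s)) :
    Function.Injective (phiR (K := K) hr) := by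
  rw [injective_iff_map_eq_one]
  intro A hA
  set M := (A : Matrix (Fin 2) (Fin 2) K) with hM
  have hp : chevG2.IsPosRoot r := (ChevalleyRoots.isPos C).2 ⟨hpos, hr⟩
  set x := fun a : K => xg C r a with hx
  set y := fun a : K => xg C (chevG2.neg r) a with hy
  have R : ChevalleySL2.Rels x y := ChevalleyRankOne.rels C hr
  change ChevalleySL2.phiE x y (M 0 0) (M 0 1) (M 1 0) (M 1 1) = 1 at hA
  have hxU : ∀ a, x a ∈ chevG2.posUnipotent K := fun a => (S (K := K)).xg_mem_U hp a
  by_cases hc : M 1 0 = 0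
  · rw [ChevalleySL2.phiE, if_pos hc] at hA
    have hdet : M 0 0 * M 1 1 = 1 := by
      have := ChevalleySL2.det_eq A
      rwa [← hM, hc, mul_zero, sub_zero] at this
    have ha : M 0 0 ≠ 0 := left_ne_zero_of_mul_eq_one hdet
    have hH : ChevalleySL2.hh x y (M 0 0) ∈ chevG2.diagonalSubgroup K :=
      (S (K := K)).nn_mul_nn_mem hr ha (neg_ne_zero.2 one_ne_zero)
    have h1 : ChevalleySL2.hh x y (M 0 0) ∈ chevG2.posUnipotent K := by
      rw [eq_inv_of_mul_eq_one_right hA]; exact inv_mem (hxU _)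
    have hh1 : ChevalleySL2.hh x y (M 0 0) = 1 := by
      have := Subgroup.mem_inf.2 ⟨h1, hH⟩
      rwa [ChevalleyTorus.U_inf_H C, Subgroup.mem_bot] at this
    have hhg : ChevalleyCore.hg C r (M 0 0) = 1 := hh1
    rw [hh1, mul_one] at hA
    have hb : M 0 1 * M 0 0 = 0 := (S (K := K)).xg_eq_one hr hA
    have hpow : ∀ s, s < chevG2.nroots → (1 : K) = M 0 0 ^ chevG2.pairing r s := by
      intro s hs'
      have h2 := ChevalleyCore.hg_conj_xg C hr hs' ha (1 : K)
      rw [hhg, one_mul, mul_one, mul_one] at h2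
      exact ((S (K := K)).xg_inj _ _ hs' hs' _ _ one_ne_zero h2).2
    obtain ⟨s, hs', k, hk⟩ := hs
    have e1 := hpow r hr
    have e2 := hpow s hs'
    rw [C.pair_self r hr] at e1
    rw [hk, zpow_add₀ ha, zpow_mul, ← e1, one_zpow, one_mul, zpow_one] at e2
    have ha1 : M 0 0 = 1 := e2.symm
    apply Subtype.ext
    rw [Matrix.SpecialLinearGroup.coe_one, ← hM]
    ext a b
    fin_cases a <;> fin_cases b
    · simpa using ha1
    · simpa [ha] using hb
    · simpa using hc
    · simpa [ha1] using hdet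
  · exfalso
    rw [ChevalleySL2.phiE, if_neg hc] at hA
    set t := -(M 1 0)⁻¹ with ht
    have ht0 : t ≠ 0 := neg_ne_zero.2 (inv_ne_zero hc)
    have hnU : ChevalleySL2.nn x y t ∈ chevG2.posUnipotent K := by
      have : ChevalleySL2.nn x y t = (x (M 0 0 / M 1 0))⁻¹ * (x (M 1 1 / M 1 0))⁻¹ := by
        rw [eq_inv_mul_iff_mul_eq, eq_inv_iff_mul_eq_one]; exact hA
      rw [this]; exact mul_mem (inv_mem (hxU _)) (inv_mem (hxU _))
    have hhH : ChevalleySL2.hh x y t ∈ chevG2.diagonalSubgroup K :=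
      (S (K := K)).nn_mul_nn_mem hr ht0 (neg_ne_zero.2 one_ne_zero)
    have hnN : ChevalleySL2.nn x y t ∈ chevG2.monomialSubgroup K := by
      rw [ChevalleySL2.nn_eq R t]
      exact mul_mem (Sys.H_le_N hhH) ((S (K := K)).nn_mem_N hr)
    have hn1 : ChevalleySL2.nn x y t = 1 := by
      have h5 := Subgroup.mem_inf.2 ⟨hnU, hnN⟩
      rw [(S (K := K)).U_inf_N, Subgroup.mem_bot] at h5
      exact h5
    rw [ChevalleySL2.nn_eq R t, mul_eq_one_iff_eq_inv] at hn1
    have hnH : ChevalleySL2.nn x y 1 ∈ chevG2.diagonalSubgroup K := by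
      rw [← inv_inv (ChevalleySL2.nn x y 1), ← hn1]; exact inv_mem hhH
    obtain ⟨η, hη⟩ := (mem_H_iff C smithG2).1 hnH
    have h6 := R.swap 1
    rw [← hη, hx, tor_conj_xg C smithG2 η hr] at h6
    have h7 := ((S (K := K)).xg_inj _ _ hr (C.neg_lt r) _ _ (mul_ne_zero (Units.ne_zero _) one_ne_zero) h6).1
    exact ChevalleyRoots.neg_ne C hr h7.symm

theorem phi_injective' (i : Fin chevG2.rank) : Function.Injective (phi (K := K) i) := by
  obtain ⟨h1, h2, -⟩ := pairing_facts
  obtain ⟨-, -, -, e7, -, e6⟩ := r11_facts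
  refine phiR_injective (X.simple_lt i.isLt) (C.simple_mem i.val i.isLt).1 ?_
  rcases fin_cases2 i with rfl | rfl
  · exact ⟨6, by decide, by rw [show chevG2.simple i0.val = 7 from e7, h1]; decide⟩
  · exact ⟨7, by decide, by rw [show chevG2.simple i1.val = 6 from e6, h2]; decide⟩

theorem phi11_injective : Function.Injective (phiR (K := K) r11_facts.1) :=
  phiR_injective r11_facts.1 r11_facts.2.1 ⟨6, by decide, by
    obtain ⟨-, -, h⟩ := pairing_facts
    rw [h]; decide⟩

omit hr in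
theorem central_sq {A : Matrix.SpecialLinearGroup (Fin 2) K}
    (h : ∀ B, A * B = B * A) : A ^ 2 = 1 := by
  have h1 := congrArg Subtype.val (h (ChevalleySL2.upper 1))
  have h2 := congrArg Subtype.val (h (ChevalleySL2.lower 1))
  simp only [Matrix.SpecialLinearGroup.coe_mul] at h1 h2
  have e00 := congrFun (congrFun h1 0) 0
  have e01 := congrFun (congrFun h1 0) 1
  have f00 := congrFun (congrFun h2 0) 0
  simp [ChevalleySL2.upper, ChevalleySL2.lower, Matrix.mul_apply, Fin.sum_univ_two] at e00 e01 f00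
  have hdet := ChevalleySL2.det_eq A
  set M := (A : Matrix (Fin 2) (Fin 2) K) with hM
  have hc : M 1 0 = 0 := by linear_combination e00
  have hb : M 0 1 = 0 := by linear_combination f00
  have had : M 0 0 = M 1 1 := by linear_combination e01
  rw [hc, hb, ← had] at hdet
  apply Subtype.ext
  rw [sq, Matrix.SpecialLinearGroup.coe_mul, Matrix.SpecialLinearGroup.coe_one, ← hM]
  ext a b
  fin_cases a <;> fin_cases b <;> simp [Matrix.mul_apply, Fin.sum_univ_two, hc, hb, ← had] <;>
    linear_combination hdet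

/-- elements with a power trivial in a torus extension -/
theorem mem_of_pow [Fintype K] {L : Subgroup (GL chevG2.Idx K)}
    (hL : chevG2.diagonalSubgroup K ≤ Subgroup.normalizer (L : Set (GL chevG2.Idx K)))
    {u : GL chevG2.Idx K} (hu : u ∈ L ⊔ chevG2.diagonalSubgroup K) {m : ℕ}
    (hm : Nat.Coprime m (Fintype.card K - 1)) (hpow : u ^ m = 1) : u ∈ L := by
  rw [← SetLike.mem_coe, sup_comm, Subgroup.coe_mul_of_left_le_normalizer_right _ _ hL, Set.mem_mul] at hu
  obtain ⟨t, ht, l, hl, rfl⟩ := hu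
  have key : ∀ k : ℕ, ∃ l' ∈ L, (t * l) ^ k = t ^ k * l' := by
    intro k
    induction k with
    | zero => exact ⟨1, one_mem _, by simp⟩
    | succ k ih =>
      obtain ⟨l', hl', e⟩ := ih
      refine ⟨t⁻¹ * l' * t * l, mul_mem ?_ hl, ?_⟩
      · have := (Subgroup.mem_normalizer_iff.1 (hL (inv_mem ht)) l').1 hl'
        rwa [inv_inv] at this
      · rw [pow_succ, e, pow_succ]; group
  obtain ⟨l', hl', e⟩ := key (Fintype.card K - 1)
  rw [H_pow ht, one_mul] at e
  have h1 : (t * l) ^ (Fintype.card K - 1) ∈ L := e ▸ hl'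
  have h2 : (t * l) ^ m ∈ L := by rw [hpow]; exact one_mem _
  obtain ⟨a, b, hab⟩ : ∃ a b : ℤ, a * m + b * (Fintype.card K - 1 : ℕ) = 1 := by
    have := Nat.gcd_eq_gcd_ab m (Fintype.card K - 1)
    rw [hm.gcd_eq_one] at this
    exact ⟨Nat.gcdA m (Fintype.card K - 1), Nat.gcdB m (Fintype.card K - 1), by push_cast at this ⊢; linarith⟩
  have h3 : (t * l) ^ ((a * m + b * (Fintype.card K - 1 : ℕ) : ℤ)) ∈ L := by
    rw [zpow_add, mul_comm a, mul_comm b, zpow_mul, zpow_mul, zpow_natCast, zpow_natCast]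
    exact mul_mem (L.zpow_mem h2 a) (L.zpow_mem h1 b)
  rwa [hab, zpow_one] at h3

/-- centraliser of a torus element vanishing on one pair of roots -/
theorem pair_A1 {χ : Fin chevG2.rank → Additive Kˣ} {i : Fin chevG2.rank} (hi : χ i = 0)
    (h2 : (2 : ℕ) • χ ≠ 0)
    (honly : ∀ r, r < chevG2.nroots → ev C χ r = 0 →
      r = chevG2.simple i.val ∨ r = chevG2.neg (chevG2.simple i.val))
    {y : GL chevG2.Idx K} (hy : y ∈ chevG2.group K) (h : y * tor smithG2 χ = tor smithG2 χ * y) :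
    y ∈ (phi i).range ⊔ chevG2.diagonalSubgroup K := by
  obtain ⟨u₀, u, n, rfl, hu₀, hu, f1, f2, f3⟩ := cell hy h
  have hU : ∀ v ∈ chevG2.posUnipotent K, tor smithG2 χ * v * (tor smithG2 χ)⁻¹ = v →
      v ∈ (phi (K := K) i).range ⊔ chevG2.diagonalSubgroup K := fun v hv hfix =>
    Subgroup.mem_sup_left (mem_of_fixed hv hfix _ fun s _ hs hz a => xg_mem_range i (honly s hs hz) a)
  refine mul_mem (mul_mem (hU _ hu₀ f1) ?_) (hU _ hu f2)
  set w := tW n with hw
  have hwi : ev C χ (X.img w (chevG2.simple i.val)) = 0 := by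
    rw [show ev C χ (X.img w (chevG2.simple i.val)) = act (Pm C X w) χ i from rfl, f3, hi]
  have hrow : (∀ k, Pm C X w i k = if k = i then 1 else 0) ∨
      (∀ k, Pm C X w i k = if k = i then -1 else 0) := by
    rcases honly _ (X.img_lt w (X.simple_lt i.isLt)) hwi with e | e
    · left; intro k
      show C.coef (X.img w (chevG2.simple i.val)) k.val = _
      rw [e, C.coef_simple _ _ i.isLt k.isLt]
      simp only [Fin.ext_iff]
    · right; intro k
      show C.coef (X.img w (chevG2.simple i.val)) k.val = _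
      rw [e, C.coef_neg _ _ (X.simple_lt i.isLt) k.isLt, C.coef_simple _ _ i.isLt k.isLt]
      simp only [Fin.ext_iff]
      split <;> simp
  have hsref : act (Sref i) χ = χ := by
    rw [← Pm_simple, act_Pm]
    funext j
    rw [wact, X.img_simple i (X.simple_lt j.isLt), ev_reflect C χ i (X.simple_lt j.isLt), hi,
      smul_zero, sub_zero, ev_simple]
  have hneg : ∀ M : M2, act M χ = χ → act (-M) χ ≠ χ := by
    intro M hM h'
    apply h2
    have e : act (-M) χ = -act M χ := by funext j; simp [act, neg_smul]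
    rw [e, hM] at h'
    rw [two_nsmul]
    exact neg_eq_iff_add_eq_zero.1 h'
  rcases Ws_stab i _ (Pm_mem w) hrow with e | e | e | e
  · exact Subgroup.mem_sup_right (mem_H_of_tW (Pm_eq_one e))
  · have hk : ((S (K := K)).sN i)⁻¹ * n ∈ (tW (K := K)).ker := by
      rw [MonoidHom.mem_ker, map_mul, map_inv, tW_sN, ← hw, Pm_inj (e.trans (Pm_simple i).symm),
        inv_mul_cancel]
    have hn0 : (((S (K := K)).sN i : ↥(chevG2.monomialSubgroup K)) : GL chevG2.Idx K) ∈ (phi i).range := by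
      show xg C _ (1 : K) * xg C _ _ * xg C _ 1 ∈ (phi i).range
      exact mul_mem (mul_mem (xg_mem_range i (Or.inl rfl) _) (xg_mem_range i (Or.inr rfl) _))
        (xg_mem_range i (Or.inl rfl) _)
    have := mul_mem (Subgroup.mem_sup_left (T := chevG2.diagonalSubgroup K) hn0)
      (Subgroup.mem_sup_right (S := (phi (K := K) i).range) (mem_H_of_tW (MonoidHom.mem_ker.1 hk)))
    simpa using this
  · exact absurd (e ▸ f3) (hneg 1 (act_one χ))
  · exact absurd (e ▸ f3) (hneg _ hsref)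

/-- the product of the two orthogonal rank one subgroups -/
noncomputable def psi2 : Matrix.SpecialLinearGroup (Fin 2) K × Matrix.SpecialLinearGroup (Fin 2) K →*
    GL chevG2.Idx K :=
  MonoidHom.noncommCoprod (phi i0) (phiR r11_facts.1) fun A B => by
    have key : ∀ s, (s = r11 ∨ s = chevG2.neg r11) → ∀ b : K, Commute (xg C s b) (phi i0 A) := by
      intro s hs b
      have h11 : s < chevG2.nroots := by rcases hs with rfl | rfl <;> [exact r11_facts.1; exact C.neg_lt _]
      have ht : ∀ s : Fin chevG2.nroots, (s.val = r11 ∨ s.val = chevG2.neg r11) →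
          chevG2.commTerms (chevG2.simple 0) s.val = [] ∧
          chevG2.commTerms (chevG2.neg (chevG2.simple 0)) s.val = [] ∧
          s.val ≠ chevG2.simple 0 ∧ s.val ≠ chevG2.neg (chevG2.simple 0) ∧
          s.val ≠ chevG2.neg (chevG2.neg (chevG2.simple 0)) := by decide +kernel
      obtain ⟨t1, t2, n1, n2, n3⟩ := ht ⟨s, h11⟩ hs
      have c : ∀ r, r < chevG2.nroots → s ≠ r → s ≠ chevG2.neg r → chevG2.commTerms r s = [] →
          ∀ a : K, xg C s b * xg C r a * (xg C s b)⁻¹ = xg C r a := by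
        intro r hr hn1 hn2 ht a
        have h := ChevalleyCore.comm_formula C hr h11 hn1 hn2 a b
        rw [show chevG2.commWord K r s a b = [] by simp [ChevalleyDatum.commWord, ht]] at h
        rw [mul_inv_eq_iff_eq_mul, h]
        simp [ChevalleyCore.wg]
      exact commute_range i0 (fun a => c _ (X.simple_lt i0.isLt) n1 n2 t1 a)
        (fun a => c _ (C.neg_lt _) n2 n3 t2 a) A
    exact phiR_commute r11_facts.1 (fun b => (key _ (Or.inl rfl) b).symm)
      (fun b => (key _ (Or.inr rfl) b).symm) B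

omit hr in
theorem psi2_apply (A B : Matrix.SpecialLinearGroup (Fin 2) K) :
    psi2 (A, B) = phi i0 A * phiR r11_facts.1 B := rfl

omit hr in
theorem psi2_range_a : (phi (K := K) i0).range ≤ (psi2 (K := K)).range := by
  rintro _ ⟨A, rfl⟩
  exact ⟨(A, 1), by rw [psi2_apply, map_one, mul_one]⟩

omit hr in
theorem psi2_range_l : (phiR (K := K) r11_facts.1).range ≤ (psi2 (K := K)).range := by
  rintro _ ⟨B, rfl⟩
  exact ⟨(1, B), by rw [psi2_apply, map_one, one_mul]⟩

omit hr in
theorem H_le_normalizer_psi2 :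
    chevG2.diagonalSubgroup K ≤ Subgroup.normalizer ((psi2 (K := K)).range : Set (GL chevG2.Idx K)) := by
  intro t ht
  have h : ∀ t ∈ chevG2.diagonalSubgroup K, ∀ g ∈ (psi2 (K := K)).range,
      t * g * t⁻¹ ∈ (psi2 (K := K)).range := by
    rintro t ht _ ⟨⟨A, B⟩, rfl⟩
    obtain ⟨η, rfl⟩ := (mem_H_iff C smithG2).1 ht
    refine ⟨(dconj (ev C η (chevG2.simple i0.val)).toMul A, dconj (ev C η r11).toMul B), ?_⟩
    rw [psi2_apply, psi2_apply, ← tor_conj_phiR r11_facts.1, ← phiR_eq,
      ← tor_conj_phiR (X.simple_lt i0.isLt)]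
    group
  rw [Subgroup.mem_normalizer_iff]
  refine fun g => ⟨fun hg => h t ht g hg, fun hg => ?_⟩
  simpa [mul_assoc] using h t⁻¹ (inv_mem ht) _ hg

omit hr in
theorem psi2_central {A B : Matrix.SpecialLinearGroup (Fin 2) K} (h : psi2 (A, B) = 1) :
    A ^ 2 = 1 ∧ B ^ 2 = 1 := by
  refine ⟨central_sq fun A' => phi_injective' i0 ?_, central_sq fun B' => phi11_injective ?_⟩
  · have hc : Commute (psi2 (A, B)) (phi i0 A') := h ▸ Commute.one_left _
    have hB : Commute (phiR r11_facts.1 B) (phi i0 A') := by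
      have h1 : ((1, B) : _ × _) * (A', 1) = (A', 1) * (1, B) := by simp
      have := congrArg (psi2 (K := K)) h1
      simp only [psi2_apply, map_mul, map_one, one_mul, mul_one] at this
      exact this
    rw [psi2_apply] at hc
    have := hc.mul_left hB.inv_left
    rw [mul_inv_cancel_right] at this
    rw [map_mul, map_mul]; exact this.eq
  · have hc : Commute (psi2 (A, B)) (phiR r11_facts.1 B') := h ▸ Commute.one_left _
    have hA : Commute (phi i0 A) (phiR r11_facts.1 B') := by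
      have h1 : ((A, 1) : _ × _) * (1, B') = (1, B') * (A, 1) := by simp
      have := congrArg (psi2 (K := K)) h1
      simp only [psi2_apply, map_mul, map_one, one_mul, mul_one] at this
      exact this
    rw [psi2_apply] at hc
    have := hA.inv_left.mul_left hc
    rw [inv_mul_cancel_left] at this
    rw [map_mul, map_mul]; exact this.eq

omit hr in
theorem img_facts : chevG2.reflectRoot 0 6 = 10 ∧ chevG2.reflectRoot 0 5 = 1 ∧
    chevG2.reflectRoot 1 10 = 11 ∧ chevG2.reflectRoot 1 1 = 0 ∧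
    chevG2.simple 1 = 6 ∧ chevG2.neg 6 = 5 := by decide +kernel

omit hr in
theorem Ws_four : ∀ M ∈ Ws, (2 : ℤ) ∣ M i0 i1 →
    M ∈ [1, S0, S1 * (S0 * S1 * S0) * S1, S1 * (S0 * S1 * S0) * S1 * S0] := by
  decide +kernel

omit hr in
theorem even_roots : ∀ r : Fin chevG2.nroots, (2 : ℤ) ∣ C.coef r.val 1 →
    r.val = chevG2.simple 0 ∨ r.val = chevG2.neg (chevG2.simple 0) ∨ r.val = r11 ∨
      r.val = chevG2.neg r11 := by decide +kernel

omit hr in
/-- centraliser of an involution of the torus -/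
theorem pair_A1A1 {χ : Fin chevG2.rank → Additive Kˣ} (h0 : χ i0 = 0) (h1 : χ i1 ≠ 0)
    (h2 : (2 : ℕ) • χ i1 = 0) {y : GL chevG2.Idx K} (hy : y ∈ chevG2.group K)
    (h : y * tor smithG2 χ = tor smithG2 χ * y) :
    y ∈ (psi2 (K := K)).range ⊔ chevG2.diagonalSubgroup K := by
  set L := (psi2 (K := K)).range with hL
  have hord : ∀ a : ℤ, a • χ i1 = 0 → (2 : ℤ) ∣ a := by
    intro a ha
    have h2' : addOrderOf (χ i1) = 2 := addOrderOf_eq_prime (hp := ⟨Nat.prime_two⟩) h2 h1
    have := addOrderOf_dvd_iff_zsmul_eq_zero.2 ha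
    rwa [h2'] at this
  have hLa : ∀ s, (s = chevG2.simple 0 ∨ s = chevG2.neg (chevG2.simple 0)) → ∀ a : K, xg C s a ∈ L :=
    fun s hs a => psi2_range_a (xg_mem_range i0 hs a)
  have hLl : ∀ s, (s = r11 ∨ s = chevG2.neg r11) → ∀ a : K, xg C s a ∈ L :=
    fun s hs a => psi2_range_l (phiR_range_xg r11_facts.1 hs a)
  have hzero : ∀ r, r < chevG2.nroots → ev C χ r = 0 → ∀ a : K, xg C r a ∈ L := by
    intro r hr hz a
    rw [ev_two, h0, smul_zero, zero_add] at hz
    rcases even_roots ⟨r, hr⟩ (hord _ hz) with e | e | e | e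
    · exact hLa r (Or.inl e) a
    · exact hLa r (Or.inr e) a
    · exact hLl r (Or.inl e) a
    · exact hLl r (Or.inr e) a
  obtain ⟨u₀, u, n, rfl, hu₀, hu, f1, f2, f3⟩ := cell hy h
  refine mul_mem (mul_mem (Subgroup.mem_sup_left (mem_of_fixed hu₀ f1 L fun r _ hr hz => hzero r hr hz)) ?_)
    (Subgroup.mem_sup_left (mem_of_fixed hu f2 L fun r _ hr hz => hzero r hr hz))
  let T : Subgroup X.W := (L.subgroupOf (chevG2.monomialSubgroup K)).map tW
  obtain ⟨l1, l2, l3, l4, l5, l6⟩ := img_facts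
  have hn0 : (((S (K := K)).sN i0 : ↥(chevG2.monomialSubgroup K)) : GL chevG2.Idx K) ∈ L :=
    mul_mem (mul_mem (hLa _ (Or.inl rfl) _) (hLa _ (Or.inr rfl) _)) (hLa _ (Or.inl rfl) _)
  have ha : X.C.simple i0 ∈ T := ⟨_, hn0, tW_sN i0⟩
  have hq : X.C.simple i1 * (X.C.simple i0 * X.C.simple i1 * X.C.simple i0) * X.C.simple i1 ∈ T := by
    refine ⟨(S (K := K)).sN i1 * ((S (K := K)).sN i0 * (S (K := K)).sN i1 * ((S (K := K)).sN i0)⁻¹) *
      ((S (K := K)).sN i1)⁻¹, ?_, ?_⟩
    · show ((S (K := K)).sN i1 : GL chevG2.Idx K) * (((S (K := K)).sN i0 : GL chevG2.Idx K) *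
        (xg C (chevG2.simple 1) (1 : K) * xg C (chevG2.neg (chevG2.simple 1)) _ *
          xg C (chevG2.simple 1) 1) * ((S (K := K)).sN i0 : GL chevG2.Idx K)⁻¹) *
        ((S (K := K)).sN i1 : GL chevG2.Idx K)⁻¹ ∈ L
      rw [l5, l6]
      obtain ⟨c, e6⟩ := acts_X (K := K) i0 (show 6 < chevG2.nroots by decide)
      obtain ⟨c', e5⟩ := acts_X (K := K) i0 (show 5 < chevG2.nroots by decide)
      obtain ⟨d, e10⟩ := acts_X (K := K) i1 (show 10 < chevG2.nroots by decide)
      obtain ⟨d', e1⟩ := acts_X (K := K) i1 (show 1 < chevG2.nroots by decide)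
      rw [show chevG2.reflectRoot i0.val 6 = 10 from l1] at e6
      rw [show chevG2.reflectRoot i0.val 5 = 1 from l2] at e5
      rw [show chevG2.reflectRoot i1.val 10 = r11 from l3] at e10
      rw [show chevG2.reflectRoot i1.val 1 = chevG2.neg r11 from l4.trans r11_facts.2.2.1.symm] at e1
      have hg : ∀ a b c g g' : GL chevG2.Idx K, g' * (g * (a * b * c) * g⁻¹) * g'⁻¹ =
          g' * (g * a * g⁻¹) * g'⁻¹ * (g' * (g * b * g⁻¹) * g'⁻¹) * (g' * (g * c * g⁻¹) * g'⁻¹) :=
        fun a b c g g' => by group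
      rw [hg, e6, e5, e10, e1]
      exact mul_mem (mul_mem (hLl _ (Or.inl rfl) _) (hLl _ (Or.inr rfl) _)) (hLl _ (Or.inl rfl) _)
    · simp only [map_mul, map_inv, tW_sN]
      rw [inv_eq_of_mul_eq_one_right (show X.C.simple i0 * X.C.simple i0 = 1 from
          X.C.toCoxeterSystem.simple_mul_simple_self i0),
        inv_eq_of_mul_eq_one_right (show X.C.simple i1 * X.C.simple i1 = 1 from
          X.C.toCoxeterSystem.simple_mul_simple_self i1)]
  set w := tW n with hw
  have hM : (2 : ℤ) ∣ Pm C X w i0 i1 := by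
    refine hord _ ?_
    have := congrFun f3 i0
    rw [act, h0] at this
    refine Eq.trans ?_ this
    rw [Finset.sum_eq_single i1]
    · intro j _ hj
      rcases fin_cases2 j with rfl | rfl
      · rw [h0, smul_zero]
      · exact absurd rfl hj
    · simp
  have hwT : w ∈ T := by
    have e0 : S0 = Pm C X (X.C.simple i0) := (Pm_simple i0).symm
    have e2 : S1 * (S0 * S1 * S0) * S1 =
        Pm C X (X.C.simple i1 * (X.C.simple i0 * X.C.simple i1 * X.C.simple i0) * X.C.simple i1) := by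
      simp only [ChevSylowTorus68.Pm_mul, Pm_simple, mul_assoc]
      rfl
    have h6 := Ws_four _ (Pm_mem w) hM
    simp only [List.mem_cons, List.not_mem_nil, or_false] at h6
    rcases h6 with h6 | h6 | h6 | h6
    · rw [Pm_eq_one h6]; exact one_mem _
    · rw [Pm_inj (h6.trans e0)]; exact ha
    · rw [Pm_inj (h6.trans e2)]; exact hq
    · rw [Pm_inj (h6.trans (by rw [e2, e0, ← ChevSylowTorus68.Pm_mul] :
        S1 * (S0 * S1 * S0) * S1 * S0 = Pm C X (X.C.simple i0 *
          (X.C.simple i1 * (X.C.simple i0 * X.C.simple i1 * X.C.simple i0) * X.C.simple i1))))]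
      exact mul_mem ha hq
  obtain ⟨m, hm, hmw⟩ := hwT
  have hk : m⁻¹ * n ∈ (tW (K := K)).ker := by
    rw [MonoidHom.mem_ker, map_mul, map_inv, hmw, ← hw, inv_mul_cancel]
  have := mul_mem (Subgroup.mem_sup_left (T := chevG2.diagonalSubgroup K)
    (show (m : GL chevG2.Idx K) ∈ L from hm))
    (Subgroup.mem_sup_right (S := L) (mem_H_of_tW (MonoidHom.mem_ker.1 hk)))
  simpa using this

omit hr in
/-- an element of the torus of order two can be moved to a standard one -/
theorem involution_normal {χ : Fin chevG2.rank → Additive Kˣ} (hχ : χ ≠ 0) (h2 : (2 : ℕ) • χ = 0) :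
    ∃ v : X.W, wact C X v χ i0 = 0 ∧ wact C X v χ i1 ≠ 0 ∧ (2 : ℕ) • wact C X v χ i1 = 0 := by
  have huniq : ∀ a b : Additive Kˣ, (2 : ℕ) • a = 0 → (2 : ℕ) • b = 0 → a ≠ 0 → b ≠ 0 → a = b := by
    have key : ∀ a : Additive Kˣ, (2 : ℕ) • a = 0 → a ≠ 0 → ((a.toMul : Kˣ) : K) = -1 := by
      intro a ha ha0
      have h1 : ((a.toMul : Kˣ) : K) ^ 2 = 1 := by
        rw [← Units.val_pow_eq_pow_val, ← toMul_nsmul, ha, toMul_zero, Units.val_one]
      rcases sq_eq_one_iff.1 h1 with e | e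
      · exact absurd (Additive.toMul.injective (Units.ext e)) ha0
      · exact e
    exact fun a b ha hb ha0 hb0 =>
      Additive.toMul.injective (Units.ext ((key a ha ha0).trans (key b hb hb0).symm))
  have hS : ∀ (i : Fin chevG2.rank) (f : Fin chevG2.rank → Additive Kˣ) (j : Fin chevG2.rank),
      wact C X (X.C.simple i) f j = Sref i j i0 • f i0 + Sref i j i1 • f i1 := by
    intro i f j
    rw [← act_Pm, Pm_simple]
    exact Fin.sum_univ_two (fun k : Fin 2 => Sref i j k • f k)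
  obtain ⟨a00, a01, a10, a11, b00, b01, b10, b11⟩ : Sref i0 i0 i0 = -1 ∧ Sref i0 i0 i1 = 0 ∧
      Sref i0 i1 i0 = 3 ∧ Sref i0 i1 i1 = 1 ∧ Sref i1 i0 i0 = 1 ∧ Sref i1 i0 i1 = 1 ∧
      Sref i1 i1 i0 = 0 ∧ Sref i1 i1 i1 = -1 := by decide +kernel
  have hj : ∀ j, (2 : ℕ) • χ j = 0 := congrFun h2
  have hneg : ∀ a : Additive Kˣ, (2 : ℕ) • a = 0 → -a = a := fun a ha => by
    rw [two_nsmul] at ha; exact neg_eq_of_add_eq_zero_left ha
  by_cases h0 : χ i0 = 0
  · refine ⟨1, by rw [wact_one]; exact h0, ?_, by rw [wact_one]; exact hj i1⟩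
    rw [wact_one]
    intro h1
    exact hχ (funext fun j => by rcases fin_cases2 j with rfl | rfl <;> assumption)
  by_cases h1 : χ i1 = 0
  · refine ⟨X.C.simple i0 * X.C.simple i1, ?_⟩
    have e0 : wact C X (X.C.simple i0) χ i0 = χ i0 := by
      rw [hS, a00, a01, zero_zsmul, add_zero, neg_zsmul, one_zsmul, hneg _ (hj i0)]
    have e1 : wact C X (X.C.simple i0) χ i1 = χ i0 := by
      rw [hS, a10, a11, h1, zsmul_zero, add_zero,
        show (3 : ℤ) • χ i0 = (2 : ℕ) • χ i0 + χ i0 by module, hj, zero_add]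
    rw [wact_mul, hS i1 (wact C X (X.C.simple i0) χ) i0, hS i1 (wact C X (X.C.simple i0) χ) i1,
      b00, b01, b10, b11, e0, e1, one_zsmul, zero_zsmul, zero_add, neg_zsmul,
      one_zsmul, hneg _ (hj i0), ← two_nsmul]
    exact ⟨hj i0, h0, hj i0⟩
  · refine ⟨X.C.simple i1, ?_⟩
    have e := huniq _ _ (hj i0) (hj i1) h0 h1
    rw [hS, hS, b00, b01, b10, b11, one_zsmul, one_zsmul, zero_zsmul, zero_add, neg_zsmul, one_zsmul,
      hneg _ (hj i1), e, ← two_nsmul]
    exact ⟨hj i1, h1, hj i1⟩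

end Field

end Cfsg.Agent.G2OddTorus68
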