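import Cfsg.Agent.Lib.G2SylowModel15
import Cfsg.Agent.Lib.G2InvolFinal71
import Cfsg.Agent.Lib.PSL2SylowTwo

/-!
The Sylow 2-subgroup of `G₂(q)`, `q` odd, is isomorphic to `(Z_n × Z_n) : V₄`.
-/

set_option autoImplicit false
set_option linter.unusedSectionVars false
set_option maxRecDepth 10000

namespace Cfsg.Agent.G2SylowEmbed15

open Cfsg.Lie Cfsg.Agent.G2InvolBase71 Cfsg.Agent.G2InvolMain71 Cfsg.Agent.G2InvolFinal71
open Cfsg.Agent.G2SylowModel15
open scoped MatrixGroups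

/-! ### mapping the model -/

section Lift

variable {H : Type*} [Group H] {n : ℕ} [NeZero n]

/-- power with a residue as exponent -/
def zp (A : H) (i : ZMod n) : H := A ^ i.val

theorem zp_add {A : H} (hA : A ^ n = 1) (i j : ZMod n) : zp A (i + j) = zp A i * zp A j := by
  rw [zp, zp, zp, ← pow_add, ZMod.val_add, ← pow_eq_pow_mod _ hA]

theorem zp_zero (A : H) : zp A (0 : ZMod n) = 1 := by rw [zp, ZMod.val_zero, pow_zero]

theorem zp_neg {A : H} (hA : A ^ n = 1) (i : ZMod n) : zp A (-i) = (zp A i)⁻¹ := by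
  refine eq_inv_of_mul_eq_one_left ?_
  rw [← zp_add hA, neg_add_cancel, zp_zero]

theorem zp_conj {A B c : H} (h : c * A * c⁻¹ = B) (i : ZMod n) : c * zp A i = zp B i * c := by
  rw [← mul_inv_eq_iff_eq_mul, zp, zp, ← h, conj_pow]

/-- the homomorphism given by images of the generators -/
theorem exists_lift (A B W F : H) (hA : A ^ n = 1) (hB : B ^ n = 1) (hAB : Commute A B) (hF : F * F = 1)
    (hW : W * W = 1) (hFW : F * W = W * F) (hFA : F * A * F⁻¹ = A⁻¹) (hFB : F * B * F⁻¹ = B⁻¹)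
    (hWA : W * A * W⁻¹ = B) :
    ∃ φ : M n →* H, ∀ a : M n,
      φ a = zp A a.x * zp B a.y * (if a.e then F else 1) * (if a.d then W else 1) := by
  have hWi : W⁻¹ = W := inv_eq_of_mul_eq_one_right hW
  have hWB : W * B * W⁻¹ = A := by
    rw [← hWA, hWi, show W * (W * A * W) * W = (W * W) * A * (W * W) by group, hW, one_mul, mul_one]
  have hAi : A⁻¹ ^ n = 1 := by rw [inv_pow, hA, inv_one]
  have hBi : B⁻¹ ^ n = 1 := by rw [inv_pow, hB, inv_one]
  have zinv : ∀ (X : H) (i : ZMod n), X ^ n = 1 → zp X⁻¹ i = zp X (-i) := fun X i hX => by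
    rw [zp_neg hX, zp, zp, inv_pow]
  let base : ZMod n × ZMod n → H := fun v => zp A v.1 * zp B v.2
  have hcomm : ∀ i j : ZMod n, Commute (zp A i) (zp B j) := fun i j => hAB.pow_pow _ _
  have hbase : ∀ u v : ZMod n × ZMod n, base (u + v) = base u * base v := by
    intro u v
    show zp A (u.1 + v.1) * zp B (u.2 + v.2) = _
    rw [zp_add hA, zp_add hB]
    exact (hcomm v.1 u.2).mul_mul_mul_comm _ _
  let c : Bool → Bool → H := fun e d => (if e then F else 1) * (if d then W else 1)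
  have hc : ∀ e d (v : ZMod n × ZMod n), c e d * base v = base (M.act e d v) * c e d := by
    intro e d v
    have hw : ∀ v : ZMod n × ZMod n, W * base v = base (v.2, v.1) * W := by
      intro v
      show W * (zp A v.1 * zp B v.2) = zp A v.2 * zp B v.1 * W
      rw [← mul_assoc, zp_conj hWA, mul_assoc, zp_conj hWB, ← mul_assoc, (hcomm _ _).symm.eq]
    have hf : ∀ v : ZMod n × ZMod n, F * base v = base (-v.1, -v.2) * F := by
      intro v
      show F * (zp A v.1 * zp B v.2) = zp A (-v.1) * zp B (-v.2) * F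
      rw [← mul_assoc, zp_conj hFA, mul_assoc, zp_conj hFB, ← mul_assoc, zinv A _ hA, zinv B _ hB]
    cases e <;> cases d <;> simp only [c, M.act, Bool.false_eq_true, if_false, if_true, one_mul, mul_one]
    · exact hw v
    · exact hf v
    · rw [mul_assoc, hw, ← mul_assoc, hf, mul_assoc]
  have hcc : ∀ e d e' d', c e d * c e' d' = c (xor e e') (xor d d') := by
    intro e d e' d'
    have hFF : ∀ a : H, F * (F * a) = a := fun a => by rw [← mul_assoc, hF, one_mul]
    have hWW : ∀ a : H, W * (W * a) = a := fun a => by rw [← mul_assoc, hW, one_mul]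
    have hWF : ∀ a : H, W * (F * a) = F * (W * a) := fun a => by rw [← mul_assoc, ← hFW, mul_assoc]
    cases e <;> cases d <;> cases e' <;> cases d' <;>
      simp [c, hF, hW, hFF, hWW, hWF, ← hFW, mul_assoc]
  refine ⟨MonoidHom.mk' (fun a => base (a.x, a.y) * c a.e a.d) ?_, fun a => ?_⟩
  · intro a b
    show base ((a.x, a.y) + M.act a.e a.d (b.x, b.y)) * c (xor a.e b.e) (xor a.d b.d) = _
    rw [hbase, ← hcc, show base (a.x, a.y) * c a.e a.d * (base (b.x, b.y) * c b.e b.d) =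
      base (a.x, a.y) * (c a.e a.d * base (b.x, b.y)) * c b.e b.d by group, hc]
    group
  · show base (a.x, a.y) * c a.e a.d = _
    simp only [base, c, mul_assoc]

end Lift

variable {F : Type*} [Field F]

local notation "G2" => GL chevG2.Idx F

/-! ### pairs of matrices of equal determinant -/

/-- the pairs -/
noncomputable def Pairs (F : Type*) [Field F] : Subgroup (GL (Fin 2) F × GL (Fin 2) F) :=
  MonoidHom.eqLocus (Matrix.GeneralLinearGroup.det.comp (MonoidHom.fst _ _))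
    (Matrix.GeneralLinearGroup.det.comp (MonoidHom.snd _ _))

theorem det_val (g : GL (Fin 2) F) : ((Matrix.GeneralLinearGroup.det g : Fˣ) : F) =
    g.1 0 0 * g.1 1 1 - g.1 0 1 * g.1 1 0 :=
  Matrix.det_fin_two g.1

/-- scale the second column -/
noncomputable def m₁ (g : GL (Fin 2) F) : SL(2, F) :=
  ⟨!![g.1 0 0, g.1 0 1 * ((Matrix.GeneralLinearGroup.det g : Fˣ) : F)⁻¹;
      g.1 1 0, g.1 1 1 * ((Matrix.GeneralLinearGroup.det g : Fˣ) : F)⁻¹], by
    rw [Matrix.det_fin_two_of]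
    have h := det_val g
    have hne := (Matrix.GeneralLinearGroup.det g).ne_zero
    field_simp
    linear_combination -h⟩

/-- scale the first column -/
noncomputable def m₂ (g : GL (Fin 2) F) : SL(2, F) :=
  ⟨!![g.1 0 0 * ((Matrix.GeneralLinearGroup.det g : Fˣ) : F)⁻¹, g.1 0 1;
      g.1 1 0 * ((Matrix.GeneralLinearGroup.det g : Fˣ) : F)⁻¹, g.1 1 1], by
    rw [Matrix.det_fin_two_of]
    have h := det_val g
    have hne := (Matrix.GeneralLinearGroup.det g).ne_zero
    field_simp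
    linear_combination -h⟩

theorem cjd_val (k : Fˣ) (g : SL(2, F)) :
    (cjd k g).1 = !![g.1 0 0, (k : F) * g.1 0 1; g.1 1 0 * (k⁻¹ : Fˣ), g.1 1 1] := rfl

theorem m₁_mul (g h : GL (Fin 2) F) :
    m₁ (g * h) = m₁ g * cjd (Matrix.GeneralLinearGroup.det g)⁻¹ (m₁ h) := by
  have hg := (Matrix.GeneralLinearGroup.det g).ne_zero
  have hh := (Matrix.GeneralLinearGroup.det h).ne_zero
  have hgd : g.1.det ≠ 0 := hg
  apply Subtype.ext
  rw [show (m₁ g * cjd (Matrix.GeneralLinearGroup.det g)⁻¹ (m₁ h)).1 =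
    (m₁ g).1 * (cjd (Matrix.GeneralLinearGroup.det g)⁻¹ (m₁ h)).1 from rfl, cjd_val]
  ext i j
  fin_cases i <;> fin_cases j <;>
    simp [m₁, Matrix.mul_apply, Fin.sum_univ_two] <;> field_simp

theorem m₂_mul (g h : GL (Fin 2) F) :
    m₂ (g * h) = m₂ g * cjd (Matrix.GeneralLinearGroup.det g) (m₂ h) := by
  have hg := (Matrix.GeneralLinearGroup.det g).ne_zero
  have hh := (Matrix.GeneralLinearGroup.det h).ne_zero
  have hgd : g.1.det ≠ 0 := hg
  apply Subtype.ext
  rw [show (m₂ g * cjd (Matrix.GeneralLinearGroup.det g) (m₂ h)).1 =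
    (m₂ g).1 * (cjd (Matrix.GeneralLinearGroup.det g) (m₂ h)).1 from rfl, cjd_val]
  ext i j
  fin_cases i <;> fin_cases j <;>
    simp [m₂, Matrix.mul_apply, Fin.sum_univ_two] <;> field_simp

/-- the map to `G₂` -/
noncomputable def Ψ [Fintype F] : ↥(Pairs F) →* G2 :=
  MonoidHom.mk' (fun p => Phi (m₁ p.1.1, m₂ p.1.2) * T 1 (Matrix.GeneralLinearGroup.det p.1.1)) fun p q => by
    have hd : Matrix.GeneralLinearGroup.det p.1.1 = Matrix.GeneralLinearGroup.det p.1.2 := p.2
    show Phi (m₁ (p.1.1 * q.1.1), m₂ (p.1.2 * q.1.2)) * T 1 (Matrix.GeneralLinearGroup.det (p.1.1 * q.1.1)) = _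
    rw [m₁_mul, m₂_mul, ← hd, map_mul, ← Prod.mk_mul_mk, map_mul]
    rw [show Phi (m₁ p.1.1, m₂ p.1.2) * T 1 (Matrix.GeneralLinearGroup.det p.1.1) *
        (Phi (m₁ q.1.1, m₂ q.1.2) * T 1 (Matrix.GeneralLinearGroup.det q.1.1)) =
        Phi (m₁ p.1.1, m₂ p.1.2) * (T 1 (Matrix.GeneralLinearGroup.det p.1.1) * Phi (m₁ q.1.1, m₂ q.1.2)) *
          T 1 (Matrix.GeneralLinearGroup.det q.1.1) by group]
    rw [T_comm_Phi, ← mul_assoc (Phi (m₁ p.1.1, m₂ p.1.2)), mul_assoc _ (T 1 _) (T 1 _), T_mul, one_mul]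

theorem Ψ_mem [Fintype F] (h2 : (2 : F) ≠ 0) (p : ↥(Pairs F)) : Ψ p ∈ chevG2.group F :=
  group_le (mul_mem (Subgroup.mem_sup_left (Phi_mem _)) (Subgroup.mem_sup_right (T_mem _ _))) h2

theorem scalar_eq {g : GL (Fin 2) F} {c : F} (h : g.1 = c • 1) :
    g.1 0 0 = c ∧ g.1 0 1 = 0 ∧ g.1 1 0 = 0 ∧ g.1 1 1 = c := by simp [h]

theorem Ψ_scalar [Fintype F] (p : ↥(Pairs F)) {c : F} (h1 : p.1.1.1 = c • 1) (h2 : p.1.2.1 = c • 1) :
    Ψ p = 1 := by
  obtain ⟨a, b, e, d⟩ := scalar_eq h1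
  obtain ⟨a', b', e', d'⟩ := scalar_eq h2
  set δ := Matrix.GeneralLinearGroup.det p.1.1 with hδ
  have hd : δ = Matrix.GeneralLinearGroup.det p.1.2 := p.2
  have hv : (δ : F) = c * c := by rw [hδ, det_val, a, b, e, d]; ring
  have hc : c ≠ 0 := fun h => δ.ne_zero (by rw [hv, h, zero_mul])
  set cu := Units.mk0 c hc
  have hδc : δ = cu * cu := Units.ext hv
  have e1 : m₁ p.1.1 = dg cu := by
    apply Subtype.ext; ext i j
    fin_cases i <;> fin_cases j <;> simp [m₁, dg, a, b, e, d, ← hδ, hv, cu] <;> field_simp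
  have e2 : m₂ p.1.2 = dg cu⁻¹ := by
    apply Subtype.ext; ext i j
    fin_cases i <;> fin_cases j <;> simp [m₂, dg, a', b', e', d', ← hd, hv, cu] <;> field_simp
  show Phi (m₁ p.1.1, m₂ p.1.2) * T 1 δ = 1
  rw [e1, e2, Phi_dg, T_mul, hδc, ← T_one]
  congr 1 <;> group

theorem scalar_of_Ψ [Fintype F] (p : ↥(Pairs F)) (h : Ψ p = 1) :
    ∃ c : F, p.1.1.1 = c • 1 ∧ p.1.2.1 = c • 1 := by
  set δ := Matrix.GeneralLinearGroup.det p.1.1 with hδ
  have hd : δ = Matrix.GeneralLinearGroup.det p.1.2 := p.2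
  change Phi (m₁ p.1.1, m₂ p.1.2) * T 1 δ = 1 at h
  have hK : T (1 : Fˣ) δ ∈ K F := by
    rw [eq_inv_of_mul_eq_one_right h]; exact inv_mem (Phi_mem _)
  obtain ⟨μ, hμ⟩ := T_mem_K_iff.1 hK
  have e : Phi ((m₁ p.1.1, m₂ p.1.2) * (dg μ, dg μ⁻¹)⁻¹) = 1 := by
    have hd' : Phi (dg μ, dg μ⁻¹) * T 1 δ = 1 := by
      rw [Phi_dg, T_mul, hμ, ← T_one]; congr 1 <;> group
    rw [map_mul, map_inv, mul_inv_eq_one]
    exact mul_right_cancel (h.trans hd'.symm)
  rw [Phi_ker] at e
  have hs : ∃ s : F, ((m₁ p.1.1).1 = s • (dg μ).1) ∧ ((m₂ p.1.2).1 = s • (dg μ⁻¹).1) := by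
    rcases e with e | e <;> rw [mul_inv_eq_iff_eq_mul] at e
    · refine ⟨1, ?_, ?_⟩
      · rw [one_smul]; exact congrArg (fun q => q.1.1) (e.trans (one_mul _))
      · rw [one_smul]; exact congrArg (fun q => q.2.1) (e.trans (one_mul _))
    · refine ⟨-1, ?_, ?_⟩
      · rw [show (m₁ p.1.1) = -1 * dg μ from congrArg Prod.fst e]; simp
      · rw [show (m₂ p.1.2) = -1 * dg μ⁻¹ from congrArg Prod.snd e]; simp
  obtain ⟨s, hs1, hs2⟩ := hs
  have hv : (δ : F) = μ * μ := by rw [hμ]; simp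
  have hμ0 := μ.ne_zero
  refine ⟨s * μ, ?_, ?_⟩
  · have f : ∀ i j, (m₁ p.1.1).1 i j = (s • (dg μ).1) i j := fun i j => by rw [hs1]
    have f00 := f 0 0; have f01 := f 0 1; have f10 := f 1 0; have f11 := f 1 1
    simp [m₁, dg, ← hδ, hv] at f00 f01 f10 f11
    ext i j
    fin_cases i <;> fin_cases j <;> simp [f00, f01, f10]
    field_simp at f11
    linear_combination f11
  · have f : ∀ i j, (m₂ p.1.2).1 i j = (s • (dg μ⁻¹).1) i j := fun i j => by rw [hs2]
    have f00 := f 0 0; have f01 := f 0 1; have f10 := f 1 0; have f11 := f 1 1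
    simp [m₂, dg, ← hd, hv] at f00 f01 f10 f11
    ext i j
    fin_cases i <;> fin_cases j <;> simp [f01, f10, f11]
    field_simp at f00
    linear_combination f00

/-! ### the rotations and reflections -/

/-- rotation-like matrices -/
def Rm (a b : F) : Matrix (Fin 2) (Fin 2) F := !![a, -b; b, a]

/-- reflection-like matrices -/
def Jm (a b : F) : Matrix (Fin 2) (Fin 2) F := !![a, b; b, -a]

theorem Rm_mul (a b c d : F) : Rm a b * Rm c d = Rm (a * c - b * d) (a * d + b * c) := by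
  ext i j; fin_cases i <;> fin_cases j <;> simp [Rm, Matrix.mul_apply, Fin.sum_univ_two] <;> ring

theorem Jm_Rm (a b c d : F) : Jm a b * Rm c d = Jm (a * c + b * d) (b * c - a * d) := by
  ext i j; fin_cases i <;> fin_cases j <;> simp [Rm, Jm, Matrix.mul_apply, Fin.sum_univ_two] <;> ring

theorem Rm_Jm (a b c d : F) : Rm a b * Jm c d = Jm (a * c - b * d) (b * c + a * d) := by
  ext i j; fin_cases i <;> fin_cases j <;> simp [Rm, Jm, Matrix.mul_apply, Fin.sum_univ_two] <;> ring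

theorem Jm_ne_scalar (h2 : (2 : F) ≠ 0) {g : GL (Fin 2) F} {a b c : F} (hg : g.1 = Jm a b)
    (hs : g.1 = c • 1) : False := by
  obtain ⟨h00, h01, -, h11⟩ := scalar_eq hs
  simp [hg, Jm] at h00 h01 h11
  have hc : c = 0 := by
    refine (mul_eq_zero.1 ?_).resolve_left h2
    linear_combination -h00 - h11
  refine (Matrix.GeneralLinearGroup.det g).ne_zero ?_
  rw [det_val, hs, hc]; simp

/-- build an element of `GL₂` -/
noncomputable def mkR (a b : F) (h : a * a + b * b ≠ 0) : GL (Fin 2) F :=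
  Matrix.GeneralLinearGroup.mkOfDetNeZero (Rm a b) (by
    rw [Rm, Matrix.det_fin_two_of]
    intro e; exact h (by linear_combination e))

/-- build an element of `GL₂` -/
noncomputable def mkJ (a b : F) (h : a * a + b * b ≠ 0) : GL (Fin 2) F :=
  Matrix.GeneralLinearGroup.mkOfDetNeZero (Jm a b) (by
    rw [Jm, Matrix.det_fin_two_of]
    intro e; exact h (by linear_combination -e))

theorem mkR_val (a b : F) (h) : (mkR a b h).1 = Rm a b := rfl

theorem mkJ_val (a b : F) (h) : (mkJ a b h).1 = Jm a b := rfl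

theorem det_eq_of {g h : GL (Fin 2) F} (e : g.1.det = h.1.det) :
    Matrix.GeneralLinearGroup.det g = Matrix.GeneralLinearGroup.det h :=
  Units.ext e

theorem pow_Rm (g : GL (Fin 2) F) {a b : F} (h : g.1 = Rm a b) (m : ℕ) :
    ∃ c d, (g ^ m).1 = Rm c d := by
  induction m with
  | zero => exact ⟨1, 0, by ext i j; fin_cases i <;> fin_cases j <;> simp [Rm]⟩
  | succ m ih =>
    obtain ⟨c, d, hcd⟩ := ih
    exact ⟨_, _, by rw [pow_succ, Units.val_mul, hcd, h, Rm_mul]⟩

theorem model_embedding [Fintype F] (h2 : (2 : F) ≠ 0) (l : ℕ) [NeZero l] {s t : F} (hst : s * s + t * t = 1)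
    (hs : 1 + s ≠ 0) (ζ : GL (Fin 2) F) (hζ : ζ.1 = Rm s t) (hord : orderOf ζ = 4 * l) :
    ∃ φ : M (4 * l) →* ↥(chevG2.group F), Function.Injective φ := by
  obtain ⟨u, v, huv⟩ := PSL2Elements.exists_rep (1 : F) 0 1 (-1)
    (by simpa [show (4 : F) = 2 * 2 by norm_num] using h2) (neg_ne_zero.2 one_ne_zero)
  have huv' : u * u + v * v = -1 := by linear_combination huv
  have hγ : (1 + s) * (1 + s) + t * t ≠ 0 := by
    intro h
    apply hs
    refine (mul_eq_zero.1 ?_).resolve_left h2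
    linear_combination h - hst
  have hγ' : (1 + s) * (1 + s) + (-t) * (-t) ≠ 0 := by intro h; exact hγ (by linear_combination h)
  set γ := mkR (1 + s) t hγ with hγdef
  set γ' := mkR (1 + s) (-t) hγ' with hγ'def
  set ii := mkR (0 : F) 1 (by simp) with hii
  set jj := mkJ u v (by rw [huv']; simp) with hjj
  set kk := mkJ (-v) u (by rw [show -v * -v + u * u = (-1 : F) by linear_combination huv']; simp) with hkk
  have dγ : Matrix.GeneralLinearGroup.det γ = Matrix.GeneralLinearGroup.det γ' := det_eq_of (by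
    simp [γ, γ', mkR_val, Rm, Matrix.det_fin_two_of])
  have dij : Matrix.GeneralLinearGroup.det ii = Matrix.GeneralLinearGroup.det jj := det_eq_of (by
    simp [ii, jj, mkR_val, mkJ_val, Rm, Jm, Matrix.det_fin_two_of]; linear_combination huv')
  have djk : Matrix.GeneralLinearGroup.det jj = Matrix.GeneralLinearGroup.det kk := det_eq_of (by
    simp [jj, kk, mkJ_val, Jm, Matrix.det_fin_two_of]; ring)
  let e₁ : ↥(Pairs F) := ⟨(γ, γ'), dγ⟩
  let e₂ : ↥(Pairs F) := ⟨(γ, γ), rfl⟩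
  let pf : ↥(Pairs F) := ⟨(jj, kk), djk⟩
  let pw : ↥(Pairs F) := ⟨(ii, jj), dij⟩
  let Ψ' : ↥(Pairs F) →* ↥(chevG2.group F) := Ψ.codRestrict _ (Ψ_mem h2)
  have Ψ'1 : ∀ (p : ↥(Pairs F)) (c : F), p.1.1.1 = c • 1 → p.1.2.1 = c • 1 → Ψ' p = 1 :=
    fun p c h1 h2' => Subtype.ext (Ψ_scalar p h1 h2')
  -- matrix identities
  have hcγ : Commute γ γ' := Units.ext (by
    show γ.1 * γ'.1 = γ'.1 * γ.1
    rw [mkR_val, mkR_val, Rm_mul, Rm_mul]; congr 1 <;> ring)
  have hζγ : ζ * γ' = γ := Units.ext (by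
    show ζ.1 * γ'.1 = γ.1
    rw [hζ, mkR_val, mkR_val, Rm_mul]; congr 1
    · linear_combination hst
    · ring)
  have hcζ : Commute ζ γ' := Units.ext (by
    show ζ.1 * γ'.1 = γ'.1 * ζ.1
    rw [hζ, mkR_val, Rm_mul, Rm_mul]; congr 1 <;> ring)
  have hn : ∀ m : ℕ, γ ^ m = ζ ^ m * γ' ^ m := fun m => by rw [← hζγ, hcζ.mul_pow]
  have hjγ : jj * γ * jj⁻¹ = γ' := by
    rw [mul_inv_eq_iff_eq_mul]
    exact Units.ext (by
      show jj.1 * γ.1 = γ'.1 * jj.1
      rw [mkJ_val, mkR_val, mkR_val, Jm_Rm, Rm_Jm]; congr 1 <;> ring)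
  have scal : ∀ m : ℕ, γ ^ m = γ' ^ m → ∃ c : F, (γ ^ m).1 = c • 1 ∧ (γ' ^ m).1 = c • 1 := by
    intro m hm
    obtain ⟨c, d, hcd⟩ := pow_Rm γ (mkR_val _ _ _) m
    have hfix : jj.1 * (γ ^ m).1 = (γ ^ m).1 * jj.1 := by
      have h : jj * γ ^ m * jj⁻¹ = γ ^ m := by rw [← conj_pow, hjγ, hm]
      exact congrArg Units.val (mul_inv_eq_iff_eq_mul.1 h)
    rw [hcd, mkJ_val, Jm_Rm, Rm_Jm] at hfix
    have h00 := congrFun (congrFun hfix 0) 0
    have h01 := congrFun (congrFun hfix 0) 1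
    simp [Jm] at h00 h01
    have hd : d = 0 := by
      refine (mul_eq_zero.1 ?_).resolve_left h2
      linear_combination (-v) * h00 + u * h01 + 2 * d * huv'
    refine ⟨c, ?_, ?_⟩
    all_goals
      first
        | rw [hcd, hd]
        | rw [← hm, hcd, hd]
      ext i j
      fin_cases i <;> fin_cases j <;> simp [Rm]
  have hn1 : γ ^ (4 * l) = γ' ^ (4 * l) := by rw [hn, ← hord, pow_orderOf_eq_one, one_mul]
  obtain ⟨c₀, hc₀, hc₀'⟩ := scal _ hn1
  obtain ⟨φ, hφ⟩ := exists_lift (n := 4 * l) (Ψ' e₁) (Ψ' e₂) (Ψ' pw) (Ψ' pf)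
    (by rw [← map_pow]; exact Ψ'1 _ c₀ hc₀ hc₀')
    (by rw [← map_pow]; exact Ψ'1 _ c₀ hc₀ hc₀)
    ((show Commute e₁ e₂ from Subtype.ext (Prod.ext rfl hcγ.symm.eq)).map Ψ')
    (by
      rw [← map_mul]
      refine Ψ'1 _ (-1) ?_ ?_
      · show jj.1 * jj.1 = _
        rw [mkJ_val]; ext i j
        fin_cases i <;> fin_cases j <;> simp [Jm, Matrix.mul_apply, Fin.sum_univ_two] <;>
          first | linear_combination huv' | linear_combination -huv' | ring1
      · show kk.1 * kk.1 = _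
        rw [mkJ_val]; ext i j
        fin_cases i <;> fin_cases j <;> simp [Jm, Matrix.mul_apply, Fin.sum_univ_two] <;>
          first | linear_combination huv' | linear_combination -huv' | ring1)
    (by
      rw [← map_mul]
      refine Ψ'1 _ (-1) ?_ ?_
      · show ii.1 * ii.1 = _
        rw [mkR_val]; ext i j
        fin_cases i <;> fin_cases j <;> simp [Rm, Matrix.mul_apply, Fin.sum_univ_two]
      · show jj.1 * jj.1 = _
        rw [mkJ_val]; ext i j
        fin_cases i <;> fin_cases j <;> simp [Jm, Matrix.mul_apply, Fin.sum_univ_two] <;>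
          first | linear_combination huv' | linear_combination -huv' | ring1)
    (by
      rw [← mul_inv_eq_one, ← map_mul, ← map_mul, ← map_inv, ← map_mul]
      refine Ψ'1 _ (-1) ?_ ?_
      · show ((jj * ii) * (ii * jj)⁻¹).1 = _
        have : (jj * ii).1 = ((-1 : F) • 1) * (ii * jj).1 := by
          rw [Units.val_mul, Units.val_mul, mkR_val, mkJ_val, Jm_Rm, Rm_Jm, smul_mul_assoc, one_mul]
          ext i j; fin_cases i <;> fin_cases j <;> simp [Jm]
        rw [Units.val_mul, this, mul_assoc, ← Units.val_mul, mul_inv_cancel, Units.val_one, mul_one]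
      · show ((kk * jj) * (jj * kk)⁻¹).1 = _
        have : (kk * jj).1 = ((-1 : F) • 1) * (jj * kk).1 := by
          rw [Units.val_mul, Units.val_mul, mkJ_val, mkJ_val, smul_mul_assoc, one_mul]
          ext i j; fin_cases i <;> fin_cases j <;> simp [Jm, Matrix.mul_apply, Fin.sum_univ_two] <;> ring
        rw [Units.val_mul, this, mul_assoc, ← Units.val_mul, mul_inv_cancel, Units.val_one, mul_one])
    (by
      rw [← mul_eq_one_iff_eq_inv, ← map_inv, ← map_mul, ← map_mul, ← map_mul]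
      refine Ψ'1 _ ((1 + s) * (1 + s) + t * t) ?_ ?_
      · show (jj * γ * jj⁻¹ * γ).1 = _
        rw [hjγ, Units.val_mul, mkR_val, mkR_val, Rm_mul]
        ext i j; fin_cases i <;> fin_cases j <;> simp [Rm] <;> ring
      · show (kk * γ' * kk⁻¹ * γ').1 = _
        have : kk * γ' * kk⁻¹ = γ := by
          rw [mul_inv_eq_iff_eq_mul]
          exact Units.ext (by
            show kk.1 * γ'.1 = γ.1 * kk.1
            rw [mkJ_val, mkR_val, mkR_val, Jm_Rm, Rm_Jm]; congr 1 <;> ring)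
        rw [this, Units.val_mul, mkR_val, mkR_val, Rm_mul]
        ext i j; fin_cases i <;> fin_cases j <;> simp [Rm] <;> ring)
    (by
      rw [← mul_eq_one_iff_eq_inv, ← map_inv, ← map_mul, ← map_mul, ← map_mul]
      refine Ψ'1 _ ((1 + s) * (1 + s) + t * t) ?_ ?_
      · show (jj * γ * jj⁻¹ * γ).1 = _
        rw [hjγ, Units.val_mul, mkR_val, mkR_val, Rm_mul]
        ext i j; fin_cases i <;> fin_cases j <;> simp [Rm] <;> ring
      · show (kk * γ * kk⁻¹ * γ).1 = _
        have : kk * γ * kk⁻¹ = γ' := by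
          rw [mul_inv_eq_iff_eq_mul]
          exact Units.ext (by
            show kk.1 * γ.1 = γ'.1 * kk.1
            rw [mkJ_val, mkR_val, mkR_val, Jm_Rm, Rm_Jm]; congr 1 <;> ring)
        rw [this, Units.val_mul, mkR_val, mkR_val, Rm_mul]
        ext i j; fin_cases i <;> fin_cases j <;> simp [Rm] <;> ring)
    (by
      rw [← map_mul, ← map_inv, ← map_mul]
      refine congrArg Ψ' (Subtype.ext (Prod.ext ?_ ?_))
      · show ii * γ * ii⁻¹ = γ
        rw [mul_inv_eq_iff_eq_mul]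
        exact Units.ext (by
          show ii.1 * γ.1 = γ.1 * ii.1
          rw [mkR_val, mkR_val, Rm_mul, Rm_mul]; congr 1 <;> ring)
      · show jj * γ' * jj⁻¹ = γ
        rw [mul_inv_eq_iff_eq_mul]
        exact Units.ext (by
          show jj.1 * γ'.1 = γ.1 * jj.1
          rw [mkJ_val, mkR_val, mkR_val, Jm_Rm, Rm_Jm]; congr 1 <;> ring))
  refine ⟨φ, ?_⟩
  rw [injective_iff_map_eq_one]
  rintro ⟨x, y, e, d⟩ ha
  rw [hφ] at ha
  -- as a pair
  have hp : ∃ p : ↥(Pairs F), Ψ' p = 1 ∧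
      p.1.1 = γ ^ x.val * γ ^ y.val * (if e then jj else 1) * (if d then ii else 1) ∧
      p.1.2 = γ' ^ x.val * γ ^ y.val * (if e then kk else 1) * (if d then jj else 1) := by
    refine ⟨e₁ ^ x.val * e₂ ^ y.val * (if e then pf else 1) * (if d then pw else 1), ?_, ?_, ?_⟩
    · rw [← ha, map_mul, map_mul, map_mul, map_pow, map_pow]
      cases e <;> cases d <;> simp [zp]
    · cases e <;> cases d <;> simp [e₁, e₂, pf, pw]
    · cases e <;> cases d <;> simp [e₁, e₂, pf, pw]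
  obtain ⟨p, hp1, hpa, hpb⟩ := hp
  obtain ⟨c, hca, hcb⟩ := scalar_of_Ψ p (congrArg Subtype.val hp1)
  obtain ⟨a₁, b₁, h₁⟩ := pow_Rm γ (mkR_val _ _ _) x.val
  obtain ⟨a₁', b₁', h₁'⟩ := pow_Rm γ' (mkR_val _ _ _) x.val
  obtain ⟨a₂, b₂, h₂⟩ := pow_Rm γ (mkR_val _ _ _) y.val
  have hA : (γ ^ x.val * γ ^ y.val).1 = Rm (a₁ * a₂ - b₁ * b₂) (a₁ * b₂ + b₁ * a₂) := by
    rw [Units.val_mul, h₁, h₂, Rm_mul]
  have hB : (γ' ^ x.val * γ ^ y.val).1 = Rm (a₁' * a₂ - b₁' * b₂) (a₁' * b₂ + b₁' * a₂) := by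
    rw [Units.val_mul, h₁', h₂, Rm_mul]
  cases e <;> cases d <;> simp only [Bool.false_eq_true, if_false, if_true, mul_one] at hpa hpb
  · -- both in the base
    have e12 : γ ^ x.val = γ' ^ x.val := by
      have h : γ ^ x.val * γ ^ y.val = γ' ^ x.val * γ ^ y.val := by
        rw [← hpa, ← hpb]; exact Units.ext (hca.trans hcb.symm)
      exact mul_right_cancel h
    have val0 : ∀ i : ZMod (4 * l), γ ^ i.val = γ' ^ i.val → i = 0 := by
      intro i hi
      rw [hn, mul_eq_right] at hi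
      have hd := orderOf_dvd_of_pow_eq_one hi
      rw [hord] at hd
      exact (ZMod.val_eq_zero i).1 (Nat.eq_zero_of_dvd_of_lt hd i.val_lt)
    have hx := val0 x e12
    subst hx
    have hy : y = 0 := by
      apply val0
      have hyc : (γ ^ y.val).1 = c • 1 := by
        rw [← hca, hpa, ZMod.val_zero, pow_zero, one_mul]
      have hfix : jj * γ ^ y.val = γ ^ y.val * jj := Units.ext (by
        show jj.1 * (γ ^ y.val).1 = (γ ^ y.val).1 * jj.1
        rw [hyc, mul_smul_comm, smul_mul_assoc, mul_one, one_mul])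
      calc γ ^ y.val = jj * γ ^ y.val * jj⁻¹ := by rw [hfix, mul_inv_cancel_right]
        _ = γ' ^ y.val := by rw [← conj_pow, hjγ]
    subst hy
    rfl
  · exfalso
    exact Jm_ne_scalar h2 (by rw [hpb, Units.val_mul, hB, mkJ_val, Rm_Jm]) hcb
  · exfalso
    exact Jm_ne_scalar h2 (by rw [hpa, Units.val_mul, hA, mkJ_val, Rm_Jm]) hca
  · exfalso
    exact Jm_ne_scalar h2 (by rw [hpa, Units.val_mul, Units.val_mul, hA, mkJ_val, Rm_Jm, mkR_val, Jm_Rm]) hca

theorem sylow_model [Fintype F] (hodd : Odd (Fintype.card F)) (P : Sylow 2 ↥(chevG2.group F)) :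
    ∃ (l : ℕ) (_ : NeZero l), Nonempty (↥(P : Subgroup ↥(chevG2.group F)) ≃* M (4 * l)) := by
  have : Fact (Nat.Prime 2) := ⟨Nat.prime_two⟩
  have h2 := G2InvolMain71.two_ne (F := F) (Nat.odd_iff.1 hodd)
  have hodd' : Odd (Nat.card F) := by rwa [Nat.card_eq_fintype_card]
  obtain ⟨hcyc, h4, hm⟩ := PSL2SylowTwo.centralizer_w hodd'
  set C := Subgroup.centralizer ({PSL2Elements.w} : Set SL(2, F)) with hC
  obtain ⟨k, m, hmo, hmk⟩ := Nat.exists_eq_pow_mul_and_not_dvd
    (Nat.card_pos (α := C)).ne' 2 (by norm_num)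
  obtain ⟨j, rfl⟩ : ∃ j, k = j + 2 := by
    refine ⟨k - 2, ?_⟩
    by_contra hlt
    have hk2 : k < 2 := by omega
    rw [hmk] at h4
    have h : 2 ^ 2 ∣ 2 ^ k * m := h4
    have hc : Nat.Coprime (2 ^ 2) m := (Nat.prime_two.coprime_iff_not_dvd.2 hmo).pow_left 2
    have := (Nat.pow_dvd_pow_iff_le_right (by norm_num : 1 < 2)).1 (hc.dvd_of_dvd_mul_right h)
    omega
  set l := 2 ^ j with hl
  haveI : NeZero l := ⟨by positivity⟩
  obtain ⟨g, hg⟩ := hcyc.exists_ofOrder_eq_natCard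
  have hm0 : m ≠ 0 := fun h => hmo (h ▸ dvd_zero 2)
  set ζ₀ : SL(2, F) := (g : SL(2, F)) ^ m with hζ₀
  have hord : orderOf ζ₀ = 4 * l := by
    rw [hζ₀, orderOf_pow' _ hm0, Subgroup.orderOf_coe, hg, hmk, Nat.gcd_mul_left_left,
      Nat.mul_div_cancel _ (Nat.pos_of_ne_zero hm0), hl, pow_add]
    ring
  have hζC : ζ₀ ∈ C := pow_mem g.2 m
  rw [hC, Subgroup.mem_centralizer_singleton_iff] at hζC
  have hnc : (PSL2Elements.w : SL(2, F)) ∉ Subgroup.center SL(2, F) := fun h =>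
    PSL2Elements.tr_w_ne h2 (PSL2Elements.tr_sq_eq_four_of_mem_center h)
  obtain ⟨s, t, hst⟩ := PSL2Elements.exists_eq_of_commute hnc (congrArg Subtype.val hζC)
  have hmat : ζ₀.1 = Rm s t := by
    rw [hst]; ext a b
    fin_cases a <;> fin_cases b <;> simp [Rm, PSL2Elements.w, PSL2Elements.mk2]
  have hdet : s * s + t * t = 1 := by
    have := PSL2Elements.det_eq ζ₀
    rw [hmat] at this
    simp [Rm] at this
    linear_combination this
  have hs : 1 + s ≠ 0 := by
    intro h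
    have hs1 : s = -1 := by linear_combination h
    have ht : t = 0 := mul_self_eq_zero.1 (by rw [hs1] at hdet; linear_combination hdet)
    have h1 : ζ₀ = -1 := Subtype.ext (by
      rw [hmat, hs1, ht]; ext a b
      fin_cases a <;> fin_cases b <;> simp [Rm])
    have h2' : ζ₀ ^ 2 = 1 := by rw [h1]; simp
    have := Nat.le_of_dvd two_pos (orderOf_dvd_of_pow_eq_one h2')
    rw [hord] at this
    have := NeZero.pos l
    omega
  obtain ⟨φ, hφ⟩ := model_embedding h2 l hdet hs (Matrix.SpecialLinearGroup.toGL ζ₀) hmat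
    (by rw [orderOf_injective _ Matrix.SpecialLinearGroup.toGL_injective, hord])
  have hcard : Nat.card φ.range = 2 ^ (2 * j + 6) := by
    rw [← Nat.card_congr (MonoidHom.ofInjective hφ).toEquiv, M.card_eq, hl]
    ring
  obtain ⟨Q, hQ⟩ := IsPGroup.exists_le_sylow (IsPGroup.of_card hcard : IsPGroup 2 φ.range)
  have hQcard : Nat.card Q = 2 ^ (2 * j + 6) := by
    obtain ⟨r, hr⟩ : ∃ r, (Fintype.card F ^ 2 - 1) = 2 ^ (j + 3) * r ∧ ¬ 2 ∣ r := by
      set q := Fintype.card F with hq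
      rw [show Nat.card F = q from Nat.card_eq_fintype_card] at hm
      rw [hmk] at hm
      obtain ⟨i, hi⟩ := hodd
      have hsq : q ^ 2 - 1 = (q + 1) * (q - 1) := by rw [← Nat.sq_sub_sq, one_pow]
      have hpow : 2 ^ (j + 2) * m = 4 * (2 ^ j * m) := by rw [pow_add]; ring
      rcases hm with hm | hm
      · refine ⟨m * ((q + 1) / 2), ?_, ?_⟩
        · have e : q + 1 = 2 * ((q + 1) / 2) := by omega
          rw [hsq, ← hm]
          conv_lhs => rw [e]
          ring
        · intro hd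
          rcases Nat.prime_two.dvd_mul.1 hd with h | h
          · exact hmo h
          · rw [hpow] at hm; omega
      · refine ⟨m * ((q - 1) / 2), ?_, ?_⟩
        · have e : q - 1 = 2 * ((q - 1) / 2) := by omega
          rw [hsq, ← hm]
          conv_lhs => rw [e]
          ring
        · intro hd
          rcases Nat.prime_two.dvd_mul.1 hd with h | h
          · exact hmo h
          · rw [hpow] at hm; omega
    set q := Fintype.card F with hq
    obtain ⟨A, hA⟩ : ∃ A, q ^ 2 = A + 1 := ⟨q ^ 2 - 1, by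
      have := Nat.one_le_pow 2 q Fintype.card_pos; omega⟩
    have h6 : q ^ 6 - 1 = A * ((A + 1) ^ 2 + (A + 1) + 1) := by
      rw [show q ^ 6 = (q ^ 2) ^ 3 by ring, hA]
      have : (A + 1) ^ 3 = A * ((A + 1) ^ 2 + (A + 1) + 1) + 1 := by ring
      omega
    refine PSL2Sylow.sylow_card_eq (b := q ^ 6 * (r ^ 2 * ((A + 1) ^ 2 + (A + 1) + 1))) ?_ ?_ Q
    · rw [card_G, ← hq, h6, hA, Nat.add_sub_cancel,
        show A = 2 ^ (j + 3) * r by rw [← hr.1, hA, Nat.add_sub_cancel]]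
      ring
    · intro hd
      have hq2 : q % 2 = 1 := Nat.odd_iff.1 hodd
      rcases Nat.prime_two.dvd_mul.1 hd with h | h
      · have := Nat.prime_two.dvd_of_dvd_pow h; omega
      rcases Nat.prime_two.dvd_mul.1 h with h | h
      · exact hr.2 (Nat.prime_two.dvd_of_dvd_pow h)
      · have e1 : (A + 1) % 2 = 1 := by rw [← hA, Nat.pow_mod, hq2]
        have e2 : (A + 1) ^ 2 % 2 = 1 := by rw [Nat.pow_mod, e1]
        omega
  have hQeq : φ.range = (Q : Subgroup ↥(chevG2.group F)) :=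
    Subgroup.eq_of_le_of_card_ge hQ (le_of_eq (hQcard.trans hcard.symm))
  exact ⟨l, inferInstance, ⟨(Sylow.equiv P Q).trans
    ((MulEquiv.subgroupCongr hQeq.symm).trans (MonoidHom.ofInjective hφ).symm)⟩⟩

end Cfsg.Agent.G2SylowEmbed15
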