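import Cfsg.Agent.Lib.TransferThompson

/-!
The Thompson transfer lemma with an extremal conjugate.
-/

set_option autoImplicit false

namespace Cfsg.Agent.TransferExtremal15

open Subgroup

variable {G : Type*} [Group G]

/-- In a group without non-trivial homomorphisms to an abelian `2`-group, an involution `x` has,
for every homomorphism `f` on a Sylow 2-subgroup `S`, a conjugate in the kernel of `f` which is
extremal: a given 2-subgroup centralising `x` is moved into `S` by the same element. -/
theorem exists_extremal_aux [Finite G] (H : Subgroup G) (hidx : ¬ 2 ∣ H.index)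
    (hperf : ∀ φ : G →* Multiplicative (ZMod 2), φ = 1)
    (f : ↥H →* Multiplicative (ZMod 2))
    {x : G} (hx : x * x = 1) (T : Subgroup G) (hT : IsPGroup 2 T)
    (hTx : ∀ t ∈ T, t * x = x * t) :
    ∃ g : G, (∀ t ∈ T, g⁻¹ * t * g ∈ H) ∧
      ∃ h : g⁻¹ * x * g ∈ H, f ⟨g⁻¹ * x * g, h⟩ = 1 := by
  classical
  haveI : Fact (Nat.Prime 2) := ⟨Nat.prime_two⟩
  haveI : H.FiniteIndex := inferInstance
  letI := H.fintypeQuotientOfFiniteIndex
  haveI : Fintype (Quotient (MulAction.orbitRel (zpowers x) (G ⧸ H))) := Fintype.ofFinite _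
  -- fixed cosets
  have hfix : ∀ g : G, x • (g : G ⧸ H) = (g : G ⧸ H) ↔ g⁻¹ * x * g ∈ H := by
    intro g
    rw [eq_comm, MulAction.Quotient.smul_mk, QuotientGroup.eq, smul_eq_mul, mul_assoc]
  -- the value at a coset
  let val : (G ⧸ H) → ZMod 2 := fun c =>
    if h : c.out⁻¹ * x * c.out ∈ H then Multiplicative.toAdd (f ⟨_, h⟩) else 0
  have hval : ∀ (g : G) (h : g⁻¹ * x * g ∈ H),
      val (g : G ⧸ H) = Multiplicative.toAdd (f ⟨_, h⟩) := by
    intro g h
    obtain ⟨s, hs⟩ := QuotientGroup.mk_out_eq_mul H g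
    have e : (g : G ⧸ H).out⁻¹ * x * (g : G ⧸ H).out = (s : G)⁻¹ * (g⁻¹ * x * g) * s := by
      rw [hs]; group
    have hm : (g : G ⧸ H).out⁻¹ * x * (g : G ⧸ H).out ∈ H := by
      rw [e]; exact mul_mem (mul_mem (inv_mem s.2) h) s.2
    simp only [val, dif_pos hm]
    congr 1
    rw [show (⟨_, hm⟩ : ↥H) = s⁻¹ * ⟨_, h⟩ * s from Subtype.ext e, map_mul, map_mul, map_inv,
      mul_comm, mul_inv_cancel_left]
  have hzfix : ∀ c : G ⧸ H, x • c = c → ∀ j : ℤ, x ^ j • c = c := fun c hc j =>
    MulAction.mem_stabilizer_iff.1 (zpow_mem (MulAction.mem_stabilizer_iff.2 hc) j)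
  let Fx := Finset.univ.filter fun c : G ⧸ H => x • c = c
  -- the transfer is the sum of the values over the fixed cosets
  have hsum : ∑ c ∈ Fx, val c = 0 := by
    have h0 : Multiplicative.toAdd (MonoidHom.transfer f x) = 0 := by rw [hperf (MonoidHom.transfer f)]; rfl
    rw [MonoidHom.transfer_eq_prod_quotient_orbitRel_zpowers_quot, toAdd_prod] at h0
    refine Eq.trans ?_ h0
    have hper : ∀ q : G ⧸ H, Function.minimalPeriod (x • ·) q = if x • q = q then 1 else 2 := by
      intro q
      by_cases hq : x • q = q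
      · rw [if_pos hq, Function.minimalPeriod_eq_one_iff_isFixedPt]; exact hq
      · rw [if_neg hq]
        refine Function.minimalPeriod_eq_prime (p := 2) ?_ hq
        show x • x • q = q
        rw [smul_smul, hx, one_smul]
    rw [← Finset.sum_filter_add_sum_filter_not Finset.univ
      (fun q : Quotient (MulAction.orbitRel (zpowers x) (G ⧸ H)) => x • q.out = q.out)]
    refine Eq.trans ?_ (add_zero _).symm |>.trans (congrArg₂ (· + ·) rfl ?_)
    rotate_right
    · refine (Finset.sum_eq_zero fun q hq => ?_).symm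
      have hne := (Finset.mem_filter.1 hq).2
      rw [toAdd_eq_zero, ← map_one f]
      refine congrArg f (Subtype.ext ?_)
      show _ * x ^ Function.minimalPeriod (x • ·) q.out * _ = (1 : G)
      rw [hper, if_neg hne, pow_two, hx]; group
    refine Finset.sum_bij' (fun c _ => Quotient.mk'' c) (fun q _ => q.out) ?_ ?_ ?_ ?_ ?_
    · intro c hc
      have hc' := (Finset.mem_filter.1 hc).2
      refine Finset.mem_filter.2 ⟨Finset.mem_univ _, ?_⟩
      obtain ⟨⟨k, hk⟩, e⟩ := Quotient.exact' (Quotient.out_eq' (Quotient.mk'' c :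
        Quotient (MulAction.orbitRel (zpowers x) (G ⧸ H))))
      obtain ⟨j, rfl⟩ := mem_zpowers_iff.1 hk
      have e' : x ^ j • c = (Quotient.mk'' c : Quotient (MulAction.orbitRel (zpowers x) (G ⧸ H))).out := e
      rw [hzfix c hc'] at e'
      rw [← e', hc']
    · intro q hq
      exact Finset.mem_filter.2 ⟨Finset.mem_univ _, (Finset.mem_filter.1 hq).2⟩
    · intro c hc
      have hc' := (Finset.mem_filter.1 hc).2
      obtain ⟨⟨k, hk⟩, e⟩ := Quotient.exact' (Quotient.out_eq' (Quotient.mk'' c :
        Quotient (MulAction.orbitRel (zpowers x) (G ⧸ H))))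
      obtain ⟨j, rfl⟩ := mem_zpowers_iff.1 hk
      have e' : x ^ j • c = (Quotient.mk'' c : Quotient (MulAction.orbitRel (zpowers x) (G ⧸ H))).out := e
      rw [hzfix c hc'] at e'
      exact e'.symm
    · intro q _
      exact Quotient.out_eq' q
    · intro c hc
      have hc' := (Finset.mem_filter.1 hc).2
      obtain ⟨⟨k, hk⟩, e⟩ := Quotient.exact' (Quotient.out_eq' (Quotient.mk'' c :
        Quotient (MulAction.orbitRel (zpowers x) (G ⧸ H))))
      obtain ⟨j, rfl⟩ := mem_zpowers_iff.1 hk
      have e' : x ^ j • c = (Quotient.mk'' c : Quotient (MulAction.orbitRel (zpowers x) (G ⧸ H))).out := e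
      rw [hzfix c hc'] at e'
      have hm : c.out⁻¹ * x * c.out ∈ H := (hfix _).1 (by rw [QuotientGroup.out_eq']; exact hc')
      simp only [val, dif_pos hm]
      refine congrArg Multiplicative.toAdd (congrArg f (Subtype.ext ?_))
      show _ = _ * x ^ Function.minimalPeriod (x • ·)
        (Quotient.mk'' c : Quotient (MulAction.orbitRel (zpowers x) (G ⧸ H))).out * _
      rw [hper, ← e', if_pos hc', pow_one]
  -- so the number of fixed cosets with value zero is odd
  have hodd : ¬ 2 ∣ (Fx.filter fun c => val c = 0).card := by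
    have h1 : ((Fx.filter fun c => ¬ val c = 0).card : ZMod 2) = 0 := by
      calc ((Fx.filter fun c => ¬ val c = 0).card : ZMod 2)
          = ∑ c ∈ Fx.filter (fun c => ¬ val c = 0), val c := by
            rw [Finset.card_eq_sum_ones, Nat.cast_sum]
            refine Finset.sum_congr rfl fun c hc => ?_
            have := (Finset.mem_filter.1 hc).2
            revert this
            generalize val c = v
            revert v
            decide
        _ = ∑ c ∈ Fx, val c := by
            rw [← Finset.sum_filter_add_sum_filter_not Fx (fun c => val c = 0),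
              Finset.sum_eq_zero (s := Fx.filter fun c => val c = 0) (fun c hc => (Finset.mem_filter.1 hc).2), zero_add]
        _ = 0 := hsum
    rw [ZMod.natCast_eq_zero_iff] at h1
    have h2 : ¬ 2 ∣ Fx.card := by
      have hpg : IsPGroup 2 (zpowers x) := by
        rcases eq_or_ne x 1 with rfl | hx1
        · rw [zpowers_one_eq_bot]; exact IsPGroup.of_bot
        · refine IsPGroup.of_card (n := 1) ?_
          rw [Nat.card_zpowers, pow_one, orderOf_eq_prime (by rw [pow_two, hx]) hx1]
      have hmod := hpg.card_modEq_card_fixedPoints (G ⧸ H)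
      have hcard : Nat.card (MulAction.fixedPoints (zpowers x) (G ⧸ H)) = Fx.card := by
        rw [← Fintype.card_coe, ← Nat.card_eq_fintype_card]
        refine Nat.card_congr (Equiv.subtypeEquivRight fun c => ?_)
        simp only [MulAction.mem_fixedPoints, Fx, Finset.mem_filter, Finset.mem_univ, true_and,
          Subtype.forall, mem_zpowers_iff]
        constructor
        · intro h; exact h x ⟨1, zpow_one x⟩
        · rintro h _ ⟨j, rfl⟩
          exact hzfix c h j
      rw [hcard, ← Subgroup.index_eq_card] at hmod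
      exact fun h => hidx ((Nat.ModEq.dvd_iff hmod dvd_rfl).2 h)
    have h3 := Finset.card_filter_add_card_filter_not (s := Fx) (fun c => val c = 0)
    omega
  -- a fixed point of `T` among them
  let Z : Set (G ⧸ H) := {c | x • c = c ∧ val c = 0}
  have hinv : ∀ t ∈ T, ∀ c ∈ Z, t • c ∈ Z := by
    rintro t ht c ⟨hc, hv⟩
    obtain ⟨g, rfl⟩ := QuotientGroup.mk_surjective c
    have hg := (hfix g).1 hc
    have e : (t * g)⁻¹ * x * (t * g) = g⁻¹ * x * g := by
      rw [show (t * g)⁻¹ * x * (t * g) = g⁻¹ * (t⁻¹ * (x * t)) * g by group, ← hTx t ht, inv_mul_cancel_left]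
    have hg' : (t * g)⁻¹ * x * (t * g) ∈ H := by rw [e]; exact hg
    refine ⟨(hfix (t * g)).2 hg', ?_⟩
    show val ((t * g : G) : G ⧸ H) = 0
    rw [hval _ hg', ← hv, hval _ hg]
    simp only [e]
  let A : SubMulAction ↥T (G ⧸ H) := ⟨Z, fun t c hc => hinv _ t.2 c hc⟩
  haveI : Finite ↥A := Finite.of_injective (fun c => (c : G ⧸ H)) Subtype.val_injective
  have hAcard : Nat.card ↥A = (Fx.filter fun c => val c = 0).card := by
    rw [← Fintype.card_coe, ← Nat.card_eq_fintype_card]
    refine Nat.card_congr (Equiv.subtypeEquivRight fun c => ?_)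
    show x • c = c ∧ val c = 0 ↔ _
    simp [Fx]
  obtain ⟨⟨c, hcZ⟩, hcfix⟩ := hT.nonempty_fixed_point_of_prime_not_dvd_card ↥A (hAcard ▸ hodd)
  obtain ⟨g, rfl⟩ := QuotientGroup.mk_surjective c
  have hg := (hfix g).1 hcZ.1
  refine ⟨g, fun t ht => ?_, hg, ?_⟩
  · have := congrArg Subtype.val (hcfix ⟨t, ht⟩)
    have h' : (g : G ⧸ H) = ((t * g : G) : G ⧸ H) := this.symm
    rw [QuotientGroup.eq] at h'
    rw [mul_assoc]; exact h'
  · have := hcZ.2
    rw [hval g hg] at this
    exact Multiplicative.toAdd.injective this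

theorem exists_extremal [Finite G] (S : Sylow 2 G)
    (hperf : ∀ φ : G →* Multiplicative (ZMod 2), φ = 1)
    (f : ↥(S : Subgroup G) →* Multiplicative (ZMod 2))
    {x : G} (hx : x * x = 1) (T : Subgroup G) (hT : IsPGroup 2 T)
    (hTx : ∀ t ∈ T, t * x = x * t) :
    ∃ g : G, (∀ t ∈ T, g⁻¹ * t * g ∈ (S : Subgroup G)) ∧
      ∃ h : g⁻¹ * x * g ∈ (S : Subgroup G), f ⟨g⁻¹ * x * g, h⟩ = 1 :=
  haveI : Fact (Nat.Prime 2) := ⟨Nat.prime_two⟩
  exists_extremal_aux (S : Subgroup G) S.not_dvd_index hperf f hx T hT hTx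

end Cfsg.Agent.TransferExtremal15
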