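import Cfsg.Agent.Lib.G2SylowModel15
import Cfsg.Agent.Lib.TransferExtremal15
import Cfsg.Agent.Lib.ZStarTheorem

/-!
Fusion of involutions in a simple group whose Sylow 2-subgroup is `(Z_n × Z_n) : V₄`.
-/

set_option autoImplicit false

namespace Cfsg.Agent.G2SylowFusion15

open Cfsg.Agent.G2SylowModel15 Cfsg.Agent.G2SylowModel15.M

variable {G : Type*} [Group G]

theorem trivial_of_comm [IsSimpleGroup G] (hna : ¬ IsMulCommutative G) (φ : G →* Multiplicative (ZMod 2)) :
    φ = 1 := by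
  rcases φ.normal_ker.eq_bot_or_eq_top with h | h
  · refine absurd ⟨⟨fun a b => ?_⟩⟩ hna
    apply (MonoidHom.ker_eq_bot_iff φ).1 h
    rw [map_mul, map_mul, mul_comm]
  · exact MonoidHom.ker_eq_top_iff.1 h

/-- move the centraliser in `S` of a conjugate of a central involution into `S` -/
theorem exists_adjust [Finite G] (S : Sylow 2 G) {z a h : G}
    (hzc : ∀ s ∈ (S : Subgroup G), s * z = z * s) (hha : h * a * h⁻¹ = z) :
    ∃ g : G, g * a * g⁻¹ = z ∧
      ∀ s ∈ (S : Subgroup G), s * a = a * s → g * s * g⁻¹ ∈ (S : Subgroup G) := by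
  have : Fact (Nat.Prime 2) := ⟨Nat.prime_two⟩
  set C := Subgroup.centralizer ({z} : Set G) with hC
  have hSC : (S : Subgroup G) ≤ C := fun x hx => Subgroup.mem_centralizer_singleton_iff.2 (hzc x hx)
  set D := ((S : Subgroup G) ⊓ Subgroup.centralizer ({a} : Set G)).map (MulAut.conj h).toMonoidHom with hD
  have hDp : IsPGroup 2 ↥D := (S.isPGroup'.to_le inf_le_left).map _
  have hDC : D ≤ C := by
    rintro _ ⟨s, hs, rfl⟩
    have hsa : s * a = a * s := Subgroup.mem_centralizer_singleton_iff.1 (Subgroup.mem_inf.1 hs).2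
    refine Subgroup.mem_centralizer_singleton_iff.2 ?_
    show h * s * h⁻¹ * z = z * (h * s * h⁻¹)
    rw [← hha, show h * s * h⁻¹ * (h * a * h⁻¹) = h * (s * a) * h⁻¹ by group, hsa]; group
  obtain ⟨R, hR⟩ := (hDp.comap_subtype (K := C)).exists_le_sylow
  obtain ⟨c, rfl⟩ := MulAction.exists_smul_eq C (S.subtype hSC) R
  obtain ⟨c, hc⟩ := c
  refine ⟨c⁻¹ * h, ?_, fun s hs hsa => ?_⟩
  · rw [show c⁻¹ * h * a * (c⁻¹ * h)⁻¹ = c⁻¹ * (h * a * h⁻¹) * c by group, hha, mul_assoc,
      ← Subgroup.mem_centralizer_singleton_iff.1 hc, inv_mul_cancel_left]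
  · have hm : h * s * h⁻¹ ∈ D :=
      ⟨s, Subgroup.mem_inf.2 ⟨hs, Subgroup.mem_centralizer_singleton_iff.2 hsa⟩, rfl⟩
    have hx := hR (x := ⟨h * s * h⁻¹, hDC hm⟩) (Subgroup.mem_subgroupOf.2 hm)
    rw [Sylow.coe_subgroup_smul, Subgroup.mem_pointwise_smul_iff_inv_smul_mem, ← map_inv, MulAut.smul_def,
      MulAut.conj_apply] at hx
    have h1 : c⁻¹ * (h * s * h⁻¹) * c⁻¹⁻¹ ∈ (S : Subgroup G) := hx
    rwa [show c⁻¹ * h * s * (c⁻¹ * h)⁻¹ = c⁻¹ * (h * s * h⁻¹) * c⁻¹⁻¹ by group]

variable [Finite G] [IsSimpleGroup G]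

theorem main (hna : ¬ IsMulCommutative G) (S : Sylow 2 G) (l : ℕ) [NeZero l]
    (E : ↥(S : Subgroup G) ≃* M (4 * l)) :
    (∀ x y : G, orderOf x = 2 → orderOf y = 2 → IsConj x y) ∨
      (Nat.card ↥(S : Subgroup G) = 64 ∧ ∃ x y : G, orderOf x = 2 ∧ orderOf y = 2 ∧ ¬ IsConj x y ∧
        ∀ z : G, orderOf z = 2 → IsConj z x ∨ IsConj z y) := by
  classical
  have : Fact (Nat.Prime 2) := ⟨Nat.prime_two⟩
  let ι : M (4 * l) →* G := (S : Subgroup G).subtype.comp E.symm.toMonoidHom
  have ιmem : ∀ a, ι a ∈ (S : Subgroup G) := fun a => (E.symm a).2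
  have ιinj : Function.Injective ι := fun a b h => E.symm.injective (Subtype.ext h)
  have ιE : ∀ s : ↥(S : Subgroup G), ι (E s) = s := fun s => congrArg Subtype.val (E.symm_apply_apply s)
  have conjM : ∀ c a : M (4 * l), IsConj (ι a) (ι (c * a * c⁻¹)) := fun c a =>
    isConj_iff.2 ⟨ι c, by rw [map_mul, map_mul, map_inv]⟩
  have hord : ∀ x : G, orderOf x = 2 ↔ x * x = 1 ∧ x ≠ 1 := fun x => by
    rw [orderOf_eq_prime_iff, pow_two]
  have hz1 : z l ≠ 1 := fun h => hh_ne_zero l (congrArg M.x h)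
  have hw1 : w l ≠ 1 := fun h => Bool.false_ne_true ((congrArg M.d h : true = false)).symm
  have hzo : orderOf (ι (z l)) = 2 := (hord _).2
    ⟨by rw [← map_mul, z_sq, map_one], fun h => hz1 (ιinj (h.trans (map_one ι).symm))⟩
  have hwo : orderOf (ι (w l)) = 2 := (hord _).2
    ⟨by rw [← map_mul, w_sq, map_one], fun h => hw1 (ιinj (h.trans (map_one ι).symm))⟩
  have hzc : ∀ s ∈ (S : Subgroup G), s * ι (z l) = ι (z l) * s := fun s hs => by
    obtain ⟨b, rfl⟩ : ∃ b, ι b = s := ⟨_, ιE ⟨s, hs⟩⟩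
    rw [← map_mul, ← map_mul, z_comm]
  have hperf : ∀ φ : G →* Multiplicative (ZMod 2), φ = 1 := trivial_of_comm hna
  -- the central involution is conjugate to a non-central involution of the base
  have hzu : IsConj (ι (z l)) (ι (u₁ l)) := by
    by_contra hne
    have hne2 : ¬ IsConj (ι (z l)) (ι (u₂ l)) := fun h => hne (h.trans (by
      have := conjM (w l) (u₁ l)
      rw [u_conj] at this
      exact this.symm))
    obtain ⟨g, hg, hgne⟩ : ∃ g : G, g * ι (z l) * g⁻¹ ∈ (S : Subgroup G) ∧ g * ι (z l) * g⁻¹ ≠ ι (z l) := by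
      by_contra hcon
      push_neg at hcon
      obtain ⟨N, hN, hodd, hcomm⟩ := ZStarTheorem.exists_odd_normal
        (ZStarBasic.isolated_of_sylow S (ι (z l)) hzo (ιmem _) hcon)
      rcases hN.eq_bot_or_eq_top with rfl | rfl
      · have hc : ι (z l) ∈ Subgroup.center G := Subgroup.mem_center_iff.2 fun g => by
          have := Subgroup.mem_bot.1 (hcomm g)
          rw [mul_inv_eq_one, mul_inv_eq_iff_eq_mul] at this
          exact this.symm
        rcases (inferInstance : (Subgroup.center G).Normal).eq_bot_or_eq_top with h | h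
        · rw [h, Subgroup.mem_bot] at hc
          exact hz1 (ιinj (hc.trans (map_one ι).symm))
        · exact hna ⟨⟨fun a b => Subgroup.mem_center_iff.1 (h ▸ Subgroup.mem_top b) a⟩⟩
      · rw [Subgroup.card_top] at hodd
        exact (Nat.not_even_iff_odd.2 hodd) (even_iff_two_dvd.2 (hzo ▸ orderOf_dvd_natCard _))
    -- members of the class of `z` in `S`
    have hcls : ∀ a : M (4 * l), IsConj (ι a) (ι (z l)) → a = z l ∨ a.e = true ∨ a.d = true := by
      intro a ha
      obtain ⟨c, hc⟩ := isConj_iff.1 ha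
      have ha2 : a * a = 1 := ιinj (by
        rw [map_mul, map_one]
        apply (MulAut.conj c).injective
        rw [map_mul, map_one, MulAut.conj_apply, hc, ← map_mul, z_sq, map_one])
      have ha1 : a ≠ 1 := by
        rintro rfl
        rw [map_one, mul_one, mul_inv_cancel] at hc
        exact hz1 (ιinj (hc.symm.trans (map_one ι).symm))
      rcases hee : a.e with _ | _
      · rcases hdd : a.d with _ | _
        · rcases base_invol l ha2 ha1 hee hdd with rfl | rfl | rfl
          · exact Or.inl rfl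
          · exact absurd ha.symm hne
          · exact absurd ha.symm hne2
        · exact Or.inr (Or.inr rfl)
      · exact Or.inr (Or.inl rfl)
    -- one which is not `z`, adjusted
    have key : ∀ a : M (4 * l), IsConj (ι a) (ι (z l)) → a ≠ z l →
        a.e = true ∧ a.d = false ∧ pv l a ≠ 0 := by
      intro a ha hane
      obtain ⟨h, hh'⟩ := isConj_iff.1 ha
      obtain ⟨g, hga, hgS⟩ := exists_adjust S hzc hh'
      have ha2 : a * a = 1 := ιinj (by
        rw [map_mul, map_one]
        apply (MulAut.conj g).injective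
        rw [map_mul, map_one, MulAut.conj_apply, hga, ← map_mul, z_sq, map_one])
      by_contra hcon
      have hcase : a.d = true ∨ (a.e = true ∧ pv l a = 0) := by
        rcases hcls a ha with h1 | h1 | h1
        · exact absurd h1 hane
        · by_cases hdd : a.d = true
          · exact Or.inl hdd
          · exact Or.inr ⟨h1, by
              by_contra hp
              exact hcon ⟨h1, by simpa using hdd, hp⟩⟩
        · exact Or.inl h1
      obtain ⟨s, hsa, hss⟩ := exists_root l ha2 hcase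
      have hs : g * ι s * g⁻¹ ∈ (S : Subgroup G) := hgS _ (ιmem s) (by rw [← map_mul, ← map_mul, hsa])
      set t : M (4 * l) := E ⟨_, hs⟩ with ht
      have htz : ι (t * t) = g * ι (z l) * g⁻¹ := by
        rw [map_mul, ιE, ← hss, map_mul]; group
      have hbase : (t * t).e = false ∧ (t * t).d = false := ⟨Bool.xor_self _, Bool.xor_self _⟩
      rcases hcls (t * t) (isConj_iff.2 ⟨g⁻¹, by rw [htz]; group⟩) with h1 | h1 | h1
      · rw [h1] at htz
        have e : ι a = ι (z l) := by
          apply (MulAut.conj g).injective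
          rw [MulAut.conj_apply, MulAut.conj_apply, hga, ← htz]
        exact hane (ιinj e)
      · rw [hbase.1] at h1; exact Bool.false_ne_true h1
      · rw [hbase.2] at h1; exact Bool.false_ne_true h1
    obtain ⟨a, ha⟩ : ∃ a, ι a = g * ι (z l) * g⁻¹ := ⟨E ⟨_, hg⟩, ιE _⟩
    have hac : IsConj (ι a) (ι (z l)) := isConj_iff.2 ⟨g⁻¹, by rw [ha]; group⟩
    have hane : a ≠ z l := fun h => hgne (by rw [← ha, h])
    obtain ⟨hae, had, hap⟩ := key a hac hane
    obtain ⟨h, hh'⟩ := isConj_iff.1 hac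
    obtain ⟨k, hka, hkS⟩ := exists_adjust S hzc hh'
    have hu : ∀ u : M (4 * l), u * a = a * u → u * u = 1 → ¬ IsConj (ι (z l)) (ι u) →
        ∃ v : M (4 * l), ι v = k * ι u * k⁻¹ ∧ pv l v = 0 := by
      intro u hua huu hnu
      have hmem : k * ι u * k⁻¹ ∈ (S : Subgroup G) := hkS _ (ιmem u) (by rw [← map_mul, ← map_mul, hua])
      obtain ⟨v, hv⟩ : ∃ v, ι v = k * ι u * k⁻¹ := ⟨E ⟨_, hmem⟩, ιE _⟩
      refine ⟨v, hv, ?_⟩
      have hv2 : v * v = 1 := ιinj (by
        rw [map_mul, map_one, hv, show k * ι u * k⁻¹ * (k * ι u * k⁻¹) = k * (ι u * ι u) * k⁻¹ by group,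
          ← map_mul, huu, map_one]; group)
      have hcu : IsConj (ι v) (ι u) := isConj_iff.2 ⟨k⁻¹, by rw [hv]; group⟩
      by_contra hpv
      apply hpv
      refine pv_eq_zero l hv2 ?_
      by_contra hcon
      push_neg at hcon
      have hve : v.e = true := by simpa using hcon.1
      have hvd : v.d = false := by simpa using hcon.2
      by_cases hp : pv l v = 0
      · exact absurd hp hpv
      · obtain ⟨c, hc⟩ := conj_mixed l hve hvd hp hae had hap
        have h' := conjM c v
        rw [hc] at h'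
        exact hnu ((hac.symm.trans h'.symm).trans hcu)
    obtain ⟨hc1, hc2⟩ := u_comm l had
    have hu1 : u₁ l * u₁ l = 1 := by
      simp [u₁, mul_def, one_def, act]; linear_combination two_hh l
    have hu2 : u₂ l * u₂ l = 1 := by
      simp [u₂, mul_def, one_def, act]; linear_combination two_hh l
    obtain ⟨v₁, hv₁, hp₁⟩ := hu _ hc1 hu1 hne
    obtain ⟨v₂, hv₂, hp₂⟩ := hu _ hc2 hu2 hne2
    have hvv : ι (v₁ * v₂) = k * ι (z l) * k⁻¹ := by
      rw [map_mul, hv₁, hv₂, ← u_mul, map_mul]; group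
    have hne' : v₁ * v₂ ≠ z l := by
      intro h
      rw [h] at hvv
      have e : ι a = ι (z l) := by
        apply (MulAut.conj k).injective
        rw [MulAut.conj_apply, MulAut.conj_apply, hka, ← hvv]
      exact hane (ιinj e)
    obtain ⟨-, -, hp⟩ := key _ (isConj_iff.2 ⟨k⁻¹, by rw [hvv]; group⟩) hne'
    exact hp (by rw [pv_mul, hp₁, hp₂, add_zero])
  -- every involution is conjugate to `z` or to `w`
  have rep : ∀ x : G, orderOf x = 2 → ∀ (f : M (4 * l) →* Multiplicative (ZMod 2)) (T : Subgroup G),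
      IsPGroup 2 ↥T → (∀ t ∈ T, t * x = x * t) → ¬ IsConj x (ι (z l)) →
      ∃ y : M (4 * l), IsConj x (ι y) ∧ y * y = 1 ∧ f y = 1 ∧ (y.e = true ∨ y.d = true) ∧
        ∃ g : G, ∀ t ∈ T, ∃ s : M (4 * l), ι s = g⁻¹ * t * g ∧ s * y = y * s := by
    intro x hx f T hT hTx hnz
    obtain ⟨hx2, hx1⟩ := (hord x).1 hx
    obtain ⟨g, hgT, hg, hf⟩ := TransferExtremal15.exists_extremal S hperf (f.comp E.toMonoidHom) hx2 T hT hTx
    refine ⟨E ⟨_, hg⟩, isConj_iff.2 ⟨g⁻¹, by rw [ιE, inv_inv]⟩, ?_, hf, ?_, g, fun t ht =>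
      ⟨E ⟨_, hgT t ht⟩, ιE _, ?_⟩⟩
    · rw [← map_mul, ← map_one E]
      refine congrArg E (Subtype.ext ?_)
      show g⁻¹ * x * g * (g⁻¹ * x * g) = 1
      rw [show g⁻¹ * x * g * (g⁻¹ * x * g) = g⁻¹ * (x * x) * g by group, hx2]; group
    · by_contra hcon
      push_neg at hcon
      have hy2 : E ⟨_, hg⟩ * E ⟨_, hg⟩ = 1 := by
        rw [← map_mul, ← map_one E]
        refine congrArg E (Subtype.ext ?_)
        show g⁻¹ * x * g * (g⁻¹ * x * g) = 1
        rw [show g⁻¹ * x * g * (g⁻¹ * x * g) = g⁻¹ * (x * x) * g by group, hx2]; group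
      have hy1 : E ⟨_, hg⟩ ≠ 1 := fun h => hx1 (by
        have e : g⁻¹ * x * g = 1 := (ιE ⟨_, hg⟩).symm.trans ((congrArg ι h).trans (map_one ι))
        rw [show x = g * (g⁻¹ * x * g) * g⁻¹ by group, e]; group)
      have hxy : IsConj x (ι (E ⟨_, hg⟩)) := isConj_iff.2 ⟨g⁻¹, by rw [ιE, inv_inv]⟩
      apply hnz
      rcases base_invol l hy2 hy1 (by simpa using hcon.1) (by simpa using hcon.2) with h | h | h <;>
        rw [h] at hxy
      · exact hxy
      · exact hxy.trans hzu.symm
      · have h' := conjM (w l) (u₁ l)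
        rw [u_conj] at h'
        exact hxy.trans (h'.symm.trans hzu.symm)
    · rw [← map_mul, ← map_mul]
      refine congrArg E (Subtype.ext ?_)
      show g⁻¹ * t * g * (g⁻¹ * x * g) = g⁻¹ * x * g * (g⁻¹ * t * g)
      rw [show g⁻¹ * t * g * (g⁻¹ * x * g) = g⁻¹ * (t * x) * g by group, hTx t ht]; group
  have hclass : ∀ x : G, orderOf x = 2 → ¬ IsConj x (ι (z l)) → IsConj x (ι (w l)) := by
    intro x hx hnz
    obtain ⟨y, hxy, hy2, hf, hed, -⟩ := rep x hx fe ⊥ IsPGroup.of_bot (fun t ht => by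
      rw [Subgroup.mem_bot.1 ht, one_mul, mul_one]) hnz
    have hye := fe_eq_one hf
    have hyd : y.d = true := hed.resolve_left (by rw [hye]; exact Bool.false_ne_true)
    obtain ⟨c, hc⟩ := conj_w l hy2 hye hyd
    have h' := conjM c (w l)
    rw [hc] at h'
    exact hxy.trans h'.symm
  by_cases hwz : IsConj (ι (w l)) (ι (z l))
  · left
    have hall : ∀ x : G, orderOf x = 2 → IsConj x (ι (z l)) := fun x hx => by
      by_contra hcon
      exact hcon ((hclass x hx hcon).trans hwz)
    exact fun x y hx hy => (hall x hx).trans (hall y hy).symm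
  · right
    have hl1 : l = 1 := by
      by_contra hl
      let T : Subgroup G := (Subgroup.centralizer ({w l} : Set (M (4 * l)))).map ι
      have hTp : IsPGroup 2 ↥T := S.isPGroup'.to_le (by rintro _ ⟨s, -, rfl⟩; exact ιmem s)
      have hTw : ∀ t ∈ T, t * ι (w l) = ι (w l) * t := by
        rintro _ ⟨s, hs, rfl⟩
        rw [← map_mul, ← map_mul, Subgroup.mem_centralizer_singleton_iff.1 hs]
      obtain ⟨y, -, -, hf, hed, g, hgT⟩ := rep _ hwo fd T hTp hTw hwz
      have hyd := fd_eq_one hf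
      have hye : y.e = true := hed.resolve_right (by rw [hyd]; exact Bool.false_ne_true)
      have h1 := card_cent_w l
      have h2 := card_cent_inv l hye hyd
      choose σ hσ hσc using hgT
      have hle : Nat.card {s : M (4 * l) // s * w l = w l * s} ≤ Nat.card {s : M (4 * l) // s * y = y * s} := by
        refine Nat.card_le_card_of_injective
          (fun s => ⟨σ (ι s.1) ⟨s.1, Subgroup.mem_centralizer_singleton_iff.2 s.2, rfl⟩,
            hσc (ι s.1) ⟨s.1, Subgroup.mem_centralizer_singleton_iff.2 s.2, rfl⟩⟩) ?_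
        intro s s' h
        have e := congrArg (fun t : {s : M (4 * l) // s * y = y * s} => ι t.1) h
        exact Subtype.ext (ιinj (mul_left_cancel (mul_right_cancel
          ((hσ _ _).symm.trans (e.trans (hσ _ _))))))
      have := NeZero.pos l
      omega
    refine ⟨?_, ι (w l), ι (z l), hwo, hzo, hwz, fun x hx => ?_⟩
    · rw [Nat.card_congr E.toEquiv, M.card_eq, hl1]
      norm_num
    · by_cases h : IsConj x (ι (z l))
      · exact Or.inr h
      · exact Or.inl (hclass x hx h)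

end Cfsg.Agent.G2SylowFusion15
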