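import Mathlib

/-!
The semidirect product `(Z_n × Z_n) : V₄` in which the two generators of `V₄` act by inversion
and by interchanging the factors. For suitable `n` this is the Sylow 2-subgroup of `G₂(q)`, `q` odd.
-/

set_option autoImplicit false

namespace Cfsg.Agent.G2SylowModel15

/-- the group `(Z_n × Z_n) : V₄` -/
@[ext] structure M (n : ℕ) where
  x : ZMod n
  y : ZMod n
  e : Bool
  d : Bool

namespace M

variable {n : ℕ}

/-- the action of `(e, d)` -/
def act (e d : Bool) (v : ZMod n × ZMod n) : ZMod n × ZMod n :=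
  let w := if d then (v.2, v.1) else v
  if e then (-w.1, -w.2) else w

instance : Mul (M n) :=
  ⟨fun a b => ⟨a.x + (act a.e a.d (b.x, b.y)).1, a.y + (act a.e a.d (b.x, b.y)).2, xor a.e b.e, xor a.d b.d⟩⟩

instance : One (M n) := ⟨⟨0, 0, false, false⟩⟩

instance : Inv (M n) :=
  ⟨fun a => ⟨-(act a.e a.d (a.x, a.y)).1, -(act a.e a.d (a.x, a.y)).2, a.e, a.d⟩⟩

theorem mul_def (a b : M n) :
    a * b = ⟨a.x + (act a.e a.d (b.x, b.y)).1, a.y + (act a.e a.d (b.x, b.y)).2, xor a.e b.e, xor a.d b.d⟩ := rfl

theorem one_def : (1 : M n) = ⟨0, 0, false, false⟩ := rfl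

theorem inv_def (a : M n) :
    a⁻¹ = ⟨-(act a.e a.d (a.x, a.y)).1, -(act a.e a.d (a.x, a.y)).2, a.e, a.d⟩ := rfl

instance : Group (M n) := Group.ofLeftAxioms
  (fun a b c => by
    obtain ⟨ax, ay, ae, ad⟩ := a
    obtain ⟨bx, b', be, bd⟩ := b
    obtain ⟨cx, cy, ce, cd⟩ := c
    cases ae <;> cases ad <;> cases be <;> cases bd <;>
      simp [mul_def, act] <;> constructor <;> ring)
  (fun a => by simp [mul_def, one_def, act])
  (fun a => by
    obtain ⟨ax, ay, ae, ad⟩ := a
    cases ae <;> cases ad <;> simp [mul_def, inv_def, one_def, act])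

/-- `M n` as a product -/
def equivProd : M n ≃ ZMod n × ZMod n × Bool × Bool where
  toFun a := (a.x, a.y, a.e, a.d)
  invFun p := ⟨p.1, p.2.1, p.2.2.1, p.2.2.2⟩
  left_inv _ := rfl
  right_inv _ := rfl

instance [NeZero n] : Finite (M n) := Finite.of_equiv _ equivProd.symm

theorem card_eq [NeZero n] : Nat.card (M n) = 4 * n ^ 2 := by
  rw [Nat.card_congr equivProd]
  simp only [Nat.card_prod, Nat.card_zmod, Nat.card_eq_fintype_card (α := Bool), Fintype.card_bool]
  ring

/-- Boolean as an element of `ZMod 2` -/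
def bit (b : Bool) : ZMod 2 := if b then 1 else 0

theorem bit_xor (a b : Bool) : bit (xor a b) = bit a + bit b := by cases a <;> cases b <;> decide

theorem bit_eq_zero {a : Bool} : bit a = 0 ↔ a = false := by cases a <;> decide

/-- the homomorphism `e` -/
def fe : M n →* Multiplicative (ZMod 2) where
  toFun a := Multiplicative.ofAdd (bit a.e)
  map_one' := rfl
  map_mul' a b := by rw [← ofAdd_add, ← bit_xor]; rfl

/-- the homomorphism `d` -/
def fd : M n →* Multiplicative (ZMod 2) where
  toFun a := Multiplicative.ofAdd (bit a.d)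
  map_one' := rfl
  map_mul' a b := by rw [← ofAdd_add, ← bit_xor]; rfl

theorem fe_eq_one {a : M n} (h : fe a = 1) : a.e = false :=
  bit_eq_zero.1 (Multiplicative.ofAdd.injective h)

theorem fd_eq_one {a : M n} (h : fd a = 1) : a.d = false :=
  bit_eq_zero.1 (Multiplicative.ofAdd.injective h)

end M

open M

variable (l : ℕ)

/-- `n / 2` for `n = 4 l` -/
def hh : ZMod (4 * l) := 2 * l

theorem two_hh : (2 : ZMod (4 * l)) * hh l = 0 := by
  have : ((4 * l : ℕ) : ZMod (4 * l)) = 0 := ZMod.natCast_self _
  push_cast at this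
  rw [hh]; linear_combination this

theorem neg_hh : -hh l = hh l := by linear_combination -(two_hh l)

theorem two_mul_eq_zero [NeZero l] {a : ZMod (4 * l)} (h : 2 * a = 0) : a = 0 ∨ a = hh l := by
  obtain ⟨v, rfl⟩ := ZMod.natCast_zmod_surjective a
  rcases Nat.even_or_odd' (v / (2 * l)) with ⟨k, hk | hk⟩
  all_goals
    have h' : ((2 * v : ℕ) : ZMod (4 * l)) = 0 := by push_cast; exact h
    rw [ZMod.natCast_eq_zero_iff] at h'
    have h2 : 2 * l ∣ v := Nat.dvd_of_mul_dvd_mul_left two_pos (show 2 * (2 * l) ∣ 2 * v by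
      rwa [show 2 * (2 * l) = 4 * l by ring])
    have hv := Nat.mul_div_cancel' h2
    rw [hk] at hv
  · left
    rw [← hv, show 2 * l * (2 * k) = 4 * l * k by ring, Nat.cast_mul, ZMod.natCast_self, zero_mul]
  · right
    rw [← hv, show 2 * l * (2 * k + 1) = 4 * l * k + 2 * l by ring, Nat.cast_add, Nat.cast_mul,
      ZMod.natCast_self, zero_mul, zero_add, hh]
    push_cast; rfl

/-- the parity -/
def par : ZMod (4 * l) →+* ZMod 2 := ZMod.castHom ⟨2 * l, by ring⟩ (ZMod 2)

theorem par_hh : par l (hh l) = 0 := by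
  rw [hh, map_mul, map_ofNat, show (OfNat.ofNat 2 : ZMod 2) = 0 from rfl, zero_mul]

theorem par_neg (a : ZMod (4 * l)) : par l (-a) = par l a := by
  rw [map_neg, ZMod.neg_eq_self_mod_two]

theorem exists_half [NeZero l] {a : ZMod (4 * l)} (h : par l a = 0) : ∃ b, a = 2 * b := by
  obtain ⟨v, rfl⟩ := ZMod.natCast_zmod_surjective a
  rw [map_natCast, ZMod.natCast_eq_zero_iff] at h
  obtain ⟨k, rfl⟩ := h
  exact ⟨k, by push_cast; rfl⟩

/-- the parity of `x + y` -/
def pv (a : M (4 * l)) : ZMod 2 := par l (a.x + a.y)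

theorem pv_mul (a b : M (4 * l)) : pv l (a * b) = pv l a + pv l b := by
  obtain ⟨ax, ay, ae, ad⟩ := a
  obtain ⟨bx, b', be, bd⟩ := b
  cases ae <;> cases ad <;>
    simp [pv, mul_def, act, par_neg, ZMod.neg_eq_self_mod_two] <;> ring

/-- the central involution -/
def z : M (4 * l) := ⟨hh l, hh l, false, false⟩

/-- the first non-central involution of `Ω₁` of the base -/
def u₁ : M (4 * l) := ⟨hh l, 0, false, false⟩

/-- the second one -/
def u₂ : M (4 * l) := ⟨0, hh l, false, false⟩

/-- the interchange -/
def w : M (4 * l) := ⟨0, 0, false, true⟩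

theorem z_comm (a : M (4 * l)) : a * z l = z l * a := by
  obtain ⟨ax, ay, ae, ad⟩ := a
  cases ae <;> cases ad <;> simp [z, mul_def, act, neg_hh, add_comm]

theorem hh_ne_zero [NeZero l] : hh l ≠ 0 := by
  intro h
  have h' : ((2 * l : ℕ) : ZMod (4 * l)) = 0 := by push_cast; exact h
  rw [ZMod.natCast_eq_zero_iff] at h'
  have := Nat.le_of_dvd (by have := NeZero.pos l; omega) h'
  have := NeZero.pos l
  omega

theorem z_sq : z l * z l = 1 := by
  simp [z, mul_def, one_def, act]; linear_combination two_hh l

theorem u_mul : u₁ l * u₂ l = z l := by simp [u₁, u₂, z, mul_def, act]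

theorem u_conj : w l * u₁ l * (w l)⁻¹ = u₂ l := by simp [u₁, u₂, w, mul_def, inv_def, act]

theorem w_sq : w l * w l = 1 := by simp [w, mul_def, one_def, act]

/-- involutions inside the base -/
theorem base_invol [NeZero l] {a : M (4 * l)} (h : a * a = 1) (h1 : a ≠ 1) (he : a.e = false)
    (hd : a.d = false) : a = z l ∨ a = u₁ l ∨ a = u₂ l := by
  obtain ⟨ax, ay, ae, ad⟩ := a
  change ae = false at he
  change ad = false at hd
  subst he; subst hd
  simp [mul_def, one_def, act] at h
  rcases two_mul_eq_zero l (show 2 * ax = 0 by linear_combination h.1) with rfl | rfl <;>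
    rcases two_mul_eq_zero l (show 2 * ay = 0 by linear_combination h.2) with rfl | rfl
  · exact absurd rfl h1
  · exact Or.inr (Or.inr rfl)
  · exact Or.inr (Or.inl rfl)
  · exact Or.inl rfl

/-- all involutions interchanging the factors without inversion are conjugate -/
theorem conj_w {a : M (4 * l)} (h : a * a = 1) (he : a.e = false) (hd : a.d = true) :
    ∃ c : M (4 * l), c * w l * c⁻¹ = a := by
  obtain ⟨ax, ay, ae, ad⟩ := a
  change ae = false at he
  change ad = true at hd
  subst he; subst hd
  simp [mul_def, one_def, act] at h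
  refine ⟨⟨ax, 0, false, false⟩, ?_⟩
  simp [w, mul_def, inv_def, act]
  linear_combination -h.1

/-- all inversions of mixed parity are conjugate -/
theorem conj_mixed [NeZero l] {a b : M (4 * l)} (hae : a.e = true) (had : a.d = false) (hap : pv l a ≠ 0)
    (hbe : b.e = true) (hbd : b.d = false) (hbp : pv l b ≠ 0) : ∃ c : M (4 * l), c * a * c⁻¹ = b := by
  obtain ⟨ax, ay, ae, ad⟩ := a
  obtain ⟨bx, b', be, bd⟩ := b
  change ae = true at hae
  change ad = false at had
  change be = true at hbe
  change bd = false at hbd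
  subst hae; subst had; subst hbe; subst hbd
  have step : ∀ u v : ZMod (4 * l), par l (bx - u) = 0 → par l (b' - v) = 0 →
      ∃ c : M (4 * l), c * ⟨u, v, true, false⟩ * c⁻¹ = ⟨bx, b', true, false⟩ := by
    intro u v h1 h2
    obtain ⟨p, hp⟩ := exists_half l h1
    obtain ⟨q, hq⟩ := exists_half l h2
    refine ⟨⟨p, q, false, false⟩, ?_⟩
    simp [mul_def, inv_def, act]
    exact ⟨by linear_combination -hp, by linear_combination -hq⟩
  simp only [pv, map_add] at hap hbp
  have one_of : ∀ t : ZMod 2, t ≠ 0 → t = 1 := by decide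
  have ha' := one_of _ hap
  have hb' := one_of _ hbp
  by_cases h : par l bx = par l ax
  · refine step ax ay (by rw [map_sub, h, sub_self]) ?_
    rw [map_sub]
    linear_combination hb' - ha' - h
  · have h' : par l bx = par l ay := by
      revert h ha'
      generalize par l bx = s
      generalize par l ax = t
      generalize par l ay = r
      revert s t r
      decide
    obtain ⟨c, hc⟩ := step ay ax (by rw [map_sub, h', sub_self]) (by rw [map_sub]; linear_combination hb' - ha' - h')
    refine ⟨c * w l, ?_⟩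
    rw [show c * w l * (⟨ax, ay, true, false⟩ : M (4 * l)) * (c * w l)⁻¹ =
      c * (w l * ⟨ax, ay, true, false⟩ * (w l)⁻¹) * c⁻¹ by group]
    rw [show w l * (⟨ax, ay, true, false⟩ : M (4 * l)) * (w l)⁻¹ = ⟨ay, ax, true, false⟩ by
      simp [w, mul_def, inv_def, act]]
    exact hc

/-- an element commuting with `a` with square `z`, unless `a` is an inversion of mixed parity -/
theorem exists_root [NeZero l] {a : M (4 * l)} (h : a * a = 1)
    (hcase : a.d = true ∨ (a.e = true ∧ pv l a = 0)) :
    ∃ s : M (4 * l), s * a = a * s ∧ s * s = z l := by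
  obtain ⟨ax, ay, ae, ad⟩ := a
  obtain ⟨r, hr⟩ : ∃ r : ZMod (4 * l), hh l = 2 * r := ⟨(l : ZMod (4 * l)), rfl⟩
  rcases ad with _ | _
  · rcases hcase with hc | ⟨hc, hp⟩
    · exact absurd hc (by simp)
    change ae = true at hc
    subst hc
    obtain ⟨p, hp'⟩ := exists_half l (a := ax - ay) (by
      rw [sub_eq_add_neg, map_add, par_neg, ← map_add]; exact hp)
    refine ⟨⟨p, -p + hh l, false, true⟩, ?_, ?_⟩
    · simp [mul_def, act]
      exact ⟨by linear_combination -hp', by linear_combination hp' + two_hh l⟩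
    · simp [z, mul_def, act]
  · rcases ae with _ | _
    · refine ⟨⟨r, r, false, false⟩, ?_, ?_⟩
      · simp [mul_def, act, add_comm]
      · simp [z, mul_def, act, hr]; ring
    · refine ⟨⟨r, -r, false, false⟩, ?_, ?_⟩
      · simp [mul_def, act, add_comm]
      · simp [z, mul_def, act]
        exact ⟨by rw [hr]; ring, by rw [← neg_hh, hr]; ring⟩

/-- `u₁`, `u₂` commute with the inversions -/
theorem u_comm {a : M (4 * l)} (hd : a.d = false) : u₁ l * a = a * u₁ l ∧ u₂ l * a = a * u₂ l := by
  obtain ⟨ax, ay, ae, ad⟩ := a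
  change ad = false at hd
  subst hd
  cases ae <;> simp [u₁, u₂, mul_def, act, neg_hh, add_comm]

theorem pv_eq_zero [NeZero l] {a : M (4 * l)} (h : a * a = 1)
    (hcase : a.e = false ∨ a.d = true) : pv l a = 0 := by
  obtain ⟨ax, ay, ae, ad⟩ := a
  rcases ad with _ | _
  · rcases hcase with hc | hc
    · change ae = false at hc
      subst hc
      simp [mul_def, one_def, act] at h
      rcases two_mul_eq_zero l (show 2 * ax = 0 by linear_combination h.1) with rfl | rfl <;>
        rcases two_mul_eq_zero l (show 2 * ay = 0 by linear_combination h.2) with rfl | rfl <;>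
          simp [pv, par_hh]
    · exact absurd hc (by simp)
  · rcases ae with _ | _
    · simp [mul_def, one_def, act] at h
      rw [pv, h.1, map_zero]
    · simp [mul_def, one_def, act] at h
      have e : ax = ay := by linear_combination h.1
      rw [pv, e, map_add, CharTwo.add_self_eq_zero]

/-- the centraliser of the interchange has at least `4 n` elements -/
theorem card_cent_w [NeZero l] :
    4 * (4 * l) ≤ Nat.card {s : M (4 * l) // s * w l = w l * s} := by
  have hinj : Function.Injective (fun p : ZMod (4 * l) × Bool × Bool =>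
      (⟨⟨p.1, p.1, p.2.1, p.2.2⟩, by
        obtain ⟨a, e, d⟩ := p
        cases e <;> cases d <;> simp [w, mul_def, act]⟩ : {s : M (4 * l) // s * w l = w l * s})) := by
    intro p q hpq
    have h := congrArg (fun s : {s : M (4 * l) // s * w l = w l * s} => (s.1.x, s.1.e, s.1.d)) hpq
    exact h
  refine le_trans ?_ (Nat.card_le_card_of_injective _ hinj)
  simp only [Nat.card_prod, Nat.card_zmod, Nat.card_eq_fintype_card (α := Bool), Fintype.card_bool]
  omega

/-- the centraliser of an inversion has at most `16` elements -/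
theorem card_cent_inv [NeZero l] {a : M (4 * l)} (he : a.e = true) (hd : a.d = false) :
    Nat.card {s : M (4 * l) // s * a = a * s} ≤ 16 := by
  obtain ⟨ax, ay, ae, ad⟩ := a
  change ae = true at he
  change ad = false at hd
  subst he; subst hd
  have key : ∀ u v : ZMod (4 * l), 2 * u = 2 * v → decide (u.val < 2 * l) = decide (v.val < 2 * l) → u = v := by
    intro u v huv hflag
    rcases two_mul_eq_zero l (show 2 * (u - v) = 0 by linear_combination huv) with h0 | h0
    · exact sub_eq_zero.1 h0
    · exfalso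
      have hu : u = v + hh l := by linear_combination h0
      have hl := NeZero.pos l
      have h2 : (hh l).val = 2 * l := by
        rw [hh, show (2 : ZMod (4 * l)) * l = ((2 * l : ℕ) : ZMod (4 * l)) by push_cast; rfl,
          ZMod.val_natCast, Nat.mod_eq_of_lt (by omega)]
      have hval : u.val = (v.val + 2 * l) % (4 * l) := by rw [hu, ZMod.val_add, h2]
      have hlt := v.val_lt
      rw [decide_eq_decide, hval] at hflag
      rcases lt_or_ge (v.val) (2 * l) with hv | hv
      · have := hflag.2 hv
        rw [Nat.mod_eq_of_lt (by omega)] at this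
        omega
      · have e : (v.val + 2 * l) % (4 * l) = v.val - 2 * l := by
          rw [show v.val + 2 * l = v.val - 2 * l + 4 * l by omega, Nat.add_mod_right,
            Nat.mod_eq_of_lt (by omega)]
        rw [e] at hflag
        have := hflag.1 (by omega)
        omega
  have hinj : Function.Injective (fun s : {s : M (4 * l) // s * ⟨ax, ay, true, false⟩ = ⟨ax, ay, true, false⟩ * s} =>
      (s.1.e, s.1.d, decide (s.1.x.val < 2 * l), decide (s.1.y.val < 2 * l))) := by
    rintro ⟨⟨p, q, se, sd⟩, hs⟩ ⟨⟨p', q', se', sd'⟩, hs'⟩ hpq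
    simp only [Prod.mk.injEq] at hpq
    obtain ⟨rfl, rfl, hx, hy⟩ := hpq
    cases se <;> cases sd <;> simp [mul_def, act] at hs hs' <;>
      (apply Subtype.ext
       ext
       · exact key p p' (by linear_combination hs.1 - hs'.1) hx
       · exact key q q' (by linear_combination hs.2 - hs'.2) hy
       · rfl
       · rfl)
  refine le_trans (Nat.card_le_card_of_injective _ hinj) ?_
  simp [Nat.card_prod, Nat.card_eq_fintype_card]

end Cfsg.Agent.G2SylowModel15
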