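import Cfsg.Agent.Lib.G2ThreeData60

/-!
Table checks for the triple cover of `G₂(3)`.
-/

set_option autoImplicit false
set_option maxRecDepth 100000
set_option maxHeartbeats 0

namespace Cfsg.Agent.G2ThreeChecks60

open Cfsg.Agent.G2ThreeData60

/-- `f` holds on `[lo, lo + n)` -/
def allFrom (f : ℕ → Bool) (lo : ℕ) : ℕ → Bool
  | 0 => true
  | n + 1 => f (lo + n) && allFrom f lo n

theorem allFrom_iff (f : ℕ → Bool) (lo : ℕ) :
    ∀ n, allFrom f lo n = true → ∀ c, lo ≤ c → c < lo + n → f c = true
  | 0, _, c, h1, h2 => by omega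
  | n + 1, h, c, h1, h2 => by
    simp only [allFrom, Bool.and_eq_true] at h
    rcases Nat.lt_or_ge c (lo + n) with h3 | h3
    · exact allFrom_iff f lo n h.2 c h1 h3
    · rw [show c = lo + n by omega]; exact h.1

/-- digit `j` -/
def dig (v j : ℕ) : ℕ := (v >>> (2 * j)) &&& 3

/-- sum of `f` over `[0, n)` -/
def sumUp (f : ℕ → ℕ) : ℕ → ℕ
  | 0 => 0
  | n + 1 => sumUp f n + f n

/-- the code of the negated vector -/
def negCode (v : ℕ) : ℕ := sumUp (fun j => ((3 - dig v j) % 3) <<< (2 * j)) 14

/-- coordinate `i` of generator `k` applied to a packed vector -/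
def dot (k : Fin 5) (v i : ℕ) : ℕ := sumUp (fun j => mat k (14 * i + j) * dig v j) 14 % 3

/-- the line is canonical and the lines increase; the tree -/
def ptOK (c : ℕ) : Bool :=
  Nat.blt (code c) (negCode (code c)) && (allFrom (fun j => Nat.blt (dig (code c) j) 3) 0 14) &&
    (sumUp (fun j => dig (code c) j <<< (2 * j)) 14 == code c) &&
    (c + 1 == 378 || Nat.blt (code c) (code (c + 1))) &&
    Nat.blt (par c) 378 && (par (par c) == root) &&
    (c == root || !(slot (par c) c == 0) || !(slot c (par c) == 0))

/-- the generator moves the line as tabulated -/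
def moveOK (k : Fin 5) (c : ℕ) : Bool :=
  let d := nx k c
  Nat.blt d 378 && Nat.blt (pv k c) 378 && (pv k d == c) && (nx k (pv k c) == c) && Nat.blt (vo k c) 3 &&
    (allFrom (fun i => dot k (code c) i == dig (code d) i) 0 14 ||
      allFrom (fun i => dot k (code c) i == (3 - dig (code d) i) % 3) 0 14)

/-- the edges at `i` are carried to edges -/
def edgeOK (k : Fin 5) (i : ℕ) : Bool :=
  allFrom (fun j =>
    let s := slot i j
    s == 0 || slot (nx k i) (nx k j) == (s + 2 + vo k i + 2 * vo k j) % 3 + 1) 0 378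

private theorem ptOK_all_0 : allFrom (ptOK) 0 63 = true := by decide +kernel

private theorem ptOK_all_1 : allFrom (ptOK) 63 63 = true := by decide +kernel

private theorem ptOK_all_2 : allFrom (ptOK) 126 63 = true := by decide +kernel

private theorem ptOK_all_3 : allFrom (ptOK) 189 63 = true := by decide +kernel

private theorem ptOK_all_4 : allFrom (ptOK) 252 63 = true := by decide +kernel

private theorem ptOK_all_5 : allFrom (ptOK) 315 63 = true := by decide +kernel

theorem ptOK_all {c : ℕ} (h : c < 378) : (ptOK) c = true := by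
  rcases Nat.lt_or_ge c 63 with h0 | h0
  · exact allFrom_iff _ _ _ ptOK_all_0 c (by omega) (by omega)
  rcases Nat.lt_or_ge c 126 with h1 | h1
  · exact allFrom_iff _ _ _ ptOK_all_1 c (by omega) (by omega)
  rcases Nat.lt_or_ge c 189 with h2 | h2
  · exact allFrom_iff _ _ _ ptOK_all_2 c (by omega) (by omega)
  rcases Nat.lt_or_ge c 252 with h3 | h3
  · exact allFrom_iff _ _ _ ptOK_all_3 c (by omega) (by omega)
  rcases Nat.lt_or_ge c 315 with h4 | h4
  · exact allFrom_iff _ _ _ ptOK_all_4 c (by omega) (by omega)
  exact allFrom_iff _ _ _ ptOK_all_5 c (by omega) (by omega)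

private theorem moveOK_all0_0 : allFrom (moveOK 0) 0 63 = true := by decide +kernel

private theorem moveOK_all0_1 : allFrom (moveOK 0) 63 63 = true := by decide +kernel

private theorem moveOK_all0_2 : allFrom (moveOK 0) 126 63 = true := by decide +kernel

private theorem moveOK_all0_3 : allFrom (moveOK 0) 189 63 = true := by decide +kernel

private theorem moveOK_all0_4 : allFrom (moveOK 0) 252 63 = true := by decide +kernel

private theorem moveOK_all0_5 : allFrom (moveOK 0) 315 63 = true := by decide +kernel

theorem moveOK_all0 {c : ℕ} (h : c < 378) : (moveOK 0) c = true := by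
  rcases Nat.lt_or_ge c 63 with h0 | h0
  · exact allFrom_iff _ _ _ moveOK_all0_0 c (by omega) (by omega)
  rcases Nat.lt_or_ge c 126 with h1 | h1
  · exact allFrom_iff _ _ _ moveOK_all0_1 c (by omega) (by omega)
  rcases Nat.lt_or_ge c 189 with h2 | h2
  · exact allFrom_iff _ _ _ moveOK_all0_2 c (by omega) (by omega)
  rcases Nat.lt_or_ge c 252 with h3 | h3
  · exact allFrom_iff _ _ _ moveOK_all0_3 c (by omega) (by omega)
  rcases Nat.lt_or_ge c 315 with h4 | h4
  · exact allFrom_iff _ _ _ moveOK_all0_4 c (by omega) (by omega)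
  exact allFrom_iff _ _ _ moveOK_all0_5 c (by omega) (by omega)

private theorem edgeOK_all0_0 : allFrom (edgeOK 0) 0 42 = true := by decide +kernel

private theorem edgeOK_all0_1 : allFrom (edgeOK 0) 42 42 = true := by decide +kernel

private theorem edgeOK_all0_2 : allFrom (edgeOK 0) 84 42 = true := by decide +kernel

private theorem edgeOK_all0_3 : allFrom (edgeOK 0) 126 42 = true := by decide +kernel

private theorem edgeOK_all0_4 : allFrom (edgeOK 0) 168 42 = true := by decide +kernel

private theorem edgeOK_all0_5 : allFrom (edgeOK 0) 210 42 = true := by decide +kernel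

private theorem edgeOK_all0_6 : allFrom (edgeOK 0) 252 42 = true := by decide +kernel

private theorem edgeOK_all0_7 : allFrom (edgeOK 0) 294 42 = true := by decide +kernel

private theorem edgeOK_all0_8 : allFrom (edgeOK 0) 336 42 = true := by decide +kernel

theorem edgeOK_all0 {c : ℕ} (h : c < 378) : (edgeOK 0) c = true := by
  rcases Nat.lt_or_ge c 42 with h0 | h0
  · exact allFrom_iff _ _ _ edgeOK_all0_0 c (by omega) (by omega)
  rcases Nat.lt_or_ge c 84 with h1 | h1
  · exact allFrom_iff _ _ _ edgeOK_all0_1 c (by omega) (by omega)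
  rcases Nat.lt_or_ge c 126 with h2 | h2
  · exact allFrom_iff _ _ _ edgeOK_all0_2 c (by omega) (by omega)
  rcases Nat.lt_or_ge c 168 with h3 | h3
  · exact allFrom_iff _ _ _ edgeOK_all0_3 c (by omega) (by omega)
  rcases Nat.lt_or_ge c 210 with h4 | h4
  · exact allFrom_iff _ _ _ edgeOK_all0_4 c (by omega) (by omega)
  rcases Nat.lt_or_ge c 252 with h5 | h5
  · exact allFrom_iff _ _ _ edgeOK_all0_5 c (by omega) (by omega)
  rcases Nat.lt_or_ge c 294 with h6 | h6
  · exact allFrom_iff _ _ _ edgeOK_all0_6 c (by omega) (by omega)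
  rcases Nat.lt_or_ge c 336 with h7 | h7
  · exact allFrom_iff _ _ _ edgeOK_all0_7 c (by omega) (by omega)
  exact allFrom_iff _ _ _ edgeOK_all0_8 c (by omega) (by omega)

private theorem moveOK_all1_0 : allFrom (moveOK 1) 0 63 = true := by decide +kernel

private theorem moveOK_all1_1 : allFrom (moveOK 1) 63 63 = true := by decide +kernel

private theorem moveOK_all1_2 : allFrom (moveOK 1) 126 63 = true := by decide +kernel

private theorem moveOK_all1_3 : allFrom (moveOK 1) 189 63 = true := by decide +kernel

private theorem moveOK_all1_4 : allFrom (moveOK 1) 252 63 = true := by decide +kernel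

private theorem moveOK_all1_5 : allFrom (moveOK 1) 315 63 = true := by decide +kernel

theorem moveOK_all1 {c : ℕ} (h : c < 378) : (moveOK 1) c = true := by
  rcases Nat.lt_or_ge c 63 with h0 | h0
  · exact allFrom_iff _ _ _ moveOK_all1_0 c (by omega) (by omega)
  rcases Nat.lt_or_ge c 126 with h1 | h1
  · exact allFrom_iff _ _ _ moveOK_all1_1 c (by omega) (by omega)
  rcases Nat.lt_or_ge c 189 with h2 | h2
  · exact allFrom_iff _ _ _ moveOK_all1_2 c (by omega) (by omega)
  rcases Nat.lt_or_ge c 252 with h3 | h3
  · exact allFrom_iff _ _ _ moveOK_all1_3 c (by omega) (by omega)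
  rcases Nat.lt_or_ge c 315 with h4 | h4
  · exact allFrom_iff _ _ _ moveOK_all1_4 c (by omega) (by omega)
  exact allFrom_iff _ _ _ moveOK_all1_5 c (by omega) (by omega)

private theorem edgeOK_all1_0 : allFrom (edgeOK 1) 0 42 = true := by decide +kernel

private theorem edgeOK_all1_1 : allFrom (edgeOK 1) 42 42 = true := by decide +kernel

private theorem edgeOK_all1_2 : allFrom (edgeOK 1) 84 42 = true := by decide +kernel

private theorem edgeOK_all1_3 : allFrom (edgeOK 1) 126 42 = true := by decide +kernel

private theorem edgeOK_all1_4 : allFrom (edgeOK 1) 168 42 = true := by decide +kernel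

private theorem edgeOK_all1_5 : allFrom (edgeOK 1) 210 42 = true := by decide +kernel

private theorem edgeOK_all1_6 : allFrom (edgeOK 1) 252 42 = true := by decide +kernel

private theorem edgeOK_all1_7 : allFrom (edgeOK 1) 294 42 = true := by decide +kernel

private theorem edgeOK_all1_8 : allFrom (edgeOK 1) 336 42 = true := by decide +kernel

theorem edgeOK_all1 {c : ℕ} (h : c < 378) : (edgeOK 1) c = true := by
  rcases Nat.lt_or_ge c 42 with h0 | h0
  · exact allFrom_iff _ _ _ edgeOK_all1_0 c (by omega) (by omega)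
  rcases Nat.lt_or_ge c 84 with h1 | h1
  · exact allFrom_iff _ _ _ edgeOK_all1_1 c (by omega) (by omega)
  rcases Nat.lt_or_ge c 126 with h2 | h2
  · exact allFrom_iff _ _ _ edgeOK_all1_2 c (by omega) (by omega)
  rcases Nat.lt_or_ge c 168 with h3 | h3
  · exact allFrom_iff _ _ _ edgeOK_all1_3 c (by omega) (by omega)
  rcases Nat.lt_or_ge c 210 with h4 | h4
  · exact allFrom_iff _ _ _ edgeOK_all1_4 c (by omega) (by omega)
  rcases Nat.lt_or_ge c 252 with h5 | h5
  · exact allFrom_iff _ _ _ edgeOK_all1_5 c (by omega) (by omega)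
  rcases Nat.lt_or_ge c 294 with h6 | h6
  · exact allFrom_iff _ _ _ edgeOK_all1_6 c (by omega) (by omega)
  rcases Nat.lt_or_ge c 336 with h7 | h7
  · exact allFrom_iff _ _ _ edgeOK_all1_7 c (by omega) (by omega)
  exact allFrom_iff _ _ _ edgeOK_all1_8 c (by omega) (by omega)

private theorem moveOK_all2_0 : allFrom (moveOK 2) 0 63 = true := by decide +kernel

private theorem moveOK_all2_1 : allFrom (moveOK 2) 63 63 = true := by decide +kernel

private theorem moveOK_all2_2 : allFrom (moveOK 2) 126 63 = true := by decide +kernel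

private theorem moveOK_all2_3 : allFrom (moveOK 2) 189 63 = true := by decide +kernel

private theorem moveOK_all2_4 : allFrom (moveOK 2) 252 63 = true := by decide +kernel

private theorem moveOK_all2_5 : allFrom (moveOK 2) 315 63 = true := by decide +kernel

theorem moveOK_all2 {c : ℕ} (h : c < 378) : (moveOK 2) c = true := by
  rcases Nat.lt_or_ge c 63 with h0 | h0
  · exact allFrom_iff _ _ _ moveOK_all2_0 c (by omega) (by omega)
  rcases Nat.lt_or_ge c 126 with h1 | h1
  · exact allFrom_iff _ _ _ moveOK_all2_1 c (by omega) (by omega)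
  rcases Nat.lt_or_ge c 189 with h2 | h2
  · exact allFrom_iff _ _ _ moveOK_all2_2 c (by omega) (by omega)
  rcases Nat.lt_or_ge c 252 with h3 | h3
  · exact allFrom_iff _ _ _ moveOK_all2_3 c (by omega) (by omega)
  rcases Nat.lt_or_ge c 315 with h4 | h4
  · exact allFrom_iff _ _ _ moveOK_all2_4 c (by omega) (by omega)
  exact allFrom_iff _ _ _ moveOK_all2_5 c (by omega) (by omega)

private theorem edgeOK_all2_0 : allFrom (edgeOK 2) 0 42 = true := by decide +kernel

private theorem edgeOK_all2_1 : allFrom (edgeOK 2) 42 42 = true := by decide +kernel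

private theorem edgeOK_all2_2 : allFrom (edgeOK 2) 84 42 = true := by decide +kernel

private theorem edgeOK_all2_3 : allFrom (edgeOK 2) 126 42 = true := by decide +kernel

private theorem edgeOK_all2_4 : allFrom (edgeOK 2) 168 42 = true := by decide +kernel

private theorem edgeOK_all2_5 : allFrom (edgeOK 2) 210 42 = true := by decide +kernel

private theorem edgeOK_all2_6 : allFrom (edgeOK 2) 252 42 = true := by decide +kernel

private theorem edgeOK_all2_7 : allFrom (edgeOK 2) 294 42 = true := by decide +kernel

private theorem edgeOK_all2_8 : allFrom (edgeOK 2) 336 42 = true := by decide +kernel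

theorem edgeOK_all2 {c : ℕ} (h : c < 378) : (edgeOK 2) c = true := by
  rcases Nat.lt_or_ge c 42 with h0 | h0
  · exact allFrom_iff _ _ _ edgeOK_all2_0 c (by omega) (by omega)
  rcases Nat.lt_or_ge c 84 with h1 | h1
  · exact allFrom_iff _ _ _ edgeOK_all2_1 c (by omega) (by omega)
  rcases Nat.lt_or_ge c 126 with h2 | h2
  · exact allFrom_iff _ _ _ edgeOK_all2_2 c (by omega) (by omega)
  rcases Nat.lt_or_ge c 168 with h3 | h3
  · exact allFrom_iff _ _ _ edgeOK_all2_3 c (by omega) (by omega)
  rcases Nat.lt_or_ge c 210 with h4 | h4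
  · exact allFrom_iff _ _ _ edgeOK_all2_4 c (by omega) (by omega)
  rcases Nat.lt_or_ge c 252 with h5 | h5
  · exact allFrom_iff _ _ _ edgeOK_all2_5 c (by omega) (by omega)
  rcases Nat.lt_or_ge c 294 with h6 | h6
  · exact allFrom_iff _ _ _ edgeOK_all2_6 c (by omega) (by omega)
  rcases Nat.lt_or_ge c 336 with h7 | h7
  · exact allFrom_iff _ _ _ edgeOK_all2_7 c (by omega) (by omega)
  exact allFrom_iff _ _ _ edgeOK_all2_8 c (by omega) (by omega)

private theorem moveOK_all3_0 : allFrom (moveOK 3) 0 63 = true := by decide +kernel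

private theorem moveOK_all3_1 : allFrom (moveOK 3) 63 63 = true := by decide +kernel

private theorem moveOK_all3_2 : allFrom (moveOK 3) 126 63 = true := by decide +kernel

private theorem moveOK_all3_3 : allFrom (moveOK 3) 189 63 = true := by decide +kernel

private theorem moveOK_all3_4 : allFrom (moveOK 3) 252 63 = true := by decide +kernel

private theorem moveOK_all3_5 : allFrom (moveOK 3) 315 63 = true := by decide +kernel

theorem moveOK_all3 {c : ℕ} (h : c < 378) : (moveOK 3) c = true := by
  rcases Nat.lt_or_ge c 63 with h0 | h0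
  · exact allFrom_iff _ _ _ moveOK_all3_0 c (by omega) (by omega)
  rcases Nat.lt_or_ge c 126 with h1 | h1
  · exact allFrom_iff _ _ _ moveOK_all3_1 c (by omega) (by omega)
  rcases Nat.lt_or_ge c 189 with h2 | h2
  · exact allFrom_iff _ _ _ moveOK_all3_2 c (by omega) (by omega)
  rcases Nat.lt_or_ge c 252 with h3 | h3
  · exact allFrom_iff _ _ _ moveOK_all3_3 c (by omega) (by omega)
  rcases Nat.lt_or_ge c 315 with h4 | h4
  · exact allFrom_iff _ _ _ moveOK_all3_4 c (by omega) (by omega)
  exact allFrom_iff _ _ _ moveOK_all3_5 c (by omega) (by omega)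

private theorem edgeOK_all3_0 : allFrom (edgeOK 3) 0 42 = true := by decide +kernel

private theorem edgeOK_all3_1 : allFrom (edgeOK 3) 42 42 = true := by decide +kernel

private theorem edgeOK_all3_2 : allFrom (edgeOK 3) 84 42 = true := by decide +kernel

private theorem edgeOK_all3_3 : allFrom (edgeOK 3) 126 42 = true := by decide +kernel

private theorem edgeOK_all3_4 : allFrom (edgeOK 3) 168 42 = true := by decide +kernel

private theorem edgeOK_all3_5 : allFrom (edgeOK 3) 210 42 = true := by decide +kernel

private theorem edgeOK_all3_6 : allFrom (edgeOK 3) 252 42 = true := by decide +kernel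

private theorem edgeOK_all3_7 : allFrom (edgeOK 3) 294 42 = true := by decide +kernel

private theorem edgeOK_all3_8 : allFrom (edgeOK 3) 336 42 = true := by decide +kernel

theorem edgeOK_all3 {c : ℕ} (h : c < 378) : (edgeOK 3) c = true := by
  rcases Nat.lt_or_ge c 42 with h0 | h0
  · exact allFrom_iff _ _ _ edgeOK_all3_0 c (by omega) (by omega)
  rcases Nat.lt_or_ge c 84 with h1 | h1
  · exact allFrom_iff _ _ _ edgeOK_all3_1 c (by omega) (by omega)
  rcases Nat.lt_or_ge c 126 with h2 | h2
  · exact allFrom_iff _ _ _ edgeOK_all3_2 c (by omega) (by omega)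
  rcases Nat.lt_or_ge c 168 with h3 | h3
  · exact allFrom_iff _ _ _ edgeOK_all3_3 c (by omega) (by omega)
  rcases Nat.lt_or_ge c 210 with h4 | h4
  · exact allFrom_iff _ _ _ edgeOK_all3_4 c (by omega) (by omega)
  rcases Nat.lt_or_ge c 252 with h5 | h5
  · exact allFrom_iff _ _ _ edgeOK_all3_5 c (by omega) (by omega)
  rcases Nat.lt_or_ge c 294 with h6 | h6
  · exact allFrom_iff _ _ _ edgeOK_all3_6 c (by omega) (by omega)
  rcases Nat.lt_or_ge c 336 with h7 | h7
  · exact allFrom_iff _ _ _ edgeOK_all3_7 c (by omega) (by omega)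
  exact allFrom_iff _ _ _ edgeOK_all3_8 c (by omega) (by omega)

private theorem moveOK_all4_0 : allFrom (moveOK 4) 0 63 = true := by decide +kernel

private theorem moveOK_all4_1 : allFrom (moveOK 4) 63 63 = true := by decide +kernel

private theorem moveOK_all4_2 : allFrom (moveOK 4) 126 63 = true := by decide +kernel

private theorem moveOK_all4_3 : allFrom (moveOK 4) 189 63 = true := by decide +kernel

private theorem moveOK_all4_4 : allFrom (moveOK 4) 252 63 = true := by decide +kernel

private theorem moveOK_all4_5 : allFrom (moveOK 4) 315 63 = true := by decide +kernel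

theorem moveOK_all4 {c : ℕ} (h : c < 378) : (moveOK 4) c = true := by
  rcases Nat.lt_or_ge c 63 with h0 | h0
  · exact allFrom_iff _ _ _ moveOK_all4_0 c (by omega) (by omega)
  rcases Nat.lt_or_ge c 126 with h1 | h1
  · exact allFrom_iff _ _ _ moveOK_all4_1 c (by omega) (by omega)
  rcases Nat.lt_or_ge c 189 with h2 | h2
  · exact allFrom_iff _ _ _ moveOK_all4_2 c (by omega) (by omega)
  rcases Nat.lt_or_ge c 252 with h3 | h3
  · exact allFrom_iff _ _ _ moveOK_all4_3 c (by omega) (by omega)
  rcases Nat.lt_or_ge c 315 with h4 | h4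
  · exact allFrom_iff _ _ _ moveOK_all4_4 c (by omega) (by omega)
  exact allFrom_iff _ _ _ moveOK_all4_5 c (by omega) (by omega)

private theorem edgeOK_all4_0 : allFrom (edgeOK 4) 0 42 = true := by decide +kernel

private theorem edgeOK_all4_1 : allFrom (edgeOK 4) 42 42 = true := by decide +kernel

private theorem edgeOK_all4_2 : allFrom (edgeOK 4) 84 42 = true := by decide +kernel

private theorem edgeOK_all4_3 : allFrom (edgeOK 4) 126 42 = true := by decide +kernel

private theorem edgeOK_all4_4 : allFrom (edgeOK 4) 168 42 = true := by decide +kernel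

private theorem edgeOK_all4_5 : allFrom (edgeOK 4) 210 42 = true := by decide +kernel

private theorem edgeOK_all4_6 : allFrom (edgeOK 4) 252 42 = true := by decide +kernel

private theorem edgeOK_all4_7 : allFrom (edgeOK 4) 294 42 = true := by decide +kernel

private theorem edgeOK_all4_8 : allFrom (edgeOK 4) 336 42 = true := by decide +kernel

theorem edgeOK_all4 {c : ℕ} (h : c < 378) : (edgeOK 4) c = true := by
  rcases Nat.lt_or_ge c 42 with h0 | h0
  · exact allFrom_iff _ _ _ edgeOK_all4_0 c (by omega) (by omega)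
  rcases Nat.lt_or_ge c 84 with h1 | h1
  · exact allFrom_iff _ _ _ edgeOK_all4_1 c (by omega) (by omega)
  rcases Nat.lt_or_ge c 126 with h2 | h2
  · exact allFrom_iff _ _ _ edgeOK_all4_2 c (by omega) (by omega)
  rcases Nat.lt_or_ge c 168 with h3 | h3
  · exact allFrom_iff _ _ _ edgeOK_all4_3 c (by omega) (by omega)
  rcases Nat.lt_or_ge c 210 with h4 | h4
  · exact allFrom_iff _ _ _ edgeOK_all4_4 c (by omega) (by omega)
  rcases Nat.lt_or_ge c 252 with h5 | h5
  · exact allFrom_iff _ _ _ edgeOK_all4_5 c (by omega) (by omega)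
  rcases Nat.lt_or_ge c 294 with h6 | h6
  · exact allFrom_iff _ _ _ edgeOK_all4_6 c (by omega) (by omega)
  rcases Nat.lt_or_ge c 336 with h7 | h7
  · exact allFrom_iff _ _ _ edgeOK_all4_7 c (by omega) (by omega)
  exact allFrom_iff _ _ _ edgeOK_all4_8 c (by omega) (by omega)

theorem moveOK_all (k : Fin 5) {c : ℕ} (h : c < 378) : moveOK k c = true := by
  fin_cases k
  exacts [moveOK_all0 h, moveOK_all1 h, moveOK_all2 h, moveOK_all3 h, moveOK_all4 h]

theorem edgeOK_all (k : Fin 5) {c : ℕ} (h : c < 378) : edgeOK k c = true := by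
  fin_cases k
  exacts [edgeOK_all0 h, edgeOK_all1 h, edgeOK_all2 h, edgeOK_all3 h, edgeOK_all4 h]

end Cfsg.Agent.G2ThreeChecks60
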