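import Mathlib
import Cfsg.Agent.Lib.G2ThreeChecks60
import Cfsg.Agent.Lib.EdgeVoltageCover60
import Cfsg.Agent.Lib.StMultSmall
import Cfsg.Agent.Lib.ChevalleyDataG2
import Cfsg.Agent.Lib.SchurMultiplierBasic

/-!
A triple cover of `G₂(3)` from voltages on 378 lines of the adjoint module.
-/

set_option autoImplicit false
set_option linter.unusedSectionVars false
set_option backward.isDefEq.respectTransparency false
set_option maxHeartbeats 1600000
set_option maxRecDepth 100000

namespace Cfsg.Agent.G2ThreeCover60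

open Matrix
open Cfsg.Lie Cfsg.Agent.ChevalleyCert Cfsg.Agent.ChevalleyRoots Cfsg.Agent.ChevalleyCore
open Cfsg.Agent.ChevalleyTorus Cfsg.Agent.StBasic
open Cfsg.Agent.G2ThreeData60 Cfsg.Agent.G2ThreeChecks60

universe u

/-- the coordinate index set -/
abbrev I := chevG2.Idx

/-- numbering of the coordinates -/
def pos : I ≃ Fin 14 := finSumFinEquiv

/-- the roots of the five generators -/
def gr : Fin 5 → Fin chevG2.nroots := ![⟨7, by decide⟩, ⟨4, by decide⟩, ⟨6, by decide⟩, ⟨5, by decide⟩, ⟨11, by decide⟩]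

/-- tabulated generator -/
def tabM (k : Fin 5) : Matrix I I (ZMod 3) := fun x y => (mat k (14 * (pos x).1 + (pos y).1) : ℕ)

theorem tab_eq : ∀ (k : Fin 5) (x y : I), tabM k x y = chevG2.xMat (ZMod 3) (gr k) 1 x y := by
  decide +kernel

/-- a vector from its code -/
def vec (v : ℕ) : I → ZMod 3 := fun x => (dig v (pos x).1 : ℕ)

/-- a code from a vector -/
def codeOf (w : I → ZMod 3) : ℕ :=
  sumUp (fun j => if h : j < 14 then (w (pos.symm ⟨j, h⟩)).val <<< (2 * j) else 0) 14

theorem sumUp_congr {f g : ℕ → ℕ} : ∀ n, (∀ j < n, f j = g j) → sumUp f n = sumUp g n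
  | 0, _ => rfl
  | n + 1, h => by rw [sumUp, sumUp, h n (by omega), sumUp_congr n fun j hj => h j (by omega)]

theorem sumUp_eq (f : ℕ → ℕ) : ∀ n, sumUp f n = ∑ j ∈ Finset.range n, f j
  | 0 => rfl
  | n + 1 => by rw [sumUp, sumUp_eq f n, Finset.sum_range_succ]

theorem cast_sumUp (f : ℕ → ℕ) (n : ℕ) :
    ((sumUp f n % 3 : ℕ) : ZMod 3) = ∑ j : Fin n, ((f j.1 : ℕ) : ZMod 3) := by
  rw [ZMod.natCast_mod, sumUp_eq, Nat.cast_sum]
  exact (Fin.sum_univ_eq_sum_range (fun j => ((f j : ℕ) : ZMod 3)) n).symm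

theorem tab_mulVec (k : Fin 5) (v : ℕ) (x : I) : (tabM k *ᵥ vec v) x = (dot k v (pos x).1 : ℕ) := by
  have h := cast_sumUp (fun j => mat k (14 * (pos x).1 + j) * dig v j) 14
  refine Eq.trans ?_ h.symm
  rw [← pos.sum_comp fun j : Fin 14 => ((mat k (14 * (pos x).1 + j.1) * dig v j.1 : ℕ) : ZMod 3)]
  show ∑ y, tabM k x y * vec v y = _
  refine Finset.sum_congr rfl fun y _ => ?_
  rw [Nat.cast_mul]
  rfl

theorem pt_facts {c : ℕ} (h : c < 378) :
    code c < negCode (code c) ∧ (∀ j < 14, dig (code c) j < 3) ∧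
      sumUp (fun j => dig (code c) j <<< (2 * j)) 14 = code c ∧
      (c + 1 < 378 → code c < code (c + 1)) ∧ par c < 378 ∧ par (par c) = root ∧
      (c = root ∨ slot (par c) c ≠ 0 ∨ slot c (par c) ≠ 0) := by
  have := ptOK_all h
  simp only [ptOK, Bool.and_eq_true, Bool.or_eq_true, beq_iff_eq, Bool.not_eq_true', beq_eq_false_iff_ne] at this
  obtain ⟨⟨⟨⟨⟨⟨h1, h2⟩, h3⟩, h4⟩, h5⟩, h6⟩, h7⟩ := this
  refine ⟨by simpa [Nat.blt] using h1, fun j hj => ?_, h3, fun hc => ?_, by simpa [Nat.blt] using h5, h6, ?_⟩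
  · simpa [Nat.blt] using allFrom_iff _ _ _ h2 j (by omega) (by omega)
  · rcases h4 with h4 | h4
    · omega
    · simpa [Nat.blt] using h4
  · rcases h7 with (h | h) | h
    exacts [Or.inl h, Or.inr (Or.inl h), Or.inr (Or.inr h)]

theorem codeOf_vec {c : ℕ} (h : c < 378) :
    codeOf (vec (code c)) = code c ∧ codeOf (-vec (code c)) = negCode (code c) := by
  obtain ⟨-, h2, h3, -⟩ := pt_facts h
  constructor
  · conv_rhs => rw [← h3]
    refine sumUp_congr 14 fun j hj => ?_
    rw [dif_pos hj, vec, Equiv.apply_symm_apply, ZMod.val_natCast, Nat.mod_eq_of_lt (h2 j hj)]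
  · refine sumUp_congr 14 fun j hj => ?_
    have hd : ∀ d < 3, (-((d : ℕ) : ZMod 3)).val = (3 - d) % 3 := by decide
    rw [dif_pos hj, Pi.neg_apply, vec, Equiv.apply_symm_apply, hd _ (h2 j hj)]

theorem code_strictMono {c d : ℕ} (hcd : c < d) (hd : d < 378) : code c < code d := by
  induction d with
  | zero => omega
  | succ d ih =>
    have := (pt_facts (show d < 378 by omega)).2.2.2.1 hd
    rcases Nat.lt_or_ge c d with h | h
    · exact lt_trans (ih h (by omega)) this
    · rw [show c = d by omega]; exact this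

theorem vec_eq_imp {c d : Fin 378} (h : vec (code c) = vec (code d) ∨ vec (code c) = -vec (code d))
    (h' : vec (code d) = vec (code c) ∨ vec (code d) = -vec (code c)) : c = d := by
  obtain ⟨c1, c2⟩ := codeOf_vec c.2
  obtain ⟨d1, d2⟩ := codeOf_vec d.2
  have hc := (pt_facts c.2).1
  have hd := (pt_facts d.2).1
  have e : code c = code d := by
    rcases h with h | h
    · rw [← c1, h, d1]
    rcases h' with h' | h'
    · rw [← d1, h', c1]
    have e1 : code c = negCode (code d) := by rw [← c1, h, d2]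
    have e2 : code d = negCode (code c) := by rw [← d1, h', c2]
    omega
  rcases lt_trichotomy c.1 d.1 with hl | hl | hl
  · exact absurd e (code_strictMono hl d.2).ne
  · exact Fin.ext hl
  · exact absurd e (code_strictMono hl c.2).ne'

theorem move_facts (k : Fin 5) {c : ℕ} (h : c < 378) :
    nx k c < 378 ∧ pv k c < 378 ∧ pv k (nx k c) = c ∧ nx k (pv k c) = c ∧ vo k c < 3 ∧
      (tabM k *ᵥ vec (code c) = vec (code (nx k c)) ∨ tabM k *ᵥ vec (code c) = -vec (code (nx k c))) := by
  have := moveOK_all k h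
  simp only [moveOK, Bool.and_eq_true, Bool.or_eq_true, beq_iff_eq] at this
  obtain ⟨⟨⟨⟨⟨h1, h2⟩, h3⟩, h4⟩, h5⟩, h6⟩ := this
  have hn : nx k c < 378 := by simpa [Nat.blt] using h1
  refine ⟨hn, by simpa [Nat.blt] using h2, h3, h4, by simpa [Nat.blt] using h5, ?_⟩
  rcases h6 with h6 | h6
  · refine Or.inl (funext fun x => ?_)
    rw [tab_mulVec, vec, beq_iff_eq.1 (allFrom_iff _ _ _ h6 (pos x).1 (by omega) (by omega))]
  · refine Or.inr (funext fun x => ?_)
    have hneg : ∀ d < 3, (((3 - d) % 3 : ℕ) : ZMod 3) = -((d : ℕ) : ZMod 3) := by decide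
    rw [tab_mulVec, Pi.neg_apply, vec, beq_iff_eq.1 (allFrom_iff _ _ _ h6 (pos x).1 (by omega) (by omega)),
      hneg _ ((pt_facts hn).2.1 _ (pos x).2)]

/-- generation by the root elements of the fundamental roots and their negatives over a prime field -/
theorem closure_simple {D : ChevalleyDatum} {C : Cert D} {F : Type*} [Field F] {P : Type*} [Group P]
    (S : Sys C F P) (hG : Gen D) (hprime : ∀ a : F, ∃ k : ℕ, a = k) :
    Subgroup.closure {g : P | ∃ i, i < D.rank ∧ (g = S.x (D.simple i) 1 ∨ g = S.x (D.neg (D.simple i)) 1)} = ⊤ := by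
  set H := Subgroup.closure {g : P | ∃ i, i < D.rank ∧ (g = S.x (D.simple i) 1 ∨ g = S.x (D.neg (D.simple i)) 1)}
  have hpow : ∀ r, r < D.nroots → S.x r 1 ∈ H → ∀ t, S.x r t ∈ H := by
    intro r hr h t
    obtain ⟨k, rfl⟩ := hprime t
    induction k with
    | zero => rw [Nat.cast_zero, x_zero S hr]; exact one_mem _
    | succ k ih => rw [Nat.cast_succ, ← S.x_add r hr]; exact mul_mem ih h
  have hs : ∀ i, i < D.rank → ∀ t, S.x (D.simple i) t ∈ H ∧ S.x (D.neg (D.simple i)) t ∈ H := fun i hi t =>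
    ⟨hpow _ (simple_lt C hi) (Subgroup.subset_closure ⟨i, hi, Or.inl rfl⟩) t,
      hpow _ (C.neg_lt _) (Subgroup.subset_closure ⟨i, hi, Or.inr rfl⟩) t⟩
  have hn : ∀ i, i < D.rank → n S i 1 ∈ H := fun i hi => by
    rw [n]; exact mul_mem (mul_mem (hs i hi _).1 (hs i hi _).2) (hs i hi _).1
  have hall : ∀ r, r < D.nroots → ∀ t, S.x r t ∈ H := by
    refine root_induction C (P := fun r => ∀ t, S.x r t ∈ H) (fun i hi t => (hs i hi t).1) ?_
    intro i r hi hr ih t
    obtain ⟨e, he, h⟩ := StBruhat.nw_conj S hG (l := [i]) (by simpa using hi) hr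
    have h1 := (h (e * t)).1
    rw [← mul_assoc, he, one_mul, show wact (D := D) [i] r = wr D i r from rfl] at h1
    rw [← h1, show StBruhat.nw S [i] = n S i 1 by simp [StBruhat.nw]]
    exact mul_mem (mul_mem (hn i hi) (ih _)) (inv_mem (hn i hi))
  rw [eq_top_iff, ← S.gen, Subgroup.closure_le]
  rintro g ⟨r, hr, t, rfl⟩
  exact hall r hr t

theorem xMat_map {A F : Type*} [Field A] [Field F] (φ : A →+* F) (r : Fin chevG2.nroots) (t : A) :
    chevG2.xMat F r (φ t) = (chevG2.xMat A r t).map φ := by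
  ext row col
  rcases col with i | s <;> rcases row with i' | u <;>
    simp only [ChevalleyDatum.xMat, Matrix.of_apply, Matrix.map_apply] <;>
    split_ifs <;> simp [map_list_sum, List.map_map, Function.comp_def, map_intCast]

variable {F : Type u} [Field F] [Fintype F]

/-- the map from the prime field -/
def cast3 [CharP F 3] : ZMod 3 →+* F := ZMod.castHom (dvd_refl 3) F

/-- the generators as group elements -/
def gen (k : Fin 5) : ↥(chevG2.group F) :=
  ⟨xg ChevalleyDataG2.cert (gr k).1 1, xg_mem_group ChevalleyDataG2.cert _ 1⟩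

theorem gen_val [CharP F 3] (k : Fin 5) :
    ((gen (F := F) k).1 : Matrix I I F) = (tabM k).map (cast3 (F := F)) := by
  show chevG2.x F (gr k).1 1 = _
  rw [ChevalleyDatum.x, dif_pos (gr k).2, Fin.eta, ← map_one (cast3 (F := F)), xMat_map]
  congr 1
  ext x y
  exact (tab_eq k x y).symm

/-- the lines -/
def line [CharP F 3] (c : Fin 378) : Set (I → F) :=
  {cast3 ∘ vec (code c), -(cast3 ∘ vec (code c))}

theorem line_injective [CharP F 3] : Function.Injective (line (F := F)) := by
  intro c d h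
  have inj : ∀ {v w : I → ZMod 3}, (cast3 (F := F)) ∘ v = cast3 ∘ w → v = w := fun h =>
    funext fun x => (cast3 (F := F)).injective (congrFun h x)
  have hneg : ∀ w : I → ZMod 3, -((cast3 (F := F)) ∘ w) = cast3 ∘ (-w) := fun w =>
    funext fun x => (map_neg (cast3 (F := F)) (w x)).symm
  have key : ∀ {a b : Fin 378}, line (F := F) a = line b →
      vec (code a) = vec (code b) ∨ vec (code a) = -vec (code b) := by
    intro a b h
    have : (cast3 (F := F)) ∘ vec (code a) ∈ line (F := F) b := h ▸ Set.mem_insert _ _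
    rcases this with e | e
    · exact Or.inl (inj e)
    · rw [Set.mem_singleton_iff, hneg] at e
      exact Or.inr (inj e)
  exact vec_eq_imp (key h) (key h.symm)

/-- the labelled pairs -/
def Edge (i j : Fin 378) (f : ZMod 3) : Prop := slot i j ≠ 0 ∧ f = ((slot i j + 2 : ℕ) : ZMod 3)

/-- the setup -/
def setup [CharP F 3] : EdgeVoltageCover60.Setup ↥(chevG2.group F) (Set (I → F)) 378 (ZMod 3) where
  act g A := (fun v => (g.1 : Matrix I I F) *ᵥ v) '' A
  act_one A := by simp
  act_mul g h A := by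
    rw [Set.image_image]
    refine Set.image_congr fun v _ => ?_
    rw [Matrix.mulVec_mulVec]
    rfl
  obj := line
  obj_inj := line_injective
  E := Edge
  E_fun h h' := h.2.trans h'.2.symm
  root := ⟨root, by decide⟩
  par c := ⟨par c % 378, Nat.mod_lt _ (by norm_num)⟩
  depth := 2
  par_root c := by
    obtain ⟨-, -, -, -, h5, h6, -⟩ := pt_facts c.2
    refine Fin.ext ?_
    simp only [Function.iterate_succ, Function.iterate_zero, id_eq, Function.comp_apply]
    rw [Nat.mod_eq_of_lt h5, h6]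
    decide
  par_edge c := by
    obtain ⟨-, -, -, -, h5, -, h7⟩ := pt_facts c.2
    rcases h7 with h | h | h
    · exact Or.inl (Fin.ext h)
    · exact Or.inr ⟨_, Or.inl ⟨by show slot (par c.1 % 378) c.1 ≠ 0; rw [Nat.mod_eq_of_lt h5]; exact h, rfl⟩⟩
    · exact Or.inr ⟨_, Or.inr ⟨by show slot c.1 (par c.1 % 378) ≠ 0; rw [Nat.mod_eq_of_lt h5]; exact h, rfl⟩⟩

/-- the point map of a generator -/
def sFun (k : Fin 5) (c : Fin 378) : Fin 378 := ⟨nx k c, (move_facts k c.2).1⟩

/-- its inverse -/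
def pFun (k : Fin 5) (c : Fin 378) : Fin 378 := ⟨pv k c, (move_facts k c.2).2.1⟩

/-- the lift of a generator -/
def lift (k : Fin 5) : Equiv.Perm (Fin 378 × ZMod 3) where
  toFun x := (sFun k x.1, (vo k x.1 : ℕ) + x.2)
  invFun x := (pFun k x.1, -((vo k (pFun k x.1) : ℕ) : ZMod 3) + x.2)
  left_inv x := by
    have : pFun k (sFun k x.1) = x.1 := Fin.ext (move_facts k x.1.2).2.2.1
    refine Prod.ext this ?_
    show -((vo k (pFun k (sFun k x.1)) : ℕ) : ZMod 3) + _ = _
    rw [this, neg_add_cancel_left]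
  right_inv x := by
    have : sFun k (pFun k x.1) = x.1 := Fin.ext (move_facts k x.1.2).2.2.2.1
    exact Prod.ext this (add_neg_cancel_left _ _)

theorem label_eq : ∀ s < 4, ∀ a < 3, ∀ b < 3,
    ((((s + 2 + a + 2 * b) % 3 + 1 + 2 : ℕ)) : ZMod 3) = ((s + 2 : ℕ) : ZMod 3) + (a : ℕ) - (b : ℕ) := by
  decide

theorem lift_mem [CharP F 3] (k : Fin 5) : (gen k, lift k) ∈ EdgeVoltageCover60.cover (setup (F := F)) := by
  refine ⟨sFun k, fun c => (vo k c : ℕ), fun c a => rfl, fun c => ?_, ?_⟩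
  · show (fun v => ((gen (F := F) k).1 : Matrix I I F) *ᵥ v) '' {_, _} = line (sFun k c)
    rw [Set.image_pair, Matrix.mulVec_neg, gen_val]
    have hm : ((tabM k).map (cast3 (F := F))) *ᵥ (cast3 ∘ vec (code c)) = cast3 ∘ (tabM k *ᵥ vec (code c)) :=
      funext fun x => (RingHom.map_mulVec (cast3 (F := F)) (tabM k) (vec (code c)) x).symm
    rw [hm]
    rcases (move_facts k c.2).2.2.2.2.2 with e | e <;> rw [e]
    · rfl
    · rw [show (cast3 (F := F)) ∘ (-vec (code (nx k c))) = -(cast3 ∘ vec (code (nx k c))) from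
        funext fun x => map_neg _ _, neg_neg, Set.pair_comm]
      rfl
  · rintro i j f ⟨hs, rfl⟩
    have h := allFrom_iff _ _ _ (edgeOK_all k i.2) j.1 (by omega) (by omega)
    simp only [Bool.or_eq_true, beq_iff_eq] at h
    have e := h.resolve_left hs
    refine ⟨?_, ?_⟩
    · show slot (nx k i) (nx k j) ≠ 0
      rw [e]; omega
    · show _ = ((slot (nx k i) (nx k j) + 2 : ℕ) : ZMod 3)
      have h4 : slot i.1 j.1 < 4 := by
        have : slot i.1 j.1 ≤ 3 := Nat.and_le_right
        omega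
      rw [e, label_eq _ h4 _ (move_facts k i.2).2.2.2.2.1 _ (move_facts k j.2).2.2.2.2.1]

theorem base_value : ((vo 4 (nx 1 root) : ℕ) : ZMod 3) + (((vo 1 root : ℕ) : ZMod 3) + 0) -
    (((vo 1 (nx 4 root) : ℕ) : ZMod 3) + (((vo 4 root : ℕ) : ZMod 3) + 0)) = 1 := by
  decide +kernel

/-- the triple cover -/
theorem exists_cover (hF : Fintype.card F = 3) :
    ∃ (Γ : Type u) (_ : Group Γ) (_ : Finite Γ) (σ : Γ →* ↥(chevG2.group F)),
      Cfsg.IsStemExtension σ ∧ Nonempty (σ.ker ≃* Multiplicative (ZMod 3)) := by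
  classical
  haveI : Fact (Nat.Prime 3) := ⟨by norm_num⟩
  haveI : CharP F 3 := charP_of_card_eq_prime_pow (f := 1) (by rw [hF]; norm_num)
  obtain ⟨h3, h2, hprime⟩ := StMultSmall.three_data F hF
  set C := ChevalleyDataG2.cert
  set S := StGroup.sysSt C F
  set q := StCentral.proj C F (StGroup.relsAB_subset (D := chevG2) F) subset_rfl
  have hq : Function.Surjective q := StCentral.proj_surjective C F _ _
  have hqx : ∀ k : Fin 5, q (S.x (gr k).1 1) = gen k := fun k => Subtype.ext (S.θ_x _ (gr k).2 1)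
  -- generation
  have hgen : Subgroup.closure (Set.range (gen (F := F))) = ⊤ := by
    rw [eq_top_iff, ← Subgroup.map_top_of_surjective q hq, ← closure_simple S StGen.gen_G2 hprime,
      MonoidHom.map_closure, Subgroup.closure_le]
    rintro _ ⟨g, ⟨i, hi, hg⟩, rfl⟩
    have hi' : i < 2 := hi
    rcases hg with rfl | rfl <;> interval_cases i
    · exact Subgroup.subset_closure ⟨0, (hqx 0).symm⟩
    · exact Subgroup.subset_closure ⟨2, (hqx 2).symm⟩
    · exact Subgroup.subset_closure ⟨1, (hqx 1).symm⟩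
    · exact Subgroup.subset_closure ⟨3, (hqx 3).symm⟩
  have hsurj := EdgeVoltageCover60.proj_surjective (setup (F := F)) lift lift_mem hgen
  -- a commutator
  have hcomm : gen (F := F) 4 * gen 1 = gen 1 * gen 4 := by
    rw [← hqx, ← hqx, ← map_mul, ← map_mul]
    exact congrArg q (StThree.comm_of_zeroWord (S := S) C h3 (by decide) (by decide +kernel) 1 1).eq
  have hm := EdgeVoltageCover60.shift_mem_commutator (setup (F := F)) (x := (gen 4, lift 4))
    (y := (gen 1, lift 1)) (lift_mem 4) (lift_mem 1) hcomm ⟨root, by decide⟩ 0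
  have hval : ((lift 4 * lift 1) (⟨root, by decide⟩, 0)).2 - ((lift 1 * lift 4) (⟨root, by decide⟩, 0)).2 =
      (1 : ZMod 3) := by
    show ((vo 4 (nx 1 root) : ℕ) : ZMod 3) + (((vo 1 root : ℕ) : ZMod 3) + 0) -
      (((vo 1 (nx 4 root) : ℕ) : ZMod 3) + (((vo 4 root : ℕ) : ZMod 3) + 0)) = 1
    exact base_value
  simp only [hval] at hm
  have hall : ∀ b, EdgeVoltageCover60.shiftHom (setup (F := F)) b ∈
      commutator (EdgeVoltageCover60.cover (setup (F := F))) := by
    intro b
    have hb : b = Multiplicative.ofAdd (1 : ZMod 3) ^ b.toAdd.val := by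
      rw [← ofAdd_nsmul, nsmul_eq_mul, mul_one, ZMod.natCast_zmod_val]; rfl
    rw [hb, map_pow]
    exact pow_mem hm _
  have hst := EdgeVoltageCover60.isStemExtension (setup (F := F)) hsurj hall
  refine ⟨_, inferInstance, inferInstance, EdgeVoltageCover60.proj (setup (F := F)), hst, ⟨?_⟩⟩
  exact ((MonoidHom.ofInjective (EdgeVoltageCover60.shiftHom_injective (setup (F := F)) 0)).trans
    (MulEquiv.subgroupCongr (EdgeVoltageCover60.shiftHom_range (setup (F := F))))).symm

end Cfsg.Agent.G2ThreeCover60
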