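import Cfsg.Agent.Lib.GL23CentOrder

/-!
Groups with an involution centraliser `GL(2,3)`: simplicity, and the local facts at the primes
thirteen and three that are needed to find the projective plane.
-/

set_option autoImplicit false
set_option synthInstance.maxSize 4096

namespace Cfsg.Agent.GL23Recog95

open BinaryOctahedral GL23CentModel GL23CentOrder

universe u

/-- an element of order three -/
abbrev xC : Coord := (1, 1, 0)

/-- an involution inverting it -/
abbrev uC : Coord := (1, 0, 1)

/-- the product of the two involutions -/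
abbrev wC : Coord := mC tC uC

theorem x_facts : powC xC 3 = oneC ∧ xC ≠ oneC ∧ cjC uC xC = invC xC ∧ cjC wC xC = invC xC := by
  decide +kernel

theorem w_facts : IsInv wC ∧ mC tC uC = mC uC tC ∧ cjC tC xC = xC := by decide +kernel

theorem conj_x : ∀ c, powC c 3 = oneC → c ≠ oneC → ∃ g, cjC g xC = c := by decide +kernel

theorem inv_cent_x : ∀ c, IsInv c → mC c xC = mC xC c → c = tC := by decide +kernel

abbrev pX (c : Coord) : Prop := mC c xC = mC xC c

theorem closed_pX : Closed pX := ⟨by decide +kernel, by decide +kernel, by decide +kernel⟩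

theorem card_pX : (Finset.univ.filter pX).card = 6 := by decide +kernel

/-- the four-group -/
abbrev pV (c : Coord) : Prop := c = oneC ∨ c = tC ∨ c = uC ∨ c = wC

theorem closed_pV : Closed pV := ⟨by decide +kernel, by decide +kernel, by decide +kernel⟩

theorem card_pV : (Finset.univ.filter pV).card = 4 := by decide +kernel

theorem no_odd_normal : ∀ c, powC c 3 = oneC → c ≠ oneC →
    ∃ g, powC (mC c (cjC g c)) 3 ≠ oneC := by decide +kernel

/-- the involutions of the coordinates -/
abbrev invSet : Finset Coord := Finset.univ.filter IsInv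

theorem gen_inv : ∀ x, x = oneC ∨ IsInv x ∨ (∃ a ∈ invSet, IsInv (mC a x)) ∨
    ∃ a ∈ invSet, ∃ b ∈ invSet, IsInv (mC b (mC a x)) := by decide +kernel

theorem nilpotent_no_fusion (Q : Type u) [Group Q] [Group.IsNilpotent Q] :
    ∀ a b : Q, IsConj a b → IsConj a (a * b) → a = 1 := by
  apply @Group.nilpotent_center_quotient_ind _ Q _ _ <;> clear! Q
  · intro G _ _ a b _ _
    exact Subsingleton.elim _ _
  · intro G _ _ ih a b h1 h2
    have h : (a : G ⧸ Subgroup.center G) = 1 := by
      refine ih _ (b : G ⧸ Subgroup.center G) ?_ ?_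
      · exact MonoidHom.map_isConj (QuotientGroup.mk' _) h1
      · exact MonoidHom.map_isConj (QuotientGroup.mk' _) h2
    rw [QuotientGroup.eq_one_iff] at h
    obtain ⟨c, hc⟩ := isConj_iff.1 h1
    obtain ⟨d, hd⟩ := isConj_iff.1 h2
    rw [Subgroup.mem_center_iff.1 h c, mul_assoc, mul_inv_cancel, mul_one] at hc
    rw [Subgroup.mem_center_iff.1 h d, mul_assoc, mul_inv_cancel, mul_one, ← hc] at hd
    exact left_eq_mul.1 hd

theorem conj_pow_eq {G : Type u} [Group G] {g a b : G} (h : g * a * g⁻¹ = b) (n : ℕ) :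
    g * a ^ n * g⁻¹ = b ^ n := by rw [← conj_pow, h]

/-- The subgroup of elements commuting with `a`, of conjugate elements, have equal order. -/
theorem card_cent_conj {G : Type u} [Group G] (g a : G) :
    Nat.card (Subgroup.centralizer ({g * a * g⁻¹} : Set G)) =
      Nat.card (Subgroup.centralizer ({a} : Set G)) := by
  refine (Nat.card_congr ((MulAut.conj g).toEquiv.subtypeEquiv fun y => ?_)).symm
  show y ∈ Subgroup.centralizer ({a} : Set G) ↔
    g * y * g⁻¹ ∈ Subgroup.centralizer ({g * a * g⁻¹} : Set G)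
  rw [Subgroup.mem_centralizer_singleton_iff, Subgroup.mem_centralizer_singleton_iff]
  exact (Commute.conj_iff g).symm

/-- An involution normalising a finite subgroup inverts it or fixes a nontrivial element of it. -/
theorem inverts_or_fixes {G : Type u} [Group G] [Finite G] {H : Subgroup G} {w : G}
    (hw : w * w = 1) (hn : ∀ h ∈ H, w * h * w⁻¹ ∈ H) :
    (∀ h ∈ H, w * h * w⁻¹ = h⁻¹) ∨ ∃ h ∈ H, h ≠ 1 ∧ Commute w h := by
  by_contra hh
  rw [not_or] at hh
  obtain ⟨h1, h2⟩ := hh
  refine h1 fun h hh => ?_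
  let φ : H →* H :=
    { toFun := fun a => ⟨w * a * w⁻¹, hn a a.2⟩
      map_one' := Subtype.ext (by simp)
      map_mul' := fun a b => Subtype.ext (by simp [mul_assoc]) }
  have hinv : w⁻¹ = w := inv_eq_of_mul_eq_one_right hw
  have hφ : MonoidHom.FixedPointFree φ := fun a ha => by
    by_contra hne
    refine h2 ⟨a, a.2, fun e => hne (Subtype.ext e), ?_⟩
    have e : w * (a : G) * w⁻¹ = a := congrArg Subtype.val ha
    exact mul_inv_eq_iff_eq_mul.1 e
  have h2' : Function.Involutive φ := fun a => Subtype.ext (by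
    show w * (w * (a : G) * w⁻¹) * w⁻¹ = a
    rw [hinv, ← mul_assoc, ← mul_assoc, hw, one_mul, mul_assoc, hw, mul_one])
  exact congrArg Subtype.val (congrFun (hφ.coe_eq_inv_of_involutive h2') ⟨h, hh⟩)

variable {G : Type u} [Group G] [Finite G] {f : Coord → G}

theorem no_index_two (hO : Cfsg.pResidual 2 G = ⊤) : ∀ H : Subgroup G, H.index ≠ 2 := by
  intro H hH
  have hle : Cfsg.pResidual 2 G ≤ H := by
    refine (Subgroup.closure_le H).2 fun g hg => ?_
    have hodd : Odd (orderOf g) := by
      rw [← Nat.coprime_two_right]; exact hg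
    obtain ⟨k, hk⟩ := hodd
    have hg' : g = ((g ^ 2) ^ (k + 1)) := by
      rw [← pow_mul, show 2 * (k + 1) = orderOf g + 1 by omega, pow_succ, pow_orderOf_eq_one,
        one_mul]
    rw [hg']
    exact H.pow_mem (Subgroup.sq_mem_of_index_two hH g) _
  rw [hO, top_le_iff] at hle
  rw [hle, Subgroup.index_top] at hH
  norm_num at hH

section Simple

variable (hs : Setup f) (hconj : ∀ u v : G, orderOf u = 2 → orderOf v = 2 → IsConj u v)

include hs hconj in
theorem cent_fpf {N : Subgroup G} [N.Normal] (hodd : Odd (Nat.card N)) {w : G}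
    (hw : orderOf w = 2) : ∀ h ∈ N, Commute w h → h = 1 := by
  intro h hh hc
  obtain ⟨g, hg⟩ := isConj_iff.1 (hconj w (f tC) hw hs.ot)
  have hmem : g * h * g⁻¹ ∈ N := ‹N.Normal›.conj_mem h hh g
  have hc' : Commute (g * h * g⁻¹) (f tC) := by
    rw [← hg]; exact (Commute.conj_iff g).2 hc.symm
  obtain ⟨c, hcc⟩ := hs.cent _ hc'
  by_contra hne
  have hdvd : ∀ y ∈ N, orderOf y ∣ Nat.card N := fun y hy => by
    have := orderOf_dvd_natCard (⟨y, hy⟩ : N)
    rwa [← Subgroup.orderOf_coe] at this
  have h3 : ∀ d : Coord, f d ∈ N → powC d 3 = oneC := by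
    intro d hd
    refine hs.inj ?_
    rw [hs.f_pow, hs.f_one, ← orderOf_dvd_iff_pow_eq_one]
    have h48 : orderOf (f d) ∣ 48 := by
      rw [← hs.card_centralizer]
      have := orderOf_dvd_natCard (⟨f d, (hs.mem_cent_iff _).2 ⟨d, rfl⟩⟩ :
        Subgroup.centralizer ({f tC} : Set G))
      rwa [← Subgroup.orderOf_coe] at this
    have hcop : Nat.Coprime (orderOf (f d)) 16 :=
      Nat.Coprime.pow_right 4 (Nat.coprime_two_right.2 (Odd.of_dvd_nat hodd (hdvd _ hd)))
    exact hcop.dvd_of_dvd_mul_left (show orderOf (f d) ∣ 16 * 3 from h48)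
  rw [← hcc] at hmem
  have hc1 : c ≠ oneC := fun e => hne (by
    rw [e, hs.f_one] at hcc
    exact conj_eq_one_iff.1 hcc.symm)
  obtain ⟨k, hk⟩ := no_odd_normal c (h3 c hmem) hc1
  refine hk (h3 _ ?_)
  rw [hs.mul, hs.f_cj]
  exact N.mul_mem hmem (‹N.Normal›.conj_mem _ hmem _)

include hs hconj in
theorem isSimple : IsSimpleGroup G := by
  haveI : Nontrivial G := ⟨⟨f tC, f oneC, fun e => GL23CentModel.one_ne_t (hs.inj e).symm⟩⟩
  refine ⟨fun N hN => or_iff_not_imp_left.2 fun hbot => ?_⟩
  haveI := hN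
  have hu : orderOf (f uC) = 2 := (hs.isInv_iff _).2 isInv_u
  have hw : orderOf (f wC) = 2 := (hs.isInv_iff _).2 w_facts.1
  rcases Nat.even_or_odd (Nat.card N) with heven | hodd
  swap
  · exfalso
    apply hbot
    rw [Subgroup.eq_bot_iff_forall]
    intro n hn
    have key : ∀ w : G, orderOf w = 2 → ∀ h ∈ N, w * h * w⁻¹ = h⁻¹ := by
      intro w hw
      rcases inverts_or_fixes (H := N) (show w * w = 1 by
          rw [← pow_two, ← hw, pow_orderOf_eq_one]) (fun h hh => hN.conj_mem h hh w) with h | h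
      · exact h
      · obtain ⟨h, hh, h1, hc⟩ := h
        exact absurd (cent_fpf hs hconj hodd hw h hh hc) h1
    have e1 := key _ hw n hn
    have e2 : f tC * (f uC * n * (f uC)⁻¹) * (f tC)⁻¹ = n := by
      rw [key _ hu n hn, key _ hs.ot _ (N.inv_mem hn), inv_inv]
    rw [hs.mul, mul_inv_rev, ← mul_assoc] at e1
    simp only [mul_assoc] at e1 e2
    rw [e2] at e1
    have hsq : n * n = 1 := by rw [mul_eq_one_iff_eq_inv]; exact e1
    have hcop : Nat.Coprime (Nat.card N) 2 := Nat.coprime_two_right.2 hodd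
    have hd2 : orderOf (⟨n, hn⟩ : N) ∣ 2 := orderOf_dvd_of_pow_eq_one
      (Subtype.ext (by simpa [pow_two] using hsq))
    have hd : orderOf (⟨n, hn⟩ : N) ∣ Nat.card N := orderOf_dvd_natCard _
    have := Nat.eq_one_of_dvd_coprimes hcop hd hd2
    exact congrArg Subtype.val (orderOf_eq_one_iff.1 this)
  · haveI : Fact (Nat.Prime 2) := ⟨Nat.prime_two⟩
    obtain ⟨v, hv⟩ := exists_prime_orderOf_dvd_card' 2 (even_iff_two_dvd.1 heven)
    have hinv : ∀ y : G, orderOf y = 2 → y ∈ N := by
      intro y hy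
      obtain ⟨g, hg⟩ := isConj_iff.1 (hconj v y (by rwa [Subgroup.orderOf_coe]) hy)
      rw [← hg]
      exact hN.conj_mem _ v.2 g
    have hall : ∀ x, f x ∈ N := by
      intro x
      have hI : ∀ a, IsInv a → f a ∈ N := fun a ha => hinv _ ((hs.isInv_iff a).2 ha)
      rcases gen_inv x with h | h | ⟨a, ha, h⟩ | ⟨a, ha, b, hb, h⟩
      · rw [h, hs.f_one]; exact N.one_mem
      · exact hI _ h
      · have h1 := hI _ h
        rw [hs.mul] at h1
        exact (N.mul_mem_cancel_left (hI a (Finset.mem_filter.1 ha).2)).1 h1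
      · have h1 := hI _ h
        rw [hs.mul, hs.mul] at h1
        exact (N.mul_mem_cancel_left (hI a (Finset.mem_filter.1 ha).2)).1
          ((N.mul_mem_cancel_left (hI b (Finset.mem_filter.1 hb).2)).1 h1)
    obtain ⟨T, hT⟩ := exists_sylow hs
    have hTN : (T : Subgroup G) ≤ N := by
      rw [hT]; rintro _ ⟨x, -, rfl⟩; exact hall x
    have hsup := Sylow.normalizer_sup_eq_top' T hTN
    rw [← hsup, eq_comm, sup_eq_right]
    intro g hg
    suffices hcg : Commute g (f tC) by
      obtain ⟨x, rfl⟩ := hs.cent g hcg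
      exact hall x
    have htT : f tC ∈ (T : Subgroup G) := by rw [hT]; exact ⟨tC, by decide +kernel, rfl⟩
    have hmem : g * f tC * g⁻¹ ∈ (T : Subgroup G) := (Subgroup.mem_normalizer_iff.1 hg _).1 htT
    rw [hT] at hmem
    obtain ⟨d, -, hd⟩ := hmem
    have hcent : ∀ y, pSD y → mC d y = mC y d := by
      intro y hy
      refine hs.inj ?_
      rw [hs.mul, hs.mul, hd]
      have hy' : g⁻¹ * f y * g ∈ (T : Subgroup G) :=
        (Subgroup.mem_normalizer_iff''.1 hg _).1 (by rw [hT]; exact ⟨y, hy, rfl⟩)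
      rw [hT] at hy'
      obtain ⟨z, -, hz⟩ := hy'
      have := (Commute.conj_iff g).2 (hs.commute_t z).symm
      rw [hz, ← mul_assoc g, ← mul_assoc g, mul_inv_cancel, one_mul, mul_assoc (f y),
        mul_inv_cancel, mul_one] at this
      exact this.eq
    rcases centre_sylow d hcent with rfl | rfl
    · rw [hs.f_one] at hd
      exact absurd (conj_eq_one_iff.1 hd.symm) (Cfsg.Agent.S3279.inv_ne_one hs.ot)
    · exact mul_inv_eq_iff_eq_mul.1 hd.symm

end Simple

end Cfsg.Agent.GL23Recog95
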