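import Cfsg.Agent.Lib.GL23Recog95Base

/-!
The order 5616 case: the Sylow subgroups for thirteen and three, and two subgroups of index 13.
-/

set_option autoImplicit false
set_option synthInstance.maxSize 4096

namespace Cfsg.Agent.GL23Recog95

open BinaryOctahedral GL23CentModel GL23CentOrder

universe u

variable {G : Type u} [Group G] [Finite G]

theorem mem_norm {H : Subgroup G} {g : G} (h : ∀ x ∈ H, g * x * g⁻¹ ∈ H) :
    g ∈ Subgroup.normalizer (H : Set G) := by
  have heq : H.map (MulAut.conj g).toMonoidHom = H := by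
    refine Subgroup.eq_of_le_of_card_ge ?_ ?_
    · rintro _ ⟨x, hx, rfl⟩; exact h x hx
    · exact (Subgroup.card_map_of_injective (MulAut.conj g).injective).ge
  rw [Subgroup.mem_normalizer_iff]
  intro x
  constructor
  · exact h x
  · intro hx
    rw [← heq] at hx
    obtain ⟨y, hy, e⟩ := hx
    have : g * y * g⁻¹ = g * x * g⁻¹ := e
    exact (mul_left_cancel (mul_right_cancel this)) ▸ hy

theorem mem_norm_closure {S : Set G} {g : G}
    (h : ∀ x ∈ S, g * x * g⁻¹ ∈ Subgroup.closure S) :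
    g ∈ Subgroup.normalizer (Subgroup.closure S : Set G) := by
  refine mem_norm fun x hx => ?_
  induction hx using Subgroup.closure_induction with
  | mem x hx => exact h x hx
  | one => simp
  | mul a b _ _ ha hb =>
    rw [show g * (a * b) * g⁻¹ = (g * a * g⁻¹) * (g * b * g⁻¹) by group]
    exact mul_mem ha hb
  | inv a _ ha =>
    rw [show g * a⁻¹ * g⁻¹ = (g * a * g⁻¹)⁻¹ by group]
    exact inv_mem ha

theorem normal_in_of_card {P E : Subgroup G} (hle : E ≤ P) (hP : Nat.card P = 27)
    (hE : Nat.card E = 9) : ∀ p ∈ P, ∀ x ∈ E, p * x * p⁻¹ ∈ E := by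
  intro p hp x hx
  have hidx : (E.subgroupOf P).index = 3 := by
    have h := (E.subgroupOf P).card_mul_index
    rw [Nat.card_congr (Subgroup.subgroupOfEquivOfLe hle).toEquiv, hE, hP] at h
    omega
  have hmin : (Nat.card P).minFac = 3 := by rw [hP]; norm_num
  have hn : (E.subgroupOf P).Normal :=
    Subgroup.normal_of_index_eq_minFac_card (by rw [hidx, hmin])
  exact hn.conj_mem ⟨x, hle hx⟩ hx ⟨p, hp⟩

/-- Two commuting elements of order three, neither a power of the other, give order nine. -/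
theorem card_pair {a b : G} (ha : orderOf a = 3) (hb : orderOf b = 3) (hc : Commute a b)
    (hne : b ∉ Subgroup.zpowers a) :
    Nat.card (Subgroup.closure ({a, b} : Set G)) = 9 ∧
      ∀ x ∈ Subgroup.closure ({a, b} : Set G), ∃ i < 3, ∃ j < 3, x = a ^ i * b ^ j := by
  haveI : Fact (Nat.Prime 3) := ⟨Nat.prime_three⟩
  let A := Subgroup.zpowers a
  let B := Subgroup.zpowers b
  have hcom : ∀ (x : A) (y : B), Commute (A.subtype x) (B.subtype y) := by
    rintro ⟨_, i, rfl⟩ ⟨_, j, rfl⟩
    exact hc.zpow_zpow i j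
  let φ : A × B →* G := A.subtype.noncommCoprod B.subtype hcom
  have hdisj : Disjoint A B := by
    rw [disjoint_iff]
    by_contra h
    have hBcard : Nat.card B = 3 := by rw [Nat.card_zpowers, hb]
    have hdvd : Nat.card ↥(A ⊓ B) ∣ 3 := hBcard ▸ Subgroup.card_dvd_of_le inf_le_right
    rcases (Nat.dvd_prime Nat.prime_three).1 hdvd with h1 | h1
    · exact h (Subgroup.eq_bot_of_card_eq _ h1)
    · have : A ⊓ B = B := Subgroup.eq_of_le_of_card_ge inf_le_right (by rw [h1, hBcard])
      exact hne ((this.ge (Subgroup.mem_zpowers b)).1)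
  have hinj : Function.Injective φ := by
    refine (MonoidHom.noncommCoprod_injective _ _ hcom).2 ⟨A.subtype_injective, B.subtype_injective, ?_⟩
    rw [A.range_subtype, B.range_subtype]
    exact hdisj
  have hrange : φ.range = Subgroup.closure ({a, b} : Set G) := by
    rw [MonoidHom.noncommCoprod_range, A.range_subtype, B.range_subtype,
      Set.insert_eq, Subgroup.closure_union, ← Subgroup.zpowers_eq_closure,
      ← Subgroup.zpowers_eq_closure]
  constructor
  · rw [← hrange, ← Nat.card_congr (MonoidHom.ofInjective hinj).toEquiv, Nat.card_prod,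
      Nat.card_zpowers, Nat.card_zpowers, ha, hb]
  · intro x hx
    rw [← hrange] at hx
    obtain ⟨⟨⟨y, hy⟩, ⟨z, hz⟩⟩, rfl⟩ := hx
    obtain ⟨i, hi, hie⟩ : ∃ i < orderOf a, a ^ i = y := by
      obtain ⟨n, rfl⟩ := mem_powers_iff_mem_zpowers.2 hy
      exact ⟨n % orderOf a, Nat.mod_lt _ (orderOf_pos a), pow_mod_orderOf a n⟩
    obtain ⟨j, hj, hje⟩ : ∃ j < orderOf b, b ^ j = z := by
      obtain ⟨n, rfl⟩ := mem_powers_iff_mem_zpowers.2 hz
      exact ⟨n % orderOf b, Nat.mod_lt _ (orderOf_pos b), pow_mod_orderOf b n⟩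
    exact ⟨i, ha ▸ hi, j, hb ▸ hj, by rw [hie, hje]; rfl⟩

theorem sylow_card {p k m : ℕ} [Fact p.Prime] (hcard : Nat.card G = p ^ k * m) (hm : ¬ p ∣ m)
    (P : Sylow p G) : Nat.card P = p ^ k := by
  have h1 : p ^ k ∣ Nat.card P := P.pow_dvd_card_of_pow_dvd_card (hcard ▸ dvd_mul_right _ _)
  obtain ⟨j, hj⟩ := IsPGroup.iff_card.1 P.isPGroup'
  have h2 : Nat.card P ∣ p ^ k * m := hcard ▸ Subgroup.card_subgroup_dvd_card (P : Subgroup G)
  have h3 : Nat.Coprime (Nat.card P) m := by
    rw [hj]; exact Nat.Coprime.pow_left _ ((Fact.out : p.Prime).coprime_iff_not_dvd.2 hm)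
  exact Nat.dvd_antisymm (h3.dvd_of_dvd_mul_right h2) h1

section Main

variable [IsSimpleGroup G] (hcard : Nat.card G = 5616)

include hcard in
theorem not_normal_of_card {H : Subgroup G} (hN : H.Normal) (h1 : 1 < Nat.card H)
    (h2 : Nat.card H < 5616) : False := by
  rcases hN.eq_bot_or_eq_top with h | h
  · rw [h, Subgroup.card_bot] at h1; omega
  · rw [h, Subgroup.card_top, hcard] at h2; omega

include hcard in
theorem index_ge {H : Subgroup G} (hne : H.index ≠ 1) : 8 ≤ H.index := by
  by_contra hlt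
  have hH : H.normalCore = ⊥ := by
    rcases H.normalCore_normal.eq_bot_or_eq_top with h | h
    · exact h
    · exact absurd (Subgroup.index_eq_one.2 (top_le_iff.1 (h.ge.trans H.normalCore_le))) hne
  have hinj : Function.Injective (MulAction.toPermHom G (G ⧸ H)) := by
    rw [← MonoidHom.ker_eq_bot_iff, ← Subgroup.normalCore_eq_ker, hH]
  have h1 := Subgroup.card_dvd_of_injective _ hinj
  rw [hcard, Nat.card_perm] at h1
  have h2 : Nat.card (G ⧸ H) ≤ 7 := by
    rw [← Subgroup.index_eq_card]; omega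
  have h3 := h1.trans (Nat.factorial_dvd_factorial h2)
  norm_num [Nat.factorial] at h3

include hcard in
theorem card13_aux (hno : ∀ w : G, orderOf w = 2 → ∀ s : G, orderOf s = 13 → ¬ Commute w s)
    {s : G} (hs : orderOf s = 13) :
    Nat.card (Subgroup.centralizer ({s} : Set G)) = 13 ∧
      Nat.card (Subgroup.normalizer (Subgroup.zpowers s : Set G)) = 39 := by
  haveI : Fact (Nat.Prime 13) := ⟨by norm_num⟩
  haveI : Fact (Nat.Prime 2) := ⟨Nat.prime_two⟩
  set S := Subgroup.zpowers s with hS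
  have hScard : Nat.card S = 13 := by rw [hS, Nat.card_zpowers, hs]
  obtain ⟨P, hP⟩ := (IsPGroup.of_card (n := 1) (by rw [hScard, pow_one]) : IsPGroup 13 S).exists_le_sylow
  have hPc : Nat.card P = 13 := by
    simpa using sylow_card (p := 13) (k := 1) (m := 432) (by rw [hcard]; rfl) (by norm_num) P
  have hPS : (P : Subgroup G) = S :=
    (Subgroup.eq_of_le_of_card_ge hP (by rw [hScard]; exact hPc.le)).symm
  set N := Subgroup.normalizer (S : Set G) with hNdef
  set C := Subgroup.centralizer ({s} : Set G)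
  have hSC : S ≤ C := by
    rw [hS, Subgroup.zpowers_le]
    exact Subgroup.mem_centralizer_singleton_iff.2 rfl
  have hCN : C ≤ N := fun c hc => mem_norm fun x hx => by
    obtain ⟨k, rfl⟩ := hx
    have : Commute c s := Subgroup.mem_centralizer_singleton_iff.1 hc
    rw [(this.zpow_right k).eq, mul_assoc, mul_inv_cancel, mul_one]
    exact ⟨k, rfl⟩
  have hn := card_sylow_modEq_one 13 G
  rw [P.card_eq_index_normalizer] at hn
  have hPS' : ((P : Subgroup G) : Set G) = (S : Set G) := congrArg SetLike.coe hPS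
  change (Subgroup.normalizer ((P : Subgroup G) : Set G)).index ≡ 1 [MOD 13] at hn
  rw [hPS'] at hn
  change N.index ≡ 1 [MOD 13] at hn
  have hmul := N.card_mul_index
  rw [hcard] at hmul
  obtain ⟨a, ha⟩ := hScard ▸ Subgroup.card_dvd_of_le (hSC.trans hCN)
  have hcases : N.index = 27 ∨ N.index = 144 := by
    have h432 : a * N.index = 432 := by
      rw [ha, mul_assoc] at hmul; omega
    have hd : N.index ∣ 432 := Dvd.intro_left a h432
    have h1 : N.index ≠ 1 := fun h => by
      refine not_normal_of_card hcard (H := S) ?_ (by omega) (by omega)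
      exact Subgroup.normalizer_eq_top_iff.1 (Subgroup.index_eq_one.1 h)
    have hle : N.index < 433 := Nat.lt_succ_of_le (Nat.le_of_dvd (by norm_num) hd)
    have key : ∀ n < 433, n ∣ 432 → n % 13 = 1 → n = 1 ∨ n = 27 ∨ n = 144 := by decide +kernel
    rcases key _ hle hd hn with h | h | h
    · exact absurd h h1
    · exact Or.inl h
    · exact Or.inr h
  have hodd : ∀ w ∈ C, orderOf w ≠ 2 := fun w hw h2 =>
    hno w h2 s hs (Subgroup.mem_centralizer_singleton_iff.1 hw)
  have hN39 : Nat.card N = 39 := by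
    rcases hcases with h | h
    · exfalso
      have hN : Nat.card N = 208 := by rw [h] at hmul; omega
      obtain ⟨T, hT⟩ := Sylow.exists_subgroup_card_pow_prime (G := N) 2 (n := 4) (by rw [hN]; norm_num)
      let φ : T → {z : S // z ≠ 1} := fun c =>
        ⟨⟨(c.1.1 : G) * s * (c.1.1 : G)⁻¹,
          (Subgroup.mem_normalizer_iff.1 c.1.2 s).1 (Subgroup.mem_zpowers s)⟩, fun e => by
            have e' : (c.1.1 : G) * s * (c.1.1 : G)⁻¹ = 1 := congrArg Subtype.val e
            rw [conj_eq_one_iff] at e'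
            rw [e', orderOf_one] at hs
            norm_num at hs⟩
      have hlt : Nat.card {z : S // z ≠ 1} < Nat.card T := by
        have := Finite.card_subtype_lt (p := fun z : S => z ≠ 1) (x := 1) (by simp)
        rw [hT]; omega
      have hnin : ¬ Function.Injective φ := fun hi =>
        absurd (Nat.card_le_card_of_injective φ hi) (not_le.2 hlt)
      simp only [Function.Injective, not_forall] at hnin
      obtain ⟨c, d, hcd, hne⟩ := hnin
      have hcd' : (c.1.1 : G) * s * (c.1.1 : G)⁻¹ = (d.1.1 : G) * s * (d.1.1 : G)⁻¹ :=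
        congrArg (fun z : {z : S // z ≠ 1} => (z.1 : G)) hcd
      set e : T := c⁻¹ * d with he
      have he1 : e ≠ 1 := fun h => hne (inv_mul_eq_one.1 h)
      have heC : ((e.1 : N) : G) ∈ C := by
        rw [Subgroup.mem_centralizer_singleton_iff]
        show ((c.1.1 : G))⁻¹ * d.1.1 * s = s * ((c.1.1 : G)⁻¹ * d.1.1)
        calc (c.1.1 : G)⁻¹ * d.1.1 * s
            = (c.1.1 : G)⁻¹ * (d.1.1 * s * (d.1.1 : G)⁻¹) * d.1.1 := by group
          _ = s * ((c.1.1 : G)⁻¹ * d.1.1) := by rw [← hcd']; group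
      obtain ⟨j, hj⟩ := (IsPGroup.iff_orderOf.1 (IsPGroup.of_card hT)) e
      rcases j with _ | j
      · exact he1 (orderOf_eq_one_iff.1 (by simpa using hj))
      · refine hodd _ (C.pow_mem heC (2 ^ j)) ?_
        have : orderOf ((e ^ 2 ^ j : T) : N) = 2 := by
          rw [Subgroup.orderOf_coe, orderOf_pow' _ (by positivity), hj, pow_succ,
            Nat.gcd_eq_right (dvd_mul_right _ _), Nat.mul_div_cancel_left _ (by positivity)]
        rwa [← Subgroup.orderOf_coe, Subgroup.coe_pow, Subgroup.coe_pow] at this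
    · rw [h] at hmul; omega
  refine ⟨?_, hN39⟩
  obtain ⟨b, hb⟩ := hScard ▸ Subgroup.card_dvd_of_le hSC
  have hd := hN39 ▸ Subgroup.card_dvd_of_le hCN
  have hb3 : b = 1 ∨ b = 3 := by
    rw [hb, show 39 = 13 * 3 from rfl, Nat.mul_dvd_mul_iff_left (by norm_num)] at hd
    exact (Nat.dvd_prime Nat.prime_three).1 hd
  rcases hb3 with rfl | rfl
  · simpa using hb
  · exfalso
    have heq : C = N := Subgroup.eq_of_le_of_card_ge hCN (by rw [hN39, hb])
    have hle : Subgroup.normalizer ((P : Subgroup G) : Set G) ≤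
        Subgroup.centralizer ((P : Subgroup G) : Set G) := by
      rw [hPS]
      intro g hg x hx
      have hgs : Commute g s := Subgroup.mem_centralizer_singleton_iff.1
        (show g ∈ C by rw [heq]; exact hg)
      obtain ⟨k, rfl⟩ := hx
      exact (hgs.zpow_right k).eq.symm
    have hcomp := MonoidHom.ker_transferSylow_isComplement' P hle
    have hidx := hcomp.symm.index_eq_card
    rw [hPc] at hidx
    have hk := (MonoidHom.transferSylow P hle).ker.card_mul_index
    rw [hidx, hcard] at hk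
    exact not_normal_of_card hcard (H := (MonoidHom.transferSylow P hle).ker)
      (MonoidHom.normal_ker _) (by omega) (by omega)

end Main

/-! ### The subgroup of elements of 3-power order centralising an element -/

theorem exists_threePart {x : G} {k : ℕ} (hk : k ≤ 3)
    (hC : Nat.card (Subgroup.centralizer ({x} : Set G)) = 2 * 3 ^ k) :
    ∃ O : Subgroup G, Nat.card O = 3 ^ k ∧ ∀ h, h ∈ O ↔ Commute h x ∧ h ^ 27 = 1 := by
  haveI : Fact (Nat.Prime 3) := ⟨Nat.prime_three⟩
  set C := Subgroup.centralizer ({x} : Set G)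
  obtain ⟨R, hR⟩ := Sylow.exists_subgroup_card_pow_prime (G := C) 3 (n := k)
    (by rw [hC]; exact dvd_mul_left _ _)
  have hidx : R.index = 2 := by
    have h := R.card_mul_index
    rw [hR, hC, mul_comm 2] at h
    exact Nat.eq_of_mul_eq_mul_left (by positivity) h
  refine ⟨R.map C.subtype, by rw [Subgroup.card_map_of_injective C.subtype_injective, hR],
    fun h => ⟨?_, ?_⟩⟩
  · rintro ⟨r, hr, rfl⟩
    refine ⟨Subgroup.mem_centralizer_singleton_iff.1 r.2, ?_⟩
    have h1 : (⟨r, hr⟩ : R) ^ 27 = 1 := by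
      rw [← orderOf_dvd_iff_pow_eq_one]
      refine (orderOf_dvd_natCard _).trans ?_
      rw [hR, show 27 = 3 ^ 3 from rfl]
      exact pow_dvd_pow 3 hk
    simpa using congrArg (fun z : R => ((z : C) : G)) h1
  · rintro ⟨hc, h27⟩
    refine ⟨⟨h, Subgroup.mem_centralizer_singleton_iff.2 hc.eq⟩, ?_, rfl⟩
    set c : C := ⟨h, Subgroup.mem_centralizer_singleton_iff.2 hc.eq⟩
    have hc27 : c ^ 27 = 1 := Subtype.ext (by simpa using h27)
    have : c = (c ^ 2) ^ 14 := by
      rw [← pow_mul, show 2 * 14 = 27 + 1 from rfl, pow_succ, hc27, one_mul]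
    show c ∈ R
    rw [this]
    exact R.pow_mem (Subgroup.sq_mem_of_index_two hidx c) _

section Three

variable [IsSimpleGroup G] {f : Coord → G} (hs : Setup f) (hcard : Nat.card G = 5616)
  (hconj : ∀ u v : G, orderOf u = 2 → orderOf v = 2 → IsConj u v)

include hs in
theorem orderOf_x : orderOf (f xC) = 3 := by
  haveI : Fact (Nat.Prime 3) := ⟨Nat.prime_three⟩
  refine orderOf_eq_prime ?_ fun e => x_facts.2.1 (hs.inj (e.trans hs.f_one.symm))
  rw [← hs.f_pow, x_facts.1, hs.f_one]

include hs hconj in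
theorem pair_conj {w x : G} (hw : orderOf w = 2) (hx : orderOf x = 3) (hc : Commute w x) :
    ∃ g, g * f tC * g⁻¹ = w ∧ g * f xC * g⁻¹ = x := by
  obtain ⟨g, hg⟩ := isConj_iff.1 (hconj (f tC) w hs.ot hw)
  have hc' : Commute (g⁻¹ * x * g) (f tC) := by
    refine (Commute.conj_iff g).1 ?_
    rw [hg, show g * (g⁻¹ * x * g) * g⁻¹ = x by group]
    exact hc.symm
  obtain ⟨c, hcc⟩ := hs.cent _ hc'
  have h3 : orderOf (f c) = 3 := by
    rw [hcc, show g⁻¹ * x * g = g⁻¹ * x * g⁻¹⁻¹ by group, ← MulAut.conj_apply,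
      MulEquiv.orderOf_eq, hx]
  obtain ⟨k, hk⟩ := conj_x c (hs.inj (by rw [hs.f_pow, hs.f_one, ← h3, pow_orderOf_eq_one]))
    (fun e => by rw [e, hs.f_one, orderOf_one] at h3; norm_num at h3)
  refine ⟨g * f k, ?_, ?_⟩
  · rw [mul_inv_rev, mul_assoc g (f k), (hs.commute_t k).eq]
    simpa [mul_assoc] using hg
  · have e : f k * f xC * (f k)⁻¹ = g⁻¹ * x * g := by rw [← hs.f_cj, hk, hcc]
    calc g * f k * f xC * (g * f k)⁻¹ = g * (f k * f xC * (f k)⁻¹) * g⁻¹ := by group
      _ = x := by rw [e]; group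

include hs hcard hconj in
theorem no_commute13 : ∀ w : G, orderOf w = 2 → ∀ s : G, orderOf s = 13 → ¬ Commute w s := by
  intro w hw s hs13 hc
  obtain ⟨g, hg⟩ := isConj_iff.1 (hconj w (f tC) hw hs.ot)
  have hc' : Commute (g * s * g⁻¹) (f tC) := by rw [← hg]; exact (Commute.conj_iff g).2 hc.symm
  have h := orderOf_dvd_natCard (⟨g * s * g⁻¹, (hs.mem_cent_iff _).2 (hs.cent _ hc')⟩ :
    Subgroup.centralizer ({f tC} : Set G))
  rw [← Subgroup.orderOf_coe, hs.card_centralizer, Cfsg.Agent.S3279.order_conj, hs13] at h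
  norm_num at h

include hs hcard hconj in
theorem centralizer_x : ∃ k, (k = 1 ∨ k = 2 ∨ k = 3) ∧
    Nat.card (Subgroup.centralizer ({f xC} : Set G)) = 2 * 3 ^ k := by
  haveI : Fact (Nat.Prime 2) := ⟨Nat.prime_two⟩
  haveI : Fact (Nat.Prime 13) := ⟨by norm_num⟩
  set C := Subgroup.centralizer ({f xC} : Set G)
  have ox := orderOf_x hs
  have htC : f tC ∈ C := Subgroup.mem_centralizer_singleton_iff.2 (hs.commute_t xC).symm.eq
  have hxC : f xC ∈ C := Subgroup.mem_centralizer_singleton_iff.2 rfl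
  have h2 : 2 ∣ Nat.card C := by
    rw [← hs.ot, ← Subgroup.orderOf_mk (f tC) htC]; exact orderOf_dvd_natCard _
  have h3 : 3 ∣ Nat.card C := by
    rw [← ox, ← Subgroup.orderOf_mk (f xC) hxC]; exact orderOf_dvd_natCard _
  have h13 : ¬ 13 ∣ Nat.card C := by
    intro h
    obtain ⟨s, hs'⟩ := exists_prime_orderOf_dvd_card' 13 h
    have hs13 : orderOf (s : G) = 13 := by rw [Subgroup.orderOf_coe, hs']
    have hcs := (card13_aux hcard (no_commute13 hs hcard hconj) hs13).1
    have hx : f xC ∈ Subgroup.centralizer ({(s : G)} : Set G) :=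
      Subgroup.mem_centralizer_singleton_iff.2 (Subgroup.mem_centralizer_singleton_iff.1 s.2).symm
    have hd := orderOf_dvd_natCard (⟨f xC, hx⟩ : Subgroup.centralizer ({(s : G)} : Set G))
    rw [Subgroup.orderOf_mk, ox, hcs] at hd
    norm_num at hd
  have h4 : ¬ 4 ∣ Nat.card C := by
    intro h4
    obtain ⟨T, hT⟩ := (IsPGroup.of_card (n := 1) (by
      rw [Nat.card_zpowers, Subgroup.orderOf_mk, hs.ot]; rfl) :
      IsPGroup 2 (Subgroup.zpowers (⟨f tC, htC⟩ : C))).exists_le_sylow
    have hT4 : 2 ^ 2 ∣ Nat.card T := T.pow_dvd_card_of_pow_dvd_card h4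
    have htT : (⟨f tC, htC⟩ : C) ∈ (T : Subgroup C) := hT (Subgroup.mem_zpowers _)
    haveI : Nontrivial (T : Subgroup C) := Finite.one_lt_card_iff_nontrivial.1
      (by have := Nat.le_of_dvd Nat.card_pos hT4; omega)
    have hZn := T.isPGroup'.center_nontrivial
    obtain ⟨j, hj⟩ := IsPGroup.iff_card.1
      (T.isPGroup'.to_subgroup (Subgroup.center (T : Subgroup C)))
    have hj0 : j ≠ 0 := fun e => by
      have := Finite.one_lt_card_iff_nontrivial.2 hZn
      rw [hj, e, pow_zero] at this; omega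
    obtain ⟨z, hz⟩ := exists_prime_orderOf_dvd_card' 2
      (hj.symm ▸ dvd_pow_self 2 hj0 : 2 ∣ Nat.card (Subgroup.center (T : Subgroup C)))
    set zG : G := (((z : (T : Subgroup C)) : C) : G)
    have oz : orderOf zG = 2 := by
      simp only [zG, Subgroup.orderOf_coe, hz]
    have hzT : ∀ y : (T : Subgroup C), Commute zG ((y : C) : G) := fun y =>
      (congrArg (fun w : (T : Subgroup C) => ((w : C) : G)) (Subgroup.mem_center_iff.1 z.2 y)).symm
    obtain ⟨c, hc⟩ := hs.cent zG (hzT ⟨_, htT⟩)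
    have hct : c = tC := by
      refine inv_cent_x c ((hs.isInv_iff c).1 (hc ▸ oz)) (hs.inj ?_)
      rw [hs.mul, hs.mul, hc]
      exact Subgroup.mem_centralizer_singleton_iff.1 ((z : (T : Subgroup C)) : C).2
    subst hct
    have hle : (T : Subgroup C).map C.subtype ≤ subOf hs pX closed_pX := by
      rintro _ ⟨y, hy, rfl⟩
      obtain ⟨d, hd⟩ := hs.cent (y : G) (hc ▸ (hzT ⟨y, hy⟩).symm)
      refine ⟨d, hs.inj ?_, hd⟩
      rw [hs.mul, hs.mul, hd]
      exact Subgroup.mem_centralizer_singleton_iff.1 y.2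
    have h6 := Subgroup.card_dvd_of_le hle
    rw [Subgroup.card_map_of_injective C.subtype_injective, card_subOf hs closed_pX, card_pX] at h6
    have := hT4.trans h6
    norm_num at this
  have hd : Nat.card C ∣ 5616 := hcard ▸ Subgroup.card_subgroup_dvd_card C
  have hd' : Nat.card C ∣ 432 := ((Nat.Prime.coprime_iff_not_dvd (by norm_num)).2
    h13).symm.dvd_of_dvd_mul_right (show Nat.card C ∣ 432 * 13 from hd)
  have key : ∀ d < 433, d ∣ 432 → 2 ∣ d → 3 ∣ d → ¬ 4 ∣ d → d = 6 ∨ d = 18 ∨ d = 54 := by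
    decide +kernel
  rcases key _ (Nat.lt_succ_of_le (Nat.le_of_dvd (by norm_num) hd')) hd' h2 h3 h4 with h | h | h
  · exact ⟨1, by simp, h⟩
  · exact ⟨2, by simp, h⟩
  · exact ⟨3, by simp, h⟩

include hs hconj in
theorem fixed_card {H : Subgroup G} (hH : Nat.card H ∣ 27) {w : G} (hw : orderOf w = 2)
    (hle : ∀ h ∈ H, Commute h w) : Nat.card H ∣ 3 := by
  have h1 : H ≤ Subgroup.centralizer ({w} : Set G) := fun h hh =>
    Subgroup.mem_centralizer_singleton_iff.2 (hle h hh).eq
  obtain ⟨g, hg⟩ := isConj_iff.1 (hconj (f tC) w hs.ot hw)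
  have h2 := Subgroup.card_dvd_of_le h1
  rw [← hg, card_cent_conj, hs.card_centralizer] at h2
  exact Nat.dvd_gcd hH h2

include hs hcard hconj in
/-- The centraliser of an element of order three meeting an involution has order 54. -/
theorem big_cent : ∃ P : Subgroup G, Nat.card P = 27 ∧
    Nat.card (Subgroup.centralizer ({f xC} : Set G)) = 54 ∧
    ∀ h, h ∈ P ↔ Commute h (f xC) ∧ h ^ 27 = 1 := by
  haveI : Fact (Nat.Prime 3) := ⟨Nat.prime_three⟩
  obtain ⟨k, hk, hC⟩ := centralizer_x hs hcard hconj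
  obtain ⟨O, hO, hmem⟩ := exists_threePart (by omega) hC
  have ox := orderOf_x hs
  set x := f xC with hxdef
  have hxO : x ∈ O := (hmem x).2 ⟨Commute.refl x,
    orderOf_dvd_iff_pow_eq_one.1 (ox ▸ by norm_num)⟩
  obtain ⟨P, hP⟩ := (IsPGroup.of_card hO : IsPGroup 3 O).exists_le_sylow
  have hPc : Nat.card P = 27 := by
    simpa using sylow_card (p := 3) (k := 3) (m := 208) (by rw [hcard]; rfl) (by norm_num) P
  have hP27 : ∀ p ∈ (P : Subgroup G), p ^ 27 = 1 := by
    intro p hp
    have h : (⟨p, hp⟩ : (P : Subgroup G)) ^ Nat.card P = 1 := pow_card_eq_one'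
    rw [hPc] at h
    exact congrArg Subtype.val h
  haveI : Nontrivial (P : Subgroup G) := Finite.one_lt_card_iff_nontrivial.1
    (show 1 < Nat.card P by omega)
  have hZn := P.isPGroup'.center_nontrivial
  obtain ⟨j, hj⟩ := IsPGroup.iff_card.1
    (P.isPGroup'.to_subgroup (Subgroup.center (P : Subgroup G)))
  have hj0 : j ≠ 0 := fun e => by
    have := Finite.one_lt_card_iff_nontrivial.2 hZn
    rw [hj, e, pow_zero] at this; omega
  obtain ⟨z', hz'⟩ := exists_prime_orderOf_dvd_card' 3
    (hj.symm ▸ dvd_pow_self 3 hj0 : 3 ∣ Nat.card (Subgroup.center (P : Subgroup G)))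
  set z : G := ((z' : (P : Subgroup G)) : G)
  have oz : orderOf z = 3 := by simp only [z, Subgroup.orderOf_coe, hz']
  have hzc : ∀ p ∈ (P : Subgroup G), Commute z p := fun p hp =>
    (congrArg Subtype.val (Subgroup.mem_center_iff.1 z'.2 ⟨p, hp⟩)).symm
  have hzO : z ∈ O := (hmem z).2 ⟨hzc x (hP hxO), orderOf_dvd_iff_pow_eq_one.1 (oz ▸ by norm_num)⟩
  by_cases h54 : k = 3
  · subst h54
    exact ⟨O, hO, hC, hmem⟩
  exfalso
  have hnotc : ¬ ∀ p ∈ (P : Subgroup G), Commute p x := by
    intro h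
    have hle : (P : Subgroup G) ≤ O := fun p hp => (hmem p).2 ⟨h p hp, hP27 p hp⟩
    have := Subgroup.card_le_of_le hle
    rw [hO] at this
    have : 27 ≤ 3 ^ k := hPc ▸ this
    rcases hk with rfl | rfl | rfl <;> first | omega | norm_num at this
  rcases hk with rfl | rfl | rfl
  · have hz : Subgroup.zpowers z = O := Subgroup.eq_of_le_of_card_ge
      (by rwa [Subgroup.zpowers_le]) (by rw [Nat.card_zpowers, oz, hO]; norm_num)
    rw [← hz] at hxO
    obtain ⟨i, hi⟩ := hxO
    exact hnotc fun p hp => hi ▸ (hzc p hp).symm.zpow_right i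
  · -- the case of order nine
    have hxu : f uC * x * (f uC)⁻¹ = x⁻¹ := by
      rw [hxdef, ← hs.f_cj, x_facts.2.2.1, hs.f_inv]
    have hxw : f wC * x * (f wC)⁻¹ = x⁻¹ := by
      rw [hxdef, ← hs.f_cj, x_facts.2.2.2, hs.f_inv]
    have hOn : ∀ w : G, (w * x * w⁻¹ = x ∨ w * x * w⁻¹ = x⁻¹) → ∀ h ∈ O, w * h * w⁻¹ ∈ O := by
      intro w hw h hh
      obtain ⟨hc, h27⟩ := (hmem h).1 hh
      refine (hmem _).2 ⟨?_, by rw [conj_pow, h27, mul_one, mul_inv_cancel]⟩
      rcases hw with e | e
      · have := (Commute.conj_iff w).2 hc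
        rwa [e] at this
      · have := (Commute.conj_iff w).2 hc.inv_right
        rwa [show w * x⁻¹ * w⁻¹ = (w * x * w⁻¹)⁻¹ by group, e, inv_inv] at this
    obtain ⟨w, x', hw2, hx', hx'1, hwx', hwx⟩ :
        ∃ w x', orderOf w = 2 ∧ x' ∈ O ∧ x' ≠ 1 ∧ Commute w x' ∧ w * x * w⁻¹ = x⁻¹ := by
      have hu : orderOf (f uC) = 2 := (hs.isInv_iff _).2 isInv_u
      have hw' : orderOf (f wC) = 2 := (hs.isInv_iff _).2 w_facts.1
      rcases inverts_or_fixes (H := O) (show f uC * f uC = 1 by rw [← pow_two, ← hu,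
          pow_orderOf_eq_one]) (hOn _ (Or.inr hxu)) with hI | ⟨y, hy, hy1, hyc⟩
      · rcases inverts_or_fixes (H := O) (show f wC * f wC = 1 by rw [← pow_two, ← hw',
            pow_orderOf_eq_one]) (hOn _ (Or.inr hxw)) with hI' | ⟨y, hy, hy1, hyc⟩
        · exfalso
          have hle : ∀ h ∈ O, Commute h (f tC) := by
            intro h hh
            have e := hI' _ (O.inv_mem hh)
            rw [inv_inv, hs.mul] at e
            have e' : f tC * (f uC * h⁻¹ * (f uC)⁻¹) * (f tC)⁻¹ = h :=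
              (show _ = f tC * f uC * h⁻¹ * (f tC * f uC)⁻¹ by group).trans e
            rw [show f uC * h⁻¹ * (f uC)⁻¹ = (f uC * h * (f uC)⁻¹)⁻¹ by group, hI h hh,
              inv_inv] at e'
            exact (mul_inv_eq_iff_eq_mul.1 e').symm
          have := fixed_card hs hconj (H := O) (by rw [hO]; norm_num) hs.ot hle
          rw [hO] at this
          norm_num at this
        · exact ⟨_, y, hw', hy, hy1, hyc, hxw⟩
      · exact ⟨_, y, hu, hy, hy1, hyc, hxu⟩
    have hcomm : ∀ a ∈ O, ∀ b ∈ O, Commute a b := fun a ha b hb => congrArg Subtype.val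
      ((IsPGroup.commutative_of_card_eq_prime_sq (G := O) (p := 3) (by simpa using hO))
        ⟨a, ha⟩ ⟨b, hb⟩)
    have hx'ne : x' ∉ Subgroup.zpowers x := by
      rintro ⟨i, rfl⟩
      refine hx'1 ?_
      have e : w * x ^ i * w⁻¹ = (x ^ i)⁻¹ := by rw [← conj_zpow, hwx, inv_zpow]
      rw [hwx'.eq, mul_assoc, mul_inv_cancel, mul_one, eq_inv_iff_mul_eq_one] at e
      have h3 : (x ^ i) ^ 3 = 1 := by
        rw [← zpow_natCast, ← zpow_mul, mul_comm, zpow_mul, zpow_natCast, ← ox,
          pow_orderOf_eq_one, one_zpow]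
      rw [pow_succ, pow_two, e, one_mul] at h3
      exact h3
    have ox' : orderOf x' = 3 := by
      have hd := orderOf_dvd_natCard (⟨x', hx'⟩ : O)
      rw [Subgroup.orderOf_mk, hO] at hd
      rcases (Nat.dvd_prime_pow Nat.prime_three).1 hd with ⟨m, hm, hm'⟩
      interval_cases m
      · exact absurd (orderOf_eq_one_iff.1 hm') hx'1
      · simpa using hm'
      · exfalso
        have hz : Subgroup.zpowers x' = O := Subgroup.eq_of_le_of_card_ge
          (by rwa [Subgroup.zpowers_le]) (by rw [Nat.card_zpowers, hm', hO])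
        rw [← hz] at hxO
        obtain ⟨i, hi⟩ := hxO
        have hc' : Commute w x := hi ▸ hwx'.zpow_right i
        rw [hc'.eq, mul_assoc, mul_inv_cancel, mul_one, eq_inv_iff_mul_eq_one] at hwx
        have h3 : x ^ 3 = 1 := ox ▸ pow_orderOf_eq_one x
        rw [pow_succ, pow_two, hwx, one_mul] at h3
        rw [h3, orderOf_one] at ox
        norm_num at ox
    obtain ⟨hEc, hEmem⟩ := card_pair ox ox' (hcomm x hxO x' hx') hx'ne
    have hEO : Subgroup.closure ({x, x'} : Set G) = O := Subgroup.eq_of_le_of_card_ge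
      ((Subgroup.closure_le O).2 (by rintro _ (rfl | rfl) <;> assumption)) (by rw [hEc, hO]; norm_num)
    rw [hEO] at hEmem
    -- centralisers in the two classes
    have big : ∀ y : G, (∀ p ∈ (P : Subgroup G), Commute y p) →
        27 ∣ Nat.card (Subgroup.centralizer ({y} : Set G)) := by
      intro y hy
      rw [← hPc]
      exact Subgroup.card_dvd_of_le fun p hp =>
        Subgroup.mem_centralizer_singleton_iff.2 (hy p hp).symm.eq
    have small : ∀ g : G, ¬ 27 ∣ Nat.card (Subgroup.centralizer ({g * x * g⁻¹} : Set G)) := by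
      intro g
      rw [card_cent_conj, hC]; norm_num
    obtain ⟨g', hg't, hg'x⟩ := pair_conj hs hconj hw2 ox' hwx'
    have small' : ∀ g : G, ¬ 27 ∣ Nat.card (Subgroup.centralizer ({g * x' * g⁻¹} : Set G)) := by
      intro g
      rw [← hg'x, card_cent_conj, card_cent_conj]
      simpa using small 1
    obtain ⟨a, ha, b, hb, hzab⟩ := hEmem z hzO
    have zbig := big z hzc
    have zbig' : 27 ∣ Nat.card (Subgroup.centralizer ({z⁻¹} : Set G)) :=
      big _ fun p hp => (hzc p hp).inv_left
    have ha0 : a ≠ 0 := by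
      intro e
      subst e
      interval_cases b
      · simp only [pow_zero, mul_one] at hzab
        rw [hzab, orderOf_one] at oz; norm_num at oz
      · exact small' 1 (by simpa [hzab] using zbig)
      · refine small' 1 ?_
        have : z⁻¹ = x' := by
          rw [hzab, pow_zero, one_mul, inv_eq_iff_mul_eq_one, ← pow_succ]
          exact (ox' ▸ pow_orderOf_eq_one x' : x' ^ 3 = 1)
        simpa [this] using zbig'
    have hb0 : b ≠ 0 := by
      intro e
      subst e
      interval_cases a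
      · exact absurd rfl ha0
      · exact small 1 (by simpa [hzab] using zbig)
      · refine small 1 ?_
        have : z⁻¹ = x := by
          rw [hzab, pow_zero, mul_one, inv_eq_iff_mul_eq_one, ← pow_succ]
          exact (ox ▸ pow_orderOf_eq_one x : x ^ 3 = 1)
        simpa [this] using zbig'
    have hxx' := hcomm x hxO x' hx'
    -- all elements off the two axes have large centralisers
    have hoff : ∀ c < 3, ∀ d < 3, c ≠ 0 → d ≠ 0 →
        27 ∣ Nat.card (Subgroup.centralizer ({x ^ c * x' ^ d} : Set G)) := by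
      intro c hc d hd c0 d0
      have e3 : x ^ 3 = 1 := ox ▸ pow_orderOf_eq_one x
      have e3' : x' ^ 3 = 1 := ox' ▸ pow_orderOf_eq_one x'
      have e12 : x⁻¹ = x ^ 2 := inv_eq_of_mul_eq_one_right (by rw [← pow_succ']; exact e3)
      have e12' : x'⁻¹ = x' ^ 2 := inv_eq_of_mul_eq_one_right (by rw [← pow_succ']; exact e3')
      have hwz : w * z * w⁻¹ = x ^ (2 * a) * x' ^ b := by
        rw [hzab, show w * (x ^ a * x' ^ b) * w⁻¹ = (w * x ^ a * w⁻¹) * (w * x' ^ b * w⁻¹) by group,
          ← conj_pow, hwx, (hwx'.pow_right b).eq, mul_assoc (x' ^ b) w, mul_inv_cancel, mul_one,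
          e12, ← pow_mul]
      have hzi : z⁻¹ = x ^ (2 * a) * x' ^ (2 * b) := by
        rw [hzab, mul_inv_rev]
        rw [← inv_pow, ← inv_pow, e12, e12', ← pow_mul, ← pow_mul, (hxx'.pow_pow _ _).eq]
      have hwzi : w * z⁻¹ * w⁻¹ = x ^ (4 * a) * x' ^ (2 * b) := by
        rw [show w * z⁻¹ * w⁻¹ = (w * z * w⁻¹)⁻¹ by group, hwz, mul_inv_rev, ← inv_pow, ← inv_pow,
          e12, e12', ← pow_mul, ← pow_mul, (hxx'.pow_pow _ _).eq, show 2 * (2 * a) = 4 * a by omega]
      have c1 := zbig
      have c2 := zbig'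
      have c3 : 27 ∣ Nat.card (Subgroup.centralizer ({w * z * w⁻¹} : Set G)) := by
        rwa [card_cent_conj]
      have c4 : 27 ∣ Nat.card (Subgroup.centralizer ({w * z⁻¹ * w⁻¹} : Set G)) := by
        rwa [card_cent_conj]
      rw [hzab] at c1
      rw [hzi] at c2
      rw [hwz] at c3
      rw [hwzi] at c4
      have key : ∀ i j, i % 3 = c % 3 → j % 3 = d % 3 →
          27 ∣ Nat.card (Subgroup.centralizer ({x ^ i * x' ^ j} : Set G)) →
          27 ∣ Nat.card (Subgroup.centralizer ({x ^ c * x' ^ d} : Set G)) := by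
        intro i j hi hj h
        rwa [← pow_mod_orderOf x i, ← pow_mod_orderOf x' j, ox, ox', hi, hj, Nat.mod_eq_of_lt hc,
          Nat.mod_eq_of_lt hd] at h
      rcases (show (a % 3 = c % 3 ∧ b % 3 = d % 3) ∨ (2 * a % 3 = c % 3 ∧ 2 * b % 3 = d % 3) ∨
          (2 * a % 3 = c % 3 ∧ b % 3 = d % 3) ∨ (4 * a % 3 = c % 3 ∧ 2 * b % 3 = d % 3) by
          interval_cases a <;> interval_cases b <;> interval_cases c <;> interval_cases d <;> omega)
        with ⟨i, j⟩ | ⟨i, j⟩ | ⟨i, j⟩ | ⟨i, j⟩
      · exact key _ _ i j c1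
      · exact key _ _ i j c2
      · exact key _ _ i j c3
      · exact key _ _ i j c4
    have hOP : ∀ p ∈ (P : Subgroup G), ∀ h ∈ O, p * h * p⁻¹ ∈ O :=
      normal_in_of_card hP hPc (by simpa using hO)
    obtain ⟨p, hp, hpx⟩ : ∃ p ∈ (P : Subgroup G), ¬ Commute p x := by
      simpa only [not_forall, exists_prop] using hnotc
    have himg : ∀ q ∈ (P : Subgroup G), ∃ m < 3, q * x * q⁻¹ = x ^ m ∨ q * x * q⁻¹ = x' ^ m := by
      intro q hq
      obtain ⟨c, hc, d, hd, e⟩ := hEmem _ (hOP q hq x hxO)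
      by_cases c0 : c = 0
      · exact ⟨d, hd, Or.inr (by rw [e, c0, pow_zero, one_mul])⟩
      by_cases d0 : d = 0
      · exact ⟨c, hc, Or.inl (by rw [e, d0, pow_zero, mul_one])⟩
      exact absurd (e ▸ hoff c hc d hd c0 d0) (small q)
    -- an element moving a line to itself centralises it
    have hline : ∀ q ∈ (P : Subgroup G), ∀ m < 3, q * x * q⁻¹ = x ^ m → Commute q x := by
      intro q hq m hm e
      interval_cases m
      · rw [pow_zero, conj_eq_one_iff] at e
        rw [e, orderOf_one] at ox; norm_num at ox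
      · exact mul_inv_eq_iff_eq_mul.1 (by simpa using e)
      · exfalso
        have e2 : q ^ 2 * x * (q ^ 2)⁻¹ = x := by
          rw [pow_two q, mul_inv_rev, show q * q * x * (q⁻¹ * q⁻¹) = q * (q * x * q⁻¹) * q⁻¹ by group,
            e, ← conj_pow, e, ← pow_mul, show 2 * 2 = 3 + 1 from rfl, pow_succ, ← ox,
            pow_orderOf_eq_one, one_mul]
        have h2 : Commute (q ^ 2) x := mul_inv_eq_iff_eq_mul.1 e2
        have hq' : (q ^ 2) ^ 14 = q := by
          rw [← pow_mul, show 2 * 14 = 27 + 1 from rfl, pow_succ, hP27 q hq, one_mul]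
        have hc : Commute q x := hq' ▸ h2.pow_left 14
        rw [hc.eq, mul_assoc, mul_inv_cancel, mul_one, pow_two, left_eq_mul] at e
        rw [e, orderOf_one] at ox; norm_num at ox
    obtain ⟨m, hm, e1⟩ := himg p hp
    rcases e1 with e1 | e1
    · exact hpx (hline p hp m hm e1)
    have hm0 : m ≠ 0 := fun h => by
      rw [h, pow_zero, conj_eq_one_iff] at e1
      rw [e1, orderOf_one] at ox; norm_num at ox
    obtain ⟨n, hn, e2⟩ := himg (p ^ 2) ((P : Subgroup G).pow_mem hp 2)
    rcases e2 with e2 | e2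
    · have h2 := hline _ ((P : Subgroup G).pow_mem hp 2) n hn e2
      have hq' : (p ^ 2) ^ 14 = p := by
        rw [← pow_mul, show 2 * 14 = 27 + 1 from rfl, pow_succ, hP27 p hp, one_mul]
      exact hpx (hq' ▸ h2.pow_left 14)
    -- now `p` maps the line of `x` to the same line as `p ^ 2`
    have hn0 : n ≠ 0 := fun h => by
      rw [h, pow_zero, conj_eq_one_iff] at e2
      rw [e2, orderOf_one] at ox; norm_num at ox
    obtain ⟨l, hl⟩ : ∃ l, p ^ 2 * x * (p ^ 2)⁻¹ = (p * x * p⁻¹) ^ l := by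
      rw [e1, e2]
      refine ⟨if m = n then 1 else 2, ?_⟩
      rw [← pow_mul, ← pow_mod_orderOf x' n, ← pow_mod_orderOf x' (m * _), ox']
      congr 1
      split_ifs <;> interval_cases m <;> interval_cases n <;> omega
    have e4 : p * x * p⁻¹ = x ^ (l % 3) := by
      rw [← ox, pow_mod_orderOf]
      rw [conj_pow, pow_two p, mul_inv_rev] at hl
      have : p * (p * x * p⁻¹) * p⁻¹ = p * (x ^ l) * p⁻¹ := by simpa [mul_assoc] using hl
      exact mul_left_cancel (mul_right_cancel this)
    exact hpx (hline p hp _ (Nat.mod_lt _ (by norm_num)) e4)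
  · exact h54 rfl

end Three

end Cfsg.Agent.GL23Recog95
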