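import Cfsg.Agent.Lib.GL23Recog95Local

/-!
The order 5616 case: two subgroups of order 432 meeting in a subgroup of order 108.
-/

set_option autoImplicit false
set_option synthInstance.maxSize 4096

namespace Cfsg.Agent.GL23Recog95

open BinaryOctahedral GL23CentModel GL23CentOrder

universe u

variable {G : Type u} [Group G] [Finite G]

section Three

variable [IsSimpleGroup G] {f : Coord → G} (hs : Setup f) (hcard : Nat.card G = 5616)
  (hconj : ∀ u v : G, orderOf u = 2 → orderOf v = 2 → IsConj u v)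
  {P : Subgroup G} (hP : Nat.card P = 27)
  (hC : Nat.card (Subgroup.centralizer ({f xC} : Set G)) = 54)
  (hmem : ∀ h, h ∈ P ↔ Commute h (f xC) ∧ h ^ 27 = 1)

include hP in
theorem pow27 {p : G} (hp : p ∈ P) : p ^ 27 = 1 := by
  have h : (⟨p, hp⟩ : P) ^ Nat.card P = 1 := pow_card_eq_one'
  rw [hP] at h
  exact congrArg Subtype.val h

include hmem in
theorem norm_part {w : G} (hw : w * f xC * w⁻¹ = f xC ∨ w * f xC * w⁻¹ = (f xC)⁻¹) :
    w ∈ Subgroup.normalizer (P : Set G) := by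
  refine mem_norm fun h hh => ?_
  obtain ⟨hc, h27⟩ := (hmem h).1 hh
  refine (hmem _).2 ⟨?_, by rw [conj_pow, h27, mul_one, mul_inv_cancel]⟩
  rcases hw with e | e
  · have := (Commute.conj_iff w).2 hc
    rwa [e] at this
  · have := (Commute.conj_iff w).2 hc.inv_right
    rwa [show w * (f xC)⁻¹ * w⁻¹ = (w * f xC * w⁻¹)⁻¹ by group, e, inv_inv] at this

include hs hconj hP in
theorem fixed_in {w h k : G} (hw : orderOf w = 2) (hh : h ∈ P) (hh' : Commute h w) (hk : k ∈ P)
    (hk' : Commute k w) (hk1 : k ≠ 1) : orderOf k = 3 ∧ h ∈ Subgroup.zpowers k := by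
  set F := P ⊓ Subgroup.centralizer ({w} : Set G)
  have hF : Nat.card F ∣ 3 := fixed_card hs hconj (hP ▸ Subgroup.card_dvd_of_le inf_le_left) hw
    fun y hy => Subgroup.mem_centralizer_singleton_iff.1 hy.2
  have hkF : k ∈ F := ⟨hk, Subgroup.mem_centralizer_singleton_iff.2 hk'.eq⟩
  have hk3 : orderOf k = 3 := by
    have h1 := (Subgroup.orderOf_mk k hkF ▸ orderOf_dvd_natCard (⟨k, hkF⟩ : F)).trans hF
    exact ((Nat.dvd_prime Nat.prime_three).1 h1).resolve_left fun e => hk1 (orderOf_eq_one_iff.1 e)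
  refine ⟨hk3, ?_⟩
  have heq : Subgroup.zpowers k = F := Subgroup.eq_of_le_of_card_ge
    (by rwa [Subgroup.zpowers_le]) (by
      rw [Nat.card_zpowers, hk3]; exact Nat.le_of_dvd (by norm_num) hF)
  rw [heq]
  exact ⟨hh, Subgroup.mem_centralizer_singleton_iff.2 hh'.eq⟩

include hs in
theorem rel_facts : orderOf (f uC) = 2 ∧ orderOf (f wC) = 2 ∧
    f uC * f xC * (f uC)⁻¹ = (f xC)⁻¹ ∧ f wC * f xC * (f wC)⁻¹ = (f xC)⁻¹ ∧
    f tC * f uC = f wC ∧ f tC * f wC = f uC ∧ f tC * f tC = 1 ∧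
    f uC * f uC = 1 ∧ f wC * f wC = 1 := by
  refine ⟨(hs.isInv_iff _).2 isInv_u, (hs.isInv_iff _).2 w_facts.1, ?_, ?_, (hs.mul _ _).symm, ?_,
    ?_, ?_, ?_⟩
  · rw [← hs.f_cj, x_facts.2.2.1, hs.f_inv]
  · rw [← hs.f_cj, x_facts.2.2.2, hs.f_inv]
  · rw [← hs.mul]; congr 1
  all_goals rw [← hs.mul, ← hs.f_one]; congr 1

include hs hconj hP hmem in
theorem exists_fixed {w w' : G} (hw' : orderOf w' = 2) (hww : f tC * w = w') (hw2 : w * w = 1)
    (hwx : w * f xC * w⁻¹ = (f xC)⁻¹) : ∃ y ∈ P, y ≠ 1 ∧ Commute w y := by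
  refine (inverts_or_fixes hw2 fun h hh =>
    (Subgroup.mem_normalizer_iff.1 (norm_part hmem (Or.inr hwx)) h).1 hh).resolve_left fun hI => ?_
  have hcomm : ∀ a ∈ P, ∀ b ∈ P, Commute a b := by
    intro a ha b hb
    have e := hI _ (P.mul_mem ha hb)
    rw [show w * (a * b) * w⁻¹ = (w * a * w⁻¹) * (w * b * w⁻¹) by group, hI a ha, hI b hb,
      ← mul_inv_rev, inv_inj] at e
    exact e.symm
  set t := f tC
  have htN : t ∈ Subgroup.normalizer (P : Set G) :=
    norm_part hmem (Or.inl (by rw [← hs.f_cj, w_facts.2.2]))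
  have htP : ∀ p ∈ P, t * p * t⁻¹ ∈ P := fun p hp => (Subgroup.mem_normalizer_iff.1 htN p).1 hp
  let ψ : P →* G :=
    { toFun := fun p => (p : G) * (t * (p : G) * t⁻¹)⁻¹
      map_one' := by simp
      map_mul' := fun a b => by
        have h1 := hcomm _ b.2 _ (P.inv_mem (htP a a.2))
        have h2 : Commute (t * (b : G) * t⁻¹)⁻¹ (t * (a : G) * t⁻¹)⁻¹ :=
          hcomm _ (P.inv_mem (htP b b.2)) _ (P.inv_mem (htP a a.2))
        show (a : G) * b * (t * ((a : G) * b) * t⁻¹)⁻¹ = _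
        rw [show t * ((a : G) * b) * t⁻¹ = (t * a * t⁻¹) * (t * b * t⁻¹) by group, mul_inv_rev,
          h2.eq]
        simp only [← mul_assoc]
        rw [mul_assoc (a : G) b, h1.eq, ← mul_assoc] }
  have hker : Nat.card ψ.ker ∣ 3 := by
    have h := fixed_card hs hconj (H := ψ.ker.map P.subtype)
      (hP ▸ Subgroup.card_dvd_of_le (by rintro _ ⟨p, -, rfl⟩; exact p.2)) hs.ot (by
        rintro _ ⟨p, hp, rfl⟩
        have e : (p : G) * (t * (p : G) * t⁻¹)⁻¹ = 1 := hp
        rw [mul_inv_eq_one] at e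
        exact (mul_inv_eq_iff_eq_mul.1 e.symm).symm)
    rwa [Subgroup.card_map_of_injective P.subtype_injective] at h
  have hrange : Nat.card ψ.range ∣ 3 := by
    refine fixed_card hs hconj (hP ▸ Subgroup.card_dvd_of_le ?_) hw' ?_
    · rintro _ ⟨p, rfl⟩
      exact P.mul_mem p.2 (P.inv_mem (htP p p.2))
    · rintro _ ⟨p, rfl⟩
      set q : G := (p : G) * (t * (p : G) * t⁻¹)⁻¹
      have hq : q ∈ P := P.mul_mem p.2 (P.inv_mem (htP p p.2))
      have ht1 : t * t = 1 := (rel_facts hs).2.2.2.2.2.2.1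
      have ht' : t⁻¹ = t := inv_eq_of_mul_eq_one_right ht1
      have htq : t * q⁻¹ * t⁻¹ = q := by
        simp only [q, mul_inv_rev, inv_inv, ht']
        rw [show t * (t * (p : G) * t * (p : G)⁻¹) * t = t * t * p * t * (p : G)⁻¹ * t by group,
          ht1, one_mul]
        simp only [mul_assoc]
      show Commute q w'
      refine Commute.symm (mul_inv_eq_iff_eq_mul.1 ?_)
      rw [← hww, show t * w * q * (t * w)⁻¹ = t * (w * q * w⁻¹) * t⁻¹ by group, hI q hq, htq]
  have h := Subgroup.card_mul_index ψ.ker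
  rw [Subgroup.index_ker, hP] at h
  rcases (Nat.dvd_prime Nat.prime_three).1 hker with h1 | h1 <;>
    rcases (Nat.dvd_prime Nat.prime_three).1 hrange with h2 | h2 <;> rw [h1, h2] at h <;> omega

include hs hcard hconj hP hmem in
theorem noncomm : ¬ ∀ a ∈ P, ∀ b ∈ P, Commute a b := by
  intro hcomm
  obtain ⟨ou, ow, ux, wx, tu, tw, tt, uu, ww⟩ := rel_facts hs
  obtain ⟨y, hy, hy1, hyc⟩ := exists_fixed hs hconj hP hmem ow tu uu ux
  obtain ⟨z, hz, hz1, hzc⟩ := exists_fixed hs hconj hP hmem ou tw ww wx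
  obtain ⟨oy, -⟩ := fixed_in hs hconj hP ou hy hyc.symm hy hyc.symm hy1
  obtain ⟨oz, -⟩ := fixed_in hs hconj hP ow hz hzc.symm hz hzc.symm hz1
  set N := Subgroup.normalizer (P : Set G)
  have hto : ∀ w x : G, orderOf w = 2 → orderOf x = 3 → Commute w x → x ∈ P →
      ∃ g ∈ N, g * f tC * g⁻¹ = w := by
    intro w x hw hx hc hxP
    obtain ⟨g, h1, h2⟩ := pair_conj hs hconj hw hx hc
    refine ⟨g, ?_, h1⟩
    have heq : P.map (MulAut.conj g).toMonoidHom = P := by
      refine (Subgroup.eq_of_le_of_card_ge ?_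
        (by rw [Subgroup.card_map_of_injective (MulAut.conj g).injective])).symm
      intro p hp
      refine ⟨g⁻¹ * p * g, (hmem _).2 ⟨?_, ?_⟩, by simp [mul_assoc]⟩
      · refine (Commute.conj_iff g).1 ?_
        rw [show g * (g⁻¹ * p * g) * g⁻¹ = p by group, h2]
        exact hcomm p hp x hxP
      · rw [show g⁻¹ * p * g = g⁻¹ * p * g⁻¹⁻¹ by group, conj_pow, pow27 hP hp, mul_one,
          mul_inv_cancel]
    exact mem_norm fun p hp => heq.le ⟨p, hp, rfl⟩
  obtain ⟨g, hg, hgt⟩ := hto _ y ou oy hyc hy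
  obtain ⟨k, hk, hkt⟩ := hto _ z ow oz hzc hz
  have ht : f tC ∈ N := norm_part hmem (Or.inl (by rw [← hs.f_cj, w_facts.2.2]))
  have hu : f uC ∈ N := norm_part hmem (Or.inr ux)
  haveI : Fact (Nat.Prime 3) := ⟨Nat.prime_three⟩
  obtain ⟨S, hS⟩ := (IsPGroup.of_card (n := 3) (by rw [hP]; norm_num) : IsPGroup 3 P).exists_le_sylow
  have hSc : Nat.card S = 27 := by
    simpa using sylow_card (p := 3) (k := 3) (m := 208) (by rw [hcard]; rfl) (by norm_num) S
  have hSP : (S : Subgroup G) = P :=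
    (Subgroup.eq_of_le_of_card_ge hS (by rw [hP]; exact hSc.le)).symm
  have hmod := card_sylow_modEq_one 3 G
  rw [S.card_eq_index_normalizer] at hmod
  change (Subgroup.normalizer ((S : Subgroup G) : Set G)).index ≡ 1 [MOD 3] at hmod
  rw [hSP] at hmod
  have hPN : P ≤ N := Subgroup.le_normalizer
  haveI hnormal : (P.subgroupOf N).Normal := Subgroup.normal_in_normalizer
  let Q := N ⧸ P.subgroupOf N
  have hQ : Nat.card Q * 27 = Nat.card N := by
    have h := (P.subgroupOf N).index_mul_card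
    rw [Nat.card_congr (Subgroup.subgroupOfEquivOfLe hPN).toEquiv, hP, Subgroup.index_eq_card] at h
    exact h
  have hN := N.card_mul_index
  rw [hcard, ← hQ] at hN
  have h208 : Nat.card Q * N.index = 208 := by
    rw [mul_right_comm] at hN; omega
  have htQ : ((⟨f tC, ht⟩ : N) : Q) ≠ 1 := by
    intro e
    rw [QuotientGroup.eq_one_iff] at e
    have h27 : (f tC) ^ 27 = 1 := pow27 hP e
    have := orderOf_dvd_of_pow_eq_one h27
    rw [hs.ot] at this
    norm_num at this
  have h2Q : 2 ∣ Nat.card Q := by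
    have e : orderOf ((⟨f tC, ht⟩ : N) : Q) = 2 := by
      refine orderOf_eq_prime ?_ htQ
      rw [← QuotientGroup.mk_pow, show (⟨f tC, ht⟩ : N) ^ 2 = 1 from
        Subtype.ext (by rw [Subgroup.coe_pow, pow_two]; exact tt), QuotientGroup.mk_one]
    exact e ▸ orderOf_dvd_natCard _
  have hidx : 8 ≤ N.index := index_ge hcard fun h => by
    refine not_normal_of_card hcard (H := P) ?_ (by omega) (by omega)
    exact Subgroup.normalizer_eq_top_iff.1 (Subgroup.index_eq_one.1 h)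
  have hQ16 : Nat.card Q ∣ 16 := by
    obtain ⟨m, hm⟩ := h2Q
    have hle : m ≤ 13 := by
      by_contra hlt
      have : 14 * 2 * 8 ≤ Nat.card Q * N.index := Nat.mul_le_mul (by omega) hidx
      omega
    have key : ∀ m < 14, ∀ n < 105, 2 * m * n = 208 → n % 3 = 1 → 8 ≤ n → 2 * m ∣ 16 := by
      decide +kernel
    have hn : N.index < 105 := by
      by_contra hlt
      have hm0 : 1 ≤ m := by
        rcases Nat.eq_zero_or_pos m with h | h
        · rw [hm, h] at h208; omega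
        · exact h
      have : 2 * 105 ≤ Nat.card Q * N.index := Nat.mul_le_mul (by omega) (by omega)
      omega
    rw [hm] at h208 ⊢
    exact key m (by omega) _ hn h208 hmod hidx
  obtain ⟨j, -, hj⟩ := (Nat.dvd_prime_pow Nat.prime_two).1 (show Nat.card Q ∣ 2 ^ 4 from hQ16)
  haveI : Fact (Nat.Prime 2) := ⟨Nat.prime_two⟩
  haveI : Group.IsNilpotent Q := (IsPGroup.of_card hj).isNilpotent
  refine htQ (nilpotent_no_fusion Q _ ((⟨f uC, hu⟩ : N) : Q) ?_ ?_)
  · exact isConj_iff.2 ⟨((⟨g, hg⟩ : N) : Q), by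
      rw [← QuotientGroup.mk_inv, ← QuotientGroup.mk_mul, ← QuotientGroup.mk_mul]
      exact congrArg _ (Subtype.ext hgt)⟩
  · refine isConj_iff.2 ⟨((⟨k, hk⟩ : N) : Q), ?_⟩
    rw [← QuotientGroup.mk_inv, ← QuotientGroup.mk_mul, ← QuotientGroup.mk_mul,
      ← QuotientGroup.mk_mul]
    exact congrArg _ (Subtype.ext (hkt.trans tu.symm))

include hs hcard hconj hP hmem in
theorem central_mem {z : G} (hz : z ∈ P) (hzc : ∀ p ∈ P, Commute p z) :
    z ∈ Subgroup.zpowers (f xC) := by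
  haveI : Fact (Nat.Prime 3) := ⟨Nat.prime_three⟩
  have ox := orderOf_x hs
  have hxP : f xC ∈ P := (hmem _).2 ⟨Commute.refl _, orderOf_dvd_iff_pow_eq_one.1 (ox ▸ by norm_num)⟩
  set Z := Subgroup.center P
  have hxZ : (⟨f xC, hxP⟩ : P) ∈ Z :=
    Subgroup.mem_center_iff.2 fun p => Subtype.ext ((hmem p).1 p.2).1.eq
  obtain ⟨j, hj, hjc⟩ := (Nat.dvd_prime_pow Nat.prime_three).1
    (show Nat.card Z ∣ 3 ^ 3 by
      rw [show (3 : ℕ) ^ 3 = Nat.card P by rw [hP]; rfl]; exact Subgroup.card_subgroup_dvd_card Z)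
  have hj1 : j ≤ 1 := by
    by_contra hlt
    apply noncomm hs hcard hconj hP hmem
    have hidx := Z.card_mul_index
    rw [hjc, hP] at hidx
    haveI : IsCyclic (P ⧸ Z) := by
      interval_cases j
      · exact isCyclic_of_prime_card (p := 3) (by rw [← Subgroup.index_eq_card]; omega)
      · have h1 : Nat.card (P ⧸ Z) = 1 := by rw [← Subgroup.index_eq_card]; omega
        haveI := (Nat.card_eq_one_iff_unique.1 h1).1
        infer_instance
    intro a ha b hb
    exact congrArg Subtype.val (commutative_of_cyclic_center_quotient (QuotientGroup.mk' Z)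
      (by rw [QuotientGroup.ker_mk']) ⟨a, ha⟩ ⟨b, hb⟩)
  have heq : Subgroup.zpowers (⟨f xC, hxP⟩ : P) = Z := by
    refine Subgroup.eq_of_le_of_card_ge (by rwa [Subgroup.zpowers_le]) ?_
    rw [Nat.card_zpowers, Subgroup.orderOf_mk, ox, hjc]
    exact (Nat.pow_le_pow_right (by norm_num) hj1).trans (by norm_num)
  have hzZ : (⟨z, hz⟩ : P) ∈ Z := Subgroup.mem_center_iff.2 fun p => Subtype.ext (hzc p p.2).eq
  rw [← heq] at hzZ
  obtain ⟨i, hi⟩ := hzZ
  exact ⟨i, by simpa using congrArg Subtype.val hi⟩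

include hs hcard hconj hP hC hmem in
theorem card_normalizer : Nat.card (Subgroup.normalizer (P : Set G)) = 108 := by
  obtain ⟨-, -, ux, wx, -, -, -, -, -⟩ := rel_facts hs
  set N := Subgroup.normalizer (P : Set G)
  set x := f xC
  set C := Subgroup.centralizer ({x} : Set G)
  have ox : orderOf x = 3 := orderOf_x hs
  have hxP : x ∈ P := (hmem _).2 ⟨Commute.refl _, orderOf_dvd_iff_pow_eq_one.1 (ox ▸ by norm_num)⟩
  have hx3 : x ^ 3 = 1 := ox ▸ pow_orderOf_eq_one x
  have hcases : ∀ n ∈ N, n * x * n⁻¹ = x ∨ n * x * n⁻¹ = x⁻¹ := by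
    intro n hn
    have hmem' : n * x * n⁻¹ ∈ P := (Subgroup.mem_normalizer_iff.1 hn x).1 hxP
    have hz := central_mem hs hcard hconj hP hmem hmem' fun p hp => by
      have hp' : n⁻¹ * p * n ∈ P := (Subgroup.mem_normalizer_iff''.1 hn p).1 hp
      have := (Commute.conj_iff n).2 ((hmem _).1 hp').1
      rwa [show n * (n⁻¹ * p * n) * n⁻¹ = p by group] at this
    obtain ⟨i, hi⟩ := mem_powers_iff_mem_zpowers.2 hz
    have hi' : n * x * n⁻¹ = x ^ (i % 3) := by rw [← ox, pow_mod_orderOf]; exact hi.symm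
    have := Nat.mod_lt i (show 3 > 0 by norm_num)
    interval_cases h : i % 3
    · rw [pow_zero, conj_eq_one_iff] at hi'
      exact absurd hi' fun e => by rw [e, orderOf_one] at ox; norm_num at ox
    · exact Or.inl (by simpa using hi')
    · refine Or.inr ?_
      rw [hi', eq_inv_iff_mul_eq_one, ← pow_succ]
      exact hx3
  classical
  let φ : N → C × Bool := fun n =>
    if h : (n : G) * x * (n : G)⁻¹ = x then
      (⟨n, Subgroup.mem_centralizer_singleton_iff.2 (mul_inv_eq_iff_eq_mul.1 h)⟩, true)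
    else (⟨f uC * n, Subgroup.mem_centralizer_singleton_iff.2 (mul_inv_eq_iff_eq_mul.1 (by
      rw [show f uC * (n : G) * x * (f uC * (n : G))⁻¹ = f uC * ((n : G) * x * (n : G)⁻¹) * (f uC)⁻¹
        by group, (hcases n n.2).resolve_left h,
        show f uC * x⁻¹ * (f uC)⁻¹ = (f uC * x * (f uC)⁻¹)⁻¹ by group, ux, inv_inv]))⟩, false)
  have hφ : Function.Injective φ := by
    intro a b h
    simp only [φ] at h
    split_ifs at h
    all_goals simp only [Prod.mk.injEq, Subtype.mk.injEq, Bool.true_eq_false, Bool.false_eq_true,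
      and_false, and_true, mul_right_inj] at h
    all_goals exact Subtype.ext h
  have hle := Nat.card_le_card_of_injective φ hφ
  rw [Nat.card_prod, hC] at hle
  simp only [Nat.card_eq_fintype_card, Fintype.card_bool] at hle
  have h27 : 27 ∣ Nat.card N := hP ▸ Subgroup.card_dvd_of_le Subgroup.le_normalizer
  have h4 : 4 ∣ Nat.card N := by
    rw [← card_pV, ← card_subOf hs closed_pV]
    refine Subgroup.card_dvd_of_le ?_
    rintro _ ⟨c, hc, rfl⟩
    rcases hc with rfl | rfl | rfl | rfl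
    · rw [hs.f_one]; exact N.one_mem
    · exact norm_part hmem (Or.inl (by rw [← hs.f_cj, w_facts.2.2]))
    · exact norm_part hmem (Or.inr ux)
    · exact norm_part hmem (Or.inr wx)
  have := Nat.le_of_dvd Nat.card_pos
    ((show Nat.Coprime 27 4 by norm_num).mul_dvd_of_dvd_of_dvd h27 h4)
  omega

include hs hcard hconj hP hC hmem in
theorem exists_max {w w' : G} (hw : w = f uC ∧ w' = f wC ∨ w = f wC ∧ w' = f uC) :
    ∃ y, y ∈ P ∧ y ≠ 1 ∧ orderOf y = 3 ∧ Commute w y ∧ w' * y * w'⁻¹ = y⁻¹ ∧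
      y ∉ Subgroup.zpowers (f xC) ∧
      Nat.card (Subgroup.normalizer (Subgroup.closure ({f xC, y} : Set G) : Set G)) = 432 ∧
      Subgroup.normalizer (P : Set G) ≤
        Subgroup.normalizer (Subgroup.closure ({f xC, y} : Set G) : Set G) := by
  obtain ⟨ou, ow, ux, wx, tu, tw, tt, uu, ww⟩ := rel_facts hs
  set x := f xC
  set t := f tC
  have hdata : orderOf w = 2 ∧ orderOf w' = 2 ∧ w * x * w⁻¹ = x⁻¹ ∧ w * w = 1 ∧ t * w = w' := by
    rcases hw with ⟨rfl, rfl⟩ | ⟨rfl, rfl⟩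
    · exact ⟨ou, ow, ux, uu, tu⟩
    · exact ⟨ow, ou, wx, ww, tw⟩
  obtain ⟨ow1, ow2, hwx, hw2, hww⟩ := hdata
  obtain ⟨y, hy, hy1, hyc⟩ := exists_fixed hs hconj hP hmem ow2 hww hw2 hwx
  obtain ⟨oy, -⟩ := fixed_in hs hconj hP ow1 hy hyc.symm hy hyc.symm hy1
  have ox : orderOf x = 3 := orderOf_x hs
  have hxP : x ∈ P := (hmem _).2 ⟨Commute.refl _, orderOf_dvd_iff_pow_eq_one.1 (ox ▸ by norm_num)⟩
  have hxy : Commute x y := ((hmem y).1 hy).1.symm
  have hy3 : y ^ 3 = 1 := oy ▸ pow_orderOf_eq_one y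
  have hne : y ∉ Subgroup.zpowers x := by
    rintro ⟨i, rfl⟩
    refine hy1 ?_
    have e : w * x ^ i * w⁻¹ = (x ^ i)⁻¹ := by rw [← conj_zpow, hwx, inv_zpow]
    rw [hyc.eq, mul_assoc, mul_inv_cancel, mul_one, eq_inv_iff_mul_eq_one] at e
    rw [pow_succ, pow_two, e, one_mul] at hy3
    exact hy3
  have htN : t ∈ Subgroup.normalizer (P : Set G) :=
    norm_part hmem (Or.inl (by rw [← hs.f_cj, w_facts.2.2]))
  have hwt : Commute w t := by
    rcases hw with ⟨rfl, -⟩ | ⟨rfl, -⟩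
    · exact hs.commute_t _
    · exact hs.commute_t _
  have hty : t * y * t⁻¹ = y⁻¹ := by
    have hmemP : t * y * t⁻¹ ∈ P := (Subgroup.mem_normalizer_iff.1 htN y).1 hy
    have hcw : Commute (t * y * t⁻¹) w := (hyc.symm.symm |> fun h =>
      ((hwt.mul_right h).mul_right hwt.inv_right).symm)
    obtain ⟨-, hz⟩ := fixed_in hs hconj hP ow1 hmemP hcw hy hyc.symm hy1
    obtain ⟨i, hi⟩ := mem_powers_iff_mem_zpowers.2 hz
    have hi' : t * y * t⁻¹ = y ^ (i % 3) := by rw [← oy, pow_mod_orderOf]; exact hi.symm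
    have := Nat.mod_lt i (show 3 > 0 by norm_num)
    interval_cases h : i % 3
    · rw [pow_zero, conj_eq_one_iff] at hi'
      exact absurd hi' hy1
    · exfalso
      have hct : Commute y t := (mul_inv_eq_iff_eq_mul.1 (by simpa using hi') : t * y = y * t).symm
      exact hne (fixed_in hs hconj hP hs.ot hy hct hxP (hs.commute_t xC)
        (fun e => by rw [e, orderOf_one] at ox; norm_num at ox)).2
    · rw [hi', eq_inv_iff_mul_eq_one, ← pow_succ]; exact hy3
  have hw'y : w' * y * w'⁻¹ = y⁻¹ := by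
    rw [← hww, show t * w * y * (t * w)⁻¹ = t * (w * y * w⁻¹) * t⁻¹ by group, hyc.eq,
      mul_assoc y w, mul_inv_cancel, mul_one, hty]
  refine ⟨y, hy, hy1, oy, hyc, hw'y, hne, ?_⟩
  obtain ⟨hEc, -⟩ := card_pair ox oy hxy hne
  set E := Subgroup.closure ({x, y} : Set G) with hE
  set M := Subgroup.normalizer (E : Set G)
  have hxE : x ∈ E := Subgroup.subset_closure (by simp)
  have hyE : y ∈ E := Subgroup.subset_closure (by simp)
  have hEP : E ≤ P := (Subgroup.closure_le P).2 (by rintro _ (rfl | rfl) <;> assumption)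
  have hPM : P ≤ M := fun p hp => mem_norm (normal_in_of_card hEP hP hEc p hp)
  have htM : t ∈ M := mem_norm_closure (by
    rintro _ (rfl | rfl)
    · rw [show t * x * t⁻¹ = x from (hs.f_cj _ _).symm.trans (congrArg f w_facts.2.2)]; exact hxE
    · rw [hty]; exact inv_mem hyE)
  have hwM : w ∈ M := mem_norm_closure (by
    rintro _ (rfl | rfl)
    · rw [hwx]; exact inv_mem hxE
    · rw [hyc.eq, mul_assoc, mul_inv_cancel, mul_one]; exact hyE)
  have hw'M : w' ∈ M := hww ▸ M.mul_mem htM hwM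
  set N := Subgroup.normalizer (P : Set G)
  have hNc := card_normalizer hs hcard hconj hP hC hmem
  have hNM : N ≤ M := by
    have h27 : 27 ∣ Nat.card ↥(N ⊓ M) :=
      hP ▸ Subgroup.card_dvd_of_le (le_inf Subgroup.le_normalizer hPM)
    have h4 : 4 ∣ Nat.card ↥(N ⊓ M) := by
      rw [← card_pV, ← card_subOf hs closed_pV]
      refine Subgroup.card_dvd_of_le ?_
      rintro _ ⟨c, hc, rfl⟩
      rcases hc with rfl | rfl | rfl | rfl
      · rw [hs.f_one]; exact (N ⊓ M).one_mem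
      · exact ⟨htN, htM⟩
      · refine ⟨norm_part hmem (Or.inr ux), ?_⟩
        rcases hw with ⟨h, -⟩ | ⟨-, h⟩ <;> rw [← h] <;> assumption
      · refine ⟨norm_part hmem (Or.inr wx), ?_⟩
        rcases hw with ⟨-, h⟩ | ⟨h, -⟩ <;> rw [← h] <;> assumption
    have hle := Nat.le_of_dvd Nat.card_pos
      ((show Nat.Coprime 27 4 by norm_num).mul_dvd_of_dvd_of_dvd h27 h4)
    exact (Subgroup.eq_of_le_of_card_ge inf_le_left (by rw [hNc]; exact hle)).ge.trans inf_le_right
  refine ⟨?_, hNM⟩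
  -- a second Sylow subgroup inside `M`
  obtain ⟨g, hgt, hgx⟩ := pair_conj hs hconj ow1 oy hyc
  set Q := P.map (MulAut.conj g).toMonoidHom
  have hQc : Nat.card Q = 27 := by
    rw [Subgroup.card_map_of_injective (MulAut.conj g).injective, hP]
  have hQmem : ∀ h, Commute h y → h ^ 27 = 1 → h ∈ Q := by
    intro h hc h27
    refine ⟨g⁻¹ * h * g, (hmem _).2 ⟨?_, ?_⟩, by simp [mul_assoc]⟩
    · refine (Commute.conj_iff g).1 ?_
      rw [show g * (g⁻¹ * h * g) * g⁻¹ = h by group, hgx]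
      exact hc
    · rw [show g⁻¹ * h * g = g⁻¹ * h * g⁻¹⁻¹ by group, conj_pow, h27, mul_one, mul_inv_cancel]
  have hEQ : E ≤ Q := (Subgroup.closure_le Q).2 (by
    rintro _ (rfl | rfl)
    · exact hQmem _ hxy (pow27 hP hxP)
    · exact hQmem _ (Commute.refl _) (pow27 hP hy))
  have hQM : Q ≤ M := fun p hp => mem_norm (normal_in_of_card hEQ hQc hEc p hp)
  have hQP : Q ≠ P := by
    intro e
    refine hne (central_mem hs hcard hconj hP hmem hy fun p hp => ?_)
    rw [← e] at hp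
    obtain ⟨q, hq, rfl⟩ := hp
    have := (Commute.conj_iff g).2 ((hmem q).1 hq).1
    rwa [hgx] at this
  haveI : Fact (Nat.Prime 3) := ⟨Nat.prime_three⟩
  obtain ⟨a, ha⟩ := (hNc ▸ Subgroup.card_dvd_of_le hNM : 108 ∣ Nat.card M)
  have hMidx := M.card_mul_index
  rw [hcard, ha, mul_assoc] at hMidx
  have ha52 : a * M.index = 52 := by omega
  have ha3 : ¬ 3 ∣ 4 * a := by
    intro h
    have h3 : 3 ∣ a := (show Nat.Coprime 3 4 by norm_num).dvd_of_dvd_mul_left h
    have := h3.trans (Dvd.intro _ ha52)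
    norm_num at this
  have hMc : Nat.card M = 3 ^ 3 * (4 * a) := by rw [ha]; ring
  have hsyl : ∀ R : Subgroup G, Nat.card R = 27 → R ≤ M →
      ∃ S : Sylow 3 M, (S : Subgroup M) = R.subgroupOf M := by
    intro R hR hRM
    have hc : Nat.card (R.subgroupOf M) = 27 := by
      rw [Nat.card_congr (Subgroup.subgroupOfEquivOfLe hRM).toEquiv, hR]
    obtain ⟨S, hS⟩ := (IsPGroup.of_card (n := 3) (by rw [hc]; norm_num) :
      IsPGroup 3 (R.subgroupOf M)).exists_le_sylow
    exact ⟨S, (Subgroup.eq_of_le_of_card_ge hS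
      (by rw [hc]; exact (sylow_card hMc ha3 S).le)).symm⟩
  obtain ⟨S, hS⟩ := hsyl P hP hPM
  obtain ⟨S', hS'⟩ := hsyl Q hQc hQM
  have hnorm : Subgroup.normalizer ((S : Subgroup M) : Set M) = N.subgroupOf M := by
    ext m
    rw [hS, Subgroup.mem_subgroupOf]
    constructor
    · intro hm
      refine mem_norm fun p hp => ?_
      exact (Subgroup.mem_normalizer_iff.1 hm ⟨p, hPM hp⟩).1 hp
    · intro hm
      exact mem_norm fun p hp => (Subgroup.mem_normalizer_iff.1 hm p).1 hp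
  have hcount := card_sylow_modEq_one 3 M
  have hnum : Nat.card (Sylow 3 M) = a := by
    rw [S.card_eq_index_normalizer]
    change (Subgroup.normalizer ((S : Subgroup M) : Set M)).index = a
    rw [hnorm]
    have h := (N.subgroupOf M).card_mul_index
    rw [Nat.card_congr (Subgroup.subgroupOfEquivOfLe hNM).toEquiv, hNc, ha] at h
    omega
  have ha1 : a ≠ 1 := by
    intro h
    rw [h] at hnum
    haveI := (Nat.card_eq_one_iff_unique.1 hnum).1
    apply hQP
    have e : S = S' := Subsingleton.elim _ _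
    have e' : P.subgroupOf M = Q.subgroupOf M := by rw [← hS, ← hS', e]
    rw [Subgroup.subgroupOf_inj, inf_of_le_left hPM, inf_of_le_left hQM] at e'
    exact e'.symm
  have hi1 : M.index ≠ 1 := fun h => by
    refine not_normal_of_card hcard (H := E) ?_ (by omega) (by omega)
    exact Subgroup.normalizer_eq_top_iff.1 (Subgroup.index_eq_one.1 h)
  have hi8 := index_ge hcard hi1
  rw [hnum] at hcount
  have ha6 : a ≤ 6 := by
    by_contra hlt
    have : 7 * 8 ≤ a * M.index := Nat.mul_le_mul (by omega) hi8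
    omega
  have ha4 : a = 4 := by
    have hdvd : a ∣ 52 := Dvd.intro _ ha52
    have hmod' : a % 3 = 1 := hcount
    interval_cases a <;> first | rfl | omega | (exfalso; norm_num at hdvd)
  rw [ha, ha4]

include hs hcard hconj hP hC hmem in
theorem exists_two : ∃ M₁ M₂ : Subgroup G, Nat.card M₁ = 432 ∧ Nat.card M₂ = 432 ∧
    Nat.card ↥(M₁ ⊓ M₂) = 108 := by
  obtain ⟨y, hy, hy1, oy, hyc, hyw, hyn, hM1, hN1⟩ :=
    exists_max hs hcard hconj hP hC hmem (Or.inl ⟨rfl, rfl⟩)
  obtain ⟨z, hz, hz1, oz, hzc, -, -, hM2, hN2⟩ :=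
    exists_max hs hcard hconj hP hC hmem (Or.inr ⟨rfl, rfl⟩)
  refine ⟨_, _, hM1, hM2, ?_⟩
  have ox := orderOf_x hs
  obtain ⟨-, -, -, wx, -, -, -, -, -⟩ := rel_facts hs
  set x := f xC
  have hxP : x ∈ P := (hmem _).2 ⟨Commute.refl _, orderOf_dvd_iff_pow_eq_one.1 (ox ▸ by norm_num)⟩
  have hxy : Commute x y := ((hmem y).1 hy).1.symm
  obtain ⟨hEc, hEmem⟩ := card_pair ox oy hxy hyn
  set E1 := Subgroup.closure ({x, y} : Set G) with hE1
  set E2 := Subgroup.closure ({x, z} : Set G) with hE2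
  have hzE : z ∉ E1 := by
    intro h
    obtain ⟨i, -, j, -, e⟩ := hEmem z h
    have e' : f wC * z * (f wC)⁻¹ = z⁻¹ := by
      rw [e, show f wC * (x ^ i * y ^ j) * (f wC)⁻¹ =
        (f wC * x ^ i * (f wC)⁻¹) * (f wC * y ^ j * (f wC)⁻¹) by group, ← conj_pow, wx, ← conj_pow,
        hyw, mul_inv_rev, inv_pow, inv_pow, ((hxy.pow_pow i j).inv_inv).eq]
    rw [hzc.eq, mul_assoc, mul_inv_cancel, mul_one, eq_inv_iff_mul_eq_one] at e'
    have h3 : z ^ 3 = 1 := oz ▸ pow_orderOf_eq_one z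
    rw [pow_succ, pow_two, e', one_mul] at h3
    exact hz1 h3
  have hsup : P = Subgroup.closure ({x, y, z} : Set G) := by
    have hle : Subgroup.closure ({x, y, z} : Set G) ≤ P :=
      (Subgroup.closure_le P).2 (by rintro _ (rfl | rfl | rfl) <;> assumption)
    have h1 : E1 < Subgroup.closure ({x, y, z} : Set G) := by
      refine lt_of_le_of_ne (Subgroup.closure_mono (by
        rintro _ (rfl | rfl) <;> simp)) fun e => hzE ?_
      rw [e]
      exact Subgroup.subset_closure (by simp)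
    have h9 : 9 < Nat.card (Subgroup.closure ({x, y, z} : Set G)) := by
      rw [← hEc]
      by_contra hlt
      exact h1.ne (Subgroup.eq_of_le_of_card_ge h1.le (not_lt.1 hlt))
    obtain ⟨j, hj, hjc⟩ := (Nat.dvd_prime_pow Nat.prime_three).1
      (show Nat.card (Subgroup.closure ({x, y, z} : Set G)) ∣ 3 ^ 3 by
        rw [show (3 : ℕ) ^ 3 = Nat.card P by rw [hP]; rfl]; exact Subgroup.card_dvd_of_le hle)
    refine (Subgroup.eq_of_le_of_card_ge hle ?_).symm
    rw [hP, hjc]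
    rw [hjc] at h9
    interval_cases j <;> omega
  rw [show Subgroup.normalizer (E1 : Set G) ⊓ Subgroup.normalizer (E2 : Set G) =
    Subgroup.normalizer (P : Set G) from le_antisymm ?_ (le_inf hN1 hN2)]
  · exact card_normalizer hs hcard hconj hP hC hmem
  · rintro n ⟨h1, h2⟩
    have hE1P : E1 ≤ Subgroup.closure ({x, y, z} : Set G) :=
      Subgroup.closure_mono (by rintro _ (rfl | rfl) <;> simp)
    have hE2P : E2 ≤ Subgroup.closure ({x, y, z} : Set G) :=
      Subgroup.closure_mono (by rintro _ (rfl | rfl) <;> simp)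
    rw [hsup]
    refine mem_norm_closure ?_
    intro a ha
    rcases ha with e | e | e <;> rw [e]
    · exact hE1P ((Subgroup.mem_normalizer_iff.1 h1 x).1 (Subgroup.subset_closure (by simp)))
    · exact hE1P ((Subgroup.mem_normalizer_iff.1 h1 y).1 (Subgroup.subset_closure (by simp)))
    · exact hE2P ((Subgroup.mem_normalizer_iff.1 h2 z).1 (Subgroup.subset_closure (by simp)))

end Three

end Cfsg.Agent.GL23Recog95
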