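import Cfsg.Agent.Lib.GL23Recog95Max
import Cfsg.Agent.Lib.CommGraphL33Plane

/-!
A simple group of order 5616 with two subgroups of order 432 meeting in a subgroup of order 108
acts on the projective plane of order three, through a difference set for thirteen.
-/

set_option autoImplicit false
set_option synthInstance.maxSize 4096
set_option maxRecDepth 100000

namespace Cfsg.Agent.GL23Recog95

open CommGraphL33 (inc Coll IsColl collEquiv card_Coll_le card_S)

universe u

/-- the difference set -/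
def dSet : Finset (ZMod 13) := {0, 1, 3, 9}

/-- identification of residues with points -/
def tauP (i : ZMod 13) : Fin 13 :=
  (![0, 1, 2, 4, 6, 3, 11, 12, 5, 10, 7, 9, 8] : Fin 13 → Fin 13) i

theorem tauP_injective : Function.Injective tauP := by decide +kernel

theorem line_of_inc : ∀ l : Fin 13, ∃ k : ZMod 13, ∀ p, inc p l = true →
    ∃ b ∈ dSet, tauP (k + b) = p := by decide +kernel

theorem inc_of_line : ∀ k : ZMod 13, ∃ l : Fin 13, ∀ b ∈ dSet, inc (tauP (k + b)) l = true := by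
  decide +kernel

/-- the orbit of `i` under multiplication by three -/
def orb (i : ZMod 13) : Finset (ZMod 13) := {i, 3 * i, 9 * i}

theorem orb_facts : ∀ i : ZMod 13, i ≠ 0 → (orb i).card = 3 ∧ (0 : ZMod 13) ∉ orb i ∧
    insert 0 (orb i) = dSet.image (fun b => i * b) ∧
    ∀ j, 3 * j ∈ orb i → j ∈ orb i := by decide +kernel

theorem three_ne_zero13 : (3 : ZMod 13) ≠ 0 := by decide +kernel

theorem three_fix : ∀ j : ZMod 13, 3 * j = j → j = 0 := by decide +kernel

theorem invariant_sets {D : Finset (ZMod 13)} (hc : D.card = 4)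
    (hD : D.image (fun i => 3 * i) = D) :
    ∃ m : ZMod 13, m ≠ 0 ∧ D = dSet.image (fun i => m * i) := by
  obtain ⟨i, hi, hi0⟩ : ∃ i ∈ D, i ≠ 0 := by
    by_contra h
    push Not at h
    have := Finset.card_le_card (show D ⊆ {0} from fun x hx => Finset.mem_singleton.2 (h x hx))
    rw [Finset.card_singleton] at this
    omega
  have h3 : ∀ j ∈ D, 3 * j ∈ D := fun j hj => hD ▸ Finset.mem_image_of_mem _ hj
  obtain ⟨hO, h0, himg, hback⟩ := orb_facts i hi0
  have hsub : orb i ⊆ D := by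
    intro j hj
    simp only [orb, Finset.mem_insert, Finset.mem_singleton] at hj
    rcases hj with rfl | rfl | rfl
    · exact hi
    · exact h3 _ hi
    · have := h3 _ (h3 _ hi)
      rwa [← mul_assoc, show (3 : ZMod 13) * 3 = 9 by decide] at this
  obtain ⟨j, hj⟩ := Finset.card_eq_one.1 (show (D \ orb i).card = 1 by
    rw [Finset.card_sdiff_of_subset hsub, hc, hO])
  have hjm : j ∈ D \ orb i := hj ▸ Finset.mem_singleton_self j
  rw [Finset.mem_sdiff] at hjm
  have hj3 : 3 * j ∈ D \ orb i := Finset.mem_sdiff.2 ⟨h3 _ hjm.1, fun h => hjm.2 (hback j h)⟩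
  rw [hj, Finset.mem_singleton] at hj3
  refine ⟨i, hi0, ?_⟩
  rw [← himg, ← Finset.sdiff_union_of_subset hsub, hj, three_fix j hj3]
  rfl

theorem order_three_units : ∀ r : ℕ, r < 13 → ((r : ZMod 13)) ^ 3 = 1 →
    r = 1 ∨ r = 3 ∨ r = 9 := by decide +kernel

variable {G : Type u} [Group G] [Finite G] [IsSimpleGroup G]

theorem card13_of_two (hcard : Nat.card G = 5616)
    (h13 : ∀ s : G, orderOf s = 13 → Nat.card (Subgroup.centralizer ({s} : Set G)) = 13 ∧
      Nat.card (Subgroup.normalizer (Subgroup.zpowers s : Set G)) = 39) :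
    ∃ s y : G, orderOf s = 13 ∧ orderOf y = 3 ∧ y * s * y⁻¹ = s ^ 3 := by
  haveI : Fact (Nat.Prime 13) := ⟨by norm_num⟩
  haveI : Fact (Nat.Prime 3) := ⟨Nat.prime_three⟩
  obtain ⟨s, hs⟩ := exists_prime_orderOf_dvd_card' (G := G) 13 (by rw [hcard]; norm_num)
  obtain ⟨hC, hN⟩ := h13 s hs
  obtain ⟨y', hy'⟩ := exists_prime_orderOf_dvd_card'
    (G := Subgroup.normalizer (Subgroup.zpowers s : Set G)) 3 (by rw [hN]; norm_num)
  have oy : orderOf (y' : G) = 3 := by rw [Subgroup.orderOf_coe, hy']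
  have hmem : (y' : G) * s * (y' : G)⁻¹ ∈ Subgroup.zpowers s :=
    (Subgroup.mem_normalizer_iff.1 y'.2 s).1 (Subgroup.mem_zpowers s)
  obtain ⟨n, hn⟩ := mem_powers_iff_mem_zpowers.2 hmem
  set r := n % 13
  have hr : (y' : G) * s * (y' : G)⁻¹ = s ^ r := by
    rw [show r = n % orderOf s by rw [hs], pow_mod_orderOf]; exact hn.symm
  have hit : ∀ k : ℕ, (y' : G) ^ k * s * ((y' : G) ^ k)⁻¹ = s ^ r ^ k := by
    intro k
    induction k with
    | zero => simp
    | succ k ih =>
      rw [pow_succ', show (y' : G) * (y' : G) ^ k * s * ((y' : G) * (y' : G) ^ k)⁻¹ =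
        (y' : G) * ((y' : G) ^ k * s * ((y' : G) ^ k)⁻¹) * (y' : G)⁻¹ by group, ih, ← conj_pow, hr,
        ← pow_mul, pow_succ']
  have h3 := hit 3
  rw [← oy, pow_orderOf_eq_one, one_mul, inv_one, mul_one, oy] at h3
  have hr3 : ((r : ZMod 13)) ^ 3 = 1 := by
    rw [← Nat.cast_pow, ← Nat.cast_one, ZMod.natCast_eq_natCast_iff, ← hs, ← pow_eq_pow_iff_modEq,
      pow_one]
    exact h3.symm
  rcases order_three_units r (Nat.mod_lt _ (by norm_num)) hr3 with h | h | h
  · exfalso
    rw [h, pow_one] at hr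
    have hd := orderOf_dvd_natCard (⟨(y' : G), Subgroup.mem_centralizer_singleton_iff.2
      (mul_inv_eq_iff_eq_mul.1 hr)⟩ : Subgroup.centralizer ({s} : Set G))
    rw [Subgroup.orderOf_mk, oy, hC] at hd
    norm_num at hd
  · exact ⟨s, y', hs, oy, h ▸ hr⟩
  · refine ⟨s, (y' : G) ^ 2, hs, ?_, ?_⟩
    · rw [orderOf_pow' _ (by norm_num), oy]; rfl
    · rw [hit, h, show 9 ^ 2 = 13 * 6 + 3 from rfl, pow_add, pow_mul, ← hs, pow_orderOf_eq_one,
        one_pow, one_mul]

theorem nonempty_iso_of_two (hcard : Nat.card G = 5616) {M₁ M₂ : Subgroup G}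
    (h1 : Nat.card M₁ = 432) (h2 : Nat.card M₂ = 432) (h12 : Nat.card ↥(M₁ ⊓ M₂) = 108)
    (h13 : ∀ s : G, orderOf s = 13 → Nat.card (Subgroup.centralizer ({s} : Set G)) = 13 ∧
      Nat.card (Subgroup.normalizer (Subgroup.zpowers s : Set G)) = 39) :
    Nonempty (G ≃* CommGraphL33.S) := by
  classical
  haveI : Fact (Nat.Prime 13) := ⟨by norm_num⟩
  obtain ⟨s, y, hs, oy, hys⟩ := card13_of_two hcard h13
  let c : ZMod 13 → G := fun i => s ^ i.val
  have c_add : ∀ i j, c (i + j) = c i * c j := fun i j => by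
    simp only [c]
    rw [ZMod.val_add, ← pow_add]
    conv_rhs => rw [← pow_mod_orderOf, hs]
  have c_zero : c 0 = 1 := by simp [c]
  have c_three : ∀ i, y * c i * y⁻¹ = c (3 * i) := fun i => by
    simp only [c]
    rw [← conj_pow, hys, ← pow_mul, ZMod.val_mul]
    conv_lhs => rw [← pow_mod_orderOf, hs]
    rfl
  have c_eq_one : ∀ i, c i = 1 → i = 0 := fun i hi => by
    have hd := orderOf_dvd_iff_pow_eq_one.2 hi
    rw [hs] at hd
    have := ZMod.val_lt i
    refine (ZMod.val_eq_zero i).1 ?_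
    omega
  have idx : ∀ M : Subgroup G, Nat.card M = 432 → Nat.card (G ⧸ M) = 13 := by
    intro M hM
    have h := M.card_mul_index
    rw [hM, hcard, Subgroup.index_eq_card] at h
    omega
  have free : ∀ (M : Subgroup G), Nat.card M = 432 → ∀ g : G,
      Function.Bijective (fun i => ((c i * g : G) : G ⧸ M)) := by
    intro M hM g
    haveI : Fintype (G ⧸ M) := Fintype.ofFinite _
    rw [Fintype.bijective_iff_injective_and_card, ZMod.card, ← Nat.card_eq_fintype_card, idx M hM]
    refine ⟨fun i j hij => ?_, rfl⟩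
    rw [QuotientGroup.eq] at hij
    set k := -i + j
    have hk : g⁻¹ * c k * g ∈ M := by
      have e : c k = (c i)⁻¹ * c j := by
        rw [eq_inv_mul_iff_mul_eq, ← c_add]
        simp [k]
      rw [e]
      simpa [mul_assoc] using hij
    have hd : orderOf (c k) ∣ 432 := by
      rw [show orderOf (c k) = orderOf (g⁻¹ * c k * g) from
        (by rw [show g⁻¹ * c k * g = MulAut.conj g⁻¹ (c k) by simp, MulEquiv.orderOf_eq]), ← hM,
        ← Subgroup.orderOf_mk _ hk]
      exact orderOf_dvd_natCard _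
    have hd' : orderOf (c k) ∣ 13 := hs ▸ orderOf_pow_dvd _
    have h1 := Nat.eq_one_of_dvd_coprimes (show Nat.Coprime 432 13 by norm_num) hd hd'
    have := c_eq_one k (orderOf_eq_one_iff.1 h1)
    rw [show k = -i + j from rfl, neg_add_eq_zero] at this
    exact this
  -- the fixed point and the fixed line of `y`
  have fixed : ∀ M : Subgroup G, Nat.card M = 432 → ∃ g : G, ((y * g : G) : G ⧸ M) = (g : G ⧸ M) := by
    intro M hM
    haveI : Fact (Nat.Prime 3) := ⟨Nat.prime_three⟩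
    obtain ⟨q, hq⟩ := (IsPGroup.of_card (n := 1) (by rw [Nat.card_zpowers, oy]; rfl) :
      IsPGroup 3 (Subgroup.zpowers y)).nonempty_fixed_point_of_prime_not_dvd_card (G ⧸ M)
      (by rw [idx M hM]; norm_num)
    induction q using QuotientGroup.induction_on with
    | _ g => exact ⟨g, hq ⟨y, Subgroup.mem_zpowers y⟩⟩
  obtain ⟨g₀, hg₀⟩ := fixed M₁ h1
  obtain ⟨g₁, hg₁⟩ := fixed M₂ h2
  let ι : ZMod 13 → G ⧸ M₁ := fun i => ((c i * g₀ : G) : G ⧸ M₁)
  have hι := free M₁ h1 g₀
  let Line : G → G ⧸ M₁ → Prop := fun g q => ∃ n ∈ M₂, ((g * n : G) : G ⧸ M₁) = q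
  have line_smul : ∀ a g q, Line g q → Line (a * g) (a • q) := by
    rintro a g _ ⟨n, hn, rfl⟩
    exact ⟨n, hn, by rw [mul_assoc]; rfl⟩
  have line_eq : ∀ g g' : G, (g : G ⧸ M₂) = (g' : G ⧸ M₂) → ∀ q, Line g q → Line g' q := by
    rintro g g' h q ⟨n, hn, rfl⟩
    exact ⟨g'⁻¹ * g * n, M₂.mul_mem (by rw [← QuotientGroup.eq]; exact h.symm) hn,
      by simp [mul_assoc]⟩
  have y_ι : ∀ i, y • ι i = ι (3 * i) := fun i => by
    show ((y * (c i * g₀) : G) : G ⧸ M₁) = ((c (3 * i) * g₀ : G) : G ⧸ M₁)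
    rw [show y * (c i * g₀) = c (3 * i) * (y * g₀) by rw [← c_three]; group]
    exact congrArg (c (3 * i) • ·) hg₀
  let D : Finset (ZMod 13) := Finset.univ.filter fun i => Line g₁ (ι i)
  have hD3 : D.image (fun i => 3 * i) = D := by
    refine Finset.eq_of_subset_of_card_le ?_ ?_
    · intro j hj
      obtain ⟨i, hi, rfl⟩ := Finset.mem_image.1 hj
      simp only [D, Finset.mem_filter, Finset.mem_univ, true_and] at hi ⊢
      rw [← y_ι]
      exact line_eq _ _ hg₁ _ (line_smul y _ _ hi)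
    · rw [Finset.card_image_of_injective]
      exact fun a b h => mul_left_cancel₀ three_ne_zero13 h
  have hD4 : D.card = 4 := by
    have hidx : (M₁.subgroupOf M₂).index = 4 := by
      have h := (M₁.subgroupOf M₂).card_mul_index
      have hc : Nat.card (M₁.subgroupOf M₂) = 108 := by
        rw [← h12, ← Subgroup.inf_subgroupOf_right,
          Nat.card_congr (Subgroup.subgroupOfEquivOfLe inf_le_right).toEquiv]
      rw [hc, h2] at h
      omega
    let e := Equiv.ofBijective ι hι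
    let φ : M₂ ⧸ M₁.subgroupOf M₂ → {i // i ∈ D} := fun q =>
      ⟨e.symm ((g₁ * (q.out : G) : G) : G ⧸ M₁), by
        simp only [D, Finset.mem_filter, Finset.mem_univ, true_and]
        exact ⟨q.out, q.out.2, (e.apply_symm_apply _).symm⟩⟩
    have hφ : Function.Bijective φ := by
      constructor
      · intro a b h
        have h' : ((g₁ * (a.out : G) : G) : G ⧸ M₁) = ((g₁ * (b.out : G) : G) : G ⧸ M₁) :=
          e.symm.injective (congrArg Subtype.val h)
        rw [QuotientGroup.eq] at h'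
        rw [← Quotient.out_eq a, ← Quotient.out_eq b]
        refine QuotientGroup.eq.2 ?_
        rw [Subgroup.mem_subgroupOf]
        simpa [mul_assoc] using h'
      · rintro ⟨i, hi⟩
        simp only [D, Finset.mem_filter, Finset.mem_univ, true_and] at hi
        obtain ⟨n, hn, hni⟩ := hi
        refine ⟨((⟨n, hn⟩ : M₂) : M₂ ⧸ M₁.subgroupOf M₂), Subtype.ext ?_⟩
        show e.symm _ = i
        rw [Equiv.symm_apply_eq]
        refine Eq.trans ?_ hni
        refine QuotientGroup.eq.2 ?_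
        have h := QuotientGroup.eq.1 (Quotient.out_eq ((⟨n, hn⟩ : M₂) : M₂ ⧸ M₁.subgroupOf M₂))
        rw [Subgroup.mem_subgroupOf] at h
        simpa [mul_assoc] using h
    have := Nat.card_eq_of_bijective φ hφ
    rw [← Subgroup.index_eq_card, hidx] at this
    rw [this, Nat.card_eq_fintype_card, Fintype.card_coe]
  obtain ⟨m, hm, hDm⟩ := invariant_sets hD4 hD3
  let κ : ZMod 13 → G ⧸ M₁ := fun i => ι (m * i)
  have hκ : Function.Bijective κ := hι.comp (Equiv.mulLeft₀ m hm).bijective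
  have hτ : Function.Bijective tauP :=
    (Fintype.bijective_iff_injective_and_card tauP).2 ⟨tauP_injective, by simp⟩
  let E : G ⧸ M₁ ≃ Fin 13 := (Equiv.ofBijective κ hκ).symm.trans (Equiv.ofBijective tauP hτ)
  have E_apply : ∀ i, E (κ i) = tauP i := fun i => by
    show tauP ((Equiv.ofBijective κ hκ).symm (κ i)) = tauP i
    rw [Equiv.ofBijective_symm_apply_apply]
  let π : G →* Equiv.Perm (Fin 13) :=
    (E.permCongrHom.toMonoidHom).comp (MulAction.toPermHom G (G ⧸ M₁))
  have π_apply : ∀ g q, π g (E q) = E (g • q) := fun g q => by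
    show E (g • E.symm (E q)) = _
    rw [Equiv.symm_apply_apply]
  have hcoll : ∀ g, π g ∈ Coll := by
    intro g l
    obtain ⟨k, hk⟩ := line_of_inc l
    obtain ⟨k', hk'⟩ := (free M₂ h2 g₁).2 ((g * (c (m * k) * g₁) : G) : G ⧸ M₂)
    obtain ⟨k'', hk''⟩ : ∃ k'', m * k'' = k' := ⟨m⁻¹ * k', by
      rw [← mul_assoc, ZMod.mul_inv_of_unit m (by
        haveI : Fact (Nat.Prime 13) := ⟨by norm_num⟩; exact hm.isUnit), one_mul]⟩
    obtain ⟨l', hl'⟩ := inc_of_line k''
    refine ⟨l', fun p hp => ?_⟩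
    obtain ⟨b, hb, rfl⟩ := hk p hp
    rw [← E_apply, π_apply]
    have h0 : Line g₁ (ι (m * b)) := by
      have : m * b ∈ D := by rw [hDm]; exact Finset.mem_image_of_mem _ hb
      exact (Finset.mem_filter.1 this).2
    have h1 : Line (g * (c (m * k) * g₁)) (g • κ (k + b)) := by
      refine line_smul g _ _ ?_
      have := line_smul (c (m * k)) _ _ h0
      rwa [show c (m * k) • ι (m * b) = κ (k + b) by
        show ((c (m * k) * (c (m * b) * g₀) : G) : G ⧸ M₁) = ((c (m * (k + b)) * g₀ : G) : G ⧸ M₁)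
        rw [mul_add, c_add, mul_assoc]] at this
    obtain ⟨n, hn, hq⟩ := line_eq _ _ hk'.symm _ h1
    have h3 : Line g₁ ((c k')⁻¹ • (g • κ (k + b))) := by
      refine ⟨n, hn, ?_⟩
      rw [← hq]
      show _ = ((( c k')⁻¹ * (c k' * g₁ * n) : G) : G ⧸ M₁)
      simp [mul_assoc]
    obtain ⟨i, hi⟩ := hι.2 ((c k')⁻¹ • (g • κ (k + b)))
    rw [← hi] at h3
    have hiD : i ∈ D := Finset.mem_filter.2 ⟨Finset.mem_univ _, h3⟩
    rw [hDm] at hiD
    obtain ⟨b', hb', rfl⟩ := Finset.mem_image.1 hiD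
    rw [eq_inv_smul_iff] at hi
    rw [← hi, show c k' • ι (m * b') = κ (k'' + b') by
      show ((c k' * (c (m * b') * g₀) : G) : G ⧸ M₁) = ((c (m * (k'' + b')) * g₀ : G) : G ⧸ M₁)
      rw [mul_add, c_add, mul_assoc, hk''], E_apply]
    exact hl' b' hb'
  let ρ : G →* Coll := π.codRestrict Coll hcoll
  have hρ : Function.Injective ρ := by
    rw [← MonoidHom.ker_eq_bot_iff]
    refine (MonoidHom.normal_ker ρ).eq_bot_or_eq_top.resolve_right fun h => ?_
    obtain ⟨i, hi⟩ : ∃ i : ZMod 13, i ≠ 0 := ⟨1, one_ne_zero⟩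
    have hfix : π (c i) (E (ι 0)) = E (ι 0) := by
      have : c i ∈ ρ.ker := by rw [h]; trivial
      have e : π (c i) = 1 := congrArg Subtype.val (MonoidHom.mem_ker.1 this)
      rw [e]; rfl
    rw [π_apply, E.injective.eq_iff] at hfix
    refine hi (hι.1 (Eq.trans ?_ hfix))
    show ((c i * g₀ : G) : G ⧸ M₁) = ((c i * (c 0 * g₀) : G) : G ⧸ M₁)
    rw [c_zero, one_mul]
  exact ⟨(MulEquiv.ofBijective ρ ((Nat.bijective_iff_injective_and_card ρ).2
    ⟨hρ, le_antisymm (Nat.card_le_card_of_injective ρ hρ) (hcard ▸ card_Coll_le)⟩)).trans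
    collEquiv.symm⟩

end Cfsg.Agent.GL23Recog95
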