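import Mathlib
import Cfsg.Agent.Lib.PSLCard
import Cfsg.Agent.Lib.OrthUnitaryHerm
import Cfsg.Prelude.Def_Sz
import Cfsg.Prelude.Def_Classical

set_option autoImplicit false
set_option linter.style.haveILetI false

namespace Cfsg.Agent.GL52Sections
open Subgroup

theorem card_GL52 : Nat.card (GL (Fin 5) (ZMod 2)) = 9999360 := by
  rw [PSLCard.card_GL]
  simp [Fin.prod_univ_five, Nat.card_zmod]

/-- A field with eight elements contains a root of `X³ + X + 1`. -/
theorem exists_cubic_root {F : Type} [Field F] [Fintype F] (h : Fintype.card F = 8) :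
    ∃ a : F, a ^ 3 + a + 1 = 0 ∧ (2 : F) = 0 := by
  haveI : CharP F 2 := by
    obtain ⟨p, hp⟩ := CharP.exists F
    haveI := Fact.mk (CharP.char_is_prime F p)
    obtain ⟨n, -, hn⟩ := FiniteField.card F p
    rw [h] at hn
    have : p ∣ 2 ^ 3 := by rw [show (2:ℕ) ^ 3 = 8 from rfl, hn]; exact dvd_pow_self p n.ne_zero
    have := (Nat.prime_dvd_prime_iff_eq (CharP.char_is_prime F p) Nat.prime_two).1 ((CharP.char_is_prime F p).dvd_of_dvd_pow this)
    exact this ▸ hp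
  have h2 : (2 : F) = 0 := CharP.cast_eq_zero F 2
  classical
  obtain ⟨a, ha⟩ : ∃ a : F, a ≠ 0 ∧ a ≠ 1 := by
    have : ({0, 1} : Finset F) ≠ Finset.univ := fun e => by
      have := congrArg Finset.card e
      rw [Finset.card_univ, h] at this
      have := (Finset.card_insert_le (0:F) {1})
      simp at *
    obtain ⟨a, ha⟩ : ∃ a, a ∉ ({0, 1} : Finset F) := by
      by_contra hc
      push Not at hc
      exact this (Finset.eq_univ_of_forall hc)
    exact ⟨a, by simpa using ha⟩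
  have h7 : a ^ 7 = 1 := by
    have := FiniteField.pow_card_sub_one_eq_one a ha.1
    rwa [h] at this
  have hf : (a + 1) * ((a ^ 3 + a + 1) * (a ^ 3 + a ^ 2 + 1)) = a ^ 7 - 1 := by
    linear_combination (a ^ 6 + a ^ 5 + 2 * a ^ 4 + 2 * a ^ 3 + a ^ 2 + a + 1) * h2
  rw [h7, sub_self] at hf
  rcases mul_eq_zero.1 hf with h1 | h1
  · exact absurd (by linear_combination h1 - h2) ha.2
  rcases mul_eq_zero.1 h1 with h1 | h1
  · exact ⟨a, h1, h2⟩
  · refine ⟨a⁻¹, ?_, h2⟩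
    have h0 := ha.1
    field_simp
    linear_combination h1

/-- `PSL(2,8)` has an element of order 9. -/
theorem exists_orderOf_nine {F : Type} [Field F] [Fintype F] (h : Fintype.card F = 8) :
    ∃ x : Matrix.ProjectiveSpecialLinearGroup (Fin 2) F, orderOf x = 9 := by
  obtain ⟨a, ha, h2⟩ := exists_cubic_root h
  let A : Matrix.SpecialLinearGroup (Fin 2) F := ⟨!![0, 1; 1, a], by simp [Matrix.det_fin_two]; linear_combination (-1:F) * h2⟩
  have e2 : (A : Matrix (Fin 2) (Fin 2) F) ^ 2 = !![1, a; a, a ^ 2 + 1] := by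
    simp [A, sq, Matrix.mul_fin_two, add_comm]
  have e3 : (A : Matrix (Fin 2) (Fin 2) F) ^ 3 = !![a, a ^ 2 + 1; a ^ 2 + 1, a ^ 3 + 2 * a] := by
    rw [pow_succ, e2]; simp [A, Matrix.mul_fin_two]; ring_nf; simp
  have e9 : (A : Matrix (Fin 2) (Fin 2) F) ^ 9 = 1 := by
    rw [show 9 = 3 * 3 from rfl, pow_mul, e3, pow_succ, sq, Matrix.mul_fin_two, Matrix.mul_fin_two, Matrix.one_fin_two]
    ext i j
    fin_cases i <;> fin_cases j <;> simp <;> grind
  refine ⟨QuotientGroup.mk A, ?_⟩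
  have hc : ∀ B : Matrix.SpecialLinearGroup (Fin 2) F, B ∈ center (Matrix.SpecialLinearGroup (Fin 2) F) → B = 1 := by
    intro B hB
    obtain ⟨r, hr, hrB⟩ := Matrix.SpecialLinearGroup.mem_center_iff.1 hB
    apply Subtype.ext
    rw [← hrB]
    have : r = 1 := by
      have hr2 : r ^ 2 = 1 := by simpa using hr
      have : (r - 1) ^ 2 = 0 := by linear_combination hr2 - (r - 1) * h2
      exact sub_eq_zero.1 (pow_eq_zero_iff (by norm_num) |>.1 this)
    simp [this]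
  haveI : Fact (Nat.Prime 3) := ⟨Nat.prime_three⟩
  refine orderOf_eq_prime_pow (p := 3) (n := 1) ?_ ?_
  · intro h3
    rw [pow_one] at h3
    rw [← QuotientGroup.mk_pow, QuotientGroup.eq_one_iff] at h3
    have := congrArg (fun M : Matrix.SpecialLinearGroup (Fin 2) F => (M : Matrix (Fin 2) (Fin 2) F) 0 0) (hc _ h3)
    simp [e3] at this
    rw [this] at ha
    exact one_ne_zero (show (1:F) = 0 by linear_combination ha - h2)
  · rw [← QuotientGroup.mk_pow, QuotientGroup.eq_one_iff, show A ^ (3 ^ (1 + 1)) = 1 from Subtype.ext (by simpa using e9)]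
    exact one_mem _

theorem cube_one : ∀ w : Multiplicative (ZMod 3) × Multiplicative (ZMod 3), w ^ 3 = 1 := by
  decide +kernel

theorem ker_entries : ∀ i j : Fin 3,
    (!![0,1,0,0,0; 1,1,0,0,0; 0,0,1,0,0; 0,0,0,1,0; 0,0,0,0,1] : Matrix (Fin 5) (Fin 5) (ZMod 2)) ^ (i : ℕ) *
      (!![1,0,0,0,0; 0,1,0,0,0; 0,0,0,1,0; 0,0,1,1,0; 0,0,0,0,1] : Matrix (Fin 5) (Fin 5) (ZMod 2)) ^ (j : ℕ) = 1 →
    i = 0 ∧ j = 0 := by
  decide +kernel

/-- No element of `GL(5,2)` has order divisible by 9. -/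
theorem not_nine_dvd (g : GL (Fin 5) (ZMod 2)) : ¬ 9 ∣ orderOf g := by
  haveI : Fact (Nat.Prime 3) := ⟨Nat.prime_three⟩
  let a : GL (Fin 5) (ZMod 2) :=
    ⟨!![0,1,0,0,0; 1,1,0,0,0; 0,0,1,0,0; 0,0,0,1,0; 0,0,0,0,1],
     !![1,1,0,0,0; 1,0,0,0,0; 0,0,1,0,0; 0,0,0,1,0; 0,0,0,0,1], by decide, by decide⟩
  let b : GL (Fin 5) (ZMod 2) :=
    ⟨!![1,0,0,0,0; 0,1,0,0,0; 0,0,0,1,0; 0,0,1,1,0; 0,0,0,0,1],
     !![1,0,0,0,0; 0,1,0,0,0; 0,0,1,1,0; 0,0,1,0,0; 0,0,0,0,1], by decide, by decide⟩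
  have ha3 : a ^ 3 = 1 := Units.ext (by rw [Units.val_pow_eq_pow_val]; decide +kernel)
  have hb3 : b ^ 3 = 1 := Units.ext (by rw [Units.val_pow_eq_pow_val]; decide +kernel)
  have hab : Commute a b := Units.ext (by rw [Units.val_mul, Units.val_mul]; decide +kernel)
  let f : Multiplicative (ZMod 3) × Multiplicative (ZMod 3) → GL (Fin 5) (ZMod 2) :=
    fun x => a ^ (Multiplicative.toAdd x.1).val * b ^ (Multiplicative.toAdd x.2).val
  have hpow : ∀ (c : GL (Fin 5) (ZMod 2)), c ^ 3 = 1 → ∀ i j : ZMod 3, c ^ (i + j).val = c ^ i.val * c ^ j.val := by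
    intro c hc i j
    rw [← pow_add, ZMod.val_add, ← pow_eq_pow_mod _ hc]
  let φ : Multiplicative (ZMod 3) × Multiplicative (ZMod 3) →* GL (Fin 5) (ZMod 2) :=
    MonoidHom.mk' f (by
      intro x y
      simp only [f, Prod.fst_mul, Prod.snd_mul, toAdd_mul]
      rw [hpow a ha3, hpow b hb3]
      exact Commute.mul_mul_mul_comm (hab.pow_pow _ _) _ _)
  have hφ : Function.Injective φ := by
    rw [injective_iff_map_eq_one]
    intro x hx
    have h : ((f x : GL (Fin 5) (ZMod 2)) : Matrix (Fin 5) (Fin 5) (ZMod 2)) = 1 :=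
      (congrArg Units.val hx).trans Units.val_one
    simp only [f, Units.val_mul, Units.val_pow_eq_pow_val] at h
    obtain ⟨h1, h2⟩ := ker_entries ⟨_, ZMod.val_lt (Multiplicative.toAdd x.1)⟩
      ⟨_, ZMod.val_lt (Multiplicative.toAdd x.2)⟩ h
    have e1 := congrArg Fin.val h1
    have e2 := congrArg Fin.val h2
    exact Prod.ext (Multiplicative.toAdd.injective ((ZMod.val_eq_zero _).1 e1))
      (Multiplicative.toAdd.injective ((ZMod.val_eq_zero _).1 e2))
  have hP : IsPGroup 3 φ.range := by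
    refine IsPGroup.of_card (n := 2) ?_
    rw [← Nat.card_congr (MonoidHom.ofInjective hφ).toEquiv, Nat.card_prod, Nat.card_congr Multiplicative.toAdd, Nat.card_zmod]
    norm_num
  obtain ⟨P, hP'⟩ := hP.exists_le_sylow
  have hPcard : Nat.card P = 9 := by
    rw [P.card_eq_multiplicity, card_GL52]
    rw [show (9999360 : ℕ) = 3 ^ 2 * 1111040 by norm_num, Nat.factorization_mul (by norm_num) (by norm_num), Finsupp.add_apply,
      Nat.factorization_eq_zero_of_not_dvd (show ¬ 3 ∣ 1111040 by norm_num), add_zero, Nat.prime_three.factorization_pow, Finsupp.single_eq_same]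
    norm_num
  have hPe : φ.range = (P : Subgroup (GL (Fin 5) (ZMod 2))) := by
    refine eq_of_le_of_card_ge hP' ?_
    rw [hPcard, ← Nat.card_congr (MonoidHom.ofInjective hφ).toEquiv, Nat.card_prod, Nat.card_congr Multiplicative.toAdd, Nat.card_zmod]
  intro hg
  have hx : orderOf (g ^ (orderOf g / 9)) = 9 := by
    rw [orderOf_pow_of_dvd (by
      intro h0
      have := orderOf_pos g
      have h9 := Nat.le_of_dvd this hg
      omega) (Nat.div_dvd_of_dvd hg), Nat.div_div_self hg (orderOf_pos g).ne']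
  obtain ⟨Q, hQ⟩ := (IsPGroup.of_card (p := 3) (n := 2) (by rw [Nat.card_zpowers, hx]; norm_num) : IsPGroup 3 (zpowers (g ^ (orderOf g / 9)))).exists_le_sylow
  obtain ⟨c, hc⟩ := MulAction.exists_smul_eq (GL (Fin 5) (ZMod 2)) P Q
  have hm := hQ (mem_zpowers _)
  rw [← hc] at hm
  obtain ⟨y, hy, hyx⟩ := hm
  rw [SetLike.mem_coe, ← hPe] at hy
  obtain ⟨z, rfl⟩ := hy
  have h3 : (g ^ (orderOf g / 9)) ^ 3 = 1 := by
    rw [← hyx]
    show (MulAut.conj c (φ z)) ^ 3 = 1
    rw [← map_pow, ← map_pow, cube_one z, map_one, map_one]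
  have := Nat.le_of_dvd (by norm_num) (orderOf_dvd_of_pow_eq_one h3)
  omega

theorem card_section_dvd {H : Subgroup (GL (Fin 5) (ZMod 2))} {K : Subgroup ↥H} [K.Normal] :
    Nat.card (↥H ⧸ K) ∣ 9999360 :=
  card_GL52 ▸ (K.index_dvd_card.trans H.card_subgroup_dvd_card)

theorem psl_case {H : Subgroup (GL (Fin 5) (ZMod 2))} {K : Subgroup ↥H} [K.Normal]
    (n : ℕ) (F : Type) [Field F] [Fintype F] (hn : 2 ≤ n) (hF : Fintype.card F = 2 ^ n)
    (e : ↥H ⧸ K ≃* Matrix.ProjectiveSpecialLinearGroup (Fin 2) F) : Fintype.card F = 4 := by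
  have hd := card_section_dvd (H := H) (K := K)
  rw [Nat.card_congr e.toEquiv, PSLCard.card_PSL2_even (by rw [Nat.card_eq_fintype_card, hF]; exact (Nat.even_pow.2 ⟨even_two, by omega⟩)), Nat.card_eq_fintype_card, hF] at hd
  have hn10 : n < 24 := by
    by_contra hge
    push Not at hge
    have h1 := Nat.le_of_dvd (by norm_num) hd
    have h2 : 2 ^ 24 ≤ 2 ^ n := Nat.pow_le_pow_right (by norm_num) hge
    have h3 : 1 ≤ (2 ^ n) ^ 2 - 1 := by
      have := Nat.le_self_pow (show 2 ≠ 0 by norm_num) (2 ^ n); omega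
    have := Nat.le_mul_of_pos_right (2 ^ n) h3
    omega
  interval_cases n <;> norm_num at hd
  · rw [hF]; rfl
  · exfalso
    obtain ⟨x, hx⟩ := exists_orderOf_nine (F := F) (by rw [hF]; rfl)
    obtain ⟨y, hy⟩ := QuotientGroup.mk'_surjective K (e.symm x)
    apply not_nine_dvd (y : GL (Fin 5) (ZMod 2))
    rw [Subgroup.orderOf_coe, ← hx, ← e.symm.orderOf_eq x, ← hy]
    exact orderOf_map_dvd _ y

theorem psu_case {H : Subgroup (GL (Fin 5) (ZMod 2))} {K : Subgroup ↥H} [K.Normal]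
    (n : ℕ) (F : Type) [Field F] [Fintype F] (hn : 2 ≤ n) (hF : Fintype.card F = 4 ^ n)
    (e : ↥H ⧸ K ≃* Cfsg.PSU 3 F (2 ^ n)) : False := by
  have hd := card_section_dvd (H := H) (K := K)
  rw [Nat.card_congr e.toEquiv] at hd
  have hq : Fintype.card F = (2 ^ n) ^ 2 := by rw [hF, ← pow_mul, mul_comm, pow_mul]; norm_num
  have h := OrthUnitaryHerm.card_PSU_mul (n := 3) hq (by norm_num)
  rw [OrthUnitaryHerm.card_GU hq 3] at h
  simp [Finset.prod_range_succ] at h
  have h2 : Nat.gcd 3 (2 ^ n + 1) * (2 ^ n + 1) * Nat.card (Cfsg.PSU 3 F (2 ^ n)) ∣ 3 * (2 ^ n + 1) * 9999360 :=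
    Nat.mul_dvd_mul (Nat.mul_dvd_mul_right (Nat.gcd_dvd_left 3 _) _) hd
  rw [h] at h2
  have hn24 : n < 24 := by
    by_contra hge
    push Not at hge
    have h4 : 2 ^ 24 ≤ 2 ^ n := Nat.pow_le_pow_right (by norm_num) hge
    have h1 := Nat.le_of_dvd (by positivity) h2
    have h5 : 1 ≤ (2 ^ n) ^ 2 - 1 := by
      have := Nat.le_self_pow (show 2 ≠ 0 by norm_num) (2 ^ n); omega
    set q := 2 ^ n
    have h6 : q ^ 3 * (q + 1) ≤ q ^ 3 * ((q + 1) * (q ^ 2 - 1) * (q ^ 3 + 1)) := by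
      refine Nat.mul_le_mul_left _ ?_
      calc q + 1 = (q + 1) * 1 * 1 := by ring
        _ ≤ _ := Nat.mul_le_mul (Nat.mul_le_mul_left _ h5) (Nat.le_add_left 1 _)
    have h7 : q ^ 3 * (q + 1) ≤ (3 * 9999360) * (q + 1) := h6.trans (h1.trans (le_of_eq (by ring)))
    have h8 := Nat.le_of_mul_le_mul_right h7 (by omega)
    have h9 : q ≤ q ^ 3 := Nat.le_self_pow (by norm_num) q
    have h10 : (2 ^ 24) ^ 3 ≤ q ^ 3 := Nat.pow_le_pow_left h4 3
    norm_num at h10
    omega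
  interval_cases n <;> norm_num at h2

end Cfsg.Agent.GL52Sections
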