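import Mathlib

/-!
For a finite semisimple module over the polynomial ring of a finite field, the alternating sums over chains of
submodules are `∏ (-1)^((d-1)m) q^(d m (m-1)/2)` over the irreducible factors (degree `d`, multiplicity `m`) of
the characteristic polynomial: pairing the submodules along a simple one.
-/

set_option autoImplicit false
set_option linter.unusedSectionVars false

namespace Cfsg.Agent.SemisimpleAlternating

open Polynomial

variable {F : Type*} [Field F] [Fintype F] [DecidableEq F]

section Defs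

variable (F)

/-- multiplication by the variable -/
noncomputable def mulX (M : Type*) [AddCommGroup M] [Module F M] [Module F[X] M] [IsScalarTower F F[X] M] :
    M →ₗ[F] M :=
  Algebra.lsmul F F M (X : F[X])

/-- the irreducible factors of the characteristic polynomial -/
noncomputable def Phi (M : Type*) [AddCommGroup M] [Module F M] [Module F[X] M] [IsScalarTower F F[X] M]
    [Finite M] : Multiset F[X] :=
  UniqueFactorizationMonoid.normalizedFactors (mulX F M).charpoly

/-- the local weight -/
noncomputable def wt (f : F[X]) (m : ℕ) : ℤ :=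
  (-1) ^ ((f.natDegree - 1) * m) * (Fintype.card F : ℤ) ^ (f.natDegree * m * (m - 1) / 2)

/-- the weight of a multiset of polynomials -/
noncomputable def weight (Φ : Multiset F[X]) : ℤ := ∏ f ∈ Φ.toFinset, wt F f (Φ.count f)

/-- the signed weight of a module -/
noncomputable def val (M : Type*) [AddCommGroup M] [Module F M] [Module F[X] M] [IsScalarTower F F[X] M]
    [Finite M] : ℤ :=
  (-1) ^ Module.finrank F M * weight F (Phi F M)

end Defs

variable {M N : Type*} [AddCommGroup M] [Module F M] [Module F[X] M] [IsScalarTower F F[X] M] [Finite M]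
  [AddCommGroup N] [Module F N] [Module F[X] N] [IsScalarTower F F[X] N] [Finite N]

theorem Phi_congr (e : M ≃ₗ[F[X]] N) : Phi F M = Phi F N := by
  have h : mulX F N = (e.restrictScalars F).conj (mulX F M) := by
    ext x
    simp [mulX, LinearEquiv.conj_apply]
  rw [Phi, Phi, h, LinearEquiv.charpoly_conj]

theorem val_congr (e : M ≃ₗ[F[X]] N) : val F M = val F N := by
  rw [val, val, Phi_congr e, (e.restrictScalars F).finrank_eq]

theorem Phi_prod : Phi F (M × N) = Phi F M + Phi F N := by
  have h : mulX F (M × N) = (mulX F M).prodMap (mulX F N) := LinearMap.ext fun x => rfl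
  rw [Phi, Phi, Phi, h, LinearMap.charpoly_prodMap, UniqueFactorizationMonoid.normalizedFactors_mul
    (LinearMap.charpoly_monic _).ne_zero (LinearMap.charpoly_monic _).ne_zero]

theorem Phi_subsingleton [Subsingleton M] : Phi F M = 0 := by
  have h1 : (mulX F M).charpoly = 1 :=
    (LinearMap.charpoly_monic _).natDegree_eq_zero.1 (by
      rw [LinearMap.charpoly_natDegree, Module.finrank_zero_of_subsingleton])
  rw [Phi, h1, UniqueFactorizationMonoid.normalizedFactors_one]

theorem aeval_mulX (P : F[X]) (x : M) : (Polynomial.aeval (mulX F M) P) x = P • x := by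
  rw [mulX, Polynomial.aeval_algHom_apply, Polynomial.aeval_X_left_apply]
  rfl

/-- a simple module is `F[X] / f` with `f` its characteristic polynomial -/
theorem simple_spec [IsSimpleModule F[X] M] :
    ∃ f : F[X], f.Monic ∧ Phi F M = {f} ∧ Module.finrank F M = f.natDegree ∧ 0 < f.natDegree ∧
      Nonempty (M ≃ₗ[F[X]] F[X] ⧸ Ideal.span {f}) := by
  obtain ⟨I, hI, ⟨e⟩⟩ := isSimpleModule_iff_quot_maximal.1 (inferInstance : IsSimpleModule F[X] M)
  obtain ⟨g, rfl⟩ := (IsPrincipalIdealRing.principal I).principal
  have hfin : Finite (F[X] ⧸ Ideal.span {g}) := Finite.of_equiv M e.toEquiv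
  have hg : g ≠ 0 := by
    rintro rfl
    rw [Ideal.span_singleton_eq_bot.2 rfl] at hfin
    exact not_finite_iff_infinite.2 inferInstance
      (Finite.of_injective (Ideal.Quotient.mk (⊥ : Ideal F[X])) fun a b h => by
        rwa [Ideal.Quotient.eq, Ideal.mem_bot, sub_eq_zero] at h)
  set f := g * C g.leadingCoeff⁻¹ with hf
  have hspan : Ideal.span {g} = Ideal.span {f} :=
    Ideal.span_singleton_eq_span_singleton.2 ⟨(Polynomial.isUnit_C.2 (isUnit_iff_ne_zero.2
      (inv_ne_zero (Polynomial.leadingCoeff_ne_zero.2 hg)))).unit, rfl⟩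
  have hmon : f.Monic := Polynomial.monic_mul_leadingCoeff_inv hg
  change Ideal.IsMaximal (Ideal.span {g}) at hI
  rw [hspan] at hI
  let e' : M ≃ₗ[F[X]] F[X] ⧸ Ideal.span {f} :=
    e.trans (Submodule.quotEquivOfEq _ _ hspan)
  have hirr : Irreducible f :=
    ((Ideal.span_singleton_prime hmon.ne_zero).1 hI.isPrime).irreducible
  have hdim : Module.finrank F M = f.natDegree := by
    rw [(e'.restrictScalars F).finrank_eq]
    exact (AdjoinRoot.powerBasis hmon.ne_zero).finrank.trans (AdjoinRoot.powerBasis_dim hmon.ne_zero)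
  have hdvd : f ∣ (mulX F M).charpoly := by
    have h0 : ∀ x : M, (mulX F M).charpoly • x = 0 := fun x => by
      rw [← aeval_mulX, LinearMap.aeval_self_charpoly, LinearMap.zero_apply]
    have := h0 (e'.symm (Submodule.Quotient.mk 1))
    rw [← map_smul, LinearEquiv.map_eq_zero_iff, ← Submodule.Quotient.mk_smul, smul_eq_mul, mul_one,
      Submodule.Quotient.mk_eq_zero, Ideal.mem_span_singleton] at this
    exact this
  have hchar : (mulX F M).charpoly = f :=
    Polynomial.eq_of_monic_of_dvd_of_natDegree_le hmon (LinearMap.charpoly_monic _) hdvd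
      (by rw [LinearMap.charpoly_natDegree, hdim])
  refine ⟨f, hmon, ?_, hdim, Irreducible.natDegree_pos hirr, ⟨e'⟩⟩
  rw [Phi, hchar, UniqueFactorizationMonoid.normalizedFactors_irreducible hirr, hmon.normalize_eq_self]

/-- homomorphisms into a simple module are counted by the multiplicity of its polynomial -/
theorem hom_card {L : Type*} [AddCommGroup L] [Module F L] [Module F[X] L] [IsScalarTower F F[X] L] [Finite L]
    [IsSimpleModule F[X] L] {f : F[X]} (hf : Phi F L = {f}) :
    ∀ (k : ℕ) (M : Type _) [AddCommGroup M] [Module F M] [Module F[X] M] [IsScalarTower F F[X] M] [Finite M]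
      [IsSemisimpleModule F[X] M], Nat.card M ≤ k →
      Nat.card (M →ₗ[F[X]] L) = Nat.card L ^ (Phi F M).count f := by
  intro k
  induction k with
  | zero =>
    intro M _ _ _ _ _ _ h
    exact absurd h (Nat.not_le.2 Nat.card_pos)
  | succ k ih =>
    intro M _ _ _ _ _ _ h
    rcases subsingleton_or_nontrivial M with hM | hM
    · rw [Phi_subsingleton, Multiset.count_zero, pow_zero, Nat.card_eq_one_iff_unique]
      exact ⟨⟨fun a b => LinearMap.ext fun x => by rw [Subsingleton.elim x 0, map_zero, map_zero]⟩, ⟨0⟩⟩
    obtain ⟨L₁, hL₁⟩ : ∃ L₁ : Submodule F[X] M, IsSimpleModule F[X] L₁ := by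
      rcases IsSemisimpleModule.eq_bot_or_exists_simple_le (⊤ : Submodule F[X] M) with h | ⟨m, -, hm⟩
      · exact absurd h top_ne_bot
      · exact ⟨m, hm⟩
    obtain ⟨C, hC⟩ := exists_isCompl L₁
    let e := Submodule.prodEquivOfIsCompl L₁ C hC
    have hcard : Nat.card M = Nat.card L₁ * Nat.card C := by
      rw [← Nat.card_prod, Nat.card_congr e.toEquiv]
    have : Nontrivial L₁ := IsSimpleModule.nontrivial F[X] L₁
    have h2 : 1 < Nat.card L₁ := Finite.one_lt_card
    have hC' : Nat.card C ≤ k := by
      have : 0 < Nat.card C := Nat.card_pos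
      nlinarith
    rw [← Phi_congr e, Phi_prod, Multiset.count_add, pow_add, ← ih C hC',
      Nat.card_congr (LinearEquiv.congrLeft L F[X] e.symm).toEquiv,
      ← Nat.card_congr (LinearMap.coprodEquiv F[X] (M := L₁) (M₂ := C) (M₃ := L)).toEquiv, Nat.card_prod]
    congr 1
    obtain ⟨g, -, hg, -, -, ⟨eg⟩⟩ := simple_spec (F := F) (M := L₁)
    rw [hg, Multiset.count_singleton]
    split_ifs with hfg
    · subst hfg
      obtain ⟨f', -, hf', -, -, ⟨ef⟩⟩ := simple_spec (F := F) (M := L)
      obtain rfl : f' = f := Multiset.singleton_inj.1 (hf'.symm.trans hf)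
      have hann : ∀ w : L, f' • w = 0 := fun w => by
        apply ef.injective
        rw [map_smul, map_zero]
        obtain ⟨y, hy⟩ := Submodule.Quotient.mk_surjective _ (ef w)
        rw [← hy, ← Submodule.Quotient.mk_smul, Submodule.Quotient.mk_eq_zero, Ideal.mem_span_singleton, smul_eq_mul]
        exact dvd_mul_right _ _
      rw [pow_one, Nat.card_congr (LinearEquiv.congrLeft L F[X] eg).toEquiv]
      refine Nat.card_congr
        { toFun := fun φ => φ (Submodule.Quotient.mk 1)
          invFun := fun w => Submodule.liftQ _ (LinearMap.toSpanSingleton F[X] L w) (by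
            rw [Ideal.span, Submodule.span_singleton_le_iff_mem]
            exact hann w)
          left_inv := fun φ => Submodule.linearMap_qext _ (LinearMap.ext_ring (by simp))
          right_inv := fun w => (Submodule.liftQ_apply _ _ 1).trans (one_smul _ w) }
    · rw [pow_zero, Nat.card_eq_one_iff_unique]
      have hz : ∀ φ : L₁ →ₗ[F[X]] L, φ = 0 := fun φ => (LinearMap.bijective_or_eq_zero φ).resolve_left fun hb => by
        have := Phi_congr (F := F) (LinearEquiv.ofBijective φ hb)
        rw [hg, hf, Multiset.singleton_inj] at this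
        exact hfg this.symm
      exact ⟨⟨fun a b => (hz a).trans (hz b).symm⟩, ⟨0⟩⟩

theorem weight_eq_prod {Φ : Multiset F[X]} {s : Finset F[X]} (h : Φ.toFinset ⊆ s) :
    weight F Φ = ∏ f ∈ s, wt F f (Φ.count f) :=
  Finset.prod_subset h fun f _ hf => by
    rw [Multiset.mem_toFinset, ← Multiset.count_eq_zero] at hf
    simp [hf, wt]

theorem weight_cons (f : F[X]) (Φ : Multiset F[X]) :
    weight F (f ::ₘ Φ) = (-1) ^ (f.natDegree - 1) * (Fintype.card F : ℤ) ^ (f.natDegree * Φ.count f) * weight F Φ := by
  classical
  have hs : Φ.toFinset ⊆ (f ::ₘ Φ).toFinset := by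
    intro x hx
    rw [Multiset.mem_toFinset] at hx ⊢
    exact Multiset.mem_cons_of_mem hx
  rw [weight_eq_prod hs, weight_eq_prod (subset_refl _),
    ← Finset.mul_prod_erase _ _ (show f ∈ (f ::ₘ Φ).toFinset by simp),
    ← Finset.mul_prod_erase _ _ (show f ∈ (f ::ₘ Φ).toFinset by simp), ← mul_assoc]
  congr 1
  · rw [Multiset.count_cons_self, wt, wt]
    set d := f.natDegree
    set m := Φ.count f
    have e : d * (m + 1) * (m + 1 - 1) / 2 = d * m + d * m * (m - 1) / 2 := by
      have e' : d * (m + 1) * m = d * m * (m - 1) + 2 * (d * m) := by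
        cases m with
        | zero => simp
        | succ j => rw [Nat.add_sub_cancel]; ring
      rw [Nat.add_sub_cancel, e', Nat.add_mul_div_left _ _ (by norm_num : 0 < 2), Nat.add_comm]
    rw [e, mul_add, mul_one, pow_add, pow_add]
    ring
  · exact Finset.prod_congr rfl fun x hx => by rw [Multiset.count_cons_of_ne (Finset.ne_of_mem_erase hx)]

/-- the submodules spanning the module together with a fixed simple one cancel -/
theorem sum_top [IsSemisimpleModule F[X] M] (L : Submodule F[X] M) [IsSimpleModule F[X] L]
    [Fintype (Submodule F[X] M)] [DecidableEq (Submodule F[X] M)] :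
    ∑ U ∈ Finset.univ.filter (fun U : Submodule F[X] M => U ⊔ L = ⊤), val F U = 0 := by
  classical
  obtain ⟨f, -, hf, hdim, hd0, -⟩ := simple_spec (F := F) (M := L)
  obtain ⟨U₀, hU₀⟩ := exists_isCompl L
  set m := (Phi F U₀).count f
  have hatom : IsAtom L := isSimpleModule_iff_isAtom.1 inferInstance
  have hq : ∀ q : Submodule F[X] M, IsCompl L q →
      val F M = (-1) ^ f.natDegree * (-1) ^ (f.natDegree - 1) * (Fintype.card F : ℤ) ^ (f.natDegree * m) * val F q := by
    intro q hq
    let e := Submodule.prodEquivOfIsCompl L q hq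
    have e0 : (q : Submodule F[X] M) ≃ₗ[F[X]] U₀ :=
      (Submodule.quotientEquivOfIsCompl L q hq).symm.trans (Submodule.quotientEquivOfIsCompl L U₀ hU₀)
    rw [val, val, ← Phi_congr e, Phi_prod, hf, Multiset.singleton_add, weight_cons, Phi_congr e0,
      ← (e.restrictScalars F).finrank_eq, Module.finrank_prod, hdim, pow_add]
    ring
  have hsgn : (-1 : ℤ) ^ f.natDegree * (-1) ^ (f.natDegree - 1) = -1 := by
    rw [← pow_add]
    exact Odd.neg_one_pow ⟨f.natDegree - 1, by omega⟩
  have hset : Finset.univ.filter (fun U : Submodule F[X] M => U ⊔ L = ⊤) =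
      insert ⊤ (Finset.univ.filter fun U => IsCompl L U) := by
    ext U
    simp only [Finset.mem_filter, Finset.mem_univ, true_and, Finset.mem_insert]
    constructor
    · intro h
      rcases hatom.le_iff.1 (inf_le_right : U ⊓ L ≤ L) with h0 | h0
      · exact Or.inr ⟨disjoint_iff.2 (by rw [inf_comm]; exact h0), codisjoint_iff.2 (by rw [sup_comm]; exact h)⟩
      · refine Or.inl ?_
        rw [← h, sup_eq_left.2 (inf_eq_right.1 h0)]
    · rintro (rfl | h)
      · exact top_sup_eq _
      · rw [sup_comm]; exact h.sup_eq_top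
  have hnot : (⊤ : Submodule F[X] M) ∉ Finset.univ.filter (fun U => IsCompl L U) := by
    simp only [Finset.mem_filter, Finset.mem_univ, true_and]
    intro h
    exact hatom.1 (by simpa using h.inf_eq_bot)
  have hcard : ((Finset.univ.filter fun U : Submodule F[X] M => IsCompl L U).card : ℤ) =
      (Fintype.card F : ℤ) ^ (f.natDegree * m) := by
    have h1 : (Finset.univ.filter fun U : Submodule F[X] M => IsCompl L U).card = Nat.card {q // IsCompl L q} := by
      rw [Nat.card_eq_fintype_card, Fintype.card_subtype]
    have h2 : Nat.card {q // IsCompl L q} = Nat.card (U₀ →ₗ[F[X]] L) := by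
      rw [Nat.card_congr (Submodule.isComplEquivProj (p := L))]
      exact Nat.card_congr
        { toFun := fun φ => φ.1.comp U₀.subtype
          invFun := fun ψ => ⟨LinearMap.ofIsCompl hU₀ LinearMap.id ψ, fun x => LinearMap.ofIsCompl_apply_left hU₀ x⟩
          left_inv := fun φ => Subtype.ext (LinearMap.ofIsCompl_eq hU₀ (fun x => (φ.2 x).symm) fun x => rfl)
          right_inv := fun ψ => LinearMap.ext fun x => LinearMap.ofIsCompl_apply_right hU₀ x }
    rw [h1, h2, hom_card hf _ U₀ le_rfl]
    rw [Module.natCard_eq_pow_finrank (K := F) (V := L), hdim, ← pow_mul, Nat.card_eq_fintype_card]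
    push_cast
    rfl
  rw [hset, Finset.sum_insert hnot, val_congr (Submodule.topEquiv (R := F[X]) (M := M)), hq U₀ hU₀,
    Finset.sum_congr rfl (g := fun _ => val F U₀) fun U hU => ?_, Finset.sum_const, nsmul_eq_mul, hcard, hsgn]
  · ring
  · exact val_congr ((Submodule.quotientEquivOfIsCompl L U (Finset.mem_filter.1 hU).2).symm.trans
      (Submodule.quotientEquivOfIsCompl L U₀ hU₀))

/-- the alternating sum over all submodules vanishes -/
theorem sum_zero [IsSemisimpleModule F[X] M] [Nontrivial M] [Fintype (Submodule F[X] M)] :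
    ∑ U : Submodule F[X] M, val F U = 0 := by
  classical
  obtain ⟨L, hL⟩ : ∃ L : Submodule F[X] M, IsSimpleModule F[X] L := by
    rcases IsSemisimpleModule.eq_bot_or_exists_simple_le (⊤ : Submodule F[X] M) with h | ⟨m, -, hm⟩
    · exact absurd h top_ne_bot
    · exact ⟨m, hm⟩
  rw [← Finset.sum_fiberwise Finset.univ (fun U => U ⊔ L)]
  refine Finset.sum_eq_zero fun U' _ => ?_
  by_cases hLU : L ≤ U'
  swap
  · refine Finset.sum_eq_zero fun U hU => absurd ?_ hLU
    rw [← (Finset.mem_filter.1 hU).2]
    exact le_sup_right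
  set L' := Submodule.comap U'.subtype L
  have hL' : IsSimpleModule F[X] L' := IsSimpleModule.congr (Submodule.comapSubtypeEquivOfLe hLU)
  have : Fintype (Submodule F[X] U') := Fintype.ofFinite _
  refine Eq.trans ?_ (sum_top L')
  symm
  refine Finset.sum_bij (fun U _ => U.map U'.subtype) (fun U hU => ?_) (fun a _ b _ h => ?_) (fun U hU => ?_)
    fun U _ => ?_
  · simp only [Finset.mem_filter, Finset.mem_univ, true_and] at hU ⊢
    have := congrArg (Submodule.map U'.subtype) hU
    rwa [Submodule.map_sup, Submodule.map_comap_subtype, inf_eq_right.2 hLU, Submodule.map_subtype_top] at this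
  · exact Submodule.map_injective_of_injective U'.subtype_injective h
  · have hU' : U ⊔ L = U' := (Finset.mem_filter.1 hU).2
    have hle : U ≤ U' := by rw [← hU']; exact le_sup_left
    have hmap : (U.comap U'.subtype).map U'.subtype = U := by rw [Submodule.map_comap_subtype, inf_eq_right.2 hle]
    refine ⟨U.comap U'.subtype, Finset.mem_filter.2 ⟨Finset.mem_univ _, ?_⟩, hmap⟩
    refine Submodule.map_injective_of_injective U'.subtype_injective ?_
    rw [Submodule.map_sup, hmap, Submodule.map_comap_subtype, inf_eq_right.2 hLU, Submodule.map_subtype_top, hU']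
  · exact val_congr (Submodule.equivMapOfInjective _ U'.subtype_injective U)

open scoped Classical in
/-- a function with the alternating recursion is the weight -/
theorem eq_weight [IsSemisimpleModule F[X] M] [Fintype (Submodule F[X] M)] [DecidableEq (Submodule F[X] M)]
    (T : Submodule F[X] M → ℤ) (h0 : T ⊥ = 1)
    (hrec : ∀ U : Submodule F[X] M, U ≠ ⊥ →
      ∑ U' ∈ Finset.univ.filter (fun U' => U' ≤ U), (-1) ^ Module.finrank F U' * T U' = 0)
    (U : Submodule F[X] M) : T U = weight F (Phi F U) := by
  classical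
  induction U using WellFoundedLT.induction with
  | _ U ih =>
  rcases eq_or_ne U ⊥ with rfl | hU
  · rw [h0, Phi_subsingleton]
    simp [weight]
  have : Nontrivial U := Submodule.nontrivial_iff_ne_bot.2 hU
  have : Fintype (Submodule F[X] U) := Fintype.ofFinite _
  have h := sum_zero (F := F) (M := U)
  have e : ∑ U' ∈ Finset.univ.filter (fun U' : Submodule F[X] M => U' ≤ U), val F U' = 0 := by
    refine Eq.trans ?_ h
    symm
    refine Finset.sum_bij (fun W _ => W.map U.subtype) (fun W _ => ?_) (fun a _ b _ hab => ?_) (fun W hW => ?_)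
      fun W _ => ?_
    · exact Finset.mem_filter.2 ⟨Finset.mem_univ _, Submodule.map_subtype_le _ _⟩
    · exact Submodule.map_injective_of_injective U.subtype_injective hab
    · refine ⟨W.comap U.subtype, Finset.mem_univ _, ?_⟩
      rw [Submodule.map_comap_subtype, inf_eq_right.2 (Finset.mem_filter.1 hW).2]
    · exact val_congr (Submodule.equivMapOfInjective _ U.subtype_injective W)
  have hmem : U ∈ Finset.univ.filter (fun U' : Submodule F[X] M => U' ≤ U) := by simp
  have h1 := hrec U hU
  rw [← Finset.add_sum_erase _ _ hmem] at h1 e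
  have hrest : ∑ U' ∈ (Finset.univ.filter fun U' => U' ≤ U).erase U, (-1 : ℤ) ^ Module.finrank F U' * T U' =
      ∑ U' ∈ (Finset.univ.filter fun U' => U' ≤ U).erase U, val F U' := by
    refine Finset.sum_congr rfl fun U' hU' => ?_
    rw [Finset.mem_erase, Finset.mem_filter] at hU'
    rw [ih U' (lt_of_le_of_ne hU'.2.2 hU'.1), val]
  rw [hrest] at h1
  have h2 : (-1 : ℤ) ^ Module.finrank F U * T U = (-1) ^ Module.finrank F U * weight F (Phi F U) := by
    rw [← val]
    linarith
  exact mul_left_cancel₀ (pow_ne_zero _ (by norm_num)) h2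

end Cfsg.Agent.SemisimpleAlternating
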