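import Cfsg.Prelude.Def_LinearParabolics
import Cfsg.Agent.Lib.SemisimpleAlternating

/-!
The partition-indexed character of `GL n F` for `(1, …, 1)` as an alternating sum over chains of invariant
subspaces, and its values at semisimple elements.
-/

set_option autoImplicit false
set_option linter.unusedSectionVars false

namespace Cfsg.Agent.GLSteinbergFlags

open scoped MatrixGroups Classical
open Cfsg Polynomial

/-! ### Compositions from sets of partial sums -/

variable {n : ℕ}

/-- the set of dimensions of a chain -/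
def Good (n : ℕ) (S : Finset ℕ) : Prop := S ⊆ Finset.Icc 1 n ∧ (n ≠ 0 → n ∈ S)

/-- the last element of `S ∪ {0}` up to `i` -/
def prev (S : Finset ℕ) (i : ℕ) : ℕ :=
  ((insert 0 S).filter (· ≤ i)).max' ⟨0, by simp⟩

theorem prev_spec (S : Finset ℕ) (i : ℕ) : (prev S i = 0 ∨ prev S i ∈ S) ∧ prev S i ≤ i := by
  have := Finset.max'_mem ((insert 0 S).filter (· ≤ i)) ⟨0, by simp⟩
  rw [Finset.mem_filter, Finset.mem_insert] at this
  exact this

theorem le_prev {S : Finset ℕ} {i s : ℕ} (hs : s ∈ S) (h : s ≤ i) : s ≤ prev S i :=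
  Finset.le_max' _ _ (by simp [hs, h])

theorem prev_zero (S : Finset ℕ) : prev S 0 = 0 := Nat.le_zero.1 (prev_spec S 0).2

theorem prev_of_mem {S : Finset ℕ} {i : ℕ} (h : i ∈ S) : prev S i = i :=
  le_antisymm (prev_spec S i).2 (le_prev h le_rfl)

theorem prev_succ_of_notMem {S : Finset ℕ} {i : ℕ} (h : i + 1 ∉ S) : prev S (i + 1) = prev S i := by
  obtain ⟨h1, h2⟩ := prev_spec S (i + 1)
  obtain ⟨h3, h4⟩ := prev_spec S i
  rcases h1 with h1 | h1
  · rcases h3 with h3 | h3
    · rw [h1, h3]
    · exact le_antisymm (by omega) (le_prev h3 (by omega))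
  · have hle : prev S (i + 1) ≤ i := by
      by_contra hc
      exact h (by rwa [show i + 1 = prev S (i + 1) by omega])
    refine le_antisymm (le_prev h1 hle) ?_
    rcases h3 with h3 | h3
    · omega
    · exact le_prev h3 (by omega)

/-- Hessenberg permutations -/
def Hess (κ : Equiv.Perm (Fin n)) : Prop := ∀ i : Fin n, (κ i).val ≤ 1 + i.val

/-- the dimensions of a Hessenberg permutation -/
noncomputable def setOf' (κ : Equiv.Perm (Fin n)) : Finset ℕ :=
  (Finset.univ.filter fun i : Fin n => (κ i).val ≠ i.val + 1).image fun i : Fin n => i.val + 1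

theorem mem_setOf' {κ : Equiv.Perm (Fin n)} {i : Fin n} : i.val + 1 ∈ setOf' κ ↔ (κ i).val ≠ i.val + 1 := by
  simp only [setOf', Finset.mem_image, Finset.mem_filter, Finset.mem_univ, true_and]
  constructor
  · rintro ⟨j, hj, hji⟩
    rwa [show i = j from Fin.ext (by omega)]
  · exact fun h => ⟨i, h, rfl⟩

theorem good_setOf' (κ : Equiv.Perm (Fin n)) : Good n (setOf' κ) := by
  constructor
  · intro s hs
    obtain ⟨i, -, rfl⟩ := Finset.mem_image.1 hs
    simp only [Finset.mem_Icc]
    omega
  · intro hn
    obtain ⟨m, rfl⟩ := Nat.exists_eq_succ_of_ne_zero hn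
    have := (mem_setOf' (κ := κ) (i := Fin.last m)).2 (by have := (κ (Fin.last m)).isLt; simp; omega)
    simpa using this

/-- the parts -/
def mu (κ : Equiv.Perm (Fin n)) : Fin n → ℕ := fun i => 1 + i.val - (κ i).val

theorem sum_le_eq {κ : Equiv.Perm (Fin n)} (h : Hess κ) {j : Fin n} (hj : (κ j).val ≠ j.val + 1) :
    ∑ k ∈ Finset.Iic j, (κ k).val = ∑ k ∈ Finset.Iic j, k.val := by
  have himg : (Finset.Iic j).image κ = Finset.Iic j := by
    refine Finset.eq_of_subset_of_card_le (fun x hx => ?_) (by rw [Finset.card_image_of_injective _ κ.injective])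
    obtain ⟨k, hk, rfl⟩ := Finset.mem_image.1 hx
    rw [Finset.mem_Iic, Fin.le_def] at hk ⊢
    have := h k
    rcases eq_or_lt_of_le hk with hk' | hk'
    · rw [Fin.ext hk'] at this ⊢
      omega
    · omega
  conv_rhs => rw [← himg, Finset.sum_image fun a _ b _ e => κ.injective e]

theorem psum {κ : Equiv.Perm (Fin n)} (h : Hess κ) : ∀ (m : ℕ) (hm : m < n),
    ∑ k ∈ Finset.Iic (⟨m, hm⟩ : Fin n), mu κ k = prev (setOf' κ) (m + 1) := by
  intro m
  induction m with
  | zero =>
    intro hm
    have hI : Finset.Iic (⟨0, hm⟩ : Fin n) = {⟨0, hm⟩} := by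
      ext k; simp [Fin.le_def, Fin.ext_iff]
    rw [hI, Finset.sum_singleton, mu]
    by_cases hj : (κ ⟨0, hm⟩).val = 1
    · rw [prev_succ_of_notMem (fun hc => (mem_setOf' (i := (⟨0, hm⟩ : Fin n))).1 hc (by simpa using hj)), prev_zero]
      simp [hj]
    · have h0 : (κ ⟨0, hm⟩).val = 0 := by have := h ⟨0, hm⟩; simp at this; omega
      rw [prev_of_mem ((mem_setOf' (i := (⟨0, hm⟩ : Fin n))).2 (by simpa using hj)), h0]
      simp
  | succ m ih =>
    intro hm
    by_cases hj : (κ ⟨m + 1, hm⟩).val = m + 2
    · have hI : Finset.Iic (⟨m + 1, hm⟩ : Fin n) = insert ⟨m + 1, hm⟩ (Finset.Iic ⟨m, by omega⟩) := by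
        ext k; simp [Fin.le_def, Fin.ext_iff]; omega
      rw [hI, Finset.sum_insert (by simp [Fin.le_def]), ih (by omega),
        prev_succ_of_notMem (fun hc => (mem_setOf' (i := (⟨m + 1, hm⟩ : Fin n))).1 hc (by simpa using hj))]
      simp [mu, hj]
      omega
    · rw [prev_of_mem ((mem_setOf' (i := (⟨m + 1, hm⟩ : Fin n))).2 (by simpa using hj))]
      have e : ∑ k ∈ Finset.Iic (⟨m + 1, hm⟩ : Fin n), (mu κ k + (κ k).val) =
          ∑ k ∈ Finset.Iic (⟨m + 1, hm⟩ : Fin n), (1 + k.val) :=
        Finset.sum_congr rfl fun k _ => by have := h k; simp only [mu]; omega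
      rw [Finset.sum_add_distrib, Finset.sum_add_distrib, sum_le_eq h (by simpa using hj),
        Finset.sum_const, Fin.card_Iic, smul_eq_mul, mul_one] at e
      omega

theorem label_lt {κ : Equiv.Perm (Fin n)} (h : Hess κ) (a b : Fin n) :
    compLabel (mu κ) a < compLabel (mu κ) b ↔ ∃ s ∈ setOf' κ, a.val < s ∧ s ≤ b.val := by
  have hf : ∀ j : Fin n, ∑ k ∈ Finset.univ.filter (fun k : Fin n => k ≤ j), mu κ k = prev (setOf' κ) (j.val + 1) := by
    intro j
    rw [← psum h j.val j.isLt]
    congr 1
    ext k; simp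
  constructor
  · intro hlt
    by_contra hno
    push Not at hno
    refine absurd (Finset.card_le_card ?_) (not_le.2 hlt)
    intro j hj
    rw [Finset.mem_filter, hf] at hj ⊢
    refine ⟨hj.1, ?_⟩
    rcases (prev_spec (setOf' κ) (j.val + 1)).1 with h0 | h0
    · omega
    · by_contra hc
      exact absurd hj.2 (not_le.2 (hno _ h0 (by omega)))
  · rintro ⟨s, hs, has, hsb⟩
    refine Finset.card_lt_card (Finset.ssubset_iff_of_subset (fun j hj => ?_) |>.2 ?_)
    · rw [Finset.mem_filter] at hj ⊢
      exact ⟨hj.1, by omega⟩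
    · have hs0 : 0 < s := by omega
      refine ⟨⟨s - 1, by have := b.isLt; omega⟩, ?_, ?_⟩
      · rw [Finset.mem_filter, hf, show s - 1 + 1 = s by omega, prev_of_mem hs]
        exact ⟨Finset.mem_univ _, hsb⟩
      · rw [Finset.mem_filter, hf, show s - 1 + 1 = s by omega, prev_of_mem hs]
        rintro ⟨-, hc⟩
        omega

theorem kap_apply {κ : Equiv.Perm (Fin n)} (h : Hess κ) (i : Fin n) :
    (κ i).val = if i.val + 1 ∈ setOf' κ then prev (setOf' κ) i.val else i.val + 1 := by
  split_ifs with hi
  swap
  · by_contra hc; exact hi (mem_setOf'.2 hc)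
  have hj := mem_setOf'.1 hi
  have e := sum_le_eq h hj
  have e2 : ∑ k ∈ Finset.Iio i, ((κ k).val + mu κ k) = ∑ k ∈ Finset.Iio i, (1 + k.val) :=
    Finset.sum_congr rfl fun k _ => by have := h k; simp only [mu]; omega
  rw [Finset.sum_add_distrib, Finset.sum_add_distrib, Finset.sum_const, Fin.card_Iio, smul_eq_mul, mul_one] at e2
  rw [← Finset.sum_erase_add _ _ (Finset.mem_Iic.2 le_rfl : i ∈ Finset.Iic i), ← Finset.sum_erase_add _ (fun k : Fin n => k.val) (Finset.mem_Iic.2 le_rfl : i ∈ Finset.Iic i),
    show (Finset.Iic i).erase i = Finset.Iio i from Finset.Iic_erase i] at e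
  have hp : ∑ k ∈ Finset.Iio i, mu κ k = prev (setOf' κ) i.val := by
    rcases Nat.eq_zero_or_pos i.val with h0 | h0
    · rw [h0, prev_zero, Finset.sum_eq_zero]
      intro k hk
      rw [Finset.mem_Iio, Fin.lt_def] at hk
      omega
    · have := psum h (i.val - 1) (by omega)
      rw [show i.val - 1 + 1 = i.val by omega] at this
      rw [← this]
      congr 1
      ext k
      rw [Finset.mem_Iic, Finset.mem_Iio, Fin.le_def, Fin.lt_def]
      constructor <;> intro h <;> dsimp only at * <;> omega
  omega

/-- the Hessenberg permutation of a set -/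
noncomputable def kap {S : Finset ℕ} (hS : Good n S) : Equiv.Perm (Fin n) :=
  Equiv.ofBijective (fun i => if h : i.val + 1 ∈ S then ⟨prev S i.val, lt_of_le_of_lt (prev_spec S _).2 i.isLt⟩
      else ⟨i.val + 1, by
        by_contra hc
        have := i.isLt
        exact h (by rw [show i.val + 1 = n by omega]; exact hS.2 (by omega))⟩) (by
    refine Finite.injective_iff_bijective.1 fun a b hab => ?_
    have key : ∀ a b : Fin n, a.val + 1 ∈ S → b.val + 1 ∉ S → prev S a.val ≠ b.val + 1 := by
      intro a b _ hb e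
      rcases (prev_spec S a.val).1 with h | h
      · omega
      · exact hb (e ▸ h)
    rw [Fin.ext_iff] at hab ⊢
    by_cases ha : a.val + 1 ∈ S <;> by_cases hb : b.val + 1 ∈ S <;> simp only [ha, hb, dif_pos, dif_neg, not_false_eq_true] at hab
    · by_contra hne
      rcases lt_or_gt_of_ne hne with hlt | hlt
      · have := le_prev ha (i := b.val) hlt
        have := (prev_spec S a.val).2
        omega
      · have := le_prev hb (i := a.val) hlt
        have := (prev_spec S b.val).2
        omega
    · exact absurd hab (key a b ha hb)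
    · exact absurd hab.symm (key b a hb ha)
    · omega)

theorem kap_val {S : Finset ℕ} (hS : Good n S) (i : Fin n) :
    (kap hS i).val = if i.val + 1 ∈ S then prev S i.val else i.val + 1 := by
  by_cases h : i.val + 1 ∈ S <;> simp [kap, h]

theorem hess_kap {S : Finset ℕ} (hS : Good n S) : Hess (kap hS) := by
  intro i
  rw [kap_val]
  have := (prev_spec S i.val).2
  split_ifs <;> omega

theorem setOf'_kap {S : Finset ℕ} (hS : Good n S) : setOf' (kap hS) = S := by
  ext s
  constructor
  · intro h
    obtain ⟨i, hi, rfl⟩ := Finset.mem_image.1 h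
    rw [Finset.mem_filter, kap_val] at hi
    by_contra hc
    exact hi.2 (if_neg hc)
  · intro h
    have hs := Finset.mem_Icc.1 (hS.1 h)
    have e : (⟨s - 1, by omega⟩ : Fin n).val + 1 = s := by simp; omega
    rw [← e, mem_setOf', kap_val, if_pos (e.symm ▸ h)]
    have := (prev_spec S (⟨s - 1, by omega⟩ : Fin n).val).2
    omega

theorem eq_of_setOf' {κ κ' : Equiv.Perm (Fin n)} (h : Hess κ) (h' : Hess κ') (e : setOf' κ = setOf' κ') : κ = κ' :=
  Equiv.ext fun i => Fin.ext (by rw [kap_apply h, kap_apply h', e])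

theorem sign_kap : ∀ (k : ℕ) {S : Finset ℕ} (hS : Good n S), n - S.card = k →
    ((Equiv.Perm.sign (kap hS) : ℤ)) = (-1) ^ k := by
  intro k
  induction k with
  | zero =>
    intro S hS hk
    have hfull : S = Finset.Icc 1 n := Finset.eq_of_subset_of_card_le hS.1 (by simp; omega)
    have : kap hS = 1 := Equiv.ext fun i => Fin.ext (by
      rw [kap_val, if_pos (by rw [hfull, Finset.mem_Icc]; omega), Equiv.Perm.one_apply]
      rcases Nat.eq_zero_or_pos i.val with h | h
      · rw [h, prev_zero]
      · exact prev_of_mem (by rw [hfull, Finset.mem_Icc]; omega))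
    rw [this, map_one, Units.val_one, pow_zero]
  | succ k ih =>
    intro S hS hk
    have hne : (Finset.Icc 1 n \ S).Nonempty := by
      rw [← Finset.card_pos, Finset.card_sdiff_of_subset hS.1]
      simp; omega
    set t := (Finset.Icc 1 n \ S).max' hne
    obtain ⟨ht, htS⟩ := Finset.mem_sdiff.1 (Finset.max'_mem _ hne)
    rw [Finset.mem_Icc] at ht
    have hmax : ∀ s, t < s → s ≤ n → s ∈ S := by
      intro s h1 h2
      by_contra hc
      exact absurd (Finset.le_max' _ s (by simp [hc, h2]; omega)) (not_le.2 h1)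
    have htn : t < n := lt_of_le_of_ne ht.2 fun e => htS (by change t ∈ S; rw [e]; exact hS.2 (by omega))
    have hS' : Good n (insert t S) :=
      ⟨Finset.insert_subset (Finset.mem_Icc.2 ht) hS.1, fun hn => Finset.mem_insert_of_mem (hS.2 hn)⟩
    set a : Fin n := ⟨t - 1, by omega⟩
    set b : Fin n := ⟨t, htn⟩
    have hprev : ∀ i, i < t → prev (insert t S) i = prev S i := by
      intro i hi
      obtain ⟨h1, h2⟩ := prev_spec (insert t S) i
      obtain ⟨h3, h4⟩ := prev_spec S i
      refine le_antisymm ?_ ?_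
      · rcases h1 with h1 | h1
        · omega
        · rcases Finset.mem_insert.1 h1 with h1 | h1
          · omega
          · exact le_prev h1 h2
      · rcases h3 with h3 | h3
        · omega
        · exact le_prev (Finset.mem_insert_of_mem h3) h4
    have hmem : ∀ s, s ≠ t → (s ∈ insert t S ↔ s ∈ S) := fun s hs => by simp [hs]
    have hkap : kap hS = kap hS' * Equiv.swap a b := by
      refine Equiv.ext fun i => Fin.ext ?_
      rw [Equiv.Perm.mul_apply]
      rcases eq_or_ne i a with rfl | ha
      · rw [Equiv.swap_apply_left, kap_val, kap_val,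
          if_neg (show a.val + 1 ∉ S by show t - 1 + 1 ∉ S; rwa [Nat.sub_add_cancel ht.1]),
          if_pos (Finset.mem_insert_of_mem (hmax _ (Nat.lt_succ_self t) (by show t + 1 ≤ n; omega))),
          prev_of_mem (Finset.mem_insert_self t S)]
        show t - 1 + 1 = t
        omega
      rcases eq_or_ne i b with rfl | hb
      · rw [Equiv.swap_apply_right, kap_val, kap_val, if_pos (hmax _ (Nat.lt_succ_self t) (by show t + 1 ≤ n; omega)),
          if_pos (by rw [show a.val + 1 = t by show t - 1 + 1 = t; omega]; exact Finset.mem_insert_self t S)]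
        show prev S t = prev (insert t S) (t - 1)
        rw [hprev _ (by omega)]
        conv_lhs => rw [show t = t - 1 + 1 by omega]
        exact prev_succ_of_notMem (by rwa [show t - 1 + 1 = t by omega])
      rw [Equiv.swap_apply_of_ne_of_ne ha hb, kap_val, kap_val]
      have hia : i.val ≠ t - 1 := fun e => ha (Fin.ext e)
      have hib : i.val ≠ t := fun e => hb (Fin.ext e)
      simp only [hmem _ (show i.val + 1 ≠ t by omega)]
      split_ifs
      · rcases lt_or_ge i.val t with h | h
        · rw [hprev _ h]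
        · have hi := hmax i.val (by omega) i.isLt.le
          rw [prev_of_mem hi, prev_of_mem (Finset.mem_insert_of_mem hi)]
      · rfl
    have hab : a ≠ b := fun e => by
      have := congrArg Fin.val e
      simp [a, b] at this
      omega
    rw [hkap, map_mul, Equiv.Perm.sign_swap hab, Units.val_mul,
      ih hS' (by rw [Finset.card_insert_of_notMem htS]; omega), pow_succ]
    simp

/-! ### Flags -/

variable {F : Type*} [Field F]

/-- coordinate subspaces -/
def std (F : Type*) [Field F] (n k : ℕ) : Submodule F (Fin n → F) where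
  carrier := {v | ∀ l : Fin n, k ≤ l.val → v l = 0}
  zero_mem' := fun _ _ => rfl
  add_mem' := fun {a b} ha hb l hl => by simp [ha l hl, hb l hl]
  smul_mem' := fun c a ha l hl => by simp [ha l hl]

theorem finrank_std (k : ℕ) (hk : k ≤ n) : Module.finrank F (std F n k) = k := by
  let e : std F n k ≃ₗ[F] (Fin k → F) :=
    { toFun := fun v a => v.1 (Fin.castLE hk a)
      map_add' := fun _ _ => rfl
      map_smul' := fun _ _ => rfl
      invFun := fun w => ⟨fun l => if h : l.val < k then w ⟨l.val, h⟩ else 0, fun l hl => dif_neg (not_lt.2 hl)⟩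
      left_inv := fun v => Subtype.ext (funext fun l => by
        by_cases h : l.val < k
        · simp [h]
        · simp [h, v.2 l (not_lt.1 h)])
      right_inv := fun w => funext fun a => by simp }
  rw [e.finrank_eq, Module.finrank_fin_fun]

/-- the linear map of an element -/
def lin (g : GL (Fin n) F) : (Fin n → F) →ₗ[F] (Fin n → F) := g.1.mulVecLin

theorem lin_mul (g h : GL (Fin n) F) (v : Fin n → F) : lin (g * h) v = lin g (lin h v) := by
  simp [lin, Matrix.mulVec_mulVec]

theorem lin_one (v : Fin n → F) : lin (1 : GL (Fin n) F) v = v := by simp [lin]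

theorem lin_inj (g : GL (Fin n) F) : Function.Injective (lin g) := fun a b h => by
  have := congrArg (lin g⁻¹) h
  rwa [← lin_mul, ← lin_mul, inv_mul_cancel, lin_one, lin_one] at this

theorem mapL_mul (g h : GL (Fin n) F) (U : Submodule F (Fin n → F)) :
    U.map (lin (g * h)) = (U.map (lin h)).map (lin g) := by
  rw [← Submodule.map_comp]
  congr 1
  exact LinearMap.ext fun v => lin_mul g h v

theorem mapL_one (U : Submodule F (Fin n → F)) : U.map (lin (1 : GL (Fin n) F)) = U := by
  rw [show lin (1 : GL (Fin n) F) = LinearMap.id from LinearMap.ext lin_one, Submodule.map_id]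

theorem finrank_map (g : GL (Fin n) F) (U : Submodule F (Fin n → F)) :
    Module.finrank F (U.map (lin g)) = Module.finrank F U :=
  ((Submodule.equivMapOfInjective _ (lin_inj g) U).finrank_eq).symm

theorem mem_parabolic {κ : Equiv.Perm (Fin n)} (h : Hess κ) (g : GL (Fin n) F) :
    g ∈ parabolicGL n F (mu κ) ↔ ∀ s ∈ setOf' κ, (std F n s).map (lin g) = std F n s := by
  constructor
  · intro hg s hs
    have key : ∀ g ∈ parabolicGL n F (mu κ), (std F n s).map (lin g) ≤ std F n s := by
      rintro g hg _ ⟨v, hv, rfl⟩ i hi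
      show ∑ j, g.1 i j * v j = 0
      refine Finset.sum_eq_zero fun j _ => ?_
      rcases le_or_gt s j.val with hj | hj
      · rw [hv j hj, mul_zero]
      · rw [hg ((label_lt h j i).2 ⟨s, hs, hj, hi⟩), zero_mul]
    refine le_antisymm (key g hg) fun v hv => ⟨lin g⁻¹ v, key g⁻¹ (inv_mem hg) ⟨v, hv, rfl⟩, ?_⟩
    rw [← lin_mul, mul_inv_cancel, lin_one]
  · intro hg i j hij
    obtain ⟨s, hs, hjs, hsi⟩ := (label_lt h j i).1 hij
    have hm : lin g (Pi.single j 1) ∈ std F n s := by
      rw [← hg s hs]
      refine ⟨_, fun l hl => Pi.single_eq_of_ne ?_ _, rfl⟩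
      intro e; subst e; omega
    have := hm i hsi
    simpa [lin] using this

/-- invariant chains with given dimensions -/
def IsFlag (g : GL (Fin n) F) (S : Finset ℕ) (C : Finset (Submodule F (Fin n → F))) : Prop :=
  (∀ U ∈ C, U.map (lin g) = U) ∧ (∀ U ∈ C, ∀ U' ∈ C, U ≤ U' ∨ U' ≤ U) ∧
    C.image (fun U : Submodule F (Fin n → F) => Module.finrank F U) = S

/-- an adapted change of coordinates -/
theorem exists_adapted {C : Finset (Submodule F (Fin n → F))} (hC : ∀ U ∈ C, ∀ U' ∈ C, U ≤ U' ∨ U' ≤ U)
    (htop : n ≠ 0 → (⊤ : Submodule F (Fin n → F)) ∈ C) :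
    ∃ h : GL (Fin n) F, ∀ U ∈ C, (std F n (Module.finrank F U)).map (lin h) = U := by
  have key : ∀ k : ℕ, k ≤ n → ∃ v : Fin k → (Fin n → F), LinearIndependent F v ∧
      ∀ U ∈ C, ∀ j : Fin k, j.val < Module.finrank F U → v j ∈ U := by
    intro k
    induction k with
    | zero => exact fun _ => ⟨Fin.elim0, linearIndependent_empty_type, fun _ _ j => j.elim0⟩
    | succ k ih =>
      intro hk
      obtain ⟨v, hv, hvU⟩ := ih (by omega)
      obtain ⟨U₀, hU₀, hmin⟩ := Finset.exists_min_image (C.filter fun U : Submodule F (Fin n → F) => k < Module.finrank F U)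
        (fun U : Submodule F (Fin n → F) => Module.finrank F U) ⟨⊤, Finset.mem_filter.2 ⟨htop (by omega), by simp; omega⟩⟩
      rw [Finset.mem_filter] at hU₀
      obtain ⟨w, hw, hwv⟩ : ∃ w ∈ U₀, w ∉ Submodule.span F (Set.range v) := by
        by_contra! hall
        have := Submodule.finrank_mono (R := F) (show U₀ ≤ Submodule.span F (Set.range v) from hall)
        rw [finrank_span_eq_card hv, Fintype.card_fin] at this
        omega
      refine ⟨Fin.snoc v w, linearIndependent_finSnoc.2 ⟨hv, hwv⟩, fun U hU j hj => ?_⟩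
      induction j using Fin.lastCases with
      | last =>
        rw [Fin.snoc_last]
        have hUf : U ∈ C.filter fun U : Submodule F (Fin n → F) => k < Module.finrank F U := Finset.mem_filter.2 ⟨hU, by simpa using hj⟩
        rcases hC U₀ hU₀.1 U hU with h | h
        · exact h hw
        · rw [Submodule.eq_of_le_of_finrank_le h (hmin U hUf)]
          exact hw
      | cast j =>
        rw [Fin.snoc_castSucc]
        exact hvU U hU j (by simpa using hj)
  obtain ⟨v, hv, hvU⟩ := key n le_rfl
  set A : Matrix (Fin n) (Fin n) F := (Matrix.of v).transpose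
  have hA : IsUnit A := Matrix.linearIndependent_cols_iff_isUnit.1 (by exact hv)
  refine ⟨hA.unit, fun U hU => Submodule.eq_of_le_of_finrank_le ?_ ?_⟩
  · rintro _ ⟨x, hx, rfl⟩
    have e : lin hA.unit x = ∑ j, x j • v j := by
      funext i
      show ∑ j, A i j * x j = _
      simp [A, Finset.sum_apply, mul_comm]
    rw [e]
    refine Submodule.sum_mem _ fun j _ => ?_
    rcases le_or_gt (Module.finrank F U) j.val with h | h
    · rw [hx j h, zero_smul]; exact zero_mem _
    · exact Submodule.smul_mem _ _ (hvU U hU j h)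
  · rw [finrank_map, finrank_std]
    exact (Submodule.finrank_le U).trans (by simp)

theorem inj_finrank {C : Finset (Submodule F (Fin n → F))} (hC : ∀ U ∈ C, ∀ U' ∈ C, U ≤ U' ∨ U' ≤ U)
    {U U' : Submodule F (Fin n → F)} (hU : U ∈ C) (hU' : U' ∈ C)
    (h : Module.finrank F U = Module.finrank F U') : U = U' := by
  rcases hC U hU U' hU' with hle | hle
  · exact Submodule.eq_of_le_of_finrank_le hle h.ge
  · exact (Submodule.eq_of_le_of_finrank_le hle h.le).symm

theorem std_mono {a b : ℕ} (h : a ≤ b) : std F n a ≤ std F n b := fun _ hv l hl => hv l (h.trans hl)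

variable [Fintype F]

/-- fixed cosets are invariant chains -/
theorem card_fixed {κ : Equiv.Perm (Fin n)} (h : Hess κ) (g : GL (Fin n) F) :
    Nat.card (MulAction.fixedBy (GL (Fin n) F ⧸ parabolicGL n F (mu κ)) g) =
      Nat.card {C // IsFlag g (setOf' κ) C} := by
  have hle : ∀ s ∈ setOf' κ, s ≤ n := fun s hs => (Finset.mem_Icc.1 ((good_setOf' κ).1 hs)).2
  set P := parabolicGL n F (mu κ)
  set φ : GL (Fin n) F → Finset (Submodule F (Fin n → F)) := fun a => (setOf' κ).image fun s => (std F n s).map (lin a)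
  have hφ : ∀ a b, φ a = φ b → ∀ s ∈ setOf' κ, (std F n s).map (lin a) = (std F n s).map (lin b) := by
    intro a b hab s hs
    have : (std F n s).map (lin a) ∈ φ b := hab ▸ Finset.mem_image_of_mem _ hs
    obtain ⟨s', hs', e⟩ := Finset.mem_image.1 this
    have := congrArg (fun U : Submodule F (Fin n → F) => Module.finrank F U) e
    simp only [finrank_map, finrank_std _ (hle _ hs'), finrank_std _ (hle _ hs)] at this
    rw [← e, this]
  have hwd : ∀ a b, QuotientGroup.leftRel P a b → φ a = φ b := by
    intro a b hab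
    rw [QuotientGroup.leftRel_apply, mem_parabolic h] at hab
    refine Finset.image_congr fun s hs => ?_
    conv_lhs => rw [← hab s hs, ← mapL_mul, mul_inv_cancel_left]
  set Φ : GL (Fin n) F ⧸ P → Finset (Submodule F (Fin n → F)) := fun x => Quotient.liftOn' x φ hwd
  have hΦmul : ∀ a, Φ ((g * a : GL (Fin n) F) : GL (Fin n) F ⧸ P) = (φ a).image (fun U => U.map (lin g)) := by
    intro a
    show φ (g * a) = _
    simp only [φ, Finset.image_image]
    exact Finset.image_congr fun s _ => mapL_mul g a _
  have hΦinj : Function.Injective Φ := by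
    intro x y hxy
    induction x using Quotient.inductionOn' with
    | _ a =>
    induction y using Quotient.inductionOn' with
    | _ b =>
    refine Quotient.sound' ?_
    rw [QuotientGroup.leftRel_apply, mem_parabolic h]
    intro s hs
    rw [mapL_mul, ← hφ a b hxy s hs, ← mapL_mul, inv_mul_cancel, mapL_one]
  have hfix : ∀ x, g • x = x → IsFlag g (setOf' κ) (Φ x) := by
    intro x hx
    induction x using Quotient.inductionOn' with
    | _ a =>
    have hga : φ (g * a) = φ a := congrArg Φ hx
    refine ⟨fun U hU => ?_, fun U hU U' hU' => ?_, ?_⟩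
    · obtain ⟨s, hs, rfl⟩ := Finset.mem_image.1 hU
      rw [← mapL_mul]
      exact hφ _ _ hga s hs
    · obtain ⟨s, hs, rfl⟩ := Finset.mem_image.1 hU
      obtain ⟨s', hs', rfl⟩ := Finset.mem_image.1 hU'
      rcases le_total s s' with hss | hss
      · exact Or.inl (Submodule.map_mono (std_mono hss))
      · exact Or.inr (Submodule.map_mono (std_mono hss))
    · show ((setOf' κ).image _).image _ = _
      rw [Finset.image_image]
      exact (Finset.image_congr fun s hs => by
        simp [finrank_map, finrank_std _ (hle _ hs)]).trans Finset.image_id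
  refine Nat.card_congr (Equiv.ofBijective (fun x => ⟨Φ x.1, hfix _ x.2⟩) ⟨?_, ?_⟩)
  · intro x y hxy
    exact Subtype.ext (hΦinj (congrArg Subtype.val hxy))
  · rintro ⟨C, hinv, hchain, hdim⟩
    have htop : n ≠ 0 → (⊤ : Submodule F (Fin n → F)) ∈ C := fun hn => by
      have := (good_setOf' κ).2 hn
      rw [← hdim, Finset.mem_image] at this
      obtain ⟨U, hU, hUn⟩ := this
      rwa [Submodule.eq_top_of_finrank_eq (show Module.finrank F U = Module.finrank F (Fin n → F) by simpa using hUn)] at hU
    obtain ⟨a, ha⟩ := exists_adapted hchain htop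
    have hC : φ a = C := by
      show (setOf' κ).image _ = C
      rw [← hdim, Finset.image_image]
      exact (Finset.image_congr fun U hU => ha U hU).trans Finset.image_id
    refine ⟨⟨(a : GL (Fin n) F ⧸ P), hΦinj ?_⟩, Subtype.ext hC⟩
    show Φ ((g * a : GL (Fin n) F) : GL (Fin n) F ⧸ P) = φ a
    rw [hΦmul, hC]
    exact (Finset.image_congr fun U hU => hinv U hU).trans Finset.image_id

/-- all invariant chains of nonzero subspaces ending in the whole space -/
def IsChainTop (g : GL (Fin n) F) (C : Finset (Submodule F (Fin n → F))) : Prop :=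
  (∀ U ∈ C, U.map (lin g) = U) ∧ (∀ U ∈ C, ∀ U' ∈ C, U ≤ U' ∨ U' ≤ U) ∧ (∀ U ∈ C, U ≠ ⊥) ∧
    (n ≠ 0 → ⊤ ∈ C)

theorem good_dims {g : GL (Fin n) F} {C : Finset (Submodule F (Fin n → F))} (h : IsChainTop g C) :
    Good n (C.image fun U : Submodule F (Fin n → F) => Module.finrank F U) := by
  refine ⟨fun s hs => ?_, fun hn => Finset.mem_image.2 ⟨⊤, h.2.2.2 hn, by simp⟩⟩
  obtain ⟨U, hU, rfl⟩ := Finset.mem_image.1 hs
  exact Finset.mem_Icc.2 ⟨Submodule.one_le_finrank_iff.2 (h.2.2.1 U hU), (Submodule.finrank_le U).trans (by simp)⟩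

/-- the character is the alternating sum over invariant chains -/
theorem value_eq_chains (g : GL (Fin n) F) [Fintype (Finset (Submodule F (Fin n → F)))] :
    unipotentCharacterGL n F (fun _ => 1) g =
      ∑ C ∈ Finset.univ.filter (fun C => IsChainTop g C), (-1 : ℂ) ^ (n + C.card) := by
  set f : Finset ℕ → ℂ := fun S => (-1 : ℂ) ^ (n + S.card) * (Nat.card {C // IsFlag g S C} : ℂ)
  have h1 : unipotentCharacterGL n F (fun _ => 1) g =
      ∑ S ∈ (Finset.Icc 1 n).powerset.filter (fun S => Good n S), f S := by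
    show ∑ κ : Equiv.Perm (Fin n), _ = _
    rw [← Finset.sum_filter]
    refine Finset.sum_bij (fun κ _ => setOf' κ) (fun κ _ => ?_) (fun a ha b hb e => ?_) (fun S hS => ?_)
      fun κ hκ => ?_
    · exact Finset.mem_filter.2 ⟨Finset.mem_powerset.2 (good_setOf' κ).1, good_setOf' κ⟩
    · exact eq_of_setOf' (Finset.mem_filter.1 ha).2 (Finset.mem_filter.1 hb).2 e
    · obtain ⟨-, hG⟩ := Finset.mem_filter.1 hS
      exact ⟨kap hG, Finset.mem_filter.2 ⟨Finset.mem_univ _, hess_kap hG⟩, setOf'_kap hG⟩
    · have hh : Hess κ := (Finset.mem_filter.1 hκ).2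
      have hs : ((Equiv.Perm.sign κ : ℤ) : ℂ) = (-1 : ℂ) ^ (n + (setOf' κ).card) := by
        rw [show Equiv.Perm.sign κ = Equiv.Perm.sign (kap (good_setOf' κ)) from
          congrArg Equiv.Perm.sign (eq_of_setOf' hh (hess_kap (good_setOf' κ)) (setOf'_kap _).symm), sign_kap _ (good_setOf' κ) rfl]
        have hle : (setOf' κ).card ≤ n := (Finset.card_le_card (good_setOf' κ).1).trans (by simp)
        push_cast
        rw [show n + (setOf' κ).card = (n - (setOf' κ).card) + ((setOf' κ).card + (setOf' κ).card) by omega,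
          pow_add, pow_add, ← mul_pow]
        simp
      show _ * fixedPointCharacter (parabolicGL n F (mu κ)) g = _
      rw [fixedPointCharacter, card_fixed hh, hs]
  rw [h1, ← Finset.sum_fiberwise_of_maps_to (g := fun C : Finset (Submodule F (Fin n → F)) =>
    C.image fun U : Submodule F (Fin n → F) => Module.finrank F U) (t := (Finset.Icc 1 n).powerset.filter (fun S => Good n S))
    (fun C hC => Finset.mem_filter.2 ⟨Finset.mem_powerset.2 (good_dims (Finset.mem_filter.1 hC).2).1,
      good_dims (Finset.mem_filter.1 hC).2⟩)]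
  refine Finset.sum_congr rfl fun S hS => ?_
  have hG := (Finset.mem_filter.1 hS).2
  rw [Finset.sum_congr rfl (g := fun _ => (-1 : ℂ) ^ (n + S.card)) fun C hC => ?_, Finset.sum_const, nsmul_eq_mul,
    mul_comm]
  · simp only [f]
    congr 2
    rw [Nat.card_eq_fintype_card, Fintype.card_subtype, Finset.filter_filter]
    congr 1
    ext C
    simp only [Finset.mem_filter, Finset.mem_univ, true_and]
    constructor
    · rintro ⟨h1, h2, h3⟩
      refine ⟨⟨h1, h2, fun U hU e => ?_, fun hn => ?_⟩, h3⟩
      · have : Module.finrank F U ∈ S := h3 ▸ Finset.mem_image_of_mem _ hU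
        have := (Finset.mem_Icc.1 (hG.1 this)).1
        rw [e, finrank_bot] at this
        omega
      · have := hG.2 hn
        rw [← h3, Finset.mem_image] at this
        obtain ⟨U, hU, hUn⟩ := this
        rwa [Submodule.eq_top_of_finrank_eq (show Module.finrank F U = Module.finrank F (Fin n → F) by simpa using hUn)] at hU
    · rintro ⟨⟨h1, h2, -, -⟩, h3⟩
      exact ⟨h1, h2, h3⟩
  · rw [Finset.mem_filter, Finset.mem_filter] at hC
    rw [← hC.2, Finset.card_image_of_injOn fun U hU U' hU' e => inj_finrank hC.1.2.2.1 hU hU' e]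

end Cfsg.Agent.GLSteinbergFlags
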