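import Cfsg.Agent.Lib.GLSteinbergFlags

/-!
The value of the Steinberg character of `GL n F` at a semisimple element.
-/

set_option autoImplicit false
set_option linter.unusedSectionVars false

namespace Cfsg.Agent.GLSteinbergValue

open scoped MatrixGroups Classical
open Cfsg Polynomial Cfsg.Agent.GLSteinbergFlags Cfsg.Agent.SemisimpleAlternating

variable {F : Type*} [Field F] [Fintype F]

section Chains

variable {M : Type*} [AddCommGroup M] [Module F M] [Module F[X] M] [IsScalarTower F F[X] M] [Finite M]

/-- chains of nonzero submodules ending in `U` -/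
def ChainTo (U : Submodule F[X] M) (C : Finset (Submodule F[X] M)) : Prop :=
  (∀ W ∈ C, W ≤ U) ∧ (∀ W ∈ C, ∀ W' ∈ C, W ≤ W' ∨ W' ≤ W) ∧ (∀ W ∈ C, W ≠ ⊥) ∧ (U ≠ ⊥ → U ∈ C)

/-- the alternating sum over chains -/
noncomputable def T [Fintype (Finset (Submodule F[X] M))] (U : Submodule F[X] M) : ℤ :=
  ∑ C ∈ Finset.univ.filter (fun C => ChainTo U C), (-1) ^ (Module.finrank F U + C.card)

variable [Fintype (Submodule F[X] M)] [Fintype (Finset (Submodule F[X] M))]

theorem T_bot : T (F := F) (⊥ : Submodule F[X] M) = 1 := by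
  rw [T, show Finset.univ.filter (fun C => ChainTo (⊥ : Submodule F[X] M) C) = {∅} from ?_, Finset.sum_singleton,
    Finset.card_empty, Module.finrank_zero_of_subsingleton]
  · simp
  · ext C
    simp only [Finset.mem_filter, Finset.mem_univ, true_and, Finset.mem_singleton]
    constructor
    · rintro ⟨h1, -, h3, -⟩
      exact Finset.eq_empty_of_forall_notMem fun W hW => h3 W hW (le_bot_iff.1 (h1 W hW))
    · rintro rfl
      exact ⟨by simp, by simp, by simp, fun h => absurd rfl h⟩

theorem chain_max (D : Finset (Submodule F[X] M)) (hc : ∀ W ∈ D, ∀ W' ∈ D, W ≤ W' ∨ W' ≤ W) (hne : D.Nonempty) :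
    ∃ m ∈ D, ∀ W ∈ D, W ≤ m := by
  obtain ⟨m, hm, hmax⟩ := Finset.exists_max_image D (fun W => Module.finrank F W) hne
  refine ⟨m, hm, fun W hW => ?_⟩
  rcases hc W hW m hm with h | h
  · exact h
  · have he : m.restrictScalars F = W.restrictScalars F :=
      Submodule.eq_of_le_of_finrank_le (fun x hx => h hx) (hmax W hW)
    exact le_of_eq (Submodule.restrictScalars_injective F F[X] M he).symm

theorem T_rec (U : Submodule F[X] M) (hU : U ≠ ⊥) :
    ∑ U' ∈ Finset.univ.filter (fun U' => U' ≤ U), (-1) ^ Module.finrank F U' * T (F := F) U' = 0 := by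
  have hUm : U ∈ Finset.univ.filter (fun U' => U' ≤ U) := by simp
  have key : T (F := F) U = -((-1) ^ Module.finrank F U *
      ∑ U' ∈ (Finset.univ.filter fun U' => U' ≤ U).erase U, (-1) ^ Module.finrank F U' * T (F := F) U') := by
    simp only [T, Finset.mul_sum]
    rw [Finset.sum_sigma', ← Finset.sum_neg_distrib]
    have hnot : ∀ x ∈ ((Finset.univ.filter fun U' => U' ≤ U).erase U).sigma
        (fun U' => Finset.univ.filter fun C => ChainTo U' C), U ∉ x.2 := by
      rintro ⟨U', C⟩ hx hUC
      simp only [Finset.mem_sigma, Finset.mem_erase, Finset.mem_filter, Finset.mem_univ, true_and] at hx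
      exact hx.1.1 (le_antisymm hx.1.2 (hx.2.1 U hUC))
    symm
    refine Finset.sum_bij (fun x _ => insert U x.2) (fun x hx => ?_) (fun x hx y hy e => ?_) (fun C hC => ?_)
      fun x hx => ?_
    · obtain ⟨U', C⟩ := x
      simp only [Finset.mem_sigma, Finset.mem_erase, Finset.mem_filter, Finset.mem_univ, true_and] at hx ⊢
      obtain ⟨⟨-, hle⟩, h1, h2, h3, -⟩ := hx
      refine ⟨fun W hW => ?_, fun W hW W' hW' => ?_, fun W hW => ?_, fun _ => Finset.mem_insert_self _ _⟩
      · rcases Finset.mem_insert.1 hW with rfl | hW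
        · exact le_rfl
        · exact (h1 W hW).trans hle
      · rcases Finset.mem_insert.1 hW with e | hW
        · subst e
          rcases Finset.mem_insert.1 hW' with e | hW'
          · exact Or.inl e.ge
          · exact Or.inr ((h1 W' hW').trans hle)
        · rcases Finset.mem_insert.1 hW' with e | hW'
          · exact Or.inl (((h1 W hW).trans hle).trans e.ge)
          · exact h2 W hW W' hW'
      · rcases Finset.mem_insert.1 hW with rfl | hW
        · exact hU
        · exact h3 W hW
    · have hC : x.2 = y.2 := by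
        rw [← Finset.erase_insert (hnot x hx), e, Finset.erase_insert (hnot y hy)]
      obtain ⟨U₁, C₁⟩ := x
      obtain ⟨U₂, C₂⟩ := y
      simp only at hC
      subst hC
      simp only [Finset.mem_sigma, Finset.mem_erase, Finset.mem_filter, Finset.mem_univ, true_and] at hx hy
      have hle : ∀ {A B : Submodule F[X] M}, ChainTo A C₁ → ChainTo B C₁ → A ≤ B := by
        intro A B hA hB
        rcases eq_or_ne A ⊥ with rfl | hne
        · exact bot_le
        · exact hB.1 A (hA.2.2.2 hne)
      obtain rfl : U₁ = U₂ := le_antisymm (hle hx.2 hy.2) (hle hy.2 hx.2)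
      rfl
    · simp only [Finset.mem_filter, Finset.mem_univ, true_and] at hC
      obtain ⟨h1, h2, h3, h4⟩ := hC
      rcases (C.erase U).eq_empty_or_nonempty with he | hne
      · refine ⟨⟨⊥, ∅⟩, ?_, ?_⟩
        · simp only [Finset.mem_sigma, Finset.mem_erase, Finset.mem_filter, Finset.mem_univ, true_and]
          exact ⟨⟨hU.symm, bot_le⟩, by simp, by simp, by simp, fun h => absurd rfl h⟩
        · show insert U ∅ = C
          rw [← he, Finset.insert_erase (h4 hU)]
      · obtain ⟨m, hm, hmax⟩ := chain_max (C.erase U)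
          (fun W hW W' hW' => h2 W (Finset.mem_of_mem_erase hW) W' (Finset.mem_of_mem_erase hW')) hne
        refine ⟨⟨m, C.erase U⟩, ?_, Finset.insert_erase (h4 hU)⟩
        simp only [Finset.mem_sigma, Finset.mem_filter, Finset.mem_univ, true_and]
        refine ⟨Finset.mem_erase.2 ⟨(Finset.mem_erase.1 hm).1,
          Finset.mem_filter.2 ⟨Finset.mem_univ _, h1 m (Finset.mem_of_mem_erase hm)⟩⟩, ⟨hmax,
          fun W hW W' hW' => h2 W (Finset.mem_of_mem_erase hW) W' (Finset.mem_of_mem_erase hW'),
          fun W hW => h3 W (Finset.mem_of_mem_erase hW), fun _ => hm⟩⟩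
    · have hx' := hnot x hx
      rw [Finset.card_insert_of_notMem hx', pow_add, pow_add, pow_succ]
      have hs : ((-1 : ℤ) ^ Module.finrank F x.1) * (-1) ^ Module.finrank F x.1 = 1 := by
        rw [← mul_pow]; simp
      linear_combination ((-1 : ℤ) ^ Module.finrank F U * (-1) ^ x.2.card) * (-hs)
  rw [← Finset.add_sum_erase _ _ hUm, key]
  have hs : ((-1 : ℤ) ^ Module.finrank F U) * (-1) ^ Module.finrank F U = 1 := by
    rw [← mul_pow]; simp
  linear_combination (-∑ U' ∈ (Finset.univ.filter fun U' => U' ≤ U).erase U,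
    (-1 : ℤ) ^ Module.finrank F U' * T (F := F) U') * hs

end Chains

variable {n : ℕ}

/-- the submodule of an `F[X]`-submodule -/
noncomputable def toSub (x : GL (Fin n) F) (U : Submodule F[X] (Module.AEval' (lin x))) : Submodule F (Fin n → F) :=
  (U.restrictScalars F).comap (Module.AEval'.of (lin x)).toLinearMap

theorem toSub_le_iff {x : GL (Fin n) F} {U W : Submodule F[X] (Module.AEval' (lin x))} :
    toSub x U ≤ toSub x W ↔ U ≤ W := by
  refine ⟨fun h v hv => ?_, fun h v hv => h hv⟩
  obtain ⟨w, rfl⟩ := (Module.AEval'.of (lin x)).surjective v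
  exact h hv

theorem toSub_inj (x : GL (Fin n) F) : Function.Injective (toSub x) := fun U W h =>
  le_antisymm (toSub_le_iff.1 h.le) (toSub_le_iff.1 h.ge)

theorem toSub_invariant (x : GL (Fin n) F) (U : Submodule F[X] (Module.AEval' (lin x))) :
    (toSub x U).map (lin x) = toSub x U := by
  refine Submodule.eq_of_le_of_finrank_le ?_ (finrank_map x _).ge
  rintro _ ⟨v, hv, rfl⟩
  show Module.AEval'.of (lin x) (lin x v) ∈ U
  rw [← Module.AEval'.X_smul_of]
  exact U.smul_mem _ hv

theorem exists_toSub {x : GL (Fin n) F} {W : Submodule F (Fin n → F)} (hW : W.map (lin x) = W) :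
    ∃ U, toSub x U = W := by
  let e := Module.AEval'.of (lin x)
  have hpow : ∀ k : ℕ, ∀ v ∈ W, ((lin x) ^ k) v ∈ W := by
    intro k
    induction k with
    | zero => intro v hv; simpa using hv
    | succ k ih =>
      intro v hv
      rw [pow_succ, Module.End.mul_apply]
      exact ih _ (by rw [← hW]; exact ⟨v, hv, rfl⟩)
  refine ⟨{ carrier := {m | e.symm m ∈ W}, add_mem' := fun {a b} ha hb => by show e.symm (a + b) ∈ W; rw [map_add]; exact W.add_mem ha hb,
            zero_mem' := by simp, smul_mem' := fun P m hm => ?_ }, ?_⟩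
  · obtain ⟨v, rfl⟩ := e.surjective m
    simp only [Set.mem_setOf_eq, LinearEquiv.symm_apply_apply] at hm
    show e.symm (P • e v) ∈ W
    induction P using Polynomial.induction_on' with
    | add p q hp hq => rw [add_smul, map_add]; exact W.add_mem hp hq
    | monomial k c =>
      have : (monomial k c) • e v = e (c • ((lin x) ^ k) v) := by
        rw [← Module.AEval.of_aeval_smul, aeval_monomial]
        simp [Algebra.algebraMap_eq_smul_one, e, Module.AEval'.of]
      rw [this, LinearEquiv.symm_apply_apply]
      exact W.smul_mem c (hpow k v hm)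
  · ext v
    show e.symm (e v) ∈ W ↔ v ∈ W
    rw [LinearEquiv.symm_apply_apply]

theorem value_semisimple (p : ℕ) [Fact p.Prime] [CharP F p] {q : ℕ} (hq : Fintype.card F = q)
    (x : GL (Fin n) F) (hx : (orderOf x).Coprime p) :
    unipotentCharacterGL n F (fun _ => 1) x =
      ∏ f ∈ (UniqueFactorizationMonoid.normalizedFactors x.1.charpoly).toFinset,
        (-1 : ℂ) ^ ((f.natDegree - 1) * (UniqueFactorizationMonoid.normalizedFactors x.1.charpoly).count f) *
          (q : ℂ) ^ (f.natDegree * (UniqueFactorizationMonoid.normalizedFactors x.1.charpoly).count f *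
            ((UniqueFactorizationMonoid.normalizedFactors x.1.charpoly).count f - 1) / 2) := by
  subst hq
  set L := lin x
  have hsq : Squarefree ((X : F[X]) ^ orderOf x - 1) := by
    refine Separable.squarefree (X_pow_sub_one_separable_iff.2 ?_)
    rw [Ne, CharP.cast_eq_zero_iff F p]
    exact (Nat.Prime.coprime_iff_not_dvd Fact.out).1 hx.symm
  have haev : aeval L ((X : F[X]) ^ orderOf x - 1) = 0 := by
    rw [map_sub, map_pow, aeval_X, map_one, sub_eq_zero]
    have : ∀ k : ℕ, L ^ k = lin (x ^ k) := by
      intro k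
      induction k with
      | zero => exact LinearMap.ext fun v => (lin_one v).symm
      | succ k ih => exact LinearMap.ext fun v => by rw [pow_succ, pow_succ, Module.End.mul_apply, ih, lin_mul]
    rw [this, pow_orderOf_eq_one]
    exact LinearMap.ext lin_one
  have : IsSemisimpleModule F[X] (Module.AEval' L) :=
    Module.End.isSemisimple_of_squarefree_aeval_eq_zero hsq haev
  have : Finite (Module.AEval' L) := Finite.of_equiv _ (Module.AEval'.of L).toEquiv
  have : Fintype (Submodule F[X] (Module.AEval' L)) := Fintype.ofFinite _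
  have hW := eq_weight (F := F) (T (F := F) (M := Module.AEval' L)) T_bot T_rec ⊤
  have hsum : unipotentCharacterGL n F (fun _ => 1) x = ((T (F := F) (⊤ : Submodule F[X] (Module.AEval' L)) : ℤ) : ℂ) := by
    rw [value_eq_chains, T]
    push_cast
    have hfr : Module.finrank F (⊤ : Submodule F[X] (Module.AEval' L)) = n := by
      rw [show Module.finrank F (⊤ : Submodule F[X] (Module.AEval' L)) = Module.finrank F (Module.AEval' L) from
        ((Submodule.topEquiv (R := F[X]) (M := Module.AEval' L)).restrictScalars F).finrank_eq,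
        ← (Module.AEval'.of L).finrank_eq, Module.finrank_fin_fun]
    rw [hfr]
    symm
    refine Finset.sum_bij (fun C _ => C.image (toSub x)) (fun C hC => ?_) (fun a _ b _ e => ?_) (fun C hC => ?_)
      fun C _ => by rw [Finset.card_image_of_injective _ (toSub_inj x)]
    · obtain ⟨-, h2, h3, h4⟩ := (Finset.mem_filter.1 hC).2
      refine Finset.mem_filter.2 ⟨Finset.mem_univ _, ?_, ?_, ?_, ?_⟩
      · intro U hU
        obtain ⟨W, -, rfl⟩ := Finset.mem_image.1 hU
        exact toSub_invariant x W
      · intro U hU U' hU'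
        obtain ⟨W, hW, rfl⟩ := Finset.mem_image.1 hU
        obtain ⟨W', hW', rfl⟩ := Finset.mem_image.1 hU'
        exact (h2 W hW W' hW').imp toSub_le_iff.2 toSub_le_iff.2
      · intro U hU e
        obtain ⟨W, hW, rfl⟩ := Finset.mem_image.1 hU
        refine h3 W hW (toSub_inj x (e.trans ?_))
        ext v
        simp [toSub]
      · intro hn
        refine Finset.mem_image.2 ⟨⊤, h4 ?_, by ext v; simp [toSub]⟩
        intro e
        rw [e, Module.finrank_zero_of_subsingleton] at hfr
        exact hn hfr.symm
    · exact Finset.image_injective (toSub_inj x) e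
    · obtain ⟨h1, h2, h3, h4⟩ := (Finset.mem_filter.1 hC).2
      have hpre : ∀ W ∈ C, ∃ U, toSub x U = W := fun W hW => exists_toSub (h1 W hW)
      refine ⟨Finset.univ.filter fun U => toSub x U ∈ C, Finset.mem_filter.2 ⟨Finset.mem_univ _, ?_⟩, ?_⟩
      · refine ⟨fun _ _ => le_top, fun W hW W' hW' => ?_, fun W hW e => ?_, fun hne => ?_⟩
        · exact (h2 _ (Finset.mem_filter.1 hW).2 _ (Finset.mem_filter.1 hW').2).imp toSub_le_iff.1 toSub_le_iff.1
        · refine h3 _ (Finset.mem_filter.1 hW).2 ?_
          rw [e]
          ext v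
          simp [toSub]
        · refine Finset.mem_filter.2 ⟨Finset.mem_univ _, ?_⟩
          have hn : n ≠ 0 := by
            intro e
            subst e
            exact hne (eq_bot_iff.2 fun v _ => by
              obtain ⟨w, rfl⟩ := (Module.AEval'.of L).surjective v
              rw [Submodule.mem_bot, Subsingleton.elim w 0, map_zero])
          rw [show toSub x ⊤ = ⊤ by ext v; simp [toSub]]
          exact h4 hn
      · ext W
        simp only [Finset.mem_image, Finset.mem_filter, Finset.mem_univ, true_and]
        constructor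
        · rintro ⟨U, hU, rfl⟩; exact hU
        · intro hW
          obtain ⟨U, rfl⟩ := hpre W hW
          exact ⟨U, hW, rfl⟩
  have hPhi : Phi F (⊤ : Submodule F[X] (Module.AEval' L)) = UniqueFactorizationMonoid.normalizedFactors x.1.charpoly := by
    rw [Phi_congr (Submodule.topEquiv (R := F[X]) (M := Module.AEval' L)), Phi]
    congr 1
    have : mulX F (Module.AEval' L) = (Module.AEval'.of L).conj L := by
      ext m
      obtain ⟨w, rfl⟩ := (Module.AEval'.of L).surjective m
      simp [mulX, LinearEquiv.conj_apply, Module.AEval'.X_smul_of]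
    rw [this, LinearEquiv.charpoly_conj]
    exact Matrix.charpoly_mulVecLin _
  rw [hsum, hW, weight, hPhi, Int.cast_prod]
  refine Finset.prod_congr rfl fun f _ => ?_
  rw [wt]
  push_cast
  rfl

end Cfsg.Agent.GLSteinbergValue
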