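import Mathlib
import Cfsg.Prelude.Def_LinearParabolics

/-!
Double cosets of standard parabolic subgroups of `GL_n` over a finite field, of Young subgroups,
and contingency matrices; averages of products of permutation characters.
-/

set_option autoImplicit false

namespace Cfsg.Agent.GLUnipotentDC

open Finset
open scoped MatrixGroups

/-! ### Burnside for a pair of coset spaces -/

section Burnside

variable {G : Type*} [Group G]

/-- The map from double cosets to orbits on pairs of cosets. -/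
noncomputable def dcEquivOrbits (H K : Subgroup G) :
    DoubleCoset.Quotient (H : Set G) K ≃ MulAction.orbitRel.Quotient G ((G ⧸ H) × (G ⧸ K)) := by
  refine Equiv.ofBijective
    (Quotient.lift (fun a : G => Quotient.mk'' (((1 : G) : G ⧸ H), (a : G ⧸ K))) ?_) ⟨?_, ?_⟩
  · intro a b hab
    have hab' := (DoubleCoset.rel_iff (H := H) (K := K)).1 hab
    obtain ⟨h, hh, k, hk, rfl⟩ := hab'
    apply Quotient.sound'
    change _ ∈ MulAction.orbit G _
    refine ⟨h⁻¹, ?_⟩
    simp only [Prod.smul_mk, MulAction.Quotient.smul_coe, smul_eq_mul, Prod.mk.injEq,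
      QuotientGroup.eq]
    constructor
    · simpa using hh
    · rw [show (h⁻¹ * (h * a * k))⁻¹ * a = k⁻¹ by group]
      exact inv_mem hk
  · intro x y
    induction x using Quotient.inductionOn
    induction y using Quotient.inductionOn
    rename_i a b
    intro hab
    have hab' := Quotient.exact' hab
    obtain ⟨g, hg⟩ := hab'
    simp only [Prod.smul_mk, MulAction.Quotient.smul_coe, smul_eq_mul, Prod.mk.injEq,
      QuotientGroup.eq] at hg
    obtain ⟨h1, h2⟩ := hg
    apply Quotient.sound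
    apply (DoubleCoset.rel_iff (H := H) (K := K)).2
    refine ⟨g⁻¹, by simpa using h1, ((g * b)⁻¹ * a)⁻¹, inv_mem h2, ?_⟩
    group
  · intro x
    induction x using Quotient.inductionOn' with
    | _ p =>
      obtain ⟨x, y⟩ := p
      induction x using Quotient.inductionOn'
      induction y using Quotient.inductionOn'
      rename_i x y
      refine ⟨Quotient.mk _ (x⁻¹ * y), ?_⟩
      change Quotient.mk'' _ = Quotient.mk'' _
      apply Quotient.sound'
      refine ⟨x⁻¹, ?_⟩
      change (((x⁻¹ • (x : G ⧸ H)), (x⁻¹ • (y : G ⧸ K))) : (G ⧸ H) × (G ⧸ K)) = _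
      simp [MulAction.Quotient.smul_coe]

/-- Burnside: the average of the product of two permutation characters is the number of double cosets. -/
theorem avg_fixed_mul [Fintype G] (H K : Subgroup G) :
    (Nat.card G : ℂ)⁻¹ * ∑ g : G, Cfsg.fixedPointCharacter H g * Cfsg.fixedPointCharacter K g =
      (Nat.card (DoubleCoset.Quotient (H : Set G) K) : ℂ) := by
  classical
  rw [Nat.card_congr (dcEquivOrbits H K), Nat.card_eq_fintype_card, Nat.card_eq_fintype_card]
  have hB := MulAction.sum_card_fixedBy_eq_card_orbits_mul_card_group G ((G ⧸ H) × (G ⧸ K))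
  have hfix : ∀ g : G, Cfsg.fixedPointCharacter H g * Cfsg.fixedPointCharacter K g =
      (Fintype.card (MulAction.fixedBy ((G ⧸ H) × (G ⧸ K)) g) : ℂ) := by
    intro g
    unfold Cfsg.fixedPointCharacter
    rw [← Nat.cast_mul, ← Nat.card_prod, ← Nat.card_eq_fintype_card]
    congr 1
    exact Nat.card_congr
      { toFun := fun p => ⟨(p.1.1, p.2.1), Prod.ext p.1.2 p.2.2⟩
        invFun := fun p => (⟨p.1.1, congrArg Prod.fst p.2⟩, ⟨p.1.2, congrArg Prod.snd p.2⟩)
        left_inv := fun p => rfl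
        right_inv := fun p => rfl }
  simp only [hfix, ← Nat.cast_sum, hB, Nat.cast_mul]
  have hne : (Fintype.card G : ℂ) ≠ 0 := Nat.cast_ne_zero.2 Fintype.card_ne_zero
  field_simp

end Burnside

/-! ### Block labels -/

section Labels

variable {n : ℕ}

theorem compLabel_mono (μ : Fin n → ℕ) : Monotone (Cfsg.compLabel μ) := by
  intro i j hij
  unfold Cfsg.compLabel
  apply Finset.card_le_card
  intro k
  simp only [Finset.mem_filter, Finset.mem_univ, true_and]
  intro h
  exact h.trans hij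

/-- Enumeration of the positions by (block, index in block). -/
def blockEquiv (μ : Fin n → ℕ) (h : ∑ i, μ i = n) : (Σ i, Fin (μ i)) ≃ Fin n :=
  finSigmaFinEquiv.trans (finCongr h)

/-- The block of a position, as an element of `Fin n`. -/
def lab (μ : Fin n → ℕ) (h : ∑ i, μ i = n) (k : Fin n) : Fin n := ((blockEquiv μ h).symm k).1

theorem compLabel_blockEquiv (μ : Fin n → ℕ) (h : ∑ i, μ i = n) (p : Σ i, Fin (μ i)) :
    Cfsg.compLabel μ (blockEquiv μ h p) = p.1.val := by
  obtain ⟨i, j⟩ := p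
  have hpos : (blockEquiv μ h ⟨i, j⟩).val
      = ∑ k ∈ Finset.univ.filter (fun k : Fin n => k < i), μ k + j.val := by
    unfold blockEquiv
    simp only [Equiv.trans_apply, finCongr_apply, Fin.val_cast, finSigmaFinEquiv_apply,
      add_left_inj]
    symm
    refine Finset.sum_bij (fun k hk => (⟨k.val, (Finset.mem_filter.1 hk).2⟩ : Fin i.val)) ?_ ?_ ?_ ?_
    · intros; exact Finset.mem_univ _
    · intro a _ b _ hab
      exact Fin.ext (by simpa [Fin.ext_iff] using hab)
    · intro b _
      exact ⟨Fin.castLE i.isLt.le b, Finset.mem_filter.2 ⟨Finset.mem_univ _, b.isLt⟩, rfl⟩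
    · intros; rfl
  unfold Cfsg.compLabel
  rw [← Fin.card_Iio i]
  congr 1
  ext t
  simp only [Finset.mem_filter, Finset.mem_univ, true_and, Finset.mem_Iio, hpos]
  constructor
  · intro ht
    by_contra hti
    push Not at hti
    have h1 : ∑ k ∈ Finset.univ.filter (fun k : Fin n => k < i), μ k + μ i
        ≤ ∑ k ∈ Finset.univ.filter (fun k : Fin n => k ≤ t), μ k := by
      rw [add_comm, ← Finset.sum_insert (by simp)]
      apply Finset.sum_le_sum_of_subset
      intro k
      simp only [Finset.mem_insert, Finset.mem_filter, Finset.mem_univ, true_and]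
      rintro (rfl | hk)
      · exact hti
      · exact hk.le.trans hti
    have := j.isLt
    omega
  · intro ht
    refine le_trans (Finset.sum_le_sum_of_subset ?_) (Nat.le_add_right _ _)
    intro k
    simp only [Finset.mem_filter, Finset.mem_univ, true_and]
    exact fun hk => lt_of_le_of_lt hk ht

theorem compLabel_eq_lab (μ : Fin n → ℕ) (h : ∑ i, μ i = n) (k : Fin n) :
    Cfsg.compLabel μ k = (lab μ h k).val := by
  conv_lhs => rw [← (blockEquiv μ h).apply_symm_apply k]
  rw [compLabel_blockEquiv]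
  rfl

theorem card_lab_fiber (μ : Fin n → ℕ) (h : ∑ i, μ i = n) (a : Fin n) :
    Fintype.card {k : Fin n // lab μ h k = a} = μ a := by
  rw [← Fintype.card_fin (μ a)]
  exact Fintype.card_congr
    ((Equiv.subtypeEquiv (blockEquiv μ h).symm (q := fun p => p.1 = a) fun k => Iff.rfl).trans
      (Equiv.sigmaSubtype a))

theorem mem_youngSubgroup_iff (μ : Fin n → ℕ) (h : ∑ i, μ i = n) (σ : Equiv.Perm (Fin n)) :
    σ ∈ Cfsg.youngSubgroup μ ↔ ∀ k, lab μ h (σ k) = lab μ h k := by
  change (∀ k, _) ↔ _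
  simp only [compLabel_eq_lab μ h, Fin.val_inj]

end Labels

/-! ### Permutation matrices -/

section Perm

variable {n : ℕ} {F : Type*} [Field F]

/-- The permutation matrix sending basis vector `j` to basis vector `σ j`, as a monoid hom. -/
def permMatHom (n : ℕ) (F : Type*) [Field F] : Equiv.Perm (Fin n) →* Matrix (Fin n) (Fin n) F where
  toFun σ := Matrix.of fun i j => if i = σ j then 1 else 0
  map_one' := by
    ext i j
    rw [Matrix.one_apply]
    simp
    congr
  map_mul' σ τ := by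
    ext i j
    rw [Matrix.mul_apply, Finset.sum_eq_single (τ j)]
    · simp
      congr
    · intro b _ hb
      simp [hb]
    · simp

/-- Permutation matrices in the general linear group. -/
def permGL (n : ℕ) (F : Type*) [Field F] : Equiv.Perm (Fin n) →* GL (Fin n) F :=
  (permMatHom n F).toHomUnits

theorem permGL_coe (σ : Equiv.Perm (Fin n)) (i j : Fin n) :
    (permGL n F σ : Matrix (Fin n) (Fin n) F) i j = if i = σ j then 1 else 0 := rfl

theorem permGL_mul_apply (σ : Equiv.Perm (Fin n)) (A : Matrix (Fin n) (Fin n) F) (i j : Fin n) :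
    ((permGL n F σ : Matrix (Fin n) (Fin n) F) * A) i j = A (σ⁻¹ i) j := by
  rw [Matrix.mul_apply, Finset.sum_eq_single (σ⁻¹ i)]
  · simp [permGL_coe]
  · intro b _ hb
    rw [permGL_coe, if_neg, zero_mul]
    intro h
    exact hb (by simp [h])
  · simp

theorem mul_permGL_apply (σ : Equiv.Perm (Fin n)) (A : Matrix (Fin n) (Fin n) F) (i j : Fin n) :
    (A * (permGL n F σ : Matrix (Fin n) (Fin n) F)) i j = A i (σ j) := by
  rw [Matrix.mul_apply, Finset.sum_eq_single (σ j)]
  · simp [permGL_coe]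
  · intro b _ hb
    rw [permGL_coe, if_neg hb, mul_zero]
  · simp

theorem mem_parabolicGL {μ : Fin n → ℕ} {g : GL (Fin n) F} :
    g ∈ Cfsg.parabolicGL n F μ ↔
      ∀ ⦃i j : Fin n⦄, Cfsg.compLabel μ j < Cfsg.compLabel μ i →
        (g : Matrix (Fin n) (Fin n) F) i j = 0 := Iff.rfl

theorem permGL_mem_parabolic {μ : Fin n → ℕ} {σ : Equiv.Perm (Fin n)}
    (h : σ ∈ Cfsg.youngSubgroup μ) : permGL n F σ ∈ Cfsg.parabolicGL n F μ := by
  intro i j hij
  rw [permGL_coe, if_neg]
  intro e
  rw [e, h j] at hij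
  exact lt_irrefl _ hij

theorem upperTriangular_le_parabolic (μ : Fin n → ℕ) :
    Cfsg.upperTriangularGL n F ≤ Cfsg.parabolicGL n F μ := by
  intro g hg i j hij
  apply hg
  by_contra hji
  exact absurd (compLabel_mono μ (not_lt.1 hji)) (not_le.2 hij)

/-- Leibniz trick: if two permutation matrices lie in one double coset of parabolics, the
permutations lie in one double coset of Young subgroups. -/
theorem perm_doubleCoset_of_gl (μ μ' : Fin n → ℕ) (w w' : Equiv.Perm (Fin n))
    {p q : GL (Fin n) F} (hp : p ∈ Cfsg.parabolicGL n F μ) (hq : q ∈ Cfsg.parabolicGL n F μ')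
    (he : permGL n F w' = p * permGL n F w * q) :
    ∃ a ∈ Cfsg.youngSubgroup μ, ∃ b ∈ Cfsg.youngSubgroup μ', w' = a * w * b := by
  classical
  set c := Cfsg.compLabel μ
  set c' := Cfsg.compLabel μ'
  have hdet : (p : Matrix (Fin n) (Fin n) F).det ≠ 0 :=
    ((Matrix.isUnit_iff_isUnit_det _).1 p.isUnit).ne_zero
  obtain ⟨σ, hσ⟩ : ∃ σ : Equiv.Perm (Fin n), ∀ i, (p : Matrix (Fin n) (Fin n) F) (σ i) i ≠ 0 := by
    by_contra hno
    push Not at hno
    apply hdet
    rw [Matrix.det_apply']
    refine Finset.sum_eq_zero fun σ _ => ?_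
    obtain ⟨i, hi⟩ := hno σ
    exact mul_eq_zero_of_right _ (Finset.prod_eq_zero (Finset.mem_univ i) hi)
  have he' : (p : Matrix (Fin n) (Fin n) F) * (permGL n F w : Matrix (Fin n) (Fin n) F) =
      (permGL n F w' : Matrix (Fin n) (Fin n) F) * ((q⁻¹ : GL (Fin n) F) : Matrix (Fin n) (Fin n) F) := by
    rw [← Units.val_mul, ← Units.val_mul, he, mul_assoc _ q, mul_inv_cancel, mul_one]
  have hentry : ∀ a b, (p : Matrix (Fin n) (Fin n) F) a b =
      ((q⁻¹ : GL (Fin n) F) : Matrix (Fin n) (Fin n) F) (w'⁻¹ a) (w⁻¹ b) := by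
    intro a b
    have h := congrFun (congrFun he' a) (w⁻¹ b)
    rw [mul_permGL_apply, permGL_mul_apply] at h
    simpa using h
  set π : Equiv.Perm (Fin n) := σ⁻¹ with hπ
  have hne : ∀ a, (p : Matrix (Fin n) (Fin n) F) a (π a) ≠ 0 := by
    intro a
    have h := hσ (σ⁻¹ a)
    simpa [hπ] using h
  have h1 : ∀ a, c a ≤ c (π a) := fun a => not_lt.1 fun h => hne a (hp h)
  have h2 : ∀ a, c' (w'⁻¹ a) ≤ c' (w⁻¹ (π a)) := fun a => not_lt.1 fun h =>
    hne a (by rw [hentry]; exact (inv_mem hq : q⁻¹ ∈ Cfsg.parabolicGL n F μ') h)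
  have e1 : ∀ a, c a = c (π a) := fun a =>
    (Finset.sum_eq_sum_iff_of_le (fun a _ => h1 a)).1 (Equiv.sum_comp π c).symm a (Finset.mem_univ a)
  have e2 : ∀ a, c' (w'⁻¹ a) = c' (w⁻¹ (π a)) := fun a =>
    (Finset.sum_eq_sum_iff_of_le (fun a _ => h2 a)).1
      (((Equiv.sum_comp w'⁻¹ c').trans (Equiv.sum_comp (w⁻¹ * π) c').symm)) a (Finset.mem_univ a)
  refine ⟨π⁻¹, inv_mem (fun a => (e1 a).symm), w⁻¹ * π * w', fun k => ?_, by group⟩
  have h := e2 (w' k)
  simp only [Equiv.Perm.coe_mul, Function.comp_apply]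
  simpa using h.symm

/-- Bruhat: every invertible matrix is upper triangular * permutation * upper triangular. -/
theorem bruhat [Fintype F] (g : GL (Fin n) F) :
    ∃ u ∈ Cfsg.upperTriangularGL n F, ∃ v ∈ Cfsg.upperTriangularGL n F, ∃ σ : Equiv.Perm (Fin n),
      g = u * permGL n F σ * v := by
  classical
  set A := (g : Matrix (Fin n) (Fin n) F) with hA
  -- admissible column vectors for column `j`
  let S : Fin n → Finset (Fin n → F) := fun j =>
    Finset.univ.filter fun c => c j = 1 ∧ ∀ k, j < k → c k = 0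
  let lead : (Fin n → F) → ℕ := fun v =>
    (Finset.univ.filter fun k => v k ≠ 0).sup (fun k : Fin n => k.val + 1)
  have hlead_zero : ∀ v k, lead v ≤ k.val → v k = 0 := by
    intro v k hk
    by_contra h
    have := Finset.le_sup (f := fun k : Fin n => k.val + 1)
      (show k ∈ Finset.univ.filter (fun k => v k ≠ 0) from Finset.mem_filter.2 ⟨Finset.mem_univ _, h⟩)
    simp only [lead] at hk
    omega
  have hlead_le : ∀ v m, (∀ k : Fin n, m ≤ k.val → v k = 0) → lead v ≤ m := by
    intro v m h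
    refine Finset.sup_le fun k hk => ?_
    by_contra h'
    exact (Finset.mem_filter.1 hk).2 (h k (by omega))
  have hlead_ex : ∀ v, v ≠ 0 → ∃ k : Fin n, lead v = k.val + 1 ∧ v k ≠ 0 := by
    intro v hv
    obtain ⟨k0, hk0⟩ := Function.ne_iff.1 hv
    obtain ⟨k, hk, hsup⟩ := Finset.exists_mem_eq_sup (Finset.univ.filter fun k => v k ≠ 0)
      ⟨k0, Finset.mem_filter.2 ⟨Finset.mem_univ _, hk0⟩⟩ (fun k : Fin n => k.val + 1)
    exact ⟨k, hsup, (Finset.mem_filter.1 hk).2⟩
  have hS : ∀ j, (S j).Nonempty := fun j =>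
    ⟨Pi.single j 1, Finset.mem_filter.2 ⟨Finset.mem_univ _, by simp,
      fun k hk => by simp [hk.ne']⟩⟩
  choose c hc hmin using fun j => Finset.exists_min_image (S j) (fun x => lead (A.mulVec x)) (hS j)
  have hc1 : ∀ j, c j j = 1 := fun j => ((Finset.mem_filter.1 (hc j)).2).1
  have hc0 : ∀ j k, j < k → c j k = 0 := fun j => ((Finset.mem_filter.1 (hc j)).2).2
  have hne : ∀ j, A.mulVec (c j) ≠ 0 := by
    intro j h
    have h' : c j = 0 := by
      have := congrArg (((g⁻¹ : GL (Fin n) F) : Matrix (Fin n) (Fin n) F).mulVec) h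
      rw [Matrix.mulVec_mulVec, hA, ← Units.val_mul, inv_mul_cancel, Units.val_one,
        Matrix.one_mulVec, Matrix.mulVec_zero] at this
      exact this
    have := hc1 j
    rw [h'] at this
    simp at this
  choose σ hσ hσne using fun j => hlead_ex _ (hne j)
  have hinj : Function.Injective σ := by
    have key : ∀ j j', j' < j → σ j' ≠ σ j := by
      intro j j' hjj hr
      set t := A.mulVec (c j) (σ j) / A.mulVec (c j') (σ j) with ht
      have hcmem : c j - t • c j' ∈ S j := by
        refine Finset.mem_filter.2 ⟨Finset.mem_univ _, ?_, ?_⟩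
        · simp [hc1, hc0 j' j hjj]
        · intro k hk
          simp [hc0 j k hk, hc0 j' k (hjj.trans hk)]
      have hm := hmin j _ hcmem
      rw [hσ j] at hm
      have hle : lead (A.mulVec (c j - t • c j')) ≤ (σ j).val := by
        refine hlead_le _ _ fun k hk => ?_
        rw [Matrix.mulVec_sub, Matrix.mulVec_smul, Pi.sub_apply, Pi.smul_apply, smul_eq_mul]
        rcases eq_or_lt_of_le hk with hk | hk
        · have hkσ : k = σ j := Fin.ext hk.symm
          subst hkσ
          have : A.mulVec (c j') (σ j) ≠ 0 := hr ▸ hσne j'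
          rw [ht, div_mul_cancel₀ _ this, sub_self]
        · rw [hlead_zero (A.mulVec (c j)) k (by rw [hσ j]; exact hk),
            hlead_zero (A.mulVec (c j')) k (by rw [hσ j', hr]; exact hk)]
          simp
      omega
    intro a b hab
    rcases lt_trichotomy a b with h | h | h
    · exact absurd hab (key b a h)
    · exact h
    · exact absurd hab.symm (key a b h)
  let s : Equiv.Perm (Fin n) := Equiv.ofBijective σ ⟨hinj, Finite.surjective_of_injective hinj⟩
  let C : Matrix (Fin n) (Fin n) F := Matrix.of fun k j => c j k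
  have hCtri : C.BlockTriangular id := fun i j hij => hc0 j i hij
  have hCdet : C.det = 1 := by
    rw [Matrix.det_of_isUpperTriangular hCtri]
    simp [C, hc1]
  let b : GL (Fin n) F := Matrix.GeneralLinearGroup.mkOfDetNeZero C (by simp [hCdet])
  have hb : b ∈ Cfsg.upperTriangularGL n F := hCtri
  refine ⟨g * b * (permGL n F s)⁻¹, ?_, b⁻¹, inv_mem hb, s, by group⟩
  have happ : ∀ a k, ((g * b * (permGL n F s)⁻¹ : GL (Fin n) F) : Matrix (Fin n) (Fin n) F) a k =
      A.mulVec (c (s⁻¹ k)) a := by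
    intro a k
    rw [← map_inv, Units.val_mul, mul_permGL_apply, Units.val_mul]
    rfl
  intro a k hak
  rw [happ]
  apply hlead_zero
  rw [hσ]
  have : σ (s⁻¹ k) = k := s.apply_symm_apply k
  rw [this]
  exact hak

theorem doubleCoset_mk_surj [Fintype F] (μ μ' : Fin n → ℕ) (g : GL (Fin n) F) :
    ∃ σ : Equiv.Perm (Fin n), DoubleCoset.mk (Cfsg.parabolicGL n F μ) (Cfsg.parabolicGL n F μ') (permGL n F σ)
      = DoubleCoset.mk (Cfsg.parabolicGL n F μ) (Cfsg.parabolicGL n F μ') g := by
  obtain ⟨u, hu, v, hv, σ, rfl⟩ := bruhat g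
  exact ⟨σ, (DoubleCoset.eq _ _ _ _).2 ⟨u, upperTriangular_le_parabolic μ hu, v,
    upperTriangular_le_parabolic μ' hv, rfl⟩⟩

/-- The double cosets of parabolics biject with those of Young subgroups. -/
theorem card_doubleCoset_parabolic [Fintype F] (μ μ' : Fin n → ℕ) :
    Nat.card (DoubleCoset.Quotient (Cfsg.parabolicGL n F μ : Set (GL (Fin n) F)) (Cfsg.parabolicGL n F μ')) =
      Nat.card (DoubleCoset.Quotient (Cfsg.youngSubgroup μ : Set (Equiv.Perm (Fin n))) (Cfsg.youngSubgroup μ')) := by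
  symm
  refine Nat.card_congr (Equiv.ofBijective
    (Quotient.lift (fun σ => DoubleCoset.mk (Cfsg.parabolicGL n F μ) (Cfsg.parabolicGL n F μ')
      (permGL n F σ)) ?_) ⟨?_, ?_⟩)
  · intro a b hab
    obtain ⟨x, hx, y, hy, rfl⟩ :=
      (DoubleCoset.rel_iff (H := Cfsg.youngSubgroup μ) (K := Cfsg.youngSubgroup μ')).1 hab
    exact (DoubleCoset.eq _ _ _ _).2 ⟨_, permGL_mem_parabolic hx, _, permGL_mem_parabolic hy,
      by simp [map_mul]⟩
  · intro x y
    induction x using Quotient.inductionOn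
    induction y using Quotient.inductionOn
    rename_i a b
    intro hab
    obtain ⟨p, hp, q, hq, he⟩ := (DoubleCoset.eq _ _ _ _).1 hab
    obtain ⟨x, hx, y, hy, rfl⟩ := perm_doubleCoset_of_gl μ μ' a b hp hq he
    exact Quotient.sound
      ((DoubleCoset.rel_iff (H := Cfsg.youngSubgroup μ) (K := Cfsg.youngSubgroup μ')).2
        ⟨x, hx, y, hy, rfl⟩)
  · intro x
    induction x using Quotient.inductionOn
    rename_i g
    obtain ⟨σ, hσ⟩ := doubleCoset_mk_surj μ μ' g
    exact ⟨Quotient.mk _ σ, hσ⟩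

end Perm

/-! ### Young double cosets and matrices -/

section Matrices

variable {n : ℕ}

/-- Matrices with entries below `N` and prescribed row and column sums. -/
abbrev Margins (N : ℕ) (μ μ' : Fin n → ℕ) : Type :=
  {M : Fin n × Fin n → Fin N // (∀ a, ∑ b, (M (a, b)).val = μ a) ∧ ∀ b, ∑ a, (M (a, b)).val = μ' b}

/-- The pair of labels of a position with respect to a permutation. -/
def pairLab (μ μ' : Fin n → ℕ) (h : ∑ i, μ i = n) (h' : ∑ i, μ' i = n) (w : Equiv.Perm (Fin n))
    (k : Fin n) : Fin n × Fin n := (lab μ h k, lab μ' h' (w⁻¹ k))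

/-- The contingency count of a permutation. -/
def cnt (μ μ' : Fin n → ℕ) (h : ∑ i, μ i = n) (h' : ∑ i, μ' i = n) (w : Equiv.Perm (Fin n))
    (p : Fin n × Fin n) : ℕ := Fintype.card {k : Fin n // pairLab μ μ' h h' w k = p}

theorem cnt_row (μ μ' : Fin n → ℕ) (h : ∑ i, μ i = n) (h' : ∑ i, μ' i = n) (w : Equiv.Perm (Fin n))
    (a : Fin n) : ∑ b, cnt μ μ' h h' w (a, b) = μ a := by
  rw [← card_lab_fiber μ h a]
  unfold cnt
  rw [← Fintype.card_sigma]
  refine Fintype.card_congr
    { toFun := fun x => ⟨x.2.1, congrArg Prod.fst x.2.2⟩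
      invFun := fun k => ⟨lab μ' h' (w⁻¹ k.1), ⟨k.1, Prod.ext k.2 rfl⟩⟩
      left_inv := ?_
      right_inv := fun k => rfl }
  rintro ⟨b, k, hk⟩
  have hb : lab μ' h' (w⁻¹ k) = b := congrArg Prod.snd hk
  subst hb
  rfl

theorem cnt_col (μ μ' : Fin n → ℕ) (h : ∑ i, μ i = n) (h' : ∑ i, μ' i = n) (w : Equiv.Perm (Fin n))
    (b : Fin n) : ∑ a, cnt μ μ' h h' w (a, b) = μ' b := by
  rw [← card_lab_fiber μ' h' b]
  unfold cnt
  rw [← Fintype.card_sigma]
  refine Fintype.card_congr
    { toFun := fun x => ⟨w⁻¹ x.2.1, congrArg Prod.snd x.2.2⟩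
      invFun := fun k => ⟨lab μ h (w k.1), ⟨w k.1, Prod.ext rfl (by simp [pairLab, k.2])⟩⟩
      left_inv := ?_
      right_inv := fun k => by simp }
  rintro ⟨a, k, hk⟩
  have ha : lab μ h k = a := congrArg Prod.fst hk
  subst ha
  exact Sigma.subtype_ext (by simp) (by simp)

theorem cnt_mul (μ μ' : Fin n → ℕ) (h : ∑ i, μ i = n) (h' : ∑ i, μ' i = n) (w x y : Equiv.Perm (Fin n))
    (hx : x ∈ Cfsg.youngSubgroup μ) (hy : y ∈ Cfsg.youngSubgroup μ') (p : Fin n × Fin n) :
    cnt μ μ' h h' (x * w * y) p = cnt μ μ' h h' w p := by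
  unfold cnt
  refine Fintype.card_congr (Equiv.subtypeEquiv x⁻¹ fun k => ?_)
  have e1 : lab μ h (x⁻¹ k) = lab μ h k := (mem_youngSubgroup_iff μ h _).1 (inv_mem hx) k
  have e2 : lab μ' h' ((x * w * y)⁻¹ k) = lab μ' h' (w⁻¹ (x⁻¹ k)) := by
    have := (mem_youngSubgroup_iff μ' h' _).1 (inv_mem hy) (w⁻¹ (x⁻¹ k))
    simpa [mul_inv_rev, Equiv.Perm.coe_mul, mul_assoc] using this
  simp only [pairLab, e1, e2]

theorem young_of_cnt_eq (μ μ' : Fin n → ℕ) (h : ∑ i, μ i = n) (h' : ∑ i, μ' i = n)
    (w w' : Equiv.Perm (Fin n)) (he : ∀ p, cnt μ μ' h h' w p = cnt μ μ' h h' w' p) :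
    ∃ a ∈ Cfsg.youngSubgroup μ, ∃ b ∈ Cfsg.youngSubgroup μ', w' = a * w * b := by
  classical
  let τ : Equiv.Perm (Fin n) := Equiv.ofFiberEquiv
    (f := pairLab μ μ' h h' w) (g := pairLab μ μ' h h' w') (fun p => Fintype.equivOfCardEq (he p))
  have hτ : ∀ k, pairLab μ μ' h h' w' (τ k) = pairLab μ μ' h h' w k := fun k =>
    Equiv.ofFiberEquiv_map _ k
  refine ⟨τ, (mem_youngSubgroup_iff μ h τ).2 fun k => congrArg Prod.fst (hτ k),
    w⁻¹ * τ⁻¹ * w', (mem_youngSubgroup_iff μ' h' _).2 fun k => ?_, by group⟩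
  have := congrArg Prod.snd (hτ (τ⁻¹ (w' k)))
  simpa [pairLab, Equiv.Perm.coe_mul] using this.symm

/-- Young double cosets are counted by matrices with the prescribed margins. -/
theorem card_doubleCoset_young (N : ℕ) (hN : n < N) (μ μ' : Fin n → ℕ) (h : ∑ i, μ i = n)
    (h' : ∑ i, μ' i = n) :
    Nat.card (DoubleCoset.Quotient (Cfsg.youngSubgroup μ : Set (Equiv.Perm (Fin n))) (Cfsg.youngSubgroup μ')) =
      Nat.card (Margins N μ μ') := by
  classical
  have hlt : ∀ w p, cnt μ μ' h h' w p < N := fun w p =>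
    lt_of_le_of_lt (le_trans (Fintype.card_subtype_le _) (le_of_eq (Fintype.card_fin n))) hN
  let f : Equiv.Perm (Fin n) → Margins N μ μ' := fun w =>
    ⟨fun p => ⟨cnt μ μ' h h' w p, hlt w p⟩, cnt_row μ μ' h h' w, cnt_col μ μ' h h' w⟩
  refine Nat.card_congr (Equiv.ofBijective (Quotient.lift f ?_) ⟨?_, ?_⟩)
  · intro a b hab
    obtain ⟨x, hx, y, hy, rfl⟩ :=
      (DoubleCoset.rel_iff (H := Cfsg.youngSubgroup μ) (K := Cfsg.youngSubgroup μ')).1 hab
    refine Subtype.ext (funext fun p => Fin.ext ?_)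
    exact (cnt_mul μ μ' h h' a x y hx hy p).symm
  · intro x y
    induction x using Quotient.inductionOn
    induction y using Quotient.inductionOn
    rename_i a b
    intro hab
    obtain ⟨x, hx, y, hy, rfl⟩ := young_of_cnt_eq μ μ' h h' a b fun p =>
      congrArg Fin.val (congrFun (congrArg Subtype.val hab) p)
    exact Quotient.sound
      ((DoubleCoset.rel_iff (H := Cfsg.youngSubgroup μ) (K := Cfsg.youngSubgroup μ')).2
        ⟨x, hx, y, hy, rfl⟩)
  · rintro ⟨M, hr, hc⟩
    let T := Σ p : Fin n × Fin n, Fin (M p).val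
    have hfst : ∀ a, Fintype.card {t : T // t.1.1 = a} = μ a := by
      intro a
      rw [← hr a]
      have e : {t : T // t.1.1 = a} ≃ Σ b, Fin (M (a, b)).val :=
        { toFun := fun t => ⟨t.1.1.2, Fin.cast (by
            obtain ⟨⟨⟨a', b⟩, j⟩, ht⟩ := t
            subst ht
            rfl) t.1.2⟩
          invFun := fun x => ⟨⟨(a, x.1), x.2⟩, rfl⟩
          left_inv := by
            rintro ⟨⟨⟨a', b⟩, j⟩, ht⟩
            subst ht
            rfl
          right_inv := fun x => rfl }
      simp [Fintype.card_congr e]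
    have hsnd : ∀ b, Fintype.card {t : T // t.1.2 = b} = μ' b := by
      intro b
      rw [← hc b]
      have e : {t : T // t.1.2 = b} ≃ Σ a, Fin (M (a, b)).val :=
        { toFun := fun t => ⟨t.1.1.1, Fin.cast (by
            obtain ⟨⟨⟨a, b'⟩, j⟩, ht⟩ := t
            subst ht
            rfl) t.1.2⟩
          invFun := fun x => ⟨⟨(x.1, b), x.2⟩, rfl⟩
          left_inv := by
            rintro ⟨⟨⟨a, b'⟩, j⟩, ht⟩
            subst ht
            rfl
          right_inv := fun x => rfl }
      simp [Fintype.card_congr e]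
    let α : T ≃ Fin n := Equiv.ofFiberEquiv (f := fun t : T => t.1.1) (g := lab μ h)
      (fun a => Fintype.equivOfCardEq ((hfst a).trans (card_lab_fiber μ h a).symm))
    let β : T ≃ Fin n := Equiv.ofFiberEquiv (f := fun t : T => t.1.2) (g := lab μ' h')
      (fun b => Fintype.equivOfCardEq ((hsnd b).trans (card_lab_fiber μ' h' b).symm))
    refine ⟨Quotient.mk _ (β.symm.trans α), Subtype.ext (funext fun p => Fin.ext ?_)⟩
    change cnt μ μ' h h' (β.symm.trans α) p = (M p).val
    rw [← Fintype.card_fin (M p).val]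
    unfold cnt
    refine (Fintype.card_congr (Equiv.subtypeEquiv α.symm (q := fun t : T => t.1 = p) fun k => ?_)).trans ?_
    · obtain ⟨t, rfl⟩ := α.surjective k
      have e1 : lab μ h (α t) = t.1.1 := Equiv.ofFiberEquiv_map _ t
      have e2 : lab μ' h' (β t) = t.1.2 := Equiv.ofFiberEquiv_map _ t
      have e3 : (β.symm.trans α)⁻¹ (α t) = β t := by
        simp [Equiv.Perm.inv_def]
      simp [pairLab, e1, e2, e3]
    · exact Fintype.card_congr (Equiv.sigmaSubtype p)

end Matrices

end Cfsg.Agent.GLUnipotentDC
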