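import Mathlib
import Cfsg.Agent.Lib.GLUnipotentDC

/-!
The Cauchy determinant identity, in the form of a signed count of matrices with prescribed margins.
-/

set_option autoImplicit false

namespace Cfsg.Agent.GLUnipotentCauchy

open Finset Matrix
open Cfsg.Agent.GLUnipotentDC (Margins)

/-! ### The determinant identity -/

section Det

variable {n : ℕ} {A : Type*} [CommRing A]

/-- Cauchy's double alternant, for geometric series in a commutative ring. -/
theorem cauchy_det (x y : Fin n → A) (H : Fin n → Fin n → A)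
    (hH : ∀ i j, (1 - x i * y j) * H i j = 1) :
    (Matrix.of H).det =
      (Matrix.vandermonde x).det * (Matrix.vandermonde y).det * ∏ i, ∏ j, H i j := by
  classical
  rcases subsingleton_or_nontrivial A with hA | hA
  · exact Subsingleton.elim _ _
  let lin : Fin n → Polynomial A := fun k => 1 - Polynomial.C (y k) * Polynomial.X
  let Q : Fin n → Polynomial A := fun j => ∏ k ∈ Finset.univ.erase j, lin k
  let E : Polynomial A := ∏ k, lin k
  let c : Fin n → A := fun i => ∏ k, H i k
  let C : Matrix (Fin n) (Fin n) A := Matrix.of fun m j => (Q j).coeff m.val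
  let T : Matrix (Fin n) (Fin n) A :=
    Matrix.of fun m b => if b.val ≤ m.val then E.coeff (m.val - b.val) else 0
  have hQE : ∀ j, E = lin j * Q j := fun j =>
    (Finset.mul_prod_erase Finset.univ lin (Finset.mem_univ j)).symm
  have hlin : ∀ k, (lin k).natDegree ≤ 1 := fun k =>
    le_trans (Polynomial.natDegree_sub_le _ _)
      (max_le (by simp) (Polynomial.natDegree_C_mul_le _ _ |>.trans Polynomial.natDegree_X_le))
  have hdeg : ∀ j, (Q j).natDegree < n := by
    intro j
    have h1 : (Q j).natDegree ≤ ∑ k ∈ Finset.univ.erase j, (lin k).natDegree :=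
      Polynomial.natDegree_prod_le _ _
    have h2 : ∑ k ∈ Finset.univ.erase j, (lin k).natDegree ≤ (Finset.univ.erase j).card := by
      simpa using Finset.sum_le_card_nsmul (Finset.univ.erase j) _ 1 (fun k _ => hlin k)
    have h3 : (Finset.univ.erase j).card = n - 1 := by simp
    have := j.pos
    omega
  have hrec : ∀ j m, (Q j).coeff m = ∑ b ∈ Finset.range (m + 1), E.coeff (m - b) * y j ^ b := by
    intro j m
    induction m with
    | zero =>
      rw [Finset.sum_range_one, hQE j]
      simp [Polynomial.mul_coeff_zero, lin]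
    | succ m ih =>
      rw [Finset.sum_range_succ']
      simp only [Nat.succ_sub_succ, pow_succ, ← mul_assoc, ← Finset.sum_mul, ← ih, pow_zero,
        mul_one, Nat.sub_zero]
      have : E.coeff (m + 1) = (Q j).coeff (m + 1) - y j * (Q j).coeff m := by
        rw [hQE j]
        simp [lin, sub_mul, mul_assoc, Polynomial.coeff_C_mul, Polynomial.coeff_X_mul]
      rw [this]
      ring
  have hC : C = T * (Matrix.vandermonde y)ᵀ := by
    ext m j
    simp only [C, T, Matrix.mul_apply, Matrix.of_apply, Matrix.transpose_apply,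
      Matrix.vandermonde_apply, hrec]
    simp only [ite_mul, zero_mul, ← Finset.sum_filter]
    symm
    refine Finset.sum_bij (fun b _ => b.val) ?_ ?_ ?_ ?_
    · intro b hb
      simp only [Finset.mem_filter] at hb
      exact Finset.mem_range.2 (by omega)
    · intro a _ b _ h
      exact Fin.ext h
    · intro b hb
      have hb' := Finset.mem_range.1 hb
      exact ⟨⟨b, by omega⟩, Finset.mem_filter.2 ⟨Finset.mem_univ _, show b ≤ m.val by omega⟩, rfl⟩
    · intros; rfl
  have hT : T.det = 1 := by
    rw [Matrix.det_of_isLowerTriangular T]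
    · refine Finset.prod_eq_one fun i _ => ?_
      simp [T, E, lin, Polynomial.coeff_zero_prod]
    · intro i j hij
      have hlt : i < j := hij
      simp only [T, Matrix.of_apply]
      rw [if_neg]
      exact not_le.2 hlt
  have hrows : Matrix.of H = Matrix.diagonal c * (Matrix.vandermonde x * C) := by
    ext i j
    rw [Matrix.diagonal_mul, Matrix.mul_apply]
    have he : ∑ k : Fin n, Matrix.vandermonde x i k * C k j = (Q j).eval (x i) := by
      rw [Polynomial.eval_eq_sum_range' (hdeg j), Finset.sum_range]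
      exact Finset.sum_congr rfl fun k _ => by simp [C, mul_comm]
    rw [he]
    simp only [Q, lin, Polynomial.eval_prod, Polynomial.eval_sub, Polynomial.eval_one,
      Polynomial.eval_mul, Polynomial.eval_C, Polynomial.eval_X, c, Matrix.of_apply]
    rw [← Finset.mul_prod_erase Finset.univ (fun k => H i k) (Finset.mem_univ j), mul_assoc,
      ← Finset.prod_mul_distrib, Finset.prod_eq_one, mul_one]
    intro k _
    rw [mul_comm (H i k), mul_comm (y k)]
    exact hH i k
  rw [hrows, Matrix.det_mul, Matrix.det_mul, hC, Matrix.det_mul, Matrix.det_diagonal, hT,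
    Matrix.det_transpose]
  ring

theorem det_vandermonde_eq_sum (x : Fin n → A) :
    (Matrix.vandermonde x).det =
      ∑ σ : Equiv.Perm (Fin n), ((Equiv.Perm.sign σ : ℤ) : A) * ∏ i, x i ^ (σ i).val := by
  rw [← Matrix.det_transpose, Matrix.det_apply']
  rfl

end Det

/-! ### Coefficients -/

section Coeff

variable {n : ℕ}

/-- Exponent vector on the `2n` variables. -/
noncomputable def expo (a b : Fin n → ℕ) : (Fin n ⊕ Fin n) →₀ ℕ :=
  Finsupp.equivFunOnFinite.symm (Sum.elim a b)

theorem expo_eq_iff (a b a' b' : Fin n → ℕ) : expo a b = expo a' b' ↔ a = a' ∧ b = b' := by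
  unfold expo
  rw [Equiv.apply_eq_iff_eq]
  constructor
  · intro h
    exact ⟨funext fun i => congrFun h (.inl i), funext fun i => congrFun h (.inr i)⟩
  · rintro ⟨rfl, rfl⟩
    rfl

theorem expo_add (a b a' b' : Fin n → ℕ) : expo a b + expo a' b' = expo (a + a') (b + b') := by
  ext k
  rcases k with k | k <;> simp [expo]

/-- The variables `x_i`. -/
noncomputable def xv (i : Fin n) : MvPolynomial (Fin n ⊕ Fin n) ℤ := MvPolynomial.X (Sum.inl i)

/-- The variables `y_j`. -/
noncomputable def yv (j : Fin n) : MvPolynomial (Fin n ⊕ Fin n) ℤ := MvPolynomial.X (Sum.inr j)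

theorem prod_vars (a b : Fin n → ℕ) :
    (∏ i, xv i ^ a i) * ∏ j, yv j ^ b j = MvPolynomial.monomial (expo a b) 1 := by
  rw [MvPolynomial.monomial_eq, map_one, one_mul, Finsupp.prod_fintype _ _ (fun _ => pow_zero _),
    Fintype.prod_sum_type]
  simp [xv, yv, expo]

/-- Truncated geometric series. -/
noncomputable def geo (N : ℕ) (i j : Fin n) : MvPolynomial (Fin n ⊕ Fin n) ℤ :=
  ∑ k : Fin N, (xv i * yv j) ^ k.val

theorem prod_geo (N : ℕ) :
    ∏ i, ∏ j, geo (n := n) N i j = ∑ M : Fin n × Fin n → Fin N,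
      MvPolynomial.monomial (expo (fun a => ∑ b, (M (a, b)).val) (fun b => ∑ a, (M (a, b)).val)) 1 := by
  rw [← Fintype.prod_prod_type']
  unfold geo
  rw [Fintype.prod_sum]
  refine Finset.sum_congr rfl fun M _ => ?_
  rw [← prod_vars]
  simp only [mul_pow, Finset.prod_mul_distrib, Fintype.prod_prod_type, Finset.prod_pow_eq_pow_sum]
  congr 1
  rw [Finset.prod_comm]
  simp only [Finset.prod_pow_eq_pow_sum]

/-- The alternant coefficient. -/
def altCoeff (lam lam' : Fin n → ℕ) : ℤ :=
  ∑ σ : Equiv.Perm (Fin n), if lam ∘ σ = lam' then (Equiv.Perm.sign σ : ℤ) else 0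

theorem coeff_det_geo (N : ℕ) (lam lam' : Fin n → ℕ) (hlam' : ∀ i, lam' i < N) :
    MvPolynomial.coeff (expo lam lam') (Matrix.of (geo (n := n) N)).det = altCoeff lam lam' := by
  classical
  rw [Matrix.det_apply', MvPolynomial.coeff_sum]
  refine Finset.sum_congr rfl fun σ _ => ?_
  rw [← map_intCast (MvPolynomial.C : ℤ →+* _) _, MvPolynomial.coeff_C_mul]
  have h : ∏ i, Matrix.of (geo (n := n) N) (σ i) i = ∑ m : Fin n → Fin N,
      MvPolynomial.monomial (expo (fun a => (m (σ⁻¹ a)).val) (fun b => (m b).val)) 1 := by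
    simp only [Matrix.of_apply, geo]
    rw [Fintype.prod_sum]
    refine Finset.sum_congr rfl fun m _ => ?_
    rw [← prod_vars]
    simp only [mul_pow, Finset.prod_mul_distrib]
    congr 1
    refine Fintype.prod_equiv σ _ _ fun i => ?_
    simp
  rw [h, MvPolynomial.coeff_sum]
  simp only [MvPolynomial.coeff_monomial, expo_eq_iff]
  by_cases hs : lam ∘ σ = lam'
  · rw [if_pos hs, Finset.sum_eq_single (fun i => (⟨lam' i, hlam' i⟩ : Fin N))]
    · rw [if_pos]
      · simp
      · refine ⟨funext fun a => ?_, rfl⟩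
        have := congrFun hs (σ⁻¹ a)
        simpa using this.symm
    · intro m _ hm
      rw [if_neg]
      rintro ⟨-, h2⟩
      exact hm (funext fun i => Fin.ext (congrFun h2 i))
    · simp
  · rw [if_neg hs, Finset.sum_eq_zero, mul_zero]
    intro m _
    rw [if_neg]
    rintro ⟨rfl, rfl⟩
    exact hs (funext fun i => by simp)

theorem sum_margins (N : ℕ) (c d lam lam' : Fin n → ℕ) :
    (∑ M : Fin n × Fin n → Fin N,
      if expo (c + fun a => ∑ b, (M (a, b)).val) (d + fun b => ∑ a, (M (a, b)).val) = expo lam lam'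
      then (1 : ℤ) else 0) =
      if (∀ i, c i ≤ lam i) ∧ ∀ i, d i ≤ lam' i then
        (Nat.card (Margins N (fun i => lam i - c i) (fun i => lam' i - d i)) : ℤ) else 0 := by
  classical
  simp only [expo_eq_iff]
  split_ifs with h
  · rw [Finset.sum_boole, Nat.card_eq_fintype_card, Fintype.card_subtype]
    congr 2
    refine Finset.filter_congr fun M _ => ?_
    simp only [funext_iff, Pi.add_apply]
    constructor
    · exact fun hM => ⟨fun a => by have := hM.1 a; omega, fun b => by have := hM.2 b; omega⟩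
    · exact fun hM => ⟨fun a => by have := hM.1 a; have := h.1 a; omega,
        fun b => by have := hM.2 b; have := h.2 b; omega⟩
  · refine Finset.sum_eq_zero fun M _ => if_neg ?_
    rintro ⟨h1, h2⟩
    exact h ⟨fun i => h1 ▸ Nat.le_add_right _ _, fun i => h2 ▸ Nat.le_add_right _ _⟩

/-- The signed count of margins that pairs two alternants. -/
noncomputable def pairing (N : ℕ) (lam lam' : Fin n → ℕ) : ℤ :=
  ∑ κ : Equiv.Perm (Fin n), ∑ κ' : Equiv.Perm (Fin n),
    if (∀ i, (κ i).val ≤ lam i) ∧ ∀ i, (κ' i).val ≤ lam' i then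
      (Equiv.Perm.sign κ : ℤ) * (Equiv.Perm.sign κ' : ℤ) *
        (Nat.card (Margins N (fun i => lam i - (κ i).val) (fun i => lam' i - (κ' i).val)) : ℤ)
    else 0

theorem coeff_vdm_geo (N : ℕ) (lam lam' : Fin n → ℕ) :
    MvPolynomial.coeff (expo lam lam')
      ((Matrix.vandermonde (xv (n := n))).det * (Matrix.vandermonde (yv (n := n))).det *
        ∏ i, ∏ j, geo (n := n) N i j) = pairing N lam lam' := by
  classical
  rw [det_vandermonde_eq_sum, det_vandermonde_eq_sum, prod_geo]
  unfold pairing
  rw [Finset.sum_mul_sum, Finset.sum_mul, MvPolynomial.coeff_sum]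
  refine Finset.sum_congr rfl fun κ _ => ?_
  rw [Finset.sum_mul, MvPolynomial.coeff_sum]
  refine Finset.sum_congr rfl fun κ' _ => ?_
  rw [mul_mul_mul_comm, prod_vars, ← map_intCast (MvPolynomial.C : ℤ →+* _) _,
    ← map_intCast (MvPolynomial.C : ℤ →+* _) _, ← MvPolynomial.C_mul, mul_assoc,
    MvPolynomial.coeff_C_mul, Finset.mul_sum, MvPolynomial.coeff_sum]
  simp only [MvPolynomial.monomial_mul, mul_one, MvPolynomial.coeff_monomial, expo_add, Int.cast_id]
  rw [sum_margins, mul_ite_zero]

theorem mem_truncation_coeff (N : ℕ) {p : MvPolynomial (Fin n ⊕ Fin n) ℤ}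
    (hp : p ∈ Ideal.span ((fun s => MvPolynomial.monomial s (1 : ℤ)) ''
      Set.range (fun k : Fin n ⊕ Fin n => Finsupp.single k N)))
    (lam lam' : Fin n → ℕ) (h : ∀ i, lam i < N) (h' : ∀ i, lam' i < N) :
    MvPolynomial.coeff (expo lam lam') p = 0 := by
  by_contra hne
  obtain ⟨_, ⟨k, rfl⟩, hle⟩ := MvPolynomial.mem_ideal_span_monomial_image.1 hp _
    (MvPolynomial.mem_support_iff.2 hne)
  have := hle k
  rcases k with k | k
  · simp [expo] at this
    exact absurd this (not_le.2 (h k))
  · simp [expo] at this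
    exact absurd this (not_le.2 (h' k))

/-- Cauchy's identity, as a signed count. -/
theorem pairing_eq_altCoeff (N : ℕ) (lam lam' : Fin n → ℕ) (h : ∀ i, lam i < N) (h' : ∀ i, lam' i < N) :
    pairing N lam lam' = altCoeff lam lam' := by
  classical
  set I := Ideal.span ((fun s => MvPolynomial.monomial s (1 : ℤ)) ''
      Set.range (fun k : Fin n ⊕ Fin n => Finsupp.single k N)) with hI
  set q := Ideal.Quotient.mk I
  have hnil : ∀ i : Fin n, q (xv i) ^ N = 0 := by
    intro i
    rw [← map_pow, Ideal.Quotient.eq_zero_iff_mem, xv, MvPolynomial.X_pow_eq_monomial]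
    exact Ideal.subset_span ⟨_, ⟨Sum.inl i, rfl⟩, rfl⟩
  have hH : ∀ i j, (1 - q (xv i) * q (yv j)) * q (geo N i j) = 1 := by
    intro i j
    rw [geo, map_sum, ← Finset.sum_range (fun k => q ((xv i * yv j) ^ k))]
    simp only [map_pow, map_mul]
    rw [mul_neg_geom_sum, mul_pow, hnil, zero_mul, sub_zero]
  have key := cauchy_det (fun i => q (xv i)) (fun j => q (yv j)) (fun i j => q (geo N i j)) hH
  have hmem : (Matrix.of (geo (n := n) N)).det -
      (Matrix.vandermonde (xv (n := n))).det * (Matrix.vandermonde (yv (n := n))).det *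
        ∏ i, ∏ j, geo (n := n) N i j ∈ I := by
    rw [← Ideal.Quotient.eq_zero_iff_mem, map_sub, map_mul, map_mul, RingHom.map_det, RingHom.map_det,
      RingHom.map_det, map_prod, sub_eq_zero]
    simp only [map_prod]
    have e : ∀ v : Fin n → MvPolynomial (Fin n ⊕ Fin n) ℤ,
        q.mapMatrix (Matrix.vandermonde v) = Matrix.vandermonde (fun i => q (v i)) := by
      intro v
      ext i j
      simp [Matrix.vandermonde_apply]
    rw [e, e]
    exact key
  have := mem_truncation_coeff N hmem lam lam' h h'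
  rw [MvPolynomial.coeff_sub, coeff_det_geo N lam lam' h', coeff_vdm_geo, sub_eq_zero] at this
  exact this.symm

end Coeff

/-! ### Orthonormality and the diagonal coefficient -/

section Combinatorics

variable {n : ℕ}

/-- Shifted parts. -/
def shift (ν : Fin n → ℕ) (i : Fin n) : ℕ := ν i + i.val

theorem shift_strictMono {ν : Fin n → ℕ} (h : Monotone ν) : StrictMono (shift ν) := fun i j hij =>
  Nat.add_lt_add_of_le_of_lt (h hij.le) hij

theorem altCoeff_shift (ν ν' : Fin n → ℕ) (h : Monotone ν) (h' : Monotone ν') :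
    altCoeff (shift ν) (shift ν') = if ν = ν' then 1 else 0 := by
  classical
  have key : ∀ σ : Equiv.Perm (Fin n), shift ν ∘ σ = shift ν' → σ = 1 := by
    intro σ hσ
    have hm : StrictMono σ := fun i j hij => by
      rw [← (shift_strictMono h).lt_iff_lt]
      rw [show shift ν (σ i) = shift ν' i from congrFun hσ i,
        show shift ν (σ j) = shift ν' j from congrFun hσ j]
      exact shift_strictMono h' hij
    have : (σ : Fin n → Fin n) = id :=
      (StrictMono.range_inj hm strictMono_id).1 (by rw [σ.surjective.range_eq, Set.range_id])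
    exact Equiv.ext (congrFun this)
  unfold altCoeff
  rw [Finset.sum_eq_single (1 : Equiv.Perm (Fin n))]
  · have : (shift ν = shift ν') ↔ ν = ν' := by
      simp [funext_iff, shift]
    simp [this]
  · intro σ _ hσ
    exact if_neg fun e => hσ (key σ e)
  · simp

/-- Weight. -/
def wt (μ : Fin n → ℕ) : ℕ := ∑ i : Fin n, i.val * μ i

theorem wt_perm_lt (σ : Equiv.Perm (Fin n)) (hσ : σ ≠ 1) :
    wt (fun i => (σ i).val) < wt (fun i : Fin n => i.val) := by
  have hpos : 0 < ∑ i : Fin n, ((i.val : ℤ) - (σ i).val) ^ 2 := by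
    obtain ⟨i, hi⟩ : ∃ i, σ i ≠ i := by
      by_contra hno
      push Not at hno
      exact hσ (Equiv.ext hno)
    refine Finset.sum_pos' (fun i _ => sq_nonneg _) ⟨i, Finset.mem_univ i, ?_⟩
    apply sq_pos_of_ne_zero
    intro h
    exact hi (Fin.ext (by omega))
  have hsq : ∑ i : Fin n, ((σ i).val : ℤ) ^ 2 = ∑ i : Fin n, (i.val : ℤ) ^ 2 :=
    Equiv.sum_comp σ (fun i : Fin n => (i.val : ℤ) ^ 2)
  simp only [sub_sq, Finset.sum_add_distrib, Finset.sum_sub_distrib, mul_assoc, ← Finset.mul_sum,
    hsq] at hpos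
  have : (wt (fun i => (σ i).val) : ℤ) < (wt (fun i : Fin n => i.val) : ℤ) := by
    simp only [wt, Nat.cast_sum, Nat.cast_mul]
    simp only [pow_two] at hpos
    linarith
  exact_mod_cast this

theorem sum_sub_perm (lam : Fin n → ℕ) (κ : Equiv.Perm (Fin n)) (hκ : ∀ i, (κ i).val ≤ lam i) :
    ∑ i, (lam i - (κ i).val) + ∑ i : Fin n, i.val = ∑ i, lam i := by
  rw [← Equiv.sum_comp κ (fun i : Fin n => i.val), ← Finset.sum_add_distrib]
  exact Finset.sum_congr rfl fun i _ => Nat.sub_add_cancel (hκ i)

/-- The signed count pairing the alternant with a single composition. -/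
noncomputable def diagCoeff (N : ℕ) (lam μ : Fin n → ℕ) : ℤ :=
  ∑ κ : Equiv.Perm (Fin n),
    if ∀ i, (κ i).val ≤ lam i then
      (Equiv.Perm.sign κ : ℤ) * (Nat.card (Margins N (fun i => lam i - (κ i).val) μ) : ℤ)
    else 0

theorem pairing_eq_sum (N : ℕ) (lam lam' : Fin n → ℕ) :
    pairing N lam lam' = ∑ κ' : Equiv.Perm (Fin n),
      if ∀ i, (κ' i).val ≤ lam' i then
        (Equiv.Perm.sign κ' : ℤ) * diagCoeff N lam (fun i => lam' i - (κ' i).val) else 0 := by
  unfold pairing diagCoeff
  rw [Finset.sum_comm]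
  refine Finset.sum_congr rfl fun κ' _ => ?_
  by_cases h : ∀ i, (κ' i).val ≤ lam' i
  · rw [if_pos h, Finset.mul_sum]
    refine Finset.sum_congr rfl fun κ _ => ?_
    by_cases h1 : ∀ i, (κ i).val ≤ lam i
    · rw [if_pos ⟨h1, h⟩, if_pos h1]
      ring
    · rw [if_neg (fun hh => h1 hh.1), if_neg h1, mul_zero]
  · rw [if_neg h]
    exact Finset.sum_eq_zero fun κ _ => if_neg fun hh => h hh.2

theorem diagCoeff_support (N : ℕ) (ν μ : Fin n → ℕ) (hsum : ∑ i, ν i = n)
    (h : diagCoeff N (shift ν) μ ≠ 0) : ∑ i, μ i = n := by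
  classical
  obtain ⟨κ, -, hκ⟩ := Finset.exists_ne_zero_of_sum_ne_zero h
  split_ifs at hκ with hle
  · obtain ⟨⟨M, hr, hc⟩⟩ : Nonempty (Margins N (fun i => shift ν i - (κ i).val) μ) := by
      rw [← not_isEmpty_iff]
      intro he
      exact hκ (by simp [Nat.card_of_isEmpty])
    have h1 : ∑ i, μ i = ∑ i, (shift ν i - (κ i).val) := by
      simp only [← hr, ← hc]
      exact Finset.sum_comm
    have h2 := sum_sub_perm (shift ν) κ hle
    simp only [shift, Finset.sum_add_distrib, hsum] at h1 h2
    omega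
  · exact absurd rfl hκ

theorem diagCoeff_self (N : ℕ) (hN : 2 * n < N) (ν : Fin n → ℕ) (hmono : Monotone ν)
    (hsum : ∑ i, ν i = n) : diagCoeff N (shift ν) ν = 1 := by
  classical
  set a := diagCoeff N (shift ν)
  have hsmall : ∀ μ : Fin n → ℕ, ∑ i, μ i = n → ∀ i, μ i ≤ n := fun μ hμ i =>
    (Finset.single_le_sum (fun j _ => Nat.zero_le (μ j)) (Finset.mem_univ i)).trans hμ.le
  have hlt : ∀ μ : Fin n → ℕ, ∑ i, μ i = n → ∀ i, shift μ i < N := fun μ hμ i => by
    have := hsmall μ hμ i
    have := i.isLt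
    simp only [shift]
    omega
  have hrec : ∀ μ : Fin n → ℕ, ∑ i, μ i = n → ∑ κ' : Equiv.Perm (Fin n),
      (if ∀ i, (κ' i).val ≤ shift μ i then
        (Equiv.Perm.sign κ' : ℤ) * a (fun i => shift μ i - (κ' i).val) else 0) =
      altCoeff (shift ν) (shift μ) := fun μ hμ => by
    rw [← pairing_eq_sum]
    exact pairing_eq_altCoeff N _ _ (hlt ν hsum) (hlt μ hμ)
  -- the triangular step: only the identity contributes when `wt` is maximal
  have hwt : ∀ (μ : Fin n → ℕ) (κ' : Equiv.Perm (Fin n)), κ' ≠ 1 → (∀ i, (κ' i).val ≤ shift μ i) →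
      wt μ < wt (fun i => shift μ i - (κ' i).val) := by
    intro μ κ' hne hle
    have h1 : wt (fun i => shift μ i - (κ' i).val) + wt (fun i => (κ' i).val) = wt (shift μ) := by
      simp only [wt, ← Finset.sum_add_distrib, ← mul_add]
      exact Finset.sum_congr rfl fun i _ => by rw [Nat.sub_add_cancel (hle i)]
    have h2 : wt μ + wt (fun i : Fin n => i.val) = wt (shift μ) := by
      simp only [wt, ← Finset.sum_add_distrib, ← mul_add, shift]
    have := wt_perm_lt κ' hne
    omega
  have hsingle : ∀ μ : Fin n → ℕ, ∑ i, μ i = n → (∀ μ', a μ' ≠ 0 → wt μ' ≤ wt μ) →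
      a μ = altCoeff (shift ν) (shift μ) := by
    intro μ hμ hmax
    rw [← hrec μ hμ, Finset.sum_eq_single (1 : Equiv.Perm (Fin n))]
    · rw [if_pos (fun i => by simp [shift])]
      simp [shift]
    · intro κ' _ hne
      split_ifs with hle
      · by_contra h0
        have := hmax _ (right_ne_zero_of_mul h0)
        have := hwt μ κ' hne hle
        omega
      · rfl
    · simp
  by_cases hS : ∃ μ, a μ ≠ 0
  · let S := (Fintype.piFinset fun _ : Fin n => Finset.range (n + 1)).filter fun μ => a μ ≠ 0
    have hmemS : ∀ μ, a μ ≠ 0 → μ ∈ S := fun μ h => by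
      have := hsmall μ (diagCoeff_support N ν μ hsum h)
      exact Finset.mem_filter.2 ⟨Fintype.mem_piFinset.2 fun i => Finset.mem_range.2 (by
        have := this i; omega), h⟩
    obtain ⟨μ0, hμ0⟩ := hS
    obtain ⟨m, hm, hmax⟩ := Finset.exists_max_image S wt ⟨μ0, hmemS μ0 hμ0⟩
    have ham : a m ≠ 0 := (Finset.mem_filter.1 hm).2
    have hmsum := diagCoeff_support N ν m hsum ham
    have hmax' : ∀ μ', a μ' ≠ 0 → wt μ' ≤ wt m := fun μ' h => hmax μ' (hmemS μ' h)
    have e := hsingle m hmsum hmax'
    rw [e] at ham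
    obtain ⟨σ, -, hσ⟩ := Finset.exists_ne_zero_of_sum_ne_zero ham
    have hσ' : shift ν ∘ σ = shift m := by
      by_contra hh
      exact hσ (if_neg hh)
    have hle : wt (shift m) ≤ wt (shift ν) := by
      rw [← hσ']
      exact (Monotone.monovary (f := fun i : Fin n => i.val) (fun i j h => h)
        (shift_strictMono hmono).monotone).sum_mul_comp_perm_le_sum_mul
    have hwν : wt m ≤ wt ν := by
      simp only [wt, shift, mul_add, Finset.sum_add_distrib] at hle
      simp only [wt]
      omega
    rw [hsingle ν hsum fun μ' h => (hmax' μ' h).trans hwν]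
    rw [altCoeff_shift ν ν hmono hmono, if_pos rfl]
  · push Not at hS
    rw [hsingle ν hsum fun μ' h => absurd (hS μ') h, altCoeff_shift ν ν hmono hmono, if_pos rfl]

end Combinatorics

end Cfsg.Agent.GLUnipotentCauchy
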