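import Mathlib
import Cfsg.Prelude.Def_Characters
import Cfsg.Prelude.Def_LinearParabolics
import Cfsg.Agent.Lib.GLUnipotentDC
import Cfsg.Agent.Lib.GLUnipotentCauchy

/-!
Inner products of the alternating sums of flag permutation characters of `GL_n` over a finite field.
-/

set_option autoImplicit false

namespace Cfsg.Agent.GLUnipotentChars

open Finset
open scoped MatrixGroups ComplexConjugate
open Cfsg.Agent.GLUnipotentDC (Margins avg_fixed_mul card_doubleCoset_parabolic card_doubleCoset_young)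
open Cfsg.Agent.GLUnipotentCauchy (shift pairing diagCoeff pairing_eq_altCoeff altCoeff_shift diagCoeff_self)

variable {F : Type*} [Field F] [Fintype F] [DecidableEq F] {n : ℕ}

theorem avg_parabolic (μ μ' : Fin n → ℕ) (h : ∑ i, μ i = n) (h' : ∑ i, μ' i = n) (N : ℕ) (hN : n < N) :
    (Nat.card (GL (Fin n) F) : ℂ)⁻¹ * ∑ g : GL (Fin n) F,
      Cfsg.fixedPointCharacter (Cfsg.parabolicGL n F μ) g *
        Cfsg.fixedPointCharacter (Cfsg.parabolicGL n F μ') g = (Nat.card (Margins N μ μ') : ℂ) := by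
  rw [avg_fixed_mul, card_doubleCoset_parabolic, card_doubleCoset_young N hN μ μ' h h']

theorem conj_fixed {G : Type*} [Group G] (H : Subgroup G) (g : G) :
    conj (Cfsg.fixedPointCharacter H g) = Cfsg.fixedPointCharacter H g := by
  simp [Cfsg.fixedPointCharacter]

theorem conj_unipotent (ν : Fin n → ℕ) (g : GL (Fin n) F) :
    conj (Cfsg.unipotentCharacterGL n F ν g) = Cfsg.unipotentCharacterGL n F ν g := by
  simp only [Cfsg.unipotentCharacterGL, map_sum]
  refine Finset.sum_congr rfl fun κ _ => ?_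
  split_ifs
  · rw [map_mul, conj_fixed, map_intCast]
  · simp

theorem sum_parts (ν : Fin n → ℕ) (hsum : ∑ i, ν i = n) (κ : Equiv.Perm (Fin n))
    (hκ : ∀ i : Fin n, (κ i).val ≤ ν i + i.val) : ∑ i : Fin n, (ν i + i.val - (κ i).val) = n := by
  have := Cfsg.Agent.GLUnipotentCauchy.sum_sub_perm (shift ν) κ hκ
  simp only [shift, Finset.sum_add_distrib, hsum] at this
  omega

theorem inner_unipotent_parabolic (ν μ : Fin n → ℕ) (hsum : ∑ i, ν i = n) (hμ : ∑ i, μ i = n)
    (N : ℕ) (hN : n < N) :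
    Cfsg.classInner (Cfsg.unipotentCharacterGL n F ν)
      (Cfsg.fixedPointCharacter (Cfsg.parabolicGL n F μ)) = (diagCoeff N (shift ν) μ : ℂ) := by
  simp only [Cfsg.classInner, conj_fixed, Cfsg.unipotentCharacterGL, Finset.sum_mul]
  rw [Finset.sum_comm, Finset.mul_sum, diagCoeff, Int.cast_sum]
  refine Finset.sum_congr rfl fun κ _ => ?_
  by_cases h : ∀ i : Fin n, (κ i).val ≤ ν i + i.val
  · rw [if_pos (show ∀ i : Fin n, (κ i).val ≤ shift ν i from h)]
    simp only [if_pos h, shift]
    simp only [mul_assoc, ← Finset.mul_sum]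
    rw [mul_left_comm, avg_parabolic _ μ (sum_parts ν hsum κ h) hμ N hN]
    push_cast
    rfl
  · rw [if_neg (show ¬∀ i : Fin n, (κ i).val ≤ shift ν i from h)]
    simp [if_neg h]

theorem inner_unipotent (ν ν' : Fin n → ℕ) (hmono : Monotone ν) (hsum : ∑ i, ν i = n)
    (hmono' : Monotone ν') (hsum' : ∑ i, ν' i = n) :
    Cfsg.classInner (Cfsg.unipotentCharacterGL n F ν) (Cfsg.unipotentCharacterGL n F ν') =
      if ν = ν' then 1 else 0 := by
  classical
  have hN : n < 2 * n + 1 := by omega
  have hb : ∀ μ : Fin n → ℕ, ∑ i, μ i = n → ∀ i, shift μ i < 2 * n + 1 := by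
    intro μ hμ i
    have := (Finset.single_le_sum (fun j _ => Nat.zero_le (μ j)) (Finset.mem_univ i)).trans hμ.le
    have := i.isLt
    simp only [shift]
    omega
  have key : Cfsg.classInner (Cfsg.unipotentCharacterGL n F ν) (Cfsg.unipotentCharacterGL n F ν') =
      (pairing (2 * n + 1) (shift ν) (shift ν') : ℂ) := by
    rw [Cfsg.Agent.GLUnipotentCauchy.pairing_eq_sum, Int.cast_sum]
    simp only [Cfsg.classInner, conj_unipotent]
    rw [show (∑ g : GL (Fin n) F, Cfsg.unipotentCharacterGL n F ν g * Cfsg.unipotentCharacterGL n F ν' g) =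
      ∑ g : GL (Fin n) F, Cfsg.unipotentCharacterGL n F ν g *
        ∑ κ : Equiv.Perm (Fin n), (if ∀ i : Fin n, (κ i).val ≤ ν' i + i.val then
          ((Equiv.Perm.sign κ : ℤ) : ℂ) *
            Cfsg.fixedPointCharacter (Cfsg.parabolicGL n F fun i => ν' i + i.val - (κ i).val) g else 0)
      from rfl]
    simp only [Finset.mul_sum]
    rw [Finset.sum_comm]
    refine Finset.sum_congr rfl fun κ _ => ?_
    by_cases h : ∀ i : Fin n, (κ i).val ≤ ν' i + i.val
    · rw [if_pos (show ∀ i : Fin n, (κ i).val ≤ shift ν' i from h)]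
      simp only [if_pos h, shift]
      have h2 := inner_unipotent_parabolic (F := F) ν (fun i => ν' i + i.val - (κ i).val) hsum
        (sum_parts ν' hsum' κ h) (2 * n + 1) hN
      simp only [Cfsg.classInner, conj_fixed] at h2
      rw [Int.cast_mul]
      rw [← h2, Finset.mul_sum, Finset.mul_sum]
      exact Finset.sum_congr rfl fun g _ => by ring
    · rw [if_neg (show ¬∀ i : Fin n, (κ i).val ≤ shift ν' i from h)]
      simp [if_neg h]
  rw [key, pairing_eq_altCoeff _ _ _ (hb ν hsum) (hb ν' hsum'), altCoeff_shift ν ν' hmono hmono']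
  split_ifs <;> simp

theorem inner_unipotent_self_parabolic (ν : Fin n → ℕ) (hmono : Monotone ν) (hsum : ∑ i, ν i = n) :
    Cfsg.classInner (Cfsg.unipotentCharacterGL n F ν)
      (Cfsg.fixedPointCharacter (Cfsg.parabolicGL n F ν)) = 1 := by
  rw [inner_unipotent_parabolic ν ν hsum hsum (2 * n + 1) (by omega),
    diagCoeff_self _ (by omega) ν hmono hsum]
  simp

end Cfsg.Agent.GLUnipotentChars
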