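import Mathlib
import Cfsg.Agent.S0514
import Cfsg.Agent.Lib.DihedralSylow77
import Cfsg.Agent.Lib.HallCore
import Cfsg.Agent.Lib.CoprimeGen

/-!
Simple groups with dihedral Sylow 2-subgroups and one class of involutions in which, for commuting
distinct involutions `t, u`, `u` inverts the odd elements centralising `t`.
-/

set_option autoImplicit false
set_option linter.style.haveILetI false
set_option linter.unusedSectionVars false

namespace Cfsg.Agent.GWDih33

open Subgroup DihedralGroup Cfsg.Agent.DihedralSylow77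

universe u

variable {G : Type u} [Group G]

/-- The standing hypothesis of the generalized dihedral core. -/
structure Hyp (G : Type u) [Group G] : Prop where
  simple : IsSimpleGroup G
  nonab : ∃ a b : G, a * b ≠ b * a
  dih : ∀ S : Sylow 2 G, ∃ n, 2 ≤ n ∧ Nonempty (↥(S : Subgroup G) ≃* DihedralGroup n)
  one : ∀ s t : G, orderOf s = 2 → orderOf t = 2 → IsConj s t
  inv : ∀ t u : G, orderOf t = 2 → orderOf u = 2 → u ≠ t → Commute t u →
    ∀ g : G, Odd (orderOf g) → Commute t g → u * g * u⁻¹ = g⁻¹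

/-- The odd core of the centralizer of `t`, as a subgroup of `G`. -/
def Om (t : G) : Subgroup G :=
  (Cfsg.oddCore (centralizer ({t} : Set G))).map (centralizer ({t} : Set G)).subtype

theorem mul_self {t : G} (ht : orderOf t = 2) : t * t = 1 := by
  rw [← pow_two, ← ht, pow_orderOf_eq_one]

theorem inv_self {t : G} (ht : orderOf t = 2) : t⁻¹ = t :=
  inv_eq_of_mul_eq_one_right (mul_self ht)

theorem ne_one {t : G} (ht : orderOf t = 2) : t ≠ 1 := by
  rintro rfl; simp at ht

theorem order_two {t : G} (h : t * t = 1) (h1 : t ≠ 1) : orderOf t = 2 :=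
  orderOf_eq_prime (by rw [pow_two, h]) h1

theorem order_conj (g x : G) : orderOf (g * x * g⁻¹) = orderOf x :=
  orderOf_injective (MulAut.conj g).toMonoidHom (MulAut.conj g).injective x

theorem eq_one_of_two {x : G} (hodd : Odd (orderOf x)) (h2 : x * x = 1) : x = 1 := by
  by_contra h
  rw [order_two h2 h] at hodd
  exact absurd hodd (by decide)

variable [Finite G]

theorem odd_of_mem {W : Subgroup G} (hW : Odd (Nat.card W)) {g : G} (hg : g ∈ W) : Odd (orderOf g) := by
  have := orderOf_dvd_natCard (⟨g, hg⟩ : W)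
  rw [Subgroup.orderOf_mk] at this
  exact hW.of_dvd_nat this

theorem om_le (t : G) : Om t ≤ centralizer ({t} : Set G) := map_subtype_le _

theorem om_comm {t g : G} (hg : g ∈ Om t) : Commute t g :=
  (mem_centralizer_singleton_iff.1 (om_le t hg)).symm

theorem odd_om (t : G) : Odd (Nat.card (Om t)) := by
  rw [Om, card_map_of_injective (centralizer ({t} : Set G)).subtype_injective]
  exact Nat.coprime_two_right.1 (HallCore.coprime_card_pPrimeCore 2 _)

theorem om_normalized (t : G) : centralizer ({t} : Set G) ≤ normalizer (Om t : Set G) := by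
  intro c hc
  rw [mem_normalizer_iff]
  haveI : (Cfsg.oddCore (centralizer ({t} : Set G))).Normal := HallCore.pPrimeCore_normal 2 _
  have key : ∀ c ∈ centralizer ({t} : Set G), ∀ x ∈ Om t, c * x * c⁻¹ ∈ Om t := by
    rintro c hc _ ⟨x, hx, rfl⟩
    exact ⟨_, Subgroup.Normal.conj_mem ‹_› x hx ⟨c, hc⟩, rfl⟩
  refine fun x => ⟨fun hx => key c hc x hx, fun hx => ?_⟩
  simpa [mul_assoc] using key c⁻¹ (inv_mem hc) _ hx

namespace Hyp

variable (h : Hyp G)
include h

/-- Every odd element centralising an involution lies in the odd core of its centralizer. -/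
theorem mem_om {t : G} (ht : orderOf t = 2) {g : G} (hg : Commute t g) (hodd : Odd (orderOf g)) :
    g ∈ Om t := by
  haveI : Fact (Nat.Prime 2) := ⟨Nat.prime_two⟩
  obtain ⟨S⟩ : Nonempty (Sylow 2 G) := inferInstance
  obtain ⟨n, hn, hS⟩ := h.dih S
  obtain ⟨N, hN, hNodd, k, hk⟩ := Cfsg.Agent.S0514.result S n hn hS t ht
  haveI := hN
  have hgC : g ∈ centralizer ({t} : Set G) := mem_centralizer_singleton_iff.2 hg.symm.eq
  refine ⟨⟨g, hgC⟩, HallCore.le_pPrimeCore (Nat.coprime_two_right.2 hNodd) ?_, rfl⟩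
  rw [← QuotientGroup.eq_one_iff, ← orderOf_eq_one_iff]
  refine Nat.eq_one_of_dvd_coprimes (Nat.Coprime.pow_left k (Nat.coprime_two_left.2 hodd))
    (hk ▸ ?_) ?_
  · exact orderOf_dvd_natCard (QuotientGroup.mk (⟨g, hgC⟩ : centralizer ({t} : Set G)) : _ ⧸ N)
  · refine (orderOf_map_dvd (QuotientGroup.mk' N) (⟨g, hgC⟩ : centralizer ({t} : Set G))).trans ?_
    rw [orderOf_mk]

theorem mem_om_iff {t : G} (ht : orderOf t = 2) {g : G} :
    g ∈ Om t ↔ Commute t g ∧ Odd (orderOf g) :=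
  ⟨fun hg => ⟨om_comm hg, odd_of_mem (odd_om t) hg⟩, fun hg => h.mem_om ht hg.1 hg.2⟩

theorem inv_om {t u : G} (ht : orderOf t = 2) (hu : orderOf u = 2) (hne : u ≠ t) (hc : Commute t u)
    {g : G} (hg : g ∈ Om t) : u * g * u⁻¹ = g⁻¹ :=
  h.inv t u ht hu hne hc g (odd_of_mem (odd_om t) hg) (om_comm hg)

/-- An involution is central in some Sylow subgroup. -/
theorem exists_central_sylow {t : G} (ht : orderOf t = 2) :
    ∃ S : Sylow 2 G, t ∈ (S : Subgroup G) ∧ ∀ s ∈ (S : Subgroup G), s * t = t * s := by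
  haveI : Fact (Nat.Prime 2) := ⟨Nat.prime_two⟩
  obtain ⟨S⟩ : Nonempty (Sylow 2 G) := inferInstance
  obtain ⟨n, hn, ⟨eS⟩⟩ := h.dih S
  obtain ⟨k, hk, ψ, hψ, hr⟩ := exists_embedding S n hn eS
  set z := ψ (r (k : ZMod (2 * k))) with hzdef
  have hz : orderOf z = 2 := orderOf_z ψ hk hψ
  have hzS : z ∈ (S : Subgroup G) := hr ▸ ⟨_, rfl⟩
  have hzc : ∀ s ∈ (S : Subgroup G), s * z = z * s := by
    intro s hs
    rw [← hr] at hs
    obtain ⟨d, rfl⟩ := hs
    rw [hzdef, ← map_mul, ← map_mul]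
    congr 1
    cases d with
    | r i => rw [r_mul_r, r_mul_r, add_comm]
    | sr i => rw [sr_mul_r, r_mul_sr, sub_eq_add_neg, neg_k]
  obtain ⟨g, hg⟩ := isConj_iff.1 (h.one z t hz ht)
  refine ⟨g • S, ?_, ?_⟩
  · rw [← hg]
    exact ⟨z, hzS, rfl⟩
  · rintro _ ⟨s, hs, rfl⟩
    rw [← hg]
    simp only [MulDistribMulAction.toMonoidEnd_apply, MulDistribMulAction.toMonoidHom_apply,
      MulAut.smul_def, MulAut.conj_apply]
    rw [conj_mul, conj_mul, hzc s hs]

/-- Every involution commutes with a second one. -/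
theorem exists_partner {t : G} (ht : orderOf t = 2) : ∃ u, orderOf u = 2 ∧ u ≠ t ∧ Commute t u := by
  haveI : Fact (Nat.Prime 2) := ⟨Nat.prime_two⟩
  obtain ⟨S, htS, htZ⟩ := h.exists_central_sylow ht
  obtain ⟨n, hn, ⟨eS⟩⟩ := h.dih S
  obtain ⟨k, hk, ψ, hψ, hr⟩ := exists_embedding S n hn eS
  haveI : NeZero (2 * k) := ⟨by omega⟩
  by_cases he : ψ (sr 0) = t
  · refine ⟨ψ (sr (k : ZMod (2 * k))), orderOf_sr' ψ hψ _, ?_, (htZ _ (hr ▸ ⟨_, rfl⟩)).symm⟩
    rw [← he]
    intro e
    exact k_ne_zero hk (by simpa using hψ e)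
  · exact ⟨ψ (sr 0), orderOf_sr' ψ hψ _, he, (htZ _ (hr ▸ ⟨_, rfl⟩)).symm⟩

theorem om_abelian {t : G} (ht : orderOf t = 2) {a b : G} (ha : a ∈ Om t) (hb : b ∈ Om t) :
    Commute a b := by
  obtain ⟨u, hu, hne, hc⟩ := h.exists_partner ht
  have e := h.inv_om ht hu hne hc (mul_mem ha hb)
  rw [← conj_mul, h.inv_om ht hu hne hc ha, h.inv_om ht hu hne hc hb, ← mul_inv_rev, inv_inj] at e
  exact e.symm

/-- No odd element centralises a four group. -/
theorem eq_one_of_pair {t u g : G} (ht : orderOf t = 2) (hu : orderOf u = 2) (hne : u ≠ t)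
    (hc : Commute t u) (hodd : Odd (orderOf g)) (hgt : Commute t g) (hgu : Commute u g) : g = 1 := by
  have e := h.inv t u ht hu hne hc g hodd hgt
  rw [hgu.eq, mul_inv_cancel_right] at e
  exact eq_one_of_two hodd (by nth_rw 1 [e]; group)

theorem om_inf {t u : G} (ht : orderOf t = 2) (hu : orderOf u = 2) (hne : u ≠ t) (hc : Commute t u)
    {g : G} (h1 : g ∈ Om t) (h2 : g ∈ Om u) : g = 1 :=
  h.eq_one_of_pair ht hu hne hc (odd_of_mem (odd_om t) h1) (om_comm h1) (om_comm h2)

theorem om_conj {t : G} (ht : orderOf t = 2) (g : G) {x : G} (hx : x ∈ Om t) :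
    g * x * g⁻¹ ∈ Om (g * t * g⁻¹) :=
  h.mem_om (by rw [order_conj]; exact ht)
    (by rw [commute_iff_eq, conj_mul, conj_mul, (om_comm hx).eq])
    (by rw [order_conj]; exact odd_of_mem (odd_om t) hx)

end Hyp

end Cfsg.Agent.GWDih33
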