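import Mathlib
import Cfsg.Agent.Lib.DihedralPair68Base
import Cfsg.Agent.Lib.DihedralOrder79
import Cfsg.Agent.Lib.DihedralBlockMain79
import Cfsg.Agent.Lib.KleinFourBlock79
import Cfsg.Agent.Lib.KleinFourOrder79
import Cfsg.Agent.Lib.CharBasicLinear
import Cfsg.Agent.Lib.ZStarCount

/-!
# Dihedral Sylow 2-subgroup, one class of involutions: bounds from the order formula

Throughout, `c` is the order of the centralizer of the central involution `z` and `4 * k` the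
order of the centralizer of a four-group containing `z`.
-/

set_option autoImplicit false

open scoped ComplexConjugate

namespace Cfsg.Agent.GWDihBounds11

open Cfsg Cfsg.Agent.DihedralPair68
open Cfsg.Agent.ProductFusion68 (inv_of_sq)

universe u

variable {Y : Type u} [Group Y]

theorem card_dih [Finite Y] {D : Subgroup Y} (d : Dih D) : Nat.card D = 2 * 2 ^ d.k := by
  obtain ⟨e⟩ := d.nonempty_equiv
  rw [Nat.card_congr e.toEquiv, DihedralGroup.nat_card]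

theorem orderOf_two {x : Y} (h : x * x = 1) (h1 : x ≠ 1) : orderOf x = 2 :=
  orderOf_eq_prime (by rw [pow_two, h]) h1

theorem sq_of_orderOf_two {x : Y} (h : orderOf x = 2) : x * x = 1 := by
  rw [← pow_two, ← h, pow_orderOf_eq_one]

theorem ne_one_of_orderOf_two {x : Y} (h : orderOf x = 2) : x ≠ 1 := fun e => by simp [e] at h

theorem orderOf_z {D : Subgroup Y} (d : Dih D) : orderOf d.z = 2 := orderOf_two d.z_sq d.z_ne

theorem orderOf_refl {D : Subgroup Y} (d : Dih D) {x : Y} (hx : d.Refl x) : orderOf x = 2 :=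
  orderOf_two (d.refl_sq hx) (d.refl_ne hx)

theorem refl_ne_z {D : Subgroup Y} (d : Dih D) {x : Y} (hx : d.Refl x) : x ≠ d.z :=
  fun h => hx.2 (h ▸ d.z_rot)

theorem z_of_k_one {D : Subgroup Y} (d : Dih D) (hk : d.k = 1) : d.z = d.r := by
  simp [Dih.z, hk]

theorem mem_centralizer_pair {g u v : Y} :
    g ∈ Subgroup.centralizer ({u, v} : Set Y) ↔ Commute u g ∧ Commute v g := by
  rw [Subgroup.mem_centralizer_iff]
  constructor
  · intro h
    exact ⟨h u (Set.mem_insert _ _), h v (Set.mem_insert_of_mem _ rfl)⟩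
  · rintro ⟨h1, h2⟩ y (rfl | rfl)
    · exact h1
    · exact h2

/-- A four-group of a dihedral group with one reflection in it. -/
theorem four_finset [DecidableEq Y] {D : Subgroup Y} (d : Dih D) {x : Y} (hx : d.Refl x) {y : Y}
    (hy : y ∈ D) (h : Commute x y) : y ∈ ({1, d.z, x, x * d.z} : Finset Y) := by
  rcases d.comm_refl hx hy h with h | h | h | h <;> simp [h]

/-- A four-group generated by two commuting involutions is centralized by no 2-group of order 8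
when the Sylow 2-subgroups are dihedral. -/
theorem not_eight_dvd [Finite Y] (S : Sylow 2 Y) (d : Dih (S : Subgroup Y)) {u v : Y}
    (hu : orderOf u = 2) (hv : orderOf v = 2) (huv : u ≠ v) (hc : Commute u v) :
    ¬ 8 ∣ Nat.card (Subgroup.centralizer ({u, v} : Set Y)) := by
  classical
  intro h8
  haveI : Fact (Nat.Prime 2) := ⟨Nat.prime_two⟩
  haveI := Fintype.ofFinite Y
  set C := Subgroup.centralizer ({u, v} : Set Y) with hC
  obtain ⟨R⟩ := (Sylow.nonempty : Nonempty (Sylow 2 C))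
  set Q := (R : Subgroup C).map C.subtype with hQ
  have hQp : IsPGroup 2 Q := R.2.map _
  have hcen : ∀ q ∈ C, Commute u q ∧ Commute v q := fun q hq => mem_centralizer_pair.1 hq
  have hu' : u ∈ C := mem_centralizer_pair.2 ⟨Commute.refl u, hc.symm⟩
  have hv' : v ∈ C := mem_centralizer_pair.2 ⟨hc, Commute.refl v⟩
  have hcent : ∀ w ∈ C, (∀ q ∈ C, Commute w q) → w * w = 1 → w ∈ Q := by
    intro w hw hwc hw2
    have hw2' : (⟨w, hw⟩ : C) ^ 2 = 1 := Subtype.ext (by simp [pow_two, hw2])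
    have hnorm : (Subgroup.zpowers (⟨w, hw⟩ : C)).Normal := by
      refine ⟨fun n hn g => ?_⟩
      obtain ⟨i, rfl⟩ := hn
      refine ⟨i, ?_⟩
      have hcg : Commute g (⟨w, hw⟩ : C) := Subtype.ext (hwc g g.2).eq.symm
      show (⟨w, hw⟩ : C) ^ i = g * (⟨w, hw⟩ : C) ^ i * g⁻¹
      rw [(hcg.zpow_right i).eq, mul_inv_cancel_right]
    have hp : IsPGroup 2 (Subgroup.zpowers (⟨w, hw⟩ : C)) := by
      intro g
      obtain ⟨i, hi⟩ := g.2
      refine ⟨1, Subtype.ext ?_⟩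
      rw [SubmonoidClass.coe_pow, pow_one, Subgroup.coe_one, ← hi]
      show ((⟨w, hw⟩ : C) ^ i) ^ 2 = 1
      rw [← zpow_natCast, ← zpow_mul, mul_comm, zpow_mul, zpow_natCast, hw2', one_zpow]
    exact ⟨⟨w, hw⟩, hp.le_sylow_of_normal R (Subgroup.mem_zpowers _), rfl⟩
  obtain ⟨g, hg⟩ := ProductFusion68.exists_conj_le S hQp
  have hQ8 : 8 ≤ Nat.card Q := by
    rw [hQ, Subgroup.card_map_of_injective C.subtype_injective, R.card_eq_multiplicity]
    have : 2 ^ 3 ∣ Nat.card C := h8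
    have h3 := (Nat.Prime.pow_dvd_iff_le_factorization Nat.prime_two Nat.card_pos.ne').1 this
    calc 8 = 2 ^ 3 := by norm_num
      _ ≤ _ := Nat.pow_le_pow_right (by norm_num) h3
  have hgu := hg u (hcent u hu' (fun q hq => (hcen q hq).1) (sq_of_orderOf_two hu))
  have hgv := hg v (hcent v hv' (fun q hq => (hcen q hq).2) (sq_of_orderOf_two hv))
  have key : ∀ w ∈ C, (∀ q ∈ C, Commute w q) → d.Refl (g * w * g⁻¹) → False := by
    intro w hw hwc hwr
    let f : Q → ↥({1, d.z, g * w * g⁻¹, g * w * g⁻¹ * d.z} : Finset Y) := fun q =>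
      ⟨g * q * g⁻¹, four_finset d hwr (hg q q.2) (by
        obtain ⟨q', -, hq'⟩ := q.2
        have := hwc q (hq' ▸ q'.2)
        exact (Commute.conj_iff g).2 this)⟩
    have hf : Function.Injective f := fun a b hab => by
      have := congrArg Subtype.val hab
      exact Subtype.ext (by simpa [f] using this)
    have h1 := Nat.card_le_card_of_injective f hf
    rw [Nat.card_eq_finsetCard] at h1
    have h2 : ({1, d.z, g * w * g⁻¹, g * w * g⁻¹ * d.z} : Finset Y).card ≤ 4 := Finset.card_le_four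
    omega
  have hgu2 : (g * u * g⁻¹) * (g * u * g⁻¹) = 1 := by
    rw [show g * u * g⁻¹ * (g * u * g⁻¹) = g * (u * u) * g⁻¹ by group, sq_of_orderOf_two hu]; group
  have hgv2 : (g * v * g⁻¹) * (g * v * g⁻¹) = 1 := by
    rw [show g * v * g⁻¹ * (g * v * g⁻¹) = g * (v * v) * g⁻¹ by group, sq_of_orderOf_two hv]; group
  rcases d.cases_sq hgu hgu2 (by simpa using ne_one_of_orderOf_two hu) with h1 | h1
  · rcases d.cases_sq hgv hgv2 (by simpa using ne_one_of_orderOf_two hv) with h2 | h2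
    · exact huv (by simpa using h1.trans h2.symm)
    · exact key v hv' (fun q hq => (hcen q hq).2) h2
  · exact key u hu' (fun q hq => (hcen q hq).1) h1

theorem dvd_card [Finite Y] (S : Sylow 2 Y) (d : Dih (S : Subgroup Y)) :
    (Nat.card Y).factorization 2 = d.k + 1 := by
  haveI : Fact (Nat.Prime 2) := ⟨Nat.prime_two⟩
  have h := S.card_eq_multiplicity
  rw [card_dih d, ← pow_succ'] at h
  exact (Nat.pow_right_injective le_rfl h).symm

/-- The four-group parameter is odd. -/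
theorem odd_k [Finite Y] (S : Sylow 2 Y) (d : Dih (S : Subgroup Y)) {k : ℕ}
    (hk : Nat.card (Subgroup.centralizer ({d.z, d.a} : Set Y)) = 4 * k) : Odd k := by
  have h := not_eight_dvd S d (orderOf_z d) (orderOf_refl d d.refl_a)
    (refl_ne_z d d.refl_a).symm (d.z_comm d.aD)
  rw [hk] at h
  exact Nat.not_even_iff_odd.1 fun ⟨j, hj⟩ => h ⟨j, by omega⟩

/-- The sharp ratio statement of the Klein four case: degrees. -/
theorem klein_arith {x₁ x₂ x₃ : ℕ} {ε : ℤ} (h1p : 0 < x₁) (h2p : 0 < x₂) (hε : ε = 1 ∨ ε = -1)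
    (h1 : (4 : ℤ) ∣ (x₁ : ℤ) - 1) (h2 : (4 : ℤ) ∣ (x₂ : ℤ) - ε) (h3 : (4 : ℤ) ∣ (x₃ : ℤ) + 1)
    (hw : 1 + (x₁ : ℤ) + ε * x₂ - x₃ = 0) :
    let num : ℤ := (x₁ : ℤ) * x₂ * x₃
    let den : ℤ := ((x₁ : ℤ) + 1) * ((x₂ : ℤ) + ε) * ((x₃ : ℤ) - 1)
    0 < den ∧ 3 * den ≤ 8 * num ∧ 8 * num ≤ 15 * den ∧
      (8 * num ≤ 5 * den → ε = 1 ∧ ((x₁ = 1 ∧ x₂ = 1) → 8 * num = 3 * den) ∧ (x₁ = 1 ∨ x₂ = 1)) := by
  intro num den
  have hx3 : 3 ≤ (x₃ : ℤ) := by omega
  rcases hε with rfl | rfl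
  · have hx : (x₃ : ℤ) = 1 + x₁ + x₂ := by omega
    have a1 : 1 ≤ (x₁ : ℤ) := by omega
    have a2 : 1 ≤ (x₂ : ℤ) := by omega
    have hd : 0 < den := mul_pos (mul_pos (by omega) (by omega)) (by omega)
    refine ⟨hd, ?_, ?_, fun h5 => ⟨rfl, ?_, ?_⟩⟩
    · simp only [num, den, hx]
      rcases (show x₁ = 1 ∨ 5 ≤ (x₁ : ℤ) by omega) with e | e <;>
        rcases (show x₂ = 1 ∨ 5 ≤ (x₂ : ℤ) by omega) with e' | e'
      · subst e e'; norm_num
      · subst e; push_cast; nlinarith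
      · subst e'; push_cast; nlinarith
      · nlinarith [mul_nonneg (show (0 : ℤ) ≤ x₁ - 5 by omega) (show (0 : ℤ) ≤ x₂ - 5 by omega)]
    · simp only [num, den, hx]
      nlinarith [mul_pos (show (0 : ℤ) < x₁ by omega) (show (0 : ℤ) < x₂ by omega)]
    · rintro ⟨rfl, rfl⟩
      simp only [num, den, hx]
      norm_num
    · by_contra hne
      push Not at hne
      have e : 5 ≤ (x₁ : ℤ) := by omega
      have e' : 5 ≤ (x₂ : ℤ) := by omega
      simp only [num, den, hx] at h5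
      nlinarith [mul_nonneg (show (0 : ℤ) ≤ x₁ - 5 by omega) (show (0 : ℤ) ≤ x₂ - 5 by omega)]
  · have hx : (x₁ : ℤ) = x₂ + x₃ - 1 := by omega
    have a2 : 3 ≤ (x₂ : ℤ) := by omega
    have hd : 0 < den := mul_pos (mul_pos (by omega) (by omega)) (by omega)
    refine ⟨hd, ?_, ?_, fun h5 => ?_⟩
    · simp only [num, den, hx]
      nlinarith [mul_nonneg (show (0 : ℤ) ≤ x₂ - 3 by omega) (show (0 : ℤ) ≤ x₃ - 3 by omega)]
    · simp only [num, den, hx]
      rcases (show x₂ = 3 ∨ 7 ≤ (x₂ : ℤ) by omega) with e | e <;>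
        rcases (show x₃ = 3 ∨ 7 ≤ (x₃ : ℤ) by omega) with e' | e'
      · subst e e'; norm_num
      · subst e; push_cast; nlinarith
      · subst e'; push_cast; nlinarith
      · nlinarith [mul_nonneg (show (0 : ℤ) ≤ x₂ - 7 by omega) (show (0 : ℤ) ≤ x₃ - 7 by omega)]
    · exfalso
      simp only [num, den, hx] at h5
      nlinarith [mul_nonneg (show (0 : ℤ) ≤ x₂ - 3 by omega) (show (0 : ℤ) ≤ x₃ - 3 by omega)]

/-- The arithmetic behind the dihedral case: `f ≡ δ` modulo the order of the Sylow group. -/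
theorem dih_arith {A C f N : ℕ} {δ : ℤ} (hδ : δ = 1 ∨ δ = -1) (hf : 0 < f) (hN : 3 ≤ N)
    (hne : (f : ℤ) ≠ δ) (hdvd : (N : ℤ) ∣ (f : ℤ) - δ)
    (heq : (A : ℤ) * ((f : ℤ) - δ) ^ 2 = (f : ℤ) * ((f : ℤ) + δ) * C) :
    A * N ^ 2 ≤ C * ((N + 1) * (N + 2)) ∧ C * ((N - 1) * (N - 2)) ≤ A * N ^ 2 := by
  obtain ⟨j, hj⟩ := hdvd
  have hj0 : j ≠ 0 := by rintro rfl; omega
  have hjp : 0 < j := by
    by_contra hn
    have : j ≤ -1 := by omega
    have hN' : (3 : ℤ) ≤ N := by exact_mod_cast hN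
    have hNj := mul_nonneg (show (0 : ℤ) ≤ N by omega) (show (0 : ℤ) ≤ -1 - j by omega)
    rw [mul_sub] at hNj
    omega
  have hj1 : 1 ≤ j := hjp
  rw [hj, show (f : ℤ) = N * j + δ by omega] at heq
  have hN' : (3 : ℤ) ≤ N := by exact_mod_cast hN
  have e : (A : ℤ) * (N : ℤ) ^ 2 * j ^ 2 = (C : ℤ) * ((N * j + δ) * (N * j + δ + δ)) := by
    linear_combination heq
  have hj2 : 0 < j ^ 2 := by positivity
  constructor
  · suffices hh : (A : ℤ) * (N : ℤ) ^ 2 ≤ (C : ℤ) * (((N : ℤ) + 1) * ((N : ℤ) + 2)) by exact_mod_cast hh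
    refine le_of_mul_le_mul_right ?_ hj2
    rw [e]
    have h1 : ((N : ℤ) * j + δ) * (N * j + δ + δ) ≤ ((N : ℤ) + 1) * ((N : ℤ) + 2) * j ^ 2 := by
      rcases hδ with rfl | rfl <;> nlinarith [mul_le_mul_of_nonneg_left hj1 hjp.le]
    calc (C : ℤ) * (((N : ℤ) * j + δ) * (N * j + δ + δ))
        ≤ (C : ℤ) * (((N : ℤ) + 1) * ((N : ℤ) + 2) * j ^ 2) :=
          mul_le_mul_of_nonneg_left h1 (Int.natCast_nonneg C)
      _ = _ := by ring
  · suffices hh : (C : ℤ) * (((N : ℤ) - 1) * ((N : ℤ) - 2)) ≤ (A : ℤ) * (N : ℤ) ^ 2 by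
      have : ((C * ((N - 1) * (N - 2)) : ℕ) : ℤ) ≤ ((A * N ^ 2 : ℕ) : ℤ) := by
        push_cast [Nat.cast_sub (show 1 ≤ N by omega), Nat.cast_sub (show 2 ≤ N by omega)]
        exact hh
      exact_mod_cast this
    refine le_of_mul_le_mul_right ?_ hj2
    rw [e]
    have h1 : ((N : ℤ) - 1) * ((N : ℤ) - 2) * j ^ 2 ≤ ((N : ℤ) * j + δ) * (N * j + δ + δ) := by
      rcases hδ with rfl | rfl <;> nlinarith [mul_le_mul_of_nonneg_left hj1 hjp.le]
    calc (C : ℤ) * (((N : ℤ) - 1) * ((N : ℤ) - 2)) * j ^ 2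
        = (C : ℤ) * (((N : ℤ) - 1) * ((N : ℤ) - 2) * j ^ 2) := by ring
      _ ≤ _ := mul_le_mul_of_nonneg_left h1 (Int.natCast_nonneg C)

variable [Finite Y] (S : Sylow 2 Y) (d : Dih (S : Subgroup Y))
  (hcls : ∀ s t : Y, orderOf s = 2 → orderOf t = 2 → IsConj s t) {k : ℕ}
  (hk : ∀ x : Y, orderOf x = 2 → x ≠ d.z → Commute d.z x →
    Nat.card (Subgroup.centralizer ({d.z, x} : Set Y)) = 4 * k)

include hcls hk

theorem dihedral_formula (hk2 : 2 ≤ d.k) : ∃ (f : ℕ) (δ : ℤ), (δ = 1 ∨ δ = -1) ∧ 0 < f ∧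
    (f : ℤ) ≠ δ ∧ ((2 * 2 ^ d.k : ℕ) : ℤ) ∣ (f : ℤ) - δ ∧
    ((2 * k ^ 2 * Nat.card Y : ℕ) : ℤ) * ((f : ℤ) - δ) ^ 2 = (f : ℤ) * ((f : ℤ) + δ) *
      ((Nat.card (Subgroup.centralizer ({d.z} : Set Y)) ^ 3 : ℕ) : ℤ) := by
  classical
  haveI : Fact (Nat.Prime 2) := ⟨Nat.prime_two⟩
  haveI := Fintype.ofFinite Y
  obtain ⟨M, hM⟩ := ZStarCount.exists_isPModular 2 Nat.prime_two
  have hn : 3 ≤ d.k + 1 := by omega
  have hz : d.r ^ 2 ^ (d.k + 1 - 2) = d.z := by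
    rw [Dih.z, show d.k + 1 - 2 = d.k - 1 by omega]
  have hro : orderOf d.r = 2 ^ (d.k + 1 - 1) := by rw [Nat.add_sub_cancel]; exact d.ord
  have hgen : Subgroup.closure ({d.r, d.a} : Set Y) = (S : Subgroup Y) := by
    refine le_antisymm ((Subgroup.closure_le _).2 ?_) fun x hx => ?_
    · rintro x (rfl | rfl)
      · exact d.rD
      · exact d.aD
    have hr : Subgroup.zpowers d.r ≤ Subgroup.closure ({d.r, d.a} : Set Y) :=
      Subgroup.zpowers_le.2 (Subgroup.subset_closure (Set.mem_insert _ _))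
    rcases d.cases x hx with h | h
    · exact hr h
    · have ha : d.a ∈ Subgroup.closure ({d.r, d.a} : Set Y) :=
        Subgroup.subset_closure (Set.mem_insert_of_mem _ rfl)
      have := mul_mem ha (hr h)
      rwa [← mul_assoc, d.a2, one_mul] at this
  have hra : d.Refl (d.r * d.a) := by
    refine ⟨mul_mem d.rD d.aD, fun h => d.anot ?_⟩
    have := mul_mem (inv_mem (Subgroup.mem_zpowers d.r)) h
    rwa [inv_mul_cancel_left] at this
  have hconj : IsConj (d.r ^ 2 ^ (d.k + 1 - 2)) d.a ∧ IsConj (d.r ^ 2 ^ (d.k + 1 - 2)) (d.r * d.a) := by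
    rw [hz]
    exact ⟨hcls _ _ (orderOf_z d) (orderOf_refl d d.refl_a),
      hcls _ _ (orderOf_z d) (orderOf_refl d hra)⟩
  have hset := DihedralClassSums79.setting_of_gen hn d.rD hro (orderOf_refl d d.refl_a) d.conj hgen
  obtain ⟨-, χ₁, χ₂, χ₃, χ', δ, δ₂, δ₃, hδ, -, -, -, h1, -, -, -, -, -, -, hB, hval, -⟩ :=
    DihedralBlockMain79.main hM hset (Complex.isPrimitiveRoot_exp _ (Nat.two_pow_pos _).ne')
  have hmem : χ₁ ∈ principalBlock M Y := by
    rw [hB]; exact Or.inr (Or.inl rfl)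
  obtain ⟨hne, heq⟩ := DihedralOrder79.main hM hn d.rD d.aD hro (orderOf_refl d d.refl_a) d.conj hgen
    hconj hmem h1 hδ fun l hl hl' => (hval l hl hl').1
  rw [hz, hk _ (orderOf_refl d d.refl_a) (refl_ne_z d d.refl_a) (d.z_comm d.aD),
    hk _ (orderOf_refl d hra) (refl_ne_z d hra) (d.z_comm hra.1)] at heq
  set f := charDegree (χ₁ : Y → ℂ) with hfdef
  set c := Nat.card (Subgroup.centralizer ({d.z} : Set Y)) with hcdef
  have hfp : 0 < f := CharAverage.irr_degree_pos χ₁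
  have hka := hk _ (orderOf_refl d d.refl_a) (refl_ne_z d d.refl_a) (d.z_comm d.aD)
  have hkodd := odd_k S d hka
  have hk0 : (k : ℚ) ≠ 0 := by exact_mod_cast hkodd.pos.ne'
  have key : ((2 * k ^ 2 * Nat.card Y : ℕ) : ℤ) * ((f : ℤ) - δ) ^ 2 =
      (f : ℤ) * ((f : ℤ) + δ) * ((c ^ 3 : ℕ) : ℤ) := by
    have : ((((2 * k ^ 2 * Nat.card Y : ℕ) : ℤ) * ((f : ℤ) - δ) ^ 2 : ℤ) : ℚ) =
        (((f : ℤ) * ((f : ℤ) + δ) * ((c ^ 3 : ℕ) : ℤ) : ℤ) : ℚ) := by
      push_cast at heq ⊢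
      field_simp at heq
      linear_combination heq / 8
    exact_mod_cast this
  refine ⟨f, δ, hδ, hfp, hne, ?_, key⟩
  have hv := dvd_card S d
  have hc2 : 2 * 2 ^ d.k ∣ c := by
    rw [← card_dih d]
    refine Subgroup.card_dvd_of_le fun y hy => ?_
    exact Subgroup.mem_centralizer_singleton_iff.2 (d.z_comm hy).eq.symm
  have hnd : ¬ 2 ^ (d.k + 2) ∣ Nat.card Y := fun h => by
    have := (Nat.Prime.pow_dvd_iff_le_factorization Nat.prime_two Nat.card_pos.ne').1 h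
    omega
  obtain ⟨c', hc'⟩ := hc2
  obtain ⟨g0, hg0⟩ : 2 ^ (d.k + 1) ∣ Nat.card Y :=
    (Nat.Prime.pow_dvd_iff_le_factorization Nat.prime_two Nat.card_pos.ne').2 (by omega)
  have hg0odd : Odd g0 := Nat.not_even_iff_odd.1 fun ⟨j, hj⟩ => hnd ⟨j, by rw [hg0, hj]; ring⟩
  have hc'odd : Odd c' := Nat.not_even_iff_odd.1 fun ⟨j, hj⟩ => by
    refine hnd (dvd_trans ⟨j, ?_⟩ (Subgroup.card_subgroup_dvd_card
      (Subgroup.centralizer ({d.z} : Set Y))))
    rw [← hcdef, hc', hj]; ring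
  -- the 2-part of the degree equation
  have eq2 : (((k ^ 2 * g0 : ℕ) : ℤ)) * ((f : ℤ) - δ) ^ 2 * 2 =
      (2 ^ (d.k + 1) : ℤ) ^ 2 * ((f : ℤ) * ((f : ℤ) + δ)) * ((c' ^ 3 : ℕ) : ℤ) := by
    rw [hg0, hc'] at key
    push_cast at key ⊢
    refine mul_left_cancel₀ (show (2 : ℤ) ^ (d.k + 1) ≠ 0 by positivity) ?_
    linear_combination key
  have hc3 : Odd ((c' ^ 3 : ℕ) : ℤ) := by exact_mod_cast hc'odd.pow
  have hkg : Odd ((k ^ 2 * g0 : ℕ) : ℤ) := by exact_mod_cast hkodd.pow.mul hg0odd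
  have hA : (2 : ℤ) ^ (d.k + 1) ∣ (f : ℤ) - δ ∨ False := by
    left
    have h4 : (4 : ℤ) ∣ ((f : ℤ) - δ) ^ 2 * 2 := by
      refine (Int.isCoprime_iff_gcd_eq_one.2 ?_).dvd_of_dvd_mul_left (y := ((k ^ 2 * g0 : ℕ) : ℤ))
        ⟨(2 ^ d.k : ℤ) ^ 2 * ((f : ℤ) * ((f : ℤ) + δ)) * ((c' ^ 3 : ℕ) : ℤ), ?_⟩
      · rw [Int.gcd_comm, show (4 : ℤ) = ((2 ^ 2 : ℕ) : ℤ) by norm_num, Int.gcd_natCast_natCast]
        exact (Nat.coprime_two_right.2 (hkodd.pow.mul hg0odd)).pow_right 2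
      · rw [← mul_assoc, eq2, pow_succ]; ring
    have hev : Even ((f : ℤ) - δ) := by
      have h2 : (2 : ℤ) ∣ ((f : ℤ) - δ) ^ 2 := by omega
      exact even_iff_two_dvd.2 (Int.prime_two.dvd_of_dvd_pow h2)
    have hfo : Odd (f : ℤ) := by
      obtain ⟨j, hj⟩ := hev
      rcases hδ with rfl | rfl
      · exact ⟨j, by omega⟩
      · exact ⟨j - 1, by omega⟩
    -- `f + δ` is twice an odd number
    obtain ⟨a, ha⟩ := hev
    have hb : (f : ℤ) + δ = 2 * (a + δ) := by omega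
    have hao : Even a := by
      rw [show ((f : ℤ) - δ) ^ 2 = 4 * a ^ 2 by rw [ha]; ring, hb] at eq2
      have h3 : (8 : ℤ) * (((k ^ 2 * g0 : ℕ) : ℤ) * a ^ 2) =
          8 * ((2 : ℤ) ^ (2 * d.k) * ((f : ℤ) * (a + δ) * ((c' ^ 3 : ℕ) : ℤ))) := by
        linear_combination eq2
      have h5 := mul_left_cancel₀ (by norm_num) h3
      have h6 : Even (((k ^ 2 * g0 : ℕ) : ℤ) * a ^ 2) := by
        rw [h5]
        exact Even.mul_right (Int.even_pow.2 ⟨even_two, by omega⟩) _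
      rcases Int.even_mul.1 h6 with h | h
      · exact absurd h (Int.not_even_iff_odd.2 hkg)
      · exact (Int.even_pow.1 h).1
    rw [show ((f : ℤ) - δ) ^ 2 = 4 * a ^ 2 by rw [ha]; ring, hb] at eq2
    have h5 : ((k ^ 2 * g0 : ℕ) : ℤ) * a ^ 2 =
        (2 : ℤ) ^ (2 * d.k) * ((f : ℤ) * (a + δ) * ((c' ^ 3 : ℕ) : ℤ)) := by
      refine mul_left_cancel₀ (show (8 : ℤ) ≠ 0 by norm_num) ?_
      linear_combination eq2
    have h7 : ((2 : ℤ) ^ d.k) ^ 2 ∣ a ^ 2 := by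
      rw [← pow_mul, mul_comm d.k 2]
      refine (Int.isCoprime_iff_gcd_eq_one.2 ?_).dvd_of_dvd_mul_left (y := ((k ^ 2 * g0 : ℕ) : ℤ))
        ⟨_, h5⟩
      rw [Int.gcd_comm, show (2 : ℤ) ^ (2 * d.k) = ((2 ^ (2 * d.k) : ℕ) : ℤ) by norm_num,
        Int.gcd_natCast_natCast]
      exact (Nat.coprime_two_right.2 (hkodd.pow.mul hg0odd)).pow_right _
    obtain ⟨q, hq⟩ := (Int.pow_dvd_pow_iff (by norm_num)).1 h7
    exact ⟨q, by rw [ha, hq, pow_succ]; ring⟩
  have := hA.resolve_right id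
  rw [← pow_succ']
  exact_mod_cast this

theorem klein_formula (hk1 : d.k = 1) :
    3 * Nat.card (Subgroup.centralizer ({d.z} : Set Y)) ^ 3 ≤ 8 * (2 * k ^ 2 * Nat.card Y) ∧
    8 * (2 * k ^ 2 * Nat.card Y) ≤ 15 * Nat.card (Subgroup.centralizer ({d.z} : Set Y)) ^ 3 ∧
    (8 * (2 * k ^ 2 * Nat.card Y) ≤ 5 * Nat.card (Subgroup.centralizer ({d.z} : Set Y)) ^ 3 →
      8 * (2 * k ^ 2 * Nat.card Y) = 3 * Nat.card (Subgroup.centralizer ({d.z} : Set Y)) ^ 3) := by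
  classical
  haveI : Fact (Nat.Prime 2) := ⟨Nat.prime_two⟩
  haveI := Fintype.ofFinite Y
  obtain ⟨M, hM⟩ := ZStarCount.exists_isPModular 2 Nat.prime_two
  have hP4 : Nat.card (S : Subgroup Y) = 4 := by rw [card_dih d, hk1]; norm_num
  have hexp : ∀ x : (S : Subgroup Y), x * x = 1 := fun x => Subtype.ext (d.sq_of_k_one hk1 x.2)
  obtain ⟨ζ₂, ζ₃, ζ₄, ε, hε, n2, n3, h23, h24, h34, hB, hv, m2, m3, m4, -⟩ :=
    KleinFourBlock79.main hM hP4 hexp d.z_mem (orderOf_z d) hcls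
  obtain ⟨v2, v3, v4⟩ := hv d.z (orderOf_z d)
  have n4 : (ζ₄ : Y → ℂ) ≠ (fun _ => 1) := fun e => by
    rw [e] at v4; norm_num at v4
  obtain ⟨hw, hord⟩ := KleinFourOrder79.relations hM hP4 hexp d.z_mem (orderOf_z d) hcls hB
    ⟨n2, n3, n4, h23, h24, h34⟩ (ε₁ := 1) (ε₂ := ε) (ε₃ := -1) ⟨Or.inl rfl, hε, Or.inr rfl⟩
    ⟨by simpa using v2, v3, by simpa using v4⟩
  have hS : Subgroup.centralizer ((S : Subgroup Y) : Set Y) =
      Subgroup.centralizer ({d.z, d.a} : Set Y) := by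
    refine le_antisymm (Subgroup.centralizer_le ?_) fun g hg => ?_
    · rintro x (rfl | rfl)
      · exact d.z_mem
      · exact d.aD
    obtain ⟨hgz, hga⟩ := mem_centralizer_pair.1 hg
    rw [Subgroup.mem_centralizer_iff]
    intro y hy
    rw [z_of_k_one d hk1] at hgz
    have hr : ∀ w ∈ Subgroup.zpowers d.r, Commute w g := by
      rintro _ ⟨i, rfl⟩; exact hgz.zpow_left i
    rcases d.cases y hy with h | h
    · exact (hr y h).eq
    · have := hga.mul_left (hr _ h)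
      rw [← mul_assoc, d.a2, one_mul] at this
      exact this.eq
  have hka := hk _ (orderOf_refl d d.refl_a) (refl_ne_z d d.refl_a) (d.z_comm d.aD)
  rw [hS, hka] at hord
  have p1 := CharAverage.irr_degree_pos ζ₂
  have p2 := CharAverage.irr_degree_pos ζ₃
  obtain ⟨hd, hlo, hhi, hfive⟩ := klein_arith p1 p2 hε m2 m3 m4 (by linarith)
  set num : ℤ := (charDegree (ζ₂ : Y → ℂ) : ℤ) * charDegree (ζ₃ : Y → ℂ) * charDegree (ζ₄ : Y → ℂ)
    with hnum
  set den : ℤ := ((charDegree (ζ₂ : Y → ℂ) : ℤ) + 1) * ((charDegree (ζ₃ : Y → ℂ) : ℤ) + ε) *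
    ((charDegree (ζ₄ : Y → ℂ) : ℤ) - 1) with hden
  set c := Nat.card (Subgroup.centralizer ({d.z} : Set Y)) with hcdef
  have key : ((2 * k ^ 2 * Nat.card Y : ℕ) : ℤ) * den = num * ((c ^ 3 : ℕ) : ℤ) := by
    push_cast at hord ⊢
    simp only [hnum, hden] at hord ⊢
    refine mul_left_cancel₀ (show (8 : ℤ) ≠ 0 by norm_num) ?_
    linear_combination hord
  have hc0 : (0 : ℤ) ≤ ((c ^ 3 : ℕ) : ℤ) := Int.natCast_nonneg _
  refine ⟨?_, ?_, fun h5 => ?_⟩
  · suffices h : 3 * ((c ^ 3 : ℕ) : ℤ) ≤ 8 * ((2 * k ^ 2 * Nat.card Y : ℕ) : ℤ) by exact_mod_cast h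
    refine le_of_mul_le_mul_right ?_ hd
    nlinarith [mul_le_mul_of_nonneg_right hlo hc0]
  · suffices h : 8 * ((2 * k ^ 2 * Nat.card Y : ℕ) : ℤ) ≤ 15 * ((c ^ 3 : ℕ) : ℤ) by exact_mod_cast h
    refine le_of_mul_le_mul_right ?_ hd
    nlinarith [mul_le_mul_of_nonneg_right hhi hc0]
  have hcp : (0 : ℤ) < ((c ^ 3 : ℕ) : ℤ) := by
    exact_mod_cast pow_pos (Nat.card_pos (α := Subgroup.centralizer ({d.z} : Set Y))) 3
  have h5' : 8 * ((2 * k ^ 2 * Nat.card Y : ℕ) : ℤ) ≤ 5 * ((c ^ 3 : ℕ) : ℤ) := by exact_mod_cast h5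
  have h8 : 8 * num ≤ 5 * den := le_of_mul_le_mul_right (by
    calc 8 * num * ((c ^ 3 : ℕ) : ℤ) = 8 * ((2 * k ^ 2 * Nat.card Y : ℕ) : ℤ) * den := by
          linear_combination (-8 : ℤ) * key
      _ ≤ 5 * ((c ^ 3 : ℕ) : ℤ) * den := mul_le_mul_of_nonneg_right h5' hd.le
      _ = _ := by ring) hcp
  obtain ⟨hε1, hboth, hor⟩ := hfive h8
  subst hε1
  have hlin : ∀ χ : IrrCharacter Y, χ ∈ principalBlock M Y → charDegree (χ : Y → ℂ) = 1 →
      (∀ z : Y, orderOf z = 2 → (χ : Y → ℂ) z = 1) → (χ : Y → ℂ) ≠ (fun _ => 1) →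
      ∃ χ' : IrrCharacter Y, χ' ∈ principalBlock M Y ∧ χ' ≠ χ ∧ (χ' : Y → ℂ) ≠ (fun _ => 1) ∧
        charDegree (χ' : Y → ℂ) = 1 := by
    intro χ hmem hdeg hinv hne
    refine ⟨_, KleinFourChars79.conj_mem hM hP4 hexp d.z_mem (orderOf_z d) hmem, ?_, ?_, ?_⟩
    · intro he
      apply hne
      obtain ⟨lam, hlam⟩ := CharBasicLinear.exists_hom_of_apply_one_eq_one
        (CharBasic.isCharacter_of_isIrrCharacter χ.2)
        (by rw [CharAverage.irr_apply_one, hdeg, Nat.cast_one])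
      funext g
      have hreal : conj ((χ : Y → ℂ) g) = (χ : Y → ℂ) g :=
        congrFun (congrArg Subtype.val he) g
      have hord1 : ((χ : Y → ℂ) g) ^ orderOf g = 1 := by
        rw [hlam]
        simp only
        rw [← Units.val_pow_eq_pow_val, ← map_pow, pow_orderOf_eq_one, map_one, Units.val_one]
      have hsq : ((χ : Y → ℂ) g) ^ 2 = 1 := by
        have hn : ‖(χ : Y → ℂ) g‖ = 1 := Complex.norm_eq_one_of_pow_eq_one hord1 (orderOf_pos g).ne'
        rw [pow_two]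
        nth_rewrite 2 [← hreal]
        rw [Complex.mul_conj, Complex.normSq_eq_norm_sq, hn]
        norm_num
      obtain ⟨a, m, hm2, ham⟩ := Nat.exists_eq_two_pow_mul_odd (orderOf_pos g).ne'
      have hgm : orderOf (g ^ m) = 2 ^ a := by
        rw [orderOf_pow' g hm2.pos.ne', ham, Nat.gcd_mul_left_left, Nat.mul_div_cancel _ hm2.pos]
      have hp : IsPGroup 2 (Subgroup.zpowers (g ^ m)) :=
        IsPGroup.of_card (n := a) (by rw [Nat.card_zpowers, hgm])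
      obtain ⟨y, hy⟩ := ProductFusion68.exists_conj_le S hp
      have hgm2 : g ^ m * g ^ m = 1 := by
        have h := d.sq_of_k_one hk1 (hy _ (Subgroup.mem_zpowers _))
        rw [show y * g ^ m * y⁻¹ * (y * g ^ m * y⁻¹) = y * (g ^ m * g ^ m) * y⁻¹ by group,
          mul_inv_eq_one] at h
        exact mul_eq_left.1 h
      have hval : (χ : Y → ℂ) (g ^ m) = 1 := by
        by_cases h1 : g ^ m = 1
        · rw [h1, CharAverage.irr_apply_one, hdeg, Nat.cast_one]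
        · exact hinv _ (orderOf_two hgm2 h1)
      have hpow : ((χ : Y → ℂ) g) ^ m = 1 := by
        rw [hlam] at hval ⊢
        simp only at hval ⊢
        rwa [← Units.val_pow_eq_pow_val, ← map_pow]
      obtain ⟨j, hj⟩ := hm2
      rw [hj, pow_succ, pow_mul, hsq, one_pow, one_mul] at hpow
      exact hpow
    · intro he
      exact hne (funext fun g => by simpa using congrArg conj (congrFun he g))
    · rw [← hdeg]
      simp [charDegree]
  have hx3 : charDegree (ζ₄ : Y → ℂ) ≠ 1 := fun h => by rw [h] at m4; norm_num at m4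
  have hmemB : ∀ χ, χ ∈ principalBlock M Y ↔
      ((χ : Y → ℂ) = (fun _ => 1) ∨ χ = ζ₂ ∨ χ = ζ₃ ∨ χ = ζ₄) := fun χ => by rw [hB]; rfl
  have both : charDegree (ζ₂ : Y → ℂ) = 1 ∧ charDegree (ζ₃ : Y → ℂ) = 1 := by
    rcases hor with h | h
    · refine ⟨h, ?_⟩
      obtain ⟨χ', hm', hne', hone', hdeg'⟩ := hlin ζ₂ ((hmemB _).2 (by simp)) h
        (fun z hz => (hv z hz).1) n2
      rcases (hmemB _).1 hm' with e | e | e | e
      · exact absurd e hone'
      · exact absurd e hne'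
      · rw [← e]; exact hdeg'
      · exact absurd (e ▸ hdeg') hx3
    · refine ⟨?_, h⟩
      obtain ⟨χ', hm', hne', hone', hdeg'⟩ := hlin ζ₃ ((hmemB _).2 (by simp)) h
        (fun z hz => by simpa using (hv z hz).2.1) n3
      rcases (hmemB _).1 hm' with e | e | e | e
      · exact absurd e hone'
      · rw [← e]; exact hdeg'
      · exact absurd e hne'
      · exact absurd (e ▸ hdeg') hx3
  have h83 := hboth both
  suffices h : 8 * ((2 * k ^ 2 * Nat.card Y : ℕ) : ℤ) = 3 * ((c ^ 3 : ℕ) : ℤ) by exact_mod_cast h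
  refine mul_right_cancel₀ hd.ne' ?_
  linear_combination 8 * key + ((c ^ 3 : ℕ) : ℤ) * h83

/-- The two bounds from the order formula. -/
theorem bounds :
    2 * k ^ 2 * Nat.card Y * (2 * 2 ^ d.k) ^ 2 ≤
      Nat.card (Subgroup.centralizer ({d.z} : Set Y)) ^ 3 * ((2 * 2 ^ d.k + 1) * (2 * 2 ^ d.k + 2)) ∧
    Nat.card (Subgroup.centralizer ({d.z} : Set Y)) ^ 3 * ((2 * 2 ^ d.k - 1) * (2 * 2 ^ d.k - 2)) ≤
      2 * k ^ 2 * Nat.card Y * (2 * 2 ^ d.k) ^ 2 := by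
  by_cases hk1 : d.k = 1
  · obtain ⟨hlo, hhi, -⟩ := klein_formula S d hcls hk hk1
    rw [hk1]
    norm_num
    constructor <;> omega
  · have hk2 : 2 ≤ d.k := by have := d.hk; omega
    obtain ⟨f, δ, hδ, hf, hne, hdvd, heq⟩ := dihedral_formula S d hcls hk hk2
    refine dih_arith hδ hf ?_ hne hdvd heq
    have : 2 ^ 2 ≤ 2 ^ d.k := Nat.pow_le_pow_right (by norm_num) hk2
    omega

end Cfsg.Agent.GWDihBounds11
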