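import Cfsg.Agent.Lib.GWDihFit33

/-!
No maximal invariant subgroup has central Fitting elements centralised by a second involution.
-/

set_option autoImplicit false
set_option linter.style.haveILetI false
set_option linter.unusedSectionVars false

namespace Cfsg.Agent.GWDih33

open Subgroup Cfsg.Agent.BGFittingUnique
open scoped commutatorElement

universe u

variable {G : Type u} [Group G] [Finite G]

theorem commute_fit_zen {W : Subgroup G} {x y : G} (hx : x ∈ zen W) (hy : y ∈ Cfsg.fittingOf W) :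
    Commute y x := mem_centralizer_iff.1 hx.2 y hy

theorem le_fit {W N : Subgroup G} (hN : N ≤ W) (hn : W ≤ normalizer (N : Set G))
    (hnil : Group.IsNilpotent N) : N ≤ Cfsg.fittingOf W := by
  haveI : (N.subgroupOf W).Normal := normal_subgroupOf_of_le_normalizer hn
  haveI : Group.IsNilpotent (N.subgroupOf W) :=
    Group.nilpotent_of_surjective (subgroupOfEquivOfLe hN).symm.toMonoidHom
      (subgroupOfEquivOfLe hN).symm.surjective
  intro x hx
  exact ⟨⟨x, hN hx⟩, ComponentsCores.le_fitting (N := N.subgroupOf W) inferInstance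
    (mem_subgroupOf.2 hx), rfl⟩

theorem dvd_of_oc_ne_bot {p : ℕ} [hp : Fact p.Prime] {W : Subgroup G} (h : Oc p W ≠ ⊥) :
    p ∣ Nat.card (Cfsg.fittingOf W) := by
  obtain ⟨k, hk⟩ := IsPGroup.iff_card.1 (isPGroup_Oc p W)
  have hk0 : k ≠ 0 := fun e => h (by rw [e, pow_zero] at hk; exact card_eq_one.1 hk)
  exact (dvd_pow_self p hk0).trans (hk ▸ card_dvd_of_le (Oc_le_fittingOf hp.out W))

theorem oc_ne_bot {p : ℕ} [hp : Fact p.Prime] {W : Subgroup G}
    (h : p ∣ Nat.card (Cfsg.fittingOf W)) : Oc p W ≠ ⊥ := by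
  obtain ⟨⟨x, hx⟩, hxo⟩ := exists_prime_orderOf_dvd_card' p h
  rw [Subgroup.orderOf_mk] at hxo
  intro e
  have := mem_Oc_of_mem_fittingOf hx (i := 1) (by rw [hxo, pow_one])
  rw [e, mem_bot] at this
  rw [this, orderOf_one] at hxo
  exact hp.out.ne_one hxo.symm

theorem coprime_card_oc {p q : ℕ} [Fact p.Prime] [Fact q.Prime] (h : p ≠ q) (W : Subgroup G) :
    ¬ q ∣ Nat.card (Oc p W) := by
  intro hd
  obtain ⟨k, hk⟩ := IsPGroup.iff_card.1 (isPGroup_Oc p W)
  rw [hk] at hd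
  exact h ((Nat.prime_dvd_prime_iff_eq Fact.out Fact.out).1
    ((Fact.out : q.Prime).dvd_of_dvd_pow hd)).symm

theorem eq_one_of_pgroups {p q : ℕ} [Fact p.Prime] [Fact q.Prime] (h : p ≠ q) {X Y : Subgroup G}
    (hX : IsPGroup p X) (hY : IsPGroup q Y) {x : G} (hx : x ∈ X) (hy : x ∈ Y) : x = 1 := by
  have := inf_eq_bot_of_coprime (coprime_of_qgroups h hX hY)
  exact mem_bot.1 (this ▸ (⟨hx, hy⟩ : x ∈ X ⊓ Y))

theorem pgroup_sup {p : ℕ} [Fact p.Prime] {A B : Subgroup G} (hA : IsPGroup p A) (hB : IsPGroup p B)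
    (h : A ≤ normalizer (B : Set G)) : IsPGroup p (A ⊔ B : Subgroup G) :=
  hA.to_sup_of_normal_right' hB h

namespace Max

variable {z : G} {W : Subgroup G}

theorem centralizer_le_zen (hM : Max z W) :
    W ⊓ centralizer (Cfsg.fittingOf W : Set G) ≤ zen W := by
  haveI := hM.solvable
  exact fun x hx => ⟨centralizer_fittingOf_le hx, hx.2⟩

theorem fit_ne_bot (T : Tools G) (hM : Max z W) : Cfsg.fittingOf W ≠ ⊥ := by
  intro e
  haveI := hM.solvable
  refine hM.ne_bot T (le_bot_iff.1 ((le_inf le_rfl ?_).trans (e ▸ centralizer_fittingOf_le)))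
  intro x _
  rw [mem_centralizer_iff]
  rintro y hy
  rw [mem_bot.1 hy, one_mul, mul_one]

theorem cen_oc (hM : Max z W) (p : ℕ) : centralizer ({z} : Set G) ≤ normalizer (Oc p W : Set G) :=
  hM.norm.trans (normalizer_le_Oc p W)

theorem cen_fit (hM : Max z W) :
    centralizer ({z} : Set G) ≤ normalizer (Cfsg.fittingOf W : Set G) :=
  hM.norm.trans (normalizer_le_fittingOf W)

theorem derived_le (T : Tools G) (hM : Max z W) : ⁅W, W⁆ ≤ Cfsg.fittingOf W := by
  obtain ⟨v, hv, hne, hc⟩ := T.hyp.exists_partner hM.two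
  refine le_fit (commutator_le_self_of_self W) (le_normalizer_commutator le_normalizer le_normalizer) ?_
  exact T.four W hM.odd z v hM.two hv hne hc (hM.mem_norm (Commute.refl z)) (hM.mem_norm hc)
    fun g hg hgz hgv => T.hyp.eq_one_of_pair hM.two hv hne hc (odd_of_mem hM.odd hg) hgz hgv
where
  commutator_le_self_of_self (W : Subgroup G) : ⁅W, W⁆ ≤ W :=
    CoprimeAction.commutator_le_self_of_le_normalizer le_normalizer

/-- If the Fitting subgroup is a `p`-group it contains every `p`-subgroup of `W`. -/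
theorem pgroup_le_fit (T : Tools G) (hM : Max z W) {p : ℕ} [Fact p.Prime]
    (hF : IsPGroup p (Cfsg.fittingOf W)) {Q : Subgroup G} (hQ : Q ≤ W) (hQp : IsPGroup p Q) :
    Q ≤ Cfsg.fittingOf W := by
  have hFn : W ≤ normalizer (Cfsg.fittingOf W : Set G) := le_normalizer.trans (normalizer_le_fittingOf W)
  have hp := pgroup_sup hQp hF (hQ.trans hFn)
  have hle : Q ⊔ Cfsg.fittingOf W ≤ W := sup_le hQ (fittingOf_le W)
  refine le_sup_left.trans (le_fit hle ?_ hp.isNilpotent)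
  refine le_normalizer_iff_commutator_le_left.2 ?_
  calc ⁅Q ⊔ Cfsg.fittingOf W, W⁆ ≤ ⁅W, W⁆ := commutator_mono hle le_rfl
    _ ≤ Cfsg.fittingOf W := hM.derived_le T
    _ ≤ _ := le_sup_right

/-- A centralised invariant subgroup pulls odd elements into `W`. -/
theorem mem_of_commute (T : Tools G) (hM : Max z W) {Y : Subgroup G} (hY : Y ≠ ⊥) (hYW : Y ≤ W)
    (hn : W ≤ normalizer (Y : Set G)) (hC : centralizer ({z} : Set G) ≤ normalizer (Y : Set G))
    {g : G} (hg : g ∈ centralizer (Y : Set G)) (hodd : Odd (orderOf g)) : g ∈ W :=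
  hM.core_le T hY hYW hn hC (centralizer_le_normalizer _ hg) hodd

/-- `Oc p W` centralises `Oc q W₂` when it lies in `W₂` with a nontrivial `Oc q W`. -/
theorem oc_centralizes (T : Tools G) (hM : Max z W) {W₂ : Subgroup G} (hW₂ : Odd (Nat.card W₂))
    {p q : ℕ} [Fact p.Prime] [Fact q.Prime] (hpq : p ≠ q) (hp : Oc p W ≤ W₂) (hq : Oc q W ≤ W₂)
    (hne : Oc q W ≠ ⊥) : Oc p W ≤ centralizer (Oc q W₂ : Set G) := by
  refine CoprimeGen.le_centralizer_of_prod_action (p := q) (B := Oc q W) (isPGroup_Oc q W₂)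
    (isPGroup_Oc q W) (coprime_card_oc hpq W) (hp.trans (le_normalizer_Oc q W₂))
    (hq.trans (le_normalizer_Oc q W₂)) ?_ ?_
  · exact fun a ha => mem_centralizer_iff.2 fun b hb => (commute_Oc hpq ha hb).symm
  · rintro u ⟨huR, huC⟩
    have huW : u ∈ W := hM.mem_of_commute T hne (Oc_le q W) (le_normalizer_Oc q W) (hM.cen_oc q) huC
      (odd_of_mem hW₂ (Oc_le q W₂ huR))
    rw [mem_centralizer_iff]
    intro e he
    have h1 : ⁅e, u⁆ = 1 := by
      refine eq_one_of_pgroups hpq (isPGroup_Oc p W) (isPGroup_Oc q W₂) ?_ ?_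
      · rw [commutatorElement_def, mul_assoc, mul_assoc, ← mul_assoc u]
        exact mul_mem he (conj_mem_of (le_normalizer_Oc p W huW) (inv_mem he))
      · rw [commutatorElement_def]
        exact mul_mem (conj_mem_of (le_normalizer_Oc q W₂ (hp he)) huR) (inv_mem huR)
    exact (commutatorElement_eq_one_iff_mul_comm.1 h1)

/-- Fitting subgroups with the same primes. -/
theorem fit_le_fit (T : Tools G) (hM : Max z W) {v : G} {W₂ : Subgroup G} (hM₂ : Max v W₂)
    (hle : Cfsg.fittingOf W ≤ W₂)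
    (hpr : ∀ q : ℕ, q.Prime → q ∣ Nat.card (Cfsg.fittingOf W₂) → q ∣ Nat.card (Cfsg.fittingOf W)) :
    Cfsg.fittingOf W ≤ Cfsg.fittingOf W₂ := by
  refine BGRankTwo.le_of_sylow_le fun p hp x hx ⟨i, hi⟩ => ?_
  haveI := Fact.mk hp
  refine Oc_le_fittingOf hp W₂ ?_
  have hE : Oc p W ≤ W₂ := (Oc_le_fittingOf hp W).trans hle
  have hEn : Oc p W ≤ normalizer (Oc p W₂ : Set G) := hE.trans (le_normalizer_Oc p W₂)
  have hP : IsPGroup p (Oc p W ⊔ Oc p W₂ : Subgroup G) :=
    pgroup_sup (isPGroup_Oc p W) (isPGroup_Oc p W₂) hEn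
  have hFP : Cfsg.fittingOf W₂ ≤ normalizer ((Oc p W ⊔ Oc p W₂ : Subgroup G) : Set G) := by
    refine BGRankTwo.le_of_sylow_le fun s hs y hy ⟨j, hj⟩ => ?_
    haveI := Fact.mk hs
    by_cases hsp : s = p
    · subst hsp
      exact le_normalizer (mem_sup_right (mem_Oc_of_mem_fittingOf hy hj))
    by_cases hj0 : j = 0
    · rw [hj0, pow_zero, orderOf_eq_one_iff] at hj
      rw [hj]; exact one_mem _
    have hyq := mem_Oc_of_mem_fittingOf hy hj
    refine centralizer_le_normalizer _ ?_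
    have hcen : Oc p W ⊔ Oc p W₂ ≤ centralizer ({y} : Set G) := by
      refine sup_le (fun e he => mem_centralizer_singleton_iff.2 ?_)
        fun e he => mem_centralizer_singleton_iff.2 (commute_Oc (Ne.symm hsp) he hyq).eq
      have hd : s ∣ Nat.card (Cfsg.fittingOf W₂) :=
        (dvd_pow_self s hj0).trans (hj ▸ orderOf_dvd_natCard _ hy)
      have hne := oc_ne_bot (hpr s hs hd)
      have := hM.oc_centralizes T hM₂.odd (Ne.symm hsp) hE
        ((Oc_le_fittingOf hs W).trans hle) hne he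
      exact (mem_centralizer_iff.1 this y hyq).symm
    exact mem_centralizer_iff.2 fun e he => (mem_centralizer_singleton_iff.1 (hcen he))
  have hsup : Oc p W ⊔ Cfsg.fittingOf W₂ ≤ normalizer ((Oc p W ⊔ Oc p W₂ : Subgroup G) : Set G) :=
    sup_le ((le_sup_left).trans le_normalizer) hFP
  have hN1 : Oc p W ⊔ Cfsg.fittingOf W₂ ≤ W₂ := sup_le hE (fittingOf_le W₂)
  have hN1n : W₂ ≤ normalizer ((Oc p W ⊔ Cfsg.fittingOf W₂ : Subgroup G) : Set G) := by
    refine le_normalizer_iff_commutator_le_left.2 ?_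
    exact ((commutator_mono hN1 le_rfl).trans (hM₂.derived_le T)).trans le_sup_right
  have h1 : Oc p W ⊔ Oc p W₂ ≤ Oc p (Oc p W ⊔ Cfsg.fittingOf W₂) :=
    le_Oc (sup_le_sup_left (Oc_le_fittingOf hp W₂) _) hsup hP
  have h2 : Oc p (Oc p W ⊔ Cfsg.fittingOf W₂) ≤ Oc p W₂ :=
    le_Oc ((Oc_le p _).trans hN1) (hN1n.trans (normalizer_le_Oc p _)) (isPGroup_Oc p _)
  exact h2 (h1 (mem_sup_left (mem_Oc_of_mem_fittingOf hx hi)))

end Max

/-- A maximal invariant subgroup over a given one. -/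
theorem exists_max {v : G} (hv : orderOf v = 2) {W₀ : Subgroup G} (hW : Odd (Nat.card W₀))
    (hn : centralizer ({v} : Set G) ≤ normalizer (W₀ : Set G)) (hO : Om v ≤ W₀) :
    ∃ W, Max v W ∧ W₀ ≤ W := by
  classical
  obtain ⟨W, ⟨hWo, hWn, hle⟩, hmax⟩ := Set.Finite.exists_maximalFor (fun W : Subgroup G => Nat.card W)
    {W : Subgroup G | Odd (Nat.card W) ∧ centralizer ({v} : Set G) ≤ normalizer (W : Set G) ∧ W₀ ≤ W}
    (Set.toFinite _) ⟨W₀, hW, hn, le_rfl⟩
  refine ⟨W, ⟨hv, hWo, hWn, hO.trans hle, fun W' ho hn' hWW' => ?_⟩, hle⟩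
  exact (Subgroup.eq_of_le_of_card_ge hWW'
    (hmax ⟨ho, hn', hle.trans hWW'⟩ (Subgroup.card_le_of_le hWW'))).symm

/-- A maximal invariant subgroup over the odd normalizing elements of a subgroup of the odd core. -/
theorem exists_max_over (T : Tools G) {v : G} (hv : orderOf v = 2) {Y : Subgroup G} (hY : Y ≠ ⊥)
    (hYO : Y ≤ Om v) :
    ∃ W, Max v W ∧ ∀ g ∈ normalizer (Y : Set G), Odd (orderOf g) → g ∈ W := by
  haveI := T.hyp.simple
  have hC := T.hyp.cen_norm hv hYO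
  have hne : normalizer (Y : Set G) ≠ ⊤ := fun e => by
    rcases (normalizer_eq_top_iff.1 e).eq_bot_or_eq_top with h | h
    · exact hY h
    · exact not_mem_of_odd (odd_om v) hv (hYO (h ▸ mem_top v))
  obtain ⟨X, -, hXo, hNX, hall⟩ := T.idx v hv _ hC hne
  obtain ⟨W, hW, hle⟩ := exists_max hv hXo (hC.trans hNX)
    fun g hg => hall g (hC (om_le v hg)) (odd_of_mem (odd_om v) hg)
  exact ⟨W, hW, fun g hg ho => hle (hall g hg ho)⟩

namespace Max

variable {z : G} {W : Subgroup G}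

/-- Two maximal subgroups at commuting involutions have different Fitting subgroups. -/
theorem fit_ne (T : Tools G) (hM : Max z W) {v : G} {W₂ : Subgroup G} (hM₂ : Max v W₂) (hne : v ≠ z)
    (hc : Commute z v) : Cfsg.fittingOf W ≠ Cfsg.fittingOf W₂ := by
  intro e
  haveI : Fact (Nat.Prime 2) := ⟨Nat.prime_two⟩
  have hF := hM.fit_ne_bot T
  have hFn : W ≤ normalizer (Cfsg.fittingOf W : Set G) := le_normalizer.trans (normalizer_le_fittingOf W)
  have hCv : centralizer ({v} : Set G) ≤ normalizer (Cfsg.fittingOf W : Set G) := e ▸ hM₂.cen_fit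
  have hOv : Om v ≤ W := fun g hg =>
    hM.core_le T hF (fittingOf_le W) hFn hM.cen_fit (hCv (om_le v hg)) (odd_of_mem (odd_om v) hg)
  have hsup : centralizer ({v} : Set G) ≤ W ⊔ centralizer ({z} : Set G) :=
    hCv.trans (hM.norm_le_sup T hF (fittingOf_le W) hFn hM.cen_fit)
  have hvW : v ∈ normalizer (W : Set G) := hM.mem_norm hc
  obtain ⟨S, hvS, hvc⟩ := T.hyp.exists_central_sylow hM₂.two
  by_cases h4 : Nat.card S = 4
  · exact T.kill S h4 z v hM.two hM₂.two hne hc W hM.odd (hM.mem_norm (Commute.refl z)) hvW hM.om hOv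
  -- a Sylow subgroup through `z` in the centralizer of `v`
  have hSC : (S : Subgroup G) ≤ centralizer ({v} : Set G) := fun s hs =>
    mem_centralizer_singleton_iff.2 (hvc s hs)
  have hzC : z ∈ centralizer ({v} : Set G) := mem_cen_of_commute hc.symm
  have hp2 : IsPGroup 2 ((zpowers z).subgroupOf (centralizer ({v} : Set G))) :=
    IsPGroup.comap_subtype (IsPGroup.of_card (n := 1) (by rw [Nat.card_zpowers, hM.two, pow_one]))
  obtain ⟨P, hP⟩ := hp2.exists_le_sylow
  obtain ⟨y, hy⟩ := MulAction.exists_smul_eq (centralizer ({v} : Set G)) P (S.subtype hSC)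
  have hzS : (y : G) * z * (y : G)⁻¹ ∈ (S : Subgroup G) := by
    have h2 : y * ⟨z, hzC⟩ * y⁻¹ ∈ ((S.subtype hSC : Sylow 2 _) : Subgroup _) := by
      rw [← hy]
      exact ⟨_, hP (mem_subgroupOf.2 (mem_zpowers z)), rfl⟩
    exact h2
  obtain ⟨z', hz'⟩ : ∃ z', z' = (y : G) * z * (y : G)⁻¹ := ⟨_, rfl⟩
  rw [← hz'] at hzS
  -- `z` is central modulo `W`
  let D : Subgroup G :=
    { carrier := {x | x ∈ normalizer (W : Set G) ∧ z * x * z⁻¹ * x⁻¹ ∈ W}
      one_mem' := ⟨one_mem _, by simp⟩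
      mul_mem' := fun {a b} ha hb => ⟨mul_mem ha.1 hb.1, by
        rw [show z * (a * b) * z⁻¹ * (a * b)⁻¹ =
          z * a * z⁻¹ * a⁻¹ * (a * (z * b * z⁻¹ * b⁻¹) * a⁻¹) by group]
        exact mul_mem ha.2 (conj_mem_of ha.1 hb.2)⟩
      inv_mem' := fun {a} ha => ⟨inv_mem ha.1, by
        rw [show z * a⁻¹ * z⁻¹ * a⁻¹⁻¹ = a⁻¹ * (z * a * z⁻¹ * a⁻¹)⁻¹ * a⁻¹⁻¹ by group]
        exact conj_mem_of (inv_mem ha.1) (inv_mem ha.2)⟩ }
  have hD : W ⊔ centralizer ({z} : Set G) ≤ D := by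
    refine sup_le (fun w hw => ⟨le_normalizer hw, ?_⟩) fun c hc' => ⟨hM.norm hc', ?_⟩
    · exact mul_mem (conj_mem_of (hM.mem_norm (Commute.refl z)) hw) (inv_mem hw)
    · rw [(mem_centralizer_singleton_iff.1 hc').symm, mul_inv_cancel_right, mul_inv_cancel]
      exact one_mem _
  have hyD := hD (hsup y.2)
  have hcent : ∀ s ∈ (S : Subgroup G), z' * s = s * z' := by
    intro s hs
    have hs' : (y : G)⁻¹ * s * y ∈ D :=
      mul_mem (mul_mem (inv_mem hyD) (hD (hsup (hSC hs)))) hyD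
    have h1 : z' * s * z'⁻¹ * s⁻¹ ∈ W := by
      rw [hz', show (y : G) * z * (y : G)⁻¹ * s * ((y : G) * z * (y : G)⁻¹)⁻¹ * s⁻¹ =
        y * (z * ((y : G)⁻¹ * s * y) * z⁻¹ * ((y : G)⁻¹ * s * y)⁻¹) * (y : G)⁻¹ by group]
      exact conj_mem_of hyD.1 hs'.2
    have h2 : z' * s * z'⁻¹ * s⁻¹ ∈ (S : Subgroup G) :=
      mul_mem (mul_mem (mul_mem hzS hs) (inv_mem hzS)) (inv_mem hs)
    obtain ⟨k, hk⟩ := S.isPGroup' ⟨_, h2⟩
    have h3 : z' * s * z'⁻¹ * s⁻¹ = 1 := orderOf_eq_one_iff.1 (Nat.eq_one_of_dvd_coprimes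
      (Nat.Coprime.pow_left k (Nat.coprime_two_left.2 (odd_of_mem hM.odd h1)))
      (orderOf_dvd_of_pow_eq_one (congrArg Subtype.val hk)) dvd_rfl)
    exact mul_inv_eq_iff_eq_mul.1 (mul_inv_eq_one.1 h3)
  obtain ⟨n, hn, ⟨eS⟩⟩ := T.hyp.dih S
  obtain ⟨k, hk, ψ, hψ, hr⟩ := DihedralSylow77.exists_embedding S n hn eS
  haveI : NeZero (2 * k) := ⟨by omega⟩
  have hk2 : 2 ≤ k := by
    by_contra hlt
    refine h4 ?_
    rw [Nat.card_congr (MulEquiv.subgroupCongr hr.symm).toEquiv,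
      ← Nat.card_congr (MonoidHom.ofInjective hψ).toEquiv, DihedralGroup.nat_card]
    omega
  have uniq : ∀ x ∈ (S : Subgroup G), orderOf x = 2 → (∀ s ∈ (S : Subgroup G), x * s = s * x) →
      x = ψ (DihedralGroup.r (k : ZMod (2 * k))) := by
    intro x hx hx2 hxc
    rcases DihedralSylow77.map_sq_one_cases ψ hk hψ (hr.symm ▸ hx) (mul_self hx2) with h | h | ⟨i, rfl⟩
    · exact absurd h (ne_one hx2)
    · exact h
    · exfalso
      have h' := hxc (ψ (DihedralGroup.r 1)) (hr ▸ ⟨_, rfl⟩)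
      rw [← map_mul, ← map_mul, DihedralGroup.sr_mul_r, DihedralGroup.r_mul_sr] at h'
      have h1 : i + 1 = i - 1 := by simpa using hψ h'
      have h2 : ((2 : ℕ) : ZMod (2 * k)) = 0 := by push_cast; linear_combination h1
      have := Nat.le_of_dvd two_pos ((ZMod.natCast_eq_zero_iff _ _).1 h2)
      omega
  have e1 := uniq z' hzS (by rw [hz', order_conj, hM.two]) hcent
  have e2 := uniq v hvS hM₂.two fun s hs => (hvc s hs).symm
  refine hne ?_
  have hyv : (y : G) * v = v * y := mem_centralizer_singleton_iff.1 y.2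
  have h5 : (y : G) * z * (y : G)⁻¹ = (y : G) * v * (y : G)⁻¹ := by
    rw [← hz', e1, ← e2, hyv, mul_inv_cancel_right]
  exact (mul_left_cancel (mul_right_cancel h5)).symm

/-- No central element of the Fitting subgroup is centralised by a second involution. -/
theorem zen_inf_eq_one (T : Tools G) (hM : Max z W) {v : G} (hv : orderOf v = 2) (hne : v ≠ z)
    (hc : Commute z v) {y : G} (hy : y ∈ zen W) (hyv : y ∈ Om v) : y = 1 := by
  by_contra hy1
  obtain ⟨W₂, hM₂, hall⟩ := exists_max_over T hv (Y := zpowers y) (by simpa using hy1)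
    (zpowers_le.2 hyv)
  have hFW₂ : Cfsg.fittingOf W ≤ W₂ := fun f hf => by
    refine hall f (centralizer_le_normalizer _ (mem_centralizer_iff.2 ?_))
      (odd_of_mem hM.odd (fittingOf_le W hf))
    rintro _ ⟨i, rfl⟩
    exact ((commute_fit_zen hy hf).zpow_right i).eq.symm
  have hFn : W ≤ normalizer (Cfsg.fittingOf W : Set G) := le_normalizer.trans (normalizer_le_fittingOf W)
  -- (1) every prime of the second Fitting subgroup divides the first
  have h21 : ∀ t : ℕ, t.Prime → t ∣ Nat.card (Cfsg.fittingOf W₂) → t ∣ Nat.card (Cfsg.fittingOf W) := by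
    intro t ht htd
    by_contra htF
    haveI := Fact.mk ht
    have hR : Oc t W₂ ≠ ⊥ := oc_ne_bot htd
    have hRo : ∀ u ∈ Oc t W₂, Odd (orderOf u) := fun u hu => odd_of_mem hM₂.odd (Oc_le t W₂ hu)
    have hRW : ∀ u ∈ Oc t W₂, u ∈ W → u = 1 := by
      intro u hu huW
      have huz : u ∈ Cfsg.fittingOf W := by
        refine (hM.centralizer_le_zen ⟨huW, mem_centralizer_iff.2 fun e he => ?_⟩).1
        have h1 : ⁅e, u⁆ = 1 := by
          obtain ⟨k, hk⟩ := IsPGroup.iff_card.1 (isPGroup_Oc t W₂)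
          refine orderOf_eq_one_iff.1 (Nat.eq_one_of_dvd_coprimes (Nat.Coprime.pow_left k
            ((Nat.Prime.coprime_iff_not_dvd ht).2 htF)) (hk ▸ orderOf_dvd_natCard (Oc t W₂) ?_)
            (orderOf_dvd_natCard (Cfsg.fittingOf W) ?_))
          · rw [commutatorElement_def]
            exact mul_mem (conj_mem_of (le_normalizer_Oc t W₂ (hFW₂ he)) hu) (inv_mem hu)
          · rw [commutatorElement_def, mul_assoc, mul_assoc, ← mul_assoc u]
            exact mul_mem he (conj_mem_of (hFn huW) (inv_mem he))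
        exact commutatorElement_eq_one_iff_mul_comm.1 h1
      obtain ⟨k, hk⟩ := IsPGroup.iff_card.1 (isPGroup_Oc t W₂)
      exact orderOf_eq_one_iff.1 (Nat.eq_one_of_dvd_coprimes (Nat.Coprime.pow_left k
        ((Nat.Prime.coprime_iff_not_dvd ht).2 htF)) (hk ▸ orderOf_dvd_natCard (Oc t W₂) hu)
        (orderOf_dvd_natCard (Cfsg.fittingOf W) huz))
    have hRY : ∀ Y : Subgroup G, Y ≠ ⊥ → Y ≤ W → W ≤ normalizer (Y : Set G) →
        centralizer ({z} : Set G) ≤ normalizer (Y : Set G) → ∀ u ∈ Oc t W₂,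
          u ∈ centralizer (Y : Set G) → u = 1 := fun Y h1 h2 h3 h4 u hu huC =>
      hRW u hu (hM.mem_of_commute T h1 h2 h3 h4 huC (hRo u hu))
    obtain ⟨U, hU⟩ : ∃ U, U = Oc t W₂ ⊓ centralizer (Oc t W₂ : Set G) := ⟨_, rfl⟩
    have hUR : U ≤ Oc t W₂ := hU ▸ inf_le_left
    have hU1 : U ≠ ⊥ := by
      haveI : Nontrivial (Oc t W₂) := (nontrivial_iff_ne_bot _).2 hR
      haveI := (isPGroup_Oc t W₂).center_nontrivial
      obtain ⟨⟨c, hc'⟩, hc1⟩ := exists_ne (1 : center (Oc t W₂))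
      intro e
      have : (c : G) ∈ U := hU ▸ ⟨c.2, mem_centralizer_iff.2 fun x hx =>
        congrArg Subtype.val (mem_center_iff.1 hc' ⟨x, hx⟩)⟩
      rw [e, mem_bot] at this
      exact hc1 (Subtype.ext (Subtype.ext this))
    have hUn : normalizer (W₂ : Set G) ≤ normalizer (U : Set G) := hU ▸
      CoprimeAction.le_normalizer_inf (normalizer_le_Oc t W₂)
        (le_normalizer_centralizer (normalizer_le_Oc t W₂))
    have hUab : ∀ a ∈ U, ∀ b ∈ U, Commute a b := fun a ha b hb =>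
      mem_centralizer_iff.1 (hU ▸ hb : b ∈ Oc t W₂ ⊓ centralizer (Oc t W₂ : Set G)).2 a (hUR ha)
    have hUodd : Odd (Nat.card U) := odd_of_le hM₂.odd (hUR.trans (Oc_le t W₂))
    have hzU : z ∈ normalizer (U : Set G) := hUn (hM₂.mem_norm hc.symm)
    have hvU : v ∈ normalizer (U : Set G) := hUn (hM₂.mem_norm (Commute.refl v))
    let Inv : Subgroup G :=
      { carrier := {x | x ∈ U ∧ z * x * z⁻¹ = x⁻¹}
        one_mem' := ⟨one_mem _, by simp⟩
        mul_mem' := fun {a b} ha hb => ⟨mul_mem ha.1 hb.1, by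
          rw [← conj_mul, ha.2, hb.2, ← mul_inv_rev, (hUab a ha.1 b hb.1).eq]⟩
        inv_mem' := fun {a} ha => ⟨inv_mem ha.1, by rw [← conj_inv, ha.2]⟩ }
    have hUinv : ∀ u ∈ U, z * u * z⁻¹ = u⁻¹ := by
      refine fun u hu => (show U ≤ Inv from T.hyp.four_le' hM.two hv hne hc hUodd hzU hvU ?_) hu |>.2
      intro w hw hzw hcases x hx
      refine ⟨hx.1, ?_⟩
      by_cases hwz : w = z
      · rw [hRW x (hUR hx.1) (hM.om (hwz ▸ hx.2))]; simp
      · exact T.hyp.inv_om hw hM.two (Ne.symm hwz) hzw.symm hx.2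
    have hFU : ∀ f ∈ Cfsg.fittingOf W, f ∈ normalizer (U : Set G) := fun f hf =>
      hUn (le_normalizer (hFW₂ hf))
    have hC0 : ∀ f ∈ Cfsg.fittingOf W, z * f * z⁻¹ = f⁻¹ → f ∈ centralizer (U : Set G) :=
      fun f hf hfz => mem_centralizer_iff.2 fun u hu =>
        (T.hyp.commute_inverted hUinv (hFU f hf) (odd_of_mem hM.odd (fittingOf_le W hf)) hfz hu).symm.eq
    have hzF : z ∈ normalizer (Cfsg.fittingOf W : Set G) := hM.cen_fit (self_mem_centralizer z)
    have hkill : ∀ Y : Subgroup G, Y ≤ Cfsg.fittingOf W → W ≤ normalizer (Y : Set G) →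
        centralizer ({z} : Set G) ≤ normalizer (Y : Set G) → Y ≤ centralizer (U : Set G) → Y = ⊥ := by
      intro Y hY hn hC hYU
      by_contra h
      refine hU1 ((eq_bot_iff_forall _).2 fun u hu => hRY Y h (hY.trans (fittingOf_le W)) hn hC u
        (hUR hu) (mem_centralizer_iff.2 fun g hg => (mem_centralizer_iff.1 (hYU hg) u hu).symm))
    -- the Fitting subgroup is abelian
    obtain ⟨C₀, hC₀⟩ : ∃ C, C = Cfsg.fittingOf W ⊓ centralizer (U : Set G) := ⟨_, rfl⟩
    have hC₀n : Cfsg.fittingOf W ≤ normalizer (C₀ : Set G) := hC₀ ▸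
      CoprimeAction.le_normalizer_inf le_normalizer (le_normalizer_centralizer hFU)
    have hzv : orderOf (z * v) = 2 := (T.hyp.pair hM.two hv hne hc).1
    obtain ⟨Fz, hFz⟩ : ∃ Fz, Fz = Cfsg.fittingOf W ⊓ Om z := ⟨_, rfl⟩
    have hgen : Cfsg.fittingOf W ≤ Fz ⊔ C₀ := by
      refine T.hyp.four_le' hM.two hv hne hc (odd_of_le hM.odd (fittingOf_le W)) hzF
        (hM.cen_fit (mem_cen_of_commute hc)) ?_
      intro w hw hzw _ x hx
      by_cases hwz : w = z
      · exact mem_sup_left (hFz ▸ ⟨hx.1, hwz ▸ hx.2⟩)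
      · exact mem_sup_right (hC₀ ▸ ⟨hx.1, hC0 x hx.1
          (T.hyp.inv_om hw hM.two (Ne.symm hwz) hzw.symm hx.2)⟩)
    have hFzab : ∀ a ∈ Fz, ∀ b ∈ Fz, Commute a b := fun a ha b hb =>
      T.hyp.om_abelian hM.two (hFz ▸ ha : a ∈ Cfsg.fittingOf W ⊓ Om z).2
        (hFz ▸ hb : b ∈ Cfsg.fittingOf W ⊓ Om z).2
    have hder : ⁅Cfsg.fittingOf W, Cfsg.fittingOf W⁆ ≤ C₀ := by
      haveI hn0 : (C₀.subgroupOf (Cfsg.fittingOf W)).Normal := normal_subgroupOf_of_le_normalizer hC₀n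
      rw [commutator_le]
      intro a ha b hb
      set π := QuotientGroup.mk' (C₀.subgroupOf (Cfsg.fittingOf W)) with hπ
      have hFzle : Fz ≤ Cfsg.fittingOf W := hFz ▸ inf_le_left
      have hC₀le : C₀ ≤ Cfsg.fittingOf W := hC₀ ▸ inf_le_left
      have himg : ∀ x : Cfsg.fittingOf W, ∃ f : Cfsg.fittingOf W, (f : G) ∈ Fz ∧ π x = π f := by
        intro x
        let K : Subgroup (Cfsg.fittingOf W) := (Fz.subgroupOf (Cfsg.fittingOf W)).map π |>.comap π
        have hK : (Fz ⊔ C₀).subgroupOf (Cfsg.fittingOf W) ≤ K := by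
          rw [subgroupOf_sup hFzle hC₀le]
          refine sup_le (le_comap_map _ _) fun c hc => ?_
          change π c ∈ (Fz.subgroupOf (Cfsg.fittingOf W)).map π
          rw [show π c = 1 from (QuotientGroup.eq_one_iff c).2 hc]
          exact one_mem _
        obtain ⟨f, hf, e⟩ := hK (mem_subgroupOf.2 (hgen x.2))
        exact ⟨f, hf, e.symm⟩
      obtain ⟨f, hf, ef⟩ := himg ⟨a, ha⟩
      obtain ⟨g, hg, eg⟩ := himg ⟨b, hb⟩
      have e0 : π ⁅(⟨a, ha⟩ : Cfsg.fittingOf W), ⟨b, hb⟩⁆ = 1 := by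
        rw [map_commutatorElement, ef, eg, ← map_commutatorElement]
        convert map_one π
        exact commutatorElement_eq_one_iff_mul_comm.2 (Subtype.ext (hFzab f hf g hg).eq)
      exact mem_subgroupOf.1 ((QuotientGroup.eq_one_iff _).1 e0)
    have hab : ∀ a ∈ Cfsg.fittingOf W, ∀ b ∈ Cfsg.fittingOf W, Commute a b := by
      have e := hkill ⁅Cfsg.fittingOf W, Cfsg.fittingOf W⁆
        (CoprimeAction.commutator_le_self_of_le_normalizer le_normalizer)
        (le_normalizer_commutator hFn hFn) (le_normalizer_commutator hM.cen_fit hM.cen_fit)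
        (hder.trans (hC₀ ▸ inf_le_right))
      intro a ha b hb
      have : ⁅a, b⁆ = 1 := mem_bot.1 (e ▸ commutator_mem_commutator ha hb)
      exact commutatorElement_eq_one_iff_mul_comm.1 this
    -- `Om z` centralises it
    have hY : ⁅Cfsg.fittingOf W, Om z⁆ = ⊥ := by
      have hsub : ⁅Cfsg.fittingOf W, Om z⁆ ≤ C₀ := by
        rw [commutator_le]
        intro f hf a ha
        have hmem : ∀ g ∈ Cfsg.fittingOf W, ⁅g, a⁆ ∈ Cfsg.fittingOf W := fun g hg => by
          rw [commutatorElement_def, mul_assoc, mul_assoc, ← mul_assoc a]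
          exact mul_mem hg (conj_mem_of (hFn (hM.om ha)) (inv_mem hg))
        refine hC₀ ▸ ⟨hmem f hf, hC0 _ (hmem f hf) ?_⟩
        have hf' : z * f * z⁻¹ ∈ Cfsg.fittingOf W := conj_mem_of hzF hf
        have e1 : z * ⁅f, a⁆ * z⁻¹ = ⁅z * f * z⁻¹, a⁆ := by
          rw [← MulAut.conj_apply, map_commutatorElement, MulAut.conj_apply, MulAut.conj_apply,
            (om_comm ha).eq, mul_inv_cancel_right]
        have hfix : Commute z (f * (z * f * z⁻¹)) := by
          rw [commute_iff_eq]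
          have hzz : z * z = 1 := mul_self hM.two
          calc z * (f * (z * f * z⁻¹)) = z * f * z⁻¹ * (z * z) * f * z⁻¹ := by group
            _ = z * f * z⁻¹ * f * z⁻¹ := by rw [hzz, mul_one]
            _ = f * (z * f * z⁻¹) * z⁻¹ := by rw [(hab _ hf' _ hf).eq]
            _ = f * (z * f * z⁻¹) * z := by rw [inv_self hM.two]
        have hfm : f * (z * f * z⁻¹) ∈ Cfsg.fittingOf W := mul_mem hf hf'
        have hca : Commute (f * (z * f * z⁻¹)) a :=
          T.hyp.om_abelian hM.two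
            (T.hyp.mem_om hM.two hfix (odd_of_mem hM.odd (fittingOf_le W hfm))) ha
        have e2 : ⁅f, a⁆ * ⁅z * f * z⁻¹, a⁆ = 1 := by
          have h0 : ⁅f * (z * f * z⁻¹), a⁆ = 1 := commutatorElement_eq_one_iff_mul_comm.2 hca
          have h1 : ⁅f * (z * f * z⁻¹), a⁆ = f * ⁅z * f * z⁻¹, a⁆ * f⁻¹ * ⁅f, a⁆ := by
            simp only [commutatorElement_def]; group
          rw [h1, (hab _ hf _ (hmem _ hf')).eq, mul_inv_cancel_right] at h0
          rw [(hab _ (hmem _ hf) _ (hmem _ hf')).eq, h0]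
        rw [e1]
        exact eq_inv_of_mul_eq_one_right e2
      have hYF : ⁅Cfsg.fittingOf W, Om z⁆ ≤ Cfsg.fittingOf W := hsub.trans (hC₀ ▸ inf_le_left)
      refine hkill _ hYF ?_
        (le_normalizer_commutator hM.cen_fit (om_normalized z)) (hsub.trans (hC₀ ▸ inf_le_right))
      intro g hg
      refine CoprimeAction.mem_normalizer_of_conj_smul_eq ?_
      apply Subgroup.eq_of_le_of_card_ge
      · change (⁅Cfsg.fittingOf W, Om z⁆).map (MulAut.conj g).toMonoidHom ≤ _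
        rw [map_le_iff_le_comap, commutator_le]
        intro f hf a ha
        change g * ⁅f, a⁆ * g⁻¹ ∈ ⁅Cfsg.fittingOf W, Om z⁆
        obtain ⟨f', hf', e⟩ : ∃ f' ∈ Cfsg.fittingOf W, g * a * g⁻¹ = f' * a :=
          ⟨⁅g, a⁆, hM.derived_le T (commutator_mem_commutator hg (hM.om ha)),
            by rw [commutatorElement_def]; group⟩
        have hgf : g * f * g⁻¹ ∈ Cfsg.fittingOf W := conj_mem_of (hFn hg) hf
        rw [← MulAut.conj_apply, map_commutatorElement, MulAut.conj_apply, MulAut.conj_apply, e]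
        have hm : ⁅g * f * g⁻¹, a⁆ ∈ Cfsg.fittingOf W := hYF (commutator_mem_commutator hgf ha)
        have : ⁅g * f * g⁻¹, f' * a⁆ = ⁅g * f * g⁻¹, a⁆ := by
          have h1 : ⁅g * f * g⁻¹, f' * a⁆ =
              ⁅g * f * g⁻¹, f'⁆ * (f' * ⁅g * f * g⁻¹, a⁆ * f'⁻¹) := by
            simp only [commutatorElement_def]; group
          rw [h1, commutatorElement_eq_one_iff_mul_comm.2 (hab _ hgf _ hf').eq, one_mul,
            (hab _ hf' _ hm).eq, mul_inv_cancel_right]
        rw [this]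
        exact commutator_mem_commutator hgf ha
      · rw [Nat.card_congr (Subgroup.equivSMul (MulAut.conj g) ⁅Cfsg.fittingOf W, Om z⁆).toEquiv]
    -- now the odd core lies in the Fitting subgroup
    have hOF : Om z ≤ Cfsg.fittingOf W := fun a ha =>
      (hM.centralizer_le_zen ⟨hM.om ha, mem_centralizer_iff.2 fun f hf =>
        commutatorElement_eq_one_iff_mul_comm.1 (mem_bot.1 (hY ▸ commutator_mem_commutator hf ha))⟩).1
    have hle : Oc t W₂ ≤ (⊥ : Subgroup G) := by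
      have hRn : ∀ s, Commute v s → s ∈ normalizer (Oc t W₂ : Set G) := fun s hs =>
        hM₂.cen_oc t (mem_cen_of_commute hs)
      refine T.hyp.four_le' hM.two hv hne hc (odd_of_le hM₂.odd (Oc_le t W₂)) (hRn z hc.symm)
        (hRn v (Commute.refl v)) ?_
      intro w hw _ _ x hx
      obtain ⟨g, hg⟩ := isConj_iff.1 (T.hyp.one w z hw hM.two)
      have hxz : g * x * g⁻¹ ∈ Cfsg.fittingOf W := hOF (hg ▸ T.hyp.om_conj hw g hx.2)
      obtain ⟨k, hk⟩ := IsPGroup.iff_card.1 (isPGroup_Oc t W₂)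
      have h1 : orderOf (g * x * g⁻¹) = 1 := Nat.eq_one_of_dvd_coprimes (Nat.Coprime.pow_left k
        ((Nat.Prime.coprime_iff_not_dvd ht).2 htF))
        (by rw [order_conj, ← hk]; exact orderOf_dvd_natCard (Oc t W₂) hx.1)
        (orderOf_dvd_natCard (Cfsg.fittingOf W) hxz)
      rw [order_conj, orderOf_eq_one_iff] at h1
      exact mem_bot.2 h1
    exact hR (le_bot_iff.1 hle)
  -- (2) every prime of the first divides the second
  have h12 : ∀ p : ℕ, p.Prime → p ∣ Nat.card (Cfsg.fittingOf W) → p ∣ Nat.card (Cfsg.fittingOf W₂) := by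
    intro p hp hpd
    by_contra hp2
    haveI := Fact.mk hp
    have hE : Oc p W ≤ W₂ := (Oc_le_fittingOf hp W).trans hFW₂
    have hcen : Oc p W ≤ centralizer (Cfsg.fittingOf W₂ : Set G) := by
      refine le_centralizer_fittingOf fun s hs hsd e he x hx => ?_
      haveI := Fact.mk hs
      exact (mem_centralizer_iff.1 (hM.oc_centralizes T hM₂.odd (show p ≠ s from fun he' => hp2 (he' ▸ hsd)) hE
        ((Oc_le_fittingOf hs W).trans hFW₂) (oc_ne_bot (h21 s hs hsd)) he) x hx)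
    haveI := hM₂.solvable
    have h1 : Oc p W ≤ Cfsg.fittingOf W₂ := fun x hx => centralizer_fittingOf_le ⟨hE hx, hcen hx⟩
    obtain ⟨k, hk⟩ := IsPGroup.iff_card.1 (isPGroup_Oc p W)
    have hk0 : k ≠ 0 := fun e => oc_ne_bot hpd (by rw [e, pow_zero] at hk; exact card_eq_one.1 hk)
    exact hp2 ((dvd_pow_self p hk0).trans (hk ▸ card_dvd_of_le h1))
  have hle := hM.fit_le_fit T hM₂ hFW₂ h21
  refine hM.fit_ne T hM₂ hne hc (le_antisymm hle ?_)
  obtain ⟨p, hp, hpd⟩ := Nat.exists_prime_and_dvd (fun e => hM.fit_ne_bot T (card_eq_one.1 e) :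
    Nat.card (Cfsg.fittingOf W) ≠ 1)
  haveI := Fact.mk hp
  by_cases hall2 : ∀ q : ℕ, q.Prime → q ∣ Nat.card (Cfsg.fittingOf W) → q = p
  · -- a single prime
    have hF : IsPGroup p (Cfsg.fittingOf W) := IsPGroup.of_card (n := (Nat.card (Cfsg.fittingOf W)).primeFactorsList.length)
      (Nat.eq_prime_pow_of_unique_prime_dvd Nat.card_pos.ne' fun {q} hq hd => hall2 q hq hd)
    have hF2 : IsPGroup p (Cfsg.fittingOf W₂) := IsPGroup.of_card (n := (Nat.card (Cfsg.fittingOf W₂)).primeFactorsList.length)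
      (Nat.eq_prime_pow_of_unique_prime_dvd Nat.card_pos.ne' fun {q} hq hd => hall2 q hq (h21 q hq hd))
    by_contra hnle
    obtain ⟨Q, hQ⟩ : ∃ Q, Q = normalizer (Cfsg.fittingOf W : Set G) ⊓ Cfsg.fittingOf W₂ := ⟨_, rfl⟩
    have hQW : Q ≤ W := fun g hg => by
      rw [hQ] at hg
      exact hM.core_le T (hM.fit_ne_bot T) (fittingOf_le W) hFn hM.cen_fit hg.1
        (odd_of_mem hM₂.odd (fittingOf_le W₂ hg.2))
    have hQF : Q ≤ Cfsg.fittingOf W :=
      hM.pgroup_le_fit T hF hQW (hF2.to_le (hQ ▸ inf_le_right))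
    haveI := hF2.isNilpotent
    have hlt : (Cfsg.fittingOf W).subgroupOf (Cfsg.fittingOf W₂) < ⊤ :=
      lt_top_iff_ne_top.2 fun e => hnle (subgroupOf_eq_top.1 e)
    obtain ⟨x, hxN, hxF⟩ := SetLike.exists_of_lt (normalizerCondition_of_isNilpotent
      (G := Cfsg.fittingOf W₂) _ hlt)
    refine hxF (mem_subgroupOf.2 (hQF (hQ ▸ ⟨mem_norm_of_conj fun f hf => ?_, x.2⟩)))
    exact mem_subgroupOf.1 ((mem_normalizer_iff.1 hxN ⟨f, hle hf⟩).1 (mem_subgroupOf.2 hf))
  · refine hM₂.fit_le_fit T hM (fun x hx => ?_) h12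
    push Not at hall2
    obtain ⟨q₀, hq₀, hq₀d, hne₀⟩ := hall2
    refine (show Cfsg.fittingOf W₂ ≤ W from BGRankTwo.le_of_sylow_le fun s hs y hy' ⟨j, hj⟩ => ?_) hx
    haveI := Fact.mk hs
    obtain ⟨q, hq, hqd, hqs⟩ : ∃ q : ℕ, q.Prime ∧ q ∣ Nat.card (Cfsg.fittingOf W) ∧ q ≠ s := by
      by_cases e : q₀ = s
      · exact ⟨p, hp, hpd, fun e' => hne₀ (e.trans e'.symm)⟩
      · exact ⟨q₀, hq₀, hq₀d, e⟩
    haveI := Fact.mk hq
    refine hM.mem_of_commute T (oc_ne_bot hqd) (Oc_le q W) (le_normalizer_Oc q W) (hM.cen_oc q) ?_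
      (odd_of_mem hM₂.odd (fittingOf_le W₂ hy'))
    refine mem_centralizer_iff.2 fun g hg => ?_
    exact commute_Oc hqs (qgroup_le_Oc ((Oc_le_fittingOf hq W).trans hle) (isPGroup_Oc q W) hg)
      (mem_Oc_of_mem_fittingOf hy' hj)

end Max

end Cfsg.Agent.GWDih33
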