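import Cfsg.Agent.Lib.DihedralSylow77

/-!
Groups with dihedral Sylow 2-subgroups have no section isomorphic to `SL(2, p)`.
-/

set_option autoImplicit false
set_option linter.style.haveILetI false

namespace Cfsg.Agent.GWDihSection33

open Subgroup DihedralGroup

theorem exists_quaternion_pair (p : ℕ) [Fact p.Prime] (hp : p ≠ 2) :
    ∃ x y : Matrix.SpecialLinearGroup (Fin 2) (ZMod p),
      y * x * y⁻¹ = x⁻¹ ∧ x ^ 4 = 1 ∧ y ^ 4 = 1 ∧ x ^ 2 ≠ 1 ∧ y ^ 2 ≠ 1 ∧ x * y ≠ y * x := by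
  obtain ⟨a, b, hab⟩ := ZMod.sq_add_sq p (-1)
  have h2 : (2 : ZMod p) ≠ 0 := by
    intro h
    have : ((2 : ℕ) : ZMod p) = 0 := by exact_mod_cast h
    rw [ZMod.natCast_eq_zero_iff] at this
    exact hp ((Nat.prime_dvd_prime_iff_eq Fact.out Nat.prime_two).1 this)
  have hne1 : (-1 : ZMod p) ≠ 1 := by
    intro h
    exact h2 (by linear_combination -h)
  obtain ⟨x, hx⟩ : ∃ x : Matrix.SpecialLinearGroup (Fin 2) (ZMod p),
      (x : Matrix (Fin 2) (Fin 2) (ZMod p)) = !![0, 1; -1, 0] :=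
    ⟨⟨!![0, 1; -1, 0], by simp [Matrix.det_fin_two]⟩, rfl⟩
  obtain ⟨y, hy⟩ : ∃ y : Matrix.SpecialLinearGroup (Fin 2) (ZMod p),
      (y : Matrix (Fin 2) (Fin 2) (ZMod p)) = !![a, b; b, -a] :=
    ⟨⟨!![a, b; b, -a], by rw [Matrix.det_fin_two_of]; linear_combination -hab⟩, rfl⟩
  obtain ⟨m, hm⟩ : ∃ m : Matrix.SpecialLinearGroup (Fin 2) (ZMod p),
      (m : Matrix (Fin 2) (Fin 2) (ZMod p)) = !![-1, 0; 0, -1] :=
    ⟨⟨!![-1, 0; 0, -1], by simp [Matrix.det_fin_two]⟩, rfl⟩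
  have hxx : x * x = m := by
    apply Subtype.ext
    rw [Matrix.SpecialLinearGroup.coe_mul, hx, hm, Matrix.mul_fin_two]
    simp
  have hyy : y * y = m := by
    apply Subtype.ext
    rw [Matrix.SpecialLinearGroup.coe_mul, hy, hm, Matrix.mul_fin_two]
    ext i j
    fin_cases i <;> fin_cases j <;> simp <;> first | (ring_nf; done) | linear_combination hab | (ring_nf; linear_combination hab)
  have hmm : m * m = 1 := by
    apply Subtype.ext
    rw [Matrix.SpecialLinearGroup.coe_mul, hm, Matrix.mul_fin_two, Matrix.SpecialLinearGroup.coe_one,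
      Matrix.one_fin_two]
    simp
  have hm1 : m ≠ 1 := by
    intro e
    have := congrArg (fun g : Matrix.SpecialLinearGroup (Fin 2) (ZMod p) =>
      (g : Matrix (Fin 2) (Fin 2) (ZMod p)) 0 0) e
    simp [hm] at this
    exact hne1 this
  have hyx : y * x * y⁻¹ = x⁻¹ := by
    rw [mul_inv_eq_iff_eq_mul]
    apply Subtype.ext
    rw [Matrix.SpecialLinearGroup.coe_mul, Matrix.SpecialLinearGroup.coe_mul,
      Matrix.SpecialLinearGroup.coe_inv, hx, hy, Matrix.adjugate_fin_two_of, Matrix.mul_fin_two,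
      Matrix.mul_fin_two]
    simp
  refine ⟨x, y, hyx, ?_, ?_, ?_, ?_, ?_⟩
  · rw [show (4 : ℕ) = 2 * 2 from rfl, pow_mul, pow_two x, hxx, pow_two, hmm]
  · rw [show (4 : ℕ) = 2 * 2 from rfl, pow_mul, pow_two y, hyy, pow_two, hmm]
  · rw [pow_two, hxx]; exact hm1
  · rw [pow_two, hyy]; exact hm1
  · intro e
    rw [← e, mul_inv_cancel_right] at hyx
    apply hm1
    rw [← hxx]
    nth_rw 2 [hyx]
    exact mul_inv_cancel x

/-- No section of a group with dihedral Sylow 2-subgroups is `SL(2, p)`. -/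
theorem not_sl_section {G : Type*} [Group G] [Finite G]
    (hdih : ∀ S : Sylow 2 G, ∃ n, 2 ≤ n ∧ Nonempty (↥(S : Subgroup G) ≃* DihedralGroup n))
    (p : ℕ) [Fact p.Prime] (hp : p ≠ 2) :
    ¬ ∃ (H K : Subgroup G) (hK : (K.subgroupOf H).Normal),
      Nonempty ((H ⧸ K.subgroupOf H) ≃* Matrix.SpecialLinearGroup (Fin 2) (ZMod p)) := by
  rintro ⟨H, K, hK, ⟨e⟩⟩
  haveI := hK
  haveI : Fact (Nat.Prime 2) := ⟨Nat.prime_two⟩
  obtain ⟨x₀, y₀, hyx, hx4, hy4, hx2, hy2, hne⟩ := exists_quaternion_pair p hp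
  obtain ⟨x, hxd⟩ : ∃ x, x = e.symm x₀ := ⟨_, rfl⟩
  obtain ⟨y, hyd⟩ : ∃ y, y = e.symm y₀ := ⟨_, rfl⟩
  -- a 2-subgroup of the quotient containing both
  have hpx : IsPGroup 2 (zpowers x) := by
    intro g
    obtain ⟨i, hi⟩ := mem_zpowers_iff.1 g.2
    refine ⟨2, Subtype.ext ?_⟩
    rw [SubmonoidClass.coe_pow, ← hi, ← zpow_natCast, ← zpow_mul, mul_comm, zpow_mul, zpow_natCast]
    rw [hxd, ← map_pow, show 2 ^ 2 = 4 from rfl, hx4, map_one, one_zpow]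
    rfl
  have hpy : IsPGroup 2 (zpowers y) := by
    intro g
    obtain ⟨i, hi⟩ := mem_zpowers_iff.1 g.2
    refine ⟨2, Subtype.ext ?_⟩
    rw [SubmonoidClass.coe_pow, ← hi, ← zpow_natCast, ← zpow_mul, mul_comm, zpow_mul, zpow_natCast]
    rw [hyd, ← map_pow, show 2 ^ 2 = 4 from rfl, hy4, map_one, one_zpow]
    rfl
  have hyn : zpowers y ≤ normalizer (zpowers x : Set (H ⧸ K.subgroupOf H)) := by
    have h1 : y * x * y⁻¹ = x⁻¹ := by rw [hxd, hyd, ← map_inv, ← map_mul, ← map_mul, hyx, map_inv]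
    rw [zpowers_le, mem_normalizer_iff]
    intro w
    constructor
    · rintro ⟨i, rfl⟩
      refine ⟨-i, ?_⟩
      show x ^ (-i) = _
      rw [← conj_zpow, h1, inv_zpow']
    · rintro ⟨i, hi⟩
      refine ⟨-i, ?_⟩
      have h2 : w = y⁻¹ * x ^ i * y := by rw [show x ^ i = y * w * y⁻¹ from hi]; group
      show x ^ (-i) = w
      rw [h2, show x ^ i = (x⁻¹) ^ (-i) by rw [inv_zpow', neg_neg], ← h1, conj_zpow]
      group
  have hQ : IsPGroup 2 (zpowers y ⊔ zpowers x : Subgroup (H ⧸ K.subgroupOf H)) :=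
    hpy.to_sup_of_normal_right' hpx hyn
  -- lift to a Sylow subgroup of `H`
  obtain ⟨P⟩ : Nonempty (Sylow 2 H) := inferInstance
  let P' := P.mapSurjective (QuotientGroup.mk'_surjective (K.subgroupOf H))
  obtain ⟨R, hR⟩ := hQ.exists_le_sylow
  obtain ⟨c, hc⟩ := MulAction.exists_smul_eq (H ⧸ K.subgroupOf H) P' R
  obtain ⟨c', rfl⟩ := QuotientGroup.mk_surjective c
  have lift : ∀ w ∈ (zpowers y ⊔ zpowers x : Subgroup (H ⧸ K.subgroupOf H)),
      ∃ w' : H, w' ∈ ((c' • P : Sylow 2 H) : Subgroup H) ∧ QuotientGroup.mk w' = w := by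
    intro w hw
    have hw' := hR hw
    rw [← hc] at hw'
    obtain ⟨v, hv, hv'⟩ := hw'
    obtain ⟨v', hv'', rfl⟩ := hv
    exact ⟨c' * v' * c'⁻¹, ⟨v', hv'', rfl⟩, hv'⟩
  obtain ⟨x', hx'P, hx'⟩ := lift x (mem_sup_right (mem_zpowers x))
  obtain ⟨y', hy'P, hy'⟩ := lift y (mem_sup_left (mem_zpowers y))
  obtain ⟨S, hS⟩ := ((c' • P : Sylow 2 H).isPGroup'.map H.subtype).exists_le_sylow
  obtain ⟨n, hn, ⟨eS⟩⟩ := hdih S
  obtain ⟨k, hk, ψ, hψ, hr⟩ := DihedralSylow77.exists_embedding S n hn eS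
  have rot : ∀ (w : H ⧸ K.subgroupOf H) (w' : H), w' ∈ ((c' • P : Sylow 2 H) : Subgroup H) →
      QuotientGroup.mk w' = w → w ^ 2 ≠ 1 → ∃ i, ψ (r i) = (w' : G) := by
    intro w w' hw' hww hw2
    obtain ⟨d, hd⟩ : (w' : G) ∈ ψ.range := hr.symm ▸ hS ⟨w', hw', rfl⟩
    cases d with
    | r i => exact ⟨i, hd⟩
    | sr i =>
      refine absurd ?_ hw2
      have e2 : w' ^ 2 = 1 := Subtype.ext (by
        rw [SubmonoidClass.coe_pow, ← hd, ← map_pow, pow_two, sr_mul_self, map_one]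
        rfl)
      rw [← hww, ← QuotientGroup.mk_pow, e2, QuotientGroup.mk_one]
  obtain ⟨i, hi⟩ := rot x x' hx'P hx' (by
    rw [hxd, ← map_pow, ne_eq, MulEquiv.map_eq_one_iff]; exact hx2)
  obtain ⟨j, hj⟩ := rot y y' hy'P hy' (by
    rw [hyd, ← map_pow, ne_eq, MulEquiv.map_eq_one_iff]; exact hy2)
  have hcomm : x' * y' = y' * x' := Subtype.ext (by
    rw [Subgroup.coe_mul, Subgroup.coe_mul, ← hi, ← hj, ← map_mul, ← map_mul, r_mul_r, r_mul_r, add_comm])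
  refine hne (e.symm.injective ?_)
  rw [map_mul, map_mul, ← hxd, ← hyd, ← hx', ← hy', ← QuotientGroup.mk_mul, ← QuotientGroup.mk_mul, hcomm]

end Cfsg.Agent.GWDihSection33
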