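import Cfsg.Agent.Lib.GWDihCaseOne33
import Cfsg.Agent.Lib.GWDihSection33
import Cfsg.Agent.Lib.PGroupsBasic
import Cfsg.Agent.S0118

/-!
The odd core of an involution centralizer is a maximal invariant odd subgroup (generalized dihedral core).
-/

set_option autoImplicit false
set_option linter.style.haveILetI false
set_option linter.unusedSectionVars false

namespace Cfsg.Agent.GWDih33

open Subgroup Cfsg.Agent.BGFittingUnique
open scoped commutatorElement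

universe u

variable {G : Type u} [Group G] [Finite G]

/-- `g` commutes with `b` if an involution inverts `g`, fixes `b` and fixes their commutator. -/
theorem commute_of_fixed_comm {s g b : G} (hgo : Odd (orderOf g)) (hg : s * g * s⁻¹ = g⁻¹)
    (hb : Commute s b) (hk : Commute s (g * b * g⁻¹ * b⁻¹)) : Commute g b := by
  refine DihedralSylow77.fix_of_sq_fix hgo ?_
  have e : g * b * g⁻¹ * b⁻¹ = g⁻¹ * b * g * b⁻¹ := by
    have h1 : s * (g * b * g⁻¹ * b⁻¹) * s⁻¹ = g * b * g⁻¹ * b⁻¹ := by rw [hk.eq, mul_inv_cancel_right]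
    rw [← conj_mul, ← conj_mul, ← conj_mul, ← conj_inv, hg, inv_inv, ← conj_inv, hb.eq,
      mul_inv_cancel_right] at h1
    exact h1.symm
  have e2 : g * b * g⁻¹ = g⁻¹ * b * g := mul_right_cancel e
  rw [commute_iff_eq, pow_two]
  calc g * g * b = g * (g * b * g⁻¹) * g := by group
    _ = g * (g⁻¹ * b * g) * g := by rw [e2]
    _ = b * (g * g) := by group

/-- `g` commutes with `b` if an involution fixes `g`, inverts `b` and fixes their central commutator. -/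
theorem commute_of_fixed_comm' {s g b : G} (hbo : Odd (orderOf (g * b * g⁻¹ * b⁻¹))) (hg : Commute s g)
    (hb : s * b * s⁻¹ = b⁻¹) (hk : Commute s (g * b * g⁻¹ * b⁻¹))
    (hcen : Commute (g * b * g⁻¹ * b⁻¹) b) : Commute g b := by
  obtain ⟨k, hkdef⟩ : ∃ k, k = g * b * g⁻¹ * b⁻¹ := ⟨_, rfl⟩
  rw [← hkdef] at hbo hk hcen
  have h1 : g * b⁻¹ * g⁻¹ * b = k := by
    have h0 : s * k * s⁻¹ = k := by rw [hk.eq, mul_inv_cancel_right]
    have hb' : s * b⁻¹ * s⁻¹ = b := by rw [← conj_inv, hb, inv_inv]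
    have hg' : s * g * s⁻¹ = g := by rw [hg.eq, mul_inv_cancel_right]
    have e : s * (g * b * g⁻¹ * b⁻¹) * s⁻¹ =
        (s * g * s⁻¹) * (s * b * s⁻¹) * (s * g * s⁻¹)⁻¹ * (s * b⁻¹ * s⁻¹) := by group
    rw [← hkdef, h0, hg', hb, hb'] at e
    exact e.symm
  have e1 : g * b * g⁻¹ = k * b := by rw [hkdef]; group
  have e2 : g * b⁻¹ * g⁻¹ = k * b⁻¹ := by rw [← h1]; group
  have h2 : (k * b) * (k * b⁻¹) = 1 := by rw [← e1, ← e2]; group
  have h3 : k * k = 1 := by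
    rw [← h2, mul_assoc k b, ← mul_assoc b k, ← hcen.eq, mul_assoc k b b⁻¹, mul_inv_cancel, mul_one]
  have h4 : k = 1 := eq_one_of_two hbo h3
  rw [hkdef, mul_inv_eq_one, mul_inv_eq_iff_eq_mul] at h4
  exact h4

theorem center_le_zen {p : ℕ} [Fact p.Prime] {W : Subgroup G} {x : G} (hx : x ∈ Oc p W)
    (hxc : ∀ y ∈ Oc p W, Commute y x) : x ∈ zen W := by
  refine ⟨Oc_le_fittingOf Fact.out W hx, mem_centralizer_iff.2 ?_⟩
  intro y hy
  have hle : Cfsg.fittingOf W ≤ centralizer ({x} : Set G) := by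
    refine BGRankTwo.le_of_sylow_le fun s hs y hy ⟨j, hj⟩ => mem_centralizer_singleton_iff.2 ?_
    haveI := Fact.mk hs
    have hyq := mem_Oc_of_mem_fittingOf hy hj
    by_cases hsp : s = p
    · subst hsp
      exact (hxc y hyq).eq
    · exact (commute_Oc hsp hyq hx).eq
  exact mem_centralizer_singleton_iff.1 (hle hy)

theorem exists_center_ne_one {p : ℕ} [Fact p.Prime] {E : Subgroup G} (hE : IsPGroup p E) (h : E ≠ ⊥) :
    ∃ c ∈ E, c ≠ 1 ∧ ∀ y ∈ E, Commute y c := by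
  haveI : Nontrivial E := (nontrivial_iff_ne_bot _).2 h
  haveI := hE.center_nontrivial
  obtain ⟨⟨c, hc⟩, hc1⟩ := exists_ne (1 : center E)
  exact ⟨c, c.2, fun e => hc1 (Subtype.ext (Subtype.ext e)), fun y hy =>
    congrArg Subtype.val (mem_center_iff.1 hc ⟨y, hy⟩)⟩

/-- A noncentral element of the second centre of a nonabelian `p`-subgroup. -/
theorem exists_second_center {p : ℕ} [Fact p.Prime] {E : Subgroup G} (hE : IsPGroup p E)
    (h : ¬ ∀ a ∈ E, ∀ b ∈ E, Commute a b) :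
    ∃ b ∈ E, (∀ g ∈ E, ∀ y ∈ E, Commute y (g * b * g⁻¹ * b⁻¹)) ∧ ¬ ∀ g ∈ E, Commute g b := by
  haveI : Nontrivial (E ⧸ center E) := by
    rw [← not_subsingleton_iff_nontrivial]
    intro hs
    refine h fun a ha b hb => ?_
    have : (⟨b, hb⟩ : E) ∈ center E := (QuotientGroup.eq_one_iff _).1 (Subsingleton.elim _ _)
    exact congrArg Subtype.val (mem_center_iff.1 this ⟨a, ha⟩)
  haveI := (hE.to_quotient (center E)).center_nontrivial
  obtain ⟨⟨c, hc⟩, hc1⟩ := exists_ne (1 : center (E ⧸ center E))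
  obtain ⟨b, rfl⟩ := QuotientGroup.mk_surjective c
  refine ⟨b, b.2, fun g hg y hy => ?_, fun hall => hc1 (Subtype.ext ?_)⟩
  · have hm : (⟨g, hg⟩ : E) * b * (⟨g, hg⟩ : E)⁻¹ * b⁻¹ ∈ center E := by
      rw [← QuotientGroup.eq_one_iff, QuotientGroup.mk_mul, QuotientGroup.mk_mul, QuotientGroup.mk_mul,
        mem_center_iff.1 hc (QuotientGroup.mk ⟨g, hg⟩), QuotientGroup.mk_inv, mul_inv_cancel_right,
        QuotientGroup.mk_inv, mul_inv_cancel]
    exact congrArg Subtype.val (mem_center_iff.1 hm ⟨y, hy⟩)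
  · refine (QuotientGroup.eq_one_iff b).2 (mem_center_iff.2 fun g => Subtype.ext ?_)
    exact (hall g g.2).eq

namespace Max

variable {z : G} {W : Subgroup G}

theorem zen_le_fit (W : Subgroup G) : zen W ≤ Cfsg.fittingOf W := inf_le_left

theorem zen_le (W : Subgroup G) : zen W ≤ W := inf_le_left.trans (fittingOf_le W)

theorem cen_zen (hM : Max z W) : centralizer ({z} : Set G) ≤ normalizer (zen W : Set G) :=
  le_normalizer_zen hM.norm

theorem zen_le_om (T : Tools G) (hM : Max z W) : zen W ≤ Om z := by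
  obtain ⟨v, hv, hne, hc⟩ := T.hyp.exists_partner hM.two
  refine T.hyp.four_le' hM.two hv hne hc (odd_of_le hM.odd (zen_le W)) (hM.cen_zen (self_mem_centralizer z))
    (hM.cen_zen (mem_cen_of_commute hc)) ?_
  intro t ht hzt _ x hx
  by_cases e : t = z
  · exact e ▸ hx.2
  · rw [hM.zen_inf_eq_one T ht e hzt hx.1 hx.2]; exact one_mem _

theorem zen_central (T : Tools G) (hM : Max z W) : W ≤ centralizer (zen W : Set G) := by
  obtain ⟨v, hv, hne, hc⟩ := T.hyp.exists_partner hM.two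
  refine T.hyp.four_le' hM.two hv hne hc hM.odd (hM.mem_norm (Commute.refl z)) (hM.mem_norm hc) ?_
  intro t ht hzt _ g hg
  rw [mem_centralizer_iff]
  intro c hcz
  have hcO := hM.zen_le_om T hcz
  by_cases e : t = z
  · exact (T.hyp.om_abelian hM.two hcO (e ▸ hg.2)).eq
  · have hgz : z * g * z⁻¹ = g⁻¹ := T.hyp.inv_om ht hM.two (Ne.symm e) hzt.symm hg.2
    have hgo := odd_of_mem hM.odd hg.1
    have hzc : Commute z c := om_comm hcO
    have hgc : g * c * g⁻¹ ∈ zen W := conj_mem_of (le_normalizer_zen le_normalizer hg.1) hcz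
    have hkc : Commute z (g * c * g⁻¹ * c⁻¹) :=
      (om_comm (hM.zen_le_om T hgc)).mul_right hzc.inv_right
    exact (commute_of_fixed_comm hgo hgz hzc hkc).symm.eq

theorem zen_ne_bot (T : Tools G) (hM : Max z W) : zen W ≠ ⊥ := by
  obtain ⟨p, hp, hpd⟩ := Nat.exists_prime_and_dvd (fun e => hM.fit_ne_bot T (card_eq_one.1 e) :
    Nat.card (Cfsg.fittingOf W) ≠ 1)
  haveI := Fact.mk hp
  obtain ⟨c, hc, hc1, hcc⟩ := exists_center_ne_one (isPGroup_Oc p W) (oc_ne_bot hpd)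
  intro e
  have := center_le_zen hc hcc
  rw [e, mem_bot] at this
  exact hc1 this

theorem cent_le (T : Tools G) (hM : Max z W) {c : G} (hc : c ∈ zen W) (hc1 : c ≠ 1) {g : G}
    (hg : Commute g c) (hodd : Odd (orderOf g)) : g ∈ W := by
  refine hM.mem_of_commute T (Y := zpowers c) (by simpa using hc1) (zpowers_le.2 (zen_le W hc)) ?_
    (T.hyp.cen_norm hM.two (zpowers_le.2 (hM.zen_le_om T hc))) ?_ hodd
  · intro w hw
    refine centralizer_le_normalizer _ (mem_centralizer_iff.2 ?_)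
    rintro _ ⟨i, rfl⟩
    exact ((show Commute w c from (mem_centralizer_iff.1 (hM.zen_central T hw) c hc).symm).zpow_right i).eq.symm
  · refine mem_centralizer_iff.2 ?_
    rintro _ ⟨i, rfl⟩
    exact (hg.zpow_right i).eq.symm

/-- A nonabelian layer of the Fitting subgroup. -/
theorem exists_nonab (T : Tools G) (hM : Max z W) (hne : W ≠ Om z) :
    ∃ p : ℕ, p.Prime ∧ ¬ ∀ a ∈ Oc p W, ∀ b ∈ Oc p W, Commute a b := by
  by_contra hcon
  push Not at hcon
  have hF : Cfsg.fittingOf W ≤ zen W := by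
    refine BGRankTwo.le_of_sylow_le fun p hp x hx ⟨i, hi⟩ => ?_
    haveI := Fact.mk hp
    have hxp := mem_Oc_of_mem_fittingOf hx hi
    exact center_le_zen hxp fun y hy => hcon p hp y hy x hxp
  refine hne (le_antisymm ?_ hM.om)
  refine le_trans (fun g hg => ?_) (hM.zen_le_om T)
  refine hM.centralizer_le_zen ⟨hg, mem_centralizer_iff.2 fun f hf => ?_⟩
  exact mem_centralizer_iff.1 (hM.zen_central T hg) f (hF hf)

theorem exists_b (T : Tools G) (hM : Max z W) {p : ℕ} [Fact p.Prime]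
    (hnab : ¬ ∀ a ∈ Oc p W, ∀ b ∈ Oc p W, Commute a b) :
    ∃ v b : G, orderOf v = 2 ∧ v ≠ z ∧ Commute z v ∧ b ≠ 1 ∧ b ∈ Om v ∧ b ∈ Oc p W ∧
      (∀ g ∈ Oc p W ⊓ Om z, Commute g b) ∧ (∀ g ∈ Oc p W ⊓ Om v, Commute g b) := by
  obtain ⟨b₀, hb₀, hb₀c, hb₀n⟩ := exists_second_center (isPGroup_Oc p W) hnab
  have hEn : W ≤ normalizer (Oc p W : Set G) := le_normalizer_Oc p W
  let Z₂ : Subgroup G :=
    { carrier := {b | b ∈ Oc p W ∧ ∀ g ∈ Oc p W, ∀ y ∈ Oc p W, Commute y (g * b * g⁻¹ * b⁻¹)}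
      one_mem' := ⟨one_mem _, fun g _ y _ => by simp⟩
      mul_mem' := fun {a b} ha hb => ⟨mul_mem ha.1 hb.1, fun g hg y hy => by
        have e : g * (a * b) * g⁻¹ * (a * b)⁻¹ =
            (g * a * g⁻¹ * a⁻¹) * (a * (g * b * g⁻¹ * b⁻¹) * a⁻¹) := by group
        rw [e, (hb.2 g hg a ha.1).eq, mul_inv_cancel_right]
        exact (ha.2 g hg y hy).mul_right (hb.2 g hg y hy)⟩
      inv_mem' := fun {a} ha => ⟨inv_mem ha.1, fun g hg y hy => by
        have e : g * a⁻¹ * g⁻¹ * a⁻¹⁻¹ = a⁻¹ * (g * a * g⁻¹ * a⁻¹)⁻¹ * a := by group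
        rw [e, ((ha.2 g hg a ha.1).inv_right.inv_left).eq, inv_mul_cancel_right]
        exact (ha.2 g hg y hy).inv_right⟩ }
  have hZn : ∀ x : G, x ∈ normalizer (Oc p W : Set G) → x ∈ normalizer (Z₂ : Set G) := by
    intro x hx
    refine mem_norm_of_conj fun b hb => ⟨conj_mem_of hx hb.1, fun g hg y hy => ?_⟩
    have hg' : x⁻¹ * g * x ∈ Oc p W := by simpa using conj_mem_of (inv_mem hx) hg
    have hy' : x⁻¹ * y * x ∈ Oc p W := by simpa using conj_mem_of (inv_mem hx) hy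
    have := (hb.2 _ hg' _ hy').map (MulAut.conj x).toMonoidHom
    convert this using 1 <;> simp [mul_assoc]
  obtain ⟨v₀, hv₀, hne₀, hc₀⟩ := T.hyp.exists_partner hM.two
  by_contra hcon
  push Not at hcon
  have hodd : ∀ g ∈ Oc p W, Odd (orderOf g) := fun g hg => odd_of_mem hM.odd (Oc_le p W hg)
  -- the commutators are fixed by every involution over `z`
  have hk : ∀ b ∈ Z₂, ∀ g ∈ Oc p W, g * b * g⁻¹ * b⁻¹ ∈ Oc p W ∧ Commute z (g * b * g⁻¹ * b⁻¹) := by
    intro b hb g hg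
    have hm : g * b * g⁻¹ * b⁻¹ ∈ Oc p W := mul_mem (mul_mem (mul_mem hg hb.1) (inv_mem hg)) (inv_mem hb.1)
    exact ⟨hm, om_comm (hM.zen_le_om T (center_le_zen hm fun y hy => hb.2 g hg y hy))⟩
  have hsmall : ∀ t, orderOf t = 2 → Commute z t → t ≠ z → ∀ b ∈ Z₂, b ∈ Om t → b = 1 := by
    intro t ht hzt htz b hb hbt
    by_contra hb1
    have hbz : z * b * z⁻¹ = b⁻¹ := T.hyp.inv_om ht hM.two (Ne.symm htz) hzt.symm hbt
    have h1 : ∀ g ∈ Oc p W ⊓ Om z, Commute g b := fun g hg =>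
      commute_of_fixed_comm' (hodd _ (hk b hb g hg.1).1) (om_comm hg.2) hbz (hk b hb g hg.1).2
        (hb.2 g hg.1 b hb.1).symm
    obtain ⟨g, hg, hgn⟩ := hcon t b ht htz hzt hb1 hbt hb.1 h1
    exact hgn (T.hyp.om_abelian ht hg.2 hbt)
  have hZ2 : Z₂ ≤ Om z := by
    refine T.hyp.four_le' hM.two hv₀ hne₀ hc₀ (odd_of_le hM.odd fun b hb => Oc_le p W hb.1)
      (hZn _ (hM.cen_oc p (self_mem_centralizer z))) (hZn _ (hM.cen_oc p (mem_cen_of_commute hc₀))) ?_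
    intro t ht hzt _ x hx
    by_cases e : t = z
    · exact e ▸ hx.2
    · rw [hsmall t ht hzt e x hx.1 hx.2]; exact one_mem _
  refine hb₀n fun g hg => ?_
  have hbO : b₀ ∈ Om z := hZ2 ⟨hb₀, hb₀c⟩
  have hle : Oc p W ≤ centralizer ({b₀} : Set G) := by
    refine T.hyp.four_le' hM.two hv₀ hne₀ hc₀ (odd_of_le hM.odd (Oc_le p W))
      (hM.cen_oc p (self_mem_centralizer z)) (hM.cen_oc p (mem_cen_of_commute hc₀)) ?_
    intro t ht hzt _ x hx
    refine mem_centralizer_singleton_iff.2 ?_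
    by_cases e : t = z
    · exact (T.hyp.om_abelian hM.two (e ▸ hx.2) hbO).eq
    · exact (commute_of_fixed_comm (hodd x hx.1) (T.hyp.inv_om ht hM.two (Ne.symm e) hzt.symm hx.2)
        (om_comm hbO) (hk b₀ ⟨hb₀, hb₀c⟩ x hx.1).2).eq
  exact mem_centralizer_singleton_iff.1 (hle hg)

/-- Passing to a second maximal subgroup. -/
theorem step (T : Tools G) (hM : Max z W) {p : ℕ} [Fact p.Prime]
    (hnab : ¬ ∀ a ∈ Oc p W, ∀ b ∈ Oc p W, Commute a b) :
    ∃ v W₂, v ≠ z ∧ Commute z v ∧ Max v W₂ ∧ W₂ ≠ Om v ∧ zen W₂ ≤ W ∧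
      IsPGroup p (Cfsg.fittingOf W₂) := by
  obtain ⟨v, b, hv, hvne, hc, hb1, hbv, hbE, hbz, hbv'⟩ := hM.exists_b T hnab
  obtain ⟨W₂, hM₂, hall⟩ := exists_max_over T hv (Y := zpowers b) (by simpa using hb1) (zpowers_le.2 hbv)
  have hin : ∀ g ∈ W, Commute g b → g ∈ W₂ := fun g hg hgb => by
    refine hall g (centralizer_le_normalizer _ (mem_centralizer_iff.2 ?_)) (odd_of_mem hM.odd hg)
    rintro _ ⟨i, rfl⟩
    exact (hgb.zpow_right i).eq.symm
  have hazW₂ : ∀ a ∈ zen W, a ∈ W₂ := fun a ha =>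
    hin a (zen_le W ha) (commute_fit_zen ha (Oc_le_fittingOf Fact.out W hbE)).symm
  obtain ⟨⟨a, ha⟩, ha1'⟩ := Subgroup.ne_bot_iff_exists_ne_one.1 (hM.zen_ne_bot T)
  have ha1 : a ≠ 1 := fun e => ha1' (Subtype.ext e)
  have hW₂ne : W₂ ≠ Om v := fun e => ha1 (T.hyp.om_inf hM.two hv hvne hc (hM.zen_le_om T ha)
    (e ▸ hazW₂ a ha))
  have hzW : zen W₂ ≤ W := fun k hk => hM.cent_le T ha ha1
    (show Commute k a from mem_centralizer_iff.1 (hM₂.zen_central T (hazW₂ a ha)) k hk)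
    (odd_of_mem hM₂.odd (zen_le W₂ hk))
  refine ⟨v, W₂, hvne, hc, hM₂, hW₂ne, hzW, ?_⟩
  refine IsPGroup.of_card (n := (Nat.card (Cfsg.fittingOf W₂)).primeFactorsList.length)
    (Nat.eq_prime_pow_of_unique_prime_dvd Nat.card_pos.ne' fun {t} ht htd => ?_)
  by_contra htp
  haveI := Fact.mk ht
  obtain ⟨k, hkE, hk1, hkc⟩ := exists_center_ne_one (isPGroup_Oc t W₂) (oc_ne_bot htd)
  have hkz : k ∈ zen W₂ := center_le_zen hkE hkc
  have hkO : k ∈ Om v := hM₂.zen_le_om T hkz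
  have hkW : k ∈ W := hzW hkz
  have hall' : ∀ k' ∈ zpowers k, ∀ g ∈ W₂, Commute k' g := fun k' hk' g hg =>
    (mem_centralizer_iff.1 (hM₂.zen_central T hg) k' (zpowers_le.2 hkz hk') : _)
  have hEcop : ¬ p ∣ Nat.card (zpowers k) := by
    rw [Nat.card_zpowers]
    exact fun hd => coprime_card_oc htp W₂ (hd.trans (orderOf_dvd_natCard (Oc t W₂) hkE))
  -- `k` centralises the layer
  have hkcent : zpowers k ≤ centralizer (Oc p W : Set G) := by
    haveI hEp := isPGroup_Oc p W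
    have hkn : zpowers k ≤ normalizer (Oc p W : Set G) :=
      zpowers_le.2 (le_normalizer_Oc p W hkW)
    refine CoprimeAction.le_centralizer_of_frattini hkn ?_ ?_
    · obtain ⟨i, hi⟩ := IsPGroup.iff_card.1 (hEp.to_subgroup (frattini (Oc p W)))
      rw [hi]
      exact (((Nat.Prime.coprime_iff_not_dvd Fact.out).2 hEcop).symm).pow_right i
    intro k' hk' e he
    obtain ⟨Φ, hΦ⟩ : ∃ Φ, Φ = (frattini (Oc p W)).map (Oc p W).subtype := ⟨_, rfl⟩
    rw [← hΦ]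
    have hΦle : Φ ≤ Oc p W := hΦ ▸ map_subtype_le _
    have hΦn : normalizer (Oc p W : Set G) ≤ normalizer (Φ : Set G) := hΦ ▸
      ComponentsCores.normalizer_le_normalizer_map_subtype (Oc p W) (frattini (Oc p W))
    have hcommΦ : ∀ a ∈ Oc p W, ∀ c ∈ Oc p W, a * c * a⁻¹ * c⁻¹ ∈ Φ := fun a ha c hc =>
      hΦ ▸ ⟨_, PGroupsBasic.commutator_le_frattini hEp (commutator_mem_commutator (mem_top
        (⟨a, ha⟩ : Oc p W)) (mem_top (⟨c, hc⟩ : Oc p W))), by simp [commutatorElement_def]⟩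
    have hpowΦ : ∀ a ∈ Oc p W, a ^ p ∈ Φ := fun a ha =>
      hΦ ▸ ⟨_, PGroupsBasic.pow_mem_frattini hEp (⟨a, ha⟩ : Oc p W), by simp⟩
    have hk'n := hkn hk'
    have hk'W : k' ∈ W := zpowers_le.2 hkW hk'
    let P₀ : Subgroup G :=
      { carrier := {e | e ∈ Oc p W ∧ k' * e * k'⁻¹ * e⁻¹ ∈ Φ}
        one_mem' := ⟨one_mem _, by simp⟩
        mul_mem' := fun {a c} ha hc => ⟨mul_mem ha.1 hc.1, by
          rw [show k' * (a * c) * k'⁻¹ * (a * c)⁻¹ =
            k' * a * k'⁻¹ * a⁻¹ * (a * (k' * c * k'⁻¹ * c⁻¹) * a⁻¹) by group]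
          exact mul_mem ha.2 (conj_mem_of (hΦn (le_normalizer ha.1)) hc.2)⟩
        inv_mem' := fun {a} ha => ⟨inv_mem ha.1, by
          rw [show k' * a⁻¹ * k'⁻¹ * a⁻¹⁻¹ = a⁻¹ * (k' * a * k'⁻¹ * a⁻¹)⁻¹ * a⁻¹⁻¹ by group]
          exact conj_mem_of (inv_mem (hΦn (le_normalizer ha.1))) (inv_mem ha.2)⟩ }
    suffices hP : Oc p W ≤ P₀ from (hP he).2
    have hzn : z ∈ normalizer (Oc p W : Set G) := hM.cen_oc p (self_mem_centralizer z)
    have hfixed : ∀ g ∈ Oc p W, Commute g b → k' * g * k'⁻¹ = g := fun g hg hgb => by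
      rw [(hall' k' hk' g (hin g (Oc_le p W hg) hgb)).eq, mul_inv_cancel_right]
    refine T.hyp.four_le' hM.two hv hvne hc (odd_of_le hM.odd (Oc_le p W)) hzn
      (hM.cen_oc p (mem_cen_of_commute hc)) ?_
    intro w hw hzw hcases g hg
    refine ⟨hg.1, ?_⟩
    by_cases e1 : w = z
    · rw [hfixed g hg.1 (hbz g (e1 ▸ hg)), mul_inv_cancel]; exact one_mem _
    by_cases e2 : w = v
    · rw [hfixed g hg.1 (hbv' g (e2 ▸ hg)), mul_inv_cancel]; exact one_mem _
    -- the remaining part is inverted by `z`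
    have hgz : z * g * z⁻¹ = g⁻¹ := T.hyp.inv_om hw hM.two (Ne.symm e1) hzw.symm hg.2
    have hk'O : k' ∈ Om v := zpowers_le.2 hkO hk'
    have hk'z : z * k' * z⁻¹ = k'⁻¹ := T.hyp.inv_om hv hM.two (Ne.symm hvne) hc.symm hk'O
    obtain ⟨d, hd⟩ : ∃ d, d = (k' * g * k'⁻¹) * (k'⁻¹ * g⁻¹ * k') := ⟨_, rfl⟩
    have hA : k' * g * k'⁻¹ ∈ Oc p W := conj_mem_of hk'n hg.1
    have hB : k'⁻¹ * g⁻¹ * k' ∈ Oc p W := by simpa using conj_mem_of (inv_mem hk'n) (inv_mem hg.1)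
    have hdE : d ∈ Oc p W := hd ▸ mul_mem hA hB
    have hzd : z * d * z⁻¹ = (k'⁻¹ * g⁻¹ * k') * (k' * g * k'⁻¹) := by
      have hzk : z * k'⁻¹ * z⁻¹ = k' := by rw [← conj_inv, hk'z, inv_inv]
      have hzg : z * g⁻¹ * z⁻¹ = g := by rw [← conj_inv, hgz, inv_inv]
      rw [hd]
      simp only [← conj_mul, hk'z, hgz, hzk, hzg]
    obtain ⟨c, hcz, hcd⟩ := CoprimeAction.exists_fixed_mem_coset_zpowers (a := z) (D := Φ) (hΦn hzn)
      (by
        rw [hM.two]
        exact Nat.coprime_two_left.2 (odd_of_le hM.odd (hΦle.trans (Oc_le p W)))) d (by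
        rw [mul_assoc d⁻¹ z, mul_assoc d⁻¹, hzd, hd]
        obtain ⟨A, hA'⟩ : ∃ A, A = k' * g * k'⁻¹ := ⟨_, rfl⟩
        obtain ⟨B, hB'⟩ : ∃ B, B = k'⁻¹ * g⁻¹ * k' := ⟨_, rfl⟩
        rw [← hA', ← hB']
        rw [show (A * B)⁻¹ * (B * A) = B⁻¹ * A⁻¹ * B⁻¹⁻¹ * A⁻¹⁻¹ by group, hA', hB']
        exact hcommΦ _ (inv_mem hB) _ (inv_mem hA))
    have hcE : c ∈ Oc p W := by
      have := mul_mem hdE (hΦle hcd)
      simpa using this
    have hfc : k' * c * k'⁻¹ = c := hfixed c hcE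
      (hbz c ⟨hcE, T.hyp.mem_om hM.two hcz (odd_of_mem hM.odd (Oc_le p W hcE))⟩)
    -- congruence modulo the Frattini subgroup
    have hfixd : k' * d * k'⁻¹ * d⁻¹ ∈ Φ := by
      have e0 : d = c * (d⁻¹ * c)⁻¹ := by group
      have e3 : k' * d * k'⁻¹ * d⁻¹ = c * (k' * (d⁻¹ * c)⁻¹ * k'⁻¹ * (d⁻¹ * c)) * c⁻¹ := by
        conv_lhs => rw [e0]
        rw [show k' * (c * (d⁻¹ * c)⁻¹) * k'⁻¹ = (k' * c * k'⁻¹) * (k' * (d⁻¹ * c)⁻¹ * k'⁻¹) by group, hfc]
        group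
      rw [e3]
      exact conj_mem_of (hΦn (le_normalizer hcE))
        (mul_mem (conj_mem_of (hΦn hk'n) (inv_mem hcd)) hcd)
    haveI hΦnormal : (Φ.subgroupOf (Oc p W)).Normal :=
      normal_subgroupOf_of_le_normalizer ((le_normalizer (H := Oc p W)).trans hΦn)
    -- work in `N = N(E)` modulo `Φ`
    obtain ⟨N, hN⟩ : ∃ N, N = normalizer (Oc p W : Set G) ⊓ normalizer (Φ : Set G) := ⟨_, rfl⟩
    have hΦN : (Φ.subgroupOf N).Normal := normal_subgroupOf_of_le_normalizer (hN ▸ inf_le_right)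
    haveI := hΦN
    have hEN : ∀ x ∈ Oc p W, x ∈ N := fun x hx => hN ▸ ⟨le_normalizer hx, hΦn (le_normalizer hx)⟩
    have hkN : k' ∈ N := hN ▸ ⟨hk'n, hΦn hk'n⟩
    let π := QuotientGroup.mk' (Φ.subgroupOf N)
    have hπ : ∀ (x : G) (hx : x ∈ N), π ⟨x, hx⟩ = 1 ↔ x ∈ Φ := fun x hx => QuotientGroup.eq_one_iff _
    obtain ⟨U, hU⟩ : ∃ U, U = π ⟨k', hkN⟩ := ⟨_, rfl⟩
    obtain ⟨g', hg'⟩ : ∃ g', g' = π ⟨g, hEN g hg.1⟩ := ⟨_, rfl⟩
    obtain ⟨d', hd'⟩ : ∃ d', d' = π ⟨d, hEN d hdE⟩ := ⟨_, rfl⟩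
    have r1 : U * d' * U⁻¹ = d' := by
      rw [← mul_inv_eq_one, hU, hd', ← map_inv, ← map_mul, ← map_mul, ← map_inv, ← map_mul]
      exact (hπ _ _).2 hfixd
    have r2 : d' = U * g' * U⁻¹ * (U⁻¹ * g'⁻¹ * U) := by
      simp only [hU, hg', hd', ← map_inv, ← map_mul]
      congr 1
      exact Subtype.ext hd
    have r3 : U * U * g' * (U * U)⁻¹ = d' * g' := by
      have : U * d' * U⁻¹ = U * U * g' * (U * U)⁻¹ * g'⁻¹ := by rw [r2]; group
      rw [r1] at this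
      rw [this, inv_mul_cancel_right]
    have r4 : Commute (U * U) d' := by
      have : Commute U d' := mul_inv_eq_iff_eq_mul.1 r1
      exact this.mul_left this
    have riter : ∀ n : ℕ, (U * U) ^ n * g' * ((U * U) ^ n)⁻¹ = d' ^ n * g' := by
      intro n
      induction n with
      | zero => simp
      | succ n ih =>
        calc (U * U) ^ (n + 1) * g' * ((U * U) ^ (n + 1))⁻¹
            = (U * U) * ((U * U) ^ n * g' * ((U * U) ^ n)⁻¹) * (U * U)⁻¹ := by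
              rw [pow_succ' (U * U) n, mul_inv_rev ((U * U)) ((U * U) ^ n)]
              simp only [mul_assoc]
          _ = (U * U) * d' ^ n * (U * U)⁻¹ * ((U * U) * g' * (U * U)⁻¹) := by rw [ih]; group
          _ = d' ^ n * (d' * g') := by rw [r3, (r4.pow_right n).eq, mul_inv_cancel_right]
          _ = d' ^ (n + 1) * g' := by rw [pow_succ, mul_assoc]
    have hdp : d' ^ p = 1 := by
      rw [hd', ← map_pow]
      exact (hπ _ (pow_mem (hEN d hdE) p)).2 (hpowΦ d hdE)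
    have hdo : d' ^ orderOf k' = 1 := by
      have h0 := riter (orderOf k')
      have hUU : (U * U) ^ orderOf k' = 1 := by
        have hUo : U ^ orderOf k' = 1 := by
          rw [hU, ← map_pow, ← map_one π]
          congr 1
          exact Subtype.ext (by rw [SubmonoidClass.coe_pow]; exact pow_orderOf_eq_one k')
        rw [← pow_two, ← pow_mul, mul_comm, pow_mul, hUo, one_pow]
      rw [hUU, one_mul, inv_one, mul_one] at h0
      exact mul_eq_right.1 h0.symm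
    have hd1 : d' = 1 := orderOf_eq_one_iff.1 (Nat.eq_one_of_dvd_coprimes
      ((Nat.Prime.coprime_iff_not_dvd Fact.out).2 fun h => hEcop (h.trans (orderOf_dvd_natCard _ hk')))
      (orderOf_dvd_of_pow_eq_one hdp) (orderOf_dvd_of_pow_eq_one hdo))
    rw [hd1, one_mul] at r3
    have hUg : Commute (U ^ 2) g' := by
      rw [pow_two]; exact mul_inv_eq_iff_eq_mul.1 r3
    have hUodd : Odd (orderOf U) := (odd_of_mem (odd_om v) hk'O).of_dvd_nat
      (hU ▸ (orderOf_map_dvd π _).trans (by rw [Subgroup.orderOf_mk]))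
    have := DihedralSylow77.fix_of_sq_fix hUodd hUg
    have hfin : π (⟨k', hkN⟩ * ⟨g, hEN g hg.1⟩ * (⟨k', hkN⟩ : N)⁻¹ * (⟨g, hEN g hg.1⟩ : N)⁻¹) = 1 := by
      rw [map_mul, map_mul, map_mul, map_inv, map_inv, ← hU, ← hg', this.eq, mul_inv_cancel_right,
        mul_inv_cancel]
    exact (hπ _ _).1 hfin
  have hkF : k ∈ zen W := by
    refine hM.centralizer_le_zen ⟨hkW, ?_⟩
    have hle : Cfsg.fittingOf W ≤ centralizer ({k} : Set G) := by
      refine BGRankTwo.le_of_sylow_le fun s hs y hy ⟨j, hj⟩ => mem_centralizer_singleton_iff.2 ?_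
      haveI := Fact.mk hs
      have hyq := mem_Oc_of_mem_fittingOf hy hj
      by_cases hsp : s = p
      · subst hsp
        exact mem_centralizer_iff.1 (hkcent (mem_zpowers k)) y hyq
      · exact (hall' k (mem_zpowers k) y (hin y (fittingOf_le W hy)
          (commute_Oc hsp hyq hbE))).symm.eq
    exact mem_centralizer_iff.2 fun y hy => mem_centralizer_singleton_iff.1 (hle hy)
  exact hk1 (T.hyp.om_inf hM.two hv hvne hc (hM.zen_le_om T hkF) hkO)

/-- A Fitting `p`-subgroup of a maximal subgroup is a Sylow subgroup of the group. -/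
theorem exists_sylow (T : Tools G) (hM : Max z W) {p : ℕ} [Fact p.Prime]
    (hF : IsPGroup p (Cfsg.fittingOf W)) : ∃ P : Sylow p G, (P : Subgroup G) = Cfsg.fittingOf W := by
  obtain ⟨P, hP⟩ := hF.exists_le_sylow
  refine ⟨P, le_antisymm ?_ hP⟩
  by_contra hnle
  have hFn : W ≤ normalizer (Cfsg.fittingOf W : Set G) := le_normalizer.trans (normalizer_le_fittingOf W)
  obtain ⟨Q, hQ⟩ : ∃ Q, Q = normalizer (Cfsg.fittingOf W : Set G) ⊓ (P : Subgroup G) := ⟨_, rfl⟩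
  have hpodd : p ≠ 2 := fun e => by
    obtain ⟨k, hk⟩ := IsPGroup.iff_card.1 hF
    have hodd := odd_of_le hM.odd (fittingOf_le W)
    rw [hk, e] at hodd
    rcases Nat.eq_zero_or_pos k with rfl | hk0
    · exact hM.fit_ne_bot T (card_eq_one.1 (by rw [hk, pow_zero]))
    · exact absurd hodd (by rw [Nat.not_odd_iff_even]; exact (even_two).pow_of_ne_zero hk0.ne')
  have hQW : Q ≤ W := fun g hg => by
    rw [hQ] at hg
    refine hM.core_le T (hM.fit_ne_bot T) (fittingOf_le W) hFn hM.cen_fit hg.1 ?_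
    obtain ⟨i, hi⟩ := IsPGroup.iff_orderOf.1 P.isPGroup' ⟨g, hg.2⟩
    rw [Subgroup.orderOf_mk] at hi
    rw [hi]
    exact ((Fact.out : p.Prime).odd_of_ne_two hpodd).pow
  have hQF : Q ≤ Cfsg.fittingOf W := hM.pgroup_le_fit T hF hQW (P.isPGroup'.to_le (hQ ▸ inf_le_right))
  haveI := P.isPGroup'.isNilpotent
  have hlt : (Cfsg.fittingOf W).subgroupOf (P : Subgroup G) < ⊤ :=
    lt_top_iff_ne_top.2 fun e => hnle (subgroupOf_eq_top.1 e)
  obtain ⟨x, hxN, hxF⟩ := SetLike.exists_of_lt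
    (Group.normalizerCondition_of_isNilpotent (G := (P : Subgroup G)) _ hlt)
  refine hxF (mem_subgroupOf.2 (hQF (hQ ▸ ⟨mem_norm_of_conj fun f hf => ?_, x.2⟩)))
  exact mem_subgroupOf.1 ((mem_normalizer_iff.1 hxN ⟨f, hP hf⟩).1 (mem_subgroupOf.2 hf))

/-- There is no maximal subgroup above the odd core with a `p`-group as Fitting subgroup. -/
theorem no_pgroup (T : Tools G) (hM : Max z W) (hne : W ≠ Om z) {p : ℕ} [Fact p.Prime]
    (hF : IsPGroup p (Cfsg.fittingOf W)) : False := by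
  obtain ⟨q, hq, hnab⟩ := hM.exists_nonab T hne
  haveI := Fact.mk hq
  have hqp : q = p := by
    by_contra hqp
    refine hnab fun a ha b hb => ?_
    have : ∀ x ∈ Oc q W, x = 1 := fun x hx =>
      eq_one_of_pgroups hqp (isPGroup_Oc q W) hF hx (Oc_le_fittingOf hq W hx)
    rw [this a ha]; exact Commute.one_left b
  subst hqp
  obtain ⟨v, W₂, hvne, hc, hM₂, -, hzW, hF₂⟩ := hM.step T hnab
  obtain ⟨P, hP⟩ := hM.exists_sylow T hF
  obtain ⟨P₂, hP₂⟩ := hM₂.exists_sylow T hF₂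
  obtain ⟨g, hg⟩ := MulAction.exists_smul_eq G P P₂
  obtain ⟨⟨c, hc'⟩, hc1⟩ := Subgroup.ne_bot_iff_exists_ne_one.1 (hM.zen_ne_bot T)
  have hmove : ∀ x ∈ Cfsg.fittingOf W, g * x * g⁻¹ ∈ Cfsg.fittingOf W₂ := by
    intro x hx
    rw [← hP] at hx
    rw [← hP₂, ← hg]
    exact ⟨x, hx, rfl⟩
  obtain ⟨c₂, hc₂⟩ : ∃ c₂, c₂ = g * c * g⁻¹ := ⟨_, rfl⟩
  have hc₂z : c₂ ∈ zen W₂ := by
    refine ⟨hc₂ ▸ hmove c hc'.1, mem_centralizer_iff.2 fun y hy => ?_⟩
    rw [← hP₂, ← hg] at hy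
    obtain ⟨x, hx, rfl⟩ := hy
    have hx' : x ∈ Cfsg.fittingOf W := hP ▸ hx
    change g * x * g⁻¹ * c₂ = c₂ * (g * x * g⁻¹)
    rw [hc₂, conj_mul, conj_mul, (commute_fit_zen hc' hx').eq]
  have hc₂F : c₂ ∈ Cfsg.fittingOf W :=
    hM.pgroup_le_fit T hF (zpowers_le.2 (hzW hc₂z))
      (hF₂.to_le (zpowers_le.2 hc₂z.1)) (mem_zpowers c₂)
  have hp2 : q ≠ 2 := fun e => by
    obtain ⟨k, hk⟩ := IsPGroup.iff_card.1 hF
    have hodd := odd_of_le hM.odd (fittingOf_le W)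
    rw [hk, e] at hodd
    rcases Nat.eq_zero_or_pos k with rfl | hk0
    · exact hM.fit_ne_bot T (card_eq_one.1 (by rw [hk, pow_zero]))
    · exact absurd hodd (by rw [Nat.not_odd_iff_even]; exact (even_two).pow_of_ne_zero hk0.ne')
  obtain ⟨n, hn, hnc⟩ := Cfsg.Agent.S0118.result hp2 (GWDihSection33.not_sl_section T.hyp.dih q hp2)
    P {c₂} (Set.singleton_subset_iff.2 (show c₂ ∈ (P : Subgroup G) by rw [hP]; exact hc₂F)) g (by
      rw [Set.image_singleton, Set.singleton_subset_iff]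
      change g⁻¹ * c₂ * g ∈ (P : Subgroup G)
      rw [hP]
      rw [hc₂]
      simpa [mul_assoc] using hc'.1)
  have hY : Cfsg.centerThompsonOf q (Cfsg.fittingOf W) ≠ ⊥ := by
    rw [GlaubermanZJ.centerThompsonOf_eq]
    exact GlaubermanZJ.thomY_ne_bot (Or.inr rfl) hF (hM.fit_ne_bot T)
  have hYn : normalizer (Cfsg.fittingOf W : Set G) ≤
      normalizer (Cfsg.centerThompsonOf q (Cfsg.fittingOf W) : Set G) := by
    rw [GlaubermanZJ.centerThompsonOf_eq]
    exact GlaubermanZJ.normalizer_le_thomY _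
  have hYW : Cfsg.centerThompsonOf q (Cfsg.fittingOf W) ≤ W := by
    rw [GlaubermanZJ.centerThompsonOf_eq]
    exact (GlaubermanZJ.thomY_le _).trans (fittingOf_le W)
  rw [hP] at hn
  have hnN : n ∈ normalizer (zen W : Set G) := (sup_le (le_normalizer_zen le_normalizer) hM.cen_zen)
    (hM.norm_le_sup T hY hYW ((le_normalizer.trans (normalizer_le_fittingOf W)).trans hYn)
      (hM.cen_fit.trans hYn) hn)
  have e := hnc c₂ rfl
  have hc₂W : c₂ ∈ zen W := by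
    have e' : n⁻¹ * c₂ * n = c := by rw [e, hc₂]; group
    have := conj_mem_of hnN hc'
    rwa [← e', show n * (n⁻¹ * c₂ * n) * n⁻¹ = c₂ by group] at this
  have h1 := T.hyp.om_inf hM.two hM₂.two hvne hc (hM.zen_le_om T hc₂W) (hM₂.zen_le_om T hc₂z)
  exact hc1 (Subtype.ext (conj_eq_one_iff.1 (hc₂ ▸ h1)))

end Max

/-- **The core**: the odd core is the only invariant odd subgroup over an involution centralizer. -/
theorem eq_om (T : Tools G) {z : G} (hz : orderOf z = 2) {W : Subgroup G} (hW : Odd (Nat.card W))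
    (hn : centralizer ({z} : Set G) ≤ normalizer (W : Set G)) (hO : Om z ≤ W) : W = Om z := by
  obtain ⟨W', hM, hle⟩ := exists_max hz hW hn hO
  refine le_antisymm (hle.trans (le_of_eq ?_)) hO
  by_contra hne
  obtain ⟨p, hp, hnab⟩ := hM.exists_nonab T hne
  haveI := Fact.mk hp
  obtain ⟨v, W₂, -, -, hM₂, hne₂, -, hF₂⟩ := hM.step T hnab
  exact hM₂.no_pgroup T hne₂ hF₂

end Cfsg.Agent.GWDih33
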