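import Mathlib
import Cfsg.Agent.S0205
import Cfsg.Agent.S1229
import Cfsg.Agent.S1230
import Cfsg.Agent.S2202
import Cfsg.Agent.Lib.TransferThompson
import Cfsg.Agent.Lib.TwoFusionTools
import Cfsg.Agent.Lib.AlperinTame
import Cfsg.Agent.Lib.PTerminalExists
import Cfsg.Agent.Lib.FTGlue54
import Cfsg.Agent.Lib.EvenCyclicCentral27

/-!
The easy cases of the theorem on self-centralizing D-subgroups (S3322): `H` elementary abelian,
and `A` of 2-rank at least two.
-/

set_option autoImplicit false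
set_option linter.style.haveILetI false
set_option linter.unusedSectionVars false

namespace Cfsg.Agent.GWDihEasy15

open Subgroup
open scoped MatrixGroups

universe u

variable {G : Type u} [Group G] [Finite G]

/-! ### D-groups -/

theorem inverts {H A : Subgroup G} (hAH : A < H) (hD : ∀ x ∈ H, x ∉ A → x ^ 2 = 1) :
    ∀ x ∈ H, x ∉ A → ∀ a ∈ A, x * a * x⁻¹ = a⁻¹ := by
  intro x hx hxA a ha
  have hx2 : x * x = 1 := by rw [← pow_two]; exact hD x hx hxA
  have h1 : (x * a) * (x * a) = 1 := by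
    rw [← pow_two]
    exact hD _ (mul_mem hx (hAH.le ha)) fun h => hxA (by simpa using mul_mem h (inv_mem ha))
  rw [inv_eq_of_mul_eq_one_right hx2, eq_inv_iff_mul_eq_one]
  calc x * a * x * a = (x * a) * (x * a) := by group
    _ = 1 := h1

/-- In a D-group which is not elementary abelian, two outside elements differ by an element of `A`. -/
theorem mul_mem_A {H A : Subgroup G} (hAH : A < H) (hD : ∀ x ∈ H, x ∉ A → x ^ 2 = 1)
    (hnel : ∃ x ∈ H, x ^ 2 ≠ 1) {x y : G} (hx : x ∈ H) (hxA : x ∉ A) (hy : y ∈ H) (hyA : y ∉ A) :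
    x * y ∈ A := by
  by_contra h
  obtain ⟨b, hb, hb2⟩ := hnel
  have hbA : b ∈ A := by by_contra hc; exact hb2 (hD b hb hc)
  have h1 := inverts hAH hD _ (mul_mem hx hy) h b hbA
  have h2 : x * y * b * (x * y)⁻¹ = b := by
    calc x * y * b * (x * y)⁻¹ = x * (y * b * y⁻¹) * x⁻¹ := by group
      _ = x * b⁻¹ * x⁻¹ := by rw [inverts hAH hD y hy hyA b hbA]
      _ = b := by rw [inverts hAH hD x hx hxA _ (inv_mem hbA), inv_inv]
  exact hb2 (by rw [pow_two]; exact mul_eq_one_iff_eq_inv.2 (h2.symm.trans h1))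

theorem relIndex_two {H A : Subgroup G} (hAH : A < H) (hD : ∀ x ∈ H, x ∉ A → x ^ 2 = 1)
    (hnel : ∃ x ∈ H, x ^ 2 ≠ 1) : A.relIndex H = 2 := by
  obtain ⟨x, hx, hxA⟩ := SetLike.exists_of_lt hAH
  rw [Subgroup.relIndex, index_eq_two_iff]
  refine ⟨⟨x, hx⟩, fun b => ?_⟩
  simp only [mem_subgroupOf, coe_mul]
  by_cases hb : (b : G) ∈ A
  · exact Or.inr ⟨hb, fun h => hxA (by simpa using mul_mem (inv_mem hb) h)⟩
  · exact Or.inl ⟨mul_mem_A hAH hD hnel b.2 hb hx hxA, hb⟩

theorem abelian {H A : Subgroup G} (hAH : A < H) (hD : ∀ x ∈ H, x ∉ A → x ^ 2 = 1) {a b : G}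
    (ha : a ∈ A) (hb : b ∈ A) : a * b = b * a := by
  obtain ⟨x, hx, hxA⟩ := SetLike.exists_of_lt hAH
  have h := inverts hAH hD x hx hxA
  have h1 : (a * b)⁻¹ = a⁻¹ * b⁻¹ := by
    rw [← h _ (mul_mem ha hb), ← h a ha, ← h b hb]; group
  calc a * b = ((a * b)⁻¹)⁻¹ := (inv_inv _).symm
    _ = (a⁻¹ * b⁻¹)⁻¹ := by rw [h1]
    _ = b * a := by group

theorem conj_mem {H A : Subgroup G} (hAH : A < H) (hD : ∀ x ∈ H, x ∉ A → x ^ 2 = 1) {g a : G}
    (hg : g ∈ H) (ha : a ∈ A) : g * a * g⁻¹ ∈ A := by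
  by_cases hgA : g ∈ A
  · exact mul_mem (mul_mem hgA ha) (inv_mem hgA)
  · rw [inverts hAH hD g hg hgA a ha]; exact inv_mem ha

/-- An element normalizing `H` normalizes `A`. -/
theorem conj_A {H A : Subgroup G} (hAH : A < H) (hD : ∀ x ∈ H, x ∉ A → x ^ 2 = 1)
    (hnel : ∃ x ∈ H, x ^ 2 ≠ 1) {g : G} (hg : ∀ h ∈ H, g * h * g⁻¹ ∈ H) {a : G} (ha : a ∈ A) :
    g * a * g⁻¹ ∈ A := by
  have key : ∀ c ∈ A, c ^ 2 ≠ 1 → g * c * g⁻¹ ∈ A := fun c hc h2 => by
    by_contra h
    apply h2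
    have := hD _ (hg c (hAH.le hc)) h
    rw [conj_pow] at this
    calc c ^ 2 = g⁻¹ * (g * c ^ 2 * g⁻¹) * g := by group
      _ = 1 := by rw [this]; group
  obtain ⟨b, hb, hb2⟩ := hnel
  have hbA : b ∈ A := by by_contra hc; exact hb2 (hD b hb hc)
  by_cases h : a ^ 2 = 1
  · have hab : (a * b) ^ 2 ≠ 1 := by
      rw [Commute.mul_pow (abelian hAH hD ha hbA), h, one_mul]; exact hb2
    have h1 := mul_mem (key _ (mul_mem ha hbA) hab) (inv_mem (key b hbA hb2))
    rwa [show g * (a * b) * g⁻¹ * (g * b * g⁻¹)⁻¹ = g * a * g⁻¹ by group] at h1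
  · exact key a ha h

theorem dgroup_facts {H A : Subgroup G} (hAH : A < H) (hD : ∀ x ∈ H, x ∉ A → x ^ 2 = 1)
    (hnel : ∃ x ∈ H, x ^ 2 ≠ 1) :
    A.relIndex H = 2 ∧ (∀ a ∈ A, ∀ b ∈ A, a * b = b * a) ∧
      (∀ x ∈ H, x ∉ A → ∀ a ∈ A, x * a * x⁻¹ = a⁻¹) ∧
      (∀ g : G, (∀ h ∈ H, g * h * g⁻¹ ∈ H) → ∀ a ∈ A, g * a * g⁻¹ ∈ A) :=
  ⟨relIndex_two hAH hD hnel, fun _ ha _ hb => abelian hAH hD ha hb, inverts hAH hD,
    fun _ hg _ ha => conj_A hAH hD hnel hg ha⟩

theorem central_of_sq {H A : Subgroup G} (hAH : A < H) (hD : ∀ x ∈ H, x ∉ A → x ^ 2 = 1) {j : G}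
    (hj : j ∈ A) (h2 : j ^ 2 = 1) : ∀ h ∈ H, h * j = j * h := by
  intro h hh
  by_cases hA : h ∈ A
  · exact abelian hAH hD hA hj
  · have := inverts hAH hD h hh hA j hj
    rw [inv_eq_of_mul_eq_one_right (show j * j = 1 by rw [← pow_two, h2])] at this
    exact mul_inv_eq_iff_eq_mul.1 this

/-! ### Generalities -/

theorem cent_conj (g t : G) {c : G} :
    c ∈ centralizer ({t} : Set G) ↔ g * c * g⁻¹ ∈ centralizer ({g * t * g⁻¹} : Set G) := by
  rw [mem_centralizer_singleton_iff, mem_centralizer_singleton_iff]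
  constructor
  · intro h
    calc g * c * g⁻¹ * (g * t * g⁻¹) = g * (c * t) * g⁻¹ := by group
      _ = g * (t * c) * g⁻¹ := by rw [h]
      _ = g * t * g⁻¹ * (g * c * g⁻¹) := by group
  · intro h
    calc c * t = g⁻¹ * (g * c * g⁻¹ * (g * t * g⁻¹)) * g := by group
      _ = g⁻¹ * (g * t * g⁻¹ * (g * c * g⁻¹)) * g := by rw [h]
      _ = t * c := by group

theorem order_conj (g x : G) : orderOf (g * x * g⁻¹) = orderOf x :=
  orderOf_injective (MulAut.conj g).toMonoidHom (MulAut.conj g).injective x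

theorem sq_of_order {t : G} (ht : orderOf t = 2) : t ^ 2 = 1 := by rw [← ht, pow_orderOf_eq_one]

theorem exists_conj_mem_sylow (P : Sylow 2 G) {t : G} (ht : orderOf t = 2) :
    ∃ g : G, g * t * g⁻¹ ∈ (P : Subgroup G) := by
  have hp : IsPGroup 2 (zpowers t) := IsPGroup.of_card (n := 1) (by rw [Nat.card_zpowers, ht, pow_one])
  obtain ⟨Q, hQ⟩ := hp.exists_le_sylow
  obtain ⟨g, rfl⟩ := MulAction.exists_smul_eq G Q P
  refine ⟨g, ?_⟩
  rw [Sylow.coe_subgroup_smul, ← SetLike.mem_coe, Subgroup.coe_pointwise_smul]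
  exact ⟨t, hQ (mem_zpowers t), by simp [MulAut.conj_apply]⟩

theorem solvable_of_normal_sylow (T : Sylow 2 G) (h : (T : Subgroup G).Normal) :
    Group.IsSolvable G := by
  haveI := h
  refine FTGlue54.solvable_of_normal (T : Subgroup G) ?_ (S0205.result ?_)
  · haveI : Fact (Nat.Prime 2) := ⟨Nat.prime_two⟩
    haveI := T.isPGroup'.isNilpotent
    infer_instance
  · rw [← Subgroup.index_eq_card, Nat.odd_iff, ← Nat.two_dvd_ne_zero]
    exact T.not_dvd_index

theorem solvable_of_cyclic_sylow (T : Sylow 2 G) (h : IsCyclic (T : Subgroup G)) :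
    Group.IsSolvable G := by
  have hc : IsCyclic ((T : Subgroup G).subgroupOf ⊤) :=
    (subgroupOfEquivOfLe (le_top : (T : Subgroup G) ≤ ⊤)).isCyclic.2 h
  obtain ⟨P, N, hN, hcomp⟩ :=
    TwoFusionTools.hasNormalPComplement_of_cyclic T ⊤ (a := 0) (by simp) hc
  haveI := hN
  have hodd : Odd (Nat.card N) := by
    rw [← hcomp.index_eq_card, Nat.odd_iff, ← Nat.two_dvd_ne_zero]
    exact P.not_dvd_index
  refine FTGlue54.solvable_of_normal N (S0205.result hodd) ?_
  haveI : Fact (Nat.Prime 2) := ⟨Nat.prime_two⟩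
  obtain ⟨k, hk⟩ := P.isPGroup'.exists_card_eq
  have hq : IsPGroup 2 (G ⧸ N) :=
    IsPGroup.of_card (n := k) (by rw [← hk, ← hcomp.symm.index_eq_card]; rfl)
  haveI := hq.isNilpotent
  infer_instance

/-- If `H` is a 2-group containing the centralizers of all its involutions, it is a Sylow
subgroup; more generally `P ⊓ H` is all of `P`. -/
theorem sylow_le (H : Subgroup G) (P : Sylow 2 G) (R : Subgroup G) (hR : R ≠ ⊥)
    (hRP : R ≤ (P : Subgroup G) ⊓ H) (hRc : ∀ r ∈ R, orderOf r = 2 → centralizer ({r} : Set G) ≤ H)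
    (hRn : ∀ g ∈ (P : Subgroup G), g ∈ normalizer (((P : Subgroup G) ⊓ H : Subgroup G) : Set G) →
      g ∈ normalizer (R : Set G)) : (P : Subgroup G) ≤ H := by
  haveI : Fact (Nat.Prime 2) := ⟨Nat.prime_two⟩
  by_contra hne
  have hlt : (P : Subgroup G) ⊓ H < (P : Subgroup G) :=
    lt_of_le_of_ne inf_le_left fun e => hne (e ▸ inf_le_right)
  have h2 := Cfsg.Agent.AlperinTame.lt_normalizer_inf P.isPGroup' hlt
  obtain ⟨z, hzR, hz, hzc⟩ := PTerminalExists.exists_central_of_normal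
    (Q := (P : Subgroup G) ⊓ normalizer (((P : Subgroup G) ⊓ H : Subgroup G) : Set G)) (R := R)
    (P.isPGroup'.to_le inf_le_left) (hRP.trans h2.le) hR (fun g hg => hRn g hg.1 hg.2)
  refine h2.not_ge (le_inf inf_le_left fun q hq => hRc z hzR hz ?_)
  exact mem_centralizer_singleton_iff.2 (hzc q hq)

/-! ### The elementary case -/

theorem elementary (H : Subgroup G) (h4 : 4 ∣ Nat.card ↥H)
    (hC : ∀ j ∈ H, orderOf j = 2 → (∀ h ∈ H, h * j = j * h) →
      centralizer ({j} : Set G) = H)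
    (hns : ¬ Group.IsSolvable G) (hel : ∀ x ∈ H, x ^ 2 = 1) :
    ∃ (N : Subgroup G) (_ : N.Normal), (Odd (Nat.card ↥N) ∨ ∃ m : ℕ, Odd m ∧ Nat.card ↥N = 2 * m) ∧
      ∃ (F : Type) (_ : Field F) (_ : Fintype F), 3 < Fintype.card F ∧
        (Nonempty (G ⧸ N ≃* Matrix.ProjectiveSpecialLinearGroup (Fin 2) F) ∨
          Nonempty (G ⧸ N ≃* Matrix.ProjGenLinGroup (Fin 2) F)) := by
  haveI : Fact (Nat.Prime 2) := ⟨Nat.prime_two⟩
  have hcomm : ∀ a ∈ H, ∀ b ∈ H, a * b = b * a := fun a ha b hb => by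
    have h1 := hel _ (mul_mem ha hb)
    have i1 := inv_eq_of_mul_eq_one_right (show a * a = 1 by rw [← pow_two]; exact hel a ha)
    have i2 := inv_eq_of_mul_eq_one_right (show b * b = 1 by rw [← pow_two]; exact hel b hb)
    rw [pow_two, mul_eq_one_iff_eq_inv, mul_inv_rev, i1, i2] at h1
    exact h1
  have hcent : ∀ j ∈ H, orderOf j = 2 → centralizer ({j} : Set G) = H := fun j hj ho =>
    hC j hj ho fun h hh => hcomm h hh j hj
  have hpH : IsPGroup 2 H := fun h => ⟨1, Subtype.ext (by simpa using hel h h.2)⟩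
  obtain ⟨P, hHP⟩ := hpH.exists_le_sylow
  have hPH : (P : Subgroup G) ≤ H := by
    refine sylow_le H P H ?_ (le_inf hHP le_rfl) (fun r hr ho => (hcent r hr ho).le) ?_
    · rintro rfl
      simp at h4
    · intro g _ hg
      rwa [inf_eq_right.2 hHP] at hg
  have hPe : (P : Subgroup G) = H := le_antisymm hPH hHP
  have h4le : 4 ≤ Nat.card (P : Subgroup G) := by rw [hPe]; exact Nat.le_of_dvd Nat.card_pos h4
  have hnc : ¬ IsCyclic (P : Subgroup G) := fun hc => hns (solvable_of_cyclic_sylow P hc)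
  have hnn : ¬ (P : Subgroup G).Normal := fun h => hns (solvable_of_normal_sylow P h)
  have hCt : ∀ t : G, orderOf t = 2 → IsMulCommutative (centralizer ({t} : Set G)) ∧
      ∀ c ∈ centralizer ({t} : Set G), c ^ 2 = 1 := by
    intro t ht
    obtain ⟨g, hg⟩ := exists_conj_mem_sylow P ht
    have hH := hcent _ (hPH hg) ((order_conj g t).trans ht)
    have key : ∀ c ∈ centralizer ({t} : Set G), g * c * g⁻¹ ∈ H := fun c hc =>
      hH ▸ (cent_conj g t).1 hc
    refine ⟨⟨⟨fun a b => Subtype.ext ?_⟩⟩, fun c hc => ?_⟩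
    · have := hcomm _ (key a a.2) _ (key b b.2)
      calc (a : G) * b = g⁻¹ * (g * a * g⁻¹ * (g * b * g⁻¹)) * g := by group
        _ = g⁻¹ * (g * b * g⁻¹ * (g * a * g⁻¹)) * g := by rw [this]
        _ = b * a := by group
    · have := hel _ (key c hc)
      rw [conj_pow] at this
      calc c ^ 2 = g⁻¹ * (g * c ^ 2 * g⁻¹) * g := by group
        _ = 1 := by rw [this]; group
  obtain ⟨F, iF, iF', hF, ⟨e⟩⟩ := S1230.result P hnc hnn hCt
  exact ⟨⊥, inferInstance, Or.inl (by simp), F, iF, iF', by omega,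
    Or.inl ⟨QuotientGroup.quotientBot.trans e⟩⟩

/-! ### Automorphisms fixing a Sylow 2-subgroup pointwise -/

/-- In a group with elementary abelian involution centralizers, two nontrivial elements of the
Sylow 2-subgroup are conjugate in its normalizer, and an automorphism centralizing it is inner
by one of its elements. -/
theorem sylow_rigid {L : Type u} [Group L] [Finite L] (T : Sylow 2 L)
    (hnc : ¬ IsCyclic (T : Subgroup L)) (hnn : ¬ (T : Subgroup L).Normal)
    (hC : ∀ t : L, orderOf t = 2 → IsMulCommutative (centralizer ({t} : Set L)) ∧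
      ∀ c ∈ centralizer ({t} : Set L), c ^ 2 = 1) :
    (∀ s ∈ (T : Subgroup L), s ≠ 1 → ∀ t ∈ (T : Subgroup L), t ≠ 1 →
      ∃ d ∈ normalizer ((T : Subgroup L) : Set L), d * s * d⁻¹ = t) ∧
    ∀ φ : L ≃* L, (∀ s ∈ (T : Subgroup L), φ s = s) →
      ∃ v ∈ (T : Subgroup L), ∀ l, φ l = v * l * v⁻¹ := by
  classical
  obtain ⟨h3, hfix, hreg⟩ := S1229.result T hnc hnn hC
  set N := normalizer ((T : Subgroup L) : Set L) with hN
  set x0 : L ⧸ N := QuotientGroup.mk 1 with hx0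
  have hx0iff : ∀ l : L, (QuotientGroup.mk l : L ⧸ N) = x0 ↔ l ∈ N := fun l => by
    rw [hx0, eq_comm, QuotientGroup.eq]; simp
  have hsmul : ∀ a b : L, a • (QuotientGroup.mk b : L ⧸ N) = QuotientGroup.mk (a * b) := fun a b => rfl
  have hstab : ∀ d : L, d • x0 = x0 ↔ d ∈ N := fun d => by
    rw [show d • x0 = (QuotientGroup.mk (d * 1) : L ⧸ N) from rfl, mul_one]; exact hx0iff d
  obtain ⟨l1, hl1⟩ : ∃ l1, l1 ∉ N := by
    by_contra h
    simp only [not_exists, not_not] at h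
    exact hnn (normalizer_eq_top_iff.1 (eq_top_iff.2 fun x _ => h x))
  set y : L ⧸ N := QuotientGroup.mk l1 with hy
  have hy0 : y ≠ x0 := fun e => hl1 ((hx0iff l1).1 e)
  have hTN : (T : Subgroup L) ≤ N := le_normalizer
  have hT0 : ∀ s ∈ (T : Subgroup L), s • x0 = x0 := fun s hs => (hstab s).2 (hTN hs)
  have hne : ∀ s ∈ (T : Subgroup L), s • y ≠ x0 := fun s hs e =>
    hy0 (smul_left_cancel s (e.trans (hT0 s hs).symm))
  have huniq : ∀ s ∈ (T : Subgroup L), ∀ t ∈ (T : Subgroup L), s • y = t • y → s = t := by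
    intro s hs t ht e
    obtain ⟨w, -, hw⟩ := hreg y (s • y) hy0 (hne s hs)
    exact (hw s ⟨hs, rfl⟩).trans (hw t ⟨ht, e.symm⟩).symm
  have hne1 : ∀ s ∈ (T : Subgroup L), s ≠ 1 → y ≠ s • y := fun s hs h1 e =>
    h1 (huniq s hs 1 (one_mem _) (by rw [one_smul, ← e]))
  refine ⟨fun s hs hs1 t ht ht1 => ?_, fun φ hφ => ?_⟩
  · obtain ⟨d, d0, d1, d2⟩ := h3 x0 y (s • y) x0 y (t • y) hy0.symm (hne s hs).symm (hne1 s hs hs1)
      hy0.symm (hne t ht).symm (hne1 t ht ht1)
    have hdN : d ∈ N := (hstab d).1 d0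
    have hdT : d * s * d⁻¹ ∈ (T : Subgroup L) := (mem_normalizer_iff.1 hdN s).1 hs
    refine ⟨d, hdN, huniq _ hdT t ht ?_⟩
    have d1' : d⁻¹ • y = y := by rw [inv_smul_eq_iff, d1]
    rw [mul_smul, d1', mul_smul, d2]
  · have hφN : ∀ l, φ l ∈ N ↔ l ∈ N := by
      have hs : ∀ s, φ s ∈ (T : Subgroup L) ↔ s ∈ (T : Subgroup L) := fun s =>
        ⟨fun h => by
          have := hφ _ h
          rw [φ.injective this] at h
          exact h, fun h => by rw [hφ s h]; exact h⟩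
      intro l
      rw [hN, mem_normalizer_iff, mem_normalizer_iff]
      constructor
      · intro h s
        rw [← hs s, ← hs (l * s * l⁻¹), map_mul, map_mul, map_inv]
        exact h (φ s)
      · intro h s
        obtain ⟨s, rfl⟩ := φ.surjective s
        rw [hs, show φ l * φ s * (φ l)⁻¹ = φ (l * s * l⁻¹) by simp, hs]
        exact h s
    obtain ⟨v, ⟨hv, hvy⟩, -⟩ := hreg y (QuotientGroup.mk (φ l1)) hy0
      (fun e => hl1 ((hφN l1).1 ((hx0iff _).1 e)))
    refine ⟨v, hv, ?_⟩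
    obtain ⟨ψ, hψ⟩ : ∃ ψ : L →* L, ∀ l, ψ l = v⁻¹ * φ l * v :=
      ⟨(MulAut.conj v⁻¹).toMonoidHom.comp φ.toMonoidHom, fun l => by simp⟩
    have hcommT : ∀ s ∈ (T : Subgroup L), ψ s = s := by
      intro s hs
      have hv' : v⁻¹ * s * v = s := by
        by_cases hv1 : v = 1
        · simp [hv1]
        · have hT2 : ∀ a ∈ (T : Subgroup L), ∀ b ∈ (T : Subgroup L), a * b = b * a :=
            fun a ha b hb => ((ElemCentralizerGroup.Hyp.mk hnc hnn hC).comm ha hb).1
          rw [mul_assoc, hT2 s hs v hv]; group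
      rw [hψ, hφ s hs, hv']
    have hψN : ∀ n ∈ N, ψ n ∈ N := fun n hn => by
      rw [hψ]
      exact mul_mem (mul_mem (inv_mem (hTN hv)) ((hφN n).2 hn)) (hTN hv)
    have hψ1 : (QuotientGroup.mk (ψ l1) : L ⧸ N) = y := by
      have e1 : (QuotientGroup.mk (ψ l1) : L ⧸ N) = QuotientGroup.mk (v⁻¹ * φ l1) := by
        rw [hψ, QuotientGroup.eq]
        rw [show (v⁻¹ * φ l1 * v)⁻¹ * (v⁻¹ * φ l1) = v⁻¹ by group]
        exact inv_mem (hTN hv)
      rw [e1, ← hsmul, ← hvy, inv_smul_smul]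
    have hall : ∀ l, (QuotientGroup.mk (ψ l) : L ⧸ N) = QuotientGroup.mk l := by
      intro l
      by_cases hl : l ∈ N
      · rw [(hx0iff l).2 hl, hx0iff]; exact hψN l hl
      · obtain ⟨w, ⟨hw, hwy⟩, -⟩ := hreg y (QuotientGroup.mk l) hy0 (fun e => hl ((hx0iff l).1 e))
        rw [hy, hsmul, QuotientGroup.eq] at hwy
        have h1 : (QuotientGroup.mk (ψ l) : L ⧸ N) = QuotientGroup.mk (w * ψ l1) := by
          rw [eq_comm, QuotientGroup.eq]
          have := hψN _ hwy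
          rwa [map_mul, map_inv, map_mul, hcommT w hw] at this
        rw [h1, ← hsmul, hψ1, hy, hsmul, QuotientGroup.eq]
        exact hwy
    obtain ⟨s, hs, hs1⟩ := (ElemCentralizerGroup.Hyp.mk hnc hnn hC).exists_involution
    intro m
    have hm : ∀ l, (m⁻¹ * ψ m) • (QuotientGroup.mk l : L ⧸ N) = QuotientGroup.mk l := by
      intro l
      have h1 : ψ m • (QuotientGroup.mk l : L ⧸ N) = m • QuotientGroup.mk l := by
        conv_lhs => rw [← hall l]
        rw [hsmul, ← map_mul, hall, hsmul]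
      rw [mul_smul, h1, inv_smul_smul]
    have := hfix (m⁻¹ * ψ m) x0 y (s • y) hy0.symm (hne s hs).symm (hne1 s hs hs1) (hm 1) (hm l1)
      (by rw [hy, hsmul]; exact hm _)
    rw [inv_mul_eq_one, hψ] at this
    calc φ m = v * (v⁻¹ * φ m * v) * v⁻¹ := by group
      _ = v * m * v⁻¹ := by rw [← this]

/-! ### The case of 2-rank at least two -/

theorem two_rank (H A : Subgroup G) (hAH : A < H) (hD : ∀ x ∈ H, x ∉ A → x ^ 2 = 1)
    (hC : ∀ j ∈ H, orderOf j = 2 → (∀ h ∈ H, h * j = j * h) →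
      centralizer ({j} : Set G) = H)
    (hns : ¬ Group.IsSolvable G) (hnel : ∃ x ∈ H, x ^ 2 ≠ 1)
    (hr : ∃ a ∈ A, ∃ b ∈ A, orderOf a = 2 ∧ orderOf b = 2 ∧ a ≠ b) :
    ∃ (N : Subgroup G) (_ : N.Normal), (Odd (Nat.card ↥N) ∨ ∃ m : ℕ, Odd m ∧ Nat.card ↥N = 2 * m) ∧
      ∃ (F : Type) (_ : Field F) (_ : Fintype F), 3 < Fintype.card F ∧
        (Nonempty (G ⧸ N ≃* Matrix.ProjectiveSpecialLinearGroup (Fin 2) F) ∨
          Nonempty (G ⧸ N ≃* Matrix.ProjGenLinGroup (Fin 2) F)) := by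
  classical
  haveI : Fact (Nat.Prime 2) := ⟨Nat.prime_two⟩
  have h2A := relIndex_two hAH hD hnel
  have hjC : ∀ j ∈ A, orderOf j = 2 → centralizer ({j} : Set G) = H := fun j hj ho =>
    hC j (hAH.le hj) ho (central_of_sq hAH hD hj (sq_of_order ho))
  -- an outside involution is never conjugate into `A`
  have fus : ∀ x ∈ H, x ∉ A → ∀ g : G, g * x * g⁻¹ ∉ A := by
    intro x hx hxA g hgA
    have hx2 : orderOf x = 2 := orderOf_eq_prime (hD x hx hxA) fun e => hxA (e ▸ one_mem A)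
    have hCg := hjC _ hgA ((order_conj g x).trans hx2)
    have hk : ∀ c ∈ A, c ^ 2 = 1 → g * c * g⁻¹ ∈ H := fun c hc h2 => hCg ▸ (cent_conj g x).1
      (mem_centralizer_singleton_iff.2 (central_of_sq hAH hD hc h2 x hx).symm)
    obtain ⟨a, ha, b, hb, hao, hbo, hab⟩ := hr
    have habo : (a * b) ^ 2 = 1 := by
      rw [Commute.mul_pow (abelian hAH hD ha hb), sq_of_order hao, sq_of_order hbo, one_mul]
    have hab1 : a * b ≠ 1 := fun e => hab (by
      rw [mul_eq_one_iff_eq_inv] at e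
      rw [e, inv_eq_of_mul_eq_one_right (show b * b = 1 by rw [← pow_two, sq_of_order hbo])])
    obtain ⟨i, hiA, hio, hgi⟩ : ∃ i ∈ A, orderOf i = 2 ∧ g * i * g⁻¹ ∈ A := by
      by_cases h1 : g * a * g⁻¹ ∈ A
      · exact ⟨a, ha, hao, h1⟩
      by_cases h2 : g * b * g⁻¹ ∈ A
      · exact ⟨b, hb, hbo, h2⟩
      refine ⟨a * b, mul_mem ha hb, orderOf_eq_prime habo hab1, ?_⟩
      have := mul_mem_A hAH hD hnel (hk a ha (sq_of_order hao)) h1 (hk b hb (sq_of_order hbo)) h2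
      rwa [show g * a * g⁻¹ * (g * b * g⁻¹) = g * (a * b) * g⁻¹ by group] at this
    have hnorm : ∀ h ∈ H, g⁻¹ * h * g⁻¹⁻¹ ∈ H := by
      intro h hh
      rw [← hjC i hiA hio, cent_conj g i, hjC _ hgi ((order_conj g i).trans hio)]
      rwa [show g * (g⁻¹ * h * g⁻¹⁻¹) * g⁻¹ = h by group]
    refine hxA ?_
    have := conj_A hAH hD hnel hnorm hgA
    rwa [show g⁻¹ * (g * x * g⁻¹) * g⁻¹⁻¹ = x by group] at this
  -- the involutions of `A`
  let R : Subgroup G :=
    { carrier := {a | a ∈ A ∧ a ^ 2 = 1}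
      one_mem' := ⟨one_mem _, one_pow _⟩
      mul_mem' := fun {a b} ha hb => ⟨mul_mem ha.1 hb.1,
        by rw [Commute.mul_pow (abelian hAH hD ha.1 hb.1), ha.2, hb.2, one_mul]⟩
      inv_mem' := fun {a} ha => ⟨inv_mem ha.1, by rw [inv_pow, ha.2, inv_one]⟩ }
  have hRH : R ≤ H := fun a ha => hAH.le ha.1
  have hRp : IsPGroup 2 (R.subgroupOf H) := fun a =>
    ⟨1, Subtype.ext (Subtype.ext (by simpa using a.2.2))⟩
  obtain ⟨S0, hS0⟩ := hRp.exists_le_sylow
  obtain ⟨P, hP⟩ := ((S0.isPGroup').map H.subtype).exists_le_sylow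
  have hRP : R ≤ (P : Subgroup G) := fun a ha => hP ⟨⟨a, hRH ha⟩, hS0 ha, rfl⟩
  have hPH : (P : Subgroup G) ≤ H := by
    refine sylow_le H P R ?_ (le_inf hRP hRH) (fun r hr' ho => (hjC r hr'.1 ho).le) ?_
    · obtain ⟨a, ha, b, hb, hao, -, -⟩ := hr
      intro e
      have : a ∈ R := ⟨ha, sq_of_order hao⟩
      rw [e, mem_bot] at this
      rw [this, orderOf_one] at hao
      exact absurd hao (by norm_num)
    · intro g _ hgN
      have key : ∀ a ∈ R, g * a * g⁻¹ ∈ R := by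
        intro a ha
        have h1 : g * a * g⁻¹ ∈ (P : Subgroup G) ⊓ H :=
          (mem_normalizer_iff.1 hgN a).1 ⟨hRP ha, hRH ha⟩
        have h2 : (g * a * g⁻¹) ^ 2 = 1 := by rw [conj_pow, ha.2]; group
        refine ⟨?_, h2⟩
        by_contra hA'
        apply fus _ h1.2 hA' g⁻¹
        rw [show g⁻¹ * (g * a * g⁻¹) * g⁻¹⁻¹ = a by group]
        exact ha.1
      exact mem_normalizer_fintype key
  -- the normal subgroup `G₀`
  let G0 : Subgroup G := ⨅ M : {M : Subgroup G // M.Normal ∧ M.index = 2}, M.1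
  haveI hG0n : G0.Normal := normal_iInf_normal fun M => M.2.1
  have hsq : ∀ g : G, g * g ∈ G0 := fun g => mem_iInf.2 fun M => mul_self_mem_of_index_two M.2.2 g
  have hG0sol : ¬ Group.IsSolvable ↥G0 := by
    intro h
    refine hns (FTGlue54.solvable_of_normal G0 h ?_)
    have hq : ∀ x : G ⧸ G0, x * x = 1 := fun x => by
      induction x using QuotientGroup.induction_on with
      | H g => exact (QuotientGroup.eq_one_iff _).2 (hsq g)
    refine isSolvable_of_comm fun x y => ?_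
    have e := fun z => inv_eq_of_mul_eq_one_right (hq z)
    calc x * y = (x * y)⁻¹ := (e _).symm
      _ = y * x := by rw [mul_inv_rev, e x, e y]
  have hPA : ∃ x, x ∈ (P : Subgroup G) ∧ x ∉ A := by
    obtain ⟨x, hx, hxA⟩ := SetLike.exists_of_lt hAH
    have hxo : orderOf (⟨x, hx⟩ : H) = 2 :=
      orderOf_eq_prime (Subtype.ext (by simpa using hD x hx hxA))
        (fun e => hxA (by rw [show x = 1 from congrArg Subtype.val e]; exact one_mem A))
    obtain ⟨g, hg⟩ := exists_conj_mem_sylow (P.subtype hPH) hxo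
    refine ⟨_, (mem_subgroupOf.1 hg : (g : G) * x * (g : G)⁻¹ ∈ (P : Subgroup G)),
      fun h => hxA ?_⟩
    have := conj_mem hAH hD (inv_mem g.2) h
    simp only [coe_mul, coe_inv] at this
    rwa [show (g : G)⁻¹ * ((g : G) * x * (g : G)⁻¹) * (g : G)⁻¹⁻¹ = x by group] at this
  have hG0P : G0 ⊓ (P : Subgroup G) ≤ A := by
    rintro t ⟨ht0, htP⟩
    by_contra htA
    have hto : orderOf t = 2 := orderOf_eq_prime (hD t (hPH htP) htA) fun e => htA (e ▸ one_mem A)
    have hQ : ((P : Subgroup G) ⊓ A).relIndex (P : Subgroup G) = 2 := by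
      rw [inf_relIndex_left]
      obtain ⟨x, hxP, hxA⟩ := hPA
      rw [Subgroup.relIndex, index_eq_two_iff]
      refine ⟨⟨x, hxP⟩, fun c => ?_⟩
      simp only [mem_subgroupOf, coe_mul]
      by_cases hc : (c : G) ∈ A
      · exact Or.inr ⟨hc, fun h => hxA (by simpa using mul_mem (inv_mem hc) h)⟩
      · exact Or.inl ⟨mul_mem_A hAH hD hnel (hPH c.2) hc (hPH hxP) hxA, hc⟩
    obtain ⟨M, hMn, hM2, htM⟩ := TransferThompson.thompson_transfer P ((P : Subgroup G) ⊓ A)
      inf_le_left hQ hto htP (fun g h => fus t (hPH htP) htA g h.2)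
    exact htM (mem_iInf.1 ht0 ⟨M, hMn, hM2⟩)
  have hHG0 : H ⊓ G0 ≤ A := by
    rintro t ⟨htH, ht0⟩
    by_contra htA
    have hto : orderOf (⟨t, htH⟩ : H) = 2 :=
      orderOf_eq_prime (Subtype.ext (by simpa using hD t htH htA))
        (fun e => htA (by rw [show t = 1 from congrArg Subtype.val e]; exact one_mem A))
    obtain ⟨g, hg⟩ := exists_conj_mem_sylow (P.subtype hPH) hto
    have h1 : (g : G) * t * (g : G)⁻¹ ∈ A :=
      hG0P ⟨hG0n.conj_mem _ ht0 _, mem_subgroupOf.1 hg⟩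
    have := conj_mem hAH hD (inv_mem g.2) h1
    rw [show (g : G)⁻¹ * ((g : G) * t * (g : G)⁻¹) * (g : G)⁻¹⁻¹ = t by group] at this
    exact htA this
  have hcentG0 : ∀ t ∈ G0, orderOf t = 2 → ∃ g : G, g * t * g⁻¹ ∈ A ∧
      ∀ c ∈ G0, c * t = t * c → g * c * g⁻¹ ∈ A := by
    intro t ht hto
    obtain ⟨g, hg⟩ := exists_conj_mem_sylow P hto
    have h1 : g * t * g⁻¹ ∈ A := hG0P ⟨hG0n.conj_mem t ht g, hg⟩
    refine ⟨g, h1, fun c hc hct => hHG0 ⟨?_, hG0n.conj_mem c hc g⟩⟩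
    rw [← hjC _ h1 ((order_conj g t).trans hto)]
    exact (cent_conj g t).1 (mem_centralizer_singleton_iff.2 hct)
  have habG0 : ∀ t : G0, orderOf t = 2 → IsMulCommutative ↥(centralizer ({t} : Set G0)) := by
    intro t hto
    obtain ⟨g, -, hg⟩ := hcentG0 t t.2 (by rwa [orderOf_coe])
    refine ⟨⟨fun a b => Subtype.ext (Subtype.ext ?_)⟩⟩
    have ha := hg _ a.1.2 (congrArg Subtype.val (mem_centralizer_singleton_iff.1 a.2))
    have hb := hg _ b.1.2 (congrArg Subtype.val (mem_centralizer_singleton_iff.1 b.2))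
    calc ((a : G0) : G) * ((b : G0) : G)
        = g⁻¹ * (g * (a : G0) * g⁻¹ * (g * (b : G0) * g⁻¹)) * g := by group
      _ = g⁻¹ * (g * (b : G0) * g⁻¹ * (g * (a : G0) * g⁻¹)) * g := by rw [abelian hAH hD ha hb]
      _ = ((b : G0) : G) * ((a : G0) : G) := by group
  have hG0even : Even (Nat.card G0) := by
    rw [← Nat.not_odd_iff_even]
    exact fun h => hG0sol (S0205.result h)
  have hP0p : IsPGroup 2 ((P : Subgroup G).subgroupOf G0) := P.2.comap_subtype
  obtain ⟨U0, hU0⟩ : ∃ U0 : Sylow 2 G0, (U0 : Subgroup G0) = (P : Subgroup G).subgroupOf G0 :=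
    ⟨hP0p.toSylow (TwoFusionTools.not_dvd_relIndex P G0), rfl⟩
  have hU0A : ∀ s : G0, s ∈ (U0 : Subgroup G0) → (s : G) ∈ A := fun s hs =>
    hG0P ⟨s.2, mem_subgroupOf.1 (hU0 ▸ hs)⟩
  rcases S2202.result hG0even habG0 with h | h | ⟨K, iK, iK', B, iB, iB', hK2, hBodd, ⟨e⟩⟩
  · exact absurd (solvable_of_cyclic_sylow U0 (h U0)) hG0sol
  · exact absurd (solvable_of_normal_sylow U0 (h U0)) hG0sol
  -- elementary centralizers
  have hBinv : ∀ b : B, orderOf b ∣ 2 → b = 1 := fun b hb =>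
    orderOf_eq_one_iff.1 (Nat.eq_one_of_dvd_coprimes
      (Nat.coprime_two_right.2 (hBodd.of_dvd_nat (orderOf_dvd_natCard b))) dvd_rfl hb)
  have hel : ∀ {s : G0}, s ∈ (U0 : Subgroup G0) → s * s = 1 := by
    intro s hs
    obtain ⟨k, hk⟩ := U0.isPGroup' ⟨s, hs⟩
    have hk' : s ^ 2 ^ k = 1 := congrArg Subtype.val hk
    clear hk
    induction k with
    | zero => rw [pow_zero, pow_one] at hk'; simp [hk']
    | succ n ih =>
      rcases Nat.eq_zero_or_pos n with rfl | hn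
      · simpa [pow_two] using hk'
      · apply ih
        obtain ⟨m, rfl⟩ := Nat.exists_eq_succ_of_ne_zero hn.ne'
        have hy : ((e (s ^ 2 ^ m)).1 * (e (s ^ 2 ^ m)).1) *
            ((e (s ^ 2 ^ m)).1 * (e (s ^ 2 ^ m)).1) = 1 := by
          rw [← Prod.fst_mul, ← Prod.fst_mul, ← map_mul, ← map_mul, ← pow_add, ← pow_add,
            show 2 ^ m + 2 ^ m + (2 ^ m + 2 ^ m) = 2 ^ (m + 1 + 1) by ring, hk', map_one]
          rfl
        have h1 := EvenCyclic27.sl2_sq_eq_one hy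
        have h2 : (e (s ^ 2 ^ (m + 1))).2 = 1 := hBinv _ (orderOf_dvd_of_pow_eq_one (by
          rw [← Prod.pow_snd, ← map_pow, ← pow_mul, ← pow_succ, hk', map_one]; rfl))
        apply e.injective
        rw [map_one]
        refine Prod.ext ?_ h2
        rw [show s ^ 2 ^ (m + 1) = s ^ 2 ^ m * s ^ 2 ^ m by rw [← pow_add]; ring_nf, map_mul,
          Prod.fst_mul]
        exact h1
  -- the subgroup generated by the involutions of `G₀`
  let L : Subgroup G := closure {t | t ∈ G0 ∧ orderOf t = 2}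
  haveI hLn : L.Normal := by
    refine ⟨fun x hx g => ?_⟩
    induction hx using closure_induction with
    | mem t ht => exact subset_closure ⟨hG0n.conj_mem t ht.1 g, (order_conj g t).trans ht.2⟩
    | one => simp
    | mul a b _ _ iha ihb => simpa [mul_assoc] using mul_mem iha ihb
    | inv a _ iha => simpa [mul_assoc] using inv_mem iha
  have hL0 : L ≤ G0 := (closure_le _).2 fun t ht => ht.1
  have hLsnd : ∀ l (hl : l ∈ L), (e ⟨l, hL0 hl⟩).2 = 1 := by
    intro l hl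
    induction hl using closure_induction with
    | mem t ht =>
      refine hBinv _ (orderOf_dvd_of_pow_eq_one ?_)
      rw [← Prod.pow_snd, ← map_pow, show (⟨t, ht.1⟩ : G0) ^ 2 = 1 from
        Subtype.ext (by simpa using sq_of_order ht.2), map_one]
      rfl
    | one => rw [show (⟨1, _⟩ : G0) = 1 from rfl, map_one]; rfl
    | mul a b ha hb iha ihb =>
      rw [show (⟨a * b, _⟩ : G0) = ⟨a, hL0 ha⟩ * ⟨b, hL0 hb⟩ from rfl, map_mul, Prod.snd_mul,
        iha, ihb, one_mul]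
    | inv a ha iha =>
      rw [show (⟨a⁻¹, _⟩ : G0) = (⟨a, hL0 ha⟩)⁻¹ from rfl, map_inv, Prod.snd_inv, iha, inv_one]
  have hU0L : ∀ s : G0, s ∈ (U0 : Subgroup G0) → (s : G) ∈ L := by
    intro s hs
    by_cases h1 : s = 1
    · rw [h1]; exact one_mem L
    · exact subset_closure ⟨s.2, by rw [orderOf_coe]; exact orderOf_eq_prime (by rw [pow_two]; exact hel hs) h1⟩
  have hU'p : IsPGroup 2 ((P : Subgroup G).subgroupOf L) := P.2.comap_subtype
  obtain ⟨U, hU⟩ : ∃ U : Sylow 2 L, (U : Subgroup L) = (P : Subgroup G).subgroupOf L :=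
    ⟨hU'p.toSylow (TwoFusionTools.not_dvd_relIndex P L), rfl⟩
  have hUmem : ∀ l : L, l ∈ (U : Subgroup L) → (⟨l, hL0 l.2⟩ : G0) ∈ (U0 : Subgroup G0) := fun l hl => by
    simpa [hU, hU0, mem_subgroupOf] using hl
  have hUeq : (U0 : Subgroup G0) = ((U : Subgroup L).map L.subtype).subgroupOf G0 := by
    ext s
    simp only [hU, hU0, mem_subgroupOf, mem_map, coe_subtype]
    exact ⟨fun hs => ⟨⟨s, hU0L s (by rw [hU0]; exact hs)⟩, hs, rfl⟩, fun ⟨y, hy, h⟩ => h ▸ hy⟩
  have hCel : ∀ t : L, orderOf t = 2 → IsMulCommutative (centralizer ({t} : Set L)) ∧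
      ∀ c ∈ centralizer ({t} : Set L), c ^ 2 = 1 := by
    intro t hto
    have hto' : orderOf (t : G) = 2 := by rwa [orderOf_coe]
    have hto0 : orderOf (⟨t, hL0 t.2⟩ : G0) = 2 := by rw [← orderOf_coe]; exact hto'
    refine ⟨⟨⟨fun a b => Subtype.ext (Subtype.ext ?_)⟩⟩, fun c hc => ?_⟩
    · have := (habG0 _ hto0).is_comm.comm
        ⟨⟨a.1.1, hL0 a.1.2⟩, mem_centralizer_singleton_iff.2 (Subtype.ext
          (congrArg Subtype.val (mem_centralizer_singleton_iff.1 a.2) :))⟩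
        ⟨⟨b.1.1, hL0 b.1.2⟩, mem_centralizer_singleton_iff.2 (Subtype.ext
          (congrArg Subtype.val (mem_centralizer_singleton_iff.1 b.2) :))⟩
      exact congrArg (fun x => ((x.1 : G0) : G)) this
    · have hs : (e ⟨t, hL0 t.2⟩).1 * (e ⟨t, hL0 t.2⟩).1 = 1 ∧ (e ⟨t, hL0 t.2⟩).1 ≠ 1 := by
        refine ⟨?_, fun h1 => ?_⟩
        · rw [← Prod.fst_mul, ← map_mul, ← pow_two, sq_of_order hto0, map_one]; rfl
        · have : (⟨t, hL0 t.2⟩ : G0) = 1 := e.injective (by
            rw [map_one]; exact Prod.ext h1 (hLsnd t t.2))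
          rw [this, orderOf_one] at hto0
          exact absurd hto0 (by norm_num)
      set c0 : G0 := ⟨c, hL0 c.2⟩
      have hc0 : Commute c0 ⟨t, hL0 t.2⟩ :=
        Subtype.ext (congrArg Subtype.val (mem_centralizer_singleton_iff.1 hc) :)
      -- the 2-power `q` with `c0 ^ q` of odd order
      obtain ⟨k, m, hm, hkm⟩ := Nat.exists_eq_two_pow_mul_odd (orderOf_pos c0).ne'
      have ho : Odd (orderOf (c0 ^ 2 ^ k)) := by
        rw [orderOf_pow' _ (pow_ne_zero _ two_ne_zero), hkm, Nat.gcd_mul_right_left,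
          Nat.mul_div_cancel_left _ (Nat.two_pow_pos k)]
        exact hm
      have hpow : c0 ^ 2 ^ k = 1 := by
        apply e.injective
        rw [map_one]
        refine Prod.ext ?_ ?_
        · refine EvenCyclic27.sl2_odd (ho.of_dvd_nat ?_) hs.1 hs.2 ?_
          · exact orderOf_map_dvd ((MonoidHom.fst _ _).comp e.toMonoidHom) _
          · exact ((hc0.pow_left _).map e.toMonoidHom).map (MonoidHom.fst _ _)
        · rw [map_pow, Prod.pow_snd, hLsnd c c.2, one_pow]; rfl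
      have hp : IsPGroup 2 (zpowers c0) := by
        obtain ⟨j, -, hj⟩ := (Nat.dvd_prime_pow Nat.prime_two).1 (orderOf_dvd_of_pow_eq_one hpow)
        exact IsPGroup.of_card (n := j) (by rw [Nat.card_zpowers, hj])
      obtain ⟨Q, hQ⟩ := hp.exists_le_sylow
      obtain ⟨g, hg⟩ := MulAction.exists_smul_eq G0 Q U0
      have hmem : g * c0 * g⁻¹ ∈ (U0 : Subgroup G0) := by
        rw [← hg, Sylow.coe_subgroup_smul, ← SetLike.mem_coe, Subgroup.coe_pointwise_smul]
        exact ⟨c0, hQ (mem_zpowers c0), by simp [MulAut.conj_apply]⟩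
      have h2 := hel hmem
      apply Subtype.ext
      have h3 : c0 * c0 = 1 := by
        calc c0 * c0 = g⁻¹ * ((g * c0 * g⁻¹) * (g * c0 * g⁻¹)) * g := by group
          _ = 1 := by rw [h2]; group
      rw [pow_two]
      simpa [c0] using congrArg Subtype.val h3
  have hUnc : ¬ IsCyclic (U : Subgroup L) := by
    intro hc
    refine hG0sol (solvable_of_cyclic_sylow U0 ?_)
    rw [hUeq]
    refine (subgroupOfEquivOfLe ?_).isCyclic.2 ?_
    · rintro _ ⟨l, -, rfl⟩; exact hL0 l.2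
    · exact (equivMapOfInjective (U : Subgroup L) L.subtype L.subtype_injective).isCyclic.1 hc
  have hUnn : ¬ (U : Subgroup L).Normal := by
    intro hn
    refine hG0sol (solvable_of_normal_sylow U0 ⟨fun s hs g => ?_⟩)
    -- every involution of `L` lies in `U`
    have hall : ∀ l : L, l ^ 2 = 1 → l ∈ (U : Subgroup L) := by
      intro l hl
      by_cases h1 : l = 1
      · rw [h1]; exact one_mem _
      · obtain ⟨g, hg⟩ := exists_conj_mem_sylow U (orderOf_eq_prime hl h1)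
        have := hn.conj_mem _ hg g⁻¹
        rwa [show g⁻¹ * (g * l * g⁻¹) * g⁻¹⁻¹ = l by group] at this
    have hsq' : (g * s * g⁻¹) ^ 2 = 1 := by rw [conj_pow, pow_two, hel hs]; group
    have hl : ((g * s * g⁻¹ : G0) : G) ∈ L := hLn.conj_mem _ (hU0L s hs) (g : G)
    have := hall ⟨_, hl⟩ (Subtype.ext (by simpa using congrArg Subtype.val hsq'))
    simpa [hU, hU0, mem_subgroupOf] using this
  obtain ⟨F, iF, iF', hFc, ⟨eL⟩⟩ := S1230.result U hUnc hUnn hCel
  obtain ⟨hfuse, hrig⟩ := sylow_rigid U hUnc hUnn hCel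
  have hUA : ∀ l : L, l ∈ (U : Subgroup L) → (l : G) ∈ A ∧ (l : G) ^ 2 = 1 := fun l hl =>
    ⟨hU0A _ (hUmem l hl), by
      rw [pow_two]; exact congrArg Subtype.val (hel (hUmem l hl))⟩
  obtain ⟨u0, hu0, hu01⟩ := (ElemCentralizerGroup.Hyp.mk hUnc hUnn hCel).exists_involution
  have hu0o : orderOf (u0 : G) = 2 :=
    orderOf_eq_prime (hUA u0 hu0).2 fun e => hu01 (Subtype.ext e)
  have hCu0 := hjC _ (hUA u0 hu0).1 hu0o
  have hHcent : ∀ h ∈ H, ∀ l : L, l ∈ (U : Subgroup L) → h * (l : G) = (l : G) * h := fun h hh l hl =>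
    central_of_sq hAH hD (hUA l hl).1 (hUA l hl).2 h hh
  let N : Subgroup G := centralizer (L : Set G)
  haveI hNn : N.Normal := Subgroup.normal_centralizer
  have hNH : N ≤ H := fun n hn => hCu0 ▸ mem_centralizer_singleton_iff.2
    ((mem_centralizer_iff.1 hn) u0 u0.2).symm
  have hLH : ¬ L ≤ H := fun h => by
    apply hUnn
    refine ⟨fun s hs g => ?_⟩
    have e1 := hHcent g (h g.2) s hs
    rw [show g * s = s * g from Subtype.ext e1, mul_inv_cancel_right]
    exact hs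
  have hNodd : Odd (Nat.card ↥(A ⊓ N : Subgroup G)) := by
    rw [← Nat.not_even_iff_odd, even_iff_two_dvd]
    intro h2
    obtain ⟨j, hj⟩ := exists_prime_orderOf_dvd_card' 2 h2
    rw [← orderOf_coe] at hj
    apply hLH
    intro l hl
    rw [← hjC j j.2.1 hj]
    exact mem_centralizer_singleton_iff.2 ((mem_centralizer_iff.1 j.2.2) l hl)
  have hNcard : Odd (Nat.card N) ∨ ∃ m : ℕ, Odd m ∧ Nat.card N = 2 * m := by
    have h1 : (A ⊓ N).relIndex N ≤ 2 := by
      rw [inf_relIndex_right, ← h2A]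
      exact relIndex_le_of_le_right hNH (by rw [h2A]; norm_num)
    have h2 := card_mul_index ((A ⊓ N).subgroupOf N)
    rw [Nat.card_congr (subgroupOfEquivOfLe (inf_le_right : A ⊓ N ≤ N)).toEquiv] at h2
    change Nat.card ↥(A ⊓ N : Subgroup G) * (A ⊓ N).relIndex N = _ at h2
    have h0 : (A ⊓ N).relIndex N ≠ 0 := index_ne_zero_of_finite
    rcases (by omega : (A ⊓ N).relIndex N = 1 ∨ (A ⊓ N).relIndex N = 2) with h | h
    · left; rw [← h2, h, mul_one]; exact hNodd
    · right; exact ⟨_, hNodd, by rw [← h2, h, mul_comm]⟩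
  -- `G = L N`
  have hsurj : ∀ g : G, ∃ l ∈ L, l⁻¹ * g ∈ N := by
    suffices hH' : ∀ h ∈ H, ∃ l ∈ L, l⁻¹ * h ∈ N by
      intro g
      -- Frattini
      obtain ⟨n, hn⟩ := MulAction.exists_smul_eq L ((MulAut.conjNormal g : MulAut L) • U) U
      set g1 : G := (n : G) * g with hg1
      have hg1U : ∀ l : L, l ∈ (U : Subgroup L) → MulAut.conjNormal g1 l ∈ (U : Subgroup L) := by
        intro l hl
        rw [← hn, Sylow.coe_subgroup_smul, ← SetLike.mem_coe, Subgroup.coe_pointwise_smul]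
        refine ⟨MulAut.conjNormal g l, ?_, Subtype.ext (by simp [hg1, mul_assoc])⟩
        rw [Sylow.pointwise_smul_def, Subgroup.coe_pointwise_smul]
        exact ⟨l, hl, rfl⟩
      set w : L := MulAut.conjNormal g1 u0
      have hw : w ∈ (U : Subgroup L) := hg1U u0 hu0
      have hw1 : w ≠ 1 := fun e1 => hu01 ((MulAut.conjNormal g1).map_eq_one_iff.1 e1)
      obtain ⟨d, -, hd⟩ := hfuse w hw hw1 u0 hu0 hu01
      have hmem : (d : G) * g1 ∈ H := by
        rw [← hCu0]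
        refine mem_centralizer_singleton_iff.2 ?_
        have := congrArg Subtype.val hd
        simp only [w, coe_mul, coe_inv, MulAut.conjNormal_apply] at this
        calc (d : G) * g1 * (u0 : G) = ((d : G) * (g1 * (u0 : G) * g1⁻¹) * (d : G)⁻¹) * ((d : G) * g1) := by
              group
          _ = (u0 : G) * ((d : G) * g1) := by rw [this]
      obtain ⟨l, hl, hl'⟩ := hH' _ hmem
      refine ⟨(n : G)⁻¹ * (d : G)⁻¹ * l, mul_mem (mul_mem (inv_mem n.2) (inv_mem d.2)) hl, ?_⟩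
      convert hl' using 1
      rw [hg1]; group
    intro h hh
    obtain ⟨v, hv, hφ⟩ := hrig (MulAut.conjNormal h) (fun s hs => Subtype.ext (by
      rw [MulAut.conjNormal_apply, hHcent h hh s hs, mul_inv_cancel_right]))
    refine ⟨v, v.2, mem_centralizer_iff.2 fun l hl => ?_⟩
    have := congrArg Subtype.val (hφ ⟨l, hl⟩)
    simp only [MulAut.conjNormal_apply, coe_mul, coe_inv] at this
    calc l * ((v : G)⁻¹ * h) = (v : G)⁻¹ * ((v : G) * l * (v : G)⁻¹) * h := by group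
      _ = (v : G)⁻¹ * (h * l * h⁻¹) * h := by rw [this]
      _ = (v : G)⁻¹ * h * l := by group
  have hinj : ∀ l ∈ L, l ∈ N → l = 1 := by
    intro l hl hlN
    by_contra h1
    have hc : (⟨l, hl⟩ : L) ∈ centralizer ({u0} : Set L) := mem_centralizer_singleton_iff.2
      (Subtype.ext ((mem_centralizer_iff.1 hlN) u0 u0.2).symm)
    have hu0' : orderOf u0 = 2 := by rw [← orderOf_coe]; exact hu0o
    have ho : orderOf (⟨l, hl⟩ : L) = 2 :=
      orderOf_eq_prime ((hCel u0 hu0').2 _ hc) (fun e1 => h1 (congrArg Subtype.val e1))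
    haveI := (hCel _ ho).1
    apply hUnn
    refine ⟨fun s hs g => ?_⟩
    have hm : ∀ x : L, x ∈ centralizer ({(⟨l, hl⟩ : L)} : Set L) := fun x =>
      mem_centralizer_singleton_iff.2 (Subtype.ext ((mem_centralizer_iff.1 hlN) x x.2))
    have := congrArg Subtype.val (IsMulCommutative.is_comm.comm
      (⟨g, hm g⟩ : centralizer ({(⟨l, hl⟩ : L)} : Set L)) ⟨s, hm s⟩)
    simp only [coe_mul] at this
    rw [this, mul_inv_cancel_right]
    exact hs
  have hbij : Function.Bijective ((QuotientGroup.mk' N).comp L.subtype) := by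
    refine ⟨(injective_iff_map_eq_one _).2 fun l hl => Subtype.ext (hinj l l.2
      ((QuotientGroup.eq_one_iff _).1 hl)), fun x => ?_⟩
    induction x using QuotientGroup.induction_on with
    | H g =>
      obtain ⟨l, hl, hlg⟩ := hsurj g
      exact ⟨⟨l, hl⟩, QuotientGroup.eq.2 hlg⟩
  have hF3 : 3 < Fintype.card F := by
    have h3' := (ElemCentralizerGroup.Hyp.mk hUnc hUnn hCel).three_le
    obtain ⟨k, hk⟩ := U.isPGroup'.exists_card_eq
    rw [hFc]
    rcases k with _ | _ | k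
    · rw [hk] at h3'; norm_num at h3'
    · rw [hk] at h3'; norm_num at h3'
    · rw [hk]
      calc 3 < 2 ^ 2 := by norm_num
        _ ≤ 2 ^ (k + 1 + 1) := Nat.pow_le_pow_right (by norm_num) (by omega)
  exact ⟨N, hNn, hNcard, F, iF, iF', hF3, Or.inl ⟨(MulEquiv.ofBijective _ hbij).symm.trans eL⟩⟩

end Cfsg.Agent.GWDihEasy15
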