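import Cfsg.Agent.Lib.GWDihTools33

/-!
Properties of maximal invariant odd subgroups over an involution centralizer.
-/

set_option autoImplicit false
set_option linter.style.haveILetI false
set_option linter.unusedSectionVars false

namespace Cfsg.Agent.GWDih33

open Subgroup Cfsg.Agent.BGFittingUnique

universe u

variable {G : Type u} [Group G] [Finite G]

theorem le_normalizer_centralizer {A Y : Subgroup G} (h : A ≤ normalizer (Y : Set G)) :
    A ≤ normalizer (centralizer (Y : Set G) : Set G) := fun a ha => mem_norm_of_conj fun c hc => by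
  rw [mem_centralizer_iff]
  intro y hy
  have hy' : a⁻¹ * y * a ∈ Y := by simpa using conj_mem_of (inv_mem (h ha)) hy
  have e := mem_centralizer_iff.1 hc _ hy'
  calc y * (a * c * a⁻¹) = a * (a⁻¹ * y * a * c) * a⁻¹ := by group
    _ = a * (c * (a⁻¹ * y * a)) * a⁻¹ := by rw [e]
    _ = a * c * a⁻¹ * y := by group

theorem le_normalizer_zen {A W : Subgroup G} (h : A ≤ normalizer (W : Set G)) :
    A ≤ normalizer (zen W : Set G) :=
  CoprimeAction.le_normalizer_inf (h.trans (normalizer_le_fittingOf W))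
    (le_normalizer_centralizer (h.trans (normalizer_le_fittingOf W)))

theorem le_normalizer_commutator {A X Y : Subgroup G} (hX : A ≤ normalizer (X : Set G))
    (hY : A ≤ normalizer (Y : Set G)) : A ≤ normalizer ((⁅X, Y⁆ : Subgroup G) : Set G) := by
  intro a ha
  refine CoprimeAction.mem_normalizer_of_conj_smul_eq ?_
  have e : ∀ Z : Subgroup G, A ≤ normalizer (Z : Set G) → Z.map (MulAut.conj a).toMonoidHom = Z := by
    intro Z hZ
    refine Subgroup.eq_of_le_of_card_ge ?_ ?_
    · rintro _ ⟨x, hx, rfl⟩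
      exact conj_mem_of (hZ ha) hx
    · rw [card_map_of_injective (MulAut.conj a).injective]
  change (⁅X, Y⁆).map (MulAut.conj a).toMonoidHom = ⁅X, Y⁆
  rw [Subgroup.map_commutator, e X hX, e Y hY]

theorem not_mem_of_odd {W : Subgroup G} (hW : Odd (Nat.card W)) {t : G} (ht : orderOf t = 2) :
    t ∉ W := fun h => by
  have := odd_of_mem hW h
  rw [ht] at this
  exact absurd this (by decide)

namespace Hyp

variable (h : Hyp G)
include h

/-- Odd subgroups normalised by a four group are generated by their parts in the odd cores. -/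
theorem four_le' {z v : G} (hz : orderOf z = 2) (hv : orderOf v = 2) (hne : v ≠ z) (hc : Commute z v)
    {W K : Subgroup G} (hW : Odd (Nat.card W)) (hzW : z ∈ normalizer (W : Set G))
    (hvW : v ∈ normalizer (W : Set G))
    (hK : ∀ t, orderOf t = 2 → Commute z t → t = z ∨ t = v ∨ t = z * v → W ⊓ Om t ≤ K) : W ≤ K := by
  obtain ⟨h1, -, -, h4, -⟩ := h.pair hz hv hne hc
  exact h.four_le hz hv hne hc hW hzW hvW (hK z hz (Commute.refl z) (Or.inl rfl))
    (hK v hv hc (Or.inr (Or.inl rfl))) (hK (z * v) h1 h4 (Or.inr (Or.inr rfl)))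

/-- An odd element of the normalizer of a subgroup inverted by `z` and itself inverted by `z`
centralises it. -/
theorem commute_inverted {z : G} {U : Subgroup G} (hU : ∀ u ∈ U, z * u * z⁻¹ = u⁻¹) {g : G}
    (hgU : g ∈ normalizer (U : Set G)) (hgo : Odd (orderOf g)) (hg : z * g * z⁻¹ = g⁻¹) {u : G}
    (hu : u ∈ U) : Commute g u :=
  commute_of_inverted hgo hg (hU u hu) (hU _ (conj_mem_of hgU hu))

end Hyp

namespace Max

variable {z : G} {W : Subgroup G}

theorem mem_norm (hM : Max z W) {t : G} (ht : Commute z t) : t ∈ normalizer (W : Set G) :=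
  hM.norm (mem_cen_of_commute ht)

theorem ne_bot (T : Tools G) (hM : Max z W) : W ≠ ⊥ := fun e =>
  T.nt z hM.two (le_bot_iff.1 (e ▸ hM.om))

theorem solvable (hM : Max z W) : Group.IsSolvable W := S0205.result hM.odd

theorem proper (T : Tools G) (hM : Max z W) {Y : Subgroup G} (hY : Y ≠ ⊥) (hYW : Y ≤ W) :
    normalizer (Y : Set G) ≠ ⊤ := fun e => by
  haveI := T.hyp.simple
  rcases (normalizer_eq_top_iff.1 e).eq_bot_or_eq_top with h | h
  · exact hY h
  · exact not_mem_of_odd hM.odd hM.two (hYW (h ▸ mem_top z))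

/-- The odd elements normalising a nontrivial invariant subgroup of `W` lie in `W`. -/
theorem core_le (T : Tools G) (hM : Max z W) {Y : Subgroup G} (hY : Y ≠ ⊥) (hYW : Y ≤ W)
    (hn : W ≤ normalizer (Y : Set G)) (hC : centralizer ({z} : Set G) ≤ normalizer (Y : Set G))
    {g : G} (hg : g ∈ normalizer (Y : Set G)) (hodd : Odd (orderOf g)) : g ∈ W := by
  obtain ⟨X, hXN, hXo, hNX, hall⟩ := T.idx z hM.two _ hC (hM.proper T hY hYW)
  have hWX : W ≤ X := fun w hw => hall w (hn hw) (odd_of_mem hM.odd hw)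
  exact hM.max X hXo (hC.trans hNX) hWX ▸ hall g hg hodd

/-- The normalizer of a nontrivial invariant subgroup of `W` is inside `W C(z)`. -/
theorem norm_le_sup (T : Tools G) (hM : Max z W) {Y : Subgroup G} (hY : Y ≠ ⊥) (hYW : Y ≤ W)
    (hn : W ≤ normalizer (Y : Set G)) (hC : centralizer ({z} : Set G) ≤ normalizer (Y : Set G)) :
    normalizer (Y : Set G) ≤ W ⊔ centralizer ({z} : Set G) := by
  haveI : Fact (Nat.Prime 2) := ⟨Nat.prime_two⟩
  obtain ⟨X, hXN, hXo, hNX, hall⟩ := T.idx z hM.two _ hC (hM.proper T hY hYW)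
  have hXW : X = W := hM.max X hXo (hC.trans hNX) fun w hw => hall w (hn hw) (odd_of_mem hM.odd hw)
  subst hXW
  obtain ⟨S, hzS, hzc⟩ := T.hyp.exists_central_sylow hM.two
  have hSC : (S : Subgroup G) ≤ centralizer ({z} : Set G) := fun s hs =>
    mem_centralizer_singleton_iff.2 (hzc s hs)
  refine le_trans (relIndex_eq_one.1 (Nat.eq_one_iff_not_exists_prime_dvd.2 fun p hp hpd => ?_))
    (sup_le_sup_left hSC _)
  haveI := Fact.mk hp
  by_cases h2 : p = 2
  · subst h2
    exact S.not_dvd_index (hpd.trans ((relIndex_dvd_of_le_left _ le_sup_right).trans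
      ⟨_, (relIndex_mul_index (hSC.trans hC)).symm⟩))
  · obtain ⟨P⟩ : Nonempty (Sylow p (normalizer (Y : Set G))) := inferInstance
    refine P.not_dvd_index (hpd.trans (index_dvd_of_le fun x hx => mem_subgroupOf.2 (mem_sup_left ?_)))
    refine hall x x.2 ?_
    obtain ⟨k, hk⟩ := P.isPGroup' ⟨x, hx⟩
    rw [Subgroup.orderOf_coe]
    exact ((hp.odd_of_ne_two h2).pow (n := k)).of_dvd_nat
      (orderOf_dvd_of_pow_eq_one (congrArg Subtype.val hk))

end Max

end Cfsg.Agent.GWDih33
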