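/-
A group of odd order with a fixed-point-free four-group of operators has nilpotent derived
subgroup.
-/
import Mathlib
import Cfsg.Agent.S0205
import Cfsg.Agent.Lib.FrobeniusFittingAct
import Cfsg.Agent.Lib.CoprimeGen
import Cfsg.Agent.Lib.CoprimeTools

open scoped Pointwise commutatorElement

namespace Cfsg.Agent.GWDihFour72

universe u v

open Cfsg.Agent Cfsg.Agent.CoprimeAction Cfsg.Agent.FrobeniusFitting

variable {Γ : Type u} [Group Γ] [Finite Γ] {L : Subgroup Γ}

omit [Finite Γ] in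
theorem mul_self_inv {t : Γ} (h : t * t = 1) : t⁻¹ = t :=
  inv_eq_of_mul_eq_one_right h

/-- Two commuting involutive elements without a common fixed point in `L`. -/
structure Four (L : Subgroup Γ) (t s : Γ) : Prop where
  comm : Commute t s
  sq_left : t * t = 1
  sq_right : s * s = 1
  fpf : ∀ x ∈ L, Commute t x → Commute s x → x = 1

variable {t s : Γ}

omit [Finite Γ] in
theorem Four.symm (h : Four L t s) : Four L s t :=
  ⟨h.comm.symm, h.sq_right, h.sq_left, fun x hx a b => h.fpf x hx b a⟩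

omit [Finite Γ] in
theorem Four.mul (h : Four L t s) : Four L t (t * s) where
  comm := (Commute.refl t).mul_right h.comm
  sq_left := h.sq_left
  sq_right := by
    rw [h.comm.symm.mul_mul_mul_comm, h.sq_left, h.sq_right, mul_one]
  fpf x hx a b := h.fpf x hx a (by
    have h1 : Commute (t * (t * s)) x := a.mul_left b
    rwa [← mul_assoc, h.sq_left, one_mul] at h1)

theorem Four.inv_aux [L.Normal] (h : Four L t s) :
    (∀ x ∈ L, Commute t x → s * x * s⁻¹ = x⁻¹) ∧
    ∀ x ∈ L, ∀ y ∈ L, Commute t x → Commute t y → Commute x y := by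
  set M := L ⊓ Subgroup.centralizer ({t} : Set Γ) with hM
  have hmem : ∀ x ∈ M, MulAut.conj s x ∈ M := fun x hx =>
    ⟨‹L.Normal›.conj_mem x hx.1 s, by
      have hs : s ∈ Subgroup.centralizer ({t} : Set Γ) :=
        Subgroup.mem_centralizer_singleton_iff.2 h.comm.symm.eq
      exact Subgroup.mul_mem _ (Subgroup.mul_mem _ hs hx.2) (Subgroup.inv_mem _ hs)⟩
  let φ : M →* M := ((MulAut.conj s).toMonoidHom.comp M.subtype).codRestrict M fun x => hmem x x.2
  have hφ : ∀ x : M, ((φ x : M) : Γ) = s * x * s⁻¹ := fun x => rfl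
  have hfp : MonoidHom.FixedPointFree φ := fun x hx => Subtype.ext (h.fpf x x.2.1
    (Subgroup.mem_centralizer_singleton_iff.1 x.2.2).symm
    (mul_inv_eq_iff_eq_mul.1 ((hφ x).symm.trans (congrArg Subtype.val hx))))
  have hinv : Function.Involutive φ := fun x => Subtype.ext (by
    rw [hφ, hφ, mul_self_inv h.sq_right]
    calc s * (s * x * s) * s = (s * s) * x * (s * s) := by group
      _ = x := by rw [h.sq_right, one_mul, mul_one])
  have hmk : ∀ x ∈ L, Commute t x → x ∈ M := fun x hx hc =>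
    ⟨hx, Subgroup.mem_centralizer_singleton_iff.2 hc.symm.eq⟩
  refine ⟨fun x hx hc => ?_, fun x hx y hy hcx hcy => ?_⟩
  · have := congrFun (hfp.coe_eq_inv_of_involutive hinv) ⟨x, hmk x hx hc⟩
    exact congrArg Subtype.val this
  · exact congrArg Subtype.val
      (hfp.commute_all_of_involutive hinv ⟨x, hmk x hx hcx⟩ ⟨y, hmk y hy hcy⟩).eq

theorem Four.inverts [L.Normal] (h : Four L t s) {x : Γ} (hx : x ∈ L) (hc : Commute t x) :
    s * x * s⁻¹ = x⁻¹ :=
  h.inv_aux.1 x hx hc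

theorem Four.commute [L.Normal] (h : Four L t s) {x y : Γ} (hx : x ∈ L) (hy : y ∈ L)
    (hcx : Commute t x) (hcy : Commute t y) : Commute x y :=
  h.inv_aux.2 x hx y hy hcx hcy

section module

variable {U A : Subgroup Γ}

omit [Finite Γ] in
theorem fixed_mul_conj (hUc : ∀ x ∈ U, ∀ y ∈ U, x * y = y * x) (hU : U.Normal) (ht : t * t = 1)
    {x : Γ} (hx : x ∈ U) : Commute t (x * (t * x * t⁻¹)) := by
  have hy : t * x * t⁻¹ ∈ U := hU.conj_mem x hx t
  have h1 : t * (x * (t * x * t⁻¹)) * t⁻¹ = (t * x * t⁻¹) * ((t * t) * x * (t * t)⁻¹) := by group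
  rw [ht, one_mul, inv_one, mul_one, ← hUc x hx _ hy] at h1
  exact mul_inv_eq_iff_eq_mul.1 h1

omit [Finite Γ] in
theorem le_normalizer_part {X : Subgroup Γ} (hXA : X ≤ Subgroup.normalizer (A : Set Γ))
    (hXt : X ≤ Subgroup.centralizer ({t} : Set Γ)) :
    X ≤ Subgroup.normalizer ((A ⊓ Subgroup.centralizer ({t} : Set Γ) : Subgroup Γ) : Set Γ) :=
  le_normalizer_inf hXA (hXt.trans Subgroup.le_normalizer)

omit [Finite Γ] in
theorem le_normalizer_module {X B : Subgroup Γ} (hU : U.Normal)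
    (hX : X ≤ Subgroup.normalizer (B : Set Γ)) :
    X ≤ Subgroup.normalizer ((⁅U, B⁆ : Subgroup Γ) : Set Γ) := by
  have := hU
  exact CoprimeTools.le_normalizer_commutator_of_le (le_normalizer_of_normal U X) hX

/-- `t` inverts `[U, C_A(t)]`. -/
theorem inverts_module [L.Normal] (h : Four L t s) (hU : U.Normal) (hUL : U ≤ L)
    (hUc : ∀ x ∈ U, ∀ y ∈ U, x * y = y * x) (hAL : A ≤ L)
    (hcop : (Nat.card A).Coprime (Nat.card U)) (htA : t ∈ Subgroup.normalizer (A : Set Γ))
    {x : Γ} (hx : x ∈ ⁅U, A ⊓ Subgroup.centralizer ({t} : Set Γ)⁆) :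
    t * x * t⁻¹ = x⁻¹ := by
  have := hU
  set B := A ⊓ Subgroup.centralizer ({t} : Set Γ) with hB
  have hWU : ⁅U, B⁆ ≤ U := Subgroup.commutator_le_left U B
  have ht : t ∈ Subgroup.normalizer ((⁅U, B⁆ : Subgroup Γ) : Set Γ) :=
    le_normalizer_module hU (X := Subgroup.zpowers t) (le_normalizer_part
      (Subgroup.zpowers_le.2 htA)
      (Subgroup.zpowers_le.2 (Subgroup.mem_centralizer_singleton_iff.2 rfl)))
      (Subgroup.mem_zpowers t)
  set y := x * (t * x * t⁻¹) with hy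
  have hyW : y ∈ ⁅U, B⁆ := mul_mem hx (conj_mem ht hx)
  have hty : Commute t y := fixed_mul_conj hUc hU h.sq_left (hWU hx)
  have hyC : y ∈ (U ⊓ Subgroup.centralizer (B : Set Γ)) ⊓ ⁅U, B⁆ := by
    refine ⟨⟨hWU hyW, fun b hb => ?_⟩, hyW⟩
    exact (h.commute (hAL hb.1) (hUL (hWU hyW))
      (Subgroup.mem_centralizer_singleton_iff.1 hb.2).symm hty).eq
  have : IsMulCommutative U := ⟨⟨fun a b => Subtype.ext (hUc a a.2 b b.2)⟩⟩
  rw [inf_centralizer_inf_commutator_eq_bot (le_normalizer_of_normal U B)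
    (hcop.coprime_dvd_left (Subgroup.card_dvd_of_le inf_le_left)), Subgroup.mem_bot] at hyC
  exact eq_inv_of_mul_eq_one_right hyC

/-- An element fixed by `s` preserves `[U, C_A(t)]`. -/
theorem conj_mem_module [L.Normal] (hodd : Odd (Nat.card L)) (h : Four L t s) (hU : U.Normal)
    (hUL : U ≤ L) (hUc : ∀ x ∈ U, ∀ y ∈ U, x * y = y * x) (hAL : A ≤ L)
    (hAc : ∀ x ∈ A, ∀ y ∈ A, x * y = y * x)
    (hcop : (Nat.card A).Coprime (Nat.card U))
    (hsA : s ∈ Subgroup.normalizer (A : Set Γ))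
    {k : Γ} (hk : k ∈ L) (hkA : k ∈ Subgroup.normalizer (A : Set Γ)) (hks : Commute s k)
    {x : Γ} (hx : x ∈ ⁅U, A ⊓ Subgroup.centralizer ({t} : Set Γ)⁆) :
    k * x * k⁻¹ ∈ ⁅U, A ⊓ Subgroup.centralizer ({t} : Set Γ)⁆ := by
  have := hU
  set B := A ⊓ Subgroup.centralizer ({t} : Set Γ) with hB
  set W := ⁅U, B⁆ with hW
  have hWU : W ≤ U := Subgroup.commutator_le_left U B
  have hAW : A ≤ Subgroup.normalizer (W : Set Γ) :=
    le_normalizer_module hU fun a ha =>
      Subgroup.centralizer_le_normalizer _ fun b hb => hAc b hb.1 a ha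
  have hsW : s ∈ Subgroup.normalizer (W : Set Γ) :=
    le_normalizer_module hU (X := Subgroup.zpowers s) (le_normalizer_part
      (Subgroup.zpowers_le.2 hsA)
      (Subgroup.zpowers_le.2 (Subgroup.mem_centralizer_singleton_iff.2 h.comm.symm.eq)))
      (Subgroup.mem_zpowers s)
  set S := W ⊓ W.comap (MulAut.conj k).toMonoidHom with hS
  have hgen : ∀ a ∈ B, ∀ y ∈ W, Commute s y → a * y * a⁻¹ ∈ S := by
    intro a ha y hy hsy
    refine ⟨conj_mem (hAW ha.1) hy, ?_⟩
    show k * (a * y * a⁻¹) * k⁻¹ ∈ W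
    have hky : k * y * k⁻¹ = y := by
      rw [(h.symm.commute hk (hUL (hWU hy)) hks hsy).eq, mul_inv_cancel_right]
    have h1 : k * (a * y * a⁻¹) * k⁻¹ = (k * a * k⁻¹) * (k * y * k⁻¹) * (k * a * k⁻¹)⁻¹ := by
      group
    rw [h1, hky]
    exact conj_mem (hAW (conj_mem hkA ha.1)) hy
  have hBW : B ≤ Subgroup.normalizer (W : Set Γ) := inf_le_left.trans hAW
  have hg : ∀ a ∈ B, ∀ x ∈ W, a * x * a⁻¹ * (a⁻¹ * x⁻¹ * a) ∈ S := by
    intro a ha x hx
    have hx' : a * x * a⁻¹ ∈ W := conj_mem (hBW ha) hx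
    have h2 := hgen 1 (one_mem _) (a * x * a⁻¹ * (s * (a * x * a⁻¹) * s⁻¹))
      (mul_mem hx' (conj_mem hsW hx')) (fixed_mul_conj hUc hU h.sq_right (hWU hx'))
    have h3 := hgen a⁻¹ (inv_mem ha) (x * (s * x * s⁻¹))
      (mul_mem hx (conj_mem hsW hx)) (fixed_mul_conj hUc hU h.sq_right (hWU hx))
    have hsa : s * a * s⁻¹ = a⁻¹ :=
      h.inverts (hAL ha.1) (Subgroup.mem_centralizer_singleton_iff.1 ha.2).symm
    have hsx : s * (a * x * a⁻¹) * s⁻¹ =
        (s * a * s⁻¹) * (s * x * s⁻¹) * (s * a * s⁻¹)⁻¹ := by group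
    rw [hsx, hsa] at h2
    have := mul_mem h2 (inv_mem h3)
    simpa [mul_assoc] using this
  have hle : ⁅W, B⁆ ≤ S := by
    rw [Subgroup.commutator_le]
    intro x hx a ha
    obtain ⟨n, hn⟩ := Odd.of_dvd_nat hodd (Subgroup.orderOf_dvd_natCard L (hAL ha.1))
    set b := a ^ (n + 1) with hb
    have hbb : b * b = a := by
      rw [hb, ← pow_add, show n + 1 + (n + 1) = orderOf a + 1 by omega, pow_succ,
        pow_orderOf_eq_one, one_mul]
    have hbB : b ∈ B := pow_mem ha _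
    have h4 := inv_mem (hg b hbB (b * x * b⁻¹) (conj_mem (hBW hbB) hx))
    rw [← hbb, commutatorElement_def]
    simpa [mul_assoc] using h4
  have hWW : ⁅W, B⁆ = W :=
    commutator_commutator_eq (le_normalizer_of_normal U B)
      (hcop.coprime_dvd_left (Subgroup.card_dvd_of_le inf_le_left))
      (Or.inr (Group.isSolvable_of_comm fun a b => Subtype.ext (hUc a a.2 b b.2)))
  exact ((hWW.symm.le.trans hle) hx).2

end module

omit [Finite Γ] in
theorem mem_pair_cases {z v e : Γ} {hc : Commute z v} (hz : z * z = 1) (hv : v * v = 1)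
    (he : e ∈ CoprimeGen.pairSubgroup z v hc) : e = 1 ∨ e = z ∨ e = v ∨ e = z * v := by
  obtain ⟨m, n, rfl⟩ := CoprimeGen.mem_pairSubgroup_iff.1 he
  have key : ∀ (g : Γ) (i : ℤ), g * g = 1 → g ^ i = 1 ∨ g ^ i = g := by
    intro g i hg
    rcases Int.even_or_odd i with ⟨j, rfl⟩ | ⟨j, rfl⟩
    · left
      rw [← two_mul, zpow_mul, zpow_two, hg, one_zpow]
    · right
      rw [zpow_add, zpow_mul, zpow_two, hg, one_zpow, one_mul, zpow_one]
  rcases key z m hz with h1 | h1 <;> rcases key v n hv with h2 | h2 <;> simp [h1, h2]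

section config

variable {A₀ : Type v} [Group A₀] [Finite A₀] {κ : A₀ →* Γ} {V H : Subgroup Γ} {r : ℕ}

omit [Finite A₀] in
theorem Four.left_ne_one [L.Normal] (h : Four L t s)
    (hc : Config (fun T _ => IsMulCommutative T) L κ V H r) : t ≠ 1 := by
  rintro rfl
  exact hc.not_mem ⟨⟨fun a b => Subtype.ext
    (h.commute (hc.H_le a.2) (hc.H_le b.2) (Commute.one_left _) (Commute.one_left _)).eq⟩⟩

omit [Finite A₀] in
theorem Four.le_of_fixed [L.Normal] (hodd : Odd (Nat.card L)) (h : Four L t s)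
    (hc : Config (fun T _ => IsMulCommutative T) L κ V H r)
    {X W : Subgroup Γ} (hX : X ≤ L) (ht : t ∈ Subgroup.normalizer (X : Set Γ))
    (hs : s ∈ Subgroup.normalizer (X : Set Γ))
    (h1 : X ⊓ Subgroup.centralizer ({t} : Set Γ) ≤ W)
    (h2 : X ⊓ Subgroup.centralizer ({s} : Set Γ) ≤ W)
    (h3 : X ⊓ Subgroup.centralizer ({t * s} : Set Γ) ≤ W) : X ≤ W := by
  have := Fact.mk Nat.prime_two
  have hs1 := h.symm.left_ne_one hc
  have hts : t * s ≠ 1 := h.mul.symm.left_ne_one hc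
  have hna : t ∉ Subgroup.zpowers s := by
    intro hm
    have h4 : t ∈ CoprimeGen.pairSubgroup 1 s (Commute.one_left s) :=
      (Subgroup.zpowers_le.2 (CoprimeGen.right_mem_pairSubgroup _ _ _)) hm
    have ht1 := h.left_ne_one hc
    rcases mem_pair_cases (one_mul 1) h.sq_right h4 with e | e | e | e
    · exact ht1 e
    · exact ht1 e
    · exact hts (by rw [e, h.sq_right])
    · exact hts (by rw [e, one_mul, h.sq_right])
  refine CoprimeGen.le_of_pair_centralizers (p := 2) (a := t) (b := s)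
    ⟨h.comm, by rw [sq, h.sq_left], by rw [sq, h.sq_right], hs1, hna, ht, hs⟩
    (fun hd => Nat.not_even_iff_odd.2 (Odd.of_dvd_nat hodd (Subgroup.card_dvd_of_le hX))
      (even_iff_two_dvd.2 hd)) ?_
  intro e he he1
  rcases mem_pair_cases h.sq_left h.sq_right he with rfl | rfl | rfl | rfl
  · exact absurd rfl he1
  · exact h1
  · exact h2
  · exact h3

/-- In a configuration each `C_A(t)` centralises `V`. -/
theorem part_le_centralizer [L.Normal] (hodd : Odd (Nat.card L)) (h : Four L t s)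
    (hc : Config (fun T _ => IsMulCommutative T) L κ V H r)
    (ht : t ∈ κ.range) (hs : s ∈ κ.range)
    (hrange : ∀ M : Subgroup Γ, t ∈ M → s ∈ M → κ.range ≤ M)
    {A : Subgroup Γ} (hAH : A ≤ H) (hHA : H ≤ Subgroup.normalizer (A : Set Γ))
    (hκA : κ.range ≤ Subgroup.normalizer (A : Set Γ)) (hAc : ∀ x ∈ A, ∀ y ∈ A, x * y = y * x)
    (hcop : (Nat.card A).Coprime (Nat.card V)) :
    A ⊓ Subgroup.centralizer ({t} : Set Γ) ≤ Subgroup.centralizer (V : Set Γ) := by
  set B := A ⊓ Subgroup.centralizer ({t} : Set Γ) with hB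
  set W := ⁅V, B⁆ with hW
  have := hc.V_normal
  have hV := hc.V_normal
  have hAL : A ≤ L := hAH.trans hc.H_le
  have hpart : ∀ {g : Γ}, g ∈ Subgroup.normalizer (A : Set Γ) → Commute t g →
      g ∈ Subgroup.normalizer (W : Set Γ) := fun {g} hg hgt =>
    le_normalizer_module hV (X := Subgroup.zpowers g) (le_normalizer_part
      (Subgroup.zpowers_le.2 hg)
      (Subgroup.zpowers_le.2 (Subgroup.mem_centralizer_singleton_iff.2 hgt.symm.eq)))
      (Subgroup.mem_zpowers g)
  have hHW : H ≤ Subgroup.normalizer (W : Set Γ) := by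
    refine h.le_of_fixed hodd hc hc.H_le (hc.H_inv ht) (hc.H_inv hs) ?_ ?_ ?_
    · exact fun g hg => hpart (hHA hg.1) (Subgroup.mem_centralizer_singleton_iff.1 hg.2).symm
    · exact le_normalizer_of_conj_mem fun g hg x hx =>
        conj_mem_module hodd h hV hc.V_le hc.V_comm hAL hAc hcop (hκA hs) (hc.H_le hg.1)
          (hHA hg.1) (Subgroup.mem_centralizer_singleton_iff.1 hg.2).symm hx
    · exact le_normalizer_of_conj_mem fun g hg x hx =>
        conj_mem_module hodd h.mul hV hc.V_le hc.V_comm hAL hAc hcop (hκA (mul_mem ht hs))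
          (hc.H_le hg.1) (hHA hg.1) (Subgroup.mem_centralizer_singleton_iff.1 hg.2).symm hx
  have hκW : κ.range ≤ Subgroup.normalizer (W : Set Γ) :=
    hrange _ (hpart (hκA ht) (Commute.refl t)) (hpart (hκA hs) h.comm)
  rcases hc.V_min W (Subgroup.commutator_le_left V B) hHW hκW with h1 | h1
  · rw [hW, Subgroup.commutator_comm, Subgroup.commutator_eq_bot_iff_le_centralizer] at h1
    exact h1
  · exfalso
    have hinv : ∀ x ∈ V, t * x * t⁻¹ = x⁻¹ := fun x hx =>
      inverts_module h hV hc.V_le hc.V_comm hAL hcop (hκA ht) (h1.symm.le hx)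
    have hcent : ∀ g ∈ H, Commute t g := by
      intro g hg
      set g' := t * g * t⁻¹ with hg'
      have hmem : g⁻¹ * g' ∈ H ⊓ Subgroup.centralizer (V : Set Γ) := by
        refine ⟨H.mul_mem (H.inv_mem hg) (conj_mem (hc.H_inv ht) hg), fun x hx => ?_⟩
        have hxg : g * x * g⁻¹ ∈ V := hV.conj_mem x hx g
        have h5 : g' * x * g'⁻¹ = g * x * g⁻¹ := by
          have h6 := hinv _ (hV.conj_mem x⁻¹ (inv_mem hx) g)
          have h7 : g' * (t * x⁻¹ * t⁻¹) * g'⁻¹ = t * (g * x⁻¹ * g⁻¹) * t⁻¹ := by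
            rw [hg']; group
          rw [hinv x⁻¹ (inv_mem hx), inv_inv, h6] at h7
          rw [h7]; group
        calc x * (g⁻¹ * g') = g⁻¹ * (g * x * g⁻¹) * g' := by group
          _ = g⁻¹ * (g' * x * g'⁻¹) * g' := by rw [h5]
          _ = g⁻¹ * g' * x := by group
      rw [hc.faithful, Subgroup.mem_bot, inv_mul_eq_one] at hmem
      exact mul_inv_eq_iff_eq_mul.1 hmem.symm
    exact hc.not_mem ⟨⟨fun a b => Subtype.ext
      (h.commute (hc.H_le a.2) (hc.H_le b.2) (hcent a a.2) (hcent b b.2)).eq⟩⟩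

omit [Finite A₀] in
/-- A configuration contains a nontrivial invariant abelian normal subgroup of `H`, of order
prime to `r`. -/
theorem exists_abelian [L.Normal] (hLs : Group.IsSolvable L)
    (hc : Config (fun T _ => IsMulCommutative T) L κ V H r) :
    ∃ A ≤ H, A ≠ ⊥ ∧ H ≤ Subgroup.normalizer (A : Set Γ) ∧
      κ.range ≤ Subgroup.normalizer (A : Set Γ) ∧ (∀ x ∈ A, ∀ y ∈ A, x * y = y * x) ∧
      (Nat.card A).Coprime (Nat.card V) := by
  have hHne : H ≠ ⊥ := fun e => hc.not_mem ⟨⟨fun a b => Subtype.ext (by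
    have ha : (a : Γ) = 1 := Subgroup.mem_bot.1 (e.le a.2)
    have hb : (b : Γ) = 1 := Subgroup.mem_bot.1 (e.le b.2)
    show (a : Γ) * b = b * a
    rw [ha, hb])⟩⟩
  obtain ⟨A, ⟨hAH, hAne, hHA, hκA⟩, hmin⟩ := Set.exists_min_image
    {W : Subgroup Γ | W ≤ H ∧ W ≠ ⊥ ∧ H ≤ Subgroup.normalizer (W : Set Γ) ∧
      κ.range ≤ Subgroup.normalizer (W : Set Γ)} (fun W => Nat.card W) (Set.toFinite _)
    ⟨H, le_rfl, hHne, Subgroup.le_normalizer, hc.H_inv⟩
  have hmin' : ∀ W ≤ A, H ≤ Subgroup.normalizer (W : Set Γ) →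
      κ.range ≤ Subgroup.normalizer (W : Set Γ) → W = ⊥ ∨ W = A := by
    intro W hW h1 h2
    by_cases hb : W = ⊥
    · exact Or.inl hb
    · exact Or.inr (Subgroup.eq_of_le_of_card_ge hW (hmin W ⟨hW.trans hAH, hb, h1, h2⟩))
  have hAc : ∀ x ∈ A, ∀ y ∈ A, x * y = y * x := by
    have : Group.IsSolvable A := isSolvable_of_le (hAH.trans hc.H_le)
    have : Nontrivial A := (Subgroup.nontrivial_iff_ne_bot A).2 hAne
    rcases hmin' ⁅A, A⁆ (Subgroup.commutator_le_self A)
      (CoprimeTools.le_normalizer_commutator_of_le hHA hHA)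
      (CoprimeTools.le_normalizer_commutator_of_le hκA hκA) with hb | ht
    · intro x hx y hy
      exact commutatorElement_eq_one_iff_mul_comm.1
        (Subgroup.mem_bot.1 (hb ▸ Subgroup.commutator_mem_commutator hx hy))
    · exfalso
      apply (Group.IsSolvable.commutator_lt_top_of_nontrivial A).ne
      apply Subgroup.map_injective A.subtype_injective
      rw [Subgroup.map_subtype_commutator, ht, ← MonoidHom.range_eq_map, Subgroup.range_subtype]
  refine ⟨A, hAH, hAne, hHA, hκA, hAc, ?_⟩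
  have := Fact.mk hc.prime
  obtain ⟨n, hn⟩ := IsPGroup.iff_card.1 hc.V_pgroup
  rw [hn]
  refine Nat.Coprime.pow_right n ((hc.prime.coprime_iff_not_dvd).2 ?_).symm
  intro hd
  let R : Subgroup Γ :=
    { carrier := {x | x ∈ A ∧ ∃ k : ℕ, x ^ r ^ k = 1}
      one_mem' := ⟨one_mem _, 0, one_pow _⟩
      mul_mem' := fun {x y} ⟨hx, i, hi⟩ ⟨hy, j, hj⟩ => ⟨mul_mem hx hy, i + j, by
        rw [(show Commute x y from hAc x hx y hy).mul_pow, pow_add, pow_mul, hi, one_pow,
          one_mul, mul_comm, pow_mul, hj, one_pow]⟩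
      inv_mem' := fun {x} ⟨hx, i, hi⟩ => ⟨inv_mem hx, i, by rw [inv_pow, hi, inv_one]⟩ }
  have hRn : ∀ X : Subgroup Γ, X ≤ Subgroup.normalizer (A : Set Γ) →
      X ≤ Subgroup.normalizer (R : Set Γ) := fun X hX =>
    le_normalizer_of_conj_mem fun g hg x hx => ⟨conj_mem (hX hg) hx.1, by
      obtain ⟨k, hk⟩ := hx.2
      exact ⟨k, by rw [conj_pow, hk, mul_one, mul_inv_cancel]⟩⟩
  have hR := hc.core R (fun x hx => hAH hx.1)
    (fun x => by obtain ⟨k, hk⟩ := x.2.2; exact ⟨k, Subtype.ext hk⟩)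
    (hRn _ hHA) (hRn _ hκA)
  obtain ⟨x, hx⟩ := exists_prime_orderOf_dvd_card' (G := A) r hd
  have hxR : (x : Γ) ∈ R := ⟨x.2, 1, by
    rw [pow_one, ← hx, ← Subgroup.orderOf_coe, pow_orderOf_eq_one]⟩
  rw [hR, Subgroup.mem_bot] at hxR
  rw [show x = 1 from Subtype.ext hxR, orderOf_one] at hx
  exact hc.prime.ne_one hx.symm

theorem false_of_config {z₀ v₀ : A₀} (hz : z₀ * z₀ = 1) (hv : v₀ * v₀ = 1)
    (hcomm : Commute z₀ v₀) (hgen : ∀ a : A₀, ∃ m n : ℤ, z₀ ^ m * v₀ ^ n = a)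
    (heven : 2 ∣ Nat.card A₀) (hA : Acts L κ)
    (hc : Config (fun T _ => IsMulCommutative T) L κ V H r) : False := by
  have := hA.normal
  have hodd : Odd (Nat.card L) := by
    rw [← Nat.not_even_iff_odd, even_iff_two_dvd]
    exact fun hd => Nat.prime_two.ne_one (Nat.eq_one_of_dvd_coprimes hA.coprime heven hd)
  have hrange : ∀ M : Subgroup Γ, κ z₀ ∈ M → κ v₀ ∈ M → κ.range ≤ M := by
    rintro M h1 h2 _ ⟨a, rfl⟩
    obtain ⟨m, n, rfl⟩ := hgen a
    rw [map_mul, map_zpow, map_zpow]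
    exact mul_mem (zpow_mem h1 m) (zpow_mem h2 n)
  set z := κ z₀ with hzdef
  set w := κ v₀ with hwdef
  have hzr : z ∈ κ.range := ⟨z₀, rfl⟩
  have hwr : w ∈ κ.range := ⟨v₀, rfl⟩
  have h : Four L z w := ⟨hcomm.map κ, by rw [hzdef, ← map_mul, hz, map_one],
    by rw [hwdef, ← map_mul, hv, map_one], fun x hx h1 h2 => hA.fpf x hx fun a =>
      (Subgroup.mem_centralizer_singleton_iff.1 (hrange (Subgroup.centralizer ({x} : Set Γ))
        (Subgroup.mem_centralizer_singleton_iff.2 h1.eq)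
        (Subgroup.mem_centralizer_singleton_iff.2 h2.eq) ⟨a, rfl⟩))⟩
  obtain ⟨A, hAH, hAne, hHA, hκA, hAc, hcop⟩ := exists_abelian hA.solv hc
  apply hAne
  rw [eq_bot_iff, ← hc.faithful]
  refine le_inf hAH (h.le_of_fixed hodd hc (hAH.trans hc.H_le) (hκA hzr) (hκA hwr) ?_ ?_ ?_)
  · exact part_le_centralizer hodd h hc hzr hwr hrange hAH hHA hκA hAc hcop
  · exact part_le_centralizer hodd h.symm hc hwr hzr (fun M a b => hrange M b a) hAH hHA hκA hAc
      hcop
  · refine part_le_centralizer hodd h.mul.symm hc (mul_mem hzr hwr) hzr (fun M a b => ?_)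
      hAH hHA hκA hAc hcop
    refine hrange M b ?_
    have := mul_mem (inv_mem b) a
    rwa [inv_mul_cancel_left] at this

end config

/-- If two distinct commuting involutions normalise a subgroup `W` of odd order and have no
common fixed point in it, then the derived subgroup of `W` is nilpotent. -/
theorem derived_nilpotent {G : Type*} [Group G] [Finite G] (W : Subgroup G)
    (hW : Odd (Nat.card W)) {z v : G}
    (hz : orderOf z = 2) (hv : orderOf v = 2) (_hne : v ≠ z) (hc : Commute z v)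
    (hzW : z ∈ Subgroup.normalizer (W : Set G)) (hvW : v ∈ Subgroup.normalizer (W : Set G))
    (hfix : ∀ g ∈ W, Commute z g → Commute v g → g = 1) :
    Group.IsNilpotent ↥⁅W, W⁆ := by
  classical
  set P := CoprimeGen.pairSubgroup z v hc with hP
  have hPW : P ≤ Subgroup.normalizer (W : Set G) := CoprimeGen.pairSubgroup_le hzW hvW
  let φ : P →* MulAut W := W.normalizerMonoidHom.comp (Subgroup.inclusion hPW)
  have hz2 : z * z = 1 := by rw [← sq, ← hz, pow_orderOf_eq_one]
  have hv2 : v * v = 1 := by rw [← sq, ← hv, pow_orderOf_eq_one]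
  let z₀ : P := ⟨z, CoprimeGen.left_mem_pairSubgroup z v hc⟩
  let v₀ : P := ⟨v, CoprimeGen.right_mem_pairSubgroup z v hc⟩
  have heven : 2 ∣ Nat.card P := hz ▸ P.orderOf_dvd_natCard z₀.2
  have hcop : (Nat.card P).Coprime (Nat.card W) := by
    refine Nat.Coprime.coprime_dvd_left ((CoprimeGen.card_pairSubgroup_dvd z v hc).trans
      (by rw [hz, hv])) ?_
    exact Nat.Coprime.mul_left (Nat.coprime_two_left.2 hW) (Nat.coprime_two_left.2 hW)
  have hfpf : ∀ g : W, (∀ a : P, φ a g = g) → g = 1 := fun g hg =>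
    Subtype.ext (hfix g g.2 (mul_inv_eq_iff_eq_mul.1 (congrArg Subtype.val (hg z₀)))
      (mul_inv_eq_iff_eq_mul.1 (congrArg Subtype.val (hg v₀))))
  have hfin : Finite (W ⋊[φ] P) := Finite.of_equiv _ SemidirectProduct.equivProd.symm
  have hacts := FrobeniusFittingAct.acts φ (Cfsg.Agent.S0205.result hW) hcop hfpf
  have hgen : ∀ a : P, ∃ m n : ℤ, z₀ ^ m * v₀ ^ n = a := fun a => by
    obtain ⟨m, n, hmn⟩ := CoprimeGen.mem_pairSubgroup_iff.1 a.2
    exact ⟨m, n, Subtype.ext (by simpa [z₀, v₀] using hmn)⟩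
  have hnil := nilBy_of_no_config closed_comm ⟨⟨fun _ _ => rfl⟩⟩
    (fun _ _ _ _ _ hA _ _ _ hcf => false_of_config (z₀ := z₀) (v₀ := v₀) (Subtype.ext hz2)
      (Subtype.ext hv2) (Subtype.ext hc.eq) hgen heven hA hcf) hacts
  obtain ⟨N, hNn, T, hT, f, hNnil, hTc, -, hker⟩ :=
    FrobeniusFittingAct.exists_nilpotent_normal φ hnil
  have hle : commutator W ≤ N := by
    rw [← hker, commutator_def, Subgroup.commutator_le]
    intro a _ b _
    rw [MonoidHom.mem_ker, map_commutatorElement, commutatorElement_eq_one_iff_mul_comm]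
    exact hTc.1.1 (f a) (f b)
  have := hNnil
  have hcn : Group.IsNilpotent (commutator W) :=
    Subgroup.isNilpotent_of_ker_le_center (Subgroup.inclusion hle)
      (by rw [(Subgroup.inclusion hle).ker_eq_bot_iff.2 (Subgroup.inclusion_injective hle)]
          exact bot_le)
  have e := (commutator W).equivMapOfInjective W.subtype W.subtype_injective
  rw [Subgroup.map_subtype_commutator] at e
  exact Group.nilpotent_of_surjective e.toMonoidHom e.surjective

end Cfsg.Agent.GWDihFour72
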