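import Mathlib
import Cfsg.Agent.Lib.GWDihBounds11
import Cfsg.Agent.Lib.SimpleOrder
import Cfsg.Agent.Lib.TransferThompson
import Cfsg.Agent.Lib.TwoFusionTools

/-!
# Subgroups over an involution centralizer in a simple group with dihedral Sylow 2-subgroups

If `X` contains `C(z)` and is proper, then `X` has a normal 2-complement; the input is the order
formula for groups with dihedral Sylow 2-subgroups and one class of involutions.
-/

set_option autoImplicit false
set_option linter.style.haveILetI false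

namespace Cfsg.Agent.GWDihIndex11

open Cfsg Cfsg.Agent.DihedralPair68 Cfsg.Agent.GWDihBounds11
open Cfsg.Agent.ProductFusion68 (inv_of_sq)

universe u

variable {G : Type u} [Group G]

/-- Generators with a prescribed central involution. -/
theorem exists_dih_with [Finite G] (S : Sylow 2 G) {n : ℕ} (hn : 2 ≤ n)
    (eS : ↥(S : Subgroup G) ≃* DihedralGroup n) {z : G} (hz : orderOf z = 2)
    (hzS : z ∈ (S : Subgroup G)) (hzZ : ∀ s ∈ (S : Subgroup G), s * z = z * s) :
    ∃ d : Dih (S : Subgroup G), d.z = z := by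
  obtain ⟨d, -⟩ := exists_dih S.2 hn eS
  by_cases hk : d.k = 1
  · obtain ⟨w, hw, hwz, hw1⟩ : ∃ w ∈ (S : Subgroup G), w ≠ z ∧ w ≠ 1 := by
      by_cases h : d.a = z
      · refine ⟨d.r, d.rD, fun h' => d.anot ?_, fun h' => ?_⟩
        · rw [h, ← h']; exact Subgroup.mem_zpowers _
        · exact d.z_ne (by rw [z_of_k_one d hk, h'])
      · exact ⟨d.a, d.aD, h, d.refl_ne d.refl_a⟩
    have hw2 : w * w = 1 := d.sq_of_k_one hk hw
    have hz2 : z * z = 1 := sq_of_orderOf_two hz
    have hwn : w ∉ Subgroup.zpowers z := by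
      intro h
      obtain ⟨i, hi⟩ := h
      rcases Int.even_or_odd' i with ⟨l, rfl | rfl⟩
      · refine hw1 ?_
        rw [← hi]
        show z ^ (2 * l) = 1
        rw [zpow_mul, zpow_two, hz2, one_zpow]
      · refine hwz ?_
        rw [← hi]
        show z ^ (2 * l + 1) = z
        rw [zpow_add_one, zpow_mul, zpow_two, hz2, one_zpow, one_mul]
    have hle : Subgroup.zpowers z ≤ (S : Subgroup G) := Subgroup.zpowers_le.2 hzS
    have hidx : ((Subgroup.zpowers z).subgroupOf (S : Subgroup G)).index = 2 := by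
      have h := ((Subgroup.zpowers z).subgroupOf (S : Subgroup G)).card_mul_index
      rw [Nat.card_congr (Subgroup.subgroupOfEquivOfLe hle).toEquiv, Nat.card_zpowers, hz,
        card_dih d, hk] at h
      omega
    refine ⟨⟨z, w, 1, le_rfl, hzS, hw, hw2, ?_, by simpa using hz, fun x hx => ?_, hwn⟩, ?_⟩
    · rw [(d.comm_of_k_one hk hw hzS).eq, mul_inv_cancel_right, inv_of_sq hz2]
    · by_cases h : x ∈ Subgroup.zpowers z
      · exact Or.inl h
      · refine Or.inr ?_
        have := (Subgroup.mul_mem_iff_of_index_two hidx (a := (⟨w, hw⟩ : (S : Subgroup G)))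
          (b := ⟨x, hx⟩)).2 (iff_of_false (by simpa [Subgroup.mem_subgroupOf] using hwn)
            (by simpa [Subgroup.mem_subgroupOf] using h))
        simpa [Subgroup.mem_subgroupOf] using this
    · simp [Dih.z]
  · refine ⟨d, ?_⟩
    rcases d.center_cases (by have := d.hk; omega) hzS (fun w hw => hzZ w hw) with h | h
    · exact absurd h (ne_one_of_orderOf_two hz)
    · exact h.symm

/-- Generators inside a larger subgroup. -/
def sub {D X E : Subgroup G} (d : Dih D) (hle : D ≤ X) (hE : E = D) :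
    Dih (E.subgroupOf X) where
  r := ⟨d.r, hle d.rD⟩
  a := ⟨d.a, hle d.aD⟩
  k := d.k
  hk := d.hk
  rD := by rw [Subgroup.mem_subgroupOf, hE]; exact d.rD
  aD := by rw [Subgroup.mem_subgroupOf, hE]; exact d.aD
  a2 := Subtype.ext d.a2
  conj := Subtype.ext d.conj
  ord := (Subgroup.orderOf_mk _ _).trans d.ord
  cases := by
    intro x hx
    rw [Subgroup.mem_subgroupOf, hE] at hx
    have key : ∀ w : ↥X, (w : G) ∈ Subgroup.zpowers d.r →
        w ∈ Subgroup.zpowers (⟨d.r, hle d.rD⟩ : X) := by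
      rintro w ⟨i, hi⟩
      exact ⟨i, Subtype.ext (by simpa using hi)⟩
    rcases d.cases _ hx with h | h
    · exact Or.inl (key x h)
    · exact Or.inr (key _ h)
  anot := by
    rintro ⟨i, hi⟩
    exact d.anot ⟨i, by simpa using congrArg Subtype.val hi⟩

theorem orderOf_conj (g x : G) : orderOf (g * x * g⁻¹) = orderOf x := by
  rw [show g * x * g⁻¹ = MulAut.conj g x by simp, MulEquiv.orderOf_eq]

theorem card_centralizer_pair (X : Subgroup G) (u v : X)
    (hle : Subgroup.centralizer ({(u : G), (v : G)} : Set G) ≤ X) :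
    Nat.card (Subgroup.centralizer ({u, v} : Set X)) =
      Nat.card (Subgroup.centralizer ({(u : G), (v : G)} : Set G)) := by
  refine Nat.card_congr ⟨fun y => ⟨((y : X) : G), ?_⟩, fun y => ⟨⟨y, hle y.2⟩, ?_⟩,
    fun y => rfl, fun y => rfl⟩
  · obtain ⟨h1, h2⟩ := mem_centralizer_pair.1 y.2
    exact mem_centralizer_pair.2 ⟨congrArg Subtype.val h1.eq, congrArg Subtype.val h2.eq⟩
  · obtain ⟨h1, h2⟩ := mem_centralizer_pair.1 y.2
    exact mem_centralizer_pair.2 ⟨Subtype.ext h1.eq, Subtype.ext h2.eq⟩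

theorem card_centralizer_single (X : Subgroup G) (u : X) :
    Nat.card (Subgroup.centralizer ({u} : Set X)) =
      Nat.card (Subgroup.centralizer ({(u : G)} : Set G) ⊓ X : Subgroup G) := by
  refine Nat.card_congr ⟨fun y => ⟨((y : X) : G), ⟨?_, (y : X).2⟩⟩,
    fun y => ⟨⟨y, y.2.2⟩, ?_⟩, fun y => rfl, fun y => rfl⟩
  · exact Subgroup.mem_centralizer_singleton_iff.2
      (congrArg Subtype.val (Subgroup.mem_centralizer_singleton_iff.1 y.2))
  · exact Subgroup.mem_centralizer_singleton_iff.2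
      (Subtype.ext (Subgroup.mem_centralizer_singleton_iff.1 y.2.1))

theorem le_of_le_five {a b i N : ℕ} (hN : 4 ≤ N) (hb : 0 < b)
    (h1 : i * a ≤ b * ((N + 1) * (N + 2))) (h2 : b * ((N - 1) * (N - 2)) ≤ a) : i ≤ 5 := by
  by_contra h
  obtain ⟨M, rfl⟩ : ∃ M, N = M + 4 := ⟨N - 4, by omega⟩
  rw [show M + 4 - 1 = M + 3 by omega, show M + 4 - 2 = M + 2 by omega] at h2
  nlinarith [Nat.mul_le_mul (show 6 ≤ i by omega) h2, Nat.zero_le (b * M), Nat.zero_le (b * (M * M))]

theorem le_seven {a b i M : ℕ} (hM : 8 ≤ M) (hb : 0 < b)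
    (h1 : i * a ≤ b * ((2 * M + 1) * (2 * M + 2))) (h2 : b * ((M - 1) * (M - 2)) ≤ a) : i ≤ 7 := by
  by_contra h
  obtain ⟨N, rfl⟩ : ∃ N, M = N + 8 := ⟨M - 8, by omega⟩
  rw [show N + 8 - 1 = N + 7 by omega, show N + 8 - 2 = N + 6 by omega] at h2
  nlinarith [Nat.mul_le_mul (show 8 ≤ i by omega) h2, Nat.zero_le (b * N), Nat.zero_le (b * (N * N))]

theorem small_cube : ∀ o < 1221, o % 2 = 1 → o ^ 3 ∣ 1816214400 → o = 1 ∨ o = 3 := by
  decide +kernel

theorem sign_five : ∀ a : Equiv.Perm (Fin 5), Equiv.Perm.sign a = 1 → a * a = 1 → a ≠ 1 →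
    ∀ b : Equiv.Perm (Fin 5), Equiv.Perm.sign b = 1 → a * b = b * a → b * b = 1 := by
  decide +kernel

variable [Finite G]

theorem not_comm (hnab : ∃ a b : G, a * b ≠ b * a) : ¬ IsMulCommutative G := fun h => by
  obtain ⟨a, b, hab⟩ := hnab
  exact hab (h.is_comm.comm a b)

theorem small_index [IsSimpleGroup G] (hnab : ∃ a b : G, a * b ≠ b * a) {z : G}
    (hz : orderOf z = 2) (ho : ∃ g : G, Commute g z ∧ g ≠ 1 ∧ Odd (orderOf g)) {H : Subgroup G}
    (hH : H ≠ ⊤) (hi : H.index ≤ 5) : False := by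
  have h5 : H.index = 5 := le_antisymm hi (SimpleOrder.five_le_index (not_comm hnab) H hH)
  obtain ⟨f, hf⟩ := SimpleOrder.exists_injective_alternating (not_comm hnab) H hH
  revert f
  rw [h5]
  intro f hf
  obtain ⟨g, hgz, hg1, hgodd⟩ := ho
  have ha2 : ((f z : Equiv.Perm (Fin 5))) * f z = 1 := by
    rw [← Subgroup.coe_mul, ← map_mul, sq_of_orderOf_two hz, map_one, Subgroup.coe_one]
  have ha1 : (f z : Equiv.Perm (Fin 5)) ≠ 1 := fun h => ne_one_of_orderOf_two hz (hf (by
    rw [map_one]; exact Subtype.ext h))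
  have hb := sign_five _ (Equiv.Perm.mem_alternatingGroup.1 (f z).2) ha2 ha1 _
    (Equiv.Perm.mem_alternatingGroup.1 (f g).2)
    (by rw [← Subgroup.coe_mul, ← map_mul, ← hgz.eq, map_mul, Subgroup.coe_mul])
  have : g * g = 1 := hf (by rw [map_mul, map_one]; exact Subtype.ext hb)
  exact hg1 (ProductFusion68.eq_one_of_sq_of_odd hgodd this)

theorem small_index_eight [IsSimpleGroup G] (hnab : ∃ a b : G, a * b ≠ b * a)
    (h8 : 8 ∣ Nat.card G) {H : Subgroup G} (hH : H ≠ ⊤) (hi : H.index ≤ 5) : False := by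
  have h5 : H.index = 5 := le_antisymm hi (SimpleOrder.five_le_index (not_comm hnab) H hH)
  have h := (Nat.mul_dvd_mul_left 2 h8).trans
    (SimpleOrder.two_mul_card_dvd_factorial_index (not_comm hnab) H hH)
  rw [h5] at h
  norm_num [Nat.factorial] at h

theorem false_9720 [IsSimpleGroup G] (hG : ¬ IsMulCommutative G) (h : Nat.card G = 9720) : False := by
  haveI : Fact (Nat.Prime 3) := ⟨Nat.prime_three⟩
  have hn : Nat.card G = 3 ^ (3 + 2) * 40 := by rw [h]; norm_num
  have hd : 3 ∣ Nat.card G := by rw [h]; norm_num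
  have hmem := SimpleOrder.card_sylow_mem hn (by norm_num : ¬ 3 ∣ 40)
  have hmem' : Nat.card (Sylow 3 G) ∈ ({1, 4, 10, 40} : Finset ℕ) := by
    revert hmem
    generalize Nat.card (Sylow 3 G) = m
    intro hm
    have : (Nat.divisors 40).filter (fun d => d % 3 = 1) = {1, 4, 10, 40} := by decide +kernel
    rw [this] at hm
    exact hm
  simp only [Finset.mem_insert, Finset.mem_singleton] at hmem'
  have hno : ∀ i : ℕ, i ≤ 10 → ¬ 2 * Nat.card G ∣ i.factorial := by
    intro i hi h2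
    rw [h] at h2
    exact absurd (h2.trans (Nat.factorial_dvd_factorial hi)) (by norm_num [Nat.factorial])
  rcases hmem' with h1 | h1 | h1 | h1
  · exact SimpleOrder.card_sylow_ne_one hG hd h1
  · exact hno 4 (by norm_num) (h1 ▸ SimpleOrder.two_mul_card_dvd_factorial_sylow hG hd)
  · exact hno 10 le_rfl (h1 ▸ SimpleOrder.two_mul_card_dvd_factorial_sylow hG hd)
  · obtain ⟨H, hH, hi, e, he1, he3, he⟩ :=
      SimpleOrder.exists_index_of_inter hn (by norm_num : ¬ 3 ∣ 40) (by rw [h1]; norm_num)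
    refine hno H.index ?_ (SimpleOrder.two_mul_card_dvd_factorial_index hG H hH)
    by_contra hgt
    have h40 : H.index ≤ 40 := Nat.le_of_dvd (by norm_num) hi
    have he4 : 4 ≤ e := by omega
    have h4 : e ≤ 40 / H.index := Nat.le_of_dvd (Nat.div_pos h40 (by omega)) he
    have : 40 / H.index ≤ 3 := by
      rw [Nat.div_le_iff_le_mul_add_pred (by omega)]
      omega
    omega

section Main

variable (S : Sylow 2 G) (d : Dih (S : Subgroup G))
  (hcls : ∀ s t : G, orderOf s = 2 → orderOf t = 2 → IsConj s t) (X : Subgroup G)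
  (hCX : Subgroup.centralizer ({d.z} : Set G) ≤ X)

include hCX

theorem sylow_le : (S : Subgroup G) ≤ X :=
  fun _ hs => hCX (Subgroup.mem_centralizer_singleton_iff.2 (d.z_comm hs).eq.symm)

theorem odd_index : Odd X.index := by
  haveI : Fact (Nat.Prime 2) := ⟨Nat.prime_two⟩
  refine Nat.not_even_iff_odd.1 fun h => S.not_dvd_index ?_
  exact (even_iff_two_dvd.1 h).trans (Subgroup.index_dvd_of_le (sylow_le S d X hCX))

/-- An involution of `X` is conjugate inside `X` to one in `S`. -/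
theorem conj_into {w : G} (hwX : w ∈ X) (hw : orderOf w = 2) :
    ∃ g ∈ X, g * w * g⁻¹ = d.z ∨ d.Refl (g * w * g⁻¹) := by
  haveI : Fact (Nat.Prime 2) := ⟨Nat.prime_two⟩
  have hp : IsPGroup 2 (Subgroup.zpowers (⟨w, hwX⟩ : X)) :=
    IsPGroup.of_card (n := 1) (by rw [Nat.card_zpowers, Subgroup.orderOf_mk, hw, pow_one])
  obtain ⟨g, hg⟩ := ProductFusion68.exists_conj_le (S.subtype (sylow_le S d X hCX)) hp
  have h := hg _ (Subgroup.mem_zpowers _)
  rw [Sylow.coe_subtype, Subgroup.mem_subgroupOf] at h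
  refine ⟨g, g.2, d.cases_sq (by simpa using h) ?_ ?_⟩
  · exact sq_of_orderOf_two (by rw [orderOf_conj, hw])
  · exact ne_one_of_orderOf_two (by rw [orderOf_conj, hw])

include hcls

variable [IsSimpleGroup G] (hnab : ∃ a b : G, a * b ≠ b * a)

include hnab

theorem no_one_class_dih (ho : d.k = 1 → ∃ g : G, Commute g d.z ∧ g ≠ 1 ∧ Odd (orderOf g))
    (k : ℕ)
    (hk : ∀ x : G, orderOf x = 2 → x ≠ d.z → Commute d.z x →
      Nat.card (Subgroup.centralizer ({d.z, x} : Set G)) = 4 * k)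
    (hone : ∀ x ∈ X, orderOf x = 2 → ∃ g ∈ X, g * d.z * g⁻¹ = x) : X = ⊤ := by
  by_contra hX
  have hle := sylow_le S d X hCX
  set SX := S.subtype hle with hSX
  obtain ⟨dX, hdk, hdz⟩ : ∃ dX : Dih (SX : Subgroup X), dX.k = d.k ∧ (dX.z : G) = d.z := by
    rw [hSX, Sylow.coe_subtype]
    exact ⟨sub d hle rfl, rfl, by simp [Dih.z, sub]⟩
  have hclsX : ∀ s t : X, orderOf s = 2 → orderOf t = 2 → IsConj s t := by
    intro s t hs ht
    obtain ⟨g, hg, hgs⟩ := hone s s.2 (by rw [Subgroup.orderOf_coe, hs])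
    obtain ⟨g', hg', hgt⟩ := hone t t.2 (by rw [Subgroup.orderOf_coe, ht])
    refine isConj_iff.2 ⟨⟨g' * g⁻¹, mul_mem hg' (inv_mem hg)⟩, Subtype.ext ?_⟩
    simp only [Subgroup.coe_mul, Subgroup.coe_inv]
    rw [← hgs, ← hgt]
    group
  have hkX : ∀ x : X, orderOf x = 2 → x ≠ dX.z → Commute dX.z x →
      Nat.card (Subgroup.centralizer ({dX.z, x} : Set X)) = 4 * k := by
    intro x hx hxz hc
    rw [card_centralizer_pair X dX.z x ?_, hdz]
    · refine hk x (by rw [Subgroup.orderOf_coe, hx]) (fun h => hxz (Subtype.ext (by rw [h, hdz]))) ?_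
      have := congrArg Subtype.val hc.eq
      simp only [Subgroup.coe_mul, hdz] at this
      exact this
    · refine le_trans (Subgroup.centralizer_le ?_) hCX
      rw [hdz]
      simp
  obtain ⟨-, hlo⟩ := bounds SX dX hclsX hkX
  obtain ⟨hhi, -⟩ := bounds S d hcls hk
  rw [hdk, card_centralizer_single X dX.z, hdz, inf_eq_left.2 hCX] at hlo
  rw [← X.card_mul_index] at hhi
  suffices h5 : X.index ≤ 5 by
    by_cases hk1 : d.k = 1
    · exact small_index hnab (orderOf_z d) (ho hk1) hX h5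
    · refine small_index_eight hnab ?_ hX h5
      refine dvd_trans ?_ ((Subgroup.card_subgroup_dvd_card (S : Subgroup G)))
      rw [card_dih d, ← pow_succ', show (8 : ℕ) = 2 ^ 3 by norm_num]
      exact pow_dvd_pow 2 (by have := d.hk; omega)
  refine le_of_le_five (a := 2 * k ^ 2 * Nat.card X * (2 * 2 ^ d.k) ^ 2)
    (N := 2 * 2 ^ d.k) ?_ (pow_pos (Nat.card_pos
      (α := Subgroup.centralizer ({d.z} : Set G))) 3) ?_ hlo
  · have : 2 ^ 1 ≤ 2 ^ d.k := Nat.pow_le_pow_right (by norm_num) d.hk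
    omega
  · exact le_of_eq_of_le (by ring) hhi

variable (ho : ∃ g : G, Commute g d.z ∧ g ≠ 1 ∧ Odd (orderOf g))
  (hk : ∀ x : G, orderOf x = 2 → x ≠ d.z → Commute d.z x →
  Nat.card (Subgroup.centralizer ({d.z, x} : Set G)) = 4)

include ho hk

/-- One reflection class fused with the central involution and the other not. -/
theorem not_mixed (hX : X ≠ ⊤) {x y : G} (hx : d.Refl x) (hy : d.Refl y)
    (hxf : ∃ g ∈ X, g * d.z * g⁻¹ = x) (hyf : ∀ g ∈ X, g * d.z * g⁻¹ ≠ y) : False := by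
  haveI : Fact (Nat.Prime 2) := ⟨Nat.prime_two⟩
  have hle := sylow_le S d X hCX
  set SX := S.subtype hle with hSX
  -- a subgroup of index two avoiding `y`
  obtain ⟨M, hMn, hM2, hyM⟩ : ∃ M : Subgroup X, M.Normal ∧ M.index = 2 ∧
      (⟨y, hle hy.1⟩ : X) ∉ M := by
    have hr : (Subgroup.zpowers d.r).subgroupOf X ≤ (SX : Subgroup X) := by
      rw [hSX, Sylow.coe_subtype]
      exact fun w hw => d.zpowers_le hw
    refine TransferThompson.thompson_transfer SX _ hr ?_ ?_ ?_ ?_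
    · rw [hSX, Sylow.coe_subtype, Subgroup.relIndex_subgroupOf hle]
      have h := Subgroup.card_mul_index ((Subgroup.zpowers d.r).subgroupOf (S : Subgroup G))
      rw [Nat.card_congr (Subgroup.subgroupOfEquivOfLe d.zpowers_le).toEquiv, Nat.card_zpowers,
        d.ord, card_dih d, ← Subgroup.relIndex] at h
      exact Nat.eq_of_mul_eq_mul_left (Nat.two_pow_pos d.k) (by rw [h]; ring)
    · rw [Subgroup.orderOf_mk]; exact orderOf_refl d hy
    · rw [hSX, Sylow.coe_subtype]; exact hy.1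
    · intro g hg
      rw [Subgroup.mem_subgroupOf] at hg
      simp only [Subgroup.coe_mul, Subgroup.coe_inv] at hg
      have h := d.rot_sq hg (sq_of_orderOf_two (by rw [orderOf_conj]; exact orderOf_refl d hy))
        (ne_one_of_orderOf_two (by rw [orderOf_conj]; exact orderOf_refl d hy))
      refine hyf (g : G)⁻¹ (inv_mem g.2) ?_
      rw [← h]
      group
  obtain ⟨g₀, hg₀, hg₀x⟩ := hxf
  set zX : X := ⟨d.z, hle d.z_mem⟩ with hzX
  set xX : X := ⟨x, hle hx.1⟩ with hxX
  set yX : X := ⟨y, hle hy.1⟩ with hyX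
  set rX : X := ⟨d.r, hle d.rD⟩ with hrX
  have hzx : zX ∈ M ↔ xX ∈ M := by
    have e : xX = ⟨g₀, hg₀⟩ * zX * (⟨g₀, hg₀⟩ : X)⁻¹ := Subtype.ext hg₀x.symm
    rw [e]
    constructor
    · exact fun h => hMn.conj_mem _ h _
    · intro h
      have := hMn.conj_mem _ h (⟨g₀, hg₀⟩ : X)⁻¹
      simpa [mul_assoc] using this
  have hzM : zX ∈ M := by
    by_cases hk1 : d.k = 1
    · by_contra hz
      have hxz : xX * zX ∈ M :=
        (Subgroup.mul_mem_iff_of_index_two hM2).2 (iff_of_false (fun h => hz (hzx.2 h)) hz)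
      refine hyM ?_
      have hyx : y = x * d.z := by
        rcases d.comm_refl hx hy.1 (d.comm_of_k_one hk1 hx.1 hy.1) with h | h | h | h
        · exact absurd h (d.refl_ne hy)
        · exact absurd h (refl_ne_z d hy)
        · exact absurd (h ▸ hg₀x) (hyf g₀ hg₀)
        · exact h
      convert hxz using 1
      exact Subtype.ext hyx
    · have := Subgroup.sq_mem_of_index_two hM2 (⟨d.q, hle d.q_mem⟩ : X)
      convert this using 1
      exact Subtype.ext (by simp [pow_two, d.q_sq (by have := d.hk; omega)]; rfl)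
  have hxM := hzx.1 hzM
  have hrM : rX ∉ M := by
    intro hr
    refine hyM ?_
    obtain ⟨i, hi⟩ := d.refl_mul_refl hx hy
    have hyx : yX = xX * rX ^ i := Subtype.ext (by
      show y = x * d.r ^ i
      rw [show d.r ^ i = x * y from hi, ← mul_assoc, d.refl_sq hx, one_mul])
    show yX ∈ M
    rw [hyx]
    exact mul_mem hxM (zpow_mem hr i)
  have hr2 : rX * rX ∈ M := Subgroup.mul_self_mem_of_index_two hM2 rX
  have heven : ∀ i : ℤ, rX ^ i ∈ M → ∃ l, i = 2 * l := by
    intro i hi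
    rcases Int.even_or_odd' i with ⟨l, rfl | rfl⟩
    · exact ⟨l, rfl⟩
    · refine absurd ?_ hrM
      have h1 : rX ^ (2 * l) ∈ M := by
        rw [zpow_mul, zpow_two]; exact zpow_mem hr2 l
      rw [zpow_add_one] at hi
      exact (Subgroup.mul_mem_cancel_left _ h1).1 hi
  by_cases hk1 : d.k = 1
  · -- then `M` would contain all of `S`
    refine hyM ?_
    have hyx : y = x * d.z := by
      rcases d.comm_refl hx hy.1 (d.comm_of_k_one hk1 hx.1 hy.1) with h | h | h | h
      · exact absurd h (d.refl_ne hy)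
      · exact absurd h (refl_ne_z d hy)
      · exact absurd (h ▸ hg₀x) (hyf g₀ hg₀)
      · exact h
    convert mul_mem hxM hzM using 1
    exact Subtype.ext hyx
  have hk2 : 2 ≤ d.k := by have := d.hk; omega
  -- the index two subgroup as a subgroup of `G`
  set L := M.map X.subtype with hL
  have hLX : L ≤ X := Subgroup.map_subtype_le M
  have hmemL : ∀ g : X, (g : G) ∈ L ↔ g ∈ M := fun g => by
    rw [hL, Subgroup.mem_map]
    exact ⟨fun ⟨m, hm, he⟩ => (Subtype.ext he : m = g) ▸ hm, fun h => ⟨g, h, rfl⟩⟩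
  have hcardL : 2 * Nat.card L = Nat.card X := by
    rw [hL, Subgroup.card_map_of_injective X.subtype_injective, ← M.card_mul_index, hM2, mul_comm]
  set Q := (S : Subgroup G) ⊓ L with hQ
  let d₂ : Dih Q :=
    { r := d.r * d.r
      a := x
      k := d.k - 1
      hk := by omega
      rD := ⟨mul_mem d.rD d.rD, (hmemL ⟨_, mul_mem rX.2 rX.2⟩).2 hr2⟩
      aD := ⟨hx.1, (hmemL xX).2 hxM⟩
      a2 := d.refl_sq hx
      conj := d.refl_conj hx (mul_mem (Subgroup.mem_zpowers _) (Subgroup.mem_zpowers _))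
      ord := by
        rw [← pow_two, orderOf_pow' _ two_ne_zero, d.ord, d.two_pow_k, Nat.gcd_mul_right_left,
          Nat.mul_div_cancel_left _ two_pos]
      cases := by
        intro w hw
        obtain ⟨hwS, hwL⟩ := hw
        have hrot : ∀ v ∈ L, v ∈ Subgroup.zpowers d.r → v ∈ Subgroup.zpowers (d.r * d.r) := by
          rintro v hv ⟨i, rfl⟩
          obtain ⟨l, rfl⟩ := heven i ((hmemL (rX ^ i)).1 (by simpa using hv))
          refine ⟨l, ?_⟩
          show (d.r * d.r) ^ l = d.r ^ (2 * l)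
          rw [zpow_mul, zpow_two]
        by_cases hwr : w ∈ Subgroup.zpowers d.r
        · exact Or.inl (hrot w hwL hwr)
        · exact Or.inr (hrot _ (mul_mem ((hmemL xX).2 hxM) hwL) (d.refl_mul_refl hx ⟨hwS, hwr⟩))
      anot := fun h => hx.2 ((Subgroup.zpowers_le.2
        (mul_mem (Subgroup.mem_zpowers _) (Subgroup.mem_zpowers _))) h) }
  have hd2z : d₂.z = d.z := by
    show (d.r * d.r) ^ 2 ^ (d.k - 1 - 1) = d.r ^ 2 ^ (d.k - 1)
    rw [← pow_two, ← pow_mul, ← pow_succ', show d.k - 1 - 1 + 1 = d.k - 1 by omega]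
  have hQL : Q ≤ L := inf_le_right
  have hLidx : Odd (Q.relIndex L) := by
    have h1 := Subgroup.card_mul_index (Q.subgroupOf L)
    rw [Nat.card_congr (Subgroup.subgroupOfEquivOfLe hQL).toEquiv, card_dih d₂,
      ← Subgroup.relIndex, show d₂.k = d.k - 1 from rfl, ← pow_succ',
      show d.k - 1 + 1 = d.k by omega] at h1
    refine Nat.not_even_iff_odd.1 fun ⟨j, hj⟩ => ?_
    have h2 : 2 ^ (d.k + 2) ∣ Nat.card G := by
      refine dvd_trans ⟨j, ?_⟩ (Subgroup.card_subgroup_dvd_card X)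
      rw [← hcardL, ← h1, hj]; ring
    have h3 := (Nat.Prime.pow_dvd_iff_le_factorization Nat.prime_two Nat.card_pos.ne').1 h2
    have := dvd_card S d
    omega
  have hQp : IsPGroup 2 (Q.subgroupOf L) :=
    (S.2.to_le inf_le_left).of_equiv (Subgroup.subgroupOfEquivOfLe hQL).symm
  set SL := hQp.toSylow (fun h => Nat.not_even_iff_odd.2 hLidx (even_iff_two_dvd.2 h)) with hSL
  have hSLc : (SL : Subgroup L) = Q.subgroupOf L := rfl
  let dL : Dih (SL : Subgroup L) := sub d₂ hQL rfl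
  have hdLz : (dL.z : G) = d.z := by
    rw [← hd2z]; simp [Dih.z, dL, sub]
  -- all involutions of `L` are fused
  have hfusL : ∀ w ∈ L, orderOf w = 2 → ∃ g ∈ L, g * d.z * g⁻¹ = w := by
    intro w hw hw2
    have hp : IsPGroup 2 (Subgroup.zpowers (⟨w, hw⟩ : L)) :=
      IsPGroup.of_card (n := 1) (by rw [Nat.card_zpowers, Subgroup.orderOf_mk, hw2, pow_one])
    obtain ⟨g, hg⟩ := ProductFusion68.exists_conj_le SL hp
    have h := hg _ (Subgroup.mem_zpowers _)
    rw [hSLc, Subgroup.mem_subgroupOf] at h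
    simp only [Subgroup.coe_mul, Subgroup.coe_inv] at h
    set v := (g : G) * w * (g : G)⁻¹ with hv
    have hv2 : orderOf v = 2 := by rw [hv, orderOf_conj, hw2]
    obtain ⟨h₁, hh₁, hh₁v⟩ : ∃ h₁ ∈ X, h₁ * d.z * h₁⁻¹ = v := by
      rcases d₂.cases_sq h (sq_of_orderOf_two hv2) (ne_one_of_orderOf_two hv2) with h1 | h1
      · exact ⟨1, one_mem X, by rw [h1, hd2z]; group⟩
      · obtain ⟨u, ⟨l, rfl⟩, hu⟩ := d₂.refl_cases h1
        have hc := d.refl_conj hx (zpow_mem (Subgroup.mem_zpowers d.r) l)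
        refine ⟨d.r ^ (-l) * g₀, mul_mem (zpow_mem (hle d.rD) _) hg₀, ?_⟩
        rw [show d.r ^ (-l) * g₀ * d.z * (d.r ^ (-l) * g₀)⁻¹ =
          (d.r ^ l)⁻¹ * (g₀ * d.z * g₀⁻¹) * d.r ^ l by group, hg₀x, hu]
        show (d.r ^ l)⁻¹ * x * d.r ^ l = x * (d.r * d.r) ^ l
        rw [← hc, inv_of_sq (d.refl_sq hx), (Commute.refl d.r).mul_zpow]
        calc x * d.r ^ l * x * x * d.r ^ l = x * d.r ^ l * (x * x) * d.r ^ l := by group
          _ = x * (d.r ^ l * d.r ^ l) := by rw [d.refl_sq hx, mul_one, mul_assoc]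
    obtain ⟨h₂, hh₂, hh₂v⟩ : ∃ h₂ ∈ L, h₂ * d.z * h₂⁻¹ = v := by
      by_cases hm : (⟨h₁, hh₁⟩ : X) ∈ M
      · exact ⟨h₁, (hmemL ⟨h₁, hh₁⟩).2 hm, hh₁v⟩
      · refine ⟨h₁ * y, (hmemL ⟨h₁ * y, mul_mem hh₁ yX.2⟩).2
          ((Subgroup.mul_mem_iff_of_index_two hM2 (a := ⟨h₁, hh₁⟩) (b := yX)).2
            (iff_of_false hm hyM)), ?_⟩
        rw [← hh₁v, show h₁ * y * d.z * (h₁ * y)⁻¹ = h₁ * (y * d.z * y⁻¹) * h₁⁻¹ by group,
          ← (d.z_comm hy.1).eq, mul_inv_cancel_right]
    refine ⟨(g : G)⁻¹ * h₂, mul_mem (inv_mem g.2) hh₂, ?_⟩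
    rw [show (g : G)⁻¹ * h₂ * d.z * ((g : G)⁻¹ * h₂)⁻¹ = (g : G)⁻¹ * (h₂ * d.z * h₂⁻¹) * g by group,
      hh₂v, hv]
    group
  have hclsL : ∀ s t : L, orderOf s = 2 → orderOf t = 2 → IsConj s t := by
    intro s t hs ht
    obtain ⟨g, hg, hgs⟩ := hfusL s s.2 (by rw [Subgroup.orderOf_coe, hs])
    obtain ⟨g', hg', hgt⟩ := hfusL t t.2 (by rw [Subgroup.orderOf_coe, ht])
    refine isConj_iff.2 ⟨⟨g' * g⁻¹, mul_mem hg' (inv_mem hg)⟩, Subtype.ext ?_⟩
    simp only [Subgroup.coe_mul, Subgroup.coe_inv]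
    rw [← hgs, ← hgt]
    group
  have hzL : d.z ∈ L := (hmemL zX).2 hzM
  have hkL : ∀ w : L, orderOf w = 2 → w ≠ dL.z → Commute dL.z w →
      Nat.card (Subgroup.centralizer ({dL.z, w} : Set L)) = 4 * 1 := by
    intro w hw hwz hc
    have hw' : orderOf (w : G) = 2 := by rw [Subgroup.orderOf_coe, hw]
    have hwz' : (w : G) ≠ d.z := fun h => hwz (Subtype.ext (by rw [h, hdLz]))
    have hc' : Commute d.z (w : G) := by
      have := congrArg Subtype.val hc.eq
      simp only [Subgroup.coe_mul, hdLz] at this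
      exact this
    rw [card_centralizer_pair L dL.z w ?_, hdLz, hk w hw' hwz' hc']
    rw [hdLz]
    classical
    -- the four elements
    set C := Subgroup.centralizer ({d.z, (w : G)} : Set G) with hC
    set F : Finset G := {1, d.z, (w : G), d.z * w} with hF
    have hFC : (F : Set G) ⊆ (C : Set G) := by
      intro v hv
      simp only [hF, Finset.coe_insert, Finset.coe_singleton, Set.mem_insert_iff,
        Set.mem_singleton_iff] at hv
      rw [SetLike.mem_coe, mem_centralizer_pair]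
      rcases hv with rfl | rfl | rfl | rfl
      · exact ⟨Commute.one_right _, Commute.one_right _⟩
      · exact ⟨Commute.refl _, hc'.symm⟩
      · exact ⟨hc', Commute.refl _⟩
      · exact ⟨(Commute.refl _).mul_right hc', hc'.symm.mul_right (Commute.refl _)⟩
    have hF4 : F.card = 4 := by
      have n1 := d.z_ne
      have n2 := ne_one_of_orderOf_two hw'
      have n3 : d.z * (w : G) ≠ 1 := fun h => hwz' (by
        rw [← mul_eq_one_iff_inv_eq.1 h, inv_of_sq d.z_sq])
      rw [hF, Finset.card_insert_of_notMem, Finset.card_insert_of_notMem,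
        Finset.card_insert_of_notMem, Finset.card_singleton]
      · simp [d.z_ne]
      · simp [Ne.symm hwz', n2]
      · simp [Ne.symm n1, Ne.symm n2, Ne.symm n3]
    have hcard : (C : Set G).ncard = 4 := by
      rw [← Nat.card_coe_set_eq]; exact hk w hw' hwz' hc'
    have heq : (F : Set G) = (C : Set G) :=
      Set.eq_of_subset_of_ncard_le hFC (by rw [hcard, Set.ncard_coe_finset, hF4]) (Set.toFinite _)
    intro v hv
    have hv' : v ∈ (F : Set G) := heq ▸ hv
    simp only [hF, Finset.coe_insert, Finset.coe_singleton, Set.mem_insert_iff,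
      Set.mem_singleton_iff] at hv'
    rcases hv' with rfl | rfl | rfl | rfl
    · exact one_mem L
    · exact hzL
    · exact w.2
    · exact mul_mem hzL w.2
  -- the centralizer of `z` in `L`
  set C := Subgroup.centralizer ({d.z} : Set G) with hC
  have hCL : 2 * Nat.card (C ⊓ L : Subgroup G) = Nat.card C := by
    have hyC : y ∈ C := Subgroup.mem_centralizer_singleton_iff.2 (d.z_comm hy.1).eq.symm
    have hdvd : (M.relIndex (C.subgroupOf X)) ∣ 2 := hM2 ▸ Subgroup.relIndex_dvd_index_of_normal M _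
    have hne : M.relIndex (C.subgroupOf X) ≠ 1 := fun h =>
      hyM (Subgroup.relIndex_eq_one.1 h (by rw [Subgroup.mem_subgroupOf]; exact hyC))
    have h2 : M.relIndex (C.subgroupOf X) = 2 := (Nat.prime_two.eq_one_or_self_of_dvd _ hdvd).resolve_left hne
    have h3 := Subgroup.card_mul_index (M.subgroupOf (C.subgroupOf X))
    rw [← Subgroup.relIndex, h2, Nat.card_congr (Subgroup.subgroupOfEquivOfLe hCX).toEquiv] at h3
    rw [← h3, mul_comm]
    congr 1
    refine Nat.card_congr ⟨fun v => ⟨⟨⟨v, hLX v.2.2⟩, Subgroup.mem_subgroupOf.2 v.2.1⟩,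
        Subgroup.mem_subgroupOf.2 ((hmemL ⟨v, hLX v.2.2⟩).1 v.2.2)⟩,
      fun v => ⟨((v : C.subgroupOf X) : X), ⟨Subgroup.mem_subgroupOf.1 (v : C.subgroupOf X).2,
        (hmemL _).2 (Subgroup.mem_subgroupOf.1 v.2)⟩⟩, fun v => rfl, fun v => rfl⟩
  have hk' : ∀ w : G, orderOf w = 2 → w ≠ d.z → Commute d.z w →
      Nat.card (Subgroup.centralizer ({d.z, w} : Set G)) = 4 * 1 := by simpa using hk
  obtain ⟨-, hloL⟩ := bounds SL dL hclsL hkL
  obtain ⟨hhiG, hloG⟩ := bounds S d hcls hk'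
  set i := X.index with hi
  set cL := Nat.card (C ⊓ L : Subgroup G) with hcL
  have hG : Nat.card G = 2 * i * Nat.card L := by
    rw [← X.card_mul_index, ← hcardL, ← hi]; ring
  have hNdef : 2 * 2 ^ dL.k = 2 ^ d.k := by
    show 2 * 2 ^ (d.k - 1) = 2 ^ d.k
    rw [← pow_succ', show d.k - 1 + 1 = d.k by omega]
  rw [card_centralizer_single L dL.z, hdLz, ← hC, ← hcL, hNdef] at hloL
  rw [← hC, ← hCL, hG] at hhiG hloG
  have hcp : 0 < cL ^ 3 := pow_pos Nat.card_pos 3
  have hi1 : i ≠ 1 := fun h => hX (Subgroup.index_eq_one.1 h)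
  have hiodd : Odd i := odd_index S d X hCX
  have hnc := not_comm hnab
  have h7 : i ≤ 7 → Nat.card G ∣ 2520 := by
    intro hi7
    have h := (SimpleOrder.two_mul_card_dvd_factorial_index hnc X hX).trans
      (Nat.factorial_dvd_factorial (hi ▸ hi7 : X.index ≤ 7))
    exact Nat.dvd_of_mul_dvd_mul_left two_pos (h.trans (by rfl : Nat.factorial 7 ∣ 2 * 2520))
  have hmain : i * (2 * 1 ^ 2 * Nat.card L * (2 ^ d.k) ^ 2) ≤
      cL ^ 3 * ((2 * 2 ^ d.k + 1) * (2 * 2 ^ d.k + 2)) := by nlinarith [hhiG]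
  by_cases hk3 : 3 ≤ d.k
  · have hi7 : i ≤ 7 := by
      refine le_seven (M := 2 ^ d.k) ?_ hcp hmain hloL
      exact le_trans (by norm_num) (Nat.pow_le_pow_right (show 0 < 2 by norm_num) hk3)
    have h16 : 2 ^ 4 ∣ Nat.card G := by
      rw [Nat.Prime.pow_dvd_iff_le_factorization Nat.prime_two Nat.card_pos.ne', dvd_card S d]
      omega
    exact absurd (h16.trans (h7 hi7)) (by norm_num)
  · have hk2' : d.k = 2 := by omega
    rw [hk2'] at hmain hhiG hloG hloL
    norm_num at hmain hhiG hloG hloL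
    obtain ⟨o, hcC⟩ : 8 ∣ Nat.card C := by
      have : 2 * 2 ^ d.k ∣ Nat.card C := by
        rw [← card_dih d]
        exact Subgroup.card_dvd_of_le fun v hv =>
          Subgroup.mem_centralizer_singleton_iff.2 (d.z_comm hv).eq.symm
      rwa [hk2'] at this
    have hcL4 : cL = 4 * o := by rw [← hC] at *; omega
    have hoodd : Odd o := Nat.not_even_iff_odd.1 fun ⟨j, hj⟩ => by
      have h2 : 2 ^ 4 ∣ Nat.card G := dvd_trans ⟨j, by rw [hcC, hj]; ring⟩
        (Subgroup.card_subgroup_dvd_card C)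
      have h3 := (Nat.Prime.pow_dvd_iff_le_factorization Nat.prime_two Nat.card_pos.ne').1 h2
      have := dvd_card S d
      omega
    have ho3 : 3 ≤ o := by
      obtain ⟨g, hgz, hg1, hgodd⟩ := ho
      obtain ⟨j, hj⟩ := hoodd
      by_contra hlt
      have hgC : g ∈ C := Subgroup.mem_centralizer_singleton_iff.2 hgz.eq
      have hdvd : orderOf g ∣ 2 ^ 3 := by
        have h := Subgroup.orderOf_dvd_natCard C hgC
        rwa [hcC, show o = 1 by omega] at h
      exact hg1 (orderOf_eq_one_iff.1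
        (Nat.eq_one_of_dvd_coprimes ((Nat.coprime_two_right.2 hgodd).pow_right 3) dvd_rfl hdvd))
    have ho27 : 27 ≤ o ^ 3 := by
      calc 27 = 3 ^ 3 := by norm_num
        _ ≤ o ^ 3 := Nat.pow_le_pow_left ho3 3
    rw [hcL4] at hmain hhiG hloG hloL hcp
    have hi9 : 9 ≤ i := by
      by_contra hlt
      have hi7 : i ≤ 7 := by obtain ⟨j, hj⟩ := hiodd; omega
      have := Nat.le_of_dvd (by norm_num) (h7 hi7)
      rw [hG] at this
      nlinarith
    have hi15 : i ≤ 15 := by
      by_contra hlt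
      nlinarith [Nat.mul_le_mul_right (2 * Nat.card L) (show 16 ≤ i by omega)]
    obtain ⟨-, -, hfive⟩ := klein_formula SL dL hclsL hkL (show dL.k = 1 by show d.k - 1 = 1; omega)
    rw [card_centralizer_single L dL.z, hdLz, ← hC, ← hcL, hcL4] at hfive
    have hM38 : 8 * (2 * 1 ^ 2 * Nat.card L) = 3 * (4 * o) ^ 3 :=
      hfive (by nlinarith [Nat.mul_le_mul_right (2 * Nat.card L) hi9])
    obtain ⟨f, δ, hδ, hf, hne, hdvd, heq⟩ := dihedral_formula S d hcls hk' (by omega)
    rw [← hC, hG, ← hCL, hcL4] at heq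
    rw [hk2'] at hdvd
    obtain ⟨u, hu⟩ := hdvd
    norm_num at hu
    have hf' : (f : ℤ) = 8 * u + δ := by omega
    have hM38' : (16 : ℤ) * (Nat.card L : ℤ) = 3 * (64 * (o : ℤ) ^ 3) := by
      have : 16 * Nat.card L = 3 * (64 * o ^ 3) := by linarith [hM38]
      exact_mod_cast this
    have ho0 : (o : ℤ) ^ 3 ≠ 0 := pow_ne_zero _ (by exact_mod_cast (show o ≠ 0 by omega))
    have hquad : u * (3 * (i : ℤ) * u - 32 * u - 12 * δ) = 1 := by
      rw [hf'] at heq
      push_cast at heq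
      rcases hδ with rfl | rfl
      all_goals
        refine mul_left_cancel₀ (mul_ne_zero (show (1024 : ℤ) ≠ 0 by norm_num) ho0) ?_
        linear_combination heq - 16 * (i : ℤ) * u ^ 2 * hM38'
    have hu1 : u = 1 := by
      rcases Int.eq_one_or_neg_one_of_mul_eq_one hquad with h | h
      · exact h
      · rcases hδ with rfl | rfl <;> omega
    subst hu1
    have hi15' : i = 15 := by rcases hδ with rfl | rfl <;> omega
    have hG360 : Nat.card G = 360 * o ^ 3 := by
      have h16 : 16 * Nat.card L = 3 * (64 * o ^ 3) := by exact_mod_cast hM38'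
      rw [hi15'] at hG
      omega
    have hdiv : 720 * o ^ 3 ∣ 720 * 1816214400 := by
      have h := SimpleOrder.two_mul_card_dvd_factorial_index hnc X hX
      rw [← hi, hi15', hG360] at h
      have e : Nat.factorial 15 = 720 * 1816214400 := by decide +kernel
      rw [e] at h
      rwa [show 720 * o ^ 3 = 2 * (360 * o ^ 3) by ring]
    have hdiv' : o ^ 3 ∣ 1816214400 := Nat.dvd_of_mul_dvd_mul_left (by norm_num) hdiv
    have holt : o < 1221 := by
      by_contra hge
      have h1 := Nat.le_of_dvd (by norm_num) hdiv'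
      have h2 := Nat.pow_le_pow_left (show 1221 ≤ o by omega) 3
      norm_num at h2
      omega
    obtain ⟨j, hj⟩ := hoodd
    rcases small_cube o holt (by omega) hdiv' with h | h
    · omega
    · exact false_9720 hnc (by rw [hG360, h]; norm_num)

theorem proper_two_nilpotent_dih (hX : X ≠ ⊤) :
    ∃ W : Subgroup G, W ≤ X ∧ Odd (Nat.card W) ∧ X ≤ Subgroup.normalizer (W : Set G) ∧
      ∀ g ∈ X, Odd (orderOf g) → g ∈ W := by
  haveI : Fact (Nat.Prime 2) := ⟨Nat.prime_two⟩
  have hle := sylow_le S d X hCX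
  by_cases hall : ∀ x, d.Refl x → ∃ g ∈ X, g * d.z * g⁻¹ = x
  · refine absurd (no_one_class_dih S d hcls X hCX hnab (fun _ => ho) 1 (by simpa using hk) ?_) hX
    intro w hwX hw
    obtain ⟨g, hg, hgw⟩ := conj_into S d X hCX hwX hw
    obtain ⟨h, hh, hhw⟩ : ∃ h ∈ X, h * d.z * h⁻¹ = g * w * g⁻¹ := by
      rcases hgw with e | e
      · exact ⟨1, one_mem X, by rw [e]; group⟩
      · exact hall _ e
    refine ⟨g⁻¹ * h, mul_mem (inv_mem hg) hh, ?_⟩
    rw [show g⁻¹ * h * d.z * (g⁻¹ * h)⁻¹ = g⁻¹ * (h * d.z * h⁻¹) * g by group, hhw]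
    group
  push Not at hall
  obtain ⟨y₀, hy₀, hy₀f⟩ := hall
  have hnone : ∀ x, d.Refl x → ∀ g ∈ X, g * d.z * g⁻¹ ≠ x := fun x hx g hg hgx =>
    not_mixed S d hcls X hCX hnab ho hk hX hx hy₀ ⟨g, hg, hgx⟩ hy₀f
  set SX := S.subtype hle with hSX
  have htr : ∀ x, ∀ hx : d.Refl x, ∃ M : Subgroup X, M.Normal ∧ M.index = 2 ∧
      (⟨x, hle hx.1⟩ : X) ∉ M := by
    intro x hx
    have hr : (Subgroup.zpowers d.r).subgroupOf X ≤ (SX : Subgroup X) := by
      rw [hSX, Sylow.coe_subtype]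
      exact fun w hw => d.zpowers_le hw
    refine TransferThompson.thompson_transfer SX _ hr ?_ ?_ ?_ ?_
    · rw [hSX, Sylow.coe_subtype, Subgroup.relIndex_subgroupOf hle]
      have h := Subgroup.card_mul_index ((Subgroup.zpowers d.r).subgroupOf (S : Subgroup G))
      rw [Nat.card_congr (Subgroup.subgroupOfEquivOfLe d.zpowers_le).toEquiv, Nat.card_zpowers,
        d.ord, card_dih d, ← Subgroup.relIndex] at h
      exact Nat.eq_of_mul_eq_mul_left (Nat.two_pow_pos d.k) (by rw [h]; ring)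
    · rw [Subgroup.orderOf_mk]; exact orderOf_refl d hx
    · rw [hSX, Sylow.coe_subtype]; exact hx.1
    · intro g hg
      rw [Subgroup.mem_subgroupOf] at hg
      simp only [Subgroup.coe_mul, Subgroup.coe_inv] at hg
      have h := d.rot_sq hg (sq_of_orderOf_two (by rw [orderOf_conj]; exact orderOf_refl d hx))
        (ne_one_of_orderOf_two (by rw [orderOf_conj]; exact orderOf_refl d hx))
      refine hnone x hx (g : G)⁻¹ (inv_mem g.2) ?_
      rw [← h]
      group
  obtain ⟨A, hAn, hA2, hA⟩ := htr _ d.refl_a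
  obtain ⟨B, hBn, hB2, hB⟩ := htr _ d.refl_ar
  set K := A ⊓ B with hK
  haveI : K.Normal := Subgroup.normal_inf_normal A B
  obtain ⟨a, -, ha⟩ : ∃ a ≤ 2, K.index = 2 ^ a := by
    refine (Nat.dvd_prime_pow Nat.prime_two).1 ?_
    rw [← Subgroup.relIndex_mul_index (inf_le_left : A ⊓ B ≤ A), Subgroup.inf_relIndex_left,
      pow_two, hA2]
    exact Nat.mul_dvd_mul (hB2 ▸ Subgroup.relIndex_dvd_index_of_normal B A) dvd_rfl
  have hcyc : IsCyclic ((SX : Subgroup X).subgroupOf K) := by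
    let f : ((SX : Subgroup X).subgroupOf K) →* Subgroup.zpowers d.r :=
      MonoidHom.mk' (fun v => ⟨(((v : K) : X) : G), by
        have hvS : (((v : K) : X) : G) ∈ (S : Subgroup G) := by
          have key : ∀ w : X, w ∈ ((S.subtype hle : Sylow 2 X) : Subgroup X) →
              (w : G) ∈ (S : Subgroup G) := fun w hw => by
            rwa [Sylow.coe_subtype, Subgroup.mem_subgroupOf] at hw
          exact key _ (Subgroup.mem_subgroupOf.1 v.2)
        by_contra hrot
        obtain ⟨u, hu, hu'⟩ := d.refl_class ⟨hvS, hrot⟩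
        have hmem : (⟨u, hle hu⟩ : X) * ((v : K) : X) * (⟨u, hle hu⟩ : X)⁻¹ ∈ K :=
          Subgroup.Normal.conj_mem inferInstance _ (v : K).2 _
        rcases hu' with h | h
        · have e : (⟨d.a, hle d.refl_a.1⟩ : X) =
              (⟨u, hle hu⟩ : X) * ((v : K) : X) * (⟨u, hle hu⟩ : X)⁻¹ := Subtype.ext h.symm
          exact hA (e ▸ hmem.1)
        · have e : (⟨d.a * d.r, hle d.refl_ar.1⟩ : X) =
              (⟨u, hle hu⟩ : X) * ((v : K) : X) * (⟨u, hle hu⟩ : X)⁻¹ := Subtype.ext h.symm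
          exact hB (e ▸ hmem.2)⟩)
        (fun v w => rfl)
    exact isCyclic_of_injective f fun v w h => Subtype.ext (Subtype.ext (Subtype.ext
      (congrArg Subtype.val h : _)))
  obtain ⟨P, N, hN, hNc⟩ := TwoFusionTools.hasNormalPComplement_of_cyclic SX K ha hcyc
  have hidx : N.index = Nat.card (P : Subgroup X) :=
    Subgroup.IsComplement'.index_eq_card (Subgroup.IsComplement'.symm hNc)
  obtain ⟨b, hb⟩ := IsPGroup.iff_card.1 P.2
  refine ⟨N.map X.subtype, Subgroup.map_subtype_le N, ?_, ?_, ?_⟩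
  · rw [Subgroup.card_map_of_injective X.subtype_injective]
    refine Nat.not_even_iff_odd.1 fun he => P.not_dvd_index ?_
    rw [Subgroup.IsComplement'.index_eq_card hNc]
    exact even_iff_two_dvd.1 he
  · intro g hg
    rw [Subgroup.mem_normalizer_iff]
    intro v
    constructor
    · rintro ⟨n, hn, rfl⟩
      exact ⟨⟨g, hg⟩ * n * (⟨g, hg⟩ : X)⁻¹, hN.conj_mem _ hn _, rfl⟩
    · rintro ⟨n, hn, he⟩
      refine ⟨(⟨g, hg⟩ : X)⁻¹ * n * ⟨g, hg⟩, ?_, ?_⟩
      · simpa using hN.conj_mem _ hn (⟨g, hg⟩ : X)⁻¹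
      · simp only [Subgroup.subtype_apply] at he
        simp [he, mul_assoc]
  · intro g hg hgodd
    refine ⟨⟨g, hg⟩, ?_, rfl⟩
    haveI := hN
    have h1 : orderOf ((⟨g, hg⟩ : X) : X ⧸ N) ∣ N.index := by
      rw [Subgroup.index]; exact orderOf_dvd_natCard _
    have h2 : orderOf ((⟨g, hg⟩ : X) : X ⧸ N) ∣ orderOf g := by
      rw [← Subgroup.orderOf_mk g hg]
      exact orderOf_map_dvd (QuotientGroup.mk' N) _
    rw [hidx, hb] at h1
    show (⟨g, hg⟩ : X) ∈ N
    rw [← QuotientGroup.eq_one_iff, ← orderOf_eq_one_iff]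
    exact Nat.eq_one_of_dvd_coprimes ((Nat.coprime_two_right.2 hgodd).pow_right b) h2 h1

end Main

variable [IsSimpleGroup G]

/-- A subgroup over `C(z)` with one class of involutions is the whole group. -/
theorem no_one_class (hnab : ∃ a b : G, a * b ≠ b * a) (S : Sylow 2 G) (n : ℕ) (hn : 2 ≤ n)
    (eS : ↥(S : Subgroup G) ≃* DihedralGroup n)
    (hcls : ∀ s t : G, orderOf s = 2 → orderOf t = 2 → IsConj s t)
    (z : G) (hz : orderOf z = 2) (hzS : z ∈ (S : Subgroup G))
    (hzZ : ∀ s ∈ (S : Subgroup G), s * z = z * s)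
    (ho : ∃ g : G, Commute g z ∧ g ≠ 1 ∧ Odd (orderOf g))
    (X : Subgroup G) (hCX : Subgroup.centralizer ({z} : Set G) ≤ X) (k : ℕ)
    (hk : ∀ x : G, orderOf x = 2 → x ≠ z → Commute z x →
      Nat.card (Subgroup.centralizer ({z, x} : Set G)) = 4 * k)
    (hone : ∀ x ∈ X, orderOf x = 2 → ∃ g ∈ X, g * z * g⁻¹ = x) : X = ⊤ := by
  obtain ⟨d, rfl⟩ := exists_dih_with S hn eS hz hzS hzZ
  exact no_one_class_dih S d hcls X hCX hnab (fun _ => ho) k hk hone

/-- `no_one_class` where odd elements are only needed for Sylow subgroups of order four. -/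
theorem no_one_class' (hnab : ∃ a b : G, a * b ≠ b * a) (S : Sylow 2 G) (n : ℕ) (hn : 2 ≤ n)
    (eS : ↥(S : Subgroup G) ≃* DihedralGroup n)
    (hcls : ∀ s t : G, orderOf s = 2 → orderOf t = 2 → IsConj s t)
    (z : G) (hz : orderOf z = 2) (hzS : z ∈ (S : Subgroup G))
    (hzZ : ∀ s ∈ (S : Subgroup G), s * z = z * s)
    (ho : n = 2 → ∃ g : G, Commute g z ∧ g ≠ 1 ∧ Odd (orderOf g))
    (X : Subgroup G) (hCX : Subgroup.centralizer ({z} : Set G) ≤ X) (k : ℕ)
    (hk : ∀ x : G, orderOf x = 2 → x ≠ z → Commute z x →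
      Nat.card (Subgroup.centralizer ({z, x} : Set G)) = 4 * k)
    (hone : ∀ x ∈ X, orderOf x = 2 → ∃ g ∈ X, g * z * g⁻¹ = x) : X = ⊤ := by
  obtain ⟨d, rfl⟩ := exists_dih_with S hn eS hz hzS hzZ
  refine no_one_class_dih S d hcls X hCX hnab (fun h1 => ho ?_) k hk hone
  have h := card_dih d
  rw [Nat.card_congr eS.toEquiv, DihedralGroup.nat_card, h1] at h
  omega

/-- A proper subgroup over `C(z)` has a normal subgroup of odd order containing all its elements
of odd order, when the four-groups are self-centralizing. -/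
theorem proper_two_nilpotent (hnab : ∃ a b : G, a * b ≠ b * a) (S : Sylow 2 G) (n : ℕ) (hn : 2 ≤ n)
    (eS : ↥(S : Subgroup G) ≃* DihedralGroup n)
    (hcls : ∀ s t : G, orderOf s = 2 → orderOf t = 2 → IsConj s t)
    (z : G) (hz : orderOf z = 2) (hzS : z ∈ (S : Subgroup G))
    (hzZ : ∀ s ∈ (S : Subgroup G), s * z = z * s)
    (ho : ∃ g : G, Commute g z ∧ g ≠ 1 ∧ Odd (orderOf g))
    (X : Subgroup G) (hCX : Subgroup.centralizer ({z} : Set G) ≤ X)
    (hk : ∀ x : G, orderOf x = 2 → x ≠ z → Commute z x →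
      Nat.card (Subgroup.centralizer ({z, x} : Set G)) = 4)
    (hX : X ≠ ⊤) :
    ∃ W : Subgroup G, W ≤ X ∧ Odd (Nat.card W) ∧ X ≤ Subgroup.normalizer (W : Set G) ∧
      ∀ g ∈ X, Odd (orderOf g) → g ∈ W := by
  obtain ⟨d, rfl⟩ := exists_dih_with S hn eS hz hzS hzZ
  exact proper_two_nilpotent_dih S d hcls X hCX hnab ho hk hX

end Cfsg.Agent.GWDihIndex11
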