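import Cfsg.Agent.Lib.GWDihTools33
import Cfsg.Agent.Lib.GWDihIndex11
import Cfsg.Agent.Lib.EvenCyclicDihedral27
import Cfsg.Agent.Lib.LocalBasics

/-!
For S3322: if the centralizer of the involution `j` is generalized dihedral over `A`, then the simple normal
subgroup `L` with dihedral Sylow 2-subgroups satisfies the hypothesis of the generalized dihedral core.
-/

set_option autoImplicit false
set_option linter.style.haveILetI false
set_option linter.unusedSectionVars false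

namespace Cfsg.Agent.GWDihHypL27

open Subgroup Cfsg.Agent.DihedralPair68
open Cfsg.Agent.GWDihBounds11 (sq_of_orderOf_two ne_one_of_orderOf_two orderOf_refl refl_ne_z
  mem_centralizer_pair card_dih)

universe u

variable {Y : Type u} [Group Y] [Finite Y]

/-- A Sylow subgroup that is dihedral in the sense of `SylowDihedral` is a dihedral group. -/
theorem iso_of_sylowDihedral (hD : EvenCyclic27.SylowDihedral Y) (S : Sylow 2 Y) :
    ∃ n, 2 ≤ n ∧ Nonempty (↥(S : Subgroup Y) ≃* DihedralGroup n) := by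
  haveI : Fact (Nat.Prime 2) := ⟨Nat.prime_two⟩
  obtain ⟨B, hBc, hBS, ⟨v, hvS, hvB⟩, hsq, hmul, hB1⟩ := hD S
  haveI := hBc
  haveI : NeZero (Nat.card B) := ⟨by omega⟩
  obtain ⟨⟨r, hrB⟩, hr⟩ := IsCyclic.exists_generator (α := B)
  have hBz : B = zpowers r := le_antisymm (fun x hx => by
    obtain ⟨i, hi⟩ := hr ⟨x, hx⟩
    exact ⟨i, congrArg Subtype.val hi⟩) (zpowers_le.2 hrB)
  have hvS' : (⟨v, hvS⟩ : (S : Subgroup Y)) ∉ zpowers (⟨r, hBS hrB⟩ : (S : Subgroup Y)) := by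
    rintro ⟨i, hi⟩
    exact hvB (hBz ▸ ⟨i, congrArg Subtype.val hi⟩)
  refine ⟨Nat.card B, by omega, PGroupsCyclic.nonempty_mulEquiv_dihedral (x := ⟨r, hBS hrB⟩) ?_ hvS'
    (Subtype.ext (EvenCyclic27.inverts_of_out hBS hsq hvS hvB hrB))
    (Subtype.ext (by rw [pow_two]; exact hsq v hvS hvB)) ?_⟩
  · rw [Subgroup.orderOf_mk, hBz, Nat.card_zpowers]
  · obtain ⟨Q, hQ⟩ : ∃ Q, Q = B.subgroupOf (S : Subgroup Y) := ⟨_, rfl⟩
    have hQi : Q.index = 2 := by
      rw [index_eq_two_iff]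
      refine ⟨⟨v, hvS⟩, fun b => ?_⟩
      simp only [hQ, mem_subgroupOf, Subgroup.coe_mul]
      by_cases hb : (b : Y) ∈ B
      · exact Or.inr ⟨hb, fun h => hvB (by simpa using mul_mem (inv_mem hb) h)⟩
      · exact Or.inl ⟨hmul _ b.2 hb v hvS hvB, hb⟩
    rw [← Q.card_mul_index, hQi, hQ, Nat.card_congr (subgroupOfEquivOfLe hBS).toEquiv, mul_comm]

/-- An involution acting without fixed points inverts. -/
theorem invert_of_fpf {O : Subgroup Y} {x : Y} (hx : x * x = 1) (hn : ∀ c ∈ O, x * c * x⁻¹ ∈ O)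
    (hfix : ∀ c ∈ O, Commute x c → c = 1) : ∀ c ∈ O, x * c * x⁻¹ = c⁻¹ := by
  let f : O → O := fun c => ⟨(c : Y)⁻¹ * (x * c * x⁻¹), mul_mem (inv_mem c.2) (hn c c.2)⟩
  have hf : Function.Injective f := by
    intro a b h
    have h' : (a : Y)⁻¹ * (x * a * x⁻¹) = (b : Y)⁻¹ * (x * b * x⁻¹) := congrArg Subtype.val h
    have e : x * ((b : Y) * (a : Y)⁻¹) * x⁻¹ = (b : Y) * (a : Y)⁻¹ := by
      calc x * ((b : Y) * (a : Y)⁻¹) * x⁻¹
          = (b : Y) * ((b : Y)⁻¹ * (x * b * x⁻¹)) * ((a : Y) * ((a : Y)⁻¹ * (x * a * x⁻¹)))⁻¹ := by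
            group
        _ = (b : Y) * (a : Y)⁻¹ := by rw [← h']; group
    have h1 := hfix _ (mul_mem b.2 (inv_mem a.2)) (mul_inv_eq_iff_eq_mul.1 e)
    exact (Subtype.ext (mul_inv_eq_one.1 h1)).symm
  intro c hc
  obtain ⟨a, ha⟩ := Finite.surjective_of_injective hf ⟨c, hc⟩
  have hca : (a : Y)⁻¹ * (x * a * x⁻¹) = c := congrArg Subtype.val ha
  have hxi : x⁻¹ = x := inv_eq_of_mul_eq_one_right hx
  rw [← hca]
  calc x * ((a : Y)⁻¹ * (x * a * x⁻¹)) * x⁻¹ = x * (a : Y)⁻¹ * x * a * (x⁻¹ * x⁻¹) := by group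
    _ = x * (a : Y)⁻¹ * x⁻¹ * a := by rw [← mul_inv_rev, hx, inv_one, mul_one, hxi]
    _ = ((a : Y)⁻¹ * (x * a * x⁻¹))⁻¹ := by group

theorem orderOf_conj (g x : Y) : orderOf (g * x * g⁻¹) = orderOf x :=
  GWDihIndex11.orderOf_conj g x

theorem commute_conj {g a b : Y} (h : Commute a b) : Commute (g * a * g⁻¹) (g * b * g⁻¹) :=
  (Commute.conj_iff g).2 h

section Dihedral

variable (S : Sylow 2 Y) (d : Dih (S : Subgroup Y))

theorem sylow_le_cen : (S : Subgroup Y) ≤ centralizer ({d.z} : Set Y) := fun _ hs =>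
  mem_centralizer_singleton_iff.2 (d.z_comm hs).eq.symm

theorem relIndex_rot : (zpowers d.r).relIndex (S : Subgroup Y) = 2 := by
  have h := card_mul_index ((zpowers d.r).subgroupOf (S : Subgroup Y))
  rw [Nat.card_congr (subgroupOfEquivOfLe d.zpowers_le).toEquiv, Nat.card_zpowers, d.ord, card_dih d,
    ← relIndex] at h
  exact Nat.eq_of_mul_eq_mul_left (Nat.two_pow_pos d.k) (by rw [h]; ring)

include d in
/-- One class of involutions in a simple group with dihedral Sylow subgroups. -/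
theorem one_class [IsSimpleGroup Y] (hnab : ∃ a b : Y, a * b ≠ b * a) :
    ∀ s t : Y, orderOf s = 2 → orderOf t = 2 → IsConj s t := by
  suffices key : ∀ s, orderOf s = 2 → IsConj s d.z from fun s t hs ht => (key s hs).trans (key t ht).symm
  intro s hs
  obtain ⟨g, hg⟩ := EvenCyclic27.exists_conj_mem S hs
  have ho : orderOf (g * s * g⁻¹) = 2 := by rw [orderOf_conj, hs]
  refine (isConj_iff.2 ⟨g, rfl⟩ : IsConj s (g * s * g⁻¹)).trans ?_
  rcases d.cases_sq hg (sq_of_orderOf_two ho) (ne_one_of_orderOf_two ho) with h | h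
  · rw [h]
  · by_contra hne
    obtain ⟨M, hMn, hM2, -⟩ := TransferThompson.thompson_transfer S (zpowers d.r) d.zpowers_le
      (relIndex_rot S d) ho hg (fun c hc => hne (isConj_iff.2 ⟨c, d.rot_sq hc
        (sq_of_orderOf_two (by rw [orderOf_conj, ho]))
        (ne_one_of_orderOf_two (by rw [orderOf_conj, ho]))⟩))
    rcases hMn.eq_bot_or_eq_top with rfl | rfl
    · rw [index_bot] at hM2
      haveI : Fact (Nat.Prime 2) := ⟨Nat.prime_two⟩
      haveI : IsCyclic Y := isCyclic_of_prime_card hM2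
      obtain ⟨a, b, hab⟩ := hnab
      exact hab (IsCyclic.commGroup.mul_comm a b)
    · rw [index_top] at hM2
      omega

variable (O : Subgroup Y) (hO : ∀ c, c ∈ O ↔ Commute d.z c ∧ Odd (orderOf c))

include hO

theorem cen_le_sup : centralizer ({d.z} : Set Y) ≤ O ⊔ (S : Subgroup Y) := by
  haveI : Fact (Nat.Prime 2) := ⟨Nat.prime_two⟩
  obtain ⟨eS⟩ := d.nonempty_equiv
  have h2 : 2 ≤ 2 ^ d.k := by
    have := Nat.pow_le_pow_right (show 0 < 2 by norm_num) d.hk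
    omega
  obtain ⟨N, hN, hNodd, e, hNi⟩ := Cfsg.Agent.S0514.result S (2 ^ d.k) h2 ⟨eS⟩ d.z
    (GWDihBounds11.orderOf_z d)
  haveI := hN
  have hNO : N ≤ O.subgroupOf (centralizer ({d.z} : Set Y)) := fun x hx =>
    mem_subgroupOf.2 ((hO _).2 ⟨(mem_centralizer_singleton_iff.1 x.2).symm, by
      rw [Subgroup.orderOf_coe]; exact hNodd.of_dvd_nat (N.orderOf_dvd_natCard hx)⟩)
  rw [← relIndex_eq_one]
  refine Nat.eq_one_of_dvd_coprimes (Nat.Coprime.pow_left e
    ((Nat.Prime.coprime_iff_not_dvd Nat.prime_two).2 S.not_dvd_index)) ?_ ?_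
  · exact hNi ▸ (index_dvd_of_le (hNO.trans (subgroupOf_mono _ le_sup_left)))
  · exact ((relIndex_dvd_of_le_left _ le_sup_right).trans ⟨_, (relIndex_mul_index (sylow_le_cen S d)).symm⟩)

omit hO

variable (hcls : ∀ s t : Y, orderOf s = 2 → orderOf t = 2 → IsConj s t)

include hcls

/-- A reflection is the image of the central involution under an element normalising the pair. -/
theorem exists_fuse {x : Y} (hx : d.Refl x) :
    ∃ g : Y, g * d.z * g⁻¹ = x ∧ ∀ c, Commute d.z c → Commute x c →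
      Commute d.z (g * c * g⁻¹) ∧ Commute x (g * c * g⁻¹) := by
  haveI : Fact (Nat.Prime 2) := ⟨Nat.prime_two⟩
  obtain ⟨l, hl⟩ := isConj_iff.1 (hcls d.z x (GWDihBounds11.orderOf_z d) (orderOf_refl d hx))
  by_cases hk1 : d.k = 1
  · haveI : IsMulCommutative (S : Subgroup Y) :=
      ⟨⟨fun a b => Subtype.ext (d.comm_of_k_one hk1 a.2 b.2).eq⟩⟩
    obtain ⟨m, hm, hmx⟩ := S.conj_eq_normalizer_conj_of_mem d.z l⁻¹ d.z_mem
      (by rw [inv_inv, hl]; exact hx.1)
    rw [inv_inv, hl] at hmx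
    refine ⟨m⁻¹, by rw [inv_inv, ← hmx], fun c hcz hcx => ?_⟩
    have hall : ∀ w ∈ (S : Subgroup Y), Commute w c := by
      intro w hw
      rcases d.comm_refl hx hw (d.comm_of_k_one hk1 hx.1 hw) with h | h | h | h <;> rw [h]
      · exact Commute.one_left c
      · exact hcz
      · exact hcx
      · exact hcx.mul_left hcz
    have key : ∀ w ∈ (S : Subgroup Y), Commute w (m⁻¹ * c * m⁻¹⁻¹) := fun w hw => by
      have h := commute_conj (g := m⁻¹) (hall _ ((mem_normalizer_iff.1 hm w).1 hw))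
      rwa [show m⁻¹ * (m * w * m⁻¹) * m⁻¹⁻¹ = w by group] at h
    exact ⟨key _ d.z_mem, key x hx.1⟩
  · have hk2 : 2 ≤ d.k := by have := d.hk; omega
    have hu : orderOf (l⁻¹ * d.z * l) = 2 := by
      rw [show l⁻¹ * d.z * l = l⁻¹ * d.z * l⁻¹⁻¹ by group, orderOf_conj, GWDihBounds11.orderOf_z d]
    have hxz : Commute d.z x := d.z_comm hx.1
    have huC : l⁻¹ * d.z * l ∈ centralizer ({d.z} : Set Y) := by
      refine mem_centralizer_singleton_iff.2 ?_
      have h := commute_conj (g := l⁻¹) hxz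
      rw [inv_inv, show l⁻¹ * x * l = d.z by rw [← hl]; group] at h
      exact h.eq
    obtain ⟨h', hh', hcase⟩ := GWDihIndex11.conj_into S d _ le_rfl huC hu
    have hh : Commute h' d.z := mem_centralizer_singleton_iff.1 hh'
    obtain ⟨w, hw⟩ : ∃ w, w = l * h'⁻¹ := ⟨_, rfl⟩
    have hwz : w * d.z * w⁻¹ = x := by
      rw [hw, show l * h'⁻¹ * d.z * (l * h'⁻¹)⁻¹ = l * (h'⁻¹ * d.z * h') * l⁻¹ by group,
        show h'⁻¹ * d.z * h' = d.z by rw [mul_assoc, ← hh.eq]; group, hl]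
    have hwu : h' * (l⁻¹ * d.z * l) * h'⁻¹ = w⁻¹ * d.z * w := by rw [hw]; group
    rw [hwu] at hcase
    have hrefl : d.Refl (w⁻¹ * d.z * w) := by
      refine hcase.resolve_left fun e => refl_ne_z d hx ?_
      rw [← hwz]
      nth_rw 1 [← e]
      group
    obtain ⟨q', hq'⟩ : ∃ q', q' = w * d.q * w⁻¹ := ⟨_, rfl⟩
    have hqx : q' * x * q'⁻¹ = x := by
      rw [hq', ← hwz, show w * d.q * w⁻¹ * (w * d.z * w⁻¹) * (w * d.q * w⁻¹)⁻¹ =
        w * (d.q * d.z * d.q⁻¹) * w⁻¹ by group, ← (d.z_comm d.q_mem).eq, mul_inv_cancel_right]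
    have hqz : q' * d.z * q'⁻¹ = d.z * x := by
      rw [hq', show w * d.q * w⁻¹ * d.z * (w * d.q * w⁻¹)⁻¹ =
        w * (d.q * (w⁻¹ * d.z * w) * d.q⁻¹) * w⁻¹ by group, d.q_refl hk2 hrefl]
      rw [show w * (w⁻¹ * d.z * w * d.z) * w⁻¹ = d.z * (w * d.z * w⁻¹) by group, hwz]
    have hqq : d.q * d.z * d.q⁻¹ = d.z := by rw [← (d.z_comm d.q_mem).eq, mul_inv_cancel_right]
    refine ⟨d.q * q', ?_, fun c hcz hcx => ?_⟩
    · rw [show d.q * q' * d.z * (d.q * q')⁻¹ = d.q * (q' * d.z * q'⁻¹) * d.q⁻¹ by group, hqz,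
        show d.q * (d.z * x) * d.q⁻¹ = d.q * d.z * d.q⁻¹ * (d.q * x * d.q⁻¹) by group, hqq,
        d.q_refl hk2 hx, ← mul_assoc, hxz.eq, mul_assoc, d.z_sq, mul_one]
    · obtain ⟨c', hc'⟩ : ∃ c', c' = q' * c * q'⁻¹ := ⟨_, rfl⟩
      have h1 : Commute x c' := by
        have h := commute_conj (g := q') hcx
        rwa [hqx, ← hc'] at h
      have h2 : Commute d.z c' := by
        have h := commute_conj (g := q') hcz
        rw [hqz, ← hc'] at h
        have h3 := h.mul_left h1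
        rwa [mul_assoc, d.refl_sq hx, mul_one] at h3
      have e : d.q * q' * c * (d.q * q')⁻¹ = d.q * c' * d.q⁻¹ := by rw [hc']; group
      rw [e]
      have h4 : Commute d.z (d.q * c' * d.q⁻¹) := by
        have h := commute_conj (g := d.q) h2
        rwa [hqq] at h
      refine ⟨h4, ?_⟩
      have h := (commute_conj (g := d.q) h1)
      rw [d.q_refl hk2 hx] at h
      have h3 := h.mul_left h4
      rwa [mul_assoc, d.z_sq, mul_one] at h3

include hO

/-- If the reflections act alike on the odd core of the centralizer, then they invert it. -/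
theorem invert_of_alike [IsSimpleGroup Y] (hnab : ∃ a b : Y, a * b ≠ b * a)
    (hab : ∀ a ∈ O, ∀ b ∈ O, Commute a b)
    (halike : ∀ x y, d.Refl x → d.Refl y → ∀ c ∈ O, Commute x c → Commute y c) :
    ∀ x, d.Refl x → ∀ c ∈ O, x * c * x⁻¹ = c⁻¹ := by
  haveI : Fact (Nat.Prime 2) := ⟨Nat.prime_two⟩
  intro x hx
  have hxC : x ∈ centralizer ({d.z} : Set Y) := sylow_le_cen S d hx.1
  have hOn : ∀ h ∈ centralizer ({d.z} : Set Y), ∀ c ∈ O, h * c * h⁻¹ ∈ O := by
    intro h hh c hc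
    refine (hO _).2 ⟨?_, by rw [orderOf_conj]; exact ((hO c).1 hc).2⟩
    have e := commute_conj (g := h) ((hO c).1 hc).1
    rwa [mem_centralizer_singleton_iff.1 hh, mul_inv_cancel_right] at e
  refine invert_of_fpf (d.refl_sq hx) (hOn x hxC) ?_
  by_contra hcon
  push Not at hcon
  obtain ⟨c₀, hc₀, hxc₀, hc₀1⟩ := hcon
  obtain ⟨K, hKdef⟩ : ∃ K : Subgroup Y, K = O ⊓ centralizer ({x} : Set Y) := ⟨_, rfl⟩
  have hK : ∀ c, c ∈ K ↔ c ∈ O ∧ Commute x c := fun c => by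
    rw [hKdef, mem_inf, mem_centralizer_singleton_iff]
    exact and_congr_right fun _ => eq_comm
  have hKr : ∀ y, d.Refl y → ∀ c ∈ O, (Commute y c ↔ c ∈ K) := fun y hy c hc =>
    ⟨fun h => (hK c).2 ⟨hc, halike y x hy hx c hc h⟩, fun h => halike x y hx hy c hc ((hK c).1 h).2⟩
  have hKn : centralizer ({d.z} : Set Y) ≤ normalizer (K : Set Y) := by
    refine (cen_le_sup S d O hO).trans (sup_le (fun o ho => ?_) (fun s hs => ?_))
    · refine GWDih33.mem_norm_of_conj fun c hc => ?_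
      rw [(hab o ho c ((hK c).1 hc).1).eq, mul_inv_cancel_right]
      exact hc
    · refine GWDih33.mem_norm_of_conj fun c hc => ?_
      obtain ⟨hcO, hcx⟩ := (hK c).1 hc
      have hsC := sylow_le_cen S d hs
      have hy : d.Refl (s * x * s⁻¹) := by
        have h2 : orderOf (s * x * s⁻¹) = 2 := by rw [orderOf_conj, orderOf_refl d hx]
        refine (d.cases_sq (mul_mem (mul_mem hs hx.1) (inv_mem hs)) (sq_of_orderOf_two h2)
          (ne_one_of_orderOf_two h2)).resolve_left fun e => refl_ne_z d hx ?_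
        have : x = s⁻¹ * d.z * s := by rw [← e]; group
        rw [this, mul_assoc, (d.z_comm hs).eq, inv_mul_cancel_left]
      exact (hKr _ hy _ (hOn s hsC c hcO)).1 (commute_conj hcx)
  have hall : ∀ v, orderOf v = 2 → v ≠ d.z → Commute d.z v → ∀ c ∈ O, (Commute v c ↔ c ∈ K) := by
    intro v hv hvz hzv c hc
    obtain ⟨h, hh, hcase⟩ := GWDihIndex11.conj_into S d _ le_rfl
      (mem_centralizer_singleton_iff.2 hzv.eq.symm) hv
    have hy : d.Refl (h * v * h⁻¹) := by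
      refine hcase.resolve_left fun e => hvz ?_
      have e' : v = h⁻¹ * d.z * h := by rw [← e]; group
      rw [e', mul_assoc, ← mem_centralizer_singleton_iff.1 hh, inv_mul_cancel_left]
    rw [← Commute.conj_iff h, hKr _ hy _ (hOn h hh c hc)]
    exact (mem_normalizer_iff.1 (hKn hh) c).symm
  have hKodd : Odd (Nat.card K) := by
    refine Nat.not_even_iff_odd.1 fun he => ?_
    obtain ⟨⟨w, hw⟩, hw2⟩ := exists_prime_orderOf_dvd_card' 2 (even_iff_two_dvd.1 he)
    rw [Subgroup.orderOf_mk] at hw2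
    have := ((hO w).1 ((hK w).1 hw).1).2
    rw [hw2] at this
    exact absurd this (by decide)
  have hcard : ∀ v : Y, orderOf v = 2 → v ≠ d.z → Commute d.z v →
      Nat.card (centralizer ({d.z, v} : Set Y)) = 4 * Nat.card K := by
    intro v hv hvz hzv
    have hKH : K ≤ centralizer ({d.z, v} : Set Y) := fun c hc => mem_centralizer_pair.2
      ⟨((hO c).1 ((hK c).1 hc).1).1, (hall v hv hvz hzv c ((hK c).1 hc).1).2 hc⟩
    obtain ⟨H, hH⟩ : ∃ H, H = centralizer ({d.z, v} : Set Y) := ⟨_, rfl⟩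
    rw [← hH] at hKH ⊢
    have hmemH : ∀ g, g ∈ H ↔ Commute d.z g ∧ Commute v g := fun g => by
      rw [hH]; exact mem_centralizer_pair
    haveI : (K.subgroupOf H).Normal := ⟨fun c hc g => by
      rw [mem_subgroupOf] at hc ⊢
      exact (mem_normalizer_iff.1 (hKn (mem_centralizer_singleton_iff.2
        ((hmemH g).1 g.2).1.eq.symm)) c).1 hc⟩
    have hoddK : ∀ g : H, Odd (orderOf g) → g ∈ K.subgroupOf H := fun g hg => by
      obtain ⟨h1, h2⟩ := (hmemH g).1 g.2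
      have hgO : (g : Y) ∈ O := (hO _).2 ⟨h1, by rwa [Subgroup.orderOf_coe]⟩
      exact mem_subgroupOf.2 ((hall v hv hvz hzv _ hgO).1 h2)
    have hev : ∀ {w : H}, orderOf (w : Y) = 2 → w ∉ K.subgroupOf H := fun {w} hw h => by
      have h3 := ((hO _).1 ((hK _).1 (mem_subgroupOf.1 h)).1).2
      rw [hw] at h3
      exact absurd h3 (by decide)
    have hci := (K.subgroupOf H).card_mul_index
    rw [Nat.card_congr (subgroupOfEquivOfLe hKH).toEquiv] at hci
    rcases Nat.eq_two_pow_or_exists_odd_prime_and_dvd (K.subgroupOf H).index with ⟨e, he⟩ | ⟨p, hp, hpd, hpo⟩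
    · have he2 : e ≤ 2 := by
        by_contra hlt
        refine GWDihBounds11.not_eight_dvd S d (GWDihBounds11.orderOf_z d) hv (Ne.symm hvz) hzv ?_
        rw [← hH, ← hci, he]
        exact dvd_mul_of_dvd_right (pow_dvd_pow 2 (show 3 ≤ e by omega)) _
      have he1 : 2 ≤ e := by
        by_contra hlt
        have hzH : d.z ∈ H := (hmemH _).2 ⟨Commute.refl _, hzv.symm⟩
        have hvH : v ∈ H := (hmemH _).2 ⟨hzv, Commute.refl _⟩
        have hz' := hev (w := ⟨d.z, hzH⟩) (GWDihBounds11.orderOf_z d)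
        rcases Nat.le_one_iff_eq_zero_or_eq_one.1 (show e ≤ 1 by omega) with rfl | rfl
        · rw [pow_zero, index_eq_one] at he
          exact hz' (he ▸ mem_top _)
        · rw [pow_one] at he
          have hm : (⟨d.z, hzH⟩ * ⟨v, hvH⟩ : H) ∈ K.subgroupOf H :=
            (mul_mem_iff_of_index_two he).2 (iff_of_false hz' (hev (w := ⟨v, hvH⟩) hv))
          refine hev ?_ hm
          refine orderOf_eq_prime ?_ fun h1 => hvz ?_
          · rw [Subgroup.coe_mul, hzv.mul_pow, pow_two, pow_two, d.z_sq, sq_of_orderOf_two hv, one_mul]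
          · rw [Subgroup.coe_mul] at h1
            rw [← inv_eq_of_mul_eq_one_right d.z_sq, inv_eq_of_mul_eq_one_right h1]
      rw [← hci, he, show e = 2 by omega, mul_comm]
      norm_num
    · haveI : Fact p.Prime := ⟨hp⟩
      obtain ⟨R⟩ : Nonempty (Sylow p H) := inferInstance
      refine absurd (hpd.trans (index_dvd_of_le (fun g hg => hoddK g ?_ :
        (R : Subgroup H) ≤ K.subgroupOf H))) R.not_dvd_index
      obtain ⟨i, hi⟩ := IsPGroup.iff_orderOf.1 R.isPGroup' ⟨g, hg⟩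
      rw [Subgroup.orderOf_mk] at hi
      rw [hi]
      exact hpo.pow
  have hc₀K : c₀ ∈ K := (hK c₀).2 ⟨hc₀, hxc₀⟩
  obtain ⟨eS⟩ := d.nonempty_equiv
  have h2 : 2 ≤ 2 ^ d.k := by
    have := Nat.pow_le_pow_right (show 0 < 2 by norm_num) d.hk
    omega
  have htop := GWDihIndex11.no_one_class hnab S (2 ^ d.k) h2 eS hcls d.z (GWDihBounds11.orderOf_z d)
    d.z_mem (fun s hs => (d.z_comm hs).eq.symm)
    ⟨c₀, ((hO c₀).1 hc₀).1.symm, hc₀1, ((hO c₀).1 hc₀).2⟩ (normalizer (K : Set Y)) hKn _ hcard ?_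
  · have : K.Normal := normalizer_eq_top_iff.1 htop
    rcases this.eq_bot_or_eq_top with h | h
    · rw [h, mem_bot] at hc₀K
      exact hc₀1 hc₀K
    · rw [h, card_top] at hKodd
      exact Nat.not_even_iff_odd.2 hKodd (even_iff_two_dvd.2
        (GWDihBounds11.orderOf_z d ▸ orderOf_dvd_natCard d.z))
  · intro v hvX hv
    obtain ⟨h, hh, hcase⟩ := GWDihIndex11.conj_into S d _ hKn hvX hv
    obtain ⟨g, hgX, hgv⟩ : ∃ g ∈ normalizer (K : Set Y), g * d.z * g⁻¹ = h * v * h⁻¹ := by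
      rcases hcase with e | e
      · exact ⟨1, one_mem _, by rw [e]; group⟩
      · obtain ⟨g, hg, hgc⟩ := exists_fuse S d hcls e
        refine ⟨g, GWDih33.mem_norm_of_conj fun c hc => ?_, hg⟩
        obtain ⟨hcO, -⟩ := (hK c).1 hc
        obtain ⟨h1, h2⟩ := hgc c ((hO c).1 hcO).1 ((hKr _ e c hcO).2 hc)
        have h3 : g * c * g⁻¹ ∈ O := (hO _).2 ⟨h1, by rw [orderOf_conj]; exact ((hO c).1 hcO).2⟩
        exact (hKr _ e _ h3).1 h2
    refine ⟨h⁻¹ * g, mul_mem (inv_mem hh) hgX, ?_⟩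
    rw [show h⁻¹ * g * d.z * (h⁻¹ * g)⁻¹ = h⁻¹ * (g * d.z * g⁻¹) * h by group, hgv]
    group

end Dihedral

variable {G : Type*} [Group G] [Finite G]

/-- The rotation `r` commutes up to square with a subgroup inverted by a reflection. -/
theorem sq_commute {O : Subgroup G} {j r c : G} (hinv : ∀ x ∈ O, j * x * j⁻¹ = x⁻¹) (hj : j * j = 1)
    (hjr : j * r * j⁻¹ = r⁻¹) (hc : c ∈ O) (hr : r * c * r⁻¹ ∈ O) : Commute (r * r) c := by
  have hji : j⁻¹ = j := inv_eq_of_mul_eq_one_right hj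
  have h3 : j * c⁻¹ * j⁻¹ = c := by rw [hinv _ (inv_mem hc), inv_inv]
  have h1 : r⁻¹ * c * r = r * c * r⁻¹ := by
    calc r⁻¹ * c * r = j * r * j⁻¹ * c * (j * r * j⁻¹)⁻¹ := by rw [hjr, inv_inv]
      _ = j * r * (j⁻¹ * (j * c⁻¹ * j⁻¹) * j) * r⁻¹ * j⁻¹ := by rw [h3]; group
      _ = j * (r * c * r⁻¹)⁻¹ * j⁻¹ := by group
      _ = r * c * r⁻¹ := by rw [hinv _ (inv_mem hr), inv_inv]
  rw [commute_iff_eq]
  calc r * r * c = r * (r * c * r⁻¹) * r := by group
    _ = r * (r⁻¹ * c * r) * r := by rw [h1]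
    _ = c * (r * r) := by group

theorem hyp_simple (j : G) (A : Subgroup G) (hj : orderOf j = 2) (hjA : j ∈ A)
    (hA : A ≤ centralizer ({j} : Set G)) (hidx : A.relIndex (centralizer ({j} : Set G)) = 2)
    (hinv : ∀ x : G, Commute x j → x ∉ A → x * x = 1 ∧ ∀ a ∈ A, x * a * x⁻¹ = a⁻¹)
    (hone : ∀ a ∈ A, orderOf a = 2 → a = j)
    (hodd : ∀ N : Subgroup G, N.Normal → Odd (Nat.card N) → N = ⊥) (hns : ¬ Group.IsSolvable G)
    (hs : EvenCyclic27.NoSolv G) (hD : EvenCyclic27.SylowDihedral G) (L : Subgroup G) [L.Normal]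
    [IsSimpleGroup L] (hna : ¬ IsMulCommutative L) (hC : centralizer (L : Set G) = ⊥) :
    Cfsg.Agent.GWDih33.Hyp ↥L := by
  haveI : Fact (Nat.Prime 2) := ⟨Nat.prime_two⟩
  have hDL : EvenCyclic27.SylowDihedral ↥L := hD.to_subgroup L (EvenCyclic27.isSimple_good L hna)
  have hnab : ∃ a b : L, a * b ≠ b * a := by
    by_contra h
    push Not at h
    exact hna ⟨⟨h⟩⟩
  have hdihL := iso_of_sylowDihedral hDL
  have hcls : ∀ s t : L, orderOf s = 2 → orderOf t = 2 → IsConj s t := by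
    obtain ⟨S⟩ : Nonempty (Sylow 2 L) := inferInstance
    obtain ⟨n, hn, ⟨eS⟩⟩ := hdihL S
    obtain ⟨d, -⟩ := exists_dih S.2 hn eS
    exact one_class S d hnab
  suffices key : ∃ t₀ : L, orderOf t₀ = 2 ∧ ∀ v g : L, orderOf v = 2 → v ≠ t₀ → Commute t₀ v →
      Odd (orderOf g) → Commute t₀ g → v * g * v⁻¹ = g⁻¹ by
    refine ⟨inferInstance, hnab, hdihL, hcls, fun t v ht hv hne hc g hg hgc => ?_⟩
    obtain ⟨t₀, ht₀, key⟩ := key
    obtain ⟨l, hl⟩ := isConj_iff.1 (hcls t t₀ ht ht₀)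
    have h := key (l * v * l⁻¹) (l * g * l⁻¹) (by rw [orderOf_conj, hv])
      (fun e => hne (by rw [← hl] at e; simpa using e))
      (hl ▸ commute_conj hc) (by rw [orderOf_conj]; exact hg) (hl ▸ commute_conj hgc)
    have h' : l * (v * g * v⁻¹) * l⁻¹ = l * g⁻¹ * l⁻¹ := by
      rw [show l * g⁻¹ * l⁻¹ = (l * g * l⁻¹)⁻¹ by group, ← h]
      group
    simpa using h'
  have hAmem : ∀ c : G, Commute c j → Odd (orderOf c) → c ∈ A := fun c hc hco => by
    by_contra hcA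
    have := (hinv c hc hcA).1
    exact hcA (by rw [GWDih33.eq_one_of_two hco this]; exact one_mem A)
  by_cases hjL : j ∈ L
  · refine ⟨⟨j, hjL⟩, by rw [Subgroup.orderOf_mk, hj], fun v g hv hne hc hg hgc => ?_⟩
    rw [← Subgroup.orderOf_coe] at hv hg
    have hvj : Commute (v : G) j := congrArg Subtype.val hc.eq.symm
    have hvA : (v : G) ∉ A := fun h => hne (Subtype.ext (hone _ h hv))
    have hgA := hAmem (g : G) (congrArg Subtype.val hgc.eq.symm) hg
    exact Subtype.ext ((hinv _ hvj hvA).2 _ hgA)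
  -- a Sylow subgroup through `j`
  obtain ⟨T, hT⟩ := (IsPGroup.of_card (n := 1) (by rw [Nat.card_zpowers, hj, pow_one]) :
    IsPGroup 2 (zpowers j)).exists_le_sylow
  have hjT : j ∈ (T : Subgroup G) := hT (mem_zpowers j)
  obtain ⟨n, hn, ⟨eT⟩⟩ := iso_of_sylowDihedral hD T
  obtain ⟨d, -⟩ := exists_dih T.2 hn eT
  obtain ⟨Q, hQ⟩ := LocalBasics.exists_sylow_inf T L
  have hmemQ : ∀ y : L, y ∈ (Q : Subgroup L) ↔ (y : G) ∈ (T : Subgroup G) := fun y => by
    rw [hQ, mem_subgroupOf]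
  obtain ⟨nQ, hnQ, ⟨eQ⟩⟩ := hdihL Q
  have hzL : d.z ∈ L := by
    obtain ⟨dQ, -⟩ := exists_dih Q.2 hnQ eQ
    have hz1 := GWDihBounds11.orderOf_z dQ
    have ha1 := orderOf_refl dQ dQ.refl_a
    rw [← Subgroup.orderOf_coe] at hz1 ha1
    rcases d.cases_sq ((hmemQ _).1 dQ.z_mem) (sq_of_orderOf_two hz1) (ne_one_of_orderOf_two hz1) with h1 | h1
    · exact h1 ▸ dQ.z.2
    rcases d.cases_sq ((hmemQ _).1 dQ.aD) (sq_of_orderOf_two ha1) (ne_one_of_orderOf_two ha1) with h2 | h2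
    · exact h2 ▸ dQ.a.2
    rcases d.comm_refl h1 h2.1 (congrArg Subtype.val (dQ.z_comm dQ.aD).eq) with h | h | h | h
    · exact absurd h (ne_one_of_orderOf_two ha1)
    · exact h ▸ dQ.a.2
    · exact absurd (Subtype.ext h) (refl_ne_z dQ dQ.refl_a)
    · have e : d.z = (dQ.z : G)⁻¹ * (dQ.a : G) := by rw [h]; group
      exact e ▸ mul_mem (inv_mem dQ.z.2) dQ.a.2
  obtain ⟨z, hz⟩ : ∃ z : L, z = ⟨d.z, hzL⟩ := ⟨_, rfl⟩
  have hzo : orderOf z = 2 := by rw [hz, Subgroup.orderOf_mk]; exact GWDihBounds11.orderOf_z d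
  have hzQ : z ∈ (Q : Subgroup L) := (hmemQ z).2 (by rw [hz]; exact d.z_mem)
  obtain ⟨dL, hdL⟩ := GWDihIndex11.exists_dih_with Q hnQ eQ hzo hzQ fun s hs => Subtype.ext (by
    rw [hz]; exact (d.z_comm ((hmemQ s).1 hs)).eq.symm)
  have hdLz : (dL.z : G) = d.z := by rw [hdL, hz]
  have hzj : j ≠ d.z := fun h => hjL (h ▸ hzL)
  have hjr : d.Refl j :=
    (d.cases_sq hjT (sq_of_orderOf_two hj) (ne_one_of_orderOf_two hj)).resolve_left hzj
  have hzinv : ∀ a ∈ A, d.z * a * d.z⁻¹ = a⁻¹ :=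
    (hinv d.z (d.z_comm hjT) fun h => hzj (hone _ h (GWDihBounds11.orderOf_z d)).symm).2
  -- the odd part of the centralizer of `z` in `L`
  obtain ⟨N, hN, hNodd, e, hNi⟩ := Cfsg.Agent.S0514.result Q nQ hnQ ⟨eQ⟩ dL.z
    (GWDihBounds11.orderOf_z dL)
  haveI := hN
  obtain ⟨O, hOdef⟩ : ∃ O : Subgroup L, O = N.map (centralizer ({dL.z} : Set L)).subtype := ⟨_, rfl⟩
  have hO : ∀ c, c ∈ O ↔ Commute dL.z c ∧ Odd (orderOf c) := by
    intro c
    rw [hOdef]
    constructor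
    · rintro ⟨x, hx, rfl⟩
      exact ⟨(mem_centralizer_singleton_iff.1 x.2).symm, by
        rw [Subgroup.coe_subtype, Subgroup.orderOf_coe]
        exact hNodd.of_dvd_nat (N.orderOf_dvd_natCard hx)⟩
    · rintro ⟨hc, hco⟩
      have hcC : c ∈ centralizer ({dL.z} : Set L) := mem_centralizer_singleton_iff.2 hc.eq.symm
      refine ⟨⟨c, hcC⟩, ?_, rfl⟩
      rw [SetLike.mem_coe, ← QuotientGroup.eq_one_iff, ← orderOf_eq_one_iff]
      refine Nat.eq_one_of_dvd_coprimes (Nat.Coprime.pow_left e (Nat.coprime_two_left.2 hco))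
        (hNi ▸ ?_) ?_
      · exact orderOf_dvd_natCard (QuotientGroup.mk (⟨c, hcC⟩ : centralizer ({dL.z} : Set L)) : _ ⧸ N)
      · refine (orderOf_map_dvd (QuotientGroup.mk' N) (⟨c, hcC⟩ : centralizer ({dL.z} : Set L))).trans ?_
        rw [Subgroup.orderOf_mk]
  obtain ⟨OG, hOGdef⟩ : ∃ OG : Subgroup G, OG = O.map L.subtype := ⟨_, rfl⟩
  have hOG : ∀ c, c ∈ OG ↔ c ∈ L ∧ Commute d.z c ∧ Odd (orderOf c) := by
    intro c
    rw [hOGdef]
    constructor
    · rintro ⟨x, hx, rfl⟩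
      obtain ⟨h1, h2⟩ := (hO x).1 hx
      refine ⟨x.2, ?_, by rwa [Subgroup.coe_subtype, Subgroup.orderOf_coe]⟩
      have := h1.map L.subtype
      simp only [Subgroup.coe_subtype, hdLz] at this
      exact this
    · rintro ⟨hcL, hc, hco⟩
      refine ⟨⟨c, hcL⟩, (hO _).2 ⟨Subtype.ext ?_, by rwa [Subgroup.orderOf_mk]⟩, rfl⟩
      rw [Subgroup.coe_mul, Subgroup.coe_mul, hdLz]
      exact hc.eq
  have hnOG : ∀ g : G, Commute g d.z → ∀ c ∈ OG, g * c * g⁻¹ ∈ OG := by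
    intro g hg c hc
    obtain ⟨h1, h2, h3⟩ := (hOG c).1 hc
    refine (hOG _).2 ⟨Subgroup.Normal.conj_mem ‹L.Normal› c h1 g, ?_, by rwa [orderOf_conj]⟩
    have h := commute_conj (g := g) h2
    rwa [hg.eq, mul_inv_cancel_right] at h
  have hjO : ∀ c ∈ OG, j * c * j⁻¹ = c⁻¹ := by
    refine invert_of_fpf (sq_of_orderOf_two hj) (hnOG j (d.z_comm hjT).symm) fun c hc hjc => ?_
    obtain ⟨-, h2, h3⟩ := (hOG c).1 hc
    have h := hzinv c (hAmem c hjc.symm h3)
    rw [h2.eq, mul_inv_cancel_right] at h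
    exact GWDih33.eq_one_of_two h3 (mul_eq_one_iff_eq_inv.2 h)
  have habG : ∀ a ∈ OG, ∀ b ∈ OG, Commute a b := by
    intro a ha b hb
    have h : (a * b)⁻¹ = a⁻¹ * b⁻¹ := by
      rw [← hjO _ (mul_mem ha hb), ← hjO a ha, ← hjO b hb]
      group
    have h' := congrArg (·⁻¹) h
    simp only [inv_inv, mul_inv_rev] at h'
    exact h'
  have hmap : ∀ {c : L}, c ∈ O → (c : G) ∈ OG := fun {c} hc => hOGdef ▸ ⟨c, hc, rfl⟩
  have hrefl : ∀ {x : L}, dL.Refl x → d.Refl (x : G) ∧ (x : G) ∈ L := fun {x} hx => by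
    have h2 : orderOf (x : G) = 2 := by rw [Subgroup.orderOf_coe, orderOf_refl dL hx]
    exact ⟨(d.cases_sq ((hmemQ x).1 hx.1) (sq_of_orderOf_two h2) (ne_one_of_orderOf_two h2)).resolve_left
      fun h => refl_ne_z dL hx (Subtype.ext (by rw [h, hdLz])), x.2⟩
  have hr2 : ∀ c ∈ OG, Commute (d.r * d.r) c := fun c hc => sq_commute hjO (sq_of_orderOf_two hj)
    (d.refl_conj hjr (mem_zpowers _)) hc (hnOG d.r (d.z_comm d.rD).symm c hc)
  have halike : ∀ x y, dL.Refl x → dL.Refl y → ∀ c ∈ O, Commute x c → Commute y c := by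
    intro x y hx hy c hc hxc
    obtain ⟨hxG, hxL⟩ := hrefl hx
    obtain ⟨hyG, hyL⟩ := hrefl hy
    obtain ⟨i, hi⟩ := d.refl_mul_refl hxG hyG
    obtain ⟨m, rfl | rfl⟩ := Int.even_or_odd' i
    · have hiL : Commute ((x : G) * y) (c : G) := by
        rw [show (x : G) * y = (d.r * d.r) ^ m by rw [← hi]; show d.r ^ (2 * m) = _; rw [zpow_mul, zpow_two]]
        exact (hr2 _ (hmap hc)).zpow_left m
      have hx' : Commute (x : G) (c : G) := congrArg Subtype.val hxc.eq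
      have h := hx'.inv_left.mul_left hiL
      rw [inv_mul_cancel_left] at h
      exact Subtype.ext h.eq
    · exfalso
      have hri : d.r ^ (2 * m + 1) ∈ L := by
        rw [show d.r ^ (2 * m + 1) = (x : G) * y from hi]
        exact mul_mem hxL hyL
      obtain ⟨a, b, hab⟩ : IsCoprime (2 * m + 1) ((2 : ℤ) ^ d.k) :=
        (IsCoprime.pow_right (⟨1, -m, by ring⟩ : IsCoprime (2 * m + 1) (2 : ℤ)))
      have hrL : d.r ∈ L := by
        have e1 : d.r ^ ((2 : ℤ) ^ d.k) = 1 := by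
          rw [show ((2 : ℤ) ^ d.k) = ((2 ^ d.k : ℕ) : ℤ) by push_cast; rfl, zpow_natCast, ← d.ord,
            pow_orderOf_eq_one]
        have e2 : d.r = (d.r ^ (2 * m + 1)) ^ a := by
          conv_lhs => rw [← zpow_one d.r, ← hab, zpow_add, mul_comm b, zpow_mul d.r ((2 : ℤ) ^ d.k) b,
            e1, one_zpow, mul_one, mul_comm a, zpow_mul]
        rw [e2]
        exact zpow_mem hri a
      obtain ⟨i', hi'⟩ := d.refl_mul_refl hxG hjr
      refine hjL ?_
      have hxj : (x : G) * j ∈ L := by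
        rw [← show d.r ^ i' = (x : G) * j from hi']
        exact zpow_mem hrL i'
      simpa using mul_mem (inv_mem hxL) hxj
  have hinvL := invert_of_alike Q dL O hO hcls hnab
    (fun a ha b hb => Subtype.ext (habG _ (hmap ha) _ (hmap hb)).eq) halike
  refine ⟨dL.z, GWDihBounds11.orderOf_z dL, fun v g hv hne hc hg hgc => ?_⟩
  obtain ⟨h, hh, hcase⟩ := GWDihIndex11.conj_into Q dL _ le_rfl
    (mem_centralizer_singleton_iff.2 hc.eq.symm) hv
  have hy : dL.Refl (h * v * h⁻¹) := by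
    refine hcase.resolve_left fun e => hne ?_
    have e' : v = h⁻¹ * dL.z * h := by rw [← e]; group
    rw [e', mul_assoc, ← mem_centralizer_singleton_iff.1 hh, inv_mul_cancel_left]
  have hgO : h * g * h⁻¹ ∈ O := by
    refine (hO _).2 ⟨?_, by rwa [orderOf_conj]⟩
    have e := commute_conj (g := h) hgc
    rwa [mem_centralizer_singleton_iff.1 hh, mul_inv_cancel_right] at e
  have hres := hinvL _ hy _ hgO
  have h' : h * (v * g * v⁻¹) * h⁻¹ = h * g⁻¹ * h⁻¹ := by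
    rw [show h * g⁻¹ * h⁻¹ = (h * g * h⁻¹)⁻¹ by group, ← hres]
    group
  simpa using h'

end Cfsg.Agent.GWDihHypL27
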