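import Mathlib
import Cfsg.Agent.Lib.GWDihBase33
import Cfsg.Agent.Lib.CoprimeGen
import Cfsg.Agent.Lib.CharBasic
import Cfsg.Agent.Lib.KleinFourBlock79
import Cfsg.Agent.Lib.KleinFourOrder79
import Cfsg.Agent.Lib.ZStarCount

/-!
Klein four case of the generalized dihedral core: no odd subgroup normalised by a four group
contains the odd cores of two involution centralizers.
-/

set_option autoImplicit false
set_option linter.style.haveILetI false
set_option linter.unusedSectionVars false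

namespace Cfsg.Agent.GWDihKlein53

open Subgroup Cfsg.Agent.GWDih33 Cfsg.Agent.CoprimeAction

universe u

/-! ### Commutant in dimension three -/

theorem three_commute {W : Type*} [AddCommGroup W] [Module ℂ W] [FiniteDimensional ℂ W]
    (h3 : Module.finrank ℂ W = 3) (B U U' : Module.End ℂ W) {m : ℕ} (hm : Odd m)
    (hB : B ^ m = 1) (hB1 : B ≠ 1) (hU : U' * U = 1) (hUB : B * U * B = U)
    (X Y : Module.End ℂ W) (hX : X * B = B * X) (hY : Y * B = B * Y) : X * Y = Y * X := by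
  classical
  obtain ⟨b₀, μ₀, hb₀, hμ₀⟩ := CharBasic.exists_eigenbasis B hm.pos hB
  obtain ⟨b, μ, hb, hμ⟩ : ∃ (b : Module.Basis (Fin 3) ℂ W) (μ : Fin 3 → ℂ),
      (∀ i, B (b i) = μ i • b i) ∧ ∀ i, μ i ^ m = 1 :=
    ⟨b₀.reindex (finCongr h3), fun i => μ₀ ((finCongr h3).symm i),
      fun i => by rw [Module.Basis.reindex_apply]; exact hb₀ _, fun i => hμ₀ _⟩
  have hμ0 : ∀ i, μ i ≠ 0 := fun i h => by
    have := hμ i; rw [h, zero_pow hm.pos.ne'] at this; exact zero_ne_one this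
  -- coordinates of eigenvectors
  have coord : ∀ (a : ℂ) (x : W), B x = a • x → ∀ i, μ i ≠ a → b.repr x i = 0 := by
    intro a x hx i hi
    have e : b.repr (B x) i = μ i * b.repr x i := by
      have e0 : (b.coord i).comp B = μ i • b.coord i := b.ext fun k => by
        by_cases hk : k = i <;> simp [hb, hk]
      simpa using LinearMap.congr_fun e0 x
    rw [hx, map_smul, Finsupp.smul_apply, smul_eq_mul] at e
    by_contra h
    exact hi (mul_right_cancel₀ h e).symm
  -- `U` inverts eigenvalues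
  have hflip : ∀ i, B (U (b i)) = (μ i)⁻¹ • U (b i) := by
    intro i
    have e : B (U (B (b i))) = U (b i) := by
      conv_rhs => rw [← hUB]
      rfl
    rw [hb i, map_smul, map_smul] at e
    rw [eq_inv_smul_iff₀ (hμ0 i)]
    exact e
  have hUinj : ∀ x, U x = 0 → x = 0 := fun x hx => by
    have e : U' (U x) = x := by rw [← Module.End.mul_apply, hU]; rfl
    rw [← e, hx, map_zero]
  have hexists : ∀ i, ∃ k, μ k = (μ i)⁻¹ := by
    intro i
    by_contra hne
    push Not at hne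
    refine b.ne_zero i (hUinj _ (b.repr.injective ?_))
    ext k
    simpa using coord _ _ (hflip i) k (hne k)
  have hodd1 : ∀ a : ℂ, a ^ m = 1 → a⁻¹ = a → a = 1 := by
    intro a ha hinv
    have ha0 : a ≠ 0 := fun h => by rw [h, zero_pow hm.pos.ne'] at ha; exact zero_ne_one ha
    have h2 : a ^ 2 = 1 := by rw [pow_two]; nth_rw 1 [← hinv]; exact inv_mul_cancel₀ ha0
    obtain ⟨k, rfl⟩ := hm
    rwa [pow_succ, pow_mul, h2, one_pow, one_mul] at ha
  -- a repeated eigenvalue is `1`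
  have hrep : ∀ i j l : Fin 3, i ≠ j → (∀ k, k = i ∨ k = j ∨ k = l) → μ i = μ j → μ i = 1 := by
    intro i j l hij hall he
    by_contra ha1
    have hne : μ i ≠ (μ i)⁻¹ := fun h => ha1 (hodd1 _ (hμ i) h.symm)
    have hvan : ∀ k, k = i ∨ k = j → ∀ q, q = i ∨ q = j → b.repr (U (b q)) k = 0 := by
      intro k hk q hq
      refine coord _ _ (hflip q) k ?_
      rcases hk with rfl | rfl <;> rcases hq with rfl | rfl <;>
        first | exact hne | (rw [← he]; exact hne)
    set x := b.repr (U (b j)) l • b i - b.repr (U (b i)) l • b j with hx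
    have hx0 : x = 0 := by
      refine hUinj _ (b.repr.injective ?_)
      ext k
      simp only [hx, map_sub, map_smul, Finsupp.sub_apply, Finsupp.smul_apply, smul_eq_mul, map_zero,
        Finsupp.zero_apply]
      rcases hall k with rfl | rfl | rfl
      · rw [hvan k (.inl rfl) k (.inl rfl), hvan k (.inl rfl) j (.inr rfl)]; ring
      · rw [hvan k (.inr rfl) i (.inl rfl), hvan k (.inr rfl) k (.inr rfl)]; ring
      · ring
    have hd : b.repr (U (b i)) l = 0 := by
      have e := DFunLike.congr_fun (congrArg b.repr hx0) j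
      simp [hx, hij.symm] at e
      exact e
    refine b.ne_zero i (hUinj _ (b.repr.injective ?_))
    ext k
    rw [map_zero, Finsupp.zero_apply]
    rcases hall k with rfl | rfl | rfl
    · exact hvan k (.inl rfl) k (.inl rfl)
    · exact hvan k (.inr rfl) i (.inl rfl)
    · exact hd
  obtain ⟨i, hi⟩ : ∃ i, μ i ≠ 1 := by
    by_contra h
    push Not at h
    exact hB1 (b.ext fun i => by rw [hb i, h i, one_smul]; rfl)
  obtain ⟨j, hj⟩ := hexists i
  have hji : μ j ≠ μ i := fun h => hi (hodd1 _ (hμ i) (hj ▸ h))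
  have hj1 : μ j ≠ 1 := fun h => hi (by rw [h] at hj; exact inv_eq_one.1 hj.symm)
  have hij : i ≠ j := fun h => hji (by rw [h])
  obtain ⟨l, hli, hlj, hall⟩ : ∃ l, l ≠ i ∧ l ≠ j ∧ ∀ k, k = i ∨ k = j ∨ k = l :=
    (show ∀ i j : Fin 3, i ≠ j → ∃ l, l ≠ i ∧ l ≠ j ∧ ∀ k, k = i ∨ k = j ∨ k = l by decide) i j hij
  have hinj : Function.Injective μ := by
    have r1 : μ l ≠ μ i := fun h =>
      hi (hrep i l j hli.symm (fun k => by rcases hall k with e | e | e <;> simp [e]) h.symm)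
    have r2 : μ l ≠ μ j := fun h =>
      hj1 (hrep j l i hlj.symm (fun k => by rcases hall k with e | e | e <;> simp [e]) h.symm)
    intro x y h
    rcases hall x with rfl | rfl | rfl <;> rcases hall y with rfl | rfl | rfl <;>
      first | rfl | exact absurd h hji.symm | exact absurd h hji | exact absurd h r1 |
        exact absurd h r1.symm | exact absurd h r2 | exact absurd h r2.symm
  have diag : ∀ Z : Module.End ℂ W, Z * B = B * Z → ∀ k, Z (b k) = b.repr (Z (b k)) k • b k := by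
    intro Z hZ k
    apply b.repr.injective
    ext q
    rw [map_smul, b.repr_self, Finsupp.smul_single, smul_eq_mul, mul_one]
    by_cases hq : q = k
    · subst hq; simp
    · rw [Finsupp.single_eq_of_ne hq]
      refine coord (μ k) _ ?_ q fun h => hq (hinj h)
      rw [← Module.End.mul_apply, ← hZ, Module.End.mul_apply, hb, map_smul]
  refine b.ext fun k => ?_
  rw [Module.End.mul_apply, Module.End.mul_apply]
  conv_lhs => rw [diag Y hY k, map_smul, diag X hX k]
  conv_rhs => rw [diag X hX k, map_smul, diag Y hY k]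
  rw [smul_smul, smul_smul, mul_comm]

/-! ### Arithmetic -/

theorem degrees_plus {a b c K : ℕ} (ha : 5 ≤ a) (ha4 : a % 4 = 1) (hb : 5 ≤ b) (hb4 : b % 4 = 1)
    (hc : c = 1 + a + b) (hK : Odd K)
    (h : K * ((a + 1) * (b + 1) * (a + b)) = 8 * (a * b * c)) : False := by
  subst hc
  have hK8 : K < 8 := by
    by_contra hK
    have h1 := Nat.mul_le_mul_right ((a + 1) * (b + 1) * (a + b)) (Nat.le_of_not_lt hK)
    nlinarith
  have hK5 : 5 < K := by
    by_contra hK
    have h1 := Nat.mul_le_mul_right ((a + 1) * (b + 1) * (a + b)) (Nat.le_of_not_lt hK)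
    have h2 : 5 * ((a + 1) * (b + 1)) < 8 * (a * b) := by nlinarith
    have h3 : 0 < a + b := by omega
    have h4 := (Nat.mul_lt_mul_right h3).2 h2
    nlinarith
  have hK7 : K = 7 := by obtain ⟨k, rfl⟩ := hK; omega
  subst hK7
  obtain ⟨s, hs⟩ : ∃ s, a + b = s := ⟨_, rfl⟩
  have hp : ((a * b : ℕ) : ℤ) * (s + 8) = 7 * s * (s + 1) := by
    have hz : (7 : ℤ) * ((a + 1) * (b + 1) * (a + b)) = 8 * (a * b * (1 + a + b)) := by exact_mod_cast h
    rw [← hs]; push_cast; linear_combination -hz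
  have hdvd : s + 8 ∣ 392 := by
    have : ((s + 8 : ℕ) : ℤ) ∣ ((392 : ℕ) : ℤ) :=
      ⟨((a * b : ℕ) : ℤ) - (7 * s - 49), by push_cast at hp ⊢; linear_combination -hp⟩
    exact Int.natCast_dvd_natCast.1 this
  have hdec : ∀ x ∈ Nat.divisors 392, 18 ≤ x → x % 4 = 2 → x = 98 := by decide +kernel
  have hs90 : s + 8 = 98 := hdec _ (Nat.mem_divisors.2 ⟨hdvd, by norm_num⟩) (by omega) (by omega)
  have hab : a * b = 585 := by
    have h90 : s = 90 := by omega
    rw [h90] at hp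
    have : ((a * b : ℕ) : ℤ) = 585 := by norm_num at hp ⊢; linarith
    exact_mod_cast this
  have hb' : b = 90 - a := by omega
  have h8 : a < 8 ∨ b < 8 := by
    by_contra hh
    push Not at hh
    nlinarith
  rcases h8 with h8 | h8
  · subst hb'; interval_cases a <;> omega
  · have : a = 90 - b := by omega
    subst this; interval_cases b <;> omega

theorem degrees_minus {a b c K : ℕ} (hb : 7 ≤ b) (hb4 : b % 4 = 3) (hc : 7 ≤ c) (hc4 : c % 4 = 3)
    (hs : a + 1 = b + c) (hK : Odd K)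
    (h : (K : ℤ) * (((a : ℤ) + 1) * ((b : ℤ) - 1) * ((c : ℤ) - 1)) = 8 * ((a : ℤ) * b * c)) : False := by
  have hz : (K : ℤ) * (((b : ℤ) + c) * ((b : ℤ) - 1) * ((c : ℤ) - 1)) =
      8 * (((b : ℤ) + c - 1) * b * c) := by
    have e : (a : ℤ) = b + c - 1 := by omega
    rw [e] at h; linear_combination h
  have hb7 : (7 : ℤ) ≤ b := by exact_mod_cast hb
  have hc7 : (7 : ℤ) ≤ c := by exact_mod_cast hc
  have hpos : 0 < ((b : ℤ) + c) * ((b : ℤ) - 1) * ((c : ℤ) - 1) := by
    apply mul_pos (mul_pos ?_ ?_) <;> linarith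
  have hK8 : 8 < K := by
    by_contra hK
    have : (K : ℤ) ≤ 8 := by exact_mod_cast Nat.le_of_not_lt hK
    have h1 := mul_le_mul_of_nonneg_right this hpos.le
    nlinarith
  have hK11 : K < 11 := by
    by_contra hK
    have : (11 : ℤ) ≤ K := by exact_mod_cast Nat.le_of_not_lt hK
    have h1 := mul_le_mul_of_nonneg_right this hpos.le
    have h2 : 8 * ((b : ℤ) * c) ≤ 11 * (((b : ℤ) - 1) * ((c : ℤ) - 1)) := by nlinarith
    have h3 : 0 < (b : ℤ) + c := by linarith
    have h4 := mul_le_mul_of_nonneg_right h2 h3.le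
    nlinarith
  have hK9 : K = 9 := by obtain ⟨k, rfl⟩ := hK; omega
  subst hK9
  obtain ⟨s, hs'⟩ : ∃ s, b + c = s := ⟨_, rfl⟩
  have hp : ((b * c : ℕ) : ℤ) * (s + 8) = 9 * s * ((s : ℤ) - 1) := by
    push_cast at hz; rw [← hs']; push_cast; linear_combination hz
  have hdvd : s + 8 ∣ 648 := by
    have : ((s + 8 : ℕ) : ℤ) ∣ ((648 : ℕ) : ℤ) :=
      ⟨((b * c : ℕ) : ℤ) - (9 * s - 81), by push_cast at hp ⊢; linear_combination -hp⟩
    exact Int.natCast_dvd_natCast.1 this
  have hdec : ∀ x ∈ Nat.divisors 648, 22 ≤ x → x % 4 = 2 → x = 54 ∨ x = 162 := by decide +kernel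
  rcases hdec _ (Nat.mem_divisors.2 ⟨hdvd, by norm_num⟩) (by omega) (by omega) with h54 | h54
  · have hs46 : s = 46 := by omega
    rw [hs46] at hp
    have hbc : b * c = 345 := by
      have : ((b * c : ℕ) : ℤ) = 345 := by norm_num at hp ⊢; linarith
      exact_mod_cast this
    have h9 : b < 10 ∨ c < 10 := by
      by_contra hh
      push Not at hh
      nlinarith
    rcases h9 with h9 | h9
    · have : c = 46 - b := by omega
      subst this; interval_cases b <;> omega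
    · have : b = 46 - c := by omega
      subst this; interval_cases c <;> omega
  · have hs154 : s = 154 := by omega
    rw [hs154] at hp
    have hbc : b * c = 1309 := by
      have : ((b * c : ℕ) : ℤ) = 1309 := by norm_num at hp ⊢; linarith
      exact_mod_cast this
    have h9 : b < 10 ∨ c < 10 := by
      by_contra hh
      push Not at hh
      nlinarith
    rcases h9 with h9 | h9
    · have : c = 154 - b := by omega
      subst this; interval_cases b <;> omega
    · have : b = 154 - c := by omega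
      subst this; interval_cases c <;> omega

/-! ### The group -/

variable {G : Type u} [Group G] [Finite G]

theorem conj_om {t : G} (ht : orderOf t = 2) (h : Hyp G) (g : G) {x : G} {p : ℕ}
    (hx : x ∈ Om t ∧ ∃ k, x ^ p ^ k = 1) :
    g * x * g⁻¹ ∈ Om (g * t * g⁻¹) ∧ ∃ k, (g * x * g⁻¹) ^ p ^ k = 1 := by
  obtain ⟨h1, k, hk⟩ := hx
  exact ⟨h.om_conj ht g h1, k, by rw [conj_pow, hk]; group⟩

/-- The `p`-elements of `Om t`. -/
def pOm (h : Hyp G) (p : ℕ) {t : G} (ht : orderOf t = 2) : Subgroup G where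
  carrier := {x | x ∈ Om t ∧ ∃ k, x ^ p ^ k = 1}
  one_mem' := ⟨one_mem _, 0, one_pow _⟩
  mul_mem' := by
    rintro a b ⟨ha, i, hi⟩ ⟨hb, j, hj⟩
    refine ⟨mul_mem ha hb, i + j, ?_⟩
    rw [(h.om_abelian ht ha hb).mul_pow]
    nth_rw 1 [pow_add, pow_mul, hi]
    rw [one_pow, one_mul, pow_add, mul_comm (p ^ i), pow_mul, hj, one_pow]
  inv_mem' := by
    rintro a ⟨ha, i, hi⟩
    exact ⟨inv_mem ha, i, by rw [inv_pow, hi, inv_one]⟩

theorem mem_pOm {h : Hyp G} {p : ℕ} {t : G} {ht : orderOf t = 2} {x : G} :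
    x ∈ pOm h p ht ↔ x ∈ Om t ∧ ∃ k, x ^ p ^ k = 1 := Iff.rfl

theorem pOm_le (h : Hyp G) (p : ℕ) {t : G} (ht : orderOf t = 2) : pOm h p ht ≤ Om t :=
  fun _ hx => hx.1

theorem isPGroup_pOm (h : Hyp G) (p : ℕ) {t : G} (ht : orderOf t = 2) : IsPGroup p (pOm h p ht) :=
  fun ⟨_, _, k, hk⟩ => ⟨k, Subtype.ext (by simpa using hk)⟩

section frame

variable (h : Hyp G) {P : Sylow 2 G}

include h

theorem exp_two (hP : Nat.card P = 4) : ∀ x : P, x * x = 1 := by
  obtain ⟨n, hn, ⟨e⟩⟩ := h.dih P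
  have hc := Nat.card_congr e.toEquiv
  rw [DihedralGroup.nat_card] at hc
  change Nat.card P = _ at hc
  have hn2 : n = 2 := by omega
  subst hn2
  intro x
  apply e.injective
  rw [map_mul, map_one]
  generalize e x = d
  revert d; decide

theorem mul_self_mem (hP : Nat.card P = 4) {x : G} (hx : x ∈ (P : Subgroup G)) : x * x = 1 :=
  congrArg Subtype.val (exp_two h hP ⟨x, hx⟩)

theorem comm_mem (hP : Nat.card P = 4) {x y : G} (hx : x ∈ (P : Subgroup G))
    (hy : y ∈ (P : Subgroup G)) : Commute x y := by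
  have e := mul_self_mem h hP (mul_mem hx hy)
  have e1 := inv_eq_of_mul_eq_one_right e
  rwa [mul_inv_rev, inv_eq_of_mul_eq_one_right (mul_self_mem h hP hx),
    inv_eq_of_mul_eq_one_right (mul_self_mem h hP hy), eq_comm] at e1

theorem order_mem (hP : Nat.card P = 4) {x : G} (hx : x ∈ (P : Subgroup G)) (h1 : x ≠ 1) :
    orderOf x = 2 :=
  order_two (mul_self_mem h hP hx) h1

/-- An element of `P` centralised by a nontrivial odd element is trivial. -/
theorem centralizer_eq (hP : Nat.card P = 4) {g : G} (hg : ∀ x ∈ (P : Subgroup G), Commute x g) :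
    g ∈ (P : Subgroup G) := by
  have key : IsPGroup 2 (centralizer ((P : Subgroup G) : Set G)) := by
    rintro ⟨y, hy⟩
    obtain ⟨k, m, hm, hk⟩ := Nat.exists_eq_two_pow_mul_odd (orderOf_pos y).ne'
    refine ⟨k, Subtype.ext ?_⟩
    rw [SubgroupClass.coe_pow, OneMemClass.coe_one]
    haveI : Nontrivial P := Finite.one_lt_card_iff_nontrivial.1 (by omega)
    obtain ⟨⟨x, hx⟩, hx1⟩ := exists_ne (1 : P)
    have hxo := order_mem h hP hx (fun e => hx1 (Subtype.ext e))
    obtain ⟨⟨x', hx'⟩, hne⟩ : ∃ q : P, q ≠ 1 ∧ q ≠ ⟨x, hx⟩ := by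
      classical
      haveI := Fintype.ofFinite P
      by_contra hh
      push Not at hh
      have hc : (Finset.univ : Finset P).card ≤ 2 := by
        refine (Finset.card_le_card (t := {1, ⟨x, hx⟩}) fun q _ => ?_).trans Finset.card_le_two
        by_cases hq : q = 1
        · simp [hq]
        · simp [hh q hq]
      rw [Finset.card_univ, ← Nat.card_eq_fintype_card] at hc
      omega
    have hxo' := order_mem h hP hx' (fun e => hne.1 (Subtype.ext e))
    refine h.eq_one_of_pair hxo hxo' (fun e => hne.2 (Subtype.ext e)) (comm_mem h hP hx hx') ?_ ?_ ?_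
    · rw [orderOf_pow, hk, Nat.gcd_eq_right (dvd_mul_right _ _), Nat.mul_div_cancel_left _ (by positivity)]
      exact hm
    · exact Commute.pow_right (mem_centralizer_iff.1 hy x hx) _
    · exact Commute.pow_right (mem_centralizer_iff.1 hy x' hx') _
  have hle : (P : Subgroup G) ≤ centralizer ((P : Subgroup G) : Set G) :=
    fun x hx => mem_centralizer_iff.2 fun y hy => comm_mem h hP hy hx
  rw [← P.3 key hle]
  exact mem_centralizer_iff.2 fun x hx => hg x hx

theorem mem_of_two_group (hP : Nat.card P = 4) {g : G} (hN : g ∈ normalizer ((P : Subgroup G) : Set G))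
    (h2 : g * g ∈ (P : Subgroup G)) : g ∈ (P : Subgroup G) := by
  haveI : Fact (Nat.Prime 2) := ⟨Nat.prime_two⟩
  have hz : IsPGroup 2 (zpowers g) := by
    refine IsPGroup.iff_card.2 ?_
    have h4 : g ^ 2 ^ 2 = 1 := by
      rw [show (2 : ℕ) ^ 2 = 2 * 2 by norm_num, pow_mul, pow_two g, pow_two]
      exact mul_self_mem h hP h2
    obtain ⟨k, -, hk⟩ := (Nat.dvd_prime_pow Nat.prime_two).1 (orderOf_dvd_of_pow_eq_one h4)
    exact ⟨k, by rw [Nat.card_zpowers, hk]⟩
  have hi := IsPGroup.inf_normalizer_sylow hz P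
  have : g ∈ zpowers g ⊓ (P : Subgroup G) := hi ▸ ⟨mem_zpowers g, hN⟩
  exact this.2

/-- The four elements. -/
theorem eq_of_card (hP : Nat.card P = 4) {x y e : G} (hx : x ∈ (P : Subgroup G))
    (hy : y ∈ (P : Subgroup G)) (he : e ∈ (P : Subgroup G)) (hx1 : x ≠ 1) (hy1 : y ≠ 1)
    (hxy : x ≠ y) : e = 1 ∨ e = x ∨ e = y ∨ e = x * y := by
  classical
  haveI := Fintype.ofFinite P
  have hxy1 : x * y ≠ 1 := fun e1 =>
    hxy (by rw [← inv_eq_of_mul_eq_one_right e1, inv_eq_of_mul_eq_one_right (mul_self_mem h hP hx)])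
  have hc : ({1, ⟨x, hx⟩, ⟨y, hy⟩, ⟨x * y, mul_mem hx hy⟩} : Finset P) = Finset.univ := by
    refine Finset.eq_univ_of_card _ ?_
    rw [← Nat.card_eq_fintype_card, hP]
    have n1 : (1 : P) ≠ ⟨x, hx⟩ := fun e => hx1 (congrArg Subtype.val e).symm
    have n2 : (1 : P) ≠ ⟨y, hy⟩ := fun e => hy1 (congrArg Subtype.val e).symm
    have n3 : (1 : P) ≠ ⟨x * y, mul_mem hx hy⟩ := fun e => hxy1 (congrArg Subtype.val e).symm
    have n4 : (⟨x, hx⟩ : P) ≠ ⟨x * y, mul_mem hx hy⟩ :=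
      fun e => hy1 (mul_eq_left.1 (congrArg Subtype.val e).symm)
    have n5 : (⟨y, hy⟩ : P) ≠ ⟨x * y, mul_mem hx hy⟩ :=
      fun e => hx1 (mul_eq_right.1 (congrArg Subtype.val e).symm)
    rw [Finset.card_insert_of_notMem (by simp [n1, n2, n3]),
      Finset.card_insert_of_notMem (by simp [hxy, Subtype.ext_iff] ; exact fun e => hy1 (by simpa using e)),
      Finset.card_insert_of_notMem (by simp [n5]), Finset.card_singleton]
  have hm : (⟨e, he⟩ : P) ∈ ({1, ⟨x, hx⟩, ⟨y, hy⟩, ⟨x * y, mul_mem hx hy⟩} : Finset P) :=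
    hc ▸ Finset.mem_univ _
  simpa [Subtype.ext_iff] using hm

/-- A fixed point free normalising element. -/
theorem no_fix (hP : Nat.card P = 4) {g x : G} (hN : g ∈ normalizer ((P : Subgroup G) : Set G))
    (hx : x ∈ (P : Subgroup G)) (hx1 : x ≠ 1) (hfix : g * x * g⁻¹ = x) : g ∈ (P : Subgroup G) := by
  refine mem_of_two_group h hP hN (centralizer_eq h hP fun e he => ?_)
  have hfx : g * (g * e * g⁻¹) * g⁻¹ = e := by
    have hge := (mem_normalizer_iff.1 hN e).1 he
    by_cases h1 : e = 1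
    · simp [h1]
    by_cases h2 : e = x
    · rw [h2, hfix, hfix]
    rcases eq_of_card h hP hx he hge hx1 h1 (Ne.symm h2) with e' | e' | e' | e'
    · exact absurd (conj_eq_one_iff.1 e') h1
    · exact absurd ((MulAut.conj g).injective (e'.trans hfix.symm)) h2
    · rw [e', e']
    · rw [e', ← conj_mul, hfix, e', ← mul_assoc, mul_self_mem h hP hx, one_mul]
  show e * (g * g) = g * g * e
  calc e * (g * g) = g * (g * e * g⁻¹) * g⁻¹ * (g * g) := by rw [hfx]
    _ = g * g * e := by group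

theorem conj_sylow (hP : Nat.card P = 4) {z v : G} (hz : z ∈ (P : Subgroup G)) (hz1 : z ≠ 1)
    (hv : v ∈ (P : Subgroup G)) (hv1 : v ≠ 1) (hne : v ≠ z) :
    ∃ r ∈ normalizer ((P : Subgroup G) : Set G),
      r * z * r⁻¹ = v ∧ r * v * r⁻¹ = z * v ∧ r * (z * v) * r⁻¹ = z := by
  obtain ⟨c, hc⟩ := isConj_iff.1 (h.one z v (order_mem h hP hz hz1) (order_mem h hP hv hv1))
  haveI : IsMulCommutative (P : Subgroup G) := ⟨⟨fun a b => Subtype.ext (comm_mem h hP a.2 b.2)⟩⟩
  obtain ⟨n, hn, e⟩ := Sylow.conj_eq_normalizer_conj_of_mem P z c⁻¹ hz (by rw [inv_inv, hc]; exact hv)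
  rw [inv_inv, hc] at e
  have hrz : n⁻¹ * z * n⁻¹⁻¹ = v := by rw [inv_inv]; exact e.symm
  have hN : n⁻¹ ∈ normalizer ((P : Subgroup G) : Set G) := inv_mem hn
  have hout : n⁻¹ ∉ (P : Subgroup G) := fun hin =>
    hne (by rw [← hrz, (comm_mem h hP hin hz).eq, mul_inv_cancel_right])
  have hrv := (mem_normalizer_iff.1 hN v).1 hv
  have h2 : n⁻¹ * v * n⁻¹⁻¹ = z * v := by
    rcases eq_of_card h hP hz hv hrv hz1 hv1 (Ne.symm hne) with e' | e' | e' | e'
    · exact absurd (conj_eq_one_iff.1 e') hv1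
    · -- the swap fixes `z * v`
      refine absurd (no_fix h hP hN (mul_mem hz hv) (fun e1 => hne ?_) ?_) hout
      · rw [← inv_eq_of_mul_eq_one_right e1, inv_eq_of_mul_eq_one_right (mul_self_mem h hP hz)]
      · rw [← conj_mul, hrz, e', (comm_mem h hP hv hz).eq]
    · exact absurd ((MulAut.conj n⁻¹).injective (e'.trans hrz.symm)) hne
    · exact e'
  refine ⟨n⁻¹, hN, hrz, h2, ?_⟩
  rw [← conj_mul, hrz, h2, (comm_mem h hP hz hv).eq, ← mul_assoc, mul_self_mem h hP hv, one_mul]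

theorem conj_pOm (p : ℕ) {t t' : G} (ht : orderOf t = 2) (ht' : orderOf t' = 2) {g : G}
    (hg : g * t * g⁻¹ = t') {x : G} (hx : x ∈ pOm h p ht) : g * x * g⁻¹ ∈ pOm h p ht' :=
  hg ▸ conj_om ht h g hx

theorem normal_pOm (hP : Nat.card P = 4) (p : ℕ) {t : G} (ht : orderOf t = 2)
    (htP : t ∈ (P : Subgroup G)) :
    (P : Subgroup G) ≤ normalizer (pOm h p ht : Set G) :=
  le_normalizer_of_conj_mem fun a ha _ hb =>
    conj_pOm h p ht ht (by rw [(comm_mem h hP ha htP).eq, mul_inv_cancel_right]) hb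

/-- Invariant `p`-subgroups of an odd invariant subgroup lie in a common one. -/
theorem join_inv (hP : Nat.card P = 4) {p : ℕ} [Fact p.Prime] {K U₁ U₂ : Subgroup G}
    (hK : Odd (Nat.card K)) (hPK : (P : Subgroup G) ≤ normalizer (K : Set G))
    (hU₁ : IsPGroup p U₁) (h₁ : U₁ ≤ K) (hP₁ : (P : Subgroup G) ≤ normalizer (U₁ : Set G))
    (hU₂ : IsPGroup p U₂) (h₂ : U₂ ≤ K) (hP₂ : (P : Subgroup G) ≤ normalizer (U₂ : Set G)) :
    ∃ Q : Subgroup G, IsPGroup p Q ∧ (P : Subgroup G) ≤ normalizer (Q : Set G) ∧ U₁ ≤ Q ∧ U₂ ≤ Q := by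
  haveI : Fact (Nat.Prime 2) := ⟨Nat.prime_two⟩
  have hcop : (Nat.card (P : Subgroup G)).Coprime (Nat.card K) := by
    change Nat.Coprime (Nat.card P) _
    rw [hP, show (4 : ℕ) = 2 ^ 2 by norm_num]
    exact Nat.Coprime.pow_left _ (Nat.coprime_two_left.2 hK)
  have hsol : Group.IsSolvable (P : Subgroup G) ∨ Group.IsSolvable K :=
    .inl (isSolvable_of_isPGroup P.2)
  obtain ⟨R₁, hR₁, hN₁⟩ := exists_invariant_sylow_ge hPK hcop hsol h₁ hU₁ hP₁
  obtain ⟨R₂, hR₂, hN₂⟩ := exists_invariant_sylow_ge hPK hcop hsol h₂ hU₂ hP₂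
  obtain ⟨c, hc, hcR⟩ := invariant_sylow_conj hPK hcop hsol R₁ R₂ hN₁ hN₂
  have hc1 : c = 1 := by
    have hcP : (c : G) ∈ (P : Subgroup G) :=
      centralizer_eq h hP fun x hx => mem_centralizer_iff.1 hc x hx
    exact Subtype.ext (eq_one_of_two (odd_of_mem hK c.2) (mul_self_mem h hP hcP))
  rw [hc1, map_one, one_smul] at hcR
  exact ⟨(R₁ : Subgroup K).map K.subtype, R₁.2.map _, hN₁, hR₁, hcR ▸ hR₂⟩

omit h in
theorem exists_normalizing {p : ℕ} [Fact p.Prime] {D M : Subgroup G} (hM : IsPGroup p M)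
    (hlt : D < M) : ∃ x ∈ M, x ∉ D ∧ x ∈ normalizer (D : Set G) := by
  haveI := hM.isNilpotent
  have h1 : D.subgroupOf M < ⊤ := by
    rw [lt_top_iff_ne_top, ne_eq, subgroupOf_eq_top]
    exact hlt.not_ge
  obtain ⟨⟨x, hx⟩, hxN, hxD⟩ := SetLike.exists_of_lt (Group.normalizerCondition_of_isNilpotent _ h1)
  refine ⟨x, hx, hxD, mem_normalizer_iff.2 fun y => ⟨fun hy => ?_, fun hy => ?_⟩⟩
  · exact (mem_normalizer_iff.1 hxN ⟨y, hlt.le hy⟩).1 hy
  · have hyM : y ∈ M := by
      have := mul_mem (mul_mem (inv_mem hx) (hlt.le hy)) hx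
      simpa [mul_assoc] using this
    exact (mem_normalizer_iff.1 hxN ⟨y, hyM⟩).2 hy

/-- Some invariant `p`-subgroup contains the `p`-parts of all three cores. -/
theorem exists_all (hP : Nat.card P = 4) {p : ℕ} [Fact p.Prime] (hp : p ≠ 2) {z v : G}
    (hz : orderOf z = 2) (hv : orderOf v = 2) (hne : v ≠ z)
    (hzP : z ∈ (P : Subgroup G)) (hvP : v ∈ (P : Subgroup G))
    {W : Subgroup G} (hW : Odd (Nat.card W)) (hPW : (P : Subgroup G) ≤ normalizer (W : Set G))
    (hOz : Om z ≤ W) (hOv : Om v ≤ W) (hnt : pOm h p hz ≠ ⊥) :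
    ∃ T : Subgroup G, IsPGroup p T ∧ (P : Subgroup G) ≤ normalizer (T : Set G) ∧
      ∀ (t : G) (ht : orderOf t = 2), t ∈ (P : Subgroup G) → pOm h p ht ≤ T := by
  classical
  haveI : Fact (Nat.Prime 2) := ⟨Nat.prime_two⟩
  obtain ⟨r, hr, hrz, hrv, hrw⟩ := conj_sylow h hP hzP (ne_one hz) hvP (ne_one hv) hne
  obtain ⟨M₀, hM₀, hPM₀, hz₀, hv₀⟩ := join_inv h hP hW hPW (isPGroup_pOm h p hz)
    ((pOm_le h p hz).trans hOz) (normal_pOm h hP p hz hzP) (isPGroup_pOm h p hv)
    ((pOm_le h p hv).trans hOv) (normal_pOm h hP p hv hvP)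
  have hw : orderOf (z * v) = 2 := by rw [← hrv, order_conj]; exact hv
  -- the conjugate
  set M₁ := M₀.map (MulAut.conj r).toMonoidHom with hM₁def
  have hM₁ : IsPGroup p M₁ := hM₀.map _
  have hPM₁ : (P : Subgroup G) ≤ normalizer (M₁ : Set G) := by
    refine le_normalizer_of_conj_mem fun a ha b hb => ?_
    obtain ⟨y, hy, rfl⟩ := hb
    have ha' : r⁻¹ * a * r ∈ (P : Subgroup G) := by
      have := (mem_normalizer_iff.1 (inv_mem hr) a).1 ha
      simpa using this
    refine ⟨r⁻¹ * a * r * y * (r⁻¹ * a * r)⁻¹, (mem_normalizer_iff.1 (hPM₀ ha') y).1 hy, ?_⟩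
    simp only [MulEquiv.coe_toMonoidHom, MulAut.conj_apply]
    group
  have hv₁ : pOm h p hv ≤ M₁ := fun x hx => by
    refine ⟨r⁻¹ * x * r⁻¹⁻¹, hz₀ (conj_pOm h p hv hz ?_ hx), ?_⟩
    · rw [← hrz]; group
    · simp only [MulEquiv.coe_toMonoidHom, MulAut.conj_apply]; group
  have hw₁ : pOm h p hw ≤ M₁ := fun x hx => by
    refine ⟨r⁻¹ * x * r⁻¹⁻¹, hv₀ (conj_pOm h p hw hv ?_ hx), ?_⟩
    · rw [← hrv]; group
    · simp only [MulEquiv.coe_toMonoidHom, MulAut.conj_apply]; group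
  have finish : ∀ T : Subgroup G, IsPGroup p T → (P : Subgroup G) ≤ normalizer (T : Set G) →
      pOm h p hz ≤ T → pOm h p hv ≤ T → pOm h p hw ≤ T →
      ∃ T : Subgroup G, IsPGroup p T ∧ (P : Subgroup G) ≤ normalizer (T : Set G) ∧
        ∀ (t : G) (ht : orderOf t = 2), t ∈ (P : Subgroup G) → pOm h p ht ≤ T := by
    intro T hT hPT a b c
    refine ⟨T, hT, hPT, fun t ht htP => ?_⟩
    rcases eq_of_card h hP hzP hvP htP (ne_one hz) (ne_one hv) hne.symm with rfl | rfl | rfl | rfl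
    · simp at ht
    · exact a
    · exact b
    · exact c
  by_contra hcon
  -- invariant `p`-subgroups over `pOm v`
  let Q : Subgroup G → Prop := fun M =>
    IsPGroup p M ∧ (P : Subgroup G) ≤ normalizer (M : Set G) ∧ pOm h p hv ≤ M
  have hmax : ∀ M, Q M → ∃ M', Q M' ∧ M ≤ M' ∧ ∀ M'', Q M'' → M' ≤ M'' → M' = M'' := by
    intro M hM
    obtain ⟨M', hle, hM'⟩ := Set.Finite.exists_le_maximal (Set.toFinite {X | Q X}) hM
    exact ⟨M', hM'.1, hle, fun M'' h1 h2 => le_antisymm h2 (hM'.2 h1 h2)⟩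
  obtain ⟨A₀, hA₀, hle₀, hA₀m⟩ := hmax M₀ ⟨hM₀, hPM₀, hv₀⟩
  obtain ⟨A₁, hA₁, hle₁, hA₁m⟩ := hmax M₁ ⟨hM₁, hPM₁, hv₁⟩
  have hA01 : A₀ ≠ A₁ := fun e =>
    hcon (finish A₀ hA₀.1 hA₀.2.1 (hz₀.trans hle₀) (hv₀.trans hle₀) (hw₁.trans (hle₁.trans e.ge)))
  let Mx : Subgroup G → Prop := fun M => Q M ∧ ∀ M'', Q M'' → M ≤ M'' → M = M''
  obtain ⟨⟨B₁, B₂⟩, ⟨hB₁, hB₂, hB12⟩, hbest⟩ :=
    Set.exists_max_image {q : Subgroup G × Subgroup G | Mx q.1 ∧ Mx q.2 ∧ q.1 ≠ q.2}
      (fun q => Nat.card (q.1 ⊓ q.2 : Subgroup G)) (Set.toFinite _)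
      ⟨(A₀, A₁), ⟨hA₀, hA₀m⟩, ⟨hA₁, hA₁m⟩, hA01⟩
  simp only [Set.mem_ofPred_eq] at hbest
  set D := B₁ ⊓ B₂ with hD
  have hPD : (P : Subgroup G) ≤ normalizer (D : Set G) := le_normalizer_inf hB₁.1.2.1 hB₂.1.2.1
  have hvD : pOm h p hv ≤ D := le_inf hB₁.1.2.2 hB₂.1.2.2
  have hlt₁ : D < B₁ := lt_of_le_of_ne inf_le_left fun e =>
    hB12 (hB₁.2 _ hB₂.1 (e ▸ inf_le_right))
  have hlt₂ : D < B₂ := lt_of_le_of_ne inf_le_right fun e =>
    hB12 (hB₂.2 _ hB₁.1 (e ▸ inf_le_left)).symm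
  set H := normalizer (D : Set G) with hH
  by_cases hcyc : ∃ g ∈ H, g ∈ normalizer ((P : Subgroup G) : Set G) ∧ g ∉ (P : Subgroup G)
  · obtain ⟨g, hgH, hgN, hgP⟩ := hcyc
    set v₂ := g * v * g⁻¹ with hv₂def
    set v₃ := g * v₂ * g⁻¹ with hv₃def
    have hv₂ : orderOf v₂ = 2 := by rw [hv₂def, order_conj]; exact hv
    have hv₃ : orderOf v₃ = 2 := by rw [hv₃def, order_conj]; exact hv₂
    have hv₂P : v₂ ∈ (P : Subgroup G) := (mem_normalizer_iff.1 hgN v).1 hvP
    have hv₃P : v₃ ∈ (P : Subgroup G) := (mem_normalizer_iff.1 hgN v₂).1 hv₂P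
    have h21 : v₂ ≠ v := fun e => hgP (no_fix h hP hgN hvP (ne_one hv) e)
    have h32 : v₃ ≠ v₂ := fun e => hgP (no_fix h hP hgN hv₂P (ne_one hv₂) e)
    have h31 : v₃ ≠ v := fun e => hgP (mem_of_two_group h hP hgN
      (no_fix h hP (mul_mem hgN hgN) hvP (ne_one hv)
        (Eq.trans (by rw [hv₃def, hv₂def]; group) e)))
    have hD₂ : pOm h p hv₂ ≤ D := fun x hx => by
      have := hvD (conj_pOm h p hv₂ hv (g := g⁻¹) (by rw [hv₂def]; group) hx)
      have := (mem_normalizer_iff.1 hgH _).1 this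
      simpa [mul_assoc] using this
    have hD₃ : pOm h p hv₃ ≤ D := fun x hx => by
      have := hD₂ (conj_pOm h p hv₃ hv₂ (g := g⁻¹) (by rw [hv₃def]; group) hx)
      have := (mem_normalizer_iff.1 hgH _).1 this
      simpa [mul_assoc] using this
    refine hcon ⟨D, hB₁.1.1.to_le inf_le_left, hPD, fun t ht htP => ?_⟩
    rcases eq_of_card h hP hvP hv₂P htP (ne_one hv) (ne_one hv₂) h21.symm with rfl | rfl | rfl | rfl
    · simp at ht
    · exact hvD
    · exact hD₂
    · rcases eq_of_card h hP hvP hv₂P hv₃P (ne_one hv) (ne_one hv₂) h21.symm with e | e | e | e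
      · exact absurd e (ne_one hv₃)
      · exact absurd e h31
      · exact absurd e h32
      · revert hD₃ hv₃; rw [e]; intro _ hD₃; exact hD₃
  · push Not at hcyc
    have hPH : (P : Subgroup G) ≤ H := hPD
    haveI : (P.subtype hPH : Subgroup H).FiniteIndex := inferInstance
    have hbN : normalizer ((P.subtype hPH : Subgroup H) : Set H) ≤
        centralizer ((P.subtype hPH : Subgroup H) : Set H) := by
      intro g hg
      have hgN : (g : G) ∈ normalizer ((P : Subgroup G) : Set G) := by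
        refine mem_normalizer_iff.2 fun y => ⟨fun hy => ?_, fun hy => ?_⟩
        · exact (mem_normalizer_iff.1 hg ⟨y, hPH hy⟩).1 hy
        · have hyH : y ∈ H := by
            have := mul_mem (mul_mem (inv_mem g.2) (hPH hy)) g.2
            simpa [mul_assoc] using this
          exact (mem_normalizer_iff.1 hg ⟨y, hyH⟩).2 hy
      have hgP := hcyc g g.2 hgN
      exact mem_centralizer_iff.2 fun y hy => Subtype.ext (comm_mem h hP hy hgP).eq
    have hcompl := MonoidHom.ker_transferSylow_isComplement' (P.subtype hPH) hbN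
    set N₀ := (MonoidHom.transferSylow (P.subtype hPH) hbN).ker with hN₀
    have hN₀4 : N₀.index = 4 := by
      rw [hcompl.symm.index_eq_card]
      exact (Nat.card_congr (subgroupOfEquivOfLe hPH).toEquiv).trans hP
    have hN₀odd : Odd (Nat.card N₀) := by
      rw [← hcompl.index_eq_card]
      exact Nat.not_even_iff_odd.1 fun he => (P.subtype hPH).not_dvd_index (even_iff_two_dvd.1 he)
    set K := N₀.map H.subtype with hKdef
    have hK : Odd (Nat.card K) := by rw [card_map_of_injective H.subtype_injective]; exact hN₀odd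
    have hPK : (P : Subgroup G) ≤ normalizer (K : Set G) := by
      refine le_normalizer_of_conj_mem fun a ha b hb => ?_
      obtain ⟨y, hy, rfl⟩ := hb
      exact ⟨_, Subgroup.Normal.conj_mem inferInstance y hy ⟨a, hPH ha⟩, rfl⟩
    have hin : ∀ {B : Subgroup G}, IsPGroup p B → B ⊓ H ≤ K := by
      intro B hB x hx
      obtain ⟨k, hk⟩ := hB ⟨x, hx.1⟩
      have hk' : x ^ p ^ k = 1 := by simpa using congrArg Subtype.val hk
      have hodd : Nat.Coprime 4 (p ^ k) := by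
        refine Nat.Coprime.pow_right k ?_
        rw [show (4 : ℕ) = 2 ^ 2 by norm_num]
        exact Nat.Coprime.pow_left 2 ((Nat.coprime_primes Nat.prime_two (Fact.out)).2 hp.symm)
      refine ⟨⟨x, hx.2⟩, ?_, rfl⟩
      have h4 := Subgroup.pow_index_mem N₀ (⟨x, hx.2⟩ : H)
      rw [hN₀4] at h4
      have h1 : (⟨x, hx.2⟩ : H) ^ p ^ k = 1 := Subtype.ext (by simpa using hk')
      obtain ⟨m, hm⟩ := exists_pow_eq_self_of_coprime
        (Nat.Coprime.coprime_dvd_right (orderOf_dvd_of_pow_eq_one h1) hodd)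
      rw [← hm]
      exact pow_mem h4 m
    obtain ⟨R, hR, hPR, hR₁, hR₂⟩ := join_inv h hP hK hPK
      (hB₁.1.1.to_le (inf_le_left (b := H))) (hin hB₁.1.1)
      (le_normalizer_inf hB₁.1.2.1 (hPH.trans le_normalizer))
      (hB₂.1.1.to_le (inf_le_left (b := H))) (hin hB₂.1.1)
      (le_normalizer_inf hB₂.1.2.1 (hPH.trans le_normalizer))
    have hDR : D ≤ R := fun x hx => hR₁ ⟨hx.1, le_normalizer hx⟩
    obtain ⟨B₃, hB₃, hle₃, hB₃m⟩ := hmax R ⟨hR, hPR, hvD.trans hDR⟩
    have hboth : ∀ B : Subgroup G, Mx B → D < B → B ⊓ H ≤ R → B = B₃ := by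
      intro B hB hlt hBR
      by_contra hne3
      obtain ⟨x, hxB, hxD, hxN⟩ := exists_normalizing hB.1.1 hlt
      have hle : D ≤ B ⊓ B₃ := le_inf hlt.le (hDR.trans hle₃)
      have heq : D = B ⊓ B₃ := eq_of_le_of_card_ge hle
        (hbest (B, B₃) ⟨hB, ⟨hB₃, hB₃m⟩, hne3⟩)
      exact hxD (heq ▸ ⟨hxB, hle₃ (hBR ⟨hxB, hxN⟩)⟩)
    exact hB12 ((hboth B₁ hB₁ hlt₁ hR₁).trans (hboth B₂ hB₂ hlt₂ hR₂).symm)

omit h in
theorem eq_one_of_flip {j d : G} (hj : Odd (orderOf j)) (hd : Odd (orderOf d))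
    (e : j * d * j⁻¹ = d⁻¹) : d = 1 := by
  have h2 : Commute (j ^ 2) d := by
    rw [commute_iff_eq, pow_two]
    have e' : j * d⁻¹ * j⁻¹ = d := by
      rw [show j * d⁻¹ * j⁻¹ = (j * d * j⁻¹)⁻¹ by group, e, inv_inv]
    rw [← e] at e'
    calc j * j * d = j * (j * d * j⁻¹) * j⁻¹ * (j * j) := by group
      _ = d * (j * j) := by rw [e']
  obtain ⟨m, hm⟩ := exists_pow_eq_self_of_coprime (Nat.coprime_two_left.2 hj)
  have hc : Commute j d := hm ▸ h2.pow_left m
  rw [hc.eq, mul_inv_cancel_right] at e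
  exact eq_one_of_two hd (by nth_rw 1 [e]; exact inv_mul_cancel d)

/-- The product of the three `p`-parts injects. -/
theorem card_mul_le (hP : Nat.card P = 4) {p : ℕ} {z v : G} (hz : orderOf z = 2) (hv : orderOf v = 2)
    (hne : v ≠ z) (hzP : z ∈ (P : Subgroup G)) (hvP : v ∈ (P : Subgroup G)) (hp : Odd p)
    {T : Subgroup G} (hT : IsPGroup p T) (hw : orderOf (z * v) = 2)
    (h1 : pOm h p hz ≤ T) (h2 : pOm h p hv ≤ T) (h3 : pOm h p hw ≤ T) :
    Nat.card (pOm h p hz) * Nat.card (pOm h p hv) * Nat.card (pOm h p hw) ≤ Nat.card T := by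
  have hzv := comm_mem h hP hzP hvP
  have hwz : Commute z (z * v) := (Commute.refl z).mul_right hzv
  have hwv : Commute v (z * v) := hzv.symm.mul_right (Commute.refl v)
  have nzw : z ≠ z * v := fun e => ne_one hv (mul_eq_left.1 e.symm)
  have nvw : v ≠ z * v := fun e => ne_one hz (mul_eq_right.1 e.symm)
  have oddT : ∀ {x : G}, x ∈ T → Odd (orderOf x) := fun {x} hx => by
    obtain ⟨k, hk⟩ := hT ⟨x, hx⟩
    exact (hp.pow).of_dvd_nat (orderOf_dvd_of_pow_eq_one (n := p ^ k) (by simpa using congrArg Subtype.val hk))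
  have zv_inv : ∀ {x}, x ∈ pOm h p hv → z * x * z⁻¹ = x⁻¹ :=
    fun hx => h.inv_om hv hz hne.symm hzv.symm hx.1
  have zw_inv : ∀ {x}, x ∈ pOm h p hw → z * x * z⁻¹ = x⁻¹ :=
    fun hx => h.inv_om hw hz nzw hwz.symm hx.1
  have vw_inv : ∀ {x}, x ∈ pOm h p hw → v * x * v⁻¹ = x⁻¹ :=
    fun hx => h.inv_om hw hv nvw hwv.symm hx.1
  let f : pOm h p hz × pOm h p hv × pOm h p hw → T := fun q =>
    ⟨(q.1 : G) * ((q.2.1 : G) * (q.2.2 : G) * (q.2.1 : G)),
      mul_mem (h1 q.1.2) (mul_mem (mul_mem (h2 q.2.1.2) (h3 q.2.2.2)) (h2 q.2.1.2))⟩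
  have hinj : Function.Injective f := by
    rintro ⟨⟨a, ha⟩, ⟨b, hb⟩, ⟨c, hc⟩⟩ ⟨⟨a', ha'⟩, ⟨b', hb'⟩, ⟨c', hc'⟩⟩ e
    have e0 : a * (b * c * b) = a' * (b' * c' * b') := congrArg Subtype.val e
    have hinvj : ∀ {b c}, b ∈ pOm h p hv → c ∈ pOm h p hw →
        z * (b * c * b) * z⁻¹ = (b * c * b)⁻¹ := fun hb hc => by
      rw [← conj_mul, ← conj_mul, zv_inv hb, zw_inv hc]; group
    -- the fixed coordinate
    have hdz : a'⁻¹ * a ∈ pOm h p hz := mul_mem (inv_mem ha') ha
    have hj : (a'⁻¹ * a) * (b * c * b) = b' * c' * b' := by rw [mul_assoc, e0, inv_mul_cancel_left]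
    have hd1 : a'⁻¹ * a = 1 := by
      generalize a'⁻¹ * a = d at hdz hj
      have hjT : b * c * b ∈ T := mul_mem (mul_mem (h2 hb) (h3 hc)) (h2 hb)
      have e1 : d * (b * c * b)⁻¹ = (b * c * b)⁻¹ * d⁻¹ := by
        calc d * (b * c * b)⁻¹ = z * d * z⁻¹ * (z * (b * c * b) * z⁻¹) := by
              rw [hinvj hb hc, (om_comm hdz.1).eq, mul_inv_cancel_right]
          _ = z * (d * (b * c * b)) * z⁻¹ := conj_mul
          _ = (d * (b * c * b))⁻¹ := by rw [hj, hinvj hb' hc']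
          _ = (b * c * b)⁻¹ * d⁻¹ := mul_inv_rev _ _
      refine eq_one_of_flip (oddT hjT) (oddT (h1 hdz)) ?_
      calc b * c * b * d * (b * c * b)⁻¹ = b * c * b * ((b * c * b)⁻¹ * d⁻¹) := by rw [← e1]; group
        _ = d⁻¹ := by group
    rw [hd1, one_mul] at hj
    -- the other two
    have hbb := h.om_abelian hv hb.1 hb'.1
    have hc'e : c' = b'⁻¹ * b * c * (b'⁻¹ * b) := by
      have e2 : b * b'⁻¹ = b'⁻¹ * b := (hbb.inv_right).eq
      calc c' = b'⁻¹ * (b' * c' * b') * b'⁻¹ := by group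
        _ = b'⁻¹ * b * c * (b * b'⁻¹) := by rw [← hj]; group
        _ = _ := by rw [e2]
    have hx : b'⁻¹ * b ∈ pOm h p hv := mul_mem (inv_mem hb') hb
    have hx1 : b'⁻¹ * b = 1 := by
      generalize b'⁻¹ * b = x at hc'e hx
      have e3 : x * c⁻¹ * x = c'⁻¹ := by
        have e4 := congrArg (fun y => v * y * v⁻¹) hc'e
        simp only [← conj_mul] at e4
        rw [vw_inv hc', vw_inv hc, (om_comm hx.1).eq, mul_inv_cancel_right] at e4
        exact e4.symm
      have hflip : c * (x * x) * c⁻¹ = (x * x)⁻¹ := by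
        have e5 : x * c⁻¹ * x = x⁻¹ * c⁻¹ * x⁻¹ := by rw [e3, hc'e]; group
        calc c * (x * x) * c⁻¹ = c * x * (x * c⁻¹ * x) * x⁻¹ := by group
          _ = c * x * (x⁻¹ * c⁻¹ * x⁻¹) * x⁻¹ := by rw [e5]
          _ = (x * x)⁻¹ := by group
      exact eq_one_of_two (oddT (h2 hx))
        (eq_one_of_flip (oddT (h3 hc)) (oddT (mul_mem (h2 hx) (h2 hx))) hflip)
    have ea : a = a' := inv_mul_eq_one.1 hd1 |>.symm
    have eb : b = b' := (inv_mul_eq_one.1 hx1).symm
    rw [hx1] at hc'e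
    simp only [one_mul, mul_one] at hc'e
    subst ea eb hc'e
    rfl
  have := Nat.card_le_card_of_injective f hinj
  simpa [Nat.card_prod, mul_assoc] using this

theorem card_pOm_ge (p : ℕ) [Fact p.Prime] {t : G} (ht : orderOf t = 2) :
    p ^ (Nat.card (Om t)).factorization p ≤ Nat.card (pOm h p ht) := by
  obtain ⟨Q⟩ : Nonempty (Sylow p (Om t)) := inferInstance
  rw [← card_map_sylow Q]
  refine Nat.le_of_dvd Nat.card_pos (card_dvd_of_le ?_)
  rintro _ ⟨y, hy, rfl⟩
  obtain ⟨k, hk⟩ := Q.2 ⟨y, hy⟩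
  exact ⟨y.2, k, by simpa [Subtype.ext_iff] using hk⟩

theorem card_pOm_eq (p : ℕ) {t t' : G} (ht : orderOf t = 2) (ht' : orderOf t' = 2) :
    Nat.card (pOm h p ht) ≤ Nat.card (pOm h p ht') := by
  obtain ⟨g, hg⟩ := isConj_iff.1 (h.one t t' ht ht')
  exact Nat.card_le_card_of_injective
    (fun x => (⟨g * x.1 * g⁻¹, conj_pOm h p ht ht' hg x.2⟩ : pOm h p ht'))
    fun x y e => Subtype.ext ((MulAut.conj g).injective (congrArg Subtype.val e))

theorem card_centralizer (hP : Nat.card P = 4) {z : G} (hz : orderOf z = 2)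
    (hzP : z ∈ (P : Subgroup G)) :
    Nat.card (centralizer ({z} : Set G)) = 4 * Nat.card (Om z) := by
  haveI : Fact (Nat.Prime 2) := ⟨Nat.prime_two⟩
  obtain ⟨n, hn, hS⟩ := h.dih P
  obtain ⟨N, hN, hNodd, k, hk⟩ := Cfsg.Agent.S0514.result P n hn hS z hz
  have hcard : Nat.card (centralizer ({z} : Set G)) = Nat.card N * 2 ^ k := by rw [← hk, N.card_mul_index]
  have hNO : Nat.card N = Nat.card (Om z) := by
    refine Nat.dvd_antisymm ?_ ?_
    · rw [← card_map_of_injective (centralizer ({z} : Set G)).subtype_injective]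
      refine card_dvd_of_le ?_
      rintro _ ⟨x, hx, rfl⟩
      refine h.mem_om hz (mem_centralizer_singleton_iff.1 x.2).symm ?_
      simpa [orderOf_submonoid] using odd_of_mem hNodd hx
    · refine (Nat.Coprime.pow_right k (Nat.coprime_two_right.2 (odd_om z))).dvd_of_dvd_mul_right ?_
      rw [← hcard]
      exact card_dvd_of_le (om_le z)
  have hPC : (P : Subgroup G) ≤ centralizer ({z} : Set G) :=
    fun x hx => mem_centralizer_singleton_iff.2 (comm_mem h hP hx hzP).eq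
  have h4 : 4 ∣ 2 ^ k := by
    refine (Nat.Coprime.pow_left 2 (Nat.coprime_two_left.2 hNodd) : Nat.Coprime (2 ^ 2) _).dvd_of_dvd_mul_left ?_
    rw [← hcard]
    have hd := card_dvd_of_le hPC
    rw [hP] at hd
    exact hd
  have h4' : 2 ^ k ∣ 4 := by
    have hd : 2 ^ k ∣ Nat.card P * (P : Subgroup G).index :=
      (card_mul_index (P : Subgroup G)).symm ▸
        (dvd_trans (hcard ▸ dvd_mul_left _ _) (card_subgroup_dvd_card _))
    rw [← hP]
    exact (Nat.Coprime.pow_left k (Nat.prime_two.coprime_iff_not_dvd.2 P.not_dvd_index)).dvd_of_dvd_mul_right hd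
  rw [hcard, hNO, Nat.dvd_antisymm h4' h4, mul_comm]

omit [Finite G] in
theorem rep_injective (χ : Cfsg.IrrCharacter G) {n : ℕ} (ρ : Representation ℂ G (Fin n → ℂ))
    (hρ : ρ.character = (χ : G → ℂ)) {g : G} (hg : (χ : G → ℂ) g ≠ n) :
    Function.Injective ρ := by
  haveI := h.simple
  rcases (MonoidHom.normal_ker ρ).eq_bot_or_eq_top with hk | hk
  · exact (MonoidHom.ker_eq_bot_iff ρ).1 hk
  · refine absurd ?_ hg
    have hg1 : ρ g = 1 := MonoidHom.mem_ker.1 (hk.ge (mem_top g))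
    rw [← hρ, Representation.character, hg1, Module.End.one_eq_id, LinearMap.trace_id]
    simp

theorem degree_ne_one (χ : Cfsg.IrrCharacter G) (hne : (χ : G → ℂ) ≠ fun _ => 1) :
    Cfsg.charDegree (χ : G → ℂ) ≠ 1 := by
  intro hd
  obtain ⟨n, ρ, -, hρ⟩ := χ.2
  have h1 := CharAverage.irr_apply_one χ
  rw [hd, ← hρ, Representation.char_one] at h1
  have hn : n = 1 := by exact_mod_cast (by simpa using h1 : (n : ℂ) = ((1 : ℕ) : ℂ))
  subst hn
  by_cases hg : ∃ g, (χ : G → ℂ) g ≠ ((1 : ℕ) : ℂ)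
  · obtain ⟨g, hg⟩ := hg
    obtain ⟨a, b, hab⟩ := h.nonab
    refine hab (rep_injective h χ ρ hρ hg ?_)
    have key : ∀ (f : Module.End ℂ (Fin 1 → ℂ)) (x : Fin 1 → ℂ), f x = x 0 • f (fun _ => 1) := by
      intro f x
      rw [← map_smul]
      congr 1
      funext i; fin_cases i; simp
    rw [map_mul, map_mul]
    refine LinearMap.ext fun x => ?_
    funext i
    fin_cases i
    rw [Module.End.mul_apply, Module.End.mul_apply, key (ρ a) (ρ b x), key (ρ b) x,
      key (ρ b) (ρ a x), key (ρ a) x]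
    simp [mul_comm, mul_left_comm]
  · push Not at hg
    exact hne (funext fun g => by simpa using hg g)

theorem no_degree_three (hP : Nat.card P = 4) {p : ℕ} [Fact p.Prime] (hp : p ≠ 2) {z v : G}
    (hz : orderOf z = 2) (hv : orderOf v = 2) (hne : v ≠ z) (hzP : z ∈ (P : Subgroup G))
    (hvP : v ∈ (P : Subgroup G)) {T : Subgroup G} (hT : IsPGroup p T)
    (hPT : (P : Subgroup G) ≤ normalizer (T : Set G))
    (hall : ∀ (t : G) (ht : orderOf t = 2), t ∈ (P : Subgroup G) → pOm h p ht ≤ T)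
    (hnt : ∀ (t : G) (ht : orderOf t = 2), pOm h p ht ≠ ⊥)
    (χ : Cfsg.IrrCharacter G) (hd : Cfsg.charDegree (χ : G → ℂ) = 3)
    (hg : (χ : G → ℂ) z ≠ 3) : False := by
  obtain ⟨n, ρ, -, hρ⟩ := χ.2
  have h1 := CharAverage.irr_apply_one χ
  rw [hd, ← hρ, Representation.char_one] at h1
  have hn : n = 3 := by exact_mod_cast (by simpa using h1 : (n : ℂ) = ((3 : ℕ) : ℂ))
  subst hn
  have hinj := rep_injective h χ ρ hρ (g := z) (by exact_mod_cast hg)
  have hodd : ∀ {x : G}, x ∈ T → Odd (orderOf x) := fun {x} hx => by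
    obtain ⟨k, hk⟩ := hT ⟨x, hx⟩
    exact (((Fact.out : p.Prime).odd_of_ne_two hp).pow).of_dvd_nat
      (orderOf_dvd_of_pow_eq_one (n := p ^ k) (by simpa using congrArg Subtype.val hk))
  -- a central element fixed by some involution of `P`
  obtain ⟨t, ht, htP, b, hbT, hb1, hbc, hbt⟩ : ∃ t, orderOf t = 2 ∧ t ∈ (P : Subgroup G) ∧
      ∃ b ∈ T, b ≠ 1 ∧ (∀ y ∈ T, Commute b y) ∧ Commute t b := by
    haveI : Nontrivial T := by
      refine (Subgroup.nontrivial_iff_ne_bot _).2 fun e => hnt z hz ?_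
      exact le_bot_iff.1 (e ▸ hall z hz hzP)
    haveI := hT.center_nontrivial
    obtain ⟨⟨⟨x, hxT⟩, hxc⟩, hx1⟩ := exists_ne (1 : center T)
    have hx : ∀ y ∈ T, Commute x y := fun y hy =>
      (congrArg Subtype.val (mem_center_iff.1 hxc ⟨y, hy⟩)).symm
    have hx1' : x ≠ 1 := fun e => hx1 (Subtype.ext (Subtype.ext e))
    have step : ∀ u, u ∈ (P : Subgroup G) → u ≠ 1 → x * (u * x * u⁻¹) ≠ 1 →
        ∃ t, orderOf t = 2 ∧ t ∈ (P : Subgroup G) ∧
          ∃ b ∈ T, b ≠ 1 ∧ (∀ y ∈ T, Commute b y) ∧ Commute t b := by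
      intro u hu hu1 hne1
      have huT : u * x * u⁻¹ ∈ T := (mem_normalizer_iff.1 (hPT hu) x).1 hxT
      refine ⟨u, order_mem h hP hu hu1, hu, _, mul_mem hxT huT, hne1, fun y hy => ?_, ?_⟩
      · refine (hx y hy).mul_left ?_
        have hy' := (mem_normalizer_iff.1 (hPT (inv_mem hu)) y).1 hy
        have := (hx _ hy').map (MulAut.conj u)
        simpa [mul_assoc] using this
      · have hc := hx _ huT
        rw [commute_iff_eq]
        calc u * (x * (u * x * u⁻¹)) = u * x * u⁻¹ * (u * u) * x * u⁻¹ := by group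
          _ = u * x * u⁻¹ * x * u⁻¹ := by rw [mul_self_mem h hP hu, mul_one]
          _ = x * (u * x * u⁻¹) * u⁻¹ := by rw [hc.eq]
          _ = x * (u * x * u⁻¹) * u := by
            rw [inv_eq_of_mul_eq_one_right (mul_self_mem h hP hu)]
    by_cases h1 : x * (z * x * z⁻¹) = 1
    · by_cases h2 : x * (v * x * v⁻¹) = 1
      · refine ⟨z * v, ?_, mul_mem hzP hvP, x, hxT, hx1', hx, ?_⟩
        · refine order_mem h hP (mul_mem hzP hvP) fun e => hne ?_
          rw [← inv_eq_of_mul_eq_one_right e, inv_self hz]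
        · have a1 : z * x * z⁻¹ = x⁻¹ := (inv_eq_of_mul_eq_one_right h1).symm
          have a2 : v * x * v⁻¹ = x⁻¹ := (inv_eq_of_mul_eq_one_right h2).symm
          rw [commute_iff_eq, ← mul_inv_eq_iff_eq_mul]
          calc z * v * x * (z * v)⁻¹ = z * (v * x * v⁻¹) * z⁻¹ := by group
            _ = (z * x * z⁻¹)⁻¹ := by rw [a2]; group
            _ = x := by rw [a1, inv_inv]
      · exact step v hvP (ne_one hv) h2
    · exact step z hzP (ne_one hz) h1
  obtain ⟨u, huP, hu, hut⟩ : ∃ u ∈ (P : Subgroup G), orderOf u = 2 ∧ u ≠ t := by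
    by_cases e : z = t
    · exact ⟨v, hvP, hv, e ▸ hne⟩
    · exact ⟨z, hzP, hz, e⟩
  have hcut : Commute u t := comm_mem h hP huP htP
  obtain ⟨⟨b', hb'⟩, hb'1⟩ : ∃ q : pOm h p hu, q ≠ 1 := by
    haveI : Nontrivial (pOm h p hu) := (Subgroup.nontrivial_iff_ne_bot _).2 (hnt u hu)
    exact exists_ne 1
  have hb'T := hall u hu huP hb'
  have hub : u * b * u⁻¹ = b⁻¹ := h.inv t u ht hu hut hcut.symm b (hodd hbT) hbt
  have htb' : t * b' * t⁻¹ = b'⁻¹ := h.inv_om hu ht hut.symm hcut hb'.1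
  have hcomm : Commute (ρ t) (ρ b') := by
    refine three_commute (W := Fin 3 → ℂ) (by simp) (ρ b) (ρ u) (ρ u⁻¹) (hodd hbT) ?_ ?_ ?_ ?_ _ _ ?_ ?_
    · rw [← map_pow, pow_orderOf_eq_one, map_one]
    · exact fun e => hb1 (hinj (e.trans (map_one ρ).symm))
    · rw [← map_mul, inv_mul_cancel, map_one]
    · rw [← map_mul, ← map_mul]
      congr 1
      calc b * u * b = b * (u * b * u⁻¹) * u := by group
        _ = u := by rw [hub]; group
    · rw [← map_mul, ← map_mul, hbt.eq]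
    · rw [← map_mul, ← map_mul, (hbc b' hb'T).eq]
  have e : t * b' = b' * t := hinj (by rw [map_mul, map_mul]; exact hcomm)
  rw [e, mul_inv_cancel_right] at htb'
  have h2 : b' * b' = 1 := (congrArg (· * b') htb').trans (inv_mul_cancel b')
  exact hb'1 (Subtype.ext (eq_one_of_two (hodd hb'T) h2))

end frame

/-- The Klein four case. -/
theorem no_two_full {G : Type*} [Group G] [Finite G] (h : GWDih33.Hyp G) (S : Sylow 2 G)
    (hS : Nat.card S = 4) {z v : G} (hz : orderOf z = 2) (hv : orderOf v = 2) (hne : v ≠ z)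
    (hc : Commute z v) (W : Subgroup G) (hW : Odd (Nat.card W))
    (hzW : z ∈ Subgroup.normalizer (W : Set G)) (hvW : v ∈ Subgroup.normalizer (W : Set G))
    (hOz : GWDih33.Om z ≤ W) (hOv : GWDih33.Om v ≤ W) (hnt : GWDih33.Om z ≠ ⊥) : False := by
  classical
  haveI := Fintype.ofFinite G
  haveI : Fact (Nat.Prime 2) := ⟨Nat.prime_two⟩
  set V := CoprimeGen.pairSubgroup z v hc with hV
  have hVp : IsPGroup 2 V := by
    have hd := CoprimeGen.card_pairSubgroup_dvd z v hc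
    rw [hz, hv, show 2 * 2 = 2 ^ 2 by norm_num] at hd
    obtain ⟨k, -, hk⟩ := (Nat.dvd_prime_pow Nat.prime_two).1 hd
    exact IsPGroup.iff_card.2 ⟨k, hk⟩
  obtain ⟨P, hVP⟩ := hVp.exists_le_sylow
  have hP : Nat.card P = 4 := by rw [P.card_eq_multiplicity, ← S.card_eq_multiplicity, hS]
  have hzP : z ∈ (P : Subgroup G) := hVP (CoprimeGen.left_mem_pairSubgroup z v hc)
  have hvP : v ∈ (P : Subgroup G) := hVP (CoprimeGen.right_mem_pairSubgroup z v hc)
  have hPW : (P : Subgroup G) ≤ normalizer (W : Set G) := fun x hx => by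
    rcases eq_of_card h hP hzP hvP hx (ne_one hz) (ne_one hv) hne.symm with rfl | rfl | rfl | rfl
    · exact one_mem _
    · exact hzW
    · exact hvW
    · exact mul_mem hzW hvW
  have hw : orderOf (z * v) = 2 := order_mem h hP (mul_mem hzP hvP) fun e => hne
    (by rw [← inv_eq_of_mul_eq_one_right e, inv_self hz])
  set o := Nat.card (Om z) with ho
  have hoodd : Odd o := odd_om z
  have hTex : ∀ p : ℕ, p.Prime → p ∣ o → p ≠ 2 ∧ ∀ [Fact p.Prime],
      (∀ (t : G) (ht : orderOf t = 2), pOm h p ht ≠ ⊥) ∧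
      ∃ T : Subgroup G, IsPGroup p T ∧ (P : Subgroup G) ≤ normalizer (T : Set G) ∧
        ∀ (t : G) (ht : orderOf t = 2), t ∈ (P : Subgroup G) → pOm h p ht ≤ T := by
    intro p hp hpo
    have hp2 : p ≠ 2 := fun e => Nat.not_even_iff_odd.2 hoodd (even_iff_two_dvd.2 (e ▸ hpo))
    refine ⟨hp2, fun {hF} => ?_⟩
    have hbig : ∀ (t : G) (ht : orderOf t = 2), 1 < Nat.card (pOm h p ht) := fun t ht =>
      lt_of_lt_of_le (Nat.one_lt_pow (hp.factorization_pos_of_dvd Nat.card_pos.ne' hpo).ne' hp.one_lt)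
        ((card_pOm_ge h p hz).trans (card_pOm_eq h p hz ht))
    have hb' : ∀ (t : G) (ht : orderOf t = 2), pOm h p ht ≠ ⊥ := fun t ht e => by
      have := hbig t ht
      rw [e, Subgroup.card_bot] at this
      exact lt_irrefl _ this
    exact ⟨hb', exists_all h hP hp2 hz hv hne hzP hvP hW hPW hOz hOv (hb' z hz)⟩
  -- `o ^ 3` divides the order
  have ho3 : o ^ 3 ∣ Nat.card G := by
    rw [← Nat.factorization_le_iff_dvd (pow_ne_zero _ Nat.card_pos.ne') Nat.card_pos.ne']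
    intro p
    rw [Nat.factorization_pow, Finsupp.smul_apply, smul_eq_mul]
    by_cases hpo : p.Prime ∧ p ∣ o
    · obtain ⟨hp, hpd⟩ := hpo
      haveI : Fact p.Prime := ⟨hp⟩
      obtain ⟨hp2, hrest⟩ := hTex p hp hpd
      obtain ⟨-, T, hT, -, hall⟩ := @hrest ⟨hp⟩
      obtain ⟨m, hm⟩ := IsPGroup.iff_card.1 hT
      have h3 := card_mul_le h hP hz hv hne hzP hvP (hp.odd_of_ne_two hp2) hT hw (hall z hz hzP)
        (hall v hv hvP) (hall _ hw (mul_mem hzP hvP))
      rw [hm] at h3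
      have e1 := card_pOm_ge h p hz
      have e2 := e1.trans (card_pOm_eq h p hz hv)
      have e3 := e1.trans (card_pOm_eq h p hz hw)
      have h4 : p ^ (3 * o.factorization p) ≤ p ^ m := by
        refine le_trans ?_ h3
        rw [show 3 * o.factorization p = o.factorization p + o.factorization p + o.factorization p by ring,
          pow_add, pow_add]
        exact Nat.mul_le_mul (Nat.mul_le_mul e1 e2) e3
      refine ((Nat.pow_le_pow_iff_right hp.one_lt).1 h4).trans ?_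
      exact (hp.pow_dvd_iff_le_factorization Nat.card_pos.ne').1 (hm ▸ card_subgroup_dvd_card T)
    · rw [Nat.factorization_eq_zero_iff _ _ |>.2 (by tauto)]
      simp
  obtain ⟨K, hK, hGK⟩ : ∃ K, Odd K ∧ Nat.card G = 4 * (o ^ 3 * K) := by
    have hidx : Nat.card G = 4 * (P : Subgroup G).index := by
      rw [← card_mul_index (P : Subgroup G)]; exact congrArg (· * _) hP
    have hd : o ^ 3 ∣ (P : Subgroup G).index :=
      (Nat.Coprime.pow_left 3 (show Nat.Coprime o 4 by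
        rw [show (4 : ℕ) = 2 ^ 2 by norm_num]
        exact Nat.Coprime.pow_right 2 (Nat.coprime_two_right.2 hoodd))).dvd_of_dvd_mul_left (hidx ▸ ho3)
    obtain ⟨K, hK⟩ := hd
    have hio : Odd (P : Subgroup G).index := Nat.not_even_iff_odd.1 fun he =>
      P.not_dvd_index (even_iff_two_dvd.1 he)
    exact ⟨K, (hK ▸ hio).of_dvd_nat (dvd_mul_left _ _), by rw [hidx, hK]⟩
  -- the principal block
  obtain ⟨M, hM⟩ := ZStarCount.exists_isPModular 2 Nat.prime_two
  have hexp := exp_two h hP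
  obtain ⟨ζ₂, ζ₃, ζ₄, ε, hε, hne2, hne3, h23, h24, h34, hB, hval, c2, c3, c4, -⟩ :=
    KleinFourBlock79.main hM hP hexp hzP hz h.one
  obtain ⟨v2, v3, v4⟩ := hval z hz
  have hne4 : (ζ₄ : G → ℂ) ≠ fun _ => 1 := fun e => by
    rw [congrFun e z] at v4; norm_num at v4
  obtain ⟨hw1, hord⟩ := KleinFourOrder79.relations (ε₁ := 1) (ε₂ := ε) (ε₃ := -1) hM hP hexp hzP hz
    h.one hB ⟨hne2, hne3, hne4, h23, h24, h34⟩ ⟨.inl rfl, hε, .inr rfl⟩
    ⟨by simpa using v2, v3, by simpa using v4⟩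
  have hCP : Nat.card (centralizer ((P : Subgroup G) : Set G)) = 4 := by
    have e : centralizer ((P : Subgroup G) : Set G) = P := le_antisymm
      (fun g hg => centralizer_eq h hP fun x hx => mem_centralizer_iff.1 hg x hx)
      fun x hx => mem_centralizer_iff.2 fun y hy => comm_mem h hP hy hx
    rw [e]; exact hP
  rw [hCP, card_centralizer h hP hz hzP, hGK] at hord
  -- degrees
  have d2 := degree_ne_one h ζ₂ hne2
  have d3 := degree_ne_one h ζ₃ hne3
  have d4 := degree_ne_one h ζ₄ hne4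
  have p2 := CharAverage.irr_degree_pos ζ₂
  have p3 := CharAverage.irr_degree_pos ζ₃
  have p4 := CharAverage.irr_degree_pos ζ₄
  have hthree : ∀ χ : Cfsg.IrrCharacter G, Cfsg.charDegree (χ : G → ℂ) = 3 → (χ : G → ℂ) z = -1 →
      False := by
    intro χ hd hz'
    obtain ⟨p, hp, hpd⟩ := Nat.exists_prime_and_dvd (n := o) fun e => hnt (card_eq_one.1 e)
    haveI : Fact p.Prime := ⟨hp⟩
    obtain ⟨hp2, hrest⟩ := hTex p hp hpd
    obtain ⟨hb', T, hT, hPT, hall⟩ := @hrest ⟨hp⟩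
    exact no_degree_three h hP hp2 hz hv hne hzP hvP hT hPT hall hb' χ hd (by rw [hz']; norm_num)
  generalize ha : Cfsg.charDegree (ζ₂ : G → ℂ) = a at *
  generalize hb : Cfsg.charDegree (ζ₃ : G → ℂ) = b at *
  generalize hcd : Cfsg.charDegree (ζ₄ : G → ℂ) = c at *
  have hoz : (o : ℤ) ≠ 0 := by exact_mod_cast Nat.card_pos.ne'
  have key : (K : ℤ) * (((a : ℤ) + 1) * ((b : ℤ) + ε) * ((c : ℤ) - 1)) = 8 * ((a : ℤ) * b * c) := by
    refine mul_left_cancel₀ (show (64 * (o : ℤ) ^ 3) ≠ 0 by positivity) ?_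
    push_cast at hord
    linear_combination hord
  rcases hε with rfl | rfl
  · refine degrees_plus (a := a) (b := b) (c := c) (K := K) (by omega) (by omega) (by omega) (by omega)
      (by omega) hK ?_
    have hc' : (c : ℤ) - 1 = a + b := by omega
    rw [hc'] at key
    exact_mod_cast key
  · by_cases hb3 : b = 3
    · exact hthree ζ₃ (hb.trans hb3) (by simpa using v3)
    by_cases hc3 : c = 3
    · exact hthree ζ₄ (hcd.trans hc3) (by simpa using v4)
    exact degrees_minus (a := a) (b := b) (c := c) (K := K) (by omega) (by omega) (by omega) (by omega)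
      (by omega) hK key

end Cfsg.Agent.GWDihKlein53
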