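import Cfsg.Agent.Lib.EvenCyclicAut27
import Cfsg.Agent.Lib.PGroupsCyclic
import Cfsg.Agent.S3224

/-!
For S3322: the centraliser of an involution is generalised dihedral with one rotation involution.
-/

set_option autoImplicit false
set_option linter.style.haveILetI false

namespace Cfsg.Agent.GWDihLocal74

open Subgroup
open Cfsg.Agent.EvenCyclic27

theorem qd_conj {T : Type*} [Group T] [Finite T] (hQ : Cfsg.IsQuasiDihedral T) {j z u : T}
    (hj : orderOf j = 2) (hC : Nat.card (centralizer ({j} : Set T)) = 4) (hz : orderOf z = 2)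
    (hzc : ∀ t : T, Commute z t) (hu : orderOf u = 2) (huz : u ≠ z) : IsConj j u := by
  obtain ⟨n, hn, hcard, x, y, hx, hy, hyx⟩ := hQ
  obtain ⟨k, rfl⟩ : ∃ k, n = k + 3 := ⟨n - 3, by omega⟩
  simp only [show k + 3 - 1 = k + 2 by omega] at hyx
  have hyy : y * y = 1 := by rw [← pow_two, ← hy, pow_orderOf_eq_one]
  have hyi : y⁻¹ = y := inv_eq_of_mul_eq_one_right hyy
  have hpow : 1 ≤ 2 ^ (k + 2) := Nat.one_le_two_pow
  have h42 : 4 ≤ 2 ^ (k + 2) := le_trans (by norm_num) (Nat.pow_le_pow_right (by norm_num) (show 2 ≤ k + 2 by omega))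
  have hp3 : 2 ^ (k + 3) = 2 * 2 ^ (k + 2) := by rw [pow_succ']
  have hne : x ^ (2 ^ (k + 2) - 1) ≠ x := by
    intro h
    have h1 : x ^ (2 ^ (k + 2) - 1) = x ^ 1 := by rw [h, pow_one]
    rw [pow_eq_pow_iff_modEq, hx, Nat.ModEq, Nat.mod_eq_of_lt (by omega), Nat.mod_eq_of_lt (by omega)] at h1
    omega
  have hyB : y ∉ zpowers x := by
    rintro ⟨i, hi⟩
    refine hne ?_
    rw [← hyx, ← hi]
    group
  have hidx : (zpowers x).index = 2 := by
    have h := (zpowers x).card_mul_index
    rw [Nat.card_zpowers, hx, hcard] at h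
    have e : 2 ^ (k + 3 + 1) = 2 ^ (k + 3) * 2 := pow_succ _ _
    exact Nat.eq_of_mul_eq_mul_left (pow_pos (by norm_num) _) (h.trans e)
  have hzB : z ∈ zpowers x := by
    by_contra hcon
    obtain ⟨i, hi⟩ : z * y ∈ zpowers x :=
      (mul_mem_iff_of_index_two hidx).2 (iff_of_false hcon hyB)
    have he : z = x ^ i * y := by rw [show x ^ i = z * y from hi, mul_assoc, hyy, mul_one]
    refine hne ?_
    rw [← hyx, hyi]
    have h := (hzc x).eq
    rw [he, mul_assoc] at h
    have h' : y * x = x * y := by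
      refine mul_left_cancel (a := x ^ i) (h.trans ?_)
      rw [← mul_assoc, ← mul_assoc, ← zpow_one_add, add_comm, ← zpow_add_one]
    rw [h', mul_assoc, hyy, mul_one]
  have out : ∀ w : T, orderOf w = 2 → w ≠ z →
      w ∈ (fun b => b * y) '' ((zpowers (x ^ 2) : Subgroup T) : Set T) := by
    intro w hw hwz
    have hwB : w ∉ zpowers x := fun h => by
      have he : zpowers w = zpowers z := PGroupsCyclic.eq_of_card_eq_of_isCyclic
        (A := zpowers x) inferInstance (zpowers_le.2 h) (zpowers_le.2 hzB)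
        (by rw [Nat.card_zpowers, Nat.card_zpowers, hw, hz])
      have h1 : w ∈ zpowers z := he ▸ mem_zpowers w
      obtain ⟨i, hi : z ^ i = w⟩ := h1
      rcases Int.even_or_odd i with ⟨l, rfl⟩ | ⟨l, rfl⟩
      · rw [← two_mul, zpow_mul, zpow_two, ← pow_two, ← hz, pow_orderOf_eq_one, one_zpow] at hi
        rw [← hi, orderOf_one] at hw
        omega
      · rw [zpow_add_one, zpow_mul, zpow_two, ← pow_two, ← hz, pow_orderOf_eq_one, one_zpow, one_mul] at hi
        exact hwz hi.symm
    have h0 : w * y ∈ zpowers x := (mul_mem_iff_of_index_two hidx).2 (iff_of_false hwB hyB)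
    obtain ⟨i, hi : x ^ i = w * y⟩ := (isOfFinOrder_of_finite x).mem_powers_iff_mem_zpowers.2 h0
    have he : w = x ^ i * y := by rw [hi, mul_assoc, hyy, mul_one]
    have hcj : y * x ^ i * y = x ^ ((2 ^ (k + 2) - 1) * i) := by
      have := map_pow (MulAut.conj y) x i
      rw [MulAut.conj_apply, MulAut.conj_apply, hyx, hyi, ← pow_mul] at this
      exact this
    have h2 : x ^ (i * 2 ^ (k + 2)) = 1 := by
      have hww : w * w = 1 := by rw [← pow_two, ← hw, pow_orderOf_eq_one]
      have e : i * 2 ^ (k + 2) = i + (2 ^ (k + 2) - 1) * i := by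
        obtain ⟨m, hm⟩ : ∃ m, 2 ^ (k + 2) = m + 1 := ⟨_, (Nat.sub_add_cancel hpow).symm⟩
        rw [hm, Nat.add_sub_cancel]; ring
      rw [e, pow_add, ← hcj, ← hww, he]
      group
    obtain ⟨l, rfl⟩ : 2 ∣ i := by
      rw [← orderOf_dvd_iff_pow_eq_one, hx, hp3] at h2
      exact Nat.dvd_of_mul_dvd_mul_right (pow_pos (by norm_num) _) h2
    exact ⟨x ^ (2 * l), by rw [pow_mul]; exact pow_mem (mem_zpowers _) _, he.symm⟩
  have hcls : MulAction.orbit (ConjAct T) j ⊆
      (fun b => b * y) '' ((zpowers (x ^ 2) : Subgroup T) : Set T) := by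
    rintro w ⟨g, rfl⟩
    have hjz : j ≠ z := by
      rintro rfl
      have h1 : centralizer ({j} : Set T) = ⊤ :=
        eq_top_iff.2 fun t _ => mem_centralizer_singleton_iff.2 (hzc t).eq.symm
      rw [h1, card_top, hcard] at hC
      rw [show k + 3 + 1 = k + 2 + 1 + 1 by omega, pow_succ, pow_succ] at hC
      omega
    change g • j ∈ _
    rw [ConjAct.smul_def]
    refine out _ (by rw [← MulAut.conj_apply, MulEquiv.orderOf_eq, hj]) fun h => hjz ?_
    have h' : ConjAct.ofConjAct g * j = z * ConjAct.ofConjAct g := mul_inv_eq_iff_eq_mul.1 h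
    rw [(hzc _).eq] at h'
    exact mul_left_cancel h'
  have horb : (MulAction.orbit (ConjAct T) j).ncard = 2 ^ (k + 2) := by
    have hs : Nat.card (MulAction.stabilizer (ConjAct T) j) = 4 := by
      rw [← hC]
      refine Nat.card_congr (Equiv.subtypeEquiv ConjAct.ofConjAct.toEquiv fun g => ?_)
      rw [MulAction.mem_stabilizer_iff, ConjAct.smul_def, mem_centralizer_singleton_iff, mul_inv_eq_iff_eq_mul]
      rfl
    have h := (MulAction.stabilizer (ConjAct T) j).card_mul_index
    rw [MulAction.index_stabilizer, hs, show Nat.card (ConjAct T) = Nat.card T from rfl, hcard] at h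
    rw [show k + 3 + 1 = k + 2 + 2 by omega, pow_add (2 : ℕ) (k + 2) 2] at h
    omega
  have himg : ((fun b => b * y) '' ((zpowers (x ^ 2) : Subgroup T) : Set T)).ncard ≤ 2 ^ (k + 2) := by
    refine (Set.ncard_image_le (Set.toFinite _)).trans (le_of_eq ?_)
    rw [← Nat.card_coe_set_eq]
    refine (Nat.card_zpowers _).trans ?_
    rw [orderOf_pow' x (by norm_num : (2 : ℕ) ≠ 0), hx, hp3, Nat.gcd_eq_right (dvd_mul_right 2 _),
      Nat.mul_div_cancel_left _ (by norm_num)]
  have := out u hu huz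
  rw [← Set.eq_of_subset_of_ncard_le hcls (by omega)] at this
  obtain ⟨g, hg⟩ := this
  rw [isConj_iff]
  exact ⟨ConjAct.ofConjAct g, by rw [← ConjAct.smul_def]; exact hg⟩

variable {G : Type*} [Group G] [Finite G]

theorem isSolvable_of_index_le {C : Subgroup G} [hC : Group.IsSolvable ↥C] (h : C.index ≤ 3) :
    Group.IsSolvable G := by
  haveI : Group.IsSolvable (Equiv.Perm (G ⧸ C)) := by
    haveI : IsZGroup (Equiv.Perm (G ⧸ C)) := by
      refine IsZGroup.of_squarefree ?_
      rw [Nat.card_perm, ← Subgroup.index_eq_card]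
      interval_cases C.index <;> decide +kernel
    infer_instance
  refine Group.isSolvable_of_ker_le_range C.subtype (MulAction.toPermHom G (G ⧸ C)) ?_
  rw [range_subtype, ← normalCore_eq_ker]
  exact normalCore_le C

omit [Finite G] in
theorem exists_abelian_normal (N : Subgroup G) [N.Normal] [hs : Group.IsSolvable ↥N] (hN : N ≠ ⊥) :
    ∃ K : Subgroup G, K.Normal ∧ K ≠ ⊥ ∧ ∀ a ∈ K, ∀ b ∈ K, a * b = b * a := by
  classical
  have hex : ∃ n, derivedSeries ↥N n = ⊥ := (Group.isSolvable_def _).1 hs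
  obtain ⟨m, hm⟩ : ∃ m, Nat.find hex = m + 1 := by
    refine Nat.exists_eq_succ_of_ne_zero fun h0 => hN ?_
    have h := Nat.find_spec hex
    rw [h0, derivedSeries_zero] at h
    rw [eq_bot_iff]
    intro a ha
    have h' : (⟨a, ha⟩ : N) ∈ (⊥ : Subgroup N) := h ▸ mem_top _
    exact congrArg Subtype.val (mem_bot.1 h')
  haveI : (derivedSeries ↥N m).Characteristic := derivedSeries_characteristic _ _
  refine ⟨(derivedSeries ↥N m).map N.subtype, inferInstance, fun h => ?_, ?_⟩
  · rw [map_eq_bot_iff_of_injective _ N.subtype_injective] at h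
    exact Nat.find_min hex (by omega) h
  · rintro _ ⟨a, ha, rfl⟩ _ ⟨b, hb, rfl⟩
    have h := Nat.find_spec hex
    rw [hm, derivedSeries_succ, commutator_eq_bot_iff_le_centralizer] at h
    rw [← map_mul, ← map_mul, mem_centralizer_iff.1 (h ha) b hb]

omit [Finite G] in
theorem sylowDihedral_of_one [Fact (Nat.Prime 2)] [Finite (Sylow 2 G)] {T : Sylow 2 G}
    {B : Subgroup G} (hc : IsCyclic B) (hle : B ≤ (T : Subgroup G))
    (hv : ∃ v ∈ (T : Subgroup G), v ∉ B) (hsq : ∀ s ∈ (T : Subgroup G), s ∉ B → s * s = 1)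
    (hmul : ∀ s ∈ (T : Subgroup G), s ∉ B → ∀ s' ∈ (T : Subgroup G), s' ∉ B → s * s' ∈ B)
    (hcard : 1 < Nat.card B) : SylowDihedral G := by
  intro S
  obtain ⟨g, hg⟩ := MulAction.exists_smul_eq G T S
  have hmem : ∀ x : G, x ∈ (T : Subgroup G) ↔ g * x * g⁻¹ ∈ (S : Subgroup G) := by
    intro x
    rw [← hg, Sylow.coe_subgroup_smul, ← MulAut.conj_apply]
    exact (smul_mem_pointwise_smul_iff (a := MulAut.conj g)).symm
  have hB : ∀ x : G, x ∈ B.map (MulAut.conj g).toMonoidHom ↔ g⁻¹ * x * g ∈ B := by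
    intro x
    rw [mem_map_equiv, MulAut.conj_symm_apply]
  have hT : ∀ x : G, x ∈ (S : Subgroup G) → g⁻¹ * x * g ∈ (T : Subgroup G) := by
    intro x hx
    rw [hmem, show g * (g⁻¹ * x * g) * g⁻¹ = x by group]
    exact hx
  let e := B.equivMapOfInjective (MulAut.conj g).toMonoidHom (MulAut.conj g).injective
  refine ⟨_, e.isCyclic.1 hc, ?_, ?_, ?_, ?_, ?_⟩
  · intro x hx
    have := (hmem _).1 (hle ((hB x).1 hx))
    rwa [show g * (g⁻¹ * x * g) * g⁻¹ = x by group] at this
  · obtain ⟨v, hv1, hv2⟩ := hv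
    refine ⟨g * v * g⁻¹, (hmem v).1 hv1, fun h => hv2 ?_⟩
    have := (hB _).1 h
    rwa [show g⁻¹ * (g * v * g⁻¹) * g = v by group] at this
  · intro s hs hsB
    have := hsq _ (hT s hs) fun h => hsB ((hB s).2 h)
    rw [show s * s = g * (g⁻¹ * s * g * (g⁻¹ * s * g)) * g⁻¹ by group, this]
    group
  · intro s hs hsB s' hs' hs'B
    have := hmul _ (hT s hs) (fun h => hsB ((hB s).2 h)) _ (hT s' hs') fun h => hs'B ((hB s').2 h)
    rw [hB, show g⁻¹ * (s * s') * g = g⁻¹ * s * g * (g⁻¹ * s' * g) by group]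
    exact this
  · rwa [← Nat.card_congr e.toEquiv]

theorem isSolvable_of_transfer {W : Type*} [Group W] [Finite W] (P : Sylow 2 W)
    (hP : normalizer ((P : Subgroup W) : Set W) ≤ centralizer ((P : Subgroup W) : Set W)) :
    Group.IsSolvable W := by
  haveI : Fact (Nat.Prime 2) := ⟨Nat.prime_two⟩
  haveI : Group.IsSolvable (MonoidHom.transferSylow P hP).ker := S0205.result (by
    rw [← Nat.not_even_iff_odd, even_iff_two_dvd]
    exact MonoidHom.not_dvd_card_ker_transferSylow _ _)
  haveI : Group.IsSolvable (P : Subgroup W) :=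
    Group.isSolvable_of_comm fun a b => Subtype.ext (mem_centralizer_iff.1 (hP (le_normalizer b.2)) a a.2)
  exact Group.isSolvable_of_ker_le_range (MonoidHom.transferSylow P hP).ker.subtype
    (MonoidHom.transferSylow P hP) (by rw [range_subtype])

theorem isSolvable_of_cyclic_sylow {W : Type*} [Group W] [Finite W] (P : Sylow 2 W)
    (hP : IsCyclic (P : Subgroup W)) : Group.IsSolvable W := by
  haveI : Fact (Nat.Prime 2) := ⟨Nat.prime_two⟩
  by_cases he : 2 ∣ Nat.card W
  · exact isSolvable_of_transfer P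
      (IsCyclic.normalizer_le_centralizer ((Nat.minFac_eq_two_iff _).2 he) hP)
  · exact S0205.result (by rw [← Nat.not_even_iff_odd, even_iff_two_dvd]; exact he)

/-- The number of conjugates bounds the index of the centraliser. -/
theorem index_centralizer_le (a : G) (s : Set G) (hs : ∀ g : G, g * a * g⁻¹ ∈ s) :
    (centralizer ({a} : Set G)).index ≤ s.ncard := by
  have hst : (MulAction.stabilizer (ConjAct G) a).map (ConjAct.ofConjAct (G := G)).toMonoidHom =
      centralizer ({a} : Set G) := by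
    ext g
    rw [mem_map_equiv, MulAction.mem_stabilizer_iff, ConjAct.smul_def, mem_centralizer_singleton_iff,
      mul_inv_eq_iff_eq_mul]
    rfl
  rw [← hst, show ((MulAction.stabilizer (ConjAct G) a).map
      (ConjAct.ofConjAct (G := G)).toMonoidHom).index = (MulAction.stabilizer (ConjAct G) a).index from
    index_map_equiv _ (ConjAct.ofConjAct (G := G)), MulAction.index_stabilizer]
  refine Set.ncard_le_ncard ?_
  rintro w ⟨g, rfl⟩
  change g • a ∈ s
  rw [ConjAct.smul_def]
  exact hs _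

theorem sq_one_of_cyclic {B : Subgroup G} (hc : IsCyclic B) {a i : G} (ha : a ∈ B) (hi : i ∈ B)
    (hio : orderOf i = 2) (h : a * a = 1) : a = 1 ∨ a = i := by
  haveI : Fact (Nat.Prime 2) := ⟨Nat.prime_two⟩
  refine or_iff_not_imp_left.2 fun h1 => ?_
  have hao : orderOf a = 2 := orderOf_eq_prime (by rw [pow_two, h]) h1
  exact eq_of_cyclic hc ha hi hao hio

/-- Dihedral Sylow subgroups and a central rotation involution force solvability. -/
theorem isSolvable_of_central (T : Sylow 2 G) {B : Subgroup G} (hc : IsCyclic B)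
    (hle : B ≤ (T : Subgroup G)) (hsq : ∀ s ∈ (T : Subgroup G), s ∉ B → s * s = 1)
    (hmul : ∀ s ∈ (T : Subgroup G), s ∉ B → ∀ s' ∈ (T : Subgroup G), s' ∉ B → s * s' ∈ B)
    {z : G} (hz : orderOf z = 2) (hzB : z ∈ B) (hzc : ∀ g : G, Commute z g) :
    Group.IsSolvable G := by
  haveI : Fact (Nat.Prime 2) := ⟨Nat.prime_two⟩
  have key : ∀ x ∈ commutator G, x ∈ (T : Subgroup G) → x ∈ B := by
    intro x hx hxT
    by_contra hxB
    have hidx : B.relIndex (T : Subgroup G) = 2 := by
      change (B.subgroupOf (T : Subgroup G)).index = 2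
      rw [index_eq_two_iff]
      refine ⟨⟨x, hxT⟩, fun b => ?_⟩
      simp only [mem_subgroupOf, Subgroup.coe_mul]
      by_cases hb : (b : G) ∈ B
      · refine Or.inr ⟨hb, fun h => hxB ?_⟩
        simpa using mul_mem (inv_mem hb) h
      · exact Or.inl ⟨hmul _ b.2 hb x hxT hxB, hb⟩
    have hxo : orderOf x = 2 := orderOf_eq_prime (by rw [pow_two, hsq x hxT hxB])
      fun h => hxB (h ▸ one_mem B)
    obtain ⟨M, hM, hMi, hxM⟩ := TransferThompson.thompson_transfer T B hle hidx hxo hxT fun g hg => hxB (by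
      have h := eq_of_cyclic hc hg hzB (by rw [← MulAut.conj_apply, MulEquiv.orderOf_eq, hxo]) hz
      have : x = g⁻¹ * z * g := by rw [← h]; group
      rw [this, mul_assoc, (hzc g).eq, inv_mul_cancel_left]
      exact hzB)
    refine hxM ((show commutator G ≤ M from ?_) hx)
    rw [commutator_eq_closure, closure_le]
    rintro _ ⟨a, b, rfl⟩
    simp only [SetLike.mem_coe, commutatorElement_def, mul_mem_iff_of_index_two hMi, inv_mem_iff]
    tauto
  haveI : Group.IsSolvable ↥(commutator G) := by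
    obtain ⟨R⟩ : Nonempty (Sylow 2 ↥(commutator G)) := inferInstance
    obtain ⟨P, hP⟩ := (R.isPGroup'.map (commutator G).subtype).exists_le_sylow
    obtain ⟨g, hg⟩ := MulAction.exists_smul_eq G P T
    have hmem : ∀ r : (R : Subgroup ↥(commutator G)),
        g * (((r : ↥(commutator G)) : G)) * g⁻¹ ∈ B := by
      intro r
      refine key _ ((inferInstance : (commutator G).Normal).conj_mem _ (r : ↥(commutator G)).2 g) ?_
      rw [← hg, Sylow.coe_subgroup_smul, ← MulAut.conj_apply]
      exact smul_mem_pointwise_smul _ _ _ (hP ⟨_, r.2, rfl⟩)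
    refine isSolvable_of_cyclic_sylow R ?_
    haveI := hc
    refine isCyclic_of_injective
      (((MulAut.conj g).toMonoidHom.comp ((commutator G).subtype.comp
        (R : Subgroup ↥(commutator G)).subtype)).codRestrict B fun r => hmem r) ?_
    intro a b hab
    exact Subtype.ext (Subtype.ext ((MulAut.conj g).injective (congrArg Subtype.val hab)))
  haveI : Group.IsSolvable (Abelianization G) := Group.isSolvable_of_comm fun a b => mul_comm a b
  exact Group.isSolvable_of_ker_le_range (commutator G).subtype Abelianization.of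
    (by rw [Abelianization.ker_of, range_subtype])

theorem qd_facts {T : Type*} [Group T] [Finite T] (hQ : Cfsg.IsQuasiDihedral T) {z : T}
    (hz : orderOf z = 2) (hzc : ∀ t : T, Commute z t) :
    ∃ B : Subgroup T, IsCyclic B ∧ B.index = 2 ∧ z ∈ B ∧ 8 ≤ Nat.card B ∧
      (∀ c : T, (∀ t : T, Commute c t) → c = 1 ∨ c = z) ∧
      (∀ s : T, s ∉ B → s * s = 1 ∨ s * s = z) ∧
      (∀ e : T, e ∉ B → ∃ x ∈ B, x * (e * x⁻¹ * e⁻¹) * (x * (e * x⁻¹ * e⁻¹)) ≠ 1) ∧
      ∃ y : T, y ∉ B := by
  obtain ⟨n, hn, hcard, x, y, hx, hy, hyx⟩ := hQ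
  obtain ⟨k, rfl⟩ : ∃ k, n = k + 3 := ⟨n - 3, by omega⟩
  simp only [show k + 3 - 1 = k + 2 by omega] at hyx
  have hyy : y * y = 1 := by rw [← pow_two, ← hy, pow_orderOf_eq_one]
  have hyi : y⁻¹ = y := inv_eq_of_mul_eq_one_right hyy
  have hp3 : 2 ^ (k + 3) = 2 * 2 ^ (k + 2) := by rw [pow_succ']
  have hp2 : 2 ^ (k + 2) = 4 * 2 ^ k := by rw [pow_add]; ring
  have hp0 : 1 ≤ 2 ^ k := Nat.one_le_two_pow
  obtain ⟨m, hm⟩ : ∃ m, 2 ^ (k + 2) - 1 = m := ⟨_, rfl⟩
  rw [hm] at hyx
  have hne : x ^ m ≠ x := by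
    intro h
    have h1 : x ^ m = x ^ 1 := by rw [h, pow_one]
    rw [pow_eq_pow_iff_modEq, hx, Nat.ModEq, Nat.mod_eq_of_lt (by omega), Nat.mod_eq_of_lt (by omega)] at h1
    omega
  have hyB : y ∉ zpowers x := by
    rintro ⟨i, hi⟩
    refine hne ?_
    rw [← hyx, ← hi]
    group
  have hidx : (zpowers x).index = 2 := by
    have h := (zpowers x).card_mul_index
    rw [Nat.card_zpowers, hx, hcard] at h
    have e : 2 ^ (k + 3 + 1) = 2 ^ (k + 3) * 2 := pow_succ _ _
    exact Nat.eq_of_mul_eq_mul_left (pow_pos (by norm_num) _) (h.trans e)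
  have out : ∀ e : T, e ∉ zpowers x → ∃ i : ℕ, e = x ^ i * y ∧ e * x⁻¹ * e⁻¹ = (x ^ m)⁻¹ := by
    intro e he
    have h0 : e * y ∈ zpowers x := (mul_mem_iff_of_index_two hidx).2 (iff_of_false he hyB)
    obtain ⟨i, hi : x ^ i = e * y⟩ := (isOfFinOrder_of_finite x).mem_powers_iff_mem_zpowers.2 h0
    have he' : e = x ^ i * y := by rw [hi, mul_assoc, hyy, mul_one]
    refine ⟨i, he', ?_⟩
    rw [he', show x ^ i * y * x⁻¹ * (x ^ i * y)⁻¹ = x ^ i * (y * x * y⁻¹)⁻¹ * (x ^ i)⁻¹ by group, hyx]
    group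
  have hd : ∀ e : T, e ∉ zpowers x → x * (e * x⁻¹ * e⁻¹) * (x * (e * x⁻¹ * e⁻¹)) ≠ 1 := by
    intro e he h
    obtain ⟨i, -, hi⟩ := out e he
    rw [hi] at h
    have h1 : x ^ (2 * m) = x ^ 2 := by
      have e1 : x * (x ^ m)⁻¹ * (x * (x ^ m)⁻¹) = x ^ 2 * (x ^ (2 * m))⁻¹ := by group
      rw [e1] at h
      exact (mul_inv_eq_one.1 h).symm
    rw [pow_eq_pow_iff_modEq, hx, Nat.ModEq, Nat.mod_eq_of_lt (show 2 < 2 ^ (k + 3) by omega),
      Nat.mod_eq_of_lt (show 2 * m < 2 ^ (k + 3) by omega)] at h1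
    omega
  have hzB : z ∈ zpowers x := by
    by_contra hcon
    refine hd z hcon ?_
    rw [(hzc x⁻¹).eq, mul_inv_cancel_right, mul_inv_cancel, one_mul]
  have hsq : ∀ c ∈ zpowers x, c * c = 1 → c = 1 ∨ c = z :=
    fun c hc h => sq_one_of_cyclic inferInstance hc hzB hz h
  refine ⟨zpowers x, inferInstance, hidx, hzB, ?_, ?_, ?_, ?_, y, hyB⟩
  · rw [Nat.card_zpowers, hx, pow_add]
    omega
  · intro c hc
    have hcB : c ∈ zpowers x := by
      by_contra hcon
      refine hd c hcon ?_
      rw [(hc x⁻¹).eq, mul_inv_cancel_right, mul_inv_cancel, one_mul]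
    refine hsq c hcB ?_
    obtain ⟨i, rfl : x ^ i = c⟩ := (isOfFinOrder_of_finite x).mem_powers_iff_mem_zpowers.2 hcB
    have h1 := map_pow (MulAut.conj y) x i
    rw [MulAut.conj_apply, MulAut.conj_apply, ← (hc y).eq, mul_inv_cancel_right, hyx, ← pow_mul,
      pow_eq_pow_iff_modEq, Nat.modEq_iff_dvd, hx] at h1
    rw [← pow_add, ← orderOf_dvd_iff_pow_eq_one, hx]
    have h2 : ((m : ℤ) - 1) * i = 2 * ((2 : ℤ) ^ (k + 1) - 1) * i := by
      have : (m : ℤ) + 1 = 2 ^ (k + 2) := by exact_mod_cast (show m + 1 = 2 ^ (k + 2) by omega)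
      rw [pow_succ'] at this
      rw [mul_sub (2 : ℤ), ← this]; ring
    have h3 : (2 : ℤ) ^ (k + 3) ∣ ((2 : ℤ) ^ (k + 1) - 1) * (i + i : ℕ) := by
      have : ((2 ^ (k + 3) : ℕ) : ℤ) ∣ ((m : ℤ) - 1) * i := by
        push_cast at h1 ⊢
        rw [show ((m : ℤ) - 1) * i = m * i - i by ring]
        exact h1
      push_cast at this ⊢
      rw [show ((2 : ℤ) ^ (k + 1) - 1) * (i + i) = 2 * ((2 : ℤ) ^ (k + 1) - 1) * i by ring, ← h2]
      exact this
    have h4 : IsCoprime ((2 : ℤ) ^ (k + 3)) ((2 : ℤ) ^ (k + 1) - 1) :=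
      IsCoprime.pow_left ⟨2 ^ k, -1, by ring⟩
    exact_mod_cast h4.dvd_of_dvd_mul_left h3
  · intro s hs
    obtain ⟨i, hi, -⟩ := out s hs
    have hcj : y * x ^ i * y = x ^ (m * i) := by
      have h1 := map_pow (MulAut.conj y) x i
      rw [MulAut.conj_apply, MulAut.conj_apply, hyx, hyi, ← pow_mul] at h1
      exact h1
    have hss : s * s = x ^ (i * 2 ^ (k + 2)) := by
      rw [show 2 ^ (k + 2) = m + 1 by omega, mul_add, mul_one, mul_comm i m, add_comm, pow_add, ← hcj, hi]
      group
    refine hsq _ (hss ▸ pow_mem (mem_zpowers x) _) ?_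
    rw [hss, ← pow_add, ← orderOf_dvd_iff_pow_eq_one, hx, hp3]
    exact ⟨i, by ring⟩
  · exact fun e he => ⟨x, mem_zpowers x, hd e he⟩

/-- Modulo the central involution of a quasidihedral configuration. -/
theorem quotient_facts (T : Sylow 2 G) (hQ : Cfsg.IsQuasiDihedral (T : Subgroup G)) {z : G}
    (hz : orderOf z = 2) (hzc : ∀ g : G, Commute z g) [(zpowers z).Normal]
    (hodd : ∀ N : Subgroup G, N.Normal → Odd (Nat.card N) → N = ⊥) (hns : ¬ Group.IsSolvable G) :
    NoSolv (G ⧸ zpowers z) ∧ SylowDihedral (G ⧸ zpowers z) := by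
  haveI : Fact (Nat.Prime 2) := ⟨Nat.prime_two⟩
  have hzz : z * z = 1 := by rw [← pow_two, ← hz, pow_orderOf_eq_one]
  have hZ : ∀ g : G, g ∈ zpowers z ↔ g = 1 ∨ g = z := by
    intro g
    refine ⟨fun h => sq_one_of_cyclic inferInstance h (mem_zpowers z) hz ?_, ?_⟩
    · obtain ⟨i, rfl⟩ := h
      show z ^ i * z ^ i = 1
      rw [← (Commute.refl z).mul_zpow, hzz, _root_.one_zpow]
    · rintro (rfl | rfl)
      · exact one_mem _
      · exact mem_zpowers _
  obtain ⟨q, hq⟩ : ∃ q : G →* G ⧸ zpowers z, q = QuotientGroup.mk' (zpowers z) := ⟨_, rfl⟩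
  have hqs : Function.Surjective q := hq ▸ QuotientGroup.mk'_surjective _
  have hqk : q.ker = zpowers z := by rw [hq, QuotientGroup.ker_mk']
  have hqeq : ∀ a b : G, q a = q b → b = a ∨ b = a * z := by
    intro a b h
    rw [hq] at h
    rcases (hZ _).1 (QuotientGroup.eq.1 h) with h' | h'
    · exact Or.inl (inv_mul_eq_one.1 h').symm
    · exact Or.inr (inv_mul_eq_iff_eq_mul.1 h')
  have hzT : z ∈ (T : Subgroup G) := by
    obtain ⟨P, hP⟩ := (IsPGroup.of_card (p := 2) (n := 1) (G := zpowers z)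
      (by rw [Nat.card_zpowers, hz, pow_one])).exists_le_sylow
    obtain ⟨g, hg⟩ := MulAction.exists_smul_eq G P T
    rw [← hg, Sylow.coe_subgroup_smul, show z = MulAut.conj g z by
      rw [MulAut.conj_apply, ← (hzc g).eq, mul_inv_cancel_right]]
    exact smul_mem_pointwise_smul _ _ _ (hP (mem_zpowers z))
  obtain ⟨B, hBc, hBi, hzB, hB8, hcen, hBsq, hBd, y, hy⟩ := qd_facts hQ (z := ⟨z, hzT⟩)
    (by rw [orderOf_mk, hz]) (fun t => Subtype.ext (hzc t))
  obtain ⟨B', hB'⟩ : ∃ B', B' = B.map (T : Subgroup G).subtype := ⟨_, rfl⟩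
  have hB'c : IsCyclic B' := hB' ▸ (B.equivMapOfInjective _ (Subgroup.subtype_injective _)).isCyclic.1 hBc
  have hmB : ∀ t : (T : Subgroup G), (t : G) ∈ B' ↔ t ∈ B := by
    intro t
    rw [hB']
    exact mem_map_iff_mem (Subgroup.subtype_injective _)
  have hB'le : B' ≤ (T : Subgroup G) := hB' ▸ map_subtype_le _
  have hBn : B.Normal := normal_of_index_eq_two hBi
  refine ⟨fun N hN hNs => ?_, ?_⟩
  · haveI := hN
    haveI := hNs
    by_contra hne
    obtain ⟨K, hK, hK1, hKc⟩ := exists_abelian_normal N hne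
    have hK2 : ¬ Odd (Nat.card K) := by
      intro ho
      haveI : (K.comap q).Normal := hK.comap q
      have hcardM : Nat.card (K.comap q) = 2 * Nat.card K := by
        have h1 := card_mul_index (K.comap q)
        rw [index_comap_of_surjective K hqs] at h1
        have h2 : Nat.card G = Nat.card (G ⧸ zpowers z) * 2 := by
          rw [card_eq_card_quotient_mul_card_subgroup (zpowers z), Nat.card_zpowers, hz]
        rw [h2, ← K.card_mul_index] at h1
        refine Nat.eq_of_mul_eq_mul_right (Nat.pos_of_ne_zero (index_ne_zero_of_finite (H := K))) (h1.trans ?_)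
        ring
      obtain ⟨P⟩ : Nonempty (Sylow 2 (K.comap q)) := inferInstance
      have hPc : Nat.card (P : Subgroup (K.comap q)) = 2 := by
        obtain ⟨k, hk⟩ := P.isPGroup'.exists_card_eq
        have hd := (P : Subgroup (K.comap q)).card_subgroup_dvd_card
        rw [hk, hcardM] at hd
        have hd' : 2 ^ k ∣ 2 := (Nat.Coprime.pow_left k (Nat.coprime_two_left.2 ho)).dvd_of_dvd_mul_right hd
        have h2 : 2 ∣ Nat.card (P : Subgroup (K.comap q)) :=
          P.dvd_card_of_dvd_card (hcardM ▸ dvd_mul_right 2 _)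
        have := Nat.le_of_dvd two_pos hd'
        have := Nat.le_of_dvd Nat.card_pos h2
        omega
      have he : 2 ∣ Nat.card (K.comap q) := hcardM ▸ dvd_mul_right 2 _
      have hc : IsCyclic (P : Subgroup (K.comap q)) := isCyclic_of_prime_card (p := 2) hPc
      have hp := (Nat.minFac_eq_two_iff _).2 he
      obtain ⟨L, hL⟩ : ∃ L, L = (MonoidHom.transferSylow P (IsCyclic.normalizer_le_centralizer hp hc)).ker :=
        ⟨_, rfl⟩
      have hcomp : L.IsComplement' P := hL ▸ IsCyclic.isComplement' hp hc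
      haveI : L.Normal := hL ▸ inferInstance
      have hLcore : L ≤ Cfsg.pPrimeCore 2 (K.comap q) := by
        refine HallCore.le_pPrimeCore ?_
        rw [Nat.coprime_comm, Nat.Prime.coprime_iff_not_dvd Nat.prime_two, hL]
        exact MonoidHom.not_dvd_card_ker_transferSylow _ _
      have hcore : Cfsg.pPrimeCore 2 (K.comap q) = ⊥ := by
        haveI := HallCore.pPrimeCore_characteristic 2 (K.comap q)
        have h := hodd ((Cfsg.pPrimeCore 2 (K.comap q)).map (K.comap q).subtype) inferInstance (by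
          rw [card_map_of_injective (K.comap q).subtype_injective]
          exact ZStarTheorem.odd_card_pPrimeCore)
        rwa [map_eq_bot_iff_of_injective _ (K.comap q).subtype_injective] at h
      have hLb : L = ⊥ := le_bot_iff.1 (hcore ▸ hLcore)
      have := hcomp.card_mul
      rw [hLb, card_bot, one_mul, hPc, hcardM] at this
      exact hK1 (eq_bot_of_card_eq _ (by omega))
    obtain ⟨E, hE⟩ : ∃ E : Subgroup (G ⧸ zpowers z), ∀ g, g ∈ E ↔ g ∈ K ∧ g * g = 1 := ⟨
      { carrier := {g | g ∈ K ∧ g * g = 1}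
        one_mem' := ⟨one_mem K, one_mul 1⟩
        mul_mem' := fun {a b} ha hb => ⟨mul_mem ha.1 hb.1, by
          rw [← pow_two, (show Commute a b from hKc a ha.1 b hb.1).mul_pow, pow_two, pow_two, ha.2, hb.2,
            one_mul]⟩
        inv_mem' := fun {a} ha => ⟨inv_mem ha.1, by rw [← mul_inv_rev, ha.2, inv_one]⟩ }, fun g => Iff.rfl⟩
    haveI hEn : E.Normal := ⟨fun e he g => (hE _).2 ⟨hK.conj_mem e ((hE e).1 he).1 g, by
      rw [show g * e * g⁻¹ * (g * e * g⁻¹) = g * (e * e) * g⁻¹ by group, ((hE e).1 he).2]; group⟩⟩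
    obtain ⟨R, hR⟩ : ∃ R, R = E.comap q := ⟨_, rfl⟩
    have hmR : ∀ g : G, g ∈ R ↔ q g ∈ E := fun g => by rw [hR, mem_comap]
    haveI hRn : R.Normal := hR ▸ hEn.comap q
    have hR2 : ∀ g ∈ R, g * g = 1 ∨ g * g = z := fun g hg => (hZ _).1 (by
      rw [← hqk, MonoidHom.mem_ker, map_mul]
      exact ((hE _).1 ((hmR g).1 hg)).2)
    have hRT : R ≤ (T : Subgroup G) := by
      have hp : IsPGroup 2 R := fun g => ⟨2, Subtype.ext (by
        show (g : G) ^ 2 ^ 2 = 1
        rw [show 2 ^ 2 = 2 * 2 from rfl, pow_mul, pow_two (g : G)]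
        rcases hR2 _ g.2 with h | h <;> simp [h, pow_two, hzz])⟩
      obtain ⟨P, hP⟩ := hp.exists_le_sylow
      obtain ⟨g, hg⟩ := MulAction.exists_smul_eq G P T
      intro r hr
      rw [← hg, Sylow.coe_subgroup_smul, show r = MulAut.conj g (g⁻¹ * r * g) by
        rw [MulAut.conj_apply]; group]
      refine smul_mem_pointwise_smul _ _ _ (hP ?_)
      simpa using hRn.conj_mem r hr g⁻¹
    obtain ⟨r, hrR, hrB, hrz⟩ : ∃ r, r ∈ R ∧ r ∈ B' ∧ r ∉ zpowers z := by
      obtain ⟨e, he, he1⟩ : ∃ e ∈ R, e ∉ zpowers z := by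
        rw [Nat.not_odd_iff_even, even_iff_two_dvd] at hK2
        obtain ⟨k, hk⟩ := exists_prime_orderOf_dvd_card' 2 hK2
        obtain ⟨e, he⟩ := hqs k
        refine ⟨e, (hmR e).2 ((hE _).2 ⟨he ▸ k.2, ?_⟩), fun h => ?_⟩
        · have h2 := pow_orderOf_eq_one k
          rw [hk, pow_two] at h2
          rw [he, ← Subgroup.coe_mul, h2, Subgroup.coe_one]
        · rw [← hqk, MonoidHom.mem_ker, he] at h
          rw [← orderOf_coe, h, orderOf_one] at hk
          omega
      by_cases heB : e ∈ B'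
      · exact ⟨e, he, heB, he1⟩
      obtain ⟨x, hxB, hx⟩ := hBd ⟨e, hRT he⟩ fun h => heB ((hmB _).2 h)
      refine ⟨((x * (⟨e, hRT he⟩ * x⁻¹ * (⟨e, hRT he⟩ : (T : Subgroup G))⁻¹) : (T : Subgroup G)) : G),
        ?_, (hmB _).2 (mul_mem hxB (hBn.conj_mem _ (inv_mem hxB) _)), fun h => hx (Subtype.ext ?_)⟩
      · show (x : G) * (e * (x : G)⁻¹ * e⁻¹) ∈ R
        rw [show (x : G) * (e * (x : G)⁻¹ * e⁻¹) = (x : G) * e * (x : G)⁻¹ * e⁻¹ by group]
        exact mul_mem (hRn.conj_mem e he x) (inv_mem he)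
      · rcases (hZ _).1 h with h' | h' <;> simp only [Subgroup.coe_mul, Subgroup.coe_one] at h' ⊢ <;>
          rw [h'] <;> first | exact one_mul 1 | exact hzz
    have hrr : r * r = z := (hR2 r hrR).resolve_left fun h => hrz ((hZ r).2
      (sq_one_of_cyclic hB'c hrB ((hmB ⟨z, hzT⟩).2 hzB) hz h))
    have hRB : ∀ b ∈ R, b ∈ B' → q b = 1 ∨ q b = q r := by
      intro b hb hbB
      have hzk : q z = 1 := by rw [← MonoidHom.mem_ker, hqk]; exact mem_zpowers z
      rcases hR2 b hb with h | h
      · rcases sq_one_of_cyclic hB'c hbB ((hmB ⟨z, hzT⟩).2 hzB) hz h with h' | h'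
        · exact Or.inl (by rw [h', map_one])
        · exact Or.inl (by rw [h', hzk])
      · have hcomm : Commute b r⁻¹ := by
          haveI := hB'c
          letI := IsCyclic.commGroup (α := B')
          exact congrArg Subtype.val (mul_comm (⟨b, hbB⟩ : B') ⟨r⁻¹, inv_mem hrB⟩)
        have h2 : b * r⁻¹ * (b * r⁻¹) = 1 := by
          rw [← pow_two, hcomm.mul_pow, pow_two, pow_two, h, ← mul_inv_rev, hrr, mul_inv_cancel]
        rcases sq_one_of_cyclic hB'c (mul_mem hbB (inv_mem hrB)) ((hmB ⟨z, hzT⟩).2 hzB) hz h2 with h' | h'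
        · exact Or.inr (by rw [mul_inv_eq_one.1 h'])
        · exact Or.inr (by rw [mul_inv_eq_iff_eq_mul.1 h', map_mul, hzk, one_mul])
    obtain ⟨f, hf⟩ : ∃ f, ∀ e ∈ R, q e = 1 ∨ q e = q r ∨ q e = q f ∨ q e = q r * q f := by
      by_cases hex : ∃ f ∈ R, f ∉ B'
      · obtain ⟨f, hfR, hfB⟩ := hex
        refine ⟨f, fun e he => ?_⟩
        by_cases heB : e ∈ B'
        · rcases hRB e he heB with h | h
          · exact Or.inl h
          · exact Or.inr (Or.inl h)
        · have hef : e * f ∈ B' := (hmB (⟨e, hRT he⟩ * ⟨f, hRT hfR⟩)).2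
            ((mul_mem_iff_of_index_two hBi).2 (iff_of_false (fun h => heB ((hmB ⟨e, hRT he⟩).2 h))
              (fun h => hfB ((hmB ⟨f, hRT hfR⟩).2 h))))
          have hff := ((hE _).1 ((hmR f).1 hfR)).2
          have hee : q e = q (e * f) * q f := by rw [map_mul, mul_assoc, hff, mul_one]
          rcases hRB _ (mul_mem he hfR) hef with h | h
          · exact Or.inr (Or.inr (Or.inl (by rw [hee, h, one_mul])))
          · exact Or.inr (Or.inr (Or.inr (by rw [hee, h])))
      · refine ⟨1, fun e he => ?_⟩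
        rcases hRB e he (by by_contra h; exact hex ⟨e, he, h⟩) with h | h
        · exact Or.inl h
        · exact Or.inr (Or.inl h)
    have hqr : q r ≠ 1 := fun h => hrz (hqk ▸ h)
    obtain ⟨S, hS⟩ : ∃ S, S = (centralizer ({q r} : Set (G ⧸ zpowers z))).comap q := ⟨_, rfl⟩
    have hSi : S.index ≤ 3 := by
      rw [hS, index_comap_of_surjective _ hqs]
      refine (index_centralizer_le (q r) {q r, q f, q r * q f} fun g => ?_).trans ?_
      · obtain ⟨g, rfl⟩ := hqs g
        have h := hf _ (hRn.conj_mem r hrR g)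
        rw [map_mul, map_mul, map_inv] at h
        rcases h with h | h | h | h
        · exact absurd (conj_eq_one_iff.1 h) hqr
        · exact Or.inl h
        · exact Or.inr (Or.inl h)
        · exact Or.inr (Or.inr h)
      · refine (Set.ncard_insert_le _ _).trans ?_
        have : ({q f, q r * q f} : Set (G ⧸ zpowers z)).ncard ≤ 2 :=
          (Set.ncard_insert_le _ _).trans (by rw [Set.ncard_singleton])
        omega
    haveI : Group.IsSolvable ↥S := by
      have hrS : r ∈ S := by
        rw [hS, mem_comap, mem_centralizer_singleton_iff]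
      have hzS : z ∈ S := by
        rw [hS, mem_comap, mem_centralizer_singleton_iff, ← map_mul, ← map_mul, (hzc r).eq]
      have hi : (centralizer ({⟨r, hrS⟩} : Set S)).index ≤ 3 := by
        refine (index_centralizer_le (⟨r, hrS⟩ : S) {⟨r, hrS⟩, ⟨r, hrS⟩ * ⟨z, hzS⟩} fun g => ?_).trans
          (le_trans (Set.ncard_insert_le _ _) (by rw [Set.ncard_singleton]; norm_num))
        have hg : q (g : G) * q r = q r * q (g : G) := by
          exact mem_centralizer_singleton_iff.1 (mem_comap.1 (hS.le g.2))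
        have h1 : q r = q ((g : G) * r * (g : G)⁻¹) := by
          rw [map_mul, map_mul, map_inv, hg, mul_inv_cancel_right]
        rcases hqeq _ _ h1 with h | h
        · exact Or.inl (Subtype.ext h)
        · exact Or.inr (Subtype.ext h)
      haveI : Group.IsSolvable ↥(centralizer ({r} : Set G)) := by
        have hBW : B' ≤ centralizer ({r} : Set G) := fun b hb => by
          haveI := hB'c
          letI := IsCyclic.commGroup (α := B')
          exact mem_centralizer_singleton_iff.2
            (congrArg Subtype.val (mul_comm (⟨b, hb⟩ : B') ⟨r, hrB⟩))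
        obtain ⟨P, hP⟩ := ((T.isPGroup'.to_le hB'le).comap_subtype :
          IsPGroup 2 (B'.subgroupOf (centralizer ({r} : Set G)))).exists_le_sylow
        obtain ⟨P', hP'⟩ : ∃ P', P' = (P : Subgroup _).map (centralizer ({r} : Set G)).subtype := ⟨_, rfl⟩
        have hP'p : IsPGroup 2 P' := hP' ▸ P.isPGroup'.map _
        obtain ⟨T', hT'⟩ := hP'p.exists_le_sylow
        have hTcard : Nat.card (T : Subgroup G) = 2 * Nat.card B' := by
          rw [hB', card_map_of_injective (Subgroup.subtype_injective _), ← B.card_mul_index, hBi, mul_comm]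
        have hlt : Nat.card P' < Nat.card (T : Subgroup G) := by
          have hT'c : Nat.card (T' : Subgroup G) = Nat.card (T : Subgroup G) :=
            Nat.card_congr (Sylow.equiv T' T).toEquiv
          refine lt_of_le_of_ne (hT'c ▸ card_le_of_le hT') fun h => hrz ?_
          have heq : P' = (T' : Subgroup G) := eq_of_le_of_card_ge hT' (by omega)
          obtain ⟨g, hg⟩ := MulAction.exists_smul_eq G T' T
          have hcomm : ∀ t : (T : Subgroup G), Commute (g * r * g⁻¹) (t : G) := by
            intro t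
            have h1 : g⁻¹ * t * g ∈ P' := by
              rw [heq]
              have hg' : g⁻¹ • T = T' := by rw [← hg, inv_smul_smul]
              rw [← hg', Sylow.coe_subgroup_smul, show g⁻¹ * (t : G) * g = MulAut.conj g⁻¹ (t : G) by simp]
              exact smul_mem_pointwise_smul _ _ _ t.2
            have h2 : Commute r (g⁻¹ * t * g) := by
              rw [hP'] at h1
              obtain ⟨w, -, hw⟩ := h1
              rw [← hw]
              exact (mem_centralizer_singleton_iff.1 w.2).symm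
            have h3 := h2.map (MulAut.conj g).toMonoidHom
            simp only [MulEquiv.coe_toMonoidHom, MulAut.conj_apply] at h3
            rwa [show g * (g⁻¹ * t * g) * g⁻¹ = (t : G) by group] at h3
          have hgr := hRT (hRn.conj_mem r hrR g)
          have hr' : g * r * g⁻¹ ∈ zpowers z := by
            rcases hcen ⟨_, hgr⟩ fun t => Subtype.ext (hcomm t) with h' | h'
            · rw [show g * r * g⁻¹ = 1 from congrArg Subtype.val h']; exact one_mem _
            · rw [show g * r * g⁻¹ = z from congrArg Subtype.val h']; exact mem_zpowers _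
          have := (inferInstance : (zpowers z).Normal).conj_mem _ hr' g⁻¹
          simpa [mul_assoc] using this
        have hPB : (P : Subgroup _) = B'.subgroupOf (centralizer ({r} : Set G)) := by
          refine (eq_of_le_of_card_ge hP ?_).symm
          show _ ≤ Nat.card ↥(B'.subgroupOf (centralizer ({r} : Set G)))
          rw [Nat.card_congr (subgroupOfEquivOfLe hBW).toEquiv]
          have h1 : Nat.card P' = Nat.card (P : Subgroup (centralizer ({r} : Set G))) := by
            rw [hP', card_map_of_injective (Subgroup.subtype_injective _)]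
          obtain ⟨a, ha⟩ := hP'p.exists_card_eq
          obtain ⟨b, hb⟩ := (T.isPGroup'.to_le hB'le).exists_card_eq
          rw [hTcard, ha, hb, ← pow_succ'] at hlt
          rw [← h1, ha, hb]
          exact Nat.pow_le_pow_right two_pos (Nat.lt_succ_iff.1 ((Nat.pow_lt_pow_iff_right one_lt_two).1 hlt))
        exact isSolvable_of_cyclic_sylow P (by
          rw [hPB]; exact (subgroupOfEquivOfLe hBW).symm.isCyclic.1 hB'c)
      haveI : Group.IsSolvable ↥(centralizer ({⟨r, hrS⟩} : Set S)) := by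
        refine Group.isSolvable_of_isSolvable_injective
          (f := ((S.subtype.comp (centralizer ({⟨r, hrS⟩} : Set S)).subtype).codRestrict
            (centralizer ({r} : Set G)) fun w => mem_centralizer_singleton_iff.2
              (congrArg Subtype.val (mem_centralizer_singleton_iff.1 w.2 :
                (w : S) * ⟨r, hrS⟩ = ⟨r, hrS⟩ * (w : S))))) ?_
        intro a b hab
        exact Subtype.ext (Subtype.ext (congrArg (fun x : centralizer ({r} : Set G) => (x : G)) hab))
      exact isSolvable_of_index_le hi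
    exact hns (isSolvable_of_index_le hSi)
  · have hB'2 : (B'.map q) ≠ ⊥ := by
      intro h
      rw [Subgroup.map_eq_bot_iff, hqk] at h
      have h1 := card_le_of_le h
      rw [Nat.card_zpowers, hz, hB', card_map_of_injective (Subgroup.subtype_injective _)] at h1
      omega
    haveI : IsCyclic B' := hB'c
    have hlift : ∀ t : G, t ∈ (T : Subgroup G) → q t ∈ B'.map q → t ∈ B' := by
      rintro t - ⟨b, hb, hbt⟩
      rcases hqeq _ _ hbt with h | h
      · rw [h]; exact hb
      · rw [h]; exact mul_mem hb ((hmB ⟨z, hzT⟩).2 hzB)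
    refine sylowDihedral_of_one (T := T.mapSurjective hqs) (B := B'.map q)
      (isCyclic_of_surjective (q.subgroupMap B') (q.subgroupMap_surjective B')) ?_ ?_ ?_ ?_
      ((one_lt_card_iff_ne_bot _).2 hB'2) <;> rw [Sylow.coe_mapSurjective]
    · exact map_mono hB'le
    · exact ⟨q y, ⟨y, y.2, rfl⟩, fun h => hy ((hmB y).1 (hlift y y.2 h))⟩
    · rintro _ ⟨t, ht, rfl⟩ htB
      have hzk : q z = 1 := by rw [← MonoidHom.mem_ker, hqk]; exact mem_zpowers z
      rcases hBsq ⟨t, ht⟩ fun h => htB ⟨t, (hmB ⟨t, ht⟩).2 h, rfl⟩ with h | h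
      · rw [← map_mul, show t * t = 1 from congrArg Subtype.val h, map_one]
      · rw [← map_mul, show t * t = z from congrArg Subtype.val h, hzk]
    · rintro _ ⟨t, ht, rfl⟩ htB _ ⟨t', ht', rfl⟩ htB'
      exact ⟨t * t', (hmB (⟨t, ht⟩ * ⟨t', ht'⟩)).2 ((mul_mem_iff_of_index_two hBi).2 (iff_of_false
        (fun h => htB ⟨t, (hmB ⟨t, ht⟩).2 h, rfl⟩) (fun h => htB' ⟨t', (hmB ⟨t', ht'⟩).2 h, rfl⟩))),
        map_mul q t t'⟩

/-- The two possible shapes, also allowing a four-group as the centraliser. -/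
theorem sylow_cases (j : G) (A : Subgroup G) (hj : orderOf j = 2) (hjA : j ∈ A)
    (hA : A ≤ Subgroup.centralizer ({j} : Set G))
    (hidx : A.relIndex (Subgroup.centralizer ({j} : Set G)) = 2)
    (hinv : ∀ x, Commute x j → x ∉ A → x * x = 1 ∧ ∀ a ∈ A, x * a * x⁻¹ = a⁻¹)
    (hone : ∀ a ∈ A, orderOf a = 2 → a = j)
    (hodd : ∀ N : Subgroup G, N.Normal → Odd (Nat.card N) → N = ⊥)
    (hns : ¬ Group.IsSolvable G) :
    (NoSolv G ∧ SylowDihedral G) ∨ ∃ (z : G) (_ : (Subgroup.zpowers z).Normal),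
      orderOf z = 2 ∧ z ∈ Subgroup.center G ∧ z ≠ j ∧
      Nat.card (Subgroup.centralizer ({j} : Set G)) = 4 ∧
      NoSolv (G ⧸ Subgroup.zpowers z) ∧ SylowDihedral (G ⧸ Subgroup.zpowers z) := by
  haveI : Fact (Nat.Prime 2) := ⟨Nat.prime_two⟩
  obtain ⟨C, hC⟩ : ∃ C, C = centralizer ({j} : Set G) := ⟨_, rfl⟩
  rw [← hC] at hA hidx
  have hmC : ∀ {g : G}, g ∈ C ↔ Commute g j := by
    intro g; rw [hC]; exact mem_centralizer_singleton_iff
  have hjj : j * j = 1 := by rw [← pow_two, ← hj, pow_orderOf_eq_one]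
  have hj1 : j ≠ 1 := fun h => by rw [h, orderOf_one] at hj; omega
  haveI : Nontrivial G := ⟨⟨j, 1, hj1⟩⟩
  have hAsq : ∀ a ∈ A, a * a = 1 → a = 1 ∨ a = j := fun a ha h =>
    or_iff_not_imp_left.2 fun h1 => hone a ha (orderOf_eq_prime (by rw [pow_two, h]) h1)
  have hout : ∀ {x y : G}, x ∈ C → x ∉ A → y ∈ C → y ∉ A → x * y ∈ A := by
    intro x y hx hxA hy hyA
    have h := (mul_mem_iff_of_index_two hidx (a := ⟨x, hx⟩) (b := ⟨y, hy⟩)).2
      (iff_of_false (by rwa [mem_subgroupOf]) (by rwa [mem_subgroupOf]))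
    rwa [mem_subgroupOf] at h
  obtain ⟨x₀, hx₀, hx₀A⟩ : ∃ x ∈ C, x ∉ A := by
    by_contra hcon
    push Not at hcon
    rw [relIndex_eq_one.2 (fun x hx => hcon x hx)] at hidx
    omega
  have hAab : ∀ a ∈ A, ∀ b ∈ A, a * b = b * a := by
    intro a ha b hb
    have h := (hinv x₀ (hmC.1 hx₀) hx₀A).2
    have e : x₀ * (a * b) * x₀⁻¹ = x₀ * a * x₀⁻¹ * (x₀ * b * x₀⁻¹) := by group
    rw [h _ (mul_mem ha hb), h a ha, h b hb, ← mul_inv_rev] at e
    exact inv_injective e
  haveI : Group.IsSolvable ↥C := by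
    haveI : (A.subgroupOf C).Normal := normal_of_index_eq_two hidx
    haveI : Group.IsSolvable ↥(A.subgroupOf C) :=
      Group.isSolvable_of_comm fun a b => Subtype.ext (Subtype.ext (hAab _ a.2 _ b.2))
    haveI : Group.IsSolvable (↥C ⧸ A.subgroupOf C) := by
      haveI : IsCyclic (↥C ⧸ A.subgroupOf C) :=
        isCyclic_of_prime_card (p := 2) (by rw [← Subgroup.index_eq_card]; exact hidx)
      exact Group.isSolvable_of_comm (commutative_of_cyclic_center_quotient (MonoidHom.id _) (by simp))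
    exact Group.isSolvable_of_ker_le_range (A.subgroupOf C).subtype (QuotientGroup.mk' (A.subgroupOf C))
      (by rw [QuotientGroup.ker_mk', range_subtype])
  have hjC : j ∈ C := hmC.2 (Commute.refl j)
  obtain ⟨P₀, hP₀⟩ := (IsPGroup.of_card (p := 2) (n := 1)
    (G := zpowers (⟨j, hjC⟩ : C)) (by rw [Nat.card_zpowers, orderOf_mk, hj, pow_one])).exists_le_sylow
  obtain ⟨T, hT⟩ := (P₀.isPGroup'.map C.subtype).exists_le_sylow
  have hTC : ∀ t : G, (ht : t ∈ C) → (t ∈ (T : Subgroup G) ↔ (⟨t, ht⟩ : C) ∈ (P₀ : Subgroup C)) := by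
    intro t ht
    constructor
    · intro h
      have hp : IsPGroup 2 ((T : Subgroup G).subgroupOf C) := T.isPGroup'.comap_subtype
      rw [← P₀.is_maximal' hp fun w hw => hT ⟨w, hw, rfl⟩]
      exact h
    · exact fun h => hT ⟨_, h, rfl⟩
  have hjT : j ∈ (T : Subgroup G) := (hTC j hjC).2 (hP₀ (mem_zpowers _))
  have branch : ∀ B : Subgroup G, IsCyclic B → B ≤ (T : Subgroup G) →
      (∃ v ∈ (T : Subgroup G), v ∉ B) → (∀ s ∈ (T : Subgroup G), s ∉ B → s * s = 1) →
      (∀ s ∈ (T : Subgroup G), s ∉ B → ∀ s' ∈ (T : Subgroup G), s' ∉ B → s * s' ∈ B) →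
      1 < Nat.card B → NoSolv G ∧ SylowDihedral G := by
    intro B hBc hBle hBv hBsq hBmul hBcard
    refine ⟨?_, sylowDihedral_of_one hBc hBle hBv hBsq hBmul hBcard⟩
    intro N hN hNs
    haveI := hN
    haveI := hNs
    by_contra hne
    obtain ⟨K, hK, hK1, hKc⟩ := exists_abelian_normal N hne
    obtain ⟨E, hE⟩ : ∃ E : Subgroup G, ∀ g, g ∈ E ↔ g ∈ K ∧ g * g = 1 := ⟨
      { carrier := {g | g ∈ K ∧ g * g = 1}
        one_mem' := ⟨one_mem K, one_mul 1⟩
        mul_mem' := fun {a b} ha hb => ⟨mul_mem ha.1 hb.1, by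
          rw [← pow_two, (show Commute a b from hKc a ha.1 b hb.1).mul_pow, pow_two, pow_two, ha.2, hb.2,
            one_mul]⟩
        inv_mem' := fun {a} ha => ⟨inv_mem ha.1, by rw [← mul_inv_rev, ha.2, inv_one]⟩ }, fun g => Iff.rfl⟩
    have hEn : ∀ g e : G, e ∈ E → g * e * g⁻¹ ∈ E := fun g e he =>
      (hE _).2 ⟨hK.conj_mem e ((hE e).1 he).1 g, by
        rw [show g * e * g⁻¹ * (g * e * g⁻¹) = g * (e * e) * g⁻¹ by group, ((hE e).1 he).2]; group⟩
    obtain ⟨e₀, he₀, he₁⟩ : ∃ e ∈ E, e ≠ 1 := by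
      have h2 : ¬ Odd (Nat.card K) := fun h => hK1 (hodd K hK h)
      rw [Nat.not_odd_iff_even, even_iff_two_dvd] at h2
      obtain ⟨e, he⟩ := exists_prime_orderOf_dvd_card' 2 h2
      refine ⟨e, (hE _).2 ⟨e.2, ?_⟩, fun h => ?_⟩
      · have := pow_orderOf_eq_one e
        rw [he, pow_two] at this
        exact congrArg Subtype.val this
      · rw [Subtype.ext (h.trans (Subgroup.coe_one K).symm) (a1 := e) (a2 := 1), orderOf_one] at he
        omega
    by_cases hjE : j ∈ E
    · have hEC : ∀ e ∈ E, e ∈ C := fun e he => hmC.2 (hKc e ((hE e).1 he).1 j ((hE j).1 hjE).1)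
      obtain ⟨f, hf⟩ : ∃ f : G, ∀ e ∈ E, e = 1 ∨ e = j ∨ e = f ∨ e = j * f := by
        by_cases hex : ∃ f ∈ E, f ∉ A
        · obtain ⟨f, hfE, hfA⟩ := hex
          refine ⟨f, fun e he => ?_⟩
          by_cases heA : e ∈ A
          · rcases hAsq e heA ((hE e).1 he).2 with h | h
            · exact Or.inl h
            · exact Or.inr (Or.inl h)
          · have hef := hout (hEC e he) heA (hEC f hfE) hfA
            have hff := ((hE f).1 hfE).2
            have hee : e = e * f * f := by rw [mul_assoc, hff, mul_one]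
            rcases hAsq _ hef ((hE _).1 (mul_mem he hfE)).2 with h | h
            · exact Or.inr (Or.inr (Or.inl (by rw [hee, h, one_mul])))
            · exact Or.inr (Or.inr (Or.inr (by rw [hee, h])))
        · refine ⟨1, fun e he => ?_⟩
          rcases hAsq e (by by_contra h; exact hex ⟨e, he, h⟩) ((hE e).1 he).2 with h | h
          · exact Or.inl h
          · exact Or.inr (Or.inl h)
      refine hns (isSolvable_of_index_le (C := C) ?_)
      obtain ⟨Q, hQ⟩ : ∃ Q, Q = MulAction.orbit (ConjAct G) j := ⟨_, rfl⟩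
      have hst : (MulAction.stabilizer (ConjAct G) j).map (ConjAct.ofConjAct (G := G)).toMonoidHom = C := by
        ext g
        rw [mem_map_equiv, MulAction.mem_stabilizer_iff, ConjAct.smul_def, hmC, mul_inv_eq_iff_eq_mul]
        rfl
      have hidxC : C.index = Q.ncard := by
        rw [← hst, hQ, ← MulAction.index_stabilizer,
          ← index_map_equiv (e := ConjAct.ofConjAct (G := G))]
        rfl
      have hsub : Q ⊆ {j, f, j * f} := by
        rw [hQ]
        rintro w ⟨g, rfl⟩
        change g • j ∈ _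
        rw [ConjAct.smul_def]
        rcases hf _ (hEn (ConjAct.ofConjAct g) j hjE) with h | h | h | h
        · exact absurd (conj_eq_one_iff.1 h) hj1
        · exact Or.inl h
        · exact Or.inr (Or.inl h)
        · exact Or.inr (Or.inr h)
      rw [hidxC]
      refine (Set.ncard_le_ncard hsub).trans ?_
      refine (Set.ncard_insert_le _ _).trans ?_
      have : ({f, j * f} : Set G).ncard ≤ 2 := (Set.ncard_insert_le _ _).trans (by rw [Set.ncard_singleton])
      omega
    · obtain ⟨z, hz, hzj, hz1⟩ : ∃ z ∈ E, Commute z j ∧ z ≠ 1 := by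
        have hji : j⁻¹ = j := inv_eq_of_mul_eq_one_right hjj
        have hcc := hEn j e₀ he₀
        by_cases h : e₀ * (j * e₀ * j⁻¹) = 1
        · refine ⟨e₀, he₀, ?_, he₁⟩
          have h2 : j * e₀ * j⁻¹ = e₀ := mul_left_cancel (h.trans ((hE e₀).1 he₀).2.symm)
          exact ((mul_inv_eq_iff_eq_mul.1 h2).symm)
        · refine ⟨_, mul_mem he₀ hcc, ?_, h⟩
          have hc := hKc e₀ ((hE _).1 he₀).1 _ ((hE _).1 hcc).1
          rw [commute_iff_eq]
          calc e₀ * (j * e₀ * j⁻¹) * j = j * e₀ * j⁻¹ * e₀ * j := by rw [hc]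
            _ = j * (e₀ * (j * e₀ * j⁻¹)) := by rw [hji]; group
      have hzA : ∀ w ∈ E, Commute w j → w ≠ 1 → w ∉ A := by
        intro w hw _ hw1 hwA
        rcases hAsq w hwA ((hE w).1 hw).2 with h | h
        · exact hw1 h
        · exact hjE (h ▸ hw)
      haveI : E.Normal := ⟨fun e he g => hEn g e he⟩
      have hET : E ≤ (T : Subgroup G) := by
        have hp : IsPGroup 2 E := fun e => ⟨1, Subtype.ext (by
          show (e : G) ^ 2 ^ 1 = 1
          rw [pow_one, pow_two]; exact ((hE _).1 e.2).2)⟩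
        obtain ⟨P, hP⟩ := hp.exists_le_sylow
        obtain ⟨g, hg⟩ := MulAction.exists_smul_eq G P T
        intro r hr
        rw [← hg, Sylow.coe_subgroup_smul, show r = MulAut.conj g (g⁻¹ * r * g) by
          rw [MulAut.conj_apply]; group]
        refine smul_mem_pointwise_smul _ _ _ (hP ?_)
        simpa using hEn g⁻¹ r hr
      by_cases hex : ∃ e ∈ E, e ∉ B
      · obtain ⟨e, heE, heB⟩ := hex
        obtain ⟨i, hi⟩ : ∃ i ∈ B, orderOf i = 2 := by
          obtain ⟨k, hk⟩ := (T.isPGroup'.to_le hBle).exists_card_eq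
          obtain ⟨i, hi⟩ := exists_prime_orderOf_dvd_card' (G := B) 2
            (hk ▸ dvd_pow_self 2 (by rintro rfl; simp [hk] at hBcard))
          exact ⟨i, i.2, by rw [orderOf_coe, hi]⟩
        have hee : e * e = 1 := ((hE e).1 heE).2
        have hcT : ∀ c ∈ (T : Subgroup G), Commute c e → c = 1 ∨ c = i ∨ c = e ∨ c = i * e := by
          have key : ∀ c ∈ B, Commute c e → c = 1 ∨ c = i := by
            intro c hc hce
            refine sq_one_of_cyclic hBc hc hi.1 hi.2 ?_
            have h := hBsq _ (mul_mem (hBle hc) (hET heE)) fun h => heB (by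
              simpa using mul_mem (inv_mem hc) h)
            rwa [← pow_two, hce.mul_pow, pow_two, pow_two, hee, mul_one] at h
          intro c hcT hce
          by_cases hcB : c ∈ B
          · rcases key c hcB hce with h | h
            · exact Or.inl h
            · exact Or.inr (Or.inl h)
          · have hc' : c = c * e * e := by rw [mul_assoc, hee, mul_one]
            rcases key _ (hBmul c hcT hcB e (hET heE) heB) (hce.mul_left (Commute.refl e)) with h | h
            · exact Or.inr (Or.inr (Or.inl (by rw [hc', h, one_mul])))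
            · exact Or.inr (Or.inr (Or.inr (by rw [hc', h])))
        have hsub : ∀ w ∈ E, w = 1 ∨ w = i ∨ w = e ∨ w = i * e := fun w hw =>
          hcT w (hET hw) (hKc w ((hE w).1 hw).1 e ((hE e).1 heE).1)
        by_cases hiE : i ∈ E
        · -- a normal four group
          obtain ⟨W, hW⟩ : ∃ W, W = centralizer (E : Set G) := ⟨_, rfl⟩
          haveI hWn : W.Normal := hW ▸ inferInstance
          haveI : Group.IsSolvable ↥W := by
            obtain ⟨P⟩ : Nonempty (Sylow 2 W) := inferInstance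
            obtain ⟨P', hP'⟩ := (P.isPGroup'.map W.subtype).exists_le_sylow
            obtain ⟨g, hg⟩ := MulAction.exists_smul_eq G P' T
            refine isSolvable_of_transfer P (le_trans ?_ (le_refl _))
            intro w _
            rw [mem_centralizer_iff]
            intro p hp
            have h1 : g * (p : G) * g⁻¹ ∈ (T : Subgroup G) := by
              rw [← hg, Sylow.coe_subgroup_smul, ← MulAut.conj_apply]
              exact smul_mem_pointwise_smul _ _ _ (hP' ⟨p, hp, rfl⟩)
            have h2 : Commute (g * (p : G) * g⁻¹) e := by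
              exact (mem_centralizer_iff.1 (hW.le (hWn.conj_mem _ p.2 g)) e heE).symm
            have h3 : g * (p : G) * g⁻¹ ∈ E := by
              rcases hcT _ h1 h2 with h | h | h | h <;> rw [h]
              · exact one_mem E
              · exact hiE
              · exact heE
              · exact mul_mem hiE heE
            have h4 : (p : G) ∈ E := by
              have := hEn g⁻¹ _ h3
              simpa [mul_assoc] using this
            exact Subtype.ext (mem_centralizer_iff.1 (hW.le w.2) _ h4)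
          have he1' : e ≠ 1 := fun h => heB (h ▸ one_mem B)
          haveI : Group.IsSolvable ↥(centralizer ({e} : Set G)) := by
            have hiC : i ∈ centralizer ({e} : Set G) :=
              mem_centralizer_singleton_iff.2 (hKc i ((hE i).1 hiE).1 e ((hE e).1 heE).1)
            obtain ⟨W', hW'⟩ : ∃ W', W' = centralizer ({⟨i, hiC⟩} : Set (centralizer ({e} : Set G))) :=
              ⟨_, rfl⟩
            have hW'i : W'.index ≤ 3 := by
              rw [hW']
              have hieC : i * e ∈ centralizer ({e} : Set G) :=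
                mul_mem hiC (mem_centralizer_singleton_iff.2 rfl)
              refine (index_centralizer_le _ {⟨i, hiC⟩, ⟨i * e, hieC⟩} fun g => ?_).trans
                (le_trans (Set.ncard_insert_le _ _) (by rw [Set.ncard_singleton]; norm_num))
              have hg : (g : G) * e = e * g := mem_centralizer_singleton_iff.1 g.2
              rcases hsub _ (hEn g i hiE) with h | h | h | h
              · exact absurd (conj_eq_one_iff.1 h) (fun h' => by
                  have := hi.2; rw [h', orderOf_one] at this; omega)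
              · exact Or.inl (Subtype.ext h)
              · refine absurd ?_ heB
                have h' : (g : G) * i = g * e := (mul_inv_eq_iff_eq_mul.1 h).trans hg.symm
                rw [← mul_left_cancel h']; exact hi.1
              · exact Or.inr (Subtype.ext h)
            haveI : Group.IsSolvable ↥W' := by
              refine Group.isSolvable_of_isSolvable_injective
                (f := (((centralizer ({e} : Set G)).subtype.comp W'.subtype).codRestrict W fun w => ?_)) ?_
              · rw [hW, mem_centralizer_iff]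
                intro u hu
                have h1 : Commute ((w : centralizer ({e} : Set G)) : G) e :=
                  mem_centralizer_singleton_iff.1 (w : centralizer ({e} : Set G)).2
                have h2 : Commute ((w : centralizer ({e} : Set G)) : G) i := by
                  have h := w.2
                  simp only [hW', mem_centralizer_singleton_iff] at h
                  exact congrArg Subtype.val h
                rcases hsub u hu with h | h | h | h <;> rw [h]
                · exact (Commute.one_right _).eq.symm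
                · exact h2.eq.symm
                · exact h1.eq.symm
                · exact (h2.mul_right h1).eq.symm
              · intro a b hab
                exact Subtype.ext (Subtype.ext (congrArg (fun x : W => (x : G)) hab))
            exact isSolvable_of_index_le hW'i
          refine hns (isSolvable_of_index_le (C := centralizer ({e} : Set G))
            ((index_centralizer_le e {i, e, i * e} fun g => ?_).trans ?_))
          · rcases hsub _ (hEn g e heE) with h | h | h | h
            · exact absurd (conj_eq_one_iff.1 h) he1'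
            · exact Or.inl h
            · exact Or.inr (Or.inl h)
            · exact Or.inr (Or.inr h)
          · refine (Set.ncard_insert_le _ _).trans ?_
            have : ({e, i * e} : Set G).ncard ≤ 2 :=
              (Set.ncard_insert_le _ _).trans (by rw [Set.ncard_singleton])
            omega
        · -- `e` is central
          have hone' : ∀ w ∈ E, w = 1 ∨ w = e := by
            intro w hw
            rcases hsub w hw with h | h | h | h
            · exact Or.inl h
            · exact absurd (h ▸ hw) hiE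
            · exact Or.inr h
            · exact absurd (by simpa using mul_mem (h ▸ hw : i * e ∈ E) (inv_mem heE)) hiE
          have hez : ∀ g : G, Commute g e := by
            intro g
            rcases hone' _ (hEn g e heE) with h | h
            · exact absurd (conj_eq_one_iff.1 h) (fun h' => heB (h' ▸ one_mem B))
            · exact mul_inv_eq_iff_eq_mul.1 h
          have hTi : ∀ t ∈ (T : Subgroup G), t = 1 ∨ t = i ∨ t = e ∨ t = i * e :=
            fun t ht => hcT t ht (hez t)
          have heo : orderOf e = 2 :=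
            orderOf_eq_prime (by rw [pow_two, hee]) fun h => heB (h ▸ one_mem B)
          have hii : i * i = 1 := by rw [← pow_two, ← hi.2, pow_orderOf_eq_one]
          have hze : ∀ t ∈ (T : Subgroup G), t ∉ zpowers e → t = i ∨ t = i * e := by
            intro t ht hte
            rcases hTi t ht with h | h | h | h
            · exact absurd (h ▸ one_mem _) hte
            · exact Or.inl h
            · exact absurd (h ▸ mem_zpowers e) hte
            · exact Or.inr h
          refine hns (isSolvable_of_central T (B := zpowers e) inferInstance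
            (zpowers_le.2 (hET heE)) ?_ ?_ heo (mem_zpowers e) fun g => (hez g).symm)
          · intro t ht hte
            rcases hze t ht hte with h | h <;> rw [h]
            · exact hii
            · rw [← pow_two, (hez i).mul_pow, pow_two, pow_two, hii, hee, one_mul]
          · intro t ht hte t' ht' hte'
            rcases hze t ht hte with h | h <;> rcases hze t' ht' hte' with h' | h' <;> rw [h, h']
            · rw [hii]; exact one_mem _
            · rw [← mul_assoc, hii, one_mul]; exact mem_zpowers _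
            · rw [mul_assoc, ← (hez i).eq, ← mul_assoc, hii, one_mul]; exact mem_zpowers _
            · rw [← pow_two, (hez i).mul_pow, pow_two, pow_two, hii, hee, one_mul]; exact one_mem _
      · push Not at hex
        have hzo : orderOf z = 2 := orderOf_eq_prime (by rw [pow_two, ((hE z).1 hz).2]) hz1
        refine hns (isSolvable_of_central T hBc hBle hBsq hBmul hzo (hex z hz) fun g => ?_)
        have hwE := hEn g z hz
        rcases sq_one_of_cyclic hBc (hex _ hwE) (hex z hz) hzo ((hE _).1 hwE).2 with h | h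
        · exact absurd (conj_eq_one_iff.1 h) hz1
        · exact (show Commute g z from mul_inv_eq_iff_eq_mul.1 h).symm
  by_cases hle : (T : Subgroup G) ≤ C
  · left
    have hcyc : IsCyclic (A ⊓ (T : Subgroup G) : Subgroup G) := by
      have hc := PGroupsCyclic.isCyclic_subgroup T.isPGroup' (H := A.subgroupOf (T : Subgroup G))
        ⟨⟨fun a b => Subtype.ext (Subtype.ext (hAab _ a.2 _ b.2))⟩⟩ (z := ⟨j, hjT⟩) hjA
        (fun g hg hg2 => ?_) (by rw [orderOf_mk, hj])
      · rw [← subgroupOf_map_subtype]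
        exact ((A.subgroupOf (T : Subgroup G)).equivMapOfInjective _ (Subgroup.subtype_injective _)).isCyclic.1 hc
      · rcases hAsq _ hg (by rw [← pow_two]; exact congrArg Subtype.val hg2) with h | h
        · rw [show g = 1 from Subtype.ext h]; exact one_mem _
        · rw [show g = ⟨j, hjT⟩ from Subtype.ext h]; exact mem_zpowers _
    refine branch _ hcyc inf_le_right ?_ ?_ ?_ ?_
    · by_contra hcon
      push Not at hcon
      have hTA : (T : Subgroup G) ≤ A := fun t ht => (hcon t ht).1
      refine T.not_dvd_index ((dvd_trans ?_ (index_dvd_of_le hTA)))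
      rw [← relIndex_mul_index hA, hidx]
      exact dvd_mul_right _ _
    · exact fun s hs' hsB => (hinv s (hmC.1 (hle hs')) fun h => hsB ⟨h, hs'⟩).1
    · exact fun s h1 h2 s' h1' h2' => ⟨hout (hle h1) (fun h => h2 ⟨h, h1⟩) (hle h1')
        (fun h => h2' ⟨h, h1'⟩), mul_mem h1 h1'⟩
    · rw [one_lt_card_iff_ne_bot]
      exact fun h => hj1 (mem_bot.1 (h ▸ (⟨hjA, hjT⟩ : j ∈ A ⊓ (T : Subgroup G))))
  · obtain ⟨t₀, ht₀, ht₀C⟩ := SetLike.not_le_iff_exists.1 hle
    obtain ⟨n, hnT, hnN, hnC⟩ : ∃ n : G, n ∈ (T : Subgroup G) ∧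
        (∀ p : G, p ∈ (T : Subgroup G) → (p ∈ C ↔ n * p * n⁻¹ ∈ C)) ∧ n ∉ C := by
      haveI := T.isPGroup'.isNilpotent
      have hlt : C.subgroupOf (T : Subgroup G) < ⊤ :=
        lt_top_iff_ne_top.2 fun h => ht₀C ((subgroupOf_eq_top.1 h) ht₀)
      obtain ⟨n, hn1, hn2⟩ := SetLike.exists_of_lt (Group.normalizerCondition_of_isNilpotent _ hlt)
      exact ⟨n, n.2, fun p hp => (mem_normalizer_iff.1 hn1 ⟨p, hp⟩), hn2⟩
    obtain ⟨j', hj'⟩ : ∃ j', j' = n * j * n⁻¹ := ⟨_, rfl⟩
    have hj'C : j' ∈ C := hj' ▸ (hnN j hjT).1 hjC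
    have hj'T : j' ∈ (T : Subgroup G) := hj' ▸ mul_mem (mul_mem hnT hjT) (inv_mem hnT)
    have hj'o : orderOf j' = 2 := by rw [hj', ← MulAut.conj_apply, MulEquiv.orderOf_eq, hj]
    have hj'j : j' ≠ j := fun h => hnC (hmC.2 (by
      rw [hj'] at h
      exact mul_inv_eq_iff_eq_mul.1 h))
    have hj'A : j' ∉ A := fun h => hj'j (hone _ h hj'o)
    have hj'2 : j' * j' = 1 := by rw [← pow_two, ← hj'o, pow_orderOf_eq_one]
    -- the part of `T` in the centraliser is a four group
    have hPA : ∀ a ∈ A, a ∈ (T : Subgroup G) → a = 1 ∨ a = j := by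
      intro a ha haT
      refine hAsq a ha (mul_eq_one_iff_eq_inv.2 ?_)
      have hb : n⁻¹ * a * n ∈ C := by
        refine (hnN _ (mul_mem (mul_mem (inv_mem hnT) haT) hnT)).2 ?_
        rw [show n * (n⁻¹ * a * n) * n⁻¹ = a by group]
        exact hA ha
      have hc : Commute a j' := by
        calc a * j' = n * (n⁻¹ * a * n * j) * n⁻¹ := by rw [hj']; group
          _ = n * (j * (n⁻¹ * a * n)) * n⁻¹ := by rw [(hmC.1 hb).eq]
          _ = j' * a := by rw [hj']; group
      have h1 := (hinv j' (hmC.1 hj'C) hj'A).2 a ha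
      rwa [← hc.eq, mul_inv_cancel_right] at h1
    have hset : ∀ t : G, t ∈ (T : Subgroup G) ∧ t ∈ C ↔ t ∈ ({1, j, j', j * j'} : Set G) := by
      intro t
      constructor
      · rintro ⟨htT, htC⟩
        by_cases htA : t ∈ A
        · rcases hPA t htA htT with h | h
          · exact Or.inl h
          · exact Or.inr (Or.inl h)
        · have ht' : t = t * j' * j' := by rw [mul_assoc, hj'2, mul_one]
          rcases hPA _ (hout htC htA hj'C hj'A) (mul_mem htT hj'T) with h | h
          · exact Or.inr (Or.inr (Or.inl (by rw [ht', h, one_mul])))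
          · exact Or.inr (Or.inr (Or.inr (show t = j * j' by rw [ht', h])))
      · rintro (rfl | rfl | rfl | rfl)
        · exact ⟨one_mem _, one_mem _⟩
        · exact ⟨hjT, hjC⟩
        · exact ⟨hj'T, hj'C⟩
        · exact ⟨mul_mem hjT hj'T, mul_mem hjC hj'C⟩
    have hcard4 : Nat.card (centralizer ({⟨j, hjT⟩} : Set (T : Subgroup G))) = 4 := by
      have h : (Subtype.val '' ((centralizer ({⟨j, hjT⟩} : Set (T : Subgroup G))) : Set (T : Subgroup G))) =
          ({1, j, j', j * j'} : Set G) := by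
        ext t
        rw [← hset]
        constructor
        · rintro ⟨w, hw, rfl⟩
          exact ⟨w.2, hmC.2 (congrArg Subtype.val (mem_centralizer_singleton_iff.1 hw))⟩
        · rintro ⟨h1, h2⟩
          exact ⟨⟨t, h1⟩, mem_centralizer_singleton_iff.2 (Subtype.ext (hmC.1 h2).eq), rfl⟩
      show Nat.card ((centralizer ({⟨j, hjT⟩} : Set (T : Subgroup G))) : Set (T : Subgroup G)) = 4
      rw [← Nat.card_image_of_injective Subtype.val_injective, h, Nat.card_coe_set_eq,
        Set.ncard_insert_of_notMem, Set.ncard_insert_of_notMem, Set.ncard_pair]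
      · exact fun h => hj1 (mul_right_cancel (h.symm.trans (one_mul j').symm))
      · rintro (h | h)
        · exact hj'j h.symm
        · exact hj'A (by
            have h' : j * j' = j * 1 := by rw [mul_one]; exact h.symm
            rw [mul_left_cancel h']; exact one_mem A)
      · rintro (h | h | h)
        · exact hj1 h.symm
        · rw [← h, orderOf_one] at hj'o; omega
        · exact hj'j (by rw [eq_inv_of_mul_eq_one_right h.symm, inv_eq_of_mul_eq_one_right hjj])
    have hne4 : Nat.card (T : Subgroup G) ≠ 4 := by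
      intro h4
      have h := eq_top_of_card_eq _ (hcard4.trans h4.symm)
      have := h ▸ mem_top (⟨t₀, ht₀⟩ : (T : Subgroup G))
      exact ht₀C (hmC.2 (congrArg Subtype.val (mem_centralizer_singleton_iff.1 this)))
    have hjT2 : orderOf (⟨j, hjT⟩ : (T : Subgroup G)) = 2 := by rw [orderOf_mk, hj]
    rcases S3224.result T.isPGroup' _ hjT2 hcard4 with ⟨m, ⟨e⟩⟩ | hQ | h4
    · have hcardT : Nat.card (T : Subgroup G) = 2 * m := by
        rw [Nat.card_congr e.toEquiv, DihedralGroup.nat_card]
      have h4le : 4 ∣ Nat.card (T : Subgroup G) := hcard4 ▸ card_subgroup_dvd_card _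
      have hm : 2 ≤ m := by
        have := Nat.le_of_dvd Nat.card_pos h4le
        omega
      obtain ⟨b, hb⟩ : ∃ b : (T : Subgroup G), b = e.symm (DihedralGroup.r 1) := ⟨_, rfl⟩
      have hr : ∀ t : (T : Subgroup G), (t : G) ∈ zpowers (b : G) ↔ ∃ i, e t = DihedralGroup.r i := by
        intro t
        constructor
        · rintro ⟨i, hi⟩
          refine ⟨i, ?_⟩
          simp only [← Subgroup.coe_zpow] at hi
          rw [← Subtype.ext hi, map_zpow, hb, e.apply_symm_apply, DihedralGroup.r_one_zpow]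
        · rintro ⟨i, hi⟩
          refine ⟨(i.cast : ℤ), ?_⟩
          show (b : G) ^ (i.cast : ℤ) = t
          rw [← Subgroup.coe_zpow]
          refine congrArg Subtype.val (e.injective ?_)
          rw [map_zpow, hb, e.apply_symm_apply, DihedralGroup.r_one_zpow, hi, ZMod.intCast_zmod_cast]
      have hsr : ∀ t : (T : Subgroup G), (t : G) ∉ zpowers (b : G) → ∃ i, e t = DihedralGroup.sr i := by
        intro t ht
        cases hd : e t with
        | r i => exact absurd ((hr t).2 ⟨i, hd⟩) ht
        | sr i => exact ⟨i, rfl⟩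
      left
      refine branch (zpowers (b : G)) inferInstance (zpowers_le.2 b.2) ?_ ?_ ?_ ?_
      · refine ⟨(e.symm (DihedralGroup.sr 0) : (T : Subgroup G)), SetLike.coe_mem _, fun h => ?_⟩
        obtain ⟨i, hi⟩ := (hr _).1 h
        rw [e.apply_symm_apply] at hi
        exact absurd hi (by simp)
      · intro s hs' hsB
        obtain ⟨i, hi⟩ := hsr ⟨s, hs'⟩ hsB
        have : (⟨s, hs'⟩ : (T : Subgroup G)) * ⟨s, hs'⟩ = 1 := e.injective (by
          rw [map_mul, map_one, hi, DihedralGroup.sr_mul_self])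
        exact congrArg Subtype.val this
      · intro s h1 h2 s' h1' h2'
        obtain ⟨i, hi⟩ := hsr ⟨s, h1⟩ h2
        obtain ⟨i', hi'⟩ := hsr ⟨s', h1'⟩ h2'
        exact (hr (⟨s, h1⟩ * ⟨s', h1'⟩)).2 ⟨i' - i, by rw [map_mul, hi, hi', DihedralGroup.sr_mul_sr]⟩
      · rw [Nat.card_zpowers, orderOf_coe, hb, MulEquiv.orderOf_eq, DihedralGroup.orderOf_r_one]
        omega
    · right
      haveI : Nontrivial (T : Subgroup G) := ⟨⟨⟨j, hjT⟩, 1, fun h => hj1 (congrArg Subtype.val h)⟩⟩
      have hZ := T.isPGroup'.center_nontrivial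
      obtain ⟨z, hz⟩ := exists_prime_orderOf_dvd_card' (G := center (T : Subgroup G)) 2 (by
        obtain ⟨k, hk⟩ := (T.isPGroup'.to_subgroup (center (T : Subgroup G))).exists_card_eq
        have := Finite.one_lt_card (α := center (T : Subgroup G))
        rw [hk] at this ⊢
        exact dvd_pow_self 2 (by rintro rfl; omega))
      have hzc : ∀ t : (T : Subgroup G), Commute (z : (T : Subgroup G)) t :=
        fun t => (mem_center_iff.1 z.2 t).symm
      have hzo : orderOf ((z : (T : Subgroup G)) : G) = 2 := by rw [orderOf_coe, orderOf_coe, hz]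
      by_cases hiso : Cfsg.IsIsolatedInvolution ((z : (T : Subgroup G)) : G)
      · have hzc' := ZStarTheorem.mem_center_of_isolated hiso
          (hodd _ (HallCore.pPrimeCore_normal 2 G) ZStarTheorem.odd_card_pPrimeCore)
        have hcg : ∀ g : G, Commute ((z : (T : Subgroup G)) : G) g := fun g =>
          (mem_center_iff.1 hzc' g).symm
        haveI hZn : (zpowers ((z : (T : Subgroup G)) : G)).Normal := ⟨fun w hw g => by
          obtain ⟨k, rfl⟩ := hw
          show g * ((z : (T : Subgroup G)) : G) ^ k * g⁻¹ ∈ _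
          rw [← ((hcg g).zpow_left k).eq, mul_inv_cancel_right]
          exact zpow_mem (mem_zpowers _) k⟩
        have hzj : ((z : (T : Subgroup G)) : G) ≠ j := fun h =>
          ht₀C (hmC.2 (h ▸ (hcg t₀).symm))
        refine ⟨_, hZn, hzo, hzc', hzj, ?_, quotient_facts T hQ hzo hcg hodd hns⟩
        -- all rotations square to one
        have hzA : ((z : (T : Subgroup G)) : G) ∉ A := fun h => hzj (hone _ h hzo)
        have hA2 : ∀ a ∈ A, a = 1 ∨ a = j := fun a ha => hAsq a ha (by
          have h1 := (hinv _ (hcg j) hzA).2 a ha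
          rw [(hcg a).eq, mul_inv_cancel_right] at h1
          exact mul_eq_one_iff_eq_inv.2 h1)
        have hAj : A = zpowers j := le_antisymm (fun a ha => by
          rcases hA2 a ha with h | h
          · rw [h]; exact one_mem _
          · rw [h]; exact mem_zpowers j) (zpowers_le.2 hjA)
        have h4C := relIndex_mul_relIndex ⊥ A C bot_le hA
        rw [relIndex_bot_left, relIndex_bot_left, hidx, hAj, Nat.card_zpowers, hj] at h4C
        rw [← hC, ← h4C]
      exfalso
      obtain ⟨g, hg1, hg2⟩ : ∃ g : G, Commute ((z : (T : Subgroup G)) : G) (g * (z : (T : Subgroup G)) * g⁻¹) ∧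
          g * ((z : (T : Subgroup G)) : G) * g⁻¹ ≠ (z : (T : Subgroup G)) := by
        by_contra hcon
        push Not at hcon
        exact hiso ⟨hzo, hcon⟩
      obtain ⟨Z, hZd⟩ : ∃ Z, Z = centralizer ({((z : (T : Subgroup G)) : G)} : Set G) := ⟨_, rfl⟩
      have hTZ : (T : Subgroup G) ≤ Z := fun t ht => by
        rw [hZd, mem_centralizer_singleton_iff]
        exact congrArg Subtype.val (hzc ⟨t, ht⟩).eq.symm
      obtain ⟨u, hu⟩ : ∃ u, u = g * ((z : (T : Subgroup G)) : G) * g⁻¹ := ⟨_, rfl⟩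
      have huo : orderOf u = 2 := by rw [hu, ← MulAut.conj_apply, MulEquiv.orderOf_eq, hzo]
      have huZ : u ∈ Z := by rw [hZd, mem_centralizer_singleton_iff, hu]; exact hg1.eq.symm
      obtain ⟨R, hR⟩ := (IsPGroup.of_card (p := 2) (n := 1) (G := zpowers (⟨u, huZ⟩ : Z))
        (by rw [Nat.card_zpowers, orderOf_mk, huo, pow_one])).exists_le_sylow
      obtain ⟨c, hc⟩ := MulAction.exists_smul_eq Z R (T.subtype hTZ)
      have hcu : (c : G) * u * (c : G)⁻¹ ∈ (T : Subgroup G) := by
        have h1 : c * ⟨u, huZ⟩ * c⁻¹ ∈ (T.subtype hTZ : Subgroup Z) := by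
          rw [← hc, Sylow.coe_subgroup_smul, ← MulAut.conj_apply]
          exact smul_mem_pointwise_smul _ _ _ (hR (mem_zpowers _))
        rw [Sylow.coe_subtype, mem_subgroupOf] at h1
        simpa using h1
      have hcz : Commute (c : G) ((z : (T : Subgroup G)) : G) :=
        mem_centralizer_singleton_iff.1 (hZd ▸ c.2)
      have hconj := qd_conj hQ hjT2 hcard4 (by rw [orderOf_coe, hz]) hzc
        (u := ⟨_, hcu⟩) (by rw [orderOf_mk, ← MulAut.conj_apply, MulEquiv.orderOf_eq, huo]) (fun h => by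
          have h' := mul_inv_eq_iff_eq_mul.1 (congrArg Subtype.val h)
          rw [← hcz.eq] at h'
          exact hg2 (hu ▸ mul_left_cancel h'))
      obtain ⟨w, hw⟩ := isConj_iff.1 hconj
      have hw' : (w : G) * j * (w : G)⁻¹ = (c : G) * u * (c : G)⁻¹ := congrArg Subtype.val hw
      obtain ⟨h, hh⟩ : ∃ h, h = (w : G)⁻¹ * c * g := ⟨_, rfl⟩
      have hjh : h * ((z : (T : Subgroup G)) : G) * h⁻¹ = j := by
        rw [hh, show j = (w : G)⁻¹ * ((w : G) * j * (w : G)⁻¹) * w by group, hw', hu]
        group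
      -- so `C` has a Sylow subgroup as big as `T`
      have hinto : ∀ t : G, t ∈ (T : Subgroup G) → h * t * h⁻¹ ∈ C := by
        intro t ht
        refine hmC.2 ?_
        have h2 : Commute t ((z : (T : Subgroup G)) : G) := congrArg Subtype.val (hzc ⟨t, ht⟩).eq.symm
        have h3 := h2.map (MulAut.conj h).toMonoidHom
        simp only [MulEquiv.coe_toMonoidHom, MulAut.conj_apply] at h3
        rwa [hjh] at h3
      obtain ⟨Q, hQ'⟩ : ∃ Q, Q = (T : Subgroup G).map (MulAut.conj h).toMonoidHom := ⟨_, rfl⟩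
      have hQC : Q ≤ C := by
        rw [hQ']
        rintro _ ⟨t, ht, rfl⟩
        exact hinto t ht
      have hQcard : Nat.card Q = Nat.card (T : Subgroup G) := by
        rw [hQ', card_map_of_injective (MulAut.conj h).injective]
      obtain ⟨R', hR'⟩ := (show IsPGroup 2 (Q.subgroupOf C) from
        (hQ' ▸ T.isPGroup'.map _ : IsPGroup 2 Q).comap_subtype).exists_le_sylow
      have h1 : Nat.card (Q.subgroupOf C) ≤ Nat.card (R' : Subgroup C) := card_le_of_le hR'
      rw [Nat.card_congr (subgroupOfEquivOfLe hQC).toEquiv, hQcard] at h1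
      have h2 : Nat.card (R' : Subgroup C) = Nat.card (P₀ : Subgroup C) :=
        Nat.card_congr (Sylow.equiv R' P₀).toEquiv
      have h3 : Nat.card (P₀ : Subgroup C) ≤ 4 := by
        rw [← hcard4]
        refine Nat.card_le_card_of_injective (fun p => ⟨⟨((p : C) : G), (hTC _ (p : C).2).2 p.2⟩,
          mem_centralizer_singleton_iff.2 (Subtype.ext (hmC.1 (p : C).2).eq)⟩) ?_
        intro a b hab
        exact Subtype.ext (Subtype.ext (congrArg (fun x => ((x.1 : (T : Subgroup G)) : G)) hab))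
      obtain ⟨m, hm, hcardT, -⟩ := hQ
      have h16 : 2 ^ 4 ≤ 2 ^ (m + 1) := Nat.pow_le_pow_right (by norm_num) (by omega)
      omega
    · exact absurd h4 hne4

theorem structure' (j : G) (A : Subgroup G) (hj : orderOf j = 2) (hjA : j ∈ A)
    (hA : A ≤ Subgroup.centralizer ({j} : Set G))
    (hidx : A.relIndex (Subgroup.centralizer ({j} : Set G)) = 2)
    (hinv : ∀ x, Commute x j → x ∉ A → x * x = 1 ∧ ∀ a ∈ A, x * a * x⁻¹ = a⁻¹)
    (hone : ∀ a ∈ A, orderOf a = 2 → a = j) (hbig : ∃ a ∈ A, a * a ≠ 1)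
    (hodd : ∀ N : Subgroup G, N.Normal → Odd (Nat.card N) → N = ⊥)
    (hns : ¬ Group.IsSolvable G) :
    NoSolv G ∧ SylowDihedral G := by
  rcases sylow_cases j A hj hjA hA hidx hinv hone hodd hns with h | ⟨z, -, hzo, hzc, hzj, -⟩
  · exact h
  · obtain ⟨a, ha, ha1⟩ := hbig
    have hza : ∀ g : G, Commute z g := fun g => (mem_center_iff.1 hzc g).symm
    have h1 := (hinv z (hza j) fun h => hzj (hone z h hzo)).2 a ha
    rw [(hza a).eq, mul_inv_cancel_right] at h1
    exact absurd (mul_eq_one_iff_eq_inv.2 h1) ha1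

open Matrix
open Cfsg.Agent.AutPSLBasic Cfsg.Agent.AutPSLMain Cfsg.Agent.AutPSLApi Cfsg.Agent.AutPSLField
  Cfsg.Agent.GaloisDescentGL
open scoped MatrixGroups

variable {F : Type} [Field F] [Fintype F]

/-- The structure of `G` as a group between `PSL(2, F)` and its automorphism group. -/
theorem psl_or_pgl' (hD : SylowDihedral G) (M : Subgroup G) [M.Normal] (hgM : EvenCyclic27.Good M)
    (hC : centralizer (M : Set G) = ⊥) (hodd : Odd (Fintype.card F)) (e : M ≃* P 2 F)
    (hgen : (∀ g : G, Odd (orderOf g) → g ∈ M) ∨ (Fintype.card F).Prime) :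
    Nonempty (G ≃* P 2 F) ∨ Nonempty (G ≃* Matrix.ProjGenLinGroup (Fin 2) F) := by
  haveI : Fact (Nat.Prime 2) := ⟨Nat.prime_two⟩
  obtain ⟨ρ, hρ⟩ : ∃ ρ : G →* MulAut (P 2 F), ∀ g x, ρ g x = e (MulAut.conjNormal g (e.symm x)) :=
    ⟨MonoidHom.mk' (fun g => (e.symm.trans (MulAut.conjNormal g)).trans e) (fun g h => by
      ext x; simp [MulAut.mul_apply]), fun g x => rfl⟩
  have hinj : Function.Injective ρ := by
    rw [injective_iff_map_eq_one]
    intro g hg
    have h : g ∈ centralizer (M : Set G) := by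
      refine mem_centralizer_iff.2 fun x hx => ?_
      have h1 := hρ g (e ⟨x, hx⟩)
      rw [hg, e.symm_apply_apply, MulAut.one_apply] at h1
      have h2 := congrArg Subtype.val (e.injective h1)
      rw [MulAut.conjNormal_apply] at h2
      exact (mul_inv_eq_iff_eq_mul.1 h2.symm).symm
    rwa [hC, mem_bot] at h
  have hρM : ∀ m : M, ρ m = MulAut.conj (e m) := by
    intro m; ext x
    rw [hρ, MulAut.conj_apply, show MulAut.conjNormal (m : G) (e.symm x) = m * e.symm x * m⁻¹ from
      Subtype.ext (MulAut.conjNormal_apply _ _), map_mul, map_mul, map_inv, e.apply_symm_apply]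
  have hρm : ∀ s : SL(2, F), ρ (e.symm (QuotientGroup.mk s) : M) = cj (Matrix.SpecialLinearGroup.toGL s) := by
    intro s
    rw [hρM, e.apply_symm_apply, AutPSLGeometry.conj_mk]
  have hsq : ∀ a : GL (Fin 2) F, IsSquare (a : Matrix (Fin 2) (Fin 2) F).det →
      ∃ m ∈ M, ρ m = cj a := by
    intro a ha
    obtain ⟨s, hs⟩ := cj_of_isSquare a ha
    exact ⟨_, SetLike.coe_mem _, (hρm s).trans hs.symm⟩
  -- prime field matrices
  obtain ⟨p, hp⟩ := CharP.exists F
  haveI := hp
  haveI hpp : Fact p.Prime := ⟨(CharP.char_is_prime_or_zero F p).resolve_right (CharP.char_ne_zero_of_finite F p)⟩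
  have h2 : (2 : F) ≠ 0 := by
    refine Ring.two_ne_zero fun h => ?_
    have := FiniteField.even_card_iff_char_two.1 h
    rw [Nat.odd_iff] at hodd; omega
  obtain ⟨a₀, b₀, hab₀⟩ := ZMod.sq_add_sq p (-1)
  obtain ⟨a, ha⟩ : ∃ a : F, a = ZMod.castHom (dvd_refl p) F a₀ := ⟨_, rfl⟩
  obtain ⟨b, hb⟩ : ∃ b : F, b = ZMod.castHom (dvd_refl p) F b₀ := ⟨_, rfl⟩
  have hab : a ^ 2 + b ^ 2 = -1 := by
    rw [ha, hb, ← map_pow, ← map_pow, ← map_add, hab₀, map_neg, map_one]
  have hfix : ∀ (σ : F ≃+* F) (c : ZMod p), σ (ZMod.castHom (dvd_refl p) F c) = ZMod.castHom (dvd_refl p) F c :=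
    fun σ c => RingHom.congr_fun (RingHom.ext_zmod ((σ : F →+* F).comp (ZMod.castHom (dvd_refl p) F))
      (ZMod.castHom (dvd_refl p) F)) c
  obtain ⟨w, hw⟩ : ∃ w : SL(2, F), (w : Matrix (Fin 2) (Fin 2) F) = !![0, 1; -1, 0] :=
    ⟨⟨!![0, 1; -1, 0], by simp [Matrix.det_fin_two]⟩, rfl⟩
  obtain ⟨u, hu⟩ : ∃ u : SL(2, F), (u : Matrix (Fin 2) (Fin 2) F) = !![1, 1; 0, 1] :=
    ⟨⟨!![1, 1; 0, 1], by simp [Matrix.det_fin_two]⟩, rfl⟩
  obtain ⟨z, hz⟩ : ∃ z : SL(2, F), (z : Matrix (Fin 2) (Fin 2) F) = !![a, b; b, -a] :=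
    ⟨⟨!![a, b; b, -a], by rw [Matrix.det_fin_two_of]; linear_combination -hab⟩, rfl⟩
  have hcenter : ∀ c : SL(2, F), c ∈ center SL(2, F) →
      c.1 0 1 = 0 ∧ c.1 1 0 = 0 ∧ c.1 0 0 = c.1 1 1 := by
    intro c hc
    rw [Matrix.SpecialLinearGroup.mem_center_iff] at hc
    obtain ⟨r, -, hr⟩ := hc
    rw [← hr]
    simp
  have hww : (QuotientGroup.mk w : P 2 F) * QuotientGroup.mk w = 1 := by
    rw [← QuotientGroup.mk_mul, QuotientGroup.eq_one_iff, Matrix.SpecialLinearGroup.mem_center_iff]
    refine ⟨-1, by simp, ?_⟩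
    rw [Matrix.SpecialLinearGroup.coe_mul, hw]
    ext i j; fin_cases i <;> fin_cases j <;> simp [Matrix.mul_apply]
  have hw1 : (QuotientGroup.mk w : P 2 F) ≠ 1 := fun h => by
    rw [QuotientGroup.eq_one_iff] at h
    have := (hcenter w h).1
    rw [hw] at this
    simp at this
  have hzz : (QuotientGroup.mk z : P 2 F) * QuotientGroup.mk z = 1 := by
    rw [← QuotientGroup.mk_mul, QuotientGroup.eq_one_iff, Matrix.SpecialLinearGroup.mem_center_iff]
    refine ⟨-1, by simp, ?_⟩
    rw [Matrix.SpecialLinearGroup.coe_mul, hz]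
    ext i j
    fin_cases i <;> fin_cases j <;> simp [Matrix.mul_apply, Matrix.scalar_apply] <;>
      first | linear_combination -hab | linear_combination hab | ring
  have hz1 : (QuotientGroup.mk z : P 2 F) ≠ 1 := fun h => by
    rw [QuotientGroup.eq_one_iff] at h
    obtain ⟨h01, -, h00⟩ := hcenter z h
    rw [hz] at h01 h00
    simp at h01 h00
    have ha0 : a = 0 := by
      have : (2 : F) * a = 0 := by linear_combination h00
      exact (mul_eq_zero.1 this).resolve_left h2
    rw [ha0, h01] at hab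
    simp at hab
  have hwzne : (QuotientGroup.mk w : P 2 F) ≠ QuotientGroup.mk z := fun h => by
    obtain ⟨h01, h10, h00⟩ := hcenter _ (QuotientGroup.eq.1 h)
    rw [Matrix.SpecialLinearGroup.coe_mul, Matrix.SpecialLinearGroup.coe_inv, hw, hz,
      Matrix.adjugate_fin_two_of] at h01 h10 h00
    simp [Matrix.mul_apply] at h01 h10 h00
    have ha0 : a = 0 := by linear_combination h01
    have hb0 : b = 0 := by
      have : (2 : F) * b = 0 := by linear_combination -h00
      exact (mul_eq_zero.1 this).resolve_left h2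
    rw [ha0, hb0] at hab
    simp at hab
  have hwz : (QuotientGroup.mk w : P 2 F) * QuotientGroup.mk z = QuotientGroup.mk z * QuotientGroup.mk w := by
    rw [← QuotientGroup.mk_mul, ← QuotientGroup.mk_mul, QuotientGroup.eq,
      Matrix.SpecialLinearGroup.mem_center_iff]
    refine ⟨-1, by simp, ?_⟩
    rw [Matrix.SpecialLinearGroup.coe_mul, Matrix.SpecialLinearGroup.coe_inv,
      Matrix.SpecialLinearGroup.coe_mul, Matrix.SpecialLinearGroup.coe_mul, hw, hz, Matrix.mul_fin_two,
      Matrix.mul_fin_two, Matrix.adjugate_fin_two_of, Matrix.mul_fin_two]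
    ext i j
    fin_cases i <;> fin_cases j <;> simp [Matrix.scalar_apply] <;>
      first | linear_combination -hab | linear_combination hab | ring
  have hwu : (QuotientGroup.mk w : P 2 F) * QuotientGroup.mk u ≠ QuotientGroup.mk u * QuotientGroup.mk w := by
    intro h
    rw [← QuotientGroup.mk_mul, ← QuotientGroup.mk_mul, QuotientGroup.eq] at h
    obtain ⟨h01, h10, h00⟩ := hcenter _ h
    rw [Matrix.SpecialLinearGroup.coe_mul, Matrix.SpecialLinearGroup.coe_inv,
      Matrix.SpecialLinearGroup.coe_mul, Matrix.SpecialLinearGroup.coe_mul, hw, hu, Matrix.mul_fin_two,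
      Matrix.mul_fin_two, Matrix.adjugate_fin_two_of, Matrix.mul_fin_two] at h01 h10 h00
    simp at h01 h10 h00
  have cfix : ∀ (φ : G) (σ : F ≃+* F) (s : SL(2, F)), ρ φ = fd σ → (∀ i j, σ (s.1 i j) = s.1 i j) →
      Commute φ ((e.symm (QuotientGroup.mk s) : M) : G) := by
    intro φ σ s hφ hs
    refine hinj ?_
    rw [map_mul, map_mul, hφ, hρm, fd_mul_cj']
    congr 2
    apply Units.ext
    ext i j
    exact hs i j
  have mconv : ∀ x y : P 2 F, ((e.symm x : M) : G) * (e.symm y : M) = (e.symm (x * y) : M) := fun x y => by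
    rw [map_mul]; rfl
  have hcoe_inj : ∀ x y : P 2 F, ((e.symm x : M) : G) = (e.symm y : M) → x = y :=
    fun x y h => e.symm.injective (Subtype.ext h)
  have hinvol : ∀ x : P 2 F, x * x = 1 → x ≠ 1 → orderOf ((e.symm x : M) : G) = 2 := by
    intro x hx hx1
    refine orderOf_eq_prime (by rw [pow_two, mconv, hx, map_one]; rfl) fun h => hx1 ?_
    exact e.symm.injective (by rw [map_one]; exact Subtype.ext h)
  have no_inner : ∀ (φ : G) (σ : F ≃+* F) (r : ℕ), r.Prime → orderOf σ = r → ρ φ = fd σ → φ ∈ M →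
      False := by
    intro φ σ r hr hσ hφ hmem
    obtain ⟨s, hs⟩ := QuotientGroup.mk_surjective (e ⟨φ, hmem⟩)
    have h1 : ρ φ = cj (Matrix.SpecialLinearGroup.toGL s) * fd 1 := by
      rw [map_one, mul_one, ← hρm s, hs, e.symm_apply_apply]
    rw [hφ, ← one_mul (fd σ), ← map_one (cj : GL (Fin 2) F →* MulAut (P 2 F))] at h1
    rw [semi_inj h1, orderOf_one] at hσ
    exact hr.ne_one hσ.symm
  -- no pure field automorphism of prime order
  have no_field : ∀ (φ : G) (σ : F ≃+* F) (r : ℕ), r.Prime → orderOf σ = r → ρ φ = fd σ → False := by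
    intro φ σ r hr hσ hφ
    have hφo : orderOf φ = r := by
      rw [← orderOf_injective ρ hinj, hφ, orderOf_injective (fd : (F ≃+* F) →* MulAut (P 2 F)) (fd_injective le_rfl), hσ]
    have hσw : ∀ i j, σ (w.1 i j) = w.1 i j := by intro i j; rw [hw]; fin_cases i <;> fin_cases j <;> simp
    have hσu : ∀ i j, σ (u.1 i j) = u.1 i j := by intro i j; rw [hu]; fin_cases i <;> fin_cases j <;> simp
    have hσz : ∀ i j, σ (z.1 i j) = z.1 i j := by
      intro i j; rw [hz]; fin_cases i <;> fin_cases j <;> simp [ha, hb, hfix, -ZMod.castHom_apply]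
    have hcw := cfix φ σ w hφ hσw
    have hw2 := hinvol _ hww hw1
    rcases hr.eq_two_or_odd' with rfl | hrodd
    · have hz2 := hinvol _ hzz hz1
      have hcz := cfix φ σ z hφ hσz
      have hmem : φ ∈ M := by
        rcases four_self_centralizing hD hw2 hz2 hφo (fun h => hwzne (hcoe_inj _ _ h))
          (show Commute _ _ by rw [commute_iff_eq, mconv, mconv, hwz]) hcw.symm hcz.symm with h | h | h
        · exact h ▸ SetLike.coe_mem _
        · exact h ▸ SetLike.coe_mem _
        · exact h ▸ mul_mem (SetLike.coe_mem _) (SetLike.coe_mem _)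
      exact no_inner φ σ 2 Nat.prime_two hσ hφ hmem
    · rcases hgen with hgen | hpr
      · exact no_inner φ σ r hr hσ hφ (hgen φ (by rw [hφo]; exact hrodd))
      · refine hr.ne_one ?_
        rw [← hσ, orderOf_eq_one_iff]
        refine RingEquiv.ext fun x => ?_
        haveI : Fact (Fintype.card F).Prime := ⟨hpr⟩
        obtain ⟨k, hk⟩ := AddSubgroup.mem_zmultiples_iff.1
          (mem_zmultiples_of_prime_card (p := Fintype.card F) (g := (1 : F)) (g' := x)
            (Nat.card_eq_fintype_card) one_ne_zero)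
        rw [← hk, zsmul_one, map_intCast]
        rfl
  have hdec : ∀ g : G, ∃ (a : GL (Fin 2) F) (σ : F ≃+* F), ρ g = cj a * fd σ := fun g => rigid_two (ρ g)
  have hpow : ∀ (g : G) (a : GL (Fin 2) F) (σ : F ≃+* F), ρ g = cj a * fd σ → ∀ k : ℕ,
      ∃ a', ρ (g ^ k) = cj a' * fd (σ ^ k) := by
    intro g a σ h k
    induction k with
    | zero => exact ⟨1, by rw [pow_zero, pow_zero, map_one, map_one, map_one, mul_one]⟩
    | succ k ih =>
      obtain ⟨a', ha'⟩ := ih
      exact ⟨a' * gmap (σ ^ k) a, by rw [pow_succ, map_mul, ha', h, semi_mul, pow_succ]⟩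
  -- all field parts are trivial
  have hσ1 : ∀ (g : G) (a : GL (Fin 2) F) (σ : F ≃+* F), ρ g = cj a * fd σ → σ = 1 := by
    intro g₀ c₀ σ₀ h₀
    by_contra hne
    obtain ⟨r, hr, hrd⟩ := Nat.exists_prime_and_dvd (fun h => hne (orderOf_eq_one_iff.1 h) : orderOf σ₀ ≠ 1)
    haveI : Finite (F ≃+* F) := Finite.of_injective _ DFunLike.coe_injective
    have hfin : 0 < orderOf σ₀ := orderOf_pos σ₀
    obtain ⟨g₁, hg₁⟩ : ∃ g₁, g₁ = g₀ ^ (orderOf σ₀ / r) := ⟨_, rfl⟩
    obtain ⟨σ, hσdef⟩ : ∃ σ, σ = σ₀ ^ (orderOf σ₀ / r) := ⟨_, rfl⟩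
    obtain ⟨c₁, hc₁⟩ := hpow g₀ c₀ σ₀ h₀ (orderOf σ₀ / r)
    rw [← hg₁, ← hσdef] at hc₁
    have hσ : orderOf σ = r := by
      rw [hσdef]
      exact orderOf_pow_orderOf_div hfin.ne' hrd
    rcases hr.eq_two_or_odd' with hr2 | hrodd
    swap
    · obtain ⟨m, hm, hmρ⟩ := hsq (c₁ * gmap σ c₁) (by
        rw [Units.val_mul, Matrix.det_mul, det_gmap]; exact isSquare_mul_map hodd σ _)
      refine no_field (m⁻¹ * (g₁ * g₁)) (σ * σ) r hr ?_ ?_
      · rw [← pow_two, Nat.Coprime.orderOf_pow, hσ]
        rw [hσ, Nat.coprime_two_right]; exact hrodd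
      · rw [map_mul, map_mul, map_inv, hmρ, hc₁, semi_mul]
        group
    subst hr2
    -- pass to a `2`-element
    obtain ⟨i, m, hm, him⟩ := Nat.exists_eq_two_pow_mul_odd (orderOf_pos g₁).ne'
    obtain ⟨c₂, hc₂⟩ := hpow g₁ c₁ σ hc₁ m
    have hσm : σ ^ m = σ := by
      obtain ⟨k, rfl⟩ := hm
      rw [pow_succ, pow_mul, ← hσ, pow_orderOf_eq_one, one_pow, one_mul]
    rw [hσm] at hc₂
    have hp2 : IsPGroup 2 (zpowers (g₁ ^ m)) := IsPGroup.of_card (n := i) (by
      rw [Nat.card_zpowers, orderOf_pow' g₁ (by rintro rfl; simp at hm), him,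
        Nat.gcd_eq_right (dvd_mul_left m _), Nat.mul_div_cancel _ hm.pos])
    obtain ⟨R⟩ : Nonempty (Sylow 2 M) := inferInstance
    obtain ⟨S, hS⟩ := ((R.isPGroup').map M.subtype).exists_le_sylow
    obtain ⟨B, hBc, hBS, -, hBsq, hBmul, -⟩ := hD S
    obtain ⟨T, hT⟩ := hp2.exists_le_sylow
    obtain ⟨x, hx⟩ := MulAction.exists_smul_eq G T S
    obtain ⟨s, hs⟩ : ∃ s, s = x * g₁ ^ m * x⁻¹ := ⟨_, rfl⟩
    have hsS : s ∈ (S : Subgroup G) := by rw [← hx, hs]; exact ⟨_, hT (mem_zpowers _), rfl⟩
    obtain ⟨cs, τ, hcs, hτ⟩ : ∃ (cs : GL (Fin 2) F) (τ : F ≃+* F),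
        ρ s = cj cs * fd τ ∧ orderOf τ = 2 := by
      obtain ⟨cx, σx, hx'⟩ := hdec x
      obtain ⟨ci, σi, hi'⟩ := hdec x⁻¹
      have hsum : σx * σi = 1 := by
        have h1 : ρ (x * x⁻¹) = cj 1 * fd 1 := by rw [mul_inv_cancel, map_one, map_one, map_one, mul_one]
        rw [map_mul, hx', hi', semi_mul] at h1
        exact semi_inj h1
      refine ⟨cx * gmap σx c₂ * gmap (σx * σ) ci, σx * σ * σi, ?_, ?_⟩
      · rw [hs, map_mul, map_mul, hx', hc₂, hi', semi_mul, semi_mul]
      · rw [eq_inv_of_mul_eq_one_right hsum, orderOf_conj, hσ]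
    obtain ⟨r₀, hr₀, hr₀B⟩ : ∃ r₀ : M, r₀ ∈ (R : Subgroup M) ∧ (r₀ : G) ∉ B := by
      by_contra hcon
      push Not at hcon
      refine hgM.not_cyclic R ?_
      haveI := hBc
      exact isCyclic_of_injective
        ({ toFun := fun r => (⟨((r : M) : G), hcon r r.2⟩ : B), map_one' := rfl,
           map_mul' := fun _ _ => rfl } : (R : Subgroup M) →* B)
        (fun a b h => Subtype.ext (Subtype.ext (congrArg (fun x : B => (x : G)) h)))
    have hr₀S : (r₀ : G) ∈ (S : Subgroup G) := hS ⟨r₀, hr₀, rfl⟩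
    obtain ⟨v, cv, hvv, hv⟩ : ∃ (v : G) (cv : GL (Fin 2) F), v * v = 1 ∧ ρ v = cj cv * fd τ := by
      by_cases hsB : s ∈ B
      · obtain ⟨sr, hsr⟩ := QuotientGroup.mk_surjective (e r₀)
        have h1 : ρ (r₀ : G) = cj (Matrix.SpecialLinearGroup.toGL sr) * fd 1 := by
          rw [map_one, mul_one, ← hρm sr, hsr, e.symm_apply_apply]
        refine ⟨s * r₀, cs * gmap τ (Matrix.SpecialLinearGroup.toGL sr), hBsq _ (mul_mem hsS hr₀S)
          (fun h => hr₀B (by simpa using mul_mem (inv_mem hsB) h)), ?_⟩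
        rw [map_mul, hcs, h1, semi_mul, mul_one]
      · exact ⟨s, cs, hBsq s hsS hsB, hcs⟩
    have h11 := congrArg ρ hvv
    rw [map_mul, map_one, hv, semi_mul] at h11
    obtain ⟨l, hl⟩ := (AutPSLField.mem_center _).1 (cj_fd_eq_one le_rfl h11).1
    have hlfix : Units.map (τ : F →* F) l = l := by
      have e1 := congrArg (gmap τ) hl
      rw [map_mul, gmap_scalar] at e1
      have e2 : gmap τ (gmap τ cv) = cv := by
        apply Units.ext; ext i j
        show τ (τ _) = _
        have : τ * τ = 1 := by rw [← pow_two, ← hτ, pow_orderOf_eq_one]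
        rw [← RingAut.mul_apply, this]; rfl
      rw [e2] at e1
      have e3 : gmap τ cv * cv = Matrix.GeneralLinearGroup.scalar (Fin 2) l := by
        calc gmap τ cv * cv = cv⁻¹ * (cv * gmap τ cv) * cv := by group
          _ = Matrix.GeneralLinearGroup.scalar (Fin 2) l := by
            rw [hl, mul_assoc, ← AutPSLField.scalar_comm, inv_mul_cancel_left]
      rw [e3] at e1
      have e4 := Matrix.ext_iff.2 (congrArg Units.val e1) 0 0
      apply Units.ext
      simpa using e4.symm
    have hsd : IsSquare (cv : Matrix (Fin 2) (Fin 2) F).det := by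
      refine isSquare_of_norm hodd hτ (congrArg Units.val hlfix) l.ne_zero ?_
      have e5 := congrArg (fun g : GL (Fin 2) F => (g : Matrix (Fin 2) (Fin 2) F).det) hl
      simpa [Matrix.det_mul, det_gmap, Matrix.GeneralLinearGroup.coe_scalar, Matrix.scalar_apply] using e5
    obtain ⟨mm, -, hmm⟩ := hsq cv hsd
    refine no_field (mm⁻¹ * v) τ 2 Nat.prime_two hτ ?_
    rw [map_mul, map_inv, hmm, hv, inv_mul_cancel_left]
  have hcj : ∀ g : G, ∃ a : GL (Fin 2) F, ρ g = cj a := by
    intro g
    obtain ⟨a, σ, h⟩ := hdec g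
    exact ⟨a, by rw [h, hσ1 g a σ h, map_one, mul_one]⟩
  by_cases hall : ∀ g : G, g ∈ M
  · exact Or.inl ⟨((Subgroup.topEquiv.symm.trans (MulEquiv.subgroupCongr
      (show (⊤ : Subgroup G) = M from le_antisymm (fun g _ => hall g) le_top))).trans e)⟩
  right
  push Not at hall
  obtain ⟨g₀, hg₀⟩ := hall
  obtain ⟨c, hc⟩ := hcj g₀
  have hns : ¬ IsSquare (c : Matrix (Fin 2) (Fin 2) F).det := fun h => by
    obtain ⟨m, hm, hmρ⟩ := hsq c h
    exact hg₀ (hinj (hc.trans hmρ.symm) ▸ hm)
  have hrange : ρ.range = (cjP (F := F) (n := 2) le_rfl).range := by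
    apply le_antisymm
    · rintro - ⟨g, rfl⟩
      obtain ⟨a, ha⟩ := hcj g
      exact ⟨QuotientGroup.mk a, ha.symm⟩
    · rintro - ⟨q, rfl⟩
      obtain ⟨a, rfl⟩ := QuotientGroup.mk_surjective q
      change cj a ∈ ρ.range
      by_cases has : IsSquare (a : Matrix (Fin 2) (Fin 2) F).det
      · obtain ⟨m, -, hm⟩ := hsq a has
        exact ⟨m, hm⟩
      · obtain ⟨m, -, hm⟩ := hsq (a * c) (by
          rw [Units.val_mul, Matrix.det_mul]
          exact isSquare_mul_of_iff hodd (iff_of_false has hns))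
        exact ⟨m * g₀⁻¹, by rw [map_mul, map_inv, hm, hc, map_mul, mul_inv_cancel_right]⟩
  exact ⟨((MonoidHom.ofInjective hinj).trans (MulEquiv.subgroupCongr hrange)).trans
    (MonoidHom.ofInjective (cjP_injective le_rfl)).symm⟩

end Cfsg.Agent.GWDihLocal74
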