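import Cfsg.Agent.Lib.GWDihBase33
import Cfsg.Agent.Lib.BGFittingUnique
import Cfsg.Agent.S0205

/-!
Maximal invariant odd subgroups over an involution centralizer in the generalized dihedral core.
-/

set_option autoImplicit false
set_option linter.style.haveILetI false
set_option linter.unusedSectionVars false

namespace Cfsg.Agent.GWDih33

open Subgroup Cfsg.Agent.BGFittingUnique

universe u

variable {G : Type u} [Group G] [Finite G]

/-- The ingredients proved separately. -/
structure Tools (G : Type u) [Group G] : Prop where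
  hyp : Hyp G
  nt : ∀ t : G, orderOf t = 2 → Om t ≠ ⊥
  idx : ∀ z : G, orderOf z = 2 → ∀ X : Subgroup G, centralizer ({z} : Set G) ≤ X → X ≠ ⊤ →
    ∃ W : Subgroup G, W ≤ X ∧ Odd (Nat.card W) ∧ X ≤ normalizer (W : Set G) ∧
      ∀ g ∈ X, Odd (orderOf g) → g ∈ W
  four : ∀ (W : Subgroup G), Odd (Nat.card W) → ∀ z v : G, orderOf z = 2 → orderOf v = 2 → v ≠ z →
    Commute z v → z ∈ normalizer (W : Set G) → v ∈ normalizer (W : Set G) →
    (∀ g ∈ W, Commute z g → Commute v g → g = 1) → Group.IsNilpotent ↥⁅W, W⁆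
  kill : ∀ (S : Sylow 2 G), Nat.card S = 4 → ∀ z v : G, orderOf z = 2 → orderOf v = 2 → v ≠ z →
    Commute z v → ∀ W : Subgroup G, Odd (Nat.card W) → z ∈ normalizer (W : Set G) →
    v ∈ normalizer (W : Set G) → Om z ≤ W → Om v ≤ W → False

/-- Maximal odd subgroups over `Om z` normalised by the centralizer of `z`. -/
structure Max (z : G) (W : Subgroup G) : Prop where
  two : orderOf z = 2
  odd : Odd (Nat.card W)
  norm : centralizer ({z} : Set G) ≤ normalizer (W : Set G)
  om : Om z ≤ W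
  max : ∀ W' : Subgroup G, Odd (Nat.card W') → centralizer ({z} : Set G) ≤ normalizer (W' : Set G) →
    W ≤ W' → W' = W

/-- The centre of the Fitting subgroup, inside `G`. -/
def zen (W : Subgroup G) : Subgroup G :=
  Cfsg.fittingOf W ⊓ centralizer (Cfsg.fittingOf W : Set G)

theorem self_mem_centralizer (z : G) : z ∈ centralizer ({z} : Set G) :=
  mem_centralizer_singleton_iff.2 rfl

theorem mem_cen_of_commute {z g : G} (h : Commute z g) : g ∈ centralizer ({z} : Set G) :=
  mem_centralizer_singleton_iff.2 h.symm.eq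

theorem odd_of_le {A B : Subgroup G} (h : Odd (Nat.card B)) (hle : A ≤ B) : Odd (Nat.card A) :=
  h.of_dvd_nat (card_dvd_of_le hle)

theorem conj_mem_of {W : Subgroup G} {g x : G} (hg : g ∈ normalizer (W : Set G)) (hx : x ∈ W) :
    g * x * g⁻¹ ∈ W := (mem_normalizer_iff.1 hg x).1 hx

theorem mem_norm_of_conj {W : Subgroup G} {g : G} (h : ∀ x ∈ W, g * x * g⁻¹ ∈ W) :
    g ∈ normalizer (W : Set G) := by
  have e : W.map (MulAut.conj g).toMonoidHom = W := by
    refine Subgroup.eq_of_le_of_card_ge ?_ ?_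
    · rintro _ ⟨x, hx, rfl⟩
      exact h x hx
    · rw [card_map_of_injective (MulAut.conj g).injective]
  rw [mem_normalizer_iff]
  refine fun x => ⟨h x, fun hx => ?_⟩
  rw [← e] at hx
  obtain ⟨y, hy, hy'⟩ := hx
  have : x = y := (mul_left_cancel (mul_right_cancel hy')).symm
  exact this ▸ hy

theorem zpow_two_cases {v : G} (hv : orderOf v = 2) (i : ℤ) : v ^ i = 1 ∨ v ^ i = v := by
  have h2 : v ^ (2 : ℤ) = 1 := by rw [zpow_ofNat, pow_two, mul_self hv]
  rw [← Int.emod_add_mul_ediv i 2, zpow_add, zpow_mul, h2, one_zpow, mul_one]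
  rcases Int.emod_two_eq_zero_or_one i with e | e <;> rw [e] <;> simp

/-- An odd element inverted by an involution and normalising a subgroup it inverts centralises it. -/
theorem commute_of_inverted {z g u : G} (hgo : Odd (orderOf g))
    (hg : z * g * z⁻¹ = g⁻¹) (hu : z * u * z⁻¹ = u⁻¹) (hgu : z * (g * u * g⁻¹) * z⁻¹ = (g * u * g⁻¹)⁻¹) :
    Commute g u := by
  refine DihedralSylow77.fix_of_sq_fix hgo ?_
  have e : z * (g * u * g⁻¹) * z⁻¹ = g⁻¹ * u⁻¹ * g := by
    rw [← conj_mul, ← conj_mul, hg, hu, ← conj_inv, hg, inv_inv]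
  rw [e] at hgu
  have h2 : g⁻¹ * u * g = g * u * g⁻¹ := by
    have := congrArg (·⁻¹) hgu
    simpa [mul_assoc] using this
  rw [commute_iff_eq, pow_two]
  calc g * g * u = g * (g * u * g⁻¹) * g := by group
    _ = g * (g⁻¹ * u * g) * g := by rw [h2]
    _ = u * (g * g) := by group

namespace Hyp

variable (h : Hyp G)
include h

theorem cen_le_sup {z : G} (hz : orderOf z = 2) (S : Sylow 2 G)
    (hS : (S : Subgroup G) ≤ centralizer ({z} : Set G)) :
    centralizer ({z} : Set G) ≤ Om z ⊔ (S : Subgroup G) := by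
  haveI : Fact (Nat.Prime 2) := ⟨Nat.prime_two⟩
  obtain ⟨n, hn, ⟨eS⟩⟩ := h.dih S
  obtain ⟨N, hN, hNodd, e, hNi⟩ := Cfsg.Agent.S0514.result S n hn ⟨eS⟩ z hz
  haveI := hN
  have hNO : N ≤ (Om z).subgroupOf (centralizer ({z} : Set G)) := fun x hx =>
    mem_subgroupOf.2 (mem_map_of_mem _ (HallCore.le_pPrimeCore (Nat.coprime_two_right.2 hNodd) hx))
  rw [← relIndex_eq_one]
  refine Nat.eq_one_of_dvd_coprimes (Nat.Coprime.pow_left e
    ((Nat.Prime.coprime_iff_not_dvd Nat.prime_two).2 S.not_dvd_index)) ?_ ?_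
  · exact hNi ▸ (index_dvd_of_le (hNO.trans (subgroupOf_mono _ le_sup_left)))
  · exact ((relIndex_dvd_of_le_left _ le_sup_right).trans ⟨_, (relIndex_mul_index hS).symm⟩)

/-- An element of the centralizer of `z` acts on the odd core as a power automorphism. -/
theorem conj_pm {z : G} (hz : orderOf z = 2) {x : G} (hx : Commute z x) :
    (∀ c ∈ Om z, x * c * x⁻¹ = c) ∨ (∀ c ∈ Om z, x * c * x⁻¹ = c⁻¹) := by
  obtain ⟨S, hzS, hzc⟩ := h.exists_central_sylow hz
  have hSC : (S : Subgroup G) ≤ centralizer ({z} : Set G) := fun s hs =>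
    mem_centralizer_singleton_iff.2 (hzc s hs)
  obtain ⟨n, hn, ⟨eS⟩⟩ := h.dih S
  obtain ⟨k, hk, ψ, hψ, hr⟩ := DihedralSylow77.exists_embedding S n hn eS
  haveI : NeZero (2 * k) := ⟨by omega⟩
  let P : G → Prop := fun x => (∀ c ∈ Om z, x * c * x⁻¹ = c) ∨ (∀ c ∈ Om z, x * c * x⁻¹ = c⁻¹)
  have hmul : ∀ a b : G, P a → P b → P (a * b) := by
    intro a b ha hb
    have key : ∀ c : G, a * b * c * (a * b)⁻¹ = a * (b * c * b⁻¹) * a⁻¹ := fun c => by group
    rcases ha with ha | ha <;> rcases hb with hb | hb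
    · exact Or.inl fun c hc => by rw [key, hb c hc, ha c hc]
    · exact Or.inr fun c hc => by rw [key, hb c hc, ha _ (inv_mem hc)]
    · exact Or.inr fun c hc => by rw [key, hb c hc, ha c hc]
    · exact Or.inl fun c hc => by rw [key, hb c hc, ha _ (inv_mem hc), inv_inv]
  have hinv : ∀ a : G, P a → P a⁻¹ := by
    intro a ha
    rcases ha with ha | ha
    · exact Or.inl fun c hc => by
        conv_lhs => rw [← ha c hc]
        group
    · refine Or.inr fun c hc => ?_
      have e := ha c hc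
      calc a⁻¹ * c * a⁻¹⁻¹ = (a⁻¹ * c⁻¹ * a)⁻¹ := by group
        _ = (a⁻¹ * (a * c * a⁻¹) * a)⁻¹ := by rw [e]
        _ = c⁻¹ := by group
  have hom : ∀ o ∈ Om z, P o := fun o ho => Or.inl fun c hc => by
    rw [(h.om_abelian hz ho hc).eq, mul_inv_cancel_right]
  have hone : ∀ j : ZMod (2 * k), P (ψ (DihedralGroup.sr j)) := by
    intro j
    by_cases e : ψ (DihedralGroup.sr j) = z
    · left; intro c hc; rw [e, (om_comm hc).eq, mul_inv_cancel_right]
    · exact Or.inr fun c hc => h.inv_om hz (DihedralSylow77.orderOf_sr' ψ hψ j) e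
        (hzc _ (hr ▸ ⟨_, rfl⟩)).symm hc
  have hS : ∀ s ∈ (S : Subgroup G), P s := by
    intro s hs
    rw [← hr] at hs
    obtain ⟨d, rfl⟩ := hs
    cases d with
    | sr j => exact hone j
    | r j =>
      rw [show DihedralGroup.r j = DihedralGroup.sr 0 * DihedralGroup.sr j by
        rw [DihedralGroup.sr_mul_sr, sub_zero], map_mul]
      exact hmul _ _ (hone 0) (hone j)
  have hle : Om z ⊔ (S : Subgroup G) ≤
      { carrier := {a | P a}
        mul_mem' := fun {a b} ha hb => hmul a b ha hb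
        one_mem' := Or.inl fun c _ => by simp
        inv_mem' := fun {a} ha => hinv a ha } := sup_le hom hS
  exact hle (h.cen_le_sup hz S hSC (mem_cen_of_commute hx))

/-- The centralizer of `z` normalises every subgroup of the odd core. -/
theorem cen_norm {z : G} (hz : orderOf z = 2) {Y : Subgroup G} (hY : Y ≤ Om z) :
    centralizer ({z} : Set G) ≤ normalizer (Y : Set G) := fun x hx => mem_norm_of_conj fun c hc => by
  rcases h.conj_pm hz (mem_centralizer_singleton_iff.1 hx).symm with e | e <;> rw [e c (hY hc)]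
  · exact hc
  · exact inv_mem hc

/-- An element of odd order fixed and inverted by a four group is trivial; generation. -/
theorem four_le {z v : G} (hz : orderOf z = 2) (hv : orderOf v = 2) (hne : v ≠ z) (hc : Commute z v)
    {W K : Subgroup G} (hW : Odd (Nat.card W)) (hzW : z ∈ normalizer (W : Set G))
    (hvW : v ∈ normalizer (W : Set G)) (h1 : W ⊓ Om z ≤ K) (h2 : W ⊓ Om v ≤ K)
    (h3 : W ⊓ Om (z * v) ≤ K) : W ≤ K := by
  haveI : Fact (Nat.Prime 2) := ⟨Nat.prime_two⟩
  have hnz : z ∉ zpowers v := by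
    intro hm
    rw [mem_zpowers_iff] at hm
    obtain ⟨i, hi⟩ := hm
    rcases zpow_two_cases hv i with e | e <;> rw [e] at hi
    · exact ne_one hz hi.symm
    · exact hne hi
  refine CoprimeGen.le_of_pair_centralizers (p := 2) (a := z) (b := v)
    ⟨hc, by rw [pow_two, mul_self hz], by rw [pow_two, mul_self hv], ne_one hv, hnz, hzW, hvW⟩
    (fun hd => (Nat.not_even_iff_odd.2 hW) (even_iff_two_dvd.2 hd)) ?_
  intro e he he1 x hx
  have hxo : Odd (orderOf x) := odd_of_mem hW hx.1
  have hxe : Commute e x := (mem_centralizer_singleton_iff.1 hx.2).symm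
  have hzv : orderOf (z * v) = 2 := order_two (by
    rw [hc.symm.mul_mul_mul_comm, mul_self hz, mul_self hv, one_mul]) (fun e' => hne (by
      rw [← inv_self hz]; exact (inv_eq_of_mul_eq_one_right e').symm))
  have hcases : e = z ∨ e = v ∨ e = z * v := by
    obtain ⟨i, j, rfl⟩ := CoprimeGen.mem_pairSubgroup_iff.1 he
    rcases zpow_two_cases hz i with a | a <;> rcases zpow_two_cases hv j with b | b <;> rw [a, b] at he1 ⊢
    · simp at he1
    · simp
    · simp
    · simp
  rcases hcases with rfl | rfl | rfl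
  · exact h1 ⟨hx.1, h.mem_om hz hxe hxo⟩
  · exact h2 ⟨hx.1, h.mem_om hv hxe hxo⟩
  · exact h3 ⟨hx.1, h.mem_om hzv hxe hxo⟩

theorem pair {z v : G} (hz : orderOf z = 2) (hv : orderOf v = 2) (hne : v ≠ z) (hc : Commute z v) :
    orderOf (z * v) = 2 ∧ z * v ≠ z ∧ z * v ≠ v ∧ Commute z (z * v) ∧ Commute v (z * v) := by
  refine ⟨order_two (by rw [hc.symm.mul_mul_mul_comm, mul_self hz, mul_self hv, one_mul])
    (fun e => hne (by rw [← inv_self hz]; exact (inv_eq_of_mul_eq_one_right e).symm)), ?_, ?_,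
    (Commute.refl z).mul_right hc, hc.symm.mul_right (Commute.refl v)⟩
  · intro e; exact ne_one hv (mul_eq_left.1 e)
  · intro e; exact ne_one hz (mul_eq_right.1 e)

end Hyp

end Cfsg.Agent.GWDih33
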