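import Mathlib
import Cfsg.Agent.Lib.GWDihTools33
import Cfsg.Agent.Lib.GWDihIndex11
import Cfsg.Agent.Lib.EvenCyclicDihedral27
import Cfsg.Agent.Lib.PGroupsBasic
import Cfsg.Agent.Lib.PSLCard
import Cfsg.Agent.S0514

/-!
# Odd elements outside the simple normal subgroup

`L` is the simple normal subgroup of a group `G` in which the centralizer of `j` has an abelian
subgroup of index two inverted by everything outside it.  All elements of odd order of `G` lie in
`L`, unless `L` is `PSL(2, F)` over a prime field.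
-/

set_option autoImplicit false
set_option linter.style.haveILetI false
set_option linter.unusedSectionVars false

namespace Cfsg.Agent.GWDihOutL11

open Subgroup
open Cfsg.Agent.GWDih33 (mul_self inv_self ne_one order_two order_conj eq_one_of_two)
open Cfsg.Agent.EvenCyclic27 (SylowDihedral inverts_of_out)

universe u

variable {G : Type u} [Group G]

theorem eq_one_of_two_pow {x : G} (hx : Odd (orderOf x)) {k : ℕ} (h : x ^ 2 ^ k = 1) : x = 1 :=
  orderOf_eq_one_iff.1 (Nat.eq_one_of_dvd_coprimes ((Nat.coprime_two_right.2 hx).pow_right k) dvd_rfl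
    (orderOf_dvd_of_pow_eq_one h))

theorem odd_mul {a b : G} (h : Commute a b) (ha : Odd (orderOf a)) (hb : Odd (orderOf b)) :
    Odd (orderOf (a * b)) :=
  (ha.mul hb).of_dvd_nat h.orderOf_mul_dvd_mul_orderOf

theorem mem_of_sq_mem {L : Subgroup G} {n : G} (hn : Odd (orderOf n)) (h : n * n ∈ L) : n ∈ L := by
  obtain ⟨t, ht⟩ := hn
  have : n = (n * n) ^ (t + 1) := by
    rw [← pow_two, ← pow_mul, show 2 * (t + 1) = orderOf n + 1 by omega, pow_succ,
      pow_orderOf_eq_one, one_mul]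
  rw [this]
  exact pow_mem h _

/-- An element inverted modulo `L` by an element of `L` lies in `L`. -/
theorem mem_of_inverted {L : Subgroup G} (hLn : L.Normal) {x n : G} (hx : x ∈ L) (hn : Odd (orderOf n))
    (h : x * n * x⁻¹ = n⁻¹) : n ∈ L := by
  refine mem_of_sq_mem hn ?_
  have h1 : x * (n * x⁻¹ * n⁻¹) ∈ L := mul_mem hx (hLn.conj_mem _ (inv_mem hx) n)
  rw [← mul_assoc, ← mul_assoc, h, ← mul_inv_rev] at h1
  exact inv_mem_iff.1 h1

/-- A Sylow subgroup with a cyclic subgroup of index two and involutions outside is dihedral. -/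
theorem exists_equiv_dihedral [Finite G] (hD : SylowDihedral G) (S : Sylow 2 G) :
    ∃ n, 2 ≤ n ∧ Nonempty ((S : Subgroup G) ≃* DihedralGroup n) := by
  obtain ⟨B, hBc, hBS, ⟨v, hvS, hvB⟩, hsq, hmul, hB1⟩ := hD S
  obtain ⟨n, hn⟩ : ∃ n, n = Nat.card B := ⟨_, rfl⟩
  haveI : NeZero n := ⟨by omega⟩
  haveI := hBc
  refine ⟨n, by omega, ?_⟩
  obtain ⟨⟨r, hrB⟩, hr⟩ := IsCyclic.exists_generator (α := B)
  have hBz : B = zpowers r := le_antisymm (fun x hx => by
    obtain ⟨i, hi⟩ := hr ⟨x, hx⟩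
    exact ⟨i, congrArg Subtype.val hi⟩) (zpowers_le.2 hrB)
  have hvS' : (⟨v, hvS⟩ : (S : Subgroup G)) ∉ zpowers (⟨r, hBS hrB⟩ : (S : Subgroup G)) := by
    rintro ⟨i, hi⟩
    exact hvB (hBz ▸ ⟨i, congrArg Subtype.val hi⟩)
  refine PGroupsCyclic.nonempty_mulEquiv_dihedral (x := ⟨r, hBS hrB⟩) ?_ hvS'
    (Subtype.ext (inverts_of_out hBS hsq hvS hvB hrB))
    (Subtype.ext (by rw [pow_two]; exact hsq v hvS hvB)) ?_
  · rw [Subgroup.orderOf_mk, hn, hBz, Nat.card_zpowers]
  · obtain ⟨Q, hQ⟩ : ∃ Q, Q = B.subgroupOf (S : Subgroup G) := ⟨_, rfl⟩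
    have hQi : Q.index = 2 := by
      rw [index_eq_two_iff]
      refine ⟨⟨v, hvS⟩, fun b => ?_⟩
      simp only [hQ, mem_subgroupOf, Subgroup.coe_mul]
      by_cases hb : (b : G) ∈ B
      · exact Or.inr ⟨hb, fun h => hvB (by simpa using mul_mem (inv_mem hb) h)⟩
      · exact Or.inl ⟨hmul _ b.2 hb v hvS hvB, hb⟩
    rw [← Q.card_mul_index, hQi, hQ, Nat.card_congr (subgroupOfEquivOfLe hBS).toEquiv, hn, mul_comm]

section Fixed

variable [Finite G] {L : Subgroup G} [L.Normal] (hL : GWDih33.Hyp ↥L)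
  (hab : ∀ w : ↥L, orderOf w = 2 → ∀ a b : G, Commute (w : G) a → Commute (w : G) b →
    Odd (orderOf a) → Odd (orderOf b) → Commute a b)

include hL hab

/-- An odd element centralising `z` and an involution `x ≠ z` centralising it in `L` commutes with
every involution of `L` centralising `z`. -/
theorem comm_involution {z x y : ↥L} (hz : orderOf z = 2) (hx : orderOf x = 2) (hy : orderOf y = 2)
    (hxz : x ≠ z) (hyz : y ≠ z) (hzx : Commute z x) (hzy : Commute z y) {c : G}
    (hc : Odd (orderOf c)) (hcz : Commute (z : G) c) (hcx : Commute (x : G) c) :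
    Commute (y : G) c := by
  have hzy' : Commute (z : G) y := hzy.map L.subtype
  set a := (y : G) * c * (y : G)⁻¹ with ha
  have haz : Commute (z : G) a := (hzy'.mul_right hcz).mul_right hzy'.inv_right
  have haodd : Odd (orderOf a) := by rw [ha, order_conj]; exact hc
  have hac : Commute a c := hab z hz a c haz hcz haodd hc
  obtain ⟨o, ho⟩ : ∃ o : ↥L, (o : G) = a * c⁻¹ := ⟨⟨a * c⁻¹, by
    rw [ha, show (y : G) * c * (y : G)⁻¹ * c⁻¹ = (y : G) * (c * (y : G)⁻¹ * c⁻¹) by group]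
    exact mul_mem y.2 (Subgroup.Normal.conj_mem ‹_› _ (inv_mem y.2) c)⟩, rfl⟩
  have hodd : Odd (orderOf o) := by
    rw [← Subgroup.orderOf_coe, ho]
    exact odd_mul hac.inv_right haodd (by rwa [orderOf_inv])
  have hoz' : Commute (z : G) o := ho ▸ haz.mul_right hcz.inv_right
  have hoz : Commute z o := Subtype.ext hoz'.eq
  have hxo : (x : G) * o * (x : G)⁻¹ = (o : G)⁻¹ :=
    congrArg Subtype.val (hL.inv z x hz hx hxz hzx o hodd hoz)
  have hyo : (y : G) * o * (y : G)⁻¹ = (o : G)⁻¹ :=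
    congrArg Subtype.val (hL.inv z y hz hy hyz hzy o hodd hoz)
  set ρ := (x : G) * y with hρ
  have hρo : ρ * o * ρ⁻¹ = o := by
    rw [hρ, show (x : G) * y * o * ((x : G) * y)⁻¹ = x * ((y : G) * o * (y : G)⁻¹) * (x : G)⁻¹ by group,
      hyo, show (x : G) * (o : G)⁻¹ * (x : G)⁻¹ = ((x : G) * o * (x : G)⁻¹)⁻¹ by group, hxo, inv_inv]
  have hρc : ρ * c * ρ⁻¹ = (o : G)⁻¹ * c := by
    rw [hρ, show (x : G) * y * c * ((x : G) * y)⁻¹ = x * ((a * c⁻¹) * c) * (x : G)⁻¹ by rw [ha]; group,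
      ← ho, ← conj_mul, hxo, hcx.eq, mul_inv_cancel_right]
  have hpow : ∀ i : ℕ, ρ ^ i * c * (ρ ^ i)⁻¹ = ((o : G)⁻¹) ^ i * c := by
    intro i
    induction i with
    | zero => simp
    | succ i ih =>
      have hco : ρ * ((o : G)⁻¹) ^ i * ρ⁻¹ = ((o : G)⁻¹) ^ i := by
        rw [← conj_pow, show ρ * (o : G)⁻¹ * ρ⁻¹ = (ρ * o * ρ⁻¹)⁻¹ by group, hρo]
      calc ρ ^ (i + 1) * c * (ρ ^ (i + 1))⁻¹ = ρ * (ρ ^ i * c * (ρ ^ i)⁻¹) * ρ⁻¹ := by
            rw [pow_succ']; group
        _ = (ρ * ((o : G)⁻¹) ^ i * ρ⁻¹) * (ρ * c * ρ⁻¹) := by rw [ih, conj_mul]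
        _ = ((o : G)⁻¹) ^ (i + 1) * c := by rw [hco, hρc, pow_succ, mul_assoc]
  obtain ⟨k, m, hm, hkm⟩ := Nat.exists_eq_two_pow_mul_odd (n := orderOf ρ) (orderOf_pos ρ).ne'
  have hρk : Odd (orderOf (ρ ^ 2 ^ k)) := hm.of_dvd_nat (orderOf_dvd_of_pow_eq_one (by
    rw [← pow_mul, ← hkm, pow_orderOf_eq_one]))
  have hρz : Commute (z : G) (ρ ^ 2 ^ k) := ((hzx.map L.subtype).mul_right hzy').pow_right _
  have hcom := hab z hz _ c hρz hcz hρk hc
  have h := hpow (2 ^ k)
  rw [hcom.eq, mul_inv_cancel_right, eq_comm, mul_eq_right, inv_pow, inv_eq_one] at h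
  have ho1 : (o : G) = 1 := eq_one_of_two_pow (by rwa [Subgroup.orderOf_coe]) h
  rw [ho1] at ho
  have hac' : a = c := mul_inv_eq_one.1 ho.symm
  rw [commute_iff_eq, ← mul_inv_eq_iff_eq_mul]
  exact hac'

/-- An odd element centralising `z` and an involution `x ≠ z` centralising it in `L` centralises
the centralizer of `z` in `L`. -/
theorem comm_centralizer {z x : ↥L} (hz : orderOf z = 2) (hx : orderOf x = 2) (hxz : x ≠ z)
    (hzx : Commute z x) {c : G} (hc : Odd (orderOf c)) (hcz : Commute (z : G) c)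
    (hcx : Commute (x : G) c) : centralizer ({z} : Set ↥L) ≤ (centralizer ({c} : Set G)).comap L.subtype := by
  haveI : Fact (Nat.Prime 2) := ⟨Nat.prime_two⟩
  obtain ⟨S, hzS, hzZ⟩ := hL.exists_central_sylow hz
  obtain ⟨n, hn, ⟨eS⟩⟩ := hL.dih S
  obtain ⟨d, hd⟩ := GWDihIndex11.exists_dih_with S hn eS hz hzS hzZ
  refine le_trans (hL.cen_le_sup hz S (fun s hs => mem_centralizer_singleton_iff.2 (hzZ s hs)))
    (sup_le ?_ ?_)
  · intro o ho
    obtain ⟨hzo, hoodd⟩ := (hL.mem_om_iff hz).1 ho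
    rw [mem_comap, mem_centralizer_singleton_iff]
    exact hab z hz o c (hzo.map L.subtype) hcz (by rwa [Subgroup.orderOf_coe]) hc
  · have hrefl : ∀ w, d.Refl w → w ∈ (centralizer ({c} : Set G)).comap L.subtype := by
      intro w hw
      rw [mem_comap, mem_centralizer_singleton_iff]
      exact (comm_involution hL hab hz hx (GWDihBounds11.orderOf_refl d hw) hxz
        (hd ▸ GWDihBounds11.refl_ne_z d hw) hzx (hzZ w hw.1).symm hc hcz hcx).eq
    intro w hw
    by_cases hwr : w ∈ zpowers d.r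
    · have hw' : d.Refl (d.a * w) := d.refl_mul d.refl_a hwr
      rw [show w = d.a * (d.a * w) by rw [← mul_assoc, d.a2, one_mul]]
      exact mul_mem (hrefl _ d.refl_a) (hrefl _ hw')
    · exact hrefl w ⟨hw, hwr⟩

/-- The main claim: an odd element centralising two commuting involutions of `L` centralises `L`. -/
theorem comm_all {z r : ↥L} (hz : orderOf z = 2) (hr : orderOf r = 2) (hrz : r ≠ z)
    (hzr : Commute z r) (S : Sylow 2 ↥L) {n : ℕ} (hn : 2 ≤ n)
    (eS : ↥(S : Subgroup ↥L) ≃* DihedralGroup n) (hzS : z ∈ (S : Subgroup ↥L))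
    (hzZ : ∀ s ∈ (S : Subgroup ↥L), s * z = z * s)
    (ho : n = 2 → ∃ g : ↥L, Commute g z ∧ g ≠ 1 ∧ Odd (orderOf g))
    {c : G} (hc : Odd (orderOf c)) (hcz : Commute (z : G) c) (hcr : Commute (r : G) c) :
    ∀ l : ↥L, Commute (l : G) c := by
  haveI : Fact (Nat.Prime 2) := ⟨Nat.prime_two⟩
  obtain ⟨hzr2, hzrz, hzrr, hzzr, -⟩ := hL.pair hz hr hrz hzr
  set X := (centralizer ({c} : Set G)).comap L.subtype with hXdef
  have hmem : ∀ {l : ↥L}, l ∈ X ↔ Commute (l : G) c := fun {l} => by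
    rw [hXdef, mem_comap, mem_centralizer_singleton_iff]; rfl
  have hCX : centralizer ({z} : Set ↥L) ≤ X := comm_centralizer hL hab hz hr hrz hzr hc hcz hcr
  have hSX : (S : Subgroup ↥L) ≤ X := fun s hs => hCX (mem_centralizer_singleton_iff.2 (hzZ s hs))
  have hzX : z ∈ X := hmem.2 hcz
  have hrX : r ∈ X := hmem.2 hcr
  haveI := hL.simple
  suffices h : X = ⊤ from fun l => hmem.1 (h ▸ mem_top l)
  refine GWDihIndex11.no_one_class' hL.nonab S n hn eS hL.one z hz hzS hzZ ho X hCX 1 ?_ ?_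
  · -- four-groups are their own centralizers
    intro x hx hxz hzx
    set C := centralizer ({z, x} : Set ↥L) with hC
    obtain ⟨d, hd⟩ := GWDihIndex11.exists_dih_with S hn eS hz hzS hzZ
    have hCp : IsPGroup 2 C := by
      intro g
      obtain ⟨k, m, hm, hkm⟩ := Nat.exists_eq_two_pow_mul_odd (n := orderOf (g : ↥L)) (orderOf_pos _).ne'
      refine ⟨k, Subtype.ext ?_⟩
      obtain ⟨h1, h2⟩ := GWDihBounds11.mem_centralizer_pair.1 g.2
      rw [SubmonoidClass.coe_pow, OneMemClass.coe_one]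
      refine hL.eq_one_of_pair hz hx hxz hzx (hm.of_dvd_nat (orderOf_dvd_of_pow_eq_one (by
        rw [← pow_mul, ← hkm, pow_orderOf_eq_one]))) (h1.pow_right _) (h2.pow_right _)
    obtain ⟨b, hb⟩ := IsPGroup.iff_card.1 hCp
    have h3 : 3 ≤ Nat.card C := by
      have e3 : ({1, z, x} : Set ↥L).ncard = 3 :=
        Set.ncard_eq_three.2 ⟨1, z, x, (ne_one hz).symm, (ne_one hx).symm, hxz.symm, rfl⟩
      refine e3.symm.le.trans ?_
      refine le_of_le_of_eq ?_ (Nat.card_coe_set_eq (C : Set ↥L)).symm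
      refine Set.ncard_le_ncard ?_ (Set.toFinite _)
      rintro v (rfl | rfl | rfl) <;> rw [SetLike.mem_coe, hC, GWDihBounds11.mem_centralizer_pair]
      · exact ⟨Commute.one_right _, Commute.one_right _⟩
      · exact ⟨Commute.refl _, hzx.symm⟩
      · exact ⟨hzx, Commute.refl _⟩
    have hb2 : b ≤ 2 := by
      by_contra hlt
      refine GWDihBounds11.not_eight_dvd S d hz hx (Ne.symm hxz) hzx ?_
      rw [← hC, hb, show (8 : ℕ) = 2 ^ 3 by norm_num]
      exact pow_dvd_pow 2 (by omega)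
    rw [hb] at h3 ⊢
    interval_cases b <;> omega
  · -- one class of involutions in `X`
    intro w hwX hw
    -- a partner in `X`
    obtain ⟨p, hpX, hp, hpw, hwp⟩ : ∃ p ∈ X, orderOf p = 2 ∧ p ≠ w ∧ Commute w p := by
      have hp2 : IsPGroup 2 (zpowers (⟨w, hwX⟩ : X)) :=
        IsPGroup.of_card (n := 1) (by rw [Nat.card_zpowers, Subgroup.orderOf_mk, hw, pow_one])
      obtain ⟨g, hg⟩ := ProductFusion68.exists_conj_le (S.subtype hSX) hp2
      have h := hg _ (mem_zpowers _)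
      rw [Sylow.coe_subtype, mem_subgroupOf] at h
      simp only [Subgroup.coe_mul, Subgroup.coe_inv] at h
      have hconj : ∀ p : ↥L, p ∈ X → orderOf p = 2 → p ≠ (g : ↥L) * w * (g : ↥L)⁻¹ →
          Commute ((g : ↥L) * w * (g : ↥L)⁻¹) p → ∃ p ∈ X, orderOf p = 2 ∧ p ≠ w ∧ Commute w p := by
        intro p hpX hp hne hcom
        refine ⟨(g : ↥L)⁻¹ * p * g, mul_mem (mul_mem (inv_mem g.2) hpX) g.2, ?_, fun e => hne ?_, ?_⟩
        · conv_lhs => rw [show (g : ↥L)⁻¹ * p * g = (g : ↥L)⁻¹ * p * (g : ↥L)⁻¹⁻¹ by group, order_conj]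
          exact hp
        · rw [← e]; group
        · have := (Commute.conj_iff (g : ↥L)⁻¹).2 hcom
          rw [show (g : ↥L)⁻¹ * ((g : ↥L) * w * (g : ↥L)⁻¹) * (g : ↥L)⁻¹⁻¹ = w by group] at this
          rwa [inv_inv] at this
      by_cases e : (g : ↥L) * w * (g : ↥L)⁻¹ = z
      · exact hconj r hrX hr (e ▸ hrz) (e ▸ hzr)
      · exact hconj z hzX hz (Ne.symm e) (hzZ _ h)
    have hwC : centralizer ({w} : Set ↥L) ≤ X :=
      comm_centralizer hL hab hw hp hpw hwp hc (hmem.1 hwX) (hmem.1 hpX)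
    obtain ⟨g, hgz⟩ := isConj_iff.1 (hL.one z w hz hw)
    refine ⟨g, ?_, hgz⟩
    -- the second involution over `w`
    set v := g * r * g⁻¹ with hv
    have hv2 : orderOf v = 2 := by rw [hv, order_conj, hr]
    have hwv : Commute w v := by rw [← hgz]; exact (Commute.conj_iff g).2 hzr
    have hvw : v ≠ w := fun e => hrz (by
      rw [← hgz, hv] at e
      exact mul_left_cancel (mul_right_cancel e))
    have hvX : v ∈ X := hwC (mem_centralizer_singleton_iff.2 hwv.symm.eq)
    obtain ⟨e, he⟩ : ∃ e : ↥L, (e : G) = c * (g : G) * c⁻¹ * (g : G)⁻¹ :=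
      ⟨⟨c * (g : G) * c⁻¹ * (g : G)⁻¹,
        mul_mem (Subgroup.Normal.conj_mem ‹_› _ g.2 c) (inv_mem g.2)⟩, rfl⟩
    have hfix : ∀ u : ↥L, Commute (u : G) c → Commute ((g * u * g⁻¹ : ↥L) : G) c →
        Commute (g * u * g⁻¹) e := by
      intro u hu hu'
      refine Subtype.ext ?_
      simp only [Subgroup.coe_mul, Subgroup.coe_inv] at hu' ⊢
      rw [he]
      set U := (g : G) * u * (g : G)⁻¹ with hU
      have h1 : c⁻¹ * (u : G) = u * c⁻¹ := hu.inv_right.eq.symm
      calc U * (c * g * c⁻¹ * (g : G)⁻¹) = c * U * g * c⁻¹ * (g : G)⁻¹ := by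
            rw [← mul_assoc, ← mul_assoc, ← mul_assoc, hu'.eq]
        _ = c * g * (u * c⁻¹) * (g : G)⁻¹ := by rw [hU]; group
        _ = c * g * (c⁻¹ * u) * (g : G)⁻¹ := by rw [h1]
        _ = c * g * c⁻¹ * (g : G)⁻¹ * U := by rw [hU]; group
    have hwe : Commute w e := hgz ▸ hfix z hcz (by rw [hgz]; exact hmem.1 hwX)
    have hve : Commute v e := hfix r hcr (hmem.1 hvX)
    have hec : Commute (e : G) c := hmem.1 (hwC (mem_centralizer_singleton_iff.2 hwe.symm.eq))
    have hpow : ∀ i : ℕ, c ^ i * g * (c ^ i)⁻¹ = (e : G) ^ i * g := by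
      intro i
      induction i with
      | zero => simp
      | succ i ih =>
        calc c ^ (i + 1) * g * (c ^ (i + 1))⁻¹ = c * (c ^ i * g * (c ^ i)⁻¹) * c⁻¹ := by
              rw [pow_succ']; group
          _ = (e : G) ^ i * (c * g * c⁻¹) := by
              rw [ih, ← mul_assoc, (hec.symm.pow_right i).eq]; group
          _ = (e : G) ^ (i + 1) * g := by rw [pow_succ, he]; group
    have hem := hpow (orderOf c)
    rw [pow_orderOf_eq_one, one_mul, inv_one, mul_one] at hem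
    have heodd : Odd (orderOf e) := by
      rw [← Subgroup.orderOf_coe]
      exact hc.of_dvd_nat (orderOf_dvd_of_pow_eq_one (mul_eq_right.1 hem.symm))
    have he1 := hL.eq_one_of_pair hw hv2 hvw hwv heodd hwe hve
    rw [he1, Subgroup.coe_one, eq_comm, mul_inv_eq_one] at he
    rw [hmem, commute_iff_eq, eq_comm, ← mul_inv_eq_iff_eq_mul]
    exact he

end Fixed

variable [Finite G]

/-- All elements of odd order lie in `L`, or `L` is defined over a prime field. -/
theorem odd_mem (j : G) (A : Subgroup G) (hj : orderOf j = 2)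
    (hinv : ∀ x, Commute x j → x ∉ A → x * x = 1 ∧ ∀ a ∈ A, x * a * x⁻¹ = a⁻¹)
    (hone : ∀ a ∈ A, orderOf a = 2 → a = j) (hD : SylowDihedral G) (L : Subgroup G) [L.Normal]
    (hC : centralizer (L : Set G) = ⊥) (hL : GWDih33.Hyp ↥L) {F : Type} [Field F] [Fintype F]
    (hFodd : Odd (Fintype.card F)) (e : ↥L ≃* Matrix.ProjectiveSpecialLinearGroup (Fin 2) F) :
    (∀ g : G, Odd (orderOf g) → g ∈ L) ∨ (Fintype.card F).Prime := by
  haveI : Fact (Nat.Prime 2) := ⟨Nat.prime_two⟩
  obtain ⟨T⟩ : Nonempty (Sylow 2 ↥L) := inferInstance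
  obtain ⟨m, hm, ⟨eT⟩⟩ := hL.dih T
  -- an involution of `L` fixed by `j`
  obtain ⟨z, hz, hjz, hj'⟩ : ∃ z : ↥L, orderOf z = 2 ∧ Commute j z ∧ ((z : G) = j ∨ j ∉ L) := by
    by_cases hjL : j ∈ L
    · exact ⟨⟨j, hjL⟩, by rw [Subgroup.orderOf_mk, hj], Commute.refl j, Or.inl rfl⟩
    obtain ⟨S, hS⟩ := (IsPGroup.of_card (p := 2) (n := 1)
      (by rw [Nat.card_zpowers, hj, pow_one]) : IsPGroup 2 (zpowers j)).exists_le_sylow
    have hne : L.subgroupOf (S : Subgroup G) ≠ ⊥ := by
      obtain ⟨g, hg⟩ := ProductFusion68.exists_conj_le S (T.isPGroup'.map L.subtype)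
      obtain ⟨d, -⟩ := DihedralPair68.exists_dih T.2 hm eT
      intro h0
      have hmem : (⟨g * d.z * g⁻¹, hg _ ⟨d.z, d.z_mem, rfl⟩⟩ : (S : Subgroup G)) ∈
          L.subgroupOf (S : Subgroup G) :=
        mem_subgroupOf.2 (Subgroup.Normal.conj_mem ‹_› _ d.z.2 g)
      rw [h0, mem_bot, Subtype.ext_iff] at hmem
      exact d.z_ne (Subtype.ext (conj_eq_one_iff.1 hmem))
    haveI : Nontrivial ↥(L.subgroupOf (S : Subgroup G) ⊓ center ↥(S : Subgroup G)) :=
      (nontrivial_iff_ne_bot _).2 (PGroupsBasic.inf_center_ne_bot S.isPGroup' hne)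
    obtain ⟨b, hb0, hb⟩ := ((S.isPGroup'.to_subgroup
      (L.subgroupOf (S : Subgroup G) ⊓ center ↥(S : Subgroup G)))).nontrivial_iff_card.1 inferInstance
    obtain ⟨w, hw⟩ := exists_prime_orderOf_dvd_card' 2
      (hb ▸ dvd_pow_self 2 (by omega) :
        2 ∣ Nat.card ↥(L.subgroupOf (S : Subgroup G) ⊓ center ↥(S : Subgroup G)))
    refine ⟨⟨((w : (S : Subgroup G)) : G), mem_subgroupOf.1 w.2.1⟩, ?_, ?_, Or.inr hjL⟩
    · rw [← Subgroup.orderOf_coe]
      show orderOf (((w : (S : Subgroup G)) : G)) = 2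
      rw [Subgroup.orderOf_coe, Subgroup.orderOf_coe, hw]
    · exact congrArg Subtype.val (mem_center_iff.1 w.2.2 ⟨j, hS (mem_zpowers j)⟩)
  have hzG : orderOf (z : G) = 2 := by rw [Subgroup.orderOf_coe, hz]
  -- Frattini
  have hfrat : ∀ g : G, ∃ l ∈ L, Commute (z : G) (l⁻¹ * g) := by
    intro g
    have hw : orderOf (⟨g * z * g⁻¹, Subgroup.Normal.conj_mem ‹_› _ z.2 g⟩ : ↥L) = 2 := by
      rw [Subgroup.orderOf_mk, order_conj, hzG]
    obtain ⟨l, hl⟩ := isConj_iff.1 (hL.one z _ hz hw)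
    have hl' : (l : G) * z * (l : G)⁻¹ = g * z * g⁻¹ := congrArg Subtype.val hl
    refine ⟨l, l.2, ?_⟩
    rw [commute_iff_eq]
    calc (z : G) * ((l : G)⁻¹ * g) = (l : G)⁻¹ * ((l : G) * z * (l : G)⁻¹) * g := by group
      _ = (l : G)⁻¹ * g * z := by rw [hl']; group
  obtain ⟨S'⟩ : Nonempty (Sylow 2 G) := inferInstance
  obtain ⟨n', hn', hS'e⟩ := exists_equiv_dihedral hD S'
  obtain ⟨N, hN, hNodd, k, hk⟩ := Cfsg.Agent.S0514.result S' n' hn' hS'e (z : G) hzG
  haveI := hN
  have hNmem : ∀ a : G, Commute (z : G) a → Odd (orderOf a) →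
      ∃ h : a ∈ centralizer ({(z : G)} : Set G), (⟨a, h⟩ : centralizer ({(z : G)} : Set G)) ∈ N := by
    intro a ha hao
    have h : a ∈ centralizer ({(z : G)} : Set G) := mem_centralizer_singleton_iff.2 ha.symm.eq
    refine ⟨h, ?_⟩
    rw [← QuotientGroup.eq_one_iff]
    refine eq_one_of_two_pow (hao.of_dvd_nat ?_) (k := k) ?_
    · rw [← Subgroup.orderOf_mk a h]
      exact orderOf_map_dvd (QuotientGroup.mk' N) _
    · rw [← QuotientGroup.mk_pow, QuotientGroup.eq_one_iff, ← hk]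
      exact N.pow_index_mem _
  -- enough: odd elements centralising `z` lie in `L`
  suffices key : (∀ a : G, Commute (z : G) a → Odd (orderOf a) → a ∈ L) ∨ (Fintype.card F).Prime by
    refine key.imp_left fun key g hg => ?_
    obtain ⟨l, hl, hc⟩ := hfrat g
    set c := l⁻¹ * g with hcdef
    have hcC : c ∈ centralizer ({(z : G)} : Set G) := mem_centralizer_singleton_iff.2 hc.symm.eq
    have hcN : (⟨c, hcC⟩ : centralizer ({(z : G)} : Set G)) ^ 2 ^ k ∈ N := hk ▸ N.pow_index_mem _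
    have hcL : c ^ 2 ^ k ∈ L := key _ (hc.pow_right _) (by
      have := hNodd.of_dvd_nat (Subgroup.orderOf_dvd_natCard N hcN)
      rwa [← Subgroup.orderOf_coe, SubmonoidClass.coe_pow] at this)
    rw [← QuotientGroup.eq_one_iff]
    refine eq_one_of_two_pow (hg.of_dvd_nat (orderOf_map_dvd (QuotientGroup.mk' L) g)) (k := k) ?_
    rw [← QuotientGroup.mk_pow] at *
    have : (QuotientGroup.mk g : G ⧸ L) = QuotientGroup.mk c := by
      rw [hcdef, QuotientGroup.mk_mul, QuotientGroup.mk_inv, (QuotientGroup.eq_one_iff l).2 hl,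
        inv_one, one_mul]
    rw [QuotientGroup.mk_pow, this, ← QuotientGroup.mk_pow, QuotientGroup.eq_one_iff]
    exact hcL
  -- an element commuting with `z` and `j` of odd order
  obtain ⟨r, hr, hrz, hzr⟩ := hL.exists_partner hz
  have hrG : orderOf (r : G) = 2 := by rw [Subgroup.orderOf_coe, hr]
  have hA : ∀ a : G, Commute a j → Odd (orderOf a) → a ∈ A := by
    intro a ha hao
    by_contra hn
    rw [eq_one_of_two hao (hinv a ha hn).1] at hn
    exact hn (one_mem A)
  rcases hj' with hzj | hjL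
  · -- `j ∈ L`
    refine Or.inl fun a ha hao => ?_
    have hrj : Commute (r : G) j := hzj ▸ (hzr.map L.subtype).symm
    have hrA : (r : G) ∉ A := fun h => hrz (Subtype.ext (by rw [hzj]; exact hone _ h hrG))
    exact mem_of_inverted ‹_› r.2 hao ((hinv _ hrj hrA).2 a (hA a (hzj ▸ ha.symm) hao))
  -- `j ∉ L`
  have hzA : (z : G) ∉ A := fun h => hjL (hone _ h hzG ▸ z.2)
  have hfix : ∀ a : G, Commute (z : G) a → Commute a j → Odd (orderOf a) → a = 1 := by
    intro a ha haj hao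
    have h := (hinv _ hjz.symm hzA).2 a (hA a haj hao)
    rw [ha.eq, mul_inv_cancel_right] at h
    exact eq_one_of_two hao (by nth_rw 1 [h]; group)
  have hjC : j ∈ centralizer ({(z : G)} : Set G) := mem_centralizer_singleton_iff.2 hjz.eq
  have hjinv : ∀ a : G, Commute (z : G) a → Odd (orderOf a) → j * a * j⁻¹ = a⁻¹ := by
    intro a ha hao
    obtain ⟨h, haN⟩ := hNmem a ha hao
    let φ : MulAut N := MulAut.conjNormal (⟨j, hjC⟩ : centralizer ({(z : G)} : Set G))
    have hφ : ∀ x : N, (((φ x : N) : centralizer ({(z : G)} : Set G)) : G) =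
        j * ((x : centralizer ({(z : G)} : Set G)) : G) * j⁻¹ := fun x => by
      simp [φ, MulAut.conjNormal_apply]
    have hfpf : MonoidHom.FixedPointFree φ := by
      intro x hx
      refine Subtype.ext (Subtype.ext ?_)
      refine hfix _ (mem_centralizer_singleton_iff.1 (x : centralizer ({(z : G)} : Set G)).2).symm ?_ ?_
      · have := hφ x
        rw [hx, eq_mul_inv_iff_mul_eq] at this
        exact this
      · rw [Subgroup.orderOf_coe, Subgroup.orderOf_coe]
        exact hNodd.of_dvd_nat (orderOf_dvd_natCard x)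
    have hinvol : Function.Involutive φ := fun x => Subtype.ext (Subtype.ext (by
      rw [hφ, hφ, inv_self hj]
      calc j * (j * ((x : centralizer ({(z : G)} : Set G)) : G) * j) * j
          = (j * j) * ((x : centralizer ({(z : G)} : Set G)) : G) * (j * j) := by group
        _ = _ := by rw [mul_self hj, one_mul, mul_one]))
    have := hφ ⟨⟨a, h⟩, haN⟩
    rw [hfpf.coe_eq_inv_of_involutive hinvol] at this
    simpa using this.symm
  have habz : ∀ a b : G, Commute (z : G) a → Commute (z : G) b → Odd (orderOf a) → Odd (orderOf b) →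
      Commute a b := by
    intro a b ha hb hao hbo
    have hab : Odd (orderOf (a * b)) := by
      obtain ⟨_, h1⟩ := hNmem a ha hao
      obtain ⟨_, h2⟩ := hNmem b hb hbo
      have := hNodd.of_dvd_nat (Subgroup.orderOf_dvd_natCard N (mul_mem h1 h2))
      rwa [← Subgroup.orderOf_coe, Subgroup.coe_mul] at this
    have h := hjinv _ (ha.mul_right hb) hab
    rw [← conj_mul, hjinv a ha hao, hjinv b hb hbo, ← mul_inv_rev, inv_inj] at h
    exact h.symm
  have habL : ∀ w : ↥L, orderOf w = 2 → ∀ a b : G, Commute (w : G) a → Commute (w : G) b →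
      Odd (orderOf a) → Odd (orderOf b) → Commute a b := by
    intro w hw a b ha hb hao hbo
    obtain ⟨l, hl⟩ := isConj_iff.1 (hL.one w z hw hz)
    have hl' : (l : G) * w * (l : G)⁻¹ = z := congrArg Subtype.val hl
    refine (Commute.conj_iff (l : G)).1 (habz _ _ ?_ ?_ ?_ ?_)
    · exact hl' ▸ (Commute.conj_iff (l : G)).2 ha
    · exact hl' ▸ (Commute.conj_iff (l : G)).2 hb
    · rwa [order_conj]
    · rwa [order_conj]
  obtain ⟨S, hzS, hzZ⟩ := hL.exists_central_sylow hz
  obtain ⟨n, hn, ⟨eS⟩⟩ := hL.dih S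
  by_cases ho : n = 2 → ∃ g : ↥L, Commute g z ∧ g ≠ 1 ∧ Odd (orderOf g)
  · refine Or.inl fun a ha hao => ?_
    set b := (r : G) * a * (r : G)⁻¹ with hb
    have hzr' : Commute (z : G) r := hzr.map L.subtype
    have hbz : Commute (z : G) b := (hzr'.mul_right ha).mul_right hzr'.inv_right
    have hbodd : Odd (orderOf b) := by rw [hb, order_conj]; exact hao
    have hba : Commute b a := habz b a hbz ha hbodd hao
    have hcr : Commute (r : G) (b * a) := by
      rw [commute_iff_eq, ← mul_inv_eq_iff_eq_mul, ← conj_mul, ← hb]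
      rw [hba.eq]
      congr 1
      rw [hb, inv_self hrG, show (r : G) * ((r : G) * a * r) * r = ((r : G) * r) * a * ((r : G) * r) by group,
        mul_self hrG, one_mul, mul_one]
    have hall := comm_all hL habL hz hr hrz hzr S hn eS hzS hzZ ho (odd_mul hba hbodd hao)
      (hbz.mul_right ha) hcr
    have h1 : b * a ∈ centralizer (L : Set G) := mem_centralizer_iff.2 fun l hl => (hall ⟨l, hl⟩).eq
    rw [hC, mem_bot] at h1
    exact mem_of_inverted ‹_› r.2 hao (eq_inv_of_mul_eq_one_left h1)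
  · refine Or.inr ?_
    push Not at ho
    obtain ⟨rfl, ho⟩ := ho
    obtain ⟨d, hd⟩ := GWDihIndex11.exists_dih_with S hn eS hz hzS hzZ
    have hdk : d.k = 1 := by
      have h := GWDihBounds11.card_dih d
      rw [Nat.card_congr eS.toEquiv, DihedralGroup.nat_card] at h
      have h2 : 2 ^ d.k = 2 ^ 1 := by omega
      exact Nat.pow_right_injective le_rfl h2
    have hCp : IsPGroup 2 (centralizer ({z} : Set ↥L)) := by
      intro g
      obtain ⟨i, q, hq, hiq⟩ := Nat.exists_eq_two_pow_mul_odd (n := orderOf (g : ↥L)) (orderOf_pos _).ne'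
      refine ⟨i, Subtype.ext ?_⟩
      rw [SubmonoidClass.coe_pow, OneMemClass.coe_one]
      by_contra hne
      refine ho _ ?_ hne ?_
      · exact (show Commute (g : ↥L) z from mem_centralizer_singleton_iff.1 g.2).pow_left _
      · exact hq.of_dvd_nat (orderOf_dvd_of_pow_eq_one (by rw [← pow_mul, ← hiq, pow_orderOf_eq_one]))
    have hSC : (S : Subgroup ↥L) ≤ centralizer ({z} : Set ↥L) := fun s hs =>
      mem_centralizer_singleton_iff.2 (hzZ s hs)
    have hC4 : Nat.card (centralizer ({z} : Set ↥L)) = 4 := by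
      have hle : centralizer ({z} : Set ↥L) = (S : Subgroup ↥L) := S.3 hCp hSC
      rw [hle, Nat.card_congr eS.toEquiv, DihedralGroup.nat_card]
    have hk' : ∀ x : ↥L, orderOf x = 2 → x ≠ d.z → Commute d.z x →
        Nat.card (centralizer ({d.z, x} : Set ↥L)) = 4 * 1 := by
      intro x hx hxz hzx
      have hxS : x ∈ (S : Subgroup ↥L) :=
        S.3 hCp hSC ▸ mem_centralizer_singleton_iff.2 (hd ▸ hzx.symm.eq)
      refine le_antisymm ?_ ?_
      · rw [mul_one, ← hC4, ← hd]
        exact Subgroup.card_le_of_le (Subgroup.centralizer_le (Set.singleton_subset_iff.2 (Set.mem_insert _ _)))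
      · rw [mul_one, show (4 : ℕ) = Nat.card (S : Subgroup ↥L) by
          rw [Nat.card_congr eS.toEquiv, DihedralGroup.nat_card]]
        refine Subgroup.card_le_of_le fun s hs => GWDihBounds11.mem_centralizer_pair.2 ⟨?_, ?_⟩
        · exact (d.z_comm hs)
        · exact d.comm_of_k_one hdk hxS hs
    obtain ⟨-, hhi, -⟩ := GWDihBounds11.klein_formula S d hL.one hk' hdk
    rw [hd, hC4, Nat.card_congr e.toEquiv, PSLCard.card_PSL2_odd (by rwa [Nat.card_eq_fintype_card]),
      Nat.card_eq_fintype_card] at hhi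
    have h2 : 2 ≤ Fintype.card F := Fintype.one_lt_card
    have h5 : Fintype.card F ≤ 5 := by
      by_contra hlt
      have h36 := Nat.pow_le_pow_left (show 6 ≤ Fintype.card F by omega) 2
      have := Nat.mul_le_mul (show 6 ≤ Fintype.card F by omega)
        (show 35 ≤ Fintype.card F ^ 2 - 1 by omega)
      omega
    obtain ⟨t, ht⟩ := hFodd
    rcases (show Fintype.card F = 3 ∨ Fintype.card F = 5 by omega) with h | h <;> rw [h] <;> norm_num

end Cfsg.Agent.GWDihOutL11
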