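import Mathlib
import Cfsg.Agent.Lib.GWDihTools33
import Cfsg.Agent.Lib.GWDihIndex11
import Cfsg.Agent.Lib.GWDihKlein53
import Cfsg.Agent.Lib.GWDihFour72
import Cfsg.Agent.Lib.SimpleOrder
import Cfsg.Agent.Lib.PSLCard
import Cfsg.Agent.S0508
import Cfsg.Agent.Lib.GWDihCore33

/-!
The generalized dihedral core: assembling the tools and applying the Brauer-Suzuki-Wall theorem.
-/

set_option autoImplicit false
set_option linter.style.haveILetI false
set_option linter.unusedSectionVars false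

namespace Cfsg.Agent.GWDihPSL72

open Subgroup Cfsg.Agent.GWDih33

universe u

variable {G : Type u} [Group G] [Finite G]

theorem not_comm (h : Hyp G) : ¬ IsMulCommutative G :=
  fun hc => h.nonab.elim fun a ⟨b, hab⟩ => hab (hc.is_comm.comm a b)

/-- All odd cores are nontrivial once one is. -/
theorem nt_all (h : Hyp G) {z : G} (hz : orderOf z = 2) (hnt : Om z ≠ ⊥) :
    ∀ t : G, orderOf t = 2 → Om t ≠ ⊥ := by
  intro t ht e
  obtain ⟨g, hg⟩ := isConj_iff.1 (h.one z t hz ht)
  obtain ⟨⟨x, hx⟩, hx1⟩ := Subgroup.ne_bot_iff_exists_ne_one.1 hnt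
  have h1 := h.om_conj hz g hx
  rw [hg, e, Subgroup.mem_bot, conj_eq_one_iff] at h1
  exact hx1 (Subtype.ext h1)

/-- The centralizer of a four group has order four. -/
theorem card_four (h : Hyp G) {z x : G} (hz : orderOf z = 2) (hx : orderOf x = 2) (hne : x ≠ z)
    (hc : Commute z x) : Nat.card (centralizer ({z, x} : Set G)) = 4 := by
  haveI : Fact (Nat.Prime 2) := ⟨Nat.prime_two⟩
  set P := centralizer ({z, x} : Set G) with hP
  have hmem : ∀ g, g ∈ P ↔ Commute z g ∧ Commute x g := fun g => by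
    rw [hP, mem_centralizer_iff]
    simp [commute_iff_eq]
  have hP2 : IsPGroup 2 P := by
    intro g
    obtain ⟨a, m, hm, hgm⟩ := Nat.exists_eq_pow_mul_and_not_dvd (orderOf_pos (g : G)).ne' 2 (by norm_num)
    refine ⟨a, Subtype.ext ?_⟩
    have hodd : Odd (orderOf ((g : G) ^ 2 ^ a)) := by
      rw [orderOf_pow' _ (pow_ne_zero _ two_ne_zero), hgm,
        Nat.gcd_eq_right (Dvd.intro m rfl), Nat.mul_div_cancel_left _ (pow_pos two_pos a)]
      exact Nat.not_even_iff_odd.1 fun he => hm (even_iff_two_dvd.1 he)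
    have := (hmem g).1 g.2
    exact h.eq_one_of_pair hz hx hne hc hodd (this.1.pow_right _) (this.2.pow_right _)
  obtain ⟨S, hS⟩ := hP2.exists_le_sylow
  obtain ⟨n, hn, ⟨eS⟩⟩ := h.dih S
  obtain ⟨d, -⟩ := DihedralPair68.exists_dih S.isPGroup' hn eS
  have hzP : z ∈ P := (hmem z).2 ⟨Commute.refl z, hc.symm⟩
  have hxP : x ∈ P := (hmem x).2 ⟨hc, Commute.refl x⟩
  obtain ⟨w, hw, hwr⟩ : ∃ w, (w = z ∨ w = x) ∧ d.Refl w := by
    rcases d.cases_sq (hS hzP) (mul_self hz) (ne_one hz) with e | e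
    · rcases d.cases_sq (hS hxP) (mul_self hx) (ne_one hx) with e' | e'
      · exact absurd (e'.trans e.symm) hne
      · exact ⟨x, Or.inr rfl, e'⟩
    · exact ⟨z, Or.inl rfl, e⟩
  have hwc : ∀ g ∈ P, Commute w g := fun g hg => by
    rcases hw with rfl | rfl
    · exact ((hmem g).1 hg).1
    · exact ((hmem g).1 hg).2
  have hle : (P : Set G) ⊆ {1, d.z, w, w * d.z} := fun g hg => by
    rcases d.comm_refl hwr (hS hg) (hwc g hg) with e | e | e | e <;> simp [e]
  obtain ⟨hzx, hzx1, hzx2, -, -⟩ := h.pair hz hx hne hc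
  have hge : ({1, z, x, z * x} : Set G) ⊆ (P : Set G) := by
    intro g hg
    simp only [Set.mem_insert_iff, Set.mem_singleton_iff] at hg
    rcases hg with rfl | rfl | rfl | rfl
    · exact one_mem P
    · exact hzP
    · exact hxP
    · exact mul_mem hzP hxP
  have h4 : ({1, z, x, z * x} : Set G).ncard = 4 := by
    rw [Set.ncard_insert_of_notMem, Set.ncard_insert_of_notMem, Set.ncard_pair hzx2.symm]
    · simp [hne.symm, hzx1.symm]
    · simp [(ne_one hz).symm, (ne_one hx).symm, (ne_one hzx).symm]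
  have hle4 : ({1, d.z, w, w * d.z} : Set G).ncard ≤ 4 := by
    refine (Set.ncard_insert_le _ _).trans (Nat.succ_le_succ ((Set.ncard_insert_le _ _).trans
      (Nat.succ_le_succ ((Set.ncard_insert_le _ _).trans ?_))))
    simp
  refine le_antisymm ?_ ?_
  · rw [← SetLike.coe_sort_coe, Nat.card_coe_set_eq]
    exact (Set.ncard_le_ncard hle).trans hle4
  · rw [← SetLike.coe_sort_coe, Nat.card_coe_set_eq, ← h4]
    exact Set.ncard_le_ncard hge

theorem idx (h : Hyp G) (hnt : ∀ t : G, orderOf t = 2 → Om t ≠ ⊥) (z : G) (hz : orderOf z = 2)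
    (X : Subgroup G) (hCX : centralizer ({z} : Set G) ≤ X) (hX : X ≠ ⊤) :
    ∃ W : Subgroup G, W ≤ X ∧ Odd (Nat.card W) ∧ X ≤ normalizer (W : Set G) ∧
      ∀ g ∈ X, Odd (orderOf g) → g ∈ W := by
  haveI := h.simple
  obtain ⟨S, hzS, hzc⟩ := h.exists_central_sylow hz
  obtain ⟨n, hn, ⟨eS⟩⟩ := h.dih S
  refine GWDihIndex11.proper_two_nilpotent h.nonab S n hn eS h.one z hz hzS hzc ?_ X hCX
    (fun x hx hne hc => card_four h hz hx hne hc) hX
  obtain ⟨⟨g, hg⟩, hg1⟩ := Subgroup.ne_bot_iff_exists_ne_one.1 (hnt z hz)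
  exact ⟨g, (om_comm hg).symm, fun e => hg1 (Subtype.ext e), odd_of_mem (odd_om z) hg⟩

/-- The tools of the generalized dihedral core. -/
theorem tools (h : Hyp G) {z : G} (hz : orderOf z = 2) (hnt : Om z ≠ ⊥) : Tools G where
  hyp := h
  nt := nt_all h hz hnt
  idx := idx h (nt_all h hz hnt)
  four := fun W hW _ _ a b c d e f g => GWDihFour72.derived_nilpotent W hW a b c d e f g
  kill := fun S hS _ _ a b c d W hW e f g1 g2 =>
    GWDihKlein53.no_two_full h S hS a b c d W hW e f g1 g2 (nt_all h hz hnt _ a)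

/-- An involution centralising the odd core of `z` inside a 2-nilpotent subgroup is `z`. -/
theorem eq_of_fixes (h : Hyp G) {z t : G} (hz : orderOf z = 2) (ht : orderOf t = 2)
    (hnt : Om z ≠ ⊥) {X : Subgroup G} (hzX : z ∈ X) (htX : t ∈ X)
    (hodd : ∀ g ∈ X, Odd (orderOf g) → g ∈ Om z) (hfix : ∀ a ∈ Om z, Commute t a) : t = z := by
  have hcase : ∀ c : G, orderOf c = 2 → Commute z c → (∀ a ∈ Om z, Commute c a) → c = z := by
    intro c hc hzc hfc
    by_contra hne
    obtain ⟨⟨a, ha⟩, ha1⟩ := Subgroup.ne_bot_iff_exists_ne_one.1 hnt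
    exact ha1 (Subtype.ext (h.eq_one_of_pair hz hc hne hzc (odd_of_mem (odd_om z) ha) (om_comm ha)
      (hfc a ha)))
  set u := t * z with hu
  have hflip : z * u * z⁻¹ = u⁻¹ := by
    rw [hu, mul_inv_rev, inv_self hz, inv_self ht, mul_assoc z, mul_assoc t, mul_self hz, mul_one]
  rcases Nat.even_or_odd (orderOf u) with ⟨m, hm⟩ | hodd'
  · have hpos := orderOf_pos u
    have hc1 : u ^ m ≠ 1 := fun e => by
      have := Nat.le_of_dvd (by omega) (orderOf_dvd_of_pow_eq_one e)
      omega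
    have hcc : u ^ m * u ^ m = 1 := by rw [← pow_add, ← hm, pow_orderOf_eq_one]
    have hzc : Commute z (u ^ m) := by
      have e : z * u ^ m * z⁻¹ = u ^ m := by
        rw [← conj_pow, hflip, inv_pow, inv_eq_of_mul_eq_one_right hcc]
      exact mul_inv_eq_iff_eq_mul.1 e
    have hcz := hcase _ (order_two hcc hc1) hzc fun a ha =>
      ((hfix a ha).mul_left (om_comm ha)).pow_left m
    have hzu : Commute z u := by
      rw [← hcz]
      exact (Commute.refl u).pow_left m
    exact hcase t ht (by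
      have h1 : Commute z (u * z) := hzu.mul_right (Commute.refl z)
      rwa [hu, mul_assoc, mul_self hz, mul_one] at h1) hfix
  · have huO : u ∈ Om z := hodd u (mul_mem htX hzX) hodd'
    rw [(om_comm huO).eq, mul_inv_cancel_right] at hflip
    have hu1 : u = 1 := eq_one_of_two hodd' (by nth_rw 1 [hflip]; exact inv_mul_cancel u)
    rw [hu, mul_eq_one_iff_eq_inv, inv_self hz] at hu1
    exact hu1

/-- The normalizer condition of the Brauer-Suzuki-Wall theorem. -/
theorem normalizer_le (T : Tools G)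
    (hcore : ∀ {W : Subgroup G} {z : G}, orderOf z = 2 → Odd (Nat.card W) →
      centralizer ({z} : Set G) ≤ normalizer (W : Set G) → Om z ≤ W → W = Om z)
    {z : G} (hz : orderOf z = 2) {Y : Subgroup G} (hY : Y ≤ Om z) (hY1 : Y ≠ ⊥) :
    normalizer (Y : Set G) ≤ centralizer ({z} : Set G) := by
  have h := T.hyp
  haveI := h.simple
  have hCX : centralizer ({z} : Set G) ≤ normalizer (Y : Set G) := h.cen_norm hz hY
  have hX : normalizer (Y : Set G) ≠ ⊤ := by
    intro e
    rcases (Subgroup.normalizer_eq_top_iff.1 e).eq_bot_or_eq_top with e' | e'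
    · exact hY1 e'
    · have h1 := odd_of_mem (odd_om z) (hY (e' ▸ Subgroup.mem_top z : z ∈ Y))
      rw [hz] at h1
      exact absurd h1 (by decide)
  obtain ⟨W, -, hWodd, hWn, hWall⟩ := T.idx z hz _ hCX hX
  have hOW : Om z ≤ W := fun a ha => hWall a (hCX (om_le z ha)) (odd_of_mem (odd_om z) ha)
  obtain rfl := hcore hz hWodd (hCX.trans hWn) hOW
  intro g hg
  have hzX : z ∈ normalizer (Y : Set G) := hCX (self_mem_centralizer z)
  have hz' : g * z * g⁻¹ = z := by
    refine eq_of_fixes h hz (by rw [order_conj, hz]) (T.nt z hz) hzX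
      (mul_mem (mul_mem hg hzX) (inv_mem hg)) hWall fun a ha => ?_
    have h1 : g⁻¹ * a * g ∈ Om z := (mem_normalizer_iff''.1 (hWn hg) a).1 ha
    calc g * z * g⁻¹ * a = g * (z * (g⁻¹ * a * g)) * g⁻¹ := by group
      _ = g * ((g⁻¹ * a * g) * z) * g⁻¹ := by rw [(om_comm h1).eq]
      _ = a * (g * z * g⁻¹) := by group
  exact mem_centralizer_singleton_iff.2 (mul_inv_eq_iff_eq_mul.1 hz')

/-- A simple group is not of order `12`. -/
theorem card_ne_twelve (h : Hyp G) : Nat.card G ≠ 12 := by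
  intro hc
  haveI := h.simple
  haveI : Fact (Nat.Prime 2) := ⟨Nat.prime_two⟩
  obtain ⟨S⟩ : Nonempty (Sylow 2 G) := inferInstance
  obtain ⟨j, hj⟩ := S.isPGroup'.exists_card_eq
  have h1 := (S : Subgroup G).card_mul_index
  rw [hc, hj] at h1
  have h2 := S.not_dvd_index
  have hne : (S : Subgroup G) ≠ ⊤ := fun e => by
    rw [e, Subgroup.card_top, hc] at hj
    rcases j with _ | _ | _ | _ | j <;> simp [pow_succ] at hj <;> omega
  have h5 := SimpleOrder.five_le_index (not_comm h) _ hne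
  rcases j with _ | _ | j
  · simp at h1; omega
  · simp at h1; omega
  · have : 4 ≤ 2 ^ (j + 2) := by
      rw [pow_succ, pow_succ]
      have := Nat.one_le_two_pow (n := j)
      omega
    nlinarith

/-- The group is `PSL(2, q)`, given the determination of the odd subgroups over a core. -/
theorem psl_of_core (h : Hyp G)
    (hcore : Tools G → ∀ {W : Subgroup G} {z : G}, orderOf z = 2 → Odd (Nat.card W) →
      centralizer ({z} : Set G) ≤ normalizer (W : Set G) → Om z ≤ W → W = Om z) :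
    ∃ (F : Type) (_ : Field F) (_ : Fintype F), Odd (Fintype.card F) ∧ 3 < Fintype.card F ∧
      Nonempty (G ≃* Matrix.ProjectiveSpecialLinearGroup (Fin 2) F) := by
  haveI := h.simple
  haveI : Fact (Nat.Prime 2) := ⟨Nat.prime_two⟩
  obtain ⟨S⟩ : Nonempty (Sylow 2 G) := inferInstance
  obtain ⟨n, hn, ⟨eS⟩⟩ := h.dih S
  obtain ⟨k, hk, ψ, hψ, hr⟩ := DihedralSylow77.exists_embedding S n hn eS
  have hzS : ψ (DihedralGroup.r (k : ZMod (2 * k))) ∈ (S : Subgroup G) := hr ▸ ⟨_, rfl⟩
  have hz : orderOf (ψ (DihedralGroup.r (k : ZMod (2 * k)))) = 2 :=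
    DihedralSylow77.orderOf_z ψ hk hψ
  set z := ψ (DihedralGroup.r (k : ZMod (2 * k))) with hzdef
  have hzc : ∀ s ∈ (S : Subgroup G), s * z = z * s := by
    intro s hs
    rw [← hr] at hs
    obtain ⟨d, rfl⟩ := hs
    rw [hzdef, ← map_mul, ← map_mul]
    congr 1
    cases d with
    | r i => rw [DihedralGroup.r_mul_r, DihedralGroup.r_mul_r, add_comm]
    | sr i => rw [DihedralGroup.sr_mul_r, DihedralGroup.r_mul_sr, sub_eq_add_neg, DihedralSylow77.neg_k]
  have hb : ∀ s ∈ (S : Subgroup G), s ∉ centralizer (Om z : Set G) → ∀ y ∈ Om z, s * y * s⁻¹ = y⁻¹ := by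
    intro s hs hns
    refine (h.conj_pm hz (hzc s hs).symm).resolve_left fun e => hns ?_
    exact mem_centralizer_iff.2 fun c hc => (mul_inv_eq_iff_eq_mul.1 (e c hc)).symm
  have ha : Om z ≠ ⊥ → IsCyclic ((S : Subgroup G) ⊓ centralizer (Om z : Set G) : Subgroup G) ∧
      ((S : Subgroup G) ⊓ centralizer (Om z : Set G)).relIndex (S : Subgroup G) = 2 := by
    intro hnt
    obtain ⟨A, hA1, hAS, hA2, hzA⟩ := S0508.exists_cyclic S hk ψ hψ hr hz hzS hzc
    haveI := hA1
    obtain ⟨s, hsS, hsA, hs2, hsinv⟩ := S0508.exists_inverting S hk ψ hψ hr hz hzc hAS hA2 hzA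
    have hflip : ∀ a ∈ A, ∀ c ∈ Om z, (s * a) * c * (s * a)⁻¹ = c⁻¹ := by
      intro a ha c hc
      have hsa : s * a ∉ A := fun e => hsA (by simpa using mul_mem e (inv_mem ha))
      refine h.inv_om hz (order_two ?_ fun e => hsa (by rw [e]; exact one_mem A))
        (fun e => hsa (by rw [e]; exact hzA))
        (hzc _ (mul_mem hsS (hAS ha))).symm hc
      calc s * a * (s * a) = (s * a * s⁻¹) * (s * s) * a := by group
        _ = 1 := by rw [hsinv a ha, mul_self hs2, mul_one, inv_mul_cancel]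
    have heq : (S : Subgroup G) ⊓ centralizer (Om z : Set G) = A := by
      refine le_antisymm ?_ fun a ha => ⟨hAS ha, mem_centralizer_iff.2 fun c hc => ?_⟩
      · rintro y ⟨hyS, hyC⟩
        by_contra hyA
        have hsy : s⁻¹ * y ∈ A := by
          have := (Subgroup.mul_mem_iff_of_index_two (H := A.subgroupOf (S : Subgroup G)) hA2
            (a := ⟨s⁻¹, inv_mem hsS⟩) (b := ⟨y, hyS⟩)).2
            (iff_of_false (fun e => hsA (inv_mem_iff.1 e)) hyA)
          exact this
        obtain ⟨⟨c, hc⟩, hc1⟩ := Subgroup.ne_bot_iff_exists_ne_one.1 hnt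
        have h1 := hflip _ hsy c hc
        rw [mul_inv_cancel_left, (mem_centralizer_iff.1 hyC c hc).symm, mul_inv_cancel_right] at h1
        have hcc : c * c = 1 := by nth_rw 1 [h1]; exact inv_mul_cancel c
        exact hc1 (Subtype.ext (eq_one_of_two (odd_of_mem (odd_om z) hc) hcc))
      · have h1 := hflip a ha c hc
        have h2 := hflip 1 (one_mem A) c hc
        rw [mul_one, ← h1] at h2
        have h3 : a * c * a⁻¹ = c := by
          calc a * c * a⁻¹ = s⁻¹ * (s * a * c * (s * a)⁻¹) * s := by group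
            _ = s⁻¹ * (s * c * s⁻¹) * s := by rw [h2]
            _ = c := by group
        exact (mul_inv_eq_iff_eq_mul.1 h3).symm
    rw [heq]
    exact ⟨hA1, hA2⟩
  have hc : ∀ Y : Subgroup G, Y ≤ Om z → Y ≠ ⊥ → normalizer (Y : Set G) ≤ centralizer ({z} : Set G) := by
    intro Y hY hY1
    have hnt : Om z ≠ ⊥ := fun e => hY1 (le_bot_iff.1 (e ▸ hY))
    exact normalizer_le (tools h hz hnt) (hcore (tools h hz hnt)) hz hY hY1
  obtain ⟨F, iF, iFF, hF, ⟨e⟩⟩ :=
    Cfsg.Agent.S0508.result S n hn ⟨eS⟩ z hz hzS hzc (Om z) rfl ha hb hc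
  refine ⟨F, iF, iFF, hF, ?_, ⟨e⟩⟩
  by_contra hlt
  have h3 : Nat.card F = 3 := by
    rw [Nat.card_eq_fintype_card]
    have := Fintype.one_lt_card (α := F)
    rcases hF with ⟨j, hj⟩
    omega
  apply card_ne_twelve h
  rw [Nat.card_congr e.toEquiv]
  have h1 := PSLCard.card_PSL_mul (F := F) 2
  have h2 := PSLCard.card_SL (F := F) 2
  rw [h3] at h1 h2
  simp [Fin.prod_univ_two, -Nat.card_eq_fintype_card] at h1 h2
  omega

/-- The generalized dihedral core is `PSL(2, q)`, `q` odd, `q > 3`. -/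
theorem psl (h : Hyp G) :
    ∃ (F : Type) (_ : Field F) (_ : Fintype F), Odd (Fintype.card F) ∧ 3 < Fintype.card F ∧
      Nonempty (G ≃* Matrix.ProjectiveSpecialLinearGroup (Fin 2) F) :=
  psl_of_core h fun T {_ _} hz hW hn hO => GWDih33.eq_om T hz hW hn hO

end Cfsg.Agent.GWDihPSL72
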