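import Mathlib
import Cfsg.Prelude.Def_Solvable
import Cfsg.Agent.Lib.RealChars
import Cfsg.Agent.Lib.HallCore

/-!
A real element of odd order of a quotient lifts to a real element of odd order, whatever the kernel.
-/

set_option autoImplicit false

namespace Cfsg.Agent.RealGraph52

universe u v

variable {G : Type u} [Group G] [Finite G] {Q : Type v} [Group Q]

/-- The induction step: a subgroup containing a lift and a lift of an inverter. -/
theorem exists_real_odd_lift_aux (f : G →* Q) {y : Q} (hy : Odd (orderOf y)) :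
    ∀ (n : ℕ) (H : Subgroup G), Nat.card H = n →
      (∃ a ∈ H, f a = y) → (∃ g ∈ H, f g * y * (f g)⁻¹ = y⁻¹) →
      ∃ x : G, f x = y ∧ Odd (orderOf x) ∧ IsConj x x⁻¹ := by
  classical
  intro n
  induction n using Nat.strong_induction_on with
  | _ n ih =>
  rintro H hn ⟨a, haH, hfa⟩ ⟨g, hgH, hg⟩
  -- elements normalising the cyclic group of `y`
  set Z : Subgroup Q := Subgroup.zpowers y with hZ
  set H₀ : Subgroup G := H ⊓ (Subgroup.normalizer (Z : Set Q)).comap f with hH₀
  set P : Subgroup G := H ⊓ Z.comap f with hP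
  have haP : a ∈ P := Subgroup.mem_inf.2 ⟨haH, by rw [Subgroup.mem_comap, hfa]; exact Subgroup.mem_zpowers y⟩
  have hPH₀ : P ≤ H₀ := inf_le_inf_left _ (Subgroup.comap_mono Subgroup.le_normalizer)
  have hgH₀ : g ∈ H₀ := by
    refine Subgroup.mem_inf.2 ⟨hgH, ?_⟩
    rw [Subgroup.mem_comap, Subgroup.mem_normalizer_iff]
    have hin : ∀ z ∈ Z, f g * z * (f g)⁻¹ ∈ Z := by
      rintro z ⟨i, rfl⟩
      refine ⟨-i, ?_⟩
      show y ^ (-i) = f g * y ^ i * (f g)⁻¹
      rw [← conj_zpow, hg, inv_zpow, zpow_neg]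
    intro z
    refine ⟨hin z, fun hz => ?_⟩
    have hmap : Z.map (MulAut.conj (f g)).toMonoidHom = Z := by
      rw [hZ, MonoidHom.map_zpowers]
      show Subgroup.zpowers (f g * y * (f g)⁻¹) = _
      rw [hg, Subgroup.zpowers_inv]
    rw [← hmap] at hz
    obtain ⟨w, hw, hwz⟩ := hz
    have : f g * w * (f g)⁻¹ = f g * z * (f g)⁻¹ := hwz
    rw [mul_left_inj, mul_right_inj] at this
    exact this ▸ hw
  by_cases hall : ∀ q : ℕ, q.Prime → Odd q → ∀ R : Sylow q ↥P,
      ∀ h ∈ H₀, h ∈ Subgroup.normalizer (((R : Subgroup ↥P).map P.subtype : Subgroup G) : Set G)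
  · -- all Sylow subgroups of odd order are normal: use the odd core
    set O : Subgroup ↥P := Cfsg.pPrimeCore 2 ↥P with hO
    have hOodd : Odd (Nat.card O) := Nat.coprime_two_right.1 (HallCore.coprime_card_pPrimeCore 2 ↥P)
    haveI : O.Characteristic := HallCore.pPrimeCore_characteristic 2 ↥P
    have hle : ∀ q : ℕ, q.Prime → Odd q → ∀ R : Sylow q ↥P, (R : Subgroup ↥P) ≤ O := by
      intro q hq hqodd R
      haveI := Fact.mk hq
      refine le_sSup ⟨⟨fun r hr p => ?_⟩, ?_⟩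
      · have h := (Subgroup.mem_normalizer_iff.1 (hall q hq hqodd R _ (hPH₀ p.2)) (r : G)).1
          ⟨r, hr, rfl⟩
        obtain ⟨r', hr', hrr⟩ := h
        have : r' = p * r * p⁻¹ := Subtype.ext hrr
        exact this ▸ hr'
      · obtain ⟨k, hk⟩ := IsPGroup.iff_card.mp R.2
        rw [hk]
        exact Nat.Coprime.pow_left k (Nat.coprime_two_right.2 hqodd)
    have hindex : ∀ q : ℕ, q.Prime → q ∣ O.index → q = 2 := by
      intro q hq hdvd
      by_contra hne
      haveI := Fact.mk hq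
      obtain ⟨R⟩ := (inferInstance : Nonempty (Sylow q ↥P))
      have h1 := R.not_dvd_index
      exact h1 (hdvd.trans (Subgroup.index_dvd_of_le (hle q hq (hq.odd_of_ne_two hne) R)))
    have hcop : (orderOf y).Coprime O.index := by
      refine Nat.coprime_of_dvd fun q hq hqy hqi => ?_
      rw [hindex q hq hqi] at hqy
      exact (Nat.not_even_iff_odd.2 hy) (even_iff_two_dvd.2 hqy)
    obtain ⟨m, hm⟩ := exists_pow_eq_self_of_coprime hcop.symm
    set a' : ↥P := (⟨a, haP⟩ ^ O.index) ^ m with ha'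
    have ha'O : a' ∈ O := O.pow_mem (Subgroup.pow_index_mem O _) m
    have hfa' : f (a' : G) = y := by
      rw [ha', SubmonoidClass.coe_pow, SubmonoidClass.coe_pow, map_pow, map_pow, hfa, hm]
    set O' : Subgroup G := O.map P.subtype with hO'
    have hO'H : O' ≤ H₀ := fun x hx => by
      obtain ⟨z, -, rfl⟩ := hx
      exact hPH₀ z.2
    have hPnorm : ∀ h ∈ H₀, ∀ p ∈ P, h * p * h⁻¹ ∈ P := by
      rintro h ⟨hh, hh'⟩ p ⟨hp, hp'⟩
      refine Subgroup.mem_inf.2 ⟨mul_mem (mul_mem hh hp) (inv_mem hh), ?_⟩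
      rw [Subgroup.mem_comap, map_mul, map_mul, map_inv]
      exact (Subgroup.mem_normalizer_iff.1 hh' _).1 hp'
    have hO'norm : ∀ h ∈ H₀, ∀ p ∈ O', h * p * h⁻¹ ∈ O' := by
      rintro h hh _ ⟨z, hz, rfl⟩
      let φ : ↥P ≃* ↥P :=
        { toFun := fun p => ⟨h * p * h⁻¹, hPnorm h hh p p.2⟩
          invFun := fun p => ⟨h⁻¹ * p * h, by simpa using hPnorm h⁻¹ (inv_mem hh) p p.2⟩
          left_inv := fun p => Subtype.ext (by group)
          right_inv := fun p => Subtype.ext (by group)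
          map_mul' := fun p p' => Subtype.ext (by simp only [Subgroup.coe_mul]; group) }
      have h1 : φ z ∈ O.map φ.toMonoidHom := Subgroup.mem_map_of_mem _ hz
      rw [Subgroup.characteristic_iff_map_eq.1 inferInstance φ] at h1
      exact ⟨φ z, h1, rfl⟩
    set M : Subgroup ↥H₀ := (O' ⊓ f.ker).subgroupOf H₀ with hM
    haveI : M.Normal := ⟨fun x hx h => by
      refine Subgroup.mem_subgroupOf.2 ⟨hO'norm h h.2 x (Subgroup.mem_subgroupOf.1 hx).1, ?_⟩
      exact (inferInstance : f.ker.Normal).conj_mem x (Subgroup.mem_subgroupOf.1 hx).2 h⟩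
    have hO'card : Nat.card O' = Nat.card O :=
      (Nat.card_congr (O.equivMapOfInjective P.subtype P.subtype_injective).toEquiv).symm
    have hMle : M ≤ O'.subgroupOf H₀ := fun x hx =>
      Subgroup.mem_subgroupOf.2 (Subgroup.mem_subgroupOf.1 hx).1
    have hO'0 : Odd (Nat.card (O'.subgroupOf H₀)) := by
      rw [Nat.card_congr (Subgroup.subgroupOfEquivOfLe hO'H).toEquiv, hO'card]
      exact hOodd
    have hModd : Odd (Nat.card M) := hO'0.of_dvd_nat (Subgroup.card_dvd_of_le hMle)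
    let A : ↥H₀ := ⟨(a' : G), hPH₀ a'.2⟩
    have hconj : IsConj (A : ↥H₀ ⧸ M) (A : ↥H₀ ⧸ M)⁻¹ := by
      rw [isConj_iff]
      refine ⟨((⟨g, hgH₀⟩ : ↥H₀) : ↥H₀ ⧸ M), ?_⟩
      rw [eq_inv_iff_mul_eq_one, ← QuotientGroup.mk_inv, ← QuotientGroup.mk_mul, ← QuotientGroup.mk_mul,
        ← QuotientGroup.mk_mul, QuotientGroup.eq_one_iff]
      refine Subgroup.mem_subgroupOf.2 ⟨?_, ?_⟩
      · exact mul_mem (hO'norm g hgH₀ _ ⟨a', ha'O, rfl⟩) ⟨a', ha'O, rfl⟩
      · show f (g * (a' : G) * g⁻¹ * (a' : G)) = 1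
        rw [map_mul, map_mul, map_mul, map_inv, hfa', hg, inv_mul_cancel]
    obtain ⟨x, hxA, hxr⟩ := RealChars.exists_real_lift M hModd A hconj
    have hmem : A⁻¹ * x ∈ M := QuotientGroup.eq.1 hxA.symm
    have hxO : x ∈ O'.subgroupOf H₀ := by
      have := mul_mem (show A ∈ O'.subgroupOf H₀ from Subgroup.mem_subgroupOf.2 ⟨a', ha'O, rfl⟩)
        (hMle hmem)
      rwa [mul_inv_cancel_left] at this
    refine ⟨(x : G), ?_, ?_, ?_⟩
    · have h1 : f ((A : G)⁻¹ * (x : G)) = 1 := (Subgroup.mem_subgroupOf.1 hmem).2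
      rw [map_mul, map_inv, inv_mul_eq_one] at h1
      rw [← h1]
      exact hfa'
    · rw [Subgroup.orderOf_coe]
      have := hO'0.of_dvd_nat (Subgroup.orderOf_dvd_natCard _ hxO)
      exact this
    · exact (H₀.subtype).map_isConj hxr
  · push Not at hall
    obtain ⟨q, hq, -, R, h, hh, hnot⟩ := hall
    haveI := Fact.mk hq
    set R' : Subgroup G := (R : Subgroup ↥P).map P.subtype with hR'
    have hR'P : R' ≤ P := fun x hx => by
      obtain ⟨z, -, rfl⟩ := hx
      exact z.2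
    set M : Subgroup G := H ⊓ (R'.map f).comap f with hM
    have hR'M : R' ≤ M := le_inf (hR'P.trans inf_le_left) (Subgroup.le_comap_map f R')
    have hMP : M ≤ P := inf_le_inf_left _ (Subgroup.comap_mono (by
      rintro _ ⟨x, hx, rfl⟩
      exact (hR'P hx).2))
    have hMnorm : ∀ k ∈ H₀, ∀ m ∈ M, k * m * k⁻¹ ∈ M := by
      rintro k ⟨hk, hk'⟩ m ⟨hm, hm'⟩
      refine Subgroup.mem_inf.2 ⟨mul_mem (mul_mem hk hm) (inv_mem hk), ?_⟩
      rw [Subgroup.mem_comap, map_mul, map_mul, map_inv]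
      obtain ⟨r, hr, hrm⟩ := hm'
      obtain ⟨i, hi⟩ := (Subgroup.mem_normalizer_iff.1 hk' y).1 (Subgroup.mem_zpowers y)
      obtain ⟨j, hj⟩ := (hR'P hr).2
      have hj' : y ^ j = f r := hj
      have hi' : y ^ i = f k * y * (f k)⁻¹ := hi
      have hkey : f k * f m * (f k)⁻¹ = f (r ^ i) := by
        rw [← hrm, map_zpow, ← hj', ← conj_zpow, ← hi', ← zpow_mul, ← zpow_mul, mul_comm]
      rw [hkey]
      exact Subgroup.mem_map_of_mem _ (zpow_mem hr i)
    set MH : Subgroup ↥H₀ := M.subgroupOf H₀ with hMH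
    haveI hMHn : MH.Normal := ⟨fun x hx k =>
      Subgroup.mem_subgroupOf.2 (hMnorm k k.2 x (Subgroup.mem_subgroupOf.1 hx))⟩
    -- `R'` is a Sylow subgroup of `M`
    set RM : Subgroup ↥MH := ((R'.subgroupOf H₀).subgroupOf MH) with hRM
    have hR'H : R' ≤ H₀ := hR'P.trans hPH₀
    have hRMle : R'.subgroupOf H₀ ≤ MH := fun x hx => Subgroup.mem_subgroupOf.2 (hR'M (Subgroup.mem_subgroupOf.1 hx))
    have hcardR : Nat.card RM = Nat.card R' := by
      rw [hRM, Nat.card_congr (Subgroup.subgroupOfEquivOfLe hRMle).toEquiv,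
        Nat.card_congr (Subgroup.subgroupOfEquivOfLe hR'H).toEquiv]
    have hR'card : Nat.card R' = Nat.card (R : Subgroup ↥P) :=
      (Nat.card_congr ((R : Subgroup ↥P).equivMapOfInjective P.subtype P.subtype_injective).toEquiv).symm
    have hMHcard : Nat.card MH ∣ Nat.card P := by
      rw [hMH, Nat.card_congr (Subgroup.subgroupOfEquivOfLe (hMP.trans hPH₀)).toEquiv]
      exact Subgroup.card_dvd_of_le hMP
    have hsyl : Nat.card RM = q ^ (Nat.card MH).factorization q := by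
      rw [hcardR, hR'card, R.card_eq_multiplicity]
      refine congrArg _ (le_antisymm ?_ ?_)
      · have h1 : q ^ (Nat.card P).factorization q ∣ Nat.card MH := by
          rw [← R.card_eq_multiplicity, ← hR'card, ← hcardR]
          exact Subgroup.card_subgroup_dvd_card RM
        exact (hq.pow_dvd_iff_le_factorization Nat.card_pos.ne').1 h1
      · exact (Nat.factorization_le_iff_dvd Nat.card_pos.ne' Nat.card_pos.ne').2 hMHcard q
    let RS : Sylow q ↥MH := Sylow.ofCard RM hsyl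
    have hfr := Sylow.normalizer_sup_eq_top RS
    have hRSco : (RS : Subgroup ↥MH) = RM := Sylow.coe_ofCard RM hsyl
    rw [hRSco, hRM, Subgroup.map_subgroupOf_eq_of_le hRMle] at hfr
    set N : Subgroup G := H₀ ⊓ Subgroup.normalizer (R' : Set G) with hN
    -- every element of `H₀` has the image of an element of `N`
    have himage : ∀ k ∈ H₀, ∃ k' ∈ N, f k' = f k := by
      intro k hk
      have hktop : (⟨k, hk⟩ : ↥H₀) ∈ Subgroup.normalizer ((R'.subgroupOf H₀ : Subgroup ↥H₀) : Set ↥H₀) ⊔ MH := by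
        rw [hfr]; exact Subgroup.mem_top _
      rw [sup_comm, Subgroup.mem_sup_of_normal_left] at hktop
      obtain ⟨m, hm, nn, hnn, hmn⟩ := hktop
      obtain ⟨r, hr, hfr'⟩ := (Subgroup.mem_subgroupOf.1 hm).2
      have hnG : (nn : G) ∈ Subgroup.normalizer (R' : Set G) := by
        rw [Subgroup.mem_normalizer_iff] at hnn ⊢
        intro z
        constructor
        · intro hz
          exact (hnn ⟨z, hR'H hz⟩).1 hz
        · intro hz
          have hzH : z ∈ H₀ := by
            have := mul_mem (mul_mem (inv_mem nn.2) (hR'H hz)) nn.2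
            simpa [mul_assoc] using this
          exact (hnn ⟨z, hzH⟩).2 hz
      refine ⟨r * (nn : G), mul_mem ?_ ⟨nn.2, hnG⟩, ?_⟩
      · exact ⟨hR'H hr, Subgroup.le_normalizer hr⟩
      · rw [map_mul, hfr', ← map_mul]
        exact congrArg (fun z : ↥H₀ => f (z : G)) hmn
    have hlt : Nat.card N < n := by
      rw [← hn]
      have hNH : N ≤ H := inf_le_left.trans inf_le_left
      have hne : N ≠ H := fun e => hnot ((e ▸ hh.1 : h ∈ N).2)
      exact Set.Finite.card_lt_card (Set.toFinite _) (lt_of_le_of_ne hNH fun e => hne (SetLike.coe_injective e))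
    obtain ⟨a₁, ha₁, hfa₁⟩ := himage a (hPH₀ haP)
    obtain ⟨g₁, hg₁, hfg₁⟩ := himage g hgH₀
    exact ih _ hlt N rfl ⟨a₁, ha₁, hfa₁.trans hfa⟩ ⟨g₁, hg₁, by rw [hfg₁]; exact hg⟩

/-- A real element of odd order of a quotient lifts to a real element of odd order. -/
theorem exists_real_odd_lift (f : G →* Q) (hf : Function.Surjective f) {y : Q}
    (hy : Odd (orderOf y)) (hr : IsConj y y⁻¹) :
    ∃ x : G, f x = y ∧ Odd (orderOf x) ∧ IsConj x x⁻¹ := by
  obtain ⟨c, hc⟩ := isConj_iff.1 hr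
  obtain ⟨g, rfl⟩ := hf c
  obtain ⟨a, ha⟩ := hf y
  exact exists_real_odd_lift_aux f hy _ ⊤ rfl ⟨a, Subgroup.mem_top a, ha⟩ ⟨g, Subgroup.mem_top g, hc⟩

end Cfsg.Agent.RealGraph52
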