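import Mathlib
import Cfsg.Agent.Lib.RealGraph52Lift

/-!
Groups acting irreducibly on an elementary abelian 2-group such that the centraliser of a real element of odd
order is transitive on every orbit: basic facts, and the key fact that two commuting involutions cannot cross-invert
two commuting elements of odd order.
-/

set_option autoImplicit false
set_option linter.style.haveILetI false

namespace Cfsg.Agent.RealGraph52

universe u v

/-- The hypothesis of the module theorem. -/
structure Hyp (W : Type u) (V : Type v) [Group W] [CommGroup V] [MulDistribMulAction W V] : Prop where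
  two : ∀ a : V, a * a = 1
  nontriv : ∃ a : V, a ≠ 1
  faith : ∀ w : W, (∀ a : V, w • a = a) → w = 1
  irr : ∀ U : Subgroup V, (∀ (w : W), ∀ a ∈ U, w • a ∈ U) → U = ⊥ ∨ U = ⊤
  odd : ∀ a : V, a ≠ 1 → Odd (MulAction.stabilizer W a).index
  solv : ∀ a : V, a ≠ 1 → Group.IsSolvable ↥(MulAction.stabilizer W a)
  trans : ∀ y : W, Odd (orderOf y) → y ≠ 1 → IsConj y y⁻¹ → ∀ a : V, a ≠ 1 → ∀ g : W,
    ∃ c : W, c * y = y * c ∧ c • a = g • a

variable {W : Type u} {V : Type v} [Group W] [Finite W] [CommGroup V] [Finite V] [MulDistribMulAction W V]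

/-- `w` is an involution inverting `y`. -/
def Inverts (w y : W) : Prop := orderOf w = 2 ∧ w * y * w⁻¹ = y⁻¹

/-- The fixed points of an element. -/
def fx (V : Type v) [CommGroup V] [MulDistribMulAction W V] (w : W) : Subgroup V where
  carrier := {a | w • a = a}
  one_mem' := smul_one w
  mul_mem' {a b} (ha : w • a = a) (hb : w • b = b) := show w • (a * b) = a * b by rw [smul_mul', ha, hb]
  inv_mem' {a} (ha : w • a = a) := show w • a⁻¹ = a⁻¹ by rw [smul_inv', ha]

omit [Finite W] [Finite V] in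
theorem mem_fx {w : W} {a : V} : a ∈ fx V w ↔ w • a = a := Iff.rfl

omit [Finite W] in
theorem inv_mul_self {w : W} (hw : orderOf w = 2) : w * w = 1 := by
  have := pow_orderOf_eq_one w
  rwa [hw, pow_two] at this

omit [Finite W] [Finite V] in
theorem Inverts.isConj {w y : W} (h : Inverts w y) : IsConj y y⁻¹ := isConj_iff.2 ⟨w, h.2⟩

theorem orbit_span (h : Hyp W V) {a : V} (ha : a ≠ 1) :
    Subgroup.closure (Set.range fun w : W => w • a) = ⊤ := by
  refine (h.irr _ fun w b hb => ?_).resolve_left fun e => ha ?_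
  · have : Subgroup.closure (Set.range fun w : W => w • a) ≤
        (Subgroup.closure (Set.range fun w : W => w • a)).comap (MulDistribMulAction.toMonoidHom V w) := by
      rw [Subgroup.closure_le]
      rintro _ ⟨w', rfl⟩
      exact Subgroup.subset_closure ⟨w * w', mul_smul _ _ _⟩
    exact this hb
  · have : a ∈ (⊥ : Subgroup V) := e ▸ Subgroup.subset_closure ⟨1, one_smul W a⟩
    simpa using this

/-- A subgroup invariant under the centraliser of a real element of odd order is trivial or everything. -/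
theorem invariant_centralizer (h : Hyp W V) {y : W} (hy : Odd (orderOf y)) (hy1 : y ≠ 1)
    (hr : IsConj y y⁻¹) (U : Subgroup V) (hU : ∀ c : W, c * y = y * c → ∀ a ∈ U, c • a ∈ U) :
    U = ⊥ ∨ U = ⊤ := by
  by_cases hb : U = ⊥
  · exact Or.inl hb
  refine Or.inr ?_
  obtain ⟨a, haU, ha⟩ := Subgroup.bot_or_exists_ne_one U |>.resolve_left hb
  rw [eq_top_iff, ← orbit_span h ha, Subgroup.closure_le]
  rintro _ ⟨g, rfl⟩
  obtain ⟨c, hc, hca⟩ := h.trans y hy hy1 hr a ha g
  show g • a ∈ U
  rw [← hca]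
  exact hU c hc a haU

/-- Real elements of odd order act without fixed points. -/
theorem fpf (h : Hyp W V) {y : W} (hy : Odd (orderOf y)) (hy1 : y ≠ 1) (hr : IsConj y y⁻¹)
    {a : V} (ha : y • a = a) : a = 1 := by
  by_contra hne
  rcases invariant_centralizer h hy hy1 hr (fx V y) (fun c hc b hb => by
    rw [mem_fx] at hb ⊢
    rw [← mul_smul, ← hc, mul_smul, hb]) with e | e
  · have : a ∈ (⊥ : Subgroup V) := e ▸ ha
    exact hne (by simpa using this)
  · exact hy1 (h.faith y fun b => show b ∈ fx V y from e ▸ Subgroup.mem_top b)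

theorem card_two_power (h : Hyp W V) : IsPGroup 2 V := fun a => ⟨1, by rw [pow_one, pow_two, h.two]⟩

/-- A 2-group fixes a nontrivial vector. -/
theorem exists_fixed (h : Hyp W V) (N : Subgroup W) (hN : IsPGroup 2 N) :
    ∃ a : V, a ≠ 1 ∧ ∀ n ∈ N, n • a = a := by
  haveI : Fact (Nat.Prime 2) := ⟨Nat.prime_two⟩
  obtain ⟨a₀, ha₀⟩ := h.nontriv
  obtain ⟨k, hk⟩ := IsPGroup.iff_card.mp (card_two_power h)
  have hdvd : 2 ∣ Nat.card V := by
    rcases k with _ | k
    · rw [pow_zero] at hk
      have := (Nat.card_eq_one_iff_unique.1 hk).1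
      exact absurd (Subsingleton.elim a₀ 1) ha₀
    · exact hk ▸ dvd_pow_self 2 (Nat.succ_ne_zero k)
  have h1 : (1 : V) ∈ MulAction.fixedPoints N V := fun n => smul_one (n : W)
  obtain ⟨b, hb, hb1⟩ := hN.exists_fixed_point_of_prime_dvd_card_of_fixed_point V hdvd h1
  exact ⟨b, hb1.symm, fun n hn => hb ⟨n, hn⟩⟩

/-- No nontrivial 2-group is normalised by the centraliser of a real element of odd order. -/
theorem two_centralizer_bot (h : Hyp W V) {y : W} (hy : Odd (orderOf y)) (hy1 : y ≠ 1)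
    (hr : IsConj y y⁻¹) (N : Subgroup W) (hN : IsPGroup 2 N)
    (hnorm : ∀ c : W, c * y = y * c → ∀ n ∈ N, c⁻¹ * n * c ∈ N) : N = ⊥ := by
  rw [Subgroup.eq_bot_iff_forall]
  intro n hn
  refine h.faith n fun b => ?_
  obtain ⟨a, ha, haN⟩ := exists_fixed h N hN
  have htop : (⨅ m ∈ N, fx V m) = ⊤ := by
    refine (invariant_centralizer h hy hy1 hr _ fun c hc d hd => ?_).resolve_left fun e => ha ?_
    · simp only [Subgroup.mem_iInf, mem_fx] at hd ⊢
      intro m hm
      have := hd _ (hnorm c hc m hm)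
      rw [mul_smul, mul_smul, inv_smul_eq_iff] at this
      exact this
    · have : a ∈ (⊥ : Subgroup V) := e ▸ (by simpa [Subgroup.mem_iInf, mem_fx] using haN)
      simpa using this
  have hb : b ∈ ⨅ m ∈ N, fx V m := htop ▸ Subgroup.mem_top b
  simp only [Subgroup.mem_iInf, mem_fx] at hb
  exact hb n hn

/-- No nontrivial 2-group is normal. -/
theorem two_normal_bot (h : Hyp W V) (N : Subgroup W) (hn : N.Normal) (hN : IsPGroup 2 N) : N = ⊥ := by
  rw [Subgroup.eq_bot_iff_forall]
  intro n hnN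
  refine h.faith n fun b => ?_
  obtain ⟨a, ha, haN⟩ := exists_fixed h N hN
  have htop : (⨅ m ∈ N, fx V m) = ⊤ := by
    refine (h.irr _ fun c d hd => ?_).resolve_left fun e => ha ?_
    · simp only [Subgroup.mem_iInf, mem_fx] at hd ⊢
      intro m hm
      have := hd _ (hn.conj_mem m hm c⁻¹)
      rw [inv_inv, mul_smul, mul_smul, inv_smul_eq_iff] at this
      exact this
    · have : a ∈ (⊥ : Subgroup V) := e ▸ (by simpa [Subgroup.mem_iInf, mem_fx] using haN)
      simpa using this
  have hb : b ∈ ⨅ m ∈ N, fx V m := htop ▸ Subgroup.mem_top b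
  simp only [Subgroup.mem_iInf, mem_fx] at hb
  exact hb n hnN

/-- A 2-group fixes a point in every orbit. -/
theorem exists_fixed_orbit (h : Hyp W V) (P : Subgroup W) (hP : IsPGroup 2 P) {a : V} (ha : a ≠ 1) :
    ∃ g : W, ∀ p ∈ P, p • (g • a) = g • a := by
  haveI : Fact (Nat.Prime 2) := ⟨Nat.prime_two⟩
  have hodd := h.odd a ha
  obtain ⟨q, hq⟩ := hP.nonempty_fixed_point_of_prime_not_dvd_card (W ⧸ MulAction.stabilizer W a)
    (by rw [← Subgroup.index_eq_card, ← even_iff_two_dvd, Nat.not_even_iff_odd]; exact hodd)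
  obtain ⟨g, rfl⟩ := QuotientGroup.mk_surjective q
  refine ⟨g, fun p hp => ?_⟩
  have h1 : ((p * g : W) : W ⧸ MulAction.stabilizer W a) = (g : W ⧸ MulAction.stabilizer W a) := hq ⟨p, hp⟩
  have h2 := MulAction.mem_stabilizer_iff.1 (QuotientGroup.eq.1 h1)
  rw [mul_smul, inv_smul_eq_iff] at h2
  rw [← mul_smul]
  exact h2.symm

theorem smul_ne_one {a : V} (ha : a ≠ 1) (g : W) : g • a ≠ 1 := fun e => ha (by
  have := congrArg (fun b => g⁻¹ • b) e
  simpa using this)

theorem zpowers_two {w : W} (hw : orderOf w = 2) : IsPGroup 2 ↥(Subgroup.zpowers w) :=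
  IsPGroup.of_card (n := 1) (by rw [Nat.card_zpowers, hw, pow_one])

/-- An involution fixes a point in every orbit. -/
theorem exists_fixed_involution (h : Hyp W V) {w : W} (hw : orderOf w = 2) {a : V} (ha : a ≠ 1) :
    ∃ g : W, w • (g • a) = g • a := by
  obtain ⟨g, hg⟩ := exists_fixed_orbit h _ (zpowers_two hw) ha
  exact ⟨g, hg w (Subgroup.mem_zpowers w)⟩

theorem mul_smul_mem_fx (h : Hyp W V) {w : W} (hw : orderOf w = 2) (a : V) : a * w • a ∈ fx V w := by
  rw [mem_fx, smul_mul', ← mul_smul, inv_mul_self hw, one_smul, mul_comm]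

/-- Two commuting elements of odd prime order inverted by one involution generate a cyclic group. -/
theorem no_square (h : Hyp W V) {w a b : W} {q : ℕ} (hq : q.Prime) (hq2 : Odd q)
    (hab : a * b = b * a) (ha : orderOf a = q) (hb : b ^ q = 1) (hwa : Inverts w a)
    (hwb : Inverts w b) : b ∈ Subgroup.zpowers a := by
  haveI := Fact.mk hq
  by_contra hne
  have hbne : b ≠ 1 := fun e => hne (e ▸ one_mem _)
  have hbq : orderOf b = q := orderOf_eq_prime hb hbne
  have hcomm : Commute a b := hab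
  -- norms of nontrivial elements of the group vanish
  have hnorm : ∀ c : W, c ^ q = 1 → c ≠ 1 → Inverts w c → ∀ d : V,
      ∏ i ∈ Finset.range q, c ^ i • d = 1 := by
    intro c hcq hc1 hwc d
    have hoc : orderOf c = q := orderOf_eq_prime hcq hc1
    refine fpf h (hoc ▸ hq2) hc1 hwc.isConj ?_
    rw [Finset.smul_prod']
    have h1 := Finset.prod_range_succ' (fun i => c ^ i • d) q
    have h2 := Finset.prod_range_succ (fun i => c ^ i • d) q
    simp only [pow_succ', mul_smul, pow_zero, one_smul] at h1 h2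
    rw [h2, hcq, one_smul] at h1
    exact (mul_right_cancel h1).symm
  have hinv : ∀ i j : ℕ, Inverts w (a ^ i * b ^ j) := fun i j => ⟨hwa.1, by
    rw [show w * (a ^ i * b ^ j) * w⁻¹ = (w * a ^ i * w⁻¹) * (w * b ^ j * w⁻¹) by group, ← conj_pow,
      ← conj_pow, hwa.2, hwb.2, inv_pow, inv_pow, mul_inv_rev]
    exact ((hcomm.pow_pow i j).inv_inv).eq⟩
  obtain ⟨d, hd⟩ := h.nontriv
  have hline : ∀ j : ℕ, ∏ i ∈ Finset.range q, (a * b ^ j) ^ i • d = 1 := by
    intro j
    refine hnorm _ ?_ ?_ (by simpa using hinv 1 j) d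
    · rw [(hcomm.pow_right j).mul_pow, ← pow_mul, mul_comm j, pow_mul, hb, one_pow, mul_one, ← ha,
        pow_orderOf_eq_one]
    · intro e
      have hj : ¬ q ∣ j := fun hd' => by
        rw [← hbq, orderOf_dvd_iff_pow_eq_one] at hd'
        rw [hd', mul_one] at e
        rw [e, orderOf_one] at ha
        exact hq.one_lt.ne ha
      have hmem : b ^ j ∈ Subgroup.zpowers a := by
        rw [eq_inv_of_mul_eq_one_right e]
        exact inv_mem (Subgroup.mem_zpowers a)
      obtain ⟨m, hm⟩ := exists_pow_eq_self_of_coprime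
        (show j.Coprime (orderOf b) by rw [hbq]; exact (hq.coprime_iff_not_dvd.2 hj).symm)
      exact hne (hm ▸ pow_mem hmem m)
  have htot : ∏ i ∈ Finset.range q, ∏ j ∈ Finset.range q, (a * b ^ j) ^ i • d = 1 := by
    rw [Finset.prod_comm]
    exact Finset.prod_eq_one fun j _ => hline j
  rw [← Finset.mul_prod_erase _ _ (Finset.mem_range.2 hq.pos)] at htot
  rw [Finset.prod_eq_one (s := (Finset.range q).erase 0) (fun i hi => ?_), mul_one] at htot
  · simp only [pow_zero, one_smul, Finset.prod_const, Finset.card_range] at htot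
    obtain ⟨k, hk⟩ := hq2
    rw [hk, pow_succ, pow_mul, pow_two, h.two, one_pow, one_mul] at htot
    exact hd htot
  · have hi0 : i ≠ 0 := (Finset.mem_erase.1 hi).1
    have hiq : i < q := Finset.mem_range.1 (Finset.mem_erase.1 hi).2
    have hbi : b ^ i ≠ 1 := pow_ne_one_of_lt_orderOf hi0 (hbq ▸ hiq)
    have e : ∀ j, (a * b ^ j) ^ i • d = a ^ i • ((b ^ i) ^ j • d) := fun j => by
      rw [(hcomm.pow_right j).mul_pow, ← pow_mul, mul_comm j, pow_mul, mul_smul]
    rw [Finset.prod_congr rfl fun j _ => e j, ← Finset.smul_prod',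
      hnorm _ (by rw [← pow_mul, mul_comm, pow_mul, hb, one_pow]) hbi (by simpa using hinv 0 i), smul_one]

section clash

variable (V) in
/-- The action as endomorphisms. -/
def endHom : W →* AddMonoid.End (Additive V) where
  toFun w := MonoidHom.toAdditive (MulDistribMulAction.toMonoidHom V w)
  map_one' := by ext a; exact congrArg Additive.ofMul (one_smul W a.toMul)
  map_mul' x y := by ext a; exact congrArg Additive.ofMul (mul_smul x y a.toMul)

theorem cyclic_involution_unique {A : Type*} [Group A] [Finite A] [IsCyclic A] {a b : A}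
    (ha : a ^ 2 = 1) (hb : b ^ 2 = 1) (ha1 : a ≠ 1) (hb1 : b ≠ 1) : a = b := by
  classical
  haveI := Fintype.ofFinite A
  by_contra hne
  have h1 := IsCyclic.card_pow_eq_one_le (α := A) (n := 2) two_pos
  have h2 : ({1, a, b} : Finset A) ⊆ Finset.univ.filter fun x : A => x ^ 2 = 1 := by
    intro x hx
    simp only [Finset.mem_insert, Finset.mem_singleton] at hx
    rcases hx with rfl | rfl | rfl <;> simp [ha, hb]
  have h3 := (Finset.card_le_card h2).trans h1
  rw [Finset.card_insert_of_notMem (by simp [ha1.symm, hb1.symm]),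
    Finset.card_insert_of_notMem (by simpa using hne), Finset.card_singleton] at h3
  omega

theorem ringEquiv_involution_unique {K : Type*} [CommRing K] [IsDomain K] [Finite K] [CharP K 2]
    (a b : K ≃+* K) (ha : ∀ f, a (a f) = f) (hb : ∀ f, b (b f) = f) (ha1 : ∃ f, a f ≠ f)
    (hb1 : ∃ f, b f ≠ f) (f : K) : a f = b f := by
  letI : Field K := (Finite.isField_of_domain K).toField
  letI : Algebra (ZMod 2) K := ZMod.algebra K 2
  let mk : (K ≃+* K) → Gal(K/ZMod 2) := fun e => AlgEquiv.ofRingEquiv (f := e) fun c =>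
    RingHom.congr_fun (RingHom.ext_zmod (e.toRingHom.comp (algebraMap (ZMod 2) K)) (algebraMap (ZMod 2) K)) c
  haveI : Finite Gal(K/ZMod 2) := Finite.of_injective (fun f => (f : K → K)) DFunLike.coe_injective
  have h2 : ∀ e : K ≃+* K, (∀ f, e (e f) = f) → mk e ^ 2 = 1 := fun e he => by
    rw [pow_two]; exact AlgEquiv.ext fun f => he f
  have h1 : ∀ e : K ≃+* K, (∃ f, e f ≠ f) → mk e ≠ 1 := fun e ⟨f, hf⟩ he => hf (AlgEquiv.congr_fun he f)
  exact AlgEquiv.congr_fun (cyclic_involution_unique (h2 a ha) (h2 b hb) (h1 a ha1) (h1 b hb1)) f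

theorem conj_mem_closure {E : Type*} [Ring E] (g : E) (hg : g * g = 1) (s : Set E)
    (hs : ∀ f ∈ s, g * f * g ∈ Subring.closure s) {f : E} (hf : f ∈ Subring.closure s) :
    g * f * g ∈ Subring.closure s := by
  induction hf using Subring.closure_induction with
  | mem f hf => exact hs f hf
  | zero => rw [mul_zero, zero_mul]; exact zero_mem _
  | one => rw [mul_one, hg]; exact one_mem _
  | add p p' _ _ ih ih' => rw [mul_add, add_mul]; exact add_mem ih ih'
  | neg p _ ih => rw [mul_neg, neg_mul]; exact neg_mem ih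
  | mul p p' _ _ ih ih' =>
    have e : g * (p * p') * g = g * p * g * (g * p' * g) := by
      calc g * (p * p') * g = g * p * (g * g) * p' * g := by rw [hg, mul_one, mul_assoc g p p']
        _ = _ := by noncomm_ring
    rw [e]
    exact mul_mem ih ih'

/-- Conjugation by an involutory unit as an automorphism of an invariant subring. -/
def conjEquiv {E : Type*} [Ring E] (R : Subring E) (g : E) (hg : g * g = 1)
    (hR : ∀ f ∈ R, g * f * g ∈ R) : R ≃+* R where
  toFun f := ⟨g * f * g, hR f f.2⟩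
  invFun f := ⟨g * f * g, hR f f.2⟩
  left_inv f := Subtype.ext (show g * (g * f * g) * g = f by
    simp only [← mul_assoc, hg, one_mul]; rw [mul_assoc, hg, mul_one])
  right_inv f := Subtype.ext (show g * (g * f * g) * g = f by
    simp only [← mul_assoc, hg, one_mul]; rw [mul_assoc, hg, mul_one])
  map_mul' p q := Subtype.ext (show g * ((p : E) * q) * g = g * p * g * (g * q * g) by
    calc g * ((p : E) * q) * g = g * p * (g * g) * q * g := by rw [hg, mul_one, mul_assoc g (p : E) q]
      _ = _ := by noncomm_ring)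
  map_add' p q := Subtype.ext (show g * ((p : E) + q) * g = g * p * g + g * q * g by
    rw [mul_add, add_mul])

theorem clash_prime (h : Hyp W V) {x x₂ u w : W} (hqr : (orderOf x).Coprime (orderOf x₂))
    (hx : Odd (orderOf x)) (hx₂ : Odd (orderOf x₂)) (hx1 : x ≠ 1) (hx₂1 : x₂ ≠ 1)
    (hc : x * x₂ = x₂ * x) (hu : orderOf u = 2) (hw : orderOf w = 2) (huw : u * w = w * u)
    (hux : u * x * u⁻¹ = x) (hux₂ : u * x₂ * u⁻¹ = x₂⁻¹) (hwx : w * x * w⁻¹ = x⁻¹)
    (hwx₂ : w * x₂ * w⁻¹ = x₂) : False := by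
  classical
  set z := x * x₂ with hz
  have hoz : orderOf z = orderOf x * orderOf x₂ := Commute.orderOf_mul_eq_mul_orderOf_of_coprime hc hqr
  have hzodd : Odd (orderOf z) := hoz ▸ hx.mul hx₂
  have hgen : ∀ (p p' : W), Commute p p' → (orderOf p).Coprime (orderOf p') → ∃ m : ℕ, (p * p') ^ m = p := by
    intro p p' hpp hco
    obtain ⟨m, hm⟩ := exists_pow_eq_self_of_coprime hco.symm
    refine ⟨orderOf p' * m, ?_⟩
    rw [pow_mul, hpp.mul_pow, pow_orderOf_eq_one p', mul_one, hm]
  obtain ⟨k, hk⟩ := hgen x x₂ hc hqr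
  obtain ⟨k₂, hk₂⟩ := hgen x₂ x hc.symm hqr.symm
  rw [← hc] at hk₂
  rw [← hz] at hk
  have hz1 : z ≠ 1 := fun e => hx1 (by rw [← hk, e, one_pow])
  have hreal : IsConj z z⁻¹ := isConj_iff.2 ⟨u * w, by
    rw [mul_inv_rev, show u * w * z * (w⁻¹ * u⁻¹) = u * (w * x * w⁻¹) * u⁻¹ * (u * (w * x₂ * w⁻¹) * u⁻¹) by
      rw [hz]; group, hwx, hwx₂, hux₂, hz, mul_inv_rev, ← conj_inv, hux]
    exact (Commute.inv_inv hc).eq⟩
  obtain ⟨a₀, ha₀⟩ := h.nontriv
  set ρ := endHom (W := W) V with hρ
  obtain ⟨R, hzR, hcomm, hmulcomm, hconjR⟩ : ∃ R : Subring (AddMonoid.End (Additive V)), ρ z ∈ R ∧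
      (∀ f ∈ R, ∀ c : W, c * z = z * c → ρ c * f = f * ρ c) ∧
      (∀ f ∈ R, ∀ f' ∈ R, f * f' = f' * f) ∧
      ∀ g, g * g = 1 → g * ρ z * g ∈ R → ∀ f ∈ R, g * f * g ∈ R := by
    refine ⟨Subring.closure {ρ z}, Subring.subset_closure rfl, fun f hf c hcz => ?_, fun f hf f' hf' => ?_,
      fun g hg hgz f hf => conj_mem_closure g hg _ (fun f hf => by
        rw [Set.mem_singleton_iff.1 hf]; exact hgz) hf⟩
    · have : Subring.closure {ρ z} ≤ Subring.centralizer {ρ c} := by
        rw [Subring.closure_le, Set.singleton_subset_iff, SetLike.mem_coe, Subring.mem_centralizer_iff]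
        intro g hg
        rw [Set.mem_singleton_iff.1 hg, ← map_mul, hcz, map_mul]
      exact Subring.mem_centralizer_iff.1 (this hf) _ rfl
    · have h1 : Subring.closure {ρ z} ≤ Subring.centralizer {f} := by
        rw [Subring.closure_le, Set.singleton_subset_iff, SetLike.mem_coe, Subring.mem_centralizer_iff]
        intro g hg
        rw [Set.mem_singleton_iff.1 hg]
        have h2 : Subring.closure {ρ z} ≤ Subring.centralizer {ρ z} := by
          rw [Subring.closure_le, Set.singleton_subset_iff, SetLike.mem_coe, Subring.mem_centralizer_iff]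
          intro g hg
          rw [Set.mem_singleton_iff.1 hg]
        exact (Subring.mem_centralizer_iff.1 (h2 hf) _ rfl).symm
      exact Subring.mem_centralizer_iff.1 (h1 hf') _ rfl
  letI : CommRing R := { (inferInstance : Ring R) with
    mul_comm := fun f f' => Subtype.ext (hmulcomm f f.2 f' f'.2) }
  -- the ring is a field
  have hinj : ∀ f ∈ R, f ≠ 0 → ∀ b : Additive V, f b = 0 → b = 0 := by
    intro f hf hf0 b hb
    let K : Subgroup V :=
      { carrier := {a | f (Additive.ofMul a) = 0}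
        one_mem' := map_zero f
        mul_mem' := fun {a a'} (ha : f (Additive.ofMul a) = 0) (ha' : f (Additive.ofMul a') = 0) =>
          show f (Additive.ofMul a + Additive.ofMul a') = 0 by rw [map_add, ha, ha', add_zero]
        inv_mem' := fun {a} (ha : f (Additive.ofMul a) = 0) =>
          show f (-Additive.ofMul a) = 0 by rw [map_neg, ha, neg_zero] }
    rcases invariant_centralizer h hzodd hz1 hreal K (fun c hcz a (ha : f (Additive.ofMul a) = 0) => by
      show f (ρ c (Additive.ofMul a)) = 0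
      have := DFunLike.congr_fun (hcomm f hf c hcz) (Additive.ofMul a)
      show (f * ρ c) (Additive.ofMul a) = 0
      rw [← this]
      show ρ c (f (Additive.ofMul a)) = 0
      rw [ha, map_zero]) with e | e
    · have : b.toMul ∈ (⊥ : Subgroup V) := e ▸ (show b.toMul ∈ K from hb)
      exact congrArg Additive.ofMul ((Subgroup.mem_bot (G := V)).1 this)
    · refine absurd ?_ hf0
      ext c
      exact (e ▸ Subgroup.mem_top c.toMul : c.toMul ∈ K)
  haveI : Nontrivial R := ⟨⟨1, 0, fun e => ha₀ (by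
    have := DFunLike.congr_fun (congrArg Subtype.val e) (Additive.ofMul a₀)
    exact congrArg Additive.toMul this)⟩⟩
  haveI : NoZeroDivisors R := ⟨fun {f g} hfg => by
    by_contra hne
    push Not at hne
    refine hne.2 (Subtype.ext (DFunLike.ext _ _ fun b => ?_))
    exact hinj f f.2 (fun e => hne.1 (Subtype.ext e)) _
      (DFunLike.congr_fun (congrArg Subtype.val hfg) b)⟩
  haveI : IsDomain R := NoZeroDivisors.to_isDomain R
  haveI : Finite (AddMonoid.End (Additive V)) :=
    Finite.of_injective (fun f => (f : Additive V → Additive V)) DFunLike.coe_injective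
  haveI : CharP R 2 := CharTwo.of_one_ne_zero_of_two_eq_zero one_ne_zero (by
    apply Subtype.ext
    ext b
    show (2 : AddMonoid.End (Additive V)) b = 0
    rw [show (2 : AddMonoid.End (Additive V)) = 1 + 1 from one_add_one_eq_two.symm]
    exact congrArg Additive.ofMul (h.two b.toMul))
  -- conjugation by an element normalising the cyclic group of `z`
  have haut : ∀ g : W, g * g = 1 → (∃ m : ℕ, g * z * g⁻¹ = z ^ m) →
      ∃ φ : R ≃+* R, (∀ f, φ (φ f) = f) ∧ ∀ f : R, (φ f : AddMonoid.End (Additive V)) = ρ g * f * ρ g := by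
    rintro g hgg ⟨m, hm⟩
    have hρg : ρ g * ρ g = 1 := by rw [← map_mul, hgg, map_one]
    have hclosed : ∀ f ∈ R, ρ g * f * ρ g ∈ R := hconjR _ hρg (by
      have e : g * z * g = z ^ m := by rwa [inv_eq_of_mul_eq_one_right hgg] at hm
      rw [← map_mul, ← map_mul, e, map_pow]
      exact pow_mem hzR m)
    exact ⟨conjEquiv R (ρ g) hρg hclosed, fun f => (conjEquiv R (ρ g) hρg hclosed).left_inv f, fun f => rfl⟩
  have hpow : ∀ (g : W) (i i₂ : ℕ), g * x * g⁻¹ = x ^ i → g * x₂ * g⁻¹ = x₂ ^ i₂ →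
      g * z * g⁻¹ = z ^ (k * i + k₂ * i₂) := by
    intro g i i₂ e e₂
    rw [pow_add, pow_mul, pow_mul, hk, hk₂, ← e, ← e₂, hz]
    group
  have hinvpow : ∀ p : W, p⁻¹ = p ^ (orderOf p - 1) := fun p => by
    rw [← mul_left_inj p, inv_mul_cancel, ← pow_succ, Nat.sub_add_cancel (orderOf_pos p), pow_orderOf_eq_one]
  obtain ⟨φu, hφu2, hφu⟩ := haut u (inv_mul_self hu)
    ⟨_, hpow u 1 _ (by rw [pow_one, hux]) (hux₂.trans (hinvpow x₂))⟩
  obtain ⟨φw, hφw2, hφw⟩ := haut w (inv_mul_self hw)
    ⟨_, hpow w _ 1 (hwx.trans (hinvpow x)) (by rw [pow_one, hwx₂])⟩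
  have hmem : ∀ m : ℕ, ρ (z ^ m) ∈ R := fun m => by
    rw [map_pow]; exact pow_mem hzR m
  have hfaith : ∀ p p' : W, ρ p = ρ p' → p = p' := by
    intro p p' e
    rw [← mul_inv_eq_one]
    refine h.faith _ fun b => ?_
    have := DFunLike.congr_fun e (Additive.ofMul (p'⁻¹ • b))
    have h' : p • p'⁻¹ • b = p' • p'⁻¹ • b := congrArg Additive.toMul this
    rw [mul_smul, h', smul_inv_smul]
  set X : R := ⟨ρ x, by rw [← hk]; exact hmem k⟩
  set X₂ : R := ⟨ρ x₂, by rw [← hk₂]; exact hmem k₂⟩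
  have hval : ∀ g p : W, g * g = 1 → ρ g * ρ p * ρ g = ρ (g * p * g⁻¹) := fun g p hg => by
    rw [← map_mul, ← map_mul, inv_eq_of_mul_eq_one_right hg]
  have hsq : ∀ p : W, Odd (orderOf p) → p = p⁻¹ → p = 1 := fun p hp e => by
    have h2 : p ^ 2 = 1 := by rw [pow_two]; nth_rw 2 [e]; exact mul_inv_cancel p
    rcases (Nat.dvd_prime Nat.prime_two).1 (orderOf_dvd_of_pow_eq_one h2) with h' | h'
    · exact orderOf_eq_one_iff.1 h'
    · rw [h'] at hp; exact absurd hp (by decide)
  have hu1 : ∃ f, φu f ≠ f := ⟨X₂, fun e => by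
    have := hφu X₂
    rw [e, hval u x₂ (inv_mul_self hu), hux₂] at this
    exact hx₂1 (hsq _ hx₂ (hfaith _ _ this))⟩
  have hw1 : ∃ f, φw f ≠ f := ⟨X, fun e => by
    have := hφw X
    rw [e, hval w x (inv_mul_self hw), hwx] at this
    exact hx1 (hsq _ hx (hfaith _ _ this))⟩
  haveI : Finite R := inferInstance
  have heq := ringEquiv_involution_unique φu φw hφu2 hφw2 hu1 hw1 X
  have e1 := hφu X
  rw [heq, hφw X, hval w x (inv_mul_self hw), hwx, hval u x (inv_mul_self hu), hux] at e1
  exact hx1 (hsq _ hx (hfaith _ _ e1).symm)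

/-- Two commuting involutions cannot cross-invert two commuting elements of odd order. -/
theorem clash (h : Hyp W V) {x x₂ u w : W}
    (hx : Odd (orderOf x)) (hx₂ : Odd (orderOf x₂)) (hx1 : x ≠ 1) (hx₂1 : x₂ ≠ 1)
    (hc : x * x₂ = x₂ * x) (hu : orderOf u = 2) (hw : orderOf w = 2) (huw : u * w = w * u)
    (hux : u * x * u⁻¹ = x) (hux₂ : u * x₂ * u⁻¹ = x₂⁻¹) (hwx : w * x * w⁻¹ = x⁻¹)
    (hwx₂ : w * x₂ * w⁻¹ = x₂) : False := by
  -- pass to elements of prime order
  have hprime : ∀ p : W, Odd (orderOf p) → p ≠ 1 → ∃ (q : ℕ) (n : ℕ), q.Prime ∧ Odd q ∧ orderOf (p ^ n) = q := by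
    intro p hp hp1
    obtain ⟨q, hq, hqd⟩ := Nat.exists_prime_and_dvd (fun e => hp1 (orderOf_eq_one_iff.1 e))
    refine ⟨q, orderOf p / q, hq, hp.of_dvd_nat hqd, ?_⟩
    rw [orderOf_pow_of_dvd (Nat.div_pos (Nat.le_of_dvd (orderOf_pos p) hqd) hq.pos).ne'
      (Nat.div_dvd_of_dvd hqd), Nat.div_div_self hqd (orderOf_pos p).ne']
  obtain ⟨q, n, hq, hqo, hn⟩ := hprime x hx hx1
  obtain ⟨r, m, hr, hro, hm⟩ := hprime x₂ hx₂ hx₂1
  set a := x ^ n with ha
  set b := x₂ ^ m with hb
  have hab : a * b = b * a := (Commute.pow_pow hc n m).eq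
  have hua : u * a * u⁻¹ = a := by rw [ha, ← conj_pow, hux]
  have hwb : w * b * w⁻¹ = b := by rw [hb, ← conj_pow, hwx₂]
  have hub : u * b * u⁻¹ = b⁻¹ := by rw [hb, ← conj_pow, hux₂, inv_pow]
  have hwa : w * a * w⁻¹ = a⁻¹ := by rw [ha, ← conj_pow, hwx, inv_pow]
  have ha1 : a ≠ 1 := fun e => hq.one_lt.ne' (by rw [← hn, e, orderOf_one])
  have hb1 : b ≠ 1 := fun e => hr.one_lt.ne' (by rw [← hm, e, orderOf_one])
  by_cases hqr : q = r
  · subst hqr
    have hne : u * w ≠ 1 := fun e => by
      have : w = u := by rw [eq_inv_of_mul_eq_one_right e, inv_eq_of_mul_eq_one_right (inv_mul_self hu)]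
      rw [this, hua] at hwa
      have h2 : a ^ 2 = 1 := by rw [pow_two]; nth_rw 2 [hwa]; exact mul_inv_cancel a
      have := orderOf_dvd_of_pow_eq_one h2
      rw [hn] at this
      rw [(Nat.prime_dvd_prime_iff_eq hq Nat.prime_two).1 this] at hqo
      exact absurd hqo (by decide)
    have h2 : orderOf (u * w) = 2 := orderOf_eq_prime
      (by rw [(show Commute u w from huw).mul_pow, pow_two, pow_two, inv_mul_self hu, inv_mul_self hw, mul_one])
      hne
    have hmem := no_square h hq hqo hab hn (hm ▸ pow_orderOf_eq_one b)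
      (w := u * w) ⟨h2, by rw [mul_inv_rev, show u * w * a * (w⁻¹ * u⁻¹) = u * (w * a * w⁻¹) * u⁻¹ by group,
        hwa, ← conj_inv, hua]⟩
      ⟨h2, by rw [mul_inv_rev, show u * w * b * (w⁻¹ * u⁻¹) = u * (w * b * w⁻¹) * u⁻¹ by group, hwb, hub]⟩
    obtain ⟨i, hi⟩ := hmem
    have hub' : u * b * u⁻¹ = b := by rw [← hi]; show u * a ^ i * u⁻¹ = a ^ i; rw [← conj_zpow, hua]
    rw [hub] at hub'
    have h3 : b ^ 2 = 1 := by rw [pow_two]; nth_rw 1 [← hub']; exact inv_mul_cancel b
    have := orderOf_dvd_of_pow_eq_one h3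
    rw [hm] at this
    rw [(Nat.prime_dvd_prime_iff_eq hr Nat.prime_two).1 this] at hro
    exact absurd hro (by decide)
  · exact clash_prime h (by rw [hn, hm]; exact (Nat.coprime_primes hq hr).2 hqr) (hn ▸ hqo) (hm ▸ hro)
      ha1 hb1 hab hu hw huw hua hub hwa hwb

end clash

end Cfsg.Agent.RealGraph52
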