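import Mathlib
import Cfsg.Agent.Lib.RealGraph52Basic
import Cfsg.Agent.Lib.BaerSuzuki
import Cfsg.Agent.Lib.HallCore
import Cfsg.Agent.Lib.ZStarBasic
import Cfsg.Agent.Lib.ZStarTheorem

/-!
A group acting irreducibly on an elementary abelian 2-group, with solvable point stabilisers of odd index and with
centralisers of real elements of odd order transitive on orbits, is solvable, given that groups of odd order are.

Real elements inverted by involutions have centralisers of odd order; so the fixed spaces of involutions form a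
partition on which each pair is swapped by at most one involution; counting makes each involution isolated.
-/

set_option autoImplicit false
set_option linter.style.haveILetI false
set_option linter.unusedSectionVars false

namespace Cfsg.Agent.RealGraph52

universe u

variable {W V : Type u} [Group W] [Finite W] [CommGroup V] [Finite V] [MulDistribMulAction W V]

theorem inv_eq_self {w : W} (hw : orderOf w = 2) : w⁻¹ = w :=
  inv_eq_of_mul_eq_one_right (inv_mul_self hw)

theorem conj_inv_of_commute {a b : W} (h : a * b = b * a) : a * b * a⁻¹ = b := by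
  rw [h, mul_inv_cancel_right]

theorem commute_of_conj {a b : W} (h : a * b * a⁻¹ = b) : a * b = b * a := by
  rwa [mul_inv_eq_iff_eq_mul] at h

theorem odd_sq_ne {t : W} (ht : Odd (orderOf t)) (ht1 : t ≠ 1) : t⁻¹ ≠ t := fun e => by
  have h2 : t ^ 2 = 1 := by rw [pow_two]; nth_rw 1 [← e]; exact inv_mul_cancel t
  rcases (Nat.dvd_prime Nat.prime_two).1 (orderOf_dvd_of_pow_eq_one h2) with h | h
  · exact ht1 (orderOf_eq_one_iff.1 h)
  · rw [h] at ht; exact absurd ht (by decide)

/-- The involutions of a subgroup in which none inverts a nontrivial element of odd order generate a 2-group. -/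
theorem invols_pgroup (X : Subgroup W)
    (hno : ∀ i ∈ X, ∀ t ∈ X, orderOf i = 2 → Odd (orderOf t) → t ≠ 1 → i * t * i⁻¹ = t⁻¹ → False) :
    IsPGroup 2 ↥(Subgroup.closure {i : W | i ∈ X ∧ orderOf i = 2}) := by
  haveI : Fact (Nat.Prime 2) := ⟨Nat.prime_two⟩
  have hle : Subgroup.closure {i : W | i ∈ X ∧ orderOf i = 2} ≤ (Cfsg.pCore 2 ↥X).map X.subtype := by
    rw [Subgroup.closure_le]
    rintro i ⟨hiX, hi⟩
    have hi' : orderOf (⟨i, hiX⟩ : ↥X) = 2 := by rw [Subgroup.orderOf_mk]; exact hi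
    obtain ⟨N, hN, hN2, hiN⟩ : ∃ N : Subgroup ↥X, N.Normal ∧ IsPGroup 2 N ∧ (⟨i, hiX⟩ : ↥X) ∈ N := by
      by_contra hcon
      push Not at hcon
      obtain ⟨t, ht1, htodd, ht⟩ := BaerSuzuki.exists_inverted_odd (⟨i, hiX⟩ : ↥X) hi' hcon
      exact hno i hiX t t.2 hi (by rwa [Subgroup.orderOf_coe]) (fun e => ht1 (Subtype.ext e))
        (congrArg Subtype.val ht)
    haveI := hN
    exact Subgroup.mem_map_of_mem _ (HallCore.le_pCore hN2 hiN)
  exact ((HallCore.isPGroup_pCore 2 ↥X).map _).to_le hle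

theorem exists_involution_of_even {g : W} (h : ¬ Odd (orderOf g)) :
    ∃ n : ℕ, orderOf (g ^ n) = 2 := by
  rw [Nat.not_odd_iff_even, even_iff_two_dvd] at h
  refine ⟨orderOf g / 2, ?_⟩
  rw [orderOf_pow_of_dvd (Nat.div_pos (Nat.le_of_dvd (orderOf_pos g) h) two_pos).ne'
    (Nat.div_dvd_of_dvd h), Nat.div_div_self h (orderOf_pos g).ne']

theorem conj_mem_fx {a : V} {i : W} (c : W) (ha : i • a = a) : (c * i * c⁻¹) • (c • a) = c • a := by
  rw [mul_smul, mul_smul, inv_smul_smul, ha]

/-- The centraliser of an inverted element with centraliser of odd order is transitive on fixed points. -/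
theorem transit_fixed (h : Hyp W V) {w y : W} (hy : Odd (orderOf y)) (hy1 : y ≠ 1) (hwy : Inverts w y)
    (hC : ∀ u : W, orderOf u = 2 → u * y ≠ y * u) {a : V} (ha : a ≠ 1) (hwa : w • a = a) (g : W)
    (hwg : w • (g • a) = g • a) : ∃ c : W, c * y = y * c ∧ c * w = w * c ∧ c • a = g • a := by
  obtain ⟨c, hc, hca⟩ := h.trans y hy hy1 hwy.isConj a ha g
  refine ⟨c, hc, ?_, hca⟩
  set w' := c * w * c⁻¹ with hw'
  have hw'a : w' • (g • a) = g • a := by rw [← hca]; exact conj_mem_fx c hwa
  have hcy : c * y * c⁻¹ = y := conj_inv_of_commute hc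
  have hcy' : c⁻¹ * y * c = y := by rw [mul_assoc, ← hc, inv_mul_cancel_left]
  have hw'y : w' * y * w'⁻¹ = y⁻¹ := by
    calc w' * y * w'⁻¹ = c * (w * (c⁻¹ * y * c) * w⁻¹) * c⁻¹ := by rw [hw']; group
      _ = c * y⁻¹ * c⁻¹ := by rw [hcy', hwy.2]
      _ = y⁻¹ := by rw [← conj_inv, hcy]
  have hw'o : orderOf w' = 2 := by
    rw [hw', ← hwy.1]; exact (MulEquiv.orderOf_eq (MulAut.conj c) w)
  set t := w * w' with ht
  have hty : t * y = y * t := commute_of_conj (by
    calc t * y * t⁻¹ = w * (w' * y * w'⁻¹) * w⁻¹ := by rw [ht]; group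
      _ = y := by rw [hw'y, ← conj_inv, hwy.2, inv_inv])
  have htodd : Odd (orderOf t) := by
    by_contra hne
    obtain ⟨n, hn⟩ := exists_involution_of_even hne
    exact hC _ hn (Commute.pow_left hty n).eq
  have hwt : w * t * w⁻¹ = t⁻¹ := by
    rw [ht, ← mul_assoc, inv_mul_self hwy.1, one_mul, mul_inv_rev, inv_eq_self hw'o]
  have ht1 : t = 1 := by
    by_contra hne
    refine smul_ne_one ha g (fpf h htodd hne (isConj_iff.2 ⟨w, hwt⟩) ?_)
    rw [ht, mul_smul, hw'a, hwg]
  have hww : w' = w := by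
    rw [eq_inv_of_mul_eq_one_right ht1, inv_eq_self hwy.1]
  exact commute_of_conj hww

/-- A 2-group centralised by `w` and normalised by the common centraliser fixes the fixed points of `w`. -/
theorem group_fixes (h : Hyp W V) {w y : W} (hy : Odd (orderOf y)) (hy1 : y ≠ 1) (hwy : Inverts w y)
    (hC : ∀ u : W, orderOf u = 2 → u * y ≠ y * u) (P : Subgroup W) (hP : IsPGroup 2 P)
    (hPw : ∀ p ∈ P, p * w = w * p)
    (hnorm : ∀ c : W, c * y = y * c → c * w = w * c → ∀ p ∈ P, c⁻¹ * p * c ∈ P)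
    {p : W} (hp : p ∈ P) : fx V w ≤ fx V p := by
  intro a ha
  rw [mem_fx] at ha ⊢
  by_cases ha1 : a = 1
  · rw [ha1, smul_one]
  have hnz : P ≤ Subgroup.normalizer (Subgroup.zpowers w : Set W) := by
    intro q hq
    rw [Subgroup.mem_normalizer_iff]
    intro z
    have hcomm : ∀ i : ℤ, q * w ^ i * q⁻¹ = w ^ i := fun i => by
      rw [← conj_zpow, conj_inv_of_commute (hPw q hq)]
    constructor
    · rintro ⟨i, rfl⟩
      exact ⟨i, (hcomm i).symm⟩
    · rintro ⟨i, hi⟩
      refine ⟨i, ?_⟩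
      have : q * w ^ i * q⁻¹ = q * z * q⁻¹ := (hcomm i).trans hi
      rwa [mul_left_inj, mul_right_inj] at this
  obtain ⟨g, hg⟩ := exists_fixed_orbit h (P ⊔ Subgroup.zpowers w)
    (hP.to_sup_of_normal_right' (zpowers_two hwy.1) hnz) ha1
  set b := g • a with hb
  have hwb : w • b = b := hg w (Subgroup.mem_sup_right (Subgroup.mem_zpowers w))
  have hba : g⁻¹ • b = a := by rw [hb, inv_smul_smul]
  obtain ⟨c, hc, hcw, hca⟩ := transit_fixed h hy hy1 hwy hC (smul_ne_one ha1 g) hwb g⁻¹
    (by rw [← hb, hba]; exact ha)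
  rw [← hb, hba] at hca
  have h1 := hg _ (Subgroup.mem_sup_left (hnorm c hc hcw p hp))
  rw [← hca]
  rw [mul_smul, mul_smul, inv_smul_eq_iff] at h1
  exact h1

theorem exists_coprime_shift {q : ℕ} (hq : q.Prime) {j n : ℕ} (hn : n ≠ 0) (hj : ¬ q ∣ j) :
    ∃ i, (j + q * i).Coprime n := by
  classical
  set S := n.primeFactors.filter (fun p => p ≠ q ∧ ¬ p ∣ j) with hS
  refine ⟨∏ p ∈ S, p, Nat.coprime_of_dvd fun p hp hpd hpn => ?_⟩
  by_cases hpq : p = q
  · subst hpq
    exact hj ((Nat.dvd_add_left (dvd_mul_right p _)).1 hpd)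
  by_cases hpj : p ∣ j
  · have h1 := (Nat.dvd_add_right hpj).1 hpd
    rcases hp.dvd_mul.1 h1 with h2 | h2
    · exact hpq ((Nat.prime_dvd_prime_iff_eq hp hq).1 h2)
    · obtain ⟨r, hr, hpr⟩ := (Prime.dvd_finset_prod_iff hp.prime _).1 h2
      rw [hS, Finset.mem_filter, Nat.mem_primeFactors] at hr
      exact hr.2.2 ((Nat.prime_dvd_prime_iff_eq hp hr.1.1).1 hpr ▸ hpj)
  · have hmem : p ∈ S := by
      rw [hS, Finset.mem_filter, Nat.mem_primeFactors]
      exact ⟨⟨hp, hpn, hn⟩, hpq, hpj⟩
    exact hpj ((Nat.dvd_add_left ((Finset.dvd_prod_of_mem _ hmem).mul_left q)).1 hpd)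

/-- An involution of an even centraliser commuting with the inverter. -/
theorem exists_commuting_involution {w x i : W} (hw : Inverts w x) (hi : orderOf i = 2)
    (hix : i * x = x * i) : ∃ u : W, orderOf u = 2 ∧ u * x = x * u ∧ u * w = w * u := by
  classical
  haveI := Fintype.ofFinite W
  haveI : Fact (Nat.Prime 2) := ⟨Nat.prime_two⟩
  set B := Subgroup.centralizer ({x} : Set W) with hB
  have hmemB : ∀ g, g ∈ B ↔ g * x = x * g := fun g => Subgroup.mem_centralizer_singleton_iff
  have hBeven : 2 ∣ Nat.card B := by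
    rw [← hi, ← Subgroup.orderOf_mk i ((hmemB i).2 hix)]
    exact orderOf_dvd_natCard _
  -- inversion has an even number of fixed points
  have hinv : Function.Involutive fun g : B => g⁻¹ := fun g => inv_inv g
  have hcount := Equiv.Perm.card_compl_support_modEq (σ := hinv.toPerm) (p := 2) (n := 1) (by
    rw [pow_one, pow_two]; exact Equiv.ext fun g => inv_inv g)
  set S := (Finset.univ : Finset B).filter fun g => orderOf g = 2 with hS
  have hcompl : hinv.toPerm.supportᶜ = insert 1 S := by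
    ext g
    rw [Finset.mem_compl, Equiv.Perm.mem_support, not_not, Finset.mem_insert, hS, Finset.mem_filter]
    show g⁻¹ = g ↔ _
    constructor
    · intro e
      by_cases h1 : g = 1
      · exact Or.inl h1
      · refine Or.inr ⟨Finset.mem_univ _, orderOf_eq_prime ?_ h1⟩
        rw [pow_two]; nth_rw 1 [← e]; exact inv_mul_cancel g
    · rintro (rfl | ⟨-, hg⟩)
      · exact inv_one
      · exact inv_eq_of_mul_eq_one_right (by
          have := pow_orderOf_eq_one g
          rwa [hg, pow_two] at this)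
  rw [hcompl, Finset.card_insert_of_notMem (by simp [hS]), ← Nat.card_eq_fintype_card] at hcount
  have hSodd : Odd S.card := by
    rw [Nat.odd_iff]
    have h0 : Nat.card B % 2 = 0 := Nat.mod_eq_zero_of_dvd hBeven
    unfold Nat.ModEq at hcount
    omega
  have hwB : ∀ g ∈ B, w * g * w⁻¹ ∈ B := fun g hg => by
    rw [hmemB] at hg ⊢
    apply commute_of_conj
    have hwx : w⁻¹ * x * w = x⁻¹ := by rw [inv_eq_self hw.1]; nth_rw 2 [← inv_eq_self hw.1]; exact hw.2
    calc w * g * w⁻¹ * x * (w * g * w⁻¹)⁻¹ = w * (g * (w⁻¹ * x * w) * g⁻¹) * w⁻¹ := by group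
      _ = w * x⁻¹ * w⁻¹ := by rw [hwx, ← conj_inv, conj_inv_of_commute hg]
      _ = x := by rw [← conj_inv, hw.2, inv_inv]
  let T := {g : W // orderOf g = 2 ∧ g * x = x * g}
  let F : T → T := fun g => ⟨w * g * w⁻¹, by
    exact (MulEquiv.orderOf_eq (MulAut.conj w) g.1).trans g.2.1, (hmemB _).1 (hwB g ((hmemB _).2 g.2.2))⟩
  have hFF : Function.Involutive F := fun g => Subtype.ext (show w * (w * g * w⁻¹) * w⁻¹ = g by
    rw [inv_eq_self hw.1, ← mul_assoc, ← mul_assoc, inv_mul_self hw.1, one_mul, mul_assoc,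
      inv_mul_self hw.1, mul_one])
  have hTodd : Odd (Nat.card T) := by
    have : Nat.card T = S.card := by
      rw [← Nat.card_eq_finsetCard]
      refine Nat.card_congr
        { toFun := fun g => ⟨⟨g.1, (hmemB _).2 g.2.2⟩, ?_⟩
          invFun := fun g => ⟨(g.1 : W), ?_, (hmemB _).1 g.1.2⟩
          left_inv := fun g => rfl
          right_inv := fun g => rfl }
      · rw [hS, Finset.mem_filter, Subgroup.orderOf_mk]
        exact ⟨Finset.mem_univ _, g.2.1⟩
      · rw [Subgroup.orderOf_coe]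
        exact (Finset.mem_filter.1 (show g.1 ∈ _ from g.2)).2
    rwa [this]
  obtain ⟨⟨u, hu, hux⟩, hfix⟩ := RealChars.exists_fixed_of_two_power hTodd hFF.toPerm (k := 1)
    (by rw [pow_one, pow_two]; exact Equiv.ext hFF)
  exact ⟨u, hu, hux, (commute_of_conj (congrArg Subtype.val hfix : w * u * w⁻¹ = u)).symm⟩

/-- A larger real element: centralised by fewer elements, of bigger order. -/
theorem exists_bigger (h : Hyp W V) {w x i : W} (hx : Odd (orderOf x)) (hx1 : x ≠ 1) (hw : Inverts w x)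
    (hix : i * x = x * i) (hi : orderOf i = 2) :
    ∃ y : W, Odd (orderOf y) ∧ y ≠ 1 ∧ Inverts w y ∧ orderOf x < orderOf y ∧
      ∀ c : W, c * y = y * c → c * x = x * c := by
  classical
  haveI : Fact (Nat.Prime 2) := ⟨Nat.prime_two⟩
  set Z := Subgroup.zpowers x with hZ
  set Cs := Subgroup.normalizer (Z : Set W) ⊓ ((Subgroup.centralizer ({x} : Set W)) ⊔ Subgroup.zpowers w) with hCs
  have hwx' : w * x⁻¹ * w⁻¹ = x := by rw [← conj_inv, hw.2, inv_inv]
  have hwN : w ∈ Subgroup.normalizer (Z : Set W) := by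
    have hin : ∀ z ∈ Z, w * z * w⁻¹ ∈ Z := by
      rintro z ⟨k, rfl⟩
      refine ⟨-k, ?_⟩
      show x ^ (-k) = w * x ^ k * w⁻¹
      rw [← conj_zpow, hw.2, inv_zpow, zpow_neg]
    rw [Subgroup.mem_normalizer_iff]
    intro z
    refine ⟨hin z, fun hz => ?_⟩
    have h2 := hin _ hz
    rwa [inv_eq_self hw.1, ← mul_assoc, ← mul_assoc, inv_mul_self hw.1, one_mul, mul_assoc,
      inv_mul_self hw.1, mul_one] at h2
  have hwCs : w ∈ Cs := Subgroup.mem_inf.2 ⟨hwN, Subgroup.mem_sup_right (Subgroup.mem_zpowers w)⟩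
  have hBN : Subgroup.centralizer ({x} : Set W) ≤ Subgroup.normalizer (Z : Set W) := by
    intro c hc
    rw [Subgroup.mem_centralizer_singleton_iff] at hc
    rw [Subgroup.mem_normalizer_iff]
    intro z
    have hfix : ∀ k : ℤ, c * x ^ k * c⁻¹ = x ^ k := fun k => by rw [← conj_zpow, conj_inv_of_commute hc]
    constructor
    · rintro ⟨k, rfl⟩
      exact ⟨k, (hfix k).symm⟩
    · rintro ⟨k, hk⟩
      refine ⟨k, ?_⟩
      have : c * x ^ k * c⁻¹ = c * z * c⁻¹ := (hfix k).trans hk
      rwa [mul_left_inj, mul_right_inj] at this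
  have hBCs : ∀ c, c * x = x * c → c ∈ Cs := fun c hc =>
    Subgroup.mem_inf.2 ⟨hBN (Subgroup.mem_centralizer_singleton_iff.2 hc),
      Subgroup.mem_sup_left (Subgroup.mem_centralizer_singleton_iff.2 hc)⟩
  -- elements act on `x` by a sign
  have hsign : ∀ c ∈ Cs, c * x * c⁻¹ = x ∨ c * x * c⁻¹ = x⁻¹ := by
    intro c hc
    have hc' : c ∈ Subgroup.centralizer ({x} : Set W) ⊔ Subgroup.zpowers w := hc.2
    clear hc
    rw [Subgroup.sup_eq_closure] at hc'
    induction hc' using Subgroup.closure_induction with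
    | mem c hc =>
      rcases hc with hc | ⟨k, rfl⟩
      · exact Or.inl (conj_inv_of_commute (Subgroup.mem_centralizer_singleton_iff.1 hc))
      · rcases Int.even_or_odd k with ⟨m, rfl⟩ | ⟨m, rfl⟩
        · left
          have e2 : w ^ (m + m) = 1 := by
            rw [← two_mul, zpow_mul, show w ^ (2 : ℤ) = 1 from (zpow_two w).trans (inv_mul_self hw.1), one_zpow]
          show w ^ (m + m) * x * (w ^ (m + m))⁻¹ = x
          rw [e2]; simp
        · right
          show w ^ (2 * m + 1) * x * (w ^ (2 * m + 1))⁻¹ = x⁻¹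
          rw [zpow_add, zpow_one, zpow_mul,
            show w ^ (2 : ℤ) = 1 from (zpow_two w).trans (inv_mul_self hw.1), one_zpow, one_mul]
          exact hw.2
    | one => left; simp
    | mul p p' _ _ ih ih' =>
      have e : p * p' * x * (p * p')⁻¹ = p * (p' * x * p'⁻¹) * p⁻¹ := by group
      rw [e]
      rcases ih' with e' | e' <;> rw [e']
      · exact ih
      · rw [← conj_inv]
        rcases ih with e'' | e'' <;> rw [e''] <;> simp
    | inv p _ ih =>
      rcases ih with e | e
      · left; nth_rw 1 [← e]; group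
      · right
        have e2 : p * x⁻¹ * p⁻¹ = x := by rw [← conj_inv, e, inv_inv]
        nth_rw 1 [← e2]; group
  set Z' := Z.subgroupOf Cs with hZ'
  haveI : Z'.Normal := ⟨fun z hz c => Subgroup.mem_subgroupOf.2
    ((Subgroup.mem_normalizer_iff.1 (Subgroup.mem_inf.1 c.2).1 _).1 (Subgroup.mem_subgroupOf.1 hz))⟩
  set wb : ↥Cs ⧸ Z' := ((⟨w, hwCs⟩ : ↥Cs) : ↥Cs ⧸ Z') with hwb
  have hwnotZ : w ∉ Z := by
    intro hmem
    have := Subgroup.orderOf_dvd_natCard Z hmem
    rw [hZ, Nat.card_zpowers, hw.1] at this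
    exact (Nat.not_even_iff_odd.2 hx) (even_iff_two_dvd.2 this)
  have hwbo : orderOf wb = 2 := orderOf_eq_prime
    (by rw [hwb, ← QuotientGroup.mk_pow, QuotientGroup.eq_one_iff, Subgroup.mem_subgroupOf,
          SubmonoidClass.coe_pow, pow_two, inv_mul_self hw.1]; exact one_mem _)
    (fun e => hwnotZ (by rwa [hwb, QuotientGroup.eq_one_iff, Subgroup.mem_subgroupOf] at e))
  by_cases hN : ∀ N : Subgroup (↥Cs ⧸ Z'), N.Normal → IsPGroup 2 N → wb ∉ N
  · obtain ⟨tb, htb1, htbodd, htb⟩ := BaerSuzuki.exists_inverted_odd wb hwbo hN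
    obtain ⟨t₀, rfl⟩ := QuotientGroup.mk_surjective tb
    -- the odd part of a lift
    obtain ⟨k, m, hm, hkm⟩ : ∃ k m : ℕ, Odd m ∧ orderOf t₀ = 2 ^ k * m :=
      ⟨(orderOf t₀).factorization 2, ordCompl[2] (orderOf t₀),
        Nat.not_even_iff_odd.mp (fun he => Nat.not_dvd_ordCompl Nat.prime_two
          (orderOf_pos t₀).ne' (even_iff_two_dvd.mp he)),
        (Nat.ordProj_mul_ordCompl_eq_self _ 2).symm⟩
    set t := t₀ ^ 2 ^ k with ht
    have htodd : Odd (orderOf (t : W)) := by
      rw [Subgroup.orderOf_coe, ht, orderOf_pow' t₀ (by positivity), hkm,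
        Nat.gcd_eq_right (dvd_mul_right (2 ^ k) m), Nat.mul_div_cancel_left _ (by positivity)]
      exact hm
    have htnotZ : (t : W) ∉ Z := by
      intro hmem
      have h1 : (t₀ : ↥Cs ⧸ Z') ^ 2 ^ k = 1 := by
        rw [← QuotientGroup.mk_pow, QuotientGroup.eq_one_iff, Subgroup.mem_subgroupOf]
        exact hmem
      obtain ⟨l, -, hl⟩ := (Nat.dvd_prime_pow Nat.prime_two).mp (orderOf_dvd_of_pow_eq_one h1)
      rw [hl] at htbodd
      rcases l with _ | l
      · exact htb1 (orderOf_eq_one_iff.1 hl)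
      · exact (Nat.not_even_iff_odd.2 htbodd) (Even.pow_of_ne_zero even_two (Nat.succ_ne_zero l))
    have htx : (t : W) * x = x * t := by
      apply commute_of_conj
      rcases hsign t t.2 with e | e
      · exact e
      · exfalso
        have hpow : ∀ n : ℕ, (t : W) ^ n * x * ((t : W) ^ n)⁻¹ = if Even n then x else x⁻¹ := by
          intro n
          induction n with
          | zero => simp
          | succ n ihn =>
            calc (t : W) ^ (n + 1) * x * ((t : W) ^ (n + 1))⁻¹
                = t * ((t : W) ^ n * x * ((t : W) ^ n)⁻¹) * (t : W)⁻¹ := by rw [pow_succ']; group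
              _ = _ := by
                rw [ihn]
                rcases Nat.even_or_odd n with hn | hn
                · rw [if_pos hn, if_neg (Nat.not_even_iff_odd.mpr hn.add_one), e]
                · rw [if_neg (Nat.not_even_iff_odd.mpr hn), if_pos hn.add_one, ← conj_inv, e, inv_inv]
        have h1 := hpow (orderOf (t : W))
        rw [pow_orderOf_eq_one, if_neg (Nat.not_even_iff_odd.2 htodd), one_mul, inv_one, mul_one] at h1
        exact odd_sq_ne hx hx1 h1.symm
    have hmodZ : w * (t : W) * w⁻¹ * t ∈ Z := by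
      have h1 : wb * (t : ↥Cs ⧸ Z') * wb⁻¹ = (t : ↥Cs ⧸ Z')⁻¹ := by
        rw [ht, QuotientGroup.mk_pow, ← conj_pow, htb, inv_pow]
      rw [eq_inv_iff_mul_eq_one, hwb, ← QuotientGroup.mk_inv, ← QuotientGroup.mk_mul, ← QuotientGroup.mk_mul,
        ← QuotientGroup.mk_mul, QuotientGroup.eq_one_iff, Subgroup.mem_subgroupOf] at h1
      exact h1
    obtain ⟨j, hj⟩ := hmodZ
    have hj' : x ^ j = w * (t : W) * w⁻¹ * t := hj
    have hcx : Commute (x ^ j) (t : W) := (Commute.zpow_left (show Commute x (t : W) from htx.symm) j)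
    have hwt : w * (t : W) * w⁻¹ = (t : W)⁻¹ * x ^ j := by
      rw [← hcx.inv_right.eq, hj', mul_inv_cancel_right]
    have hxj : x ^ j = 1 := by
      have e : (t : W) = w * ((t : W)⁻¹ * x ^ j) * w⁻¹ := by
        rw [← hwt, inv_eq_self hw.1, ← mul_assoc, ← mul_assoc, inv_mul_self hw.1, one_mul, mul_assoc,
          inv_mul_self hw.1, mul_one]
      rw [show w * ((t : W)⁻¹ * x ^ j) * w⁻¹ = (w * (t : W) * w⁻¹)⁻¹ * (w * x ^ j * w⁻¹) by group, hwt,
        ← conj_zpow, hw.2, mul_inv_rev, inv_inv, inv_zpow, hcx.inv_left.eq, mul_assoc] at e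
      have e2 : (x ^ j)⁻¹ * (x ^ j)⁻¹ = 1 := mul_eq_left.mp e.symm
      have hj2 : (x ^ j) ^ 2 = 1 := by rw [pow_two, ← inv_inj, mul_inv_rev, inv_one, e2]
      have hdvd := orderOf_dvd_of_pow_eq_one hj2
      rcases (Nat.dvd_prime Nat.prime_two).1 hdvd with e' | e'
      · exact orderOf_eq_one_iff.1 e'
      · exfalso
        have : orderOf (x ^ j) ∣ orderOf x := orderOf_dvd_of_mem_zpowers ⟨j, rfl⟩
        rw [e'] at this
        exact (Nat.not_even_iff_odd.2 hx) (even_iff_two_dvd.2 this)
    rw [hxj, mul_one] at hwt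
    -- a prime step above the cyclic group of `x`
    have htZ1 : ∃ n : ℕ, 0 < n ∧ (t : W) ^ n ∈ Z :=
      ⟨orderOf (t : W), orderOf_pos _, by rw [pow_orderOf_eq_one]; exact one_mem _⟩
    set m₀ := Nat.find htZ1 with hm₀
    obtain ⟨hm₀pos, hm₀mem⟩ := Nat.find_spec htZ1
    have hm₀1 : m₀ ≠ 1 := fun e => htnotZ (by
      rw [← hm₀, e, pow_one] at hm₀mem
      exact hm₀mem)
    obtain ⟨q, hq, m₁, hm₁⟩ := Nat.exists_prime_and_dvd hm₀1
    set s := (t : W) ^ m₁ with hs
    have hsq : s ^ q ∈ Z := by rw [hs, ← pow_mul, mul_comm, ← hm₁]; exact hm₀mem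
    have hsnot : s ∉ Z := fun hmem => by
      have hm₁pos : 0 < m₁ := Nat.pos_of_ne_zero fun e => by
        rw [e, mul_zero] at hm₁; omega
      have hmin := Nat.find_min' htZ1 ⟨hm₁pos, hmem⟩
      rw [← hm₀, hm₁] at hmin
      exact absurd hmin (by
        have := hq.two_le
        nlinarith)
    have hsx : Commute s x := Commute.pow_left htx m₁
    have hws : w * s * w⁻¹ = s⁻¹ := by rw [hs, ← conj_pow, hwt, inv_pow]
    have hsodd : Odd (orderOf s) := htodd.of_dvd_nat (orderOf_pow_dvd _)
    have hqodd : Odd q := by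
      refine hq.odd_of_ne_two fun e => hsnot ?_
      subst e
      obtain ⟨l, hl⟩ := exists_pow_eq_self_of_coprime (x := s) (Nat.coprime_two_left.2 hsodd)
      rw [← hl]
      exact pow_mem hsq l
    obtain ⟨jz, hjz⟩ := hsq
    obtain ⟨j₀, hj₀⟩ : ∃ j₀ : ℕ, x ^ j₀ = s ^ q := by
      have h1 : s ^ q ∈ Submonoid.powers x := mem_powers_iff_mem_zpowers.2 ⟨jz, hjz⟩
      exact h1
    -- products with powers of `x`
    have hgen : ∀ l : ℕ, w * (s * x ^ l) * w⁻¹ = (s * x ^ l)⁻¹ := fun l => by
      rw [show w * (s * x ^ l) * w⁻¹ = (w * s * w⁻¹) * (w * x ^ l * w⁻¹) by group, hws, ← conj_pow, hw.2,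
        inv_pow, mul_inv_rev]
      exact ((hsx.pow_right l).inv_inv).eq
    have hodd : ∀ l : ℕ, Odd (orderOf (s * x ^ l)) := fun l =>
      (hsodd.mul (hx.of_dvd_nat (orderOf_pow_dvd l))).of_dvd_nat (Commute.orderOf_mul_dvd_mul_orderOf (hsx.pow_right l))
    by_cases hqx : q ∣ orderOf x
    · have hqj : ¬ q ∣ j₀ := by
        rintro ⟨j₁, rfl⟩
        obtain ⟨l, hl⟩ : ∃ l : ℕ, (x ^ j₁)⁻¹ = x ^ l := by
          have : (x ^ j₁)⁻¹ ∈ Submonoid.powers x :=
            mem_powers_iff_mem_zpowers.2 (inv_mem (pow_mem (Subgroup.mem_zpowers x) _))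
          obtain ⟨l, hl⟩ := this
          exact ⟨l, hl.symm⟩
        have haq : (s * x ^ l) ^ q = 1 := by
          rw [(hsx.pow_right l).mul_pow, ← hj₀, ← hl, inv_pow, ← pow_mul, mul_comm j₁ q, mul_inv_cancel]
        have hx0 : orderOf (x ^ (orderOf x / q)) = q := by
          rw [orderOf_pow_of_dvd (Nat.div_pos (Nat.le_of_dvd (orderOf_pos x) hqx) hq.pos).ne'
            (Nat.div_dvd_of_dvd hqx), Nat.div_div_self hqx (orderOf_pos x).ne']
        have hmem := no_square h hq hqodd
          ((Commute.mul_left hsx (Commute.pow_self x l)).pow_right (orderOf x / q)).symm.eq hx0 haq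
          (w := w) ⟨hw.1, by rw [← conj_pow, hw.2, inv_pow]⟩ ⟨hw.1, hgen l⟩
        have h2 : s * x ^ l ∈ Z := Subgroup.zpowers_le.2 (pow_mem (Subgroup.mem_zpowers x) _) hmem
        exact hsnot ((Subgroup.mul_mem_cancel_right Z (pow_mem (Subgroup.mem_zpowers x) l)).1 h2)
      obtain ⟨l, hl⟩ := exists_coprime_shift hq (orderOf_pos x).ne' hqj
      set y := s * x ^ l with hy
      have hyq : y ^ q = x ^ (j₀ + q * l) := by
        rw [hy, (hsx.pow_right l).mul_pow, ← hj₀, ← pow_mul, ← pow_add, mul_comm l q]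
      have hordyq : orderOf (y ^ q) = orderOf x := by rw [hyq, hl.symm.orderOf_pow]
      obtain ⟨n, hn⟩ : ∃ n : ℕ, (y ^ q) ^ n = x := by
        obtain ⟨n, hn⟩ := exists_pow_eq_self_of_coprime (x := x) hl
        exact ⟨n, by rw [hyq, hn]⟩
      have hlt : orderOf x < orderOf y := by
        have hdvd : orderOf x ∣ orderOf y := hordyq ▸ orderOf_pow_dvd q
        rcases lt_or_eq_of_le (Nat.le_of_dvd (orderOf_pos y) hdvd) with h' | h'
        · exact h'
        · exfalso
          have hg := orderOf_pow' y hq.pos.ne'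
          rw [hordyq, ← h'] at hg
          rw [Nat.gcd_eq_right hqx] at hg
          have := Nat.div_lt_self (orderOf_pos x) hq.one_lt
          omega
      refine ⟨y, hodd l, fun e => ?_, ⟨hw.1, hgen l⟩, hlt, fun c hc => ?_⟩
      · rw [e, orderOf_one] at hlt
        have := orderOf_pos x
        omega
      · rw [← hn]
        exact ((Commute.pow_right hc q).pow_right n).eq
    · set a := s ^ orderOf x with ha
      have haq : a ^ q = 1 := by
        rw [ha, ← pow_mul, mul_comm, pow_mul, ← hj₀, ← pow_mul, mul_comm, pow_mul, pow_orderOf_eq_one, one_pow]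
      have hcop : q.Coprime (orderOf x) := hq.coprime_iff_not_dvd.2 hqx
      have ha1 : a ≠ 1 := fun e => hsnot (by
        have hd : orderOf s ∣ orderOf x := orderOf_dvd_of_pow_eq_one (ha ▸ e)
        have hc2 : q.Coprime (orderOf s) := hcop.coprime_dvd_right hd
        obtain ⟨l, hl⟩ := exists_pow_eq_self_of_coprime (x := s) hc2
        rw [← hl]
        exact pow_mem (show s ^ q ∈ Subgroup.zpowers x from ⟨jz, hjz⟩) l)
      haveI := Fact.mk hq
      have hoa : orderOf a = q := orderOf_eq_prime haq ha1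
      have hax : Commute a x := hsx.pow_left _
      have hoy : orderOf (a * x) = q * orderOf x := by
        rw [Commute.orderOf_mul_eq_mul_orderOf_of_coprime hax (hoa ▸ hcop), hoa]
      refine ⟨a * x, hoy ▸ hqodd.mul hx, fun e => ?_, ⟨hw.1, ?_⟩, ?_, fun c hc => ?_⟩
      · rw [e, orderOf_one] at hoy
        have h1 := hq.two_le
        have h2 := orderOf_pos x
        nlinarith
      · rw [show w * (a * x) * w⁻¹ = (w * a * w⁻¹) * (w * x * w⁻¹) by group, ha, ← conj_pow, hws, hw.2,
          inv_pow, mul_inv_rev, ← ha]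
        exact (hax.inv_inv).eq
      · rw [hoy]
        have h1 := hq.two_le
        have h2 := orderOf_pos x
        nlinarith
      · obtain ⟨n, hn⟩ := exists_pow_eq_self_of_coprime (x := x) hcop
        have e : (a * x) ^ q = x ^ q := by rw [hax.mul_pow, haq, one_mul]
        rw [← hn, ← e]
        exact ((Commute.pow_right hc q).pow_right n).eq
  · -- every involution of the centraliser commutes with `w`
    exfalso
    push Not at hN
    obtain ⟨N, hNn, hN2, hwN'⟩ := hN
    set M : Subgroup W := (N.comap (QuotientGroup.mk' Z')).map Cs.subtype ⊓ Subgroup.centralizer ({x} : Set W) with hM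
    have hMx : ∀ g ∈ M, g * x = x * g := fun g hg => Subgroup.mem_centralizer_singleton_iff.1 hg.2
    have hxM : Z.subgroupOf M ≤ Subgroup.center ↥M := by
      intro z hz
      obtain ⟨k, hk⟩ := Subgroup.mem_subgroupOf.1 hz
      rw [Subgroup.mem_center_iff]
      intro g
      apply Subtype.ext
      show (g : W) * z = z * g
      rw [← show x ^ k = (z : W) from hk]
      exact (Commute.zpow_right (hMx g g.2 : Commute (g : W) x) k).eq
    haveI : (Z.subgroupOf M).Normal := ⟨fun z hz g => by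
      rw [Subgroup.mem_center_iff.1 (hxM hz) g, mul_inv_cancel_right]
      exact hz⟩
    have hquo : IsPGroup 2 (↥M ⧸ Z.subgroupOf M) := by
      intro g
      obtain ⟨g, rfl⟩ := QuotientGroup.mk_surjective g
      obtain ⟨c, hc, hcg⟩ := g.2.1
      obtain ⟨k, hk⟩ := hN2 ⟨_, hc⟩
      refine ⟨k, ?_⟩
      have hk' : (c : ↥Cs ⧸ Z') ^ 2 ^ k = 1 := congrArg Subtype.val hk
      rw [← QuotientGroup.mk_pow, QuotientGroup.eq_one_iff, Subgroup.mem_subgroupOf] at hk'
      rw [← QuotientGroup.mk_pow, QuotientGroup.eq_one_iff, Subgroup.mem_subgroupOf, SubmonoidClass.coe_pow,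
        ← hcg]
      simpa using hk'
    have hnil : Group.IsNilpotent ↥M := by
      haveI := hquo.isNilpotent
      exact Subgroup.isNilpotent_of_ker_le_center (QuotientGroup.mk' (Z.subgroupOf M))
        (by rw [QuotientGroup.ker_mk']; exact hxM)
    obtain ⟨P⟩ := (inferInstance : Nonempty (Sylow 2 ↥M))
    have hPn : (P : Subgroup ↥M).Normal := by
      haveI := hnil
      exact Sylow.normal_of_normalizerCondition Group.normalizerCondition_of_isNilpotent P
    set K := Subgroup.closure {g : W | g ∈ M ∧ ∃ k : ℕ, g ^ 2 ^ k = 1} with hK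
    have hKP : K ≤ (P : Subgroup ↥M).map M.subtype := by
      rw [hK, Subgroup.closure_le]
      rintro g ⟨hg, k, hk⟩
      have hg2 : IsPGroup 2 ↥(Subgroup.zpowers (⟨g, hg⟩ : ↥M)) := by
        obtain ⟨l, -, hl⟩ := (Nat.dvd_prime_pow Nat.prime_two).mp
          (orderOf_dvd_of_pow_eq_one (show (⟨g, hg⟩ : ↥M) ^ 2 ^ k = 1 from Subtype.ext hk))
        exact IsPGroup.of_card (n := l) (by rw [Nat.card_zpowers, hl])
      obtain ⟨R, hR⟩ := hg2.exists_le_sylow
      haveI := hPn
      letI := Sylow.unique_of_normal P hPn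
      rw [Subsingleton.elim R P] at hR
      exact ⟨⟨g, hg⟩, hR (Subgroup.mem_zpowers _), rfl⟩
    have hMnorm : ∀ c, c * x = x * c → ∀ g ∈ M, c⁻¹ * g * c ∈ M := by
      intro c hc g hg
      refine Subgroup.mem_inf.2 ⟨?_, ?_⟩
      · obtain ⟨g', hg', rfl⟩ := hg.1
        refine ⟨(⟨c, hBCs c hc⟩ : ↥Cs)⁻¹ * g' * ⟨c, hBCs c hc⟩, ?_, by simp⟩
        have := hNn.conj_mem _ hg' (((⟨c, hBCs c hc⟩ : ↥Cs) : ↥Cs ⧸ Z')⁻¹)
        simpa using this
      · have hc' : c ∈ Subgroup.centralizer ({x} : Set W) := Subgroup.mem_centralizer_singleton_iff.2 hc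
        exact mul_mem (mul_mem (inv_mem hc') hg.2) hc'
    have hK1 : K = ⊥ := two_centralizer_bot h hx hx1 hw.isConj K
      (((P.2).map M.subtype).to_le hKP) fun c hc g hg => by
        have : K ≤ K.comap (MulAut.conj c⁻¹).toMonoidHom := by
          rw [hK, Subgroup.closure_le]
          rintro g' ⟨hg', k, hk⟩
          refine Subgroup.subset_closure ⟨?_, k, ?_⟩
          · simpa using hMnorm c hc g' hg'
          · rw [← map_pow, hk, map_one]
        simpa using this hg
    have hall : ∀ u, orderOf u = 2 → u * x = x * u → u * w = w * u := by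
      intro u hu hux
      have huB : u ∈ Subgroup.centralizer ({x} : Set W) := Subgroup.mem_centralizer_singleton_iff.2 hux
      set d := u * (w * u * w⁻¹) with hd
      have hdM : d ∈ M := by
        refine Subgroup.mem_inf.2 ⟨?_, mul_mem huB ?_⟩
        · refine ⟨⟨u, hBCs u hux⟩ * (⟨w, hwCs⟩ * ⟨u, hBCs u hux⟩ * (⟨w, hwCs⟩)⁻¹), ?_, by simp [hd]⟩
          have h1 := mul_mem (hNn.conj_mem _ hwN' ((⟨u, hBCs u hux⟩ : ↥Cs) : ↥Cs ⧸ Z')) (inv_mem hwN')
          rw [hwb] at h1
          have hu2 : (⟨u, hBCs u hux⟩ : ↥Cs)⁻¹ = ⟨u, hBCs u hux⟩ := Subtype.ext (inv_eq_self hu)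
          rw [← QuotientGroup.mk_inv, hu2] at h1
          show QuotientGroup.mk' Z' _ ∈ N
          rw [map_mul, map_mul, map_mul, map_inv]
          simpa [mul_assoc] using h1
        · rw [Subgroup.mem_centralizer_singleton_iff]
          apply commute_of_conj
          calc w * u * w⁻¹ * x * (w * u * w⁻¹)⁻¹ = w * (u * (w⁻¹ * x * w) * u⁻¹) * w⁻¹ := by group
            _ = w * x⁻¹ * w⁻¹ := by
              rw [inv_eq_self hw.1, show w * x * w = w * x * w⁻¹ by rw [inv_eq_self hw.1], hw.2,
                ← conj_inv, conj_inv_of_commute hux]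
            _ = x := hwx'
      have hudu : u * d * u⁻¹ = d⁻¹ := by
        have hwuw : (w * u * w⁻¹)⁻¹ = w * u * w⁻¹ := by
          rw [mul_inv_rev, mul_inv_rev, inv_inv, inv_eq_self hu, mul_assoc]
        rw [hd, ← mul_assoc u u, inv_mul_self hu, one_mul, mul_inv_rev, hwuw]
      obtain ⟨k, hk⟩ := hquo (⟨d, hdM⟩ : ↥M)
      rw [← QuotientGroup.mk_pow, QuotientGroup.eq_one_iff, Subgroup.mem_subgroupOf] at hk
      obtain ⟨k', hk'⟩ := hk
      have hd1 : d ^ 2 ^ k = 1 := by
        have e1 : u * d ^ 2 ^ k * u⁻¹ = (d ^ 2 ^ k)⁻¹ := by rw [← conj_pow, hudu, inv_pow]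
        have hk'' : x ^ k' = d ^ 2 ^ k := hk'
        have e2 : u * d ^ 2 ^ k * u⁻¹ = d ^ 2 ^ k := by rw [← hk'', ← conj_zpow, conj_inv_of_commute hux]
        by_contra hne
        refine odd_sq_ne ?_ hne (e1.symm.trans e2)
        rw [← hk'']
        exact hx.of_dvd_nat (orderOf_dvd_of_mem_zpowers ⟨k', rfl⟩)
      have : d ∈ K := Subgroup.subset_closure ⟨hdM, k, hd1⟩
      rw [hK1, Subgroup.mem_bot, hd] at this
      have e3 : w * u * w⁻¹ = u := by rw [eq_inv_of_mul_eq_one_right this, inv_eq_self hu]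
      exact (commute_of_conj e3).symm
    -- so they generate a normal 2-subgroup
    set X : Subgroup W := Subgroup.centralizer ({x} : Set W) ⊓ Subgroup.centralizer ({w} : Set W) with hX
    have hP' : IsPGroup 2 ↥(Subgroup.closure {u : W | u ∈ X ∧ orderOf u = 2}) :=
      invols_pgroup X fun u huX t htX hu ht ht1 hut =>
        clash h hx ht hx1 ht1 (Subgroup.mem_centralizer_singleton_iff.1 htX.1).symm hu hw.1
          (Subgroup.mem_centralizer_singleton_iff.1 huX.2)
          (conj_inv_of_commute (Subgroup.mem_centralizer_singleton_iff.1 huX.1)) hut hw.2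
          (conj_inv_of_commute (Subgroup.mem_centralizer_singleton_iff.1 htX.2).symm)
    have hmem : ∀ u, orderOf u = 2 → u * x = x * u → u ∈ {u : W | u ∈ X ∧ orderOf u = 2} := fun u hu hux =>
      ⟨Subgroup.mem_inf.2 ⟨Subgroup.mem_centralizer_singleton_iff.2 hux,
        Subgroup.mem_centralizer_singleton_iff.2 (hall u hu hux)⟩, hu⟩
    have hbot := two_centralizer_bot h hx hx1 hw.isConj _ hP' fun c hc g hg => by
      have : Subgroup.closure {u : W | u ∈ X ∧ orderOf u = 2} ≤
          (Subgroup.closure {u : W | u ∈ X ∧ orderOf u = 2}).comap (MulAut.conj c⁻¹).toMonoidHom := by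
        rw [Subgroup.closure_le]
        rintro u ⟨huX, hu⟩
        refine Subgroup.subset_closure (hmem _ ((MulEquiv.orderOf_eq (MulAut.conj c⁻¹) u).trans hu) ?_)
        have hc' : c ∈ Subgroup.centralizer ({x} : Set W) := Subgroup.mem_centralizer_singleton_iff.2 hc
        rw [← Subgroup.mem_centralizer_singleton_iff]
        simpa using mul_mem (mul_mem (inv_mem hc') huX.1) hc'
      simpa using this hg
    have := Subgroup.subset_closure (hmem i hi hix)
    rw [hbot] at this
    rw [Subgroup.mem_bot.1 this, orderOf_one] at hi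
    omega

/-- Elements inverted by involutions have centralisers of odd order. -/
theorem no_bad (h : Hyp W V) : ∀ (w x i : W), Inverts w x → Odd (orderOf x) → x ≠ 1 →
    orderOf i = 2 → i * x ≠ x * i := by
  classical
  haveI := Fintype.ofFinite W
  intro w₀ x₀ i₀ hw₀ hx₀ hx₀1 hi₀ hix₀
  set S := (Finset.univ : Finset W).filter fun x =>
    Odd (orderOf x) ∧ x ≠ 1 ∧ (∃ w, Inverts w x) ∧ ∃ i, orderOf i = 2 ∧ i * x = x * i with hS
  obtain ⟨x, hxS, hmax⟩ := S.exists_max_image (fun x => orderOf x)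
    ⟨x₀, Finset.mem_filter.2 ⟨Finset.mem_univ _, hx₀, hx₀1, ⟨w₀, hw₀⟩, i₀, hi₀, hix₀⟩⟩
  obtain ⟨-, hx, hx1, ⟨w, hw⟩, i, hi, hix⟩ := Finset.mem_filter.1 hxS
  obtain ⟨u, hu, hux, huw⟩ := exists_commuting_involution hw hi hix
  obtain ⟨y, hy, hy1, hwy, hlt, hyx⟩ := exists_bigger h hx hx1 hw hix hi
  have hC : ∀ v : W, orderOf v = 2 → v * y ≠ y * v := fun v hv hvy => by
    have := hmax y (Finset.mem_filter.2 ⟨Finset.mem_univ _, hy, hy1, ⟨w, hwy⟩, v, hv, hvy⟩)
    omega
  set X : Subgroup W := Subgroup.centralizer ({x} : Set W) ⊓ Subgroup.centralizer ({w} : Set W) with hX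
  set P := Subgroup.closure {v : W | v ∈ X ∧ orderOf v = 2} with hP
  have hP2 : IsPGroup 2 P := invols_pgroup X fun v hvX t htX hv ht ht1 hvt =>
    clash h hx ht hx1 ht1 (Subgroup.mem_centralizer_singleton_iff.1 htX.1).symm hv hw.1
      (Subgroup.mem_centralizer_singleton_iff.1 hvX.2)
      (conj_inv_of_commute (Subgroup.mem_centralizer_singleton_iff.1 hvX.1)) hvt hw.2
      (conj_inv_of_commute (Subgroup.mem_centralizer_singleton_iff.1 htX.2).symm)
  have hPX : P ≤ X := by
    rw [hP, Subgroup.closure_le]; exact fun v hv => hv.1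
  have huP : u ∈ P := Subgroup.subset_closure ⟨Subgroup.mem_inf.2
    ⟨Subgroup.mem_centralizer_singleton_iff.2 hux, Subgroup.mem_centralizer_singleton_iff.2 huw⟩, hu⟩
  have hle := group_fixes h hy hy1 hwy hC P hP2
    (fun p hp => Subgroup.mem_centralizer_singleton_iff.1 (hPX hp).2)
    (fun c hc hcw p hp => by
      have hcX : c ∈ X := Subgroup.mem_inf.2 ⟨Subgroup.mem_centralizer_singleton_iff.2 (hyx c hc),
        Subgroup.mem_centralizer_singleton_iff.2 hcw⟩
      have : P ≤ P.comap (MulAut.conj c⁻¹).toMonoidHom := by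
        rw [hP, Subgroup.closure_le]
        rintro v ⟨hvX, hv⟩
        refine Subgroup.subset_closure ⟨?_, (MulEquiv.orderOf_eq (MulAut.conj c⁻¹) v).trans hv⟩
        simpa using mul_mem (mul_mem (inv_mem hcX) hvX) hcX
      simpa using this hp)
    huP
  -- so `u` fixes everything
  have hwx : w * x = x⁻¹ * w := by rw [← hw.2, inv_mul_cancel_right]
  have hinj : Function.Injective fun p : fx V w × fx V w => (p.1 : V) * x • (p.2 : V) := by
    rintro ⟨⟨a, ha⟩, ⟨b, hb⟩⟩ ⟨⟨a', ha'⟩, ⟨b', hb'⟩⟩ e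
    have e' : a * x • b = a' * x • b' := e
    set A := a * a' with hA
    set B := b * b' with hBdef
    have hAB : x • B = A := by
      have h1 : a * x • b * (a' * x • b') = 1 := by rw [e', h.two]
      rw [hBdef, smul_mul']
      have h2 : A * (x • b * x • b') = 1 := by rw [hA, ← h1]; ac_rfl
      calc x • b * x • b' = (A * A) * (x • b * x • b') := by rw [h.two, one_mul]
        _ = A * (A * (x • b * x • b')) := mul_assoc _ _ _
        _ = A := by rw [h2, mul_one]
    have hAfix : w • A = A := (fx V w).mul_mem ha ha'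
    have hBfix : w • B = B := (fx V w).mul_mem hb hb'
    have hB1 : B = 1 := by
      have h1 : x⁻¹ • B = x • B := by
        conv_lhs => rw [← hBfix]
        rw [← mul_smul, ← hwx, mul_smul, hAB, hAfix]
      rw [inv_smul_eq_iff, ← mul_smul] at h1
      have hxx : x * x ≠ 1 := fun e2 => odd_sq_ne hx hx1 (inv_eq_of_mul_eq_one_right e2)
      refine fpf h ?_ hxx (isConj_iff.2 ⟨w, ?_⟩) h1.symm
      · rw [← pow_two]; exact hx.of_dvd_nat (orderOf_pow_dvd 2)
      · rw [← pow_two, ← conj_pow, hw.2, inv_pow]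
    have hA1 : A = 1 := by rw [← hAB, hB1, smul_one]
    refine Prod.ext (Subtype.ext ?_) (Subtype.ext ?_)
    · show a = a'
      calc a = a * (a' * a') := by rw [h.two, mul_one]
        _ = A * a' := (mul_assoc _ _ _).symm
        _ = a' := by rw [hA1, one_mul]
    · show b = b'
      calc b = b * (b' * b') := by rw [h.two, mul_one]
        _ = B * b' := (mul_assoc _ _ _).symm
        _ = b' := by rw [hB1, one_mul]
  let ψ : V →* V :=
    { toFun := fun a => a * w • a
      map_one' := by rw [smul_one, mul_one]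
      map_mul' := fun a b => by rw [smul_mul', mul_mul_mul_comm] }
  have hker : ψ.ker = fx V w := by
    ext a
    rw [MonoidHom.mem_ker, mem_fx]
    show a * w • a = 1 ↔ _
    constructor
    · intro e
      calc w • a = (a * a) * w • a := by rw [h.two, one_mul]
        _ = a * (a * w • a) := mul_assoc _ _ _
        _ = a := by rw [e, mul_one]
    · intro e; rw [e, h.two]
  have hrange : ψ.range ≤ fx V w := by
    rintro _ ⟨a, rfl⟩
    exact mul_smul_mem_fx h hw.1 a
  have hcard : Nat.card V ≤ Nat.card (fx V w × fx V w) := by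
    rw [Nat.card_prod, ← Subgroup.card_mul_index ψ.ker, Subgroup.index_ker, hker]
    exact Nat.mul_le_mul_left _ (Nat.le_of_dvd Nat.card_pos (Subgroup.card_dvd_of_le hrange))
  haveI := Fintype.ofFinite V
  haveI := Fintype.ofFinite (fx V w × fx V w)
  have hbij : Function.Bijective fun p : fx V w × fx V w => (p.1 : V) * x • (p.2 : V) := by
    rw [Fintype.bijective_iff_injective_and_card]
    refine ⟨hinj, le_antisymm (Fintype.card_le_of_injective _ hinj) ?_⟩
    rwa [← Nat.card_eq_fintype_card, ← Nat.card_eq_fintype_card]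
  have hu1 : u = 1 := h.faith u fun c => by
    obtain ⟨⟨a, b⟩, hab⟩ := hbij.2 c
    have hab' : (a : V) * x • (b : V) = c := hab
    rw [← hab', smul_mul', hle a.2, ← mul_smul, hux, mul_smul, hle b.2]
  rw [hu1, orderOf_one] at hu
  omega

theorem commuting_le (h : Hyp W V) {u i : W} (hu : orderOf u = 2) (hi : orderOf i = 2)
    (hiu : i * u = u * i) : fx V u ≤ fx V i := by
  obtain ⟨y, hy1, hy, hyu⟩ := BaerSuzuki.exists_inverted_odd u hu (fun N hN hN2 huN => by
    rw [two_normal_bot h N hN hN2, Subgroup.mem_bot] at huN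
    rw [huN, orderOf_one] at hu
    omega)
  set X : Subgroup W := Subgroup.centralizer ({u} : Set W) with hX
  set P := Subgroup.closure {v : W | v ∈ X ∧ orderOf v = 2} with hP
  have hP2 : IsPGroup 2 P := invols_pgroup X fun v _ t htX hv ht ht1 hvt =>
    no_bad h v t u ⟨hv, hvt⟩ ht ht1 hu (Subgroup.mem_centralizer_singleton_iff.1 htX).symm
  have hPX : P ≤ X := by
    rw [hP, Subgroup.closure_le]; exact fun v hv => hv.1
  refine group_fixes h hy hy1 ⟨hu, hyu⟩ (fun v hv => no_bad h u y v ⟨hu, hyu⟩ hy hy1 hv) P hP2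
    (fun p hp => Subgroup.mem_centralizer_singleton_iff.1 (hPX hp)) (fun c _ hcu p hp => ?_)
    (Subgroup.subset_closure ⟨Subgroup.mem_centralizer_singleton_iff.2 hiu, hi⟩)
  have hcX : c ∈ X := Subgroup.mem_centralizer_singleton_iff.2 hcu
  have : P ≤ P.comap (MulAut.conj c⁻¹).toMonoidHom := by
    rw [hP, Subgroup.closure_le]
    rintro v ⟨hvX, hv⟩
    refine Subgroup.subset_closure ⟨?_, (MulEquiv.orderOf_eq (MulAut.conj c⁻¹) v).trans hv⟩
    simpa using mul_mem (mul_mem (inv_mem hcX) hvX) hcX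
  simpa using this hp

theorem commuting_eq (h : Hyp W V) {u i : W} (hu : orderOf u = 2) (hi : orderOf i = 2)
    (hiu : i * u = u * i) : fx V u = fx V i :=
  le_antisymm (commuting_le h hu hi hiu) (commuting_le h hi hu hiu.symm)

/-- Involutions with a common fixed vector have the same fixed space. -/
theorem shared_eq (h : Hyp W V) {u w : W} (hu : orderOf u = 2) (hw : orderOf w = 2) {a : V} (ha : a ≠ 1)
    (hua : u • a = a) (hwa : w • a = a) : fx V u = fx V w := by
  haveI : Fact (Nat.Prime 2) := ⟨Nat.prime_two⟩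
  set P := Subgroup.closure {v : W | v ∈ MulAction.stabilizer W a ∧ orderOf v = 2} with hP
  have hP2 : IsPGroup 2 P := invols_pgroup _ fun v _ t ht _ htodd ht1 hvt =>
    ha (fpf h htodd ht1 (isConj_iff.2 ⟨v, hvt⟩) (MulAction.mem_stabilizer_iff.1 ht))
  have huP : u ∈ P := Subgroup.subset_closure ⟨MulAction.mem_stabilizer_iff.2 hua, hu⟩
  have hwP : w ∈ P := Subgroup.subset_closure ⟨MulAction.mem_stabilizer_iff.2 hwa, hw⟩
  haveI : Nontrivial P := ⟨⟨u, huP⟩, 1, fun e => by
    rw [show u = 1 from congrArg Subtype.val e, orderOf_one] at hu; omega⟩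
  haveI := hP2.center_nontrivial
  obtain ⟨z, hz⟩ := exists_ne (1 : Subgroup.center P)
  obtain ⟨k, hk⟩ := (hP2.to_subgroup (Subgroup.center P)) z
  have hzeven : ¬ Odd (orderOf z) := fun ho => hz (by
    obtain ⟨l, -, hl⟩ := (Nat.dvd_prime_pow Nat.prime_two).mp (orderOf_dvd_of_pow_eq_one hk)
    rcases l with _ | l
    · exact orderOf_eq_one_iff.1 hl
    · rw [hl] at ho
      exact absurd ho (Nat.not_odd_iff_even.2 (Even.pow_of_ne_zero even_two (Nat.succ_ne_zero l))))
  obtain ⟨n, hn⟩ := exists_involution_of_even hzeven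
  set s := ((z ^ n : Subgroup.center P) : P) with hs
  have hso : orderOf (s : W) = 2 := by rw [Subgroup.orderOf_coe, hs, Subgroup.orderOf_coe, hn]
  have hcen : ∀ g ∈ P, (s : W) * g = g * s := fun g hg =>
    congrArg Subtype.val (Subgroup.mem_center_iff.1 (z ^ n).2 ⟨g, hg⟩).symm
  rw [commuting_eq h hu hso (hcen u huP), commuting_eq h hw hso (hcen w hwP)]

theorem commute_of_fx_eq (h : Hyp W V) {u w : W} (hu : orderOf u = 2) (hw : orderOf w = 2)
    (e : fx V u = fx V w) : u * w = w * u := by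
  rw [← mul_inv_eq_one]
  refine h.faith _ fun a => ?_
  have key : ∀ {p q : W}, orderOf p = 2 → orderOf q = 2 → fx V p = fx V q → ∀ c : V,
      p • q • c = c * (c * p • c) * (c * q • c) := by
    intro p q hp hq e c
    have hq' : q • c = c * (c * q • c) := by rw [← mul_assoc, h.two, one_mul]
    have hp' : p • c = c * (c * p • c) := by rw [← mul_assoc, h.two, one_mul]
    have hfix : p • (c * q • c) = c * q • c := by
      have := mul_smul_mem_fx h hq c
      rwa [← e] at this
    calc p • q • c = p • (c * (c * q • c)) := by rw [← hq']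
      _ = p • c * (c * q • c) := by rw [smul_mul', hfix]
      _ = c * (c * p • c) * (c * q • c) := by rw [← hp']
  set c := (w * u)⁻¹ • a with hc
  have hca : (w * u) • c = a := smul_inv_smul _ _
  have : u • w • c = w • u • c := by
    rw [key hu hw e, key hw hu e.symm]; ac_rfl
  rw [mul_smul, ← hc, mul_smul, this, ← mul_smul]
  exact hca

/-- The image of a subgroup under an element. -/
def sm (g : W) (U : Subgroup V) : Subgroup V := U.map (MulDistribMulAction.toMonoidHom V g)

theorem sm_fx (g i : W) : sm g (fx V i) = fx V (g * i * g⁻¹) := by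
  ext a
  constructor
  · rintro ⟨b, hb, rfl⟩
    exact conj_mem_fx g hb
  · intro ha
    refine ⟨g⁻¹ • a, ?_, smul_inv_smul g a⟩
    have := conj_mem_fx g⁻¹ (mem_fx.1 ha)
    show i • g⁻¹ • a = g⁻¹ • a
    simpa [mul_assoc] using this

theorem sm_mul (g g' : W) (U : Subgroup V) : sm (g * g') U = sm g (sm g' U) := by
  rw [sm, sm, sm, Subgroup.map_map]
  congr 1
  ext a
  exact mul_smul g g' a

theorem sm_one (U : Subgroup V) : sm (1 : W) U = U := by
  ext a
  constructor
  · rintro ⟨b, hb, rfl⟩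
    simpa using hb
  · intro ha
    exact ⟨a, ha, one_smul W a⟩

theorem sm_pow {g : W} {U : Subgroup V} (hg : sm g U = U) (n : ℕ) : sm (g ^ n) U = U := by
  induction n with
  | zero => rw [pow_zero, sm_one]
  | succ n ih => rw [pow_succ, sm_mul, hg, ih]

theorem fx_ne_bot (h : Hyp W V) {i : W} (hi : orderOf i = 2) : fx V i ≠ ⊥ := by
  obtain ⟨a, ha, hfix⟩ := exists_fixed h _ (zpowers_two hi)
  intro e
  have : a ∈ (⊥ : Subgroup V) := e ▸ (mem_fx.2 (hfix i (Subgroup.mem_zpowers i)))
  exact ha (by simpa using this)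

/-- An involution fixing a fixed space setwise has that fixed space. -/
theorem fx_eq_of_sm (h : Hyp W V) {s i : W} (hs : orderOf s = 2) (hi : orderOf i = 2)
    (e : sm s (fx V i) = fx V i) : fx V s = fx V i := by
  obtain ⟨d, hd, hd1⟩ := (Subgroup.bot_or_exists_ne_one (fx V i)).resolve_left (fx_ne_bot h hi)
  have hsd : s • d ∈ fx V i := e ▸ ⟨d, hd, rfl⟩
  by_cases hfix : d * s • d = 1
  · refine shared_eq h hs hi hd1 ?_ hd
    calc s • d = (d * d) * s • d := by rw [h.two, one_mul]
      _ = d * (d * s • d) := mul_assoc _ _ _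
      _ = d := by rw [hfix, mul_one]
  · exact shared_eq h hs hi hfix (mul_smul_mem_fx h hs d) ((fx V i).mul_mem hd hsd)

/-- A real element of odd order inverted by an involution fixes no fixed space. -/
theorem semiregular (h : Hyp W V) {g u i : W} (hg : Odd (orderOf g)) (hg1 : g ≠ 1) (hu : Inverts u g)
    (hi : orderOf i = 2) (e : sm g (fx V i) = fx V i) : False := by
  obtain ⟨a, ha, ha1⟩ := (Subgroup.bot_or_exists_ne_one (fx V i)).resolve_left (fx_ne_bot h hi)
  obtain ⟨k, hk⟩ := exists_fixed_involution h hu.1 ha1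
  obtain ⟨c, hc, hca⟩ := h.trans g hg hg1 hu.isConj a ha1 k
  have hco : orderOf (c * i * c⁻¹) = 2 := (MulEquiv.orderOf_eq (MulAut.conj c) i).trans hi
  have hUu : fx V (c * i * c⁻¹) = fx V u :=
    shared_eq h hco hu.1 (smul_ne_one ha1 k) (hca ▸ conj_mem_fx c ha) hk
  have hgu : sm g (fx V u) = fx V u := by
    rw [← hUu, ← sm_fx, ← sm_mul, ← hc, sm_mul, e]
  rw [sm_fx] at hgu
  have hgo : orderOf (g * u * g⁻¹) = 2 := (MulEquiv.orderOf_eq (MulAut.conj g) u).trans hu.1
  have hcomm := commute_of_fx_eq h hgo hu.1 hgu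
  have hug : u * g = g⁻¹ * u := by rw [← hu.2, inv_mul_cancel_right]
  have hgug : g * u * g⁻¹ = g * g * u := by
    rw [mul_assoc g u, mul_assoc g g]
    congr 1
    rw [mul_inv_eq_iff_eq_mul, mul_assoc, hug, ← mul_assoc, mul_inv_cancel, one_mul]
  rw [hgug] at hcomm
  have h2 : g * g = g⁻¹ * g⁻¹ := by
    apply mul_right_cancel (b := u * u)
    calc g * g * (u * u) = u * (g * g * u) := by rw [← hcomm]; group
      _ = u * g * (g * u) := by group
      _ = g⁻¹ * u * (g * u) := by rw [hug]
      _ = g⁻¹ * (u * g) * u := by group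
      _ = g⁻¹ * g⁻¹ * (u * u) := by rw [hug]; group
  have hgg : g * g ≠ 1 := fun e2 => odd_sq_ne hg hg1 (inv_eq_of_mul_eq_one_right e2)
  refine odd_sq_ne (by rw [← pow_two]; exact hg.of_dvd_nat (orderOf_pow_dvd 2)) hgg ?_
  rw [mul_inv_rev, ← h2]

/-- At most one involution moves one fixed space to another. -/
theorem swap_unique (h : Hyp W V) {u w i : W} (hu : orderOf u = 2) (hw : orderOf w = 2)
    (hi : orderOf i = 2) (hne : fx V u ≠ fx V i) (e : sm u (fx V i) = sm w (fx V i)) : u = w := by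
  haveI : Fact (Nat.Prime 2) := ⟨Nat.prime_two⟩
  set g := u * w with hg
  have hgU : sm g (fx V i) = fx V i := by
    rw [hg, sm_mul, ← e, ← sm_mul, inv_mul_self hu, sm_one]
  have hug : u * g * u⁻¹ = g⁻¹ := by
    rw [hg, ← mul_assoc, inv_mul_self hu, one_mul, mul_inv_rev, inv_eq_self hw]
  by_contra hne'
  have hg1 : g ≠ 1 := fun e1 => hne' (by rw [eq_inv_of_mul_eq_one_left e1, inv_eq_self hw])
  by_cases hev : Odd (orderOf g)
  · exact semiregular h hev hg1 ⟨hu, hug⟩ hi hgU
  · obtain ⟨n, hn⟩ := exists_involution_of_even hev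
    have hus : g ^ n * u = u * g ^ n := by
      refine (commute_of_conj ?_).symm
      rw [← conj_pow, hug, inv_pow, inv_eq_self hn]
    exact hne ((commuting_eq h hu hn hus).trans (fx_eq_of_sm h hn hi (sm_pow hgU n)))

/-- Each involution is determined by its fixed space. -/
theorem fx_injective (h : Hyp W V) {u w : W} (hu : orderOf u = 2) (hw : orderOf w = 2)
    (e : fx V u = fx V w) : u = w := by
  classical
  haveI := Fintype.ofFinite W
  set I := (Finset.univ : Finset W).filter fun g => orderOf g = 2 with hI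
  set Ω := I.image (fun g => fx V g) with hΩ
  have hmem : ∀ g, g ∈ I ↔ orderOf g = 2 := fun g => by simp [hI]
  have hΩ2 : 2 ≤ Ω.card := by
    by_contra hlt
    have hall : ∀ g, orderOf g = 2 → fx V g = fx V u := fun g hg =>
      Finset.card_le_one.1 (show Ω.card ≤ 1 by omega) _ (Finset.mem_image_of_mem _ ((hmem g).2 hg)) _
        (Finset.mem_image_of_mem _ ((hmem u).2 hu))
    rcases h.irr (fx V u) (fun g a ha => by
      have h1 := hall (g * u * g⁻¹) ((MulEquiv.orderOf_eq (MulAut.conj g) u).trans hu)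
      rw [← h1]
      exact conj_mem_fx g ha) with e' | e'
    · exact fx_ne_bot h hu e'
    · have : u = 1 := h.faith u fun a => show a ∈ fx V u from e' ▸ Subgroup.mem_top a
      rw [this, orderOf_one] at hu
      omega
  set D := (I ×ˢ Ω).filter fun p => p.2 ≠ fx V p.1 with hD
  set E := Ω.offDiag with hE
  have hDcard : D.card = I.card * (Ω.card - 1) := by
    rw [hD, Finset.card_filter, Finset.sum_product]
    rw [Finset.sum_congr rfl fun g hg => show (∑ U ∈ Ω, if U ≠ fx V g then 1 else 0) = Ω.card - 1 by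
      rw [← Finset.card_filter, Finset.filter_ne', Finset.card_erase_of_mem (Finset.mem_image_of_mem _ hg)]]
    rw [Finset.sum_const, smul_eq_mul]
  have hle : D.card ≤ E.card := by
    refine Finset.card_le_card_of_injOn (fun p => (p.2, sm p.1 p.2)) ?_ ?_
    · intro p hp
      simp only [hD, Finset.mem_coe, Finset.mem_filter, Finset.mem_product] at hp
      obtain ⟨⟨hp1, hp2⟩, hpne⟩ := hp
      obtain ⟨i, hi, hip⟩ := Finset.mem_image.1 hp2
      simp only [hE, Finset.mem_coe, Finset.mem_offDiag]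
      refine ⟨hp2, ?_, fun e' => hpne ?_⟩
      · rw [← hip, sm_fx]
        exact Finset.mem_image_of_mem _ ((hmem _).2 ((MulEquiv.orderOf_eq (MulAut.conj p.1) i).trans ((hmem i).1 hi)))
      · rw [← hip] at e' ⊢
        exact (fx_eq_of_sm h ((hmem _).1 hp1) ((hmem i).1 hi) e'.symm).symm
    · intro p hp p' hp' e'
      simp only [hD, Finset.mem_coe, Finset.mem_filter, Finset.mem_product] at hp hp'
      obtain ⟨⟨hp1, hp2⟩, hpne⟩ := hp
      obtain ⟨i, hi, hip⟩ := Finset.mem_image.1 hp2
      obtain ⟨e1, e2⟩ := Prod.ext_iff.1 e'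
      dsimp only at e1 e2
      rw [← e1] at e2
      refine Prod.ext ?_ e1
      rw [← hip] at e2 hpne
      exact swap_unique h ((hmem _).1 hp1) ((hmem _).1 hp'.1.1) ((hmem i).1 hi) hpne.symm e2
  rw [hDcard, hE, Finset.offDiag_card, ← Nat.mul_sub_one] at hle
  have hIΩ : I.card ≤ Ω.card := Nat.le_of_mul_le_mul_right hle (by omega)
  have hinj : Set.InjOn (fun g => fx V g) (I : Set W) :=
    Finset.card_image_iff.1 (le_antisymm Finset.card_image_le (hΩ ▸ hIΩ))
  exact hinj ((hmem u).2 hu) ((hmem w).2 hw) e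

/-- The stabiliser of a vector fixed by an involution centralises it. -/
theorem stabilizer_le (h : Hyp W V) {u : W} (hu : orderOf u = 2) {a : V} (ha : a ≠ 1) (hua : u • a = a) :
    MulAction.stabilizer W a ≤ Subgroup.centralizer ({u} : Set W) := by
  intro g hg
  rw [MulAction.mem_stabilizer_iff] at hg
  rw [Subgroup.mem_centralizer_singleton_iff]
  have hgo : orderOf (g * u * g⁻¹) = 2 := (MulEquiv.orderOf_eq (MulAut.conj g) u).trans hu
  refine commute_of_conj (fx_injective h hgo hu (shared_eq h hgo hu ha ?_ hua))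
  have := conj_mem_fx g hua
  rwa [hg] at this

/-- Solvability of the centraliser of an involution, from the smaller instance of the theorem. -/
theorem centralizer_solvable (h : Hyp W V) {u : W} (hu : orderOf u = 2)
    (ih : ∀ (W' V' : Type u) [Group W'] [Finite W'] [CommGroup V'] [Finite V'] [MulDistribMulAction W' V'],
      Nat.card W' < Nat.card W → Hyp W' V' → Group.IsSolvable W') :
    Group.IsSolvable ↥(Subgroup.centralizer ({u} : Set W)) := by
  classical
  haveI := Fintype.ofFinite (Subgroup V)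
  set C := Subgroup.centralizer ({u} : Set W) with hC
  have hCne : C ≠ ⊤ := by
    intro e
    have hcent : ∀ g : W, g * u = u * g := fun g =>
      Subgroup.mem_centralizer_singleton_iff.1 (show g ∈ C from e ▸ Subgroup.mem_top g)
    rcases h.irr (fx V u) (fun g a ha => by
      have := conj_mem_fx g (mem_fx.1 ha)
      rwa [conj_inv_of_commute (hcent g)] at this) with e' | e'
    · exact fx_ne_bot h hu e'
    · have : u = 1 := h.faith u fun a => show a ∈ fx V u from e' ▸ Subgroup.mem_top a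
      rw [this, orderOf_one] at hu
      omega
  set S := (Finset.univ : Finset (Subgroup V)).filter fun U =>
    U ≠ ⊥ ∧ U ≤ fx V u ∧ ∀ c ∈ C, ∀ a ∈ U, c • a ∈ U with hS
  obtain ⟨U, hU, hmin⟩ := S.exists_min_image (fun U => Nat.card U) ⟨fx V u, Finset.mem_filter.2
    ⟨Finset.mem_univ _, fx_ne_bot h hu, le_rfl, fun c hc a ha => by
      have := conj_mem_fx c (mem_fx.1 ha)
      rwa [conj_inv_of_commute (Subgroup.mem_centralizer_singleton_iff.1 hc)] at this⟩⟩
  obtain ⟨-, hUne, hUfx, hUinv⟩ := Finset.mem_filter.1 hU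
  letI act : MulDistribMulAction ↥C ↥U :=
    { smul := fun c a => ⟨(c : W) • (a : V), hUinv c c.2 a a.2⟩
      one_smul := fun a => Subtype.ext (one_smul W (a : V))
      mul_smul := fun c c' a => Subtype.ext (mul_smul (c : W) c' (a : V))
      smul_mul := fun c a b => Subtype.ext (smul_mul' (c : W) (a : V) b)
      smul_one := fun c => Subtype.ext (smul_one (c : W)) }
  set ρ := MulDistribMulAction.toMulAut ↥C ↥U with hρ
  have hcoe : ∀ (c : ↥C) (a : ↥U), ((ρ.rangeRestrict c • a : ↥U) : V) = (c : W) • (a : V) := fun c a => rfl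
  obtain ⟨a₀, ha₀, ha₀1⟩ := (Subgroup.bot_or_exists_ne_one U).resolve_left hUne
  have hne1 : ∀ {a : ↥U}, a ≠ 1 → (a : V) ≠ 1 := fun ha e => ha (Subtype.ext e)
  have hstab : ∀ a : ↥U, MulAction.stabilizer ↥ρ.range a =
      ((MulAction.stabilizer W (a : V)).subgroupOf C).map ρ.rangeRestrict := by
    intro a
    ext g
    obtain ⟨c, rfl⟩ := ρ.rangeRestrict_surjective g
    constructor
    · intro hc
      exact ⟨c, MulAction.mem_stabilizer_iff.2 ((hcoe c a).symm.trans (congrArg Subtype.val hc)), rfl⟩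
    · rintro ⟨c', hc', e⟩
      rw [← e, MulAction.mem_stabilizer_iff]
      exact Subtype.ext ((hcoe c' a).trans (MulAction.mem_stabilizer_iff.1 (Subgroup.mem_subgroupOf.1 hc')))
  have hsolvC : ∀ a : ↥U, a ≠ 1 → Group.IsSolvable ↥((MulAction.stabilizer W (a : V)).subgroupOf C) := fun a ha => by
    haveI := h.solv _ (hne1 ha)
    exact Group.isSolvable_of_isSolvable_injective
      (f := (Subgroup.subgroupOfEquivOfLe (stabilizer_le h hu (hne1 ha) (hUfx a.2))).toMonoidHom)
      (MulEquiv.injective _)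
  have hyp : Hyp ↥ρ.range ↥U :=
    { two := fun a => Subtype.ext (h.two a)
      nontriv := ⟨⟨a₀, ha₀⟩, fun e => ha₀1 (congrArg Subtype.val e)⟩
      faith := fun g hg => Subtype.ext (MulEquiv.ext fun a => hg a)
      irr := fun X hX => by
        by_cases hXb : X = ⊥
        · exact Or.inl hXb
        refine Or.inr ?_
        set X' := X.map U.subtype with hX'
        have hX'U : X' ≤ U := fun x hx => by
          obtain ⟨z, -, rfl⟩ := hx
          exact z.2
        have hX'S : X' ∈ S := Finset.mem_filter.2 ⟨Finset.mem_univ _,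
          fun e => hXb ((Subgroup.map_eq_bot_iff_of_injective X U.subtype_injective).1 e),
          hX'U.trans hUfx, fun c hc x hx => by
            obtain ⟨z, hz, rfl⟩ := hx
            exact ⟨ρ.rangeRestrict ⟨c, hc⟩ • z, hX _ z hz, hcoe ⟨c, hc⟩ z⟩⟩
        have hXcard : Nat.card X' = Nat.card X :=
          (Nat.card_congr (X.equivMapOfInjective _ U.subtype_injective).toEquiv).symm
        exact Subgroup.eq_top_of_le_card X (hXcard ▸ hmin X' hX'S)
      odd := fun a ha => by
        rw [hstab a]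
        refine (h.odd _ (hne1 ha)).of_dvd_nat ((Subgroup.index_map_dvd _ ρ.rangeRestrict_surjective).trans ?_)
        rw [← Subgroup.relIndex_mul_index (stabilizer_le h hu (hne1 ha) (hUfx a.2))]
        exact dvd_mul_right _ _
      solv := fun a ha => by
        haveI := hsolvC a ha
        rw [hstab a]
        exact Group.isSolvable_of_surjective
          (f := ρ.rangeRestrict.subgroupMap ((MulAction.stabilizer W (a : V)).subgroupOf C))
          (MonoidHom.subgroupMap_surjective _ _)
      trans := fun y hy hy1 hyr a ha g => by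
        obtain ⟨x, rfl, hx, hxr⟩ := exists_real_odd_lift ρ.rangeRestrict ρ.rangeRestrict_surjective hy hyr
        obtain ⟨g₀, rfl⟩ := ρ.rangeRestrict_surjective g
        have hx1 : (x : W) ≠ 1 := fun e => hy1 (by rw [show x = 1 from Subtype.ext e, map_one])
        obtain ⟨c, hc, hca⟩ := h.trans (x : W) (by rwa [Subgroup.orderOf_coe]) hx1
          (C.subtype.map_isConj hxr) (a : V) (hne1 ha) (g₀ : W)
        have hcC : c ∈ C := by
          have hco : orderOf (c * u * c⁻¹) = 2 := (MulEquiv.orderOf_eq (MulAut.conj c) u).trans hu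
          rw [hC, Subgroup.mem_centralizer_singleton_iff]
          refine commute_of_conj (fx_injective h hco hu (shared_eq h hco hu (smul_ne_one (hne1 ha) g₀) ?_ ?_))
          · show (c * u * c⁻¹) • ((g₀ : W) • (a : V)) = (g₀ : W) • (a : V)
            rw [← hca]; exact conj_mem_fx c (hUfx a.2)
          · exact hUfx (hUinv _ g₀.2 _ a.2)
        refine ⟨ρ.rangeRestrict ⟨c, hcC⟩, ?_, Subtype.ext ?_⟩
        · rw [← map_mul, ← map_mul]
          exact congrArg _ (Subtype.ext hc)
        · rw [hcoe, hcoe]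
          exact hca }
  have hlt : Nat.card ↥ρ.range < Nat.card W := by
    refine lt_of_le_of_lt (Nat.card_le_card_of_surjective ρ.rangeRestrict ρ.rangeRestrict_surjective) ?_
    have hlt' : (C : Set W).ncard < (Set.univ : Set W).ncard :=
      Set.ncard_lt_ncard (Set.ssubset_univ_iff.2 fun e => hCne (SetLike.coe_injective (by simpa using e)))
    rwa [Set.ncard_univ, ← Nat.card_coe_set_eq] at hlt'
  haveI := ih ↥ρ.range ↥U hlt hyp
  haveI : Group.IsSolvable ↥ρ.rangeRestrict.ker := by
    haveI := hsolvC ⟨a₀, ha₀⟩ (fun e => ha₀1 (congrArg Subtype.val e))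
    have hle : ρ.rangeRestrict.ker ≤ (MulAction.stabilizer W ((⟨a₀, ha₀⟩ : ↥U) : V)).subgroupOf C := by
      intro c hc
      rw [Subgroup.mem_subgroupOf, MulAction.mem_stabilizer_iff]
      have h2 := hcoe c ⟨a₀, ha₀⟩
      rw [MonoidHom.mem_ker.1 hc, one_smul] at h2
      exact h2.symm
    exact Group.isSolvable_of_isSolvable_injective (f := Subgroup.inclusion hle) (Subgroup.inclusion_injective hle)
  exact Group.isSolvable_of_ker_le_range ρ.rangeRestrict.ker.subtype ρ.rangeRestrict (by rw [Subgroup.range_subtype])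

/-- The theorem. -/
theorem solvable_of_hyp
    (hFT : ∀ (H : Type u) [Group H] [Finite H], Odd (Nat.card H) → Group.IsSolvable H) :
    ∀ (n : ℕ) (W V : Type u) [Group W] [Finite W] [CommGroup V] [Finite V] [MulDistribMulAction W V],
      Nat.card W = n → Hyp W V → Group.IsSolvable W := by
  intro n
  induction n using Nat.strong_induction_on with
  | _ n ih =>
  intro W V _ _ _ _ _ hn h
  haveI : Fact (Nat.Prime 2) := ⟨Nat.prime_two⟩
  by_cases heven : 2 ∣ Nat.card W
  · obtain ⟨u, hu⟩ := exists_prime_orderOf_dvd_card' 2 heven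
    haveI := centralizer_solvable h hu
      (fun W' V' _ _ _ _ _ hlt h' => ih _ (hn ▸ hlt) W' V' rfl h')
    have hiso : Cfsg.IsIsolatedInvolution u := ⟨hu, fun g hg => by
      have hgo : orderOf (g * u * g⁻¹) = 2 := (MulEquiv.orderOf_eq (MulAut.conj g) u).trans hu
      exact fx_injective h hgo hu (commuting_eq h hgo hu hg.eq)⟩
    obtain ⟨N, hN, hNodd, hcomm⟩ := ZStarTheorem.exists_odd_normal hiso
    haveI := hN
    haveI := hFT ↥N hNodd
    have hsurj : Function.Surjective
        ((QuotientGroup.mk' N).comp (Subgroup.centralizer ({u} : Set W)).subtype) := by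
      intro q
      obtain ⟨g, rfl⟩ := QuotientGroup.mk'_surjective N q
      set m := u * g * u⁻¹ * g⁻¹ with hm
      have hmodd : Odd (orderOf m) := hNodd.of_dvd_nat (Subgroup.orderOf_dvd_natCard N (hcomm g))
      obtain ⟨k, hk⟩ : ∃ k : ℕ, (m ^ k) ^ 2 = m := by
        obtain ⟨k, hk⟩ := exists_pow_eq_self_of_coprime (x := m) (Nat.coprime_two_left.2 hmodd)
        exact ⟨k, by rw [← pow_mul, mul_comm, pow_mul, hk]⟩
      set s := m ^ k with hs
      have hum : u * m * u⁻¹ = m⁻¹ := by
        have hguo : (g * u * g⁻¹)⁻¹ = g * u * g⁻¹ := by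
          rw [mul_inv_rev, mul_inv_rev, inv_inv, inv_eq_self hu, mul_assoc]
        have hm' : m = u * (g * u * g⁻¹) := by rw [hm, inv_eq_self hu]; group
        rw [hm', mul_inv_rev, hguo, ← mul_assoc u u, inv_mul_self hu, one_mul]
      have hus : u * s * u⁻¹ = s⁻¹ := by rw [hs, ← conj_pow, hum, inv_pow]
      have hgu : g * u * g⁻¹ = u * s ^ 2 := by
        rw [hk, hm]
        calc g * u * g⁻¹ = (u * u) * (g * u * g⁻¹) := by rw [inv_mul_self hu, one_mul]
          _ = u * (u * g * u * g⁻¹) := by group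
          _ = u * (u * g * u⁻¹ * g⁻¹) := by rw [inv_eq_self hu]
      have hmem : s * g ∈ Subgroup.centralizer ({u} : Set W) := by
        rw [Subgroup.mem_centralizer_singleton_iff]
        apply commute_of_conj
        calc s * g * u * (s * g)⁻¹ = s * (g * u * g⁻¹) * s⁻¹ := by group
          _ = s * (u * s * u⁻¹) * u := by rw [hgu, pow_two]; group
          _ = u := by rw [hus, mul_inv_cancel, one_mul]
      refine ⟨⟨s * g, hmem⟩, ?_⟩
      show QuotientGroup.mk' N (s * g) = QuotientGroup.mk' N g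
      rw [map_mul, show QuotientGroup.mk' N s = 1 from
        (QuotientGroup.eq_one_iff s).2 (pow_mem (hcomm g) k), one_mul]
    haveI : Group.IsSolvable (W ⧸ N) := Group.isSolvable_of_surjective hsurj
    exact Group.isSolvable_of_ker_le_range N.subtype (QuotientGroup.mk' N)
      (by rw [QuotientGroup.ker_mk', Subgroup.range_subtype])
  · exact hFT W (Nat.not_even_iff_odd.1 fun he => heven (even_iff_two_dvd.1 he))

end Cfsg.Agent.RealGraph52
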