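import Mathlib
import Cfsg.Agent.Lib.RealGraph52Module

/-!
A finite group whose graph of primes of real class sizes is disconnected is solvable, given that groups of odd
order are.

One component avoids `2` and is witnessed by an involution `t` of odd class size. Every real element of odd order
has centraliser of index prime to that of `t`, so the odd parts of products of two conjugates of `t` form a normal
abelian subgroup, modulo which `t` lies in a normal 2-subgroup; a chief factor inside the normal closure of `t`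
then carries the configuration of the module theorem.
-/

set_option autoImplicit false
set_option linter.style.haveILetI false
set_option linter.unusedSectionVars false

namespace Cfsg.Agent.RealGraph52

open HallCore (PiNat)

universe u

variable {G : Type u} [Group G] [Finite G]

/-- The size of the conjugacy class. -/
noncomputable abbrev nc {H : Type u} [Group H] (x : H) : ℕ := (Subgroup.centralizer ({x} : Set H)).index

/-- The hypothesis on the graph, oriented so that `2` is not in the second part. -/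
structure SplitGraph (G : Type u) [Group G] (π₁ π₂ : Set ℕ) : Prop where
  two : 2 ∉ π₂
  cover : ∀ x : G, IsConj x x⁻¹ → ∀ q : ℕ, q.Prime → q ∣ nc x → q ∈ π₁ ∨ q ∈ π₂
  noedge : ∀ x : G, IsConj x x⁻¹ → ∀ a ∈ π₁, ∀ b ∈ π₂, ¬ (a ∣ nc x ∧ b ∣ nc x)
  disj : Disjoint π₁ π₂
  witness : ∃ t : G, IsConj t t⁻¹ ∧ ∃ r ∈ π₂, r.Prime ∧ r ∣ nc t

theorem real_of_invol {a : G} (ha : orderOf a = 2) : IsConj a a⁻¹ := by rw [inv_eq_self ha]

theorem class_card (x : G) : Nat.card {y : G // IsConj x y} = nc x := by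
  symm
  refine Nat.card_congr (Equiv.ofBijective
    (fun q : G ⧸ Subgroup.centralizer ({x} : Set G) => Quotient.liftOn' q
      (fun g => (⟨g * x * g⁻¹, isConj_iff.2 ⟨g, rfl⟩⟩ : {y : G // IsConj x y})) ?_) ⟨?_, ?_⟩)
  · intro g g' hgg
    rw [QuotientGroup.leftRel_apply, Subgroup.mem_centralizer_singleton_iff] at hgg
    refine Subtype.ext ?_
    show g * x * g⁻¹ = g' * x * g'⁻¹
    calc g * x * g⁻¹ = g * (x * (g⁻¹ * g')) * g'⁻¹ := by group
      _ = g * ((g⁻¹ * g') * x) * g'⁻¹ := by rw [hgg]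
      _ = g' * x * g'⁻¹ := by group
  · intro q q'
    induction q using QuotientGroup.induction_on with | _ g => ?_
    induction q' using QuotientGroup.induction_on with | _ g' => ?_
    intro e
    have e' : g * x * g⁻¹ = g' * x * g'⁻¹ := congrArg Subtype.val e
    rw [QuotientGroup.eq, Subgroup.mem_centralizer_singleton_iff]
    apply mul_left_cancel (a := g)
    calc g * (g⁻¹ * g' * x) = (g' * x * g'⁻¹) * g' := by group
      _ = (g * x * g⁻¹) * g' := by rw [e']
      _ = g * (x * (g⁻¹ * g')) := by group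
  · rintro ⟨y, hy⟩
    obtain ⟨g, hg⟩ := isConj_iff.1 hy
    exact ⟨(g : G ⧸ Subgroup.centralizer ({x} : Set G)), Subtype.ext hg⟩

theorem nc_conj {x y : G} (h : IsConj x y) : nc x = nc y := by
  rw [← class_card, ← class_card]
  exact Nat.card_congr (Equiv.subtypeEquivRight fun z => ⟨fun hz => h.symm.trans hz, fun hz => h.trans hz⟩)

/-- An involutive map of a set of odd size has a fixed point. -/
theorem exists_fixed_of_odd {α : Type u} [Finite α] (hα : Odd (Nat.card α)) (F : α → α)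
    (hF : Function.Involutive F) : ∃ a, F a = a :=
  RealChars.exists_fixed_of_two_power hα hF.toPerm (k := 1)
    (by rw [pow_one, pow_two]; exact Equiv.ext hF)

theorem sq_eq_one_of_inv_eq {x : G} (h : x⁻¹ = x) : x ^ 2 = 1 := by
  rw [pow_two]
  nth_rw 1 [← h]
  exact inv_mul_cancel x

theorem sq_one_of_real_odd {x : G} (hr : IsConj x x⁻¹) (hodd : Odd (nc x)) : x ^ 2 = 1 := by
  rw [← class_card] at hodd
  obtain ⟨⟨y, hy⟩, hyy⟩ := exists_fixed_of_odd hodd
    (fun y : {y : G // IsConj x y} => ⟨y.1⁻¹, hr.trans (by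
      obtain ⟨g, hg⟩ := isConj_iff.1 y.2
      exact isConj_iff.2 ⟨g, by rw [← hg, conj_inv]⟩)⟩)
    (fun y => Subtype.ext (inv_inv _))
  obtain ⟨g, hg⟩ := isConj_iff.1 hy
  have h1 : y⁻¹ = y := congrArg Subtype.val hyy
  have h2 := sq_eq_one_of_inv_eq h1
  rw [← hg, conj_pow] at h2
  exact conj_eq_one_iff.1 h2

theorem piNat_coprime {π₁ π₂ : Set ℕ} (hd : Disjoint π₁ π₂) {m n : ℕ} (hm : PiNat π₁ m) (hn : PiNat π₂ n) :
    m.Coprime n :=
  Nat.coprime_of_dvd fun q hq hqm hqn => Set.disjoint_left.1 hd (hm q hq hqm) (hn q hq hqn)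

/-- Two subgroups of coprime index factorise the group. -/
theorem exists_factor {H K : Subgroup G} (hco : H.index.Coprime K.index) (g : G) :
    ∃ k ∈ K, ∃ h ∈ H, g = k * h := by
  have h1 : H.index * K.index ≤ (H ⊓ K).index :=
    Nat.le_of_dvd (Nat.pos_of_ne_zero Subgroup.index_ne_zero_of_finite)
      (hco.mul_dvd_of_dvd_of_dvd (Subgroup.index_dvd_of_le inf_le_left) (Subgroup.index_dvd_of_le inf_le_right))
  rw [← Subgroup.relIndex_mul_index (inf_le_right : H ⊓ K ≤ K), Subgroup.inf_relIndex_right] at h1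
  have h2 : H.index ≤ H.relIndex K := Nat.le_of_mul_le_mul_right h1 (Nat.pos_of_ne_zero Subgroup.index_ne_zero_of_finite)
  have hst : MulAction.stabilizer ↥K ((1 : G) : G ⧸ H) = H.subgroupOf K := by
    ext k
    rw [MulAction.mem_stabilizer_iff, Subgroup.mem_subgroupOf]
    show (((k : G) * 1 : G) : G ⧸ H) = ((1 : G) : G ⧸ H) ↔ _
    rw [mul_one, QuotientGroup.eq, mul_one, inv_mem_iff]
  have horb : MulAction.orbit ↥K ((1 : G) : G ⧸ H) = Set.univ := by
    refine Set.eq_of_subset_of_ncard_le (Set.subset_univ _) ?_ (Set.toFinite _)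
    rw [Set.ncard_univ, ← MulAction.index_stabilizer, hst]
    exact h2
  obtain ⟨k, hk⟩ := (horb ▸ Set.mem_univ _ : (g : G ⧸ H) ∈ MulAction.orbit ↥K ((1 : G) : G ⧸ H))
  refine ⟨k, k.2, (k : G)⁻¹ * g, ?_, by group⟩
  have hk' : (((k : G) * 1 : G) : G ⧸ H) = (g : G ⧸ H) := hk
  rwa [mul_one, QuotientGroup.eq] at hk'

namespace SplitGraph

variable {π₁ π₂ : Set ℕ}

theorem cases (h : SplitGraph G π₁ π₂) {x : G} (hx : IsConj x x⁻¹) : PiNat π₁ (nc x) ∨ PiNat π₂ (nc x) := by
  by_cases hb : ∃ b ∈ π₂, b ∣ nc x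
  · refine Or.inr fun q hq hqd => (h.cover x hx q hq hqd).resolve_left fun hq1 => ?_
    obtain ⟨b, hb, hbd⟩ := hb
    exact h.noedge x hx q hq1 b hb ⟨hqd, hbd⟩
  · exact Or.inl fun q hq hqd => (h.cover x hx q hq hqd).resolve_right fun hq2 => hb ⟨q, hq2, hqd⟩

theorem piTwo (h : SplitGraph G π₁ π₂) {x : G} (hx : IsConj x x⁻¹) {q : ℕ} (hq : q.Prime) (hq2 : q ∈ π₂)
    (hd : q ∣ nc x) : PiNat π₂ (nc x) :=
  (h.cases hx).resolve_left fun h1 => Set.disjoint_left.1 h.disj (h1 q hq hd) hq2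

theorem odd_of_piTwo (h : SplitGraph G π₁ π₂) {n : ℕ} (hn : PiNat π₂ n) : Odd n :=
  Nat.not_even_iff_odd.1 fun he => h.two (hn 2 Nat.prime_two (even_iff_two_dvd.1 he))

theorem involution (h : SplitGraph G π₁ π₂) {a : G} (ha : IsConj a a⁻¹) (h2 : PiNat π₂ (nc a))
    (h1 : nc a ≠ 1) : orderOf a = 2 := by
  haveI : Fact (Nat.Prime 2) := ⟨Nat.prime_two⟩
  refine orderOf_eq_prime (sq_one_of_real_odd ha (h.odd_of_piTwo h2)) fun e => h1 ?_
  subst e
  rw [nc, Subgroup.index_eq_one, eq_top_iff]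
  intro g _
  rw [Subgroup.mem_centralizer_singleton_iff, mul_one, one_mul]

theorem real_odd (h : SplitGraph G π₁ π₂) {z : G} (hz : Odd (orderOf z)) (hz1 : z ≠ 1)
    (hr : IsConj z z⁻¹) : 2 ∣ nc z ∧ PiNat π₁ (nc z) := by
  have heven : 2 ∣ nc z := by
    by_contra hne
    have h2 := sq_one_of_real_odd hr (Nat.not_even_iff_odd.1 fun he => hne (even_iff_two_dvd.1 he))
    exact odd_sq_ne hz hz1 (inv_eq_of_mul_eq_one_right (by rwa [← pow_two]))
  refine ⟨heven, (h.cases hr).resolve_right fun h2 => ?_⟩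
  exact h.two (h2 2 Nat.prime_two heven)

/-- The centraliser of an involution of the second part has no real element of odd order. -/
theorem no_real_odd (h : SplitGraph G π₁ π₂) {a : G} (ha : orderOf a = 2) (h2 : PiNat π₂ (nc a))
    (h1 : nc a ≠ 1) {z : G} (hz : Odd (orderOf z)) (hz1 : z ≠ 1) (hr : IsConj z z⁻¹)
    (haz : a * z = z * a) : False := by
  obtain ⟨heven, hz2⟩ := h.real_odd hz hz1 hr
  have hco := piNat_coprime h.disj hz2 h2
  obtain ⟨g, hg⟩ := isConj_iff.1 hr
  obtain ⟨c, hc, d, hd, rfl⟩ := exists_factor hco g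
  rw [Subgroup.mem_centralizer_singleton_iff] at hc hd
  have hcz : c * z * c⁻¹ = z⁻¹ := by
    calc c * z * c⁻¹ = c * (d * z * d⁻¹) * c⁻¹ := by rw [conj_inv_of_commute hd]
      _ = c * d * z * (c * d)⁻¹ := by group
      _ = z⁻¹ := hg
  have hreal : IsConj (a * z) (a * z)⁻¹ := isConj_iff.2 ⟨c, by
    rw [show c * (a * z) * c⁻¹ = (c * a * c⁻¹) * (c * z * c⁻¹) by group, conj_inv_of_commute hc, hcz,
      mul_inv_rev, inv_eq_self ha]
    exact (Commute.inv_right (show Commute a z from haz)).eq⟩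
  have hle : Subgroup.centralizer ({a * z} : Set G) ≤
      Subgroup.centralizer ({a} : Set G) ⊓ Subgroup.centralizer ({z} : Set G) := by
    intro x hx
    rw [Subgroup.mem_centralizer_singleton_iff] at hx
    have hcx : Commute x (a * z) := hx
    have hza : Commute x z := by
      have h3 : (a * z) ^ 2 = z ^ 2 := by
        rw [(show Commute a z from haz).mul_pow, pow_two a, inv_mul_self ha, one_mul]
      obtain ⟨n, hn⟩ := exists_pow_eq_self_of_coprime (x := z) (Nat.coprime_two_left.2 hz)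
      rw [← hn, ← h3]
      exact (hcx.pow_right 2).pow_right n
    refine Subgroup.mem_inf.2 ⟨Subgroup.mem_centralizer_singleton_iff.2 ?_,
      Subgroup.mem_centralizer_singleton_iff.2 hza.eq⟩
    have h4 := hcx.mul_right hza.inv_right
    rw [mul_inv_cancel_right] at h4
    exact h4.eq
  have hd1 : nc a ∣ nc (a * z) := Subgroup.index_dvd_of_le (hle.trans inf_le_left)
  have hd2 : nc z ∣ nc (a * z) := Subgroup.index_dvd_of_le (hle.trans inf_le_right)
  obtain ⟨q, hq, hqa⟩ := Nat.exists_prime_and_dvd h1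
  rcases h.cases hreal with h3 | h3
  · exact Set.disjoint_left.1 h.disj (h3 q hq (hqa.trans hd1)) (h2 q hq hqa)
  · exact h.two (h3 2 Nat.prime_two (heven.trans hd2))

end SplitGraph

/-- A group without real elements of odd order is a 2-group extended by a group of odd order. -/
theorem solvable_of_no_real (hFT : ∀ (H : Type u) [Group H] [Finite H], Odd (Nat.card H) → Group.IsSolvable H)
    {X : Type u} [Group X] [Finite X]
    (h : ∀ z : X, Odd (orderOf z) → IsConj z z⁻¹ → z = 1) : Group.IsSolvable X := by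
  haveI : Fact (Nat.Prime 2) := ⟨Nat.prime_two⟩
  set N := Cfsg.pCore 2 X with hN
  haveI : N.Normal := HallCore.pCore_normal 2 X
  have hN2 : IsPGroup 2 ↥N := HallCore.isPGroup_pCore 2 X
  haveI : Group.IsSolvable ↥N := by
    haveI := hN2.isNilpotent
    infer_instance
  haveI : Group.IsSolvable (X ⧸ N) := by
    refine hFT _ (Nat.not_even_iff_odd.1 fun he => ?_)
    obtain ⟨i, hi⟩ := exists_prime_orderOf_dvd_card' 2 (even_iff_two_dvd.1 he)
    by_cases hM : ∀ M : Subgroup (X ⧸ N), M.Normal → IsPGroup 2 M → i ∉ M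
    · obtain ⟨y, hy1, hy, hiy⟩ := BaerSuzuki.exists_inverted_odd i hi hM
      obtain ⟨x, hxy, hx, hxr⟩ := exists_real_odd_lift (QuotientGroup.mk' N) (QuotientGroup.mk'_surjective N)
        hy (isConj_iff.2 ⟨i, hiy⟩)
      exact hy1 (by rw [← hxy, h x hx hxr, map_one])
    · push Not at hM
      obtain ⟨M, hMn, hM2, hiM⟩ := hM
      have hcomap : IsPGroup 2 ↥(M.comap (QuotientGroup.mk' N)) :=
        hM2.comap_of_ker_isPGroup _ (by rwa [QuotientGroup.ker_mk'])
      haveI := hMn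
      have hle : M.comap (QuotientGroup.mk' N) ≤ N := HallCore.le_pCore hcomap
      obtain ⟨g, rfl⟩ := QuotientGroup.mk'_surjective N i
      have hg : (QuotientGroup.mk' N) g = 1 := (QuotientGroup.eq_one_iff g).2 (hle hiM)
      rw [hg, orderOf_one] at hi
      omega
  exact Group.isSolvable_of_ker_le_range N.subtype (QuotientGroup.mk' N)
    (by rw [QuotientGroup.ker_mk', Subgroup.range_subtype])

theorem SplitGraph.centralizer_solvable
    (hFT : ∀ (H : Type u) [Group H] [Finite H], Odd (Nat.card H) → Group.IsSolvable H)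
    {π₁ π₂ : Set ℕ} (h : SplitGraph G π₁ π₂) {a : G} (ha : orderOf a = 2) (h2 : PiNat π₂ (nc a))
    (h1 : nc a ≠ 1) : Group.IsSolvable ↥(Subgroup.centralizer ({a} : Set G)) :=
  solvable_of_no_real hFT fun z hz hr => by
    by_contra hz1
    exact h.no_real_odd ha h2 h1 (by rwa [Subgroup.orderOf_coe]) (fun e => hz1 (Subtype.ext e))
      ((Subgroup.centralizer ({a} : Set G)).subtype.map_isConj hr)
      (Subgroup.mem_centralizer_singleton_iff.1 z.2).symm

/-- Modulo a normal subgroup of odd order the centraliser of an involution is the image of the centraliser. -/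
theorem centralizer_quot {N : Subgroup G} [N.Normal] (hN : Odd (Nat.card N)) {a : G} (ha : orderOf a = 2) :
    Subgroup.centralizer ({(a : G ⧸ N)} : Set (G ⧸ N)) =
      (Subgroup.centralizer ({a} : Set G)).map (QuotientGroup.mk' N) := by
  refine le_antisymm (fun q hq => ?_) ?_
  · obtain ⟨g, rfl⟩ := QuotientGroup.mk'_surjective N q
    rw [Subgroup.mem_centralizer_singleton_iff] at hq
    change QuotientGroup.mk' N g * QuotientGroup.mk' N a = QuotientGroup.mk' N a * QuotientGroup.mk' N g at hq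
    set m := a * (g * a * g⁻¹) with hm
    have hmN : m ∈ N := by
      rw [← QuotientGroup.eq_one_iff, hm]
      show QuotientGroup.mk' N (a * (g * a * g⁻¹)) = 1
      rw [map_mul, map_mul, map_mul, map_inv, hq, mul_inv_cancel_right, ← map_mul, inv_mul_self ha, map_one]
    have hmodd : Odd (orderOf m) := hN.of_dvd_nat (Subgroup.orderOf_dvd_natCard N hmN)
    obtain ⟨k, hk⟩ : ∃ k : ℕ, (m ^ k) ^ 2 = m := by
      obtain ⟨k, hk⟩ := exists_pow_eq_self_of_coprime (x := m) (Nat.coprime_two_left.2 hmodd)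
      exact ⟨k, by rw [← pow_mul, mul_comm, pow_mul, hk]⟩
    set s := m ^ k with hs
    have hga : g * a * g⁻¹ = a * m := by rw [hm, ← mul_assoc a, inv_mul_self ha, one_mul]
    have ham : a * m * a⁻¹ = m⁻¹ := by
      have h1 : (g * a * g⁻¹)⁻¹ = g * a * g⁻¹ := by
        rw [mul_inv_rev, mul_inv_rev, inv_inv, inv_eq_self ha, mul_assoc]
      rw [hm, ← mul_assoc a a, inv_mul_self ha, one_mul, mul_inv_rev, h1]
    have has : a * s * a⁻¹ = s⁻¹ := by rw [hs, ← conj_pow, ham, inv_pow]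
    refine ⟨s * g, Subgroup.mem_centralizer_singleton_iff.2 (commute_of_conj ?_), ?_⟩
    · calc s * g * a * (s * g)⁻¹ = s * (g * a * g⁻¹) * s⁻¹ := by group
        _ = s * (a * s * a⁻¹) * a := by rw [hga, ← hk, pow_two]; group
        _ = a := by rw [has, mul_inv_cancel, one_mul]
    · rw [map_mul, show QuotientGroup.mk' N s = 1 from
        (QuotientGroup.eq_one_iff s).2 (pow_mem hmN k), one_mul]
  · rintro _ ⟨g, hg, rfl⟩
    have hg' : g * a = a * g := Subgroup.mem_centralizer_singleton_iff.1 hg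
    rw [Subgroup.mem_centralizer_singleton_iff]
    exact congrArg (QuotientGroup.mk' N) hg'

theorem solvable_comap {H : Type u} [Group H] (f : G →* H) [Group.IsSolvable ↥f.ker]
    (X : Subgroup H) [Group.IsSolvable ↥X] : Group.IsSolvable ↥(X.comap f) := by
  have hle : f.ker ≤ X.comap f := fun x hx => by
    rw [Subgroup.mem_comap, MonoidHom.mem_ker.1 hx]
    exact X.one_mem
  refine Group.isSolvable_of_ker_le_range (Subgroup.inclusion hle) (f.subgroupComap X) ?_
  intro x hx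
  exact ⟨⟨x, MonoidHom.mem_ker.2 (congrArg Subtype.val (MonoidHom.mem_ker.1 hx))⟩, Subtype.ext rfl⟩

/-- A normal 2-subgroup lies in every subgroup of odd index. -/
theorem le_of_odd_index {N H : Subgroup G} [N.Normal] (hN : IsPGroup 2 N) (hH : Odd H.index) : N ≤ H := by
  haveI : Fact (Nat.Prime 2) := ⟨Nat.prime_two⟩
  obtain ⟨q, hq⟩ := hN.nonempty_fixed_point_of_prime_not_dvd_card (G ⧸ H)
    (fun hd => (Nat.not_even_iff_odd.2 hH) (even_iff_two_dvd.2 hd))
  induction q using QuotientGroup.induction_on with | _ g => ?_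
  intro n hn
  have h1 : ((g * n * g⁻¹ * g : G) : G ⧸ H) = (g : G ⧸ H) :=
    hq ⟨g * n * g⁻¹, (inferInstance : N.Normal).conj_mem n hn g⟩
  rw [inv_mul_cancel_right, QuotientGroup.eq, mul_inv_rev, inv_mul_cancel_right] at h1
  simpa using h1

/-- The odd part of an element. -/
theorem exists_odd_pow (u : G) : ∃ k : ℕ, Odd (orderOf (u ^ 2 ^ k)) := by
  refine ⟨(orderOf u).factorization 2, ?_⟩
  rw [orderOf_pow' u (by positivity), Nat.gcd_eq_right (Nat.ordProj_dvd _ _)]
  exact Nat.not_even_iff_odd.1 fun he => Nat.not_dvd_ordCompl Nat.prime_two (orderOf_pos u).ne'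
    (even_iff_two_dvd.1 he)

section Reduction

variable {π₁ π₂ : Set ℕ}

/-- The normal subgroup of the elements of odd order inverted by `t`. -/
theorem exists_inverted_subgroup (h : SplitGraph G π₁ π₂) {t : G} (ht : orderOf t = 2)
    (h2 : PiNat π₂ (nc t)) :
    ∃ Y : Subgroup G, Y.Normal ∧ Odd (Nat.card Y) ∧ Group.IsSolvable ↥Y ∧
      ∀ z : G, Odd (orderOf z) → t * z * t⁻¹ = z⁻¹ → z ∈ Y := by
  have hall : ∀ g z : G, Odd (orderOf z) → t * z * t⁻¹ = z⁻¹ →
      (g * t * g⁻¹) * z * (g * t * g⁻¹)⁻¹ = z⁻¹ := by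
    intro g z hz htz
    by_cases hz1 : z = 1
    · subst hz1; simp
    obtain ⟨-, hz2⟩ := h.real_odd hz hz1 (isConj_iff.2 ⟨t, htz⟩)
    obtain ⟨d, hd, c, hc, rfl⟩ := exists_factor (piNat_coprime h.disj hz2 h2).symm g
    rw [Subgroup.mem_centralizer_singleton_iff] at hc hd
    have e : d * c * t * (d * c)⁻¹ = d * t * d⁻¹ := by
      calc d * c * t * (d * c)⁻¹ = d * (c * t * c⁻¹) * d⁻¹ := by group
        _ = d * t * d⁻¹ := by rw [conj_inv_of_commute hc]
    have hdz : d⁻¹ * z * d = z := by rw [mul_assoc, ← hd, inv_mul_cancel_left]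
    rw [e]
    calc d * t * d⁻¹ * z * (d * t * d⁻¹)⁻¹ = d * (t * (d⁻¹ * z * d) * t⁻¹) * d⁻¹ := by group
      _ = d * z⁻¹ * d⁻¹ := by rw [hdz, htz]
      _ = z⁻¹ := by rw [← conj_inv, conj_inv_of_commute hd]
  have hcomm : ∀ a b : G, Odd (orderOf a) → t * a * t⁻¹ = a⁻¹ → Odd (orderOf b) → t * b * t⁻¹ = b⁻¹ →
      Commute a b := by
    intro a b ha hta hb htb
    have h1 := hall a b hb htb
    have hat : a * t * a⁻¹ = a ^ 2 * t := by
      have : t * a⁻¹ = a * t := by
        rw [← hta, ← mul_assoc, ← mul_assoc, inv_mul_self ht, one_mul, inv_eq_self ht]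
      rw [mul_assoc, this, ← mul_assoc, pow_two]
    rw [hat] at h1
    have h3 : a ^ 2 * b⁻¹ * (a ^ 2)⁻¹ = b⁻¹ := by
      calc a ^ 2 * b⁻¹ * (a ^ 2)⁻¹ = a ^ 2 * (t * b * t⁻¹) * (a ^ 2)⁻¹ := by rw [htb]
        _ = a ^ 2 * t * b * (a ^ 2 * t)⁻¹ := by group
        _ = b⁻¹ := h1
    have h4 : Commute (a ^ 2) b := Commute.inv_right_iff.1 (commute_of_conj h3)
    obtain ⟨n, hn⟩ := exists_pow_eq_self_of_coprime (x := a) (Nat.coprime_two_left.2 ha)
    rw [← hn]
    exact h4.pow_left n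
  let Y : Subgroup G :=
    { carrier := {z | Odd (orderOf z) ∧ t * z * t⁻¹ = z⁻¹}
      one_mem' := ⟨by rw [orderOf_one]; exact odd_one, by simp⟩
      mul_mem' := fun {a b} ha hb => by
        have hab := hcomm a b ha.1 ha.2 hb.1 hb.2
        refine ⟨(ha.1.mul hb.1).of_dvd_nat hab.orderOf_mul_dvd_mul_orderOf, ?_⟩
        rw [show t * (a * b) * t⁻¹ = (t * a * t⁻¹) * (t * b * t⁻¹) by group, ha.2, hb.2, mul_inv_rev]
        exact hab.inv_inv.eq
      inv_mem' := fun {a} ha => ⟨by rw [orderOf_inv]; exact ha.1, by rw [← conj_inv, ha.2]⟩ }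
  refine ⟨Y, ⟨fun z hz g => ?_⟩, ?_, ?_, fun z hz htz => ⟨hz, htz⟩⟩
  · refine ⟨(MulEquiv.orderOf_eq (MulAut.conj g) z).symm ▸ hz.1, ?_⟩
    have h1 := hall g⁻¹ z hz.1 hz.2
    calc t * (g * z * g⁻¹) * t⁻¹ = g * ((g⁻¹ * t * g⁻¹⁻¹) * z * (g⁻¹ * t * g⁻¹⁻¹)⁻¹) * g⁻¹ := by group
      _ = g * z⁻¹ * g⁻¹ := by rw [h1]
      _ = (g * z * g⁻¹)⁻¹ := conj_inv.symm
  · refine Nat.not_even_iff_odd.1 fun he => ?_
    haveI : Fact (Nat.Prime 2) := ⟨Nat.prime_two⟩
    obtain ⟨i, hi⟩ := exists_prime_orderOf_dvd_card' 2 (even_iff_two_dvd.1 he)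
    have h3 := i.2.1
    rw [Subgroup.orderOf_coe, hi] at h3
    exact absurd h3 (by decide)
  · exact Group.isSolvable_of_comm fun a b => Subtype.ext (hcomm a b a.2.1 a.2.2 b.2.1 b.2.2).eq

/-- The theorem with the graph oriented. -/
theorem solvable_of_split (hFT : ∀ (H : Type u) [Group H] [Finite H], Odd (Nat.card H) → Group.IsSolvable H)
    (h : SplitGraph G π₁ π₂) : Group.IsSolvable G := by
  classical
  haveI : Fact (Nat.Prime 2) := ⟨Nat.prime_two⟩
  obtain ⟨t, htr, r, hr, hrp, hrd⟩ := h.witness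
  have ht2 : PiNat π₂ (nc t) := h.piTwo htr hrp hr hrd
  have ht1 : nc t ≠ 1 := fun e => hrp.not_dvd_one (e ▸ hrd)
  have ht := h.involution htr ht2 ht1
  obtain ⟨Y, hYn, hYodd, hYs, hY⟩ := exists_inverted_subgroup h ht ht2
  haveI := hYn
  haveI := hYs
  set π := QuotientGroup.mk' Y with hπ
  haveI : Group.IsSolvable ↥π.ker := by rw [hπ, QuotientGroup.ker_mk']; exact hYs
  have hπs : Function.Surjective π := QuotientGroup.mk'_surjective Y
  have hnotY : ∀ a : G, orderOf a = 2 → a ∉ Y := fun a ha hm => by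
    have h3 := hYodd.of_dvd_nat (Subgroup.orderOf_dvd_natCard Y hm)
    rw [ha] at h3
    exact absurd h3 (by decide)
  -- `t` lies in a normal 2-subgroup of the quotient
  have htq : orderOf (π t) = 2 := orderOf_eq_prime
    (by rw [← map_pow, pow_two, inv_mul_self ht, map_one])
    (fun e => hnotY t ht ((QuotientGroup.eq_one_iff t).1 e))
  obtain ⟨N, hNn, hN2, htN⟩ : ∃ N : Subgroup (G ⧸ Y), N.Normal ∧ IsPGroup 2 N ∧ π t ∈ N := by
    by_contra hcon
    push Not at hcon
    obtain ⟨y, hy1, hy, hty⟩ := BaerSuzuki.exists_inverted_odd (π t) htq hcon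
    obtain ⟨u, rfl⟩ := hπs y
    set w := t * (u * t * u⁻¹) with hw
    obtain ⟨k, hk⟩ := exists_odd_pow w
    have htw : t * w * t⁻¹ = w⁻¹ := by
      have h1 : (u * t * u⁻¹)⁻¹ = u * t * u⁻¹ := by
        rw [mul_inv_rev, mul_inv_rev, inv_inv, inv_eq_self ht, mul_assoc]
      rw [hw, ← mul_assoc t t, inv_mul_self ht, one_mul, mul_inv_rev, h1]
    have hwY : w ^ 2 ^ k ∈ Y := hY _ hk (by rw [← conj_pow, htw, inv_pow])
    have hwimg : π w = (π u)⁻¹ ^ 2 := by
      rw [hw, map_mul, map_mul, map_mul, map_inv, pow_two]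
      nth_rw 2 [← inv_eq_self htq]
      calc π t * (π u * (π t)⁻¹ * (π u)⁻¹) = (π t * π u * (π t)⁻¹) * (π u)⁻¹ := by group
        _ = (π u)⁻¹ * (π u)⁻¹ := by rw [hty]
    have h2 : π w ^ 2 ^ k = 1 := by rw [← map_pow]; exact (QuotientGroup.eq_one_iff _).2 hwY
    rw [hwimg, ← pow_mul, inv_pow, inv_eq_one] at h2
    have h3 : orderOf (π u) ∣ 2 * 2 ^ k := orderOf_dvd_of_pow_eq_one h2
    rw [← pow_succ'] at h3
    exact hy1 (orderOf_eq_one_iff.1
      (Nat.eq_one_of_dvd_coprimes ((Nat.coprime_two_right.2 hy).pow_right _) dvd_rfl h3))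
  haveI := hNn
  have hncdvd : ∀ a : G, orderOf a = 2 → nc (π a) ∣ nc a := fun a ha => by
    show (Subgroup.centralizer ({(a : G ⧸ Y)} : Set (G ⧸ Y))).index ∣ _
    rw [centralizer_quot hYodd ha]
    exact Subgroup.index_map_dvd _ hπs
  set V : Subgroup (G ⧸ Y) := Subgroup.normalClosure {π t} with hV
  have hVN : V ≤ N := Subgroup.normalClosure_le_normal (by simpa using htN)
  have hconjt : ∀ x : G ⧸ Y, IsConj (π t) x → PiNat π₂ (nc x) := fun x hx =>
    (nc_conj hx) ▸ ht2.of_dvd (hncdvd t ht)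
  have hVcent : V ≤ Subgroup.centralizer (N : Set (G ⧸ Y)) := by
    refine (Subgroup.closure_le _).2 fun x hx => ?_
    obtain ⟨t', ht', hc⟩ := Group.mem_conjugatesOfSet_iff.1 hx
    rw [Set.mem_singleton_iff] at ht'
    subst ht'
    rw [SetLike.mem_coe, Subgroup.mem_centralizer_iff]
    intro n hn
    exact Subgroup.mem_centralizer_singleton_iff.1
      (le_of_odd_index hN2 (h.odd_of_piTwo (hconjt x hc)) hn)
  have hVcomm : ∀ a ∈ V, ∀ b ∈ V, a * b = b * a := fun a ha b hb =>
    (Subgroup.mem_centralizer_iff.1 (hVcent hb) a (hVN ha))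
  have hVsq : ∀ v ∈ V, v * v = 1 := by
    intro v hv
    induction hv using Subgroup.closure_induction with
    | mem x hx =>
      obtain ⟨t', ht', hc⟩ := Group.mem_conjugatesOfSet_iff.1 hx
      rw [Set.mem_singleton_iff] at ht'
      subst ht'
      obtain ⟨g, rfl⟩ := isConj_iff.1 hc
      rw [show g * π t * g⁻¹ * (g * π t * g⁻¹) = g * (π t * π t) * g⁻¹ by group, inv_mul_self htq]
      group
    | one => exact one_mul 1
    | mul a b ha hb iha ihb =>
      rw [mul_assoc, ← mul_assoc b, hVcomm b hb a ha, mul_assoc a b b, ihb, mul_one, iha]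
    | inv a _ ih => rw [← mul_inv_rev, ih, inv_one]
  have hlift : ∀ v ∈ V, v ≠ 1 → ∃ a : G, orderOf a = 2 ∧ π a = v := by
    intro v hv hv1
    obtain ⟨g, rfl⟩ := hπs v
    have hsq := hVsq _ hv
    rw [← map_mul] at hsq
    have hgY : g * g ∈ Y := (QuotientGroup.eq_one_iff _).1 hsq
    obtain ⟨m, hm⟩ := hYodd
    have e : π (g ^ Nat.card Y) = π g := by
      rw [hm, pow_succ, pow_mul, map_mul, map_pow, pow_two, map_mul, ← map_mul, hsq, one_pow, one_mul]
    refine ⟨g ^ Nat.card Y, orderOf_eq_prime ?_ fun e1 => hv1 (by rw [← e, e1, map_one]), e⟩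
    rw [← pow_mul, mul_comm, pow_mul, pow_two]
    exact orderOf_dvd_iff_pow_eq_one.1 (Subgroup.orderOf_dvd_natCard Y hgY)
  have hdich : ∀ v ∈ V, PiNat π₁ (nc v) ∨ PiNat π₂ (nc v) := by
    intro v hv
    by_cases hv1 : v = 1
    · refine Or.inr ?_
      subst hv1
      rw [show nc (1 : G ⧸ Y) = 1 from Subgroup.index_eq_one.2 (eq_top_iff.2 fun g _ =>
        Subgroup.mem_centralizer_singleton_iff.2 (by rw [mul_one, one_mul]))]
      exact HallCore.piNat_one π₂
    obtain ⟨a, ha, rfl⟩ := hlift v hv hv1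
    exact (h.cases (real_of_invol ha)).imp (·.of_dvd (hncdvd a ha)) (·.of_dvd (hncdvd a ha))
  have hpi : ∀ v ∈ V, PiNat π₂ (nc v) := by
    intro v hv
    induction hv using Subgroup.closure_induction with
    | mem x hx =>
      obtain ⟨t', ht', hc⟩ := Group.mem_conjugatesOfSet_iff.1 hx
      rw [Set.mem_singleton_iff] at ht'
      subst ht'
      exact hconjt x hc
    | one => exact (hdich 1 (one_mem V)).elim (fun _ => by
        rw [show nc (1 : G ⧸ Y) = 1 from Subgroup.index_eq_one.2 (eq_top_iff.2 fun g _ =>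
          Subgroup.mem_centralizer_singleton_iff.2 (by rw [mul_one, one_mul]))]
        exact HallCore.piNat_one π₂) id
    | inv a ha ih =>
      have ha' : a ∈ V := ha
      rwa [show a⁻¹ = a from inv_eq_of_mul_eq_one_right (hVsq a ha')]
    | mul a b ha hb iha ihb =>
      have ha' : a ∈ V := ha
      have hb' : b ∈ V := hb
      set z := a * b with hz
      have hzV : z ∈ V := mul_mem ha' hb'
      rcases hdich z hzV with h1 | h2
      swap
      · exact h2
      have htra : ∀ a' : G ⧸ Y, PiNat π₂ (nc a') → ∀ x, IsConj a' x →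
          ∃ c, c * z = z * c ∧ c * a' * c⁻¹ = x := by
        intro a' ha'' x hx
        obtain ⟨g, rfl⟩ := isConj_iff.1 hx
        obtain ⟨c, hc, d, hd, rfl⟩ := exists_factor (piNat_coprime h.disj h1 ha'').symm g
        rw [Subgroup.mem_centralizer_singleton_iff] at hc hd
        refine ⟨c, hc, ?_⟩
        calc c * a' * c⁻¹ = c * (d * a' * d⁻¹) * c⁻¹ := by rw [conj_inv_of_commute hd]
          _ = c * d * a' * (c * d)⁻¹ := by group
      have hshift : ∀ a' b' : G ⧸ Y, PiNat π₂ (nc a') → z * a' = b' → ∀ g x : G ⧸ Y,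
          IsConj a' x → IsConj b' (g * z * g⁻¹ * x) := by
        intro a' b' ha'' e g x hx
        obtain ⟨k, hk⟩ := isConj_iff.1 hx
        obtain ⟨c, hc, hca⟩ := htra a' ha'' (g⁻¹ * x * g) (isConj_iff.2 ⟨g⁻¹ * k, by rw [← hk]; group⟩)
        refine isConj_iff.2 ⟨g * c, ?_⟩
        calc g * c * b' * (g * c)⁻¹ = g * ((c * z * c⁻¹) * (c * a' * c⁻¹)) * g⁻¹ := by rw [← e]; group
          _ = g * z * g⁻¹ * x := by rw [conj_inv_of_commute hc, hca]; group
      have hza : z * a = b := by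
        rw [hz, hVcomm a ha' b hb', mul_assoc, hVsq a ha', mul_one]
      have hzb : z * b = a := by rw [hz, mul_assoc, hVsq b hb', mul_one]
      have hzcent : ∀ g : G ⧸ Y, g * z * g⁻¹ = z := by
        intro g
        set z' := g * z * g⁻¹ with hz'
        have hz'V : z' ∈ V := Subgroup.normalClosure_normal.conj_mem z hzV g
        have hAA : ∀ x, IsConj a x → IsConj a (z * z' * x) := by
          intro x hx
          have h1' := hshift b a ihb hzb 1 _ (hshift a b iha hza g x hx)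
          rwa [one_mul, inv_one, mul_one, ← mul_assoc] at h1'
        have hee : z * z' * (z * z') = 1 := hVsq _ (mul_mem hzV hz'V)
        have hodd : Odd (Nat.card {x : G ⧸ Y // IsConj a x}) := by rw [class_card]; exact h.odd_of_piTwo iha
        obtain ⟨x, hx⟩ := exists_fixed_of_odd hodd (fun x => ⟨z * z' * x.1, hAA x.1 x.2⟩)
          (fun x => Subtype.ext (show z * z' * (z * z' * x.1) = x.1 by rw [← mul_assoc, hee, one_mul]))
        have h3 : z * z' = 1 := mul_eq_right.1 (congrArg Subtype.val hx : z * z' * x.1 = x.1)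
        rw [eq_inv_of_mul_eq_one_right h3]
        exact inv_eq_of_mul_eq_one_right (hVsq z hzV)
      rw [show nc z = 1 from Subgroup.index_eq_one.2 (eq_top_iff.2 fun g _ =>
        Subgroup.mem_centralizer_singleton_iff.2 (commute_of_conj (hzcent g)))]
      exact HallCore.piNat_one π₂
  have hgood : ∀ v ∈ V, v ∉ Subgroup.center (G ⧸ Y) →
      Group.IsSolvable ↥(Subgroup.centralizer ({v} : Set (G ⧸ Y))) := by
    intro v hv hvz
    have hv1 : v ≠ 1 := fun e => hvz (e ▸ one_mem _)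
    obtain ⟨a, ha, rfl⟩ := hlift v hv hv1
    have hne : nc (π a) ≠ 1 := fun e => hvz (Subgroup.mem_center_iff.2 fun g =>
      Subgroup.mem_centralizer_singleton_iff.1 (Subgroup.index_eq_one.1 e ▸ Subgroup.mem_top g))
    obtain ⟨q, hq, hqd⟩ := Nat.exists_prime_and_dvd hne
    have hqa : q ∣ nc a := hqd.trans (hncdvd a ha)
    have ha2 := h.piTwo (real_of_invol ha) hq (hpi _ hv q hq hqd) hqa
    haveI := h.centralizer_solvable hFT ha ha2 (fun e => hq.not_dvd_one (e ▸ hqa))
    show Group.IsSolvable ↥(Subgroup.centralizer ({(a : G ⧸ Y)} : Set (G ⧸ Y)))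
    rw [centralizer_quot hYodd ha]
    exact Group.isSolvable_of_surjective
      (f := π.subgroupMap (Subgroup.centralizer ({a} : Set G))) (MonoidHom.subgroupMap_surjective _ _)
  by_cases hcen : π t ∈ Subgroup.center (G ⧸ Y)
  · -- a central image
    have hall : Subgroup.centralizer ({π t} : Set (G ⧸ Y)) = ⊤ := eq_top_iff.2 fun g _ =>
      Subgroup.mem_centralizer_singleton_iff.2 (Subgroup.mem_center_iff.1 hcen g)
    haveI := h.centralizer_solvable hFT ht ht2 ht1
    have himg : (Subgroup.centralizer ({t} : Set G)).map π = ⊤ := by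
      rw [← centralizer_quot hYodd ht]; exact hall
    haveI : Group.IsSolvable (G ⧸ Y) :=
      Group.isSolvable_of_surjective (f := π.comp (Subgroup.centralizer ({t} : Set G)).subtype) (fun q => by
        obtain ⟨c, hc, rfl⟩ := (himg ▸ Subgroup.mem_top q : q ∈ (Subgroup.centralizer ({t} : Set G)).map π)
        exact ⟨⟨c, hc⟩, rfl⟩)
    exact Group.isSolvable_of_ker_le_range Y.subtype π (by rw [hπ, QuotientGroup.ker_mk', Subgroup.range_subtype])
  haveI := Fintype.ofFinite (Subgroup (G ⧸ Y))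
  set S := (Finset.univ : Finset (Subgroup (G ⧸ Y))).filter fun X =>
    X.Normal ∧ X ≤ V ∧ ¬ X ≤ Subgroup.center (G ⧸ Y) with hS
  obtain ⟨U₁, hU₁, hmin⟩ := S.exists_min_image (fun X => Nat.card X) ⟨V, Finset.mem_filter.2
    ⟨Finset.mem_univ _, Subgroup.normalClosure_normal, le_rfl, fun e =>
      hcen (e (Subgroup.subset_normalClosure (Set.mem_singleton _)))⟩⟩
  obtain ⟨-, hU₁n, hU₁V, hU₁c⟩ := Finset.mem_filter.1 hU₁
  haveI := hU₁n
  haveI : V.Normal := Subgroup.normalClosure_normal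
  set Z₁ := V ⊓ Subgroup.center (G ⧸ Y) with hZ₁
  haveI : Z₁.Normal := Subgroup.normal_inf_normal V _
  set ρ := QuotientGroup.mk' Z₁ with hρ
  set U := U₁.map ρ with hU
  haveI : U.Normal := hU₁n.map ρ (QuotientGroup.mk'_surjective Z₁)
  letI : CommGroup ↥U :=
    { (inferInstance : Group ↥U) with
      mul_comm := fun x y => Subtype.ext (by
        obtain ⟨x', hx', ex⟩ := x.2
        obtain ⟨y', hy', ey⟩ := y.2
        show (x : (G ⧸ Y) ⧸ Z₁) * y = y * x
        rw [← ex, ← ey, ← map_mul, ← map_mul, hVcomm x' (hU₁V hx') y' (hU₁V hy')]) }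
  set f : G →* MulAut ↥U := (MulAut.conjNormal (H := U)).comp (ρ.comp π) with hf
  have hcoe : ∀ (g : G) (x : ↥U), ((f.rangeRestrict g • x : ↥U) : (G ⧸ Y) ⧸ Z₁) =
      ρ (π g) * x * (ρ (π g))⁻¹ := fun g x => MulAut.conjNormal_apply _ _
  have hrep : ∀ x : ↥U, x ≠ 1 → ∃ v ∈ U₁, v ∉ Subgroup.center (G ⧸ Y) ∧ ρ v = x := by
    intro x hx
    obtain ⟨v, hv, ev⟩ := x.2
    refine ⟨v, hv, fun hc => hx (Subtype.ext ?_), ev⟩
    rw [← ev]
    exact (QuotientGroup.eq_one_iff v).2 (Subgroup.mem_inf.2 ⟨hU₁V hv, hc⟩)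
  have hstab : ∀ (x : ↥U) (v : G ⧸ Y), v ∈ U₁ → ρ v = x → ∀ g : G,
      f.rangeRestrict g • x = x ↔ π g ∈ Subgroup.centralizer ({v} : Set (G ⧸ Y)) := by
    intro x v hv ev g
    rw [Subgroup.mem_centralizer_singleton_iff]
    constructor
    · intro e
      have e' := congrArg Subtype.val e
      rw [hcoe, ← ev, ← map_inv, ← map_mul, ← map_mul] at e'
      set v' := π g * v * (π g)⁻¹ with hv'
      have hm : v' * v⁻¹ ∈ Z₁ := by
        rw [← QuotientGroup.eq_one_iff]
        show ρ (v' * v⁻¹) = 1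
        rw [map_mul, e', ← map_mul, mul_inv_cancel, map_one]
      set m := v' * v⁻¹ with hmdef
      have hmc := Subgroup.mem_center_iff.1 (Subgroup.mem_inf.1 hm).2
      have hodd : Odd (Nat.card {y : G ⧸ Y // IsConj v y}) := by
        rw [class_card]; exact h.odd_of_piTwo (hpi v (hU₁V hv))
      obtain ⟨y, hy⟩ := exists_fixed_of_odd hodd (fun y => ⟨m * y.1, by
          obtain ⟨k, hk⟩ := isConj_iff.1 y.2
          refine isConj_iff.2 ⟨k * π g, ?_⟩
          calc k * π g * v * (k * π g)⁻¹ = k * (m * v) * k⁻¹ := by rw [hmdef, hv']; group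
            _ = m * y.1 := by rw [← hk, ← mul_assoc k m, hmc k]; group⟩)
        (fun y => Subtype.ext (show m * (m * y.1) = y.1 by
          rw [← mul_assoc, hVsq m (Subgroup.mem_inf.1 hm).1, one_mul]))
      have h3 : m = 1 := mul_eq_right.1 (congrArg Subtype.val hy : m * y.1 = y.1)
      exact commute_of_conj (mul_inv_eq_one.1 h3)
    · intro e
      apply Subtype.ext
      rw [hcoe, ← ev, ← map_inv, ← map_mul, ← map_mul, conj_inv_of_commute e]
  have hstab' : ∀ (x : ↥U) (v : G ⧸ Y), v ∈ U₁ → ρ v = x → MulAction.stabilizer ↥f.range x =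
      ((Subgroup.centralizer ({v} : Set (G ⧸ Y))).comap π).map f.rangeRestrict := by
    intro x v hv ev
    ext w
    obtain ⟨g, rfl⟩ := f.rangeRestrict_surjective w
    constructor
    · intro e
      exact ⟨g, (hstab x v hv ev g).1 e, rfl⟩
    · rintro ⟨g', hg', e⟩
      rw [← e]
      exact (hstab x v hv ev g').2 hg'
  obtain ⟨v₀, hv₀, hv₀c⟩ := SetLike.not_le_iff_exists.1 hU₁c
  have hρne : ρ v₀ ≠ 1 := fun e => hv₀c (Subgroup.mem_inf.1 ((QuotientGroup.eq_one_iff v₀).1 e)).2
  have hyp : Hyp ↥f.range ↥U :=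
    { two := fun x => Subtype.ext (by
        obtain ⟨v, hv, ev⟩ := x.2
        show (x : (G ⧸ Y) ⧸ Z₁) * x = 1
        rw [← ev, ← map_mul, hVsq v (hU₁V hv), map_one])
      nontriv := ⟨⟨ρ v₀, Subgroup.mem_map_of_mem ρ hv₀⟩, fun e => hρne (congrArg Subtype.val e)⟩
      faith := fun w hw => Subtype.ext (MulEquiv.ext fun x => hw x)
      irr := fun X hX => by
        set X₁ := U₁ ⊓ (X.map U.subtype).comap ρ with hX₁
        haveI hX₁n : X₁.Normal := ⟨fun v hv q => by
          obtain ⟨g, rfl⟩ := hπs q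
          refine Subgroup.mem_inf.2 ⟨hU₁n.conj_mem v hv.1 _, ?_⟩
          obtain ⟨x, hx, ex⟩ := hv.2
          refine ⟨f.rangeRestrict g • x, hX _ x hx, ?_⟩
          rw [map_mul, map_mul, map_inv, ← ex]
          exact hcoe g x⟩
        by_cases hc : X₁ ≤ Subgroup.center (G ⧸ Y)
        · refine Or.inl ((Subgroup.eq_bot_iff_forall _).2 fun x hx => Subtype.ext ?_)
          obtain ⟨v, hv, ev⟩ := x.2
          have hvc := hc (Subgroup.mem_inf.2 ⟨hv, ⟨x, hx, ev.symm⟩⟩ : v ∈ X₁)
          rw [← ev]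
          exact (QuotientGroup.eq_one_iff v).2 (Subgroup.mem_inf.2 ⟨hU₁V hv, hvc⟩)
        · refine Or.inr (eq_top_iff.2 fun x _ => ?_)
          have hX₁S : X₁ ∈ S := Finset.mem_filter.2
            ⟨Finset.mem_univ _, hX₁n, inf_le_left.trans hU₁V, hc⟩
          have heq : X₁ = U₁ := Subgroup.eq_of_le_of_card_ge inf_le_left (hmin X₁ hX₁S)
          obtain ⟨v, hv, ev⟩ := x.2
          obtain ⟨x', hx', ex'⟩ := ((heq ▸ hv : v ∈ X₁)).2
          have : x' = x := Subtype.ext (ex'.trans ev)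
          exact this ▸ hx'
      odd := fun x hx => by
        obtain ⟨v, hv, -, ev⟩ := hrep x hx
        rw [hstab' x v hv ev]
        refine (h.odd_of_piTwo (hpi v (hU₁V hv))).of_dvd_nat
          ((Subgroup.index_map_dvd _ f.rangeRestrict_surjective).trans ?_)
        rw [Subgroup.index_comap_of_surjective _ hπs]
      solv := fun x hx => by
        obtain ⟨v, hv, hvc, ev⟩ := hrep x hx
        haveI := hgood v (hU₁V hv) hvc
        haveI := solvable_comap π (Subgroup.centralizer ({v} : Set (G ⧸ Y)))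
        rw [hstab' x v hv ev]
        exact Group.isSolvable_of_surjective
          (f := f.rangeRestrict.subgroupMap ((Subgroup.centralizer ({v} : Set (G ⧸ Y))).comap π))
          (MonoidHom.subgroupMap_surjective _ _)
      trans := fun y hy hy1 hyr x hx w => by
        obtain ⟨z, rfl, hz, hzr⟩ := exists_real_odd_lift f.rangeRestrict f.rangeRestrict_surjective hy hyr
        obtain ⟨g, rfl⟩ := f.rangeRestrict_surjective w
        have hz1 : z ≠ 1 := fun e => hy1 (by rw [e, map_one])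
        obtain ⟨v, hv, -, ev⟩ := hrep x hx
        have hco : ((Subgroup.centralizer ({v} : Set (G ⧸ Y))).comap π).index.Coprime (nc z) := by
          rw [Subgroup.index_comap_of_surjective _ hπs]
          exact (piNat_coprime h.disj (h.real_odd hz hz1 hzr).2 (hpi v (hU₁V hv))).symm
        obtain ⟨c, hc, d, hd, rfl⟩ := exists_factor hco g
        refine ⟨f.rangeRestrict c, ?_, ?_⟩
        · rw [← map_mul, ← map_mul, Subgroup.mem_centralizer_singleton_iff.1 hc]
        · rw [map_mul, mul_smul, (hstab x v hv ev d).2 hd] }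
  haveI := solvable_of_hyp hFT (Nat.card ↥f.range) ↥f.range ↥U rfl hyp
  have hle : f.rangeRestrict.ker ≤ (Subgroup.centralizer ({v₀} : Set (G ⧸ Y))).comap π := by
    intro g hg
    refine (hstab ⟨ρ v₀, Subgroup.mem_map_of_mem ρ hv₀⟩ v₀ hv₀ rfl g).1 ?_
    rw [MonoidHom.mem_ker.1 hg, one_smul]
  haveI := hgood v₀ (hU₁V hv₀) hv₀c
  haveI := solvable_comap π (Subgroup.centralizer ({v₀} : Set (G ⧸ Y)))
  haveI : Group.IsSolvable ↥f.rangeRestrict.ker :=
    Group.isSolvable_of_isSolvable_injective (f := Subgroup.inclusion hle) (Subgroup.inclusion_injective hle)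
  exact Group.isSolvable_of_ker_le_range f.rangeRestrict.ker.subtype f.rangeRestrict (by rw [Subgroup.range_subtype])

end Reduction

/-- A finite group with disconnected graph of primes of real class sizes is solvable. -/
theorem solvable_of_disconnected
    (hFT : ∀ (H : Type u) [Group H] [Finite H], Odd (Nat.card H) → Group.IsSolvable H)
    (π₁ π₂ : Set ℕ) (h₁ : π₁.Nonempty) (h₂ : π₂.Nonempty)
    (hcover : ∀ q : ℕ, q.Prime →
      (∃ n ∈ {n : ℕ | ∃ x : G, IsConj x x⁻¹ ∧ (Subgroup.centralizer ({x} : Set G)).index = n}, q ∣ n) →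
        q ∈ π₁ ∨ q ∈ π₂)
    (hsub : ∀ q ∈ π₁ ∪ π₂, q.Prime ∧
      ∃ n ∈ {n : ℕ | ∃ x : G, IsConj x x⁻¹ ∧ (Subgroup.centralizer ({x} : Set G)).index = n}, q ∣ n)
    (hdisj : Disjoint π₁ π₂)
    (hnoedge : ∀ a ∈ π₁, ∀ b ∈ π₂,
      ∀ n ∈ {n : ℕ | ∃ x : G, IsConj x x⁻¹ ∧ (Subgroup.centralizer ({x} : Set G)).index = n},
        ¬ (a ∣ n ∧ b ∣ n)) :
    Group.IsSolvable G := by
  by_cases h2 : (2 : ℕ) ∈ π₂
  · obtain ⟨r, hr⟩ := h₁
    obtain ⟨hrp, _, ⟨t, htr, rfl⟩, hrd⟩ := hsub r (Or.inl hr)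
    exact solvable_of_split hFT (π₁ := π₂) (π₂ := π₁)
      { two := fun h1 => Set.disjoint_left.1 hdisj h1 h2
        cover := fun x hx q hq hd => (hcover q hq ⟨_, ⟨x, hx, rfl⟩, hd⟩).symm
        noedge := fun x hx a ha b hb e => hnoedge b hb a ha _ ⟨x, hx, rfl⟩ ⟨e.2, e.1⟩
        disj := hdisj.symm
        witness := ⟨t, htr, r, hr, hrp, hrd⟩ }
  · obtain ⟨r, hr⟩ := h₂
    obtain ⟨hrp, _, ⟨t, htr, rfl⟩, hrd⟩ := hsub r (Or.inr hr)
    exact solvable_of_split hFT
      { two := h2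
        cover := fun x hx q hq hd => hcover q hq ⟨_, ⟨x, hx, rfl⟩, hd⟩
        noedge := fun x hx a ha b hb e => hnoedge a ha b hb _ ⟨x, hx, rfl⟩ e
        disj := hdisj
        witness := ⟨t, htr, r, hr, hrp, hrd⟩ }

end Cfsg.Agent.RealGraph52
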