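import Mathlib
import Cfsg.Prelude.Def_CaseTheorems
import Cfsg.Agent.Lib.RealGraph52Main
import Cfsg.Agent.Lib.HallCore
import Cfsg.Agent.S0205

/-!
Top of the proof for a finite group with a self-centralizing D-group: reduction of the case of a
single involution in the abelian half to the odd-core-free case.
-/

set_option autoImplicit false
set_option linter.style.haveILetI false

namespace Cfsg.Agent.GWDihTop23

open Subgroup

universe u v

/-- The configuration handed to the core argument. -/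
structure Conf {Q : Type u} [Group Q] (j : Q) (A : Subgroup Q) : Prop where
  oj : orderOf j = 2
  jA : j ∈ A
  le : A ≤ centralizer ({j} : Set Q)
  idx : A.relIndex (centralizer ({j} : Set Q)) = 2
  inv : ∀ x, Commute x j → x ∉ A → x * x = 1 ∧ ∀ a ∈ A, x * a * x⁻¹ = a⁻¹
  one : ∀ a ∈ A, orderOf a = 2 → a = j
  core : ∀ N : Subgroup Q, N.Normal → Odd (Nat.card N) → N = ⊥
  ns : ¬ Group.IsSolvable Q

/-- The conclusion of the core argument. -/
def CoreConcl (Q : Type u) [Group Q] : Prop :=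
  ∃ (N : Subgroup Q) (_ : N.Normal), Nat.card N ∣ 2 ∧
    ∃ (F : Type) (_ : Field F) (_ : Fintype F), 3 < Fintype.card F ∧
      (Nonempty (Q ⧸ N ≃* Matrix.ProjectiveSpecialLinearGroup (Fin 2) F) ∨
        Nonempty (Q ⧸ N ≃* Matrix.ProjGenLinGroup (Fin 2) F))

variable {G : Type u} [Group G] [Finite G]

theorem exists_conf {H A : Subgroup G} (hle : A ≤ H) (hD : ∀ x ∈ H, x ∉ A → x ^ 2 = 1)
    (h4 : 4 ∣ Nat.card ↥H)
    (hC : ∀ j ∈ H, orderOf j = 2 → (∀ h ∈ H, h * j = j * h) → centralizer ({j} : Set G) = H)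
    (hns : ¬ Group.IsSolvable G) (hidx : A.relIndex H = 2)
    (hab : ∀ a ∈ A, ∀ b ∈ A, a * b = b * a)
    (hinv : ∀ x ∈ H, x ∉ A → ∀ a ∈ A, x * a * x⁻¹ = a⁻¹)
    (hone : ∀ a ∈ A, ∀ b ∈ A, orderOf a = 2 → orderOf b = 2 → a = b) :
    ∃ (j : G ⧸ oddCore G) (A' : Subgroup (G ⧸ oddCore G)), Conf j A' := by
  classical
  set N₀ := oddCore G with hN₀def
  haveI hN₀ : N₀.Normal := HallCore.pPrimeCore_normal 2 G
  have hN₀odd : Odd (Nat.card N₀) :=
    Nat.coprime_two_right.1 (HallCore.coprime_card_pPrimeCore 2 G)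
  set f := QuotientGroup.mk' N₀ with hfdef
  have hfker : ∀ g : G, f g = 1 ↔ g ∈ N₀ := fun g => QuotientGroup.eq_one_iff g
  -- the involution
  have hA2 : 2 ∣ Nat.card A := by
    have h1 := (A.subgroupOf H).card_mul_index
    have h2 : (A.subgroupOf H).index = 2 := hidx
    rw [Nat.card_congr (subgroupOfEquivOfLe hle).toEquiv, h2] at h1
    omega
  have : Fact (Nat.Prime 2) := ⟨Nat.prime_two⟩
  obtain ⟨⟨j, hjA⟩, hj⟩ := exists_prime_orderOf_dvd_card' 2 hA2
  rw [← orderOf_coe] at hj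
  simp only at hj
  have hjj : j * j = 1 := by rw [← pow_two, ← hj, pow_orderOf_eq_one]
  have hjcomm : ∀ h ∈ H, h * j = j * h := by
    intro h hh
    by_cases hhA : h ∈ A
    · exact hab h hhA j hjA
    · have := hinv h hh hhA j hjA
      rw [inv_eq_of_mul_eq_one_right hjj] at this
      rwa [mul_inv_eq_iff_eq_mul] at this
  have hCj := hC j (hle hjA) hj hjcomm
  have hodd_mem : ∀ h ∈ H, h ∈ N₀ → h ∈ A := by
    intro h hh hhN
    by_contra hhA
    have h2 : orderOf h ∣ 2 := orderOf_dvd_of_pow_eq_one (hD h hh hhA)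
    have hdvd : Odd (orderOf h) := hN₀odd.of_dvd_nat (Subgroup.orderOf_dvd_natCard N₀ hhN)
    rcases (Nat.dvd_prime Nat.prime_two).1 h2 with e | e
    · rw [orderOf_eq_one_iff] at e; exact hhA (e ▸ one_mem A)
    · rw [e] at hdvd; exact absurd hdvd (by decide)
  have hmem : ∀ h ∈ H, f h ∈ A.map f → h ∈ A := by
    rintro h hh ⟨a, ha, he⟩
    have h1 : a⁻¹ * h ∈ N₀ := (hfker _).1 (by rw [map_mul, map_inv, he, inv_mul_cancel])
    have := mul_mem ha (hodd_mem _ (mul_mem (inv_mem (hle ha)) hh) h1)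
    rwa [mul_inv_cancel_left] at this
  have hjN : j ∉ N₀ := fun h => by
    have := hN₀odd.of_dvd_nat (Subgroup.orderOf_dvd_natCard N₀ h)
    rw [hj] at this
    exact absurd this (by decide)
  have hoj : orderOf (f j) = 2 := orderOf_eq_prime (by rw [← map_pow, ← hj, pow_orderOf_eq_one, map_one])
    (fun e => hjN ((hfker j).1 e))
  have hCf : centralizer ({f j} : Set (G ⧸ N₀)) = H.map f := by
    rw [← hCj]; exact RealGraph52.centralizer_quot hN₀odd hj
  refine ⟨f j, A.map f, ⟨hoj, mem_map_of_mem f hjA, ?_, ?_, ?_, ?_, ?_, ?_⟩⟩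
  · rw [hCf]; exact map_mono hle
  · rw [hCf, relIndex_eq_two_iff]
    obtain ⟨a, haH, ha⟩ := (relIndex_eq_two_iff).1 hidx
    refine ⟨f a, mem_map_of_mem f haH, ?_⟩
    rintro _ ⟨h, hh, rfl⟩
    have e1 : f h * f a ∈ A.map f ↔ h * a ∈ A := by
      rw [← map_mul]; exact ⟨hmem _ (mul_mem hh haH), mem_map_of_mem f⟩
    have e2 : f h ∈ A.map f ↔ h ∈ A := ⟨hmem h hh, mem_map_of_mem f⟩
    simpa only [e1, e2] using ha h hh
  · intro q hq hqA
    have hq' : q ∈ H.map f := hCf ▸ mem_centralizer_singleton_iff.2 hq.eq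
    obtain ⟨h, hh, rfl⟩ := hq'
    have hhA : h ∉ A := fun e => hqA (mem_map_of_mem f e)
    refine ⟨by rw [← map_mul, ← pow_two, hD h hh hhA, map_one], ?_⟩
    rintro _ ⟨a, ha, rfl⟩
    rw [← map_inv, ← map_inv, ← map_mul, ← map_mul, hinv h hh hhA a ha]
  · rintro _ ⟨a, ha, rfl⟩ ha2
    have hsq : a ^ 2 ∈ N₀ := (hfker _).1 (by rw [map_pow, ← ha2, pow_orderOf_eq_one])
    obtain ⟨k, hk⟩ := hN₀odd.of_dvd_nat (Subgroup.orderOf_dvd_natCard N₀ hsq)
    set b := a ^ (2 * k + 1) with hb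
    have hb2 : b ^ 2 = 1 := by
      rw [hb, ← hk, ← pow_mul, mul_comm, pow_mul, pow_orderOf_eq_one]
    have hfb : f b = f a := by
      rw [hb, map_pow, pow_succ, pow_mul, ← ha2, pow_orderOf_eq_one, one_pow, one_mul]
    have hb1 : b ≠ 1 := fun e => by
      rw [e, map_one] at hfb
      rw [← hfb, orderOf_one] at ha2
      omega
    rw [← hfb, hone b (pow_mem ha _) j hjA (orderOf_eq_prime hb2 hb1) hj]
  · intro N hN hNodd
    haveI := hN
    have hodd' : (Nat.card (N.comap f)).Coprime 2 := by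
      rw [Nat.coprime_two_right]
      have h1 : Nat.card (N.comap f) = Nat.card N₀ * Nat.card N := by
        have := Subgroup.card_mul_index (N.comap f)
        have h2 := Subgroup.card_mul_index N
        have h3 := Subgroup.card_mul_index N₀
        rw [index_comap_of_surjective N (QuotientGroup.mk'_surjective N₀)] at this
        rw [show N₀.index = Nat.card (G ⧸ N₀) from rfl, ← h2, ← mul_assoc, ← this] at h3
        exact (Nat.eq_of_mul_eq_mul_right (Nat.pos_of_ne_zero N.index_ne_zero_of_finite) h3).symm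
      rw [h1]
      exact hN₀odd.mul hNodd
    have hle' : N.comap f ≤ N₀ := HallCore.le_pPrimeCore hodd'
    rw [eq_bot_iff]
    intro q hq
    obtain ⟨g, rfl⟩ := QuotientGroup.mk'_surjective N₀ q
    exact (hfker g).2 (hle' hq)
  · intro hsol
    refine hns ?_
    haveI := hsol
    haveI : Group.IsSolvable N₀ := S0205.result hN₀odd
    exact Group.isSolvable_of_ker_le_range N₀.subtype f
      (by rw [hfdef, QuotientGroup.ker_mk', Subgroup.range_subtype])

/-- The conclusion for the quotient by the odd core gives the conclusion for the group. -/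
theorem pullback (h : CoreConcl (G ⧸ oddCore G)) :
    ∃ (N : Subgroup G) (_ : N.Normal), (Odd (Nat.card ↥N) ∨ ∃ m : ℕ, Odd m ∧ Nat.card ↥N = 2 * m) ∧
      ∃ (F : Type) (_ : Field F) (_ : Fintype F), 3 < Fintype.card F ∧
        (Nonempty (G ⧸ N ≃* Matrix.ProjectiveSpecialLinearGroup (Fin 2) F) ∨
          Nonempty (G ⧸ N ≃* Matrix.ProjGenLinGroup (Fin 2) F)) := by
  set N₀ := oddCore G with hN₀def
  haveI hN₀ : N₀.Normal := HallCore.pPrimeCore_normal 2 G
  have hN₀odd : Odd (Nat.card N₀) :=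
    Nat.coprime_two_right.1 (HallCore.coprime_card_pPrimeCore 2 G)
  obtain ⟨N, hN, hcard, F, iF, iFF, hF, hiso⟩ := h
  haveI := hN
  set φ := (QuotientGroup.mk' N).comp (QuotientGroup.mk' N₀) with hφ
  have hsurj : Function.Surjective φ :=
    (QuotientGroup.mk'_surjective N).comp (QuotientGroup.mk'_surjective N₀)
  let e : G ⧸ φ.ker ≃* (G ⧸ N₀) ⧸ N := QuotientGroup.quotientKerEquivOfSurjective φ hsurj
  refine ⟨φ.ker, inferInstance, ?_, F, iF, iFF, hF, ?_⟩
  · have h1 : Nat.card φ.ker = Nat.card N₀ * Nat.card N := by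
      have h2 := Subgroup.card_mul_index φ.ker
      have h3 := Subgroup.card_mul_index N
      have h4 := Subgroup.card_mul_index N₀
      rw [show φ.ker.index = Nat.card (G ⧸ φ.ker) from rfl, Nat.card_congr e.toEquiv] at h2
      rw [show N₀.index = Nat.card (G ⧸ N₀) from rfl, ← h3, ← mul_assoc, ← h2] at h4
      refine (Nat.eq_of_mul_eq_mul_right (Nat.pos_of_ne_zero ?_) h4).symm
      exact Nat.card_pos.ne'
    rcases (Nat.dvd_prime Nat.prime_two).1 hcard with e1 | e1
    · left; rw [h1, e1, mul_one]; exact hN₀odd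
    · right; exact ⟨Nat.card N₀, hN₀odd, by rw [h1, e1, mul_comm]⟩
  · rcases hiso with e' | e'
    · exact Or.inl ⟨e.trans e'.some⟩
    · exact Or.inr ⟨e.trans e'.some⟩

end Cfsg.Agent.GWDihTop23
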