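import Cfsg.Agent.Lib.GWDihTop23
import Cfsg.Agent.Lib.GWDihEasy15

/-!
The theorem on self-centralizing D-groups, given the core case of a single involution in the abelian
half and no odd core.
-/

set_option autoImplicit false
open Cfsg

namespace Cfsg.Agent.GWDihTopMain23

universe u

/-- The statement, from the core case. -/
theorem of_core
    (hcore : ∀ (Q : Type u) [Group Q] [Finite Q] (j : Q) (A : Subgroup Q),
      GWDihTop23.Conf j A → GWDihTop23.CoreConcl Q)
    {G : Type u} [Group G] [Finite G] (H A : Subgroup G) (hAH : A < H) (hD : ∀ x ∈ H, x ∉ A → x ^ 2 = 1)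
    (h4 : 4 ∣ Nat.card ↥H)
    (hC : ∀ j ∈ H, orderOf j = 2 → (∀ h ∈ H, h * j = j * h) → Subgroup.centralizer ({j} : Set G) = H)
    (hns : ¬ Group.IsSolvable G) :
    ∃ (N : Subgroup G) (_ : N.Normal), (Odd (Nat.card ↥N) ∨ ∃ m : ℕ, Odd m ∧ Nat.card ↥N = 2 * m) ∧
      ∃ (F : Type) (_ : Field F) (_ : Fintype F), 3 < Fintype.card F ∧
        (Nonempty (G ⧸ N ≃* Matrix.ProjectiveSpecialLinearGroup (Fin 2) F) ∨
          Nonempty (G ⧸ N ≃* Matrix.ProjGenLinGroup (Fin 2) F)) := by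
  classical
  by_cases hel : ∀ x ∈ H, x ^ 2 = 1
  · exact GWDihEasy15.elementary H h4 hC hns hel
  push Not at hel
  obtain ⟨hidx, hab, hinv, -⟩ := GWDihEasy15.dgroup_facts hAH hD hel
  by_cases hr : ∃ a ∈ A, ∃ b ∈ A, orderOf a = 2 ∧ orderOf b = 2 ∧ a ≠ b
  · exact GWDihEasy15.two_rank H A hAH hD hC hns hel hr
  push Not at hr
  obtain ⟨j, A', hc⟩ := GWDihTop23.exists_conf hAH.le hD h4 hC hns hidx hab hinv hr
  haveI : (oddCore G).Normal := HallCore.pPrimeCore_normal 2 G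
  exact GWDihTop23.pullback (hcore _ j A' hc)

end Cfsg.Agent.GWDihTopMain23
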