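import Cfsg.Agent.Lib.GWDihTwoB53Tools
import Cfsg.Agent.Lib.EvenCyclicDihedral27
import Cfsg.Agent.Lib.GWDihLocal74
import Cfsg.Agent.Lib.GWDihHypL27
import Cfsg.Agent.Lib.GWDihOutL11
import Cfsg.Agent.Lib.GWDihPSL72
import Cfsg.Agent.Lib.GWDihCore33

/-!
Case II.b of S3322: a quotient by a normal subgroup of order at most two is `PSL(2, q)` or `PGL(2, q)`.
-/

set_option autoImplicit false
set_option linter.style.haveILetI false

namespace Cfsg.Agent.GWDihTwoB53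

open Subgroup

variable {G : Type*} [Group G] [Finite G]

/-- With dihedral Sylow subgroups and no solvable normal subgroup, `G` is `PSL(2, q)` or `PGL(2, q)`. -/
theorem dihedral_branch {j : G} {A : Subgroup G} (L : Loc G j A) (hs : EvenCyclic27.NoSolv G)
    (hD : EvenCyclic27.SylowDihedral G) :
    ∃ (F : Type) (_ : Field F) (_ : Fintype F), 3 < Fintype.card F ∧
      (Nonempty (G ≃* Matrix.ProjectiveSpecialLinearGroup (Fin 2) F) ∨
        Nonempty (G ≃* Matrix.ProjGenLinGroup (Fin 2) F)) := by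
  haveI : Nontrivial G := ⟨⟨j, 1, fun h => by have := L.order; rw [h, orderOf_one] at this; omega⟩⟩
  obtain ⟨M, hMn, hMs, hna, hC⟩ := EvenCyclic27.exists_simple_normal hs hD
  haveI := hMn
  haveI := hMs
  have hH := GWDihHypL27.hyp_simple j A L.order L.mem L.le L.idx L.inv L.one L.odd L.nsolv hs hD M hna hC
  obtain ⟨F, _, _, hF, h3, ⟨e⟩⟩ :=
    GWDihPSL72.psl_of_core hH fun T {_ _} a b c d => GWDih33.eq_om T a b c d
  have hgen := GWDihOutL11.odd_mem j A L.order L.inv L.one hD M hC hH hF e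
  exact ⟨F, inferInstance, inferInstance, h3,
    GWDihLocal74.psl_or_pgl' hD M (EvenCyclic27.isSimple_good M hna) hC hF e hgen⟩

/-- Case II.b. -/
theorem two_b (j : G) (A : Subgroup G) (hj : orderOf j = 2) (hjA : j ∈ A)
    (hA : A ≤ centralizer ({j} : Set G)) (hidx : A.relIndex (centralizer ({j} : Set G)) = 2)
    (hinv : ∀ x, Commute x j → x ∉ A → x * x = 1 ∧ ∀ a ∈ A, x * a * x⁻¹ = a⁻¹)
    (hone : ∀ a ∈ A, orderOf a = 2 → a = j)
    (hodd : ∀ N : Subgroup G, N.Normal → Odd (Nat.card N) → N = ⊥) (hns : ¬ Group.IsSolvable G) :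
    ∃ (N : Subgroup G) (_ : N.Normal), Nat.card N ∣ 2 ∧
      ∃ (F : Type) (_ : Field F) (_ : Fintype F), 3 < Fintype.card F ∧
        (Nonempty (G ⧸ N ≃* Matrix.ProjectiveSpecialLinearGroup (Fin 2) F) ∨
          Nonempty (G ⧸ N ≃* Matrix.ProjGenLinGroup (Fin 2) F)) := by
  have L : Loc G j A := ⟨hj, hjA, hA, hidx, hinv, hone, hodd, hns⟩
  rcases GWDihLocal74.sylow_cases j A hj hjA hA hidx hinv hone hodd hns with
    ⟨hs, hD⟩ | ⟨z, hZn, hz, hzc, hzj, h4, hs, hD⟩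
  · obtain ⟨F, hF1, hF2, h3, h⟩ := dihedral_branch L hs hD
    refine ⟨⊥, inferInstance, by simp, F, hF1, hF2, h3, ?_⟩
    rcases h with ⟨⟨e⟩⟩ | ⟨⟨e⟩⟩
    · exact Or.inl ⟨QuotientGroup.quotientBot.trans e⟩
    · exact Or.inr ⟨QuotientGroup.quotientBot.trans e⟩
  · haveI := hZn
    obtain ⟨F, hF1, hF2, h3, h⟩ := dihedral_branch (L.quotient hz hzc hzj h4 hs.odd) hs hD
    exact ⟨zpowers z, hZn, by rw [Nat.card_zpowers, hz], F, hF1, hF2, h3, h⟩

end Cfsg.Agent.GWDihTwoB53
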