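import Mathlib
import Cfsg.Agent.S0205

/-!
For case II.b of S3322: passing to the quotient by a central involution outside the rotation group.
-/

set_option autoImplicit false
set_option linter.style.haveILetI false

namespace Cfsg.Agent.GWDihTwoB53

open Subgroup

/-- The standing hypotheses of case II.b: the centralizer of `j` is generalized dihedral over `A`, `A` has one
involution, there is no odd normal subgroup and the group is not solvable. -/
structure Loc (G : Type*) [Group G] (j : G) (A : Subgroup G) : Prop where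
  order : orderOf j = 2
  mem : j ∈ A
  le : A ≤ centralizer ({j} : Set G)
  idx : A.relIndex (centralizer ({j} : Set G)) = 2
  inv : ∀ x, Commute x j → x ∉ A → x * x = 1 ∧ ∀ a ∈ A, x * a * x⁻¹ = a⁻¹
  one : ∀ a ∈ A, orderOf a = 2 → a = j
  odd : ∀ N : Subgroup G, N.Normal → Odd (Nat.card N) → N = ⊥
  nsolv : ¬ Group.IsSolvable G

variable {G : Type*} [Group G] [Finite G]

/-- A cyclic Sylow `2`-subgroup has a normal complement of odd order. -/
theorem cyclic_sylow (S : Sylow 2 G) (hc : IsCyclic (S : Subgroup G)) :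
    ∃ K : Subgroup G, K.Normal ∧ Odd (Nat.card K) ∧ K.IsComplement' (S : Subgroup G) := by
  haveI : Fact (Nat.Prime 2) := ⟨Nat.prime_two⟩
  by_cases he : 2 ∣ Nat.card G
  · have hp : (Nat.card G).minFac = 2 := (Nat.minFac_eq_two_iff _).2 he
    refine ⟨(MonoidHom.transferSylow S (IsCyclic.normalizer_le_centralizer hp hc)).ker, inferInstance,
      ?_, IsCyclic.isComplement' hp hc⟩
    exact Nat.odd_iff.2 (Nat.two_dvd_ne_zero.1 (MonoidHom.not_dvd_card_ker_transferSylow _ _))
  · have hS : (S : Subgroup G) = ⊥ := by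
      refine eq_bot_of_card_eq _ ?_
      obtain ⟨k, hk⟩ := S.isPGroup'.exists_card_eq
      rw [hk]
      rcases Nat.eq_zero_or_pos k with rfl | hk0
      · rfl
      · exact absurd ((dvd_pow_self 2 hk0.ne').trans (hk ▸ (S : Subgroup G).card_subgroup_dvd_card)) he
    refine ⟨⊤, inferInstance, ?_, ?_⟩
    · rw [card_top]; exact Nat.odd_iff.2 (Nat.two_dvd_ne_zero.1 he)
    · rw [hS]; exact isComplement'_top_bot

/-- A group with a cyclic Sylow `2`-subgroup is solvable. -/
theorem solvable_of_cyclic_sylow (S : Sylow 2 G) (hc : IsCyclic (S : Subgroup G)) :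
    Group.IsSolvable G := by
  obtain ⟨K, hKn, hK, hcomp⟩ := cyclic_sylow S hc
  haveI := hKn
  haveI : Group.IsSolvable K := S0205.result hK
  haveI : IsCyclic (S : Subgroup G) := hc
  haveI : IsCyclic (G ⧸ K) := hcomp.symm.QuotientMulEquiv.isCyclic.2 hc
  haveI : Group.IsSolvable (G ⧸ K) :=
    Group.isSolvable_of_comm (commutative_of_cyclic_center_quotient (MonoidHom.id _) (by simp))
  exact Group.isSolvable_of_ker_le_range K.subtype (QuotientGroup.mk' K)
    (by rw [QuotientGroup.ker_mk', range_subtype])

/-- An involution with a centralizer of order two forces solvability. -/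
theorem solvable_of_small_centralizer {x : G} (hx : orderOf x = 2)
    (hc : ∀ g, Commute g x → g = 1 ∨ g = x) : Group.IsSolvable G := by
  haveI : Fact (Nat.Prime 2) := ⟨Nat.prime_two⟩
  obtain ⟨S, hS⟩ := (IsPGroup.of_card (p := 2) (n := 1) (G := zpowers x)
    (by rw [Nat.card_zpowers, hx, pow_one])).exists_le_sylow
  have hxS : x ∈ (S : Subgroup G) := hS (mem_zpowers x)
  refine solvable_of_cyclic_sylow S ?_
  have hx1 : (⟨x, hxS⟩ : (S : Subgroup G)) ≠ 1 := fun h => by
    have h' : x = 1 := congrArg Subtype.val h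
    rw [h', orderOf_one] at hx
    omega
  haveI : Nontrivial (S : Subgroup G) := ⟨⟨_, _, hx1⟩⟩
  haveI := S.isPGroup'.center_nontrivial
  obtain ⟨w, hw⟩ := exists_ne (1 : center (S : Subgroup G))
  have hwx : ((w : (S : Subgroup G)) : G) = x := by
    refine (hc _ (congrArg Subtype.val (mem_center_iff.1 w.2 ⟨x, hxS⟩)).symm).resolve_left fun h => hw ?_
    exact Subtype.ext (Subtype.ext h)
  have hall : ∀ s ∈ (S : Subgroup G), s = 1 ∨ s = x := fun s hs =>
    hc s (hwx ▸ congrArg Subtype.val (mem_center_iff.1 w.2 ⟨s, hs⟩))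
  refine ⟨⟨x, hxS⟩, fun s => ?_⟩
  rcases hall s s.2 with h | h
  · exact ⟨0, Subtype.ext (by simp [h])⟩
  · exact ⟨1, Subtype.ext (by simp [h])⟩

omit [Finite G] in
theorem normal_zpowers_of_central {z : G} (hz : z ∈ center G) : (zpowers z).Normal :=
  ⟨fun n hn g => by
    rw [(mem_center_iff.1 ((zpowers_le.2 hz) hn) g), mul_inv_cancel_right]; exact hn⟩

omit [Finite G] in
theorem zpowers_cases {z : G} (hz : orderOf z = 2) {n : G} (hn : n ∈ zpowers z) : n = 1 ∨ n = z := by
  obtain ⟨i, rfl⟩ := hn
  rcases Int.even_or_odd' i with ⟨m, rfl | rfl⟩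
  · exact Or.inl (by simp [zpow_mul, ← hz, pow_orderOf_eq_one])
  · exact Or.inr (by simp [zpow_add_one, zpow_mul, ← hz, pow_orderOf_eq_one])

/-- The four elements of a centralizer of order four. -/
theorem cen_four {j z : G} {A : Subgroup G} (L : Loc G j A) (hz : orderOf z = 2) (hzc : z ∈ center G)
    (hzj : z ≠ j) (h4 : Nat.card (centralizer ({j} : Set G)) = 4) {c : G} (hc : Commute c j) :
    (c = 1 ∨ c = j ∨ c = z ∨ c = j * z) ∧ c * c = 1 := by
  classical
  have hjj : j * j = 1 := by rw [← pow_two, ← L.order, pow_orderOf_eq_one]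
  have hzz : z * z = 1 := by rw [← pow_two, ← hz, pow_orderOf_eq_one]
  have hj1 : j ≠ 1 := fun h => by have := L.order; rw [h, orderOf_one] at this; omega
  have hz1 : z ≠ 1 := fun h => by rw [h, orderOf_one] at hz; omega
  have hjz : Commute j z := (mem_center_iff.1 hzc j)
  have hsub : ↑({1, j, z, j * z} : Finset G) ⊆ ((centralizer ({j} : Set G) : Subgroup G) : Set G) := by
    intro g hg
    rw [SetLike.mem_coe, mem_centralizer_singleton_iff]
    simp only [Finset.coe_insert, Finset.coe_singleton, Set.mem_insert_iff, Set.mem_singleton_iff] at hg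
    rcases hg with rfl | rfl | rfl | rfl
    · simp
    · rfl
    · exact hjz.eq.symm
    · rw [mul_assoc, ← hjz.eq]
  have hcard : ({1, j, z, j * z} : Finset G).card = 4 := by
    have h1 : j * z ≠ 1 := fun e => hzj (by
      rw [← inv_eq_of_mul_eq_one_right e, inv_eq_of_mul_eq_one_right hjj])
    have h2 : j * z ≠ j := fun e => hz1 (mul_eq_left.1 e)
    have h3 : j * z ≠ z := fun e => hj1 (mul_eq_right.1 e)
    simp [Ne.symm hj1, Ne.symm hz1, Ne.symm hzj, Ne.symm h1, Ne.symm h2, Ne.symm h3]
  have heq := Set.eq_of_subset_of_ncard_le hsub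
    (by rw [Set.ncard_coe_finset, hcard, ← Nat.card_coe_set_eq]; exact h4.le) (Set.toFinite _)
  have hc' : c ∈ ((centralizer ({j} : Set G) : Subgroup G) : Set G) := mem_centralizer_singleton_iff.2 hc.eq
  rw [← heq] at hc'
  simp only [Finset.coe_insert, Finset.coe_singleton, Set.mem_insert_iff, Set.mem_singleton_iff] at hc'
  refine ⟨hc', ?_⟩
  rcases hc' with rfl | rfl | rfl | rfl
  · exact one_mul 1
  · exact hjj
  · exact hzz
  · rw [hjz.symm.mul_mul_mul_comm, hjj, hzz, mul_one]

/-- The hypotheses pass to the quotient by a central involution when the centralizer has order four. -/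
theorem Loc.quotient {j z : G} {A : Subgroup G} (L : Loc G j A) (hz : orderOf z = 2)
    (hzc : z ∈ center G) (hzj : z ≠ j) (h4 : Nat.card (centralizer ({j} : Set G)) = 4)
    [hN : (zpowers z).Normal]
    (hodd : ∀ N : Subgroup (G ⧸ zpowers z), N.Normal → Odd (Nat.card N) → N = ⊥) :
    Loc (G ⧸ zpowers z) (QuotientGroup.mk' (zpowers z) j)
      (zpowers (QuotientGroup.mk' (zpowers z) j)) := by
  haveI : Fact (Nat.Prime 2) := ⟨Nat.prime_two⟩
  set π := QuotientGroup.mk' (zpowers z) with hπ
  have hsurj : Function.Surjective π := QuotientGroup.mk'_surjective _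
  have hjj : j * j = 1 := by rw [← pow_two, ← L.order, pow_orderOf_eq_one]
  have hker : ∀ g, π g = 1 → g = 1 ∨ g = z := fun g hg =>
    zpowers_cases hz ((QuotientGroup.eq_one_iff g).1 hg)
  have hπz : π z = 1 := (QuotientGroup.eq_one_iff z).2 (mem_zpowers z)
  have hord : orderOf (π j) = 2 := by
    refine orderOf_eq_prime (by rw [pow_two, ← map_mul, hjj, map_one]) fun h => ?_
    rcases hker j h with e | e
    · have := L.order; rw [e, orderOf_one] at this; omega
    · exact hzj e.symm
  have hns : ¬ Group.IsSolvable (G ⧸ zpowers z) := fun h => by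
    haveI := h
    haveI : Group.IsSolvable (zpowers z) :=
      Group.isSolvable_of_comm fun a b => Subtype.ext (by
        rcases zpowers_cases hz a.2 with e | e <;> rcases zpowers_cases hz b.2 with e' | e' <;> simp [e, e'])
    exact L.nsolv (Group.isSolvable_of_ker_le_range (zpowers z).subtype π
      (by rw [hπ, QuotientGroup.ker_mk', range_subtype]))
  have hjA : ∀ u, u ∈ zpowers (π j) ↔ u = 1 ∨ u = π j := fun u =>
    ⟨zpowers_cases hord, by rintro (rfl | rfl); exacts [one_mem _, mem_zpowers _]⟩
  -- an element centralizing `π j` moves `j` by at most `z`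
  have hmove : ∀ g, Commute (π g) (π j) → π g ∉ zpowers (π j) → g * j * g⁻¹ = j * z := by
    intro g hg hgA
    have h1 : π (j⁻¹ * (g * j * g⁻¹)) = 1 := by
      simp only [map_mul, map_inv]
      rw [hg.eq]; group
    rcases hker _ h1 with e | e
    · exfalso
      refine hgA ((hjA _).2 ?_)
      have hc : Commute g j := mul_inv_eq_iff_eq_mul.1 (inv_mul_eq_one.1 e).symm
      rcases (cen_four L hz hzc hzj h4 hc).1 with rfl | rfl | rfl | rfl
      · exact Or.inl (map_one _)
      · exact Or.inr rfl
      · exact Or.inl hπz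
      · exact Or.inr (by rw [map_mul, hπz, mul_one])
    · exact inv_mul_eq_iff_eq_mul.1 e
  have hpair : ∀ u v, Commute u (π j) → u ∉ zpowers (π j) → Commute v (π j) → v ∉ zpowers (π j) →
      u⁻¹ * v ∈ zpowers (π j) := by
    intro u v hu huA hv hvA
    obtain ⟨g, rfl⟩ := hsurj u
    obtain ⟨h, rfl⟩ := hsurj v
    have e : g * j * g⁻¹ = h * j * h⁻¹ := (hmove g hu huA).trans (hmove h hv hvA).symm
    have hc : Commute (g⁻¹ * h) j := by
      show g⁻¹ * h * j = j * (g⁻¹ * h)
      calc g⁻¹ * h * j = g⁻¹ * (h * j * h⁻¹) * h := by group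
        _ = j * (g⁻¹ * h) := by rw [← e]; group
    rw [hjA, ← map_inv, ← map_mul]
    rcases (cen_four L hz hzc hzj h4 hc).1 with e' | e' | e' | e' <;> rw [e']
    · exact Or.inl (map_one _)
    · exact Or.inr rfl
    · exact Or.inl hπz
    · exact Or.inr (by rw [map_mul, hπz, mul_one])
  obtain ⟨u, hu, huA⟩ : ∃ u, Commute u (π j) ∧ u ∉ zpowers (π j) := by
    by_contra hcon
    push Not at hcon
    exact hns (solvable_of_small_centralizer hord fun g hg => zpowers_cases hord (hcon g hg))
  refine
    { order := hord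
      mem := mem_zpowers _
      le := zpowers_le.2 (mem_centralizer_singleton_iff.2 rfl)
      idx := ?_
      inv := fun x hx hxA => ⟨?_, fun a ha => ?_⟩
      one := fun a ha h2 => (zpowers_cases hord ha).resolve_left fun e => by
        rw [e, orderOf_one] at h2; omega
      odd := hodd
      nsolv := hns }
  · rw [Subgroup.relIndex, index_eq_two_iff']
    refine ⟨⟨u, mem_centralizer_singleton_iff.2 hu.eq⟩, fun b => ?_⟩
    rw [mem_subgroupOf, mem_subgroupOf, xor_iff_iff_not]
    show u * (b : G ⧸ zpowers z) ∈ zpowers (π j) ↔ (b : G ⧸ zpowers z) ∉ zpowers (π j)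
    have hb : Commute (b : G ⧸ zpowers z) (π j) := mem_centralizer_singleton_iff.1 b.2
    constructor
    · intro h hbA
      exact huA (by simpa using mul_mem h (inv_mem hbA))
    · intro hbA
      have h1 : u⁻¹ ∉ zpowers (π j) := fun h => huA (by simpa using inv_mem h)
      simpa using hpair _ _ hu.inv_left h1 hb hbA
  · -- squares
    obtain ⟨g, rfl⟩ := hsurj x
    by_cases h2 : π g * π g ∈ zpowers (π j)
    · rcases (hjA _).1 h2 with e | e
      · exact e
      · exfalso
        have h1 : π (g * g * j⁻¹) = 1 := by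
          rw [map_mul, map_mul, e, map_inv, mul_inv_cancel]
        have hgg : Commute g (g * g) := (Commute.refl g).mul_right (Commute.refl g)
        have hgj : Commute g j := by
          rcases hker _ h1 with e' | e'
          · rwa [mul_inv_eq_one.1 e'] at hgg
          · have e2 : g * g = z * j := mul_inv_eq_iff_eq_mul.1 e'
            have h3 : Commute g (z⁻¹ * (g * g)) :=
              (Commute.inv_right (mem_center_iff.1 hzc g)).mul_right hgg
            rwa [e2, inv_mul_cancel_left] at h3
        have h3 := congrArg π (cen_four L hz hzc hzj h4 hgj).2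
        rw [map_mul, map_one, e] at h3
        rw [h3, orderOf_one] at hord
        omega
    · exfalso
      have h3 := hpair _ _ hx hxA (hx.mul_left hx) h2
      rw [inv_mul_cancel_left] at h3
      exact hxA h3
  · rcases (hjA a).1 ha with rfl | rfl
    · simp
    · rw [hx.eq, mul_inv_cancel_right]
      exact eq_inv_of_mul_eq_one_left (by rw [← map_mul, hjj, map_one])

end Cfsg.Agent.GWDihTwoB53
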