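import Mathlib
import Cfsg.Prelude.Def_Solvable
import Cfsg.Agent.Lib.HallCore
import Cfsg.Agent.Lib.FrobeniusBasic
import Cfsg.Agent.Lib.BaerSuzuki

/-!
# Groups with a normal subgroup `N` whose nonidentity elements form one class and whose
outside cosets are each contained in one class (the group theory behind Gagola characters)
-/

set_option autoImplicit false

namespace Cfsg.Agent.GagolaGroup

open scoped commutatorElement Pointwise

variable {G : Type*} [Group G]

/-- The configuration: `N` is a normal `p`-subgroup, its nonidentity elements are conjugate,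
and for `x ∉ N` all elements of `x N` are conjugate. -/
structure Config (p : ℕ) (N : Subgroup G) : Prop where
  normal : N.Normal
  isP : IsPGroup p N
  ne_bot : N ≠ ⊥
  trans : ∀ x ∈ N, x ≠ 1 → ∀ y ∈ N, y ≠ 1 → IsConj x y
  coset : ∀ x : G, x ∉ N → ∀ n ∈ N, IsConj x (x * n)

theorem isConj_orderOf {x y : G} (h : IsConj x y) : orderOf x = orderOf y := by
  obtain ⟨c, rfl⟩ := isConj_iff.mp h
  exact ((MulAut.conj c).orderOf_eq x).symm

variable [Finite G] {p : ℕ} [hp : Fact p.Prime] {N : Subgroup G}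

theorem exists_mem_ne (h : Config p N) : ∃ k ∈ N, k ≠ 1 := by
  obtain ⟨k, hk, hk1⟩ := (Subgroup.nontrivial_iff_exists_ne_one N).mp
    ((Subgroup.nontrivial_iff_ne_bot N).mpr h.ne_bot)
  exact ⟨k, hk, hk1⟩

theorem orderOf_eq (h : Config p N) {x : G} (hx : x ∈ N) (hx1 : x ≠ 1) : orderOf x = p := by
  have : Nontrivial N := (Subgroup.nontrivial_iff_ne_bot N).mpr h.ne_bot
  obtain ⟨n, hn0, hn⟩ := h.isP.nontrivial_iff_card.mp this
  obtain ⟨y, hy⟩ := exists_prime_orderOf_dvd_card' (G := N) p (hn ▸ dvd_pow_self p (by omega))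
  rw [← Subgroup.orderOf_coe] at hy
  rw [← hy]
  exact isConj_orderOf (h.trans x hx hx1 y y.2 (fun h1 => hp.out.ne_one (by rw [← hy, h1, orderOf_one])))

theorem pow_p_eq_one (h : Config p N) {x : G} (hx : x ∈ N) : x ^ p = 1 := by
  by_cases h1 : x = 1
  · rw [h1, one_pow]
  · rw [← orderOf_eq h hx h1]; exact pow_orderOf_eq_one x

theorem comm (h : Config p N) {x y : G} (hx : x ∈ N) (hy : y ∈ N) : x * y = y * x := by
  have hnt : Nontrivial N := (Subgroup.nontrivial_iff_ne_bot N).mpr h.ne_bot
  haveI : Nontrivial (Subgroup.center N) := h.isP.center_nontrivial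
  obtain ⟨z, hz⟩ := exists_ne (1 : Subgroup.center N)
  by_cases hx1 : x = 1
  · rw [hx1, one_mul, mul_one]
  have hz1 : ((z : N) : G) ≠ 1 := fun h1 => hz (by ext; exact h1)
  obtain ⟨g, hg⟩ := isConj_iff.mp (h.trans _ (z : N).2 hz1 x hx hx1)
  have hy' : g⁻¹ * y * g ∈ N := by simpa using h.normal.conj_mem y hy g⁻¹
  have := congrArg Subtype.val (Subgroup.mem_center_iff.mp z.2 ⟨_, hy'⟩)
  simp only [Subgroup.coe_mul] at this
  rw [← hg]
  calc g * (z : N) * g⁻¹ * y = g * (((z : N) : G) * (g⁻¹ * y * g)) * g⁻¹ := by group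
    _ = g * ((g⁻¹ * y * g) * ((z : N) : G)) * g⁻¹ := by rw [this]
    _ = y * (g * (z : N) * g⁻¹) := by group

theorem isPGroup_centralizer (h : Config p N) {k : G} (hk : k ∈ N) (hk1 : k ≠ 1) :
    IsPGroup p (Subgroup.centralizer ({k} : Set G)) := by
  set C := Subgroup.centralizer ({k} : Set G)
  have hC0 : Nat.card C ≠ 0 := Nat.card_pos.ne'
  refine IsPGroup.of_card (n := (Nat.card C).primeFactorsList.length)
    (Nat.eq_prime_pow_of_unique_prime_dvd hC0 ?_)
  exact fun {q} hq hd => by
      by_contra hqp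
      haveI : Fact q.Prime := ⟨hq⟩
      obtain ⟨y, hy⟩ := exists_prime_orderOf_dvd_card' (G := C) q hd
      rw [← Subgroup.orderOf_coe] at hy
      have hyN : (y : G) ∉ N := fun hyN => by
        by_cases hy1 : (y : G) = 1
        · rw [hy1, orderOf_one] at hy; exact hq.ne_one hy.symm
        · exact hqp (hy.symm.trans (orderOf_eq h hyN hy1))
      have hcomm : Commute (y : G) k := Subgroup.mem_centralizer_singleton_iff.mp y.2
      have := isConj_orderOf (h.coset _ hyN k hk)
      rw [hcomm.orderOf_mul_eq_mul_orderOf_of_coprime (by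
        rw [hy, orderOf_eq h hk hk1]; exact (Nat.coprime_primes hq hp.out).mpr hqp), hy,
        orderOf_eq h hk hk1] at this
      nlinarith [hq.two_le, hp.out.two_le]

theorem card_N (h : Config p N) : ∃ n, 0 < n ∧ Nat.card N = p ^ n := by
  have : Nontrivial N := (Subgroup.nontrivial_iff_ne_bot N).mpr h.ne_bot
  obtain ⟨n, hn0, hn⟩ := h.isP.nontrivial_iff_card.mp this
  exact ⟨n, hn0, hn⟩

theorem index_centralizer (h : Config p N) {k : G} (hk : k ∈ N) (hk1 : k ≠ 1) :
    (Subgroup.centralizer ({k} : Set G)).index + 1 = Nat.card N := by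
  classical
  have e : MulAction.orbit (ConjAct G) k = (N : Set G) \ {1} := by
    ext x
    rw [ConjAct.mem_orbit_conjAct]
    constructor
    · intro hx
      obtain ⟨c, rfl⟩ := isConj_iff.mp hx.symm
      refine ⟨h.normal.conj_mem k hk c, ?_⟩
      simpa [conj_eq_one_iff] using hk1
    · rintro ⟨hx, hx1⟩
      exact (h.trans k hk hk1 x hx hx1).symm
  have e2 : (Subgroup.centralizer ({k} : Set G)).index =
      (MulAction.stabilizer (ConjAct G) k).index := by
    rw [Subgroup.centralizer_eq_comap_stabilizer]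
    exact Subgroup.index_comap_of_surjective _ ConjAct.toConjAct.surjective
  rw [e2, MulAction.index_stabilizer, e, Set.ncard_diff_singleton_add_one N.one_mem (Set.toFinite _)]
  exact (Nat.card_coe_set_eq (N : Set G))

theorem not_dvd_index_centralizer (h : Config p N) {k : G} (hk : k ∈ N) (hk1 : k ≠ 1) :
    ¬ p ∣ (Subgroup.centralizer ({k} : Set G)).index := by
  intro hd
  obtain ⟨n, hn0, hn⟩ := card_N h
  have h2 := (Nat.dvd_add_iff_right hd).mpr
    (index_centralizer h hk hk1 ▸ hn ▸ dvd_pow_self p hn0.ne')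
  exact hp.out.ne_one (Nat.dvd_one.mp h2)

theorem exists_sylow_centralizer (h : Config p N) {k : G} (hk : k ∈ N) (hk1 : k ≠ 1) :
    ∃ P : Sylow p G, Subgroup.centralizer ({k} : Set G) = P :=
  ⟨(isPGroup_centralizer h hk hk1).toSylow (not_dvd_index_centralizer h hk hk1), rfl⟩

/-- For `x ∉ N` the class of `x` is the full preimage of the class of `x N`. -/
theorem card_centralizer_quotient (h : Config p N) [N.Normal] {x : G} (hx : x ∉ N) :
    Nat.card (Subgroup.centralizer ({x} : Set G)) =
      Nat.card (Subgroup.centralizer ({(x : G ⧸ N)} : Set (G ⧸ N))) := by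
  classical
  set C := Subgroup.centralizer ({x} : Set G) with hC
  set D := (Subgroup.centralizer ({(x : G ⧸ N)} : Set (G ⧸ N))).comap (QuotientGroup.mk' N) with hD
  have hCD : C ≤ D := by
    intro g hg
    rw [hD, Subgroup.mem_comap, Subgroup.mem_centralizer_singleton_iff]
    rw [hC, Subgroup.mem_centralizer_singleton_iff] at hg
    simp only [QuotientGroup.mk'_apply, ← QuotientGroup.mk_mul, hg]
  have hcardD : Nat.card D =
      Nat.card N * Nat.card (Subgroup.centralizer ({(x : G ⧸ N)} : Set (G ⧸ N))) :=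
    ((HallCore.card_comap_mk' N _).symm.trans (mul_comm _ _))
  -- `g ↦ x⁻¹ (g x g⁻¹)` is constant exactly on left cosets of `C`, with image `N`
  have hrel : C.relIndex D = Nat.card N := by
    let f : D ⧸ C.subgroupOf D → N := Quotient.lift
      (fun g : D => (⟨x⁻¹ * ((g : G) * x * (g : G)⁻¹), by
        have hg := Subgroup.mem_centralizer_singleton_iff.mp g.2
        rw [← QuotientGroup.eq_one_iff]
        simp only [QuotientGroup.mk'_apply] at hg
        simp only [QuotientGroup.mk_mul, QuotientGroup.mk_inv]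
        rw [hg]; group⟩ : N))
      (by
        intro a b hab
        have hab' : ((a : G)⁻¹ * (b : G)) ∈ C := by
          have := QuotientGroup.leftRel_apply.mp hab
          simpa [Subgroup.mem_subgroupOf] using this
        rw [hC, Subgroup.mem_centralizer_singleton_iff] at hab'
        apply Subtype.ext
        show x⁻¹ * ((a : G) * x * (a : G)⁻¹) = x⁻¹ * ((b : G) * x * (b : G)⁻¹)
        congr 1
        calc (a : G) * x * (a : G)⁻¹
            = (a : G) * (x * ((a : G)⁻¹ * b)) * (b : G)⁻¹ := by group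
          _ = (a : G) * (((a : G)⁻¹ * b) * x) * (b : G)⁻¹ := by rw [hab']
          _ = (b : G) * x * (b : G)⁻¹ := by group)
    have hf : Function.Bijective f := by
      constructor
      · intro a b
        induction a using Quotient.inductionOn
        rename_i a
        induction b using Quotient.inductionOn
        rename_i b
        intro hab
        have hab' : (a : G) * x * (a : G)⁻¹ = (b : G) * x * (b : G)⁻¹ :=
          mul_left_cancel (congrArg Subtype.val hab)
        apply Quotient.sound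
        change (QuotientGroup.leftRel _) a b
        rw [QuotientGroup.leftRel_apply, Subgroup.mem_subgroupOf, hC,
          Subgroup.mem_centralizer_singleton_iff]
        simp only [Subgroup.coe_mul, Subgroup.coe_inv]
        refine Eq.symm ?_
        calc x * ((a : G)⁻¹ * b) = (a : G)⁻¹ * ((a : G) * x * (a : G)⁻¹) * b := by group
          _ = (a : G)⁻¹ * ((b : G) * x * (b : G)⁻¹) * b := by rw [hab']
          _ = (a : G)⁻¹ * b * x := by group
      · intro n
        obtain ⟨g, hg⟩ := isConj_iff.mp (h.coset x hx n n.2)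
        have hgD : g ∈ D := by
          rw [hD, Subgroup.mem_comap, Subgroup.mem_centralizer_singleton_iff]
          simp only [QuotientGroup.mk'_apply, ← QuotientGroup.mk_mul]
          rw [QuotientGroup.eq]
          have e : g * x = x * (n : G) * g := by
            rw [← hg]; group
          rw [e, show (x * (n : G) * g)⁻¹ * (x * g) = g⁻¹ * (n : G)⁻¹ * g by group]
          simpa using h.normal.conj_mem _ (inv_mem n.2) g⁻¹
        refine ⟨Quotient.mk'' ⟨g, hgD⟩, Subtype.ext ?_⟩
        show x⁻¹ * (g * x * g⁻¹) = n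
        rw [hg]; group
    rw [Subgroup.relIndex, Subgroup.index]
    exact Nat.card_congr (Equiv.ofBijective f hf)
  have h1 : Nat.card C * C.relIndex D = Nat.card D := by
    rw [← Nat.card_congr (Subgroup.subgroupOfEquivOfLe hCD).toEquiv]
    exact Subgroup.card_mul_index _
  rw [hrel, hcardD, mul_comm (Nat.card N)] at h1
  exact Nat.eq_of_mul_eq_mul_right Nat.card_pos h1

theorem centralizer_le_pCore_part (h : Config p N) :
    Subgroup.centralizer (N : Set G) ≤ Cfsg.pCore p G := by
  haveI := h.normal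
  obtain ⟨k, hk, hk1⟩ := exists_mem_ne h
  refine HallCore.le_pCore ((isPGroup_centralizer h hk hk1).to_le ?_)
  exact Subgroup.centralizer_le (Set.singleton_subset_iff.mpr hk)

theorem N_le_sylow (h : Config p N) (P : Sylow p G) : N ≤ P :=
  haveI := h.normal
  h.isP.le_sylow_of_normal P

/-- An element outside `N` has class of size divisible by `|N|`. -/
theorem card_N_dvd_index (h : Config p N) {x : G} (hx : x ∉ N) :
    Nat.card N ∣ (Subgroup.centralizer ({x} : Set G)).index := by
  haveI := h.normal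
  have e : Nat.card N * (Subgroup.centralizer ({(x : G ⧸ N)} : Set (G ⧸ N))).index =
      (Subgroup.centralizer ({x} : Set G)).index := by
    apply Nat.eq_of_mul_eq_mul_left (n := Nat.card (Subgroup.centralizer ({x} : Set G))) Nat.card_pos
    rw [Subgroup.card_mul_index, card_centralizer_quotient h hx, mul_left_comm,
      Subgroup.card_mul_index, Subgroup.card_eq_card_quotient_mul_card_subgroup N, mul_comm]
  exact Dvd.intro _ e

/-- If `x` lies in a Sylow subgroup `P` outside `N`, its `P`-class has at least `|N|` elements. -/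
theorem card_N_dvd_relIndex (h : Config p N) (P : Sylow p G) {x : G} (hx : x ∉ N) :
    Nat.card N ∣ (Subgroup.centralizer ({x} : Set G)).relIndex (P : Subgroup G) := by
  set C := Subgroup.centralizer ({x} : Set G)
  have hdvd : C.index ∣ (P : Subgroup G).index * C.relIndex P := by
    have h1 : C.index ∣ (C ⊓ (P : Subgroup G)).index := Subgroup.index_dvd_of_le inf_le_left
    rwa [← Subgroup.relIndex_mul_index (inf_le_right : C ⊓ (P : Subgroup G) ≤ P),
      Subgroup.inf_relIndex_right, mul_comm] at h1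
  obtain ⟨n, -, hn⟩ := card_N h
  have hc : (Nat.card N).Coprime (P : Subgroup G).index :=
    hn ▸ (hp.out.coprime_iff_not_dvd.mpr P.not_dvd_index).pow_left n
  exact hc.dvd_of_dvd_mul_left ((card_N_dvd_index h hx).trans hdvd)

theorem center_sylow_le (h : Config p N) (P : Sylow p G) :
    (Subgroup.center ↥(P : Subgroup G)).map (P : Subgroup G).subtype ≤ N := by
  rintro _ ⟨z, hz, rfl⟩
  by_contra hx
  have h1 : (Subgroup.centralizer ({(z : G)} : Set G)).relIndex (P : Subgroup G) = 1 := by
    rw [Subgroup.relIndex_eq_one]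
    intro y hy
    rw [Subgroup.mem_centralizer_singleton_iff]
    exact congrArg Subtype.val (Subgroup.mem_center_iff.mp hz ⟨y, hy⟩)
  have h2 := card_N_dvd_relIndex h P (x := (z : G)) hx
  rw [h1, Nat.dvd_one, Subgroup.card_eq_one] at h2
  exact h.ne_bot h2

theorem exists_upperCentralSeries (h : Config p N) (P : Sylow p G) :
    ∃ i : ℕ, Subgroup.upperCentralSeries ↥(P : Subgroup G) i = N.subgroupOf (P : Subgroup G) := by
  set NP : Subgroup ↥(P : Subgroup G) := N.subgroupOf (P : Subgroup G) with hNP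
  have hstep : ∀ i, Subgroup.upperCentralSeries ↥(P : Subgroup G) i < NP →
      Subgroup.upperCentralSeries ↥(P : Subgroup G) (i + 1) ≤ NP := by
    intro i hi x hx
    by_contra hxN
    have hxN' : (x : G) ∉ N := hxN
    have hdvd : Nat.card N ∣ (Subgroup.centralizer ({x} : Set ↥(P : Subgroup G))).index := by
      have := card_N_dvd_relIndex h P hxN'
      rw [Subgroup.relIndex] at this
      convert this using 3
      ext y
      rw [Subgroup.mem_subgroupOf, Subgroup.mem_centralizer_singleton_iff,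
        Subgroup.mem_centralizer_singleton_iff]
      exact ⟨fun e => congrArg Subtype.val e, fun e => Subtype.ext e⟩
    -- the class of `x` injects into the previous term of the series
    have hle : (Subgroup.centralizer ({x} : Set ↥(P : Subgroup G))).index ≤
        Nat.card (Subgroup.upperCentralSeries ↥(P : Subgroup G) i) := by
      rw [Subgroup.index]
      refine Nat.card_le_card_of_injective (Quotient.lift (fun y : ↥(P : Subgroup G) =>
        (⟨⁅x, y⁆, Subgroup.mem_upperCentralSeries_succ_iff.mp hx y⟩ :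
          Subgroup.upperCentralSeries ↥(P : Subgroup G) i)) ?_) ?_
      · intro a b hab
        have hab' : a⁻¹ * b ∈ Subgroup.centralizer ({x} : Set ↥(P : Subgroup G)) := QuotientGroup.leftRel_apply.mp hab
        rw [Subgroup.mem_centralizer_singleton_iff] at hab'
        apply Subtype.ext
        show ⁅x, a⁆ = ⁅x, b⁆
        simp only [commutatorElement_def]
        calc x * a * x⁻¹ * a⁻¹ = x * a * x⁻¹ * ((a⁻¹ * b) * x) * x⁻¹ * b⁻¹ := by
              simp [mul_assoc]
          _ = x * a * x⁻¹ * (x * (a⁻¹ * b)) * x⁻¹ * b⁻¹ := by rw [hab']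
          _ = x * b * x⁻¹ * b⁻¹ := by simp [mul_assoc]
      · intro a b
        induction a using Quotient.inductionOn
        rename_i a
        induction b using Quotient.inductionOn
        rename_i b
        intro hab
        have hab' : ⁅x, a⁆ = ⁅x, b⁆ := congrArg Subtype.val hab
        simp only [commutatorElement_def] at hab'
        apply Quotient.sound
        change (QuotientGroup.leftRel _) a b
        rw [QuotientGroup.leftRel_apply, Subgroup.mem_centralizer_singleton_iff]
        refine Eq.symm ?_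
        have e : a * x⁻¹ * a⁻¹ = b * x⁻¹ * b⁻¹ := by
          apply mul_left_cancel (a := x)
          simpa [mul_assoc] using hab'
        have e' : a * x * a⁻¹ = b * x * b⁻¹ := by
          apply inv_injective
          simpa [mul_assoc] using e
        calc x * (a⁻¹ * b) = a⁻¹ * (a * x * a⁻¹) * b := by simp [mul_assoc]
          _ = a⁻¹ * (b * x * b⁻¹) * b := by rw [e']
          _ = a⁻¹ * b * x := by simp [mul_assoc]
    have hlt : Nat.card (Subgroup.upperCentralSeries ↥(P : Subgroup G) i) < Nat.card N := by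
      rw [← Nat.card_congr (Subgroup.subgroupOfEquivOfLe (N_le_sylow h P)).toEquiv]
      exact lt_of_le_of_ne (Subgroup.card_le_of_le hi.le)
        (fun e => hi.ne (Subgroup.eq_of_le_of_card_ge hi.le e.ge))
    have hpos : 0 < (Subgroup.centralizer ({x} : Set ↥(P : Subgroup G))).index :=
      Nat.pos_of_ne_zero Subgroup.index_ne_zero_of_finite
    have := Nat.le_of_dvd hpos hdvd
    omega
  by_contra hcon
  push Not at hcon
  have hall : ∀ i, Subgroup.upperCentralSeries ↥(P : Subgroup G) i < NP := by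
    intro i
    induction i with
    | zero => exact lt_of_le_of_ne (by rw [Subgroup.upperCentralSeries_zero]; exact bot_le) (hcon 0)
    | succ i ih => exact lt_of_le_of_ne (hstep i ih) (hcon _)
  haveI : Group.IsNilpotent ↥(P : Subgroup G) := P.2.isNilpotent
  obtain ⟨n, hn⟩ := Group.IsNilpotent.nilpotent (G := ↥(P : Subgroup G))
  have := hall n
  rw [hn] at this
  exact absurd this (not_top_lt (a := NP))

theorem center_sylow_eq_iff (h : Config p N) (P : Sylow p G) :
    (Subgroup.center ↥(P : Subgroup G)).map (P : Subgroup G).subtype = N ↔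
      (P : Subgroup G).Normal := by
  haveI := h.normal
  constructor
  · intro heq
    obtain ⟨k, hk, hk1⟩ := exists_mem_ne h
    have hPC : (P : Subgroup G) ≤ Subgroup.centralizer (N : Set G) := by
      intro y hy n hn
      rw [← heq] at hn
      obtain ⟨z, hz, rfl⟩ := hn
      exact (congrArg Subtype.val (Subgroup.mem_center_iff.mp hz ⟨y, hy⟩)).symm
    have hC : IsPGroup p (Subgroup.centralizer (N : Set G)) :=
      (isPGroup_centralizer h hk hk1).to_le (Subgroup.centralizer_le (Set.singleton_subset_iff.mpr hk))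
    rw [← P.3 hC hPC]
    infer_instance
  · intro hn
    refine le_antisymm (center_sylow_le h P) ?_
    haveI := hn
    haveI : ((Subgroup.center ↥(P : Subgroup G)).map (P : Subgroup G).subtype).Normal := inferInstance
    obtain ⟨k, hk, hk1⟩ := exists_mem_ne h
    have hne : (Subgroup.center ↥(P : Subgroup G)).map (P : Subgroup G).subtype ≠ ⊥ := by
      have : Nontrivial ↥(P : Subgroup G) :=
        (Subgroup.nontrivial_iff_ne_bot _).mpr
          (fun hb => h.ne_bot (le_bot_iff.mp (hb ▸ N_le_sylow h P)))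
      rw [Ne, Subgroup.map_eq_bot_iff_of_injective _ Subtype.val_injective]
      exact (Subgroup.nontrivial_iff_ne_bot _).mp P.2.center_nontrivial
    obtain ⟨z, hz, hz1⟩ := (Subgroup.nontrivial_iff_exists_ne_one _).mp
      ((Subgroup.nontrivial_iff_ne_bot _).mpr hne)
    intro y hy
    by_cases hy1 : y = 1
    · rw [hy1]; exact one_mem _
    obtain ⟨c, rfl⟩ := isConj_iff.mp (h.trans z (center_sylow_le h P hz) hz1 y hy hy1)
    exact ‹((Subgroup.center ↥(P : Subgroup G)).map (P : Subgroup G).subtype).Normal›.conj_mem z hz c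

/-- Core step for `p = 2`. -/
theorem eq_top_or_even_false (h : Config p N) (hNcore : N = Cfsg.pCore p G) (hp2 : p = 2)
    {t : G} (ht : t ∉ N) (ht2 : t * t ∈ N) : False := by
  haveI := h.normal
  subst hp2
  have hmk : ∀ a : G, (QuotientGroup.mk' N) a = (a : G ⧸ N) := fun _ => rfl
  have ht1 : (t : G ⧸ N) ≠ 1 := fun e => ht ((QuotientGroup.eq_one_iff t).mp e)
  have htord : orderOf (t : G ⧸ N) = 2 :=
    orderOf_eq_prime (by rw [pow_two, ← QuotientGroup.mk_mul, (QuotientGroup.eq_one_iff _).mpr ht2]) ht1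
  have hO : ∀ M : Subgroup (G ⧸ N), M.Normal → IsPGroup 2 M → (t : G ⧸ N) ∉ M := by
    intro M hM hMp hmem
    apply ht
    rw [hNcore]
    exact HallCore.le_pCore (HallCore.isPGroup_comap_mk' h.isP hMp)
      (show t ∈ M.comap (QuotientGroup.mk' N) from hmem)
  obtain ⟨yb, hyb1, hybodd, hyinv⟩ := BaerSuzuki.exists_inverted_odd (t : G ⧸ N) htord hO
  obtain ⟨y, rfl⟩ := QuotientGroup.mk_surjective yb
  have hy : y ∉ N := fun e => hyb1 ((QuotientGroup.eq_one_iff y).mpr e)
  -- `y` acts fixed-point-freely on `N`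
  have hfix : ∀ v ∈ N, y * v * y⁻¹ = v → v = 1 := by
    intro v hv hyv
    by_contra hv1
    have hmem : y ∈ Subgroup.centralizer ({v} : Set G) := by
      rw [Subgroup.mem_centralizer_singleton_iff]
      refine Eq.symm ?_
      calc v * y = y * v * y⁻¹ * y := by rw [hyv]
        _ = y * v := by group
    obtain ⟨a, ha⟩ := (isPGroup_centralizer h hv hv1) ⟨y, hmem⟩
    have ha' : (y : G ⧸ N) ^ (2 ^ a) = 1 := by
      rw [← QuotientGroup.mk_pow]
      have : y ^ (2 ^ a) = 1 := congrArg Subtype.val ha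
      rw [this, QuotientGroup.mk_one]
    obtain ⟨j, -, hj⟩ := (Nat.dvd_prime_pow Nat.prime_two).mp (orderOf_dvd_of_pow_eq_one ha')
    rw [hj] at hybodd
    rcases Nat.eq_zero_or_pos j with hj0 | hj0
    · rw [hj0, pow_zero, orderOf_eq_one_iff] at hj
      exact hyb1 hj
    · exact Nat.not_even_iff_odd.mpr hybodd (Nat.even_pow.mpr ⟨even_two, hj0.ne'⟩)
  have hcomm := @comm G _ _ 2 _ N h
  let cj : G → N → N := fun g v => ⟨g * v * g⁻¹, h.normal.conj_mem _ v.2 g⟩
  -- every `w ∈ N` fixed by `t` is `v * (t v t⁻¹)`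
  have himg : ∀ w ∈ N, t * w * t⁻¹ = w → ∃ v ∈ N, v * (t * v * t⁻¹) = w⁻¹ := by
    intro w hw htw
    let φ : N → N := fun v => cj y v * v⁻¹
    have hinj : Function.Injective φ := by
      intro a b hab
      have hab' : y * a * y⁻¹ * (a : G)⁻¹ = y * b * y⁻¹ * (b : G)⁻¹ := congrArg Subtype.val hab
      have hab'' : (a : G) * (b : G)⁻¹ = 1 := by
        apply hfix _ (mul_mem a.2 (inv_mem b.2))
        calc y * ((a : G) * (b : G)⁻¹) * y⁻¹ = (y * a * y⁻¹) * (y * b * y⁻¹)⁻¹ := by group
          _ = (y * a * y⁻¹ * (a : G)⁻¹) * (a : G) * (y * b * y⁻¹)⁻¹ := by group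
          _ = (y * b * y⁻¹) * ((b : G)⁻¹ * a) * (y * b * y⁻¹)⁻¹ := by rw [hab']; group
          _ = ((b : G)⁻¹ * a) * ((y * b * y⁻¹) * (y * b * y⁻¹)⁻¹) := by
            rw [hcomm (h.normal.conj_mem _ b.2 y) (mul_mem (inv_mem b.2) a.2)]; group
          _ = (a : G) * (b : G)⁻¹ := by rw [mul_inv_cancel, mul_one, hcomm (inv_mem b.2) a.2]
      exact Subtype.ext (mul_inv_eq_one.mp hab'')
    obtain ⟨v, hv⟩ := (Finite.injective_iff_surjective.mp hinj) ⟨w, hw⟩
    have hv' : y * v * y⁻¹ * (v : G)⁻¹ = w := congrArg Subtype.val hv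
    refine ⟨v, v.2, ?_⟩
    set τ : G := t * v * t⁻¹ with hτ
    have hτN : τ ∈ N := h.normal.conj_mem _ v.2 t
    -- conjugating by `t y` agrees with conjugating by `y⁻¹ t`
    have hrel : (t * y * t⁻¹) * τ * (t * y * t⁻¹)⁻¹ = y⁻¹ * τ * y := by
      have hmemN : (y⁻¹)⁻¹ * (t * y * t⁻¹) ∈ N := by
        rw [← QuotientGroup.eq]
        simpa using hyinv.symm
      set n0 := (y⁻¹)⁻¹ * (t * y * t⁻¹) with hn0
      have e : t * y * t⁻¹ = y⁻¹ * n0 := by rw [hn0]; group
      rw [e, show y⁻¹ * n0 * τ * (y⁻¹ * n0)⁻¹ = y⁻¹ * (n0 * τ * n0⁻¹) * y by group,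
        hcomm hmemN hτN, mul_inv_cancel_right]
    have h1 : (y⁻¹ * τ * y) * τ⁻¹ = w := by
      rw [← hrel, ← htw, ← hv', hτ]; group
    -- hence `y τ y⁻¹ = τ * (y w y⁻¹)⁻¹`
    have h2 : τ * (y * τ * y⁻¹)⁻¹ = y * w * y⁻¹ := by rw [← h1]; group
    have h4 : y * ((v : G) * τ * w) * y⁻¹ = (v : G) * τ * w := by
      have e1 : y * v * y⁻¹ = w * v := by rw [← hv']; group
      have e2 : y * τ * y⁻¹ = (y * w * y⁻¹)⁻¹ * τ := by
        rw [← h2]; group
      calc y * ((v : G) * τ * w) * y⁻¹
          = (y * v * y⁻¹) * ((y * τ * y⁻¹) * (y * w * y⁻¹)) := by group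
        _ = (w * v) * (((y * w * y⁻¹)⁻¹ * τ) * (y * w * y⁻¹)) := by rw [e1, e2]
        _ = (w * v) * τ := by
          rw [hcomm (inv_mem (h.normal.conj_mem _ hw y)) hτN, inv_mul_cancel_right]
        _ = (v : G) * τ * w := by
          rw [mul_assoc, hcomm hw (mul_mem v.2 hτN)]
    exact eq_inv_of_mul_eq_one_left (hfix _ (mul_mem (mul_mem v.2 hτN) hw) h4)
  -- some element of the coset is an involution
  obtain ⟨v, hv, hveq⟩ := himg (t * t) ht2 (by group)
  have hsq : (v * t) * (v * t) = 1 := by
    calc (v * t) * (v * t) = v * (t * v * t⁻¹) * (t * t) := by group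
      _ = 1 := by rw [hveq, inv_mul_cancel]
  set t0 := v * t with ht0
  have ht0N : t0 ∉ N := fun e => ht (by simpa [ht0] using mul_mem (inv_mem hv) e)
  have ht0inv : t0⁻¹ = t0 := inv_eq_of_mul_eq_one_right hsq
  -- so every element of the coset squares to one, and `t0` centralises `N`
  have hcent : t0 ∈ Subgroup.centralizer (N : Set G) := by
    intro n hn
    have hc := isConj_orderOf (h.coset t0 ht0N n hn)
    have h2 : (t0 * n) * (t0 * n) = 1 := by
      have e : (t0 * n) ^ orderOf t0 = 1 := by rw [hc]; exact pow_orderOf_eq_one _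
      have e0 : orderOf t0 = 2 := orderOf_eq_prime (by rw [pow_two, hsq])
        (fun e => ht0N (e ▸ one_mem N))
      rw [e0, pow_two] at e
      exact e
    have hn2 : n * n = 1 := by rw [← pow_two]; exact pow_p_eq_one h hn
    have hninv : n⁻¹ = n := inv_eq_of_mul_eq_one_right hn2
    calc n * t0 = n⁻¹ * t0⁻¹ := by rw [hninv, ht0inv]
      _ = (t0 * n)⁻¹ := (mul_inv_rev t0 n).symm
      _ = t0 * n := inv_eq_of_mul_eq_one_right h2
  exact ht0N (hNcore ▸ centralizer_le_pCore_part h hcent)

/-- If `N = O_p(G)` then `N` has a complement `H`. -/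
theorem exists_complement (h : Config p N) (hNcore : N = Cfsg.pCore p G) :
    ∃ H : Subgroup G, Subgroup.IsComplement' N H := by
  haveI := h.normal
  rcases eq_or_ne p 2 with hp2 | hp2
  · -- the index of `N` is odd
    refine (Subgroup.exists_right_complement'_of_coprime ?_)
    obtain ⟨n, -, hn⟩ := card_N h
    rw [hn]
    refine Nat.Coprime.pow_left n (hp.out.coprime_iff_not_dvd.mpr fun hd => ?_)
    rw [Subgroup.index] at hd
    haveI : Fact (Nat.Prime 2) := ⟨Nat.prime_two⟩
    obtain ⟨tb, htb⟩ := exists_prime_orderOf_dvd_card' (G := G ⧸ N) 2 (hp2 ▸ hd)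
    obtain ⟨t, rfl⟩ := QuotientGroup.mk_surjective tb
    refine eq_top_or_even_false h hNcore hp2 (t := t) (fun e => ?_) ?_
    · rw [(QuotientGroup.eq_one_iff t).mpr e, orderOf_one] at htb
      exact absurd htb (by decide)
    · have := pow_orderOf_eq_one (t : G ⧸ N)
      rw [htb, pow_two, ← QuotientGroup.mk_mul] at this
      exact (QuotientGroup.eq_one_iff _).mp this
  · -- a central involution of `G ⧸ N` acting as inversion
    obtain ⟨k, hk, hk1⟩ := exists_mem_ne h
    have hpodd : Odd p := hp.out.odd_of_ne_two hp2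
    have heven : 2 ∣ Nat.card G := by
      refine dvd_trans ?_ (Subgroup.index_dvd_card (Subgroup.centralizer ({k} : Set G)))
      obtain ⟨n, hn0, hn⟩ := card_N h
      have h1 := index_centralizer h hk hk1
      have h2 : Odd (Nat.card N) := hn ▸ hpodd.pow
      rw [← h1] at h2
      rcases h2 with ⟨j, hj⟩
      exact ⟨j, by omega⟩
    haveI : Fact (Nat.Prime 2) := ⟨Nat.prime_two⟩
    obtain ⟨z, hz⟩ := exists_prime_orderOf_dvd_card' (G := G) 2 heven
    have hzz : z * z = 1 := by have := pow_orderOf_eq_one z; rwa [hz, pow_two] at this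
    have hzinv : z⁻¹ = z := inv_eq_of_mul_eq_one_right hzz
    have hcomm := @comm G _ _ p _ N h
    have hfix : ∀ v ∈ N, z * v = v * z → v = 1 := by
      intro v hv hc
      by_contra hv1
      obtain ⟨a, ha⟩ := (isPGroup_centralizer h hv hv1) ⟨z, by
        rw [Subgroup.mem_centralizer_singleton_iff]; exact hc⟩
      have ha' : z ^ (p ^ a) = 1 := congrArg Subtype.val ha
      have hd := orderOf_dvd_of_pow_eq_one ha'
      rw [hz] at hd
      exact Nat.not_even_iff_odd.mpr (hpodd.pow (n := a)) (even_iff_two_dvd.mpr hd)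
    have hinv : ∀ v ∈ N, z * v * z = v⁻¹ := by
      intro v hv
      have hv' : z * v * z ∈ N := by simpa [hzinv] using h.normal.conj_mem v hv z
      refine eq_inv_of_mul_eq_one_left (hfix _ (mul_mem hv' hv) ?_)
      calc z * (z * v * z * v) = (z * z) * v * z * v := by group
        _ = v * z * v := by rw [hzz, one_mul]
        _ = v * z * v * (z * z) := by rw [hzz, mul_one]
        _ = v * (z * v * z) * z := by group
        _ = z * v * z * v * z := by rw [hcomm hv hv']
    have hcomN : ∀ g : G, g * z * g⁻¹ * z ∈ N := by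
      intro g
      rw [hNcore]
      refine centralizer_le_pCore_part h ?_
      intro v hv
      have hu : g⁻¹ * (z * v * z) * g ∈ N := by
        have hv' : z * v * z ∈ N := by rw [hinv v hv]; exact inv_mem hv
        simpa using h.normal.conj_mem _ hv' g⁻¹
      have e : (g * z * g⁻¹ * z) * v * (g * z * g⁻¹ * z)⁻¹ = v := by
        calc (g * z * g⁻¹ * z) * v * (g * z * g⁻¹ * z)⁻¹
            = g * (z * (g⁻¹ * (z * v * z⁻¹) * g) * z⁻¹) * g⁻¹ := by group
          _ = g * (z * (g⁻¹ * (z * v * z) * g) * z) * g⁻¹ := by rw [hzinv]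
          _ = g * (g⁻¹ * (z * v * z) * g)⁻¹ * g⁻¹ := by rw [hinv _ hu]
          _ = (z * v * z)⁻¹ := by group
          _ = v := by rw [hinv v hv, inv_inv]
      calc v * (g * z * g⁻¹ * z)
          = (g * z * g⁻¹ * z) * v * (g * z * g⁻¹ * z)⁻¹ * (g * z * g⁻¹ * z) := by rw [e]
        _ = (g * z * g⁻¹ * z) * v := by group
    refine ⟨Subgroup.centralizer ({z} : Set G), Subgroup.isComplement'_of_disjoint_and_mul_eq_univ ?_ ?_⟩
    · rw [Subgroup.disjoint_def]
      intro v hv hv'
      exact hfix v hv (Subgroup.mem_centralizer_singleton_iff.mp hv').symm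
    · rw [Set.eq_univ_iff_forall]
      intro g
      -- the square map on `N` is onto
      have hsq : Function.Surjective (fun v : N => v ^ 2) :=
        (powCoprime (G := N) (by
          obtain ⟨n, -, hn⟩ := card_N h
          rw [hn]
          exact (hp.out.coprime_iff_not_dvd.mpr (fun hd =>
            hp2 ((Nat.prime_dvd_prime_iff_eq hp.out Nat.prime_two).mp hd))).pow_left n)).surjective
      obtain ⟨w, hw⟩ := hsq ⟨_, hcomN g⟩
      have hw' : (w : G) * w = g * z * g⁻¹ * z := by
        have := congrArg Subtype.val hw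
        rwa [Subgroup.coe_pow, pow_two] at this
      refine Set.mem_mul.mpr ⟨w, w.2, (w : G)⁻¹ * g, ?_, by group⟩
      rw [SetLike.mem_coe, Subgroup.mem_centralizer_singleton_iff]
      have e1 : g * z = (w : G) * w * z * g := by
        rw [hw', mul_assoc (g * z * g⁻¹) z z, hzz, mul_one]; group
      have e2 : z * (w : G)⁻¹ = w * z := by
        have := hinv _ (inv_mem w.2)
        rw [inv_inv] at this
        calc z * (w : G)⁻¹ = z * (w : G)⁻¹ * (z * z) := by rw [hzz, mul_one]
          _ = (z * (w : G)⁻¹ * z) * z := by group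
          _ = w * z := by rw [this]
      refine Eq.symm ?_
      calc z * ((w : G)⁻¹ * g) = w * z * g := by rw [← mul_assoc, e2]
        _ = (w : G)⁻¹ * (g * z) := by rw [e1]; group
        _ = (w : G)⁻¹ * g * z := by group

/-- The Frobenius structure when `N = O_p(G)`. -/
theorem exists_frobenius (h : Config p N) (hNcore : N = Cfsg.pCore p G) (hG : 2 < Nat.card G) :
    ∃ H : Subgroup G, Cfsg.IsFrobeniusComplement H ∧
      Cfsg.frobeniusKernel H = (N : Set G) ∧ Nat.card H + 1 = Nat.card N := by
  haveI := h.normal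
  obtain ⟨H, hH⟩ := exists_complement h hNcore
  obtain ⟨k, hk, hk1⟩ := exists_mem_ne h
  have hdisj : Disjoint N H := hH.disjoint
  have hdec : ∀ g : G, ∃ n ∈ N, ∃ b ∈ H, n * b = g := fun g => by
    obtain ⟨⟨n, b⟩, hnb⟩ := hH.surjective g
    exact ⟨n, n.2, b, b.2, hnb⟩
  -- conjugating `x ∈ H` inside `N` covers the coset `x N`
  have hsurj : ∀ x ∈ H, x ≠ 1 → ∀ v ∈ N, ∃ n ∈ N, n * x * n⁻¹ = x * v := by
    intro x hx hx1 v hv
    have hxN : x ∉ N := fun e => hx1 (Subgroup.disjoint_def.mp hdisj e hx)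
    obtain ⟨g, hg⟩ := isConj_iff.mp (h.coset x hxN v hv)
    obtain ⟨n, hn, b, hb, rfl⟩ := hdec g
    refine ⟨n, hn, ?_⟩
    suffices hbx : b * x * b⁻¹ = x by
      rw [← hg]
      calc n * x * n⁻¹ = n * (b * x * b⁻¹) * n⁻¹ := by rw [hbx]
        _ = n * b * x * (n * b)⁻¹ := by group
    have hmemH : x⁻¹ * (b * x * b⁻¹) ∈ H := mul_mem (inv_mem hx) (mul_mem (mul_mem hb hx) (inv_mem hb))
    have hmemN : x⁻¹ * (b * x * b⁻¹) ∈ N := by
      have e : x⁻¹ * (b * x * b⁻¹) = x⁻¹ * n⁻¹ * x * v * n := by
        calc x⁻¹ * (b * x * b⁻¹) = x⁻¹ * n⁻¹ * (n * b * x * (n * b)⁻¹) * n := by group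
          _ = x⁻¹ * n⁻¹ * (x * v) * n := by rw [hg]
          _ = x⁻¹ * n⁻¹ * x * v * n := by group
      rw [e]
      exact mul_mem (mul_mem (by simpa using h.normal.conj_mem _ (inv_mem hn) x⁻¹) hv) hn
    exact (inv_mul_eq_one.mp (Subgroup.disjoint_def.mp hdisj hmemN hmemH)).symm
  have hfpf : ∀ x ∈ H, x ≠ 1 → ∀ n ∈ N, x * n = n * x → n = 1 := by
    intro x hx hx1 n hn hxn
    let f : N → N := fun u => ⟨x⁻¹ * ((u : G) * x * (u : G)⁻¹), by
      rw [show x⁻¹ * ((u : G) * x * (u : G)⁻¹) = (x⁻¹ * u * (x⁻¹)⁻¹) * (u : G)⁻¹ by group]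
      exact mul_mem (h.normal.conj_mem _ u.2 x⁻¹) (inv_mem u.2)⟩
    have hf : Function.Surjective f := fun v => by
      obtain ⟨u, hu, he⟩ := hsurj x hx hx1 v v.2
      exact ⟨⟨u, hu⟩, Subtype.ext (by show x⁻¹ * (u * x * u⁻¹) = v; rw [he]; group)⟩
    have := (Finite.injective_iff_surjective.mpr hf) (a₁ := ⟨n, hn⟩) (a₂ := 1) (Subtype.ext (by
      show x⁻¹ * (n * x * n⁻¹) = x⁻¹ * (1 * x * 1⁻¹)
      rw [← hxn]; group))
    exact congrArg Subtype.val this
  have hC : Subgroup.centralizer ({k} : Set G) = N := by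
    refine le_antisymm ?_ (fun n hn => Subgroup.mem_centralizer_singleton_iff.mpr (comm h hk hn).symm)
    intro g hg
    obtain ⟨n, hn, b, hb, rfl⟩ := hdec g
    by_cases hb1 : b = 1
    · simpa [hb1] using hn
    exfalso
    refine hk1 (hfpf b hb hb1 k hk ?_)
    have h1 : n * k = k * n := comm h hn hk
    rw [Subgroup.mem_centralizer_singleton_iff] at hg
    apply mul_left_cancel (a := n)
    rw [← mul_assoc, ← mul_assoc, h1, mul_assoc k n b]
    exact hg
  have hcardH : Nat.card H + 1 = Nat.card N := by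
    have h1 := index_centralizer h hk hk1
    rw [hC] at h1
    rwa [hH.symm.index_eq_card] at h1
  have hHbot : H ≠ ⊥ := by
    intro e
    rw [e, Subgroup.card_bot] at hcardH
    have := hH.card_mul
    rw [e, Subgroup.card_bot] at this
    omega
  have hHtop : H ≠ ⊤ := fun e => h.ne_bot (by rw [e] at hdisj; exact hdisj.eq_bot_of_le le_top)
  have hF : Cfsg.IsFrobeniusComplement H := by
    refine ⟨hHbot, hHtop, fun g hg => ?_⟩
    rw [Subgroup.eq_bot_iff_forall]
    rintro x ⟨hx, hxg⟩
    by_contra hx1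
    obtain ⟨n, hn, b, hb, rfl⟩ := hdec g
    apply hg
    obtain ⟨y, hy, hxy⟩ := Subgroup.mem_map.mp hxg
    simp only [MulDistribMulAction.toMonoidEnd_apply, MulDistribMulAction.toMonoidHom_apply,
      MulAut.smul_def, MulAut.conj_apply] at hxy
    set u := b * y * b⁻¹ with hu
    have huH : u ∈ H := mul_mem (mul_mem hb hy) (inv_mem hb)
    have hxu : x = n * u * n⁻¹ := by rw [← hxy, hu]; group
    have hux : u = x := by
      have hmemN : u⁻¹ * x ∈ N := by
        rw [hxu, show u⁻¹ * (n * u * n⁻¹) = (u⁻¹ * n * (u⁻¹)⁻¹) * n⁻¹ by group]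
        exact mul_mem (h.normal.conj_mem _ hn u⁻¹) (inv_mem hn)
      exact inv_mul_eq_one.mp (Subgroup.disjoint_def.mp hdisj hmemN (mul_mem (inv_mem huH) hx))
    have hn1 : n = 1 := by
      refine hfpf x hx hx1 n hn ?_
      rw [hux] at hxu
      calc x * n = n * x * n⁻¹ * n := by rw [← hxu]
        _ = n * x := by group
    simpa [hn1] using hb
  refine ⟨H, hF, ?_, hcardH⟩
  ext x
  constructor
  · rintro (rfl | hx)
    · exact one_mem _
    · by_contra hxN
      obtain ⟨n, hn, b, hb, rfl⟩ := hdec x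
      have hb1 : b ≠ 1 := fun e => hxN (by simpa [e] using hn)
      obtain ⟨u, -, hue⟩ := hsurj b hb hb1 (b⁻¹ * n * b) (by simpa using h.normal.conj_mem n hn b⁻¹)
      refine hx u ?_
      rw [show n * b = b * (b⁻¹ * n * b) by group, ← hue]
      exact Subgroup.smul_mem_pointwise_smul b (MulAut.conj u) H hb
  · intro hx
    exact FrobeniusBasic.normal_le_kernel N hdisj hx

theorem eq_pCore_of_frobenius (h : Config p N) {H : Subgroup G}
    (hH : Cfsg.IsFrobeniusComplement H) (hK : Cfsg.frobeniusKernel H = (N : Set G))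
    (hc : Nat.card H + 1 = Nat.card N) : N = Cfsg.pCore p G := by
  haveI := h.normal
  have hcomp := FrobeniusBasic.isComplement_of_eq_kernel hH hK.symm
  refine le_antisymm (HallCore.le_pCore h.isP) ?_
  obtain ⟨n, hn0, hn⟩ := card_N h
  have hnd : ¬ p ∣ N.index := by
    rw [hcomp.symm.index_eq_card]
    intro hd
    have h2 := (Nat.dvd_add_iff_right hd).mpr (hc ▸ hn ▸ dvd_pow_self p hn0.ne')
    exact hp.out.ne_one (Nat.dvd_one.mp h2)
  have hS : (h.isP.toSylow hnd : Subgroup G) = N := rfl
  exact hS ▸ HallCore.pCore_le_sylow _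

end Cfsg.Agent.GagolaGroup
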