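import Mathlib
import Cfsg.Prelude.Def_Characters
import Cfsg.Agent.Lib.CharBasic
import Cfsg.Agent.Lib.CharBasicOrth
import Cfsg.Agent.Lib.CharBasicDecomp
import Cfsg.Agent.Lib.GagolaGroup

/-!
# Irreducible characters nonzero on exactly two conjugacy classes (Gagola characters)
-/

set_option autoImplicit false

open scoped ComplexConjugate

namespace Cfsg.Agent.GagolaChar

open Cfsg.Agent.CharBasic Cfsg.Agent.CharBasicOrth Cfsg.Agent.CharBasicDecomp

variable {G : Type*} [Group G]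

theorem isClassFunction_irr (χ : Cfsg.IrrCharacter G) : Cfsg.IsClassFunction G (χ : G → ℂ) :=
  isClassFunction_of_isCharacter (isCharacter_of_isIrrCharacter χ.2)

/-- Elements in the kernel of an irreducible character. -/
theorem apply_mul_of_ker [Finite G] (χ : Cfsg.IrrCharacter G) {g : G}
    (hg : (χ : G → ℂ) g = (χ : G → ℂ) 1) (x : G) :
    (χ : G → ℂ) (g * x) = (χ : G → ℂ) x ∧ (χ : G → ℂ) (x * g) = (χ : G → ℂ) x := by
  obtain ⟨n, ρ, -, he⟩ := χ.2
  rw [← he] at hg ⊢
  rw [Representation.char_one] at hg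
  have hid := eq_one_of_character_eq_finrank ρ g hg
  constructor <;> simp [Representation.character, hid, ← Module.End.one_eq_id]

/-- The intersection of the kernels of the irreducible characters other than `χ`. -/
def otherKer [Finite G] (χ : Cfsg.IrrCharacter G) : Subgroup G where
  carrier := {g | ∀ ψ : Cfsg.IrrCharacter G, ψ ≠ χ → (ψ : G → ℂ) g = (ψ : G → ℂ) 1}
  one_mem' := fun _ _ => rfl
  mul_mem' := fun {a b} ha hb ψ hψ => by rw [(apply_mul_of_ker ψ (ha ψ hψ) b).1, hb ψ hψ]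
  inv_mem' := fun {a} ha ψ hψ => by
    have := (apply_mul_of_ker ψ (ha ψ hψ) a⁻¹).1
    rw [mul_inv_cancel] at this
    exact this.symm

theorem otherKer_normal [Finite G] (χ : Cfsg.IrrCharacter G) : (otherKer χ).Normal :=
  ⟨fun n hn g ψ hψ => by rw [isClassFunction_irr ψ n g]; exact hn ψ hψ⟩

/-- The data extracted from a character nonzero on exactly two classes. -/
theorem exists_class [Finite G] (hG : 2 < Nat.card G) (χ : Cfsg.IrrCharacter G)
    (hχ : Nat.card {C : ConjClasses G // ∃ g ∈ C.carrier, (χ : G → ℂ) g ≠ 0} = 2) :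
    ∃ k : G, k ≠ 1 ∧ (χ : G → ℂ) k ≠ 0 ∧
      (∀ g, (χ : G → ℂ) g ≠ 0 → g = 1 ∨ IsConj k g) ∧ χ ≠ trivIrr G := by
  classical
  have h1 : (χ : G → ℂ) 1 ≠ 0 := isIrrCharacter_apply_one_ne_zero χ.2
  let C1 : {C : ConjClasses G // ∃ g ∈ C.carrier, (χ : G → ℂ) g ≠ 0} :=
    ⟨ConjClasses.mk 1, 1, ConjClasses.mem_carrier_mk, h1⟩
  obtain ⟨⟨C, k, hkC, hk⟩, hne, huniq⟩ := (Nat.card_eq_two_iff' C1).mp hχ
  rw [ConjClasses.mem_carrier_iff_mk_eq] at hkC
  have hk1 : k ≠ 1 := by
    rintro rfl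
    exact hne (Subtype.ext hkC.symm)
  have hall : ∀ g, (χ : G → ℂ) g ≠ 0 → g = 1 ∨ IsConj k g := by
    intro g hg
    by_cases he : ConjClasses.mk g = ConjClasses.mk (1 : G)
    · left
      exact isConj_one_left.mp (ConjClasses.mk_eq_mk_iff_isConj.mp he)
    · right
      have := huniq ⟨ConjClasses.mk g, g, ConjClasses.mem_carrier_mk, hg⟩
        (fun e => he (congrArg Subtype.val e))
      refine ConjClasses.mk_eq_mk_iff_isConj.mp ?_
      rw [hkC]
      exact (congrArg Subtype.val this).symm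
  refine ⟨k, hk1, hk, hall, fun hc => ?_⟩
  have hone : ∀ g : G, (χ : G → ℂ) g ≠ 0 := fun g => by rw [hc]; exact one_ne_zero
  haveI : Fintype G := Fintype.ofFinite G
  -- all nonidentity elements are conjugate, so `|G| - 1` divides `|G|`
  have hd : Nat.card {g : G // IsConj k g} ∣ Nat.card G :=
    Dvd.intro _ (card_conj_mul_card_centralizer k)
  have hcard : Nat.card {g : G // IsConj k g} + 1 = Nat.card G := by
    have e : {g : G | IsConj k g} = (Set.univ : Set G) \ {1} := by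
      ext g
      refine ⟨fun hg => ⟨trivial, fun h' => ?_⟩, fun hg => ((hall g (hone g)).resolve_left hg.2)⟩
      rw [Set.mem_singleton_iff] at h'
      subst h'
      exact hk1 (isConj_one_left.mp hg)
    rw [show Nat.card {g : G // IsConj k g} = ({g : G | IsConj k g}).ncard from rfl, e,
      Set.ncard_sdiff_singleton_add_one (Set.mem_univ _) (Set.toFinite _), Set.ncard_univ]
  rw [← hcard] at hd
  have := (Nat.dvd_add_iff_right dvd_rfl).mpr hd
  rw [Nat.dvd_one] at this
  omega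

theorem sum_eq [Fintype G] {χ : G → ℂ} {k : G} (hk1 : k ≠ 1)
    (hall : ∀ g, χ g ≠ 0 → g = 1 ∨ IsConj k g) (φ : G → ℂ) (hφ : ∀ g, IsConj k g → φ g = φ k)
    (hχc : ∀ g, IsConj k g → χ g = χ k) :
    ∑ g, χ g * φ g = χ 1 * φ 1 + (Nat.card {g : G // IsConj k g} : ℂ) * (χ k * φ k) := by
  classical
  have h1 : ¬ IsConj k 1 := fun h => hk1 (isConj_one_left.mp h)
  have e : ∀ g, χ g * φ g =
      (if g = 1 then χ 1 * φ 1 else 0) + (if IsConj k g then χ k * φ k else 0) := by
    intro g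
    by_cases hg : g = 1
    · subst hg; rw [if_pos rfl, if_neg h1, add_zero]
    · by_cases hc : IsConj k g
      · rw [hχc g hc, hφ g hc, if_neg hg, if_pos hc, zero_add]
      · have : χ g = 0 := by
          by_contra h
          exact (hall g h).elim hg hc
        rw [this, zero_mul, if_neg hg, if_neg hc, add_zero]
  rw [Finset.sum_congr rfl (fun g _ => e g), Finset.sum_add_distrib, Finset.sum_ite_eq',
    if_pos (Finset.mem_univ _)]
  rw [← Finset.sum_filter, Finset.sum_const, nsmul_eq_mul, Nat.card_eq_fintype_card,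
    Fintype.card_subtype]

theorem main [Finite G] (hG : 2 < Nat.card G) (χ : Cfsg.IrrCharacter G)
    (hχ : Nat.card {C : ConjClasses G // ∃ g ∈ C.carrier, (χ : G → ℂ) g ≠ 0} = 2) :
    (∀ g : G, (χ : G → ℂ) g ≠ 0 ↔ g ∈ otherKer χ) ∧
      (∀ g : G, (χ : G → ℂ) g = (χ : G → ℂ) 1 → g = 1) ∧
      otherKer χ ≠ ⊥ ∧
      (∀ x ∈ otherKer χ, x ≠ 1 → ∀ y ∈ otherKer χ, y ≠ 1 → IsConj x y) ∧
      (∀ x : G, x ∉ otherKer χ → ∀ n ∈ otherKer χ, IsConj x (x * n)) := by
  classical
  haveI : Fintype G := Fintype.ofFinite G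
  obtain ⟨k, hk1, hk, hall, hne⟩ := exists_class hG χ hχ
  set f := (χ : G → ℂ) 1 with hf
  set c := (χ : G → ℂ) k with hc
  set m : ℂ := (Nat.card {g : G // IsConj k g} : ℂ) with hm
  have hf0 : f ≠ 0 := isIrrCharacter_apply_one_ne_zero χ.2
  have hχc : ∀ g, IsConj k g → (χ : G → ℂ) g = c := fun g hg =>
    (apply_eq_of_isConj (isClassFunction_irr χ) hg).symm
  have hinner : ∀ ψ : Cfsg.IrrCharacter G,
      (Nat.card G : ℂ) * Cfsg.classInner (χ : G → ℂ) ψ =
        f * conj ((ψ : G → ℂ) 1) + m * (c * conj ((ψ : G → ℂ) k)) := by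
    intro ψ
    rw [card_mul_classInner]
    exact sum_eq hk1 hall (fun g => conj ((ψ : G → ℂ) g))
      (fun g hg => congrArg conj (apply_eq_of_isConj (isClassFunction_irr ψ) hg).symm) hχc
  have hmc : m * c = -f := by
    have := hinner (trivIrr G)
    rw [classInner_irr_ne χ.2 (trivIrr G).2 (fun e => hne (Subtype.ext e))] at this
    simp only [trivIrr, map_one, mul_one, mul_zero] at this
    linear_combination -this
  have hker : ∀ ψ : Cfsg.IrrCharacter G, ψ ≠ χ → (ψ : G → ℂ) k = (ψ : G → ℂ) 1 := by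
    intro ψ hψ
    have := hinner ψ
    rw [classInner_irr_ne χ.2 ψ.2 (fun e => hψ (Subtype.ext e).symm), mul_zero] at this
    have h2 : f * (conj ((ψ : G → ℂ) 1) - conj ((ψ : G → ℂ) k)) = 0 := by
      linear_combination -this - conj ((ψ : G → ℂ) k) * hmc
    have h3 := (mul_eq_zero.mp h2).resolve_left hf0
    exact ((starRingEnd ℂ).injective (sub_eq_zero.mp h3)).symm
  have hkN : k ∈ otherKer χ := hker
  have hnormal := otherKer_normal χ
  -- the character does not vanish on `otherKer χ`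
  have hnz : ∀ g ∈ otherKer χ, (χ : G → ℂ) g ≠ 0 := by
    intro g hg h0
    have hg1 : ¬ IsConj g 1 := fun h => by
      rw [isConj_one_right.mp h.symm] at h0
      exact hf0 h0
    have hsum := sum_irr_mul_conj g 1
    rw [if_neg hg1] at hsum
    choose d hd using fun ψ : Cfsg.IrrCharacter G => isIrrCharacter_apply_one ψ.2
    have e : ∀ ψ : Cfsg.IrrCharacter G, (ψ : G → ℂ) g * conj ((ψ : G → ℂ) 1) =
        ((if ψ = χ then 0 else d ψ * d ψ : ℕ) : ℂ) := by
      intro ψ
      by_cases hψ : ψ = χ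
      · rw [if_pos hψ, hψ, h0, zero_mul, Nat.cast_zero]
      · rw [if_neg hψ, hg ψ hψ, (hd ψ).2, map_natCast, Nat.cast_mul]
    simp_rw [e] at hsum
    rw [← Nat.cast_sum, Nat.cast_eq_zero, Finset.sum_eq_zero_iff] at hsum
    have := hsum (trivIrr G) (Finset.mem_univ _)
    rw [if_neg (fun h => hne h.symm)] at this
    exact (Nat.mul_pos (hd (trivIrr G)).1 (hd (trivIrr G)).1).ne' this
  have hiff : ∀ g : G, (χ : G → ℂ) g ≠ 0 ↔ g ∈ otherKer χ := by
    refine fun g => ⟨fun hg => ?_, hnz g⟩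
    rcases hall g hg with rfl | hc'
    · exact one_mem _
    · obtain ⟨a, rfl⟩ := isConj_iff.mp hc'
      exact hnormal.conj_mem k hkN a
  refine ⟨hiff, ?_, ?_, ?_, ?_⟩
  · intro g hg
    by_contra hg1
    have hc' : IsConj k g := (hall g (hg ▸ hf0)).resolve_left hg1
    have hcf : c = f := (hχc g hc').symm.trans hg
    rw [hcf] at hmc
    have : (m + 1) * f = 0 := by linear_combination hmc
    have hm1 : m + 1 ≠ 0 := by
      rw [hm, ← Nat.cast_add_one]
      exact Nat.cast_ne_zero.mpr (Nat.succ_ne_zero _)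
    exact hf0 ((mul_eq_zero.mp this).resolve_left hm1)
  · intro hb
    rw [hb] at hkN
    exact hk1 hkN
  · intro x hx hx1 y hy hy1
    exact ((hall x (hnz x hx)).resolve_left hx1).symm.trans ((hall y (hnz y hy)).resolve_left hy1)
  · intro x hx n hn
    rw [isConj_iff_forall_irr]
    intro ψ
    by_cases hψ : ψ = χ
    · subst hψ
      have hx' : x * n ∉ otherKer ψ := fun h => hx (by
        simpa using mul_mem h (inv_mem hn))
      rw [not_not.mp ((hiff x).not.mpr hx), not_not.mp ((hiff _).not.mpr hx')]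
    · exact (apply_mul_of_ker ψ (hn ψ hψ) x).2.symm

/-- The support of the character, as given in the statements, is a `GagolaGroup.Config`. -/
theorem config [Finite G] (hG : 2 < Nat.card G) (χ : Cfsg.IrrCharacter G)
    (hχ : Nat.card {C : ConjClasses G // ∃ g ∈ C.carrier, (χ : G → ℂ) g ≠ 0} = 2) {p : ℕ}
    (N : Subgroup G) (hN : ∀ g : G, g ∈ N ↔ (χ : G → ℂ) g ≠ 0) (hNp : IsPGroup p N) :
    GagolaGroup.Config p N := by
  obtain ⟨hiff, -, hbot, htr, hco⟩ := main hG χ hχ
  have e : N = otherKer χ := by ext g; rw [hN g, hiff g]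
  subst e
  exact ⟨otherKer_normal χ, hNp, hbot, htr, hco⟩

theorem exists_prime [Finite G] (hG : 2 < Nat.card G) (χ : Cfsg.IrrCharacter G)
    (hχ : Nat.card {C : ConjClasses G // ∃ g ∈ C.carrier, (χ : G → ℂ) g ≠ 0} = 2) :
    ∃ p : ℕ, p.Prime ∧ IsPGroup p (otherKer χ) := by
  obtain ⟨-, -, hbot, htr, -⟩ := main hG χ hχ
  obtain ⟨p, hp, hd⟩ := Nat.exists_prime_and_dvd (n := Nat.card (otherKer χ))
    (fun h => hbot (Subgroup.card_eq_one.mp h))
  haveI : Fact p.Prime := ⟨hp⟩
  obtain ⟨z, hz⟩ := exists_prime_orderOf_dvd_card' (G := otherKer χ) p hd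
  refine ⟨p, hp, fun g => ⟨1, ?_⟩⟩
  rw [pow_one, ← orderOf_dvd_iff_pow_eq_one]
  by_cases hg : (g : G) = 1
  · rw [← Subgroup.orderOf_coe, hg, orderOf_one]; exact one_dvd _
  · rw [← Subgroup.orderOf_coe] at hz ⊢
    rw [← hz]
    refine (GagolaGroup.isConj_orderOf (htr g g.2 hg z z.2 fun e => ?_)).dvd
    rw [e, orderOf_one] at hz
    exact hp.ne_one hz.symm

theorem normal_ge [Finite G] (hG : 2 < Nat.card G) (χ : Cfsg.IrrCharacter G)
    (hχ : Nat.card {C : ConjClasses G // ∃ g ∈ C.carrier, (χ : G → ℂ) g ≠ 0} = 2)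
    (L : Subgroup G) (hL : L.Normal) (hL1 : L ≠ ⊥) : otherKer χ ≤ L := by
  obtain ⟨-, -, hbot, htr, hco⟩ := main hG χ hχ
  obtain ⟨x, hx, hx1⟩ := (Subgroup.nontrivial_iff_exists_ne_one L).mp
    ((Subgroup.nontrivial_iff_ne_bot L).mpr hL1)
  intro y hy
  by_cases hxN : x ∈ otherKer χ
  · by_cases hy1 : y = 1
    · rw [hy1]; exact one_mem _
    obtain ⟨a, rfl⟩ := isConj_iff.mp (htr x hxN hx1 y hy hy1)
    exact hL.conj_mem x hx a
  · obtain ⟨a, ha⟩ := isConj_iff.mp (hco x hxN y hy)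
    have := mul_mem (inv_mem hx) (hL.conj_mem x hx a)
    rwa [ha, inv_mul_cancel_left] at this

/-! ### Inertia groups of characters of the abelian subgroup -/

theorem apply_one_of_comm {A : Type*} [Group A] [Finite A] (hA : ∀ x y : A, x * y = y * x)
    (μ : Cfsg.IrrCharacter A) : (μ : A → ℂ) 1 = 1 := by
  haveI : Fintype A := Fintype.ofFinite A
  choose d hd using fun ψ : Cfsg.IrrCharacter A => isIrrCharacter_apply_one ψ.2
  have hinj : Function.Injective (ConjClasses.mk : A → ConjClasses A) := by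
    intro x y hxy
    obtain ⟨c, hc⟩ := isConj_iff.mp (ConjClasses.mk_eq_mk_iff_isConj.mp hxy)
    rwa [hA c x, mul_inv_cancel_right] at hc
  have hcc : Nat.card (Cfsg.IrrCharacter A) = Nat.card A := by
    rw [card_irrCharacter]
    exact (Nat.card_congr (Equiv.ofBijective _ ⟨hinj, ConjClasses.mk_surjective⟩)).symm
  have hs := sum_sq_apply_one (G := A)
  have hs' : ∑ ψ : Cfsg.IrrCharacter A, d ψ ^ 2 = ∑ _ψ : Cfsg.IrrCharacter A, 1 := by
    rw [Finset.sum_const, Finset.card_univ, smul_eq_mul, mul_one, ← Nat.card_eq_fintype_card, hcc]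
    apply Nat.cast_injective (R := ℂ)
    rw [Nat.cast_sum, ← hs]
    exact Finset.sum_congr rfl fun ψ _ => by rw [(hd ψ).2, Nat.cast_pow]
  have h1 : ∀ ψ ∈ Finset.univ, 1 = d ψ ^ 2 :=
    (Finset.sum_eq_sum_iff_of_le (fun ψ _ => Nat.one_le_pow _ _ (hd ψ).1)).mp hs'.symm
  have := (h1 μ (Finset.mem_univ μ)).symm
  rw [(hd μ).2, (Nat.pow_eq_one.mp this).resolve_right two_ne_zero, Nat.cast_one]

theorem exists_sylow_inertia [Finite G] {p : ℕ} [Fact p.Prime] {N : Subgroup G} [N.Normal]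
    (h : GagolaGroup.Config p N) (μ : Cfsg.IrrCharacter N)
    (hμ : (μ : N → ℂ) ≠ fun _ => (1 : ℂ)) :
    ∃ P : Sylow p G, ∀ g : G, g ∈ (P : Subgroup G) ↔
      ∀ n n' : N, (n' : G) = g * n * g⁻¹ → (μ : N → ℂ) n' = (μ : N → ℂ) n := by
  classical
  haveI : Fintype G := Fintype.ofFinite G
  haveI : Fintype N := Fintype.ofFinite N
  obtain ⟨k, hk, hk1⟩ := GagolaGroup.exists_mem_ne h
  let e : G → (N ≃* N) := fun g => MulAut.conjNormal g
  have he : ∀ (g : G) (n : N), ((e g n : N) : G) = g * n * g⁻¹ := fun g n =>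
    MulAut.conjNormal_apply g n
  let I : Subgroup G :=
    { carrier := {g | ∀ n, (μ : N → ℂ) (e g n) = (μ : N → ℂ) n}
      one_mem' := fun n => by simp [e]
      mul_mem' := fun {a b} ha hb n => by
        rw [show e (a * b) n = e a (e b n) from by simp [e]]
        rw [ha, hb]
      inv_mem' := fun {a} ha n => by
        have := ha (e a⁻¹ n)
        rw [show e a (e a⁻¹ n) = n from by simp [e]] at this
        exact this.symm }
  have hI : ∀ g, g ∈ I ↔ ∀ n n' : N, (n' : G) = g * n * g⁻¹ → (μ : N → ℂ) n' = (μ : N → ℂ) n := by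
    intro g
    refine ⟨fun hg n n' hn => ?_, fun hg n => hg n _ (he g n)⟩
    rw [show n' = e g n from Subtype.ext (hn.trans (he g n).symm)]
    exact hg n
  have hμ1 : (μ : N → ℂ) 1 = 1 :=
    apply_one_of_comm (fun x y => Subtype.ext (GagolaGroup.comm h x.2 y.2)) μ
  -- `F` is constant on `N \ {1}`
  let F : N → ℂ := fun n => ∑ g : G, (μ : N → ℂ) (e g n)
  have hFk : ∀ n : N, n ≠ 1 → F n = F ⟨k, hk⟩ := by
    intro n hn
    obtain ⟨a, ha⟩ := isConj_iff.mp (h.trans k hk hk1 n n.2 (fun e' => hn (Subtype.ext e')))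
    have hn' : n = e a ⟨k, hk⟩ := Subtype.ext (ha.symm.trans (he a ⟨k, hk⟩).symm)
    rw [hn']
    simp only [F]
    refine Fintype.sum_equiv (Equiv.mulRight a) _ _ (fun g => ?_)
    simp [e]
  have hirr : ∀ g, Cfsg.IsIrrCharacter N (fun n => (μ : N → ℂ) (e g n)) := fun g =>
    isIrrCharacter_comap (e g).toMonoidHom (e g).surjective μ.2
  have hF1 : F 1 = (Nat.card G : ℂ) := by
    simp [F, hμ1]
  -- the two averages
  have hsum0 : ∑ n, F n = 0 := by
    simp only [F]
    rw [Finset.sum_comm]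
    refine Finset.sum_eq_zero fun g _ => ?_
    have := card_mul_classInner (fun n => (μ : N → ℂ) (e g n)) (fun _ : N => (1 : ℂ))
    simp only [map_one, mul_one] at this
    rw [← this, classInner_irr_ne (hirr g) isIrrCharacter_one, mul_zero]
    intro heq
    refine hμ (funext fun n => ?_)
    have := congrFun heq ((e g).symm n)
    simpa using this
  have hsum1 : ∑ n, F n * conj ((μ : N → ℂ) n) = (Nat.card I : ℂ) * (Nat.card N : ℂ) := by
    simp only [F, Finset.sum_mul]
    rw [Finset.sum_comm]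
    have hg : ∀ g, ∑ n, (μ : N → ℂ) (e g n) * conj ((μ : N → ℂ) n) =
        if g ∈ I then (Nat.card N : ℂ) else 0 := by
      intro g
      have := card_mul_classInner (fun n => (μ : N → ℂ) (e g n)) (μ : N → ℂ)
      rw [← this]
      split_ifs with hgI
      · rw [show (fun n => (μ : N → ℂ) (e g n)) = (μ : N → ℂ) from funext hgI,
          classInner_irr_self μ.2, mul_one]
      · rw [classInner_irr_ne (hirr g) μ.2 (fun heq => hgI (fun n => congrFun heq n)), mul_zero]
    simp_rw [hg]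
    rw [← Finset.sum_filter, Finset.sum_const, nsmul_eq_mul, Nat.card_eq_fintype_card (α := I),
      Fintype.card_subtype]
  have hμ0 : ∑ n, conj ((μ : N → ℂ) n) = 0 := by
    have := card_mul_classInner (fun _ : N => (1 : ℂ)) (μ : N → ℂ)
    simp only [one_mul] at this
    rw [← this, classInner_irr_ne isIrrCharacter_one μ.2 (fun e' => hμ e'.symm), mul_zero]
  have hsplit : ∀ φ : N → ℂ, ∑ n, F n * φ n =
      ((Nat.card G : ℂ) - F ⟨k, hk⟩) * φ 1 + F ⟨k, hk⟩ * ∑ n, φ n := by
    intro φ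
    have e1 : ∀ n, F n * φ n =
        (if n = 1 then ((Nat.card G : ℂ) - F ⟨k, hk⟩) * φ 1 else 0) + F ⟨k, hk⟩ * φ n := by
      intro n
      by_cases hn : n = 1
      · subst hn; rw [if_pos rfl, hF1]; ring
      · rw [if_neg hn, hFk n hn, zero_add]
    simp_rw [e1, Finset.sum_add_distrib, Finset.sum_ite_eq', Finset.mem_univ, if_true,
      ← Finset.mul_sum]
  have h0 := hsplit (fun _ => 1)
  simp only [mul_one, Finset.sum_const, Finset.card_univ, nsmul_eq_mul, hsum0,
    ← Nat.card_eq_fintype_card] at h0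
  have h1 := hsplit (fun n => conj ((μ : N → ℂ) n))
  simp only [hμ1, map_one, mul_one, hμ0, mul_zero, add_zero, hsum1] at h1
  have hkey : Nat.card I * (Subgroup.centralizer ({k} : Set G)).index = Nat.card G := by
    have hidx := GagolaGroup.index_centralizer h hk hk1
    have hNC : (Nat.card N : ℂ) = ((Subgroup.centralizer ({k} : Set G)).index : ℂ) + 1 := by
      rw [← hidx, Nat.cast_add, Nat.cast_one]
    have hne : (Nat.card N : ℂ) ≠ 0 := Nat.cast_ne_zero.mpr Nat.card_pos.ne'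
    have h2 : ((Nat.card I : ℂ) * ((Subgroup.centralizer ({k} : Set G)).index : ℂ)) *
        (Nat.card N : ℂ) = (Nat.card G : ℂ) * (Nat.card N : ℂ) := by
      rw [hNC] at h0 h1 ⊢
      linear_combination ((Subgroup.centralizer ({k} : Set G)).index : ℂ) * h1 + h0
    exact_mod_cast mul_right_cancel₀ hne h2
  have hcard : Nat.card I = Nat.card (Subgroup.centralizer ({k} : Set G)) := by
    apply Nat.eq_of_mul_eq_mul_right (m := (Subgroup.centralizer ({k} : Set G)).index)
      (Nat.pos_of_ne_zero Subgroup.index_ne_zero_of_finite)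
    rw [hkey, Subgroup.card_mul_index]
  obtain ⟨P, hP⟩ := GagolaGroup.exists_sylow_centralizer h hk hk1
  refine ⟨Sylow.ofCard I ?_, hI⟩
  rw [hcard, hP]
  exact P.card_eq_multiplicity

end Cfsg.Agent.GagolaChar
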