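import Mathlib
import Cfsg.Agent.Lib.CharExtension
import Cfsg.Agent.Lib.CharExtensionCrit
import Cfsg.Agent.Lib.CharGallagher
import Cfsg.Agent.Lib.CharKernel
import Cfsg.Agent.Lib.CharInducedClifford
import Cfsg.Agent.Lib.GaloisChar80
import Cfsg.Agent.Lib.RealChars
import Cfsg.Agent.S0161

/-!
# Characters fixed by an inverting field automorphism over a normal subgroup of odd index

* `parity`, `existsUnique_fixed` : the fixed character over a fixed character.
* `fixed_ext_of_invariant` : it extends an invariant one.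
-/

set_option autoImplicit false
set_option linter.unusedSectionVars false

open scoped ComplexConjugate

namespace Cfsg.Agent.GaloisFixedOdd

open Cfsg Cfsg.Agent.CharBasic Cfsg.Agent.CharBasicOrth Cfsg.Agent.CharBasicDecomp

universe u

variable {G : Type u} [Group G]

/-- The exponent gives an automorphism of two-power order inverting the odd roots. -/
structure Exp (G : Type u) [Group G] (k e : ℕ) : Prop where
  cop : k.Coprime (Nat.card G)
  per : k ^ (2 ^ e) ≡ 1 [MOD Nat.card G]
  inv : ∀ g : G, Odd (orderOf g) → g ^ k = g⁻¹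

/-- Fixed by the power map. -/
def Fix (k : ℕ) (χ : G → ℂ) : Prop := ∀ g, χ (g ^ k) = χ g

variable {k e : ℕ}

theorem Exp.sub [Finite G] (h : Exp G k e) (H : Subgroup G) : Exp H k e where
  cop := h.cop.coprime_dvd_right (Subgroup.card_subgroup_dvd_card H)
  per := h.per.of_dvd (Subgroup.card_subgroup_dvd_card H)
  inv g hg := Subtype.ext (by
    rw [Subgroup.coe_pow, Subgroup.coe_inv]
    exact h.inv g (by rwa [Subgroup.orderOf_coe]))

theorem Exp.inner_twist [Fintype G] (h : Exp G k e) (a b : G → ℂ) :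
    classInner (fun g => a (g ^ k)) (fun g => b (g ^ k)) = classInner a b := by
  simp only [classInner]
  congr 1
  exact Equiv.sum_comp (GaloisChar80.powPerm h.cop) (fun g => a g * conj (b g))

theorem trivial_or_zero [Fintype G] (N : Subgroup G) [N.Normal] [Fintype N] (φ : IrrCharacter G) :
    classInner (fun n : N => (φ : G → ℂ) n) (fun _ => 1) ≠ 0 →
      (∀ n : N, (φ : G → ℂ) n = (φ : G → ℂ) 1) ∧
      classInner (fun n : N => (φ : G → ℂ) n) (fun _ => 1) = (φ : G → ℂ) 1 := by
  intro h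
  have h1 : ∀ n : N, (φ : G → ℂ) n = (φ : G → ℂ) 1 := (CharGallagher.mem_over_one_iff N φ.2).1 (by
    rw [CharInduced.inner_ind_left N _ (CharInduced.isClassFunction_irr φ.2),
      ← CharInduced.inner_conj_symm]
    simpa using h)
  refine ⟨h1, ?_⟩
  rw [classInner, Finset.sum_congr rfl (g := fun _ => (φ : G → ℂ) 1) (fun n _ => by simp [h1 n]),
    Finset.sum_const, Finset.card_univ, nsmul_eq_mul, ← Nat.card_eq_fintype_card,
    ← mul_assoc, inv_mul_cancel₀ (Nat.cast_ne_zero.2 Nat.card_pos.ne'), one_mul]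

/-- On characters trivial on a normal subgroup of odd index the power map is conjugation. -/
theorem twist_eq_conj [Fintype G] (h : Exp G k e) (N : Subgroup G) [N.Normal]
    (hodd : Odd N.index) (φ : IrrCharacter G) (hφ : ∀ n ∈ N, (φ : G → ℂ) n = (φ : G → ℂ) 1)
    (g : G) : (φ : G → ℂ) (g ^ k) = conj ((φ : G → ℂ) g) := by
  obtain ⟨ψ, hψ⟩ := CharKernel.exists_quot_irr N φ hφ
  have hqodd : Odd (Nat.card (G ⧸ N)) := by rwa [← Subgroup.index_eq_card]
  -- the odd part of `g`
  obtain ⟨a, m, hm, ha⟩ : ∃ a m : ℕ, Odd m ∧ orderOf g = 2 ^ a * m := by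
    refine ⟨(orderOf g).factorization 2, ordCompl[2] (orderOf g), ?_,
      (Nat.ordProj_mul_ordCompl_eq_self _ _).symm⟩
    rw [← Nat.not_even_iff_odd, even_iff_two_dvd]
    exact Nat.not_dvd_ordCompl Nat.prime_two (orderOf_pos g).ne'
  obtain ⟨x, hx⟩ : ∃ x, (g ^ 2 ^ a) ^ x = g ^ 2 ^ a ∧ ((g ^ x : G) : G ⧸ N) = g ∧
      Odd (orderOf (g ^ x)) := by
    -- `x ≡ 1` mod `m`, `x ≡ 0` mod `2 ^ a`
    obtain ⟨x, hx1, hx2⟩ := Nat.chineseRemainder
      (Nat.Coprime.pow_left a (Nat.coprime_two_left.2 hm)) 0 1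
    refine ⟨x, ?_, ?_, ?_⟩
    · rw [← pow_mul, pow_eq_pow_iff_modEq, ha]
      simpa using (hx2.mul_left' (2 ^ a))
    · rw [QuotientGroup.mk_pow]
      conv_rhs => rw [← pow_one (g : G ⧸ N)]
      rw [pow_eq_pow_iff_modEq]
      refine hx2.of_dvd ?_
      have h1 : orderOf (g : G ⧸ N) ∣ 2 ^ a * m :=
        ha ▸ orderOf_map_dvd (QuotientGroup.mk' N) g
      refine Nat.Coprime.dvd_of_dvd_mul_left ?_ h1
      exact ((Nat.coprime_two_left.2 (hqodd.of_dvd_nat (orderOf_dvd_natCard _))).pow_left a).symm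
    · refine hm.of_dvd_nat ?_
      rw [orderOf_dvd_iff_pow_eq_one, ← pow_mul]
      refine orderOf_dvd_iff_pow_eq_one.1 ?_
      rw [ha]
      exact mul_dvd_mul_right (Nat.modEq_zero_iff_dvd.1 hx1) m
  obtain ⟨-, hxg, hxo⟩ := hx
  rw [hψ, hψ, QuotientGroup.mk_pow, ← hxg, ← QuotientGroup.mk_pow, h.inv _ hxo, ← hψ, ← hψ,
    isCharacter_inv (isCharacter_of_isIrrCharacter φ.2)]

/-- Parity of the product of restrictions of two fixed characters. -/
theorem parity [Fintype G] (h : Exp G k e) (N : Subgroup G) [N.Normal] [Fintype N]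
    (hodd : Odd N.index) (χ χ' : IrrCharacter G) (hχ : Fix k (χ : G → ℂ))
    (hχ' : Fix k (χ' : G → ℂ)) {m : ℕ}
    (hm : classInner (fun n : N => (χ : G → ℂ) n) (fun n : N => (χ' : G → ℂ) n) = m) :
    (Odd m ↔ χ = χ') := by
  classical
  let ψ : G → ℂ := fun g => (χ : G → ℂ) g * conj ((χ' : G → ℂ) g)
  have hψ : IsCharacter G ψ := CharBasicDecomp.isCharacter_mul (isCharacter_of_isIrrCharacter χ.2)
    (isCharacter_conj (isCharacter_of_isIrrCharacter χ'.2))
  obtain ⟨c, hc, hsum⟩ := exists_mult hψ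
  choose b hb using fun φ : IrrCharacter G => classInner_isCharacter
    (CharInduced.isCharacter_res N (isCharacter_of_isIrrCharacter φ.2))
    (isCharacter_one (G := N))
  let one : IrrCharacter G := trivIrr G
  have hm' : m = ∑ φ, c φ * b φ := by
    have e1 : classInner (fun n : N => ψ n) (fun _ => 1) = (m : ℂ) := by
      rw [← hm]; simp [classInner, ψ]
    have e2 : (fun n : N => ψ n) = ∑ φ : IrrCharacter G, (c φ : ℂ) • fun n : N => (φ : G → ℂ) n :=
      funext fun n => by simpa [Finset.sum_apply] using congrFun hsum (n : G)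
    rw [e2, classInner_sum_left] at e1
    simp only [classInner_smul_left, hb] at e1
    exact_mod_cast e1.symm
  have hone : c one * b one = if χ = χ' then 1 else 0 := by
    have h1 : (b one : ℂ) = 1 := by
      rw [← hb one]
      exact classInner_irr_self (isIrrCharacter_one (G := N))
    have h2 : (c one : ℂ) = classInner (χ : G → ℂ) (χ' : G → ℂ) := by
      rw [← hc one]; simp [classInner, ψ, one, trivIrr]
    have h1' : b one = 1 := by exact_mod_cast h1
    rw [h1', mul_one]
    rw [classInner_irrCharacter] at h2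
    split at h2 <;> rename_i hh
    · rw [if_pos hh]; exact_mod_cast h2
    · rw [if_neg hh]; exact_mod_cast h2
  let S := Finset.univ.filter fun φ : IrrCharacter G => φ ≠ one ∧ b φ ≠ 0
  have hS : ∀ φ ∈ S, φ ≠ one ∧ ∀ n ∈ N, (φ : G → ℂ) n = (φ : G → ℂ) 1 := fun φ hφ => by
    obtain ⟨h1, h2⟩ := (Finset.mem_filter.1 hφ).2
    exact ⟨h1, fun n hn => (trivial_or_zero N φ (by rw [hb]; exact Nat.cast_ne_zero.2 h2)).1 ⟨n, hn⟩⟩
  have hzero : ∑ φ ∈ S, ((c φ * b φ : ℕ) : ZMod 2) = 0 := by
    refine Finset.sum_involution (fun φ _ => GaloisChar80.twist h.cop φ) (fun φ hφ => ?_)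
      (fun φ hφ _ => ?_) (fun φ hφ => ?_) (fun φ hφ => ?_)
    · have e1 : c (GaloisChar80.twist h.cop φ) = c φ := by
        have e := h.inner_twist ψ (φ : G → ℂ)
        rw [show (fun g => ψ (g ^ k)) = ψ from funext fun g => by simp [ψ, hχ g, hχ' g]] at e
        rw [hc φ] at e
        exact Nat.cast_injective (R := ℂ) ((hc (GaloisChar80.twist h.cop φ)).symm.trans e)
      have e2 : b (GaloisChar80.twist h.cop φ) = b φ := by
        have hn : ∀ n : N, (φ : G → ℂ) ((n : G) ^ k) = (φ : G → ℂ) n := fun n => by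
          rw [(hS φ hφ).2 _ n.2, (hS φ hφ).2 _ (N.pow_mem n.2 k)]
        have e : classInner (fun n : N => (GaloisChar80.twist h.cop φ : G → ℂ) n) (fun _ => 1) =
            (b φ : ℂ) := by
          rw [← hb φ]
          exact congrArg (classInner · _) (funext hn)
        exact Nat.cast_injective (R := ℂ) ((hb (GaloisChar80.twist h.cop φ)).symm.trans e)
      rw [e1, e2]
      exact CharTwo.add_self_eq_zero _
    · intro heq
      obtain ⟨ψ', hψ'⟩ := CharKernel.exists_quot_irr N φ (hS φ hφ).2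
      refine (hS φ hφ).1 (Subtype.ext (funext fun g => ?_))
      have h1 := Cfsg.Agent.S0161.result (G := G ⧸ N)
        (by rwa [← Subgroup.index_eq_card]) ψ' (fun q => by
          obtain ⟨x, rfl⟩ := QuotientGroup.mk_surjective q
          rw [← hψ', ← Complex.conj_eq_iff_im, ← twist_eq_conj h N hodd φ (hS φ hφ).2]
          exact congrFun (congrArg Subtype.val heq) x)
      show (φ : G → ℂ) g = 1
      rw [hψ', h1]
    · refine Finset.mem_filter.2 ⟨Finset.mem_univ _, ?_, ?_⟩
      · intro heq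
        have h1 : GaloisChar80.twist h.cop one = one := Subtype.ext (funext fun _ => rfl)
        exact (hS φ hφ).1 (GaloisChar80.twist_injective h.cop (heq.trans h1.symm))
      · intro h0
        have hn : ∀ n : N, (φ : G → ℂ) ((n : G) ^ k) = (φ : G → ℂ) n := fun n => by
          rw [(hS φ hφ).2 _ n.2, (hS φ hφ).2 _ (N.pow_mem n.2 k)]
        have e : classInner (fun n : N => (GaloisChar80.twist h.cop φ : G → ℂ) n) (fun _ => 1) =
            (b φ : ℂ) := by
          rw [← hb φ]
          exact congrArg (classInner · _) (funext hn)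
        rw [hb (GaloisChar80.twist h.cop φ), h0] at e
        exact (Finset.mem_filter.1 hφ).2.2 (Nat.cast_injective (R := ℂ) e.symm)
    · refine Subtype.ext (funext fun g => ?_)
      show (φ : G → ℂ) ((g ^ k) ^ k) = (φ : G → ℂ) g
      rw [twist_eq_conj h N hodd φ (hS φ hφ).2, twist_eq_conj h N hodd φ (hS φ hφ).2,
        Complex.conj_conj]
  have hrest : ∑ φ ∈ Finset.univ.erase one, ((c φ * b φ : ℕ) : ZMod 2) = 0 := by
    rw [← hzero]
    refine (Finset.sum_subset (fun φ hφ => Finset.mem_erase.2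
      ⟨(Finset.mem_filter.1 hφ).2.1, Finset.mem_univ _⟩) fun φ hφ hn => ?_).symm
    have : b φ = 0 := by
      by_contra hb0
      exact hn (Finset.mem_filter.2 ⟨Finset.mem_univ _, (Finset.mem_erase.1 hφ).1, hb0⟩)
    rw [this, mul_zero, Nat.cast_zero]
  rw [← ZMod.natCast_eq_one_iff_odd, hm', Nat.cast_sum,
    ← Finset.add_sum_erase _ _ (Finset.mem_univ one), hrest, add_zero, hone]
  split <;> simp [*]

/-- The multiplicities over a fixed character. -/
theorem parity_over [Fintype G] (h : Exp G k e) (N : Subgroup G) [N.Normal] [Fintype N]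
    (hodd : Odd N.index) (θ : IrrCharacter N) (χ χ' : IrrCharacter G) (hχ : Fix k (χ : G → ℂ))
    (hχ' : Fix k (χ' : G → ℂ))
    (h1 : classInner (fun n : N => (χ : G → ℂ) n) (θ : N → ℂ) ≠ 0)
    (h2 : classInner (fun n : N => (χ' : G → ℂ) n) (θ : N → ℂ) ≠ 0) :
    χ = χ' := by
  classical
  have key : ∀ x y : IrrCharacter G, ∀ a b : ℕ,
      classInner (fun n : N => (x : G → ℂ) n) (θ : N → ℂ) = a → a ≠ 0 →
      classInner (fun n : N => (y : G → ℂ) n) (θ : N → ℂ) = b → b ≠ 0 →
      classInner (fun n : N => (x : G → ℂ) n) (fun n : N => (y : G → ℂ) n) =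
        ((a * b * (CharInduced.orbitFin N (θ : N → ℂ)).card : ℕ) : ℂ) := by
    intro x y a b ha ha0 hb hb0
    have hcl := CharInduced.clifford N y.2 θ.2 (by rw [hb]; exact Nat.cast_ne_zero.2 hb0)
    rw [hb] at hcl
    conv_lhs => rw [hcl]
    rw [classInner_smul_right, classInner_sum_right, Finset.sum_congr rfl (g := fun _ => (a : ℂ))]
    · rw [Finset.sum_const, nsmul_eq_mul, map_natCast]
      push_cast
      ring
    · intro f hf
      obtain ⟨g, rfl⟩ := (CharInduced.mem_orbitFin N).1 hf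
      rw [CharInduced.classInner_res_conjFun N (CharInduced.isClassFunction_irr x.2), ha]
  obtain ⟨a, ha⟩ := classInner_isCharacter
    (CharInduced.isCharacter_res N (isCharacter_of_isIrrCharacter χ.2))
    (isCharacter_of_isIrrCharacter θ.2)
  obtain ⟨b, hb⟩ := classInner_isCharacter
    (CharInduced.isCharacter_res N (isCharacter_of_isIrrCharacter χ'.2))
    (isCharacter_of_isIrrCharacter θ.2)
  have ha0 : a ≠ 0 := fun h0 => h1 (by rw [ha, h0, Nat.cast_zero])
  have hb0 : b ≠ 0 := fun h0 => h2 (by rw [hb, h0, Nat.cast_zero])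
  have p1 := (parity h N hodd χ χ hχ hχ (key χ χ a a ha ha0 ha ha0)).2 rfl
  have p2 := (parity h N hodd χ' χ' hχ' hχ' (key χ' χ' b b hb hb0 hb hb0)).2 rfl
  rw [Nat.odd_mul, Nat.odd_mul] at p1 p2
  exact (parity h N hodd χ χ' hχ hχ' (key χ χ' a b ha ha0 hb hb0)).1
    (Nat.odd_mul.2 ⟨Nat.odd_mul.2 ⟨p1.1.1, p2.1.1⟩, p1.2⟩)

theorem twist_pow_apply [Fintype G] (h : Exp G k e) {X : Type*} (f : Equiv.Perm X)
    (v : X → G → ℂ) (hf : ∀ x g, v (f x) g = v x (g ^ k)) (j : ℕ) (x : X) (g : G) :
    v ((f ^ j) x) g = v x (g ^ k ^ j) := by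
  induction j generalizing x with
  | zero => simp
  | succ j ih =>
    rw [pow_succ f, Equiv.Perm.mul_apply, ih, hf, ← pow_mul, ← pow_succ]

/-- A fixed point of the twist on a set of characters of odd size. -/
theorem exists_fixed [Fintype G] (h : Exp G k e) (P : IrrCharacter G → Prop)
    (hP : ∀ χ, P χ → P (GaloisChar80.twist h.cop χ))
    (hodd : Odd (Nat.card {χ // P χ})) : ∃ χ : IrrCharacter G, P χ ∧ Fix k (χ : G → ℂ) := by
  classical
  haveI := finite_irrCharacter (G := G)
  let f₀ : {χ // P χ} → {χ // P χ} := fun χ => ⟨GaloisChar80.twist h.cop χ.1, hP χ.1 χ.2⟩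
  let f : Equiv.Perm {χ // P χ} := Equiv.ofBijective f₀ (Finite.injective_iff_bijective.1
    fun x y hxy => Subtype.ext (GaloisChar80.twist_injective h.cop (congrArg Subtype.val hxy)))
  have hper : f ^ 2 ^ e = 1 := by
    refine Equiv.ext fun x => Subtype.ext (Subtype.ext (funext fun g => ?_))
    rw [twist_pow_apply h f (fun x g => ((x.1 : IrrCharacter G) : G → ℂ) g) (fun _ _ => rfl)]
    refine congrArg (x.1 : G → ℂ) ?_
    conv_rhs => rw [← pow_one g]
    rw [pow_eq_pow_iff_modEq]
    exact h.per.of_dvd (orderOf_dvd_natCard g)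
  obtain ⟨x, hx⟩ := RealChars.exists_fixed_of_two_power hodd f hper
  exact ⟨x.1, x.2, fun g => congrFun (congrArg Subtype.val (congrArg Subtype.val hx :)) g⟩

/-- Some fixed character lies over a fixed character. -/
theorem exists_fixed_over [Fintype G] (h : Exp G k e) (N : Subgroup G) [N.Normal] [Fintype N]
    (hodd : Odd N.index) (θ : IrrCharacter N) (hθ : Fix k (θ : N → ℂ)) :
    ∃ χ : IrrCharacter G, classInner (fun n : N => (χ : G → ℂ) n) (θ : N → ℂ) ≠ 0 ∧
      Fix k (χ : G → ℂ) := by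
  classical
  haveI := finite_irrCharacter (G := G)
  choose w hw using fun φ : IrrCharacter G => classInner_isCharacter
    (CharInduced.isCharacter_res N (isCharacter_of_isIrrCharacter φ.2))
    (isCharacter_of_isIrrCharacter θ.2)
  have htw : ∀ φ, w (GaloisChar80.twist h.cop φ) = w φ := fun φ => by
    have e := (h.sub N).inner_twist (fun n : N => (φ : G → ℂ) n) (θ : N → ℂ)
    rw [show (fun n : N => (θ : N → ℂ) (n ^ k)) = (θ : N → ℂ) from funext hθ] at e
    rw [hw φ] at e
    exact Nat.cast_injective (R := ℂ) ((hw (GaloisChar80.twist h.cop φ)).symm.trans e)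
  have hsum : Odd (∑ φ, w φ * w φ) := by
    have e1 := CharInduced.classInner_ind_self N θ.2
    rw [classInner_eq_sum (CharInduced.isClassFunction_ind N _)] at e1
    have e2 : ∀ φ : IrrCharacter G,
        classInner (indFun N (θ : N → ℂ)) (φ : G → ℂ) = (w φ : ℂ) := fun φ => by
      rw [CharInduced.inner_ind_left N _ (CharInduced.isClassFunction_irr φ.2),
        ← CharInduced.inner_conj_symm, hw, map_natCast]
    simp only [e2, map_natCast] at e1
    have hT := Subgroup.relIndex_mul_index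
      (CharInduced.le_inertia N (CharInduced.isClassFunction_irr θ.2))
    have hN := Subgroup.card_mul_index (N.subgroupOf (CharInduced.inertia N (θ : N → ℂ)))
    rw [Nat.card_congr (Subgroup.subgroupOfEquivOfLe
      (CharInduced.le_inertia N (CharInduced.isClassFunction_irr θ.2))).toEquiv] at hN
    have e3 : (∑ φ, w φ * w φ) = N.relIndex (CharInduced.inertia N (θ : N → ℂ)) := by
      have : ((∑ φ, w φ * w φ : ℕ) : ℂ) =
          (N.relIndex (CharInduced.inertia N (θ : N → ℂ)) : ℂ) := by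
        push_cast
        rw [e1, Subgroup.relIndex, ← hN, Nat.cast_mul,
          mul_div_cancel_left₀ _ (Nat.cast_ne_zero.2 Nat.card_pos.ne')]
      exact_mod_cast this
    rw [e3]
    exact hodd.of_dvd_nat ⟨_, hT.symm⟩
  have hX : Odd (Nat.card {φ : IrrCharacter G // Odd (w φ)}) := by
    rw [Nat.card_eq_fintype_card, Fintype.card_subtype]
    rw [Finset.odd_sum_iff_odd_card_odd] at hsum
    simpa [Nat.odd_mul] using hsum
  obtain ⟨χ, hχ, hfix⟩ := exists_fixed h (fun φ => Odd (w φ))
    (fun φ hφ => by rwa [htw]) hX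
  exact ⟨χ, by rw [hw]; exact Nat.cast_ne_zero.2 hχ.pos.ne', hfix⟩

/-- If some extension exists, a fixed one does. -/
theorem exists_fixed_ext [Fintype G] (h : Exp G k e) (N : Subgroup G) [N.Normal] [Fintype N]
    (hodd : Odd N.index) (θ : IrrCharacter N) (hθ : Fix k (θ : N → ℂ)) {χ : G → ℂ}
    (hχ : IsIrrCharacter G χ) (hext : ∀ n : N, χ n = (θ : N → ℂ) n) :
    ∃ η : IrrCharacter G, (∀ n : N, (η : G → ℂ) n = (θ : N → ℂ) n) ∧ Fix k (η : G → ℂ) := by
  classical
  haveI := finite_irrCharacter (G := G)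
  have hb := CharGallagher.bijOn_one N θ.2 hχ hext
  let L := (G ⧸ N) →* ℂˣ
  let lam : L → G → ℂ := fun l g => (l (g : G ⧸ N) : ℂ)
  have hlam : ∀ l, lam l ∈ {β : G → ℂ | IsIrrCharacter G β ∧ ∀ n : N, β n = β 1} := fun l =>
    ⟨isIrrCharacter_linear (l.comp (QuotientGroup.mk' N)), fun n => by
      simp [lam, (QuotientGroup.eq_one_iff (n : G)).2 n.2]⟩
  let X := {η : IrrCharacter G // ∀ n : N, (η : G → ℂ) n = (θ : N → ℂ) n}
  have hlift : ∀ l : L, IsIrrCharacter G (lam l * χ) := fun l => (hb.mapsTo (hlam l)).1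
  let F : L → X := fun l => ⟨⟨lam l * χ, hlift l⟩, fun n => by
    simp [lam, (QuotientGroup.eq_one_iff (n : G)).2 n.2, hext]⟩
  have hF : Function.Bijective F := by
    refine ⟨fun l l' e => ?_, fun η => ?_⟩
    · have e' := hb.injOn (hlam l) (hlam l') (congrArg Subtype.val (congrArg Subtype.val e :))
      refine MonoidHom.ext fun q => Units.ext ?_
      obtain ⟨g, rfl⟩ := QuotientGroup.mk_surjective q
      exact congrFun e' g
    · obtain ⟨β, ⟨hβ, hβ1⟩, e⟩ := hb.surjOn
        (show (η.1 : G → ℂ) ∈ {ψ : G → ℂ | IsIrrCharacter G ψ ∧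
            classInner (fun n : N => ψ n) (θ : N → ℂ) ≠ 0} from ⟨η.1.2, by
          rw [show (fun n : N => (η.1 : G → ℂ) n) = (θ : N → ℂ) from funext η.2,
            classInner_irr_self θ.2]
          exact one_ne_zero⟩)
      have h1 : β 1 = 1 := by
        have e1 : (β * χ) 1 = (η.1 : G → ℂ) 1 := congrFun e 1
        have e2 : (η.1 : G → ℂ) 1 = χ 1 := by
          rw [show (1 : G) = ((1 : N) : G) from rfl, η.2, hext]
        rw [Pi.mul_apply, e2] at e1
        exact (mul_eq_right₀ (isIrrCharacter_apply_one_ne_zero hχ)).1 e1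
      obtain ⟨l, hl⟩ := CharExtension.exists_linHom (isCharacter_of_isIrrCharacter hβ) h1
      refine ⟨QuotientGroup.lift N l (fun n hn => Units.ext ?_), ?_⟩
      · have := hβ1 ⟨n, hn⟩
        rw [congrFun hl n, h1] at this
        simpa using this
      · refine Subtype.ext (Subtype.ext ?_)
        show lam _ * χ = (η.1 : G → ℂ)
        rw [← e]
        funext g
        show _ * χ g = β g * χ g
        rw [congrFun hl g]
        rfl
  haveI : Finite L := Finite.of_injective F hF.1
  have hL : Odd (Nat.card L) := by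
    by_contra hev
    rw [Nat.not_odd_iff_even, even_iff_two_dvd] at hev
    haveI : Fact (Nat.Prime 2) := ⟨Nat.prime_two⟩
    obtain ⟨l, hl⟩ := exists_prime_orderOf_dvd_card' 2 hev
    have h1 : orderOf l ∣ Nat.card (G ⧸ N) := orderOf_dvd_of_pow_eq_one (MonoidHom.ext fun q => by
      rw [MonoidHom.pow_apply, ← map_pow, pow_card_eq_one', map_one]; rfl)
    rw [hl, ← Subgroup.index_eq_card] at h1
    exact Nat.not_even_iff_odd.2 hodd (even_iff_two_dvd.2 h1)
  refine exists_fixed h (fun η => ∀ n : N, (η : G → ℂ) n = (θ : N → ℂ) n) (fun η hη n => ?_)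
    (by rwa [← Nat.card_congr (Equiv.ofBijective F hF)])
  show (η : G → ℂ) ((n : G) ^ k) = _
  rw [← Subgroup.coe_pow, hη, hθ]

/-- Extension along a p-power index. -/
theorem fixed_ext_prime_power (p : ℕ) [hp : Fact p.Prime] (m : ℕ) :
    ∀ {G : Type u} [Group G] [Fintype G], Exp G k e → ∀ (N : Subgroup G) [N.Normal] [Fintype N],
      Odd N.index → N.index = p ^ m → ∀ θ : IrrCharacter N, Fix k (θ : N → ℂ) →
      (∀ (g : G) (n : N), (θ : N → ℂ)
        ⟨g * n * g⁻¹, Subgroup.Normal.conj_mem (H := N) inferInstance n n.2 g⟩ =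
        (θ : N → ℂ) n) →
      ∃ η : IrrCharacter G, (∀ n : N, (η : G → ℂ) n = (θ : N → ℂ) n) ∧ Fix k (η : G → ℂ) := by
  induction m with
  | zero =>
    intro G _ _ h N _ _ hodd hidx θ hθ _
    rw [pow_zero, Subgroup.index_eq_one] at hidx
    let f : G →* N := (MonoidHom.id G).codRestrict N fun g => hidx ▸ Subgroup.mem_top g
    refine ⟨⟨(θ : N → ℂ) ∘ f, isIrrCharacter_comap f (fun n => ⟨(n : G), Subtype.ext rfl⟩) θ.2⟩,
      fun n => congrArg (θ : N → ℂ) (Subtype.ext rfl), fun g => ?_⟩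
    show (θ : N → ℂ) (f (g ^ k)) = (θ : N → ℂ) (f g)
    rw [map_pow, hθ]
  | succ m ih =>
    intro G _ _ h N _ _ hodd hidx θ hθ hinv
    classical
    have hQ : IsPGroup p (G ⧸ N) := IsPGroup.of_card (n := m + 1) (by
      rw [← Subgroup.index_eq_card]; exact hidx)
    obtain ⟨K, hK⟩ := Sylow.exists_subgroup_card_pow_prime p (G := G ⧸ N) (n := m) (by
      rw [← Subgroup.index_eq_card, hidx]; exact pow_dvd_pow p (Nat.le_succ m))
    have hKi : K.index = p := by
      have := K.card_mul_index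
      rw [hK, ← Subgroup.index_eq_card, hidx, pow_succ] at this
      exact Nat.eq_of_mul_eq_mul_left (pow_pos hp.out.pos m) this
    haveI : K.Normal := by
      refine Subgroup.normal_of_index_eq_minFac_card (hKi.trans ?_)
      rw [← Subgroup.index_eq_card, hidx, Nat.Prime.pow_minFac hp.out (Nat.succ_ne_zero m)]
    let M : Subgroup G := K.comap (QuotientGroup.mk' N)
    haveI : M.Normal := Subgroup.Normal.comap ‹K.Normal› _
    have hNM : N ≤ M := fun n hn => by
      show ((n : G) : G ⧸ N) ∈ K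
      rw [(QuotientGroup.eq_one_iff n).2 hn]; exact K.one_mem
    have hMi : M.index = p := by
      rw [Subgroup.index_comap_of_surjective _ (QuotientGroup.mk'_surjective N), hKi]
    have hNMi : (N.subgroupOf M).index = p ^ m := by
      have := Subgroup.relIndex_mul_index hNM
      rw [hMi, hidx, pow_succ] at this
      exact Nat.eq_of_mul_eq_mul_right hp.out.pos this
    haveI := Fintype.ofFinite (N.subgroupOf M)
    let eN := Subgroup.subgroupOfEquivOfLe hNM
    let θM : IrrCharacter (N.subgroupOf M) :=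
      ⟨(θ : N → ℂ) ∘ eN.toMonoidHom, isIrrCharacter_comap _ eN.surjective θ.2⟩
    have hoddM : Odd M.index := hodd.of_dvd_nat (Subgroup.index_dvd_of_le hNM)
    have hoddNM : Odd (N.subgroupOf M).index := hodd.of_dvd_nat
      ⟨_, (Subgroup.relIndex_mul_index hNM).symm⟩
    obtain ⟨η, hη, hηfix⟩ := ih (h.sub M) (N.subgroupOf M) hoddNM hNMi θM
      (fun n => by show (θ : N → ℂ) (eN (n ^ k)) = (θ : N → ℂ) (eN n); rw [map_pow, hθ])
      (fun g n => hinv (g : G) (eN n))
    -- invariance of the extension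
    have hηinv : ∀ (g : G) (x : M),
        (η : M → ℂ) ⟨g * x * g⁻¹, Subgroup.Normal.conj_mem ‹M.Normal› x x.2 g⟩ = (η : M → ℂ) x := by
      intro g x
      let η' : IrrCharacter M :=
        ⟨CharInduced.conjFun M (η : M → ℂ) g, CharInduced.isIrrCharacter_conjFun M η.2 g⟩
      have hover : ∀ ξ : IrrCharacter M,
          (∀ n : N.subgroupOf M, (ξ : M → ℂ) n = (θM : _ → ℂ) n) →
          classInner (fun n : N.subgroupOf M => (ξ : M → ℂ) n) (θM : _ → ℂ) ≠ 0 := fun ξ hξ => by
        rw [show (fun n : N.subgroupOf M => (ξ : M → ℂ) n) = (θM : _ → ℂ) from funext hξ,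
          classInner_irr_self θM.2]
        exact one_ne_zero
      have e1 : η' = η := parity_over (h.sub M) (N.subgroupOf M) hoddNM θM η' η (fun y => by
          show (η : M → ℂ) _ = (η : M → ℂ) _
          rw [← hηfix ⟨g * (y : G) * g⁻¹, _⟩]
          exact congrArg (η : M → ℂ) (Subtype.ext (by simp [conj_pow])))
        hηfix (hover η' fun n => by
          let n' : N.subgroupOf M := ⟨⟨g * ((n : M) : G) * g⁻¹,
            Subgroup.Normal.conj_mem ‹M.Normal› _ (n : M).2 g⟩,
            Subgroup.Normal.conj_mem ‹N.Normal› _ n.2 g⟩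
          exact (hη n').trans (hinv g (eN n))) (hover η hη)
      exact congrFun (congrArg Subtype.val e1) x
    obtain ⟨d, ρ, hd, -, hch, S, hi, hirr⟩ := CharExtension.exists_setup η.2 hηinv
    obtain ⟨σ, hσ⟩ := CharExtension.exists_ext_cyclic S hi
      (fun k a hk => CharExtension.exists_root k a hk)
      (isCyclic_of_prime_card (p := p) (by rw [← Subgroup.index_eq_card, hMi]))
    obtain ⟨hc1, hc2⟩ := CharExtension.ext_to_char_top hirr σ hσ
    refine exists_fixed_ext h N hodd θ hθ hc1 fun n => ?_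
    exact ((hc2 ⟨(n : G), hNM n.2⟩).trans (congrFun hch _)).trans (hη ⟨⟨(n : G), hNM n.2⟩, n.2⟩)

/-- An invariant fixed character has a fixed extension. -/
theorem fixed_ext_of_invariant [Fintype G] (h : Exp G k e) (N : Subgroup G) [N.Normal] [Fintype N]
    (hodd : Odd N.index) (θ : IrrCharacter N) (hθ : Fix k (θ : N → ℂ))
    (hinv : ∀ (g : G) (n : N), (θ : N → ℂ)
      ⟨g * n * g⁻¹, Subgroup.Normal.conj_mem (H := N) inferInstance n n.2 g⟩ =
      (θ : N → ℂ) n) :
    ∃ η : IrrCharacter G, (∀ n : N, (η : G → ℂ) n = (θ : N → ℂ) n) ∧ Fix k (η : G → ℂ) := by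
  classical
  obtain ⟨d, ρ, hd, -, hch, S, hi, hirr⟩ := CharExtension.exists_setup θ.2 hinv
  obtain ⟨σ, hσ⟩ := CharExtension.exists_ext_of_forall_prime S hi fun p hp => by
    haveI : Fact p.Prime := ⟨hp⟩
    obtain ⟨R⟩ : Nonempty (Sylow p (G ⧸ N)) := inferInstance
    let P : Subgroup G := (R : Subgroup (G ⧸ N)).comap (QuotientGroup.mk' N)
    have hNP : N ≤ P := fun n hn => by
      show ((n : G) : G ⧸ N) ∈ (R : Subgroup (G ⧸ N))
      rw [(QuotientGroup.eq_one_iff n).2 hn]; exact Subgroup.one_mem _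
    have hPi : P.index = (R : Subgroup (G ⧸ N)).index :=
      Subgroup.index_comap_of_surjective _ (QuotientGroup.mk'_surjective N)
    obtain ⟨m, hm⟩ : ∃ m, (N.subgroupOf P).index = p ^ m := by
      obtain ⟨m, hm⟩ := IsPGroup.iff_card.1 R.isPGroup'
      refine ⟨m, ?_⟩
      have h1 := Subgroup.relIndex_mul_index hNP
      have h2 := (R : Subgroup (G ⧸ N)).card_mul_index
      rw [hm, ← Subgroup.index_eq_card] at h2
      rw [hPi, ← h2] at h1
      exact Nat.eq_of_mul_eq_mul_right (Nat.pos_of_ne_zero Subgroup.index_ne_zero_of_finite) h1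
    haveI := Fintype.ofFinite (N.subgroupOf P)
    let eN := Subgroup.subgroupOfEquivOfLe hNP
    let θP : IrrCharacter (N.subgroupOf P) :=
      ⟨(θ : N → ℂ) ∘ eN.toMonoidHom, isIrrCharacter_comap _ eN.surjective θ.2⟩
    obtain ⟨η, hη, -⟩ := fixed_ext_prime_power p m (h.sub P) (N.subgroupOf P)
      (hodd.of_dvd_nat ⟨_, (Subgroup.relIndex_mul_index hNP).symm⟩) hm θP
      (fun n => by show (θ : N → ℂ) (eN (n ^ k)) = (θ : N → ℂ) (eN n); rw [map_pow, hθ])
      (fun g n => hinv (g : G) (eN n))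
    obtain ⟨τ, -, hτ⟩ := CharExtension.char_to_ext (Subgroup.inclusion hNP) ρ
      (isCharacter_of_isIrrCharacter η.2)
      (fun n => (hη ⟨⟨(n : G), hNP n.2⟩, n.2⟩).trans (congrFun hch n).symm)
    refine ⟨P, hNP, τ, ?_, fun n => hτ n⟩
    rw [hPi]
    exact (hp.coprime_iff_not_dvd.2 R.not_dvd_index).symm
  obtain ⟨hc1, hc2⟩ := CharExtension.ext_to_char_top hirr σ hσ
  exact exists_fixed_ext h N hodd θ hθ hc1 fun n => (hc2 n).trans (congrFun hch n)

end Cfsg.Agent.GaloisFixedOdd
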