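import Mathlib
import Cfsg.Prelude.Def_Characters
import Cfsg.Prelude.Def_Solvable
import Cfsg.Agent.Lib.GaloisChar80
import Cfsg.Agent.Lib.ComponentsFitting

/-!
A faithful irreducible character whose product with a Galois conjugate is irreducible:
no noncentral abelian normal subgroup, and no noncentral normal subgroup of class two.
-/

set_option autoImplicit false

open scoped ComplexConjugate

namespace Cfsg.Agent.GaloisProduct71

open Cfsg Cfsg.Agent.CharBasic Cfsg.Agent.CharBasicDecomp Cfsg.Agent.CharBasicOrth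

variable {G : Type*} [Group G] {V : Type*} [AddCommGroup V] [Module ℂ V] [FiniteDimensional ℂ V]

/-- A family permuted up to scalars by conjugation contradicts irreducibility of the product. -/
theorem no_family [Fintype G] (ρ : Representation ℂ G V) [ρ.IsIrreducible] {k : ℕ}
    (hk : k.Coprime (Nat.card G))
    (h1 : classInner (fun g => ρ.character g * ρ.character (g ^ k))
      (fun g => ρ.character g * ρ.character (g ^ k)) = 1)
    {X : Type*} [Fintype X] [DecidableEq X] (w : X → Module.End ℂ V)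
    (hli : LinearIndependent ℂ w)
    (hid : (LinearMap.id : Module.End ℂ V) ∈ Submodule.span ℂ (Set.range w))
    (hX : 2 ≤ Fintype.card X) (π : G → X → X) (ε : G → X → ℂ)
    (hact : ∀ g x, Representation.linHom ρ ρ g (w x) = ε g x • w (π g x))
    (hsum : ∀ g, (∑ x, if π (g ^ k) x = x then ε (g ^ k) x else 0) =
      ∑ x, if π g x = x then ε g x else 0) : False := by
  classical
  let T := Representation.linHom ρ ρ
  let U : Subrepresentation T := ⟨Submodule.span ℂ (Set.range w), fun g v hv => by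
    have hle : Submodule.span ℂ (Set.range w) ≤ (Submodule.span ℂ (Set.range w)).comap (T g) := by
      rw [Submodule.span_le]
      rintro _ ⟨x, rfl⟩
      show T g (w x) ∈ Submodule.span ℂ (Set.range w)
      rw [hact g x]
      exact Submodule.smul_mem _ _ (Submodule.subset_span ⟨_, rfl⟩)
    exact hle hv⟩
  obtain ⟨U', hU⟩ := CharBasic.exists_isCompl U
  let b : Module.Basis X ℂ U.toSubmodule := Module.Basis.span hli
  have hb : ∀ g x, U.toRepresentation g (b x) = ε g x • b (π g x) := fun g x => by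
    apply Subtype.ext
    show T g (b x : Module.End ℂ V) = ε g x • (b (π g x) : Module.End ℂ V)
    rw [Module.Basis.span_apply, Module.Basis.span_apply]
    exact hact g x
  let φ := U.toRepresentation.character
  let φ' := U'.toRepresentation.character
  have hφ : ∀ g, φ g = ∑ x, if π g x = x then ε g x else 0 := fun g => by
    show LinearMap.trace ℂ _ (U.toRepresentation g) = _
    rw [LinearMap.trace_eq_matrix_trace ℂ b, Matrix.trace]
    refine Finset.sum_congr rfl fun x _ => ?_
    rw [Matrix.diag_apply, LinearMap.toMatrix_apply, hb, map_smul, Finsupp.smul_apply,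
      Module.Basis.repr_self, Finsupp.single_apply, smul_eq_mul]
    simp
  have hφk : ∀ g, φ (g ^ k) = φ g := fun g => by rw [hφ, hφ]; exact hsum g
  have hφ1 : φ 1 = (Fintype.card X : ℂ) := by
    show U.toRepresentation.character 1 = _
    rw [Representation.char_one, Module.finrank_eq_card_basis b]
  have hf : ∀ g, ρ.character g * conj (ρ.character g) = φ g + φ' g := fun g => by
    have h := congrFun (character_of_isCompl U U' hU) g
    rw [Representation.char_linHom, character_inv, mul_comm] at h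
    exact h
  have hcφ : IsCharacter G φ := isCharacter_of_rep _
  have hcφ' : IsCharacter G φ' := isCharacter_of_rep _
  obtain ⟨n, hn⟩ := classInner_isCharacter hcφ hcφ
  obtain ⟨a, ha⟩ := classInner_isCharacter hcφ (GaloisChar80.isCharacter_pow hk hcφ')
  obtain ⟨c, hc⟩ := classInner_isCharacter hcφ' hcφ
  obtain ⟨d, hd⟩ := classInner_isCharacter hcφ' (GaloisChar80.isCharacter_pow hk hcφ')
  have hkey : ((n + a + c + d : ℕ) : ℂ) = ((1 : ℕ) : ℂ) := by
    push_cast
    rw [← hn, ← ha, ← hc, ← hd, ← h1]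
    simp only [classInner, ← mul_add, ← Finset.sum_add_distrib]
    congr 1
    refine Finset.sum_congr rfl fun g _ => ?_
    have e1 := hf g
    have e2 : ρ.character (g ^ k) * conj (ρ.character (g ^ k)) = φ g + φ' (g ^ k) := by
      rw [hf, hφk]
    have e3 := congrArg (starRingEnd ℂ) e2
    simp only [map_mul, map_add, Complex.conj_conj] at e3 ⊢
    linear_combination (-(ρ.character (g ^ k) * conj (ρ.character (g ^ k)))) * e1 -
      (φ g + φ' g) * e3
  have hn1 : n + a + c + d = 1 := Nat.cast_injective hkey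
  have hinv : classInner φ (fun _ => 1) ≠ 0 := by
    have : Invertible (Nat.card G : ℂ) := invertibleOfNonzero (Nat.cast_ne_zero.2 Nat.card_pos.ne')
    simp only [classInner, map_one, mul_one]
    rw [Representation.card_inv_mul_sum_char_eq_finrank, Nat.cast_ne_zero]
    intro h0
    have hmem : (⟨LinearMap.id, hid⟩ : U.toSubmodule) ∈ U.toRepresentation.invariants := by
      intro g
      apply Subtype.ext
      show ρ g ∘ₗ LinearMap.id ∘ₗ ρ g⁻¹ = LinearMap.id
      rw [LinearMap.id_comp, ← Module.End.mul_eq_comp, ← map_mul, mul_inv_cancel, map_one]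
      rfl
    rw [Submodule.finrank_eq_zero.1 h0, Submodule.mem_bot] at hmem
    have h2 : (LinearMap.id : Module.End ℂ V) = 0 := congrArg Subtype.val hmem
    have := nontrivial_of_irreducible ρ
    obtain ⟨v, hv⟩ := exists_ne (0 : V)
    exact hv (LinearMap.congr_fun h2 v)
  rcases Nat.eq_zero_or_pos n with h0 | h0
  · refine hinv ?_
    have hz : φ = 0 := by
      have h2 : classInner φ φ = 0 := by rw [hn, h0, Nat.cast_zero]
      unfold classInner at h2
      have h3 : ∑ g, φ g * conj (φ g) = 0 := by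
        rcases mul_eq_zero.1 h2 with h | h
        · exact absurd h (inv_ne_zero (Nat.cast_ne_zero.2 Nat.card_pos.ne'))
        · exact h
      simp only [Complex.mul_conj] at h3
      rw [← Complex.ofReal_sum, Complex.ofReal_eq_zero,
        Finset.sum_eq_zero_iff_of_nonneg fun g _ => Complex.normSq_nonneg _] at h3
      funext g
      exact Complex.normSq_eq_zero.1 (h3 g (Finset.mem_univ g))
    simp [hz, classInner]
  · have hne : n = 1 := by omega
    have hi : IsIrrCharacter G φ := isIrrCharacter_iff.2 ⟨hcφ, by rw [hn, hne, Nat.cast_one]⟩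
    by_cases he : φ = fun _ => (1 : ℂ)
    · have : (Fintype.card X : ℂ) = ((1 : ℕ) : ℂ) := by rw [← hφ1, he, Nat.cast_one]
      have := Nat.cast_injective this
      omega
    · exact hinv (classInner_irr_ne hi isIrrCharacter_one he)

variable [Finite G] (ρ : Representation ℂ G V) [ρ.IsIrreducible]

theorem mem_center_of_scalar (hρ : Function.Injective ρ) {z : G} {c : ℂ}
    (hz : ρ z = c • LinearMap.id) : z ∈ Subgroup.center G := by
  rw [Subgroup.mem_center_iff]
  intro g
  apply hρ
  rw [map_mul, map_mul, hz]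
  ext v
  simp

/-- No noncentral abelian normal subgroup. -/
theorem abelian_normal_le_center [Fintype G] (hρ : Function.Injective ρ) {k : ℕ}
    (hk : k.Coprime (Nat.card G))
    (h1 : classInner (fun g => ρ.character g * ρ.character (g ^ k))
      (fun g => ρ.character g * ρ.character (g ^ k)) = 1)
    (A : Subgroup G) [hA : A.Normal] (hab : ∀ a ∈ A, ∀ b ∈ A, a * b = b * a) :
    A ≤ Subgroup.center G := by
  classical
  by_contra hnc
  letI : CommGroup A := { (inferInstance : Group A) with
    mul_comm := fun a b => Subtype.ext (hab a a.2 b b.2) }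
  haveI : Finite (A →* ℂˣ) :=
    Finite.of_equiv A (CommGroup.monoidHom_mulEquiv_of_hasEnoughRootsOfUnity A ℂ).some.toEquiv.symm
  haveI : Fintype (A →* ℂˣ) := Fintype.ofFinite _
  let w : (A →* ℂˣ) → Module.End ℂ V := fun θ => ∑ a : A, ((θ a⁻¹ : ℂˣ) : ℂ) • ρ (a : G)
  have hbw : ∀ (b : A) θ, ρ (b : G) * w θ = ((θ b : ℂˣ) : ℂ) • w θ := by
    intro b θ
    simp only [w, Finset.mul_sum, Finset.smul_sum, mul_smul_comm, ← map_mul, smul_smul]
    refine Fintype.sum_equiv (Equiv.mulLeft b) _ _ fun a => ?_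
    simp only [Equiv.coe_mulLeft, Subgroup.coe_mul]
    congr 1
    rw [mul_inv_rev, map_mul, mul_comm (θ a⁻¹), map_inv θ b, ← Units.val_mul, mul_inv_cancel_left]
  have hww : ∀ θ θ', w θ * w θ' =
      (if θ = θ' then (Fintype.card A : ℂ) else 0) • w θ' := by
    intro θ θ'
    have : w θ * w θ' = (∑ a : A, ((θ a⁻¹ : ℂˣ) : ℂ) * ((θ' a : ℂˣ) : ℂ)) • w θ' := by
      rw [Finset.sum_smul]
      conv_lhs => rw [show w θ = ∑ a : A, ((θ a⁻¹ : ℂˣ) : ℂ) • ρ (a : G) from rfl, Finset.sum_mul]
      refine Finset.sum_congr rfl fun a _ => ?_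
      rw [smul_mul_assoc, hbw, smul_smul]
    rw [this]
    congr 1
    split_ifs with he
    · subst he
      simp [← Units.val_mul, ← map_mul]
    · obtain ⟨b, hb⟩ : ∃ b, (θ⁻¹ * θ') b ≠ 1 := by
        by_contra hc
        push Not at hc
        exact he (inv_mul_eq_one.1 (MonoidHom.ext hc))
      set S := ∑ a : A, ((θ a⁻¹ : ℂˣ) : ℂ) * ((θ' a : ℂˣ) : ℂ) with hS
      have h2 : (((θ⁻¹ * θ') b : ℂˣ) : ℂ) * S = S := by
        rw [hS, Finset.mul_sum]
        refine Fintype.sum_equiv (Equiv.mulLeft b) _ _ fun a => ?_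
        simp only [Equiv.coe_mulLeft, map_inv, MonoidHom.mul_apply, MonoidHom.inv_apply, map_mul,
          Units.val_mul, Units.val_inv_eq_inv_val, mul_inv_rev]
        ring
      have h3 : ((((θ⁻¹ * θ') b : ℂˣ) : ℂ) - 1) * S = 0 := by rw [sub_mul, h2, one_mul, sub_self]
      rcases mul_eq_zero.1 h3 with h | h
      · exact absurd (Units.ext (sub_eq_zero.1 h)) hb
      · exact h
  have htot : ∑ θ : A →* ℂˣ, w θ = (Fintype.card (A →* ℂˣ) : ℂ) • LinearMap.id := by
    simp only [w]
    rw [Finset.sum_comm]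
    simp only [← Finset.sum_smul]
    rw [Finset.sum_eq_single (1 : A)]
    · simp [Module.End.one_eq_id]
    · intro a _ ha
      obtain ⟨θ0, hθ0⟩ :=
        CommGroup.exists_apply_ne_one_of_hasEnoughRootsOfUnity A ℂ (inv_ne_one.2 ha)
      have h2 : ((θ0 a⁻¹ : ℂˣ) : ℂ) * (∑ θ : A →* ℂˣ, ((θ a⁻¹ : ℂˣ) : ℂ)) =
          ∑ θ : A →* ℂˣ, ((θ a⁻¹ : ℂˣ) : ℂ) := by
        rw [Finset.mul_sum]
        exact Fintype.sum_equiv (Equiv.mulLeft θ0) _ _ fun θ => by simp
      have h3 : (((θ0 a⁻¹ : ℂˣ) : ℂ) - 1) * (∑ θ : A →* ℂˣ, ((θ a⁻¹ : ℂˣ) : ℂ)) = 0 := by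
        rw [sub_mul, h2, one_mul, sub_self]
      rcases mul_eq_zero.1 h3 with h | h
      · exact absurd (Units.ext (sub_eq_zero.1 h)) hθ0
      · rw [h, zero_smul]
    · simp
  let cj : G → (A →* ℂˣ) → (A →* ℂˣ) := fun g θ =>
    θ.comp (MulAut.conjNormal g⁻¹ : A ≃* A).toMonoidHom
  have hcjv : ∀ g θ a, cj g θ a = θ (MulAut.conjNormal g⁻¹ a) := fun _ _ _ => rfl
  have hT : ∀ g θ, Representation.linHom ρ ρ g (w θ) = w (cj g θ) := by
    intro g θ
    simp only [w, map_sum, map_smul]
    refine Fintype.sum_equiv (MulAut.conjNormal g : A ≃* A).toEquiv _ _ fun a => ?_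
    simp only [MulEquiv.toEquiv_eq_coe, MulEquiv.coe_toEquiv, hcjv, ← map_inv,
      MulAut.conjNormal_apply, Representation.linHom_apply, ← Module.End.mul_eq_comp, ← map_mul]
    congr 2
    · congr 1
      apply Subtype.ext
      simp [MulAut.conjNormal_symm_apply, mul_assoc]
    · simp [mul_assoc]
  have hnz : ∀ g θ, w θ ≠ 0 → w (cj g θ) ≠ 0 := by
    intro g θ h h0
    apply h
    have : Representation.linHom ρ ρ g⁻¹ (Representation.linHom ρ ρ g (w θ)) = w θ := by
      rw [← Module.End.mul_apply, ← map_mul, inv_mul_cancel, map_one, Module.End.one_apply]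
    rw [← this, hT g, h0, map_zero]
  let X := {θ : A →* ℂˣ // w θ ≠ 0}
  have hli : LinearIndependent ℂ (fun x : X => w x.1) := by
    rw [Fintype.linearIndependent_iff]
    intro c hc y
    have h2 := congrArg (fun T => T * w y.1) hc
    simp only [Finset.sum_mul, smul_mul_assoc, hww, smul_smul, zero_mul] at h2
    rw [Finset.sum_eq_single y (fun x _ hxy => by
      rw [if_neg (fun e => hxy (Subtype.ext e)), mul_zero, zero_smul]) (by simp), if_pos rfl] at h2
    rcases smul_eq_zero.1 h2 with h | h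
    · exact (mul_eq_zero.1 h).resolve_right (Nat.cast_ne_zero.2 Fintype.card_ne_zero)
    · exact absurd h y.2
  have hid : (LinearMap.id : Module.End ℂ V) ∈ Submodule.span ℂ (Set.range fun x : X => w x.1) := by
    have h2 : ∑ θ : A →* ℂˣ, w θ ∈ Submodule.span ℂ (Set.range fun x : X => w x.1) := by
      refine Submodule.sum_mem _ fun θ _ => ?_
      by_cases h : w θ = 0
      · rw [h]; exact Submodule.zero_mem _
      · exact Submodule.subset_span ⟨⟨θ, h⟩, rfl⟩
    rw [htot] at h2
    exact (Submodule.smul_mem_iff _ (Nat.cast_ne_zero.2 Fintype.card_ne_zero)).1 h2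
  have hX : 2 ≤ Fintype.card X := by
    by_contra hc
    have hsub : Subsingleton X := Fintype.card_le_one_iff_subsingleton.1 (by omega)
    obtain ⟨a, haA, haZ⟩ := SetLike.not_le_iff_exists.1 hnc
    apply haZ
    obtain ⟨c, hc'⟩ := (Submodule.mem_span_range_iff_exists_fun ℂ).1 hid
    by_cases hne : Nonempty X
    · obtain ⟨x⟩ := hne
      refine mem_center_of_scalar ρ hρ (c := ((x.1 ⟨a, haA⟩ : ℂˣ) : ℂ)) ?_
      have h3 : ρ a * LinearMap.id = ((x.1 ⟨a, haA⟩ : ℂˣ) : ℂ) • LinearMap.id := by
        rw [← hc', Finset.mul_sum, Finset.smul_sum]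
        refine Finset.sum_congr rfl fun y _ => ?_
        rw [Subsingleton.elim y x, mul_smul_comm, smul_comm]
        congr 1
        exact hbw ⟨a, haA⟩ x.1
      simpa [← Module.End.one_eq_id] using h3
    · haveI := not_nonempty_iff.1 hne
      have : (LinearMap.id : Module.End ℂ V) = 0 := by rw [← hc']; simp
      have := nontrivial_of_irreducible ρ
      obtain ⟨v, hv⟩ := exists_ne (0 : V)
      exact absurd (LinearMap.congr_fun ‹(LinearMap.id : Module.End ℂ V) = 0› v) hv
  refine no_family ρ hk h1 (fun x : X => w x.1) hli hid hX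
    (fun g x => ⟨cj g x.1, hnz g x.1 x.2⟩) (fun _ _ => 1)
    (fun g x => by rw [one_smul]; exact hT g x.1) fun g => ?_
  refine Finset.sum_congr rfl fun x _ => if_congr ?_ rfl rfl
  have hpow : ∀ (h : G), cj h x.1 = x.1 → ∀ m : ℕ, cj (h ^ m) x.1 = x.1 := by
    intro h hh m
    induction m with
    | zero => ext a; simp [hcjv]
    | succ m ih =>
      ext a
      have e1 := DFunLike.congr_fun hh (MulAut.conjNormal (h ^ m)⁻¹ a)
      have e2 := DFunLike.congr_fun ih a
      rw [hcjv] at e1 e2 ⊢
      rw [pow_succ, mul_inv_rev, map_mul, MulAut.mul_apply, e1, e2]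
  refine ⟨fun h => Subtype.ext ?_, fun h => Subtype.ext (hpow g (congrArg Subtype.val h) k)⟩
  have h' : cj (g ^ k) x.1 = x.1 := congrArg Subtype.val h
  show cj g x.1 = x.1
  obtain ⟨m, hm⟩ := exists_pow_eq_self_of_coprime (x := g)
    (hk.coprime_dvd_right (orderOf_dvd_natCard g))
  rw [← hm]
  exact hpow _ h' m

/-- No noncentral normal subgroup of class two with central centre. -/
theorem class_two_le_center [Fintype G] (hρ : Function.Injective ρ) {k : ℕ}
    (hk : k.Coprime (Nat.card G))
    (h1 : classInner (fun g => ρ.character g * ρ.character (g ^ k))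
      (fun g => ρ.character g * ρ.character (g ^ k)) = 1)
    (E : Subgroup G) [hE : E.Normal]
    (hcomm : ∀ u ∈ E, ∀ v ∈ E, u * v * u⁻¹ * v⁻¹ ∈ Subgroup.center G)
    (hZE : ∀ u ∈ E, (∀ v ∈ E, u * v = v * u) → u ∈ Subgroup.center G) :
    E ≤ Subgroup.center G := by
  classical
  by_contra hnc
  have hd : ρ.character 1 ≠ 0 := by
    rw [Representation.char_one]
    exact Nat.cast_ne_zero.2 (finrank_pos_of_irreducible ρ).ne'
  have hsc : ∀ z ∈ Subgroup.center G, ρ z = (ρ.character z / ρ.character 1) • LinearMap.id := by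
    intro z hz
    obtain ⟨c, hc⟩ := exists_scalar_of_mem_center ρ hz
    rw [hc]
    congr 1
    rw [eq_div_iff hd, Representation.char_one]
    show c * _ = LinearMap.trace ℂ V (ρ z)
    rw [hc, map_smul, LinearMap.trace_id, smul_eq_mul]
  have hvan : ∀ u ∈ E, u ∉ Subgroup.center G → ρ.character u = 0 := by
    intro u hu huZ
    obtain ⟨v, hv, hne⟩ : ∃ v ∈ E, u * v ≠ v * u := by
      by_contra hc
      push Not at hc
      exact huZ (hZE u hu hc)
    have hcz := hcomm v hv u hu
    obtain ⟨c, hc⟩ := exists_scalar_of_mem_center ρ hcz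
    have h2 : ρ.character u = c * ρ.character u := by
      conv_lhs => rw [← Representation.char_conj ρ u v,
        show v * u * v⁻¹ = (v * u * v⁻¹ * u⁻¹) * u by group]
      show LinearMap.trace ℂ V (ρ _) = c * LinearMap.trace ℂ V (ρ u)
      rw [map_mul, hc, smul_mul_assoc, ← Module.End.one_eq_id, one_mul, map_smul, smul_eq_mul]
    have h3 : (c - 1) * ρ.character u = 0 := by rw [sub_mul, one_mul, ← h2, sub_self]
    refine (mul_eq_zero.1 h3).resolve_left fun h => hne ?_
    have h4 : v * u * v⁻¹ * u⁻¹ = 1 := hρ (by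
      rw [hc, sub_eq_zero.1 h, one_smul, map_one, Module.End.one_eq_id])
    have h5 : v * u = u * v := by
      calc v * u = (v * u * v⁻¹ * u⁻¹) * (u * v) := by group
        _ = u * v := by rw [h4, one_mul]
    exact h5.symm
  let Z0 : Subgroup E := (Subgroup.center G).subgroupOf E
  let rep : E ⧸ Z0 → G := fun x => ((Quotient.out x : E) : G)
  have hrep : ∀ x, ((⟨rep x, (Quotient.out x : E).2⟩ : E) : E ⧸ Z0) = x := fun x =>
    QuotientGroup.out_eq' x
  have hmk : ∀ u v : E, (u : E ⧸ Z0) = (v : E ⧸ Z0) ↔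
      ((u : G))⁻¹ * (v : G) ∈ Subgroup.center G := fun u v => by
    rw [QuotientGroup.eq, Subgroup.mem_subgroupOf]; rfl
  have hdist : ∀ x y, x ≠ y → rep x * (rep y)⁻¹ ∉ Subgroup.center G := fun x y hxy h => by
    refine hxy ?_
    rw [← hrep x, ← hrep y, eq_comm, hmk]
    show (rep y)⁻¹ * rep x ∈ _
    have h2 := (Subgroup.Normal.conj_mem inferInstance _ h (rep y)⁻¹)
    simpa [mul_assoc] using h2
  let X := E ⧸ Z0
  haveI : Fintype X := Fintype.ofFinite _
  have hli : LinearIndependent ℂ (fun x : X => ρ (rep x)) := by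
    rw [Fintype.linearIndependent_iff]
    intro c hc y
    have h2 := congrArg (fun T => LinearMap.trace ℂ V (T * ρ (rep y)⁻¹)) hc
    simp only [Finset.sum_mul, smul_mul_assoc, ← map_mul, map_sum, map_smul, zero_mul, map_zero,
      smul_eq_mul] at h2
    rw [Finset.sum_eq_single y (fun x _ hxy => by
      have : ρ.character (rep x * (rep y)⁻¹) = 0 :=
        hvan _ (E.mul_mem (Quotient.out x : E).2 (E.inv_mem (Quotient.out y : E).2)) (hdist x y hxy)
      exact mul_eq_zero_of_right _ this) (by simp), mul_inv_cancel] at h2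
    exact (mul_eq_zero.1 h2).resolve_right hd
  have hid : (LinearMap.id : Module.End ℂ V) ∈ Submodule.span ℂ (Set.range fun x : X => ρ (rep x)) := by
    have hz : rep ((1 : E) : X) ∈ Subgroup.center G := by
      have := (hmk (1 : E) (Quotient.out ((1 : E) : X))).1 (QuotientGroup.out_eq' _).symm
      simpa using this
    have h2 : ρ (rep ((1 : E) : X)) ∈ Submodule.span ℂ (Set.range fun x : X => ρ (rep x)) :=
      Submodule.subset_span ⟨_, rfl⟩
    rw [hsc _ hz] at h2
    refine (Submodule.smul_mem_iff _ ?_).1 h2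
    intro h0
    have := hsc _ hz
    rw [h0, zero_smul] at this
    have h3 : ρ (1 : G) = 0 := by
      rw [← mul_inv_cancel (rep ((1 : E) : X)), map_mul, this, zero_mul]
    have := nontrivial_of_irreducible ρ
    obtain ⟨v, hv⟩ := exists_ne (0 : V)
    exact hv (by simpa using LinearMap.congr_fun h3 v)
  have hX : 2 ≤ Fintype.card X := by
    obtain ⟨u, hu, huZ⟩ := SetLike.not_le_iff_exists.1 hnc
    refine Fintype.one_lt_card_iff.2 ⟨((⟨u, hu⟩ : E) : X), ((1 : E) : X), fun h => huZ ?_⟩
    have := (hmk _ _).1 h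
    simpa using this
  let cE : G → E → E := fun g u => ⟨g * u * g⁻¹, hE.conj_mem _ u.2 g⟩
  let π : G → X → X := fun g x => ((cE g (Quotient.out x) : E) : X)
  let zz : G → X → G := fun g x => (rep (π g x))⁻¹ * (g * rep x * g⁻¹)
  have hzz : ∀ g x, zz g x ∈ Subgroup.center G := fun g x =>
    (hmk _ _).1 (QuotientGroup.out_eq' (π g x))
  have hact : ∀ g x, Representation.linHom ρ ρ g (ρ (rep x)) =
      (ρ.character (zz g x) / ρ.character 1) • ρ (rep (π g x)) := by
    intro g x
    rw [Representation.linHom_apply, ← Module.End.mul_eq_comp, ← Module.End.mul_eq_comp, ← map_mul,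
      ← map_mul, show g * (rep x * g⁻¹) = rep (π g x) * zz g x by simp [zz, mul_assoc], map_mul,
      hsc _ (hzz g x), mul_smul_comm, ← Module.End.one_eq_id, mul_one]
  let P : G → G → G → Prop := fun g u z => z ∈ Subgroup.center G ∧ g * u * g⁻¹ = u * z
  have hPr : ∀ g x z, P g (rep x) z → π g x = x ∧ zz g x = z := by
    intro g x z ⟨hz, he⟩
    have h2 : π g x = x := by
      conv_rhs => rw [← hrep x]
      rw [eq_comm, hmk]
      show (rep x)⁻¹ * (g * rep x * g⁻¹) ∈ _
      rw [he, inv_mul_cancel_left]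
      exact hz
    refine ⟨h2, ?_⟩
    simp only [zz]
    rw [h2, he, inv_mul_cancel_left]
  have hfix : ∀ g x, π g x = x → P g (rep x) (zz g x) := by
    intro g x h
    refine ⟨hzz g x, ?_⟩
    simp only [zz]
    rw [h, mul_inv_cancel_left]
  have hPg : ∀ g u z m, P g u z → P (g ^ m) u (z ^ m) := by
    intro g u z m ⟨hz, he⟩
    refine ⟨Subgroup.pow_mem _ hz m, ?_⟩
    have hzg := Subgroup.mem_center_iff.1 hz
    induction m with
    | zero => simp
    | succ m ih =>
      calc g ^ (m + 1) * u * (g ^ (m + 1))⁻¹ = g ^ m * (g * u * g⁻¹) * (g ^ m)⁻¹ := by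
            simp [pow_succ, mul_assoc]
        _ = g ^ m * u * (g ^ m)⁻¹ * z := by
            rw [he, ← mul_assoc (g ^ m), mul_assoc (g ^ m * u), ← hzg, ← mul_assoc]
        _ = u * z ^ (m + 1) := by rw [ih, pow_succ, mul_assoc]
  have hPu : ∀ g (x : X) z m, P g (rep x) z → P g (rep (x ^ m)) (z ^ m) := by
    intro g x z m ⟨hz, he⟩
    refine ⟨Subgroup.pow_mem _ hz m, ?_⟩
    have hc : (rep x ^ m)⁻¹ * rep (x ^ m) ∈ Subgroup.center G := by
      have h2 := (hmk ((Quotient.out x : E) ^ m) (Quotient.out (x ^ m) : E)).1 (by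
        rw [QuotientGroup.mk_pow]
        exact (congrArg (· ^ m) (QuotientGroup.out_eq' x)).trans (QuotientGroup.out_eq' (x ^ m)).symm)
      exact h2
    obtain ⟨z', hz', hz''⟩ : ∃ z' ∈ Subgroup.center G, rep (x ^ m) = rep x ^ m * z' :=
      ⟨_, hc, (mul_inv_cancel_left _ _).symm⟩
    have hzc := Subgroup.mem_center_iff.1 hz
    have hz'c := Subgroup.mem_center_iff.1 hz'
    have h2 : g * rep x ^ m * g⁻¹ = rep x ^ m * z ^ m := by
      rw [← conj_pow, he, (show Commute (rep x) z from hzc _).mul_pow]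
    rw [hz'']
    calc g * (rep x ^ m * z') * g⁻¹ = g * rep x ^ m * g⁻¹ * z' := by
          rw [mul_assoc g, mul_assoc (rep x ^ m), ← hz'c g⁻¹]; simp [mul_assoc]
      _ = rep x ^ m * z' * z ^ m := by
          rw [h2, mul_assoc, mul_assoc, hz'c]
  have hkX : (Nat.card X).Coprime k :=
    (hk.symm.coprime_dvd_left
      ((Subgroup.card_quotient_dvd_card Z0).trans (Subgroup.card_subgroup_dvd_card E)))
  refine no_family ρ hk h1 (fun x : X => ρ (rep x)) hli hid hX π
    (fun g x => ρ.character (zz g x) / ρ.character 1) hact fun g => ?_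
  haveI : Z0.Normal := inferInstance
  refine Fintype.sum_equiv (powCoprime hkX) _ _ fun x => ?_
  rw [powCoprime_apply]
  by_cases hf : π g x = x
  · obtain ⟨ha, hb⟩ := hPr _ _ _ (hPg g _ _ k (hfix g x hf))
    obtain ⟨hc, hd⟩ := hPr _ _ _ (hPu g x _ k (hfix g x hf))
    rw [if_pos ha, if_pos hc, hb, hd]
  · have ha : π (g ^ k) x ≠ x := fun h => hf <| by
      obtain ⟨m, hm⟩ := exists_pow_eq_self_of_coprime (x := g)
        (hk.coprime_dvd_right (orderOf_dvd_natCard g))
      have := (hPr _ _ _ (hPg _ _ _ m (hfix _ x h))).1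
      rwa [hm] at this
    have hc : π g (x ^ k) ≠ x ^ k := fun h => hf <| by
      obtain ⟨m, hm⟩ := exists_pow_eq_self_of_coprime (x := x)
        ((Nat.Coprime.coprime_dvd_left (orderOf_dvd_natCard x) hkX).symm)
      have := (hPr _ _ _ (hPu g (x ^ k) _ m (hfix _ _ h))).1
      rwa [hm] at this
    rw [if_neg ha, if_neg hc]

/-- The Fitting subgroup is the centre. -/
theorem fitting_eq_center [Fintype G] (hρ : Function.Injective ρ) {k : ℕ}
    (hk : k.Coprime (Nat.card G))
    (h1 : classInner (fun g => ρ.character g * ρ.character (g ^ k))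
      (fun g => ρ.character g * ρ.character (g ^ k)) = 1) :
    fittingSubgroup G = Subgroup.center G := by
  have hab := abelian_normal_le_center ρ hρ hk h1
  refine le_antisymm ?_ (le_sSup ⟨inferInstance, ?_⟩)
  swap
  · letI : CommGroup (Subgroup.center G) := { (inferInstance : Group (Subgroup.center G)) with
      mul_comm := fun a b => Subtype.ext (Subgroup.mem_center_iff.1 b.2 a) }
    exact CommGroup.isNilpotent
  by_contra hF
  set F := fittingSubgroup G with hFdef
  haveI : F.Normal := inferInstance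
  haveI : Group.IsNilpotent F := ComponentsFitting.fittingSubgroup_isNilpotent
  let q : G →* G ⧸ Subgroup.center G := QuotientGroup.mk' _
  let Fb := F.map q
  haveI : Fb.Normal := Subgroup.Normal.map inferInstance q (QuotientGroup.mk'_surjective _)
  haveI : Group.IsNilpotent Fb :=
    Group.nilpotent_of_surjective (q.subgroupMap F) (q.subgroupMap_surjective F)
  haveI : Nontrivial Fb := (Subgroup.nontrivial_iff_ne_bot _).2 fun h => hF <| by
    rw [Subgroup.map_eq_bot_iff, QuotientGroup.ker_mk'] at h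
    exact h
  obtain ⟨⟨cb, hcb⟩, hcZ, hc1⟩ :=
    (Subgroup.bot_or_exists_ne_one (Subgroup.center Fb)).resolve_left
      (Group.IsNilpotent.center_ne_bot _)
  obtain ⟨c, hcF, rfl⟩ := Subgroup.mem_map.1 hcb
  let E : Subgroup G := F ⊓ (Subgroup.centralizer (Fb : Set (G ⧸ Subgroup.center G))).comap q
  haveI : ((Subgroup.centralizer (Fb : Set (G ⧸ Subgroup.center G))).comap q).Normal :=
    inferInstance
  haveI : E.Normal := inferInstance
  have hcE : c ∈ E := ⟨hcF, fun y hy => congrArg Subtype.val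
    ((Subgroup.mem_center_iff.1 hcZ) ⟨y, hy⟩)⟩
  have hcn : c ∉ Subgroup.center G := fun h => hc1 (Subtype.ext ((QuotientGroup.eq_one_iff c).2 h))
  refine hcn (class_two_le_center ρ hρ hk h1 E ?_ ?_ hcE)
  · intro u hu v hv
    rw [← QuotientGroup.eq_one_iff]
    show q (u * v * u⁻¹ * v⁻¹) = 1
    rw [map_mul, map_mul, map_mul, map_inv, map_inv,
      ← Subgroup.mem_centralizer_iff.1 hu.2 (q v) ⟨v, hv.1, rfl⟩]
    group
  · intro u hu hcom
    let A : Subgroup G := E ⊓ Subgroup.centralizer (E : Set G)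
    haveI : A.Normal := inferInstance
    exact hab A (fun a ha b hb => ((Subgroup.mem_centralizer_iff.1 ha.2) b hb.1).symm)
      (show u ∈ A from ⟨hu, Subgroup.mem_centralizer_iff.2 fun v hv => (hcom v hv).symm⟩)

end Cfsg.Agent.GaloisProduct71
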