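import Mathlib

/-!
Gauss decomposition with prescribed diagonal part (after Ellers and Gordeev).

The data are subgroups `U`, `V`, `H` and, for each node, a rank-one homomorphism `φ` normalising the
complements `Ui ≤ U` and `Vi ≤ V` of its root groups. Every nontrivial element of the group generated by the
rank-one images is conjugate to a form `v h u` which is nondegenerate at some node, and at a nondegenerate node
the diagonal part can be multiplied by any coroot value of that node.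
-/

set_option autoImplicit false

namespace Cfsg.Agent.GaussPrescribed77

open Matrix
open scoped MatrixGroups

section SL2

variable {F : Type*} [Field F]

/-- upper unitriangular -/
def up (t : F) : SL(2, F) := ⟨!![1, t; 0, 1], by simp [det_fin_two_of]⟩

/-- lower unitriangular -/
def lo (t : F) : SL(2, F) := ⟨!![1, 0; t, 1], by simp [det_fin_two_of]⟩

/-- diagonal -/
def dia (t : Fˣ) : SL(2, F) := ⟨!![(t : F), 0; 0, ((t⁻¹ : Fˣ) : F)], by simp [det_fin_two_of]⟩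

/-- conjugation by `diag(a, 1)` -/
def dconj (a : Fˣ) (A : SL(2, F)) : SL(2, F) :=
  ⟨!![A 0 0, (a : F) * A 0 1; ((a⁻¹ : Fˣ) : F) * A 1 0, A 1 1], by
    have h := A.2
    rw [det_fin_two] at h
    rw [det_fin_two_of]
    have ha : (a : F) * ((a⁻¹ : Fˣ) : F) = 1 := a.mul_inv
    linear_combination h - A 0 1 * A 1 0 * ha⟩

@[simp] theorem coe_up (t : F) : ((up t : SL(2, F)) : Matrix (Fin 2) (Fin 2) F) = !![1, t; 0, 1] := rfl

@[simp] theorem coe_lo (t : F) : ((lo t : SL(2, F)) : Matrix (Fin 2) (Fin 2) F) = !![1, 0; t, 1] := rfl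

@[simp] theorem coe_dia (t : Fˣ) :
    ((dia t : SL(2, F)) : Matrix (Fin 2) (Fin 2) F) = !![(t : F), 0; 0, ((t⁻¹ : Fˣ) : F)] := rfl

@[simp] theorem coe_dconj (a : Fˣ) (A : SL(2, F)) : ((dconj a A : SL(2, F)) : Matrix (Fin 2) (Fin 2) F) =
    !![A 0 0, (a : F) * A 0 1; ((a⁻¹ : Fˣ) : F) * A 1 0, A 1 1] := rfl

theorem dconj_up (a : Fˣ) (t : F) : dconj a (up t) = up ((a : F) * t) := by
  ext i j
  fin_cases i <;> fin_cases j <;> simp

theorem dconj_mul (a : Fˣ) (A B : SL(2, F)) : dconj a (A * B) = dconj a A * dconj a B := by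
  have ha : (a : F) * ((a⁻¹ : Fˣ) : F) = 1 := a.mul_inv
  ext i j
  fin_cases i <;> fin_cases j <;> simp [Matrix.mul_apply, Fin.sum_univ_two] <;> field_simp

theorem dconj_dia (a t : Fˣ) : dconj a (dia t) = dia t := by
  ext i j
  fin_cases i <;> fin_cases j <;> simp

theorem up_zero : up (0 : F) = 1 := by
  ext i j
  fin_cases i <;> fin_cases j <;> simp

theorem lo_zero : lo (0 : F) = 1 := by
  ext i j
  fin_cases i <;> fin_cases j <;> simp

theorem up_add (s t : F) : up s * up t = up (s + t) := by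
  ext i j
  fin_cases i <;> fin_cases j <;> simp [Matrix.mul_apply, Fin.sum_univ_two, add_comm]

/-- the `LDU` decomposition -/
theorem ldu (P : SL(2, F)) (t : Fˣ) (ht : P 0 0 = (t : F)) : ∃ c e : F, P = lo c * dia t * up e := by
  refine ⟨P 1 0 * ((t⁻¹ : Fˣ) : F), P 0 1 * ((t⁻¹ : Fˣ) : F), ?_⟩
  have h := P.2
  rw [det_fin_two, ht] at h
  have hne : (t : F) ≠ 0 := t.ne_zero
  ext i j
  fin_cases i <;> fin_cases j <;> simp [Matrix.mul_apply, Fin.sum_univ_two, ht] <;> field_simp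
  linear_combination h

/-- every element is upper, lower, diagonal, upper -/
theorem uldu (A : SL(2, F)) : ∃ (a c : F) (t : Fˣ) (e : F), A = up a * lo c * dia t * up e := by
  classical
  set a : F := if A 0 0 = 0 then 1 else 0 with hadef
  set P := up (-a) * A with hP
  have h00 : P 0 0 = A 0 0 - a * A 1 0 := by
    simp [hP, Matrix.mul_apply, Fin.sum_univ_two, sub_eq_add_neg]
  have hne : P 0 0 ≠ 0 := by
    rw [h00, hadef]
    by_cases h : A 0 0 = 0
    · rw [if_pos h, h, one_mul, zero_sub, neg_ne_zero]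
      intro h'
      have hd := A.2
      rw [det_fin_two, h, h'] at hd
      simp at hd
    · rw [if_neg h, zero_mul, sub_zero]; exact h
  obtain ⟨c, e, hce⟩ := ldu P (Units.mk0 _ hne) rfl
  refine ⟨a, c, Units.mk0 _ hne, e, ?_⟩
  rw [mul_assoc (up a), mul_assoc (up a), ← hce, hP, ← mul_assoc, up_add, add_neg_cancel, up_zero, one_mul]

/-- a nonscalar matrix has a special linear conjugate with any prescribed corner entry -/
theorem exists_corner (N : Matrix (Fin 2) (Fin 2) F) (h : ¬ (N 0 1 = 0 ∧ N 1 0 = 0 ∧ N 0 0 = N 1 1)) (τ : F) :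
    ∃ K : SL(2, F), ((K : Matrix (Fin 2) (Fin 2) F) * N * ((K⁻¹ : SL(2, F)) : Matrix (Fin 2) (Fin 2) F)) 0 0 = τ := by
  by_cases hb : N 0 1 = 0
  · by_cases hc : N 1 0 = 0
    · have hd : N 1 1 - N 0 0 ≠ 0 := fun h' => h ⟨hb, hc, (sub_eq_zero.1 h').symm⟩
      refine ⟨lo ((N 0 0 - τ) / (N 1 1 - N 0 0)) * up 1, ?_⟩
      simp [Matrix.mul_apply, Fin.sum_univ_two, Matrix.adjugate_fin_two, Matrix.vecMul, dotProduct, hb, hc,
        Matrix.vecHead, Matrix.vecTail]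
      field_simp
      ring
    · refine ⟨up ((τ - N 0 0) / N 1 0), ?_⟩
      simp [Matrix.mul_apply, Fin.sum_univ_two, Matrix.adjugate_fin_two, Matrix.vecMul, dotProduct, hb]
      field_simp
      ring
  · refine ⟨lo ((N 0 0 - τ) / N 0 1), ?_⟩
    simp [Matrix.mul_apply, Fin.sum_univ_two, Matrix.adjugate_fin_two, Matrix.vecMul, dotProduct]
    field_simp
    ring

end SL2

variable {M : Type*} [Group M]

/-- one node of a split system -/
structure Node (U V H : Subgroup M) (F : Type*) [Field F] where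
  φ : SL(2, F) →* M
  Ui : Subgroup M
  Vi : Subgroup M
  α : M → Fˣ
  Ui_le : Ui ≤ U
  Vi_le : Vi ≤ V
  up_mem : ∀ e : F, φ (up e) ∈ U
  lo_mem : ∀ c : F, φ (lo c) ∈ V
  dia_mem : ∀ t : Fˣ, φ (dia t) ∈ H
  U_split : ∀ u ∈ U, ∃ e : F, ∃ u' ∈ Ui, u = φ (up e) * u'
  V_split : ∀ v ∈ V, ∃ c : F, ∃ v' ∈ Vi, v = v' * φ (lo c)
  normU : ∀ A : SL(2, F), ∀ u ∈ Ui, φ A * u * (φ A)⁻¹ ∈ Ui
  normV : ∀ A : SL(2, F), ∀ v ∈ Vi, φ A * v * (φ A)⁻¹ ∈ Vi
  H_conj : ∀ h ∈ H, ∀ A : SL(2, F), h * φ A * h⁻¹ = φ (dconj (α h) A)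

variable {U V H : Subgroup M} {F : Type*} [Field F]

namespace Node

variable (N : Node U V H F)

/-- the form `v h u` is nondegenerate at the node -/
def Nondeg (v h u : M) : Prop := N.α h ≠ 1 ∨ v ∉ N.Vi ∨ u ∉ N.Ui

/-- `x h = h x'` for upper elements -/
theorem up_comm {h : M} (hh : h ∈ H) (e : F) : N.φ (up ((N.α h : F) * e)) * h = h * N.φ (up e) := by
  rw [← dconj_up, ← N.H_conj h hh]
  group

/-- the middle of a form as an element of the rank-one image times the diagonal part -/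
theorem middle {v h u : M} (hv : v ∈ V) (hh : h ∈ H) (hu : u ∈ U) :
    ∃ c e : F, ∃ v' ∈ N.Vi, ∃ u' ∈ N.Ui,
      v * h * u = v' * (N.φ (lo c * dconj (N.α h) (up e)) * h) * u' ∧
      (N.Nondeg v h u → c ≠ 0 ∨ e ≠ 0 ∨ N.α h ≠ 1) := by
  obtain ⟨c, v', hv', rfl⟩ := N.V_split v hv
  obtain ⟨e, u', hu', rfl⟩ := N.U_split u hu
  refine ⟨c, e, v', hv', u', hu', ?_, ?_⟩
  · rw [map_mul, ← N.H_conj h hh]
    group
  · rintro (hα | hV | hU)
    · exact Or.inr (Or.inr hα)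
    · exact Or.inl fun hc => hV (by rw [hc, lo_zero, map_one, mul_one]; exact hv')
    · exact Or.inr (Or.inl fun he => hU (by rw [he, up_zero, map_one, one_mul]; exact hu'))

/-- changing the diagonal part by any coroot value at a nondegenerate node -/
theorem step {v h u : M} (hv : v ∈ V) (hh : h ∈ H) (hu : u ∈ U) (hn : N.Nondeg v h u) (t : Fˣ) :
    ∃ k ∈ N.φ.range, ∃ v' ∈ V, ∃ u' ∈ U, k * (v * h * u) * k⁻¹ = v' * (N.φ (dia t) * h) * u' := by
  obtain ⟨c, e, v', hv', u', hu', heq, hne⟩ := N.middle hv hh hu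
  have hne := hne hn
  obtain ⟨A, hA⟩ : ∃ A, A = lo c * dconj (N.α h) (up e) := ⟨_, rfl⟩
  obtain ⟨a, ha⟩ : ∃ a, a = N.α h := ⟨_, rfl⟩
  let Nm : Matrix (Fin 2) (Fin 2) F := (A : Matrix (Fin 2) (Fin 2) F) * !![(a : F), 0; 0, 1]
  have hns : ¬ (Nm 0 1 = 0 ∧ Nm 1 0 = 0 ∧ Nm 0 0 = Nm 1 1) := by
    rintro ⟨h1, h2, h3⟩
    simp [Nm, hA, ← ha] at h1 h2 h3
    rw [← ha] at hne
    subst h2
    simp at h3
    rcases hne with h' | h' | h'
    · exact h' rfl
    · exact h' h1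
    · exact h' (Units.ext (by simpa using h3))
  obtain ⟨K, hK⟩ := exists_corner Nm hns ((t : F) * (a : F))
  let P : SL(2, F) := K * A * dconj a K⁻¹
  have hP : P 0 0 = (t : F) := by
    have h1 : ((P : SL(2, F)) : Matrix (Fin 2) (Fin 2) F) * !![(a : F), 0; 0, 1] =
        (K : Matrix (Fin 2) (Fin 2) F) * Nm * ((K⁻¹ : SL(2, F)) : Matrix (Fin 2) (Fin 2) F) := by
      have h2 : ((dconj a K⁻¹ : SL(2, F)) : Matrix (Fin 2) (Fin 2) F) * !![(a : F), 0; 0, 1] =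
          !![(a : F), 0; 0, 1] * ((K⁻¹ : SL(2, F)) : Matrix (Fin 2) (Fin 2) F) := by
        ext i j
        fin_cases i <;> fin_cases j <;> simp [Matrix.mul_apply, Fin.sum_univ_two] <;> field_simp
      have hPc : ((P : SL(2, F)) : Matrix (Fin 2) (Fin 2) F) = (K : Matrix (Fin 2) (Fin 2) F) *
          (A : Matrix (Fin 2) (Fin 2) F) * ((dconj a K⁻¹ : SL(2, F)) : Matrix (Fin 2) (Fin 2) F) := rfl
      rw [hPc, Matrix.mul_assoc, h2]
      simp only [Nm, Matrix.mul_assoc]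
    have h3 := congrFun (congrFun h1 0) 0
    rw [hK] at h3
    simp [Matrix.mul_apply, Fin.sum_univ_two] at h3
    exact h3
  obtain ⟨c', e', hce⟩ := ldu P t hP
  refine ⟨N.φ K, ⟨K, rfl⟩, N.φ K * v' * (N.φ K)⁻¹ * N.φ (lo c'),
    mul_mem (N.Vi_le (N.normV K v' hv')) (N.lo_mem c'),
    N.φ (up (((a⁻¹ : Fˣ) : F) * e')) * (N.φ K * u' * (N.φ K)⁻¹),
    mul_mem (N.up_mem _) (N.Ui_le (N.normU K u' hu')), ?_⟩
  have hconj : h * (N.φ K)⁻¹ = N.φ (dconj a K⁻¹) * h := by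
    rw [← map_inv, ha, ← N.H_conj h hh]
    group
  have hup : N.φ (up e') * h = h * N.φ (up (((a⁻¹ : Fˣ) : F) * e')) := by
    rw [← N.up_comm hh, ← ha, ← mul_assoc, Units.mul_inv, one_mul]
  have e1 : N.φ K * (N.φ A * h) * (N.φ K)⁻¹ = N.φ (lo c') * (N.φ (dia t) * h) * N.φ (up (((a⁻¹ : Fˣ) : F) * e')) := by
    calc N.φ K * (N.φ A * h) * (N.φ K)⁻¹ = N.φ K * N.φ A * (h * (N.φ K)⁻¹) := by group
      _ = N.φ (lo c' * dia t * up e') * h := by rw [hconj, ← hce, map_mul, map_mul]; group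
      _ = N.φ (lo c') * N.φ (dia t) * (N.φ (up e') * h) := by rw [map_mul, map_mul]; group
      _ = _ := by
        rw [hup]
        have : N.φ (up (0 : F)) = 1 := by rw [up_zero, map_one]
        group
  rw [heq, ← hA]
  calc N.φ K * (v' * (N.φ A * h) * u') * (N.φ K)⁻¹
      = (N.φ K * v' * (N.φ K)⁻¹) * (N.φ K * (N.φ A * h) * (N.φ K)⁻¹) * (N.φ K * u' * (N.φ K)⁻¹) := by group
    _ = _ := by rw [e1]; group

/-- the big set is stable under the rank-one image -/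
theorem mul_big (A : SL(2, F)) {g : M}
    (hg : ∃ u ∈ U, ∃ v ∈ V, ∃ h ∈ H, ∃ u' ∈ U, g = u * v * h * u') :
    ∃ u ∈ U, ∃ v ∈ V, ∃ h ∈ H, ∃ u' ∈ U, N.φ A * g = u * v * h * u' := by
  obtain ⟨u, hu, v, hv, h, hh, w, hw, rfl⟩ := hg
  obtain ⟨e, u0, hu0, rfl⟩ := N.U_split u hu
  obtain ⟨c, v0, hv0, rfl⟩ := N.V_split v hv
  obtain ⟨B, hB⟩ : ∃ B, B = A * up e := ⟨_, rfl⟩
  obtain ⟨a', c', t, e', hBc⟩ := uldu (B * lo c)
  obtain ⟨u1, hu1d⟩ : ∃ u1, u1 = N.φ B * u0 * (N.φ B)⁻¹ := ⟨_, rfl⟩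
  obtain ⟨v1, hv1d⟩ : ∃ v1, v1 = N.φ B * v0 * (N.φ B)⁻¹ := ⟨_, rfl⟩
  have hu1 : u1 ∈ N.Ui := hu1d ▸ N.normU B u0 hu0
  have hv1 : v1 ∈ N.Vi := hv1d ▸ N.normV B v0 hv0
  have hv2 : (N.φ (up a'))⁻¹ * v1 * N.φ (up a') ∈ N.Vi := by
    simpa using N.normV (up a')⁻¹ v1 hv1
  refine ⟨u1 * N.φ (up a'), mul_mem (N.Ui_le hu1) (N.up_mem _),
    (N.φ (up a'))⁻¹ * v1 * N.φ (up a') * N.φ (lo c'), mul_mem (N.Vi_le hv2) (N.lo_mem _),
    N.φ (dia t) * h, mul_mem (N.dia_mem t) hh,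
    N.φ (up ((((N.α h)⁻¹ : Fˣ) : F) * e')) * w, mul_mem (N.up_mem _) hw, ?_⟩
  have hup : N.φ (up e') * h = h * N.φ (up ((((N.α h)⁻¹ : Fˣ) : F) * e')) := by
    rw [← N.up_comm hh, ← mul_assoc, Units.mul_inv, one_mul]
  calc N.φ A * (N.φ (up e) * u0 * (v0 * N.φ (lo c)) * h * w)
      = (N.φ B * u0 * (N.φ B)⁻¹) * (N.φ B * v0 * (N.φ B)⁻¹) * (N.φ (B * lo c)) * h * w := by
        rw [hB, map_mul N.φ (A * up e) (lo c), map_mul N.φ A (up e)]; group
    _ = u1 * v1 * (N.φ (up a') * N.φ (lo c') * N.φ (dia t) * N.φ (up e')) * h * w := by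
        rw [← hu1d, ← hv1d, hBc, map_mul, map_mul, map_mul]
    _ = u1 * v1 * (N.φ (up a') * N.φ (lo c') * N.φ (dia t)) * (N.φ (up e') * h) * w := by group
    _ = _ := by rw [hup]; group

end Node

section system

variable {ι : Type*} {Fs : ι → Type*} [∀ i, Field (Fs i)] (N : ∀ i, Node U V H (Fs i))

/-- the group generated by the rank-one images -/
def gen : Subgroup M := Subgroup.closure (⋃ i, ((N i).φ.range : Set M))

theorem range_le (i : ι) : (N i).φ.range ≤ gen N :=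
  fun _ hk => Subgroup.subset_closure (Set.mem_iUnion.2 ⟨i, hk⟩)

/-- every element is conjugate to a form `v h u` -/
theorem exists_form {g : M} (hU : U ≤ gen N) (hg : g ∈ gen N) :
    ∃ k ∈ gen N, ∃ v ∈ V, ∃ h ∈ H, ∃ u ∈ U, k * g * k⁻¹ = v * h * u := by
  have key : ∃ u ∈ U, ∃ v ∈ V, ∃ h ∈ H, ∃ u' ∈ U, g = u * v * h * u' := by
    induction hg using Subgroup.closure_induction_left with
    | one => exact ⟨1, one_mem _, 1, one_mem _, 1, one_mem _, 1, one_mem _, by group⟩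
    | mul_left x hx y _ ih =>
      obtain ⟨i, A, rfl⟩ := Set.mem_iUnion.1 hx
      exact (N i).mul_big A ih
    | inv_mul_cancel x hx y _ ih =>
      obtain ⟨i, A, rfl⟩ := Set.mem_iUnion.1 hx
      rw [← map_inv]
      exact (N i).mul_big A⁻¹ ih
  obtain ⟨u, hu, v, hv, h, hh, u', hu', rfl⟩ := key
  exact ⟨u⁻¹, inv_mem (hU hu), v, hv, h, hh, u' * u, mul_mem hu' hu, by group⟩

/-- a nontrivial element has a nondegenerate form -/
theorem exists_nondeg {g : M} (hU : U ≤ gen N) (hg : g ∈ gen N) (hne : g ≠ 1)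
    (hH : ∀ h ∈ H, (∀ i, (N i).α h = 1) → h = 1) (hUV : U ⊓ V = ⊥)
    (hw0 : ∃ k ∈ gen N, (∀ u ∈ U, k * u * k⁻¹ ∈ V) ∧ ∀ v ∈ V, k⁻¹ * v * k ∈ U) :
    ∃ i, ∃ k ∈ gen N, ∃ v ∈ V, ∃ h ∈ H, ∃ u ∈ U, k * g * k⁻¹ = v * h * u ∧ (N i).Nondeg v h u := by
  by_contra hno
  push Not at hno
  obtain ⟨k0, hk0, v, hv, h, hh, u, hu, heq⟩ := exists_form N hU hg
  have deg : ∀ {k v h u : M}, k ∈ gen N → v ∈ V → h ∈ H → u ∈ U → k * g * k⁻¹ = v * h * u →
      h = 1 ∧ (∀ i, v ∈ (N i).Vi) ∧ ∀ i, u ∈ (N i).Ui := by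
    intro k v h u hk hv hh hu he
    have h' : ∀ i, (N i).α h = 1 ∧ v ∈ (N i).Vi ∧ u ∈ (N i).Ui := fun i => by
      have := hno i k hk v hv h hh u hu he
      simp only [Node.Nondeg, not_or, not_not] at this
      exact this
    exact ⟨hH h hh fun i => (h' i).1, fun i => (h' i).2.1, fun i => (h' i).2.2⟩
  obtain ⟨rfl, -, -⟩ := deg hk0 hv hh hu heq
  rw [mul_one] at heq
  have stable : ∀ k ∈ gen N, k * v * k⁻¹ ∈ V ∧ k * u * k⁻¹ ∈ U := by
    intro k hk
    induction hk using Subgroup.closure_induction_left with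
    | one => simpa using ⟨hv, hu⟩
    | mul_left x hx y hy ih =>
      obtain ⟨i, A, rfl⟩ := Set.mem_iUnion.1 hx
      obtain ⟨-, h1, h2⟩ := deg (k := y * k0) (v := y * v * y⁻¹) (h := 1) (u := y * u * y⁻¹)
        (mul_mem hy hk0) ih.1 (one_mem _) ih.2 (by
          calc y * k0 * g * (y * k0)⁻¹ = y * (k0 * g * k0⁻¹) * y⁻¹ := by group
            _ = _ := by rw [heq]; group)
      constructor
      · have := (N i).Vi_le ((N i).normV A _ (h1 i))
        simpa [mul_assoc] using this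
      · have := (N i).Ui_le ((N i).normU A _ (h2 i))
        simpa [mul_assoc] using this
    | inv_mul_cancel x hx y hy ih =>
      obtain ⟨i, A, rfl⟩ := Set.mem_iUnion.1 hx
      obtain ⟨-, h1, h2⟩ := deg (k := y * k0) (v := y * v * y⁻¹) (h := 1) (u := y * u * y⁻¹)
        (mul_mem hy hk0) ih.1 (one_mem _) ih.2 (by
          calc y * k0 * g * (y * k0)⁻¹ = y * (k0 * g * k0⁻¹) * y⁻¹ := by group
            _ = _ := by rw [heq]; group)
      constructor
      · have := (N i).Vi_le ((N i).normV A⁻¹ _ (h1 i))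
        simpa [mul_assoc] using this
      · have := (N i).Ui_le ((N i).normU A⁻¹ _ (h2 i))
        simpa [mul_assoc] using this
  obtain ⟨n, hn, hnU, hnV⟩ := hw0
  have hu1 : u = 1 := by
    have h1 : n * u * n⁻¹ ∈ U ⊓ V := ⟨(stable n hn).2, hnU u hu⟩
    rw [hUV, Subgroup.mem_bot, mul_inv_eq_one, mul_eq_left] at h1
    exact h1
  have hv1 : v = 1 := by
    have h1 : n⁻¹ * v * n ∈ U ⊓ V := ⟨hnV v hv, by simpa using (stable n⁻¹ (inv_mem hn)).1⟩
    rw [hUV, Subgroup.mem_bot] at h1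
    calc v = n * (n⁻¹ * v * n) * n⁻¹ := by group
      _ = 1 := by rw [h1]; group
  rw [hu1, hv1, mul_one, mul_inv_eq_one, mul_eq_left] at heq
  exact hne heq

end system

end Cfsg.Agent.GaussPrescribed77
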