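import Mathlib
import Cfsg.Agent.Lib.CharBasicDecomp
import Cfsg.Agent.Lib.CharInducedBasic
import Cfsg.Agent.Lib.CharInducedRep

/-!
Generic tools: inner products of induced functions over double cosets, vanishing of twisted sums,
a multiplicity one criterion for induced linear characters, products of irreducible characters.
-/

set_option autoImplicit false

open scoped ComplexConjugate
open Finset

namespace Cfsg.Agent.GelfandGraev88

open Cfsg.Agent.CharInduced (ext_zero_of_mem ext_zero_of_not_mem sum_ext_zero_mul)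

universe u

section Pair

variable {G : Type u} [Group G] [Fintype G]

/-- The Mackey summand of two functions on subgroups at an element. -/
noncomputable def pairSum (H K : Subgroup G) (α : H → ℂ) (β : K → ℂ) (g : G) : ℂ :=
  ∑ x : G, extendByZero H α x * conj (extendByZero K β (g⁻¹ * x * g))

theorem inner_ind_ind (H K : Subgroup G) (α : H → ℂ) (β : K → ℂ) :
    classInner (indFun H α) (indFun K β) =
      (Nat.card H : ℂ)⁻¹ * (Nat.card K : ℂ)⁻¹ * ∑ g : G, pairSum H K α β g := by
  classical
  rw [CharInduced.inner_ind_left H α (CharInduced.isClassFunction_ind K β), classInner]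
  simp only [CharInduced.indFun_apply, map_mul, map_inv₀, map_natCast, map_sum]
  rw [mul_assoc]
  congr 1
  unfold pairSum
  rw [Finset.sum_comm (γ := G), Finset.mul_sum]
  rw [← sum_ext_zero_mul α fun x => (Nat.card K : ℂ)⁻¹ * ∑ g : G, conj (extendByZero K β (g⁻¹ * x * g))]
  refine Finset.sum_congr rfl fun x _ => ?_
  rw [← Finset.mul_sum]
  ring

theorem pairSum_swap (H K : Subgroup G) (α : H → ℂ) (β : K → ℂ) (g : G) :
    pairSum H K α β g = conj (pairSum K H β α g⁻¹) := by
  classical
  unfold pairSum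
  rw [map_sum]
  refine Fintype.sum_equiv (MulAut.conj g⁻¹).toEquiv _ _ fun x => ?_
  simp only [MulEquiv.toEquiv_eq_coe, MulEquiv.coe_toEquiv, MulAut.conj_apply, inv_inv, map_mul,
    Complex.conj_conj]
  rw [show g * (g⁻¹ * x * g) * g⁻¹ = x by group]
  ring

/-- The summand is unchanged along a double coset. -/
theorem pairSum_mul (H K : Subgroup G) {α : H → ℂ} {β : K → ℂ} (hα : IsClassFunction H α)
    (hβ : IsClassFunction K β) {h k : G} (hh : h ∈ H) (hk : k ∈ K) (g : G) :
    pairSum H K α β (h * g * k) = pairSum H K α β g := by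
  classical
  unfold pairSum
  refine Fintype.sum_equiv (MulAut.conj h⁻¹).toEquiv _ _ fun x => ?_
  simp only [MulEquiv.toEquiv_eq_coe, MulEquiv.coe_toEquiv, MulAut.conj_apply, inv_inv]
  have e1 : extendByZero H α (h⁻¹ * x * h) = extendByZero H α x := by
    simpa using CharInduced.ext_zero_conj_inv hα (inv_mem hh) x
  have e2 : extendByZero K β ((h * g * k)⁻¹ * x * (h * g * k)) =
      extendByZero K β (g⁻¹ * (h⁻¹ * x * h) * g) := by
    rw [show (h * g * k)⁻¹ * x * (h * g * k) = k⁻¹ * (g⁻¹ * (h⁻¹ * x * h) * g) * k⁻¹⁻¹ by group]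
    exact CharInduced.ext_zero_conj_inv hβ (inv_mem hk) _
  rw [e1, e2]

/-- The stabiliser of a double coset. -/
noncomputable def stabCard (H K : Subgroup G) (g : G) : ℕ :=
  Nat.card {h : H // g⁻¹ * (h : G) * g ∈ K}

theorem stabCard_pos (H K : Subgroup G) (g : G) : 0 < stabCard H K g := by
  have : Nonempty {h : H // g⁻¹ * (h : G) * g ∈ K} := ⟨⟨1, by simp⟩⟩
  exact Nat.card_pos

/-- Inner product of induced functions from values on representatives of double cosets. -/
theorem inner_ind_ind_reps {ι : Type*} [Fintype ι] (H K : Subgroup G) {α : H → ℂ} {β : K → ℂ}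
    (hα : IsClassFunction H α) (hβ : IsClassFunction K β) (r : ι → G) (v : ι → ℂ)
    (hinj : ∀ i j, ∀ h ∈ H, ∀ k ∈ K, h * r i * k = r j → i = j)
    (hcov : ∀ g, (¬ ∃ i, ∃ h ∈ H, ∃ k ∈ K, h * r i * k = g) → pairSum H K α β g = 0)
    (hval : ∀ i, pairSum H K α β (r i) = (stabCard H K (r i) : ℂ) * v i) :
    classInner (indFun H α) (indFun K β) = ∑ i, v i := by
  classical
  rw [inner_ind_ind]
  let m : ι × H × K → G := fun p => (p.2.1 : G) * r p.1 * (p.2.2 : G)
  have hsum : ∑ g : G, pairSum H K α β g = ∑ p : ι × H × K, v p.1 := by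
    rw [← Finset.sum_fiberwise (Finset.univ : Finset (ι × H × K)) m]
    refine Finset.sum_congr rfl fun g _ => ?_
    by_cases hex : ∃ i, ∃ h ∈ H, ∃ k ∈ K, h * r i * k = g
    · obtain ⟨i, h, hh, k, hk, rfl⟩ := hex
      rw [pairSum_mul H K hα hβ hh hk, hval i]
      have hfst : ∀ p ∈ Finset.univ.filter (fun p => m p = h * r i * k), v p.1 = v i := by
        intro p hp
        have e : (p.2.1 : G) * r p.1 * (p.2.2 : G) = h * r i * k := (Finset.mem_filter.1 hp).2
        rw [hinj p.1 i (h⁻¹ * p.2.1) (mul_mem (inv_mem hh) p.2.1.2) (p.2.2 * k⁻¹)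
          (mul_mem p.2.2.2 (inv_mem hk)) (by
            rw [show h⁻¹ * (p.2.1 : G) * r p.1 * ((p.2.2 : G) * k⁻¹) =
              h⁻¹ * ((p.2.1 : G) * r p.1 * (p.2.2 : G)) * k⁻¹ by group, e]
            group)]
      rw [Finset.sum_congr rfl hfst, Finset.sum_const, nsmul_eq_mul]
      congr 2
      rw [stabCard, ← Fintype.card_subtype, ← Nat.card_eq_fintype_card]
      refine Nat.card_congr
        { toFun := fun s => ⟨(i, ⟨h * (s.1 : G), mul_mem hh s.1.2⟩,
            ⟨((r i)⁻¹ * (s.1 : G) * r i)⁻¹ * k, mul_mem (inv_mem s.2) hk⟩),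
            show h * (s.1 : G) * r i * (((r i)⁻¹ * (s.1 : G) * r i)⁻¹ * k) = h * r i * k by group⟩
          invFun := fun p => ⟨⟨h⁻¹ * (p.1.2.1 : G), mul_mem (inv_mem hh) p.1.2.1.2⟩, ?_⟩
          left_inv := fun s => by ext; simp
          right_inv := fun p => ?_ }
      · have e : (p.1.2.1 : G) * r p.1.1 * (p.1.2.2 : G) = h * r i * k := p.2
        have hi : p.1.1 = i := hinj p.1.1 i (h⁻¹ * p.1.2.1) (mul_mem (inv_mem hh) p.1.2.1.2)
          (p.1.2.2 * k⁻¹) (mul_mem p.1.2.2.2 (inv_mem hk)) (by
            rw [show h⁻¹ * (p.1.2.1 : G) * r p.1.1 * ((p.1.2.2 : G) * k⁻¹) =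
              h⁻¹ * ((p.1.2.1 : G) * r p.1.1 * (p.1.2.2 : G)) * k⁻¹ by group, e]
            group)
        rw [hi] at e
        have e2 : (r i)⁻¹ * (h⁻¹ * (p.1.2.1 : G)) * r i = k * (p.1.2.2 : G)⁻¹ := by
          rw [show (r i)⁻¹ * (h⁻¹ * (p.1.2.1 : G)) * r i =
            (r i)⁻¹ * h⁻¹ * ((p.1.2.1 : G) * r i * (p.1.2.2 : G)) * (p.1.2.2 : G)⁻¹ by group, e]
          group
        change (r i)⁻¹ * (h⁻¹ * (p.1.2.1 : G)) * r i ∈ K
        rw [e2]
        exact mul_mem hk (inv_mem p.1.2.2.2)
      · obtain ⟨⟨i', a, b⟩, hp⟩ := p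
        have hp' : (a : G) * r i' * (b : G) = h * r i * k := hp
        have hi : i' = i := hinj i' i (h⁻¹ * a) (mul_mem (inv_mem hh) a.2) (b * k⁻¹)
          (mul_mem b.2 (inv_mem hk)) (by
            rw [show h⁻¹ * (a : G) * r i' * ((b : G) * k⁻¹) = h⁻¹ * ((a : G) * r i' * (b : G)) * k⁻¹ by
              group, hp']
            group)
        subst hi
        refine Subtype.ext (Prod.ext rfl (Prod.ext (Subtype.ext ?_) (Subtype.ext ?_)))
        · change h * (h⁻¹ * (a : G)) = a
          group
        · change ((r i')⁻¹ * (h⁻¹ * (a : G)) * r i')⁻¹ * k = b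
          rw [show (b : G) = (r i')⁻¹ * (a : G)⁻¹ * (h * r i' * k) by rw [← hp']; group]
          group
    · rw [hcov g hex, Finset.filter_false_of_mem, Finset.sum_empty]
      intro p _ e
      exact hex ⟨p.1, _, p.2.1.2, _, p.2.2.2, e⟩
  rw [hsum, Fintype.sum_prod_type]
  simp only [Finset.sum_const, Finset.card_univ, nsmul_eq_mul, Fintype.card_prod, Nat.cast_mul,
    ← Nat.card_eq_fintype_card]
  rw [← Finset.mul_sum, Nat.card_prod, Nat.cast_mul]
  have h1 : (Nat.card H : ℂ) ≠ 0 := Nat.cast_ne_zero.2 Nat.card_pos.ne'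
  have h2 : (Nat.card K : ℂ) ≠ 0 := Nat.cast_ne_zero.2 Nat.card_pos.ne'
  field_simp

/-- The summand over the elements of the first subgroup. -/
theorem pairSum_eq_sum (H K : Subgroup G) [Fintype H] (α : H → ℂ) (β : K → ℂ) (g : G) :
    pairSum H K α β g = ∑ h : H, α h * conj (extendByZero K β (g⁻¹ * (h : G) * g)) :=
  sum_ext_zero_mul α fun x => conj (extendByZero K β (g⁻¹ * x * g))

/-- The summand over the intersection. -/
theorem pairSum_eq_sum_stab (H K : Subgroup G) (α : H → ℂ) (β : K → ℂ) (g : G)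
    [Fintype {h : H // g⁻¹ * (h : G) * g ∈ K}] :
    pairSum H K α β g =
      ∑ h : {h : H // g⁻¹ * (h : G) * g ∈ K}, α h.1 * conj (β ⟨_, h.2⟩) := by
  classical
  rw [pairSum_eq_sum]
  rw [← Finset.sum_filter_add_sum_filter_not Finset.univ (fun h : H => g⁻¹ * (h : G) * g ∈ K),
    Finset.sum_eq_zero (s := Finset.univ.filter fun h : H => ¬ g⁻¹ * (h : G) * g ∈ K) ?_, add_zero]
  · rw [Finset.sum_subtype (p := fun h : H => g⁻¹ * (h : G) * g ∈ K) _ (fun h => by simp)]
    refine Finset.sum_congr rfl fun h _ => ?_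
    rw [ext_zero_of_mem _ h.2]
  · intro h hh
    rw [ext_zero_of_not_mem _ (Finset.mem_filter.1 hh).2, map_zero, mul_zero]

/-- Vanishing by averaging over a subgroup of the intersection. -/
theorem pairSum_eq_zero (H K X : Subgroup G) (α : H → ℂ) (β : K → ℂ) (g : G) [Fintype X]
    (hH : X ≤ H) (hK : ∀ x ∈ X, g⁻¹ * x * g ∈ K)
    (h0 : ∀ (h : G) (hh : h ∈ H) (hk : g⁻¹ * h * g ∈ K), ∑ x : X,
      α ⟨h * x, mul_mem hh (hH x.2)⟩ *
        conj (β ⟨g⁻¹ * h * g * (g⁻¹ * x * g), mul_mem hk (hK x x.2)⟩) = 0) :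
    pairSum H K α β g = 0 := by
  classical
  let F : G → ℂ := fun y => extendByZero H α y * conj (extendByZero K β (g⁻¹ * y * g))
  have h1 : ∀ x : X, pairSum H K α β g = ∑ y : G, F (y * x) := fun x =>
    (Fintype.sum_equiv (Equiv.mulRight (x : G)) _ F fun y => rfl).symm
  have h2 : (Fintype.card X : ℂ) * pairSum H K α β g = 0 := by
    rw [← nsmul_eq_mul, ← Finset.card_univ, ← Finset.sum_const, Finset.sum_congr rfl fun x _ => h1 x,
      Finset.sum_comm]
    refine Finset.sum_eq_zero fun y _ => ?_
    by_cases hy : y ∈ H ∧ g⁻¹ * y * g ∈ K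
    · rw [← h0 y hy.1 hy.2]
      refine Finset.sum_congr rfl fun x _ => ?_
      simp only [F]
      rw [ext_zero_of_mem α (mul_mem hy.1 (hH x.2))]
      have e : g⁻¹ * (y * (x : G)) * g = g⁻¹ * y * g * (g⁻¹ * x * g) := by group
      rw [e, ext_zero_of_mem β (mul_mem hy.2 (hK x x.2))]
    · refine Finset.sum_eq_zero fun x _ => ?_
      simp only [F]
      rcases not_and_or.1 hy with hy | hy
      · rw [ext_zero_of_not_mem α, zero_mul]
        intro h
        exact hy (by simpa using mul_mem h (inv_mem (hH x.2)))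
      · rw [ext_zero_of_not_mem β, map_zero, mul_zero]
        intro h
        refine hy ?_
        have := mul_mem h (inv_mem (hK x x.2))
        rwa [show g⁻¹ * (y * (x : G)) * g * (g⁻¹ * x * g)⁻¹ = g⁻¹ * y * g by group] at this
  exact (mul_eq_zero.1 h2).resolve_left (Nat.cast_ne_zero.2 Fintype.card_ne_zero)

end Pair

section Rep

variable {G : Type u} [Group G] [Fintype G]

theorem sum_coset_eq_zero {χ : G → ℂ} (hχ : IsCharacter G χ) (X : Subgroup G) [Fintype X]
    (h0 : ∑ x : X, χ x = 0) (g : G) : ∑ x : X, χ (g * x) = 0 := by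
  obtain ⟨n, ρ, rfl⟩ := hχ
  let σ : Representation ℂ X (Fin n → ℂ) := CharBasic.repComap X.subtype ρ
  have hcard : (Fintype.card X : ℂ) ≠ 0 := Nat.cast_ne_zero.2 Fintype.card_ne_zero
  have : Invertible (Fintype.card X : ℂ) := invertibleOfNonzero hcard
  have h1 : Module.finrank ℂ σ.invariants = 0 := by
    have : Invertible (Nat.card X : ℂ) := invertibleOfNonzero (Nat.cast_ne_zero.2 Nat.card_pos.ne')
    have h := Representation.card_inv_mul_sum_char_eq_finrank (ρ := σ)
    have hz : ∑ x : X, σ.character x = 0 := h0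
    rw [hz, mul_zero] at h
    exact_mod_cast h.symm
  have h2 : ∑ x : X, ρ (x : G) = 0 := by
    refine LinearMap.ext fun v => ?_
    have hm : (∑ x : X, ρ (x : G)) v ∈ σ.invariants := by
      rw [Representation.mem_invariants]
      intro y
      change ρ (y : G) ((∑ x : X, ρ (x : G)) v) = _
      simp only [LinearMap.sum_apply, map_sum, ← Module.End.mul_apply, ← map_mul]
      exact Fintype.sum_equiv (Equiv.mulLeft y) _ _ fun x => rfl
    have hb : σ.invariants = ⊥ := Submodule.finrank_eq_zero.1 h1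
    rw [hb, Submodule.mem_bot] at hm
    simpa using hm
  have h3 : ∑ x : X, ρ.character (g * x) = LinearMap.trace ℂ _ (ρ g * ∑ x : X, ρ (x : G)) := by
    simp only [Finset.mul_sum, map_sum, ← map_mul]
    rfl
  rw [h3, h2, mul_zero, map_zero]

/-- Two sums given by Schur's lemma. -/
theorem irr_sum_conj {χ : G → ℂ} (hχ : IsIrrCharacter G χ) (a b : G) :
    ∑ x : G, χ (a * (x * b * x⁻¹)) = (Nat.card G : ℂ) / χ 1 * (χ a * χ b) := by
  obtain ⟨n, ρ, hi, rfl⟩ := hχ
  obtain ⟨c, hc, ht⟩ := CharBasic.exists_scalar_of_commute ρ (∑ x : G, ρ (x * b * x⁻¹)) (by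
    intro g v
    simp only [LinearMap.sum_apply, map_sum, ← Module.End.mul_apply, ← map_mul]
    refine Fintype.sum_equiv (Equiv.mulLeft g⁻¹) _ _ fun x => ?_
    simp [mul_assoc])
  have h1 : ρ.character 1 = (Module.finrank ℂ (Fin n → ℂ) : ℂ) := Representation.char_one ρ
  have hne : ρ.character 1 ≠ 0 := CharBasic.isIrrCharacter_apply_one_ne_zero ⟨n, ρ, hi, rfl⟩
  have h2 : LinearMap.trace ℂ _ (∑ x : G, ρ (x * b * x⁻¹)) = (Nat.card G : ℂ) * ρ.character b := by
    rw [map_sum, Nat.card_eq_fintype_card, ← nsmul_eq_mul, ← Finset.card_univ, ← Finset.sum_const]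
    exact Finset.sum_congr rfl fun x _ => Representation.char_conj ρ b x
  rw [ht, ← h1] at h2
  calc ∑ x : G, ρ.character (a * (x * b * x⁻¹))
      = LinearMap.trace ℂ _ (ρ a * ∑ x : G, ρ (x * b * x⁻¹)) := by
        simp only [Finset.mul_sum, map_sum, ← map_mul]
        rfl
    _ = c * ρ.character a := by
        rw [hc, ← Module.End.one_eq_id, Algebra.mul_smul_comm, mul_one, map_smul, smul_eq_mul]
        rfl
    _ = _ := by rw [div_mul_eq_mul_div, eq_div_iff hne]; linear_combination ρ.character a * h2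

theorem irr_sum_inv {χ : G → ℂ} (hχ : IsIrrCharacter G χ) (a b : G) :
    ∑ x : G, χ (a * x) * χ (b * x⁻¹) = (Nat.card G : ℂ) / χ 1 * χ (a * b) := by
  have hcl : IsClassFunction G χ :=
    CharBasic.isClassFunction_of_isCharacter (CharBasic.isCharacter_of_isIrrCharacter hχ)
  have hn := CharBasicOrth.classInner_irr_self hχ
  obtain ⟨n, ρ, hi, rfl⟩ := hχ
  obtain ⟨c, hc, ht⟩ := CharBasic.exists_scalar_of_commute ρ
    (∑ x : G, ρ.character x • ρ x⁻¹) (CharBasicOrth.smul_sum_commute hcl ρ)
  have h1 : ρ.character 1 = (Module.finrank ℂ (Fin n → ℂ) : ℂ) := Representation.char_one ρ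
  have hne : ρ.character 1 ≠ 0 := CharBasic.isIrrCharacter_apply_one_ne_zero ⟨n, ρ, hi, rfl⟩
  have h2 : LinearMap.trace ℂ _ (∑ x : G, ρ.character x • ρ x⁻¹) = (Nat.card G : ℂ) := by
    rw [map_sum]
    have h := CharBasicOrth.card_mul_classInner ρ.character ρ.character
    rw [hn, mul_one] at h
    rw [h]
    refine Finset.sum_congr rfl fun x _ => ?_
    rw [map_smul, smul_eq_mul, ← CharBasic.character_inv]
    rfl
  rw [ht, ← h1] at h2
  calc ∑ x : G, ρ.character (a * x) * ρ.character (b * x⁻¹)
      = ∑ x : G, ρ.character x * ρ.character (b * (x⁻¹ * a)) := by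
        refine Fintype.sum_equiv (Equiv.mulLeft a) _ _ fun x => ?_
        simp [mul_assoc]
    _ = ∑ x : G, ρ.character x * ρ.character ((a * b) * x⁻¹) := by
        refine Finset.sum_congr rfl fun x _ => ?_
        rw [← mul_assoc b, (CharInduced.isClassFunction_iff_mul_comm _).1 hcl (b * x⁻¹) a, mul_assoc a]
    _ = LinearMap.trace ℂ _ (ρ (a * b) * ∑ x : G, ρ.character x • ρ x⁻¹) := by
        simp only [Finset.mul_sum, map_sum, Algebra.mul_smul_comm, map_smul, smul_eq_mul, ← map_mul]
        rfl
    _ = c * ρ.character (a * b) := by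
        rw [hc, ← Module.End.one_eq_id, Algebra.mul_smul_comm, mul_one, map_smul, smul_eq_mul]
        rfl
    _ = _ := by rw [div_mul_eq_mul_div, eq_div_iff hne]; linear_combination ρ.character (a * b) * h2

end Rep

section MultOne

variable {G : Type u} [Group G] [Fintype G] (U : Subgroup G) [Fintype U] (ψ : U →* ℂ)

/-- The multiplicity of a linear character of a subgroup in a class function. -/
noncomputable def linMult (χ : G → ℂ) : ℂ :=
  (Fintype.card U : ℂ)⁻¹ * ∑ x : U, χ x * conj (ψ x)

open Classical in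
/-- The element supported on the double coset of `a`, twisted by `ψ`. -/
noncomputable def twistFn (a : G) : G → ℂ := fun x =>
  ∑ p : U × U, if (p.1 : G) * a * (p.2 : G) = x then conj (ψ p.1 * ψ p.2) else 0

/-- Convolution. -/
noncomputable def conv (f g : G → ℂ) : G → ℂ := fun x => ∑ y : G, f y * g (y⁻¹ * x)

theorem sum_twistFn (a : G) (F : G → ℂ) :
    ∑ x : G, twistFn U ψ a x * F x =
      ∑ u : U, ∑ v : U, conj (ψ u) * conj (ψ v) * F ((u : G) * a * v) := by
  classical
  simp only [twistFn, Finset.sum_mul, ite_mul, zero_mul]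
  rw [Finset.sum_comm, Fintype.sum_prod_type]
  refine Finset.sum_congr rfl fun u _ => Finset.sum_congr rfl fun v _ => ?_
  rw [Finset.sum_ite_eq, if_pos (Finset.mem_univ _), map_mul]

theorem twistFn_mul (a : G) (s t : U) (x : G) :
    twistFn U ψ a ((s : G) * x * t) = conj (ψ s) * conj (ψ t) * twistFn U ψ a x := by
  classical
  simp only [twistFn, Finset.mul_sum]
  refine (Fintype.sum_equiv ((Equiv.mulLeft s).prodCongr (Equiv.mulRight t)) _ _ fun p => ?_).symm
  simp only [Equiv.prodCongr_apply, Prod.map_fst, Prod.map_snd, Equiv.coe_mulLeft,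
    Equiv.coe_mulRight, Subgroup.coe_mul, mul_ite, mul_zero]
  refine if_congr ?_ ?_ rfl
  · constructor
    · intro e
      rw [← e]
      group
    · intro e
      exact mul_left_cancel (a := (s : G)) (mul_right_cancel (b := (t : G)) (by
        rw [← e]
        group))
  · simp only [map_mul]
    ring

theorem conv_mul {f g : G → ℂ} {c d : ℂ} (s t : G)
    (hf : ∀ z, f (s * z) = c * f z) (hg : ∀ z, g (z * t) = d * g z) (x : G) :
    conv f g (s * x * t) = c * d * conv f g x := by
  simp only [conv, Finset.mul_sum]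
  refine (Fintype.sum_equiv (Equiv.mulLeft s) _ _ fun z => ?_).symm
  simp only [Equiv.coe_mulLeft]
  rw [hf, show (s * z)⁻¹ * (s * x * t) = z⁻¹ * x * t by group, hg]
  ring

theorem sum_conv (f g : G → ℂ) (F : G → ℂ) :
    ∑ y : G, ∑ z : G, f y * g z * F (y * z) = ∑ x : G, conv f g x * F x := by
  simp only [conv, Finset.sum_mul]
  rw [Finset.sum_comm (γ := G) (f := fun x y => f y * g (y⁻¹ * x) * F x)]
  refine Finset.sum_congr rfl fun y _ => ?_
  exact Fintype.sum_equiv (Equiv.mulLeft y) _ _ fun z => by simp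

theorem twistFn_conv_comm (ι : G ≃ G) (hι : ∀ a b, ι (a * b) = ι b * ι a)
    (hfix : ∀ f : G → ℂ, (∀ (s t : U) (x : G), f ((s : G) * x * t) = ψ s * ψ t * f x) →
      ∀ x, f (ι x) = f x)
    (a b : G) : conv (twistFn U ψ a) (twistFn U ψ b) = conv (twistFn U ψ b) (twistFn U ψ a) := by
  classical
  have hfix' : ∀ f : G → ℂ, (∀ (s t : U) (x : G), f ((s : G) * x * t) = conj (ψ s) * conj (ψ t) * f x) →
      ∀ x, f (ι x) = f x := by
    intro f hf x
    have := hfix (fun y => conj (f y)) (fun s t y => by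
      simp only [hf, map_mul, Complex.conj_conj]) x
    simpa using congrArg conj this
  set f := twistFn U ψ a with hf
  set g := twistFn U ψ b with hg
  have fA : ∀ x, f (ι x) = f x := hfix' _ (twistFn_mul U ψ a)
  have gA : ∀ x, g (ι x) = g x := hfix' _ (twistFn_mul U ψ b)
  have hfg : ∀ x, conv f g (ι x) = conv f g x := hfix' _ fun s t x => by
    refine conv_mul (s : G) (t : G) (fun z => ?_) (fun z => ?_) x
    · have := twistFn_mul U ψ a s 1 z
      simpa using this
    · have := twistFn_mul U ψ b 1 t z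
      simpa using this
  funext x
  rw [← hfg x]
  have hone : ι 1 = 1 := by
    have := hι 1 1
    rw [one_mul] at this
    exact mul_eq_left.1 this.symm
  have hinv : ∀ z, ι z⁻¹ = (ι z)⁻¹ := fun z => by
    refine eq_inv_of_mul_eq_one_left ?_
    rw [← hι, mul_inv_cancel, hone]
  calc conv f g (ι x) = ∑ z : G, f (ι z) * g ((ι z)⁻¹ * ι x) :=
        (Fintype.sum_equiv ι _ _ fun z => rfl).symm
    _ = ∑ z : G, f z * g (x * z⁻¹) := by
        refine Finset.sum_congr rfl fun z _ => ?_
        rw [← hinv, ← hι, fA, gA]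
    _ = conv g f x := by
        refine (Fintype.sum_equiv ((Equiv.inv G).trans (Equiv.mulRight x)) _ _ fun w => ?_).symm
        rw [Equiv.trans_apply, Equiv.inv_apply, Equiv.coe_mulRight]
        rw [show x * (w⁻¹ * x)⁻¹ = w by group]
        ring

/-- Multiplicity one. -/
theorem linMult_sq (ι : G ≃ G) (hι : ∀ a b, ι (a * b) = ι b * ι a)
    (hfix : ∀ f : G → ℂ, (∀ (s t : U) (x : G), f ((s : G) * x * t) = ψ s * ψ t * f x) →
      ∀ x, f (ι x) = f x)
    {χ : G → ℂ} (hχ : IsIrrCharacter G χ) :
    linMult U ψ χ = 0 ∨ linMult U ψ χ * linMult U ψ χ = 1 := by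
  classical
  have hcl : IsClassFunction G χ :=
    CharBasic.isClassFunction_of_isCharacter (CharBasic.isCharacter_of_isIrrCharacter hχ)
  have hcomm := (CharInduced.isClassFunction_iff_mul_comm χ).1 hcl
  set c : ℂ := (Nat.card G : ℂ) / χ 1 with hc
  have hc0 : c ≠ 0 := div_ne_zero (Nat.cast_ne_zero.2 Nat.card_pos.ne')
    (CharBasic.isIrrCharacter_apply_one_ne_zero hχ)
  set N : ℂ := (Fintype.card U : ℂ) with hN
  have hN0 : N ≠ 0 := Nat.cast_ne_zero.2 Fintype.card_ne_zero
  set m := linMult U ψ χ with hm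
  have hsum : ∑ x : U, χ x * conj (ψ x) = N * m := by
    rw [hm, linMult, ← hN]
    field_simp
  let T : G → G → ℂ := fun a b => ∑ y : G, ∑ z : G,
    twistFn U ψ a y * twistFn U ψ b z * χ (y * z * a⁻¹ * b⁻¹)
  let T' : G → G → ℂ := fun a b => ∑ y : G, ∑ z : G,
    twistFn U ψ b y * twistFn U ψ a z * χ (y * z * a⁻¹ * b⁻¹)
  have hTT : ∀ a b, T a b = T' a b := fun a b => by
    simp only [T, T']
    rw [sum_conv _ _ fun x => χ (x * a⁻¹ * b⁻¹), sum_conv _ _ fun x => χ (x * a⁻¹ * b⁻¹),
      twistFn_conv_comm U ψ ι hι hfix a b]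
  let e : U → U → U → U → ℂ := fun u v w t => conj (ψ u) * conj (ψ v) * (conj (ψ w) * conj (ψ t))
  have hexp : ∀ (a b : G) (F : G → ℂ), ∑ y : G, ∑ z : G, twistFn U ψ a y * twistFn U ψ b z * F (y * z) =
      ∑ u : U, ∑ v : U, ∑ w : U, ∑ t : U, e u v w t * F ((u : G) * a * v * ((w : G) * b * t)) := by
    intro a b F
    calc _ = ∑ y : G, twistFn U ψ a y * ∑ z : G, twistFn U ψ b z * F (y * z) := by
          simp only [Finset.mul_sum, mul_assoc]
      _ = _ := by
          rw [sum_twistFn U ψ a]
          refine Finset.sum_congr rfl fun u _ => Finset.sum_congr rfl fun v _ => ?_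
          rw [sum_twistFn U ψ b]
          simp only [Finset.mul_sum, e]
          exact Finset.sum_congr rfl fun w _ => Finset.sum_congr rfl fun t _ => by ring
  have hswap : ∀ g : G → G → U → U → U → U → ℂ,
      ∑ a : G, ∑ b : G, ∑ u : U, ∑ v : U, ∑ w : U, ∑ t : U, g a b u v w t =
        ∑ u : U, ∑ v : U, ∑ w : U, ∑ t : U, ∑ a : G, ∑ b : G, g a b u v w t := by
    intro g
    calc _ = ∑ q : G × G, ∑ p : U × U × U × U, g q.1 q.2 p.1 p.2.1 p.2.2.1 p.2.2.2 := by
          simp only [Fintype.sum_prod_type]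
      _ = ∑ p : U × U × U × U, ∑ q : G × G, g q.1 q.2 p.1 p.2.1 p.2.2.1 p.2.2.2 := Finset.sum_comm
      _ = _ := by simp only [Fintype.sum_prod_type]
  have hL : ∑ a : G, ∑ b : G, T a b = c * c * (N * N * N * (N * m)) := by
    calc ∑ a : G, ∑ b : G, T a b
        = ∑ u : U, ∑ v : U, ∑ w : U, ∑ t : U, ∑ a : G, ∑ b : G,
            e u v w t * χ ((u : G) * a * v * ((w : G) * b * t) * a⁻¹ * b⁻¹) := by
          rw [← hswap]
          exact Finset.sum_congr rfl fun a _ => Finset.sum_congr rfl fun b _ =>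
            hexp a b fun x => χ (x * a⁻¹ * b⁻¹)
      _ = ∑ u : U, ∑ v : U, ∑ w : U, ∑ t : U, e u v w t * (c * c * χ ((v : G) * w * u * t)) := by
          refine Finset.sum_congr rfl fun u _ => Finset.sum_congr rfl fun v _ =>
            Finset.sum_congr rfl fun w _ => Finset.sum_congr rfl fun t _ => ?_
          simp only [← Finset.mul_sum]
          congr 1
          calc ∑ a : G, ∑ b : G, χ ((u : G) * a * v * ((w : G) * b * t) * a⁻¹ * b⁻¹)
              = ∑ a : G, c * (χ ((u : G) * a * v * w) * χ ((t : G) * a⁻¹)) := by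
                refine Finset.sum_congr rfl fun a _ => ?_
                rw [hc, ← irr_sum_conj hχ]
                exact Finset.sum_congr rfl fun b _ => congrArg χ (by group)
            _ = c * ∑ a : G, χ ((v : G) * w * u * a) * χ ((t : G) * a⁻¹) := by
                rw [Finset.mul_sum]
                refine Finset.sum_congr rfl fun a _ => ?_
                rw [show (u : G) * a * v * w = ((u : G) * a) * ((v : G) * w) by group, hcomm]
                simp only [mul_assoc]
            _ = c * c * χ ((v : G) * w * u * t) := by rw [irr_sum_inv hχ, ← hc]; ring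
      _ = ∑ u : U, ∑ v : U, ∑ w : U, c * c * (N * m) := by
          refine Finset.sum_congr rfl fun u _ => Finset.sum_congr rfl fun v _ =>
            Finset.sum_congr rfl fun w _ => ?_
          rw [← hsum, Finset.mul_sum]
          refine Fintype.sum_equiv (Equiv.mulLeft (v * w * u)) _ _ fun t => ?_
          simp only [Equiv.coe_mulLeft, Subgroup.coe_mul, map_mul, e]
          ring
      _ = _ := by
          simp only [Finset.sum_const, Finset.card_univ, nsmul_eq_mul, ← hN]
          ring
  have hR : ∑ a : G, ∑ b : G, T' a b = c * c * ((N * m) * (N * (N * m)) * (N * m)) := by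
    calc ∑ a : G, ∑ b : G, T' a b
        = ∑ u : U, ∑ v : U, ∑ w : U, ∑ t : U, ∑ a : G, ∑ b : G,
            e u v w t * χ ((u : G) * b * v * ((w : G) * a * t) * a⁻¹ * b⁻¹) := by
          rw [← hswap]
          exact Finset.sum_congr rfl fun a _ => Finset.sum_congr rfl fun b _ =>
            hexp b a fun x => χ (x * a⁻¹ * b⁻¹)
      _ = ∑ u : U, ∑ v : U, ∑ w : U, ∑ t : U,
            e u v w t * (c * c * (χ u * χ ((v : G) * w) * χ t)) := by
          refine Finset.sum_congr rfl fun u _ => Finset.sum_congr rfl fun v _ =>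
            Finset.sum_congr rfl fun w _ => Finset.sum_congr rfl fun t _ => ?_
          simp only [← Finset.mul_sum]
          congr 1
          rw [Finset.sum_comm]
          calc ∑ b : G, ∑ a : G, χ ((u : G) * b * v * ((w : G) * a * t) * a⁻¹ * b⁻¹)
              = ∑ b : G, c * (χ (b⁻¹ * u * b * v * w) * χ (t : G)) := by
                refine Finset.sum_congr rfl fun b _ => ?_
                rw [hc, ← irr_sum_conj hχ]
                refine Finset.sum_congr rfl fun a _ => ?_
                rw [show b⁻¹ * (u : G) * b * v * w * (a * t * a⁻¹) =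
                  b⁻¹ * ((u : G) * b * v * w * (a * t * a⁻¹)) by group, hcomm b⁻¹]
                exact congrArg χ (by group)
            _ = c * (∑ b : G, χ ((u : G) * (b * ((v : G) * w) * b⁻¹))) * χ (t : G) := by
                rw [Finset.mul_sum, Finset.sum_mul]
                refine Finset.sum_congr rfl fun b _ => ?_
                rw [show b⁻¹ * (u : G) * b * v * w = b⁻¹ * ((u : G) * b * v * w) by group, hcomm b⁻¹]
                simp only [mul_assoc]
            _ = _ := by rw [irr_sum_conj hχ, ← hc]; ring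
      _ = c * c * ((∑ u : U, χ u * conj (ψ u)) *
            (∑ v : U, ∑ w : U, χ ((v : G) * w) * conj (ψ (v * w))) * (∑ t : U, χ t * conj (ψ t))) := by
          rw [Finset.sum_mul, Finset.sum_mul, Finset.mul_sum]
          refine Finset.sum_congr rfl fun u _ => ?_
          rw [Finset.mul_sum (s := (Finset.univ : Finset U)) (f := fun v : U => ∑ w : U, _),
            Finset.sum_mul, Finset.mul_sum]
          refine Finset.sum_congr rfl fun v _ => ?_
          rw [Finset.mul_sum (a := χ u * conj (ψ u)), Finset.sum_mul, Finset.mul_sum]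
          refine Finset.sum_congr rfl fun w _ => ?_
          rw [Finset.mul_sum, Finset.mul_sum]
          refine Finset.sum_congr rfl fun t _ => ?_
          simp only [e, map_mul]
          ring
      _ = _ := by
          have h2 : ∀ v : U, ∑ w : U, χ ((v : G) * w) * conj (ψ (v * w)) = N * m := fun v => by
            rw [← hsum]
            exact Fintype.sum_equiv (Equiv.mulLeft v) _ _ fun w => rfl
          rw [hsum, Finset.sum_congr rfl fun v _ => h2 v, Finset.sum_const, Finset.card_univ,
            nsmul_eq_mul, ← hN]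
  have hkey : c * c * (N * N * N * (N * m)) = c * c * ((N * m) * (N * (N * m)) * (N * m)) := by
    rw [← hL, ← hR]
    exact Finset.sum_congr rfl fun a _ => Finset.sum_congr rfl fun b _ => hTT a b
  by_cases hm0 : m = 0
  · exact Or.inl hm0
  · refine Or.inr ?_
    have : c * c * (N * N * N * N) * m ≠ 0 := by
      simp [hc0, hN0, hm0]
    refine (mul_left_cancel₀ this ?_)
    linear_combination -hkey

end MultOne

section Fibre

variable {A B : Type*} [Group A] [Group B] [Fintype A] [Fintype B]

theorem card_mul_sum_comp (φ : A →* B) (hφ : Function.Surjective φ) (f : B → ℂ) :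
    (Fintype.card B : ℂ) * ∑ a : A, f (φ a) = (Fintype.card A : ℂ) * ∑ b : B, f b := by
  classical
  have h1 : ∀ b, (Finset.univ.filter fun a => φ a = b).card =
      (Finset.univ.filter fun a => φ a = 1).card := by
    intro b
    obtain ⟨a0, rfl⟩ := hφ b
    refine Finset.card_bij (fun a _ => a0⁻¹ * a) (fun a ha => ?_) (fun a _ a' _ e => mul_left_cancel e)
      (fun a ha => ⟨a0 * a, ?_, by group⟩)
    · rw [Finset.mem_filter] at ha ⊢
      exact ⟨Finset.mem_univ _, by rw [map_mul, map_inv, ha.2, inv_mul_cancel]⟩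
    · rw [Finset.mem_filter] at ha ⊢
      exact ⟨Finset.mem_univ _, by rw [map_mul, ha.2, mul_one]⟩
  have h2 : Fintype.card A = Fintype.card B * (Finset.univ.filter fun a => φ a = 1).card := by
    rw [← Finset.card_univ, Finset.card_eq_sum_card_fiberwise (f := φ) (t := Finset.univ)
      (fun _ _ => Finset.mem_univ _), Finset.sum_congr rfl fun b _ => h1 b, Finset.sum_const,
      Finset.card_univ, smul_eq_mul]
  rw [← Finset.sum_fiberwise (Finset.univ : Finset A) φ, h2, Nat.cast_mul, mul_assoc, Finset.mul_sum,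
    Finset.mul_sum, Finset.mul_sum]
  refine Finset.sum_congr rfl fun b _ => ?_
  rw [Finset.sum_congr rfl (g := fun _ => f b) fun a ha => by rw [(Finset.mem_filter.1 ha).2],
    Finset.sum_const, nsmul_eq_mul, h1 b]

end Fibre

section Positivity

variable {G : Type u} [Group G] [Fintype G]

theorem sum_sub_eq_nat {χ : G → ℂ} (hχ : IsCharacter G χ) (X : Subgroup G) [Fintype X] :
    ∃ k : ℕ, ∑ x : X, χ x = k := by
  obtain ⟨k, hk⟩ := CharBasicOrth.classInner_isCharacter
    (CharBasic.isCharacter_comap X.subtype hχ) (CharBasicDecomp.isCharacter_one (G := X))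
  refine ⟨Fintype.card X * k, ?_⟩
  rw [classInner] at hk
  simp only [map_one, mul_one, Nat.card_eq_fintype_card, Subgroup.coe_subtype, Function.comp_apply] at hk
  rw [Nat.cast_mul, ← hk, ← mul_assoc,
    mul_inv_cancel₀ (Nat.cast_ne_zero.2 Fintype.card_ne_zero), one_mul]

/-- A nonzero average of a constituent gives a nonzero average of the character. -/
theorem sum_sub_ne_zero {χ : G → ℂ} (hχ : IsCharacter G χ) (η : IrrCharacter G)
    (hη : classInner χ η ≠ 0) (X : Subgroup G) [Fintype X] (h : ∑ x : X, (η : G → ℂ) x ≠ 0) :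
    ∑ x : X, χ x ≠ 0 := by
  obtain ⟨m, hm, hsum⟩ := CharBasicDecomp.exists_mult hχ
  choose k hk using fun θ : IrrCharacter G =>
    sum_sub_eq_nat (CharBasic.isCharacter_of_isIrrCharacter θ.2) X
  have h1 : ∑ x : X, χ x = ((∑ θ : IrrCharacter G, m θ * k θ : ℕ) : ℂ) := by
    conv_lhs => rw [hsum]
    simp only [Finset.sum_apply, Pi.smul_apply, smul_eq_mul, Nat.cast_sum, Nat.cast_mul]
    rw [Finset.sum_comm]
    refine Finset.sum_congr rfl fun θ _ => ?_
    rw [← hk, Finset.mul_sum]
  rw [h1, Nat.cast_ne_zero]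
  intro h0
  have := (Finset.sum_eq_zero_iff.1 h0) η (Finset.mem_univ _)
  rw [hm] at hη
  rw [hk] at h
  rcases Nat.mul_eq_zero.1 this with e | e
  · exact hη (by rw [e, Nat.cast_zero])
  · exact h (by rw [e, Nat.cast_zero])

end Positivity

section Products

variable {κ : Type} [Fintype κ] {G : κ → Type u} [∀ i, Group (G i)] [∀ i, Fintype (G i)]

/-- The product function. -/
def prodFun (σ : ∀ i, G i → ℂ) : (∀ i, G i) → ℂ := fun g => ∏ i, σ i (g i)

theorem classInner_prodFun [DecidableEq κ] (σ τ : ∀ i, G i → ℂ) :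
    classInner (prodFun σ) (prodFun τ) = ∏ i, classInner (σ i) (τ i) := by
  simp only [classInner, prodFun]
  rw [Finset.prod_mul_distrib, Finset.prod_inv_distrib, Nat.card_pi, Nat.cast_prod]
  congr 1
  simp only [map_prod, ← Finset.prod_mul_distrib]
  rw [Fintype.prod_sum fun i x => σ i x * conj (τ i x)]

theorem isIrrCharacter_prodFun [DecidableEq κ] {σ : ∀ i, G i → ℂ}
    (h : ∀ i, IsIrrCharacter (G i) (σ i)) : IsIrrCharacter (∀ i, G i) (prodFun σ) := by
  rw [CharBasicDecomp.isIrrCharacter_iff]
  refine ⟨?_, ?_⟩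
  · have key : ∀ s : Finset κ, IsCharacter (∀ i, G i) (fun g => ∏ i ∈ s, σ i (g i)) := by
      intro s
      induction s using Finset.induction with
      | empty => simpa using CharBasicDecomp.isCharacter_one (G := ∀ i, G i)
      | insert a s ha ih =>
        have h1 := CharBasic.isCharacter_comap (Pi.evalMonoidHom G a)
          (CharBasic.isCharacter_of_isIrrCharacter (h a))
        have h2 := CharBasicDecomp.isCharacter_mul h1 ih
        refine (congrArg _ ?_).mp h2
        funext g
        simp [Finset.prod_insert ha]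
    exact key Finset.univ
  · rw [classInner_prodFun]
    exact Finset.prod_eq_one fun i _ => CharBasicOrth.classInner_irr_self (h i)

/-- Products of irreducible characters detect class functions on a product. -/
theorem exists_prodFun_inner_ne_zero [DecidableEq κ] {F : (∀ i, G i) → ℂ}
    (hF : IsClassFunction (∀ i, G i) F) (h0 : F ≠ 0) :
    ∃ σ : ∀ i, IrrCharacter (G i), classInner F (prodFun fun i => (σ i : G i → ℂ)) ≠ 0 := by
  classical
  by_contra hall
  push Not at hall
  refine h0 (CharBasicOrth.eq_zero_of_forall_classInner hF fun χ hχ => ?_)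
  -- expand an irreducible character of the product by class indicators
  have hχc : IsClassFunction (∀ i, G i) χ :=
    CharBasic.isClassFunction_of_isCharacter (CharBasic.isCharacter_of_isIrrCharacter hχ)
  let ind : ∀ i, G i → G i → ℂ := fun i a => fun x => if IsConj a x then 1 else 0
  have h1 : ∀ a : ∀ i, G i, classInner F (prodFun fun i => ind i (a i)) = 0 := by
    intro a
    have he : (prodFun fun i => ind i (a i)) =
        ∑ σ : ∀ i, IrrCharacter (G i), (∏ i, classInner (ind i (a i)) (σ i : G i → ℂ)) •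
          prodFun fun i => (σ i : G i → ℂ) := by
      funext g
      simp only [Finset.sum_apply, Pi.smul_apply, smul_eq_mul, prodFun, ← Finset.prod_mul_distrib]
      rw [← Fintype.prod_sum fun i (χ : IrrCharacter (G i)) =>
        classInner (ind i (a i)) (χ : G i → ℂ) * (χ : G i → ℂ) (g i)]
      refine Finset.prod_congr rfl fun i _ => ?_
      have hic : IsClassFunction (G i) (ind i (a i)) := CharBasicOrth.isClassFunction_indicator (a i)
      have := congrFun (CharBasicOrth.eq_sum_classInner hic) (g i)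
      simpa only [Finset.sum_apply, Pi.smul_apply, smul_eq_mul] using this
    rw [he, CharBasicOrth.classInner_sum_right]
    exact Finset.sum_eq_zero fun σ _ => by
      rw [CharBasicOrth.classInner_smul_right, hall, mul_zero]
  let w : (∀ i, G i) → ℂ := fun g => ((Finset.univ.filter fun a => IsConj a g).card : ℂ)
  have hconj : ∀ a g : ∀ i, G i, (∀ i, IsConj (a i) (g i)) → IsConj a g := by
    intro a g h
    simp only [isConj_iff] at h ⊢
    choose c hc using h
    exact ⟨c, funext fun i => by simpa using hc i⟩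
  have hconj' : ∀ a g : ∀ i, G i, IsConj a g → ∀ i, IsConj (a i) (g i) := fun a g h i =>
    (Pi.evalMonoidHom G i).map_isConj h
  have hp : ∀ a g : ∀ i, G i, (prodFun fun i => ind i (a i)) g = if IsConj a g then 1 else 0 := by
    intro a g
    simp only [prodFun, ind]
    by_cases hag : IsConj a g
    · rw [if_pos hag]
      exact Finset.prod_eq_one fun i _ => if_pos (hconj' a g hag i)
    · rw [if_neg hag]
      obtain ⟨i, hi⟩ : ∃ i, ¬ IsConj (a i) (g i) := by
        by_contra hne
        push Not at hne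
        exact hag (hconj a g hne)
      exact Finset.prod_eq_zero (Finset.mem_univ i) (if_neg hi)
  have hw : ∀ g, w g ≠ 0 := fun g =>
    Nat.cast_ne_zero.2 (Finset.card_ne_zero.2 ⟨g, Finset.mem_filter.2 ⟨Finset.mem_univ _, IsConj.refl g⟩⟩)
  have h2 : χ = ∑ a : ∀ i, G i, (χ a / w a) • prodFun fun i => ind i (a i) := by
    funext g
    simp only [Finset.sum_apply, Pi.smul_apply, smul_eq_mul, hp, mul_ite, mul_one, mul_zero]
    rw [← Finset.sum_filter]
    have hfib : ∀ a ∈ Finset.univ.filter (fun a => IsConj a g), χ a / w a = χ g / w g := by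
      intro a ha
      have hag := (Finset.mem_filter.1 ha).2
      have e1 : χ a = χ g := CharBasic.apply_eq_of_isConj hχc hag
      have e2 : w a = w g := by
        simp only [w]
        congr 2
        ext b
        simp only [Finset.mem_filter, Finset.mem_univ, true_and]
        exact ⟨fun h => h.trans hag, fun h => h.trans hag.symm⟩
      rw [e1, e2]
    rw [Finset.sum_congr rfl hfib, Finset.sum_const, nsmul_eq_mul]
    change χ g = w g * (χ g / w g)
    rw [mul_div_cancel₀ _ (hw g)]
  rw [h2, CharBasicOrth.classInner_sum_right]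
  exact Finset.sum_eq_zero fun a _ => by rw [CharBasicOrth.classInner_smul_right, h1, mul_zero]

end Products

end Cfsg.Agent.GelfandGraev88
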