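import Mathlib
import Cfsg.Agent.Lib.GLUnipotentDC
import Cfsg.Agent.Lib.GelfandGraev88Base

/-!
The upper unitriangular group of `GL_n`, its generic linear character, monomial representatives
and the classification of the double cosets supporting the generic character.
-/

set_option autoImplicit false

open scoped MatrixGroups ComplexConjugate
open Finset

namespace Cfsg.Agent.GelfandGraev88

open Cfsg.Agent.GLUnipotentDC (permGL permGL_coe permGL_mul_apply mul_permGL_apply)

/-! ### Monotone labels -/

section Runs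

variable {n : ℕ} {α : Type*} [LinearOrder α] (L : Fin n → α)

theorem mem_lower_iff (p : Fin n → Prop) [DecidablePred p] (hp : ∀ x y, x ≤ y → p y → p x) (x : Fin n) :
    p x ↔ x.val < (Finset.univ.filter p).card := by
  constructor
  · intro h
    have : Finset.Iic x ⊆ Finset.univ.filter p := fun y hy =>
      Finset.mem_filter.2 ⟨Finset.mem_univ _, hp y x (Finset.mem_Iic.1 hy) h⟩
    have := Finset.card_le_card this
    rw [Fin.card_Iic] at this
    omega
  · intro h
    by_contra hx
    have : Finset.univ.filter p ⊆ Finset.Iio x := fun y hy =>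
      Finset.mem_Iio.2 (lt_of_not_ge fun hxy => hx (hp x y hxy (Finset.mem_filter.1 hy).2))
    have := Finset.card_le_card this
    rw [Fin.card_Iio] at this
    omega

/-- The start of the run of a position. -/
def runLo (a : Fin n) : ℕ := (Finset.univ.filter fun x => L x < L a).card

/-- The end of the run of a position. -/
def runHi (a : Fin n) : ℕ := (Finset.univ.filter fun x => L x ≤ L a).card

theorem runHi_le (a : Fin n) : runHi L a ≤ n := by
  unfold runHi
  exact le_trans (Finset.card_le_univ _) (le_of_eq (Fintype.card_fin n))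

variable {L}

theorem lt_label_iff (hL : Monotone L) (a x : Fin n) : L x < L a ↔ x.val < runLo L a :=
  mem_lower_iff (fun x => L x < L a) (fun _ _ h h' => lt_of_le_of_lt (hL h) h') x

theorem le_label_iff (hL : Monotone L) (a x : Fin n) : L x ≤ L a ↔ x.val < runHi L a :=
  mem_lower_iff (fun x => L x ≤ L a) (fun _ _ h h' => (hL h).trans h') x

theorem eq_label_iff (hL : Monotone L) (a x : Fin n) :
    L x = L a ↔ runLo L a ≤ x.val ∧ x.val < runHi L a := by
  rw [← le_label_iff hL, ← not_lt, ← lt_label_iff hL, not_lt]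
  exact ⟨fun h => ⟨h.ge, h.le⟩, fun h => le_antisymm h.2 h.1⟩

theorem self_run (hL : Monotone L) (a : Fin n) : runLo L a ≤ a.val ∧ a.val < runHi L a :=
  (eq_label_iff hL a a).1 rfl

theorem runs_congr {a x : Fin n} (h : L x = L a) : runLo L x = runLo L a ∧ runHi L x = runHi L a := by
  simp [runLo, runHi, h]

/-- Reversal inside every run. -/
def runRevFun (hL : Monotone L) (a : Fin n) : Fin n :=
  ⟨runLo L a + runHi L a - 1 - a.val, by
    have := self_run hL a
    have := runHi_le L a
    omega⟩

theorem label_runRevFun (hL : Monotone L) (a : Fin n) : L (runRevFun hL a) = L a := by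
  rw [eq_label_iff hL]
  have := self_run hL a
  simp only [runRevFun]
  omega

theorem runRevFun_invol (hL : Monotone L) (a : Fin n) : runRevFun hL (runRevFun hL a) = a := by
  obtain ⟨h1, h2⟩ := runs_congr (label_runRevFun hL a)
  have := self_run hL a
  apply Fin.ext
  simp only [runRevFun] at h1 h2 ⊢
  rw [h1, h2]
  omega

/-- Reversal inside every run, as a permutation. -/
def runRev (hL : Monotone L) : Equiv.Perm (Fin n) :=
  Function.Involutive.toPerm (runRevFun hL) (runRevFun_invol hL)

theorem label_runRev (hL : Monotone L) (a : Fin n) : L (runRev hL a) = L a := label_runRevFun hL a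

theorem runRev_val (hL : Monotone L) (a : Fin n) :
    (runRev hL a).val = runLo L a + runHi L a - 1 - a.val := rfl

theorem runRev_runRev (hL : Monotone L) (a : Fin n) : runRev hL (runRev hL a) = a := runRevFun_invol hL a

/-- The permutation reversing the order of the runs. -/
def runSwap (hL : Monotone L) : Equiv.Perm (Fin n) := (runRev hL).trans Fin.revPerm

theorem runSwap_val (hL : Monotone L) (a : Fin n) :
    (runSwap hL a).val = n - ((runRev hL a).val + 1) := by
  simp [runSwap, Fin.val_rev]

theorem runSwap_same (hL : Monotone L) {a b : Fin n} (hab : a ≤ b) (h : L a = L b) :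
    (runSwap hL b).val = (runSwap hL a).val + (b.val - a.val) := by
  obtain ⟨h1, h2⟩ := runs_congr h
  have := self_run hL a
  have := self_run hL b
  have := runHi_le L a
  have : a.val ≤ b.val := hab
  rw [runSwap_val, runSwap_val, runRev_val, runRev_val, h1, h2]
  rw [h1, h2] at *
  omega

theorem runSwap_lt (hL : Monotone L) {a b : Fin n} (h : L a < L b) : runSwap hL b < runSwap hL a := by
  have h' : L (runRev hL a) < L (runRev hL b) := by rwa [label_runRev hL, label_runRev hL]
  have h3 : runRev hL a < runRev hL b := lt_of_not_ge fun hle => not_lt.2 (hL hle) h'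
  simp [runSwap, h3]

theorem eq_of_same_order {σ τ : Equiv.Perm (Fin n)} (h : ∀ a b, σ a < σ b ↔ τ a < τ b) : σ = τ := by
  have key : ∀ (ρ : Equiv.Perm (Fin n)) a, (ρ a).val = (Finset.univ.filter fun x => ρ x < ρ a).card := by
    intro ρ a
    rw [← Fin.card_Iio (ρ a)]
    exact (Finset.card_bij (fun x _ => ρ x) (fun x hx => Finset.mem_Iio.2 (Finset.mem_filter.1 hx).2)
      (fun x _ y _ e => ρ.injective e) (fun y hy => ⟨ρ.symm y,
        Finset.mem_filter.2 ⟨Finset.mem_univ _, by simpa using Finset.mem_Iio.1 hy⟩, by simp⟩)).symm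
  ext a
  rw [key σ a, key τ a]
  simp only [h]

end Runs

/-! ### Unitriangular matrices -/

section Matrices

variable {F : Type*} [Field F] {n : ℕ}

theorem diag_mul {A B : Matrix (Fin n) (Fin n) F} (hA : A.BlockTriangular id) (hB : B.BlockTriangular id)
    (i : Fin n) : (A * B) i i = A i i * B i i := by
  rw [Matrix.mul_apply]
  refine Finset.sum_eq_single i (fun k _ hk => ?_) (by simp)
  rcases lt_or_gt_of_ne hk with h | h
  · rw [hA h, zero_mul]
  · rw [hB h, mul_zero]

/-- The upper unitriangular subgroup of `GL_n`. -/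
def unitri (n : ℕ) (F : Type*) [Field F] : Subgroup (GL (Fin n) F) where
  carrier := {g | g ∈ Cfsg.upperTriangularGL n F ∧ ∀ i, (g : Matrix (Fin n) (Fin n) F) i i = 1}
  one_mem' := ⟨one_mem _, fun i => by simp⟩
  mul_mem' := fun {a b} ha hb => ⟨mul_mem ha.1 hb.1, fun i => by
    rw [Units.val_mul, diag_mul ha.1 hb.1, ha.2, hb.2, one_mul]⟩
  inv_mem' := fun {a} ha => ⟨inv_mem ha.1, fun i => by
    have h := diag_mul (inv_mem ha.1 : a⁻¹ ∈ Cfsg.upperTriangularGL n F) ha.1 i
    rw [← Units.val_mul, inv_mul_cancel, Units.val_one, Matrix.one_apply_eq, ha.2, mul_one] at h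
    exact h.symm⟩

theorem unitri_zero {u : GL (Fin n) F} (hu : u ∈ unitri n F) {i j : Fin n} (h : j < i) :
    (u : Matrix (Fin n) (Fin n) F) i j = 0 := hu.1 h

theorem unitri_diag {u : GL (Fin n) F} (hu : u ∈ unitri n F) (i : Fin n) :
    (u : Matrix (Fin n) (Fin n) F) i i = 1 := hu.2 i

theorem mem_unitri_iff {u : GL (Fin n) F} :
    u ∈ unitri n F ↔ (∀ i j : Fin n, j < i → (u : Matrix (Fin n) (Fin n) F) i j = 0) ∧
      ∀ i, (u : Matrix (Fin n) (Fin n) F) i i = 1 := Iff.rfl

/-- The sum of the entries just above the diagonal. -/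
def superSum (A : Matrix (Fin n) (Fin n) F) : F :=
  ∑ i : Fin n, ∑ j : Fin n, if i.val + 1 = j.val then A i j else 0

theorem superSum_mul {a b : GL (Fin n) F} (ha : a ∈ unitri n F) (hb : b ∈ unitri n F) :
    superSum ((a * b : GL (Fin n) F) : Matrix (Fin n) (Fin n) F) =
      superSum (a : Matrix (Fin n) (Fin n) F) + superSum (b : Matrix (Fin n) (Fin n) F) := by
  simp only [superSum, ← Finset.sum_add_distrib]
  refine Finset.sum_congr rfl fun i _ => Finset.sum_congr rfl fun j _ => ?_
  split_ifs with h
  · have hij : i ≠ j := fun e => by subst e; omega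
    rw [Units.val_mul, Matrix.mul_apply, Finset.sum_eq_add i j hij]
    · rw [unitri_diag ha, unitri_diag hb, one_mul, mul_one, add_comm]
    · intro k _ hk
      rcases lt_or_gt_of_ne hk.1 with h1 | h1
      · rw [unitri_zero ha h1, zero_mul]
      · have h2 : j < k := by
          rcases lt_or_gt_of_ne hk.2 with h2 | h2
          · have : i.val < k.val := h1
            have : k.val < j.val := h2
            omega
          · exact h2
        rw [unitri_zero hb h2, mul_zero]
    · simp
    · simp
  · rw [add_zero]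

/-- The generic linear character of the unitriangular group. -/
def genChar (θ : AddChar F ℂ) : unitri n F →* ℂ where
  toFun u := θ (superSum ((u : GL (Fin n) F) : Matrix (Fin n) (Fin n) F))
  map_one' := by
    have : superSum (1 : Matrix (Fin n) (Fin n) F) = 0 :=
      Finset.sum_eq_zero fun i _ => Finset.sum_eq_zero fun j _ => by
        split_ifs with h
        · exact Matrix.one_apply_ne fun e => by subst e; omega
        · rfl
    simp [this]
  map_mul' a b := by
    rw [Subgroup.coe_mul, superSum_mul a.2 b.2, AddChar.map_add_eq_mul]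

theorem genChar_apply (θ : AddChar F ℂ) (u : unitri n F) :
    genChar θ u = θ (superSum ((u : GL (Fin n) F) : Matrix (Fin n) (Fin n) F)) := rfl

theorem isClassFunction_genChar (θ : AddChar F ℂ) :
    Cfsg.IsClassFunction (unitri n F) (genChar θ) := fun g h => by
  rw [map_mul, map_mul, mul_comm (genChar θ h), mul_assoc, ← map_mul, mul_inv_cancel, map_one, mul_one]

/-- A root element. -/
def rootGL {i j : Fin n} (hij : i ≠ j) (c : F) : GL (Fin n) F :=
  Matrix.GeneralLinearGroup.mkOfDetNeZero (Matrix.transvection i j c)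
    (by rw [Matrix.det_transvection_of_ne i j hij]; exact one_ne_zero)

theorem rootGL_coe {i j : Fin n} (hij : i ≠ j) (c : F) :
    ((rootGL hij c : GL (Fin n) F) : Matrix (Fin n) (Fin n) F) = Matrix.transvection i j c := rfl

theorem rootGL_mem {i j : Fin n} (hij : i < j) (c : F) : rootGL hij.ne c ∈ unitri n F := by
  refine mem_unitri_iff.2 ⟨fun a b hab => ?_, fun a => ?_⟩
  · rw [rootGL_coe, Matrix.transvection, Matrix.add_apply, Matrix.one_apply_ne hab.ne', zero_add,
      Matrix.single_apply_of_ne]
    rintro ⟨rfl, rfl⟩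
    exact lt_asymm hij hab
  · rw [rootGL_coe, Matrix.transvection, Matrix.add_apply, Matrix.one_apply_eq,
      Matrix.single_apply_of_ne, add_zero]
    rintro ⟨rfl, rfl⟩
    exact lt_irrefl _ hij

theorem superSum_root {i j : Fin n} (hij : i < j) (c : F) :
    superSum ((rootGL hij.ne c : GL (Fin n) F) : Matrix (Fin n) (Fin n) F) =
      if i.val + 1 = j.val then c else 0 := by
  unfold superSum
  rw [Finset.sum_eq_single i, Finset.sum_eq_single j]
  · simp [rootGL_coe, Matrix.transvection, hij.ne]
  · intro b _ hb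
    split_ifs with h
    · rw [rootGL_coe, Matrix.transvection, Matrix.add_apply, Matrix.one_apply_ne, zero_add,
        Matrix.single_apply_of_ne]
      · exact fun e => hb e.2.symm
      · exact fun e => by subst e; omega
    · rfl
  · simp
  · intro a _ ha
    refine Finset.sum_eq_zero fun b _ => ?_
    split_ifs with h
    · rw [rootGL_coe, Matrix.transvection, Matrix.add_apply, Matrix.one_apply_ne, zero_add,
        Matrix.single_apply_of_ne]
      · exact fun e => ha e.1.symm
      · exact fun e => by subst e; omega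
    · rfl
  · simp

theorem theta_mul_eq_one {θ : AddChar F ℂ} (hθ : ∃ c, θ c ≠ 1) {z : F} (h : ∀ c, θ (c * z) = 1) :
    z = 0 := by
  by_contra hz
  obtain ⟨c, hc⟩ := hθ
  exact hc (by simpa [hz] using h (c * z⁻¹))

/-- A monomial element. -/
def monoGL (σ : Equiv.Perm (Fin n)) (t : Fin n → Fˣ) : GL (Fin n) F :=
  Matrix.GeneralLinearGroup.mkOfDetNeZero
    ((permGL n F σ : Matrix (Fin n) (Fin n) F) * Matrix.diagonal fun j => (t j : F))
    (by
      rw [Matrix.det_mul, Matrix.det_diagonal]
      exact mul_ne_zero ((Matrix.isUnit_iff_isUnit_det _).1 (permGL n F σ).isUnit).ne_zero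
        (Finset.prod_ne_zero_iff.2 fun j _ => (t j).ne_zero))

theorem monoGL_apply (σ : Equiv.Perm (Fin n)) (t : Fin n → Fˣ) (i j : Fin n) :
    (monoGL σ t : Matrix (Fin n) (Fin n) F) i j = if i = σ j then (t j : F) else 0 := by
  change ((permGL n F σ : Matrix (Fin n) (Fin n) F) * Matrix.diagonal fun j => (t j : F)) i j = _
  rw [Matrix.mul_diagonal, permGL_coe]
  split_ifs <;> simp

theorem mul_monoGL_apply (A : Matrix (Fin n) (Fin n) F) (σ : Equiv.Perm (Fin n)) (t : Fin n → Fˣ)
    (i j : Fin n) : (A * (monoGL σ t : Matrix (Fin n) (Fin n) F)) i j = A i (σ j) * t j := by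
  rw [Matrix.mul_apply, Finset.sum_eq_single (σ j)]
  · rw [monoGL_apply, if_pos rfl]
  · intro b _ hb
    rw [monoGL_apply, if_neg hb, mul_zero]
  · simp

theorem monoGL_mul_apply (A : Matrix (Fin n) (Fin n) F) (σ : Equiv.Perm (Fin n)) (t : Fin n → Fˣ)
    (a j : Fin n) : ((monoGL σ t : Matrix (Fin n) (Fin n) F) * A) (σ a) j = t a * A a j := by
  rw [Matrix.mul_apply, Finset.sum_eq_single a]
  · rw [monoGL_apply, if_pos rfl]
  · intro b _ hb
    rw [monoGL_apply, if_neg (fun e => hb (σ.injective e.symm)), zero_mul]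
  · simp

theorem conj_monoGL_apply (g : GL (Fin n) F) (σ : Equiv.Perm (Fin n)) (t : Fin n → Fˣ) (a b : Fin n) :
    (((monoGL σ t)⁻¹ * g * monoGL σ t : GL (Fin n) F) : Matrix (Fin n) (Fin n) F) a b =
      (g : Matrix (Fin n) (Fin n) F) (σ a) (σ b) * t b / t a := by
  have h : monoGL σ t * ((monoGL σ t)⁻¹ * g * monoGL σ t) = g * monoGL σ t := by group
  have h' := congrFun (congrFun (congrArg (fun x : GL (Fin n) F => (x : Matrix (Fin n) (Fin n) F)) h) (σ a)) b
  rw [Units.val_mul, monoGL_mul_apply, Units.val_mul g, mul_monoGL_apply] at h'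
  rw [eq_div_iff (t a).ne_zero, mul_comm]
  exact h'

theorem monoGL_root (σ : Equiv.Perm (Fin n)) (t : Fin n → Fˣ) {a b : Fin n} (hab : a ≠ b) (c : F) :
    (monoGL σ t)⁻¹ * rootGL (fun e => hab (σ.injective e)) c * monoGL σ t =
      rootGL hab (c * t b / t a) := by
  refine Units.ext (Matrix.ext fun i j => ?_)
  rw [conj_monoGL_apply, rootGL_coe, rootGL_coe]
  simp only [Matrix.transvection, Matrix.add_apply, Matrix.one_apply, Matrix.single_apply,
    σ.injective.eq_iff]
  by_cases h : a = i ∧ b = j
  · obtain ⟨rfl, rfl⟩ := h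
    simp [hab]
  · simp only [h, if_false, add_zero]
    split_ifs with e
    · subst e
      simp
    · simp

/-- Transposition across the antidiagonal. -/
def antiFun (g : GL (Fin n) F) : GL (Fin n) F :=
  Matrix.GeneralLinearGroup.mkOfDetNeZero
    ((g : Matrix (Fin n) (Fin n) F).transpose.submatrix Fin.revPerm Fin.revPerm)
    (by
      rw [Matrix.det_submatrix_equiv_self, Matrix.det_transpose]
      exact ((Matrix.isUnit_iff_isUnit_det _).1 g.isUnit).ne_zero)

theorem antiFun_apply (g : GL (Fin n) F) (i j : Fin n) :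
    (antiFun g : Matrix (Fin n) (Fin n) F) i j = (g : Matrix (Fin n) (Fin n) F) j.rev i.rev := rfl

/-- Transposition across the antidiagonal, as an equivalence. -/
def antiEquiv : GL (Fin n) F ≃ GL (Fin n) F where
  toFun := antiFun
  invFun := antiFun
  left_inv g := Units.ext (Matrix.ext fun i j => by simp [antiFun_apply])
  right_inv g := Units.ext (Matrix.ext fun i j => by simp [antiFun_apply])

theorem antiEquiv_apply (g : GL (Fin n) F) : antiEquiv g = antiFun g := rfl

theorem antiFun_antiFun (g : GL (Fin n) F) : antiFun (antiFun g) = g := antiEquiv.left_inv g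

theorem antiFun_mul (a b : GL (Fin n) F) : antiFun (a * b) = antiFun b * antiFun a := by
  refine Units.ext (Matrix.ext fun i j => ?_)
  rw [antiFun_apply, Units.val_mul, Units.val_mul, Matrix.mul_apply, Matrix.mul_apply]
  exact Fintype.sum_equiv Fin.revPerm _ _ fun k => by simp [antiFun_apply, mul_comm]

theorem antiFun_mem {u : GL (Fin n) F} (hu : u ∈ unitri n F) : antiFun u ∈ unitri n F :=
  mem_unitri_iff.2 ⟨fun i j h => by rw [antiFun_apply]; exact unitri_zero hu (Fin.rev_lt_rev.2 h),
    fun i => by rw [antiFun_apply]; exact unitri_diag hu _⟩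

theorem genChar_anti (θ : AddChar F ℂ) (u : unitri n F) :
    genChar θ ⟨antiFun (u : GL (Fin n) F), antiFun_mem u.2⟩ = genChar θ u := by
  rw [genChar_apply, genChar_apply]
  congr 1
  unfold superSum
  rw [Finset.sum_comm]
  refine Fintype.sum_equiv Fin.revPerm _ _ fun j => Fintype.sum_equiv Fin.revPerm _ _ fun i => ?_
  simp only [Fin.revPerm_apply, antiFun_apply, Fin.val_rev]
  refine if_congr ?_ rfl rfl
  constructor <;> intro h <;> have := i.isLt <;> have := j.isLt <;> omega

theorem antiFun_mono (σ : Equiv.Perm (Fin n)) (t : Fin n → Fˣ) :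
    antiFun (monoGL σ t) =
      monoGL ((Fin.revPerm.trans σ.symm).trans Fin.revPerm) (fun j => t (σ.symm j.rev)) := by
  refine Units.ext (Matrix.ext fun i j => ?_)
  rw [antiFun_apply, monoGL_apply, monoGL_apply]
  simp only [Equiv.trans_apply, Fin.revPerm_apply]
  by_cases h : i = (σ.symm j.rev).rev
  · subst h
    simp
  · rw [if_neg, if_neg h]
    intro e
    exact h (by rw [e]; simp)

theorem exists_mono [Fintype F] (g : GL (Fin n) F) :
    ∃ u ∈ unitri n F, ∃ v ∈ unitri n F, ∃ (σ : Equiv.Perm (Fin n)) (t : Fin n → Fˣ),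
      g = u * monoGL σ t * v := by
  obtain ⟨b, hb, b', hb', σ, rfl⟩ := Cfsg.Agent.GLUnipotentDC.bruhat g
  have hd : ∀ {c : GL (Fin n) F}, c ∈ Cfsg.upperTriangularGL n F →
      ∀ i, (c : Matrix (Fin n) (Fin n) F) i i ≠ 0 := by
    intro c hc i h0
    have h1 := diag_mul (inv_mem hc : c⁻¹ ∈ Cfsg.upperTriangularGL n F) hc i
    rw [← Units.val_mul, inv_mul_cancel, Units.val_one, Matrix.one_apply_eq, h0, mul_zero] at h1
    exact one_ne_zero h1
  let d : Fin n → Fˣ := fun i => Units.mk0 _ (hd hb i)
  let d' : Fin n → Fˣ := fun i => Units.mk0 _ (hd hb' i)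
  let D : (Fin n → Fˣ) → GL (Fin n) F := fun d => monoGL 1 d
  have hDt : ∀ d : Fin n → Fˣ, D d ∈ Cfsg.upperTriangularGL n F := by
    intro d i j h
    rw [monoGL_apply]
    exact if_neg (by simpa using (ne_of_gt h))
  have hDd : ∀ (d : Fin n → Fˣ) i, (D d : Matrix (Fin n) (Fin n) F) i i = d i := by
    intro d i
    rw [monoGL_apply]
    simp
  refine ⟨b * (D d)⁻¹, ?_, (D d')⁻¹ * b', ?_, σ, fun j => d (σ j) * d' j, ?_⟩
  · refine ⟨mul_mem hb (inv_mem (hDt d)), fun i => ?_⟩
    have h2 := diag_mul (mul_mem hb (inv_mem (hDt d)) : b * (D d)⁻¹ ∈ Cfsg.upperTriangularGL n F) (hDt d) i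
    rw [← Units.val_mul, inv_mul_cancel_right, hDd] at h2
    have h3 : (b : Matrix (Fin n) (Fin n) F) i i = (d i : F) := rfl
    rw [h3] at h2
    exact ((mul_left_eq_self₀.1 h2.symm).resolve_right (d i).ne_zero)
  · refine ⟨mul_mem (inv_mem (hDt d')) hb', fun i => ?_⟩
    have h2 := diag_mul (hDt d') (mul_mem (inv_mem (hDt d')) hb' : (D d')⁻¹ * b' ∈ Cfsg.upperTriangularGL n F) i
    rw [← Units.val_mul, mul_inv_cancel_left, hDd] at h2
    have h3 : (b' : Matrix (Fin n) (Fin n) F) i i = (d' i : F) := rfl
    rw [h3] at h2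
    exact ((mul_eq_left₀ (d' i).ne_zero).1 h2.symm)
  · have : monoGL σ (fun j => d (σ j) * d' j) = D d * permGL n F σ * D d' := by
      refine Units.ext (Matrix.ext fun i j => ?_)
      rw [Units.val_mul, Units.val_mul, mul_monoGL_apply, mul_permGL_apply, monoGL_apply, monoGL_apply]
      simp only [Equiv.Perm.one_apply]
      by_cases h : i = σ j
      · simp [h]
      · simp [h]
    rw [this]
    group

end Matrices

end Cfsg.Agent.GelfandGraev88
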