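import Mathlib
import Cfsg.Agent.Lib.GelfandGraev88Unipotent

/-!
The Gelfand-Graev character of `GL_n`: multiplicity one and the number of generic characters.
-/

set_option autoImplicit false

open scoped MatrixGroups ComplexConjugate
open Finset

namespace Cfsg.Agent.GelfandGraev88

section Support

variable {F : Type*} [Field F] {n : ℕ}

/-- The conditions for a monomial element to support the generic character. -/
def IsGood (σ : Equiv.Perm (Fin n)) (t : Fin n → Fˣ) : Prop :=
  (∀ a b : Fin n, a.val + 1 = b.val → σ a < σ b → (σ a).val + 1 = (σ b).val ∧ t a = t b) ∧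
    ∀ a b : Fin n, a < b → (σ a).val + 1 = (σ b).val → a.val + 1 = b.val

theorem good_of_root {θ : AddChar F ℂ} (hθ : ∃ c, θ c ≠ 1) (σ : Equiv.Perm (Fin n)) (t : Fin n → Fˣ)
    (h : ∀ (a b : Fin n), a < b → σ a < σ b → ∀ c : F,
      θ (if (σ a).val + 1 = (σ b).val then c else 0) =
        θ (if a.val + 1 = b.val then c * t b / t a else 0)) :
    IsGood σ t := by
  have key : ∀ (a b : Fin n), a < b → σ a < σ b →
      ((σ a).val + 1 = (σ b).val ↔ a.val + 1 = b.val) ∧ (a.val + 1 = b.val → t a = t b) := by
    intro a b hab hs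
    have h' := h a b hab hs
    by_cases h1 : (σ a).val + 1 = (σ b).val <;> by_cases h2 : a.val + 1 = b.val <;>
      simp only [h1, h2, if_true, if_false, AddChar.map_zero_eq_one] at h'
    · refine ⟨iff_of_true h1 h2, fun _ => ?_⟩
      have hz : (1 : F) - t b / t a = 0 := theta_mul_eq_one hθ fun c => by
        rw [mul_sub, mul_one, sub_eq_add_neg, AddChar.map_add_eq_mul, h' c, ← AddChar.map_add_eq_mul,
          show c * t b / t a + -(c * (t b / t a)) = (0 : F) by ring, AddChar.map_zero_eq_one]
      rw [sub_eq_zero, eq_div_iff (t a).ne_zero, one_mul] at hz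
      exact Units.ext hz
    · exact absurd (theta_mul_eq_one hθ (z := (1 : F)) fun c => by rw [mul_one]; exact h' c) one_ne_zero
    · exfalso
      have hz := theta_mul_eq_one hθ (z := (t b : F) / t a) fun c => by
        rw [← mul_div_assoc]; exact (h' c).symm
      exact div_ne_zero (t b).ne_zero (t a).ne_zero hz
    · exact ⟨iff_of_false h1 h2, fun e => absurd e h2⟩
  refine ⟨fun a b hab hs => ?_, fun a b hab hs => ?_⟩
  · have hlt : a < b := by change a.val < b.val; omega
    exact ⟨(key a b hlt hs).1.2 hab, (key a b hlt hs).2 hab⟩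
  · have hlt : σ a < σ b := by change (σ a).val < (σ b).val; omega
    exact (key a b hab hlt).1.1 hs

/-- The run label of a position: the number of descents before it. -/
noncomputable def descLabel (σ : Equiv.Perm (Fin n)) (a : Fin n) : ℕ :=
  Nat.card {c : Fin n // c < a ∧ ∃ d : Fin n, c.val + 1 = d.val ∧ σ d < σ c}

theorem descLabel_mono (σ : Equiv.Perm (Fin n)) : Monotone (descLabel σ) := fun a b hab =>
  Nat.card_le_card_of_injective (fun c => ⟨c.1, c.2.1.trans_le hab, c.2.2⟩) fun x y e => by
    simpa [Subtype.ext_iff] using e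

theorem descLabel_step (σ : Equiv.Perm (Fin n)) {a b : Fin n} (hab : a.val + 1 = b.val) :
    descLabel σ a = descLabel σ b ↔ σ a < σ b := by
  classical
  have hlt : a < b := by change a.val < b.val; omega
  constructor
  · intro h
    by_contra hs
    have hs' : σ b < σ a := lt_of_le_of_ne (not_lt.1 hs) (σ.injective.ne hlt.ne')
    have : descLabel σ a < descLabel σ b := by
      simp only [descLabel, Nat.card_eq_fintype_card, Fintype.card_subtype]
      refine Finset.card_lt_card ⟨fun c hc => ?_, fun hsub => ?_⟩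
      · rw [Finset.mem_filter] at hc ⊢
        exact ⟨hc.1, hc.2.1.trans hlt, hc.2.2⟩
      · have := hsub (Finset.mem_filter.2 ⟨Finset.mem_univ a, hlt, b, hab, hs'⟩)
        exact lt_irrefl a (Finset.mem_filter.1 this).2.1
    omega
  · intro hs
    refine le_antisymm (descLabel_mono σ hlt.le) ?_
    refine Nat.card_le_card_of_injective (fun c => ⟨c.1, ?_, c.2.2⟩) fun x y e => by
      simpa [Subtype.ext_iff] using e
    obtain ⟨c, hc, d, hd, hcd⟩ := c
    change c < a
    have hc' : c.val < b.val := hc
    refine lt_of_le_of_ne (Fin.le_def.2 (by omega)) fun e => ?_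
    subst e
    have : d = b := Fin.ext (by omega)
    subst this
    exact lt_asymm hs hcd

namespace IsGood

variable {σ : Equiv.Perm (Fin n)} {t : Fin n → Fˣ} (hg : IsGood σ t)

include hg

theorem same {a b : Fin n} (hab : a ≤ b) (h : descLabel σ a = descLabel σ b) :
    (σ b).val = (σ a).val + (b.val - a.val) ∧ t a = t b := by
  obtain ⟨k, hk⟩ : ∃ k, b.val = a.val + k := Nat.exists_eq_add_of_le hab
  induction k generalizing b with
  | zero =>
    have : a = b := Fin.ext (by omega)
    subst this
    simp
  | succ k ih =>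
    let b' : Fin n := ⟨a.val + k, by omega⟩
    have hab' : a ≤ b' := by change a.val ≤ a.val + k; omega
    have hb'b : b'.val + 1 = b.val := by change a.val + k + 1 = b.val; omega
    have hb'b' : b' ≤ b := by change a.val + k ≤ b.val; omega
    have h1 : descLabel σ a = descLabel σ b' :=
      le_antisymm (descLabel_mono σ hab') (h ▸ descLabel_mono σ hb'b')
    obtain ⟨e1, e2⟩ := ih hab' h1 rfl
    obtain ⟨e3, e4⟩ := hg.1 b' b hb'b ((descLabel_step σ hb'b).1 (h1.symm.trans h))
    refine ⟨?_, e2.trans e4⟩
    have : b'.val = a.val + k := rfl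
    omega

theorem label_le {a b : Fin n} (h : σ a < σ b) : descLabel σ b ≤ descLabel σ a := by
  obtain ⟨k, hk⟩ : ∃ k, (σ b).val = (σ a).val + 1 + k := Nat.exists_eq_add_of_le h
  induction k generalizing b with
  | zero =>
    rcases lt_trichotomy a b with hab | hab | hab
    · have h1 := hg.2 a b hab (by omega)
      exact ((descLabel_step σ h1).2 h).ge
    · subst hab; exact le_rfl
    · exact descLabel_mono σ hab.le
  | succ k ih =>
    let b' : Fin n := σ.symm ⟨(σ a).val + 1 + k, by omega⟩
    have hb' : (σ b').val = (σ a).val + 1 + k := by simp [b']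
    refine le_trans ?_ (ih (b := b') (by change (σ a).val < (σ b').val; omega) hb')
    rcases lt_trichotomy b' b with hab | hab | hab
    · exact ((descLabel_step σ (hg.2 b' b hab (by omega))).2
        (by change (σ b').val < (σ b).val; omega)).ge
    · rw [hab]
    · exact descLabel_mono σ hab.le

theorem eq_runSwap : σ = runSwap (descLabel_mono σ) := by
  refine eq_of_same_order fun a b => ?_
  rcases lt_trichotomy (descLabel σ a) (descLabel σ b) with h | h | h
  · refine iff_of_false (fun e => ?_) (lt_asymm (runSwap_lt _ h))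
    exact absurd (hg.label_le e) (not_le.2 h)
  · rcases le_total a b with hab | hab
    · have e1 := (hg.same hab h).1
      have e2 := runSwap_same (descLabel_mono σ) hab h
      rw [Fin.lt_def, Fin.lt_def, e1, e2]
      omega
    · have e1 := (hg.same hab h.symm).1
      have e2 := runSwap_same (descLabel_mono σ) hab h.symm
      rw [Fin.lt_def, Fin.lt_def, e1, e2]
      omega
  · refine iff_of_true ?_ (runSwap_lt _ h)
    by_contra e
    have hne : σ a ≠ σ b := fun e' => by rw [σ.injective e'] at h; exact lt_irrefl _ h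
    exact absurd (hg.label_le (lt_of_le_of_ne (not_lt.1 e) hne.symm)) (not_le.2 h)

theorem antiFun_eq : antiFun (monoGL σ t) = monoGL σ t := by
  have hσ := hg.eq_runSwap
  have hr : ∀ j, σ.symm j.rev = runRev (descLabel_mono σ) j := by
    intro j
    rw [Equiv.symm_apply_eq]
    refine Eq.trans ?_ (congrArg (fun p : Equiv.Perm (Fin n) => p (runRev (descLabel_mono σ) j)) hσ).symm
    simp only [runSwap, Equiv.trans_apply, Fin.revPerm_apply, runRev_runRev]
  rw [antiFun_mono]
  congr 1
  · ext j
    simp only [Equiv.trans_apply, Fin.revPerm_apply, hr]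
    conv_rhs => rw [hσ]
    simp [runSwap]
  · funext j
    rw [hr]
    rcases le_total j (runRev (descLabel_mono σ) j) with h | h
    · exact (hg.same h (label_runRev _ j).symm).2.symm
    · exact (hg.same h (label_runRev _ j)).2

end IsGood

/-! ### Codes -/

variable {k : ℕ}

/-- The label attached to a code. -/
def codeLabel (c : Fˣ × (Fin k → Option Fˣ)) (a : Fin (k + 1)) : ℕ :=
  (Finset.univ.filter fun i : Fin k => i.val < a.val ∧ (c.2 i).isSome = true).card

theorem codeLabel_mono (c : Fˣ × (Fin k → Option Fˣ)) : Monotone (codeLabel c) := fun a b hab =>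
  Finset.card_le_card fun i hi => by
    rw [Finset.mem_filter] at hi ⊢
    exact ⟨hi.1, lt_of_lt_of_le hi.2.1 hab, hi.2.2⟩

theorem codeLabel_succ (c : Fˣ × (Fin k → Option Fˣ)) (i : Fin k) :
    codeLabel c i.succ = codeLabel c i.castSucc + if (c.2 i).isSome then 1 else 0 := by
  unfold codeLabel
  split_ifs with h
  · rw [← Finset.card_insert_of_notMem (s := Finset.univ.filter fun j : Fin k =>
      j.val < i.castSucc.val ∧ (c.2 j).isSome = true) (a := i) (by simp)]
    congr 1
    ext j
    simp only [Finset.mem_insert, Finset.mem_filter, Finset.mem_univ, true_and, Fin.val_succ,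
      Fin.val_castSucc]
    constructor
    · rintro ⟨h1, h2⟩
      rcases Nat.lt_succ_iff_lt_or_eq.1 h1 with h1 | h1
      · exact Or.inr ⟨h1, h2⟩
      · exact Or.inl (Fin.ext h1)
    · rintro (rfl | ⟨h1, h2⟩)
      · exact ⟨Nat.lt_succ_self _, h⟩
      · exact ⟨Nat.lt_succ_of_lt h1, h2⟩
  · rw [add_zero]
    congr 1
    ext j
    simp only [Finset.mem_filter, Finset.mem_univ, true_and, Fin.val_succ, Fin.val_castSucc]
    constructor
    · rintro ⟨h1, h2⟩
      refine ⟨?_, h2⟩
      rcases Nat.lt_succ_iff_lt_or_eq.1 h1 with h1 | h1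
      · exact h1
      · exact absurd (Fin.ext h1 ▸ h2) h
    · exact fun h => ⟨Nat.lt_succ_of_lt h.1, h.2⟩

/-- The torus part attached to a code. -/
def codeTorus (c : Fˣ × (Fin k → Option Fˣ)) : Fin (k + 1) → Fˣ :=
  Fin.induction c.1 fun i t => (c.2 i).getD t

/-- The permutation attached to a code. -/
def codePerm (c : Fˣ × (Fin k → Option Fˣ)) : Equiv.Perm (Fin (k + 1)) := runSwap (codeLabel_mono c)

theorem adj_eq {a b : Fin (k + 1)} (h : a.val + 1 = b.val) : ∃ i : Fin k, a = i.castSucc ∧ b = i.succ :=
  ⟨⟨a.val, by have := b.isLt; omega⟩, Fin.ext rfl, Fin.ext (by simp; omega)⟩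

theorem code_isGood (c : Fˣ × (Fin k → Option Fˣ)) : IsGood (codePerm c) (codeTorus c) := by
  refine ⟨fun a b hab hs => ?_, fun a b hab hs => ?_⟩
  · obtain ⟨i, rfl, rfl⟩ := adj_eq hab
    have hle : i.castSucc ≤ i.succ := Fin.castSucc_le_succ i
    have hsame : codeLabel c i.castSucc = codeLabel c i.succ := by
      by_contra hne
      exact lt_asymm hs (runSwap_lt _ (lt_of_le_of_ne (codeLabel_mono c hle) hne))
    have e := runSwap_same (codeLabel_mono c) hle hsame
    refine ⟨?_, ?_⟩
    · change (runSwap (codeLabel_mono c) i.castSucc).val + 1 = (runSwap (codeLabel_mono c) i.succ).val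
      simp only [Fin.val_succ, Fin.val_castSucc] at e
      omega
    · have hn : (c.2 i).isSome = false := by
        by_contra hne
        rw [Bool.not_eq_false] at hne
        rw [codeLabel_succ, if_pos hne] at hsame
        omega
      have hn' : c.2 i = none := by simpa using hn
      simp only [codeTorus, Fin.induction_succ]
      rw [hn']
      rfl
  · by_cases hne : codeLabel c a = codeLabel c b
    · have e := runSwap_same (codeLabel_mono c) hab.le hne
      change (runSwap (codeLabel_mono c) a).val + 1 = (runSwap (codeLabel_mono c) b).val at hs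
      have : a.val < b.val := hab
      omega
    · have h1 := runSwap_lt (codeLabel_mono c) (lt_of_le_of_ne (codeLabel_mono c hab.le) hne)
      change (runSwap (codeLabel_mono c) a).val + 1 = (runSwap (codeLabel_mono c) b).val at hs
      rw [Fin.lt_def] at h1
      omega

open Classical in
/-- The code of a monomial element. -/
noncomputable def toCode (σ : Equiv.Perm (Fin (k + 1))) (t : Fin (k + 1) → Fˣ) :
    Fˣ × (Fin k → Option Fˣ) :=
  (t 0, fun i => if σ i.succ < σ i.castSucc then some (t i.succ) else none)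

theorem toCode_code (c : Fˣ × (Fin k → Option Fˣ)) : toCode (codePerm c) (codeTorus c) = c := by
  refine Prod.ext rfl (funext fun i => ?_)
  have hle : i.castSucc ≤ i.succ := Fin.castSucc_le_succ i
  simp only [toCode]
  rcases h : c.2 i with _ | x
  · rw [if_neg]
    have hsame : codeLabel c i.castSucc = codeLabel c i.succ := by rw [codeLabel_succ, h]; simp
    have e := runSwap_same (codeLabel_mono c) hle hsame
    rw [not_lt, Fin.le_def]
    change (runSwap (codeLabel_mono c) i.castSucc).val ≤ (runSwap (codeLabel_mono c) i.succ).val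
    omega
  · rw [if_pos]
    · simp [codeTorus, h]
    · exact runSwap_lt _ (by rw [codeLabel_succ, h]; simp)

theorem code_toCode {σ : Equiv.Perm (Fin (k + 1))} {t : Fin (k + 1) → Fˣ} (hg : IsGood σ t) :
    codePerm (toCode σ t) = σ ∧ codeTorus (toCode σ t) = t := by
  classical
  have hlt : ∀ i : Fin k, i.castSucc.val + 1 = i.succ.val := fun i => by simp
  have hne : ∀ i : Fin k, σ i.castSucc ≠ σ i.succ := fun i =>
    σ.injective.ne Fin.castSucc_lt_succ.ne
  have hlab : ∀ a b, a ≤ b →
      (codeLabel (toCode σ t) a = codeLabel (toCode σ t) b ↔ descLabel σ a = descLabel σ b) := by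
    intro a b hab
    suffices H : ∀ d b, a ≤ b → b.val = a.val + d →
        (codeLabel (toCode σ t) a = codeLabel (toCode σ t) b ↔ descLabel σ a = descLabel σ b) by
      obtain ⟨d, hd⟩ : ∃ d, b.val = a.val + d := Nat.exists_eq_add_of_le hab
      exact H d b hab hd
    clear hab b
    intro d
    induction d with
    | zero =>
      intro b hab hd
      have : a = b := Fin.ext (by omega)
      subst this; simp
    | succ d ih =>
      intro b hab hd
      obtain ⟨i, hi⟩ : ∃ i : Fin k, i.val = a.val + d := ⟨⟨a.val + d, by omega⟩, rfl⟩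
      obtain rfl : b = i.succ := Fin.ext (by simp [hi]; omega)
      have hai : a ≤ i.castSucc := by simp [Fin.le_def, hi]
      have h1 := ih i.castSucc hai (by simp [hi])
      have hm1 := descLabel_mono σ hai
      have hm2 := descLabel_mono σ (Fin.castSucc_le_succ i)
      have hm3 := codeLabel_mono (toCode σ t) hai
      have hs := codeLabel_succ (toCode σ t) i
      by_cases hσ : σ i.succ < σ i.castSucc
      · have h2 : descLabel σ i.castSucc ≠ descLabel σ i.succ := fun e =>
          lt_asymm hσ ((descLabel_step σ (hlt i)).1 e)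
        simp only [toCode, hσ, if_true, Option.isSome_some] at hs
        simp only [toCode] at hm3 h1 ⊢
        constructor <;> intro e <;> omega
      · have h2 : descLabel σ i.castSucc = descLabel σ i.succ :=
          (descLabel_step σ (hlt i)).2 (lt_of_le_of_ne (not_lt.1 hσ) (hne i))
        simp only [toCode, hσ, if_false, Option.isSome_none, Bool.false_eq_true] at hs
        simp only [toCode] at hm3 h1 ⊢
        rw [h2] at h1
        simp only [add_zero] at hs
        rw [hs]
        exact h1
  refine ⟨?_, ?_⟩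
  · conv_rhs => rw [hg.eq_runSwap]
    refine eq_of_same_order fun a b => ?_
    have key : ∀ a b, a ≤ b →
        ((runSwap (descLabel_mono σ) a < runSwap (descLabel_mono σ) b) ↔
          (codePerm (toCode σ t) a < codePerm (toCode σ t) b)) ∧
        ((runSwap (descLabel_mono σ) b < runSwap (descLabel_mono σ) a) ↔
          (codePerm (toCode σ t) b < codePerm (toCode σ t) a)) := by
      intro a b hab
      by_cases h : descLabel σ a = descLabel σ b
      · have e1 := runSwap_same (descLabel_mono σ) hab h
        have e2 := runSwap_same (codeLabel_mono (toCode σ t)) hab ((hlab a b hab).2 h)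
        simp only [codePerm, Fin.lt_def, e1, e2]
        constructor <;> omega
      · have h1 := runSwap_lt (descLabel_mono σ) (lt_of_le_of_ne (descLabel_mono σ hab) h)
        have h2 := runSwap_lt (codeLabel_mono (toCode σ t))
          (lt_of_le_of_ne (codeLabel_mono _ hab) fun e => h ((hlab a b hab).1 e))
        exact ⟨iff_of_false (lt_asymm h1) (lt_asymm h2), iff_of_true h1 h2⟩
    rcases le_total a b with hab | hab
    · exact (key a b hab).1.symm
    · exact (key b a hab).2.symm
  · funext a
    induction a using Fin.induction with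
    | zero => rfl
    | succ i ih =>
      simp only [codeTorus, Fin.induction_succ] at ih ⊢
      rw [ih]
      by_cases hσ : σ i.succ < σ i.castSucc
      · simp [toCode, hσ]
      · simp only [toCode, hσ, if_false, Option.getD_none]
        exact (hg.1 _ _ (hlt i) (lt_of_le_of_ne (not_lt.1 hσ) (hne i))).2

end Support

/-! ### The Gelfand-Graev character -/

section Generic

variable {F : Type*} [Field F] [Fintype F] [DecidableEq F] {n : ℕ}

noncomputable instance : Fintype (unitri n F) := Fintype.ofFinite _

theorem isGood_of_ne_zero {θ : AddChar F ℂ} (hθ : ∃ c, θ c ≠ 1) {f : GL (Fin n) F → ℂ}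
    (hf : ∀ (s u : unitri n F) (x : GL (Fin n) F),
      f ((s : GL (Fin n) F) * x * u) = genChar θ s * genChar θ u * f x)
    {σ : Equiv.Perm (Fin n)} {t : Fin n → Fˣ} (h : f (monoGL σ t) ≠ 0) : IsGood σ t := by
  refine good_of_root hθ σ t fun a b hab hs c => ?_
  have h1 := hf ⟨_, rootGL_mem hs c⟩ 1 (monoGL σ t)
  have h2 := hf 1 ⟨_, rootGL_mem hab (c * t b / t a)⟩ (monoGL σ t)
  have e : rootGL (hs.ne) c * monoGL σ t = monoGL σ t * rootGL hab.ne (c * t b / t a) := by
    rw [← monoGL_root σ t hab.ne c]
    group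
  simp only [OneMemClass.coe_one, one_mul, mul_one, map_one] at h1 h2
  rw [e, h2] at h1
  have h3 := mul_right_cancel₀ h h1
  rw [genChar_apply, genChar_apply, superSum_root hab, superSum_root hs] at h3
  exact h3.symm

theorem anti_fixed {θ : AddChar F ℂ} (hθ : ∃ c, θ c ≠ 1) (f : GL (Fin n) F → ℂ)
    (hf : ∀ (s u : unitri n F) (x : GL (Fin n) F),
      f ((s : GL (Fin n) F) * x * u) = genChar θ s * genChar θ u * f x)
    (x : GL (Fin n) F) : f (antiEquiv x) = f x := by
  obtain ⟨u, hu, v, hv, σ, t, rfl⟩ := exists_mono x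
  rw [antiEquiv_apply, antiFun_mul, antiFun_mul, ← mul_assoc]
  have h1 := hf ⟨_, antiFun_mem hv⟩ ⟨_, antiFun_mem hu⟩ (antiFun (monoGL σ t))
  have h2 := hf ⟨u, hu⟩ ⟨v, hv⟩ (monoGL σ t)
  rw [genChar_anti θ ⟨u, hu⟩, genChar_anti θ ⟨v, hv⟩] at h1
  rw [h1, h2]
  by_cases h : f (monoGL σ t) = 0
  · by_cases h' : f (antiFun (monoGL σ t)) = 0
    · rw [h, h', mul_zero, mul_zero]
    · rw [antiFun_mono] at h'
      have := (isGood_of_ne_zero hθ hf h').antiFun_eq
      rw [← antiFun_mono, antiFun_antiFun] at this
      rw [← antiFun_mono, ← this] at h'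
      exact absurd h h'
  · rw [(isGood_of_ne_zero hθ hf h).antiFun_eq]
    ring

/-- The multiplicity of a class function in the Gelfand-Graev character. -/
noncomputable def ggMult (θ : AddChar F ℂ) (χ : GL (Fin n) F → ℂ) : ℂ :=
  linMult (unitri n F) (genChar θ) χ

theorem ggMult_eq (θ : AddChar F ℂ) (χ : GL (Fin n) F → ℂ) :
    ggMult θ χ = classInner (fun u : unitri n F => χ u) (genChar θ) := by
  simp only [ggMult, linMult, classInner, Nat.card_eq_fintype_card]

theorem genChar_isCharacter (θ : AddChar F ℂ) :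
    IsCharacter (unitri n F) (genChar θ : unitri n F → ℂ) := by
  have h := CharBasicDecomp.isCharacter_linear (G := unitri n F)
    (genChar θ).toHomUnits
  exact h

theorem ggMult_nat (θ : AddChar F ℂ) {χ : GL (Fin n) F → ℂ} (hχ : IsCharacter (GL (Fin n) F) χ) :
    ∃ m : ℕ, ggMult θ χ = m := by
  rw [ggMult_eq]
  exact CharBasicOrth.classInner_isCharacter (CharBasic.isCharacter_comap (unitri n F).subtype hχ)
    (genChar_isCharacter θ)

theorem ggMult_irr {θ : AddChar F ℂ} (hθ : ∃ c, θ c ≠ 1) {χ : GL (Fin n) F → ℂ}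
    (hχ : IsIrrCharacter (GL (Fin n) F) χ) : ggMult θ χ = 0 ∨ ggMult θ χ = 1 := by
  rcases linMult_sq (unitri n F) (genChar θ) antiEquiv antiFun_mul (anti_fixed hθ) hχ with h | h
  · exact Or.inl h
  · obtain ⟨m, hm⟩ := ggMult_nat θ (CharBasic.isCharacter_of_isIrrCharacter hχ)
    unfold ggMult at hm ⊢
    rw [hm] at h ⊢
    have : m * m = 1 := by exact_mod_cast h
    rw [Nat.eq_one_of_mul_eq_one_right this, Nat.cast_one]
    exact Or.inr rfl

/-- The Gelfand-Graev character. -/
noncomputable def ggChar (θ : AddChar F ℂ) : GL (Fin n) F → ℂ :=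
  indFun (unitri n F) (genChar θ)

theorem inner_ggChar (θ : AddChar F ℂ) {χ : GL (Fin n) F → ℂ} (hχ : IsClassFunction (GL (Fin n) F) χ) :
    classInner χ (ggChar θ) = ggMult θ χ := by
  rw [ggMult_eq, ggChar, CharInduced.inner_ind_right _ _ hχ]

theorem sum_upper_eq {A B : Fin n → Fin n → ℂ} (h : ∀ a b, A a b = B a b) :
    ∑ a, ∑ b, A a b = ∑ a, ∑ b, B a b := by simp [h]

theorem good_agree (θ : AddChar F ℂ) {σ : Equiv.Perm (Fin n)} {t : Fin n → Fˣ} (hg : IsGood σ t)
    {u : GL (Fin n) F} (hu : u ∈ unitri n F)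
    (hu' : (monoGL σ t)⁻¹ * u * monoGL σ t ∈ unitri n F) :
    genChar θ ⟨_, hu'⟩ = genChar θ ⟨u, hu⟩ := by
  rw [genChar_apply, genChar_apply]
  congr 1
  unfold superSum
  refine Fintype.sum_equiv σ _ _ fun a => Fintype.sum_equiv σ _ _ fun b => ?_
  rw [conj_monoGL_apply]
  by_cases h1 : a.val + 1 = b.val <;> by_cases h2 : (σ a).val + 1 = (σ b).val <;>
    simp only [h1, h2, if_true, if_false]
  · have hlt : σ a < σ b := by change (σ a).val < (σ b).val; omega
    rw [(hg.1 a b h1 hlt).2, mul_div_assoc, div_self (t b).ne_zero, mul_one]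
  · rcases lt_or_ge (σ a) (σ b) with hlt | hge
    · exact absurd (hg.1 a b h1 hlt).1 h2
    · have hne : σ b ≠ σ a := σ.injective.ne (fun e => by subst e; omega)
      rw [unitri_zero hu (lt_of_le_of_ne hge hne), zero_mul, zero_div]
  · rcases lt_trichotomy a b with hlt | heq | hgt
    · exact absurd (hg.2 a b hlt h2) h1
    · subst heq; omega
    · have h3 := unitri_zero hu' hgt
      rw [conj_monoGL_apply, div_eq_zero_iff, mul_eq_zero] at h3
      rcases h3 with (h3 | h3) | h3
      · exact h3.symm
      · exact absurd h3 (t b).ne_zero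
      · exact absurd h3 (t a).ne_zero

theorem mono_unique {σ σ' : Equiv.Perm (Fin n)} {t t' : Fin n → Fˣ} {u v : GL (Fin n) F}
    (hu : u ∈ unitri n F) (hv : v ∈ unitri n F) (h : u * monoGL σ t * v = monoGL σ' t') :
    σ = σ' ∧ t = t' := by
  classical
  -- both sides give the same triangular matrix
  have hlab : Monotone (id : Fin n → Fin n) := monotone_id
  have hperm : σ = σ' := by
    let D : (Fin n → Fˣ) → GL (Fin n) F := fun d => monoGL 1 d
    have hm : ∀ (σ : Equiv.Perm (Fin n)) (t : Fin n → Fˣ),
        monoGL σ t = Cfsg.Agent.GLUnipotentDC.permGL n F σ * D t := by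
      intro σ t
      refine Units.ext (Matrix.ext fun i j => ?_)
      rw [Units.val_mul, Cfsg.Agent.GLUnipotentDC.permGL_mul_apply, monoGL_apply, monoGL_apply]
      simp [Equiv.eq_symm_apply, eq_comm]
    have hD : ∀ t : Fin n → Fˣ, D t ∈ Cfsg.upperTriangularGL n F := fun t i j hij => by
      rw [monoGL_apply]
      exact if_neg (by simpa using ne_of_gt hij)
    have hμ : ∑ _i : Fin n, (1 : ℕ) = n := by simp
    have hle : Cfsg.upperTriangularGL n F ≤ Cfsg.parabolicGL n F fun _ => 1 :=
      Cfsg.Agent.GLUnipotentDC.upperTriangular_le_parabolic _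
    obtain ⟨x, hx, y, hy, e⟩ := Cfsg.Agent.GLUnipotentDC.perm_doubleCoset_of_gl (fun _ => 1) (fun _ => 1)
      σ σ' (p := u) (q := D t * v * (D t')⁻¹) (hle hu.1)
      (mul_mem (mul_mem (hle (hD t)) (hle hv.1)) (inv_mem (hle (hD t')))) (by
        rw [hm σ' t', hm σ t] at h
        rw [show u * Cfsg.Agent.GLUnipotentDC.permGL n F σ * (D t * v * (D t')⁻¹) =
          u * (Cfsg.Agent.GLUnipotentDC.permGL n F σ * D t) * v * (D t')⁻¹ by group, h]
        group)
    have hone : ∀ z ∈ Cfsg.youngSubgroup (fun _ : Fin n => 1), z = (1 : Equiv.Perm (Fin n)) := by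
      intro z hz
      ext i
      have h1 : ∀ j : Fin n, Cfsg.compLabel (fun _ : Fin n => 1) j = j.val := by
        intro j
        unfold Cfsg.compLabel
        simp only [Finset.sum_const, smul_eq_mul, mul_one]
        conv_rhs => rw [← Fin.card_Iio j]
        congr 1
        ext x
        simp only [Finset.mem_filter, Finset.mem_univ, true_and, Finset.mem_Iio]
        rw [show (Finset.univ.filter fun k : Fin n => k ≤ x) = Finset.Iic x by ext; simp, Fin.card_Iic,
          Fin.lt_def]
        omega
      have := hz i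
      rw [h1, h1] at this
      simp [this]
    rw [hone x hx, hone y hy, one_mul, mul_one] at e
    exact e.symm
  subst hperm
  refine ⟨rfl, funext fun j => ?_⟩
  have h2 : (monoGL σ t)⁻¹ * (u⁻¹ : GL (Fin n) F) * monoGL σ t' = v := by
    rw [← h]; group
  have h3 : monoGL σ t * v = u⁻¹ * monoGL σ t' := by rw [← h2]; group
  have h4 := congrFun (congrFun (congrArg
    (fun x : GL (Fin n) F => (x : Matrix (Fin n) (Fin n) F)) h3) (σ j)) j
  simp only [Units.val_mul] at h4
  rw [monoGL_mul_apply, mul_monoGL_apply, unitri_diag hv, unitri_diag (inv_mem hu), one_mul, mul_one] at h4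
  exact Units.ext h4

theorem inner_gg_gg {θ : AddChar F ℂ} (hθ : ∃ c, θ c ≠ 1) {k : ℕ} :
    classInner (ggChar θ : GL (Fin (k + 1)) F → ℂ) (ggChar θ) =
      ((Fintype.card F - 1) * Fintype.card F ^ k : ℕ) := by
  classical
  have hcl := isClassFunction_genChar (F := F) (n := k + 1) θ
  rw [ggChar, inner_ind_ind_reps (unitri (k + 1) F) (unitri (k + 1) F) hcl hcl
    (ι := Fˣ × (Fin k → Option Fˣ)) (fun c => monoGL (codePerm c) (codeTorus c)) (fun _ => 1)]
  · simp [Finset.card_univ, Fintype.card_units, Fintype.card_option,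
      Nat.sub_add_cancel (Fintype.card_pos (α := F))]
  · intro c d u hu v hv h
    obtain ⟨e1, e2⟩ := mono_unique hu hv h
    rw [← toCode_code c, ← toCode_code d, e1, e2]
  · intro g hg
    obtain ⟨u, hu, v, hv, σ, t, rfl⟩ := exists_mono g
    rw [pairSum_mul _ _ hcl hcl hu hv]
    by_contra hne
    refine hg ⟨toCode σ t, u, hu, v, hv, ?_⟩
    have hgood : IsGood σ t := by
      refine good_of_root hθ σ t fun a b hab hs c => ?_
      rw [pairSum_eq_sum_stab] at hne
      let x : {h : unitri (k + 1) F // (monoGL σ t)⁻¹ * (h : GL (Fin (k + 1)) F) * monoGL σ t ∈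
          unitri (k + 1) F} :=
        ⟨⟨_, rootGL_mem hs c⟩, by rw [monoGL_root σ t hab.ne c]; exact rootGL_mem hab _⟩
      set S := ∑ h : {h : unitri (k + 1) F // (monoGL σ t)⁻¹ * (h : GL (Fin (k + 1)) F) * monoGL σ t ∈
          unitri (k + 1) F}, genChar θ h.1 * conj (genChar θ ⟨_, h.2⟩) with hS
      have hshift : S = genChar θ x.1 * conj (genChar θ ⟨_, x.2⟩) * S := by
        rw [hS, Finset.mul_sum]
        refine (Fintype.sum_equiv
          { toFun := fun h => ⟨x.1 * h.1, by
              have := mul_mem x.2 h.2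
              rw [show (monoGL σ t)⁻¹ * ((x.1 * h.1 : unitri (k + 1) F) : GL (Fin (k + 1)) F) * monoGL σ t =
                (monoGL σ t)⁻¹ * (x.1 : GL (Fin (k + 1)) F) * monoGL σ t *
                  ((monoGL σ t)⁻¹ * (h.1 : GL (Fin (k + 1)) F) * monoGL σ t) by
                    rw [Subgroup.coe_mul]; group]
              exact this⟩
            invFun := fun h => ⟨x.1⁻¹ * h.1, by
              have := mul_mem (inv_mem x.2) h.2
              rw [show (monoGL σ t)⁻¹ * ((x.1⁻¹ * h.1 : unitri (k + 1) F) : GL (Fin (k + 1)) F) * monoGL σ t =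
                ((monoGL σ t)⁻¹ * (x.1 : GL (Fin (k + 1)) F) * monoGL σ t)⁻¹ *
                  ((monoGL σ t)⁻¹ * (h.1 : GL (Fin (k + 1)) F) * monoGL σ t) by
                    rw [Subgroup.coe_mul, Subgroup.coe_inv]; group]
              exact this⟩
            left_inv := fun h => Subtype.ext (inv_mul_cancel_left x.1 h.1)
            right_inv := fun h => Subtype.ext (mul_inv_cancel_left x.1 h.1) } _ _ fun h => ?_).symm
        simp only [Equiv.coe_fn_mk]
        have hm : (⟨(monoGL σ t)⁻¹ * ((x.1 * h.1 : unitri (k + 1) F) : GL (Fin (k + 1)) F) * monoGL σ t, by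
              have := mul_mem x.2 h.2
              rw [show (monoGL σ t)⁻¹ * ((x.1 * h.1 : unitri (k + 1) F) : GL (Fin (k + 1)) F) * monoGL σ t =
                (monoGL σ t)⁻¹ * (x.1 : GL (Fin (k + 1)) F) * monoGL σ t *
                  ((monoGL σ t)⁻¹ * (h.1 : GL (Fin (k + 1)) F) * monoGL σ t) by
                    rw [Subgroup.coe_mul]; group]
              exact this⟩ : unitri (k + 1) F) = ⟨_, x.2⟩ * ⟨_, h.2⟩ :=
          Subtype.ext (by simp only [Subgroup.coe_mul]; group)
        rw [hm, map_mul, map_mul, map_mul]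
        ring
      have hone : genChar θ x.1 * conj (genChar θ ⟨_, x.2⟩) = 1 :=
        (mul_eq_right₀ hne).1 hshift.symm
      have hroot : (⟨_, x.2⟩ : unitri (k + 1) F) = ⟨_, rootGL_mem hab (c * t b / t a)⟩ :=
        Subtype.ext (monoGL_root σ t hab.ne c)
      have hsa : superSum ((x.1 : GL (Fin (k + 1)) F) : Matrix (Fin (k + 1)) (Fin (k + 1)) F) =
          if (σ a).val + 1 = (σ b).val then c else 0 := superSum_root hs c
      rw [hroot, genChar_apply, genChar_apply, hsa, superSum_root hab,
        ← AddChar.map_neg_eq_conj] at hone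
      calc θ (if (σ a).val + 1 = (σ b).val then c else 0)
          = θ (if (σ a).val + 1 = (σ b).val then c else 0) *
            (θ (-(if a.val + 1 = b.val then c * t b / t a else 0)) *
              θ (if a.val + 1 = b.val then c * t b / t a else 0)) := by
            rw [← AddChar.map_add_eq_mul, neg_add_cancel, AddChar.map_zero_eq_one, mul_one]
        _ = _ := by rw [← mul_assoc, hone, one_mul]
    obtain ⟨e1, e2⟩ := code_toCode hgood
    rw [e1, e2]
  · intro c
    rw [pairSum_eq_sum_stab, mul_one, stabCard, Nat.card_eq_fintype_card, ← nsmul_one,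
      ← Finset.card_univ, ← Finset.sum_const]
    refine Finset.sum_congr rfl fun h _ => ?_
    rw [good_agree θ (code_isGood c) h.1.2 h.2, Complex.mul_conj', genChar_apply,
      AddChar.norm_apply]
    simp

/-- The generic irreducible characters. -/
def Gen (θ : AddChar F ℂ) (n : ℕ) : Type _ :=
  {χ : IrrCharacter (GL (Fin n) F) // ggMult θ (χ : GL (Fin n) F → ℂ) = 1}

theorem card_gen {θ : AddChar F ℂ} (hθ : ∃ c, θ c ≠ 1) (n : ℕ) (hn : 0 < n) :
    Nat.card (Gen θ n) = (Fintype.card F - 1) * Fintype.card F ^ (n - 1) := by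
  classical
  obtain ⟨k, rfl⟩ : ∃ k, n = k + 1 := ⟨n - 1, by omega⟩
  have h := inner_gg_gg (k := k) hθ
  rw [CharBasicOrth.classInner_eq_sum (ψ := ggChar θ) (φ := ggChar θ)
    (CharInduced.isClassFunction_ind _ _ : IsClassFunction _ (ggChar θ))] at h
  have h2 : ∀ χ : IrrCharacter (GL (Fin (k + 1)) F),
      classInner (ggChar θ) (χ : GL (Fin (k + 1)) F → ℂ) *
        conj (classInner (ggChar θ) (χ : GL (Fin (k + 1)) F → ℂ)) =
      if ggMult θ (χ : GL (Fin (k + 1)) F → ℂ) = 1 then 1 else 0 := by
    intro χ
    rw [← CharBasicOrth.conj_classInner, inner_ggChar θ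
      (CharBasic.isClassFunction_of_isCharacter (CharBasic.isCharacter_of_isIrrCharacter χ.2))]
    rcases ggMult_irr hθ χ.2 with e | e <;> simp [e]
  rw [Finset.sum_congr rfl fun χ _ => h2 χ, Finset.sum_boole] at h
  rw [Gen, Nat.card_eq_fintype_card, Fintype.card_subtype, Nat.add_sub_cancel]
  exact_mod_cast h

end Generic

end Cfsg.Agent.GelfandGraev88
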