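import Mathlib
import Cfsg.Agent.Lib.GelfandGraev88Generic

/-!
A cuspidal irreducible character of `GL_n` is generic and has degree `∏ (q^i - 1)`.
-/

set_option autoImplicit false

open scoped MatrixGroups ComplexConjugate
open Finset

namespace Cfsg.Agent.GelfandGraev88

section Radical

variable {F : Type*} [Field F] {ι : Type*} [Fintype ι] [DecidableEq ι]

theorem rad_mul_apply {A : Finset ι} {a b : GL ι F}
    (ha : ∀ i j, ¬(i ∈ A ∧ j ∉ A) → (a : Matrix ι ι F) i j = (1 : Matrix ι ι F) i j)
    (hb : ∀ i j, ¬(i ∈ A ∧ j ∉ A) → (b : Matrix ι ι F) i j = (1 : Matrix ι ι F) i j) :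
    ((a * b : GL ι F) : Matrix ι ι F) = (a : Matrix ι ι F) + (b : Matrix ι ι F) - 1 := by
  have h0 : ((a : Matrix ι ι F) - 1) * ((b : Matrix ι ι F) - 1) = 0 := by
    refine Matrix.ext fun i j => ?_
    rw [Matrix.mul_apply, Matrix.zero_apply]
    refine Finset.sum_eq_zero fun k _ => ?_
    by_cases hk : k ∈ A
    · rw [Matrix.sub_apply, ha i k (fun h => h.2 hk), sub_self, zero_mul]
    · rw [Matrix.sub_apply, Matrix.sub_apply _ _ k j, hb k j (fun h => hk h.1), sub_self, mul_zero]
  rw [sub_mul, mul_sub, mul_one, one_mul] at h0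
  rw [Units.val_mul, ← sub_eq_zero]
  linear_combination (norm := noncomm_ring) h0

/-- The matrices agreeing with the identity outside a block `A × Aᶜ`. -/
def radical (A : Finset ι) : Subgroup (GL ι F) where
  carrier := {g | ∀ i j, ¬(i ∈ A ∧ j ∉ A) → (g : Matrix ι ι F) i j = (1 : Matrix ι ι F) i j}
  one_mem' := fun i j _ => by simp
  mul_mem' := fun {a b} ha hb i j h => by
    rw [rad_mul_apply ha hb]
    simp [ha i j h, hb i j h]
  inv_mem' := fun {a} ha => by
    have h2 : ((a : Matrix ι ι F) - 1) * ((a : Matrix ι ι F) - 1) = 0 := by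
      have := rad_mul_apply ha ha
      rw [Units.val_mul] at this
      linear_combination (norm := noncomm_ring) this
    have h3 : ((a⁻¹ : GL ι F) : Matrix ι ι F) = 2 - (a : Matrix ι ι F) := by
      have h4 : (a : Matrix ι ι F) * (2 - (a : Matrix ι ι F)) = 1 := by
        linear_combination (norm := noncomm_ring) -h2
      calc ((a⁻¹ : GL ι F) : Matrix ι ι F) = ((a⁻¹ : GL ι F) : Matrix ι ι F) * 1 := (mul_one _).symm
        _ = ((a⁻¹ : GL ι F) : Matrix ι ι F) * ((a : Matrix ι ι F) * (2 - (a : Matrix ι ι F))) := by rw [h4]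
        _ = 2 - (a : Matrix ι ι F) := by rw [← mul_assoc, ← Units.val_mul, inv_mul_cancel, Units.val_one, one_mul]
    intro i j h
    rw [h3, show (2 : Matrix ι ι F) = 1 + 1 from one_add_one_eq_two.symm]
    simp [ha i j h]

theorem mem_radical {A : Finset ι} {g : GL ι F} :
    g ∈ radical A ↔ ∀ i j, ¬(i ∈ A ∧ j ∉ A) → (g : Matrix ι ι F) i j = (1 : Matrix ι ι F) i j := Iff.rfl

noncomputable instance radicalFintype [Fintype F] (A : Finset ι) : Fintype (radical (F := F) A) :=
  Fintype.ofFinite _

/-- Cuspidality. -/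
def IsCusp [Fintype F] (χ : GL ι F → ℂ) : Prop :=
  ∀ A : Finset ι, A.Nonempty → A ≠ univ → ∑ x : radical (F := F) A, χ x = 0

end Radical

section Columns

variable {F : Type*} [Field F] {n : ℕ}

/-- The unitriangular matrices with the first `j` columns trivial. -/
def colGroup (n : ℕ) (F : Type*) [Field F] (j : ℕ) : Subgroup (GL (Fin n) F) where
  carrier := {g | g ∈ unitri n F ∧ ∀ a c : Fin n, c.val < j →
    (g : Matrix (Fin n) (Fin n) F) a c = (1 : Matrix (Fin n) (Fin n) F) a c}
  one_mem' := ⟨one_mem _, fun a c _ => by simp⟩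
  mul_mem' := fun {g h} hg hh => ⟨mul_mem hg.1 hh.1, fun a c hc => by
    rw [Units.val_mul, Matrix.mul_apply, Finset.sum_eq_single c]
    · rw [hh.2 c c hc, Matrix.one_apply_eq, mul_one, hg.2 a c hc]
    · intro k _ hk
      rw [hh.2 k c hc, Matrix.one_apply_ne hk, mul_zero]
    · simp⟩
  inv_mem' := fun {g} hg => ⟨inv_mem hg.1, fun a c hc => by
    have h : ((g⁻¹ * g : GL (Fin n) F) : Matrix (Fin n) (Fin n) F) a c =
        ((g⁻¹ : GL (Fin n) F) : Matrix (Fin n) (Fin n) F) a c := by
      rw [Units.val_mul, Matrix.mul_apply, Finset.sum_eq_single c]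
      · rw [hg.2 c c hc, Matrix.one_apply_eq, mul_one]
      · intro k _ hk
        rw [hg.2 k c hc, Matrix.one_apply_ne hk, mul_zero]
      · simp
    rw [← h, inv_mul_cancel, Units.val_one]⟩

theorem colGroup_le (j : ℕ) : colGroup n F j ≤ unitri n F := fun _ h => h.1

theorem colGroup_apply {j : ℕ} {g : GL (Fin n) F} (hg : g ∈ colGroup n F j) (a c : Fin n) (hc : c.val < j) :
    (g : Matrix (Fin n) (Fin n) F) a c = (1 : Matrix (Fin n) (Fin n) F) a c := hg.2 a c hc

theorem colGroup_top : colGroup n F n = ⊥ := by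
  rw [eq_bot_iff]
  intro g hg
  rw [Subgroup.mem_bot]
  exact Units.ext (Matrix.ext fun a c => by simpa using hg.2 a c c.isLt)

theorem colGroup_one : colGroup n F 1 = unitri n F := by
  refine le_antisymm (colGroup_le 1) fun g hg => ⟨hg, fun a c hc => ?_⟩
  rcases eq_or_ne a c with rfl | hne
  · simpa using unitri_diag hg a
  · rw [Matrix.one_apply_ne hne]
    refine unitri_zero hg ?_
    change c.val < a.val
    have : a.val ≠ c.val := fun e => hne (Fin.ext e)
    omega

/-- A column vector above position `j`. -/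
def colMat (j : Fin n) (v : Fin j.val → F) : Matrix (Fin n) (Fin n) F :=
  fun a c => if h : a.val < j.val ∧ c = j then v ⟨a.val, h.1⟩ else (1 : Matrix (Fin n) (Fin n) F) a c

theorem colMat_triangular (j : Fin n) (v : Fin j.val → F) : (colMat j v).BlockTriangular id := by
  intro a c h
  simp only [id] at h
  rw [colMat, dif_neg, Matrix.one_apply_ne h.ne']
  rintro ⟨h1, rfl⟩
  exact absurd h1 (not_lt.2 (Fin.le_def.1 h.le))

theorem colMat_diag (j : Fin n) (v : Fin j.val → F) (a : Fin n) : colMat j v a a = 1 := by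
  rw [colMat, dif_neg, Matrix.one_apply_eq]
  rintro ⟨h1, rfl⟩
  exact lt_irrefl _ h1

/-- A column vector above position `j`, as an element of `GL_n`. -/
def colGL (j : Fin n) (v : Fin j.val → F) : GL (Fin n) F :=
  Matrix.GeneralLinearGroup.mkOfDetNeZero (colMat j v)
    (by rw [Matrix.det_of_isUpperTriangular (colMat_triangular j v)]; simp [colMat_diag])

theorem colGL_coe (j : Fin n) (v : Fin j.val → F) :
    ((colGL j v : GL (Fin n) F) : Matrix (Fin n) (Fin n) F) = colMat j v := rfl

theorem colGL_mem (j : Fin n) (v : Fin j.val → F) : colGL j v ∈ colGroup n F j.val := by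
  refine ⟨⟨colMat_triangular j v, colMat_diag j v⟩, fun a c hc => ?_⟩
  rw [colGL_coe, colMat, dif_neg]
  rintro ⟨-, rfl⟩
  exact lt_irrefl _ hc

theorem mul_colMat_of_ne (A : Matrix (Fin n) (Fin n) F) (j : Fin n) (v : Fin j.val → F) (a : Fin n)
    {c : Fin n} (hc : c ≠ j) : (A * colMat j v) a c = A a c := by
  rw [Matrix.mul_apply, Finset.sum_eq_single c]
  · rw [colMat, dif_neg (fun h => hc h.2), Matrix.one_apply_eq, mul_one]
  · intro k _ hk
    rw [colMat, dif_neg (fun h => hc h.2), Matrix.one_apply_ne hk, mul_zero]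
  · simp

theorem mul_colMat_self (A : Matrix (Fin n) (Fin n) F) (j : Fin n) (v : Fin j.val → F) (a : Fin n) :
    (A * colMat j v) a j = A a j + ∑ i : Fin j.val, A a (Fin.castLE j.isLt.le i) * v i := by
  rw [Matrix.mul_apply, ← Finset.sum_filter_add_sum_filter_not Finset.univ (fun k : Fin n => k.val < j.val),
    add_comm]
  congr 1
  · rw [Finset.sum_eq_single j]
    · rw [colMat_diag, mul_one]
    · intro k hk hkj
      rw [colMat, dif_neg (fun h => (Finset.mem_filter.1 hk).2 h.1), Matrix.one_apply_ne hkj, mul_zero]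
    · simp
  · refine Finset.sum_bij (fun k hk => (⟨k.val, (Finset.mem_filter.1 hk).2⟩ : Fin j.val))
      (fun _ _ => Finset.mem_univ _) (fun x _ y _ e => Fin.ext (by simpa [Fin.ext_iff] using e))
      (fun i _ => ⟨Fin.castLE j.isLt.le i, Finset.mem_filter.2 ⟨Finset.mem_univ _, i.isLt⟩, rfl⟩)
      fun k hk => ?_
    rw [colMat, dif_pos ⟨(Finset.mem_filter.1 hk).2, rfl⟩]
    congr 1

theorem col_entry {j : Fin n} {u : GL (Fin n) F} (hu : u ∈ colGroup n F j.val) (v : Fin j.val → F)
    (a : Fin n) (ha : a.val < j.val) :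
    ((u * colGL j v : GL (Fin n) F) : Matrix (Fin n) (Fin n) F) a j =
      (u : Matrix (Fin n) (Fin n) F) a j + v ⟨a.val, ha⟩ := by
  rw [Units.val_mul, colGL_coe, mul_colMat_self, Finset.sum_eq_single (⟨a.val, ha⟩ : Fin j.val)]
  · rw [show Fin.castLE j.isLt.le ⟨a.val, ha⟩ = a from Fin.ext rfl, colGroup_apply hu a a ha,
      Matrix.one_apply_eq, one_mul]
  · intro i _ hi
    rw [colGroup_apply hu _ _ (by simp), Matrix.one_apply_ne, zero_mul]
    intro e
    exact hi (Fin.ext (by rw [Fin.ext_iff] at e; simpa using e.symm))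
  · simp

/-- Splitting off column `j`. -/
noncomputable def colEquiv (j : Fin n) :
    colGroup n F (j.val + 1) × (Fin j.val → F) ≃ colGroup n F j.val :=
  Equiv.ofBijective
    (fun p => ⟨(p.1 : GL (Fin n) F) * colGL j p.2, mul_mem
      (show (p.1 : GL (Fin n) F) ∈ colGroup n F j.val from
        ⟨p.1.2.1, fun a c hc => p.1.2.2 a c (by omega)⟩) (colGL_mem j p.2)⟩)
    ⟨fun p q h => by
      have hp : (p.1 : GL (Fin n) F) ∈ colGroup n F j.val := ⟨p.1.2.1, fun a c hc => p.1.2.2 a c (by omega)⟩
      have hq : (q.1 : GL (Fin n) F) ∈ colGroup n F j.val := ⟨q.1.2.1, fun a c hc => q.1.2.2 a c (by omega)⟩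
      have h' : (p.1 : GL (Fin n) F) * colGL j p.2 = q.1 * colGL j q.2 := congrArg Subtype.val h
      have hv : p.2 = q.2 := funext fun i => by
        have e := congrFun (congrFun (congrArg (fun x : GL (Fin n) F => (x : Matrix (Fin n) (Fin n) F)) h')
          (Fin.castLE j.isLt.le i)) j
        rw [col_entry hp p.2 _ (by simp), col_entry hq q.2 _ (by simp),
          colGroup_apply p.1.2 _ _ (Nat.lt_succ_self _), colGroup_apply q.1.2 _ _ (Nat.lt_succ_self _)] at e
        simpa using e
      rw [hv] at h'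
      exact Prod.ext (Subtype.ext (mul_right_cancel h')) hv,
    fun w => by
      let v : Fin j.val → F := fun i => (w : GL (Fin n) F).val (Fin.castLE j.isLt.le i) j
      have hmem : (w : GL (Fin n) F) * colGL j (-v) ∈ colGroup n F (j.val + 1) := by
        have h0 := mul_mem w.2 (colGL_mem j (-v))
        refine ⟨h0.1, fun a c hc => ?_⟩
        rcases Nat.lt_succ_iff_lt_or_eq.1 hc with hc | hc
        · exact h0.2 a c hc
        · obtain rfl : c = j := Fin.ext hc
          rcases lt_trichotomy a c with h | rfl | h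
          · rw [col_entry w.2 _ a h, Matrix.one_apply_ne h.ne]
            simp [v]
          · simpa using unitri_diag h0.1 a
          · rw [Matrix.one_apply_ne h.ne']
            exact unitri_zero h0.1 h
      refine ⟨(⟨_, hmem⟩, v), Subtype.ext ?_⟩
      have hinv : colGL j (-v) * colGL j v = 1 := by
        refine Units.ext (Matrix.ext fun a c => ?_)
        rcases eq_or_ne c j with rfl | hc
        · rcases lt_trichotomy a c with h | rfl | h
          · rw [col_entry (colGL_mem c (-v)) v a h, colGL_coe, colMat, dif_pos ⟨h, rfl⟩]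
            simp [h.ne]
          · simpa using unitri_diag (mul_mem (colGL_mem a (-v)) (colGL_mem a v)).1 a
          · rw [unitri_zero (mul_mem (colGL_mem c (-v)) (colGL_mem c v)).1 h]
            simp [h.ne']
        · rw [Units.val_mul, colGL_coe, colGL_coe, mul_colMat_of_ne _ _ _ _ hc, colMat,
            dif_neg (fun h => hc h.2)]
          rfl
      change (w : GL (Fin n) F) * colGL j (-v) * colGL j v = w
      rw [mul_assoc, hinv, mul_one]⟩

theorem colEquiv_apply (j : Fin n) (u : colGroup n F (j.val + 1)) (v : Fin j.val → F) :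
    ((colEquiv j (u, v) : colGroup n F j.val) : GL (Fin n) F) = (u : GL (Fin n) F) * colGL j v := rfl

/-- The sum above the diagonal in the rows from `j` on. -/
def lowSum (j : ℕ) (A : Matrix (Fin n) (Fin n) F) : F :=
  ∑ a : Fin n, ∑ c : Fin n, if a.val + 1 = c.val ∧ j ≤ a.val then A a c else 0

theorem superSum_colGroup {j : ℕ} {u : GL (Fin n) F} (hu : u ∈ colGroup n F (j + 1)) :
    superSum (u : Matrix (Fin n) (Fin n) F) = lowSum j (u : Matrix (Fin n) (Fin n) F) := by
  refine Finset.sum_congr rfl fun a _ => Finset.sum_congr rfl fun c _ => ?_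
  by_cases h : a.val + 1 = c.val
  · by_cases h' : j ≤ a.val
    · simp [h, h']
    · rw [if_pos h, if_neg (fun e => h' e.2), colGroup_apply hu a c (by omega), Matrix.one_apply_ne]
      exact fun e => by subst e; omega
  · simp [h]

theorem low_mul {j : ℕ} {u : GL (Fin n) F} (hu : u ∈ unitri n F) {x : GL (Fin n) F}
    (hx : ∀ k c : Fin n, j ≤ k.val → (x : Matrix (Fin n) (Fin n) F) k c = (1 : Matrix (Fin n) (Fin n) F) k c)
    (a c : Fin n) (ha : j ≤ a.val) :
    ((u * x : GL (Fin n) F) : Matrix (Fin n) (Fin n) F) a c = (u : Matrix (Fin n) (Fin n) F) a c := by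
  rw [Units.val_mul, Matrix.mul_apply, Finset.sum_eq_single c]
  · by_cases hc : j ≤ c.val
    · rw [hx c c hc, Matrix.one_apply_eq, mul_one]
    · rw [unitri_zero hu (show c < a by change c.val < a.val; omega), zero_mul]
  · intro k _ hk
    by_cases hkj : j ≤ k.val
    · rw [hx k c hkj, Matrix.one_apply_ne hk, mul_zero]
    · rw [unitri_zero hu (show k < a by change k.val < a.val; omega), zero_mul]
  · simp

theorem lowSum_mul {j : ℕ} {u : GL (Fin n) F} (hu : u ∈ unitri n F) {x : GL (Fin n) F}
    (hx : ∀ k c : Fin n, j ≤ k.val → (x : Matrix (Fin n) (Fin n) F) k c = (1 : Matrix (Fin n) (Fin n) F) k c) :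
    lowSum j ((u * x : GL (Fin n) F) : Matrix (Fin n) (Fin n) F) = lowSum j (u : Matrix (Fin n) (Fin n) F) := by
  refine Finset.sum_congr rfl fun a _ => Finset.sum_congr rfl fun c _ => ?_
  by_cases h : a.val + 1 = c.val ∧ j ≤ a.val
  · rw [if_pos h, if_pos h, low_mul hu hx a c h.2]
  · rw [if_neg h, if_neg h]

theorem colMat_low (j : Fin n) (v : Fin j.val → F) (k c : Fin n) (hk : j.val ≤ k.val) :
    colMat j v k c = (1 : Matrix (Fin n) (Fin n) F) k c := by
  rw [colMat, dif_neg]
  exact fun h => absurd h.1 (not_lt.2 hk)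

theorem superSum_colGL (j : Fin n) (v : Fin j.val → F) (hj : 0 < j.val) :
    superSum ((colGL j v : GL (Fin n) F) : Matrix (Fin n) (Fin n) F) = v ⟨j.val - 1, by omega⟩ := by
  unfold superSum
  rw [Finset.sum_eq_single (⟨j.val - 1, by omega⟩ : Fin n), Finset.sum_eq_single j]
  · rw [if_pos (by simp; omega), colGL_coe, colMat, dif_pos ⟨by simp; omega, rfl⟩]
  · intro c _ hc
    split_ifs with h
    · exact absurd (Fin.ext (by simp at h ⊢; omega)) hc
    · rfl
  · simp
  · intro a _ ha
    refine Finset.sum_eq_zero fun c _ => ?_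
    split_ifs with h
    · rw [colGL_coe, colMat, dif_neg, Matrix.one_apply_ne]
      · exact fun e => by subst e; omega
      · rintro ⟨-, rfl⟩
        exact ha (Fin.ext (by simp; omega))
    · rfl
  · simp

end Columns

section TopBlock

variable {F : Type*} [Field F] {n : ℕ}

/-- A block `g` in the upper left corner. -/
def topMat (j : Fin n) (g : Matrix (Fin j.val) (Fin j.val) F) : Matrix (Fin n) (Fin n) F :=
  fun a c => if h : a.val < j.val ∧ c.val < j.val then g ⟨a.val, h.1⟩ ⟨c.val, h.2⟩
    else (1 : Matrix (Fin n) (Fin n) F) a c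

theorem topMat_one (j : Fin n) : topMat j (1 : Matrix (Fin j.val) (Fin j.val) F) = 1 := by
  refine Matrix.ext fun a c => ?_
  unfold topMat
  split_ifs with h
  · simp [Matrix.one_apply, Fin.ext_iff]
  · rfl

theorem topMat_mul_apply (j : Fin n) (g : Matrix (Fin j.val) (Fin j.val) F) (A : Matrix (Fin n) (Fin n) F)
    (a c : Fin n) : (topMat j g * A) a c = if h : a.val < j.val then
      ∑ k : Fin j.val, g ⟨a.val, h⟩ k * A (Fin.castLE j.isLt.le k) c else A a c := by
  rw [Matrix.mul_apply]
  split_ifs with h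
  · rw [← Finset.sum_filter_add_sum_filter_not Finset.univ (fun k : Fin n => k.val < j.val),
      Finset.sum_eq_zero (s := Finset.univ.filter fun k : Fin n => ¬ k.val < j.val) fun k hk => by
        rw [topMat, dif_neg (fun e => (Finset.mem_filter.1 hk).2 e.2), Matrix.one_apply_ne, zero_mul]
        exact fun e => (Finset.mem_filter.1 hk).2 (e ▸ h),
      add_zero]
    refine Finset.sum_bij (fun k hk => (⟨k.val, (Finset.mem_filter.1 hk).2⟩ : Fin j.val))
      (fun _ _ => Finset.mem_univ _) (fun x _ y _ e => Fin.ext (by simpa [Fin.ext_iff] using e))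
      (fun i _ => ⟨Fin.castLE j.isLt.le i, Finset.mem_filter.2 ⟨Finset.mem_univ _, i.isLt⟩, rfl⟩)
      fun k hk => ?_
    rw [topMat, dif_pos ⟨h, (Finset.mem_filter.1 hk).2⟩]
    congr 1
  · rw [Finset.sum_eq_single a]
    · rw [topMat, dif_neg (fun e => h e.1), Matrix.one_apply_eq, one_mul]
    · intro k _ hk
      rw [topMat, dif_neg (fun e => h e.1), Matrix.one_apply_ne hk.symm, zero_mul]
    · simp

theorem topMat_mul (j : Fin n) (g g' : Matrix (Fin j.val) (Fin j.val) F) :
    topMat j g * topMat j g' = topMat j (g * g') := by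
  refine Matrix.ext fun a c => ?_
  rw [topMat_mul_apply]
  split_ifs with ha
  · by_cases hc : c.val < j.val
    · rw [topMat, dif_pos ⟨ha, hc⟩, Matrix.mul_apply]
      refine Finset.sum_congr rfl fun k _ => ?_
      rw [topMat, dif_pos ⟨by simp, hc⟩]
      rfl
    · rw [topMat, dif_neg (fun e => hc e.2), Matrix.one_apply_ne (fun e => hc (by rw [← e]; exact ha))]
      refine Finset.sum_eq_zero fun k _ => ?_
      rw [topMat, dif_neg (fun e => hc e.2), Matrix.one_apply_ne, mul_zero]
      exact fun e => hc (by rw [← e]; simp)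
  · rw [topMat, dif_neg (fun e => ha e.1), topMat, dif_neg (fun e => ha e.1)]

/-- A block `g` in the upper left corner, as a homomorphism. -/
def topHom (j : Fin n) : GL (Fin j.val) F →* GL (Fin n) F :=
  MonoidHom.toHomUnits
    { toFun := fun g => topMat j (g : Matrix (Fin j.val) (Fin j.val) F)
      map_one' := topMat_one j
      map_mul' := fun a b => by rw [topMat_mul]; rfl }

theorem topHom_coe (j : Fin n) (g : GL (Fin j.val) F) :
    ((topHom j g : GL (Fin n) F) : Matrix (Fin n) (Fin n) F) = topMat j (g : Matrix (Fin j.val) (Fin j.val) F) :=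
  rfl

theorem top_conj_low (j : Fin n) (g : GL (Fin j.val) F) {u : GL (Fin n) F} (hu : u ∈ unitri n F)
    (a c : Fin n) (ha : j.val ≤ a.val) :
    ((topHom j g * u * (topHom j g)⁻¹ : GL (Fin n) F) : Matrix (Fin n) (Fin n) F) a c =
      (u : Matrix (Fin n) (Fin n) F) a c := by
  rw [mul_assoc, Units.val_mul, topHom_coe, topMat_mul_apply, dif_neg (not_lt.2 ha), ← map_inv]
  refine low_mul (j := j.val) hu (fun k c hk => ?_) a c ha
  rw [topHom_coe, topMat, dif_neg (fun e => absurd e.1 (not_lt.2 hk))]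

theorem top_conj_mem (j : Fin n) (g : GL (Fin j.val) F) {u : GL (Fin n) F}
    (hu : u ∈ colGroup n F (j.val + 1)) :
    topHom j g * u * (topHom j g)⁻¹ ∈ colGroup n F (j.val + 1) := by
  have hcol : ∀ a c : Fin n, c.val < j.val + 1 →
      ((topHom j g * u * (topHom j g)⁻¹ : GL (Fin n) F) : Matrix (Fin n) (Fin n) F) a c =
        (1 : Matrix (Fin n) (Fin n) F) a c := by
    intro a c hc
    have h1 : ((u * (topHom j g)⁻¹ : GL (Fin n) F) : Matrix (Fin n) (Fin n) F) = fun a c =>
        ∑ k, (u : Matrix (Fin n) (Fin n) F) a k * topMat j ((g⁻¹ : GL (Fin j.val) F) : Matrix _ _ F) k c := by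
      funext a c
      rw [Units.val_mul, Matrix.mul_apply, ← map_inv, topHom_coe]
    have h2 : ∀ a, ((u * (topHom j g)⁻¹ : GL (Fin n) F) : Matrix (Fin n) (Fin n) F) a c =
        (((topHom j g)⁻¹ : GL (Fin n) F) : Matrix (Fin n) (Fin n) F) a c := by
      intro a
      rw [h1, ← map_inv, topHom_coe]
      simp only
      rw [Finset.sum_eq_single a]
      · by_cases ha : a.val < j.val + 1
        · rw [colGroup_apply hu a a ha, Matrix.one_apply_eq, one_mul]
        · rw [unitri_diag hu.1, one_mul]
      · intro k _ hk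
        by_cases hkj : k.val < j.val + 1
        · rw [colGroup_apply hu a k hkj, Matrix.one_apply_ne hk.symm, zero_mul]
        · rw [topMat, dif_neg (fun e => hkj (by omega)), Matrix.one_apply_ne, mul_zero]
          exact fun e => hkj (by rw [e]; exact hc)
      · simp
    rw [mul_assoc, Units.val_mul, Matrix.mul_apply]
    simp only [h2]
    rw [← Matrix.mul_apply, ← Units.val_mul, mul_inv_cancel, Units.val_one]
  refine ⟨mem_unitri_iff.2 ⟨fun a c h => ?_, fun a => ?_⟩, hcol⟩
  · by_cases ha : a.val < j.val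
    · rw [hcol a c (by change c.val < a.val at h; omega), Matrix.one_apply_ne h.ne']
    · rw [top_conj_low j g hu.1 a c (by omega)]
      exact unitri_zero hu.1 h
  · by_cases ha : a.val < j.val
    · rw [hcol a a (by omega), Matrix.one_apply_eq]
    · rw [top_conj_low j g hu.1 a a (by omega)]
      exact unitri_diag hu.1 a

theorem top_conj_col (j : Fin n) (g : GL (Fin j.val) F) (v : Fin j.val → F) :
    topHom j g * colGL j v = colGL j ((g : Matrix (Fin j.val) (Fin j.val) F).mulVec v) * topHom j g := by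
  refine Units.ext (Matrix.ext fun a c => ?_)
  rw [Units.val_mul, Units.val_mul, topHom_coe, colGL_coe, colGL_coe]
  rcases eq_or_ne c j with rfl | hc
  · rw [mul_colMat_self]
    have h1 : (colMat c ((g : Matrix (Fin c.val) (Fin c.val) F).mulVec v) *
        topMat c (g : Matrix (Fin c.val) (Fin c.val) F)) a c =
        colMat c ((g : Matrix (Fin c.val) (Fin c.val) F).mulVec v) a c := by
      rw [Matrix.mul_apply, Finset.sum_eq_single c]
      · rw [topMat, dif_neg (fun e => lt_irrefl _ e.1), Matrix.one_apply_eq, mul_one]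
      · intro k _ hk
        rw [topMat, dif_neg (fun e => lt_irrefl _ e.2), Matrix.one_apply_ne hk, mul_zero]
      · simp
    rw [h1]
    by_cases ha : a.val < c.val
    · rw [colMat, dif_pos ⟨ha, rfl⟩, topMat, dif_neg (fun e => lt_irrefl _ e.2),
        Matrix.one_apply_ne (fun e => by subst e; exact lt_irrefl _ ha), zero_add]
      refine Finset.sum_congr rfl fun i _ => ?_
      rw [topMat, dif_pos ⟨ha, by simp⟩]
      rfl
    · rw [colMat, dif_neg (fun e => ha e.1), topMat, dif_neg (fun e => ha e.1), add_eq_left]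
      refine Finset.sum_eq_zero fun i _ => ?_
      rw [topMat, dif_neg (fun e => ha e.1), Matrix.one_apply_ne, zero_mul]
      exact fun e => ha (by rw [e]; simp)
  · rw [mul_colMat_of_ne _ _ _ _ hc, Matrix.mul_apply, Finset.sum_eq_single a]
    · rw [colMat_diag, one_mul]
    · intro k _ hk
      by_cases h : a.val < j.val ∧ k = j
      · obtain ⟨-, rfl⟩ := h
        rw [topMat, dif_neg (fun e => lt_irrefl _ e.1), Matrix.one_apply_ne hc.symm, mul_zero]
      · rw [colMat, dif_neg h, Matrix.one_apply_ne hk.symm, zero_mul]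
    · simp

theorem exists_last_row {m : ℕ} (hm : 0 < m) {ξ : Fin m → F} (hξ : ξ ≠ 0) :
    ∃ g : GL (Fin m) F, ∀ v, dotProduct ξ v =
      (g : Matrix (Fin m) (Fin m) F).mulVec v ⟨m - 1, by omega⟩ := by
  obtain ⟨i0, hi0⟩ := Function.ne_iff.1 hξ
  let l : Fin m := ⟨m - 1, by omega⟩
  let s := Equiv.swap l i0
  let M : Matrix (Fin m) (Fin m) F := Matrix.of fun a c => if a = l then ξ c else if c = s a then 1 else 0
  have hM : Function.Injective M.mulVec := by
    intro x y hxy
    have hz : ∀ a, a ≠ l → x (s a) = y (s a) := by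
      intro a ha
      simpa [M, Matrix.mulVec, dotProduct, ha] using congrFun hxy a
    have h0 : ∀ c, c ≠ i0 → x c = y c := by
      intro c hc
      have := hz (s c) (fun e => hc (by
        have := congrArg s e
        simpa [s] using this))
      simpa [s] using this
    funext c
    by_cases hc : c = i0
    · subst hc
      have hl := congrFun hxy l
      simp only [M, Matrix.mulVec, dotProduct, Matrix.of_apply, if_true] at hl
      rw [← Finset.add_sum_erase _ _ (Finset.mem_univ c), ← Finset.add_sum_erase _ _ (Finset.mem_univ c),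
        Finset.sum_congr rfl (g := fun k => ξ k * y k) fun k hk => by rw [h0 k (Finset.ne_of_mem_erase hk)],
        add_left_inj] at hl
      exact mul_left_cancel₀ hi0 hl
    · exact h0 c hc
  have hu : IsUnit M := Matrix.mulVec_injective_iff_isUnit.1 hM
  refine ⟨hu.unit, fun v => ?_⟩
  rw [IsUnit.unit_spec]
  simp [M, l, Matrix.mulVec, dotProduct]

end TopBlock

section Degree

variable {F : Type*} [Field F] [Fintype F] [DecidableEq F] {n : ℕ}

noncomputable instance (j : ℕ) : Fintype (colGroup n F j) := Fintype.ofFinite _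

/-- The twisted average over the `j`-th column group. -/
noncomputable def colAvg (θ : AddChar F ℂ) (χ : GL (Fin n) F → ℂ) (j : ℕ) : ℂ :=
  (Fintype.card (colGroup n F j) : ℂ)⁻¹ *
    ∑ w : colGroup n F j, χ w * conj (θ (superSum ((w : GL (Fin n) F) : Matrix (Fin n) (Fin n) F)))

/-- The sum twisted by an arbitrary character of column `j`. -/
noncomputable def colTwist (θ : AddChar F ℂ) (χ : GL (Fin n) F → ℂ) (j : Fin n) (ξ : Fin j.val → F) : ℂ :=
  ∑ p : colGroup n F (j.val + 1) × (Fin j.val → F), χ ((p.1 : GL (Fin n) F) * colGL j p.2) *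
    conj (θ (superSum ((p.1 : GL (Fin n) F) : Matrix (Fin n) (Fin n) F)) * θ (dotProduct ξ p.2))

theorem colTwist_zero {θ : AddChar F ℂ} {χ : GL (Fin n) F → ℂ} (hχ : IsCharacter (GL (Fin n) F) χ)
    (hcu : IsCusp χ) (j : Fin n) (hj : 0 < j.val) : colTwist θ χ j 0 = 0 := by
  classical
  have h1 : colTwist θ χ j 0 = ∑ w : colGroup n F j.val,
      χ w * conj (θ (lowSum j.val ((w : GL (Fin n) F) : Matrix (Fin n) (Fin n) F))) := by
    refine Fintype.sum_equiv (colEquiv j) _ _ fun p => ?_
    obtain ⟨u, v⟩ := p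
    rw [colEquiv_apply, zero_dotProduct, AddChar.map_zero_eq_one, mul_one,
      lowSum_mul (colGroup_le _ u.2) (fun k c hk => colMat_low j v k c hk), ← superSum_colGroup u.2]
  let A : Finset (Fin n) := Finset.univ.filter fun i => i.val < j.val
  have hA : A.Nonempty := ⟨⟨0, by omega⟩, Finset.mem_filter.2 ⟨Finset.mem_univ _, hj⟩⟩
  have hA' : A ≠ univ := fun e => by
    have := e ▸ Finset.mem_univ j
    simp [A] at this
  have hle : ∀ x ∈ radical (F := F) A, x ∈ colGroup n F j.val := by
    intro x hx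
    have hoff : ∀ a c : Fin n, ¬ (a.val < j.val ∧ ¬ c.val < j.val) →
        (x : Matrix (Fin n) (Fin n) F) a c = (1 : Matrix (Fin n) (Fin n) F) a c :=
      fun a c h => hx a c (by simpa [A] using h)
    refine ⟨mem_unitri_iff.2 ⟨fun a c h => ?_, fun a => ?_⟩, fun a c hc => hoff a c (fun e => e.2 hc)⟩
    · rw [hoff a c (fun e => e.2 (by change c.val < a.val at h; omega)), Matrix.one_apply_ne h.ne']
    · rw [hoff a a (fun e => e.2 e.1), Matrix.one_apply_eq]
  rw [h1]
  set S := ∑ w : colGroup n F j.val,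
      χ w * conj (θ (lowSum j.val ((w : GL (Fin n) F) : Matrix (Fin n) (Fin n) F)))
  have h2 : ∀ x : radical (F := F) A, S = ∑ w : colGroup n F j.val, χ ((w : GL (Fin n) F) * x) *
      conj (θ (lowSum j.val ((w : GL (Fin n) F) : Matrix (Fin n) (Fin n) F))) := by
    intro x
    refine (Fintype.sum_equiv (Equiv.mulRight ⟨(x : GL (Fin n) F), hle x x.2⟩) _ _ fun w => ?_).symm
    simp only [Equiv.coe_mulRight, Subgroup.coe_mul]
    rw [lowSum_mul (colGroup_le _ w.2) fun k c hk => x.2 k c (by simp [A]; omega)]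
  have h3 : (Fintype.card (radical (F := F) A) : ℂ) * S = 0 := by
    rw [← nsmul_eq_mul, ← Finset.card_univ, ← Finset.sum_const, Finset.sum_congr rfl fun x _ => h2 x,
      Finset.sum_comm]
    refine Finset.sum_eq_zero fun w _ => ?_
    rw [← Finset.sum_mul, sum_coset_eq_zero hχ _ (hcu A hA hA'), zero_mul]
  exact (mul_eq_zero.1 h3).resolve_left (Nat.cast_ne_zero.2 Fintype.card_ne_zero)

theorem colTwist_move {θ : AddChar F ℂ} {χ : GL (Fin n) F → ℂ} (hχ : IsClassFunction (GL (Fin n) F) χ)
    (j : Fin n) (hj : 0 < j.val) {ξ : Fin j.val → F} (hξ : ξ ≠ 0) :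
    colTwist θ χ j ξ = ∑ w : colGroup n F j.val,
      χ w * conj (θ (superSum ((w : GL (Fin n) F) : Matrix (Fin n) (Fin n) F))) := by
  obtain ⟨g, hg⟩ := exists_last_row hj hξ
  let h := topHom j g
  let e : colGroup n F (j.val + 1) × (Fin j.val → F) ≃ colGroup n F (j.val + 1) × (Fin j.val → F) :=
    Equiv.prodCongr
      { toFun := fun u => ⟨h * u * h⁻¹, top_conj_mem j g u.2⟩
        invFun := fun u => ⟨h⁻¹ * u * h, by
          have := top_conj_mem j g⁻¹ u.2
          rwa [map_inv, inv_inv] at this⟩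
        left_inv := fun u => Subtype.ext (by simp only; group)
        right_inv := fun u => Subtype.ext (by simp only; group) }
      { toFun := fun v => (g : Matrix (Fin j.val) (Fin j.val) F).mulVec v
        invFun := fun v => ((g⁻¹ : GL (Fin j.val) F) : Matrix (Fin j.val) (Fin j.val) F).mulVec v
        left_inv := fun v => by simp only [Matrix.mulVec_mulVec, ← Units.val_mul, inv_mul_cancel,
          Units.val_one, Matrix.one_mulVec]
        right_inv := fun v => by simp only [Matrix.mulVec_mulVec, ← Units.val_mul, mul_inv_cancel,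
          Units.val_one, Matrix.one_mulVec] }
  refine Fintype.sum_equiv (e.trans (colEquiv j)) _ _ fun p => ?_
  obtain ⟨u, v⟩ := p
  have hu' := top_conj_mem j g u.2
  simp only [Equiv.trans_apply, e, Equiv.prodCongr_apply, Prod.map, Equiv.coe_fn_mk, colEquiv_apply]
  have hconj : h * (u : GL (Fin n) F) * h⁻¹ * colGL j ((g : Matrix (Fin j.val) (Fin j.val) F).mulVec v) =
      h * ((u : GL (Fin n) F) * colGL j v) * h⁻¹ := by
    have := top_conj_col j g v
    calc _ = h * (u : GL (Fin n) F) * h⁻¹ * (colGL j ((g : Matrix (Fin j.val) (Fin j.val) F).mulVec v) * h) * h⁻¹ := by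
          group
      _ = h * (u : GL (Fin n) F) * h⁻¹ * (h * colGL j v) * h⁻¹ := by rw [this]
      _ = _ := by group
  rw [superSum_mul (colGroup_le _ hu') (colGroup_le _ (colGL_mem j _)), superSum_colGL j _ hj,
    superSum_colGroup hu', superSum_colGroup u.2, AddChar.map_add_eq_mul, hg, hconj, hχ]
  congr 4
  refine Finset.sum_congr rfl fun a _ => Finset.sum_congr rfl fun c _ => ?_
  by_cases hac : a.val + 1 = c.val ∧ j.val ≤ a.val
  · rw [if_pos hac, if_pos hac, top_conj_low j g u.2.1 a c hac.2]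
  · rw [if_neg hac, if_neg hac]

theorem sum_colTwist (θ : AddChar F ℂ) (hθ : ∃ c, θ c ≠ 1) (χ : GL (Fin n) F → ℂ) (j : Fin n) :
    ∑ ξ : Fin j.val → F, colTwist θ χ j ξ = (Fintype.card F : ℂ) ^ j.val *
      ∑ u : colGroup n F (j.val + 1),
        χ u * conj (θ (superSum ((u : GL (Fin n) F) : Matrix (Fin n) (Fin n) F))) := by
  classical
  have horth : ∀ v : Fin j.val → F, ∑ ξ : Fin j.val → F, conj (θ (dotProduct ξ v)) =
      if v = 0 then (Fintype.card F : ℂ) ^ j.val else 0 := by
    intro v
    split_ifs with hv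
    · subst hv
      simp [Fintype.card_fun]
    · rw [← map_sum]
      let φ : AddChar (Fin j.val → F) ℂ :=
        { toFun := fun ξ => θ (dotProduct ξ v)
          map_zero_eq_one' := by simp
          map_add_eq_mul' := fun x y => by rw [add_dotProduct, AddChar.map_add_eq_mul] }
      have hφ : φ ≠ 1 := by
        intro h1
        obtain ⟨i, hi⟩ := Function.ne_iff.1 hv
        refine hi (theta_mul_eq_one hθ fun c => ?_)
        have := DFunLike.congr_fun h1 (Pi.single i c)
        simpa [φ] using this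
      change conj (∑ ξ, φ ξ) = 0
      rw [AddChar.sum_eq_zero_iff_ne_zero.2 (by simpa [← AddChar.one_eq_zero] using hφ), map_zero]
  simp only [colTwist, map_mul]
  rw [Finset.sum_comm, Fintype.sum_prod_type, Finset.mul_sum]
  refine Finset.sum_congr rfl fun u _ => ?_
  simp only [← mul_assoc, ← Finset.mul_sum, horth, mul_ite, mul_zero, Finset.sum_ite_eq',
    Finset.mem_univ, if_true]
  have h0 : colGL j (0 : Fin j.val → F) = 1 := Units.ext (Matrix.ext fun a c => by
    rw [colGL_coe, colMat]
    split_ifs with h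
    · simp [Matrix.one_apply_ne (show a ≠ c from fun e => by rw [e, h.2] at h; exact lt_irrefl _ h.1)]
    · rfl)
  rw [h0, mul_one]
  ring

theorem colAvg_step {θ : AddChar F ℂ} (hθ : ∃ c, θ c ≠ 1) {χ : GL (Fin n) F → ℂ}
    (hχ : IsCharacter (GL (Fin n) F) χ) (hcu : IsCusp χ) (j : Fin n) (hj : 0 < j.val) :
    colAvg θ χ (j.val + 1) = ((Fintype.card F : ℂ) ^ j.val - 1) * colAvg θ χ j.val := by
  classical
  set S := ∑ w : colGroup n F j.val,
    χ w * conj (θ (superSum ((w : GL (Fin n) F) : Matrix (Fin n) (Fin n) F))) with hS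
  have h1 : ∀ ξ : Fin j.val → F, colTwist θ χ j ξ = if ξ = 0 then 0 else S := by
    intro ξ
    split_ifs with h
    · rw [h, colTwist_zero hχ hcu j hj]
    · exact colTwist_move (CharBasic.isClassFunction_of_isCharacter hχ) j hj h
  have h2 := sum_colTwist θ hθ χ j
  rw [Finset.sum_congr rfl fun ξ _ => h1 ξ, Finset.sum_ite, Finset.sum_const_zero, zero_add,
    Finset.sum_const, Finset.filter_ne', Finset.card_erase_of_mem (Finset.mem_univ _),
    Finset.card_univ, Fintype.card_fun, Fintype.card_fin, nsmul_eq_mul,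
    Nat.cast_sub (Nat.one_le_pow _ _ Fintype.card_pos), Nat.cast_pow, Nat.cast_one] at h2
  have hc : (Fintype.card (colGroup n F j.val) : ℂ) =
      (Fintype.card (colGroup n F (j.val + 1)) : ℂ) * (Fintype.card F : ℂ) ^ j.val := by
    rw [← Fintype.card_congr (colEquiv j), Fintype.card_prod, Fintype.card_fun, Fintype.card_fin]
    push_cast
    ring
  unfold colAvg
  rw [← hS, hc]
  have hq : (Fintype.card F : ℂ) ^ j.val ≠ 0 := pow_ne_zero _ (Nat.cast_ne_zero.2 Fintype.card_ne_zero)
  have hk : (Fintype.card (colGroup n F (j.val + 1)) : ℂ) ≠ 0 := Nat.cast_ne_zero.2 Fintype.card_ne_zero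
  field_simp
  linear_combination -h2

/-- Cuspidal irreducible characters are generic and have degree `∏ (q^i - 1)`. -/
theorem cusp_degree {θ : AddChar F ℂ} (hθ : ∃ c, θ c ≠ 1) (hn : 0 < n) {χ : GL (Fin n) F → ℂ}
    (hχ : IsIrrCharacter (GL (Fin n) F) χ) (hcu : IsCusp χ) :
    χ 1 = ∏ i ∈ Finset.Ico 1 n, ((Fintype.card F : ℂ) ^ i - 1) ∧ ggMult θ χ = 1 := by
  classical
  have hch := CharBasic.isCharacter_of_isIrrCharacter hχ
  have h1 : ∀ j, 1 ≤ j → j ≤ n →
      colAvg θ χ j = colAvg θ χ 1 * ∏ i ∈ Finset.Ico 1 j, ((Fintype.card F : ℂ) ^ i - 1) := by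
    intro j hj
    induction j, hj using Nat.le_induction with
    | base => simp
    | succ j hj ih =>
      intro hjn
      rw [colAvg_step hθ hch hcu ⟨j, by omega⟩ (show 0 < j by omega), Finset.prod_Ico_succ_top hj,
        ih (by omega)]
      ring
  have hone : colAvg θ χ 1 = ggMult θ χ := by
    unfold colAvg ggMult linMult
    have hh : ∀ H K : Subgroup (GL (Fin n) F), H = K → ∀ [Fintype H] [Fintype K],
        (Fintype.card H : ℂ)⁻¹ * ∑ w : H, χ w * conj (θ (superSum ((w : GL (Fin n) F) : Matrix (Fin n) (Fin n) F))) =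
          (Fintype.card K : ℂ)⁻¹ * ∑ w : K, χ w * conj (θ (superSum ((w : GL (Fin n) F) : Matrix (Fin n) (Fin n) F))) := by
      intro H K e _ _
      subst e
      convert rfl
    exact hh _ _ colGroup_one
  have htop : colAvg θ χ n = χ 1 := by
    unfold colAvg
    have hall : ∀ w : colGroup n F n, w = 1 := fun w =>
      Subtype.ext (Units.ext (Matrix.ext fun a c => by simpa using w.2.2 a c c.isLt))
    haveI : Unique (colGroup n F n) := ⟨⟨1⟩, hall⟩
    have hsuper : superSum (1 : Matrix (Fin n) (Fin n) F) = 0 :=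
      Finset.sum_eq_zero fun a _ => Finset.sum_eq_zero fun c _ => by
        split_ifs with h
        · exact Matrix.one_apply_ne fun e => by subst e; omega
        · rfl
    rw [Fintype.sum_unique, Fintype.card_unique]
    simp [hall default, hsuper]
  have hdeg : χ 1 = ggMult θ χ * ∏ i ∈ Finset.Ico 1 n, ((Fintype.card F : ℂ) ^ i - 1) := by
    rw [← htop, ← hone]
    exact h1 n hn le_rfl
  have hm : ggMult θ χ = 1 := by
    rcases ggMult_irr hθ hχ with h | h
    · rw [h, zero_mul] at hdeg
      exact absurd hdeg (CharBasic.isIrrCharacter_apply_one_ne_zero hχ)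
    · exact h
  exact ⟨by rw [hdeg, hm, one_mul], hm⟩

end Degree

end Cfsg.Agent.GelfandGraev88
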