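import Mathlib
import Cfsg.Agent.Lib.GelfandGraev88Degree

/-!
Parabolic subgroups of `GL_n` attached to labelled partitions of the coordinates, inflation from the
block diagonal part, and the existence of a cuspidal support for every irreducible character.
-/

set_option autoImplicit false

open scoped MatrixGroups ComplexConjugate
open Finset

namespace Cfsg.Agent.GelfandGraev88

/-- A partition of the coordinates into labelled blocks. -/
structure Blocks (n : ℕ) where
  k : ℕ
  m : Fin k → ℕ
  e : (Σ i, Fin (m i)) ≃ Fin n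

namespace Blocks

variable {n : ℕ} (D : Blocks n)

/-- The label of a coordinate. -/
def label (s : Fin n) : Fin D.k := (D.e.symm s).1

theorem label_e (i : Fin D.k) (a : Fin (D.m i)) : D.label (D.e ⟨i, a⟩) = i := by simp [label]

theorem exists_coord (s : Fin n) : ∃ i a, s = D.e ⟨i, a⟩ :=
  ⟨(D.e.symm s).1, (D.e.symm s).2, (D.e.apply_symm_apply s).symm⟩

/-- The blocks of a labelling. -/
noncomputable def ofLabel {k : ℕ} (b : Fin n → Fin k) : Blocks n where
  k := k
  m := fun i : Fin k => Fintype.card {s : Fin n // b s = i}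
  e := (Equiv.sigmaCongrRight fun i => (Fintype.equivFin {s // b s = i}).symm).trans
    (Equiv.sigmaFiberEquiv b)

theorem ofLabel_label {k : ℕ} (b : Fin n → Fin k) (s : Fin n) : (ofLabel b).label s = b s := by
  rfl

theorem k_le (h : ∀ i, 0 < D.m i) : D.k ≤ n := by
  have := Fintype.card_le_of_injective (fun i : Fin D.k => D.e ⟨i, ⟨0, h i⟩⟩)
    (fun i j e => ((D.label_e i ⟨0, h i⟩).symm.trans (congrArg D.label e)).trans (D.label_e j _))
  simpa using this

variable (F : Type*) [Field F]

/-- The parabolic subgroup of a labelling. -/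
def para : Subgroup (GL (Fin n) F) where
  carrier := {g | (g : Matrix (Fin n) (Fin n) F).BlockTriangular D.label}
  mul_mem' := fun {a b} ha hb => Matrix.BlockTriangular.mul ha hb
  one_mem' := Matrix.blockTriangular_one
  inv_mem' := fun {a} ha => by
    change ((a⁻¹ : GL (Fin n) F) : Matrix (Fin n) (Fin n) F).BlockTriangular D.label
    have : Invertible (a : Matrix (Fin n) (Fin n) F) := a.invertible
    rw [Matrix.coe_units_inv]
    exact Matrix.blockTriangular_inv_of_blockTriangular ha

variable {F}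

theorem para_zero {g : GL (Fin n) F} (hg : g ∈ D.para F) {s t : Fin n} (h : D.label t < D.label s) :
    (g : Matrix (Fin n) (Fin n) F) s t = 0 := hg h

theorem mem_para {g : GL (Fin n) F} :
    g ∈ D.para F ↔ ∀ s t : Fin n, D.label t < D.label s → (g : Matrix (Fin n) (Fin n) F) s t = 0 := Iff.rfl

/-- A diagonal block, as a monoid homomorphism to matrices. -/
def blockMat (i : Fin D.k) : D.para F →* Matrix (Fin (D.m i)) (Fin (D.m i)) F where
  toFun g := Matrix.of fun a c => ((g : GL (Fin n) F) : Matrix (Fin n) (Fin n) F) (D.e ⟨i, a⟩) (D.e ⟨i, c⟩)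
  map_one' := by
    refine Matrix.ext fun a c => ?_
    simp [Matrix.one_apply]
  map_mul' g h := by
    refine Matrix.ext fun a c => ?_
    simp only [Matrix.of_apply, Subgroup.coe_mul, Units.val_mul, Matrix.mul_apply]
    rw [← D.e.sum_comp, Fintype.sum_sigma, Finset.sum_eq_single i]
    · intro j _ hj
      refine Finset.sum_eq_zero fun r _ => ?_
      rcases lt_or_gt_of_ne hj with h' | h'
      · rw [D.para_zero g.2 (by rwa [label_e, label_e]), zero_mul]
      · rw [D.para_zero h.2 (s := D.e ⟨j, r⟩) (t := D.e ⟨i, c⟩) (by rwa [label_e, label_e]), mul_zero]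
    · simp

variable (F)

/-- The Levi factor. -/
abbrev Levi := ∀ i : Fin D.k, GL (Fin (D.m i)) F

variable {F}

/-- The projection to the Levi factor. -/
def proj : D.para F →* D.Levi F := MonoidHom.pi fun i => (D.blockMat i).toHomUnits

theorem proj_apply (g : D.para F) (i : Fin D.k) (a c : Fin (D.m i)) :
    (D.proj g i : Matrix (Fin (D.m i)) (Fin (D.m i)) F) a c =
      ((g : GL (Fin n) F) : Matrix (Fin n) (Fin n) F) (D.e ⟨i, a⟩) (D.e ⟨i, c⟩) := rfl

/-- The block diagonal matrices. -/
def levMat : D.Levi F →* Matrix (Fin n) (Fin n) F where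
  toFun x := (Matrix.blockDiagonal' fun i => (x i : Matrix (Fin (D.m i)) (Fin (D.m i)) F)).submatrix
    D.e.symm D.e.symm
  map_one' := by
    simp only [Pi.one_apply, Units.val_one]
    rw [show (fun i => (1 : Matrix (Fin (D.m i)) (Fin (D.m i)) F)) = 1 from rfl,
      Matrix.blockDiagonal'_one, Matrix.submatrix_one_equiv]
  map_mul' x y := by
    simp only [Pi.mul_apply, Units.val_mul]
    rw [Matrix.blockDiagonal'_mul, Matrix.submatrix_mul_equiv]

/-- The block diagonal embedding. -/
def lev : D.Levi F →* D.para F where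
  toFun x := ⟨D.levMat.toHomUnits x, fun s t h => by
    obtain ⟨i, a, rfl⟩ := D.exists_coord s
    obtain ⟨j, c, rfl⟩ := D.exists_coord t
    rw [label_e, label_e] at h
    simp [levMat, Matrix.blockDiagonal'_apply_ne _ _ _ h.ne']⟩
  map_one' := Subtype.ext (map_one _)
  map_mul' x y := Subtype.ext (map_mul _ x y)

theorem lev_apply_eq (x : D.Levi F) (i : Fin D.k) (a c : Fin (D.m i)) :
    ((D.lev x : GL (Fin n) F) : Matrix (Fin n) (Fin n) F) (D.e ⟨i, a⟩) (D.e ⟨i, c⟩) =
      (x i : Matrix (Fin (D.m i)) (Fin (D.m i)) F) a c := by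
  simp [lev, levMat, Matrix.blockDiagonal'_apply_eq]

theorem lev_apply_ne (x : D.Levi F) {i j : Fin D.k} (h : i ≠ j) (a : Fin (D.m i)) (c : Fin (D.m j)) :
    ((D.lev x : GL (Fin n) F) : Matrix (Fin n) (Fin n) F) (D.e ⟨i, a⟩) (D.e ⟨j, c⟩) = 0 := by
  simp [lev, levMat, Matrix.blockDiagonal'_apply_ne _ _ _ h]

theorem proj_lev (x : D.Levi F) : D.proj (D.lev x) = x :=
  funext fun i => Units.ext (Matrix.ext fun a c => by rw [proj_apply, lev_apply_eq])

theorem proj_surjective : Function.Surjective (D.proj (F := F)) := fun x => ⟨D.lev x, D.proj_lev x⟩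

theorem proj_eq_one_iff (g : D.para F) : D.proj g = 1 ↔ ∀ s t : Fin n, D.label s = D.label t →
    ((g : GL (Fin n) F) : Matrix (Fin n) (Fin n) F) s t = (1 : Matrix (Fin n) (Fin n) F) s t := by
  constructor
  · intro h s t hst
    obtain ⟨i, a, rfl⟩ := D.exists_coord s
    obtain ⟨j, c, rfl⟩ := D.exists_coord t
    rw [label_e, label_e] at hst
    subst hst
    rw [← proj_apply, h]
    simp [Matrix.one_apply]
  · intro h
    refine funext fun i => Units.ext (Matrix.ext fun a c => ?_)
    rw [proj_apply, h _ _ (by rw [label_e, label_e])]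
    simp [Matrix.one_apply]

/-- The unipotent radical, inside the parabolic. -/
def uni : Subgroup (D.para F) := (D.proj (F := F)).ker

/-- The inflation of a product of functions on the blocks. -/
def infl (f : ∀ i, GL (Fin (D.m i)) F → ℂ) : D.para F → ℂ := fun g => ∏ i, f i (D.proj g i)

theorem infl_irr [Fintype F] [DecidableEq F] {f : ∀ i, GL (Fin (D.m i)) F → ℂ}
    (h : ∀ i, IsIrrCharacter (GL (Fin (D.m i)) F) (f i)) : IsIrrCharacter (D.para F) (D.infl f) :=
  CharBasic.isIrrCharacter_comap D.proj D.proj_surjective (isIrrCharacter_prodFun h)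

end Blocks

section Support

variable {F : Type*} [Field F] [Fintype F] [DecidableEq F] {n : ℕ}

noncomputable instance paraFintype (D : Blocks n) : Fintype (D.para F) := Fintype.ofFinite _
noncomputable instance uniFintype (D : Blocks n) : Fintype (D.uni (F := F)) := Fintype.ofFinite _

theorem exists_constituent (D : Blocks n) {χ : GL (Fin n) F → ℂ}
    (hχ : IsClassFunction (GL (Fin n) F) χ)
    (h : ∑ u : D.uni (F := F), χ ((u : D.para F) : GL (Fin n) F) ≠ 0) :
    ∃ σ : ∀ i, IrrCharacter (GL (Fin (D.m i)) F),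
      classInner (fun g : D.para F => χ g) (D.infl fun i => (σ i : GL (Fin (D.m i)) F → ℂ)) ≠ 0 := by
  classical
  let Φ : D.Levi F → ℂ := fun x => ∑ u : D.uni (F := F), χ ((D.lev x * (u : D.para F) : D.para F) : GL (Fin n) F)
  have hΦc : IsClassFunction (D.Levi F) Φ := by
    intro x y
    have hmem : ∀ u : D.uni (F := F), (D.lev y)⁻¹ * (u : D.para F) * D.lev y ∈ D.uni (F := F) := fun u => by
      have hu : D.proj (u : D.para F) = 1 := u.2
      change D.proj _ = 1
      rw [map_mul, map_mul, hu, map_inv, mul_one, inv_mul_cancel]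
    have hmem' : ∀ u : D.uni (F := F), D.lev y * (u : D.para F) * (D.lev y)⁻¹ ∈ D.uni (F := F) := fun u => by
      have hu : D.proj (u : D.para F) = 1 := u.2
      change D.proj _ = 1
      rw [map_mul, map_mul, hu, map_inv, mul_one, mul_inv_cancel]
    refine Fintype.sum_equiv
      { toFun := fun u => ⟨_, hmem u⟩
        invFun := fun u => ⟨_, hmem' u⟩
        left_inv := fun u => Subtype.ext (by simp only; group)
        right_inv := fun u => Subtype.ext (by simp only; group) } _ _ fun u => ?_
    simp only [Equiv.coe_fn_mk]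
    rw [← hχ ((D.lev x * ((D.lev y)⁻¹ * (u : D.para F) * D.lev y) : D.para F) : GL (Fin n) F)
      (D.lev y : GL (Fin n) F)]
    congr 1
    rw [← Subgroup.coe_inv, ← Subgroup.coe_mul, ← Subgroup.coe_mul, map_mul, map_mul, map_inv]
    congr 1
    group
  have hΦ0 : Φ ≠ 0 := fun e => h (by
    have := congrFun e 1
    simpa [Φ] using this)
  obtain ⟨σ, hσ⟩ := exists_prodFun_inner_ne_zero hΦc hΦ0
  refine ⟨σ, fun e => hσ ?_⟩
  let eq : D.Levi F × D.uni (F := F) ≃ D.para F :=
    { toFun := fun p => D.lev p.1 * (p.2 : D.para F)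
      invFun := fun g => (D.proj g, ⟨(D.lev (D.proj g))⁻¹ * g, by
        change D.proj _ = 1
        rw [map_mul, map_inv, D.proj_lev, inv_mul_cancel]⟩)
      left_inv := fun p => by
        have hu : D.proj (p.2 : D.para F) = 1 := p.2.2
        have h1 : D.proj (D.lev p.1 * (p.2 : D.para F)) = p.1 := by rw [map_mul, D.proj_lev, hu, mul_one]
        refine Prod.ext h1 (Subtype.ext ?_)
        simp only
        rw [h1]
        group
      right_inv := fun g => by simp only; group }
  unfold classInner at e ⊢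
  have he : ∑ g : D.para F, χ g * conj (D.infl (fun i => (σ i : GL (Fin (D.m i)) F → ℂ)) g) =
      ∑ x : D.Levi F, Φ x * conj (prodFun (fun i => (σ i : GL (Fin (D.m i)) F → ℂ)) x) := by
    rw [← eq.sum_comp, Fintype.sum_prod_type]
    refine Finset.sum_congr rfl fun x _ => ?_
    simp only [Φ, Finset.sum_mul]
    refine Finset.sum_congr rfl fun u _ => ?_
    have hu : D.proj (u : D.para F) = 1 := u.2
    have h1 : D.proj (eq (x, u)) = x := by
      change D.proj (D.lev x * (u : D.para F)) = x
      rw [map_mul, D.proj_lev, hu, mul_one]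
    congr 2
    unfold Blocks.infl
    rw [h1]
    rfl
  rw [he] at e
  rcases mul_eq_zero.1 e with e' | e'
  · exact absurd e' (inv_ne_zero (Nat.cast_ne_zero.2 Nat.card_pos.ne'))
  · rw [e', mul_zero]

/-- The refinement of a labelling by a subset of one block. -/
noncomputable def refineLabel (D : Blocks n) (i : Fin D.k) (A : Finset (Fin (D.m i))) (s : Fin n) :
    Fin (D.k + 1) :=
  if D.label s < i then (D.label s).castSucc else if i < D.label s then (D.label s).succ
  else if s ∈ A.image (fun a => D.e ⟨i, a⟩) then i.castSucc else i.succ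

theorem refineLabel_block (D : Blocks n) (i : Fin D.k) (A : Finset (Fin (D.m i))) (a : Fin (D.m i)) :
    refineLabel D i A (D.e ⟨i, a⟩) = if a ∈ A then i.castSucc else i.succ := by
  rw [refineLabel, D.label_e, if_neg (lt_irrefl i), if_neg (lt_irrefl i)]
  refine if_congr ?_ rfl rfl
  simp [Finset.mem_image]

theorem refineLabel_lt (D : Blocks n) (i : Fin D.k) (A : Finset (Fin (D.m i))) {s t : Fin n}
    (h : D.label t < D.label s) : refineLabel D i A t < refineLabel D i A s := by
  have key : ∀ r, (D.label r).val ≤ (refineLabel D i A r).val ∧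
      (refineLabel D i A r).val ≤ (D.label r).val + 1 ∧
      (D.label r < i → (refineLabel D i A r).val = (D.label r).val) ∧
      (i < D.label r → (refineLabel D i A r).val = (D.label r).val + 1) := by
    intro r
    unfold refineLabel
    split_ifs with h1 h2 h3
    · exact ⟨le_rfl, by simp, fun _ => rfl, fun h' => absurd h1 (lt_asymm h')⟩
    · exact ⟨by simp, by simp, fun h' => absurd h' h1, fun _ => rfl⟩
    · have : D.label r = i := le_antisymm (not_lt.1 h2) (not_lt.1 h1)
      exact ⟨by simp [this], by simp [this], fun h' => absurd h' h1, fun h' => absurd h' h2⟩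
    · have : D.label r = i := le_antisymm (not_lt.1 h2) (not_lt.1 h1)
      exact ⟨by simp [this], by simp [this], fun h' => absurd h' h1, fun h' => absurd h' h2⟩
  obtain ⟨a1, a2, a3, a4⟩ := key t
  obtain ⟨b1, b2, b3, b4⟩ := key s
  rw [Fin.lt_def] at h a3 a4 b3 b4 ⊢
  rcases lt_trichotomy (D.label t).val i.val with h' | h' | h'
  · have := a3 h'; omega
  · have := b4 (by omega); omega
  · have := a4 h'; have := b4 (by omega); omega

theorem refineLabel_surj (D : Blocks n) (hm : ∀ i, 0 < D.m i) (i : Fin D.k) (A : Finset (Fin (D.m i)))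
    (hA : A.Nonempty) (hA' : A ≠ univ) : Function.Surjective (refineLabel D i A) := by
  intro j
  obtain ⟨a, ha⟩ := hA
  obtain ⟨c, hc⟩ : ∃ c, c ∉ A := by
    by_contra hall
    push Not at hall
    exact hA' (Finset.eq_univ_of_forall hall)
  rcases lt_trichotomy j.val i.val with h | h | h
  · have hlt : j.val < D.k := lt_trans h i.isLt
    refine ⟨D.e ⟨⟨j.val, hlt⟩, ⟨0, hm _⟩⟩, ?_⟩
    rw [refineLabel, D.label_e, if_pos (show (⟨j.val, hlt⟩ : Fin D.k) < i from h)]
    rfl
  · exact ⟨D.e ⟨i, a⟩, by rw [refineLabel_block, if_pos ha]; exact Fin.ext h.symm⟩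
  · by_cases h' : j.val = i.val + 1
    · exact ⟨D.e ⟨i, c⟩, by rw [refineLabel_block, if_neg hc]; exact Fin.ext h'.symm⟩
    · have hlt : j.val - 1 < D.k := by have := j.isLt; omega
      refine ⟨D.e ⟨⟨j.val - 1, hlt⟩, ⟨0, hm _⟩⟩, ?_⟩
      rw [refineLabel, D.label_e,
        if_neg (show ¬ (⟨j.val - 1, hlt⟩ : Fin D.k) < i from not_lt.2 (by change i.val ≤ j.val - 1; omega)),
        if_pos (show i < (⟨j.val - 1, hlt⟩ : Fin D.k) by change i.val < j.val - 1; omega)]
      exact Fin.ext (by simp; omega)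

/-- A noncuspidal constituent on a block allows a finer partition. -/
theorem exists_finer (D : Blocks n) (hm : ∀ i, 0 < D.m i) {χ : GL (Fin n) F → ℂ}
    (hχ : IsCharacter (GL (Fin n) F) χ) (σ : ∀ i, IrrCharacter (GL (Fin (D.m i)) F))
    (hσ : classInner (fun g : D.para F => χ g) (D.infl fun i => (σ i : GL (Fin (D.m i)) F → ℂ)) ≠ 0)
    (i : Fin D.k) (hi : ¬ IsCusp (σ i : GL (Fin (D.m i)) F → ℂ)) :
    ∃ D' : Blocks n, D'.k = D.k + 1 ∧ (∀ j, 0 < D'.m j) ∧
      ∑ u : D'.uni (F := F), χ ((u : D'.para F) : GL (Fin n) F) ≠ 0 := by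
  classical
  unfold IsCusp at hi
  push Not at hi
  obtain ⟨A, hA, hA', hsum⟩ := hi
  let D' : Blocks n := Blocks.ofLabel (refineLabel D i A)
  have hl : ∀ s, D'.label s = refineLabel D i A s := Blocks.ofLabel_label _
  refine ⟨D', rfl, fun j => ?_, ?_⟩
  · obtain ⟨s, hs⟩ := refineLabel_surj D hm i A hA hA' j
    obtain ⟨l, a, hla⟩ := D'.exists_coord s
    have h2 : D'.label s = l := by rw [hla, D'.label_e]
    obtain rfl : l = j := (h2.symm.trans (hl s)).trans hs
    exact a.pos
  let Y : Subgroup (GL (Fin n) F) := (D'.uni (F := F)).map (D'.para F).subtype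
  have hY : ∀ g, g ∈ Y ↔ ∀ s t : Fin n, refineLabel D i A t ≤ refineLabel D i A s →
      (g : Matrix (Fin n) (Fin n) F) s t = (1 : Matrix (Fin n) (Fin n) F) s t := by
    intro g
    constructor
    · rintro ⟨u, hu, rfl⟩ s t hst
      rcases hst.lt_or_eq with h | h
      · rw [Matrix.one_apply_ne (fun e => by subst e; exact lt_irrefl _ h)]
        exact D'.para_zero u.2 (by rwa [hl, hl])
      · exact (D'.proj_eq_one_iff u).1 hu s t (by rw [hl, hl]; exact h.symm)
    · intro hg
      have hP : g ∈ D'.para F := fun s t h => by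
        rw [hl, hl] at h
        rw [hg s t h.le, Matrix.one_apply_ne (fun e => by subst e; exact lt_irrefl _ h)]
      exact ⟨⟨g, hP⟩, (D'.proj_eq_one_iff ⟨g, hP⟩).2 fun s t h => hg s t (le_of_eq (by rw [← hl, ← hl, h])), rfl⟩
  have hYP : ∀ g ∈ Y, g ∈ D.para F := fun g hg s t h => by
    have h' := refineLabel_lt D i A h
    rw [(hY g).1 hg s t h'.le, Matrix.one_apply_ne (fun e => by subst e; exact lt_irrefl _ h)]
  let X : Subgroup (D.para F) := Y.subgroupOf (D.para F)
  have hproj : ∀ x : X, ∀ j, j ≠ i → D.proj (x : D.para F) j = 1 := by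
    intro x j hj
    refine Units.ext (Matrix.ext fun a c => ?_)
    rw [D.proj_apply, (hY _).1 (Subgroup.mem_subgroupOf.1 x.2) _ _]
    · simp [Matrix.one_apply]
    · rcases lt_or_gt_of_ne hj with h | h <;>
        simp [refineLabel, D.label_e, h, lt_asymm h]
  have hrad : ∀ x : X, D.proj (x : D.para F) i ∈ radical A := by
    intro x a c hac
    rw [D.proj_apply, (hY _).1 (Subgroup.mem_subgroupOf.1 x.2) _ _]
    · simp [Matrix.one_apply]
    · rw [refineLabel_block, refineLabel_block]
      by_cases ha : a ∈ A <;> by_cases hc : c ∈ A <;> simp [ha, hc, Fin.le_def] at hac ⊢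
  let φ : X →* radical (F := F) A :=
    ((Pi.evalMonoidHom (fun j => GL (Fin (D.m j)) F) i).comp (D.proj.comp X.subtype)).codRestrict _ hrad
  have hφ : Function.Surjective φ := by
    intro y
    let x0 : D.Levi F := Pi.mulSingle i (y : GL (Fin (D.m i)) F)
    have hxY : (D.lev x0 : GL (Fin n) F) ∈ Y := by
      rw [hY]
      intro s t hst
      obtain ⟨j, a, rfl⟩ := D.exists_coord s
      obtain ⟨l, c, rfl⟩ := D.exists_coord t
      by_cases hjl : j = l
      · subst hjl
        rw [D.lev_apply_eq]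
        by_cases hji : j = i
        · subst hji
          simp only [x0, Pi.mulSingle_eq_same]
          rw [y.2 a c]
          · simp [Matrix.one_apply]
          · rintro ⟨ha, hc⟩
            rw [refineLabel_block, refineLabel_block, if_pos ha, if_neg hc] at hst
            simp [Fin.le_def] at hst
        · simp [x0, Pi.mulSingle_eq_of_ne hji, Matrix.one_apply]
      · rw [D.lev_apply_ne _ hjl, Matrix.one_apply_ne]
        simp [hjl]
    refine ⟨⟨D.lev x0, hxY⟩, Subtype.ext ?_⟩
    change D.proj (D.lev x0) i = _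
    rw [D.proj_lev]
    simp [x0]
  haveI : Fintype X := Fintype.ofFinite _
  let η : IrrCharacter (D.para F) := ⟨_, D.infl_irr fun j => (σ j).2⟩
  have hη : ∑ x : X, (η : D.para F → ℂ) x ≠ 0 := by
    have h1 : ∀ x : X, (η : D.para F → ℂ) x =
        (σ i : GL (Fin (D.m i)) F → ℂ) (φ x) * ∏ j ∈ univ.erase i, (σ j : GL (Fin (D.m j)) F → ℂ) 1 := by
      intro x
      change ∏ j, (σ j : GL (Fin (D.m j)) F → ℂ) (D.proj (x : D.para F) j) = _
      rw [← Finset.mul_prod_erase _ _ (Finset.mem_univ i)]
      congr 1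
      exact Finset.prod_congr rfl fun j hj => by rw [hproj x j (Finset.ne_of_mem_erase hj)]
    rw [Finset.sum_congr rfl fun x _ => h1 x, ← Finset.sum_mul]
    refine mul_ne_zero (fun h0 => ?_) (Finset.prod_ne_zero_iff.2 fun j _ =>
      CharBasic.isIrrCharacter_apply_one_ne_zero (σ j).2)
    have h2 := card_mul_sum_comp φ hφ fun y => (σ i : GL (Fin (D.m i)) F → ℂ) y
    rw [h0, mul_zero] at h2
    exact hsum ((mul_eq_zero.1 h2.symm).resolve_left (Nat.cast_ne_zero.2 Fintype.card_ne_zero))
  have hfin := sum_sub_ne_zero (χ := fun g : D.para F => χ g)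
    (CharBasic.isCharacter_comap (D.para F).subtype hχ) η hσ X hη
  convert hfin using 1
  let e1 : D'.uni (F := F) ≃ X :=
    { toFun := fun u => ⟨⟨_, hYP _ ⟨u, u.2, rfl⟩⟩, Subgroup.mem_subgroupOf.2 ⟨u, u.2, rfl⟩⟩
      invFun := fun x => ⟨⟨((x : D.para F) : GL (Fin n) F), by
        obtain ⟨u, -, e⟩ := x.2
        rw [show ((x : D.para F) : GL (Fin n) F) = u from e.symm]
        exact u.2⟩, by
        obtain ⟨⟨v, hv⟩, hu, e⟩ := x.2
        change v = _ at e
        subst e
        exact hu⟩
      left_inv := fun u => rfl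
      right_inv := fun x => rfl }
  exact Fintype.sum_equiv e1 _ _ fun u => rfl

/-- Every irreducible character has a cuspidal support. -/
theorem exists_support {χ : GL (Fin n) F → ℂ} (hn : 0 < n) (hχ : IsIrrCharacter (GL (Fin n) F) χ) :
    ∃ (D : Blocks n) (σ : ∀ i, IrrCharacter (GL (Fin (D.m i)) F)),
      (∀ i, 0 < D.m i) ∧ (∀ i, IsCusp (σ i : GL (Fin (D.m i)) F → ℂ)) ∧
      classInner χ (indFun (D.para F) (D.infl fun i => (σ i : GL (Fin (D.m i)) F → ℂ))) ≠ 0 := by
  classical
  have hch := CharBasic.isCharacter_of_isIrrCharacter hχ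
  have hcl := CharBasic.isClassFunction_of_isCharacter hch
  let good : ℕ → Prop := fun k => ∃ D : Blocks n, D.k = k ∧ (∀ i, 0 < D.m i) ∧
    ∑ u : D.uni (F := F), χ ((u : D.para F) : GL (Fin n) F) ≠ 0
  have h0 : ∃ k, k ≤ n ∧ good k := by
    let D0 : Blocks n := ⟨1, fun _ => n, Equiv.uniqueSigma (fun _ : Fin 1 => Fin n)⟩
    refine ⟨1, hn, D0, rfl, fun _ => hn, ?_⟩
    have hall : ∀ u : D0.uni (F := F), u = 1 := fun u => by
      refine Subtype.ext (Subtype.ext (Units.ext (Matrix.ext fun s t => ?_)))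
      rw [(D0.proj_eq_one_iff (u : D0.para F)).1 u.2 s t (Subsingleton.elim (α := Fin 1) _ _)]
      simp
    haveI : Unique (D0.uni (F := F)) := ⟨⟨1⟩, hall⟩
    rw [Fintype.sum_unique, hall default]
    simpa using CharBasic.isIrrCharacter_apply_one_ne_zero hχ
  obtain ⟨k0, hk0, hg0⟩ := h0
  obtain ⟨D, hDk, hm, hsum⟩ := Nat.findGreatest_spec (P := good) hk0 hg0
  obtain ⟨σ, hσ⟩ := exists_constituent D hcl hsum
  refine ⟨D, σ, hm, fun i => ?_, ?_⟩
  · by_contra hi
    obtain ⟨D', hk', hm', hs'⟩ := exists_finer D hm hch σ hσ i hi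
    have hgood : good (D.k + 1) := ⟨D', hk', hm', hs'⟩
    have hle : D.k + 1 ≤ n := hk' ▸ D'.k_le hm'
    have := Nat.le_findGreatest hle hgood
    omega
  · rwa [CharInduced.inner_ind_right _ _ hcl]

end Support

end Cfsg.Agent.GelfandGraev88
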