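import Mathlib
import Cfsg.Agent.Lib.GelfandGraev88Parabolic

/-!
Inner products of parabolically induced products of cuspidal characters.
-/

set_option autoImplicit false

open scoped MatrixGroups ComplexConjugate
open Finset

namespace Cfsg.Agent.GelfandGraev88

open Cfsg.Agent.GLUnipotentDC (permGL permGL_coe permGL_mul_apply mul_permGL_apply)

variable {F : Type*} [Field F] {n : ℕ}

theorem conj_permGL (w : Equiv.Perm (Fin n)) (g : GL (Fin n) F) (x y : Fin n) :
    (((permGL n F w)⁻¹ * g * permGL n F w : GL (Fin n) F) : Matrix (Fin n) (Fin n) F) x y =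
      (g : Matrix (Fin n) (Fin n) F) (w x) (w y) := by
  rw [Units.val_mul, mul_permGL_apply, ← map_inv, Units.val_mul, permGL_mul_apply, inv_inv]

theorem perm_mem_para (D : Blocks n) {y : Equiv.Perm (Fin n)} (h : ∀ s, D.label (y s) = D.label s) :
    permGL n F y ∈ D.para F := fun s t hst => by
  rw [permGL_coe, if_neg]
  intro e
  rw [e, h] at hst
  exact lt_irrefl _ hst

theorem perm_dc_labels (D D' : Blocks n) (w w' : Equiv.Perm (Fin n)) {p q : GL (Fin n) F}
    (hp : p ∈ D.para F) (hq : q ∈ D'.para F) (he : permGL n F w' = p * permGL n F w * q) :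
    ∃ ρ : Equiv.Perm (Fin n), ∀ a, D.label (ρ a) = D.label a ∧
      D'.label (w'.symm a) = D'.label (w.symm (ρ a)) := by
  classical
  have hdet : (p : Matrix (Fin n) (Fin n) F).det ≠ 0 :=
    ((Matrix.isUnit_iff_isUnit_det _).1 p.isUnit).ne_zero
  obtain ⟨σ, hσ⟩ : ∃ σ : Equiv.Perm (Fin n), ∀ i, (p : Matrix (Fin n) (Fin n) F) (σ i) i ≠ 0 := by
    by_contra hno
    push Not at hno
    apply hdet
    rw [Matrix.det_apply']
    refine Finset.sum_eq_zero fun σ _ => ?_
    obtain ⟨i, hi⟩ := hno σ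
    exact mul_eq_zero_of_right _ (Finset.prod_eq_zero (Finset.mem_univ i) hi)
  have he' : (p : Matrix (Fin n) (Fin n) F) * (permGL n F w : Matrix (Fin n) (Fin n) F) =
      (permGL n F w' : Matrix (Fin n) (Fin n) F) * ((q⁻¹ : GL (Fin n) F) : Matrix (Fin n) (Fin n) F) := by
    rw [← Units.val_mul, ← Units.val_mul, he, mul_assoc _ q, mul_inv_cancel, mul_one]
  have hentry : ∀ a b, (p : Matrix (Fin n) (Fin n) F) a b =
      ((q⁻¹ : GL (Fin n) F) : Matrix (Fin n) (Fin n) F) (w'.symm a) (w.symm b) := by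
    intro a b
    have h := congrFun (congrFun he' a) (w.symm b)
    rw [mul_permGL_apply, permGL_mul_apply] at h
    simpa using h
  let π : Equiv.Perm (Fin n) := σ.symm
  have hne : ∀ a, (p : Matrix (Fin n) (Fin n) F) a (π a) ≠ 0 := by
    intro a
    have h := hσ (σ.symm a)
    rwa [σ.apply_symm_apply] at h
  have h1 : ∀ a, (D.label a).val ≤ (D.label (π a)).val := fun a =>
    not_lt.1 fun h => hne a (D.para_zero hp h)
  have h2 : ∀ a, (D'.label (w'.symm a)).val ≤ (D'.label (w.symm (π a))).val := fun a =>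
    not_lt.1 fun h => hne a (by rw [hentry]; exact D'.para_zero (inv_mem hq) h)
  refine ⟨π, fun a => ⟨?_, ?_⟩⟩
  · exact Fin.ext ((Finset.sum_eq_sum_iff_of_le (fun a _ => h1 a)).1
      (Equiv.sum_comp π fun a => (D.label a).val).symm a (Finset.mem_univ a)).symm
  · exact Fin.ext ((Finset.sum_eq_sum_iff_of_le (fun a _ => h2 a)).1
      ((Equiv.sum_comp w'.symm fun a => (D'.label a).val).trans
        (Equiv.sum_comp (π.trans w.symm) fun a => (D'.label a).val).symm) a (Finset.mem_univ a))

theorem exists_perm_rep [Fintype F] (D D' : Blocks n) (g : GL (Fin n) F) :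
    ∃ p ∈ D.para F, ∃ q ∈ D'.para F, ∃ w : Equiv.Perm (Fin n), g = p * permGL n F w * q := by
  let α := Tuple.sort D.label
  let β := Tuple.sort D'.label
  obtain ⟨u, hu, v, hv, σ, h⟩ := Cfsg.Agent.GLUnipotentDC.bruhat
    ((permGL n F α)⁻¹ * g * permGL n F β)
  have hmem : ∀ (E : Blocks n) (γ : Equiv.Perm (Fin n)), Monotone (E.label ∘ γ) →
      ∀ x ∈ Cfsg.upperTriangularGL n F, permGL n F γ * x * (permGL n F γ)⁻¹ ∈ E.para F := by
    intro E γ hγ x hx s t hst
    have h' := conj_permGL (F := F) γ⁻¹ x s t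
    rw [map_inv, inv_inv] at h'
    rw [h']
    refine hx (lt_of_not_ge fun hle => not_le.2 hst ?_)
    simpa using hγ hle
  refine ⟨_, hmem D α (Tuple.monotone_sort _) u hu, _, hmem D' β (Tuple.monotone_sort _) v hv,
    α * σ * β⁻¹, ?_⟩
  rw [map_mul, map_mul, map_inv]
  calc g = permGL n F α * ((permGL n F α)⁻¹ * g * permGL n F β) * (permGL n F β)⁻¹ := by group
    _ = permGL n F α * (u * permGL n F σ * v) * (permGL n F β)⁻¹ := by rw [h]
    _ = _ := by group

/-- A part: a cuspidal irreducible character of some positive degree. -/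
abbrev Part (F : Type*) [Field F] [Fintype F] [DecidableEq F] : Type _ :=
  Σ m : ℕ, {χ : IrrCharacter (GL (Fin m) F) // 0 < m ∧ IsCusp (χ : GL (Fin m) F → ℂ)}

/-- A list of parts with coordinates. -/
structure Datum (F : Type*) [Field F] [Fintype F] [DecidableEq F] (n : ℕ) where
  k : ℕ
  p : Fin k → Part F
  e : (Σ i, Fin (p i).1) ≃ Fin n

section Induced

variable [Fintype F] [DecidableEq F]

/-- The blocks of a datum. -/
abbrev Datum.blocks (D : Datum F n) : Blocks n := ⟨D.k, fun i => (D.p i).1, D.e⟩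

/-- The characters on the blocks. -/
abbrev Datum.fn (D : Datum F n) (i : Fin D.k) : GL (Fin (D.p i).1) F → ℂ := (D.p i).2.1

/-- The inflated function. -/
def Datum.infl (D : Datum F n) : D.blocks.para F → ℂ := D.blocks.infl D.fn

/-- The induced character. -/
noncomputable def Datum.ind (D : Datum F n) : GL (Fin n) F → ℂ := indFun (D.blocks.para F) D.infl

theorem Datum.infl_irr (D : Datum F n) : IsIrrCharacter (D.blocks.para F) D.infl :=
  D.blocks.infl_irr fun i => (D.p i).2.1.2

theorem Datum.infl_class (D : Datum F n) : IsClassFunction (D.blocks.para F) D.infl :=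
  CharBasic.isClassFunction_of_isCharacter (CharBasic.isCharacter_of_isIrrCharacter D.infl_irr)

theorem Datum.ind_character (D : Datum F n) : IsCharacter (GL (Fin n) F) D.ind :=
  CharInduced.isCharacter_ind _ (CharBasic.isCharacter_of_isIrrCharacter D.infl_irr)

theorem pairSum_split (D D' : Datum F n) (w : Equiv.Perm (Fin n)) (i : Fin D.k)
    (a0 a1 : Fin (D.p i).1)
    (hne : D'.blocks.label (w.symm (D.e ⟨i, a0⟩)) < D'.blocks.label (w.symm (D.e ⟨i, a1⟩))) :
    pairSum (D.blocks.para F) (D'.blocks.para F) D.infl D'.infl (permGL n F w) = 0 := by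
  classical
  let B := D.blocks
  let c0 := D'.blocks.label (w.symm (D.e ⟨i, a0⟩))
  let A : Finset (Fin (D.p i).1) :=
    Finset.univ.filter fun a => D'.blocks.label (w.symm (D.e ⟨i, a⟩)) ≤ c0
  have hA : A.Nonempty := ⟨a0, by simp [A, c0]⟩
  have hA' : A ≠ univ := fun e => by
    have : a1 ∈ A := e ▸ Finset.mem_univ _
    exact absurd (Finset.mem_filter.1 this).2 (not_le.2 hne)
  let emb : radical (F := F) A →* GL (Fin n) F :=
    (D.blocks.para F).subtype.comp (D.blocks.lev.comp
      ((MonoidHom.mulSingle (fun j => GL (Fin (D.blocks.m j)) F) i).comp (radical (F := F) A).subtype))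
  have hentry : ∀ (x : radical (F := F) A) (s t : Fin n),
      D'.blocks.label (w.symm t) ≤ D'.blocks.label (w.symm s) →
      (emb x : Matrix (Fin n) (Fin n) F) s t = (1 : Matrix (Fin n) (Fin n) F) s t := by
    intro x s t hst
    obtain ⟨j, a, rfl⟩ := D.blocks.exists_coord s
    obtain ⟨l, c, rfl⟩ := D.blocks.exists_coord t
    change ((D.blocks.lev (Pi.mulSingle i (x : GL (Fin (D.p i).1) F)) : GL (Fin n) F) :
      Matrix (Fin n) (Fin n) F) (D.blocks.e ⟨j, a⟩) (D.blocks.e ⟨l, c⟩) = _
    by_cases hjl : j = l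
    · subst hjl
      rw [D.blocks.lev_apply_eq]
      by_cases hji : j = i
      · subst hji
        rw [Pi.mulSingle_eq_same, x.2 a c]
        · simp [Matrix.one_apply]
        · rintro ⟨ha, hc⟩
          refine absurd hst (not_le.2 (lt_of_le_of_lt (b := c0) ?_ ?_))
          · exact (Finset.mem_filter.1 ha).2
          · exact not_le.1 fun h => hc (Finset.mem_filter.2 ⟨Finset.mem_univ _, h⟩)
      · simp [Pi.mulSingle_eq_of_ne hji, Matrix.one_apply]
    · rw [D.blocks.lev_apply_ne _ hjl, Matrix.one_apply_ne]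
      simp [hjl]
  have hq : ∀ x, (permGL n F w)⁻¹ * emb x * permGL n F w ∈ D'.blocks.para F := by
    intro x s t hst
    rw [conj_permGL, hentry x _ _ (by simpa using hst.le), Matrix.one_apply_ne]
    intro e
    rw [w.injective e] at hst
    exact lt_irrefl _ hst
  have hq1 : ∀ x, D'.blocks.proj ⟨_, hq x⟩ = 1 := fun x =>
    (D'.blocks.proj_eq_one_iff ⟨_, hq x⟩).2 fun s t hst => by
      change (((permGL n F w)⁻¹ * emb x * permGL n F w : GL (Fin n) F) : Matrix (Fin n) (Fin n) F) s t = _
      rw [conj_permGL, hentry x _ _ (by simp [hst])]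
      simp [Matrix.one_apply, w.injective.eq_iff]
  refine pairSum_eq_zero _ _ emb.range _ _ _ ?_ ?_ fun h hh hk => ?_
  · rintro _ ⟨x, rfl⟩
    exact (D.blocks.lev _).2
  · rintro _ ⟨x, rfl⟩
    exact hq x
  · have hinj : Function.Injective emb := fun x y e => Subtype.ext (by
      have := congrArg (fun z => D.blocks.proj z i) (Subtype.ext e :
        D.blocks.lev (Pi.mulSingle i (x : GL (Fin (D.p i).1) F)) =
          D.blocks.lev (Pi.mulSingle i (y : GL (Fin (D.p i).1) F)))
      simp only [Blocks.proj_lev, Pi.mulSingle_eq_same] at this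
      exact this)
    let ee : radical (F := F) A ≃ emb.range :=
      Equiv.ofBijective emb.rangeRestrict ⟨fun x y e => hinj (show emb x = emb y from congrArg (fun z : emb.range => (z : GL (Fin n) F)) e),
        emb.rangeRestrict_surjective⟩
    rw [← ee.sum_comp]
    have hσ : ∑ x : radical (F := F) A, D.fn i x = 0 := (D.p i).2.2.2 A hA hA'
    have hterm : ∀ x : radical (F := F) A,
        D.infl ⟨h * (ee x : GL (Fin n) F), mul_mem hh (by obtain ⟨y, hy⟩ := (ee x).2; rw [← hy]; exact (D.blocks.lev _).2)⟩ *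
          conj (D'.infl ⟨(permGL n F w)⁻¹ * h * permGL n F w * ((permGL n F w)⁻¹ * (ee x : GL (Fin n) F) * permGL n F w),
            mul_mem hk (by obtain ⟨y, hy⟩ := (ee x).2; rw [← hy]; exact hq y)⟩) =
        D.fn i (D.blocks.proj ⟨h, hh⟩ i * (x : GL (Fin (D.p i).1) F)) *
          ((∏ j ∈ univ.erase i, D.fn j (D.blocks.proj ⟨h, hh⟩ j)) *
            conj (D'.infl ⟨_, hk⟩)) := by
      intro x
      have e1 : D.blocks.proj ⟨h * (ee x : GL (Fin n) F), mul_mem hh (by
          obtain ⟨y, hy⟩ := (ee x).2; rw [← hy]; exact (D.blocks.lev _).2)⟩ =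
          D.blocks.proj ⟨h, hh⟩ * Pi.mulSingle i (x : GL (Fin (D.p i).1) F) := by
        rw [← D.blocks.proj_lev (Pi.mulSingle i (x : GL (Fin (D.p i).1) F)), ← map_mul]
        rfl
      have e2 : D'.blocks.proj ⟨(permGL n F w)⁻¹ * h * permGL n F w *
          ((permGL n F w)⁻¹ * (ee x : GL (Fin n) F) * permGL n F w),
            mul_mem hk (by obtain ⟨y, hy⟩ := (ee x).2; rw [← hy]; exact hq y)⟩ =
          D'.blocks.proj ⟨_, hk⟩ := by
        have : D'.blocks.proj (⟨_, hk⟩ * ⟨_, hq x⟩) = D'.blocks.proj ⟨_, hk⟩ := by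
          rw [map_mul, hq1, mul_one]
        exact this
      unfold Datum.infl Blocks.infl
      rw [e1, e2, ← Finset.mul_prod_erase _ _ (Finset.mem_univ i)]
      simp only [Pi.mul_apply, Pi.mulSingle_eq_same]
      rw [Finset.prod_congr rfl (g := fun j => D.fn j (D.blocks.proj ⟨h, hh⟩ j))
        fun j hj => by rw [Pi.mulSingle_eq_of_ne (Finset.ne_of_mem_erase hj), mul_one]]
      ring
    rw [Finset.sum_congr rfl fun x _ => hterm x, ← Finset.sum_mul,
      sum_coset_eq_zero (CharBasic.isCharacter_of_isIrrCharacter (D.p i).2.1.2) _ hσ, zero_mul]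

open Classical in
theorem part_delta (P P' : Part F) (h : P.1 = P'.1) :
    classInner (P.2.1 : GL (Fin P.1) F → ℂ)
      (fun x => (P'.2.1 : GL (Fin P'.1) F → ℂ) (Eq.mp (congrArg (fun m => GL (Fin m) F) h) x)) =
      if P = P' then 1 else 0 := by
  obtain ⟨m, χ, h1⟩ := P
  obtain ⟨m', χ', h1'⟩ := P'
  change m = m' at h
  subst h
  change classInner (χ : GL (Fin m) F → ℂ) (χ' : GL (Fin m) F → ℂ) = _
  by_cases e : χ = χ'
  · subst e
    rw [CharBasicOrth.classInner_irr_self χ.2, if_pos rfl]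
  · rw [CharBasicOrth.classInner_irr_ne χ.2 χ'.2 (fun e' => e (Subtype.ext e')), if_neg]
    intro e'
    exact e (congrArg Subtype.val (eq_of_heq (Sigma.mk.inj e').2))

theorem cast_apply {m m' : ℕ} (h : m = m') (g : GL (Fin m) F) (a c : Fin m) :
    ((Eq.mp (congrArg (fun m => GL (Fin m) F) h) g : GL (Fin m') F) : Matrix (Fin m') (Fin m') F)
      (Fin.cast h a) (Fin.cast h c) = (g : Matrix (Fin m) (Fin m) F) a c := by
  subst h
  rfl

/-- Size preserving bijections of blocks. -/
abbrev SizeEquiv (D D' : Datum F n) : Type :=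
  {π : Fin D.k ≃ Fin D'.k // ∀ i, (D.p i).1 = (D'.p (π i)).1}

/-- The permutation attached to a bijection of blocks. -/
def blockPerm (D D' : Datum F n) (π : SizeEquiv D D') : Equiv.Perm (Fin n) :=
  (D'.e.symm.trans (Equiv.sigmaCongr π.1 fun i => finCongr (π.2 i)).symm).trans D.e

theorem blockPerm_symm (D D' : Datum F n) (π : SizeEquiv D D') (i : Fin D.k) (a : Fin (D.p i).1) :
    (blockPerm D D' π).symm (D.e ⟨i, a⟩) = D'.e ⟨π.1 i, Fin.cast (π.2 i) a⟩ := by
  simp [blockPerm, Equiv.sigmaCongr]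

theorem blockPerm_apply (D D' : Datum F n) (π : SizeEquiv D D') (i : Fin D.k) (a : Fin (D.p i).1) :
    blockPerm D D' π (D'.e ⟨π.1 i, Fin.cast (π.2 i) a⟩) = D.e ⟨i, a⟩ := by
  rw [← blockPerm_symm, Equiv.apply_symm_apply]

theorem blockPerm_label (D D' : Datum F n) (π : SizeEquiv D D') (s : Fin n) :
    D'.blocks.label ((blockPerm D D' π).symm s) = π.1 (D.blocks.label s) := by
  obtain ⟨i, a, rfl⟩ := D.blocks.exists_coord s
  rw [D.blocks.label_e]
  exact (congrArg _ (blockPerm_symm D D' π i a)).trans (D'.blocks.label_e _ _)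

open Classical in
theorem pairSum_blockPerm (D D' : Datum F n) (π : SizeEquiv D D') :
    pairSum (D.blocks.para F) (D'.blocks.para F) D.infl D'.infl (permGL n F (blockPerm D D' π)) =
      (stabCard (D.blocks.para F) (D'.blocks.para F) (permGL n F (blockPerm D D' π)) : ℂ) *
        if ∀ i, D'.p (π.1 i) = D.p i then 1 else 0 := by
  set w := blockPerm D D' π with hw
  let S : Subgroup (D.blocks.para F) :=
    (D'.blocks.para F).comap ((MulAut.conj (permGL n F w)⁻¹).toMonoidHom.comp (D.blocks.para F).subtype)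
  have hS : ∀ h : D.blocks.para F, h ∈ S ↔ (permGL n F w)⁻¹ * (h : GL (Fin n) F) * permGL n F w ∈ D'.blocks.para F := by
    intro h
    simp [S]
  haveI : Fintype S := Fintype.ofFinite _
  let φ : S →* D.blocks.Levi F := D.blocks.proj.comp S.subtype
  have hφ : Function.Surjective φ := by
    intro x
    refine ⟨⟨D.blocks.lev x, (hS _).2 fun s t hst => ?_⟩, D.blocks.proj_lev x⟩
    rw [conj_permGL]
    obtain ⟨i, a, hi⟩ := D.blocks.exists_coord (w s)
    obtain ⟨j, c, hj⟩ := D.blocks.exists_coord (w t)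
    rw [hi, hj, D.blocks.lev_apply_ne]
    intro e
    have h1 := blockPerm_label D D' π (w s)
    have h2 := blockPerm_label D D' π (w t)
    rw [hw, Equiv.symm_apply_apply, ← hw, hi, D.blocks.label_e] at h1
    rw [hw, Equiv.symm_apply_apply, ← hw, hj, D.blocks.label_e] at h2
    rw [h1, h2, e] at hst
    exact lt_irrefl _ hst
  let f : D.blocks.Levi F → ℂ := fun x =>
    ∏ i, D.fn i (x i) * conj (D'.fn (π.1 i) (Eq.mp (congrArg (fun m => GL (Fin m) F) (π.2 i)) (x i)))
  have hterm : ∀ h : S, D.infl (h : D.blocks.para F) *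
      conj (D'.infl ⟨_, (hS _).1 h.2⟩) = f (φ h) := by
    intro h
    unfold Datum.infl Blocks.infl
    rw [map_prod, ← π.1.prod_comp, ← Finset.prod_mul_distrib]
    refine Finset.prod_congr rfl fun i _ => ?_
    congr 3
    refine Units.ext (Matrix.ext fun a c => ?_)
    obtain ⟨a, rfl⟩ := (finCongr (π.2 i)).surjective a
    obtain ⟨c, rfl⟩ := (finCongr (π.2 i)).surjective c
    refine Eq.trans ?_ (cast_apply (π.2 i) _ a c).symm
    rw [D'.blocks.proj_apply]
    change (((permGL n F w)⁻¹ * ((h : D.blocks.para F) : GL (Fin n) F) * permGL n F w : GL (Fin n) F) :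
      Matrix (Fin n) (Fin n) F) (D'.e ⟨π.1 i, Fin.cast (π.2 i) a⟩) (D'.e ⟨π.1 i, Fin.cast (π.2 i) c⟩) = _
    rw [conj_permGL, hw, blockPerm_apply, blockPerm_apply]
    rfl
  have hcard : (stabCard (D.blocks.para F) (D'.blocks.para F) (permGL n F w) : ℂ) = (Fintype.card S : ℂ) := by
    rw [stabCard, Nat.cast_inj, ← Nat.card_eq_fintype_card]
    exact Nat.card_congr (Equiv.subtypeEquivRight fun h => (hS h).symm)
  rw [pairSum_eq_sum_stab, hcard]
  have hsum : ∑ h : {h : D.blocks.para F // (permGL n F w)⁻¹ * (h : GL (Fin n) F) * permGL n F w ∈ D'.blocks.para F},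
      D.infl h.1 * conj (D'.infl ⟨_, h.2⟩) = ∑ h : S, f (φ h) := by
    refine Fintype.sum_equiv (Equiv.subtypeEquivRight fun h => (hS h).symm) _ _ fun h => ?_
    exact hterm ⟨h.1, (hS _).2 h.2⟩
  rw [hsum]
  have h1 := card_mul_sum_comp φ hφ f
  have hL : (Fintype.card (D.blocks.Levi F) : ℂ) ≠ 0 := Nat.cast_ne_zero.2 Fintype.card_ne_zero
  have h2 : ∑ x : D.blocks.Levi F, f x = (Fintype.card (D.blocks.Levi F) : ℂ) *
      ∏ i, classInner (D.fn i) (fun x => D'.fn (π.1 i) (Eq.mp (congrArg (fun m => GL (Fin m) F) (π.2 i)) x)) := by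
    rw [← classInner_prodFun]
    rw [← Nat.card_eq_fintype_card, CharBasicOrth.card_mul_classInner]
    refine Finset.sum_congr rfl fun x _ => ?_
    simp only [f, prodFun, map_prod, Finset.prod_mul_distrib]
  rw [h2] at h1
  have h3 : ∏ i, classInner (D.fn i) (fun x => D'.fn (π.1 i) (Eq.mp (congrArg (fun m => GL (Fin m) F) (π.2 i)) x)) =
      if ∀ i, D'.p (π.1 i) = D.p i then (1 : ℂ) else 0 := by
    rw [Finset.prod_congr rfl fun i _ => part_delta (D.p i) (D'.p (π.1 i)) (π.2 i)]
    by_cases h : ∀ i, D'.p (π.1 i) = D.p i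
    · rw [if_pos h]
      exact Finset.prod_eq_one fun i _ => if_pos (h i).symm
    · rw [if_neg h]
      push Not at h
      obtain ⟨i, hi⟩ := h
      exact Finset.prod_eq_zero (Finset.mem_univ i) (if_neg fun e => hi e.symm)
  rw [h3] at h1
  refine mul_left_cancel₀ hL ?_
  rw [h1]
  ring

theorem pairSum_split' (D D' : Datum F n) (w : Equiv.Perm (Fin n)) (j : Fin D'.k)
    (a0 a1 : Fin (D'.p j).1)
    (hne : D.blocks.label (w (D'.e ⟨j, a0⟩)) ≠ D.blocks.label (w (D'.e ⟨j, a1⟩))) :
    pairSum (D.blocks.para F) (D'.blocks.para F) D.infl D'.infl (permGL n F w) = 0 := by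
  rw [pairSum_swap, ← map_inv]
  rcases lt_or_gt_of_ne hne with h | h
  · rw [pairSum_split D' D w⁻¹ j a0 a1 h, map_zero]
  · rw [pairSum_split D' D w⁻¹ j a1 a0 h, map_zero]

/-- The inner product of two induced products of cuspidal characters. -/
theorem inner_ind_datum (D D' : Datum F n) :
    classInner D.ind D'.ind = Nat.card {π : Fin D.k ≃ Fin D'.k // ∀ i, D'.p (π i) = D.p i} := by
  classical
  have hpos : ∀ (E : Datum F n) (i : Fin E.k), 0 < (E.p i).1 := fun E i => (E.p i).2.2.1
  unfold Datum.ind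
  rw [inner_ind_ind_reps (ι := SizeEquiv D D') _ _ D.infl_class D'.infl_class
    (fun π => permGL n F (blockPerm D D' π)) (fun π => if ∀ i, D'.p (π.1 i) = D.p i then 1 else 0)]
  · rw [Finset.sum_boole, Nat.cast_inj, ← Fintype.card_coe, ← Nat.card_eq_fintype_card]
    exact Nat.card_congr
      { toFun := fun π => ⟨π.1.1, (Finset.mem_filter.1 π.2).2⟩
        invFun := fun π => ⟨⟨π.1, fun i => by rw [π.2 i]⟩, Finset.mem_filter.2 ⟨Finset.mem_univ _, π.2⟩⟩
        left_inv := fun π => rfl
        right_inv := fun π => rfl }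
  · intro π π' h hh k hk he
    obtain ⟨ρ, hρ⟩ := perm_dc_labels D.blocks D'.blocks _ _ hh hk he.symm
    refine Subtype.ext (Equiv.ext fun i => ?_)
    obtain ⟨h1, h2⟩ := hρ (D.e ⟨i, ⟨0, hpos D i⟩⟩)
    rw [blockPerm_label, blockPerm_label, h1] at h2
    have hl : D.blocks.label (D.e ⟨i, ⟨0, hpos D i⟩⟩) = i := D.blocks.label_e i _
    rw [hl] at h2
    exact h2.symm
  · intro g hg
    obtain ⟨p, hp, q, hq, w, rfl⟩ := exists_perm_rep D.blocks D'.blocks g
    rw [pairSum_mul _ _ D.infl_class D'.infl_class hp hq]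
    by_contra hne
    have hc1 : ∀ i a a', D'.blocks.label (w.symm (D.e ⟨i, a⟩)) = D'.blocks.label (w.symm (D.e ⟨i, a'⟩)) := by
      intro i a a'
      by_contra hd
      rcases lt_or_gt_of_ne hd with h | h
      · exact hne (pairSum_split D D' w i a a' h)
      · exact hne (pairSum_split D D' w i a' a h)
    have hc2 : ∀ j a a', D.blocks.label (w (D'.e ⟨j, a⟩)) = D.blocks.label (w (D'.e ⟨j, a'⟩)) := by
      intro j a a'
      by_contra hd
      exact hne (pairSum_split' D D' w j a a' hd)
    let f1 : Fin D.k → Fin D'.k := fun i => D'.blocks.label (w.symm (D.e ⟨i, ⟨0, hpos D i⟩⟩))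
    let f2 : Fin D'.k → Fin D.k := fun j => D.blocks.label (w (D'.e ⟨j, ⟨0, hpos D' j⟩⟩))
    have hf1 : ∀ s, D'.blocks.label (w.symm s) = f1 (D.blocks.label s) := by
      intro s
      obtain ⟨i, a, rfl⟩ := D.blocks.exists_coord s
      rw [D.blocks.label_e]
      exact hc1 i a _
    have hf2 : ∀ s, D.blocks.label (w s) = f2 (D'.blocks.label s) := by
      intro s
      obtain ⟨j, a, rfl⟩ := D'.blocks.exists_coord s
      rw [D'.blocks.label_e]
      exact hc2 j a _
    let π : Fin D.k ≃ Fin D'.k :=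
      { toFun := f1
        invFun := f2
        left_inv := fun i => by
          have h := hf2 (w.symm (D.e ⟨i, ⟨0, hpos D i⟩⟩))
          rw [w.apply_symm_apply] at h
          exact h.symm.trans (D.blocks.label_e i _)
        right_inv := fun j => by
          have h := hf1 (w (D'.e ⟨j, ⟨0, hpos D' j⟩⟩))
          rw [w.symm_apply_apply] at h
          exact h.symm.trans (D'.blocks.label_e j _) }
    have hsize : ∀ i, (D.p i).1 = (D'.p (π i)).1 := by
      intro i
      have e1 : ∀ (E : Datum F n) (i : Fin E.k), (E.p i).1 = Fintype.card {s // E.blocks.label s = i} := by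
        intro E i
        rw [← Fintype.card_fin (E.p i).1]
        exact Fintype.card_congr
          ((Equiv.sigmaSubtype i).symm.trans (Equiv.subtypeEquiv E.e fun x => by
            obtain ⟨j, a⟩ := x
            rw [show E.blocks.label (E.e ⟨j, a⟩) = j from E.blocks.label_e j a]))
      rw [e1 D, e1 D']
      refine Fintype.card_congr (Equiv.subtypeEquiv w.symm fun s => ?_)
      rw [hf1]
      exact π.injective.eq_iff.symm
    let π' : SizeEquiv D D' := ⟨π, hsize⟩
    have hy : permGL n F ((blockPerm D D' π')⁻¹ * w) ∈ D'.blocks.para F := by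
      refine perm_mem_para _ fun s => ?_
      change D'.blocks.label ((blockPerm D D' π').symm (w s)) = _
      rw [blockPerm_label]
      have h := hf1 (w s)
      rw [w.symm_apply_apply] at h
      exact h.symm
    refine hg ⟨π', p, hp, _, mul_mem hy hq, ?_⟩
    rw [map_mul, map_inv]
    group
  · intro π
    exact pairSum_blockPerm D D' π

theorem ind_eq_of_perm (D D' : Datum F n) (π : Fin D.k ≃ Fin D'.k) (h : ∀ i, D'.p (π i) = D.p i) :
    D.ind = D'.ind := by
  classical
  let N := Nat.card {σ : Fin D.k ≃ Fin D.k // ∀ i, D.p (σ i) = D.p i}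
  have h11 : classInner D.ind D.ind = N := inner_ind_datum D D
  have h12 : classInner D.ind D'.ind = N := by
    rw [inner_ind_datum, Nat.cast_inj]
    refine Nat.card_congr
      { toFun := fun σ => ⟨σ.1.trans π.symm, fun i => ?_⟩
        invFun := fun σ => ⟨σ.1.trans π, fun i => ?_⟩
        left_inv := fun σ => Subtype.ext (Equiv.ext fun i => by simp)
        right_inv := fun σ => Subtype.ext (Equiv.ext fun i => by simp) }
    · rw [Equiv.trans_apply, ← h (π.symm (σ.1 i)), Equiv.apply_symm_apply, σ.2]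
    · rw [Equiv.trans_apply, h, σ.2]
  have h22 : classInner D'.ind D'.ind = N := by
    rw [inner_ind_datum, Nat.cast_inj]
    refine Nat.card_congr
      { toFun := fun σ => ⟨(π.trans σ.1).trans π.symm, fun i => ?_⟩
        invFun := fun σ => ⟨(π.symm.trans σ.1).trans π, fun i => ?_⟩
        left_inv := fun σ => Subtype.ext (Equiv.ext fun i => by simp)
        right_inv := fun σ => Subtype.ext (Equiv.ext fun i => by simp) }
    · rw [Equiv.trans_apply, Equiv.trans_apply, ← h (π.symm (σ.1 (π i))), Equiv.apply_symm_apply, σ.2, h]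
    · rw [Equiv.trans_apply, Equiv.trans_apply, h, σ.2, ← h (π.symm i), Equiv.apply_symm_apply]
  have h21 : classInner D'.ind D.ind = N := by
    rw [← CharBasicOrth.conj_classInner, h12, map_natCast]
  refine sub_eq_zero.1 (CharBasicOrth.eq_zero_of_classInner_self ?_)
  rw [CharBasicOrth.classInner_sub_left, CharBasicOrth.classInner_sub_right,
    CharBasicOrth.classInner_sub_right, h11, h12, h21, h22]
  ring

theorem equiv_of_inner_ne_zero (D D' : Datum F n) {χ : GL (Fin n) F → ℂ}
    (hχ : IsIrrCharacter (GL (Fin n) F) χ) (h1 : classInner D.ind χ ≠ 0) (h2 : classInner D'.ind χ ≠ 0) :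
    ∃ π : Fin D.k ≃ Fin D'.k, ∀ i, D'.p (π i) = D.p i := by
  obtain ⟨m, hm, -⟩ := CharBasicDecomp.exists_mult D.ind_character
  obtain ⟨m', hm', -⟩ := CharBasicDecomp.exists_mult D'.ind_character
  have hne : classInner D.ind D'.ind ≠ 0 := by
    rw [CharBasicOrth.classInner_eq_sum (CharBasic.isClassFunction_of_isCharacter D.ind_character)]
    simp only [hm, hm', map_natCast, ← Nat.cast_mul, ← Nat.cast_sum]
    rw [Nat.cast_ne_zero]
    intro h0
    have := (Finset.sum_eq_zero_iff.1 h0) ⟨χ, hχ⟩ (Finset.mem_univ _)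
    rcases Nat.mul_eq_zero.1 this with e | e
    · exact h1 ((hm ⟨χ, hχ⟩).trans (by rw [e, Nat.cast_zero]))
    · exact h2 ((hm' ⟨χ, hχ⟩).trans (by rw [e, Nat.cast_zero]))
  rw [inner_ind_datum, Nat.cast_ne_zero, Nat.card_ne_zero] at hne
  obtain ⟨⟨π⟩, -⟩ := hne
  exact ⟨π.1, π.2⟩

end Induced

end Cfsg.Agent.GelfandGraev88
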