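import Mathlib
import Cfsg.Agent.Lib.GelfandGraev88Mackey

/-!
A product of cuspidal characters meets the Gelfand-Graev character exactly once; generic characters
are parametrised by multisets of cuspidal characters.
-/

set_option autoImplicit false

open scoped MatrixGroups ComplexConjugate
open Finset

namespace Cfsg.Agent.GelfandGraev88

open Cfsg.Agent.GLUnipotentDC (permGL permGL_coe permGL_mul_apply mul_permGL_apply)

section Shift

variable {G : Type*} [Group G] [Fintype G]

/-- Vanishing by a shift. -/
theorem pairSum_eq_zero_of_shift (H K : Subgroup G) (α : H → ℂ) (β : K → ℂ) (g x : G) (hx : x ∈ H)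
    (hy : g⁻¹ * x * g ∈ K) (c : ℂ) (hc : c ≠ 1)
    (h0 : ∀ (h : G) (hh : h ∈ H) (hk : g⁻¹ * h * g ∈ K),
      α ⟨x * h, mul_mem hx hh⟩ * conj (β ⟨g⁻¹ * x * g * (g⁻¹ * h * g), mul_mem hy hk⟩) =
        c * (α ⟨h, hh⟩ * conj (β ⟨_, hk⟩))) :
    pairSum H K α β g = 0 := by
  classical
  let F : G → ℂ := fun y => extendByZero H α y * conj (extendByZero K β (g⁻¹ * y * g))
  have h1 : ∀ y, F (x * y) = c * F y := by
    intro y
    simp only [F]
    have e : g⁻¹ * (x * y) * g = g⁻¹ * x * g * (g⁻¹ * y * g) := by group
    by_cases hH : y ∈ H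
    · by_cases hK : g⁻¹ * y * g ∈ K
      · rw [CharInduced.ext_zero_of_mem α (mul_mem hx hH), CharInduced.ext_zero_of_mem α hH, e,
          CharInduced.ext_zero_of_mem β (mul_mem hy hK), CharInduced.ext_zero_of_mem β hK]
        exact h0 y hH hK
      · rw [e, CharInduced.ext_zero_of_not_mem β hK, CharInduced.ext_zero_of_not_mem β, map_zero,
          mul_zero, mul_zero, mul_zero]
        exact fun h => hK ((K.mul_mem_cancel_left hy).1 h)
    · rw [CharInduced.ext_zero_of_not_mem α hH, CharInduced.ext_zero_of_not_mem α, zero_mul, zero_mul,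
        mul_zero]
      exact fun h => hH ((H.mul_mem_cancel_left hx).1 h)
  have h2 : pairSum H K α β g = c * pairSum H K α β g := by
    change ∑ y, F y = c * ∑ y, F y
    rw [Finset.mul_sum]
    exact ((Fintype.sum_equiv (Equiv.mulLeft x) _ F fun y => rfl).symm).trans
      (Finset.sum_congr rfl fun y _ => h1 y)
  by_contra hne
  exact hc ((mul_eq_right₀ hne).1 h2.symm)

end Shift

variable {F : Type*} [Field F] [Fintype F] [DecidableEq F] {n : ℕ}

theorem addChar_sum {ι : Type*} (θ : AddChar F ℂ) (s : Finset ι) (f : ι → F) :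
    θ (∑ i ∈ s, f i) = ∏ i ∈ s, θ (f i) := by
  classical
  induction s using Finset.induction with
  | empty => simp
  | insert a s ha ih => rw [Finset.sum_insert ha, Finset.prod_insert ha, AddChar.map_add_eq_mul, ih]

/-- Blocks are consecutive intervals, in increasing order of the labels. -/
def Datum.IsStandard (D : Datum F n) : Prop :=
  Monotone D.blocks.label ∧ ∀ i a c, (D.e ⟨i, c⟩).val + a.val = (D.e ⟨i, a⟩).val + c.val

theorem unitri_le_para {D : Blocks n} (hD : Monotone D.label) {u : GL (Fin n) F} (hu : u ∈ unitri n F) :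
    u ∈ D.para F := fun _ _ h => unitri_zero hu (lt_of_not_ge fun hle => not_le.2 h (hD hle))

theorem inner_datum_gg {θ : AddChar F ℂ} (hθ : ∃ c, θ c ≠ 1) (D : Datum F n) (hD : D.IsStandard) :
    classInner D.ind (ggChar θ) = 1 := by
  classical
  obtain ⟨hmono, hin⟩ := hD
  have hψ := isClassFunction_genChar (F := F) (n := n) θ
  let ws : Equiv.Perm (Fin n) := (runSwap hmono).symm
  have hanti : ∀ x y : Fin n, x ≤ y → D.blocks.label (ws y) ≤ D.blocks.label (ws x) := by
    intro x y hxy
    by_contra h
    have h' := runSwap_lt hmono (not_le.1 h)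
    rw [Equiv.apply_symm_apply, Equiv.apply_symm_apply] at h'
    exact absurd hxy (not_le.2 h')
  unfold Datum.ind ggChar
  rw [inner_ind_ind_reps (ι := Unit) _ _ D.infl_class hψ (fun _ => permGL n F ws) (fun _ => 1)]
  · simp
  · intro i j _ _ _ _ _
    rfl
  · intro g hg
    obtain ⟨u, hu, v, hv, σ, t, rfl⟩ := exists_mono g
    have hdiag : monoGL σ t * (permGL n F σ)⁻¹ ∈ D.blocks.para F := by
      intro s r hsr
      rw [← map_inv, Units.val_mul, mul_permGL_apply, monoGL_apply, if_neg]
      rw [show σ (σ⁻¹ r) = r from σ.apply_symm_apply r]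
      intro e
      rw [e] at hsr
      exact lt_irrefl _ hsr
    have hsplit : u * monoGL σ t * v = u * (monoGL σ t * (permGL n F σ)⁻¹) * permGL n F σ * v := by group
    have hp : u * (monoGL σ t * (permGL n F σ)⁻¹) ∈ D.blocks.para F := mul_mem (unitri_le_para hmono hu) hdiag
    rw [hsplit, pairSum_mul _ _ D.infl_class hψ hp hv]
    by_contra hne
    by_cases hasc : ∀ a b : Fin n, a.val + 1 = b.val → D.blocks.label (σ b) ≤ D.blocks.label (σ a)
    · have hσanti : ∀ x y : Fin n, x ≤ y → D.blocks.label (σ y) ≤ D.blocks.label (σ x) := by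
        suffices H : ∀ d (x y : Fin n), y.val = x.val + d → D.blocks.label (σ y) ≤ D.blocks.label (σ x) by
          intro x y hxy
          obtain ⟨d, hd⟩ : ∃ d, y.val = x.val + d := Nat.exists_eq_add_of_le hxy
          exact H d x y hd
        intro d
        induction d with
        | zero =>
          intro x y hd
          rw [show y = x from Fin.ext (by omega)]
        | succ d ih =>
          intro x y hd
          exact (hasc ⟨x.val + d, by omega⟩ y (by simp; omega)).trans (ih x _ rfl)
      have heq := Tuple.unique_monotone (f := D.blocks.label)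
        (σ := Fin.revPerm.trans σ) (τ := Fin.revPerm.trans ws)
        (fun x y hxy => hσanti _ _ (Fin.rev_le_rev.2 hxy)) (fun x y hxy => hanti _ _ (Fin.rev_le_rev.2 hxy))
      have heq' : ∀ x, D.blocks.label (σ x) = D.blocks.label (ws x) := fun x => by
        have := congrFun heq x.rev
        simpa using this
      have hy : permGL n F (σ * ws⁻¹) ∈ D.blocks.para F := perm_mem_para _ fun s => by
        rw [Equiv.Perm.mul_apply, heq']
        simp
      refine hg ⟨(), _, mul_mem hp hy, v, hv, ?_⟩
      rw [hsplit, map_mul, map_inv]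
      group
    · push Not at hasc
      obtain ⟨a, b, hab, hlt⟩ := hasc
      obtain ⟨c, hc⟩ := hθ
      have hσne : σ a ≠ σ b := fun e => by rw [e] at hlt; exact lt_irrefl _ hlt
      have hab' : a < b := by change a.val < b.val; omega
      let x := rootGL hσne c
      have hxP : x ∈ D.blocks.para F := by
        intro s t hst
        rw [rootGL_coe, Matrix.transvection, Matrix.add_apply,
          Matrix.one_apply_ne (fun e => by rw [e] at hst; exact lt_irrefl _ hst), zero_add,
          Matrix.single_apply_of_ne]
        rintro ⟨rfl, rfl⟩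
        exact lt_asymm hst hlt
      have hx1 : D.blocks.proj ⟨x, hxP⟩ = 1 := (D.blocks.proj_eq_one_iff _).2 fun s t hst => by
        change (x : Matrix (Fin n) (Fin n) F) s t = _
        rw [rootGL_coe, Matrix.transvection, Matrix.add_apply, Matrix.single_apply_of_ne, add_zero]
        rintro ⟨rfl, rfl⟩
        exact hlt.ne hst
      have hxe : (permGL n F σ)⁻¹ * x * permGL n F σ = rootGL hab'.ne c := by
        refine Units.ext (Matrix.ext fun s t => ?_)
        rw [conj_permGL, rootGL_coe, rootGL_coe]
        simp [Matrix.transvection, Matrix.one_apply, Matrix.single_apply, σ.injective.eq_iff]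
      refine hne (pairSum_eq_zero_of_shift _ _ _ _ _ x hxP
        (by rw [hxe]; exact rootGL_mem hab' c) (conj (θ c)) (fun e => hc (by simpa using congrArg conj e)) ?_)
      intro h hh hk
      have e1 : D.infl ⟨x * h, mul_mem hxP hh⟩ = D.infl ⟨h, hh⟩ := by
        have : D.blocks.proj (⟨x, hxP⟩ * ⟨h, hh⟩) = D.blocks.proj ⟨h, hh⟩ := by rw [map_mul, hx1, one_mul]
        exact congrArg (fun z => ∏ i, D.fn i (z i)) this
      have e2 : (⟨(permGL n F σ)⁻¹ * x * permGL n F σ * ((permGL n F σ)⁻¹ * h * permGL n F σ),
          mul_mem (by rw [hxe]; exact rootGL_mem hab' c) hk⟩ : unitri n F) =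
          ⟨_, rootGL_mem hab' c⟩ * ⟨_, hk⟩ := Subtype.ext (by simp only [Subgroup.coe_mul, hxe])
      rw [e1, e2, map_mul, map_mul, genChar_apply, superSum_root hab', if_pos hab]
      ring
  · intro _
    have hrun : ∀ i (a : Fin (D.p i).1) (c : Fin (D.p i).1), a < c →
        ((runSwap hmono) (D.e ⟨i, c⟩)).val + a.val = ((runSwap hmono) (D.e ⟨i, a⟩)).val + c.val := by
      intro i a c hac
      have h1 := hin i a c
      have hac' : a.val < c.val := hac
      have hle : D.e ⟨i, a⟩ ≤ D.e ⟨i, c⟩ := by change (D.e ⟨i, a⟩).val ≤ (D.e ⟨i, c⟩).val; omega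
      have h2 := runSwap_same hmono hle (by rw [D.blocks.label_e, D.blocks.label_e])
      omega
    let S : Subgroup (D.blocks.para F) :=
      (unitri n F).comap ((MulAut.conj (permGL n F ws)⁻¹).toMonoidHom.comp (D.blocks.para F).subtype)
    have hS : ∀ h : D.blocks.para F, h ∈ S ↔
        (permGL n F ws)⁻¹ * (h : GL (Fin n) F) * permGL n F ws ∈ unitri n F := by
      intro h
      simp [S]
    haveI : Fintype S := Fintype.ofFinite _
    have hconj : ∀ (h : GL (Fin n) F) (s t : Fin n),
        (((permGL n F ws)⁻¹ * h * permGL n F ws : GL (Fin n) F) : Matrix (Fin n) (Fin n) F)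
          (runSwap hmono s) (runSwap hmono t) = (h : Matrix (Fin n) (Fin n) F) s t := by
      intro h s t
      rw [conj_permGL]
      simp [ws]
    have hblock : ∀ (h : S) (i : Fin D.k), D.blocks.proj (h : D.blocks.para F) i ∈ unitri (D.p i).1 F := by
      intro h i
      have hu := (hS _).1 h.2
      refine mem_unitri_iff.2 ⟨fun a c hca => ?_, fun a => ?_⟩
      · rw [D.blocks.proj_apply, ← hconj]
        refine unitri_zero hu ?_
        have := hrun i c a hca
        have : c.val < a.val := hca
        change (runSwap hmono (D.e ⟨i, c⟩)).val < (runSwap hmono (D.e ⟨i, a⟩)).val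
        omega
      · rw [D.blocks.proj_apply, ← hconj]
        exact unitri_diag hu _
    let φ : S →* ∀ i : Fin D.k, unitri (D.p i).1 F :=
      MonoidHom.pi fun i => ((Pi.evalMonoidHom (fun i => GL (Fin (D.p i).1) F) i).comp
        (D.blocks.proj.comp S.subtype)).codRestrict _ (fun h => hblock h i)
    have hφ : Function.Surjective φ := by
      intro x
      have hmem : D.blocks.lev (fun i => (x i : GL (Fin (D.p i).1) F)) ∈ S := by
        rw [hS]
        refine mem_unitri_iff.2 ⟨fun s t hts => ?_, fun s => ?_⟩
        · rw [conj_permGL]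
          obtain ⟨i, a, hi⟩ := D.blocks.exists_coord (ws s)
          obtain ⟨j, c, hj⟩ := D.blocks.exists_coord (ws t)
          rw [hi, hj]
          by_cases hij : i = j
          · subst hij
            rw [D.blocks.lev_apply_eq]
            refine unitri_zero (x i).2 (lt_of_not_ge fun hle => ?_)
            have es : runSwap hmono (D.e ⟨i, a⟩) = s := by rw [← hi]; simp [ws]
            have et : runSwap hmono (D.e ⟨i, c⟩) = t := by rw [← hj]; simp [ws]
            rcases hle.lt_or_eq with h | h
            · have := hrun i a c h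
              rw [es, et] at this
              have : t.val < s.val := hts
              have : a.val < c.val := h
              omega
            · rw [h] at es
              rw [es] at et
              exact hts.ne et.symm
          · rw [D.blocks.lev_apply_ne _ hij]
        · rw [conj_permGL]
          obtain ⟨i, a, hi⟩ := D.blocks.exists_coord (ws s)
          rw [hi, D.blocks.lev_apply_eq]
          exact unitri_diag (x i).2 a
      refine ⟨⟨_, hmem⟩, funext fun i => Subtype.ext ?_⟩
      exact congrFun (D.blocks.proj_lev _) i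
    let f : (∀ i : Fin D.k, unitri (D.p i).1 F) → ℂ := fun x =>
      ∏ i, D.fn i (x i : GL (Fin (D.p i).1) F) * conj (genChar θ (x i))
    have hterm : ∀ h : S, D.infl (h : D.blocks.para F) * conj (genChar θ ⟨_, (hS _).1 h.2⟩) = f (φ h) := by
      intro h
      simp only [f]
      rw [Finset.prod_mul_distrib, ← map_prod]
      congr 2
      simp only [genChar_apply]
      rw [← addChar_sum]
      congr 1
      have hz : ∀ s t : Fin n,
          (if (runSwap hmono s).val + 1 = (runSwap hmono t).val
            then ((h : D.blocks.para F) : GL (Fin n) F).val s t else 0) =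
          if D.blocks.label s = D.blocks.label t ∧ s.val + 1 = t.val
            then ((h : D.blocks.para F) : GL (Fin n) F).val s t else 0 := by
        intro s t
        by_cases hl : D.blocks.label s = D.blocks.label t
        · refine if_congr ?_ rfl rfl
          obtain ⟨i, a, rfl⟩ := D.blocks.exists_coord s
          obtain ⟨j, c, rfl⟩ := D.blocks.exists_coord t
          rw [D.blocks.label_e, D.blocks.label_e] at hl ⊢
          subst hl
          have h1 := hin i a c
          simp only [true_and]
          rcases lt_trichotomy a c with h | h | h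
          · have := hrun i a c h
            have : a.val < c.val := h
            constructor <;> intro e <;> omega
          · subst h; omega
          · have := hrun i c a h
            have : c.val < a.val := h
            constructor <;> intro e <;> omega
        · rw [if_neg (fun e : D.blocks.label s = D.blocks.label t ∧ s.val + 1 = t.val => hl e.1)]
          split_ifs with h1
          · refine D.blocks.para_zero (h : D.blocks.para F).2 (lt_of_le_of_ne ?_ (Ne.symm hl))
            have hle : runSwap hmono s ≤ runSwap hmono t := by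
              change (runSwap hmono s).val ≤ (runSwap hmono t).val; omega
            have := hanti _ _ hle
            simpa [ws] using this
          · rfl
      calc superSum (((permGL n F ws)⁻¹ * ((h : D.blocks.para F) : GL (Fin n) F) * permGL n F ws :
              GL (Fin n) F) : Matrix (Fin n) (Fin n) F)
          = ∑ s : Fin n, ∑ t : Fin n, if D.blocks.label s = D.blocks.label t ∧ s.val + 1 = t.val
              then ((h : D.blocks.para F) : GL (Fin n) F).val s t else 0 := by
            unfold superSum
            refine (Fintype.sum_equiv (runSwap hmono) _ _ fun s =>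
              Fintype.sum_equiv (runSwap hmono) _ _ fun t => ?_).symm
            rw [hconj, ← hz]
        _ = _ := by
            rw [← D.e.sum_comp, Fintype.sum_sigma]
            refine Finset.sum_congr rfl fun i _ => ?_
            refine Finset.sum_congr rfl fun a _ => ?_
            rw [← D.e.sum_comp, Fintype.sum_sigma, Finset.sum_eq_single i]
            · refine Finset.sum_congr rfl fun c _ => ?_
              have h1 := hin i a c
              refine if_congr ?_ rfl rfl
              rw [D.blocks.label_e, D.blocks.label_e]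
              simp only [true_and]
              omega
            · intro j _ hj
              refine Finset.sum_eq_zero fun c _ => if_neg ?_
              rw [D.blocks.label_e, D.blocks.label_e]
              exact fun e => hj e.1.symm
            · simp
    rw [pairSum_eq_sum_stab, mul_one]
    have hcard : (stabCard (D.blocks.para F) (unitri n F) (permGL n F ws) : ℂ) = (Fintype.card S : ℂ) := by
      rw [stabCard, Nat.cast_inj, ← Nat.card_eq_fintype_card]
      exact Nat.card_congr (Equiv.subtypeEquivRight fun h => (hS h).symm)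
    rw [hcard]
    have hsum : ∑ h : {h : D.blocks.para F //
          (permGL n F ws)⁻¹ * (h : GL (Fin n) F) * permGL n F ws ∈ unitri n F},
        D.infl h.1 * conj (genChar θ ⟨_, h.2⟩) = ∑ h : S, f (φ h) :=
      Fintype.sum_equiv (Equiv.subtypeEquivRight fun h => (hS h).symm) _ _ fun h =>
        hterm ⟨h.1, (hS _).2 h.2⟩
    rw [hsum]
    have h1 := card_mul_sum_comp φ hφ f
    have h2 : ∑ x, f x = (Fintype.card (∀ i : Fin D.k, unitri (D.p i).1 F) : ℂ) := by
      rw [Fintype.card_pi, Nat.cast_prod]
      simp only [f]
      rw [← Fintype.prod_sum (fun i (x : unitri (D.p i).1 F) =>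
        D.fn i (x : GL (Fin (D.p i).1) F) * conj (genChar θ x))]
      refine Finset.prod_congr rfl fun i _ => ?_
      have hm := (cusp_degree hθ (D.p i).2.2.1 (D.p i).2.1.2 (D.p i).2.2.2).2
      unfold ggMult linMult at hm
      rw [← mul_one (Fintype.card (unitri (D.p i).1 F) : ℂ), ← hm, ← mul_assoc,
        mul_inv_cancel₀ (Nat.cast_ne_zero.2 Fintype.card_ne_zero), one_mul]
    rw [h2] at h1
    refine mul_left_cancel₀ (Nat.cast_ne_zero.2 (Fintype.card_ne_zero (α := ∀ i : Fin D.k, unitri (D.p i).1 F))) ?_
    rw [h1]
    ring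

/-- Multisets of parts of total size `n`. -/
def PartMs (F : Type*) [Field F] [Fintype F] [DecidableEq F] (n : ℕ) : Type _ :=
  {s : Multiset (Part F) // (s.map fun P => P.1).sum = n}

theorem sum_toList (s : PartMs F n) : ∑ i : Fin s.1.toList.length, (s.1.toList.get i).1 = n := by
  have h : (s.1.toList.map fun P : Part F => P.1).sum = n := by
    rw [← Multiset.sum_coe, ← Multiset.map_coe, Multiset.coe_toList]
    exact s.2
  refine Eq.trans ?_ h
  rw [← List.sum_ofFn]
  congr 1
  apply List.ext_getElem <;> simp

/-- The standard datum of a multiset. -/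
noncomputable def PartMs.datum (s : PartMs F n) : Datum F n :=
  ⟨s.1.toList.length, s.1.toList.get, finSigmaFinEquiv.trans (finCongr (sum_toList s))⟩

theorem PartMs.datum_standard (s : PartMs F n) : s.datum.IsStandard := by
  classical
  set D := s.datum with hD
  let off : Fin D.k → ℕ := fun i => ∑ l ∈ Finset.univ.filter (fun l : Fin D.k => l < i), (D.p l).1
  have hpos : ∀ (i : Fin D.k) (a : Fin (D.p i).1), (D.e ⟨i, a⟩).val = off i + a.val := by
    intro i a
    change (finSigmaFinEquiv (⟨i, a⟩ : Σ i : Fin s.1.toList.length, Fin (s.1.toList.get i).1)).val = _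
    rw [finSigmaFinEquiv_apply]
    congr 1
    refine (Finset.sum_bij (fun k hk => (⟨k.val, (Finset.mem_filter.1 hk).2⟩ : Fin i.val)) ?_ ?_ ?_ ?_).symm
    · intros; exact Finset.mem_univ _
    · intro a _ b _ hab
      exact Fin.ext (by simpa [Fin.ext_iff] using hab)
    · intro b _
      exact ⟨Fin.castLE i.isLt.le b, Finset.mem_filter.2 ⟨Finset.mem_univ _, b.isLt⟩, rfl⟩
    · intros; rfl
  refine ⟨fun x y hxy => ?_, fun i a c => ?_⟩
  · obtain ⟨i, a, rfl⟩ := D.blocks.exists_coord x
    obtain ⟨j, c, rfl⟩ := D.blocks.exists_coord y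
    rw [D.blocks.label_e, D.blocks.label_e]
    by_contra h
    have hji : j < i := not_le.1 h
    have hoff : off j + (D.p j).1 ≤ off i := by
      simp only [off]
      rw [add_comm, ← Finset.sum_insert (f := fun l => (D.p l).1) (s := Finset.univ.filter fun l => l < j)
        (a := j) (by simp)]
      refine Finset.sum_le_sum_of_subset fun l hl => ?_
      simp only [Finset.mem_insert, Finset.mem_filter, Finset.mem_univ, true_and] at hl ⊢
      rcases hl with rfl | hl
      · exact hji
      · exact hl.trans hji
    have h1 : (D.e ⟨i, a⟩).val ≤ (D.e ⟨j, c⟩).val := hxy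
    rw [hpos, hpos] at h1
    have := c.isLt
    omega
  · rw [hpos, hpos]
    omega

theorem PartMs.datum_map (s : PartMs F n) :
    (Finset.univ : Finset (Fin s.datum.k)).val.map s.datum.p = s.1 := by
  conv_rhs => rw [← Multiset.coe_toList s.1]
  change Multiset.map s.1.toList.get (List.finRange s.1.toList.length : Multiset _) = _
  rw [Multiset.map_coe, ← List.ofFn_eq_map, List.ofFn_get]

theorem exists_equiv_of_map_eq {α : Type*} {k l : ℕ} (p : Fin k → α) (q : Fin l → α)
    (h : (Finset.univ : Finset (Fin k)).val.map p = (Finset.univ : Finset (Fin l)).val.map q) :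
    ∃ π : Fin k ≃ Fin l, ∀ i, q (π i) = p i := by
  classical
  have hc : ∀ a, Fintype.card {i // p i = a} = Fintype.card {j // q j = a} := by
    intro a
    have := congrArg (Multiset.count a) h
    rw [Multiset.count_map, Multiset.count_map] at this
    simpa [Fintype.card_subtype, Finset.card_def, Finset.filter_val, eq_comm] using this
  exact ⟨Equiv.ofFiberEquiv fun a => Fintype.equivOfCardEq (hc a), fun i => Equiv.ofFiberEquiv_map _ i⟩

theorem unique_generic {θ : AddChar F ℂ} (hθ : ∃ c, θ c ≠ 1) (s : PartMs F n) :
    ∃! χ : Gen (F := F) θ n, classInner s.datum.ind (χ.1 : GL (Fin n) F → ℂ) ≠ 0 := by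
  classical
  have h := inner_datum_gg hθ s.datum s.datum_standard
  obtain ⟨m, hm, -⟩ := CharBasicDecomp.exists_mult s.datum.ind_character
  rw [CharBasicOrth.classInner_eq_sum (CharBasic.isClassFunction_of_isCharacter s.datum.ind_character)] at h
  have hterm : ∀ χ : IrrCharacter (GL (Fin n) F),
      classInner s.datum.ind (χ : GL (Fin n) F → ℂ) * conj (classInner (ggChar θ) (χ : GL (Fin n) F → ℂ)) =
        ((if ggMult θ (χ : GL (Fin n) F → ℂ) = 1 then m χ else 0 : ℕ) : ℂ) := by
    intro χ
    rw [hm, CharBasicOrth.conj_classInner, inner_ggChar θ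
      (CharBasic.isClassFunction_of_isCharacter (CharBasic.isCharacter_of_isIrrCharacter χ.2))]
    rcases ggMult_irr hθ χ.2 with e | e <;> simp [e]
  rw [Finset.sum_congr rfl fun χ _ => hterm χ, ← Nat.cast_sum, Nat.cast_eq_one,
    ← Finset.sum_filter] at h
  obtain ⟨χ, hχ, hne⟩ := Finset.exists_ne_zero_of_sum_ne_zero (by rw [h]; exact one_ne_zero)
  refine ⟨⟨χ, (Finset.mem_filter.1 hχ).2⟩, ?_, fun χ' hχ' => ?_⟩
  · change classInner s.datum.ind (χ : GL (Fin n) F → ℂ) ≠ 0
    rw [hm]
    exact_mod_cast hne
  · refine Subtype.ext ?_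
    by_contra hd
    have hsub : ({χ'.1, χ} : Finset _) ⊆ Finset.univ.filter
        (fun χ : IrrCharacter (GL (Fin n) F) => ggMult θ (χ : GL (Fin n) F → ℂ) = 1) := by
      intro z hz
      rw [Finset.mem_insert, Finset.mem_singleton] at hz
      rcases hz with rfl | rfl
      · exact Finset.mem_filter.2 ⟨Finset.mem_univ _, χ'.2⟩
      · exact hχ
    have h2 := Finset.sum_le_sum_of_subset (f := m) hsub
    rw [h, Finset.sum_pair hd] at h2
    change m χ'.1 + m χ ≤ 1 at h2
    have hp : m χ'.1 ≠ 0 := fun e => hχ' (by rw [hm, e, Nat.cast_zero])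
    omega

theorem card_partMs {θ : AddChar F ℂ} (hθ : ∃ c, θ c ≠ 1) (hn : 0 < n) :
    Nat.card (PartMs F n) = (Fintype.card F - 1) * Fintype.card F ^ (n - 1) := by
  classical
  rw [← card_gen hθ n hn]
  choose g hg hguniq using unique_generic (n := n) hθ
  refine Nat.card_congr (Equiv.ofBijective g ⟨fun s t he => ?_, fun χ => ?_⟩)
  · obtain ⟨π, hπ⟩ := equiv_of_inner_ne_zero s.datum t.datum (g s).1.2 (hg s) (he ▸ hg t)
    refine Subtype.ext ?_
    rw [← s.datum_map, ← t.datum_map, ← Multiset.map_univ_val_equiv π, Multiset.map_map]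
    exact Multiset.map_congr rfl fun i _ => (hπ i).symm
  · obtain ⟨B, σ, hm, hc, hne⟩ := exists_support hn χ.1.2
    let D : Datum F n := ⟨B.k, fun i => ⟨B.m i, σ i, hm i, hc i⟩, B.e⟩
    let s : PartMs F n := ⟨(Finset.univ : Finset (Fin B.k)).val.map D.p, by
      rw [Multiset.map_map]
      change ∑ i, B.m i = n
      have := Fintype.card_congr B.e
      simpa using this⟩
    obtain ⟨π, hπ⟩ := exists_equiv_of_map_eq D.p s.datum.p (s.datum_map).symm
    have heq := ind_eq_of_perm D s.datum π hπ
    refine ⟨s, (hguniq s χ ?_).symm⟩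
    change classInner s.datum.ind (χ.1 : GL (Fin n) F → ℂ) ≠ 0
    rw [← heq]
    intro e
    refine hne ?_
    rw [← CharBasicOrth.conj_classInner]
    exact (congrArg conj e).trans (map_zero _)

end Cfsg.Agent.GelfandGraev88
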