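import Mathlib
import Cfsg.Agent.Lib.GelfandGraev88Products

/-!
The number of cuspidal irreducible characters of `GL_n` equals the number of irreducible monic
polynomials of degree `n` other than `X`.
-/

set_option autoImplicit false

open scoped MatrixGroups ComplexConjugate
open Finset Polynomial

namespace Cfsg.Agent.GelfandGraev88

section Multisets

/-- Multisets of total degree `n`. -/
abbrev DegMs {P : Type*} (d : P → ℕ) (n : ℕ) : Type _ := {s : Multiset P // (s.map d).sum = n}

theorem degMs_split {P : Type*} (d : P → ℕ) (hd : ∀ x, 0 < d x) (n : ℕ) (hn : 0 < n) :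
    Nonempty (DegMs d n ≃ {x // d x = n} ⊕ DegMs (fun x : {x // d x < n} => d x.1) n) := by
  classical
  have hle : ∀ s : DegMs d n, ∀ x ∈ s.1, d x ≤ n := fun s x hx =>
    (Multiset.le_sum_of_mem (Multiset.mem_map_of_mem d hx)).trans_eq s.2
  have hbig : ∀ s : DegMs d n, ∀ x ∈ s.1, d x = n → s.1 = {x} := by
    intro s x hx hxn
    obtain ⟨t, ht⟩ := Multiset.exists_cons_of_mem hx
    have h2 := s.2
    rw [ht, Multiset.map_cons, Multiset.sum_cons, hxn] at h2
    have ht0 : t = 0 := by
      refine Multiset.eq_zero_of_forall_notMem fun y hy => ?_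
      have := Multiset.le_sum_of_mem (Multiset.mem_map_of_mem d hy)
      have := hd y
      omega
    rw [ht, ht0]
    rfl
  let g : {x // d x = n} ⊕ DegMs (fun x : {x // d x < n} => d x.1) n → DegMs d n := fun z =>
    match z with
    | Sum.inl x => ⟨{x.1}, by simp [x.2]⟩
    | Sum.inr t => ⟨t.1.map Subtype.val, by rw [Multiset.map_map]; exact t.2⟩
  refine ⟨(Equiv.ofBijective g ⟨?_, ?_⟩).symm⟩
  · rintro (x | t) (y | u) h
    · exact congrArg Sum.inl (Subtype.ext (Multiset.singleton_inj.1 (congrArg Subtype.val h)))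
    · exfalso
      have h' : ({x.1} : Multiset P) = u.1.map Subtype.val := congrArg Subtype.val h
      obtain ⟨z, -, hz⟩ := Multiset.mem_map.1 (h' ▸ Multiset.mem_singleton_self x.1)
      have := z.2
      rw [hz, x.2] at this
      exact lt_irrefl _ this
    · exfalso
      have h' : t.1.map Subtype.val = ({y.1} : Multiset P) := congrArg Subtype.val h
      obtain ⟨z, -, hz⟩ := Multiset.mem_map.1 (h'.symm ▸ Multiset.mem_singleton_self y.1)
      have := z.2
      rw [hz, y.2] at this
      exact lt_irrefl _ this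
    · exact congrArg Sum.inr (Subtype.ext
        (Multiset.map_injective Subtype.val_injective (congrArg Subtype.val h)))
  · intro s
    by_cases hs : ∃ x ∈ s.1, d x = n
    · obtain ⟨x, hx, hxn⟩ := hs
      exact ⟨Sum.inl ⟨x, hxn⟩, Subtype.ext (hbig s x hx hxn).symm⟩
    · push Not at hs
      let t : Multiset {x // d x < n} :=
        s.1.attach.map fun z => ⟨z.1, lt_of_le_of_ne (hle s z.1 z.2) (hs z.1 z.2)⟩
      have ht : t.map Subtype.val = s.1 := by
        rw [Multiset.map_map]
        exact s.1.attach_map_val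
      refine ⟨Sum.inr ⟨t, ?_⟩, Subtype.ext ht⟩
      have := s.2
      rw [← ht, Multiset.map_map] at this
      exact this

theorem degMs_congr {P Q : Type*} (d : P → ℕ) (d' : Q → ℕ) (e : P ≃ Q) (he : ∀ x, d' (e x) = d x)
    (n : ℕ) : Nonempty (DegMs d n ≃ DegMs d' n) := by
  refine ⟨⟨fun s => ⟨s.1.map e, ?_⟩, fun s => ⟨s.1.map e.symm, ?_⟩, fun s => ?_, fun s => ?_⟩⟩
  · rw [Multiset.map_map]
    exact (congrArg Multiset.sum (Multiset.map_congr rfl fun x _ => he x)).trans s.2
  · rw [Multiset.map_map]
    exact (congrArg Multiset.sum (Multiset.map_congr rfl fun x _ => by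
      simpa using (he (e.symm x)).symm)).trans s.2
  · exact Subtype.ext (by simp [Multiset.map_map])
  · exact Subtype.ext (by simp [Multiset.map_map])

/-- Equal numbers of multisets of every total degree give equal numbers of elements of every degree. -/
theorem card_fibre_eq {P Q : Type*} (d : P → ℕ) (d' : Q → ℕ) (hd : ∀ x, 0 < d x) (hd' : ∀ x, 0 < d' x)
    (h : ∀ n, 0 < n → Nat.card (DegMs d n) = Nat.card (DegMs d' n))
    (hfin : ∀ n, 0 < n → Nat.card (DegMs d n) ≠ 0) (n : ℕ) (hn : 0 < n) :
    Nat.card {x // d x = n} = Nat.card {x // d' x = n} := by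
  induction n using Nat.strong_induction_on with
  | _ n ih =>
  obtain ⟨e1⟩ := degMs_split d hd n hn
  obtain ⟨e2⟩ := degMs_split d' hd' n hn
  have hf : ∀ m, 0 < m → Finite (DegMs d m) ∧ Finite (DegMs d' m) := fun m hm =>
    ⟨Nat.finite_of_card_ne_zero (hfin m hm), Nat.finite_of_card_ne_zero (h m hm ▸ hfin m hm)⟩
  haveI := (hf n hn).1
  haveI := (hf n hn).2
  haveI : Finite ({x // d x = n} ⊕ DegMs (fun x : {x // d x < n} => d x.1) n) := Finite.of_equiv _ e1
  haveI : Finite ({x // d' x = n} ⊕ DegMs (fun x : {x // d' x < n} => d' x.1) n) := Finite.of_equiv _ e2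
  haveI : Finite {x // d x = n} := Finite.sum_left (DegMs (fun x : {x // d x < n} => d x.1) n)
  haveI : Finite (DegMs (fun x : {x // d x < n} => d x.1) n) := Finite.sum_right {x // d x = n}
  haveI : Finite {x // d' x = n} := Finite.sum_left (DegMs (fun x : {x // d' x < n} => d' x.1) n)
  haveI : Finite (DegMs (fun x : {x // d' x < n} => d' x.1) n) := Finite.sum_right {x // d' x = n}
  have hfib : ∀ m, m < n → Nonempty ({x // d x = m} ≃ {x // d' x = m}) := by
    intro m hm
    rcases Nat.eq_zero_or_pos m with rfl | hm0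
    · haveI : IsEmpty {x // d x = 0} := ⟨fun x => (hd x.1).ne' x.2⟩
      haveI : IsEmpty {x // d' x = 0} := ⟨fun x => (hd' x.1).ne' x.2⟩
      exact ⟨Equiv.equivOfIsEmpty _ _⟩
    · obtain ⟨a1⟩ := degMs_split d hd m hm0
      obtain ⟨a2⟩ := degMs_split d' hd' m hm0
      haveI := (hf m hm0).1
      haveI := (hf m hm0).2
      haveI : Finite ({x // d x = m} ⊕ DegMs (fun x : {x // d x < m} => d x.1) m) := Finite.of_equiv _ a1
      haveI : Finite ({x // d' x = m} ⊕ DegMs (fun x : {x // d' x < m} => d' x.1) m) := Finite.of_equiv _ a2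
      haveI : Finite {x // d x = m} := Finite.sum_left (DegMs (fun x : {x // d x < m} => d x.1) m)
      haveI : Finite {x // d' x = m} := Finite.sum_left (DegMs (fun x : {x // d' x < m} => d' x.1) m)
      exact ⟨(Finite.equivFin _).trans ((finCongr (ih m hm hm0)).trans (Finite.equivFin _).symm)⟩
  let ef : ∀ m, m < n → ({x // d x = m} ≃ {x // d' x = m}) := fun m hm => (hfib m hm).some
  let E : {x // d x < n} ≃ {x // d' x < n} :=
    { toFun := fun x => ⟨(ef _ x.2 ⟨x.1, rfl⟩).1, by rw [(ef _ x.2 ⟨x.1, rfl⟩).2]; exact x.2⟩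
      invFun := fun y => ⟨((ef _ y.2).symm ⟨y.1, rfl⟩).1, by rw [((ef _ y.2).symm ⟨y.1, rfl⟩).2]; exact y.2⟩
      left_inv := fun x => by
        have key : ∀ (m m' : ℕ) (hm : m < n) (hm' : m' < n) (a : {x // d x = m}) (y : {x // d' x = m'}),
            y.1 = (ef m hm a).1 → ((ef m' hm').symm y).1 = a.1 := by
          intro m m' hm hm' a y hy
          obtain rfl : m' = m := by rw [← y.2, hy]; exact (ef m hm a).2
          rw [show y = ef m' hm' a from Subtype.ext hy, Equiv.symm_apply_apply]
        exact Subtype.ext (key _ _ x.2 (by rw [(ef _ x.2 ⟨x.1, rfl⟩).2]; exact x.2) ⟨x.1, rfl⟩ ⟨_, rfl⟩ rfl)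
      right_inv := fun y => by
        have key : ∀ (m m' : ℕ) (hm : m < n) (hm' : m' < n) (b : {x // d' x = m}) (x : {x // d x = m'}),
            x.1 = ((ef m hm).symm b).1 → (ef m' hm' x).1 = b.1 := by
          intro m m' hm hm' b x hx
          obtain rfl : m' = m := by rw [← x.2, hx]; exact ((ef m hm).symm b).2
          rw [show x = (ef m' hm').symm b from Subtype.ext hx, Equiv.apply_symm_apply]
        exact Subtype.ext (key _ _ y.2 (by rw [((ef _ y.2).symm ⟨y.1, rfl⟩).2]; exact y.2) ⟨y.1, rfl⟩ ⟨_, rfl⟩ rfl) }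
  obtain ⟨e3⟩ := degMs_congr (fun x : {x // d x < n} => d x.1) (fun x : {x // d' x < n} => d' x.1) E
    (fun x => (ef _ x.2 ⟨x.1, rfl⟩).2) n
  have h1 := h n hn
  rw [Nat.card_congr e1, Nat.card_congr e2, Nat.card_sum, Nat.card_sum, Nat.card_congr e3] at h1
  omega

end Multisets

section Polys

variable (F : Type*) [Field F]

/-- Monic irreducible polynomials other than `X`. -/
abbrev PolyPart : Type _ := {f : F[X] // f.Monic ∧ Irreducible f ∧ f ≠ X}

theorem card_degMs_poly [Fintype F] (n : ℕ) (hn : 0 < n) :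
    Nat.card (DegMs (fun f : PolyPart F => f.1.natDegree) n) =
      (Fintype.card F - 1) * Fintype.card F ^ (n - 1) := by
  classical
  obtain ⟨k, rfl⟩ : ∃ k, n = k + 1 := ⟨n - 1, by omega⟩
  let T := {q : {p : F[X] // p.Monic ∧ p.natDegree = k + 1} // q.1.coeff 0 ≠ 0}
  have hprod : ∀ s : Multiset (PolyPart F), ((s.map Subtype.val).prod).Monic :=
    fun s => monic_multiset_prod_of_monic _ _ fun f _ => f.2.1
  have hcoeff : ∀ s : Multiset (PolyPart F), ((s.map Subtype.val).prod).coeff 0 ≠ 0 := by
    intro s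
    induction s using Multiset.induction with
    | empty => simp
    | cons f s ih =>
      rw [Multiset.map_cons, Multiset.prod_cons, mul_coeff_zero]
      refine mul_ne_zero (fun h0 => f.2.2.2 ?_) ih
      exact (eq_of_monic_of_associated monic_X f.2.1
        ((irreducible_X.associated_of_dvd f.2.2.1) (X_dvd_iff.2 h0))).symm
  let toT : DegMs (fun f : PolyPart F => f.1.natDegree) (k + 1) → T := fun s =>
    ⟨⟨(s.1.map Subtype.val).prod, hprod _, by
      rw [natDegree_multiset_prod_of_monic _ fun f hf => by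
        obtain ⟨g, -, rfl⟩ := Multiset.mem_map.1 hf
        exact g.2.1]
      rw [Multiset.map_map]
      exact s.2⟩, hcoeff _⟩
  have hinj : Function.Injective toT := by
    intro s t h
    have h' : (s.1.map Subtype.val).prod = (t.1.map Subtype.val).prod :=
      congrArg (fun z : T => z.1.1) h
    have key : ∀ u : Multiset (PolyPart F),
        UniqueFactorizationMonoid.normalizedFactors (u.map Subtype.val).prod = u.map Subtype.val := by
      intro u
      rw [UniqueFactorizationMonoid.normalizedFactors_prod_eq _ fun a ha => by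
        obtain ⟨g, -, rfl⟩ := Multiset.mem_map.1 ha
        exact g.2.2.1]
      rw [Multiset.map_map]
      exact Multiset.map_congr rfl fun g _ => g.2.1.normalize_eq_self
    exact Subtype.ext (Multiset.map_injective Subtype.val_injective (by rw [← key, h', key]))
  have hsurj : Function.Surjective toT := by
    intro q
    have hf : ∀ g ∈ UniqueFactorizationMonoid.normalizedFactors q.1.1, g.Monic ∧ Irreducible g ∧ g ≠ X := by
      intro g hg
      have hir := UniqueFactorizationMonoid.irreducible_of_normalized_factor g hg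
      refine ⟨?_, hir, fun e => q.2 ?_⟩
      · have h2 := monic_normalize hir.ne_zero
        rwa [UniqueFactorizationMonoid.normalize_normalized_factor g hg] at h2
      · subst e
        exact X_dvd_iff.1 (UniqueFactorizationMonoid.dvd_of_mem_normalizedFactors hg)
    let s : Multiset (PolyPart F) :=
      (UniqueFactorizationMonoid.normalizedFactors q.1.1).attach.map fun g => ⟨g.1, hf g.1 g.2⟩
    have hs : (s.map Subtype.val).prod = q.1.1 := by
      rw [Multiset.map_map]
      refine (congrArg Multiset.prod (Multiset.attach_map_val _)).trans ?_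
      rw [UniqueFactorizationMonoid.prod_normalizedFactors_eq q.1.2.1.ne_zero]
      exact q.1.2.1.normalize_eq_self
    refine ⟨⟨s, ?_⟩, Subtype.ext (Subtype.ext hs)⟩
    have := q.1.2.2
    rw [← hs, natDegree_multiset_prod_of_monic _ fun f hf => by
      obtain ⟨g, -, rfl⟩ := Multiset.mem_map.1 hf
      exact g.2.1, Multiset.map_map] at this
    exact this
  rw [Nat.card_congr (Equiv.ofBijective toT ⟨hinj, hsurj⟩)]
  let e : {p : F[X] // p.Monic ∧ p.natDegree = k + 1} ≃ (Fin (k + 1) → F) :=
    (monicEquivDegreeLT (k + 1)).trans (degreeLTEquiv F (k + 1)).toEquiv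
  have he : ∀ q, e q 0 = q.1.coeff 0 := by
    intro q
    change q.1.eraseLead.coeff 0 = _
    rw [eraseLead_coeff, if_neg (by rw [q.2.2]; omega)]
  rw [Nat.card_congr (Equiv.subtypeEquiv e (q := fun v => v 0 ≠ 0) fun q => by rw [he])]
  have e2 : {v : Fin (k + 1) → F // v 0 ≠ 0} ≃ {a : F // a ≠ 0} × (Fin k → F) :=
    { toFun := fun v => (⟨v.1 0, v.2⟩, fun i => v.1 i.succ)
      invFun := fun p => ⟨Fin.cons p.1.1 p.2, by simpa using p.1.2⟩
      left_inv := fun v => Subtype.ext (Fin.cons_self_tail v.1)
      right_inv := fun p => by simp }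
  rw [Nat.card_congr e2, Nat.card_prod, Nat.card_fun, Nat.card_fin, Nat.card_eq_fintype_card,
    Nat.card_eq_fintype_card, Fintype.card_subtype_compl, Fintype.card_subtype_eq]
  simp

theorem totient_le_card_poly [Fintype F] (n : ℕ) (hn : 2 ≤ n)
    (hfin : Finite {f : PolyPart F // f.1.natDegree = n}) :
    Nat.totient (Fintype.card F ^ n - 1) ≤ n * Nat.card {f : PolyPart F // f.1.natDegree = n} := by
  classical
  obtain ⟨p, hp⟩ := CharP.exists F
  haveI := Fact.mk (CharP.char_is_prime F p)
  haveI : NeZero n := ⟨by omega⟩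
  let K := FiniteField.Extension F p n
  haveI : Fintype K := Fintype.ofFinite K
  haveI : Fintype {f : PolyPart F // f.1.natDegree = n} := Fintype.ofFinite _
  have hK : Fintype.card K = Fintype.card F ^ n := by
    rw [← Nat.card_eq_fintype_card, FiniteField.natCard_extension, Nat.card_eq_fintype_card]
  have hU : Fintype.card Kˣ = Fintype.card F ^ n - 1 := by rw [Fintype.card_units, hK]
  let g := Finset.univ.filter fun x : Kˣ => orderOf x = Fintype.card Kˣ
  have hg : g.card = Nat.totient (Fintype.card F ^ n - 1) := by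
    rw [← hU]
    exact IsCyclic.card_orderOf_eq_totient dvd_rfl
  have hdeg : ∀ x ∈ g, (minpoly F (x : K)).natDegree = n ∧ minpoly F (x : K) ≠ X := by
    intro x hx
    have hint : IsIntegral F (x : K) := IsIntegral.of_finite F _
    have htop : IntermediateField.adjoin F {(x : K)} = ⊤ := by
      rw [eq_top_iff]
      intro y _
      rcases eq_or_ne y 0 with rfl | hy
      · exact zero_mem _
      · have hgen : Subgroup.zpowers x = ⊤ := Subgroup.eq_top_of_card_eq _ (by
          rw [Nat.card_zpowers, (Finset.mem_filter.1 hx).2, Nat.card_eq_fintype_card])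
        obtain ⟨z, hz⟩ := Subgroup.mem_zpowers_iff.1 (hgen ▸ Subgroup.mem_top (Units.mk0 y hy))
        have : y = (x : K) ^ z := by
          rw [← Units.val_zpow_eq_zpow_val, hz]
          rfl
        rw [this]
        exact zpow_mem (IntermediateField.mem_adjoin_simple_self F (x : K)) z
    refine ⟨?_, fun e => x.ne_zero ?_⟩
    · rw [← IntermediateField.adjoin.finrank hint, htop, IntermediateField.finrank_top',
        FiniteField.finrank_extension]
    · have := minpoly.aeval F (x : K)
      rwa [e, aeval_X] at this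
  let φ : {x // x ∈ g} → {f : PolyPart F // f.1.natDegree = n} := fun x =>
    ⟨⟨minpoly F ((x.1 : Kˣ) : K), minpoly.monic (IsIntegral.of_finite F _),
      minpoly.irreducible (IsIntegral.of_finite F _), (hdeg x.1 x.2).2⟩, (hdeg x.1 x.2).1⟩
  have hfib : ∀ f ∈ (Finset.univ : Finset {f : PolyPart F // f.1.natDegree = n}),
      ((Finset.univ : Finset {x // x ∈ g}).filter fun x => φ x = f).card ≤ n := by
    intro f _
    calc ((Finset.univ : Finset {x // x ∈ g}).filter fun x => φ x = f).card
        ≤ ((f.1.1.map (algebraMap F K)).roots.toFinset).card := by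
          refine Finset.card_le_card_of_injOn (fun x => ((x.1 : Kˣ) : K)) ?_
            (fun x _ y _ e => Subtype.ext (Units.ext e))
          intro x hx
          rw [Finset.mem_coe, Finset.mem_filter] at hx
          rw [Finset.mem_coe, Multiset.mem_toFinset, mem_roots (Polynomial.map_ne_zero f.1.2.1.ne_zero),
            IsRoot.def, eval_map, ← aeval_def, ← hx.2]
          exact minpoly.aeval F _
      _ ≤ Multiset.card (f.1.1.map (algebraMap F K)).roots := Multiset.toFinset_card_le _
      _ ≤ n := (card_roots' _).trans_eq (by rw [natDegree_map, f.2])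
  have := Finset.card_le_mul_card_image_of_maps_to (f := φ) (s := Finset.univ) (t := Finset.univ)
    (fun x _ => Finset.mem_univ _) n hfib
  rw [Finset.card_univ, Fintype.card_coe, Finset.card_univ, hg] at this
  rwa [Nat.card_eq_fintype_card]

end Polys

section Main

variable {F : Type*} [Field F] [Fintype F] [DecidableEq F]

theorem exists_theta : ∃ θ : AddChar F ℂ, ∃ c, θ c ≠ 1 := by
  obtain ⟨θ, hθ⟩ := AddChar.exists_apply_ne_zero.2 (one_ne_zero (α := F))
  exact ⟨θ, 1, hθ⟩

theorem totient_div_le_cusp (n : ℕ) (hn : 2 ≤ n) :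
    Nat.totient (Fintype.card F ^ n - 1) / n ≤
      Nat.card {χ : IrrCharacter (GL (Fin n) F) // 0 < n ∧ IsCusp (χ : GL (Fin n) F → ℂ)} := by
  classical
  obtain ⟨θ, hθ⟩ := exists_theta (F := F)
  let d : Part F → ℕ := fun P => P.1
  let d' : PolyPart F → ℕ := fun f => f.1.natDegree
  have hd : ∀ x, 0 < d x := fun P => P.2.2.1
  have hd' : ∀ x, 0 < d' x := fun f => Irreducible.natDegree_pos f.2.2.1
  have hq : 2 ≤ Fintype.card F := Fintype.one_lt_card
  have hA : ∀ m, 0 < m → Nat.card (DegMs d m) = (Fintype.card F - 1) * Fintype.card F ^ (m - 1) :=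
    fun m hm => card_partMs hθ hm
  have h0 : ∀ m, (Fintype.card F - 1) * Fintype.card F ^ (m - 1) ≠ 0 := fun m =>
    mul_ne_zero (by omega) (pow_ne_zero _ (by omega))
  have heq := card_fibre_eq d d' hd hd' (fun m hm => (hA m hm).trans (card_degMs_poly F m hm).symm)
    (fun m hm => by rw [hA m hm]; exact h0 m) n (by omega)
  have hfin : Finite {f : PolyPart F // f.1.natDegree = n} := by
    obtain ⟨e⟩ := degMs_split d' hd' n (by omega)
    haveI : Finite (DegMs d' n) := Nat.finite_of_card_ne_zero (by
      rw [card_degMs_poly F n (by omega)]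
      exact h0 n)
    haveI := Finite.of_equiv _ e
    exact Finite.sum_left (DegMs (fun x : {x // d' x < n} => d' x.1) n)
  have hle := totient_le_card_poly F n hn hfin
  have e1 : Nat.card {x : Part F // d x = n} =
      Nat.card {χ : IrrCharacter (GL (Fin n) F) // 0 < n ∧ IsCusp (χ : GL (Fin n) F → ℂ)} :=
    Nat.card_congr (Equiv.sigmaSubtype (β := fun m =>
      {χ : IrrCharacter (GL (Fin m) F) // 0 < m ∧ IsCusp (χ : GL (Fin m) F → ℂ)}) n)
  rw [← e1, heq]
  exact Nat.div_le_of_le_mul hle

theorem count_cuspidal (n : ℕ) (hn : 2 ≤ n) :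
    Nat.totient (Fintype.card F ^ n - 1) / n ≤
      Nat.card {χ : Cfsg.IrrCharacter (GL (Fin n) F) //
        (χ : GL (Fin n) F → ℂ) 1 = ∏ i ∈ Finset.Ico 1 n, ((Fintype.card F : ℂ) ^ i - 1) ∧
        ∀ A : Finset (Fin n), A.Nonempty → A ≠ univ →
          ∑ x : radical (F := F) A, (χ : GL (Fin n) F → ℂ) x = 0} := by
  obtain ⟨θ, hθ⟩ := exists_theta (F := F)
  refine (totient_div_le_cusp n hn).trans (le_of_eq (Nat.card_congr (Equiv.subtypeEquivRight fun χ => ?_)))
  exact ⟨fun h => ⟨(cusp_degree hθ h.1 χ.2 h.2).1, h.2⟩, fun h => ⟨by omega, h.2⟩⟩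

end Main

end Cfsg.Agent.GelfandGraev88
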