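import Mathlib
import Cfsg.Agent.Lib.GenExtraspecialSplit
import Cfsg.Agent.Lib.FusionKit88
import Cfsg.Agent.Lib.FusionPuig
import Cfsg.Agent.Lib.FusionSysChain
import Cfsg.Agent.Lib.BaerSuzuki

/-! Strongly closed generalized extraspecial subgroups are normal outside the split exceptions. -/

set_option autoImplicit false
set_option linter.style.haveILetI false

open Cfsg Cfsg.FusionSystem
open Cfsg.Agent.FusionSysBasic Cfsg.Agent.FusionSysSaturated
open scoped commutatorElement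

namespace Cfsg.Agent.GenExtraspecialNormal

/-! ### Automorphisms stabilizing a cyclic subgroup pointwise with quotient inside it -/

section aut

variable {C : Type*} [Group C] {p : ℕ}

/-- The automorphisms fixing `y` and acting trivially modulo `⟨y⟩`. -/
def transvections (y : C) : Subgroup (MulAut C) where
  carrier := {a | a y = y ∧ ∀ c, a c * c⁻¹ ∈ Subgroup.zpowers y}
  one_mem' := ⟨rfl, fun c => by simp⟩
  mul_mem' := fun {a b} ha hb => ⟨by rw [MulAut.mul_apply, hb.1, ha.1], fun c => by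
    rw [MulAut.mul_apply, show a (b c) * c⁻¹ = a (b c) * (b c)⁻¹ * (b c * c⁻¹) by group]
    exact mul_mem (ha.2 _) (hb.2 c)⟩
  inv_mem' := fun {a} ha => by
    refine ⟨by conv_lhs => rw [← ha.1]; exact MulAut.inv_apply_self _ _ _, fun c => ?_⟩
    have := inv_mem (ha.2 (a⁻¹ c))
    rwa [MulAut.apply_inv_self, mul_inv_rev, inv_inv] at this

theorem zpow_conj_eq {u : MulAut C} {c d : C} (h : u c = d * c) (hd : u d = d) (i : ℤ) :
    (u ^ i) c = d ^ i * c := by
  induction i with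
  | zero => simp
  | succ i ih =>
    rw [add_comm (i : ℤ) 1, zpow_add, zpow_one, MulAut.mul_apply, ih, map_mul, map_zpow, hd, h,
      ← mul_assoc, ← zpow_add_one, add_comm 1 (i : ℤ)]
  | pred i ih =>
    have hinv : u⁻¹ c = d⁻¹ * c := by
      apply u.injective
      rw [MulAut.apply_inv_self, map_mul, map_inv, hd, h, inv_mul_cancel_left]
    have hdi : u⁻¹ d = d := by
      apply u.injective
      rw [MulAut.apply_inv_self, hd]
    rw [show (-(i : ℤ) - 1) = -1 + -(i : ℤ) by ring, zpow_add, zpow_neg_one, MulAut.mul_apply, ih,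
      map_mul, map_zpow, hdi, hinv, ← mul_assoc, ← zpow_neg_one d, ← zpow_add]
    rw [add_comm (-1 : ℤ)]

theorem isPGroup_transvections {y : C} (hy : y ^ p = 1) : IsPGroup p (transvections y) := by
  rintro ⟨a, ha⟩
  refine ⟨1, Subtype.ext (MulEquiv.ext fun c => ?_)⟩
  have hd : a (a c * c⁻¹) = a c * c⁻¹ := by
    obtain ⟨i, hi⟩ := Subgroup.mem_zpowers_iff.mp (ha.2 c)
    rw [← hi, map_zpow, ha.1]
  have h := zpow_conj_eq (d := a c * c⁻¹) (inv_mul_cancel_right (a c) c).symm hd (p : ℤ)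
  rw [pow_one]
  show (a ^ p) c = c
  rw [← zpow_natCast, h]
  obtain ⟨i, hi⟩ := Subgroup.mem_zpowers_iff.mp (ha.2 c)
  rw [← hi, ← zpow_mul, mul_comm, zpow_mul, zpow_natCast, hy, one_zpow, one_mul]

/-- An element fixing `y` normalises the transvections at `y`. -/
theorem mem_normalizer_transvections {u : MulAut C} {y : C} (hu : u y = y) :
    u ∈ Subgroup.normalizer (transvections y : Set (MulAut C)) := by
  have key : ∀ w : MulAut C, w y = y → ∀ a ∈ transvections y, w * a * w⁻¹ ∈ transvections y := by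
    intro w hw a ha
    have hwi : w⁻¹ y = y := w.injective (by rw [MulAut.apply_inv_self, hw])
    refine ⟨by simp [MulAut.mul_apply, hwi, ha.1, hw], fun c => ?_⟩
    obtain ⟨i, hi⟩ := Subgroup.mem_zpowers_iff.mp (ha.2 (w⁻¹ c))
    refine Subgroup.mem_zpowers_iff.mpr ⟨i, ?_⟩
    have := congrArg w hi
    rw [map_zpow, hw, map_mul, map_inv, MulAut.apply_inv_self] at this
    simpa [MulAut.mul_apply] using this
  rw [Subgroup.mem_normalizer_iff]
  refine fun a => ⟨key u hu a, fun ha => ?_⟩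
  have := key u⁻¹ (u.injective (by rw [MulAut.apply_inv_self, hu])) _ ha
  simpa [mul_assoc] using this

/-- Two transvection-like automorphisms generating a non-`p`-group give an element inverting the
centre of the first and commuting with it. -/
theorem exists_inverting [Finite C] [hp : Fact p.Prime] (hcomm : ∀ a b : C, a * b = b * a)
    {z y : C} (hzp : z ^ p = 1) (hyp : y ^ p = 1) {u v : MulAut C}
    (hu : u ∈ transvections z) (hv : v ∈ transvections y)
    (hnp : ¬ IsPGroup p ↥(Subgroup.zpowers u ⊔ Subgroup.zpowers v)) :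
    ∃ h ∈ Subgroup.zpowers u ⊔ Subgroup.zpowers v, h z = z⁻¹ ∧ h * u = u * h := by
  have hpu : IsPGroup p (Subgroup.zpowers u) :=
    (isPGroup_transvections hzp).to_le (Subgroup.zpowers_le.mpr hu)
  have hpv : IsPGroup p (Subgroup.zpowers v) :=
    (isPGroup_transvections hyp).to_le (Subgroup.zpowers_le.mpr hv)
  have huy : u y ≠ y := fun h => hnp ((IsPGroup.to_sup_of_normal_right' (p := p) hpu (isPGroup_transvections hyp)
    (Subgroup.zpowers_le.mpr (mem_normalizer_transvections h))).to_le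
    (sup_le_sup_left (Subgroup.zpowers_le.mpr hv) _))
  have hvz : v z ≠ z := fun h => hnp ((IsPGroup.to_sup_of_normal_right' (p := p) hpv (isPGroup_transvections hzp)
    (Subgroup.zpowers_le.mpr (mem_normalizer_transvections h))).to_le
    (sup_le (le_sup_of_le_right (Subgroup.zpowers_le.mpr hu)) le_sup_left))
  have hgen : ∀ {w w' : C}, w ^ p = 1 → w' ∈ Subgroup.zpowers w → w' ≠ 1 → ∀ x ∈ Subgroup.zpowers w,
      ∃ i : ℤ, w' ^ i = x := by
    intro w w' hw hw' h1 x hx
    have hw0 : w ≠ 1 := fun h => h1 (by simpa [h] using hw')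
    have hle := Subgroup.eq_of_le_of_card_ge (Subgroup.zpowers_le.mpr hw') (by
      rw [Nat.card_zpowers, Nat.card_zpowers, orderOf_eq_prime hw hw0, orderOf_eq_prime (p := p) ?_ h1]
      obtain ⟨j, rfl⟩ := Subgroup.mem_zpowers_iff.mp hw'
      rw [← zpow_natCast, ← zpow_mul, mul_comm, zpow_mul, zpow_natCast, hw, one_zpow])
    rw [← hle] at hx
    exact Subgroup.mem_zpowers_iff.mp hx
  have hfixd : ∀ {w : C} {a : MulAut C}, a ∈ transvections w → ∀ c, a (a c * c⁻¹) = a c * c⁻¹ := by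
    intro w a ha c
    obtain ⟨i, hi⟩ := Subgroup.mem_zpowers_iff.mp (ha.2 c)
    rw [← hi, map_zpow, ha.1]
  have hy1 : u y * y⁻¹ ≠ 1 := fun h => huy (mul_inv_eq_one.mp h)
  have hz1 : v z * z⁻¹ ≠ 1 := fun h => hvz (mul_inv_eq_one.mp h)
  obtain ⟨i, hi⟩ := hgen hzp (hu.2 y) hy1 z (Subgroup.mem_zpowers z)
  obtain ⟨j, hj⟩ := hgen hyp (hv.2 z) hz1 y⁻¹ (inv_mem (Subgroup.mem_zpowers y))
  set e := u ^ i
  set f := v ^ j
  have hee : e ∈ transvections z := zpow_mem hu i
  have hff : f ∈ transvections y := zpow_mem hv j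
  have hey : e y = z * y := by
    rw [show e y = (u y * y⁻¹) ^ i * y from zpow_conj_eq (by simp) (hfixd hu y) i, hi]
  have hfz : f z = y⁻¹ * z := by
    rw [show f z = (v z * z⁻¹) ^ j * z from zpow_conj_eq (by simp) (hfixd hv z) j, hj]
  set h := (e * f * e) * (e * f * e)
  have hmem : h ∈ Subgroup.zpowers u ⊔ Subgroup.zpowers v := by
    have h1 : e ∈ Subgroup.zpowers u ⊔ Subgroup.zpowers v :=
      Subgroup.mem_sup_left (zpow_mem (Subgroup.mem_zpowers u) i)
    have h2 : f ∈ Subgroup.zpowers u ⊔ Subgroup.zpowers v :=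
      Subgroup.mem_sup_right (zpow_mem (Subgroup.mem_zpowers v) j)
    exact mul_mem (mul_mem (mul_mem h1 h2) h1) (mul_mem (mul_mem h1 h2) h1)
  have hwz : (e * f * e) z = y⁻¹ := by
    simp only [MulAut.mul_apply, hee.1, hfz, map_mul, map_inv, hey]
    rw [mul_inv_rev, inv_mul_cancel_right]
  have hwy : (e * f * e) y = z := by
    simp only [MulAut.mul_apply, hey, map_mul, map_inv, hfz, hff.1, hee.1]
    rw [mul_assoc, hcomm z (z * y), inv_mul_cancel_left]
  have hhz : h z = z⁻¹ := by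
    show (e * f * e) ((e * f * e) z) = _
    rw [hwz, map_inv, hwy]
  have hhy : h y = y⁻¹ := by
    show (e * f * e) ((e * f * e) y) = _
    rw [hwy, hwz]
  refine ⟨h, hmem, hhz, MulEquiv.ext fun c => ?_⟩
  -- `c` is a product of powers of `y`, `z` and a common fixed point
  obtain ⟨m, hm⟩ := hgen hzp (hu.2 y) hy1 _ (hu.2 c)
  set c1 := c * (y ^ m)⁻¹ with hc1
  have hu1 : u c1 = c1 := by
    have e1 : u y = (u y * y⁻¹) * y := by group
    have e2 : u c = (u c * c⁻¹) * c := by group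
    rw [hc1, map_mul, map_inv, map_zpow, e1, e2,
      (show Commute (u y * y⁻¹) y from hcomm _ _).mul_zpow, ← hm, mul_inv_rev,
      hcomm (y ^ m)⁻¹, hcomm _ c, mul_assoc c, ← mul_assoc ((u y * y⁻¹) ^ m), mul_inv_cancel, one_mul]
  obtain ⟨n, hn⟩ := hgen hyp (hv.2 z) hz1 _ (hv.2 c1)
  set c0 := c1 * (z ^ n)⁻¹ with hc0
  have hv0 : v c0 = c0 := by
    have e1 : v z = (v z * z⁻¹) * z := by group
    have e2 : v c1 = (v c1 * c1⁻¹) * c1 := by group
    rw [hc0, map_mul, map_inv, map_zpow, e1, e2,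
      (show Commute (v z * z⁻¹) z from hcomm _ _).mul_zpow, ← hn, mul_inv_rev,
      hcomm (z ^ n)⁻¹, hcomm _ c1, mul_assoc c1, ← mul_assoc ((v z * z⁻¹) ^ n), mul_inv_cancel, one_mul]
  have hu0 : u c0 = c0 := by rw [hc0, map_mul, map_inv, map_zpow, hu1, hu.1]
  have he0 : e c0 = c0 := by
    rw [show e c0 = (1 : C) ^ i * c0 from zpow_conj_eq (by simp [hu0]) (map_one u) i, one_zpow, one_mul]
  have hf0 : f c0 = c0 := by
    rw [show f c0 = (1 : C) ^ j * c0 from zpow_conj_eq (by simp [hv0]) (map_one v) j, one_zpow, one_mul]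
  have hh0 : h c0 = c0 := by simp [h, MulAut.mul_apply, he0, hf0]
  have hcdec : c = c0 * z ^ n * y ^ m := by rw [hc0, hc1]; group
  have huy' : h (u y) = u (h y) := by
    obtain ⟨k, hk⟩ := Subgroup.mem_zpowers_iff.mp (hu.2 y)
    have e1 : u y = z ^ k * y := by rw [hk]; group
    rw [hhy, map_inv, e1, map_mul, map_zpow, hhz, hhy, mul_inv_rev, inv_zpow, hcomm]
  show h (u c) = u (h c)
  rw [hcdec]
  simp only [map_mul, map_zpow, hu0, hu.1, hh0, hhz, huy', map_inv]

end aut

variable {Ω : Type*} [Group Ω] {S : Subgroup Ω} [Finite S] {F : FusionSystem S} {p : ℕ}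
  [hp : Fact p.Prime]

theorem afun_mul_mem {C : Subgroup Ω} (α : MulAut C) {a b : Ω} (ha : a ∈ C) (hb : b ∈ C) :
    afun α (a * b) = afun α a * afun α b := by
  rw [afun_apply _ ha, afun_apply _ hb, afun_apply _ (mul_mem ha hb), ← Subgroup.coe_mul, ← map_mul]
  rfl

/-- The derived subgroup is strongly closed. -/
theorem stronglyClosed_commutator (hS : IsPGroup p S) (hF : F.IsSaturated p) {P : Subgroup Ω}
    (hP : F.StronglyClosed P) (hge : frattini P = commutator P ∧ Nat.card (commutator P) = p)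
    (h2 : p = 2 → ¬ ∃ (A : Type) (_ : CommGroup A), (∀ a : A, a ^ 2 = 1) ∧ Nonempty (P ≃* DihedralGroup 4 × A))
    (hodd : p ≠ 2 → ¬ ∃ (E : Type) (_ : Group E) (A : Type) (_ : CommGroup A), Cfsg.IsExtraspecial p E ∧
      Nat.card E = p ^ 3 ∧ Monoid.exponent E = p ∧ (∀ a : A, a ^ p = 1) ∧ Nonempty (P ≃* E × A)) :
    F.StronglyClosed ((commutator P).map P.subtype) := by
  have hPS := hP.1
  haveI := finite_of_le hPS
  have hPp : IsPGroup p P := hS.to_le hPS
  set Z := (commutator P).map P.subtype with hZ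
  have hZP : Z ≤ P := Subgroup.map_subtype_le _
  have hZS : Z ≤ S := hZP.trans hPS
  have hZcard : Nat.card Z = p := by
    rw [hZ, Subgroup.card_map_of_injective P.subtype_injective, hge.2]
  -- the derived subgroup is central in `S`
  have hPn : S ≤ Subgroup.normalizer (P : Set Ω) := FusionSysNormal.le_normalizer_of_stronglyClosed hP
  have hZn : S ≤ Subgroup.normalizer (Z : Set Ω) := by
    refine hPn.trans ?_
    rw [hZ, Subgroup.map_subtype_commutator]
    intro c hc
    have hmap : (P.map (MulAut.conj c).toMonoidHom) = P := by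
      refine SetLike.ext fun w => ⟨?_, fun hw => ?_⟩
      · rintro ⟨b, hb, rfl⟩
        exact (Subgroup.mem_normalizer_iff.mp hc b).mp hb
      · exact ⟨c⁻¹ * w * c, (Subgroup.mem_normalizer_iff.mp hc _).mpr (by simpa [mul_assoc] using hw),
          by simp [mul_assoc]⟩
    refine Subgroup.mem_normalizer_iff.mpr fun w => ?_
    have e : (⁅P, P⁆ : Subgroup Ω).map (MulAut.conj c).toMonoidHom = ⁅P, P⁆ := by
      rw [Subgroup.map_commutator, hmap]
    conv_rhs => rw [← e]
    exact (Subgroup.mem_map_iff_mem (MulAut.conj c).injective).symm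
  haveI : (Z.subgroupOf S).Normal := Subgroup.normal_subgroupOf_of_le_normalizer hZn
  have hZcen : ∀ s ∈ S, ∀ z ∈ Z, s * z = z * s := fun s hs z hz =>
    congrArg Subtype.val (Subgroup.mem_center_iff.mp (PGroupsBasic.le_center_of_card_eq_prime hS
      ((Nat.card_congr (Subgroup.subgroupOfEquivOfLe hZS).toEquiv).trans hZcard)
      (show (⟨z, hZS hz⟩ : S) ∈ Z.subgroupOf S from hz)) ⟨s, hs⟩)
  have hgenZ : ∀ w ∈ Z, w ≠ 1 → Subgroup.zpowers w = Z := fun w hw h1 => by
    haveI : Finite Z := finite_of_le hZS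
    refine Subgroup.eq_of_le_of_card_ge (Subgroup.zpowers_le.mpr hw) ?_
    rw [Nat.card_zpowers, hZcard, orderOf_eq_prime (PGroupsBasic.pow_eq_one_of_card hZcard hw) h1]
  refine FusionSysNormal.stronglyClosed_iff.mpr ⟨hZS, fun R f hR hf x hx => ?_⟩
  by_contra hfx
  have hx1 : x ≠ 1 := fun h => hfx (by rw [h, hf.map_one]; exact one_mem Z)
  set z := x with hzdef
  have hz : z ∈ Z := hR hx
  have hzg := hgenZ z hz hx1
  have hfZ : Mor F Z f := hf.restrict_to (hzg ▸ Subgroup.zpowers_le.mpr hx)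
  set X := im Z f with hX
  set a := f z with ha
  have haX : a ∈ X := apply_mem_im hz
  have haP : a ∈ P := FusionKit88.closed_apply hP hfZ hZP hz
  have hap : a ^ p = 1 := by
    haveI := finite_of_le hfZ.im_le
    exact PGroupsBasic.pow_eq_one_of_card (hfZ.card_im.trans hZcard) haX
  obtain ⟨f', hf', hff', -, him⟩ := hfZ.exists_inv
  have hZfn : F.IsFullyNormalized Z := by
    haveI := finite_normalizerIn (S := S) Z
    refine ⟨hZS, fun Q _ => ?_⟩
    haveI := finite_normalizerIn (S := S) Q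
    refine Subgroup.card_le_of_le ?_
    exact le_inf inf_le_left (inf_le_left.trans hZn)
  obtain ⟨G₀, hG₀, hG₀f, -⟩ := exists_extension_centralizer (receptive_of_fullyNormalized hS hF hZfn)
    hf' (le_antisymm (im_le_iff.mpr him) fun w hw => by
      rw [← hff' w hw]; exact apply_mem_im (apply_mem_im hw))
  set C := P ⊓ Subgroup.centralizer ({a} : Set Ω) with hC
  have hCS : C ≤ centralizerIn S X := by
    refine fun c hc => ⟨hPS hc.1, ?_⟩
    intro w hw
    obtain ⟨w', hw', rfl⟩ := hfZ.mem_im.mp hw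
    rw [← hzg] at hw'
    obtain ⟨i, rfl⟩ := Subgroup.mem_zpowers_iff.mp hw'
    have hpow : f (z ^ i) ∈ Subgroup.zpowers a := by
      obtain ⟨φ, hφ, he⟩ := hfZ
      refine Subgroup.mem_zpowers_iff.mpr ⟨i, ?_⟩
      rw [ha, ← he ⟨z, hz⟩, ← map_zpow, he]
      rfl
    obtain ⟨k, hk⟩ := Subgroup.mem_zpowers_iff.mp hpow
    rw [← hk]
    exact ((show Commute c a from Subgroup.mem_centralizer_singleton_iff.mp hc.2).zpow_right k).symm.eq
  have hG : Mor F C G₀ := hG₀.restrict_to (le_trans hCS le_sup_right)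
  have haC : a ∈ C := ⟨haP, Subgroup.mem_centralizer_singleton_iff.mpr rfl⟩
  have hGa : G₀ a = z := (hG₀f a haX).trans (hff' z hz)
  have hGP : ∀ c ∈ C, G₀ c ∈ P := fun c hc => FusionKit88.closed_apply hP hG inf_le_left hc
  -- no nontrivial element of `Z` keeps lying in `Z`
  have hkey : ∀ w ∈ C, w ∈ Z → G₀ w ∈ Z → w = 1 := by
    intro w hwC hwZ hGw
    by_contra hw1
    have hGw1 : G₀ w ≠ 1 := fun h => hw1 (hG.eq_one_of_apply hwC h)
    rw [← hgenZ _ hGw hGw1] at hz
    obtain ⟨i, hi⟩ := Subgroup.mem_zpowers_iff.mp hz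
    have hGi : G₀ (w ^ i) = G₀ a := by
      rw [hGa, ← hi]
      obtain ⟨φ, hφ, he⟩ := hG
      rw [← he ⟨w, hwC⟩, ← map_zpow, he]
      rfl
    exact hfx (show a ∈ Z by rw [← hG.injOn (zpow_mem hwC i) haC hGi]; exact zpow_mem hwZ i)
  have hZcomm : ∀ b c, b ∈ P → c ∈ P → ⁅b, c⁆ ∈ Z := fun b c hb hc =>
    ⟨⁅(⟨b, hb⟩ : P), ⟨c, hc⟩⁆, Subgroup.commutator_mem_commutator (Subgroup.mem_top _) (Subgroup.mem_top _), rfl⟩
  have hZpow : ∀ b, b ∈ P → b ^ p ∈ Z := fun b hb => by
    refine ⟨(⟨b, hb⟩ : P) ^ p, ?_, rfl⟩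
    rw [← hge.1, PGroupsBasic.frattini_eq_sup hPp]
    exact Subgroup.mem_sup_right (Subgroup.subset_closure ⟨⟨b, hb⟩, rfl⟩)
  have hCc : ∀ b ∈ C, ∀ c ∈ C, b * c = c * b := by
    intro b hb c hc
    rw [← commutatorElement_eq_one_iff_mul_comm]
    refine hkey _ ?_ (hZcomm b c hb.1 hc.1) ?_
    · rw [commutatorElement_def]; exact mul_mem (mul_mem (mul_mem hb hc) (inv_mem hb)) (inv_mem hc)
    · rw [commutatorElement_def, hG.map_mul (mul_mem (mul_mem hb hc) (inv_mem hb)) (inv_mem hc),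
        hG.map_mul (mul_mem hb hc) (inv_mem hb), hG.map_mul hb hc, hG.map_inv hb, hG.map_inv hc,
        ← commutatorElement_def]
      exact hZcomm _ _ (hGP b hb) (hGP c hc)
  have hGpow : ∀ (m : ℕ) b, b ∈ C → G₀ (b ^ m) = G₀ b ^ m := by
    intro m b hb
    induction m with
    | zero => rw [pow_zero, pow_zero, hG.map_one]
    | succ m ih => rw [pow_succ, pow_succ, hG.map_mul (pow_mem hb m) hb, ih]
  have hCe : ∀ b ∈ C, b ^ p = 1 := fun b hb => hkey _ (pow_mem hb p) (hZpow b hb.1) (by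
    rw [hGpow p b hb]; exact hZpow _ (hGP b hb))
  -- the structure of `P`
  set a' : P := ⟨a, haP⟩
  have ha' : a' ∉ commutator P := fun h => hfx ⟨a', h, rfl⟩
  have hap' : a' ^ p = 1 := Subtype.ext hap
  have hmemC : ∀ b : P, b ∈ Subgroup.centralizer ({a'} : Set P) → (b : Ω) ∈ C := fun b hb =>
    ⟨b.2, Subgroup.mem_centralizer_singleton_iff.mpr
      (congrArg Subtype.val (Subgroup.mem_centralizer_singleton_iff.mp hb))⟩
  have hCc' : ∀ b ∈ Subgroup.centralizer ({a'} : Set P), ∀ c ∈ Subgroup.centralizer ({a'} : Set P),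
      b * c = c * b := fun b hb c hc => Subtype.ext (hCc _ (hmemC b hb) _ (hmemC c hc))
  have hCe' : ∀ b ∈ Subgroup.centralizer ({a'} : Set P), b ^ p = 1 := fun b hb =>
    Subtype.ext (hCe _ (hmemC b hb))
  by_cases hp2 : p = 2
  · subst hp2
    exact h2 rfl (GenExtraspecialSplit.two_split hPp hge ha' hap' hCc' hCe')
  have hout : ∀ b ∈ P, b ^ p = 1 → b ∈ C := by
    intro b hb hbp
    by_contra hbC
    refine hodd hp2 (GenExtraspecialSplit.odd_split hp2 hPp hge ha' hap' hCc' hCe'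
      ⟨⟨b, hb⟩, fun h => hbC (hmemC _ h), Subtype.ext hbp⟩)
  obtain ⟨g', z', hg'C, -, -, -, hdec⟩ := GenExtraspecialSplit.exists_data hPp hge ha' hap' hCc' hCe'
  set g : Ω := (g' : Ω)
  have hgP : g ∈ P := g'.2
  have hgC : g ∉ C := fun h => hg'C (Subgroup.mem_centralizer_singleton_iff.mpr
    (Subtype.ext (Subgroup.mem_centralizer_singleton_iff.mp h.2)))
  have hgp1 : g ^ p ≠ 1 := fun h => hgC (hout g hgP h)
  have hSC : ∀ s ∈ S, ∀ c ∈ C, cj s c ∈ C := fun s hs c hc => by
    refine hout _ (cj_mem_of_normalizer (hPn hs) hc.1) ?_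
    rw [cj_apply, conj_pow, hCe c hc, mul_one, mul_inv_cancel]
  have hCS' : C ≤ S := inf_le_left.trans hPS
  have hCn : S ≤ Subgroup.normalizer (C : Set Ω) := fun s hs =>
    mem_normalizer_of_cj_le hCS' (hSC s hs)
  have hCfn : F.IsFullyNormalized C := by
    haveI := finite_normalizerIn (S := S) C
    exact ⟨hCS', fun Q _ => Subgroup.card_le_of_le (le_inf inf_le_left (inf_le_left.trans hCn))⟩
  have hzC : z ∈ C := hout z (hZP hz) (PGroupsBasic.pow_eq_one_of_card hZcard hz)
  haveI := finite_of_le hCS'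
  obtain ⟨α, hα, hαe⟩ := hG.exists_aut (hG.im_self fun c hc => hout _ (hGP c hc) (by
    rw [← hGpow p c hc, hCe c hc, hG.map_one]))
  haveI : Finite (F.autGroup C) := finite_autGroup C
  let gS : ↥(S ⊓ Subgroup.normalizer (C : Set Ω)) := ⟨g, hPS hgP, hCn (hPS hgP)⟩
  let u : F.autGroup C := ⟨nHom S C gS, autInducedBy_le hCS' ((autInducedBy_eq_range S C).ge ⟨_, rfl⟩)⟩
  set zC : C := ⟨z, hzC⟩ with hzC'
  set aC : C := ⟨a, haC⟩
  have hαa : α aC = zC := Subtype.ext (by rw [← afun_coe α aC, hαe a haC, hGa])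
  have hgz : Subgroup.zpowers z = Z := hzg
  have hutr : (u : MulAut C) ∈ transvections zC := by
    refine ⟨Subtype.ext ?_, fun c => ?_⟩
    · rw [← afun_coe (nHom S C gS) zC, afun_nHom gS hzC, cj_apply]
      exact mul_inv_eq_iff_eq_mul.mpr (hZcen g (hPS hgP) z hz)
    · obtain ⟨i, hi⟩ := Subgroup.mem_zpowers_iff.mp (show cj g (c : Ω) * (c : Ω)⁻¹ ∈ Subgroup.zpowers z by
        rw [hgz, cj_apply, ← commutatorElement_def]
        exact hZcomm g c hgP c.2.1)
      refine Subgroup.mem_zpowers_iff.mpr ⟨i, Subtype.ext ?_⟩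
      rw [SubgroupClass.coe_zpow, hi, Subgroup.coe_mul, Subgroup.coe_inv,
        show ((u : MulAut C) c : Ω) = cj g c from (afun_coe _ c).symm.trans (afun_nHom gS c.2)]
  have hzCp : zC ^ p = 1 := Subtype.ext (hCe z hzC)
  -- a conjugate of `u` generating no `p`-group with it
  obtain ⟨β, hβ⟩ : ∃ β : F.autGroup C, ¬ IsPGroup p
      ↥(Subgroup.zpowers u ⊔ (Subgroup.zpowers u).map (MulAut.conj β).toMonoidHom) := by
    by_contra hall
    push Not at hall
    have hup : IsPGroup p (Subgroup.zpowers u) := by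
      refine IsPGroup.of_equiv ((isPGroup_transvections hzCp).to_le (Subgroup.zpowers_le.mpr hutr))
        (MulEquiv.trans ?_ (Subgroup.equivMapOfInjective (Subgroup.zpowers u) _
          (F.autGroup C).subtype_injective).symm)
      exact MulEquiv.subgroupCongr (by rw [MonoidHom.map_zpowers]; rfl)
    obtain ⟨N, hN, hNp, hNu⟩ := BaerSuzuki.exists_normal_pGroup_of_pairs _ hup hall
    obtain ⟨-, T, hT⟩ := fullyAutomized_of_fullyNormalized hS hF hCfn
    obtain ⟨Q, hQ⟩ := hNp.exists_le_sylow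
    obtain ⟨γ, hγ⟩ := MulAction.exists_smul_eq (F.autGroup C) Q T
    have hmem : (⟨α, hα⟩ : F.autGroup C) * u * ⟨α, hα⟩⁻¹ ∈ N := hN.conj_mem _ (hNu (Subgroup.mem_zpowers u)) _
    have hmem' : γ⁻¹ * (((⟨α, hα⟩ : F.autGroup C)⁻¹ * 1) * 1) * γ = γ⁻¹ * (⟨α, hα⟩ : F.autGroup C)⁻¹ * γ := by
      group
    -- every element of `N` lies in `T`
    have hNT : ∀ w ∈ N, w ∈ (T : Subgroup (F.autGroup C)) := by
      intro w hw
      have h1 : γ⁻¹ * w * γ ∈ (Q : Subgroup (F.autGroup C)) := hQ (by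
        have := hN.conj_mem w hw γ⁻¹
        simpa using this)
      rw [← hγ, Sylow.coe_subgroup_smul]
      refine Subgroup.mem_map.mpr ⟨γ⁻¹ * w * γ, h1, ?_⟩
      simp [MulDistribMulAction.toMonoidEnd_apply, mul_assoc]
    have h1 := hNT _ hmem
    rw [hT, Subgroup.mem_subgroupOf] at h1
    obtain ⟨s, hsS, -, hs⟩ := mem_autInducedBy.mp h1
    have h2 := hs z hzC
    rw [cj_apply, mul_inv_eq_iff_eq_mul.mpr (hZcen s hsS z hz)] at h2
    simp only [Subgroup.coe_mul, Subgroup.coe_inv] at h2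
    have h3 : α ((u : MulAut C) (α⁻¹ zC)) = zC := by
      exact Subtype.ext ((afun_coe (α * (u : MulAut C) * α⁻¹) zC).symm.trans h2)
    have h4 : (u : MulAut C) aC = aC := α.injective (by
      rw [hαa]
      rwa [show α⁻¹ zC = aC from α.injective (by rw [MulAut.apply_inv_self, hαa])] at h3)
    refine hg'C (Subgroup.mem_centralizer_singleton_iff.mpr (Subtype.ext ?_))
    have h5 : cj g a = a := by
      rw [← afun_nHom gS haC, show afun (nHom S C gS) a = ((nHom S C gS) aC : Ω) from afun_apply _ haC]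
      exact congrArg Subtype.val h4
    rw [cj_apply, mul_inv_eq_iff_eq_mul] at h5
    exact h5
  set v : MulAut C := (β : MulAut C) * (u : MulAut C) * (β : MulAut C)⁻¹
  have hvtr : v ∈ transvections ((β : MulAut C) zC) := by
    refine ⟨by simp [v, MulAut.mul_apply, hutr.1], fun c => ?_⟩
    obtain ⟨i, hi⟩ := Subgroup.mem_zpowers_iff.mp (hutr.2 ((β : MulAut C)⁻¹ c))
    refine Subgroup.mem_zpowers_iff.mpr ⟨i, ?_⟩
    rw [← map_zpow, hi, map_mul, map_inv, MulAut.apply_inv_self]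
    rfl
  obtain ⟨h, hh, hhz, hhu⟩ := exists_inverting (fun b c => Subtype.ext (hCc _ b.2 _ c.2)) hzCp
    (by rw [← map_pow, hzCp, map_one]) hutr hvtr (by
      intro hcon
      refine hβ (IsPGroup.of_injective hcon
        (((F.autGroup C).subtype.comp (Subgroup.subtype _)).codRestrict _ fun w => ?_) ?_)
      · have hle : (Subgroup.zpowers u ⊔ (Subgroup.zpowers u).map (MulAut.conj β).toMonoidHom).map
            (F.autGroup C).subtype ≤ Subgroup.zpowers (u : MulAut C) ⊔ Subgroup.zpowers v := by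
          rw [Subgroup.map_sup, MonoidHom.map_zpowers, MonoidHom.map_zpowers, MonoidHom.map_zpowers]
          rfl
        exact hle ⟨w, w.2, rfl⟩
      · intro w w' hww
        have h0 := congrArg Subtype.val hww
        exact Subtype.ext (Subtype.ext h0))
  have hhA : h ∈ F.autGroup C := (sup_le (Subgroup.zpowers_le.mpr u.2)
    (Subgroup.zpowers_le.mpr (mul_mem (mul_mem β.2 u.2) (inv_mem β.2)))) hh
  -- extend to `C⟨g⟩`
  have hcg : ∀ c ∈ C, afun h (cj g c) = cj g (afun h c) := by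
    intro c hc
    have h1 := congrArg (fun m : MulAut C => afun m c) hhu
    simp only [afun_mul _ _ hc] at h1
    rwa [show afun (u : MulAut C) c = cj g c from afun_nHom gS hc,
      show afun (u : MulAut C) (afun h c) = cj g (afun h c) from afun_nHom gS (afun_mem h hc)] at h1
  obtain ⟨k, hk, hke⟩ := (receptive_iff.mp (receptive_of_fullyNormalized hS hF hCfn)).2 C (afun h)
    (Subgroup.zpowers g) ((mem_autGroup hCS').mp hhA) (im_afun h) (Subgroup.zpowers_le.mpr (hPS hgP))
    (Subgroup.zpowers_le.mpr (hCn (hPS hgP))) (fun w hw => by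
      let L : Subgroup Ω :=
        { carrier := {w | w ∈ S ∧ ∀ c ∈ C, afun h (cj w c) = cj w (afun h c)}
          one_mem' := ⟨one_mem S, fun c hc => by rw [cj_one, cj_one]⟩
          mul_mem' := fun {r t} hr ht => ⟨mul_mem hr.1 ht.1, fun c hc => by
            rw [← cj_cj, hr.2 _ (hSC t ht.1 c hc), ht.2 c hc, cj_cj]⟩
          inv_mem' := fun {r} hr => ⟨inv_mem hr.1, fun c hc => by
            have h3 := hr.2 _ (hSC r⁻¹ (inv_mem hr.1) c hc)
            rw [cj_cj_inv] at h3
            rw [h3, cj_inv_cj]⟩ }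
      have hwL : w ∈ L := (show Subgroup.zpowers g ≤ L from Subgroup.zpowers_le.mpr ⟨hPS hgP, hcg⟩) hw
      exact ⟨w, hwL.1, hwL.2⟩)
  have hgR : g ∈ C ⊔ Subgroup.zpowers g := Subgroup.mem_sup_right (Subgroup.mem_zpowers g)
  have hkg : k g ∈ P := FusionKit88.closed_apply hP hk
    (sup_le inf_le_left (Subgroup.zpowers_le.mpr hgP)) hgR
  have hrest : ∀ c ∈ C, g⁻¹ * k g * c = c * (g⁻¹ * k g) := by
    intro c hc
    have hc' : afun h⁻¹ c ∈ C := afun_mem _ hc
    have h1 := hk.map_cj hgR (Subgroup.mem_sup_left hc')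
    rw [hke _ hc', afun_apply_inv h hc, hke _ (hSC g (hPS hgP) _ hc'), hcg _ hc', afun_apply_inv h hc,
      cj_apply, cj_apply] at h1
    calc g⁻¹ * k g * c = g⁻¹ * (k g * c * (k g)⁻¹) * k g := by group
      _ = g⁻¹ * (g * c * g⁻¹) * k g := by rw [h1]
      _ = _ := by group
  have hq : g⁻¹ * k g ∈ C := ⟨P.mul_mem (P.inv_mem hgP) hkg,
    Subgroup.mem_centralizer_singleton_iff.mpr (hrest a haC)⟩
  have hpowk : (k g) ^ p = g ^ p := by
    have hmul := congrArg Subtype.val (PGroupsCyclic.mul_pow_prime_of_class_two (p := p) hp2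
      (fun y hy => PGroupsBasic.le_center_of_card_eq_prime hPp hge.2 hy)
      (fun b c => PGroupsBasic.pow_eq_one_of_card hge.2
        (Subgroup.commutator_mem_commutator (Subgroup.mem_top b) (Subgroup.mem_top c)))
      (⟨g, hgP⟩ : P) ⟨g⁻¹ * k g, hq.1⟩)
    simpa [hCe _ hq] using hmul
  have hkp : k (g ^ p) = k g ^ p := by
    obtain ⟨φ, hφ, he⟩ := hk
    rw [← he ⟨g, hgR⟩, ← map_pow, he]
    rfl
  obtain ⟨e, he⟩ := Subgroup.mem_zpowers_iff.mp (hgz.symm ▸ hZpow g hgP)
  have hkz : k (g ^ p) = (g ^ p)⁻¹ := by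
    rw [hke _ (he ▸ zpow_mem hzC e), ← he,
      show afun h (z ^ e) = ((h (zC ^ e) : C) : Ω) from afun_coe h (zC ^ e), map_zpow, hhz]
    simp [zC]
  rw [hkp, hpowk, eq_inv_iff_mul_eq_one, ← pow_two] at hkz
  have hgpp : (g ^ p) ^ p = 1 := by
    rw [← he, ← zpow_natCast, ← zpow_mul, mul_comm, zpow_mul, zpow_natCast,
      PGroupsBasic.pow_eq_one_of_card hZcard hz, one_zpow]
  apply hgp1
  rw [← orderOf_eq_one_iff]
  exact Nat.eq_one_of_dvd_coprimes ((Nat.coprime_primes Nat.prime_two hp.out).mpr (Ne.symm hp2))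
    (orderOf_dvd_of_pow_eq_one hkz) (orderOf_dvd_of_pow_eq_one hgpp)

theorem isNormal (hS : IsPGroup p S) (hF : F.IsSaturated p) {P : Subgroup Ω}
    (hP : F.StronglyClosed P) (hge : frattini P = commutator P ∧ Nat.card (commutator P) = p)
    (h2 : p = 2 → ¬ ∃ (A : Type) (_ : CommGroup A), (∀ a : A, a ^ 2 = 1) ∧ Nonempty (P ≃* DihedralGroup 4 × A))
    (hodd : p ≠ 2 → ¬ ∃ (E : Type) (_ : Group E) (A : Type) (_ : CommGroup A), Cfsg.IsExtraspecial p E ∧
      Nat.card E = p ^ 3 ∧ Monoid.exponent E = p ∧ (∀ a : A, a ^ p = 1) ∧ Nonempty (P ≃* E × A)) :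
    F.IsNormal P := by
  haveI := finite_of_le hP.1
  have hsc := stronglyClosed_commutator hS hF hP hge h2 hodd
  refine FusionSysChain.isNormal_of_chain hS hF (n := 2)
    (fun i => if i = 0 then ⊥ else if i = 1 then (commutator P).map P.subtype else P) rfl rfl hP ?_ ?_ ?_
  · intro i hi
    interval_cases i <;> simp [Subgroup.map_subtype_le]
  · intro i hi
    interval_cases i
    · simpa using hsc
    · simpa using hP
  · intro i hi
    interval_cases i
    · simp only [zero_add, one_ne_zero, if_false, if_true, le_bot_iff]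
      rw [Subgroup.commutator_eq_bot_iff_le_centralizer]
      rintro b hb _ ⟨c, hc, rfl⟩
      exact (congrArg Subtype.val (Subgroup.mem_center_iff.mp
        (PGroupsBasic.le_center_of_card_eq_prime (hS.to_le hP.1) hge.2 hc) ⟨b, hb⟩)).symm
    · simp [Subgroup.map_subtype_commutator]

end Cfsg.Agent.GenExtraspecialNormal
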