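import Mathlib
import Cfsg.Agent.Lib.GlaubermanFree

/-!
Control of fusion by `N(ZJ(S))` when only the normalizers of subgroups containing `Z(S)` are
assumed to have no `SL(2,p)` section.  The induction is that of
`GlaubermanControl.ctrl_of_local`, tracking centric subgroups.
-/

set_option autoImplicit false

open scoped MatrixGroups

namespace Cfsg.Agent.GlaubermanCentricControl

open Subgroup GlaubermanZJ GlaubermanControl GlaubermanStable GlaubermanQuotient TransferAlperin
  QuadraticMain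

universe u

variable {p : ℕ} {G : Type u} [Group G]

/-- Every conjugate of `T` in `P` contains its centralizer in `P`. -/
def Cen (P T : Subgroup G) : Prop :=
  ∀ b, cj b T ≤ P → P ⊓ centralizer (cj b T : Set G) ≤ cj b T

theorem cen_of_isFullyNormalized {P T : Subgroup G} (hP : IsPGroup p P)
    (hfn : IsFullyNormalized p P T) (hcen : P ⊓ centralizer (T : Set G) ≤ T) : Cen P T := by
  intro b _ y hy
  set S := cj b⁻¹ (P ⊓ centralizer (cj b T : Set G)) with hS
  have hScent : ∀ s ∈ S, ∀ t ∈ T, t * s = s * t := by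
    rintro _ ⟨z, hz, rfl⟩ t ht
    simp only [MulEquiv.toMonoidHom_eq_coe, MonoidHom.coe_coe, MulAut.conj_apply, inv_inv]
    have h := mem_centralizer_iff.mp hz.2 _ (conj_mem_cj (g := b) ht)
    calc t * (b⁻¹ * z * b) = b⁻¹ * ((b * t * b⁻¹) * z) * b := by group
      _ = b⁻¹ * (z * (b * t * b⁻¹)) * b := by rw [h]
      _ = b⁻¹ * z * b * t := by group
  have hSN : S ≤ normalizer (T : Set G) := fun s hs =>
    Subgroup.centralizer_le_normalizer _ (mem_centralizer_iff.mpr (hScent s hs))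
  obtain ⟨c, hc, hcS⟩ := hfn S hSN (isPGroup_cj hP.to_inf_left)
  set w := b⁻¹ * y * b with hw
  have hwS : w ∈ S := by
    exact ⟨y, hy, by simp [hw]⟩
  have hw' : c * w * c⁻¹ ∈ T := by
    refine hcen ⟨hcS (conj_mem_cj hwS), mem_centralizer_iff.mpr fun t ht => ?_⟩
    have ht' : c⁻¹ * t * c ∈ T := by
      have := (mem_normalizer_iff.mp ((normalizer (T : Set G)).inv_mem hc) t).mp ht
      simpa using this
    calc t * (c * w * c⁻¹) = c * ((c⁻¹ * t * c) * w) * c⁻¹ := by group
      _ = c * (w * (c⁻¹ * t * c)) * c⁻¹ := by rw [hScent w hwS _ ht']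
      _ = c * w * c⁻¹ * t := by group
  have hwT : w ∈ T := (mem_normalizer_iff.mp hc w).mpr hw'
  have := conj_mem_cj (g := b) hwT
  rwa [hw, show b * (b⁻¹ * y * b) * b⁻¹ = y by group] at this

/-- Control from control inside the normalizers of subgroups containing the centre of `P`. -/
theorem ctrl_of_local_centric [Finite G] [hp : Fact p.Prime] (F : Functor'.{u} p) (P : Sylow p G)
    (hWz : ∀ R : Subgroup G, R ≤ (P : Subgroup G) →
      (P : Subgroup G) ⊓ centralizer ((P : Subgroup G) : Set G) ≤ R →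
      (P : Subgroup G) ⊓ centralizer ((P : Subgroup G) : Set G) ≤ F.W R)
    (hloc : ∀ U : Subgroup G, U ≤ (P : Subgroup G) →
      (P : Subgroup G) ⊓ centralizer ((P : Subgroup G) : Set G) ≤ U →
      IsFullyNormalized p (P : Subgroup G) U → ∀ T g, g ∈ normalizer (U : Set G) →
      T ≤ (P : Subgroup G) ⊓ normalizer (U : Set G) →
      cj g T ≤ (P : Subgroup G) ⊓ normalizer (U : Set G) →
      ∃ m ∈ normalizer (U : Set G) ⊓
          normalizer (F.W ((P : Subgroup G) ⊓ normalizer (U : Set G)) : Set G),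
        ∀ t ∈ T, m * t * m⁻¹ = g * t * g⁻¹) :
    Ctrl (P : Subgroup G) (F.W (P : Subgroup G)) := by
  set M := normalizer (F.W (P : Subgroup G) : Set G) with hM
  set Z0 := (P : Subgroup G) ⊓ centralizer ((P : Subgroup G) : Set G) with hZ0
  refine alperin_induction_centric P (fun T g => ∃ m ∈ M, ∀ t ∈ T, m * t * m⁻¹ = g * t * g⁻¹)
    ?_ ?_ ?_ ?_ ?_
  · intro T g k _ _ _ ⟨z, hz, hzt⟩ ⟨w, hw, hwt⟩
    refine ⟨w * z, mul_mem hw hz, fun t ht => ?_⟩
    calc w * z * t * (w * z)⁻¹ = w * (z * t * z⁻¹) * w⁻¹ := by group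
      _ = w * (g * t * g⁻¹) * w⁻¹ := by rw [hzt t ht]
      _ = k * (g * t * g⁻¹) * k⁻¹ := hwt _ (conj_mem_cj ht)
      _ = k * g * t * (k * g)⁻¹ := by group
  · intro T g _ _ ⟨z, hz, hzt⟩
    refine ⟨z⁻¹, inv_mem hz, fun t ht => ?_⟩
    obtain ⟨s, hs, rfl⟩ := ht
    simp only [MulEquiv.toMonoidHom_eq_coe, MonoidHom.coe_coe, MulAut.conj_apply]
    calc z⁻¹ * (g * s * g⁻¹) * z⁻¹⁻¹ = z⁻¹ * (z * s * z⁻¹) * z⁻¹⁻¹ := by rw [hzt s hs]
      _ = g⁻¹ * (g * s * g⁻¹) * g⁻¹⁻¹ := by group
  · exact fun S T g hST _ _ ⟨z, hz, hzt⟩ => ⟨z, hz, fun t ht => hzt t (hST ht)⟩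
  · intro T _ c hc
    refine ⟨1, one_mem _, fun t ht => ?_⟩
    rw [one_mul, inv_one, mul_one]
    exact (eq_mul_inv_of_mul_eq (mem_centralizer_iff.mp hc t ht)).trans (by group)
  intro T hT hfn hcen _ hbig c hc _
  by_cases hTP : T = (P : Subgroup G)
  · exact ⟨c, F.normalizer_le _ (hTP ▸ hc), fun t _ => rfl⟩
  have hZ0cj : ∀ T' : Subgroup G, T' ≤ (P : Subgroup G) →
      (P : Subgroup G) ⊓ centralizer (T' : Set G) ≤ T' → Z0 ≤ T' := fun T' hT' h =>
    (inf_le_inf_left _ (centralizer_le hT')).trans h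
  -- moving up
  have climb : ∀ (k : ℕ) (R : Subgroup G), Nat.card (P : Subgroup G) - Nat.card R = k →
      R ≤ (P : Subgroup G) → Nat.card T < Nat.card R →
      ∀ T', T' ≤ R → Nat.card T' = Nat.card T → Cen (P : Subgroup G) T' → ∀ m,
        m ∈ normalizer (F.W R : Set G) → m ∈ normalizer (T' : Set G) →
        ∃ m' ∈ M, ∀ t ∈ T', m' * t * m'⁻¹ = m * t * m⁻¹ := by
    intro k
    induction k using Nat.strong_induction_on with
    | _ k ihk =>
    intro R hk hRP hTR T' hT'R hT'c hT'cen m hmU hmT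
    rcases eq_or_lt_of_le hRP with he | hlt
    · exact ⟨m, by rwa [he] at hmU, fun t _ => rfl⟩
    set U := F.W R with hU
    have hUp : IsPGroup p U := P.isPGroup'.to_le ((F.W_le _).trans hRP)
    set PR := (P : Subgroup G) ⊓ normalizer (R : Set G) with hPR
    have hPRU : PR ≤ normalizer (U : Set G) := inf_le_right.trans (F.normalizer_le _)
    have hRPR : Nat.card R < Nat.card PR := card_lt_card_inf_normalizer P.isPGroup' hlt
    obtain ⟨a0, ha0, hfn'⟩ := exists_isFullyNormalized P hUp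
    obtain ⟨c0, hc0, hle0⟩ := hfn' (cj a0 PR) (by rw [← cj_normalizer]; exact cj_mono a0 hPRU)
      (isPGroup_cj P.isPGroup'.to_inf_left)
    set a := c0 * a0 with ha
    rw [← cj_mul] at hle0
    have haU : cj a U = cj a0 U := by rw [cj_mul, cj_eq_self hc0]
    set U' := cj a U with hU'
    rw [← haU] at ha0 hfn'
    set N' := normalizer (U' : Set G) with hN'
    set R1 := (P : Subgroup G) ⊓ N' with hR1
    have hPR1 : cj a PR ≤ R1 := le_inf hle0 (by rw [hN', ← cj_normalizer]; exact cj_mono a hPRU)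
    have haR : cj a R ≤ R1 := (cj_mono a (le_inf hRP le_normalizer)).trans hPR1
    have hR1c : Nat.card R < Nat.card R1 :=
      hRPR.trans_le ((card_cj a PR).symm.le.trans (card_le_of_le hPR1))
    set T1 := cj a T' with hT1
    set m1 := a * m * a⁻¹ with hm1
    have hm1U : m1 ∈ N' := by rw [hN', ← cj_normalizer]; exact conj_mem_cj hmU
    have hm1T : m1 ∈ normalizer (T1 : Set G) := by rw [← cj_normalizer]; exact conj_mem_cj hmT
    have hT1R : T1 ≤ R1 := (cj_mono a hT'R).trans haR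
    have hZT1 : Z0 ≤ cj a R :=
      (hZ0cj T1 (hT1R.trans inf_le_left) (hT'cen a (hT1R.trans inf_le_left))).trans
        (cj_mono a hT'R)
    have hZU' : Z0 ≤ U' := by
      have h1 := F.W_map (MulAut.conj a).toMonoidHom R (MulAut.conj a).injective.injOn
      have h2 := hWz (cj a R) (haR.trans inf_le_left) hZT1
      rw [cj, h1] at h2
      exact h2
    have hT1cen : Cen (P : Subgroup G) T1 := by
      intro b hb
      rw [hT1, ← cj_mul] at hb ⊢
      exact hT'cen (b * a) hb
    obtain ⟨m2, hm2, hm2e⟩ := hloc U' ha0 hZU' hfn' T1 m1 hm1U hT1R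
      (by rw [cj_eq_self hm1T]; exact hT1R)
    obtain ⟨mm, hmm, hmme⟩ := ihk _ (by
        have h1 : Nat.card R1 ≤ Nat.card (P : Subgroup G) := card_le_of_le inf_le_left
        omega) R1 rfl inf_le_left
      (hTR.trans hR1c) T1 hT1R ((card_cj a T').trans hT'c) hT1cen m2 hm2.2
      (mem_normalizer_of_cj_eq (by rw [cj_eq_of_agree hm2e, cj_eq_self hm1T]))
    obtain ⟨ma, hma, hmae⟩ := hbig R a hRP (haR.trans inf_le_left) hTR
    exact ⟨ma⁻¹ * mm * ma, mul_mem (mul_mem (inv_mem hma) hmm) hma,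
      agree_comp (T := T') (a := a) rfl (fun t ht => hmae t (hT'R ht))
        (fun s hs => (hmme s hs).trans (hm2e s hs)) hmT⟩
  set R := (P : Subgroup G) ⊓ normalizer (T : Set G) with hR
  have hTR := card_lt_card_inf_normalizer P.isPGroup' (lt_of_le_of_ne hT hTP)
  have hTleR : T ≤ R := le_inf hT le_normalizer
  obtain ⟨m, hm, hme⟩ := hloc T hT (hZ0cj T hT hcen) hfn T c hc hTleR
    (by rw [cj_eq_self hc]; exact hTleR)
  have hmT : m ∈ normalizer (T : Set G) :=
    mem_normalizer_of_cj_eq (by rw [cj_eq_of_agree hme, cj_eq_self hc])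
  obtain ⟨m', hm', hme'⟩ := climb _ R rfl inf_le_left hTR T hTleR rfl
    (cen_of_isFullyNormalized P.isPGroup' hfn hcen) m hm.2 hmT
  exact ⟨m', hm', fun t ht => (hme' t ht).trans (hme t ht)⟩

theorem inf_centralizer_le_thomY [Finite G] (P R : Subgroup G) (hRP : R ≤ P)
    (h : P ⊓ centralizer (P : Set G) ≤ R) : P ⊓ centralizer (P : Set G) ≤ thomY 0 R := by
  intro z hz
  have hzc : ∀ a ∈ R, a * z = z * a := fun a ha => mem_centralizer_iff.mp hz.2 a (hRP ha)
  obtain ⟨A, hA⟩ := exists_maxFam 0 R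
  exact ⟨le_thomJ hA (mem_of_commute hA (h hz) (pow_zero z) fun a ha => hzc a (hA.1.le ha)),
    mem_centralizer_iff.mpr fun a ha => hzc a (thomJ_le R ha)⟩

/-- Fusion in `S` is controlled by `N(ZJ(S))`. -/
theorem ctrl_thomY [Finite G] [hp : Fact p.Prime] (hp2 : p ≠ 2) (S : Sylow p G)
    (hfree : ∀ P : Subgroup G,
      (S : Subgroup G) ⊓ centralizer ((S : Subgroup G) : Set G) ≤ P → P ≤ (S : Subgroup G) →
      ¬ ∃ (H K : Subgroup G) (hK : (K.subgroupOf H).Normal), H ≤ normalizer (P : Set G) ∧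
        Nonempty ((H ⧸ K.subgroupOf H) ≃* SL(2, ZMod p))) :
    Ctrl (S : Subgroup G) (thomY 0 (S : Subgroup G)) := by
  refine ctrl_of_local_centric (yZero p) S
    (fun R hR h => inf_centralizer_le_thomY _ R hR h) fun U hUS hZU hfn T g hg hT hgT => ?_
  set N := normalizer (U : Set G) with hN
  have hN' : ¬ HasSection N SL(2, ZMod p) := by
    intro h
    obtain ⟨K, L, hL, hKN, hiso⟩ := exists_section_sub h
    exact hfree U hZU hUS ⟨K, L, hL, hKN, hiso⟩
  have hlc := local_ctrl (yZero p) S (D := (S : Subgroup G)) ⟨le_rfl, fun x _ g h => h⟩ N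
    (not_dvd_relIndex_of_isFullyNormalized S hfn)
    (fun R D' hD' => GlaubermanFree.ctrl_of_free hp2 (Or.inl rfl) _
      (GlaubermanFree.stable_of_sl2_free hp2) (yZero p) (fun D => le_rfl) N hN' R D' hD')
    T g hg hT hgT
  exact hlc

end Cfsg.Agent.GlaubermanCentricControl
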