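import Mathlib
import Cfsg.Agent.Lib.GlaubermanStableCtrl

/-!
# The centraliser of a normal `p`-subgroup in a stable group

If `C_P(Q)` is not inside `Q`, the preimage `R` of `Z(J)` of `C(Q)/Z` is strictly bigger than
`Z = Q ∩ C(Q)`, and it behaves like a normal subgroup of the fusion system.
-/

set_option autoImplicit false

namespace Cfsg.Agent.GlaubermanConstrained

open Subgroup GlaubermanZJ GlaubermanControl TransferAlperin

universe u

theorem exists_invariant {Y : Type u} [Group Y] [Finite Y] {p : ℕ} [hp : Fact p.Prime]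
    (hp2 : p ≠ 2) (hst : Cfsg.IsNormalizerPStable p Y) (P : Sylow p Y) (Q : Subgroup Y) [Q.Normal]
    (hQP : Q ≤ (P : Subgroup Y))
    (hnot : ¬ (P : Subgroup Y) ⊓ centralizer (Q : Set Y) ≤ Q) :
    ∃ R : Subgroup Y, R ≤ (P : Subgroup Y) ∧ (P : Subgroup Y) ≤ normalizer (R : Set Y) ∧ ¬ R ≤ Q ∧
      (∀ X, Q ≤ X → X ≤ (P : Subgroup Y) → R ≤ X → normalizer (X : Set Y) ≤ normalizer (R : Set Y)) ∧
      ∀ X, Q ≤ X → X ≤ (P : Subgroup Y) → ∃ J : Subgroup Y, R ⊓ normalizer (X : Set Y) ≤ J ∧
        J ≤ normalizer (X : Set Y) ∧ normalizer (X : Set Y) ≤ normalizer (J : Set Y) ∧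
        ∀ j ∈ J, ∃ i, j ^ p ^ i ∈ centralizer (X : Set Y) := by
  set C := centralizer (Q : Set Y) with hC
  haveI hCn : C.Normal := inferInstance
  set Z := Q ⊓ C with hZdef
  haveI hZn : Z.Normal := inferInstance
  have hQp : IsPGroup p Q := P.isPGroup'.to_le hQP
  have hZp : IsPGroup p Z := hQp.to_le inf_le_left
  have hZC : Z ≤ C := inf_le_right
  have hZfix : ∀ c ∈ C, ∀ z ∈ Z, c * z = z * c := fun c hc z hz =>
    (mem_centralizer_iff.mp hc z hz.1).symm
  set D := (P : Subgroup Y) ⊓ C with hD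
  have hZD : Z ≤ D := le_inf (inf_le_left.trans hQP) hZC
  set π := QuotientGroup.mk' Z with hπdef
  have hπ : Function.Surjective π := QuotientGroup.mk'_surjective Z
  have hmem : ∀ {A : Subgroup Y}, Z ≤ A → ∀ y, π y ∈ A.map π → y ∈ A := by
    intro A hA y hy
    obtain ⟨a, ha, he⟩ := hy
    obtain ⟨z, hz, rfl⟩ := (QuotientGroup.mk'_eq_mk' Z).mp he
    exact mul_mem ha (hA hz)
  -- stability of `C / Z`
  set Cb := C.map π with hCb
  have hstC : Cfsg.IsNormalizerPStable p Cb := by
    haveI : (Z.subgroupOf C).Normal := normal_subgroupOf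
    have h1 := GlaubermanStableQuot.isNormalizerPStable_quotient hp2
      (GlaubermanStable.isNormalizerPStable_subgroup hst C) (Z.subgroupOf C) hZp.comap_subtype
      fun k _ z hz => Subtype.ext (hZfix k k.2 z (mem_subgroupOf.mp hz))
    let f : C ⧸ Z.subgroupOf C →* Cb :=
      QuotientGroup.lift (Z.subgroupOf C) (π.subgroupMap C) fun y hy => Subtype.ext
        ((QuotientGroup.eq_one_iff (y : Y)).mpr (mem_subgroupOf.mp hy))
    have hfi : Function.Injective f := by
      rw [injective_iff_map_eq_one]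
      intro t ht
      obtain ⟨y, rfl⟩ := QuotientGroup.mk'_surjective _ t
      exact (QuotientGroup.eq_one_iff y).mpr (mem_subgroupOf.mpr
        ((QuotientGroup.eq_one_iff (y : Y)).mp (congrArg Subtype.val ht)))
    have hfs : Function.Surjective f := fun t => by
      obtain ⟨y, hy⟩ := π.subgroupMap_surjective C t
      exact ⟨QuotientGroup.mk' _ y, hy⟩
    exact GlaubermanStable.isNormalizerPStable_of_surjective hfs
      (by rw [(MonoidHom.ker_eq_bot_iff f).mpr hfi, card_bot]; exact Nat.coprime_one_left p) h1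
  -- the Sylow subgroup and `Z(J)`
  set Db := D.map π with hDb
  obtain ⟨S, hS⟩ := LocalBasics.exists_sylow_inf P C
  have hSmap : (S : Subgroup C).map C.subtype = D := by rw [hS, subgroupOf_map_subtype]
  obtain ⟨T, hT⟩ : ∃ T : Sylow p Cb, (T : Subgroup Cb).map Cb.subtype = Db := by
    refine ⟨S.mapSurjective (π.subgroupMap_surjective C), ?_⟩
    rw [Sylow.coe_mapSurjective, hDb, ← hSmap, Subgroup.map_map, Subgroup.map_map]
    rfl
  set Wb := thomY 0 Db with hWb
  have hWmap : (thomY 0 (T : Subgroup Cb)).map Cb.subtype = Wb := by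
    rw [hWb, ← hT, thomY_map Cb.subtype_injective]
  have hctrl := GlaubermanStableCtrl.ctrl_thomY_zero hp2 hstC T
  set R := Wb.comap π with hR
  have hRD : R ≤ D := fun y hy => hmem hZD y (thomY_le _ hy)
  have hDn : (P : Subgroup Y) ≤ normalizer (D : Set Y) :=
    LocalBasics.le_normalizer_inf le_normalizer le_normalizer_of_normal
  have hNR : ∀ y, y ∈ normalizer (R : Set Y) ↔ π y ∈ normalizer (Wb : Set (Y ⧸ Z)) := fun y =>
    (SetLike.ext_iff.mp (comap_normalizer_eq_of_surjective Wb hπ) y).symm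
  have hNDR : normalizer (D : Set Y) ≤ normalizer (R : Set Y) := fun y hy =>
    (hNR y).mpr (normalizer_le_thomY _ (le_normalizer_map π (mem_map_of_mem π hy)))
  have hfr : ∀ g : Y, ∃ c ∈ C, ∃ n ∈ normalizer (D : Set Y), g = c * n := by
    intro g
    have h := Sylow.normalizer_sup_eq_top S
    rw [hSmap, sup_comm] at h
    obtain ⟨c, hc, n, hn, e⟩ := mem_sup_of_normal_left.mp (h ▸ mem_top g : g ∈ C ⊔ _)
    exact ⟨c, hc, n, hn, e.symm⟩
  -- the kernel of the action on `E / Z`
  let ker : Subgroup Y → Subgroup Y := fun E =>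
    C ⊓ normalizer (E : Set Y) ⊓ (centralizer (E.map π : Set (Y ⧸ Z))).comap π
  have hkerN : ∀ E : Subgroup Y, normalizer (E : Set Y) ≤ normalizer (ker E : Set Y) := fun E => by
    refine LocalBasics.le_normalizer_inf (LocalBasics.le_normalizer_inf le_normalizer_of_normal
      le_normalizer) ?_
    refine le_trans ?_ (le_normalizer_comap π)
    rw [← map_le_iff_le_comap]
    exact LocalBasics.le_normalizer_centralizer (le_normalizer_map π)
  have hdec : ∀ E, Z ≤ E → E ≤ D → ∀ g ∈ normalizer (E : Set Y),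
      ∃ z ∈ ker E, z⁻¹ * g ∈ normalizer (R : Set Y) ⊓ normalizer (E : Set Y) := by
    intro E hZE hED g hg
    obtain ⟨c, hc, n, hn, rfl⟩ := hfr g
    set E1 := cj n E with hE1
    have hE1D : E1 ≤ D := (cj_mono n hED).trans (cj_eq_self hn).le
    have hcE : cj c E1 = E := by rw [hE1, ← cj_mul, cj_eq_self hg]
    have hE1b : E1.map π ≤ Cb := map_mono (hE1D.trans inf_le_right)
    obtain ⟨mb, hmb, hmbe⟩ := hctrl ((E1.map π).subgroupOf Cb) ⟨π c, mem_map_of_mem π hc⟩
      (fun t ht => by
        obtain ⟨s, hs, he⟩ := hT.ge (map_mono hE1D (mem_subgroupOf.mp ht))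
        exact Subtype.ext he ▸ hs) (by
        rintro _ ⟨t, ht, rfl⟩
        obtain ⟨e, he, hte⟩ := mem_subgroupOf.mp ht
        have h1 : c * e * c⁻¹ ∈ D := hED (hcE.le (conj_mem_cj he))
        obtain ⟨s, hs, hse⟩ := hT.ge (mem_map_of_mem π h1)
        refine SetLike.mem_of_subset (le_refl _) ?_
        convert hs using 1
        refine Subtype.ext ?_
        refine Eq.trans ?_ hse.symm
        rw [map_mul, map_mul, map_inv, hte]
        rfl)
    obtain ⟨m, hm, hme⟩ := mb.2
    have hwR : m * n ∈ normalizer (R : Set Y) := by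
      refine mul_mem ((hNR m).mpr ?_) (hNDR hn)
      rw [hme, ← hWmap]
      exact le_normalizer_map Cb.subtype (mem_map_of_mem Cb.subtype hmb)
    have hagree : ∀ e ∈ E, π ((m * n) * e * (m * n)⁻¹) = π ((c * n) * e * (c * n)⁻¹) := by
      intro e he
      have h1 := congrArg Subtype.val (hmbe ⟨π (n * e * n⁻¹),
        hE1b (mem_map_of_mem π (conj_mem_cj he))⟩
        (mem_subgroupOf.mpr (mem_map_of_mem π (conj_mem_cj he))))
      simp only [Subgroup.coe_mul, Subgroup.coe_inv, ← hme, map_mul, map_inv] at h1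
      simp only [map_mul, map_inv, mul_inv_rev]
      simp only [← mul_assoc] at h1 ⊢
      exact h1
    have hwE : m * n ∈ normalizer (E : Set Y) := by
      refine mem_normalizer_of_cj_eq (eq_of_le_of_card_ge ?_ (card_cj _ _).ge)
      rintro _ ⟨e, he, rfl⟩
      refine hmem hZE _ ?_
      rw [show π ((MulAut.conj (m * n)).toMonoidHom e) = _ from hagree e he]
      exact mem_map_of_mem π ((mem_normalizer_iff.mp hg e).mp he)
    have hez : (c * m⁻¹)⁻¹ * (c * n) = m * n := by group
    refine ⟨c * m⁻¹, ⟨⟨C.mul_mem hc (C.inv_mem hm), ?_⟩, ?_⟩, by rw [hez]; exact ⟨hwR, hwE⟩⟩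
    · have := mul_mem hg (inv_mem hwE)
      simpa [mul_assoc] using this
    · refine mem_centralizer_iff.mpr ?_
      rintro _ ⟨e, he, rfl⟩
      have he' : (m * n)⁻¹ * e * (m * n) ∈ E := (mem_normalizer_iff''.mp hwE e).mp he
      have h1 := hagree _ he'
      rw [show m * n * ((m * n)⁻¹ * e * (m * n)) * (m * n)⁻¹ = e by group] at h1
      rw [show c * n * ((m * n)⁻¹ * e * (m * n)) * (c * n)⁻¹ = (c * m⁻¹) * e * (c * m⁻¹)⁻¹ by group,
        map_mul, map_mul, map_inv] at h1
      exact eq_mul_inv_iff_mul_eq.mp h1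
  refine ⟨R, hRD.trans inf_le_left, hDn.trans hNDR, fun hle => ?_, ?_, ?_⟩
  · -- `R` is bigger than `Z`
    have h0 : Db ≠ ⊥ := by
      rw [hDb, Ne, Subgroup.map_eq_bot_iff, hπdef, QuotientGroup.ker_mk']
      exact fun h => hnot (h.trans inf_le_left)
    refine thomY_ne_bot (p := p) (Or.inl rfl) ((P.isPGroup'.to_inf_left).map π) h0 (le_bot_iff.mp ?_)
    rw [← hWb, ← map_comap_eq_self_of_surjective hπ Wb, ← hR]
    refine (map_mono (show R ≤ Z from le_inf hle (hRD.trans inf_le_right))).trans (le_of_eq ?_)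
    rw [Subgroup.map_eq_bot_iff, hπdef, QuotientGroup.ker_mk']
  · intro X hQX hXP hRX g hg
    have hgE : g ∈ normalizer ((X ⊓ C : Subgroup Y) : Set Y) :=
      LocalBasics.le_normalizer_inf le_rfl le_normalizer_of_normal hg
    have hZE : Z ≤ X ⊓ C := inf_le_inf_right _ hQX
    obtain ⟨z, hz, hw⟩ := hdec _ hZE (inf_le_inf_right _ hXP) g hgE
    have hzR : z ∈ normalizer (R : Set Y) := by
      refine (hNR z).mpr (LocalBasics.centralizer_le_normalizer Wb ?_)
      refine centralizer_le ?_ hz.2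
      intro y hy
      obtain ⟨x, rfl⟩ := hπ y
      have hxR : x ∈ R := hy
      exact mem_map_of_mem π ⟨hRX hxR, (hRD hxR).2⟩
    have := mul_mem hzR hw.1
    rwa [mul_inv_cancel_left] at this
  · intro X hQX hXP
    set E := X ⊓ C with hE
    have hNE : normalizer (X : Set Y) ≤ normalizer (E : Set Y) :=
      LocalBasics.le_normalizer_inf le_rfl le_normalizer_of_normal
    have hZE : Z ≤ E := inf_le_inf_right _ hQX
    have hED : E ≤ D := inf_le_inf_right _ hXP
    set R0 := R ⊓ normalizer (E : Set Y) with hR0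
    have hR0K : R0 ≤ normalizer (ker E : Set Y) := inf_le_right.trans (hkerN E)
    refine ⟨(R0 ⊔ ker E) ⊓ normalizer (X : Set Y), ?_, inf_le_right, ?_, ?_⟩
    · exact le_inf ((le_inf inf_le_left (inf_le_right.trans hNE)).trans le_sup_left) inf_le_right
    · refine LocalBasics.le_normalizer_inf ?_ le_normalizer
      refine hNE.trans ?_
      intro g hg
      obtain ⟨z, hz, hw⟩ := hdec E hZE hED g hg
      have h1 : z⁻¹ * g ∈ normalizer ((R0 ⊔ ker E : Subgroup Y) : Set Y) :=
        LocalBasics.le_normalizer_sup (X := normalizer (R : Set Y) ⊓ normalizer (E : Set Y))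
          (LocalBasics.le_normalizer_inf inf_le_left (inf_le_right.trans le_normalizer))
          (inf_le_right.trans (hkerN E)) hw
      have h2 := mul_mem (le_normalizer (mem_sup_right hz : z ∈ R0 ⊔ ker E)) h1
      rwa [mul_inv_cancel_left] at h2
    · rintro j ⟨hj, hjX⟩
      obtain ⟨i, hi⟩ : ∃ i, j ^ p ^ i ∈ ker E := by
        have hj' : j ∈ R0 ⊔ ker E := hj
        rw [← SetLike.mem_coe, coe_mul_of_left_le_normalizer_right _ _ hR0K] at hj'
        obtain ⟨r, hr, k, hk, rfl⟩ := hj'
        obtain ⟨i, hi⟩ := (P.isPGroup'.to_le (hRD.trans inf_le_left)) ⟨r, hr.1⟩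
        set M := normalizer (ker E : Set Y)
        haveI : ((ker E).subgroupOf M).Normal := LocalBasics.normal_subgroupOf_of_le le_rfl
        refine ⟨i, ?_⟩
        have hrM : r ∈ M := hR0K hr
        have hkM : k ∈ M := le_normalizer hk
        have h1 : QuotientGroup.mk' ((ker E).subgroupOf M)
            ((⟨r, hrM⟩ * ⟨k, hkM⟩ : M) ^ p ^ i) = 1 := by
          rw [map_pow, map_mul, show QuotientGroup.mk' ((ker E).subgroupOf M) ⟨k, hkM⟩ = 1 from
            (QuotientGroup.eq_one_iff _).mpr (mem_subgroupOf.mpr hk), mul_one, ← map_pow,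
            show (⟨r, hrM⟩ : M) ^ p ^ i = 1 from
              Subtype.ext (show r ^ p ^ i = 1 from congrArg Subtype.val hi), map_one]
        exact mem_subgroupOf.mp ((QuotientGroup.eq_one_iff _).mp h1)
      obtain ⟨l, hl⟩ := GlaubermanStable.exists_pow_coprime (p := p) (j ^ p ^ i)
      refine ⟨i + l, ?_⟩
      rw [pow_add, pow_mul]
      set h := (j ^ p ^ i) ^ p ^ l
      have hk : h ∈ ker E := pow_mem hi _
      have hE' : ∀ e ∈ E, Commute h e := by
        refine OmegaCoprime.commute_of_fixed_comms (P.isPGroup'.to_le (hED.trans inf_le_left))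
          (fun e he => (mem_normalizer_iff.mp hk.1.2 e).mp he) hl fun e he => ?_
        refine hZfix h hk.1.1 _ ?_
        rw [← QuotientGroup.eq_one_iff]
        change π (e⁻¹ * (h * e * h⁻¹)) = 1
        rw [map_mul, map_mul, map_mul, map_inv, map_inv,
          ← mem_centralizer_iff.mp hk.2 (π e) (mem_map_of_mem π he)]
        group
      have hhX : h ∈ normalizer (X : Set Y) := pow_mem (pow_mem hjX _) _
      refine mem_centralizer_iff.mpr fun x hx => ?_
      refine (OmegaCoprime.commute_of_fixed_comms (P.isPGroup'.to_le hXP)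
        (fun e he => (mem_normalizer_iff.mp hhX e).mp he) hl (fun e he => hE' _ ?_) x hx).eq.symm
      refine ⟨X.mul_mem (X.inv_mem he) ((mem_normalizer_iff.mp hhX e).mp he), ?_⟩
      have h1 := C.mul_mem (hCn.conj_mem h hk.1.1 e⁻¹) (C.inv_mem hk.1.1)
      simpa [mul_assoc] using h1

end Cfsg.Agent.GlaubermanConstrained
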