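import Mathlib
import Cfsg.Prelude.Def_EvenType
import Cfsg.Agent.Lib.GlaubermanFree
import Cfsg.Agent.Lib.QdStructure56
import Cfsg.Agent.S2763

/-! `Qd(p)` is not `p`-stable and `Z(J)` does not control its fusion. -/

set_option autoImplicit false
set_option linter.all false

open scoped MatrixGroups commutatorElement

namespace Cfsg.Agent.GlaubermanQd

open Subgroup QdStructure56 GlaubermanZJ

universe u

variable {p : ℕ} [Fact p.Prime]

theorem vec_comm {v g : Qd (ZMod p)} (hv : v ∈ transl (ZMod p)) :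
    vec ⁅v, g⁆ = vec v - Matrix.mulVec (blk g).1 (vec v) := by
  have h1 : g * v⁻¹ * g⁻¹ ∈ transl (ZMod p) := transl_normal.conj_mem _ (inv_mem hv) g
  rw [commutatorElement_def, show v * g * v⁻¹ * g⁻¹ = v * (g * v⁻¹ * g⁻¹) by group, vec_mul,
    conj_transl g (inv_mem hv), mem_transl.mp hv]
  have h2 := vec_mul v⁻¹ v
  rw [inv_mul_cancel, mem_transl.mp (inv_mem hv), vec_one, Matrix.SpecialLinearGroup.coe_one,
    Matrix.one_mulVec] at h2
  rw [Matrix.SpecialLinearGroup.coe_one, Matrix.one_mulVec,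
    show vec v⁻¹ = -vec v from eq_neg_of_add_eq_zero_right h2.symm, Matrix.mulVec_neg]
  abel

theorem not_isNormalizerPStable_qd : ¬ Cfsg.IsNormalizerPStable p (Qd (ZMod p)) := by
  intro hst
  set V := transl (ZMod p) with hV
  set C := centralizer (V : Set (Qd (ZMod p))) with hC
  set g : Qd (ZMod p) := lift (PSL2Elements.u 1) with hg
  have hpow : ∀ x ∈ zpowers g, ∃ s, x = lift (PSL2Elements.u s) := by
    intro x hx
    have : zpowers g ≤ (PSL2Sylow.uSub (ZMod p)).map lift :=
      zpowers_le.mpr ⟨_, PSL2Sylow.mem_uSub.mpr ⟨1, rfl⟩, rfl⟩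
    obtain ⟨y, hy, rfl⟩ := this hx
    obtain ⟨s, rfl⟩ := PSL2Sylow.mem_uSub.mp hy
    exact ⟨s, rfl⟩
  have hquad : ⁅⁅V, zpowers g⁆, zpowers g⁆ = ⊥ := by
    rw [commutator_eq_bot_iff_le_centralizer, commutator_le]
    intro v hv x hx
    obtain ⟨s, rfl⟩ := hpow x hx
    refine mem_centralizer_iff.mpr fun y hy => ?_
    obtain ⟨t, rfl⟩ := hpow y hy
    have hcV : ⁅v, lift (PSL2Elements.u s)⁆ ∈ V := by
      rw [commutatorElement_def, mul_assoc v, mul_assoc]
      exact mul_mem hv (transl_normal.conj_mem _ (inv_mem hv) _)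
    have h1 : lift (PSL2Elements.u t) * ⁅v, lift (PSL2Elements.u s)⁆ *
        (lift (PSL2Elements.u t))⁻¹ = ⁅v, lift (PSL2Elements.u s)⁆ := by
      apply ext_blk_vec
      · rw [mem_transl.mp hcV, mem_transl.mp (transl_normal.conj_mem _ hcV _)]
      · rw [conj_transl _ hcV, blk_lift, vec_comm hv, blk_lift]
        funext i
        fin_cases i <;>
          simp [PSL2Elements.u, PSL2Elements.mk2, Matrix.mulVec, dotProduct, Fin.sum_univ_two]
    exact mul_inv_eq_iff_eq_mul.mp h1
  have h1 := isPStableOn_of_isNormalizerPStable hst V transl_isPGroup g hquad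
  let f : Qd (ZMod p) ⧸ C →* SL(2, ZMod p) := QuotientGroup.lift C blk fun c hc => by
    rw [MonoidHom.mem_ker]
    refine eq_one_of_mulVec fun w _ => ?_
    have hm : trn (Multiplicative.ofAdd w) ∈ V := by simp [hV, mem_transl, trn]
    have h2 := conj_transl c hm
    rw [show c * trn (Multiplicative.ofAdd w) * c⁻¹ = trn (Multiplicative.ofAdd w) by
      rw [← mem_centralizer_iff.mp hc _ hm, mul_inv_cancel_right]] at h2
    simpa [trn] using h2.symm
  have hf : Function.Surjective f := fun A => ⟨QuotientGroup.mk' C (lift A), blk_lift A⟩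
  have h2 := HallCore.map_pCore_le hf (mem_map_of_mem f h1)
  have hbot : Cfsg.pCore p SL(2, ZMod p) = ⊥ :=
    haveI := HallCore.pCore_normal p SL(2, ZMod p)
    normal_pGroup_eq_bot _ (HallCore.isPGroup_pCore p _)
  rw [hbot, mem_bot] at h2
  have h3 : PSL2Elements.u (1 : ZMod p) = PSL2Elements.u 0 := by
    rw [PSL2Elements.u_zero]
    exact (blk_lift _).symm.trans h2
  exact one_ne_zero (PSL2Elements.u_injective h3)

theorem thomY_top_characteristic (n : ℕ) (S : Type u) [Group S] :
    (thomY n (⊤ : Subgroup S)).Characteristic := by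
  rw [characteristic_iff_map_eq]
  intro φ
  rw [← thomY_map φ.injective, Subgroup.map_top_of_surjective _ φ.surjective]

theorem normalizer_thomY_qd {n : ℕ} (hn : n = 0 ∨ n = p) (S : Sylow p (Qd (ZMod p))) :
    normalizer (thomY n (S : Subgroup (Qd (ZMod p))) : Set (Qd (ZMod p))) =
      normalizer ((S : Subgroup (Qd (ZMod p))) : Set (Qd (ZMod p))) := by
  have h := thomY_map (n := n) (S : Subgroup (Qd (ZMod p))).subtype_injective ⊤
  rw [← MonoidHom.range_eq_map, range_subtype] at h
  rw [h]
  refine (S2763.key S _ ?_ (thomY_top_characteristic n _)).1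
  refine thomY_ne_bot hn (S.isPGroup'.to_subgroup ⊤ |>.of_equiv (MulEquiv.refl _)) ?_
  intro htop
  have hS : (S : Subgroup (Qd (ZMod p))) = ⊥ := by
    rw [← range_subtype (S : Subgroup (Qd (ZMod p))), MonoidHom.range_eq_map, htop, Subgroup.map_bot]
  have hle : transl (ZMod p) ≤ (S : Subgroup (Qd (ZMod p))) := by
    rw [← transl_eq_pCore (p := p)]
    exact HallCore.pCore_le_sylow S
  have hm : trn (Multiplicative.ofAdd (![1, 0] : Fin 2 → ZMod p)) ∈ (⊥ : Subgroup (Qd (ZMod p))) :=
    hS ▸ hle (by simp [mem_transl, trn])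
  have h2 := congrArg vec (mem_bot.mp hm)
  simp [trn] at h2

theorem not_controls_qd {n : ℕ} (hn : n = 0 ∨ n = p) {X : Type u} [Group X] [Finite X]
    (e : X ≃* Qd (ZMod p)) (T : Sylow p X) :
    ¬ Cfsg.ControlsStrongFusion p (thomY n (T : Subgroup X)) := by
  rintro ⟨T', -, hctl⟩
  set S := T.mapSurjective (f := e.toMonoidHom) e.surjective with hS
  set V := (transl (ZMod p)).comap e.toMonoidHom with hV
  have hVT : V ≤ (T' : Subgroup X) := by
    haveI : V.Normal := transl_normal.comap _
    refine (HallCore.le_pCore ?_).trans (HallCore.pCore_le_sylow T')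
    exact transl_isPGroup.comap_of_injective _ e.injective
  obtain ⟨-, hc⟩ := hctl (V : Set X) (fun a ha => hVT ha)
  have hsurj : ∀ A : SL(2, ZMod p),
      ∃ x ∈ normalizer ((S : Subgroup (Qd (ZMod p))) : Set (Qd (ZMod p))), blk x = A := by
    intro A
    obtain ⟨x, hx, hxe⟩ := hc (e.symm (lift A)) (by
      rintro _ ⟨a, ha, rfl⟩
      refine hVT ?_
      show e (e.symm (lift A) * a * (e.symm (lift A))⁻¹) ∈ transl (ZMod p)
      rw [map_mul, map_mul, map_inv, e.apply_symm_apply]
      exact transl_normal.conj_mem _ ha _)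
    refine ⟨e x, ?_, ?_⟩
    · rw [← normalizer_thomY_qd hn S,
        show thomY n (S : Subgroup (Qd (ZMod p))) = thomY n ((T : Subgroup X).map e.toMonoidHom) from rfl,
        thomY_map (f := e.toMonoidHom) e.injective]
      exact le_normalizer_map e.toMonoidHom (mem_map_of_mem e.toMonoidHom hx)
    · symm
      refine Subtype.ext (Matrix.ext_iff_mulVec.2 fun w => ?_)
      have hm : trn (Multiplicative.ofAdd w) ∈ transl (ZMod p) := by simp [mem_transl, trn]
      have h1 := hxe (e.symm (trn (Multiplicative.ofAdd w))) (show e (e.symm _) ∈ _ by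
        rw [e.apply_symm_apply]; exact hm)
      have h2 := congrArg e h1
      simp only [map_mul, map_inv, e.apply_symm_apply] at h2
      have h3 := congrArg vec h2
      rw [conj_transl _ hm, conj_transl _ hm, blk_lift] at h3
      simpa [trn] using h3
  -- the image of the Sylow subgroup would be normal in `SL(2,p)`
  set Sb := (S : Subgroup (Qd (ZMod p))).map (blk : Qd (ZMod p) →* SL(2, ZMod p)) with hSb
  have hn' : Sb.Normal := by
    rw [← normalizer_eq_top_iff, ← top_le_iff]
    intro A _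
    obtain ⟨x, hx, rfl⟩ := hsurj A
    exact le_normalizer_map _ (mem_map_of_mem _ hx)
  haveI := hn'
  have hbot := normal_pGroup_eq_bot Sb (S.isPGroup'.map _)
  let S' : Sylow p SL(2, ZMod p) := S.mapSurjective (f := (blk : Qd (ZMod p) →* _)) blk_surjective
  refine S'.ne_bot_of_dvd_card ?_ hbot
  rw [PSLCard.card_SL2, Nat.card_zmod]
  exact dvd_mul_right p _

end Cfsg.Agent.GlaubermanQd
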