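import Cfsg.Agent.Lib.ConjFunctorEngel
import Cfsg.Agent.Lib.HallCore

/-!
# Glauberman: a quadratic element makes `p`-th powers of fixed points invariant
-/

set_option autoImplicit false

open scoped commutatorElement Pointwise
open Subgroup Cfsg.Agent.ConjFunctorBasic Cfsg.Agent.ConjFunctorEngel

namespace Cfsg.Agent.GlaubermanQuadPow

universe u v

variable {G : Type u} [Group G] [Finite G] {p : ℕ} [Fact p.Prime]

section
variable {Y : Type v} [AddCommGroup Y]

/-- The orbit sum over a `p`-group vanishes when some element with vanishing sums moves the point. -/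
theorem smul_orbit_sum_eq_zero {P : Type*} [Group P] [Fintype P] (hP : IsPGroup p P)
    (ρ : P →* AddMonoid.End Y) (E : Set P) (hE : ∀ s : P, ∀ e ∈ E, s * e * s⁻¹ ∈ E)
    (k r₀ : ℕ) (hsum : ∀ e ∈ E, ∀ m : ℕ, 1 ≤ m → ∀ y : Y, r₀ • y = 0 → (ρ e ^ (p ^ m)) y = y →
      k • ∑ j ∈ Finset.range (p ^ m), (ρ e ^ j) y = 0)
    (K : Subgroup P) [Fintype (P ⧸ K)] (y : Y) (hy : ∀ x ∈ K, ρ x y = y)
    (hyt : r₀ • y = 0) (hK : ¬ E ⊆ K) :
    k • ∑ c : P ⧸ K, orbitVal ρ K y hy c = 0 := by
  classical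
  obtain ⟨H, ⟨hKH, hH⟩, hmax⟩ := Set.Finite.exists_maximal
    (s := {H : Subgroup P | K ≤ H ∧ ¬ E ⊆ H}) (Set.toFinite _) ⟨K, le_rfl, hK⟩
  -- all of `E` normalises `H`
  have hHlt : H < ⊤ := lt_top_iff_ne_top.mpr fun h => hH (h ▸ fun x _ => mem_top x)
  haveI : Group.IsNilpotent P := hP.isNilpotent
  have hN := Group.normalizerCondition_of_isNilpotent (G := P) H hHlt
  have hEN : E ⊆ normalizer (H : Set P) := by
    by_contra hcon
    exact hN.not_ge (hmax ⟨hKH.trans hN.le, hcon⟩ hN.le)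
  obtain ⟨e, heE, heH⟩ := Set.not_subset.mp hH
  set H' := H ⊔ zpowers e with hH'
  have hH'N : H' ≤ normalizer (H : Set P) := sup_le le_normalizer (zpowers_le.mpr (hEN heE))
  haveI : (H.subgroupOf H').Normal := normal_subgroupOf_of_le_normalizer hH'N
  set e' : H' := ⟨e, mem_sup_right (mem_zpowers e)⟩ with he'
  set r := orderOf (QuotientGroup.mk' (H.subgroupOf H') e') with hr
  obtain ⟨m, hm⟩ := (IsPGroup.iff_orderOf.mp ((hP.to_subgroup H').to_quotient _))
    (QuotientGroup.mk' (H.subgroupOf H') e')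
  have hm1 : 1 ≤ m := by
    by_contra hcon
    have : m = 0 := by omega
    subst this
    rw [pow_zero, orderOf_eq_one_iff, QuotientGroup.mk'_apply, QuotientGroup.eq_one_iff] at hm
    exact heH hm
  letI := Fintype.ofFinite (P ⧸ H)
  letI := Fintype.ofFinite (P ⧸ H')
  letI := Fintype.ofFinite (↥H ⧸ K.subgroupOf H)
  letI := Fintype.ofFinite (↥H' ⧸ H.subgroupOf H')
  set θ : Y := ∑ b : ↥H ⧸ K.subgroupOf H,
    orbitVal (ρ.comp H.subtype) (K.subgroupOf H) y (fun k hk => hy k (mem_subgroupOf.mp hk)) b with hθ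
  have hθH : ∀ h ∈ H, ρ h θ = θ := by
    intro h hh
    rw [hθ, map_sum]
    refine Fintype.sum_equiv (MulAction.toPerm (⟨h, hh⟩ : H)) _ _ fun b => ?_
    exact (orbitVal_smul (ρ.comp H.subtype) (K.subgroupOf H) y _ (⟨h, hh⟩ : H) b).symm
  have split : ∀ (A B : Subgroup P) (hAB : A ≤ B) (z : Y) (hz : ∀ a ∈ A, ρ a z = z)
      [Fintype (P ⧸ A)] [Fintype (P ⧸ B)] [Fintype (↥B ⧸ A.subgroupOf B)],
      ∑ c : P ⧸ A, orbitVal ρ A z hz c = ∑ c : P ⧸ B, ρ c.out
        (∑ b : ↥B ⧸ A.subgroupOf B,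
          orbitVal (ρ.comp B.subtype) (A.subgroupOf B) z (fun a ha => hz a (mem_subgroupOf.mp ha)) b) := by
    intro A B hAB z hz _ _ _
    rw [← (quotientEquivProdOfLE hAB).symm.sum_comp, Fintype.sum_prod_type]
    refine Fintype.sum_congr _ _ fun c => ?_
    rw [map_sum]
    refine Fintype.sum_congr _ _ fun b => ?_
    induction b using QuotientGroup.induction_on with
    | H b =>
      show ρ (c.out * (b : P)) z = ρ c.out (ρ (b : P) z)
      rw [map_mul]; rfl
  rw [split K H hKH y hy]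
  have h2 : ∑ c : P ⧸ H, ρ c.out θ = ∑ c : P ⧸ H, orbitVal ρ H θ hθH c :=
    Fintype.sum_congr _ _ fun c => by
      conv_rhs => rw [← Quotient.out_eq' c]
      rfl
  rw [← hθ, h2, split H H' le_sup_left θ hθH]
  rw [Finset.smul_sum]
  refine Finset.sum_eq_zero fun c _ => ?_
  suffices h3 : k • ∑ b : ↥H' ⧸ H.subgroupOf H',
      orbitVal (ρ.comp H'.subtype) (H.subgroupOf H') θ (fun a ha => hθH a (mem_subgroupOf.mp ha)) b = 0 by
    rw [← map_nsmul, h3, map_zero]
  -- the powers of `e` represent the cosets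
  have hbij : Function.Bijective
      (fun j : Fin r => (QuotientGroup.mk' (H.subgroupOf H') e') ^ (j : ℕ)) := by
    constructor
    · intro i j hij
      exact Fin.ext (pow_injOn_Iio_orderOf i.2 j.2 hij)
    · intro b
      obtain ⟨⟨b, hb⟩, rfl⟩ := QuotientGroup.mk'_surjective _ b
      have hz : zpowers e ≤ normalizer (H : Set P) := zpowers_le.mpr (hEN heE)
      have hb' : b ∈ ((zpowers e : Subgroup P) : Set P) * (H : Set P) := by
        rw [← coe_mul_of_left_le_normalizer_right (zpowers e) H hz, sup_comm]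
        exact hb
      obtain ⟨x, hx, h, hh, rfl⟩ := Set.mem_mul.mp hb'
      obtain ⟨j, rfl⟩ := mem_zpowers_iff.mp hx
      have hmk : QuotientGroup.mk' (H.subgroupOf H') ⟨e ^ j * h, hb⟩
          = (QuotientGroup.mk' (H.subgroupOf H') e') ^ j := by
        rw [← map_zpow, QuotientGroup.mk'_apply, QuotientGroup.mk'_apply, QuotientGroup.eq, mem_subgroupOf]
        simpa [he'] using inv_mem hh
      rw [hmk]
      obtain ⟨k, hk⟩ : ∃ k : ℕ, (QuotientGroup.mk' (H.subgroupOf H') e') ^ k
          = (QuotientGroup.mk' (H.subgroupOf H') e') ^ j :=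
        (mem_powers_iff_mem_zpowers.mpr (zpow_mem (mem_zpowers _) j) : _)
      refine ⟨⟨k % r, Nat.mod_lt _ (orderOf_pos _)⟩, ?_⟩
      simp only [hr, pow_mod_orderOf]
      exact hk
  rw [← (Equiv.ofBijective _ hbij).sum_comp]
  simp only [Equiv.ofBijective_apply]
  refine Eq.trans (congrArg (fun v : Y => k • v) (Fin.sum_univ_eq_sum_range (fun j => orbitVal (ρ.comp H'.subtype) (H.subgroupOf H') θ
      (fun a ha => hθH a (mem_subgroupOf.mp ha)) ((QuotientGroup.mk' (H.subgroupOf H') e') ^ j)) r)) ?_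
  have hrm : r = p ^ m := hr.trans hm
  rw [hrm]
  have hθt : r₀ • θ = 0 := by
    rw [hθ, Finset.smul_sum]
    refine Finset.sum_eq_zero fun b _ => ?_
    induction b using QuotientGroup.induction_on with
    | H b => exact (map_nsmul _ _ _).symm.trans (by rw [hyt, map_zero])
  have hθe : (ρ e ^ (p ^ m)) θ = θ := by
    rw [← map_pow]
    refine hθH _ ?_
    have h1 := pow_orderOf_eq_one (QuotientGroup.mk' (H.subgroupOf H') e')
    rw [hm, ← map_pow, QuotientGroup.mk'_apply, QuotientGroup.eq_one_iff, mem_subgroupOf] at h1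
    simpa [he'] using h1
  refine Eq.trans (congrArg (fun v : Y => k • v) (Finset.sum_congr rfl fun j _ => ?_))
    (hsum e heE m hm1 θ hθt hθe)
  rw [← map_pow]
  show ρ ((e' ^ j : H') : P) θ = (ρ e ^ j) θ
  rw [← map_pow, Subgroup.coe_pow]

/-- A multiple of a vector fixed by a Sylow subgroup is invariant if the quadratic sums vanish. -/
theorem smul_fixed_base (S : Sylow p G) (M : Subgroup G) (ρ : G →* AddMonoid.End Y) (E : Set G)
    (hE : ∀ s ∈ (S : Subgroup G), ∀ e ∈ E, s * e * s⁻¹ ∈ E) (hES : E ⊆ (S : Subgroup G))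
    (hSM : (S : Subgroup G) ≤ M) (hfix : ∀ t : G, (∀ e ∈ E, t⁻¹ * e * t ∈ M) → t ∈ M)
    (k r₀ : ℕ) (hsum : ∀ e ∈ E, ∀ m : ℕ, 1 ≤ m → ∀ y : Y, r₀ • y = 0 → (ρ e ^ (p ^ m)) y = y →
      k • ∑ j ∈ Finset.range (p ^ m), (ρ e ^ j) y = 0)
    (w : Y) (hw : ∀ s ∈ (S : Subgroup G), ρ s w = w) (hu : ∀ m ∈ M, ρ m (k • w) = k • w)
    (hwt : r₀ • w = 0) : ∀ x : G, ρ x (k • w) = k • w := by
  classical
  letI := Fintype.ofFinite (G ⧸ M)
  letI := Fintype.ofFinite (S : Subgroup G)
  letI := Fintype.ofFinite (MulAction.orbitRel.Quotient (S : Subgroup G) (G ⧸ M))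
  letI : ∀ ω : MulAction.orbitRel.Quotient (S : Subgroup G) (G ⧸ M),
      Fintype (MulAction.orbitRel.Quotient.orbit ω) := fun ω => Fintype.ofFinite _
  set f := orbitVal ρ M (k • w) hu with hf
  suffices htot : ∑ q : G ⧸ M, f q = k • w by
    intro x
    rw [← htot, map_sum]
    exact Fintype.sum_equiv (MulAction.toPerm x) _ _ fun q => (orbitVal_smul ρ M (k • w) hu x q).symm
  set ω₀ : MulAction.orbitRel.Quotient (S : Subgroup G) (G ⧸ M) :=
    Quotient.mk'' ((1 : G) : G ⧸ M) with hω₀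
  have hfix1 : ∀ s : (S : Subgroup G), s • ((1 : G) : G ⧸ M) = ((1 : G) : G ⧸ M) := fun s => by
    show (((s : G) * 1 : G) : G ⧸ M) = _
    rw [mul_one, QuotientGroup.eq]; simpa using hSM s.2
  rw [← (MulAction.selfEquivSigmaOrbits' (S : Subgroup G) (G ⧸ M)).symm.sum_comp, Fintype.sum_sigma,
    Fintype.sum_eq_single ω₀ ?_]
  · have horb : MulAction.orbitRel.Quotient.orbit ω₀ = {((1 : G) : G ⧸ M)} := by
      rw [hω₀, MulAction.orbitRel.Quotient.orbit_mk]
      exact Set.eq_singleton_iff_unique_mem.mpr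
        ⟨MulAction.mem_orbit_self _, fun x ⟨s, hs⟩ => hs ▸ hfix1 s⟩
    haveI : Unique (MulAction.orbitRel.Quotient.orbit ω₀) :=
      { default := ⟨((1 : G) : G ⧸ M), by rw [horb]; rfl⟩
        uniq := fun x => Subtype.ext ((Set.ext_iff.mp horb x.1).mp x.2) }
    rw [Fintype.sum_unique]
    show f (default : MulAction.orbitRel.Quotient.orbit ω₀).1 = k • w
    rw [(Set.ext_iff.mp horb _).mp (default : MulAction.orbitRel.Quotient.orbit ω₀).2]
    show ρ 1 (k • w) = k • w
    rw [map_one]; rfl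
  · intro ω hω
    obtain ⟨x, rfl⟩ := Quotient.exists_rep ω
    obtain ⟨t, rfl⟩ := QuotientGroup.mk_surjective x
    set K := MulAction.stabilizer (S : Subgroup G) (t : G ⧸ M) with hKdef
    letI := Fintype.ofFinite ((S : Subgroup G) ⧸ K)
    -- a representative with a fixed preimage
    have hKM : cmap t⁻¹ (K.map (S : Subgroup G).subtype) ≤ M := cmap_le_iff.mpr fun a ha => by
      obtain ⟨s, hs, rfl⟩ := ha
      have h2 : (((s : G) * t : G) : G ⧸ M) = (t : G ⧸ M) := hs
      have h3 := M.inv_mem (QuotientGroup.eq.mp h2)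
      simpa [mul_assoc] using h3
    obtain ⟨m, hm, hmS⟩ := ((isSylowIn_top S).mono hSM le_top).exists_conj_le
      (isPGroup_cmap ((S.isPGroup'.to_subgroup K).map _)) hKM
    set y := ρ (t * m⁻¹) w with hydef
    have hyK : ∀ a ∈ K, (ρ.comp (S : Subgroup G).subtype) a y = y := fun a ha => by
      have h1 : m * (t⁻¹ * (a : G) * t⁻¹⁻¹) * m⁻¹ ∈ (S : Subgroup G) :=
        cmap_le_iff.mp hmS _ (conj_mem_cmap (mem_map_of_mem _ ha))
      show (ρ (a : G) * ρ (t * m⁻¹)) w = _
      rw [← map_mul, show (a : G) * (t * m⁻¹) = t * m⁻¹ * (m * (t⁻¹ * (a : G) * t⁻¹⁻¹) * m⁻¹) by group,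
        map_mul]
      show ρ (t * m⁻¹) (ρ _ w) = _
      rw [hw _ h1]
    have hyt : r₀ • y = 0 := by rw [hydef, ← map_nsmul, hwt, map_zero]
    have hky : k • y = f (t : G ⧸ M) := by
      rw [hydef, ← map_nsmul]
      show f ((t * m⁻¹ : G) : G ⧸ M) = f (t : G ⧸ M)
      exact congrArg f (QuotientGroup.eq.mpr (by simpa [mul_assoc] using hm))
    have hnot : ¬ {x : (S : Subgroup G) | (x : G) ∈ E} ⊆ (K : Set (S : Subgroup G)) := fun hsub => hω (by
      have htM : t ∈ M := hfix t fun e he => by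
        have h1 := hsub (show (⟨e, hES he⟩ : (S : Subgroup G)) ∈ {x : (S : Subgroup G) | (x : G) ∈ E} from he)
        have h2 : ((e * t : G) : G ⧸ M) = (t : G ⧸ M) := h1
        have h3 := M.inv_mem (QuotientGroup.eq.mp h2)
        simpa [mul_assoc] using h3
      rw [hω₀]
      apply congrArg Quotient.mk''
      rw [QuotientGroup.eq]; simpa using inv_mem htM)
    have h0 := smul_orbit_sum_eq_zero (S.isPGroup') (ρ.comp (S : Subgroup G).subtype)
      {x : (S : Subgroup G) | (x : G) ∈ E} (fun s e he => hE s s.2 e he) k r₀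
      (fun e he m hm y => hsum e he m hm y) K y hyK hyt hnot
    rw [Finset.smul_sum] at h0
    rw [← h0]
    let oe : MulAction.orbitRel.Quotient.orbit
        (Quotient.mk'' (t : G ⧸ M) : MulAction.orbitRel.Quotient (S : Subgroup G) (G ⧸ M)) ≃
        (S : Subgroup G) ⧸ K :=
      (Equiv.setCongr (MulAction.orbitRel.Quotient.orbit_mk (t : G ⧸ M))).trans
        (MulAction.orbitEquivQuotientStabilizer (S : Subgroup G) (t : G ⧸ M))
    refine (Fintype.sum_equiv oe.symm _ _ fun c => ?_).symm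
    induction c using QuotientGroup.induction_on with
    | H s =>
      show k • ρ (s : G) y = f ((oe.symm (QuotientGroup.mk s)).1)
      have hs : (oe.symm (QuotientGroup.mk s)).1 = s • (t : G ⧸ M) :=
        MulAction.orbitEquivQuotientStabilizer_symm_apply (S : Subgroup G) (t : G ⧸ M) s
      rw [hs, ← map_nsmul, hky]
      exact (orbitVal_smul ρ M (k • w) hu (s : G) (t : G ⧸ M)).symm

end

/-- For a quadratic map the relevant sums vanish. -/
theorem smul_sum_eq_zero {Y : Type v} [AddCommGroup Y] (φ : AddMonoid.End Y)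
    (hφ : ∀ y, φ (φ y - y) = φ y - y) {k : ℕ} (hk : k = p ∨ (k = 1 ∧ p ≠ 2)) {m : ℕ} (hm : 1 ≤ m)
    {y : Y} (hy : (p * k) • y = 0) (hper : (φ ^ (p ^ m)) y = y) :
    k • ∑ j ∈ Finset.range (p ^ m), (φ ^ j) y = 0 := by
  have hpow : ∀ j : ℕ, (φ ^ j) y = y + j • (φ y - y) := by
    intro j
    induction j with
    | zero => rw [zero_smul, add_zero, pow_zero]; rfl
    | succ j ih =>
      rw [pow_succ']
      show φ ((φ ^ j) y) = _
      rw [ih, map_add, map_nsmul, hφ, succ_nsmul]
      abel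
  set n := p ^ m with hn
  set δ := φ y - y
  have hnδ : n • δ = 0 := by
    have := hpow n
    rwa [hper, left_eq_add] at this
  rw [Finset.sum_congr rfl (fun j _ => hpow j), Finset.sum_add_distrib, Finset.sum_const,
    Finset.card_range, ← Finset.sum_smul, smul_add, ← mul_nsmul', ← mul_nsmul']
  have h1 : (k * n) • y = 0 := by
    obtain ⟨c, hc⟩ : p * k ∣ k * n := by
      rw [mul_comm p k]; exact mul_dvd_mul_left k (dvd_pow_self p (by omega))
    rw [hc, mul_comm (p * k) c, mul_nsmul', hy, nsmul_zero]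
  have h2 : (k * ∑ j ∈ Finset.range n, j) • δ = 0 := by
    obtain ⟨c, hc⟩ : n ∣ k * ∑ j ∈ Finset.range n, j := by
      have h3 := Finset.sum_range_id_mul_two n
      rcases (Fact.out : p.Prime).eq_two_or_odd' with hp2 | hodd
      · obtain rfl : k = 2 := hk.elim (fun h => h.trans hp2) fun h => absurd hp2 h.2
        exact ⟨n - 1, by rw [mul_comm 2]; exact h3⟩
      · refine dvd_mul_of_dvd_right ?_ k
        have hco : Nat.Coprime n 2 := Nat.Coprime.pow_left m (Nat.coprime_two_right.mpr hodd)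
        exact hco.dvd_of_dvd_mul_right ⟨n - 1, h3⟩
    rw [hc, mul_comm n c, mul_nsmul', hnδ, nsmul_zero]
  rw [h1, h2, add_zero]

/-- **Glauberman's averaging theorem** for quadratic elements. -/
theorem smul_fixed_of_quadratic (S : Sylow p G) (M : Subgroup G) (E : Set G)
    (hE : ∀ s ∈ (S : Subgroup G), ∀ e ∈ E, s * e * s⁻¹ ∈ E) (hES : E ⊆ (S : Subgroup G))
    (hSM : (S : Subgroup G) ≤ M) (hfix : ∀ t : G, (∀ e ∈ E, t⁻¹ * e * t ∈ M) → t ∈ M)
    {k : ℕ} (hk : k = p ∨ (k = 1 ∧ p ≠ 2)) :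
    ∀ (j : ℕ) {Y : Type v} [AddCommGroup Y] (ρ : G →* AddMonoid.End Y),
      (∀ e ∈ E, ∀ y : Y, ρ e (ρ e y - y) = ρ e y - y) →
      ∀ w : Y, (∀ s ∈ (S : Subgroup G), ρ s w = w) → (∀ m ∈ M, ρ m (k • w) = k • w) →
        (p ^ j) • (k • w) = 0 → ∀ x : G, ρ x (k • w) = k • w := by
  intro j
  induction j with
  | zero =>
    intro Y _ ρ _ w _ _ h x
    rw [pow_zero, one_smul] at h
    rw [h, map_zero]
  | succ j ih =>
    intro Y _ ρ hq w hw hu hj
    set u := k • w with hudef
    -- the top power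
    have htop : ∀ x : G, ρ x ((p ^ j) • u) = (p ^ j) • u := by
      have h := smul_fixed_base S M ρ E hE hES hSM hfix k (p * k)
        (fun e he m hm y => smul_sum_eq_zero (ρ e) (hq e he) hk hm) ((p ^ j) • w)
        (fun s hs => by rw [map_nsmul, hw s hs])
        (fun m hm => by rw [smul_comm, map_nsmul, hu m hm])
        (by rw [← hj, hudef, ← mul_nsmul', ← mul_nsmul']; congr 1; ring)
      intro x
      rw [hudef, smul_comm]
      exact h x
    let Z : AddSubgroup Y :=
      { carrier := {y | ∀ x, ρ x y = y}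
        zero_mem' := fun x => map_zero _
        add_mem' := fun {a b} ha hb x => by rw [map_add, ha x, hb x]
        neg_mem' := fun {a} ha x => by rw [map_neg, ha x] }
    have hZ : ∀ x, Z ≤ AddSubgroup.comap (ρ x : Y →+ Y) Z := fun x y hy x' => by
      show ρ x' (ρ x y) = ρ x y
      rw [hy x, hy x']
    let ρ' : G →* AddMonoid.End (Y ⧸ Z) :=
      { toFun := fun x => QuotientAddGroup.map Z Z (ρ x : Y →+ Y) (hZ x)
        map_one' := AddMonoidHom.ext fun q => by
          induction q using QuotientAddGroup.induction_on with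
          | H y => show ((ρ 1 y : Y) : Y ⧸ Z) = _; rw [map_one]; rfl
        map_mul' := fun a b => AddMonoidHom.ext fun q => by
          induction q using QuotientAddGroup.induction_on with
          | H y => show ((ρ (a * b) y : Y) : Y ⧸ Z) = _; rw [map_mul]; rfl }
    have hmk : ∀ (y : Y) (n : ℕ), ((n • y : Y) : Y ⧸ Z) = n • (y : Y ⧸ Z) := fun y n => rfl
    have hmod : ∀ x, ρ x u - u ∈ Z := fun x => by
      have h := ih ρ' (fun e he q => by
          induction q using QuotientAddGroup.induction_on with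
          | H y => exact congrArg (fun a : Y => (a : Y ⧸ Z)) (hq e he y))
        (w : Y ⧸ Z) (fun s hs => congrArg (fun a : Y => (a : Y ⧸ Z)) (hw s hs))
        (fun m hm => congrArg (fun a : Y => (a : Y ⧸ Z)) (hu m hm))
        ((QuotientAddGroup.eq_zero_iff _).mpr htop) x
      exact QuotientAddGroup.eq_iff_sub_mem.mp h
    let d : G →* Multiplicative Y := MonoidHom.mk' (fun x => Multiplicative.ofAdd (ρ x u - u))
      fun a b => by
        rw [← ofAdd_add]
        congr 1
        show ρ (a * b) u - u = _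
        rw [map_mul]
        show ρ a (ρ b u) - u = _
        have h1 := hmod b a
        rw [map_sub] at h1
        rw [eq_add_of_sub_eq' h1]
        abel
    have hSker : (S : Subgroup G) ≤ d.ker := fun s hs => by
      rw [MonoidHom.mem_ker]
      show Multiplicative.ofAdd (ρ s u - u) = 1
      rw [hu s (hSM hs), sub_self, ofAdd_zero]
    have hp : IsPGroup p d.range := fun a => ⟨j + 1, by
      obtain ⟨_, x, rfl⟩ := a
      refine Subtype.ext ?_
      show Multiplicative.ofAdd (ρ x u - u) ^ (p ^ (j + 1)) = 1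
      rw [← ofAdd_nsmul, nsmul_sub, ← map_nsmul, hj, map_zero, sub_self, ofAdd_zero]⟩
    haveI : Finite d.range := Finite.of_surjective d.rangeRestrict d.rangeRestrict_surjective
    obtain ⟨i, hi⟩ := IsPGroup.iff_card.mp hp
    have hdvd : Nat.card d.range ∣ (S : Subgroup G).index := by
      rw [← Subgroup.index_ker]; exact Subgroup.index_dvd_of_le hSker
    have hone : Nat.card d.range = 1 := by
      rcases Nat.eq_zero_or_pos i with h0 | h0
      · rw [hi, h0, pow_zero]
      · exact absurd ((dvd_pow_self p h0.ne').trans (hi ▸ hdvd)) S.not_dvd_index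
    intro x
    have h2 : d x = 1 := by
      have := (Subgroup.card_eq_one.mp hone).le (⟨x, rfl⟩ : d x ∈ d.range)
      rwa [Subgroup.mem_bot] at this
    exact sub_eq_zero.mp (Multiplicative.ofAdd.injective h2)

variable (p) in
/-- A quadratic element on `V`. -/
def Quad (V : Subgroup G) (g : G) : Prop := ∀ v ∈ V, ⁅⁅v, g⁆, g⁆ = 1

open scoped IsMulCommutative in
/-- If a quadratic element outside `O_p(G)` exists and all proper overgroups of a Sylow subgroup fix
`w ^ k`, then it is central. -/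
theorem pow_mem_center (S : Sylow p G) (V : Subgroup G) [V.Normal] [IsMulCommutative V]
    (hV : IsPGroup p V) {g : G} (hg : g ∈ (S : Subgroup G)) (hg0 : g ∉ Cfsg.pCore p G)
    (hgq : Quad V g) {k : ℕ} (hk : k = p ∨ (k = 1 ∧ p ≠ 2)) {w : G} (hwV : w ∈ V)
    (hwS : ∀ s ∈ (S : Subgroup G), s * w = w * s)
    (hsub : ∀ K : Subgroup G, K ≠ ⊤ → (S : Subgroup G) ≤ K → ∀ x ∈ K, x * w ^ k = w ^ k * x) :
    w ^ k ∈ center G := by
  set M := centralizer ({w ^ k} : Set G) with hMdef
  have hSM : (S : Subgroup G) ≤ M := fun s hs => mem_centralizer_singleton_iff.mpr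
    ((Commute.pow_right (hwS s hs : Commute s w) k))
  have hM : ∀ K : Subgroup G, K ≠ ⊤ → (S : Subgroup G) ≤ K → K ≤ M := fun K hK hSK x hx =>
    mem_centralizer_singleton_iff.mpr (hsub K hK hSK x hx)
  set E : Set G := {e | e ∈ (S : Subgroup G) ∧ Quad V e} with hEdef
  have hconjQ : ∀ (c e : G), Quad V e → Quad V (c * e * c⁻¹) := fun c e he v hv => by
    have h1 := he (c⁻¹ * v * c) (by simpa using ‹V.Normal›.conj_mem v hv c⁻¹)
    have h2 := congrArg (fun a => c * a * c⁻¹) h1
    simp only [commutatorElement_def, mul_one, mul_inv_cancel] at h2 ⊢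
    simpa [mul_assoc] using h2
  have hE : ∀ s ∈ (S : Subgroup G), ∀ e ∈ E, s * e * s⁻¹ ∈ E := fun s hs e he =>
    ⟨mul_mem (mul_mem hs he.1) (inv_mem hs), hconjQ s e he.2⟩
  have hfix : ∀ t : G, (∀ e ∈ E, t⁻¹ * e * t ∈ M) → t ∈ M := by
    intro t ht
    set A := closure E with hA
    have hAS : A ≤ (S : Subgroup G) := (closure_le _).mpr fun e he => he.1
    have hle : cmap t⁻¹ A ≤ M := by
      rw [hA, cmap, MonoidHom.map_closure, closure_le]
      rintro _ ⟨e, he, rfl⟩
      simpa using ht e he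
    obtain ⟨m, hm, hmS⟩ := ((isSylowIn_top S).mono hSM le_top).exists_conj_le
      (isPGroup_cmap (isPGroup_mono S.isPGroup' hAS)) hle
    rw [← cmap_mul] at hmS
    have hmA : cmap (m * t⁻¹) A ≤ A := cmap_le_iff.mpr fun a ha => by
      have h1 : closure E ≤ (closure E).comap (MulAut.conj (m * t⁻¹)).toMonoidHom :=
        (closure_le _).mpr fun e he => subset_closure
          ⟨cmap_le_iff.mp hmS e (subset_closure he), hconjQ _ e he.2⟩
      exact h1 ha
    have hN : normalizer (A : Set G) ≠ ⊤ := fun h => by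
      haveI : A.Normal := normalizer_eq_top_iff.mp h
      exact hg0 (HallCore.le_pCore (isPGroup_mono S.isPGroup' hAS) (subset_closure ⟨hg, hgq⟩))
    have hSN : (S : Subgroup G) ≤ normalizer (A : Set G) := fun s hs =>
      mem_normalizer_of_cmap_le (cmap_le_iff.mpr fun a ha => by
        have h1 : closure E ≤ (closure E).comap (MulAut.conj s).toMonoidHom :=
          (closure_le _).mpr fun e he => subset_closure (hE s hs e he)
        exact h1 ha)
    have h2 := hM _ hN hSN (mem_normalizer_of_cmap_le hmA)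
    have h3 := M.mul_mem (M.inv_mem hm) h2
    rw [inv_mul_cancel_left] at h3
    simpa using M.inv_mem h3
  letI : CommGroup V := inferInstance
  let ρ : G →* AddMonoid.End (Additive V) :=
    { toFun := fun x => MonoidHom.toAdditive (MulAut.conjNormal (H := V) x).toMonoidHom
      map_one' := AddMonoidHom.ext fun a => by
        show Additive.ofMul (MulAut.conjNormal (H := V) 1 (Additive.toMul a)) = a
        rw [map_one]; rfl
      map_mul' := fun a b => AddMonoidHom.ext fun c => by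
        show Additive.ofMul (MulAut.conjNormal (H := V) (a * b) (Additive.toMul c)) = _
        rw [map_mul]; rfl }
  have hρ : ∀ (x : G) (v : V), ((Additive.toMul (ρ x (Additive.ofMul v)) : V) : G) = x * v * x⁻¹ :=
    fun x v => MulAut.conjNormal_apply x v
  have hfixed : ∀ (x : G) (v : V), ρ x (Additive.ofMul v) = Additive.ofMul v ↔ x * v = (v : G) * x := by
    intro x v
    rw [← Additive.toMul.injective.eq_iff, Subtype.ext_iff, hρ, mul_inv_eq_iff_eq_mul]
    rfl
  have hq : ∀ e ∈ E, ∀ y : Additive V, ρ e (ρ e y - y) = ρ e y - y := by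
    intro e he y
    obtain ⟨v, rfl⟩ := Additive.ofMul.surjective y
    rw [show ρ e (Additive.ofMul v) - Additive.ofMul v =
        Additive.ofMul (Additive.toMul (ρ e (Additive.ofMul v)) * v⁻¹) from
      (sub_eq_add_neg _ _), hfixed]
    have h1 := commutatorElement_eq_one_iff_mul_comm.mp (he.2 v v.2)
    have e1 : ((Additive.toMul (ρ e (Additive.ofMul v)) * v⁻¹ : V) : G) = ⁅(v : G), e⁆⁻¹ := by
      rw [Subgroup.coe_mul, Subgroup.coe_inv, hρ, commutatorElement_def]; group
    rw [e1]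
    exact (Commute.inv_right (h1.symm : Commute e ⁅(v : G), e⁆))
  obtain ⟨j, hj⟩ := (hV ⟨w, hwV⟩ : ∃ j : ℕ, (⟨w, hwV⟩ : V) ^ p ^ j = 1)
  have hkw : k • Additive.ofMul (⟨w, hwV⟩ : V) = Additive.ofMul ((⟨w, hwV⟩ : V) ^ k) := rfl
  have hmain := smul_fixed_of_quadratic S M E hE (fun e he => he.1) hSM hfix hk j ρ hq
    (Additive.ofMul ⟨w, hwV⟩) (fun s hs => (hfixed s _).mpr (hwS s hs))
    (fun m hm => by
      rw [hkw, hfixed, SubmonoidClass.coe_pow]
      exact mem_centralizer_singleton_iff.mp hm)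
    (by rw [hkw, ← ofMul_pow, ← pow_mul, mul_comm k, pow_mul, hj, one_pow]; rfl)
  rw [mem_center_iff]
  intro x
  have h := hmain x
  rw [hkw, hfixed, SubmonoidClass.coe_pow] at h
  exact h

end Cfsg.Agent.GlaubermanQuadPow
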