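import Mathlib
import Cfsg.Agent.Lib.GlaubermanLayer

/-!
# The relative correspondence for a normal Sylow p-subgroup

* `Over.corr_theta` : the correspondence over one invariant character of `Q`.
* `exists_bij` : the correspondence between the invariant characters of `K` and of `C`.
-/

set_option autoImplicit false
set_option linter.unusedSectionVars false

open scoped ComplexConjugate

namespace Cfsg.Agent.GlaubermanRelative

open Cfsg Cfsg.Agent.CharBasic Cfsg.Agent.CharBasicOrth Cfsg.Agent.CharBasicDecomp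
  Cfsg.Agent.GlaubermanP Cfsg.Agent.GlaubermanAbove Cfsg.Agent.GlaubermanLayers
  Cfsg.Agent.GlaubermanNormalSylow Cfsg.Agent.GlaubermanLayer

universe u v

variable {A : Type u} {K : Type v} [Group A] [Group K] [Finite A] [Fintype K]
  {p : ℕ} {φ : A →* MulAut K} {Q C : Subgroup K} [hQn : Q.Normal] [Fintype Q]
  {θ : IrrCharacter Q}

/-- The inclusion of inertia groups. -/
def incl (C : Subgroup K) (θ : IrrCharacter Q) : SS C θ →* TT θ :=
  (C.subtype.comp (SS C θ).subtype).codRestrict (TT θ) fun s => s.2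

theorem coe_incl (s : SS C θ) : ((incl C θ s : TT θ) : K) = ((s : C) : K) := rfl

/-- The map of the quotients. -/
noncomputable def iota (C : Subgroup K) (θ : IrrCharacter Q) :
    SS C θ ⧸ (Q.subgroupOf C).subgroupOf (SS C θ) →* TT θ ⧸ Q.subgroupOf (TT θ) :=
  QuotientGroup.map _ _ (incl C θ) fun _ hs => hs

theorem iota_mk (s : SS C θ) :
    iota C θ (s : SS C θ ⧸ (Q.subgroupOf C).subgroupOf (SS C θ)) =
      (incl C θ s : TT θ ⧸ Q.subgroupOf (TT θ)) := rfl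

theorem iota_injective : Function.Injective (iota C θ) := by
  rw [injective_iff_map_eq_one]
  intro q hq
  obtain ⟨s, rfl⟩ := QuotientGroup.mk_surjective q
  rw [iota_mk, QuotientGroup.eq_one_iff] at hq
  exact (QuotientGroup.eq_one_iff s).2 hq

theorem Over.invQT (o : Over φ Q C θ p) : ∀ a, ∀ t ∈ Q.subgroupOf (TT θ),
    resSub φ (TT θ) (fun a _ ht => o.invT a ht) a t ∈ Q.subgroupOf (TT θ) :=
  fun a _ ht => o.rel.invQ a _ ht

/-- The action on the quotient of the inertia group. -/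
noncomputable def actT (o : Over φ Q C θ p) : A →* MulAut (TT θ ⧸ Q.subgroupOf (TT θ)) :=
  quotHom (resSub φ (TT θ) fun a _ ht => o.invT a ht) (Q.subgroupOf (TT θ)) (Over.invQT o)

theorem actT_mk (o : Over φ Q C θ p) (a : A) (t : TT θ) :
    actT o a (t : TT θ ⧸ Q.subgroupOf (TT θ)) =
      ((resSub φ (TT θ) (fun a _ ht => o.invT a ht) a t : TT θ) : TT θ ⧸ Q.subgroupOf (TT θ)) :=
  quotHom_mk _ _ _ a t

theorem setup (o : Over φ Q C θ p) : GlaubermanP.Setup p A (TT θ ⧸ Q.subgroupOf (TT θ))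
    (SS C θ ⧸ (Q.subgroupOf C).subgroupOf (SS C θ)) :=
  ⟨o.rel.prime, o.rel.pA, fun h => o.rel.ndvd
    ((Subgroup.index_eq_card (Q.subgroupOf (TT θ)) ▸ h).trans
      (Subgroup.relIndex_dvd_index_of_normal Q (TT θ)))⟩

theorem isFix (o : Over φ Q C θ p) : IsFix (actT o) (iota C θ) := by
  refine ⟨iota_injective, fun q => ⟨?_, fun h => ?_⟩⟩
  · rintro ⟨x, rfl⟩ a
    obtain ⟨s, rfl⟩ := QuotientGroup.mk_surjective x
    rw [iota_mk, actT_mk, QuotientGroup.eq]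
    show (φ a ((s : C) : K))⁻¹ * ((s : C) : K) ∈ Q
    have h1 := Q.inv_mem ((o.rel.memC _).1 (s : C).2 a)
    rw [mul_inv_rev, inv_inv] at h1
    exact (hQn.mem_comm_iff).1 h1
  · obtain ⟨t, rfl⟩ := QuotientGroup.mk_surjective q
    have ht : (t : K) ∈ C := (o.rel.memC _).2 fun a => by
      have h1 := h a
      rw [actT_mk, QuotientGroup.eq] at h1
      have h2 := Q.inv_mem (show (φ a (t : K))⁻¹ * (t : K) ∈ Q from h1)
      rw [mul_inv_rev, inv_inv] at h2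
      exact (hQn.mem_comm_iff).1 h2
    exact ⟨((⟨⟨t, ht⟩, t.2⟩ : SS C θ) : SS C θ ⧸ _), rfl⟩

theorem inertia_sub (C : Subgroup K) (θ : IrrCharacter Q) :
    SS C θ = CharInduced.inertia (Q.subgroupOf C) (thetaOn θ C) ∨ ¬ Q ≤ C := by
  by_cases hQC : Q ≤ C
  · refine Or.inl (Subgroup.ext fun c => ?_)
    rw [Subgroup.mem_subgroupOf, CharInduced.mem_inertia_iff, CharInduced.mem_inertia_iff]
    exact ⟨fun h n => h ⟨((n : C) : K), n.2⟩, fun h n => h ⟨⟨(n : K), hQC n.2⟩, n.2⟩⟩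
  · exact Or.inr hQC

theorem inner_thetaOn [Fintype (Q.subgroupOf C)] (hQC : Q ≤ C) (f : C → ℂ) :
    classInner (fun n : Q.subgroupOf C => f n) (thetaOn θ C) =
      classInner (fun n : Q => f ⟨(n : K), hQC n.2⟩) (θ : Q → ℂ) :=
  GlaubermanLayer.inner_onSub hQC f (θ : Q → ℂ)

/-- The indices of the inertia groups. -/
theorem index_modEq (o : Over φ Q C θ p) : (TT θ).index ≡ (SS C θ).index [MOD p] := by
  classical
  haveI : Fact p.Prime := ⟨o.rel.prime⟩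
  letI : MulAction A (K ⧸ TT θ) :=
    { smul := fun a q => Quotient.map' (φ a) (fun x y h => by
        rw [QuotientGroup.leftRel_apply] at h ⊢
        simpa only [map_mul, map_inv] using o.invT a h) q
      one_smul := fun q => QuotientGroup.induction_on q fun k => by
        show ((φ 1 k : K) : K ⧸ TT θ) = k
        rw [map_one]; rfl
      mul_smul := fun a b q => QuotientGroup.induction_on q fun k => by
        show ((φ (a * b) k : K) : K ⧸ TT θ) = ((φ a (φ b k) : K) : K ⧸ TT θ)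
        rw [map_mul]; rfl }
  have hsmul : ∀ (a : A) (k : K), a • (k : K ⧸ TT θ) = ((φ a k : K) : K ⧸ TT θ) := fun a k => rfl
  have hfix : ∀ c : C, ((c : K) : K ⧸ TT θ) ∈ MulAction.fixedPoints A (K ⧸ TT θ) := fun c a => by
    rw [hsmul, QuotientGroup.eq]
    refine o.le_T ((hQn.mem_comm_iff).1 ?_)
    simpa using Q.inv_mem ((o.rel.memC _).1 c.2 a)
  let F : C ⧸ SS C θ → MulAction.fixedPoints A (K ⧸ TT θ) := fun q =>
    Quotient.liftOn' q (fun c => ⟨((c : K) : K ⧸ TT θ), hfix c⟩) fun x y h => Subtype.ext (by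
      rw [QuotientGroup.leftRel_apply] at h
      exact QuotientGroup.eq.2 h)
  have hF : ∀ c : C, (F (c : C ⧸ SS C θ) : K ⧸ TT θ) = ((c : K) : K ⧸ TT θ) := fun c => rfl
  have hbij : Function.Bijective F := by
    refine ⟨fun x y e => ?_, fun z => ?_⟩
    · obtain ⟨x, rfl⟩ := QuotientGroup.mk_surjective x
      obtain ⟨y, rfl⟩ := QuotientGroup.mk_surjective y
      have e' := congrArg Subtype.val e
      rw [hF, hF, QuotientGroup.eq] at e'
      exact QuotientGroup.eq.2 e'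
    · obtain ⟨k, hk⟩ := QuotientGroup.mk_surjective z.1
      have hu : ∀ a, k⁻¹ * φ a k ∈ TT θ := fun a => by
        have h := z.2 a
        rw [← hk, hsmul, QuotientGroup.eq] at h
        simpa using (TT θ).inv_mem h
      have hinv : Inv (resSub φ Q o.rel.invQ) (CharInduced.conjFun Q (θ : Q → ℂ) k⁻¹) := by
        intro a n
        let n' : Q := ⟨k⁻¹ * n * k⁻¹⁻¹, hQn.conj_mem _ n.2 _⟩
        have h1 := (CharInduced.mem_inertia_iff Q).1 (hu a) (resSub φ Q o.rel.invQ a n')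
        rw [o.inv a n'] at h1
        refine Eq.trans ?_ h1
        show (θ : Q → ℂ) ⟨k⁻¹ * φ a (n : K) * k⁻¹⁻¹, _⟩ = _
        refine congrArg (θ : Q → ℂ) (Subtype.ext ?_)
        show k⁻¹ * φ a (n : K) * k⁻¹⁻¹ =
          (k⁻¹ * φ a k) * φ a (k⁻¹ * n * k⁻¹⁻¹) * (k⁻¹ * φ a k)⁻¹
        simp only [map_mul, map_inv]
        group
      obtain ⟨c, hc, he⟩ := o.rel.exists_conj (CharInduced.isClassFunction_irr θ.2)
        (CharInduced.isClassFunction_irr (CharInduced.isIrrCharacter_conjFun Q θ.2 _)) o.inv hinv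
        (g := k⁻¹) rfl
      refine ⟨((⟨c⁻¹, C.inv_mem hc⟩ : C) : C ⧸ SS C θ), Subtype.ext ?_⟩
      rw [hF, ← hk, QuotientGroup.eq]
      simpa using (CharInduced.conjFun_eq_iff Q).1 he
  rw [Subgroup.index_eq_card, Subgroup.index_eq_card, Nat.card_congr (Equiv.ofBijective F hbij)]
  exact o.rel.pA.card_modEq_card_fixedPoints _

/-- The correspondence over an invariant character of `Q`. -/
theorem corr_theta [Fintype C] (o : Over φ Q C θ p) :
    ∃ f : {χ : IrrCharacter K //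
          Inv φ (χ : K → ℂ) ∧ classInner (fun n : Q => (χ : K → ℂ) n) (θ : Q → ℂ) ≠ 0} ≃
        {ξ : IrrCharacter C // Inv (resSub φ C fun a _ hk => o.rel.invC a hk) (ξ : C → ℂ) ∧
          classInner (fun n : Q => (ξ : C → ℂ) ⟨(n : K), o.rel.le n.2⟩) (θ : Q → ℂ) ≠ 0},
      ∀ χ, (∀ ξ, ξ ≠ f χ → p ∣ mult C.subtype χ.1 ξ.1) ∧
        ((mult C.subtype χ.1 (f χ).1 : ℤ) ≡ 1 [ZMOD p] ∨
          (mult C.subtype χ.1 (f χ).1 : ℤ) ≡ -1 [ZMOD p]) ∧
        ∀ n k : ℕ, (χ.1 : K → ℂ) 1 = n → ((f χ).1 : C → ℂ) 1 = k →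
          ((k : ℤ) ≡ n [ZMOD p] ∨ (k : ℤ) ≡ -(n : ℤ) [ZMOD p]) := by
  classical
  haveI := Fintype.ofFinite (TT θ)
  haveI := Fintype.ofFinite (Q.subgroupOf C)
  haveI := Fintype.ofFinite (SS C θ)
  haveI := Fintype.ofFinite (SS C θ ⧸ (Q.subgroupOf C).subgroupOf (SS C θ))
  have hQC := o.rel.le
  obtain ⟨θh, hres, hext⟩ := o.exists_ext
  have L : Layer Q (TT θ) (θ : Q → ℂ) (θh : TT θ → ℂ) :=
    ⟨rfl, o.le_T, θ.2, θh.2, fun n => hres ⟨⟨(n : K), o.le_T n.2⟩, n.2⟩⟩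
  let eC : SS C θ → ℂ := fun s => (θh : TT θ → ℂ) (incl C θ s)
  have hNS : Q.subgroupOf C ≤ SS C θ := fun c hc => o.le_T hc
  have hres' : ∀ n : Q.subgroupOf C, eC ⟨(n : C), hNS n.2⟩ = thetaOn θ C n := fun n =>
    L.res ⟨((n : C) : K), n.2⟩
  have LC : Layer (Q.subgroupOf C) (SS C θ) (thetaOn θ C) eC := by
    refine ⟨(inertia_sub C θ).resolve_right (not_not.2 hQC), hNS, isIrr_thetaOn θ hQC, ?_, hres'⟩
    refine GlaubermanLayer.isIrr_of_comp (isCharacter_comap (incl C θ)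
      (isCharacter_of_isIrrCharacter θh.2)) (Subgroup.inclusion hNS) ?_
    rw [show eC ∘ Subgroup.inclusion hNS = thetaOn θ C from funext hres']
    exact isIrr_thetaOn θ hQC
  have hmult : ∀ β γ, mult C.subtype (L.lift β) (LC.lift γ) = mult (iota C θ) β γ := by
    intro β γ
    rw [← mult_eq_iff]
    refine GlaubermanLayer.inner_lift L LC (fun s => s.2) (fun n => n.2) ?_ (fun n => rfl)
      (fun s => rfl) (iota C θ) (fun s => rfl) β γ
    exact ⟨fun x y e => Subtype.ext (Subtype.ext (congrArg (fun z : Q => (z : K)) e :)),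
      fun n => ⟨⟨⟨(n : K), hQC n.2⟩, n.2⟩, rfl⟩⟩
  have hinvL : ∀ β, Inv φ (L.lift β : K → ℂ) ↔ Inv (actT o) (β : _ → ℂ) :=
    L.lift_inv_iff φ o.rel.invQ (fun a _ ht => o.invT a ht) o.inv hext (Over.invQT o)
  let φC := resSub φ C fun a _ hk => o.rel.invC a hk
  have hSinv : ∀ a, ∀ s ∈ SS C θ, φC a s ∈ SS C θ := fun a s hs => o.invT a hs
  have hNSinv : ∀ a, ∀ n ∈ Q.subgroupOf C, φC a n ∈ Q.subgroupOf C :=
    fun a n hn => o.rel.invQ a _ hn
  have hN2 : ∀ a, ∀ n ∈ (Q.subgroupOf C).subgroupOf (SS C θ),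
      resSub φC (SS C θ) hSinv a n ∈ (Q.subgroupOf C).subgroupOf (SS C θ) :=
    fun a n hn => o.rel.invQ a _ hn
  have hinvC : ∀ γ, Inv φC (LC.lift γ : C → ℂ) := by
    intro γ
    refine (LC.lift_inv_iff φC hNSinv hSinv (fun a n => o.inv a ⟨((n : C) : K), n.2⟩)
      (fun a s => hext a (incl C θ s)) hN2 γ).2 fun a q => ?_
    obtain ⟨s, rfl⟩ := QuotientGroup.mk_surjective q
    refine congrArg (γ : _ → ℂ) ((quotHom_mk _ _ hN2 a s).trans (QuotientGroup.eq.2 ?_))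
    show (φ a ((s : C) : K))⁻¹ * ((s : C) : K) ∈ Q
    refine (hQn.mem_comm_iff).1 ?_
    simpa using Q.inv_mem ((o.rel.memC _).1 (s : C).2 a)
  have hover : ∀ γ, classInner (fun n : Q => (LC.lift γ : C → ℂ) ⟨(n : K), hQC n.2⟩)
      (θ : Q → ℂ) ≠ 0 := fun γ h0 => LC.lift_over γ ((inner_thetaOn hQC _).trans h0)
  let E1 : {β : IrrCharacter (TT θ ⧸ Q.subgroupOf (TT θ)) // Inv (actT o) (β : _ → ℂ)} ≃
      {χ : IrrCharacter K //
        Inv φ (χ : K → ℂ) ∧ classInner (fun n : Q => (χ : K → ℂ) n) (θ : Q → ℂ) ≠ 0} :=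
    Equiv.ofBijective (fun β => ⟨L.lift β.1, (hinvL β.1).2 β.2, L.lift_over β.1⟩)
      ⟨fun x y e => Subtype.ext (L.lift_inj (congrArg Subtype.val e)), fun χ => by
        obtain ⟨β, hβ⟩ := L.lift_surj χ.1 χ.2.2
        exact ⟨⟨β, (hinvL β).1 (by rw [hβ]; exact χ.2.1)⟩, Subtype.ext hβ⟩⟩
  let E2 : IrrCharacter (SS C θ ⧸ (Q.subgroupOf C).subgroupOf (SS C θ)) ≃
      {ξ : IrrCharacter C // Inv φC (ξ : C → ℂ) ∧
        classInner (fun n : Q => (ξ : C → ℂ) ⟨(n : K), hQC n.2⟩) (θ : Q → ℂ) ≠ 0} :=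
    Equiv.ofBijective (fun γ => ⟨LC.lift γ, hinvC γ, hover γ⟩)
      ⟨fun x y e => LC.lift_inj (congrArg Subtype.val e), fun ξ => by
        obtain ⟨γ, hγ⟩ := LC.lift_surj ξ.1 fun h0 => ξ.2.2 ((inner_thetaOn hQC _).symm.trans h0)
        exact ⟨γ, Subtype.ext hγ⟩⟩
  let cr := corr (setup o) (isFix o)
  refine ⟨(E1.symm.trans cr).trans E2, fun χ => ?_⟩
  obtain ⟨β, rfl⟩ := E1.surjective χ
  have hγ : ((E1.symm.trans cr).trans E2) (E1 β) = E2 (cr β) := by simp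
  have hnd : ¬ p ∣ mult (iota C θ) β.1 (cr β) := (corr_spec _ _ β _).1 rfl
  have hme := mult_modEq (setup o) (isFix o) β.1 β.2 hnd
  rw [hγ]
  refine ⟨fun ξ hne => ?_, ?_, fun n k hn hk => ?_⟩
  · obtain ⟨γ, rfl⟩ := E2.surjective ξ
    show p ∣ mult C.subtype (L.lift β.1) (LC.lift γ)
    rw [hmult]
    by_contra hd
    exact hne (congrArg E2 ((corr_spec _ _ β γ).2 hd).symm)
  · show ((mult C.subtype (L.lift β.1) (LC.lift (cr β)) : ℤ) ≡ 1 [ZMOD p]) ∨ _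
    show _ ∨ ((mult C.subtype (L.lift β.1) (LC.lift (cr β)) : ℤ) ≡ -1 [ZMOD p])
    rw [hmult]
    exact hme
  · obtain ⟨b, -, hb⟩ := isIrrCharacter_apply_one β.1.2
    obtain ⟨c, -, hc⟩ := isIrrCharacter_apply_one (cr β).2
    obtain ⟨d, -, hd⟩ := isIrrCharacter_apply_one θ.2
    have hn' : n = (TT θ).index * (b * d) := by
      have h := (L.lift_one β.1).symm.trans hn
      rw [hb, hd] at h
      exact_mod_cast h.symm
    have hk' : k = (SS C θ).index * (c * d) := by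
      have h := (LC.lift_one (cr β)).symm.trans hk
      rw [hc, show thetaOn θ C 1 = (d : ℂ) from hd] at h
      exact_mod_cast h.symm
    have hdeg := degree_congr (setup o) (isFix o) β.1 β.2 hnd hb hc
    have hidx : ((TT θ).index : ℤ) ≡ ((SS C θ).index : ℤ) [ZMOD p] :=
      Int.natCast_modEq_iff.2 (index_modEq o)
    rw [← ZMod.intCast_eq_intCast_iff, ← ZMod.intCast_eq_intCast_iff] at hme
    rw [← ZMod.intCast_eq_intCast_iff] at hdeg hidx
    rw [← ZMod.intCast_eq_intCast_iff, ← ZMod.intCast_eq_intCast_iff, hn', hk']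
    push_cast at hdeg hidx hme ⊢
    rcases hme with e | e
    · exact Or.inl (by rw [hidx, hdeg, e, one_mul])
    · exact Or.inr (by rw [hidx, hdeg, e]; ring)

/-- An invariant character of `C` has an invariant constituent on `Q`. -/
theorem exists_constituent_sub [Fintype C] (h : Rel p φ Q C) (ξ : IrrCharacter C)
    (hξ : Inv (resSub φ C fun a _ hk => h.invC a hk) (ξ : C → ℂ)) :
    ∃ θ : IrrCharacter Q, Inv (resSub φ Q h.invQ) (θ : Q → ℂ) ∧
      classInner (fun n : Q => (ξ : C → ℂ) ⟨(n : K), h.le n.2⟩) (θ : Q → ℂ) ≠ 0 := by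
  classical
  haveI := Fintype.ofFinite (Q.subgroupOf C)
  let φC := resSub φ C fun a _ hk => h.invC a hk
  have hN : ∀ a, ∀ n ∈ Q.subgroupOf C, φC a n ∈ Q.subgroupOf C :=
    fun a n hn => h.invQ a _ hn
  obtain ⟨t, ht, hi⟩ := exists_inv_below φC (Q.subgroupOf C) hN ⊥ (by
      rw [← Subgroup.index_eq_card, Subgroup.index_bot]
      exact h.cop_index.coprime_dvd_right (Subgroup.relIndex_dvd_index_of_normal Q C))
    (fun b hb => ⟨1, (Q.subgroupOf C).one_mem, fun g => by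
      rw [Subgroup.mem_bot.1 hb, map_one]; simp⟩)
    (Or.inl (@Group.isSolvable_of_surjective _ _ _ _ _ (QuotientGroup.mk'_surjective ⊥)
      h.solvable)) ξ hξ
  let e := Subgroup.subgroupOfEquivOfLe h.le
  refine ⟨⟨(t : _ → ℂ) ∘ e.symm.toMonoidHom,
    isIrrCharacter_comap _ e.symm.surjective t.2⟩, fun a n => ?_, fun h0 => ht ?_⟩
  · exact hi a ⟨⟨(n : K), h.le n.2⟩, n.2⟩
  · refine Eq.trans ?_ ((inner_thetaOn (θ := ⟨(t : _ → ℂ) ∘ e.symm.toMonoidHom,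
      isIrrCharacter_comap _ e.symm.surjective t.2⟩) h.le _).trans h0)
    rfl

/-- The relative correspondence. -/
theorem exists_bij [Fintype C] (h : Rel p φ Q C) :
    ∃ f : {χ : IrrCharacter K // Inv φ (χ : K → ℂ)} →
        {ξ : IrrCharacter C // Inv (resSub φ C fun a _ hk => h.invC a hk) (ξ : C → ℂ)},
      Function.Bijective f ∧ ∀ χ, (∀ ξ, ξ ≠ f χ → p ∣ mult C.subtype χ.1 ξ.1) ∧
        ((mult C.subtype χ.1 (f χ).1 : ℤ) ≡ 1 [ZMOD p] ∨
          (mult C.subtype χ.1 (f χ).1 : ℤ) ≡ -1 [ZMOD p]) ∧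
        ∀ n k : ℕ, (χ.1 : K → ℂ) 1 = n → ((f χ).1 : C → ℂ) 1 = k →
          ((k : ℤ) ≡ n [ZMOD p] ∨ (k : ℤ) ≡ -(n : ℤ) [ZMOD p]) := by
  classical
  have hndvd : ∀ m : ℕ, (m : ℤ) ≡ 1 [ZMOD p] ∨ (m : ℤ) ≡ -1 [ZMOD p] → ¬ p ∣ m := by
    intro m hm hd
    have h0 : (m : ℤ) ≡ 0 [ZMOD p] := Int.modEq_zero_iff_dvd.2 (Int.natCast_dvd_natCast.2 hd)
    rcases hm with e | e
    · exact h.prime.not_dvd_one
        (Int.natCast_dvd_natCast.1 (Int.modEq_zero_iff_dvd.1 (e.symm.trans h0)))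
    · exact h.prime.not_dvd_one (Int.natCast_dvd_natCast.1
        (by simpa using Int.modEq_zero_iff_dvd.1 (e.symm.trans h0)))
  -- a constituent on `C` passes to a conjugate
  have hconj : ∀ (χ : IrrCharacter K) (θ : IrrCharacter Q), Inv (resSub φ Q h.invQ) (θ : Q → ℂ) →
      classInner (fun n : Q => (χ : K → ℂ) n) (θ : Q → ℂ) ≠ 0 → ∀ ξ : IrrCharacter C,
      Inv (resSub φ C fun a _ hk => h.invC a hk) (ξ : C → ℂ) → mult C.subtype χ ξ ≠ 0 →
      classInner (fun n : Q => (ξ : C → ℂ) ⟨(n : K), h.le n.2⟩) (θ : Q → ℂ) ≠ 0 := by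
    intro χ θ hθ hθc ξ hξ hm
    obtain ⟨θ', hθ', hθ'c⟩ := exists_constituent_sub h ξ hξ
    have h2 := constituent_over (Subgroup.inclusion h.le)
      (CharInduced.isCharacter_res C (isCharacter_of_isIrrCharacter χ.2)) ξ.2 θ'.2
      (fun h0 => hm (by exact_mod_cast (classInner_eq_mult C.subtype χ ξ).symm.trans h0)) hθ'c
    obtain ⟨g, hg⟩ := (CharInduced.mem_orbitFin Q).1
      (CharInduced.mem_orbit_of_constituents Q χ.2 θ'.2 θ.2 h2 hθc)
    obtain ⟨c, hc, hcθ⟩ := h.exists_conj (CharInduced.isClassFunction_irr θ'.2)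
      (CharInduced.isClassFunction_irr θ.2) hθ' hθ hg
    haveI := Fintype.ofFinite (Q.subgroupOf C)
    rw [← inner_thetaOn h.le] at hθ'c ⊢
    have e : thetaOn θ C = CharInduced.conjFun (Q.subgroupOf C) (thetaOn θ' C) ⟨c, hc⟩ := by
      funext n
      exact (congrFun hcθ ⟨((n : C) : K), n.2⟩).symm
    rw [e, CharInduced.classInner_res_conjFun (Q.subgroupOf C)
      (CharInduced.isClassFunction_irr ξ.2)]
    exact hθ'c
  have key : ∀ χ : {χ : IrrCharacter K // Inv φ (χ : K → ℂ)},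
      ∃ ξ : {ξ : IrrCharacter C // Inv (resSub φ C fun a _ hk => h.invC a hk) (ξ : C → ℂ)},
        (∀ ξ', ξ' ≠ ξ → p ∣ mult C.subtype χ.1 ξ'.1) ∧
        ((mult C.subtype χ.1 ξ.1 : ℤ) ≡ 1 [ZMOD p] ∨
          (mult C.subtype χ.1 ξ.1 : ℤ) ≡ -1 [ZMOD p]) ∧
        ∀ n k : ℕ, (χ.1 : K → ℂ) 1 = n → (ξ.1 : C → ℂ) 1 = k →
          ((k : ℤ) ≡ n [ZMOD p] ∨ (k : ℤ) ≡ -(n : ℤ) [ZMOD p]) := by
    intro χ
    obtain ⟨θ, hθc, hθ⟩ := exists_constituent_inv h χ.1 χ.2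
    obtain ⟨f, hf⟩ := corr_theta (θ := θ) ⟨h, hθ⟩
    obtain ⟨h1, h2, h3⟩ := hf ⟨χ.1, χ.2, hθc⟩
    refine ⟨⟨(f ⟨χ.1, χ.2, hθc⟩).1, (f ⟨χ.1, χ.2, hθc⟩).2.1⟩, fun ξ' hne => ?_, h2, h3⟩
    by_cases hm : mult C.subtype χ.1 ξ'.1 = 0
    · rw [hm]; exact dvd_zero p
    · exact h1 ⟨ξ'.1, ξ'.2, hconj χ.1 θ hθ hθc ξ'.1 ξ'.2 hm⟩
        fun e => hne (Subtype.ext (congrArg Subtype.val e :))
  choose f hf1 hf2 hf3 using key
  refine ⟨f, ⟨fun χ χ' e => ?_, fun ξ => ?_⟩, fun χ => ⟨hf1 χ, hf2 χ, hf3 χ⟩⟩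
  · obtain ⟨θ, hθ, hθc⟩ := exists_constituent_sub h (f χ).1 (f χ).2
    have hov : ∀ ψ : {χ : IrrCharacter K // Inv φ (χ : K → ℂ)}, f ψ = f χ →
        classInner (fun n : Q => (ψ.1 : K → ℂ) n) (θ : Q → ℂ) ≠ 0 := fun ψ e' =>
      constituent_over (Subgroup.inclusion h.le)
        (CharInduced.isCharacter_res C (isCharacter_of_isIrrCharacter ψ.1.2)) (f χ).1.2 θ.2
        (fun h0 => by
          have := hndvd _ (hf2 ψ)
          rw [e'] at this
          exact this (by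
            have h1 := (classInner_eq_mult C.subtype ψ.1 (f χ).1).symm.trans h0
            rw [show mult C.subtype ψ.1 (f χ).1 = 0 by exact_mod_cast h1]
            exact dvd_zero p)) hθc
    obtain ⟨g, hg⟩ := corr_theta (θ := θ) ⟨h, hθ⟩
    have himg : ∀ (ψ : {χ : IrrCharacter K // Inv φ (χ : K → ℂ)}) (e' : f ψ = f χ),
        g ⟨ψ.1, ψ.2, hov ψ e'⟩ = ⟨(f χ).1, (f χ).2, hθc⟩ := fun ψ e' => by
      by_contra hne
      have := (hg ⟨ψ.1, ψ.2, hov ψ e'⟩).1 _ (Ne.symm hne)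
      exact hndvd _ (hf2 ψ) (by rw [e']; exact this)
    have := g.injective ((himg χ rfl).trans (himg χ' e.symm).symm)
    exact Subtype.ext (congrArg Subtype.val this :)
  · obtain ⟨θ, hθ, hθc⟩ := exists_constituent_sub h ξ.1 ξ.2
    obtain ⟨g, hg⟩ := corr_theta (θ := θ) ⟨h, hθ⟩
    let x := g.symm ⟨ξ.1, ξ.2, hθc⟩
    refine ⟨⟨x.1, x.2.1⟩, (by_contra fun hne => ?_)⟩
    have h1 := hf1 ⟨x.1, x.2.1⟩ ξ (Ne.symm hne)
    have h2 := (hg x).2.1
    rw [show g x = (⟨ξ.1, ξ.2, hθc⟩ : _) from g.apply_symm_apply _] at h2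
    exact hndvd _ h2 h1

end Cfsg.Agent.GlaubermanRelative
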