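import Mathlib
import Cfsg.Prelude.Def_LocalEven
import Cfsg.Agent.Lib.ConjFunctorEngel
import Cfsg.Agent.Lib.HallCore
import Cfsg.Agent.Lib.BaerSuzuki
import Cfsg.Agent.Lib.TwoInvolutions
import Cfsg.Agent.Lib.QuadOffenderS4
import Cfsg.Agent.Lib.FusionQd

/-!
Glauberman at the prime 2: in an `S₄`-free group a minimal quadratic offender has no transvections, so
averaging over cosets fixes the elements whose squares are central.
-/

set_option autoImplicit false

open scoped commutatorElement Pointwise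
open Subgroup Cfsg.Agent.ConjFunctorBasic Cfsg.Agent.ConjFunctorEngel

namespace Cfsg.Agent.GlaubermanS4Free

universe u v

variable {G : Type u} [Group G] [Finite G]

/-- A group of automorphisms with a transvection outside the 2-core produces `S₄`. -/
theorem involves_s4_of_transvection (W : Subgroup G) [W.Normal] (hW2 : IsPGroup 2 W)
    (hWc : ∀ v ∈ W, ∀ v' ∈ W, v * v' = v' * v)
    (hO : ∀ N : Subgroup G, N.Normal → centralizer (W : Set G) ≤ N →
      (∀ x ∈ N, ∃ k : ℕ, x ^ 2 ^ k ∈ centralizer (W : Set G)) → N ≤ centralizer (W : Set G))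
    {a : G} (haC : a ∉ centralizer (W : Set G))
    (hind : Nat.card W ≤ 2 * Nat.card ↥(W ⊓ centralizer ({a} : Set G))) :
    Cfsg.Involves (Equiv.Perm (Fin 4)) G := by
  classical
  set C := centralizer (W : Set G) with hCdef
  haveI hCn : C.Normal := by
    rw [hCdef]; exact Subgroup.normal_centralizer
  have hmemC : ∀ {x : G}, x ∈ C ↔ ∀ v ∈ W, x * v * x⁻¹ = v := fun {x} => by
    rw [hCdef, mem_centralizer_iff]
    exact forall₂_congr fun v _ => by rw [mul_inv_eq_iff_eq_mul, eq_comm]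
  -- the fixed points of `a`
  set Fa : Subgroup ↥W := (centralizer ({a} : Set G)).subgroupOf W with hFa
  have hFa' : ∀ {v : ↥W}, v ∈ Fa ↔ a * (v : G) * a⁻¹ = v := fun {v} => by
    rw [hFa, mem_subgroupOf, mem_centralizer_singleton_iff, mul_inv_eq_iff_eq_mul, eq_comm]
  have hFcard : Nat.card Fa = Nat.card ↥(W ⊓ centralizer ({a} : Set G)) := by
    rw [hFa, ← Subgroup.inf_subgroupOf_left]
    exact Nat.card_congr (Subgroup.subgroupOfEquivOfLe inf_le_left).toEquiv
  have hFtop : Fa ≠ ⊤ := fun h => haC (hmemC.mpr fun v hv => hFa'.mp (show (⟨v, hv⟩ : W) ∈ Fa by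
    rw [h]; exact mem_top _))
  have hidx : Fa.index = 2 := by
    have h1 := Fa.card_mul_index
    have h2 := one_lt_index_of_ne_top hFtop
    have h3 : 0 < Nat.card Fa := Nat.card_pos
    rw [← hFcard] at hind
    nlinarith
  -- `a` induces an involution
  have haa : a * a ∈ C := hmemC.mpr fun v hv => by
    set φ := MulAut.conjNormal (H := W) a with hφ
    have hco : ∀ x : G, x * v * x⁻¹ = ((MulAut.conjNormal (H := W) x ⟨v, hv⟩ : W) : G) := fun x =>
      (MulAut.conjNormal_apply x (⟨v, hv⟩ : W)).symm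
    rw [hco, map_mul]
    show ((φ (φ ⟨v, hv⟩) : W) : G) = v
    have hfix : ∀ c ∈ Fa, φ c = c := fun c hc => Subtype.ext (by
      rw [hφ, MulAut.conjNormal_apply]; exact hFa'.mp hc)
    set x : W := ⟨v, hv⟩
    by_cases hx : x ∈ Fa
    · rw [hfix _ hx, hfix _ hx]
    · have hx1 : φ x ∉ Fa := fun hm => hx (by
        have e := hfix _ hm
        have := φ.injective e
        rwa [this] at hm)
      have hc : x⁻¹ * φ x ∈ Fa := (mul_mem_iff_of_index_two hidx).mpr
        ⟨fun h => absurd ((inv_mem_iff (H := Fa)).mp h) hx, fun h => absurd h hx1⟩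
      set c := x⁻¹ * φ x with hcdef
      have hxc : φ x = x * c := by rw [hcdef, mul_inv_cancel_left]
      clear_value c
      have hx2 : x * x ∈ Fa := (mul_mem_iff_of_index_two hidx).mpr Iff.rfl
      have e := hfix _ hx2
      rw [map_mul, hxc] at e
      have hcc : c * c = 1 := by
        have hcomm : c * x = x * c := Subtype.ext (hWc _ c.2 _ x.2)
        have e2 : x * x * (c * c) = x * x := by
          calc x * x * (c * c) = x * (x * c) * c := by simp only [mul_assoc]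
            _ = x * (c * x) * c := by rw [hcomm]
            _ = x * c * (x * c) := by simp only [mul_assoc]
            _ = _ := e
        exact mul_left_cancel (e2.trans (mul_one _).symm)
      rw [hxc, map_mul, hfix _ hc, hxc, mul_assoc, hcc, mul_one]
  -- a conjugate generating a non-2-group
  set π := QuotientGroup.mk' C with hπ
  have hπ1 : ∀ x : G, π x = 1 ↔ x ∈ C := fun x => QuotientGroup.eq_one_iff x
  have hπa : π a * π a = 1 := by rw [← map_mul, hπ1]; exact haa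
  have ha2 : orderOf (π a) = 2 :=
    orderOf_eq_prime (by rw [pow_two, hπa]) (fun h => haC ((hπ1 a).mp h))
  obtain ⟨g, hg⟩ : ∃ g : G ⧸ C, ¬ IsPGroup 2
      ↥(zpowers (π a) ⊔ (zpowers (π a)).map (MulAut.conj g).toMonoidHom) := by
    by_contra! hall
    obtain ⟨N, hN, hN2, haN⟩ := BaerSuzuki.exists_normal_pGroup_of_pairs (p := 2) (zpowers (π a))
      (IsPGroup.of_card (n := 1) (by rw [Nat.card_zpowers, ha2, pow_one])) hall
    refine haC (hO (N.comap π) (hN.comap π) (fun x hx => ?_) (fun x hx => ?_) ?_)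
    · rw [mem_comap, (hπ1 x).mpr hx]; exact one_mem N
    · obtain ⟨k, hk⟩ := hN2 ⟨π x, hx⟩
      exact ⟨k, (hπ1 _).mp (by rw [map_pow]; exact congrArg Subtype.val hk)⟩
    · exact haN (mem_zpowers _)
  obtain ⟨g, rfl⟩ := QuotientGroup.mk'_surjective C g
  set b := g * a * g⁻¹ with hb
  have hb2 : orderOf (π b) = 2 := by
    have e : π b = MulAut.conj (π g) (π a) := by simp [hb]
    rw [e, MulEquiv.orderOf_eq, ha2]
  set x0 := a * b with hx0
  have hnot : ¬ ∃ k : ℕ, π x0 ^ 2 ^ k = 1 := by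
    rintro ⟨k, hk⟩
    refine hg (IsPGroup.to_le (K := Subgroup.closure ({π a, π b} : Set (G ⧸ C))) ?_ ?_)
    · intro d
      refine (em (d = 1)).elim (fun h => ⟨0, by rw [h, one_pow]⟩) fun _ => ?_
      obtain ⟨j, hj | hj⟩ := TwoInvolutions.mem_closure_pair ha2 hb2 d.2
      · refine ⟨k, Subtype.ext ?_⟩
        rw [Subgroup.coe_pow, Subgroup.coe_one, hj, ← map_mul, ← hx0, ← zpow_natCast, ← zpow_mul,
          mul_comm, zpow_mul, zpow_natCast, hk, one_zpow]
      · refine ⟨1, Subtype.ext ?_⟩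
        rw [Subgroup.coe_pow, Subgroup.coe_one, hj, pow_one, pow_two]
        have e := TwoInvolutions.conj_zpow ha2 hb2 j
        calc π a * (π a * π b) ^ j * (π a * (π a * π b) ^ j)
            = (π a * (π a * π b) ^ j * π a) * (π a * π b) ^ j := by group
          _ = 1 := by rw [e]; group
    · refine sup_le (zpowers_le.mpr (subset_closure (Or.inl rfl))) ?_
      rw [MonoidHom.map_zpowers, zpowers_le]
      exact subset_closure (Or.inr (by simp [hb, hπ]))
  obtain ⟨r, hr, hr2, hrdvd⟩ : ∃ r, r.Prime ∧ r ≠ 2 ∧ r ∣ orderOf (π x0) := by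
    by_contra! hall
    refine hnot ⟨(orderOf (π x0)).primeFactorsList.length, ?_⟩
    rw [← Nat.eq_prime_pow_of_unique_prime_dvd (orderOf_pos (π x0)).ne'
      fun {d} hd hdvd => by_contra fun h => hall d hd h hdvd]
    exact pow_orderOf_eq_one _
  haveI : Fact r.Prime := ⟨hr⟩
  set n0 := orderOf x0 with hn0
  set e := n0.factorization r
  set m := n0 / r ^ e with hm
  set t := x0 ^ m with ht
  have hrm : ¬ r ∣ m := Nat.not_dvd_ordCompl hr (orderOf_pos x0).ne'
  have htord : t ^ r ^ e = 1 := by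
    rw [ht, ← pow_mul, mul_comm, Nat.ordProj_mul_ordCompl_eq_self, pow_orderOf_eq_one]
  have htC : t ∉ C := fun h => by
    have h1 : π x0 ^ m = 1 := by rw [← map_pow]; exact (hπ1 _).mpr h
    exact hrm (hrdvd.trans (orderOf_dvd_of_pow_eq_one h1))
  have hodd : ∀ n : ℕ, Odd (r ^ n) := fun n => (hr.odd_of_ne_two hr2).pow
  have hinv : π a * π t * π a = (π t)⁻¹ := by
    have := TwoInvolutions.conj_zpow ha2 hb2 (m : ℤ)
    rw [zpow_natCast, zpow_neg, zpow_natCast] at this
    rw [ht, map_pow, hx0, map_mul]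
    exact this
  have hinv' : π a * π t * (π a)⁻¹ = (π t)⁻¹ := by
    rw [inv_eq_of_mul_eq_one_right hπa, hinv]
  -- a Sylow subgroup containing `t`
  set Y := C ⊔ zpowers t with hY
  have htr : IsPGroup r (zpowers t) := by
    rintro ⟨z, hz⟩
    obtain ⟨i, rfl⟩ := mem_zpowers_iff.mp hz
    refine ⟨e, Subtype.ext ?_⟩
    rw [Subgroup.coe_pow, Subgroup.coe_one]
    show (t ^ i) ^ r ^ e = 1
    rw [← zpow_natCast, ← zpow_mul, mul_comm, zpow_mul, zpow_natCast, htord, one_zpow]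
  obtain ⟨T, hT, htT'⟩ := exists_isSylowIn r htr (le_sup_right : zpowers t ≤ Y)
  have htT : t ∈ T := htT' (mem_zpowers t)
  have hYa : cmap a Y = Y := by
    refine eq_of_le_of_card_ge ?_ (card_cmap a Y).ge
    rw [cmap, hY, Subgroup.map_sup]
    refine sup_le ((Subgroup.map_le_iff_le_comap.mpr fun c hc => by
      exact mem_sup_left (hCn.conj_mem c hc a))) ?_
    rw [MonoidHom.map_zpowers, zpowers_le]
    show a * t * a⁻¹ ∈ C ⊔ zpowers t
    have h1 : a * t * a⁻¹ * t ∈ C := (hπ1 _).mp (by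
      rw [map_mul, map_mul, map_mul, map_inv, hinv', inv_mul_cancel])
    have := mul_mem (mem_sup_left (T := zpowers t) h1) (inv_mem (mem_sup_right (S := C) (mem_zpowers t)))
    rwa [mul_inv_cancel_right] at this
  have hT' : IsSylowIn r (cmap a T) Y := hYa ▸ hT.cmap a
  obtain ⟨y, hy, hyT⟩ := hT.conj_eq hT'
  rw [← cmap_mul] at hyT
  set a' := y * a with ha'
  have ha'T : a' ∈ normalizer (T : Set G) := mem_normalizer_iff_cmap.mpr hyT
  obtain ⟨i, hi⟩ : ∃ i : ℤ, π y = π t ^ i := by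
    rw [← SetLike.mem_coe, coe_mul_of_right_le_normalizer_left C (zpowers t)
      (by rw [normalizer_eq_top C]; exact le_top)] at hy
    obtain ⟨c, hc, z, hz, rfl⟩ := Set.mem_mul.mp hy
    obtain ⟨i, rfl⟩ := mem_zpowers_iff.mp hz
    exact ⟨i, by rw [map_mul, (hπ1 c).mpr hc, one_mul, map_zpow]⟩
  have hconjz : ∀ j : ℤ, π a * π t ^ j * π a = π t ^ (-j) := fun j => by
    have h1 := conj_zpow (i := j) (a := π a) (b := π t)
    rw [hinv', inv_eq_of_mul_eq_one_right hπa, inv_zpow'] at h1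
    exact h1.symm
  have hπa' : π a' = π t ^ i * π a := by rw [ha', map_mul, hi]
  have ha'2 : a' * a' ∈ C := (hπ1 _).mp (by
    rw [map_mul, hπa', mul_assoc, ← mul_assoc (π a), hconjz, ← zpow_add, add_neg_cancel, zpow_zero])
  have ha't : a' * t * a' * t ∈ C := (hπ1 _).mp (by
    have h1 := hconjz (1 + i)
    rw [map_mul, map_mul, map_mul, hπa']
    calc π t ^ i * π a * π t * (π t ^ i * π a) * π t
        = π t ^ i * (π a * π t ^ (1 + i) * π a) * π t := by group
      _ = 1 := by rw [h1]; group)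
  -- the four-group
  let ψ : ↥W →* G :=
    { toFun := fun v => t * v * t⁻¹ * (v : G)⁻¹
      map_one' := by simp
      map_mul' := fun v v' => by
        simp only [Subgroup.coe_mul, mul_inv_rev]
        have h1 := hWc _ (‹W.Normal›.conj_mem _ v'.2 t) _ (inv_mem v.2)
        have h2 := hWc _ (inv_mem v'.2) _ (inv_mem v.2)
        calc t * ((v : G) * v') * t⁻¹ * ((v' : G)⁻¹ * (v : G)⁻¹)
            = t * v * t⁻¹ * ((t * v' * t⁻¹) * ((v' : G)⁻¹ * (v : G)⁻¹)) := by group
          _ = t * v * t⁻¹ * ((t * v' * t⁻¹) * (v : G)⁻¹ * (v' : G)⁻¹) := by rw [h2]; group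
          _ = t * v * t⁻¹ * ((v : G)⁻¹ * (t * v' * t⁻¹) * (v' : G)⁻¹) := by rw [h1]
          _ = _ := by group }
  set U := ψ.range with hU
  have hUW : U ≤ W := by
    rintro _ ⟨v, rfl⟩
    exact mul_mem (‹W.Normal›.conj_mem _ v.2 t) (inv_mem v.2)
  have hker : ∀ v : W, v ∈ ψ.ker ↔ t * (v : G) * t⁻¹ = v := fun v => by
    rw [MonoidHom.mem_ker]
    show t * (v : G) * t⁻¹ * (v : G)⁻¹ = 1 ↔ _
    rw [mul_inv_eq_one]
  have hfree : ∀ u ∈ U, t * u * t⁻¹ = u → u = 1 := by
    rintro _ ⟨v, rfl⟩ hfixv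
    have hstep : ∀ n : ℕ, t ^ n * (v : G) * (t ^ n)⁻¹ = (ψ v) ^ n * v := by
      intro n
      induction n with
      | zero => simp
      | succ n ih =>
        have hc : t * ψ v ^ n * t⁻¹ = ψ v ^ n := by rw [← conj_pow, hfixv]
        calc t ^ (n + 1) * (v : G) * (t ^ (n + 1))⁻¹ = t * (t ^ n * v * (t ^ n)⁻¹) * t⁻¹ := by
              rw [pow_succ']; group
          _ = (t * ψ v ^ n * t⁻¹) * (t * v * t⁻¹ * (v : G)⁻¹) * v := by rw [ih]; group
          _ = ψ v ^ (n + 1) * v := by rw [hc, pow_succ]; rfl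
    have h1 := hstep (r ^ e)
    rw [htord, one_mul, inv_one, mul_one, right_eq_mul] at h1
    obtain ⟨k, hk⟩ := hW2 ⟨ψ v, hUW ⟨v, rfl⟩⟩
    have h2 : ψ v ^ 2 ^ k = 1 := congrArg Subtype.val hk
    have hco : Nat.Coprime (2 ^ k) (r ^ e) := Nat.Coprime.pow _ _
      ((Nat.coprime_primes Nat.prime_two hr).mpr (Ne.symm hr2))
    exact orderOf_eq_one_iff.mp (Nat.eq_one_of_dvd_coprimes hco (orderOf_dvd_of_pow_eq_one h2)
      (orderOf_dvd_of_pow_eq_one h1))
  have hUne : U ≠ ⊥ := fun h => htC (hmemC.mpr fun v hv =>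
    (hker ⟨v, hv⟩).mp (by rw [MonoidHom.range_eq_bot_iff.mp h]; exact MonoidHom.mem_ker.mpr rfl))
  have hU4 : Nat.card U ≤ 4 := by
    rw [hU, ← Subgroup.index_ker]
    set Fb := Fa.map (MulAut.conjNormal (H := W) g).toMonoidHom with hFb
    have hle : Fa ⊓ Fb ≤ ψ.ker := fun v hv => by
      rw [hker, mul_inv_eq_iff_eq_mul]
      obtain ⟨v', hv', hve⟩ := hv.2
      have h1 : Commute a (v : G) := mul_inv_eq_iff_eq_mul.mp (hFa'.mp hv.1)
      have h2 : Commute b (v : G) := by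
        rw [← hve]
        show Commute (g * a * g⁻¹) ((MulAut.conjNormal g v' : W) : G)
        rw [MulAut.conjNormal_apply]
        exact Commute.conj (mul_inv_eq_iff_eq_mul.mp (hFa'.mp hv')) g
      exact ((h1.mul_left h2).pow_left m).eq
    refine (Nat.le_of_dvd (Nat.pos_of_ne_zero Subgroup.index_ne_zero_of_finite)
      (index_dvd_of_le hle)).trans ((Subgroup.index_inf_le (H := Fa) (K := Fb)).trans ?_)
    rw [hFb, MulEquiv.toMonoidHom_eq_coe, Subgroup.index_map_equiv, hidx]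
  obtain ⟨⟨u₁, hu₁⟩, hu₁1'⟩ := Subgroup.ne_bot_iff_exists_ne_one.mp hUne
  have hu₁1 : u₁ ≠ 1 := fun h => hu₁1' (Subtype.ext h)
  have htU0 : ∀ u ∈ U, t * u * t⁻¹ ∈ U := by
    rintro _ ⟨v, rfl⟩
    refine ⟨⟨t * v * t⁻¹, ‹W.Normal›.conj_mem _ v.2 t⟩, ?_⟩
    show t * (t * v * t⁻¹) * t⁻¹ * (t * v * t⁻¹)⁻¹ = t * (t * v * t⁻¹ * (v : G)⁻¹) * t⁻¹
    group
  have ha'U0 : ∀ u ∈ U, a' * u * a'⁻¹ ∈ U := by
    rintro _ ⟨v, rfl⟩
    set v' := a' * (v : G) * a'⁻¹ with hv'
    have hv'W : v' ∈ W := ‹W.Normal›.conj_mem _ v.2 a'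
    have hc : a' * t * a'⁻¹ * t ∈ C := (hπ1 _).mp (by
      have h1 := (hπ1 _).mpr ha't
      have h2 := (hπ1 _).mpr ha'2
      rw [map_mul] at h2
      rw [map_mul, map_mul, map_mul] at h1
      rw [map_mul, map_mul, map_mul, map_inv, inv_eq_of_mul_eq_one_right h2]
      exact h1)
    have h3 := hmemC.mp hc (t⁻¹ * v' * t) (by simpa using ‹W.Normal›.conj_mem _ hv'W t⁻¹)
    have h4 : a' * t * a'⁻¹ * v' * (a' * t * a'⁻¹)⁻¹ = t⁻¹ * v' * t := by
      rw [← h3]; group
    have e : a' * (t * v * t⁻¹ * (v : G)⁻¹) * a'⁻¹ = t⁻¹ * v' * t * v'⁻¹ := by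
      rw [← h4, hv']; group
    show a' * (t * v * t⁻¹ * (v : G)⁻¹) * a'⁻¹ ∈ U
    rw [e]
    refine inv_mem_iff.mp ⟨⟨t⁻¹ * v' * t, by simpa using ‹W.Normal›.conj_mem _ hv'W t⁻¹⟩, ?_⟩
    show t * (t⁻¹ * v' * t) * t⁻¹ * (t⁻¹ * v' * t)⁻¹ = _
    group
  have hsq : ∀ u ∈ U, u * u = 1 := by
    intro u hu
    by_contra hne
    have hcyc : ∀ x ∈ U, x = 1 ∨ x = u ∨ x = u * u ∨ x = u * u * u := by
      intro x hx
      obtain ⟨k, hk⟩ := hW2 ⟨u, hUW hu⟩
      have h4 : 4 ∣ orderOf u := by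
        obtain ⟨j, -, hj⟩ := (Nat.dvd_prime_pow Nat.prime_two).mp
          (orderOf_dvd_of_pow_eq_one (congrArg Subtype.val hk : u ^ 2 ^ k = 1))
        rcases j with _ | _ | j
        · rw [pow_zero, orderOf_eq_one_iff] at hj
          exact absurd (by rw [show u = 1 from hj, one_mul]) hne
        · have hj' : orderOf u = 2 ^ (0 + 1) := hj
          have h2 := pow_orderOf_eq_one u
          rw [hj'] at h2
          exact absurd (by simpa [pow_two] using h2) hne
        · exact hj ▸ ⟨2 ^ j, by ring⟩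
      have hle : orderOf u ≤ Nat.card U := by
        rw [← Subgroup.orderOf_mk u hu]; exact orderOf_le_card
      have ho : orderOf u = 4 := le_antisymm (hle.trans hU4) (Nat.le_of_dvd (orderOf_pos u) h4)
      have htop : zpowers u = U := eq_of_le_of_card_ge (zpowers_le.mpr hu)
        (by rw [Nat.card_zpowers, ho]; exact hU4)
      obtain ⟨i, hi, rfl⟩ : ∃ i < 4, u ^ i = x := by
        have hxz : x ∈ zpowers u := htop ▸ hx
        obtain ⟨i, rfl⟩ := mem_powers_iff_mem_zpowers.mpr hxz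
        exact ⟨i % 4, Nat.mod_lt _ (by norm_num), ho ▸ pow_mod_orderOf u i⟩
      interval_cases i <;> simp [pow_succ]
    have hu4 : u * u * u * u = 1 := by
      have h1 : u * u * u * u ∈ U := mul_mem (mul_mem (mul_mem hu hu) hu) hu
      rcases hcyc _ h1 with h | h | h | h
      · exact h
      all_goals
        exfalso
        obtain ⟨k, hk⟩ := hW2 ⟨u, hUW hu⟩
        have hk' : u ^ 2 ^ k = 1 := congrArg Subtype.val hk
      · have h3 : u ^ 3 = 1 := mul_right_cancel (b := u) (by rw [one_mul]; simpa [pow_succ] using h)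
        exact hne (by rw [orderOf_eq_one_iff.mp (Nat.eq_one_of_dvd_coprimes
          ((Nat.Coprime.pow_left k (by norm_num : Nat.Coprime 2 3))) (orderOf_dvd_of_pow_eq_one hk')
          (orderOf_dvd_of_pow_eq_one h3)), one_mul])
      · exact hne (mul_right_cancel (b := u * u) (by rw [one_mul]; simpa [mul_assoc] using h))
      · have h3 : u = 1 := mul_right_cancel (b := u * u * u) (by rw [one_mul]; simpa [mul_assoc] using h)
        exact hne (by rw [h3, one_mul])
    refine hne (hfree _ (mul_mem hu hu) ?_)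
    have hconj : t * (u * u) * t⁻¹ = (t * u * t⁻¹) * (t * u * t⁻¹) := by group
    rcases hcyc _ (htU0 u hu) with h | h | h | h
    · exact absurd (by rw [(conj_eq_one_iff.mp h), one_mul]) hne
    · rw [hconj, h]
    · have h1 : t * (u * u) * t⁻¹ = 1 := by rw [hconj, h, ← mul_assoc]; exact hu4
      exact absurd (conj_eq_one_iff.mp h1) hne
    · rw [hconj, h]
      calc u * u * u * (u * u * u) = u * u * u * u * (u * u) := by group
        _ = u * u := by rw [hu4, one_mul]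
  have hUcard : Nat.card U = 4 := by
    obtain ⟨k, hk⟩ := IsPGroup.iff_card.mp (hW2.to_le hUW)
    have h1 : 1 < Nat.card U := (Subgroup.one_lt_card_iff_ne_bot U).mpr hUne
    rcases k with _ | _ | k
    · omega
    · exfalso
      have h2 : Nat.card U = 2 := by rw [hk]; norm_num
      rw [Nat.card_eq_two_iff] at h2
      obtain ⟨p, q, hpq, hall⟩ := h2
      have hu2 : ∀ z : U, z = 1 ∨ z = ⟨u₁, hu₁⟩ := by
        intro z
        have e1 : ∀ w : U, w = p ∨ w = q := fun w => by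
          have := hall.ge (Set.mem_univ w); simpa using this
        have hne' : (1 : U) ≠ ⟨u₁, hu₁⟩ := fun h => hu₁1 (congrArg Subtype.val h).symm
        rcases e1 z with rfl | rfl <;> rcases e1 1 with h | h <;> rcases e1 ⟨u₁, hu₁⟩ with h' | h' <;>
          first
          | exact Or.inl h.symm
          | exact Or.inr h'.symm
          | exact absurd (h.trans h'.symm) hne'
      rcases hu2 ⟨_, htU0 u₁ hu₁⟩ with h | h
      · exact hu₁1 (conj_eq_one_iff.mp (congrArg Subtype.val h))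
      · exact hu₁1 (hfree u₁ hu₁ (congrArg Subtype.val h))
    · have h4 : 4 ≤ Nat.card U := by
        rw [hk, pow_succ, pow_succ]; nlinarith [Nat.one_le_two_pow (n := k)]
      omega
  have hmove : ∃ u ∈ U, a' * u * a'⁻¹ ≠ u := by
    by_contra! hall
    refine hu₁1 (hfree u₁ hu₁ ?_)
    have h1 := hmemC.mp ha't u₁ (hUW hu₁)
    have h2 : t * (t * u₁ * t⁻¹) * t⁻¹ = u₁ := by
      have h3 := hall _ (htU0 u₁ hu₁)
      have h4 : t * (a' * (t * u₁ * t⁻¹) * a'⁻¹) * t⁻¹ = u₁ := by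
        have h5 : a' * (t * (a' * (t * u₁ * t⁻¹) * a'⁻¹) * t⁻¹) * a'⁻¹ = u₁ :=
          (by group : _ = a' * t * a' * t * u₁ * (a' * t * a' * t)⁻¹).trans h1
        rw [hall _ (htU0 _ (ha'U0 _ (htU0 u₁ hu₁)))] at h5
        exact h5
      rwa [h3] at h4
    obtain ⟨k, hk⟩ := hodd e
    have hstep : ∀ n : ℕ, t ^ (2 * n) * u₁ * (t ^ (2 * n))⁻¹ = u₁ := by
      intro n
      induction n with
      | zero => simp
      | succ n ih =>
        calc t ^ (2 * (n + 1)) * u₁ * (t ^ (2 * (n + 1)))⁻¹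
            = t * (t * (t ^ (2 * n) * u₁ * (t ^ (2 * n))⁻¹) * t⁻¹) * t⁻¹ := by
              rw [show 2 * (n + 1) = 2 * n + 1 + 1 by ring, pow_succ', pow_succ']; group
          _ = u₁ := by rw [ih, h2]
    have h6 := hstep (k + 1)
    rwa [show 2 * (k + 1) = r ^ e + 1 by omega, pow_succ, htord, one_mul] at h6
  -- the section
  have htUn : t ∈ normalizer (U : Set G) := mem_normalizer_of_cmap_le (cmap_le_iff.mpr htU0)
  have ha'Un : a' ∈ normalizer (U : Set G) := mem_normalizer_of_cmap_le (cmap_le_iff.mpr ha'U0)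
  set N := normalizer (T : Set G) ⊓ normalizer (U : Set G) with hN
  have hUN : ∀ u ∈ U, u ∈ N → u = 1 := fun u hu huN => hfree u hu (by
    have h1 : u * t * u⁻¹ * t⁻¹ ∈ T :=
      T.mul_mem ((Subgroup.mem_normalizer_iff.mp huN.1 t).mp htT) (T.inv_mem htT)
    have h2 : u * t * u⁻¹ * t⁻¹ ∈ W := by
      have := mul_mem (hUW hu) (‹W.Normal›.conj_mem _ (inv_mem (hUW hu)) t)
      simpa [mul_assoc] using this
    obtain ⟨k1, hk1⟩ := hT.2.1 ⟨_, h1⟩
    obtain ⟨k2, hk2⟩ := hW2 ⟨_, h2⟩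
    have h3 := orderOf_eq_one_iff.mp (Nat.eq_one_of_dvd_coprimes
      (Nat.Coprime.pow k1 k2 ((Nat.coprime_primes hr Nat.prime_two).mpr hr2))
      (orderOf_dvd_of_pow_eq_one (congrArg Subtype.val hk1 : (u * t * u⁻¹ * t⁻¹) ^ _ = 1))
      (orderOf_dvd_of_pow_eq_one (congrArg Subtype.val hk2 : (u * t * u⁻¹ * t⁻¹) ^ _ = 1)))
    rw [mul_inv_eq_one, mul_inv_eq_iff_eq_mul] at h3
    rw [mul_inv_eq_iff_eq_mul]; exact h3.symm)
  set D := N ⊓ centralizer (U : Set G) with hD
  set K := U ⊔ N with hK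
  have hKD : K ≤ normalizer (D : Set G) := by
    refine sup_le (fun u hu => mem_normalizer_of_cmap_le (cmap_le_iff.mpr fun d hd => ?_))
      (fun n hn => mem_normalizer_of_cmap_le (cmap_le_iff.mpr fun d hd => ?_))
    · rw [mem_centralizer_iff.mp hd.2 u hu, mul_inv_cancel_right]; exact hd
    · refine ⟨N.mul_mem (N.mul_mem hn hd.1) (N.inv_mem hn), mem_centralizer_iff.mpr fun u hu => ?_⟩
      have hu' : n⁻¹ * u * n ∈ U := (Subgroup.mem_normalizer_iff''.mp hn.2 u).mp hu
      have h1 := congrArg (fun z => n * z * n⁻¹) (mem_centralizer_iff.mp hd.2 _ hu')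
      simpa [mul_assoc] using h1
  haveI : (D.subgroupOf K).Normal := normal_subgroupOf_of_le_normalizer hKD
  set q := QuotientGroup.mk' (D.subgroupOf K) with hq
  have hq1 : ∀ z : K, q z = 1 ↔ (z : G) ∈ D := fun z => by
    rw [hq, QuotientGroup.mk'_apply, QuotientGroup.eq_one_iff, mem_subgroupOf]
  have htK : t ∈ K := mem_sup_right ⟨le_normalizer htT, htUn⟩
  have ha'K : a' ∈ K := mem_sup_right ⟨ha'T, ha'Un⟩
  have hCU : ∀ c ∈ C, c ∈ centralizer (U : Set G) := fun c hc =>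
    mem_centralizer_iff.mpr fun u hu => mem_centralizer_iff.mp hc u (hUW hu)
  have hinjU : ∀ z : K, (z : G) ∈ U → q z = 1 → (z : G) = 1 := fun z hz h1 =>
    hUN _ hz ((hq1 z).mp h1).1
  have haa'' : q ⟨a', ha'K⟩ * q ⟨a', ha'K⟩ = 1 := by
    rw [← map_mul, hq1]
    exact ⟨mul_mem ⟨ha'T, ha'Un⟩ ⟨ha'T, ha'Un⟩, hCU _ ha'2⟩
  refine FusionQd.involves_of_injective (f := K.subtype) K.subtype_injective
    (FusionQd.involves_of_surjective (f := q) (QuotientGroup.mk'_surjective _) ?_)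
  refine QuadOffenderS4.involves_s4 ((U.subgroupOf K).map q) ?_ ?_ (q ⟨t, htK⟩) (q ⟨a', ha'K⟩)
    haa'' ?_ ?_ ?_ ?_ ?_ ?_
  · rw [Nat.card_congr (Equiv.ofBijective
      (fun u : U => (⟨q ⟨u, mem_sup_left u.2⟩, mem_map_of_mem q (mem_subgroupOf.mpr u.2)⟩ :
        (U.subgroupOf K).map q)) ⟨fun u v h => ?_, fun z => ?_⟩).symm, hUcard]
    · have h1 : q (⟨u, mem_sup_left u.2⟩ * ⟨v, mem_sup_left v.2⟩⁻¹) = 1 := by
        rw [map_mul, map_inv, mul_inv_eq_one]; exact congrArg Subtype.val h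
      exact Subtype.ext (mul_inv_eq_one.mp (hinjU _ (mul_mem u.2 (inv_mem v.2)) h1))
    · obtain ⟨z0, hz0, hze⟩ := z.2
      exact ⟨⟨z0, mem_subgroupOf.mp hz0⟩, Subtype.ext hze⟩
  · rintro _ ⟨z, hz, rfl⟩
    rw [← map_mul, hq1, Subgroup.coe_mul, hsq _ (mem_subgroupOf.mp hz)]
    exact one_mem D
  · rw [eq_inv_iff_mul_eq_one, ← map_mul, ← map_mul, ← map_mul, hq1]
    have hn : a' * t * a' * t ∈ N :=
      mul_mem (mul_mem (mul_mem ⟨ha'T, ha'Un⟩ ⟨le_normalizer htT, htUn⟩) ⟨ha'T, ha'Un⟩)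
        ⟨le_normalizer htT, htUn⟩
    exact ⟨hn, hCU _ ha't⟩
  · refine (hodd e).of_dvd_nat ((orderOf_map_dvd q _).trans ?_)
    rw [Subgroup.orderOf_mk]
    exact orderOf_dvd_of_pow_eq_one htord
  · refine mem_normalizer_of_cmap_le (cmap_le_iff.mpr ?_)
    rintro _ ⟨z, hz, rfl⟩
    rw [← map_inv, ← map_mul, ← map_mul]
    exact mem_map_of_mem q (mem_subgroupOf.mpr (htU0 _ hz))
  · refine mem_normalizer_of_cmap_le (cmap_le_iff.mpr ?_)
    rintro _ ⟨z, hz, rfl⟩
    rw [← map_inv, ← map_mul, ← map_mul]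
    exact mem_map_of_mem q (mem_subgroupOf.mpr (ha'U0 _ hz))
  · rintro _ ⟨z, hz, rfl⟩ hfixz
    have h1 : q (⟨t, htK⟩ * z * ⟨t, htK⟩⁻¹ * z⁻¹) = 1 := by
      rw [map_mul, map_inv, mul_inv_eq_one, map_mul, map_mul, map_inv]; exact hfixz
    have h2 := hinjU _ (mul_mem (htU0 _ hz) (inv_mem hz)) h1
    have h3 : (z : G) = 1 := hfree _ hz (mul_inv_eq_one.mp h2)
    rw [show z = 1 from Subtype.ext h3, map_one]
  · obtain ⟨u, hu, hne⟩ := hmove
    refine ⟨q ⟨u, mem_sup_left hu⟩, mem_map_of_mem q (mem_subgroupOf.mpr hu), fun h => hne ?_⟩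
    have h1 : q (⟨a', ha'K⟩ * ⟨u, mem_sup_left hu⟩ * ⟨a', ha'K⟩⁻¹ * ⟨u, mem_sup_left hu⟩⁻¹) = 1 := by
      rw [map_mul, map_inv, mul_inv_eq_one, map_mul, map_mul, map_inv]; exact h
    exact mul_inv_eq_one.mp (hinjU _ (mul_mem (ha'U0 u hu) (inv_mem hu)) h1)

section
variable {Y : Type v} [AddCommGroup Y]

/-- An orbit sum lies in `Z` when some subgroup with sums in `Z` moves the point. -/
theorem orbit_sum_mem {P : Type*} [Group P] [Fintype P] (hP : IsPGroup 2 P)
    (ρ : P →* AddMonoid.End Y) (Z : AddSubgroup Y) (hZ : ∀ x : P, ∀ z ∈ Z, ρ x z ∈ Z)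
    (𝔅 : Set (Subgroup P)) (h𝔅 : ∀ s : P, ∀ B ∈ 𝔅, B.map (MulAut.conj s).toMonoidHom ∈ 𝔅)
    (hsum : ∀ B ∈ 𝔅, ∀ H : Subgroup P, B ≤ normalizer (H : Set P) → ¬ B ≤ H →
      ∃ H' : Subgroup P, H ≤ H' ∧ ∀ θ : Y, (∀ x ∈ H, ρ x θ = θ) → 2 • θ ∈ Z →
        ∀ [Fintype (↥H' ⧸ H.subgroupOf H')] (hθ : ∀ x ∈ H.subgroupOf H', (ρ.comp H'.subtype) x θ = θ),
          ∑ b : ↥H' ⧸ H.subgroupOf H', orbitVal (ρ.comp H'.subtype) (H.subgroupOf H') θ hθ b ∈ Z)
    (K : Subgroup P) [Fintype (P ⧸ K)] (y : Y) (hy : ∀ x ∈ K, ρ x y = y)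
    (hyt : 2 • y ∈ Z) (hK : ∃ B ∈ 𝔅, ¬ B ≤ K) :
    ∑ c : P ⧸ K, orbitVal ρ K y hy c ∈ Z := by
  classical
  obtain ⟨H, ⟨hKH, hH⟩, hmax⟩ := Set.Finite.exists_maximal
    (s := {H : Subgroup P | K ≤ H ∧ ∃ B ∈ 𝔅, ¬ B ≤ H}) (Set.toFinite _) ⟨K, le_rfl, hK⟩
  obtain ⟨B, hB, hBH⟩ := hH
  -- `B` normalises `H`
  have hHlt : H < ⊤ := lt_top_iff_ne_top.mpr fun h => hBH (h ▸ le_top)
  haveI : Group.IsNilpotent P := hP.isNilpotent
  have hN := Group.normalizerCondition_of_isNilpotent (G := P) H hHlt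
  have hBN : B ≤ normalizer (H : Set P) := by
    by_contra hcon
    exact hN.not_ge (hmax ⟨hKH.trans hN.le, B, hB, hcon⟩ hN.le)
  obtain ⟨H', hHH', hstep⟩ := hsum B hB H hBN hBH
  letI := Fintype.ofFinite (P ⧸ H)
  letI := Fintype.ofFinite (P ⧸ H')
  letI := Fintype.ofFinite (↥H ⧸ K.subgroupOf H)
  letI := Fintype.ofFinite (↥H' ⧸ H.subgroupOf H')
  set θ : Y := ∑ b : ↥H ⧸ K.subgroupOf H,
    orbitVal (ρ.comp H.subtype) (K.subgroupOf H) y (fun k hk => hy k (mem_subgroupOf.mp hk)) b with hθ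
  have hθH : ∀ h ∈ H, ρ h θ = θ := by
    intro h hh
    rw [hθ, map_sum]
    refine Fintype.sum_equiv (MulAction.toPerm (⟨h, hh⟩ : H)) _ _ fun b => ?_
    exact (orbitVal_smul (ρ.comp H.subtype) (K.subgroupOf H) y _ (⟨h, hh⟩ : H) b).symm
  have split : ∀ (A B : Subgroup P) (hAB : A ≤ B) (z : Y) (hz : ∀ a ∈ A, ρ a z = z)
      [Fintype (P ⧸ A)] [Fintype (P ⧸ B)] [Fintype (↥B ⧸ A.subgroupOf B)],
      ∑ c : P ⧸ A, orbitVal ρ A z hz c = ∑ c : P ⧸ B, ρ c.out
        (∑ b : ↥B ⧸ A.subgroupOf B,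
          orbitVal (ρ.comp B.subtype) (A.subgroupOf B) z (fun a ha => hz a (mem_subgroupOf.mp ha)) b) := by
    intro A B hAB z hz _ _ _
    rw [← (quotientEquivProdOfLE hAB).symm.sum_comp, Fintype.sum_prod_type]
    refine Fintype.sum_congr _ _ fun c => ?_
    rw [map_sum]
    refine Fintype.sum_congr _ _ fun b => ?_
    induction b using QuotientGroup.induction_on with
    | H b =>
      show ρ (c.out * (b : P)) z = ρ c.out (ρ (b : P) z)
      rw [map_mul]; rfl
  rw [split K H hKH y hy]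
  have h2 : ∑ c : P ⧸ H, ρ c.out θ = ∑ c : P ⧸ H, orbitVal ρ H θ hθH c :=
    Fintype.sum_congr _ _ fun c => by
      conv_rhs => rw [← Quotient.out_eq' c]
      rfl
  rw [← hθ, h2, split H H' hHH' θ hθH]
  refine sum_mem fun c _ => hZ _ _ ?_
  refine hstep θ hθH ?_ _
  rw [hθ, Finset.smul_sum]
  refine sum_mem fun b _ => ?_
  induction b using QuotientGroup.induction_on with
  | H b =>
    show 2 • ρ (b : P) y ∈ Z
    rw [← map_nsmul]
    exact hZ _ _ hyt

/-- The value of the sum over two cosets. -/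
theorem sum_two {P : Type*} [Group P] [Finite P] (ρ : P →* AddMonoid.End Y) (H : Subgroup P) {e : P}
    (he : e ∈ normalizer (H : Set P)) (heH : e ∉ H) (he2 : e * e ∈ H) (θ : Y)
    [Fintype (↥(H ⊔ zpowers e) ⧸ H.subgroupOf (H ⊔ zpowers e))]
    (hθ : ∀ x ∈ H.subgroupOf (H ⊔ zpowers e), (ρ.comp (H ⊔ zpowers e).subtype) x θ = θ) :
    ∑ b : ↥(H ⊔ zpowers e) ⧸ H.subgroupOf (H ⊔ zpowers e),
      orbitVal (ρ.comp (H ⊔ zpowers e).subtype) (H.subgroupOf (H ⊔ zpowers e)) θ hθ b = θ + ρ e θ := by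
  classical
  set e' : ↥(H ⊔ zpowers e) := ⟨e, mem_sup_right (mem_zpowers e)⟩
  set q0 : ↥(H ⊔ zpowers e) ⧸ H.subgroupOf (H ⊔ zpowers e) := QuotientGroup.mk 1
  set q1 : ↥(H ⊔ zpowers e) ⧸ H.subgroupOf (H ⊔ zpowers e) := QuotientGroup.mk e'
  have hne : q0 ≠ q1 := fun h => heH (by
    have := mem_subgroupOf.mp (QuotientGroup.eq.mp h)
    simpa [e'] using this)
  have hall : ∀ q : ↥(H ⊔ zpowers e) ⧸ H.subgroupOf (H ⊔ zpowers e), q = q0 ∨ q = q1 := by
    intro q
    induction q using QuotientGroup.induction_on with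
    | H b =>
      obtain ⟨b, hb⟩ := b
      have hb' : b ∈ (H : Set P) * ((zpowers e : Subgroup P) : Set P) := by
        rw [← coe_mul_of_right_le_normalizer_left H (zpowers e) (zpowers_le.mpr he)]; exact hb
      obtain ⟨h, hh, x, hx, rfl⟩ := Set.mem_mul.mp hb'
      obtain ⟨j, rfl⟩ := mem_zpowers_iff.mp hx
      have hpow : ∀ i : ℤ, (e * e) ^ i ∈ H := fun i => zpow_mem he2 i
      rcases Int.even_or_odd' j with ⟨i, rfl | rfl⟩
      · refine Or.inl (QuotientGroup.eq.mpr (mem_subgroupOf.mpr ?_))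
        have : h * e ^ (2 * i) ∈ H := mul_mem hh (by rw [zpow_mul, zpow_two]; exact hpow i)
        show (h * e ^ (2 * i))⁻¹ * 1 ∈ H
        rw [mul_one]; exact inv_mem this
      · refine Or.inr (QuotientGroup.eq.mpr (mem_subgroupOf.mpr ?_))
        have h1 : e⁻¹ * h⁻¹ * e ∈ H :=
          (Subgroup.mem_normalizer_iff''.mp he _).mp (inv_mem hh)
        have h2 : (h * e ^ (2 * i + 1))⁻¹ * e = (e ^ (2 * i))⁻¹ * (e⁻¹ * h⁻¹ * e) := by
          group
        show ((⟨h * e ^ (2 * i + 1), hb⟩ : ↥(H ⊔ zpowers e))⁻¹ * e' : ↥(H ⊔ zpowers e)).1 ∈ H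
        show (h * e ^ (2 * i + 1))⁻¹ * e ∈ H
        rw [h2]
        exact mul_mem (inv_mem (by rw [zpow_mul, zpow_two]; exact hpow i)) h1
  refine (Fintype.sum_eq_add q0 q1 hne fun q hq => absurd (hall q) (not_or.mpr hq)).trans ?_
  congr 1
  exact congrArg (fun f : AddMonoid.End Y => f θ) (map_one ρ)

/-- A coset sum splits along an intermediate subgroup. -/
theorem sum_split {P : Type*} [Group P] [Finite P] (ρ : P →* AddMonoid.End Y) (A B C : Subgroup P)
    (hAB : A ≤ B) (hBC : B ≤ C) (θ : Y) (hθ : ∀ a ∈ A, ρ a θ = θ)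
    [Fintype (↥B ⧸ A.subgroupOf B)] [Fintype (↥C ⧸ A.subgroupOf C)]
    [Fintype (↥C ⧸ B.subgroupOf C)]
    (hθ' : ∀ x ∈ A.subgroupOf C, (ρ.comp C.subtype) x θ = θ) {θ₁ : Y}
    (h₁ : ∀ h₀ : ∀ x ∈ A.subgroupOf B, (ρ.comp B.subtype) x θ = θ,
      ∑ b : ↥B ⧸ A.subgroupOf B, orbitVal (ρ.comp B.subtype) (A.subgroupOf B) θ h₀ b = θ₁) :
    ∃ h : ∀ x ∈ B.subgroupOf C, (ρ.comp C.subtype) x θ₁ = θ₁,
      ∑ c : ↥C ⧸ A.subgroupOf C, orbitVal (ρ.comp C.subtype) (A.subgroupOf C) θ hθ' c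
        = ∑ c : ↥C ⧸ B.subgroupOf C, orbitVal (ρ.comp C.subtype) (B.subgroupOf C) θ₁ h c := by
  subst_vars
  obtain rfl := h₁ (fun a ha => hθ a (mem_subgroupOf.mp ha))
  refine ⟨fun x hx => by
    rw [map_sum]
    exact Fintype.sum_equiv (MulAction.toPerm (⟨(x : P), mem_subgroupOf.mp hx⟩ : B)) _ _
      fun b => (orbitVal_smul (ρ.comp B.subtype) _ θ _ (⟨(x : P), mem_subgroupOf.mp hx⟩ : B) b).symm, ?_⟩
  letI := Fintype.ofFinite (↥(B.subgroupOf C) ⧸ (A.subgroupOf C).subgroupOf (B.subgroupOf C))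
  rw [← (quotientEquivProdOfLE (show A.subgroupOf C ≤ B.subgroupOf C from fun x hx => hAB hx)).symm.sum_comp,
    Fintype.sum_prod_type]
  refine Fintype.sum_congr _ _ fun c => ?_
  induction c using QuotientGroup.induction_on with
  | H c0 =>
    show _ = ρ (c0 : P) (∑ b : ↥B ⧸ A.subgroupOf B, _)
    have hc : (QuotientGroup.mk c0 : ↥C ⧸ B.subgroupOf C).out⁻¹ * c0 ∈ B.subgroupOf C :=
      QuotientGroup.eq.mp (Quotient.out_eq' _)
    set o := (QuotientGroup.mk c0 : ↥C ⧸ B.subgroupOf C).out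
    rw [map_sum]
    let z : ↥B := ⟨((o⁻¹ * c0 : C) : P), mem_subgroupOf.mp hc⟩
    let eq1 : ↥(B.subgroupOf C) ⧸ (A.subgroupOf C).subgroupOf (B.subgroupOf C) ≃ ↥B ⧸ A.subgroupOf B :=
      Quotient.congr (Subgroup.subgroupOfEquivOfLe hBC).toEquiv fun a b => by
        rw [QuotientGroup.leftRel_apply, QuotientGroup.leftRel_apply]; rfl
    refine Fintype.sum_equiv (eq1.trans (MulAction.toPerm z⁻¹)) _ _ fun b => ?_
    induction b using QuotientGroup.induction_on with
    | H b =>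
      show ρ ((o * (b : C) : C) : P) θ = ρ (c0 : P) (ρ ((z⁻¹ * Subgroup.subgroupOfEquivOfLe hBC b : B) : P) θ)
      show ρ ((o : P) * ((b : C) : P)) θ = (ρ (c0 : P) * ρ (((o⁻¹ * c0 : C) : P)⁻¹ * ((b : C) : P))) θ
      rw [← map_mul]
      congr 2
      rw [Subgroup.coe_mul, Subgroup.coe_inv]; group


/-- A point fixed by a Sylow subgroup is fixed when the nontrivial orbit sums are. -/
theorem fixed_of_averaging (S : Sylow 2 G) (M : Subgroup G) (ρ : G →* AddMonoid.End Y)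
    (Z : AddSubgroup Y) (hZ : ∀ x : G, ∀ z ∈ Z, ρ x z = z) (hZ' : ∀ z, (∀ x, ρ x z = z) → z ∈ Z)
    (𝔅 : Set (Subgroup (S : Subgroup G)))
    (h𝔅 : ∀ s : (S : Subgroup G), ∀ B ∈ 𝔅, B.map (MulAut.conj s).toMonoidHom ∈ 𝔅)
    (hsum : ∀ B ∈ 𝔅, ∀ H : Subgroup (S : Subgroup G),
      B ≤ normalizer (H : Set (S : Subgroup G)) → ¬ B ≤ H →
      ∃ H' : Subgroup (S : Subgroup G), H ≤ H' ∧
        ∀ θ : Y, (∀ x ∈ H, (ρ.comp (S : Subgroup G).subtype) x θ = θ) → 2 • θ ∈ Z →
        ∀ [Fintype (↥H' ⧸ H.subgroupOf H')]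
          (hθ : ∀ x ∈ H.subgroupOf H', ((ρ.comp (S : Subgroup G).subtype).comp H'.subtype) x θ = θ),
          ∑ b : ↥H' ⧸ H.subgroupOf H',
            orbitVal ((ρ.comp (S : Subgroup G).subtype).comp H'.subtype) (H.subgroupOf H') θ hθ b ∈ Z)
    (hSM : (S : Subgroup G) ≤ M)
    (hfix : ∀ t : G, (∀ B ∈ 𝔅, ∀ b ∈ B, t⁻¹ * (b : G) * t ∈ M) → t ∈ M)
    (w : Y) (hw : ∀ s ∈ (S : Subgroup G), ρ s w = w) (hu : ∀ m ∈ M, ρ m w = w) (hwt : 2 • w ∈ Z) :
    ∀ x : G, ρ x w = w := by
  classical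
  letI := Fintype.ofFinite (G ⧸ M)
  letI := Fintype.ofFinite (S : Subgroup G)
  letI := Fintype.ofFinite (MulAction.orbitRel.Quotient (S : Subgroup G) (G ⧸ M))
  letI : ∀ ω : MulAction.orbitRel.Quotient (S : Subgroup G) (G ⧸ M),
      Fintype (MulAction.orbitRel.Quotient.orbit ω) := fun ω => Fintype.ofFinite _
  set f := orbitVal ρ M w hu with hf
  suffices hrest : ∀ ω : MulAction.orbitRel.Quotient (S : Subgroup G) (G ⧸ M),
      ω ≠ Quotient.mk'' ((1 : G) : G ⧸ M) →
        ∑ q : MulAction.orbitRel.Quotient.orbit ω, f q.1 ∈ Z by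
    refine fun x => hZ x w ?_
    set ω₀ : MulAction.orbitRel.Quotient (S : Subgroup G) (G ⧸ M) :=
      Quotient.mk'' ((1 : G) : G ⧸ M) with hω₀
    have hfix1 : ∀ s : (S : Subgroup G), s • ((1 : G) : G ⧸ M) = ((1 : G) : G ⧸ M) := fun s => by
      show (((s : G) * 1 : G) : G ⧸ M) = _
      rw [mul_one, QuotientGroup.eq]; simpa using hSM s.2
    have horb : MulAction.orbitRel.Quotient.orbit ω₀ = {((1 : G) : G ⧸ M)} := by
      rw [hω₀, MulAction.orbitRel.Quotient.orbit_mk]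
      exact Set.eq_singleton_iff_unique_mem.mpr
        ⟨MulAction.mem_orbit_self _, fun x ⟨s, hs⟩ => hs ▸ hfix1 s⟩
    haveI : Unique (MulAction.orbitRel.Quotient.orbit ω₀) :=
      { default := ⟨((1 : G) : G ⧸ M), by rw [horb]; rfl⟩
        uniq := fun x => Subtype.ext ((Set.ext_iff.mp horb x.1).mp x.2) }
    have h0 : ∑ q : MulAction.orbitRel.Quotient.orbit ω₀, f q.1 = w := by
      rw [Fintype.sum_unique, (Set.ext_iff.mp horb _).mp (default : MulAction.orbitRel.Quotient.orbit ω₀).2]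
      show ρ 1 w = w
      rw [map_one]; rfl
    have htot : ∑ q : G ⧸ M, f q ∈ Z := hZ' _ fun x => by
      rw [map_sum]
      exact Fintype.sum_equiv (MulAction.toPerm x) _ _ fun q => (orbitVal_smul ρ M w hu x q).symm
    rw [← (MulAction.selfEquivSigmaOrbits' (S : Subgroup G) (G ⧸ M)).symm.sum_comp, Fintype.sum_sigma,
      Fintype.sum_eq_add_sum_compl ω₀] at htot
    have h2 := sum_mem (t := ({ω₀} : Finset _)ᶜ) (fun ω hω => hrest ω (by simpa using hω))
    exact h0 ▸ (add_mem_cancel_right h2).mp htot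
  intro ω hω
  obtain ⟨x, rfl⟩ := Quotient.exists_rep ω
  obtain ⟨t, rfl⟩ := QuotientGroup.mk_surjective x
  set K := MulAction.stabilizer (S : Subgroup G) (t : G ⧸ M) with hKdef
  letI := Fintype.ofFinite ((S : Subgroup G) ⧸ K)
  -- a representative with a fixed preimage
  have hKM : cmap t⁻¹ (K.map (S : Subgroup G).subtype) ≤ M := cmap_le_iff.mpr fun a ha => by
    obtain ⟨s, hs, rfl⟩ := ha
    have h2 : (((s : G) * t : G) : G ⧸ M) = (t : G ⧸ M) := hs
    have h3 := M.inv_mem (QuotientGroup.eq.mp h2)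
    simpa [mul_assoc] using h3
  obtain ⟨m, hm, hmS⟩ := ((isSylowIn_top S).mono hSM le_top).exists_conj_le
    (isPGroup_cmap ((S.isPGroup'.to_subgroup K).map _)) hKM
  set y := ρ (t * m⁻¹) w with hydef
  have hyK : ∀ a ∈ K, (ρ.comp (S : Subgroup G).subtype) a y = y := fun a ha => by
    have h1 : m * (t⁻¹ * (a : G) * t⁻¹⁻¹) * m⁻¹ ∈ (S : Subgroup G) :=
      cmap_le_iff.mp hmS _ (conj_mem_cmap (mem_map_of_mem _ ha))
    show (ρ (a : G) * ρ (t * m⁻¹)) w = _
    rw [← map_mul, show (a : G) * (t * m⁻¹) = t * m⁻¹ * (m * (t⁻¹ * (a : G) * t⁻¹⁻¹) * m⁻¹) by group,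
      map_mul]
    show ρ (t * m⁻¹) (ρ _ w) = _
    rw [hw _ h1]
  have hyt : 2 • y ∈ Z := by rw [hydef, ← map_nsmul, hZ _ _ hwt]; exact hwt
  have hky : y = f (t : G ⧸ M) := by
    show f ((t * m⁻¹ : G) : G ⧸ M) = f (t : G ⧸ M)
    exact congrArg f (QuotientGroup.eq.mpr (by simpa [mul_assoc] using hm))
  have hnot : ∃ B ∈ 𝔅, ¬ B ≤ K := by
    by_contra! hsub
    refine hω ?_
    have htM : t ∈ M := hfix t fun B hB b hb => by
      have h2 : (((b : G) * t : G) : G ⧸ M) = (t : G ⧸ M) := hsub B hB hb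
      have h3 := M.inv_mem (QuotientGroup.eq.mp h2)
      simpa [mul_assoc] using h3
    apply congrArg Quotient.mk''
    rw [QuotientGroup.eq]; simpa using inv_mem htM
  have h0 := orbit_sum_mem S.isPGroup' (ρ.comp (S : Subgroup G).subtype) Z
    (fun x z hz => (hZ _ z hz).symm ▸ hz) 𝔅 h𝔅 hsum K y hyK hyt hnot
  let oe : MulAction.orbitRel.Quotient.orbit
      (Quotient.mk'' (t : G ⧸ M) : MulAction.orbitRel.Quotient (S : Subgroup G) (G ⧸ M)) ≃
      (S : Subgroup G) ⧸ K :=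
    (Equiv.setCongr (MulAction.orbitRel.Quotient.orbit_mk (t : G ⧸ M))).trans
      (MulAction.orbitEquivQuotientStabilizer (S : Subgroup G) (t : G ⧸ M))
  rw [← oe.symm.sum_comp]
  refine cast (congrArg (· ∈ Z) (Fintype.sum_congr _ _ fun c => ?_)) h0
  induction c using QuotientGroup.induction_on with
  | H s =>
    show ρ (s : G) y = f ((oe.symm (QuotientGroup.mk s)).1)
    have hs : (oe.symm (QuotientGroup.mk s)).1 = s • (t : G ⧸ M) :=
      MulAction.orbitEquivQuotientStabilizer_symm_apply (S : Subgroup G) (t : G ⧸ M) s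
    rw [hs, hky]
    exact (orbitVal_smul ρ M w hu (s : G) (t : G ⧸ M)).symm

end

/-- An abelian quadratic offender on `V`. -/
def Off (V B : Subgroup G) : Prop :=
  ¬ B ≤ centralizer (V : Set G) ∧ (∀ a ∈ B, ∀ b ∈ B, a * b = b * a) ∧
    (∀ v ∈ V, ∀ a ∈ B, ∀ b ∈ B, ⁅⁅v, a⁆, b⁆ = 1) ∧
    Nat.card V * Nat.card ↥(B ⊓ centralizer (V : Set G)) ≤
      Nat.card B * Nat.card ↥(V ⊓ centralizer (B : Set G))

theorem cmap_inf (g : G) (A B : Subgroup G) : cmap g (A ⊓ B) = cmap g A ⊓ cmap g B :=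
  Subgroup.map_inf _ _ _ (MulAut.conj g).injective

theorem cmap_centralizer (g : G) (A : Subgroup G) :
    cmap g (centralizer (A : Set G)) = centralizer (cmap g A : Set G) := by
  ext x
  simp only [mem_cmap, mem_centralizer_iff, SetLike.mem_coe]
  constructor
  · intro h y hy
    have := congrArg (fun a => g * a * g⁻¹) (h _ hy)
    simpa [mul_assoc] using this
  · intro h y hy
    have := congrArg (fun a => g⁻¹ * a * g) (h (g * y * g⁻¹) (by simpa [mul_assoc] using hy))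
    simpa [mul_assoc] using this

theorem cmap_eq_of_normal (g : G) (N : Subgroup G) [hN : N.Normal] : cmap g N = N := by
  ext x
  rw [mem_cmap]
  exact ⟨fun h => by simpa [mul_assoc] using hN.conj_mem _ h g,
    fun h => by simpa [mul_assoc] using hN.conj_mem _ h g⁻¹⟩

theorem off_cmap {V B : Subgroup G} [V.Normal] (g : G) (h : Off V B) : Off V (cmap g B) := by
  obtain ⟨h1, h2, h3, h4⟩ := h
  haveI : (centralizer (V : Set G)).Normal := Subgroup.normal_centralizer
  have e1 := cmap_eq_of_normal g (centralizer (V : Set G))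
  refine ⟨fun h => h1 ?_, ?_, ?_, ?_⟩
  · rw [← e1] at h
    intro b hb
    simpa [mem_cmap, mul_assoc] using h (conj_mem_cmap (g := g) hb)
  · rintro _ ⟨a, ha, rfl⟩ _ ⟨b, hb, rfl⟩
    rw [← map_mul, h2 a ha b hb, map_mul]
  · rintro v hv _ ⟨a, ha, rfl⟩ _ ⟨b, hb, rfl⟩
    have hv' : g⁻¹ * v * g ∈ V := by simpa using ‹V.Normal›.conj_mem v hv g⁻¹
    have e : (MulAut.conj g).toMonoidHom (g⁻¹ * v * g) = v := by simp [mul_assoc]
    rw [← e, ← map_commutatorElement, ← map_commutatorElement, h3 _ hv' a ha b hb, map_one]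
  · rw [card_cmap, ← e1, ← cmap_inf, card_cmap]
    conv_rhs => rw [← cmap_eq_of_normal g V, ← cmap_centralizer, ← cmap_inf, card_cmap]
    exact h4

/-- A fixed point of a Sylow 2-subgroup with central square, in an `S₄`-free group with an offender. -/
theorem mem_center_of_offender (P : Sylow 2 G) (V : Subgroup G) [V.Normal] (hV2 : IsPGroup 2 V)
    (hVc : ∀ v ∈ V, ∀ v' ∈ V, v * v' = v' * v)
    (hS4 : ¬ Cfsg.Involves (Equiv.Perm (Fin 4)) G)
    (hO : ∀ N : Subgroup G, N.Normal → centralizer (V : Set G) ≤ N →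
      (∀ x ∈ N, ∃ k : ℕ, x ^ 2 ^ k ∈ centralizer (V : Set G)) → N ≤ centralizer (V : Set G))
    (hex : ∃ B : Subgroup G, B ≤ (P : Subgroup G) ∧ Off V B)
    {w : G} (hwV : w ∈ V) (hwP : ∀ s ∈ (P : Subgroup G), s * w = w * s) (hw2 : w ^ 2 ∈ center G)
    (hsub : ∀ K : Subgroup G, K ≠ ⊤ → (P : Subgroup G) ≤ K → ∀ x ∈ K, x * w = w * x) :
    w ∈ center G := by
  classical
  set C := centralizer (V : Set G) with hCdef
  haveI hCn : C.Normal := by rw [hCdef]; exact Subgroup.normal_centralizer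
  obtain ⟨B₀, ⟨hB₀P, hB₀⟩, hmin⟩ := Set.exists_min_image
    {B : Subgroup G | B ≤ (P : Subgroup G) ∧ Off V B} (fun B => Nat.card B) (Set.toFinite _) hex
  set n := Nat.card B₀
  set 𝔅₀ : Set (Subgroup G) := {B | B ≤ (P : Subgroup G) ∧ Off V B ∧ Nat.card B = n} with h𝔅₀
  set M := centralizer ({w} : Set G) with hMdef
  have hSM : (P : Subgroup G) ≤ M := fun s hs => mem_centralizer_singleton_iff.mpr (hwP s hs)
  -- the closure of all offenders
  set A : Subgroup G := sSup 𝔅₀ with hA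
  have hAP : A ≤ (P : Subgroup G) := sSup_le fun B hB => hB.1
  have hAcmap : ∀ g : G, cmap g A ≤ (P : Subgroup G) → cmap g A ≤ A := fun g hg => by
    rw [cmap, Subgroup.map_le_iff_le_comap]
    refine sSup_le fun B hB => Subgroup.map_le_iff_le_comap.mp (le_sSup ?_)
    exact ⟨(cmap_mono g (le_sSup hB)).trans hg, off_cmap g hB.2.1, (card_cmap g B).trans hB.2.2⟩
  have hfix : ∀ t : G, (∀ B ∈ 𝔅₀, ∀ b ∈ B, t⁻¹ * b * t ∈ M) → t ∈ M := by
    intro t ht
    have hle : cmap t⁻¹ A ≤ M := by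
      rw [cmap, Subgroup.map_le_iff_le_comap]
      refine sSup_le fun B hB b hb => ?_
      simpa using ht B hB b hb
    obtain ⟨m, hm, hmS⟩ := ((isSylowIn_top P).mono hSM le_top).exists_conj_le
      (isPGroup_cmap (isPGroup_mono P.isPGroup' hAP)) hle
    rw [← cmap_mul] at hmS
    have hN : normalizer (A : Set G) ≠ ⊤ := fun h => by
      haveI : A.Normal := normalizer_eq_top_iff.mp h
      refine hB₀.1 ((le_sSup (show B₀ ∈ 𝔅₀ from ⟨hB₀P, hB₀, rfl⟩) : B₀ ≤ A).trans (le_sup_right.trans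
        (hO (C ⊔ A) inferInstance le_sup_left fun x hx => ?_)))
      rw [← SetLike.mem_coe, Subgroup.mul_normal] at hx
      obtain ⟨c, hc, a, ha, rfl⟩ := Set.mem_mul.mp hx
      obtain ⟨k, hk⟩ := isPGroup_mono P.isPGroup' hAP ⟨a, ha⟩
      refine ⟨k, (QuotientGroup.eq_one_iff _).mp ?_⟩
      rw [QuotientGroup.mk_pow, QuotientGroup.mk_mul, (QuotientGroup.eq_one_iff c).mpr hc, one_mul,
        ← QuotientGroup.mk_pow, show a ^ 2 ^ k = 1 from congrArg Subtype.val hk, QuotientGroup.mk_one]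
    have hSN : (P : Subgroup G) ≤ normalizer (A : Set G) := fun s hs =>
      mem_normalizer_of_cmap_le (hAcmap s (cmap_le_iff.mpr fun a ha =>
        mul_mem (mul_mem hs (hAP ha)) (inv_mem hs)))
    have h2 : m * t⁻¹ ∈ M := mem_centralizer_singleton_iff.mpr
      (hsub _ hN hSN _ (mem_normalizer_of_cmap_le (hAcmap _ hmS)))
    have h3 := M.mul_mem (M.inv_mem hm) h2
    rw [inv_mul_cancel_left] at h3
    simpa using M.inv_mem h3
  haveI : IsMulCommutative V := ⟨⟨fun a b => Subtype.ext (hVc _ a.2 _ b.2)⟩⟩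
  open scoped IsMulCommutative in
  letI : CommGroup V := inferInstance
  let ρ : G →* AddMonoid.End (Additive V) :=
    { toFun := fun x => MonoidHom.toAdditive (MulAut.conjNormal (H := V) x).toMonoidHom
      map_one' := AddMonoidHom.ext fun a => by
        show Additive.ofMul (MulAut.conjNormal (H := V) 1 (Additive.toMul a)) = a
        rw [map_one]; rfl
      map_mul' := fun a b => AddMonoidHom.ext fun c => by
        show Additive.ofMul (MulAut.conjNormal (H := V) (a * b) (Additive.toMul c)) = _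
        rw [map_mul]; rfl }
  have hρ : ∀ (x : G) (y : Additive V),
      ((Additive.toMul (ρ x y) : V) : G) = x * (Additive.toMul y : V) * x⁻¹ :=
    fun x y => MulAut.conjNormal_apply x (Additive.toMul y)
  have hfixed : ∀ (x : G) (y : Additive V),
      ρ x y = y ↔ x * (Additive.toMul y : V) = ((Additive.toMul y : V) : G) * x := by
    intro x y
    rw [← Additive.toMul.injective.eq_iff, Subtype.ext_iff, hρ, mul_inv_eq_iff_eq_mul]
  let Z : AddSubgroup (Additive V) :=
    { carrier := {y | ∀ x, ρ x y = y}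
      zero_mem' := fun x => map_zero _
      add_mem' := fun {a b} ha hb x => by rw [map_add, ha x, hb x]
      neg_mem' := fun {a} ha x => by rw [map_neg, ha x] }
  have hZc : ∀ y : Additive V, ((Additive.toMul y : V) : G) ∈ center G → y ∈ Z := fun y hy x =>
    (hfixed x y).mpr (mem_center_iff.mp hy x)
  set 𝔅 : Set (Subgroup (P : Subgroup G)) := {B | B.map (P : Subgroup G).subtype ∈ 𝔅₀} with h𝔅
  have h𝔅conj : ∀ s : (P : Subgroup G), ∀ B ∈ 𝔅, B.map (MulAut.conj s).toMonoidHom ∈ 𝔅 := by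
    rintro s B ⟨hBP, hB, hBn⟩
    have e : (B.map (MulAut.conj s).toMonoidHom).map (P : Subgroup G).subtype =
        cmap (s : G) (B.map (P : Subgroup G).subtype) := by
      rw [cmap, Subgroup.map_map, Subgroup.map_map]; rfl
    refine ⟨Subgroup.map_subtype_le _, ?_, ?_⟩
    · rw [e]; exact off_cmap _ hB
    · rw [e, card_cmap]; exact hBn
  have key := fixed_of_averaging P M ρ Z (fun x z hz => hz x) (fun z hz => hz) 𝔅 h𝔅conj ?_ hSM ?_
    (Additive.ofMul ⟨w, hwV⟩) (fun s hs => (hfixed s _).mpr (hwP s hs))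
    (fun m hm => (hfixed m _).mpr (mem_centralizer_singleton_iff.mp hm))
    (hZc _ (by
      rw [two_nsmul, toMul_add, Subgroup.coe_mul]
      simpa [pow_two] using hw2))
  · exact mem_center_iff.mpr fun x => (hfixed x _).mp (key x)
  · -- the orbit sums
    rintro B hB H hBN hBH
    obtain ⟨hB₁P, ⟨hBC, hBc, hBq, hBoff⟩, hBn⟩ := hB
    set B₁ := B.map (P : Subgroup G).subtype with hB₁
    haveI : Group.IsNilpotent (P : Subgroup G) := P.isPGroup'.isNilpotent
    -- an element of `B` outside `H` whose square lies in `H`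
    have step : ∀ H' : Subgroup (P : Subgroup G), ¬ B ≤ H' → ∃ e ∈ B, e ∉ H' ∧ e * e ∈ H' := by
      intro H' hBH'
      obtain ⟨b, hb, hbH⟩ := Set.not_subset.mp hBH'
      obtain ⟨k, hk⟩ := P.isPGroup' b
      have hex' : ∃ k, b ^ 2 ^ k ∈ H' := ⟨k, by rw [hk]; exact one_mem _⟩
      have h0 : Nat.find hex' ≠ 0 := fun h => hbH (by
        have := Nat.find_spec hex'; rw [h, pow_zero, pow_one] at this; exact this)
      refine ⟨b ^ 2 ^ (Nat.find hex' - 1), pow_mem hb _, Nat.find_min hex' (by omega), ?_⟩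
      rw [← pow_add]
      have := Nat.find_spec hex'
      rwa [show Nat.find hex' = Nat.find hex' - 1 + 1 by omega, pow_succ, mul_two] at this
    have hBab : ∀ a ∈ B, ∀ b ∈ B, a * b = b * a := fun a ha b hb =>
      Subtype.ext (hBc _ (mem_map_of_mem _ ha) _ (mem_map_of_mem _ hb))
    obtain ⟨e, heB, heH, he2⟩ := step H hBH
    by_cases hle : B ≤ H ⊔ zpowers e
    · -- index two
      refine ⟨H ⊔ zpowers e, le_sup_left, fun θ hθ hθZ _ hθ' => ?_⟩
      rw [sum_two _ H (hBN heB) heH he2]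
      suffices h : (ρ.comp (P : Subgroup G).subtype) e θ = θ by
        rw [h, ← two_nsmul]; exact hθZ
      by_contra hne
      set B' := (B ⊓ H).map (P : Subgroup G).subtype with hB'
      have hB'le : B' ≤ B₁ := Subgroup.map_mono inf_le_left
      have hmul : ∀ b ∈ B, b ∈ H ∨ b * e ∈ H := by
        intro b hb
        have hb' : b ∈ (H : Set (P : Subgroup G)) * ((zpowers e : Subgroup (P : Subgroup G)) : Set _) := by
          rw [← coe_mul_of_right_le_normalizer_left H (zpowers e) (zpowers_le.mpr (hBN heB))]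
          exact hle hb
        obtain ⟨h, hh, x, hx, rfl⟩ := Set.mem_mul.mp hb'
        obtain ⟨j, rfl⟩ := mem_zpowers_iff.mp hx
        rcases Int.even_or_odd' j with ⟨i, rfl | rfl⟩
        · exact Or.inl (mul_mem hh (by rw [zpow_mul, zpow_two]; exact zpow_mem he2 i))
        · refine Or.inr ?_
          rw [mul_assoc, ← zpow_add_one, show 2 * i + 1 + 1 = 2 * (i + 1) by ring, zpow_mul, zpow_two]
          exact mul_mem hh (zpow_mem he2 _)
      have hfixθ : ∀ b ∈ B ⊓ H, ((b : (P : Subgroup G)) : G) * (Additive.toMul θ : V)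
          = ((Additive.toMul θ : V) : G) * b := fun b hb => (hfixed _ θ).mp (hθ b hb.2)
      have hcard : Nat.card B₁ = 2 * Nat.card B' := by
        rw [hB₁, hB', Subgroup.card_map_of_injective (subtype_injective _),
          Subgroup.card_map_of_injective (subtype_injective _)]
        have h1 : (H.subgroupOf B).index = 2 := by
          refine index_eq_two_iff.mpr ⟨⟨e, heB⟩, fun b => ?_⟩
          rcases hmul b b.2 with h | h
          · exact Or.inr ⟨mem_subgroupOf.mpr h, fun h' => heH ((mul_mem_cancel_left h).mp (mem_subgroupOf.mp h'))⟩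
          · exact Or.inl ⟨mem_subgroupOf.mpr h, fun h' => heH ((mul_mem_cancel_left (mem_subgroupOf.mp h')).mp h)⟩
        have h2 := (H.subgroupOf B).card_mul_index
        rw [h1, ← Subgroup.inf_subgroupOf_left,
          Nat.card_congr (Subgroup.subgroupOfEquivOfLe inf_le_left).toEquiv] at h2
        omega
      have hCB : B₁ ⊓ C ≤ B' := by
        rintro _ ⟨⟨b, hb, rfl⟩, hbC⟩
        rcases hmul b hb with h | h
        · exact mem_map_of_mem _ ⟨hb, h⟩
        · exfalso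
          refine hne ((hfixed _ θ).mpr ?_)
          have h1 := hfixθ (b * e) ⟨mul_mem hb heB, h⟩
          have h2 := mem_centralizer_iff.mp hbC _ (Additive.toMul θ).2
          show ((e : (P : Subgroup G)) : G) * _ = _
          have h3 : ((b : (P : Subgroup G)) : G) * e = e * b := congrArg Subtype.val (hBab b hb e heB)
          rw [Subgroup.coe_mul] at h1
          refine mul_left_cancel (a := ((b : (P : Subgroup G)) : G)) ?_
          rw [← mul_assoc, h1, ← mul_assoc]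
          simp only [Subgroup.coe_subtype] at h2 ⊢
          rw [h2, mul_assoc]
      have hCC : Nat.card ↥(B₁ ⊓ C) ≤ Nat.card ↥(B' ⊓ C) :=
        card_le_of_le (le_inf hCB inf_le_right)
      by_cases hB'C : B' ≤ C
      · -- transvection
        refine hS4 (involves_s4_of_transvection V hV2 hVc hO (a := (e : G)) (fun heC => hBC ?_) ?_)
        · rintro _ ⟨b, hb, rfl⟩
          rcases hmul b hb with h | h
          · exact hB'C (mem_map_of_mem _ ⟨hb, h⟩)
          · have := C.mul_mem (hB'C (mem_map_of_mem _ (show b * e ∈ B ⊓ H from ⟨mul_mem hb heB, h⟩)))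
              (C.inv_mem heC)
            simpa using this
        · have h1 : Nat.card V * Nat.card B' ≤ 2 * Nat.card B' * Nat.card ↥(V ⊓ centralizer (B₁ : Set G)) := by
            rw [← hcard]
            refine le_trans (le_of_eq ?_) hBoff
            rw [le_antisymm (show B₁ ⊓ C ≤ B' from hCB) (le_inf hB'le hB'C)]
          have h2 : Nat.card ↥(V ⊓ centralizer (B₁ : Set G)) ≤
              Nat.card ↥(V ⊓ centralizer ({(e : G)} : Set G)) :=
            card_le_of_le (inf_le_inf_left _ (Subgroup.centralizer_le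
              (Set.singleton_subset_iff.mpr (mem_map_of_mem (P : Subgroup G).subtype heB))))
          have h3 : 0 < Nat.card B' := Nat.card_pos
          nlinarith
      · -- minimality
        have hnot : ¬ Off V B' := fun hoff => by
          have := hmin B' ⟨Subgroup.map_subtype_le _, hoff⟩
          have h3 : 0 < Nat.card B' := Nat.card_pos
          omega
        have hineq : Nat.card B' * Nat.card ↥(V ⊓ centralizer (B' : Set G)) <
            Nat.card V * Nat.card ↥(B' ⊓ C) := by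
          by_contra hcon
          exact hnot ⟨hB'C, fun a ha b hb => hBc a (hB'le ha) b (hB'le hb),
            fun v hv a ha b hb => hBq v hv a (hB'le ha) b (hB'le hb), not_lt.mp hcon⟩
        have hle' : V ⊓ centralizer (B₁ : Set G) ≤ V ⊓ centralizer (B' : Set G) :=
          inf_le_inf_left _ (Subgroup.centralizer_le hB'le)
        have hlt : Nat.card ↥(V ⊓ centralizer (B' : Set G)) <
            2 * Nat.card ↥(V ⊓ centralizer (B₁ : Set G)) := by
          have h3 : Nat.card ↥(B' ⊓ C) ≤ Nat.card ↥(B₁ ⊓ C) := card_le_of_le (inf_le_inf_right _ hB'le)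
          rw [hcard] at hBoff
          have h4 : 0 < Nat.card B' := Nat.card_pos
          nlinarith
        have heq : V ⊓ centralizer (B₁ : Set G) = V ⊓ centralizer (B' : Set G) := by
          refine eq_of_le_of_card_ge hle' ?_
          obtain ⟨q, hq⟩ := card_dvd_of_le hle'
          have h5 : 0 < Nat.card ↥(V ⊓ centralizer (B' : Set G)) := Nat.card_pos
          rw [hq] at hlt h5 ⊢
          have : q = 1 := by rcases q with _ | _ | q <;> simp_all <;> nlinarith
          rw [this, mul_one]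
        have hv : ((Additive.toMul θ : V) : G) ∈ V ⊓ centralizer (B' : Set G) := by
          refine ⟨(Additive.toMul θ).2, mem_centralizer_iff.mpr ?_⟩
          rintro _ ⟨b, hb, rfl⟩
          exact hfixθ b hb
        rw [← heq] at hv
        exact hne ((hfixed _ θ).mpr (mem_centralizer_iff.mp hv.2 _ (mem_map_of_mem _ heB)))
    · -- four cosets
      obtain ⟨e', he'B, he'H, he'2⟩ := step (H ⊔ zpowers e) hle
      have hN1 : B ≤ normalizer ((H ⊔ zpowers e : Subgroup (P : Subgroup G)) : Set (P : Subgroup G)) := by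
        intro b hb
        refine mem_normalizer_of_cmap_le ?_
        rw [cmap, Subgroup.map_sup]
        refine sup_le_sup (cmap_le_iff.mpr fun x hx => (Subgroup.mem_normalizer_iff.mp (hBN hb) x).mp hx) ?_
        rw [MonoidHom.map_zpowers, zpowers_le]
        show b * e * b⁻¹ ∈ zpowers e
        rw [hBab b hb e heB, mul_inv_cancel_right]
        exact mem_zpowers e
      refine ⟨H ⊔ zpowers e ⊔ zpowers e', le_sup_left.trans le_sup_left, fun θ hθ hθZ _ hθ' => ?_⟩
      letI := Fintype.ofFinite (↥(H ⊔ zpowers e) ⧸ H.subgroupOf (H ⊔ zpowers e))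
      letI := Fintype.ofFinite
        (↥(H ⊔ zpowers e ⊔ zpowers e') ⧸ (H ⊔ zpowers e).subgroupOf (H ⊔ zpowers e ⊔ zpowers e'))
      obtain ⟨h, hsplit⟩ := sum_split (ρ.comp (P : Subgroup G).subtype) H (H ⊔ zpowers e)
        (H ⊔ zpowers e ⊔ zpowers e') le_sup_left le_sup_left θ hθ hθ'
        (θ₁ := θ + (ρ.comp (P : Subgroup G).subtype) e θ)
        (fun h₀ => sum_two _ H (hBN heB) heH he2 θ h₀)
      rw [hsplit, sum_two _ (H ⊔ zpowers e) (hN1 he'B) he'H he'2]
      set ρ' := ρ.comp (P : Subgroup G).subtype with hρ'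
      have hq : ρ' e' (ρ' e θ) - ρ' e' θ - ρ' e θ + θ = 0 := by
        have h1 : ρ' e' (ρ' e θ - θ) = ρ' e θ - θ := by
          refine (hfixed _ _).mpr ?_
          have h2 := commutatorElement_eq_one_iff_mul_comm.mp (hBq _ (Additive.toMul θ).2 _
            (mem_map_of_mem _ heB) _ (mem_map_of_mem _ he'B))
          have e1 : ((Additive.toMul (ρ' e θ - θ) : V) : G) =
              ⁅((Additive.toMul θ : V) : G), ((e : (P : Subgroup G)) : G)⁆⁻¹ := by
            rw [toMul_sub, div_eq_mul_inv, Subgroup.coe_mul, Subgroup.coe_inv]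
            show ((Additive.toMul (ρ ((e : (P : Subgroup G)) : G) θ) : V) : G) * _ = _
            rw [hρ, commutatorElement_def]
            group
          rw [e1]
          exact (Commute.inv_right (h2.symm : Commute _ _))
        rw [map_sub] at h1
        rw [h1]; abel
      have e2 : θ + ρ' e θ + ρ' e' (θ + ρ' e θ) = 2 • ρ' e θ + 2 • ρ' e' θ
          + (ρ' e' (ρ' e θ) - ρ' e' θ - ρ' e θ + θ) := by
        rw [map_add]; abel
      rw [e2, hq, add_zero]
      refine add_mem ?_ ?_ <;> rw [← map_nsmul] <;> exact (hθZ _).symm ▸ hθZ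
  · -- the fixed point
    intro t ht
    refine hfix t fun B hB b hb => ?_
    have hb' : b ∈ (P : Subgroup G) := hB.1 hb
    refine ht (B.subgroupOf (P : Subgroup G)) ?_ ⟨b, hb'⟩ (mem_subgroupOf.mpr hb)
    show (B.subgroupOf (P : Subgroup G)).map (P : Subgroup G).subtype ∈ 𝔅₀
    rw [subgroupOf_map_subtype, inf_eq_left.mpr hB.1]
    exact hB

end Cfsg.Agent.GlaubermanS4Free
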