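import Mathlib
import Cfsg.Agent.Lib.GlaubermanFree
import Cfsg.Agent.Lib.GlaubermanQd

/-! `Qd(p)`-freeness in terms of stability and of control of fusion in all sections. -/

set_option autoImplicit false

open scoped MatrixGroups

namespace Cfsg.Agent.GlaubermanSections

open Subgroup QuadraticMain

universe u

variable {p : ℕ}

/-- Stability on all normal `p`-subgroups of all subgroups gives the normalizer form. -/
theorem isNormalizerPStable_of_forall {G : Type u} [Group G] [Finite G]
    (h : ∀ (H : Subgroup G) (P : Subgroup H) [P.Normal], IsPGroup p P → Cfsg.IsPStableOn p P) :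
    Cfsg.IsNormalizerPStable p G := by
  intro P hP g hg hq
  set N := normalizer (P : Set G) with hN
  have hPN : P ≤ N := le_normalizer
  set P' := P.subgroupOf N with hP'
  haveI hP'n : P'.Normal := LocalBasics.normal_subgroupOf_of_le le_rfl
  set g' : N := ⟨g, hg⟩
  have hq' : ⁅⁅P', zpowers g'⁆, zpowers g'⁆ = ⊥ := by
    apply map_injective N.subtype_injective
    rw [map_commutator, map_commutator, MonoidHom.map_zpowers, hP',
      map_subgroupOf_eq_of_le hPN, Subgroup.map_bot]
    exact hq
  have h1 := h N P' hP.comap_subtype g' hq'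
  have hC : centralizer (P' : Set N) = (centralizer (P : Set G)).subgroupOf N := by
    ext x
    rw [mem_subgroupOf, mem_centralizer_iff, mem_centralizer_iff]
    exact ⟨fun hx y hy => congrArg Subtype.val (hx ⟨y, hPN hy⟩ hy),
      fun hx y hy => Subtype.ext (hx y hy)⟩
  exact HallCore.map_pCore_le (QuotientGroup.quotientMulEquivOfEq hC).surjective
    (mem_map_of_mem (QuotientGroup.quotientMulEquivOfEq hC).toMonoidHom h1)

theorem isNormalizerPStable_of_qd_free [Fact p.Prime] (hp : p ≠ 2) {G : Type u} [Group G] [Finite G]
    (h : ¬ HasSection G (Cfsg.qd p)) : Cfsg.IsNormalizerPStable p G :=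
  isNormalizerPStable_of_forall fun H P _ hP =>
    GlaubermanFree.stable_of_qd_free hp H (fun hs => h (QuadraticMain.hasSection_subgroup H hs)) P hP

/-- Freeness passes to the sections of the statements. -/
theorem section_free {G : Type u} [Group G] {Z : Type} [Group Z] (h : ¬ HasSection G Z)
    (K R : Subgroup G) [(R.subgroupOf K).Normal] : ¬ HasSection (K ⧸ R.subgroupOf K) Z :=
  fun hs => h (QuadraticMain.hasSection_subgroup K
    (QuadraticQd.hasSection_lift (QuotientGroup.mk'_surjective _) hs))

theorem not_hasSection_of_not_involves {G : Type u} [Group G] {Z : Type} [Group Z]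
    (h : ¬ Cfsg.Involves Z G) : ¬ HasSection G Z := fun hs =>
  h (by
    obtain ⟨K, L, hL, he⟩ := QuadraticQd.exists_section hs
    exact ⟨K, L, hL, he⟩)

theorem not_isNormalizerPStable_of_equiv [Fact p.Prime] {X : Type u} [Group X] [Finite X]
    (e : X ≃* Cfsg.qd p) : ¬ Cfsg.IsNormalizerPStable p X := fun hst =>
  GlaubermanQd.not_isNormalizerPStable_qd
    (GlaubermanStable.isNormalizerPStable_of_surjective
      (X := QdStructure56.Qd (ZMod p)) (π := e.toMonoidHom) e.surjective
      (((congrArg (fun H : Subgroup X => Nat.card H)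
        ((MonoidHom.ker_eq_bot_iff e.toMonoidHom).mpr e.injective)).trans card_bot).symm ▸
          Nat.coprime_one_left p)
      hst)

end Cfsg.Agent.GlaubermanSections
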