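import Mathlib
import Cfsg.Agent.Lib.CharExtension
import Cfsg.Agent.Lib.CharKernel
import Cfsg.Agent.Lib.CharGallagher
import Cfsg.Agent.Lib.GlaubermanAbove
import Cfsg.Agent.Lib.GlaubermanLayers

/-!
# Invariant characters over an invariant character, coprime layers, solvable top

The implementing matrices of an invariant `θ ∈ Irr N` give a finite central extension of `G ⧸ N`
whose part of order prime to `[Γ : G]` carries the action of a complement of `G ⧸ N` in `Γ ⧸ N`.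

* `exists_invariant_over` : the resulting `Γ`-invariant constituent of `θ^G`.
-/

set_option autoImplicit false
set_option linter.unusedSectionVars false

open scoped ComplexConjugate

namespace Cfsg.Agent.GlaubermanTriple

open Cfsg Cfsg.Agent.CharBasic Cfsg.Agent.CharBasicOrth Cfsg.Agent.CharBasicDecomp
  Cfsg.Agent.CharExtension

theorem dvd_pow_self_of_dvd_pow {a m j : ℕ} (h : a ∣ m ^ j) (ha : a ≠ 0) : a ∣ m ^ a := by
  rcases Nat.eq_zero_or_pos m with rfl | hm
  · rw [zero_pow ha]; exact dvd_zero a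
  rw [← Nat.factorization_le_iff_dvd ha (pow_ne_zero _ hm.ne'), Finsupp.le_def]
  intro p
  rcases Nat.eq_zero_or_pos (a.factorization p) with h0 | h0
  · rw [h0]; exact Nat.zero_le _
  have hp := Nat.prime_of_mem_primeFactors (Nat.support_factorization a ▸
    Finsupp.mem_support_iff.2 h0.ne')
  have hpa : p ∣ a := Nat.dvd_of_factorization_pos h0.ne'
  have hpm : p ∣ m := hp.dvd_of_dvd_pow (hpa.trans h)
  rw [Nat.factorization_pow, Finsupp.smul_apply, smul_eq_mul]
  calc a.factorization p ≤ a := (Nat.factorization_lt p ha).le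
    _ ≤ _ := Nat.le_mul_of_pos_right _ (hp.factorization_pos_of_dvd hm.ne' hpm)

/-- In a central extension with quotient of order `m` the elements of `m`-power order form a
subgroup that covers the quotient. -/
theorem exists_covering_subgroup {E : Type*} [Group E] [Finite E] (Z : Subgroup E)
    (hZ : Z ≤ Subgroup.center E) :
    ∃ L : Subgroup E, (∀ f : E ≃* E, ∀ l ∈ L, f l ∈ L) ∧ L ⊔ Z = ⊤ ∧
      ∀ p : ℕ, p.Prime → p ∣ Nat.card L → p ∣ Z.index := by
  classical
  let P : E →* E := MonoidHom.mk' (fun e => e ^ Z.index) fun x y => by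
    obtain ⟨c, hc⟩ := Subgroup.index_dvd_of_le hZ
    have hk : (x * y) ^ (Subgroup.center E).index =
        x ^ (Subgroup.center E).index * y ^ (Subgroup.center E).index := by
      have h := map_mul (MonoidHom.transferCenterPow E) x y
      simpa only [← MonoidHom.transferCenterPow_apply, Subgroup.coe_mul] using congrArg Subtype.val h
    have hcomm : Commute (x ^ (Subgroup.center E).index) (y ^ (Subgroup.center E).index) :=
      (Subgroup.mem_center_iff.1 (Subgroup.pow_index_mem _ x) _).symm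
    rw [hc, pow_mul, pow_mul, pow_mul, hk, hcomm.mul_pow]
  have hP : ∀ e : E, P e = e ^ Z.index := fun e => rfl
  set m := Z.index
  have hiter : ∀ j : ℕ, ∃ Q : E →* E, ∀ e : E, Q e = e ^ m ^ j := by
    intro j
    induction j with
    | zero => exact ⟨MonoidHom.id E, fun e => by rw [pow_zero, pow_one]; rfl⟩
    | succ j ih =>
      obtain ⟨Q, hQ⟩ := ih
      refine ⟨P.comp Q, fun e => ?_⟩
      show P (Q e) = _
      rw [hP, hQ, ← pow_mul, pow_succ]
  obtain ⟨Q, hQ⟩ := hiter (Nat.card E)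
  have hmem : ∀ e, e ∈ Q.ker ↔ orderOf e ∣ m ^ Nat.card E := fun e => by
    rw [MonoidHom.mem_ker, hQ, orderOf_dvd_iff_pow_eq_one]
  refine ⟨Q.ker, fun f l hl => ?_, ?_, fun p hp hpL => ?_⟩
  · rw [hmem] at hl ⊢
    rwa [f.orderOf_eq]
  · rw [eq_top_iff]
    intro e _
    have hcl : ∀ (x : E) (p : ℕ), p.Prime → p ∣ m → x ^ p ∈ Q.ker → x ∈ Q.ker := by
      intro x p hp hpm hx
      rw [hmem] at hx ⊢
      have h1 : orderOf x ∣ m ^ (Nat.card E + 1) := by
        refine orderOf_dvd_of_pow_eq_one ?_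
        obtain ⟨c, hc⟩ := hpm
        have h0 := orderOf_dvd_iff_pow_eq_one.1 hx
        calc x ^ m ^ (Nat.card E + 1) = ((x ^ p) ^ m ^ Nat.card E) ^ c := by
              rw [← pow_mul, ← pow_mul, pow_succ]
              congr 1
              rw [hc]; ring
          _ = 1 := by rw [h0, one_pow]
      exact (dvd_pow_self_of_dvd_pow h1 (orderOf_pos x).ne').trans
        (Nat.pow_dvd_pow m (Nat.le_of_dvd Nat.card_pos (orderOf_dvd_natCard x)))
    let q : E →* E ⧸ Q.ker := QuotientGroup.mk' Q.ker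
    have hco : (orderOf (q e)).Coprime m := by
      refine Nat.coprime_of_dvd fun p hp h1 h2 => ?_
      obtain ⟨c, hc⟩ := h1
      have h3 : (e ^ c) ^ p ∈ Q.ker := by
        rw [← QuotientGroup.eq_one_iff, ← QuotientGroup.mk'_apply]
        show q ((e ^ c) ^ p) = 1
        rw [map_pow, map_pow, ← pow_mul, mul_comm, ← hc, pow_orderOf_eq_one]
      have h4 := hcl _ p hp h2 h3
      rw [← QuotientGroup.eq_one_iff, ← QuotientGroup.mk'_apply] at h4
      have h5 : q e ^ c = 1 := by rw [← map_pow]; exact h4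
      have h6 := Nat.le_of_dvd (Nat.pos_of_ne_zero fun h => by
        rw [h, mul_zero] at hc; exact (orderOf_pos (q e)).ne' hc) (orderOf_dvd_of_pow_eq_one h5)
      rw [hc] at h6
      have := hp.two_le
      have : 0 < c := Nat.pos_of_ne_zero fun h => by
        rw [h, mul_zero] at hc; exact (orderOf_pos (q e)).ne' hc
      nlinarith
    obtain ⟨a, b, hab⟩ := Nat.isCoprime_iff_coprime.2 hco
    have he : e ^ (m : ℤ) ∈ Z := by
      rw [zpow_natCast]
      haveI : Z.Normal := ⟨fun z hz g => by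
        rw [← (Subgroup.mem_center_iff.1 (hZ hz) g).symm, mul_assoc, mul_inv_cancel, mul_one]
        exact hz⟩
      exact Subgroup.pow_index_mem Z e
    have h1 : e ^ ((orderOf (q e) : ℤ)) ∈ Q.ker := by
      rw [zpow_natCast, ← QuotientGroup.eq_one_iff, ← QuotientGroup.mk'_apply]
      show q (e ^ orderOf (q e)) = 1
      rw [map_pow, pow_orderOf_eq_one]
    have h2 : e = (e ^ ((orderOf (q e) : ℤ))) ^ a * (e ^ (m : ℤ)) ^ b := by
      rw [← zpow_mul, ← zpow_mul, ← zpow_add, mul_comm (orderOf (q e) : ℤ), mul_comm (m : ℤ),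
        hab, zpow_one]
    rw [h2]
    exact Subgroup.mul_mem _ (Subgroup.mem_sup_left (Subgroup.zpow_mem _ h1 a))
      (Subgroup.mem_sup_right (Subgroup.zpow_mem _ he b))
  · haveI : Fact p.Prime := ⟨hp⟩
    obtain ⟨x, hx⟩ := exists_prime_orderOf_dvd_card' p hpL
    have h1 := (hmem x).1 x.2
    rw [Subgroup.orderOf_coe, hx] at h1
    exact hp.dvd_of_dvd_pow h1

/-- A hom containing an irreducible one has irreducible character. -/
theorem isIrr_of_comp {N P : Type*} [Group N] [Group P] {d : ℕ} {ρ : N →* GU' d}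
    (hirr : (toRep ρ).IsIrreducible) (η : P →* GU' d) (f : N →* P) (hf : ∀ n, η (f n) = ρ n) :
    IsIrrCharacter P (chr η) := by
  refine ⟨d, toRep η, ?_, rfl⟩
  have : Nontrivial (Subrepresentation (toRep η)) := by
    have := nontrivial_of_irreducible (toRep ρ)
    refine ⟨⟨⊥, ⊤, fun h => ?_⟩⟩
    exact bot_ne_top (α := Submodule ℂ (Fin d → ℂ)) (congrArg Subrepresentation.toSubmodule h)
  refine ⟨fun W => ?_⟩
  let W' : Subrepresentation (toRep ρ) := ⟨W.toSubmodule, fun n v hv => by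
    have h := W.apply_mem_toSubmodule (f n) hv
    rw [toRep_apply, hf] at h
    exact h⟩
  rcases eq_bot_or_eq_top W' with h | h
  · exact Or.inl (Subrepresentation.toSubmodule_injective
      (congrArg Subrepresentation.toSubmodule h :))
  · exact Or.inr (Subrepresentation.toSubmodule_injective
      (congrArg Subrepresentation.toSubmodule h :))

universe u

variable {Γ : Type u} [Group Γ] [Fintype Γ]

set_option maxHeartbeats 1600000 in
-- a long construction with nested subgroup and quotient types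
/-- The invariant constituent for a solvable top layer. -/
theorem exists_invariant_over (G N : Subgroup Γ) [hG : G.Normal] [hN : N.Normal] [Fintype G]
    [Fintype N] (hNG : N ≤ G) (hcop : (G.index).Coprime (N.relIndex G))
    (hsolv : Group.IsSolvable (Γ ⧸ G)) (θ : IrrCharacter N)
    (hinv : ∀ (x : Γ) (n : N), (θ : N → ℂ) ⟨x * n * x⁻¹, hN.conj_mem n n.2 x⟩ = (θ : N → ℂ) n) :
    ∃ χ : IrrCharacter G, classInner (fun n : N => (χ : G → ℂ) ⟨n, hNG n.2⟩) (θ : N → ℂ) ≠ 0 ∧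
      ∀ (x : Γ) (g : G), (χ : G → ℂ) ⟨x * g * x⁻¹, hG.conj_mem g g.2 x⟩ = (χ : G → ℂ) g := by
  classical
  obtain ⟨d, ρ, hd0, hθ1, hch, S, hi, hirr⟩ := exists_setup θ.2 hinv
  set o := Nat.card N with ho
  have ho0 : 0 < o := Nat.card_pos
  -- the pairs
  let E0 : Subgroup (Γ × GU' d) :=
    { carrier := {q | q.1 ∈ G ∧ Impl ρ q.2 q.1 ∧ (detU d q.2) ^ o = 1}
      one_mem' := ⟨G.one_mem, Impl.one, by simp⟩
      mul_mem' := fun {a b} ha hb => ⟨G.mul_mem ha.1 hb.1, ha.2.1.mul hb.2.1, by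
        show detU d (a.2 * b.2) ^ o = 1
        rw [map_mul, mul_pow, ha.2.2, hb.2.2, one_mul]⟩
      inv_mem' := fun {a} ha => ⟨G.inv_mem ha.1, ha.2.1.inv, by
        show detU d a.2⁻¹ ^ o = 1
        rw [map_inv, inv_pow, ha.2.2, inv_one]⟩ }
  have hlift : ∀ g : G, ∃ q : E0, (q : Γ × GU' d).1 = g := fun g => by
    obtain ⟨u, hu⟩ := hi (g : Γ)
    obtain ⟨a, ha⟩ := exists_root (d * o) ((detU d u ^ o)⁻¹) (Nat.mul_pos hd0 ho0)
    refine ⟨⟨((g : Γ), u * scal d a), g.2, S.impl_mul_sc hu a, ?_⟩, rfl⟩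
    show detU d (u * scal d a) ^ o = 1
    rw [map_mul, mul_pow, detU_scal, ← pow_mul, ha, mul_inv_cancel]
  let pr : E0 →* G :=
    { toFun := fun q => ⟨(q : Γ × GU' d).1, q.2.1⟩
      map_one' := rfl
      map_mul' := fun _ _ => rfl }
  have hscal : ∀ q : E0, q ∈ pr.ker → ∃ a : ℂˣ, (q : Γ × GU' d).2 = scal d a := fun q hq => by
    have h1 : (q : Γ × GU' d).1 = 1 := congrArg Subtype.val (MonoidHom.mem_ker.1 hq)
    have h2 : Impl ρ (q : Γ × GU' d).2 1 := h1 ▸ q.2.2.1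
    obtain ⟨a, ha⟩ := S.exists_eq_mul h2 Impl.one
    exact ⟨a, by rw [ha, one_mul]⟩
  haveI : Finite pr.ker := by
    haveI : NeZero (d * o) := ⟨(Nat.mul_pos hd0 ho0).ne'⟩
    choose a ha using fun q : pr.ker => hscal q.1 q.2
    refine Finite.of_injective (β := rootsOfUnity (d * o) ℂ) (fun q => ⟨a q, ?_⟩) fun q q' h => ?_
    · have h1 := q.1.2.2.2
      rw [ha q, detU_scal, ← pow_mul] at h1
      rw [mem_rootsOfUnity]
      exact h1
    · apply Subtype.ext; apply Subtype.ext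
      refine Prod.ext ?_ ?_
      · exact (congrArg Subtype.val (MonoidHom.mem_ker.1 q.2)).trans
          (congrArg Subtype.val (MonoidHom.mem_ker.1 q'.2)).symm
      · rw [ha q, ha q']
        exact congrArg (scal d) (congrArg Subtype.val h)
  haveI : Finite E0 := by
    haveI : Finite (E0 ⧸ pr.ker) :=
      Finite.of_injective _ (QuotientGroup.kerLift_injective pr)
    exact Finite.of_equiv ((E0 ⧸ pr.ker) × pr.ker) Subgroup.groupEquivQuotientProdSubgroup.symm
  let ι : N →* E0 :=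
    { toFun := fun n => ⟨((n : Γ), ρ n), hNG n.2, Impl.rho n, by
        show detU d (ρ n) ^ o = 1
        rw [← map_pow, ← map_pow, ho, pow_card_eq_one', map_one, map_one]⟩
      map_one' := Subtype.ext (Prod.ext rfl (map_one ρ))
      map_mul' := fun a b => Subtype.ext (Prod.ext rfl (map_mul ρ a b)) }
  let N0 := ι.range
  haveI hN0 : N0.Normal := ⟨by
    rintro _ ⟨n, rfl⟩ q
    refine ⟨cn (q : Γ × GU' d).1 n, Subtype.ext (Prod.ext rfl ?_)⟩
    exact (q.2.2.1 n).symm⟩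
  let mk : E0 →* E0 ⧸ N0 := QuotientGroup.mk' N0
  have hmkι : ∀ n, mk (ι n) = 1 := fun n =>
    (QuotientGroup.eq_one_iff (ι n)).2 ⟨n, rfl⟩
  have hmkinj : ∀ q ∈ pr.ker, mk q = 1 → q = 1 := by
    intro q hq h1
    obtain ⟨n, hn⟩ := (QuotientGroup.eq_one_iff q).1 h1
    have : (n : Γ) = 1 :=
      (congrArg (fun z : E0 => (z : Γ × GU' d).1) hn).trans
        (congrArg Subtype.val (MonoidHom.mem_ker.1 hq))
    rw [← hn, show n = 1 from Subtype.ext this, map_one]
  let Z := pr.ker.map mk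
  have hZc : Z ≤ Subgroup.center (E0 ⧸ N0) := by
    rintro _ ⟨q, hq, rfl⟩
    refine Subgroup.mem_center_iff.2 fun e => ?_
    obtain ⟨e, rfl⟩ := QuotientGroup.mk'_surjective N0 e
    obtain ⟨a, ha⟩ := hscal q hq
    have h1 : (q : Γ × GU' d).1 = 1 := congrArg Subtype.val (MonoidHom.mem_ker.1 hq)
    show mk e * mk q = mk q * mk e
    rw [← map_mul, ← map_mul]
    congr 1
    refine Subtype.ext (Prod.ext ?_ ?_)
    · show (e : Γ × GU' d).1 * (q : Γ × GU' d).1 = (q : Γ × GU' d).1 * (e : Γ × GU' d).1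
      rw [h1, mul_one, one_mul]
    · show (e : Γ × GU' d).2 * (q : Γ × GU' d).2 = (q : Γ × GU' d).2 * (e : Γ × GU' d).2
      rw [ha]
      exact (S.central a _).eq.symm
  have hprs : Function.Surjective pr := fun g => by
    obtain ⟨q, hq⟩ := hlift g
    exact ⟨q, Subtype.ext hq⟩
  have hZi : Z.index ∣ N.relIndex G := by
    have h1 : (N.subgroupOf G).comap pr ≤ pr.ker ⊔ N0 := fun q hq => by
      have h2 : (q : Γ × GU' d).1 ∈ N := hq
      have h3 : q * (ι ⟨_, h2⟩)⁻¹ ∈ pr.ker := by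
        refine MonoidHom.mem_ker.2 (Subtype.ext ?_)
        exact mul_inv_cancel (q : Γ × GU' d).1
      rw [← inv_mul_cancel_right q (ι ⟨_, h2⟩)]
      exact Subgroup.mul_mem _ (Subgroup.mem_sup_left h3) (Subgroup.mem_sup_right ⟨_, rfl⟩)
    show (pr.ker.map mk).index ∣ _
    rw [Subgroup.index_map, MonoidHom.range_eq_top.2 (QuotientGroup.mk'_surjective N0),
      Subgroup.index_top, mul_one, QuotientGroup.ker_mk']
    refine (Subgroup.index_dvd_of_le h1).trans ?_
    rw [Subgroup.index_comap_of_surjective _ hprs]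
    rfl
  obtain ⟨L, hLinv, hLtop, hLp⟩ := exists_covering_subgroup Z hZc
  have hLcop : (Nat.card L).Coprime G.index := Nat.coprime_of_dvd fun p hp h1 h2 =>
    hp.not_dvd_one (hcop ▸ Nat.dvd_gcd h2 ((hLp p hp h1).trans hZi))
  -- a complement upstairs
  let Gb := G.map (QuotientGroup.mk' N)
  haveI : Gb.Normal := hG.map _ (QuotientGroup.mk'_surjective N)
  have hGbi : Gb.index = G.index := Subgroup.index_map_eq _ (QuotientGroup.mk'_surjective N)
    (by rw [QuotientGroup.ker_mk']; exact hNG)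
  have hGbc : Nat.card Gb = N.relIndex G := by
    have h1 := Gb.card_mul_index
    have h2 := N.card_mul_index
    have h3 := Subgroup.relIndex_mul_index hNG
    rw [hGbi, ← Subgroup.index_eq_card N, ← h3] at h1
    exact Nat.eq_of_mul_eq_mul_right (Nat.pos_of_ne_zero G.index_ne_zero_of_finite) h1
  obtain ⟨K, hK⟩ := Subgroup.exists_right_complement'_of_coprime (N := Gb)
    (by rw [hGbi, hGbc]; exact hcop.symm)
  have hKsolv : Group.IsSolvable K := by
    haveI := hsolv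
    refine Group.isSolvable_of_isSolvable_injective
      (f := (QuotientGroup.map N G (MonoidHom.id Γ) hNG).comp K.subtype) ?_
    rw [← MonoidHom.ker_eq_bot_iff, Subgroup.eq_bot_iff_forall]
    intro k hk
    obtain ⟨x, hx⟩ := QuotientGroup.mk_surjective (k : Γ ⧸ N)
    have h1 : x ∈ G := by
      have : QuotientGroup.map N G (MonoidHom.id Γ) hNG (k : Γ ⧸ N) = 1 := hk
      rw [← hx] at this
      exact (QuotientGroup.eq_one_iff x).1 this
    have h2 : (k : Γ ⧸ N) ∈ Gb ⊓ K := ⟨⟨x, h1, hx⟩, k.2⟩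
    rw [hK.disjoint.eq_bot, Subgroup.mem_bot] at h2
    exact Subtype.ext h2
  have hKcard : Nat.card K = G.index := by rw [← hGbi, hK.symm.index_eq_card]
  -- conjugation by implementing pairs
  let P1 : Subgroup (Γ × GU' d) :=
    { carrier := {q | ((q.1 : Γ ⧸ N)) ∈ K ∧ Impl ρ q.2 q.1}
      one_mem' := ⟨K.one_mem, Impl.one⟩
      mul_mem' := fun {a b} ha hb => ⟨K.mul_mem ha.1 hb.1, ha.2.mul hb.2⟩
      inv_mem' := fun {a} ha => ⟨K.inv_mem ha.1, ha.2.inv⟩ }
  let π : P1 →* K :=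
    { toFun := fun q => ⟨((q : Γ × GU' d).1 : Γ ⧸ N), q.2.1⟩
      map_one' := rfl
      map_mul' := fun _ _ => rfl }
  have hπ : Function.Surjective π := by
    intro k
    obtain ⟨x, hx⟩ := QuotientGroup.mk_surjective (k : Γ ⧸ N)
    obtain ⟨u, hu⟩ := hi x
    exact ⟨⟨(x, u), show ((x : Γ ⧸ N)) ∈ K by rw [hx]; exact k.2, hu⟩, Subtype.ext hx⟩
  have hE0n : ∀ q ∈ P1, ∀ e ∈ E0, q * e * q⁻¹ ∈ E0 := fun q hq e he =>
    ⟨hG.conj_mem _ he.1 _, (hq.2.mul he.2.1).mul hq.2.inv, by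
      show detU d (q.2 * e.2 * q.2⁻¹) ^ o = 1
      rw [map_mul, map_mul, map_inv, mul_inv_cancel_comm, he.2.2]⟩
  let cj : P1 →* MulAut E0 :=
    { toFun := fun q =>
        { toFun := fun e => ⟨q * e * (q : Γ × GU' d)⁻¹, hE0n q q.2 e e.2⟩
          invFun := fun e => ⟨(q⁻¹ : P1) * e * ((q⁻¹ : P1) : Γ × GU' d)⁻¹, hE0n _ (q⁻¹).2 e e.2⟩
          left_inv := fun e => Subtype.ext (by simp [mul_assoc])
          right_inv := fun e => Subtype.ext (by simp [mul_assoc])
          map_mul' := fun e e' => Subtype.ext (by simp [mul_assoc]) }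
      map_one' := MulEquiv.ext fun e => Subtype.ext (by simp)
      map_mul' := fun a b => MulEquiv.ext fun e => Subtype.ext (by simp [mul_assoc]) }
  have hcjN : ∀ q, ∀ e ∈ N0, cj q e ∈ N0 := by
    rintro q _ ⟨n, rfl⟩
    exact ⟨cn (q : Γ × GU' d).1 n, Subtype.ext (Prod.ext rfl (q.2.2 n).symm)⟩
  let cq : P1 →* MulAut (E0 ⧸ N0) := GlaubermanLayers.quotHom cj N0 hcjN
  have hcqZ : ∀ q, ∀ z ∈ Z, cq q z = z := by
    rintro q _ ⟨e, he, rfl⟩
    obtain ⟨a, ha⟩ := hscal e he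
    have h1 : (e : Γ × GU' d).1 = 1 := congrArg Subtype.val (MonoidHom.mem_ker.1 he)
    show mk (cj q e) = mk e
    congr 1
    refine Subtype.ext (Prod.ext ?_ ?_)
    · show (q : Γ × GU' d).1 * (e : Γ × GU' d).1 * (q : Γ × GU' d).1⁻¹ = (e : Γ × GU' d).1
      rw [h1, mul_one, mul_inv_cancel]
    · show (q : Γ × GU' d).2 * (e : Γ × GU' d).2 * (q : Γ × GU' d).2⁻¹ = (e : Γ × GU' d).2
      rw [ha, ← (S.central a _).eq, mul_inv_cancel_right]
  let cL : P1 →* MulAut L := GlaubermanAbove.resSub cq L fun q l hl => hLinv (cq q) l hl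
  have hker : π.ker ≤ cL.ker := by
    intro q hq
    have hx : (q : Γ × GU' d).1 ∈ N :=
      (QuotientGroup.eq_one_iff _).1 (congrArg Subtype.val (MonoidHom.mem_ker.1 hq))
    obtain ⟨a, ha⟩ := S.exists_eq_mul q.2.2 (Impl.rho ⟨_, hx⟩)
    refine MulEquiv.ext fun l => Subtype.ext ?_
    obtain ⟨e, he⟩ := QuotientGroup.mk'_surjective N0 (l : E0 ⧸ N0)
    show cq q (l : E0 ⧸ N0) = (l : E0 ⧸ N0)
    rw [← he]
    show mk (cj q e) = mk e
    have h1 : cj q e = ι ⟨_, hx⟩ * e * (ι ⟨_, hx⟩)⁻¹ := by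
      refine Subtype.ext (Prod.ext rfl ?_)
      show (q : Γ × GU' d).2 * (e : Γ × GU' d).2 * (q : Γ × GU' d).2⁻¹ =
        ρ ⟨_, hx⟩ * (e : Γ × GU' d).2 * (ρ ⟨_, hx⟩)⁻¹
      rw [ha, mul_inv_rev, mul_assoc (ρ ⟨_, hx⟩) (scal d a), (S.central a _).eq]
      simp [mul_assoc]
    rw [h1, map_mul, map_mul, map_inv, show mk (ι ⟨_, hx⟩) = 1 from
      (QuotientGroup.eq_one_iff _).2 ⟨_, rfl⟩]
    simp
  let φ : K →* MulAut L := π.liftOfSurjective hπ ⟨cL, hker⟩
  have hφ : ∀ q, φ (π q) = cL q := fun q =>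
    MonoidHom.liftOfRightInverse_comp_apply π _ _ ⟨cL, hker⟩ q
  -- the linear character of the scalars
  let ZL := Z.subgroupOf L
  haveI : ZL.Normal := ⟨fun z hz g => by
    show (g : E0 ⧸ N0) * z * (g : E0 ⧸ N0)⁻¹ ∈ Z
    have hz' : (z : E0 ⧸ N0) ∈ Z := hz
    rw [Subgroup.mem_center_iff.1 (hZc hz') g, mul_inv_cancel_right]
    exact hz'⟩
  haveI := Fintype.ofFinite L
  haveI := Fintype.ofFinite ZL
  have hrep : ∀ z : ZL, ∃ a : ℂˣ, ∃ q ∈ pr.ker, mk q = ((z : L) : E0 ⧸ N0) ∧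
      (q : Γ × GU' d).2 = scal d a := fun z => by
    obtain ⟨q, hq, hqz⟩ := z.2
    obtain ⟨a, ha⟩ := hscal q hq
    exact ⟨a, q, hq, hqz, ha⟩
  choose sval hsval using hrep
  have hsuniq : ∀ (z : ZL) (q : E0) (a : ℂˣ), q ∈ pr.ker → mk q = ((z : L) : E0 ⧸ N0) →
      (q : Γ × GU' d).2 = scal d a → sval z = a := by
    intro z q a hq hqz ha
    obtain ⟨q', hq', hqz', ha'⟩ := hsval z
    have : q = q' := by
      rw [← inv_mul_eq_one]
      exact hmkinj _ (Subgroup.mul_mem _ (Subgroup.inv_mem _ hq) hq') (by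
        rw [map_mul, map_inv, hqz, hqz', inv_mul_cancel])
    exact S.inj (ha'.symm.trans (this ▸ ha))
  let ω : ZL →* ℂˣ := MonoidHom.mk' (fun z => (sval z)⁻¹) fun z z' => by
    obtain ⟨q, hq, hqz, ha⟩ := hsval z
    obtain ⟨q', hq', hqz', ha'⟩ := hsval z'
    rw [hsuniq (z * z') (q * q') (sval z * sval z') (Subgroup.mul_mem _ hq hq')
      (by rw [map_mul, hqz, hqz']; rfl) (by rw [map_mul, ← ha, ← ha']; rfl), mul_inv]
  let θL : IrrCharacter ZL := ⟨fun z => (ω z : ℂ), isIrrCharacter_linear ω⟩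
  have hφZ : ∀ (k : K) (z : L), z ∈ ZL → φ k z = z := fun k z hz => by
    obtain ⟨q, rfl⟩ := hπ k
    rw [hφ]
    exact Subtype.ext (hcqZ q _ hz)
  obtain ⟨ψ, hψinv, hψ⟩ := GlaubermanAbove.exists_inv_above hKsolv φ (by rw [hKcard]; exact hLcop) ZL
    (fun k z hz => by rw [hφZ k z hz]; exact hz) θL
    (fun k z => congrArg (θL : ZL → ℂ) (Subtype.ext (hφZ k z z.2)))
  have hψz : ∀ (z : ZL) (y : L),
      (ψ : L → ℂ) ((z : L) * y) = (ω z : ℂ) * (ψ : L → ℂ) y := by
    intro z y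
    obtain ⟨n, σ, hσ, hσc⟩ := ψ.2
    obtain ⟨c, hc⟩ := exists_scalar_of_mem_center σ (z := (z : L))
      (Subgroup.mem_center_iff.2 fun g => Subtype.ext (Subgroup.mem_center_iff.1 (hZc z.2) g))
    have h1 : ∀ y, (ψ : L → ℂ) ((z : L) * y) = c * (ψ : L → ℂ) y := fun y => by
      rw [← hσc]
      show LinearMap.trace ℂ _ (σ ((z : L) * y)) = c * LinearMap.trace ℂ _ (σ y)
      rw [map_mul, hc, ← Module.End.one_eq_id, smul_mul_assoc, one_mul, map_smul, smul_eq_mul]
    have horb : CharInduced.orbitFin ZL (θL : ZL → ℂ) = {(θL : ZL → ℂ)} := by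
      refine Finset.eq_singleton_iff_unique_mem.2 ⟨CharInduced.self_mem_orbitFin ZL _, fun f hf => ?_⟩
      obtain ⟨g, rfl⟩ := (CharInduced.mem_orbitFin ZL).1 hf
      refine funext fun w => congrArg (θL : ZL → ℂ) (Subtype.ext (Subtype.ext ?_))
      show (g : E0 ⧸ N0) * ((w : L) : E0 ⧸ N0) * (g : E0 ⧸ N0)⁻¹ = ((w : L) : E0 ⧸ N0)
      have hw : ((w : L) : E0 ⧸ N0) ∈ Z := w.2
      rw [Subgroup.mem_center_iff.1 (hZc hw) g, mul_inv_cancel_right]
    have h2 := CharInduced.clifford ZL ψ.2 θL.2 hψ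
    rw [horb, Finset.sum_singleton] at h2
    have h3 := congrFun h2 z
    have h4 := congrFun h2 1
    simp only [Pi.smul_apply, smul_eq_mul, θL, Subgroup.coe_one, map_one, Units.val_one,
      mul_one] at h3 h4
    rw [← h4, show ((z : L)) = (z : L) * 1 from (mul_one _).symm, h1 1] at h3
    rw [h1 y]
    congr 1
    exact mul_left_cancel₀ (isIrrCharacter_apply_one_ne_zero ψ.2)
      ((mul_comm _ _).trans h3)
  -- the product on the cover
  let L0 : Subgroup E0 := L.comap mk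
  let η : L0 →* GU' d := ((MonoidHom.snd Γ (GU' d)).comp E0.subtype).comp L0.subtype
  let ι0 : N →* L0 := ι.codRestrict L0 fun n => by
    show mk (ι n) ∈ L
    rw [show mk (ι n) = 1 from (QuotientGroup.eq_one_iff _).2 ⟨n, rfl⟩]
    exact L.one_mem
  let N1 := ι0.range
  haveI : N1.Normal := ⟨by
    rintro _ ⟨n, rfl⟩ q
    obtain ⟨m, hm⟩ := hN0.conj_mem (ι n) ⟨n, rfl⟩ (q : E0)
    exact ⟨m, Subtype.ext hm⟩⟩
  haveI := Fintype.ofFinite L0
  haveI := Fintype.ofFinite N1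
  have hη : IsIrrCharacter L0 (chr η) := isIrr_of_comp hirr η ι0 fun n => rfl
  have hη1 : IsIrrCharacter N1 (chr (η.comp N1.subtype)) :=
    isIrr_of_comp hirr _ ι0.rangeRestrict fun n => rfl
  let mL : L0 →* L := (mk.comp L0.subtype).codRestrict L fun q => q.2
  have hmL : Function.Surjective mL := fun l => by
    obtain ⟨e, he⟩ := QuotientGroup.mk'_surjective N0 (l : E0 ⧸ N0)
    exact ⟨⟨e, show mk e ∈ L by rw [show mk e = _ from he]; exact l.2⟩, Subtype.ext he⟩
  let β : L0 → ℂ := (ψ : L → ℂ) ∘ mL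
  have hβ1 : ∀ n : N1, β n = β 1 := by
    rintro ⟨_, n, rfl⟩
    show (ψ : L → ℂ) (mL (ι0 n)) = (ψ : L → ℂ) (mL 1)
    rw [map_one]
    exact congrArg (ψ : L → ℂ) (show mL (ι0 n) = 1 from Subtype.ext (hmkι n))
  have hχ0 := (CharGallagher.bijOn_one N1 hη1 hη (fun n => rfl)).mapsTo
    (show β ∈ _ from ⟨isIrrCharacter_comap mL hmL ψ.2, hβ1⟩)
  let χ0 : IrrCharacter L0 := ⟨β * chr η, hχ0.1⟩
  let pL : L0 →* G := pr.comp L0.subtype
  have hpL : Function.Surjective pL := by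
    intro g
    obtain ⟨q, hq⟩ := hprs g
    have h1 : mk q ∈ L ⊔ Z := hLtop ▸ Subgroup.mem_top _
    haveI : Z.Normal := ⟨fun z hz x => by
      rw [Subgroup.mem_center_iff.1 (hZc hz) x, mul_inv_cancel_right]; exact hz⟩
    obtain ⟨l, hl, z, ⟨z0, hz0, rfl⟩, he⟩ := Subgroup.mem_sup_of_normal_right.1 h1
    refine ⟨⟨q * z0⁻¹, ?_⟩, ?_⟩
    · show mk (q * z0⁻¹) ∈ L
      rw [map_mul, map_inv, ← he, mul_inv_cancel_right]
      exact hl
    · show pr (q * z0⁻¹) = g
      rw [map_mul, map_inv, MonoidHom.mem_ker.1 hz0, inv_one, mul_one, hq]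
  have htriv : ∀ q ∈ pL.ker, ∀ y : L0, (χ0 : L0 → ℂ) (q * y) = (χ0 : L0 → ℂ) y := by
    intro q hq y
    have hq' : (q : E0) ∈ pr.ker := hq
    obtain ⟨a, ha⟩ := hscal q hq'
    let z : ZL := ⟨mL q, show mk (q : E0) ∈ Z from ⟨_, hq', rfl⟩⟩
    have hz : (ω z : ℂ) = ((a : ℂ))⁻¹ := by
      show (((sval z)⁻¹ : ℂˣ) : ℂ) = _
      rw [hsuniq z q a hq' rfl ha, Units.val_inv_eq_inv_val]
    show (ψ : L → ℂ) (mL (q * y)) * chr η (q * y) = (ψ : L → ℂ) (mL y) * chr η y
    rw [map_mul, show mL q = (z : L) from rfl, hψz, hz]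
    have e : chr η (q * y) = (a : ℂ) * chr η y := by
      rw [chr_apply, chr_apply, map_mul, show η q = scal d a from ha, Units.val_mul, scal_val,
        smul_mul_assoc, map_smul, smul_eq_mul]
      rfl
    rw [e]
    field_simp
  obtain ⟨χq, hχq⟩ := CharKernel.exists_quot_irr pL.ker χ0
    (fun q hq => by simpa using htriv q hq 1)
  let eG : L0 ⧸ pL.ker ≃* G := QuotientGroup.quotientKerEquivOfSurjective pL hpL
  let χ : IrrCharacter G :=
    ⟨(χq : L0 ⧸ pL.ker → ℂ) ∘ eG.symm.toMonoidHom,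
      isIrrCharacter_comap _ eG.symm.surjective χq.2⟩
  have hval : ∀ q : L0, (χ : G → ℂ) (pL q) = (ψ : L → ℂ) (mL q) * chr η q := fun q => by
    show (χq : L0 ⧸ pL.ker → ℂ) (eG.symm (pL q)) = _
    rw [show pL q = eG (q : L0 ⧸ pL.ker) from rfl, MulEquiv.symm_apply_apply, ← hχq]
    rfl
  refine ⟨χ, ?_, ?_⟩
  · have e : (fun n : N => (χ : G → ℂ) ⟨n, hNG n.2⟩) = (ψ : L → ℂ) 1 • (θ : N → ℂ) := funext fun n => by
      rw [show (⟨(n : Γ), hNG n.2⟩ : G) = pL (ι0 n) from rfl, hval, Pi.smul_apply, smul_eq_mul,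
        show mL (ι0 n) = 1 from Subtype.ext (hmkι n), ← hch]
      rfl
    rw [e, classInner_smul_left, classInner_irr_self θ.2, mul_one]
    exact isIrrCharacter_apply_one_ne_zero ψ.2
  · have hP : ∀ (q : P1) (g : G), (χ : G → ℂ)
        ⟨(q : Γ × GU' d).1 * g * (q : Γ × GU' d).1⁻¹, hG.conj_mem g g.2 _⟩ = (χ : G → ℂ) g := by
      intro q g
      obtain ⟨y, rfl⟩ := hpL g
      have hy : cj q (y : E0) ∈ L0 := by
        show mk (cj q (y : E0)) ∈ L
        exact hLinv (cq q) _ y.2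
      rw [show (⟨(q : Γ × GU' d).1 * ((pL y : G) : Γ) * (q : Γ × GU' d).1⁻¹,
          hG.conj_mem _ (pL y).2 _⟩ : G) = pL ⟨cj q (y : E0), hy⟩ from rfl, hval, hval]
      congr 1
      · have h1 := hψinv (π q) (mL y)
        rw [hφ] at h1
        exact h1
      · rw [chr_apply, chr_apply]
        show LinearMap.trace ℂ _ (((q : Γ × GU' d).2 * η y * ((q : Γ × GU' d).2)⁻¹ : GU' d) :
          Module.End ℂ (Fin d → ℂ)) = _
        rw [Units.val_mul, Units.val_mul, LinearMap.trace_mul_cycle, Units.inv_mul, one_mul]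
    have hle : ∀ x : Γ, x ∈ CharInduced.inertia G (χ : G → ℂ) := by
      intro x
      have hGI := CharInduced.le_inertia G (CharInduced.isClassFunction_irr χ.2)
      have htop : ((x : Γ ⧸ N)) ∈ Gb ⊔ K := by
        rw [hK.sup_eq_top]; exact Subgroup.mem_top _
      obtain ⟨a, ⟨g, hg, rfl⟩, k, hk, hgk⟩ := Subgroup.mem_sup_of_normal_left.1 htop
      have hxK : ((g⁻¹ * x : Γ) : Γ ⧸ N) ∈ K := by
        rw [QuotientGroup.mk_mul, ← hgk]
        show ((g⁻¹ : Γ) : Γ ⧸ N) * ((g : Γ ⧸ N) * k) ∈ K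
        rw [QuotientGroup.mk_inv, inv_mul_cancel_left]
        exact hk
      obtain ⟨u, hu⟩ := hi (g⁻¹ * x)
      have h1 : g⁻¹ * x ∈ CharInduced.inertia G (χ : G → ℂ) :=
        (CharInduced.mem_inertia_iff G).2 (hP ⟨(g⁻¹ * x, u), hxK, hu⟩)
      rw [← mul_inv_cancel_left g x]
      exact Subgroup.mul_mem _ (hGI hg) h1
    exact fun x => (CharInduced.mem_inertia_iff G).1 (hle x)

end Cfsg.Agent.GlaubermanTriple
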