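import Mathlib
import Cfsg.Agent.Lib.GlaubermanZJ
import Cfsg.Agent.Lib.PGroupsBasic
import Cfsg.Agent.Lib.OffendersReplace

/-!
# Commutators of an abelian subgroup of largest order with a normal abelian subgroup

If `A` is abelian of largest order in a `p`-group `P`, `W ≤ P` is an abelian normal subgroup of the
ambient group and `B ≤ A` has index `j`, then `C_A` has index at most `j` in `C_W(B)`.
-/

set_option autoImplicit false

namespace Cfsg.Agent.GlaubermanWeakEst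

open Subgroup
open scoped commutatorElement

universe u

variable {G : Type u} [Group G] [Finite G] {p : ℕ}

/-- In a finite `p`-group nothing nontrivial is a power of its commutator with another element. -/
theorem eq_one_of_eq_zpow_comm [Fact p.Prime] {P : Subgroup G} (hP : IsPGroup p P) {a d : G}
    (ha : a ∈ P) (hd : d ∈ P) (i : ℤ) (h : d = ⁅a, d⁆ ^ i) : d = 1 := by
  have key : ∀ m, d ∈ P.lowerCentralSeries m := by
    intro m
    induction m with
    | zero => rwa [Subgroup.lowerCentralSeries_zero]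
    | succ m ih =>
      rw [h, Subgroup.lowerCentralSeries_succ, commutator_comm]
      exact zpow_mem (commutator_mem_commutator ha ih) i
  obtain ⟨m, hm⟩ : ∃ m, P.lowerCentralSeries m = ⊥ :=
    (Subgroup.isNilpotent_iff_lowerCentralSeries P).mp hP.isNilpotent
  exact mem_bot.mp (hm ▸ key m)

/-- A group of order at most four consists of `1, v, c, vc` as soon as these differ. -/
theorem four_classes {Q : Type*} [Group Q] [Finite Q] (hQ : Nat.card Q ≤ 4) {v c a : Q}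
    (hv : v ≠ 1) (hc : c ≠ 1) (ha : a ≠ 1) (hcv : c ≠ v) (hav : a ≠ v) (hvc : v * c ≠ 1) :
    a = c ∨ a = v * c := by
  classical
  haveI : Fintype Q := Fintype.ofFinite Q
  have h4 : ({1, v, c, v * c} : Finset Q).card = 4 := by
    rw [Finset.card_insert_of_notMem (by simp [hv.symm, hc.symm, hvc.symm]),
      Finset.card_insert_of_notMem (by simp [hcv.symm, hc]),
      Finset.card_insert_of_notMem (by simp [hv]), Finset.card_singleton]
  have huniv : ({1, v, c, v * c} : Finset Q) = Finset.univ := by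
    refine Finset.eq_univ_of_card _ (le_antisymm (Finset.card_le_univ _) ?_)
    rw [h4, ← Nat.card_eq_fintype_card]
    exact hQ
  have : a ∈ ({1, v, c, v * c} : Finset Q) := huniv ▸ Finset.mem_univ a
  simp only [Finset.mem_insert, Finset.mem_singleton] at this
  rcases this with h | h | h | h
  exacts [absurd h ha, absurd h hav, Or.inl h, Or.inr h]

/-! ### Commutation with an abelian normal subgroup -/

section Comm

variable {W : Subgroup G} [W.Normal]

omit [Finite G] in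
theorem comm_mem (a : G) {u : G} (hu : u ∈ W) : ⁅a, u⁆ ∈ W := by
  rw [commutatorElement_def]
  exact W.mul_mem (Normal.conj_mem ‹W.Normal› u hu a) (W.inv_mem hu)

omit [Finite G] [W.Normal] in
theorem conj_eq_comm_mul (a u : G) : a * u * a⁻¹ = ⁅a, u⁆ * u := by
  rw [commutatorElement_def]; group

omit [Finite G] in
theorem comm_mul (hW : ∀ u ∈ W, ∀ v ∈ W, u * v = v * u) (a : G) {u v : G} (hu : u ∈ W) (hv : v ∈ W) :
    ⁅a, u * v⁆ = ⁅a, u⁆ * ⁅a, v⁆ := by
  have h1 : ⁅a, u * v⁆ = ⁅a, u⁆ * (u * ⁅a, v⁆ * u⁻¹) := by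
    simp only [commutatorElement_def]; group
  rw [h1, hW u hu _ (comm_mem a hv), mul_inv_cancel_right]

/-- `u ↦ ⁅a, u⁆` as an endomorphism of `W`. -/
def commHom (hW : ∀ u ∈ W, ∀ v ∈ W, u * v = v * u) (a : G) : W →* W where
  toFun u := ⟨⁅a, (u : G)⁆, comm_mem a u.2⟩
  map_one' := Subtype.ext (commutatorElement_one_right a)
  map_mul' u v := Subtype.ext (comm_mul hW a u.2 v.2)

omit [Finite G] in
theorem comm_zpow (hW : ∀ u ∈ W, ∀ v ∈ W, u * v = v * u) (a : G) {u : G} (hu : u ∈ W) (i : ℤ) :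
    ⁅a, u ^ i⁆ = ⁅a, u⁆ ^ i := by
  have h := congrArg Subtype.val (map_zpow (commHom hW a) (⟨u, hu⟩ : W) i)
  simp only [commHom, MonoidHom.coe_mk, OneHom.coe_mk, SubgroupClass.coe_zpow] at h
  exact h

omit [Finite G] in
theorem comm_inv (hW : ∀ u ∈ W, ∀ v ∈ W, u * v = v * u) (a : G) {u : G} (hu : u ∈ W) :
    ⁅a, u⁻¹⁆ = ⁅a, u⁆⁻¹ := by
  have h := congrArg Subtype.val (map_inv (commHom hW a) (⟨u, hu⟩ : W))
  simp only [commHom, MonoidHom.coe_mk, OneHom.coe_mk, InvMemClass.coe_inv] at h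
  exact h

omit [Finite G] in
/-- Commutation with commuting elements commutes. -/
theorem comm_comm (hW : ∀ u ∈ W, ∀ v ∈ W, u * v = v * u) {a c : G} (hac : a * c = c * a) {u : G}
    (hu : u ∈ W) : ⁅a, ⁅c, u⁆⁆ = ⁅c, ⁅a, u⁆⁆ := by
  have ha : ∀ w, ⁅a, w⁆ = a * w * a⁻¹ * w⁻¹ := fun w => commutatorElement_def a w
  have hc : ∀ w, ⁅c, w⁆ = c * w * c⁻¹ * w⁻¹ := fun w => commutatorElement_def c w
  have hcu : c * u * c⁻¹ ∈ W := Normal.conj_mem ‹W.Normal› u hu c
  have hau : a * u * a⁻¹ ∈ W := Normal.conj_mem ‹W.Normal› u hu a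
  rw [hc u, comm_mul hW a hcu (W.inv_mem hu), comm_inv hW a hu, ha u,
    comm_mul hW c hau (W.inv_mem hu), comm_inv hW c hu, ha (c * u * c⁻¹), hc (a * u * a⁻¹), hc u]
  have e1 : a * (c * u * c⁻¹) * a⁻¹ = (a * c) * u * (a * c)⁻¹ := by group
  have e2 : c * (a * u * a⁻¹) * c⁻¹ = (c * a) * u * (c * a)⁻¹ := by group
  rw [e1, e2, hac]
  set X := c * a * u * (c * a)⁻¹ with hX
  have hXW : X ∈ W := Normal.conj_mem ‹W.Normal› u hu (c * a)
  have hac' : a * u * a⁻¹ * (c * u * c⁻¹) = c * u * c⁻¹ * (a * u * a⁻¹) := hW _ hau _ hcu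
  have r1 : ∀ A' C' : G, A' ∈ W → C' ∈ W →
      X * C'⁻¹ * (A' * u⁻¹)⁻¹ = X * (u * (C'⁻¹ * A'⁻¹)) := by
    intro A' C' hA' hC'
    rw [mul_inv_rev, inv_inv, mul_assoc, ← mul_assoc C'⁻¹ u,
      hW _ (W.inv_mem hC') u hu, mul_assoc u]
  rw [r1 _ _ hau hcu, r1 _ _ hcu hau, hW _ (W.inv_mem hau) _ (W.inv_mem hcu)]

end Comm

/-! ### The estimate -/

/-- `A` abelian of largest order in `P`, `B ≤ A` of index `j`: `C_A` has index `≤ j` in `C_W(B)`. -/
theorem card_inf_centralizer_le {P A B W : Subgroup G} (hA : A ∈ GlaubermanZJ.maxFam 0 P)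
    (hBA : B ≤ A) {j : ℕ} (hj : Nat.card A = j * Nat.card B)
    (hW : ∀ u ∈ W, ∀ v ∈ W, u * v = v * u) (hWP : W ≤ P) :
    Nat.card (W ⊓ centralizer (B : Set G) : Subgroup G) ≤
      j * Nat.card ((W ⊓ centralizer (B : Set G)) ⊓ centralizer (A : Set G) : Subgroup G) := by
  set U := W ⊓ centralizer (B : Set G) with hU
  have hBc : ∀ b ∈ B, ∀ u ∈ U, b * u = u * b := fun b hb u hu => mem_centralizer_iff.mp hu.2 b hb
  have hBU : B ≤ normalizer (U : Set G) := fun b hb =>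
    LocalBasics.centralizer_le_normalizer U (mem_centralizer_iff.mpr fun u hu => (hBc b hb u hu).symm)
  have hcomm : ∀ x ∈ B ⊔ U, ∀ y ∈ B ⊔ U, x * y = y * x := by
    intro x hx y hy
    rw [← SetLike.mem_coe, coe_mul_of_left_le_normalizer_right _ _ hBU] at hx hy
    obtain ⟨b, hb, u, hu, rfl⟩ := hx
    obtain ⟨b', hb', u', hu', rfl⟩ := hy
    have e1 : Commute b b' := hA.1.comm b (hBA hb) b' (hBA hb')
    have e2 : Commute u u' := hW u hu.1 u' hu'.1
    have e3 : Commute b u' := hBc b hb u' hu'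
    have e4 : Commute u b' := (hBc b' hb' u hu).symm
    exact ((e1.mul_right e3).mul_left (e4.mul_right e2)).eq
  have hfam : GlaubermanZJ.IsFam 0 P (B ⊔ U) :=
    ⟨sup_le (hBA.trans hA.1.le) (inf_le_left.trans hWP), hcomm, fun x _ => pow_zero x⟩
  have h1 := hA.2 _ hfam
  have h2 := OffendersReplace.card_sup_mul_card_inf B U hBU
  have h3 : Nat.card (B ⊓ U : Subgroup G) ≤ Nat.card (U ⊓ centralizer (A : Set G) : Subgroup G) :=
    card_le_of_le (le_inf inf_le_right fun b hb => mem_centralizer_iff.mpr fun a ha =>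
      hA.1.comm a ha b (hBA hb.1))
  refine Nat.le_of_mul_le_mul_left ?_ (Nat.card_pos (α := B))
  calc Nat.card B * Nat.card U = Nat.card (B ⊔ U : Subgroup G) * Nat.card (B ⊓ U : Subgroup G) :=
        h2.symm
    _ ≤ Nat.card A * Nat.card (U ⊓ centralizer (A : Set G) : Subgroup G) := Nat.mul_le_mul h1 h3
    _ = _ := by rw [hj]; ring

section Index

variable [hp : Fact p.Prime] {P A B W : Subgroup G} [W.Normal]

omit [W.Normal] in
theorem relIndex_le (hA : A ∈ GlaubermanZJ.maxFam 0 P)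
    (hBA : B ≤ A) {j : ℕ} (hj : Nat.card A = j * Nat.card B)
    (hW : ∀ u ∈ W, ∀ v ∈ W, u * v = v * u) (hWP : W ≤ P) :
    ((W ⊓ centralizer (B : Set G)) ⊓ centralizer (A : Set G)).relIndex
      (W ⊓ centralizer (B : Set G)) ≤ j := by
  set U := W ⊓ centralizer (B : Set G)
  set F := U ⊓ centralizer (A : Set G)
  refine Nat.le_of_mul_le_mul_left ?_ (Nat.card_pos (α := F))
  rw [mul_comm _ j]
  refine le_trans (le_of_eq ?_) (card_inf_centralizer_le hA hBA hj hW hWP)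
  rw [relIndex, ← Nat.card_congr (subgroupOfEquivOfLe (inf_le_left : F ≤ U)).toEquiv]
  exact card_mul_index _

omit [W.Normal] hp in
theorem normal_fixed (hW : ∀ u ∈ W, ∀ v ∈ W, u * v = v * u) :
    (((W ⊓ centralizer (B : Set G)) ⊓ centralizer (A : Set G)).subgroupOf
      (W ⊓ centralizer (B : Set G))).Normal :=
  ⟨fun n hn g => by
    have : g * n * g⁻¹ = n := Subtype.ext (by
      show (g : G) * n * (g : G)⁻¹ = n
      rw [hW g g.2.1 n n.2.1, mul_inv_cancel_right])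
    rwa [this]⟩

omit [Finite G] [W.Normal] hp in
theorem conj_mem_inf {a : G} (hWn : W.Normal) (haB : ∀ b ∈ B, a * b = b * a) {u : G}
    (hu : u ∈ W ⊓ centralizer (B : Set G)) : a * u * a⁻¹ ∈ W ⊓ centralizer (B : Set G) := by
  refine ⟨hWn.conj_mem u hu.1 a, mem_centralizer_iff.mpr fun b hb => ?_⟩
  have e1 : Commute b a := (haB b hb).symm
  exact ((e1.mul_right (mem_centralizer_iff.mp hu.2 b hb)).mul_right e1.inv_right).eq

/-- Index `p`: commutators have exponent `p` and are fixed. -/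
theorem index_p (hP : IsPGroup p P) (hA : A ∈ GlaubermanZJ.maxFam 0 P)
    (hBA : B ≤ A) (hj : Nat.card A = p * Nat.card B)
    (hW : ∀ u ∈ W, ∀ v ∈ W, u * v = v * u) (hWP : W ≤ P) {a u : G} (ha : a ∈ A)
    (hu : u ∈ W ⊓ centralizer (B : Set G)) :
    ⁅a, u⁆ ^ p = 1 ∧ ⁅a, ⁅a, u⁆⁆ = 1 := by
  set U := W ⊓ centralizer (B : Set G) with hU
  set F := U ⊓ centralizer (A : Set G) with hF
  haveI := normal_fixed (A := A) (B := B) hW
  have hidx : F.relIndex U ≤ p := relIndex_le hA hBA hj hW hWP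
  have hUp : IsPGroup p U := hP.to_le (inf_le_left.trans hWP)
  have hFfix : ∀ f ∈ F, ⁅a, f⁆ = 1 := fun f hf =>
    commutatorElement_eq_one_iff_mul_comm.mpr (mem_centralizer_iff.mp hf.2 a ha)
  obtain ⟨k, hk⟩ := hUp.index (F.subgroupOf U)
  have hk1 : k ≤ 1 := by
    by_contra h
    have h2 : p ^ 2 ≤ p ^ k := Nat.pow_le_pow_right hp.out.pos (by omega)
    rw [← hk] at h2
    have := hidx
    rw [relIndex] at this
    nlinarith [hp.out.two_le]
  have haB : ∀ b ∈ B, a * b = b * a := fun b hb => hA.1.comm a ha b (hBA hb)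
  refine ⟨?_, ?_⟩
  · have hpow : u ^ p ∈ F := by
      have h1 : (⟨u, hu⟩ : U) ^ (F.subgroupOf U).index ∈ F.subgroupOf U := pow_index_mem _ _
      rw [hk] at h1
      have hd : p ^ k ∣ p := by
        interval_cases k <;> simp
      obtain ⟨m, hm⟩ := hd
      rw [hm, pow_mul]
      have h2 : u ^ p ^ k ∈ F := h1
      exact pow_mem h2 m
    have h := hFfix _ hpow
    have h' : ⁅a, u ^ (p : ℤ)⁆ = 1 := by rw [zpow_natCast]; exact h
    rwa [comm_zpow hW a hu.1, zpow_natCast] at h'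
  · set d := ⁅a, u⁆ with hd
    have hdU : d ∈ U := by
      rw [hd, commutatorElement_def]
      exact U.mul_mem (conj_mem_inf ‹W.Normal› haB hu) (U.inv_mem hu)
    by_contra hne
    have hdF : d ∉ F := fun h => hne (hFfix d h)
    have hk' : k = 1 := by
      refine le_antisymm hk1 (Nat.one_le_iff_ne_zero.mpr fun h0 => hdF ?_)
      rw [h0, pow_zero, index_eq_one] at hk
      exact (show (⟨d, hdU⟩ : U) ∈ F.subgroupOf U by rw [hk]; exact mem_top _)
    have hco : IsCoatom (F.subgroupOf U) :=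
      PGroupsBasic.isCoatom_of_index_eq (p := p) (by rw [hk, hk', pow_one])
    have htop : F.subgroupOf U ⊔ zpowers (⟨d, hdU⟩ : U) = ⊤ := hco.2 _ (left_lt_sup.mpr fun h =>
      hdF (mem_subgroupOf.mp (zpowers_le.mp h) :))
    obtain ⟨f, hf, z, hz, hfz⟩ := mem_sup_of_normal_left.mp (htop ▸ mem_top (⟨u, hu⟩ : U) :
      (⟨u, hu⟩ : U) ∈ F.subgroupOf U ⊔ zpowers (⟨d, hdU⟩ : U))
    obtain ⟨i, rfl⟩ := mem_zpowers_iff.mp hz
    have hue : u = (f : G) * d ^ i := (congrArg Subtype.val hfz).symm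
    refine hne ?_
    have h1 : d = ⁅a, d⁆ ^ i := by
      conv_lhs => rw [hd, hue]
      rw [comm_mul hW a f.2.1 (W.zpow_mem hdU.1 i), hFfix _ (mem_subgroupOf.mp hf), one_mul,
        comm_zpow hW a hdU.1]
    rw [eq_one_of_eq_zpow_comm hP (hA.1.le ha) (hWP hdU.1) i h1, commutatorElement_one_right]

/-- Index `4`: the double commutator is a square. -/
theorem index_four (hP : IsPGroup 2 P) (hA : A ∈ GlaubermanZJ.maxFam 0 P)
    (hBA : B ≤ A) (hj : Nat.card A = 4 * Nat.card B)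
    (hW : ∀ u ∈ W, ∀ v ∈ W, u * v = v * u) (hWP : W ≤ P) {a c v : G} (ha : a ∈ A) (hc : c ∈ A)
    (hc2 : c * c ∈ B) (hv : v ∈ W ⊓ centralizer (B : Set G)) :
    ∃ w ∈ W, ⁅a, ⁅c, v⁆⁆ = w * w := by
  haveI : Fact (Nat.Prime 2) := ⟨Nat.prime_two⟩
  set U := W ⊓ centralizer (B : Set G) with hU
  set F := U ⊓ centralizer (A : Set G) with hF
  haveI := normal_fixed (A := A) (B := B) hW
  have hidx : F.relIndex U ≤ 4 := relIndex_le hA hBA hj hW hWP
  have hmemU : ∀ e ∈ A, ∀ u ∈ U, ⁅e, u⁆ ∈ U := fun e he u hu => by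
    rw [commutatorElement_def]
    exact U.mul_mem (conj_mem_inf ‹W.Normal› (fun b hb => hA.1.comm e he b (hBA hb)) hu)
      (U.inv_mem hu)
  have hFfix : ∀ e ∈ A, ∀ f ∈ F, ⁅e, f⁆ = 1 := fun e he f hf =>
    commutatorElement_eq_one_iff_mul_comm.mpr (mem_centralizer_iff.mp hf.2 e he)
  -- elements congruent modulo `F` have the same commutators
  have hsame : ∀ e ∈ A, ∀ x y : U, (QuotientGroup.mk' (F.subgroupOf U)) x =
      (QuotientGroup.mk' (F.subgroupOf U)) y → ⁅e, (x : G)⁆ = ⁅e, (y : G)⁆ := by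
    intro e he x y h
    obtain ⟨f, hf, hxy⟩ := (QuotientGroup.mk'_eq_mk' _).mp h
    rw [← hxy, coe_mul, comm_mul hW e x.2.1 f.2.1, hFfix e he _ (mem_subgroupOf.mp hf), mul_one]
  have hnil : ∀ e ∈ A, ∀ x ∈ W, ∀ i : ℤ, x = ⁅e, x⁆ ^ i → x = 1 := fun e he x hx i h =>
    eq_one_of_eq_zpow_comm hP (hA.1.le he) (hWP hx) i h
  set q := ⁅a, ⁅c, v⁆⁆ with hq
  by_cases hq1 : q = 1
  · exact ⟨1, W.one_mem, by rw [hq1, mul_one]⟩
  set r := ⁅c, v⁆ with hr
  set s := ⁅a, v⁆ with hs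
  have hrU : r ∈ U := hmemU c hc v hv
  have hsU : s ∈ U := hmemU a ha v hv
  have hqU : q ∈ U := hmemU a ha r hrU
  have hcs : ⁅c, s⁆ = q := (comm_comm hW (hA.1.comm a ha c hc) hv.1).symm
  -- the square relation
  have hcr : ⁅c, r⁆ = (r * r)⁻¹ := by
    have h1 : c * c * v * (c * c)⁻¹ = v := by
      rw [mem_centralizer_iff.mp hv.2 _ hc2, mul_inv_cancel_right]
    have h2 : c * c * v * (c * c)⁻¹ = ⁅c, r⁆ * (r * r) * v := by
      calc c * c * v * (c * c)⁻¹ = c * (c * v * c⁻¹) * c⁻¹ := by group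
        _ = c * (r * v) * c⁻¹ := by rw [hr, ← conj_eq_comm_mul]
        _ = (c * r * c⁻¹) * (c * v * c⁻¹) := by group
        _ = ⁅c, r⁆ * r * (r * v) := by rw [conj_eq_comm_mul c r, conj_eq_comm_mul c v, hr]
        _ = _ := by simp only [mul_assoc]
    rw [h1] at h2
    exact eq_inv_of_mul_eq_one_left (mul_eq_right.mp h2.symm)
  set π := QuotientGroup.mk' (F.subgroupOf U)
  set qv := π ⟨v, hv⟩
  set qr := π ⟨r, hrU⟩
  set qs := π ⟨s, hsU⟩
  have hone : ∀ e ∈ A, ∀ (x : G) (hx : x ∈ U), π ⟨x, hx⟩ = 1 → ⁅e, x⁆ = 1 := fun e he x hx h => by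
    have := hsame e he ⟨x, hx⟩ 1 (h.trans (map_one π).symm)
    simpa using this
  have n1 : qv ≠ 1 := fun h => hq1 (by
    rw [hq, hr, hone c hc v hv h, commutatorElement_one_right])
  have n2 : qr ≠ 1 := fun h => hq1 (hone a ha r hrU h)
  have n3 : qs ≠ 1 := fun h => hq1 (hcs ▸ hone c hc s hsU h)
  have n4 : qr ≠ qv := fun h => hq1 (by
    have e : q = s := hsame a ha ⟨r, hrU⟩ ⟨v, hv⟩ h
    refine hnil c hc q hqU.1 1 ?_
    rw [zpow_one]
    conv_rhs => rw [e]
    exact hcs.symm)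
  have n5 : qs ≠ qv := fun h => hq1 (by
    have e : q = r := by rw [← hcs]; exact hsame c hc ⟨s, hsU⟩ ⟨v, hv⟩ h
    refine hnil a ha q hqU.1 1 ?_
    rw [zpow_one]
    conv_rhs => rw [e])
  have n6 : qv * qr ≠ 1 := fun h => hq1 (by
    have h' : π ⟨r, hrU⟩ = π (⟨v, hv⟩⁻¹) := by rw [map_inv]; exact eq_inv_of_mul_eq_one_right h
    have e : q = s⁻¹ := by
      have := hsame a ha _ _ h'
      rwa [coe_inv, comm_inv hW a hv.1] at this
    refine hnil c hc q hqU.1 (-1) ?_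
    rw [zpow_neg, zpow_one]
    conv_rhs => rw [e, comm_inv hW c hsU.1, hcs, inv_inv])
  have hQ : Nat.card (U ⧸ F.subgroupOf U) ≤ 4 := hidx
  rcases four_classes hQ n1 n2 n3 n4 n5 n6 with h | h
  · -- `q = ⁅c, r⁆`
    have e : q = ⁅c, r⁆ := by rw [← hcs]; exact hsame c hc ⟨s, hsU⟩ ⟨r, hrU⟩ h
    exact ⟨r⁻¹, W.inv_mem hrU.1, by rw [e, hcr, mul_inv_rev]⟩
  · exfalso
    have e : q = r⁻¹ := by
      have h' : π ⟨s, hsU⟩ = π (⟨v, hv⟩ * ⟨r, hrU⟩) := by rw [map_mul]; exact h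
      have := hsame c hc _ _ h'
      rw [coe_mul, comm_mul hW c hv.1 hrU.1, ← hr, hcs] at this
      rw [this, hcr, mul_inv_rev, mul_inv_cancel_left]
    refine hq1 (hnil a ha q hqU.1 (-1) ?_)
    rw [zpow_neg, zpow_one]
    conv_rhs => rw [e, comm_inv hW a hrU.1, inv_inv]

end Index

end Cfsg.Agent.GlaubermanWeakEst
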