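import Mathlib
import Cfsg.Agent.Lib.GlaubermanWeakEst

/-!
# Products over orbits of an abelian subgroup of largest order
-/

set_option autoImplicit false

namespace Cfsg.Agent.GlaubermanWeakOrbit

open Subgroup MulAction GlaubermanWeakEst
open scoped commutatorElement

universe u

open scoped Classical in
/-- A product over an orbit is the product over the translates of the orbit of a normal subgroup
of index `p` containing the stabiliser. -/
theorem prod_orbit_eq {A α V : Type*} [Group A] [Finite A] [MulAction A α] [Fintype α]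
    [CommGroup V] (ρ : A →* MulAut V) (f : α → V) (heq : ∀ (g : A) (r : α), f (g • r) = ρ g (f r))
    (q : α) (B : Subgroup A) [B.Normal] (hst : stabilizer A q ≤ B) {p : ℕ} [hp : Fact p.Prime]
    (hidx : B.index = p) {a : A} (ha : a ∉ B) :
    ∏ r ∈ Finset.univ.filter (· ∈ orbit A q), f r =
      ∏ i ∈ Finset.range p, ρ (a ^ i) (∏ r ∈ Finset.univ.filter (· ∈ orbit B q), f r) := by
  set π := QuotientGroup.mk' B
  have hord : orderOf (π a) = p := by
    refine ((Nat.dvd_prime hp.out).mp ?_).resolve_left fun h =>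
      ha ((QuotientGroup.eq_one_iff a).mp (orderOf_eq_one_iff.mp h))
    rw [← hidx]
    exact orderOf_dvd_natCard _
  have hgen : zpowers (π a) = ⊤ :=
    eq_top_of_card_eq _ (by rw [Nat.card_zpowers, hord, ← hidx]; rfl)
  symm
  calc ∏ i ∈ Finset.range p, ρ (a ^ i) (∏ r ∈ Finset.univ.filter (· ∈ orbit B q), f r)
      = ∏ i ∈ Finset.range p, ∏ r ∈ Finset.univ.filter (· ∈ orbit B q), f (a ^ i • r) := by
        refine Finset.prod_congr rfl fun i _ => ?_
        rw [map_prod]
        exact Finset.prod_congr rfl fun r _ => (heq _ r).symm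
    _ = ∏ x ∈ Finset.range p ×ˢ Finset.univ.filter (· ∈ orbit B q), f (a ^ x.1 • x.2) :=
        (Finset.prod_product (Finset.range p) (Finset.univ.filter (· ∈ orbit B q))
          (fun x => f (a ^ x.1 • x.2))).symm
    _ = _ := by
      refine Finset.prod_bij (fun x _ => a ^ x.1 • x.2) ?_ ?_ ?_ fun x _ => rfl
      · rintro ⟨i, r⟩ hx
        simp only [Finset.mem_product, Finset.mem_filter, Finset.mem_univ, true_and] at hx ⊢
        obtain ⟨b, rfl⟩ := hx.2
        exact ⟨a ^ i * b, mul_smul _ _ _⟩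
      · rintro ⟨i, r⟩ hx ⟨j, r'⟩ hx' h
        simp only [Finset.mem_product, Finset.mem_filter, Finset.mem_univ, true_and,
          Finset.mem_range] at hx hx' h
        obtain ⟨b, hb⟩ := hx.2
        obtain ⟨b', hb'⟩ := hx'.2
        change (b : A) • q = r at hb
        change (b' : A) • q = r' at hb'
        have h1 : (a ^ i * (b : A))⁻¹ * (a ^ j * (b' : A)) ∈ B := hst (by
          rw [mem_stabilizer_iff, mul_smul, mul_smul, hb', ← h, ← hb, ← mul_smul (a ^ i),
            inv_smul_smul])
        have h2 := (QuotientGroup.eq_one_iff _).mpr h1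
        change π ((a ^ i * (b : A))⁻¹ * (a ^ j * (b' : A))) = 1 at h2
        rw [map_mul, map_inv, map_mul, map_mul, show π (b : A) = 1 from
          (QuotientGroup.eq_one_iff _).mpr b.2, show π (b' : A) = 1 from
          (QuotientGroup.eq_one_iff _).mpr b'.2, mul_one, mul_one, map_pow, map_pow,
          inv_mul_eq_one] at h2
        have hij : i = j := pow_injOn_Iio_orderOf (Set.mem_Iio.mpr (hord ▸ hx.1))
          (Set.mem_Iio.mpr (hord ▸ hx'.1)) h2
        subst hij
        exact Prod.ext rfl (MulAction.injective (a ^ i) h)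
      · intro r hr
        simp only [Finset.mem_filter, Finset.mem_univ, true_and] at hr
        obtain ⟨g, rfl⟩ := hr
        obtain ⟨i, hi, he⟩ : ∃ i < p, π a ^ i = π g := by
          have h1 : π g ∈ zpowers (π a) := hgen ▸ mem_top _
          rw [(isOfFinOrder_of_finite (π a)).mem_zpowers_iff_mem_range_orderOf] at h1
          simpa [hord] using h1
        have hb : (a ^ i)⁻¹ * g ∈ B := by
          rw [← QuotientGroup.eq_one_iff]
          change π ((a ^ i)⁻¹ * g) = 1
          rw [map_mul, map_inv, map_pow, he, inv_mul_cancel]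
        refine ⟨(i, ((a ^ i)⁻¹ * g) • q), ?_, ?_⟩
        · simp only [Finset.mem_product, Finset.mem_filter, Finset.mem_univ, true_and,
            Finset.mem_range]
          exact ⟨hi, ⟨⟨_, hb⟩, rfl⟩⟩
        · show a ^ i • ((a ^ i)⁻¹ * g) • q = g • q
          rw [← mul_smul, mul_inv_cancel_left]

open scoped Classical in
theorem prod_orbit_fixed {A α V : Type*} [Group A] [MulAction A α] [Fintype α]
    [CommGroup V] (ρ : A →* MulAut V) (f : α → V) (heq : ∀ (g : A) (r : α), f (g • r) = ρ g (f r))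
    (q : α) (B : Subgroup A) {b : A} (hb : b ∈ B) :
    ρ b (∏ r ∈ Finset.univ.filter (· ∈ orbit B q), f r) =
      ∏ r ∈ Finset.univ.filter (· ∈ orbit B q), f r := by
  rw [map_prod]
  refine Finset.prod_bij (fun r _ => b • r) ?_ (fun r _ r' _ h => MulAction.injective b h) ?_
    fun r _ => (heq b r).symm
  · intro r hr
    simp only [Finset.mem_filter, Finset.mem_univ, true_and] at hr ⊢
    obtain ⟨c, rfl⟩ := hr
    exact ⟨⟨b, hb⟩ * c, mul_smul _ _ _⟩
  · intro r hr
    simp only [Finset.mem_filter, Finset.mem_univ, true_and] at hr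
    obtain ⟨c, rfl⟩ := hr
    refine ⟨b⁻¹ • (c : A) • q, ?_, smul_inv_smul b _⟩
    simp only [Finset.mem_filter, Finset.mem_univ, true_and]
    exact ⟨⟨b, hb⟩⁻¹ * c, mul_smul _ _ _⟩

section

variable {G : Type u} [Group G] [Finite G] {p : ℕ} [hp : Fact p.Prime] {P A W : Subgroup G} [W.Normal]

omit [Finite G] hp in
theorem conj_pow_eq (a : G) {u d : G} (hd : ⁅a, u⁆ = d) (hfix : ⁅a, d⁆ = 1) (i : ℕ) :
    a ^ i * u * (a ^ i)⁻¹ = d ^ i * u := by
  have hcd : Commute a d := commutatorElement_eq_one_iff_mul_comm.mp hfix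
  induction i with
  | zero => simp
  | succ i ih =>
    calc a ^ (i + 1) * u * (a ^ (i + 1))⁻¹ = a * (a ^ i * u * (a ^ i)⁻¹) * a⁻¹ := by
          rw [pow_succ']; group
      _ = (a * d ^ i * a⁻¹) * (a * u * a⁻¹) := by rw [ih]; group
      _ = d ^ i * (d * u) := by
          rw [(hcd.pow_right i).eq, mul_inv_cancel_right, conj_eq_comm_mul, hd]
      _ = d ^ (i + 1) * u := by rw [pow_succ, mul_assoc]

open scoped Classical in
/-- The product of equivariant values over a nontrivial orbit of `A`. -/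
theorem orbit_prod (hP : IsPGroup p P) (hA : A ∈ GlaubermanZJ.maxFam 0 P)
    (hW : ∀ u ∈ W, ∀ v ∈ W, u * v = v * u) (hWP : W ≤ P) [IsMulCommutative W]
    {α : Type*} [Fintype α] [MulAction G α] (f : α → W)
    (heq : ∀ (g : G) (r : α), (f (g • r) : G) = g * f r * g⁻¹)
    (q : α) (hq : ∃ a ∈ A, a • q ≠ q) :
    letI : CommGroup W := { (inferInstance : Group W) with mul_comm := IsMulCommutative.is_comm.comm }
    let Q : G := ((∏ r ∈ Finset.univ.filter (· ∈ orbit A q), f r : W) : G)
    (p ≠ 2 → ∃ w ∈ W, Q = w ^ p) ∧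
    (p = 2 → ∃ w ∈ W, Q ^ 2 = w ^ 4) ∧
    (p = 2 → (∀ B : Subgroup G, B ≤ A → Nat.card A = 2 * Nat.card B → ∀ r : α,
        (∀ b ∈ B, b • r = r) → (∀ a ∈ A, a • r = r → a ∈ B) → ∀ a ∈ A, ⁅a, (f r : G)⁆ = 1) →
      ∃ w ∈ W, Q = w ^ 2) := by
  letI : CommGroup W := { (inferInstance : Group W) with mul_comm := IsMulCommutative.is_comm.comm }
  intro Q
  have hAp : IsPGroup p A := hP.to_le hA.1.le
  haveI : IsMulCommutative A :=
    ⟨⟨fun a b => Subtype.ext (hA.1.comm a a.2 b b.2)⟩⟩
  set ρ : A →* MulAut W := (MulAut.conjNormal (H := W)).comp A.subtype with hρ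
  have hρv : ∀ (a : A) (w : W), ((ρ a w : W) : G) = (a : G) * w * (a : G)⁻¹ := fun a w => rfl
  have heq' : ∀ (g : A) (r : α), f (g • r) = ρ g (f r) := fun g r => Subtype.ext (heq g r)
  obtain ⟨a0, ha0, ha0q⟩ := hq
  have hst : stabilizer A q ≠ ⊤ := fun h => ha0q
    (mem_stabilizer_iff.mp (h ▸ mem_top (⟨a0, ha0⟩ : A) : (⟨a0, ha0⟩ : A) ∈ stabilizer A q) :)
  obtain ⟨B, hBn, hBidx, hBst⟩ := PGroupsBasic.exists_normal_index_eq hAp hst
  haveI := hBn
  obtain ⟨a, haB⟩ : ∃ a : A, a ∉ B := by
    by_contra h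
    push Not at h
    rw [show B = ⊤ from eq_top_iff.mpr fun x _ => h x, index_top] at hBidx
    exact hp.out.one_lt.ne hBidx
  have hprod := prod_orbit_eq ρ f heq' q B hBst hBidx haB
  set uu : W := ∏ r ∈ Finset.univ.filter (· ∈ orbit B q), f r with huu
  set B' := B.map A.subtype with hB'
  have hB'A : B' ≤ A := map_subtype_le B
  have hcardB : Nat.card A = p * Nat.card B' := by
    rw [hB', card_map_of_injective A.subtype_injective, ← hBidx, mul_comm, card_mul_index]
  have hcentral : ∀ (C : Subgroup A) (w : W), (∀ c ∈ C, ρ c w = w) →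
      (w : G) ∈ W ⊓ centralizer ((C.map A.subtype : Subgroup G) : Set G) := by
    intro C w h
    refine ⟨w.2, mem_centralizer_iff.mpr ?_⟩
    rintro _ ⟨c, hc, rfl⟩
    exact mul_inv_eq_iff_eq_mul.mp ((hρv c w).symm.trans (congrArg Subtype.val (h c hc)))
  have huB : (uu : G) ∈ W ⊓ centralizer (B' : Set G) :=
    hcentral B uu fun b hb => prod_orbit_fixed ρ f heq' q B hb
  obtain ⟨hdp, hdfix⟩ := index_p hP hA hB'A hcardB hW hWP (a := (a : G)) a.2 huB
  set d := ⁅(a : G), (uu : G)⁆ with hd
  have hdW : d ∈ W := comm_mem _ uu.2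
  -- the product as a product of translates
  have hQ : Q = d ^ (∑ i ∈ Finset.range p, i) * (uu : G) ^ p := by
    have key : ∀ n, ((∏ i ∈ Finset.range n, ρ (a ^ i) uu : W) : G) =
        d ^ (∑ i ∈ Finset.range n, i) * (uu : G) ^ n := by
      intro n
      induction n with
      | zero => simp
      | succ n ih =>
        rw [Finset.prod_range_succ, Finset.sum_range_succ, coe_mul, ih, hρv,
          SubgroupClass.coe_pow, conj_pow_eq (a : G) hd.symm hdfix, pow_add, pow_succ]
        have hc : Commute ((uu : G) ^ n) (d ^ n) :=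
          (show Commute (uu : G) d from hW _ uu.2 _ hdW).pow_pow n n
        simp only [mul_assoc]
        rw [← mul_assoc ((uu : G) ^ n), hc.eq, mul_assoc]
    show ((∏ r ∈ Finset.univ.filter (· ∈ orbit A q), f r : W) : G) = _
    rw [hprod, key]
  refine ⟨fun hp2 => ⟨uu, uu.2, ?_⟩, fun h2 => ?_, fun h2 hpair => ?_⟩
  · obtain ⟨k, hk⟩ : p ∣ ∑ i ∈ Finset.range p, i := by
      have h1 := Finset.sum_range_id_mul_two p
      have h2 : p ∣ (∑ i ∈ Finset.range p, i) * 2 := h1 ▸ dvd_mul_right p _
      exact ((Nat.coprime_primes hp.out Nat.prime_two).mpr hp2).dvd_of_dvd_mul_right h2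
    rw [hQ, hk, pow_mul, hdp, one_pow, one_mul]
  · subst h2
    refine ⟨uu, uu.2, ?_⟩
    rw [hQ, show ∑ i ∈ Finset.range 2, i = 1 from rfl, pow_one,
      (show Commute d ((uu : G) ^ 2) from hW _ hdW _ (pow_mem uu.2 2)).mul_pow, hdp, one_mul,
      ← pow_mul]
  · subst h2
    suffices hsq : ∃ w ∈ W, d = w * w by
      obtain ⟨w, hw, hdw⟩ := hsq
      refine ⟨w * uu, W.mul_mem hw uu.2, ?_⟩
      rw [hQ, show ∑ i ∈ Finset.range 2, i = 1 from rfl, pow_one, hdw, ← pow_two,
        (show Commute w (uu : G) from hW w hw _ uu.2).mul_pow]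
    by_cases hfull : stabilizer A q = B
    · refine ⟨1, W.one_mem, ?_⟩
      have horb : Finset.univ.filter (· ∈ orbit B q) = {q} := by
        ext r
        simp only [Finset.mem_filter, Finset.mem_univ, true_and, Finset.mem_singleton]
        refine ⟨fun ⟨b, hb⟩ => ?_, fun h => by rw [h]; exact mem_orbit_self q⟩
        rw [← hb]
        exact mem_stabilizer_iff.mp (hfull.symm ▸ b.2 : (b : A) ∈ stabilizer A q)
      have huq : uu = f q := by rw [huu, horb, Finset.prod_singleton]
      rw [one_mul, hd, huq]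
      refine hpair B' hB'A hcardB q ?_ ?_ _ a.2
      · rintro _ ⟨b, hb, rfl⟩
        exact mem_stabilizer_iff.mp (hfull.symm ▸ hb : b ∈ stabilizer A q)
      · intro b hb hbq
        exact ⟨⟨b, hb⟩, hfull ▸ mem_stabilizer_iff.mpr hbq, rfl⟩
    · -- the orbit of `B` splits
      have hBp : IsPGroup 2 B := hAp.to_subgroup B
      have hstB : stabilizer B q ≠ ⊤ := fun h => hfull (le_antisymm hBst fun b hb =>
        mem_stabilizer_iff.mpr (mem_stabilizer_iff.mp
          (h ▸ mem_top (⟨b, hb⟩ : B) : (⟨b, hb⟩ : B) ∈ stabilizer B q) :))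
      obtain ⟨C, hCn, hCidx, hCst⟩ := PGroupsBasic.exists_normal_index_eq hBp hstB
      haveI := hCn
      obtain ⟨c, hcC⟩ : ∃ c : B, c ∉ C := by
        by_contra h
        push Not at h
        rw [show C = ⊤ from eq_top_iff.mpr fun x _ => h x, index_top] at hCidx
        exact absurd hCidx (by norm_num)
      set ρB : B →* MulAut W := ρ.comp B.subtype
      have heqB : ∀ (g : B) (r : α), f (g • r) = ρB g (f r) := fun g r => heq' g r
      have hprodB := prod_orbit_eq ρB f heqB q C hCst hCidx hcC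
      rw [Finset.prod_range_succ, Finset.prod_range_one, pow_zero, pow_one, map_one,
        MulAut.one_apply] at hprodB
      set v : W := ∏ r ∈ Finset.univ.filter (· ∈ orbit C q), f r with hv
      set C' := (C.map B.subtype).map A.subtype with hC'
      have hC'A : C' ≤ A := map_subtype_le _
      have hvC : (v : G) ∈ W ⊓ centralizer (C' : Set G) := by
        refine hcentral _ v ?_
        rintro _ ⟨x, hx, rfl⟩
        exact prod_orbit_fixed ρB f heqB q C hx
      have hcardC : Nat.card A = 4 * Nat.card C' := by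
        have h1 := card_mul_index B
        have h2 := card_mul_index C
        rw [hBidx] at h1
        rw [hCidx] at h2
        rw [hC', card_map_of_injective A.subtype_injective, card_map_of_injective B.subtype_injective]
        omega
      have hcc : (((c : A) : G)) * ((c : A) : G) ∈ C' :=
        ⟨(c * c : B), mem_map_of_mem _ (by
          have := pow_index_mem C c
          rwa [hCidx, pow_two] at this), rfl⟩
      obtain ⟨w, hw, hqw⟩ := index_four hP hA hC'A hcardC hW hWP (a := (a : G)) (c := ((c : A) : G))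
        a.2 (c : A).2 hcc hvC
      have huv : (uu : G) = (v : G) * (⁅((c : A) : G), (v : G)⁆ * v) := by
        rw [← conj_eq_comm_mul]
        exact congrArg Subtype.val hprodB
      set s := ⁅(a : G), (v : G)⁆ with hs
      have hsW : s ∈ W := comm_mem _ v.2
      have hrW : ⁅((c : A) : G), (v : G)⁆ ∈ W := comm_mem _ v.2
      refine ⟨s * w, W.mul_mem hsW hw, ?_⟩
      rw [hd, huv, comm_mul hW _ v.2 (W.mul_mem hrW v.2), comm_mul hW _ hrW v.2, hqw, ← hs,
        hW (w * w) (W.mul_mem hw hw) s hsW]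
      have hcws : Commute w s := hW w hw s hsW
      rw [← mul_assoc s s, ← pow_two, ← pow_two, ← pow_two, hcws.symm.mul_pow]

end

end Cfsg.Agent.GlaubermanWeakOrbit
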