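import Mathlib
import Cfsg.Agent.Lib.GlaubermanWeakEst
import Cfsg.Agent.Lib.BaerSuzuki
import Cfsg.Agent.S2759

/-!
# Transvections in a group not involving `S₄`

An element acting as a transvection on a normal abelian subgroup `U` lies in `O₂` of the action
unless `S₄` is involved.
-/

set_option autoImplicit false

namespace Cfsg.Agent.GlaubermanWeakS4

open Subgroup GlaubermanWeakEst TransferAlperin
open scoped commutatorElement

universe u

variable {G : Type u} [Group G] [Finite G]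

/-- Two elements permuting the involutions of a four group as different transpositions. -/
theorem involves_of_moves {a b d e : G} (hd : d * d = 1) (he : e * e = 1) (hde : d * e = e * d)
    (hd1 : d ≠ 1) (he1 : e ≠ 1) (hne : d ≠ e) (had : a * d * a⁻¹ = d) (hae : a * e * a⁻¹ = d * e)
    (hbe : b * e * b⁻¹ = e) (hbd : b * d * b⁻¹ = d * e) :
    Cfsg.Involves (Equiv.Perm (Fin 4)) G := by
  classical
  have hd3 : ∀ z, d * (d * z) = z := fun z => by rw [← mul_assoc, hd, one_mul]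
  have he3 : ∀ z, e * (e * z) = z := fun z => by rw [← mul_assoc, he, one_mul]
  have hed3 : ∀ z, e * (d * z) = d * (e * z) := fun z => by rw [← mul_assoc, ← hde, mul_assoc]
  let T : Subgroup G :=
    { carrier := {z | z = 1 ∨ z = d ∨ z = e ∨ z = d * e}
      one_mem' := Or.inl rfl
      mul_mem' := by
        rintro x y (rfl | rfl | rfl | rfl) (rfl | rfl | rfl | rfl) <;>
          simp [Set.mem_ofPred_eq, mul_assoc, hd3, he3, hed3, hd, he, hde.symm]
      inv_mem' := by
        rintro x (rfl | rfl | rfl | rfl)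
        · exact Or.inl inv_one
        · exact Or.inr (Or.inl (inv_eq_of_mul_eq_one_right hd))
        · exact Or.inr (Or.inr (Or.inl (inv_eq_of_mul_eq_one_right he)))
        · exact Or.inr (Or.inr (Or.inr (inv_eq_of_mul_eq_one_right
            (by simp [mul_assoc, hed3, hd, he])))) }
  have hsq : ∀ z ∈ T, z ^ 2 = 1 := by
    rintro z (rfl | rfl | rfl | rfl) <;> simp [pow_two, mul_assoc, hed3, hd3, hd, he]
  have hTp : IsPGroup 2 T := fun z => ⟨1, Subtype.ext (by
    rw [SubgroupClass.coe_pow, pow_one, hsq z z.2]; rfl)⟩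
  let vs : Fin 3 → G := ![d, e, d * e]
  have hde1 : d * e ≠ 1 := fun h =>
    hne ((eq_inv_of_mul_eq_one_left h).trans (inv_eq_of_mul_eq_one_right he))
  have hvs : Function.Injective vs := by
    intro i j h
    fin_cases i <;> fin_cases j <;> simp [vs, hne, hne.symm, hd1, he1] at h ⊢
  have hvsT : ∀ i, vs i ∈ T ∧ vs i ≠ 1 := by
    intro i
    fin_cases i
    · exact ⟨Or.inr (Or.inl rfl), hd1⟩
    · exact ⟨Or.inr (Or.inr (Or.inl rfl)), he1⟩
    · exact ⟨Or.inr (Or.inr (Or.inr rfl)), hde1⟩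
  have hcov : ∀ z ∈ T, z ≠ 1 → ∃ i, vs i = z := by
    rintro z (rfl | rfl | rfl | rfl) h
    · exact absurd rfl h
    · exact ⟨0, rfl⟩
    · exact ⟨1, rfl⟩
    · exact ⟨2, rfl⟩
  have hperm : ∀ (k : ↥(normalizer (T : Set G))) (i : Fin 3), ∃ j, vs j = (k : G) * vs i * (k : G)⁻¹ :=
    fun k i => hcov _ ((mem_normalizer_iff.mp k.2 _).mp (hvsT i).1)
      fun h => (hvsT i).2 (conj_eq_one_iff.mp h)
  choose π hπ using hperm
  have hπ1 : ∀ i, π 1 i = i := fun i => hvs (by rw [hπ]; simp)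
  have hπmul : ∀ k l i, π (k * l) i = π k (π l i) := fun k l i => hvs (by
    rw [hπ, hπ, hπ]; simp [mul_assoc])
  let ψ : ↥(normalizer (T : Set G)) →* Equiv.Perm (Fin 3) :=
    { toFun := fun k =>
        { toFun := π k
          invFun := π k⁻¹
          left_inv := fun i => by rw [← hπmul, inv_mul_cancel, hπ1]
          right_inv := fun i => by rw [← hπmul, mul_inv_cancel, hπ1] }
      map_one' := Equiv.ext hπ1
      map_mul' := fun k l => Equiv.ext (hπmul k l) }
  have haT : a ∈ normalizer (T : Set G) := by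
    refine mem_normalizer_fintype ?_
    rintro z (rfl | rfl | rfl | rfl)
    · exact Or.inl (by group)
    · exact Or.inr (Or.inl had)
    · exact Or.inr (Or.inr (Or.inr hae))
    · exact Or.inr (Or.inr (Or.inl (by rw [← conj_mul, had, hae, hd3])))
  have hbT : b ∈ normalizer (T : Set G) := by
    refine mem_normalizer_fintype ?_
    rintro z (rfl | rfl | rfl | rfl)
    · exact Or.inl (by group)
    · exact Or.inr (Or.inr (Or.inr hbd))
    · exact Or.inr (Or.inr (Or.inl hbe))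
    · exact Or.inr (Or.inl (by rw [← conj_mul, hbd, hbe, mul_assoc, he, mul_one]))
  have hA : ψ ⟨a, haT⟩ = Equiv.swap 1 2 := by
    refine Equiv.ext fun i => hvs ?_
    show vs (π ⟨a, haT⟩ i) = _
    rw [hπ]
    fin_cases i
    · exact had
    · exact hae
    · show a * (d * e) * a⁻¹ = vs 1
      rw [← conj_mul, had, hae, hd3]; rfl
  have hB : ψ ⟨b, hbT⟩ = Equiv.swap 0 2 := by
    refine Equiv.ext fun i => hvs ?_
    show vs (π ⟨b, hbT⟩ i) = _
    rw [hπ]
    fin_cases i
    · exact hbd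
    · exact hbe
    · show b * (d * e) * b⁻¹ = vs 0
      rw [← conj_mul, hbd, hbe, mul_assoc, he, mul_one]; rfl
  have hgen : ∀ σ : Equiv.Perm (Fin 3), σ = 1 ∨ σ = Equiv.swap 1 2 ∨ σ = Equiv.swap 0 2 ∨
      σ = Equiv.swap 1 2 * Equiv.swap 0 2 ∨ σ = Equiv.swap 0 2 * Equiv.swap 1 2 ∨
      σ = Equiv.swap 1 2 * Equiv.swap 0 2 * Equiv.swap 1 2 := by decide
  have hsurj : Function.Surjective ψ := by
    intro σ
    rcases hgen σ with h | h | h | h | h | h <;> subst h
    · exact ⟨1, map_one ψ⟩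
    · exact ⟨_, hA⟩
    · exact ⟨_, hB⟩
    · exact ⟨⟨a, haT⟩ * ⟨b, hbT⟩, by rw [map_mul, hA, hB]⟩
    · exact ⟨⟨b, hbT⟩ * ⟨a, haT⟩, by rw [map_mul, hA, hB]⟩
    · exact ⟨⟨a, haT⟩ * ⟨b, hbT⟩ * ⟨a, haT⟩, by rw [map_mul, map_mul, hA, hB]⟩
  obtain ⟨x, y, ⟨i, hx⟩, ⟨k, hy⟩, hxy, hψy⟩ := S2759.inverted_three ψ hsurj
  refine S2759.of_inverted T hTp (x : G) ⟨i, by rwa [Subgroup.orderOf_coe]⟩ x.2 k (y : G)
    (by rwa [Subgroup.orderOf_coe]) y.2 (congrArg Subtype.val hxy) fun hc => hψy ?_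
  refine Equiv.ext fun j => hvs ?_
  show vs (π y j) = vs j
  rw [hπ, ← mem_centralizer_iff.mp hc _ (hvsT j).1, mul_inv_cancel_right]

omit [Finite G] in
theorem comm_prod (k l u : G) : ⁅k * l, u⁆ = ⁅k, ⁅l, u⁆⁆ * ⁅l, u⁆ * ⁅k, u⁆ := by
  simp only [commutatorElement_def]; group

/-- A transvection on `U` lies in `O₂` of the group induced on `U`. -/
theorem mem_pCore_of_transvection (hfree : ¬ Cfsg.Involves (Equiv.Perm (Fin 4)) G) (U : Subgroup G)
    [U.Normal] (hU : ∀ u ∈ U, ∀ v ∈ U, u * v = v * u) {a d : G} (ha : ∃ i, a ^ 2 ^ i = 1)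
    (hdU : d ∈ U) (hd2 : d * d = 1) (had : ⁅a, d⁆ = 1) (htr : ∀ u ∈ U, ⁅a, u⁆ = 1 ∨ ⁅a, u⁆ = d) :
    QuotientGroup.mk' (centralizer (U : Set G)) a ∈ Cfsg.pCore 2 (G ⧸ centralizer (U : Set G)) := by
  classical
  haveI : Fact (Nat.Prime 2) := ⟨Nat.prime_two⟩
  set C := centralizer (U : Set G) with hC
  set π := QuotientGroup.mk' C with hπ
  have hπs : Function.Surjective π := QuotientGroup.mk'_surjective C
  set X := zpowers (π a) with hX
  have hXp : IsPGroup 2 X := by
    obtain ⟨i, hi⟩ := ha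
    rintro ⟨_, m, rfl⟩
    refine ⟨i, Subtype.ext ?_⟩
    show ((π a) ^ m) ^ 2 ^ i = 1
    rw [← zpow_natCast, ← zpow_mul, mul_comm, zpow_mul, zpow_natCast, ← map_pow, hi, map_one,
      one_zpow]
  suffices hpairs : ∀ gq, IsPGroup 2 ↥(X ⊔ X.map (MulAut.conj gq).toMonoidHom) by
    obtain ⟨N, hNn, hNp, hXN⟩ := BaerSuzuki.exists_normal_pGroup_of_pairs (p := 2) X hXp hpairs
    haveI := hNn
    exact HallCore.le_pCore hNp (hXN (mem_zpowers _))
  intro gq
  obtain ⟨g, rfl⟩ := hπs gq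
  set b := g * a * g⁻¹ with hb
  set d' := g * d * g⁻¹ with hd'
  have hd'U : d' ∈ U := Normal.conj_mem ‹U.Normal› d hdU g
  have hd'2 : d' * d' = 1 := by rw [hd', conj_mul, hd2]; group
  have hbd' : ⁅b, d'⁆ = 1 := by
    rw [hb, hd', ← conjugate_commutatorElement, had]; group
  have hbtr : ∀ u ∈ U, ⁅b, u⁆ = 1 ∨ ⁅b, u⁆ = d' := by
    intro u hu
    have hu' : g⁻¹ * u * g ∈ U := by
      have := Normal.conj_mem ‹U.Normal› u hu g⁻¹
      rwa [inv_inv] at this
    have e : u = g * (g⁻¹ * u * g) * g⁻¹ := by group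
    rw [e, hb, ← conjugate_commutatorElement]
    rcases htr _ hu' with h | h <;> rw [h]
    · left; group
    · right; rw [hd']
  -- the elements of exponent two
  let U2 : Subgroup G :=
    { carrier := {z | z ∈ U ∧ z * z = 1}
      one_mem' := ⟨U.one_mem, one_mul 1⟩
      mul_mem' := fun {z w} hz hw => ⟨U.mul_mem hz.1 hw.1, by
        rw [show z * w * (z * w) = z * (w * z) * w by group, hU w hw.1 z hz.1,
          show z * (z * w) * w = (z * z) * (w * w) by group, hz.2, hw.2, one_mul]⟩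
      inv_mem' := fun {z} hz => ⟨U.inv_mem hz.1, by rw [← mul_inv_rev, hz.2, inv_one]⟩ }
  set D := closure ({d, d'} : Set G) with hD
  have hDU2 : D ≤ U2 := by
    rw [hD, closure_le]
    rintro z (rfl | rfl)
    exacts [⟨hdU, hd2⟩, ⟨hd'U, hd'2⟩]
  have hdD : d ∈ D := subset_closure (Or.inl rfl)
  have hd'D : d' ∈ D := subset_closure (Or.inr rfl)
  suffices hser : ∃ e ∈ D, ⁅a, e⁆ = 1 ∧ ⁅b, e⁆ = 1 ∧
      (∀ k, k = a ∨ k = b → ∀ x, x = d ∨ x = d' → ⁅k, x⁆ ∈ zpowers e) by
    obtain ⟨e, heD, hae, hbe, hkx⟩ := hser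
    set E := zpowers e
    have hED : E ≤ D := zpowers_le.mpr heD
    let K : Submonoid G :=
      { carrier := {k | ⁅k, e⁆ = 1 ∧ (∀ x ∈ D, ⁅k, x⁆ ∈ E) ∧ ∀ u ∈ U, ⁅k, u⁆ ∈ D}
        one_mem' := ⟨commutatorElement_one_left e, fun x _ => by
          rw [commutatorElement_one_left]; exact one_mem _, fun u _ => by
          rw [commutatorElement_one_left]; exact one_mem _⟩
        mul_mem' := by
          rintro k l ⟨hk1, hk2, hk3⟩ ⟨hl1, hl2, hl3⟩
          refine ⟨?_, fun x hx => ?_, fun u hu => ?_⟩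
          · rw [comm_prod, hl1, commutatorElement_one_right, hk1, one_mul, one_mul]
          · rw [comm_prod]
            refine mul_mem (mul_mem (hk2 _ (hED (hl2 x hx))) (hl2 x hx)) (hk2 x hx)
          · rw [comm_prod]
            exact mul_mem (mul_mem (hED (hk2 _ (hl3 u hu))) (hl3 u hu)) (hk3 u hu) }
    have hpow4 : ∀ k ∈ K, k ^ 4 ∈ C := by
      rintro k ⟨hk1, hk2, hk3⟩
      have hE1 : ∀ z ∈ E, ⁅k, z⁆ = 1 := by
        intro z hz
        obtain ⟨i, rfl⟩ := mem_zpowers_iff.mp hz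
        rw [comm_zpow hU k (hDU2 heD).1, hk1, one_zpow]
      have hk2x : ∀ x ∈ D, ⁅k * k, x⁆ = 1 := fun x hx => by
        rw [comm_prod, hE1 _ (hk2 x hx), one_mul, (hDU2 (hED (hk2 x hx))).2]
      have hk2u : ∀ u ∈ U, ⁅k * k, u⁆ ∈ D := fun u hu => by
        rw [comm_prod]
        exact mul_mem (mul_mem (hED (hk2 _ (hk3 u hu))) (hk3 u hu)) (hk3 u hu)
      refine mem_centralizer_iff.mpr fun u hu => ?_
      rw [show k ^ 4 = k * k * (k * k) by simp only [pow_succ, pow_zero, one_mul, mul_assoc]]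
      refine (commutatorElement_eq_one_iff_mul_comm.mp ?_).symm
      rw [comm_prod, hk2x _ (hk2u u hu), one_mul, (hDU2 (hk2u u hu)).2]
    have hmem : ∀ k, k = a ∨ k = b → k ∈ K := by
      intro k hk
      refine ⟨by rcases hk with rfl | rfl <;> assumption, fun x hx => ?_, fun u hu => ?_⟩
      · rw [hD] at hx
        induction hx using closure_induction with
        | mem y hy => exact hkx k hk y (by simpa using hy)
        | one => rw [commutatorElement_one_right]; exact one_mem _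
        | mul y z hy hz ihy ihz =>
          rw [comm_mul hU k (hDU2 hy).1 (hDU2 hz).1]; exact mul_mem ihy ihz
        | inv y hy ihy => rw [comm_inv hU k (hDU2 hy).1]; exact inv_mem ihy
      · rcases hk with rfl | rfl
        · rcases htr u hu with h | h <;> rw [h]
          exacts [one_mem _, hdD]
        · rcases hbtr u hu with h | h <;> rw [h]
          exacts [one_mem _, hd'D]
    let Q : Subgroup (G ⧸ C) :=
      { carrier := π '' (K : Set G)
        one_mem' := ⟨1, K.one_mem, map_one π⟩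
        mul_mem' := by
          rintro _ _ ⟨k, hk, rfl⟩ ⟨l, hl, rfl⟩
          exact ⟨k * l, K.mul_mem hk hl, map_mul π k l⟩
        inv_mem' := by
          rintro _ ⟨k, hk, rfl⟩
          refine ⟨k ^ 3, K.pow_mem hk 3, eq_inv_of_mul_eq_one_left ?_⟩
          rw [← map_mul, ← pow_succ]
          exact (QuotientGroup.eq_one_iff _).mpr (hpow4 k hk) }
    have hQp : IsPGroup 2 Q := by
      rintro ⟨_, k, hk, rfl⟩
      refine ⟨2, Subtype.ext ?_⟩
      show (π k) ^ 2 ^ 2 = 1
      rw [← map_pow]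
      exact (QuotientGroup.eq_one_iff _).mpr (hpow4 k hk)
    refine hQp.to_le (sup_le ?_ ?_)
    · exact zpowers_le.mpr ⟨a, hmem a (Or.inl rfl), rfl⟩
    · rw [hX, MonoidHom.map_zpowers, zpowers_le]
      exact ⟨b, hmem b (Or.inr rfl), by simp [hb]⟩
  rcases htr d' hd'U with hA | hA
  · refine ⟨d', hd'D, hA, hbd', ?_⟩
    intro k hk x hx
    rcases hk with h1 | h1 <;> rcases hx with h2 | h2 <;> rw [h1, h2]
    · rw [had]; exact one_mem _
    · rw [hA]; exact one_mem _
    · rcases hbtr d hdU with h | h <;> rw [h]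
      exacts [one_mem _, mem_zpowers _]
    · rw [hbd']; exact one_mem _
  rcases hbtr d hdU with hB | hB
  · refine ⟨d, hdD, had, hB, ?_⟩
    intro k hk x hx
    rcases hk with h1 | h1 <;> rcases hx with h2 | h2 <;> rw [h1, h2]
    · rw [had]; exact one_mem _
    · rw [hA]; exact mem_zpowers _
    · rw [hB]; exact one_mem _
    · rw [hbd']; exact one_mem _
  by_cases hd1 : d = 1
  · refine ⟨d, hdD, had, hB.trans (by rw [hd', hd1]; group), ?_⟩
    intro k hk x hx
    rcases hk with h1 | h1 <;> rcases hx with h2 | h2 <;> rw [h1, h2]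
    · rw [had]; exact one_mem _
    · rw [hA]; exact mem_zpowers _
    · rw [hB, hd', hd1]; simp
    · rw [hbd']; exact one_mem _
  exfalso
  refine hfree (involves_of_moves (a := a) (b := b) hd2 hd'2 (hU d hdU d' hd'U) hd1 ?_ ?_ ?_ ?_ ?_ ?_)
  · exact fun h => hd1 (conj_eq_one_iff.mp h)
  · intro h
    rw [← h, had] at hA
    exact hd1 hA.symm
  · exact mul_inv_eq_iff_eq_mul.mpr (commutatorElement_eq_one_iff_mul_comm.mp had)
  · rw [conj_eq_comm_mul, hA]
  · exact mul_inv_eq_iff_eq_mul.mpr (commutatorElement_eq_one_iff_mul_comm.mp hbd')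
  · rw [conj_eq_comm_mul, hB, hU d' hd'U d hdU]

end Cfsg.Agent.GlaubermanWeakS4
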