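import Mathlib
import Cfsg.Agent.Lib.GlaubermanWeakOrbit
import Cfsg.Agent.Lib.GlaubermanWeakS4
import Cfsg.Agent.Lib.FusionQd
import Cfsg.Agent.Lib.TransferFixed

/-!
# Glauberman's theorem on weakly closed elements

`x ∈ P ∩ Z(N(J(P)))` is weakly closed in the Sylow subgroup `P` if `p` is odd, or `x` is a `p`-th
power in `Z(P)`, or `S₄` is not involved.
-/

set_option autoImplicit false

namespace Cfsg.Agent.GlaubermanWeak

open Subgroup MulAction GlaubermanZJ TransferAlperin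
open scoped commutatorElement

universe u

variable {G : Type u} [Group G] [Finite G] {p : ℕ} [hp : Fact p.Prime]

/-- `p` odd, or `x` a `p`-th power in the centre of `P`, or `S₄` not involved. -/
def Hyp (p : ℕ) (P : Subgroup G) (x : G) : Prop :=
  p ≠ 2 ∨ (∃ z ∈ P ⊓ centralizer (P : Set G), z ^ p = x) ∨
    ¬ Cfsg.Involves (Equiv.Perm (Fin 4)) G

omit [Finite G] hp in
theorem conj_eq_iff_comm {g x : G} : g * x * g⁻¹ = x ↔ x * g = g * x := by
  rw [mul_inv_eq_iff_eq_mul, eq_comm]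

/-- A central element of the Sylow subgroup lies in the Thompson subgroup. -/
theorem mem_thomJ {P : Subgroup G} {x : G} (hx : x ∈ P) (hc : ∀ s ∈ P, s * x = x * s) :
    x ∈ thomJ 0 P := by
  obtain ⟨A, hA⟩ := exists_maxFam 0 P
  exact le_thomJ hA (mem_of_commute hA hx (pow_zero x) fun a ha => hc a (hA.1.le ha))

omit [Finite G] hp in
/-- A conjugate inside `P` of a member of largest order is one. -/
theorem cj_mem_maxFam {P A : Subgroup G} (hA : A ∈ maxFam 0 P) {g : G} (hle : cj g A ≤ P) :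
    cj g A ∈ maxFam 0 P := by
  refine ⟨⟨hle, ?_, fun y _ => pow_zero y⟩, fun B hB => (hA.2 B hB).trans (card_cj g A).ge⟩
  rintro _ ⟨a, ha, rfl⟩ _ ⟨b, hb, rfl⟩
  rw [← map_mul, ← map_mul, hA.1.comm a ha b hb]

/-! ### The transfer argument -/

theorem central_of_trace (P : Sylow p G) (W : Subgroup G) [W.Normal]
    (hW : ∀ u ∈ W, ∀ v ∈ W, u * v = v * u) (hWP : W ≤ (P : Subgroup G)) {z x : G} (hzW : z ∈ W)
    (hz : ∀ s ∈ (P : Subgroup G), s * z = z * s) (hgen : W ≤ normalClosure {z}) {e : ℕ}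
    (hx : z ^ e = x)
    (hN : normalizer (thomJ 0 (P : Subgroup G) : Set G) ≤ centralizer {x})
    (hcase : (p ≠ 2 ∧ e = 1) ∨ (p = 2 ∧ e = 2) ∨ (p = 2 ∧ e = 1 ∧
      ∀ A ∈ maxFam 0 (P : Subgroup G), ∀ B : Subgroup G, B ≤ A → Nat.card A = 2 * Nat.card B →
        ∀ g : G, (∀ b ∈ B, g⁻¹ * b * g ∈ (P : Subgroup G)) →
          (∀ a ∈ A, g⁻¹ * a * g ∈ (P : Subgroup G) → a ∈ B) → ∀ a ∈ A, ⁅a, g * z * g⁻¹⁆ = 1)) :
    ∀ g : G, g * x * g⁻¹ = x := by
  classical
  haveI hWc : IsMulCommutative W := ⟨⟨fun a b => Subtype.ext (hW a a.2 b b.2)⟩⟩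
  letI : CommGroup W :=
    { (inferInstance : Group W) with mul_comm := IsMulCommutative.is_comm.comm }
  haveI : Fintype (G ⧸ (P : Subgroup G)) := Fintype.ofFinite _
  set J := thomJ 0 (P : Subgroup G) with hJ
  let ρ : G →* MulAut W := MulAut.conjNormal
  have hρv : ∀ g (w : W), ((ρ g w : W) : G) = g * w * g⁻¹ := fun g w => rfl
  let F : G ⧸ (P : Subgroup G) → W := Quotient.lift (fun g => ρ g ⟨z, hzW⟩) (by
    intro g g' h
    have h' : g⁻¹ * g' ∈ (P : Subgroup G) := QuotientGroup.leftRel_apply.mp h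
    refine Subtype.ext ?_
    show g * z * g⁻¹ = g' * z * g'⁻¹
    calc g * z * g⁻¹ = g * ((g⁻¹ * g') * z * (g⁻¹ * g')⁻¹) * g⁻¹ := by
          rw [hz _ h', mul_inv_cancel_right]
      _ = g' * z * g'⁻¹ := by group)
  have hFmk : ∀ g : G, (F (g : G ⧸ (P : Subgroup G)) : G) = g * z * g⁻¹ := fun g => rfl
  have heq : ∀ (g : G) (r : G ⧸ (P : Subgroup G)), (F (g • r) : G) = g * F r * g⁻¹ := by
    intro g r
    obtain ⟨k, rfl⟩ := QuotientGroup.mk_surjective r
    show g * k * z * (g * k)⁻¹ = g * (k * z * k⁻¹) * g⁻¹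
    group
  set t : W := ∏ r, F r with ht
  have htfix : ∀ g, ρ g t = t := by
    intro g
    rw [ht, map_prod]
    exact Fintype.prod_equiv (MulAction.toPerm g) _ _ fun r => Subtype.ext (heq g r).symm
  set T : Subgroup W := (powMonoidHom (e * p) : W →* W).range with hT
  set h : W →* W ⧸ T := (QuotientGroup.mk' T).comp (powMonoidHom e) with hh
  have hmem : ∀ w : W, h w = 1 ↔ ∃ w' : W, w' ^ (e * p) = w ^ e := fun w =>
    (QuotientGroup.eq_one_iff _).trans MonoidHom.mem_range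
  have hJP : J ≤ (P : Subgroup G) := thomJ_le _
  -- the free orbits contribute nothing
  have horb : ∀ q : G ⧸ (P : Subgroup G), q ∉ fixedPoints J (G ⧸ (P : Subgroup G)) →
      ∏ b ∈ Finset.univ.filter (· ∈ orbit J q), h (F b) = 1 := by
    intro q hq
    set St := stabilizer J q
    have hSt : St ≠ ⊤ := fun he => hq fun j => mem_stabilizer_iff.mp (he ▸ mem_top j : j ∈ St)
    obtain ⟨M, hMn, hMi, hStM⟩ :=
      PGroupsBasic.exists_normal_index_eq (P.isPGroup'.to_le hJP) hSt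
    obtain ⟨A, hA, hAM⟩ : ∃ A ∈ maxFam 0 (P : Subgroup G), ¬ A ≤ M.map J.subtype := by
      by_contra hcon
      push Not at hcon
      have hJM : J ≤ M.map J.subtype := sSup_le hcon
      have : M = ⊤ := eq_top_iff.mpr fun j _ => by
        obtain ⟨m, hm, hmj⟩ := hJM j.2
        exact (Subtype.ext hmj : m = j) ▸ hm
      rw [this, index_top] at hMi
      exact hp.out.one_lt.ne hMi
    have hAJ : A ≤ J := le_thomJ hA
    have hAfree : ∀ r ∈ orbit J q, ∃ a ∈ A, a • r ≠ r := by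
      rintro _ ⟨j, rfl⟩
      by_contra hcon
      push Not at hcon
      refine hAM fun a ha => ⟨⟨a, hAJ ha⟩, ?_, rfl⟩
      have h1 : j⁻¹ * ⟨a, hAJ ha⟩ * j ∈ M := hStM (by
        rw [mem_stabilizer_iff, mul_smul, mul_smul, show (⟨a, hAJ ha⟩ : J) • j • q = j • q from
          hcon a ha, inv_smul_smul])
      have h2 := hMn.conj_mem _ h1 j
      rwa [show j * (j⁻¹ * ⟨a, hAJ ha⟩ * j) * j⁻¹ = ⟨a, hAJ ha⟩ by group] at h2
    have hAsub : ∀ r, ∀ b ∈ orbit A r, (b ∈ orbit J q ↔ r ∈ orbit J q) := by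
      rintro r _ ⟨a, rfl⟩
      constructor
      · rintro ⟨j, hj⟩
        refine ⟨⟨a, hAJ a.2⟩⁻¹ * j, ?_⟩
        show (⟨a, hAJ a.2⟩⁻¹ * j) • q = r
        rw [mul_smul, show j • q = (a : A) • r from hj]
        exact inv_smul_smul (a : G) r
      · rintro ⟨j, rfl⟩
        exact ⟨⟨a, hAJ a.2⟩ * j, mul_smul _ _ _⟩
    let f' : G ⧸ (P : Subgroup G) → W ⧸ T := fun r => if r ∈ orbit J q then h (F r) else 1
    rw [Finset.prod_filter]
    refine (TransferFixed.prod_eq_prod_fixed (S := A) f' fun r hr => ?_).trans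
      (Finset.prod_eq_one fun r hr => if_neg fun hrO => ?_)
    · by_cases hrO : r ∈ orbit J q
      · rw [Finset.prod_congr rfl fun b hb => if_pos ((hAsub r b (Finset.mem_filter.mp hb).2).mpr hrO),
          ← map_prod, hmem]
        obtain ⟨hodd, hsq, hpair⟩ := GlaubermanWeakOrbit.orbit_prod P.isPGroup' hA hW hWP F heq r
          (hAfree r hrO)
        set Q : W := ∏ b ∈ Finset.univ.filter (· ∈ orbit A r), F b
        rcases hcase with ⟨h2, he⟩ | ⟨h2, he⟩ | ⟨h2, he, hpr⟩
        · obtain ⟨w, hw, hQ⟩ := hodd h2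
          exact ⟨⟨w, hw⟩, Subtype.ext (by rw [he, SubgroupClass.coe_pow, SubgroupClass.coe_pow, one_mul, pow_one]; exact hQ.symm)⟩
        · obtain ⟨w, hw, hQ⟩ := hsq h2
          exact ⟨⟨w, hw⟩, Subtype.ext (by rw [he, h2, SubgroupClass.coe_pow, SubgroupClass.coe_pow]; simp only [one_mul, pow_one, show 2 * 2 = 4 from rfl]; exact hQ.symm)⟩
        · obtain ⟨w, hw, hQ⟩ := hpair h2 fun B hBA hcard r hfix hstab => by
            obtain ⟨g, rfl⟩ := QuotientGroup.mk_surjective r
            intro a ha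
            rw [hFmk]
            refine hpr A hA B hBA hcard g (fun b hb => ?_) (fun a ha hga => hstab a ha ?_) a ha
            · have h1 := QuotientGroup.eq.mp (hfix b hb :
                ((b * g : G) : G ⧸ (P : Subgroup G)) = _).symm
              simpa [mul_assoc] using h1
            · exact TransferFixed.smul_eq_of_mem hga
          exact ⟨⟨w, hw⟩, Subtype.ext (by rw [he, h2, SubgroupClass.coe_pow, SubgroupClass.coe_pow]; simp only [one_mul, pow_one, show 2 * 2 = 4 from rfl]; exact hQ.symm)⟩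
      · exact Finset.prod_eq_one fun b hb =>
          if_neg fun hb' => hrO ((hAsub r b (Finset.mem_filter.mp hb).2).mp hb')
    · obtain ⟨a, ha, hne⟩ := hAfree r hrO
      exact hne ((Finset.mem_filter.mp hr).2 ⟨a, ha⟩)
  -- the fixed cosets
  have hfixed : ∀ r ∈ fixedPoints J (G ⧸ (P : Subgroup G)), (F r) ^ e = ⟨x, hx ▸ pow_mem hzW e⟩ := by
    intro r hr
    obtain ⟨g, rfl⟩ := QuotientGroup.mk_surjective r
    have hle : cj g⁻¹ J ≤ (P : Subgroup G) := by
      rintro _ ⟨j, hj, rfl⟩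
      have h1 := QuotientGroup.eq.mp (hr ⟨j, hj⟩ : ((j * g : G) : G ⧸ (P : Subgroup G)) = _).symm
      simpa [mul_assoc] using h1
    have hleJ : cj g⁻¹ J ≤ J := by
      refine map_le_iff_le_comap.mpr (sSup_le fun A hA => map_le_iff_le_comap.mp ?_)
      exact le_thomJ (cj_mem_maxFam hA ((cj_mono _ (le_thomJ hA)).trans hle))
    have hgN : g⁻¹ ∈ normalizer (J : Set G) :=
      mem_normalizer_of_cj_eq (eq_of_le_of_card_ge hleJ (card_cj _ _).ge)
    have hgx : g * x * g⁻¹ = x :=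
      conj_eq_iff_comm.mpr (mem_centralizer_iff.mp (hN ((inv_mem_iff (x := g)).mp hgN)) x rfl)
    refine Subtype.ext ?_
    show ((F (g : G ⧸ (P : Subgroup G))) : G) ^ e = x
    rw [hFmk, conj_pow, hx, hgx]
  set nf := (Finset.univ.filter (· ∈ fixedPoints J (G ⧸ (P : Subgroup G)))).card with hnf
  have hcop : nf.Coprime p := by
    rw [Nat.coprime_comm, hp.out.coprime_iff_not_dvd]
    intro hd
    have h1 := (P.isPGroup'.to_le hJP).card_modEq_card_fixedPoints (α := G ⧸ (P : Subgroup G))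
    refine P.not_dvd_index ((h1.dvd_iff dvd_rfl).mpr ?_)
    rwa [Nat.card_eq_fintype_card, ← Set.toFinset_card, show
      (fixedPoints J (G ⧸ (P : Subgroup G))).toFinset = Finset.univ.filter
        (· ∈ fixedPoints J (G ⧸ (P : Subgroup G))) by ext; simp]
  set xw : W := ⟨x, hx ▸ pow_mem hzW e⟩ with hxw
  have hprod : h t = QuotientGroup.mk' T (xw ^ nf) := by
    rw [ht, map_prod, TransferFixed.prod_eq_prod_fixed (fun r => h (F r)) horb,
      Finset.prod_congr rfl fun r hr => show h (F r) = QuotientGroup.mk' T xw from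
        congrArg (QuotientGroup.mk' T) (hfixed r (Finset.mem_filter.mp hr).2),
      Finset.prod_const, map_pow]
  -- fixed elements
  let Fx : Subgroup W :=
    { carrier := {w | ∀ g, ρ g w = w}
      one_mem' := fun g => map_one _
      mul_mem' := fun {u v} hu hv g => by rw [map_mul, hu, hv]
      inv_mem' := fun {u} hu g => by rw [map_inv, hu] }
  set L : Subgroup W := Fx ⊔ T with hL
  have hxnL : xw ^ nf ∈ L := by
    obtain ⟨w, hw, hwe⟩ := (QuotientGroup.mk'_eq_mk' T).mp hprod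
    rw [← hwe]
    exact L.mul_mem (mem_sup_left fun g => show ρ g (t ^ e) = t ^ e by rw [map_pow, htfix])
      (mem_sup_right hw)
  have hxL : xw ∈ L := by
    obtain ⟨m, hm⟩ := (P.isPGroup'.to_le hWP) xw
    obtain ⟨y, y', hyy⟩ := Int.isCoprime_iff_nat_coprime.mpr (show Nat.Coprime (Int.natAbs (nf : ℤ))
      (Int.natAbs ((p ^ m : ℕ) : ℤ)) by simpa using hcop.pow_right m)
    have hkey : xw = (xw ^ nf) ^ y := by
      have h1 : xw ^ ((p ^ m : ℕ) : ℤ) = 1 := by rw [zpow_natCast]; exact hm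
      rw [← zpow_natCast xw nf, ← zpow_mul, mul_comm]
      conv_lhs => rw [← zpow_one xw, ← hyy, zpow_add, mul_comm y' _, zpow_mul xw _ y', h1, one_zpow,
        mul_one]
    exact hkey ▸ zpow_mem hxnL y
  have hLinv : ∀ (g : G) (w : W), w ∈ L → ρ g w ∈ L := by
    intro g w hw
    obtain ⟨f, hf, s, ⟨s', rfl⟩, rfl⟩ := mem_sup.mp hw
    rw [map_mul, hf g]
    refine L.mul_mem (mem_sup_left hf) (mem_sup_right ⟨ρ g s', ?_⟩)
    show (ρ g s') ^ (e * p) = ρ g (s' ^ (e * p))
    rw [map_pow]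
  have hall : ∀ w : W, w ^ e ∈ L := by
    suffices W ≤ (L.comap (powMonoidHom e)).map W.subtype by
      intro w
      obtain ⟨w', hw', he'⟩ := this w.2
      exact (Subtype.ext he' : w' = w) ▸ hw'
    refine hgen.trans ?_
    unfold normalClosure
    rw [closure_le]
    intro y hy
    obtain ⟨_, hz', hc⟩ := Group.mem_conjugatesOfSet_iff.mp hy
    rw [Set.mem_singleton_iff.mp hz'] at hc
    obtain ⟨g, rfl⟩ := isConj_iff.mp hc
    refine ⟨ρ g ⟨z, hzW⟩, ?_, rfl⟩
    show (ρ g ⟨z, hzW⟩) ^ e ∈ L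
    rw [← map_pow]
    exact hLinv g _ ((Subtype.ext hx : (⟨z, hzW⟩ : W) ^ e = xw) ▸ hxL)
  have hiter : ∀ n : ℕ, ∀ w : W, ∃ f ∈ Fx, ∃ w' : W, w ^ e = f * w' ^ (e * p ^ n) := by
    intro n
    induction n with
    | zero => exact fun w => ⟨1, one_mem _, w, by rw [one_mul, pow_zero, mul_one]⟩
    | succ n ihn =>
      intro w
      obtain ⟨f, hf, w', hw'⟩ := ihn w
      obtain ⟨f', hf', s, ⟨s', rfl⟩, hfs⟩ := mem_sup.mp (hall w')
      refine ⟨f * f' ^ p ^ n, mul_mem hf (pow_mem hf' _), s', ?_⟩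
      rw [hw', pow_mul, ← hfs, mul_pow, mul_assoc]
      congr 2
      show (s' ^ (e * p)) ^ p ^ n = _
      rw [← pow_mul]
      congr 1
      ring
  obtain ⟨N, hN'⟩ := IsPGroup.iff_card.mp (P.isPGroup'.to_le hWP)
  obtain ⟨f, hf, w', hw'⟩ := hiter N ⟨z, hzW⟩
  intro g
  have hxf : xw = f := by
    rw [← (Subtype.ext hx : (⟨z, hzW⟩ : W) ^ e = xw), hw', mul_comm e, pow_mul, ← hN',
      pow_card_eq_one', one_pow, mul_one]
  have h1 := congrArg Subtype.val (hf g)
  rw [← hxf] at h1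
  exact h1

/-! ### Passing to subgroups -/

/-- The statement, as an induction hypothesis. -/
def Claim (p n : ℕ) : Prop :=
  ∀ (H : Type u) [Group H] [Finite H], Nat.card H < n → ∀ (R : Sylow p H) (y : H),
    y ∈ (R : Subgroup H) → normalizer (thomJ 0 (R : Subgroup H) : Set H) ≤ centralizer {y} →
    Hyp p (R : Subgroup H) y → ∀ h : H, h * y * h⁻¹ ∈ (R : Subgroup H) → h * y * h⁻¹ = y

theorem of_claim (hcl : Claim.{u} p (Nat.card G)) (P : Sylow p G) {x : G} (hyp : Hyp p (P : Subgroup G) x)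
    (H : Subgroup G) (hH : H ≠ ⊤)
    (hidx : ¬ p ∣ ((P : Subgroup G) ⊓ H).relIndex H) (hx : x ∈ (P : Subgroup G) ⊓ H)
    (hN : H ⊓ normalizer (thomJ 0 ((P : Subgroup G) ⊓ H) : Set G) ≤ centralizer {x})
    (hZ : (P : Subgroup G) ⊓ centralizer ((P : Subgroup G) : Set G) ≤ H) {h : G} (hh : h ∈ H)
    (hconj : h * x * h⁻¹ ∈ (P : Subgroup G)) : h * x * h⁻¹ = x := by
  set R0 := (P : Subgroup G) ⊓ H with hR0
  have hp0 : IsPGroup p (R0.subgroupOf H) :=
    (P.isPGroup'.to_le inf_le_left).comap_subtype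
  set R : Sylow p H := hp0.toSylow hidx
  have hR : (R : Subgroup H) = R0.subgroupOf H := IsPGroup.toSylow_coe _ _
  have hmap : (R : Subgroup H).map H.subtype = R0 := by
    rw [hR, subgroupOf_map_subtype, inf_eq_left.mpr inf_le_right]
  have hlt : Nat.card H < Nat.card G :=
    lt_of_le_of_ne (card_le_card_group H) fun he => hH (eq_top_of_card_eq H he)
  refine congrArg Subtype.val (hcl H hlt R ⟨x, hx.2⟩ (by rw [hR]; exact mem_subgroupOf.mpr hx)
    ?_ ?_ ⟨h, hh⟩ (by
      rw [hR]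
      exact mem_subgroupOf.mpr ⟨hconj, H.mul_mem (H.mul_mem hh hx.2) (H.inv_mem hh)⟩))
  · intro n hn
    have h1 : (n : G) ∈ normalizer (thomJ 0 R0 : Set G) := by
      rw [← hmap, thomJ_map H.subtype_injective]
      exact le_normalizer_map H.subtype (mem_map_of_mem H.subtype hn)
    exact mem_centralizer_iff.mpr fun y hy => Subtype.ext (by
      rw [Set.mem_singleton_iff.mp hy]
      exact mem_centralizer_iff.mp (hN ⟨n.2, h1⟩) x rfl)
  · rcases hyp with h2 | ⟨z, hz, hzx⟩ | hfree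
    · exact Or.inl h2
    · refine Or.inr (Or.inl ⟨⟨z, hZ hz⟩, ⟨?_, ?_⟩, Subtype.ext hzx⟩)
      · rw [hR]; exact mem_subgroupOf.mpr ⟨hz.1, hZ hz⟩
      · refine mem_centralizer_iff.mpr fun r hr => Subtype.ext ?_
        rw [hR] at hr
        exact mem_centralizer_iff.mp hz.2 r (mem_subgroupOf.mp hr).1
    · exact Or.inr (Or.inr fun hi => hfree (FusionQd.involves_of_injective H.subtype_injective hi))

/-- A proper subgroup containing `P` and a normal `p`-subgroup of itself containing `x` fixes `x`. -/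
theorem comm_of_claim (hcl : Claim.{u} p (Nat.card G)) (P : Sylow p G) {x : G}
    (hyp : Hyp p (P : Subgroup G) x)
    (hN : normalizer (thomJ 0 (P : Subgroup G) : Set G) ≤ centralizer {x})
    (H O : Subgroup G) (hH : H ≠ ⊤) (hPH : (P : Subgroup G) ≤ H) (hOP : O ≤ (P : Subgroup G))
    (hxO : x ∈ O) (hHO : H ≤ normalizer (O : Set G)) : H ≤ centralizer {x} := by
  intro h hh
  have hinf : (P : Subgroup G) ⊓ H = P := inf_eq_left.mpr hPH
  refine mem_centralizer_iff.mpr fun y hy => ?_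
  rw [Set.mem_singleton_iff.mp hy]
  refine conj_eq_iff_comm.mp (of_claim hcl P hyp H hH ?_ ?_ ?_ (inf_le_left.trans hPH) hh
    (hOP ((mem_normalizer_iff.mp (hHO hh) x).mp hxO)))
  · rw [hinf]
    exact fun hd => P.not_dvd_index (hd.trans (relIndex_dvd_index_of_le hPH))
  · rw [hinf]; exact hOP hxO
  · rw [hinf]; exact inf_le_right.trans hN

/-- Fusion of `x` along good subgroups, if their normalizers are proper. -/
theorem fix_of_good (hcl : Claim.{u} p (Nat.card G)) (P : Sylow p G) {x : G} (hxP : x ∈ (P : Subgroup G))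
    (hxc : ∀ s ∈ (P : Subgroup G), s * x = x * s) (hyp : Hyp p (P : Subgroup G) x)
    (hN : normalizer (thomJ 0 (P : Subgroup G) : Set G) ≤ centralizer {x})
    (Good : Subgroup G → Prop) (hmono : ∀ S T : Subgroup G, S ≤ T → Good S → Good T)
    (hconjG : ∀ (S : Subgroup G) (g : G), Good S → Good (cj g S))
    (hprop : ∀ T : Subgroup G, T ≤ (P : Subgroup G) → Good T → x ∈ T → normalizer (T : Set G) ≠ ⊤)
    (hGJ : ∀ T : Subgroup G, T ≤ (P : Subgroup G) → Good T → x ∈ T →
      Good (thomJ 0 ((P : Subgroup G) ⊓ normalizer (T : Set G)))) :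
    ∀ S g, S ≤ (P : Subgroup G) → cj g S ≤ (P : Subgroup G) → Good S →
      ∀ y ∈ S, (y = x ↔ g * y * g⁻¹ = x) := by
  let Φ : ℕ → Subgroup G → G → Prop := fun n S g =>
    n ≤ Nat.card S → Good S → ∀ y ∈ S, (y = x ↔ g * y * g⁻¹ = x)
  -- fusion in large subgroups from their normalizers
  have halp : ∀ n, (∀ T : Subgroup G, T ≤ (P : Subgroup G) →
      IsFullyNormalized p (P : Subgroup G) T → Good T → x ∈ T → n ≤ Nat.card T →
      normalizer (T : Set G) ≤ centralizer {x}) →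
      ∀ S g, S ≤ (P : Subgroup G) → cj g S ≤ (P : Subgroup G) → Φ n S g := by
    intro n hn
    refine alperin_induction P (Φ n) ?_ ?_ ?_ ?_
    · intro T g k _ _ _ h1 h2 hcard hG y hy
      refine (h1 hcard hG y hy).trans ?_
      have := h2 (by rwa [card_cj]) (hconjG T g hG) _ (conj_mem_cj hy)
      refine Iff.trans ?_ (iff_of_eq (by congr 1; group :
        (k * (g * y * g⁻¹) * k⁻¹ = x) = (k * g * y * (k * g)⁻¹ = x)))
      exact this
    · intro T g _ _ h1 hcard hG y hy
      have hT := hconjG _ g⁻¹ hG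
      rw [cj_inv_cj] at hT
      have hy' := mem_cj.mp hy
      have h2 := h1 (by rwa [card_cj] at hcard) hT _ hy'
      rw [show g * (g⁻¹ * y * g) * g⁻¹ = y by group] at h2
      rw [inv_inv]
      exact h2.symm
    · intro S T g hST _ _ h1 hcard hG y hy
      exact h1 (hcard.trans (card_le_of_le hST)) (hmono S T hST hG) y (hST hy)
    · intro T hTP hfn _ c hc hcard hG y hy
      by_cases hxT : x ∈ T
      · have hcx : c * x * c⁻¹ = x :=
          conj_eq_iff_comm.mpr (mem_centralizer_iff.mp (hn T hTP hfn hG hxT hcard hc) x rfl)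
        refine ⟨fun h => h ▸ hcx, fun h => ?_⟩
        rw [← hcx] at h
        exact (MulAut.conj c).injective h
      · refine ⟨fun h => absurd (h ▸ hy) hxT, fun h => absurd ?_ hxT⟩
        exact h ▸ (mem_normalizer_iff.mp hc y).mp hy
  have key : ∀ k (T : Subgroup G), T ≤ (P : Subgroup G) →
      IsFullyNormalized p (P : Subgroup G) T → Good T → x ∈ T →
      Nat.card (P : Subgroup G) - Nat.card ((P : Subgroup G) ⊓ normalizer (T : Set G) : Subgroup G) = k →
      normalizer (T : Set G) ≤ centralizer {x} := by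
    intro k
    induction k using Nat.strong_induction_on with
    | _ k ih =>
      intro T hTP hfn hG hxT hk
      set N := normalizer (T : Set G) with hNdef
      set R := (P : Subgroup G) ⊓ N with hR
      have hxR : x ∈ R := ⟨hxP, le_normalizer hxT⟩
      have hJfix : normalizer (thomJ 0 R : Set G) ≤ centralizer {x} := by
        rcases eq_or_lt_of_le (inf_le_left : R ≤ (P : Subgroup G)) with he | hlt
        · rw [show R = (P : Subgroup G) from he]; exact hN
        set Q := thomJ 0 R with hQ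
        set S := (P : Subgroup G) ⊓ normalizer (Q : Set G) with hS
        have hQS : Q ≤ S := le_inf ((thomJ_le R).trans inf_le_left) le_normalizer
        have hcardS : Nat.card R < Nat.card S :=
          (card_lt_card_inf_normalizer P.isPGroup' hlt).trans_le
            (card_le_of_le (inf_le_inf_left _ (normalizer_le_thomJ R)))
        obtain ⟨a, ha, hfa⟩ := exists_isFullyNormalized P
          (P.isPGroup'.to_le ((thomJ_le R).trans inf_le_left) : IsPGroup p Q)
        obtain ⟨c, hc, hle⟩ := hfa (cj a S) (by rw [← cj_normalizer]; exact cj_mono a inf_le_right)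
          (isPGroup_cj P.isPGroup'.to_inf_left)
        rw [← cj_mul] at hle
        have hQ0 : cj (c * a) Q = cj a Q := by rw [cj_mul, cj_eq_self hc]
        have hGQ : Good Q := hGJ T hTP hG hxT
        have hxQ : x ∈ Q := mem_thomJ hxR fun s hs => hxc s hs.1
        have hstep : Φ (Nat.card R + 1) S (c * a) := halp _ (fun T' hT'P hfn' hG' hxT' hcard' => by
          refine ih _ ?_ T' hT'P hfn' hG' hxT' rfl
          have h1 : Nat.card T' ≤ Nat.card ((P : Subgroup G) ⊓ normalizer (T' : Set G) : Subgroup G) :=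
            card_le_of_le (le_inf hT'P le_normalizer)
          have h2 : Nat.card ((P : Subgroup G) ⊓ normalizer (T' : Set G) : Subgroup G) ≤
            Nat.card (P : Subgroup G) := card_le_of_le inf_le_left
          omega) S (c * a) inf_le_left hle
        have hfix := (hstep hcardS (hmono Q S hQS hGQ) x (hQS hxQ)).mp rfl
        have hxQ0 : x ∈ cj a Q := by
          have := conj_mem_cj (g := c * a) hxQ
          rwa [hfix, hQ0] at this
        have hcard0 : Nat.card S ≤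
            Nat.card ((P : Subgroup G) ⊓ normalizer ((cj a Q : Subgroup G) : Set G) : Subgroup G) := by
          rw [← card_cj (c * a) S]
          refine card_le_of_le (le_inf hle ?_)
          rw [← hQ0, ← cj_normalizer]
          exact cj_mono _ inf_le_right
        have hN0 : normalizer ((cj a Q : Subgroup G) : Set G) ≤ centralizer {x} := by
          refine ih _ ?_ (cj a Q) ha hfa (hconjG Q a hGQ) hxQ0 rfl
          have h2 : Nat.card ((P : Subgroup G) ⊓ normalizer ((cj a Q : Subgroup G) : Set G) : Subgroup G) ≤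
            Nat.card (P : Subgroup G) := card_le_of_le inf_le_left
          omega
        intro n hn
        have h1 : (c * a) * n * (c * a)⁻¹ ∈ normalizer ((cj a Q : Subgroup G) : Set G) := by
          rw [← hQ0, ← cj_normalizer]
          exact conj_mem_cj hn
        have h2 := conj_eq_iff_comm.mpr (mem_centralizer_iff.mp (hN0 h1) x rfl)
        refine mem_centralizer_iff.mpr fun y hy => ?_
        rw [Set.mem_singleton_iff.mp hy]
        refine conj_eq_iff_comm.mp ((MulAut.conj (c * a)).injective ?_)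
        show (c * a) * (n * x * n⁻¹) * (c * a)⁻¹ = (c * a) * x * (c * a)⁻¹
        rw [hfix]
        calc (c * a) * (n * x * n⁻¹) * (c * a)⁻¹
            = ((c * a) * n * (c * a)⁻¹) * ((c * a) * x * (c * a)⁻¹) *
              ((c * a) * n * (c * a)⁻¹)⁻¹ := by group
          _ = x := by rw [hfix, h2]
      intro n hn
      refine mem_centralizer_iff.mpr fun y hy => ?_
      rw [Set.mem_singleton_iff.mp hy]
      exact conj_eq_iff_comm.mp (of_claim hcl P hyp N (hprop T hTP hG hxT)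
        (not_dvd_relIndex_of_isFullyNormalized P hfn) hxR (inf_le_right.trans hJfix)
        (fun z hz => LocalBasics.centralizer_le_normalizer T (centralizer_le hTP hz.2)) hn
        (hTP ((mem_normalizer_iff.mp hn x).mp hxT)))
  intro S g hS hgS hG
  exact halp 0 (fun T hT hfn hGT hxT _ => key _ T hT hfn hGT hxT rfl) S g hS hgS (Nat.zero_le _) hG

/-! ### Transvections -/

theorem pair_of_claim (hcl : Claim.{u} 2 (Nat.card G)) [Fact (Nat.Prime 2)] (P : Sylow 2 G) {x : G}
    (hfree : ¬ Cfsg.Involves (Equiv.Perm (Fin 4)) G) (hxc : ∀ s ∈ (P : Subgroup G), s * x = x * s)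
    (hN : normalizer (thomJ 0 (P : Subgroup G) : Set G) ≤ centralizer {x})
    (W O : Subgroup G) [W.Normal] [O.Normal] (hW : ∀ u ∈ W, ∀ v ∈ W, u * v = v * u) (hWO : W ≤ O)
    (hxW : x ∈ W) (hO : (P : Subgroup G) ⊓ centralizer (W : Set G) = O)
    (hmax : ∀ M : Subgroup G, M.Normal → IsPGroup 2 M → M ≤ O)
    {A B : Subgroup G} (hA : A ∈ maxFam 0 (P : Subgroup G)) (hBA : B ≤ A)
    (hcard : Nat.card A = 2 * Nat.card B) {g : G} (hBg : ∀ b ∈ B, g⁻¹ * b * g ∈ (P : Subgroup G))
    {a : G} (ha : a ∈ A) : ⁅a, g * x * g⁻¹⁆ = 1 := by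
  by_contra hne
  have hOP : O ≤ (P : Subgroup G) := hO.ge.trans inf_le_left
  have hWP : W ≤ (P : Subgroup G) := hWO.trans hOP
  have hOW : ∀ o ∈ O, ∀ w ∈ W, o * w = w * o := fun o ho w hw =>
    (mem_centralizer_iff.mp (hO.ge ho).2 w hw).symm
  set x' := g * x * g⁻¹ with hx'
  have hx'W : x' ∈ W := Normal.conj_mem ‹W.Normal› x hxW g
  have hx'c : ∀ s, g⁻¹ * s * g ∈ (P : Subgroup G) → s * x' = x' * s := by
    intro s hs
    calc s * x' = g * ((g⁻¹ * s * g) * x) * g⁻¹ := by rw [hx']; group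
      _ = g * (x * (g⁻¹ * s * g)) * g⁻¹ := by rw [hxc _ hs]
      _ = x' * s := by rw [hx']; group
  set gP := cj g (P : Subgroup G) with hgP
  have hBO : B ⊔ O ≤ gP := by
    refine sup_le (fun b hb => mem_cj.mpr (hBg b hb)) fun o ho => mem_cj.mpr (hOP ?_)
    have := Normal.conj_mem ‹O.Normal› o ho g⁻¹
    rwa [inv_inv] at this
  set U := W ⊓ centralizer ((B ⊔ O : Subgroup G) : Set G) with hU
  have hx'U : x' ∈ U := ⟨hx'W, mem_centralizer_iff.mpr fun s hs => hx'c s (mem_cj.mp (hBO hs))⟩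
  have hUB : U ≤ W ⊓ centralizer (B : Set G) := inf_le_inf_left _ (centralizer_le fun y hy => mem_sup_left hy)
  set d := ⁅a, x'⁆ with hd
  have hP2 : IsPGroup 2 (P : Subgroup G) := P.isPGroup'
  obtain ⟨hd2, hdfix⟩ := GlaubermanWeakEst.index_p hP2 hA hBA hcard hW hWP ha (hUB hx'U)
  rw [pow_two] at hd2
  set L := normalizer ((B ⊔ O : Subgroup G) : Set G) with hL
  have hUn : L ≤ normalizer (U : Set G) :=
    LocalBasics.le_normalizer_inf (LocalBasics.le_normalizer_of_normal L)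
      (LocalBasics.le_normalizer_centralizer le_rfl)
  have haL : a ∈ L := by
    refine LocalBasics.le_normalizer_sup (X := A) (fun a' ha' => LocalBasics.centralizer_le_normalizer B
      (mem_centralizer_iff.mpr fun b hb => hA.1.comm b (hBA hb) a' ha'))
      (LocalBasics.le_normalizer_of_normal A) ha
  have hdU : d ∈ U := by
    rw [hd, commutatorElement_def]
    exact U.mul_mem ((mem_normalizer_iff.mp (hUn haL) x').mp hx'U) (U.inv_mem hx'U)
  have hW2 : ∀ u ∈ U, ⁅a, u⁆ = 1 ∨ ⁅a, u⁆ = d := by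
    intro u hu
    set V := W ⊓ centralizer (B : Set G)
    set F := V ⊓ centralizer (A : Set G)
    have hidx : F.relIndex V ≤ 2 := GlaubermanWeakEst.relIndex_le hA hBA hcard hW hWP
    haveI := GlaubermanWeakEst.normal_fixed (A := A) (B := B) hW
    have hFfix : ∀ f ∈ F, ⁅a, f⁆ = 1 := fun f hf =>
      commutatorElement_eq_one_iff_mul_comm.mpr (mem_centralizer_iff.mp hf.2 a ha)
    by_cases huF : u ∈ F
    · exact Or.inl (hFfix u huF)
    right
    have hx'F : x' ∉ F := fun h => hne (hFfix x' h)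
    have h2 : (F.subgroupOf V).index = 2 := by
      refine le_antisymm hidx ?_
      by_contra hlt
      have h1 : (F.subgroupOf V).index ≠ 0 := index_ne_zero_of_finite
      exact hx'F (mem_subgroupOf.mp ((index_eq_one.mp (by omega : (F.subgroupOf V).index = 1)).symm ▸
        mem_top (⟨x', hUB hx'U⟩ : V)) :)
    have h3 : (⟨u, hUB hu⟩ : V) * ⟨x', hUB hx'U⟩⁻¹ ∈ F.subgroupOf V := by
      rw [mul_mem_iff_of_index_two h2, inv_mem_iff]
      exact ⟨fun h => absurd (mem_subgroupOf.mp h) huF, fun h => absurd (mem_subgroupOf.mp h) hx'F⟩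
    have h4 : u * x'⁻¹ ∈ F := mem_subgroupOf.mp h3
    have h5 := GlaubermanWeakEst.comm_mul hW a h4.1.1 (hx'W)
    rwa [inv_mul_cancel_right, hFfix _ h4, one_mul] at h5
  obtain ⟨ia, hia⟩ := hP2 ⟨a, hA.1.le ha⟩
  haveI : (U.subgroupOf L).Normal := LocalBasics.normal_subgroupOf_of_le hUn
  have hcore := GlaubermanWeakS4.mem_pCore_of_transvection (G := L)
    (fun hi => hfree (FusionQd.involves_of_injective L.subtype_injective hi)) (U.subgroupOf L)
    (fun u hu v hv => Subtype.ext (hW u (mem_subgroupOf.mp hu).1 v (mem_subgroupOf.mp hv).1))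
    (a := ⟨a, haL⟩) (d := ⟨d, le_normalizer (mem_sup_right (hWO hdU.1))⟩)
    ⟨ia, Subtype.ext (congrArg Subtype.val hia :)⟩ (mem_subgroupOf.mpr hdU) (Subtype.ext hd2)
    (Subtype.ext hdfix)
    (fun u hu => (hW2 u (mem_subgroupOf.mp hu)).imp (fun h => Subtype.ext h) (fun h => Subtype.ext h))
  set CU := centralizer ((U.subgroupOf L : Subgroup L) : Set L) with hCU
  set π := QuotientGroup.mk' CU with hπ
  set S := (gP ⊓ L).subgroupOf L with hSdef
  have hSp : IsPGroup 2 S := ((isPGroup_cj (g := g) hP2).to_le inf_le_left).comap_subtype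
  set M := (Cfsg.pCore 2 (L ⧸ CU)).comap π with hM
  set J0 := M ⊔ S with hJ0
  have hJ0p : IsPGroup 2 (J0.map π) := by
    rw [hJ0, Subgroup.map_sup, hM, map_comap_eq_self_of_surjective (QuotientGroup.mk'_surjective CU)]
    exact (HallCore.isPGroup_pCore 2 (L ⧸ CU)).to_sup_of_normal_left (hSp.map π)
  obtain ⟨T0, hT0⟩ := (hSp.comap_subtype (K := J0)).exists_le_sylow
  have htop : ((T0.mapSurjective (π.subgroupMap_surjective J0) : Sylow 2 (J0.map π)) :
      Subgroup (J0.map π)) = ⊤ :=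
    ((T0.mapSurjective (π.subgroupMap_surjective J0)).3 (hJ0p.to_subgroup ⊤) le_top).symm
  have haJ0 : (⟨a, haL⟩ : L) ∈ J0 := mem_sup_left (mem_comap.mpr hcore)
  have haa : IsPGroup 2 (zpowers (⟨⟨a, haL⟩, haJ0⟩ : J0)) := by
    rintro ⟨_, m, rfl⟩
    refine ⟨ia, Subtype.ext ?_⟩
    rw [SubgroupClass.coe_pow, OneMemClass.coe_one]
    show ((⟨⟨a, haL⟩, haJ0⟩ : J0) ^ m) ^ 2 ^ ia = 1
    rw [← zpow_natCast, ← zpow_mul, mul_comm, zpow_mul, zpow_natCast,
      show (⟨⟨a, haL⟩, haJ0⟩ : J0) ^ 2 ^ ia = 1 from Subtype.ext (Subtype.ext (congrArg Subtype.val hia :)),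
      one_zpow]
  obtain ⟨T1, hT1⟩ := haa.exists_le_sylow
  obtain ⟨k, hk⟩ := MulAction.exists_smul_eq J0 T1 T0
  obtain ⟨tq, htq, htk⟩ : π.subgroupMap J0 k ∈ (T0 : Subgroup J0).map (π.subgroupMap J0) := by
    rw [← Sylow.coe_mapSurjective (π.subgroupMap_surjective J0), htop]; exact mem_top _
  set c : J0 := tq⁻¹ * k with hc
  have hcC : ((c : L)) ∈ CU := by
    refine (QuotientGroup.eq_one_iff _).mp ?_
    show π ((tq : L)⁻¹ * (k : L)) = 1
    rw [map_mul, map_inv, show π (tq : L) = π (k : L) from congrArg Subtype.val htk, inv_mul_cancel]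
  have hca : c * ⟨⟨a, haL⟩, haJ0⟩ * c⁻¹ ∈ (T0 : Subgroup J0) := by
    have h1 : k * ⟨⟨a, haL⟩, haJ0⟩ * k⁻¹ ∈ (T0 : Subgroup J0) := by
      rw [← hk, smul_coe_eq_cj]
      exact conj_mem_cj (hT1 (mem_zpowers _))
    have e : c * ⟨⟨a, haL⟩, haJ0⟩ * c⁻¹ = tq⁻¹ * (k * ⟨⟨a, haL⟩, haJ0⟩ * k⁻¹) * tq := by
      rw [hc]; group
    rw [e]
    exact mul_mem (mul_mem (inv_mem htq) h1) htq
  set TG := ((T0 : Subgroup J0).map J0.subtype).map L.subtype with hTG
  have hTGp : IsPGroup 2 TG := (T0.isPGroup'.map _).map _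
  obtain ⟨Q', hQ'⟩ := hTGp.exists_le_sylow
  obtain ⟨h, hh⟩ := MulAction.exists_smul_eq G P Q'
  have hTh : TG ≤ cj h (P : Subgroup G) := by
    rw [← smul_coe_eq_cj, hh]; exact hQ'
  have hSh : gP ⊓ L ≤ cj h (P : Subgroup G) := fun s hs => hTh
    ⟨⟨s, hs.2⟩, ⟨⟨⟨s, hs.2⟩, mem_sup_right (mem_subgroupOf.mpr hs)⟩,
      hT0 (mem_subgroupOf.mpr (mem_subgroupOf.mpr hs)), rfl⟩, rfl⟩
  -- `gP ∩ L` contains a member of largest order outside `O`
  obtain ⟨A2, hA2S, hA2c, hA2card, hA2O⟩ : ∃ A2 : Subgroup G, A2 ≤ gP ⊓ L ∧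
      (∀ u ∈ A2, ∀ v ∈ A2, u * v = v * u) ∧ Nat.card A ≤ Nat.card A2 ∧ ¬ A2 ≤ O := by
    by_cases hBO' : B ≤ O
    · have htopL : L = ⊤ := by
        rw [hL, sup_eq_right.mpr hBO', normalizer_eq_top]
      refine ⟨cj g A, by rw [htopL, inf_top_eq]; exact cj_mono g hA.1.le, ?_, (card_cj g A).ge, ?_⟩
      · rintro _ ⟨u, hu, rfl⟩ _ ⟨v, hv, rfl⟩
        rw [← map_mul, ← map_mul, hA.1.comm u hu v hv]
      · intro hle
        refine hne (commutatorElement_eq_one_iff_mul_comm.mpr (hOW a ?_ x' hx'W))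
        have h1 := Normal.conj_mem ‹O.Normal› _ (hle (conj_mem_cj ha)) g⁻¹
        simpa [mul_assoc] using h1
    · have hBU : B ≤ normalizer (U : Set G) := fun b hb =>
        LocalBasics.centralizer_le_normalizer U (mem_centralizer_iff.mpr fun u hu =>
          (mem_centralizer_iff.mp hu.2 b (mem_sup_left hb)).symm)
      refine ⟨B ⊔ U, le_inf (sup_le (le_sup_left.trans hBO) ?_) (sup_le ?_ ?_), ?_, ?_,
        fun h => hBO' (le_sup_left.trans h)⟩
      · exact inf_le_left.trans (hWO.trans ((le_sup_right : O ≤ B ⊔ O).trans hBO))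
      · exact le_sup_left.trans le_normalizer
      · exact inf_le_left.trans (hWO.trans ((le_sup_right : O ≤ B ⊔ O).trans le_normalizer))
      · intro u hu v hv
        rw [← SetLike.mem_coe, coe_mul_of_left_le_normalizer_right _ _ hBU] at hu hv
        obtain ⟨b, hb, w, hw, rfl⟩ := hu
        obtain ⟨b', hb', w', hw', rfl⟩ := hv
        have e1 : Commute b b' := hA.1.comm b (hBA hb) b' (hBA hb')
        have e2 : Commute w w' := hW w hw.1 w' hw'.1
        have e3 : Commute b w' := mem_centralizer_iff.mp hw'.2 b (mem_sup_left hb)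
        have e4 : Commute w b' := (mem_centralizer_iff.mp hw.2 b' (mem_sup_left hb')).symm
        exact ((e1.mul_right e3).mul_left (e4.mul_right e2)).eq
      · have h1 := OffendersReplace.card_sup_mul_card_inf B U hBU
        obtain ⟨m, hm⟩ : ∃ m, Nat.card U = Nat.card (B ⊓ U : Subgroup G) * m :=
          card_dvd_of_le inf_le_right
        have hm2 : 2 ≤ m := by
          by_contra hlt
          have hm0 : m ≠ 0 := fun h => Nat.card_pos.ne' (h ▸ hm : Nat.card U = _ * 0)
          have hm1 : m = 1 := by omega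
          rw [hm1, mul_one] at hm
          have he := eq_of_le_of_card_ge (inf_le_right : B ⊓ U ≤ U) hm.le
          refine hne (commutatorElement_eq_one_iff_mul_comm.mpr ?_)
          exact hA.1.comm a ha x' (hBA (he.ge hx'U).1)
        rw [hcard]
        refine Nat.le_of_mul_le_mul_right ?_ (Nat.card_pos (α := (B ⊓ U : Subgroup G)))
        rw [h1, hm]
        nlinarith [Nat.mul_le_mul_left (Nat.card B * Nat.card (B ⊓ U : Subgroup G)) hm2]
  -- fusion between `g` and `h`
  let Good : Subgroup G → Prop := fun S => ∃ A' : Subgroup G, A' ≤ S ∧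
    (∀ u ∈ A', ∀ v ∈ A', u * v = v * u) ∧ Nat.card A ≤ Nat.card A' ∧ ¬ A' ≤ O
  have hconjG : ∀ (S : Subgroup G) (k : G), Good S → Good (cj k S) := by
    rintro S k ⟨A', h1, h2, h3, h4⟩
    refine ⟨cj k A', cj_mono k h1, ?_, (card_cj k A').ge.trans' h3, fun h => h4 fun v hv => ?_⟩
    · rintro _ ⟨u, hu, rfl⟩ _ ⟨v, hv, rfl⟩
      rw [← map_mul, ← map_mul, h2 u hu v hv]
    · have h5 := Normal.conj_mem ‹O.Normal› _ (h (conj_mem_cj hv)) k⁻¹
      simpa [mul_assoc] using h5
  have hxP : x ∈ (P : Subgroup G) := hWP hxW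
  have hfix := fix_of_good hcl P hxP hxc (Or.inr (Or.inr hfree)) hN Good
    (fun S T hST ⟨A', h1, h2, h3, h4⟩ => ⟨A', h1.trans hST, h2, h3, h4⟩) hconjG
    (fun T hT ⟨A', h1, _, _, h4⟩ _ htopT => h4 (h1.trans
      (hmax T (normalizer_eq_top_iff.mp htopT) (hP2.to_le hT))))
    (fun T hT ⟨A', h1, h2, h3, h4⟩ _ => ⟨A', le_thomJ
      ⟨⟨h1.trans (le_inf hT le_normalizer), h2, fun y _ => pow_zero y⟩,
        fun C hC => (hA.2 C ⟨hC.le.trans inf_le_left, hC.comm, hC.pow⟩).trans h3⟩, h2, h3, h4⟩)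
  set S0 := cj g⁻¹ (gP ⊓ L) with hS0
  have hS0P : S0 ≤ (P : Subgroup G) := (cj_mono _ inf_le_left).trans (cj_inv_cj g _).le
  have hkS0 : cj (h⁻¹ * g) S0 ≤ (P : Subgroup G) := by
    rw [cj_mul, hS0, cj_cj_inv]
    exact (cj_mono _ hSh).trans (cj_inv_cj h _).le
  have hx'S : x' ∈ gP ⊓ L :=
    ⟨conj_mem_cj hxP, le_normalizer (mem_sup_right (hWO hx'W))⟩
  have hxS0 : x ∈ S0 := by
    have := conj_mem_cj (g := g⁻¹) hx'S
    rwa [show g⁻¹ * x' * g⁻¹⁻¹ = x by rw [hx']; group] at this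
  have hk := (hfix S0 (h⁻¹ * g) hS0P hkS0 (hconjG _ _ ⟨A2, hA2S, hA2c, hA2card, hA2O⟩) x hxS0).mp rfl
  have hhx : h * x * h⁻¹ = x' := by
    conv_lhs => rw [← hk]
    rw [hx']; group
  have hmem : ((c : L) : G) * a * ((c : L) : G)⁻¹ ∈ cj h (P : Subgroup G) :=
    hTh ⟨_, ⟨_, hca, rfl⟩, rfl⟩
  have hcomm : ((c : L) : G) * a * ((c : L) : G)⁻¹ * x' = x' * (((c : L) : G) * a * ((c : L) : G)⁻¹) := by
    have h1 := hxc _ (mem_cj.mp hmem)
    calc _ = h * ((h⁻¹ * (((c : L) : G) * a * ((c : L) : G)⁻¹) * h) * x) * h⁻¹ := by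
          rw [← hhx]; group
      _ = h * (x * (h⁻¹ * (((c : L) : G) * a * ((c : L) : G)⁻¹) * h)) * h⁻¹ := by rw [h1]
      _ = _ := by rw [← hhx]; group
  have hcx : x' * ((c : L) : G) = ((c : L) : G) * x' :=
    congrArg Subtype.val (mem_centralizer_iff.mp hcC ⟨x', hx'S.2⟩ (mem_subgroupOf.mpr hx'U))
  refine hne (commutatorElement_eq_one_iff_mul_comm.mpr ?_)
  have h2 := congrArg (fun t => ((c : L) : G)⁻¹ * t * ((c : L) : G)) hcomm

  have e1 : ((c : L) : G)⁻¹ * (((c : L) : G) * a * ((c : L) : G)⁻¹ * x') * ((c : L) : G)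
      = a * (((c : L) : G)⁻¹ * (x' * ((c : L) : G))) := by group
  have e2 : ((c : L) : G)⁻¹ * (x' * (((c : L) : G) * a * ((c : L) : G)⁻¹)) * ((c : L) : G)
      = ((c : L) : G)⁻¹ * (x' * ((c : L) : G)) * a := by group
  rw [e1, e2, hcx, inv_mul_cancel_left] at h2
  exact h2

/-! ### The theorem -/

/-- The local case: `x` in a normal `p`-subgroup. -/
theorem central_of_mem_pCore (hcl : Claim.{u} p (Nat.card G)) (P : Sylow p G) {x : G}
    (hxO : x ∈ Cfsg.pCore p G) (hyp : Hyp p (P : Subgroup G) x)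
    (hN : normalizer (thomJ 0 (P : Subgroup G) : Set G) ≤ centralizer {x}) :
    ∀ g : G, g * x * g⁻¹ = x := by
  set O := Cfsg.pCore p G with hOdef
  haveI hOn : O.Normal := HallCore.pCore_normal p G
  have hOp : IsPGroup p O := HallCore.isPGroup_pCore p G
  have hOP : O ≤ (P : Subgroup G) := (hOp.le_sylow_of_normal P)
  have hPN : (P : Subgroup G) ≤ normalizer (thomJ 0 (P : Subgroup G) : Set G) :=
    le_normalizer.trans (normalizer_le_thomJ _)
  have hxc : ∀ s ∈ (P : Subgroup G), s * x = x * s := fun s hs =>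
    (mem_centralizer_iff.mp (hN (hPN hs)) x rfl).symm
  intro g
  by_contra hg
  have hall : ∀ H : Subgroup G, (∀ k ∈ H, k ∈ centralizer {x}) → H ≠ ⊤ := fun H hH he =>
    hg (conj_eq_iff_comm.mpr (mem_centralizer_iff.mp (hH g (he ▸ mem_top g)) x rfl))
  -- a normal subgroup fixing `x` has a normal trace on `P`
  have hfr : ∀ N : Subgroup G, N.Normal → N ≤ centralizer {x} →
      ((P : Subgroup G) ⊓ N).Normal ∧ (P : Subgroup G) ⊓ N ≤ O := by
    intro N hNn hNx
    haveI := hNn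
    set D := (P : Subgroup G) ⊓ N with hD
    have hPD : (P : Subgroup G) ≤ normalizer (D : Set G) :=
      LocalBasics.le_normalizer_inf le_normalizer (LocalBasics.le_normalizer_of_normal _)
    by_cases htop : normalizer (D : Set G) = ⊤
    · have hn := normalizer_eq_top_iff.mp htop
      haveI := hn
      exact ⟨hn, HallCore.le_pCore P.isPGroup'.to_inf_left⟩
    exfalso
    have h1 := comm_of_claim hcl P hyp hN _ O htop hPD hOP hxO
      (LocalBasics.le_normalizer_of_normal _)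
    obtain ⟨S, hS⟩ := LocalBasics.exists_sylow_inf P N
    have h := Sylow.normalizer_sup_eq_top S
    rw [hS, subgroupOf_map_subtype] at h
    exact hall _ (fun k hk => (sup_le h1 hNx) hk) h
  obtain ⟨z, e, hzP, hzc, hzx, hcase⟩ : ∃ z e, z ∈ (P : Subgroup G) ∧
      (∀ s ∈ (P : Subgroup G), s * z = z * s) ∧ z ^ e = x ∧ ((p ≠ 2 ∧ e = 1) ∨ (p = 2 ∧ e = 2) ∨
        (p = 2 ∧ e = 1 ∧ z = x ∧ ¬ Cfsg.Involves (Equiv.Perm (Fin 4)) G)) := by
    by_cases hp2 : p = 2
    · rcases hyp with h | ⟨z, hz, hzx⟩ | h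
      · exact absurd hp2 h
      · exact ⟨z, 2, hz.1, fun s hs => mem_centralizer_iff.mp hz.2 s hs, hp2 ▸ hzx,
          Or.inr (Or.inl ⟨hp2, rfl⟩)⟩
      · exact ⟨x, 1, hOP hxO, hxc, pow_one x, Or.inr (Or.inr ⟨hp2, rfl, rfl, h⟩)⟩
    · exact ⟨x, 1, hOP hxO, hxc, pow_one x, Or.inl ⟨hp2, rfl⟩⟩
  obtain ⟨-, hDO⟩ := hfr (centralizer (O : Set G)) inferInstance
    (centralizer_le (Set.singleton_subset_iff.mpr hxO))
  have hzO : z ∈ O := hDO ⟨hzP, mem_centralizer_iff.mpr fun o ho => hzc o (hOP ho)⟩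
  set W := normalClosure ({z} : Set G) with hWdef
  have hWO : W ≤ O := normalClosure_le_normal (Set.singleton_subset_iff.mpr hzO)
  have hWc : W ≤ centralizer (O : Set G) := normalClosure_le_normal
    (Set.singleton_subset_iff.mpr (mem_centralizer_iff.mpr fun o ho => hzc o (hOP ho)))
  have hW : ∀ u ∈ W, ∀ v ∈ W, u * v = v * u := fun u hu v hv =>
    mem_centralizer_iff.mp (hWc hv) u (hWO hu)
  have hzW : z ∈ W := subset_normalClosure rfl
  have hxW : x ∈ W := hzx ▸ pow_mem hzW e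
  obtain ⟨-, hCle⟩ := hfr (centralizer (W : Set G)) inferInstance
    (centralizer_le (Set.singleton_subset_iff.mpr hxW))
  have hC0 : (P : Subgroup G) ⊓ centralizer (W : Set G) = O :=
    le_antisymm hCle (le_inf hOP fun o ho => mem_centralizer_iff.mpr fun w hw =>
      (mem_centralizer_iff.mp (hWc hw) o ho).symm)
  refine hg (central_of_trace P W hW (hWO.trans hOP) hzW hzc le_rfl hzx hN ?_ g)
  rcases hcase with h | h | ⟨h2, he, hzx', hfree⟩
  · exact Or.inl h
  · exact Or.inr (Or.inl h)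
  refine Or.inr (Or.inr ⟨h2, he, fun A hA B hBA hcard k hBk _ a ha => ?_⟩)
  subst h2
  rw [hzx']
  exact pair_of_claim hcl P hfree hxc hN W O hW hWO hxW hC0
    (fun M hM hMp => by haveI := hM; exact HallCore.le_pCore hMp) hA hBA hcard hBk ha

theorem claim : ∀ n, Claim.{u} p n := by
  intro n
  induction n with
  | zero => intro H _ _ h; exact absurd h (Nat.not_lt_zero _)
  | succ n ih =>
    intro G' _ _ hn P x hxP hN hyp g hg
    have hcl : Claim.{u} p (Nat.card G') := fun H _ _ hH => ih H (by omega)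
    have hPN : (P : Subgroup G') ≤ normalizer (thomJ 0 (P : Subgroup G') : Set G') :=
      le_normalizer.trans (normalizer_le_thomJ _)
    have hxc : ∀ s ∈ (P : Subgroup G'), s * x = x * s := fun s hs =>
      (mem_centralizer_iff.mp (hN (hPN hs)) x rfl).symm
    by_cases hxO : x ∈ Cfsg.pCore p G'
    · exact central_of_mem_pCore hcl P hxO hyp hN g
    refine (fix_of_good hcl P hxP hxc hyp hN (fun _ => True) (fun _ _ _ h => h) (fun _ _ h => h)
      (fun T hT _ hxT htop => hxO ?_) (fun _ _ _ _ => trivial) (zpowers x) g (zpowers_le.mpr hxP)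
      ?_ trivial x (mem_zpowers x)).mp rfl
    · haveI := normalizer_eq_top_iff.mp htop
      exact HallCore.le_pCore (P.isPGroup'.to_le hT) hxT
    · rw [cj, MonoidHom.map_zpowers, zpowers_le]
      simpa using hg

/-- Glauberman: `x ∈ P ∩ Z(N(J(P)))` is weakly closed in `P`. -/
theorem weakly_closed (P : Sylow p G) {x : G} (hxP : x ∈ (P : Subgroup G))
    (hN : normalizer (thomJ 0 (P : Subgroup G) : Set G) ≤ centralizer {x})
    (hyp : Hyp p (P : Subgroup G) x) :
    ∀ g : G, g * x * g⁻¹ ∈ (P : Subgroup G) → g * x * g⁻¹ = x :=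
  claim (Nat.card G + 1) G (Nat.lt_succ_self _) P x hxP hN hyp

end Cfsg.Agent.GlaubermanWeak
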