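import Mathlib
import Cfsg.Agent.Lib.GolayOutTool
import Cfsg.Agent.Lib.GolayWords

/-!
Certificates for the classes of elements of a permutation group given by chains.
-/

set_option autoImplicit false

namespace Cfsg.Agent.GolayBlockTools

open Cfsg Cfsg.Agent.GolayBasic Cfsg.Agent.GolayPerm Cfsg.Agent.GolayChain Cfsg.Agent.GolaySolve
open Cfsg.Agent.GolayOutTool Cfsg.Agent.GolayWords
open scoped Pointwise

/-- all tuples of point numbers of a given length -/
def tuples : ℕ → List (List ℕ)
  | 0 => [[]]
  | n + 1 => pts.flatMap fun c => (tuples n).map (c :: ·)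

theorem mem_tuples : ∀ {l : List ℕ}, (∀ c ∈ l, c < 24) → l ∈ tuples l.length
  | [], _ => by simp [tuples]
  | c :: l, h => by
    simp only [List.length_cons, tuples, List.mem_flatMap, List.mem_map]
    exact ⟨c, mem_pts.2 (h c List.mem_cons_self), l,
      mem_tuples (fun d hd => h d (List.mem_cons_of_mem _ hd)), rfl⟩

/-- the listed solutions of `g x = y g` are all -/
def msolve (lv : List Level) (x y : ℕ) (base : List ℕ × List (ℕ × ℕ)) (sols : List ℕ) : Bool :=
  valid x && valid y && sols.all valid && base.1.all (fun r => decide (r < 24)) &&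
    (lv.map Prod.fst == base.2.map fun q => itImg x q.2 (base.1.getD q.1 0)) &&
    base.2.all (fun q => decide (q.1 < base.1.length)) &&
    (tuples base.1.length).all fun cs =>
      match sift lv (base.2.map fun q => itImg y q.2 (cs.getD q.1 0)) with
      | none => true
      | some w => (!(pts.all fun i => wimg w (pimg x i) == pimg y (wimg w i))) ||
          sols.any fun s => pts.all fun i => pimg s i == wimg w i

theorem exists_msol {H : Subgroup (Equiv.Perm GolayPt)} {lv : List Level}
    (hc : chainCheck [] lv = true) (hH : ∀ T ∈ elts lv, permOf T ∈ H)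
    (hcard : Nat.card H = size lv) {x y : ℕ} {base : List ℕ × List (ℕ × ℕ)} {sols : List ℕ}
    (hs : msolve lv x y base sols = true) {g : Equiv.Perm GolayPt} (hg : g ∈ H)
    (he : g * permOf x = permOf y * g) : ∃ s ∈ sols, g = permOf s := by
  simp only [msolve, Bool.and_eq_true, decide_eq_true_eq, beq_iff_eq, List.all_eq_true] at hs
  obtain ⟨⟨⟨⟨⟨⟨hx, hy⟩, hsols⟩, hr⟩, hbase⟩, hlt⟩, hall⟩ := hs
  obtain ⟨w, hw, hwg, -⟩ := exists_sift hc hH hcard hg
  have hpow : ∀ e : ℕ, g * permOf x ^ e = permOf y ^ e * g := fun e => SemiconjBy.pow_right he e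
  set cs := base.1.map (fun r => idx (g (pt r))) with hcs
  have hget : ∀ i, i < base.1.length → cs.getD i 0 = idx (g (pt (base.1.getD i 0))) := by
    intro i hi
    rw [List.getD_eq_getElem (hn := by rw [hcs, List.length_map]; exact hi),
      List.getD_eq_getElem (hn := hi)]
    simp [hcs]
  have htg : (lv.map fun l => idx (g (pt l.1))) =
      base.2.map fun q => itImg y q.2 (cs.getD q.1 0) := by
    have h0 : (lv.map Prod.fst).map (fun b => idx (g (pt b))) =
        (base.2.map fun q => itImg x q.2 (base.1.getD q.1 0)).map fun b => idx (g (pt b)) := by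
      rw [hbase]
    rw [List.map_map, List.map_map] at h0
    refine h0.trans (List.map_congr_left fun q hq => ?_)
    set r := base.1.getD q.1 0 with hrdef
    have hr24 : r < 24 := by
      rw [hrdef, List.getD_eq_getElem (hn := hlt q hq)]
      exact hr _ (List.getElem_mem _)
    show idx (g (pt (itImg x q.2 r))) = _
    have hix := idx_pow hx (pt r) q.2
    rw [idx_pt hr24] at hix
    have h1 : pt (itImg x q.2 r) = (permOf x ^ q.2) (pt r) := by
      rw [← hix, pt_idx]
    rw [h1, ← Equiv.Perm.mul_apply, hpow, Equiv.Perm.mul_apply, GolaySolve.idx_pow hy,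
      hget _ (hlt q hq)]
  rw [htg] at hw
  have hmem : cs ∈ tuples base.1.length := by
    have := mem_tuples (l := cs) (by
      intro c hc'
      obtain ⟨r, -, rfl⟩ := List.mem_map.1 hc'
      exact idx_lt _)
    rwa [hcs, List.length_map] at this
  have h := hall cs hmem
  simp only [hw, Bool.or_eq_true, Bool.not_eq_true', List.any_eq_true, List.all_eq_true,
    beq_iff_eq] at h
  rcases h with h | ⟨s, hs, hsw⟩
  · exfalso
    rw [← Bool.not_eq_true, List.all_eq_true] at h
    refine h fun i hi => ?_
    rw [mem_pts] at hi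
    rw [beq_iff_eq]
    have h1 := congrArg (fun k : Equiv.Perm GolayPt => idx (k (pt i))) he
    simp only [Equiv.Perm.mul_apply] at h1
    rw [hwg, idx_permOf hx, idx_permOf hy, hwg, idx_pt hi] at h1
    exact h1
  · refine ⟨s, hs, Equiv.ext fun p => idx_inj ?_⟩
    rw [idx_permOf (hsols s hs), hwg, hsw _ (mem_pts.2 (idx_lt p))]

/-! ### elements of a subgroup from numbers -/

/-- the element encoded by a number, inside the subgroup -/
noncomputable def el (H : Subgroup (Equiv.Perm GolayPt)) (P : ℕ) : H :=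
  open scoped Classical in if h : permOf P ∈ H then ⟨permOf P, h⟩ else 1

/-- a sound membership test -/
def Sound (H : Subgroup (Equiv.Perm GolayPt)) (mc : ℕ → Bool) : Prop :=
  ∀ P, mc P = true → valid P = true ∧ permOf P ∈ H

variable {H : Subgroup (Equiv.Perm GolayPt)} {mc : ℕ → Bool}

theorem coe_el (hmc : Sound H mc) {P : ℕ} (hP : mc P = true) :
    (el H P : Equiv.Perm GolayPt) = permOf P := by
  rw [el, dif_pos (hmc P hP).2]

theorem coe_prod_el (hmc : Sound H mc) : ∀ {l : List ℕ}, (∀ P ∈ l, mc P = true) →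
    (((l.map (el H)).prod : H) : Equiv.Perm GolayPt) = (l.map permOf).prod
  | [], _ => rfl
  | P :: l, h => by
    rw [List.map_cons, List.prod_cons, List.map_cons, List.prod_cons, Subgroup.coe_mul,
      coe_el hmc (h P List.mem_cons_self),
      coe_prod_el hmc fun Q hQ => h Q (List.mem_cons_of_mem _ hQ)]

theorem el_word_eq (hmc : Sound H mc) {l l' : List ℕ} (h : ∀ P ∈ l, mc P = true)
    (h' : ∀ P ∈ l', mc P = true) (e : sameWord l l' = true) :
    (l.map (el H)).prod = (l'.map (el H)).prod := by
  apply Subtype.ext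
  rw [coe_prod_el hmc h, coe_prod_el hmc h']
  exact prod_eq_of_sameWord (fun P hP => (hmc P (h P hP)).1) (fun P hP => (hmc P (h' P hP)).1) e

theorem el_word_one (hmc : Sound H mc) {l : List ℕ} (h : ∀ P ∈ l, mc P = true) :
    (l.map (el H)).prod = 1 ↔ isId l = true := by
  rw [← prod_eq_one_iff (fun P hP => (hmc P (h P hP)).1), ← coe_prod_el hmc h]
  exact ⟨fun e => by rw [e]; rfl, fun e => Subtype.ext e⟩

theorem el_pow_one (hmc : Sound H mc) {P n : ℕ} (h : mc P = true) :
    el H P ^ n = 1 ↔ isId (List.replicate n P) = true := by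
  rw [← el_word_one hmc (fun Q hQ => by rw [List.eq_of_mem_replicate hQ]; exact h),
    List.map_replicate, List.prod_replicate]

/-- test for exact prime order -/
def primeOrd (w : List ℕ) (p : ℕ) : Bool :=
  (pts.all fun i => wit w p i == i) && !isId w

theorem primeOrd_iff (hmc : Sound H mc) {w : List ℕ} (h : ∀ P ∈ w, mc P = true) {p : ℕ}
    (hp : p.Prime) : orderOf (w.map (el H)).prod = p ↔ primeOrd w p = true := by
  set z := (w.map (el H)).prod with hz
  have hv : ∀ P ∈ w, valid P = true := fun P hP => (hmc P (h P hP)).1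
  have hzw : ∀ x, idx ((z : Equiv.Perm GolayPt) x) = wimg w (idx x) := fun x => by
    rw [hz, coe_prod_el hmc h, idx_prod w hv]
  have hone : z ^ p = 1 ↔ (pts.all fun i => wit w p i == i) = true := by
    simp only [List.all_eq_true, beq_iff_eq]
    constructor
    · intro e i hi
      have := idx_pow_word hzw p (pt i)
      rw [← SubmonoidClass.coe_pow, e, OneMemClass.coe_one, Equiv.Perm.one_apply,
        idx_pt (mem_pts.1 hi)] at this
      exact this.symm
    · intro e
      refine Subtype.ext (Equiv.ext fun x => idx_inj ?_)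
      rw [SubmonoidClass.coe_pow, idx_pow_word hzw p x, e _ (mem_pts.2 (idx_lt x))]
      rfl
  rw [primeOrd, Bool.and_eq_true, Bool.not_eq_true', ← hone, ← Bool.not_eq_true,
    ← el_word_one hmc h, ← hz]
  haveI := Fact.mk hp
  exact ⟨fun e => ⟨by rw [← e]; exact pow_orderOf_eq_one z,
    fun e1 => hp.one_lt.ne' (by rw [← e, e1, orderOf_one])⟩,
    fun e => orderOf_eq_prime e.1 e.2⟩

/-! ### certificates -/

/-- commutes with an involution, or is conjugate to a listed element -/
def Fine (H : Subgroup (Equiv.Perm GolayPt)) (R : List ℕ) (h : H) : Prop :=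
  (∃ u : H, orderOf u = 2 ∧ h * u = u * h) ∨ ∃ r ∈ R, IsConj (el H r) h

theorem fine_of_isConj {R : List ℕ} {a b : H} (h : IsConj a b) (ha : Fine H R a) : Fine H R b := by
  rcases ha with ⟨u, hu, hcu⟩ | ⟨r, hr, hra⟩
  · obtain ⟨c, rfl⟩ := isConj_iff.1 h
    refine Or.inl ⟨c * u * c⁻¹, ?_, ?_⟩
    · rw [show c * u * c⁻¹ = MulAut.conj c u from rfl, MulEquiv.orderOf_eq, hu]
    · calc c * a * c⁻¹ * (c * u * c⁻¹) = c * (a * u) * c⁻¹ := by group
        _ = c * u * c⁻¹ * (c * a * c⁻¹) := by rw [hcu]; group
  · exact Or.inr ⟨r, hr, hra.trans h⟩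

/-- an element with a commuting involution -/
def invCert (mc : ℕ → Bool) (s u : ℕ) : Bool :=
  mc s && mc u && isId [u, u] && !isId [u] && sameWord [s, u] [u, s]

theorem invCert_spec (hmc : Sound H mc) {s u : ℕ} (h : invCert mc s u = true) :
    orderOf (el H u) = 2 ∧ el H s * el H u = el H u * el H s := by
  simp only [invCert, Bool.and_eq_true, Bool.not_eq_true'] at h
  obtain ⟨⟨⟨⟨hs, hu⟩, h2⟩, h1⟩, hc⟩ := h
  refine ⟨orderOf_eq_prime ?_ ?_, ?_⟩
  · rw [sq]
    simpa using (el_word_one hmc (l := [u, u]) (by simp [hu])).2 h2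
  · intro e
    have := (el_word_one hmc (l := [u]) (by simp [hu])).1 (by simpa using e)
    rw [this] at h1; exact absurd h1 (by simp)
  · simpa using el_word_eq hmc (l := [s, u]) (l' := [u, s]) (by simp [hs, hu]) (by simp [hs, hu]) hc

/-- an element of a centraliser list with its certificate -/
def centCert (mc : ℕ → Bool) (R : List ℕ) (q : ℕ × ℕ × ℕ) : Bool :=
  if q.2.2 == 0 then invCert mc q.1 q.2.1 else
    decide (q.2.2 - 1 < R.length) && mc q.1 && mc q.2.1 && mc (R.getD (q.2.2 - 1) 0) &&
      sameWord [q.2.1, q.1] [R.getD (q.2.2 - 1) 0, q.2.1]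

theorem centCert_spec (hmc : Sound H mc) {R : List ℕ} {q : ℕ × ℕ × ℕ}
    (h : centCert mc R q = true) : Fine H R (el H q.1) := by
  obtain ⟨s, u, t⟩ := q
  by_cases ht : t = 0
  · subst ht
    simp only [centCert, beq_self_eq_true, if_true] at h
    exact Or.inl ⟨el H u, invCert_spec hmc h⟩
  · simp only [centCert, beq_iff_eq, if_neg ht, Bool.and_eq_true, decide_eq_true_eq] at h
    obtain ⟨⟨⟨⟨ht', hs⟩, hu⟩, hr⟩, hw⟩ := h
    refine Or.inr ⟨R.getD (t - 1) 0, by rw [List.getD_eq_getElem (hn := ht')]; exact List.getElem_mem _,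
      (isConj_iff.2 ⟨el H u, ?_⟩).symm⟩
    have := el_word_eq hmc (l := [u, s]) (l' := [R.getD (t - 1) 0, u]) (by simp [hu, hs])
      (by intro P hP; simp only [List.mem_cons, List.not_mem_nil, or_false] at hP
          rcases hP with rfl | rfl
          · exact hr
          · exact hu) hw
    simp only [List.map_cons, List.map_nil, List.prod_cons, List.prod_nil, mul_one] at this
    rw [this, mul_inv_cancel_right]

theorem fine_of_commute (hmc : Sound H mc) {lv : List Level} (hc : chainCheck [] lv = true)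
    (hH : (elts lv).all mc = true) (hcard : Nat.card H = size lv) {x : ℕ} (hx : mc x = true)
    {base : List ℕ × List (ℕ × ℕ)} {cl : List (ℕ × ℕ × ℕ)}
    (hs : msolve lv x x base (cl.map Prod.fst) = true) {R : List ℕ}
    (hcl : cl.all (centCert mc R) = true) {g : H} (hg : g * el H x = el H x * g) : Fine H R g := by
  have he := congrArg Subtype.val hg
  simp only [Subgroup.coe_mul, coe_el hmc hx] at he
  obtain ⟨s, hs', hgs⟩ := exists_msol hc (fun T hT => (hmc T (List.all_eq_true.1 hH T hT)).2) hcard
    hs g.2 he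
  obtain ⟨q, hq, rfl⟩ := List.mem_map.1 hs'
  have hcert := List.all_eq_true.1 hcl q hq
  have hqm : mc q.1 = true := by
    simp only [centCert, invCert] at hcert
    split_ifs at hcert <;> simp only [Bool.and_eq_true] at hcert <;> tauto
  rw [show g = el H q.1 from Subtype.ext (by rw [hgs, coe_el hmc hqm])]
  exact centCert_spec hmc hcert

/-- no solution means not conjugate -/
theorem not_isConj_of_msolve (hmc : Sound H mc) {lv : List Level} (hc : chainCheck [] lv = true)
    (hH : (elts lv).all mc = true) (hcard : Nat.card H = size lv) {x y : ℕ} (hx : mc x = true)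
    (hy : mc y = true) {base : List ℕ × List (ℕ × ℕ)} (hs : msolve lv x y base [] = true) :
    ¬ IsConj (el H x) (el H y) := by
  intro h
  obtain ⟨c, hcc⟩ := isConj_iff.1 h
  have he := congrArg Subtype.val (mul_inv_eq_iff_eq_mul.1 hcc)
  simp only [Subgroup.coe_mul, coe_el hmc hx, coe_el hmc hy] at he
  obtain ⟨s, hs', -⟩ := exists_msol hc (fun T hT => (hmc T (List.all_eq_true.1 hH T hT)).2) hcard
    hs c.2 he
  exact absurd hs' List.not_mem_nil

/-! ### Sylow subgroups of prime order -/

theorem exists_conj_zpowers {G : Type*} [Group G] [Finite G] {p k m : ℕ} (hp : p.Prime)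
    (hG : Nat.card G = p ^ k * m) (hm : ¬ p ∣ m) {P : Subgroup G} (hP : Nat.card P = p ^ k)
    {Q : Subgroup G} (hQ : IsPGroup p Q) :
    ∃ c : G, ∀ g ∈ Q, c * g * c⁻¹ ∈ P := by
  haveI := Fact.mk hp
  have hfac : (Nat.card G).factorization p = k := by
    rw [hG, Nat.factorization_mul (pow_ne_zero _ hp.ne_zero) (fun e => hm (by rw [e]; exact dvd_zero p)),
      Finsupp.add_apply, Nat.factorization_pow, Finsupp.smul_apply, hp.factorization_self,
      Nat.factorization_eq_zero_of_not_dvd hm]
    simp
  obtain ⟨S, hS⟩ := hQ.exists_le_sylow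
  obtain ⟨c, hc⟩ := MulAction.exists_smul_eq G S (Sylow.ofCard P (by rw [hP, hfac]))
  refine ⟨c, fun g hg => ?_⟩
  have hmem : (MulAut.conj c) g ∈ ((c • S : Sylow p G) : Subgroup G) :=
    Subgroup.smul_mem_pointwise_smul g (MulAut.conj c) _ (hS hg)
  rw [hc] at hmem
  simpa using hmem

/-- Every element of prime order is conjugate to a non-trivial power of a given one. -/
theorem exists_conj_pow {G : Type*} [Group G] [Finite G] {p m : ℕ} (hp : p.Prime)
    (hG : Nat.card G = p * m) (hm : ¬ p ∣ m) {x z : G} (hx : orderOf x = p) (hz : orderOf z = p) :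
    ∃ i, 0 < i ∧ i < p ∧ IsConj z (x ^ i) := by
  obtain ⟨c, hc⟩ := exists_conj_zpowers (k := 1) hp (by rwa [pow_one]) hm
    (P := Subgroup.zpowers x) (by rw [Nat.card_zpowers, hx, pow_one])
    (Q := Subgroup.zpowers z) (IsPGroup.of_card (n := 1) (by rw [Nat.card_zpowers, hz, pow_one]))
  obtain ⟨n, hn⟩ := (IsOfFinOrder.mem_powers_iff_mem_zpowers
    (isOfFinOrder_of_finite x)).2 (hc z (Subgroup.mem_zpowers z))
  refine ⟨n % p, ?_, Nat.mod_lt _ hp.pos, isConj_iff.2 ⟨c, ?_⟩⟩
  · rcases Nat.eq_zero_or_pos (n % p) with h | h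
    · exfalso
      simp only at hn
      rw [← pow_mod_orderOf, hx, h, pow_zero] at hn
      have : z = 1 := by
        calc z = c⁻¹ * (c * z * c⁻¹) * c := by group
          _ = 1 := by rw [← hn]; group
      rw [this, orderOf_one] at hz
      exact hp.one_lt.ne hz
    · exact h
  · simp only at hn
    rw [← hn, ← hx, pow_mod_orderOf]

/-- an element whose order is divisible by such a prime is fine if the centraliser is -/
theorem fine_of_dvd {R : List ℕ} {p m : ℕ} (hp : p.Prime) (hH : Nat.card H = p * m) (hm : ¬ p ∣ m)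
    {x : H} (hx : orderOf x = p) (hC : ∀ g : H, g * x = x * g → Fine H R g) {h : H}
    (hd : p ∣ orderOf h) : Fine H R h := by
  haveI : Finite H := Subtype.finite
  obtain ⟨q, hq⟩ := hd
  have hz : orderOf (h ^ q) = p := by
    have hq0 : q ≠ 0 := fun e => by rw [e, mul_zero] at hq; exact (orderOf_pos h).ne' hq
    rw [orderOf_pow' h hq0, hq, Nat.gcd_mul_left_left, Nat.mul_div_cancel _ (Nat.pos_of_ne_zero hq0)]
  obtain ⟨i, hi0, hip, hconj⟩ := exists_conj_pow hp hH hm hx hz
  obtain ⟨c, hc⟩ := isConj_iff.1 hconj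
  refine fine_of_isConj (a := c * h * c⁻¹) (isConj_iff.2 ⟨c⁻¹, by group⟩) (hC _ ?_)
  have hcomm : Commute (c * h * c⁻¹) (x ^ i) := by
    rw [← hc, ← conj_pow]; exact Commute.pow_right (Commute.refl _) q
  obtain ⟨j, hj⟩ : ∃ j, (x ^ i) ^ j = x := by
    have hcop : i.Coprime p := (Nat.Prime.coprime_iff_not_dvd hp).2
      (fun h => absurd (Nat.le_of_dvd hi0 h) (by omega)) |>.symm
    obtain ⟨j, hj⟩ := exists_pow_eq_self_of_coprime (by rw [hx]; exact hcop)
    exact ⟨j, hj⟩
  have := hcomm.pow_right j
  rw [hj] at this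
  exact this.eq

/-- a closed list of elements is a subgroup of known order -/
theorem exists_subgroup_of_list (hmc : Sound H mc) {L : List ℕ} (hL : L.all mc = true)
    (hne : L.any (fun P => isId [P]) = true)
    (hclosed : L.all (fun a => L.all fun b => L.any fun c => sameWord [a, b] [c]) = true)
    (hnodup : L.Pairwise fun a b => sameWord [a] [b] = false) :
    ∃ P : Subgroup H, Nat.card P = L.length ∧ ∀ g ∈ P, ∃ a ∈ L, g = el H a := by
  haveI : Finite H := Subtype.finite
  have hm := List.all_eq_true.1 hL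
  let Sset : Set H := {g | ∃ a ∈ L, g = el H a}
  have hmul : ∀ x ∈ Sset, ∀ y ∈ Sset, x * y ∈ Sset := by
    rintro _ ⟨a, ha, rfl⟩ _ ⟨b, hb, rfl⟩
    obtain ⟨c, hc, hw⟩ := List.any_eq_true.1 (List.all_eq_true.1 (List.all_eq_true.1 hclosed a ha) b hb)
    have := el_word_eq hmc (l := [a, b]) (l' := [c]) (by simp [hm a ha, hm b hb]) (by simp [hm c hc]) hw
    exact ⟨c, hc, by simpa using this⟩
  have hone : (1 : H) ∈ Sset := by
    obtain ⟨a, ha, hid⟩ := List.any_eq_true.1 hne
    exact ⟨a, ha, (by simpa using (el_word_one hmc (l := [a]) (by simp [hm a ha])).2 hid : el H a = 1).symm⟩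
  let S : Subgroup H :=
    { carrier := Sset
      mul_mem' := fun {x y} hx hy => hmul x hx y hy
      one_mem' := hone
      inv_mem' := fun {x} hx => by
        have hp : ∀ n : ℕ, x ^ n ∈ Sset := fun n => by
          induction n with
          | zero => simpa using hone
          | succ n ih => rw [pow_succ]; exact hmul _ ih _ hx
        obtain ⟨n, hn⟩ := (IsOfFinOrder.mem_powers_iff_mem_zpowers (isOfFinOrder_of_finite x)).2
          (Subgroup.inv_mem _ (Subgroup.mem_zpowers x))
        simp only at hn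
        exact hn ▸ hp n }
  refine ⟨S, ?_, fun g hg => hg⟩
  have hinj : (L.map (el H)).Nodup := by
    rw [List.nodup_iff_pairwise_ne, List.pairwise_map]
    refine hnodup.imp_of_mem fun {a b} ha hb h e => ?_
    have h2 : sameWord [a] [b] = true := by
      simp only [sameWord, List.all_eq_true, beq_iff_eq]
      intro i hi
      have := congrArg (fun g : H => idx ((g : Equiv.Perm GolayPt) (pt i))) e
      simp only [coe_el hmc (hm a ha), coe_el hmc (hm b hb), idx_permOf (hmc a (hm a ha)).1,
        idx_permOf (hmc b (hm b hb)).1, idx_pt (mem_pts.1 hi)] at this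
      simpa [wimg] using this
    rw [h] at h2; exact Bool.false_ne_true h2
  classical
  rw [← List.length_map (f := el H), ← List.toFinset_card_of_nodup hinj, ← Set.ncard_coe_finset,
    ← Nat.card_coe_set_eq]
  refine Nat.card_congr (Equiv.subtypeEquivRight fun g => ?_)
  show g ∈ Sset ↔ _
  simp only [Sset, Set.mem_setOf_eq, List.coe_toFinset, List.mem_map]
  exact ⟨fun ⟨a, ha, e⟩ => ⟨a, ha, e.symm⟩, fun ⟨a, ha, e⟩ => ⟨a, ha, e.symm⟩⟩

/-- a 3-element is fine when each element of a Sylow 3-subgroup has a certificate -/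
theorem fine_of_three (hmc : Sound H mc) {syl : List (ℕ × ℕ)} {k m : ℕ}
    (hH : Nat.card H = 3 ^ k * m) (hm : ¬ 3 ∣ m) (hlen : syl.length = 3 ^ k)
    (hcert : syl.all (fun q => invCert mc q.1 q.2) = true)
    (hne : (syl.map Prod.fst).any (fun P => isId [P]) = true)
    (hclosed : (syl.map Prod.fst).all
      (fun a => (syl.map Prod.fst).all fun b => (syl.map Prod.fst).any fun c => sameWord [a, b] [c]) = true)
    (hnodup : (syl.map Prod.fst).Pairwise fun a b => sameWord [a] [b] = false)
    {R : List ℕ} {h : H} {j : ℕ} (hh : orderOf h = 3 ^ j) : Fine H R h := by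
  haveI : Finite H := Subtype.finite
  have hL : (syl.map Prod.fst).all mc = true := by
    rw [List.all_eq_true]
    intro a ha
    obtain ⟨q, hq, rfl⟩ := List.mem_map.1 ha
    have := List.all_eq_true.1 hcert q hq
    simp only [invCert, Bool.and_eq_true] at this
    exact this.1.1.1.1
  obtain ⟨P, hP, hPmem⟩ := exists_subgroup_of_list hmc hL hne hclosed hnodup
  obtain ⟨c, hc⟩ := exists_conj_zpowers Nat.prime_three hH hm
    (P := P) (by rw [hP, List.length_map, hlen]) (Q := Subgroup.zpowers h)
    (IsPGroup.of_card (n := j) (by rw [Nat.card_zpowers, hh]))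
  obtain ⟨a, ha, e⟩ := hPmem _ (hc h (Subgroup.mem_zpowers h))
  refine fine_of_isConj (a := c * h * c⁻¹) (isConj_iff.2 ⟨c⁻¹, by group⟩) ?_
  rw [e]
  obtain ⟨q, hq, rfl⟩ := List.mem_map.1 ha
  exact Or.inl ⟨el H q.2, invCert_spec hmc (List.all_eq_true.1 hcert q hq)⟩

/-- even order: the element commutes with its own involution power -/
theorem fine_of_even {R : List ℕ} {h : H} (hd : 2 ∣ orderOf h) : Fine H R h := by
  haveI : Finite H := Subtype.finite
  obtain ⟨q, hq⟩ := hd
  have hq0 : q ≠ 0 := fun e => by rw [e, mul_zero] at hq; exact (orderOf_pos h).ne' hq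
  refine Or.inl ⟨h ^ q, ?_, (Commute.pow_right (Commute.refl h) q).eq⟩
  rw [orderOf_pow' h hq0, hq, Nat.gcd_mul_left_left, Nat.mul_div_cancel _ (Nat.pos_of_ne_zero hq0)]

/-- the order of an element is a power of three if its other primes are excluded -/
theorem exists_three_pow {n N : ℕ} {ps : List ℕ} (hn : n ∣ N) (hN : N ≠ 0)
    (hps : ∀ q, q.Prime → q ∣ N → q = 2 ∨ q = 3 ∨ q ∈ ps) (h2 : ¬ 2 ∣ n)
    (hp : ∀ q ∈ ps, ¬ q ∣ n) : ∃ j, n = 3 ^ j := by
  refine ⟨n.primeFactorsList.length, Nat.eq_prime_pow_of_unique_prime_dvd (fun e => hN (by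
    rw [e] at hn; exact zero_dvd_iff.1 hn)) fun {q} hq hqn => ?_⟩
  rcases hps q hq (hqn.trans hn) with rfl | rfl | h
  · exact absurd hqn h2
  · rfl
  · exact absurd hqn (hp q h)

/-- the elements of a given prime order form one class -/
theorem isConj_iff_order (hmc : Sound H mc) {p m x : ℕ} (hp : p.Prime) (hH : Nat.card H = p * m)
    (hm : ¬ p ∣ m) (hx : mc x = true) (hxo : orderOf (el H x) = p) {cs : List ℕ}
    (hlen : cs.length = p - 1)
    (hcs : ((List.range (p - 1)).all fun i => mc (cs.getD i 0) &&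
      sameWord (cs.getD i 0 :: List.replicate (i + 1) x) [x, cs.getD i 0]) = true)
    (z : H) : IsConj (el H x) z ↔ orderOf z = p := by
  haveI : Finite H := Subtype.finite
  constructor
  · intro h
    obtain ⟨c, rfl⟩ := isConj_iff.1 h
    rw [show c * el H x * c⁻¹ = MulAut.conj c (el H x) from rfl, MulEquiv.orderOf_eq, hxo]
  · intro hz
    obtain ⟨i, hi0, hip, hconj⟩ := exists_conj_pow hp hH hm hxo hz
    have hq := List.all_eq_true.1 hcs (i - 1) (List.mem_range.2 (by omega))
    simp only [Bool.and_eq_true] at hq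
    rw [show i - 1 + 1 = i by omega] at hq
    have := el_word_eq hmc (l := cs.getD (i - 1) 0 :: List.replicate i x)
      (l' := [x, cs.getD (i - 1) 0])
      (by intro P hP
          rcases List.mem_cons.1 hP with rfl | hP
          · exact hq.1
          · rw [List.eq_of_mem_replicate hP]; exact hx)
      (by intro P hP
          simp only [List.mem_cons, List.not_mem_nil, or_false] at hP
          rcases hP with rfl | rfl
          · exact hx
          · exact hq.1) hq.2
    simp only [List.map_cons, List.map_replicate, List.prod_cons, List.prod_replicate, List.map_nil,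
      List.prod_nil, mul_one] at this
    exact (hconj.trans (isConj_iff.2 ⟨el H (cs.getD (i - 1) 0), by
      rw [this, mul_inv_cancel_right]⟩)).symm

end Cfsg.Agent.GolayBlockTools
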