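import Mathlib
import Cfsg.Agent.Lib.BlockTheoryDefect
import Cfsg.Agent.Lib.BlockPrincipal81
import Cfsg.Agent.Lib.BlockNormalP81
import Cfsg.Agent.Lib.BlockContribBounds

/-!
A criterion for a finite group to have only one block for the prime two.
-/

namespace Cfsg.Agent.GolayOneBlock

open Cfsg Cfsg.Agent.BlockTheoryLocalRing Cfsg.Agent.BlockTheoryRotation
open Cfsg.Agent.BlockTheoryCentre Cfsg.Agent.BlockTheoryIdem Cfsg.Agent.BlockTheoryBrauer
open Cfsg.Agent.BlockTheoryDefect Cfsg.Agent.BlockPrincipal81 Cfsg.Agent.CharBasic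
open scoped ComplexConjugate

attribute [local instance] Classical.propDecidable

variable {M : Ideal AlgInt}

/-- One block, if the centraliser of some normal 2-subgroup is a 2-group. -/
theorem sameBlock_of_twoGroup {H : Type*} [Group H] [Fintype H] (hM : IsPModular 2 M)
    (P : Subgroup H) [P.Normal] (hP : IsPGroup 2 P)
    (hC : ∀ g ∈ Subgroup.centralizer (P : Set H), ∃ k : ℕ, g ^ 2 ^ k = 1)
    (ξ ψ : IrrCharacter H) : SameBlock M (ξ : H → ℂ) (ψ : H → ℂ) := by
  haveI : Fact (Nat.Prime 2) := ⟨Nat.prime_two⟩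
  set B := blockOf M (ξ : H → ℂ)
  have hB : IsPBlock M B := isPBlock_blockOf ξ
  have h0 : ∀ g : H, g ≠ 1 → blockCoeff B g = 0 := by
    intro g hg
    by_cases hgC : g ∈ Subgroup.centralizer (P : Set H)
    · obtain ⟨k, hk⟩ := hC g hgC
      apply blockCoeff_eq_zero_of_dvd hM hB
      obtain ⟨j, -, hj⟩ := (Nat.dvd_prime_pow Nat.prime_two).1 (orderOf_dvd_of_pow_eq_one hk)
      rw [hj]
      rcases j with _ | j
      · exact absurd (orderOf_eq_one_iff.1 hj) hg
      · exact dvd_pow_self 2 (Nat.succ_ne_zero j)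
    · exact BlockNormalP81.blockCoeff_eq_zero hM P hP hB hgC
  have hsc : idem B = blockCoeff B 1 • (1 : MonoidAlgebra ℂ H) := by
    refine MonoidAlgebra.ext ?_
    ext x
    rw [coeff_idem, MonoidAlgebra.coeff_smul_apply, MonoidAlgebra.one_def,
      MonoidAlgebra.coeff_single, Finsupp.single_apply, smul_eq_mul]
    by_cases hx : (1 : H) = x
    · rw [if_pos hx, ← hx, mul_one]
    · rw [if_neg hx, mul_zero, h0 x (Ne.symm hx)]
  have hval : ∀ χ : IrrCharacter H, omega (χ : H → ℂ) (idem B) = blockCoeff B 1 := fun χ => by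
    rw [hsc, map_smul, omega_one, smul_eq_mul, mul_one]
  have hψ : ψ ∈ B := by
    by_contra h
    have h1 := omega_idem B ξ
    have h2 := omega_idem B ψ
    rw [if_pos (self_mem_blockOf hM ξ), hval] at h1
    rw [if_neg h, hval, h1] at h2
    exact one_ne_zero h2
  exact hψ

variable {G : Type*} [Group G] [Fintype G]

/-- The local hypothesis at an involution: a normal 2-subgroup of its centraliser whose
centraliser there is a 2-group. -/
def LocalTwo (u : G) : Prop :=
  ∃ P : Subgroup G, P ≤ Subgroup.centralizer ({u} : Set G) ∧ IsPGroup 2 P ∧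
    (∀ g, g * u = u * g → ∀ v ∈ P, g * v * g⁻¹ ∈ P) ∧
    ∀ g, g * u = u * g → (∀ v ∈ P, g * v = v * g) → ∃ k : ℕ, g ^ 2 ^ k = 1

theorem localTwo_conj {u : G} (c : G) (h : LocalTwo u) : LocalTwo (c * u * c⁻¹) := by
  obtain ⟨P, hPC, hP, hn, hc⟩ := h
  have hback : ∀ g, g * (c * u * c⁻¹) = c * u * c⁻¹ * g → c⁻¹ * g * c * u = u * (c⁻¹ * g * c) := by
    intro g hg
    calc c⁻¹ * g * c * u = c⁻¹ * (g * (c * u * c⁻¹)) * c := by group
      _ = u * (c⁻¹ * g * c) := by rw [hg]; group
  refine ⟨P.map (MulAut.conj c).toMonoidHom, ?_, hP.map _, ?_, ?_⟩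
  · rintro _ ⟨v, hv, rfl⟩
    have h1 := Subgroup.mem_centralizer_singleton_iff.1 (hPC hv)
    rw [Subgroup.mem_centralizer_singleton_iff]
    show c * v * c⁻¹ * (c * u * c⁻¹) = c * u * c⁻¹ * (c * v * c⁻¹)
    calc c * v * c⁻¹ * (c * u * c⁻¹) = c * (v * u) * c⁻¹ := by group
      _ = c * u * c⁻¹ * (c * v * c⁻¹) := by rw [h1]; group
  · rintro g hg _ ⟨v, hv, rfl⟩
    refine ⟨(c⁻¹ * g * c) * v * (c⁻¹ * g * c)⁻¹, hn _ (hback g hg) v hv, ?_⟩
    show c * ((c⁻¹ * g * c) * v * (c⁻¹ * g * c)⁻¹) * c⁻¹ = g * (c * v * c⁻¹) * g⁻¹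
    group
  · intro g hg hgv
    obtain ⟨k, hk⟩ := hc _ (hback g hg) fun v hv => by
      have h1 : g * (c * v * c⁻¹) = c * v * c⁻¹ * g := hgv _ ⟨v, hv, rfl⟩
      calc c⁻¹ * g * c * v = c⁻¹ * (g * (c * v * c⁻¹)) * c := by group
        _ = v * (c⁻¹ * g * c) := by rw [h1]; group
    refine ⟨k, ?_⟩
    have : (c⁻¹ * g * c⁻¹⁻¹) ^ 2 ^ k = 1 := by rwa [inv_inv]
    rw [conj_pow] at this
    calc g ^ 2 ^ k = c * (c⁻¹ * g ^ 2 ^ k * c⁻¹⁻¹) * c⁻¹ := by group
      _ = 1 := by rw [this]; group

/-- A non-principal block is invisible on the centraliser of an involution. -/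
theorem coeff_ideal_of_local (hM : IsPModular 2 M) {B : Set (IrrCharacter G)} (hB : IsPBlock M B)
    (h1 : oneChar G ∉ B) {u : G} (hu : orderOf u = 2) (hloc : LocalTwo u) {h : G}
    (hh : h * u = u * h) : MemLocalIdeal M (blockCoeff B h) := by
  haveI : Fact (Nat.Prime 2) := ⟨Nat.prime_two⟩
  obtain ⟨P, hPC, hP, hn, hc⟩ := hloc
  set Q := Subgroup.zpowers u with hQdef
  have hQ : IsPGroup 2 Q := IsPGroup.of_card (n := 1) (by rw [Nat.card_zpowers, hu, pow_one])
  set H := Subgroup.centralizer (Q : Set G) with hH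
  have hHmem : ∀ x, x ∈ H ↔ x * u = u * x := by
    intro x
    rw [hH, hQdef, Subgroup.zpowers_eq_closure, Subgroup.centralizer_closure,
      Subgroup.mem_centralizer_singleton_iff]
  haveI hnor : (P.subgroupOf H).Normal := ⟨fun v hv g => by
    rw [Subgroup.mem_subgroupOf] at hv ⊢
    exact hn g ((hHmem _).1 g.2) v hv⟩
  have hP' : IsPGroup 2 (P.subgroupOf H) :=
    hP.comap_of_injective H.subtype H.subtype_injective
  have hone : ∀ ξ ψ : IrrCharacter H, SameBlock M (ξ : H → ℂ) (ψ : H → ℂ) := by
    refine sameBlock_of_twoGroup hM (P.subgroupOf H) hP' fun g hg => ?_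
    obtain ⟨k, hk⟩ := hc g ((hHmem _).1 g.2) fun v hv => by
      have hvH : v ∈ H := (hHmem v).2 (Subgroup.mem_centralizer_singleton_iff.1 (hPC hv))
      exact (congrArg Subtype.val
        (Subgroup.mem_centralizer_iff.1 hg ⟨v, hvH⟩ (Subgroup.mem_subgroupOf.2 hv))).symm
    exact ⟨k, Subtype.ext (by simpa using hk)⟩
  set e := idem B with he
  have hei : IsInt M e := isInt_idem hM hB
  set z := res H (cut Q e) with hz
  have hzco : ∀ x : H, z.coeff x = blockCoeff B x := fun x => by
    rw [hz, coeff_res, coeff_cut, if_pos x.2, he, coeff_idem]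
  have hzc : IsCen z := fun g x => by
    simp only [hzco]
    exact isCen_idem B (g : G) (x : G)
  have hzi : IsInt M z := fun x => by rw [hzco]; exact blockCoeff_mem hM hB _
  have hω : ∀ ξ : IrrCharacter H, MemLocalIdeal M (omega (ξ : H → ℂ) z) := by
    intro ξ
    have h2 := omega_sub_mem hM (χ := ξ) (ψ := oneChar H) (hone ξ (oneChar H)) hzc hzi
    have h3 : MemLocalIdeal M (omega ((oneChar H : IrrCharacter H) : H → ℂ) z) := by
      rw [omega_one_apply]
      simp only [hzco]
      have hsum : ∑ x, blockCoeff B x = 0 := by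
        have := omega_idem B (oneChar G)
        rw [omega_one_apply, if_neg h1] at this
        simpa [coeff_idem] using this
      have h4 := ideal_sum_sub_centralizer hM hQ (W := blockCoeff B)
        (fun v _ x => isCen_idem B x v) (blockCoeff_mem hM hB)
      rw [hsum, zero_sub] at h4
      simpa using ideal_neg h4
    simpa using ideal_add hM h2 h3
  obtain ⟨N, hN⟩ := exists_small_pow hM hzc hzi hω
  have hidem : Small M (z * z - z) := by
    have hcm := cut_mul hM Q hQ (isCen_idem B) (isCen_idem B) hei hei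
    rw [idem_sq] at hcm
    have heq : z * z = res H (cut Q e * cut Q e) := by
      rw [hz, res_mul_of_supported H fun x hx => by rw [coeff_cut, if_neg hx]]
    intro x
    rw [heq, hz, ← map_sub, coeff_res]
    have := ideal_neg (hcm (x : G))
    simpa [he] using this
  have hN' : Small M (z ^ (N + 1)) := by
    rw [pow_succ]; exact small_mul_right hM hN hzi
  have := small_of_idem_of_pow hM hzi hidem (N := N + 1) (Nat.succ_ne_zero N) hN' ⟨h, (hHmem h).2 hh⟩
  rwa [hzco] at this

set_option maxHeartbeats 1000000 in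
/-- The criterion. `R` lists representatives of the classes whose centraliser contains no
involution, the first entry `r0` being the distinguished one; `k` is an involution. -/
theorem one_block (hM : IsPModular 2 M) (hloc : ∀ u : G, orderOf u = 2 → LocalTwo u)
    (k : G) (hk : orderOf k = 2) (r0 : G) (hr0 : ∀ u : G, orderOf u = 2 → u * r0 ≠ r0 * u)
    (rs : List G)
    (hclass : ∀ h : G, (∃ u, orderOf u = 2 ∧ h * u = u * h) ∨ IsConj r0 h ∨
      ∃ r ∈ rs, IsConj r h ∨ IsConj r⁻¹ h)
    (hdist : (r0 :: rs ++ rs.map (·⁻¹)).Pairwise fun a b => ¬ IsConj a b)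
    (hodd : Odd (Nat.card {y : G // IsConj k y ∧ IsConj r0 (y⁻¹ * r0)}))
    (heven : ∀ r ∈ rs ++ rs.map (·⁻¹),
      Even (Nat.card {y : G // IsConj k y ∧ IsConj r0 (y⁻¹ * r)}))
    (χ₁ χ₂ : IrrCharacter G) : SameBlock M (χ₁ : G → ℂ) (χ₂ : G → ℂ) := by
  haveI : Fact (Nat.Prime 2) := ⟨Nat.prime_two⟩
  suffices key : ∀ χ : IrrCharacter G, SameBlock M ((oneChar G : IrrCharacter G) : G → ℂ) (χ : G → ℂ) from
    sameBlock_trans hM (sameBlock_symm (key χ₁)) (key χ₂)
  intro χ
  by_contra hne
  set B := blockOf M (χ : G → ℂ) with hBdef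
  have hB : IsPBlock M B := isPBlock_blockOf χ
  have h1 : oneChar G ∉ B := fun h => hne (sameBlock_symm h)
  have hχB : χ ∈ B := self_mem_blockOf hM χ
  have hcoef : ∀ h u : G, orderOf u = 2 → h * u = u * h → MemLocalIdeal M (blockCoeff B h) :=
    fun h u hu hh => coeff_ideal_of_local hM hB h1 hu (hloc u hu) hh
  -- the defect group is trivial
  obtain ⟨D, hD⟩ := exists_defectGroup hM hB
  have hD1 : D = ⊥ := by
    obtain ⟨g, ⟨-, hg, -⟩, S, rfl⟩ := hD
    have hodd' : ¬ 2 ∣ Nat.card (Subgroup.centralizer ({g} : Set G)) := by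
      intro hdvd
      obtain ⟨x, hx⟩ := exists_prime_orderOf_dvd_card' 2 hdvd
      exact hg (hcoef g x (by rwa [Subgroup.orderOf_coe])
        (Subgroup.mem_centralizer_singleton_iff.1 x.2).symm)
    have : (S : Subgroup (Subgroup.centralizer ({g} : Set G))) = ⊥ := by
      apply Subgroup.card_eq_one.1
      rw [S.card_eq_multiplicity, Nat.factorization_eq_zero_of_not_dvd hodd', pow_zero]
    rw [this, Subgroup.map_bot]
  have hd0 : blockDefect 2 B = 0 := by
    have := BlockContribBounds.card_defectGroup hM hB hD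
    rw [hD1, Subgroup.card_bot] at this
    exact ((Nat.pow_eq_one.1 this.symm).resolve_left (by norm_num))
  have hsingle : ∀ ψ ∈ B, ψ = χ := by
    intro ψ hψ
    have hsub : Subsingleton B := (Nat.card_eq_one_iff_unique.1
      (BlockContribBounds.eq_singleton_of_defect_zero hM hB hd0)).1
    exact congrArg Subtype.val (hsub.elim ⟨ψ, hψ⟩ ⟨χ, hχB⟩)
  have hvanish : ∀ g : G, 2 ∣ orderOf g → (χ : G → ℂ) g = 0 := by
    intro g hg
    obtain ⟨x, hx⟩ := BlockTheoryIdem.exists_pPart Nat.prime_two g
    refine eq_zero_of_pPart_notMem hM χ hx hD fun hxD => ?_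
    have hle := card_le_of_conjLe hxD
    rw [hD1, Subgroup.card_bot, Nat.card_zpowers] at hle
    obtain ⟨y, hy, -, -, hyo⟩ := hx
    have hx1 : x = 1 := orderOf_eq_one_iff.1 (le_antisymm hle (orderOf_pos x))
    rw [hx1, one_mul] at hy
    exact hyo (hy ▸ hg)
  have hc : ∀ g : G, blockCoeff B g =
      (Nat.card G : ℂ)⁻¹ * ((χ : G → ℂ) 1 * conj ((χ : G → ℂ) g)) := by
    intro g
    rw [blockCoeff_eq_sum, Finset.sum_eq_single χ (fun ψ _ hψ => if_neg fun h => hψ (hsingle ψ h))
      (fun h => absurd (Finset.mem_univ _) h), if_pos hχB]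
  set v := fun g : G => centralChar (χ : G → ℂ) g with hv
  have hvmem : ∀ g, MemLocalRing M (v g) := fun g => of_isIntegral hM (isIntegral_centralChar χ g)
  have hvconj : ∀ {g h : G}, IsConj g h → v g = v h := by
    intro g h hgh
    simp only [hv]
    rw [← omega_classSum (irr_classFun χ), ← omega_classSum (irr_classFun χ)]
    congr 1
    refine MonoidAlgebra.ext ?_
    ext x
    simp only [classSum, coeff_ofFun]
    exact if_congr ⟨fun h' => hgh.symm.trans h', fun h' => hgh.trans h'⟩ rfl rfl
  have hindex : ∀ g : G, Subgroup.centralizer ({g⁻¹} : Set G) = Subgroup.centralizer ({g} : Set G) := by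
    intro g
    ext x
    simp only [Subgroup.mem_centralizer_singleton_iff]
    exact ⟨fun h => by simpa using (Commute.inv_right (show Commute x g⁻¹ from h)).eq,
      fun h => (Commute.inv_right (show Commute x g from h)).eq⟩
  have hcinv : ∀ g : G, blockCoeff B g⁻¹ * v g⁻¹ = blockCoeff B g * v g := by
    intro g
    simp only [hv, hc, centralChar, hindex, irr_inv, Complex.conj_conj]
    ring
  -- sums over classes reduce to the listed representatives
  set L := r0 :: rs ++ rs.map (·⁻¹) with hL
  have hLnd : (L.map ConjClasses.mk).Nodup := by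
    rw [List.nodup_iff_pairwise_ne, List.pairwise_map]
    exact hdist.imp fun h e => h (ConjClasses.mk_eq_mk_iff_isConj.1 e)
  have hsum : ∀ f : G → ℂ, (∀ g h, IsConj g h → f g = f h) →
      (∀ h u, orderOf u = 2 → h * u = u * h → MemLocalIdeal M (f h)) →
      MemLocalIdeal M (∑ C : ConjClasses G, f C.out - (L.map f).sum) := by
    intro f hf hI
    have hLs : (L.map f).sum = ∑ C ∈ (L.map ConjClasses.mk).toFinset, f C.out := by
      rw [List.sum_toFinset _ hLnd, List.map_map]
      exact congrArg List.sum (List.map_congr_left fun g _ =>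
        hf g _ ((isConj_out _).1 rfl).symm)
    rw [hLs, ← Finset.sum_sdiff (Finset.subset_univ (L.map ConjClasses.mk).toFinset),
      add_sub_cancel_right]
    refine ideal_sum hM fun C hC => ?_
    rw [Finset.mem_sdiff, List.mem_toFinset] at hC
    have hmem : ∀ g ∈ L, ¬ IsConj g C.out := fun g hg h => hC.2 (List.mem_map.2
      ⟨g, hg, (isConj_out _).2 h.symm⟩)
    rcases hclass C.out with ⟨u, hu, hcu⟩ | h | ⟨r, hr, h | h⟩
    · exact hI _ u hu hcu
    · exact absurd h (hmem r0 (by simp [hL]))
    · exact absurd h (hmem r (by simp [hL, hr]))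
    · exact absurd h (hmem r⁻¹ (by simp [hL, hr]))
  have htwo : ∀ x : ℂ, MemLocalRing M x → MemLocalIdeal M (x + x) := fun x hx => by
    rw [← two_mul]
    exact ideal_mul_right hM (by exact_mod_cast natCast_p_mem hM) hx
  have hvcongr : ∀ g h, IsConj g h → blockCoeff B g * v g = blockCoeff B h * v h := fun g h hgh => by
    rw [hvconj hgh]
    congr 1
    exact apply_eq_of_isConj (isCen_idem B) hgh
  -- the idempotent acts by one
  have hmain : MemLocalIdeal M (1 - blockCoeff B r0 * v r0) := by
    have hw := omega_idem B χ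
    rw [if_pos hχB, (isCen_idem B).eq_sum_classSum, map_sum] at hw
    simp only [map_smul, smul_eq_mul, omega_classSum (irr_classFun χ), coeff_idem] at hw
    have h := hsum (fun g => blockCoeff B g * v g) hvcongr
      (fun h u hu hh => ideal_mul_right hM (hcoef h u hu hh) (hvmem h))
    simp only [hv] at h
    rw [hw] at h
    rw [hL, List.cons_append, List.map_cons, List.map_append, List.sum_cons, List.sum_append,
      List.map_map] at h
    have e : (rs.map ((fun g => blockCoeff B g * centralChar (χ : G → ℂ) g) ∘ fun x => x⁻¹)) =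
        rs.map (fun g => blockCoeff B g * centralChar (χ : G → ℂ) g) :=
      List.map_congr_left fun g _ => hcinv g
    rw [e] at h
    have h2 := htwo ((rs.map fun g => blockCoeff B g * centralChar (χ : G → ℂ) g).sum) (by
      refine (localRing hM).list_sum_mem fun x hx => ?_
      obtain ⟨g, -, rfl⟩ := List.mem_map.1 hx
      exact (localRing hM).mul_mem (blockCoeff_mem hM hB g) (hvmem g))
    have := ideal_add hM h h2
    refine cast (congrArg (MemLocalIdeal M) ?_) this
    simp only [hv]
    ring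
  -- a product of two class sums
  set zz := classSum k * classSum r0 with hzz
  have hzzc : IsCen zz := (isCen_classSum k).mul (isCen_classSum r0)
  have hzzi : IsInt M zz := IsInt.mul hM (isInt_classSum hM k) (isInt_classSum hM r0)
  have hω0 : omega (χ : G → ℂ) zz = 0 := by
    rw [hzz, omega_mul χ (isCen_classSum k), omega_classSum (irr_classFun χ), centralChar,
      hvanish k (by rw [hk]), mul_zero, zero_div, zero_mul]
  have hcount : ∀ r : G, zz.coeff r =
      (Nat.card {y : G // IsConj k y ∧ IsConj r0 (y⁻¹ * r)} : ℂ) := by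
    intro r
    rw [hzz, coeff_mul_eq, Nat.card_eq_fintype_card, Fintype.card_subtype,
      ← Finset.sum_boole]
    refine Finset.sum_congr rfl fun y _ => ?_
    simp only [classSum, coeff_ofFun]
    by_cases hy1 : IsConj k y <;> by_cases hy2 : IsConj r0 (y⁻¹ * r) <;>
      rw [isConj_iff] at hy1 hy2 <;> simp [hy1, hy2]
  have hlocal : ∀ h u, orderOf u = 2 → h * u = u * h → MemLocalIdeal M (zz.coeff h) := by
    intro h u hu hh
    have hQ : IsPGroup 2 (Subgroup.zpowers u) :=
      IsPGroup.of_card (n := 1) (by rw [Nat.card_zpowers, hu, pow_one])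
    have hmem : ∀ x, x ∈ Subgroup.centralizer (Subgroup.zpowers u : Set G) ↔ x * u = u * x := by
      intro x
      rw [Subgroup.zpowers_eq_closure, Subgroup.centralizer_closure,
        Subgroup.mem_centralizer_singleton_iff]
    have hcm := cut_mul hM (Subgroup.zpowers u) hQ (isCen_classSum k) (isCen_classSum r0)
      (isInt_classSum hM k) (isInt_classSum hM r0) h
    have hw0 : cut (Subgroup.zpowers u) (classSum r0) = 0 := by
      refine MonoidAlgebra.ext ?_
      ext x
      rw [coeff_cut]
      split_ifs with hx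
      · rw [classSum, coeff_ofFun, if_neg]
        · rfl
        intro hconj
        obtain ⟨c, rfl⟩ := isConj_iff.1 hconj
        refine hr0 (c⁻¹ * u * c) ?_ ?_
        · rw [show c⁻¹ * u * c = MulAut.conj c⁻¹ u by simp, MulEquiv.orderOf_eq, hu]
        · have hx' := (hmem _).1 hx
          calc c⁻¹ * u * c * r0 = c⁻¹ * (u * (c * r0 * c⁻¹)) * c := by group
            _ = r0 * (c⁻¹ * u * c) := by rw [← hx']; group
      · rfl
    rw [hw0, mul_zero, sub_zero, coeff_cut, if_pos ((hmem h).2 hh)] at hcm
    exact hcm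
  have hprod : MemLocalIdeal M (zz.coeff r0 * v r0) := by
    have h := hsum (fun g => zz.coeff g * v g)
      (fun g h hgh => by rw [hvconj hgh, apply_eq_of_isConj hzzc hgh])
      (fun h u hu hh => ideal_mul_right hM (hlocal h u hu hh) (hvmem h))
    have hw : ∑ C : ConjClasses G, zz.coeff C.out * v C.out = 0 := by
      rw [← hω0]
      conv_rhs => rw [hzzc.eq_sum_classSum, map_sum]
      exact Finset.sum_congr rfl fun C _ => by
        rw [map_smul, smul_eq_mul, omega_classSum (irr_classFun χ)]
    rw [hw, hL, List.cons_append, List.map_cons, List.sum_cons] at h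
    have h3 : MemLocalIdeal M (((rs ++ rs.map (·⁻¹)).map fun g => zz.coeff g * v g).sum) := by
      rw [← Fin.sum_univ_getElem]
      refine ideal_sum hM fun i _ => ?_
      rw [List.getElem_map]
      refine ideal_mul_right hM ?_ (hvmem _)
      obtain ⟨m, hm⟩ := heven _ (List.getElem_mem (l := rs ++ rs.map (·⁻¹)) _)
      rw [hcount, hm, Nat.cast_add]
      exact htwo _ (by exact_mod_cast natCast_mem (localRing hM) m)
    have := ideal_add hM h h3
    refine cast (congrArg (MemLocalIdeal M) ?_) (ideal_neg this)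
    simp only [List.map_append, List.sum_append]
    ring
  obtain ⟨m, hm⟩ := hodd
  have hvr : MemLocalIdeal M (v r0) := by
    rw [hcount, hm, Nat.cast_add, Nat.cast_one, add_mul, one_mul, Nat.cast_mul, Nat.cast_two] at hprod
    have hx : MemLocalIdeal M ((2 : ℂ) * (m : ℂ) * v r0) := by
      rw [mul_assoc]
      exact ideal_mul_right hM (by exact_mod_cast natCast_p_mem hM)
        ((localRing hM).mul_mem (natCast_mem (localRing hM) m) (hvmem r0))
    have := ideal_sub hM hprod hx
    simpa using this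
  refine one_not_ideal hM ?_
  have := ideal_add hM hmain (ideal_mul_left hM (blockCoeff_mem hM hB r0) hvr)
  simpa using this

end Cfsg.Agent.GolayOneBlock
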