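import Mathlib
import Cfsg.Agent.Lib.GolayBlockTools
import Cfsg.Agent.Lib.GolayOctadStab
import Cfsg.Agent.Lib.GolayOneBlock

/-!
A class of octad-fixing involutions as a list of words, and the assembly of the one-block criterion.
-/

set_option autoImplicit false

namespace Cfsg.Agent.GolayBlockClass

open Cfsg Cfsg.Agent.GolayBasic Cfsg.Agent.GolayPerm Cfsg.Agent.GolayChain Cfsg.Agent.GolayData
open Cfsg.Agent.GolayOutTool Cfsg.Agent.GolayBlockTools
open scoped Pointwise

variable {H : Subgroup (Equiv.Perm GolayPt)} {mc : ℕ → Bool}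

/-- the class as words -/
def classWords (TT VV : List (ℕ × ℕ)) : List (List ℕ) :=
  TT.flatMap fun t => VV.map fun v => [t.1, v.1, t.2]

/-- image through primitive operations -/
def img (P i : ℕ) : ℕ := Nat.land (Nat.shiftRight P (Nat.mul 5 i)) 31

/-- iterate of a word of four permutations -/
def it4 (a b c d : ℕ) (n i : ℕ) : ℕ :=
  Nat.rec (motive := fun _ => ℕ) i (fun _ z => img a (img b (img c (img d z)))) n

/-- fast form of the order test for a word of four permutations -/
def ord4 (a b c d p : ℕ) : Bool :=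
  (pts.all fun i => Nat.beq (it4 a b c d p i) i) && !isId [a, b, c, d]

/-- number of class elements passing the order test against `r` -/
def countOrd (TT VV : List (ℕ × ℕ)) (r p : ℕ) : ℕ :=
  (TT.map fun t => VV.countP fun v => ord4 t.1 v.1 t.2 r p).sum

theorem ord4_eq (a b c d p : ℕ) : ord4 a b c d p = primeOrd [a, b, c, d] p := by
  have h : ∀ n i, it4 a b c d n i = GolayWords.wit [a, b, c, d] n i := by
    intro n i
    induction n with
    | zero => rfl
    | succ n ih => rw [GolayWords.wit, ← ih]; rfl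
  have hb : ∀ x y : ℕ, Nat.beq x y = (x == y) := fun x y =>
    Bool.eq_iff_iff.2 ⟨fun e => by simp [Nat.eq_of_beq_eq_true e],
      fun e => by rw [eq_of_beq e]; exact Nat.beq_refl _⟩
  simp only [ord4, primeOrd, h, hb]

theorem countP_eq_countOrd (TT VV : List (ℕ × ℕ)) (r p : ℕ) :
    (classWords TT VV).countP (fun w => primeOrd (w ++ [r]) p) = countOrd TT VV r p := by
  rw [classWords, countOrd, List.countP_flatMap]
  congr 1
  refine List.map_congr_left fun t _ => ?_
  rw [Function.comp_apply, List.countP_map]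
  refine List.countP_congr fun v _ => ?_
  simp [ord4_eq]

/-- the certificate of the class -/
def classOK (mc : ℕ → Bool) (k : ℕ) (fix : List ℕ) (TT VV : List (ℕ × ℕ)) : Bool :=
  (TT.all fun t => mc t.1 && mc t.2 && isId [t.1, t.2]) &&
  (VV.all fun v => mc v.1 && mc v.2 && !isId [v.1] &&
    (pts.all fun i => !(13062145 : ℕ).testBit i || pimg v.1 i == i) &&
    sameWord [v.2, v.1] [k, v.2]) &&
  (tr24_6.all fun P => isId [P] || VV.any fun v => v.1 == P) &&
  ((TT.map fun t => pmask t.1 13062145) ==
    ((ofWeight 8).filter fun x => fix.all fun f => (enc x).testBit f).map enc) &&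
  decide ((VV.map fun v => pimg v.1 1).Nodup) &&
  fix.all (fun f => decide (f < 24) && (13062145 : ℕ).testBit f) &&
  mc k && !isId [k] && isId [k, k] &&
    (pts.all fun i => !(13062145 : ℕ).testBit i || pimg k i == i)

theorem mem_pfix_of_check (hle : H ≤ M24) (hmc : Sound H mc) {P : ℕ} (hP : mc P = true)
    (h : (pts.all fun i => !(13062145 : ℕ).testBit i || pimg P i == i) = true) :
    Subgroup.inclusion hle (el H P) ∈ GolayOctadStab.pfix GolayOctadStab.O0 := by
  intro p hp
  rw [Subgroup.coe_inclusion, coe_el hmc hP]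
  simp only [List.all_eq_true, Bool.or_eq_true, Bool.not_eq_true', beq_iff_eq] at h
  rcases h _ (mem_pts.2 (idx_lt p)) with h | h
  · rw [GolayOctadStab.mem_O0 hp] at h; simp at h
  · exact idx_inj (by rw [idx_permOf (hmc P hP).1, h])

theorem el_ne_one (hmc : Sound H mc) {P : ℕ} (hP : mc P = true) (h : isId [P] = false) :
    el H P ≠ 1 := by
  intro e
  have := (el_word_one hmc (l := [P]) (by simp [hP])).1 (by simpa using e)
  rw [h] at this; exact Bool.false_ne_true this

set_option maxHeartbeats 1000000 in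
/-- counting inside the class -/
theorem card_class (hle : H ≤ M24) (hmc : Sound H mc) {k : ℕ} {fix : List ℕ} {TT VV : List (ℕ × ℕ)}
    (hOK : classOK mc k fix TT VV = true)
    (hfixH : ∀ g ∈ H, ∀ f ∈ fix, g (pt f) = pt f) (Q : H → Prop) (b : List ℕ → Bool)
    (hQ : ∀ w ∈ classWords TT VV, (∀ P ∈ w, mc P = true) →
      (w.map (el H)).prod * (w.map (el H)).prod = 1 → (Q (w.map (el H)).prod ↔ b w = true)) :
    Nat.card {y : H // IsConj (el H k) y ∧ Q y} = (classWords TT VV).countP b := by
  classical
  simp only [classOK, Bool.and_eq_true, Bool.not_eq_true', decide_eq_true_eq,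
    Bool.or_eq_true, List.any_eq_true, beq_iff_eq] at hOK
  obtain ⟨⟨⟨⟨⟨⟨⟨⟨⟨hTT, hVV⟩, htr⟩, hmasks⟩, hVnd⟩, hfix⟩, hkm⟩, hk1⟩, hk2⟩, hkfix⟩ := hOK
  have hTnd : (TT.map fun t => pmask t.1 13062145).Nodup := by
    rw [hmasks]
    refine List.Nodup.map_on (fun x hx y hy e => ?_) ((List.nodup_range.filter _).filter _)
    have hlt : ∀ z ∈ (ofWeight 8).filter (fun x => fix.all fun f => (enc x).testBit f), z < 4096 :=
      fun z hz => List.mem_range.1 (List.mem_filter.1 (List.mem_filter.1 hz).1).1
    rw [← enc_and (hlt x hx), ← enc_and (hlt y hy), e]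
  have hT : ∀ t ∈ TT, mc t.1 = true ∧ mc t.2 = true ∧ isId [t.1, t.2] = true := fun t ht => by
    have := List.all_eq_true.1 hTT t ht
    simp only [Bool.and_eq_true] at this
    exact ⟨this.1.1, this.1.2, this.2⟩
  have hV : ∀ v ∈ VV, mc v.1 = true ∧ mc v.2 = true ∧ isId [v.1] = false ∧
      (pts.all fun i => !(13062145 : ℕ).testBit i || pimg v.1 i == i) = true ∧
      sameWord [v.2, v.1] [k, v.2] = true := fun v hv => by
    have := List.all_eq_true.1 hVV v hv
    simp only [Bool.and_eq_true, Bool.not_eq_true'] at this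
    exact ⟨this.1.1.1.1, this.1.1.1.2, this.1.1.2, this.1.2, this.2⟩
  set O0 := GolayOctadStab.O0
  have hinv : ∀ t ∈ TT, el H t.2 = (el H t.1)⁻¹ := fun t ht => by
    obtain ⟨h1, h2, h3⟩ := hT t ht
    have := (el_word_one hmc (l := [t.1, t.2]) (by simp [h1, h2])).2 h3
    simp only [List.map_cons, List.map_nil, List.prod_cons, List.prod_nil, mul_one] at this
    exact eq_inv_of_mul_eq_one_right this
  have hwordval : ∀ t ∈ TT, ∀ v ∈ VV, (([t.1, v.1, t.2] : List ℕ).map (el H)).prod =
      el H t.1 * el H v.1 * (el H t.1)⁻¹ := fun t ht v hv => by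
    simp [hinv t ht, mul_assoc]
  have hvk : ∀ v ∈ VV, IsConj (el H k) (el H v.1) := fun v hv => by
    obtain ⟨h1, h2, -, -, h5⟩ := hV v hv
    have := el_word_eq hmc (l := [v.2, v.1]) (l' := [k, v.2]) (by simp [h1, h2]) (by simp [hkm, h2]) h5
    simp only [List.map_cons, List.map_nil, List.prod_cons, List.prod_nil, mul_one] at this
    exact (isConj_iff.2 ⟨el H v.2, by rw [this, mul_inv_cancel_right]⟩).symm
  have hklt : Subgroup.inclusion hle (el H k) ∈ GolayOctadStab.pfix O0 := mem_pfix_of_check hle hmc hkm hkfix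
  have hkne : Subgroup.inclusion hle (el H k) ≠ 1 := fun e =>
    el_ne_one hmc hkm hk1 (Subgroup.inclusion_injective hle (by rw [e, map_one]))
  have hsq : el H k * el H k = 1 := by
    simpa using (el_word_one hmc (l := [k, k]) (by simp [hkm])).2 hk2
  -- every conjugate is a word
  have hsurj : ∀ y : H, IsConj (el H k) y → ∃ w ∈ classWords TT VV, (w.map (el H)).prod = y := by
    intro y hy
    obtain ⟨c, rfl⟩ := isConj_iff.1 hy
    set c' := Subgroup.inclusion hle c
    have ho : ((c' : Equiv.Perm GolayPt) • O0) ∈ octads := smul_mem_octads c'.2 GolayOctadStab.O0_mem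
    obtain ⟨x, hx, hxo⟩ := mem_wordsOfWeight.1 ho
    have hfx : (fix.all fun f => (enc x).testBit f) = true := by
      rw [List.all_eq_true]
      intro f hf
      have := List.all_eq_true.1 hfix f hf
      simp only [Bool.and_eq_true, decide_eq_true_eq] at this
      have hm : pt f ∈ (c' : Equiv.Perm GolayPt) • O0 := by
        refine Finset.mem_smul_finset.2 ⟨pt f, mem_mset.2 (by rw [idx_pt this.1]; exact this.2), ?_⟩
        exact hfixH c.1 c.2 f hf
      rw [← hxo, mem_mset, idx_pt this.1] at hm
      exact hm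
    obtain ⟨t, ht, htm⟩ : ∃ t ∈ TT, pmask t.1 13062145 = enc x := List.mem_map.1
      (by rw [hmasks]; exact List.mem_map.2 ⟨x, List.mem_filter.2 ⟨hx, hfx⟩, rfl⟩)
    obtain ⟨ht1, -, -⟩ := hT t ht
    set T' := Subgroup.inclusion hle (el H t.1)
    have hTo : (T' : Equiv.Perm GolayPt) • O0 = (c' : Equiv.Perm GolayPt) • O0 := by
      rw [← hxo, Subgroup.coe_inclusion, coe_el hmc ht1]
      show permOf t.1 • mset 13062145 = _
      rw [smul_mset (hmc _ ht1).1, htm]
    set v := (el H t.1)⁻¹ * (c * el H k * c⁻¹) * el H t.1 with hv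
    have hvp : Subgroup.inclusion hle v ∈ GolayOctadStab.pfix O0 := by
      have h1 := GolayOctadStab.conj_mem_pfix c' (Subgroup.inclusion hle (el H k)) hklt
      rw [← hTo] at h1
      have h2 := GolayOctadStab.conj_mem_pfix' h1
      simpa [hv, map_mul, map_inv, mul_assoc] using h2
    have hvne : v ≠ 1 := by
      intro e
      apply el_ne_one hmc hkm hk1
      calc el H k = c⁻¹ * (el H t.1 * v * (el H t.1)⁻¹) * c := by rw [hv]; group
        _ = 1 := by rw [e]; group
    obtain ⟨P, hP, hPv⟩ := GolayOctadStab.exists_listed hvp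
    have hP' := List.all_eq_true.1 htr P hP
    simp only [Bool.or_eq_true, List.any_eq_true, beq_iff_eq] at hP'
    rcases hP' with hid | ⟨q, hq, hqP⟩
    · exfalso
      apply hvne
      apply Subtype.ext
      have hPe := GolayOctadStab.check_of_mem hP
      rw [show (v : Equiv.Perm GolayPt) = permOf P from hPv]
      refine Equiv.ext fun p => idx_inj ?_
      have hv' := valid_of_good hPe.1
      simp only [isId, List.all_eq_true, beq_iff_eq] at hid
      rw [idx_permOf hv']
      exact hid _ (mem_pts.2 (idx_lt p))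
    · have hvq : v = el H q.1 := Subtype.ext (by
        rw [coe_el hmc (hV q hq).1, hqP, show (v : Equiv.Perm GolayPt) = permOf P from hPv])
      refine ⟨[t.1, q.1, t.2], List.mem_flatMap.2 ⟨t, ht, List.mem_map.2 ⟨q, hq, rfl⟩⟩, ?_⟩
      rw [hwordval t ht q hq, ← hvq, hv]
      group
  have hmem : ∀ w ∈ classWords TT VV, (∀ P ∈ w, mc P = true) ∧
      IsConj (el H k) (w.map (el H)).prod ∧ (w.map (el H)).prod * (w.map (el H)).prod = 1 := by
    intro w hw
    obtain ⟨t, ht, hw⟩ := List.mem_flatMap.1 hw
    obtain ⟨v, hv, rfl⟩ := List.mem_map.1 hw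
    obtain ⟨h1, h2, -⟩ := hT t ht
    have hconj : IsConj (el H k) (([t.1, v.1, t.2] : List ℕ).map (el H)).prod := by
      rw [hwordval t ht v hv]
      exact (hvk v hv).trans (isConj_iff.2 ⟨el H t.1, rfl⟩)
    refine ⟨by simp [h1, h2, (hV v hv).1], hconj, ?_⟩
    obtain ⟨c, hc⟩ := isConj_iff.1 hconj
    rw [← hc]
    calc c * el H k * c⁻¹ * (c * el H k * c⁻¹) = c * (el H k * el H k) * c⁻¹ := by group
      _ = 1 := by rw [hsq]; group
  -- different words give different elements
  have hnd : ((classWords TT VV).map fun w => (w.map (el H)).prod).Nodup := by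
    rw [classWords, List.map_flatMap, List.nodup_flatMap]
    constructor
    · intro t ht
      rw [List.map_map]
      refine List.Nodup.map_on ?_ (List.Nodup.of_map _ hVnd)
      intro a ha b hb e
      simp only [Function.comp_apply, hwordval t ht a ha, hwordval t ht b hb] at e
      have e' : el H a.1 = el H b.1 := mul_left_cancel (mul_right_cancel e)
      have e1 := congrArg (fun g : H => idx ((g : Equiv.Perm GolayPt) (pt 1))) e'
      simp only [coe_el hmc (hV a ha).1, coe_el hmc (hV b hb).1, idx_permOf (hmc _ (hV a ha).1).1,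
        idx_permOf (hmc _ (hV b hb).1).1, idx_pt (show 1 < 24 by norm_num)] at e1
      exact List.inj_on_of_nodup_map hVnd ha hb e1
    · rw [List.nodup_iff_pairwise_ne, List.pairwise_map] at hTnd
      refine hTnd.imp_of_mem fun {a b} ha hb hne => ?_
      intro z hza hzb
      simp only [List.map_map, List.mem_map, Function.comp_apply] at hza hzb
      obtain ⟨va, hva, rfl⟩ := hza
      obtain ⟨vb, hvb, e⟩ := hzb
      rw [hwordval a ha va hva, hwordval b hb vb hvb] at e
      apply hne
      have hmemv : ∀ v ∈ VV, Subgroup.inclusion hle (el H v.1) ∈ GolayOctadStab.pfix O0 ∧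
          Subgroup.inclusion hle (el H v.1) ≠ 1 := fun v hv =>
        ⟨mem_pfix_of_check hle hmc (hV v hv).1 (hV v hv).2.2.2.1, fun e1 =>
          el_ne_one hmc (hV v hv).1 (hV v hv).2.2.1 (Subgroup.inclusion_injective hle (by rw [e1, map_one]))⟩
      have hb' := GolayOctadStab.conj_mem_pfix (Subgroup.inclusion hle (el H a.1)) _ (hmemv va hva).1
      have hsm : (Subgroup.inclusion hle (el H b.1) : Equiv.Perm GolayPt) • O0 =
          (Subgroup.inclusion hle (el H a.1) : Equiv.Perm GolayPt) • O0 := by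
        refine GolayOctadStab.smul_eq_of_conj GolayOctadStab.O0_mem
          (smul_mem_octads (hle (el H a.1).2) GolayOctadStab.O0_mem) (hmemv vb hvb).1 (hmemv vb hvb).2 ?_
        rw [← map_inv, ← map_mul, ← map_mul, e, map_mul, map_mul, map_inv]
        exact hb'
      rw [Subgroup.coe_inclusion, Subgroup.coe_inclusion, coe_el hmc (hT a ha).1,
        coe_el hmc (hT b hb).1] at hsm
      have h1 : permOf b.1 • mset 13062145 = permOf a.1 • mset 13062145 := hsm
      rw [smul_mset (hmc _ (hT a ha).1).1, smul_mset (hmc _ (hT b hb).1).1] at h1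
      have hlt : ∀ t ∈ TT, pmask t.1 13062145 < 2 ^ 24 := fun t ht => by
        have hv' := (hmc _ (hT t ht).1).1
        apply Nat.lt_pow_two_of_testBit
        intro j hj
        by_contra hbit
        rw [Bool.not_eq_false, testBit_pmask] at hbit
        obtain ⟨i, hi, -, rfl⟩ := hbit
        have := pimg_lt hv' hi
        omega
      exact (mset_inj (hlt b hb) (hlt a ha) h1).symm
  -- count
  set f := fun w : List ℕ => (w.map (el H)).prod with hf
  rw [Nat.card_eq_fintype_card, Fintype.card_subtype, List.countP_eq_length_filter,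
    ← List.length_map (f := f), ← List.toFinset_card_of_nodup (hnd.sublist (List.filter_sublist.map f))]
  refine congrArg Finset.card (Finset.ext fun y => ?_)
  simp only [Finset.mem_filter, Finset.mem_univ, true_and, List.mem_toFinset, List.mem_map,
    List.mem_filter]
  constructor
  · rintro ⟨hy, hqy⟩
    obtain ⟨w, hw, rfl⟩ := hsurj y hy
    obtain ⟨hwm, -, hwsq⟩ := hmem w hw
    exact ⟨w, ⟨hw, (hQ w hw hwm hwsq).1 hqy⟩, rfl⟩
  · rintro ⟨w, ⟨hw, hb⟩, rfl⟩
    obtain ⟨hwm, hwc, hwsq⟩ := hmem w hw
    exact ⟨hwc, (hQ w hw hwm hwsq).2 hb⟩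

/-- the local hypothesis for involutions fixing an octad -/
theorem localTwo_octad (hle : H ≤ M24) {u : H} {o : Finset GolayPt} (ho : o ∈ octads)
    (hsub : ∀ v ∈ GolayOctadStab.pfix o, (v : Equiv.Perm GolayPt) ∈ H)
    (hu : Subgroup.inclusion hle u ∈ GolayOctadStab.pfix o) (hu1 : u ≠ 1) :
    GolayOneBlock.LocalTwo u := by
  set ι := Subgroup.inclusion hle
  have hι : Function.Injective ι := Subgroup.inclusion_injective hle
  have hu1' : ι u ≠ 1 := fun e => hu1 (hι (by rw [e, map_one]))
  refine ⟨(GolayOctadStab.pfix o).comap ι, ?_, ?_, ?_, ?_⟩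
  · intro v hv
    rw [Subgroup.mem_centralizer_singleton_iff]
    exact hι (by rw [map_mul, map_mul, GolayOctadStab.pfix_comm ho hv hu])
  · exact (IsPGroup.of_card (n := 4) (by rw [GolayOctadStab.card_pfix ho]; norm_num)).comap_of_injective ι hι
  · intro g hg v hv
    rw [Subgroup.mem_comap, map_mul, map_mul, map_inv]
    exact GolayOctadStab.pfix_conj
      (GolayOctadStab.mem_soct_of_commute ho hu hu1' (by rw [← map_mul, hg, map_mul])) hv
  · intro g hg hgP
    obtain ⟨p, hp⟩ := GolayOctadStab.exists_notMem ho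
    have hgo := GolayOctadStab.mem_soct_of_commute ho hu hu1' (g := ι g) (by rw [← map_mul, hg, map_mul])
    obtain ⟨v, hv, m, hm, e⟩ := GolayOctadStab.exists_decomp ho hp hgo
    have hm1 : m = 1 := GolayOctadStab.comp_faithful ho hp hm fun w hw => by
      have hc : ι g * w = w * ι g := by
        have := congrArg ι (hgP ⟨w.1, hsub w hw⟩ (by
          rw [Subgroup.mem_comap, show ι ⟨w.1, hsub w hw⟩ = w from Subtype.ext rfl]; exact hw))
        rwa [map_mul, map_mul, show ι ⟨w.1, hsub w hw⟩ = w from Subtype.ext rfl] at this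
      rw [← e] at hc
      calc m * w * m⁻¹ = v⁻¹ * (v * m * w) * m⁻¹ := by group
        _ = v⁻¹ * (w * (v * m)) * m⁻¹ := by rw [hc]
        _ = v⁻¹ * (w * v) := by group
        _ = w := by rw [← GolayOctadStab.pfix_comm ho hv hw]; group
    refine ⟨1, hι ?_⟩
    rw [map_pow, map_one, pow_one, sq, ← e, hm1, mul_one]
    exact GolayOctadStab.pfix_sq ho hv

/-- distinguishing two elements by powers -/
def pairOK (ns : List ℕ) (special : List (ℕ × ℕ)) (a b : ℕ) : Bool :=
  (ns.any fun n => isId (List.replicate n a) != isId (List.replicate n b)) || special.elem (a, b)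

set_option maxHeartbeats 1000000 in
/-- assembly -/
theorem one_block_of_data (hle : H ≤ M24) (hmc : Sound H mc) {k r0 : ℕ} {rs rsInv fix : List ℕ}
    {TT VV : List (ℕ × ℕ)} {p : ℕ} (hp : p.Prime) (hOK : classOK mc k fix TT VV = true)
    (hfixH : ∀ g ∈ H, ∀ f ∈ fix, g (pt f) = pt f)
    (hR : (r0 :: rs ++ rsInv).all mc = true)
    (hinv : (rs.zip rsInv).all (fun q => isId [q.1, q.2]) = true) (hlen : rsInv.length = rs.length)
    (horder : ∀ z : H, IsConj (el H r0) z ↔ orderOf z = p)
    (hloc : ∀ u : H, orderOf u = 2 → GolayOneBlock.LocalTwo u)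
    (hfine : ∀ h : H, Fine H (r0 :: rs ++ rsInv) h)
    {ns : List ℕ} {special : List (ℕ × ℕ)}
    (hpair : (r0 :: rs ++ rsInv).Pairwise fun a b => pairOK ns special a b = true)
    (hspecial : ∀ q ∈ special, ¬ IsConj (el H q.1) (el H q.2))
    (hr0 : ∀ u : H, orderOf u = 2 → u * el H r0 ≠ el H r0 * u)
    (hodd : countOrd TT VV r0 p % 2 = 1)
    (heven : ∀ r ∈ rs, countOrd TT VV r p % 2 = 0)
    (M : Ideal AlgInt) (hM : IsPModular 2 M) (χ ψ : IrrCharacter H) :
    SameBlock M (χ : H → ℂ) (ψ : H → ℂ) := by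
  classical
  haveI : Finite H := Subtype.finite
  letI : Fintype H := Fintype.ofFinite H
  have hR' := List.all_eq_true.1 hR
  have hinv' : rsInv.map (el H) = (rs.map (el H)).map (·⁻¹) := by
    apply List.ext_getElem (by simp [hlen])
    intro i h1 h2
    simp only [List.length_map] at h1
    simp only [List.getElem_map]
    have hq := List.all_eq_true.1 hinv (rs[i]'(hlen ▸ h1), rsInv[i])
      (List.mem_iff_getElem.2 ⟨i, by rw [List.length_zip]; omega, by simp⟩)
    have := (el_word_one hmc (l := [rs[i]'(hlen ▸ h1), rsInv[i]]) (by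
      intro P hP
      simp only [List.mem_cons, List.not_mem_nil, or_false] at hP
      rcases hP with rfl | rfl
      · exact hR' _ (by simp)
      · exact hR' _ (by simp))).2 hq
    simp only [List.map_cons, List.map_nil, List.prod_cons, List.prod_nil, mul_one] at this
    exact eq_inv_of_mul_eq_one_right this
  have hk : orderOf (el H k) = 2 := by
    simp only [classOK, Bool.and_eq_true, Bool.not_eq_true'] at hOK
    refine orderOf_eq_prime ?_ (el_ne_one hmc hOK.1.1.1.2 hOK.1.1.2)
    rw [sq]
    simpa using (el_word_one hmc (l := [k, k]) (by simp [hOK.1.1.1.2])).2 hOK.1.2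
  have hcount : ∀ r, mc r = true →
      Nat.card {y : H // IsConj (el H k) y ∧ IsConj (el H r0) (y⁻¹ * el H r)} =
        countOrd TT VV r p := by
    intro r hr
    rw [← countP_eq_countOrd]
    refine card_class hle hmc hOK hfixH _ _ fun w _ hwm hsq => ?_
    rw [horder, inv_eq_of_mul_eq_one_right hsq, ← primeOrd_iff hmc (w := w ++ [r])
      (by intro P hP; rcases List.mem_append.1 hP with h | h
          · exact hwm P h
          · rw [List.mem_singleton.1 h]; exact hr) hp]
    simp
  have hrs : ∀ r ∈ rs, mc r = true := fun r hr => hR' r (by simp [hr])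
  have hkk : ∀ y : H, IsConj (el H k) y → y⁻¹ = y := by
    intro y hy
    obtain ⟨c, rfl⟩ := isConj_iff.1 hy
    have h2 : el H k * el H k = 1 := by rw [← sq, ← hk]; exact pow_orderOf_eq_one _
    refine inv_eq_of_mul_eq_one_right ?_
    calc c * el H k * c⁻¹ * (c * el H k * c⁻¹) = c * (el H k * el H k) * c⁻¹ := by group
      _ = 1 := by rw [h2]; group
  refine GolayOneBlock.one_block hM hloc (el H k) hk (el H r0) hr0 (rs.map (el H)) ?_ ?_ ?_ ?_ χ ψ
  · intro h
    rcases hfine h with h' | ⟨r, hr, hc⟩
    · exact Or.inl h'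
    · rcases List.mem_cons.1 (show r ∈ r0 :: (rs ++ rsInv) from hr) with rfl | hr
      · exact Or.inr (Or.inl hc)
      · rcases List.mem_append.1 hr with hr | hr
        · exact Or.inr (Or.inr ⟨_, List.mem_map_of_mem hr, Or.inl hc⟩)
        · have : el H r ∈ (rs.map (el H)).map (·⁻¹) := hinv' ▸ List.mem_map_of_mem hr
          obtain ⟨g, hg, e⟩ := List.mem_map.1 this
          exact Or.inr (Or.inr ⟨g, hg, Or.inr (by rw [e]; exact hc)⟩)
  · rw [← hinv', ← List.map_cons, ← List.map_append, List.pairwise_map]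
    refine hpair.imp_of_mem fun {a b} ha hb hab => ?_
    simp only [pairOK, Bool.or_eq_true, List.any_eq_true, bne_iff_ne, List.elem_iff] at hab
    rcases hab with ⟨n, -, hn⟩ | hab
    · intro hc
      apply hn
      obtain ⟨c, hc'⟩ := isConj_iff.1 hc
      have h1 := el_pow_one hmc (n := n) (hR' a ha)
      have h2 := el_pow_one hmc (n := n) (hR' b hb)
      have h3 : el H b ^ n = 1 ↔ el H a ^ n = 1 := by
        rw [← hc', conj_pow, mul_inv_eq_one, mul_eq_left]
      rw [h1, h2] at h3
      exact Bool.eq_iff_iff.2 h3.symm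
    · exact hspecial (a, b) hab
  · rw [hcount r0 (hR' r0 (by simp)), Nat.odd_iff]
    exact hodd
  · intro r hr
    rcases List.mem_append.1 hr with hr | hr
    · obtain ⟨a, ha, rfl⟩ := List.mem_map.1 hr
      rw [hcount a (hrs a ha), Nat.even_iff]
      exact heven a ha
    · obtain ⟨g, hg, rfl⟩ := List.mem_map.1 hr
      obtain ⟨a, ha, rfl⟩ := List.mem_map.1 hg
      have e : Nat.card {y : H // IsConj (el H k) y ∧ IsConj (el H r0) (y⁻¹ * (el H a)⁻¹)} =
          Nat.card {y : H // IsConj (el H k) y ∧ IsConj (el H r0) (y⁻¹ * el H a)} := by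
        refine Nat.card_congr (Equiv.subtypeEquivRight fun y => and_congr_right fun hy => ?_)
        have h2 : el H a * y = MulAut.conj y⁻¹ (y * el H a) := by simp [mul_assoc]
        rw [horder, horder, ← mul_inv_rev, orderOf_inv, h2, MulEquiv.orderOf_eq, hkk y hy]
      rw [e, hcount a (hrs a ha), Nat.even_iff]
      exact heven a ha

end Cfsg.Agent.GolayBlockClass
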