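import Mathlib
import Cfsg.Agent.Lib.GolayBlockClass
import Cfsg.Agent.Lib.GolayInvolutions

/-!
Local facts about M22 for its blocks.
-/

set_option autoImplicit false

namespace Cfsg.Agent.GolayBlockM22Local

open Cfsg Cfsg.Agent.GolayBasic Cfsg.Agent.GolayPerm Cfsg.Agent.GolaySolve
open scoped Pointwise

theorem sound (P : ℕ) (h : memCheck [23, 0] 16777215 P = true) :
    valid P = true ∧ permOf P ∈ Spor.M22 :=
  ⟨(memCheck_spec h).1, mem_M22_of_check h⟩

theorem le_M24 : Spor.M22 ≤ M24 := fun g hg => by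
  rw [GolayM24.M22_eq, mem_fixList] at hg; exact hg.1

theorem fixed (g : Equiv.Perm GolayPt) (hg : g ∈ Spor.M22) (f : ℕ) (hf : f ∈ [23, 0]) :
    g (pt f) = pt f := by
  rw [GolayM24.M22_eq, mem_fixList] at hg; exact hg.2 f hf

theorem primeFactors_card : Nat.primeFactors 443520 = {2, 3, 5, 7, 11} := by
  rw [show (443520 : ℕ) = 2 ^ 7 * 3 ^ 2 * 5 * 7 * 11 by norm_num]
  repeat rw [Nat.primeFactors_mul (by norm_num) (by norm_num)]
  rw [Nat.primeFactors_prime_pow (by norm_num) Nat.prime_two,
    Nat.primeFactors_prime_pow (by norm_num) Nat.prime_three,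
    Nat.Prime.primeFactors (by norm_num), Nat.Prime.primeFactors (by norm_num),
    Nat.Prime.primeFactors (by norm_num)]
  decide

theorem localTwo (u : ↥Spor.M22) (hu : orderOf u = 2) : GolayOneBlock.LocalTwo u := by
  set g := Subgroup.inclusion le_M24 u with hg
  have hg2 : orderOf (g : Equiv.Perm GolayPt) = 2 := by
    rw [hg, Subgroup.coe_inclusion, Subgroup.orderOf_coe, hu]
  rcases GolayInvolutions.classification.1 _ g.2 hg2 with h | h
  · refine GolayBlockClass.localTwo_octad le_M24 h (fun v hv => ?_)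
      (GolayOctadStab.mem_pfix_of_filter rfl) (fun e => by rw [e, orderOf_one] at hu; omega)
    rw [GolayM24.M22_eq, mem_fixList]
    refine ⟨v.2, fun f hf => hv _ ?_⟩
    rw [Finset.mem_filter]
    exact ⟨Finset.mem_univ _, fixed u.1 u.2 f hf⟩
  · exact absurd (fixed u.1 u.2 23 (by simp)) (h (pt 23))

end Cfsg.Agent.GolayBlockM22Local
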