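import Mathlib
import Cfsg.Agent.Lib.GolayBlockClass
import Cfsg.Agent.Lib.GolayBlockM22Local
import Cfsg.Agent.Lib.GolayBlockDataM22

/-!
The Mathieu group M22 has a single block for the prime two.
-/

set_option autoImplicit false
set_option maxHeartbeats 4000000

namespace Cfsg.Agent.GolayBlockM22

open Cfsg Cfsg.Agent.GolayBasic Cfsg.Agent.GolayPerm Cfsg.Agent.GolayChain Cfsg.Agent.GolaySolve
open Cfsg.Agent.GolayOutTool Cfsg.Agent.GolayBlockTools Cfsg.Agent.GolayBlockClass
open scoped Pointwise

/-- the group -/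
abbrev H : Subgroup (Equiv.Perm GolayPt) := Spor.M22

/-- membership test -/
def mc : ℕ → Bool := memCheck [23, 0] 16777215

/-- the representatives -/
def R : List ℕ := GolayBlockDataM22.pR0 :: GolayBlockDataM22.rs ++ GolayBlockDataM22.rsInv

theorem mc_sound : Sound H mc := fun P h => GolayBlockM22Local.sound P h

theorem card_H : Nat.card H = 443520 := GolayM24.card_M22

theorem cent5_ok : chainCheck [] GolayBlockDataM22.lv5 = true ∧ (elts GolayBlockDataM22.lv5).all mc = true ∧
    size GolayBlockDataM22.lv5 = 443520 ∧ mc GolayBlockDataM22.x5 = true ∧ primeOrd [GolayBlockDataM22.x5] 5 = true ∧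
    msolve GolayBlockDataM22.lv5 GolayBlockDataM22.x5 GolayBlockDataM22.x5 GolayBlockDataM22.base5 (GolayBlockDataM22.cent5.map Prod.fst) = true ∧
    GolayBlockDataM22.cent5.all (centCert mc R) = true := by decide +kernel

theorem fine5 {h : H} (hd : 5 ∣ orderOf h) : Fine H R h := by
  obtain ⟨hc, hH, hs, hx, hord, hsol, hcl⟩ := cent5_ok
  refine fine_of_dvd (p := 5) (m := 88704) (by norm_num) (by rw [card_H]) (by norm_num)
    (x := el H GolayBlockDataM22.x5) ?_ (fun g hg => fine_of_commute mc_sound hc hH (by rw [card_H, hs]) hx hsol hcl hg) hd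
  have := (primeOrd_iff mc_sound (w := [GolayBlockDataM22.x5]) (by simp [hx]) (p := 5) (by norm_num)).2 hord
  simpa using this

theorem cent7_ok : chainCheck [] GolayBlockDataM22.lv7 = true ∧ (elts GolayBlockDataM22.lv7).all mc = true ∧
    size GolayBlockDataM22.lv7 = 443520 ∧ mc GolayBlockDataM22.x7 = true ∧ primeOrd [GolayBlockDataM22.x7] 7 = true ∧
    msolve GolayBlockDataM22.lv7 GolayBlockDataM22.x7 GolayBlockDataM22.x7 GolayBlockDataM22.base7 (GolayBlockDataM22.cent7.map Prod.fst) = true ∧
    GolayBlockDataM22.cent7.all (centCert mc R) = true := by decide +kernel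

theorem fine7 {h : H} (hd : 7 ∣ orderOf h) : Fine H R h := by
  obtain ⟨hc, hH, hs, hx, hord, hsol, hcl⟩ := cent7_ok
  refine fine_of_dvd (p := 7) (m := 63360) (by norm_num) (by rw [card_H]) (by norm_num)
    (x := el H GolayBlockDataM22.x7) ?_ (fun g hg => fine_of_commute mc_sound hc hH (by rw [card_H, hs]) hx hsol hcl hg) hd
  have := (primeOrd_iff mc_sound (w := [GolayBlockDataM22.x7]) (by simp [hx]) (p := 7) (by norm_num)).2 hord
  simpa using this

theorem cent11_ok : chainCheck [] GolayBlockDataM22.lv11 = true ∧ (elts GolayBlockDataM22.lv11).all mc = true ∧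
    size GolayBlockDataM22.lv11 = 443520 ∧ mc GolayBlockDataM22.x11 = true ∧ primeOrd [GolayBlockDataM22.x11] 11 = true ∧
    msolve GolayBlockDataM22.lv11 GolayBlockDataM22.x11 GolayBlockDataM22.x11 GolayBlockDataM22.base11 (GolayBlockDataM22.cent11.map Prod.fst) = true ∧
    GolayBlockDataM22.cent11.all (centCert mc R) = true := by decide +kernel

theorem fine11 {h : H} (hd : 11 ∣ orderOf h) : Fine H R h := by
  obtain ⟨hc, hH, hs, hx, hord, hsol, hcl⟩ := cent11_ok
  refine fine_of_dvd (p := 11) (m := 40320) (by norm_num) (by rw [card_H]) (by norm_num)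
    (x := el H GolayBlockDataM22.x11) ?_ (fun g hg => fine_of_commute mc_sound hc hH (by rw [card_H, hs]) hx hsol hcl hg) hd
  have := (primeOrd_iff mc_sound (w := [GolayBlockDataM22.x11]) (by simp [hx]) (p := 11) (by norm_num)).2 hord
  simpa using this

theorem three_ok : GolayBlockDataM22.syl.all (fun q => invCert mc q.1 q.2) = true ∧
    (GolayBlockDataM22.syl.map Prod.fst).any (fun P => isId [P]) = true ∧
    (GolayBlockDataM22.syl.map Prod.fst).all
      (fun a => (GolayBlockDataM22.syl.map Prod.fst).all fun b => (GolayBlockDataM22.syl.map Prod.fst).any fun c => sameWord [a, b] [c]) = true ∧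
    GolayBlockDataM22.syl.length = 3 ^ 2 ∧
    (GolayBlockDataM22.syl.map Prod.fst).Pairwise (fun a b => sameWord [a] [b] = false) := by decide +kernel

theorem fine (h : H) : Fine H R h := by
  haveI : Finite H := Subtype.finite
  by_cases h2 : 2 ∣ orderOf h
  · exact fine_of_even h2
  by_cases h5 : 5 ∣ orderOf h
  · exact fine5 h5
  by_cases h7 : 7 ∣ orderOf h
  · exact fine7 h7
  by_cases h11 : 11 ∣ orderOf h
  · exact fine11 h11
  have hps : ∀ q, q.Prime → q ∣ 443520 → q = 2 ∨ q = 3 ∨ q ∈ ([5, 7, 11] : List ℕ) := by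
    intro q hq hd
    have : q ∈ Nat.primeFactors 443520 := Nat.mem_primeFactors.2 ⟨hq, hd, by norm_num⟩
    rw [GolayBlockM22Local.primeFactors_card] at this
    simpa using this
  obtain ⟨j, hj⟩ := exists_three_pow (n := orderOf h) (N := 443520) (ps := [5, 7, 11])
    (card_H ▸ orderOf_dvd_natCard h) (by norm_num) hps h2
    (by intro q hq; simp only [List.mem_cons, List.not_mem_nil, or_false] at hq
        rcases hq with rfl | rfl | rfl <;> assumption)
  obtain ⟨a, b, c, d, e⟩ := three_ok
  exact fine_of_three mc_sound (k := 2) (m := 49280) (by rw [card_H]; norm_num) (by norm_num) d a b c e hj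

theorem not_inv7 : ¬ IsConj (el H GolayBlockDataM22.x7) (el H (GolayBlockDataM22.rsInv.getD 0 0)) := by
  have h : chainCheck [] GolayBlockDataM22.lv7 = true ∧ (elts GolayBlockDataM22.lv7).all mc = true ∧
      size GolayBlockDataM22.lv7 = 443520 ∧ mc GolayBlockDataM22.x7 = true ∧ mc (GolayBlockDataM22.rsInv.getD 0 0) = true ∧
      msolve GolayBlockDataM22.lv7 GolayBlockDataM22.x7 (GolayBlockDataM22.rsInv.getD 0 0) GolayBlockDataM22.base7 [] = true := by decide +kernel
  exact not_isConj_of_msolve mc_sound h.1 h.2.1 (by rw [card_H, h.2.2.1]) h.2.2.2.1 h.2.2.2.2.1 h.2.2.2.2.2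

theorem not_inv11 : ¬ IsConj (el H GolayBlockDataM22.x11) (el H (GolayBlockDataM22.rsInv.getD 1 0)) := by
  have h : chainCheck [] GolayBlockDataM22.lv11 = true ∧ (elts GolayBlockDataM22.lv11).all mc = true ∧
      size GolayBlockDataM22.lv11 = 443520 ∧ mc GolayBlockDataM22.x11 = true ∧ mc (GolayBlockDataM22.rsInv.getD 1 0) = true ∧
      msolve GolayBlockDataM22.lv11 GolayBlockDataM22.x11 (GolayBlockDataM22.rsInv.getD 1 0) GolayBlockDataM22.base11 [] = true := by decide +kernel
  exact not_isConj_of_msolve mc_sound h.1 h.2.1 (by rw [card_H, h.2.2.1]) h.2.2.2.1 h.2.2.2.2.1 h.2.2.2.2.2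

theorem powConj_ok : GolayBlockDataM22.powConj.length = 5 - 1 ∧ mc GolayBlockDataM22.pR0 = true ∧
    primeOrd [GolayBlockDataM22.pR0] 5 = true ∧
    ((List.range (5 - 1)).all fun i => mc (GolayBlockDataM22.powConj.getD i 0) &&
      sameWord (GolayBlockDataM22.powConj.getD i 0 :: List.replicate (i + 1) GolayBlockDataM22.pR0) [GolayBlockDataM22.pR0, GolayBlockDataM22.powConj.getD i 0]) = true := by
  decide +kernel

theorem order_iff (z : H) : IsConj (el H GolayBlockDataM22.pR0) z ↔ orderOf z = 5 := by
  obtain ⟨a, b, c, d⟩ := powConj_ok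
  refine isConj_iff_order mc_sound (p := 5) (m := 88704) (by norm_num) (by rw [card_H])
    (by norm_num) b ?_ a d z
  have := (primeOrd_iff mc_sound (w := [GolayBlockDataM22.pR0]) (by simp [b]) (p := 5) (by norm_num)).2 c
  simpa using this

theorem class_ok : classOK mc GolayBlockDataM22.pK [23, 0] GolayBlockDataM22.transversal GolayBlockDataM22.fixers = true := by decide +kernel

theorem count_odd : countOrd GolayBlockDataM22.transversal GolayBlockDataM22.fixers
    GolayBlockDataM22.pR0 5 % 2 = 1 := by decide +kernel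

theorem count0 : countOrd GolayBlockDataM22.transversal GolayBlockDataM22.fixers
    (GolayBlockDataM22.rs.getD 0 0) 5 % 2 = 0 := by decide +kernel

theorem count1 : countOrd GolayBlockDataM22.transversal GolayBlockDataM22.fixers
    (GolayBlockDataM22.rs.getD 1 0) 5 % 2 = 0 := by decide +kernel

theorem reps_ok : (GolayBlockDataM22.pR0 :: GolayBlockDataM22.rs ++ GolayBlockDataM22.rsInv).all mc = true ∧
    (GolayBlockDataM22.rs.zip GolayBlockDataM22.rsInv).all (fun q => isId [q.1, q.2]) = true ∧
    GolayBlockDataM22.rsInv.length = GolayBlockDataM22.rs.length ∧ GolayBlockDataM22.pR0 = GolayBlockDataM22.x5 ∧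
    GolayBlockDataM22.rs = [GolayBlockDataM22.x7, GolayBlockDataM22.x11] ∧
    (GolayBlockDataM22.pR0 :: GolayBlockDataM22.rs ++ GolayBlockDataM22.rsInv).Pairwise (fun a b => pairOK [5, 7, 11]
      [(GolayBlockDataM22.x7, GolayBlockDataM22.rsInv.getD 0 0), (GolayBlockDataM22.x11, GolayBlockDataM22.rsInv.getD 1 0)] a b = true) ∧
    (GolayBlockDataM22.cent5.all fun q => mc q.1 && (!isId [q.1, q.1] || isId [q.1])) = true := by decide +kernel

theorem centraliser_odd (u : H) (hu : orderOf u = 2) :
    u * el H GolayBlockDataM22.pR0 ≠ el H GolayBlockDataM22.pR0 * u := by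
  intro h
  obtain ⟨hc, hH, hs, hx, -, hsol, -⟩ := cent5_ok
  obtain ⟨-, -, -, he, -, -, hodd⟩ := reps_ok
  rw [he] at h
  have h' := congrArg Subtype.val h
  simp only [Subgroup.coe_mul, coe_el mc_sound hx] at h'
  obtain ⟨s, hs', hus⟩ := exists_msol hc (fun T hT => (mc_sound T (List.all_eq_true.1 hH T hT)).2)
    (by rw [card_H, hs]) hsol u.2 h'
  obtain ⟨q, hq, rfl⟩ := List.mem_map.1 hs'
  have hq' := List.all_eq_true.1 hodd q hq
  simp only [Bool.and_eq_true, Bool.or_eq_true, Bool.not_eq_true'] at hq'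
  have e : u = el H q.1 := Subtype.ext (by rw [hus, coe_el mc_sound hq'.1])
  have h2 : isId [q.1, q.1] = true := by
    rw [← el_word_one mc_sound (l := [q.1, q.1]) (by simp [hq'.1])]
    simp only [List.map_cons, List.map_nil, List.prod_cons, List.prod_nil, mul_one, ← e, ← sq]
    rw [← hu]; exact pow_orderOf_eq_one u
  rcases hq'.2 with h3 | h3
  · rw [h2] at h3; exact absurd h3 (by simp)
  · have := (el_word_one mc_sound (l := [q.1]) (by simp [hq'.1])).2 h3
    simp only [List.map_cons, List.map_nil, List.prod_cons, List.prod_nil, mul_one, ← e] at this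
    rw [this, orderOf_one] at hu
    omega

theorem one_block (M : Ideal AlgInt) (hM : IsPModular 2 M) (χ ψ : IrrCharacter H) :
    SameBlock M (χ : H → ℂ) (ψ : H → ℂ) := by
  obtain ⟨hR, hinv, hlen, -, hrs, hpair, -⟩ := reps_ok
  refine one_block_of_data GolayBlockM22Local.le_M24 mc_sound (p := 5) (by norm_num) class_ok
    GolayBlockM22Local.fixed hR hinv hlen order_iff GolayBlockM22Local.localTwo fine hpair ?_
    centraliser_odd count_odd ?_ M hM χ ψ
  · intro q hq
    simp only [List.mem_cons, List.not_mem_nil, or_false] at hq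
    rcases hq with rfl | rfl
    · exact not_inv7
    · exact not_inv11
  · intro r hr
    obtain ⟨i, hi, rfl⟩ := List.mem_iff_getElem.1 hr
    rw [← List.getD_eq_getElem (d := 0)]
    have hl : i < 2 := by
      have := hi
      simp only [hrs, List.length_cons, List.length_nil] at this
      omega
    interval_cases i
    · exact count0
    · exact count1

end Cfsg.Agent.GolayBlockM22
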