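import Mathlib
import Cfsg.Agent.Lib.GolayBlockClass
import Cfsg.Agent.Lib.GolayInvolutions
import Cfsg.Agent.Lib.GolayBlockDataM24

/-!
Local facts about M24 for its blocks.
-/

set_option autoImplicit false

namespace Cfsg.Agent.GolayBlockM24Local

open Cfsg Cfsg.Agent.GolayBasic Cfsg.Agent.GolayPerm Cfsg.Agent.GolayChain
open Cfsg.Agent.GolayBlockDataM24 Cfsg.Agent.GolayInvolutionData Cfsg.Agent.GolayOutTool
open scoped Pointwise

theorem sound (P : ℕ) (h : good P = true) : valid P = true ∧ permOf P ∈ M24 :=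
  ⟨valid_of_good h, permOf_mem_M24 h⟩

theorem le_M24 : M24 ≤ M24 := le_rfl

theorem fixed (g : Equiv.Perm GolayPt) (_ : g ∈ M24) (f : ℕ) (hf : f ∈ ([] : List ℕ)) :
    g (pt f) = pt f := absurd hf List.not_mem_nil

theorem primeFactors_card : Nat.primeFactors 244823040 = {2, 3, 5, 7, 11, 23} := by
  rw [show (244823040 : ℕ) = 2 ^ 10 * 3 ^ 3 * 5 * 7 * 11 * 23 by norm_num]
  repeat rw [Nat.primeFactors_mul (by norm_num) (by norm_num)]
  rw [Nat.primeFactors_prime_pow (by norm_num) Nat.prime_two,
    Nat.primeFactors_prime_pow (by norm_num) Nat.prime_three,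
    Nat.Prime.primeFactors (by norm_num), Nat.Prime.primeFactors (by norm_num),
    Nat.Prime.primeFactors (by norm_num), Nat.Prime.primeFactors (by norm_num)]
  decide

/-- the invariant octads are listed -/
theorem io_check : ((ofWeight 8).all fun x => pmask pZ2 (enc x) != enc x || invOctads.elem (enc x)) = true ∧
    (invOctads.all fun m => decide (m < 2 ^ 24) && (pmask pZ2 m == m) && inCode m && wt m == 8) = true ∧
    good pZ2 = true ∧ isId [pZ2, pZ2] = true := by decide +kernel

/-- points in the same atom -/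
def sameAtom (i j : ℕ) : Bool := atoms.getD i 0 == atoms.getD j 0

/-- the separating elements lie in the subgroup and separate atoms -/
theorem sep_check :
    (sep.all fun k => good k && sameWord [k, pZ2] [pZ2, k] &&
      invOctads.all fun m => pmask k m == m) = true ∧
    (pts.all fun p => pts.all fun q => sameAtom p q ||
      sep.any fun k => (pimg k p == p) != (pimg k q == q)) = true ∧
    (pts.all fun p => pts.all fun q => sameAtom p q ||
      invOctads.any fun m => m.testBit p != m.testBit q) = true := by decide +kernel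

/-- inside an atom of four points -/
theorem atom_check : (pts.all fun p => pts.all fun q => !sameAtom p q || q == p || q == pimg pZ2 p ||
    pts.all fun s => !sameAtom q s || s == p || s == q || s == pimg pZ2 p || s == pimg pZ2 q) = true := by
  decide +kernel

/-- the chosen involution without fixed points -/
noncomputable def uB : ↥M24 := ⟨permOf pZ2, permOf_mem_M24 io_check.2.2.1⟩

theorem idx_uB (p : GolayPt) : idx ((uB : Equiv.Perm GolayPt) p) = pimg pZ2 (idx p) :=
  idx_permOf (valid_of_good io_check.2.2.1) p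

/-- its subgroup keeping every invariant octad -/
def kerB : Subgroup ↥M24 :=
  Subgroup.centralizer ({uB} : Set ↥M24) ⊓
    ⨅ m ∈ {m : ℕ | m ∈ invOctads}, MulAction.stabilizer ↥M24 (mset m)

theorem mem_kerB {g : ↥M24} :
    g ∈ kerB ↔ g * uB = uB * g ∧ ∀ m ∈ invOctads, (g : Equiv.Perm GolayPt) • mset m = mset m := by
  simp only [kerB, Subgroup.mem_inf, Subgroup.mem_centralizer_singleton_iff, Subgroup.mem_iInf,
    Set.mem_ofPred_eq, MulAction.mem_stabilizer_iff]
  rfl

theorem pow_four_eq_one {g : ↥M24} (hg : g * uB = uB * g)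
    (ha : ∀ p, sameAtom (idx p) (idx ((g : Equiv.Perm GolayPt) p)) = true) : g ^ 4 = 1 := by
  have hu : ∀ p, (uB : Equiv.Perm GolayPt) ((uB : Equiv.Perm GolayPt) p) = p := fun p => by
    apply idx_inj
    rw [idx_uB, idx_uB]
    have h := io_check.2.2.2
    simp only [isId, List.all_eq_true, beq_iff_eq] at h
    exact h _ (mem_pts.2 (idx_lt p))
  have hcomm : ∀ p, (g : Equiv.Perm GolayPt) ((uB : Equiv.Perm GolayPt) p) =
      (uB : Equiv.Perm GolayPt) ((g : Equiv.Perm GolayPt) p) := fun p =>
    congrArg (fun z : ↥M24 => (z : Equiv.Perm GolayPt) p) hg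
  set G := (g : Equiv.Perm GolayPt) with hG
  set U := (uB : Equiv.Perm GolayPt) with hU
  have key : ∀ p, G (G (G (G p))) = p := by
    intro p
    have hatom := atom_check
    simp only [List.all_eq_true, Bool.or_eq_true, Bool.not_eq_true', beq_iff_eq] at hatom
    rcases hatom (idx p) (mem_pts.2 (idx_lt p)) (idx (G p)) (mem_pts.2 (idx_lt _)) with ((h | h) | h) | h
    · rw [ha p] at h; exact absurd h (by simp)
    · have e : G p = p := idx_inj h
      rw [e, e, e, e]
    · have e : G p = U p := idx_inj (by rw [h, idx_uB])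
      have e2 : G (G p) = p := by rw [e, hcomm, e, hu]
      rw [e2, e2]
    · rcases h (idx (G (G p))) (mem_pts.2 (idx_lt _)) with (((h1 | h1) | h1) | h1) | h1
      · rw [ha (G p)] at h1; exact absurd h1 (by simp)
      · have e : G (G p) = p := idx_inj h1
        rw [e, e]
      · have e : G p = p := G.injective (idx_inj h1)
        rw [e, e, e, e]
      · have e : G (G p) = U p := idx_inj (by rw [h1, idx_uB])
        rw [e, hcomm, hcomm, e, hu]
      · have e : G p = U p := G.injective (by
          rw [hcomm p]; exact idx_inj (by rw [h1, idx_uB]))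
        have e2 : G (G p) = p := by rw [e, hcomm, e, hu]
        rw [e2, e2]
  refine Subtype.ext (Equiv.ext fun p => ?_)
  rw [show g ^ 4 = g * g * g * g by simp [pow_succ], Subgroup.coe_mul, Subgroup.coe_mul, Subgroup.coe_mul]
  exact key p

theorem localTwo_uB : GolayOneBlock.LocalTwo uB := by
  obtain ⟨hio, hio2, -, -⟩ := io_check
  obtain ⟨hsep, hsepA, hsepO⟩ := sep_check
  have hio2' : ∀ m ∈ invOctads, m < 2 ^ 24 ∧ pmask pZ2 m = m ∧ inCode m = true ∧ wt m = 8 := fun m hm => by
    have := List.all_eq_true.1 hio2 m hm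
    simp only [Bool.and_eq_true, beq_iff_eq, decide_eq_true_eq] at this
    exact ⟨this.1.1.1, this.1.1.2, this.1.2, this.2⟩
  refine ⟨kerB, inf_le_left, ?_, ?_, ?_⟩
  · intro a
    refine ⟨2, ?_⟩
    obtain ⟨ha1, ha2⟩ := mem_kerB.1 a.2
    refine Subtype.ext ?_
    rw [SubmonoidClass.coe_pow]
    refine pow_four_eq_one ha1 fun p => ?_
    by_contra hne
    have h := List.all_eq_true.1 (List.all_eq_true.1 hsepO _ (mem_pts.2 (idx_lt p))) _
      (mem_pts.2 (idx_lt ((a.1 : Equiv.Perm GolayPt) p)))
    rw [Bool.not_eq_true] at hne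
    simp only [hne, Bool.false_or, List.any_eq_true, bne_iff_ne] at h
    obtain ⟨m, hm, hbit⟩ := h
    apply hbit
    rw [Bool.eq_iff_iff, ← mem_mset, ← mem_mset]
    constructor
    · intro h; rw [← ha2 m hm]; exact Finset.mem_smul_finset.2 ⟨p, h, rfl⟩
    · intro h
      rw [← ha2 m hm, ← Equiv.Perm.smul_def, Finset.smul_mem_smul_finset_iff] at h
      exact h
  · intro g hg v hv
    obtain ⟨hv1, hv2⟩ := mem_kerB.1 hv
    have hg' : g⁻¹ * uB = uB * g⁻¹ := (Commute.inv_left (show Commute g uB from hg)).eq
    refine mem_kerB.2 ⟨?_, fun m hm => ?_⟩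
    · exact (((show Commute g uB from hg).mul_left (show Commute v uB from hv1)).mul_left
        (show Commute g⁻¹ uB from hg')).eq
    · have ho : mset m ∈ octads := (mset_mem_octads (hio2' m hm).1).2 ⟨(hio2' m hm).2.2.1, (hio2' m hm).2.2.2⟩
      obtain ⟨x, hx, hxo⟩ := mem_wordsOfWeight.1 (smul_mem_octads (inv_mem g.2) ho)
      have hfix : (uB : Equiv.Perm GolayPt) • mset m = mset m := by
        show permOf pZ2 • mset m = _
        rw [smul_mset (valid_of_good io_check.2.2.1), (hio2' m hm).2.1]
      have hx' : (uB : Equiv.Perm GolayPt) • mset (enc x) = mset (enc x) := by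
        have e := congrArg (fun z : ↥M24 => (z : Equiv.Perm GolayPt) • mset m) hg'
        simp only [Subgroup.coe_mul, Subgroup.coe_inv, mul_smul, hfix] at e
        rw [hxo]; exact e.symm
      have hx4 : x < 4096 := List.mem_range.1 (List.mem_filter.1 hx).1
      have hv' := valid_of_good io_check.2.2.1
      have hmask : pmask pZ2 (enc x) = enc x := by
        refine mset_inj ?_ (enc_lt hx4) (by rw [← smul_mset hv']; exact hx')
        apply Nat.lt_pow_two_of_testBit
        intro j hj
        by_contra hbit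
        rw [Bool.not_eq_false, testBit_pmask] at hbit
        obtain ⟨i, hi, -, rfl⟩ := hbit
        have := pimg_lt hv' hi
        omega
      have hin := List.all_eq_true.1 hio x hx
      simp only [hmask, bne_self_eq_false, Bool.false_or, List.elem_iff] at hin
      rw [Subgroup.coe_mul, Subgroup.coe_mul, mul_smul, mul_smul, Subgroup.coe_inv, ← hxo,
        hv2 _ hin, hxo, smul_inv_smul]
  · intro g hg hgv
    refine ⟨2, pow_four_eq_one hg fun p => ?_⟩
    by_contra hne
    have h := List.all_eq_true.1 (List.all_eq_true.1 hsepA _ (mem_pts.2 (idx_lt p))) _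
      (mem_pts.2 (idx_lt ((g : Equiv.Perm GolayPt) p)))
    rw [Bool.not_eq_true] at hne
    simp only [hne, Bool.false_or, List.any_eq_true, bne_iff_ne] at h
    obtain ⟨k, hk, hkne⟩ := h
    have hkc := List.all_eq_true.1 hsep k hk
    simp only [Bool.and_eq_true, List.all_eq_true, beq_iff_eq] at hkc
    obtain ⟨⟨hkg, hkw⟩, hko⟩ := hkc
    have hkv := valid_of_good hkg
    have hkmem : (⟨permOf k, permOf_mem_M24 hkg⟩ : ↥M24) ∈ kerB := by
      refine mem_kerB.2 ⟨Subtype.ext ?_, fun m hm => ?_⟩
      · show permOf k * permOf pZ2 = permOf pZ2 * permOf k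
        have := prod_eq_of_sameWord (l := [k, pZ2]) (l' := [pZ2, k])
          (by simp [hkv, valid_of_good io_check.2.2.1]) (by simp [hkv, valid_of_good io_check.2.2.1]) hkw
        simpa using this
      · show permOf k • mset m = _
        rw [smul_mset hkv, hko m hm]
    have e := congrArg (fun z : ↥M24 => (z : Equiv.Perm GolayPt) p) (hgv _ hkmem)
    simp only [Subgroup.coe_mul, Equiv.Perm.mul_apply] at e
    apply hkne
    rw [Bool.eq_iff_iff, beq_iff_eq, beq_iff_eq, ← idx_permOf hkv, ← idx_permOf hkv]
    constructor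
    · intro h; rw [← e, idx_inj h]
    · intro h
      rw [(g : Equiv.Perm GolayPt).injective (e.trans (idx_inj h))]

theorem localTwo (u : ↥M24) (hu : orderOf u = 2) : GolayOneBlock.LocalTwo u := by
  have hu1 : u ≠ 1 := fun e => by rw [e, orderOf_one] at hu; omega
  have hord : orderOf (u : Equiv.Perm GolayPt) = 2 := by rw [Subgroup.orderOf_coe, hu]
  have h2 : (u : Equiv.Perm GolayPt) * u = 1 := by rw [← sq, ← hord]; exact pow_orderOf_eq_one _
  obtain ⟨k, hk, h | h⟩ := GolayInvolutions.exists_conj_rep u.2 h2 (fun e => hu1 (Subtype.ext e))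
  · rcases GolayInvolutions.classification.1 _ u.2 hord with ho | hfree
    · exact GolayBlockClass.localTwo_octad le_M24 ho (fun v _ => v.2)
        (by rw [show Subgroup.inclusion le_M24 u = u from Subtype.ext rfl]
            exact GolayOctadStab.mem_pfix_of_filter rfl) hu1
    · exfalso
      have hp : pt 23 ∈ GolayOctadStab.O0 := by decide +kernel
      rw [← GolayInvolutions.fix_pZ1, Finset.mem_filter] at hp
      exact (GolayInvolutions.kind_of_conj h).1 hfree _ hp.2
  · have e : u = (⟨k, hk⟩ : ↥M24)⁻¹ * uB * (⟨k, hk⟩ : ↥M24)⁻¹⁻¹ := by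
      refine Subtype.ext ?_
      simp only [Subgroup.coe_mul, Subgroup.coe_inv, inv_inv]
      rw [show (uB : Equiv.Perm GolayPt) = permOf pZ2 from rfl, ← h]
      group
    rw [e]
    exact GolayOneBlock.localTwo_conj _ localTwo_uB

end Cfsg.Agent.GolayBlockM24Local
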