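import Mathlib
import Cfsg.Agent.Lib.GolayPerm

/-!
Code membership of an encoded permutation through primitive operations on naturals, for cheap
evaluation by the kernel.
-/

set_option autoImplicit false

namespace Cfsg.Agent.GolayFast

open Cfsg.Agent.GolayBasic Cfsg.Agent.GolayPerm

/-- image of a point -/
def imgF (P i : ℕ) : ℕ := Nat.land (Nat.shiftRight P (Nat.mul 5 i)) 31

/-- image of a mask over listed points -/
def pmaskF (P m : ℕ) (l : List ℕ) : ℕ :=
  List.rec (motive := fun _ => ℕ) 0
    (fun i _ r => Nat.lor (Nat.shiftLeft (Nat.land (Nat.shiftRight m i) 1) (imgF P i)) r) l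

/-- combination of listed rows selected by bits -/
def comboF (l : List ℕ) : ℕ → ℕ :=
  List.rec (motive := fun _ => ℕ → ℕ) (fun _ => 0)
    (fun b _ r x => Nat.xor (Nat.mul (Nat.land x 1) b) (r (Nat.shiftRight x 1))) l

/-- membership of a word in the code -/
def inCodeF (m : ℕ) : Bool := Nat.beq (comboF basisRows (Nat.land m 4095)) m

/-- fast membership test of an encoded permutation -/
def goodF (P : ℕ) : Bool :=
  ((pts.all fun i => Nat.ble (Nat.succ (imgF P i)) 24) &&
      Nat.beq (pmaskF P 16777215 pts) 16777215) &&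
    basisRows.all fun b => inCodeF (pmaskF P b pts)

theorem pmaskF_eq (P m : ℕ) : ∀ l : List ℕ, pmaskF P m l = pmaskAux P m l
  | [] => rfl
  | i :: l => by
    rw [pmaskAux, ← pmaskF_eq P m l]
    rfl

theorem comboF_eq : ∀ (l : List ℕ) (x : ℕ), comboF l x = combo l x
  | [], _ => rfl
  | b :: l, x => by
    rw [combo, ← comboF_eq l]
    rfl

theorem beq_prim (x y : ℕ) : Nat.beq x y = (x == y) :=
  Bool.eq_iff_iff.2 ⟨fun e => by simp [Nat.eq_of_beq_eq_true e],
    fun e => by rw [eq_of_beq e]; exact Nat.beq_refl _⟩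

theorem goodF_eq (P : ℕ) : goodF P = good P := by
  have h1 : ∀ i, Nat.ble (Nat.succ (imgF P i)) 24 = decide (pimg P i < 24) := fun i =>
    Bool.eq_iff_iff.2 (by rw [Nat.ble_eq, decide_eq_true_eq]; exact Iff.rfl)
  have h2 : ∀ m, inCodeF m = inCode m := fun m => by
    rw [inCodeF, inCode, enc, beq_prim, comboF_eq]
    rfl
  simp only [goodF, good, valid, pmask, h1, h2, pmaskF_eq, beq_prim]

end Cfsg.Agent.GolayFast
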