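import Mathlib
import Cfsg.Agent.Lib.GolayBlockClass
import Cfsg.Agent.Lib.GolayBlockM24Local
import Cfsg.Agent.Lib.GolayBlockDataM24
import Cfsg.Agent.Lib.GolayFast

/-!
The Mathieu group M24 has a single block for the prime two.
-/

set_option autoImplicit false
set_option maxHeartbeats 4000000

namespace Cfsg.Agent.GolayBlockM24

open Cfsg Cfsg.Agent.GolayBasic Cfsg.Agent.GolayPerm Cfsg.Agent.GolayChain Cfsg.Agent.GolaySolve
open Cfsg.Agent.GolayOutTool Cfsg.Agent.GolayBlockTools Cfsg.Agent.GolayBlockClass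
open scoped Pointwise

/-- the group -/
abbrev H : Subgroup (Equiv.Perm GolayPt) := M24

/-- membership test -/
def mc : ℕ → Bool := GolayFast.goodF

/-- the representatives -/
def R : List ℕ := GolayBlockDataM24.pR0 :: GolayBlockDataM24.rs ++ GolayBlockDataM24.rsInv

theorem mc_sound : Sound H mc := fun P h => GolayBlockM24Local.sound P (GolayFast.goodF_eq P ▸ h)

theorem card_H : Nat.card H = 244823040 := GolayM24.card_M24

theorem cent5_ok : chainCheck [] GolayBlockDataM24.lv5 = true ∧ (elts GolayBlockDataM24.lv5).all mc = true ∧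
    size GolayBlockDataM24.lv5 = 244823040 ∧ mc GolayBlockDataM24.x5 = true ∧ primeOrd [GolayBlockDataM24.x5] 5 = true ∧
    msolve GolayBlockDataM24.lv5 GolayBlockDataM24.x5 GolayBlockDataM24.x5 GolayBlockDataM24.base5 (GolayBlockDataM24.cent5.map Prod.fst) = true ∧
    GolayBlockDataM24.cent5.all (centCert mc R) = true := by decide +kernel

theorem fine5 {h : H} (hd : 5 ∣ orderOf h) : Fine H R h := by
  obtain ⟨hc, hH, hs, hx, hord, hsol, hcl⟩ := cent5_ok
  refine fine_of_dvd (p := 5) (m := 48964608) (by norm_num) (by rw [card_H]) (by norm_num)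
    (x := el H GolayBlockDataM24.x5) ?_ (fun g hg => fine_of_commute mc_sound hc hH (by rw [card_H, hs]) hx hsol hcl hg) hd
  have := (primeOrd_iff mc_sound (w := [GolayBlockDataM24.x5]) (by simp [hx]) (p := 5) (by norm_num)).2 hord
  simpa using this

theorem cent7_ok : chainCheck [] GolayBlockDataM24.lv7 = true ∧ (elts GolayBlockDataM24.lv7).all mc = true ∧
    size GolayBlockDataM24.lv7 = 244823040 ∧ mc GolayBlockDataM24.x7 = true ∧ primeOrd [GolayBlockDataM24.x7] 7 = true ∧
    msolve GolayBlockDataM24.lv7 GolayBlockDataM24.x7 GolayBlockDataM24.x7 GolayBlockDataM24.base7 (GolayBlockDataM24.cent7.map Prod.fst) = true ∧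
    GolayBlockDataM24.cent7.all (centCert mc R) = true := by decide +kernel

theorem fine7 {h : H} (hd : 7 ∣ orderOf h) : Fine H R h := by
  obtain ⟨hc, hH, hs, hx, hord, hsol, hcl⟩ := cent7_ok
  refine fine_of_dvd (p := 7) (m := 34974720) (by norm_num) (by rw [card_H]) (by norm_num)
    (x := el H GolayBlockDataM24.x7) ?_ (fun g hg => fine_of_commute mc_sound hc hH (by rw [card_H, hs]) hx hsol hcl hg) hd
  have := (primeOrd_iff mc_sound (w := [GolayBlockDataM24.x7]) (by simp [hx]) (p := 7) (by norm_num)).2 hord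
  simpa using this

theorem cent11_ok : chainCheck [] GolayBlockDataM24.lv11 = true ∧ (elts GolayBlockDataM24.lv11).all mc = true ∧
    size GolayBlockDataM24.lv11 = 244823040 ∧ mc GolayBlockDataM24.x11 = true ∧ primeOrd [GolayBlockDataM24.x11] 11 = true ∧
    msolve GolayBlockDataM24.lv11 GolayBlockDataM24.x11 GolayBlockDataM24.x11 GolayBlockDataM24.base11 (GolayBlockDataM24.cent11.map Prod.fst) = true ∧
    GolayBlockDataM24.cent11.all (centCert mc R) = true := by decide +kernel

theorem fine11 {h : H} (hd : 11 ∣ orderOf h) : Fine H R h := by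
  obtain ⟨hc, hH, hs, hx, hord, hsol, hcl⟩ := cent11_ok
  refine fine_of_dvd (p := 11) (m := 22256640) (by norm_num) (by rw [card_H]) (by norm_num)
    (x := el H GolayBlockDataM24.x11) ?_ (fun g hg => fine_of_commute mc_sound hc hH (by rw [card_H, hs]) hx hsol hcl hg) hd
  have := (primeOrd_iff mc_sound (w := [GolayBlockDataM24.x11]) (by simp [hx]) (p := 11) (by norm_num)).2 hord
  simpa using this

theorem cent23_ok : chainCheck [] GolayBlockDataM24.lv23 = true ∧ (elts GolayBlockDataM24.lv23).all mc = true ∧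
    size GolayBlockDataM24.lv23 = 244823040 ∧ mc GolayBlockDataM24.x23 = true ∧ primeOrd [GolayBlockDataM24.x23] 23 = true ∧
    msolve GolayBlockDataM24.lv23 GolayBlockDataM24.x23 GolayBlockDataM24.x23 GolayBlockDataM24.base23 (GolayBlockDataM24.cent23.map Prod.fst) = true ∧
    GolayBlockDataM24.cent23.all (centCert mc R) = true := by decide +kernel

theorem fine23 {h : H} (hd : 23 ∣ orderOf h) : Fine H R h := by
  obtain ⟨hc, hH, hs, hx, hord, hsol, hcl⟩ := cent23_ok
  refine fine_of_dvd (p := 23) (m := 10644480) (by norm_num) (by rw [card_H]) (by norm_num)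
    (x := el H GolayBlockDataM24.x23) ?_ (fun g hg => fine_of_commute mc_sound hc hH (by rw [card_H, hs]) hx hsol hcl hg) hd
  have := (primeOrd_iff mc_sound (w := [GolayBlockDataM24.x23]) (by simp [hx]) (p := 23) (by norm_num)).2 hord
  simpa using this

theorem three_ok : GolayBlockDataM24.syl.all (fun q => invCert mc q.1 q.2) = true ∧
    (GolayBlockDataM24.syl.map Prod.fst).any (fun P => isId [P]) = true ∧
    (GolayBlockDataM24.syl.map Prod.fst).all
      (fun a => (GolayBlockDataM24.syl.map Prod.fst).all fun b => (GolayBlockDataM24.syl.map Prod.fst).any fun c => sameWord [a, b] [c]) = true ∧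
    GolayBlockDataM24.syl.length = 3 ^ 3 ∧
    (GolayBlockDataM24.syl.map Prod.fst).Pairwise (fun a b => sameWord [a] [b] = false) := by decide +kernel

theorem fine (h : H) : Fine H R h := by
  haveI : Finite H := Subtype.finite
  by_cases h2 : 2 ∣ orderOf h
  · exact fine_of_even h2
  by_cases h5 : 5 ∣ orderOf h
  · exact fine5 h5
  by_cases h7 : 7 ∣ orderOf h
  · exact fine7 h7
  by_cases h11 : 11 ∣ orderOf h
  · exact fine11 h11
  by_cases h23 : 23 ∣ orderOf h
  · exact fine23 h23
  have hps : ∀ q, q.Prime → q ∣ 244823040 → q = 2 ∨ q = 3 ∨ q ∈ ([5, 7, 11, 23] : List ℕ) := by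
    intro q hq hd
    have : q ∈ Nat.primeFactors 244823040 := Nat.mem_primeFactors.2 ⟨hq, hd, by norm_num⟩
    rw [GolayBlockM24Local.primeFactors_card] at this
    simpa using this
  obtain ⟨j, hj⟩ := exists_three_pow (n := orderOf h) (N := 244823040) (ps := [5, 7, 11, 23])
    (card_H ▸ orderOf_dvd_natCard h) (by norm_num) hps h2
    (by intro q hq; simp only [List.mem_cons, List.not_mem_nil, or_false] at hq
        rcases hq with rfl | rfl | rfl | rfl <;> assumption)
  obtain ⟨a, b, c, d, e⟩ := three_ok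
  exact fine_of_three mc_sound (k := 3) (m := 9067520) (by rw [card_H]; norm_num) (by norm_num) d a b c e hj

theorem not_inv15 : ¬ IsConj (el H GolayBlockDataM24.x15) (el H (GolayBlockDataM24.rsInv.getD 0 0)) := by
  have h : chainCheck [] GolayBlockDataM24.lv15 = true ∧ (elts GolayBlockDataM24.lv15).all mc = true ∧
      size GolayBlockDataM24.lv15 = 244823040 ∧ mc GolayBlockDataM24.x15 = true ∧ mc (GolayBlockDataM24.rsInv.getD 0 0) = true ∧
      msolve GolayBlockDataM24.lv15 GolayBlockDataM24.x15 (GolayBlockDataM24.rsInv.getD 0 0) GolayBlockDataM24.base15 [] = true := by decide +kernel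
  exact not_isConj_of_msolve mc_sound h.1 h.2.1 (by rw [card_H, h.2.2.1]) h.2.2.2.1 h.2.2.2.2.1 h.2.2.2.2.2

theorem not_inv21 : ¬ IsConj (el H GolayBlockDataM24.x21) (el H (GolayBlockDataM24.rsInv.getD 1 0)) := by
  have h : chainCheck [] GolayBlockDataM24.lv21 = true ∧ (elts GolayBlockDataM24.lv21).all mc = true ∧
      size GolayBlockDataM24.lv21 = 244823040 ∧ mc GolayBlockDataM24.x21 = true ∧ mc (GolayBlockDataM24.rsInv.getD 1 0) = true ∧
      msolve GolayBlockDataM24.lv21 GolayBlockDataM24.x21 (GolayBlockDataM24.rsInv.getD 1 0) GolayBlockDataM24.base21 [] = true := by decide +kernel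
  exact not_isConj_of_msolve mc_sound h.1 h.2.1 (by rw [card_H, h.2.2.1]) h.2.2.2.1 h.2.2.2.2.1 h.2.2.2.2.2

theorem not_inv23 : ¬ IsConj (el H GolayBlockDataM24.x23) (el H (GolayBlockDataM24.rsInv.getD 2 0)) := by
  have h : chainCheck [] GolayBlockDataM24.lv23 = true ∧ (elts GolayBlockDataM24.lv23).all mc = true ∧
      size GolayBlockDataM24.lv23 = 244823040 ∧ mc GolayBlockDataM24.x23 = true ∧ mc (GolayBlockDataM24.rsInv.getD 2 0) = true ∧
      msolve GolayBlockDataM24.lv23 GolayBlockDataM24.x23 (GolayBlockDataM24.rsInv.getD 2 0) GolayBlockDataM24.base23 [] = true := by decide +kernel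
  exact not_isConj_of_msolve mc_sound h.1 h.2.1 (by rw [card_H, h.2.2.1]) h.2.2.2.1 h.2.2.2.2.1 h.2.2.2.2.2

theorem powConj_ok : GolayBlockDataM24.powConj.length = 11 - 1 ∧ mc GolayBlockDataM24.pR0 = true ∧
    primeOrd [GolayBlockDataM24.pR0] 11 = true ∧
    ((List.range (11 - 1)).all fun i => mc (GolayBlockDataM24.powConj.getD i 0) &&
      sameWord (GolayBlockDataM24.powConj.getD i 0 :: List.replicate (i + 1) GolayBlockDataM24.pR0) [GolayBlockDataM24.pR0, GolayBlockDataM24.powConj.getD i 0]) = true := by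
  decide +kernel

theorem order_iff (z : H) : IsConj (el H GolayBlockDataM24.pR0) z ↔ orderOf z = 11 := by
  obtain ⟨a, b, c, d⟩ := powConj_ok
  refine isConj_iff_order mc_sound (p := 11) (m := 22256640) (by norm_num) (by rw [card_H])
    (by norm_num) b ?_ a d z
  have := (primeOrd_iff mc_sound (w := [GolayBlockDataM24.pR0]) (by simp [b]) (p := 11) (by norm_num)).2 c
  simpa using this

theorem class_ok : classOK mc GolayBlockDataM24.pK [] GolayBlockDataM24.transversal GolayBlockDataM24.fixers = true := by decide +kernel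

theorem count_odd : countOrd GolayBlockDataM24.transversal GolayBlockDataM24.fixers
    GolayBlockDataM24.pR0 11 % 2 = 1 := by decide +kernel

theorem count0 : countOrd GolayBlockDataM24.transversal GolayBlockDataM24.fixers
    (GolayBlockDataM24.rs.getD 0 0) 11 % 2 = 0 := by decide +kernel

theorem count1 : countOrd GolayBlockDataM24.transversal GolayBlockDataM24.fixers
    (GolayBlockDataM24.rs.getD 1 0) 11 % 2 = 0 := by decide +kernel

theorem count2 : countOrd GolayBlockDataM24.transversal GolayBlockDataM24.fixers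
    (GolayBlockDataM24.rs.getD 2 0) 11 % 2 = 0 := by decide +kernel

theorem reps_ok : (GolayBlockDataM24.pR0 :: GolayBlockDataM24.rs ++ GolayBlockDataM24.rsInv).all mc = true ∧
    (GolayBlockDataM24.rs.zip GolayBlockDataM24.rsInv).all (fun q => isId [q.1, q.2]) = true ∧
    GolayBlockDataM24.rsInv.length = GolayBlockDataM24.rs.length ∧ GolayBlockDataM24.pR0 = GolayBlockDataM24.x11 ∧
    GolayBlockDataM24.rs = [GolayBlockDataM24.x15, GolayBlockDataM24.x21, GolayBlockDataM24.x23] ∧
    (GolayBlockDataM24.pR0 :: GolayBlockDataM24.rs ++ GolayBlockDataM24.rsInv).Pairwise (fun a b => pairOK [11, 15, 21, 23]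
      [(GolayBlockDataM24.x15, GolayBlockDataM24.rsInv.getD 0 0), (GolayBlockDataM24.x21, GolayBlockDataM24.rsInv.getD 1 0), (GolayBlockDataM24.x23, GolayBlockDataM24.rsInv.getD 2 0)] a b = true) ∧
    (GolayBlockDataM24.cent11.all fun q => mc q.1 && (!isId [q.1, q.1] || isId [q.1])) = true := by decide +kernel

theorem centraliser_odd (u : H) (hu : orderOf u = 2) :
    u * el H GolayBlockDataM24.pR0 ≠ el H GolayBlockDataM24.pR0 * u := by
  intro h
  obtain ⟨hc, hH, hs, hx, -, hsol, -⟩ := cent11_ok
  obtain ⟨-, -, -, he, -, -, hodd⟩ := reps_ok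
  rw [he] at h
  have h' := congrArg Subtype.val h
  simp only [Subgroup.coe_mul, coe_el mc_sound hx] at h'
  obtain ⟨s, hs', hus⟩ := exists_msol hc (fun T hT => (mc_sound T (List.all_eq_true.1 hH T hT)).2)
    (by rw [card_H, hs]) hsol u.2 h'
  obtain ⟨q, hq, rfl⟩ := List.mem_map.1 hs'
  have hq' := List.all_eq_true.1 hodd q hq
  simp only [Bool.and_eq_true, Bool.or_eq_true, Bool.not_eq_true'] at hq'
  have e : u = el H q.1 := Subtype.ext (by rw [hus, coe_el mc_sound hq'.1])
  have h2 : isId [q.1, q.1] = true := by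
    rw [← el_word_one mc_sound (l := [q.1, q.1]) (by simp [hq'.1])]
    simp only [List.map_cons, List.map_nil, List.prod_cons, List.prod_nil, mul_one, ← e, ← sq]
    rw [← hu]; exact pow_orderOf_eq_one u
  rcases hq'.2 with h3 | h3
  · rw [h2] at h3; exact absurd h3 (by simp)
  · have := (el_word_one mc_sound (l := [q.1]) (by simp [hq'.1])).2 h3
    simp only [List.map_cons, List.map_nil, List.prod_cons, List.prod_nil, mul_one, ← e] at this
    rw [this, orderOf_one] at hu
    omega

theorem one_block (M : Ideal AlgInt) (hM : IsPModular 2 M) (χ ψ : IrrCharacter H) :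
    SameBlock M (χ : H → ℂ) (ψ : H → ℂ) := by
  obtain ⟨hR, hinv, hlen, -, hrs, hpair, -⟩ := reps_ok
  refine one_block_of_data GolayBlockM24Local.le_M24 mc_sound (p := 11) (by norm_num) class_ok
    GolayBlockM24Local.fixed hR hinv hlen order_iff GolayBlockM24Local.localTwo fine hpair ?_
    centraliser_odd count_odd ?_ M hM χ ψ
  · intro q hq
    simp only [List.mem_cons, List.not_mem_nil, or_false] at hq
    rcases hq with rfl | rfl | rfl
    · exact not_inv15
    · exact not_inv21
    · exact not_inv23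
  · intro r hr
    obtain ⟨i, hi, rfl⟩ := List.mem_iff_getElem.1 hr
    rw [← List.getD_eq_getElem (d := 0)]
    have hl : i < 3 := by
      have := hi
      simp only [hrs, List.length_cons, List.length_nil] at this
      omega
    interval_cases i
    · exact count0
    · exact count1
    · exact count2

end Cfsg.Agent.GolayBlockM24
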