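import Cfsg.Agent.Lib.GolayOrbitThms

/-!
Counting octads, dodecads, trios and sextets with a property on the complete lists of masks.
-/

set_option autoImplicit false

namespace Cfsg.Agent.GolayCount

open Cfsg Cfsg.Agent.GolayBasic Cfsg.Agent.GolayPerm Cfsg.Agent.GolayOrbit Cfsg.Agent.GolayOrbitData
  Cfsg.Agent.GolayTrioSextet Cfsg.Agent.GolayOrbitThms
open scoped Pointwise

theorem ncard_wordsOfWeight_filter (n : ℕ) (P : Finset GolayPt → Prop) (p : ℕ → Bool)
    (h : ∀ x ∈ ofWeight n, (p (enc x) = true ↔ P (mset (enc x)))) :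
    {s : Finset GolayPt | s ∈ wordsOfWeight (golayCode : Set (GolayPt → ZMod 2)) n ∧ P s}.ncard =
      ((ofWeight n).filter fun x => p (enc x)).length := by
  have e : {s : Finset GolayPt | s ∈ wordsOfWeight (golayCode : Set (GolayPt → ZMod 2)) n ∧ P s} =
      ((((ofWeight n).filter fun x => p (enc x)).map fun x => mset (enc x)).toFinset :
        Set (Finset GolayPt)) := by
    ext s
    simp only [Set.mem_ofPred_eq, mem_wordsOfWeight, Finset.mem_coe, List.mem_toFinset, List.mem_map,
      List.mem_filter]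
    constructor
    · rintro ⟨⟨x, hx, rfl⟩, hP⟩; exact ⟨x, ⟨hx, (h x hx).2 hP⟩, rfl⟩
    · rintro ⟨x, ⟨hx, hp⟩, rfl⟩; exact ⟨⟨x, hx, rfl⟩, (h x hx).1 hp⟩
  rw [e, Set.ncard_coe_finset, List.toFinset_card_of_nodup, List.length_map]
  refine List.Nodup.map_on (fun x hx y hy he => ?_) ((List.nodup_range.filter _).filter _)
  exact injOn_mset_enc (List.mem_range.1 (List.mem_filter.1 (List.mem_filter.1 hx).1).1)
    (List.mem_range.1 (List.mem_filter.1 (List.mem_filter.1 hy).1).1) he

theorem ncard_octads_filter (P : Finset GolayPt → Prop) (p : ℕ → Bool)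
    (h : ∀ x ∈ ofWeight 8, (p (enc x) = true ↔ P (mset (enc x)))) :
    {s : Finset GolayPt | s ∈ octads ∧ P s}.ncard = ((ofWeight 8).filter fun x => p (enc x)).length :=
  ncard_wordsOfWeight_filter 8 P p h

theorem ncard_dodecads_filter (P : Finset GolayPt → Prop) (p : ℕ → Bool)
    (h : ∀ x ∈ ofWeight 12, (p (enc x) = true ↔ P (mset (enc x)))) :
    {s : Finset GolayPt | s ∈ dodecads ∧ P s}.ncard =
      ((ofWeight 12).filter fun x => p (enc x)).length :=
  ncard_wordsOfWeight_filter 12 P p h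

/-- a complete list for a set of coded families -/
structure Listing (U : Set (Finset (Finset GolayPt))) (L : List (List ℕ)) : Prop where
  mem : ∀ X, X ∈ U ↔ ∃ Y ∈ L, fam Y = X
  ok : ∀ Y ∈ L, ok Y = true
  nodup : L.Nodup

theorem listing_of_check {B : List ℕ} {gens : List (ℕ × ℕ)} {H : ℕ × ℕ × ℕ}
    {parts : List (List ℕ × List (List ℕ))} {N : ℕ} {sizes : List ℕ}
    (hc : check B gens H parts N sizes = true) {U : Set (Finset (Finset GolayPt))}
    (hinv : ∀ g ∈ M24, g • fam B = fam B → ∀ X ∈ U, g • X ∈ U) (hroot : ∀ p ∈ parts, fam p.1 ∈ U)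
    (hN : U.ncard ≤ N) : Listing U (allOrbs gens parts) := by
  refine ⟨(orbits_of_check hc hinv hroot hN).1, ?_, ?_⟩
  · simp only [check, Bool.and_eq_true, List.all_eq_true] at hc
    intro Y hY
    obtain ⟨l, hl, hYl⟩ := List.mem_flatten.1 hY
    obtain ⟨p, hp, rfl⟩ := List.mem_map.1 hl
    refine (orb_mem_orbit hc.1.1.1.1.1.2 (fam p.1) (fun X hX => ?_) Y hYl).1
    rw [List.mem_singleton] at hX
    subst hX
    exact ⟨hc.1.1.1.1.2 p hp, MulAction.mem_orbit_self _⟩
  · simp only [check, Bool.and_eq_true] at hc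
    exact (nodup_of_distinct _ _ _ hc.1.1.1.2).1

theorem trios_listing : Listing trios (allOrbs trioAllGens trioAllParts) :=
  listing_of_check GolayOrbitCertA.trioAll_check (fun g hg _ X hX => smul_mem_trios hg hX)
    (fun p hp => trio_of_chk (allChk trioChk _ (by decide +kernel) p hp)) ncard_trios_le

theorem sextets_listing : Listing sextets (allOrbs sextetAllGens sextetAllParts) :=
  listing_of_check GolayOrbitCertA.sextetAll_check (fun g hg _ X hX => smul_mem_sextets hg hX)
    (fun p hp => sextet_of_chk (allChk sextetChk _ (by decide +kernel) p hp)) ncard_sextets_le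

theorem Listing.ncard_filter {U : Set (Finset (Finset GolayPt))} {L : List (List ℕ)}
    (h : Listing U L) (P : Finset (Finset GolayPt) → Prop) (p : List ℕ → Bool)
    (hp : ∀ Y, GolayOrbit.ok Y = true → (p Y = true ↔ P (fam Y))) :
    {X | X ∈ U ∧ P X}.ncard = (L.filter p).length := by
  have e : {X | X ∈ U ∧ P X} = (((L.filter p).map fam).toFinset : Set _) := by
    ext X
    simp only [Set.mem_ofPred_eq, h.mem, Finset.mem_coe, List.mem_toFinset, List.mem_map,
      List.mem_filter]
    constructor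
    · rintro ⟨⟨Y, hY, rfl⟩, hP⟩; exact ⟨Y, ⟨hY, (hp Y (h.ok Y hY)).2 hP⟩, rfl⟩
    · rintro ⟨Y, ⟨hY, hpY⟩, rfl⟩; exact ⟨⟨Y, hY, rfl⟩, (hp Y (h.ok Y hY)).1 hpY⟩
  rw [e, Set.ncard_coe_finset, List.toFinset_card_of_nodup, List.length_map]
  refine List.Nodup.map_on (fun a ha b hb he => ?_) (h.nodup.filter _)
  exact fam_inj (h.ok a (List.mem_filter.1 ha).1) (h.ok b (List.mem_filter.1 hb).1) he

/-- transporting a count along a symmetry -/
theorem ncard_smul {α : Type*} [MulAction ↥M24 α] {U : Set α}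
    (hinv : ∀ g : ↥M24, ∀ X ∈ U, g • X ∈ U) (g : ↥M24) {P Q : α → Prop}
    (hPQ : ∀ X, P (g • X) ↔ Q X) : {X | X ∈ U ∧ P X}.ncard = {X | X ∈ U ∧ Q X}.ncard := by
  rw [← Set.ncard_image_of_injective {X | X ∈ U ∧ Q X} (MulAction.injective g)]
  congr 1
  ext X
  constructor
  · rintro ⟨hX, hP⟩
    exact ⟨g⁻¹ • X, ⟨hinv _ X hX, (hPQ _).1 (by rwa [smul_inv_smul])⟩, smul_inv_smul g X⟩
  · rintro ⟨Y, ⟨hY, hQ⟩, rfl⟩
    exact ⟨hinv g Y hY, (hPQ Y).2 hQ⟩

/-- an orbit is a level set of a separating invariant -/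
theorem orbit_eq_level {α γ : Type*} [MulAction ↥M24 α] {H : Subgroup ↥M24} {U : Set α}
    (f : α → γ) (hf : ∀ g : ↥H, ∀ X, f (g • X) = f X) (hU : ∀ g : ↥M24, ∀ X ∈ U, g • X ∈ U)
    (hsep : ∀ X ∈ U, ∀ Y ∈ U, f X = f Y → ∃ g : ↥H, g • X = Y) {X : α} (hX : X ∈ U) :
    MulAction.orbit ↥H X = {Y | Y ∈ U ∧ f Y = f X} := by
  ext Y
  constructor
  · rintro ⟨g, rfl⟩
    exact ⟨hU _ X hX, hf g X⟩
  · rintro ⟨hY, e⟩
    exact MulAction.mem_orbit_iff.2 (hsep X hX Y hY e.symm)

theorem card_inter_smul (g : ↥M24) (s t : Finset GolayPt) :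
    (g • s ∩ g • t).card = (s ∩ t).card := by
  rw [← Finset.smul_finset_inter]
  exact Finset.card_smul_finset (g : Equiv.Perm GolayPt) (s ∩ t)

theorem inter_inv (o : Finset GolayPt) (g : ↥(MulAction.stabilizer ↥M24 o)) (X : Finset GolayPt) :
    (o ∩ g • X).card = (o ∩ X).card := by
  have h := card_inter_smul (g : ↥M24) o X
  rwa [MulAction.mem_stabilizer_iff.1 g.2] at h

theorem count_octad_inter {o : Finset GolayPt} (ho : o ∈ octads) (k c : ℕ)
    (hc : ((ofWeight 8).filter fun x => wt (13062145 &&& enc x) == k).length = c) :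
    {s : Finset GolayPt | s ∈ octads ∧ (o ∩ s).card = k}.ncard = c := by
  obtain ⟨g, rfl⟩ := exists_smul_octad ho
  rw [ncard_smul octads_inv g (Q := fun s => (mset 13062145 ∩ s).card = k)
    (fun s => by rw [card_inter_smul]), ncard_octads_filter _ (fun m => wt (13062145 &&& m) == k)
    (fun x _ => by rw [beq_iff_eq, ← mset_and, card_mset]), hc]

theorem count_dodecad_inter {d : Finset GolayPt} (hd : d ∈ dodecads) (k c : ℕ)
    (hc : ((ofWeight 12).filter fun x => wt (340831 &&& enc x) == k).length = c) :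
    {s : Finset GolayPt | s ∈ dodecads ∧ (d ∩ s).card = k}.ncard = c := by
  obtain ⟨g, rfl⟩ := exists_smul_dodecad' hd
  rw [ncard_smul dodecads_inv g (Q := fun s => (mset 340831 ∩ s).card = k)
    (fun s => by rw [card_inter_smul]), ncard_dodecads_filter _ (fun m => wt (340831 &&& m) == k)
    (fun x _ => by rw [beq_iff_eq, ← mset_and, card_mset]), hc]

theorem exists_of_ncard {α : Type*} {s : Set α} {c : ℕ} (h : s.ncard = c) (hc : c ≠ 0) :
    ∃ X, X ∈ s := Set.nonempty_of_ncard_ne_zero (h ▸ hc)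

/-- the stabiliser of an octad is transitive on the octads meeting it equally -/
theorem octad_separate {o : Finset GolayPt} (ho : o ∈ octads) :
    ∀ X ∈ octads, ∀ Y ∈ octads, (o ∩ X).card = (o ∩ Y).card →
      ∃ g : ↥(MulAction.stabilizer ↥M24 o), g • X = Y := by
  refine (octad_octads ho).separate (fun X => (o ∩ X).card) (fun g X => inter_inv o g X)
    [8, 0, 4, 2] rfl (by decide) ?_
  intro v hv
  fin_cases hv
  · exact ⟨o, ho, by rw [Finset.inter_self]; exact ho.2⟩
  · exact exists_of_ncard (count_octad_inter ho 0 30 (by decide +kernel)) (by norm_num)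
  · exact exists_of_ncard (count_octad_inter ho 4 280 (by decide +kernel)) (by norm_num)
  · exact exists_of_ncard (count_octad_inter ho 2 448 (by decide +kernel)) (by norm_num)

theorem dodecad_separate {d : Finset GolayPt} (hd : d ∈ dodecads) :
    ∀ X ∈ dodecads, ∀ Y ∈ dodecads, (d ∩ X).card = (d ∩ Y).card →
      ∃ g : ↥(MulAction.stabilizer ↥M24 d), g • X = Y := by
  refine (dodecad_dodecads hd).separate (fun X => (d ∩ X).card) (fun g X => inter_inv d g X)
    [12, 0, 4, 8, 6] rfl (by decide) ?_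
  intro v hv
  fin_cases hv
  · exact ⟨d, hd, by rw [Finset.inter_self]; exact hd.2⟩
  · exact exists_of_ncard (count_dodecad_inter hd 0 1 (by decide +kernel)) (by norm_num)
  · exact exists_of_ncard (count_dodecad_inter hd 4 495 (by decide +kernel)) (by norm_num)
  · exact exists_of_ncard (count_dodecad_inter hd 8 495 (by decide +kernel)) (by norm_num)
  · exact exists_of_ncard (count_dodecad_inter hd 6 1584 (by decide +kernel)) (by norm_num)

theorem card_stab_octad {o : Finset GolayPt} (ho : o ∈ octads) :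
    Nat.card ↥(MulAction.stabilizer ↥M24 o) = 322560 := by
  refine card_stab_trans octads_inv ho (fun X hX => ?_) ncard_octads (by norm_num) (by norm_num)
  obtain ⟨a, ha⟩ := exists_smul_octad ho
  obtain ⟨b, hb⟩ := exists_smul_octad hX
  exact ⟨b * a⁻¹, by rw [mul_smul, ← ha, inv_smul_smul, hb]⟩

end Cfsg.Agent.GolayCount
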