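import Cfsg.Agent.Lib.GolaySearch
import Cfsg.Agent.Lib.GolayCount
import Cfsg.Agent.Lib.GolayClassData

/-!
The classes of elements of orders two, three and seven of the group of the code: conjugation onto
representatives, fixed objects and centralisers by certified enumeration.
-/

set_option autoImplicit false

namespace Cfsg.Agent.GolayClasses

open Cfsg Cfsg.Agent.GolayBasic Cfsg.Agent.GolayPerm Cfsg.Agent.GolaySearch Cfsg.Agent.GolayClassData
  Cfsg.Agent.GolayOrbit
open scoped Pointwise

/-- prescribed images of the first base points -/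
def cPre (vals : List ℕ) (ims : List ℕ) (v : ℕ) : Bool :=
  match vals[ims.length]? with
  | none => true
  | some x => v == x

/-- consistency of base images with `g r = t g` for one of the targets `t` -/
def cInt (r : ℕ) (ts : List ℕ) (ims : List ℕ) (v : ℕ) : Bool :=
  ts.any fun t => ([23, 0, 12, 14, 16, 17, 1].zip (ims ++ [v])).all fun a =>
    (!(pimg r a.1 == [23, 0, 12, 14, 16, 17, 1].getD ims.length 0) || pimg t a.2 == v) &&
      (!(pimg r ([23, 0, 12, 14, 16, 17, 1].getD ims.length 0) == a.1) || pimg t v == a.2)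

/-- iterated application -/
noncomputable def iter (w : List ℕ) (n i : ℕ) : ℕ :=
  @Nat.rec (fun _ => ℕ) i (fun _ r => app w r) n

/-- test for order `n`, for a prime `n` -/
noncomputable def ordChk (n : ℕ) (w : List ℕ) : Bool :=
  (pts.all fun i => iter w n i == i) && !(pts.all fun i => app w i == i)

/-- test for `w r = t w` -/
noncomputable def intChk (r : ℕ) (ts : List ℕ) (w : List ℕ) : Bool :=
  ts.any fun t => pts.all fun i => app w (pimg r i) == pimg t (app w i)

theorem num_lt (g : Equiv.Perm GolayPt) (i : ℕ) : num g i < 24 := idx_lt _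

theorem num_mul (g h : Equiv.Perm GolayPt) (i : ℕ) : num (g * h) i = num g (num h i) := by
  rw [num, num, num, pt_idx]; rfl

theorem num_permOf {P i : ℕ} (hv : valid P = true) (hi : i < 24) :
    num (permOf P) i = pimg P i := by
  rw [num, permOf_apply hv, pfun, idx_pt hi, idx_pt (pimg_lt hv hi)]

theorem num_one {i : ℕ} (hi : i < 24) : num 1 i = i := by
  rw [num]; exact idx_pt hi

theorem num_pow_wperm {w : List ℕ} (hw : ∀ P ∈ w, good P = true) : ∀ (n : ℕ) {i : ℕ}, i < 24 →
    iter w n i < 24 ∧ num (wperm w ^ n) i = iter w n i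
  | 0, i, hi => ⟨hi, by rw [pow_zero, num_one hi]; rfl⟩
  | n + 1, i, hi => by
    obtain ⟨h1, h2⟩ := num_pow_wperm hw n hi
    obtain ⟨h3, h4⟩ := wperm_apply hw h1
    refine ⟨h3, ?_⟩
    rw [pow_succ', num_mul, h2, num, h4, idx_pt h3]
    rfl

theorem ordChk_iff {C : List ℕ → ℕ → Bool} {w : List ℕ} (hw : w ∈ searchAll C) (n : ℕ)
    [hn : Fact n.Prime] : ordChk n w = true ↔ orderOf (wperm w) = n := by
  have hg := good_of_mem hw
  simp only [ordChk, Bool.and_eq_true, Bool.not_eq_true', List.all_eq_true, beq_iff_eq,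
    Bool.eq_false_iff, ne_eq, mem_pts]
  rw [orderOf_eq_prime_iff]
  refine and_congr ⟨fun h => eq_of_num fun i hi => ?_, fun h i hi => ?_⟩
    (not_congr ⟨fun h => eq_of_num fun i hi => ?_, fun h i hi => ?_⟩)
  · rw [(num_pow_wperm hg n hi).2, h i hi, num_one hi]
  · rw [← (num_pow_wperm hg n hi).2, h, num_one hi]
  · rw [num_wperm hw hi, h i hi, num_one hi]
  · rw [← num_wperm hw hi, h, num_one hi]

theorem intChk_iff {C : List ℕ → ℕ → Bool} {w : List ℕ} (hw : w ∈ searchAll C) {r : ℕ} {ts : List ℕ}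
    (hr : valid r = true) (hts : ∀ t ∈ ts, valid t = true) :
    intChk r ts w = true ↔ ∃ t ∈ ts, wperm w * permOf r = permOf t * wperm w := by
  simp only [intChk, List.any_eq_true, List.all_eq_true, beq_iff_eq, mem_pts]
  have key : ∀ t ∈ ts, ∀ i < 24, num (wperm w * permOf r) i = app w (pimg r i) ∧
      num (permOf t * wperm w) i = pimg t (app w i) := by
    intro t ht i hi
    refine ⟨?_, ?_⟩
    · rw [num_mul, num_permOf hr hi, num_wperm hw (pimg_lt hr hi)]
    · rw [num_mul, num_wperm hw hi, num_permOf (hts t ht) (wperm_apply (good_of_mem hw) hi).1]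
  refine ⟨fun ⟨t, ht, h⟩ => ⟨t, ht, eq_of_num fun i hi => ?_⟩, fun ⟨t, ht, h⟩ => ⟨t, ht, fun i hi => ?_⟩⟩
  · rw [(key t ht i hi).1, (key t ht i hi).2, h i hi]
  · rw [← (key t ht i hi).1, ← (key t ht i hi).2, h]

theorem zip_map_self {α β : Type*} (f : α → β) : ∀ l : List α,
    l.zip (l.map f) = l.map fun a => (a, f a)
  | [] => rfl
  | a :: l => by simp [zip_map_self f l]

theorem inj5 {α : Type*} {a b c d e : α} (h : [a, b, c, d, e].Nodup) :
    Function.Injective ![a, b, c, d, e] := by
  refine List.nodup_ofFn.1 ?_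
  simpa [List.ofFn_succ] using h

theorem holds_cInt {g : Equiv.Perm GolayPt} {r : ℕ} {ts : List ℕ} (hr : valid r = true)
    (hts : ∀ t ∈ ts, valid t = true) (h : ∃ t ∈ ts, g * permOf r = permOf t * g) :
    Holds (cInt r ts) (num g) := by
  obtain ⟨t, ht, e⟩ := h
  have step : ∀ {i j : ℕ}, i < 24 → pimg r i = j → pimg t (num g i) = num g j := by
    intro i j hi hij
    rw [← hij, ← num_permOf hr hi, ← num_mul, e, num_mul, num_permOf (hts t ht) (num_lt g i)]
  have key : ∀ (l : List ℕ) (c : ℕ), (∀ b ∈ l, b < 24) → c < 24 →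
      ((l.zip (l.map (num g))).all fun a =>
        (!(pimg r a.1 == c) || pimg t a.2 == num g c) &&
          (!(pimg r c == a.1) || pimg t (num g c) == a.2)) = true := by
    intro l c hl hc
    rw [zip_map_self]
    simp only [List.all_eq_true]
    intro a ha
    obtain ⟨i, hi, rfl⟩ := List.mem_map.1 ha
    simp only [Bool.and_eq_true, Bool.or_eq_true, Bool.not_eq_true', beq_eq_false_iff_ne,
      beq_iff_eq]
    exact ⟨or_iff_not_imp_left.2 fun h => step (hl i hi) (not_not.1 h),
      or_iff_not_imp_left.2 fun h => step hc (not_not.1 h)⟩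
  refine ⟨?_, ?_, ?_, ?_, ?_, ?_, ?_⟩
  all_goals refine List.any_eq_true.2 ⟨t, ht, ?_⟩
  · exact key [23] 23 (by simp) (by norm_num)
  · exact key [23, 0] 0 (by simp) (by norm_num)
  · exact key [23, 0, 12] 12 (by simp) (by norm_num)
  · exact key [23, 0, 12, 14] 14 (by simp) (by norm_num)
  · exact key [23, 0, 12, 14, 16] 16 (by simp) (by norm_num)
  · exact key [23, 0, 12, 14, 16, 17] 17 (by simp) (by norm_num)
  · exact key [23, 0, 12, 14, 16, 17, 1] 1 (by simp) (by norm_num)

theorem holds_cPre {g : Equiv.Perm GolayPt} {vals : List ℕ}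
    (h : ∀ k < 7, k < vals.length →
      num g ([23, 0, 12, 14, 16, 17, 1].getD k 0) = vals.getD k 0) :
    Holds (cPre vals) (num g) := by
  have key : ∀ (k : ℕ) (ims : List ℕ), k < 7 → ims.length = k →
      cPre vals ims (num g ([23, 0, 12, 14, 16, 17, 1].getD k 0)) = true := by
    intro k ims hk hl
    unfold cPre
    rw [hl]
    by_cases hv : k < vals.length
    · rw [List.getElem?_eq_getElem hv, h k hk hv, List.getD_eq_getElem?_getD,
        List.getElem?_eq_getElem hv]
      simp
    · rw [List.getElem?_eq_none (by omega)]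
  exact ⟨key 0 [] (by norm_num) rfl, key 1 [_] (by norm_num) rfl, key 2 [_, _] (by norm_num) rfl,
    key 3 [_, _, _] (by norm_num) rfl, key 4 [_, _, _, _] (by norm_num) rfl,
    key 5 [_, _, _, _, _] (by norm_num) rfl, key 6 [_, _, _, _, _, _] (by norm_num) rfl⟩

/-! ### conjugation onto representatives -/

/-- certificate that all found elements are conjugate into a list -/
noncomputable def conjChk (L : List (List ℕ)) (reps : List ℕ) (cs : List (ℕ × ℕ)) : Bool :=
  L.length == cs.length && (L.zip cs).all fun p =>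
    good p.2.1 && reps.contains p.2.2 &&
      pts.all fun i => pimg p.2.1 (app p.1 i) == pimg p.2.2 (pimg p.2.1 i)

theorem exists_zip {α β : Type*} : ∀ {l : List α} {m : List β}, l.length = m.length → ∀ a ∈ l,
    ∃ b, (a, b) ∈ l.zip m
  | [], _, _, a, ha => by simp at ha
  | x :: l, [], h, _, _ => by simp at h
  | x :: l, y :: m, h, a, ha => by
    rcases List.mem_cons.1 ha with rfl | ha
    · exact ⟨y, by simp⟩
    · obtain ⟨b, hb⟩ := exists_zip (l := l) (m := m) (by simpa using h) a ha
      exact ⟨b, by simp [hb]⟩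

theorem conj_of_chk {C : List ℕ → ℕ → Bool} (n : ℕ) [hn : Fact n.Prime] {reps : List ℕ}
    {cs : List (ℕ × ℕ)} (hreps : ∀ r ∈ reps, valid r = true)
    (hc : conjChk ((searchAll C).filter (ordChk n)) reps cs = true) {g : Equiv.Perm GolayPt}
    (hg : g ∈ M24) (hgn : orderOf g = n) (hC : Holds C (num g)) :
    ∃ r ∈ reps, ∃ k : ↥M24, (k : Equiv.Perm GolayPt) * g * (k : Equiv.Perm GolayPt)⁻¹ = permOf r := by
  obtain ⟨w, hw, rfl⟩ := exists_of_holds hg hC
  simp only [conjChk, Bool.and_eq_true, beq_iff_eq, List.all_eq_true] at hc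
  obtain ⟨p, hp⟩ := exists_zip hc.1 w (List.mem_filter.2 ⟨hw, (ordChk_iff hw n).2 hgn⟩)
  obtain ⟨⟨hgd, hr⟩, hall⟩ := hc.2 _ hp
  rw [List.contains_iff_mem] at hr
  have hv := valid_of_good hgd
  refine ⟨p.2, hr, ⟨permOf p.1, permOf_mem_M24 hgd⟩, mul_inv_eq_iff_eq_mul.2 (eq_of_num fun i hi => ?_)⟩
  rw [num_mul, num_wperm hw hi, num_permOf hv (wperm_apply (good_of_mem hw) hi).1, num_mul,
    num_permOf hv hi, num_permOf (hreps _ hr) (pimg_lt hv hi)]
  exact hall i (mem_pts.2 hi)

theorem M24_conj_mem (k : ↥M24) {g : Equiv.Perm GolayPt} (hg : g ∈ M24) :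
    (k : Equiv.Perm GolayPt) * g * (k : Equiv.Perm GolayPt)⁻¹ ∈ M24 :=
  mul_mem (mul_mem k.2 hg) (inv_mem k.2)

theorem orderOf_conj' (k g : Equiv.Perm GolayPt) : orderOf (k * g * k⁻¹) = orderOf g := by
  rw [← MulAut.conj_apply, MulEquiv.orderOf_eq]

theorem exists_pos (x : Fin 5 → GolayPt) (hx : Function.Injective x) :
    ∃ k : ↥M24, ∀ i : Fin 5,
      (k : Equiv.Perm GolayPt)⁻¹ (x i) = pt ([23, 0, 12, 14, 16].getD i 0) := by
  obtain ⟨k, hk, e0, e1, e2, e3, e4⟩ := GolayM24.exists_map_five x hx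
  refine ⟨⟨k, hk⟩, fun i => ?_⟩
  rw [Equiv.Perm.inv_eq_iff_eq]
  fin_cases i
  exacts [e0.symm, e1.symm, e2.symm, e3.symm, e4.symm]

theorem num_conj (k g : Equiv.Perm GolayPt) {b c : ℕ} (hc : c < 24)
    {p q : GolayPt} (hp : k⁻¹ p = pt b) (hq : k⁻¹ q = pt c) (e : g p = q) :
    num (k⁻¹ * g * k) b = c := by
  rw [Equiv.Perm.inv_eq_iff_eq] at hp
  rw [num, Equiv.Perm.mul_apply, Equiv.Perm.mul_apply, ← hp, e, hq, idx_pt hc]

theorem reduce_prefix {g : Equiv.Perm GolayPt} (n : ℕ) [Fact n.Prime] (hgn : orderOf g = n)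
    (hg : g ∈ M24) (x : Fin 5 → GolayPt) (hx : Function.Injective x) (vals : List ℕ)
    (src : List (Fin 5 × Fin 5))
    (hsrc : ∀ p ∈ src, g (x p.1) = x p.2)
    (hvals : ∀ k < 7, k < vals.length → ∃ p ∈ src,
      [23, 0, 12, 14, 16].getD p.1 0 = [23, 0, 12, 14, 16, 17, 1].getD k 0 ∧
      [23, 0, 12, 14, 16].getD p.2 0 = vals.getD k 0) {reps : List ℕ} {cs : List (ℕ × ℕ)}
    (hreps : ∀ r ∈ reps, valid r = true)
    (hc : conjChk ((searchAll (cPre vals)).filter (ordChk n)) reps cs = true) :
    ∃ r ∈ reps, ∃ k : ↥M24, (k : Equiv.Perm GolayPt) * g * (k : Equiv.Perm GolayPt)⁻¹ = permOf r := by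
  obtain ⟨k, hk⟩ := exists_pos x hx
  set h := (k : Equiv.Perm GolayPt)⁻¹ * g * (k : Equiv.Perm GolayPt) with hh
  have hhM : h ∈ M24 := mul_mem (mul_mem (inv_mem k.2) hg) k.2
  have hho : orderOf h = n := by
    have := orderOf_conj' (k : Equiv.Perm GolayPt)⁻¹ g
    rw [inv_inv] at this
    rw [hh, this, hgn]
  have hC : Holds (cPre vals) (num h) := by
    refine holds_cPre fun j hj hjv => ?_
    obtain ⟨p, hp, e1, e2⟩ := hvals j hj hjv
    rw [← e1, ← e2]
    refine num_conj _ g ?_ (hk p.1) (hk p.2) (hsrc p hp)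
    have : ∀ i : Fin 5, [23, 0, 12, 14, 16].getD i 0 < 24 := by decide
    exact this _
  obtain ⟨r, hr, k', hk'⟩ := conj_of_chk n hreps hc hhM hho hC
  refine ⟨r, hr, k' * k⁻¹, ?_⟩
  rw [← hk', hh]
  simp [mul_assoc]

theorem no_small {g : Equiv.Perm GolayPt} (hg : g ∈ M24) (x : Fin 5 → GolayPt)
    (hx : Function.Injective x) (σ : Fin 5 → Fin 5) (hσ : ∀ i, g (x i) = x (σ i))
    (hout : ∀ p, (∀ i, p ≠ x i) → g p = p) (vals : List ℕ)
    (hvals : vals = ((List.finRange 5).map fun i => [23, 0, 12, 14, 16].getD (σ i) 0) ++ [17, 1])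
    (hnone : ((searchAll (cPre vals)).all fun w => pts.any fun i =>
      !([23, 0, 12, 14, 16].contains i) && !(app w i == i)) = true) : False := by
  obtain ⟨k, hk⟩ := exists_pos x hx
  set h := (k : Equiv.Perm GolayPt)⁻¹ * g * (k : Equiv.Perm GolayPt) with hh
  have hhM : h ∈ M24 := mul_mem (mul_mem (inv_mem k.2) hg) k.2
  have hlt : ∀ i : Fin 5, [23, 0, 12, 14, 16].getD i 0 < 24 := by decide
  have hbase : ∀ i : Fin 5, num h ([23, 0, 12, 14, 16].getD i 0) = [23, 0, 12, 14, 16].getD (σ i) 0 :=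
    fun i => num_conj _ g (hlt _) (hk i) (hk (σ i)) (hσ i)
  have hfix : ∀ c, c < 24 → (∀ i : Fin 5, c ≠ [23, 0, 12, 14, 16].getD i 0) → num h c = c := by
    intro c hc hne
    refine num_conj _ g hc (p := (k : Equiv.Perm GolayPt) (pt c))
      (q := (k : Equiv.Perm GolayPt) (pt c)) (by simp) (by simp) ?_
    refine hout _ fun i e => hne i ?_
    have := congrArg (fun q => idx ((k : Equiv.Perm GolayPt)⁻¹ q)) e
    rw [hk i] at this
    simp only [Equiv.Perm.inv_def, Equiv.symm_apply_apply] at this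
    rwa [idx_pt hc, idx_pt (hlt i)] at this
  have hC : Holds (cPre vals) (num h) := by
    refine holds_cPre fun j hj _ => ?_
    subst hvals
    interval_cases j
    · exact hbase 0
    · exact hbase 1
    · exact hbase 2
    · exact hbase 3
    · exact hbase 4
    · exact hfix 17 (by norm_num) (by decide)
    · exact hfix 1 (by norm_num) (by decide)
  obtain ⟨w, hw, e⟩ := exists_of_holds hhM hC
  obtain ⟨i, hi, h'⟩ := List.any_eq_true.1 (List.all_eq_true.1 hnone w hw)
  simp only [Bool.and_eq_true, Bool.not_eq_true', beq_eq_false_iff_ne] at h'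
  refine h'.2 ?_
  rw [← num_wperm hw (mem_pts.1 hi), e]
  refine hfix i (mem_pts.1 hi) fun j hj => ?_
  have h1 := h'.1
  rw [hj] at h1
  revert h1
  clear hj
  revert j
  decide

theorem exists_notMem (l : List GolayPt) (h : l.length < 24) : ∃ p, p ∉ l := by
  classical
  obtain ⟨p, hp⟩ : ((Finset.univ : Finset GolayPt) \ l.toFinset).Nonempty := by
    rw [← Finset.card_pos, Finset.card_sdiff_of_subset (Finset.subset_univ _), Finset.card_univ,
      show Fintype.card GolayPt = 24 from by decide +kernel]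
    have := l.toFinset_card_le
    omega
  exact ⟨p, by simpa using hp⟩

theorem three_checks :
    conjChk ((searchAll (cPre [0, 12, 23, 16])).filter (ordChk 3)) [r3_0, r3_6] conj3 = true := by
  decide +kernel

theorem two_checks :
    conjChk ((searchAll (cPre [0, 23, 14, 12])).filter (ordChk 2)) [r2_0, r2_8] conj2 = true := by
  decide +kernel

theorem seven_checks :
    conjChk ((searchAll (cPre [0, 12, 14, 16])).filter (ordChk 7)) [r7, pow7.getD 2 0] conj7 = true := by
  decide +kernel

theorem valid_reps : ∀ r ∈ [r2_0, r2_8, r3_0, r3_6, r7, pow7.getD 2 0], good r = true := by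
  decide +kernel

theorem exists_conj_two {g : Equiv.Perm GolayPt} (hg : g ∈ M24) (h2 : orderOf g = 2) :
    ∃ r ∈ [r2_0, r2_8], ∃ k : ↥M24,
      (k : Equiv.Perm GolayPt) * g * (k : Equiv.Perm GolayPt)⁻¹ = permOf r := by
  have : Fact (Nat.Prime 2) := ⟨Nat.prime_two⟩
  obtain ⟨hp, hne⟩ := orderOf_eq_prime_iff.1 h2
  obtain ⟨a, ha⟩ : ∃ a, g a ≠ a := by
    by_contra hc
    push Not at hc
    exact hne (Equiv.ext hc)
  have hgg : ∀ p, g (g p) = p := fun p => by
    rw [← Equiv.Perm.mul_apply, ← sq, hp]; rfl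
  by_cases hd : ∃ d, d ≠ a ∧ d ≠ g a ∧ g d ≠ d
  · obtain ⟨d, hda, hdb, hdd⟩ := hd
    obtain ⟨e, he⟩ := exists_notMem [a, g a, d, g d] (by simp)
    simp only [List.mem_cons, List.not_mem_nil, or_false, not_or] at he
    have hx : Function.Injective ![a, g a, d, g d, e] := by
      have h1 : g d ≠ a := fun h => hdb (by rw [← hgg d, h])
      have h2 : g d ≠ g a := fun h => hda (g.injective h)
      refine inj5 ?_
      simp only [List.nodup_cons, List.mem_cons, List.not_mem_nil, or_false, not_or, List.nodup_nil,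
        and_true, not_false_eq_true]
      refine ⟨?_, ?_, ?_, ?_⟩ <;> (repeat' constructor) <;> grind
    refine reduce_prefix 2 h2 hg _ hx [0, 23, 14, 12] [(0, 1), (1, 0), (2, 3), (3, 2)] ?_ ?_
      (fun r hr => valid_of_good (valid_reps r (by simp at hr ⊢; tauto))) two_checks
    · intro p hp
      simp only [List.mem_cons, List.not_mem_nil, or_false] at hp
      rcases hp with rfl | rfl | rfl | rfl <;> simp [hgg]
    · intro k _ hk
      simp only [List.length_cons, List.length_nil] at hk
      interval_cases k <;> decide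
  · push Not at hd
    obtain ⟨c, hc⟩ := exists_notMem [a, g a] (by simp)
    obtain ⟨d, hd'⟩ := exists_notMem [a, g a, c] (by simp)
    obtain ⟨e, he⟩ := exists_notMem [a, g a, c, d] (by simp)
    simp only [List.mem_cons, List.not_mem_nil, or_false, not_or] at hc hd' he
    have hx : Function.Injective ![a, g a, c, d, e] := by
      refine inj5 ?_
      simp only [List.nodup_cons, List.mem_cons, List.not_mem_nil, or_false, not_or, List.nodup_nil,
        and_true, not_false_eq_true]
      refine ⟨?_, ?_, ?_, ?_⟩ <;> (repeat' constructor) <;> grind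
    refine (no_small hg _ hx ![1, 0, 2, 3, 4] ?_ ?_ [0, 23, 12, 14, 16, 17, 1] (by decide)
      (by decide +kernel)).elim
    · intro i
      fin_cases i
      · simp
      · simpa using hgg a
      · simpa using hd c hc.1 hc.2
      · simpa using hd d hd'.1 hd'.2.1
      · simpa using hd e he.1 he.2.1
    · intro p hp
      exact hd p (hp 0) (hp 1)

theorem exists_conj_three {g : Equiv.Perm GolayPt} (hg : g ∈ M24) (h3 : orderOf g = 3) :
    ∃ r ∈ [r3_0, r3_6], ∃ k : ↥M24,
      (k : Equiv.Perm GolayPt) * g * (k : Equiv.Perm GolayPt)⁻¹ = permOf r := by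
  have : Fact (Nat.Prime 3) := ⟨Nat.prime_three⟩
  obtain ⟨hp, hne⟩ := orderOf_eq_prime_iff.1 h3
  obtain ⟨a, ha⟩ : ∃ a, g a ≠ a := by
    by_contra hc
    push Not at hc
    exact hne (Equiv.ext hc)
  have hgg : ∀ p, g (g (g p)) = p := fun p => by
    rw [← Equiv.Perm.mul_apply, ← Equiv.Perm.mul_apply, ← pow_three', hp]; rfl
  have hca : g (g a) ≠ a := fun h => ha (by
    have := hgg a
    rwa [h] at this)
  have hcb : g (g a) ≠ g a := fun h => ha (g.injective h)
  by_cases hd : ∃ d, d ≠ a ∧ d ≠ g a ∧ d ≠ g (g a) ∧ g d ≠ d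
  · obtain ⟨d, hda, hdb, hdc, hdd⟩ := hd
    have hx : Function.Injective ![a, g a, g (g a), d, g d] := by
      have h1 : g d ≠ a := fun h => hdc (g.injective (by rw [h, hgg]))
      have h2 : g d ≠ g a := fun h => hda (g.injective h)
      have h3 : g d ≠ g (g a) := fun h => hdb (g.injective h)
      refine inj5 ?_
      simp only [List.nodup_cons, List.mem_cons, List.not_mem_nil, or_false, not_or, List.nodup_nil,
        and_true, not_false_eq_true]
      refine ⟨?_, ?_, ?_, ?_⟩ <;> (repeat' constructor) <;> grind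
    refine reduce_prefix 3 h3 hg _ hx [0, 12, 23, 16] [(0, 1), (1, 2), (2, 0), (3, 4)] ?_ ?_
      (fun r hr => valid_of_good (valid_reps r (by simp at hr ⊢; tauto))) three_checks
    · intro p hp
      simp only [List.mem_cons, List.not_mem_nil, or_false] at hp
      rcases hp with rfl | rfl | rfl | rfl <;> simp [hgg]
    · intro k _ hk
      simp only [List.length_cons, List.length_nil] at hk
      interval_cases k <;> decide
  · push Not at hd
    obtain ⟨d, hd'⟩ := exists_notMem [a, g a, g (g a)] (by simp)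
    obtain ⟨e, he⟩ := exists_notMem [a, g a, g (g a), d] (by simp)
    simp only [List.mem_cons, List.not_mem_nil, or_false, not_or] at hd' he
    have hx : Function.Injective ![a, g a, g (g a), d, e] := by
      refine inj5 ?_
      simp only [List.nodup_cons, List.mem_cons, List.not_mem_nil, or_false, not_or, List.nodup_nil,
        and_true, not_false_eq_true]
      refine ⟨?_, ?_, ?_, ?_⟩ <;> (repeat' constructor) <;> grind
    refine (no_small hg _ hx ![1, 2, 0, 3, 4] ?_ ?_ [0, 12, 23, 14, 16, 17, 1] (by decide)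
      (by decide +kernel)).elim
    · intro i
      fin_cases i
      · simp
      · simp
      · simpa using hgg a
      · simpa using hd d hd'.1 hd'.2.1 hd'.2.2
      · simpa using hd e he.1 he.2.1 he.2.2.1
    · intro p hp
      exact hd p (hp 0) (hp 1) (hp 2)

theorem exists_conj_seven {g : Equiv.Perm GolayPt} (hg : g ∈ M24) (h7 : orderOf g = 7) :
    ∃ r ∈ [r7, pow7.getD 2 0], ∃ k : ↥M24,
      (k : Equiv.Perm GolayPt) * g * (k : Equiv.Perm GolayPt)⁻¹ = permOf r := by
  have : Fact (Nat.Prime 7) := ⟨by norm_num⟩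
  obtain ⟨hp, hne⟩ := orderOf_eq_prime_iff.1 h7
  obtain ⟨a, ha⟩ : ∃ a, g a ≠ a := by
    by_contra hc
    push Not at hc
    exact hne (Equiv.ext hc)
  have hcyc : ∀ m, 0 < m → m < 7 → (g ^ m) a ≠ a := by
    intro m h0 hm h
    apply ha
    have hg' : g ∈ Subgroup.zpowers (g ^ m) := by
      apply mem_zpowers_pow_iff.2
      rw [h7]
      show Nat.Coprime m 7
      rw [Nat.coprime_comm]
      exact (Nat.Prime.coprime_iff_not_dvd (by norm_num)).2 fun hd => by
        have := Nat.le_of_dvd h0 hd
        omega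
    obtain ⟨j, hj⟩ := Subgroup.mem_zpowers_iff.1 hg'
    rw [← hj]
    exact Function.IsFixedPt.perm_zpow (show Function.IsFixedPt (g ^ m) a from h) j
  have hx : Function.Injective fun i : Fin 5 => (g ^ (i : ℕ)) a := by
    intro i j hij
    dsimp at hij
    by_contra hne'
    rcases lt_or_gt_of_ne hne' with h | h
    · refine hcyc ((j : ℕ) - i) (by omega) (by omega) ((g ^ (i : ℕ)).injective ?_)
      rw [← Equiv.Perm.mul_apply, ← pow_add, show (i : ℕ) + (j - i) = j by omega, hij]
    · refine hcyc ((i : ℕ) - j) (by omega) (by omega) ((g ^ (j : ℕ)).injective ?_)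
      rw [← Equiv.Perm.mul_apply, ← pow_add, show (j : ℕ) + (i - j) = i by omega, hij]
  refine reduce_prefix 7 h7 hg _ hx [0, 12, 14, 16] [(0, 1), (1, 2), (2, 3), (3, 4)] ?_ ?_
    (fun r hr => valid_of_good (valid_reps r (by simp at hr ⊢; tauto))) seven_checks
  · intro p hp
    simp only [List.mem_cons, List.not_mem_nil, or_false] at hp
    rcases hp with rfl | rfl | rfl | rfl <;> simp [pow_succ']
  · intro k _ hk
    simp only [List.length_cons, List.length_nil] at hk
    interval_cases k <;> decide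

/-! ### fixed objects -/

theorem card_fixed (g : Equiv.Perm GolayPt) :
    (Finset.univ.filter fun p => g p = p).card = (pts.filter fun i => num g i == i).length := by
  have e : (Finset.univ.filter fun p => g p = p) =
      (((pts.filter fun i => num g i == i).map pt).toFinset) := by
    ext p
    simp only [Finset.mem_filter, Finset.mem_univ, true_and, List.mem_toFinset, List.mem_map,
      List.mem_filter, mem_pts, beq_iff_eq]
    constructor
    · intro h
      exact ⟨idx p, ⟨idx_lt p, by rw [num, pt_idx, h]⟩, pt_idx p⟩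
    · rintro ⟨i, ⟨hi, h⟩, rfl⟩
      exact idx_inj (by rw [idx_pt hi]; exact h)
  rw [e, List.toFinset_card_of_nodup, List.length_map]
  refine List.Nodup.map_on (fun i hi j hj h => ?_) ((by decide : pts.Nodup).filter _)
  rw [← idx_pt (mem_pts.1 (List.mem_filter.1 hi).1), h, idx_pt (mem_pts.1 (List.mem_filter.1 hj).1)]

theorem card_fixed_permOf {P : ℕ} (hv : valid P = true) :
    (Finset.univ.filter fun p => permOf P p = p).card =
      (pts.filter fun i => pimg P i == i).length := by
  rw [card_fixed]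
  exact congrArg List.length (List.filter_congr fun i hi => by rw [num_permOf hv (mem_pts.1 hi)])

theorem card_fixed_conj (k g : Equiv.Perm GolayPt) :
    (Finset.univ.filter fun p => (k * g * k⁻¹) p = p).card =
      (Finset.univ.filter fun p => g p = p).card := by
  symm
  rw [← Finset.card_map k.toEmbedding]
  congr 1
  ext p
  rw [Finset.mem_map_equiv, Finset.mem_filter_univ, Finset.mem_filter_univ, Equiv.Perm.mul_apply,
    Equiv.Perm.mul_apply, Equiv.Perm.inv_def]
  exact Equiv.eq_symm_apply k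

theorem smul_fam_eq_iff {P : ℕ} (hv : valid P = true) {l : List ℕ} (hl : GolayOrbit.ok l = true) :
    (l.all fun a => l.contains (pmask P a)) = true ↔ permOf P • fam l = fam l := by
  simp only [List.all_eq_true, List.contains_iff_mem]
  constructor
  · intro h
    refine Finset.eq_of_subset_of_card_le ?_ (by rw [Finset.card_smul_finset])
    intro s hs
    obtain ⟨t, ht, rfl⟩ := Finset.mem_smul_finset.1 hs
    obtain ⟨a, ha, rfl⟩ := mem_fam.1 ht
    exact mem_fam.2 ⟨_, h a ha, (smul_mset hv a).symm⟩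
  · intro h a ha
    have hm : permOf P • mset a ∈ fam l := by
      rw [← h]; exact Finset.smul_mem_smul_finset (mem_fam.2 ⟨a, ha, rfl⟩)
    obtain ⟨b, hb, e⟩ := mem_fam.1 hm
    rw [smul_mset hv] at e
    rwa [← mset_inj (ok_lt hl hb) (pmask_lt hv a) e]

theorem ncard_fixed {α : Type*} [MulAction (Equiv.Perm GolayPt) α] {U : Set α}
    (hinv : ∀ g : ↥M24, ∀ X ∈ U, g • X ∈ U) (k : ↥M24) {g R : Equiv.Perm GolayPt}
    (hk : (k : Equiv.Perm GolayPt) * g * (k : Equiv.Perm GolayPt)⁻¹ = R) :
    {X | X ∈ U ∧ g • X = X}.ncard = {X | X ∈ U ∧ R • X = X}.ncard := by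
  refine (GolayCount.ncard_smul hinv k (P := fun X => R • X = X) (Q := fun X => g • X = X) ?_).symm
  intro X
  show R • (k : Equiv.Perm GolayPt) • X = (k : Equiv.Perm GolayPt) • X ↔ _
  rw [← hk, mul_smul, inv_smul_smul, mul_smul, smul_left_cancel_iff]

theorem count_octads {g : Equiv.Perm GolayPt} {r : ℕ} (hr : good r = true) (k : ↥M24)
    (hk : (k : Equiv.Perm GolayPt) * g * (k : Equiv.Perm GolayPt)⁻¹ = permOf r) {c : ℕ}
    (hc : ((ofWeight 8).filter fun x => pmask r (enc x) == enc x).length = c) :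
    {o : Finset GolayPt | o ∈ octads ∧ g • o = o}.ncard = c := by
  rw [ncard_fixed GolayOrbitThms.octads_inv k hk,
    GolayCount.ncard_octads_filter _ (fun m => pmask r m == m) (fun x hx => ?_), hc]
  rw [beq_iff_eq, smul_mset (valid_of_good hr)]
  exact ⟨fun h => by rw [h], mset_inj (pmask_lt (valid_of_good hr) _)
    (enc_lt (List.mem_range.1 (List.mem_filter.1 hx).1))⟩

theorem count_dodecads {g : Equiv.Perm GolayPt} {r : ℕ} (hr : good r = true) (k : ↥M24)
    (hk : (k : Equiv.Perm GolayPt) * g * (k : Equiv.Perm GolayPt)⁻¹ = permOf r) {c : ℕ}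
    (hc : ((ofWeight 12).filter fun x => pmask r (enc x) == enc x).length = c) :
    {o : Finset GolayPt | o ∈ dodecads ∧ g • o = o}.ncard = c := by
  rw [ncard_fixed GolayOrbitThms.dodecads_inv k hk,
    GolayCount.ncard_dodecads_filter _ (fun m => pmask r m == m) (fun x hx => ?_), hc]
  rw [beq_iff_eq, smul_mset (valid_of_good hr)]
  exact ⟨fun h => by rw [h], mset_inj (pmask_lt (valid_of_good hr) _)
    (enc_lt (List.mem_range.1 (List.mem_filter.1 hx).1))⟩

theorem count_trios {g : Equiv.Perm GolayPt} {r : ℕ} (hr : good r = true) (k : ↥M24)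
    (hk : (k : Equiv.Perm GolayPt) * g * (k : Equiv.Perm GolayPt)⁻¹ = permOf r) {c : ℕ}
    (hc : ((allOrbs GolayOrbitData.trioAllGens GolayOrbitData.trioAllParts).filter fun l =>
      l.all fun a => l.contains (pmask r a)).length = c) :
    {T : Finset (Finset GolayPt) | T ∈ trios ∧ g • T = T}.ncard = c := by
  rw [ncard_fixed GolayOrbitThms.trios_inv k hk, GolayCount.trios_listing.ncard_filter _
    (fun l => l.all fun a => l.contains (pmask r a))
    (fun Y hY => smul_fam_eq_iff (valid_of_good hr) hY), hc]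

theorem count_sextets {g : Equiv.Perm GolayPt} {r : ℕ} (hr : good r = true) (k : ↥M24)
    (hk : (k : Equiv.Perm GolayPt) * g * (k : Equiv.Perm GolayPt)⁻¹ = permOf r) {c : ℕ}
    (hc : ((allOrbs GolayOrbitData.sextetAllGens GolayOrbitData.sextetAllParts).filter fun l =>
      l.all fun a => l.contains (pmask r a)).length = c) :
    {S : Finset (Finset GolayPt) | S ∈ sextets ∧ g • S = S}.ncard = c := by
  rw [ncard_fixed GolayOrbitThms.sextets_inv k hk, GolayCount.sextets_listing.ncard_filter _
    (fun l => l.all fun a => l.contains (pmask r a))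
    (fun Y hY => smul_fam_eq_iff (valid_of_good hr) hY), hc]

/-- the representative from the number of fixed points -/
theorem rep_of_fixed {g : Equiv.Perm GolayPt} {r r' : ℕ} {n : ℕ} (hr' : valid r' = true)
    (h : ∃ s ∈ [r, r'], ∃ k : ↥M24,
      (k : Equiv.Perm GolayPt) * g * (k : Equiv.Perm GolayPt)⁻¹ = permOf s)
    (hn : (Finset.univ.filter fun p => g p = p).card = n)
    (hne : (pts.filter fun i => pimg r' i == i).length ≠ n) :
    ∃ k : ↥M24, (k : Equiv.Perm GolayPt) * g * (k : Equiv.Perm GolayPt)⁻¹ = permOf r := by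
  obtain ⟨s, hs, k, hk⟩ := h
  simp only [List.mem_cons, List.not_mem_nil, or_false] at hs
  rcases hs with rfl | rfl
  · exact ⟨k, hk⟩
  · rw [← card_fixed_permOf hr', ← hk, card_fixed_conj] at hne
    exact absurd hn hne

end Cfsg.Agent.GolayClasses
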