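import Cfsg.Agent.Lib.GolayOrbitThms

/-!
Maximality of the stabiliser of a trio and of a sextet, from the lengths of its orbits.
-/

set_option autoImplicit false

namespace Cfsg.Agent.GolayCoatom

open Cfsg Cfsg.Agent.GolayBasic Cfsg.Agent.GolayOrbit Cfsg.Agent.GolayOrbitThms
open scoped Pointwise

theorem card_M24' : Nat.card ↥M24 = 244823040 := GolayM24.card_M24

theorem ncard_biUnion_le {α β : Type*} [Finite α] (f : β → Set α) :
    ∀ L : List β, {x | ∃ r ∈ L, x ∈ f r}.ncard ≤ (L.map fun r => (f r).ncard).sum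
  | [] => by simp
  | r :: L => by
    rw [List.map_cons, List.sum_cons]
    refine le_trans (le_of_eq ?_) (le_trans (Set.ncard_union_le (f r) {x | ∃ s ∈ L, x ∈ f s})
      (Nat.add_le_add le_rfl (ncard_biUnion_le f L)))
    congr 1
    ext x
    simp

theorem isCoatom_stab {α : Type*} [Finite α] [MulAction ↥M24 α] {U : Set α} {a : α}
    {sizes : List ℕ} {N : ℕ} (hinv : ∀ g : ↥M24, ∀ X ∈ U, g • X ∈ U) (ha : a ∈ U)
    (htr : ∀ X ∈ U, ∃ g : ↥M24, g • a = X) (hN : U.ncard = N)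
    (h : Decomp (MulAction.stabilizer ↥M24 a) U sizes) (hsum : sizes.sum = N) (hN1 : 1 < N)
    (hdiv : ∀ l ∈ sizes.sublists, l.sum ∣ N → l.sum = N ∨ l.sum ≤ 1) :
    IsCoatom (MulAction.stabilizer ↥M24 a) := by
  classical
  set H := MulAction.stabilizer ↥M24 a with hH
  have eU : MulAction.orbit ↥M24 a = U := by
    ext X
    exact ⟨fun ⟨g, hg⟩ => hg ▸ hinv g a ha, fun hX => htr X hX⟩
  have hG : N * Nat.card ↥H = Nat.card ↥M24 := by
    rw [← hN, ← eU, ← MulAction.index_stabilizer, Subgroup.index_mul_card]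
  have hH0 : 0 < Nat.card ↥H := Nat.card_pos
  refine ⟨fun e => ?_, fun K hK => ?_⟩
  · rw [e, Subgroup.card_top] at hG
    have := Nat.eq_one_of_mul_eq_one_right (m := N) (n := 1)
    nlinarith [Nat.card_pos (α := ↥M24)]
  set W := MulAction.orbit ↥K a with hW
  have hKcard : W.ncard * Nat.card ↥H = Nat.card ↥K := by
    have e : MulAction.stabilizer ↥K a = H.subgroupOf K := by
      ext g; rfl
    rw [hW, ← MulAction.index_stabilizer, e,
      ← Nat.card_congr (Subgroup.subgroupOfEquivOfLe hK.le).toEquiv]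
    exact Subgroup.index_mul_card _
  have hdvd : W.ncard ∣ N := by
    refine Nat.dvd_of_mul_dvd_mul_right hH0 ?_
    rw [hKcard, hG]
    exact Subgroup.card_subgroup_dvd_card K
  obtain ⟨k, hk, hkH⟩ := Set.exists_of_ssubset hK
  have h2 : 1 < W.ncard := by
    rw [Set.one_lt_ncard (Set.toFinite _)]
    exact ⟨a, MulAction.mem_orbit_self a, k • a, ⟨⟨k, hk⟩, rfl⟩,
      fun e => hkH (MulAction.mem_stabilizer_iff.2 e.symm)⟩
  obtain ⟨L, hL, hsz, hU⟩ := h
  have hWU : W ⊆ U := by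
    rintro _ ⟨g, rfl⟩
    exact hinv _ a ha
  have hWinv : ∀ g : ↥H, ∀ X ∈ W, (g : ↥M24) • X ∈ W := by
    rintro g _ ⟨q, rfl⟩
    exact ⟨⟨(g : ↥M24) * q, mul_mem (hK.le g.2) q.2⟩, mul_smul _ _ _⟩
  let p : α → Bool := fun r => decide (r ∈ W)
  have key : ∀ X ∈ U, ∀ r ∈ L, X ∈ MulAction.orbit ↥H r → (X ∈ W ↔ r ∈ W) := by
    rintro X - r - ⟨g, rfl⟩
    constructor
    · intro hX
      have := hWinv g⁻¹ _ hX
      change (g : ↥M24)⁻¹ • (g : ↥M24) • r ∈ W at this
      rwa [inv_smul_smul] at this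
    · exact hWinv g r
  have e1 : W.ncard ≤ ((L.filter p).map fun r => (MulAction.orbit ↥H r).ncard).sum := by
    refine le_trans (Set.ncard_le_ncard (fun X hX => ?_) (Set.toFinite _))
      (ncard_biUnion_le (fun r => MulAction.orbit ↥H r) _)
    obtain ⟨r, hr, hXr⟩ := (hU X).1 (hWU hX)
    exact ⟨r, List.mem_filter.2 ⟨hr, decide_eq_true ((key X (hWU hX) r hr hXr).1 hX)⟩, hXr⟩
  have e2 : (U \ W).ncard ≤
      ((L.filter fun r => !p r).map fun r => (MulAction.orbit ↥H r).ncard).sum := by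
    refine le_trans (Set.ncard_le_ncard (fun X hX => ?_) (Set.toFinite _))
      (ncard_biUnion_le (fun r => MulAction.orbit ↥H r) _)
    obtain ⟨r, hr, hXr⟩ := (hU X).1 hX.1
    refine ⟨r, List.mem_filter.2 ⟨hr, ?_⟩, hXr⟩
    rw [Bool.not_eq_true']
    exact decide_eq_false fun h => hX.2 ((key X hX.1 r hr hXr).2 h)
  have e3 : (U \ W).ncard + W.ncard = N := by
    rw [Set.ncard_diff_add_ncard_of_subset hWU (Set.toFinite _), hN]
  have e4 : ((L.filter p).map fun r => (MulAction.orbit ↥H r).ncard).sum +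
      ((L.filter fun r => !p r).map fun r => (MulAction.orbit ↥H r).ncard).sum = N := by
    rw [← hsum, ← hsz, ← List.sum_append, ← List.map_append]
    exact ((List.filter_append_perm p L).map _).sum_eq
  have eW : W.ncard = ((L.filter p).map fun r => (MulAction.orbit ↥H r).ncard).sum := by omega
  have hsub : ((L.filter p).map fun r => (MulAction.orbit ↥H r).ncard) ∈ sizes.sublists := by
    rw [List.mem_sublists, ← hsz]
    exact List.filter_sublist.map _
  rcases hdiv _ hsub (eW ▸ hdvd) with e | e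
  · refine Subgroup.eq_top_of_card_eq K ?_
    rw [← hKcard, eW, e, hG]
  · omega

theorem eq_singleton_of_one {α : Type*} [MulAction ↥M24 α] {a x : α}
    (hx : (MulAction.orbit ↥(MulAction.stabilizer ↥M24 a) x).ncard = 1)
    (ha : a ∈ MulAction.orbit ↥(MulAction.stabilizer ↥M24 a) x) :
    MulAction.orbit ↥(MulAction.stabilizer ↥M24 a) x = {a} := by
  obtain ⟨y, hy⟩ := Set.ncard_eq_one.1 hx
  rw [hy] at ha ⊢
  rw [Set.mem_singleton_iff.1 ha]

theorem ncard_orbit_self {α : Type*} [MulAction ↥M24 α] {a x : α}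
    (ha : a ∈ MulAction.orbit ↥(MulAction.stabilizer ↥M24 a) x) :
    (MulAction.orbit ↥(MulAction.stabilizer ↥M24 a) x).ncard = 1 := by
  rw [← MulAction.orbit_eq_iff.2 ha, Set.ncard_eq_one]
  refine ⟨a, Set.eq_singleton_iff_unique_mem.2 ⟨MulAction.mem_orbit_self _, ?_⟩⟩
  rintro _ ⟨g, rfl⟩
  exact g.2

end Cfsg.Agent.GolayCoatom
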