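import Mathlib
import Cfsg.Agent.Lib.GolayM24
import Cfsg.Agent.Lib.GolayDuadRigid13

/-!
An elementary abelian group with eleven bit coordinates and a checked table of labels is the even part
of the Golay cocode, the listed codes being the duads.
-/

set_option autoImplicit false
set_option linter.unusedSectionVars false
set_option maxRecDepth 100000
set_option maxHeartbeats 800000

namespace Cfsg.Agent.GolayCocodeTables22

open Cfsg Cfsg.Agent.GolayModule Cfsg.Agent.GolayDuadRigid13

/-- the squares modulo twenty-three -/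
def squares : List ℕ := (List.range 12).map fun r => r * r % 23

/-- the label of a point, the extra point having label zero -/
def labN (lab : List ℕ) (p : GolayPt) : ℕ := p.elim 0 fun x => lab.getD x.val 0

/-- the bit set of a list -/
def bitSet (R : List ℕ) : ℕ := R.foldr (fun y r => Nat.lor (Nat.shiftLeft 1 y) r) 0

/-- the checks on a table of labels, spanning sums and listed codes -/
def tablesOK (lab : List ℕ) (spanC : List (List ℕ)) (R : List ℕ) : Bool :=
  (List.range 23).all (fun t =>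
    Nat.beq (squares.foldr (fun q r => Nat.xor (lab.getD ((q + t) % 23) 0) r) 0) 0) &&
  Nat.beq ((List.range 23).foldr (fun x r => Nat.xor (lab.getD x 0) r) 0) 0 &&
  (List.range 11).all (fun j => (spanC.getD j []).all (fun x => Nat.blt x 23) &&
    decide ((spanC.getD j []).Nodup) &&
    Nat.beq ((spanC.getD j []).foldr (fun x r => Nat.xor (lab.getD x 0) r) 0) (Nat.shiftLeft 1 j)) &&
  (let s := bitSet R
   (List.range 24).all fun a => (List.range 24).all fun b => Nat.beq a b ||
    Nat.testBit s (Nat.xor ((0 :: lab).getD a 0) ((0 :: lab).getD b 0))) &&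
  R.all (fun r => (List.range 24).any fun a => (List.range 24).any fun b =>
    !Nat.beq a b && Nat.beq (Nat.xor ((0 :: lab).getD a 0) ((0 :: lab).getD b 0)) r)

theorem bitSet_iff (l : List ℕ) (x : ℕ) : Nat.testBit (bitSet l) x = true ↔ x ∈ l := by
  induction l with
  | nil => simp [bitSet]
  | cons a l ih =>
    rw [bitSet, List.foldr_cons, List.mem_cons]
    rw [show ∀ m : ℕ, Nat.lor (Nat.shiftLeft 1 a) m = (1 <<< a) ||| m from fun m => rfl,
      Nat.testBit_lor, Bool.or_eq_true, ← bitSet, ih, Nat.one_shiftLeft, Nat.testBit_two_pow,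
      decide_eq_true_eq]
    exact or_congr_left ⟨fun e => e.symm, fun e => e.symm⟩

theorem tables_facts {lab : List ℕ} {spanC : List (List ℕ)} {R : List ℕ}
    (h : tablesOK lab spanC R = true) :
    (∀ t < 23, squares.foldr (fun q r => Nat.xor (lab.getD ((q + t) % 23) 0) r) 0 = 0) ∧
    (List.range 23).foldr (fun x r => Nat.xor (lab.getD x 0) r) 0 = 0 ∧
    (∀ j < 11, (∀ x ∈ spanC.getD j [], x < 23) ∧ (spanC.getD j []).Nodup ∧
      (spanC.getD j []).foldr (fun x r => Nat.xor (lab.getD x 0) r) 0 = Nat.shiftLeft 1 j) ∧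
    (∀ a < 24, ∀ b < 24, a ≠ b → Nat.xor ((0 :: lab).getD a 0) ((0 :: lab).getD b 0) ∈ R) ∧
    ∀ r ∈ R, ∃ a < 24, ∃ b < 24, a ≠ b ∧
      Nat.xor ((0 :: lab).getD a 0) ((0 :: lab).getD b 0) = r := by
  simp only [tablesOK, Bool.and_eq_true, List.all_eq_true, List.any_eq_true, List.mem_range,
    Nat.beq_eq, Bool.or_eq_true, Nat.blt_eq, decide_eq_true_eq, bitSet_iff] at h
  obtain ⟨⟨⟨⟨h1, h2⟩, h3⟩, h4⟩, h5⟩ := h
  refine ⟨h1, h2, fun j hj => ⟨(h3 j hj).1.1, (h3 j hj).1.2, (h3 j hj).2⟩,
    fun a ha b hb hne => (h4 a ha b hb).resolve_left hne, fun r hr => ?_⟩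
  obtain ⟨a, ha, b, hb, hne, e⟩ := h5 r hr
  refine ⟨a, ha, b, hb, fun e' => ?_, e⟩
  subst e'
  simp [Nat.beq_refl] at hne

/-- The index of a point. -/
def pidx (p : GolayPt) : ℕ := p.elim 0 fun x => x.val + 1

theorem pidx_facts : (∀ p : GolayPt, pidx p < 24) ∧
    (∀ p q : GolayPt, pidx p = pidx q → p = q) ∧ (∀ a < 24, ∃ p : GolayPt, pidx p = a) := by decide +kernel

theorem labN_pidx (lab : List ℕ) (p : GolayPt) : labN lab p = (0 :: lab).getD (pidx p) 0 := by
  cases p <;> simp [labN, pidx]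

theorem qr_supp : ∀ t : ZMod 23, (squares.map fun q : ℕ => (some ((q : ZMod 23) + t) : GolayPt)).Nodup ∧
    (∀ q : ℕ, q ∈ squares → ((q : ZMod 23) + t).val = (q + t.val) % 23) ∧
    ∀ p : GolayPt, qrWord t p =
      if p ∈ squares.map (fun q : ℕ => (some ((q : ZMod 23) + t) : GolayPt)) then 1 else 0 := by
  decide +kernel

theorem all_pts : ((none : GolayPt) :: (List.range 23).map fun x : ℕ => (some (x : ZMod 23) : GolayPt)).Nodup ∧
    (∀ p : GolayPt, p ∈ (none : GolayPt) :: (List.range 23).map fun x : ℕ => (some (x : ZMod 23) : GolayPt)) ∧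
    (∀ x : ℕ, x < 23 → ((x : ZMod 23)).val = x) := by
  decide +kernel

theorem span_pts {l : List ℕ} (h : ∀ x ∈ l, x < 23) (hn : l.Nodup) :
    (l.map fun x : ℕ => (some (x : ZMod 23) : GolayPt)).Nodup :=
  List.Nodup.map_on (fun a ha b hb e => by
    have e' := congrArg ZMod.val (Option.some.inj e)
    rwa [all_pts.2.2 a (h a ha), all_pts.2.2 b (h b hb)] at e') hn

theorem bits_eleven : ∀ i < 2048, i ≠ 0 → Nat.xor (2 ^ Nat.log2 i) (Nat.xor i (2 ^ Nat.log2 i)) = i ∧
    Nat.xor i (2 ^ Nat.log2 i) < i ∧ Nat.log2 i < 11 := by decide +kernel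

variable {V : Type*} [AddCommGroup V]

/-- The labelling extended linearly. -/
noncomputable def Lc (lab : List ℕ) (ψ : ℕ → V) (hx : ∀ a b, ψ (Nat.xor a b) = ψ a + ψ b) :
    (GolayPt → ZMod 2) →+ V :=
  AddMonoidHom.mk' (fun w => ∑ p, if w p = 0 then 0 else ψ (labN lab p)) fun v w => by
    have h0 : ψ 0 = 0 := by
      have := hx 0 0
      rw [show Nat.xor 0 0 = 0 from rfl] at this
      exact left_eq_add.1 this
    have h2 : ∀ a, ψ a + ψ a = 0 := fun a => by
      rw [← hx, show Nat.xor a a = 0 from Nat.xor_self a, h0]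
    rw [← Finset.sum_add_distrib]
    refine Finset.sum_congr rfl fun p _ => ?_
    show (if v p + w p = 0 then 0 else ψ (labN lab p)) = _
    rcases (by decide : ∀ a : ZMod 2, a = 0 ∨ a = 1) (v p) with e | e <;>
      rcases (by decide : ∀ a : ZMod 2, a = 0 ∨ a = 1) (w p) with e' | e' <;> rw [e, e'] <;>
      simp [show (1 : ZMod 2) + 1 = 0 by decide, h2]

/-- The word supported on the fixed point. -/
def dlt (c : ZMod 2) : GolayPt → ZMod 2 := fun p => if p = none then c else 0

/-- The parity. -/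
def par : (GolayPt → ZMod 2) →+ ZMod 2 :=
  AddMonoidHom.mk' (fun w => ∑ p, w p) fun _ _ => Finset.sum_add_distrib

theorem par_apply (w : GolayPt → ZMod 2) : par w = ∑ p, w p := rfl

theorem par_dlt (c : ZMod 2) : par (dlt c) = c := by
  rw [par_apply]
  simp [dlt]

section

variable {lab : List ℕ} {spanC : List (List ℕ)} {R : List ℕ}
variable {ψ : ℕ → V} (hx : ∀ a b, ψ (Nat.xor a b) = ψ a + ψ b)
include hx

theorem psi0 : ψ 0 = 0 := by
  have := hx 0 0
  rw [show Nat.xor 0 0 = 0 from rfl] at this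
  exact left_eq_add.1 this

theorem Lc_ind (s : Finset GolayPt) : Lc lab ψ hx (ind s) = ∑ p ∈ s, ψ (labN lab p) := by
  show (∑ p, if ind s p = 0 then 0 else ψ (labN lab p)) = _
  rw [← Finset.sum_subset (Finset.subset_univ s) fun p _ hp => by simp [ind, hp]]
  exact Finset.sum_congr rfl fun p hp => by simp [ind, hp]

theorem foldr_psi (f : ℕ → ℕ) (l : List ℕ) :
    ψ (l.foldr (fun q r => Nat.xor (f q) r) 0) = (l.map fun q => ψ (f q)).sum := by
  induction l with
  | nil => exact psi0 hx
  | cons a l ih => rw [List.foldr_cons, hx, ih, List.map_cons, List.sum_cons]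

theorem Lc_list {l : List ℕ} {g : ℕ → GolayPt} (hnd : (l.map g).Nodup) :
    Lc lab ψ hx (ind (l.map g).toFinset) = (l.map fun q => ψ (labN lab (g q))).sum := by
  rw [Lc_ind, List.sum_toFinset _ hnd, List.map_map]
  rfl

theorem Lc_code (hT : tablesOK lab spanC R = true) {w : GolayPt → ZMod 2} (hw : w ∈ golayCode) : Lc lab ψ hx w = 0 ∧ ∑ p, w p = 0 := by
  obtain ⟨hqr, hall, -⟩ := tables_facts hT
  unfold golayCode at hw
  induction hw using Submodule.span_induction with
  | mem w hw =>
    rcases hw with ⟨t, rfl⟩ | hw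
    · obtain ⟨hnd, hval, hp⟩ := qr_supp t
      have e : qrWord t = ind (squares.map fun q : ℕ => (some ((q : ZMod 23) + t) : GolayPt)).toFinset := by
        funext p
        rw [hp p]
        simp only [ind, List.mem_toFinset]
      refine ⟨?_, ?_⟩
      · rw [e, Lc_list hx hnd]
        have h2 := hqr t.val (ZMod.val_lt t)
        rw [List.map_congr_left (g := fun q => ψ (lab.getD ((q + t.val) % 23) 0)) fun q hq => by
          show ψ (lab.getD _ 0) = _
          rw [hval q hq], ← foldr_psi hx, h2, psi0 hx]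
      · have : ∀ t : ZMod 23, ∑ p, qrWord t p = 0 := by decide +kernel
        exact this t
    · rw [Set.mem_singleton_iff] at hw
      subst hw
      obtain ⟨hnd, hmem, hval⟩ := all_pts
      refine ⟨?_, by decide +kernel⟩
      have e : (1 : GolayPt → ZMod 2) =
          ind ((none : GolayPt) :: (List.range 23).map fun x : ℕ => (some (x : ZMod 23) : GolayPt)).toFinset := by
        funext p
        rw [ind, if_pos (List.mem_toFinset.2 (hmem p))]
        rfl
      rw [e, Lc_ind, List.sum_toFinset _ hnd, List.map_cons, List.sum_cons, List.map_map,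
        show ψ (labN lab none) = 0 from psi0 hx, zero_add,
        List.map_congr_left (g := fun x => ψ (lab.getD x 0)) fun x hx' => by
          show ψ (lab.getD _ 0) = _
          rw [hval x (List.mem_range.1 hx')], ← foldr_psi hx, hall, psi0 hx]
  | zero => exact ⟨map_zero _, by simp⟩
  | add a b _ _ ha hb =>
    refine ⟨by rw [map_add, ha.1, hb.1, add_zero], ?_⟩
    simp only [Pi.add_apply, Finset.sum_add_distrib, ha.2, hb.2, add_zero]
  | smul c a _ ha =>
    rcases (by decide : ∀ a : ZMod 2, a = 0 ∨ a = 1) c with rfl | rfl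
    · rw [zero_smul]; exact ⟨map_zero _, by simp⟩
    · rw [one_smul]; exact ha

theorem duad_eq {p q : GolayPt} (hpq : p ≠ q) :
    duad (Lc lab ψ hx) p q = ψ (Nat.xor (labN lab p) (labN lab q)) := by
  rw [duad, Lc_ind, Finset.sum_pair hpq, hx]

variable (hT : tablesOK lab spanC R = true)
variable (hinj : ∀ i < 2048, ∀ j < 2048, ψ i = ψ j → i = j) (hsurj : ∀ v, ∃ i < 2048, ψ i = v)
include hT hinj hsurj

/-- The coordinates give the cocode. -/
theorem cocode : IsCocode (Lc lab ψ hx) ∧
    (∀ v, ∃ s : Finset GolayPt, 2 ∣ s.card ∧ Lc lab ψ hx (ind s) = v) ∧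
    ∀ v, v ∈ duads (Lc lab ψ hx) ↔ ∃ r ∈ R, ψ r = v := by
  classical
  set L := Lc lab ψ hx with hL
  have hpar : ∀ s : Finset GolayPt, par (ind s) = (s.card : ZMod 2) := fun s => by
    rw [par_apply]
    simp [ind]
  have hev : ∀ s : Finset GolayPt, 2 ∣ s.card ↔ par (ind s) = 0 := fun s => by
    rw [hpar]; exact (ZMod.natCast_eq_zero_iff _ 2).symm
  have hsupp : ∀ w : GolayPt → ZMod 2, ind (support₂ w) = w := ind_support₂
  have hnone : ∀ c : ZMod 2, L (dlt c) = 0 := fun c => by
    show (∑ p, if dlt c p = 0 then 0 else ψ (labN lab p)) = 0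
    refine Finset.sum_eq_zero fun p _ => ?_
    by_cases hp : p = none
    · subst hp
      split_ifs
      · rfl
      · exact psi0 hx
    · rw [dlt, if_neg hp, if_pos rfl]
  have heven : ∀ w, ∃ w', par w' = 0 ∧ L w' = L w := fun w =>
    ⟨w + dlt (par w), by rw [map_add, par_dlt]; exact (by decide : ∀ a : ZMod 2, a + a = 0) _,
      by rw [map_add, hnone, add_zero]⟩
  have hLsurj : Function.Surjective L := by
    obtain ⟨-, -, hspn, -, -⟩ := tables_facts hT
    have hj : ∀ j < 11, ψ (2 ^ j) ∈ L.range := by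
      intro j hj
      obtain ⟨hb, hn, h2⟩ := hspn j hj
      refine ⟨_, (Lc_list hx (span_pts hb hn)).trans ?_⟩
      rw [List.map_congr_left (g := fun x => ψ (lab.getD x 0)) fun x hx' => by
        show ψ (lab.getD _ 0) = _
        rw [all_pts.2.2 x (hb x hx')], ← foldr_psi hx, h2]
      show ψ (Nat.shiftLeft 1 j) = _
      rw [show Nat.shiftLeft 1 j = 2 ^ j from Nat.one_shiftLeft j]
    have hall : ∀ i < 2048, ψ i ∈ L.range := by
      intro i
      induction i using Nat.strong_induction_on with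
      | _ i ih =>
        intro hi
        rcases eq_or_ne i 0 with rfl | h0
        · rw [psi0 hx]; exact L.range.zero_mem
        · obtain ⟨e, hlt, hl⟩ := bits_eleven i hi h0
          rw [← e, hx]
          exact L.range.add_mem (hj _ hl) (ih _ hlt (hlt.trans hi))
    intro v
    obtain ⟨i, hi, rfl⟩ := hsurj v
    exact hall i hi
  have hspan : ∀ v, ∃ s : Finset GolayPt, 2 ∣ s.card ∧ L (ind s) = v := fun v => by
    obtain ⟨w, rfl⟩ := hLsurj v
    obtain ⟨w', h1, h2⟩ := heven w
    exact ⟨support₂ w', by rw [hev, hsupp]; exact h1, by rw [hsupp]; exact h2⟩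
  refine ⟨?_, hspan, fun v => ?_⟩
  · -- the kernel on the even words is the code
    have hVfin : Finite V := Finite.of_surjective _ hLsurj
    have hVcard : Nat.card V = 2048 := by
      let f : Fin 2048 → V := fun i => ψ i
      rw [← Nat.card_congr (Equiv.ofBijective f ⟨fun a b e => Fin.ext (hinj a a.2 b b.2 e),
        fun v => by obtain ⟨i, hi, e⟩ := hsurj v; exact ⟨⟨i, hi⟩, e⟩⟩), Nat.card_fin]
    let L' : par.ker →+ V := L.comp par.ker.subtype
    have hL' : L'.range = ⊤ := by
      refine eq_top_iff.2 fun v _ => ?_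
      obtain ⟨w, rfl⟩ := hLsurj v
      obtain ⟨w', h1, h2⟩ := heven w
      exact ⟨⟨w', h1⟩, h2⟩
    have hEcard : Nat.card par.ker = 8388608 := by
      have h1 := par.ker.card_mul_index
      have hps : par.range = ⊤ := eq_top_iff.2 fun c _ => ⟨dlt c, par_dlt c⟩
      rw [AddSubgroup.index_ker, hps, AddSubgroup.card_top, Nat.card_zmod, Nat.card_fun, Nat.card_zmod,
        show Nat.card GolayPt = 24 by rw [Nat.card_eq_fintype_card]; rfl] at h1
      omega
    have hker : Nat.card L'.ker = 4096 := by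
      have h1 := L'.ker.card_mul_index
      rw [AddSubgroup.index_ker, hL', AddSubgroup.card_top, hVcard, hEcard] at h1
      omega
    let f : golayCode → L'.ker := fun w => ⟨⟨w.1, (Lc_code hx hT w.2).2⟩, (Lc_code hx hT w.2).1⟩
    have hf : Function.Injective f := fun a b e =>
      Subtype.ext (congrArg (fun x : L'.ker => (x.1 : GolayPt → ZMod 2)) e)
    haveI : Finite L'.ker := Nat.finite_of_card_ne_zero (by rw [hker]; norm_num)
    have hbij := (Nat.bijective_iff_injective_and_card f).2 ⟨hf, by rw [GolayBasic.card_golayCode, hker]⟩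
    intro s hs
    refine ⟨fun h0 => ?_, fun hc => (Lc_code hx hT hc).1⟩
    obtain ⟨w, hw⟩ := hbij.2 ⟨⟨ind s, (hev s).1 hs⟩, h0⟩
    have : w.1 = ind s := congrArg (fun x : L'.ker => (x.1 : GolayPt → ZMod 2)) hw
    exact this ▸ w.2
  · obtain ⟨-, -, -, hd1, hd2⟩ := tables_facts hT
    obtain ⟨hp, hpi, hps⟩ := pidx_facts
    constructor
    · rintro ⟨p, q, hpq, rfl⟩
      refine ⟨Nat.xor (labN lab p) (labN lab q), ?_, (duad_eq hx hpq).symm⟩
      rw [labN_pidx, labN_pidx]
      exact hd1 _ (hp p) _ (hp q) fun e => hpq (hpi p q e)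
    · rintro ⟨r, hr, rfl⟩
      obtain ⟨a, ha, b, hb, hne, he⟩ := hd2 r hr
      obtain ⟨p, rfl⟩ := hps a ha
      obtain ⟨q, rfl⟩ := hps b hb
      have hpq : p ≠ q := fun e => hne (by rw [e])
      exact ⟨p, q, hpq, by rw [duad_eq hx hpq, labN_pidx, labN_pidx, he]⟩

end

end Cfsg.Agent.GolayCocodeTables22
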