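import Cfsg.Agent.Lib.GolaySteiner
import Cfsg.Agent.Lib.AbstractGolay

/-!
The coset structure and the puncturing of the length-24 code.
-/

set_option autoImplicit false

namespace Cfsg.Agent.GolayCosets

open Cfsg Cfsg.Agent.GolayBasic Cfsg.Agent.AbstractGolay

/-- Renumbering of coordinates. -/
def renum : (GolayPt → ZMod 2) ≃ₗ[ZMod 2] (Fin 24 → ZMod 2) :=
  LinearEquiv.funCongrLeft (ZMod 2) (ZMod 2) idxEquiv.symm

theorem renum_apply (w : GolayPt → ZMod 2) (i : Fin 24) : renum w i = w (idxEquiv.symm i) := rfl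

theorem hammingNorm_renum (w : GolayPt → ZMod 2) : hammingNorm (renum w) = hammingNorm w := by
  unfold hammingNorm
  refine Finset.card_equiv idxEquiv.symm fun i => ?_
  exact ⟨fun h => Finset.mem_filter.2 ⟨Finset.mem_univ _, (Finset.mem_filter.1 h).2⟩,
    fun h => Finset.mem_filter.2 ⟨Finset.mem_univ _, (Finset.mem_filter.1 h).2⟩⟩

/-- The renumbered code. -/
noncomputable abbrev code : Submodule (ZMod 2) (Fin 24 → ZMod 2) :=
  golayCode.map (renum : (GolayPt → ZMod 2) →ₗ[ZMod 2] (Fin 24 → ZMod 2))

theorem renum_mem {w : GolayPt → ZMod 2} : renum w ∈ code ↔ w ∈ golayCode := by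
  refine ⟨fun h => ?_, fun h => ⟨w, h, rfl⟩⟩
  obtain ⟨v, hv, e⟩ := Submodule.mem_map.1 h
  exact renum.injective e ▸ hv

theorem isGolay : IsGolay code where
  dim := by rw [LinearEquiv.finrank_map_eq, finrank_golayCode]
  orth := by
    rintro _ ⟨v, hv, rfl⟩ _ ⟨w, hw, rfl⟩
    have := dot_eq_zero hv hw
    rw [← this]
    exact Equiv.sum_comp idxEquiv.symm (fun p => v p * w p)
  min := by
    rintro _ ⟨w, hw, rfl⟩ hne
    show 8 ≤ hammingNorm (renum w)
    rw [hammingNorm_renum]
    have hpos : hammingNorm w ≠ 0 := fun h => hne (by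
      rw [hammingNorm_eq_zero.1 h]; exact map_zero renum)
    rcases hammingNorm_cases hw with h | h | h | h | h <;> omega

/-- The puncturing of a word at the extra point. -/
def punct (w : GolayPt → ZMod 2) : ZMod 23 → ZMod 2 := fun x => w (some x)

theorem hammingNorm_punct (w : GolayPt → ZMod 2) :
    hammingNorm (punct w) + (if w none ≠ 0 then 1 else 0) = hammingNorm w := by
  unfold hammingNorm
  rw [Finset.card_filter, Finset.card_filter, Fintype.sum_option, add_comm]
  rfl

theorem punct_le (w : GolayPt → ZMod 2) : hammingNorm w ≤ hammingNorm (punct w) + 1 := by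
  have := hammingNorm_punct w
  split_ifs at this <;> omega

theorem seven_le {w : GolayPt → ZMod 2} (hw : w ∈ golayCode) (hne : punct w ≠ 0) :
    7 ≤ hammingNorm (punct w) := by
  have h1 := punct_le w
  have hpos : hammingNorm w ≠ 0 := fun h => hne (by
    rw [hammingNorm_eq_zero.1 h]; rfl)
  rcases hammingNorm_cases hw with h | h | h | h | h <;> omega

theorem punct_injOn : Set.InjOn punct (golayCode : Set (GolayPt → ZMod 2)) := by
  intro v hv w hw h
  by_contra hne
  have hd : punct (v - w) = 0 := by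
    funext x
    show v (some x) - w (some x) = 0
    rw [show v (some x) = w (some x) from congrFun h x, sub_self]
  have h1 := punct_le (v - w)
  have hpos : hammingNorm (v - w) ≠ 0 := fun h => hne (sub_eq_zero.1 (hammingNorm_eq_zero.1 h))
  have hn0 : hammingNorm (punct (v - w)) = 0 := hammingNorm_eq_zero.2 hd
  rcases hammingNorm_cases (golayCode.sub_mem hv hw) with h | h | h | h | h <;> omega

theorem punct_word (m : ℕ) :
    hammingNorm (punct (word m)) = wt (m &&& 8388607) := by
  have h1 := hammingNorm_punct (word m)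
  rw [hammingNorm_word] at h1
  have hn : idx (none : GolayPt) = 23 := rfl
  have hbit : ∀ i, (m &&& 8388607).testBit i = (m.testBit i && decide (i < 23)) := fun i => by
    rw [Nat.testBit_and, show (8388607 : ℕ) = 2 ^ 23 - 1 by norm_num, Nat.testBit_two_pow_sub_one]
  have e := fun k => wt_eq_sum k
  have hs : ∀ (k n : ℕ), n = 23 → wt k = (∑ i ∈ Finset.range n, (k.testBit i).toNat) + (k.testBit n).toNat := by
    intro k n hn
    rw [e k, ← Finset.sum_range_succ (fun i => (k.testBit i).toNat) n]
    congr 2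
    omega
  have h2 : wt m = wt (m &&& 8388607) + (if m.testBit (idx (none : GolayPt)) then 1 else 0) := by
    rw [hs m (idx none) hn, hs (m &&& 8388607) (idx none) hn, hbit, hn,
      decide_eq_false (lt_irrefl 23), Bool.and_false, Bool.toNat_false, add_zero]
    have heq : ∀ i ∈ Finset.range 23, ((m &&& 8388607).testBit i).toNat = (m.testBit i).toNat := by
      intro i hi
      rw [hbit, decide_eq_true (Finset.mem_range.1 hi), Bool.and_true]
    rw [Finset.sum_congr rfl heq]
    cases m.testBit 23 <;> rfl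
  rw [word_apply] at h1
  generalize idx (none : GolayPt) = n at h1 h2
  cases hb : m.testBit n <;> simp [hb] at h1 h2 ⊢ <;>
  omega

theorem ncard_punct (n : ℕ) :
    {u : ZMod 23 → ZMod 2 | u ∈ {u : ZMod 23 → ZMod 2 | ∃ w ∈ golayCode, ∀ x : ZMod 23, u x = w (some x)}
      ∧ hammingNorm u = n}.ncard =
      ((List.range 4096).filter fun x => wt (enc x &&& 8388607) == n).length := by
  have e : {u : ZMod 23 → ZMod 2 | u ∈ {u : ZMod 23 → ZMod 2 | ∃ w ∈ golayCode, ∀ x : ZMod 23, u x = w (some x)}
      ∧ hammingNorm u = n} =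
      ((((List.range 4096).filter fun x => wt (enc x &&& 8388607) == n).map
        fun x => punct (word (enc x))).toFinset : Set (ZMod 23 → ZMod 2)) := by
    ext u
    simp only [Set.mem_ofPred_eq, Finset.mem_coe, List.mem_toFinset, List.mem_map, List.mem_filter,
      List.mem_range, beq_iff_eq]
    constructor
    · rintro ⟨⟨w, hw, hu⟩, hn⟩
      obtain ⟨x, hx, rfl⟩ := exists_enc hw
      have : u = punct (word (enc x)) := funext hu
      exact ⟨x, ⟨hx, by rw [← punct_word, ← this, hn]⟩, this.symm⟩
    · rintro ⟨x, ⟨hx, hn⟩, rfl⟩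
      exact ⟨⟨_, word_enc_mem hx, fun _ => rfl⟩, by rw [punct_word, hn]⟩
  rw [e, Set.ncard_coe_finset, List.toFinset_card_of_nodup, List.length_map]
  refine List.Nodup.map_on (fun x hx y hy he => ?_) (List.nodup_range.filter _)
  have hx' := List.mem_range.1 (List.mem_filter.1 hx).1
  have hy' := List.mem_range.1 (List.mem_filter.1 hy).1
  have := punct_injOn (word_enc_mem hx') (word_enc_mem hy') he
  rw [← enc_and hx', ← enc_and hy', word_inj (enc_lt hx') (enc_lt hy') this]

/-- Every word of length 23 is within distance three of exactly one punctured codeword. -/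
theorem perfect (u : ZMod 23 → ZMod 2) :
    ∃! c : ZMod 23 → ZMod 2,
      c ∈ {u : ZMod 23 → ZMod 2 | ∃ w ∈ golayCode, ∀ x : ZMod 23, u x = w (some x)} ∧
        hammingDist u c ≤ 3 := by
  let w₀ : GolayPt → ZMod 2 := fun p => p.elim 0 u
  obtain ⟨v', hv', h3⟩ := isGolay.leader (idxEquiv none) (renum w₀)
  obtain ⟨v, rfl⟩ := renum.surjective v'
  rw [← map_sub, renum_mem] at hv'
  have hdist : hammingNorm (punct v) ≤ 3 := by
    refine le_trans ?_ h3
    unfold hammingNorm
    refine Finset.card_le_card_of_injOn (fun x => idxEquiv (some x)) ?_ ?_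
    · intro x hx
      have hx' : v (some x) ≠ 0 := (Finset.mem_filter.1 (Finset.mem_coe.1 hx)).2
      refine Finset.mem_coe.2 (Finset.mem_erase.2 ⟨fun h => ?_, Finset.mem_filter.2 ⟨Finset.mem_univ _, ?_⟩⟩)
      · cases idxEquiv.injective h
      · rw [renum_apply, Equiv.symm_apply_apply]; exact hx'
    · exact fun x _ y _ h => Option.some.inj (idxEquiv.injective h)
  have hval : ∀ x, -u x + (u x - v (some x)) = v (some x) := fun x => by
    rw [sub_eq_add_neg, neg_add_cancel_left, ZMod.neg_eq_self_mod_two]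
  refine ⟨punct (w₀ - v), ⟨⟨w₀ - v, by rw [← neg_sub]; exact golayCode.neg_mem hv',
    fun _ => rfl⟩, ?_⟩, ?_⟩
  · rw [hammingDist_eq_hammingNorm,
      show -u + punct (w₀ - v) = punct v from funext hval]
    exact hdist
  · rintro c ⟨⟨w, hw, hc⟩, hd⟩
    obtain rfl : c = punct w := funext hc
    by_contra hne
    have hd' : hammingDist u (punct (w₀ - v)) ≤ 3 := by
      rw [hammingDist_eq_hammingNorm,
        show -u + punct (w₀ - v) = punct v from funext hval]
      exact hdist
    have htri := hammingDist_triangle_left (punct w) (punct (w₀ - v)) u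
    have hsub : punct ((w₀ - v) - w) = punct (w₀ - v) - punct w := rfl
    have h7 := seven_le (w := (w₀ - v) - w)
      (golayCode.sub_mem (by rw [← neg_sub]; exact golayCode.neg_mem hv') hw)
      (by rw [hsub, sub_ne_zero]; exact Ne.symm hne)
    rw [hsub, sub_eq_add_neg, add_comm, ← hammingDist_eq_hammingNorm] at h7
    omega

/-- The words of weight at most four of a coset. -/
theorem coset_cases (w : GolayPt → ZMod 2) :
    ({v : GolayPt → ZMod 2 | hammingNorm v ≤ 4 ∧ w - v ∈ golayCode}.ncard = 1 ∧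
      ∃ v : GolayPt → ZMod 2, hammingNorm v ≤ 3 ∧ w - v ∈ golayCode) ∨
    ({v : GolayPt → ZMod 2 | hammingNorm v ≤ 4 ∧ w - v ∈ golayCode}.ncard = 6 ∧
      ∀ v : GolayPt → ZMod 2, w - v ∈ golayCode → hammingNorm v ≤ 4 → hammingNorm v = 4) := by
  have e : {u : Fin 24 → ZMod 2 | u - renum w ∈ code ∧ hammingNorm u ≤ 4} =
      renum '' {v : GolayPt → ZMod 2 | hammingNorm v ≤ 4 ∧ w - v ∈ golayCode} := by
    ext u
    obtain ⟨v, rfl⟩ := renum.surjective u
    rw [renum.injective.mem_set_image, Set.mem_ofPred_eq, Set.mem_ofPred_eq, hammingNorm_renum,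
      ← map_sub, renum_mem, ← neg_sub, neg_mem_iff, and_comm]
  rcases isGolay.coset (renum w) with ⟨u, hu, hu3⟩ | ⟨h6, h4⟩
  · left
    obtain ⟨v, rfl⟩ := renum.surjective u
    rw [e] at hu
    have hm : v ∈ {v : GolayPt → ZMod 2 | hammingNorm v ≤ 4 ∧ w - v ∈ golayCode} := by
      rw [← renum.injective.mem_set_image, hu]; rfl
    refine ⟨?_, v, by rwa [hammingNorm_renum] at hu3, hm.2⟩
    rw [← Set.ncard_image_of_injective _ renum.injective, hu, Set.ncard_singleton]
  · right
    rw [e] at h6 h4
    refine ⟨by rwa [Set.ncard_image_of_injective _ renum.injective] at h6, fun v hv hv4 => ?_⟩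
    have := (h4 (renum v) ⟨v, ⟨hv4, hv⟩, rfl⟩).1
    rwa [hammingNorm_renum] at this

end Cfsg.Agent.GolayCosets
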