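/-!
A quaternion subgroup of the stabiliser of a dodecad and three of its points.
-/

namespace Cfsg.Agent.GolayQ8Data

def rotations : List Nat :=
  [984818244535754528103549039458486304, 235249743767511380627629882912348192, 965056821765719142683987426599674912, 226779289883713961998112600821473312]

def reflections : List Nat :=
  [430491809953830578348745543730270240, 815890003859868970351234123462423584, 438086312784835159463788957443311648, 809175256424819485299951201547488288]

end Cfsg.Agent.GolayQ8Data
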