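import Cfsg.Agent.Lib.GolaySearch
import Cfsg.Agent.Lib.GolayStab
import Cfsg.Agent.Lib.GolayOrbit
import Cfsg.Agent.Lib.GolayQ8Data

/-!
The stabiliser of a dodecad and three of its points.
-/

set_option autoImplicit false

namespace Cfsg.Agent.GolayDodTriple

open Cfsg Cfsg.Agent.GolayBasic Cfsg.Agent.GolayPerm Cfsg.Agent.GolaySearch Cfsg.Agent.GolayQ8Data
open scoped Pointwise

/-- constraint: the dodecad is kept and three of its points are fixed -/
def cDod (ims : List ℕ) (v : ℕ) : Bool :=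
  (Nat.testBit 340831 ([23, 0, 12, 14, 16, 17, 1].getD ims.length 0) == Nat.testBit 340831 v) &&
    (!([0, 12, 16].contains ([23, 0, 12, 14, 16, 17, 1].getD ims.length 0)) ||
      v == [23, 0, 12, 14, 16, 17, 1].getD ims.length 0)

/-- the test for the stabiliser -/
noncomputable def memChk (w : List ℕ) : Bool :=
  (pts.all fun i => Nat.testBit 340831 i == Nat.testBit 340831 (app w i)) &&
    [0, 12, 16].all fun b => app w b == b

/-- iterated application -/
noncomputable def itr (w : List ℕ) (n i : ℕ) : ℕ :=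
  @Nat.rec (fun _ => ℕ) i (fun _ r => app w r) n

theorem search_check :
    ((((searchAll cDod).filter memChk).map fun w =>
        pts.all fun i => itr w 9 i == i).count true == 9 &&
      ((searchAll cDod).filter memChk).length == 72 &&
      ((searchAll cDod).filter memChk).all fun w =>
        !(pts.all fun i => itr w 9 i == i) || pts.all fun i => itr w 3 i == i) = true := by
  decide +kernel

/-- the stabiliser of the dodecad and the three points -/
noncomputable def dodStab (d : Finset GolayPt) (p q r : GolayPt) : Subgroup ↥M24 :=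
  MulAction.stabilizer M24 d ⊓ MulAction.stabilizer M24 p ⊓ MulAction.stabilizer M24 q ⊓
    MulAction.stabilizer M24 r

theorem mem_dodStab {d : Finset GolayPt} {p q r : GolayPt} {g : ↥M24} :
    g ∈ dodStab d p q r ↔ g • d = d ∧ (g : Equiv.Perm GolayPt) p = p ∧
      (g : Equiv.Perm GolayPt) q = q ∧ (g : Equiv.Perm GolayPt) r = r := by
  rw [dodStab, Subgroup.mem_inf, Subgroup.mem_inf, Subgroup.mem_inf, and_assoc, and_assoc]
  rfl

/-- membership in the standard copy -/
def Std (g : Equiv.Perm GolayPt) : Prop :=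
  g • mset 340831 = mset 340831 ∧ g (pt 0) = pt 0 ∧ g (pt 12) = pt 12 ∧ g (pt 16) = pt 16

theorem testBit_of_smul {g : Equiv.Perm GolayPt} (h : g • mset 340831 = mset 340831) {b : ℕ}
    (hb : b < 24) : Nat.testBit 340831 b = Nat.testBit 340831 (num g b) := by
  have h1 : pt b ∈ mset 340831 ↔ g (pt b) ∈ mset 340831 := by
    conv_rhs => rw [← h]
    exact (Finset.smul_mem_smul_finset_iff g).symm
  rw [mem_mset, mem_mset, idx_pt hb] at h1
  exact Bool.eq_iff_iff.2 h1

theorem holds_dod {g : Equiv.Perm GolayPt} (h : Std g) : Holds cDod (num g) := by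
  obtain ⟨hd, h0, h12, h16⟩ := h
  have hfix : ∀ b ∈ [0, 12, 16], b < 24 → num g b = b := by
    intro b hb hlt
    simp only [List.mem_cons, List.not_mem_nil, or_false] at hb
    rw [num]
    rcases hb with rfl | rfl | rfl
    · rw [h0, idx_pt hlt]
    · rw [h12, idx_pt hlt]
    · rw [h16, idx_pt hlt]
  have key : ∀ b, b < 24 → ((Nat.testBit 340831 b == Nat.testBit 340831 (num g b)) &&
      (!([0, 12, 16].contains b) || num g b == b)) = true := by
    intro b hb
    rw [Bool.and_eq_true, beq_iff_eq]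
    refine ⟨testBit_of_smul hd hb, ?_⟩
    cases hc : [0, 12, 16].contains b
    · rfl
    · rw [hfix b (List.contains_iff_mem.1 hc) hb]; simp
  exact ⟨key 23 (by norm_num), key 0 (by norm_num), key 12 (by norm_num), key 14 (by norm_num),
    key 16 (by norm_num), key 17 (by norm_num), key 1 (by norm_num)⟩

theorem memChk_iff {w : List ℕ} (hw : w ∈ searchAll cDod) : memChk w = true ↔ Std (wperm w) := by
  have hg := good_of_mem hw
  simp only [memChk, Bool.and_eq_true, List.all_eq_true, beq_iff_eq, mem_pts]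
  constructor
  · rintro ⟨h, hf⟩
    refine ⟨?_, ?_, ?_, ?_⟩
    · refine Finset.eq_of_subset_of_card_le ?_ (by rw [Finset.card_smul_finset])
      intro y hy
      obtain ⟨x, hx, rfl⟩ := Finset.mem_smul_finset.1 hy
      have h1 := wperm_apply hg (idx_lt x)
      rw [pt_idx] at h1
      rw [Equiv.Perm.smul_def, h1.2, mem_mset, idx_pt h1.1, ← h _ (idx_lt x)]
      exact mem_mset.1 hx
    all_goals rw [(wperm_apply hg (by norm_num)).2, hf _ (by simp)]
  · rintro ⟨hd, h0, h12, h16⟩
    refine ⟨fun i hi => ?_, fun b hb => ?_⟩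
    · rw [← num_wperm hw hi]; exact testBit_of_smul hd hi
    · simp only [List.mem_cons, List.not_mem_nil, or_false] at hb
      rcases hb with rfl | rfl | rfl <;> rw [← num_wperm hw (by norm_num), num]
      · rw [h0, idx_pt (by norm_num)]
      · rw [h12, idx_pt (by norm_num)]
      · rw [h16, idx_pt (by norm_num)]

theorem pow_eq_one_iff {w : List ℕ} (hw : w ∈ searchAll cDod) (n : ℕ) :
    (pts.all fun i => itr w n i == i) = true ↔ wperm w ^ n = 1 := by
  have key : ∀ (m : ℕ) {i : ℕ}, i < 24 → itr w m i < 24 ∧ num (wperm w ^ m) i = itr w m i := by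
    intro m
    induction m with
    | zero => intro i hi; exact ⟨hi, by rw [pow_zero, num, Equiv.Perm.one_apply, idx_pt hi]; rfl⟩
    | succ m ih =>
      intro i hi
      obtain ⟨h1, h2⟩ := ih hi
      obtain ⟨h3, h4⟩ := wperm_apply (good_of_mem hw) h1
      refine ⟨h3, ?_⟩
      have h5 : (wperm w ^ m) (pt i) = pt (itr w m i) := by rw [← h2, num, pt_idx]
      rw [pow_succ', num, Equiv.Perm.mul_apply, h5, h4, idx_pt h3]
      rfl
  simp only [List.all_eq_true, beq_iff_eq, mem_pts]
  constructor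
  · intro h
    refine eq_of_num fun i hi => ?_
    rw [(key n hi).2, h i hi, num, Equiv.Perm.one_apply, idx_pt hi]
  · intro h i hi
    rw [← (key n hi).2, h, num, Equiv.Perm.one_apply, idx_pt hi]

theorem std_card : Nat.card {g : Equiv.Perm GolayPt // g ∈ M24 ∧ Std g} = 72 ∧
    Nat.card {g : Equiv.Perm GolayPt // g ∈ M24 ∧ (Std g ∧ g ^ 9 = 1)} = 9 ∧
    ∀ g : Equiv.Perm GolayPt, g ∈ M24 → Std g → g ^ 9 = 1 → g ^ 3 = 1 := by
  have h := search_check
  simp only [Bool.and_eq_true, beq_iff_eq] at h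
  refine ⟨?_, ?_, fun g hg hs h9 => ?_⟩
  · rw [natCard_of_search cDod _ memChk (fun g _ h => holds_dod h) (fun w hw => memChk_iff hw)]
    exact h.1.2
  · rw [natCard_of_search cDod _ (fun w => memChk w && pts.all fun i => itr w 9 i == i)
      (fun g _ h => holds_dod h.1)
      (fun w hw => by rw [Bool.and_eq_true, memChk_iff hw, pow_eq_one_iff hw])]
    refine Eq.trans ?_ h.1.1
    rw [List.count_eq_countP, List.countP_map, List.countP_eq_length_filter,
      List.filter_filter]
    refine congrArg List.length (List.filter_congr fun w _ => ?_)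
    simp [Bool.and_comm]
  · obtain ⟨w, hw, rfl⟩ := exists_of_holds hg (holds_dod hs)
    have h3 := List.all_eq_true.1 h.2 w (List.mem_filter.2 ⟨hw, (memChk_iff hw).2 hs⟩)
    rw [(pow_eq_one_iff hw 9).2 h9, Bool.not_true, Bool.false_or] at h3
    exact (pow_eq_one_iff hw 3).1 h3

/-- the code of an element of the quaternion group -/
def qCode : QuaternionGroup 2 → ℕ
  | .a i => rotations.getD i.val 0
  | .xa i => reflections.getD i.val 0

theorem q_check :
    (∀ x : QuaternionGroup 2, good (qCode x) = true ∧ pmask (qCode x) 340831 = 340831 ∧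
      [0, 12, 16].all (fun b => pimg (qCode x) b == b) = true) ∧
    (∀ x y : QuaternionGroup 2, (pts.all fun i =>
      pimg (qCode x) (pimg (qCode y) i) == pimg (qCode (x * y)) i) = true) ∧
    (∀ x : QuaternionGroup 2, (pts.all fun i => pimg (qCode x) i == i) = true → x = 1) := by
  refine ⟨?_, ?_, ?_⟩ <;> decide +kernel

theorem exists_q8 : ∃ f : QuaternionGroup 2 →* ↥M24, Function.Injective f ∧
    ∀ x, Std (f x : Equiv.Perm GolayPt) := by
  obtain ⟨h1, h2, h3⟩ := q_check
  let f : QuaternionGroup 2 →* ↥M24 := MonoidHom.mk'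
    (fun x => ⟨permOf (qCode x), permOf_mem_M24 (h1 x).1⟩)
    (fun x y => Subtype.ext (eq_of_num fun i hi => by
      have hx := valid_of_good (h1 x).1
      have hy := valid_of_good (h1 y).1
      have hxy := valid_of_good (h1 (x * y)).1
      show num (permOf (qCode (x * y))) i = num (permOf (qCode x) * permOf (qCode y)) i
      rw [num, num, Equiv.Perm.mul_apply, permOf_apply hy, permOf_apply hx, permOf_apply hxy,
        pfun, pfun, pfun, idx_pt hi, idx_pt (pimg_lt hy hi), idx_pt (pimg_lt hxy hi),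
        idx_pt (pimg_lt hx (pimg_lt hy hi))]
      exact (beq_iff_eq.1 (List.all_eq_true.1 (h2 x y) i (mem_pts.2 hi))).symm))
  refine ⟨f, ?_, fun x => ?_⟩
  · rw [injective_iff_map_eq_one]
    intro x hx
    refine h3 x (List.all_eq_true.2 fun i hi => ?_)
    have hi' := mem_pts.1 hi
    have hv := valid_of_good (h1 x).1
    have e : permOf (qCode x) (pt i) = pt i :=
      Equiv.congr_fun (congrArg Subtype.val hx) (pt i)
    rw [permOf_apply hv, pfun, idx_pt hi'] at e
    rw [beq_iff_eq, ← idx_pt (pimg_lt hv hi'), e, idx_pt hi']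
  · obtain ⟨hg, hd, hb⟩ := h1 x
    have hv := valid_of_good hg
    simp only [List.all_eq_true, beq_iff_eq] at hb
    show Std (permOf (qCode x))
    refine ⟨by rw [smul_mset hv, hd], ?_, ?_, ?_⟩
    all_goals rw [permOf_apply hv, pfun, idx_pt (by norm_num), hb _ (by simp)]

/-- the map carrying the standard dodecad and points to the given ones -/
theorem exists_frame {d : Finset GolayPt} (hd : d ∈ dodecads) {p q r : GolayPt} (hp : p ∈ d)
    (hq : q ∈ d) (hr : r ∈ d) (hpq : p ≠ q) (hpr : p ≠ r) (hqr : q ≠ r) :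
    ∃ k : ↥M24, k • mset 340831 = d ∧ (k : Equiv.Perm GolayPt) (pt 0) = p ∧
      (k : Equiv.Perm GolayPt) (pt 12) = q ∧ (k : Equiv.Perm GolayPt) (pt 16) = r := by
  obtain ⟨m, hm, hmd⟩ := GolayM24.exists_smul_eq_dodecad hd
  have hmem : ∀ y ∈ d, m⁻¹ y ∈ Spor.squareDodecad := by
    intro y hy
    rw [← hmd] at hy
    exact Finset.inv_smul_mem_iff.2 hy
  classical
  obtain ⟨s, hs, hs'⟩ : ∃ s, s ∈ d ∧ s ∉ ({p, q, r} : Finset GolayPt) := by
    refine Finset.exists_mem_notMem_of_card_lt_card (lt_of_le_of_lt Finset.card_le_three ?_)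
    rw [hd.2]; norm_num
  obtain ⟨t, ht, ht'⟩ : ∃ t, t ∈ d ∧ t ∉ ({p, q, r, s} : Finset GolayPt) := by
    refine Finset.exists_mem_notMem_of_card_lt_card (lt_of_le_of_lt Finset.card_le_four ?_)
    rw [hd.2]; norm_num
  simp only [Finset.mem_insert, Finset.mem_singleton, not_or] at hs' ht'
  have hinj : Function.Injective ![m⁻¹ p, m⁻¹ q, m⁻¹ r, m⁻¹ s, m⁻¹ t] := by
    refine List.nodup_ofFn.1 ?_
    simp [List.ofFn_succ, hpq, hpr, hqr, Ne.symm hs'.1, Ne.symm hs'.2.1, Ne.symm hs'.2.2,
      Ne.symm ht'.1, Ne.symm ht'.2.1, Ne.symm ht'.2.2.1, Ne.symm ht'.2.2.2]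
  obtain ⟨g, ⟨hg, hgx⟩, -⟩ := GolayStab.existsUnique_M12 ![pt 0, pt 12, pt 16, pt 1, pt 2]
    ![m⁻¹ p, m⁻¹ q, m⁻¹ r, m⁻¹ s, m⁻¹ t] (List.nodup_ofFn.1 (by decide +kernel)) hinj
    (by
      rw [GolayM24.squareDodecad_eq]
      decide +kernel)
    (by
      intro i
      fin_cases i
      exacts [hmem p hp, hmem q hq, hmem r hr, hmem s hs, hmem t ht])
  obtain ⟨hgM, hgd⟩ := GolayM24.mem_M12.1 hg
  refine ⟨⟨m * g, mul_mem hm hgM⟩, ?_, ?_, ?_, ?_⟩
  · show (m * g) • mset 340831 = d
    rw [mul_smul, hgd, ← GolayM24.squareDodecad_eq, hmd]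
  · show m (g (pt 0)) = p
    rw [show g (pt 0) = m⁻¹ p from hgx 0]
    exact Equiv.apply_symm_apply m p
  · show m (g (pt 12)) = q
    rw [show g (pt 12) = m⁻¹ q from hgx 1]
    exact Equiv.apply_symm_apply m q
  · show m (g (pt 16)) = r
    rw [show g (pt 16) = m⁻¹ r from hgx 2]
    exact Equiv.apply_symm_apply m r

theorem mem_transport {d : Finset GolayPt} {p q r : GolayPt} {k : ↥M24}
    (hd : k • mset 340831 = d) (hp : (k : Equiv.Perm GolayPt) (pt 0) = p)
    (hq : (k : Equiv.Perm GolayPt) (pt 12) = q) (hr : (k : Equiv.Perm GolayPt) (pt 16) = r)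
    (g : ↥M24) : k * g * k⁻¹ ∈ dodStab d p q r ↔ Std (g : Equiv.Perm GolayPt) := by
  have hpt : ∀ x y : GolayPt, (k : Equiv.Perm GolayPt) x = y →
      (((k * g * k⁻¹ : ↥M24) : Equiv.Perm GolayPt) y = y ↔ (g : Equiv.Perm GolayPt) x = x) := by
    intro x y hxy
    show (k : Equiv.Perm GolayPt) ((g : Equiv.Perm GolayPt) ((k : Equiv.Perm GolayPt)⁻¹ y)) = y ↔ _
    rw [← hxy, Equiv.Perm.inv_def, Equiv.symm_apply_apply]
    exact (k : Equiv.Perm GolayPt).injective.eq_iff
  rw [mem_dodStab, hpt _ _ hp, hpt _ _ hq, hpt _ _ hr, ← hd, mul_smul, inv_smul_smul, mul_smul,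
    smul_left_cancel_iff]
  rfl

end Cfsg.Agent.GolayDodTriple
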