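import Cfsg.Agent.Lib.GolayCount
import Cfsg.Agent.Lib.GolayStab

/-!
Suborbits of the point stabiliser on the dodecads through the point.
-/

set_option autoImplicit false

namespace Cfsg.Agent.GolayDodecadSuborbit

open Cfsg Cfsg.Agent.GolayBasic Cfsg.Agent.GolayPerm Cfsg.Agent.GolayOrbitThms Cfsg.Agent.GolayCount
open scoped Pointwise

/-- For each intersection size: a dodecad and elements fixing it and the base dodecad, carrying
point 0 to each of the common points. -/
def mover : ℕ → ℕ × List ℕ
  | 4 => (15974505, [984818244535754528103549039458486304,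
    850957787100678817824971262021601539,
    238264255348471569896948242010178822,
    237209531463606813335889862631556496])
  | 8 => (11472927, [984818244535754528103549039458486304,
    804460641013860791276534436911483009,
    975639104992571006769135230614111362,
    975712628650322320173913517561221155,
    879581833290133219419148834935539204,
    721211629506234600346348330793123852,
    716198068753097483833172470014217616,
    969141267741349536500754137281990738])
  | _ => (8245261, [984818244535754528103549039458486304,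
    734202569349416448621857822121921794,
    232992437742976170035860063694438819,
    974352600408442026640051917252791436,
    228003004429116994833791855479572784,
    317322976814624079559449774969073874])

/-- The certificate check. -/
def mcheck (k : ℕ) : Bool :=
  inCode (mover k).1 && wt (mover k).1 == 12 && wt (340831 &&& (mover k).1) == k &&
    (mover k).2.all (fun P => good P && pmask P 340831 == 340831 && pmask P (mover k).1 == (mover k).1) &&
    pts.all (fun i => !((340831 &&& (mover k).1).testBit i) || (mover k).2.any (fun P => pimg P 0 == i))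

theorem mcheck_ok : mcheck 4 = true ∧ mcheck 8 = true ∧ mcheck 6 = true := by decide +kernel

theorem inter_sizes {X : Finset GolayPt} (hX : X ∈ dodecads) :
    (mset 340831 ∩ X).card ∈ [0, 4, 6, 8, 12] := by
  obtain ⟨x, hx, rfl⟩ := mem_wordsOfWeight.1 hX
  rw [← mset_and, card_mset]
  have h : (ofWeight 12).all (fun x => [0, 4, 6, 8, 12].contains (wt (340831 &&& enc x))) = true := by
    decide +kernel
  exact List.contains_iff_mem.1 (List.all_eq_true.1 h x hx)

theorem transitive_inter (k : ℕ) (hc : mcheck k = true) :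
    ∃ D ∈ dodecads, (mset 340831 ∩ D).card = k ∧ ∀ y ∈ mset 340831 ∩ D, ∃ c ∈ M24,
      c • mset 340831 = mset 340831 ∧ c • D = D ∧ c (pt 0) = y := by
  simp only [mcheck, Bool.and_eq_true, beq_iff_eq, List.all_eq_true] at hc
  obtain ⟨⟨⟨⟨h1, h2⟩, h3⟩, h4⟩, h5⟩ := hc
  refine ⟨mset (mover k).1, (mset_mem_dodecads (inCode_lt h1)).2 ⟨h1, h2⟩,
    by rw [← mset_and, card_mset, h3], fun y hy => ?_⟩
  rw [← mset_and, mem_mset] at hy
  have := h5 (idx y) (mem_pts.2 (idx_lt y))
  rw [hy] at this
  simp only [Bool.not_true, Bool.false_or, List.any_eq_true, beq_iff_eq] at this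
  obtain ⟨P, hP, hPy⟩ := this
  obtain ⟨⟨hg, hk0⟩, hk1⟩ := h4 P hP
  have hv := valid_of_good hg
  refine ⟨permOf P, permOf_mem_M24 hg, by rw [smul_mset hv, hk0], by rw [smul_mset hv, hk1], ?_⟩
  rw [permOf_apply hv, pfun, idx_pt (by norm_num), hPy, pt_idx]

/-- Two dodecads through the base point meeting the base dodecad equally are conjugate. -/
theorem separate_base {X Y : Finset GolayPt} (hX : X ∈ dodecads) (hY : Y ∈ dodecads)
    (hx : pt 0 ∈ X) (hy : pt 0 ∈ Y) (h : (mset 340831 ∩ X).card = (mset 340831 ∩ Y).card) :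
    ∃ g ∈ M24, g (pt 0) = pt 0 ∧ g • mset 340831 = mset 340831 ∧ g • X = Y := by
  classical
  have hd : mset 340831 ∈ dodecads := GolayM24.squareDodecad_eq ▸ GolayM24.squareDodecad_mem
  have h0 : pt 0 ∈ mset 340831 := by decide +kernel
  have hfull : ∀ Z ∈ dodecads, (mset 340831 ∩ Z).card = 12 → Z = mset 340831 := by
    intro Z hZ h12
    have e1 : mset 340831 ∩ Z = Z :=
      Finset.eq_of_subset_of_card_le Finset.inter_subset_right (by rw [h12, hZ.2])
    exact (Finset.eq_of_subset_of_card_le (Finset.inter_eq_right.1 e1) (by rw [hd.2, hZ.2]))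
  have hm : ∀ k, k = 4 ∨ k = 6 ∨ k = 8 → mcheck k = true := by
    rintro k (e | e | e) <;> subst e
    · exact mcheck_ok.1
    · exact mcheck_ok.2.2
    · exact mcheck_ok.2.1
  have hsz := inter_sizes hX
  simp only [List.mem_cons, List.not_mem_nil, or_false] at hsz
  rcases hsz with hk | hk | hk | hk | hk
  · exfalso
    have := Finset.card_pos.2 ⟨pt 0, Finset.mem_inter.2 ⟨h0, hx⟩⟩
    omega
  rotate_left 3
  · rw [hfull X hX hk, hfull Y hY (h ▸ hk)]
    exact ⟨1, one_mem _, by simp, one_smul _ _, one_smul _ _⟩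
  all_goals
    obtain ⟨D, hD, hDk, htr⟩ := transitive_inter _ (by
      exact hm _ (by omega) : mcheck (mset 340831 ∩ X).card = true)
  all_goals
    obtain ⟨a, ha⟩ := dodecad_separate hd D hD X hX hDk
    obtain ⟨b, hb⟩ := dodecad_separate hd D hD Y hY (hDk.trans h)
    have ha0 : (a : ↥M24).1 • mset 340831 = mset 340831 := MulAction.mem_stabilizer_iff.1 a.2
    have hb0 : (b : ↥M24).1 • mset 340831 = mset 340831 := MulAction.mem_stabilizer_iff.1 b.2
    change (a : ↥M24).1 • D = X at ha
    change (b : ↥M24).1 • D = Y at hb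
    obtain ⟨c, hc, hc0, hcD, hca⟩ := htr ((a : ↥M24).1⁻¹ (pt 0)) (by
      rw [Finset.mem_inter]
      constructor
      · rw [← Finset.smul_mem_smul_finset_iff (a : ↥M24).1, ha0, Equiv.Perm.smul_def]
        simpa using h0
      · rw [← Finset.smul_mem_smul_finset_iff (a : ↥M24).1, ha, Equiv.Perm.smul_def]
        simpa using hx)
    obtain ⟨e, he, he0, heD, hea⟩ := htr ((b : ↥M24).1⁻¹ (pt 0)) (by
      rw [Finset.mem_inter]
      constructor
      · rw [← Finset.smul_mem_smul_finset_iff (b : ↥M24).1, hb0, Equiv.Perm.smul_def]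
        simpa using h0
      · rw [← Finset.smul_mem_smul_finset_iff (b : ↥M24).1, hb, Equiv.Perm.smul_def]
        simpa using hy)
    refine ⟨(b : ↥M24).1 * e * c⁻¹ * (a : ↥M24).1⁻¹,
      mul_mem (mul_mem (mul_mem (b : ↥M24).2 he) (inv_mem hc)) (inv_mem (a : ↥M24).2), ?_, ?_, ?_⟩
    · rw [← Equiv.Perm.smul_def, mul_smul, mul_smul, mul_smul, Equiv.Perm.smul_def (a : ↥M24).1⁻¹,
        inv_smul_eq_iff.2 (show (a : ↥M24).1⁻¹ (pt 0) = c • pt 0 from hca.symm),
        show e • pt 0 = (b : ↥M24).1⁻¹ • pt 0 from hea, smul_inv_smul]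
    · rw [mul_smul, mul_smul, mul_smul, inv_smul_eq_iff.2 ha0.symm, inv_smul_eq_iff.2 hc0.symm, he0, hb0]
    · rw [mul_smul, mul_smul, mul_smul, inv_smul_eq_iff.2 ha.symm, inv_smul_eq_iff.2 hcD.symm, heD, hb]

theorem count_through (k c : ℕ)
    (hc : ((ofWeight 12).filter fun x => (enc x).testBit 0 && wt (340831 &&& enc x) == k).length = c) :
    {s : Finset GolayPt | s ∈ dodecads ∧ (pt 0 ∈ s ∧ (mset 340831 ∩ s).card = k)}.ncard = c := by
  rw [ncard_dodecads_filter _ (fun m => m.testBit 0 && wt (340831 &&& m) == k)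
    (fun x _ => by rw [Bool.and_eq_true, beq_iff_eq, ← mset_and, card_mset, mem_mset,
      idx_pt (by norm_num)]), hc]

end Cfsg.Agent.GolayDodecadSuborbit
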