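import Cfsg.Agent.Lib.GolayExtWalk70
import Cfsg.Agent.Lib.CoprimeGaschutz

/-!
Change of lifts, and complements from lifts whose relator values vanish.
-/

set_option autoImplicit false

namespace Cfsg.Agent.GolayExtAdjust70

open Cfsg Cfsg.Agent.GolayBasic Cfsg.Agent.GolayPerm Cfsg.Agent.GolayExtEval70
open Cfsg.Agent.GolayExtWalk70
open Cfsg.Agent.SplitVoltageCert (Tr get)

universe u

/-- the word attached to a generator by a packed adjustment -/
def af (A i : ℕ) : ℕ := (A >>> (11 * i)) &&& 2047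

theorem af_lt (A i : ℕ) : af A i < 2048 := and_lt _

theorem af_xor (A B i : ℕ) : af (A ^^^ B) i = af A i ^^^ af B i := by
  rw [af, af, af, Nat.shiftRight_xor_distrib, Nat.and_xor_distrib_right]

/-- change of a word's value along a walk -/
noncomputable def dv (C : SCert) (A : ℕ) : ℕ → List (ℕ × Bool) → ℕ
  | _, [] => 0
  | j, (i, b) :: l =>
    mapp (get C.Mn (if b then j else get C.pv (4 * j + i))) (af A i) ^^^
      dv C A (if b then get C.nx (4 * j + i) else get C.pv (4 * j + i)) l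

/-- change of all relator values -/
noncomputable def dvec (C : SCert) (A : ℕ) : ℕ :=
  pk C.rels.length (fun r => dv C A 0 (C.rels.getD r []))

theorem dv_lt (C : SCert) (A : ℕ) : ∀ l j, dv C A j l < 2048
  | [], _ => by norm_num [dv]
  | (_, _) :: l, _ => xor_lt (mapp_lt _ _) (dv_lt C A l _)

theorem dv_xor (C : SCert) (A B : ℕ) : ∀ l j, dv C (A ^^^ B) j l = dv C A j l ^^^ dv C B j l
  | [], _ => (Nat.xor_zero 0).symm
  | (_, _) :: l, _ => by
    simp only [dv, af_xor, mapp_xor, dv_xor C A B l, Nat.xor_assoc, Nat.xor_left_comm]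

theorem dvec_xor (C : SCert) (A B : ℕ) : dvec C (A ^^^ B) = dvec C A ^^^ dvec C B := by
  rw [dvec, dvec, dvec, ← pk_xor]
  exact pk_congr _ fun r _ => dv_xor C A B _ _

variable {ok : ℕ → ℕ → Bool} {E : Type u} [Group E] (X : Ext ok E) {C : SCert} (L : ℕ → E)

/-- adjusted lifts -/
def adj (X : Ext ok E) (L : ℕ → E) (A : ℕ) (i : ℕ) : E := X.ι (af A i) * L i

theorem isLift_adj {P : List ℕ} {n : ℕ} (hL : IsLift X P n L) (A : ℕ) : IsLift X P n (adj X L A) :=
  fun i hi => by rw [adj, map_mul, X.π_ι (af_lt A i), one_mul, hL i hi]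

variable (h : SOK ok C) (hL : IsLift X C.P C.n L)
include h hL

theorem wp_adj (A : ℕ) : ∀ (l : List (ℕ × Bool)), (∀ t ∈ l, t.1 < C.n) → ∀ j < C.N,
    sec C L j * wp (adj X L A) l = X.ι (dv C A j l) * (sec C L j * wp L l) := by
  intro l
  induction l with
  | nil => intro _ j _; simp [wp, dv, X.ι_zero]
  | cons t l ih =>
    intro hl j hj
    obtain ⟨i, b⟩ := t
    have hi : i < C.n := hl (i, b) List.mem_cons_self
    have hl' : ∀ t ∈ l, t.1 < C.n := fun t ht => hl t (List.mem_cons_of_mem _ ht)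
    cases b with
    | true =>
      simp only [wp, dv, if_true]
      have hv := volt_lt (C := C) X L (4 * j + i)
      have hs := h.volt_spec X L hL hj hi
      have ih' := ih hl' _ (h.nx_lt hj hi)
      have e : sec C L j * (adj X L A i * wp (adj X L A) l) =
          X.ι (mapp (get C.Mn j) (af A i)) *
            (X.ι (volt C X L (4 * j + i)) * (sec C L (get C.nx (4 * j + i)) * wp (adj X L A) l)) := by
        rw [adj, mul_assoc (X.ι _), ← mul_assoc, h.conj_sec X L hL j hj _ (af_lt A i), mul_assoc,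
          ← mul_assoc (sec C L j), hs]
        simp only [mul_assoc]
      rw [e, ih', X.ι_shuffle hv (dv_lt C A _ _), Nat.xor_comm (volt C X L _),
        ← X.ι_shuffle (dv_lt C A _ _) hv, X.ι_shuffle (mapp_lt _ _) (dv_lt C A _ _),
        ← mul_assoc (X.ι (volt C X L _)), ← hs, mul_assoc (sec C L j)]
    | false =>
      obtain ⟨hd, hd'⟩ := h.pv_lt hj hi
      simp only [wp, dv, Bool.false_eq_true, if_false]
      have hv := volt_lt (C := C) X L (4 * get C.pv (4 * j + i) + i)
      have hs := h.volt_spec X L hL hd hi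
      rw [hd'] at hs
      have ih' := ih hl' _ hd
      have hm := mapp_lt (get C.Mn (get C.pv (4 * j + i))) (af A i)
      have hback : sec C L j * (L i)⁻¹ =
          X.ι (volt C X L (4 * get C.pv (4 * j + i) + i)) * sec C L (get C.pv (4 * j + i)) := by
        rw [mul_inv_eq_iff_eq_mul, mul_assoc, hs, X.ι_shuffle hv hv, Nat.xor_self, X.ι_zero, one_mul]
      have e : sec C L j * ((adj X L A i)⁻¹ * wp (adj X L A) l) =
          X.ι (volt C X L (4 * get C.pv (4 * j + i) + i)) *
            (X.ι (mapp (get C.Mn (get C.pv (4 * j + i))) (af A i)) *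
              (sec C L (get C.pv (4 * j + i)) * wp (adj X L A) l)) := by
        rw [adj, mul_inv_rev, X.ι_inv (af_lt A i), mul_assoc (L i)⁻¹, ← mul_assoc, hback, mul_assoc,
          ← mul_assoc (sec C L (get C.pv (4 * j + i))), h.conj_sec X L hL _ hd _ (af_lt A i)]
        simp only [mul_assoc]
      rw [e, ih', X.ι_shuffle hm (dv_lt C A _ _), X.ι_shuffle hv (xor_lt hm (dv_lt C A _ _)),
        Nat.xor_comm (volt C X L _), ← X.ι_shuffle (xor_lt hm (dv_lt C A _ _)) hv,
        ← mul_assoc (X.ι (volt C X L _)), ← hback, mul_assoc (sec C L j)]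

theorem cvec_adj (A : ℕ) : cvec C X (adj X L A) = dvec C A ^^^ cvec C X L := by
  rw [dvec, cvec, cvec, ← pk_xor]
  refine pk_congr _ fun r hr => ?_
  have hmem : C.rels.getD r [] ∈ C.rels := by
    rw [List.getD_eq_getElem (d := []) (hn := hr)]; exact List.getElem_mem hr
  have hw := wp_adj X L h hL A _ (h.relB _ hmem) 0 h.N_pos
  rw [sec_zero, one_mul, one_mul, cval_spec X L (h.rel_one X L hL hr)] at hw
  rw [X.ι_mul (dv_lt C A _ _) (cval_lt X L _ _)] at hw
  exact cval_eq X _ (xor_lt (dv_lt C A _ _) (cval_lt X L _ _)) hw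

/-- no two nodes carry the same permutation -/
def Distinct (C : SCert) : Prop := ((List.range C.N).map (get C.Pn)).Nodup

theorem exists_subgroup (h0 : cvec C X L = 0) (hinj : ∀ j < C.N, ∀ k < C.N,
    permOf (get C.Pn j) = permOf (get C.Pn k) → j = k) [Finite E] :
    ∃ A : Subgroup E, (∀ g ∈ A, X.π g = 1 → g = 1) ∧ Nat.card (A.map X.π) = C.N := by
  have hv : ∀ j < C.N, ∀ i < C.n, sec C L j * L i = sec C L (get C.nx (4 * j + i)) := by
    intro j hj i hi
    rw [h.volt_spec X L hL hj hi, h.volt_eq X L hL hj hi, h0, ev_zero_right, X.ι_zero, one_mul]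
  let T : Submonoid E :=
    { carrier := {g | ∀ j < C.N, ∃ k < C.N, sec C L j * g = sec C L k}
      one_mem' := fun j hj => ⟨j, hj, mul_one _⟩
      mul_mem' := fun {a b} ha hb j hj => by
        obtain ⟨k, hk, e⟩ := ha j hj
        obtain ⟨m, hm, e'⟩ := hb k hk
        exact ⟨m, hm, by rw [← mul_assoc, e, e']⟩ }
  let A : Subgroup E :=
    { T with
      inv_mem' := fun {g} hg => by
        obtain ⟨n, hn, hpow⟩ : ∃ n, 0 < n ∧ g ^ n = 1 :=
          ⟨orderOf g, orderOf_pos g, pow_orderOf_eq_one g⟩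
        have : g⁻¹ = g ^ (n - 1) := by
          refine inv_eq_of_mul_eq_one_right ?_
          rw [← pow_succ', Nat.sub_add_cancel hn, hpow]
        rw [this]
        exact pow_mem (show g ∈ T from hg) _ }
  have hgen : ∀ i < C.n, L i ∈ A := fun i hi j hj => ⟨_, h.nx_lt hj hi, hv j hj i hi⟩
  have hsec : ∀ j < C.N, sec C L j ∈ A := by
    intro j
    induction j using Nat.strong_induction_on with
    | _ j ih =>
      intro hj
      rcases Nat.eq_zero_or_pos j with rfl | hpos
      · rw [sec_zero]; exact one_mem _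
      · obtain ⟨h1, h2, -, -, -⟩ := h.tree hj hpos
        rw [h.sec_succ L hj hpos]
        exact mul_mem (ih _ h1 (h1.trans hj)) (hgen _ h2)
  have hA : ∀ g ∈ A, ∃ k < C.N, g = sec C L k := fun g hg => by
    obtain ⟨k, hk, e⟩ := hg 0 h.N_pos
    exact ⟨k, hk, by rwa [sec_zero, one_mul] at e⟩
  refine ⟨A, fun g hg h1 => ?_, ?_⟩
  · obtain ⟨k, hk, rfl⟩ := hA g hg
    rw [h.π_sec X L hL k hk, ← h.idP_eq] at h1
    rw [hinj k hk 0 h.N_pos h1, sec_zero]
  · rw [← Nat.card_fin C.N]
    refine (Nat.card_congr (Equiv.ofBijective (fun j : Fin C.N =>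
      (⟨X.π (sec C L j), Subgroup.mem_map_of_mem _ (hsec j j.isLt)⟩ : A.map X.π)) ⟨?_, ?_⟩)).symm
    · intro j k e
      have : X.π (sec C L j) = X.π (sec C L k) := congrArg Subtype.val e
      rw [h.π_sec X L hL j j.isLt, h.π_sec X L hL k k.isLt] at this
      exact Fin.ext (hinj j j.isLt k k.isLt this)
    · rintro ⟨_, g, hg, rfl⟩
      obtain ⟨k, hk, rfl⟩ := hA g hg
      exact ⟨⟨k, hk⟩, rfl⟩

omit h hL in
/-- a subgroup over the 2-subgroup meeting the kernel trivially yields a complement -/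
theorem exists_complement_of_subgroup [Finite E] (A : Subgroup E)
    (hA : ∀ g ∈ A, X.π g = 1 → g = 1) (hcard : Nat.card (A.map X.π) = 128) :
    ∃ H : Subgroup E, H ⊓ X.π.ker = ⊥ ∧ H ⊔ X.π.ker = ⊤ := by
  let πM : E →* ↥Spor.M23 := X.π.codRestrict Spor.M23 X.rng
  have hk : πM.ker = X.π.ker := by
    ext g
    rw [MonoidHom.mem_ker, MonoidHom.mem_ker, ← Subtype.coe_inj]
    rfl
  have hs : Function.Surjective πM := fun s => by
    obtain ⟨g, hg⟩ := X.surj s s.2
    exact ⟨g, Subtype.ext hg⟩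
  have hmem : ∀ a : πM.ker, ∃ x < 2048, X.ι x = (a : E) := fun a =>
    (X.ker _).1 (MonoidHom.mem_ker.1 (show (a : E) ∈ X.π.ker by rw [← hk]; exact a.2))
  have : IsMulCommutative πM.ker := ⟨⟨fun a b => by
    obtain ⟨x, hx, ex⟩ := hmem a
    obtain ⟨y, hy, ey⟩ := hmem b
    apply Subtype.ext
    rw [Subgroup.coe_mul, Subgroup.coe_mul, ← ex, ← ey, X.ι_mul hx hy, X.ι_mul hy hx, Nat.xor_comm]⟩⟩
  have hsup : πM.ker ⊔ A = (A.map πM).comap πM := by
    rw [Subgroup.comap_map_eq, sup_comm]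
  have hcardM : Nat.card (A.map πM) = 128 := by
    rw [← hcard]
    have : (A.map πM).map Spor.M23.subtype = A.map X.π := by
      rw [Subgroup.map_map]; rfl
    rw [← this, Subgroup.card_map_of_injective (Subgroup.subtype_injective _)]
  have hidx : (πM.ker ⊔ A).index = 79695 := by
    rw [hsup, Subgroup.index_comap_of_surjective _ hs]
    have := (A.map πM).card_mul_index
    rw [hcardM, Cfsg.Agent.GolayM24.card_M23] at this
    omega
  have hker : Nat.card πM.ker = 2048 := by
    rw [hk, ← Nat.card_fin 2048]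
    refine (Nat.card_congr (Equiv.ofBijective (fun a : Fin 2048 =>
      (⟨X.ι a, X.π_ι a.isLt⟩ : X.π.ker)) ⟨?_, ?_⟩)).symm
    · exact fun a b e => Fin.ext (X.ι_inj a.isLt b.isLt (congrArg Subtype.val e))
    · rintro ⟨g, hg⟩
      obtain ⟨a, ha, rfl⟩ := (X.ker g).1 hg
      exact ⟨⟨a, ha⟩, rfl⟩
  have hcop : (Nat.card πM.ker).Coprime (πM.ker ⊔ A).index := by
    rw [hker, hidx]; norm_num
  obtain ⟨H, hH⟩ := Cfsg.Agent.CoprimeGaschutz.exists_complement (K := πM.ker) le_sup_left hcop A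
    le_sup_right (by
      rw [eq_bot_iff]
      intro g hg
      rw [hk] at hg
      exact Subgroup.mem_bot.2 (hA g hg.1 hg.2)) rfl
  refine ⟨H, ?_, ?_⟩
  · rw [← hk, inf_comm]; exact hH.disjoint.eq_bot
  · rw [← hk, sup_comm]; exact hH.sup_eq_top

end Cfsg.Agent.GolayExtAdjust70
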