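import Cfsg.Agent.Lib.GolayExtModules70
import Cfsg.Agent.Lib.GolayExtDataV270

/-!
Kernel verification of the certificate data for one of the two modules of the point stabiliser.
-/

set_option autoImplicit false
set_option maxRecDepth 100000
set_option exponentiation.threshold 1024

namespace Cfsg.Agent.GolayExtCertV270

open Cfsg Cfsg.Agent.GolayBasic Cfsg.Agent.GolayPerm Cfsg.Agent.GolayExtEval70
open Cfsg.Agent.GolayExtWalk70 Cfsg.Agent.GolayExtCoset70 Cfsg.Agent.GolayExtPair70
open Cfsg.Agent.GolayExtModules70 Cfsg.Agent.GolayExtDataV270
open Cfsg.Agent.SplitVoltageCert (Tr get)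

theorem sok : SOK ok2 sylow where
  gens := by decide +kernel
  relB := by decide +kernel
  relP := by decide +kernel
  nodes := by decide +kernel
  edges := by decide +kernel
  len := by decide +kernel

theorem s_valid : ((List.range sylow.N).all fun j => valid (get sylow.Pn j)) = true := by
  decide +kernel

theorem s_nodup :
    ((List.range sylow.N).map fun j => pts.map (pimg (get sylow.Pn j))).Nodup := by
  decide +kernel

theorem sylow_ok : Sylow2OK ok2 sylow where
  toSOK := sok
  card := rfl
  rels8 := rfl
  inj := inj_of_nodup s_valid s_nodup

theorem k4_ok : KOK ok2 sylow k4 where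
  gens := by decide +kernel
  cosets := by decide +kernel
  Tpos := by decide +kernel
  rels8 := by decide +kernel
  relsS := by decide +kernel
  relB := by decide +kernel
  nv := by decide +kernel
  nv88 := by decide +kernel
  rep := by decide +kernel
  sF := by decide +kernel
  eqsOK := by decide +kernel
  selsLt := by decide +kernel
  selsG := by decide +kernel
  gLt := by decide +kernel

theorem k5_ok : KOK ok2 sylow k5 where
  gens := by decide +kernel
  cosets := by decide +kernel
  Tpos := by decide +kernel
  rels8 := by decide +kernel
  relsS := by decide +kernel
  relB := by decide +kernel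
  nv := by decide +kernel
  nv88 := by decide +kernel
  rep := by decide +kernel
  sF := by decide +kernel
  eqsOK := by decide +kernel
  selsLt := by decide +kernel
  selsG := by decide +kernel
  gLt := by decide +kernel

universe u

/-- all annihilators -/
def allG : List ℕ := k4.G ++ k5.G

theorem ann : Ann.{u} ok2 sylow allG :=
  Ann.append (ann_of_KOK sok k4_ok) (ann_of_KOK sok k5_ok)

theorem red_ok : RedOK sylow allG red where
  deriv := by decide +kernel
  small := by decide +kernel
  targets := by decide +kernel

end Cfsg.Agent.GolayExtCertV270
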