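import Cfsg.Agent.Lib.GolayExtAdjust70

/-!
Coset graphs over the 2-subgroup: annihilators of the relator values, and the reduction of the
relator values to a normal form.
-/

set_option autoImplicit false
set_option exponentiation.threshold 1024

namespace Cfsg.Agent.GolayExtCoset70

open Cfsg Cfsg.Agent.GolayBasic Cfsg.Agent.GolayPerm Cfsg.Agent.GolayExtEval70
open Cfsg.Agent.GolayExtWalk70 Cfsg.Agent.GolayExtAdjust70
open Cfsg.Agent.SplitVoltageCert (Tr get)

universe u

/-- data of a coset graph; an edge leaving coset `k` by generator `i` has number `4 k + i` -/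
structure KCert where
  T : ℕ
  P : List ℕ
  MG : List ℕ
  Pk : List ℕ
  Mk : List ℕ
  nx : List ℕ
  pv : List ℕ
  par : List ℕ
  words : List (List ℕ)
  vs : List ℕ
  ve : List ℕ
  rels : List (List (ℕ × Bool))
  NV : ℕ
  R1 : ℕ
  eqs : List (ℕ × ℕ)
  eqF : Tr
  sels : List (List (ℕ × ℕ))
  G : List ℕ

/-- a variable word under a matrix -/
def relq (q M : ℕ) : ℕ := if q = 0 then 0 else M <<< (121 * q)

/-- a positive word -/
def posW (w : List ℕ) : List (ℕ × Bool) := w.map fun i => (i, true)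

/-- the inverse of a positive word -/
def negW (w : List ℕ) : List (ℕ × Bool) := w.reverse.map fun i => (i, false)

/-- image of a point number under the product of a word -/
def wim (P : List ℕ) : List ℕ → ℕ → ℕ
  | [], x => x
  | i :: w, x => pimg (P.getD i 0) (wim P w x)

/-- walk through the coset graph: form, node of the 2-subgroup, coset -/
noncomputable def kwalk (C : SCert) (K : KCert) : ℕ → ℕ → List (ℕ × Bool) → ℕ × ℕ × ℕ
  | τ, k, [] => (0, τ, k)
  | τ, k, (i, true) :: l =>
    let e := 4 * k + i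
    let w := posW (K.words.getD e [])
    let res := kwalk C K (nend C τ w) (K.nx.getD e 0) l
    (relq (K.vs.getD e 0) (get C.Mn τ) ^^^ (xsum (get C.F) (wedges C τ w) ^^^ res.1), res.2)
  | τ, k, (i, false) :: l =>
    let p := K.pv.getD (4 * k + i) 0
    let e := 4 * p + i
    let w := negW (K.words.getD e [])
    let τ' := nend C τ w
    let res := kwalk C K τ' p l
    (xsum (get C.F) (wedges C τ w) ^^^ (relq (K.vs.getD e 0) (get C.Mn τ') ^^^ res.1), res.2)

/-- the combination of equations selected -/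
noncomputable def selF (K : KCert) : List (ℕ × ℕ) → ℕ
  | [] => 0
  | (t, u) :: l => uap K.R1 (get K.eqF t) u 11 ^^^ selF K l

/-- a combination of words with coefficients given by functionals -/
def lc : List (ℕ × ℕ) → ℕ → ℕ
  | [], _ => 0
  | (φ, D) :: l, x => (ev 88 φ x &&& 1) * D ^^^ lc l x

/-- checks on generators and cosets -/
noncomputable def cosetChk (ok : ℕ → ℕ → Bool) (C : SCert) (K : KCert) (k : ℕ) : Bool :=
  valid (K.Pk.getD k 0) &&
  (if k = 0 then K.Pk.getD k 0 == C.idP && K.Mk.getD k 0 == C.idM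
   else
    (let e := K.par.getD k 0
     decide (e / 4 < k) && K.nx.getD e 0 == k && K.words.getD e [] == [] && K.vs.getD e 0 == 0 &&
       K.Mk.getD k 0 == mm (K.Mk.getD (e / 4) 0) 11 (K.MG.getD (e % 4) 0))) &&
  decide (K.Mk.getD k 0 < 2 ^ 121) &&
  (List.range 4).all fun i =>
    let e := 4 * k + i
    let w := K.words.getD e []
    let l := K.nx.getD e 0
    let q := K.vs.getD e 0
    decide (l < K.T) && decide (K.pv.getD e 0 < K.T) && K.nx.getD (4 * K.pv.getD e 0 + i) 0 == k &&
      w.all (fun a => decide (a < C.n)) &&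
      pts.all (fun x => pimg (K.Pk.getD k 0) (pimg (K.P.getD i 0) x) ==
        wim C.P w (pimg (K.Pk.getD l 0) x)) &&
      (if q = 0 then
        (decide (0 < l) && K.par.getD l 0 == e) || (k == 0 && l == 0 && decide (i < C.n) && w == [i])
      else decide (K.rels.length ≤ q) && decide (q - K.rels.length < K.ve.length) &&
        K.ve.getD (q - K.rels.length) 0 == e)

/-- the coset graph is consistent -/
structure KOK (ok : ℕ → ℕ → Bool) (C : SCert) (K : KCert) : Prop where
  gens : ((List.range 4).all fun i =>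
      good (K.P.getD i 0) && pimg (K.P.getD i 0) 23 == 23 && ok (K.P.getD i 0) (K.MG.getD i 0) &&
        (decide (C.n ≤ i) || K.P.getD i 0 == C.P.getD i 0)) = true
  cosets : (List.range K.T).all (cosetChk ok C K) = true
  Tpos : 0 < K.T
  rels8 : C.rels.length = 8
  relsS : K.rels.take 8 = C.rels
  relB : ∀ l ∈ K.rels, ∀ t ∈ l, t.1 < 4
  nv : 11 * (K.rels.length + K.ve.length) ≤ K.NV
  nv88 : 88 ≤ K.NV
  rep : K.R1 = rep K.NV
  sF : (List.range C.N).all (fun j => (List.range C.n).all fun i =>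
      decide (get C.F (4 * j + i) < 2 ^ 968)) = true
  eqsOK : (List.range K.eqs.length).all (fun t =>
      let r := (K.eqs.getD t (0, 0)).1
      let k := (K.eqs.getD t (0, 0)).2
      let res := kwalk C K 0 k (K.rels.getD r [])
      decide (r < K.rels.length) && decide (k < K.T) && res.2.1 == 0 && res.2.2 == k &&
        get K.eqF t == (res.1 ^^^ (K.Mk.getD k 0 <<< (121 * r)))) = true
  selsLt : K.sels.all (fun s => s.all fun tu => decide (tu.1 < K.eqs.length)) = true
  selsG : K.sels.map (selF K) = K.G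
  gLt : K.G.all (fun g => decide (g < 2 ^ 968)) = true

variable {ok : ℕ → ℕ → Bool} {E : Type u} [Group E] (X : Ext ok E) {C : SCert} {K : KCert}
  (L : ℕ → E)

theorem wp_append {Γ : Type*} [Group Γ] (x : ℕ → Γ) : ∀ l l' : List (ℕ × Bool),
    wp x (l ++ l') = wp x l * wp x l'
  | [], l' => (one_mul _).symm
  | (i, b) :: l, l' => by rw [List.cons_append, wp, wp, wp_append x l l', mul_assoc]

theorem wp_negW {Γ : Type*} [Group Γ] (x : ℕ → Γ) : ∀ w : List ℕ,
    wp x (negW w) = (wp x (posW w))⁻¹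
  | [] => inv_one.symm
  | i :: w => by
    have e : negW (i :: w) = negW w ++ [(i, false)] := by simp [negW]
    rw [e, wp_append, wp_negW x w]
    simp [posW, wp]

theorem wp_congr {Γ : Type*} [Group Γ] {x y : ℕ → Γ} {n : ℕ} (h : ∀ i < n, x i = y i) :
    ∀ l : List (ℕ × Bool), (∀ t ∈ l, t.1 < n) → wp x l = wp y l
  | [], _ => rfl
  | (i, b) :: l, hl => by
    rw [wp, wp, wp_congr h l fun t ht => hl t (List.mem_cons_of_mem _ ht),
      h i (hl (i, b) List.mem_cons_self)]

theorem isLift_wim {P : List ℕ} {n : ℕ} (hL : IsLift X P n L)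
    (hv : ∀ i < n, valid (P.getD i 0) = true) : ∀ w : List ℕ, (∀ i ∈ w, i < n) → ∀ x < 24,
      wim P w x < 24 ∧ X.π (wp L (posW w)) (pt x) = pt (wim P w x)
  | [], _, x, hx => ⟨hx, by simp [posW, wp, wim]⟩
  | i :: w, hw, x, hx => by
    have hi : i < n := hw i List.mem_cons_self
    obtain ⟨h1, h2⟩ := isLift_wim hL hv w (fun a ha => hw a (List.mem_cons_of_mem _ ha)) x hx
    refine ⟨pimg_lt (hv i hi) h1, ?_⟩
    show X.π (wp L ((i, true) :: posW w)) (pt x) = _
    rw [wp, if_pos rfl, map_mul, Equiv.Perm.mul_apply, h2, hL i hi, permOf_apply (hv i hi), pfun,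
      idx_pt h1, wim]

theorem cval_congr {rels rels' : List (List (ℕ × Bool))} {r : ℕ}
    (h : rels.getD r [] = rels'.getD r []) : cval X L rels r = cval X L rels' r := by
  unfold cval
  revert h
  generalize rels.getD r [] = w
  rintro rfl
  rfl

/-- coset section -/
noncomputable def ksec (K : KCert) (L : ℕ → E) : ℕ → E
  | k => if _h : K.par.getD k 0 / 4 < k then
      ksec K L (K.par.getD k 0 / 4) * L (K.par.getD k 0 % 4) else 1
termination_by k => k

theorem ksec_zero : ksec K L 0 = 1 := by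
  rw [ksec, dif_neg (Nat.not_lt_zero _)]

namespace KOK

variable (h : KOK ok C K) (hS : SOK ok C) (hL : IsLift X K.P 4 L)
include h

theorem coset {k : ℕ} (hk : k < K.T) : cosetChk ok C K k = true :=
  List.all_eq_true.1 h.cosets k (List.mem_range.2 hk)

theorem gen_ok {i : ℕ} (hi : i < 4) :
    valid (K.P.getD i 0) = true ∧ ok (K.P.getD i 0) (K.MG.getD i 0) = true ∧
      (i < C.n → K.P.getD i 0 = C.P.getD i 0) := by
  have := h.gens
  simp only [Bool.and_eq_true, List.all_eq_true, List.mem_range, Bool.or_eq_true,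
    decide_eq_true_eq, beq_iff_eq] at this
  obtain ⟨⟨⟨h1, -⟩, h3⟩, h4⟩ := this i hi
  exact ⟨valid_of_good h1, h3, fun hlt => h4.resolve_left (by omega)⟩

theorem gen_mem {i : ℕ} (hi : i < 4) : permOf (K.P.getD i 0) ∈ Spor.M23 := by
  have := h.gens
  simp only [Bool.and_eq_true, List.all_eq_true, List.mem_range, beq_iff_eq] at this
  obtain ⟨⟨⟨h1, h2⟩, -⟩, -⟩ := this i hi
  refine ⟨permOf_mem_M24 h1, MulAction.mem_stabilizer_iff.2 ?_⟩
  rw [Equiv.Perm.smul_def, permOf_apply (valid_of_good h1)]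
  show pt (pimg _ 23) = none
  rw [h2]; decide +kernel

theorem edge {k i : ℕ} (hk : k < K.T) (hi : i < 4) :
    K.nx.getD (4 * k + i) 0 < K.T ∧ K.pv.getD (4 * k + i) 0 < K.T ∧
      K.nx.getD (4 * K.pv.getD (4 * k + i) 0 + i) 0 = k ∧
      (∀ a ∈ K.words.getD (4 * k + i) [], a < C.n) ∧
      (∀ x < 24, pimg (K.Pk.getD k 0) (pimg (K.P.getD i 0) x) =
        wim C.P (K.words.getD (4 * k + i) []) (pimg (K.Pk.getD (K.nx.getD (4 * k + i) 0) 0) x)) ∧
      ((K.vs.getD (4 * k + i) 0 = 0 ∧
          ((0 < K.nx.getD (4 * k + i) 0 ∧ K.par.getD (K.nx.getD (4 * k + i) 0) 0 = 4 * k + i) ∨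
            (k = 0 ∧ K.nx.getD (4 * k + i) 0 = 0 ∧ i < C.n ∧ K.words.getD (4 * k + i) [] = [i]))) ∨
        (K.rels.length ≤ K.vs.getD (4 * k + i) 0 ∧ K.vs.getD (4 * k + i) 0 ≠ 0 ∧
          K.vs.getD (4 * k + i) 0 - K.rels.length < K.ve.length ∧
          K.ve.getD (K.vs.getD (4 * k + i) 0 - K.rels.length) 0 = 4 * k + i)) := by
  have := h.coset hk
  simp only [cosetChk, Bool.and_eq_true, List.all_eq_true, List.mem_range, decide_eq_true_eq,
    beq_iff_eq] at this
  obtain ⟨⟨⟨⟨⟨a1, a2⟩, a3⟩, a4⟩, a5⟩, a6⟩ := this.2 i hi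
  refine ⟨a1, a2, a3, a4, fun x hx => a5 x (mem_pts.2 hx), ?_⟩
  split_ifs at a6 with hq
  · simp only [Bool.or_eq_true, Bool.and_eq_true, decide_eq_true_eq, beq_iff_eq] at a6
    refine Or.inl ⟨hq, a6.imp id fun h' => ⟨h'.1.1.1, h'.1.1.2, h'.1.2, h'.2⟩⟩
  · simp only [Bool.and_eq_true, decide_eq_true_eq, beq_iff_eq] at a6
    exact Or.inr ⟨a6.1.1, hq, a6.1.2, a6.2⟩

theorem M_lt {k : ℕ} (hk : k < K.T) : K.Mk.getD k 0 < 2 ^ 121 := by
  have := h.coset hk
  simp only [cosetChk, Bool.and_eq_true, decide_eq_true_eq] at this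
  exact this.1.2

theorem valid_node {k : ℕ} (hk : k < K.T) : valid (K.Pk.getD k 0) = true := by
  have := h.coset hk
  simp only [cosetChk, Bool.and_eq_true] at this
  exact this.1.1.1

theorem tree {k : ℕ} (hk : k < K.T) (h0 : 0 < k) :
    K.par.getD k 0 / 4 < k ∧ K.nx.getD (K.par.getD k 0) 0 = k ∧
      K.words.getD (K.par.getD k 0) [] = [] ∧ K.vs.getD (K.par.getD k 0) 0 = 0 ∧
      K.Mk.getD k 0 = mm (K.Mk.getD (K.par.getD k 0 / 4) 0) 11
        (K.MG.getD (K.par.getD k 0 % 4) 0) := by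
  have := h.coset hk
  simp only [cosetChk, Bool.and_eq_true, if_neg h0.ne', decide_eq_true_eq, beq_iff_eq] at this
  obtain ⟨⟨⟨⟨b1, b2⟩, b3⟩, b4⟩, b5⟩ := this.1.1.2
  exact ⟨b1, b2, b3, b4, b5⟩

theorem root : K.Pk.getD 0 0 = C.idP ∧ K.Mk.getD 0 0 = C.idM := by
  have := h.coset h.Tpos
  simp only [cosetChk, Bool.and_eq_true, if_pos, beq_iff_eq] at this
  exact this.1.1.2

theorem ksec_succ {k : ℕ} (hk : k < K.T) (h0 : 0 < k) :
    ksec K L k = ksec K L (K.par.getD k 0 / 4) * L (K.par.getD k 0 % 4) := by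
  rw [ksec, dif_pos (h.tree hk h0).1]

include hL

theorem isLift_S : IsLift X C.P C.n L ∨ 4 < C.n := by
  by_cases hn : C.n ≤ 4
  · exact Or.inl fun i hi => by rw [hL i (by omega), (h.gen_ok (by omega)).2.2 hi]
  · exact Or.inr (by omega)

include hS

theorem liftS : IsLift X C.P C.n L :=
  (h.isLift_S X L hL).resolve_right (by have := hS.n_le; omega)

theorem π_ksec : ∀ k < K.T, X.π (ksec K L k) = permOf (K.Pk.getD k 0) := by
  intro k
  induction k using Nat.strong_induction_on with
  | _ k ih =>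
    intro hk
    rcases Nat.eq_zero_or_pos k with rfl | h0
    · rw [ksec_zero, map_one, h.root.1]
      have := hS.gens
      simp only [gensChk, Bool.and_eq_true, List.all_eq_true, beq_iff_eq] at this
      rw [← this.1.1.2, hS.idP_eq]
    · obtain ⟨h1, h2, h3, -, -⟩ := h.tree hk h0
      have hp := h1.trans hk
      have hi : K.par.getD k 0 % 4 < 4 := Nat.mod_lt _ (by norm_num)
      obtain ⟨e1, -, -, -, e5, -⟩ := h.edge hp hi
      rw [Nat.div_add_mod] at e1 e5
      rw [h2, h3] at e5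
      have hP := (h.gen_ok hi).1
      rw [h.ksec_succ L hk h0, map_mul, ih _ h1 hp, hL _ hi]
      refine Equiv.ext fun p => ?_
      rw [Equiv.Perm.mul_apply, permOf_apply hP, permOf_apply (h.valid_node hp),
        permOf_apply (h.valid_node hk), pfun, pfun, pfun, idx_pt (pimg_lt hP (idx_lt p)),
        e5 _ (idx_lt p)]
      rfl

theorem conj_ksec : ∀ k < K.T, ∀ a < 2048,
    ksec K L k * X.ι a = X.ι (mapp (K.Mk.getD k 0) a) * ksec K L k := by
  intro k
  induction k using Nat.strong_induction_on with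
  | _ k ih =>
    intro hk a ha
    rcases Nat.eq_zero_or_pos k with rfl | h0
    · have hg := hS.gens
      simp only [gensChk, Bool.and_eq_true, List.all_eq_true, beq_iff_eq] at hg
      rw [ksec_zero, h.root.2, ← hg.1.2, hS.idM_apply ha, one_mul, mul_one]
    · obtain ⟨h1, -, -, -, h5⟩ := h.tree hk h0
      have hi : K.par.getD k 0 % 4 < 4 := Nat.mod_lt _ (by norm_num)
      rw [h.ksec_succ L hk h0, mul_assoc, X.conj _ _ _ (h.gen_ok hi).2.1 (hL _ hi) a ha, ← mul_assoc,
        ih _ h1 (h1.trans hk) _ (mapp_lt _ _), h5, mul_assoc]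
      congr 2
      exact (ev_mm _ _ _ _).symm

theorem exists_kvolt {k i : ℕ} (hk : k < K.T) (hi : i < 4) :
    ∃ a < 2048, ksec K L k * L i =
      X.ι a * (wp L (posW (K.words.getD (4 * k + i) [])) * ksec K L (K.nx.getD (4 * k + i) 0)) := by
  refine X.exists_ι ?_
  obtain ⟨e1, -, -, e4, e5, -⟩ := h.edge hk hi
  have hLS := h.liftS X L hS hL
  have hP := (h.gen_ok hi).1
  have hvS : ∀ i < C.n, valid (C.P.getD i 0) = true := fun i hi => valid_of_good (hS.gen_ok hi).1
  rw [map_mul, map_mul, h.π_ksec X L hS hL k hk, hL i hi, h.π_ksec X L hS hL _ e1]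
  refine Equiv.ext fun p => ?_
  rw [Equiv.Perm.mul_apply, Equiv.Perm.mul_apply, permOf_apply hP, permOf_apply (h.valid_node hk),
    permOf_apply (h.valid_node e1), pfun, pfun, pfun, idx_pt (pimg_lt hP (idx_lt p)),
    e5 _ (idx_lt p),
    (isLift_wim X L hLS hvS _ e4 _ (pimg_lt (h.valid_node e1) (idx_lt p))).2]

end KOK

/-- voltage of a coset edge -/
noncomputable def kvolt (K : KCert) (X : Ext ok E) (L : ℕ → E) (e : ℕ) : ℕ :=
  open Classical in
  if h : ∃ a < 2048, ksec K L (e / 4) * L (e % 4) =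
      X.ι a * (wp L (posW (K.words.getD e [])) * ksec K L (K.nx.getD e 0)) then h.choose else 0

theorem kvolt_lt (e : ℕ) : kvolt K X L e < 2048 := by
  rw [kvolt]
  split
  · next h => exact h.choose_spec.1
  · norm_num

/-- all unknowns -/
noncomputable def fields (K : KCert) (X : Ext ok E) (L : ℕ → E) (q : ℕ) : ℕ :=
  if q < K.rels.length then cval X L K.rels q else kvolt K X L (K.ve.getD (q - K.rels.length) 0)

theorem fields_lt (q : ℕ) : fields K X L q < 2048 := by
  rw [fields]; split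
  · exact cval_lt X L _ _
  · exact kvolt_lt X L _

/-- the unknowns packed -/
noncomputable def xvec (K : KCert) (X : Ext ok E) (L : ℕ → E) : ℕ :=
  pk (K.rels.length + K.ve.length) (fields K X L)

namespace KOK

variable (h : KOK ok C K) (hS : SOK ok C) (hL : IsLift X K.P 4 L)
include h hS hL

theorem kvolt_spec {k i : ℕ} (hk : k < K.T) (hi : i < 4) :
    ksec K L k * L i = X.ι (kvolt K X L (4 * k + i)) *
      (wp L (posW (K.words.getD (4 * k + i) [])) * ksec K L (K.nx.getD (4 * k + i) 0)) := by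
  have e1 : (4 * k + i) / 4 = k := by omega
  have e2 : (4 * k + i) % 4 = i := by omega
  obtain ⟨a, ha, hv⟩ := h.exists_kvolt X L hS hL hk hi
  rw [kvolt, dif_pos ⟨a, ha, by rw [e1, e2]; exact hv⟩]
  generalize_proofs hex
  have := hex.choose_spec.2
  simp only [e1, e2] at this ⊢
  exact this

theorem ev_low {F : ℕ} (hF : F < 2 ^ 968) :
    ev K.NV F (xvec K X L) = ev 88 F (cvec C X L) := by
  rw [ev_of_lt (n := 88) h.nv88 (by simpa using hF), ← ev_mod 88, xvec]
  have hlen : 8 ≤ K.rels.length + K.ve.length := by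
    have := congrArg List.length h.relsS
    rw [List.length_take, h.rels8] at this
    omega
  rw [show (88 : ℕ) = 11 * 8 from rfl, pk_low _ hlen (fun i _ => fields_lt X L i), cvec, h.rels8]
  congr 1
  refine pk_congr _ fun r hr => ?_
  have hlen' : 8 ≤ K.rels.length := by
    have := congrArg List.length h.relsS
    rw [List.length_take, h.rels8] at this
    omega
  rw [fields, if_pos (by omega)]
  have : C.rels.getD r [] = K.rels.getD r [] := by
    rw [← h.relsS, List.getD_eq_getElem?_getD, List.getElem?_take_of_lt hr,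
      ← List.getD_eq_getElem?_getD]
  exact cval_congr X L this.symm

theorem ev_relq {τ k i : ℕ} (hτ : τ < C.N) (hk : k < K.T) (hi : i < 4) :
    ev K.NV (relq (K.vs.getD (4 * k + i) 0) (get C.Mn τ)) (xvec K X L) =
      mapp (get C.Mn τ) (kvolt K X L (4 * k + i)) := by
  obtain ⟨-, -, -, -, -, e6⟩ := h.edge hk hi
  rcases e6 with ⟨hq, hcase⟩ | ⟨h1, h2, h3, h4⟩
  · have hz : kvolt K X L (4 * k + i) = 0 := by
      refine X.ι_inj (kvolt_lt X L _) (by norm_num) ?_
      have hv := h.kvolt_spec X L hS hL hk hi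
      rcases hcase with ⟨hpos, hpar⟩ | ⟨rfl, hl, -, hw⟩
      · obtain ⟨hlt, -, -, -, -, -⟩ := h.edge hk hi
        obtain ⟨-, -, hw, -, -⟩ := h.tree hlt hpos
        rw [hpar] at hw
        have hs := h.ksec_succ L hlt hpos
        rw [hpar, show (4 * k + i) / 4 = k by omega, show (4 * k + i) % 4 = i by omega] at hs
        simp only [hw, posW, List.map_nil, wp, one_mul, ← hs] at hv
        rw [X.ι_zero]
        exact mul_eq_right.1 hv.symm
      · simp only [hw, hl, ksec_zero, posW, List.map_cons, List.map_nil, wp, if_true, one_mul,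
          mul_one] at hv
        rw [X.ι_zero]
        exact mul_eq_right.1 hv.symm
    rw [hq, relq, if_pos rfl, ev_zero, hz, mapp_zero]
  · rw [relq, if_neg h2, xvec, ev_field _ (fun q _ => fields_lt X L q)
      (show K.vs.getD (4 * k + i) 0 < K.rels.length + K.ve.length by omega)
      (by have := h.nv; omega) (hS.M_lt hτ), fields, if_neg (by omega), h4]

theorem ev_wedges {τ : ℕ} (hτ : τ < C.N) (w : List (ℕ × Bool)) (hw : ∀ t ∈ w, t.1 < C.n) :
    ev K.NV (xsum (get C.F) (wedges C τ w)) (xvec K X L) =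
      xsum (volt C X L) (wedges C τ w) := by
  rw [ev_xsum]
  have hb := mem_wedges_bound hS w hw τ hτ
  revert hb
  generalize wedges C τ w = l
  intro hb
  induction l with
  | nil => rfl
  | cons e l ih =>
    rw [xsum, xsum, ih fun a ha => hb a (List.mem_cons_of_mem _ ha)]
    congr 1
    obtain ⟨h1, h2⟩ := hb e List.mem_cons_self
    have hF := List.all_eq_true.1 (List.all_eq_true.1 h.sF _ (List.mem_range.2 h1)) _
      (List.mem_range.2 h2)
    rw [decide_eq_true_eq, Nat.div_add_mod] at hF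
    have hv := hS.volt_eq X L (h.liftS X L hS hL) h1 h2
    rw [Nat.div_add_mod] at hv
    rw [h.ev_low X L hS hL hF, hv]

theorem kwalk_spec : ∀ (l : List (ℕ × Bool)), (∀ t ∈ l, t.1 < 4) → ∀ τ < C.N, ∀ k < K.T,
    (kwalk C K τ k l).2.1 < C.N ∧ (kwalk C K τ k l).2.2 < K.T ∧
      sec C L τ * ksec K L k * wp L l = X.ι (ev K.NV (kwalk C K τ k l).1 (xvec K X L)) *
        (sec C L (kwalk C K τ k l).2.1 * ksec K L (kwalk C K τ k l).2.2) := by
  have hLS := h.liftS X L hS hL
  intro l
  induction l with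
  | nil => intro _ τ hτ k hk; exact ⟨hτ, hk, by simp [kwalk, wp, ev_zero, X.ι_zero]⟩
  | cons t l ih =>
    intro hl τ hτ k hk
    obtain ⟨i, b⟩ := t
    have hi : i < 4 := hl (i, b) List.mem_cons_self
    have hl' : ∀ t ∈ l, t.1 < 4 := fun t ht => hl t (List.mem_cons_of_mem _ ht)
    cases b with
    | true =>
      obtain ⟨e1, -, -, e4, -, -⟩ := h.edge hk hi
      have hw : ∀ t ∈ posW (K.words.getD (4 * k + i) []), t.1 < C.n := by
        intro t ht
        obtain ⟨a, ha, rfl⟩ := List.mem_map.1 ht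
        exact e4 a ha
      obtain ⟨w1, w2⟩ := hS.walk X L hLS _ hw τ hτ
      obtain ⟨i1, i2, i3⟩ := ih hl' _ w1 _ e1
      simp only [kwalk, wp, if_true]
      refine ⟨i1, i2, ?_⟩
      rw [ev_xor, ev_xor, h.ev_relq X L hS hL hτ hk hi, h.ev_wedges X L hS hL hτ _ hw,
        ← X.ι_shuffle (mapp_lt _ _) (xor_lt (xsum_lt (fun e => volt_lt X L e) _) (ev_lt _ _ _)),
        ← X.ι_shuffle (xsum_lt (fun e => volt_lt X L e) _) (ev_lt _ _ _), ← i3]
      rw [mul_assoc (sec C L τ), ← mul_assoc (ksec K L k), h.kvolt_spec X L hS hL hk hi,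
        ← mul_assoc (sec C L τ), ← mul_assoc (sec C L τ),
        hS.conj_sec X L hLS τ hτ _ (kvolt_lt X L _), mul_assoc _ (sec C L τ), ← mul_assoc (sec C L τ),
        w2]
      simp only [mul_assoc]
    | false =>
      obtain ⟨-, hp, hp', -, -, -⟩ := h.edge hk hi
      set p := K.pv.getD (4 * k + i) 0 with hpdef
      obtain ⟨-, -, -, e4, -, -⟩ := h.edge hp hi
      have hw : ∀ t ∈ negW (K.words.getD (4 * p + i) []), t.1 < C.n := by
        intro t ht
        obtain ⟨a, ha, rfl⟩ := List.mem_map.1 ht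
        exact e4 a (List.mem_reverse.1 ha)
      obtain ⟨w1, w2⟩ := hS.walk X L hLS _ hw τ hτ
      obtain ⟨i1, i2, i3⟩ := ih hl' _ w1 _ hp
      have hv := h.kvolt_spec X L hS hL hp hi
      rw [hp'] at hv
      have hback : ksec K L k * (L i)⁻¹ = wp L (negW (K.words.getD (4 * p + i) [])) *
          (X.ι (kvolt K X L (4 * p + i)) * ksec K L p) := by
        rw [mul_inv_eq_iff_eq_mul, mul_assoc, mul_assoc, hv,
          X.ι_shuffle (kvolt_lt X L _) (kvolt_lt X L _), Nat.xor_self, X.ι_zero, one_mul, wp_negW,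
          inv_mul_cancel_left]
      simp only [kwalk, wp, Bool.false_eq_true, if_false, ← hpdef]
      refine ⟨i1, i2, ?_⟩
      rw [ev_xor, ev_xor, h.ev_relq X L hS hL w1 hp hi, h.ev_wedges X L hS hL hτ _ hw,
        ← X.ι_shuffle (xsum_lt (fun e => volt_lt X L e) _) (xor_lt (mapp_lt _ _) (ev_lt _ _ _)),
        ← X.ι_shuffle (mapp_lt _ _) (ev_lt _ _ _), ← i3]
      rw [mul_assoc (sec C L τ), ← mul_assoc (ksec K L k), hback]
      simp only [← mul_assoc]
      rw [w2]
      simp only [mul_assoc]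
      rw [← mul_assoc (sec C L _), hS.conj_sec X L hLS _ w1 _ (kvolt_lt X L _)]
      simp only [mul_assoc]

theorem eq_zero {t : ℕ} (ht : t < K.eqs.length) : ev K.NV (get K.eqF t) (xvec K X L) = 0 := by
  have := List.all_eq_true.1 h.eqsOK t (List.mem_range.2 ht)
  simp only [Bool.and_eq_true, decide_eq_true_eq, beq_iff_eq] at this
  obtain ⟨⟨⟨⟨hr, hk⟩, hτ⟩, hend⟩, hF⟩ := this
  set r := (K.eqs.getD t (0, 0)).1
  set k := (K.eqs.getD t (0, 0)).2
  have hmem : K.rels.getD r [] ∈ K.rels := by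
    rw [List.getD_eq_getElem (d := []) (hn := hr)]; exact List.getElem_mem hr
  obtain ⟨-, -, hw⟩ := h.kwalk_spec X L hS hL _ (h.relB _ hmem) 0 hS.N_pos k hk
  simp only [hτ, hend, sec_zero, one_mul] at hw
  have hπ : X.π (wp L (K.rels.getD r [])) = 1 := by
    have e := congrArg X.π hw
    rw [map_mul, map_mul, X.π_ι (ev_lt _ _ _), one_mul] at e
    exact mul_eq_left.1 e
  rw [cval_spec X L hπ, h.conj_ksec X L hS hL k hk _ (cval_lt X L _ _)] at hw
  have hval := X.ι_inj (mapp_lt _ _) (ev_lt _ _ _) (mul_right_cancel hw)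
  rw [hF, ev_xor, xvec, ev_field (q := r) _ (fun q _ => fields_lt X L q) (by omega)
    (by have := h.nv; omega) (h.M_lt hk), fields, if_pos hr, ← xvec, ← hval, Nat.xor_self]

theorem ev_G {g : ℕ} (hg : g ∈ K.G) : ev 88 g (cvec C X L) = 0 := by
  have hlt := List.all_eq_true.1 h.gLt g hg
  rw [decide_eq_true_eq] at hlt
  rw [← h.ev_low X L hS hL hlt]
  rw [← h.selsG, List.mem_map] at hg
  obtain ⟨s, hs, rfl⟩ := hg
  have hst := List.all_eq_true.1 (List.all_eq_true.1 h.selsLt s hs)
  clear hs hlt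
  induction s with
  | nil => exact ev_zero _ _
  | cons tu s ih =>
    obtain ⟨t, u⟩ := tu
    have ht : decide (t < K.eqs.length) = true := hst (t, u) List.mem_cons_self
    rw [decide_eq_true_eq] at ht
    rw [selF, ev_xor, ih (fun a ha => hst a (List.mem_cons_of_mem _ ha)), Nat.xor_zero, h.rep,
      ev_uap _ _ _ _ (h.eq_zero X L hS hL ht) 11 le_rfl]

end KOK

/-- annihilation of the relator values on the 2-subgroup -/
def Ann (ok : ℕ → ℕ → Bool) (C : SCert) (G : List ℕ) : Prop :=
  ∀ {E : Type u} [Group E] (X : Ext ok E) (L : ℕ → E), IsLift X C.P C.n L →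
    ∀ g ∈ G, ev 88 g (cvec C X L) = 0

theorem ann_of_KOK (hS : SOK ok C) (h : KOK ok C K) : Ann.{u} ok C K.G := by
  intro E _ X L hL g hg
  have hex : ∀ i, ∃ y, i < 4 → X.π y = permOf (K.P.getD i 0) := fun i => by
    by_cases hi : i < 4
    · obtain ⟨y, hy⟩ := X.surj _ (h.gen_mem hi)
      exact ⟨y, fun _ => hy⟩
    · exact ⟨1, fun h' => absurd h' hi⟩
  choose y hy using hex
  let L' : ℕ → E := fun i => if i < C.n then L i else y i
  have hL' : IsLift X K.P 4 L' := fun i hi => by
    by_cases hn : i < C.n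
    · simp only [L', if_pos hn]
      rw [hL i hn, (h.gen_ok hi).2.2 hn]
    · simp only [L', if_neg hn]
      exact hy i hi
  have he : cvec C X L' = cvec C X L := by
    refine pk_congr _ fun r hr => ?_
    have hmem : C.rels.getD r [] ∈ C.rels := by
      rw [List.getD_eq_getElem (d := []) (hn := hr)]; exact List.getElem_mem hr
    unfold cval
    rw [wp_congr (x := L') (y := L) (fun i hi => if_pos hi) _ (hS.relB _ hmem)]
  rw [← he]
  exact h.ev_G X L' hS hL' hg

theorem Ann.append {G G' : List ℕ} (h : Ann.{u} ok C G) (h' : Ann.{u} ok C G') :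
    Ann.{u} ok C (G ++ G') := fun X L hL g hg =>
  (List.mem_append.1 hg).elim (h X L hL g) (h' X L hL g)

/-- target functional of one bit -/
def target (red : List (ℕ × ℕ)) (i : ℕ) : ℕ :=
  (1 <<< (11 * i)) ^^^
    red.foldr (fun pD acc => ((pD.2 >>> i) &&& 1) * pD.1 ^^^ acc) 0

/-- data of a normal form: (functional, column, adjustment) and the exceptional column -/
structure Red where
  tri : List (ℕ × ℕ × ℕ)
  phiZ : ℕ
  Z : ℕ
  sel : List ℕ

/-- columns of a normal form -/
def Red.cols (D : Red) : List (ℕ × ℕ) := (D.phiZ, D.Z) :: D.tri.map fun t => (t.1, t.2.1)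

/-- adjustments of a normal form -/
def Red.adjs (D : Red) : List (ℕ × ℕ) := D.tri.map fun t => (t.1, t.2.2)

/-- the normal form is certified -/
structure RedOK (C : SCert) (G : List ℕ) (D : Red) : Prop where
  deriv : D.tri.all (fun t => dvec C t.2.2 == t.2.1) = true
  small : D.cols.all (fun pD => pD.1 &&& rep 88 == pD.1 && decide (pD.2 < 2 ^ 88)) = true
  targets : (List.range 88).all (fun i => combo G (D.sel.getD i 0) == target D.cols i) = true

theorem ev_combo (n X' : ℕ) : ∀ (G : List ℕ), (∀ g ∈ G, ev n g X' = 0) → ∀ s,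
    ev n (combo G s) X' = 0
  | [], _, _ => ev_zero _ _
  | g :: G, hG, s => by
    rw [combo, ev_xor, ev_combo n X' G (fun a ha => hG a (List.mem_cons_of_mem _ ha)), Nat.xor_zero]
    rcases bit_cases s with hs | hs <;> simp [hs, ev_zero, hG g List.mem_cons_self]

theorem ev_target (x i : ℕ) (hi : i < 88) : ∀ red : List (ℕ × ℕ),
    (∀ pD ∈ red, pD.1 &&& rep 88 = pD.1) →
    ev 88 (target red i) x = ((x >>> i) &&& 1) ^^^ ((lc red x >>> i) &&& 1)
  | [], _ => by simp [target, lc, ev_unit hi]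
  | (p, D) :: red, hred => by
    have ih := ev_target x i hi red fun a ha => hred a (List.mem_cons_of_mem _ ha)
    have hp : ev 88 p x = ev 88 p x &&& 1 := by
      have := ev_uap_bit 88 0 (by norm_num) p x
      rw [Nat.shiftRight_zero, Nat.shiftRight_zero, hred (p, D) List.mem_cons_self] at this
      exact this
    simp only [target, ev_xor, ev_unit hi] at ih
    have ih' := Nat.xor_right_inj.1 ih
    simp only [target, List.foldr_cons, ev_xor, ev_unit hi, lc, Nat.shiftRight_xor_distrib,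
      Nat.and_xor_distrib_right, ih']
    congr 2
    rcases bit_cases (D >>> i) with h | h <;> rcases bit_cases (ev 88 p x) with h' | h' <;>
      simp [h, h', ev_zero] <;> omega

theorem lc_lt {n : ℕ} (x : ℕ) : ∀ l : List (ℕ × ℕ), (∀ pD ∈ l, pD.2 < 2 ^ n) → lc l x < 2 ^ n
  | [], _ => Nat.two_pow_pos n
  | (p, D) :: l, h => by
    refine Nat.xor_lt_two_pow ?_ (lc_lt x l fun a ha => h a (List.mem_cons_of_mem _ ha))
    rcases bit_cases (ev 88 p x) with h' | h' <;> rw [h']
    · rw [Nat.zero_mul]; exact Nat.two_pow_pos n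
    · rw [Nat.one_mul]; exact h (p, D) List.mem_cons_self

theorem eq_lc {G : List ℕ} {D : Red} (hD : RedOK C G D) {x : ℕ} (hx : x < 2 ^ 88)
    (hann : ∀ g ∈ G, ev 88 g x = 0) : x = lc D.cols x := by
  have hsm := hD.small
  simp only [List.all_eq_true, Bool.and_eq_true, decide_eq_true_eq, beq_iff_eq] at hsm
  apply Nat.eq_of_testBit_eq
  intro i
  by_cases hi : i < 88
  · have ht := List.all_eq_true.1 hD.targets i (List.mem_range.2 hi)
    rw [beq_iff_eq] at ht
    have h0 := ev_combo 88 x G hann (D.sel.getD i 0)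
    rw [ht, ev_target x i hi _ fun pD hpD => (hsm pD hpD).1] at h0
    have := xor_right_cancel h0
    rw [shiftRight_and_one, shiftRight_and_one] at this
    revert this
    cases x.testBit i <;> cases (lc D.cols x).testBit i <;> simp
  · have hle : (2 : ℕ) ^ 88 ≤ 2 ^ i := Nat.pow_le_pow_right (by norm_num) (by omega)
    rw [Nat.testBit_lt_two_pow (lt_of_lt_of_le hx hle),
      Nat.testBit_lt_two_pow (lt_of_lt_of_le (lc_lt x _ fun pD hpD => (hsm pD hpD).2) hle)]

theorem dvec_zero (C : SCert) : dvec C 0 = 0 := by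
  have := dvec_xor C 0 0
  rw [Nat.xor_self, Nat.xor_self] at this
  exact this

theorem dvec_lc {x : ℕ} : ∀ l : List (ℕ × ℕ × ℕ), (∀ t ∈ l, dvec C t.2.2 = t.2.1) →
    dvec C (lc (l.map fun t => (t.1, t.2.2)) x) = lc (l.map fun t => (t.1, t.2.1)) x
  | [], _ => dvec_zero C
  | t :: l, hl => by
    simp only [List.map_cons, lc, dvec_xor, dvec_lc l fun a ha => hl a (List.mem_cons_of_mem _ ha)]
    rcases bit_cases (ev 88 t.1 x) with h | h <;> simp [h, dvec_zero, hl t List.mem_cons_self]

/-- Every lift can be changed so that the relator values take one of two forms. -/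
theorem exists_normal (hS : SOK ok C) (h8 : C.rels.length = 8) {G : List ℕ} (hG : Ann.{u} ok C G)
    {D : Red} (hD : RedOK C G D) (hL : IsLift X C.P C.n L) :
    ∃ L', IsLift X C.P C.n L' ∧ (cvec C X L' = 0 ∨ cvec C X L' = D.Z) := by
  set x := cvec C X L with hxdef
  have hx : x < 2 ^ 88 := by
    have := pk_low (cval X L C.rels) (le_refl C.rels.length) fun i _ => cval_lt X L _ i
    rw [hxdef, cvec, ← this, h8]
    exact Nat.mod_lt _ (Nat.two_pow_pos _)
  have he := eq_lc hD hx (hG X L hL)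
  refine ⟨adj X L (lc D.adjs x), isLift_adj X L hL _, ?_⟩
  have hd := hD.deriv
  simp only [List.all_eq_true, beq_iff_eq] at hd
  rw [cvec_adj X L hS hL, Red.adjs, dvec_lc _ hd, ← hxdef]
  conv => enter [1, 1, 2]; rw [he]
  conv => enter [2, 1, 2]; rw [he]
  rw [Red.cols, lc, Nat.xor_left_comm, Nat.xor_self, Nat.xor_zero]
  rcases bit_cases (ev 88 D.phiZ x) with h | h <;> simp [h]

theorem exists_lift (hS : SOK ok C) : ∃ L : ℕ → E, IsLift X C.P C.n L := by
  have hex : ∀ i, ∃ y, i < C.n → X.π y = permOf (C.P.getD i 0) := fun i => by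
    by_cases hi : i < C.n
    · obtain ⟨y, hy⟩ := X.surj _ (hS.gen_mem hi)
      exact ⟨y, fun _ => hy⟩
    · exact ⟨1, fun h' => absurd h' hi⟩
  choose y hy using hex
  exact ⟨y, hy⟩

end Cfsg.Agent.GolayExtCoset70
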