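import Mathlib

/-!
Linear forms over the field with two elements with values in words of eleven bits, packed in numbers:
column `i` of a form occupies the bits `11 i` to `11 i + 10`.
-/

set_option autoImplicit false

namespace Cfsg.Agent.GolayExtEval70

/-- value of a packed form at a packed vector -/
def ev : ℕ → ℕ → ℕ → ℕ
  | 0, _, _ => 0
  | n + 1, F, X => ((X &&& 1) * (F &&& 2047)) ^^^ ev n (F >>> 11) (X >>> 1)

/-- a matrix applied to a word -/
def mapp (M a : ℕ) : ℕ := ev 11 M a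

/-- columnwise image of a form under a matrix -/
def mm (M : ℕ) : ℕ → ℕ → ℕ
  | 0, _ => 0
  | n + 1, N => mapp M (N &&& 2047) ^^^ (mm M n (N >>> 11) <<< 11)

/-- one bit in each column -/
def rep : ℕ → ℕ
  | 0 => 0
  | n + 1 => 1 ^^^ (rep n <<< 11)

/-- the combination of the bit rows of a form selected by `u` -/
def uap (R F u : ℕ) : ℕ → ℕ
  | 0 => 0
  | k + 1 => (((u >>> k) &&& 1) * ((F >>> k) &&& R)) ^^^ uap R F u k

/-- a list of words packed -/
def pk : ℕ → (ℕ → ℕ) → ℕ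
  | 0, _ => 0
  | n + 1, f => f 0 ^^^ (pk n (fun i => f (i + 1)) <<< 11)

theorem and_2047 (x : ℕ) : x &&& 2047 = x % 2048 := Nat.and_two_pow_sub_one_eq_mod x 11

theorem and_lt (x : ℕ) : x &&& 2047 < 2048 := Nat.and_le_right.trans_lt (by norm_num)

theorem bit_cases (x : ℕ) : x &&& 1 = 0 ∨ x &&& 1 = 1 := by
  rw [Nat.and_one_is_mod]; omega

theorem bit_mul_lt {x y : ℕ} (hy : y < 2048) : (x &&& 1) * y < 2048 := by
  rcases bit_cases x with h | h <;> rw [h] <;> omega

theorem xor_lt {a b : ℕ} (ha : a < 2048) (hb : b < 2048) : a ^^^ b < 2048 :=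
  Nat.xor_lt_two_pow (n := 11) ha hb

theorem ev_lt : ∀ n F X, ev n F X < 2048
  | 0, _, _ => by norm_num [ev]
  | n + 1, F, X => xor_lt (bit_mul_lt (and_lt F)) (ev_lt n _ _)

theorem ev_zero : ∀ n X, ev n 0 X = 0
  | 0, _ => rfl
  | n + 1, X => by simp [ev, ev_zero n]

theorem ev_zero_right : ∀ n F, ev n F 0 = 0
  | 0, _ => rfl
  | n + 1, F => by simp [ev, ev_zero_right n]

theorem ev_xor : ∀ n F G X, ev n (F ^^^ G) X = ev n F X ^^^ ev n G X
  | 0, _, _, _ => (Nat.xor_zero 0).symm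
  | n + 1, F, G, X => by
    simp only [ev, Nat.shiftRight_xor_distrib, ev_xor n, Nat.and_xor_distrib_right]
    rcases bit_cases X with h | h <;>
      simp [h, Nat.xor_assoc, Nat.xor_left_comm]

theorem ev_xor_right : ∀ n F X Y, ev n F (X ^^^ Y) = ev n F X ^^^ ev n F Y
  | 0, _, _, _ => (Nat.xor_zero 0).symm
  | n + 1, F, X, Y => by
    simp only [ev, Nat.shiftRight_xor_distrib, ev_xor_right n, Nat.and_xor_distrib_right]
    rcases bit_cases X with hx | hx <;> rcases bit_cases Y with hy | hy <;>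
      simp [hx, hy, Nat.xor_assoc, Nat.xor_left_comm]

theorem ev_add : ∀ n m F X, ev (n + m) F X = ev n F X ^^^ ev m (F >>> (11 * n)) (X >>> n)
  | 0, m, F, X => by simp [ev]
  | n + 1, m, F, X => by
    rw [Nat.add_right_comm, ev, ev, ev_add n m, ← Nat.shiftRight_add, ← Nat.shiftRight_add,
      Nat.xor_assoc, show 11 + 11 * n = 11 * (n + 1) by ring, Nat.add_comm 1 n]

theorem ev_of_lt {n m F : ℕ} (hnm : n ≤ m) (hF : F < 2 ^ (11 * n)) (X : ℕ) : ev m F X = ev n F X := by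
  obtain ⟨k, rfl⟩ := Nat.exists_eq_add_of_le hnm
  rw [ev_add, Nat.shiftRight_eq_div_pow F, Nat.div_eq_of_lt hF, ev_zero, Nat.xor_zero]

theorem ev_shl : ∀ off n M X, ev (off + n) (M <<< (11 * off)) X = ev n M (X >>> off)
  | 0, n, M, X => by simp
  | off + 1, n, M, X => by
    rw [Nat.add_right_comm, ev]
    have h1 : (M <<< (11 * (off + 1))) &&& 2047 = 0 := by
      rw [and_2047, Nat.shiftLeft_eq, show 11 * (off + 1) = 11 * off + 11 by ring, pow_add,
        ← mul_assoc]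
      exact Nat.mul_mod_left _ 2048
    have h2 : (M <<< (11 * (off + 1))) >>> 11 = M <<< (11 * off) := by
      rw [show 11 * (off + 1) = 11 * off + 11 by ring, Nat.shiftLeft_add, Nat.shiftLeft_shiftRight]
    rw [h1, h2, Nat.mul_zero, Nat.zero_xor, ev_shl off n M, ← Nat.shiftRight_add, Nat.add_comm 1]

theorem ev_mod : ∀ n F X, ev n F (X % 2 ^ n) = ev n F X
  | 0, _, _ => rfl
  | n + 1, F, X => by
    have h1 : (X % 2 ^ (n + 1)) &&& 1 = X &&& 1 := by
      rw [Nat.and_one_is_mod, Nat.and_one_is_mod, pow_succ']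
      exact Nat.mod_mul_right_mod _ _ _
    have h2 : (X % 2 ^ (n + 1)) >>> 1 = (X >>> 1) % 2 ^ n := by
      rw [Nat.shiftRight_eq_div_pow, Nat.shiftRight_eq_div_pow, pow_one, pow_succ']
      exact Nat.mod_mul_right_div_self _ _ _
    rw [ev, ev, h1, h2, ev_mod n]

theorem mapp_lt (M a : ℕ) : mapp M a < 2048 := ev_lt _ _ _

theorem mapp_xor (M a b : ℕ) : mapp M (a ^^^ b) = mapp M a ^^^ mapp M b := ev_xor_right _ _ _ _

theorem mapp_zero (M : ℕ) : mapp M 0 = 0 := ev_zero_right _ _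

theorem mapp_bit (M x a : ℕ) : mapp M ((x &&& 1) * a) = (x &&& 1) * mapp M a := by
  rcases bit_cases x with h | h <;> simp [h, mapp_zero]

theorem ev_mm (M : ℕ) : ∀ n N X, ev n (mm M n N) X = mapp M (ev n N X)
  | 0, _, X => by simp [ev, mapp_zero]
  | n + 1, N, X => by
    have hl := mapp_lt M (N &&& 2047)
    have h1 : mm M (n + 1) N &&& 2047 = mapp M (N &&& 2047) := by
      rw [mm, Nat.and_xor_distrib_right, and_2047 (_ <<< 11), Nat.shiftLeft_eq]
      rw [show (2 : ℕ) ^ 11 = 2048 from rfl, Nat.mul_mod_left, Nat.xor_zero, and_2047,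
        Nat.mod_eq_of_lt hl]
    have h2 : mm M (n + 1) N >>> 11 = mm M n (N >>> 11) := by
      rw [mm, Nat.shiftRight_xor_distrib, Nat.shiftLeft_shiftRight, Nat.shiftRight_eq_div_pow,
        Nat.div_eq_of_lt (b := 2 ^ 11) (by simpa using hl), Nat.zero_xor]
    rw [ev, ev, h1, h2, ev_mm M n, mapp_xor, mapp_bit]

theorem ev_uap_bit : ∀ n k, k < 11 → ∀ F X,
    ev n ((F >>> k) &&& rep n) X = (ev n F X >>> k) &&& 1
  | 0, k, _, _, _ => by simp [ev]
  | n + 1, k, hk, F, X => by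
    have hr1 : rep (n + 1) &&& 2047 = 1 := by
      rw [rep, Nat.and_xor_distrib_right, and_2047 (_ <<< 11), Nat.shiftLeft_eq]
      rw [show (2 : ℕ) ^ 11 = 2048 from rfl, Nat.mul_mod_left, Nat.xor_zero]
      rfl
    have hr2 : rep (n + 1) >>> 11 = rep n := by
      rw [rep, Nat.shiftRight_xor_distrib, Nat.shiftLeft_shiftRight]
      exact Nat.zero_xor _
    have h1 : ((F >>> k) &&& rep (n + 1)) &&& 2047 = ((F &&& 2047) >>> k) &&& 1 := by
      rw [Nat.and_assoc, hr1, Nat.shiftRight_and_distrib, Nat.and_assoc]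
      congr 1
      revert hk; revert k; decide
    have h2 : ((F >>> k) &&& rep (n + 1)) >>> 11 = ((F >>> 11) >>> k) &&& rep n := by
      rw [Nat.shiftRight_and_distrib, hr2, ← Nat.shiftRight_add, ← Nat.shiftRight_add, Nat.add_comm]
    rw [ev, ev, h1, h2, ev_uap_bit n k hk, Nat.shiftRight_xor_distrib, Nat.and_xor_distrib_right]
    rcases bit_cases X with h | h <;> simp [h]

theorem ev_uap (n F u X : ℕ) (hF : ev n F X = 0) : ∀ k ≤ 11, ev n (uap (rep n) F u k) X = 0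
  | 0, _ => ev_zero _ _
  | k + 1, hk => by
    rw [uap, ev_xor, ev_uap n F u X hF k (by omega), Nat.xor_zero]
    rcases bit_cases (u >>> k) with h | h
    · rw [h, Nat.zero_mul, ev_zero]
    · rw [h, Nat.one_mul, ev_uap_bit n k (by omega), hF, Nat.zero_shiftRight, Nat.zero_and]

theorem pk_congr : ∀ n {f g : ℕ → ℕ}, (∀ i < n, f i = g i) → pk n f = pk n g
  | 0, _, _, _ => rfl
  | n + 1, f, g, h => by
    rw [pk, pk, h 0 (Nat.succ_pos n), pk_congr n (fun i hi => h (i + 1) (by omega))]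

theorem pk_xor : ∀ n (f g : ℕ → ℕ), pk n (fun i => f i ^^^ g i) = pk n f ^^^ pk n g
  | 0, _, _ => (Nat.xor_zero 0).symm
  | n + 1, f, g => by
    simp only [pk, pk_xor n, Nat.shiftLeft_xor_distrib, Nat.xor_assoc, Nat.xor_left_comm]

theorem pk_zero : ∀ n, pk n (fun _ => 0) = 0
  | 0 => rfl
  | n + 1 => by simp [pk, pk_zero n]

theorem pk_field : ∀ n (f : ℕ → ℕ), (∀ i < n, f i < 2048) → ∀ q < n,
    (pk n f >>> (11 * q)) % 2048 = f q
  | n + 1, f, hf, q, hq => by
    have h0 := hf 0 (Nat.succ_pos n)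
    cases q with
    | zero =>
      rw [pk, Nat.mul_zero, Nat.shiftRight_zero, ← and_2047, Nat.and_xor_distrib_right,
        and_2047 (_ <<< 11), Nat.shiftLeft_eq, show (2 : ℕ) ^ 11 = 2048 from rfl, Nat.mul_mod_left,
        Nat.xor_zero, and_2047, Nat.mod_eq_of_lt h0]
    | succ q =>
      rw [show 11 * (q + 1) = 11 + 11 * q by ring, Nat.shiftRight_add, pk,
        Nat.shiftRight_xor_distrib, Nat.shiftLeft_shiftRight, Nat.shiftRight_eq_div_pow (f 0),
        Nat.div_eq_of_lt (b := 2 ^ 11) (by simpa using h0), Nat.zero_xor,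
        pk_field n _ (fun i hi => hf (i + 1) (by omega)) q (by omega)]

theorem ev_field {n q M : ℕ} (f : ℕ → ℕ) {m : ℕ} (hf : ∀ i < m, f i < 2048) (hq : q < m)
    (hn : 11 * q + 11 ≤ n) (hM : M < 2 ^ 121) :
    ev n (M <<< (121 * q)) (pk m f) = mapp M (f q) := by
  obtain ⟨k, rfl⟩ : ∃ k, n = 11 * q + (11 + k) := ⟨n - (11 * q + 11), by omega⟩
  rw [show 121 * q = 11 * (11 * q) by ring, ev_shl, ev_of_lt (n := 11) (by omega) hM, mapp,
    ← ev_mod 11 M, show (2 : ℕ) ^ 11 = 2048 from rfl, pk_field m f hf q hq]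

theorem pk_low : ∀ {n m : ℕ} (f : ℕ → ℕ), n ≤ m → (∀ i < m, f i < 2048) →
    pk m f % 2 ^ (11 * n) = pk n f
  | 0, m, f, _, _ => by simp [pk, Nat.mod_one]
  | n + 1, 0, f, h, _ => absurd h (by omega)
  | n + 1, m + 1, f, h, hf => by
    have h0 := hf 0 (Nat.succ_pos m)
    rw [pk, pk, Nat.xor_mod_two_pow, Nat.mod_eq_of_lt (a := f 0), Nat.shiftLeft_eq,
      Nat.shiftLeft_eq, show 11 * (n + 1) = 11 * n + 11 by ring, pow_add, Nat.mul_mod_mul_right,
      pk_low (fun i => f (i + 1)) (by omega) (fun i hi => hf (i + 1) (by omega))]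
    calc f 0 < 2 ^ 11 := by simpa using h0
      _ ≤ _ := Nat.pow_le_pow_right (by norm_num) (by omega)

theorem ev_unit {i n : ℕ} (hi : i < n) (X : ℕ) : ev n (1 <<< (11 * i)) X = (X >>> i) &&& 1 := by
  obtain ⟨k, rfl⟩ : ∃ k, n = i + (1 + k) := ⟨n - (i + 1), by omega⟩
  rw [ev_shl, ev_of_lt (n := 1) (by omega) (by norm_num)]
  simp [ev]

theorem xor_right_cancel {a b : ℕ} (h : a ^^^ b = 0) : a = b := by
  rwa [Nat.xor_eq_zero_iff] at h

end Cfsg.Agent.GolayExtEval70
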