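import Cfsg.Agent.Lib.GolayExtPair70

/-!
The two modules of eleven bits of the point stabiliser: code words vanishing at the extra point, and
words modulo the code and the unit word at the extra point.
-/

set_option autoImplicit false

namespace Cfsg.Agent.GolayExtModules70

open Cfsg Cfsg.Agent.GolayBasic Cfsg.Agent.GolayPerm Cfsg.Agent.GolayExtEval70
open Cfsg.Agent.GolayExtWalk70
open Cfsg.Agent.GolayModule (act act_add act_word)

universe u v

/-- basis of the words vanishing at the extra point -/
def CB : List ℕ :=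
  [4377555, 2358342, 1179171, 681662, 340831, 145176, 84464, 42232, 18147, 10558, 5279]

/-- representatives for the words modulo the code and the unit word -/
def FB : List ℕ := [1, 2, 4, 8, 16, 32, 64, 128, 256, 512, 1024]

/-- the unit words -/
def UB : List ℕ := (List.range' 0 24).map (1 <<< ·)

/-- coordinates of the code rows, made to vanish at the extra point -/
def Q1 : ℕ := 2542804201064193333901036154085787716494

/-- coordinates of the unit words -/
def Q2 : ℕ := 11268170554571033394682818498054494681590870608809208561944633846162190766081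

/-- membership in the code extended by the unit word -/
def inK (m : ℕ) : Bool := inCode m || inCode (m ^^^ 8388608)

/-- a permutation with its matrix on the first module -/
def ok1 (P M : ℕ) : Bool :=
  valid P && (List.range 11).all fun k =>
    pmask P (CB.getD k 0) == combo CB ((M >>> (11 * k)) &&& 2047)

/-- a permutation with its matrix on the second module -/
def ok2 (P M : ℕ) : Bool :=
  valid P && (List.range 11).all fun k =>
    inK (pmask P (FB.getD k 0) ^^^ combo FB ((M >>> (11 * k)) &&& 2047))

theorem combo_zero : ∀ l : List ℕ, combo l 0 = 0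
  | [] => rfl
  | b :: l => by simp [combo, combo_zero l]

theorem combo_bit (l : List ℕ) (x a : ℕ) : combo l ((x &&& 1) * a) = (x &&& 1) * combo l a := by
  rcases bit_cases x with h | h <;> simp [h, combo_zero]

theorem word_bit {A : Type*} [AddMonoid A] (f : (GolayPt → ZMod 2) →+ A) (x m : ℕ) :
    f (word ((x &&& 1) * m)) = (x &&& 1) • f (word m) := by
  rcases bit_cases x with h | h <;> simp [h, word_zero]

/-- linear extension from the rows of a list -/
theorem lin_ext {A : Type*} [AddMonoid A] (f g : (GolayPt → ZMod 2) →+ A) (B : List ℕ) :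
    ∀ (l : List ℕ) (F : ℕ),
      (∀ k < l.length, f (word (l.getD k 0)) = g (word (combo B ((F >>> (11 * k)) &&& 2047)))) →
      ∀ x, f (word (combo l x)) = g (word (combo B (ev l.length F x)))
  | [], F, _, x => by simp [combo, ev, combo_zero, word_zero]
  | b :: l, F, h, x => by
    rw [combo, List.length_cons, ev, combo_xor, word_xor, word_xor, map_add, map_add, combo_bit,
      word_bit, word_bit]
    congr 1
    · have := h 0 (Nat.succ_pos _)
      simp only [List.getD_cons_zero, Nat.mul_zero, Nat.shiftRight_zero] at this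
      rw [this]
    · refine lin_ext f g B l (F >>> 11) (fun k hk => ?_) (x >>> 1)
      have := h (k + 1) (by rw [List.length_cons]; omega)
      rwa [List.getD_cons_succ, show 11 * (k + 1) = 11 + 11 * k by ring, Nat.shiftRight_add] at this

/-- the action on words as an additive map -/
def actHom (σ : Equiv.Perm GolayPt) : (GolayPt → ZMod 2) →+ (GolayPt → ZMod 2) :=
  AddMonoidHom.mk' (act σ) (act_add σ)

theorem combo_units : ∀ n o x, combo ((List.range' o n).map (1 <<< ·)) x = (x % 2 ^ n) <<< o
  | 0, o, x => by simp [combo, Nat.mod_one]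
  | n + 1, o, x => by
    have hx : x % 2 ^ (n + 1) = (x &&& 1) ^^^ (((x >>> 1) % 2 ^ n) <<< 1) := by
      apply Nat.eq_of_testBit_eq
      intro i
      cases i with
      | zero => rw [Nat.testBit_mod_two_pow, Nat.testBit_xor, Nat.testBit_and, Nat.testBit_shiftLeft]; simp
      | succ i =>
        rw [Nat.testBit_mod_two_pow, Nat.testBit_xor, Nat.testBit_and, Nat.testBit_shiftLeft,
          show Nat.testBit 1 (i + 1) = false by simp [Nat.testBit_succ], Nat.testBit_mod_two_pow,
          Nat.testBit_shiftRight]
        simp [Nat.add_comm 1 i]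
    rw [List.range'_succ, List.map_cons, combo, combo_units n, hx, Nat.shiftLeft_xor_distrib,
      ← Nat.shiftLeft_add, Nat.add_comm 1 o]
    congr 1
    rcases bit_cases x with h | h <;> simp [h]

theorem combo_UB {m : ℕ} (hm : m < 2 ^ 24) : combo UB m = m := by
  rw [UB, combo_units, Nat.mod_eq_of_lt hm, Nat.shiftLeft_zero]

theorem xor8 {m : ℕ} (hm : m < 2 ^ 24) : m ^^^ 8388608 < 2 ^ 24 :=
  Nat.xor_lt_two_pow hm (by norm_num)

theorem single_none : (Pi.single none 1 : GolayPt → ZMod 2) = word 8388608 := by
  funext p; revert p; decide +kernel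

theorem word_inK {m : ℕ} (hm : m < 2 ^ 24) :
    (word m ∈ golayCode ∨ word m + Pi.single none 1 ∈ golayCode) ↔ inK m = true := by
  rw [single_none, ← word_xor, word_mem_iff hm, word_mem_iff (xor8 hm), inK, Bool.or_eq_true]

/-! ### extensions by the code module -/

section Code

variable {E : Type u} [Group E] (N : Subgroup E) [hN : N.Normal] (φ : E ⧸ N ≃* ↥Spor.M23)

/-- the map to permutations -/
def proj : E →* Equiv.Perm GolayPt :=
  Spor.M23.subtype.comp (φ.toMonoidHom.comp (QuotientGroup.mk' N))

theorem proj_eq_one {g : E} : proj N φ g = 1 ↔ g ∈ N := by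
  rw [← QuotientGroup.eq_one_iff (N := N), ← φ.map_eq_one_iff, ← Subtype.coe_inj]
  rfl

theorem proj_ker : (proj N φ).ker = N := by
  ext g; rw [MonoidHom.mem_ker, proj_eq_one]

theorem proj_surj (s : Equiv.Perm GolayPt) (hs : s ∈ Spor.M23) : ∃ g, proj N φ g = s := by
  obtain ⟨g, hg⟩ := QuotientGroup.mk_surjective (φ.symm ⟨s, hs⟩)
  refine ⟨g, ?_⟩
  show ((φ (QuotientGroup.mk g) : ↥Spor.M23) : Equiv.Perm GolayPt) = s
  rw [hg, φ.apply_symm_apply]

variable (ψ : Additive ↥N →+ (GolayPt → ZMod 2)) (hinj : Function.Injective ψ)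
  (hrange : ∀ w : GolayPt → ZMod 2, w ∈ Set.range ψ ↔ (w ∈ golayCode ∧ w none = 0))
  (hψ : ∀ (g : E) (n : ↥N),
    ψ (Additive.ofMul ⟨g * n * g⁻¹, hN.conj_mem n n.2 g⟩) =
      ψ (Additive.ofMul n) ∘ ⇑(((φ (QuotientGroup.mk g) : ↥Spor.M23) : Equiv.Perm GolayPt)⁻¹))

theorem cb_facts : ((List.range 2048).all fun a =>
    inCode (combo CB a) && !(combo CB a).testBit 23 && (a == 0 || combo CB a != 0)) = true := by
  decide +kernel

theorem q1_fact : ((List.range 4096).all fun x =>
    combo CB (ev 12 Q1 x) == if (enc x).testBit 23 then enc x ^^^ 16777215 else enc x) = true := by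
  decide +kernel

/-- coordinates of the kernel -/
noncomputable def ι1 (a : ℕ) : E :=
  ((Additive.toMul (Function.invFun ψ (word (combo CB a))) : ↥N) : E)

include hrange in
theorem psi_ι1 {a : ℕ} (ha : a < 2048) :
    ψ (Function.invFun ψ (word (combo CB a))) = word (combo CB a) := by
  refine Function.invFun_eq ((hrange _).2 ?_)
  have := List.all_eq_true.1 cb_facts a (List.mem_range.2 ha)
  simp only [Bool.and_eq_true, Bool.not_eq_true'] at this
  refine ⟨(word_mem_iff (inCode_lt this.1.1)).2 this.1.1, ?_⟩
  rw [word_apply, show idx none = 23 from rfl, this.1.2]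
  rfl

/-- an extension by the code module in coordinates -/
noncomputable def ext1 : Ext ok1 E where
  π := proj N φ
  ι := ι1 N ψ
  xor a ha b hb := by
    have e : Function.invFun ψ (word (combo CB (a ^^^ b))) =
        Function.invFun ψ (word (combo CB a)) + Function.invFun ψ (word (combo CB b)) := by
      apply hinj
      rw [map_add, psi_ι1 N ψ hrange (xor_lt ha hb), psi_ι1 N ψ hrange ha, psi_ι1 N ψ hrange hb,
        combo_xor, word_xor]
    rw [ι1, e]; rfl
  inj a ha h := by
    have h1 : Function.invFun ψ (word (combo CB a)) = 0 :=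
      Additive.toMul.injective (Subtype.ext h)
    have h2 := psi_ι1 N ψ hrange ha
    rw [h1, map_zero] at h2
    have := List.all_eq_true.1 cb_facts a (List.mem_range.2 ha)
    simp only [Bool.and_eq_true, Bool.or_eq_true, beq_iff_eq, bne_iff_ne] at this
    refine this.2.resolve_right (not_not.2 ?_)
    rw [← word_zero] at h2
    exact (word_inj (by norm_num) (inCode_lt this.1.1) h2).symm
  ker g := by
    rw [proj_eq_one]
    constructor
    · intro hg
      obtain ⟨hc, h0⟩ := (hrange _).1 ⟨Additive.ofMul ⟨g, hg⟩, rfl⟩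
      obtain ⟨x, hx, hw⟩ := exists_enc hc
      have hbit : (enc x).testBit 23 = false := by
        rw [← hw, word_apply, show idx none = 23 from rfl] at h0
        revert h0
        cases (enc x).testBit 23 <;> simp
      have hq := List.all_eq_true.1 q1_fact x (List.mem_range.2 hx)
      simp only [beq_iff_eq, hbit, Bool.false_eq_true, if_false] at hq
      refine ⟨ev 12 Q1 x, ev_lt _ _ _, ?_⟩
      have : Function.invFun ψ (word (combo CB (ev 12 Q1 x))) = Additive.ofMul ⟨g, hg⟩ := by
        apply hinj
        rw [psi_ι1 N ψ hrange (ev_lt _ _ _), hq]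
        exact hw
      rw [ι1, this]; rfl
    · rintro ⟨a, -, rfl⟩; exact SetLike.coe_mem _
  rng g := (φ (QuotientGroup.mk g)).2
  surj s hs := proj_surj N φ s hs
  conj g P M hok hP a ha := by
    simp only [ok1, Bool.and_eq_true, List.all_eq_true, List.mem_range, beq_iff_eq] at hok
    have hlin := lin_ext (actHom (permOf P)) (AddMonoidHom.id _) CB CB M (fun k hk => by
      show act (permOf P) (word (CB.getD k 0)) = word _
      rw [act_word hok.1, hok.2 k hk]) a
    have e : Additive.ofMul (⟨g * ι1 N ψ a * g⁻¹, hN.conj_mem _ (SetLike.coe_mem _) g⟩ : ↥N) =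
        Function.invFun ψ (word (combo CB (mapp M a))) := by
      apply hinj
      rw [psi_ι1 N ψ hrange (mapp_lt _ _)]
      refine (hψ g (Additive.toMul (Function.invFun ψ (word (combo CB a))))).trans ?_
      rw [ofMul_toMul, psi_ι1 N ψ hrange ha]
      change act (proj N φ g) (word (combo CB a)) = _
      rw [hP]
      exact hlin
    have e' := congrArg (fun n : Additive ↥N => ((Additive.toMul n : ↥N) : E)) e
    simp only [toMul_ofMul] at e'
    rw [show ι1 N ψ (mapp M a) = g * ι1 N ψ a * g⁻¹ from e'.symm, inv_mul_cancel_right]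

end Code

/-! ### extensions by the cocode module -/

section Cocode

variable {E : Type u} [Group E] (N : Subgroup E) [hN : N.Normal] (φ : E ⧸ N ≃* ↥Spor.M23)
  (θ : (GolayPt → ZMod 2) →+ Additive ↥N) (hsurj : Function.Surjective θ)
  (hker : ∀ w : GolayPt → ZMod 2, θ w = 0 ↔ (w ∈ golayCode ∨ w + Pi.single none 1 ∈ golayCode))
  (hθ : ∀ (g : E) (w : GolayPt → ZMod 2),
    ((θ (w ∘ ⇑(((φ (QuotientGroup.mk g) : ↥Spor.M23) : Equiv.Perm GolayPt)⁻¹))).toMul : E) =
      g * ((θ w).toMul : E) * g⁻¹)

theorem fb_facts : ((List.range 2048).all fun a =>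
    decide (combo FB a < 16777216) && (a == 0 || !inK (combo FB a))) = true := by
  decide +kernel

theorem q2_fact : ((List.range 24).all fun k =>
    inK (UB.getD k 0 ^^^ combo FB ((Q2 >>> (11 * k)) &&& 2047))) = true := by
  decide +kernel

theorem combo_FB_lt {a : ℕ} (ha : a < 2048) : combo FB a < 2 ^ 24 := by
  have := List.all_eq_true.1 fb_facts a (List.mem_range.2 ha)
  simp only [Bool.and_eq_true, decide_eq_true_eq] at this
  exact this.1

/-- coordinates of the kernel -/
def ι2 (a : ℕ) : E := ((Additive.toMul (θ (word (combo FB a))) : ↥N) : E)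

include hker

theorem theta_eq {v w : GolayPt → ZMod 2} :
    θ v = θ w ↔ (v + w ∈ golayCode ∨ v + w + Pi.single none 1 ∈ golayCode) := by
  rw [← hker, map_add]
  have h2 : θ w + θ w = 0 := by
    rw [← map_add, hker]
    left
    rw [show w + w = 0 from funext fun p => CharTwo.add_self_eq_zero (w p)]
    exact zero_mem _
  constructor
  · intro h; rw [h, h2]
  · intro h; exact (eq_neg_of_add_eq_zero_left h).trans (neg_eq_of_add_eq_zero_left h2)

theorem theta_word {a b : ℕ} (ha : a < 2 ^ 24) (hb : b < 2 ^ 24) (h : inK (a ^^^ b) = true) :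
    θ (word a) = θ (word b) := by
  rw [theta_eq N θ hker, ← word_xor, word_inK (Nat.xor_lt_two_pow ha hb)]
  exact h

/-- an extension by the cocode module in coordinates -/
noncomputable def ext2 : Ext ok2 E where
  π := proj N φ
  ι := ι2 N θ
  xor a ha b hb := by rw [ι2, combo_xor, word_xor, map_add]; rfl
  inj a ha h := by
    have h1 : θ (word (combo FB a)) = 0 := Additive.toMul.injective (Subtype.ext h)
    rw [hker, word_inK (combo_FB_lt ha)] at h1
    have := List.all_eq_true.1 fb_facts a (List.mem_range.2 ha)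
    simp only [Bool.and_eq_true, Bool.or_eq_true, beq_iff_eq, Bool.not_eq_true'] at this
    exact this.2.resolve_right (by rw [h1]; simp)
  ker g := by
    rw [proj_eq_one]
    constructor
    · intro hg
      obtain ⟨w, hw⟩ := hsurj (Additive.ofMul ⟨g, hg⟩)
      have hlin := lin_ext θ θ FB UB Q2 (fun k hk => by
        have hk' : k < 24 := by simpa [UB] using hk
        have := List.all_eq_true.1 q2_fact k (List.mem_range.2 hk')
        refine theta_word N θ hker ?_ (combo_FB_lt (and_lt _)) this
        revert hk'; revert k; decide) (wmask w)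
      rw [combo_UB (wmask_lt w), word_wmask, hw] at hlin
      refine ⟨ev UB.length Q2 (wmask w), ev_lt _ _ _, ?_⟩
      rw [ι2, ← hlin]; rfl
    · rintro ⟨a, -, rfl⟩; exact SetLike.coe_mem _
  rng g := (φ (QuotientGroup.mk g)).2
  surj s hs := proj_surj N φ s hs
  conj g P M hok hP a ha := by
    simp only [ok2, Bool.and_eq_true, List.all_eq_true, List.mem_range] at hok
    have hlin := lin_ext (θ.comp (actHom (permOf P))) θ FB FB M (fun k hk => by
      show θ (act (permOf P) (word (FB.getD k 0))) = _
      rw [act_word hok.1]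
      exact theta_word N θ hker (Cfsg.Agent.GolayModule.pmask_lt hok.1) (combo_FB_lt (and_lt _))
        (hok.2 k hk)) a
    have e := hθ g (word (combo FB a))
    change ((θ (act (proj N φ g) (word (combo FB a)))).toMul : E) = g * ι2 N θ a * g⁻¹ at e
    rw [hP, show θ (act (permOf P) (word (combo FB a))) = θ (word (combo FB (mapp M a))) from hlin]
      at e
    rw [show ι2 N θ (mapp M a) = g * ι2 N θ a * g⁻¹ from e, inv_mul_cancel_right]

include hθ in
theorem theta_act_eq {g : E} {a b : ℕ} (h : g * ι2 N θ a = ι2 N θ b * g) :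
    θ (act (proj N φ g) (word (combo FB a))) = θ (word (combo FB b)) := by
  have e := hθ g (word (combo FB a))
  change ((θ (act (proj N φ g) (word (combo FB a)))).toMul : E) = g * ι2 N θ a * g⁻¹ at e
  rw [h, mul_inv_cancel_right] at e
  exact Additive.toMul.injective (Subtype.ext e)

variable {E' : Type v} [Group E'] (N' : Subgroup E') [hN' : N'.Normal]
  (φ' : E' ⧸ N' ≃* ↥Spor.M23) (θ' : (GolayPt → ZMod 2) →+ Additive ↥N')
  (hker' : ∀ w : GolayPt → ZMod 2, θ' w = 0 ↔ (w ∈ golayCode ∨ w + Pi.single none 1 ∈ golayCode))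
  (hθ' : ∀ (g : E') (w : GolayPt → ZMod 2),
    ((θ' (w ∘ ⇑(((φ' (QuotientGroup.mk g) : ↥Spor.M23) : Equiv.Perm GolayPt)⁻¹))).toMul : E') =
      g * ((θ' w).toMul : E') * g⁻¹)

include hθ hker' hθ' in
theorem same_action (g : E) (g' : E') (a b : ℕ) (hπ : proj N φ g = proj N' φ' g')
    (h : g * ι2 N θ a = ι2 N θ b * g) : g' * ι2 N' θ' a = ι2 N' θ' b * g' := by
  have h1 := theta_act_eq N φ θ hker hθ h
  rw [theta_eq N θ hker, hπ, ← theta_eq N' θ' hker'] at h1
  have e := hθ' g' (word (combo FB a))
  change ((θ' (act (proj N' φ' g') (word (combo FB a)))).toMul : E') = g' * ι2 N' θ' a * g'⁻¹ at e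
  rw [h1] at e
  rw [show ι2 N' θ' b = g' * ι2 N' θ' a * g'⁻¹ from e, inv_mul_cancel_right]

end Cocode

end Cfsg.Agent.GolayExtModules70
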