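import Cfsg.Agent.Lib.GolayExtCoset70

/-!
Splitting, and uniqueness of the extension without complement, from a certificate.
-/

set_option autoImplicit false

namespace Cfsg.Agent.GolayExtPair70

open Cfsg Cfsg.Agent.GolayBasic Cfsg.Agent.GolayPerm Cfsg.Agent.GolayExtEval70
open Cfsg.Agent.GolayExtWalk70 Cfsg.Agent.GolayExtAdjust70 Cfsg.Agent.GolayExtCoset70
open Cfsg.Agent.SplitVoltageCert (Tr get)

universe u v

variable {ok : ℕ → ℕ → Bool} {C : SCert}

/-- the graph of the 2-subgroup is certified -/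
structure Sylow2OK (ok : ℕ → ℕ → Bool) (C : SCert) : Prop extends SOK ok C where
  card : C.N = 128
  rels8 : C.rels.length = 8
  inj : ∀ j < C.N, ∀ k < C.N, permOf (get C.Pn j) = permOf (get C.Pn k) → j = k

theorem inj_of_nodup (hvalid : ((List.range C.N).all fun j => valid (get C.Pn j)) = true)
    (h : ((List.range C.N).map fun j => pts.map (pimg (get C.Pn j))).Nodup) :
    ∀ j < C.N, ∀ k < C.N, permOf (get C.Pn j) = permOf (get C.Pn k) → j = k := by
  intro j hj k hk e
  simp only [List.all_eq_true, List.mem_range] at hvalid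
  refine List.inj_on_of_nodup_map h (List.mem_range.2 hj) (List.mem_range.2 hk)
    (List.map_congr_left fun x hx => ?_)
  have hx' := mem_pts.1 hx
  have := congrArg (fun σ : Equiv.Perm GolayPt => idx (σ (pt x))) e
  simp only [permOf_apply (hvalid j hj), permOf_apply (hvalid k hk), pfun, idx_pt hx',
    idx_pt (pimg_lt (hvalid j hj) hx'), idx_pt (pimg_lt (hvalid k hk) hx')] at this
  exact this

theorem complement_of_zero {E : Type u} [Group E] [Finite E] (X : Ext ok E) (hS : Sylow2OK ok C)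
    (L : ℕ → E) (hL : IsLift X C.P C.n L) (h0 : cvec C X L = 0) :
    ∃ H : Subgroup E, H ⊓ X.π.ker = ⊥ ∧ H ⊔ X.π.ker = ⊤ := by
  obtain ⟨A, hA, hcard⟩ := exists_subgroup X L hS.toSOK hL h0 hS.inj
  exact exists_complement_of_subgroup X A hA (hcard.trans hS.card)

/-- If the exceptional column vanishes every extension splits. -/
theorem exists_complement {E : Type u} [Group E] [Finite E] (X : Ext ok E) (hS : Sylow2OK ok C)
    {G : List ℕ} (hG : Ann.{u} ok C G) {D : Red} (hD : RedOK C G D) (hZ : D.Z = 0) :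
    ∃ H : Subgroup E, H ⊓ X.π.ker = ⊥ ∧ H ⊔ X.π.ker = ⊤ := by
  obtain ⟨L, hL⟩ := exists_lift X hS.toSOK
  obtain ⟨L', hL', h⟩ := exists_normal X L hS.toSOK hS.rels8 hG hD hL
  exact complement_of_zero X hS L' hL' (h.elim id fun e => e.trans hZ)

theorem exists_normal_lift {E : Type u} [Group E] [Finite E] (X : Ext ok E) (hS : Sylow2OK ok C)
    {G : List ℕ} (hG : Ann.{u} ok C G) {D : Red} (hD : RedOK C G D)
    (hns : ∀ H : Subgroup E, H ⊓ X.π.ker = ⊥ → H ⊔ X.π.ker ≠ ⊤) :
    ∃ L : ℕ → E, IsLift X C.P C.n L ∧ cvec C X L = D.Z := by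
  obtain ⟨L, hL⟩ := exists_lift X hS.toSOK
  obtain ⟨L', hL', h⟩ := exists_normal X L hS.toSOK hS.rels8 hG hD hL
  refine ⟨L', hL', h.resolve_left fun e => ?_⟩
  obtain ⟨H, h1, h2⟩ := complement_of_zero X hS L' hL' e
  exact hns H h1 h2

theorem map_wp {Γ Δ : Type*} [Group Γ] [Group Δ] (f : Γ →* Δ) (x : ℕ → Γ) :
    ∀ l, f (wp x l) = wp (fun i => f (x i)) l
  | [] => map_one f
  | (i, b) :: l => by
    rw [wp, wp, map_mul, map_wp f x l]
    cases b <;> simp

section Pair

variable {E : Type u} [Group E] [Finite E] {E' : Type v} [Group E'] [Finite E']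
  (X : Ext ok E) (X' : Ext ok E')
  (hsame : ∀ g g' a b, a < 2048 → b < 2048 → X.π g = X'.π g' → g * X.ι a = X.ι b * g →
    g' * X'.ι a = X'.ι b * g')

/-- the fibre product -/
def pull : Subgroup (E × E') where
  carrier := {p | X.π p.1 = X'.π p.2}
  one_mem' := show X.π 1 = X'.π 1 by rw [map_one, map_one]
  mul_mem' := fun {p q} (hp : X.π p.1 = _) (hq : X.π q.1 = _) =>
    show X.π (p * q).1 = X'.π (p * q).2 by rw [Prod.fst_mul, Prod.snd_mul, map_mul, map_mul, hp, hq]
  inv_mem' := fun {p} (hp : X.π p.1 = _) =>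
    show X.π p⁻¹.1 = X'.π p⁻¹.2 by rw [Prod.fst_inv, Prod.snd_inv, map_inv, map_inv, hp]

/-- the diagonal of the two kernels -/
def diag : Subgroup (pull X X') where
  carrier := {p | ∃ a < 2048, (p : E × E') = (X.ι a, X'.ι a)}
  one_mem' := ⟨0, by norm_num, by rw [X.ι_zero, X'.ι_zero]; rfl⟩
  mul_mem' := by
    rintro p q ⟨a, ha, hp⟩ ⟨b, hb, hq⟩
    refine ⟨a ^^^ b, xor_lt ha hb, ?_⟩
    rw [Subgroup.coe_mul, hp, hq, Prod.mk_mul_mk, X.ι_mul ha hb, X'.ι_mul ha hb]
  inv_mem' := by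
    rintro p ⟨a, ha, hp⟩
    refine ⟨a, ha, ?_⟩
    rw [Subgroup.coe_inv, hp, Prod.inv_mk, X.ι_inv ha, X'.ι_inv ha]

include hsame in
theorem diag_normal : (diag X X').Normal := by
  constructor
  rintro p ⟨a, ha, hp⟩ ⟨⟨g, g'⟩, hg⟩
  obtain ⟨b, hb, he⟩ := (X.ker (g * X.ι a * g⁻¹)).1 (by
    rw [map_mul, map_mul, X.π_ι ha, mul_one, map_inv, mul_inv_cancel])
  have h' := hsame g g' a b ha hb hg (by rw [he, inv_mul_cancel_right])
  refine ⟨b, hb, ?_⟩
  simp only [Subgroup.coe_mul, Subgroup.coe_inv, hp, Prod.mk_mul_mk, Prod.inv_mk, h',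
    mul_inv_cancel_right, he]

variable [(diag X X').Normal]

/-- image on the points -/
def pullπ : ↥(pull X X') ⧸ diag X X' →* Equiv.Perm GolayPt :=
  QuotientGroup.lift (diag X X')
    (X.π.comp ((MonoidHom.fst E E').comp (pull X X').subtype)) (by
      rintro p ⟨a, ha, hp⟩
      show X.π (p : E × E').1 = 1
      rw [hp]; exact X.π_ι ha)

theorem inl_mem {a : ℕ} (ha : a < 2048) : ((X.ι a, 1) : E × E') ∈ pull X X' :=
  show X.π (X.ι a) = X'.π 1 by rw [X.π_ι ha, map_one]

/-- kernel coordinates of the fibre product modulo the diagonal -/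
def pullι (a : ℕ) : ↥(pull X X') ⧸ diag X X' :=
  if h : a < 2048 then QuotientGroup.mk ⟨(X.ι a, 1), inl_mem X X' h⟩ else 1

/-- the fibre product modulo the diagonal, as an extension -/
def pullExt : Ext ok (↥(pull X X') ⧸ diag X X') where
  π := pullπ X X'
  ι := pullι X X'
  xor a ha b hb := by
    rw [pullι, pullι, pullι, dif_pos (xor_lt ha hb), dif_pos ha, dif_pos hb, ← QuotientGroup.mk_mul]
    congr 1
    apply Subtype.ext
    simp [X.ι_mul ha hb]
  inj a ha h := by
    rw [pullι, dif_pos ha, QuotientGroup.eq_one_iff] at h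
    obtain ⟨b, hb, e⟩ := h
    rw [Prod.mk.injEq] at e
    have hb0 := X'.inj b hb e.2.symm
    subst hb0
    exact X.inj a ha (e.1.trans X.ι_zero)
  ker q := by
    obtain ⟨⟨⟨g, g'⟩, hg⟩, rfl⟩ := QuotientGroup.mk_surjective q
    constructor
    · intro h1
      have h1' : X.π g = 1 := h1
      obtain ⟨b, hb, rfl⟩ := (X'.ker g').1 (hg.symm.trans h1')
      obtain ⟨a, ha, rfl⟩ := (X.ker g).1 h1'
      refine ⟨a ^^^ b, xor_lt ha hb, ?_⟩
      rw [pullι, dif_pos (xor_lt ha hb), QuotientGroup.eq]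
      refine ⟨b, hb, ?_⟩
      simp only [Subgroup.coe_mul, Subgroup.coe_inv, Prod.inv_mk, Prod.mk_mul_mk, inv_one, one_mul,
        X.ι_inv (xor_lt ha hb), X.ι_mul (xor_lt ha hb) ha]
      rw [Nat.xor_comm a b, Nat.xor_assoc, Nat.xor_self, Nat.xor_zero]
    · rintro ⟨a, ha, e⟩
      rw [← e, pullι, dif_pos ha]
      exact X.π_ι ha
  rng q := by
    obtain ⟨⟨⟨g, g'⟩, hg⟩, rfl⟩ := QuotientGroup.mk_surjective q
    exact X.rng g
  surj s hs := by
    obtain ⟨g, hg⟩ := X.surj s hs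
    obtain ⟨g', hg'⟩ := X'.surj s hs
    exact ⟨QuotientGroup.mk ⟨(g, g'), hg.trans hg'.symm⟩, hg⟩
  conj q P M hPM hq a ha := by
    obtain ⟨⟨⟨g, g'⟩, hg⟩, rfl⟩ := QuotientGroup.mk_surjective q
    have hc := X.conj g P M hPM hq a ha
    rw [pullι, pullι, dif_pos ha, dif_pos (mapp_lt _ _), ← QuotientGroup.mk_mul,
      ← QuotientGroup.mk_mul]
    congr 1
    apply Subtype.ext
    simp [hc]

theorem exists_iso {L : ℕ → E} {L' : ℕ → E'} (hS : Sylow2OK ok C) (hL : IsLift X C.P C.n L)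
    (hL' : IsLift X' C.P C.n L') (hc : cvec C X L = cvec C X' L') : Nonempty (E ≃* E') := by
  classical
  let Y := pullExt X X'
  let M : ℕ → ↥(pull X X') := fun i =>
    if hi : i < C.n then ⟨(L i, L' i), (hL i hi).trans (hL' i hi).symm⟩ else 1
  let L'' : ℕ → ↥(pull X X') ⧸ diag X X' := fun i => QuotientGroup.mk (M i)
  have hM : ∀ i (hi : i < C.n), ((M i : ↥(pull X X')) : E × E') = (L i, L' i) := fun i hi => by
    simp [M, dif_pos hi]
  have hL'' : IsLift Y C.P C.n L'' := fun i hi => by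
    show X.π ((M i : ↥(pull X X')) : E × E').1 = _
    rw [hM i hi]; exact hL i hi
  have h0 : cvec C Y L'' = 0 := by
    rw [cvec, ← pk_zero C.rels.length]
    refine pk_congr _ fun r hr => cval_eq Y L'' (by norm_num) ?_
    rw [Y.ι_zero, show wp L'' (C.rels.getD r []) =
      QuotientGroup.mk' (diag X X') (wp M (C.rels.getD r [])) from (map_wp (QuotientGroup.mk' (diag X X')) M _).symm]
    refine (QuotientGroup.eq_one_iff _).2 ⟨cval X L C.rels r, cval_lt X L _ _, ?_⟩
    have hmem : C.rels.getD r [] ∈ C.rels := by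
      rw [List.getD_eq_getElem (d := []) (hn := hr)]; exact List.getElem_mem hr
    have hfield : cval X L C.rels r = cval X' L' C.rels r := by
      have := congrArg (fun x => (x >>> (11 * r)) % 2048) hc
      simp only [cvec] at this
      rwa [pk_field _ _ (fun i _ => cval_lt X L _ i) r hr,
        pk_field _ _ (fun i _ => cval_lt X' L' _ i) r hr] at this
    refine Prod.ext ?_ ?_
    · show ((MonoidHom.fst E E').comp (pull X X').subtype) (wp M (C.rels.getD r [])) = _
      rw [map_wp, wp_congr (y := L) (fun i hi => by simp [hM i hi]) _ (hS.relB _ hmem),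
        cval_spec X L (hS.rel_one X L hL hr)]
    · show ((MonoidHom.snd E E').comp (pull X X').subtype) (wp M (C.rels.getD r [])) = _
      rw [map_wp, wp_congr (y := L') (fun i hi => by simp [hM i hi]) _ (hS.relB _ hmem),
        cval_spec X' L' (hS.rel_one X' L' hL' hr), hfield]
  obtain ⟨H, hH1, hH2⟩ := complement_of_zero Y hS L'' hL'' h0
  let G : Subgroup ↥(pull X X') := H.comap (QuotientGroup.mk' (diag X X'))
  have hD : diag X X' ≤ G := fun p hp => by
    show (QuotientGroup.mk p : ↥(pull X X') ⧸ diag X X') ∈ H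
    rw [(QuotientGroup.eq_one_iff p).2 hp]; exact one_mem _
  have hker : ∀ p ∈ G, X.π (p : E × E').1 = 1 → p ∈ diag X X' := fun p hp h1 => by
    have : (QuotientGroup.mk p : ↥(pull X X') ⧸ diag X X') ∈ H ⊓ Y.π.ker :=
      ⟨hp, MonoidHom.mem_ker.2 h1⟩
    rw [hH1, Subgroup.mem_bot] at this
    exact (QuotientGroup.eq_one_iff p).1 this
  have honto : ∀ s, (∃ g, X.π g = s) → ∃ p ∈ G, X.π (p : E × E').1 = s := by
    rintro s ⟨g, rfl⟩
    obtain ⟨g', hg'⟩ := X'.surj _ (X.rng g)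
    have hmem : (QuotientGroup.mk ⟨(g, g'), hg'.symm⟩ : ↥(pull X X') ⧸ diag X X') ∈ H ⊔ Y.π.ker := by
      rw [hH2]; exact Subgroup.mem_top _
    rw [← SetLike.mem_coe, Subgroup.mul_normal] at hmem
    obtain ⟨x, hx, k, hk, e⟩ := hmem
    obtain ⟨p, rfl⟩ := QuotientGroup.mk_surjective x
    refine ⟨p, hx, ?_⟩
    have := congrArg Y.π e
    rw [map_mul, MonoidHom.mem_ker.1 hk, mul_one] at this
    exact this
  let f : G →* E := (MonoidHom.fst E E').comp ((pull X X').subtype.comp G.subtype)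
  let f' : G →* E' := (MonoidHom.snd E E').comp ((pull X X').subtype.comp G.subtype)
  have hf : Function.Bijective f := by
    refine ⟨(injective_iff_map_eq_one f).2 fun p hp => ?_, fun g => ?_⟩
    · obtain ⟨a, ha, e⟩ := hker p p.2 (by
        show X.π (f p) = 1
        rw [hp, map_one])
      have ha0 := X.inj a ha (by
        have : f p = X.ι a := congrArg Prod.fst e
        rw [← this, hp])
      subst ha0
      rw [X.ι_zero, X'.ι_zero] at e
      exact Subtype.ext (Subtype.ext e)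
    · obtain ⟨p, hp, e⟩ := honto _ ⟨g, rfl⟩
      obtain ⟨a, ha, hga⟩ := X.exists_ι (g := g) e.symm
      let q : ↥(pull X X') := ⟨(X.ι a, X'.ι a), show X.π (X.ι a) = X'.π (X'.ι a) by
        rw [X.π_ι ha, X'.π_ι ha]⟩
      refine ⟨⟨q * p, mul_mem (hD ⟨a, ha, rfl⟩) hp⟩, ?_⟩
      show ((q * p : ↥(pull X X')) : E × E').1 = g
      rw [Subgroup.coe_mul, Prod.fst_mul, hga]
  have hf' : Function.Bijective f' := by
    refine ⟨(injective_iff_map_eq_one f').2 fun p hp => ?_, fun g => ?_⟩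
    · obtain ⟨a, ha, e⟩ := hker p p.2 (by
        rw [(p : ↥(pull X X')).2]
        show X'.π (f' p) = 1
        rw [hp, map_one])
      have ha0 := X'.inj a ha (by
        have : f' p = X'.ι a := congrArg Prod.snd e
        rw [← this, hp])
      subst ha0
      rw [X.ι_zero, X'.ι_zero] at e
      exact Subtype.ext (Subtype.ext e)
    · obtain ⟨p, hp, e⟩ := honto _ (X.surj _ (X'.rng g))
      rw [p.2] at e
      obtain ⟨a, ha, hga⟩ := X'.exists_ι (g := g) e.symm
      let q : ↥(pull X X') := ⟨(X.ι a, X'.ι a), show X.π (X.ι a) = X'.π (X'.ι a) by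
        rw [X.π_ι ha, X'.π_ι ha]⟩
      refine ⟨⟨q * p, mul_mem (hD ⟨a, ha, rfl⟩) hp⟩, ?_⟩
      show ((q * p : ↥(pull X X')) : E × E').2 = g
      rw [Subgroup.coe_mul, Prod.snd_mul, hga]
  exact ⟨(MulEquiv.ofBijective f hf).symm.trans (MulEquiv.ofBijective f' hf')⟩

end Pair

/-- The extension without complement is unique. -/
theorem iso_of_cert {E : Type u} [Group E] [Finite E] {E' : Type v} [Group E'] [Finite E']
    (X : Ext ok E) (X' : Ext ok E')
    (hsame : ∀ g g' a b, a < 2048 → b < 2048 → X.π g = X'.π g' → g * X.ι a = X.ι b * g →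
      g' * X'.ι a = X'.ι b * g')
    (hS : Sylow2OK ok C) {G : List ℕ} (hG : Ann.{u} ok C G) (hG' : Ann.{v} ok C G) {D : Red}
    (hD : RedOK C G D)
    (hns : ∀ H : Subgroup E, H ⊓ X.π.ker = ⊥ → H ⊔ X.π.ker ≠ ⊤)
    (hns' : ∀ H : Subgroup E', H ⊓ X'.π.ker = ⊥ → H ⊔ X'.π.ker ≠ ⊤) : Nonempty (E ≃* E') := by
  obtain ⟨L, hL, hc⟩ := exists_normal_lift X hS hG hD hns
  obtain ⟨L', hL', hc'⟩ := exists_normal_lift X' hS hG' hD hns'
  have := diag_normal X X' hsame
  exact exists_iso X X' hS hL hL' (hc.trans hc'.symm)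

end Cfsg.Agent.GolayExtPair70
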