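import Cfsg.Agent.Lib.SplitVoltage

/-!
Certificates for the linear systems of voltages: linear forms in packed digits, an order of
propagation, and the final elimination.
-/

set_option autoImplicit false

namespace Cfsg.Agent.SplitVoltageCert

open SplitVoltage

/-! ### lookup tables -/

/-- binary tables -/
inductive Tr where
  | lf (v : ℕ) : Tr
  | nd (l r : Tr) : Tr

/-- lookup by binary digits, lowest first; the recursor is used directly as it reduces faster -/
noncomputable def get (t : Tr) : ℕ → ℕ :=
  Tr.rec (motive := fun _ => ℕ → ℕ) (fun v _ => v)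
    (fun _ _ gl gr k => cond (Nat.beq (k % 2) 0) (gl (k / 2)) (gr (k / 2))) t

/-! ### packed forms -/

/-- the digit base -/
def B : ℕ := 16777216

/-- value of a packed form -/
def evalF {A : Type*} [AddCommGroup A] : List A → ℕ → A
  | [], _ => 0
  | q :: qs, x => (x % B) • q + evalF qs (x / B)

/-- all digits bounded -/
def dle : ℕ → ℕ → ℕ → Bool
  | 0, _, _ => true
  | k + 1, l, x => decide (x % B ≤ l) && dle k l (x / B)

/-- all digits divisible by `m` -/
def dzero : ℕ → ℕ → ℕ → Bool
  | 0, _, _ => true
  | k + 1, m, x => (x % B % m == 0) && dzero k m (x / B)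

theorem dle_mono : ∀ k {l l' x : ℕ}, l ≤ l' → dle k l x = true → dle k l' x = true
  | 0, _, _, _, _, _ => rfl
  | k + 1, l, l', x, h, hx => by
    simp only [dle, Bool.and_eq_true, decide_eq_true_eq] at hx ⊢
    exact ⟨hx.1.trans h, dle_mono k h hx.2⟩

theorem dle_zero : ∀ k l : ℕ, dle k l 0 = true
  | 0, _ => rfl
  | k + 1, l => by simp [dle, dle_zero k l]

theorem add_div_B {a b : ℕ} (h : a % B + b % B < B) :
    (a + b) % B = a % B + b % B ∧ (a + b) / B = a / B + b / B := by
  constructor
  · rw [Nat.add_mod, Nat.mod_eq_of_lt h]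
  · exact Nat.add_div_eq_of_add_mod_lt h

theorem dle_add : ∀ (k : ℕ) {la lb a b : ℕ}, la + lb < B → dle k la a = true → dle k lb b = true →
    dle k (la + lb) (a + b) = true
  | 0, _, _, _, _, _, _, _ => rfl
  | k + 1, la, lb, a, b, h, ha, hb => by
    simp only [dle, Bool.and_eq_true, decide_eq_true_eq] at ha hb ⊢
    obtain ⟨e1, e2⟩ := add_div_B (a := a) (b := b) (by omega)
    rw [e1, e2]
    exact ⟨by omega, dle_add k h ha.2 hb.2⟩

theorem evalF_add {A : Type*} [AddCommGroup A] : ∀ (p : List A) {la lb a b : ℕ}, la + lb < B →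
    dle p.length la a = true → dle p.length lb b = true →
    evalF p (a + b) = evalF p a + evalF p b
  | [], _, _, _, _, _, _, _ => by simp [evalF]
  | q :: qs, la, lb, a, b, h, ha, hb => by
    simp only [List.length_cons, dle, Bool.and_eq_true, decide_eq_true_eq] at ha hb
    obtain ⟨e1, e2⟩ := add_div_B (a := a) (b := b) (by omega)
    simp only [evalF]
    rw [e1, e2, evalF_add qs h ha.2 hb.2, add_nsmul]
    abel

theorem evalF_zero {A : Type*} [AddCommGroup A] : ∀ p : List A, evalF p 0 = 0
  | [] => rfl
  | q :: qs => by simp [evalF, evalF_zero qs]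

theorem evalF_dzero {A : Type*} [AddCommGroup A] {m : ℕ} (hA : ∀ a : A, m • a = 0) :
    ∀ (p : List A) {x : ℕ}, dzero p.length m x = true → evalF p x = 0
  | [], _, _ => rfl
  | q :: qs, x, h => by
    simp only [List.length_cons, dzero, Bool.and_eq_true, beq_iff_eq] at h
    obtain ⟨k, hk⟩ := Nat.dvd_of_mod_eq_zero h.1
    rw [evalF, evalF_dzero hA qs h.2, hk, mul_comm, mul_nsmul', hA, nsmul_zero, add_zero]

theorem dle_mul : ∀ (k c : ℕ) {l x : ℕ}, c * l < B → dle k l x = true →
    dle k (c * l) (c * x) = true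
  | k, 0, _, _, _, _ => by simp [dle_zero]
  | k, c + 1, l, x, h, hx => by
    have h' : c * l + l < B := by rwa [Nat.succ_mul] at h
    rw [Nat.succ_mul, Nat.succ_mul]
    exact dle_add k h' (dle_mul k c (by omega) hx) hx

theorem evalF_mul {A : Type*} [AddCommGroup A] (p : List A) : ∀ (c : ℕ) {l x : ℕ}, c * l < B →
    dle p.length l x = true → evalF p (c * x) = c • evalF p x
  | 0, _, _, _, _ => by simp [evalF_zero]
  | c + 1, l, x, h, hx => by
    have h' : c * l + l < B := by rwa [Nat.succ_mul] at h
    rw [Nat.succ_mul, evalF_add p h' (dle_mul _ c (by omega) hx) hx,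
      evalF_mul p c (by omega) hx, succ_nsmul]

theorem neg_eq_nsmul {A : Type*} [AddCommGroup A] {m : ℕ} (hm : 1 ≤ m) (hA : ∀ a : A, m • a = 0)
    (a : A) : (m - 1) • a = -a := by
  rw [eq_neg_iff_add_eq_zero, ← succ_nsmul, Nat.sub_add_cancel hm, hA]

/-- unit form -/
def unitF (k : ℕ) : ℕ := B ^ k

theorem dle_unit : ∀ (k K : ℕ), dle K 1 (unitF k) = true
  | _, 0 => rfl
  | 0, K + 1 => by
    simp only [dle, unitF, pow_zero]
    rw [show (1 : ℕ) % B = 1 from rfl, show (1 : ℕ) / B = 0 from rfl, dle_zero]
    rfl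
  | k + 1, K + 1 => by
    simp only [dle, unitF, pow_succ, Nat.mul_mod_left,
      Nat.mul_div_cancel _ (show 0 < B by decide)]
    exact dle_unit k K

theorem evalF_unit {A : Type*} [AddCommGroup A] : ∀ (p : List A) (k : ℕ),
    evalF p (unitF k) = p.getD k 0
  | [], k => by simp [evalF]
  | q :: qs, 0 => by
    simp only [evalF, unitF, pow_zero]
    rw [show (1 : ℕ) % B = 1 from rfl, show (1 : ℕ) / B = 0 from rfl, evalF_zero]
    simp
  | q :: qs, k + 1 => by
    simp only [evalF, unitF, pow_succ, Nat.mul_mod_left,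
      Nat.mul_div_cancel _ (show 0 < B by decide), zero_nsmul, zero_add]
    rw [show B ^ k = unitF k from rfl, evalF_unit qs k, List.getD_cons_succ]

/-! ### certificates -/

/-- the data of a certificate: numbers of generators, cosets, power relations and parameters,
tables indexed by `i + n * c`, the relations, and the parameter edges -/
structure Cert where
  m : ℕ
  n : ℕ
  N : ℕ
  npow : ℕ
  K : ℕ
  rels : List (List (ℕ × Bool))
  nx : Tr
  pv : Tr
  par : Tr
  fm : Tr
  rk : Tr
  js : Tr
  pe : List ℕ
  fin : List (List (ℕ × ℕ × ℕ))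

namespace Cert

variable (C : Cert)

/-- action table -/
noncomputable def nxF (i c : ℕ) : ℕ := get C.nx (i + C.n * c)
/-- inverse action table -/
noncomputable def pvF (i c : ℕ) : ℕ := get C.pv (i + C.n * c)
/-- tree -/
noncomputable def parF (c : ℕ) : ℕ × ℕ := (get C.par c % C.n, get C.par c / C.n)
/-- form of an edge -/
noncomputable def fmF (ed : ℕ) : ℕ := get C.fm ed

/-- unit form of a relation -/
def relForm (r : ℕ) : ℕ := if r < C.npow then 0 else unitF (r - C.npow)

/-- the edges of a walk -/
noncomputable def edges : ℕ → List (ℕ × Bool) → List (ℕ × Bool)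
  | _, [] => []
  | c, (i, true) :: l => (i + C.n * c, true) :: edges (C.nxF i c) l
  | c, (i, false) :: l => (i + C.n * C.pvF i c, false) :: edges (C.pvF i c) l

/-- sum of the forms along edges -/
noncomputable def fsum : List (ℕ × Bool) → ℕ
  | [] => 0
  | (ed, b) :: l => (if b then C.fmF ed else (C.m - 1) * C.fmF ed) + fsum l

/-- digit bound of an equation with `len` edges -/
def eqBound (len : ℕ) : ℕ := len * (C.m * C.m) + C.m

/-- the packed equation of relation `r` at `c` -/
noncomputable def eqForm (r c : ℕ) : ℕ :=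
  C.fsum (C.edges c (C.rels.getD r [])) + (C.m - 1) * C.relForm r

/-- the check of one edge -/
noncomputable def edgeOK (ed : ℕ) : Bool :=
  dle C.K (C.m - 1) (C.fmF ed) &&
  match get C.js ed with
  | 0 => decide (0 < C.nxF (ed % C.n) (ed / C.n)) &&
      (C.parF (C.nxF (ed % C.n) (ed / C.n)) == (ed % C.n, ed / C.n)) && (C.fmF ed == 0)
  | j + 1 =>
    if j % 2 == 0 then
      decide (j / 2 + (C.rels.length - C.npow) < C.K) && (C.pe.getD (j / 2) 0 == ed) &&
        (C.fmF ed == unitF (j / 2 + (C.rels.length - C.npow)))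
    else
      let r := j / 2 % C.rels.length
      let c := j / 2 / C.rels.length % C.N
      let pos := j / 2 / C.rels.length / C.N
      let es := C.edges c (C.rels.getD r [])
      decide (pos < es.length) && ((es.getD pos (0, true)).1 == ed) &&
        (es.eraseIdx pos).all (fun t => decide (get C.rk t.1 < get C.rk ed)) &&
        dzero C.K C.m (C.eqForm r c)

/-- combination of equations -/
noncomputable def combo : List (ℕ × ℕ × ℕ) → ℕ
  | [] => 0
  | (r, c, a) :: l => a * C.eqForm r c + combo l

/-- digit bound of a combination -/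
def comboBound : List (ℕ × ℕ × ℕ) → ℕ
  | [] => 0
  | (r, _, a) :: l => a * C.eqBound (C.rels.getD r []).length + comboBound l

/-- the check of the tables -/
noncomputable def tableOK : Bool :=
  (List.range C.N).all fun c => (List.range C.n).all fun i =>
    decide (C.nxF i c < C.N) && decide (C.pvF i c < C.N) && (C.nxF i (C.pvF i c) == c)

/-- the check of the tree -/
noncomputable def treeOK : Bool :=
  (List.range C.N).all fun c => c == 0 ||
    (decide ((C.parF c).2 < c) && (C.nxF (C.parF c).1 (C.parF c).2 == c))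

/-- the check of the relations -/
def relOK : Bool :=
  C.rels.all (fun l => l.all (fun t => decide (t.1 < C.n)) &&
    decide (C.eqBound l.length < B))

/-- the check of all edges -/
noncomputable def edgesOK : Bool := (List.range (C.n * C.N)).all C.edgeOK

/-- the check of the elimination -/
noncomputable def finOK : Bool :=
  (List.range C.K).all fun k =>
    let l := C.fin.getD k []
    l.all (fun t => decide (t.1 < C.rels.length) && decide (t.2.1 < C.N)) &&
    decide (C.comboBound l + C.m < B) && dzero C.K C.m (C.combo l + (C.m - 1) * unitF k)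

/-- the checks other than the elimination -/
structure Core : Prop where
  hm : 2 ≤ C.m
  hn : 0 < C.n
  hN : 0 < C.N
  hnpow : C.npow ≤ C.rels.length
  hK : C.rels.length ≤ C.npow + C.K
  table : C.tableOK = true
  tree : C.treeOK = true
  rel : C.relOK = true
  edge : C.edgesOK = true

/-- all checks -/
structure OK : Prop extends Core C where
  fin : C.finOK = true

/-- elimination leaving one parameter `k0`, killed by `t`, every parameter `k` being `cs k` times it -/
noncomputable def finCyc (k0 t : ℕ) (cs : List ℕ) : Bool :=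
  decide (k0 < C.K) && (List.range C.K).all fun k =>
    let a := if k == k0 then t else 1
    let b := if k == k0 then 0 else (C.m - cs.getD k 0 % C.m) % C.m
    let l := C.fin.getD k []
    l.all (fun t => decide (t.1 < C.rels.length) && decide (t.2.1 < C.N)) &&
    decide (C.comboBound l + (C.m - 1) * (a + b) < B) &&
    dzero C.K C.m (C.combo l + (C.m - 1) * (a * unitF k + b * unitF k0))

variable {C}

theorem nxF_lt (h : C.Core) {i c : ℕ} (hi : i < C.n) (hc : c < C.N) :
    C.nxF i c < C.N ∧ C.pvF i c < C.N ∧ C.nxF i (C.pvF i c) = c := by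
  have := List.all_eq_true.1 (List.all_eq_true.1 h.table c (List.mem_range.2 hc)) i
    (List.mem_range.2 hi)
  simpa [and_assoc] using this

theorem parF_spec (h : C.Core) {c : ℕ} (hc : c < C.N) (h0 : 0 < c) :
    (C.parF c).2 < c ∧ (C.parF c).1 < C.n ∧ C.nxF (C.parF c).1 (C.parF c).2 = c := by
  have := List.all_eq_true.1 h.tree c (List.mem_range.2 hc)
  simp only [Bool.or_eq_true, beq_iff_eq, h0.ne', false_or, Bool.and_eq_true,
    decide_eq_true_eq] at this
  exact ⟨this.1, Nat.mod_lt _ h.hn, this.2⟩

theorem rel_spec (h : C.Core) {l : List (ℕ × Bool)} (hl : l ∈ C.rels) :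
    (∀ t ∈ l, t.1 < C.n) ∧ C.eqBound l.length < B := by
  have := List.all_eq_true.1 h.rel l hl
  simpa [List.all_eq_true] using this

/-- voltages as a function of edges -/
def vE {A : Type*} (C : Cert) (v : ℕ → ℕ → A) (ed : ℕ) : A := v (ed % C.n) (ed / C.n)

theorem edge_lt (h : C.Core) {i c : ℕ} (hi : i < C.n) (hc : c < C.N) :
    i + C.n * c < C.n * C.N ∧ (i + C.n * c) % C.n = i ∧ (i + C.n * c) / C.n = c := by
  refine ⟨?_, by rw [Nat.add_mul_mod_self_left, Nat.mod_eq_of_lt hi],
    by rw [Nat.add_mul_div_left _ _ h.hn, Nat.div_eq_of_lt hi, zero_add]⟩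
  calc i + C.n * c < C.n + C.n * c := by omega
    _ = C.n * (c + 1) := by ring
    _ ≤ C.n * C.N := Nat.mul_le_mul_left _ hc

theorem edges_spec (h : C.Core) {A : Type*} [AddCommGroup A] (v : ℕ → ℕ → A) :
    ∀ (l : List (ℕ × Bool)), (∀ t ∈ l, t.1 < C.n) → ∀ c < C.N,
      (∀ t ∈ C.edges c l, t.1 < C.n * C.N) ∧ (C.edges c l).length = l.length ∧
      wsum C.nxF C.pvF v c l =
        ((C.edges c l).map fun t => if t.2 then C.vE v t.1 else -C.vE v t.1).sum
  | [], _, _, _ => by simp [edges, wsum]
  | (i, b) :: l, hl, c, hc => by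
    have hi : i < C.n := hl (i, b) List.mem_cons_self
    obtain ⟨h1, h2, -⟩ := nxF_lt h hi hc
    have hl' : ∀ t ∈ l, t.1 < C.n := fun t ht => hl t (List.mem_cons_of_mem _ ht)
    cases b with
    | true =>
      obtain ⟨i1, i2, i3⟩ := edges_spec h v l hl' _ h1
      obtain ⟨e1, e2, e3⟩ := edge_lt h hi hc
      simp only [edges, wsum, if_pos, List.map_cons, List.sum_cons, List.length_cons, vE, e2, e3]
      exact ⟨List.forall_mem_cons.2 ⟨e1, i1⟩, by rw [i2], by rw [i3]; rfl⟩
    | false =>
      obtain ⟨i1, i2, i3⟩ := edges_spec h v l hl' _ h2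
      obtain ⟨e1, e2, e3⟩ := edge_lt h hi h2
      simp only [edges, wsum, Bool.false_eq_true, if_false, List.map_cons, List.sum_cons,
        List.length_cons, vE, e2, e3]
      exact ⟨List.forall_mem_cons.2 ⟨e1, i1⟩, by rw [i2], by rw [i3]; rfl⟩

theorem edge_spec (h : C.Core) {ed : ℕ} (he : ed < C.n * C.N) :
    dle C.K (C.m - 1) (C.fmF ed) = true ∧ C.edgeOK ed = true := by
  have := List.all_eq_true.1 h.edge ed (List.mem_range.2 he)
  refine ⟨?_, this⟩
  simp only [edgeOK, Bool.and_eq_true] at this
  exact this.1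

theorem fsum_spec (h : C.Core) {A : Type*} [AddCommGroup A] (hA : ∀ a : A, C.m • a = 0)
    (p : List A) (hp : p.length = C.K) :
    ∀ es : List (ℕ × Bool), (∀ t ∈ es, t.1 < C.n * C.N) → es.length * (C.m * C.m) < B →
      dle C.K (es.length * (C.m * C.m)) (C.fsum es) = true ∧
      evalF p (C.fsum es) =
        (es.map fun t => if t.2 then evalF p (C.fmF t.1) else -evalF p (C.fmF t.1)).sum
  | [], _, _ => by simp [fsum, dle_zero, evalF_zero]
  | (ed, b) :: es, hes, hb => by
    have hlen : es.length * (C.m * C.m) + C.m * C.m < B := by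
      rwa [List.length_cons, Nat.succ_mul] at hb
    obtain ⟨i1, i2⟩ :=
      fsum_spec h hA p hp es (fun t ht => hes t (List.mem_cons_of_mem _ ht)) (by omega)
    have hd := (edge_spec h (hes (ed, b) List.mem_cons_self)).1
    have hm := h.hm
    have hmm : (C.m - 1) * (C.m - 1) ≤ C.m * C.m := Nat.mul_le_mul (Nat.sub_le _ _) (Nat.sub_le _ _)
    have hm1 : C.m - 1 ≤ C.m * C.m := (Nat.sub_le _ _).trans (Nat.le_mul_self _)
    have hterm : dle C.K (C.m * C.m) (if b then C.fmF ed else (C.m - 1) * C.fmF ed) = true ∧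
        evalF p (if b then C.fmF ed else (C.m - 1) * C.fmF ed) =
          if b then evalF p (C.fmF ed) else -evalF p (C.fmF ed) := by
      cases b with
      | true => exact ⟨dle_mono _ hm1 hd, rfl⟩
      | false =>
        simp only [Bool.false_eq_true, if_false]
        refine ⟨dle_mono _ hmm (dle_mul _ _ (by omega) hd), ?_⟩
        rw [evalF_mul p _ (l := C.m - 1) (by omega) (hp ▸ hd), neg_eq_nsmul (by omega) hA]
    constructor
    · rw [fsum, List.length_cons, Nat.succ_mul, add_comm (es.length * _)]
      exact dle_add _ (by omega) hterm.1 i1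
    · rw [fsum, evalF_add p (la := C.m * C.m) (lb := es.length * (C.m * C.m)) (by omega)
        (hp ▸ hterm.1) (hp ▸ i1), hterm.2, i2, List.map_cons, List.sum_cons]

theorem eqForm_spec (h : C.Core) {A : Type*} [AddCommGroup A] (hA : ∀ a : A, C.m • a = 0)
    (p : List A) (hp : p.length = C.K) {r c : ℕ} (hr : r < C.rels.length) (hc : c < C.N) :
    dle C.K (C.eqBound (C.rels.getD r []).length) (C.eqForm r c) = true ∧
      evalF p (C.eqForm r c) =
        ((C.edges c (C.rels.getD r [])).map fun t =>
          if t.2 then evalF p (C.fmF t.1) else -evalF p (C.fmF t.1)).sum -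
        if r < C.npow then 0 else p.getD (r - C.npow) 0 := by
  have hl : C.rels.getD r [] ∈ C.rels := by
    rw [List.getD_eq_getElem (hn := hr)]; exact List.getElem_mem hr
  obtain ⟨l1, l2⟩ := rel_spec h hl
  obtain ⟨e1, e2, -⟩ := edges_spec h (fun _ _ => (0 : ℤ)) _ l1 c hc
  rw [eqBound] at l2 ⊢
  obtain ⟨f1, f2⟩ := fsum_spec h hA p hp _ e1 (by rw [e2]; omega)
  rw [e2] at f1
  have hm := h.hm
  have hu : dle C.K C.m ((C.m - 1) * C.relForm r) = true ∧
      evalF p ((C.m - 1) * C.relForm r) =
        -(if r < C.npow then 0 else p.getD (r - C.npow) 0) := by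
    unfold relForm
    split
    · simp [dle_zero, evalF_zero]
    · refine ⟨dle_mono _ (by omega) (dle_mul _ _ (by omega) (dle_unit _ _)), ?_⟩
      rw [evalF_mul p _ (l := 1) (by omega) (dle_unit _ _), evalF_unit,
        neg_eq_nsmul (by omega) hA]
  refine ⟨dle_add _ l2 f1 hu.1, ?_⟩
  rw [eqForm, evalF_add p l2 (hp ▸ f1) (hp ▸ hu.1), f2, hu.2, sub_eq_add_neg]

theorem combo_spec (h : C.Core) {A : Type*} [AddCommGroup A] (hA : ∀ a : A, C.m • a = 0)
    (p : List A) (hp : p.length = C.K)
    (hz : ∀ r < C.rels.length, ∀ c < C.N, evalF p (C.eqForm r c) = 0) :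
    ∀ l : List (ℕ × ℕ × ℕ), (∀ t ∈ l, t.1 < C.rels.length ∧ t.2.1 < C.N) → C.comboBound l < B →
      dle C.K (C.comboBound l) (C.combo l) = true ∧ evalF p (C.combo l) = 0
  | [], _, _ => by simp [combo, dle_zero, evalF_zero]
  | (r, c, a) :: l, hl, hb => by
    obtain ⟨hr, hc⟩ : r < C.rels.length ∧ c < C.N := hl (r, c, a) List.mem_cons_self
    simp only [comboBound] at hb ⊢
    obtain ⟨i1, i2⟩ :=
      combo_spec h hA p hp hz l (fun t ht => hl t (List.mem_cons_of_mem _ ht)) (by omega)
    have he := (eqForm_spec h hA p hp hr hc).1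
    have h1 := dle_mul _ a (by omega) he
    refine ⟨dle_add _ hb h1 i1, ?_⟩
    rw [combo, evalF_add p hb (hp ▸ h1) (hp ▸ i1), evalF_mul p a (by omega) (hp ▸ he), hz r hr c hc,
      i2, nsmul_zero, add_zero]

/-- The parameters of a solution: they satisfy every equation and give every value. -/
theorem exists_params (h : C.Core) {A : Type*} [AddCommGroup A] (hA : ∀ a : A, C.m • a = 0)
    (v : ℕ → ℕ → A) (e : ℕ → A)
    (htree : ∀ c < C.N, 0 < c → v (C.parF c).1 (C.parF c).2 = 0)
    (heq : ∀ r < C.rels.length, ∀ c < C.N, wsum C.nxF C.pvF v c (C.rels.getD r []) = e r)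
    (hpow : ∀ r < C.npow, e r = 0) :
    ∃ p : List A, p.length = C.K ∧
      (∀ r < C.rels.length, ∀ c < C.N, evalF p (C.eqForm r c) = 0) ∧
      ∀ i < C.n, ∀ c < C.N, v i c = evalF p (C.fmF (i + C.n * c)) := by
  let f : ℕ → A := fun k =>
    if k < C.rels.length - C.npow then e (C.npow + k)
    else C.vE v (C.pe.getD (k - (C.rels.length - C.npow)) 0)
  let p : List (A) := (List.range C.K).map f
  have hp : p.length = C.K := by simp [p]
  have hpk : ∀ k < C.K, p.getD k 0 = f k := fun k hk => by
    rw [List.getD_eq_getElem (hn := by omega)]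
    simp [p]
  have hedge : ∀ ed < C.n * C.N, C.vE v ed = evalF p (C.fmF ed) := by
    suffices ∀ R, ∀ ed < C.n * C.N, get C.rk ed < R → C.vE v ed = evalF p (C.fmF ed) from
      fun ed he => this _ ed he (Nat.lt_succ_self _)
    intro R
    induction R with
    | zero => intro ed _ hlt; exact absurd hlt (Nat.not_lt_zero _)
    | succ R ih =>
      intro ed he hlt
      obtain ⟨hd, hok⟩ := edge_spec h he
      simp only [edgeOK, Bool.and_eq_true] at hok
      have hi : ed % C.n < C.n := Nat.mod_lt _ h.hn
      have hcN : ed / C.n < C.N := Nat.div_lt_of_lt_mul he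
      obtain ⟨-, hok⟩ := hok
      revert hok
      split
      · intro hok
        simp only [Bool.and_eq_true, beq_iff_eq, decide_eq_true_eq] at hok
        obtain ⟨⟨h0, hparE⟩, hf⟩ := hok
        have := htree _ (nxF_lt h hi hcN).1 h0
        rw [hparE] at this
        rw [hf, evalF_zero]
        exact this
      · rename_i j _
        split
        · intro hok
          simp only [Bool.and_eq_true, beq_iff_eq, decide_eq_true_eq] at hok
          obtain ⟨⟨hk, hped⟩, hf⟩ := hok
          rw [hf, evalF_unit, hpk _ hk]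
          simp only [f, if_neg (show ¬ j / 2 + (C.rels.length - C.npow) < C.rels.length - C.npow
            by omega), Nat.add_sub_cancel, hped]
        · intro hok
          simp only [Bool.and_eq_true, beq_iff_eq, decide_eq_true_eq, List.all_eq_true] at hok
          obtain ⟨⟨⟨hpos, hed⟩, hoth⟩, hz⟩ := hok
          set r := j / 2 % C.rels.length
          set c := j / 2 / C.rels.length % C.N
          set pos := j / 2 / C.rels.length / C.N
          have hr : r < C.rels.length := by
            refine Nat.mod_lt _ ?_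
            by_contra h0
            have he' : C.rels.getD r [] = [] := List.getD_eq_default _ _ (by omega)
            rw [he'] at hpos
            simp [edges] at hpos
          have hc : c < C.N := Nat.mod_lt _ h.hN
          have hl : C.rels.getD r [] ∈ C.rels := by
            rw [List.getD_eq_getElem (hn := hr)]; exact List.getElem_mem hr
          obtain ⟨e1, -, e3⟩ := edges_spec h v _ (rel_spec h hl).1 c hc
          set es := C.edges c (C.rels.getD r [])
          have h1 := heq r hr c hc
          rw [e3] at h1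
          have h2 := (eqForm_spec h hA p hp hr hc).2
          rw [evalF_dzero hA p (hp ▸ hz), eq_comm, sub_eq_zero] at h2
          have hef : (if r < C.npow then 0 else p.getD (r - C.npow) 0) = e r := by
            split
            · exact (hpow r ‹_›).symm
            · rw [hpk _ (by have := h.hK; omega)]
              simp only [f, if_pos (show r - C.npow < C.rels.length - C.npow by omega)]
              congr 1; omega
          rw [hef] at h2
          have hperm : (es.getD pos (0, true) :: es.eraseIdx pos).Perm es := by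
            rw [List.getD_eq_getElem (hn := hpos)]
            exact List.getElem_cons_eraseIdx_perm hpos
          rw [← (hperm.map _).sum_eq, List.map_cons, List.sum_cons] at h1 h2
          have hrest : ((es.eraseIdx pos).map fun t => if t.2 then C.vE v t.1 else -C.vE v t.1) =
              (es.eraseIdx pos).map fun t =>
                if t.2 then evalF p (C.fmF t.1) else -evalF p (C.fmF t.1) := by
            refine List.map_congr_left fun t ht => ?_
            have hlt' : get C.rk t.1 < R := lt_of_lt_of_le (hoth t ht) (Nat.lt_succ_iff.1 hlt)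
            rw [ih t.1 (e1 t (List.mem_of_mem_eraseIdx ht)) hlt']
          rw [hrest, ← h2] at h1
          have h3 := add_right_cancel h1
          rw [hed] at h3
          split at h3
          · exact h3
          · exact neg_injective h3
  have hzero : ∀ r < C.rels.length, ∀ c < C.N, evalF p (C.eqForm r c) = 0 := by
    intro r hr c hc
    have hl : C.rels.getD r [] ∈ C.rels := by
      rw [List.getD_eq_getElem (hn := hr)]; exact List.getElem_mem hr
    obtain ⟨e1, -, e3⟩ := edges_spec h v _ (rel_spec h hl).1 c hc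
    rw [(eqForm_spec h hA p hp hr hc).2, sub_eq_zero]
    have h1 := heq r hr c hc
    rw [e3] at h1
    rw [show ((C.edges c (C.rels.getD r [])).map fun t =>
        if t.2 then evalF p (C.fmF t.1) else -evalF p (C.fmF t.1)) =
        ((C.edges c (C.rels.getD r [])).map fun t => if t.2 then C.vE v t.1 else -C.vE v t.1) from
      List.map_congr_left fun t ht => by rw [hedge t.1 (e1 t ht)], h1]
    split
    · exact hpow r ‹_›
    · rw [hpk _ (by have := h.hK; omega)]
      simp only [f, if_pos (show r - C.npow < C.rels.length - C.npow by omega)]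
      congr 1; omega
  refine ⟨p, hp, hzero, fun i hi c hc => ?_⟩
  obtain ⟨e1, e2, e3⟩ := edge_lt h hi hc
  rw [← hedge _ e1, vE, e2, e3]

theorem evalF_mem {A : Type*} [AddCommGroup A] (Z : AddSubgroup A) :
    ∀ (p : List A), (∀ a ∈ p, a ∈ Z) → ∀ x, evalF p x ∈ Z
  | [], _, _ => Z.zero_mem
  | q :: qs, hq, x =>
    Z.add_mem (Z.nsmul_mem (hq q List.mem_cons_self) _)
      (evalF_mem Z qs (fun b hb => hq b (List.mem_cons_of_mem _ hb)) _)

/-- A valid certificate forces every solution to vanish. -/
theorem solution_zero (h : C.OK) {A : Type*} [AddCommGroup A] (hA : ∀ a : A, C.m • a = 0)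
    (v : ℕ → ℕ → A) (e : ℕ → A)
    (htree : ∀ c < C.N, 0 < c → v (C.parF c).1 (C.parF c).2 = 0)
    (heq : ∀ r < C.rels.length, ∀ c < C.N, wsum C.nxF C.pvF v c (C.rels.getD r []) = e r)
    (hpow : ∀ r < C.npow, e r = 0) : ∀ i < C.n, ∀ c < C.N, v i c = 0 := by
  obtain ⟨p, hp, hzero, hval⟩ := exists_params h.toCore hA v e htree heq hpow
  have hpz : ∀ k < C.K, p.getD k 0 = 0 := by
    intro k hk
    have := List.all_eq_true.1 h.fin k (List.mem_range.2 hk)
    simp only [Bool.and_eq_true, decide_eq_true_eq, List.all_eq_true] at this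
    obtain ⟨⟨hl, hb⟩, hz⟩ := this
    obtain ⟨c1, c2⟩ := combo_spec h.toCore hA p hp hzero _ hl (by omega)
    have hm := h.hm
    have hu : dle C.K C.m ((C.m - 1) * unitF k) = true :=
      dle_mono _ (by omega) (dle_mul _ _ (l := 1) (by omega) (dle_unit _ _))
    have h3 := evalF_dzero hA p (hp ▸ hz)
    rw [evalF_add p hb (hp ▸ c1) (hp ▸ hu), c2, zero_add, evalF_mul p _ (l := 1) (by omega)
      (dle_unit _ _), evalF_unit, neg_eq_nsmul (by omega) hA, neg_eq_zero] at h3
    exact h3
  intro i hi c hc
  rw [hval i hi c hc]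
  have := evalF_mem (⊥ : AddSubgroup A) p (fun a ha => by
    obtain ⟨k, hk, rfl⟩ := List.getElem_of_mem ha
    rw [AddSubgroup.mem_bot, ← List.getD_eq_getElem (hn := hk) (d := (0 : A))]
    exact hpz k (by omega)) (C.fmF (i + C.n * c))
  simpa using this

/-- A certificate with one parameter left confines every solution to the multiples of an element
killed by `t`. -/
theorem solution_cyc (h : C.Core) {k0 t : ℕ} {cs : List ℕ} (hfin : C.finCyc k0 t cs = true)
    {A : Type*} [AddCommGroup A] (hA : ∀ a : A, C.m • a = 0) (v : ℕ → ℕ → A) (e : ℕ → A)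
    (htree : ∀ c < C.N, 0 < c → v (C.parF c).1 (C.parF c).2 = 0)
    (heq : ∀ r < C.rels.length, ∀ c < C.N, wsum C.nxF C.pvF v c (C.rels.getD r []) = e r)
    (hpow : ∀ r < C.npow, e r = 0) :
    ∃ u : A, t • u = 0 ∧ ∀ i < C.n, ∀ c < C.N, v i c ∈ AddSubgroup.zmultiples u := by
  obtain ⟨p, hp, hzero, hval⟩ := exists_params h hA v e htree heq hpow
  simp only [finCyc, Bool.and_eq_true, decide_eq_true_eq, List.all_eq_true] at hfin
  obtain ⟨hk0, hfin⟩ := hfin
  have key : ∀ k < C.K,
      (if k == k0 then t else 1) • p.getD k 0 +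
        (if k == k0 then 0 else (C.m - cs.getD k 0 % C.m) % C.m) • p.getD k0 0 = 0 := by
    intro k hk
    obtain ⟨⟨hl, hb⟩, hz⟩ := hfin k (List.mem_range.2 hk)
    generalize (if k == k0 then t else 1) = a at hb hz ⊢
    generalize (if k == k0 then 0 else (C.m - cs.getD k 0 % C.m) % C.m) = b at hb hz ⊢
    obtain ⟨c1, c2⟩ := combo_spec h hA p hp hzero _ hl (by omega)
    have hm := h.hm
    have hab : a + b < B := lt_of_le_of_lt
      ((Nat.le_mul_of_pos_left _ (by omega : 0 < C.m - 1)).trans (Nat.le_add_left _ _)) hb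
    have hdu : ∀ (n j : ℕ), n < B → dle C.K n (n * unitF j) = true := fun n j hn => by
      have := dle_mul C.K n (l := 1) (by omega) (dle_unit j C.K)
      rwa [mul_one] at this
    have ha := hdu a k (by omega)
    have hb' := hdu b k0 (by omega)
    have hu := dle_add _ hab ha hb'
    have h3 := evalF_dzero hA p (hp ▸ hz)
    rw [evalF_add p (la := C.comboBound _) (lb := (C.m - 1) * (a + b)) hb (hp ▸ c1)
        (hp ▸ dle_mul _ _ (by omega) hu), c2, zero_add,
      evalF_mul p _ (l := a + b) (by omega) (hp ▸ hu),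
      evalF_add p hab (hp ▸ ha) (hp ▸ hb'),
      evalF_mul p _ (l := 1) (by omega) (dle_unit _ _), evalF_unit,
      evalF_mul p _ (l := 1) (by omega) (dle_unit _ _), evalF_unit,
      neg_eq_nsmul (by omega) hA, neg_eq_zero] at h3
    exact h3
  refine ⟨p.getD k0 0, by simpa using key k0 hk0, fun i hi c hc => ?_⟩
  rw [hval i hi c hc]
  refine evalF_mem _ p (fun a ha => ?_) _
  obtain ⟨k, hk, rfl⟩ := List.getElem_of_mem ha
  rw [← List.getD_eq_getElem (hn := hk) (d := (0 : A))]
  by_cases hkk : k = k0
  · subst hkk; exact AddSubgroup.mem_zmultiples _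
  · have := key k (by omega)
    simp only [beq_iff_eq, if_neg hkk, one_nsmul] at this
    rw [eq_neg_of_add_eq_zero_left this]
    exact AddSubgroup.neg_mem _ (AddSubgroup.nsmul_mem _ (AddSubgroup.mem_zmultiples _) _)

end Cert

end Cfsg.Agent.SplitVoltageCert
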