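import Cfsg.Agent.Lib.GolayExtEval70
import Cfsg.Agent.Lib.GolayModule
import Cfsg.Agent.Lib.GolayM24
import Cfsg.Agent.Lib.SplitVoltageCert
import Cfsg.Agent.Lib.GolayOutTool

/-!
Extensions of the point stabiliser in the group of the code by modules of words of eleven bits:
lifts of words, and the certificate of the Cayley graph of a 2-subgroup.
-/

set_option autoImplicit false

namespace Cfsg.Agent.GolayExtWalk70

open Cfsg Cfsg.Agent.GolayBasic Cfsg.Agent.GolayPerm Cfsg.Agent.GolayExtEval70
open Cfsg.Agent.SplitVoltageCert (Tr get)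

universe u

/-- an extension whose kernel is coordinatised by words of eleven bits -/
structure Ext (ok : ℕ → ℕ → Bool) (E : Type u) [Group E] where
  π : E →* Equiv.Perm GolayPt
  ι : ℕ → E
  xor : ∀ a < 2048, ∀ b < 2048, ι (a ^^^ b) = ι a * ι b
  inj : ∀ a < 2048, ι a = 1 → a = 0
  ker : ∀ g, π g = 1 ↔ ∃ a < 2048, ι a = g
  rng : ∀ g, π g ∈ Spor.M23
  surj : ∀ s ∈ Spor.M23, ∃ g, π g = s
  conj : ∀ g P M, ok P M = true → π g = permOf P → ∀ a < 2048, g * ι a = ι (mapp M a) * g

namespace Ext

variable {ok : ℕ → ℕ → Bool} {E : Type u} [Group E] (X : Ext ok E)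

theorem ι_zero : X.ι 0 = 1 := by
  have h := X.xor 0 (by norm_num) 0 (by norm_num)
  rw [Nat.xor_zero] at h
  exact left_eq_mul.1 h

theorem ι_mul {a b : ℕ} (ha : a < 2048) (hb : b < 2048) : X.ι a * X.ι b = X.ι (a ^^^ b) :=
  (X.xor a ha b hb).symm

theorem ι_inv {a : ℕ} (ha : a < 2048) : (X.ι a)⁻¹ = X.ι a := by
  refine inv_eq_of_mul_eq_one_right ?_
  rw [X.ι_mul ha ha, Nat.xor_self, X.ι_zero]

theorem π_ι {a : ℕ} (ha : a < 2048) : X.π (X.ι a) = 1 := (X.ker _).2 ⟨a, ha, rfl⟩

theorem ι_inj {a b : ℕ} (ha : a < 2048) (hb : b < 2048) (h : X.ι a = X.ι b) : a = b := by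
  refine xor_right_cancel (X.inj _ (xor_lt ha hb) ?_)
  rw [← X.ι_mul ha hb, h, X.ι_mul hb hb, Nat.xor_self, X.ι_zero]

theorem exists_ι {g h : E} (hgh : X.π g = X.π h) : ∃ a < 2048, g = X.ι a * h := by
  obtain ⟨a, ha, hg⟩ := (X.ker (g * h⁻¹)).1 (by rw [map_mul, map_inv, hgh, mul_inv_cancel])
  exact ⟨a, ha, by rw [hg, inv_mul_cancel_right]⟩

theorem ι_shuffle {a b : ℕ} (ha : a < 2048) (hb : b < 2048) (g : E) :
    X.ι a * (X.ι b * g) = X.ι (a ^^^ b) * g := by
  rw [← mul_assoc, X.ι_mul ha hb]

end Ext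

/-- product of a word, letters from the left -/
def wp {Γ : Type*} [Group Γ] (x : ℕ → Γ) : List (ℕ × Bool) → Γ
  | [] => 1
  | (i, b) :: l => (if b then x i else (x i)⁻¹) * wp x l

/-- product of a positive word -/
def pw {Γ : Type*} [Group Γ] (x : ℕ → Γ) : List ℕ → Γ
  | [] => 1
  | i :: l => x i * pw x l

theorem map_pw {Γ Δ : Type*} [Group Γ] [Group Δ] (f : Γ →* Δ) (x : ℕ → Γ) :
    ∀ l, f (pw x l) = pw (fun i => f (x i)) l
  | [] => map_one f
  | i :: l => by rw [pw, pw, map_mul, map_pw f x l]

/-! ### the graph of the 2-subgroup -/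

/-- data of the Cayley graph; an edge leaving node `j` by generator `i` has number `4 j + i` -/
structure SCert where
  n : ℕ
  N : ℕ
  P : List ℕ
  MG : List ℕ
  idP : ℕ
  idM : ℕ
  Pn : Tr
  Mn : Tr
  nx : Tr
  pv : Tr
  par : Tr
  F : Tr
  rk : Tr
  der : Tr
  rels : List (List (ℕ × Bool))

variable (C : SCert)

/-- end of a walk -/
noncomputable def nend (C : SCert) : ℕ → List (ℕ × Bool) → ℕ
  | j, [] => j
  | j, (i, b) :: l => nend C (if b then get C.nx (4 * j + i) else get C.pv (4 * j + i)) l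

/-- edges of a walk -/
noncomputable def wedges (C : SCert) : ℕ → List (ℕ × Bool) → List ℕ
  | _, [] => []
  | j, (i, b) :: l =>
    (if b then 4 * j + i else 4 * get C.pv (4 * j + i) + i) ::
      wedges C (if b then get C.nx (4 * j + i) else get C.pv (4 * j + i)) l

/-- sum along a list of edges -/
def xsum (f : ℕ → ℕ) : List ℕ → ℕ
  | [] => 0
  | e :: l => f e ^^^ xsum f l

theorem xsum_lt {f : ℕ → ℕ} (hf : ∀ e, f e < 2048) : ∀ l, xsum f l < 2048
  | [] => by norm_num [xsum]
  | e :: l => xor_lt (hf e) (xsum_lt hf l)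

/-- generators lie in the group, with their matrices -/
noncomputable def gensChk (ok : ℕ → ℕ → Bool) (C : SCert) : Bool :=
  decide (C.n ≤ 4) && decide (0 < C.N) && valid C.idP && (pts.all fun x => pimg C.idP x == x) &&
    (List.range 2048).all (fun a => mapp C.idM a == a) && get C.Pn 0 == C.idP &&
    get C.Mn 0 == C.idM &&
    (List.range C.n).all fun i =>
      good (C.P.getD i 0) && pimg (C.P.getD i 0) 23 == 23 && ok (C.P.getD i 0) (C.MG.getD i 0)

/-- one node of the graph -/
noncomputable def nodeChk (C : SCert) (j : ℕ) : Bool :=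
  valid (get C.Pn j) && decide (get C.Mn j < 2 ^ 121) &&
    (j == 0 ||
      (let e := get C.par j
      decide (e / 4 < j) && decide (e % 4 < C.n) && get C.nx e == j && get C.F e == 0 &&
        get C.Mn j == mm (get C.Mn (e / 4)) 11 (C.MG.getD (e % 4) 0))) &&
    (List.range C.n).all fun i =>
      decide (get C.nx (4 * j + i) < C.N) && decide (get C.pv (4 * j + i) < C.N) &&
        get C.nx (4 * get C.pv (4 * j + i) + i) == j &&
        pts.all fun x =>
          pimg (get C.Pn j) (pimg (C.P.getD i 0) x) == pimg (get C.Pn (get C.nx (4 * j + i))) x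

/-- the derivation of one edge -/
noncomputable def edgeChk (C : SCert) (e : ℕ) : Bool :=
  (decide (0 < get C.nx e) && get C.par (get C.nx e) == e) ||
    (let d := get C.der e
     let r := d / 1024
     let j := d % 1024
     let l := wedges C j (C.rels.getD r [])
     decide (r < C.rels.length) && decide (j < C.N) && nend C j (C.rels.getD r []) == j &&
      (xsum (get C.F) l ^^^ (get C.Mn j <<< (121 * r))) == 0 &&
      l.all (fun e' => e' == e || decide (get C.rk e' < get C.rk e)) &&
      l.count e % 2 == 1)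

/-- the graph is consistent -/
structure SOK (ok : ℕ → ℕ → Bool) (C : SCert) : Prop where
  gens : gensChk ok C = true
  relB : ∀ l ∈ C.rels, ∀ t ∈ l, t.1 < C.n
  relP : ∀ l ∈ C.rels, nend C 0 l = 0
  nodes : (List.range C.N).all (nodeChk C) = true
  edges : (List.range C.N).all (fun j => (List.range C.n).all fun i => edgeChk C (4 * j + i)) = true
  len : 11 * C.rels.length ≤ 88

section Walk

variable {ok : ℕ → ℕ → Bool} {E : Type u} [Group E] (X : Ext ok E) {C} (L : ℕ → E)

/-- lifts of the generators -/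
def IsLift (X : Ext ok E) (P : List ℕ) (n : ℕ) (L : ℕ → E) : Prop :=
  ∀ i < n, X.π (L i) = permOf (P.getD i 0)

/-- the section along the tree -/
noncomputable def sec (C : SCert) (L : ℕ → E) : ℕ → E
  | j => if _h : get C.par j / 4 < j then sec C L (get C.par j / 4) * L (get C.par j % 4) else 1
termination_by j => j

theorem sec_zero : sec C L 0 = 1 := by
  rw [sec, dif_neg (Nat.not_lt_zero _)]

namespace SOK

variable {C : SCert} (h : SOK ok C)
include h

theorem n_le : C.n ≤ 4 := by
  have := h.gens; simp only [gensChk, Bool.and_eq_true, decide_eq_true_eq] at this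
  exact this.1.1.1.1.1.1.1

theorem N_pos : 0 < C.N := by
  have := h.gens; simp only [gensChk, Bool.and_eq_true, decide_eq_true_eq] at this
  exact this.1.1.1.1.1.1.2

theorem node {j : ℕ} (hj : j < C.N) : nodeChk C j = true :=
  List.all_eq_true.1 h.nodes j (List.mem_range.2 hj)

theorem gen_ok {i : ℕ} (hi : i < C.n) :
    good (C.P.getD i 0) = true ∧ pimg (C.P.getD i 0) 23 = 23 ∧
      ok (C.P.getD i 0) (C.MG.getD i 0) = true := by
  have := h.gens
  simp only [gensChk, Bool.and_eq_true, List.all_eq_true, List.mem_range, beq_iff_eq] at this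
  exact ⟨(this.2 i hi).1.1, (this.2 i hi).1.2, (this.2 i hi).2⟩

theorem gen_mem {i : ℕ} (hi : i < C.n) : permOf (C.P.getD i 0) ∈ Spor.M23 := by
  obtain ⟨hg, h23, -⟩ := h.gen_ok hi
  refine ⟨permOf_mem_M24 hg, MulAction.mem_stabilizer_iff.2 ?_⟩
  rw [Equiv.Perm.smul_def, permOf_apply (valid_of_good hg)]
  show pt (pimg _ 23) = none
  rw [h23]; decide +kernel

theorem idM_apply {a : ℕ} (ha : a < 2048) : mapp (get C.Mn 0) a = a := by
  have := h.gens
  simp only [gensChk, Bool.and_eq_true, List.all_eq_true, List.mem_range, beq_iff_eq] at this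
  rw [this.1.2]
  exact this.1.1.1.2 a ha

theorem idP_eq : permOf (get C.Pn 0) = 1 := by
  have := h.gens
  simp only [gensChk, Bool.and_eq_true, List.all_eq_true, beq_iff_eq] at this
  rw [this.1.1.2]
  refine Equiv.ext fun p => ?_
  rw [permOf_apply this.1.1.1.1.1.2, Equiv.Perm.one_apply, pfun,
    this.1.1.1.1.2 _ (mem_pts.2 (idx_lt p)), pt_idx]

theorem nx_lt {j i : ℕ} (hj : j < C.N) (hi : i < C.n) : get C.nx (4 * j + i) < C.N := by
  have := h.node hj
  simp only [nodeChk, Bool.and_eq_true, List.all_eq_true, List.mem_range, decide_eq_true_eq,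
    beq_iff_eq] at this
  exact (this.2 i hi).1.1.1

theorem pv_lt {j i : ℕ} (hj : j < C.N) (hi : i < C.n) :
    get C.pv (4 * j + i) < C.N ∧ get C.nx (4 * get C.pv (4 * j + i) + i) = j := by
  have := h.node hj
  simp only [nodeChk, Bool.and_eq_true, List.all_eq_true, List.mem_range, decide_eq_true_eq,
    beq_iff_eq] at this
  exact ⟨(this.2 i hi).1.1.2, (this.2 i hi).1.2⟩

theorem M_lt {j : ℕ} (hj : j < C.N) : get C.Mn j < 2 ^ 121 := by
  have := h.node hj
  simp only [nodeChk, Bool.and_eq_true, decide_eq_true_eq] at this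
  exact this.1.1.2

theorem valid_node {j : ℕ} (hj : j < C.N) : valid (get C.Pn j) = true := by
  have := h.node hj
  simp only [nodeChk, Bool.and_eq_true] at this
  exact this.1.1.1

theorem perm_step {j i : ℕ} (hj : j < C.N) (hi : i < C.n) :
    permOf (get C.Pn j) * permOf (C.P.getD i 0) = permOf (get C.Pn (get C.nx (4 * j + i))) := by
  have hn := h.node hj
  simp only [nodeChk, Bool.and_eq_true, List.all_eq_true, List.mem_range, beq_iff_eq] at hn
  have hP := valid_of_good (h.gen_ok hi).1
  refine Equiv.ext fun p => ?_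
  rw [Equiv.Perm.mul_apply, permOf_apply hP, permOf_apply (h.valid_node hj),
    permOf_apply (h.valid_node (h.nx_lt hj hi)), pfun, pfun, pfun,
    idx_pt (pimg_lt hP (idx_lt p)), (hn.2 i hi).2 _ (mem_pts.2 (idx_lt p))]

theorem tree {j : ℕ} (hj : j < C.N) (h0 : 0 < j) :
    get C.par j / 4 < j ∧ get C.par j % 4 < C.n ∧ get C.nx (get C.par j) = j ∧
      get C.F (get C.par j) = 0 ∧
      get C.Mn j = mm (get C.Mn (get C.par j / 4)) 11 (C.MG.getD (get C.par j % 4) 0) := by
  have := h.node hj
  simp only [nodeChk, Bool.and_eq_true, Bool.or_eq_true, decide_eq_true_eq, beq_iff_eq] at this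
  rcases this.1.2 with h' | h'
  · omega
  · exact ⟨h'.1.1.1.1, h'.1.1.1.2, h'.1.1.2, h'.1.2, h'.2⟩

theorem sec_succ {j : ℕ} (hj : j < C.N) (h0 : 0 < j) :
    sec C L j = sec C L (get C.par j / 4) * L (get C.par j % 4) := by
  rw [sec, dif_pos (h.tree hj h0).1]

variable (hL : IsLift X C.P C.n L)
include hL

theorem π_sec : ∀ j < C.N, X.π (sec C L j) = permOf (get C.Pn j) := by
  intro j
  induction j using Nat.strong_induction_on with
  | _ j ih =>
    intro hj
    rcases Nat.eq_zero_or_pos j with rfl | h0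
    · rw [sec_zero, map_one, h.idP_eq]
    · obtain ⟨h1, h2, h3, -, -⟩ := h.tree hj h0
      rw [h.sec_succ L hj h0, map_mul, ih _ h1 (h1.trans hj), hL _ h2,
        h.perm_step (h1.trans hj) h2, Nat.div_add_mod, h3]

theorem conj_sec : ∀ j < C.N, ∀ a < 2048,
    sec C L j * X.ι a = X.ι (mapp (get C.Mn j) a) * sec C L j := by
  intro j
  induction j using Nat.strong_induction_on with
  | _ j ih =>
    intro hj a ha
    rcases Nat.eq_zero_or_pos j with rfl | h0
    · rw [sec_zero, h.idM_apply ha, one_mul, mul_one]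
    · obtain ⟨h1, h2, -, -, h5⟩ := h.tree hj h0
      rw [h.sec_succ L hj h0, mul_assoc, X.conj _ _ _ (h.gen_ok h2).2.2 (hL _ h2) a ha, ← mul_assoc,
        ih _ h1 (h1.trans hj) _ (mapp_lt _ _), h5, mul_assoc]
      congr 2
      exact (ev_mm _ _ _ _).symm

theorem exists_volt {j i : ℕ} (hj : j < C.N) (hi : i < C.n) :
    ∃ a < 2048, sec C L j * L i = X.ι a * sec C L (get C.nx (4 * j + i)) := by
  refine X.exists_ι ?_
  rw [map_mul, h.π_sec X L hL j hj, hL i hi, h.perm_step hj hi,
    h.π_sec X L hL _ (h.nx_lt hj hi)]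

end SOK

/-- voltage of an edge -/
noncomputable def volt (C : SCert) (X : Ext ok E) (L : ℕ → E) (e : ℕ) : ℕ :=
  open Classical in
  if h : ∃ a < 2048, sec C L (e / 4) * L (e % 4) = X.ι a * sec C L (get C.nx e) then h.choose else 0

theorem volt_lt (e : ℕ) : volt C X L e < 2048 := by
  rw [volt]
  split
  · next h => exact h.choose_spec.1
  · norm_num

namespace SOK

variable {C : SCert} (h : SOK ok C) (hL : IsLift X C.P C.n L)
include h hL

theorem volt_spec {j i : ℕ} (hj : j < C.N) (hi : i < C.n) :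
    sec C L j * L i = X.ι (volt C X L (4 * j + i)) * sec C L (get C.nx (4 * j + i)) := by
  have hn := h.n_le
  have e1 : (4 * j + i) / 4 = j := by omega
  have e2 : (4 * j + i) % 4 = i := by omega
  obtain ⟨a, ha, hv⟩ := h.exists_volt X L hL hj hi
  rw [volt, dif_pos ⟨a, ha, by rw [e1, e2]; exact hv⟩]
  generalize_proofs hex
  have := hex.choose_spec.2
  simp only [e1, e2] at this ⊢
  exact this

theorem walk : ∀ (l : List (ℕ × Bool)), (∀ t ∈ l, t.1 < C.n) → ∀ j < C.N,
    nend C j l < C.N ∧
      sec C L j * wp L l = X.ι (xsum (volt C X L) (wedges C j l)) * sec C L (nend C j l) := by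
  intro l
  induction l with
  | nil => intro _ j hj; exact ⟨hj, by simp [wp, wedges, xsum, nend, X.ι_zero]⟩
  | cons t l ih =>
    intro hl j hj
    obtain ⟨i, b⟩ := t
    have hi : i < C.n := hl (i, b) List.mem_cons_self
    have hl' : ∀ t ∈ l, t.1 < C.n := fun t ht => hl t (List.mem_cons_of_mem _ ht)
    cases b with
    | true =>
      obtain ⟨h1, h2⟩ := ih hl' _ (h.nx_lt hj hi)
      simp only [wp, wedges, xsum, nend, if_true]
      refine ⟨h1, ?_⟩
      rw [← mul_assoc, h.volt_spec X L hL hj hi, mul_assoc, h2,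
        X.ι_shuffle (volt_lt X L _) (xsum_lt (fun e => volt_lt X L e) _)]
    | false =>
      obtain ⟨hd, hd'⟩ := h.pv_lt hj hi
      obtain ⟨h1, h2⟩ := ih hl' _ hd
      simp only [wp, wedges, xsum, nend, Bool.false_eq_true, if_false]
      refine ⟨h1, ?_⟩
      have hv := h.volt_spec X L hL hd hi
      rw [hd'] at hv
      have hback : sec C L j * (L i)⁻¹ =
          X.ι (volt C X L (4 * get C.pv (4 * j + i) + i)) * sec C L (get C.pv (4 * j + i)) := by
        rw [mul_inv_eq_iff_eq_mul, mul_assoc, hv, X.ι_shuffle (volt_lt X L _) (volt_lt X L _),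
          Nat.xor_self, X.ι_zero, one_mul]
      rw [← mul_assoc, hback, mul_assoc, h2,
        X.ι_shuffle (volt_lt X L _) (xsum_lt (fun e => volt_lt X L e) _)]

theorem rel_one {r : ℕ} (hr : r < C.rels.length) : X.π (wp L (C.rels.getD r [])) = 1 := by
  have hmem : C.rels.getD r [] ∈ C.rels := by
    rw [List.getD_eq_getElem (d := []) (hn := hr)]; exact List.getElem_mem hr
  obtain ⟨-, hw⟩ := h.walk X L hL _ (h.relB _ hmem) 0 h.N_pos
  rw [h.relP _ hmem, sec_zero, one_mul, mul_one] at hw
  rw [hw, X.π_ι (xsum_lt (fun e => volt_lt X L e) _)]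

end SOK

theorem mem_wedges_bound {ok : ℕ → ℕ → Bool} {C : SCert} (h : SOK ok C) :
    ∀ (l : List (ℕ × Bool)), (∀ t ∈ l, t.1 < C.n) →
      ∀ j < C.N, ∀ e ∈ wedges C j l, e / 4 < C.N ∧ e % 4 < C.n := by
  intro l
  induction l with
  | nil => intro _ j _ e he; simp [wedges] at he
  | cons t l ih =>
    intro hl j hj e he
    obtain ⟨i, b⟩ := t
    have hi : i < C.n := hl (i, b) List.mem_cons_self
    have hn := h.n_le
    rw [wedges, List.mem_cons] at he
    cases b
    · obtain ⟨hd, -⟩ := h.pv_lt hj hi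
      rcases he with rfl | he
      · simp only [Bool.false_eq_true, if_false]; omega
      · exact ih (fun t ht => hl t (List.mem_cons_of_mem _ ht)) _ hd e he
    · rcases he with rfl | he
      · simp only [if_true]; omega
      · exact ih (fun t ht => hl t (List.mem_cons_of_mem _ ht)) _ (h.nx_lt hj hi) e he

/-- value of a relator -/
noncomputable def cval (X : Ext ok E) (L : ℕ → E) (rels : List (List (ℕ × Bool))) (r : ℕ) : ℕ :=
  open Classical in
  if h : ∃ a < 2048, wp L (rels.getD r []) = X.ι a then h.choose else 0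

theorem cval_lt (rels : List (List (ℕ × Bool))) (r : ℕ) : cval X L rels r < 2048 := by
  rw [cval]
  split
  · next h => exact h.choose_spec.1
  · norm_num

theorem cval_spec {rels : List (List (ℕ × Bool))} {r : ℕ} (h : X.π (wp L (rels.getD r [])) = 1) :
    wp L (rels.getD r []) = X.ι (cval X L rels r) := by
  obtain ⟨a, ha, hga⟩ := (X.ker _).1 h
  rw [cval, dif_pos ⟨a, ha, hga.symm⟩]
  exact (Exists.choose_spec (p := fun a => a < 2048 ∧ wp L (rels.getD r []) = X.ι a)
    ⟨a, ha, hga.symm⟩).2

theorem cval_eq {rels : List (List (ℕ × Bool))} {r a : ℕ} (ha : a < 2048)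
    (h : wp L (rels.getD r []) = X.ι a) : cval X L rels r = a := by
  refine X.ι_inj (cval_lt X L _ _) ha ?_
  rw [← cval_spec X L (by rw [h, X.π_ι ha]), h]

/-- all relator values -/
noncomputable def cvec (C : SCert) (X : Ext ok E) (L : ℕ → E) : ℕ :=
  pk C.rels.length (cval X L C.rels)

theorem xsum_diff (f g : ℕ → ℕ) : ∀ l,
    xsum (fun e => f e ^^^ g e) l = xsum f l ^^^ xsum g l
  | [] => (Nat.xor_zero 0).symm
  | e :: l => by simp [xsum, xsum_diff f g l, Nat.xor_assoc, Nat.xor_left_comm]

theorem ev_xsum (n X : ℕ) (f : ℕ → ℕ) : ∀ l,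
    ev n (xsum f l) X = xsum (fun e => ev n (f e) X) l
  | [] => ev_zero _ _
  | e :: l => by simp [xsum, ev_xor, ev_xsum n X f l]

theorem xsum_single {d : ℕ → ℕ} {e : ℕ} : ∀ (l : List ℕ), (∀ e' ∈ l, e' ≠ e → d e' = 0) →
    xsum d l = if l.count e % 2 = 1 then d e else 0
  | [], _ => by simp [xsum]
  | a :: l, hl => by
    rw [xsum, xsum_single l (fun e' he' => hl e' (List.mem_cons_of_mem _ he')), List.count_cons]
    by_cases hae : a = e
    · subst hae
      rcases Nat.mod_two_eq_zero_or_one (l.count a) with h | h <;> simp [h, Nat.add_mod]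
    · rw [hl a List.mem_cons_self hae]
      simp [hae]

namespace SOK

variable {C : SCert} (h : SOK ok C) (hL : IsLift X C.P C.n L)
include h hL

/-- every voltage is the value of its form at the relator values -/
theorem volt_eq {j i : ℕ} (hj : j < C.N) (hi : i < C.n) :
    volt C X L (4 * j + i) = ev 88 (get C.F (4 * j + i)) (cvec C X L) := by
  have key : ∀ k e, get C.rk e = k → e / 4 < C.N → e % 4 < C.n →
      volt C X L e = ev 88 (get C.F e) (cvec C X L) := by
    intro k
    induction k using Nat.strong_induction_on with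
    | _ k ih =>
      intro e hk hj hi
      have he : 4 * (e / 4) + e % 4 = e := Nat.div_add_mod e 4
      have hc := List.all_eq_true.1 (List.all_eq_true.1 h.edges (e / 4) (List.mem_range.2 hj))
        (e % 4) (List.mem_range.2 hi)
      rw [he] at hc
      simp only [edgeChk, Bool.or_eq_true, Bool.and_eq_true, decide_eq_true_eq, beq_iff_eq,
        List.all_eq_true] at hc
      rcases hc with ⟨hpos, hpar⟩ | ⟨⟨⟨⟨⟨hr, hjj⟩, hend⟩, hsum⟩, hrk⟩, hcount⟩
      · have hlt : get C.nx e < C.N := by
          have := h.nx_lt hj hi; rwa [he] at this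
        obtain ⟨-, -, -, hF, -⟩ := h.tree hlt hpos
        rw [hpar] at hF
        rw [hF, ev_zero]
        refine X.ι_inj (volt_lt X L _) (by norm_num) ?_
        have hv := h.volt_spec X L hL hj hi
        rw [he] at hv
        have hs := h.sec_succ L hlt hpos
        rw [hpar] at hs
        rw [← hs] at hv
        rw [X.ι_zero]
        exact mul_eq_right.1 hv.symm
      · set d := get C.der e
        set r := d / 1024
        set j0 := d % 1024
        set rl := C.rels.getD r [] with hrl
        have hmem : rl ∈ C.rels := by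
          rw [hrl, List.getD_eq_getElem (d := []) (hn := hr)]; exact List.getElem_mem hr
        obtain ⟨-, hw⟩ := h.walk X L hL rl (h.relB _ hmem) j0 hjj
        rw [hend, hrl, cval_spec X L (h.rel_one X L hL hr),
          h.conj_sec X L hL j0 hjj _ (cval_lt X L _ _)] at hw
        have hvs := X.ι_inj (mapp_lt _ _) (xsum_lt (fun e => volt_lt X L e) _)
          (mul_right_cancel hw)
        have hev : ev 88 (get C.Mn j0 <<< (121 * r)) (cvec C X L) =
            mapp (get C.Mn j0) (cval X L C.rels r) :=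
          ev_field _ (fun q _ => cval_lt X L _ q) hr (by have := h.len; omega) (h.M_lt hjj)
        have hz := congrArg (fun F => ev 88 F (cvec C X L)) hsum
        simp only [ev_xor, ev_zero, ev_xsum, hev, hvs, ← hrl] at hz
        rw [Nat.xor_comm, ← xsum_diff] at hz
        rw [xsum_single (e := e) _ ?_, if_pos hcount] at hz
        · exact xor_right_cancel hz
        · intro e' he' hne
          have hw' := mem_wedges_bound (C := C) h rl (h.relB _ hmem) j0 hjj e' he'
          rw [ih (get C.rk e') ?_ e' rfl hw'.1 hw'.2, Nat.xor_self]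
          rw [← hk]
          exact (hrk e' he').resolve_left hne
  have hn := h.n_le
  exact key _ _ rfl (by omega) (by omega)

end SOK

end Walk

end Cfsg.Agent.GolayExtWalk70
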