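import Cfsg.Agent.Lib.GolayClasses

/-!
The centraliser of the representative of the involutions without fixed points: transitivity on the
points, the stabiliser of a point by certified enumeration, and a preserved sextet.
-/

set_option autoImplicit false

namespace Cfsg.Agent.GolayFpf

open Cfsg Cfsg.Agent.GolayBasic Cfsg.Agent.GolayPerm Cfsg.Agent.GolaySearch Cfsg.Agent.GolayClasses
  Cfsg.Agent.GolayClassData Cfsg.Agent.GolayOrbit
open scoped Pointwise

/-- constraint for the stabiliser of the first point -/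
def cStab (ims : List ℕ) (v : ℕ) : Bool :=
  (match ims with | [] => v == 23 | _ => true) && cInt r2_0 [r2_0] ims v

theorem good_r : good r2_0 = true := valid_reps _ (by simp)

theorem valid_r : valid r2_0 = true := valid_of_good good_r

/-- the centraliser -/
noncomputable def cent : Subgroup (Equiv.Perm GolayPt) :=
  M24 ⊓ Subgroup.centralizer {permOf r2_0}

theorem mem_cent {c : Equiv.Perm GolayPt} :
    c ∈ cent ↔ c ∈ M24 ∧ c * permOf r2_0 = permOf r2_0 * c := by
  rw [cent, Subgroup.mem_inf, Subgroup.mem_centralizer_singleton_iff]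

theorem stab_search : (((searchAll cStab).filter fun w =>
      intChk r2_0 [r2_0] w && app w 23 == 23).map fun w =>
    sextet2.all fun a => sextet2.contains (w.foldr (fun P m => pmask P m) a)) =
      List.replicate 320 true := by
  decide +kernel

theorem wit_check : ((List.range 24).all fun q =>
    good (wit2.getD q 0) && pimg (wit2.getD q 0) 23 == q &&
      (pts.all fun i => pimg (wit2.getD q 0) (pimg r2_0 i) == pimg r2_0 (pimg (wit2.getD q 0) i)) &&
      sextet2.all fun a => sextet2.contains (pmask (wit2.getD q 0) a)) = true := by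
  decide +kernel

theorem smul_mset_wperm : ∀ {w : List ℕ}, (∀ P ∈ w, good P = true) → ∀ a : ℕ,
    wperm w • mset a = mset (w.foldr (fun P m => pmask P m) a)
  | [], _, a => by simp [wperm]
  | P :: w, h, a => by
    rw [show wperm (P :: w) = permOf P * wperm w from List.prod_cons, mul_smul,
      smul_mset_wperm (fun Q hQ => h Q (List.mem_cons_of_mem _ hQ)),
      smul_mset (valid_of_good (h P List.mem_cons_self))]
    rfl

theorem smul_fam_of {g : Equiv.Perm GolayPt} {l : List ℕ} (f : ℕ → ℕ)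
    (hg : ∀ a, g • mset a = mset (f a)) (h : (l.all fun a => l.contains (f a)) = true) :
    g • fam l = fam l := by
  refine Finset.eq_of_subset_of_card_le ?_ (by rw [Finset.card_smul_finset])
  intro s hs
  obtain ⟨t, ht, rfl⟩ := Finset.mem_smul_finset.1 hs
  obtain ⟨a, ha, rfl⟩ := mem_fam.1 ht
  rw [hg]
  exact mem_fam.2 ⟨_, List.contains_iff_mem.1 (List.all_eq_true.1 h a ha), rfl⟩

theorem wit {q : GolayPt} : ∃ c ∈ cent, c (pt 23) = q ∧ c • fam sextet2 = fam sextet2 := by
  have h := List.all_eq_true.1 wit_check (idx q) (List.mem_range.2 (idx_lt q))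
  simp only [Bool.and_eq_true, beq_iff_eq] at h
  obtain ⟨⟨⟨hg, hq⟩, hc⟩, hs⟩ := h
  have hv := valid_of_good hg
  refine ⟨permOf (wit2.getD (idx q) 0), mem_cent.2 ⟨permOf_mem_M24 hg, eq_of_num fun i hi => ?_⟩,
    ?_, smul_fam_of _ (fun a => smul_mset hv a) hs⟩
  · rw [num_mul, num_permOf valid_r hi, num_permOf hv (pimg_lt valid_r hi), num_mul,
      num_permOf hv hi, num_permOf valid_r (pimg_lt hv hi)]
    exact beq_iff_eq.1 (List.all_eq_true.1 hc i (mem_pts.2 hi))
  · rw [permOf_apply hv, pfun, idx_pt (by norm_num), hq, pt_idx]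

theorem stab_elem {h : Equiv.Perm GolayPt} (hh : h ∈ cent) (h23 : h (pt 23) = pt 23) :
    ∃ w ∈ (searchAll cStab).filter fun w => intChk r2_0 [r2_0] w && app w 23 == 23,
      wperm w = h := by
  obtain ⟨hM, hc⟩ := mem_cent.1 hh
  have hn : num h 23 = 23 := by rw [num, h23, idx_pt (by norm_num)]
  obtain ⟨c0, c1, c2, c3, c4, c5, c6⟩ :=
    holds_cInt (g := h) valid_r (ts := [r2_0]) (by simpa using valid_r) ⟨r2_0, List.mem_singleton_self _, hc⟩
  have hC : Holds cStab (num h) :=
    ⟨Bool.and_eq_true_iff.2 ⟨beq_iff_eq.2 hn, c0⟩, c1, c2, c3, c4, c5, c6⟩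
  obtain ⟨w, hw, rfl⟩ := exists_of_holds hM hC
  refine ⟨w, List.mem_filter.2 ⟨hw, Bool.and_eq_true_iff.2 ⟨(intChk_iff hw valid_r
    (by simpa using valid_r)).2 ⟨r2_0, List.mem_singleton_self _, hc⟩, ?_⟩⟩, rfl⟩
  rw [beq_iff_eq, ← num_wperm hw (by norm_num)]
  exact hn

theorem smul_sextet {c : Equiv.Perm GolayPt} (hc : c ∈ cent) :
    c • fam sextet2 = fam sextet2 := by
  obtain ⟨d, hd, hd1, hd2⟩ := wit (q := c (pt 23))
  obtain ⟨w, hw, hwe⟩ := stab_elem (mul_mem (inv_mem hd) hc)
    (by rw [Equiv.Perm.mul_apply, Equiv.Perm.inv_eq_iff_eq, hd1])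
  have h1 := List.eq_of_mem_replicate (stab_search ▸ List.mem_map.2 ⟨w, hw, rfl⟩)
  have h2 : wperm w • fam sextet2 = fam sextet2 :=
    smul_fam_of _ (smul_mset_wperm (good_of_mem (List.mem_filter.1 hw).1)) h1
  rw [hwe, mul_smul, inv_smul_eq_iff, hd2] at h2
  exact h2

theorem card_stab :
    Nat.card ↥(cent ⊓ MulAction.stabilizer (Equiv.Perm GolayPt) (pt 23)) = 320 := by
  have hmem : ∀ g : Equiv.Perm GolayPt, g ∈ cent ⊓ MulAction.stabilizer (Equiv.Perm GolayPt) (pt 23) ↔
      g ∈ M24 ∧ g * permOf r2_0 = permOf r2_0 * g ∧ g (pt 23) = pt 23 := by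
    intro g
    rw [Subgroup.mem_inf, mem_cent, MulAction.mem_stabilizer_iff, and_assoc]
    rfl
  rw [Nat.card_congr (Equiv.subtypeEquivRight hmem),
    natCard_of_search cStab (fun g => g * permOf r2_0 = permOf r2_0 * g ∧ g (pt 23) = pt 23)
      (fun w => intChk r2_0 [r2_0] w && app w 23 == 23)]
  · have := congrArg List.length stab_search
    rwa [List.length_map, List.length_replicate] at this
  · intro g _ h
    obtain ⟨c0, c1, c2, c3, c4, c5, c6⟩ :=
      holds_cInt (g := g) valid_r (ts := [r2_0]) (by simpa using valid_r)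
        ⟨r2_0, List.mem_singleton_self _, h.1⟩
    have hn : num g 23 = 23 := by rw [num, h.2, idx_pt (by norm_num)]
    exact ⟨Bool.and_eq_true_iff.2 ⟨beq_iff_eq.2 hn, c0⟩, c1, c2, c3, c4, c5, c6⟩
  · intro w hw
    rw [Bool.and_eq_true, intChk_iff hw valid_r (by simpa using valid_r), beq_iff_eq]
    simp only [List.mem_singleton, exists_eq_left]
    refine and_congr_right fun _ => ⟨fun h => ?_, fun h => ?_⟩
    · rw [(wperm_apply (good_of_mem hw) (by norm_num : 23 < 24)).2, h]
    · rw [← num_wperm hw (by norm_num : 23 < 24), num, h, idx_pt (by norm_num)]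

theorem card_cent : Nat.card ↥cent = 7680 := by
  have h := card_eq_card_mul cent (pt 23) Finset.univ (fun _ _ => Finset.mem_univ _)
    (fun q _ => by
      obtain ⟨c, hc, e, -⟩ := wit (q := q)
      exact ⟨c, hc, e⟩)
  rw [h, card_stab, Finset.card_univ, show Fintype.card GolayPt = 24 from by decide +kernel]

/-- no element of order three of the centraliser fixes a point -/
theorem three_moves {x : Equiv.Perm GolayPt} (hx : x ∈ cent) (h3 : orderOf x = 3) (p : GolayPt) :
    x p ≠ p := by
  intro hp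
  obtain ⟨c, hc, e, -⟩ := wit (q := p)
  have hm : c⁻¹ * x * c ∈ cent ⊓ MulAction.stabilizer (Equiv.Perm GolayPt) (pt 23) := by
    refine Subgroup.mem_inf.2 ⟨mul_mem (mul_mem (inv_mem hc) hx) hc, MulAction.mem_stabilizer_iff.2 ?_⟩
    show (c⁻¹ * x * c) (pt 23) = pt 23
    rw [Equiv.Perm.mul_apply, Equiv.Perm.mul_apply, e, hp, Equiv.Perm.inv_eq_iff_eq, e]
  have h := Subgroup.orderOf_dvd_natCard _ hm
  have ho := orderOf_conj' c⁻¹ x
  rw [inv_inv] at ho
  rw [card_stab, ho, h3] at h
  omega

end Cfsg.Agent.GolayFpf
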