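import Mathlib

/-!
Breadth-first certificates for stabilisers of an octad and one or two points on the octads.
-/

set_option autoImplicit false

namespace Cfsg.Agent.GolayHeptadData

/-- generators for pq2 -/
def pq2Gens : List ℕ :=
  [695290292666541914781824777937075392, 727337962045951417029092246511301920]

/-- root of pq2 -/
def pq2Root : ℕ := 5279

/-- steps for pq2 -/
def pq2Steps : List (ℕ × ℕ) :=
  [(0, 0), (1, 0), (0, 1), (1, 1), (0, 2), (1, 2), (0, 3), (0, 4), (0, 5), (0, 6), (1, 6), (1, 7),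
   (1, 9), (1, 13), (0, 14)]

/-- generators for pq4 -/
def pq4Gens : List ℕ :=
  [605435413905536944299904200168951136, 936123592041467687276810313237909824]

/-- root of pq4 -/
def pq4Root : ℕ := 95313

/-- steps for pq4 -/
def pq4Steps : List (ℕ × ℕ) :=
  [(0, 0), (1, 0), (0, 1), (1, 1), (0, 2), (1, 2), (0, 3), (1, 3), (0, 4), (1, 4), (0, 5), (1, 5),
   (0, 6), (1, 6), (0, 7), (1, 7), (0, 8), (1, 9), (0, 10), (1, 10), (0, 11), (1, 11), (0, 12), (1, 12),
   (0, 13), (1, 13), (0, 14), (1, 14), (0, 16), (1, 16), (0, 17), (1, 17), (1, 22), (0, 23), (1, 23), (1, 24),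
   (0, 26), (0, 27), (1, 27), (0, 28), (0, 30), (1, 32), (0, 33), (1, 34), (0, 36), (1, 36), (1, 37), (1, 38),
   (1, 39), (1, 41), (0, 42), (1, 42), (1, 43), (0, 44), (0, 46), (0, 48), (1, 48), (1, 52), (1, 56)]

/-- generators for pr2 -/
def pr2Gens : List ℕ :=
  [766651295672699032183201742086950944, 688755270295752414405183784227610656]

/-- root of pr2 -/
def pr2Root : ℕ := 15777

/-- steps for pr2 -/
def pr2Steps : List (ℕ × ℕ) :=
  [(0, 0), (1, 0), (0, 1), (1, 1), (0, 2), (1, 2), (0, 3), (1, 3), (0, 4), (1, 4), (0, 5), (1, 5),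
   (0, 6), (1, 7), (0, 8), (1, 8), (1, 9), (0, 10), (0, 11), (1, 11), (0, 12), (1, 12), (0, 13), (1, 13),
   (0, 14), (1, 14), (0, 15), (1, 15), (0, 16), (0, 17), (1, 17), (0, 18), (1, 19), (0, 20), (1, 20), (0, 21),
   (1, 21), (0, 22), (0, 23), (1, 23), (0, 24), (1, 24), (0, 25), (1, 25), (0, 26), (0, 27), (0, 29), (1, 30),
   (0, 31), (1, 32), (0, 33), (1, 33), (0, 34), (1, 34), (0, 36), (1, 36), (0, 37), (0, 41), (1, 41), (1, 46),
   (1, 47), (0, 50), (1, 51), (0, 56), (1, 56), (0, 57), (0, 58), (0, 59), (0, 65)]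

/-- generators for pr4 -/
def pr4Gens : List ℕ :=
  [766191224742702529686910685470184480, 519359410303984343524902770685872160]

/-- root of pr4 -/
def pr4Root : ℕ := 95313

/-- steps for pr4 -/
def pr4Steps : List (ℕ × ℕ) :=
  [(0, 0), (1, 0), (0, 1), (1, 1), (0, 2), (0, 3), (1, 3), (0, 4), (1, 4), (0, 5), (1, 5), (0, 6),
   (1, 6), (0, 7), (1, 7), (0, 8), (1, 8), (0, 9), (1, 9), (0, 10), (1, 10), (0, 11), (0, 12), (1, 12),
   (0, 13), (0, 14), (1, 14), (0, 15), (1, 15), (1, 16), (1, 17), (0, 18), (1, 18), (0, 19), (1, 19), (0, 20),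
   (0, 21), (1, 21), (1, 22), (0, 23), (1, 23), (0, 24), (1, 24), (0, 25), (1, 25), (0, 27), (1, 27), (0, 28),
   (1, 28), (0, 29), (0, 30), (0, 31), (1, 31), (0, 32), (1, 32), (0, 35), (0, 36), (1, 36), (0, 37), (0, 38),
   (1, 39), (1, 40), (1, 41), (0, 42), (1, 42), (1, 43), (0, 45), (1, 45), (0, 46), (1, 46), (0, 47), (1, 49),
   (0, 50), (1, 50), (0, 51), (1, 51), (0, 54), (1, 54), (0, 55), (1, 55), (0, 56), (1, 56), (0, 57), (1, 57),
   (0, 58), (0, 59), (0, 60), (0, 62), (1, 62), (0, 63), (1, 63), (0, 64), (0, 65), (0, 68), (0, 69), (1, 72),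
   (0, 73), (0, 75), (1, 76), (0, 77), (1, 80), (0, 82), (0, 84), (0, 86)]

/-- generators for p2 -/
def p2Gens : List ℕ :=
  [688844329144753789973990925340483776, 687090768341713351132985376413159680]

/-- root of p2 -/
def p2Root : ℕ := 5279

/-- steps for p2 -/
def p2Steps : List (ℕ × ℕ) :=
  [(0, 0), (1, 0), (0, 1), (1, 1), (0, 2), (1, 2), (0, 3), (1, 3), (0, 4), (1, 4), (0, 5), (1, 5),
   (0, 6), (1, 6), (0, 7), (1, 7), (0, 8), (1, 8), (1, 9), (0, 10), (1, 10), (0, 11), (1, 11), (0, 12),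
   (1, 12), (0, 13), (1, 13), (0, 14), (1, 14), (0, 15), (1, 15), (0, 16), (1, 16), (0, 17), (1, 17), (1, 18),
   (0, 19), (1, 19), (1, 20), (1, 21), (0, 22), (1, 22), (0, 23), (1, 23), (0, 24), (1, 24), (0, 25), (1, 25),
   (0, 26), (1, 26), (0, 27), (1, 28), (0, 29), (1, 29), (1, 30), (0, 31), (0, 32), (1, 32), (1, 33), (1, 34),
   (1, 35), (1, 36), (0, 37), (1, 37), (0, 38), (0, 39), (1, 39), (0, 40), (1, 40), (0, 42), (1, 42), (1, 43),
   (0, 44), (1, 44), (1, 46), (0, 50), (1, 50), (0, 52), (0, 53), (1, 53), (0, 54), (0, 55), (1, 55), (0, 56),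
   (1, 56), (1, 57), (1, 58), (0, 59), (1, 59), (0, 60), (0, 61), (1, 61), (0, 63), (1, 64), (0, 66), (1, 67),
   (0, 70), (0, 71), (1, 72), (0, 78), (0, 81), (1, 82), (0, 85), (1, 85), (1, 88), (0, 93), (0, 94), (1, 96),
   (0, 100), (0, 104), (1, 106)]

/-- generators for p4 -/
def p4Gens : List ℕ :=
  [722137705189594921040849104300266624, 935398363360505956084487213844497888]

/-- root of p4 -/
def p4Root : ℕ := 95313

/-- steps for p4 -/
def p4Steps : List (ℕ × ℕ) :=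
  [(0, 0), (1, 0), (0, 1), (1, 1), (0, 2), (1, 2), (0, 3), (0, 4), (1, 4), (0, 5), (1, 5), (0, 6),
   (1, 6), (0, 7), (1, 7), (0, 8), (1, 8), (0, 9), (1, 9), (0, 10), (1, 10), (0, 11), (1, 11), (0, 12),
   (1, 12), (0, 13), (1, 13), (0, 14), (1, 14), (0, 15), (1, 15), (0, 16), (1, 16), (0, 17), (1, 17), (0, 18),
   (1, 18), (0, 19), (1, 19), (0, 20), (1, 20), (0, 21), (1, 21), (0, 22), (1, 22), (0, 23), (1, 23), (0, 24),
   (1, 24), (1, 25), (0, 26), (1, 26), (1, 27), (1, 28), (0, 29), (1, 29), (0, 30), (1, 30), (0, 31), (1, 31),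
   (0, 32), (0, 33), (1, 33), (0, 34), (1, 34), (0, 35), (0, 36), (1, 36), (0, 38), (0, 41), (1, 42), (0, 43),
   (1, 44), (1, 45), (0, 46), (0, 47), (0, 49), (1, 50), (0, 51), (1, 51), (1, 52), (0, 53), (1, 53), (0, 54),
   (0, 55), (1, 55), (0, 56), (0, 57), (1, 57), (0, 58), (1, 58), (0, 59), (1, 59), (0, 60), (1, 60), (0, 61),
   (1, 61), (1, 62), (1, 63), (0, 64), (1, 64), (0, 65), (1, 67), (0, 69), (1, 69), (1, 70), (0, 72), (1, 72),
   (0, 74), (1, 74), (1, 76), (1, 77), (0, 78), (1, 78), (0, 79), (1, 80), (1, 81), (1, 82), (0, 86), (1, 86),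
   (0, 87), (1, 87), (1, 88), (1, 91), (1, 99), (0, 101), (1, 101), (0, 103), (0, 104), (1, 108), (0, 109), (1, 111),
   (0, 117), (1, 117), (1, 118), (1, 119), (0, 121), (1, 126), (1, 130)]

/-- generators for r0 -/
def r0Gens : List ℕ :=
  [520735802950240134109466930754854944, 521958286108143644324404829868959792]

/-- root of r0 -/
def r0Root : ℕ := 42232

/-- steps for r0 -/
def r0Steps : List (ℕ × ℕ) :=
  [(0, 0), (1, 0), (0, 1), (1, 1), (1, 3), (0, 4), (1, 4), (0, 5), (1, 5), (0, 6), (0, 7), (1, 8),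
   (1, 9), (1, 10)]

/-- generators for r4 -/
def r4Gens : List ℕ :=
  [721824694526686356623967951503216688, 932837892440586037092854072555612210]

/-- root of r4 -/
def r4Root : ℕ := 95313

/-- steps for r4 -/
def r4Steps : List (ℕ × ℕ) :=
  [(0, 0), (1, 0), (0, 1), (1, 1), (0, 2), (1, 2), (0, 3), (1, 3), (0, 4), (1, 4), (0, 5), (1, 5),
   (0, 6), (1, 6), (1, 7), (0, 8), (1, 8), (0, 9), (1, 9), (0, 10), (1, 10), (0, 11), (1, 11), (0, 12),
   (1, 12), (0, 13), (1, 13), (0, 14), (1, 14), (0, 15), (1, 15), (1, 16), (0, 17), (1, 17), (0, 18), (0, 19),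
   (1, 19), (0, 20), (1, 20), (0, 21), (1, 21), (1, 22), (0, 23), (1, 23), (1, 24), (0, 25), (1, 25), (0, 26),
   (1, 26), (0, 27), (1, 27), (0, 28), (1, 28), (0, 29), (1, 29), (0, 30), (1, 30), (0, 31), (0, 32), (1, 32),
   (0, 33), (1, 33), (1, 34), (0, 36), (1, 36), (0, 37), (0, 38), (1, 38), (0, 39), (1, 39), (0, 40), (0, 41),
   (1, 41), (0, 42), (0, 43), (1, 43), (0, 44), (0, 45), (1, 45), (0, 46), (0, 47), (1, 47), (1, 48), (0, 49),
   (1, 49), (1, 50), (0, 51), (1, 51), (0, 52), (1, 52), (0, 53), (1, 53), (0, 54), (1, 54), (0, 55), (0, 56),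
   (0, 57), (0, 58), (1, 58), (0, 59), (1, 60), (0, 61), (1, 61), (0, 62), (1, 62), (0, 63), (0, 64), (1, 64),
   (0, 65), (0, 66), (1, 66), (1, 67), (0, 68), (1, 68), (0, 69), (0, 71), (1, 72), (0, 73), (0, 74), (0, 75),
   (0, 76), (1, 76), (0, 77), (0, 78), (1, 78), (0, 79), (1, 79), (1, 80), (1, 81), (0, 82), (1, 82), (1, 83),
   (1, 84), (0, 85), (1, 85), (1, 86), (1, 87), (0, 88), (1, 88), (0, 90), (1, 90), (0, 92), (1, 93), (0, 94),
   (1, 95), (0, 97), (1, 98), (1, 99), (0, 100), (0, 101), (1, 101), (1, 103), (0, 104), (0, 105), (1, 106), (1, 107),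
   (1, 108), (1, 111), (0, 113), (1, 113), (1, 114), (0, 115), (1, 116), (1, 117), (0, 118), (1, 118), (0, 119), (0, 123),
   (1, 124), (0, 125), (1, 127), (1, 129), (0, 130), (0, 136), (1, 136), (1, 138), (1, 139), (0, 141), (0, 142), (1, 142),
   (0, 144), (1, 147), (1, 148), (1, 149), (1, 150), (0, 151), (0, 152), (1, 152), (1, 154), (1, 156), (1, 157), (0, 159),
   (0, 160), (0, 163), (1, 163), (1, 164), (1, 168), (1, 169), (1, 172), (1, 173), (1, 174), (1, 175), (1, 180), (0, 181),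
   (0, 183), (0, 184), (0, 188), (1, 195), (0, 199)]

/-- generators for r2 -/
def r2Gens : List ℕ :=
  [694562462903246118190383416605260846, 766075670647623352639671898426756128]

/-- root of r2 -/
def r2Root : ℕ := 15777

/-- steps for r2 -/
def r2Steps : List (ℕ × ℕ) :=
  [(0, 0), (1, 0), (0, 1), (1, 1), (0, 2), (0, 3), (1, 3), (0, 4), (1, 4), (0, 5), (1, 5), (0, 6),
   (0, 7), (1, 7), (0, 8), (1, 8), (0, 9), (1, 9), (0, 10), (1, 10), (0, 11), (1, 11), (0, 12), (1, 12),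
   (0, 13), (1, 13), (0, 14), (1, 14), (0, 15), (1, 15), (0, 16), (1, 16), (0, 17), (1, 17), (0, 18), (0, 19),
   (1, 19), (0, 20), (1, 20), (0, 21), (1, 21), (0, 22), (1, 22), (0, 23), (1, 23), (0, 24), (1, 24), (0, 25),
   (1, 25), (0, 26), (1, 26), (0, 27), (1, 27), (0, 28), (0, 29), (1, 29), (0, 30), (1, 30), (0, 31), (1, 31),
   (0, 32), (1, 32), (0, 33), (1, 33), (0, 34), (1, 34), (0, 35), (1, 35), (0, 36), (1, 36), (0, 37), (1, 37),
   (0, 38), (1, 38), (0, 39), (1, 39), (0, 40), (1, 40), (1, 41), (1, 42), (0, 44), (1, 44), (0, 45), (1, 45),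
   (0, 46), (1, 46), (1, 48), (1, 49), (0, 50), (1, 50), (0, 51), (1, 51), (0, 52), (1, 53), (1, 54), (0, 55),
   (0, 56), (1, 56), (0, 57), (1, 57), (1, 58), (0, 59), (1, 59), (1, 60), (1, 61), (0, 62), (0, 63), (1, 63),
   (1, 64), (0, 65), (0, 66), (1, 66), (0, 67), (1, 67), (0, 68), (1, 68), (0, 69), (1, 69), (0, 70), (1, 70),
   (0, 71), (1, 71), (0, 72), (1, 72), (0, 73), (1, 73), (1, 74), (1, 75), (0, 76), (0, 77), (1, 78), (0, 79),
   (1, 80), (1, 82), (0, 83), (1, 85), (0, 86), (1, 86), (0, 87), (1, 87), (1, 88), (0, 89), (1, 89), (1, 90),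
   (1, 91), (0, 92), (0, 94), (1, 94), (0, 95), (0, 96), (1, 96), (0, 97), (1, 97), (1, 98), (0, 99), (0, 100),
   (0, 101), (1, 102), (0, 103), (1, 103), (1, 104), (0, 105), (1, 105), (0, 106), (1, 106), (0, 107), (0, 108), (1, 108),
   (0, 109), (1, 109), (0, 111), (1, 111), (0, 113), (1, 114), (0, 115), (1, 115), (0, 117), (1, 117), (1, 119), (1, 120),
   (1, 121), (0, 122), (1, 122), (0, 123), (1, 123), (0, 124), (0, 125), (0, 126), (1, 128), (0, 130), (0, 131), (0, 132),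
   (1, 134), (1, 135), (0, 136), (1, 136), (0, 137), (0, 138), (0, 139), (1, 140), (1, 142), (0, 145), (0, 146), (1, 147),
   (0, 148), (0, 149), (1, 150), (0, 151), (1, 152), (1, 153), (0, 154), (0, 155), (0, 156), (0, 157), (1, 157), (0, 158),
   (0, 159), (1, 159), (1, 160), (0, 161), (1, 162), (0, 163), (1, 163), (1, 164), (1, 165), (0, 166), (1, 167), (0, 169),
   (1, 169), (1, 172), (1, 173), (0, 175), (1, 176), (0, 178), (0, 181), (1, 181), (0, 182), (1, 183), (0, 186), (1, 186),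
   (0, 187), (0, 188), (1, 188), (1, 189), (0, 191), (1, 191), (1, 192), (0, 196), (1, 196), (0, 203), (1, 204), (1, 205),
   (1, 206), (1, 207), (0, 209), (0, 210), (1, 210), (0, 212), (0, 214), (0, 216), (1, 216), (0, 218), (1, 218), (0, 221),
   (0, 228), (1, 229), (0, 231), (0, 232), (1, 235), (0, 236), (1, 239), (0, 245), (0, 247), (0, 256), (1, 262), (0, 263),
   (0, 264), (0, 266), (1, 274)]

/-- generators for outP -/
def outPGens : List ℕ :=
  [735527222420975603457018360694347840, 529169555124545403037968439269821504]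

/-- root of outP -/
def outPRoot : ℕ := 2

/-- steps for outP -/
def outPSteps : List (ℕ × ℕ) :=
  [(0, 0), (0, 1), (1, 1), (0, 2), (1, 2), (1, 3), (1, 4), (1, 5), (0, 6), (1, 6), (0, 7), (1, 7),
   (1, 8), (0, 10), (0, 12)]

end Cfsg.Agent.GolayHeptadData
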