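import Cfsg.Agent.Lib.GolayCount
import Cfsg.Agent.Lib.GolayHeptadData

/-!
Stabilisers of an octad and one or two points: orbits on the octads.
-/

set_option autoImplicit false

namespace Cfsg.Agent.GolayHeptad

open Cfsg Cfsg.Agent.GolayBasic Cfsg.Agent.GolayPerm Cfsg.Agent.GolayHeptadData
  Cfsg.Agent.GolayOrbitThms Cfsg.Agent.GolayCount
open scoped Pointwise

/-- masks obtained from those seen by the steps -/
def grow (gens : List ℕ) : List ℕ → List (ℕ × ℕ) → List ℕ
  | seen, [] => seen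
  | seen, (j, k) :: rest =>
    match gens[j]?, seen[k]? with
    | some g, some m => grow gens (seen ++ [pmask g m]) rest
    | _, _ => seen

/-- reachability certificate for a class of masks -/
def reachCheck (gens : List ℕ) (fix : List ℕ) (root : ℕ) (steps : List (ℕ × ℕ)) (cls : List ℕ) :
    Bool :=
  (gens.all fun g => good g && pmask g 13062145 == 13062145 && fix.all (fun i => pimg g i == i)) &&
    cls.all fun m => (grow gens [root] steps).contains m

/-- the permutations of the code fixing the standard octad and some points -/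
def Fixes (fix : List ℕ) (g : Equiv.Perm GolayPt) : Prop :=
  g ∈ M24 ∧ g • mset 13062145 = mset 13062145 ∧ ∀ i ∈ fix, g (pt i) = pt i

theorem mem_grow {gens fix : List ℕ} {root : ℕ} (hf : ∀ i ∈ fix, i < 24)
    (hg : ∀ g ∈ gens, good g = true ∧ pmask g 13062145 = 13062145 ∧ ∀ i ∈ fix, pimg g i = i) :
    ∀ (steps : List (ℕ × ℕ)) (seen : List ℕ),
      (∀ m ∈ seen, ∃ g, Fixes fix g ∧ g • mset root = mset m) →
      ∀ m ∈ grow gens seen steps, ∃ g, Fixes fix g ∧ g • mset root = mset m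
  | [], seen, hs, m, hm => hs m hm
  | (j, k) :: rest, seen, hs, m, hm => by
    rw [grow] at hm
    split at hm
    · rename_i g x hgj hxk
      refine mem_grow hf hg rest _ (fun y hy => ?_) m hm
      rcases List.mem_append.1 hy with hy | hy
      · exact hs y hy
      · rw [List.mem_singleton] at hy
        subst hy
        obtain ⟨h, ⟨hh1, hh2, hh3⟩, he⟩ := hs x (List.mem_of_getElem? hxk)
        obtain ⟨g1, g2, g3⟩ := hg g (List.mem_of_getElem? hgj)
        have hv := valid_of_good g1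
        refine ⟨permOf g * h, ⟨mul_mem (permOf_mem_M24 g1) hh1, ?_, fun i hi => ?_⟩, ?_⟩
        · rw [mul_smul, hh2, smul_mset hv, g2]
        · rw [Equiv.Perm.mul_apply, hh3 i hi, permOf_apply hv, pfun, idx_pt (hf i hi), g3 i hi]
        · rw [mul_smul, he, smul_mset hv]
    · exact hs m hm

/-- What a certificate gives: transitivity on the class. -/
theorem exists_of_reach {gens fix : List ℕ} {root : ℕ} {steps : List (ℕ × ℕ)} {cls : List ℕ}
    (hf : ∀ i ∈ fix, i < 24) (hc : reachCheck gens fix root steps cls = true) {a b : ℕ}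
    (ha : a ∈ cls) (hb : b ∈ cls) : ∃ g, Fixes fix g ∧ g • mset a = mset b := by
  simp only [reachCheck, Bool.and_eq_true, List.all_eq_true, beq_iff_eq, List.contains_iff_mem] at hc
  have hgen : ∀ g ∈ gens, good g = true ∧ pmask g 13062145 = 13062145 ∧ ∀ i ∈ fix, pimg g i = i :=
    fun g hg => ⟨(hc.1 g hg).1.1, (hc.1 g hg).1.2, (hc.1 g hg).2⟩
  have hall := mem_grow hf hgen steps [root] (fun m hm => by
    rw [List.mem_singleton] at hm
    subst hm
    exact ⟨1, ⟨one_mem _, one_smul _ _, fun i _ => rfl⟩, one_smul _ _⟩)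
  obtain ⟨g, ⟨g1, g2, g3⟩, hga⟩ := hall a (hc.2 a ha)
  obtain ⟨h, ⟨h1, h2, h3⟩, hhb⟩ := hall b (hc.2 b hb)
  refine ⟨h * g⁻¹, ⟨mul_mem h1 (inv_mem g1), ?_, fun i hi => ?_⟩, ?_⟩
  · rw [mul_smul, inv_smul_eq_iff.2 g2.symm, h2]
  · have e : g⁻¹ (pt i) = pt i := Equiv.Perm.inv_eq_iff_eq.2 (g3 i hi).symm
    rw [Equiv.Perm.mul_apply, e, h3 i hi]
  · rw [mul_smul, inv_smul_eq_iff.2 hga.symm, hhb]

/-- the masks of the octads with a property -/
def octsWith (p : ℕ → Bool) : List ℕ := ((ofWeight 8).filter fun x => p (enc x)).map enc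

theorem exists_mask {o : Finset GolayPt} (ho : o ∈ octads) {p : ℕ → Bool}
    (hp : ∀ m, mset m = o → p m = true) : ∃ m ∈ octsWith p, mset m = o := by
  obtain ⟨x, hx, rfl⟩ := mem_wordsOfWeight.1 ho
  exact ⟨enc x, List.mem_map.2 ⟨x, List.mem_filter.2 ⟨hx, hp _ rfl⟩, rfl⟩, rfl⟩

/-- two points of an octad and one outside, moved to the standard ones -/
theorem exists_frame_in {o : Finset GolayPt} (ho : o ∈ octads) {p q : GolayPt} (hp : p ∈ o)
    (hq : q ∈ o) (hpq : p ≠ q) :
    ∃ a ∈ M24, a • mset 13062145 = o ∧ a (pt 0) = p ∧ a (pt 12) = q := by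
  have h3 : 3 ≤ (o \ {p, q}).card := by
    rw [Finset.card_sdiff_of_subset (by simp [Finset.insert_subset_iff, hp, hq]), ho.2,
      Finset.card_pair hpq]
    norm_num
  obtain ⟨T, hTs, hT⟩ := Finset.exists_subset_card_eq h3
  obtain ⟨u, v, w, huv, huw, hvw, rfl⟩ := Finset.card_eq_three.1 hT
  have hu := hTs (show u ∈ ({u, v, w} : Finset GolayPt) by simp)
  have hv := hTs (show v ∈ ({u, v, w} : Finset GolayPt) by simp)
  have hw := hTs (show w ∈ ({u, v, w} : Finset GolayPt) by simp)
  simp only [Finset.mem_sdiff, Finset.mem_insert, Finset.mem_singleton, not_or] at hu hv hw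
  obtain ⟨g, hg, hgx⟩ := GolayM24.exists_map_five_five ![pt 0, pt 12, pt 14, pt 16, pt 17]
    ![p, q, u, v, w] (by decide +kernel)
    (by intro i j h; fin_cases i <;> fin_cases j <;> simp_all)
  refine ⟨g, hg, ?_, hgx 0, hgx 1⟩
  refine GolaySteiner.octad_eq_of_five (smul_mem_octads hg GolayM24.octad_five_mem) ho
    (s := Finset.univ.image ![p, q, u, v, w]) ?_ ?_ ?_
  · rw [Finset.card_image_of_injective _ (by intro i j h; fin_cases i <;> fin_cases j <;> simp_all)]
    simp
  · intro z hz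
    obtain ⟨i, -, rfl⟩ := Finset.mem_image.1 hz
    rw [← hgx i]
    exact Finset.smul_mem_smul_finset ((by decide +kernel :
      ∀ i, ![pt 0, pt 12, pt 14, pt 16, pt 17] i ∈ mset 13062145) i)
  · intro z hz
    obtain ⟨i, -, rfl⟩ := Finset.mem_image.1 hz
    fin_cases i <;> simp [hp, hq, hu.1, hv.1, hw.1]

theorem outP_check : reachCheck outPGens [0] outPRoot outPSteps
    ((List.range 24).filterMap fun i =>
      if (13062145 : ℕ).testBit i then none else some (1 <<< i)) = true := by decide +kernel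

/-- a point in an octad and one outside, moved to the standard ones -/
theorem exists_frame_out {o : Finset GolayPt} (ho : o ∈ octads) {p r : GolayPt} (hp : p ∈ o)
    (hr : r ∉ o) : ∃ a ∈ M24, a • mset 13062145 = o ∧ a (pt 0) = p ∧ a (pt 1) = r := by
  obtain ⟨q, hq, hqp⟩ := Finset.exists_mem_ne (show 1 < o.card by rw [ho.2]; norm_num) p
  obtain ⟨a, ha, hao, hap, -⟩ := exists_frame_in ho hp hq hqp.symm
  have hr' : a⁻¹ r ∉ mset 13062145 := fun h => hr (by
    rw [← hao]
    exact Finset.mem_smul_finset.2 ⟨_, h, a.apply_symm_apply r⟩)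
  obtain ⟨g, ⟨g1, g2, g3⟩, hgr⟩ := exists_of_reach (fix := [0]) (by simp) outP_check
    (a := 1 <<< 1) (b := 1 <<< idx (a⁻¹ r)) (by decide +kernel)
    (List.mem_filterMap.2 ⟨idx (a⁻¹ r), List.mem_range.2 (idx_lt _), by
      rw [mem_mset] at hr'
      rw [if_neg hr']⟩)
  refine ⟨a * g, mul_mem ha g1, ?_, ?_, ?_⟩
  · rw [mul_smul, g2, hao]
  · rw [Equiv.Perm.mul_apply, g3 0 (by simp), hap]
  · rw [mset_one_shiftLeft (by norm_num), mset_one_shiftLeft (idx_lt _), pt_idx,
      Finset.smul_finset_singleton, Finset.singleton_inj, Equiv.Perm.smul_def] at hgr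
    rw [Equiv.Perm.mul_apply, hgr]
    exact a.apply_symm_apply r

/-- a point outside an octad, moved to the standard one -/
theorem exists_frame_avoid {o : Finset GolayPt} (ho : o ∈ octads) {r : GolayPt}
    (hr : r ∉ o) : ∃ a ∈ M24, a • mset 13062145 = o ∧ a (pt 1) = r := by
  obtain ⟨p, hp⟩ := Finset.card_pos.1 (show 0 < o.card by rw [ho.2]; norm_num)
  obtain ⟨a, h1, h2, -, h3⟩ := exists_frame_out ho hp hr
  exact ⟨a, h1, h2, h3⟩

/-- transitivity on a class, for any frame -/
theorem transfer {a : Equiv.Perm GolayPt} (ha : a ∈ M24) {gens fix : List ℕ} {root : ℕ}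
    {steps : List (ℕ × ℕ)} {p : ℕ → Bool} (hf : ∀ i ∈ fix, i < 24)
    (hc : reachCheck gens fix root steps (octsWith p) = true) {x y : Finset GolayPt}
    (hx : x ∈ octads) (hy : y ∈ octads) (hpx : ∀ m, a • mset m = x → p m = true)
    (hpy : ∀ m, a • mset m = y → p m = true) :
    ∃ g : Equiv.Perm GolayPt, g ∈ M24 ∧ g • (a • mset 13062145) = a • mset 13062145 ∧
      (∀ i ∈ fix, g (a (pt i)) = a (pt i)) ∧ g • x = y := by
  obtain ⟨m, hm, hmx⟩ := exists_mask (smul_mem_octads (inv_mem ha) hx)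
    (p := p) (fun m hm => hpx m (by rw [hm, smul_inv_smul]))
  obtain ⟨n, hn, hny⟩ := exists_mask (smul_mem_octads (inv_mem ha) hy)
    (p := p) (fun m hm => hpy m (by rw [hm, smul_inv_smul]))
  obtain ⟨g, ⟨g1, g2, g3⟩, hg⟩ := exists_of_reach hf hc hm hn
  refine ⟨a * g * a⁻¹, mul_mem (mul_mem ha g1) (inv_mem ha), ?_, fun i hi => ?_, ?_⟩
  · rw [mul_smul, mul_smul, inv_smul_smul, g2]
  · rw [Equiv.Perm.mul_apply, Equiv.Perm.mul_apply, Equiv.Perm.inv_def, Equiv.symm_apply_apply,
      g3 i hi]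
  · rw [mul_smul, mul_smul, ← hmx, hg, hny, smul_inv_smul]

theorem testBit_of_mem {a : Equiv.Perm GolayPt} {m i : ℕ} (hi : i < 24) :
    a (pt i) ∈ a • mset m ↔ m.testBit i = true := by
  rw [← Equiv.Perm.smul_def, Finset.smul_mem_smul_finset_iff, mem_mset, idx_pt hi]

theorem wt_of_inter {a : Equiv.Perm GolayPt} {m : ℕ} :
    (a • mset 13062145 ∩ a • mset m).card = wt (13062145 &&& m) := by
  rw [← Finset.smul_finset_inter, Finset.card_smul_finset, ← mset_and, card_mset]

theorem inter_cases {o x : Finset GolayPt} (ho : o ∈ octads) (hx : x ∈ octads) :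
    (o ∩ x).card = 0 ∨ (o ∩ x).card = 2 ∨ (o ∩ x).card = 4 ∨ (o ∩ x).card = 8 := by
  obtain ⟨a, ha, rfl⟩ := GolayM24.exists_smul_eq_of_octads GolayM24.octad_five_mem ho
  obtain ⟨m, hm, hmx⟩ := exists_mask (smul_mem_octads (inv_mem ha) hx)
    (p := fun _ => true) (fun _ _ => rfl)
  have hx' : x = a • mset m := by rw [hmx, smul_inv_smul]
  rw [hx', wt_of_inter]
  have key : ∀ m ∈ octsWith (fun _ => true), wt (13062145 &&& m) = 0 ∨ wt (13062145 &&& m) = 2 ∨
      wt (13062145 &&& m) = 4 ∨ wt (13062145 &&& m) = 8 := by decide +kernel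
  exact key m hm

theorem eq_of_inter_eight {o x : Finset GolayPt} (ho : o ∈ octads) (hx : x ∈ octads)
    (h : (o ∩ x).card = 8) : x = o := by
  have h1 : o ∩ x = o := Finset.eq_of_subset_of_card_le Finset.inter_subset_left (by rw [h, ho.2])
  exact (Finset.eq_of_subset_of_card_le (Finset.inter_eq_left.1 h1) (by rw [ho.2, hx.2])).symm

/-- counting octads with a property in any frame -/
theorem count {a : Equiv.Perm GolayPt} (ha : a ∈ M24) (P : Finset GolayPt → Prop) (p : ℕ → Bool)
    (h : ∀ m, p m = true ↔ P (a • mset m)) :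
    {s : Finset GolayPt | s ∈ octads ∧ P s}.ncard = ((ofWeight 8).filter fun x => p (enc x)).length := by
  rw [ncard_smul octads_inv ⟨a, ha⟩ (Q := fun s => P (a • s)) (fun s => Iff.rfl)]
  exact ncard_octads_filter _ p fun x _ => h (enc x)

end Cfsg.Agent.GolayHeptad
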