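import Cfsg.Agent.Lib.GolaySix

/-!
The pointwise stabiliser of an octad meets the stabiliser of an octad or dodecad in general
position trivially; the image on the octad is the alternating group.
-/

set_option autoImplicit false

namespace Cfsg.Agent.GolayHexad

open Cfsg Cfsg.Agent.GolayBasic Cfsg.Agent.GolayPerm Cfsg.Agent.GolaySearch Cfsg.Agent.GolayData
  Cfsg.Agent.GolaySix
open scoped Pointwise

theorem moves_word : ((tr24_6.all fun t => (pts.all fun i => pimg t i == i) ||
      (ofWeight 8).all fun x => !(wt (13062145 &&& enc x) == 2) || !(pmask t (enc x) == enc x)) &&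
    (tr24_6.all fun t => (pts.all fun i => pimg t i == i) ||
      (ofWeight 12).all fun x => !(wt (13062145 &&& enc x) == 6) || !(pmask t (enc x) == enc x))) =
    true := by
  decide +kernel

/-- the sixteen translations move every octad or dodecad in general position -/
theorem fix_word {o : Finset GolayPt} (ho : o ∈ octads) {g : Equiv.Perm GolayPt} (hg : g ∈ M24)
    (hfix : ∀ p ∈ o, g p = p) {s : Finset GolayPt} {n k : ℕ} (hnk : n = 8 ∧ k = 2 ∨ n = 12 ∧ k = 6)
    (hs : s ∈ wordsOfWeight (golayCode : Set (GolayPt → ZMod 2)) n) (hk : (o ∩ s).card = k)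
    (hgs : g • s = s) : g = 1 := by
  obtain ⟨C, hCo, hC⟩ := exists_subset_six ho
  obtain ⟨m, rfl, hm⟩ := exists_frame ho hC hCo
  obtain ⟨t, ht, e⟩ := frame_elem hm hg fun p hp => hfix p (hCo hp)
  obtain ⟨x, hx, hxe⟩ := mem_wordsOfWeight.1
    (smul_mem_wordsOfWeight (inv_mem m.2) hs : (m : Equiv.Perm GolayPt)⁻¹ • s ∈ _)
  have hv := valid_of_good ((List.all_eq_true.1 six_facts t ht) |> fun h => by
    simp only [Bool.and_eq_true] at h; exact h.1.1)
  have hwt : wt (13062145 &&& enc x) = k := by
    rw [← card_mset, mset_and, hxe, ← hk, ← Finset.card_smul_finset (m : Equiv.Perm GolayPt),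
      Finset.smul_finset_inter, smul_inv_smul]
    rfl
  have hfx : pmask t (enc x) = enc x := by
    refine mset_inj (GolayOrbit.pmask_lt hv _) (enc_lt (List.mem_range.1 (List.mem_filter.1 hx).1)) ?_
    rw [← smul_mset hv, hxe, ← e, mul_smul, mul_smul, smul_inv_smul, hgs]
  have hid : (pts.all fun i => pimg t i == i) = true := by
    have h := moves_word
    simp only [Bool.and_eq_true] at h
    rcases hnk with ⟨rfl, rfl⟩ | ⟨rfl, rfl⟩
    · rcases Bool.or_eq_true_iff.1 (List.all_eq_true.1 h.1 t ht) with h' | h'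
      · exact h'
      · have := List.all_eq_true.1 h' x hx
        simp [hwt, hfx] at this
    · rcases Bool.or_eq_true_iff.1 (List.all_eq_true.1 h.2 t ht) with h' | h'
      · exact h'
      · have := List.all_eq_true.1 h' x hx
        simp [hwt, hfx] at this
  have h1 : permOf t = 1 := eq_of_num fun i hi => by
    rw [num, permOf_apply hv, pfun, idx_pt hi, idx_pt (pimg_lt hv hi),
      beq_iff_eq.1 (List.all_eq_true.1 hid i (mem_pts.2 hi)), num, Equiv.Perm.one_apply, idx_pt hi]
  rw [h1] at e
  have : g = (m : Equiv.Perm GolayPt) * ((m : Equiv.Perm GolayPt)⁻¹ * g * m) *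
      (m : Equiv.Perm GolayPt)⁻¹ := by group
  rw [this, e, mul_one, mul_inv_cancel]

theorem smul_of_fix {g : Equiv.Perm GolayPt} {E : Finset GolayPt} (h : ∀ p ∈ E, g p = p) :
    g • E = E := by
  refine Finset.eq_of_subset_of_card_le ?_ (by rw [Finset.card_smul_finset])
  intro p hp
  obtain ⟨q, hq, rfl⟩ := Finset.mem_smul_finset.1 hp
  rw [Equiv.Perm.smul_def, h q hq]
  exact hq

theorem card_ker_octad {o : Finset GolayPt} (ho : o ∈ octads) :
    Nat.card (restrict (MulAction.stabilizer ↥M24 o) o fun g hg => hg).ker = 16 := by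
  rw [← card_fix_octad ho]
  exact Nat.card_congr
    { toFun := fun g => ⟨((g : ↥(MulAction.stabilizer ↥M24 o)) : ↥M24),
        ((g : ↥(MulAction.stabilizer ↥M24 o)) : ↥M24).2, (restrict_eq_one _ _).1 g.2⟩
      invFun := fun g => ⟨⟨⟨g.1, g.2.1⟩, smul_of_fix g.2.2⟩, (restrict_eq_one _ _).2 g.2.2⟩
      left_inv := fun _ => rfl
      right_inv := fun _ => rfl }

/-- the image of the stabiliser of an octad on it -/
theorem range_octad {o : Finset GolayPt} (ho : o ∈ octads) :
    (restrict (MulAction.stabilizer ↥M24 o) o fun g hg => hg).range = alternatingGroup ↥o := by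
  set f := restrict (MulAction.stabilizer ↥M24 o) o fun g hg => hg
  refine Equiv.Perm.eq_alternatingGroup_of_index_eq_two ?_
  have h1 := Subgroup.card_eq_card_quotient_mul_card_subgroup f.ker
  rw [Nat.card_congr (QuotientGroup.quotientKerEquivRange f).toEquiv, card_ker_octad ho,
    GolayCount.card_stab_octad ho] at h1
  have h2 := Subgroup.index_mul_card f.range
  rw [Nat.card_perm, Nat.card_eq_fintype_card (α := ↥o), Fintype.card_coe, ho.2,
    show Nat.factorial 8 = 40320 from rfl] at h2
  nlinarith

end Cfsg.Agent.GolayHexad
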