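import Cfsg.Agent.Lib.GolayOrbit
import Cfsg.Agent.Lib.GolayOrbitData

/-!
Kernel evaluation of the orbit certificates.
-/

set_option autoImplicit false

namespace Cfsg.Agent.GolayOrbitCertA

open Cfsg.Agent.GolayOrbit Cfsg.Agent.GolayOrbitData

theorem trioAll_check : check [] trioAllGens trioAllHash trioAllParts 3795 [3795] = true := by
  decide +kernel

theorem sextetAll_check : check [] sextetAllGens sextetAllHash sextetAllParts 1771 [1771] = true := by
  decide +kernel

theorem octTrio_check : check [13062145] octTrioGens octTrioHash octTrioParts 3795 [15, 420, 3360] = true := by
  decide +kernel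

theorem octSextet_check : check [13062145] octSextetGens octSextetHash octSextetParts 1771 [35, 840, 896] = true := by
  decide +kernel

theorem octOct_check : check [13062145] octOctGens octOctHash octOctParts 759 [1, 30, 280, 448] = true := by
  decide +kernel

theorem sexOct_check : check [3592, 557076, 1056898, 2097504, 4653056, 8409089] sexOctGens sexOctHash sexOctParts 759 [15, 360, 384] = true := by
  decide +kernel

theorem trioOct_check : check [10558, 3704512, 13062145] trioOctGens trioOctHash trioOctParts 759 [3, 84, 672] = true := by
  decide +kernel

end Cfsg.Agent.GolayOrbitCertA
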