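import Cfsg.Agent.Lib.GolayOrbit
import Cfsg.Agent.Lib.GolayOrbitData

/-!
Kernel evaluation of the orbit certificates.
-/

set_option autoImplicit false

namespace Cfsg.Agent.GolayOrbitCertB

open Cfsg.Agent.GolayOrbit Cfsg.Agent.GolayOrbitData

theorem sexTrio_check : check [3592, 557076, 1056898, 2097504, 4653056, 8409089] sexTrioGens sexTrioHash sexTrioParts 3795 [15, 180, 720, 2880] = true := by
  decide +kernel

theorem sexSex_check : check [3592, 557076, 1056898, 2097504, 4653056, 8409089] sexSexGens sexSexHash sexSexParts 1771 [1, 90, 240, 1440] = true := by
  decide +kernel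

theorem trioSex_check : check [10558, 3704512, 13062145] trioSexGens trioSexHash trioSexParts 1771 [7, 84, 336, 1344] = true := by
  decide +kernel

theorem trioTrio_check : check [10558, 3704512, 13062145] trioTrioGens trioTrioHash trioTrioParts 3795 [1, 42, 56, 1008, 2688] = true := by
  decide +kernel

theorem tripleSex_check : check [8392705] tripleSexGens tripleSexHash tripleSexParts 1771 [21, 630, 1120] = true := by
  decide +kernel

theorem pairSex_check : check [340831, 16436384] pairSexGens pairSexHash pairSexParts 1771 [396, 495, 880] = true := by
  decide +kernel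

theorem dodDod_check : check [340831] dodDodGens dodDodHash dodDodParts 2576 [1, 1, 495, 495, 1584] = true := by
  decide +kernel

end Cfsg.Agent.GolayOrbitCertB
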