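import Cfsg.Agent.Lib.GolayTrioSextet
import Cfsg.Agent.Lib.GolayOrbitCertA
import Cfsg.Agent.Lib.GolayOrbitCertB

/-!
The orbits of the stabilisers of an octad, a sextet, a trio, a triple, a dodecad and a pair of
complementary dodecads, transported to arbitrary objects.
-/

set_option autoImplicit false

namespace Cfsg.Agent.GolayOrbitThms

open Cfsg Cfsg.Agent.GolayBasic Cfsg.Agent.GolayPerm Cfsg.Agent.GolayOrbit Cfsg.Agent.GolayOrbitData
  Cfsg.Agent.GolayTrioSextet
open scoped Pointwise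

/-- coded trio test -/
def trioChk (l : List ℕ) : Bool :=
  ok l && l.length == 3 && (l.all fun a => inCode a && wt a == 8) &&
    l.all fun a => l.all fun b => a == b || (a &&& b) == 0

theorem trio_of_chk {l : List ℕ} (h : trioChk l = true) : fam l ∈ trios := by
  simp only [trioChk, Bool.and_eq_true, beq_iff_eq, List.all_eq_true, Bool.or_eq_true] at h
  obtain ⟨⟨⟨hok, hlen⟩, hoct⟩, hdis⟩ := h
  refine ⟨by rw [card_fam hok, hlen], ?_, ?_⟩
  · intro o ho
    obtain ⟨m, hm, rfl⟩ := mem_fam.1 ho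
    exact (mset_mem_octads (ok_lt hok hm)).2 (hoct m hm)
  · intro o ho o' ho' hne
    obtain ⟨a, ha, rfl⟩ := mem_fam.1 ho
    obtain ⟨b, hb, rfl⟩ := mem_fam.1 ho'
    rcases hdis a ha b hb with e | e
    · exact absurd (congrArg mset e) hne
    · rw [Finset.disjoint_iff_inter_eq_empty, ← mset_and, e, mset_zero]

/-- coded sextet test -/
def sextetChk (l : List ℕ) : Bool :=
  ok l && l.length == 6 && (l.all fun a => wt a == 4) &&
    l.all fun a => l.all fun b => a == b || (inCode (a ||| b) && wt (a ||| b) == 8)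

theorem sextet_of_chk {l : List ℕ} (h : sextetChk l = true) : fam l ∈ sextets := by
  simp only [sextetChk, Bool.and_eq_true, beq_iff_eq, List.all_eq_true, Bool.or_eq_true] at h
  obtain ⟨⟨⟨hok, hlen⟩, hfour⟩, hdis⟩ := h
  refine ⟨by rw [card_fam hok, hlen], ?_, ?_⟩
  · intro o ho
    obtain ⟨m, hm, rfl⟩ := mem_fam.1 ho
    rw [card_mset, hfour m hm]
  · intro o ho o' ho' hne
    obtain ⟨a, ha, rfl⟩ := mem_fam.1 ho
    obtain ⟨b, hb, rfl⟩ := mem_fam.1 ho'
    rcases hdis a ha b hb with e | e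
    · exact absurd (congrArg mset e) hne
    · rw [← mset_or]
      exact (mset_mem_octads (inCode_lt e.1)).2 e

/-- coded octad test -/
def octChk : List ℕ → Bool
  | [a] => inCode a && wt a == 8
  | _ => false

/-- coded dodecad test -/
def dodChk : List ℕ → Bool
  | [a] => inCode a && wt a == 12
  | _ => false

/-- the singletons of a set of sets -/
def single (U : Set (Finset GolayPt)) : Set (Finset (Finset GolayPt)) :=
  (fun o => ({o} : Finset (Finset GolayPt))) '' U

theorem ncard_single (U : Set (Finset GolayPt)) : (single U).ncard = U.ncard :=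
  Set.ncard_image_of_injective _ Finset.singleton_injective

theorem mem_single {U : Set (Finset GolayPt)} {o : Finset GolayPt} :
    ({o} : Finset (Finset GolayPt)) ∈ single U ↔ o ∈ U :=
  Finset.singleton_injective.mem_set_image

theorem smul_mem_single {U : Set (Finset GolayPt)} {g : Equiv.Perm GolayPt}
    (h : ∀ o ∈ U, g • o ∈ U) {X : Finset (Finset GolayPt)} (hX : X ∈ single U) :
    g • X ∈ single U := by
  obtain ⟨o, ho, rfl⟩ := hX
  exact ⟨g • o, h o ho, by rw [Finset.smul_finset_singleton]⟩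

theorem oct_of_chk {l : List ℕ} (h : octChk l = true) : fam l ∈ single octads := by
  rcases l with _ | ⟨a, _ | ⟨b, l⟩⟩ <;> simp [octChk] at h
  rw [fam_singleton, mem_single]
  exact (mset_mem_octads (inCode_lt h.1)).2 h

theorem dod_of_chk {l : List ℕ} (h : dodChk l = true) : fam l ∈ single dodecads := by
  rcases l with _ | ⟨a, _ | ⟨b, l⟩⟩ <;> simp [dodChk] at h
  rw [fam_singleton, mem_single]
  exact (mset_mem_dodecads (inCode_lt h.1)).2 h

theorem orbit_singleton {α : Type*} [DecidableEq α] [MulAction ↥M24 α] (H : Subgroup ↥M24) (a : α) :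
    MulAction.orbit ↥H ({a} : Finset α) =
      (fun o => ({o} : Finset α)) '' MulAction.orbit ↥H a := by
  ext X
  simp only [MulAction.mem_orbit_iff, Set.mem_image]
  constructor
  · rintro ⟨g, rfl⟩
    exact ⟨_, ⟨g, rfl⟩, (Finset.smul_finset_singleton (a := (g : ↥M24)) a).symm⟩
  · rintro ⟨_, ⟨g, rfl⟩, rfl⟩
    exact ⟨g, Finset.smul_finset_singleton (a := (g : ↥M24)) a⟩

/-- a decomposition of `U` into orbits of `H` of the listed sizes -/
def Decomp {α : Type*} [MulAction ↥M24 α] (H : Subgroup ↥M24) (U : Set α) (sizes : List ℕ) : Prop :=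
  ∃ L : List α, (∀ X ∈ L, X ∈ U) ∧ (L.map fun X => (MulAction.orbit ↥H X).ncard) = sizes ∧
    ∀ X, X ∈ U ↔ ∃ r ∈ L, X ∈ MulAction.orbit ↥H r

theorem decomp_of_check {B : List ℕ} {gens : List (ℕ × ℕ)} {H : ℕ × ℕ × ℕ}
    {parts : List (List ℕ × List (List ℕ))} {N : ℕ} {sizes : List ℕ}
    (hc : check B gens H parts N sizes = true) {U : Set (Finset (Finset GolayPt))}
    (hinv : ∀ g ∈ M24, g • fam B = fam B → ∀ X ∈ U, g • X ∈ U) (hroot : ∀ p ∈ parts, fam p.1 ∈ U)
    (hN : U.ncard ≤ N) : Decomp (stabOf (fam B)) U sizes := by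
  obtain ⟨hU, horb, hsz⟩ := orbits_of_check hc hinv hroot hN
  refine ⟨parts.map fun p => fam p.1, ?_, by rw [List.map_map]; exact hsz, fun X => ?_⟩
  · intro X hX
    obtain ⟨p, hp, rfl⟩ := List.mem_map.1 hX
    exact hroot p hp
  constructor
  · intro hX
    obtain ⟨Y, hY, hYX⟩ := (hU X).1 hX
    obtain ⟨l, hl, hYl⟩ := List.mem_flatten.1 hY
    obtain ⟨p, hp, rfl⟩ := List.mem_map.1 hl
    exact ⟨_, List.mem_map.2 ⟨p, hp, rfl⟩, by rw [horb p hp]; exact ⟨Y, hYl, hYX⟩⟩
  · rintro ⟨r, hr, g, rfl⟩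
    obtain ⟨p, hp, rfl⟩ := List.mem_map.1 hr
    exact hinv _ (g : ↥M24).2 (MulAction.mem_stabilizer_iff.1 g.2) _ (hroot p hp)

theorem Decomp.conj {α β : Type*} [MulAction ↥M24 α] [MulAction ↥M24 β] {b : α} {U : Set β}
    {sizes : List ℕ} (hinv : ∀ g : ↥M24, ∀ X ∈ U, g • X ∈ U)
    (h : Decomp (MulAction.stabilizer ↥M24 b) U sizes) (g : ↥M24) :
    Decomp (MulAction.stabilizer ↥M24 (g • b)) U sizes := by
  obtain ⟨L, hL, hsz, hU⟩ := h
  refine ⟨L.map (g • ·), ?_, ?_, fun X => ?_⟩
  · intro X hX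
    obtain ⟨Y, hY, rfl⟩ := List.mem_map.1 hX
    exact hinv g Y (hL Y hY)
  · rw [← hsz, List.map_map]
    refine List.map_congr_left fun Y _ => ?_
    show (MulAction.orbit _ (g • Y)).ncard = _
    rw [orbit_conj, Set.ncard_image_of_injective _ (MulAction.injective g)]
  · constructor
    · intro hX
      obtain ⟨r, hr, hm⟩ := (hU _).1 (hinv g⁻¹ X hX)
      exact ⟨g • r, List.mem_map.2 ⟨r, hr, rfl⟩, by
        rw [orbit_conj]; exact ⟨_, hm, smul_inv_smul g X⟩⟩
    · rintro ⟨r, hr, hm⟩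
      obtain ⟨Y, hY, rfl⟩ := List.mem_map.1 hr
      rw [orbit_conj] at hm
      obtain ⟨Z, hZ, rfl⟩ := hm
      exact hinv g Z ((hU Z).2 ⟨Y, hY, hZ⟩)

theorem Decomp.unsingle {H : Subgroup ↥M24} {U : Set (Finset GolayPt)} {sizes : List ℕ}
    (h : Decomp H (single U) sizes) : Decomp H U sizes := by
  obtain ⟨L, hL, hsz, hU⟩ := h
  have hex : ∀ X : Finset (Finset GolayPt), X ∈ L → ∃ o, o ∈ U ∧ ({o} : Finset _) = X := hL
  choose f hfU hf using hex
  refine ⟨L.pmap f fun _ h => h, ?_, ?_, fun o => ?_⟩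
  · intro o ho
    obtain ⟨X, hX, rfl⟩ := List.mem_pmap.1 ho
    exact hfU X hX
  · rw [← hsz, List.map_pmap, List.pmap_eq_map_attach]
    conv_rhs => rw [← List.attach_map_subtype_val L, List.map_map]
    refine List.map_congr_left fun X _ => ?_
    show _ = (MulAction.orbit ↥H X.1).ncard
    conv_rhs => rw [← hf X.1 X.2, orbit_singleton,
      Set.ncard_image_of_injective _ Finset.singleton_injective]
  · rw [← mem_single, hU]
    constructor
    · rintro ⟨r, hr, hm⟩
      rw [← hf r hr, orbit_singleton] at hm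
      obtain ⟨p, hp, e⟩ := hm
      exact ⟨f r hr, List.mem_pmap.2 ⟨r, hr, rfl⟩, Finset.singleton_injective e ▸ hp⟩
    · rintro ⟨r, hr, hm⟩
      obtain ⟨X, hX, rfl⟩ := List.mem_pmap.1 hr
      exact ⟨X, hX, by rw [← hf X hX, orbit_singleton]; exact ⟨o, hm, rfl⟩⟩

theorem Decomp.three {α : Type*} [MulAction ↥M24 α] {H : Subgroup ↥M24} {U : Set α} {a b c : ℕ}
    (h : Decomp H U [a, b, c]) : ∃ X₁ ∈ U, ∃ X₂ ∈ U, ∃ X₃ ∈ U,
      (MulAction.orbit ↥H X₁).ncard = a ∧ (MulAction.orbit ↥H X₂).ncard = b ∧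
      (MulAction.orbit ↥H X₃).ncard = c ∧
      U = MulAction.orbit ↥H X₁ ∪ MulAction.orbit ↥H X₂ ∪ MulAction.orbit ↥H X₃ := by
  obtain ⟨L, hL, hsz, hU⟩ := h
  rcases L with _ | ⟨x, _ | ⟨y, _ | ⟨z, _ | ⟨w, L⟩⟩⟩⟩ <;> simp at hsz
  refine ⟨x, hL x (by simp), y, hL y (by simp), z, hL z (by simp), hsz.1, hsz.2.1, hsz.2.2, ?_⟩
  ext X; simp [hU X, or_assoc]

theorem Decomp.four {α : Type*} [MulAction ↥M24 α] {H : Subgroup ↥M24} {U : Set α} {a b c d : ℕ}
    (h : Decomp H U [a, b, c, d]) : ∃ X₁ ∈ U, ∃ X₂ ∈ U, ∃ X₃ ∈ U, ∃ X₄ ∈ U,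
      (MulAction.orbit ↥H X₁).ncard = a ∧ (MulAction.orbit ↥H X₂).ncard = b ∧
      (MulAction.orbit ↥H X₃).ncard = c ∧ (MulAction.orbit ↥H X₄).ncard = d ∧
      U = MulAction.orbit ↥H X₁ ∪ MulAction.orbit ↥H X₂ ∪ MulAction.orbit ↥H X₃ ∪
        MulAction.orbit ↥H X₄ := by
  obtain ⟨L, hL, hsz, hU⟩ := h
  rcases L with _ | ⟨x, _ | ⟨y, _ | ⟨z, _ | ⟨u, _ | ⟨w, L⟩⟩⟩⟩⟩ <;> simp at hsz
  refine ⟨x, hL x (by simp), y, hL y (by simp), z, hL z (by simp), u, hL u (by simp), hsz.1,
    hsz.2.1, hsz.2.2.1, hsz.2.2.2, ?_⟩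
  ext X; simp [hU X, or_assoc]

theorem trios_inv (g : ↥M24) : ∀ X ∈ trios, g • X ∈ trios := fun _ h => smul_mem_trios g.2 h

theorem sextets_inv (g : ↥M24) : ∀ X ∈ sextets, g • X ∈ sextets := fun _ h => smul_mem_sextets g.2 h

theorem octads_inv (g : ↥M24) : ∀ X ∈ octads, g • X ∈ octads :=
  fun _ h => smul_mem_octads g.2 h

theorem dodecads_inv (g : ↥M24) : ∀ X ∈ dodecads, g • X ∈ dodecads :=
  fun _ h => smul_mem_dodecads g.2 h

theorem allChk (chk : List ℕ → Bool) (parts : List (List ℕ × List (List ℕ)))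
    (h : (parts.map Prod.fst).all chk = true) : ∀ p ∈ parts, chk p.1 = true := fun p hp =>
  List.all_eq_true.1 h _ (List.mem_map.2 ⟨p, hp, rfl⟩)

theorem trio_std : fam [10558, 3704512, 13062145] ∈ trios := trio_of_chk (by decide +kernel)

theorem sextet_std : fam [3592, 557076, 1056898, 2097504, 4653056, 8409089] ∈ sextets :=
  sextet_of_chk (by decide +kernel)

theorem ncard_trios : trios.ncard = 3795 := by
  refine le_antisymm ncard_trios_le ?_
  obtain ⟨L, hL, hsz, hU⟩ := decomp_of_check GolayOrbitCertA.trioAll_check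
    (U := trios) (fun g hg _ X hX => smul_mem_trios hg hX)
    (fun p hp => trio_of_chk (allChk trioChk trioAllParts (by decide +kernel) p hp)) ncard_trios_le
  rcases L with _ | ⟨x, _ | ⟨y, L⟩⟩ <;> simp at hsz
  rw [← hsz]
  refine Set.ncard_le_ncard (fun X hX => (hU X).2 ⟨x, by simp, hX⟩) (Set.toFinite _)

theorem ncard_sextets : sextets.ncard = 1771 := by
  refine le_antisymm ncard_sextets_le ?_
  obtain ⟨L, hL, hsz, hU⟩ := decomp_of_check GolayOrbitCertA.sextetAll_check
    (U := sextets) (fun g hg _ X hX => smul_mem_sextets hg hX)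
    (fun p hp => sextet_of_chk (allChk sextetChk sextetAllParts (by decide +kernel) p hp))
    ncard_sextets_le
  rcases L with _ | ⟨x, _ | ⟨y, L⟩⟩ <;> simp at hsz
  rw [← hsz]
  refine Set.ncard_le_ncard (fun X hX => (hU X).2 ⟨x, by simp, hX⟩) (Set.toFinite _)

theorem exists_smul_trio {T : Finset (Finset GolayPt)} (hT : T ∈ trios) :
    ∃ g : ↥M24, g • fam [10558, 3704512, 13062145] = T := by
  obtain ⟨L, hL, hsz, hU⟩ := decomp_of_check GolayOrbitCertA.trioAll_check
    (U := trios) (fun g hg _ X hX => smul_mem_trios hg hX)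
    (fun p hp => trio_of_chk (allChk trioChk trioAllParts (by decide +kernel) p hp)) ncard_trios_le
  rcases L with _ | ⟨x, _ | ⟨y, L⟩⟩ <;> simp at hsz
  obtain ⟨r, hr, ⟨a, ha⟩⟩ := (hU _).1 trio_std
  obtain ⟨r', hr', ⟨b, hb⟩⟩ := (hU _).1 hT
  rw [List.mem_singleton] at hr hr'
  subst hr hr'
  refine ⟨(b : ↥M24) * (a : ↥M24)⁻¹, ?_⟩
  rw [mul_smul, ← ha, ← hb]
  exact congrArg ((b : ↥M24) • ·) (inv_smul_smul (a : ↥M24) r')

theorem exists_smul_sextet {S : Finset (Finset GolayPt)} (hS : S ∈ sextets) :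
    ∃ g : ↥M24, g • fam [3592, 557076, 1056898, 2097504, 4653056, 8409089] = S := by
  obtain ⟨L, hL, hsz, hU⟩ := decomp_of_check GolayOrbitCertA.sextetAll_check
    (U := sextets) (fun g hg _ X hX => smul_mem_sextets hg hX)
    (fun p hp => sextet_of_chk (allChk sextetChk sextetAllParts (by decide +kernel) p hp))
    ncard_sextets_le
  rcases L with _ | ⟨x, _ | ⟨y, L⟩⟩ <;> simp at hsz
  obtain ⟨r, hr, ⟨a, ha⟩⟩ := (hU _).1 sextet_std
  obtain ⟨r', hr', ⟨b, hb⟩⟩ := (hU _).1 hS
  rw [List.mem_singleton] at hr hr'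
  subst hr hr'
  refine ⟨(b : ↥M24) * (a : ↥M24)⁻¹, ?_⟩
  rw [mul_smul, ← ha, ← hb]
  exact congrArg ((b : ↥M24) • ·) (inv_smul_smul (a : ↥M24) r')

theorem exists_smul_octad {o : Finset GolayPt} (ho : o ∈ octads) :
    ∃ g : ↥M24, g • mset 13062145 = o := by
  obtain ⟨g, hg, e⟩ := GolayM24.exists_smul_eq_of_octads GolayM24.octad_five_mem ho
  exact ⟨⟨g, hg⟩, e⟩

theorem dodecad_std : mset 340831 ∈ dodecads :=
  GolayM24.squareDodecad_eq ▸ GolayM24.squareDodecad_mem

theorem exists_smul_dodecad' {d : Finset GolayPt} (hd : d ∈ dodecads) :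
    ∃ g : ↥M24, g • mset 340831 = d := by
  obtain ⟨g, hg, e⟩ := GolayM24.exists_smul_eq_of_dodecads dodecad_std hd
  exact ⟨⟨g, hg⟩, e⟩

theorem exists_smul_triple {Y : Finset GolayPt} (hY : Y.card = 3) :
    ∃ g : ↥M24, g • mset 8392705 = Y := by
  have : (Finset.univ \ Y).card = 21 := by
    rw [Finset.card_sdiff_of_subset (Finset.subset_univ Y), hY, Finset.card_univ,
      show Fintype.card GolayPt = 24 from by decide +kernel]
  obtain ⟨p, q, r, hpq, hpr, hqr, rfl⟩ := Finset.card_eq_three.1 hY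
  obtain ⟨u, v, hu, hv, huv⟩ : ∃ u v, u ∈ Finset.univ \ {p, q, r} ∧ v ∈ Finset.univ \ {p, q, r} ∧ u ≠ v :=
    by
      obtain ⟨u, hu, v, hv, huv⟩ := Finset.one_lt_card.1 (by omega : 1 < (Finset.univ \ {p, q, r}).card)
      exact ⟨u, v, hu, hv, huv⟩
  simp only [Finset.mem_sdiff, Finset.mem_univ, true_and, Finset.mem_insert, Finset.mem_singleton,
    not_or] at hu hv
  have hinj : Function.Injective ![p, q, r, u, v] := by
    intro i j h
    fin_cases i <;> fin_cases j <;> simp_all
  obtain ⟨g, hg, e0, e1, e2, -, -⟩ := GolayM24.exists_map_five _ hinj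
  refine ⟨⟨g, hg⟩, ?_⟩
  show g • mset 8392705 = _
  rw [show mset 8392705 = {pt 23, pt 0, pt 12} by decide +kernel, Finset.smul_finset_insert,
    Finset.smul_finset_insert, Finset.smul_finset_singleton]
  simp only [Equiv.Perm.smul_def, e0, e1, e2]
  rfl

/-! ### the decompositions -/

theorem octad_trios {o : Finset GolayPt} (ho : o ∈ octads) :
    Decomp (MulAction.stabilizer ↥M24 o) trios [15, 420, 3360] := by
  obtain ⟨g, rfl⟩ := exists_smul_octad ho
  refine Decomp.conj trios_inv ?_ g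
  rw [← stabilizer_singleton (G := ↥M24) (mset 13062145), ← fam_singleton]
  exact decomp_of_check GolayOrbitCertA.octTrio_check (fun g hg _ X hX => smul_mem_trios hg hX)
    (fun p hp => trio_of_chk (allChk trioChk _ (by decide +kernel) p hp)) ncard_trios_le

theorem octad_sextets {o : Finset GolayPt} (ho : o ∈ octads) :
    Decomp (MulAction.stabilizer ↥M24 o) sextets [35, 840, 896] := by
  obtain ⟨g, rfl⟩ := exists_smul_octad ho
  refine Decomp.conj sextets_inv ?_ g
  rw [← stabilizer_singleton (G := ↥M24) (mset 13062145), ← fam_singleton]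
  exact decomp_of_check GolayOrbitCertA.octSextet_check (fun g hg _ X hX => smul_mem_sextets hg hX)
    (fun p hp => sextet_of_chk (allChk sextetChk _ (by decide +kernel) p hp)) ncard_sextets_le

theorem octad_octads {o : Finset GolayPt} (ho : o ∈ octads) :
    Decomp (MulAction.stabilizer ↥M24 o) octads [1, 30, 280, 448] := by
  obtain ⟨g, rfl⟩ := exists_smul_octad ho
  refine Decomp.conj octads_inv ?_ g
  rw [← stabilizer_singleton (G := ↥M24) (mset 13062145), ← fam_singleton]
  exact Decomp.unsingle <| decomp_of_check GolayOrbitCertA.octOct_check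
    (fun g hg _ X hX => smul_mem_single (fun o => smul_mem_octads hg) hX)
    (fun p hp => oct_of_chk (allChk octChk _ (by decide +kernel) p hp))
    (by rw [ncard_single, ncard_octads])

theorem sextet_octads {S : Finset (Finset GolayPt)} (hS : S ∈ sextets) :
    Decomp (MulAction.stabilizer ↥M24 S) octads [15, 360, 384] := by
  obtain ⟨g, rfl⟩ := exists_smul_sextet hS
  refine Decomp.conj octads_inv ?_ g
  exact Decomp.unsingle <| decomp_of_check GolayOrbitCertA.sexOct_check
    (fun g hg _ X hX => smul_mem_single (fun o => smul_mem_octads hg) hX)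
    (fun p hp => oct_of_chk (allChk octChk _ (by decide +kernel) p hp))
    (by rw [ncard_single, ncard_octads])

theorem sextet_trios {S : Finset (Finset GolayPt)} (hS : S ∈ sextets) :
    Decomp (MulAction.stabilizer ↥M24 S) trios [15, 180, 720, 2880] := by
  obtain ⟨g, rfl⟩ := exists_smul_sextet hS
  refine Decomp.conj trios_inv ?_ g
  exact decomp_of_check GolayOrbitCertB.sexTrio_check (fun g hg _ X hX => smul_mem_trios hg hX)
    (fun p hp => trio_of_chk (allChk trioChk _ (by decide +kernel) p hp)) ncard_trios_le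

theorem sextet_sextets {S : Finset (Finset GolayPt)} (hS : S ∈ sextets) :
    Decomp (MulAction.stabilizer ↥M24 S) sextets [1, 90, 240, 1440] := by
  obtain ⟨g, rfl⟩ := exists_smul_sextet hS
  refine Decomp.conj sextets_inv ?_ g
  exact decomp_of_check GolayOrbitCertB.sexSex_check (fun g hg _ X hX => smul_mem_sextets hg hX)
    (fun p hp => sextet_of_chk (allChk sextetChk _ (by decide +kernel) p hp)) ncard_sextets_le

theorem trio_octads {T : Finset (Finset GolayPt)} (hT : T ∈ trios) :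
    Decomp (MulAction.stabilizer ↥M24 T) octads [3, 84, 672] := by
  obtain ⟨g, rfl⟩ := exists_smul_trio hT
  refine Decomp.conj octads_inv ?_ g
  exact Decomp.unsingle <| decomp_of_check GolayOrbitCertA.trioOct_check
    (fun g hg _ X hX => smul_mem_single (fun o => smul_mem_octads hg) hX)
    (fun p hp => oct_of_chk (allChk octChk _ (by decide +kernel) p hp))
    (by rw [ncard_single, ncard_octads])

theorem trio_sextets {T : Finset (Finset GolayPt)} (hT : T ∈ trios) :
    Decomp (MulAction.stabilizer ↥M24 T) sextets [7, 84, 336, 1344] := by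
  obtain ⟨g, rfl⟩ := exists_smul_trio hT
  refine Decomp.conj sextets_inv ?_ g
  exact decomp_of_check GolayOrbitCertB.trioSex_check (fun g hg _ X hX => smul_mem_sextets hg hX)
    (fun p hp => sextet_of_chk (allChk sextetChk _ (by decide +kernel) p hp)) ncard_sextets_le

theorem trio_trios {T : Finset (Finset GolayPt)} (hT : T ∈ trios) :
    Decomp (MulAction.stabilizer ↥M24 T) trios [1, 42, 56, 1008, 2688] := by
  obtain ⟨g, rfl⟩ := exists_smul_trio hT
  refine Decomp.conj trios_inv ?_ g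
  exact decomp_of_check GolayOrbitCertB.trioTrio_check (fun g hg _ X hX => smul_mem_trios hg hX)
    (fun p hp => trio_of_chk (allChk trioChk _ (by decide +kernel) p hp)) ncard_trios_le

theorem triple_sextets {Y : Finset GolayPt} (hY : Y.card = 3) :
    Decomp (MulAction.stabilizer ↥M24 Y) sextets [21, 630, 1120] := by
  obtain ⟨g, rfl⟩ := exists_smul_triple hY
  refine Decomp.conj sextets_inv ?_ g
  rw [← stabilizer_singleton (G := ↥M24) (mset 8392705), ← fam_singleton]
  exact decomp_of_check GolayOrbitCertB.tripleSex_check (fun g hg _ X hX => smul_mem_sextets hg hX)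
    (fun p hp => sextet_of_chk (allChk sextetChk _ (by decide +kernel) p hp)) ncard_sextets_le

theorem pair_sextets {d : Finset GolayPt} (hd : d ∈ dodecads) :
    Decomp (MulAction.stabilizer ↥M24 ({d, Finset.univ \ d} : Finset (Finset GolayPt))) sextets
      [396, 495, 880] := by
  obtain ⟨g, rfl⟩ := exists_smul_dodecad' hd
  have e : ({g • mset 340831, Finset.univ \ g • mset 340831} : Finset (Finset GolayPt)) =
      g • fam [340831, 16436384] := by
    have h1 : fam [340831, 16436384] = {mset 340831, Finset.univ \ mset 340831} := by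
      rw [← Finset.compl_eq_univ_sdiff, ← mset_compl]
      simp [fam, show (16777215 : ℕ) ^^^ 340831 = 16436384 by decide +kernel]
    rw [h1, Finset.smul_finset_insert, Finset.smul_finset_singleton, Finset.smul_finset_sdiff,
      Finset.smul_finset_univ]
  rw [e]
  refine Decomp.conj sextets_inv ?_ g
  exact decomp_of_check GolayOrbitCertB.pairSex_check (fun g hg _ X hX => smul_mem_sextets hg hX)
    (fun p hp => sextet_of_chk (allChk sextetChk _ (by decide +kernel) p hp)) ncard_sextets_le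

theorem dodecad_dodecads {d : Finset GolayPt} (hd : d ∈ dodecads) :
    Decomp (MulAction.stabilizer ↥M24 d) dodecads [1, 1, 495, 495, 1584] := by
  obtain ⟨g, rfl⟩ := exists_smul_dodecad' hd
  refine Decomp.conj dodecads_inv ?_ g
  rw [← stabilizer_singleton (G := ↥M24) (mset 340831), ← fam_singleton]
  exact Decomp.unsingle <| decomp_of_check GolayOrbitCertB.dodDod_check
    (fun g hg _ X hX => smul_mem_single (fun o => smul_mem_dodecads hg) hX)
    (fun p hp => dod_of_chk (allChk dodChk _ (by decide +kernel) p hp))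
    (by rw [ncard_single, ncard_dodecads])

/-- the order of a stabiliser from the length of the orbit -/
theorem card_stab_trans {α : Type*} [MulAction ↥M24 α] {U : Set α} {a : α} {N k : ℕ}
    (hinv : ∀ g : ↥M24, ∀ X ∈ U, g • X ∈ U) (ha : a ∈ U)
    (htr : ∀ X ∈ U, ∃ g : ↥M24, g • a = X) (hN : U.ncard = N) (hk : N * k = 244823040)
    (hN0 : N ≠ 0) : Nat.card ↥(MulAction.stabilizer ↥M24 a) = k := by
  have e : MulAction.orbit ↥M24 a = U := by
    ext X
    exact ⟨fun ⟨g, hg⟩ => hg ▸ hinv g a ha, fun hX => htr X hX⟩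
  have h := card_mul_stab a
  rw [e, hN, ← hk] at h
  exact Nat.eq_of_mul_eq_mul_left (Nat.pos_of_ne_zero hN0) h

/-- the order of a two-object stabiliser -/
theorem card_two_stab {α β : Type*} [MulAction ↥M24 α] [MulAction ↥M24 β] (a : α) (b : β) :
    (MulAction.orbit ↥(MulAction.stabilizer ↥M24 a) b).ncard *
      Nat.card ↥(MulAction.stabilizer ↥M24 a ⊓ MulAction.stabilizer ↥M24 b) =
      Nat.card ↥(MulAction.stabilizer ↥M24 a) := by
  set H := MulAction.stabilizer ↥M24 a
  have e : MulAction.stabilizer ↥H b = (H ⊓ MulAction.stabilizer ↥M24 b).subgroupOf H := by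
    ext g
    rw [MulAction.mem_stabilizer_iff, Subgroup.mem_subgroupOf, Subgroup.mem_inf,
      MulAction.mem_stabilizer_iff (G := ↥M24)]
    exact ⟨fun h => ⟨g.2, h⟩, fun h => h.2⟩
  rw [Subgroup.card_eq_card_quotient_mul_card_subgroup (MulAction.stabilizer ↥H b),
    ← Nat.card_congr (MulAction.orbitEquivQuotientStabilizer ↥H b), e,
    Nat.card_congr (Subgroup.subgroupOfEquivOfLe inf_le_left).toEquiv]
  rfl

end Cfsg.Agent.GolayOrbitThms

namespace Cfsg.Agent.GolayOrbitThms

open Cfsg Cfsg.Agent.GolayBasic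
open scoped Pointwise

/-- if a function takes as many values as there are orbits, it separates them -/
theorem Decomp.separate {α γ : Type*} [MulAction ↥M24 α] {H : Subgroup ↥M24} {U : Set α}
    {sizes : List ℕ} (h : Decomp H U sizes) (f : α → γ) (hf : ∀ g : ↥H, ∀ X, f (g • X) = f X)
    (vals : List γ) (hlen : vals.length = sizes.length) (hnd : vals.Nodup)
    (hex : ∀ v ∈ vals, ∃ X ∈ U, f X = v) :
    ∀ X ∈ U, ∀ Y ∈ U, f X = f Y → ∃ g : ↥H, g • X = Y := by
  classical
  obtain ⟨L, hL, hsz, hU⟩ := h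
  have hval : ∀ X ∈ U, ∃ r ∈ L, X ∈ MulAction.orbit ↥H r ∧ f X = f r := by
    intro X hX
    obtain ⟨r, hr, g, rfl⟩ := (hU X).1 hX
    exact ⟨r, hr, ⟨g, rfl⟩, hf g r⟩
  have hsub : vals.toFinset ⊆ (L.map f).toFinset := by
    intro v hv
    obtain ⟨X, hX, rfl⟩ := hex v (List.mem_toFinset.1 hv)
    obtain ⟨r, hr, -, e⟩ := hval X hX
    exact List.mem_toFinset.2 (List.mem_map.2 ⟨r, hr, e.symm⟩)
  have hlenL : L.length = sizes.length := by rw [← hsz, List.length_map]
  have hndf : (L.map f).Nodup := by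
    have h1 := Finset.card_le_card hsub
    rw [List.toFinset_card_of_nodup hnd, hlen, ← hlenL] at h1
    have h2 := List.card_toFinset (L.map f)
    have h3 := (List.dedup_sublist (L.map f)).length_le
    rw [List.length_map] at h3
    have h4 : (L.map f).dedup = L.map f :=
      (List.dedup_sublist _).eq_of_length (by rw [List.length_map]; omega)
    exact List.dedup_eq_self.1 h4
  intro X hX Y hY e
  obtain ⟨r, hr, hXr, eX⟩ := hval X hX
  obtain ⟨r', hr', hYr, eY⟩ := hval Y hY
  obtain rfl : r = r' := List.inj_on_of_nodup_map hndf hr hr' (eX.symm.trans (e.trans eY))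
  rw [← MulAction.orbit_eq_iff] at hXr hYr
  exact MulAction.mem_orbit_iff.1 (hXr ▸ hYr ▸ MulAction.mem_orbit_self Y)

end Cfsg.Agent.GolayOrbitThms
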