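import Cfsg.Agent.Lib.GolayM23Index
import Cfsg.Agent.Lib.GolayOrbitThms
import Cfsg.Agent.Lib.GolayClasses
import Cfsg.Agent.Lib.GolaySimple

/-!
Subgroups of index 759, 276, 1771 or 253 in the Mathieu group on 24 points.
-/

set_option autoImplicit false

namespace Cfsg.Agent.GolayIndexSub70

open Cfsg Cfsg.Agent.GolayBasic Cfsg.Agent.GolayPerm Cfsg.Agent.GolayM24
open scoped Pointwise

theorem card_pts : Fintype.card GolayPt = 24 := by decide +kernel

theorem smul_pt (h : ↥M24) (p : GolayPt) : h • p = (h : Equiv.Perm GolayPt) p := rfl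

theorem smul_fs (h : ↥M24) (s : Finset GolayPt) :
    h • s = (h : Equiv.Perm GolayPt) • s := rfl

theorem card_smul (h : ↥M24) (s : Finset GolayPt) : (h • s).card = s.card :=
  Finset.card_smul_finset (h : Equiv.Perm GolayPt) s

/-! ### orbits and stabilisers in a subgroup -/

/-- the members of `H` fixing `p` -/
def stH (H : Subgroup ↥M24) (p : GolayPt) : Subgroup ↥M24 := H ⊓ MulAction.stabilizer ↥M24 p

theorem mem_stH {H : Subgroup ↥M24} {p : GolayPt} {h : ↥M24} :
    h ∈ stH H p ↔ h ∈ H ∧ h • p = p := by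
  rw [stH, Subgroup.mem_inf, MulAction.mem_stabilizer_iff]

/-- the orbit as a finite set -/
noncomputable def orb (H : Subgroup ↥M24) (p : GolayPt) : Finset GolayPt :=
  (Set.toFinite (MulAction.orbit H p)).toFinset

theorem mem_orb {H : Subgroup ↥M24} {p q : GolayPt} : q ∈ orb H p ↔ ∃ h ∈ H, h • p = q := by
  rw [orb, Set.Finite.mem_toFinset]
  constructor
  · rintro ⟨⟨h, hh⟩, rfl⟩
    exact ⟨h, hh, rfl⟩
  · rintro ⟨h, hh, rfl⟩
    exact ⟨⟨h, hh⟩, rfl⟩

theorem self_mem_orb (H : Subgroup ↥M24) (p : GolayPt) : p ∈ orb H p :=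
  mem_orb.2 ⟨1, one_mem _, one_smul _ _⟩

theorem orb_mul (H : Subgroup ↥M24) (p : GolayPt) :
    (orb H p).card * Nat.card ↥(stH H p) = Nat.card ↥H := by
  have e : MulAction.stabilizer H p = (stH H p).subgroupOf H := by
    ext g
    rw [MulAction.mem_stabilizer_iff, Subgroup.mem_subgroupOf, mem_stH]
    exact ⟨fun h => ⟨g.2, h⟩, fun h => h.2⟩
  rw [← Subgroup.card_mul_index (MulAction.stabilizer H p), MulAction.index_stabilizer, mul_comm,
    e, Nat.card_congr (Subgroup.subgroupOfEquivOfLe (show stH H p ≤ H from inf_le_left)).toEquiv,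
    orb, ← Set.ncard_eq_toFinset_card]

theorem orb_dvd (H : Subgroup ↥M24) (p : GolayPt) : (orb H p).card ∣ Nat.card ↥H :=
  ⟨_, (orb_mul H p).symm⟩

theorem orb_eq_of_mem {H : Subgroup ↥M24} {p q : GolayPt} (h : q ∈ orb H p) :
    orb H q = orb H p := by
  obtain ⟨a, ha, rfl⟩ := mem_orb.1 h
  ext r
  rw [mem_orb, mem_orb]
  constructor
  · rintro ⟨b, hb, rfl⟩
    exact ⟨b * a, mul_mem hb ha, mul_smul _ _ _⟩
  · rintro ⟨b, hb, rfl⟩
    exact ⟨b * a⁻¹, mul_mem hb (inv_mem ha), by rw [mul_smul, inv_smul_smul]⟩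

theorem smul_orb {H : Subgroup ↥M24} {p : GolayPt} {h : ↥M24} (hh : h ∈ H) :
    h • orb H p = orb H p := by
  refine Finset.eq_of_subset_of_card_le (fun z hz => ?_) (card_smul h _).ge
  obtain ⟨w, hw, rfl⟩ := Finset.mem_smul_finset.1 hz
  obtain ⟨a, ha, rfl⟩ := mem_orb.1 hw
  exact mem_orb.2 ⟨h * a, mul_mem hh ha, mul_smul _ _ _⟩

theorem smul_compl {h : ↥M24} {s : Finset GolayPt} (hs : h • s = s) : h • sᶜ = sᶜ := by
  rw [Finset.compl_eq_univ_sdiff, Finset.smul_finset_sdiff, Finset.smul_finset_univ, hs]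

theorem orb_mono {H K : Subgroup ↥M24} (h : H ≤ K) (p : GolayPt) : orb H p ⊆ orb K p := fun q hq => by
  obtain ⟨a, ha, rfl⟩ := mem_orb.1 hq
  exact mem_orb.2 ⟨a, h ha, rfl⟩

theorem orb_stH_self (H : Subgroup ↥M24) (x : GolayPt) {q : GolayPt} (h : x ∈ orb (stH H x) q) :
    q = x := by
  obtain ⟨a, ha, e⟩ := mem_orb.1 h
  exact MulAction.injective a (e.trans (mem_stH.1 ha).2.symm)

theorem orb_dvd_index {H : Subgroup ↥M24} {α : Type*} [MulAction ↥M24 α] (a : α)
    (h : ∀ g ∈ H, g • a = a) : (MulAction.orbit ↥M24 a).ncard ∣ H.index := by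
  rw [← MulAction.index_stabilizer]
  exact Subgroup.index_dvd_of_le fun g hg => h g hg

theorem eq_stab {H : Subgroup ↥M24} {α : Type*} [MulAction ↥M24 α] {a : α}
    (h : ∀ g ∈ H, g • a = a) (hi : (MulAction.orbit ↥M24 a).ncard = H.index) :
    H = MulAction.stabilizer ↥M24 a :=
  GolayM23Index.eq_of_index (fun g hg => h g hg) (by rw [MulAction.index_stabilizer, hi])

theorem card_of_index {H : Subgroup ↥M24} {n : ℕ} (h : H.index = n) :
    Nat.card ↥H * n = 244823040 := by
  rw [← h, Subgroup.card_mul_index, card_M24]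

/-! ### orbits of standard objects -/

theorem exists_smul_set {k : ℕ} (hk : k ≤ 4) {s t : Finset GolayPt} (hs : s.card = k)
    (ht : t.card = k) : ∃ g : ↥M24, g • s = t := by
  classical
  obtain ⟨x, hx⟩ : ∃ x, x ∉ s ∪ t := by
    by_contra hc
    push Not at hc
    have := Finset.card_union_le s t
    rw [Finset.eq_univ_iff_forall.2 hc, Finset.card_univ, card_pts] at this
    omega
  rw [Finset.mem_union, not_or] at hx
  obtain ⟨g, hg⟩ := GolayM23Index.exists_smul_small hk hs ht hx.1 hx.2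
  exact ⟨(g : ↥M24), hg⟩

theorem ncard_orbit_set {k : ℕ} (hk : k ≤ 4) {s : Finset GolayPt} (hs : s.card = k) :
    (MulAction.orbit ↥M24 s).ncard = (24 : ℕ).choose k := by
  have e : MulAction.orbit ↥M24 s =
      ↑((Finset.univ : Finset GolayPt).powersetCard k) := by
    ext t
    rw [Finset.mem_coe, Finset.mem_powersetCard]
    constructor
    · rintro ⟨g, rfl⟩
      exact ⟨Finset.subset_univ _, (card_smul g s).trans hs⟩
    · exact fun h => exists_smul_set hk hs h.2
  rw [e, Set.ncard_coe_finset, Finset.card_powersetCard, Finset.card_univ, card_pts]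

theorem ncard_orbit_octad {o : Finset GolayPt} (ho : o ∈ octads) :
    (MulAction.orbit ↥M24 o).ncard = 759 := by
  rw [← ncard_octads]
  congr 1
  ext t
  constructor
  · rintro ⟨g, rfl⟩
    exact smul_mem_octads g.2 ho
  · intro ht
    obtain ⟨g, hg, e⟩ := exists_smul_eq_of_octads ho ht
    exact ⟨⟨g, hg⟩, e⟩

theorem ncard_orbit_trio {T : Finset (Finset GolayPt)} (hT : T ∈ trios) :
    (MulAction.orbit ↥M24 T).ncard = 3795 := by
  rw [← GolayOrbitThms.ncard_trios]
  congr 1
  ext t
  constructor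
  · rintro ⟨g, rfl⟩
    exact GolayOrbitThms.trios_inv g _ hT
  · intro ht
    obtain ⟨a, ha⟩ := GolayOrbitThms.exists_smul_trio hT
    obtain ⟨b, hb⟩ := GolayOrbitThms.exists_smul_trio ht
    exact ⟨b * a⁻¹, by subst ha; rw [← hb]; show (b * a⁻¹) • _ = _; rw [mul_smul, inv_smul_smul]⟩

theorem ncard_orbit_sextet {T : Finset (Finset GolayPt)} (hT : T ∈ sextets) :
    (MulAction.orbit ↥M24 T).ncard = 1771 := by
  rw [← GolayOrbitThms.ncard_sextets]
  congr 1
  ext t
  constructor
  · rintro ⟨g, rfl⟩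
    exact GolayOrbitThms.sextets_inv g _ hT
  · intro ht
    obtain ⟨a, ha⟩ := GolayOrbitThms.exists_smul_sextet hT
    obtain ⟨b, hb⟩ := GolayOrbitThms.exists_smul_sextet ht
    exact ⟨b * a⁻¹, by subst ha; rw [← hb]; show (b * a⁻¹) • _ = _; rw [mul_smul, inv_smul_smul]⟩

/-! ### the pointwise stabiliser of an octad -/

/-- the standard octad as a list -/
abbrev oct8 : List ℕ := [23, 0, 12, 14, 16, 17, 18, 22]

theorem mem_oct8 : ∀ p ∈ mset 13062145, idx p ∈ oct8 := by decide +kernel

/-- the pointwise stabiliser of the standard octad inside the Mathieu group -/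
def V8 : Subgroup ↥M24 := (fixList M24 oct8).subgroupOf M24

theorem V8_fix {v : ↥M24} (hv : v ∈ V8) {p : GolayPt} (hp : p ∈ mset 13062145) : v • p = p := by
  have := (mem_fixList.1 (Subgroup.mem_subgroupOf.1 hv)).2 _ (mem_oct8 p hp)
  rwa [pt_idx] at this

theorem V8_pGroup : IsPGroup 2 ↥V8 := by
  have hle : fixList M24 oct8 ≤ GolayM23Index.fix8 := fun g hg =>
    mem_fixList.2 ⟨(mem_fixList.1 hg).1, fun b hb => (mem_fixList.1 hg).2 b (by
      simp only [List.mem_cons, List.not_mem_nil, or_false] at hb ⊢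
      tauto)⟩
  have : Fact (Nat.Prime 2) := ⟨Nat.prime_two⟩
  have h1 : IsPGroup 2 ↥(fixList M24 oct8) :=
    (IsPGroup.of_card (n := 4) GolayM23Index.card_fix8).to_le hle
  exact h1.of_equiv (Subgroup.subgroupOfEquivOfLe fun g hg => (mem_fixList.1 hg).1).symm

theorem V8_trans : ∀ y ∈ mset 3715070, ∃ v ∈ V8, v • pt 1 = y := by
  intro y hy
  obtain ⟨g, hg, e⟩ := exists_of_tcheck (keep := 16777215) (fix := oct8) (b := 1) (O := 3715070)
    (ts := GolayData.tr24_6) (by norm_num) (by simp) (by decide +kernel) (H := M24)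
    (fun g hg _ => hg) y hy
  exact ⟨⟨g, (mem_fixList.1 hg).1⟩, Subgroup.mem_subgroupOf.2 hg, e⟩

/-- an octad whose pointwise stabiliser in `H` is transitive on the other points -/
def Frame (H : Subgroup ↥M24) (F : Finset GolayPt) (o : GolayPt) : Prop :=
  F ∈ octads ∧ o ∉ F ∧ ∀ q, q ∉ F → ∃ h ∈ H, (∀ p ∈ F, h • p = p) ∧ h • o = q

theorem exists_frame (H : Subgroup ↥M24) (hN : Odd H.index) : ∃ F o, Frame H F o := by
  have : Fact (Nat.Prime 2) := ⟨Nat.prime_two⟩
  obtain ⟨x, hx⟩ := V8_pGroup.nonempty_fixed_point_of_prime_not_dvd_card (↥M24 ⧸ H) (by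
    rw [← Subgroup.index_eq_card]
    exact hN.not_two_dvd_nat)
  induction x using QuotientGroup.induction_on with
  | H a =>
    have hVH : ∀ v ∈ V8, a⁻¹ * v * a ∈ H := fun v hv => by
      have h2 : ((v * a : ↥M24) : ↥M24 ⧸ H) = (a : ↥M24 ⧸ H) := hx ⟨v, hv⟩
      have h3 := QuotientGroup.eq.1 h2.symm
      rwa [← mul_assoc] at h3
    refine ⟨a⁻¹ • mset 13062145, a⁻¹ • pt 1, smul_mem_octads (a⁻¹).2 octad_five_mem, ?_, ?_⟩
    · rw [Finset.smul_mem_smul_finset_iff]
      decide +kernel
    · intro q hq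
      obtain ⟨v, hv, e⟩ := V8_trans (a • q) (by
        rw [show (3715070 : ℕ) = 16777215 ^^^ 13062145 by decide +kernel, mset_compl,
          Finset.mem_compl]
        intro h
        apply hq
        rw [← inv_smul_smul a q]
        exact Finset.smul_mem_smul_finset h)
      refine ⟨_, hVH v hv, ?_, ?_⟩
      · intro p hp
        obtain ⟨p', hp', rfl⟩ := Finset.mem_smul_finset.1 hp
        rw [mul_smul, mul_smul, smul_inv_smul, V8_fix hv hp']
      · rw [mul_smul, mul_smul, smul_inv_smul, e, inv_smul_smul]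

theorem Frame.big {H K : Subgroup ↥M24} {F : Finset GolayPt} {o : GolayPt} (hf : Frame H F o)
    (hK : ∀ h ∈ H, (∀ p ∈ F, h • p = p) → h ∈ K) : Fᶜ ⊆ orb K o := fun q hq => by
  obtain ⟨h, hh, hp, rfl⟩ := hf.2.2 q (Finset.mem_compl.1 hq)
  exact mem_orb.2 ⟨h, hK h hh hp, rfl⟩

theorem Frame.card_compl {H : Subgroup ↥M24} {F : Finset GolayPt} {o : GolayPt}
    (hf : Frame H F o) : Fᶜ.card = 16 := by
  rw [Finset.card_compl, card_pts, hf.1.2]

/-! ### the intransitive case, odd index -/

theorem intransitive {H : Subgroup ↥M24} {F : Finset GolayPt} {o : GolayPt} {N : ℕ}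
    (hN : H.index = N) (hN' : N = 253 ∨ N = 759 ∨ N = 1771) (hf : Frame H F o)
    (hO : orb H o ≠ Finset.univ) :
    N = 759 ∧ H = MulAction.stabilizer ↥M24 F := by
  classical
  set O := orb H o with hOdef
  have hsub : Fᶜ ⊆ O := hf.big fun h hh _ => hh
  have h16 : 16 ≤ O.card := hf.card_compl ▸ Finset.card_le_card hsub
  have h24 : O.card < 24 := card_pts ▸ (Finset.card_lt_iff_ne_univ O).2 hO
  have hdvd : O.card ∣ Nat.card ↥H := orb_dvd H o
  have hW : ∀ h ∈ H, h • Oᶜ = Oᶜ := fun h hh => smul_compl (smul_orb hh)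
  have hWF : Oᶜ ⊆ F := compl_le_iff_compl_le.1 hsub
  have hWc : Oᶜ.card = 24 - O.card := by rw [Finset.card_compl, card_pts]
  have hi : ∀ k, k ≤ 4 → Oᶜ.card = k → (24 : ℕ).choose k ∣ N := fun k hk hc => by
    rw [← ncard_orbit_set hk hc, ← hN]
    exact orb_dvd_index _ hW
  have hne17 : O.card ∈ [16, 18, 20, 21] := by
    have hc := card_of_index hN
    rcases hN' with rfl | rfl | rfl
    all_goals
      have : Nat.card ↥H = 967680 ∨ Nat.card ↥H = 322560 ∨ Nat.card ↥H = 138240 := by omega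
      rcases this with e | e | e <;> rw [e] at hdvd <;>
        interval_cases O.card <;> first | omega | norm_num at hdvd ⊢
  simp only [List.mem_cons, List.not_mem_nil, or_false] at hne17
  rcases hne17 with h | h | h | h
  · -- complement an octad
    have hWeq : Oᶜ = F := Finset.eq_of_subset_of_card_le hWF (by rw [hWc, h, hf.1.2])
    have hd : 759 ∣ N := by
      rw [← ncard_orbit_octad hf.1, ← hN, ← hWeq]
      exact orb_dvd_index _ hW
    have h759 : N = 759 := by rcases hN' with rfl | rfl | rfl <;> omega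
    refine ⟨h759, eq_stab (fun g hg => hWeq ▸ hW g hg) ?_⟩
    rw [ncard_orbit_octad hf.1, hN, h759]
  · -- six points
    exfalso
    have hW6 : Oᶜ.card = 6 := by omega
    have hFinv : ∀ g ∈ H, g • F = F := fun g hg => by
      refine GolaySteiner.octad_eq_of_five (smul_mem_octads g.2 hf.1) hf.1 (s := Oᶜ) (by omega)
        ?_ hWF
      conv_lhs => rw [← hW g hg]
      exact Finset.smul_finset_subset_smul_finset hWF
    have hd : 759 ∣ N := by
      rw [← ncard_orbit_octad hf.1, ← hN]
      exact orb_dvd_index _ hFinv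
    have h759 : N = 759 := by rcases hN' with rfl | rfl | rfl <;> omega
    have heq : H = MulAction.stabilizer ↥M24 F :=
      eq_stab hFinv (by rw [ncard_orbit_octad hf.1, hN, h759])
    obtain ⟨w, hw⟩ : Oᶜ.Nonempty := Finset.card_pos.1 (by omega)
    obtain ⟨z, hz⟩ : (F \ Oᶜ).Nonempty := Finset.card_pos.1 (by
      rw [Finset.card_sdiff_of_subset hWF, hf.1.2, hW6]; norm_num)
    rw [Finset.mem_sdiff] at hz
    have hwz : w ≠ z := fun e => hz.2 (e ▸ hw)
    obtain ⟨a, ha, hao, ha0, -⟩ := GolayHeptad.exists_frame_in hf.1 (hWF hw) hz.1 hwz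
    obtain ⟨b, hb, hbo, hb0, -⟩ := GolayHeptad.exists_frame_in hf.1 hz.1 (hWF hw) hwz.symm
    let g : ↥M24 := ⟨b * a⁻¹, mul_mem hb (inv_mem ha)⟩
    have hgH : g ∈ H := by
      rw [heq, MulAction.mem_stabilizer_iff]
      show (b * a⁻¹) • F = F
      rw [mul_smul, inv_smul_eq_iff.2 hao.symm, hbo]
    have : g • w ∈ Oᶜ := by
      rw [← hW g hgH]
      exact Finset.smul_mem_smul_finset hw
    apply hz.2
    have e : g • w = z := by
      show (b * a⁻¹) w = z
      rw [Equiv.Perm.mul_apply, ← ha0, Equiv.Perm.inv_def, Equiv.symm_apply_apply, hb0]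
    rwa [e] at this
  · exfalso
    have := hi 4 le_rfl (by omega)
    rw [show (24 : ℕ).choose 4 = 10626 by decide] at this
    rcases hN' with rfl | rfl | rfl <;> omega
  · exfalso
    have := hi 3 (by norm_num) (by omega)
    rw [show (24 : ℕ).choose 3 = 2024 by decide] at this
    rcases hN' with rfl | rfl | rfl <;> omega

/-! ### the transitive case, odd index -/

/-- a part with the arithmetic -/
theorem orbit_arith {t k R M : ℕ} (ht : t = 3 ∨ t = 4 ∨ t = 6 ∨ t = 8) (hk : k < t) (hk0 : 0 < k)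
    (hM : M + t = 24) (h16 : 16 ≤ R) (hR : R ≤ M) (hd : M ∣ k * R) : R = M := by
  rcases ht with rfl | rfl | rfl | rfl
  all_goals
    obtain rfl : M = 24 - _ := (Nat.eq_sub_of_add_eq hM)
    interval_cases k <;> omega

/-- orbits of a fixed point stabiliser: one big one -/
theorem orb_unique {K : Subgroup ↥M24} {p q : GolayPt} (hp : 16 ≤ (orb K p).card)
    (hq : 16 ≤ (orb K q).card) : orb K p = orb K q := by
  by_contra hne
  have hd : Disjoint (orb K p) (orb K q) := by
    rw [Finset.disjoint_left]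
    intro r h1 h2
    exact hne ((orb_eq_of_mem h1).symm.trans (orb_eq_of_mem h2))
  have := Finset.card_le_univ (orb K p ∪ orb K q)
  rw [Finset.card_union_of_disjoint hd, card_pts] at this
  omega

theorem stH_smul {H : Subgroup ↥M24} {a : ↥M24} (ha : a ∈ H) {x q : GolayPt} :
    orb (stH H (a • x)) (a • q) = a • orb (stH H x) q := by
  ext r
  rw [Finset.mem_smul_finset, mem_orb]
  constructor
  · rintro ⟨b, hb, rfl⟩
    rw [mem_stH] at hb
    refine ⟨(a⁻¹ * b * a) • q, mem_orb.2 ⟨_, mem_stH.2 ⟨mul_mem (mul_mem (inv_mem ha) hb.1) ha, ?_⟩,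
      rfl⟩, ?_⟩
    · rw [mul_smul, mul_smul, hb.2, inv_smul_smul]
    · rw [mul_smul, mul_smul, smul_inv_smul]
  · rintro ⟨s, hs, rfl⟩
    obtain ⟨b, hb, rfl⟩ := mem_orb.1 hs
    rw [mem_stH] at hb
    refine ⟨a * b * a⁻¹, mem_stH.2 ⟨mul_mem (mul_mem ha hb.1) (inv_mem ha), ?_⟩, ?_⟩
    · rw [mul_smul, mul_smul, inv_smul_smul, hb.2]
    · rw [mul_smul, mul_smul, inv_smul_smul]

theorem transitive {H : Subgroup ↥M24} {F : Finset GolayPt} {o : GolayPt} {N : ℕ}
    (hN : H.index = N) (hN' : N = 253 ∨ N = 759 ∨ N = 1771) (hf : Frame H F o)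
    (hO : orb H o = Finset.univ) :
    N = 1771 ∧ ∃ S ∈ sextets, H = MulAction.stabilizer ↥M24 S := by
  classical
  have htr : ∀ x y : GolayPt, ∃ a ∈ H, a • x = y := fun x y => by
    have hx : x ∈ orb H o := by rw [hO]; exact Finset.mem_univ _
    have hy : y ∈ orb H x := by rw [orb_eq_of_mem hx, hO]; exact Finset.mem_univ _
    exact mem_orb.1 hy
  have hcard : ∀ x, Nat.card ↥(stH H x) * 24 = Nat.card ↥H := fun x => by
    have hx : x ∈ orb H o := by rw [hO]; exact Finset.mem_univ _
    rw [← orb_mul H x, orb_eq_of_mem hx, hO, Finset.card_univ, card_pts, mul_comm]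
  -- the big orbit
  have hBF : ∀ x ∈ F, Fᶜ ⊆ orb (stH H x) o := fun x hx =>
    hf.big fun h hh hp => mem_stH.2 ⟨hh, hp x hx⟩
  have hBF16 : ∀ x ∈ F, 16 ≤ (orb (stH H x) o).card := fun x hx =>
    hf.card_compl ▸ Finset.card_le_card (hBF x hx)
  obtain ⟨x₀, hx₀⟩ : F.Nonempty := Finset.card_pos.1 (by rw [hf.1.2]; norm_num)
  have hex : ∀ x, ∃ q, 16 ≤ (orb (stH H x) q).card := fun x => by
    obtain ⟨a, ha, rfl⟩ := htr x₀ x
    exact ⟨a • o, by rw [stH_smul ha, card_smul]; exact hBF16 x₀ hx₀⟩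
  choose qf hqf using hex
  set big : GolayPt → Finset GolayPt := fun x => orb (stH H x) (qf x) with hbig
  have hbigeq : ∀ x q, 16 ≤ (orb (stH H x) q).card → big x = orb (stH H x) q :=
    fun x q hq => orb_unique (hqf x) hq
  have hbige : ∀ a ∈ H, ∀ x, big (a • x) = a • big x := fun a ha x => by
    rw [hbigeq (a • x) (a • qf x) (by rw [stH_smul ha, card_smul]; exact hqf x), stH_smul ha]
  have hcardeq : ∀ x y, (big x).card = (big y).card := fun x y => by
    obtain ⟨a, ha, rfl⟩ := htr x y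
    rw [hbige a ha, card_smul]
  set M := (big x₀).card with hM
  have hMdvd : M ∣ Nat.card ↥(stH H x₀) := orb_dvd _ _
  have hM16 : 16 ≤ M := hqf x₀
  have hxb : ∀ x, x ∉ big x := fun x hx => by
    have e := orb_stH_self H x hx
    have := hqf x
    have h1 : orb (stH H x) (qf x) ⊆ {x} := fun r hr => by
      obtain ⟨b, hb, rfl⟩ := mem_orb.1 hr
      rw [e, (mem_stH.1 hb).2, Finset.mem_singleton]
    have h2 := Finset.card_le_card h1
    rw [Finset.card_singleton] at h2
    omega
  have hM23 : M < 24 := card_pts ▸ (Finset.card_lt_iff_ne_univ _).2 fun h =>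
    hxb x₀ (h ▸ Finset.mem_univ _)
  -- the possible part sizes
  set T : GolayPt → Finset GolayPt := fun x => (big x)ᶜ with hT
  set t := 24 - M with ht
  have hTc : ∀ x, (T x).card = t := fun x => by
    rw [hT, Finset.card_compl, card_pts, hcardeq x x₀]
  have hTs : ∀ x, x ∈ T x := fun x => Finset.mem_compl.2 (hxb x)
  have hTe : ∀ a ∈ H, ∀ x, T (a • x) = a • T x := fun a ha x => by
    simp only [hT, hbige a ha]
    rw [Finset.compl_eq_univ_sdiff, Finset.compl_eq_univ_sdiff, Finset.smul_finset_sdiff,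
      Finset.smul_finset_univ]
  have htv : t = 3 ∨ t = 4 ∨ t = 6 ∨ t = 8 := by
    have hc := card_of_index hN
    have h1 := hcard x₀
    have : Nat.card ↥(stH H x₀) = 40320 ∨ Nat.card ↥(stH H x₀) = 13440 ∨
        Nat.card ↥(stH H x₀) = 5760 := by
      rcases hN' with rfl | rfl | rfl <;> omega
    rcases this with e | e | e <;> rw [e] at hMdvd <;> interval_cases M <;> omega
  -- parts inside the octad
  have hTF : ∀ x ∈ F, T x ⊆ F := fun x hx => by
    rw [hT]
    dsimp only
    refine compl_le_iff_compl_le.1 ?_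
    rw [hbigeq x o (hBF16 x hx)]
    exact hBF x hx
  have hclF : ∀ x ∈ F, ∀ z ∈ T x, T z = T x := by
    intro x hx z hz
    rcases eq_or_ne z x with rfl | hzx
    · rfl
    have hzF := hTF x hx hz
    set K := stH (stH H x) z with hK
    have hb : big x = orb (stH H x) o := hbigeq x o (hBF16 x hx)
    have hR1 : orb K o ⊆ big x := hb ▸ orb_mono inf_le_left o
    have hKz : K ≤ stH H z := fun g hg => by
      rw [hK, mem_stH, mem_stH] at hg
      exact mem_stH.2 ⟨hg.1.1, hg.2⟩
    have hR2 : orb K o ⊆ big z := by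
      rw [hbigeq z o (hBF16 z hzF)]
      exact orb_mono hKz o
    have hR16 : 16 ≤ (orb K o).card := hf.card_compl ▸ Finset.card_le_card (hf.big fun h hh hp =>
      mem_stH.2 ⟨mem_stH.2 ⟨hh, hp x hx⟩, hp z hzF⟩)
    set k := (orb (stH H x) z).card with hk
    have hkt : k < t := by
      have hsub : orb (stH H x) z ⊆ (T x).erase x := fun r hr => by
        rw [Finset.mem_erase]
        refine ⟨fun e => hzx (orb_stH_self H x (e ▸ hr)), ?_⟩
        simp only [hT, Finset.mem_compl]
        intro hrb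
        refine Finset.mem_compl.1 hz ?_
        rw [← show orb (stH H x) r = big x from orb_eq_of_mem hrb, orb_eq_of_mem hr]
        exact self_mem_orb _ _
      have := Finset.card_le_card hsub
      rw [Finset.card_erase_of_mem (hTs x), hTc] at this
      have : 0 < t := by omega
      omega
    have hk0 : 0 < k := Finset.card_pos.2 ⟨z, self_mem_orb _ _⟩
    have hd : M ∣ k * (orb K o).card := by
      have e1 := orb_mul (stH H x) o
      rw [← hb, hcardeq x x₀, ← hM] at e1
      have e2 := orb_mul (stH H x) z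
      rw [← hk, ← hK, ← orb_mul K o, ← e1] at e2
      have hle : stH K o ≤ stH (stH H x) o := fun g hg => by
        rw [mem_stH] at hg
        rw [hK, mem_stH] at hg
        exact mem_stH.2 ⟨hg.1.1, hg.2⟩
      obtain ⟨m, hm⟩ := Subgroup.card_dvd_of_le hle
      rw [hm, ← mul_assoc, mul_comm (k * _), mul_left_comm M] at e2
      exact ⟨m, Nat.eq_of_mul_eq_mul_left Nat.card_pos e2⟩
    have hRM : (orb K o).card = M := orbit_arith htv hkt hk0 (by omega) hR16
      ((Finset.card_le_card hR1).trans (hcardeq x x₀).le) hd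
    have e : orb K o = big x :=
      Finset.eq_of_subset_of_card_le hR1 (by rw [hRM, hcardeq x x₀])
    have e' : orb K o = big z :=
      Finset.eq_of_subset_of_card_le hR2 (by rw [hRM, hcardeq z x₀])
    simp only [hT, ← e, ← e']
  have hcl : ∀ y, ∀ z ∈ T y, T z = T y := fun y z hz => by
    obtain ⟨a, ha, rfl⟩ := htr x₀ y
    rw [hTe a ha] at hz
    obtain ⟨w, hw, rfl⟩ := Finset.mem_smul_finset.1 hz
    rw [hTe a ha, hTe a ha, hclF x₀ hx₀ w hw]
  -- the parts
  have hfib : ∀ (U : Finset GolayPt), (∀ x ∈ U, T x ⊆ U) → U.card = (U.image T).card * t := by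
    intro U hU
    rw [Finset.card_eq_sum_card_image T U]
    have : ∀ S ∈ U.image T, (U.filter fun x => T x = S).card = t := by
      intro S hS
      obtain ⟨x, hx, rfl⟩ := Finset.mem_image.1 hS
      rw [← hTc x]
      congr 1
      ext z
      rw [Finset.mem_filter]
      exact ⟨fun h => h.2 ▸ hTs z, fun h => ⟨hU x hx h, hcl x z h⟩⟩
    rw [Finset.sum_congr rfl this, Finset.sum_const, smul_eq_mul]
  set 𝒯 := Finset.univ.image T with h𝒯
  have hcard𝒯 : 24 = 𝒯.card * t := by
    rw [← hfib Finset.univ (fun _ _ => Finset.subset_univ _), Finset.card_univ, card_pts]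
  have h𝒯inv : ∀ a ∈ H, a • 𝒯 = 𝒯 := fun a ha => by
    refine Finset.eq_of_subset_of_card_le (fun S hS => ?_) ?_
    · obtain ⟨S', hS', rfl⟩ := Finset.mem_smul_finset.1 hS
      obtain ⟨x, -, rfl⟩ := Finset.mem_image.1 hS'
      exact Finset.mem_image.2 ⟨a • x, Finset.mem_univ _, hTe a ha x⟩
    · exact (Finset.card_smul_finset (a : Equiv.Perm GolayPt) 𝒯).ge
  have hdisj : ∀ x y, T x ≠ T y → Disjoint (T x) (T y) := fun x y hne => by
    rw [Finset.disjoint_left]
    intro z h1 h2
    exact hne ((hcl x z h1).symm.trans (hcl y z h2))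
  have ht8 : t = 4 ∨ t = 8 := by
    have h8 := hfib F hTF
    rw [hf.1.2] at h8
    rcases htv with h | h | h | h <;> rw [h] at h8 <;> omega
  rcases ht8 with ht4 | ht8
  · -- six tetrads
    have h6 : 𝒯.card = 6 := by rw [ht4] at hcard𝒯; omega
    have hB4 : (T x₀).card = 4 := (hTc x₀).trans ht4
    -- stabiliser of a tetrad
    set HB := H ⊓ MulAction.stabilizer ↥M24 (T x₀) with hHB
    have hind : HB.index = 6 * N := by
      have horb : MulAction.orbit H (T x₀) = (𝒯 : Set (Finset GolayPt)) := by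
        ext S
        rw [Finset.mem_coe]
        constructor
        · rintro ⟨⟨a, ha⟩, rfl⟩
          exact Finset.mem_image.2 ⟨a • x₀, Finset.mem_univ _, hTe a ha x₀⟩
        · intro hS
          obtain ⟨y, -, rfl⟩ := Finset.mem_image.1 hS
          obtain ⟨a, ha, rfl⟩ := htr x₀ y
          exact ⟨⟨a, ha⟩, (hTe a ha x₀).symm⟩
      have hrel : HB.relIndex H = 6 := by
        have e : HB.subgroupOf H = MulAction.stabilizer H (T x₀) := by
          ext g
          rw [Subgroup.mem_subgroupOf, hHB, Subgroup.mem_inf, MulAction.mem_stabilizer_iff,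
            MulAction.mem_stabilizer_iff]
          exact ⟨fun h => h.2, fun h => ⟨g.2, h⟩⟩
        rw [Subgroup.relIndex, e, MulAction.index_stabilizer, horb, Set.ncard_coe_finset, h6]
      rw [← Subgroup.relIndex_mul_index (show HB ≤ H from inf_le_left), hrel, hN]
    have hd := orb_dvd_index (H := HB) (T x₀) fun g hg => (Subgroup.mem_inf.1 hg).2
    rw [ncard_orbit_set le_rfl hB4, hind, show (24 : ℕ).choose 4 = 10626 by decide] at hd
    have hN1771 : N = 1771 := by rcases hN' with rfl | rfl | rfl <;> omega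
    refine ⟨hN1771, 𝒯, ?_⟩
    -- the octad through the first tetrad
    have hFx : T x₀ ⊆ F := hTF x₀ hx₀
    obtain ⟨z, hz⟩ : (F \ T x₀).Nonempty := Finset.card_pos.1 (by
      rw [Finset.card_sdiff_of_subset hFx, hf.1.2, hB4]; norm_num)
    rw [Finset.mem_sdiff] at hz
    have hne : T x₀ ≠ T z := fun e => hz.2 (e ▸ hTs z)
    have hun : T x₀ ∪ T z = F := Finset.eq_of_subset_of_card_le
      (Finset.union_subset hFx (hTF z hz.1)) (by
        rw [Finset.card_union_of_disjoint (hdisj _ _ hne), hTc, hTc, hf.1.2, ht4])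
    have hB : ∀ y, T y ≠ T x₀ → T x₀ ∪ T y ∈ octads := fun y hy => by
      have hyb : y ∈ big x₀ := by
        by_contra h
        exact hy (hcl x₀ y (Finset.mem_compl.2 h))
      have hzb : z ∈ big x₀ := by
        by_contra h
        exact hz.2 (Finset.mem_compl.2 h)
      have : y ∈ orb (stH H x₀) z := by
        rw [show orb (stH H x₀) z = big x₀ from orb_eq_of_mem hzb]
        exact hyb
      obtain ⟨a, ha, rfl⟩ := mem_orb.1 this
      rw [mem_stH] at ha
      have e : a • T x₀ = T x₀ := by rw [← hTe a ha.1, ha.2]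
      rw [hTe a ha.1, ← e, ← Finset.smul_finset_union, hun]
      exact smul_mem_octads a.2 hf.1
    have hS : 𝒯 ∈ sextets := by
      refine ⟨h6, fun S hS => ?_, fun S hS U hU hSU => ?_⟩
      · obtain ⟨y, -, rfl⟩ := Finset.mem_image.1 hS
        exact (hTc y).trans ht4
      · obtain ⟨y, -, rfl⟩ := Finset.mem_image.1 hS
        obtain ⟨w, -, rfl⟩ := Finset.mem_image.1 hU
        obtain ⟨a, ha, rfl⟩ := htr x₀ y
        have e : T w = a • T (a⁻¹ • w) := by rw [← hTe a ha, smul_inv_smul]
        rw [hTe a ha, e, ← Finset.smul_finset_union]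
        refine smul_mem_octads a.2 (hB _ fun h => hSU ?_)
        rw [hTe a ha, e, h]
    exact ⟨hS, eq_stab h𝒯inv (by rw [ncard_orbit_sextet hS, hN, hN1771])⟩
  · -- three octads
    exfalso
    have hoct : ∀ y, T y ∈ octads := fun y => by
      obtain ⟨a, ha, rfl⟩ := htr x₀ y
      have e : T x₀ = F :=
        Finset.eq_of_subset_of_card_le (hTF x₀ hx₀) (by rw [hTc, ht8, hf.1.2])
      rw [hTe a ha, e]
      exact smul_mem_octads a.2 hf.1
    have h3 : 𝒯 ∈ trios := by
      refine ⟨by rw [ht8] at hcard𝒯; omega, fun S hS => ?_, fun S hS U hU hSU => ?_⟩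
      · obtain ⟨y, -, rfl⟩ := Finset.mem_image.1 hS
        exact hoct y
      · obtain ⟨y, -, rfl⟩ := Finset.mem_image.1 hS
        obtain ⟨w, -, rfl⟩ := Finset.mem_image.1 hU
        exact hdisj y w hSU
    have hd := orb_dvd_index 𝒯 h𝒯inv
    rw [ncard_orbit_trio h3, hN] at hd
    rcases hN' with rfl | rfl | rfl <;> omega

/-- subgroups of odd index among the three -/
theorem odd_index {H : Subgroup ↥M24} {N : ℕ} (hN : H.index = N)
    (hN' : N = 253 ∨ N = 759 ∨ N = 1771) :
    (N = 759 ∧ ∃ o ∈ octads, H = MulAction.stabilizer ↥M24 o) ∨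
      (N = 1771 ∧ ∃ S ∈ sextets, H = MulAction.stabilizer ↥M24 S) := by
  obtain ⟨F, o, hf⟩ := exists_frame H (by
    rw [hN]; rcases hN' with rfl | rfl | rfl <;> decide)
  by_cases hO : orb H o = Finset.univ
  · exact Or.inr (transitive hN hN' hf hO)
  · obtain ⟨h, e⟩ := intransitive hN hN' hf hO
    exact Or.inl ⟨h, F, hf.1, e⟩

/-! ### index 276 -/

/-- the fixed points -/
def fixF (g : Equiv.Perm GolayPt) : Finset GolayPt := Finset.univ.filter fun p => g p = p

theorem fixF_mono {a b : Equiv.Perm GolayPt} (h : a ∈ Subgroup.zpowers b) : fixF b ⊆ fixF a := by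
  intro p hp
  obtain ⟨n, rfl⟩ := Subgroup.mem_zpowers_iff.1 h
  rw [fixF, Finset.mem_filter] at hp ⊢
  exact ⟨hp.1, Function.IsFixedPt.perm_zpow hp.2 n⟩

theorem fix_seven {g : ↥M24} (h : orderOf g = 7) : (fixF (g : Equiv.Perm GolayPt)).card = 3 := by
  obtain ⟨r, hr, k, hk⟩ := GolayClasses.exists_conj_seven g.2 (by rw [Subgroup.orderOf_coe, h])
  rw [fixF, ← GolayClasses.card_fixed_conj (k : Equiv.Perm GolayPt), hk,
    GolayClasses.card_fixed_permOf (valid_of_good (GolayClasses.valid_reps r (by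
      simp at hr ⊢; tauto)))]
  simp only [List.mem_cons, List.not_mem_nil, or_false] at hr
  rcases hr with rfl | rfl <;> decide +kernel

theorem fix_eleven {g : ↥M24} (h : orderOf g = 11) : (fixF (g : Equiv.Perm GolayPt)).card = 2 := by
  have : Fact (Nat.Prime 11) := ⟨by norm_num⟩
  have hv := valid_of_good GolaySimple.z11_good.1
  let z : ↥M24 := ⟨permOf GolaySimple.z11, permOf_mem_M24 GolaySimple.z11_good.1⟩
  have hz : orderOf z = 11 := by
    rw [← Subgroup.orderOf_coe]
    exact GolayNormalizer.orderOf_eq (a := 1) (by norm_num) GolaySimple.table11 (by decide +kernel)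
      (by norm_num)
  have hfac : (244823040 : ℕ).factorization 11 = 1 := by
    rw [show (244823040 : ℕ) = 11 ^ 1 * 22256640 by norm_num,
      Nat.factorization_mul (by norm_num) (by norm_num)]
    simp [Nat.Prime.factorization_self (show Nat.Prime 11 by norm_num),
      Nat.factorization_eq_zero_of_not_dvd (show ¬ 11 ∣ 22256640 by norm_num)]
  let P : Sylow 11 ↥M24 := Sylow.ofCard (Subgroup.zpowers g) (by
    rw [Nat.card_zpowers, h, card_M24, hfac, pow_one])
  let Q : Sylow 11 ↥M24 := Sylow.ofCard (Subgroup.zpowers z) (by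
    rw [Nat.card_zpowers, hz, card_M24, hfac, pow_one])
  obtain ⟨k, hk⟩ := MulAction.exists_smul_eq ↥M24 Q P
  have h1 : MulAut.conj k z ∈ Subgroup.zpowers g := by
    have : MulAut.conj k z ∈ ((k • Q : Sylow 11 ↥M24) : Subgroup ↥M24) := by
      rw [Sylow.coe_subgroup_smul, Sylow.coe_ofCard]
      exact Subgroup.smul_mem_pointwise_smul _ _ _ (Subgroup.mem_zpowers z)
    rwa [hk, Sylow.coe_ofCard] at this
  have hord : orderOf (MulAut.conj k z) = 11 :=
    ((MulAut.conj k).orderOf_eq z).trans hz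
  have h2 : g ∈ Subgroup.zpowers (MulAut.conj k z) := by
    have e : Subgroup.zpowers (MulAut.conj k z) = Subgroup.zpowers g :=
      Subgroup.eq_of_le_of_card_ge (Subgroup.zpowers_le.2 h1) (by
        rw [Nat.card_zpowers, Nat.card_zpowers, hord, h])
    rw [e]
    exact Subgroup.mem_zpowers g
  have hcoe : ∀ {a b : ↥M24}, a ∈ Subgroup.zpowers b →
      (a : Equiv.Perm GolayPt) ∈ Subgroup.zpowers (b : Equiv.Perm GolayPt) := by
    intro a b hab
    obtain ⟨n, rfl⟩ := Subgroup.mem_zpowers_iff.1 hab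
    exact Subgroup.mem_zpowers_iff.2 ⟨n, by norm_cast⟩
  have e : fixF (g : Equiv.Perm GolayPt) = fixF ((MulAut.conj k z : ↥M24) : Equiv.Perm GolayPt) :=
    le_antisymm (fixF_mono (hcoe h1)) (fixF_mono (hcoe h2))
  rw [e, show ((MulAut.conj k z : ↥M24) : Equiv.Perm GolayPt) =
    (k : Equiv.Perm GolayPt) * permOf GolaySimple.z11 * (k : Equiv.Perm GolayPt)⁻¹ from rfl, fixF,
    GolayClasses.card_fixed_conj, GolayClasses.card_fixed_permOf hv]
  decide +kernel

theorem invariant_mod {g : ↥M24} {p : ℕ} (hp : p.Prime) (hg : orderOf g = p)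
    {W : Finset GolayPt} (hW : g • W = W) :
    (W ∩ fixF (g : Equiv.Perm GolayPt)).card ≡ W.card [MOD p] := by
  classical
  have : Fact p.Prime := ⟨hp⟩
  have hiff : ∀ q : GolayPt, (g : Equiv.Perm GolayPt) q ∈ W ↔ q ∈ W := fun q => by
    conv_lhs => rw [← hW]
    exact Finset.smul_mem_smul_finset_iff g
  let σ : Equiv.Perm {q // q ∈ W} := (g : Equiv.Perm GolayPt).subtypePerm hiff
  have hσ : σ ^ p ^ 1 = 1 := by
    rw [pow_one, Equiv.Perm.subtypePerm_pow]
    refine Equiv.ext fun ⟨q, hq⟩ => Subtype.ext ?_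
    rw [Equiv.Perm.subtypePerm_apply, Equiv.Perm.one_apply]
    show ((g : Equiv.Perm GolayPt) ^ p) q = q
    rw [← SubgroupClass.coe_pow, ← hg, pow_orderOf_eq_one]
    rfl
  have h := Equiv.Perm.card_compl_support_modEq hσ
  have hc : σ.supportᶜ.card = (W ∩ fixF (g : Equiv.Perm GolayPt)).card := by
    refine (Finset.card_map (Function.Embedding.subtype (· ∈ W))).symm.trans (congrArg _ ?_)
    ext q
    simp only [Finset.mem_map, Finset.mem_compl, Equiv.Perm.mem_support, not_not, Finset.mem_inter,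
      fixF, Finset.mem_filter, Finset.mem_univ, true_and, Function.Embedding.coe_subtype]
    constructor
    · rintro ⟨⟨r, hr⟩, he, rfl⟩
      exact ⟨hr, congrArg Subtype.val he⟩
    · rintro ⟨hq, he⟩
      exact ⟨⟨q, hq⟩, Subtype.ext he, rfl⟩
  rw [hc, Fintype.card_coe] at h
  exact h

theorem invariant_sizes {K : Subgroup ↥M24} (h7 : 7 ∣ Nat.card ↥K) (h11 : 11 ∣ Nat.card ↥K)
    {W : Finset GolayPt} (hW : ∀ g ∈ K, g • W = W) :
    W.card ∈ [0, 1, 2, 11, 12, 13, 22, 23, 24] ∧ W.card ∈ [0, 1, 2, 3, 7, 8, 9, 10, 14, 15, 16,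
      17, 21, 22, 23, 24] := by
  classical
  have hle : W.card ≤ 24 := card_pts ▸ Finset.card_le_univ W
  constructor
  · have : Fact (Nat.Prime 11) := ⟨by norm_num⟩
    obtain ⟨g, hg⟩ := exists_prime_orderOf_dvd_card' 11 h11
    have hg' : orderOf (g : ↥M24) = 11 := (Subgroup.orderOf_coe g).trans hg
    have h := invariant_mod (by norm_num) hg' (hW g g.2)
    have h2 : (W ∩ fixF ((g : ↥M24) : Equiv.Perm GolayPt)).card ≤ 2 :=
      (Finset.card_le_card Finset.inter_subset_right).trans (fix_eleven hg').le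
    simp only [List.mem_cons, List.not_mem_nil, or_false]
    unfold Nat.ModEq at h
    omega
  · have : Fact (Nat.Prime 7) := ⟨by norm_num⟩
    obtain ⟨g, hg⟩ := exists_prime_orderOf_dvd_card' 7 h7
    have hg' : orderOf (g : ↥M24) = 7 := (Subgroup.orderOf_coe g).trans hg
    have h := invariant_mod (by norm_num) hg' (hW g g.2)
    have h2 : (W ∩ fixF ((g : ↥M24) : Equiv.Perm GolayPt)).card ≤ 3 :=
      (Finset.card_le_card Finset.inter_subset_right).trans (fix_seven hg').le
    simp only [List.mem_cons, List.not_mem_nil, or_false]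
    unfold Nat.ModEq at h
    omega

/-- a group with elements of orders seven and eleven has an orbit of 22, 23 or 24 points -/
theorem exists_big {K : Subgroup ↥M24} (h7 : 7 ∣ Nat.card ↥K) (h11 : 11 ∣ Nat.card ↥K)
    (h23 : ¬ 23 ∣ Nat.card ↥K) :
    ∃ q, (orb K q).card = 22 ∨ (orb K q).card = 24 := by
  classical
  have : Fact (Nat.Prime 11) := ⟨by norm_num⟩
  obtain ⟨g, hg⟩ := exists_prime_orderOf_dvd_card' 11 h11
  have hg' : orderOf (g : ↥M24) = 11 := (Subgroup.orderOf_coe g).trans hg
  obtain ⟨q, hq⟩ : ∃ q, q ∉ fixF ((g : ↥M24) : Equiv.Perm GolayPt) := by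
    by_contra hc
    push Not at hc
    have := fix_eleven hg'
    rw [Finset.eq_univ_iff_forall.2 hc, Finset.card_univ, card_pts] at this
    omega
  refine ⟨q, ?_⟩
  have hinv : ∀ a ∈ K, a • orb K q = orb K q := fun a ha => smul_orb ha
  obtain ⟨h1, h2⟩ := invariant_sizes h7 h11 hinv
  have h := invariant_mod (by norm_num) hg' (hinv g g.2)
  have hlt : (orb K q ∩ fixF ((g : ↥M24) : Equiv.Perm GolayPt)).card < (orb K q).card :=
    Finset.card_lt_card ⟨Finset.inter_subset_left, fun hs =>
      hq (Finset.mem_inter.1 (hs (self_mem_orb K q))).2⟩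
  have hne : (orb K q).card ≠ 23 := fun e => h23 (e ▸ orb_dvd K q)
  simp only [List.mem_cons, List.not_mem_nil, or_false] at h1 h2
  unfold Nat.ModEq at h
  omega

theorem index_276 {H : Subgroup ↥M24} (hN : H.index = 276) :
    ∃ s : Finset GolayPt, s.card = 2 ∧ H = MulAction.stabilizer ↥M24 s := by
  classical
  have hc : Nat.card ↥H = 887040 := by
    have := card_of_index hN
    omega
  obtain ⟨q, hq | hq⟩ := exists_big (K := H) (by rw [hc]; norm_num) (by rw [hc]; norm_num)
    (by rw [hc]; norm_num)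
  · have h2 : (orb H q)ᶜ.card = 2 := by rw [Finset.card_compl, card_pts, hq]
    refine ⟨_, h2, eq_stab (fun g hg => smul_compl (smul_orb hg)) ?_⟩
    rw [ncard_orbit_set (by norm_num) h2, hN]
    decide
  · exfalso
    have hO : orb H q = Finset.univ :=
      Finset.eq_univ_of_card _ (by rw [hq, card_pts])
    have htr : ∀ x y : GolayPt, ∃ a ∈ H, a • x = y := fun x y => by
      have hx : x ∈ orb H q := by rw [hO]; exact Finset.mem_univ _
      have hy : y ∈ orb H x := by rw [orb_eq_of_mem hx, hO]; exact Finset.mem_univ _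
      exact mem_orb.1 hy
    have hst : ∀ x, Nat.card ↥(stH H x) = 36960 := fun x => by
      have hx : x ∈ orb H q := by rw [hO]; exact Finset.mem_univ _
      have := orb_mul H x
      rw [orb_eq_of_mem hx, hq, hc] at this
      omega
    have hpartner : ∀ x, ∃ y, y ≠ x ∧ (∀ g ∈ stH H x, g • y = y) ∧
        ∀ y', y' ≠ x → (∀ g ∈ stH H x, g • y' = y') → y' = y := by
      intro x
      obtain ⟨r, hr | hr⟩ := exists_big (K := stH H x) (by rw [hst]; norm_num)
        (by rw [hst]; norm_num) (by rw [hst]; norm_num)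
      · have hx : x ∉ orb (stH H x) r := fun h => by
          have := orb_stH_self H x h
          subst this
          have h1 : orb (stH H r) r ⊆ {r} := fun w hw => by
            obtain ⟨b, hb, rfl⟩ := mem_orb.1 hw
            rw [(mem_stH.1 hb).2, Finset.mem_singleton]
          have := Finset.card_le_card h1
          rw [Finset.card_singleton] at this
          omega
        have h2 : (orb (stH H x) r)ᶜ.card = 2 := by rw [Finset.card_compl, card_pts, hr]
        obtain ⟨y, hy, hyx⟩ := Finset.exists_mem_ne (show 1 < _ by rw [h2]; norm_num) x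
        have hpair : (orb (stH H x) r)ᶜ = {x, y} := by
          symm
          refine Finset.eq_of_subset_of_card_le ?_ (by rw [h2, Finset.card_pair hyx.symm])
          rw [Finset.insert_subset_iff, Finset.singleton_subset_iff]
          exact ⟨Finset.mem_compl.2 hx, hy⟩
        refine ⟨y, hyx, fun g hg => ?_, fun y' hy'x hy' => ?_⟩
        · have := Finset.smul_mem_smul_finset (a := g) hy
          rw [smul_compl (smul_orb hg), hpair, Finset.mem_insert, Finset.mem_singleton] at this
          refine this.resolve_left fun e => hyx ?_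
          exact MulAction.injective g (e.trans (mem_stH.1 hg).2.symm)
        · by_contra hne
          have hy'o : y' ∈ orb (stH H x) r := by
            by_contra h
            have := Finset.mem_compl.2 h
            rw [hpair, Finset.mem_insert, Finset.mem_singleton] at this
            tauto
          have h1 : orb (stH H x) y' ⊆ {y'} := fun w hw => by
            obtain ⟨b, hb, rfl⟩ := mem_orb.1 hw
            rw [hy' b hb, Finset.mem_singleton]
          have := Finset.card_le_card h1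
          rw [orb_eq_of_mem hy'o, Finset.card_singleton] at this
          omega
      · exfalso
        have := Finset.eq_univ_of_card (orb (stH H x) r) (by rw [hr, card_pts])
        have hx : x ∈ orb (stH H x) r := this ▸ Finset.mem_univ _
        have := orb_stH_self H x hx
        subst this
        have h1 : orb (stH H r) r ⊆ {r} := fun w hw => by
          obtain ⟨b, hb, rfl⟩ := mem_orb.1 hw
          rw [(mem_stH.1 hb).2, Finset.mem_singleton]
        have := Finset.card_le_card h1
        rw [Finset.card_singleton] at this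
        omega
    choose σ hσne hσfix hσuniq using hpartner
    have hσσ : ∀ x, σ (σ x) = x := fun x => by
      have hle : stH H x ≤ stH H (σ x) := fun g hg =>
        mem_stH.2 ⟨(mem_stH.1 hg).1, hσfix x g hg⟩
      have e : stH H x = stH H (σ x) :=
        Subgroup.eq_of_le_of_card_ge hle (by rw [hst, hst])
      refine (hσuniq (σ x) x (hσne x).symm fun g hg => ?_).symm
      rw [← e] at hg
      exact (mem_stH.1 hg).2
    have hσe : ∀ a ∈ H, ∀ x, σ (a • x) = a • σ x := fun a ha x => by
      symm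
      refine hσuniq (a • x) _ (fun e => hσne x (MulAction.injective a e)) fun g hg => ?_
      rw [mem_stH] at hg
      have := hσfix x (a⁻¹ * g * a) (mem_stH.2 ⟨mul_mem (mul_mem (inv_mem ha) hg.1) ha, by
        rw [mul_smul, mul_smul, hg.2, inv_smul_smul]⟩)
      rwa [mul_smul, mul_smul, inv_smul_eq_iff] at this
    have : Fact (Nat.Prime 7) := ⟨by norm_num⟩
    obtain ⟨g, hg⟩ := exists_prime_orderOf_dvd_card' (G := ↥H) 7 (by rw [hc]; norm_num)
    have hg' : orderOf (g : ↥M24) = 7 := (Subgroup.orderOf_coe g).trans hg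
    have h3 := fix_seven hg'
    have hsum : ∑ _p ∈ fixF ((g : ↥M24) : Equiv.Perm GolayPt), (1 : ZMod 2) = 0 := by
      refine Finset.sum_involution (fun p _ => σ p) (fun _ _ => by decide)
        (fun p _ _ => hσne p) (fun p hp => ?_) (fun p _ => hσσ p)
      rw [fixF, Finset.mem_filter] at hp ⊢
      refine ⟨Finset.mem_univ _, ?_⟩
      show (g : ↥M24) • σ p = σ p
      rw [← hσe g g.2, smul_pt, hp.2]
    rw [Finset.sum_const, h3] at hsum
    exact absurd hsum (by decide)

end Cfsg.Agent.GolayIndexSub70
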