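import Cfsg.Agent.Lib.GolayHeptad
import Cfsg.Agent.Lib.GolayEnumComp
import Cfsg.Agent.Lib.GolaySimple
import Cfsg.Agent.Lib.GolayM22IndexData

/-!
No subgroups of index 56 or 210 in the Mathieu group on 22 points.
-/

set_option autoImplicit false

namespace Cfsg.Agent.GolayM22Index

open Cfsg Cfsg.Agent.GolayBasic Cfsg.Agent.GolayPerm Cfsg.Agent.GolayM24 Cfsg.Agent.GolaySimple
open Cfsg.Agent.GolayNormalizer Cfsg.Agent.GolayM22IndexData Cfsg.Agent.GolayEnumComp
open scoped Pointwise

/-- generators used in the certificates stay in the group -/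
theorem good22_mem {g : ℕ} (h : good g = true ∧ pimg g 23 = 23 ∧ pimg g 0 = 0) :
    permOf g ∈ Spor.M22 := by
  rw [M22_eq, mem_fixList]
  refine ⟨permOf_mem_M24 h.1, fun b hb => ?_⟩
  have hv := valid_of_good h.1
  simp only [List.mem_cons, List.not_mem_nil, or_false] at hb
  rcases hb with rfl | rfl <;> rw [permOf_apply hv, pfun, idx_pt (by norm_num)]
  · rw [h.2.1]
  · rw [h.2.2]

theorem fP_good : good fP = true ∧ pimg fP 23 = 23 ∧ pimg fP 0 = 0 := by decide +kernel

theorem fP_conj : permOf fP * permOf z11 = permOf z11 ^ 5 * permOf fP := by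
  have hz := valid_of_good z11_good.1
  have hf := valid_of_good fP_good.1
  obtain ⟨h2, h4, h5, hR, heq, he5⟩ : valid (pcomp z11 z11) = true ∧
      valid (pcomp (pcomp z11 z11) (pcomp z11 z11)) = true ∧
      valid (pcomp z11 (pcomp (pcomp z11 z11) (pcomp z11 z11))) = true ∧
      valid (pcomp fP z11) = true ∧
      pcomp fP z11 = pcomp (pcomp z11 (pcomp (pcomp z11 z11) (pcomp z11 z11))) fP ∧ True := by
    decide +kernel
  rw [← permOf_pcomp hf hz hR rfl, permOf_pcomp h5 hf hR heq, permOf_pcomp hz h4 h5 rfl,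
    permOf_pcomp h2 h2 h4 rfl, permOf_pcomp hz hz h2 rfl]
  simp only [pow_succ, pow_zero, one_mul, mul_assoc]

theorem card_normalizer : Nat.card ((cyc z11).subgroupOf Spor.M22) = 11 ∧
    Nat.card (Subgroup.normalizer
      ((((cyc z11).subgroupOf Spor.M22 : Subgroup Spor.M22)) : Set Spor.M22)) = 11 * 5 := by
  have hfixS : ∀ g ∈ Spor.M22, g ∈ M24 ∧ g (pt 23) = pt 23 ∧ g (pt 0) = pt 0 := fun g hg => by
    rw [M22_eq, mem_fixList] at hg
    exact ⟨hg.1, hg.2 23 (by simp), hg.2 0 (by simp)⟩
  exact card_normalizer_eq (H := Spor.M22) (p := 11) (m := 40320) (q := 5) (B := 5) (a := 1) (b := 5)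
    (by norm_num) (by decide +kernel) (by norm_num) table11 z11_mem_M22 (by rw [card_M22])
    (by norm_num) (fun S hS hz hn => bound11 (fun g hg => (hfixS g (hS hg)).1)
      (fun g hg => (hfixS g (hS hg)).2.2) (fun g hg => (hfixS g (hS hg)).2.1) hz hn)
    (by decide)

/-- a key separating sets of point sets -/
noncomputable def key (X : Finset (Finset GolayPt)) : ℕ := ∑ s ∈ X, smask s ^ 2

theorem key_smul {g : ℕ} (hg : valid g = true) {U : List ℕ} (hU : GolayOrbit.ok U = true) :
    key (permOf g • GolayOrbit.fam U) = (U.map fun m => pmask g m ^ 2).sum := by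
  rw [key, Finset.smul_finset_def, Finset.sum_image (fun _ _ _ _ h => MulAction.injective _ h),
    GolayOrbit.sum_fam hU]
  refine congrArg List.sum (List.map_congr_left fun m _ => ?_)
  show smask (permOf g • mset m) ^ 2 = _
  rw [smul_mset hg, show smask (mset (pmask g m)) = pmask g m from
    mset_inj (smask_lt _) (GolayOrbit.pmask_lt hg m) (mset_smask _)]

/-- certificate that a family has more than 56 images -/
def sepCheck (U W : List ℕ) : Bool :=
  GolayOrbit.ok U && (W.all fun g => good g && pimg g 23 == 23 && pimg g 0 == 0) &&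
    decide ((W.map fun g => (U.map fun m => pmask g m ^ 2).sum).Nodup) && decide (56 < W.length)

/-- A family with more than 56 images is not invariant under a group of index 56. -/
theorem not_invariant {U W : List ℕ} (hc : sepCheck U W = true) (H : Subgroup Spor.M22)
    (hH : H.index = 56)
    (hinv : ∀ h ∈ H, (h : Equiv.Perm GolayPt) • GolayOrbit.fam U = GolayOrbit.fam U) : False := by
  simp only [sepCheck, Bool.and_eq_true, beq_iff_eq, List.all_eq_true, decide_eq_true_eq] at hc
  obtain ⟨⟨⟨hok, hgood⟩, hnd⟩, hlen⟩ := hc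
  let f : Spor.M22 ⧸ H → Finset (Finset GolayPt) := fun x =>
    Quotient.liftOn' x (fun g => (g : Equiv.Perm GolayPt) • GolayOrbit.fam U) fun a b hab => by
      have hm : a⁻¹ * b ∈ H := QuotientGroup.leftRel_apply.1 hab
      have := hinv _ hm
      rw [Subgroup.coe_mul, Subgroup.coe_inv, mul_smul, inv_smul_eq_iff] at this
      exact this.symm
  classical
  have : Finite (Spor.M22 ⧸ H) := Nat.finite_of_card_ne_zero (by
    rw [← Subgroup.index_eq_card, hH]; norm_num)
  let _ := Fintype.ofFinite (Spor.M22 ⧸ H)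
  have hsub : (W.map fun g => key (permOf g • GolayOrbit.fam U)).toFinset ⊆
      (Finset.univ.image f).image key := by
    intro x hx
    simp only [List.mem_toFinset, List.mem_map] at hx
    obtain ⟨g, hg, rfl⟩ := hx
    exact Finset.mem_image_of_mem _ (Finset.mem_image.2 ⟨QuotientGroup.mk
      (⟨permOf g, good22_mem ⟨(hgood g hg).1.1, (hgood g hg).1.2, (hgood g hg).2⟩⟩ : Spor.M22),
      Finset.mem_univ _, rfl⟩)
  have h1 := (Finset.card_le_card hsub).trans (Finset.card_image_le.trans Finset.card_image_le)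
  rw [List.map_congr_left fun g hg => key_smul (valid_of_good (hgood g hg).1.1) hok,
    List.toFinset_card_of_nodup hnd, List.length_map, Finset.card_univ,
    ← Nat.card_eq_fintype_card, ← Subgroup.index_eq_card, hH] at h1
  omega

/-- the class is generated from its representative -/
def steps (X : List ℕ) (r : ℕ) : Bool :=
  let a := (List.range 11).map fun i => (List.range i).foldl (fun m _ => pmask z11 m) r
  let b := (List.range 5).map fun j => (List.range j).foldl (fun m _ => pmask fP m) r
  X.all fun x => (b.any fun m => ((List.range 11).map fun i =>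
    (List.range i).foldl (fun m _ => pmask z11 m) m).contains x) || a.contains x

theorem mem_of_steps {X : List ℕ} {r : ℕ} (h : steps X r = true) {O : Set (Finset GolayPt)}
    (hz : ∀ s ∈ O, permOf z11 • s ∈ O) (hf : ∀ s ∈ O, permOf fP • s ∈ O) (hr : mset r ∈ O) :
    ∀ x ∈ X, mset x ∈ O := by
  have itz : ∀ (i m : ℕ), mset m ∈ O →
      mset ((List.range i).foldl (fun m _ => pmask z11 m) m) ∈ O := by
    intro i
    induction i with
    | zero => intro m hm; simpa using hm
    | succ i ih =>
      intro m hm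
      rw [List.range_succ, List.foldl_append]
      simp only [List.foldl_cons, List.foldl_nil]
      rw [← smul_mset (valid_of_good z11_good.1)]
      exact hz _ (ih m hm)
  have itf : ∀ (i m : ℕ), mset m ∈ O →
      mset ((List.range i).foldl (fun m _ => pmask fP m) m) ∈ O := by
    intro i
    induction i with
    | zero => intro m hm; simpa using hm
    | succ i ih =>
      intro m hm
      rw [List.range_succ, List.foldl_append]
      simp only [List.foldl_cons, List.foldl_nil]
      rw [← smul_mset (valid_of_good fP_good.1)]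
      exact hf _ (ih m hm)
  intro x hx
  simp only [steps, List.all_eq_true, Bool.or_eq_true, List.any_eq_true, List.contains_iff_mem,
    List.mem_map] at h
  rcases h x hx with ⟨m, ⟨j, -, rfl⟩, i, -, rfl⟩ | ⟨i, -, rfl⟩
  · exact itz i _ (itf j r hr)
  · exact itz i r hr

/-- the hexads -/
def hex77 : List ℕ := GolayHeptad.octsWith fun m => m.testBit 23 && m.testBit 0

theorem index_ne_56 {H : Subgroup Spor.M22} (hH : H.index = 56)
    (hz : (⟨permOf z11, z11_mem_M22⟩ : Spor.M22) ∈ H)
    (hf : (⟨permOf fP, good22_mem fP_good⟩ : Spor.M22) ∈ H) : False := by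
  classical
  set x0 := cyc5.headD 0 with hx0
  let O : Set (Finset GolayPt) := MulAction.orbit H (mset x0)
  have hzO : ∀ s ∈ O, permOf z11 • s ∈ O := fun s hs =>
    MulAction.mem_orbit_of_mem_orbit (⟨_, hz⟩ : H) hs
  have hfO : ∀ s ∈ O, permOf fP • s ∈ O := fun s hs =>
    MulAction.mem_orbit_of_mem_orbit (⟨_, hf⟩ : H) hs
  have h0 : mset x0 ∈ O := MulAction.mem_orbit_self _
  have hA : ∀ x ∈ cyc5, mset x ∈ O :=
    mem_of_steps (r := x0) (by decide +kernel) hzO hfO h0
  have hx0oct : mset x0 ∈ octads ∧ pt 23 ∈ mset x0 ∧ pt 0 ∈ mset x0 :=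
    ⟨(mset_mem_octads (by decide +kernel)).2 ⟨by decide +kernel, by decide +kernel⟩,
      by decide +kernel, by decide +kernel⟩
  have hOsub : ∀ s ∈ O, ∃ m ∈ hex77, mset m = s := by
    rintro _ ⟨⟨⟨g, hg⟩, hgH⟩, rfl⟩
    rw [M22_eq, mem_fixList] at hg
    refine GolayHeptad.exists_mask (smul_mem_octads hg.1 hx0oct.1) fun m hm => ?_
    have hm' : mset m = g • mset x0 := hm
    have e : ∀ b ∈ [23, 0], b < 24 → pt b ∈ mset x0 → m.testBit b = true := by
      intro b hb hb' hmem
      have h1 : g (pt b) ∈ mset m := hm' ▸ Finset.smul_mem_smul_finset hmem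
      rw [hg.2 b hb, mem_mset, idx_pt hb'] at h1
      exact h1
    simp only [Bool.and_eq_true]
    exact ⟨e 23 (by simp) (by norm_num) hx0oct.2.1, e 0 (by simp) (by norm_num) hx0oct.2.2⟩
  have hBall : mset (cycA.headD 0) ∈ O → ∀ x ∈ cycA, mset x ∈ O :=
    mem_of_steps (r := cycA.headD 0) (by decide +kernel) hzO hfO
  have hCall : mset (cycB.headD 0) ∈ O → ∀ x ∈ cycB, mset x ∈ O :=
    mem_of_steps (r := cycB.headD 0) (by decide +kernel) hzO hfO
  have hsplit : ∀ m ∈ hex77, m ∈ cyc5 ∨ m ∈ cycA ∨ m ∈ cycB := by decide +kernel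
  -- a class meeting the orbit away from its representative
  have hback : ∀ {X : List ℕ}, (∀ x ∈ X, steps [X.headD 0] x = true) →
      ∀ x ∈ X, mset x ∈ O → mset (X.headD 0) ∈ O := fun h x hx hxO =>
    mem_of_steps (r := x) (h x hx) hzO hfO hxO _ (List.mem_singleton.2 rfl)
  have hbA := hback (X := cycA) (by decide +kernel)
  have hbB := hback (X := cycB) (by decide +kernel)
  have hU : ∀ (U W : List ℕ), sepCheck U W = true → (∀ x ∈ U, mset x ∈ O) →
      (∀ m ∈ hex77, mset m ∈ O → m ∈ U) → False := by
    intro U W hc hsub hsup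
    refine not_invariant hc H hH fun h hh => ?_
    have hOfam : ∀ s, s ∈ GolayOrbit.fam U ↔ s ∈ O := fun s => by
      rw [GolayOrbit.mem_fam]
      refine ⟨fun ⟨m, hm, e⟩ => e ▸ hsub m hm, fun hs => ?_⟩
      obtain ⟨m, hm, rfl⟩ := hOsub s hs
      exact ⟨m, hsup m hm hs, rfl⟩
    refine Finset.eq_of_subset_of_card_le (fun s hs => ?_) (by rw [Finset.card_smul_finset])
    obtain ⟨t, ht, rfl⟩ := Finset.mem_smul_finset.1 hs
    rw [hOfam] at ht ⊢
    exact MulAction.mem_orbit_of_mem_orbit (⟨h, hh⟩ : H) ht
  by_cases hBO : mset (cycA.headD 0) ∈ O <;> by_cases hCO : mset (cycB.headD 0) ∈ O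
  · -- everything: 77 divides the order
    have hO : O = ↑((hex77.map mset).toFinset) := by
      ext s
      simp only [Finset.mem_coe, List.mem_toFinset, List.mem_map]
      refine ⟨hOsub s, fun ⟨m, hm, e⟩ => e ▸ ?_⟩
      rcases hsplit m hm with h | h | h
      exacts [hA m h, hBall hBO m h, hCall hCO m h]
    have h77 : Nat.card O = 77 := by
      rw [hO, Nat.card_coe_set_eq, Set.ncard_coe_finset, List.toFinset_card_of_nodup]
      · rw [List.length_map]; decide +kernel
      · refine List.Nodup.map_on (fun a ha b hb e => ?_) (by decide +kernel)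
        have hlt24 : ∀ m ∈ hex77, m < 16777216 := by decide +kernel
        exact mset_inj (lt_of_lt_of_eq (hlt24 a ha) (by norm_num))
          (lt_of_lt_of_eq (hlt24 b hb) (by norm_num)) e
    have hcard := Subgroup.card_mul_index H
    rw [hH, card_M22] at hcard
    have hd : 77 ∣ Nat.card H := by
      rw [← h77, Nat.card_congr (MulAction.orbitEquivQuotientStabilizer H (mset x0))]
      exact Subgroup.card_quotient_dvd_card _
    omega
  · refine hU (GolayOrbit.isort (cyc5 ++ cycA)) wA (by decide +kernel)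
      (fun x hx => ?_) (fun m hm hmO => ?_)
    · rw [GolayOrbit.mem_isort, List.mem_append] at hx
      exact hx.elim (hA x) (hBall hBO x)
    · rw [GolayOrbit.mem_isort, List.mem_append]
      rcases hsplit m hm with h | h | h
      exacts [Or.inl h, Or.inr h, absurd (hbB m h hmO) hCO]
  · refine hU (GolayOrbit.isort (cyc5 ++ cycB)) wB (by decide +kernel)
      (fun x hx => ?_) (fun m hm hmO => ?_)
    · rw [GolayOrbit.mem_isort, List.mem_append] at hx
      exact hx.elim (hA x) (hCall hCO x)
    · rw [GolayOrbit.mem_isort, List.mem_append]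
      rcases hsplit m hm with h | h | h
      exacts [Or.inl h, absurd (hbA m h hmO) hBO, Or.inr h]
  · refine hU (GolayOrbit.isort cyc5) w0 (by decide +kernel)
      (fun x hx => hA x (GolayOrbit.mem_isort.1 hx)) (fun m hm hmO => ?_)
    rw [GolayOrbit.mem_isort]
    rcases hsplit m hm with h | h | h
    exacts [h, absurd (hbA m h hmO) hBO, absurd (hbB m h hmO) hCO]

theorem index_ne (H : Subgroup Spor.M22) : H.index ≠ 56 ∧ H.index ≠ 210 := by
  classical
  have : Fact (Nat.Prime 11) := ⟨by norm_num⟩
  obtain ⟨hP, hNP⟩ := card_normalizer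
  set P := (cyc z11).subgroupOf Spor.M22 with hPdef
  have hPsyl : Nat.card P = 11 ^ (Nat.card Spor.M22).factorization 11 := by
    rw [hP, card_M22, show (443520 : ℕ) = 11 * 40320 by norm_num,
      GolaySimpleGen.eq_of_factorization (by norm_num) (by norm_num)]
  let S : Sylow 11 Spor.M22 := Sylow.ofCard P hPsyl
  have main : ∀ n m : ℕ, H.index = n → n * (11 * m) = 443520 → ¬ 11 ∣ m →
      ∀ (hk : ∀ k ∈ List.range 6, k * (m / k) = m → (m / k) % 11 = 1 → k = 5),
        ∃ K : Subgroup Spor.M22, K.index = n ∧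
          Subgroup.normalizer ((P : Subgroup Spor.M22) : Set Spor.M22) ≤ K := by
    intro n m hn hcard hm hk
    have hcH : Nat.card H = 11 * m := by
      have := Subgroup.card_mul_index H
      rw [hn, card_M22] at this
      have hn0 : 0 < n := Nat.pos_of_ne_zero fun h => by rw [h] at hcard; omega
      exact Nat.eq_of_mul_eq_mul_left hn0 (by rw [mul_comm n, this, hcard])
    obtain ⟨Q⟩ := (inferInstance : Nonempty (Sylow 11 H))
    have hQ : Nat.card (Q : Subgroup H) = 11 := by
      rw [Sylow.card_eq_multiplicity, hcH, GolaySimpleGen.eq_of_factorization (by norm_num) hm]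
    set Q' : Subgroup Spor.M22 := (Q : Subgroup H).map H.subtype with hQ'
    have hQ'card : Nat.card Q' = 11 := by
      rw [← hQ]
      exact Nat.card_congr (Subgroup.equivMapOfInjective _ _ H.subtype_injective).toEquiv.symm
    let T : Sylow 11 Spor.M22 := Sylow.ofCard Q' (hQ'card.trans (hP.symm.trans hPsyl))
    obtain ⟨g, hg⟩ := MulAction.exists_smul_eq Spor.M22 T S
    refine ⟨H.map (MulAut.conj g).toMonoidHom, ?_, ?_⟩
    · exact (Subgroup.index_map_equiv H (MulAut.conj g)).trans hn
    set K := H.map (MulAut.conj g).toMonoidHom with hK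
    have hPK : P ≤ K := by
      have h1 : ((g • T : Sylow 11 Spor.M22) : Subgroup Spor.M22) = P := by
        rw [hg]; exact Sylow.coe_ofCard P hPsyl
      rw [← h1, Sylow.coe_subgroup_smul, Sylow.coe_ofCard]
      rintro _ ⟨a, ha, rfl⟩
      obtain ⟨b, hb, rfl⟩ := Subgroup.mem_map.1 ha
      exact Subgroup.mem_map.2 ⟨b.1, b.2, rfl⟩
    have hKcard : Nat.card K = 11 * m := by
      rw [hK, Nat.card_congr (Subgroup.equivMapOfInjective H _ (MulAut.conj g).injective).toEquiv.symm,
        hcH]
    -- the normaliser inside `K`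
    set P' := P.subgroupOf K with hP'
    have hP'card : Nat.card P' = 11 := by
      rw [hP', Nat.card_congr (Subgroup.subgroupOfEquivOfLe hPK).toEquiv, hP]
    let S' : Sylow 11 K := Sylow.ofCard P' (by
      rw [hP'card, hKcard, GolaySimpleGen.eq_of_factorization (by norm_num) hm])
    set NK := Subgroup.normalizer ((S' : Subgroup K) : Set K)
    have hNKle : NK.map K.subtype ≤ Subgroup.normalizer ((P : Subgroup Spor.M22) : Set Spor.M22) := by
      rintro _ ⟨a, ha, rfl⟩
      rw [Subgroup.mem_normalizer_iff]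
      intro b
      have hS' : (S' : Subgroup K) = P' := Sylow.coe_ofCard _ _
      have hmem : ∀ c : K, c ∈ (S' : Subgroup K) ↔ (c : Spor.M22) ∈ P := fun c => by
        rw [hS', hP', Subgroup.mem_subgroupOf]
      have ha' := Subgroup.mem_normalizer_iff.1 ha
      constructor
      · intro hb
        exact (hmem _).1 ((ha' ⟨b, hPK hb⟩).1 ((hmem _).2 hb))
      · intro hb
        have hb' : b ∈ K := by
          have := mul_mem (mul_mem (inv_mem a.2) (hPK hb)) a.2
          simpa [mul_assoc] using this
        exact (hmem ⟨b, hb'⟩).1 ((ha' ⟨b, hb'⟩).2 ((hmem _).2 hb))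
    have hc1 : Nat.card NK ∣ 11 * 5 := by
      rw [← hNP, Nat.card_congr (Subgroup.equivMapOfInjective NK _ K.subtype_injective).toEquiv]
      exact Subgroup.card_dvd_of_le hNKle
    have hc2 : 11 ∣ Nat.card NK := by
      rw [← hP'card]
      refine Subgroup.card_dvd_of_le ?_
      rw [← (Sylow.coe_ofCard P' _ : (S' : Subgroup K) = P')]
      exact Subgroup.le_normalizer
    obtain ⟨k, hkN⟩ := hc2
    have hk5 : k ∣ 5 := (Nat.mul_dvd_mul_iff_left (show 0 < 11 by norm_num)).1 (hkN ▸ hc1)
    have hmulidx := Subgroup.card_mul_index NK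
    rw [hkN, hKcard, mul_assoc] at hmulidx
    have hkm := Nat.eq_of_mul_eq_mul_left (by norm_num) hmulidx
    have hk0 : 0 < k := Nat.pos_of_dvd_of_pos hk5 (by norm_num)
    have hmk : m / k = NK.index := by rw [← hkm, Nat.mul_div_cancel_left _ hk0]
    have hmod : (m / k) % 11 = 1 := by
      have := card_sylow_modEq_one 11 K
      rw [Sylow.card_eq_index_normalizer S'] at this
      rw [hmk]
      exact this
    have hk' := hk k (List.mem_range.2 (by have := Nat.le_of_dvd (by norm_num) hk5; omega))
      (by rw [hmk, hkm]) hmod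
    have heq : NK.map K.subtype = Subgroup.normalizer ((P : Subgroup Spor.M22) : Set Spor.M22) :=
      Subgroup.eq_of_le_of_card_ge hNKle (by
        rw [hNP, ← Nat.card_congr (Subgroup.equivMapOfInjective NK _ K.subtype_injective).toEquiv,
          hkN, hk'])
    rw [← heq]
    exact Subgroup.map_subtype_le _
  constructor
  · intro hn
    obtain ⟨K, hK, hle⟩ := main 56 720 hn (by norm_num) (by norm_num) (by decide)
    have hz : (⟨permOf z11, z11_mem_M22⟩ : Spor.M22) ∈ P := Subgroup.mem_zpowers _
    refine index_ne_56 hK (hle (Subgroup.le_normalizer hz)) (hle ?_)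
    set fe : Spor.M22 := ⟨permOf fP, good22_mem fP_good⟩
    set ze : Spor.M22 := ⟨permOf z11, z11_mem_M22⟩
    have hPeq : P = Subgroup.zpowers ze := by
      ext a
      rw [hPdef, Subgroup.mem_subgroupOf, Subgroup.mem_zpowers_iff, cyc, Subgroup.mem_zpowers_iff]
      exact ⟨fun ⟨i, hi⟩ => ⟨i, Subtype.ext (by simpa [ze] using hi)⟩,
        fun ⟨i, hi⟩ => ⟨i, by rw [← hi]; simp [ze]⟩⟩
    have hconj : (MulAut.conj fe) ze = ze ^ 5 := Subtype.ext (by
      show permOf fP * permOf z11 * (permOf fP)⁻¹ = permOf z11 ^ 5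
      rw [fP_conj, mul_inv_cancel_right])
    have hmap : P.map (MulAut.conj fe).toMonoidHom = P := by
      refine Subgroup.eq_of_le_of_card_ge ?_ ?_
      · rw [hPeq, MonoidHom.map_zpowers, Subgroup.zpowers_le]
        exact hconj ▸ Subgroup.pow_mem _ (Subgroup.mem_zpowers ze) 5
      · rw [← Nat.card_congr (Subgroup.equivMapOfInjective P _ (MulAut.conj fe).injective).toEquiv]
    rw [Subgroup.mem_normalizer_iff]
    intro b
    conv_rhs => rw [← hmap]
    rw [Subgroup.mem_map_equiv]
    simp [mul_assoc]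
  · intro hn
    obtain ⟨K, hK, hle⟩ := main 210 192 hn (by norm_num) (by norm_num) (by decide)
    have h1 := Subgroup.card_dvd_of_le hle
    have h2 := Subgroup.card_mul_index K
    rw [hK, card_M22] at h2
    rw [hNP] at h1
    omega

end Cfsg.Agent.GolayM22Index
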