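import Cfsg.Agent.Lib.GolayHeptad
import Cfsg.Agent.Lib.GolayStab

/-!
Subgroups of index 253 in the Mathieu group on 23 points.
-/

set_option autoImplicit false

namespace Cfsg.Agent.GolayM23Index

open Cfsg Cfsg.Agent.GolayBasic Cfsg.Agent.GolayPerm Cfsg.Agent.GolayM24
open scoped Pointwise

/-- the elements fixing an octad pointwise, standard -/
abbrev fix8 : Subgroup (Equiv.Perm GolayPt) := fixList M24 [23, 0, 12, 14, 16, 17]

theorem card_fix8 : Nat.card fix8 = 2 ^ 4 := by
  rw [card_chain6, card_chain7]; norm_num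

theorem exists_fix8 : ∀ y ∈ mset 3715070, ∃ g ∈ fix8, g (pt 1) = y :=
  exists_of_tcheck (keep := 16777215) (fix := [23, 0, 12, 14, 16, 17]) (b := 1) (O := 3715070)
    (ts := GolayData.tr24_6) (by norm_num) (by simp) (by decide +kernel) (H := M24) (fun g hg _ => hg)

theorem eq_of_index {G : Type*} [Group G] [Finite G] {H S : Subgroup G} (h : H ≤ S)
    (hi : H.index = S.index) : H = S := by
  refine Subgroup.eq_of_le_of_card_ge h ?_
  have h1 := H.card_mul_index
  have h2 := S.card_mul_index
  rw [hi, ← h2] at h1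
  exact (Nat.eq_of_mul_eq_mul_right (Nat.pos_of_ne_zero Subgroup.index_ne_zero_of_finite) h1).ge

theorem card_stab (x : GolayPt) : Nat.card (MulAction.stabilizer M24 x) = 10200960 := by
  rw [← Nat.card_congr (GolayStab.stabPointEquiv x).toEquiv, card_M23]

theorem index_stab {β : Type*} {x : GolayPt} [MulAction ↥M24 β] (b : β) :
    ((MulAction.stabilizer M24 b).subgroupOf (MulAction.stabilizer M24 x)).index =
      (MulAction.orbit ↥(MulAction.stabilizer M24 x) b).ncard := by
  have e : (MulAction.stabilizer M24 b).subgroupOf (MulAction.stabilizer M24 x) =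
      MulAction.stabilizer ↥(MulAction.stabilizer M24 x) b := by ext g; rfl
  rw [e, Subgroup.index_eq_card, ← Nat.card_congr (MulAction.orbitEquivQuotientStabilizer _ b),
    Nat.card_coe_set_eq]

/-- four-transitivity away from a point -/
theorem exists_map_away (x : GolayPt) (u v : Fin 4 → GolayPt) (hu : Function.Injective u)
    (hv : Function.Injective v) (hux : ∀ i, u i ≠ x) (hvx : ∀ i, v i ≠ x) :
    ∃ g : ↥(MulAction.stabilizer M24 x), ∀ i, ((g : M24) : Equiv.Perm GolayPt) (u i) = v i := by
  obtain ⟨g, hg, h⟩ := exists_map_five_five (Fin.cons x u) (Fin.cons x v)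
    (Fin.cons_injective_iff.2 ⟨fun ⟨i, e⟩ => hux i e, hu⟩)
    (Fin.cons_injective_iff.2 ⟨fun ⟨i, e⟩ => hvx i e, hv⟩)
  exact ⟨⟨⟨g, hg⟩, by simpa using h 0⟩, fun i => by simpa using h i.succ⟩

theorem exists_emb {x : GolayPt} {t : Finset GolayPt} {k : ℕ} (hk : k ≤ 4) (ht : t.card = k)
    (htx : x ∉ t) : ∃ u : Fin 4 → GolayPt, Function.Injective u ∧ (∀ i, u i ≠ x) ∧
      t = (Finset.univ.filter fun i : Fin 4 => i.val < k).image u := by
  classical
  have h4 : 4 - k ≤ (Finset.univ \ insert x t).card := by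
    rw [Finset.card_sdiff_of_subset (Finset.subset_univ _), Finset.card_univ,
      Finset.card_insert_of_notMem htx, ht, show Fintype.card GolayPt = 24 from by decide +kernel]
    omega
  obtain ⟨w, hw, hwc⟩ := Finset.exists_subset_card_eq h4
  let a : Fin k → GolayPt := fun i => ((t.equivFinOfCardEq ht).symm i).1
  let b : Fin (4 - k) → GolayPt := fun i => ((w.equivFinOfCardEq hwc).symm i).1
  have hat : ∀ i, a i ∈ t := fun i => ((t.equivFinOfCardEq ht).symm i).2
  have hbw : ∀ i, b i ∈ Finset.univ \ insert x t := fun i => hw ((w.equivFinOfCardEq hwc).symm i).2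
  simp only [Finset.mem_sdiff, Finset.mem_univ, true_and, Finset.mem_insert, not_or] at hbw
  have hinj : Function.Injective (Fin.append a b) := by
    refine Fin.append_injective_iff.2 ⟨Subtype.val_injective.comp (Equiv.injective _),
      Subtype.val_injective.comp (Equiv.injective _), ?_⟩
    intro i j e
    exact (hbw j).2 (e ▸ hat i)
  let u : Fin 4 → GolayPt := Fin.append a b ∘ Fin.cast (by omega)
  refine ⟨u, hinj.comp (Fin.cast_injective _), fun i => ?_, ?_⟩
  · show Fin.append a b _ ≠ x
    generalize Fin.cast (show 4 = k + (4 - k) by omega) i = j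
    induction j using Fin.addCases with
    | left j => rw [Fin.append_left]; exact fun e => htx (e ▸ hat j)
    | right j => rw [Fin.append_right]; exact (hbw j).1
  · symm
    refine Finset.eq_of_subset_of_card_le ?_ ?_
    · intro z hz
      obtain ⟨i, hi, rfl⟩ := Finset.mem_image.1 hz
      rw [Finset.mem_filter] at hi
      show Fin.append a b _ ∈ t
      rw [show Fin.cast (show 4 = k + (4 - k) by omega) i = Fin.castAdd _ ⟨i.val, hi.2⟩ from rfl,
        Fin.append_left]
      exact hat _
    · rw [Finset.card_image_of_injective _ (hinj.comp (Fin.cast_injective _)), ht]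
      interval_cases k <;> decide

/-- small sets away from the point form one orbit -/
theorem exists_smul_small {x : GolayPt} {s t : Finset GolayPt} {k : ℕ} (hk : k ≤ 4)
    (hs : s.card = k) (ht : t.card = k) (hsx : x ∉ s) (htx : x ∉ t) :
    ∃ g : ↥(MulAction.stabilizer M24 x), g • s = t := by
  obtain ⟨u, hu, hux, rfl⟩ := exists_emb hk hs hsx
  obtain ⟨v, hv, hvx, rfl⟩ := exists_emb hk ht htx
  obtain ⟨g, hg⟩ := exists_map_away x u v hu hv hux hvx
  refine ⟨g, ?_⟩
  show ((g : M24) : Equiv.Perm GolayPt) • Finset.image u _ = _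
  rw [Finset.smul_finset_def, Finset.image_image]
  exact Finset.image_congr fun i _ => hg i

theorem card_univ_erase (x : GolayPt) :
    ((Finset.univ : Finset GolayPt).erase x).card = 23 := by
  rw [Finset.card_erase_of_mem (Finset.mem_univ _), Finset.card_univ,
    show Fintype.card GolayPt = 24 from by decide +kernel]

theorem ncard_orbit_pair {x : GolayPt} {s : Finset GolayPt} (hs : s.card = 2) (hsx : x ∉ s) :
    (MulAction.orbit ↥(MulAction.stabilizer M24 x) s).ncard = 253 := by
  have : MulAction.orbit ↥(MulAction.stabilizer M24 x) s =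
      ↑(((Finset.univ : Finset GolayPt).erase x).powersetCard 2) := by
    ext t
    rw [Finset.mem_coe, Finset.mem_powersetCard]
    constructor
    · rintro ⟨g, rfl⟩
      refine ⟨fun z hz => ?_, (Finset.card_smul_finset ((g : M24) : Equiv.Perm GolayPt) s).trans hs⟩
      rw [Finset.mem_erase]
      refine ⟨fun e => hsx ?_, Finset.mem_univ _⟩
      obtain ⟨w, hw, hwz⟩ := Finset.mem_smul_finset.1 hz
      have hx : ((g : M24) : Equiv.Perm GolayPt) x = x := MulAction.mem_stabilizer_iff.1 g.2
      have hwz' : ((g : M24) : Equiv.Perm GolayPt) w = x := hwz.trans e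
      rwa [← ((g : M24) : Equiv.Perm GolayPt).injective (hwz'.trans hx.symm)]
    · rintro ⟨ht, htc⟩
      exact exists_smul_small (by norm_num) hs htc hsx fun h =>
        absurd rfl (Finset.mem_erase.1 (ht h)).1
  rw [this, Set.ncard_coe_finset, Finset.card_powersetCard, card_univ_erase]
  rfl

theorem ncard_orbit_heptad {x : GolayPt} {o : Finset GolayPt} (ho : o ∈ octads) (hx : x ∈ o) :
    (MulAction.orbit ↥(MulAction.stabilizer M24 x) o).ncard = 253 := by
  have horb : MulAction.orbit ↥(MulAction.stabilizer M24 x) o = {s | s ∈ octads ∧ x ∈ s} := by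
    ext t
    constructor
    · rintro ⟨g, rfl⟩
      exact ⟨smul_mem_octads (g : M24).2 ho, by
        have := Finset.smul_mem_smul_finset (a := ((g : M24) : Equiv.Perm GolayPt)) hx
        rwa [show ((g : M24) : Equiv.Perm GolayPt) • x = x from MulAction.mem_stabilizer_iff.1 g.2]
          at this⟩
    · rintro ⟨ht, hxt⟩
      obtain ⟨q, hq, hqx⟩ := Finset.exists_mem_ne (show 1 < o.card by rw [ho.2]; norm_num) x
      obtain ⟨q', hq', hqx'⟩ := Finset.exists_mem_ne (show 1 < t.card by rw [ht.2]; norm_num) x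
      obtain ⟨a, ha, hao, hap, -⟩ := GolayHeptad.exists_frame_in ho hx hq hqx.symm
      obtain ⟨b, hb, hbo, hbp, -⟩ := GolayHeptad.exists_frame_in ht hxt hq' hqx'.symm
      refine ⟨⟨⟨b * a⁻¹, mul_mem hb (inv_mem ha)⟩, ?_⟩, ?_⟩
      · show (b * a⁻¹) x = x
        rw [Equiv.Perm.mul_apply, ← hap, Equiv.Perm.inv_def, Equiv.symm_apply_apply, hap, hbp]
      · show (b * a⁻¹) • o = t
        rw [mul_smul, ← hao, inv_smul_smul, hbo]
  rw [horb]
  obtain ⟨q, hq, hqx⟩ := Finset.exists_mem_ne (show 1 < o.card by rw [ho.2]; norm_num) x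
  obtain ⟨a, ha, hao, hap, -⟩ := GolayHeptad.exists_frame_in ho hx hq hqx.symm
  subst hap
  rw [GolayHeptad.count ha _ (fun m => m.testBit 0) fun m => by
    simp [GolayHeptad.testBit_of_mem]]
  decide +kernel

/-- a small orbit of a set of size 3 or 5 is impossible -/
theorem not_small {x : GolayPt} {W : Finset GolayPt} (hWx : x ∉ W)
    (hW : W.card = 3 ∨ W.card = 5)
    (h : (MulAction.orbit ↥(MulAction.stabilizer M24 x) W).ncard ≤ 253) : False := by
  classical
  let k := if W.card = 3 then 3 else 4
  have hkW : k ≤ W.card ∧ k ≤ 4 ∧ W.card.choose k ≤ 5 ∧ 1771 ≤ (23 : ℕ).choose k := by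
    rcases hW with e | e <;> simp [k, e, Nat.choose]
  obtain ⟨hk, hk4, hch, h1771⟩ := hkW
  set T := (Set.toFinite (MulAction.orbit ↥(MulAction.stabilizer M24 x) W)).toFinset with hT
  have hsub : ((Finset.univ : Finset GolayPt).erase x).powersetCard k ⊆
      T.biUnion (Finset.powersetCard k) := by
    intro t ht
    rw [Finset.mem_powersetCard] at ht
    obtain ⟨w, hw, hwc⟩ := Finset.exists_subset_card_eq hk
    obtain ⟨g, hg⟩ := exists_smul_small hk4 hwc ht.2 (fun h => hWx (hw h))
      (fun h => absurd rfl (Finset.mem_erase.1 (ht.1 h)).1)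
    rw [Finset.mem_biUnion]
    refine ⟨g • W, (Set.Finite.mem_toFinset _).2 ⟨g, rfl⟩, Finset.mem_powersetCard.2 ⟨?_, ht.2⟩⟩
    rw [← hg]
    exact Finset.smul_finset_subset_smul_finset hw
  have h1 := (Finset.card_le_card hsub).trans Finset.card_biUnion_le
  have h2 : ∀ U ∈ T, (Finset.powersetCard k U).card ≤ 5 := by
    intro U hU
    obtain ⟨g, rfl⟩ := (Set.Finite.mem_toFinset _).1 hU
    rw [Finset.card_powersetCard,
      show (g • W).card = W.card from Finset.card_smul_finset ((g : M24) : Equiv.Perm GolayPt) W]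
    exact hch
  have h3 := h1.trans (Finset.sum_le_card_nsmul _ _ _ h2)
  rw [Finset.card_powersetCard, card_univ_erase, smul_eq_mul,
    hT, ← Set.ncard_eq_toFinset_card] at h3
  omega

/-- The classification of subgroups of index 253. -/
theorem index_253 {x : GolayPt} (H : Subgroup ↥(MulAction.stabilizer M24 x)) (hH : H.index = 253) :
    (∃ s : Finset GolayPt, s.card = 2 ∧ x ∉ s ∧
        H = (MulAction.stabilizer M24 s).subgroupOf (MulAction.stabilizer M24 x)) ∨
      ∃ o ∈ octads, x ∈ o ∧
        H = (MulAction.stabilizer M24 o).subgroupOf (MulAction.stabilizer M24 x) := by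
  classical
  obtain ⟨a, ha, hax⟩ := GolayStab.exists_map_one x
  have hax' : a (pt 23) = x := by rw [pt_none]; exact hax
  have hcardH : Nat.card H = 40320 := by
    have := H.card_mul_index
    rw [hH, card_stab] at this
    omega
  -- the conjugate of the pointwise octad stabiliser
  let ι : fix8 →* ↥(MulAction.stabilizer M24 x) :=
    { toFun := fun g => ⟨⟨a * (g : Equiv.Perm GolayPt) * a⁻¹,
          mul_mem (mul_mem ha (mem_fixList.1 g.2).1) (inv_mem ha)⟩, by
        show (a * (g : Equiv.Perm GolayPt) * a⁻¹) x = x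
        rw [← hax', Equiv.Perm.mul_apply, Equiv.Perm.mul_apply, Equiv.Perm.inv_def,
          Equiv.symm_apply_apply, (mem_fixList.1 g.2).2 23 (by simp)]⟩
      map_one' := by ext1; ext1; simp
      map_mul' := fun g h => by ext1; ext1; simp [mul_assoc] }
  have hι : Function.Injective ι := fun g h e => by
    have := congrArg (fun z : ↥(MulAction.stabilizer M24 x) =>
      ((z : M24) : Equiv.Perm GolayPt)) e
    exact Subtype.ext (by simpa [ι] using this)
  have : Fact (Nat.Prime 2) := ⟨Nat.prime_two⟩
  have hP : IsPGroup 2 ι.range := IsPGroup.of_card (n := 4) (by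
    rw [← card_fix8]
    exact Nat.card_congr (MonoidHom.ofInjective hι).toEquiv.symm)
  obtain ⟨R, hR⟩ := hP.exists_le_sylow
  obtain ⟨Q⟩ := (inferInstance : Nonempty (Sylow 2 H))
  have hfac : (40320 : ℕ).factorization 2 = (10200960 : ℕ).factorization 2 := by
    have h1 : (40320 : ℕ) = 2 ^ 7 * 315 := by norm_num
    have h2 : (10200960 : ℕ) = 2 ^ 7 * 79695 := by norm_num
    rw [h1, h2, Nat.factorization_mul (by norm_num) (by norm_num),
      Nat.factorization_mul (by norm_num) (by norm_num)]
    simp [Nat.Prime.factorization_pow Nat.prime_two,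
      Nat.factorization_eq_zero_of_not_dvd (show ¬ 2 ∣ 315 by norm_num),
      Nat.factorization_eq_zero_of_not_dvd (show ¬ 2 ∣ 79695 by norm_num)]
  let Q' : Sylow 2 ↥(MulAction.stabilizer M24 x) := Sylow.ofCard ((Q : Subgroup H).map H.subtype) (by
    rw [← Nat.card_congr (Subgroup.equivMapOfInjective _ _ H.subtype_injective).toEquiv,
      Sylow.card_eq_multiplicity, hcardH, card_stab, hfac])
  obtain ⟨k, hk⟩ := MulAction.exists_smul_eq ↥(MulAction.stabilizer M24 x) R Q'
  have hkH : ∀ g : fix8, k * ι g * k⁻¹ ∈ H := fun g => by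
    have h1 : MulAut.conj k (ι g) ∈ ((k • R : Sylow 2 ↥(MulAction.stabilizer M24 x)) :
        Subgroup ↥(MulAction.stabilizer M24 x)) := by
      rw [Sylow.coe_subgroup_smul]
      exact Subgroup.smul_mem_pointwise_smul _ _ _ (hR ⟨g, rfl⟩)
    rw [hk, Sylow.coe_ofCard] at h1
    obtain ⟨b, -, hb⟩ := Subgroup.mem_map.1 h1
    have hb' : (b : ↥(MulAction.stabilizer M24 x)) = k * ι g * k⁻¹ := hb
    rw [← hb']
    exact b.2
  set c : Equiv.Perm GolayPt := ((k : M24) : Equiv.Perm GolayPt) * a with hc
  have hcM : c ∈ M24 := mul_mem (k : M24).2 ha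
  have hcx : c (pt 23) = x := by
    rw [hc, Equiv.Perm.mul_apply, hax']
    exact MulAction.mem_stabilizer_iff.1 k.2
  have hcH : ∀ g : fix8, ∃ h ∈ H, ∀ z, ((h : M24) : Equiv.Perm GolayPt) (c z) =
      c ((g : Equiv.Perm GolayPt) z) := fun g => ⟨_, hkH g, fun z => by
    show (((k : M24) : Equiv.Perm GolayPt) * (a * (g : Equiv.Perm GolayPt) * a⁻¹) *
      ((k : M24) : Equiv.Perm GolayPt)⁻¹) (((k : M24) : Equiv.Perm GolayPt) (a z)) = _
    simp [hc, Equiv.Perm.mul_apply]⟩
  -- an orbit of at least sixteen points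
  let O : Finset GolayPt := (Set.toFinite (MulAction.orbit H (c (pt 1)))).toFinset
  have hmemO : ∀ z, z ∈ O ↔ z ∈ MulAction.orbit H (c (pt 1)) := fun z => Set.Finite.mem_toFinset _
  have h16 : c • mset 3715070 ⊆ O := fun z hz => by
    obtain ⟨y, hy, rfl⟩ := Finset.mem_smul_finset.1 hz
    obtain ⟨g, hg, rfl⟩ := exists_fix8 y hy
    obtain ⟨h, hh, hcz⟩ := hcH ⟨g, hg⟩
    rw [hmemO]
    exact ⟨⟨h, hh⟩, hcz (pt 1)⟩
  have hxO : x ∉ O := fun h => by
    obtain ⟨g, hg⟩ := (hmemO x).1 h
    have hfix : ((g : ↥(MulAction.stabilizer M24 x)) : M24) • x = x :=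
      MulAction.mem_stabilizer_iff.1 (g : ↥(MulAction.stabilizer M24 x)).2
    have e : c (pt 1) = x := MulAction.injective (((g : ↥(MulAction.stabilizer M24 x))) : M24)
      (hg.trans hfix.symm)
    rw [← hcx] at e
    exact absurd (c.injective e) (by decide +kernel)
  have hinvO : ∀ h ∈ H, h • O = O := fun h hh => by
    refine Finset.eq_of_subset_of_card_le (fun z hz => ?_)
      (Finset.card_smul_finset ((h : M24) : Equiv.Perm GolayPt) O).ge
    obtain ⟨w, hw, rfl⟩ := Finset.mem_smul_finset.1 hz
    rw [hmemO] at hw ⊢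
    exact MulAction.mem_orbit_of_mem_orbit (⟨h, hh⟩ : H) hw
  have hdvd : O.card ∣ 40320 := by
    rw [← hcardH]
    have : O.card = Nat.card (MulAction.orbit H (c (pt 1))) := by
      rw [Nat.card_coe_set_eq, Set.ncard_eq_toFinset_card]
    rw [this, Nat.card_congr (MulAction.orbitEquivQuotientStabilizer H _)]
    exact Subgroup.card_quotient_dvd_card _
  have hO16 : 16 ≤ O.card := by
    refine le_trans ?_ (Finset.card_le_card h16)
    rw [Finset.card_smul_finset, card_mset]
    decide +kernel
  set W := (Finset.univ.erase x) \ O with hW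
  have hWc : W.card + O.card = 23 := by
    rw [hW, Finset.card_sdiff_add_card_eq_card, card_univ_erase]
    exact fun z hz => Finset.mem_erase.2 ⟨fun e => hxO (e ▸ hz), Finset.mem_univ _⟩
  have hWx : x ∉ W := fun h => absurd rfl (Finset.mem_erase.1 (Finset.mem_sdiff.1 h).1).1
  have hinvW : ∀ h ∈ H, h • W = W := fun h hh => by
    show ((h : M24) : Equiv.Perm GolayPt) • W = W
    have hx : ((h : M24) : Equiv.Perm GolayPt) • x = x := MulAction.mem_stabilizer_iff.1 h.2
    have hO' : ((h : M24) : Equiv.Perm GolayPt) • O = O := hinvO h hh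
    rw [hW, Finset.smul_finset_sdiff, hO', ← Finset.sdiff_singleton_eq_erase,
      Finset.smul_finset_sdiff, Finset.smul_finset_univ, Finset.smul_finset_singleton, hx]
  have hle : H ≤ (MulAction.stabilizer M24 W).subgroupOf (MulAction.stabilizer M24 x) :=
    fun h hh => hinvW h hh
  have horbW : (MulAction.orbit ↥(MulAction.stabilizer M24 x) W).ncard ≤ 253 := by
    rw [← index_stab]
    exact Nat.le_of_dvd (by norm_num) (hH ▸ Subgroup.index_dvd_of_le hle)
  have hcases : O.card = 16 ∨ O.card = 18 ∨ O.card = 20 ∨ O.card = 21 := by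
    have h23 : O.card ≤ 23 := by omega
    interval_cases O.card <;> first | omega | norm_num at hdvd
  rcases hcases with h | h | h | h
  · refine Or.inr ⟨c • mset 13062145, smul_mem_octads hcM octad_five_mem, ?_, ?_⟩
    · rw [← hcx]
      exact Finset.smul_mem_smul_finset (s := mset 13062145) (by decide +kernel)
    · have hOeq : c • mset 3715070 = O := Finset.eq_of_subset_of_card_le h16 (by
        rw [h, Finset.card_smul_finset, card_mset]; decide +kernel)
      have ho' : c • mset 13062145 = Oᶜ := by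
        rw [← hOeq, show (3715070 : ℕ) = 16777215 ^^^ 13062145 by decide +kernel, mset_compl,
          Finset.compl_eq_univ_sdiff (c • _), Finset.compl_eq_univ_sdiff, Finset.smul_finset_sdiff,
          Finset.smul_finset_univ, sdiff_sdiff_right_self]
        simp
      refine eq_of_index (fun g hg => ?_) ?_
      · show ((g : M24) : Equiv.Perm GolayPt) • (c • mset 13062145) = c • mset 13062145
        have hO' : ((g : M24) : Equiv.Perm GolayPt) • O = O := hinvO g hg
        rw [ho', Finset.compl_eq_univ_sdiff, Finset.smul_finset_sdiff, Finset.smul_finset_univ, hO']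
      · rw [hH, index_stab, ncard_orbit_heptad (smul_mem_octads hcM octad_five_mem)]
        rw [← hcx]
        exact Finset.smul_mem_smul_finset (s := mset 13062145) (by decide +kernel)
  · exact (not_small hWx (Or.inr (by omega)) horbW).elim
  · exact (not_small hWx (Or.inl (by omega)) horbW).elim
  · refine Or.inl ⟨W, by omega, hWx, eq_of_index hle ?_⟩
    rw [hH, index_stab, ncard_orbit_pair (by omega) hWx]

end Cfsg.Agent.GolayM23Index
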