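import Mathlib
import Cfsg.Agent.Lib.GolayOutConst
import Cfsg.Agent.Lib.GolayOutDataM11

/-!
Every automorphism of the smallest Mathieu group is inner.
-/

set_option autoImplicit false

namespace Cfsg.Agent.GolayOutM11

open Cfsg Cfsg.Agent.GolayBasic Cfsg.Agent.GolayPerm Cfsg.Agent.GolayChain Cfsg.Agent.GolaySolve
open Cfsg.Agent.GolayOutGen Cfsg.Agent.GolayOutTool Cfsg.Agent.GolayOutConst
open Cfsg.Agent.GolayOutDataM11

theorem chainT : chainCheck [] lvT = true := by decide +kernel

theorem chainU : chainCheck [] lvU = true := by decide +kernel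

theorem memT : ∀ T ∈ elts lvT, permOf T ∈ Spor.M11 := fun T hT =>
  mem_M11_of_check (List.all_eq_true.1
    (by decide +kernel : (elts lvT).all (memCheck [0] 340831) = true) T hT)

theorem memU : ∀ T ∈ elts lvU, permOf T ∈ Spor.M11 := fun T hT =>
  mem_M11_of_check (List.all_eq_true.1
    (by decide +kernel : (elts lvU).all (memCheck [0] 340831) = true) T hT)

theorem sizeT : Nat.card Spor.M11 = size lvT := by
  rw [GolayM24.card_M11]; decide +kernel

theorem sizeU : Nat.card Spor.M11 = size lvU := by
  rw [GolayM24.card_M11]; decide +kernel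

/-- generator of order eleven -/
noncomputable def gT : Spor.M11 := ⟨permOf pT, mem_M11_of_check (by decide +kernel)⟩

/-- element of order five -/
noncomputable def gU : Spor.M11 := ⟨permOf pU, mem_M11_of_check (by decide +kernel)⟩

/-- second generator -/
noncomputable def gV : Spor.M11 := ⟨permOf pV11, mem_M11_of_check (by decide +kernel)⟩

theorem closure_gens : Subgroup.closure ({gT, gV} : Set Spor.M11) = ⊤ := by
  refine closure_eq_top chainT memT sizeT [pT, pV11] steps _ (by decide +kernel) ?_
    (by decide +kernel) (by decide +kernel)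
  intro P hP
  rcases List.mem_cons.1 hP with rfl | hP
  · exact ⟨gT, Set.mem_insert _ _, rfl⟩
  · rw [List.mem_singleton.1 hP]; exact ⟨gV, Set.mem_insert_of_mem _ rfl, rfl⟩

theorem exists_normal_form (φ : MulAut Spor.M11) :
    ∃ ψ, Sim φ ψ ∧ ∀ x ∈ ({gT, gV} : Set Spor.M11), ψ x = x := by
  have hrT : gU * gT = gT ^ 4 * gU :=
    rel_of_word (P := pT) (Q := pU) rfl rfl (by decide +kernel) (by decide +kernel)
      (by decide +kernel)
  have hrU : gV * gU = gU ^ 2 * gV :=
    rel_of_word (P := pU) (Q := pV11) rfl rfl (by decide +kernel) (by decide +kernel)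
      (by decide +kernel)
  obtain ⟨ψ, hψ, hsign⟩ := exists_sim_sign (p := 11) (m := 720) (by norm_num) (by norm_num)
    (by rw [GolayM24.card_M11]) (x := gT) (y := gU)
    ((Subgroup.orderOf_coe gT).symm.trans (orderOf_eq_of_word (P := pT) (by decide +kernel)
      (by norm_num) (by decide +kernel) (by decide +kernel)))
    hrT (by decide) φ
  obtain ⟨χ, hχ, hχT, hχU⟩ := exists_sim_fix chainT memT sizeT (px := pT) (py := pU) (q := pT4)
    (r := 4) (rep := 1) (es := esU) (sols := solsU) (by decide +kernel) (by decide +kernel)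
    (by decide +kernel) (by decide +kernel) (x := gT) (y := gU) rfl rfl hrT hsign
  refine ⟨χ, sim_trans hψ hχ, ?_⟩
  have hrel := congrArg (fun g : Spor.M11 => (g : Equiv.Perm GolayPt))
    (rel_of_sign (Or.inl hχU) hrU)
  simp only [Subgroup.coe_mul, Subgroup.coe_pow] at hrel
  rw [show ((gU : Spor.M11) : Equiv.Perm GolayPt) = permOf pU from rfl,
    permOf_pow_eq (q := pU2) (by decide +kernel) (by decide +kernel) (by decide +kernel)] at hrel
  obtain ⟨s, hs, hsV⟩ := exists_sol chainU memU sizeU (x := pU) (y := pU2) (r := 2) (es := esV)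
    (sols := solsV) (by decide +kernel) (χ gV).2 hrel
  obtain ⟨e, he, heT⟩ : ∃ e ∈ [pT, pTinv], ((χ gT : Spor.M11) : Equiv.Perm GolayPt) = permOf e := by
    rcases hsign with h | h
    · exact ⟨pT, by simp, by rw [hχT, h]; rfl⟩
    · refine ⟨pTinv, by simp, ?_⟩
      rw [hχT, h]
      exact inv_eq_of_word (by decide +kernel) (by decide +kernel) (by decide +kernel)
  have hcase : (e = pT ∧ s = pV11) ∨
      ∃ w n, ([e, s], w, n) ∈ seps := by
    have key : ∀ e ∈ [pT, pTinv], ∀ s ∈ solsV,
        ((e == pT) && (s == pV11)) || seps.any (fun q => q.1 == [e, s]) := by decide +kernel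
    have h := key e he s hs
    simp only [Bool.or_eq_true, Bool.and_eq_true, beq_iff_eq, List.any_eq_true] at h
    rcases h with h | ⟨⟨cs, w, n⟩, hq, h⟩
    · exact Or.inl h
    · exact Or.inr ⟨w, n, by rw [← h]; exact hq⟩
  rcases hcase with ⟨rfl, rfl⟩ | ⟨w, n, hq⟩
  · intro x hx
    rcases hx with rfl | rfl
    · exact Subtype.ext heT
    · exact Subtype.ext hsV
  · have hall : seps.all (fun q => [pT, pV11].all valid && q.1.all valid &&
        q.2.1.all (fun i => decide (i < 2)) &&
        (isId (List.replicate q.2.2 (q.2.1.map fun i => [pT, pV11].getD i 0)).flatten !=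
          isId (List.replicate q.2.2 (q.2.1.map fun i => q.1.getD i 0)).flatten)) = true := by
      decide +kernel
    exact absurd (false_of_sep χ [gT, gV] [χ gT, χ gV] rfl (by simp [heT, hsV]) rfl w n
      (List.all_eq_true.1 hall _ hq)) id

theorem card_out : Nat.card (Out Spor.M11) = 1 :=
  card_out_eq_one closure_gens exists_normal_form

end Cfsg.Agent.GolayOutM11
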