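import Mathlib
import Cfsg.Agent.Lib.GolayOutConst
import Cfsg.Agent.Lib.GolayOutDataM22
import Cfsg.Agent.Lib.GolayStab
import Cfsg.Agent.Lib.GolayOutOuter

/-!
The outer automorphism group of the Mathieu group of degree 22 has order two.
-/

set_option autoImplicit false

namespace Cfsg.Agent.GolayOutM22

open Cfsg Cfsg.Agent.GolayBasic Cfsg.Agent.GolayPerm Cfsg.Agent.GolayChain Cfsg.Agent.GolaySolve
open Cfsg.Agent.GolayOutGen Cfsg.Agent.GolayOutTool Cfsg.Agent.GolayOutConst
open Cfsg.Agent.GolayOutDataM22 Cfsg.Agent.GolayOutOuter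
open scoped Pointwise

theorem chainT : chainCheck [] lvT = true := by decide +kernel

theorem chainU : chainCheck [] lvU = true := by decide +kernel

theorem memT : ∀ T ∈ elts lvT, permOf T ∈ Spor.M22 := fun T hT =>
  mem_M22_of_check (List.all_eq_true.1
    (by decide +kernel : (elts lvT).all (memCheck [23, 0] 16777215) = true) T hT)

theorem memU : ∀ T ∈ elts lvU, permOf T ∈ Spor.M22 := fun T hT =>
  mem_M22_of_check (List.all_eq_true.1
    (by decide +kernel : (elts lvU).all (memCheck [23, 0] 16777215) = true) T hT)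

theorem sizeT : Nat.card Spor.M22 = size lvT := by
  rw [GolayM24.card_M22]; decide +kernel

theorem sizeU : Nat.card Spor.M22 = size lvU := by
  rw [GolayM24.card_M22]; decide +kernel

/-- generator of order eleven -/
noncomputable def gT : Spor.M22 := ⟨permOf pT, mem_M22_of_check (by decide +kernel)⟩

/-- element of order five -/
noncomputable def gU : Spor.M22 := ⟨permOf pU, mem_M22_of_check (by decide +kernel)⟩

/-- second generator -/
noncomputable def gV : Spor.M22 := ⟨permOf pV22, mem_M22_of_check (by decide +kernel)⟩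

theorem closure_gens : Subgroup.closure ({gT, gV} : Set Spor.M22) = ⊤ := by
  refine closure_eq_top chainT memT sizeT [pT, pV22] steps _ (by decide +kernel) ?_
    (by decide +kernel) (by decide +kernel)
  intro P hP
  rcases List.mem_cons.1 hP with rfl | hP
  · exact ⟨gT, Set.mem_insert _ _, rfl⟩
  · rw [List.mem_singleton.1 hP]; exact ⟨gV, Set.mem_insert_of_mem _ rfl, rfl⟩

open scoped Classical in
/-- the images under the outer automorphism in normal form -/
noncomputable def flipT (x : Spor.M22) : Spor.M22 := if x = gT then gT⁻¹ else x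

theorem exists_normal_form (φ : MulAut Spor.M22) :
    ∃ ψ, Sim φ ψ ∧ ((∀ x ∈ ({gT, gV} : Set Spor.M22), ψ x = x) ∨
      ∀ x ∈ ({gT, gV} : Set Spor.M22), ψ x = flipT x) := by
  have hrT : gU * gT = gT ^ 4 * gU :=
    rel_of_word (P := pT) (Q := pU) rfl rfl (by decide +kernel) (by decide +kernel)
      (by decide +kernel)
  have hrU : gV * gU = gU ^ 2 * gV :=
    rel_of_word (P := pU) (Q := pV22) rfl rfl (by decide +kernel) (by decide +kernel)
      (by decide +kernel)
  obtain ⟨ψ, hψ, hsign⟩ := exists_sim_sign (p := 11) (m := 40320) (by norm_num) (by norm_num)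
    (by rw [GolayM24.card_M22]) (x := gT) (y := gU)
    ((Subgroup.orderOf_coe gT).symm.trans (orderOf_eq_of_word (P := pT) (by decide +kernel)
      (by norm_num) (by decide +kernel) (by decide +kernel)))
    hrT (by decide) φ
  obtain ⟨χ, hχ, hχT, hχU⟩ := exists_sim_fix chainT memT sizeT (px := pT) (py := pU) (q := pT4)
    (r := 4) (rep := 1) (es := esU) (sols := solsU) (by decide +kernel) (by decide +kernel)
    (by decide +kernel) (by decide +kernel) (x := gT) (y := gU) rfl rfl hrT hsign
  refine ⟨χ, sim_trans hψ hχ, ?_⟩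
  have hrel := congrArg (fun g : Spor.M22 => (g : Equiv.Perm GolayPt))
    (rel_of_sign (Or.inl hχU) hrU)
  simp only [Subgroup.coe_mul, Subgroup.coe_pow] at hrel
  rw [show ((gU : Spor.M22) : Equiv.Perm GolayPt) = permOf pU from rfl,
    permOf_pow_eq (q := pU2) (by decide +kernel) (by decide +kernel) (by decide +kernel)] at hrel
  obtain ⟨s, hs, hsV⟩ := exists_sol chainU memU sizeU (x := pU) (y := pU2) (r := 2) (es := esV)
    (sols := solsV) (by decide +kernel) (χ gV).2 hrel
  obtain ⟨e, he, heT⟩ : ∃ e ∈ [pT, pTinv], ((χ gT : Spor.M22) : Equiv.Perm GolayPt) = permOf e := by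
    rcases hsign with h | h
    · exact ⟨pT, by simp, by rw [hχT, h]; rfl⟩
    · refine ⟨pTinv, by simp, ?_⟩
      rw [hχT, h]
      exact inv_eq_of_word (by decide +kernel) (by decide +kernel) (by decide +kernel)
  have hcase : (e = pT ∧ s = pV22) ∨ (e = pTinv ∧ s = pV22) ∨
      ∃ w n, ([e, s], w, n) ∈ seps := by
    have key : ∀ e ∈ [pT, pTinv], ∀ s ∈ solsV,
        ((e == pT) && (s == pV22)) || ((e == pTinv) && (s == pV22)) || seps.any (fun q => q.1 == [e, s]) := by decide +kernel
    have h := key e he s hs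
    simp only [Bool.or_eq_true, Bool.and_eq_true, beq_iff_eq, List.any_eq_true] at h
    rcases h with (h | h) | ⟨⟨cs, w, n⟩, hq, h⟩
    · exact Or.inl h
    · exact Or.inr (Or.inl h)
    · exact Or.inr (Or.inr ⟨w, n, by rw [← h]; exact hq⟩)
  rcases hcase with ⟨rfl, rfl⟩ | ⟨rfl, rfl⟩ | ⟨w, n, hq⟩
  · left
    intro x hx
    rcases hx with rfl | rfl
    · exact Subtype.ext heT
    · exact Subtype.ext hsV
  · right
    have hne : gV ≠ gT := fun h => by
      have := congrArg (fun g : Spor.M22 => idx ((g : Equiv.Perm GolayPt) (pt 1))) h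
      simp only [gV, gT] at this
      rw [idx_permOf (by decide +kernel), idx_permOf (by decide +kernel)] at this
      exact absurd this (by decide +kernel)
    intro x hx
    rcases hx with rfl | rfl
    · rw [flipT, if_pos rfl]
      apply Subtype.ext
      rw [heT]
      exact (inv_eq_of_word (by decide +kernel) (by decide +kernel) (by decide +kernel)).symm
    · rw [flipT, if_neg hne]
      exact Subtype.ext hsV
  · have hall : seps.all (fun q => [pT, pV22].all valid && q.1.all valid &&
        q.2.1.all (fun i => decide (i < 2)) &&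
        (isId (List.replicate q.2.2 (q.2.1.map fun i => [pT, pV22].getD i 0)).flatten !=
          isId (List.replicate q.2.2 (q.2.1.map fun i => q.1.getD i 0)).flatten)) = true := by
      decide +kernel
    exact absurd (false_of_sep χ [gT, gV] [χ gT, χ gV] rfl (by simp [heT, hsV]) rfl w n
      (List.all_eq_true.1 hall _ hq)) id

theorem mem_iff {g : Equiv.Perm GolayPt} :
    g ∈ Spor.M22 ↔ g ∈ M24 ∧ g • (none : GolayPt) = none ∧ g • (some 0 : GolayPt) = some 0 := by
  rw [GolayM24.M22_eq, mem_fixList]
  simp only [List.forall_mem_cons, List.not_mem_nil, false_implies, implies_true, and_true,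
    GolayM24.pt_none, GolayM24.pt_zero]
  rfl

theorem card_out : Nat.card (Out Spor.M22) = 2 := by
  obtain ⟨s, hs, h1, h2⟩ :=
    GolayStab.exists_map_two (p := (some 0 : GolayPt)) (q := none) (by simp)
  have hn : ∀ g, g ∈ Spor.M22 ↔ s * g * s⁻¹ ∈ Spor.M22 := by
    intro g
    have e1 : s⁻¹ • (some 0 : GolayPt) = none := inv_smul_eq_iff.2 h1.symm
    have e2 : s⁻¹ • (none : GolayPt) = some 0 := inv_smul_eq_iff.2 h2.symm
    rw [mem_iff, mem_iff]
    constructor
    · rintro ⟨hg, a, b⟩
      exact ⟨mul_mem (mul_mem hs hg) (inv_mem hs), by rw [mul_smul, mul_smul, e2, b, h2],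
        by rw [mul_smul, mul_smul, e1, a, h1]⟩
    · rintro ⟨hg, a, b⟩
      rw [mul_smul, mul_smul, smul_eq_iff_eq_inv_smul] at a b
      rw [e2] at a
      rw [e1] at b
      refine ⟨?_, b, a⟩
      simpa [mul_assoc] using mul_mem (mul_mem (inv_mem hs) hg) hs
  refine card_out_eq_two closure_gens flipT exists_normal_form (autOf s hn) ?_
  refine not_mem_inn (gT := gT) s hn hs (fun g hg x hx hcomm e => ?_) fun g hg => (mem_iff.1 hg).1
  obtain ⟨a, ha, rfl⟩ := exists_cent_T hx hcomm
  have ha0 : permOf a • (some 0 : GolayPt) = some 0 := by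
    rw [← GolayM24.pt_zero]
    apply idx_inj
    rw [Equiv.Perm.smul_def, idx_permOf (solsCent_valid a ha), idx_pt (by norm_num)]
    exact (by decide +kernel : ∀ a ∈ GolayOutDataM24.solsCent, pimg a 0 = 0) a ha
  have h3 : s • (some 0 : GolayPt) = some 0 := by
    rw [e, mul_smul, ha0, (mem_iff.1 hg).2.2]
  rw [h2] at h3
  exact absurd h3 (by simp)

end Cfsg.Agent.GolayOutM22
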