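import Mathlib
import Cfsg.Agent.Lib.GolayOutConst
import Cfsg.Agent.Lib.GolayOutDataM23

/-!
Every automorphism of the Mathieu group of degree 23 is inner.
-/

set_option autoImplicit false

namespace Cfsg.Agent.GolayOutM23

open Cfsg Cfsg.Agent.GolayBasic Cfsg.Agent.GolayPerm Cfsg.Agent.GolayChain Cfsg.Agent.GolaySolve
open Cfsg.Agent.GolayOutGen Cfsg.Agent.GolayOutTool Cfsg.Agent.GolayOutConst
open Cfsg.Agent.GolayOutDataM23

theorem chainT : chainCheck [] lvT = true := by decide +kernel

theorem chainZ : chainCheck [] lvU = true := by decide +kernel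

theorem memT : ∀ T ∈ elts lvT, permOf T ∈ Spor.M23 := fun T hT =>
  mem_M23_of_check (List.all_eq_true.1
    (by decide +kernel : (elts lvT).all (memCheck [23] 16777215) = true) T hT)

theorem memZ : ∀ T ∈ elts lvU, permOf T ∈ Spor.M23 := fun T hT =>
  mem_M23_of_check (List.all_eq_true.1
    (by decide +kernel : (elts lvU).all (memCheck [23] 16777215) = true) T hT)

theorem sizeT : Nat.card Spor.M23 = size lvT := by
  rw [GolayM24.card_M23]; decide +kernel

theorem sizeZ : Nat.card Spor.M23 = size lvU := by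
  rw [GolayM24.card_M23]; decide +kernel

/-- generator of order 23 -/
noncomputable def gZ : Spor.M23 := ⟨permOf pZ, mem_M23_of_check (by decide +kernel)⟩

/-- generator of order eleven -/
noncomputable def gT : Spor.M23 := ⟨permOf pT, mem_M23_of_check (by decide +kernel)⟩

/-- third generator -/
noncomputable def gU : Spor.M23 := ⟨permOf pU, mem_M23_of_check (by decide +kernel)⟩

theorem closure_gens : Subgroup.closure ({gZ, gT, gU} : Set Spor.M23) = ⊤ := by
  refine closure_eq_top chainT memT sizeT [pZ, pT, pU] steps _ (by decide +kernel) ?_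
    (by decide +kernel) (by decide +kernel)
  intro P hP
  rcases List.mem_cons.1 hP with rfl | hP
  · exact ⟨gZ, Set.mem_insert _ _, rfl⟩
  rcases List.mem_cons.1 hP with rfl | hP
  · exact ⟨gT, Set.mem_insert_of_mem _ (Set.mem_insert _ _), rfl⟩
  · rw [List.mem_singleton.1 hP]
    exact ⟨gU, Set.mem_insert_of_mem _ (Set.mem_insert_of_mem _ rfl), rfl⟩

theorem exists_normal_form (φ : MulAut Spor.M23) :
    ∃ ψ, Sim φ ψ ∧ ∀ x ∈ ({gZ, gT, gU} : Set Spor.M23), ψ x = x := by
  have hrZ : gT * gZ = gZ ^ 2 * gT :=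
    rel_of_word (P := pZ) (Q := pT) rfl rfl (by decide +kernel) (by decide +kernel)
      (by decide +kernel)
  have hrT : gU * gT = gT ^ 4 * gU :=
    rel_of_word (P := pT) (Q := pU) rfl rfl (by decide +kernel) (by decide +kernel)
      (by decide +kernel)
  obtain ⟨ψ, hψ, hsign⟩ := exists_sim_sign (p := 23) (m := 443520) (by norm_num) (by norm_num)
    (by rw [GolayM24.card_M23]) (x := gZ) (y := gT)
    ((Subgroup.orderOf_coe gZ).symm.trans (orderOf_eq_of_word (P := pZ) (by decide +kernel)
      (by norm_num) (by decide +kernel) (by decide +kernel)))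
    hrZ (by decide) φ
  obtain ⟨χ, hχ, hχZ, hχT⟩ := exists_sim_fix chainZ memZ sizeZ (px := pZ) (py := pT) (q := pZ2)
    (r := 2) (rep := 0) (es := esT) (sols := solsT) (by decide +kernel) (by decide +kernel)
    (by decide +kernel) (by decide +kernel) (x := gZ) (y := gT) rfl rfl hrZ hsign
  refine ⟨χ, sim_trans hψ hχ, ?_⟩
  have hrel := congrArg (fun g : Spor.M23 => (g : Equiv.Perm GolayPt))
    (rel_of_sign (Or.inl hχT) hrT)
  simp only [Subgroup.coe_mul, Subgroup.coe_pow] at hrel
  rw [show ((gT : Spor.M23) : Equiv.Perm GolayPt) = permOf pT from rfl,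
    permOf_pow_eq (q := pT4) (by decide +kernel) (by decide +kernel) (by decide +kernel)] at hrel
  obtain ⟨s, hs, hsU⟩ := exists_sol chainT memT sizeT (x := pT) (y := pT4) (r := 1) (es := esU)
    (sols := solsU) (by decide +kernel) (χ gU).2 hrel
  obtain ⟨e, he, heZ⟩ : ∃ e ∈ [pZ, pZinv], ((χ gZ : Spor.M23) : Equiv.Perm GolayPt) = permOf e := by
    rcases hsign with h | h
    · exact ⟨pZ, by simp, by rw [hχZ, h]; rfl⟩
    · refine ⟨pZinv, by simp, ?_⟩
      rw [hχZ, h]
      exact inv_eq_of_word (by decide +kernel) (by decide +kernel) (by decide +kernel)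
  have hcase : (e = pZ ∧ s = pU) ∨
      ∃ w n, ([e, pT, s], w, n) ∈ seps := by
    have key : ∀ e ∈ [pZ, pZinv], ∀ s ∈ solsU,
        ((e == pZ) && (s == pU)) || seps.any (fun q => q.1 == [e, pT, s]) := by decide +kernel
    have h := key e he s hs
    simp only [Bool.or_eq_true, Bool.and_eq_true, beq_iff_eq, List.any_eq_true] at h
    rcases h with h | ⟨⟨cs, w, n⟩, hq, h⟩
    · exact Or.inl h
    · exact Or.inr ⟨w, n, by rw [← h]; exact hq⟩
  rcases hcase with ⟨rfl, rfl⟩ | ⟨w, n, hq⟩
  · intro x hx
    rcases hx with rfl | rfl | rfl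
    · exact Subtype.ext heZ
    · exact hχT
    · exact Subtype.ext hsU
  · have hall : seps.all (fun q => [pZ, pT, pU].all valid && q.1.all valid &&
        q.2.1.all (fun i => decide (i < 3)) &&
        (isId (List.replicate q.2.2 (q.2.1.map fun i => [pZ, pT, pU].getD i 0)).flatten !=
          isId (List.replicate q.2.2 (q.2.1.map fun i => q.1.getD i 0)).flatten)) = true := by
      decide +kernel
    exact absurd (false_of_sep χ [gZ, gT, gU] [χ gZ, χ gT, χ gU] rfl
      (by simp only [List.map_cons, List.map_nil, heZ, hsU, hχT]; rfl) rfl w n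
      (List.all_eq_true.1 hall _ hq)) id

theorem card_out : Nat.card (Out Spor.M23) = 1 :=
  card_out_eq_one closure_gens exists_normal_form

end Cfsg.Agent.GolayOutM23
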