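import Cfsg.Agent.Lib.GolayM22Index
import Cfsg.Agent.Lib.GolayM24
import Cfsg.Agent.Lib.GolaySimple

/-!
The projective special linear group on the 24 points and the stabiliser of a point in it.
-/

set_option autoImplicit false

namespace Cfsg.Agent.GolayPSL23Max70

open Cfsg Cfsg.Agent.GolayBasic Cfsg.Agent.GolayPerm Cfsg.Agent.GolayM24
open scoped Pointwise

/-- translation -/
abbrev T (c : ZMod 23) : Equiv.Perm GolayPt := Equiv.optionCongr (Equiv.addRight c)

/-- multiplication -/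
abbrev D (u : (ZMod 23)ˣ) : Equiv.Perm GolayPt := Equiv.optionCongr (Units.mulLeft u)

/-- the square units -/
abbrev Sq : Type := {u : (ZMod 23)ˣ // ∃ r, u = r * r}

theorem TD_none (a : ZMod 23) (u : (ZMod 23)ˣ) : (T a * D u) none = none := rfl

theorem TD_some (a : ZMod 23) (u : (ZMod 23)ˣ) (x : ZMod 23) :
    (T a * D u) (some x) = some ((u : ZMod 23) * x + a) := rfl

theorem TT (a b : ZMod 23) : T a * T b = T (a + b) :=
  Equiv.ext fun p => by
    cases p with
    | none => rfl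
    | some x =>
      show some (x + b + a) = some (x + (a + b))
      rw [add_assoc, add_comm b a]

theorem DD (u v : (ZMod 23)ˣ) : D u * D v = D (u * v) :=
  Equiv.ext fun p => by
    cases p with
    | none => rfl
    | some x =>
      show some ((u : ZMod 23) * ((v : ZMod 23) * x)) = some (((u * v : (ZMod 23)ˣ) : ZMod 23) * x)
      rw [Units.val_mul, mul_assoc]

theorem DT (u : (ZMod 23)ˣ) (c : ZMod 23) : D u * T c = T ((u : ZMod 23) * c) * D u :=
  Equiv.ext fun p => by
    cases p with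
    | none => rfl
    | some x =>
      show some ((u : ZMod 23) * (x + c)) = some ((u : ZMod 23) * x + (u : ZMod 23) * c)
      rw [mul_add]

theorem T_zero : T 0 = 1 :=
  Equiv.ext fun p => by
    cases p with
    | none => rfl
    | some x => exact congrArg some (add_zero x)

theorem D_one : D 1 = 1 :=
  Equiv.ext fun p => by
    cases p with
    | none => rfl
    | some x => exact congrArg some (one_mul x)

theorem T_inv (c : ZMod 23) : (T c)⁻¹ = T (-c) :=
  inv_eq_of_mul_eq_one_right (by rw [TT, add_neg_cancel, T_zero])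

theorem D_inv (u : (ZMod 23)ˣ) : (D u)⁻¹ = D u⁻¹ :=
  inv_eq_of_mul_eq_one_right (by rw [DD, mul_inv_cancel, D_one])

theorem ww : projInv * projInv = 1 := Equiv.ext fun p => projInv.left_inv p

theorem wD : ∀ u : (ZMod 23)ˣ, ∀ p : GolayPt, (projInv * D u) p = (D u⁻¹ * projInv) p := by
  decide +kernel

theorem wTw : ∀ c : (ZMod 23)ˣ, ∀ p : GolayPt, (projInv * T (c : ZMod 23) * projInv) p =
    (T (-((c⁻¹ : (ZMod 23)ˣ) : ZMod 23)) * D (c⁻¹ * c⁻¹) * projInv *
      T (-((c⁻¹ : (ZMod 23)ˣ) : ZMod 23))) p := by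
  decide +kernel

theorem sq_mul {u v : (ZMod 23)ˣ} (hu : ∃ r, u = r * r) (hv : ∃ r, v = r * r) :
    ∃ r, u * v = r * r := by
  obtain ⟨r, rfl⟩ := hu
  obtain ⟨s, rfl⟩ := hv
  exact ⟨r * s, mul_mul_mul_comm _ _ _ _⟩

theorem sq_inv {u : (ZMod 23)ˣ} (hu : ∃ r, u = r * r) : ∃ r, u⁻¹ = r * r := by
  obtain ⟨r, rfl⟩ := hu
  exact ⟨r⁻¹, mul_inv _ _⟩

/-- the affine generators -/
abbrev gensB : Set (Equiv.Perm GolayPt) :=
  {Equiv.optionCongr (Equiv.addRight (1 : ZMod 23))} ∪
    {g : Equiv.Perm GolayPt | ∃ u : (ZMod 23)ˣ, IsSquare u ∧ g = Equiv.optionCongr (Units.mulLeft u)}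

/-- all generators -/
abbrev gensL : Set (Equiv.Perm GolayPt) :=
  {Equiv.optionCongr (Equiv.addRight (1 : ZMod 23)), Cfsg.projInv} ∪
    {g : Equiv.Perm GolayPt | ∃ u : (ZMod 23)ˣ, IsSquare u ∧ g = Equiv.optionCongr (Units.mulLeft u)}

/-- the point stabiliser -/
abbrev B : Subgroup (Equiv.Perm GolayPt) := Subgroup.closure gensB

/-- the whole group -/
abbrev L : Subgroup (Equiv.Perm GolayPt) := Subgroup.closure gensL

theorem B_le_L : B ≤ L := Subgroup.closure_mono fun g hg => by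
  rcases hg with h | h
  · exact Or.inl (Or.inl h)
  · exact Or.inr h

theorem T_mem (a : ZMod 23) : T a ∈ B := by
  have h : ∀ n : ℕ, T (n : ZMod 23) ∈ B := fun n => by
    induction n with
    | zero => rw [Nat.cast_zero, T_zero]; exact one_mem _
    | succ n ih =>
      rw [Nat.cast_succ, ← TT]
      exact mul_mem ih (Subgroup.subset_closure (Or.inl rfl))
  simpa [ZMod.natCast_zmod_val] using h a.val

theorem D_mem {u : (ZMod 23)ˣ} (h : ∃ r, u = r * r) : D u ∈ B :=
  Subgroup.subset_closure (Or.inr ⟨u, h, rfl⟩)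

theorem w_mem : projInv ∈ L := Subgroup.subset_closure (Or.inl (Or.inr rfl))

/-- the members of the affine group -/
def mkB (p : ZMod 23 × Sq) : Equiv.Perm GolayPt := T p.1 * D p.2.1

/-- the members of the group -/
def mkL : Option (ZMod 23) × (ZMod 23 × Sq) → Equiv.Perm GolayPt
  | (none, p) => mkB p
  | (some c, p) => mkB p * projInv * T c

theorem one_mem_mkB : ∃ q, mkB q = 1 :=
  ⟨(0, ⟨1, 1, (one_mul _).symm⟩), by rw [mkB, T_zero, D_one, mul_one]⟩

theorem mkB_T (p : ZMod 23 × Sq) (c : ZMod 23) : ∃ q, mkB q = mkB p * T c :=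
  ⟨(p.1 + (p.2.1 : ZMod 23) * c, p.2), by rw [mkB, mkB, mul_assoc, DT, ← mul_assoc, TT]⟩

theorem mkB_D (p : ZMod 23 × Sq) {v : (ZMod 23)ˣ} (hv : ∃ r, v = r * r) :
    ∃ q, mkB q = mkB p * D v :=
  ⟨(p.1, ⟨p.2.1 * v, sq_mul p.2.2 hv⟩), by rw [mkB, mkB, mul_assoc, DD]⟩

theorem mkL_T (p : Option (ZMod 23) × (ZMod 23 × Sq)) (c : ZMod 23) :
    ∃ q, mkL q = mkL p * T c := by
  obtain ⟨o, p⟩ := p
  cases o with
  | none =>
    obtain ⟨q, hq⟩ := mkB_T p c
    exact ⟨(none, q), hq⟩
  | some a => exact ⟨(some (a + c), p), by rw [mkL, mkL, mul_assoc (mkB p * projInv), TT]⟩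

theorem mkL_D (p : Option (ZMod 23) × (ZMod 23 × Sq)) {v : (ZMod 23)ˣ} (hv : ∃ r, v = r * r) :
    ∃ q, mkL q = mkL p * D v := by
  obtain ⟨o, p⟩ := p
  cases o with
  | none =>
    obtain ⟨q, hq⟩ := mkB_D p hv
    exact ⟨(none, q), hq⟩
  | some a =>
    obtain ⟨q, hq⟩ := mkB_D p (sq_inv hv)
    refine ⟨(some (((v⁻¹ : (ZMod 23)ˣ) : ZMod 23) * a), q), ?_⟩
    have e1 : T a * D v = D v * T (((v⁻¹ : (ZMod 23)ˣ) : ZMod 23) * a) := by
      rw [DT, ← mul_assoc, Units.mul_inv, one_mul]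
    rw [mkL, mkL, hq, mul_assoc (mkB p * projInv), e1, ← mul_assoc (mkB p * projInv),
      mul_assoc (mkB p) projInv, Equiv.ext (wD v), mul_assoc (mkB p)]

instance fact23 : Fact (Nat.Prime 23) := ⟨by norm_num⟩

theorem mkL_w (p : Option (ZMod 23) × (ZMod 23 × Sq)) :
    ∃ q, mkL q = mkL p * projInv := by
  obtain ⟨o, p⟩ := p
  cases o with
  | none => exact ⟨(some 0, p), by rw [mkL, mkL, T_zero, mul_one]⟩
  | some a =>
    by_cases ha : a = 0
    · exact ⟨(none, p), by rw [mkL, mkL, ha, T_zero, mul_one, mul_assoc, ww, mul_one]⟩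
    · set c : (ZMod 23)ˣ := Units.mk0 a ha with hc
      obtain ⟨q, hq⟩ := mkB_T p (-((c⁻¹ : (ZMod 23)ˣ) : ZMod 23))
      obtain ⟨q', hq'⟩ := mkB_D q (v := c⁻¹ * c⁻¹) ⟨c⁻¹, rfl⟩
      refine ⟨(some (-((c⁻¹ : (ZMod 23)ˣ) : ZMod 23)), q'), ?_⟩
      rw [mkL, mkL, hq', hq, show T a = T (c : ZMod 23) by rw [hc, Units.val_mk0],
        mul_assoc (mkB p) projInv, mul_assoc (mkB p) (projInv * _), Equiv.ext (wTw c)]
      simp only [mul_assoc]

theorem exists_mkB {g : Equiv.Perm GolayPt} (hg : g ∈ B) : ∃ q, mkB q = g := by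
  induction hg using Subgroup.closure_induction_right with
  | one => exact one_mem_mkB
  | mul_right x _ y hy ih =>
    obtain ⟨q, rfl⟩ := ih
    rcases hy with rfl | ⟨u, hu, rfl⟩
    · exact mkB_T q 1
    · exact mkB_D q hu
  | mul_inv_cancel x _ y hy ih =>
    obtain ⟨q, rfl⟩ := ih
    rcases hy with rfl | ⟨u, hu, rfl⟩
    · show ∃ q', mkB q' = mkB q * (T 1)⁻¹
      rw [T_inv]
      exact mkB_T q _
    · show ∃ q', mkB q' = mkB q * (D u)⁻¹
      rw [D_inv]
      exact mkB_D q (sq_inv hu)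

theorem exists_mkL {g : Equiv.Perm GolayPt} (hg : g ∈ L) : ∃ q, mkL q = g := by
  induction hg using Subgroup.closure_induction_right with
  | one =>
    obtain ⟨q, hq⟩ := one_mem_mkB
    exact ⟨(none, q), hq⟩
  | mul_right x _ y hy ih =>
    obtain ⟨q, rfl⟩ := ih
    rcases hy with (rfl | rfl) | ⟨u, hu, rfl⟩
    · exact mkL_T q 1
    · exact mkL_w q
    · exact mkL_D q hu
  | mul_inv_cancel x _ y hy ih =>
    obtain ⟨q, rfl⟩ := ih
    rcases hy with (rfl | rfl) | ⟨u, hu, rfl⟩
    · show ∃ q', mkL q' = mkL q * (T 1)⁻¹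
      rw [T_inv]
      exact mkL_T q _
    · rw [inv_eq_of_mul_eq_one_right ww]
      exact mkL_w q
    · show ∃ q', mkL q' = mkL q * (D u)⁻¹
      rw [D_inv]
      exact mkL_D q (sq_inv hu)

theorem card_dom : Fintype.card (ZMod 23 × Sq) = 253 := by
  rw [Fintype.card_prod, ZMod.card]
  have : Fintype.card Sq = 11 := by decide +kernel
  rw [this]

theorem mkB_injective : Function.Injective mkB := by
  rintro ⟨a, u, hu⟩ ⟨b, v, hv⟩ e
  have h0 := DFunLike.congr_fun e (some 0)
  have h1 := DFunLike.congr_fun e (some 1)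
  rw [mkB, mkB, TD_some, TD_some, Option.some.injEq, mul_zero, mul_zero, zero_add, zero_add] at h0
  rw [mkB, mkB, TD_some, TD_some, Option.some.injEq, mul_one, mul_one] at h1
  dsimp only at h0 h1
  subst h0
  obtain rfl : u = v := Units.ext (add_right_cancel h1)
  rfl

theorem card_B : Nat.card ↥B = 253 := by
  have hmem : ∀ q, mkB q ∈ B := fun q => mul_mem (T_mem _) (D_mem q.2.2)
  rw [← card_dom, ← Nat.card_eq_fintype_card]
  symm
  refine Nat.card_eq_of_bijective (fun q => (⟨mkB q, hmem q⟩ : ↥B))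
    ⟨fun p q e => mkB_injective (congrArg Subtype.val e), fun g => ?_⟩
  obtain ⟨q, hq⟩ := exists_mkB g.2
  exact ⟨q, Subtype.ext hq⟩

theorem card_L_le : Nat.card ↥L ≤ 6072 := by
  have hsub : (L : Set (Equiv.Perm GolayPt)) ⊆ Set.range mkL := fun g hg => exists_mkL hg
  have h := Set.ncard_le_ncard hsub (Set.finite_range mkL)
  rw [← Nat.card_coe_set_eq] at h
  refine h.trans ?_
  rw [← Nat.card_coe_set_eq]
  refine (Finite.card_range_le mkL).trans (le_of_eq ?_)
  rw [Nat.card_eq_fintype_card, Fintype.card_prod, Fintype.card_option, ZMod.card, card_dom]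

/-! ### inside the group of the code -/

theorem T_one_M24 : T 1 ∈ M24 := by
  refine mem_M24_of_rows fun b hb => ?_
  rw [mem_supports_mask]
  revert hb b
  decide +kernel

theorem w_M24 : projInv ∈ M24 := by
  refine mem_M24_of_rows fun b hb => ?_
  rw [mem_supports_mask]
  revert hb b
  decide +kernel

theorem D_M24 : ∀ u : Sq, D u.1 ∈ M24 := by
  intro u
  refine mem_M24_of_rows fun b hb => ?_
  rw [mem_supports_mask]
  revert hb b u
  decide +kernel

theorem L_le : L ≤ M24 := by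
  refine (Subgroup.closure_le _).2 ?_
  rintro g ((rfl | rfl) | ⟨u, hu, rfl⟩)
  · exact T_one_M24
  · exact w_M24
  · exact D_M24 ⟨u, hu⟩

theorem M23_def : Spor.M23 = M24 ⊓ MulAction.stabilizer (Equiv.Perm GolayPt) (none : GolayPt) := rfl

theorem B_le : B ≤ Spor.M23 := by
  intro g hg
  rw [M23_def]
  refine ⟨L_le (B_le_L hg), MulAction.mem_stabilizer_iff.2 ?_⟩
  obtain ⟨q, rfl⟩ := exists_mkB hg
  exact TD_none _ _

theorem exists_L_none (y : GolayPt) : ∃ g ∈ L, g none = y := by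
  cases y with
  | none => exact ⟨1, one_mem _, rfl⟩
  | some a =>
    refine ⟨T a * projInv, mul_mem (B_le_L (T_mem a)) w_mem, ?_⟩
    show some (0 + a) = some a
    rw [zero_add]

theorem card_orbit_none {K : Subgroup (Equiv.Perm GolayPt)} (h : L ≤ K) :
    Nat.card ↥K = 24 * Nat.card ↥(K ⊓ MulAction.stabilizer (Equiv.Perm GolayPt) (none : GolayPt)) := by
  rw [card_eq_card_mul K none Finset.univ (fun _ _ => Finset.mem_univ _) (fun y _ => by
    obtain ⟨g, hg, e⟩ := exists_L_none y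
    exact ⟨g, h hg, e⟩), Finset.card_univ, show Fintype.card GolayPt = 24 by decide +kernel]

theorem card_L : Nat.card ↥L = 6072 := by
  refine le_antisymm card_L_le ?_
  rw [card_orbit_none le_rfl]
  have hle : B ≤ L ⊓ MulAction.stabilizer (Equiv.Perm GolayPt) (none : GolayPt) :=
    le_inf B_le_L fun g hg => (Subgroup.mem_inf.1 (M23_def ▸ B_le hg)).2
  have := Subgroup.card_le_of_le hle
  rw [card_B] at this
  omega

/-! ### counting Sylow subgroups in subgroups -/

theorem sylow_part {G : Type*} [Group G] [Finite G] {p m n : ℕ} [hp : Fact p.Prime]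
    (hG : Nat.card G = p * m) (hm : ¬ p ∣ m) (P : Subgroup G) (hP : Nat.card P = p)
    (hn : Nat.card (Subgroup.normalizer (P : Set G)) = n) (K : Subgroup G) (Q : Subgroup ↥K)
    (hQ : Nat.card Q = p) :
    Nat.card (Subgroup.normalizer (Q : Set ↥K)) ∣ n ∧
      (Nat.card ↥K / Nat.card (Subgroup.normalizer (Q : Set ↥K))) % p = 1 := by
  have hfG : p ^ (Nat.card G).factorization p = p := by
    rw [hG, GolaySimpleGen.eq_of_factorization hp.out hm]
  have hpK : p ∣ Nat.card ↥K := hQ ▸ Subgroup.card_subgroup_dvd_card Q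
  have hfK : p ^ (Nat.card ↥K).factorization p = p := by
    obtain ⟨k, hk⟩ := hpK
    have hd : p * k ∣ p * m := hk ▸ hG ▸ Subgroup.card_subgroup_dvd_card K
    rw [hk, GolaySimpleGen.eq_of_factorization hp.out fun h =>
      hm (dvd_trans h ((Nat.mul_dvd_mul_iff_left hp.out.pos).1 hd))]
  let S : Sylow p G := Sylow.ofCard P (hP.trans hfG.symm)
  let R : Sylow p ↥K := Sylow.ofCard Q (hQ.trans hfK.symm)
  let S' : Sylow p G := Sylow.ofCard (Q.map K.subtype)
    (((Nat.card_congr (Subgroup.equivMapOfInjective Q _ K.subtype_injective).toEquiv).symm.trans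
      hQ).trans hfG.symm)
  have hS' : Nat.card (Subgroup.normalizer ((Q.map K.subtype : Subgroup G) : Set G)) = n := by
    have h1 : Nat.card (Sylow p G) = (Subgroup.normalizer (P : Set G)).index :=
      Sylow.card_eq_index_normalizer S
    have h2 : Nat.card (Sylow p G) =
        (Subgroup.normalizer ((Q.map K.subtype : Subgroup G) : Set G)).index :=
      Sylow.card_eq_index_normalizer S'
    rw [h1] at h2
    have h3 := Subgroup.card_mul_index (Subgroup.normalizer (P : Set G))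
    rw [h2, hn, ← Subgroup.card_mul_index
      (Subgroup.normalizer ((Q.map K.subtype : Subgroup G) : Set G))] at h3
    exact (Nat.eq_of_mul_eq_mul_right (Nat.pos_of_ne_zero Subgroup.index_ne_zero_of_finite) h3).symm
  constructor
  · rw [Nat.card_congr (Subgroup.equivMapOfInjective _ _ K.subtype_injective).toEquiv, ← hS']
    exact Subgroup.card_dvd_of_le (Subgroup.le_normalizer_map _)
  · have h := card_sylow_modEq_one p ↥K
    rw [show Nat.card (Sylow p ↥K) = (Subgroup.normalizer (Q : Set ↥K)).index from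
      Sylow.card_eq_index_normalizer R] at h
    rw [← Subgroup.card_mul_index (Subgroup.normalizer (Q : Set ↥K)),
      Nat.mul_div_cancel_left _ Nat.card_pos]
    rw [Nat.ModEq, Nat.one_mod_eq_one.2 hp.out.one_lt.ne'] at h
    exact h

theorem M22_part {K : Subgroup (Equiv.Perm GolayPt)} (hK : K ≤ Spor.M22) {d : ℕ}
    (hd : Nat.card ↥K = 11 * d) : ∃ e, e ∣ 55 ∧ e ∣ 11 * d ∧ 11 ∣ e ∧ (11 * d / e) % 11 = 1 := by
  have : Fact (Nat.Prime 11) := ⟨by norm_num⟩
  obtain ⟨hP, hNP⟩ := GolayM22Index.card_normalizer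
  have hK' : Nat.card ↥(K.subgroupOf Spor.M22) = 11 * d := by
    rw [Nat.card_congr (Subgroup.subgroupOfEquivOfLe hK).toEquiv, hd]
  obtain ⟨g, hg⟩ := exists_prime_orderOf_dvd_card' (G := ↥(K.subgroupOf Spor.M22)) 11
    (hK' ▸ Dvd.intro d rfl)
  obtain ⟨h1, h2⟩ := sylow_part (m := 40320) (n := 55) (by rw [card_M22]) (by norm_num) _ hP
    (by rw [hNP]) (K.subgroupOf Spor.M22) (Subgroup.zpowers g) (by rw [Nat.card_zpowers, hg])
  rw [hK'] at h2
  refine ⟨_, h1, hK' ▸ Subgroup.card_subgroup_dvd_card _, ?_, h2⟩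
  conv_lhs => rw [← hg, ← Nat.card_zpowers]
  exact Subgroup.card_dvd_of_le Subgroup.le_normalizer

open Cfsg.Agent.GolaySimple Cfsg.Agent.GolayNormalizer in
theorem card_normalizer23 : Nat.card ((cyc z23).subgroupOf Spor.M23) = 23 ∧
    Nat.card (Subgroup.normalizer
      (((cyc z23).subgroupOf Spor.M23 : Subgroup Spor.M23) : Set Spor.M23)) = 23 * 11 := by
  have hfixS : ∀ g ∈ Spor.M23, g ∈ M24 ∧ g (pt 23) = pt 23 := fun g hg => by
    rw [M23_eq, mem_fixList] at hg
    exact ⟨hg.1, hg.2 23 (by simp)⟩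
  exact card_normalizer_eq (H := Spor.M23) (p := 23) (m := 443520) (q := 11) (B := 11)
    (by norm_num) (by decide +kernel) (by norm_num) table23' z23_mem_M23 (by rw [card_M23])
    (by norm_num) (fun S hS hz hn => by
      have hreps : ∀ i < 23, ∃ e < 23, pimg (zs23.getD e 0) i ∈ [0] := by decide +kernel
      refine card_normalizer_le (by norm_num) (by norm_num) (by norm_num) table23' [0] [23]
        accepted23 S (fun g hg => (hfixS g (hS hg)).1) hz ?_ (fun g hg => ?_) (fun g hg => ?_) hn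
      · intro g hg i hi hloc
        have : i = 23 := (by decide +kernel :
          ∀ i < 24, (loc23.getD i (2, 0)).1 = 2 → i = 23) i hi hloc
        subst this
        exact idx_eq_of_apply hi (hfixS g (hS hg)).2
      · have hlt : idx (g (pt 0)) < 23 := by
          have := M23_invariant g (hS hg) (pt 0) (by decide +kernel)
          exact (by decide +kernel : ∀ q : GolayPt, q ∈ mset 8388607 → idx q < 23) _ this
        obtain ⟨e, he, h⟩ := hreps _ hlt
        exact ⟨e, he, by rw [Equiv.Perm.mul_apply, idx_pow table23' _ e he]; exact h⟩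
      · rw [(hfixS g (hS hg)).2, idx_pt (by norm_num)]
        simp)
    (by decide)

/-- the candidates for the orders of overgroups -/
theorem candidates : ∀ j < 1754, 40320 % (23 * j + 1) = 0 →
    (((23 * j + 1) % 11 = 1) ∨ ((23 * j + 1) % 5 = 0 ∧ (23 * j + 1) / 5 % 11 = 1)) →
      j = 0 ∨ j = 1753 := by
  decide +kernel

theorem T_pow (n : ℕ) : T 1 ^ n = T (n : ZMod 23) := by
  induction n with
  | zero => rw [pow_zero, Nat.cast_zero, T_zero]
  | succ n ih => rw [pow_succ, ih, TT, Nat.cast_succ]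

theorem orderOf_T : orderOf (T 1) = 23 := by
  have : Fact (Nat.Prime 23) := ⟨by norm_num⟩
  refine orderOf_eq_prime (by rw [T_pow, ZMod.natCast_self, T_zero]) ?_
  decide +kernel

/-- overgroups of the affine group in the point stabiliser -/
theorem B_overgroup {K : Subgroup (Equiv.Perm GolayPt)} (hBK : B ≤ K) (hK : K ≤ Spor.M23) :
    K = B ∨ K = Spor.M23 := by
  classical
  have : Fact (Nat.Prime 23) := ⟨by norm_num⟩
  have hK24 : ∀ g ∈ K, g none = none := fun g hg => (Subgroup.mem_inf.1 (M23_def ▸ hK hg)).2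
  obtain ⟨hP, hNP⟩ := card_normalizer23
  set K' := K.subgroupOf Spor.M23 with hK'def
  have hK' : Nat.card ↥K' = Nat.card ↥K := Nat.card_congr (Subgroup.subgroupOfEquivOfLe hK).toEquiv
  let t : ↥K' := ⟨⟨T 1, hK (hBK (T_mem 1))⟩, hBK (T_mem 1)⟩
  have ht : orderOf t = 23 := by
    rw [← orderOf_T, ← Subgroup.orderOf_coe t, ← Subgroup.orderOf_coe (t : ↥Spor.M23)]
  obtain ⟨h1, h2⟩ := sylow_part (m := 443520) (n := 23 * 11) (by rw [card_M23]) (by norm_num) _ hP
    hNP K' (Subgroup.zpowers t) (by rw [Nat.card_zpowers, ht])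
  -- the affine group normalises the translations
  have hBN : (B.subgroupOf Spor.M23).subgroupOf K' ≤
      Subgroup.normalizer ((Subgroup.zpowers t : Subgroup ↥K') : Set ↥K') := by
    have hconj : ∀ g ∈ B, ∀ n : ℕ, ∃ m : ℕ, g * T 1 ^ n * g⁻¹ = T 1 ^ m := by
      intro g hg n
      obtain ⟨⟨a, u⟩, rfl⟩ := exists_mkB hg
      refine ⟨((u.1 : ZMod 23) * n).val, ?_⟩
      rw [T_pow, T_pow, ZMod.natCast_zmod_val, mkB, mul_inv_rev, mul_assoc (T a), DT,
        ← mul_assoc (T a), TT, mul_assoc, ← mul_assoc (D u.1), mul_inv_cancel, one_mul, T_inv, TT]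
      congr 1
      simp only [add_neg_cancel_comm]
    have hmem : ∀ x : ↥K', (∃ m : ℕ, ((x : ↥Spor.M23) : Equiv.Perm GolayPt) = T 1 ^ m) →
        x ∈ Subgroup.zpowers t := by
      rintro x ⟨m, hm⟩
      rw [show x = t ^ m from Subtype.ext (Subtype.ext (by simp [t, hm]))]
      exact pow_mem (Subgroup.mem_zpowers t) m
    intro g hg
    refine Subgroup.mem_normalizer_iff.2 fun x => ⟨fun hx => ?_, fun hx => ?_⟩
    · obtain ⟨n, rfl⟩ := (isOfFinOrder_of_finite t).mem_zpowers_iff_mem_range_orderOf.1 hx |>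
        Finset.mem_image.1 |> fun ⟨n, _, e⟩ => (⟨n, e.symm⟩ : ∃ n : ℕ, x = t ^ n)
      refine hmem _ ?_
      obtain ⟨m, hm⟩ := hconj _ hg n
      exact ⟨m, by simpa [t] using hm⟩
    · obtain ⟨n, hn⟩ := (isOfFinOrder_of_finite t).mem_zpowers_iff_mem_range_orderOf.1 hx |>
        Finset.mem_image.1 |> fun ⟨n, _, e⟩ => (⟨n, e.symm⟩ : ∃ n : ℕ, g * x * g⁻¹ = t ^ n)
      refine hmem _ ?_
      obtain ⟨m, hm⟩ := hconj _ (inv_mem hg) n
      refine ⟨m, ?_⟩
      rw [show x = g⁻¹ * t ^ n * g by rw [← hn]; group]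
      simpa [t] using hm
  set e := Nat.card (Subgroup.normalizer ((Subgroup.zpowers t : Subgroup ↥K') : Set ↥K')) with he
  have he253 : e = 253 := by
    refine le_antisymm (Nat.le_of_dvd (by norm_num) h1) ?_
    rw [← card_B]
    refine le_trans (le_of_eq ?_) (Subgroup.card_le_of_le hBN)
    rw [Nat.card_congr (Subgroup.subgroupOfEquivOfLe
        (show B.subgroupOf Spor.M23 ≤ K' from fun g hg => hBK hg)).toEquiv,
      Nat.card_congr (Subgroup.subgroupOfEquivOfLe B_le).toEquiv]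
  obtain ⟨d, hd⟩ : 253 ∣ Nat.card ↥K := card_B ▸ Subgroup.card_dvd_of_le hBK
  rw [he253, hK', hd, Nat.mul_div_cancel_left _ (by norm_num)] at h2
  have hdd : d ∣ 40320 := by
    have h := Subgroup.card_dvd_of_le hK
    rw [hd, card_M23, show 10200960 = 253 * 40320 by norm_num] at h
    exact (Nat.mul_dvd_mul_iff_left (by norm_num)).1 h
  -- a two-point stabiliser
  have hcard : Nat.card ↥K = 23 * Nat.card ↥(K ⊓ MulAction.stabilizer (Equiv.Perm GolayPt) (pt 0)) := by
    rw [card_eq_card_mul K (pt 0) (Finset.univ.erase none) (fun g hg => ?_) (fun y hy => ?_),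
      Finset.card_erase_of_mem (Finset.mem_univ _), Finset.card_univ,
      show Fintype.card GolayPt = 24 by decide +kernel]
    · refine Finset.mem_erase.2 ⟨fun h => ?_, Finset.mem_univ _⟩
      exact absurd (g.injective (h.trans (hK24 g hg).symm)) (by decide +kernel)
    · cases y with
      | none => exact absurd rfl (Finset.mem_erase.1 hy).1
      | some a =>
        refine ⟨T a, hBK (T_mem a), ?_⟩
        rw [pt_zero]
        show some (0 + a) = some a
        rw [zero_add]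
  have hle : K ⊓ MulAction.stabilizer (Equiv.Perm GolayPt) (pt 0) ≤ Spor.M22 := fun g hg => by
    obtain ⟨hgK, hg0⟩ := Subgroup.mem_inf.1 hg
    rw [M22_eq, mem_fixList]
    refine ⟨(Subgroup.mem_inf.1 (M23_def ▸ hK hgK)).1, fun b hb => ?_⟩
    simp only [List.mem_cons, List.not_mem_nil, or_false] at hb
    rcases hb with rfl | rfl
    · rw [pt_none]; exact hK24 g hgK
    · exact hg0
  have hK0 : Nat.card ↥(K ⊓ MulAction.stabilizer (Equiv.Perm GolayPt) (pt 0)) = 11 * d := by
    rw [hd] at hcard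
    omega
  obtain ⟨f, hf55, hfd, h11, hf1⟩ := M22_part hle hK0
  have hf : f = 11 ∨ f = 55 := by
    have := Nat.le_of_dvd (by norm_num) hf55
    obtain ⟨k, rfl⟩ := h11
    have : k ∣ 5 := (Nat.mul_dvd_mul_iff_left (show 0 < 11 by norm_num)).1 hf55
    rcases (Nat.dvd_prime (by norm_num : Nat.Prime 5)).1 this with rfl | rfl <;> simp
  have hd40 : d ≤ 40320 := Nat.le_of_dvd (by norm_num) hdd
  obtain ⟨j, rfl⟩ : ∃ j, d = 23 * j + 1 := ⟨d / 23, by omega⟩
  have hcond : (23 * j + 1) % 11 = 1 ∨ ((23 * j + 1) % 5 = 0 ∧ (23 * j + 1) / 5 % 11 = 1) := by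
    rcases hf with rfl | rfl
    · left
      rwa [Nat.mul_div_cancel_left _ (by norm_num)] at hf1
    · right
      have h5 : 5 ∣ 23 * j + 1 :=
        (Nat.mul_dvd_mul_iff_left (show 0 < 11 by norm_num)).1 (show 11 * 5 ∣ _ from hfd)
      refine ⟨Nat.mod_eq_zero_of_dvd h5, ?_⟩
      rwa [show (55 : ℕ) = 11 * 5 from rfl, Nat.mul_div_mul_left _ _ (by norm_num)] at hf1
  rcases candidates j (by omega) (Nat.mod_eq_zero_of_dvd hdd) hcond with rfl | rfl
  · exact Or.inl (Subgroup.eq_of_le_of_card_ge hBK (by rw [hd, card_B])).symm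
  · exact Or.inr (Subgroup.eq_of_le_of_card_ge hK (by rw [hd, card_M23]))

/-- overgroups in the group of the code -/
theorem L_overgroup {K : Subgroup (Equiv.Perm GolayPt)} (hLK : L ≤ K) (hK : K ≤ M24) :
    K = L ∨ K = M24 := by
  have hcard := card_orbit_none hLK
  rcases B_overgroup (K := K ⊓ MulAction.stabilizer (Equiv.Perm GolayPt) (none : GolayPt))
    (le_inf (B_le_L.trans hLK) fun g hg => (Subgroup.mem_inf.1 (M23_def ▸ B_le hg)).2)
    (M23_def ▸ inf_le_inf hK le_rfl) with h | h <;> rw [h] at hcard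
  · exact Or.inl (Subgroup.eq_of_le_of_card_ge hLK (by rw [hcard, card_B, card_L])).symm
  · exact Or.inr (Subgroup.eq_of_le_of_card_ge hK (by rw [hcard, card_M23, card_M24]))

theorem isCoatom_L : IsCoatom (L.subgroupOf M24) := by
  constructor
  · intro h
    have := congrArg (fun S : Subgroup ↥M24 => Nat.card S) h
    rw [Subgroup.card_top, Nat.card_congr (Subgroup.subgroupOfEquivOfLe L_le).toEquiv, card_L,
      card_M24] at this
    omega
  · intro K hK
    have h1 : L ≤ K.map M24.subtype := fun g hg => ⟨⟨g, L_le hg⟩, hK.le hg, rfl⟩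
    rcases L_overgroup h1 (Subgroup.map_subtype_le K) with h | h
    · refine absurd (le_antisymm hK.le fun x hx => ?_) hK.ne
      rw [Subgroup.mem_subgroupOf, ← h]
      exact ⟨x, hx, rfl⟩
    · rw [eq_top_iff]
      intro x _
      obtain ⟨y, hy, e⟩ := h.ge x.2
      rwa [Subtype.ext e] at hy

theorem isCoatom_B : IsCoatom
    ((B.subgroupOf M24).subgroupOf (MulAction.stabilizer ↥M24 (none : GolayPt))) := by
  set S := MulAction.stabilizer ↥M24 (none : GolayPt) with hS
  have hBS : B.subgroupOf M24 ≤ S := fun g hg => by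
    obtain ⟨q, hq⟩ := exists_mkB hg
    rw [hS, MulAction.mem_stabilizer_iff]
    show (g : Equiv.Perm GolayPt) none = none
    rw [show (g : Equiv.Perm GolayPt) = mkB q from hq.symm]
    exact TD_none _ _
  have hSc : Nat.card ↥S = 10200960 := by
    rw [hS, ← Nat.card_congr (GolayStab.stabPointEquiv none).toEquiv, card_M23]
  constructor
  · intro h
    have := congrArg (fun T : Subgroup ↥S => Nat.card T) h
    rw [Subgroup.card_top, Nat.card_congr (Subgroup.subgroupOfEquivOfLe hBS).toEquiv,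
      Nat.card_congr (Subgroup.subgroupOfEquivOfLe (B_le_L.trans L_le)).toEquiv, card_B, hSc] at this
    omega
  · intro K hK
    set K2 := (K.map S.subtype).map M24.subtype with hK2
    have h1 : B ≤ K2 := fun g hg =>
      ⟨⟨g, L_le (B_le_L hg)⟩, ⟨⟨⟨g, L_le (B_le_L hg)⟩, hBS hg⟩, hK.le hg, rfl⟩, rfl⟩
    have h2 : K2 ≤ Spor.M23 := by
      rintro g ⟨x, ⟨y, -, rfl⟩, rfl⟩
      exact M23_def ▸ ⟨(y : ↥M24).2, y.2⟩
    rcases B_overgroup h1 h2 with h | h
    · refine absurd (le_antisymm hK.le fun x hx => ?_) hK.ne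
      rw [Subgroup.mem_subgroupOf, Subgroup.mem_subgroupOf, ← h]
      exact ⟨x, ⟨x, hx, rfl⟩, rfl⟩
    · rw [eq_top_iff]
      intro x _
      obtain ⟨y, ⟨z, hz, hzy⟩, e⟩ := h.ge (M23_def ▸ ⟨(x : ↥M24).2, x.2⟩ :
        ((x : ↥M24) : Equiv.Perm GolayPt) ∈ Spor.M23)
      subst hzy
      rwa [Subtype.ext (Subtype.ext e)] at hz

end Cfsg.Agent.GolayPSL23Max70
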