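import Mathlib
import Cfsg.Prelude.Def_Sporadic_a

/-!
Block counts and intersection triangles of Steiner systems with general parameters.
-/

set_option autoImplicit false

namespace Cfsg.Agent.SteinerTriangle

variable {α : Type*} [Fintype α] [DecidableEq α] {t k : ℕ} {B : Finset (Finset α)}

open Finset

theorem eq_of_subset (h : Cfsg.IsSteinerSystem t k (B : Set (Finset α))) {b c s : Finset α}
    (hb : b ∈ B) (hc : c ∈ B) (hs : t ≤ s.card) (hsb : s ⊆ b) (hsc : s ⊆ c) : b = c := by
  obtain ⟨r, hr, hrc⟩ := exists_subset_card_eq hs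
  exact (h.2 r hrc).unique ⟨hb, hr.trans hsb⟩ ⟨hc, hr.trans hsc⟩

theorem count_mul (h : Cfsg.IsSteinerSystem t k (B : Set (Finset α))) {s : Finset α}
    (hj : s.card ≤ t) :
    (B.filter (s ⊆ ·)).card * (k - s.card).choose (t - s.card)
      = (Fintype.card α - s.card).choose (t - s.card) := by
  have hU : (univ \ s).powersetCard (t - s.card)
      = (B.filter (s ⊆ ·)).biUnion fun b => (b \ s).powersetCard (t - s.card) := by
    ext w
    simp only [mem_powersetCard, mem_biUnion, mem_filter]
    constructor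
    · rintro ⟨hw, hwc⟩
      have hd : Disjoint s w := disjoint_of_subset_right hw disjoint_sdiff
      obtain ⟨b, ⟨hb, hsub⟩, -⟩ := h.2 (s ∪ w)
        (by rw [card_union_of_disjoint hd, hwc]; omega)
      exact ⟨b, ⟨hb, union_subset_left hsub⟩,
        subset_sdiff.mpr ⟨union_subset_right hsub, hd.symm⟩, hwc⟩
    · rintro ⟨b, ⟨_, _⟩, hw, hwc⟩
      exact ⟨hw.trans (sdiff_subset_sdiff (subset_univ b) le_rfl), hwc⟩
  rw [← card_univ, ← card_sdiff_of_subset (subset_univ s), ← card_powersetCard, hU, card_biUnion]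
  · rw [sum_congr rfl (fun b hb => ?_), sum_const, smul_eq_mul]
    obtain ⟨hbB, hsb⟩ := mem_filter.mp hb
    rw [card_powersetCard, card_sdiff_of_subset hsb, h.1 b hbB]
  · intro b hb c hc hbc
    rw [Function.onFun, disjoint_left]
    intro w hwb hwc
    obtain ⟨hb', hsb⟩ := mem_filter.mp hb
    obtain ⟨hc', hsc⟩ := mem_filter.mp hc
    rw [mem_powersetCard] at hwb hwc
    refine hbc (eq_of_subset h (s := s ∪ w) hb' hc' ?_
      (union_subset hsb (hwb.1.trans sdiff_subset)) (union_subset hsc (hwc.1.trans sdiff_subset)))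
    rw [card_union_of_disjoint (disjoint_of_subset_right hwb.1 disjoint_sdiff), hwb.2]
    omega

theorem count (h : Cfsg.IsSteinerSystem t k (B : Set (Finset α))) (htk : t ≤ k) {s : Finset α}
    (hj : s.card ≤ t) :
    (B.filter (s ⊆ ·)).card =
      (Fintype.card α - s.card).choose (t - s.card) / (k - s.card).choose (t - s.card) :=
  (Nat.div_eq_of_eq_mul_left (Nat.choose_pos (by omega)) (count_mul h hj).symm).symm

/-- The blocks other than `b` meeting `b` exactly in `s`. -/
def meetIn (B : Finset (Finset α)) (b s : Finset α) : Finset (Finset α) :=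
  (B.erase b).filter fun c => b ∩ c = s

theorem through_eq_sum {b s : Finset α} (hsb : s ⊆ b) :
    ((B.erase b).filter (s ⊆ ·)).card
      = ∑ w ∈ (b \ s).powerset, (meetIn B b (s ∪ w)).card := by
  rw [card_eq_sum_card_fiberwise (f := fun c => (b ∩ c) \ s) (t := (b \ s).powerset)]
  · refine sum_congr rfl fun w hw => congrArg Finset.card ?_
    rw [mem_powerset] at hw
    have hd : Disjoint w s := disjoint_of_subset_left hw sdiff_disjoint
    ext c
    simp only [meetIn, mem_filter]
    constructor
    · rintro ⟨⟨hc, hsc⟩, rfl⟩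
      exact ⟨hc, (union_sdiff_of_subset (subset_inter hsb hsc)).symm⟩
    · rintro ⟨hc, hcw⟩
      refine ⟨⟨hc, (subset_union_left (s₂ := w)).trans (hcw ▸ inter_subset_right)⟩, ?_⟩
      rw [hcw, union_sdiff_cancel_left hd.symm]
  · intro c _
    simp only [coe_powerset, Set.mem_preimage, Set.mem_powerset_iff, coe_subset]
    exact sdiff_subset_sdiff inter_subset_left le_rfl

/-- A table `T` satisfying the triangle recursion counts the blocks meeting a given block exactly
in a given set. -/
theorem meetIn_card (h : Cfsg.IsSteinerSystem t k (B : Set (Finset α))) (htk : t ≤ k) {v : ℕ}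
    (hv : Fintype.card α = v) (T : ℕ → ℕ) (hT0 : ∀ j, j ≤ k → t ≤ j → T j = 0)
    (hT : ∀ j, j < t → (v - j).choose (t - j) / (k - j).choose (t - j) - 1 =
      T j + ∑ i ∈ range (k - j), (k - j).choose (i + 1) * T (j + (i + 1)))
    {b : Finset α} (hb : b ∈ B) :
    ∀ s : Finset α, s ⊆ b → (meetIn B b s).card = T s.card := by
  suffices ∀ n, ∀ s : Finset α, s ⊆ b → k - s.card = n → (meetIn B b s).card = T s.card from
    fun s hs => this _ s hs rfl
  intro n
  induction n using Nat.strong_induction_on with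
  | _ n ih =>
  intro s hsb hn
  have hsk : s.card ≤ k := (card_le_card hsb).trans (h.1 b hb).le
  rcases le_or_gt t s.card with hts | hts
  · rw [hT0 _ hsk hts, card_eq_zero, meetIn, filter_eq_empty_iff]
    intro c hc hcs
    rw [mem_erase] at hc
    exact hc.1 (eq_of_subset h hb hc.2 hts (hcs ▸ inter_subset_left)
      (hcs ▸ inter_subset_right)).symm
  · have h1 : ((B.erase b).filter (s ⊆ ·)).card
        = (v - s.card).choose (t - s.card) / (k - s.card).choose (t - s.card) - 1 := by
      rw [filter_erase, card_erase_of_mem (mem_filter.mpr ⟨hb, hsb⟩), count h htk hts.le, hv]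
    let g : ℕ → ℕ := fun i => if i = 0 then (meetIn B b s).card else T (s.card + i)
    have h3 : ∀ w ∈ (b \ s).powerset, (meetIn B b (s ∪ w)).card = g w.card := by
      intro w hw
      rw [mem_powerset] at hw
      rcases eq_empty_or_nonempty w with rfl | hne
      · simp [g]
      · have hd : Disjoint s w := disjoint_of_subset_right hw disjoint_sdiff
        have hc : (s ∪ w).card = s.card + w.card := card_union_of_disjoint hd
        have hpos := hne.card_pos
        simp only [g, if_neg hpos.ne', ← hc]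
        exact ih (k - (s ∪ w).card) (by omega) _ (union_subset hsb (hw.trans sdiff_subset)) rfl
    have h2 := through_eq_sum (B := B) hsb
    rw [h1, hT _ hts, sum_congr rfl h3, sum_powerset_apply_card, card_sdiff_of_subset hsb,
      h.1 b hb, sum_range_succ'] at h2
    simp [g] at h2
    omega

/-- The table counts are realised: an intersection size of two distinct blocks has a nonzero
entry. -/
theorem tri_ne_zero (h : Cfsg.IsSteinerSystem t k (B : Set (Finset α))) (htk : t ≤ k) {v : ℕ}
    (hv : Fintype.card α = v) (T : ℕ → ℕ) (hT0 : ∀ j, j ≤ k → t ≤ j → T j = 0)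
    (hT : ∀ j, j < t → (v - j).choose (t - j) / (k - j).choose (t - j) - 1 =
      T j + ∑ i ∈ range (k - j), (k - j).choose (i + 1) * T (j + (i + 1)))
    {b c : Finset α} (hb : b ∈ B) (hc : c ∈ B) (hne : c ≠ b) : T (b ∩ c).card ≠ 0 := by
  rw [← meetIn_card h htk hv T hT0 hT hb _ inter_subset_left, ne_eq, card_eq_zero,
    ← ne_eq, ← nonempty_iff_ne_empty]
  exact ⟨c, mem_filter.mpr ⟨mem_erase.mpr ⟨hne, hc⟩, rfl⟩⟩

/-- Summing binomials of intersection sizes with a fixed set. -/
theorem moment (h : Cfsg.IsSteinerSystem t k (B : Set (Finset α))) (htk : t ≤ k) (W : Finset α)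
    {j : ℕ} (hj : j ≤ t) :
    ∑ d ∈ B, (d ∩ W).card.choose j = W.card.choose j *
      ((Fintype.card α - j).choose (t - j) / (k - j).choose (t - j)) := by
  have h1 : ∑ d ∈ B, (d ∩ W).card.choose j = ∑ T ∈ W.powersetCard j, (B.filter (T ⊆ ·)).card := by
    rw [show (∑ T ∈ W.powersetCard j, (B.filter (T ⊆ ·)).card) =
        ∑ d ∈ B, ((d ∩ W).powersetCard j).card by
      simp only [card_eq_sum_ones, sum_filter]
      rw [sum_comm]
      refine sum_congr rfl fun d _ => ?_
      rw [← sum_filter]
      refine sum_congr ?_ fun _ _ => rfl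
      ext T
      simp only [mem_filter, mem_powersetCard, subset_inter_iff]
      tauto]
    exact sum_congr rfl fun d _ => (card_powersetCard _ _).symm
  rw [h1, sum_congr rfl (fun T hT => ?_), sum_const, smul_eq_mul, card_powersetCard]
  obtain ⟨-, rfl⟩ := mem_powersetCard.mp hT
  exact count h htk hj

/-- Intersection numbers for S(5,8,24). -/
def tri8 : ℕ → ℕ
  | 0 => 30
  | 2 => 16
  | 4 => 4
  | _ => 0

theorem meet8 (h : Cfsg.IsSteinerSystem 5 8 (B : Set (Finset α))) (hv : Fintype.card α = 24)
    {b : Finset α} (hb : b ∈ B) {s : Finset α} (hs : s ⊆ b) :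
    (meetIn B b s).card = tri8 s.card :=
  meetIn_card h (by norm_num) hv tri8 (by intro j h1 h2; interval_cases j <;> rfl)
    (by intro j hj; interval_cases j <;> decide) hb s hs

theorem inter8 (h : Cfsg.IsSteinerSystem 5 8 (B : Set (Finset α))) (hv : Fintype.card α = 24)
    {b c : Finset α} (hb : b ∈ B) (hc : c ∈ B) (hne : b ≠ c) :
    (b ∩ c).card = 0 ∨ (b ∩ c).card = 2 ∨ (b ∩ c).card = 4 := by
  have hT := tri_ne_zero h (by norm_num) hv tri8 (by intro j h1 h2; interval_cases j <;> rfl)
    (by intro j hj; interval_cases j <;> decide) hb hc hne.symm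
  generalize (b ∩ c).card = n at hT ⊢
  rcases n with _ | _ | _ | _ | _ | n <;> simp [tri8] at hT ⊢

/-- Intersection numbers for S(4,7,23). -/
def tri7 : ℕ → ℕ
  | 1 => 16
  | 3 => 4
  | _ => 0

theorem inter7 (h : Cfsg.IsSteinerSystem 4 7 (B : Set (Finset α))) (hv : Fintype.card α = 23)
    {b c : Finset α} (hb : b ∈ B) (hc : c ∈ B) (hne : b ≠ c) :
    (b ∩ c).card = 1 ∨ (b ∩ c).card = 3 := by
  have hT := tri_ne_zero h (by norm_num) hv tri7 (by intro j h1 h2; interval_cases j <;> rfl)
    (by intro j hj; interval_cases j <;> decide) hb hc hne.symm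
  generalize (b ∩ c).card = n at hT ⊢
  rcases n with _ | _ | _ | _ | n <;> simp [tri7] at hT ⊢

/-- Intersection numbers for S(3,6,22). -/
def tri6 : ℕ → ℕ
  | 0 => 16
  | 2 => 4
  | _ => 0

theorem inter6 (h : Cfsg.IsSteinerSystem 3 6 (B : Set (Finset α))) (hv : Fintype.card α = 22)
    {b c : Finset α} (hb : b ∈ B) (hc : c ∈ B) (hne : b ≠ c) :
    (b ∩ c).card = 0 ∨ (b ∩ c).card = 2 := by
  have hT := tri_ne_zero h (by norm_num) hv tri6 (by intro j h1 h2; interval_cases j <;> rfl)
    (by intro j hj; interval_cases j <;> decide) hb hc hne.symm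
  generalize (b ∩ c).card = n at hT ⊢
  rcases n with _ | _ | _ | n <;> simp [tri6] at hT ⊢

/-- A set of eight points meeting every block of an S(5,8,24) evenly is a block. -/
theorem mem_of_even8 (h : Cfsg.IsSteinerSystem 5 8 (B : Set (Finset α))) (hv : Fintype.card α = 24)
    {W : Finset α} (hW : W.card = 8) (he : ∀ d ∈ B, 2 ∣ (d ∩ W).card) : W ∈ B := by
  let n : ℕ → ℕ := fun i => (B.filter fun d => (d ∩ W).card = i).card
  have hle : ∀ d ∈ B, (d ∩ W).card ≤ 8 := fun d _ => hW ▸ card_le_card inter_subset_right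
  have hodd : ∀ i, ¬ 2 ∣ i → n i = 0 := fun i hi =>
    card_eq_zero.mpr (filter_eq_empty_iff.mpr fun d hd he' => hi (he' ▸ he d hd))
  have key : ∀ j, j ≤ 5 → ∑ i ∈ range 9, n i * i.choose j =
      Nat.choose 8 j * ((24 - j).choose (5 - j) / (8 - j).choose (5 - j)) := by
    intro j hj
    have hm := moment h (by norm_num) W hj
    rw [hW, hv] at hm
    rw [← hm, ← sum_fiberwise_of_maps_to (s := B) (t := range 9)
      (g := fun d => (d ∩ W).card) (fun d hd => mem_range.2 (by have := hle d hd; omega))]
    refine sum_congr rfl fun i _ => ?_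
    rw [sum_congr rfl (g := fun _ => i.choose j) (fun d hd => by rw [(mem_filter.1 hd).2]),
      sum_const, smul_eq_mul]
  have k3 := key 3 (by norm_num)
  have k4 := key 4 (by norm_num)
  have k5 := key 5 (by norm_num)
  simp [sum_range_succ, hodd 1 (by norm_num), hodd 3 (by norm_num), hodd 5 (by norm_num),
    hodd 7 (by norm_num), Nat.choose] at k3 k4 k5
  have h8 : n 8 = 1 := by omega
  obtain ⟨d, hd⟩ := card_pos.mp (h8.symm ▸ Nat.one_pos : 0 < n 8)
  obtain ⟨hdB, hdW⟩ := mem_filter.mp hd
  have : d ∩ W = W := eq_of_subset_of_card_le inter_subset_right (by omega)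
  have hsub : W ⊆ d := this ▸ inter_subset_left
  rwa [eq_of_subset_of_card_le hsub (by rw [h.1 d hdB, hW])]

theorem symmDiff_mem (h : Cfsg.IsSteinerSystem 5 8 (B : Set (Finset α))) (hv : Fintype.card α = 24)
    {b c : Finset α} (hb : b ∈ B) (hc : c ∈ B) (h4 : (b ∩ c).card = 4) : symmDiff b c ∈ B := by
  have hev : ∀ x ∈ B, ∀ y ∈ B, 2 ∣ (x ∩ y).card := by
    intro x hx y hy
    rcases eq_or_ne x y with rfl | hne
    · rw [inter_self, h.1 x hx]; norm_num
    · rcases inter8 h hv hx hy hne with e | e | e <;> rw [e] <;> norm_num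
  have key : ∀ p q : Finset α, (symmDiff p q).card + 2 * (p ∩ q).card = p.card + q.card := by
    intro p q
    rw [show symmDiff p q = (p ∪ q) \ (p ∩ q) by
      ext i; simp only [mem_symmDiff, mem_sdiff, mem_union, mem_inter]; tauto,
      card_sdiff_of_subset (inter_subset_left.trans subset_union_left)]
    have := card_union_add_card_inter p q
    have := card_le_card (inter_subset_left.trans subset_union_left : p ∩ q ⊆ p ∪ q)
    omega
  refine mem_of_even8 h hv ?_ fun d hd => ?_
  · have := key b c; rw [h.1 b hb, h.1 c hc] at this; omega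
  · have h1 := key (d ∩ b) (d ∩ c)
    have h2 : symmDiff (d ∩ b) (d ∩ c) = d ∩ symmDiff b c := by
      ext i; simp only [mem_symmDiff, mem_inter]; tauto
    rw [h2] at h1
    have := hev d hd b hb
    have := hev d hd c hc
    omega

end Cfsg.Agent.SteinerTriangle
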