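import Cfsg.Agent.Lib.GolayCosets
import Cfsg.Agent.Lib.GolayPerm
import Cfsg.Agent.Lib.SteinerTriangle

/-!
Linear maps of the length-24 code preserving octad words modulo the all-ones word come from
permutations: functionals given by pairs of points are recognised by a count.
-/

set_option autoImplicit false

namespace Cfsg.Agent.GolayPairFunctional

open Cfsg Cfsg.Agent.GolayBasic Finset
open scoped Pointwise

/-- The functional of a set of points. -/
def dT (T : Finset GolayPt) (c : GolayPt → ZMod 2) : ZMod 2 := ∑ p ∈ T, c p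

/-- The word of a set. -/
def ind (s : Finset GolayPt) : GolayPt → ZMod 2 := fun p => if p ∈ s then 1 else 0

theorem zmod2 (a : ZMod 2) : a = 0 ∨ a = 1 := by revert a; decide

theorem ind_support (w : GolayPt → ZMod 2) : ind (support₂ w) = w := by
  funext p
  rcases zmod2 (w p) with h | h <;> simp [ind, support₂, h]

theorem support_ind (s : Finset GolayPt) : support₂ (ind s) = s := by
  ext p; simp [ind, support₂]

theorem ind_mem {o : Finset GolayPt} (ho : o ∈ supports (golayCode : Set (GolayPt → ZMod 2))) :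
    ind o ∈ golayCode := by
  obtain ⟨w, hw, rfl⟩ := ho
  rwa [ind_support]

theorem one_mem_code : (fun _ => (1 : ZMod 2)) ∈ golayCode := by
  have h := ind_mem univ_mem_supports
  rwa [show ind Finset.univ = fun _ => (1 : ZMod 2) from funext fun p => by simp [ind]] at h

theorem dT_symmDiff (S T : Finset GolayPt) (c : GolayPt → ZMod 2) :
    dT (symmDiff S T) c = dT S c + dT T c := by
  have e1 : ∑ p ∈ S, c p = ∑ p ∈ S ∩ T, c p + ∑ p ∈ S \ T, c p :=
    (sum_inter_add_sum_sdiff S T c).symm
  have e2 : ∑ p ∈ T, c p = ∑ p ∈ T ∩ S, c p + ∑ p ∈ T \ S, c p :=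
    (sum_inter_add_sum_sdiff T S c).symm
  have e3 : symmDiff S T = S \ T ∪ T \ S := rfl
  rw [dT, dT, dT, e1, e2, e3, sum_union disjoint_sdiff_sdiff, inter_comm T S]
  have h : ∀ a b d : ZMod 2, b + d = a + b + (a + d) := by decide
  exact h _ _ _

theorem dT_ind (T o : Finset GolayPt) : dT T (ind o) = ((T ∩ o).card : ZMod 2) := by
  show ∑ p ∈ T, (if p ∈ o then (1 : ZMod 2) else 0) = _
  rw [Finset.sum_boole, Finset.filter_mem_eq_inter]

/-- The octads on which the functional is one. -/
noncomputable def oddOctads (T : Finset GolayPt) : ℕ :=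
  {o : Finset GolayPt | o ∈ octads ∧ dT T (ind o) = 1}.ncard

theorem odd_count {T : Finset GolayPt} (hT : T.card ≤ 6) :
    (T.card = 2 → oddOctads T = 352) ∧ (T.card = 4 → oddOctads T = 384) ∧
      (T.card ≠ 0 → oddOctads T ≠ 0) := by
  classical
  have hv : Fintype.card GolayPt = 24 := Fintype.card_congr idxEquiv
  set B := (Set.toFinite octads).toFinset with hB
  have hst : IsSteinerSystem 5 8 (B : Set (Finset GolayPt)) := by
    rw [hB, Set.Finite.coe_toFinset]; exact GolaySteiner.isSteinerSystem_octads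
  have hN : oddOctads T = ∑ d ∈ B, (d ∩ T).card % 2 := by
    have e : {o : Finset GolayPt | o ∈ octads ∧ dT T (ind o) = 1} =
        ((B.filter fun d => (d ∩ T).card % 2 = 1 : Finset (Finset GolayPt)) :
          Set (Finset GolayPt)) := by
      ext o
      simp only [Set.mem_ofPred_eq, Finset.coe_filter, hB, Set.Finite.mem_toFinset, dT_ind,
        inter_comm T o]
      refine and_congr_right fun _ => ?_
      rcases Nat.mod_two_eq_zero_or_one (o ∩ T).card with h | h <;>
        rw [← ZMod.natCast_mod, h] <;> simp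
    rw [oddOctads, e, Set.ncard_coe_finset, card_filter]
    refine sum_congr rfl fun d _ => ?_
    rcases Nat.mod_two_eq_zero_or_one (d ∩ T).card with h | h <;> simp [h]
  let n : ℕ → ℕ := fun i => (B.filter fun d => (d ∩ T).card = i).card
  have hle : ∀ d ∈ B, (d ∩ T).card ∈ range 7 := fun d _ =>
    mem_range.2 (by have := card_le_card (inter_subset_right : d ∩ T ⊆ T); omega)
  have hfib : ∀ f : ℕ → ℕ, ∑ d ∈ B, f (d ∩ T).card = ∑ i ∈ range 7, n i * f i := by
    intro f
    rw [← sum_fiberwise_of_maps_to hle]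
    refine sum_congr rfl fun i _ => ?_
    rw [sum_congr rfl (g := fun _ => f i) (fun d hd => by rw [(mem_filter.1 hd).2]), sum_const,
      smul_eq_mul]
  have key : ∀ j, j ≤ 5 → ∑ i ∈ range 7, n i * i.choose j =
      T.card.choose j * ((24 - j).choose (5 - j) / (8 - j).choose (5 - j)) := by
    intro j hj
    rw [← hfib (fun i => i.choose j), SteinerTriangle.moment hst (by norm_num) T hj, hv]
  have k1 := key 1 (by norm_num)
  have k2 := key 2 (by norm_num)
  have k3 := key 3 (by norm_num)
  have k4 := key 4 (by norm_num)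
  have k5 := key 5 (by norm_num)
  rw [hfib (fun i => i % 2)] at hN
  rw [hN]
  generalize T.card = m at hT k1 k2 k3 k4 k5 ⊢
  interval_cases m <;>
    simp [sum_range_succ, Nat.choose] at k1 k2 k3 k4 k5 ⊢ <;> omega

theorem eq_empty_of_vanish {T : Finset GolayPt} (hT : T.card ≤ 6)
    (h : ∀ c ∈ golayCode, dT T c = 0) : T = ∅ := by
  by_contra hne
  refine (odd_count hT).2.2 (fun e => hne (card_eq_zero.1 e)) ?_
  rw [oddOctads, Set.ncard_eq_zero (Set.toFinite _), Set.eq_empty_iff_forall_notMem]
  rintro o ⟨ho, h1⟩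
  rw [h _ (ind_mem ho.1)] at h1
  exact zero_ne_one h1

theorem eq_of_agree {S T : Finset GolayPt} (hS : S.card + T.card ≤ 6)
    (h : ∀ c ∈ golayCode, dT S c = dT T c) : S = T := by
  have hcard : (symmDiff S T).card ≤ 6 := by
    refine le_trans ((card_le_card (t := S ∪ T) ?_).trans (card_union_le _ _)) hS
    intro p hp
    rw [mem_symmDiff] at hp
    exact hp.elim (fun h => mem_union_left _ h.1) fun h => mem_union_right _ h.1
  have := eq_empty_of_vanish hcard fun c hc => by
    rw [dT_symmDiff, h c hc]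
    have : ∀ a : ZMod 2, a + a = 0 := by decide
    exact this _
  exact symmDiff_eq_bot.1 this

/-- Every functional vanishing on the all-ones word comes from at most four points, evenly many. -/
theorem exists_rep (g : ↥golayCode →ₗ[ZMod 2] ZMod 2) (h1 : g ⟨_, one_mem_code⟩ = 0) :
    ∃ T : Finset GolayPt, T.card ∈ [0, 2, 4] ∧ ∀ c : ↥golayCode, g c = dT T c.1 := by
  classical
  obtain ⟨G', hG⟩ := LinearMap.exists_extend g
  set v : GolayPt → ZMod 2 := fun p => G' (fun q => if p = q then 1 else 0) with hv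
  have hgv : ∀ c : ↥golayCode, g c = ∑ p, c.1 p * v p := fun c => by
    rw [← hG]
    show G' c.1 = _
    conv_lhs => rw [pi_eq_sum_univ c.1, map_sum]
    exact Finset.sum_congr rfl fun p _ => by rw [map_smul, smul_eq_mul]
  obtain ⟨u, hu4, hu⟩ : ∃ u, hammingNorm u ≤ 4 ∧ v - u ∈ golayCode := by
    rcases GolayCosets.coset_cases v with ⟨-, u, hu, hu'⟩ | ⟨h6, -⟩
    · exact ⟨u, hu.trans (by norm_num), hu'⟩
    · obtain ⟨u, hu, hu'⟩ := Set.nonempty_of_ncard_ne_zero (h6 ▸ (by norm_num : 6 ≠ 0))
      exact ⟨u, hu, hu'⟩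
  have hgu : ∀ c : ↥golayCode, g c = dT (support₂ u) c.1 := by
    intro c
    have h0 : ∑ p, c.1 p * (v - u) p = 0 := dot_eq_zero c.2 hu
    simp only [Pi.sub_apply, mul_sub, sum_sub_distrib, sub_eq_zero] at h0
    rw [hgv, h0, dT, support₂, sum_filter]
    refine sum_congr rfl fun p _ => ?_
    rcases zmod2 (u p) with h | h <;> simp [h]
  refine ⟨support₂ u, ?_, hgu⟩
  have hc : (support₂ u).card ≤ 4 := hu4
  have := hgu ⟨_, one_mem_code⟩
  rw [h1] at this
  have heven : 2 ∣ (support₂ u).card := by
    rw [← ZMod.natCast_eq_zero_iff, this]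
    simp [dT]
  generalize (support₂ u).card = m at hc heven ⊢
  interval_cases m <;> simp at heven ⊢

/-- A linear map fixing the all-ones word and permuting octad words modulo it is induced by a
permutation of the points, modulo the all-ones word. -/
theorem exists_perm (x : ↥golayCode ≃ₗ[ZMod 2] ↥golayCode)
    (h1 : x ⟨_, one_mem_code⟩ = ⟨_, one_mem_code⟩)
    (horb : ∀ o ∈ octads, ∀ h : ind o ∈ golayCode, ∃ o' ∈ octads,
      (x ⟨ind o, h⟩).1 = ind o' ∨ (x ⟨ind o, h⟩).1 = ind o' + fun _ => 1) :
    ∃ σ ∈ M24, ∀ c : ↥golayCode, (x c).1 = (fun p => c.1 (σ.symm p)) ∨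
      (x c).1 = (fun p => c.1 (σ.symm p)) + fun _ => 1 := by
  classical
  have two : ∀ a : ZMod 2, a + a = 0 := by decide
  have hone : ∀ T : Finset GolayPt, 2 ∣ T.card → dT T (fun _ => 1) = 0 := fun T hT => by
    rw [dT, sum_const, nsmul_one, ZMod.natCast_eq_zero_iff]; exact hT
  -- the action on octads
  choose! φ hφ hφval using horb
  have hinj : Set.InjOn φ octads := by
    intro o ho o' ho' he
    have hm := ind_mem ho.1
    have hm' := ind_mem ho'.1
    have hz : x (⟨ind o, hm⟩ - ⟨ind o', hm'⟩) = 0 ∨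
        x (⟨ind o, hm⟩ - ⟨ind o', hm'⟩) = x ⟨_, one_mem_code⟩ := by
      rw [map_sub, h1]
      have two' : ∀ a : GolayPt → ZMod 2, a + a = 0 := fun a => funext fun p => two _
      rcases hφval o ho hm with e | e <;> rcases hφval o' ho' hm' with e' | e' <;>
        [left; right; right; left] <;> ext1 <;>
        simp only [AddSubgroupClass.coe_sub, ZeroMemClass.coe_zero, e, e', he, sub_self] <;>
        funext p <;> simp only [Pi.sub_apply, Pi.add_apply] <;>
        generalize ind (φ o') p = u <;> rcases zmod2 u with h | h <;> subst h <;> rfl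
    have hd : (symmDiff o o').card < 24 := by
      refine lt_of_le_of_lt ((card_le_card (t := o ∪ o') ?_).trans (card_union_le _ _))
        (by rw [ho.2, ho'.2]; norm_num)
      intro p hp
      rw [mem_symmDiff] at hp
      exact hp.elim (fun h => mem_union_left _ h.1) fun h => mem_union_right _ h.1
    rcases hz with hz | hz
    · have := congrArg Subtype.val (x.injective (hz.trans (map_zero x).symm))
      simp only [AddSubgroupClass.coe_sub, ZeroMemClass.coe_zero, sub_eq_zero] at this
      rw [← support_ind o, this, support_ind]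
    · exfalso
      have := congrArg (fun z : ↥golayCode => support₂ z.1) (x.injective hz)
      have e : support₂ (fun _ : GolayPt => (1 : ZMod 2)) = univ := by
        ext; simp [support₂]
      have e2 : support₂ (ind o - ind o') = symmDiff o o' := by
        ext p
        refine (mem_filter.trans (and_iff_right (mem_univ p))).trans ?_
        by_cases a : p ∈ o <;> by_cases b : p ∈ o' <;> simp [ind, mem_symmDiff, a, b]
      simp only [AddSubgroupClass.coe_sub, e, e2] at this
      rw [this, card_univ, show Fintype.card GolayPt = 24 from Fintype.card_congr idxEquiv] at hd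
      omega
  have himg : φ '' octads = octads :=
    Set.eq_of_subset_of_ncard_le (Set.image_subset_iff.2 fun o ho => hφ o ho (ind_mem ho.1))
      (le_of_eq (Set.InjOn.ncard_image hinj).symm)
  have hval : ∀ T : Finset GolayPt, 2 ∣ T.card → ∀ o ∈ octads, ∀ h : ind o ∈ golayCode,
      dT T (x ⟨ind o, h⟩).1 = dT T (ind (φ o)) := by
    intro T hT o ho h
    rcases hφval o ho h with e | e <;> rw [e]
    rw [show dT T (ind (φ o) + fun _ => 1) = dT T (ind (φ o)) + dT T (fun _ => 1) from
      sum_add_distrib, hone T hT, add_zero]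
  -- pairs go to pairs
  have hpair : ∀ p q : GolayPt, p ≠ q → ∃ T : Finset GolayPt, T.card = 2 ∧
      ∀ c : ↥golayCode, dT {p, q} (x c).1 = dT T c.1 := by
    intro p q hpq
    have h2 : ({p, q} : Finset GolayPt).card = 2 := card_pair hpq
    let g : ↥golayCode →ₗ[ZMod 2] ZMod 2 :=
      { toFun := fun c => dT {p, q} (x c).1
        map_add' := fun a b => by simp [dT, sum_add_distrib]
        map_smul' := fun a b => by simp [dT, mul_sum] }
    obtain ⟨T, hT, hTg⟩ := exists_rep g (by
      show dT {p, q} (x _).1 = 0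
      rw [h1]; exact hone _ (by rw [h2]))
    refine ⟨T, ?_, hTg⟩
    have hcount : oddOctads T = 352 := by
      have e : {o : Finset GolayPt | o ∈ octads ∧ dT {p, q} (ind o) = 1} =
          φ '' {o : Finset GolayPt | o ∈ octads ∧ dT T (ind o) = 1} := by
        ext o
        constructor
        · rintro ⟨ho, hd⟩
          obtain ⟨o₀, ho₀, rfl⟩ := himg.ge ho
          refine ⟨o₀, ⟨ho₀, ?_⟩, rfl⟩
          rw [← hTg ⟨_, ind_mem ho₀.1⟩]
          show dT {p, q} _ = 1
          rw [hval _ (by rw [h2]) o₀ ho₀, hd]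
        · rintro ⟨o₀, ⟨ho₀, hd⟩, rfl⟩
          refine ⟨hφ o₀ ho₀ (ind_mem ho₀.1), ?_⟩
          rw [← hval _ (by rw [h2]) o₀ ho₀ (ind_mem ho₀.1)]
          exact (hTg ⟨_, ind_mem ho₀.1⟩).trans hd
      rw [← (odd_count (by rw [h2]; norm_num)).1 h2, oddOctads, oddOctads, e,
        Set.InjOn.ncard_image (hinj.mono fun o ho => ho.1)]
    simp only [List.mem_cons, List.not_mem_nil, or_false] at hT
    rcases hT with h | h | h
    · exfalso
      rw [oddOctads, card_eq_zero.1 h] at hcount
      simp [dT] at hcount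
    · exact h
    · exfalso
      rw [(odd_count (by rw [h]; norm_num)).2.1 h] at hcount
      omega
  choose! ψ hψ2 hψ using hpair
  -- adjacency
  have hadj : ∀ p q r : GolayPt, p ≠ q → p ≠ r → q ≠ r →
      symmDiff (ψ p q) (ψ p r) = ψ q r := by
    intro p q r hpq hpr hqr
    refine eq_of_agree ?_ fun c hc => ?_
    · have : (symmDiff (ψ p q) (ψ p r)).card ≤ 4 := by
        refine le_trans ((card_le_card (t := ψ p q ∪ ψ p r) ?_).trans (card_union_le _ _))
          (by rw [hψ2 p q hpq, hψ2 p r hpr])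
        intro z hz
        rw [mem_symmDiff] at hz
        exact hz.elim (fun h => mem_union_left _ h.1) fun h => mem_union_right _ h.1
      rw [hψ2 q r hqr]
      omega
    · rw [dT_symmDiff, ← hψ p q hpq ⟨c, hc⟩, ← hψ p r hpr ⟨c, hc⟩, ← hψ q r hqr ⟨c, hc⟩,
        ← dT_symmDiff]
      congr 1
      ext z
      simp only [mem_symmDiff, mem_insert, mem_singleton]
      by_cases a : z = p
      · subst a; simp [hpq, hpr]
      by_cases b : z = q
      · subst b; simp [hqr, a]
      simp [a, b]
  have hmeet : ∀ p q r : GolayPt, p ≠ q → p ≠ r → q ≠ r →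
      ∃ a, ψ p q ∩ ψ p r = {a} := by
    intro p q r hpq hpr hqr
    rw [← card_eq_one]
    have h := congrArg Finset.card (hadj p q r hpq hpr hqr)
    have e : symmDiff (ψ p q) (ψ p r) = (ψ p q \ ψ p r) ∪ (ψ p r \ ψ p q) := rfl
    rw [e, card_union_of_disjoint disjoint_sdiff_sdiff, hψ2 q r hqr] at h
    have := card_sdiff_add_card_inter (ψ p q) (ψ p r)
    have h' := card_sdiff_add_card_inter (ψ p r) (ψ p q)
    rw [inter_comm (ψ p r)] at h'
    have := hψ2 p q hpq
    have := hψ2 p r hpr
    omega
  have hstar : ∀ p q r s a : GolayPt, p ≠ q → p ≠ r → p ≠ s → q ≠ r → q ≠ s → r ≠ s →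
      a ∈ ψ p q → a ∈ ψ p r → a ∈ ψ p s := by
    intro p q r s a hpq hpr hps hqr hqs hrs haq har
    by_contra has
    obtain ⟨b, hb⟩ := hmeet p q s hpq hps hqs
    obtain ⟨d, hd⟩ := hmeet p r s hpr hps hrs
    obtain ⟨a', ha'⟩ := hmeet p q r hpq hpr hqr
    have haa : a = a' := mem_singleton.1 (ha' ▸ mem_inter.2 ⟨haq, har⟩)
    have hbq : b ∈ ψ p q ∩ ψ p s := hb ▸ mem_singleton_self b
    have hdr : d ∈ ψ p r ∩ ψ p s := hd ▸ mem_singleton_self d
    rw [mem_inter] at hbq hdr
    have hab : a ≠ b := fun e => has (e ▸ hbq.2)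
    have had : a ≠ d := fun e => has (e ▸ hdr.2)
    have hbd : b ≠ d := fun e => hab (haa.trans
      (mem_singleton.1 (ha' ▸ mem_inter.2 ⟨hbq.1, e ▸ hdr.1⟩)).symm)
    have eA : ψ p q = {a, b} := (eq_of_subset_of_card_le
      (insert_subset haq (singleton_subset_iff.2 hbq.1)) (by rw [card_pair hab, hψ2 p q hpq])).symm
    have eB : ψ p r = {a, d} := (eq_of_subset_of_card_le
      (insert_subset har (singleton_subset_iff.2 hdr.1)) (by rw [card_pair had, hψ2 p r hpr])).symm
    have eD : ψ p s = {b, d} := (eq_of_subset_of_card_le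
      (insert_subset hbq.2 (singleton_subset_iff.2 hdr.2)) (by rw [card_pair hbd, hψ2 p s hps])).symm
    have hzero : ∀ c ∈ golayCode, dT {p, q, r, s} c = 0 := by
      intro c hc
      obtain ⟨c', hc'⟩ := x.surjective ⟨c, hc⟩
      have key : dT {p, q} c + dT {p, r} c + dT {p, s} c = 0 := by
        have := congrArg Subtype.val hc'
        simp only at this
        rw [← this, hψ p q hpq, hψ p r hpr, hψ p s hps, eA, eB, eD, dT, dT, dT, sum_pair hab,
          sum_pair had, sum_pair hbd]
        have : ∀ u v w : ZMod 2, u + v + (u + w) + (v + w) = 0 := by decide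
        exact this _ _ _
      rw [dT, dT, dT, sum_pair hpq, sum_pair hpr, sum_pair hps] at key
      rw [dT, sum_insert (by simp [hpq, hpr, hps]), sum_insert (by simp [hqr, hqs]), sum_pair hrs]
      have : ∀ u v w z : ZMod 2, u + v + (u + w) + (u + z) = u + (v + (w + z)) := by decide
      rwa [← this]
    have := eq_empty_of_vanish (le_trans card_le_four (by norm_num)) hzero
    simp at this
  have hsym : ∀ p q : GolayPt, p ≠ q → ψ p q = ψ q p := fun p q h =>
    eq_of_agree (by rw [hψ2 p q h, hψ2 q p h.symm]; norm_num) fun c hc => by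
      rw [← hψ p q h ⟨c, hc⟩, ← hψ q p h.symm ⟨c, hc⟩, pair_comm]
  -- the point map
  have hπ : ∀ p : GolayPt, ∃ a, ∀ s, p ≠ s → a ∈ ψ p s := by
    intro p
    obtain ⟨q, r, hpq, hpr, hqr⟩ : ∃ q r : GolayPt, p ≠ q ∧ p ≠ r ∧ q ≠ r := by
      revert p; decide +kernel
    obtain ⟨a, ha⟩ := hmeet p q r hpq hpr hqr
    have hm : a ∈ ψ p q ∩ ψ p r := ha ▸ mem_singleton_self a
    rw [mem_inter] at hm
    refine ⟨a, fun s hs => ?_⟩
    rcases eq_or_ne q s with rfl | hqs
    · exact hm.1
    rcases eq_or_ne r s with rfl | hrs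
    · exact hm.2
    exact hstar p q r s a hpq hpr hs hqr hqs hrs hm.1 hm.2
  choose π hπ using hπ
  have hq2 : ∀ a b : GolayPt, ∃ q : GolayPt, q ≠ a ∧ q ≠ b := by decide +kernel
  have hπinj : Function.Injective π := by
    intro p p' he
    by_contra hne
    obtain ⟨q, hq, hq'⟩ : ∃ q : GolayPt, q ≠ p ∧ q ≠ p' := by
      exact hq2 p p'
    have h := hadj q p p' hq hq' hne
    have h3 := hπ p p' hne
    rw [← h, mem_symmDiff] at h3
    have m1 : π p ∈ ψ q p := hsym q p hq ▸ hπ p q hq.symm
    have m2 : π p ∈ ψ q p' := he ▸ (hsym q p' hq' ▸ hπ p' q hq'.symm)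
    exact h3.elim (fun h => h.2 m2) fun h => h.2 m1
  let e := Equiv.ofBijective π ⟨hπinj, (Finite.injective_iff_surjective).1 hπinj⟩
  have hmain : ∀ (c : ↥golayCode) (p q : GolayPt),
      (x c).1 p + (x c).1 q = c.1 (π p) + c.1 (π q) := by
    intro c p q
    rcases eq_or_ne p q with rfl | hpq
    · rw [two, two]
    have hne : π p ≠ π q := hπinj.ne hpq
    have eq1 : ψ p q = {π p, π q} := (eq_of_subset_of_card_le
      (insert_subset (hπ p q hpq) (singleton_subset_iff.2 (hsym p q hpq ▸ hπ q p hpq.symm)))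
      (by rw [card_pair hne, hψ2 p q hpq])).symm
    have := hψ p q hpq c
    rwa [eq1, dT, dT, sum_pair hpq, sum_pair hne] at this
  have hform : ∀ c : ↥golayCode, (x c).1 = (fun p => c.1 (π p)) ∨
      (x c).1 = (fun p => c.1 (π p)) + fun _ => 1 := by
    intro c
    have key : ∀ a b u v : ZMod 2, a + b = u + v → a = u + (b + v) := by decide
    rcases zmod2 ((x c).1 none + c.1 (π none)) with h | h
    · left; funext p
      rw [key _ _ _ _ (hmain c p none), h, add_zero]
    · right; funext p
      rw [key _ _ _ _ (hmain c p none), h]; rfl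
  refine ⟨e.symm, GolayPerm.mem_M24_iff.2 ?_, fun c => ?_⟩
  · rintro s ⟨w, hw, rfl⟩
    refine ⟨fun p => w (π p), ?_, ?_⟩
    · rcases hform ⟨w, hw⟩ with h | h
      · have hm := (x ⟨w, hw⟩).2
        rwa [h] at hm
      · have hm := golayCode.add_mem (x ⟨w, hw⟩).2 one_mem_code
        rw [h, show ((fun p => w (π p)) + fun _ => (1 : ZMod 2)) + (fun _ => 1) = fun p => w (π p)
          from funext fun p => by simp [add_assoc, two]] at hm
        exact hm
    · ext p
      rw [Finset.mem_smul_finset]
      simp only [support₂, mem_filter, mem_univ, true_and]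
      constructor
      · intro hp
        exact ⟨π p, hp, e.symm_apply_apply p⟩
      · rintro ⟨z, hz, rfl⟩
        rwa [show π (e.symm • z) = z from e.apply_symm_apply z]
  · exact hform c

end Cfsg.Agent.GolayPairFunctional
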