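import Cfsg.Agent.Lib.GolayM24

/-!
Pairs of points relative to two points and a pair, up to the stabiliser in the group of the code.
-/

set_option autoImplicit false

namespace Cfsg.Agent.GolayPairs

open Cfsg Cfsg.Agent.GolayBasic Cfsg.Agent.GolaySteiner Cfsg.Agent.GolayPerm Cfsg.Agent.GolayData
  Cfsg.Agent.GolayM24
open scoped Pointwise

/-- Some octad contains two points and two sets. -/
def InOct (p q : GolayPt) (s t : Finset GolayPt) : Prop :=
  ∃ o ∈ Cfsg.octads, p ∈ o ∧ q ∈ o ∧ s ∪ t ⊆ o

theorem inOct_smul {g : Equiv.Perm GolayPt} (hg : g ∈ M24) {p q : GolayPt} {s t : Finset GolayPt}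
    (h : InOct p q s t) : InOct (g p) (g q) (g • s) (g • t) := by
  obtain ⟨o, ho, hp, hq, hst⟩ := h
  refine ⟨g • o, smul_mem_octads hg ho, ?_, ?_, ?_⟩
  · exact Finset.smul_mem_smul_finset (a := g) hp
  · exact Finset.smul_mem_smul_finset (a := g) hq
  · rw [← Finset.smul_finset_union]; exact Finset.smul_finset_subset_smul_finset hst

theorem inOct_smul_iff {g : Equiv.Perm GolayPt} (hg : g ∈ M24) {p q : GolayPt}
    {s t : Finset GolayPt} : InOct (g p) (g q) (g • s) (g • t) ↔ InOct p q s t := by
  refine ⟨fun h => ?_, inOct_smul hg⟩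
  have := inOct_smul (inv_mem hg) h
  simpa using this

/-- The base pair. -/
def s₀ : Finset GolayPt := {pt 12, pt 14}

theorem smul_pair (g : Equiv.Perm GolayPt) (a b : GolayPt) :
    g • ({a, b} : Finset GolayPt) = {g a, g b} := by
  ext x
  simp only [Finset.mem_smul_finset, Finset.mem_insert, Finset.mem_singleton, Equiv.Perm.smul_def]
  constructor
  · rintro ⟨y, rfl | rfl, rfl⟩ <;> simp
  · rintro (rfl | rfl) <;> simp

theorem exists_base (p q : GolayPt) (hpq : p ≠ q) (s : Finset GolayPt) (hs : s.card = 2)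
    (hp : p ∉ s) (hq : q ∉ s) :
    ∃ g ∈ M24, g (pt 23) = p ∧ g (pt 0) = q ∧ g • s₀ = s := by
  classical
  obtain ⟨a, b, hab, rfl⟩ := Finset.card_eq_two.1 hs
  simp only [Finset.mem_insert, Finset.mem_singleton, not_or] at hp hq
  obtain ⟨r, hr⟩ : ∃ r : GolayPt, r ∉ ({p, q, a, b} : Finset GolayPt) := by
    by_contra hc
    simp only [not_exists, not_not] at hc
    have h1 : (Finset.univ : Finset GolayPt) ⊆ {p, q, a, b} := fun x _ => hc x
    have h2 := Finset.card_le_card h1
    have h4 : ({p, q, a, b} : Finset GolayPt).card ≤ 4 := Finset.card_le_four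
    rw [Finset.card_univ, show Fintype.card GolayPt = 24 from Fintype.card_congr idxEquiv] at h2
    omega
  simp only [Finset.mem_insert, Finset.mem_singleton, not_or] at hr
  obtain ⟨g, hg, e0, e1, e2, e3, -⟩ := exists_map_five ![p, q, a, b, r] (by
    intro i j hij
    fin_cases i <;> fin_cases j <;> simp at hij <;>
      first
        | rfl
        | exact absurd hij (by tauto)
        | exact absurd hij.symm (by tauto))
  exact ⟨g, hg, e0, e1, by rw [s₀, smul_pair, e2, e3]; rfl⟩

/-- The canonical pairs. -/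
noncomputable def canonPair (t : Finset GolayPt) : Finset GolayPt := by
  classical
  exact if (s₀ ∩ t).card = 1 then {pt 12, pt 16}
    else if InOct (pt 23) (pt 0) s₀ t then {pt 16, pt 17} else {pt 16, pt 1}

theorem mem_five_octad {o : Finset GolayPt} (ho : o ∈ octads)
    (h : ∀ b ∈ [23, 0, 12, 14, 16], pt b ∈ o) : o = mset 13062145 := by
  refine octad_eq_of_five ho octad_five_mem
    (s := mset (8388608 + 1 + 4096 + 16384 + 65536)) (by rw [card_mset]; decide +kernel) ?_
    (by decide +kernel)
  intro p hp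
  have hp' : idx p ∈ [23, 0, 12, 14, 16] := by revert hp; revert p; decide +kernel
  have := h _ hp'
  rwa [pt_idx] at this

theorem canon {t : Finset GolayPt} (ht : t.card = 2) (hP : pt 23 ∉ t) (hQ : pt 0 ∉ t) (hne : t ≠ s₀) :
    ∃ g ∈ M24, g (pt 23) = pt 23 ∧ g (pt 0) = pt 0 ∧ g • s₀ = s₀ ∧ g • canonPair t = t := by
  classical
  obtain ⟨c, d, hcd, rfl⟩ := Finset.card_eq_two.1 ht
  simp only [Finset.mem_insert, Finset.mem_singleton, not_or] at hP hQ
  have h23 : pt 23 ≠ pt 0 := by decide +kernel
  have h12 : pt 12 ≠ pt 14 := by decide +kernel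
  have hb : ∀ x ∈ ({pt 12, pt 14} : Finset GolayPt), pt 23 ≠ x ∧ pt 0 ≠ x := by decide +kernel
  by_cases hone : (s₀ ∩ {c, d}).card = 1
  · -- one common point
    rw [canonPair, if_pos hone]
    obtain ⟨x, x', y, hx, hy, hs, hset⟩ : ∃ x x' y, x ≠ x' ∧ y ∉ s₀ ∧ s₀ = ({x, x'} : Finset GolayPt) ∧
        ({c, d} : Finset GolayPt) = {x, y} := by
      have key : ∀ u v : GolayPt, u ∈ s₀ → v ∉ s₀ → ∃ x x' y, x ≠ x' ∧ y ∉ s₀ ∧
          s₀ = ({x, x'} : Finset GolayPt) ∧ ({u, v} : Finset GolayPt) = {x, y} := by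
        intro u v hu hv
        simp only [s₀, Finset.mem_insert, Finset.mem_singleton] at hu
        rcases hu with rfl | rfl
        · exact ⟨_, pt 14, v, h12, hv, rfl, rfl⟩
        · exact ⟨_, pt 12, v, h12.symm, hv, Finset.pair_comm _ _, rfl⟩
      by_cases hc : c ∈ s₀ <;> by_cases hd : d ∈ s₀
      · exfalso
        have : ({c, d} : Finset GolayPt) ⊆ s₀ := Finset.insert_subset hc (Finset.singleton_subset_iff.2 hd)
        rw [Finset.inter_eq_right.2 this, Finset.card_pair hcd] at hone
        omega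
      · exact key c d hc hd
      · rw [Finset.pair_comm]; exact key d c hd hc
      · exfalso
        have : s₀ ∩ {c, d} = ∅ := by
          ext z; simp only [Finset.mem_inter, Finset.mem_insert, Finset.mem_singleton,
            Finset.notMem_empty, iff_false, not_and, not_or]
          intro hz
          exact ⟨fun e => hc (e ▸ hz), fun e => hd (e ▸ hz)⟩
        rw [this] at hone
        simp at hone
    have hx0 := hb x (by rw [show ({pt 12, pt 14} : Finset GolayPt) = s₀ from rfl, hs]; simp)
    have hx1 := hb x' (by rw [show ({pt 12, pt 14} : Finset GolayPt) = s₀ from rfl, hs]; simp)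
    have hym : y = c ∨ y = d := by
      have : y ∈ ({c, d} : Finset GolayPt) := by rw [hset]; simp
      simpa using this
    have hy0 : pt 23 ≠ y ∧ pt 0 ≠ y := by rcases hym with rfl | rfl <;> tauto
    have hyx : x ≠ y ∧ x' ≠ y := by
      rw [hs] at hy; simp only [Finset.mem_insert, Finset.mem_singleton, not_or] at hy
      exact ⟨fun e => hy.1 e.symm, fun e => hy.2 e.symm⟩
    obtain ⟨g, hg, e0, e1, e2, e3, e4⟩ := exists_map_five ![pt 23, pt 0, x, x', y] (by
      intro i j hij
      fin_cases i <;> fin_cases j <;> simp at hij <;>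
        first
          | rfl
          | exact absurd hij (by tauto)
          | exact absurd hij.symm (by tauto))
    refine ⟨g, hg, e0, e1, ?_, ?_⟩
    · conv_rhs => rw [hs]
      rw [s₀, smul_pair, e2, e3]; rfl
    · rw [smul_pair, e2, e4, hset]; rfl
  · -- disjoint pairs
    rw [canonPair, if_neg hone]
    have hc : c ∉ s₀ ∧ d ∉ s₀ := by
      by_contra hcon
      refine hne ?_
      rcases not_and_or.1 hcon with h | h <;> rw [not_not] at h
      · by_cases hd : d ∈ s₀
        · exact Finset.eq_of_subset_of_card_le (Finset.insert_subset h (Finset.singleton_subset_iff.2 hd))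
            (by rw [Finset.card_pair hcd]; exact Finset.card_le_two)
        · refine absurd ?_ hone
          rw [Finset.inter_comm, Finset.insert_inter_of_mem h, Finset.singleton_inter_of_notMem hd]
          simp
      · by_cases hc : c ∈ s₀
        · exact Finset.eq_of_subset_of_card_le (Finset.insert_subset hc (Finset.singleton_subset_iff.2 h))
            (by rw [Finset.card_pair hcd]; exact Finset.card_le_two)
        · refine absurd ?_ hone
          rw [Finset.inter_comm, Finset.insert_inter_of_notMem hc, Finset.singleton_inter_of_mem h]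
          simp
    simp only [s₀, Finset.mem_insert, Finset.mem_singleton, not_or] at hc
    obtain ⟨⟨hc2, hc3⟩, hd2, hd3⟩ := hc
    obtain ⟨g, hg, e0, e1, e2, e3, e4⟩ := exists_map_five ![pt 23, pt 0, pt 12, pt 14, c] (by
      have a1 := hb (pt 12) (by simp)
      have a2 := hb (pt 14) (by simp)
      intro i j hij
      fin_cases i <;> fin_cases j <;> simp at hij <;>
        first
          | rfl
          | exact absurd hij (by tauto)
          | exact absurd hij.symm (by tauto))
    simp only [Matrix.cons_val] at e0 e1 e2 e3 e4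
    have hgd : g (g⁻¹ d) = d := by simp
    have hne5 : ∀ b ∈ [23, 0, 12, 14, 16], g⁻¹ d ≠ pt b := by
      intro b hb5 e
      rw [e] at hgd
      fin_cases hb5 <;> simp only [e0, e1, e2, e3, e4] at hgd <;> simp_all
    have hoct : InOct (pt 23) (pt 0) s₀ {c, d} ↔ g⁻¹ d ∈ mset 13062145 := by
      have hiff : InOct (pt 23) (pt 0) s₀ {c, d} ↔ InOct (pt 23) (pt 0) s₀ {pt 16, g⁻¹ d} := by
        conv_rhs => rw [← inOct_smul_iff hg, e0, e1]
        rw [s₀, smul_pair, smul_pair, e2, e3, e4, hgd]
      rw [hiff]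
      constructor
      · rintro ⟨o, ho, h1, h2, h3⟩
        have : o = mset 13062145 := mem_five_octad ho fun b hb5 => by
          fin_cases hb5
          · exact h1
          · exact h2
          all_goals exact h3 (by simp [s₀])
        exact this ▸ h3 (by simp)
      · intro hm
        refine ⟨_, octad_five_mem, by decide +kernel, by decide +kernel, Finset.union_subset
          (by decide +kernel) (Finset.insert_subset (by decide +kernel) (Finset.singleton_subset_iff.2 hm))⟩
    by_cases ho : InOct (pt 23) (pt 0) s₀ {c, d}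
    · rw [if_pos ho]
      have hm := hoct.1 ho
      have hm' : g⁻¹ d ∈ mset 4587520 := by
        revert hne5 hm
        generalize g⁻¹ d = z
        revert z
        decide +kernel
      obtain ⟨k, hk, hk17⟩ := exists_of_tcheck (keep := 16777215) (fix := [23, 0, 12, 14, 16]) (b := 17)
        (O := 4587520) (ts := tr24_5) (by norm_num) (by simp) (by decide +kernel) (H := M24)
        (fun g hg _ => hg) _ hm'
      obtain ⟨hkm, hkf⟩ := mem_fixList.1 hk
      refine ⟨g * k, mul_mem hg hkm, ?_, ?_, ?_, ?_⟩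
      · rw [Equiv.Perm.mul_apply, hkf 23 (by simp), e0]
      · rw [Equiv.Perm.mul_apply, hkf 0 (by simp), e1]
      · rw [s₀, smul_pair, Equiv.Perm.mul_apply, Equiv.Perm.mul_apply, hkf 12 (by simp),
          hkf 14 (by simp), e2, e3]
      · rw [smul_pair, Equiv.Perm.mul_apply, Equiv.Perm.mul_apply, hkf 16 (by simp), hk17, e4, hgd]
    · rw [if_neg ho]
      have hm : g⁻¹ d ∈ mset 3715070 := by
        rw [show (3715070 : ℕ) = 16777215 ^^^ 13062145 by decide +kernel, mset_compl, Finset.mem_compl]
        exact fun h => ho (hoct.2 h)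
      obtain ⟨k, hk, hk1⟩ := exists_of_tcheck (keep := 16777215) (fix := [23, 0, 12, 14, 16, 17])
        (b := 1) (O := 3715070) (ts := tr24_6) (by norm_num) (by simp) (by decide +kernel) (H := M24)
        (fun g hg _ => hg) _ hm
      obtain ⟨hkm, hkf⟩ := mem_fixList.1 hk
      refine ⟨g * k, mul_mem hg hkm, ?_, ?_, ?_, ?_⟩
      · rw [Equiv.Perm.mul_apply, hkf 23 (by simp), e0]
      · rw [Equiv.Perm.mul_apply, hkf 0 (by simp), e1]
      · rw [s₀, smul_pair, Equiv.Perm.mul_apply, Equiv.Perm.mul_apply, hkf 12 (by simp),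
          hkf 14 (by simp), e2, e3]
      · rw [smul_pair, Equiv.Perm.mul_apply, Equiv.Perm.mul_apply, hkf 16 (by simp), hk1, e4, hgd]

/-- Masks of the pairs avoiding the four base points. -/
def pairMasks : List ℕ :=
  ((List.range 24).filter fun i => !(8409089 : ℕ).testBit i).flatMap fun i =>
    ((List.range 24).filter fun j => decide (i < j) && !(8409089 : ℕ).testBit j).map fun j =>
      (1 <<< i) ||| (1 <<< j)

/-- The mask lies in an octad with the four base points. -/
def inOctMask (m : ℕ) : Bool :=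
  (ofWeight 8).any fun x => ((8409089 ||| m) &&& enc x) == (8409089 ||| m)

theorem inOct_mask {m : ℕ} (hm : m < 2 ^ 24) :
    inOctMask m = true ↔ InOct (pt 23) (pt 0) s₀ (mset m) := by
  have hbase : mset 8409089 = insert (pt 23) (insert (pt 0) s₀) := by decide +kernel
  simp only [inOctMask, List.any_eq_true, beq_iff_eq]
  constructor
  · rintro ⟨x, hx, he⟩
    have ho : mset (enc x) ∈ octads := mem_wordsOfWeight.2 ⟨x, hx, rfl⟩
    have hsub : mset (8409089 ||| m) ⊆ mset (enc x) := by
      rw [← he, mset_and]; exact Finset.inter_subset_right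
    rw [mset_or, hbase] at hsub
    refine ⟨_, ho, hsub (by simp), hsub (by simp), Finset.union_subset ?_ ?_⟩
    · exact fun z hz => hsub (by simp [hz])
    · exact fun z hz => hsub (Finset.mem_union_right _ hz)
  · rintro ⟨o, ho, h1, h2, h3⟩
    obtain ⟨x, hx, rfl⟩ := mem_wordsOfWeight.1 ho
    refine ⟨x, hx, ?_⟩
    have hlt : 8409089 ||| m < 2 ^ 24 := Nat.bitwise_lt_two_pow (by norm_num) hm
    refine mset_inj (Nat.lt_of_le_of_lt Nat.and_le_left hlt) hlt ?_
    rw [mset_and, Finset.inter_eq_left, mset_or, hbase]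
    obtain ⟨hs3, ht3⟩ := Finset.union_subset_iff.1 h3
    exact Finset.union_subset (Finset.insert_subset h1 (Finset.insert_subset h2 hs3)) ht3

theorem pair_mask {t : Finset GolayPt} :
    (t.card = 2 ∧ pt 23 ∉ t ∧ pt 0 ∉ t ∧ Disjoint s₀ t) ↔ ∃ m ∈ pairMasks, mset m = t := by
  constructor
  · rintro ⟨ht, h1, h2, h3⟩
    obtain ⟨c, d, hcd, rfl⟩ := Finset.card_eq_two.1 ht
    simp only [Finset.mem_insert, Finset.mem_singleton, not_or] at h1 h2
    rw [Finset.disjoint_right] at h3
    have hc := h3 (Finset.mem_insert_self c {d})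
    have hd := h3 (Finset.mem_insert_of_mem (Finset.mem_singleton_self d))
    revert hcd h1 h2 hc hd
    clear ht h3
    revert c d
    decide +kernel
  · rintro ⟨m, hm, rfl⟩
    revert m
    decide +kernel

theorem count_base (b : Bool) :
    {t : Finset GolayPt | (t.card = 2 ∧ pt 23 ∉ t ∧ pt 0 ∉ t) ∧ Disjoint s₀ t ∧
      (InOct (pt 23) (pt 0) s₀ t ↔ b = true)}.ncard =
      (pairMasks.filter fun m => inOctMask m == b).length := by
  have hlt : ∀ m ∈ pairMasks, m < 2 ^ 24 := by decide +kernel
  have e : {t : Finset GolayPt | (t.card = 2 ∧ pt 23 ∉ t ∧ pt 0 ∉ t) ∧ Disjoint s₀ t ∧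
      (InOct (pt 23) (pt 0) s₀ t ↔ b = true)} =
      ((((pairMasks.filter fun m => inOctMask m == b)).map mset).toFinset : Set (Finset GolayPt)) := by
    ext t
    simp only [Set.mem_ofPred_eq, Finset.mem_coe, List.mem_toFinset, List.mem_map, List.mem_filter,
      beq_iff_eq]
    constructor
    · rintro ⟨⟨h1, h2, h3⟩, h4, h5⟩
      obtain ⟨m, hm, rfl⟩ := pair_mask.1 ⟨h1, h2, h3, h4⟩
      refine ⟨m, ⟨hm, ?_⟩, rfl⟩
      rw [← inOct_mask (hlt m hm)] at h5
      cases b <;> simp_all
    · rintro ⟨m, ⟨hm, hb⟩, rfl⟩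
      obtain ⟨h1, h2, h3, h4⟩ := pair_mask.2 ⟨m, hm, rfl⟩
      refine ⟨⟨h1, h2, h3⟩, h4, ?_⟩
      rw [← inOct_mask (hlt m hm), hb]
  rw [e, Set.ncard_coe_finset, List.toFinset_card_of_nodup, List.length_map]
  refine List.Nodup.map_on (fun x hx y hy he => ?_) (List.Nodup.filter _ (by decide +kernel))
  exact mset_inj (hlt x (List.mem_filter.1 hx).1) (hlt y (List.mem_filter.1 hy).1) he

end Cfsg.Agent.GolayPairs
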