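import Cfsg.Agent.Lib.GolayM24
import Cfsg.Agent.Lib.PSLCard
import Cfsg.Agent.Lib.PSLSimple

/-!
The three-point stabiliser in the group of the length-24 code as PSL(3, F) for a field with four
elements: a labelling of the 21 other points by the projective plane.
-/

set_option autoImplicit false

namespace Cfsg.Agent.GolayPlaneFour

open Cfsg Cfsg.Agent.GolayBasic Cfsg.Agent.GolayPerm Cfsg.Agent.GolayData Cfsg.Agent.GolayM24
open scoped LinearAlgebra.Projectivization Pointwise

/-- Product of two coded field elements. -/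
def m4 (a b : ℕ) : ℕ := [0, 0, 0, 0, 0, 1, 2, 3, 0, 2, 3, 1, 0, 3, 1, 2].getD (4 * a + b) 0

/-- The coordinates of point number `i`, two bits each. -/
def label (i : ℕ) : ℕ := [0, 1, 4, 16, 21, 31, 20, 27, 6, 23, 30, 7, 0, 26, 25, 17, 28, 22, 5, 29, 24, 18, 19, 0].getD i 0

/-- Coordinate `j` of a code. -/
def coord (t j : ℕ) : ℕ := (t >>> (2 * j)) % 4

/-- Scaling a code. -/
def scale (c t : ℕ) : ℕ := m4 c (coord t 0) + 4 * m4 c (coord t 1) + 16 * m4 c (coord t 2)

/-- The coded transvection. -/
def shear (r s c t : ℕ) : ℕ := t ^^^ (m4 c (coord t s) <<< (2 * r))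

/-- The 21 labelled point numbers. -/
def planePts : List ℕ := (List.range 24).filter fun i => !(8392705 : ℕ).testBit i

/-- The transvections as permutations of the 24 points. -/
def tvPerms : List (ℕ × ℕ × ℕ × ℕ) :=
  [(0, 1, 1, 984808994324989787920432733968517152),
  (0, 1, 2, 984801637148211260229913135071469600),
  (0, 1, 3, 984810071145455332016797941801004064),
  (0, 2, 1, 983553010088178266402939871779325984),
  (0, 2, 2, 974992129703708925382840134133254176),
  (0, 2, 3, 959894609041950200578829698494826528),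
  (1, 0, 1, 962426244946727376604769826773240384),
  (1, 0, 2, 967496459988837795700766453955397984),
  (1, 0, 3, 965184705072396111903715095795042560),
  (1, 2, 1, 967775751955048358589096069482874912),
  (1, 2, 2, 965000468208242815912999927533930528),
  (1, 2, 3, 962286864140653867024520594739169312),
  (2, 0, 1, 983560281666884741949561743073184224),
  (2, 0, 2, 957315201869412709605548522843769536),
  (2, 0, 3, 974919946742585328872383825564502688),
  (2, 1, 1, 984812680889878029252177586422913056),
  (2, 1, 2, 984800045175449534942630167704616992),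
  (2, 1, 3, 984795341472366346341846312132136992)]

/-- The certificate for one transvection. -/
def tvCheck : ℕ × ℕ × ℕ × ℕ → Bool
  | (r, s, c, P) => good P && pimg P 23 == 23 && pimg P 0 == 0 && pimg P 12 == 12 &&
      planePts.all fun i => planePts.contains (pimg P i) &&
        [1, 2, 3].any fun d => scale d (label (pimg P i)) == shear r s c (label i)

theorem tv_ok : tvPerms.all tvCheck = true := by decide +kernel

theorem tv_all_check : ((List.range 3).all fun r => (List.range 3).all fun s =>
    (List.range 4).all fun c => r == s || c == 0 ||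
      tvPerms.any fun x => x.1 == r && x.2.1 == s && x.2.2.1 == c) = true := by decide +kernel

theorem tv_all {r s c : ℕ} (hr : r < 3) (hs : s < 3) (hc : c < 4) (hne : r ≠ s) (hc0 : c ≠ 0) :
    ∃ P, (r, s, c, P) ∈ tvPerms := by
  have h := tv_all_check
  simp only [List.all_eq_true, List.mem_range, Bool.or_eq_true, beq_iff_eq, List.any_eq_true,
    Bool.and_eq_true] at h
  obtain ((h1 | h1) | ⟨⟨a, b, d, P⟩, hx, ⟨e1, e2⟩, e3⟩) := h r hr s hs c hc
  · exact absurd h1 hne
  · exact absurd h1 hc0
  · exact ⟨P, by simpa [e1, e2, e3] using (show (r, s, c, P) ∈ tvPerms by rw [← e1, ← e2, ← e3]; exact hx)⟩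

theorem label_lt : ∀ i ∈ planePts, label i < 64 ∧ label i ≠ 0 := by decide +kernel

theorem label_inj : ∀ i ∈ planePts, ∀ j ∈ planePts, ∀ c ∈ [1, 2, 3],
    scale c (label j) = label i → i = j := by decide +kernel

theorem label_surj : ∀ t < 64, t ≠ 0 →
    planePts.any (fun i => [1, 2, 3].any fun c => scale c (label i) == t) = true := by decide +kernel

theorem scale_lt : ∀ t < 64, ∀ c < 4, scale c t < 64 ∧
    ∀ j < 3, coord (scale c t) j = m4 c (coord t j) := by decide +kernel

theorem shear_coord : ∀ t < 64, ∀ r < 3, ∀ s < 3, ∀ c < 4, ∀ j < 3,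
    coord (shear r s c t) j = if j = r then coord t r ^^^ m4 c (coord t s) else coord t j := by
  decide +kernel

theorem code_ext : ∀ t < 64, ∀ u < 64, coord t 0 = coord u 0 → coord t 1 = coord u 1 →
    coord t 2 = coord u 2 → t = u := by decide +kernel

variable {F : Type*} [Field F]

/-- The field element with a code. -/
def emb (w : F) : ℕ → F
  | 0 => 0
  | 1 => 1
  | 2 => w
  | _ => w + 1

/-- The vector with a code. -/
def vec (w : F) (t : ℕ) : Fin 3 → F := fun j => emb w (coord t j)

variable [Fintype F]

theorem exists_omega (hF : Fintype.card F = 4) :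
    ∃ w : F, (∀ x : F, ∃ a < 4, emb w a = x) ∧ (∀ a < 4, ∀ b < 4, emb w a = emb w b → a = b) ∧
      (∀ a < 4, ∀ b < 4, emb w (a ^^^ b) = emb w a + emb w b) ∧
      (∀ a < 4, ∀ b < 4, emb w (m4 a b) = emb w a * emb w b) := by
  classical
  haveI : Fact (Nat.Prime 2) := ⟨Nat.prime_two⟩
  haveI : CharP F 2 := charP_of_card_eq_prime_pow (p := 2) (f := 2) hF
  obtain ⟨w, hw⟩ : ∃ w : F, w ∉ ({0, 1} : Finset F) := by
    by_contra hc
    simp only [not_exists, not_not] at hc
    have h1 : (Finset.univ : Finset F) ⊆ {0, 1} := fun x _ => hc x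
    have h2 := Finset.card_le_card h1
    have h3 : ({0, 1} : Finset F).card ≤ 2 := Finset.card_le_two
    rw [Finset.card_univ, hF] at h2
    omega
  simp only [Finset.mem_insert, Finset.mem_singleton, not_or] at hw
  have hw1 : w + 1 ≠ 0 := fun h => hw.2 (CharTwo.add_eq_zero.1 h)
  have hinj : ∀ a < 4, ∀ b < 4, emb w a = emb w b → a = b := by
    intro a ha b hb h
    interval_cases a <;> interval_cases b <;> simp [emb] at h ⊢ <;>
      first
        | exact hw.1 h
        | exact hw.1 h.symm
        | exact hw.2 h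
        | exact hw.2 h.symm
        | exact hw1 h
        | exact hw1 h.symm
  have hbij : Function.Bijective fun a : Fin 4 => emb w a.1 :=
    (Fintype.bijective_iff_injective_and_card _).2
      ⟨fun a b h => Fin.ext (hinj _ a.2 _ b.2 h), by rw [Fintype.card_fin, hF]⟩
  have hsurj : ∀ x : F, ∃ a < 4, emb w a = x := fun x => by
    obtain ⟨a, ha⟩ := hbij.2 x
    exact ⟨a.1, a.2, ha⟩
  have hq : w * w = w + 1 := by
    obtain ⟨a, ha, h⟩ := hsurj (w * w)
    interval_cases a <;> simp only [emb] at h
    · exact absurd (mul_self_eq_zero.1 h.symm) hw.1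
    · exact absurd (CharTwo.add_eq_zero.1 (mul_self_eq_zero.1 (show (w + 1) * (w + 1) = 0 by
        rw [CharTwo.add_mul_self, ← h, one_mul, CharTwo.add_self_eq_zero]))) hw.2
    · refine absurd (mul_left_cancel₀ hw.1 (show w * w = w * 1 by rw [← h, mul_one])) hw.2
    · exact h.symm
  refine ⟨w, hsurj, hinj, ?_, ?_⟩
  · intro a ha b hb
    interval_cases a <;> interval_cases b <;>
      simp [emb, CharTwo.add_self_eq_zero, ← add_assoc] <;>
      first
        | ring1
        | (ring_nf; simp [CharTwo.two_eq_zero])
  · intro a ha b hb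
    interval_cases a <;> interval_cases b <;> simp [emb, m4, add_mul, mul_add, hq] <;>
      (ring_nf; simp [CharTwo.two_eq_zero, show (3 : F) = 1 by linear_combination (CharTwo.two_eq_zero : (2 : F) = 0)])

theorem card_PSL3 (hF : Fintype.card F = 4) :
    Nat.card (Matrix.ProjectiveSpecialLinearGroup (Fin 3) F) = 20160 := by
  have hc : Nat.card F = 4 := by rw [Nat.card_eq_fintype_card, hF]
  have h1 := PSLCard.card_SL (F := F) 3
  have h2 := PSLCard.card_PSL_mul (F := F) 3
  rw [hc, Fin.prod_univ_three] at h1
  rw [hc, show Nat.gcd 3 (4 - 1) = 3 by decide] at h2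
  norm_num at h1
  omega

/-- The labelled points. -/
def planeSet : GolayPt → Prop := fun p => idx p ∈ planePts

instance : DecidablePred planeSet := fun p => inferInstanceAs (Decidable (idx p ∈ planePts))

theorem plane_notMem {p : GolayPt} (h : ¬ planeSet p) : idx p = 23 ∨ idx p = 0 ∨ idx p = 12 := by
  revert h
  revert p
  decide +kernel

theorem base_notMem : ∀ b ∈ [23, 0, 12], ¬ planeSet (pt b) := by decide +kernel

theorem equiv_plane (hF : Fintype.card F = 4) :
    Nonempty (↥(fixList M24 [23, 0, 12]) ≃* Matrix.ProjectiveSpecialLinearGroup (Fin 3) F) := by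
  classical
  obtain ⟨w, hsurj, hinj, hadd, hmul⟩ := exists_omega hF
  have hz : emb w 0 = 0 := rfl
  have hc4 : ∀ t j, coord t j < 4 := fun t j => Nat.mod_lt _ (by norm_num)
  have hext : ∀ t < 64, ∀ u < 64, vec w t = vec w u → t = u := by
    intro t ht u hu h
    have hh : ∀ j : Fin 3, coord t j = coord u j := fun j =>
      hinj _ (hc4 _ _) _ (hc4 _ _) (congrFun h j)
    exact code_ext t ht u hu (hh 0) (hh 1) (hh 2)
  have hscale : ∀ c < 4, ∀ t < 64, vec w (scale c t) = emb w c • vec w t := by
    intro c hc t ht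
    funext j
    show emb w (coord (scale c t) j) = emb w c * emb w (coord t j)
    rw [(scale_lt t ht c hc).2 j j.2, hmul c hc _ (hc4 _ _)]
  have hzero : vec w 0 = 0 := by funext j; simp [vec, coord, emb]
  have hne : ∀ p : {p // planeSet p}, vec w (label (idx p.1)) ≠ 0 := fun p h =>
    (label_lt _ p.2).2 (hext _ (label_lt _ p.2).1 0 (by norm_num) (h.trans hzero.symm))
  let f : {p // planeSet p} → ℙ F (Fin 3 → F) := fun p =>
    Projectivization.mk F (vec w (label (idx p.1))) (hne p)
  have hc123 : ∀ c ∈ [1, 2, 3], c < 4 ∧ c ≠ 0 := by decide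
  have hfinj : Function.Injective f := by
    intro p q h
    obtain ⟨a, ha⟩ := (Projectivization.mk_eq_mk_iff' F _ _ (hne p) (hne q)).1 h
    obtain ⟨c, hc, rfl⟩ := hsurj a
    have h0 : c ≠ 0 := fun e => hne p (by rw [← ha, e, hz, zero_smul])
    rw [← hscale c hc _ (label_lt _ q.2).1] at ha
    have hm : c ∈ [1, 2, 3] := by simp; omega
    exact Subtype.ext (idx_inj (label_inj _ p.2 _ q.2 c hm
      (hext _ (scale_lt _ (label_lt _ q.2).1 c hc).1 _ (label_lt _ p.2).1 ha)))
  have hfsurj : Function.Surjective f := by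
    intro x
    induction x using Projectivization.ind with
    | h v hv =>
      obtain ⟨a, ha, ha'⟩ := hsurj (v 0)
      obtain ⟨b, hb, hb'⟩ := hsurj (v 1)
      obtain ⟨c, hc, hc'⟩ := hsurj (v 2)
      have hcode : ∀ a < 4, ∀ b < 4, ∀ c < 4, coord (a + 4 * b + 16 * c) 0 = a ∧
          coord (a + 4 * b + 16 * c) 1 = b ∧ coord (a + 4 * b + 16 * c) 2 = c := by decide +kernel
      obtain ⟨e0, e1, e2⟩ := hcode a ha b hb c hc
      have hv' : vec w (a + 4 * b + 16 * c) = v := by
        funext j
        fin_cases j
        · exact (congrArg (emb w) e0).trans ha'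
        · exact (congrArg (emb w) e1).trans hb'
        · exact (congrArg (emb w) e2).trans hc'
      have h := label_surj (a + 4 * b + 16 * c) (by omega)
        (fun e => hv (by rw [← hv', e, hzero]))
      simp only [List.any_eq_true, beq_iff_eq] at h
      obtain ⟨i, hi, d, hd, hdt⟩ := h
      have hi24 : i < 24 := List.mem_range.1 (List.mem_filter.1 hi).1
      refine ⟨⟨pt i, by rw [planeSet, idx_pt hi24]; exact hi⟩, ?_⟩
      refine ((Projectivization.mk_eq_mk_iff' F _ _ hv (hne _)).2 ⟨emb w d, ?_⟩).symm
      rw [idx_pt hi24, ← hscale d (hc123 d hd).1 _ (label_lt i hi).1, hdt, hv']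
  let e : ℙ F (Fin 3 → F) ≃ {p // planeSet p} := (Equiv.ofBijective f ⟨hfinj, hfsurj⟩).symm
  let ψ : Matrix.ProjectiveSpecialLinearGroup (Fin 3) F →* Equiv.Perm GolayPt :=
    (Equiv.Perm.extendDomainHom e).comp
      (MulAction.toPermHom (Matrix.ProjectiveSpecialLinearGroup (Fin 3) F) (ℙ F (Fin 3 → F)))
  have hψ : Function.Injective ψ := (Equiv.Perm.extendDomainHom_injective e).comp
    (fun a b h => eq_of_smul_eq_smul fun x : ℙ F (Fin 3 → F) => Equiv.congr_fun h x)
  have hmem : ∀ A : Matrix.SpecialLinearGroup (Fin 3) F,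
      ψ (QuotientGroup.mk A) ∈ fixList M24 [23, 0, 12] := by
    refine fun A => PSLSimple.transvection_induction
      (fun A => ψ (QuotientGroup.mk A) ∈ fixList M24 [23, 0, 12]) ?_ ?_ A
    · intro r s hrs x
      obtain ⟨c, hc, rfl⟩ := hsurj x
      rcases eq_or_ne c 0 with rfl | hc0
      · have h1 : Matrix.SpecialLinearGroup.transvection hrs (emb w 0) = 1 := by
          apply Subtype.ext
          show Matrix.transvection r s (emb w 0) = 1
          rw [hz, Matrix.transvection_zero]
        rw [h1, QuotientGroup.mk_one, map_one]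
        exact one_mem _
      obtain ⟨P, hP⟩ := tv_all r.2 s.2 hc (fun e => hrs (Fin.ext e)) hc0
      have hchk := List.all_eq_true.1 tv_ok _ hP
      simp only [tvCheck, Bool.and_eq_true, beq_iff_eq, List.all_eq_true, List.any_eq_true,
        List.contains_iff_mem] at hchk
      obtain ⟨⟨⟨⟨hg, h23⟩, h00⟩, h12⟩, hall⟩ := hchk
      have hv := valid_of_good hg
      have hap : ∀ p, permOf P p = pt (pimg P (idx p)) := fun p => by rw [permOf_apply hv, pfun]
      suffices h : ψ (QuotientGroup.mk (Matrix.SpecialLinearGroup.transvection hrs (emb w c))) =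
          permOf P by
        rw [h]
        refine mem_fixList.2 ⟨permOf_mem_M24 hg, fun b hb => ?_⟩
        rw [hap, idx_pt ((by decide : ∀ b ∈ [23, 0, 12], b < 24) b hb)]
        fin_cases hb
        · rw [h23]
        · rw [h00]
        · rw [h12]
      refine Equiv.ext fun p => ?_
      by_cases hp : planeSet p
      · obtain ⟨hmem', d, hd, hdt⟩ := hall _ hp
        have hi24 : pimg P (idx p) < 24 := pimg_lt hv (idx_lt p)
        have hq : planeSet (pt (pimg P (idx p))) := by rw [planeSet, idx_pt hi24]; exact hmem'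
        have hval : (Matrix.SpecialLinearGroup.transvection hrs (emb w c)).1.mulVec
            (vec w (label (idx p))) = vec w (shear r s c (label (idx p))) := by
          funext j
          rw [PSLSimple.transvection_mulVec hrs]
          simp only [vec, shear_coord _ (label_lt _ hp).1 r r.2 s s.2 c hc j j.2]
          by_cases hj : j = r
          · subst hj
            rw [if_pos rfl, hadd _ (hc4 _ _) _ (by
              have : ∀ a < 4, ∀ b < 4, m4 a b < 4 := by decide +kernel
              exact this c hc _ (hc4 _ _)), hmul c hc _ (hc4 _ _)]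
            simp
            rfl
          · rw [if_neg (fun e => hj (Fin.ext e))]
            simp [hj]
            rfl
        have hsm : (QuotientGroup.mk (Matrix.SpecialLinearGroup.transvection hrs (emb w c)) :
            Matrix.ProjectiveSpecialLinearGroup (Fin 3) F) • f ⟨p, hp⟩ =
              f ⟨pt (pimg P (idx p)), hq⟩ := by
          show Matrix.SpecialLinearGroup.transvection hrs (emb w c) • f ⟨p, hp⟩ = _
          refine (Projectivization.smul_mk _ (hne ⟨p, hp⟩)).trans
            ((Projectivization.mk_eq_mk_iff' F _ _ _ (hne ⟨_, hq⟩)).2 ⟨emb w d, ?_⟩)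
          show emb w d • vec w (label (idx (pt (pimg P (idx p))))) =
            (Matrix.SpecialLinearGroup.transvection hrs (emb w c)).1.mulVec _
          rw [idx_pt hi24, ← hscale d (hc123 d hd).1 _ (label_lt _ hmem').1, hdt, hval]
        have hes : e.symm ⟨p, hp⟩ = f ⟨p, hp⟩ := rfl
        show Equiv.Perm.extendDomain (MulAction.toPermHom _ _ _) e p = _
        rw [Equiv.Perm.extendDomain_apply_subtype _ e hp, MulAction.toPermHom_apply,
          MulAction.toPerm_apply, hes, hsm, hap]
        exact congrArg Subtype.val ((Equiv.ofBijective f ⟨hfinj, hfsurj⟩).symm_apply_apply ⟨_, hq⟩)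
      · show Equiv.Perm.extendDomain (MulAction.toPermHom _ _ _) e p = _
        rw [Equiv.Perm.extendDomain_apply_not_subtype _ e hp, hap]
        rcases plane_notMem hp with h | h | h <;> rw [h]
        · rw [h23, ← h, pt_idx]
        · rw [h00, ← h, pt_idx]
        · rw [h12, ← h, pt_idx]
    · intro A B hA hB
      rw [QuotientGroup.mk_mul, map_mul]
      exact mul_mem hA hB
  have hle : ψ.range ≤ fixList M24 [23, 0, 12] := by
    rintro _ ⟨x, rfl⟩
    obtain ⟨A, rfl⟩ := QuotientGroup.mk_surjective x
    exact hmem A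
  have heq : ψ.range = fixList M24 [23, 0, 12] := by
    refine Subgroup.eq_of_le_of_card_ge hle ?_
    rw [← Nat.card_congr (MonoidHom.ofInjective hψ).toEquiv, card_PSL3 hF, card_chain3, card_chain4,
      card_chain5, card_chain6, card_chain7]
  exact ⟨((MonoidHom.ofInjective hψ).trans (MulEquiv.subgroupCongr heq)).symm⟩

end Cfsg.Agent.GolayPlaneFour
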