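import Mathlib
import Cfsg.Prelude.Def_SporadicCombinatorics
import Cfsg.Agent.Lib.GolayM24

/-!
Complete pruned enumeration of the elements of the group of the code along its chain of point
stabilisers.
-/

set_option autoImplicit false

namespace Cfsg.Agent.GolaySearch

open Cfsg Cfsg.Agent.GolayBasic Cfsg.Agent.GolayPerm Cfsg.Agent.GolayData
open scoped Pointwise

/-- image of a point number under a word of encoded permutations -/
noncomputable def app (w : List ℕ) (i : ℕ) : ℕ :=
  @List.rec ℕ (fun _ => ℕ) i (fun P _ r => pimg P r) w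

/-- the permutation of a word -/
noncomputable def wperm (w : List ℕ) : Equiv.Perm GolayPt := (w.map permOf).prod

theorem app_cons (P : ℕ) (w : List ℕ) (i : ℕ) : app (P :: w) i = pimg P (app w i) := rfl

theorem app_append_singleton (t : ℕ) : ∀ (w : List ℕ) (i : ℕ), app (w ++ [t]) i = app w (pimg t i)
  | [], _ => rfl
  | P :: w, i => by rw [List.cons_append, app_cons, app_cons, app_append_singleton t w i]

theorem wperm_apply : ∀ {w : List ℕ}, (∀ P ∈ w, good P = true) → ∀ {i : ℕ}, i < 24 →
    app w i < 24 ∧ wperm w (pt i) = pt (app w i)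
  | [], _, i, hi => ⟨hi, rfl⟩
  | P :: w, h, i, hi => by
    obtain ⟨h1, h2⟩ := wperm_apply (fun Q hQ => h Q (List.mem_cons_of_mem _ hQ)) hi
    have hv := valid_of_good (h P List.mem_cons_self)
    refine ⟨pimg_lt hv h1, ?_⟩
    rw [wperm, List.map_cons, List.prod_cons, Equiv.Perm.mul_apply]
    show permOf P (wperm w (pt i)) = _
    rw [h2, permOf_apply hv, pfun, idx_pt h1]
    rfl

theorem wperm_mem : ∀ {w : List ℕ}, (∀ P ∈ w, good P = true) → wperm w ∈ M24
  | [], _ => one_mem _
  | P :: w, h => by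
    rw [wperm, List.map_cons, List.prod_cons]
    exact mul_mem (permOf_mem_M24 (h P List.mem_cons_self))
      (wperm_mem fun Q hQ => h Q (List.mem_cons_of_mem _ hQ))

theorem app_inj {w : List ℕ} (hw : ∀ P ∈ w, good P = true) {i j : ℕ} (hi : i < 24) (hj : j < 24)
    (h : app w i = app w j) : i = j := by
  have e : wperm w (pt i) = wperm w (pt j) := by
    rw [(wperm_apply hw hi).2, (wperm_apply hw hj).2, h]
  rw [← idx_pt hi, ← idx_pt hj, (wperm w).injective e]

/-- evaluate a number before use -/
noncomputable def force {α : Type} (n : ℕ) (k : ℕ → α) : α :=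
  @Nat.rec (fun _ => α) (k 0) (fun m _ => k (m + 1)) n

theorem force_eq {α : Type} (n : ℕ) (k : ℕ → α) : force n k = k n := by
  cases n <;> rfl

/-- the pruned search -/
noncomputable def search (C : List ℕ → ℕ → Bool) :
    List (ℕ × List ℕ) → List ℕ → List ℕ → List (List ℕ)
  | [], w, _ => [w]
  | (b, ts) :: ls, w, ims => ts.flatMap fun t =>
    force (app w (pimg t b)) fun v => if C ims v then search C ls (w ++ [t]) (ims ++ [v]) else []

/-- certificate of one level -/
def levelChk (pref : List ℕ) (b : ℕ) (ts : List ℕ) : Bool :=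
  decide (b < 24) && pref.all (fun f => decide (f < 24)) &&
    ts.all (fun t => good t && pref.all fun f => pimg t f == f) &&
    decide (ts.map fun t => pimg t b).Nodup

/-- correctness of the levels after the fixed points `pref` -/
def StepsOk : List ℕ → List (ℕ × List ℕ) → Prop
  | pref, [] => fixList M24 pref = ⊥
  | pref, (b, ts) :: ls => levelChk pref b ts = true ∧
      (∀ h ∈ fixList M24 pref, ∃ t ∈ ts, pimg t b = idx (h (pt b))) ∧ StepsOk (pref ++ [b]) ls

theorem levelChk_spec {pref : List ℕ} {b : ℕ} {ts : List ℕ} (h : levelChk pref b ts = true) :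
    b < 24 ∧ (∀ f ∈ pref, f < 24) ∧ (∀ t ∈ ts, good t = true ∧ ∀ f ∈ pref, pimg t f = f) ∧
      (ts.map fun t => pimg t b).Nodup := by
  simp only [levelChk, Bool.and_eq_true, decide_eq_true_eq, List.all_eq_true, beq_iff_eq] at h
  exact ⟨h.1.1.1, h.1.1.2, h.1.2, h.2⟩

theorem step_cover {pref : List ℕ} {b : ℕ} {ts : List ℕ} (hc : levelChk pref b ts = true) {n : ℕ}
    (hlen : ts.length = n)
    (hcard : Nat.card (fixList M24 pref) = n * Nat.card (fixList M24 (pref ++ [b])))
    (hpos : Nat.card (fixList M24 (pref ++ [b])) ≠ 0) :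
    ∀ h ∈ fixList M24 pref, ∃ t ∈ ts, pimg t b = idx (h (pt b)) := by
  classical
  obtain ⟨hb, hpref, hts, hnd⟩ := levelChk_spec hc
  set O : Finset GolayPt := Finset.univ.filter fun y => ∃ h ∈ fixList M24 pref, h (pt b) = y with hO
  have hO' : O.card = n := by
    have := card_eq_card_mul (fixList M24 pref) (pt b) O
      (fun g hg => by rw [hO, Finset.mem_filter]; exact ⟨Finset.mem_univ _, g, hg, rfl⟩)
      (fun y hy => (Finset.mem_filter.1 hy).2)
    rw [hcard, fixList_append] at this
    rw [fixList_append] at hpos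
    exact (Nat.eq_of_mul_eq_mul_right (Nat.pos_of_ne_zero hpos) this).symm
  set S : Finset GolayPt := (ts.map fun t => pt (pimg t b)).toFinset with hS
  have hSO : S ⊆ O := by
    intro y hy
    rw [hS, List.mem_toFinset, List.mem_map] at hy
    obtain ⟨t, ht, rfl⟩ := hy
    have hv := valid_of_good (hts t ht).1
    rw [hO, Finset.mem_filter]
    refine ⟨Finset.mem_univ _, permOf t, mem_fixList.2 ⟨permOf_mem_M24 (hts t ht).1, fun f hf => ?_⟩,
      by rw [permOf_apply hv, pfun, idx_pt hb]⟩
    rw [permOf_apply hv, pfun, idx_pt (hpref f hf), (hts t ht).2 f hf]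
  have hSc : S.card = n := by
    rw [hS, List.toFinset_card_of_nodup, List.length_map, hlen]
    have : (ts.map fun t => pt (pimg t b)) = (ts.map fun t => pimg t b).map pt := by
      rw [List.map_map]; rfl
    rw [this]
    refine hnd.map_on fun x hx y hy e => ?_
    obtain ⟨t, ht, rfl⟩ := List.mem_map.1 hx
    obtain ⟨t', ht', rfl⟩ := List.mem_map.1 hy
    rw [← idx_pt (pimg_lt (valid_of_good (hts t ht).1) hb), e,
      idx_pt (pimg_lt (valid_of_good (hts t' ht').1) hb)]
  intro h hh
  have hmem : h (pt b) ∈ S := by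
    rw [Finset.eq_of_subset_of_card_le hSO (by omega), hO, Finset.mem_filter]
    exact ⟨Finset.mem_univ _, h, hh, rfl⟩
  rw [hS, List.mem_toFinset, List.mem_map] at hmem
  obtain ⟨t, ht, e⟩ := hmem
  exact ⟨t, ht, by rw [← e, idx_pt (pimg_lt (valid_of_good (hts t ht).1) hb)]⟩

/-- the seven levels -/
def lev : List (ℕ × List ℕ) :=
  [(23, tr24_0), (0, tr24_1), (12, tr24_2), (14, tr24_3), (16, tr24_4), (17, tr24_5), (1, tr24_6)]

theorem stepsOk_lev : StepsOk [] lev := by
  have p7 : Nat.card (fixList M24 [23, 0, 12, 14, 16, 17, 1]) ≠ 0 := by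
    rw [GolayM24.card_chain7]; decide
  have p6 : Nat.card (fixList M24 [23, 0, 12, 14, 16, 17]) ≠ 0 := by
    rw [GolayM24.card_chain6]; omega
  have p5 : Nat.card (fixList M24 [23, 0, 12, 14, 16]) ≠ 0 := by
    rw [GolayM24.card_chain5]; omega
  have p4 : Nat.card (fixList M24 [23, 0, 12, 14]) ≠ 0 := by
    rw [GolayM24.card_chain4]; omega
  have p3 : Nat.card (fixList M24 [23, 0, 12]) ≠ 0 := by
    rw [GolayM24.card_chain3]; omega
  have p2 : Nat.card (fixList M24 [23, 0]) ≠ 0 := by
    rw [GolayM24.card_chain2]; omega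
  have p1 : Nat.card (fixList M24 [23]) ≠ 0 := by
    rw [GolayM24.card_chain1]; omega
  have c0 : levelChk [] 23 tr24_0 = true := by decide +kernel
  have c1 : levelChk [23] 0 tr24_1 = true := by decide +kernel
  have c2 : levelChk [23, 0] 12 tr24_2 = true := by decide +kernel
  have c3 : levelChk [23, 0, 12] 14 tr24_3 = true := by decide +kernel
  have c4 : levelChk [23, 0, 12, 14] 16 tr24_4 = true := by decide +kernel
  have c5 : levelChk [23, 0, 12, 14, 16] 17 tr24_5 = true := by decide +kernel
  have c6 : levelChk [23, 0, 12, 14, 16, 17] 1 tr24_6 = true := by decide +kernel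
  exact ⟨c0, step_cover c0 (n := 24) rfl GolayM24.card_chain0 p1,
    c1, step_cover c1 (n := 23) rfl GolayM24.card_chain1 p2,
    c2, step_cover c2 (n := 22) rfl GolayM24.card_chain2 p3,
    c3, step_cover c3 (n := 21) rfl GolayM24.card_chain3 p4,
    c4, step_cover c4 (n := 20) rfl GolayM24.card_chain4 p5,
    c5, step_cover c5 (n := 3) rfl GolayM24.card_chain5 p6,
    c6, step_cover c6 (n := 16) rfl GolayM24.card_chain6 p7, GolayM24.fixList_base_eq_bot⟩

/-- the constraint along the levels, for an image function -/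
def Along (C : List ℕ → ℕ → Bool) (f : ℕ → ℕ) : List ℕ → List (ℕ × List ℕ) → Prop
  | _, [] => True
  | pref, (b, _) :: ls => C (pref.map f) (f b) = true ∧ Along C f (pref ++ [b]) ls

theorem mem_search_complete (C : List ℕ → ℕ → Bool) {g : Equiv.Perm GolayPt} :
    ∀ (ls : List (ℕ × List ℕ)) (pref w : List ℕ), StepsOk pref ls → (∀ P ∈ w, good P = true) →
      (wperm w)⁻¹ * g ∈ fixList M24 pref → Along C (fun b => idx (g (pt b))) pref ls →
      ∃ w' ∈ search C ls w (pref.map fun b => idx (g (pt b))), wperm w' = g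
  | [], pref, w, hs, _, hh, _ => by
    refine ⟨w, by simp [search], ?_⟩
    rw [StepsOk] at hs
    rw [hs, Subgroup.mem_bot] at hh
    exact eq_of_inv_mul_eq_one hh
  | (b, ts) :: ls, pref, w, hs, hw, hh, hC => by
    obtain ⟨hchk, hcov, hrest⟩ := hs
    obtain ⟨hb, hpref, hts, -⟩ := levelChk_spec hchk
    obtain ⟨t, ht, e⟩ := hcov _ hh
    have hv := valid_of_good (hts t ht).1
    have hw' : ∀ P ∈ w ++ [t], good P = true := fun P hP =>
      (List.mem_append.1 hP).elim (hw P) fun h => by rw [List.mem_singleton.1 h]; exact (hts t ht).1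
    have hlast : wperm (w ++ [t]) = wperm w * permOf t := by
      simp [wperm, List.map_append, List.prod_append]
    have hy : app w (pimg t b) = idx (g (pt b)) := by
      have h1 := wperm_apply hw (pimg_lt hv hb)
      rw [← idx_pt h1.1, ← h1.2, e, pt_idx, ← Equiv.Perm.mul_apply, mul_inv_cancel_left]
    have hh' : (wperm (w ++ [t]))⁻¹ * g ∈ fixList M24 (pref ++ [b]) := by
      obtain ⟨hm, hf⟩ := mem_fixList.1 hh
      rw [hlast, mul_inv_rev, mul_assoc]
      refine mem_fixList.2 ⟨mul_mem (inv_mem (permOf_mem_M24 (hts t ht).1)) hm, fun f hf' => ?_⟩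
      rw [Equiv.Perm.mul_apply, Equiv.Perm.inv_eq_iff_eq]
      rcases List.mem_append.1 hf' with hf' | hf'
      · rw [hf f hf', permOf_apply hv, pfun, idx_pt (hpref f hf'), (hts t ht).2 f hf']
      · rw [List.mem_singleton] at hf'
        subst hf'
        rw [permOf_apply hv, pfun, idx_pt hb, e, pt_idx]
    obtain ⟨w', hw'm, hw'g⟩ := mem_search_complete C ls _ _ hrest hw' hh' hC.2
    refine ⟨w', ?_, hw'g⟩
    rw [List.map_append, List.map_singleton] at hw'm
    rw [search, List.mem_flatMap]
    refine ⟨t, ht, ?_⟩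
    rw [force_eq, hy, if_pos hC.1]
    exact hw'm

theorem mem_search_sound (C : List ℕ → ℕ → Bool) :
    ∀ (ls : List (ℕ × List ℕ)) (pref w ims : List ℕ), StepsOk pref ls → (∀ P ∈ w, good P = true) →
      ∀ w' ∈ search C ls w ims, (∀ P ∈ w', good P = true) ∧ ∀ f ∈ pref, app w' f = app w f
  | [], _, w, _, _, hw, w', h => by
    rw [search, List.mem_singleton] at h
    subst h
    exact ⟨hw, fun _ _ => rfl⟩
  | (b, ts) :: ls, pref, w, ims, hs, hw, w', h => by
    obtain ⟨hchk, -, hrest⟩ := hs
    obtain ⟨hb, hpref, hts, -⟩ := levelChk_spec hchk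
    rw [search, List.mem_flatMap] at h
    obtain ⟨t, ht, h⟩ := h
    rw [force_eq] at h
    split at h
    · have hw' : ∀ P ∈ w ++ [t], good P = true := fun P hP =>
        (List.mem_append.1 hP).elim (hw P) fun h => by rw [List.mem_singleton.1 h]; exact (hts t ht).1
      obtain ⟨h1, h2⟩ := mem_search_sound C ls _ _ _ hrest hw' w' h
      refine ⟨h1, fun f hf => ?_⟩
      rw [h2 f (List.mem_append_left _ hf), app_append_singleton, (hts t ht).2 f hf]
    · simp at h

theorem search_nodup (C : List ℕ → ℕ → Bool) :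
    ∀ (ls : List (ℕ × List ℕ)) (pref w ims : List ℕ), StepsOk pref ls → (∀ P ∈ w, good P = true) →
      ((search C ls w ims).map wperm).Nodup
  | [], _, w, _, _, _ => by simp [search]
  | (b, ts) :: ls, pref, w, ims, hs, hw => by
    obtain ⟨hchk, -, hrest⟩ := hs
    obtain ⟨hb, hpref, hts, hnd⟩ := levelChk_spec hchk
    have hw' : ∀ t ∈ ts, ∀ P ∈ w ++ [t], good P = true := fun t ht P hP =>
      (List.mem_append.1 hP).elim (hw P) fun h => by rw [List.mem_singleton.1 h]; exact (hts t ht).1
    rw [search, List.map_flatMap, List.nodup_flatMap]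
    simp only [force_eq]
    refine ⟨fun t ht => ?_, ?_⟩
    · split
      · exact search_nodup C ls _ _ _ hrest (hw' t ht)
      · simp
    · refine ((List.pairwise_map).1 hnd).imp_of_mem ?_
      intro t t' ht ht' hne u hu hu'
      apply hne
      obtain ⟨w1, hw1, rfl⟩ := List.mem_map.1 hu
      obtain ⟨w2, hw2, e⟩ := List.mem_map.1 hu'
      split at hw1
      swap
      · simp at hw1
      split at hw2
      swap
      · simp at hw2
      obtain ⟨g1, f1⟩ := mem_search_sound C ls _ _ _ hrest (hw' t ht) w1 hw1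
      obtain ⟨g2, f2⟩ := mem_search_sound C ls _ _ _ hrest (hw' t' ht') w2 hw2
      have a1 := wperm_apply g1 hb
      have a2 := wperm_apply g2 hb
      have e' : app w1 b = app w2 b := by rw [← idx_pt a1.1, ← a1.2, ← e, a2.2, idx_pt a2.1]
      rw [f1 b (by simp), f2 b (by simp), app_append_singleton, app_append_singleton] at e'
      exact app_inj hw (pimg_lt (valid_of_good (hts t ht).1) hb)
        (pimg_lt (valid_of_good (hts t' ht').1) hb) e'

/-- all elements satisfying a constraint -/
noncomputable def searchAll (C : List ℕ → ℕ → Bool) : List (List ℕ) := search C lev [] []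

/-- the constraint for the whole chain -/
def Holds (C : List ℕ → ℕ → Bool) (f : ℕ → ℕ) : Prop :=
  C [] (f 23) = true ∧ C [f 23] (f 0) = true ∧ C [f 23, f 0] (f 12) = true ∧
  C [f 23, f 0, f 12] (f 14) = true ∧ C [f 23, f 0, f 12, f 14] (f 16) = true ∧
  C [f 23, f 0, f 12, f 14, f 16] (f 17) = true ∧
  C [f 23, f 0, f 12, f 14, f 16, f 17] (f 1) = true

/-- the image function of a permutation on point numbers -/
def num (g : Equiv.Perm GolayPt) (i : ℕ) : ℕ := idx (g (pt i))

theorem exists_of_holds {C : List ℕ → ℕ → Bool} {g : Equiv.Perm GolayPt} (hg : g ∈ M24)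
    (hC : Holds C (num g)) : ∃ w ∈ searchAll C, wperm w = g := by
  obtain ⟨h0, h1, h2, h3, h4, h5, h6⟩ := hC
  have := mem_search_complete C (g := g) lev [] [] stepsOk_lev (by simp)
    (by simpa [wperm, mem_fixList] using hg) ⟨h0, h1, h2, h3, h4, h5, h6, trivial⟩
  exact this

theorem good_of_mem {C : List ℕ → ℕ → Bool} {w : List ℕ} (hw : w ∈ searchAll C) :
    ∀ P ∈ w, good P = true :=
  (mem_search_sound C lev [] [] [] stepsOk_lev (by simp) w hw).1

theorem num_wperm {C : List ℕ → ℕ → Bool} {w : List ℕ} (hw : w ∈ searchAll C) {i : ℕ} (hi : i < 24) :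
    num (wperm w) i = app w i := by
  obtain ⟨h1, h2⟩ := wperm_apply (good_of_mem hw) hi
  rw [num, h2, idx_pt h1]

/-- Counting the elements with a property. -/
theorem ncard_of_search (C : List ℕ → ℕ → Bool) (P : Equiv.Perm GolayPt → Prop)
    (full : List ℕ → Bool) (hC : ∀ g ∈ M24, P g → Holds C (num g))
    (hfull : ∀ w ∈ searchAll C, (full w = true ↔ P (wperm w))) :
    {g : Equiv.Perm GolayPt | g ∈ M24 ∧ P g}.ncard = ((searchAll C).filter full).length := by
  classical
  have e : {g : Equiv.Perm GolayPt | g ∈ M24 ∧ P g} =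
      ((((searchAll C).filter full).map wperm).toFinset : Set (Equiv.Perm GolayPt)) := by
    ext g
    simp only [Set.mem_ofPred_eq, Finset.mem_coe, List.mem_toFinset, List.mem_map, List.mem_filter]
    constructor
    · rintro ⟨hg, hP⟩
      obtain ⟨w, hw, rfl⟩ := exists_of_holds hg (hC g hg hP)
      exact ⟨w, ⟨hw, (hfull w hw).2 hP⟩, rfl⟩
    · rintro ⟨w, ⟨hw, hf⟩, rfl⟩
      exact ⟨wperm_mem (good_of_mem hw), (hfull w hw).1 hf⟩
  rw [e, Set.ncard_coe_finset, List.toFinset_card_of_nodup, List.length_map]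
  exact (search_nodup C lev [] [] [] stepsOk_lev (by simp)).sublist (List.filter_sublist.map _)

theorem natCard_of_search (C : List ℕ → ℕ → Bool) (P : Equiv.Perm GolayPt → Prop)
    (full : List ℕ → Bool) (hC : ∀ g ∈ M24, P g → Holds C (num g))
    (hfull : ∀ w ∈ searchAll C, (full w = true ↔ P (wperm w))) :
    Nat.card {g : Equiv.Perm GolayPt // g ∈ M24 ∧ P g} = ((searchAll C).filter full).length := by
  rw [← ncard_of_search C P full hC hfull, ← Nat.card_coe_set_eq]
  rfl

theorem eq_of_num {g h : Equiv.Perm GolayPt} (he : ∀ i < 24, num g i = num h i) : g = h := by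
  refine Equiv.ext fun p => ?_
  have := he (idx p) (idx_lt p)
  rw [num, num, pt_idx] at this
  exact idx_inj this

end Cfsg.Agent.GolaySearch
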