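import Cfsg.Agent.Lib.GolaySearch
import Cfsg.Agent.Lib.GolayCount

/-!
The stabiliser of a sextet: the kernel on the six tetrads and its four-group part.
-/

set_option autoImplicit false

namespace Cfsg.Agent.GolaySextetKer

open Cfsg Cfsg.Agent.GolayBasic Cfsg.Agent.GolayPerm Cfsg.Agent.GolaySearch Cfsg.Agent.GolayOrbit
open scoped Pointwise

/-- the standard sextet -/
def sx : List ℕ := [3592, 557076, 1056898, 2097504, 4653056, 8409089]

/-- each base point stays in its tetrad -/
def cTet (ims : List ℕ) (v : ℕ) : Bool :=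
  sx.any fun a => Nat.testBit a ([23, 0, 12, 14, 16, 17, 1].getD ims.length 0) && Nat.testBit a v

/-- image of a mask under a word -/
noncomputable def wimg (w : List ℕ) (m : ℕ) : ℕ :=
  @List.rec ℕ (fun _ => ℕ) m (fun P _ r => pmask P r) w

/-- all tetrads fixed -/
noncomputable def kerChk (w : List ℕ) : Bool := sx.all fun a => wimg w a == a

/-- every pair of a tetrad fixed or exchanged with the other pair -/
noncomputable def fourChk (w : List ℕ) : Bool :=
  sx.all fun a => (pts.filter fun i => Nat.testBit a i).all fun i =>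
    (pts.filter fun i => Nat.testBit a i).all fun j =>
      i == j || (wimg w (1 <<< i ||| 1 <<< j) == (1 <<< i ||| 1 <<< j) ||
        wimg w (1 <<< i ||| 1 <<< j) == (a ^^^ (1 <<< i ||| 1 <<< j)))

theorem search_check :
    ((((searchAll cTet).filter kerChk).map fun w =>
      (fourChk w, !(fourChk w) || pts.all fun i => app w (app w i) == i)).count (true, true) == 64 &&
    (((searchAll cTet).filter kerChk).map fun w =>
      (fourChk w, !(fourChk w) || pts.all fun i => app w (app w i) == i)).count (false, true) == 128 &&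
    ((searchAll cTet).filter kerChk).length == 192) = true := by
  decide +kernel

theorem smul_mset_word : ∀ {w : List ℕ}, (∀ P ∈ w, good P = true) → ∀ m : ℕ,
    wperm w • mset m = mset (wimg w m) ∧ (m < 2 ^ 24 → wimg w m < 2 ^ 24)
  | [], _, m => ⟨by simp [wperm, wimg], id⟩
  | P :: w, h, m => by
    have hv := valid_of_good (h P List.mem_cons_self)
    obtain ⟨h1, -⟩ := smul_mset_word (fun Q hQ => h Q (List.mem_cons_of_mem _ hQ)) m
    refine ⟨?_, fun _ => pmask_lt hv _⟩
    rw [show wperm (P :: w) = permOf P * wperm w from List.prod_cons, mul_smul, h1, smul_mset hv]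
    rfl

theorem sextet_std : fam sx ∈ sextets := GolayOrbitThms.sextet_std

theorem mask_lt : ∀ a ∈ sx, a < 2 ^ 24 := by decide +kernel

/-- fixing every member of a family -/
def Fixes (S : Finset (Finset GolayPt)) (g : ↥M24) : Prop := ∀ t ∈ S, g • t = t

/-- fixing or exchanging the complementary pairs of every member -/
def Four (S : Finset (Finset GolayPt)) (g : ↥M24) : Prop :=
  Fixes S g ∧ ∀ t ∈ S, ∀ e ⊆ t, e.card = 2 → g • e = e ∨ g • e = t \ e

theorem fixes_smul {S : Finset (Finset GolayPt)} {g : ↥M24} (h : Fixes S g) : g • S = S := by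
  refine Finset.eq_of_subset_of_card_le ?_ (by
    rw [show g • S = (g : Equiv.Perm GolayPt) • S from rfl, Finset.card_smul_finset])
  intro t ht
  obtain ⟨u, hu, rfl⟩ := Finset.mem_smul_finset.1 ht
  rw [h u hu]
  exact hu

/-- the subgroup of the four-group part -/
def fourSub (S : Finset (Finset GolayPt)) : Subgroup ↥M24 where
  carrier := {g | Four S g}
  one_mem' := ⟨fun t _ => one_smul _ t, fun t _ e _ _ => Or.inl (one_smul _ e)⟩
  mul_mem' := by
    rintro g h ⟨hg, hg'⟩ ⟨hh, hh'⟩
    refine ⟨fun t ht => by rw [mul_smul, hh t ht, hg t ht], fun t ht e he hc => ?_⟩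
    rw [mul_smul]
    rcases hh' t ht e he hc with a | a <;> rw [a]
    · exact hg' t ht e he hc
    · rw [Finset.smul_finset_sdiff, hg t ht]
      rcases hg' t ht e he hc with b | b <;> rw [b]
      · exact Or.inr rfl
      · left; rw [Finset.sdiff_sdiff_eq_self he]
  inv_mem' := by
    rintro g ⟨hg, hg'⟩
    refine ⟨fun t ht => by rw [inv_smul_eq_iff, hg t ht], fun t ht e he hc => ?_⟩
    rcases hg' t ht e he hc with a | a
    · exact Or.inl (by rw [inv_smul_eq_iff, a])
    · refine Or.inr ?_
      rw [inv_smul_eq_iff, Finset.smul_finset_sdiff, hg t ht, a, Finset.sdiff_sdiff_eq_self he]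

theorem fixes_conj {S : Finset (Finset GolayPt)} {g : ↥M24} (k : ↥M24) (h : Fixes S g) :
    Fixes (k • S) (k * g * k⁻¹) := by
  intro t ht
  obtain ⟨u, hu, rfl⟩ := Finset.mem_smul_finset.1 ht
  rw [mul_smul, inv_smul_smul, mul_smul, h u hu]

theorem four_conj {S : Finset (Finset GolayPt)} {g : ↥M24} (k : ↥M24) (h : Four S g) :
    Four (k • S) (k * g * k⁻¹) := by
  refine ⟨fixes_conj k h.1, fun t ht e he hc => ?_⟩
  obtain ⟨u, hu, rfl⟩ := Finset.mem_smul_finset.1 ht
  have he' : k⁻¹ • e ⊆ u := by
    rwa [← Finset.smul_finset_subset_smul_finset_iff (a := k), smul_inv_smul]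
  have hc' : (k⁻¹ • e).card = 2 := by
    rw [show k⁻¹ • e = ((k⁻¹ : ↥M24) : Equiv.Perm GolayPt) • e from rfl, Finset.card_smul_finset, hc]
  rcases h.2 u hu _ he' hc' with a | a
  · exact Or.inl (by rw [mul_smul, mul_smul, a, smul_inv_smul])
  · exact Or.inr (by rw [mul_smul, mul_smul, a, Finset.smul_finset_sdiff, smul_inv_smul])

theorem card_transport {P : Finset (Finset GolayPt) → ↥M24 → Prop}
    (hP : ∀ {S : Finset (Finset GolayPt)} {g : ↥M24} (k : ↥M24), P S g → P (k • S) (k * g * k⁻¹))
    (k : ↥M24) (S : Finset (Finset GolayPt)) :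
    Nat.card {g // P (k • S) g} = Nat.card {g // P S g} := by
  refine (Nat.card_congr ((MulAut.conj k).toEquiv.subtypeEquiv fun g => ⟨fun h => hP k h, fun h => ?_⟩)).symm
  have := hP k⁻¹ (show P (k • S) (k * g * k⁻¹) from h)
  rwa [inv_smul_smul, inv_inv, show k⁻¹ * (k * g * k⁻¹) * k = g by group] at this

theorem holds_tet {g : ↥M24} (h : Fixes (fam sx) g) : Holds cTet (num (g : Equiv.Perm GolayPt)) := by
  have key : ∀ b, b < 24 →
      (sx.any fun a => Nat.testBit a b && Nat.testBit a (num (g : Equiv.Perm GolayPt) b)) = true := by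
    intro b hb
    obtain ⟨a, ha, hab⟩ : ∃ a ∈ sx, Nat.testBit a b = true :=
      (by decide +kernel : ∀ b, b < 24 → ∃ a ∈ sx, Nat.testBit a b = true) b hb
    refine List.any_eq_true.2 ⟨a, ha, Bool.and_eq_true_iff.2 ⟨hab, ?_⟩⟩
    have h1 := h _ (mem_fam.2 ⟨a, ha, rfl⟩)
    have h2 : g • pt b ∈ g • mset a :=
      Finset.smul_mem_smul_finset (mem_mset.2 (by rw [idx_pt hb]; exact hab))
    rw [h1] at h2
    exact mem_mset.1 h2
  exact ⟨key 23 (by norm_num), key 0 (by norm_num), key 12 (by norm_num), key 14 (by norm_num),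
    key 16 (by norm_num), key 17 (by norm_num), key 1 (by norm_num)⟩

theorem kerChk_iff {w : List ℕ} (hw : w ∈ searchAll cTet) :
    kerChk w = true ↔ Fixes (fam sx) ⟨wperm w, wperm_mem (good_of_mem hw)⟩ := by
  simp only [kerChk, List.all_eq_true, beq_iff_eq]
  constructor
  · intro h t ht
    obtain ⟨a, ha, rfl⟩ := mem_fam.1 ht
    show wperm w • mset a = mset a
    rw [(smul_mset_word (good_of_mem hw) a).1, h a ha]
  · intro h a ha
    refine mset_inj ((smul_mset_word (good_of_mem hw) a).2 (mask_lt a ha)) (mask_lt a ha) ?_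
    rw [← (smul_mset_word (good_of_mem hw) a).1]
    exact h _ (mem_fam.2 ⟨a, ha, rfl⟩)

theorem fourChk_iff {w : List ℕ} (hw : w ∈ searchAll cTet) :
    (kerChk w = true ∧ fourChk w = true) ↔
      Four (fam sx) ⟨wperm w, wperm_mem (good_of_mem hw)⟩ := by
  have hpair : ∀ a ∈ sx, ∀ i j, Nat.testBit a i = true → Nat.testBit a j = true → i < 24 → j < 24 →
      i ≠ j → mset (1 <<< i ||| 1 <<< j) = {pt i, pt j} ∧
        mset (a ^^^ (1 <<< i ||| 1 <<< j)) = mset a \ {pt i, pt j} ∧
        (1 <<< i ||| 1 <<< j) < 2 ^ 24 := by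
    intro a ha i j hai haj hi hj _
    have e : mset (1 <<< i ||| 1 <<< j) = {pt i, pt j} := by
      rw [mset_or, mset_one_shiftLeft hi, mset_one_shiftLeft hj]
      rfl
    refine ⟨e, ?_, Nat.or_lt_two_pow ?_ ?_⟩
    · rw [mset_xor, e, symmDiff_of_ge]
      intro p hp
      rcases Finset.mem_insert.1 hp with rfl | hp
      · exact mem_mset.2 (by rw [idx_pt hi]; exact hai)
      · rw [Finset.mem_singleton.1 hp]; exact mem_mset.2 (by rw [idx_pt hj]; exact haj)
    all_goals
      rw [Nat.one_shiftLeft]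
      exact Nat.pow_lt_pow_right (by norm_num) (by omega)
  rw [kerChk_iff hw]
  refine and_congr_right fun hfix => ?_
  simp only [fourChk, List.all_eq_true, List.mem_filter, Bool.or_eq_true, beq_iff_eq, mem_pts]
  constructor
  · intro h t ht e he hc
    obtain ⟨a, ha, rfl⟩ := mem_fam.1 ht
    obtain ⟨p, q, hpq, rfl⟩ := Finset.card_eq_two.1 hc
    have hp := mem_mset.1 (he (Finset.mem_insert_self p {q}))
    have hq := mem_mset.1 (he (Finset.mem_insert_of_mem (Finset.mem_singleton_self q)))
    have hne : idx p ≠ idx q := fun e => hpq (idx_inj e)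
    obtain ⟨e1, e2, -⟩ := hpair a ha _ _ hp hq (idx_lt p) (idx_lt q) hne
    rw [pt_idx, pt_idx] at e1 e2
    rw [← e2]
    show wperm w • ({p, q} : Finset GolayPt) = {p, q} ∨
      wperm w • ({p, q} : Finset GolayPt) = mset (a ^^^ (1 <<< idx p ||| 1 <<< idx q))
    rw [← e1, (smul_mset_word (good_of_mem hw) _).1]
    rcases h a ha _ ⟨idx_lt p, hp⟩ _ ⟨idx_lt q, hq⟩ with h' | h' | h'
    · exact absurd h' hne
    · exact Or.inl (congrArg mset h')
    · exact Or.inr (congrArg mset h')
  · intro h a ha i hi j hj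
    by_cases hij : i = j
    · exact Or.inl hij
    obtain ⟨e1, e2, hlt⟩ := hpair a ha i j hi.2 hj.2 hi.1 hj.1 hij
    refine Or.inr ?_
    have hsub : mset (1 <<< i ||| 1 <<< j) ⊆ mset a := by
      rw [e1]
      intro p hp
      rcases Finset.mem_insert.1 hp with rfl | hp
      · exact mem_mset.2 (by rw [idx_pt hi.1]; exact hi.2)
      · rw [Finset.mem_singleton.1 hp]; exact mem_mset.2 (by rw [idx_pt hj.1]; exact hj.2)
    have hc : (mset (1 <<< i ||| 1 <<< j)).card = 2 := by
      rw [e1, Finset.card_pair]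
      intro e
      exact hij (by rw [← idx_pt hi.1, e, idx_pt hj.1])
    have hw' := smul_mset_word (good_of_mem hw) (1 <<< i ||| 1 <<< j)
    rcases h _ (mem_fam.2 ⟨a, ha, rfl⟩) _ hsub hc with h' | h'
    · exact Or.inl (mset_inj (hw'.2 hlt) hlt (hw'.1 ▸ h'))
    · refine Or.inr (mset_inj (hw'.2 hlt) (Nat.xor_lt_two_pow (mask_lt a ha) hlt) ?_)
      rw [e2, ← e1, ← hw'.1]
      exact h'

theorem count_pairs (f g : List ℕ → Bool) : ∀ l : List (List ℕ),
    (l.map fun w => (f w, g w)).count (true, true) ≤ (l.filter f).length ∧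
    (l.map fun w => (f w, g w)).count (false, true) ≤ (l.filter fun w => !f w).length ∧
    (l.filter f).length + (l.filter fun w => !f w).length = l.length ∧
    ((l.map fun w => (f w, g w)).count (true, true) +
      (l.map fun w => (f w, g w)).count (false, true) = l.length → ∀ w ∈ l, g w = true) := by
  intro l
  induction l with
  | nil => simp
  | cons a l ih =>
    obtain ⟨i1, i2, i3, i4⟩ := ih
    cases hf : f a <;> cases hg : g a <;>
      simp [List.count_cons, List.filter_cons, hf, hg] <;>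
      refine ⟨by omega, by omega, by omega, fun h => ?_⟩ <;>
      first
      | omega
      | exact i4 (by omega)

theorem four_facts : (((searchAll cTet).filter kerChk).filter fourChk).length = 64 ∧
    ∀ w ∈ (searchAll cTet).filter kerChk,
      (!(fourChk w) || pts.all fun i => app w (app w i) == i) = true := by
  have h := search_check
  simp only [Bool.and_eq_true, beq_iff_eq] at h
  obtain ⟨k1, k2, k3, k4⟩ := count_pairs fourChk
    (fun w => !(fourChk w) || pts.all fun i => app w (app w i) == i) ((searchAll cTet).filter kerChk)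
  exact ⟨by omega, k4 (by omega)⟩

theorem card_subtype_search {P : ↥M24 → Prop} (full : List ℕ → Bool)
    (hP : ∀ g, P g → Holds cTet (num (g : Equiv.Perm GolayPt)))
    (hfull : ∀ w (hw : w ∈ searchAll cTet),
      full w = true ↔ P ⟨wperm w, wperm_mem (good_of_mem hw)⟩) :
    Nat.card {g // P g} = ((searchAll cTet).filter full).length := by
  rw [← natCard_of_search cTet (fun g => ∃ h : g ∈ M24, P ⟨g, h⟩) full
    (fun g _ ⟨h, hp⟩ => hP ⟨g, h⟩ hp)
    (fun w hw => (hfull w hw).trans ⟨fun h => ⟨_, h⟩, fun ⟨_, h⟩ => h⟩)]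
  exact Nat.card_congr
    { toFun := fun g => ⟨g.1.1, g.1.2, g.1.2, g.2⟩
      invFun := fun g => ⟨⟨g.1, g.2.1⟩, g.2.2.2⟩
      left_inv := fun _ => rfl
      right_inv := fun _ => rfl }

theorem card_fixes_std : Nat.card {g // Fixes (fam sx) g} = 192 := by
  rw [card_subtype_search kerChk (fun g h => holds_tet h) (fun w hw => kerChk_iff hw)]
  have h := search_check
  simp only [Bool.and_eq_true, beq_iff_eq] at h
  exact h.2

theorem card_four_std : Nat.card {g // Four (fam sx) g} = 64 := by
  rw [card_subtype_search (fun w => kerChk w && fourChk w) (fun g h => holds_tet h.1)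
    (fun w hw => by rw [Bool.and_eq_true]; exact fourChk_iff hw),
    show ((searchAll cTet).filter fun w => kerChk w && fourChk w) =
      ((searchAll cTet).filter kerChk).filter fourChk by
      rw [List.filter_filter]; exact List.filter_congr fun w _ => Bool.and_comm _ _]
  exact four_facts.1

theorem sq_four_std {g : ↥M24} (h : Four (fam sx) g) : g * g = 1 := by
  obtain ⟨w, hw, hwe⟩ := exists_of_holds g.2 (holds_tet h.1)
  have e : (⟨wperm w, wperm_mem (good_of_mem hw)⟩ : ↥M24) = g := Subtype.ext hwe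
  have hk := (fourChk_iff hw).2 (e.symm ▸ h)
  have h1 := four_facts.2 w (List.mem_filter.2 ⟨hw, hk.1⟩)
  rw [hk.2, Bool.not_true, Bool.false_or, List.all_eq_true] at h1
  refine Subtype.ext ?_
  show (g : Equiv.Perm GolayPt) * g = 1
  rw [← hwe]
  refine eq_of_num fun i hi => ?_
  have hg := good_of_mem hw
  rw [num, Equiv.Perm.mul_apply, (wperm_apply hg hi).2, (wperm_apply hg (wperm_apply hg hi).1).2,
    idx_pt (wperm_apply hg (wperm_apply hg hi).1).1, num, Equiv.Perm.one_apply, idx_pt hi]
  exact beq_iff_eq.1 (h1 i (mem_pts.2 hi))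

end Cfsg.Agent.GolaySextetKer
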