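import Cfsg.Agent.Lib.GolaySearch
import Cfsg.Agent.Lib.GolayCount
import Cfsg.Agent.Lib.GolayStab

/-!
Six points of the 24: the two classes of six-point sets, the pointwise stabiliser of an octad, and
restriction of set stabilisers to the set.
-/

set_option autoImplicit false

namespace Cfsg.Agent.GolaySix

open Cfsg Cfsg.Agent.GolayBasic Cfsg.Agent.GolayPerm Cfsg.Agent.GolaySearch Cfsg.Agent.GolayData
  Cfsg.Agent.GolaySteiner
open scoped Pointwise

/-- six base points inside the standard octad -/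
def sixIn : List ℕ := [23, 0, 12, 14, 16, 17]

/-- six base points outside every octad -/
def sixOut : List ℕ := [23, 0, 12, 14, 16, 1]

theorem getD_six_lt : ∀ i : Fin 6, sixIn.getD i.val 0 < 24 ∧ sixOut.getD i.val 0 < 24 := by decide

theorem six_step : ∀ c, c < 24 → c ∉ [23, 0, 12, 14, 16] →
    ((Nat.testBit 13062145 c = true → ∃ t ∈ tr24_5, pimg t 17 = c) ∧
     (Nat.testBit 13062145 c = false → ∃ t ∈ tr24_6, pimg t 1 = c)) := by
  decide +kernel

theorem step_fix : ∀ t, t ∈ tr24_5 ∨ t ∈ tr24_6 →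
    good t = true ∧ ∀ b ∈ [23, 0, 12, 14, 16], pimg t b = b := by
  rintro t (h | h)
  · revert t; decide +kernel
  · revert t; decide +kernel

/-- six ordered points are the image of six base points, according as they lie in an octad -/
theorem exists_map_six (x : Fin 6 → GolayPt) (hx : Function.Injective x) :
    ((∃ o ∈ octads, ∀ i, x i ∈ o) → ∃ k : ↥M24, ∀ i : Fin 6,
      (k : Equiv.Perm GolayPt) (pt (sixIn.getD i.val 0)) = x i) ∧
    ((¬ ∃ o ∈ octads, ∀ i, x i ∈ o) → ∃ k : ↥M24, ∀ i : Fin 6,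
      (k : Equiv.Perm GolayPt) (pt (sixOut.getD i.val 0)) = x i) := by
  obtain ⟨k, hk, e0, e1, e2, e3, e4⟩ := GolayM24.exists_map_five (x ∘ Fin.castSucc)
    (hx.comp (Fin.castSucc_injective 5))
  set c := idx (k⁻¹ (x (Fin.last 5))) with hc
  have hkc : k (pt c) = x (Fin.last 5) := by rw [hc, pt_idx, Equiv.Perm.inv_def, Equiv.apply_symm_apply]
  have hne : c ∉ [23, 0, 12, 14, 16] := by
    intro h
    have hne' : ∀ i : Fin 5, x i.castSucc ≠ x (Fin.last 5) :=
      fun i e => (Fin.castSucc_lt_last i).ne (hx e)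
    simp only [List.mem_cons, List.not_mem_nil, or_false] at h
    rcases h with h | h | h | h | h <;> rw [h] at hkc
    exacts [hne' 0 (e0.symm.trans hkc), hne' 1 (e1.symm.trans hkc), hne' 2 (e2.symm.trans hkc),
      hne' 3 (e3.symm.trans hkc), hne' 4 (e4.symm.trans hkc)]
  have hO : k • mset 13062145 ∈ octads := smul_mem_octads hk GolayM24.octad_five_mem
  have hin : (∃ o ∈ octads, ∀ i, x i ∈ o) ↔ Nat.testBit 13062145 c = true := by
    have hmem : ∀ b, b < 24 → (k (pt b) ∈ k • mset 13062145 ↔ Nat.testBit 13062145 b = true) := by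
      intro b hb
      rw [← Equiv.Perm.smul_def, Finset.smul_mem_smul_finset_iff, mem_mset, idx_pt hb]
    constructor
    · rintro ⟨o, ho, h⟩
      have : o = k • mset 13062145 := by
        refine octad_eq_of_five ho hO (s := Finset.univ.image (x ∘ Fin.castSucc)) ?_ ?_ ?_
        · rw [Finset.card_image_of_injective _ (hx.comp (Fin.castSucc_injective 5))]; simp
        · intro p hp
          obtain ⟨i, -, rfl⟩ := Finset.mem_image.1 hp
          exact h _
        · intro p hp
          obtain ⟨i, -, rfl⟩ := Finset.mem_image.1 hp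
          fin_cases i
          · exact e0 ▸ (hmem 23 (by norm_num)).2 (by decide +kernel)
          · exact e1 ▸ (hmem 0 (by norm_num)).2 (by decide +kernel)
          · exact e2 ▸ (hmem 12 (by norm_num)).2 (by decide +kernel)
          · exact e3 ▸ (hmem 14 (by norm_num)).2 (by decide +kernel)
          · exact e4 ▸ (hmem 16 (by norm_num)).2 (by decide +kernel)
      rw [← hmem c (idx_lt _), hkc, ← this]
      exact h _
    · intro h
      refine ⟨_, hO, fun i => ?_⟩
      fin_cases i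
      · exact Eq.subst (motive := fun y => y ∈ k • mset 13062145) e0
          ((hmem 23 (by norm_num)).2 (by decide +kernel))
      · exact Eq.subst (motive := fun y => y ∈ k • mset 13062145) e1
          ((hmem 0 (by norm_num)).2 (by decide +kernel))
      · exact Eq.subst (motive := fun y => y ∈ k • mset 13062145) e2
          ((hmem 12 (by norm_num)).2 (by decide +kernel))
      · exact Eq.subst (motive := fun y => y ∈ k • mset 13062145) e3
          ((hmem 14 (by norm_num)).2 (by decide +kernel))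
      · exact Eq.subst (motive := fun y => y ∈ k • mset 13062145) e4
          ((hmem 16 (by norm_num)).2 (by decide +kernel))
      · exact Eq.subst (motive := fun y => y ∈ k • mset 13062145) hkc ((hmem c (idx_lt _)).2 h)
  have build : ∀ (s : ℕ) (t : ℕ), t ∈ tr24_5 ∨ t ∈ tr24_6 → s < 24 → pimg t s = c →
      ∃ k' : ↥M24, ∀ i : Fin 6,
        (k' : Equiv.Perm GolayPt) (pt ([23, 0, 12, 14, 16, s].getD i.val 0)) = x i := by
    intro s t ht hs e
    obtain ⟨hg, hf⟩ := step_fix t ht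
    have hv := valid_of_good hg
    have hfix : ∀ b ∈ [23, 0, 12, 14, 16], b < 24 → permOf t (pt b) = pt b := fun b hb hb' => by
      rw [permOf_apply hv, pfun, idx_pt hb', hf b hb]
    refine ⟨⟨k * permOf t, mul_mem hk (permOf_mem_M24 hg)⟩, fun i => ?_⟩
    show k (permOf t (pt _)) = _
    fin_cases i
    · exact (congrArg k (hfix 23 (by simp) (by norm_num))).trans e0
    · exact (congrArg k (hfix 0 (by simp) (by norm_num))).trans e1
    · exact (congrArg k (hfix 12 (by simp) (by norm_num))).trans e2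
    · exact (congrArg k (hfix 14 (by simp) (by norm_num))).trans e3
    · exact (congrArg k (hfix 16 (by simp) (by norm_num))).trans e4
    · show k (permOf t (pt s)) = _
      rw [permOf_apply hv, pfun, idx_pt hs, e, hkc]
      rfl
  refine ⟨fun h => ?_, fun h => ?_⟩
  · obtain ⟨t, ht, e⟩ := (six_step c (idx_lt _) hne).1 (hin.1 h)
    exact build 17 t (Or.inl ht) (by norm_num) e
  · obtain ⟨t, ht, e⟩ := (six_step c (idx_lt _) hne).2 (Bool.eq_false_iff.2 fun e => h (hin.2 e))
    exact build 1 t (Or.inr ht) (by norm_num) e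

theorem exists_fin_enum {α : Type*} {E : Finset α} {n : ℕ} (hE : E.card = n) :
    ∃ x : Fin n → α, Function.Injective x ∧ ∀ p, p ∈ E ↔ ∃ i, x i = p := by
  let e : Fin n ≃ {p // p ∈ E} := (Fintype.equivFinOfCardEq (by rw [Fintype.card_coe, hE])).symm
  refine ⟨fun i => (e i).1, Subtype.val_injective.comp e.injective, fun p => ⟨fun hp => ?_, ?_⟩⟩
  · exact ⟨e.symm ⟨p, hp⟩, by simp⟩
  · rintro ⟨i, rfl⟩; exact (e i).2

/-- every permutation of six points is induced -/
theorem exists_perm_six {E : Finset GolayPt} (hE : E.card = 6) (σ : Equiv.Perm ↥E) :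
    ∃ g ∈ M24, ∀ p : ↥E, g p = σ p := by
  classical
  obtain ⟨x, hx, hxE⟩ := exists_fin_enum hE
  let xx : Fin 6 → ↥E := fun i => ⟨x i, (hxE _).2 ⟨i, rfl⟩⟩
  have hxx : Function.Injective xx := fun i j h => hx (congrArg Subtype.val h)
  set y : Fin 6 → GolayPt := fun i => (σ (xx i) : GolayPt)
  have hy : Function.Injective y := Subtype.val_injective.comp (σ.injective.comp hxx)
  have hiff : (∃ o ∈ octads, ∀ i, x i ∈ o) ↔ (∃ o ∈ octads, ∀ i, y i ∈ o) := by
    refine exists_congr fun o => and_congr_right fun _ => ⟨fun h i => ?_, fun h i => ?_⟩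
    · obtain ⟨j, hj⟩ := (hxE _).1 (σ (xx i)).2
      show (σ (xx i) : GolayPt) ∈ o
      rw [← hj]; exact h j
    · obtain ⟨j, hj⟩ := (hxE _).1 (σ.symm (xx i)).2
      have hj' : xx j = σ.symm (xx i) := Subtype.ext hj
      have := h j
      simp only [y, hj', Equiv.apply_symm_apply] at this
      exact this
  obtain ⟨a, b, ha, hb⟩ : ∃ a b : ↥M24, ∃ S : List ℕ,
      (∀ i : Fin 6, (a : Equiv.Perm GolayPt) (pt (S.getD i.val 0)) = x i) ∧
      ∀ i : Fin 6, (b : Equiv.Perm GolayPt) (pt (S.getD i.val 0)) = y i := by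
    by_cases h : ∃ o ∈ octads, ∀ i, x i ∈ o
    · obtain ⟨a, ha⟩ := (exists_map_six x hx).1 h
      obtain ⟨b, hb⟩ := (exists_map_six y hy).1 (hiff.1 h)
      exact ⟨a, b, _, ha, hb⟩
    · obtain ⟨a, ha⟩ := (exists_map_six x hx).2 h
      obtain ⟨b, hb⟩ := (exists_map_six y hy).2 (fun h' => h (hiff.2 h'))
      exact ⟨a, b, _, ha, hb⟩
  refine ⟨b * a⁻¹, (b * a⁻¹ : ↥M24).2, fun p => ?_⟩
  obtain ⟨i, hi⟩ := (hxE _).1 p.2
  have hp : xx i = p := Subtype.ext hi
  rw [← hp]
  show (b : Equiv.Perm GolayPt) ((a : Equiv.Perm GolayPt)⁻¹ (x i)) = y i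
  rw [← hb.1 i, Equiv.Perm.inv_def, Equiv.symm_apply_apply]
  exact hb.2 i

/-- conjugation transports pointwise stabilisers -/
theorem card_fix_transport (k : ↥M24) {n : ℕ} (b : Fin n → GolayPt) (x : Fin n → GolayPt)
    (h : ∀ i, (k : Equiv.Perm GolayPt) (b i) = x i) :
    Nat.card {g : Equiv.Perm GolayPt // g ∈ M24 ∧ ∀ i, g (x i) = x i} =
      Nat.card {g : Equiv.Perm GolayPt // g ∈ M24 ∧ ∀ i, g (b i) = b i} := by
  refine (Nat.card_congr ((MulAut.conj (k : Equiv.Perm GolayPt)).toEquiv.subtypeEquiv fun g => ?_)).symm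
  show _ ↔ (k : Equiv.Perm GolayPt) * g * (k : Equiv.Perm GolayPt)⁻¹ ∈ M24 ∧ _
  rw [Subgroup.mul_mem_cancel_right _ (inv_mem k.2), Subgroup.mul_mem_cancel_left _ k.2]
  refine and_congr_right fun _ => forall_congr' fun i => ?_
  show _ ↔ ((k : Equiv.Perm GolayPt) * g * (k : Equiv.Perm GolayPt)⁻¹) (x i) = x i
  rw [← h i]
  simp [Equiv.Perm.inv_def]

theorem card_fix_sixIn : Nat.card {g : Equiv.Perm GolayPt //
    g ∈ M24 ∧ ∀ i : Fin 6, g (pt (sixIn.getD i.val 0)) = pt (sixIn.getD i.val 0)} = 16 := by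
  have h : Nat.card ↥(fixList M24 [23, 0, 12, 14, 16, 17]) = 16 := by
    rw [GolayM24.card_chain6, GolayM24.card_chain7]
  rw [← h]
  refine Nat.card_congr (Equiv.subtypeEquivRight fun g => ?_)
  rw [mem_fixList]
  simp only [Fin.forall_fin_succ, sixIn]
  simp

/-- constraint for the stabiliser of the six points outside the octads -/
def cOut (ims : List ℕ) (v : ℕ) : Bool :=
  match [23, 0, 12, 14, 16][ims.length]? with
  | some x => v == x
  | none => ims.length == 5 || v == 1

theorem card_fix_sixOut : Nat.card {g : Equiv.Perm GolayPt //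
    g ∈ M24 ∧ ∀ i : Fin 6, g (pt (sixOut.getD i.val 0)) = pt (sixOut.getD i.val 0)} = 3 := by
  rw [natCard_of_search cOut _ (fun w => sixOut.all fun b => app w b == b)]
  · decide +kernel
  · intro g _ h
    have e : ∀ i : Fin 6, num g (sixOut.getD i.val 0) = sixOut.getD i.val 0 := fun i => by
      rw [num, h i, idx_pt (getD_six_lt i).2]
    exact ⟨beq_iff_eq.2 (e 0), beq_iff_eq.2 (e 1), beq_iff_eq.2 (e 2), beq_iff_eq.2 (e 3),
      beq_iff_eq.2 (e 4), rfl, beq_iff_eq.2 (e 5)⟩
  · intro w hw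
    simp only [List.all_eq_true, beq_iff_eq]
    constructor
    · intro h i
      have hlt := (getD_six_lt i).2
      rw [(wperm_apply (good_of_mem hw) hlt).2, h]
      rw [List.getD_eq_getElem _ _ (show i.val < sixOut.length from i.2)]
      exact List.getElem_mem _
    · intro h b hb
      obtain ⟨i, hi, rfl⟩ := List.getElem_of_mem hb
      have hlt := (getD_six_lt ⟨i, hi⟩).2
      have := h ⟨i, hi⟩
      rw [List.getD_eq_getElem _ _ hi] at this hlt
      rw [← num_wperm hw hlt, num, this, idx_pt hlt]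

/-! ### the pointwise stabiliser of an octad -/

theorem fix_cover : ∀ h ∈ fixList M24 [23, 0, 12, 14, 16, 17],
    ∃ t ∈ tr24_6, h = permOf t := by
  intro h hh
  obtain ⟨-, -, -, -, -, -, -, -, -, -, -, -, c6, hcov, hbot⟩ := stepsOk_lev
  obtain ⟨hb, hpref, hts, -⟩ := levelChk_spec c6
  obtain ⟨t, ht, e⟩ := hcov h hh
  have hv := valid_of_good (hts t ht).1
  refine ⟨t, ht, ?_⟩
  have : (permOf t)⁻¹ * h ∈ fixList M24 [23, 0, 12, 14, 16, 17, 1] := by
    refine mem_fixList.2 ⟨mul_mem (inv_mem (permOf_mem_M24 (hts t ht).1)) (mem_fixList.1 hh).1,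
      fun f hf => ?_⟩
    rw [Equiv.Perm.mul_apply, Equiv.Perm.inv_eq_iff_eq, permOf_apply hv, pfun]
    rcases List.mem_append.1 (show f ∈ [23, 0, 12, 14, 16, 17] ++ [1] from hf) with hf' | hf'
    · rw [(mem_fixList.1 hh).2 f hf', idx_pt (hpref f hf'), (hts t ht).2 f hf']
    · rw [List.mem_singleton.1 hf', idx_pt hb, e, pt_idx]
  rw [GolayM24.fixList_base_eq_bot, Subgroup.mem_bot] at this
  exact (inv_mul_eq_one.1 this).symm

theorem six_facts : (tr24_6.all fun t => good t &&
    (pts.all fun i => !(Nat.testBit 13062145 i) || pimg t i == i) &&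
    ((pts.all fun i => Nat.testBit 13062145 i || !(pimg t i == i)) ||
      pts.all fun i => pimg t i == i)) = true := by
  decide +kernel

theorem trans_fact : ∀ c, c < 24 → Nat.testBit 13062145 c = false → ∃ t ∈ tr24_6, pimg t 1 = c := by
  decide +kernel

/-- a map carrying six given points of an octad to the base, and the octads to each other -/
theorem exists_frame {o : Finset GolayPt} (ho : o ∈ octads) {C : Finset GolayPt} (hC : C.card = 6)
    (hCo : C ⊆ o) : ∃ k : ↥M24, k • mset 13062145 = o ∧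
      ∀ b ∈ sixIn, (k : Equiv.Perm GolayPt) (pt b) ∈ C := by
  obtain ⟨x, hx, hxC⟩ := exists_fin_enum hC
  obtain ⟨k, hk⟩ := (exists_map_six x hx).1 ⟨o, ho, fun i => hCo ((hxC _).2 ⟨i, rfl⟩)⟩
  have hmem : ∀ b ∈ sixIn, (k : Equiv.Perm GolayPt) (pt b) ∈ C := by
    intro b hb
    obtain ⟨i, hi, rfl⟩ := List.getElem_of_mem hb
    rw [← List.getD_eq_getElem sixIn 0 hi]
    exact (hxC _).2 ⟨⟨i, hi⟩, (hk ⟨i, hi⟩).symm⟩
  refine ⟨k, octad_eq_of_five (smul_mem_octads k.2 GolayM24.octad_five_mem) ho (s := C) (by omega)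
    (fun p hp => ?_) hCo, hmem⟩
  obtain ⟨i, rfl⟩ := (hxC p).1 hp
  rw [← hk i]
  have hs : ∀ i : Fin 6, pt (sixIn.getD i.val 0) ∈ mset 13062145 := by decide +kernel
  exact Finset.smul_mem_smul_finset (hs i)

/-- in the frame, an element fixing the six points is one of the sixteen -/
theorem frame_elem {C : Finset GolayPt} {k : ↥M24}
    (hk : ∀ b ∈ sixIn, (k : Equiv.Perm GolayPt) (pt b) ∈ C) {g : Equiv.Perm GolayPt} (hg : g ∈ M24)
    (hfix : ∀ p ∈ C, g p = p) : ∃ t ∈ tr24_6,
      (k : Equiv.Perm GolayPt)⁻¹ * g * (k : Equiv.Perm GolayPt) = permOf t := by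
  refine fix_cover _ (mem_fixList.2 ⟨mul_mem (mul_mem (inv_mem k.2) hg) k.2, fun b hb => ?_⟩)
  rw [Equiv.Perm.mul_apply, Equiv.Perm.mul_apply, hfix _ (hk b hb), Equiv.Perm.inv_def,
    Equiv.symm_apply_apply]

/-- fixing six points of an octad means fixing the octad pointwise -/
theorem fix_octad {o C : Finset GolayPt} (ho : o ∈ octads) (hC : C.card = 6) (hCo : C ⊆ o)
    {g : Equiv.Perm GolayPt} (hg : g ∈ M24) (hfix : ∀ p ∈ C, g p = p) : ∀ p ∈ o, g p = p := by
  obtain ⟨k, rfl, hk⟩ := exists_frame ho hC hCo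
  obtain ⟨t, ht, e⟩ := frame_elem hk hg hfix
  intro p hp
  obtain ⟨q, hq, rfl⟩ := Finset.mem_smul_finset.1 hp
  have h := List.all_eq_true.1 six_facts t ht
  simp only [Bool.and_eq_true, List.all_eq_true, Bool.or_eq_true, Bool.not_eq_true'] at h
  have hq' : (idx q) ∈ pts := mem_pts.2 (idx_lt q)
  have h2 : permOf t q = q := by
    rw [permOf_apply (valid_of_good h.1.1), pfun]
    rcases h.1.2 _ hq' with e | e
    · rw [mem_mset.1 hq] at e; exact absurd e (by simp)
    · rw [beq_iff_eq.1 e, pt_idx]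
  rw [← e, Equiv.Perm.mul_apply, Equiv.Perm.mul_apply, Equiv.Perm.inv_eq_iff_eq] at h2
  exact h2

theorem exists_subset_six {o : Finset GolayPt} (ho : o ∈ octads) : ∃ C ⊆ o, C.card = 6 :=
  Finset.exists_subset_card_eq (by rw [ho.2]; norm_num)

/-- the pointwise stabiliser of an octad is regular on the rest -/
theorem fix_regular {o : Finset GolayPt} (ho : o ∈ octads) {g : Equiv.Perm GolayPt} (hg : g ∈ M24)
    (hfix : ∀ p ∈ o, g p = p) {q : GolayPt} (hq : q ∉ o) (hgq : g q = q) : g = 1 := by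
  obtain ⟨C, hCo, hC⟩ := exists_subset_six ho
  obtain ⟨k, rfl, hk⟩ := exists_frame ho hC hCo
  obtain ⟨t, ht, e⟩ := frame_elem hk hg fun p hp => hfix p (hCo hp)
  have h := List.all_eq_true.1 six_facts t ht
  simp only [Bool.and_eq_true, List.all_eq_true, Bool.or_eq_true, Bool.not_eq_true',
    beq_eq_false_iff_ne, beq_iff_eq] at h
  have hv := valid_of_good h.1.1
  rcases h.2 with h2 | h2
  · exfalso
    set r := (k : Equiv.Perm GolayPt)⁻¹ q with hr
    have hrt : permOf t r = r := by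
      rw [← e, hr]
      simp [Equiv.Perm.inv_def, hgq]
    rcases h2 (idx r) (mem_pts.2 (idx_lt r)) with h3 | h3
    · refine hq (Finset.mem_smul_finset.2 ⟨r, mem_mset.2 h3, ?_⟩)
      show (k : Equiv.Perm GolayPt) r = q
      rw [hr, Equiv.Perm.inv_def, Equiv.apply_symm_apply]
    · refine h3 ?_
      rw [← num_eq_pimg hv r, hrt]
  · have h1 : permOf t = 1 := eq_of_num fun i hi => by
      rw [num, permOf_apply hv, pfun, idx_pt hi, idx_pt (pimg_lt hv hi), h2 i (mem_pts.2 hi), num,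
        Equiv.Perm.one_apply, idx_pt hi]
    rw [h1] at e
    have : g = (k : Equiv.Perm GolayPt) * ((k : Equiv.Perm GolayPt)⁻¹ * g * k) * (k : Equiv.Perm GolayPt)⁻¹ := by
      group
    rw [this, e, mul_one, mul_inv_cancel]
where
  num_eq_pimg {t : ℕ} (hv : valid t = true) (r : GolayPt) : idx (permOf t r) = pimg t (idx r) := by
    rw [permOf_apply hv, pfun, idx_pt (pimg_lt hv (idx_lt r))]

/-- the pointwise stabiliser of an octad is transitive on the rest -/
theorem fix_transitive {o : Finset GolayPt} (ho : o ∈ octads) {p q : GolayPt} (hp : p ∉ o)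
    (hq : q ∉ o) : ∃ g ∈ M24, (∀ r ∈ o, g r = r) ∧ g p = q := by
  obtain ⟨C, hCo, hC⟩ := exists_subset_six ho
  obtain ⟨k, rfl, -⟩ := exists_frame ho hC hCo
  have hstd : ∀ p : GolayPt, p ∉ k • mset 13062145 → ∃ g ∈ M24,
      (∀ r ∈ mset 13062145, g r = r) ∧ g (pt 1) = (k : Equiv.Perm GolayPt)⁻¹ p := by
    intro p hp
    have hc : Nat.testBit 13062145 (idx ((k : Equiv.Perm GolayPt)⁻¹ p)) = false := by
      rw [Bool.eq_false_iff]
      intro h
      refine hp (Finset.mem_smul_finset.2 ⟨_, mem_mset.2 h, ?_⟩)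
      exact Equiv.apply_symm_apply (k : Equiv.Perm GolayPt) p
    obtain ⟨t, ht, e⟩ := trans_fact _ (idx_lt _) hc
    have h := List.all_eq_true.1 six_facts t ht
    simp only [Bool.and_eq_true, List.all_eq_true, Bool.or_eq_true, Bool.not_eq_true'] at h
    have hv := valid_of_good h.1.1
    refine ⟨permOf t, permOf_mem_M24 h.1.1, fun r hr => ?_, ?_⟩
    · rw [permOf_apply hv, pfun]
      rcases h.1.2 _ (mem_pts.2 (idx_lt r)) with e' | e'
      · rw [mem_mset.1 hr] at e'; exact absurd e' (by simp)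
      · rw [beq_iff_eq.1 e', pt_idx]
    · rw [permOf_apply hv, pfun, idx_pt (by norm_num), e, pt_idx]
  obtain ⟨a, ha, ha1, ha2⟩ := hstd p hp
  obtain ⟨b, hb, hb1, hb2⟩ := hstd q hq
  refine ⟨(k : Equiv.Perm GolayPt) * (b * a⁻¹) * (k : Equiv.Perm GolayPt)⁻¹,
    mul_mem (mul_mem k.2 (mul_mem hb (inv_mem ha))) (inv_mem k.2), fun r hr => ?_, ?_⟩
  · obtain ⟨s, hs, rfl⟩ := Finset.mem_smul_finset.1 hr
    show (k : Equiv.Perm GolayPt) (b (a⁻¹ ((k : Equiv.Perm GolayPt)⁻¹ ((k : Equiv.Perm GolayPt) s)))) = _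
    rw [Equiv.Perm.inv_def (k : Equiv.Perm GolayPt), Equiv.symm_apply_apply,
      Equiv.Perm.inv_eq_iff_eq.2 (ha1 s hs).symm, hb1 s hs]
    rfl
  · show (k : Equiv.Perm GolayPt) (b (a⁻¹ ((k : Equiv.Perm GolayPt)⁻¹ p))) = q
    rw [← ha2, Equiv.Perm.inv_def a, Equiv.symm_apply_apply, hb2, Equiv.Perm.inv_def,
      Equiv.apply_symm_apply]

theorem card_fix_octad {o : Finset GolayPt} (ho : o ∈ octads) :
    Nat.card {g : Equiv.Perm GolayPt // g ∈ M24 ∧ ∀ p ∈ o, g p = p} = 16 := by
  obtain ⟨C, hCo, hC⟩ := exists_subset_six ho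
  obtain ⟨x, hx, hxC⟩ := exists_fin_enum hC
  obtain ⟨k, hk⟩ := (exists_map_six x hx).1 ⟨o, ho, fun i => hCo ((hxC _).2 ⟨i, rfl⟩)⟩
  rw [← card_fix_sixIn, ← card_fix_transport k _ x hk]
  refine Nat.card_congr (Equiv.subtypeEquivRight fun g => and_congr_right fun hg => ⟨fun h i => ?_,
    fun h => fix_octad ho hC hCo hg fun p hp => ?_⟩)
  · exact h _ (hCo ((hxC _).2 ⟨i, rfl⟩))
  · obtain ⟨i, rfl⟩ := (hxC p).1 hp; exact h i

/-! ### restriction to a stabilised set -/

theorem mem_iff_of_smul {C : Finset GolayPt} {g : Equiv.Perm GolayPt} (h : g • C = C) (p : GolayPt) :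
    g p ∈ C ↔ p ∈ C := by
  conv_lhs => rw [← h]
  exact Finset.smul_mem_smul_finset_iff g

/-- restriction of a subgroup stabilising `C` -/
noncomputable def restrict (H : Subgroup ↥M24) (C : Finset GolayPt) (h : ∀ g ∈ H, g • C = C) :
    ↥H →* Equiv.Perm ↥C where
  toFun g := ((g : ↥M24) : Equiv.Perm GolayPt).subtypePerm (mem_iff_of_smul (h g g.2))
  map_one' := by ext p; rfl
  map_mul' a b := by ext p; rfl

theorem restrict_apply {H : Subgroup ↥M24} {C : Finset GolayPt} (h : ∀ g ∈ H, g • C = C)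
    (g : ↥H) (p : ↥C) : (restrict H C h g p : GolayPt) = ((g : ↥M24) : Equiv.Perm GolayPt) p := rfl

theorem restrict_eq_one {H : Subgroup ↥M24} {C : Finset GolayPt} (h : ∀ g ∈ H, g • C = C)
    (g : ↥H) : restrict H C h g = 1 ↔ ∀ p ∈ C, ((g : ↥M24) : Equiv.Perm GolayPt) p = p := by
  constructor
  · intro e p hp
    exact congrArg Subtype.val (Equiv.congr_fun e ⟨p, hp⟩)
  · intro e
    exact Equiv.ext fun p => Subtype.ext (e p p.2)

end Cfsg.Agent.GolaySix
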