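import Cfsg.Agent.Lib.GolayUnique70
import Cfsg.Agent.Lib.GolayCosets
import Cfsg.Agent.Lib.GolayPerm
import Cfsg.Agent.Lib.GolayM24

/-!
Families of eight-sets spanning a binary Golay code, and the passage to the standard code.
-/

set_option autoImplicit false

namespace Cfsg.Agent.GolaySpan70

open Cfsg Cfsg.Agent.AbstractGolay Finset
open scoped Pointwise

/-- The span of the indicator words of a family of sets. -/
noncomputable def spanInd (F : Set (Finset (Fin 24))) : Submodule (ZMod 2) V :=
  Submodule.span (ZMod 2) (AbstractGolay.ind '' F)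

theorem ind_mem_spanInd {F : Set (Finset (Fin 24))} {b : Finset (Fin 24)} (hb : b ∈ F) :
    AbstractGolay.ind b ∈ spanInd F :=
  Submodule.subset_span ⟨b, hb, rfl⟩

theorem dot_ind (s t : Finset (Fin 24)) :
    ∑ i, AbstractGolay.ind s i * AbstractGolay.ind t i = ((s ∩ t).card : ZMod 2) := by
  rw [dot_eq, AbstractGolay.sup_ind, AbstractGolay.sup_ind]

theorem span_orth {F : Set (Finset (Fin 24))} (heven : ∀ a ∈ F, ∀ b ∈ F, 2 ∣ (a ∩ b).card) :
    ∀ v ∈ spanInd F, ∀ w ∈ spanInd F, ∑ i, v i * w i = 0 := by
  intro v hv w hw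
  induction hv using Submodule.span_induction with
  | mem x hx =>
    obtain ⟨a, ha, rfl⟩ := hx
    induction hw using Submodule.span_induction with
    | mem y hy =>
      obtain ⟨b, hb, rfl⟩ := hy
      rw [dot_ind, ZMod.natCast_eq_zero_iff]
      exact heven a ha b hb
    | zero => simp
    | add y z _ _ hy hz => simp [mul_add, sum_add_distrib, hy, hz]
    | smul r y _ hy =>
      simp only [Pi.smul_apply, smul_eq_mul, mul_left_comm _ r, ← mul_sum, hy, mul_zero]
  | zero => simp
  | add x y _ _ hx hy => simp [add_mul, sum_add_distrib, hx, hy]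
  | smul r x _ hx => simp only [Pi.smul_apply, smul_eq_mul, mul_assoc, ← mul_sum, hx, mul_zero]

theorem span_doubly_even {F : Set (Finset (Fin 24))} (hF : ∀ b ∈ F, 4 ∣ b.card)
    (heven : ∀ a ∈ F, ∀ b ∈ F, 2 ∣ (a ∩ b).card) :
    ∀ w ∈ spanInd F, 4 ∣ (AbstractGolay.sup w).card := by
  intro w hw
  induction hw using Submodule.span_induction with
  | mem x hx =>
    obtain ⟨a, ha, rfl⟩ := hx
    rw [AbstractGolay.sup_ind]
    exact hF a ha
  | zero => simp [AbstractGolay.sup]
  | add x y hxm hym hx hy =>
    have h1 := card_sub x y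
    rw [GolayUnique70.vsub] at h1
    have h2 : 2 ∣ (AbstractGolay.sup x ∩ AbstractGolay.sup y).card := by
      rw [← ZMod.natCast_eq_zero_iff, ← dot_eq]
      exact span_orth heven x hxm y hym
    omega
  | smul r x _ hx =>
    rcases z2 r with e | e <;> subst e
    · simp [AbstractGolay.sup]
    · rwa [one_smul]

/-- The functional of a word on a code. -/
def syndrome (C : Submodule (ZMod 2) V) : V →ₗ[ZMod 2] Module.Dual (ZMod 2) ↥C where
  toFun v :=
    { toFun := fun c => ∑ i, v i * c.1 i
      map_add' := fun x y => by simp [mul_add, sum_add_distrib]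
      map_smul' := fun r x => by simp [mul_sum]; exact sum_congr rfl fun i _ => by ring }
  map_add' v w := by ext c; simp [add_mul, sum_add_distrib]
  map_smul' r v := by ext c; simp [mul_sum, mul_assoc]

theorem syndrome_apply (C : Submodule (ZMod 2) V) (v : V) (c : ↥C) :
    syndrome C v c = ∑ i, v i * c.1 i := rfl

theorem syndrome_surjective (C : Submodule (ZMod 2) V) : Function.Surjective (syndrome C) := by
  intro g
  obtain ⟨g', hg⟩ := LinearMap.exists_extend g
  refine ⟨fun i => g' (fun j => if i = j then 1 else 0), LinearMap.ext fun c => ?_⟩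
  rw [← hg, syndrome_apply]
  show _ = g' c.1
  conv_rhs => rw [pi_eq_sum_univ c.1, map_sum]
  exact sum_congr rfl fun i _ => by rw [map_smul, smul_eq_mul, mul_comm]

theorem two_finrank_le {C : Submodule (ZMod 2) V} (horth : ∀ v ∈ C, ∀ w ∈ C, ∑ i, v i * w i = 0) :
    2 * Module.finrank (ZMod 2) C ≤ 24 := by
  have h1 := LinearMap.finrank_range_add_finrank_ker (syndrome C)
  rw [LinearMap.range_eq_top.2 (syndrome_surjective C), finrank_top, Subspace.dual_finrank_eq,
    Module.finrank_fin_fun] at h1
  have h2 : Module.finrank (ZMod 2) C ≤ Module.finrank (ZMod 2) (LinearMap.ker (syndrome C)) :=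
    Submodule.finrank_mono fun v hv => LinearMap.mem_ker.2 (LinearMap.ext fun c => horth v hv c.1 c.2)
  omega

theorem card_le_of_syndrome_injOn {C : Submodule (ZMod 2) V} (S : Finset (Finset (Fin 24)))
    (h : Set.InjOn (fun s => syndrome C (AbstractGolay.ind s)) (S : Set (Finset (Fin 24)))) :
    S.card ≤ 2 ^ Module.finrank (ZMod 2) C := by
  have hfin : Finite (Module.Dual (ZMod 2) ↥C) := Module.finite_of_finite (ZMod 2)
  have h1 : S.card ≤ Nat.card (Module.Dual (ZMod 2) ↥C) := by
    rw [← Nat.card_eq_finsetCard]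
    exact Nat.card_le_card_of_injective (fun s : S => syndrome C (AbstractGolay.ind s.1))
      fun a b e => Subtype.ext (h a.2 b.2 e)
  rwa [Module.natCard_eq_pow_finrank (K := ZMod 2), Subspace.dual_finrank_eq, Nat.card_zmod] at h1

theorem syndrome_eq_symmDiff {F : Set (Finset (Fin 24))} {s t : Finset (Fin 24)}
    (h : syndrome (spanInd F) (AbstractGolay.ind s) = syndrome (spanInd F) (AbstractGolay.ind t)) :
    ∀ b ∈ F, 2 ∣ (symmDiff s t ∩ b).card := by
  intro b hb
  have h' := LinearMap.congr_fun h ⟨_, ind_mem_spanInd hb⟩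
  rw [syndrome_apply, syndrome_apply] at h'
  rw [← ZMod.natCast_eq_zero_iff, ← dot_ind, GolayUnique70.ind_symmDiff]
  simp only [Pi.add_apply, add_mul, sum_add_distrib]
  rw [h']
  exact GolayUnique70.two_eq _

/-- A family with no even set of size at most six spans a Golay code. -/
theorem isGolay_spanInd {F : Set (Finset (Fin 24))} (hF : ∀ b ∈ F, b.card = 8)
    (heven : ∀ a ∈ F, ∀ b ∈ F, 2 ∣ (a ∩ b).card)
    (hno : ∀ T : Finset (Fin 24), T.card ≤ 6 → (∀ b ∈ F, 2 ∣ (T ∩ b).card) → T = ∅) :
    IsGolay (spanInd F) := by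
  have horth := span_orth heven
  have hde := span_doubly_even (fun b hb => by rw [hF b hb]; norm_num) heven
  refine ⟨?_, horth, fun w hw hne => ?_⟩
  · have h1 := two_finrank_le horth
    have hcount : (((range 4).biUnion fun k => (univ : Finset (Fin 24)).powersetCard k)).card = 2325 := by
      rw [card_biUnion (fun a _ b _ hab => (pairwise_disjoint_powersetCard univ) hab)]
      simp only [card_powersetCard, card_univ, Fintype.card_fin]
      decide
    have h2 := card_le_of_syndrome_injOn (C := spanInd F)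
      ((range 4).biUnion fun k => (univ : Finset (Fin 24)).powersetCard k) (fun s hs t ht e => by
        simp only [coe_biUnion, coe_range, Set.mem_iUnion, mem_coe, mem_powersetCard, Set.mem_Iio,
          exists_prop] at hs ht
        obtain ⟨a, ha, -, rfl⟩ := hs
        obtain ⟨b, hb, -, rfl⟩ := ht
        refine symmDiff_eq_bot.1 (hno _ ?_ (syndrome_eq_symmDiff e))
        refine ((card_le_card (t := s ∪ t) fun z hz => ?_).trans (card_union_le _ _)).trans (by omega)
        rw [mem_symmDiff] at hz
        exact hz.elim (fun a => mem_union_left _ a.1) (fun a => mem_union_right _ a.1))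
    rw [hcount] at h2
    by_contra hc
    have : 2 ^ Module.finrank (ZMod 2) (spanInd F) ≤ 2 ^ 11 :=
      Nat.pow_le_pow_right (by norm_num) (by omega)
    omega
  · rw [norm_eq]
    by_contra hlt
    refine hne ?_
    have h0 : AbstractGolay.sup w = ∅ := hno _ (by have := hde w hw; omega) fun b hb => by
      rw [← ZMod.natCast_eq_zero_iff, ← AbstractGolay.sup_ind b, ← dot_eq]
      exact horth w hw _ (ind_mem_spanInd hb)
    rw [← ind_sup w, h0]
    funext i
    simp [AbstractGolay.ind]

theorem blocks_mem {F : Set (Finset (Fin 24))} (hF : ∀ b ∈ F, b.card = 8) {b : Finset (Fin 24)}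
    (hb : b ∈ F) : b ∈ GolayUnique70.blocks (spanInd F) :=
  GolayUnique70.mem_blocks.2 ⟨ind_mem_spanInd hb, hF b hb⟩

theorem spanInd_perm {F : Set (Finset (Fin 24))} (σ : Equiv.Perm (Fin 24))
    (hσ : ∀ b ∈ F, σ • b ∈ F) {w : V} (hw : w ∈ spanInd F) :
    (fun i => w (σ.symm i)) ∈ spanInd F := by
  let φ : V →ₗ[ZMod 2] V := LinearMap.funLeft (ZMod 2) (ZMod 2) σ.symm
  show φ w ∈ spanInd F
  have hle : Submodule.map φ (spanInd F) ≤ spanInd F := by
    rw [spanInd, Submodule.map_span, Submodule.span_le]
    rintro _ ⟨_, ⟨b, hb, rfl⟩, rfl⟩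
    have : φ (AbstractGolay.ind b) = AbstractGolay.ind (σ • b) := by
      funext i
      have hiff : i ∈ σ • b ↔ σ.symm i ∈ b := by
        rw [mem_smul_finset]
        exact ⟨fun ⟨y, hy, hyp⟩ => by rw [← hyp, Equiv.Perm.smul_def, Equiv.symm_apply_apply]; exact hy,
          fun hp => ⟨_, hp, σ.apply_symm_apply i⟩⟩
      show AbstractGolay.ind b (σ.symm i) = _
      simp only [GolayUnique70.ind_apply, hiff]
    rw [this]
    exact ind_mem_spanInd (hσ b hb)
  exact hle ⟨w, hw, rfl⟩

/-- The standard model of an abstract code: a numbering of the points carrying the code to the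
standard one, with two chosen points sent to two chosen points. -/
theorem exists_standard {C : Submodule (ZMod 2) V} (hC : IsGolay C) {p q : Fin 24} (hpq : p ≠ q) :
    ∃ e : Fin 24 ≃ GolayPt, e p = none ∧ e q = some 0 ∧
      (∀ w : GolayPt → ZMod 2, w ∈ golayCode ↔ (fun i => w (e i)) ∈ C) ∧
      ∀ b : Finset (Fin 24), b ∈ GolayUnique70.blocks C ↔ b.image e ∈ octads := by
  classical
  obtain ⟨e0, he0⟩ := GolayUnique70.equiv_of_isGolay hC GolayCosets.isGolay
  let e1 : Fin 24 ≃ GolayPt := e0.trans GolayBasic.idxEquiv.symm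
  have he1 : ∀ w : GolayPt → ZMod 2, w ∈ golayCode ↔ (fun i => w (e1 i)) ∈ C := fun w => by
    rw [← GolayCosets.renum_mem, he0]; rfl
  obtain ⟨r, s, t, hr, hs, ht, hrs, hrt, hst⟩ : ∃ r s t : GolayPt,
      r ∉ ({e1 p, e1 q} : Finset GolayPt) ∧ s ∉ ({e1 p, e1 q} : Finset GolayPt) ∧
      t ∉ ({e1 p, e1 q} : Finset GolayPt) ∧ r ≠ s ∧ r ≠ t ∧ s ≠ t := by
    have hc : 3 ≤ ({e1 p, e1 q} : Finset GolayPt)ᶜ.card := by
      rw [card_compl, show Fintype.card GolayPt = 24 from Fintype.card_congr GolayBasic.idxEquiv]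
      have : ({e1 p, e1 q} : Finset GolayPt).card ≤ 2 := card_le_two
      omega
    obtain ⟨u, hu, hu3⟩ := exists_subset_card_eq hc
    obtain ⟨r, s, t, h1, h2, h3, rfl⟩ := card_eq_three.1 hu3
    exact ⟨r, s, t, mem_compl.1 (hu (by simp)), mem_compl.1 (hu (by simp)), mem_compl.1 (hu (by simp)),
      h1, h2, h3⟩
  simp only [mem_insert, mem_singleton, not_or] at hr hs ht
  have hne : e1 p ≠ e1 q := e1.injective.ne hpq
  obtain ⟨g, hg, g0, g1, -, -, -⟩ := GolayM24.exists_map_five ![e1 p, e1 q, r, s, t] (by
    intro i j hij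
    fin_cases i <;> fin_cases j <;> simp at hij <;>
      first
        | rfl
        | exact absurd hij (by tauto)
        | exact absurd hij.symm (by tauto))
  have hg' : ∀ w : GolayPt → ZMod 2, w ∈ golayCode → ∀ g : Equiv.Perm GolayPt, g ∈ M24 →
      (fun i => w (g i)) ∈ golayCode := by
    intro w hw g hg
    have hs := GolayPerm.smul_mem_supports (inv_mem hg) (s := support₂ w) ⟨w, hw, rfl⟩
    obtain ⟨w', hw', he⟩ := hs
    have : w' = fun i => w (g i) := GolayBasic.support₂_inj (by
      rw [he]
      ext i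
      rw [mem_inv_smul_finset_iff, Equiv.Perm.smul_def]
      simp [support₂])
    rwa [← this]
  let e : Fin 24 ≃ GolayPt := e1.trans g.symm
  have hkey : ∀ w : GolayPt → ZMod 2, w ∈ golayCode ↔ (fun i => w (e i)) ∈ C := by
    intro w
    refine Iff.trans ?_ (he1 fun j => w (g.symm j))
    refine ⟨fun hw => hg' w hw g⁻¹ (inv_mem hg), fun hw => ?_⟩
    have := hg' _ hw g hg
    simpa using this
  refine ⟨e, ?_, ?_, hkey, fun b => ?_⟩
  · show g.symm (e1 p) = none
    rw [Equiv.symm_apply_eq, ← GolayM24.pt_none, g0]; rfl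
  · show g.symm (e1 q) = some 0
    rw [Equiv.symm_apply_eq, ← GolayM24.pt_zero, g1]; rfl
  · rw [GolayUnique70.mem_blocks, octads]
    have hb : (fun i => (fun x => if x ∈ b.image e then (1 : ZMod 2) else 0) (e i)) =
        AbstractGolay.ind b := funext fun i => by
      simp only [GolayUnique70.ind_apply, e.injective.mem_finset_image]
    have hsupp : support₂ (fun x => if x ∈ b.image e then (1 : ZMod 2) else 0) = b.image e := by
      ext x; simp [support₂]
    constructor
    · rintro ⟨h1, h2⟩
      refine ⟨⟨_, (hkey _).2 (by rw [hb]; exact h1), hsupp⟩, ?_⟩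
      rw [card_image_of_injective _ e.injective, h2]
    · rintro ⟨⟨w, hw, he⟩, h2⟩
      rw [card_image_of_injective _ e.injective] at h2
      have : w = fun x => if x ∈ b.image e then (1 : ZMod 2) else 0 :=
        GolayBasic.support₂_inj (he.trans hsupp.symm)
      refine ⟨?_, h2⟩
      rw [← hb, ← this]
      exact (hkey w).1 hw

/-- Transport of automorphism groups along a renumbering. -/
theorem autEquiv {α β : Type*} [DecidableEq α] [DecidableEq β] {B : Set (Finset α)}
    {B' : Set (Finset β)} (e : α ≃ β) (h : (fun b => b.image e) '' B = B') :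
    (setSystemAut B).map e.permCongrHom.toMonoidHom = setSystemAut B' := by
  subst h
  have hcomm : ∀ (g : Equiv.Perm α) (b : Finset α),
      e.permCongrHom g • b.image e = (g • b).image e := by
    intro g b
    rw [Finset.smul_finset_def, Finset.smul_finset_def, image_image, image_image]
    refine image_congr fun i _ => ?_
    simp [Equiv.permCongrHom]
  ext σ
  obtain ⟨g, rfl⟩ := e.permCongrHom.surjective σ
  rw [Subgroup.mem_map_equiv, MulEquiv.symm_apply_apply, MulAction.mem_stabilizer_iff,
    MulAction.mem_stabilizer_iff]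
  have hset : e.permCongrHom g • ((fun b => b.image e) '' B) = (fun b => b.image e) '' (g • B) := by
    rw [← Set.image_smul, ← Set.image_smul, Set.image_image, Set.image_image]
    exact Set.image_congr fun b _ => hcomm g b
  rw [hset]
  exact (Set.image_eq_image (Finset.image_injective e.injective)).symm

end Cfsg.Agent.GolaySpan70
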