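import Cfsg.Agent.Lib.GolayCount

/-!
A criterion for a stabiliser to be maximal, from closure of orbits of overgroups.
-/

set_option autoImplicit false

namespace Cfsg.Agent.GolayStabCoatom

open scoped Pointwise

variable {G α : Type*} [Group G] [MulAction G α]

/-- A stabiliser is maximal if every self-reproducing set of objects through the fixed one is
everything. -/
theorem isCoatom_stabilizer (a : α) (U : Set α) (hU : ∀ g : G, ∀ x ∈ U, g • x ∈ U) (ha : a ∈ U)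
    (hne : ∃ g : G, g • a ≠ a)
    (h : ∀ O : Set α, O ⊆ U → a ∈ O → (∃ x ∈ O, x ≠ a) →
      (∀ g : G, g • a ∈ O → ∀ x ∈ O, g • x ∈ O) → U ⊆ O) :
    IsCoatom (MulAction.stabilizer G a) := by
  constructor
  · intro htop
    obtain ⟨g, hg⟩ := hne
    exact hg (MulAction.mem_stabilizer_iff.1 (htop ▸ Subgroup.mem_top g))
  · intro K hK
    obtain ⟨hle, g, hgK, hga⟩ := SetLike.lt_iff_le_and_exists.1 hK
    have key : ∀ b : G, (∃ k ∈ K, k • a = b • a) → b ∈ K := by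
      rintro b ⟨k, hk, e⟩
      have hm : k⁻¹ * b ∈ K := hle (by rw [MulAction.mem_stabilizer_iff, mul_smul, ← e, inv_smul_smul])
      simpa using mul_mem hk hm
    have hall : U ⊆ {x | ∃ k ∈ K, k • a = x} := by
      refine h _ ?_ ⟨1, one_mem _, one_smul _ _⟩ ⟨g • a, ⟨g, hgK, rfl⟩, hga⟩ ?_
      · rintro x ⟨k, -, rfl⟩
        exact hU k a ha
      · rintro b hb x ⟨k, hk, rfl⟩
        exact ⟨b * k, mul_mem (key b hb) hk, mul_smul b k a⟩
    rw [eq_top_iff]
    exact fun b _ => key b (hall (hU b a ha))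

/-- Closure along a separating invariant. -/
theorem closed_of_separate {a : α} {U O : Set α} {γ : Type*} (f : α → α → γ)
    (hU : ∀ g : G, ∀ x ∈ U, g • x ∈ U)
    (hf : ∀ (g : G) x y, f (g • x) (g • y) = f x y)
    (hsep : ∀ x ∈ U, ∀ y ∈ U, f a x = f a y → ∃ g : G, g • a = a ∧ g • x = y)
    (htr : ∀ x ∈ U, ∃ g : G, g • a = x)
    (hOU : O ⊆ U) (haO : a ∈ O) (hclose : ∀ g : G, g • a ∈ O → ∀ x ∈ O, g • x ∈ O)
    {x : α} (hx : x ∈ O) {t : α} (ht : t ∈ O) {u : α} (hu : u ∈ U) (he : f t u = f a x) :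
    u ∈ O := by
  obtain ⟨k, rfl⟩ := htr t (hOU ht)
  have h1 : f a (k⁻¹ • u) = f a x := by
    rw [← he, ← hf k a (k⁻¹ • u), smul_inv_smul]
  obtain ⟨g, hga, hgx⟩ := hsep x (hOU hx) (k⁻¹ • u) (hU _ u hu) h1.symm
  have h2 : k⁻¹ • u ∈ O := hgx ▸ hclose g (by rwa [hga]) x hx
  simpa using hclose k ht _ h2

end Cfsg.Agent.GolayStabCoatom
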