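import Mathlib
import Cfsg.Agent.Lib.GolayOctadStab

/-!
Sylow 2-subgroups of M24 are self-normalising.
-/

set_option autoImplicit false

namespace Cfsg.Agent.GolaySylowTwo

open Cfsg Cfsg.Agent.GolayBasic Cfsg.Agent.GolayOctadStab
open scoped Pointwise

/-! ### the flag stabiliser in the general linear group over two elements -/

section Flag

variable {n : ℕ}

/-- vectors supported below `i` -/
def low (i : ℕ) (v : Fin n → ZMod 2) : Prop := ∀ j : Fin n, i ≤ j.1 → v j = 0

/-- the stabiliser of the standard flag -/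
def flagStab (n : ℕ) : Subgroup (GL (Fin n) (ZMod 2)) where
  carrier := {A | ∀ (i : ℕ) (v : Fin n → ZMod 2), low i v ↔ low i ((A : Matrix (Fin n) (Fin n) (ZMod 2)).mulVec v)}
  one_mem' := fun i v => by simp
  mul_mem' := fun {A B} hA hB i v => by
    rw [Units.val_mul, ← Matrix.mulVec_mulVec, ← hA, ← hB]
  inv_mem' := fun {A} hA i v => by
    rw [hA i ((A⁻¹ : GL (Fin n) (ZMod 2)).1.mulVec v), Matrix.mulVec_mulVec, A.mul_inv,
      Matrix.one_mulVec]

theorem z2 (a : ZMod 2) : a = 0 ∨ a = 1 := by revert a; decide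

theorem sub_low {A : GL (Fin n) (ZMod 2)} (hA : A ∈ flagStab n) {i : ℕ} {v : Fin n → ZMod 2}
    (hv : low (i + 1) v) : low i ((A : Matrix (Fin n) (Fin n) (ZMod 2)).mulVec v - v) := by
  intro j hj
  have hAv := (hA (i + 1) v).1 hv
  rcases Nat.eq_or_lt_of_le hj with h | h
  · rw [Pi.sub_apply]
    rcases z2 (v j) with e | e
    · have hv' : low i v := fun k hk => by
        rcases Nat.eq_or_lt_of_le hk with h' | h'
        · rw [show k = j from Fin.ext (h'.symm.trans h), e]
        · exact hv k h'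
      rw [e, (hA i v).1 hv' j hj, sub_zero]
    · rcases z2 ((A : Matrix (Fin n) (Fin n) (ZMod 2)).mulVec v j) with e' | e'
      · exfalso
        have hv' : low i ((A : Matrix (Fin n) (Fin n) (ZMod 2)).mulVec v) := fun k hk => by
          rcases Nat.eq_or_lt_of_le hk with h' | h'
          · rw [show k = j from Fin.ext (h'.symm.trans h), e']
          · exact hAv k h'
        rw [(hA i v).2 hv' j hj] at e
        exact zero_ne_one e
      · rw [e, e', sub_self]
  · rw [Pi.sub_apply, hAv j h, hv j h, sub_zero]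

theorem pow_sub_low {A : GL (Fin n) (ZMod 2)} (hA : A ∈ flagStab n) :
    ∀ (k i : ℕ) (v : Fin n → ZMod 2), low (i + k) v →
      low i ((((A : Matrix (Fin n) (Fin n) (ZMod 2)) - 1) ^ k).mulVec v) := by
  intro k
  induction k with
  | zero => intro i v hv; simpa using hv
  | succ k ih =>
    intro i v hv
    rw [pow_succ', ← Matrix.mulVec_mulVec, Matrix.sub_mulVec, Matrix.one_mulVec]
    exact sub_low hA (ih (i + 1) v (by rwa [show i + 1 + k = i + (k + 1) by omega]))

theorem isPGroup_flagStab [NeZero n] : IsPGroup 2 (flagStab n) := by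
  intro A
  refine ⟨n, Subtype.ext (Units.ext ?_)⟩
  rw [SubmonoidClass.coe_pow, Units.val_pow_eq_pow_val, OneMemClass.coe_one, Units.val_one]
  have hnil : ((A.1 : Matrix (Fin n) (Fin n) (ZMod 2)) - 1) ^ n = 0 := by
    refine Matrix.ext_of_mulVec_single fun j => ?_
    rw [Matrix.zero_mulVec]
    funext l
    exact pow_sub_low A.2 n 0 _ (fun k hk => absurd k.2 (by omega)) l (Nat.zero_le _)
  have h2 : (((A.1 : Matrix (Fin n) (Fin n) (ZMod 2))) - 1) ^ 2 ^ n = 0 :=
    pow_eq_zero_of_le (Nat.lt_two_pow_self).le hnil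
  haveI : Fact (Nat.Prime 2) := ⟨Nat.prime_two⟩
  rw [sub_pow_char_pow_of_commute _ _ (Commute.one_right _), one_pow] at h2
  exact sub_eq_zero.1 h2

/-- elementary transvection from position `k + 1` to `k` -/
def step (k l : Fin n) (h : k.1 + 1 = l.1) : GL (Fin n) (ZMod 2) :=
  ⟨Matrix.transvection k l 1, Matrix.transvection k l 1,
    by rw [Matrix.transvection_mul_transvection_same k l (fun e => by rw [e] at h; omega),
      show (1 : ZMod 2) + 1 = 0 from by decide, Matrix.transvection_zero],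
    by rw [Matrix.transvection_mul_transvection_same k l (fun e => by rw [e] at h; omega),
      show (1 : ZMod 2) + 1 = 0 from by decide, Matrix.transvection_zero]⟩

theorem step_mulVec (k l : Fin n) (h : k.1 + 1 = l.1) (v : Fin n → ZMod 2) :
    (step k l h).1.mulVec v = v + Pi.single k (v l) := by
  show (Matrix.transvection k l 1).mulVec v = _
  rw [Matrix.transvection, Matrix.add_mulVec, Matrix.one_mulVec, Matrix.single_mulVec, one_mul]
  funext j
  by_cases hj : j = k
  · subst hj; simp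
  · simp [hj]

theorem step_mem (k l : Fin n) (h : k.1 + 1 = l.1) : step k l h ∈ flagStab n := by
  have hstep : ∀ (i : ℕ) (v : Fin n → ZMod 2), low i v → low i ((step k l h).1.mulVec v) := by
    intro i v hv j hj
    rw [step_mulVec, Pi.add_apply, hv j hj, zero_add]
    by_cases hjk : j = k
    · subst hjk
      rw [Pi.single_eq_same, hv l (by omega)]
    · rw [Pi.single_eq_of_ne hjk]
  intro i v
  refine ⟨hstep i v, fun hv => ?_⟩
  have := hstep i _ hv
  rwa [Matrix.mulVec_mulVec, show (step k l h).1 * (step k l h).1 = 1 from (step k l h).val_inv,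
    Matrix.one_mulVec] at this

theorem normalizer_flagStab_le :
    Subgroup.normalizer (flagStab n : Set (GL (Fin n) (ZMod 2))) ≤ flagStab n := by
  intro A hA
  suffices h : ∀ B ∈ Subgroup.normalizer (flagStab n : Set (GL (Fin n) (ZMod 2))),
      ∀ (i : ℕ) (v : Fin n → ZMod 2), low i v → low i ((B : Matrix (Fin n) (Fin n) (ZMod 2)).mulVec v) by
    intro i v
    refine ⟨h A hA i v, fun hv => ?_⟩
    have := h A⁻¹ (inv_mem hA) i _ hv
    rwa [Matrix.mulVec_mulVec, A.inv_mul, Matrix.one_mulVec] at this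
  intro B hB i
  induction i with
  | zero =>
    intro v hv
    rw [show v = 0 from funext fun j => hv j (Nat.zero_le _), Matrix.mulVec_zero]
    exact fun j _ => rfl
  | succ i ih =>
    intro v hv j hj
    have hk : j.1 - 1 < n := by omega
    set k : Fin n := ⟨j.1 - 1, hk⟩
    have hkj : k.1 + 1 = j.1 := by simp only [k]; omega
    have hu : B⁻¹ * step k j hkj * B ∈ flagStab n := by
      have := (Subgroup.mem_normalizer_iff.1 (inv_mem hB) (step k j hkj)).1 (step_mem k j hkj)
      rwa [inv_inv] at this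
    have h1 := ih _ (sub_low hu hv)
    rw [Matrix.mulVec_sub, Matrix.mulVec_mulVec, ← Units.val_mul,
      show B * (B⁻¹ * step k j hkj * B) = step k j hkj * B by group, Units.val_mul,
      ← Matrix.mulVec_mulVec, step_mulVec, add_sub_cancel_left] at h1
    have := h1 k (by simp only [k]; omega)
    rwa [Pi.single_eq_same] at this

/-- upper unitriangular matrix from six entries -/
def tri (x : Fin 6 → ZMod 2) : Matrix (Fin 4) (Fin 4) (ZMod 2) :=
  !![1, x 0, x 1, x 2; 0, 1, x 3, x 4; 0, 0, 1, x 5; 0, 0, 0, 1]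

theorem tri_low (x : Fin 6 → ZMod 2) {i : ℕ} {v : Fin 4 → ZMod 2} :
    low i v ↔ low i ((tri x).mulVec v) := by
  have key : (i = 0 ∨ i = 1 ∨ i = 2 ∨ i = 3 ∨ 4 ≤ i) := by omega
  rcases key with rfl | rfl | rfl | rfl | h
  case inr.inr.inr.inr =>
    exact ⟨fun _ j hj => absurd j.2 (by omega), fun _ j hj => absurd j.2 (by omega)⟩
  all_goals
    simp only [low, Fin.forall_fin_succ, tri, Matrix.mulVec, dotProduct, Fin.sum_univ_four]
    simp +contextual <;> grind

theorem card_flagStab_ge : 64 ≤ Nat.card (flagStab 4) := by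
  classical
  have hu : ∀ x : Fin 6 → ZMod 2, IsUnit (tri x) := by
    intro x
    rw [Matrix.isUnit_iff_isUnit_det]
    have : (tri x).det = 1 := by
      rw [Matrix.det_of_isUpperTriangular]
      · simp [tri, Fin.prod_univ_four]
      · intro i j hij
        fin_cases i <;> fin_cases j <;> simp_all [tri]
    rw [this]; exact isUnit_one
  let f : (Fin 6 → ZMod 2) → flagStab 4 := fun x =>
    ⟨(hu x).unit, fun i v => by rw [IsUnit.unit_spec]; exact tri_low x⟩
  have hf : Function.Injective f := by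
    intro x y h
    have h' : tri x = tri y := congrArg (fun A : flagStab 4 => (A.1 : Matrix (Fin 4) (Fin 4) (ZMod 2))) h
    funext k
    fin_cases k
    · exact congrFun (congrFun h' 0) 1
    · exact congrFun (congrFun h' 0) 2
    · exact congrFun (congrFun h' 0) 3
    · exact congrFun (congrFun h' 1) 2
    · exact congrFun (congrFun h' 1) 3
    · exact congrFun (congrFun h' 2) 3
  refine le_trans ?_ (Nat.card_le_card_of_injective f hf)
  simp

theorem card_GL4 : Nat.card (GL (Fin 4) (ZMod 2)) = 20160 := by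
  rw [Matrix.card_GL_field, ZMod.card]; decide

/-- Sylow 2-subgroups of `GL(4,2)` are self-normalising -/
theorem sylow_GL4 (P : Sylow 2 (GL (Fin 4) (ZMod 2))) :
    Subgroup.normalizer ((P : Subgroup (GL (Fin 4) (ZMod 2))) : Set (GL (Fin 4) (ZMod 2))) ≤ P := by
  haveI : Fact (Nat.Prime 2) := ⟨Nat.prime_two⟩
  obtain ⟨Q, hQ⟩ := (isPGroup_flagStab (n := 4)).exists_le_sylow
  have hQcard : Nat.card Q = 64 := by
    rw [Q.card_eq_multiplicity, card_GL4]
    rw [show (20160 : ℕ) = 2 ^ 6 * 315 by norm_num, Nat.factorization_mul (by norm_num) (by norm_num),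
      Finsupp.add_apply, Nat.factorization_pow, Finsupp.smul_apply,
      Nat.Prime.factorization_self Nat.prime_two,
      Nat.factorization_eq_zero_of_not_dvd (by norm_num : ¬ 2 ∣ 315)]
    norm_num
  have hQe : flagStab 4 = Q := Subgroup.eq_of_le_of_card_ge hQ (by rw [hQcard]; exact card_flagStab_ge)
  obtain ⟨g, rfl⟩ := MulAction.exists_smul_eq (GL (Fin 4) (ZMod 2)) Q P
  intro x hx
  have hc : ∀ y, y ∈ (g • Q : Sylow 2 (GL (Fin 4) (ZMod 2))).toSubgroup ↔
      g⁻¹ * y * g ∈ (Q : Subgroup (GL (Fin 4) (ZMod 2))) := fun y => by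
    rw [Sylow.coe_subgroup_smul, Subgroup.mem_pointwise_smul_iff_inv_smul_mem]
    simp [MulAut.conj_apply, mul_assoc]
  have hxQ : g⁻¹ * x * g ∈ Subgroup.normalizer ((Q : Subgroup (GL (Fin 4) (ZMod 2))) : Set _) := by
    rw [Subgroup.mem_normalizer_iff]
    intro y
    have h1 := Subgroup.mem_normalizer_iff.1 hx (g * y * g⁻¹)
    rw [hc, hc] at h1
    have e1 : g⁻¹ * (g * y * g⁻¹) * g = y := by group
    have e2 : g⁻¹ * (x * (g * y * g⁻¹) * x⁻¹) * g = g⁻¹ * x * g * y * (g⁻¹ * x * g)⁻¹ := by group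
    rwa [e1, e2] at h1
  rw [← hQe] at hxQ
  have := normalizer_flagStab_le hxQ
  rw [hQe] at this
  exact (hc x).2 this

end Flag

/-! ### M24 -/

theorem sylow_M24 (S : Sylow 2 ↥M24) :
    Subgroup.normalizer ((S : Subgroup ↥M24) : Set ↥M24) = (S : Subgroup ↥M24) := by
  classical
  haveI : Fact (Nat.Prime 2) := ⟨Nat.prime_two⟩
  refine le_antisymm ?_ Subgroup.le_normalizer
  -- a fixed octad
  let X := {o : Finset GolayPt // o ∈ octads}
  letI : MulAction ↥(S : Subgroup ↥M24) X :=
    { smul := fun g o => ⟨((g : ↥M24) : Equiv.Perm GolayPt) • o.1,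
        GolayPerm.smul_mem_octads (g : ↥M24).2 o.2⟩
      one_smul := fun o => Subtype.ext (one_smul _ o.1)
      mul_smul := fun a b o => Subtype.ext (mul_smul _ _ o.1) }
  haveI : Finite X := Subtype.finite
  obtain ⟨⟨o, ho⟩, hofix⟩ := S.isPGroup'.nonempty_fixed_point_of_prime_not_dvd_card X (by
    rw [show Nat.card X = octads.ncard from Nat.card_coe_set_eq octads, ncard_octads]; decide)
  have hSo : (S : Subgroup ↥M24) ≤ soct o := fun g hg => congrArg Subtype.val (hofix ⟨g, hg⟩)
  have hVP : IsPGroup 2 (pfix o) := IsPGroup.of_card (n := 4) (by rw [card_pfix ho]; norm_num)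
  have hVS : pfix o ≤ (S : Subgroup ↥M24) := by
    have hnorm : (S : Subgroup ↥M24) ≤ Subgroup.normalizer ((pfix o : Subgroup ↥M24) : Set ↥M24) := by
      intro g hg
      rw [Subgroup.mem_normalizer_iff]
      refine fun v => ⟨fun hv => pfix_conj (hSo hg) hv, fun hv => ?_⟩
      have h2 := pfix_conj ((soct o).inv_mem (hSo hg)) hv
      rwa [inv_inv, show g⁻¹ * (g * v * g⁻¹) * g = v by group] at h2
    have hsup := S.isPGroup'.to_sup_of_normal_right' hVP hnorm
    have := S.is_maximal' hsup le_sup_left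
    rw [← this]; exact le_sup_right
  -- an element of the centre inside the pointwise fixer
  obtain ⟨p, hp⟩ := exists_notMem ho
  haveI hVn : ((pfix o).subgroupOf (S : Subgroup ↥M24)).Normal := ⟨fun v hv g => by
    rw [Subgroup.mem_subgroupOf] at hv ⊢
    exact pfix_conj (hSo g.2) hv⟩
  letI : MulAction ↥(S : Subgroup ↥M24) (pfix o) :=
    { smul := fun g v => ⟨(g : ↥M24) * v.1 * (g : ↥M24)⁻¹, pfix_conj (hSo g.2) v.2⟩
      one_smul := fun v => Subtype.ext (by show 1 * v.1 * 1⁻¹ = v.1; group)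
      mul_smul := fun a b v => Subtype.ext (by
        show (a.1 * b.1) * v.1 * (a.1 * b.1)⁻¹ = a.1 * (b.1 * v.1 * b.1⁻¹) * a.1⁻¹
        group) }
  obtain ⟨z, hzfix, hzne⟩ := S.isPGroup'.exists_fixed_point_of_prime_dvd_card_of_fixed_point
    (pfix o) (by rw [card_pfix ho]; norm_num) (a := 1) (fun g => Subtype.ext (by
      show (g : ↥M24) * 1 * (g : ↥M24)⁻¹ = 1; group))
  have hz1 : z.1 ≠ 1 := fun e => hzne (Subtype.ext e.symm)
  have hzc : ∀ s ∈ (S : Subgroup ↥M24), s * z.1 = z.1 * s := fun s hs =>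
    mul_inv_eq_iff_eq_mul.1 (congrArg Subtype.val (hzfix ⟨s, hs⟩))
  intro g hg
  have hgn := Subgroup.mem_normalizer_iff.1 hg
  -- the normaliser stabilises the octad
  have hgo : g ∈ soct o := by
    have hz' : g * z.1 * g⁻¹ ∈ (S : Subgroup ↥M24) := (hgn _).1 (hVS z.2)
    have hcomm : ∀ v ∈ pfix o, (g * z.1 * g⁻¹) * v = v * (g * z.1 * g⁻¹) := by
      intro v hv
      have h1 : g⁻¹ * v * g ∈ (S : Subgroup ↥M24) := by
        apply (hgn _).2
        rw [show g * (g⁻¹ * v * g) * g⁻¹ = v by group]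
        exact hVS hv
      have h2 := hzc _ h1
      calc (g * z.1 * g⁻¹) * v = g * (z.1 * (g⁻¹ * v * g)) * g⁻¹ := by group
        _ = v * (g * z.1 * g⁻¹) := by rw [← h2]; group
    have hmem : g * z.1 * g⁻¹ ∈ pfix o := by
      obtain ⟨v, hv, m, hm, e⟩ := exists_decomp ho hp (hSo hz')
      have hm1 : m = 1 := comp_faithful ho hp hm fun u hu => by
        have h := hcomm u hu
        rw [← e] at h
        calc m * u * m⁻¹ = v⁻¹ * (v * m * u) * m⁻¹ := by group
          _ = v⁻¹ * (u * (v * m)) * m⁻¹ := by rw [h]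
          _ = v⁻¹ * (u * v) := by group
          _ = u := by rw [← pfix_comm ho hv hu]; group
      rw [← e, hm1, mul_one]; exact hv
    exact smul_eq_of_conj ho ho z.2 hz1 hmem
  -- pass to the automorphism group of the fixer
  haveI := (isElementaryAbelian_pfix ho).1
  obtain ⟨u, hu⟩ : ∃ u : pfix o, u ≠ 1 := ⟨z, fun e => hz1 (congrArg Subtype.val e)⟩
  obtain ⟨e, he, -⟩ := LargeExtraspecialAGL.exists_coord (n := 3) (isElementaryAbelian_pfix ho)
    (by rw [card_pfix ho]; norm_num) u hu
  let c : ↥(pfix o) ≃ (Fin 4 → ZMod 2) := e.trans (Fin.consEquiv fun _ => ZMod 2)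
  have hc : ∀ a b, c (a * b) = c a + c b := fun a b => by
    funext i
    refine Fin.cases ?_ (fun j => ?_) i <;> simp [c, he, Fin.consEquiv]
  let cj : soct o → pfix o → pfix o := fun x v => ⟨x.1 * v.1 * x.1⁻¹, pfix_conj x.2 v.2⟩
  have hcj_mul : ∀ x a b, cj x (a * b) = cj x a * cj x b := fun x a b => Subtype.ext (by
    show x.1 * (a.1 * b.1) * x.1⁻¹ = x.1 * a.1 * x.1⁻¹ * (x.1 * b.1 * x.1⁻¹)
    group)
  have hcj_comp : ∀ x y v, cj (x * y) v = cj x (cj y v) := fun x y v => Subtype.ext (by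
    show (x.1 * y.1) * v.1 * (x.1 * y.1)⁻¹ = x.1 * (y.1 * v.1 * y.1⁻¹) * x.1⁻¹
    group)
  have hcj_one : ∀ v, cj 1 v = v := fun v => Subtype.ext (by
    show 1 * v.1 * 1⁻¹ = v.1; group)
  let lin : soct o → (Fin 4 → ZMod 2) →ₗ[ZMod 2] (Fin 4 → ZMod 2) := fun x =>
    (AddMonoidHom.mk' (fun v => c (cj x (c.symm v))) fun v w => by
      rw [← hc, ← hcj_mul]
      congr 2
      apply c.injective
      rw [hc, c.apply_symm_apply, c.apply_symm_apply, c.apply_symm_apply]).toZModLinearMap 2
  have hlin : ∀ x v, lin x v = c (cj x (c.symm v)) := fun x v => rfl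
  have hlmul : ∀ x y, LinearMap.toMatrix' (lin (x * y)) =
      LinearMap.toMatrix' (lin x) * LinearMap.toMatrix' (lin y) := fun x y => by
    rw [← LinearMap.toMatrix'_comp]
    congr 1
    refine LinearMap.ext fun v => ?_
    simp only [LinearMap.comp_apply, hlin, hcj_comp, c.symm_apply_apply]
  have hlone : LinearMap.toMatrix' (lin 1) = 1 := by
    rw [← LinearMap.toMatrix'_id]
    congr 1
    refine LinearMap.ext fun v => ?_
    simp only [hlin, hcj_one, c.apply_symm_apply, LinearMap.id_apply]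
  let ρ : soct o →* GL (Fin 4) (ZMod 2) := MonoidHom.mk'
    (fun x => ⟨LinearMap.toMatrix' (lin x), LinearMap.toMatrix' (lin x⁻¹),
      by rw [← hlmul, mul_inv_cancel, hlone], by rw [← hlmul, inv_mul_cancel, hlone]⟩)
    (fun x y => Units.ext (hlmul x y))
  have hker : ∀ x : soct o, ρ x = 1 → x.1 ∈ pfix o := by
    intro x hx
    have h0 : lin x = LinearMap.id := LinearMap.toMatrix'.injective (by
      rw [LinearMap.toMatrix'_id]; exact congrArg Units.val hx)
    have hfix : ∀ v : pfix o, cj x v = v := fun v => c.injective (by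
      simpa [hlin] using LinearMap.congr_fun h0 (c v))
    obtain ⟨v, hv, m, hm, hvm⟩ := exists_decomp ho hp x.2
    have hm1 : m = 1 := comp_faithful ho hp hm fun w hw => by
      have h : x.1 * w * x.1⁻¹ = w := congrArg Subtype.val (hfix ⟨w, hw⟩)
      rw [← hvm] at h
      calc m * w * m⁻¹ = v⁻¹ * ((v * m) * w * (v * m)⁻¹) * v := by group
        _ = v⁻¹ * (w * v) := by rw [h]; group
        _ = w := by rw [← pfix_comm ho hv hw]; group
    rw [← hvm, hm1, mul_one]; exact hv
  set So := (S : Subgroup ↥M24).subgroupOf (soct o) with hSodef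
  have hcardS : Nat.card (S : Subgroup ↥M24) = 2 ^ 10 := by
    rw [S.card_eq_multiplicity, GolayM24.card_M24,
      show (244823040 : ℕ) = 2 ^ 10 * 239085 by norm_num,
      Nat.factorization_mul (by norm_num) (by norm_num), Finsupp.add_apply, Nat.factorization_pow,
      Finsupp.smul_apply, Nat.Prime.factorization_self Nat.prime_two,
      Nat.factorization_eq_zero_of_not_dvd (by norm_num : ¬ 2 ∣ 239085)]
    simp
  have hSoP : IsPGroup 2 So :=
    IsPGroup.of_card (n := 10) (by
      rw [Nat.card_congr (Subgroup.subgroupOfEquivOfLe hSo).toEquiv, hcardS])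
  obtain ⟨P, hP⟩ := (hSoP.map ρ).exists_le_sylow
  have hPle : (P : Subgroup (GL (Fin 4) (ZMod 2))).comap ρ ≤ So := by
    have hker2 : IsPGroup 2 ρ.ker := by
      refine IsPGroup.of_injective hVP
        (MonoidHom.mk' (fun x : ρ.ker => (⟨x.1.1, hker x.1 x.2⟩ : pfix o)) fun a b => rfl) ?_
      intro a b h
      have h' := congrArg (fun q : pfix o => q.1) h
      exact Subtype.ext (Subtype.ext h')
    have h2 : IsPGroup 2 ((P : Subgroup (GL (Fin 4) (ZMod 2))).comap ρ) :=
      P.isPGroup'.comap_of_ker_isPGroup ρ hker2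
    have h3 := h2.map (soct o).subtype
    have hle : (S : Subgroup ↥M24) ≤ ((P : Subgroup (GL (Fin 4) (ZMod 2))).comap ρ).map (soct o).subtype :=
      fun s hs => ⟨⟨s, hSo hs⟩, hP (Subgroup.mem_map_of_mem ρ hs), rfl⟩
    have h4 := S.is_maximal' h3 hle
    intro x hx
    show x.1 ∈ (S : Subgroup ↥M24)
    rw [← h4]
    exact ⟨x, hx, rfl⟩
  have hPeq : (P : Subgroup (GL (Fin 4) (ZMod 2))).comap ρ = So :=
    le_antisymm hPle (fun x hx => hP (Subgroup.mem_map_of_mem ρ hx))
  have hsurj : Function.Surjective ρ := by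
    intro A
    let α : ↥(pfix o) ≃* ↥(pfix o) :=
      { toFun := fun v => c.symm ((A : Matrix (Fin 4) (Fin 4) (ZMod 2)).mulVec (c v))
        invFun := fun v => c.symm (((A⁻¹ : GL (Fin 4) (ZMod 2)) : Matrix (Fin 4) (Fin 4) (ZMod 2)).mulVec (c v))
        left_inv := fun v => by simp [Matrix.mulVec_mulVec]
        right_inv := fun v => by simp [Matrix.mulVec_mulVec]
        map_mul' := fun a b => c.injective (by simp [hc, Matrix.mulVec_add]) }
    obtain ⟨m, hm, hmα⟩ := comp_full ho hp α
    refine ⟨⟨m, hm.1⟩, Units.ext ?_⟩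
    show LinearMap.toMatrix' (lin ⟨m, hm.1⟩) = (A : Matrix (Fin 4) (Fin 4) (ZMod 2))
    rw [← LinearMap.toMatrix'_toLin' (A : Matrix (Fin 4) (Fin 4) (ZMod 2))]
    congr 1
    refine LinearMap.ext fun v => ?_
    rw [hlin, Matrix.toLin'_apply,
      show cj ⟨m, hm.1⟩ (c.symm v) = α (c.symm v) from Subtype.ext (hmα _).symm]
    simp [α]
  have hgρ : ρ ⟨g, hgo⟩ ∈ Subgroup.normalizer
      ((P : Subgroup (GL (Fin 4) (ZMod 2))) : Set (GL (Fin 4) (ZMod 2))) := by
    rw [Subgroup.mem_normalizer_iff]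
    intro y
    obtain ⟨x, rfl⟩ := hsurj y
    rw [← map_inv, ← map_mul, ← map_mul, ← Subgroup.mem_comap, ← Subgroup.mem_comap, hPeq]
    exact hgn x.1
  have hin : (⟨g, hgo⟩ : soct o) ∈ So := by
    rw [← hPeq]
    exact sylow_GL4 P hgρ
  exact hin

end Cfsg.Agent.GolaySylowTwo
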