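import Mathlib
import Cfsg.Agent.Lib.GolayOctadStab
import Cfsg.Agent.Lib.GolayInvolutions

/-!
An element of `M24` with fourth power one fixing two points fixes a third one.
-/

set_option autoImplicit false

namespace Cfsg.Agent.GolayThirdFixed2

open Cfsg Cfsg.Agent.GolayOctadStab
open scoped Pointwise

/-- the action of the setwise stabiliser on the points of the set -/
def res (o : Finset GolayPt) : ↥(soct o) →* Equiv.Perm {x // x ∈ o} where
  toFun g := ((g : ↥M24) : Equiv.Perm GolayPt).subtypePerm fun x => by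
    have h := Finset.smul_mem_smul_finset_iff (a := ((g : ↥M24) : Equiv.Perm GolayPt)) (b := x)
      (s := o)
    rw [mem_soct.1 g.2, Equiv.Perm.smul_def] at h
    exact h
  map_one' := Equiv.ext fun _ => Subtype.ext rfl
  map_mul' _ _ := Equiv.ext fun _ => Subtype.ext rfl

variable {o : Finset GolayPt}

theorem res_eq_one {g : ↥(soct o)} : res o g = 1 ↔ (g : ↥M24) ∈ pfix o :=
  ⟨fun h x hx => congrArg Subtype.val (Equiv.ext_iff.1 h ⟨x, hx⟩),
    fun h => Equiv.ext fun x => Subtype.ext (h x.1 x.2)⟩

/-- the stabiliser of an octad induces even permutations on it -/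
theorem res_mem_alternating (ho : o ∈ octads) (g : ↥(soct o)) :
    res o g ∈ alternatingGroup {x // x ∈ o} := by
  obtain ⟨p, hp⟩ := exists_notMem ho
  have hle : comp o p ≤ soct o := inf_le_left
  set f := (res o).comp (Subgroup.inclusion hle) with hf
  have hinj : Function.Injective f := (injective_iff_map_eq_one f).2 fun m hm => by
    have h : (m : ↥M24) ∈ pfix o ⊓ comp o p := ⟨res_eq_one.1 hm, m.2⟩
    rw [pfix_inf_comp ho hp, Subgroup.mem_bot] at h
    exact Subtype.ext h
  have hcard : Nat.card f.range = 20160 := by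
    rw [← Nat.card_congr (MonoidHom.ofInjective hinj).toEquiv, card_comp ho hp]
  have hidx : f.range.index = 2 := by
    have h := f.range.card_mul_index
    rw [hcard, Nat.card_eq_fintype_card, Fintype.card_perm, Fintype.card_coe, ho.2,
      show Nat.factorial 8 = 40320 from rfl] at h
    omega
  obtain ⟨v, hv, m, hm, e⟩ := exists_decomp ho hp g.2
  have hg : g = (⟨v, pfix_le_soct o hv⟩ : ↥(soct o)) * ⟨m, hm.1⟩ := Subtype.ext e.symm
  rw [hg, map_mul, res_eq_one.2 hv, one_mul,
    ← Equiv.Perm.eq_alternatingGroup_of_index_eq_two hidx]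
  exact ⟨⟨m, hm⟩, rfl⟩

theorem even_involution {α : Type*} [Fintype α] [DecidableEq α] {σ : Equiv.Perm α}
    (h2 : σ ^ 2 = 1) (hev : σ ∈ alternatingGroup α) (hcard : Fintype.card α = 8) {a b : α}
    (hab : a ≠ b) (ha : σ a = a) (hb : σ b = b) : ∃ i, i ≠ a ∧ i ≠ b ∧ σ i = i := by
  by_contra h
  push Not at h
  have hsupp : σ.support = ({a, b} : Finset α)ᶜ := by
    ext i
    rw [Equiv.Perm.mem_support, Finset.mem_compl, Finset.mem_insert, Finset.mem_singleton]
    constructor
    · rintro hi (rfl | rfl)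
      · exact hi ha
      · exact hi hb
    · intro hi
      push Not at hi
      exact h i hi.1 hi.2
  have hct : ∀ n ∈ σ.cycleType, n = 2 := fun n hn =>
    Nat.le_antisymm (Nat.le_of_dvd two_pos
      ((Equiv.Perm.dvd_of_mem_cycleType hn).trans (orderOf_dvd_of_pow_eq_one h2)))
      (Equiv.Perm.two_le_of_mem_cycleType hn)
  have hsum : σ.cycleType.sum = 6 := by
    rw [Equiv.Perm.sum_cycleType, hsupp, Finset.card_compl, hcard, Finset.card_pair hab]
  have hk : σ.cycleType.card = 3 := by
    have := Multiset.eq_replicate_card.2 hct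
    rw [this, Multiset.sum_replicate, smul_eq_mul] at hsum
    omega
  rw [Equiv.Perm.mem_alternatingGroup, Equiv.Perm.sign_of_cycleType, hsum, hk] at hev
  exact absurd hev (by decide)

/-- An element of order dividing four fixing two points fixes a third. -/
theorem exists_third_fixed {g : Equiv.Perm GolayPt} (hg : g ∈ M24) (h4 : g ^ 4 = 1) {a b : GolayPt}
    (hab : a ≠ b) (ha : g a = a) (hb : g b = b) : ∃ i, i ≠ a ∧ i ≠ b ∧ g i = i := by
  classical
  have octad : ∀ h ∈ M24, orderOf h = 2 → h a = a →
      (Finset.univ.filter fun p => h p = p) ∈ octads := fun h hh h2 hha =>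
    (GolayInvolutions.classification.1 h hh h2).resolve_right fun hne => hne a hha
  by_cases h1 : g = 1
  · obtain ⟨i, hi⟩ := Finset.exists_mem_notMem_of_card_lt_card
      (s := ({a, b} : Finset GolayPt)) (t := Finset.univ)
      (by rw [Finset.card_pair hab, Finset.card_univ]; decide +kernel)
    rw [Finset.mem_insert, Finset.mem_singleton] at hi
    push Not at hi
    exact ⟨i, hi.2.1, hi.2.2, by rw [h1]; rfl⟩
  by_cases h2 : g ^ 2 = 1
  · set o := Finset.univ.filter fun p => g p = p with hodef
    have ho : o ∈ octads := octad g hg (orderOf_eq_prime h2 h1) ha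
    obtain ⟨i, hi⟩ := Finset.exists_mem_notMem_of_card_lt_card
      (s := ({a, b} : Finset GolayPt)) (t := o)
      (by rw [Finset.card_pair hab, ho.2]; decide)
    rw [hodef, Finset.mem_filter, Finset.mem_insert, Finset.mem_singleton] at hi
    push Not at hi
    exact ⟨i, hi.2.1, hi.2.2, hi.1.2⟩
  set z := g ^ 2 with hz
  have hza : z a = a := by simp [hz, pow_two, ha]
  have hzb : z b = b := by simp [hz, pow_two, hb]
  have hz2 : z ^ 2 = 1 := by rw [hz, ← pow_mul]; exact h4
  set o := Finset.univ.filter fun p => z p = p with hodef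
  have ho : o ∈ octads := octad z (pow_mem hg 2) (orderOf_eq_prime hz2 h2) hza
  let g' : ↥M24 := ⟨g, hg⟩
  have hzp : g' ^ 2 ∈ pfix o := mem_pfix_of_filter (by rw [SubmonoidClass.coe_pow])
  have hgs : g' ∈ soct o := mem_soct_of_commute ho hzp
    (fun e => h2 (congrArg Subtype.val e)) (by group)
  set σ := res o ⟨g', hgs⟩ with hσ
  have hσ2 : σ ^ 2 = 1 := by rw [hσ, ← map_pow]; exact res_eq_one.2 hzp
  have hao : a ∈ o := by simp [hodef, hza]
  have hbo : b ∈ o := by simp [hodef, hzb]
  obtain ⟨i, hia, hib, hi⟩ := even_involution hσ2 (res_mem_alternating ho _)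
    (by rw [Fintype.card_coe, ho.2]) (a := ⟨a, hao⟩) (b := ⟨b, hbo⟩)
    (fun e => hab (congrArg Subtype.val e)) (Subtype.ext ha) (Subtype.ext hb)
  exact ⟨i, fun e => hia (Subtype.ext e), fun e => hib (Subtype.ext e), congrArg Subtype.val hi⟩

end Cfsg.Agent.GolayThirdFixed2
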