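/-!
The fifteen trios through the standard octad and witnesses of double transitivity.
-/

namespace Cfsg.Agent.GolayTrioOctData

def octTrios : List (List Nat) :=
  [[10558, 3704512, 13062145],
    [36294, 3678776, 13062145],
    [42232, 3672838, 13062145],
    [525274, 3189796, 13062145],
    [535268, 3179802, 13062145],
    [560668, 3154402, 13062145],
    [567074, 3147996, 13062145],
    [1050548, 2664522, 13062145],
    [1060490, 2654580, 13062145],
    [1084018, 2631052, 13062145],
    [1090380, 2624690, 13062145],
    [1573998, 2141072, 13062145],
    [1584464, 2130606, 13062145],
    [1608104, 2106966, 13062145],
    [1613974, 2101096, 13062145]]

def witOne : List Nat :=
  [984818244535754528103549039458486304,
    914147473811576136696204019795366065,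
    522041630133741343876494148753249911,
    610362661605210505442323220947178864,
    955546288270646941686377749329025644,
    686926260824624754236112796187732448,
    769848277404210362470013606717298096,
    730059618670424318360726529222350486,
    778160096972645470923973513568300150,
    688228607156815018291282344244530592,
    724693647843443571401598463722558048,
    932490655282172773149973765256597687,
    735319839527401812178808190666117559,
    729950057275235624907468895808003191,
    602722372766255483222708856719397361]

def witTwo : List Nat :=
  [984818244535754528103549039458486304,
    29381192701456270273436591629546647,
    944233714650886796418739680511872210,
    722057652252022928984386935511993536,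
    22700193647294423483247722182837522,
    976569640181758220253609921145639020,
    527449410368888057346221114847802417,
    768547748804580634981398814224196942,
    763475989729847295696627790408996080,
    22275619984073102341623867009252654,
    528444344546746130718660604751107568,
    735161804563196902723626743250507054,
    706238630592501551147393470397993458,
    686738410767392243267914685419760311]

end Cfsg.Agent.GolayTrioOctData
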