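import Cfsg.Agent.Lib.GolayHexad
import Cfsg.Agent.Lib.GolayTrioOctData

/-!
The action of the stabiliser of an octad on the fifteen trios containing it.
-/

set_option autoImplicit false

namespace Cfsg.Agent.GolayTrioOct

open Cfsg Cfsg.Agent.GolayBasic Cfsg.Agent.GolayPerm Cfsg.Agent.GolayOrbit Cfsg.Agent.GolayOrbitData
  Cfsg.Agent.GolayTrioOctData Cfsg.Agent.GolayTrioSextet Cfsg.Agent.GolayData Cfsg.Agent.GolaySix
open scoped Pointwise

theorem listing_check : ((((allOrbs trioAllGens trioAllParts).filter fun l => l.contains 13062145).length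
    == 15) && ((allOrbs trioAllGens trioAllParts).filter fun l => l.contains 13062145).all
      fun l => octTrios.contains l) = true := by
  decide +kernel

theorem wit_check : (((List.range 15).all fun j =>
      good (witOne.getD j 0) && pmask (witOne.getD j 0) 13062145 == 13062145 &&
        img (witOne.getD j 0) (octTrios.getD 0 []) == octTrios.getD j []) &&
    (List.range 14).all fun j =>
      good (witTwo.getD j 0) && pmask (witTwo.getD j 0) 13062145 == 13062145 &&
        img (witTwo.getD j 0) (octTrios.getD 0 []) == octTrios.getD 0 [] &&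
        img (witTwo.getD j 0) (octTrios.getD 1 []) == octTrios.getD (j + 1) []) = true := by
  decide +kernel

theorem translations_check : (tr24_6.all fun t => octTrios.all fun l =>
    img t l == l) = true := by
  decide +kernel

theorem list_check : ((octTrios.all fun l => GolayOrbitThms.trioChk l && l.contains 13062145) &&
    (octTrios.length == 15)) = true := by
  decide +kernel

theorem mem_std {T : Finset (Finset GolayPt)} :
    T ∈ trios ∧ mset 13062145 ∈ T ↔ ∃ j < 15, fam (octTrios.getD j []) = T := by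
  have hl := list_check
  simp only [Bool.and_eq_true, List.all_eq_true, beq_iff_eq] at hl
  constructor
  · rintro ⟨hT, ho⟩
    obtain ⟨Y, hY, rfl⟩ := (GolayCount.trios_listing.mem T).1 hT
    obtain ⟨m, hm, e⟩ := mem_fam.1 ho
    have := mset_inj (ok_lt (GolayCount.trios_listing.ok Y hY) hm) (by norm_num) e
    subst this
    have h := listing_check
    simp only [Bool.and_eq_true] at h
    have h2 := List.all_eq_true.1 h.2 Y (List.mem_filter.2 ⟨hY, List.contains_iff_mem.2 hm⟩)
    rw [List.contains_iff_mem] at h2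
    obtain ⟨j, hj, rfl⟩ := List.getElem_of_mem h2
    exact ⟨j, hl.2 ▸ hj, by rw [List.getD_eq_getElem _ _ hj]⟩
  · rintro ⟨j, hj, rfl⟩
    have hj' : j < octTrios.length := hl.2.symm ▸ hj
    have h := hl.1 _ (List.getElem_mem hj')
    rw [List.getD_eq_getElem _ _ hj']
    exact ⟨GolayOrbitThms.trio_of_chk h.1, mem_fam.2 ⟨_, List.contains_iff_mem.1 h.2, rfl⟩⟩

theorem ncard_through (k : ↥M24) :
    {T : Finset (Finset GolayPt) | T ∈ trios ∧ k • mset 13062145 ∈ T}.ncard = 15 := by
  rw [GolayCount.ncard_smul GolayOrbitThms.trios_inv k (Q := fun T => mset 13062145 ∈ T)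
    (fun T => Finset.smul_mem_smul_finset_iff k),
    GolayCount.trios_listing.ncard_filter _ (fun l => l.contains 13062145) (fun Y hY => ?_)]
  · have h := listing_check
    simp only [Bool.and_eq_true, beq_iff_eq] at h
    exact h.1
  · rw [List.contains_iff_mem, mem_fam]
    exact ⟨fun h => ⟨_, h, rfl⟩, fun ⟨m, hm, e⟩ => mset_inj (ok_lt hY hm) (by norm_num) e ▸ hm⟩

theorem perm_fam {P : ℕ} {a b : List ℕ} (hP : good P = true) (h : img P a = b) :
    permOf P • fam a = fam b := by
  rw [smul_fam (valid_of_good hP), h]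

/-- a pair of distinct trios through the standard octad comes from the first two -/
theorem pair_std {T₁ T₂ : Finset (Finset GolayPt)} (h1 : T₁ ∈ trios ∧ mset 13062145 ∈ T₁)
    (h2 : T₂ ∈ trios ∧ mset 13062145 ∈ T₂) (hne : T₁ ≠ T₂) :
    ∃ g : ↥M24, g • mset 13062145 = mset 13062145 ∧ g • fam (octTrios.getD 0 []) = T₁ ∧
      g • fam (octTrios.getD 1 []) = T₂ := by
  obtain ⟨i, hi, rfl⟩ := mem_std.1 h1
  have hw := wit_check
  simp only [Bool.and_eq_true, List.all_eq_true, beq_iff_eq, List.mem_range] at hw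
  obtain ⟨⟨ga, oa⟩, ea⟩ := hw.1 i hi
  set a : ↥M24 := ⟨permOf (witOne.getD i 0), permOf_mem_M24 ga⟩
  have hao : a • mset 13062145 = mset 13062145 := by
    show permOf (witOne.getD i 0) • mset 13062145 = mset 13062145
    rw [smul_mset (valid_of_good ga), oa]
  have haT : a • fam (octTrios.getD 0 []) = fam (octTrios.getD i []) := perm_fam ga ea
  have h2' : a⁻¹ • T₂ ∈ trios ∧ mset 13062145 ∈ a⁻¹ • T₂ := by
    refine ⟨GolayOrbitThms.trios_inv _ _ h2.1, ?_⟩
    rw [← Finset.smul_mem_smul_finset_iff a, smul_inv_smul, hao]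
    exact h2.2
  obtain ⟨j, hj, ej⟩ := mem_std.1 h2'
  have hj0 : j ≠ 0 := by
    rintro rfl
    exact hne (by rw [← haT, ej, smul_inv_smul])
  obtain ⟨⟨⟨gb, ob⟩, eb0⟩, eb1⟩ := hw.2 (j - 1) (by omega)
  set b : ↥M24 := ⟨permOf (witTwo.getD (j - 1) 0), permOf_mem_M24 gb⟩
  have hb0 : b • fam (octTrios.getD 0 []) = fam (octTrios.getD 0 []) := perm_fam gb eb0
  have hb1 : b • fam (octTrios.getD 1 []) = fam (octTrios.getD j []) := by
    rw [show j - 1 + 1 = j by omega] at eb1
    exact perm_fam gb eb1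
  refine ⟨a * b, ?_, ?_, ?_⟩
  · rw [mul_smul, show b • mset 13062145 = mset 13062145 from by
      show permOf (witTwo.getD (j - 1) 0) • mset 13062145 = mset 13062145
      rw [smul_mset (valid_of_good gb), ob], hao]
  · rw [mul_smul, hb0, haT]
  · rw [mul_smul, hb1, ej, smul_inv_smul]

theorem pull (k : ↥M24) {T : Finset (Finset GolayPt)} (hT : T ∈ trios)
    (ho : k • mset 13062145 ∈ T) : k⁻¹ • T ∈ trios ∧ mset 13062145 ∈ k⁻¹ • T := by
  refine ⟨GolayOrbitThms.trios_inv _ _ hT, ?_⟩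
  rw [← Finset.smul_mem_smul_finset_iff k, smul_inv_smul]
  exact ho

theorem double_trans (k : ↥M24) {T₁ T₂ T₁' T₂' : Finset (Finset GolayPt)} (h1 : T₁ ∈ trios)
    (h2 : T₂ ∈ trios) (h1' : T₁' ∈ trios) (h2' : T₂' ∈ trios) (o1 : k • mset 13062145 ∈ T₁)
    (o2 : k • mset 13062145 ∈ T₂) (o1' : k • mset 13062145 ∈ T₁')
    (o2' : k • mset 13062145 ∈ T₂') (hne : T₁ ≠ T₂) (hne' : T₁' ≠ T₂') :
    ∃ g ∈ M24, g • (k • mset 13062145) = k • mset 13062145 ∧ g • T₁ = T₁' ∧ g • T₂ = T₂' := by
  obtain ⟨a, ao, a1, a2⟩ := pair_std (pull k h1 o1) (pull k h2 o2)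
    (fun e => hne (smul_left_cancel k⁻¹ e))
  obtain ⟨b, bo, b1, b2⟩ := pair_std (pull k h1' o1') (pull k h2' o2')
    (fun e => hne' (smul_left_cancel k⁻¹ e))
  refine ⟨_, (k * b * a⁻¹ * k⁻¹ : ↥M24).2, ?_, ?_, ?_⟩
  · show (k * b * a⁻¹ * k⁻¹) • k • mset 13062145 = _
    rw [mul_smul, inv_smul_smul, mul_smul, mul_smul, inv_smul_eq_iff.2 ao.symm, bo]
  · show (k * b * a⁻¹ * k⁻¹) • T₁ = _
    rw [mul_smul, mul_smul, mul_smul, inv_smul_eq_iff.2 a1.symm, b1, smul_inv_smul]
  · show (k * b * a⁻¹ * k⁻¹) • T₂ = _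
    rw [mul_smul, mul_smul, mul_smul, inv_smul_eq_iff.2 a2.symm, b2, smul_inv_smul]

theorem trans_fix {g : Equiv.Perm GolayPt} (hg : g ∈ M24) (hfix : ∀ p ∈ mset 13062145, g p = p)
    {T : Finset (Finset GolayPt)} (hT : T ∈ trios ∧ mset 13062145 ∈ T) : g • T = T := by
  obtain ⟨t, ht, e⟩ := fix_cover g (mem_fixList.2 ⟨hg, fun b hb => hfix _ (by
    revert b; decide +kernel)⟩)
  have hv : valid t = true := by
    have h := List.all_eq_true.1 six_facts t ht
    simp only [Bool.and_eq_true] at h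
    exact valid_of_good h.1.1
  obtain ⟨j, hj, rfl⟩ := mem_std.1 hT
  have h := List.all_eq_true.1 translations_check t ht
  have hl := list_check
  simp only [Bool.and_eq_true, beq_iff_eq] at hl
  have hj' : j < octTrios.length := hl.2.symm ▸ hj
  rw [e, List.getD_eq_getElem _ _ hj', smul_fam hv,
    beq_iff_eq.1 (List.all_eq_true.1 h _ (List.getElem_mem hj'))]

theorem kernel_iff (k : ↥M24) {g : Equiv.Perm GolayPt} (hg : g ∈ M24)
    (hgo : g • (k • mset 13062145) = k • mset 13062145) :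
    (∀ T ∈ trios, k • mset 13062145 ∈ T → g • T = T) ↔
      ∀ p ∈ k • mset 13062145, g p = p := by
  set o := k • mset 13062145 with ho
  have hoct : o ∈ octads := smul_mem_octads k.2 GolayM24.octad_five_mem
  constructor
  swap
  · intro hfix T hT hoT
    have h := trans_fix (g := ((k⁻¹ * ⟨g, hg⟩ * k : ↥M24) : Equiv.Perm GolayPt))
      (k⁻¹ * ⟨g, hg⟩ * k : ↥M24).2 (fun p hp => ?_) (pull k hT hoT)
    · rw [show ((k⁻¹ * ⟨g, hg⟩ * k : ↥M24) : Equiv.Perm GolayPt) • k⁻¹ • T =
        (k⁻¹ * ⟨g, hg⟩ * k : ↥M24) • k⁻¹ • T from rfl, mul_smul, mul_smul, smul_inv_smul] at h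
      exact smul_left_cancel k⁻¹ h
    · show (k : Equiv.Perm GolayPt)⁻¹ (g ((k : Equiv.Perm GolayPt) p)) = p
      rw [hfix ((k : Equiv.Perm GolayPt) p) (Finset.smul_mem_smul_finset hp)]
      exact Equiv.symm_apply_apply (k : Equiv.Perm GolayPt) p
  · intro hall
    set H := MulAction.stabilizer ↥M24 o with hH
    set f := restrict H o fun g hg => hg with hf
    -- the elements of the stabiliser fixing all the trios
    let K : Subgroup ↥H :=
      { carrier := {x | ∀ T ∈ trios, o ∈ T → (x : ↥M24) • T = T}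
        one_mem' := fun T _ _ => one_smul _ _
        mul_mem' := fun {x y} hx hy T hT hoT => by
          rw [Subgroup.coe_mul, mul_smul, hy T hT hoT, hx T hT hoT]
        inv_mem' := fun {x} hx T hT hoT => by
          rw [Subgroup.coe_inv, inv_smul_eq_iff, hx T hT hoT] }
    have hK : K.Normal := ⟨fun x hx y T hT hoT => by
      have hyo : o ∈ (y : ↥M24)⁻¹ • T := by
        rw [← Finset.smul_mem_smul_finset_iff (y : ↥M24), smul_inv_smul]
        rwa [show (y : ↥M24) • o = o from y.2]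
      rw [Subgroup.coe_mul, Subgroup.coe_mul, Subgroup.coe_inv, mul_smul, mul_smul,
        hx _ (GolayOrbitThms.trios_inv _ _ hT) hyo, smul_inv_smul]⟩
    have : IsSimpleGroup (alternatingGroup ↥o) := alternatingGroup.isSimpleGroup (by
      rw [Nat.card_eq_fintype_card, Fintype.card_coe, hoct.2]; norm_num)
    let φ : ↥H →* ↥(alternatingGroup ↥o) :=
      f.codRestrict _ fun x => by rw [← GolayHexad.range_octad hoct]; exact ⟨x, rfl⟩
    have hφ : Function.Surjective φ := by
      rintro ⟨e, he⟩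
      rw [← GolayHexad.range_octad hoct] at he
      obtain ⟨x, rfl⟩ := he
      exact ⟨x, rfl⟩
    rcases (hK.map φ hφ).eq_bot_or_eq_top with h | h
    · have hmem : φ ⟨⟨g, hg⟩, hgo⟩ ∈ K.map φ :=
        Subgroup.mem_map_of_mem φ (show ⟨⟨g, hg⟩, hgo⟩ ∈ K from hall)
      rw [h, Subgroup.mem_bot] at hmem
      exact (restrict_eq_one _ _).1 (congrArg Subtype.val hmem)
    · exfalso
      -- then the stabiliser would fix every trio
      have hmoves : ∀ x : ↥H, ∀ T ∈ trios, o ∈ T → (x : ↥M24) • T = T := by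
        intro x T hT hoT
        obtain ⟨y, hy, e⟩ := Subgroup.mem_map.1 (h.symm ▸ Subgroup.mem_top (φ x) : φ x ∈ K.map φ)
        have hyx : ∀ p ∈ o, ((y⁻¹ * x : ↥H) : ↥M24).1 p = p := (restrict_eq_one _ _).1 (by
          have : φ (y⁻¹ * x) = 1 := by rw [map_mul, map_inv, e, inv_mul_cancel]
          exact congrArg Subtype.val this)
        have h1 := trans_fix (g := ((k⁻¹ * ((y⁻¹ * x : ↥H) : ↥M24) * k : ↥M24) : Equiv.Perm GolayPt))
          (k⁻¹ * ((y⁻¹ * x : ↥H) : ↥M24) * k : ↥M24).2 (fun p hp => ?_) (pull k hT hoT)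
        · rw [show ((k⁻¹ * ((y⁻¹ * x : ↥H) : ↥M24) * k : ↥M24) : Equiv.Perm GolayPt) • k⁻¹ • T =
            (k⁻¹ * ((y⁻¹ * x : ↥H) : ↥M24) * k : ↥M24) • k⁻¹ • T from rfl, mul_smul, mul_smul,
            smul_inv_smul] at h1
          have h2 := smul_left_cancel k⁻¹ h1
          rw [Subgroup.coe_mul, Subgroup.coe_inv, mul_smul, inv_smul_eq_iff, hy T hT hoT] at h2
          exact h2
        · show (k : Equiv.Perm GolayPt)⁻¹ (((y⁻¹ * x : ↥H) : ↥M24).1 ((k : Equiv.Perm GolayPt) p)) = p
          rw [hyx ((k : Equiv.Perm GolayPt) p) (Finset.smul_mem_smul_finset hp)]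
          exact Equiv.symm_apply_apply (k : Equiv.Perm GolayPt) p
      have h0 := mem_std.2 ⟨0, by norm_num, rfl⟩
      have h1 := mem_std.2 ⟨1, by norm_num, rfl⟩
      have hne : fam (octTrios.getD 0 []) ≠ fam (octTrios.getD 1 []) := by
        intro e
        have := fam_inj (by decide +kernel) (by decide +kernel) e
        revert this
        decide +kernel
      have hk : ∀ T : Finset (Finset GolayPt), mset 13062145 ∈ T → o ∈ k • T :=
        fun T h => Finset.smul_mem_smul_finset h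
      obtain ⟨x, hx, hxo, hx1, -⟩ := double_trans k (GolayOrbitThms.trios_inv k _ h0.1)
        (GolayOrbitThms.trios_inv k _ h1.1) (GolayOrbitThms.trios_inv k _ h1.1)
        (GolayOrbitThms.trios_inv k _ h0.1) (hk _ h0.2) (hk _ h1.2) (hk _ h1.2) (hk _ h0.2)
        (fun e => hne (smul_left_cancel k e)) (fun e => hne (smul_left_cancel k e).symm)
      have h2 := hmoves ⟨⟨x, hx⟩, hxo⟩ _ (GolayOrbitThms.trios_inv k _ h0.1) (hk _ h0.2)
      rw [show ((⟨⟨x, hx⟩, hxo⟩ : ↥H) : ↥M24) • k • fam (octTrios.getD 0 []) =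
        x • k • fam (octTrios.getD 0 []) from rfl, hx1] at h2
      exact hne (smul_left_cancel k h2).symm

end Cfsg.Agent.GolayTrioOct
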