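import Mathlib
import Cfsg.Prelude.Def_SporadicCombinatorics
import Cfsg.Agent.Lib.GolayM24
import Cfsg.Agent.Lib.AbstractGolay

/-!
Trios and sextets: invariance under the group, completion of two disjoint octads, the sextet of a
tetrad, upper bounds on their numbers.
-/

set_option autoImplicit false

namespace Cfsg.Agent.GolayTrioSextet

open Cfsg Cfsg.Agent.GolayBasic Cfsg.Agent.GolayPerm Cfsg.Agent.GolaySteiner
open scoped Pointwise

/-- the octads as a finset -/
noncomputable def octF : Finset (Finset GolayPt) := (Set.toFinite octads).toFinset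

theorem mem_octF {o : Finset GolayPt} : o ∈ octF ↔ o ∈ octads := by simp [octF]

theorem card_octF : octF.card = 759 := by
  rw [octF, ← Set.ncard_eq_toFinset_card, ncard_octads]

theorem coe_octF : (octF : Set (Finset GolayPt)) = octads := by simp [octF]

theorem smul_mem_trios {g : Equiv.Perm GolayPt} (hg : g ∈ M24) {T : Finset (Finset GolayPt)}
    (hT : T ∈ trios) : g • T ∈ trios := by
  obtain ⟨h1, h2, h3⟩ := hT
  refine ⟨by rw [Finset.card_smul_finset]; exact h1, ?_, ?_⟩
  · intro o ho
    obtain ⟨o₀, ho₀, rfl⟩ := Finset.mem_smul_finset.1 ho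
    exact smul_mem_octads hg (h2 o₀ ho₀)
  · intro o ho o' ho' hne
    obtain ⟨a, ha, rfl⟩ := Finset.mem_smul_finset.1 ho
    obtain ⟨b, hb, rfl⟩ := Finset.mem_smul_finset.1 ho'
    rw [Finset.disjoint_iff_inter_eq_empty, ← Finset.smul_finset_inter,
      Finset.disjoint_iff_inter_eq_empty.1 (h3 a ha b hb fun e => hne (congrArg (g • ·) e)),
      Finset.smul_finset_empty]

theorem smul_mem_sextets {g : Equiv.Perm GolayPt} (hg : g ∈ M24) {S : Finset (Finset GolayPt)}
    (hS : S ∈ sextets) : g • S ∈ sextets := by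
  obtain ⟨h1, h2, h3⟩ := hS
  refine ⟨by rw [Finset.card_smul_finset]; exact h1, ?_, ?_⟩
  · intro t ht
    obtain ⟨t₀, ht₀, rfl⟩ := Finset.mem_smul_finset.1 ht
    rw [Finset.card_smul_finset]
    exact h2 t₀ ht₀
  · intro t ht u hu hne
    obtain ⟨a, ha, rfl⟩ := Finset.mem_smul_finset.1 ht
    obtain ⟨b, hb, rfl⟩ := Finset.mem_smul_finset.1 hu
    rw [← Finset.smul_finset_union]
    exact smul_mem_octads hg (h3 a ha b hb fun e => hne (congrArg (g • ·) e))

theorem compl_union_mem {o o' : Finset GolayPt} (ho : o ∈ octads) (ho' : o' ∈ octads)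
    (hd : Disjoint o o') : (o ∪ o')ᶜ ∈ octads := by
  refine mem_octads.2 ⟨?_, ?_⟩
  · have h := compl_mem_supports (symmDiff_mem_supports ho.1 ho'.1)
    rwa [hd.symmDiff_eq_sup, Finset.sup_eq_union] at h
  · rw [Finset.card_compl, Finset.card_union_of_disjoint hd, ho.2, ho'.2]
    decide

theorem trio_third {T : Finset (Finset GolayPt)} (hT : T ∈ trios) {a b c : Finset GolayPt}
    (ha : a ∈ T) (hb : b ∈ T) (hc : c ∈ T) (hab : a ≠ b) (hca : c ≠ a) (hcb : c ≠ b) :
    c = (a ∪ b)ᶜ := by
  obtain ⟨-, h2, h3⟩ := hT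
  refine Finset.eq_of_subset_of_card_le ?_ ?_
  · intro p hp
    rw [Finset.mem_compl, Finset.mem_union]
    rintro (h | h)
    · exact Finset.disjoint_left.1 (h3 c hc a ha hca) hp h
    · exact Finset.disjoint_left.1 (h3 c hc b hb hcb) hp h
  · rw [(compl_union_mem (h2 a ha) (h2 b hb) (h3 a ha b hb hab)).2, (h2 c hc).2]

theorem trio_eq {T T' : Finset (Finset GolayPt)} (hT : T ∈ trios) (hT' : T' ∈ trios)
    {a b : Finset GolayPt} (hab : a ≠ b) (ha : a ∈ T) (hb : b ∈ T) (ha' : a ∈ T') (hb' : b ∈ T') :
    T = T' := by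
  refine Finset.eq_of_subset_of_card_le (fun c hc => ?_) (by rw [hT.1, hT'.1])
  by_cases hca : c = a
  · exact hca ▸ ha'
  by_cases hcb : c = b
  · exact hcb ▸ hb'
  obtain ⟨d, hd, hda, hdb⟩ : ∃ d ∈ T', d ≠ a ∧ d ≠ b := by
    by_contra hcon
    push Not at hcon
    have h1 : T' ⊆ {a, b} := fun d hd => by
      by_cases h : d = a
      · simp [h]
      · simp [hcon d hd h]
    have := Finset.card_le_card h1
    rw [hT'.1] at this
    exact absurd (this.trans Finset.card_le_two) (by norm_num)
  rw [trio_third hT ha hb hc hab hca hcb, ← trio_third hT' ha' hb' hd hab hda hdb]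
  exact hd

/-- an octad and the octads disjoint from it -/
theorem card_disjoint_octads {o : Finset GolayPt} (ho : o ∈ octads) :
    (octF.filter fun o' => Disjoint o o').card = 30 := by
  classical
  have std : ((octF.filter fun o' => Disjoint (mset 13062145) o')).card = 30 := by
    have e : (octF.filter fun o' => Disjoint (mset 13062145) o') =
        (((ofWeight 8).filter fun x => 13062145 &&& enc x == 0).map fun x => mset (enc x)).toFinset := by
      ext s
      simp only [Finset.mem_filter, mem_octF, octads, mem_wordsOfWeight, List.mem_toFinset,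
        List.mem_map, List.mem_filter, beq_iff_eq]
      constructor
      · rintro ⟨⟨x, hx, rfl⟩, hd⟩
        refine ⟨x, ⟨hx, ?_⟩, rfl⟩
        rw [Finset.disjoint_iff_inter_eq_empty, ← mset_and, ← mset_zero] at hd
        exact mset_inj (lt_of_le_of_lt Nat.and_le_left (by norm_num)) (by norm_num) hd
      · rintro ⟨x, ⟨hx, he⟩, rfl⟩
        exact ⟨⟨x, hx, rfl⟩, by
          rw [Finset.disjoint_iff_inter_eq_empty, ← mset_and, he, mset_zero]⟩
    rw [e, List.toFinset_card_of_nodup, List.length_map]
    · decide +kernel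
    · refine List.Nodup.map_on (fun x hx y hy h => ?_) ((List.nodup_range.filter _).filter _)
      have hx' := List.mem_range.1 (List.mem_filter.1 (List.mem_filter.1 hx).1).1
      have hy' := List.mem_range.1 (List.mem_filter.1 (List.mem_filter.1 hy).1).1
      exact injOn_mset_enc hx' hy' h
  obtain ⟨g, hg, rfl⟩ := GolayM24.exists_smul_eq_of_octads GolayM24.octad_five_mem ho
  rw [← std, ← Finset.card_smul_finset g (octF.filter fun o' => Disjoint (mset 13062145) o')]
  congr 1
  ext s
  rw [Finset.mem_smul_finset, Finset.mem_filter, mem_octF]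
  constructor
  · rintro ⟨hs, hd⟩
    refine ⟨g⁻¹ • s, Finset.mem_filter.2 ⟨mem_octF.2 (smul_mem_octads (inv_mem hg) hs), ?_⟩,
      smul_inv_smul g s⟩
    rw [Finset.disjoint_iff_inter_eq_empty] at hd ⊢
    rw [← inv_smul_smul g (mset 13062145), ← Finset.smul_finset_inter, hd,
      Finset.smul_finset_empty]
  · rintro ⟨u, hu, rfl⟩
    rw [Finset.mem_filter, mem_octF] at hu
    refine ⟨smul_mem_octads hg hu.1, ?_⟩
    rw [Finset.disjoint_iff_inter_eq_empty, ← Finset.smul_finset_inter,
      Finset.disjoint_iff_inter_eq_empty.1 hu.2, Finset.smul_finset_empty]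

theorem ncard_trios_le : trios.ncard ≤ 3795 := by
  classical
  set S := (Set.toFinite trios).toFinset with hS
  have h1 : (S.sigma fun T => T.offDiag).card = 6 * S.card := by
    rw [Finset.card_sigma, Finset.sum_congr rfl (g := fun _ => 6), Finset.sum_const, smul_eq_mul,
      mul_comm]
    intro T hT
    rw [Finset.offDiag_card, ((Set.Finite.mem_toFinset _).1 hT).1]
  have h2 : (octF.sigma fun o => octF.filter fun o' => Disjoint o o').card = 22770 := by
    rw [Finset.card_sigma, Finset.sum_congr rfl (g := fun _ => 30)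
      (fun o ho => card_disjoint_octads (mem_octF.1 ho)), Finset.sum_const, card_octF, smul_eq_mul]
  have h3 : (S.sigma fun T => T.offDiag).card ≤
      (octF.sigma fun o => octF.filter fun o' => Disjoint o o').card := by
    refine Finset.card_le_card_of_injOn (fun x => ⟨x.2.1, x.2.2⟩) ?_ ?_
    · rintro ⟨T, a, b⟩ h
      rw [Finset.mem_coe, Finset.mem_sigma, Finset.mem_offDiag] at h
      obtain ⟨hT, ha, hb, hab⟩ := h
      obtain ⟨-, h2, h3⟩ := (Set.Finite.mem_toFinset _).1 hT
      simp only [Finset.mem_coe, Finset.mem_sigma, Finset.mem_filter, mem_octF]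
      exact ⟨h2 a ha, h2 b hb, h3 a ha b hb hab⟩
    · rintro ⟨T, a, b⟩ h ⟨T', a', b'⟩ h' e
      simp only [Finset.mem_coe, Finset.mem_sigma, Finset.mem_offDiag] at h h'
      simp only [Sigma.mk.injEq, heq_eq_eq] at e
      obtain ⟨rfl, rfl⟩ := e
      obtain ⟨hT, ha, hb, hab⟩ := h
      obtain ⟨hT', ha', hb', -⟩ := h'
      rw [trio_eq ((Set.Finite.mem_toFinset _).1 hT) ((Set.Finite.mem_toFinset _).1 hT') hab ha hb
        ha' hb']
  rw [Set.ncard_eq_toFinset_card trios (Set.toFinite trios), ← hS]
  omega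

/-- the sextet of a tetrad -/
noncomputable def sextetOf (t : Finset GolayPt) : Finset (Finset GolayPt) :=
  insert t ((octF.filter (t ⊆ ·)).image (· \ t))

theorem card_through_tetrad {t : Finset GolayPt} (ht : t.card = 4) :
    (octF.filter (t ⊆ ·)).card = 5 := by
  have h := AbstractGolay.blocks_through (α := GolayPt) (B := octF) (by decide +kernel)
    (by rw [coe_octF]; exact isSteinerSystem_octads) t (by omega)
  rw [ht] at h
  norm_num at h
  omega

theorem eq_sextetOf {S : Finset (Finset GolayPt)} (hS : S ∈ sextets) {t : Finset GolayPt}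
    (ht : t ∈ S) : S = sextetOf t := by
  obtain ⟨h1, h2, h3⟩ := hS
  refine Finset.eq_of_subset_of_card_le (fun u hu => ?_) ?_
  · by_cases hut : u = t
    · subst hut
      exact Finset.mem_insert_self _ _
    refine Finset.mem_insert_of_mem (Finset.mem_image.2 ⟨t ∪ u, ?_, ?_⟩)
    · exact Finset.mem_filter.2 ⟨mem_octF.2 (h3 t ht u hu (Ne.symm hut)), Finset.subset_union_left⟩
    · have hd : Disjoint t u := by
        rw [← Finset.card_union_eq_card_add_card, (h3 t ht u hu (Ne.symm hut)).2, h2 t ht, h2 u hu]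
      exact Finset.union_sdiff_cancel_left hd
  · refine (Finset.card_insert_le _ _).trans ?_
    have := Finset.card_image_le (s := octF.filter (t ⊆ ·)) (f := (· \ t))
    rw [card_through_tetrad (h2 t ht)] at this
    omega

theorem card_tetrads : (Finset.powersetCard 4 (Finset.univ : Finset GolayPt)).card = 10626 := by
  rw [Finset.card_powersetCard, Finset.card_univ,
    show Fintype.card GolayPt = 24 from by decide +kernel]
  decide

theorem ncard_sextets_le : sextets.ncard ≤ 1771 := by
  classical
  set S := (Set.toFinite sextets).toFinset with hS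
  have h1 : (S.sigma fun X => X).card = 6 * S.card := by
    rw [Finset.card_sigma, Finset.sum_congr rfl (g := fun _ => 6), Finset.sum_const, smul_eq_mul,
      mul_comm]
    exact fun T hT => ((Set.Finite.mem_toFinset _).1 hT).1
  have h2 : (S.sigma fun X => X).card ≤
      (Finset.powersetCard 4 (Finset.univ : Finset GolayPt)).card := by
    refine Finset.card_le_card_of_injOn (fun x => x.2) ?_ ?_
    · rintro ⟨X, t⟩ h
      rw [Finset.mem_coe, Finset.mem_sigma] at h
      exact Finset.mem_powersetCard.2 ⟨Finset.subset_univ _,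
        ((Set.Finite.mem_toFinset _).1 h.1).2.1 t h.2⟩
    · rintro ⟨X, t⟩ h ⟨X', t'⟩ h' (e : t = t')
      subst e
      simp only [Finset.mem_coe, Finset.mem_sigma] at h h'
      rw [eq_sextetOf ((Set.Finite.mem_toFinset _).1 h.1) h.2,
        eq_sextetOf ((Set.Finite.mem_toFinset _).1 h'.1) h'.2]
  rw [card_tetrads] at h2
  rw [Set.ncard_eq_toFinset_card sextets (Set.toFinite sextets), ← hS]
  omega

theorem existsUnique_sextet (hN : sextets.ncard = 1771) {t : Finset GolayPt} (ht : t.card = 4) :
    ∃! S : Finset (Finset GolayPt), S ∈ sextets ∧ t ∈ S := by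
  classical
  refine existsUnique_of_exists_of_unique ?_
    fun S S' h h' => (eq_sextetOf h.1 h.2).trans (eq_sextetOf h'.1 h'.2).symm
  set U := (Set.toFinite sextets).toFinset with hU
  rw [Set.ncard_eq_toFinset_card sextets (Set.toFinite sextets), ← hU] at hN
  have hd : ∀ X ∈ U, ∀ Y ∈ U, X ≠ Y → Disjoint (id X) (id Y) := fun X hX Y hY hne => by
    rw [Finset.disjoint_left]
    intro t h1 h2
    exact hne ((eq_sextetOf ((Set.Finite.mem_toFinset _).1 hX) h1).trans
      (eq_sextetOf ((Set.Finite.mem_toFinset _).1 hY) h2).symm)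
  have he : U.biUnion id = Finset.powersetCard 4 (Finset.univ : Finset GolayPt) := by
    refine Finset.eq_of_subset_of_card_le ?_ ?_
    · intro u hu
      obtain ⟨X, hX, huX⟩ := Finset.mem_biUnion.1 hu
      exact Finset.mem_powersetCard.2 ⟨Finset.subset_univ _,
        ((Set.Finite.mem_toFinset _).1 hX).2.1 u huX⟩
    · rw [Finset.card_biUnion hd, Finset.sum_congr rfl (g := fun _ => 6)
        (fun X hX => ((Set.Finite.mem_toFinset _).1 hX).1), Finset.sum_const, hN, card_tetrads]
      norm_num
  obtain ⟨X, hX, htX⟩ := Finset.mem_biUnion.1 (he.symm ▸ Finset.mem_powersetCard.2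
    ⟨Finset.subset_univ t, ht⟩ : t ∈ U.biUnion id)
  exact ⟨X, (Set.Finite.mem_toFinset _).1 hX, htX⟩

end Cfsg.Agent.GolayTrioSextet
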