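import Cfsg.Agent.Lib.GolayCount

/-!
The stabiliser of a trio acting on the seven sextets refining it and on its three octads.
-/

set_option autoImplicit false

namespace Cfsg.Agent.GolayTrioStab

open Cfsg Cfsg.Agent.GolayBasic Cfsg.Agent.GolayPerm Cfsg.Agent.GolayOrbit Cfsg.Agent.GolayOrbitData
  Cfsg.Agent.GolayTrioSextet Cfsg.Agent.GolayOrbitThms Cfsg.Agent.GolayCount
open scoped Pointwise

/-- the standard trio, coded -/
def tcode : List ℕ := [10558, 3704512, 13062145]

/-- the standard trio -/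
def trio0 : Finset (Finset GolayPt) := fam tcode

theorem trio0_mem : trio0 ∈ trios := trio_std

theorem exists_smul_trio0 {T : Finset (Finset GolayPt)} (hT : T ∈ trios) :
    ∃ a : ↥M24, a • trio0 = T := exists_smul_trio hT

/-- vectors of three binary digits -/
abbrev V : Type := Fin 3 → ZMod 2

/-- the sextets refining the standard trio, labelled by the non-zero vectors -/
def labs : List (List ℕ) :=
  [[], [46, 10512, 1573952, 2130560, 4526080, 8536065],
    [282, 10276, 524992, 3179520, 4587521, 8474624],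
    [308, 10250, 200705, 1050240, 2654272, 12861440],
    [2076, 8482, 344065, 558592, 3145920, 12718080],
    [2098, 8460, 1081920, 2622592, 4214785, 8847360],
    [2310, 8248, 33984, 3670528, 4407296, 8654849],
    [2344, 8214, 413696, 1605760, 2098752, 12648449]]

/-- the code of the object with a label -/
def codeOf (v : V) : List ℕ := labs.getD ((v 0).val + 2 * (v 1).val + 4 * (v 2).val) []

/-- the object with a label -/
def obj (v : V) : Finset (Finset GolayPt) := fam (codeOf v)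

theorem ok_code : ∀ v : V, ok (codeOf v) = true := by decide +kernel

theorem obj_injective : Function.Injective obj := by
  intro v w h
  have h' := fam_inj (ok_code v) (ok_code w) h
  exact (by decide +kernel : ∀ v w : V, codeOf v = codeOf w → v = w) v w h'

theorem obj_zero : obj 0 = ∅ := by
  show fam (codeOf 0) = ∅
  rw [show codeOf 0 = [] by decide +kernel, fam_nil]

/-- refining the standard trio -/
def Refines (X : Finset (Finset GolayPt)) : Prop := ∀ t ∈ X, ∃ o ∈ trio0, t ⊆ o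

theorem subset_iff {a b : ℕ} (ha : a < 2 ^ 24) : mset a ⊆ mset b ↔ a &&& b = a := by
  rw [← Finset.inter_eq_left, ← mset_and]
  exact ⟨fun h => mset_inj (lt_of_le_of_lt Nat.and_le_left ha) ha h, fun h => by rw [h]⟩

theorem range_obj : ∀ X, (X ∈ Set.range obj ↔ X = ∅ ∨ (X ∈ sextets ∧ Refines X)) := by
  have hchk : ∀ Y ∈ allOrbs sextetAllGens sextetAllParts,
      (Y.all fun t => tcode.any fun o => t &&& o == t) = true → Y ∈ labs := by decide +kernel
  have hlab : ∀ v : V, v ≠ 0 → sextetChk (codeOf v) = true ∧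
      ((codeOf v).all fun t => tcode.any fun o => t &&& o == t) = true := by decide +kernel
  intro X
  constructor
  · rintro ⟨v, rfl⟩
    by_cases hv : v = 0
    · exact Or.inl (hv ▸ obj_zero)
    obtain ⟨h1, h2⟩ := hlab v hv
    refine Or.inr ⟨sextet_of_chk h1, fun t ht => ?_⟩
    obtain ⟨m, hm, rfl⟩ := mem_fam.1 ht
    simp only [List.all_eq_true, List.any_eq_true, beq_iff_eq] at h2
    obtain ⟨o, ho, hmo⟩ := h2 m hm
    exact ⟨mset o, mem_fam.2 ⟨o, ho, rfl⟩, (subset_iff (ok_lt (ok_code v) hm)).2 hmo⟩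
  · rintro (rfl | ⟨hX, hR⟩)
    · exact ⟨0, obj_zero⟩
    obtain ⟨Y, hY, rfl⟩ := (sextets_listing.mem X).1 hX
    have hok := sextets_listing.ok Y hY
    have h2 : Y ∈ labs := hchk Y hY (by
      simp only [List.all_eq_true, List.any_eq_true, beq_iff_eq]
      intro m hm
      obtain ⟨o', ho', hsub⟩ := hR _ (mem_fam.2 ⟨m, hm, rfl⟩)
      obtain ⟨o, ho, rfl⟩ := mem_fam.1 ho'
      exact ⟨o, ho, (subset_iff (ok_lt hok hm)).1 hsub⟩)
    obtain ⟨v, hv⟩ := (by decide +kernel : ∀ Y ∈ labs, ∃ v : V, codeOf v = Y) Y h2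
    exact ⟨v, by rw [obj, hv]⟩

/-- the group -/
abbrev G : Subgroup ↥M24 := MulAction.stabilizer ↥M24 trio0

theorem refines_smul (g : G) {X : Finset (Finset GolayPt)} (h : Refines X) :
    Refines ((g : ↥M24) • X) := by
  intro t ht
  obtain ⟨s, hs, rfl⟩ := Finset.mem_smul_finset.1 ht
  obtain ⟨o, ho, hso⟩ := h s hs
  exact ⟨(g : ↥M24) • o, by
    rw [← MulAction.mem_stabilizer_iff.1 g.2]; exact Finset.smul_mem_smul_finset ho,
    Finset.smul_finset_subset_smul_finset hso⟩

theorem smul_obj_mem (g : G) (v : V) : (g : ↥M24) • obj v ∈ Set.range obj := by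
  rw [range_obj]
  rcases (range_obj _).1 ⟨v, rfl⟩ with h | ⟨h1, h2⟩
  · exact Or.inl (by rw [h, Finset.smul_finset_empty])
  · exact Or.inr ⟨sextets_inv _ _ h1, refines_smul g h2⟩

/-- the induced map on labels -/
noncomputable def act (g : G) (v : V) : V := Classical.choose (smul_obj_mem g v)

theorem obj_act (g : G) (v : V) : obj (act g v) = (g : ↥M24) • obj v :=
  Classical.choose_spec (smul_obj_mem g v)

theorem act_one (v : V) : act 1 v = v := obj_injective (by rw [obj_act]; exact one_smul _ _)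

theorem act_mul (g h : G) (v : V) : act (g * h) v = act g (act h v) :=
  obj_injective (by rw [obj_act, obj_act, obj_act]; exact mul_smul (g : ↥M24) (h : ↥M24) _)

theorem act_injective (g : G) : Function.Injective (act g) := fun v w h => by
  have := congrArg (act g⁻¹) h
  rwa [← act_mul, ← act_mul, inv_mul_cancel, act_one, act_one] at this

theorem act_zero (g : G) : act g 0 = 0 :=
  obj_injective (by rw [obj_act, obj_zero, Finset.smul_finset_empty])

/-- three sextets in a line -/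
def Coll (X Y Z : Finset (Finset GolayPt)) : Prop :=
  ∃ o ∈ trio0, ∃ t ∈ X, ∃ u ∈ Y, ∃ w ∈ Z, t ⊆ o ∧ u ⊆ o ∧ w ⊆ o ∧ symmDiff t u = w

theorem coll_smul (g : G) {X Y Z : Finset (Finset GolayPt)} (h : Coll X Y Z) :
    Coll ((g : ↥M24) • X) ((g : ↥M24) • Y) ((g : ↥M24) • Z) := by
  obtain ⟨o, ho, t, ht, u, hu, w, hw, h1, h2, h3, rfl⟩ := h
  refine ⟨(g : ↥M24) • o, ?_, _, Finset.smul_mem_smul_finset ht, _,
    Finset.smul_mem_smul_finset hu, _, Finset.smul_mem_smul_finset hw,
    Finset.smul_finset_subset_smul_finset h1, Finset.smul_finset_subset_smul_finset h2,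
    Finset.smul_finset_subset_smul_finset h3, (Finset.smul_finset_symmDiff ..).symm⟩
  rw [← MulAction.mem_stabilizer_iff.1 g.2]
  exact Finset.smul_mem_smul_finset ho

/-- collinearity on codes -/
def collB (a b c : List ℕ) : Bool :=
  tcode.any fun o => a.any fun t => b.any fun u => c.any fun w =>
    (t &&& o) == t && (u &&& o) == u && (w &&& o) == w && (t ^^^ u) == w

theorem coll_iff {a b c : List ℕ} (ha : ok a = true) (hb : ok b = true) (hc : ok c = true) :
    Coll (fam a) (fam b) (fam c) ↔ collB a b c = true := by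
  simp only [collB, List.any_eq_true, Bool.and_eq_true, beq_iff_eq]
  constructor
  · rintro ⟨o', ho', t', ht', u', hu', w', hw', h1, h2, h3, h4⟩
    obtain ⟨o, ho, rfl⟩ := mem_fam.1 ho'
    obtain ⟨t, ht, rfl⟩ := mem_fam.1 ht'
    obtain ⟨u, hu, rfl⟩ := mem_fam.1 hu'
    obtain ⟨w, hw, rfl⟩ := mem_fam.1 hw'
    rw [← mset_xor] at h4
    exact ⟨o, ho, t, ht, u, hu, w, hw, ⟨⟨(subset_iff (ok_lt ha ht)).1 h1,
      (subset_iff (ok_lt hb hu)).1 h2⟩, (subset_iff (ok_lt hc hw)).1 h3⟩,
      mset_inj (Nat.xor_lt_two_pow (ok_lt ha ht) (ok_lt hb hu)) (ok_lt hc hw) h4⟩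
  · rintro ⟨o, ho, t, ht, u, hu, w, hw, ⟨⟨h1, h2⟩, h3⟩, h4⟩
    exact ⟨mset o, mem_fam.2 ⟨o, ho, rfl⟩, _, mem_fam.2 ⟨t, ht, rfl⟩, _, mem_fam.2 ⟨u, hu, rfl⟩,
      _, mem_fam.2 ⟨w, hw, rfl⟩, (subset_iff (ok_lt ha ht)).2 h1, (subset_iff (ok_lt hb hu)).2 h2,
      (subset_iff (ok_lt hc hw)).2 h3, by rw [← mset_xor, h4]⟩

theorem coll_obj {x y : V} (z : V) (hx : x ≠ 0) (hy : y ≠ 0) (hxy : x ≠ y) :
    Coll (obj x) (obj y) (obj z) ↔ z = x + y := by
  rw [obj, obj, obj, coll_iff (ok_code x) (ok_code y) (ok_code z)]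
  have key : ∀ x y z : V, x ≠ 0 → y ≠ 0 → x ≠ y →
      collB (codeOf x) (codeOf y) (codeOf z) = decide (z = x + y) := by decide +kernel
  rw [key x y z hx hy hxy, decide_eq_true_iff]

theorem act_add (g : G) (x y : V) : act g (x + y) = act g x + act g y := by
  by_cases hx : x = 0
  · rw [hx, act_zero, zero_add, zero_add]
  by_cases hy : y = 0
  · rw [hy, act_zero, add_zero, add_zero]
  have hself : ∀ w : V, w + w = 0 := by decide +kernel
  by_cases hxy : x = y
  · rw [hxy, hself, hself, act_zero]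
  have h := coll_smul g ((coll_obj (x + y) hx hy hxy).2 rfl)
  rw [← obj_act, ← obj_act, ← obj_act] at h
  exact (coll_obj _ (fun e => hx (act_injective g (e.trans (act_zero g).symm)))
    (fun e => hy (act_injective g (e.trans (act_zero g).symm)))
    (fun e => hxy (act_injective g e))).1 h

/-- the action on labels as a linear map -/
noncomputable def toLin : G →* (V →ₗ[ZMod 2] V) where
  toFun g := (AddMonoidHom.mk' (act g) (act_add g)).toZModLinearMap 2
  map_one' := LinearMap.ext fun v => act_one v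
  map_mul' g h := LinearMap.ext fun v => act_mul g h v

/-- the action on labels as an invertible matrix -/
noncomputable def toGL : G →* GL (Fin 3) (ZMod 2) :=
  ((LinearMap.toMatrixAlgEquiv' (R := ZMod 2) (n := Fin 3)).toMonoidHom.comp toLin).toHomUnits

theorem smul_mem_trio0 (g : G) {o : Finset GolayPt} (ho : o ∈ trio0) :
    (g : ↥M24) • o ∈ trio0 := by
  rw [← MulAction.mem_stabilizer_iff.1 g.2]
  exact Finset.smul_mem_smul_finset ho

/-- the action on the three octads -/
noncomputable def toPermT : G →* Equiv.Perm ↥trio0 where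
  toFun g :=
    { toFun := fun o => ⟨(g : ↥M24) • o.1, smul_mem_trio0 g o.2⟩
      invFun := fun o => ⟨((g⁻¹ : G) : ↥M24) • o.1, smul_mem_trio0 g⁻¹ o.2⟩
      left_inv := fun o => Subtype.ext (by
        show ((g : ↥M24))⁻¹ • (g : ↥M24) • o.1 = o.1
        rw [inv_smul_smul])
      right_inv := fun o => Subtype.ext (by
        show (g : ↥M24) • ((g : ↥M24))⁻¹ • o.1 = o.1
        rw [smul_inv_smul]) }
  map_one' := Equiv.ext fun o => Subtype.ext (one_smul ↥M24 o.1)
  map_mul' g h := Equiv.ext fun o => Subtype.ext (mul_smul (g : ↥M24) (h : ↥M24) o.1)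

/-- both actions -/
noncomputable def both : G →* GL (Fin 3) (ZMod 2) × Equiv.Perm ↥trio0 := toGL.prod toPermT

theorem both_snd_apply (g : G) (o : ↥trio0) : ((both g).2 o).1 = (g : ↥M24) • o.1 := rfl

/-- elements fixing the octads and the refining sextets -/
theorem ker_fix {g : G} (hg : g ∈ both.ker) :
    (∀ o ∈ trio0, (g : ↥M24) • o = o) ∧ ∀ v, (g : ↥M24) • obj v = obj v := by
  rw [MonoidHom.mem_ker, both, MonoidHom.prod_apply, Prod.mk_eq_one] at hg
  refine ⟨fun o ho => (congrArg Subtype.val (DFunLike.congr_fun hg.2 (⟨o, ho⟩ : ↥trio0)) :), fun v => ?_⟩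
  have h1 : LinearMap.toMatrixAlgEquiv' (toLin g) = 1 := congrArg Units.val hg.1
  have h2 : toLin g = 1 :=
    (LinearMap.toMatrixAlgEquiv' (R := ZMod 2) (n := Fin 3)).injective (h1.trans (map_one _).symm)
  have h3 : act g v = v := DFunLike.congr_fun h2 v
  rw [← obj_act, h3]

/-- in which sextets two points share a tetrad -/
def share (v : V) (i j : ℕ) : Bool := (codeOf v).any fun t => t.testBit i && t.testBit j

theorem share_iff (v : V) (p q : GolayPt) :
    share v (idx p) (idx q) = true ↔ ∃ t ∈ obj v, p ∈ t ∧ q ∈ t := by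
  simp only [share, List.any_eq_true, Bool.and_eq_true, obj, mem_fam]
  exact ⟨fun ⟨t, ht, h1, h2⟩ => ⟨mset t, ⟨t, ht, rfl⟩, mem_mset.2 h1, mem_mset.2 h2⟩,
    fun ⟨_, ⟨t, ht, e⟩, h1, h2⟩ => ⟨t, ht, mem_mset.1 (e ▸ h1), mem_mset.1 (e ▸ h2)⟩⟩

theorem share_apply {g : G} (hg : g ∈ both.ker) (v : V) (p q : GolayPt) :
    share v (idx (((g : ↥M24) : Equiv.Perm GolayPt) p)) (idx (((g : ↥M24) : Equiv.Perm GolayPt) q)) =
      share v (idx p) (idx q) := by
  rw [Bool.eq_iff_iff, share_iff, share_iff]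
  constructor
  · rintro ⟨t, ht, h1, h2⟩
    rw [← (ker_fix hg).2 v, Finset.mem_smul_finset] at ht
    obtain ⟨s, hs, rfl⟩ := ht
    exact ⟨s, hs, (Finset.smul_mem_smul_finset_iff ((g : ↥M24) : Equiv.Perm GolayPt)).1 h1,
      (Finset.smul_mem_smul_finset_iff ((g : ↥M24) : Equiv.Perm GolayPt)).1 h2⟩
  · rintro ⟨t, ht, h1, h2⟩
    exact ⟨(g : ↥M24) • t, by rw [← (ker_fix hg).2 v]; exact Finset.smul_mem_smul_finset ht,
      Finset.smul_mem_smul_finset h1, Finset.smul_mem_smul_finset h2⟩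

theorem share_det : ∀ o ∈ tcode, ∀ a ∈ pts.filter (fun i => o.testBit i),
    ∀ q ∈ pts.filter (fun i => o.testBit i), ∀ r ∈ pts.filter (fun i => o.testBit i),
      (∀ v : V, share v a q = share v a r) → q = r := by decide +kernel

theorem det_of_share {o : ℕ} (ho : o ∈ tcode) {a q r : GolayPt} (ha : a ∈ mset o) (hq : q ∈ mset o)
    (hr : r ∈ mset o) (h : ∀ v : V, share v (idx a) (idx q) = share v (idx a) (idx r)) : q = r :=
  idx_inj (share_det o ho (idx a) (List.mem_filter.2 ⟨mem_pts.2 (idx_lt a), mem_mset.1 ha⟩)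
    (idx q) (List.mem_filter.2 ⟨mem_pts.2 (idx_lt q), mem_mset.1 hq⟩) (idx r)
    (List.mem_filter.2 ⟨mem_pts.2 (idx_lt r), mem_mset.1 hr⟩) h)

theorem ker_mem {g : G} (hg : g ∈ both.ker) {o : ℕ} (ho : o ∈ tcode) {p : GolayPt}
    (hp : p ∈ mset o) : ((g : ↥M24) : Equiv.Perm GolayPt) p ∈ mset o := by
  have h : (g : ↥M24) • mset o = mset o := (ker_fix hg).1 _ (mem_fam.2 ⟨o, ho, rfl⟩)
  rw [← h]
  exact Finset.smul_mem_smul_finset hp

theorem ker_agree {g h : G} (hg : g ∈ both.ker) (hh : h ∈ both.ker) {o : ℕ} (ho : o ∈ tcode)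
    {a : GolayPt} (ha : a ∈ mset o)
    (he : ((g : ↥M24) : Equiv.Perm GolayPt) a = ((h : ↥M24) : Equiv.Perm GolayPt) a)
    {p : GolayPt} (hp : p ∈ mset o) :
    ((g : ↥M24) : Equiv.Perm GolayPt) p = ((h : ↥M24) : Equiv.Perm GolayPt) p := by
  refine det_of_share ho (ker_mem hg ho ha) (ker_mem hg ho hp) (ker_mem hh ho hp) fun v => ?_
  rw [share_apply hg, he, share_apply hh]

theorem ker_ext {g h : G} (hg : g ∈ both.ker) (hh : h ∈ both.ker)
    (h23 : ((g : ↥M24) : Equiv.Perm GolayPt) (pt 23) = ((h : ↥M24) : Equiv.Perm GolayPt) (pt 23))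
    (h1 : ((g : ↥M24) : Equiv.Perm GolayPt) (pt 1) = ((h : ↥M24) : Equiv.Perm GolayPt) (pt 1)) :
    g = h := by
  have hm : ((g : ↥M24) : Equiv.Perm GolayPt)⁻¹ * ((h : ↥M24) : Equiv.Perm GolayPt) ∈
      fixList M24 [23, 0, 12, 14, 16, 17, 1] := by
    refine mem_fixList.2 ⟨mul_mem (inv_mem (g : ↥M24).2) (h : ↥M24).2, fun b hb => ?_⟩
    rw [Equiv.Perm.mul_apply, Equiv.Perm.inv_eq_iff_eq]
    by_cases hb1 : b = 1
    · rw [hb1, h1]
    · have hbo : pt b ∈ mset 13062145 :=
        (by decide +kernel : ∀ b ∈ [23, 0, 12, 14, 16, 17, 1], b ≠ 1 → pt b ∈ mset 13062145) b hb hb1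
      exact (ker_agree hg hh (o := 13062145) (by decide +kernel) (a := pt 23) (by decide +kernel) h23
        hbo).symm
  rw [GolayM24.fixList_base_eq_bot, Subgroup.mem_bot, inv_mul_eq_one] at hm
  exact Subtype.ext (Subtype.ext hm)

theorem card_ker_le : Nat.card both.ker ≤ 64 := by
  let F : both.ker → ↥(mset 13062145 ×ˢ mset 10558) := fun g =>
    ⟨((((g : G) : ↥M24) : Equiv.Perm GolayPt) (pt 23), (((g : G) : ↥M24) : Equiv.Perm GolayPt) (pt 1)),
      Finset.mem_product.2 ⟨ker_mem g.2 (by decide +kernel) (by decide +kernel),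
        ker_mem g.2 (by decide +kernel) (by decide +kernel)⟩⟩
  have hF : Function.Injective F := fun g h e => by
    have e' := Prod.mk.inj (congrArg Subtype.val e)
    exact Subtype.ext (ker_ext g.2 h.2 e'.1 e'.2)
  refine (Nat.card_le_card_of_injective F hF).trans_eq ?_
  rw [Nat.card_eq_finsetCard, Finset.card_product, card_mset, card_mset]
  decide +kernel

theorem ker_sq {g : G} (hg : g ∈ both.ker) : g * g = 1 := by
  have key : ∀ o ∈ tcode, ∀ a : GolayPt, a ∈ mset o →
      ((g : ↥M24) : Equiv.Perm GolayPt) (((g : ↥M24) : Equiv.Perm GolayPt) a) = a := by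
    intro o ho a ha
    refine det_of_share ho (ker_mem hg ho ha) (ker_mem hg ho (ker_mem hg ho ha)) ha fun v => ?_
    rw [share_apply hg, Bool.eq_iff_iff, share_iff, share_iff]
    exact ⟨fun ⟨t, ht, x, y⟩ => ⟨t, ht, y, x⟩, fun ⟨t, ht, x, y⟩ => ⟨t, ht, y, x⟩⟩
  refine ker_ext (mul_mem hg hg) (one_mem _) ?_ ?_
  · exact key 13062145 (by decide +kernel) _ (by decide +kernel)
  · exact key 10558 (by decide +kernel) _ (by decide +kernel)

theorem card_G : Nat.card G = 64512 :=
  card_stab_trans trios_inv trio0_mem (fun X hX => exists_smul_trio hX) ncard_trios (by norm_num)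
    (by norm_num)

theorem card_target : Nat.card (GL (Fin 3) (ZMod 2) × Equiv.Perm ↥trio0) = 1008 := by
  rw [Nat.card_prod, Matrix.card_GL_field, Nat.card_perm, Nat.card_eq_finsetCard, trio0_mem.1]
  simp [Fin.prod_univ_three, ZMod.card, Nat.factorial]

theorem card_ker_surjective : Nat.card both.ker = 64 ∧ Function.Surjective both := by
  have hmul := Subgroup.card_mul_index both.ker
  rw [Subgroup.index_ker, card_G] at hmul
  have hle := card_ker_le
  have hr := both.range.card_le_card_group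
  rw [card_target] at hr
  have hk : Nat.card both.ker = 64 := by
    have : Nat.card both.ker * Nat.card both.range ≤ Nat.card both.ker * 1008 :=
      Nat.mul_le_mul_left _ hr
    omega
  refine ⟨hk, MonoidHom.range_eq_top.1 (Subgroup.eq_top_of_card_eq _ ?_)⟩
  rw [hk] at hmul
  rw [card_target]
  omega

end Cfsg.Agent.GolayTrioStab
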