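import Cfsg.Agent.Lib.GolaySimple
import Cfsg.Agent.Lib.GolayClasses
import Cfsg.Agent.Lib.GolayM22Index
import Cfsg.Agent.Lib.GolayTripleData

/-!
Generation of the Mathieu group on 23 points by triples: a generation criterion from element
orders, and the rank inequality for triples with product one.
-/

set_option autoImplicit false

namespace Cfsg.Agent.GolayTripleGen

open Cfsg Cfsg.Agent.GolayBasic Cfsg.Agent.GolayPerm Cfsg.Agent.GolaySearch Cfsg.Agent.GolayTripleData
open scoped Pointwise

/-! ### normalisers of Sylow subgroups of prime order in subgroups -/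

theorem sylow_sub {G : Type*} [Group G] [Finite G] {p m q : ℕ} (hp : p.Prime) (hm : ¬ p ∣ m)
    (hG : Nat.card G = p * m) {P₀ : Subgroup G} (hP₀ : Nat.card P₀ = p)
    (hN₀ : Nat.card (Subgroup.normalizer (P₀ : Set G)) = p * q) (K : Subgroup G)
    (hK : p ∣ Nat.card K) :
    ∃ e, e ∣ q ∧ p * e ∣ Nat.card K ∧ (Nat.card K / (p * e)) % p = 1 := by
  have : Fact p.Prime := ⟨hp⟩
  have hfac : (Nat.card G).factorization p = 1 := by
    have hm0 : m ≠ 0 := fun h => hm (h ▸ dvd_zero p)
    rw [hG, Nat.factorization_mul hp.ne_zero hm0, Finsupp.add_apply, hp.factorization_self,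
      Nat.factorization_eq_zero_of_not_dvd hm, add_zero]
  let S0 : Sylow p G := Sylow.ofCard P₀ (by rw [hP₀, hfac, pow_one])
  have hS0 : (S0 : Subgroup G) = P₀ := Sylow.coe_ofCard P₀ _
  have hidx : (Subgroup.normalizer (P₀ : Set G)).index = Nat.card (Sylow p G) := by
    rw [Sylow.card_eq_index_normalizer S0]
    congr 2
  obtain ⟨k, hk⟩ := exists_prime_orderOf_dvd_card' (G := K) p hK
  set P : Subgroup K := Subgroup.zpowers k
  have hP : Nat.card P = p := by rw [Nat.card_zpowers, hk]
  have hPG : Nat.card (P.map K.subtype) = p := by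
    rw [Subgroup.card_map_of_injective K.subtype_injective, hP]
  let S1 : Sylow p G := Sylow.ofCard (P.map K.subtype) (by rw [hPG, hfac, pow_one])
  have hS1 : (S1 : Subgroup G) = P.map K.subtype := Sylow.coe_ofCard _ _
  have hN1 : Nat.card (Subgroup.normalizer ((P.map K.subtype : Subgroup G) : Set G)) = p * q := by
    have h1 : (Subgroup.normalizer ((P.map K.subtype : Subgroup G) : Set G)).index =
        Nat.card (Sylow p G) := by
      rw [Sylow.card_eq_index_normalizer S1]
      congr 2
    have h2 := Subgroup.card_mul_index (Subgroup.normalizer ((P.map K.subtype : Subgroup G) : Set G))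
    have h3 := Subgroup.card_mul_index (Subgroup.normalizer (P₀ : Set G))
    rw [h1] at h2
    rw [hidx, hN₀] at h3
    have hpos : 0 < Nat.card (Sylow p G) := Nat.card_pos
    exact Nat.eq_of_mul_eq_mul_right hpos (h2.trans h3.symm)
  set N := Subgroup.normalizer (P : Set K)
  have hpN : p ∣ Nat.card N := hP ▸ Subgroup.card_dvd_of_le Subgroup.le_normalizer
  obtain ⟨e, he⟩ := hpN
  have hmap : N.map K.subtype ≤ Subgroup.normalizer ((P.map K.subtype : Subgroup G) : Set G) :=
    Subgroup.le_normalizer_map K.subtype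
  have hdvd : p * e ∣ p * q := by
    rw [← he, ← hN1, ← Subgroup.card_map_of_injective K.subtype_injective (K := N)]
    exact Subgroup.card_dvd_of_le hmap
  refine ⟨e, (Nat.mul_dvd_mul_iff_left hp.pos).1 hdvd, he ▸ Subgroup.card_subgroup_dvd_card N, ?_⟩
  have hKfac : (Nat.card K).factorization p = 1 := by
    refine le_antisymm ?_ ?_
    · rw [← hfac]
      exact (Nat.factorization_le_iff_dvd Nat.card_pos.ne' Nat.card_pos.ne').2
        (Subgroup.card_subgroup_dvd_card K) p
    · exact (hp.dvd_iff_one_le_factorization Nat.card_pos.ne').1 hK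
  let S : Sylow p K := Sylow.ofCard P (by rw [hP, hKfac, pow_one])
  have hS : (S : Subgroup K) = P := Sylow.coe_ofCard P _
  have hmod := card_sylow_modEq_one p K
  rw [Sylow.card_eq_index_normalizer S, show Subgroup.normalizer (S : Set K) = N by
    congr 1] at hmod
  rw [show Nat.card K / (p * e) = N.index by
    rw [← Subgroup.card_mul_index N, he, Nat.mul_div_cancel_left]
    rw [← he]; exact Nat.card_pos]
  rwa [Nat.ModEq, Nat.mod_eq_of_lt hp.one_lt] at hmod

theorem mem_M23 {g : Equiv.Perm GolayPt} : g ∈ Spor.M23 ↔ g ∈ M24 ∧ g (pt 23) = pt 23 := by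
  rw [GolayM24.M23_eq, mem_fixList]
  simp

theorem normalizer23 : ∃ P : Subgroup Spor.M23, Nat.card P = 23 ∧
    Nat.card (Subgroup.normalizer (P : Set Spor.M23)) = 23 * 11 := by
  have hfixS : ∀ g ∈ Spor.M23, g ∈ M24 ∧ g (pt 23) = pt 23 := fun g hg => mem_M23.1 hg
  exact ⟨_, GolaySimple.card_normalizer_eq (H := Spor.M23) (p := 23) (m := 443520) (q := 11) (B := 11)
    (by norm_num) (by decide +kernel) (by norm_num) GolaySimple.table23' GolaySimple.z23_mem_M23
    (by rw [GolayM24.card_M23]) (by norm_num) (fun S hS hz hn => by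
      have hreps : ∀ i < 23, ∃ e < 23, pimg (GolaySimple.zs23.getD e 0) i ∈ [0] := by decide +kernel
      refine GolayNormalizer.card_normalizer_le (by norm_num) (by norm_num) (by norm_num)
        GolaySimple.table23' [0] [23] GolaySimple.accepted23 S (fun g hg => (hfixS g (hS hg)).1) hz
        ?_ (fun g hg => ?_) (fun g hg => ?_) hn
      · intro g hg i hi hloc
        have : i = 23 := (by decide +kernel :
          ∀ i < 24, (GolaySimple.loc23.getD i (2, 0)).1 = 2 → i = 23) i hi hloc
        subst this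
        exact GolaySimple.idx_eq_of_apply hi (hfixS g (hS hg)).2
      · have hlt : idx (g (pt 0)) < 23 := by
          have := GolaySimple.M23_invariant g (hS hg) (pt 0) (by decide +kernel)
          exact (by decide +kernel : ∀ q : GolayPt, q ∈ mset 8388607 → idx q < 23) _ this
        obtain ⟨e, he, h⟩ := hreps _ hlt
        exact ⟨e, he, by rw [Equiv.Perm.mul_apply, GolayNormalizer.idx_pow GolaySimple.table23' _ e he]; exact h⟩
      · rw [(hfixS g (hS hg)).2, idx_pt (by norm_num)]
        simp)
    (by decide)⟩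

theorem arith_small : ∀ a ∈ Nat.divisors 128, ∀ b ∈ Nat.divisors 45,
    (∃ e ∈ [1, 11], e ∣ 77 * (a * b) ∧ (77 * (a * b) / e) % 23 = 1) →
    (∃ d ∈ [11, 55], d ∣ 77 * (a * b) ∧ (77 * (a * b) / d) % 11 = 1) →
    77 * (a * b) = 443520 := by
  decide +kernel

theorem arith {c : ℕ} (h : c ∣ 443520) (h11 : 11 ∣ c) (h7 : 7 ∣ c)
    (he : ∃ e ∈ [1, 11], e ∣ c ∧ (c / e) % 23 = 1)
    (hd : ∃ d ∈ [11, 55], d ∣ c ∧ (c / d) % 11 = 1) : c = 443520 := by
  obtain ⟨k, rfl⟩ : 77 ∣ c := (by norm_num : Nat.Coprime 11 7).mul_dvd_of_dvd_of_dvd h11 h7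
  have hk : k ∣ 128 * 45 := (Nat.mul_dvd_mul_iff_left (by norm_num : 0 < 77)).1 h
  obtain ⟨a, b, ha, hb, rfl⟩ := (Nat.dvd_mul).1 hk
  exact arith_small a (Nat.mem_divisors.2 ⟨ha, by norm_num⟩) b
    (Nat.mem_divisors.2 ⟨hb, by norm_num⟩) he hd

/-- orbit of a point under an element of order 23 -/
theorem moves_zero {g : Equiv.Perm GolayPt} (hg : g (pt 23) = pt 23) (h23 : orderOf g = 23) :
    g (pt 0) ≠ pt 0 := by
  intro h0
  have : Fact (Nat.Prime 23) := ⟨by norm_num⟩
  have hmod := Equiv.Perm.card_fixedPoints_modEq (f := (g : GolayPt → GolayPt)) (p := 23) (n := 1)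
    (by
      rw [pow_one]
      have e : g ^ 23 = 1 := h23 ▸ pow_orderOf_eq_one g
      have : ((g ^ 23 : Equiv.Perm GolayPt) : GolayPt → GolayPt) = ((1 : Equiv.Perm GolayPt) : GolayPt → GolayPt) := by
        rw [e]
      exact (Equiv.Perm.coe_pow g 23).symm.trans this)
  rw [show Fintype.card GolayPt = 24 from by decide +kernel] at hmod
  have h2 : 2 ≤ Fintype.card (Function.fixedPoints (g : GolayPt → GolayPt)) :=
    Fintype.one_lt_card_iff.2 ⟨⟨pt 23, hg⟩, ⟨pt 0, h0⟩, fun e =>
      (by decide +kernel : pt 23 ≠ pt 0) (congrArg Subtype.val e)⟩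
  have hle : Fintype.card (Function.fixedPoints (g : GolayPt → GolayPt)) < 24 := by
    rw [← show Fintype.card GolayPt = 24 from by decide +kernel]
    refine Fintype.card_subtype_lt (p := fun x => x ∈ Function.fixedPoints (g : GolayPt → GolayPt))
      (x := ?_) ?_
    · exact (Classical.byContradiction fun hc => by
        push Not at hc
        have : g = 1 := Equiv.ext fun x => hc x
        rw [this, orderOf_one] at h23
        omega : ∃ x, g x ≠ x).choose
    · exact (Classical.byContradiction fun hc => by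
        push Not at hc
        have : g = 1 := Equiv.ext fun x => hc x
        rw [this, orderOf_one] at h23
        omega : ∃ x, g x ≠ x).choose_spec
  unfold Nat.ModEq at hmod
  omega

/-- elements of orders 23, 11 and 7 generate -/
theorem eq_top_of_orders (H : Subgroup Spor.M23) {a b c : Spor.M23} (ha : a ∈ H) (hb : b ∈ H)
    (hc : c ∈ H) (oa : orderOf a = 23) (ob : orderOf b = 11) (oc : orderOf c = 7) : H = ⊤ := by
  set K := H.map Spor.M23.subtype with hK
  have hKle : K ≤ Spor.M23 := Subgroup.map_subtype_le H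
  have hcard : Nat.card K = Nat.card H := Subgroup.card_map_of_injective Spor.M23.subtype_injective
  have haK : (a : Equiv.Perm GolayPt) ∈ K := Subgroup.mem_map_of_mem _ ha
  have oa' : orderOf (a : Equiv.Perm GolayPt) = 23 := by rw [Subgroup.orderOf_coe, oa]
  set L := K ⊓ MulAction.stabilizer (Equiv.Perm GolayPt) (pt 0) with hL
  -- the orbit of the point 0
  obtain ⟨ha1, ha2⟩ := mem_M23.1 (hKle haK)
  have hOc : ((Finset.univ : Finset GolayPt).erase (pt 23)).card = 23 := by
    rw [Finset.card_erase_of_mem (Finset.mem_univ _), Finset.card_univ,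
      show Fintype.card GolayPt = 24 from by decide +kernel]
  have hinj : Set.InjOn (fun i : ℕ => ((a : Equiv.Perm GolayPt) ^ i) (pt 0)) (Finset.range 23) := by
    suffices key : ∀ i j : ℕ, i < j → j < 23 →
        ((a : Equiv.Perm GolayPt) ^ i) (pt 0) ≠ ((a : Equiv.Perm GolayPt) ^ j) (pt 0) by
      intro i hi j hj e
      simp only [Finset.coe_range, Set.mem_Iio] at hi hj
      rcases lt_trichotomy i j with h | h | h
      · exact absurd e (key i j h hj)
      · exact h
      · exact absurd e.symm (key j i h hi)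
    intro i j hlt hj e
    have h1 : ((a : Equiv.Perm GolayPt) ^ (j - i)) (pt 0) = pt 0 := by
      refine ((a : Equiv.Perm GolayPt) ^ i).injective ?_
      rw [← Equiv.Perm.mul_apply, ← pow_add, show i + (j - i) = j by omega]
      exact e.symm
    refine moves_zero ha2 oa' ?_
    have hg' : (a : Equiv.Perm GolayPt) ∈ Subgroup.zpowers ((a : Equiv.Perm GolayPt) ^ (j - i)) := by
      apply mem_zpowers_pow_iff.2
      rw [oa']
      show Nat.Coprime (j - i) 23
      rw [Nat.coprime_comm]
      exact (Nat.Prime.coprime_iff_not_dvd (by norm_num)).2 fun hd => by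
        have := Nat.le_of_dvd (by omega) hd
        omega
    obtain ⟨n, hn⟩ := Subgroup.mem_zpowers_iff.1 hg'
    rw [← hn]
    exact Function.IsFixedPt.perm_zpow
      (show Function.IsFixedPt ((a : Equiv.Perm GolayPt) ^ (j - i)) (pt 0) from h1) n
  have hnotO : ∀ g ∈ K, g (pt 0) ∈ (Finset.univ : Finset GolayPt).erase (pt 23) := by
    intro g hg
    refine Finset.mem_erase.2 ⟨fun e => ?_, Finset.mem_univ _⟩
    rw [← (mem_M23.1 (hKle hg)).2] at e
    exact (by decide +kernel : pt 0 ≠ pt 23) (g.injective e)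
  have himg : (Finset.range 23).image (fun i => ((a : Equiv.Perm GolayPt) ^ i) (pt 0)) =
      (Finset.univ : Finset GolayPt).erase (pt 23) := by
    refine Finset.eq_of_subset_of_card_le ?_ ?_
    · intro y hy
      obtain ⟨i, -, rfl⟩ := Finset.mem_image.1 hy
      exact hnotO _ (pow_mem haK i)
    · rw [hOc, Finset.card_image_of_injOn hinj, Finset.card_range]
  have h23 : Nat.card K = 23 * Nat.card L := by
    rw [card_eq_card_mul K (pt 0) _ hnotO (fun y hy => by
      rw [← himg] at hy
      obtain ⟨i, -, rfl⟩ := Finset.mem_image.1 hy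
      exact ⟨_, pow_mem haK i, rfl⟩), hOc]
  have hLle : L ≤ Spor.M22 := by
    intro g hg
    obtain ⟨h1, h2⟩ := Subgroup.mem_inf.1 hg
    obtain ⟨h3, h4⟩ := mem_M23.1 (hKle h1)
    rw [GolayM24.M22_eq, mem_fixList]
    refine ⟨h3, fun i hi => ?_⟩
    simp only [List.mem_cons, List.not_mem_nil, or_false] at hi
    rcases hi with rfl | rfl
    · exact h4
    · exact MulAction.mem_stabilizer_iff.1 h2
  have hLdvd : Nat.card L ∣ 443520 := GolayM24.card_M22 ▸ Subgroup.card_dvd_of_le hLle
  have hdiv : ∀ {g : Spor.M23}, g ∈ H → ∀ {p : ℕ}, p.Prime → p ≠ 23 → orderOf g = p → p ∣ Nat.card L := by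
    intro g hg p hp hp23 ho
    have h1 : p ∣ 23 * Nat.card L := by
      rw [← h23, hcard, ← ho]
      exact Subgroup.orderOf_dvd_natCard H hg
    exact (hp.dvd_mul.1 h1).resolve_left fun h =>
      hp23 ((Nat.prime_dvd_prime_iff_eq hp (by norm_num)).1 h)
  have h11 := hdiv hb (by norm_num) (by norm_num) ob
  have h7 := hdiv hc (by norm_num) (by norm_num) oc
  obtain ⟨P, hP, hN⟩ := normalizer23
  obtain ⟨e, he, hed, hem⟩ := sylow_sub (G := Spor.M23) (m := 443520) (by norm_num) (by norm_num)
    (by rw [GolayM24.card_M23]) hP hN H (oa ▸ Subgroup.orderOf_dvd_natCard H ha)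
  obtain ⟨hP', hN'⟩ := GolayM22Index.card_normalizer
  obtain ⟨d, hd, hdd, hdm⟩ := sylow_sub (G := Spor.M22) (m := 40320) (by norm_num) (by norm_num)
    (by rw [GolayM24.card_M22]) hP' hN' (L.subgroupOf Spor.M22)
    (by rw [Nat.card_congr (Subgroup.subgroupOfEquivOfLe hLle).toEquiv]; exact h11)
  rw [Nat.card_congr (Subgroup.subgroupOfEquivOfLe hLle).toEquiv] at hdd hdm
  rw [← hcard, h23] at hed hem
  have hc' : Nat.card L = 443520 := by
    refine arith hLdvd h11 h7 ⟨e, ?_, ?_, ?_⟩ ?_
    · rcases (Nat.dvd_prime (by norm_num)).1 he with h | h <;> simp [h]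
    · exact (Nat.mul_dvd_mul_iff_left (by norm_num)).1 hed
    · rwa [Nat.mul_div_mul_left _ _ (by norm_num)] at hem
    · rcases (Nat.dvd_prime (by norm_num : Nat.Prime 5)).1 hd with h | h
      · exact ⟨11, by simp, by simpa [h] using hdd, by simpa [h] using hdm⟩
      · exact ⟨55, by simp, by simpa [h] using hdd, by simpa [h] using hdm⟩
  refine Subgroup.eq_top_of_card_eq H ?_
  rw [← hcard, h23, hc', GolayM24.card_M23]

/-! ### certified witnesses -/

/-- a word in the two generators -/
def word2 (x y : ℕ) (l : List ℕ) : List ℕ := l.map fun b => if b == 0 then x else y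

/-- order of a word is the given prime -/
noncomputable def ordIs (n : ℕ) (w : List ℕ) : Bool := GolayClasses.ordChk n w

/-- the test of one witness -/
noncomputable def witChk (e : (ℕ × ℕ × ℕ) × (ℕ × ℕ) × (List ℕ × List ℕ × List ℕ)) : Bool :=
  good e.2.1.1 && pimg e.2.1.1 23 == 23 && (good e.2.1.2 && pimg e.2.1.2 23 == 23) &&
    ordIs e.1.1 [e.2.1.1] && ordIs e.1.2.1 [e.2.1.2] && ordIs e.1.2.2 [e.2.1.1, e.2.1.2] &&
    ordIs 23 (word2 e.2.1.1 e.2.1.2 e.2.2.1) && ordIs 11 (word2 e.2.1.1 e.2.1.2 e.2.2.2.1) &&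
    ordIs 7 (word2 e.2.1.1 e.2.1.2 e.2.2.2.2)

theorem witnesses_check : witnesses.all witChk = true := by decide +kernel

theorem orderOf_of_ordIs {n : ℕ} (hn : n.Prime) {w : List ℕ} (hw : ∀ P ∈ w, good P = true)
    (h : ordIs n w = true) : orderOf (wperm w) = n := by
  have : Fact n.Prime := ⟨hn⟩
  simp only [ordIs, GolayClasses.ordChk, Bool.and_eq_true, Bool.not_eq_true', List.all_eq_true,
    beq_iff_eq, Bool.eq_false_iff, ne_eq, mem_pts] at h
  rw [orderOf_eq_prime_iff]
  refine ⟨eq_of_num fun i hi => ?_, fun e => h.2 fun i hi => ?_⟩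
  · rw [(GolayClasses.num_pow_wperm hw n hi).2, h.1 i hi, GolayClasses.num_one hi]
  · obtain ⟨h1, h2⟩ := wperm_apply hw hi
    rw [e, Equiv.Perm.one_apply] at h2
    rw [← idx_pt h1, ← h2, idx_pt hi]

theorem exists_generating {e : (ℕ × ℕ × ℕ) × (ℕ × ℕ) × (List ℕ × List ℕ × List ℕ)}
    (he : e ∈ witnesses) (hp : e.1.1.Prime) (hq : e.1.2.1.Prime) (hr : e.1.2.2.Prime) :
    ∃ x y z : Spor.M23, orderOf x = e.1.1 ∧ orderOf y = e.1.2.1 ∧ orderOf z = e.1.2.2 ∧
      x * y * z = 1 ∧ Subgroup.closure {x, y} = ⊤ := by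
  obtain ⟨⟨p, q, r⟩, ⟨X, Y⟩, ⟨wa, wb, wc⟩⟩ := e
  have h := List.all_eq_true.1 witnesses_check _ he
  simp only [witChk, Bool.and_eq_true, beq_iff_eq] at h
  obtain ⟨⟨⟨⟨⟨⟨⟨⟨gX, fX⟩, gY, fY⟩, oX⟩, oY⟩, oZ⟩, oa⟩, ob⟩, oc⟩ := h
  have hmem : ∀ P, good P = true → pimg P 23 = 23 → permOf P ∈ Spor.M23 := fun P hg hf =>
    mem_M23.2 ⟨permOf_mem_M24 hg, by
      rw [permOf_apply (valid_of_good hg), pfun, idx_pt (by norm_num), hf]⟩
  set x : Spor.M23 := ⟨permOf X, hmem X gX fX⟩
  set y : Spor.M23 := ⟨permOf Y, hmem Y gY fY⟩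
  have hword : ∀ (l : List ℕ), ∃ u ∈ Subgroup.closure ({x, y} : Set Spor.M23),
      (u : Equiv.Perm GolayPt) = wperm (word2 X Y l) := by
    intro l
    induction l with
    | nil => exact ⟨1, one_mem _, rfl⟩
    | cons b l ih =>
      obtain ⟨u, hu, hue⟩ := ih
      refine ⟨(if b == 0 then x else y) * u, mul_mem (Subgroup.subset_closure ?_) hu, ?_⟩
      · split <;> simp
      · show ((if b == 0 then x else y : Spor.M23) : Equiv.Perm GolayPt) * u =
          permOf (if b == 0 then X else Y) * wperm (word2 X Y l)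
        rw [hue]
        split <;> rfl
  have hgood : ∀ l : List ℕ, ∀ P ∈ word2 X Y l, good P = true := by
    intro l P hP
    obtain ⟨b, -, rfl⟩ := List.mem_map.1 hP
    split
    · exact gX
    · exact gY
  have hord : ∀ (n : ℕ) (l : List ℕ), n.Prime → ordIs n (word2 X Y l) = true →
      ∃ u ∈ Subgroup.closure ({x, y} : Set Spor.M23), orderOf u = n := by
    intro n l hn hl
    obtain ⟨u, hu, hue⟩ := hword l
    exact ⟨u, hu, by rw [← Subgroup.orderOf_coe, hue]; exact orderOf_of_ordIs hn (hgood l) hl⟩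
  refine ⟨x, y, (x * y)⁻¹, ?_, ?_, ?_, mul_inv_cancel _, ?_⟩
  · rw [← Subgroup.orderOf_coe, show (x : Equiv.Perm GolayPt) = wperm [X] by simp [x, wperm]]
    exact orderOf_of_ordIs hp (by simpa using gX) oX
  · rw [← Subgroup.orderOf_coe, show (y : Equiv.Perm GolayPt) = wperm [Y] by simp [y, wperm]]
    exact orderOf_of_ordIs hq (by simpa using gY) oY
  · rw [orderOf_inv, ← Subgroup.orderOf_coe, Subgroup.coe_mul,
      show (x : Equiv.Perm GolayPt) * y = wperm [X, Y] by simp [x, y, wperm]]
    exact orderOf_of_ordIs hr (by simpa using ⟨gX, gY⟩) oZ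
  · obtain ⟨a, ha, oa'⟩ := hord 23 wa (by norm_num) oa
    obtain ⟨b, hb, ob'⟩ := hord 11 wb (by norm_num) ob
    obtain ⟨c, hc, oc'⟩ := hord 7 wc (by norm_num) oc
    exact eq_top_of_orders _ ha hb hc oa' ob' oc'

/-! ### the rank inequality -/

/-- the permutation action on functions -/
noncomputable def act (g : Equiv.Perm GolayPt) : (GolayPt → ℚ) →ₗ[ℚ] (GolayPt → ℚ) :=
  LinearMap.funLeft ℚ ℚ ⇑(g⁻¹)

theorem act_mul (g h : Equiv.Perm GolayPt) : act (g * h) = act g ∘ₗ act h := by
  ext v p; simp [act, LinearMap.funLeft_apply]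

theorem act_one : act 1 = LinearMap.id := by
  ext v p; simp [act, LinearMap.funLeft_apply]

/-- displacement -/
noncomputable def disp (g : Equiv.Perm GolayPt) : (GolayPt → ℚ) →ₗ[ℚ] (GolayPt → ℚ) :=
  act g - LinearMap.id

theorem act_single (g : Equiv.Perm GolayPt) (p : GolayPt) :
    act g (Pi.single p 1) = Pi.single (g p) 1 := by
  ext q
  simp only [act, LinearMap.funLeft_apply, Pi.single_apply, Equiv.Perm.inv_def, Equiv.symm_apply_eq]

/-- Scott's inequality for the permutation module -/
theorem rank_sum {x y z : Equiv.Perm GolayPt} (hxyz : x * y * z = 1)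
    (htr : ∀ p : GolayPt, p ≠ pt 23 → ∃ g ∈ Subgroup.closure {x, y}, g (pt 0) = p) :
    44 ≤ Module.finrank ℚ (LinearMap.range (disp x)) + Module.finrank ℚ (LinearMap.range (disp y)) +
      Module.finrank ℚ (LinearMap.range (disp z)) := by
  set A := LinearMap.range (disp x)
  set B := LinearMap.range (disp y)
  set C := LinearMap.range (disp z)
  let β : (GolayPt → ℚ) →ₗ[ℚ] A × B × C :=
    (disp x).rangeRestrict.prod ((disp y).rangeRestrict.prod (disp z).rangeRestrict)
  let γ : A × B × C →ₗ[ℚ] (GolayPt → ℚ) :=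
    A.subtype.coprod ((act x ∘ₗ B.subtype).coprod (act x ∘ₗ act y ∘ₗ C.subtype))
  have hγβ : LinearMap.range β ≤ LinearMap.ker γ := by
    rintro _ ⟨v, rfl⟩
    rw [LinearMap.mem_ker]
    show disp x v + (act x (disp y v) + act x (act y (disp z v))) = 0
    have e : act x (act y (act z v)) = v := by
      have : act ((x * y) * z) v = v := by rw [hxyz, act_one]; rfl
      rwa [act_mul, act_mul] at this
    simp only [disp, LinearMap.sub_apply, LinearMap.id_apply, map_sub, e]
    abel
  have hker : Module.finrank ℚ (LinearMap.ker β) ≤ 2 := by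
    let ev : LinearMap.ker β →ₗ[ℚ] ℚ × ℚ :=
      ((LinearMap.proj (pt 23)).prod (LinearMap.proj (pt 0))).comp (LinearMap.ker β).subtype
    have hev : Function.Injective ev := by
      rw [injective_iff_map_eq_zero]
      rintro ⟨v, hv⟩ h
      have h1 : v (pt 23) = 0 := congrArg Prod.fst h
      have h2 : v (pt 0) = 0 := congrArg Prod.snd h
      rw [LinearMap.mem_ker] at hv
      have hx : disp x v = 0 := congrArg (fun w : A × B × C => (w.1 : GolayPt → ℚ)) hv
      have hy : disp y v = 0 := congrArg (fun w : A × B × C => (w.2.1 : GolayPt → ℚ)) hv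
      have hinv : ∀ g ∈ Subgroup.closure {x, y}, act g v = v := by
        intro g hg
        induction hg using Subgroup.closure_induction with
        | mem g hg =>
          rcases hg with rfl | rfl
          · exact sub_eq_zero.1 hx
          · exact sub_eq_zero.1 hy
        | one => rw [act_one]; rfl
        | mul g h _ _ ihg ihh => rw [act_mul, LinearMap.comp_apply, ihh, ihg]
        | inv g _ ih =>
          conv_lhs => rw [← ih, ← LinearMap.comp_apply, ← act_mul, inv_mul_cancel, act_one]
          rfl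
      refine Subtype.ext (funext fun p => ?_)
      show v p = 0
      by_cases hp : p = pt 23
      · rw [hp, h1]
      · obtain ⟨g, hg, rfl⟩ := htr p hp
        have := congrFun (hinv g hg) (g (pt 0))
        simp only [act, LinearMap.funLeft_apply, Equiv.Perm.inv_def, Equiv.symm_apply_apply] at this
        rw [← this, h2]
    have := LinearMap.finrank_le_finrank_of_injective hev
    simpa using this
  have hran : 22 ≤ Module.finrank ℚ (LinearMap.range γ) := by
    have hmove : ∀ g ∈ Subgroup.closure {x, y}, ∀ v, act g v - v ∈ LinearMap.range γ := by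
      intro g hg
      induction hg using Subgroup.closure_induction with
      | mem g hg =>
        intro v
        rcases hg with rfl | rfl
        · exact ⟨(⟨disp g v, ⟨v, rfl⟩⟩, 0, 0), by simp [γ, disp]⟩
        · have h1 : act g v - v = -(act x (act g v) - act g v) + act x (disp g v) +
              (act x v - v) := by simp [disp]
          rw [h1]
          exact ⟨(-⟨disp x (act g v), ⟨_, rfl⟩⟩ + ⟨disp x v, ⟨_, rfl⟩⟩, ⟨disp g v, ⟨_, rfl⟩⟩, 0), by
            simp [γ, disp]; abel⟩
      | one => intro v; simp [act_one]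
      | mul g h _ _ ihg ihh =>
        intro v
        rw [act_mul, LinearMap.comp_apply,
          show act g (act h v) - v = (act g (act h v) - act h v) + (act h v - v) by abel]
        exact add_mem (ihg _) (ihh _)
      | inv g _ ih =>
        intro v
        have := ih (act g⁻¹ v)
        rw [← LinearMap.comp_apply, ← act_mul, mul_inv_cancel, act_one, LinearMap.id_apply] at this
        have := Submodule.neg_mem _ this
        rwa [neg_sub] at this
    set U := Submodule.span ℚ ({Pi.single (pt 23) 1, Pi.single (pt 0) 1} : Set (GolayPt → ℚ))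
    have htop : LinearMap.range γ ⊔ U = ⊤ := by
      rw [eq_top_iff, ← (Pi.basisFun ℚ GolayPt).span_eq, Submodule.span_le]
      rintro _ ⟨p, rfl⟩
      rw [Pi.basisFun_apply, SetLike.mem_coe]
      by_cases hp : p = pt 23
      · exact Submodule.mem_sup_right (Submodule.subset_span (by simp [hp]))
      · obtain ⟨g, hg, rfl⟩ := htr p hp
        rw [← act_single, show act g (Pi.single (pt 0) (1 : ℚ)) =
          (act g (Pi.single (pt 0) 1) - Pi.single (pt 0) 1) + Pi.single (pt 0) 1 by abel]
        exact add_mem (Submodule.mem_sup_left (hmove g hg _))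
          (Submodule.mem_sup_right (Submodule.subset_span (by simp)))
    have hU : Module.finrank ℚ U ≤ 2 := by
      classical
      refine le_trans (finrank_span_le_card _) ?_
      simp only [Set.toFinset_insert, Set.toFinset_singleton]
      exact Finset.card_le_two
    have h1 := Submodule.finrank_add_le_finrank_add_finrank (LinearMap.range γ) U
    rw [htop, finrank_top, Module.finrank_pi,
      show Fintype.card GolayPt = 24 from by decide +kernel] at h1
    omega
  have h1 := LinearMap.finrank_range_add_finrank_ker β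
  rw [Module.finrank_pi, show Fintype.card GolayPt = 24 from by decide +kernel] at h1
  have h2 := LinearMap.finrank_range_add_finrank_ker γ
  rw [Module.finrank_prod, Module.finrank_prod] at h2
  have h3 := Submodule.finrank_mono hγβ
  omega

/-- the rank of a displacement is bounded through the orbits -/
theorem rank_le {g : Equiv.Perm GolayPt} {p : ℕ} (hp : p.Prime) (ho : orderOf g = p) {f : ℕ}
    (hf : f ≤ (Finset.univ.filter fun a => g a = a).card) :
    p * Module.finrank ℚ (LinearMap.range (disp g)) ≤ (p - 1) * (24 - f) := by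
  classical
  set G := Subgroup.zpowers g
  set Q := Quotient (MulAction.orbitRel G GolayPt)
  let incl : (Q → ℚ) →ₗ[ℚ] (GolayPt → ℚ) := LinearMap.funLeft ℚ ℚ (Quotient.mk _)
  have hincl : Function.Injective incl :=
    LinearMap.funLeft_injective_of_surjective ℚ ℚ _ Quotient.mk_surjective
  have hle : LinearMap.range incl ≤ LinearMap.ker (disp g) := by
    rintro _ ⟨v, rfl⟩
    rw [LinearMap.mem_ker]
    ext a
    simp only [disp, LinearMap.sub_apply, LinearMap.id_apply, Pi.sub_apply, Pi.zero_apply, act,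
      incl, LinearMap.funLeft_apply, sub_eq_zero]
    exact congrArg v (Quotient.sound
      ⟨⟨g⁻¹, inv_mem (Subgroup.mem_zpowers g)⟩, rfl⟩)
  have hQ : Fintype.card Q ≤ Module.finrank ℚ (LinearMap.ker (disp g)) := by
    rw [← Module.finrank_pi ℚ (ι := Q), ← LinearMap.finrank_range_of_inj hincl]
    exact Submodule.finrank_mono hle
  have hb := MulAction.sum_card_fixedBy_eq_card_orbits_mul_card_group G GolayPt
  have hG : Fintype.card G = p := by rw [← Nat.card_eq_fintype_card, Nat.card_zpowers, ho]
  set F := (Finset.univ.filter fun a => g a = a).card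
  have hother : ∀ a : G, a ≠ 1 → Fintype.card (MulAction.fixedBy GolayPt a) = F := by
    intro a ha
    rw [Fintype.card_of_subtype (Finset.univ.filter fun q => g q = q)]
    intro q
    simp only [Finset.mem_filter, Finset.mem_univ, true_and, MulAction.mem_fixedBy]
    constructor
    · intro h
      obtain ⟨j, hj⟩ := Subgroup.mem_zpowers_iff.1 a.2
      show (a : Equiv.Perm GolayPt) q = q
      rw [← hj]
      exact Function.IsFixedPt.perm_zpow h j
    · intro h
      have hgen : g ∈ Subgroup.zpowers (a : Equiv.Perm GolayPt) := by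
        have hle' : Subgroup.zpowers (a : Equiv.Perm GolayPt) ≤ G := Subgroup.zpowers_le.2 a.2
        have : Fact p.Prime := ⟨hp⟩
        have ha1 : (a : Equiv.Perm GolayPt) ≠ 1 := fun e => ha (Subtype.ext e)
        have hoa : orderOf (a : Equiv.Perm GolayPt) = p := by
          have h1 := Subgroup.orderOf_dvd_natCard G a.2
          rw [Nat.card_zpowers, ho] at h1
          exact ((Nat.dvd_prime hp).1 h1).resolve_left fun e => ha1 (orderOf_eq_one_iff.1 e)
        rw [Subgroup.eq_of_le_of_card_ge hle' (by rw [Nat.card_zpowers, Nat.card_zpowers, ho, hoa])]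
        exact Subgroup.mem_zpowers g
      obtain ⟨j, hj⟩ := Subgroup.mem_zpowers_iff.1 hgen
      rw [← hj]
      exact Function.IsFixedPt.perm_zpow (show Function.IsFixedPt (a : Equiv.Perm GolayPt) q from h) j
  rw [hG, ← Finset.add_sum_erase _ _ (Finset.mem_univ (1 : G)),
    Finset.sum_congr rfl (fun a ha => hother a (Finset.ne_of_mem_erase ha)), Finset.sum_const,
    Finset.card_erase_of_mem (Finset.mem_univ _), Finset.card_univ, hG, smul_eq_mul] at hb
  have h24 : Fintype.card (MulAction.fixedBy GolayPt (1 : G)) = 24 := by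
    rw [Fintype.card_of_subtype Finset.univ]
    · simp only [Finset.card_univ]; decide +kernel
    · intro q; simp
  rw [h24] at hb
  have h1 := LinearMap.finrank_range_add_finrank_ker (disp g)
  rw [Module.finrank_pi, show Fintype.card GolayPt = 24 from by decide +kernel] at h1
  have hF : (p - 1) * f ≤ (p - 1) * F := Nat.mul_le_mul_left _ hf
  have hpp : p * Fintype.card Q ≤ p * Module.finrank ℚ (LinearMap.ker (disp g)) :=
    Nat.mul_le_mul_left _ hQ
  have e1 : p * Module.finrank ℚ (LinearMap.range (disp g)) +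
      p * Module.finrank ℚ (LinearMap.ker (disp g)) = p * 24 := by rw [← mul_add, h1]
  rw [show Fintype.card (Quotient (MulAction.orbitRel G GolayPt)) = Fintype.card Q from
    Fintype.card_congr (Equiv.refl _)] at hb
  have e2 : Fintype.card Q * p = p * Fintype.card Q := mul_comm _ _
  have hp1 := hp.one_lt
  have e3 : (p - 1) * (24 - f) = (p - 1) * 24 - (p - 1) * f := Nat.mul_sub _ _ _
  have e4 : p * 24 = (p - 1) * 24 + 24 := by
    obtain ⟨k, rfl⟩ : ∃ k, p = k + 1 := ⟨p - 1, by omega⟩
    simp [Nat.succ_mul]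
  omega

theorem fixed_bound {g : Equiv.Perm GolayPt} (hg : g ∈ Spor.M23) {p : ℕ} (hp : p.Prime)
    (ho : orderOf g = p) :
    1 ≤ (Finset.univ.filter fun a => g a = a).card ∧
      (p = 2 → 8 ≤ (Finset.univ.filter fun a => g a = a).card) ∧
      (p = 3 → 6 ≤ (Finset.univ.filter fun a => g a = a).card) ∧
      (p = 5 → 4 ≤ (Finset.univ.filter fun a => g a = a).card) ∧
      (p = 7 → 3 ≤ (Finset.univ.filter fun a => g a = a).card) := by
  obtain ⟨hgM, hg23⟩ := mem_M23.1 hg
  set F := (Finset.univ.filter fun a => g a = a).card with hF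
  have h1 : 1 ≤ F := Finset.card_pos.2 ⟨pt 23, by simp [hg23]⟩
  have hmod : F % p = 24 % p := by
    have : Fact p.Prime := ⟨hp⟩
    have h := Equiv.Perm.card_fixedPoints_modEq (f := (g : GolayPt → GolayPt)) (p := p) (n := 1)
      (by
        rw [pow_one]
        have e : g ^ p = 1 := ho ▸ pow_orderOf_eq_one g
        have e' : ((g ^ p : Equiv.Perm GolayPt) : GolayPt → GolayPt) =
            ((1 : Equiv.Perm GolayPt) : GolayPt → GolayPt) := by rw [e]
        exact (Equiv.Perm.coe_pow g p).symm.trans e')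
    rw [Fintype.card_of_subtype (Finset.univ.filter fun a => g a = a) (fun q => by
      simp only [Finset.mem_filter, Finset.mem_univ, true_and]; rfl), show Fintype.card GolayPt = 24 from by decide +kernel] at h
    exact h.symm
  refine ⟨h1, fun e => ?_, fun e => ?_, fun e => ?_, fun e => ?_⟩ <;> subst e
  · obtain ⟨r, hr, k, hk⟩ := GolayClasses.exists_conj_two hgM ho
    have hv : valid r = true :=
      valid_of_good (GolayClasses.valid_reps r (by simp at hr ⊢; tauto))
    have e : F = (pts.filter fun i => pimg r i == i).length := by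
      rw [hF, ← GolayClasses.card_fixed_conj (k : Equiv.Perm GolayPt), hk,
        GolayClasses.card_fixed_permOf hv]
    simp only [List.mem_cons, List.not_mem_nil, or_false] at hr
    have h0 : (pts.filter fun i => pimg GolayClassData.r2_0 i == i).length = 0 := by decide +kernel
    have h8 : (pts.filter fun i => pimg GolayClassData.r2_8 i == i).length = 8 := by decide +kernel
    rcases hr with rfl | rfl <;> omega
  · obtain ⟨r, hr, k, hk⟩ := GolayClasses.exists_conj_three hgM ho
    have hv : valid r = true :=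
      valid_of_good (GolayClasses.valid_reps r (by simp at hr ⊢; tauto))
    have e : F = (pts.filter fun i => pimg r i == i).length := by
      rw [hF, ← GolayClasses.card_fixed_conj (k : Equiv.Perm GolayPt), hk,
        GolayClasses.card_fixed_permOf hv]
    simp only [List.mem_cons, List.not_mem_nil, or_false] at hr
    have h0 : (pts.filter fun i => pimg GolayClassData.r3_0 i == i).length = 0 := by decide +kernel
    have h6 : (pts.filter fun i => pimg GolayClassData.r3_6 i == i).length = 6 := by decide +kernel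
    rcases hr with rfl | rfl <;> omega
  · omega
  · omega

/-- the excluded triples do not generate -/
theorem not_generating {x y z : Spor.M23} {p q r : ℕ} (hp : p.Prime) (hq : q.Prime) (hr : r.Prime)
    (hx : orderOf x = p) (hy : orderOf y = q) (hz : orderOf z = r) (hxyz : x * y * z = 1)
    (hcl : Subgroup.closure {x, y} = ⊤) (hqr : q ≤ r)
    (hex : (p = 2 ∧ q = 3) ∨ (p = 2 ∧ q = 5 ∧ r = 5) ∨ (p = 2 ∧ q = 5 ∧ r = 7) ∨
      (p = 3 ∧ q = 3 ∧ r ≤ 7)) : False := by
  have htr : ∀ a : GolayPt, a ≠ pt 23 →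
      ∃ g ∈ Subgroup.closure ({(x : Equiv.Perm GolayPt), (y : Equiv.Perm GolayPt)} : Set _),
        g (pt 0) = a := by
    intro a ha
    obtain ⟨g, hg, e⟩ := exists_of_tcheck (keep := 16777215) (fix := [23]) (b := 0) (O := 8388607)
      (ts := GolayData.tr24_1) (by norm_num) (by simp) (by decide +kernel) (H := M24)
      (fun g hg _ => hg) a
      ((by decide +kernel : ∀ q : GolayPt, q ≠ pt 23 → q ∈ mset 8388607) a ha)
    have hg' : g ∈ Spor.M23 := by rw [GolayM24.M23_eq]; exact hg
    refine ⟨g, ?_, e⟩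
    have : (⟨g, hg'⟩ : Spor.M23) ∈ Subgroup.closure {x, y} := hcl ▸ Subgroup.mem_top _
    have h1 := Subgroup.mem_map_of_mem Spor.M23.subtype this
    rw [MonoidHom.map_closure] at h1
    simpa [Set.image_pair] using h1
  have hsum := rank_sum (z := (z : Equiv.Perm GolayPt)) (congrArg Subtype.val hxyz) htr
  obtain ⟨x1, x2, x3, x5, x7⟩ := fixed_bound x.2 hp ((Subgroup.orderOf_coe x).trans hx)
  obtain ⟨y1, y2, y3, y5, y7⟩ := fixed_bound y.2 hq ((Subgroup.orderOf_coe y).trans hy)
  obtain ⟨z1, z2, z3, z5, z7⟩ := fixed_bound z.2 hr ((Subgroup.orderOf_coe z).trans hz)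
  have bx := fun {f : ℕ} => rank_le (f := f) hp ((Subgroup.orderOf_coe x).trans hx)
  have by' := fun {f : ℕ} => rank_le (f := f) hq ((Subgroup.orderOf_coe y).trans hy)
  have bz := fun {f : ℕ} => rank_le (f := f) hr ((Subgroup.orderOf_coe z).trans hz)
  rcases hex with ⟨rfl, rfl⟩ | ⟨rfl, rfl, rfl⟩ | ⟨rfl, rfl, rfl⟩ | ⟨rfl, rfl, hr7⟩
  · have h1 := bx (x2 rfl)
    have h2 := by' (y3 rfl)
    have h3 := bz z1
    have h4 : Module.finrank ℚ (LinearMap.range (disp (z : Equiv.Perm GolayPt))) ≤ 22 := by
      by_contra hc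
      have h5 : r * 23 ≤ r * Module.finrank ℚ (LinearMap.range (disp (z : Equiv.Perm GolayPt))) :=
        Nat.mul_le_mul_left _ (by omega)
      have := hr.one_lt
      omega
    omega
  · have h1 := bx (x2 rfl)
    have h2 := by' (y5 rfl)
    have h3 := bz (z5 rfl)
    omega
  · have h1 := bx (x2 rfl)
    have h2 := by' (y5 rfl)
    have h3 := bz (z7 rfl)
    omega
  · have h1 := bx (x3 rfl)
    have h2 := by' (y3 rfl)
    interval_cases r <;> norm_num at hr
    · have h3 := bz (z3 rfl)
      omega
    · have h3 := bz (z5 rfl)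
      omega
    · have h3 := bz (z7 rfl)
      omega

theorem coverage : ∀ p ∈ [2, 3, 5, 7, 11, 23], ∀ q ∈ [2, 3, 5, 7, 11, 23],
    ∀ r ∈ [2, 3, 5, 7, 11, 23], p ≤ q → q ≤ r → ¬ (p = 2 ∧ q = 2) →
      ¬ ((p = 2 ∧ q = 3) ∨ (p = 2 ∧ q = 5 ∧ r = 5) ∨ (p = 2 ∧ q = 5 ∧ r = 7) ∨
        (p = 3 ∧ q = 3 ∧ r ≤ 7)) → (witnesses.map Prod.fst).contains (p, q, r) = true := by
  decide +kernel

theorem prime_mem {p : ℕ} (hp : p.Prime) (h : p ∣ 10200960) : p ∈ [2, 3, 5, 7, 11, 23] := by
  rw [show (10200960 : ℕ) = 2 ^ 7 * (3 ^ 2 * (5 * (7 * (11 * 23)))) by norm_num] at h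
  simp only [List.mem_cons, List.not_mem_nil, or_false]
  rcases hp.dvd_mul.1 h with h | h
  · exact Or.inl ((Nat.prime_dvd_prime_iff_eq hp (by norm_num)).1 (hp.dvd_of_dvd_pow h))
  rcases hp.dvd_mul.1 h with h | h
  · exact Or.inr (Or.inl ((Nat.prime_dvd_prime_iff_eq hp (by norm_num)).1 (hp.dvd_of_dvd_pow h)))
  iterate 3
    rcases hp.dvd_mul.1 h with h | h
    · have := (Nat.prime_dvd_prime_iff_eq hp (by norm_num)).1 h
      simp [this]
  have := (Nat.prime_dvd_prime_iff_eq hp (by norm_num)).1 h
  simp [this]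

end Cfsg.Agent.GolayTripleGen
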