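import Cfsg.Agent.Lib.AbstractGolay
import Cfsg.Agent.Lib.SteinerTriangle

/-!
Any two abstract binary Golay codes of length 24 are equivalent: the octad/complement decomposition,
the affine structure on the complement, and pair classes on the octad.
-/

set_option autoImplicit false

namespace Cfsg.Agent.GolayUnique70

open Cfsg Cfsg.Agent.AbstractGolay Finset

variable {C : Submodule (ZMod 2) V}

theorem two_eq (a : ZMod 2) : a + a = 0 := by revert a; decide

theorem vtwo (a : V) : a + a = 0 := funext fun _ => two_eq _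

theorem vsub (a b : V) : a - b = a + b := by
  rw [sub_eq_iff_eq_add, add_assoc, vtwo, add_zero]

theorem sup_add (u v : V) : sup (u + v) = symmDiff (sup u) (sup v) := by
  rw [← vsub, sup_sub]

theorem ind_apply (s : Finset (Fin 24)) (i : Fin 24) :
    ind s i = if i ∈ s then 1 else 0 := rfl

theorem ind_symmDiff (s t : Finset (Fin 24)) :
    AbstractGolay.ind (symmDiff s t) = AbstractGolay.ind s + AbstractGolay.ind t := by
  conv_rhs => rw [← ind_sup (AbstractGolay.ind s + AbstractGolay.ind t)]
  rw [sup_add, AbstractGolay.sup_ind, AbstractGolay.sup_ind]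

/-- The blocks given by the weight-eight words. -/
noncomputable def blocks (C : Submodule (ZMod 2) V) : Finset (Finset (Fin 24)) :=
  (Set.toFinite (wordsOfWeight (C : Set V) 8)).toFinset

theorem mem_blocks {b : Finset (Fin 24)} :
    b ∈ blocks C ↔ AbstractGolay.ind b ∈ C ∧ b.card = 8 := by
  rw [blocks, Set.Finite.mem_toFinset]
  constructor
  · rintro ⟨⟨w, hw, rfl⟩, h⟩
    exact ⟨by rw [show support₂ w = AbstractGolay.sup w from rfl, ind_sup]; exact hw, h⟩
  · rintro ⟨h1, h2⟩
    exact ⟨⟨_, h1, show AbstractGolay.sup (AbstractGolay.ind b) = b from AbstractGolay.sup_ind b⟩, h2⟩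

theorem blocks_steiner (h : IsGolay C) : IsSteinerSystem 5 8 (blocks C : Set (Finset (Fin 24))) := by
  rw [blocks, Set.Finite.coe_toFinset]
  exact h.steiner

theorem dual_mem (h : IsGolay C) {v : V} (hv : ∀ c ∈ C, ∑ i, v i * c i = 0) : v ∈ C := by
  obtain ⟨u, hu, hu3⟩ := h.leader 0 v
  have horth : ∀ d ∈ blocks C, 2 ∣ (AbstractGolay.sup u ∩ d).card := by
    intro d hd
    obtain ⟨hd, -⟩ := mem_blocks.1 hd
    have e := dot_eq u (AbstractGolay.ind d)
    rw [AbstractGolay.sup_ind] at e
    rw [← ZMod.natCast_eq_zero_iff, ← e]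
    have h0 := h.orth _ hu _ hd
    simp only [Pi.sub_apply, sub_mul, sum_sub_distrib, hv _ hd, sub_zero] at h0
    exact h0
  have h4 : (AbstractGolay.sup u).card ≤ 4 := by
    have h2 : AbstractGolay.sup u ⊆ insert 0 ((AbstractGolay.sup u).erase 0) := fun i hi => by
      by_cases h0 : i = 0 <;> simp [h0, hi]
    have := (card_le_card h2).trans (card_insert_le _ _)
    omega
  have hv0 : Fintype.card (Fin 24) = 24 := Fintype.card_fin 24
  suffices hsu : (AbstractGolay.sup u).card = 0 by
    have : u = 0 := by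
      rw [← ind_sup u, card_eq_zero.1 hsu]
      funext i
      simp [AbstractGolay.ind]
    rw [this, zero_sub] at hu
    exact (neg_mem_iff).1 hu
  set T := AbstractGolay.sup u
  let n : ℕ → ℕ := fun i => ((blocks C).filter fun d => (d ∩ T).card = i).card
  have hle : ∀ d ∈ blocks C, (d ∩ T).card ∈ range 5 := fun d _ =>
    mem_range.2 (by have := card_le_card (inter_subset_right : d ∩ T ⊆ T); omega)
  have hodd : ∀ i, ¬ 2 ∣ i → n i = 0 := fun i hi =>
    card_eq_zero.2 (filter_eq_empty_iff.2 fun d hd he => hi (by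
      rw [← he, inter_comm]; exact horth d hd))
  have key : ∀ j, j ≤ 5 → ∑ i ∈ range 5, n i * i.choose j =
      T.card.choose j * ((24 - j).choose (5 - j) / (8 - j).choose (5 - j)) := by
    intro j hj
    have hm := SteinerTriangle.moment (blocks_steiner h) (by norm_num) T hj
    rw [Fintype.card_fin] at hm
    rw [← hm, ← sum_fiberwise_of_maps_to hle]
    refine sum_congr rfl fun i _ => ?_
    rw [sum_congr rfl (g := fun _ => i.choose j) (fun d hd => by rw [(mem_filter.1 hd).2]),
      sum_const, smul_eq_mul]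
  have k1 := key 1 (by norm_num)
  have k2 := key 2 (by norm_num)
  have k3 := key 3 (by norm_num)
  have k4 := key 4 (by norm_num)
  simp [sum_range_succ, hodd 1 (by norm_num), hodd 3 (by norm_num), Nat.choose] at k1 k2 k3 k4
  generalize T.card = m at h4 k1 k2 k3 k4 ⊢
  interval_cases m <;> simp at k1 k2 k3 k4 ⊢ <;> omega

theorem one_mem (h : IsGolay C) : (fun _ => (1 : ZMod 2)) ∈ C := by
  refine dual_mem h fun c hc => ?_
  simp only [one_mul]
  have := h.orth c hc c hc
  calc ∑ i, c i = ∑ i, c i * c i := sum_congr rfl fun i _ => by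
        rcases z2 (c i) with e | e <;> simp [e]
    _ = 0 := this

/-- The code words vanishing on a set. -/
def vanishOn (C : Submodule (ZMod 2) V) (O : Finset (Fin 24)) : Submodule (ZMod 2) V where
  carrier := {c | c ∈ C ∧ ∀ i ∈ O, c i = 0}
  add_mem' := fun {a b} ha hb => ⟨C.add_mem ha.1 hb.1, fun i hi => by
    simp [ha.2 i hi, hb.2 i hi]⟩
  zero_mem' := ⟨C.zero_mem, fun _ _ => rfl⟩
  smul_mem' := fun r a ha => ⟨C.smul_mem r ha.1, fun i hi => by simp [ha.2 i hi]⟩

theorem compl_word_mem (h : IsGolay C) {O : Finset (Fin 24)} (hO : O ∈ blocks C) :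
    AbstractGolay.ind Oᶜ ∈ vanishOn C O := by
  refine ⟨?_, fun i hi => by simp [ind_apply, hi]⟩
  have e : AbstractGolay.ind Oᶜ = (fun _ => (1 : ZMod 2)) + AbstractGolay.ind O := by
    funext i
    by_cases hi : i ∈ O <;> simp [ind_apply, hi, two_eq]
  rw [e]
  exact C.add_mem (one_mem h) (mem_blocks.1 hO).1

theorem card_vanishOn (h : IsGolay C) {O : Finset (Fin 24)} (hO : O ∈ blocks C) :
    Nat.card (vanishOn C O) = 32 := by
  classical
  have hO8 := (mem_blocks.1 hO).2
  have hst := blocks_steiner h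
  have hm := SteinerTriangle.meet8 hst (Fintype.card_fin 24) hO (empty_subset O)
  rw [card_empty] at hm
  set A := SteinerTriangle.meetIn (blocks C) O ∅
  have hA : ∀ d ∈ A, d ∈ blocks C ∧ O ∩ d = ∅ := fun d hd => by
    obtain ⟨h1, h2⟩ := mem_filter.1 hd
    exact ⟨(mem_erase.1 h1).2, h2⟩
  have hset : ((vanishOn C O : Submodule (ZMod 2) V) : Set V) =
      ((insert ∅ (insert Oᶜ A)).image AbstractGolay.ind : Finset V) := by
    ext c
    simp only [coe_image, Set.mem_image, mem_coe, mem_insert]
    constructor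
    · intro hc
      refine ⟨AbstractGolay.sup c, ?_, ind_sup c⟩
      have hsub : AbstractGolay.sup c ⊆ Oᶜ := fun i hi => mem_compl.2 fun hiO =>
        (mem_filter.1 hi).2 (hc.2 i hiO)
      have hle : (AbstractGolay.sup c).card ≤ 16 := by
        have := card_le_card hsub
        rwa [card_compl, hO8, Fintype.card_fin] at this
      have h4 := h.doubly_even c hc.1
      by_cases h0 : c = 0
      · left; rw [h0]; simp [AbstractGolay.sup]
      have h8 := h.min c hc.1 h0
      rw [norm_eq] at h8
      have hcases : (AbstractGolay.sup c).card = 8 ∨ (AbstractGolay.sup c).card = 12 ∨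
          (AbstractGolay.sup c).card = 16 := by omega
      rcases hcases with e | e | e
      · right; right
        refine mem_filter.2 ⟨mem_erase.2 ⟨fun he => ?_, mem_blocks.2 ⟨by rw [ind_sup]; exact hc.1, e⟩⟩, ?_⟩
        · rw [he] at hsub
          have := card_eq_zero.2 (subset_empty.1 (fun i hi => absurd hi (mem_compl.1 (hsub hi))) :
            O = ∅)
          omega
        · ext i
          simp only [mem_inter, notMem_empty, iff_false, not_and]
          exact fun hi hic => mem_compl.1 (hsub hic) hi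
      · exfalso
        have hw := C.add_mem hc.1 (compl_word_mem h hO).1
        have hs : AbstractGolay.sup (c + AbstractGolay.ind Oᶜ) = Oᶜ \ AbstractGolay.sup c := by
          rw [sup_add, AbstractGolay.sup_ind, symmDiff_of_le hsub]
        have hcard : (AbstractGolay.sup (c + AbstractGolay.ind Oᶜ)).card = 4 := by
          rw [hs, card_sdiff_of_subset hsub, card_compl, hO8, Fintype.card_fin, e]
        have hne : c + AbstractGolay.ind Oᶜ ≠ 0 := fun h0' => by
          rw [h0'] at hcard; simp [AbstractGolay.sup] at hcard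
        have := h.min _ hw hne
        rw [norm_eq] at this
        omega
      · right; left
        exact eq_of_subset_of_card_le hsub (by rw [card_compl, hO8, Fintype.card_fin, e])
    · rintro ⟨s, hs, rfl⟩
      rcases hs with rfl | rfl | hs
      · rw [show AbstractGolay.ind ∅ = 0 from funext fun i => by simp [ind_apply]]
        exact Submodule.zero_mem _
      · exact compl_word_mem h hO
      · obtain ⟨hd, hdis⟩ := hA s hs
        refine ⟨(mem_blocks.1 hd).1, fun i hi => ?_⟩
        rw [ind_apply, if_neg fun his => ?_]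
        exact notMem_empty i (hdis ▸ mem_inter.2 ⟨hi, his⟩)
  rw [← SetLike.coe_sort_coe, Nat.card_coe_set_eq, hset, Set.ncard_coe_finset,
    card_image_of_injective _ (fun a b hab => by rw [← AbstractGolay.sup_ind a, hab, AbstractGolay.sup_ind]),
    card_insert_of_notMem, card_insert_of_notMem, hm]
  · rfl
  · intro hc
    obtain ⟨hd, -⟩ := hA _ hc
    have := (mem_blocks.1 hd).2
    rw [card_compl, hO8, Fintype.card_fin] at this
    omega
  · intro hc
    rw [mem_insert] at hc
    rcases hc with hc | hc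
    · have := congrArg Finset.card hc
      rw [card_empty, card_compl, hO8, Fintype.card_fin] at this
      omega
    · obtain ⟨hd, -⟩ := hA _ hc
      simpa using (mem_blocks.1 hd).2

theorem lift_outer (h : IsGolay C) {O : Finset (Fin 24)} {b : V}
    (hb : ∀ c ∈ vanishOn C O, ∑ i, b i * c i = 0) (hbO : ∀ i ∈ O, b i = 0) :
    ∃ c ∈ C, ∀ i ∉ O, c i = b i := by
  classical
  let res : ↥C →ₗ[ZMod 2] ({i // i ∈ O} → ZMod 2) :=
    (LinearMap.funLeft (ZMod 2) (ZMod 2) Subtype.val).comp C.subtype
  let g : ↥C →ₗ[ZMod 2] ZMod 2 :=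
    { toFun := fun c => ∑ i, b i * c.1 i
      map_add' := fun x y => by simp [mul_add, sum_add_distrib]
      map_smul' := fun r x => by simp [mul_sum]; exact sum_congr rfl fun i _ => by ring }
  have hg : g ∈ LinearMap.range res.dualMap := by
    rw [LinearMap.range_dualMap_eq_dualAnnihilator_ker, Submodule.mem_dualAnnihilator]
    intro c hc
    exact hb c.1 ⟨c.2, fun i hi => congrFun (LinearMap.mem_ker.1 hc) ⟨i, hi⟩⟩
  obtain ⟨a, ha⟩ := hg
  let v : V := fun i => if hi : i ∈ O then a (fun j => if (⟨i, hi⟩ : {i // i ∈ O}) = j then 1 else 0)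
    else b i
  refine ⟨v, dual_mem h fun c hc => ?_, fun i hi => by simp [v, hi]⟩
  have hsplit : ∑ i, v i * c i = (∑ i, b i * c i) + ∑ i : {i // i ∈ O}, v i.1 * c i.1 := by
    rw [sum_coe_sort O (fun i => v i * c i), ← sum_add_sum_compl O (fun i => v i * c i),
      ← sum_add_sum_compl O (fun i => b i * c i),
      sum_eq_zero (s := O) (f := fun i => b i * c i) (fun i hi => by rw [hbO i hi, zero_mul]),
      zero_add, add_comm]
    congr 1
    exact sum_congr rfl fun i hi => by simp [v, mem_compl.1 hi]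
  have e2 : ∑ i : {i // i ∈ O}, v i.1 * c i.1 = g ⟨c, hc⟩ := by
    rw [← ha]
    show _ = a (res ⟨c, hc⟩)
    rw [show a (res ⟨c, hc⟩) = a (∑ i : {i // i ∈ O}, (res ⟨c, hc⟩ i) •
      fun j => if i = j then (1 : ZMod 2) else 0) from congrArg a (pi_eq_sum_univ _), map_sum]
    refine sum_congr rfl fun i _ => ?_
    simp only [v, dif_pos i.2, map_smul, smul_eq_mul]
    exact mul_comm _ _
  rw [hsplit, e2]
  exact two_eq _

/-- A pair of evaluation-separated nonzero vectors is exchanged by a linear involution. -/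
theorem exists_swap {M : Type*} [AddCommGroup M] [Module (ZMod 2) M] [Module.Finite (ZMod 2) M]
    {u v : M} (hu : u ≠ 0) (hv : v ≠ 0) : ∃ f : M ≃ₗ[ZMod 2] M, f u = v := by
  have hneg : ∀ x : M, x + x = 0 := fun x => by
    rw [← two_smul (ZMod 2) x, show (2 : ZMod 2) = 0 by decide, zero_smul]
  obtain ⟨p, hp⟩ : ∃ p : Module.Dual (ZMod 2) M, p u = 1 ∧ p v = 1 := by
    obtain ⟨p, hp⟩ : ∃ p : Module.Dual (ZMod 2) M, p u ≠ 0 := by
      by_contra hc
      simp only [not_exists, not_not] at hc
      exact hu ((Module.forall_dual_apply_eq_zero_iff (ZMod 2) u).1 hc)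
    obtain ⟨q, hq⟩ : ∃ q : Module.Dual (ZMod 2) M, q v ≠ 0 := by
      by_contra hc
      simp only [not_exists, not_not] at hc
      exact hv ((Module.forall_dual_apply_eq_zero_iff (ZMod 2) v).1 hc)
    have hp1 := (z2 (p u)).resolve_left hp
    have hq1 := (z2 (q v)).resolve_left hq
    rcases z2 (p v) with a | a
    · rcases z2 (q u) with b | b
      · exact ⟨p + q, by simp [hp1, b], by simp [hq1, a]⟩
      · exact ⟨q, b, hq1⟩
    · exact ⟨p, hp1, a⟩
  let f : M →ₗ[ZMod 2] M := LinearMap.id + p.smulRight (u + v)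
  have e0 : f (u + v) = u + v := by
    simp only [f, LinearMap.add_apply, LinearMap.id_apply, LinearMap.smulRight_apply, map_add,
      hp.1, hp.2]
    rw [one_smul, add_add_add_comm, hneg (u + v), add_zero]
  have hf : Function.Involutive f := fun x => by
    have e1 : f x = x + p x • (u + v) := rfl
    rw [e1, map_add, map_smul, e0, e1, add_assoc, hneg, add_zero]
  refine ⟨LinearEquiv.ofInvolutive f hf, ?_⟩
  show f u = v
  simp only [f, LinearMap.add_apply, LinearMap.id_apply, LinearMap.smulRight_apply, hp.1, one_smul]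
  rw [← add_assoc, hneg, zero_add]

/-- The part of a word on a set of points. -/
def part (O : Finset (Fin 24)) (c : V) : Finset (Fin 24) := AbstractGolay.sup c ∩ O

theorem mem_part {O : Finset (Fin 24)} {c : V} {i : Fin 24} :
    i ∈ part O c ↔ c i ≠ 0 ∧ i ∈ O := by
  simp [part, AbstractGolay.sup]

theorem part_add (O : Finset (Fin 24)) (c d : V) :
    part O (c + d) = symmDiff (part O c) (part O d) := by
  ext i
  simp only [part, sup_add, mem_inter, mem_symmDiff]
  tauto

theorem part_zero_iff {O : Finset (Fin 24)} {c : V} : part O c = ∅ ↔ ∀ i ∈ O, c i = 0 := by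
  constructor
  · intro h i hi
    by_contra hne
    exact notMem_empty i (h ▸ mem_part.2 ⟨hne, hi⟩)
  · intro h
    ext i
    simp only [mem_part, notMem_empty, iff_false, not_and]
    exact fun hne hi => hne (h i hi)

theorem exists_block (h : IsGolay C) : ∃ O, O ∈ blocks C := by
  obtain ⟨s, -, hs⟩ := exists_subset_card_eq (show 5 ≤ (univ : Finset (Fin 24)).card by simp)
  obtain ⟨b, ⟨hb, -⟩, -⟩ := (blocks_steiner h).2 s hs
  exact ⟨b, hb⟩

theorem block_meeting (h : IsGolay C) {O s : Finset (Fin 24)} (hO : O ∈ blocks C) (hs : s ⊆ O)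
    (hcard : s.card = 2 ∨ s.card = 4) : ∃ d ∈ blocks C, O ∩ d = s := by
  have hm := SteinerTriangle.meet8 (blocks_steiner h) (Fintype.card_fin 24) hO hs
  have hpos : 0 < (SteinerTriangle.meetIn (blocks C) O s).card := by
    rw [hm]; rcases hcard with e | e <;> rw [e] <;> decide
  obtain ⟨d, hd⟩ := card_pos.1 hpos
  obtain ⟨h1, h2⟩ := mem_filter.1 hd
  exact ⟨d, (mem_erase.1 h1).2, h2⟩

theorem part_card_even (h : IsGolay C) {O : Finset (Fin 24)} (hO : O ∈ blocks C) {c : V}
    (hc : c ∈ C) : 2 ∣ (part O c).card := by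
  have := h.inter_even hc (mem_blocks.1 hO).1
  rwa [AbstractGolay.sup_ind] at this

theorem supported_part (h : IsGolay C) {O : Finset (Fin 24)} (hO : O ∈ blocks C) {c : V}
    (hc : c ∈ C) (hout : ∀ i ∉ O, c i = 0) : part O c = ∅ ∨ part O c = O := by
  have hsub : AbstractGolay.sup c ⊆ O := fun i hi => by
    by_contra hiO
    exact (mem_filter.1 hi).2 (hout i hiO)
  have he : part O c = AbstractGolay.sup c := inter_eq_left.2 hsub
  rw [he]
  by_cases h0 : c = 0
  · left; rw [h0]; simp [AbstractGolay.sup]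
  · right
    have := h.min c hc h0
    rw [norm_eq] at this
    exact eq_of_subset_of_card_le hsub (by rw [(mem_blocks.1 hO).2]; exact this)

theorem eval_injective (h : IsGolay C) {O : Finset (Fin 24)} (hO : O ∈ blocks C) {p q : Fin 24}
    (hp : p ∉ O) (hq : q ∉ O) (hpq : ∀ c ∈ vanishOn C O, c p = c q) : p = q := by
  classical
  by_contra hne
  obtain ⟨c, hc, hcout⟩ := lift_outer h (O := O) (b := AbstractGolay.ind {p, q}) (fun d hd => by
      simp only [ind_apply, ite_mul, one_mul, zero_mul]
      rw [sum_ite_mem, univ_inter, sum_pair hne, hpq d hd, two_eq])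
    (fun i hi => by
      rw [ind_apply, if_neg]
      simp only [mem_insert, mem_singleton, not_or]
      exact ⟨fun e => hp (e ▸ hi), fun e => hq (e ▸ hi)⟩)
  have hsplit : AbstractGolay.sup c = part O c ∪ {p, q} := by
    ext i
    by_cases hi : i ∈ O
    · have hip : i ≠ p := fun e => hp (e ▸ hi)
      have hiq : i ≠ q := fun e => hq (e ▸ hi)
      simp [part, hi, hip, hiq]
    · simp only [part, AbstractGolay.sup, mem_union, mem_inter, mem_filter, mem_univ, true_and, hi,
        and_false, false_or, hcout i hi, ind_apply]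
      by_cases hi2 : i ∈ ({p, q} : Finset (Fin 24)) <;> simp [hi2]
  have hdis : Disjoint (part O c) ({p, q} : Finset (Fin 24)) := by
    rw [disjoint_left]
    intro i hi hi'
    simp only [mem_insert, mem_singleton] at hi'
    rcases hi' with rfl | rfl
    · exact hp (mem_part.1 hi).2
    · exact hq (mem_part.1 hi).2
  have hcard := congrArg Finset.card hsplit
  rw [card_union_of_disjoint hdis, card_pair hne] at hcard
  have hle : (part O c).card ≤ 8 := (mem_blocks.1 hO).2 ▸ card_le_card inter_subset_right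
  have hne0 : c ≠ 0 := fun e => by rw [e] at hcard; simp [AbstractGolay.sup] at hcard
  have h4 := h.doubly_even c hc
  have h8 := h.min c hc hne0
  rw [norm_eq] at h8
  have hb : AbstractGolay.sup c ∈ blocks C := mem_blocks.2 ⟨by rw [ind_sup]; exact hc, by omega⟩
  have hneO : O ≠ AbstractGolay.sup c := fun e => hp (by
    have : p ∈ AbstractGolay.sup c := by rw [hsplit]; simp
    rwa [← e] at this)
  have h6 : (O ∩ AbstractGolay.sup c).card = 6 := by
    rw [inter_comm]
    show (part O c).card = 6
    omega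
  rcases SteinerTriangle.inter8 (blocks_steiner h) (Fintype.card_fin 24) hO hb hneO with e | e | e <;>
    omega

variable {C' : Submodule (ZMod 2) V}

/-- Two abstract Golay codes differ by a permutation of the coordinates. -/
theorem equiv_of_isGolay (h : IsGolay C) (h' : IsGolay C') :
    ∃ e : Fin 24 ≃ Fin 24, ∀ w : V, w ∈ C' ↔ (fun i => w (e i)) ∈ C := by
  classical
  obtain ⟨O, hO⟩ := exists_block h
  obtain ⟨O', hO'⟩ := exists_block h'
  have hO8 := (mem_blocks.1 hO).2
  have hO8' := (mem_blocks.1 hO').2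
  -- the linear identification of the hyperplane codes
  have hdim : ∀ {D : Submodule (ZMod 2) V}, IsGolay D → ∀ {P}, P ∈ blocks D →
      Module.finrank (ZMod 2) (vanishOn D P) = 5 := by
    intro D hD P hP
    have h1 := card_vanishOn hD hP
    rw [Module.natCard_eq_pow_finrank (K := ZMod 2), Nat.card_zmod] at h1
    exact Nat.pow_right_injective (le_refl 2) (h1.trans (by norm_num : (32 : ℕ) = 2 ^ 5))
  obtain ⟨α, hα⟩ : ∃ α : ↥(vanishOn C O) ≃ₗ[ZMod 2] ↥(vanishOn C' O'),
      α ⟨_, compl_word_mem h hO⟩ = ⟨_, compl_word_mem h' hO'⟩ := by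
    let α0 := LinearEquiv.ofFinrankEq (↥(vanishOn C O)) (↥(vanishOn C' O'))
      (by rw [hdim h hO, hdim h' hO'])
    have hne : ∀ {D : Submodule (ZMod 2) V} (hD : IsGolay D) {P} (hP : P ∈ blocks D),
        (⟨_, compl_word_mem hD hP⟩ : ↥(vanishOn D P)) ≠ 0 := by
      intro D hD P hP he
      obtain ⟨i, hi⟩ : (Pᶜ).Nonempty := card_pos.1 (by rw [card_compl, (mem_blocks.1 hP).2]; simp)
      have : AbstractGolay.ind Pᶜ i = 0 := congrArg (fun z : ↥(vanishOn D P) => z.1 i) he
      rw [ind_apply, if_pos hi] at this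
      exact one_ne_zero this
    obtain ⟨f, hf⟩ := exists_swap (u := α0 ⟨_, compl_word_mem h hO⟩) (v := ⟨_, compl_word_mem h' hO'⟩)
      (fun e => hne h hO (α0.injective (e.trans (map_zero α0).symm))) (hne h' hO')
    exact ⟨α0.trans f, hf⟩
  -- the map on outer points
  have hev : ∀ p ∉ O, ∃ q, q ∉ O' ∧ ∀ c : ↥(vanishOn C O), (α c).1 q = c.1 p := by
    intro p hp
    let one' : ↥(vanishOn C' O') := ⟨_, compl_word_mem h' hO'⟩
    let ev : {q // q ∈ O'ᶜ} → {f : Module.Dual (ZMod 2) ↥(vanishOn C' O') // f one' = 1} := fun q =>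
      ⟨(LinearMap.proj q.1).comp (vanishOn C' O').subtype, by
        show AbstractGolay.ind O'ᶜ q.1 = 1
        rw [ind_apply, if_pos q.2]⟩
    have hinj : Function.Injective ev := by
      intro q r hqr
      refine Subtype.ext (eval_injective h' hO' (mem_compl.1 q.2) (mem_compl.1 r.2) fun c hc => ?_)
      exact LinearMap.congr_fun (congrArg Subtype.val hqr) ⟨c, hc⟩
    have hcard : Nat.card {f : Module.Dual (ZMod 2) ↥(vanishOn C' O') // f one' = 1} ≤ 16 := by
      obtain ⟨⟨f0, hf0⟩⟩ : Nonempty {f : Module.Dual (ZMod 2) ↥(vanishOn C' O') // f one' = 1} := by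
        obtain ⟨q, hq⟩ : (O'ᶜ).Nonempty := card_pos.1 (by rw [card_compl, hO8']; simp)
        exact ⟨ev ⟨q, hq⟩⟩
      let e2 : {f : Module.Dual (ZMod 2) ↥(vanishOn C' O') // f one' = 1} ⊕
          {f : Module.Dual (ZMod 2) ↥(vanishOn C' O') // f one' = 1} →
          Module.Dual (ZMod 2) ↥(vanishOn C' O') := Sum.elim (fun f => f.1) (fun f => f.1 + f0)
      have he2 : Function.Injective e2 := by
        refine Function.Injective.sumElim Subtype.val_injective (fun a b hab => Subtype.ext
          (add_right_cancel (show a.1 + f0 = b.1 + f0 from hab))) fun a b hab => ?_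
        have := LinearMap.congr_fun hab one'
        rw [LinearMap.add_apply, a.2, b.2, hf0] at this
        exact absurd this (by decide)
      have hfin : Finite (Module.Dual (ZMod 2) ↥(vanishOn C' O')) := Module.finite_of_finite (ZMod 2)
      have := Nat.card_le_card_of_injective e2 he2
      rw [Nat.card_sum, Module.natCard_eq_pow_finrank (K := ZMod 2) (V := Module.Dual (ZMod 2) ↥(vanishOn C' O')),
        Subspace.dual_finrank_eq, hdim h' hO', Nat.card_zmod] at this
      omega
    have hfin : Finite (Module.Dual (ZMod 2) ↥(vanishOn C' O')) := Module.finite_of_finite (ZMod 2)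
    have hbij : Function.Bijective ev := by
      have : Fintype {f : Module.Dual (ZMod 2) ↥(vanishOn C' O') // f one' = 1} := Fintype.ofFinite _
      rw [Fintype.bijective_iff_injective_and_card]
      refine ⟨hinj, le_antisymm (Fintype.card_le_of_injective ev hinj) ?_⟩
      rw [Nat.card_eq_fintype_card] at hcard
      rw [Fintype.card_coe, card_compl, hO8', Fintype.card_fin]
      omega
    obtain ⟨q, hq⟩ := hbij.2 ⟨((LinearMap.proj p).comp (vanishOn C O).subtype).comp α.symm.toLinearMap, by
      show ((α.symm one').1 : V) p = 1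
      rw [show α.symm one' = ⟨_, compl_word_mem h hO⟩ from (LinearEquiv.symm_apply_eq α).2 hα.symm]
      show AbstractGolay.ind Oᶜ p = 1
      rw [ind_apply, if_pos (mem_compl.2 hp)]⟩
    refine ⟨q.1, mem_compl.1 q.2, fun c => ?_⟩
    have := LinearMap.congr_fun (congrArg Subtype.val hq) (α c)
    simpa [ev] using this
  choose! π hπO hπ using hev
  have hπinj : ∀ p ∉ O, ∀ q ∉ O, π p = π q → p = q := fun p hp q hq he =>
    eval_injective h hO hp hq fun c hc => by
      have e1 : (α ⟨c, hc⟩).1 (π p) = c p := hπ p hp ⟨c, hc⟩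
      have e2 : (α ⟨c, hc⟩).1 (π q) = c q := hπ q hq ⟨c, hc⟩
      rw [← e1, ← e2, he]
  have hπsurj : ∀ q ∉ O', ∃ p, p ∉ O ∧ π p = q := by
    intro q hq
    have : Oᶜ.image π = O'ᶜ := eq_of_subset_of_card_le (fun x hx => by
        obtain ⟨p, hp, rfl⟩ := mem_image.1 hx
        exact mem_compl.2 (hπO p (mem_compl.1 hp)))
      (by rw [card_image_of_injOn (fun p hp q hq => hπinj p (mem_compl.1 (mem_coe.1 hp)) q
        (mem_compl.1 (mem_coe.1 hq))), card_compl, card_compl, hO8, hO8'])
    obtain ⟨p, hp, e⟩ := mem_image.1 (this.ge (mem_compl.2 hq))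
    exact ⟨p, mem_compl.1 hp, e⟩
  -- corresponding words
  let Rel : V → V → Prop := fun c c' => c ∈ C ∧ c' ∈ C' ∧ ∀ p ∉ O, c' (π p) = c p
  have radd : ∀ {c c' d d' : V}, Rel c c' → Rel d d' → Rel (c + d) (c' + d') :=
    fun {c c' d d'} a b => ⟨C.add_mem a.1 b.1, C'.add_mem a.2.1 b.2.1, fun p hp => by
      show c' (π p) + d' (π p) = c p + d p
      rw [a.2.2 p hp, b.2.2 p hp]⟩
  have rone : Rel 0 (AbstractGolay.ind O') := ⟨C.zero_mem, (mem_blocks.1 hO').1, fun p hp => by
    rw [ind_apply, if_neg (hπO p hp)]; rfl⟩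
  have K : ∀ {c c' : V}, Rel c c' → part O' c' = ∅ → part O c = ∅ ∨ part O c = O := by
    intro c c' hr hp0
    have hm : c' ∈ vanishOn C' O' := ⟨hr.2.1, part_zero_iff.1 hp0⟩
    set c2 := α.symm ⟨c', hm⟩
    have hsum : part O (c + c2.1) = part O c := by
      rw [part_add, part_zero_iff.2 c2.2.2]
      exact symmDiff_bot _
    rw [← hsum]
    refine supported_part h hO (C.add_mem hr.1 c2.2.1) fun i hi => ?_
    have := hπ i hi c2
    rw [LinearEquiv.apply_symm_apply] at this
    have this' : c' (π i) = c2.1 i := this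
    show c i + c2.1 i = 0
    rw [← this', hr.2.2 i hi]
    exact two_eq _
  have K' : ∀ {c c' : V}, Rel c c' → part O c = ∅ → part O' c' = ∅ ∨ part O' c' = O' := by
    intro c c' hr hp0
    have hm : c ∈ vanishOn C O := ⟨hr.1, part_zero_iff.1 hp0⟩
    have hsum : part O' (c' + (α ⟨c, hm⟩).1) = part O' c' := by
      rw [part_add, part_zero_iff.2 (α ⟨c, hm⟩).2.2]
      exact symmDiff_bot _
    rw [← hsum]
    refine supported_part h' hO' (C'.add_mem hr.2.1 (α ⟨c, hm⟩).2.1) fun i hi => ?_
    obtain ⟨p, hp, rfl⟩ := hπsurj i hi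
    show c' (π p) + (α ⟨c, hm⟩).1 (π p) = 0
    rw [hπ p hp ⟨c, hm⟩, hr.2.2 p hp]
    exact two_eq _
  have hlift : ∀ c ∈ C, ∃ c', Rel c c' := by
    intro c hc
    let b : V := fun q => if hq : q ∈ O' then 0 else c (hπsurj q hq).choose
    have hbπ : ∀ p ∉ O, b (π p) = c p := fun p hp => by
      simp only [b, dif_neg (hπO p hp)]
      have hs := (hπsurj (π p) (hπO p hp)).choose_spec
      rw [hπinj _ hs.1 p hp hs.2]
    have hbO : ∀ i ∈ O', b i = 0 := fun i hi => by simp [b, hi]
    obtain ⟨c', hc', hout⟩ := lift_outer h' (O := O') (b := b) (fun d hd => by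
      set d0 := α.symm ⟨d, hd⟩
      have hd0 : ∀ p ∉ O, d (π p) = d0.1 p := fun p hp => by
        rw [← hπ p hp d0, LinearEquiv.apply_symm_apply]
      have e1 : ∑ i, b i * d i = ∑ p ∈ Oᶜ, c p * d0.1 p := by
        rw [← sum_compl_add_sum O' (fun i => b i * d i),
          sum_eq_zero (s := O') (f := fun i => b i * d i) (fun i hi => by rw [hbO i hi, zero_mul]),
          add_zero]
        refine (sum_nbij π ?_ ?_ ?_ ?_).symm
        · exact fun p hp => mem_compl.2 (hπO p (mem_compl.1 hp))
        · exact fun p hp q hq => hπinj p (mem_compl.1 (mem_coe.1 hp)) q (mem_compl.1 (mem_coe.1 hq))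
        · intro q hq
          obtain ⟨p, hp, e⟩ := hπsurj q (mem_compl.1 (mem_coe.1 hq))
          exact ⟨p, mem_coe.2 (mem_compl.2 hp), e⟩
        · intro p hp
          rw [hbπ p (mem_compl.1 hp), hd0 p (mem_compl.1 hp)]
      rw [e1]
      have e2 := h.orth c hc d0.1 d0.2.1
      rw [← sum_compl_add_sum O (fun i => c i * d0.1 i),
        sum_eq_zero (s := O) (f := fun i => c i * d0.1 i) (fun i hi => by rw [d0.2.2 i hi, mul_zero]),
        add_zero] at e2
      exact e2) hbO
    exact ⟨c', hc, hc', fun p hp => by rw [hout _ (hπO p hp), hbπ p hp]⟩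
  -- pairs
  have hpair : ∀ i ∈ O, ∀ j ∈ O, i ≠ j → ∃ Q : Finset (Fin 24), Q.card = 2 ∧ Q ⊆ O' ∧
      ∃ c c', Rel c c' ∧ part O c = {i, j} ∧ part O' c' = Q := by
    intro i hi j hj hij
    have h2 : ({i, j} : Finset (Fin 24)).card = 2 := card_pair hij
    obtain ⟨d, hd, hdO⟩ := block_meeting h hO (s := {i, j})
      (insert_subset hi (singleton_subset_iff.2 hj)) (Or.inl h2)
    obtain ⟨c', hr⟩ := hlift _ (mem_blocks.1 hd).1
    have hpc : part O (AbstractGolay.ind d) = {i, j} := by rw [part, AbstractGolay.sup_ind, inter_comm, hdO]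
    obtain ⟨c', hr, hle⟩ : ∃ c', Rel (AbstractGolay.ind d) c' ∧ (part O' c').card ≤ 4 := by
      by_cases hle : (part O' c').card ≤ 4
      · exact ⟨c', hr, hle⟩
      · refine ⟨c' + AbstractGolay.ind O', by simpa using radd hr rone, ?_⟩
        rw [part_add, show part O' (AbstractGolay.ind O') = O' by rw [part, AbstractGolay.sup_ind, inter_self],
          symmDiff_of_le (show part O' c' ≤ O' from inter_subset_right), card_sdiff_of_subset (show part O' c' ⊆ O' from inter_subset_right), hO8']
        show 8 - (part O' c').card ≤ 4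
        omega
    have hev := part_card_even h' hO' hr.2.1
    have hne0 : (part O' c').card ≠ 0 := fun h0 => by
      rcases K hr (card_eq_zero.1 h0) with e | e <;> rw [hpc] at e
      · rw [e] at h2; simp at h2
      · rw [e, hO8] at h2; omega
    have hne4 : (part O' c').card ≠ 4 := fun h4 => by
      obtain ⟨d', hd', hdO'⟩ := block_meeting h' hO' (s := part O' c') inter_subset_right (Or.inr h4)
      have hm : c' + AbstractGolay.ind d' ∈ vanishOn C' O' := by
        refine ⟨C'.add_mem hr.2.1 (mem_blocks.1 hd').1, part_zero_iff.1 ?_⟩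
        rw [part_add, show part O' (AbstractGolay.ind d') = part O' c' by
          rw [part, AbstractGolay.sup_ind, inter_comm, hdO'], symmDiff_self]
        rfl
      set c3 := α.symm ⟨_, hm⟩
      set w := AbstractGolay.ind d + c3.1 with hw
      have hwC : w ∈ C := C.add_mem hr.1 c3.2.1
      have hwπ : ∀ p ∉ O, w p = AbstractGolay.ind d' (π p) := fun p hp => by
        have h1 := hπ p hp c3
        rw [LinearEquiv.apply_symm_apply] at h1
        show AbstractGolay.ind d p + c3.1 p = _
        rw [← h1]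
        show _ + (c' (π p) + AbstractGolay.ind d' (π p)) = _
        rw [hr.2.2 p hp, ← add_assoc, two_eq, zero_add]
      have hout : (AbstractGolay.sup w \ O).card = (d' \ O').card := by
        refine card_nbij π ?_ ?_ ?_
        · intro p hp
          obtain ⟨h1, h2'⟩ := mem_sdiff.1 hp
          refine mem_sdiff.2 ⟨?_, hπO p h2'⟩
          by_contra hc
          refine (mem_filter.1 h1).2 ?_
          rw [hwπ p h2', ind_apply, if_neg hc]
        · exact fun p hp q hq => hπinj p (mem_sdiff.1 (mem_coe.1 hp)).2 q (mem_sdiff.1 (mem_coe.1 hq)).2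
        · intro q hq
          obtain ⟨h1, h2'⟩ := mem_sdiff.1 (mem_coe.1 hq)
          obtain ⟨p, hp, rfl⟩ := hπsurj q h2'
          refine ⟨p, mem_coe.2 (mem_sdiff.2 ⟨mem_filter.2 ⟨mem_univ p, ?_⟩, hp⟩), rfl⟩
          rw [hwπ p hp, ind_apply, if_pos h1]
          exact one_ne_zero
      have hin : part O w = {i, j} := by
        rw [hw, part_add, hpc, part_zero_iff.2 c3.2.2]
        exact symmDiff_bot _
      have e1 := card_sdiff_add_card_inter (AbstractGolay.sup w) O
      have e2 := card_sdiff_add_card_inter d' O'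
      rw [inter_comm d' O', hdO', h4, (mem_blocks.1 hd').2] at e2
      rw [hout, show AbstractGolay.sup w ∩ O = {i, j} from hin, h2] at e1
      have hne : w ≠ 0 := fun e => by rw [e] at e1; simp [AbstractGolay.sup] at e1
      have := h.min w hwC hne
      rw [norm_eq] at this
      omega
    exact ⟨part O' c', by omega, inter_subset_right, _, c', hr, hpc, rfl⟩
  choose! ψ hψ2 hψO hψ using hpair
  have hadd3 : ∀ {c c' d d' f f' : V}, Rel c c' → Rel d d' → Rel f f' →
      (part O' c').card = 2 → (part O' d').card = 2 → (part O' f').card = 2 →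
      symmDiff (symmDiff (part O c) (part O d)) (part O f) = ∅ →
      symmDiff (part O' c') (part O' d') = part O' f' := by
    intro c c' d d' f f' hc hd hf c2 d2 f2 hz
    rcases K' (radd (radd hc hd) hf) (by rw [part_add, part_add]; exact hz) with e | e
    · rw [part_add, part_add] at e
      exact symmDiff_eq_bot.1 e
    · exfalso
      have hsd : ∀ A B : Finset (Fin 24), (symmDiff A B).card ≤ A.card + B.card := fun A B =>
        (card_le_card (fun z hz => by
          rw [mem_symmDiff] at hz
          exact hz.elim (fun a => mem_union_left _ a.1) (fun a => mem_union_right _ a.1) :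
            symmDiff A B ⊆ A ∪ B)).trans (card_union_le _ _)
      rw [part_add, part_add] at e
      have h1 := hsd (symmDiff (part O' c') (part O' d')) (part O' f')
      have h2 := hsd (part O' c') (part O' d')
      rw [e, hO8'] at h1
      omega
  have hadj : ∀ p ∈ O, ∀ q ∈ O, ∀ r ∈ O, p ≠ q → p ≠ r → q ≠ r →
      symmDiff (ψ p q) (ψ p r) = ψ q r := by
    intro p hp q hq r hr hpq hpr hqr
    obtain ⟨c, c', hc, e1, e2⟩ := hψ p hp q hq hpq
    obtain ⟨d, d', hd, f1, f2⟩ := hψ p hp r hr hpr
    obtain ⟨f, f', hf, g1, g2⟩ := hψ q hq r hr hqr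
    rw [← e2, ← f2, ← g2]
    refine hadd3 hc hd hf (e2 ▸ hψ2 p hp q hq hpq) (f2 ▸ hψ2 p hp r hr hpr)
      (g2 ▸ hψ2 q hq r hr hqr) ?_
    rw [e1, f1, g1]
    refine symmDiff_eq_bot.2 ?_
    ext z
    simp only [mem_symmDiff, mem_insert, mem_singleton]
    by_cases a : z = p
    · subst a; simp [hpq, hpr]
    by_cases b : z = q
    · subst b; simp [hqr, a]
    simp [a, b]
  have hmeet : ∀ p ∈ O, ∀ q ∈ O, ∀ r ∈ O, p ≠ q → p ≠ r → q ≠ r →
      ∃ a, ψ p q ∩ ψ p r = {a} := by
    intro p hp q hq r hr hpq hpr hqr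
    rw [← card_eq_one]
    have hh := congrArg Finset.card (hadj p hp q hq r hr hpq hpr hqr)
    have e : symmDiff (ψ p q) (ψ p r) = (ψ p q \ ψ p r) ∪ (ψ p r \ ψ p q) := rfl
    rw [e, card_union_of_disjoint disjoint_sdiff_sdiff, hψ2 q hq r hr hqr] at hh
    have := card_sdiff_add_card_inter (ψ p q) (ψ p r)
    have h'' := card_sdiff_add_card_inter (ψ p r) (ψ p q)
    rw [inter_comm (ψ p r)] at h''
    have := hψ2 p hp q hq hpq
    have := hψ2 p hp r hr hpr
    omega
  have hsymm : ∀ p ∈ O, ∀ q ∈ O, p ≠ q → ψ p q = ψ q p := by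
    intro p hp q hq hpq
    obtain ⟨c, c', hc, e1, e2⟩ := hψ p hp q hq hpq
    obtain ⟨d, d', hd, f1, f2⟩ := hψ q hq p hp hpq.symm
    rcases K' (radd hc hd) (by rw [part_add, e1, f1, pair_comm, symmDiff_self]; rfl) with e | e
    · rw [part_add, e2, f2] at e
      exact symmDiff_eq_bot.1 e
    · exfalso
      rw [part_add, e2, f2] at e
      have hle : (symmDiff (ψ p q) (ψ q p)).card ≤ (ψ p q).card + (ψ q p).card :=
        (card_le_card (fun z hz => by
          rw [mem_symmDiff] at hz
          exact hz.elim (fun a => mem_union_left _ a.1) (fun a => mem_union_right _ a.1) :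
            symmDiff (ψ p q) (ψ q p) ⊆ ψ p q ∪ ψ q p)).trans (card_union_le _ _)
      rw [e, hO8', hψ2 p hp q hq hpq, hψ2 q hq p hp hpq.symm] at hle
      omega
  have hstar : ∀ p ∈ O, ∀ q ∈ O, ∀ r ∈ O, ∀ s ∈ O, ∀ a, p ≠ q → p ≠ r → p ≠ s → q ≠ r → q ≠ s →
      r ≠ s → a ∈ ψ p q → a ∈ ψ p r → a ∈ ψ p s := by
    intro p hp q hq r hr s hs a hpq hpr hps hqr hqs hrs haq har
    by_contra has
    obtain ⟨b, hb⟩ := hmeet p hp q hq s hs hpq hps hqs
    obtain ⟨d, hd⟩ := hmeet p hp r hr s hs hpr hps hrs
    obtain ⟨a', ha'⟩ := hmeet p hp q hq r hr hpq hpr hqr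
    have haa : a = a' := mem_singleton.1 (ha' ▸ mem_inter.2 ⟨haq, har⟩)
    have hbq : b ∈ ψ p q ∩ ψ p s := hb ▸ mem_singleton_self b
    have hdr : d ∈ ψ p r ∩ ψ p s := hd ▸ mem_singleton_self d
    rw [mem_inter] at hbq hdr
    have hab : a ≠ b := fun e => has (e ▸ hbq.2)
    have had : a ≠ d := fun e => has (e ▸ hdr.2)
    have hbd : b ≠ d := fun e => hab (haa.trans
      (mem_singleton.1 (ha' ▸ mem_inter.2 ⟨hbq.1, e ▸ hdr.1⟩)).symm)
    have eA : ψ p q = {a, b} := (eq_of_subset_of_card_le
      (insert_subset haq (singleton_subset_iff.2 hbq.1)) (by rw [card_pair hab, hψ2 p hp q hq hpq])).symm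
    have eB : ψ p r = {a, d} := (eq_of_subset_of_card_le
      (insert_subset har (singleton_subset_iff.2 hdr.1)) (by rw [card_pair had, hψ2 p hp r hr hpr])).symm
    have eD : ψ p s = {b, d} := (eq_of_subset_of_card_le
      (insert_subset hbq.2 (singleton_subset_iff.2 hdr.2)) (by rw [card_pair hbd, hψ2 p hp s hs hps])).symm
    obtain ⟨c1, c1', r1, e1, e1'⟩ := hψ p hp q hq hpq
    obtain ⟨c2, c2', r2, e2, e2'⟩ := hψ p hp r hr hpr
    obtain ⟨c3, c3', r3, e3, e3'⟩ := hψ p hp s hs hps
    have hz : part O' (c1' + c2' + c3') = ∅ := by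
      rw [part_add, part_add, e1', e2', e3', eA, eB, eD]
      refine symmDiff_eq_bot.2 ?_
      ext z
      simp only [mem_symmDiff, mem_insert, mem_singleton]
      by_cases u : z = a
      · subst u; simp [hab, had]
      by_cases v : z = b
      · subst v; simp [hbd, u]
      simp [u, v]
    have h4 : part O (c1 + c2 + c3) = {p, q, r, s} := by
      rw [part_add, part_add, e1, e2, e3]
      ext z
      simp only [mem_symmDiff, mem_insert, mem_singleton]
      by_cases u : z = p
      · subst u; simp [hpq, hpr, hps]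
      by_cases v : z = q
      · subst v; simp [hqr, hqs, u]
      by_cases w : z = r
      · subst w; simp [hrs, u, v]
      simp [u, v, w]
    have hcard4 : ({p, q, r, s} : Finset (Fin 24)).card = 4 := by
      rw [card_insert_of_notMem (by simp [hpq, hpr, hps]), card_insert_of_notMem (by simp [hqr, hqs]),
        card_pair hrs]
    rcases K (radd (radd r1 r2) r3) hz with e | e <;> rw [h4] at e <;> rw [e] at hcard4
    · simp at hcard4
    · omega
  have hσ : ∀ p ∈ O, ∃ a, ∀ s ∈ O, p ≠ s → a ∈ ψ p s := by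
    intro p hp
    obtain ⟨q, hq⟩ := card_pos.1 (show 0 < (O.erase p).card by rw [card_erase_of_mem hp, hO8]; norm_num)
    obtain ⟨r, hr⟩ := card_pos.1 (show 0 < ((O.erase p).erase q).card by
      rw [card_erase_of_mem hq, card_erase_of_mem hp, hO8]; norm_num)
    obtain ⟨hqr, hr⟩ := mem_erase.1 hr
    obtain ⟨hqp, hqO⟩ := mem_erase.1 hq
    obtain ⟨hrp, hrO⟩ := mem_erase.1 hr
    obtain ⟨a, ha⟩ := hmeet p hp q hqO r hrO hqp.symm hrp.symm hqr.symm
    have hm : a ∈ ψ p q ∩ ψ p r := ha ▸ mem_singleton_self a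
    rw [mem_inter] at hm
    refine ⟨a, fun s hsO hs => ?_⟩
    rcases eq_or_ne q s with rfl | hqs
    · exact hm.1
    rcases eq_or_ne r s with rfl | hrs
    · exact hm.2
    exact hstar p hp q hqO r hrO s hsO a hqp.symm hrp.symm hs hqr.symm hqs hrs hm.1 hm.2
  choose! σ hσ using hσ
  have hσO : ∀ p ∈ O, σ p ∈ O' := by
    intro p hp
    obtain ⟨q, hq⟩ := card_pos.1 (show 0 < (O.erase p).card by rw [card_erase_of_mem hp, hO8]; norm_num)
    obtain ⟨hqp, hqO⟩ := mem_erase.1 hq
    exact hψO p hp q hqO hqp.symm (hσ p hp q hqO hqp.symm)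
  have hσinj : ∀ p ∈ O, ∀ p' ∈ O, σ p = σ p' → p = p' := by
    intro p hp p' hp' he
    by_contra hne
    obtain ⟨q, hq⟩ := card_pos.1 (show 0 < ((O.erase p).erase p').card by
      rw [card_erase_of_mem (mem_erase.2 ⟨fun e => hne e.symm, hp'⟩), card_erase_of_mem hp, hO8]
      norm_num)
    obtain ⟨hqp', hq⟩ := mem_erase.1 hq
    obtain ⟨hqp, hqO⟩ := mem_erase.1 hq
    have h3 := hσ p hp p' hp' hne
    rw [← hadj q hqO p hp p' hp' hqp hqp' hne, mem_symmDiff] at h3
    have m1 : σ p ∈ ψ q p := hsymm q hqO p hp hqp ▸ hσ p hp q hqO hqp.symm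
    have m2 : σ p ∈ ψ q p' := he ▸ (hsymm q hqO p' hp' hqp' ▸ hσ p' hp' q hqO hqp'.symm)
    exact h3.elim (fun a => a.2 m2) (fun a => a.2 m1)
  have hψval : ∀ p ∈ O, ∀ q ∈ O, p ≠ q → ψ p q = {σ p, σ q} := by
    intro p hp q hq hpq
    refine (eq_of_subset_of_card_le (insert_subset (hσ p hp q hq hpq)
      (singleton_subset_iff.2 (hsymm p hp q hq hpq ▸ hσ q hq p hp hpq.symm))) ?_).symm
    rw [card_pair (fun e => hpq (hσinj p hp q hq e)), hψ2 p hp q hq hpq]
  let f : Fin 24 → Fin 24 := fun p => if p ∈ O then σ p else π p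
  have hfbij : Function.Bijective f := by
    refine (Finite.injective_iff_bijective).1 fun p q he => ?_
    by_cases hp : p ∈ O <;> by_cases hq : q ∈ O <;> simp only [f, hp, hq, if_true, if_false] at he
    · exact hσinj p hp q hq he
    · exact absurd (he ▸ hσO p hp) (hπO q hq)
    · exact absurd (he ▸ hσO q hq) (hπO p hp)
    · exact hπinj p hp q hq he
  let e := Equiv.ofBijective f hfbij
  -- every word of `C` is carried into `C'`
  have hmove : ∀ c ∈ C, (fun i => c (e.symm i)) ∈ C' := by
    let φ : V →ₗ[ZMod 2] V := LinearMap.funLeft (ZMod 2) (ZMod 2) e.symm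
    suffices H : ∀ n, ∀ c ∈ C, (part O c).card ≤ n → φ c ∈ C' from fun c hc => H _ c hc le_rfl
    have hval : ∀ (c : V) (p : Fin 24), φ c (f p) = c p := fun c p => by
      show c (e.symm (e p)) = c p
      rw [Equiv.symm_apply_apply]
    intro n
    induction n with
    | zero =>
      intro c hc hn
      have h0 := part_zero_iff.1 (card_eq_zero.1 (Nat.le_zero.1 hn))
      have : φ c = (α ⟨c, hc, h0⟩).1 := by
        funext q
        obtain ⟨p, rfl⟩ := hfbij.2 q
        rw [hval]
        by_cases hp : p ∈ O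
        · rw [h0 p hp, show f p = σ p from if_pos hp, (α ⟨c, hc, h0⟩).2.2 _ (hσO p hp)]
        · rw [show f p = π p from if_neg hp, hπ p hp]
      rw [this]
      exact (α ⟨c, hc, h0⟩).2.1
    | succ n ih =>
      intro c hc hn
      by_cases hsm : (part O c).card ≤ n
      · exact ih c hc hsm
      have hev := part_card_even h hO hc
      obtain ⟨i, hi, j, hj, hij⟩ := one_lt_card.1 (show 1 < (part O c).card by omega)
      obtain ⟨d, d', hd, d1, d2⟩ := hψ i (mem_part.1 hi).2 j (mem_part.1 hj).2 hij
      have hφd : φ d = d' := by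
        funext q
        obtain ⟨p, rfl⟩ := hfbij.2 q
        rw [hval]
        by_cases hp : p ∈ O
        · rw [show f p = σ p from if_pos hp]
          have hiff : p ∈ part O d ↔ σ p ∈ part O' d' := by
            rw [d1, d2, hψval i (mem_part.1 hi).2 j (mem_part.1 hj).2 hij]
            simp only [mem_insert, mem_singleton]
            exact or_congr ⟨congrArg σ, hσinj p hp i (mem_part.1 hi).2⟩
              ⟨congrArg σ, hσinj p hp j (mem_part.1 hj).2⟩
          rw [mem_part, mem_part, and_iff_left hp, and_iff_left (hσO p hp)] at hiff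
          rcases z2 (d p) with a | a <;> rcases z2 (d' (σ p)) with b | b <;> simp_all
        · rw [show f p = π p from if_neg hp, hd.2.2 p hp]
      have hlt : (part O (c + d)).card ≤ n := by
        rw [part_add, d1, symmDiff_of_ge (insert_subset hi (singleton_subset_iff.2 hj)),
          card_sdiff_of_subset (insert_subset hi (singleton_subset_iff.2 hj)), card_pair hij]
        omega
      have := C'.add_mem (ih _ (C.add_mem hc hd.1) hlt) (hφd ▸ hd.2.1 : φ d ∈ C')
      rwa [← map_add, add_assoc, vtwo, add_zero] at this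
  refine ⟨e, fun w => ⟨fun hw => ?_, fun hw => ?_⟩⟩
  · let φ : ↥C → ↥C' := fun c => ⟨fun i => c.1 (e.symm i), hmove c.1 c.2⟩
    have hφinj : Function.Injective φ := fun a b hab => Subtype.ext (funext fun i => by
      have := congrFun (congrArg Subtype.val hab) (e i)
      simpa [φ] using this)
    have hsurj : Function.Surjective φ := by
      refine ((Nat.bijective_iff_injective_and_card φ).2 ⟨hφinj, ?_⟩).2
      rw [Module.natCard_eq_pow_finrank (K := ZMod 2) (V := ↥C),
        Module.natCard_eq_pow_finrank (K := ZMod 2) (V := ↥C'), h.dim, h'.dim]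
    obtain ⟨c, hc⟩ := hsurj ⟨w, hw⟩
    have : (fun i => w (e i)) = c.1 := funext fun i => by
      rw [← show (φ c).1 = w from congrArg Subtype.val hc]
      show c.1 (e.symm (e i)) = _
      rw [Equiv.symm_apply_apply]
    rw [this]
    exact c.2
  · have := hmove _ hw
    simpa using this

end Cfsg.Agent.GolayUnique70
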