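import Cfsg.Agent.Lib.GoldRadius82Near

/-!
The kernel of the ball of radius `r`: a central element in it is the involution of the centre, and
for radius two and three its order is at most eight.
-/

set_option autoImplicit false
set_option linter.all false

namespace Cfsg.Agent.GoldRadius82

open Subgroup
open GoldschmidtS3 (G ker zedge)

variable {X V : Type*} [Group X] [MulAction X V]

/-- Counting cosets through a map. -/
theorem card_le_mul {T : Type*} [Finite T] {H L : Subgroup X} [Finite L] (f : X → T)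
    (hf : ∀ g ∈ H, ∀ k ∈ H, f g = f k → g⁻¹ * k ∈ L) {N : ℕ}
    (hN : Nat.card (f '' (H : Set X)) ≤ N) : Nat.card H ≤ N * Nat.card L := by
  classical
  have hr : ∀ t : f '' (H : Set X), ∃ g ∈ H, f g = t.1 := fun t => t.2
  choose rep hrep hfrep using hr
  let F : H → (f '' (H : Set X)) × L := fun g =>
    (⟨f g, Set.mem_image_of_mem f g.2⟩,
      ⟨(rep ⟨f g, Set.mem_image_of_mem f g.2⟩)⁻¹ * g, hf _ (hrep _) _ g.2 (hfrep _)⟩)
  have hF : Function.Injective F := by
    intro g k h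
    simp only [F, Prod.mk.injEq, Subtype.mk.injEq] at h
    obtain ⟨h1, h2⟩ := h
    apply Subtype.ext
    have e : rep ⟨f g, Set.mem_image_of_mem f g.2⟩ = rep ⟨f k, Set.mem_image_of_mem f k.2⟩ := by
      congr 1; exact Subtype.ext h1
    rw [e] at h2
    exact mul_left_cancel h2
  haveI : Finite (f '' (H : Set X)) := Finite.of_injective Subtype.val Subtype.val_injective
  calc Nat.card H ≤ Nat.card ((f '' (H : Set X)) × L) := Nat.card_le_card_of_injective F hF
    _ = Nat.card (f '' (H : Set X)) * Nat.card L := Nat.card_prod _ _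
    _ ≤ N * Nat.card L := Nat.mul_le_mul_right _ hN

/-- A set of bit vectors closed under sums and missing one vector is at most half. -/
theorem half_le {ι : Type*} [Finite ι] (S : Set (ι → Bool))
    (hS : ∀ v ∈ S, ∀ w ∈ S, (fun i => xor (v i) (w i)) ∈ S) (e : ι → Bool) (he : e ∉ S) :
    2 * Nat.card S ≤ Nat.card (ι → Bool) := by
  let F : S × Bool → (ι → Bool) := fun p => if p.2 then fun i => xor (p.1.1 i) (e i) else p.1.1
  have hF : Function.Injective F := by
    rintro ⟨v, a⟩ ⟨w, b⟩ h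
    cases a <;> cases b <;> simp [F] at h
    · simp [Subtype.ext h]
    · exfalso; apply he
      have := hS _ v.2 _ w.2
      rwa [h, show (fun i => xor (xor (w.1 i) (e i)) (w.1 i)) = e from
        funext fun i => by cases w.1 i <;> cases e i <;> rfl] at this
    · exfalso; apply he
      have := hS _ v.2 _ w.2
      rwa [← h, show (fun i => xor (v.1 i) (xor (v.1 i) (e i))) = e from
        funext fun i => by cases v.1 i <;> cases e i <;> rfl] at this
    · have : v = w := Subtype.ext (funext fun i => by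
        have hi := congrFun h i
        simpa using hi)
      simp [this]
  have := Nat.card_le_card_of_injective F hF
  rw [Nat.card_prod, Nat.card_eq_fintype_card (α := Bool), Fintype.card_bool] at this
  omega

/-- A vertex of the orbit with its three branches. -/
structure Frame (D : Data X V) where
  m : V
  hm : D.B m
  α : Fin 3 → V
  p : Fin 3 → V
  q : Fin 3 → V
  hα : ∀ i, D.Γ.Adj m (α i)
  hp : ∀ i, D.Γ.Adj (α i) (p i)
  hq : ∀ i, D.Γ.Adj (α i) (q i)
  hpm : ∀ i, p i ≠ m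
  hqm : ∀ i, q i ≠ m
  hpq : ∀ i, p i ≠ q i
  inj : Function.Injective α
  all : ∀ ν, D.Γ.Adj m ν → ∃ i, ν = α i
  allc : ∀ i ν, D.Γ.Adj (α i) ν → ν = m ∨ ν = p i ∨ ν = q i

namespace Data

variable (D : Data X V)
include D

theorem exists_frame {m α0 : V} (hm : D.B m) (h : D.Γ.Adj m α0) :
    ∃ F : Frame D, F.m = m ∧ F.α 0 = α0 := by
  obtain ⟨a1, a2, h1, h2, n1, n2, n3, hall⟩ := D.three m α0 h
  let A : Fin 3 → V := ![α0, a1, a2]
  have hA : ∀ i, D.Γ.Adj m (A i) := by intro i; fin_cases i <;> assumption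
  have hch : ∀ i, ∃ p q, D.Γ.Adj (A i) p ∧ D.Γ.Adj (A i) q ∧ p ≠ m ∧ q ≠ m ∧ p ≠ q ∧
      ∀ ν, D.Γ.Adj (A i) ν → ν = m ∨ ν = p ∨ ν = q := fun i => by
    obtain ⟨p, q, hp, hq, e1, e2, e3, he⟩ := D.three (A i) m (hA i).symm
    exact ⟨p, q, hp, hq, e1.symm, e2.symm, e3, he⟩
  choose p q hp hq hpm hqm hpq hc using hch
  refine ⟨⟨m, hm, A, p, q, hA, hp, hq, hpm, hqm, hpq, ?_, fun ν hν => ?_, hc⟩, rfl, rfl⟩
  · intro i j hij
    fin_cases i <;> fin_cases j <;> simp_all [A]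
  · rcases hall ν hν with e | e | e
    · exact ⟨0, e⟩
    · exact ⟨1, e⟩
    · exact ⟨2, e⟩

theorem mv_two' {x : ℕ → V} (hp : IsPath D.Γ x 2) : D.Mv x 2 := by
  obtain ⟨t, ht, htn⟩ := D.exists_nbr_ker (hp.1 1 (by omega)).symm
  refine ⟨t, fun i hi => ?_, htn⟩
  interval_cases i
  · exact ht.2 _ (hp.1 0 (by omega)).symm
  · exact ht.1
  · exact ht.2 _ (hp.1 1 (by omega))

theorem tr_three' : D.Tr 3 := D.tr_succ (by omega) D.tr_two fun _ hx => D.mv_two' hx

theorem K_eq_of_bits {n : ℕ} {m : V} {g : X} (hg : g ∈ K X D.Γ n m)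
    (h : ∀ x : ℕ → V, x 0 = m → IsPath D.Γ x n → g ∈ (ker D.Γ (x n) : Subgroup X)) :
    g ∈ K X D.Γ (n + 1) m := by
  by_contra hn
  obtain ⟨x, h0, hp, hk⟩ := exists_path hg hn
  exact hk (h x h0 hp)

theorem K_le_edge {n : ℕ} {α m : V} (hn : 1 ≤ n) (h : D.Γ.Adj α m) :
    K X D.Γ n m ≤ G X α ⊓ G X m := fun g hg =>
  ⟨GoldschmidtS3.mem_G.mpr ((K_ker hn hg).2 α h.symm), GoldschmidtS3.mem_G.mpr (K_fix hg)⟩

variable (h2 : IsPGroup 2 (G X D.a ⊓ G X D.b : Subgroup X))
include h2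

theorem edge_pgroup {α m : V} (h : D.Γ.Adj α m) (hm : D.B m) :
    IsPGroup 2 (G X α ⊓ G X m : Subgroup X) := by
  have hp1 : IsPath D.Γ (cons D.b fun _ => D.a) 1 :=
    IsPath.cons ⟨fun i hi => absurd hi (Nat.not_lt_zero i), fun i hi => absurd hi (by omega)⟩
      D.hab.symm (by omega)
  have hp2 : IsPath D.Γ (cons m fun _ => α) 1 :=
    IsPath.cons ⟨fun i hi => absurd hi (Nat.not_lt_zero i), fun i hi => absurd hi (by omega)⟩
      h.symm (by omega)
  obtain ⟨g, hg⟩ := D.tr_one _ _ hp2 hp1 (iff_of_true hm D.B_b)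
  have gm : g • m = D.b := hg 0 (by omega)
  have ga : g • α = D.a := hg 1 le_rfl
  refine h2.of_injective
    { toFun := fun x => ⟨g * x.1 * g⁻¹, ⟨ga ▸ (GoldschmidtS3.mem_G_smul α).mpr x.2.1,
        gm ▸ (GoldschmidtS3.mem_G_smul m).mpr x.2.2⟩⟩
      map_one' := Subtype.ext (by simp)
      map_mul' := fun x y => Subtype.ext (by simp [mul_assoc]) } fun x y hxy => ?_
  exact Subtype.ext ((MulAut.conj g).injective (congrArg Subtype.val hxy))

/-- A nontrivial subgroup normalised by an edge stabiliser meets the edge centre. -/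
theorem socle {α m : V} (h : D.Γ.Adj α m) (hm : D.B m) {N : Subgroup X}
    (hN : N ≤ G X α ⊓ G X m)
    (hnorm : ∀ g ∈ G X α ⊓ G X m, ∀ z ∈ N, g * z * g⁻¹ ∈ N) (hne : N ≠ ⊥) :
    ∃ z ∈ N, z ≠ 1 ∧ z ∈ (zedge α m : Subgroup X) := by
  haveI := D.fin m
  haveI : Finite (G X α ⊓ G X m : Subgroup X) := D.finite_of_le inf_le_right
  haveI : Finite N := D.finite_of_le (hN.trans inf_le_right)
  have hU := D.edge_pgroup h2 h hm
  letI : MulAction (G X α ⊓ G X m : Subgroup X) N :=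
    { smul := fun g z => ⟨g.1 * z.1 * g.1⁻¹, hnorm _ g.2 _ z.2⟩
      one_smul := fun z => Subtype.ext (by show (1 : X) * z.1 * (1 : X)⁻¹ = z.1; group)
      mul_smul := fun g k z => Subtype.ext (by
        show g.1 * k.1 * z.1 * (g.1 * k.1)⁻¹ = g.1 * (k.1 * z.1 * k.1⁻¹) * g.1⁻¹; group) }
  have hdvd : 2 ∣ Nat.card N := by
    have hN2 : IsPGroup 2 N := hU.to_le hN
    obtain ⟨k, hk⟩ := hN2.exists_card_eq
    rcases Nat.eq_zero_or_pos k with rfl | hk'
    · exact absurd (Subgroup.eq_bot_of_card_eq N (by simpa using hk)) hne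
    · rw [hk]; exact dvd_pow_self 2 hk'.ne'
  obtain ⟨z, hz, hz1⟩ := hU.exists_fixed_point_of_prime_dvd_card_of_fixed_point N hdvd
    (a := 1) (fun g => Subtype.ext (by show g.1 * (1 : X) * g.1⁻¹ = 1; group))
  obtain ⟨k, hk⟩ := hU ⟨z.1, hN z.2⟩
  have hk' : z.1 ^ 2 ^ k = 1 := by simpa using congrArg Subtype.val hk
  have key : ∀ k, ∀ w : X, w ∈ N → w ≠ 1 → w ^ 2 ^ k = 1 →
      (∀ g ∈ G X α ⊓ G X m, g * w = w * g) →
      ∃ v ∈ N, v ≠ 1 ∧ v ∈ (zedge α m : Subgroup X) := by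
    intro k
    induction k with
    | zero => intro w _ h1 h2' _; exact absurd (by simpa using h2') h1
    | succ k ih =>
      intro w hw h1 h2' hc
      by_cases hs : w * w = 1
      · exact ⟨w, hw, h1, hN hw, hs, fun t ht => (hc t ht).symm⟩
      · refine ih (w * w) (mul_mem hw hw) hs (by rw [← h2', pow_succ', pow_mul, pow_two]) ?_
        exact fun g hg => ((show Commute g w from hc g hg).mul_right (hc g hg)).eq
  refine key k z.1 z.2 (fun e => hz1 (Subtype.ext e.symm)) hk' fun g hg => ?_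
  exact mul_inv_eq_iff_eq_mul.mp (congrArg Subtype.val (hz ⟨g, hg⟩))

theorem K_bot {m : V} (hm : D.B m) {g : X} (hg : g ∈ K X D.Γ (D.r + 1) m) : g = 1 := by
  obtain ⟨α, hα⟩ := D.nbr m
  by_contra hne
  have hb : K X D.Γ (D.r + 1) m ≠ ⊥ := fun e => hne (by rwa [e, mem_bot] at hg)
  obtain ⟨z, hz, hz1, hze⟩ := D.socle h2 hα.symm hm (D.K_le_edge (by omega) hα.symm)
    (fun t ht z hz => D.K_normal (GoldschmidtS3.mem_G.mp ht.2) hz) hb
  exact hz1 (D.K_top' hα.symm hm hze hz)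

/-- Elements of the last ball kernel moving the same vertices are equal. -/
theorem eq_of_bits {m : V} (hm : D.B m) {g k : X} (hg : g ∈ K X D.Γ D.r m)
    (hk : k ∈ K X D.Γ D.r m)
    (h : ∀ x : ℕ → V, x 0 = m → IsPath D.Γ x D.r →
      (g ∈ (ker D.Γ (x D.r) : Subgroup X) ↔ k ∈ (ker D.Γ (x D.r) : Subgroup X))) : g = k := by
  rw [← inv_mul_eq_one]
  refine D.K_bot h2 hm (D.K_eq_of_bits (mul_mem (inv_mem hg) hk) fun x h0 hp => ?_)
  by_cases hgx : g ∈ (ker D.Γ (x D.r) : Subgroup X)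
  · exact mul_mem (inv_mem hgx) ((h x h0 hp).mp hgx)
  · have hr := D.two_le
    have hadj : D.Γ.Adj (x D.r) (x (D.r - 1)) := by
      have := (hp.1 (D.r - 1) (by omega)).symm
      rwa [show D.r - 1 + 1 = D.r by omega] at this
    exact D.mul_ker hadj (fix_path' hp (h0 ▸ inv_mem hg) le_rfl le_rfl)
      (fix_path' hp (h0 ▸ inv_mem hg) (by omega) (by omega)) (fix_path' hp (h0 ▸ hk) le_rfl le_rfl)
      (fix_path' hp (h0 ▸ hk) (by omega) (by omega)) (fun c => hgx (inv_mem_iff.mp c))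
      (fun c => hgx ((h x h0 hp).mpr c))

theorem Kr_sq {m : V} (hm : D.B m) {g : X} (hg : g ∈ K X D.Γ D.r m) : g * g = 1 := by
  have e : g⁻¹ = g := D.eq_of_bits h2 hm (inv_mem hg) hg fun x _ _ => inv_mem_iff
  calc g * g = g⁻¹ * g := by rw [e]
    _ = 1 := inv_mul_cancel g

theorem Kr_comm {m : V} (hm : D.B m) {g k : X} (hg : g ∈ K X D.Γ D.r m)
    (hk : k ∈ K X D.Γ D.r m) : g * k = k * g := by
  have := D.Kr_sq h2 hm (mul_mem hg hk)
  rw [mul_eq_one_iff_eq_inv, mul_inv_rev] at this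
  rwa [inv_eq_of_mul_eq_one_right (D.Kr_sq h2 hm hg),
    inv_eq_of_mul_eq_one_right (D.Kr_sq h2 hm hk)] at this

variable (hT : D.Tr D.r)
include hT

/-- The involution of the centre moves every vertex at distance `r`. -/
theorem av_bit {x : ℕ → V} (hp : IsPath D.Γ x D.r) (hb : D.B (x 0)) :
    D.av (x 0) ∉ (ker D.Γ (x D.r) : Subgroup X) := by
  have hnot : D.c ∉ K X D.Γ (D.r + 1) D.b := fun h => D.c_ne (D.max_r D.c D.c_sq D.c_comm h)
  obtain ⟨u, h0, hu, hk⟩ := exists_path D.c_ball hnot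
  obtain ⟨g, hg⟩ := hT u x hu hp (iff_of_true (h0 ▸ D.B_b) hb)
  rw [← hg 0 (Nat.zero_le _), ← hg D.r le_rfl, D.av_smul g (h0 ▸ D.B_b), D.ker_conj, h0, D.av_b]
  exact hk

/-- The edge centre meets the last ball kernel in the involution of the centre. -/
theorem zedge_Kr {α m : V} (h : D.Γ.Adj α m) (hm : D.B m) {z : X}
    (hz : z ∈ (zedge α m : Subgroup X)) (hk : z ∈ K X D.Γ D.r m) : z = 1 ∨ z = D.av m := by
  have hc := D.edge_central α m h hm z hz
  by_cases hall : ∀ x : ℕ → V, x 0 = m → IsPath D.Γ x D.r → z ∉ (ker D.Γ (x D.r) : Subgroup X)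
  · exact Or.inr (D.eq_of_bits h2 hm hk (D.av_ball hm) fun x h0 hp =>
      iff_of_false (hall x h0 hp) (h0 ▸ D.av_bit h2 hT hp (h0 ▸ hm)))
  · push Not at hall
    obtain ⟨u, hu0, hu, huk⟩ := hall
    refine Or.inl (D.K_bot h2 hm (D.K_eq_of_bits hk fun x h0 hp => ?_))
    obtain ⟨g, hg⟩ := hT u x hu hp (iff_of_true (hu0 ▸ hm) (h0 ▸ hm))
    have hgm : g • m = m := by
      have := hg 0 (Nat.zero_le _)
      rwa [hu0, h0] at this
    rw [← hg D.r le_rfl]
    have := (D.ker_conj (g := g)).mpr huk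
    rwa [hc g (GoldschmidtS3.mem_G.mpr hgm), mul_inv_cancel_right] at this

theorem fixed_Kr {α m : V} (h : D.Γ.Adj α m) (hm : D.B m) {z : X}
    (hk : z ∈ K X D.Γ D.r m) (hc : ∀ g, g • α = α → g • m = m → g * z * g⁻¹ = z) :
    z = 1 ∨ z = D.av m := by
  have hr := D.two_le
  exact D.zedge_Kr h2 hT h hm ⟨D.K_le_edge (by omega) h hk, D.Kr_sq h2 hm hk, fun t ht =>
    (mul_inv_eq_iff_eq_mul.mp
      (hc t (GoldschmidtS3.mem_G.mp ht.1) (GoldschmidtS3.mem_G.mp ht.2))).symm⟩ hk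

end Data

namespace Frame

variable {D : Data X V} (F : Frame D)
include F

theorem Bp (i : Fin 3) : D.B (F.p i) := D.B_two (F.hα i) (F.hp i) F.hm

theorem Bq (i : Fin 3) : D.B (F.q i) := D.B_two (F.hα i) (F.hq i) F.hm

theorem ker_iff {g : X} :
    g ∈ (ker D.Γ F.m : Subgroup X) ↔ g • F.m = F.m ∧ ∀ i, g • F.α i = F.α i := by
  constructor
  · exact fun h => ⟨h.1, fun i => h.2 _ (F.hα i)⟩
  · rintro ⟨h1, h2⟩
    refine ⟨h1, fun ν hν => ?_⟩
    obtain ⟨i, rfl⟩ := F.all ν hν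
    exact h2 i

theorem K_two {g : X} : g ∈ K X D.Γ 2 F.m ↔
    g ∈ (ker D.Γ F.m : Subgroup X) ∧ ∀ i, g ∈ (ker D.Γ (F.α i) : Subgroup X) := by
  constructor
  · exact fun h => ⟨K_ker (by omega) h, fun i => K_one.mp (K_step h (F.hα i))⟩
  · rintro ⟨h1, h2⟩
    refine mem_K_succ.mpr ⟨h1.1, fun ν hν => ?_⟩
    obtain ⟨i, rfl⟩ := F.all ν hν
    exact K_one.mpr (h2 i)

/-- The other two branches. -/
theorem others (i : Fin 3) : ∃ j k, i ≠ j ∧ i ≠ k ∧ j ≠ k ∧ ∀ l, l = i ∨ l = j ∨ l = k := by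
  fin_cases i
  · exact ⟨1, 2, by decide, by decide, by decide, by decide⟩
  · exact ⟨0, 2, by decide, by decide, by decide, by decide⟩
  · exact ⟨0, 1, by decide, by decide, by decide, by decide⟩

theorem swap (i : Fin 3) : ∃ t : X, t • F.m = F.m ∧ t • F.α i = F.α i ∧
    t ∉ (ker D.Γ F.m : Subgroup X) ∧ ∀ j k, i ≠ j → i ≠ k → j ≠ k → t • F.α j = F.α k := by
  obtain ⟨t, t0, t1, tk⟩ := D.exists_swap (F.hα i)
  exact ⟨t, t0, t1, tk, fun j k hij hik hjk => D.move_eq (F.hα i) (F.hα j) (F.hα k)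
    (fun e => hij (F.inj e)) (fun e => hik (F.inj e)) (fun e => hjk (F.inj e)) t0 t1 tk⟩

theorem rotate (i j : Fin 3) : ∃ g : X, g • F.m = F.m ∧ g • F.α i = F.α j := by
  by_cases e : i = j
  · exact ⟨1, one_smul _ _, by rw [one_smul, e]⟩
  obtain ⟨k, l, hik, hil, hkl, hall⟩ := F.others i
  rcases hall j with rfl | rfl | rfl
  · exact absurd rfl e
  · obtain ⟨t, t0, -, -, tt⟩ := F.swap l
    exact ⟨t, t0, tt i j hil.symm hkl.symm e⟩
  · obtain ⟨t, t0, -, -, tt⟩ := F.swap k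
    exact ⟨t, t0, tt i j hik.symm hkl e⟩

end Frame

/-- A group of elements of the last ball kernel whose bits are read in pairs, branch by branch:
`e g i` is the sum of the two representative bits in branch `i`, `s g i` the first of them. -/
structure Bits (D : Data X V) (F : Frame D) where
  e : X → Fin 3 → Bool
  s : X → Fin 3 → Bool
  add_e : ∀ g ∈ K X D.Γ D.r F.m, ∀ k ∈ K X D.Γ D.r F.m, ∀ i, e (g * k) i = xor (e g i) (e k i)
  add_s : ∀ g ∈ K X D.Γ D.r F.m, ∀ k ∈ K X D.Γ D.r F.m, ∀ i, s (g * k) i = xor (s g i) (s k i)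
  faith : ∀ g ∈ K X D.Γ D.r F.m, (∀ i, e g i = false) → (∀ i, s g i = false) → g = 1
  av_s : ∀ i, s (D.av F.m) i = true
  pat : ∀ g ∈ K X D.Γ D.r F.m, ∀ (h : X) i j, h • F.m = F.m → h • F.α i = F.α j →
    e g i = e (h * g * h⁻¹) j ∧ (e g i = false → s g i = s (h * g * h⁻¹) j)

namespace Bits

variable {D : Data X V} {F : Frame D} (Bt : Bits D F)
  (h2 : IsPGroup 2 (G X D.a ⊓ G X D.b : Subgroup X)) (hT : D.Tr D.r)
include Bt h2 hT

theorem e_one (i : Fin 3) : Bt.e 1 i = false := by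
  have h := Bt.add_e 1 (one_mem _) 1 (one_mem _) i
  rw [mul_one] at h
  revert h; cases Bt.e 1 i <;> simp

theorem s_one (i : Fin 3) : Bt.s 1 i = false := by
  have h := Bt.add_s 1 (one_mem _) 1 (one_mem _) i
  rw [mul_one] at h
  revert h; cases Bt.s 1 i <;> simp

theorem e_av (i : Fin 3) : Bt.e (D.av F.m) i = Bt.e (D.av F.m) 0 := by
  obtain ⟨g, g0, g1⟩ := F.rotate i 0
  have := (Bt.pat _ (D.av_ball F.hm) g i 0 g0 g1).1
  rwa [D.comm_of_fix F.hm g0, mul_inv_cancel_right] at this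

theorem conj_mem {g h : X} (hg : g ∈ K X D.Γ D.r F.m) (h0 : h • F.m = F.m) :
    h * g * h⁻¹ ∈ K X D.Γ D.r F.m := D.K_normal h0 hg

/-- Elements without differences are the involution of the centre or trivial. -/
theorem pattern {g : X} (hg : g ∈ K X D.Γ D.r F.m) (he : ∀ i, Bt.e g i = false) :
    g = 1 ∨ g = D.av F.m := by
  obtain ⟨t, t0, t1, tk, -⟩ := F.swap 0
  have hker : ∀ h : X, h ∈ (ker D.Γ F.m : Subgroup X) → ∀ g ∈ K X D.Γ D.r F.m,
      (∀ i, Bt.e g i = false) → h * g * h⁻¹ = g := by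
    intro h hh g hg he
    have hc := Bt.conj_mem h2 hT hg hh.1
    have hgg : g * (h * g * h⁻¹) = 1 := Bt.faith _ (mul_mem hg hc) (fun i => by
      rw [Bt.add_e _ hg _ hc, ← (Bt.pat g hg h i i hh.1 (hh.2 _ (F.hα i))).1, he i]; rfl) (fun i => by
      rw [Bt.add_s _ hg _ hc, ← (Bt.pat g hg h i i hh.1 (hh.2 _ (F.hα i))).2 (he i), Bool.xor_self])
    rw [eq_inv_of_mul_eq_one_right hgg, inv_eq_of_mul_eq_one_right (D.Kr_sq h2 F.hm hg)]
  set x := g * (t * g * t⁻¹) with hx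
  have hc := Bt.conj_mem h2 hT hg t0
  have hxm : x ∈ K X D.Γ D.r F.m := mul_mem hg hc
  have hce : ∀ i, Bt.e (t * g * t⁻¹) i = false := fun i => by
    obtain ⟨l, hl⟩ := F.all (t⁻¹ • F.α i) (D.nbr_smul (inv_smul_eq_iff.mpr t0.symm) (F.hα i))
    rw [← (Bt.pat g hg t l i t0 (inv_smul_eq_iff.mp hl).symm).1, he l]
  have hxe : ∀ i, Bt.e x i = false := fun i => by
    rw [hx, Bt.add_e _ hg _ hc, he i, hce i]; rfl
  have htt : t * (t * g * t⁻¹) * t⁻¹ = g := by
    rw [show t * (t * g * t⁻¹) * t⁻¹ = (t * t) * g * (t * t)⁻¹ by group]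
    exact hker _ (D.mul_ker (F.hα 0) t0 t1 t0 t1 tk tk) g hg he
  have hxt : t * x * t⁻¹ = x := by
    rw [hx, show t * (g * (t * g * t⁻¹)) * t⁻¹ = (t * g * t⁻¹) * (t * (t * g * t⁻¹) * t⁻¹) by group,
      htt, D.Kr_comm h2 F.hm hc hg]
  have hxU : ∀ h, h • F.α 0 = F.α 0 → h • F.m = F.m → h * x * h⁻¹ = x := by
    intro h ha hm
    by_cases hh : h ∈ (ker D.Γ F.m : Subgroup X)
    · exact hker h hh x hxm hxe
    · have := hker _ (D.mul_ker (F.hα 0) hm ha t0 t1 hh tk) x hxm hxe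
      rwa [show h * t * x * (h * t)⁻¹ = h * (t * x * t⁻¹) * h⁻¹ by group, hxt] at this
  have hs0 : Bt.s x 0 = false := by
    rw [hx, Bt.add_s _ hg _ hc, ← (Bt.pat g hg t 0 0 t0 t1).2 (he 0), Bool.xor_self]
  rcases D.fixed_Kr h2 hT (F.hα 0).symm F.hm hxm hxU with e | e
  · have hgt : t * g * t⁻¹ = g := by
      rw [hx] at e
      rw [eq_inv_of_mul_eq_one_right e, inv_eq_of_mul_eq_one_right (D.Kr_sq h2 F.hm hg)]
    refine D.fixed_Kr h2 hT (F.hα 0).symm F.hm hg fun h ha hm => ?_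
    by_cases hh : h ∈ (ker D.Γ F.m : Subgroup X)
    · exact hker h hh g hg he
    · have := hker _ (D.mul_ker (F.hα 0) hm ha t0 t1 hh tk) g hg he
      rwa [show h * t * g * (h * t)⁻¹ = h * (t * g * t⁻¹) * h⁻¹ by group, hgt] at this
  · rw [e, Bt.av_s] at hs0
    exact absurd hs0 (by simp)

/-- The kernel of the differences has two elements, so the whole is bounded by their images. -/
theorem card_le {N : ℕ} (hN : Nat.card (Bt.e '' (K X D.Γ D.r F.m : Set X)) ≤ N) :
    Nat.card (K X D.Γ D.r F.m) ≤ N * 2 := by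
  haveI := D.fin F.m
  let L : Subgroup X := zpowers (D.av F.m)
  have hL : Nat.card L ≤ 2 := by
    rw [Nat.card_zpowers]
    exact Nat.le_of_dvd (by norm_num) (orderOf_dvd_of_pow_eq_one (by rw [pow_two, D.av_sq F.hm]))
  haveI : Finite L := D.finite_of_le (v := F.m)
    (zpowers_le.mpr (GoldschmidtS3.mem_G.mpr (K_fix (D.av_ball F.hm))))
  refine le_trans (card_le_mul (L := L) Bt.e ?_ hN) (Nat.mul_le_mul_left _ hL)
  intro g hg k hk h
  have hm := mul_mem (inv_mem hg) hk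
  have he : ∀ i, Bt.e (g⁻¹ * k) i = false := fun i => by
    have h1 := Bt.add_e _ hg _ hm i
    rw [mul_inv_cancel_left, h] at h1
    revert h1; cases Bt.e k i <;> cases Bt.e (g⁻¹ * k) i <;> simp
  rcases Bt.pattern h2 hT hm he with e | e <;> rw [e]
  · exact one_mem _
  · exact mem_zpowers _

/-- The last ball kernel has order at most eight. -/
theorem card_le_eight : Nat.card (K X D.Γ D.r F.m) ≤ 8 := by
  haveI := D.fin F.m
  haveI := D.K_finite (n := D.r) F.m
  set W := K X D.Γ D.r F.m with hW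
  have hcl : ∀ v ∈ Bt.e '' (W : Set X), ∀ w ∈ Bt.e '' (W : Set X),
      (fun i => xor (v i) (w i)) ∈ Bt.e '' (W : Set X) := by
    rintro v ⟨g, hg, rfl⟩ w ⟨k, hk, rfl⟩
    exact ⟨g * k, mul_mem hg hk, funext (Bt.add_e g hg k hk)⟩
  by_cases hall : ∀ i, (fun j => decide (j = i)) ∈ Bt.e '' (W : Set X)
  · -- every element is fixed by the kernel of the centre
    choose w hw hwe using hall
    have hfix : ∀ i, ∀ h ∈ (ker D.Γ F.m : Subgroup X), h * w i * h⁻¹ = w i := by
      intro i h hh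
      have hc := Bt.conj_mem h2 hT (hw i) hh.1
      have he : ∀ j, Bt.e (w i * (h * w i * h⁻¹)) j = false := fun j => by
        rw [Bt.add_e _ (hw i) _ hc, ← (Bt.pat _ (hw i) h j j hh.1 (hh.2 _ (F.hα j))).1, Bool.xor_self]
      rcases Bt.pattern h2 hT (mul_mem (hw i) hc) he with e | e
      · rw [eq_inv_of_mul_eq_one_right e, inv_eq_of_mul_eq_one_right (D.Kr_sq h2 F.hm (hw i))]
      · exfalso
        obtain ⟨j, -, hij, -, -, -⟩ := F.others i
        have hz : Bt.e (w i) j = false := by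
          rw [congrFun (hwe i) j]; simp [hij.symm]
        have := Bt.add_s _ (hw i) _ hc j
        rw [e, Bt.av_s, ← (Bt.pat _ (hw i) h j j hh.1 (hh.2 _ (F.hα j))).2 hz, Bool.xor_self] at this
        exact absurd this (by simp)
    have hQ : ∀ g ∈ W, ∀ h ∈ (ker D.Γ F.m : Subgroup X), h * g * h⁻¹ = g := by
      intro g hg h hh
      let pick : Fin 3 → X := fun i => if Bt.e g i = true then w i else 1
      have hp : ∀ i, pick i ∈ W ∧ h * pick i * h⁻¹ = pick i ∧
          ∀ j, Bt.e (pick i) j = (Bt.e g i && decide (j = i)) := fun i => by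
        simp only [pick]
        split_ifs with hi
        · exact ⟨hw i, hfix i h hh, fun j => by rw [congrFun (hwe i) j, hi, Bool.true_and]⟩
        · exact ⟨one_mem _, by group, fun j => by
            rw [Bt.e_one h2 hT, Bool.eq_false_iff.mpr hi, Bool.false_and]⟩
      obtain ⟨m0, f0, e0⟩ := hp 0
      obtain ⟨m1, f1, e1⟩ := hp 1
      obtain ⟨m2, f2, e2⟩ := hp 2
      set z := pick 0 * pick 1 * pick 2 with hz
      have zm : z ∈ W := mul_mem (mul_mem m0 m1) m2
      have zf : h * z * h⁻¹ = z := by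
        rw [hz, show h * (pick 0 * pick 1 * pick 2) * h⁻¹ =
          (h * pick 0 * h⁻¹) * (h * pick 1 * h⁻¹) * (h * pick 2 * h⁻¹) by group, f0, f1, f2]
      have hgz : ∀ j, Bt.e (g * z) j = false := fun j => by
        rw [Bt.add_e _ hg _ zm, hz, Bt.add_e _ (mul_mem m0 m1) _ m2, Bt.add_e _ m0 _ m1, e0, e1, e2]
        fin_cases j <;> simp
      have hgf : h * (g * z) * h⁻¹ = g * z := by
        rcases Bt.pattern h2 hT (mul_mem hg zm) hgz with e | e <;> rw [e]
        · group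
        · rw [D.comm_of_fix F.hm hh.1, mul_inv_cancel_right]
      rw [show h * (g * z) * h⁻¹ = h * g * h⁻¹ * (h * z * h⁻¹) by group, zf] at hgf
      exact mul_right_cancel hgf
    obtain ⟨t, t0, t1, tk, -⟩ := F.swap 0
    haveI : Finite (zpowers (D.av F.m)) := D.finite_of_le (v := F.m)
      (zpowers_le.mpr (GoldschmidtS3.mem_G.mpr (K_fix (D.av_ball F.hm))))
    have hfixed : ∀ g ∈ W, t * g * t⁻¹ = g → g = 1 ∨ g = D.av F.m := fun g hg hgt =>
      D.fixed_Kr h2 hT (F.hα 0).symm F.hm hg fun h ha hm => by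
        by_cases hh : h ∈ (ker D.Γ F.m : Subgroup X)
        · exact hQ g hg h hh
        · have := hQ g hg _ (D.mul_ker (F.hα 0) hm ha t0 t1 hh tk)
          rwa [show h * t * g * (h * t)⁻¹ = h * (t * g * t⁻¹) * h⁻¹ by group, hgt] at this
    have himg : ∀ g ∈ W, g * (t * g * t⁻¹) = 1 ∨ g * (t * g * t⁻¹) = D.av F.m := by
      intro g hg
      have hc := Bt.conj_mem h2 hT hg t0
      refine hfixed _ (mul_mem hg hc) ?_
      rw [show t * (g * (t * g * t⁻¹)) * t⁻¹ = (t * g * t⁻¹) * ((t * t) * g * (t * t)⁻¹) by group,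
        hQ g hg _ (D.mul_ker (F.hα 0) t0 t1 t0 t1 tk tk), D.Kr_comm h2 F.hm hc hg]
    have hcard : Nat.card W ≤ 2 * Nat.card (zpowers (D.av F.m)) := by
      classical
      refine card_le_mul (L := zpowers (D.av F.m))
        (fun g => decide (g * (t * g * t⁻¹) = 1)) ?_ ?_
      · intro g hg k hk hgk
        simp only [decide_eq_decide] at hgk
        have hprod : g * (t * g * t⁻¹) = k * (t * k * t⁻¹) := by
          rcases himg g hg with e | e <;> rcases himg k hk with e' | e'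
          · rw [e, e']
          · exact absurd (e'.symm.trans (hgk.mp e)) (D.av_ne F.hm)
          · exact absurd (e.symm.trans (hgk.mpr e')) (D.av_ne F.hm)
          · rw [e, e']
        have hginv := inv_eq_of_mul_eq_one_right (D.Kr_sq h2 F.hm hg)
        have hk2 : t * (g⁻¹ * k) * t⁻¹ = g⁻¹ * k := by
          rw [hginv]
          calc t * (g * k) * t⁻¹ = g * (g * (t * g * t⁻¹)) * (t * k * t⁻¹) := by
                rw [← mul_assoc g g, D.Kr_sq h2 F.hm hg]; group
            _ = g * k * ((t * k * t⁻¹) * (t * k * t⁻¹)) := by rw [hprod]; group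
            _ = g * k := by rw [D.Kr_sq h2 F.hm (Bt.conj_mem h2 hT hk t0), mul_one]
        rcases hfixed _ (mul_mem (inv_mem hg) hk) hk2 with e | e <;> rw [e]
        · exact one_mem _
        · exact mem_zpowers _
      · refine le_trans (Nat.card_le_card_of_injective Subtype.val Subtype.val_injective) ?_
        simp
    have hz : Nat.card (zpowers (D.av F.m)) ≤ 2 := by
      rw [Nat.card_zpowers]
      exact Nat.le_of_dvd (by norm_num) (orderOf_dvd_of_pow_eq_one (by rw [pow_two, D.av_sq F.hm]))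
    omega
  · push Not at hall
    obtain ⟨i, hi⟩ := hall
    have := half_le _ hcl _ hi
    rw [Nat.card_fun, Nat.card_eq_fintype_card (α := Bool), Fintype.card_bool, Nat.card_fin] at this
    have h4 : Nat.card (Bt.e '' (W : Set X)) ≤ 4 := by omega
    exact le_trans (Bt.card_le h2 hT h4) (by norm_num)

end Bits

end Cfsg.Agent.GoldRadius82
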