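import Cfsg.Agent.Lib.GoldschmidtS3Graph

/-!
A group acting locally 2-transitively on a cubic graph with one orbit of vertices carrying a central
involution: balls, paths, transitivity on paths, and the involution attached to a vertex.
-/

set_option autoImplicit false
set_option linter.all false

namespace Cfsg.Agent.GoldRadius82

open Subgroup
open GoldschmidtS3 (G ker zedge)

variable {X V : Type*} [Group X] [MulAction X V]

/-- The elements fixing the ball of radius `n` about `v`. -/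
def K (X : Type*) {V : Type*} [Group X] [MulAction X V] (Γ : SimpleGraph V) : ℕ → V → Subgroup X
  | 0, v => G X v
  | n + 1, v => G X v ⊓ ⨅ (μ : V) (_ : Γ.Adj v μ), K X Γ n μ

variable {Γ : SimpleGraph V}

theorem mem_K_zero {g : X} {v : V} : g ∈ K X Γ 0 v ↔ g • v = v := MulAction.mem_stabilizer_iff

theorem mem_K_succ {g : X} {n : ℕ} {v : V} :
    g ∈ K X Γ (n + 1) v ↔ g • v = v ∧ ∀ μ, Γ.Adj v μ → g ∈ K X Γ n μ := by
  simp only [K, Subgroup.mem_inf, GoldschmidtS3.mem_G, Subgroup.mem_iInf]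

theorem K_fix {g : X} : ∀ {n : ℕ} {v : V}, g ∈ K X Γ n v → g • v = v
  | 0, _, h => mem_K_zero.mp h
  | _ + 1, _, h => (mem_K_succ.mp h).1

theorem K_one {g : X} {v : V} : g ∈ K X Γ 1 v ↔ g ∈ (ker Γ v : Subgroup X) := by
  rw [mem_K_succ]
  constructor
  · exact fun h => ⟨h.1, fun μ hμ => mem_K_zero.mp (h.2 μ hμ)⟩
  · exact fun h => ⟨h.1, fun μ hμ => mem_K_zero.mpr (h.2 μ hμ)⟩

theorem K_step {g : X} {n : ℕ} {v w : V} (hg : g ∈ K X Γ (n + 1) v) (hw : Γ.Adj v w) :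
    g ∈ K X Γ n w := (mem_K_succ.mp hg).2 w hw

theorem K_succ_le {g : X} : ∀ {n : ℕ} {v : V}, g ∈ K X Γ (n + 1) v → g ∈ K X Γ n v
  | 0, _, h => mem_K_zero.mpr (K_fix h)
  | n + 1, v, h => mem_K_succ.mpr ⟨K_fix h, fun μ hμ => K_succ_le (K_step h hμ)⟩

theorem K_mono {g : X} {m n : ℕ} (h : m ≤ n) {v : V} (hg : g ∈ K X Γ n v) : g ∈ K X Γ m v := by
  induction n, h using Nat.le_induction with
  | base => exact hg
  | succ k _ ih => exact ih (K_succ_le hg)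

theorem K_ker {g : X} {n : ℕ} (h : 1 ≤ n) {v : V} (hg : g ∈ K X Γ n v) :
    g ∈ (ker Γ v : Subgroup X) := K_one.mp (K_mono h hg)

/-- A path without backtracking. -/
def IsPath (Γ : SimpleGraph V) (x : ℕ → V) (n : ℕ) : Prop :=
  (∀ i, i < n → Γ.Adj (x i) (x (i + 1))) ∧ ∀ i, i + 2 ≤ n → x i ≠ x (i + 2)

theorem IsPath.mono {x : ℕ → V} {m n : ℕ} (hp : IsPath Γ x n) (h : m ≤ n) : IsPath Γ x m :=
  ⟨fun i hi => hp.1 i (by omega), fun i hi => hp.2 i (by omega)⟩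

theorem IsPath.shift {x : ℕ → V} {k n : ℕ} (hp : IsPath Γ x (k + n)) :
    IsPath Γ (fun i => x (k + i)) n :=
  ⟨fun i hi => hp.1 (k + i) (by omega), fun i hi => hp.2 (k + i) (by omega)⟩

theorem IsPath.reverse {x : ℕ → V} {n : ℕ} (hp : IsPath Γ x n) :
    IsPath Γ (fun i => x (n - i)) n := by
  refine ⟨fun i hi => ?_, fun i hi => ?_⟩
  · have h := hp.1 (n - (i + 1)) (by omega)
    rw [show n - (i + 1) + 1 = n - i by omega] at h
    exact h.symm
  · have h := hp.2 (n - (i + 2)) (by omega)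
    rw [show n - (i + 2) + 2 = n - i by omega] at h
    exact h.symm

/-- Prepend a vertex. -/
def cons (v : V) (x : ℕ → V) : ℕ → V
  | 0 => v
  | i + 1 => x i

/-- Replace the vertex in position `n` and beyond. -/
def snoc (x : ℕ → V) (n : ℕ) (v : V) : ℕ → V := fun i => if i < n then x i else v

theorem snoc_lt {x : ℕ → V} {n i : ℕ} {v : V} (h : i < n) : snoc x n v i = x i := if_pos h

theorem snoc_eq {x : ℕ → V} {n : ℕ} {v : V} : snoc x n v n = v := if_neg (lt_irrefl n)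

theorem IsPath.cons {x : ℕ → V} {n : ℕ} (hp : IsPath Γ x n) {v : V} (hv : Γ.Adj v (x 0))
    (hne : 1 ≤ n → v ≠ x 1) : IsPath Γ (GoldRadius82.cons v x) (n + 1) := by
  refine ⟨fun i hi => ?_, fun i hi => ?_⟩
  · cases i with
    | zero => exact hv
    | succ i => exact hp.1 i (by omega)
  · cases i with
    | zero => exact hne (by omega)
    | succ i => exact hp.2 i (by omega)

theorem IsPath.snoc {x : ℕ → V} {n : ℕ} (hp : IsPath Γ x n) {v : V} (hv : Γ.Adj (x n) v)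
    (hne : ∀ i, i + 1 = n → v ≠ x i) : IsPath Γ (GoldRadius82.snoc x (n + 1) v) (n + 1) := by
  refine ⟨fun i hi => ?_, fun i hi => ?_⟩
  · rcases Nat.lt_succ_iff_lt_or_eq.mp hi with h | rfl
    · rw [snoc_lt (by omega), snoc_lt (by omega)]
      exact hp.1 i h
    · rw [snoc_lt (by omega), snoc_eq]
      exact hv
  · rcases Nat.lt_or_eq_of_le hi with h | h
    · rw [snoc_lt (by omega), snoc_lt (by omega)]
      exact hp.2 i (by omega)
    · rw [snoc_lt (by omega), show i + 2 = n + 1 from h, snoc_eq]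
      exact (hne i (by omega)).symm

theorem fix_path {g : X} {x : ℕ → V} {n m : ℕ} (hp : IsPath Γ x m) (hg : g ∈ K X Γ n (x 0)) :
    ∀ j, j ≤ n → j ≤ m → g ∈ K X Γ (n - j) (x j) := by
  intro j
  induction j with
  | zero => exact fun _ _ => hg
  | succ j ih =>
    intro h1 h2
    have h := ih (by omega) (by omega)
    rw [show n - j = n - (j + 1) + 1 by omega] at h
    exact K_step h (hp.1 j (by omega))

theorem fix_path' {g : X} {x : ℕ → V} {n m j : ℕ} (hp : IsPath Γ x m)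
    (hg : g ∈ K X Γ n (x 0)) (h1 : j ≤ n) (h2 : j ≤ m) : g • x j = x j :=
  K_fix (fix_path hp hg j h1 h2)

/-- An element fixing a ball but not the next one moves a neighbour of the end of some path. -/
theorem exists_path {g : X} : ∀ {n : ℕ} {v : V}, g ∈ K X Γ n v → g ∉ K X Γ (n + 1) v →
    ∃ x : ℕ → V, x 0 = v ∧ IsPath Γ x n ∧ g ∉ (ker Γ (x n) : Subgroup X)
  | 0, v, _, hn =>
    ⟨fun _ => v, rfl, ⟨fun i hi => absurd hi (Nat.not_lt_zero i), fun i hi => absurd hi (by omega)⟩,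
      fun h => hn (K_one.mpr h)⟩
  | n + 1, v, hg, hn => by
    obtain ⟨μ, hμ, hμn⟩ : ∃ μ, Γ.Adj v μ ∧ g ∉ K X Γ (n + 1) μ := by
      by_contra hc
      push Not at hc
      exact hn (mem_K_succ.mpr ⟨K_fix hg, hc⟩)
    obtain ⟨y, hy0, hyp, hyn⟩ := exists_path (K_step hg hμ) hμn
    refine ⟨cons v y, rfl, hyp.cons (hy0 ▸ hμ) fun h1 e => ?_, hyn⟩
    have hg' : g ∈ K X Γ (n + 1) (y (1 + 0)) := e ▸ hg
    have h2 := fix_path (x := fun i => y (1 + i)) (m := n - 1)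
      (IsPath.shift (k := 1) (hyp.mono (show 1 + (n - 1) ≤ n by omega))) hg' (n - 1)
      (by omega) le_rfl
    rw [show n + 1 - (n - 1) = 2 by omega] at h2
    simp only [show 1 + (n - 1) = n by omega] at h2
    exact hyn (K_ker (by omega) h2)

/-- The hypotheses. -/
structure Data (X V : Type*) [Group X] [MulAction X V] where
  Γ : SimpleGraph V
  b : V
  a : V
  hab : Γ.Adj a b
  c : X
  r : ℕ
  adj_smul : ∀ (g : X) {u v : V}, Γ.Adj u v → Γ.Adj (g • u) (g • v)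
  fin : ∀ v : V, Finite (G X v)
  three : ∀ δ μ : V, Γ.Adj δ μ → ∃ p p', Γ.Adj δ p ∧ Γ.Adj δ p' ∧ μ ≠ p ∧ μ ≠ p' ∧ p ≠ p' ∧
    ∀ ν, Γ.Adj δ ν → ν = μ ∨ ν = p ∨ ν = p'
  nbr : ∀ v : V, ∃ μ, Γ.Adj v μ
  trans2 : ∀ δ μ ν μ' ν' : V, Γ.Adj δ μ → Γ.Adj δ ν → Γ.Adj δ μ' → Γ.Adj δ ν' → μ ≠ ν → μ' ≠ ν' →
    ∃ g ∈ G X δ, g • μ = μ' ∧ g • ν = ν'
  cent : ∀ δ : V, ∀ g ∈ G X δ, (∀ q ∈ (ker Γ δ : Subgroup X), g * q = q * g) → g ∈ ker Γ δ
  faithful : ∀ δ μ : V, Γ.Adj δ μ → ∀ N : Subgroup X, N ≤ G X δ ⊓ G X μ →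
    G X δ ≤ normalizer (N : Set X) → G X μ ≤ normalizer (N : Set X) → N = ⊥
  bip : ∀ u v : V, Γ.Adj u v → ((∃ g : X, g • b = u) ↔ ¬ ∃ g : X, g • b = v)
  edge_central : ∀ α m : V, Γ.Adj α m → (∃ g : X, g • b = m) →
    ∀ z ∈ (zedge α m : Subgroup X), ∀ g ∈ G X m, g * z = z * g
  two_le : 2 ≤ r
  c_ne : c ≠ 1
  c_sq : c * c = 1
  c_comm : ∀ g ∈ G X b, g * c = c * g
  c_ball : c ∈ K X Γ r b
  max_r : ∀ z : X, z * z = 1 → (∀ g ∈ G X b, g * z = z * g) → z ∈ K X Γ (r + 1) b → z = 1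

namespace Data

variable (D : Data X V)

/-- The vertices of the orbit of `b`. -/
def B (v : V) : Prop := ∃ g : X, g • D.b = v

theorem B_b : D.B D.b := ⟨1, one_smul _ _⟩

theorem B_adj {u v : V} (h : D.Γ.Adj u v) : D.B u ↔ ¬ D.B v := D.bip u v h

theorem B_smul {g : X} {v : V} : D.B (g • v) ↔ D.B v := by
  constructor
  · rintro ⟨k, hk⟩; exact ⟨g⁻¹ * k, by rw [mul_smul, hk, inv_smul_smul]⟩
  · rintro ⟨k, rfl⟩; exact ⟨g * k, mul_smul _ _ _⟩

theorem B_path {x : ℕ → V} {n : ℕ} (hp : IsPath D.Γ x n) : ∀ j, j ≤ n →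
    (D.B (x j) ↔ (D.B (x 0) ↔ Even j)) := by
  intro j
  induction j with
  | zero => intro _; simp
  | succ j ih =>
    intro hj
    have h1 := ih (by omega)
    have h2 := D.B_adj (hp.1 j (by omega))
    rw [Nat.even_add_one]
    tauto

theorem adj_iff (g : X) {u v : V} : D.Γ.Adj (g • u) (g • v) ↔ D.Γ.Adj u v := by
  refine ⟨fun h => ?_, D.adj_smul g⟩
  have := D.adj_smul g⁻¹ h
  rwa [inv_smul_smul, inv_smul_smul] at this

theorem K_conj' {g z : X} : ∀ {n : ℕ} {v : V}, z ∈ K X D.Γ n v →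
    g * z * g⁻¹ ∈ K X D.Γ n (g • v) := by
  intro n
  induction n with
  | zero =>
    intro v h
    exact mem_K_zero.mpr (by rw [mul_smul, inv_smul_smul, mul_smul, mem_K_zero.mp h])
  | succ n ih =>
    intro v h
    obtain ⟨h1, h2⟩ := mem_K_succ.mp h
    refine mem_K_succ.mpr ⟨by rw [mul_smul, inv_smul_smul, mul_smul, h1], fun μ hμ => ?_⟩
    have h3 := ih (h2 (g⁻¹ • μ) ((D.adj_iff g).mp (by rwa [smul_inv_smul])))
    rwa [smul_inv_smul] at h3

theorem K_conj {g z : X} {n : ℕ} {v : V} :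
    g * z * g⁻¹ ∈ K X D.Γ n (g • v) ↔ z ∈ K X D.Γ n v := by
  refine ⟨fun h => ?_, D.K_conj'⟩
  have := D.K_conj' (g := g⁻¹) h
  rwa [inv_smul_smul, show g⁻¹ * (g * z * g⁻¹) * g⁻¹⁻¹ = z by group] at this

theorem ker_conj {g z : X} {v : V} :
    g * z * g⁻¹ ∈ (ker D.Γ (g • v) : Subgroup X) ↔ z ∈ (ker D.Γ v : Subgroup X) := by
  rw [← K_one, ← K_one, D.K_conj]

theorem K_normal {g z : X} {n : ℕ} {v : V} (hg : g • v = v) (hz : z ∈ K X D.Γ n v) :
    g * z * g⁻¹ ∈ K X D.Γ n v := by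
  have := D.K_conj' (g := g) hz
  rwa [hg] at this

theorem nbr_smul {g : X} {δ μ : V} (hg : g • δ = δ) (hμ : D.Γ.Adj δ μ) : D.Γ.Adj δ (g • μ) := by
  have := D.adj_smul g hμ
  rwa [hg] at this

/-- Two neighbours distinct from a third are equal to one another or exhaust the rest. -/
theorem pick {δ μ p q ν : V} (hμ : D.Γ.Adj δ μ) (hp : D.Γ.Adj δ p) (hq : D.Γ.Adj δ q)
    (hν : D.Γ.Adj δ ν) (hμp : μ ≠ p) (hμq : μ ≠ q) (hpq : p ≠ q) : ν = μ ∨ ν = p ∨ ν = q := by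
  obtain ⟨e, e', -, -, -, -, -, hall⟩ := D.three δ μ hμ
  rcases hall p hp with h1 | h1 | h1 <;> rcases hall q hq with h2 | h2 | h2 <;>
    rcases hall ν hν with h3 | h3 | h3 <;> simp_all

theorem exists_third {δ μ p : V} (hμ : D.Γ.Adj δ μ) (hp : D.Γ.Adj δ p) (h : μ ≠ p) :
    ∃ q, D.Γ.Adj δ q ∧ μ ≠ q ∧ p ≠ q := by
  obtain ⟨e, e', he, he', hμe, hμe', hee, hall⟩ := D.three δ μ hμ
  rcases hall p hp with rfl | rfl | rfl
  · exact absurd rfl h
  · exact ⟨e', he', hμe', hee⟩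
  · exact ⟨e, he, hμe, hee.symm⟩

theorem exists_other {δ μ : V} (hμ : D.Γ.Adj δ μ) : ∃ p, D.Γ.Adj δ p ∧ p ≠ μ := by
  obtain ⟨e, e', he, -, hμe, -⟩ := D.three δ μ hμ
  exact ⟨e, he, hμe.symm⟩

theorem ker_of_fix {g : X} {δ μ p : V} (hμ : D.Γ.Adj δ μ) (hp : D.Γ.Adj δ p) (hμp : μ ≠ p)
    (h0 : g • δ = δ) (h1 : g • μ = μ) (h2 : g • p = p) : g ∈ (ker D.Γ δ : Subgroup X) := by
  obtain ⟨q, hq, hμq, hpq⟩ := D.exists_third hμ hp hμp
  have hq' : g • q = q := by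
    rcases D.pick hμ hp hq (D.nbr_smul h0 hq) hμp hμq hpq with e | e | e
    · exact absurd (smul_left_cancel g (e.trans h1.symm)) hμq.symm
    · exact absurd (smul_left_cancel g (e.trans h2.symm)) hpq.symm
    · exact e
  exact ⟨h0, fun ν hν => by rcases D.pick hμ hp hq hν hμp hμq hpq with rfl | rfl | rfl <;> assumption⟩

/-- An element outside the kernel fixing a neighbour moves the other two. -/
theorem move {g : X} {δ μ p : V} (hμ : D.Γ.Adj δ μ) (hp : D.Γ.Adj δ p) (hμp : μ ≠ p)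
    (h0 : g • δ = δ) (h1 : g • μ = μ) (hk : g ∉ (ker D.Γ δ : Subgroup X)) : g • p ≠ p :=
  fun e => hk (D.ker_of_fix hμ hp hμp h0 h1 e)

theorem move_eq {g : X} {δ μ p q : V} (hμ : D.Γ.Adj δ μ) (hp : D.Γ.Adj δ p) (hq : D.Γ.Adj δ q)
    (hμp : μ ≠ p) (hμq : μ ≠ q) (hpq : p ≠ q)
    (h0 : g • δ = δ) (h1 : g • μ = μ) (hk : g ∉ (ker D.Γ δ : Subgroup X)) : g • p = q := by
  rcases D.pick hμ hp hq (D.nbr_smul h0 hp) hμp hμq hpq with e | e | e
  · exact absurd (smul_left_cancel g (e.trans h1.symm)) hμp.symm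
  · exact absurd e (D.move hμ hp hμp h0 h1 hk)
  · exact e

theorem mul_ker {g k : X} {δ μ : V} (hμ : D.Γ.Adj δ μ) (g0 : g • δ = δ) (g1 : g • μ = μ)
    (k0 : k • δ = δ) (k1 : k • μ = μ) (hg : g ∉ (ker D.Γ δ : Subgroup X))
    (hk : k ∉ (ker D.Γ δ : Subgroup X)) : g * k ∈ (ker D.Γ δ : Subgroup X) := by
  obtain ⟨p, hp, hpμ⟩ := D.exists_other hμ
  obtain ⟨q, hq, hμq, hpq⟩ := D.exists_third hμ hp hpμ.symm
  refine D.ker_of_fix hμ hp hpμ.symm (by rw [mul_smul, k0, g0]) (by rw [mul_smul, k1, g1]) ?_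
  rw [mul_smul, D.move_eq hμ hp hq hpμ.symm hμq hpq k0 k1 hk,
    D.move_eq hμ hq hp hμq hpμ.symm hpq.symm g0 g1 hg]

theorem exists_swap {δ μ : V} (hμ : D.Γ.Adj δ μ) :
    ∃ t : X, t • δ = δ ∧ t • μ = μ ∧ t ∉ (ker D.Γ δ : Subgroup X) := by
  obtain ⟨p, hp, hpμ⟩ := D.exists_other hμ
  obtain ⟨q, hq, hμq, hpq⟩ := D.exists_third hμ hp hpμ.symm
  obtain ⟨g, hg, e1, e2⟩ := D.trans2 δ μ p μ q hμ hp hμ hq hpμ.symm hμq
  exact ⟨g, GoldschmidtS3.mem_G.mp hg, e1, fun hk => hpq ((hk.2 p hp).symm.trans e2)⟩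

/-- An edge stabiliser and one further element generate a vertex stabiliser. -/
theorem gen {H : Subgroup X} {δ μ : V} (hμ : D.Γ.Adj δ μ) (hT : G X δ ⊓ G X μ ≤ H) {k : X}
    (hk : k • δ = δ) (hkμ : k • μ ≠ μ) (hkH : k ∈ H) : G X δ ≤ H := by
  intro g hg
  by_cases hgμ : g • μ = μ
  · exact hT ⟨hg, GoldschmidtS3.mem_G.mpr hgμ⟩
  · obtain ⟨t, ht, htμ, htk⟩ := D.trans2 δ μ (k • μ) μ (g • μ) hμ (D.nbr_smul hk hμ) hμ
      (D.nbr_smul (GoldschmidtS3.mem_G.mp hg) hμ) (Ne.symm hkμ) (Ne.symm hgμ)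
    have htH : t ∈ H := hT ⟨ht, GoldschmidtS3.mem_G.mpr htμ⟩
    have h1 : (t * k)⁻¹ * g ∈ H := hT ⟨(G X δ).mul_mem ((G X δ).inv_mem ((G X δ).mul_mem ht
      (GoldschmidtS3.mem_G.mpr hk))) hg, GoldschmidtS3.mem_G.mpr (by
      rw [mul_smul, inv_smul_eq_iff, mul_smul, htk])⟩
    have := H.mul_mem (H.mul_mem htH hkH) h1
    rwa [mul_inv_cancel_left] at this

/-- No nontrivial subgroup inside an edge stabiliser is normalised by an element of each end that moves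
the other, and by the edge stabiliser. -/
theorem no_normal {N : Subgroup X} {δ μ : V} (hμ : D.Γ.Adj δ μ) (hN : N ≤ G X δ ⊓ G X μ)
    (hU : G X δ ⊓ G X μ ≤ normalizer (N : Set X))
    (h1 : ∃ k ∈ normalizer (N : Set X), k • δ = δ ∧ k • μ ≠ μ)
    (h2 : ∃ k ∈ normalizer (N : Set X), k • μ = μ ∧ k • δ ≠ δ) : N = ⊥ := by
  obtain ⟨k, hk, k0, k1⟩ := h1
  obtain ⟨l, hl, l0, l1⟩ := h2
  exact D.faithful δ μ hμ N hN (D.gen hμ hU k0 k1 hk)
    (D.gen hμ.symm (inf_comm (G X δ) (G X μ) ▸ hU) l0 l1 hl)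

/-- Transitivity on paths of length `n`. -/
def Tr (n : ℕ) : Prop :=
  ∀ x y : ℕ → V, IsPath D.Γ x n → IsPath D.Γ y n → (D.B (x 0) ↔ D.B (y 0)) →
    ∃ g : X, ∀ i, i ≤ n → g • x i = y i

/-- Some element fixing the path moves a neighbour of its end. -/
def Mv (x : ℕ → V) (n : ℕ) : Prop :=
  ∃ g : X, (∀ i, i ≤ n → g • x i = x i) ∧ g ∉ (ker D.Γ (x n) : Subgroup X)

theorem mv_smul {x y : ℕ → V} {n : ℕ} {g : X} (hg : ∀ i, i ≤ n → g • x i = y i)
    (h : D.Mv x n) : D.Mv y n := by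
  obtain ⟨k, hk, hkn⟩ := h
  refine ⟨g * k * g⁻¹, fun i hi => ?_, fun hc => hkn (D.ker_conj.mp ((hg n le_rfl).symm ▸ hc))⟩
  rw [← hg i hi, mul_smul, inv_smul_smul, mul_smul, hk i hi]

theorem mv_suffix {x : ℕ → V} {k n : ℕ} (h : D.Mv x (k + n)) : D.Mv (fun i => x (k + i)) n := by
  obtain ⟨g, hg, hgn⟩ := h
  exact ⟨g, fun i hi => hg _ (by omega), hgn⟩

theorem mv_of_mv {n : ℕ} (hT : D.Tr n) {x y : ℕ → V} (hx : IsPath D.Γ x n) (hy : IsPath D.Γ y n)
    (hB : D.B (x 0) ↔ D.B (y 0)) (h : D.Mv x n) : D.Mv y n := by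
  obtain ⟨g, hg⟩ := hT x y hx hy hB
  exact D.mv_smul hg h

theorem tr_succ {n : ℕ} (hn : 1 ≤ n) (hT : D.Tr n)
    (hM : ∀ x : ℕ → V, IsPath D.Γ x n → D.Mv x n) : D.Tr (n + 1) := by
  intro x y hx hy hB
  obtain ⟨g, hg⟩ := hT x y (hx.mono (by omega)) (hy.mono (by omega)) hB
  have hgn := hg n le_rfl
  have hgp := hg (n - 1) (by omega)
  have hadj : D.Γ.Adj (y n) (g • x (n + 1)) := by
    rw [← hgn]; exact D.adj_smul g (hx.1 n (by omega))
  have hprev : D.Γ.Adj (y n) (y (n - 1)) := by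
    have := hy.1 (n - 1) (by omega)
    rw [show n - 1 + 1 = n by omega] at this
    exact this.symm
  have hne1 : y (n - 1) ≠ g • x (n + 1) := by
    rw [← hgp]
    intro e
    have := hx.2 (n - 1) (by omega)
    rw [show n - 1 + 2 = n + 1 by omega] at this
    exact this (smul_left_cancel g e)
  have hne2 : y (n - 1) ≠ y (n + 1) := by
    have := hy.2 (n - 1) (by omega)
    rwa [show n - 1 + 2 = n + 1 by omega] at this
  by_cases e : g • x (n + 1) = y (n + 1)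
  · refine ⟨g, fun i hi => ?_⟩
    rcases Nat.lt_or_eq_of_le hi with h | rfl
    · exact hg i (by omega)
    · exact e
  · obtain ⟨k, hk, hkn⟩ := hM y (hy.mono (by omega))
    refine ⟨k * g, fun i hi => ?_⟩
    rcases Nat.lt_or_eq_of_le hi with h | rfl
    · rw [mul_smul, hg i (by omega), hk i (by omega)]
    · rw [mul_smul]
      exact D.move_eq hprev hadj (hy.1 n (by omega)) hne1 hne2 e (hk n le_rfl) (hk (n - 1) (by omega)) hkn

theorem tr_one : D.Tr 1 := by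
  intro x y hx hy hB
  have key : ∃ g : X, g • x 0 = y 0 := by
    by_cases hb : D.B (x 0)
    · obtain ⟨k, hk⟩ := hb
      obtain ⟨l, hl⟩ := hB.mp ⟨k, hk⟩
      exact ⟨l * k⁻¹, by rw [mul_smul, ← hk, inv_smul_smul, hl]⟩
    · obtain ⟨k, hk⟩ : D.B (x 1) := by
        by_contra h1
        exact hb ((D.B_adj (hx.1 0 (by omega))).mpr h1)
      obtain ⟨l, hl⟩ : D.B (y 1) := by
        by_contra h1
        exact hb (hB.mpr ((D.B_adj (hy.1 0 (by omega))).mpr h1))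
      set g := l * k⁻¹ with hgdef
      have hg1 : g • x 1 = y 1 := by rw [hgdef, mul_smul, ← hk, inv_smul_smul, hl]
      have ha1 : D.Γ.Adj (y 1) (g • x 0) := by rw [← hg1]; exact D.adj_smul g (hx.1 0 (by omega)).symm
      have ha2 : D.Γ.Adj (y 1) (y 0) := (hy.1 0 (by omega)).symm
      obtain ⟨p, hp, hpn⟩ := D.exists_other ha1
      obtain ⟨q, hq, hqn⟩ := D.exists_other ha2
      obtain ⟨t, -, ht, -⟩ := D.trans2 (y 1) _ p _ q ha1 hp ha2 hq hpn.symm hqn.symm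
      exact ⟨t * g, by rw [mul_smul, ht]⟩
  obtain ⟨g, hg⟩ := key
  have ha1 : D.Γ.Adj (y 0) (g • x 1) := by rw [← hg]; exact D.adj_smul g (hx.1 0 (by omega))
  have ha2 : D.Γ.Adj (y 0) (y 1) := hy.1 0 (by omega)
  obtain ⟨p, hp, hpn⟩ := D.exists_other ha1
  obtain ⟨q, hq, hqn⟩ := D.exists_other ha2
  obtain ⟨t, ht0, ht, -⟩ := D.trans2 (y 0) _ p _ q ha1 hp ha2 hq hpn.symm hqn.symm
  refine ⟨t * g, fun i hi => ?_⟩
  interval_cases i
  · rw [mul_smul, hg, GoldschmidtS3.mem_G.mp ht0]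
  · rw [mul_smul, ht]

theorem tr_two : D.Tr 2 := by
  refine D.tr_succ le_rfl D.tr_one fun x hx => ?_
  obtain ⟨t, t0, t1, tk⟩ := D.exists_swap (hx.1 0 (by omega)).symm
  refine ⟨t, fun i hi => ?_, tk⟩
  interval_cases i <;> assumption

open scoped Classical in
/-- The involution of a vertex in the orbit of `b`. -/
noncomputable def av (v : V) : X := if h : D.B v then h.choose * D.c * h.choose⁻¹ else 1

theorem av_smul_b (g : X) : D.av (g • D.b) = g * D.c * g⁻¹ := by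
  have h : D.B (g • D.b) := ⟨g, rfl⟩
  rw [av, dif_pos h]
  have e := h.choose_spec
  set k := h.choose
  have hm : g⁻¹ * k ∈ G X D.b := GoldschmidtS3.mem_G.mpr (by rw [mul_smul, e, inv_smul_smul])
  calc k * D.c * k⁻¹ = g * (g⁻¹ * k * D.c) * k⁻¹ := by group
    _ = g * (D.c * (g⁻¹ * k)) * k⁻¹ := by rw [D.c_comm _ hm]
    _ = g * D.c * g⁻¹ := by group

theorem av_smul (g : X) {v : V} (hv : D.B v) : D.av (g • v) = g * D.av v * g⁻¹ := by
  obtain ⟨k, rfl⟩ := hv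
  rw [← mul_smul, D.av_smul_b, D.av_smul_b]; group

theorem av_b : D.av D.b = D.c := by
  have := D.av_smul_b 1
  rw [one_smul] at this
  rw [this]; group

theorem av_sq {v : V} (hv : D.B v) : D.av v * D.av v = 1 := by
  obtain ⟨k, rfl⟩ := hv
  rw [D.av_smul_b, show k * D.c * k⁻¹ * (k * D.c * k⁻¹) = k * (D.c * D.c) * k⁻¹ by group, D.c_sq]
  group

theorem av_inv {v : V} (hv : D.B v) : (D.av v)⁻¹ = D.av v := inv_eq_of_mul_eq_one_right (D.av_sq hv)

theorem av_ne {v : V} (hv : D.B v) : D.av v ≠ 1 := by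
  obtain ⟨k, rfl⟩ := hv
  rw [D.av_smul_b]
  exact fun e => D.c_ne (conj_eq_one_iff.mp e)

theorem av_ball {v : V} (hv : D.B v) : D.av v ∈ K X D.Γ D.r v := by
  obtain ⟨k, rfl⟩ := hv
  rw [D.av_smul_b]
  exact D.K_conj' D.c_ball

theorem av_fix {v : V} (hv : D.B v) {x : ℕ → V} {m j : ℕ} (h0 : x 0 = v)
    (hp : IsPath D.Γ x m) (h1 : j ≤ D.r) (h2 : j ≤ m) : D.av v • x j = x j :=
  fix_path' hp (h0.symm ▸ D.av_ball hv) h1 h2

/-- An element fixing a vertex commutes with its involution. -/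
theorem comm_of_fix {v : V} (hv : D.B v) {g : X} (hg : g • v = v) : g * D.av v = D.av v * g := by
  have := D.av_smul g hv
  rw [hg] at this
  exact (mul_inv_eq_iff_eq_mul.mp this.symm)

theorem conj_av {v w : V} (hv : D.B v) (hw : D.B w) :
    D.av w * D.av v * D.av w = D.av (D.av w • v) := by
  rw [D.av_smul _ hv, D.av_inv hw]

theorem av_comm {v w : V} (hv : D.B v) (hw : D.B w) (h : D.av w • v = v) :
    D.av w * D.av v = D.av v * D.av w := D.comm_of_fix hv h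

theorem exists_mid {α v : V} (h : D.Γ.Adj α v) (hv : D.B v) : D.av v ∈ (zedge α v : Subgroup X) := by
  have h2 : D.av v ∈ K X D.Γ 1 v := K_mono (le_trans (by omega) D.two_le) (D.av_ball hv)
  refine ⟨⟨GoldschmidtS3.mem_G.mpr ((K_one.mp h2).2 α h.symm),
    GoldschmidtS3.mem_G.mpr (K_fix h2)⟩, D.av_sq hv, fun t ht => ?_⟩
  exact (D.comm_of_fix hv (GoldschmidtS3.mem_G.mp ht.2)).symm

/-- An involution or `1` in the edge stabiliser, centralised by it and by the stabiliser of the end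
outside the orbit of `b`, is trivial. -/
theorem eq_one_of_central {α v : V} (h : D.Γ.Adj α v) (hv : D.B v) {z : X}
    (hz : z ∈ (zedge α v : Subgroup X)) (hc : ∀ g ∈ G X α, g * z = z * g) : z = 1 := by
  have hn : ∀ {ν : V}, (∀ g ∈ G X ν, g * z = z * g) → G X ν ≤ normalizer (zpowers z : Set X) := by
    intro ν hν g hg
    refine Subgroup.centralizer_le_normalizer _ (mem_centralizer_iff.mpr fun u hu => ?_)
    obtain ⟨i, rfl⟩ := hu
    exact ((show Commute g z from hν g hg).zpow_right i).symm.eq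
  exact zpowers_eq_bot.mp (D.faithful α v h (zpowers z) (zpowers_le.mpr hz.1) (hn hc)
    (hn (D.edge_central α v h hv z hz)))

/-- A ball kernel of radius beyond `r` is trivial. -/
theorem K_top {v : V} (hv : D.B v) {z : X} (hz : z ∈ K X D.Γ (D.r + 1) v) (hsq : z * z = 1)
    (hc : ∀ g ∈ G X v, g * z = z * g) : z = 1 := by
  obtain ⟨k, rfl⟩ := hv
  have h1 : k⁻¹ * z * k ∈ K X D.Γ (D.r + 1) D.b := by
    have := D.K_conj' (g := k⁻¹) hz
    rwa [inv_smul_smul, inv_inv] at this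
  have h2 := D.max_r _ (by rw [show k⁻¹ * z * k * (k⁻¹ * z * k) = k⁻¹ * (z * z) * k by group, hsq]; group)
    (fun g hg => by
      have hg' : k * g * k⁻¹ ∈ G X (k • D.b) := (GoldschmidtS3.mem_G_smul _).mpr hg
      calc g * (k⁻¹ * z * k) = k⁻¹ * (k * g * k⁻¹ * z) * k := by group
        _ = k⁻¹ * (z * (k * g * k⁻¹)) * k := by rw [hc _ hg']
        _ = k⁻¹ * z * k * g := by group) h1
  calc z = k * (k⁻¹ * z * k) * k⁻¹ := by group
    _ = 1 := by rw [h2]; group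

/-- A central involution of an edge stabiliser, fixing a ball beyond `r`, is trivial. -/
theorem K_top' {α v : V} (h : D.Γ.Adj α v) (hv : D.B v) {z : X}
    (hz : z ∈ (zedge α v : Subgroup X)) (hk : z ∈ K X D.Γ (D.r + 1) v) : z = 1 :=
  D.K_top hv hk hz.2.1 (D.edge_central α v h hv z hz)

end Data

end Cfsg.Agent.GoldRadius82
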