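import Cfsg.Agent.Lib.GoldRadius82Trans

/-!
The groups generated by the involutions at distance two: their pairwise intersections.
-/

set_option autoImplicit false
set_option linter.all false

namespace Cfsg.Agent.GoldRadius82

open Subgroup
open GoldschmidtS3 (G ker zedge)

variable {X V : Type*} [Group X] [MulAction X V]

theorem isPath_zero {Γ : SimpleGraph V} (x : ℕ → V) : IsPath Γ x 0 :=
  ⟨fun i hi => absurd hi (Nat.not_lt_zero i), fun i hi => absurd hi (by omega)⟩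

namespace Data

variable (D : Data X V)
include D

/-- The group of the involutions of the neighbours. -/
def Zv (α : V) : Subgroup X := closure {u | ∃ n, D.Γ.Adj α n ∧ u = D.av n}

/-- The group of the involutions at distance two. -/
def Vv (m : V) : Subgroup X := closure {u | ∃ α p, D.Γ.Adj m α ∧ D.Γ.Adj α p ∧ u = D.av p}

/-- A product of two children, one in each branch away from `α`. -/
def Pair (m α : V) (f : X) : Prop :=
  ∃ α2 α3 p q, D.Γ.Adj m α2 ∧ D.Γ.Adj m α3 ∧ α2 ≠ α ∧ α3 ≠ α ∧ α2 ≠ α3 ∧ D.Γ.Adj α2 p ∧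
    D.Γ.Adj α3 q ∧ p ≠ m ∧ q ≠ m ∧ f = D.av p * D.av q

theorem mem_Zv {α n : V} (h : D.Γ.Adj α n) : D.av n ∈ D.Zv α := subset_closure ⟨n, h, rfl⟩

theorem mem_Vv {m α p : V} (h : D.Γ.Adj m α) (hp : D.Γ.Adj α p) : D.av p ∈ D.Vv m :=
  subset_closure ⟨α, p, h, hp, rfl⟩

theorem self_mem_Vv {m α : V} (h : D.Γ.Adj m α) : D.av m ∈ D.Vv m := D.mem_Vv h h.symm

theorem Zv_le_Vv {m α : V} (h : D.Γ.Adj m α) : D.Zv α ≤ D.Vv m := (closure_le _).mpr (by
  rintro u ⟨n, hn, rfl⟩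
  exact D.mem_Vv h hn)

theorem Z_cases {α : V} (ha : ¬ D.B α) {x : X} (hx : x ∈ D.Zv α) :
    x = 1 ∨ ∃ n, D.Γ.Adj α n ∧ x = D.av n := by
  induction hx using Subgroup.closure_induction with
  | mem u hu => exact Or.inr hu
  | one => exact Or.inl rfl
  | mul a b _ _ iha ihb =>
    rcases iha with rfl | ⟨n, hn, rfl⟩
    · simpa using ihb
    rcases ihb with rfl | ⟨k, hk, rfl⟩
    · exact Or.inr ⟨n, hn, mul_one _⟩
    by_cases e : n = k
    · subst e; exact Or.inl (D.av_sq (D.B_adj_of hn ha))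
    · obtain ⟨s, hs, h1, h2⟩ := D.exists_third hn hk e
      exact Or.inr ⟨s, hs, D.third ha hn hk hs e h1 h2⟩
  | inv a _ iha =>
    rcases iha with rfl | ⟨n, hn, rfl⟩
    · exact Or.inl inv_one
    · exact Or.inr ⟨n, hn, D.av_inv (D.B_adj_of hn ha)⟩

theorem Zv_conj {α : V} (ha : ¬ D.B α) {g x : X} (hx : x ∈ D.Zv α) :
    g * x * g⁻¹ ∈ D.Zv (g • α) := by
  rcases D.Z_cases ha hx with rfl | ⟨n, hn, rfl⟩
  · simp
  · rw [← D.av_smul g (D.B_adj_of hn ha)]
    exact D.mem_Zv (D.adj_smul g hn)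

theorem Zv_fix {α : V} (ha : ¬ D.B α) {g : X} (hg : g ∈ (ker D.Γ α : Subgroup X)) {x : X}
    (hx : x ∈ D.Zv α) : g * x * g⁻¹ = x := by
  rcases D.Z_cases ha hx with rfl | ⟨n, hn, rfl⟩
  · simp
  · rw [← D.av_smul g (D.B_adj_of hn ha), hg.2 n hn]

theorem Vv_conj {m : V} (hm : D.B m) {g x : X} (hx : x ∈ D.Vv m) :
    g * x * g⁻¹ ∈ D.Vv (g • m) := by
  have : D.Vv m ≤ (D.Vv (g • m)).comap (MulAut.conj g).toMonoidHom := (closure_le _).mpr (by
    rintro u ⟨α, p, hα, hp, rfl⟩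
    show g * D.av p * g⁻¹ ∈ D.Vv (g • m)
    rw [← D.av_smul g (D.B_two hα hp hm)]
    exact D.mem_Vv (D.adj_smul g hα) (D.adj_smul g hp))
  exact this hx

theorem Pair_conj {m α : V} (hm : D.B m) {f : X} (hf : D.Pair m α f) (g : X) :
    D.Pair (g • m) (g • α) (g * f * g⁻¹) := by
  obtain ⟨α2, α3, p, q, h2, h3, n2, n3, n23, hp, hq, hpm, hqm, rfl⟩ := hf
  refine ⟨g • α2, g • α3, g • p, g • q, D.adj_smul g h2, D.adj_smul g h3,
    fun e => n2 (smul_left_cancel g e), fun e => n3 (smul_left_cancel g e),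
    fun e => n23 (smul_left_cancel g e), D.adj_smul g hp, D.adj_smul g hq,
    fun e => hpm (smul_left_cancel g e), fun e => hqm (smul_left_cancel g e), ?_⟩
  rw [D.av_smul g (D.B_two h2 hp hm), D.av_smul g (D.B_two h3 hq hm)]; group

theorem exists_pair {m α : V} (h : D.Γ.Adj m α) : ∃ f, D.Pair m α f := by
  obtain ⟨α2, h2, n2⟩ := D.exists_other h
  obtain ⟨α3, h3, n3, n23⟩ := D.exists_third h h2 n2.symm
  obtain ⟨p, hp, hpm⟩ := D.exists_other h2.symm
  obtain ⟨q, hq, hqm⟩ := D.exists_other h3.symm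
  exact ⟨_, α2, α3, p, q, h2, h3, n2, n3.symm, n23, hp, hq, hpm, hqm, rfl⟩

theorem Pair_mem {m α : V} {f : X} (hf : D.Pair m α f) : f ∈ D.Vv m := by
  obtain ⟨α2, α3, p, q, h2, h3, -, -, -, hp, hq, -, -, rfl⟩ := hf
  exact mul_mem (D.mem_Vv h2 hp) (D.mem_Vv h3 hq)

variable (he : Even D.r) (hr : 4 ≤ D.r)
include he hr

theorem Vv_comm {m : V} (hm : D.B m) {x y : X} (hx : x ∈ D.Vv m) (hy : y ∈ D.Vv m) :
    x * y = y * x := by
  have : ∀ z ∈ D.Vv m, ∀ u ∈ {u | ∃ α p, D.Γ.Adj m α ∧ D.Γ.Adj α p ∧ u = D.av p}, z * u = u * z := by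
    intro z hz
    induction hz using Subgroup.closure_induction with
    | mem z hz =>
      rintro u ⟨α', p', h', hp', rfl⟩
      obtain ⟨α, p, h, hp, rfl⟩ := hz
      exact D.comm4 he hr hm h h' hp hp'
    | one => intro u _; simp
    | mul a b _ _ iha ihb => exact fun u hu => (Commute.mul_left (iha u hu) (ihb u hu))
    | inv a _ iha => exact fun u hu => (Commute.inv_left (iha u hu))
  induction hy using Subgroup.closure_induction with
  | mem u hu => exact this x hx u hu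
  | one => simp
  | mul a b _ _ iha ihb => exact Commute.mul_right iha ihb
  | inv a _ iha => exact Commute.inv_right iha

theorem Vv_sq {m : V} (hm : D.B m) {x : X} (hx : x ∈ D.Vv m) : x * x = 1 := by
  induction hx using Subgroup.closure_induction with
  | mem u hu =>
    obtain ⟨α, p, h, hp, rfl⟩ := hu
    exact D.av_sq (D.B_two h hp hm)
  | one => exact one_mul 1
  | mul a b ha hb iha ihb =>
    rw [show a * b * (a * b) = a * (b * a) * b by group, D.Vv_comm he hr hm hb ha,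
      show a * (a * b) * b = (a * a) * (b * b) by group, iha, ihb, one_mul]
  | inv a _ iha => rw [← mul_inv_rev, iha, inv_one]

theorem Vv_inv {m : V} (hm : D.B m) {x : X} (hx : x ∈ D.Vv m) : x⁻¹ = x :=
  inv_eq_of_mul_eq_one_right (D.Vv_sq he hr hm hx)

theorem Vv_le_edge {m α : V} (hm : D.B m) (h : D.Γ.Adj α m) : D.Vv m ≤ G X α ⊓ G X m :=
  (closure_le _).mpr (by
    rintro u ⟨β, p, hβ, hp, rfl⟩
    have hb := D.B_two hβ hp hm
    exact ⟨GoldschmidtS3.mem_G.mpr (K_fix (K_step (n := 0) (K_step (K_step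
      (D.near hb (show 3 ≤ D.r by omega)) hp.symm) hβ.symm) h.symm)),
      GoldschmidtS3.mem_G.mpr (D.near2 hb hp.symm hβ.symm)⟩)

/-- Two pairs differ by the central involution at most. -/
theorem Pair_unique {m α : V} (hm : D.B m) (h : D.Γ.Adj m α) {f f' : X} (hf : D.Pair m α f)
    (hf' : D.Pair m α f') : f' = f ∨ f' = f * D.av m := by
  obtain ⟨α2, α3, p, q, h2, h3, n2, n3, n23, hp, hq, hpm, hqm, rfl⟩ := hf
  obtain ⟨β2, β3, p', q', k2, k3, l2, l3, l23, hp', hq', hp'm, hq'm, rfl⟩ := hf'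
  have key : ∀ {P Q : V}, D.Γ.Adj α2 P → D.Γ.Adj α3 Q → P ≠ m → Q ≠ m →
      D.av P * D.av Q = D.av p * D.av q ∨ D.av P * D.av Q = D.av p * D.av q * D.av m := by
    intro P Q hP hQ hPm hQm
    have cq := D.comm2 (D.B_two h3 hq hm) hm hq.symm h3.symm
    rcases D.av_child_smul he hm h2 hp hP hpm hPm with e1 | e1 <;>
      rcases D.av_child_smul he hm h3 hq hQ hqm hQm with e2 | e2 <;> rw [e1, e2]
    · left; rfl
    · right; rw [mul_assoc]
    · right; rw [mul_assoc, mul_assoc, cq]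
    · left; exact D.comm_cancel cq (D.av_sq hm)
  have hsplit : (β2 = α2 ∧ β3 = α3) ∨ (β2 = α3 ∧ β3 = α2) := by
    rcases D.pick h h2 h3 k2 n2.symm n3.symm n23 with e | e | e
    · exact absurd e l2
    · rcases D.pick h h2 h3 k3 n2.symm n3.symm n23 with e' | e' | e'
      · exact absurd e' l3
      · exact absurd (e.trans e'.symm) l23
      · exact Or.inl ⟨e, e'⟩
    · rcases D.pick h h2 h3 k3 n2.symm n3.symm n23 with e' | e' | e'
      · exact absurd e' l3
      · exact Or.inr ⟨e, e'⟩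
      · exact absurd (e.trans e'.symm) l23
  rcases hsplit with ⟨rfl, rfl⟩ | ⟨rfl, rfl⟩
  · exact key hp' hq' hp'm hq'm
  · rw [D.comm4 he hr hm k2 k3 hp' hq']
    exact key hq' hp' hq'm hp'm

/-- Every element is a neighbour involution times at most a child in each other branch. -/
theorem V_cases {m α α2 α3 p q : V} (hm : D.B m) (h : D.Γ.Adj m α) (h2 : D.Γ.Adj m α2)
    (h3 : D.Γ.Adj m α3) (n2 : α2 ≠ α) (n3 : α3 ≠ α) (n23 : α2 ≠ α3) (hp : D.Γ.Adj α2 p)
    (hq : D.Γ.Adj α3 q) (hpm : p ≠ m) (hqm : q ≠ m) {x : X} (hx : x ∈ D.Vv m) :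
    x ∈ D.Zv α ∨ x * D.av p ∈ D.Zv α ∨ x * D.av q ∈ D.Zv α ∨
      x * (D.av p * D.av q) ∈ D.Zv α := by
  have hmZ : D.av m ∈ D.Zv α := D.mem_Zv h.symm
  have hP : D.av p ∈ D.Vv m := D.mem_Vv h2 hp
  have hQ : D.av q ∈ D.Vv m := D.mem_Vv h3 hq
  have hp2 : D.av p * D.av p = 1 := D.Vv_sq he hr hm hP
  have hq2 : D.av q * D.av q = 1 := D.Vv_sq he hr hm hQ
  have main : x ∈ D.Vv m ∧ ∃ i j : ℕ, x * (D.av p ^ i * D.av q ^ j) ∈ D.Zv α := by
    induction hx using Subgroup.closure_induction with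
    | mem u hu =>
      refine ⟨subset_closure hu, ?_⟩
      obtain ⟨β, n, hβ, hn, rfl⟩ := hu
      have hchild : ∀ {γ P : V}, D.Γ.Adj m γ → D.Γ.Adj γ P → P ≠ m → γ = β → n ≠ m →
          D.av n * D.av P ∈ D.Zv α := by
        intro γ P hγ hPa hPm e enm
        subst e
        have cP : D.av m * D.av P = D.av P * D.av m :=
          (D.comm2 (D.B_two hγ hPa hm) hm hPa.symm hγ.symm).symm
        rcases D.av_child_smul he hm hγ hPa hn hPm enm with e | e <;> rw [e]
        · rw [D.Vv_sq he hr hm (D.mem_Vv hγ hPa)]; exact one_mem _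
        · rw [mul_assoc, cP, ← mul_assoc, D.Vv_sq he hr hm (D.mem_Vv hγ hPa), one_mul]
          exact hmZ
      by_cases enm : n = m
      · exact ⟨0, 0, by rw [enm, pow_zero, pow_zero, mul_one, mul_one]; exact hmZ⟩
      rcases D.pick h h2 h3 hβ n2.symm n3.symm n23 with rfl | rfl | rfl
      · exact ⟨0, 0, by rw [pow_zero, pow_zero, mul_one, mul_one]; exact D.mem_Zv hn⟩
      · exact ⟨1, 0, by rw [pow_one, pow_zero, mul_one]; exact hchild h2 hp hpm rfl enm⟩
      · exact ⟨0, 1, by rw [pow_one, pow_zero, one_mul]; exact hchild h3 hq hqm rfl enm⟩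
    | one => exact ⟨one_mem _, 0, 0, by simp⟩
    | mul a b _ _ iha ihb =>
      obtain ⟨ha, i, j, hij⟩ := iha
      obtain ⟨hb, k, l, hkl⟩ := ihb
      refine ⟨mul_mem ha hb, i + k, j + l, ?_⟩
      have c1 : Commute b (D.av p ^ i * D.av q ^ j) :=
        D.Vv_comm he hr hm hb (mul_mem (pow_mem hP i) (pow_mem hQ j))
      have c2 : Commute (D.av q ^ j) (D.av p ^ k) :=
        D.Vv_comm he hr hm (pow_mem hQ j) (pow_mem hP k)
      have e : a * b * (D.av p ^ (i + k) * D.av q ^ (j + l)) =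
          a * (D.av p ^ i * D.av q ^ j) * (b * (D.av p ^ k * D.av q ^ l)) := by
        rw [pow_add, pow_add]
        calc a * b * (D.av p ^ i * D.av p ^ k * (D.av q ^ j * D.av q ^ l))
            = a * b * (D.av p ^ i * (D.av p ^ k * D.av q ^ j) * D.av q ^ l) := by group
          _ = a * (b * (D.av p ^ i * D.av q ^ j)) * (D.av p ^ k * D.av q ^ l) := by
            rw [c2.symm.eq]; group
          _ = _ := by rw [c1.eq]; group
      rw [e]
      exact mul_mem hij hkl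
    | inv a _ iha =>
      obtain ⟨ha, i, j, hij⟩ := iha
      exact ⟨inv_mem ha, i, j, by rwa [D.Vv_inv he hr hm ha]⟩
  obtain ⟨hxm, i, j, hij⟩ := main
  have red : ∀ {a : X}, a * a = 1 → ∀ n : ℕ, a ^ n = 1 ∨ a ^ n = a := by
    intro a ha n
    induction n with
    | zero => exact Or.inl (pow_zero a)
    | succ n ih => rcases ih with e | e <;> rw [pow_succ, e] <;> simp [ha]
  rcases red hp2 i with e1 | e1 <;> rcases red hq2 j with e2 | e2 <;> rw [e1, e2] at hij
  · left; simpa using hij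
  · right; right; left; simpa using hij
  · right; left; simpa using hij
  · right; right; right; exact hij

/-- An element moving the other branches exchanges their children. -/
theorem swap_child {m α α2 α3 p q : V} {g : X} (hm : D.B m) (h : D.Γ.Adj m α) (h2 : D.Γ.Adj m α2)
    (h3 : D.Γ.Adj m α3) (n2 : α2 ≠ α) (n3 : α3 ≠ α) (n23 : α2 ≠ α3) (hp : D.Γ.Adj α2 p)
    (hq : D.Γ.Adj α3 q) (hpm : p ≠ m) (hqm : q ≠ m) (g0 : g • m = m) (g1 : g • α = α)
    (hg : g ∉ (ker D.Γ m : Subgroup X)) :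
    g * D.av p * g⁻¹ = D.av q ∨ g * D.av p * g⁻¹ = D.av q * D.av m := by
  rw [← D.av_smul g (D.B_two h2 hp hm)]
  exact D.av_child_smul he hm h3 hq
    (D.move_eq h h2 h3 n2.symm n3.symm n23 g0 g1 hg ▸ D.adj_smul g hp) hqm
    (fun e => hpm (smul_left_cancel g (e.trans g0.symm)))

/-- Neither of two groups at distance two contains the other. -/
theorem no_incl {u α m : V} (hm : D.B m) (hu : D.Γ.Adj α u) (h : D.Γ.Adj α m) (hne : u ≠ m)
    (hle : D.Vv m ≤ D.Vv u) : False := by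
  have ha := D.B_of_adj h hm
  have bu := D.B_adj_of hu ha
  obtain ⟨k, hk0, hk1, hk2⟩ := D.trans2 α m u u m h hu hu h hne.symm hne
  have heq : D.Vv m = D.Vv u := le_antisymm hle fun x hx => by
    have h1 := hle (x := k⁻¹ * x * k) (by
      have := D.Vv_conj bu (g := k⁻¹) hx
      rwa [inv_inv, inv_smul_eq_iff.mpr hk1.symm] at this)
    have := D.Vv_conj bu (g := k) h1
    rwa [hk2, show k * (k⁻¹ * x * k) * k⁻¹ = x by group] at this
  obtain ⟨s, hs, hms, hus⟩ := D.exists_third h hu hne.symm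
  obtain ⟨l, hl0, hl1, hl2⟩ := D.trans2 α u m u s hu h hu hs hne hus
  have heqs : D.Vv m ≤ D.Vv s ∧ D.Vv s ≤ D.Vv m := by
    constructor
    · intro x hx
      rw [heq] at hx
      have := D.Vv_conj bu (g := l⁻¹) hx
      rw [inv_inv, inv_smul_eq_iff.mpr hl1.symm, ← heq] at this
      have := D.Vv_conj hm (g := l) this
      rwa [hl2, show l * (l⁻¹ * x * l) * l⁻¹ = x by group] at this
    · intro x hx
      have bs := D.B_adj_of hs ha
      have := D.Vv_conj bs (g := l⁻¹) hx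
      rw [inv_inv, inv_smul_eq_iff.mpr hl2.symm, heq] at this
      have := D.Vv_conj bu (g := l) this
      rwa [hl1, show l * (l⁻¹ * x * l) * l⁻¹ = x by group, ← heq] at this
  have hsame : ∀ n, D.Γ.Adj α n → D.Vv n = D.Vv m := fun n hn => by
    rcases D.pick h hu hs hn hne.symm hms hus with rfl | rfl | rfl
    · rfl
    · exact heq.symm
    · exact le_antisymm heqs.2 heqs.1
  haveI : Finite (closure {u | ∃ α p, D.Γ.Adj m α ∧ D.Γ.Adj α p ∧ u = D.av p} : Subgroup X) :=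
    D.finite_of_le ((D.Vv_le_edge he hr hm h).trans inf_le_left)
  have hN : ∀ g : X, g • α = α ∨ g • m = m → g ∈ normalizer (D.Vv m : Set X) := by
    intro g hg
    have hmap : ∀ x ∈ D.Vv m, g * x * g⁻¹ ∈ D.Vv m := fun x hx => by
      have := D.Vv_conj hm (g := g) hx
      rcases hg with hg | hg
      · rwa [hsame _ (D.nbr_smul hg h)] at this
      · rwa [hg] at this
    exact mem_normalizer_closure fun x hx => hmap x (subset_closure hx)
  obtain ⟨β, hβ, hβα⟩ := D.exists_other h.symm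
  obtain ⟨g, hg0, hg1, -⟩ := D.trans2 m α β β α h.symm hβ hβ h.symm hβα.symm hβα
  have hbot := D.no_normal h (D.Vv_le_edge he hr hm h)
    (fun g hg => hN g (Or.inl (GoldschmidtS3.mem_G.mp hg.1)))
    ⟨k, hN k (Or.inl (GoldschmidtS3.mem_G.mp hk0)), GoldschmidtS3.mem_G.mp hk0,
      by rw [hk1]; exact hne⟩
    ⟨g, hN g (Or.inr (GoldschmidtS3.mem_G.mp hg0)), GoldschmidtS3.mem_G.mp hg0,
      by rw [hg1]; exact hβα⟩
  exact D.av_ne hm ((Subgroup.eq_bot_iff_forall _).mp hbot _ (D.self_mem_Vv h.symm))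

/-- Outside `Zv α` the common elements lie in the coset of a pair. -/
theorem inter_pair {u α m : V} (hm : D.B m) (hu : D.Γ.Adj α u) (h : D.Γ.Adj α m) (hne : u ≠ m)
    {f e : X} (hf : D.Pair m α f) (he1 : e ∈ D.Vv m) (he2 : e ∈ D.Vv u) :
    e ∈ D.Zv α ∨ (e * f ∈ D.Zv α ∧ f ∈ D.Vv u) := by
  obtain ⟨α2, α3, p, q, h2, h3, n2, n3, n23, hp, hq, hpm, hqm, rfl⟩ := hf
  have hZu : D.Zv α ≤ D.Vv u := D.Zv_le_Vv hu.symm
  have contra : ∀ {β γ P Q : V}, D.Γ.Adj m β → D.Γ.Adj m γ → β ≠ α → γ ≠ α → β ≠ γ →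
      D.Γ.Adj β P → D.Γ.Adj γ Q → P ≠ m → Q ≠ m → e * D.av P ∈ D.Zv α → False := by
    intro β γ P Q hβ hγ nβ nγ nβγ hP hQ hPm hQm hz
    have hPu : D.av P ∈ D.Vv u := by
      have := mul_mem (inv_mem he2) (hZu hz)
      rwa [inv_mul_cancel_left] at this
    obtain ⟨g, hg, hgn⟩ := D.mv_two he hr
      (IsPath.cons (IsPath.cons (isPath_zero (Γ := D.Γ) fun _ => m) h (by omega)) hu.symm (fun _ => hne))
    have g0 : g • m = m := hg 2 le_rfl
    have g1 : g • α = α := hg 1 (by omega)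
    have gu : g • u = u := hg 0 (by omega)
    have hQu : D.av Q ∈ D.Vv u := by
      have h1 := D.Vv_conj (D.B_adj_of hu (D.B_of_adj h hm)) (g := g) hPu
      rw [gu] at h1
      rcases D.swap_child he hr hm h.symm hβ hγ nβ nγ nβγ hP hQ hPm hQm g0 g1 hgn with e1 | e1 <;>
        rw [e1] at h1
      · exact h1
      · have := mul_mem h1 (inv_mem (hZu (D.mem_Zv h)))
        rwa [mul_inv_cancel_right] at this
    refine D.no_incl he hr hm hu h hne fun x hx => ?_
    rcases D.V_cases he hr hm h.symm hβ hγ nβ nγ nβγ hP hQ hPm hQm hx with k | k | k | k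
    · exact hZu k
    · exact (Subgroup.mul_mem_cancel_right _ hPu).mp (hZu k)
    · exact (Subgroup.mul_mem_cancel_right _ hQu).mp (hZu k)
    · exact (Subgroup.mul_mem_cancel_right _ (mul_mem hPu hQu)).mp (hZu k)
  rcases D.V_cases he hr hm h.symm h2 h3 n2 n3 n23 hp hq hpm hqm he1 with k | k | k | k
  · exact Or.inl k
  · exact (contra h2 h3 n2 n3 n23 hp hq hpm hqm k).elim
  · exact (contra h3 h2 n3 n2 n23.symm hq hp hqm hpm k).elim
  · refine Or.inr ⟨k, ?_⟩
    have := mul_mem (inv_mem he2) (hZu k)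
    rwa [inv_mul_cancel_left] at this

/-- Two of the groups at distance two meet in the group of the vertex between. -/
theorem inter2 {u α m : V} (hm : D.B m) (hu : D.Γ.Adj α u) (h : D.Γ.Adj α m) (hne : u ≠ m)
    {e : X} (he1 : e ∈ D.Vv m) (he2 : e ∈ D.Vv u) : e ∈ D.Zv α := by
  by_contra hez
  have ha := D.B_of_adj h hm
  have bu := D.B_adj_of hu ha
  have hZm : D.Zv α ≤ D.Vv m := D.Zv_le_Vv h.symm
  obtain ⟨f0, hf0⟩ := D.exists_pair h.symm
  obtain ⟨f0', hf0'⟩ := D.exists_pair hu.symm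
  obtain ⟨he0, hfu⟩ := (D.inter_pair he hr hm hu h hne hf0 he1 he2).resolve_left hez
  have hfm := D.Pair_mem hf0
  have hf0Z : f0 ∉ D.Zv α := fun hc => hez ((Subgroup.mul_mem_cancel_right _ hc).mp he0)
  obtain ⟨hff', -⟩ :=
    (D.inter_pair he hr bu h hu hne.symm hf0' hfu hfm).resolve_left hf0Z
  have hQ : ∀ g ∈ (ker D.Γ α : Subgroup X), g * f0 * g⁻¹ = f0 := by
    intro g hg
    have gm : g • m = m := hg.2 m h
    have gu : g • u = u := hg.2 u hu
    have p1 := D.Pair_conj hm hf0 g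
    rw [gm, hg.1] at p1
    have p2 := D.Pair_conj bu hf0' g
    rw [gu, hg.1] at p2
    rcases D.Pair_unique he hr hm h.symm hf0 p1 with e1 | e1
    · exact e1
    have hz := D.Zv_fix ha hg hff'
    rcases D.Pair_unique he hr bu hu.symm hf0' p2 with e2 | e2
    · have : g * f0 * g⁻¹ = f0 := by
        have h' : g * (f0 * f0') * g⁻¹ = g * f0 * g⁻¹ * (g * f0' * g⁻¹) := by group
        rw [hz, e2] at h'
        exact (mul_right_cancel h').symm
      exact this
    · exfalso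
      have h' : g * (f0 * f0') * g⁻¹ = g * f0 * g⁻¹ * (g * f0' * g⁻¹) := by group
      rw [hz, e1, e2] at h'
      have c : D.av m * f0' = f0' * D.av m :=
        D.Vv_comm he hr bu (D.mem_Vv hu.symm h) (D.Pair_mem hf0')
      have h'' : f0 * f0' * 1 = f0 * f0' * (D.av m * D.av u) := by
        rw [mul_one]
        calc f0 * f0' = f0 * D.av m * (f0' * D.av u) := h'
          _ = f0 * (D.av m * f0') * D.av u := by group
          _ = _ := by rw [c]; group
      refine D.ne2 ha h hu hne.symm ?_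
      rw [← mul_inv_eq_one, D.av_inv bu]
      exact (mul_left_cancel h'').symm
  obtain ⟨t, t0, t1, tk⟩ := D.exists_swap h
  obtain ⟨s, hs, hms, hus⟩ := D.exists_third h hu hne.symm
  have tu : t • u = s := D.move_eq h hu hs hne.symm hms hus t0 t1 tk
  have ts : t • s = u := D.move_eq h hs hu hms hne.symm hus.symm t0 t1 tk
  obtain ⟨f, hfV, hfV', hfZ, hft⟩ : ∃ f, f ∈ D.Vv m ∧ f ∈ D.Vv u ∧
      f * f0 ∈ D.Zv α ∧ t * f * t⁻¹ = f := by
    have p1 := D.Pair_conj hm hf0 t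
    rw [t1, t0] at p1
    rcases D.Pair_unique he hr hm h.symm hf0 p1 with e1 | e1
    · exact ⟨f0, hfm, hfu, by rw [D.Vv_sq he hr hm hfm]; exact one_mem _, e1⟩
    · refine ⟨f0 * D.av u, mul_mem hfm (D.mem_Vv h.symm hu),
        mul_mem hfu (D.self_mem_Vv hu.symm), ?_, ?_⟩
      · rw [mul_assoc, D.Vv_comm he hr hm (D.mem_Vv h.symm hu) hfm, ← mul_assoc,
          D.Vv_sq he hr hm hfm, one_mul]
        exact D.mem_Zv hu
      · rw [show t * (f0 * D.av u) * t⁻¹ = (t * f0 * t⁻¹) * (t * D.av u * t⁻¹) by group, e1,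
          ← D.av_smul t bu, tu, mul_assoc, D.third ha h hs hu hms hne.symm hus.symm]
  have hfnZ : f ∉ D.Zv α := fun hc => hf0Z ((Subgroup.mul_mem_cancel_left _ hc).mp hfZ)
  have hfQ : ∀ g ∈ (ker D.Γ α : Subgroup X), g * f * g⁻¹ = f := by
    intro g hg
    have h1 := D.Zv_fix ha hg hfZ
    rw [show g * (f * f0) * g⁻¹ = g * f * g⁻¹ * (g * f0 * g⁻¹) by group, hQ g hg] at h1
    exact mul_right_cancel h1
  have hfU : ∀ g : X, g • α = α → g • m = m → g * f * g⁻¹ = f := by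
    intro g g0 g1
    by_cases hk : g ∈ (ker D.Γ α : Subgroup X)
    · exact hfQ g hk
    · have h1 := hfQ _ (D.mul_ker h g0 g1 t0 t1 hk tk)
      rwa [show g * t * f * (g * t)⁻¹ = g * (t * f * t⁻¹) * g⁻¹ by group, hft] at h1
  have bs := D.B_adj_of hs ha
  have hfs : f ∈ D.Vv s := by
    have := D.Vv_conj bu (g := t) hfV'
    rwa [tu, hft] at this
  obtain ⟨c, c0', c1, c2⟩ := D.trans2 α m u u s h hu hu hs hne.symm hus
  have c0 := GoldschmidtS3.mem_G.mp c0'
  have c3 : c • s = m := by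
    rcases D.pick h hu hs (D.nbr_smul c0 hs) hne.symm hms hus with e' | e' | e'
    · exact e'
    · exact absurd (smul_left_cancel c (e'.trans c1.symm)) hms.symm
    · exact absurd (smul_left_cancel c (e'.trans c2.symm)) hus.symm
  -- the orbit of `f` under the rotation
  have hall : ∀ x, x ∈ D.Vv m → x ∈ D.Vv u → x ∈ D.Vv s → x ∉ D.Zv α →
      c * x * c⁻¹ ∈ D.Vv m ∧ c * x * c⁻¹ ∈ D.Vv u ∧ c * x * c⁻¹ ∈ D.Vv s ∧
        c * x * c⁻¹ ∉ D.Zv α := by
    intro x xm xu xs xz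
    refine ⟨c3 ▸ D.Vv_conj bs xs, c1 ▸ D.Vv_conj hm xm, c2 ▸ D.Vv_conj bu xu, fun hc => xz ?_⟩
    have := D.Zv_conj ha (g := c⁻¹) hc
    rwa [inv_smul_eq_iff.mpr c0.symm, show c⁻¹ * (c * x * c⁻¹) * c⁻¹⁻¹ = x by group] at this
  set f1 := c * f * c⁻¹ with hf1
  set f2 := c * f1 * c⁻¹ with hf2
  obtain ⟨a1, b1, d1, z1⟩ := hall f hfV hfV' hfs hfnZ
  obtain ⟨a2, b2, d2, z2⟩ := hall f1 a1 b1 d1 z1
  rw [← hf1] at a1 b1 d1 z1
  rw [← hf2] at a2 b2 d2 z2
  set P := f * f1 * f2 with hP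
  have hPZ : P ∉ D.Zv α := by
    intro hc
    have w1 := ((D.inter_pair he hr hm hu h hne hf0 a1 b1).resolve_left z1).1
    have w2 := ((D.inter_pair he hr hm hu h hne hf0 a2 b2).resolve_left z2).1
    have e3 : P * f0 = f * f0 * (f1 * f0) * (f2 * f0) := by
      rw [hP]
      calc f * f1 * f2 * f0 = f * 1 * f1 * f2 * f0 := by rw [mul_one]
        _ = f * (f0 * f0) * f1 * f2 * f0 := by rw [D.Vv_sq he hr hm hfm]
        _ = f * f0 * (f0 * f1) * (f2 * f0) := by group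
        _ = f * f0 * (f1 * f0) * (f2 * f0) := by rw [D.Vv_comm he hr hm hfm a1]
    have : P * f0 ∈ D.Zv α := e3 ▸ mul_mem (mul_mem hfZ w1) w2
    exact hf0Z ((Subgroup.mul_mem_cancel_left _ hc).mp this)
  have hcub : c * f2 * c⁻¹ = f := by
    rw [hf2, hf1, show c * (c * (c * f * c⁻¹) * c⁻¹) * c⁻¹ = (c * c * c) * f * (c * c * c)⁻¹ by group]
    exact hfU _ (by rw [mul_smul, mul_smul, c0, c0, c0]) (by rw [mul_smul, mul_smul, c1, c2, c3])
  have hcent : G X α ≤ centralizer ({P} : Set X) := by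
    refine D.gen h (fun g hg => ?_) c0 (by rw [c1]; exact hne) ?_
    · have g0 := GoldschmidtS3.mem_G.mp hg.1
      have g1 := GoldschmidtS3.mem_G.mp hg.2
      rw [mem_centralizer_singleton_iff, ← mul_inv_eq_iff_eq_mul]
      rw [hP, show g * (f * f1 * f2) * g⁻¹ =
        (g * f * g⁻¹) * (g * f1 * g⁻¹) * (g * f2 * g⁻¹) by group, hfU g g0 g1]
      by_cases hk : g ∈ (ker D.Γ α : Subgroup X)
      · have e1 : g * f1 * g⁻¹ = f1 := by
          rw [hf1, show g * (c * f * c⁻¹) * g⁻¹ = c * ((c⁻¹ * g * c) * f * (c⁻¹ * g * c)⁻¹) * c⁻¹ by group,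
            hfU _ (by rw [mul_smul, mul_smul, c0, g0, inv_smul_eq_iff, c0])
              (by rw [mul_smul, mul_smul, c1, hk.2 u hu, inv_smul_eq_iff, c1])]
        have e2 : g * f2 * g⁻¹ = f2 := by
          rw [hf2, hf1, show g * (c * (c * f * c⁻¹) * c⁻¹) * g⁻¹ =
              c * (c * (((c * c)⁻¹ * g * (c * c)) * f * ((c * c)⁻¹ * g * (c * c))⁻¹) * c⁻¹) * c⁻¹ by group,
            hfU _ (by simp only [mul_smul, mul_inv_rev, c0, g0, inv_smul_eq_iff])
              (by simp only [mul_smul, mul_inv_rev, c1, c2, hk.2 s hs, inv_smul_eq_iff])]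
        rw [e1, e2]
      · have gu : g • u = s := D.move_eq h hu hs hne.symm hms hus g0 g1 hk
        have gs : g • s = u := D.move_eq h hs hu hms hne.symm hus.symm g0 g1 hk
        have e1 : g * f1 * g⁻¹ = f2 := by
          rw [hf2, hf1, show g * (c * f * c⁻¹) * g⁻¹ =
              c * (c * (((c * c)⁻¹ * g * c) * f * ((c * c)⁻¹ * g * c)⁻¹) * c⁻¹) * c⁻¹ by group,
            hfU _ (by simp only [mul_smul, mul_inv_rev, c0, g0, inv_smul_eq_iff])
              (by simp only [mul_smul, mul_inv_rev, c1, gu, c2, inv_smul_eq_iff])]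
        have e2 : g * f2 * g⁻¹ = f1 := by
          rw [hf2, hf1, show g * (c * (c * f * c⁻¹) * c⁻¹) * g⁻¹ =
              c * ((c⁻¹ * g * (c * c)) * f * (c⁻¹ * g * (c * c))⁻¹) * c⁻¹ by group,
            hfU _ (by simp only [mul_smul, c0, g0, inv_smul_eq_iff])
              (by simp only [mul_smul, c1, c2, gs, inv_smul_eq_iff])]
        rw [e1, e2, mul_assoc, D.Vv_comm he hr hm a2 a1, ← mul_assoc]
    · rw [mem_centralizer_singleton_iff, ← mul_inv_eq_iff_eq_mul, hP,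
        show c * (f * f1 * f2) * c⁻¹ = (c * f * c⁻¹) * (c * f1 * c⁻¹) * (c * f2 * c⁻¹) by group,
        hcub, ← hf1, ← hf2, D.Vv_comm he hr hm (mul_mem a1 a2) hfV, ← mul_assoc]
  have hPV : P ∈ D.Vv m := mul_mem (mul_mem hfV a1) a2
  have hPe : P ∈ (zedge α m : Subgroup X) :=
    ⟨D.Vv_le_edge he hr hm h hPV, D.Vv_sq he hr hm hPV,
      fun g hg => (mem_centralizer_singleton_iff.mp (hcent hg.1)).symm⟩
  exact hPZ (D.eq_one_of_central h hm hPe (fun g hg => mem_centralizer_singleton_iff.mp (hcent hg))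
    ▸ one_mem _)

/-- Common elements of two neighbour groups at distance two. -/
theorem Z_meet {m α α' : V} (hm : D.B m) (h : D.Γ.Adj m α) (h' : D.Γ.Adj m α') (hne : α ≠ α')
    {x : X} (hx : x ∈ D.Zv α) (hx' : x ∈ D.Zv α') : x = 1 ∨ x = D.av m := by
  rcases D.Z_cases (D.B_of_adj h.symm hm) hx with e | ⟨n, hn, rfl⟩
  · exact Or.inl e
  rcases D.Z_cases (D.B_of_adj h'.symm hm) hx' with e | ⟨k, hk, e⟩
  · exact Or.inl e
  by_cases hnm : n = m
  · exact Or.inr (by rw [hnm])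
  by_cases hkm : k = m
  · exact Or.inr (by rw [e, hkm])
  exact absurd e (D.ne4 hm h h' hne hn hk hnm hkm)

end Data

end Cfsg.Agent.GoldRadius82
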