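import Cfsg.Agent.Lib.GoldRadius82Ball
import Cfsg.Agent.Lib.GoldRadius82Meet

/-!
Bits at the vertices of a ball: whether an element moves the neighbours of a vertex.
-/

set_option autoImplicit false
set_option linter.all false

namespace Cfsg.Agent.GoldRadius82

open Subgroup
open GoldschmidtS3 (G ker zedge)

variable {X V : Type*} [Group X] [MulAction X V]

theorem path2 {Γ : SimpleGraph V} {a b c : V} (h1 : Γ.Adj a b) (h2 : Γ.Adj b c) (n : a ≠ c) :
    IsPath Γ (cons a (cons b fun _ => c)) 2 :=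
  ((isPath_zero fun _ => c).cons h2 (by omega)).cons h1 fun _ => n

theorem path3 {Γ : SimpleGraph V} {a b c d : V} (h1 : Γ.Adj a b) (h2 : Γ.Adj b c) (h3 : Γ.Adj c d)
    (n1 : a ≠ c) (n2 : b ≠ d) : IsPath Γ (cons a (cons b (cons c fun _ => d))) 3 :=
  (path2 h2 h3 n2).cons h1 fun _ => n1

theorem path4 {Γ : SimpleGraph V} {a b c d e : V} (h1 : Γ.Adj a b) (h2 : Γ.Adj b c) (h3 : Γ.Adj c d)
    (h4 : Γ.Adj d e) (n1 : a ≠ c) (n2 : b ≠ d) (n3 : c ≠ e) :
    IsPath Γ (cons a (cons b (cons c (cons d fun _ => e)))) 4 :=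
  (path3 h2 h3 h4 n2 n3).cons h1 fun _ => n1

theorem card_image_le {T : Type*} [Finite T] (f : X → T) (s : Set X) :
    Nat.card (f '' s) ≤ Nat.card T :=
  Nat.card_le_card_of_injective Subtype.val Subtype.val_injective

theorem card_bool_fun (n : ℕ) : Nat.card (Fin n → Bool) = 2 ^ n := by
  simp [Nat.card_fun]

namespace Data

variable (D : Data X V)
include D

open scoped Classical in
/-- Whether an element moves a neighbour of the vertex. -/
noncomputable def bit (g : X) (v : V) : Bool := decide (g ∉ (ker D.Γ v : Subgroup X))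

theorem bit_false {g : X} {v : V} : D.bit g v = false ↔ g ∈ (ker D.Γ v : Subgroup X) := by
  simp [bit]

theorem bit_true {g : X} {v : V} : D.bit g v = true ↔ g ∉ (ker D.Γ v : Subgroup X) := by
  simp [bit]

theorem bit_conj {h g : X} {v : V} : D.bit (h * g * h⁻¹) (h • v) = D.bit g v := by
  unfold bit; exact decide_eq_decide.mpr (not_congr D.ker_conj)

theorem bit_inv {g : X} {v : V} : D.bit g⁻¹ v = D.bit g v := by
  unfold bit; exact decide_eq_decide.mpr (not_congr inv_mem_iff)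

theorem bit_comm {h g : X} {v : V} (e : h * g = g * h) : D.bit g (h • v) = D.bit g v := by
  have := D.bit_conj (h := h) (g := g) (v := v)
  rwa [e, mul_inv_cancel_right] at this

theorem bit_mul {g k : X} {v μ : V} (hμ : D.Γ.Adj v μ) (g0 : g • v = v) (g1 : g • μ = μ)
    (k0 : k • v = v) (k1 : k • μ = μ) : D.bit (g * k) v = xor (D.bit g v) (D.bit k v) := by
  by_cases hg : g ∈ (ker D.Γ v : Subgroup X)
  · rw [D.bit_false.mpr hg, Bool.false_xor]
    unfold bit; exact decide_eq_decide.mpr (not_congr (mul_mem_cancel_left hg))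
  · rw [D.bit_true.mpr hg]
    by_cases hk : k ∈ (ker D.Γ v : Subgroup X)
    · rw [D.bit_false.mpr hk]
      exact D.bit_true.mpr fun h => hg ((mul_mem_cancel_right hk).mp h)
    · rw [D.bit_true.mpr hk]
      exact D.bit_false.mpr (D.mul_ker hμ g0 g1 k0 k1 hg hk)

theorem K2_fix {g : X} {m β v : V} (hg : g ∈ K X D.Γ 2 m) (h : D.Γ.Adj m β)
    (h' : D.Γ.Adj β v) : g • β = β ∧ g • v = v :=
  ⟨K_fix (K_step hg h), K_fix (K_step (n := 0) (K_step hg h) h')⟩

theorem bit_mul2 {g k : X} {m β v : V} (hg : g ∈ K X D.Γ 2 m) (hk : k ∈ K X D.Γ 2 m)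
    (h : D.Γ.Adj m β) (h' : D.Γ.Adj β v) : D.bit (g * k) v = xor (D.bit g v) (D.bit k v) :=
  D.bit_mul h'.symm (D.K2_fix hg h h').2 (D.K2_fix hg h h').1 (D.K2_fix hk h h').2
    (D.K2_fix hk h h').1

/-- A neighbour is determined by its involution. -/
theorem av_inj {α p q : V} (ha : ¬ D.B α) (hp : D.Γ.Adj α p) (hq : D.Γ.Adj α q)
    (e : D.av p = D.av q) : p = q := by
  by_contra hne
  exact D.ne2 ha hp hq hne e

/-- Counting an edge stabiliser by the kernel of an end. -/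
theorem edge_le {α m : V} (h : D.Γ.Adj α m) :
    Nat.card (G X α ⊓ G X m : Subgroup X) ≤ 2 * Nat.card (ker D.Γ m : Subgroup X) := by
  classical
  haveI := D.fin m
  haveI : Finite (ker D.Γ m : Subgroup X) := D.finite_of_le fun g hg => GoldschmidtS3.mem_G.mpr hg.1
  refine card_le_mul (fun g => decide (g ∈ (ker D.Γ m : Subgroup X))) (fun g hg k hk e => ?_)
    (le_trans (card_image_le _ _) (by simp))
  simp only [decide_eq_decide] at e
  by_cases hgm : g ∈ (ker D.Γ m : Subgroup X)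
  · exact mul_mem (inv_mem hgm) (e.mp hgm)
  · exact D.mul_ker h.symm (GoldschmidtS3.mem_G.mp (inv_mem hg.2))
      (GoldschmidtS3.mem_G.mp (inv_mem hg.1)) (GoldschmidtS3.mem_G.mp hk.2)
      (GoldschmidtS3.mem_G.mp hk.1) (fun c => hgm (inv_mem_iff.mp c)) (fun c => hgm (e.mpr c))

/-- An element with all bits one at distance two. -/
def AllOne (m : V) (k : X) : Prop :=
  k ∈ K X D.Γ 2 m ∧ ∀ β v, D.Γ.Adj m β → D.Γ.Adj β v → v ≠ m → D.bit k v = true

theorem allOne_conj {m : V} {k : X} (hk : D.AllOne m k) (g : X) :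
    D.AllOne (g • m) (g * k * g⁻¹) := by
  refine ⟨D.K_conj' hk.1, fun β v h h' hv => ?_⟩
  have e : g • g⁻¹ • v = v := smul_inv_smul g v
  rw [← e, D.bit_conj]
  refine hk.2 (g⁻¹ • β) _ ?_ (D.adj_smul g⁻¹ h') fun c => hv (by rw [← e, c])
  have := D.adj_smul g⁻¹ h
  rwa [inv_smul_smul] at this

theorem K_three {g : X} {m : V} (hg : g ∈ K X D.Γ 2 m)
    (h : ∀ β v, D.Γ.Adj m β → D.Γ.Adj β v → v ≠ m → D.bit g v = false) : g ∈ K X D.Γ 3 m := by
  refine D.K_eq_of_bits hg fun x h0 hp => D.bit_false.mp ?_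
  refine h (x 1) (x 2) (h0 ▸ hp.1 0 (by omega)) (hp.1 1 (by omega)) ?_
  rw [← h0]
  exact (hp.2 0 (by omega)).symm

theorem allOne_div {m : V} {k k' : X} (hk : D.AllOne m k) (hk' : D.AllOne m k') :
    k * k'⁻¹ ∈ K X D.Γ 3 m :=
  D.K_three (mul_mem hk.1 (inv_mem hk'.1)) fun β v h h' hv => by
    rw [D.bit_mul2 hk.1 (inv_mem hk'.1) h h', D.bit_inv, hk.2 β v h h' hv, hk'.2 β v h h' hv]
    rfl

end Data

namespace Frame

variable {D : Data X V} (F : Frame D)
include F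

theorem q_child (i : Fin 3) {v : V} (h : D.Γ.Adj (F.α i) v) (hv : v ≠ F.m) :
    v = F.p i ∨ v = F.q i :=
  (F.allc i v h).resolve_left hv

theorem pair_child (i : Fin 3) {u v : V} (hu : D.Γ.Adj (F.α i) u) (hum : u ≠ F.m)
    (hv : D.Γ.Adj (F.α i) v) (hvm : v ≠ F.m) (huv : u ≠ v) :
    (u = F.p i ∧ v = F.q i) ∨ (u = F.q i ∧ v = F.p i) := by
  rcases F.q_child i hu hum with e | e <;> rcases F.q_child i hv hvm with e' | e'
  · exact absurd (e.trans e'.symm) huv
  · exact Or.inl ⟨e, e'⟩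
  · exact Or.inr ⟨e, e'⟩
  · exact absurd (e.trans e'.symm) huv

theorem bit_mul_p {g k : X} (hg : g ∈ K X D.Γ 2 F.m) (hk : k ∈ K X D.Γ 2 F.m) (i : Fin 3) :
    D.bit (g * k) (F.p i) = xor (D.bit g (F.p i)) (D.bit k (F.p i)) :=
  D.bit_mul2 hg hk (F.hα i) (F.hp i)

theorem bit_mul_q {g k : X} (hg : g ∈ K X D.Γ 2 F.m) (hk : k ∈ K X D.Γ 2 F.m) (i : Fin 3) :
    D.bit (g * k) (F.q i) = xor (D.bit g (F.q i)) (D.bit k (F.q i)) :=
  D.bit_mul2 hg hk (F.hα i) (F.hq i)

theorem all_child {g : X} {b : Bool} (hp : ∀ i, D.bit g (F.p i) = b)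
    (hq : ∀ i, D.bit g (F.q i) = b) :
    ∀ β v, D.Γ.Adj F.m β → D.Γ.Adj β v → v ≠ F.m → D.bit g v = b := by
  intro β v h h' hv
  obtain ⟨i, rfl⟩ := F.all β h
  rcases F.q_child i h' hv with rfl | rfl
  · exact hp i
  · exact hq i

/-- Counting the kernel of the centre by its bits at the neighbours. -/
theorem ker_le {ι : Type*} [Finite ι] (f : X → ι) {N : ℕ}
    (hf : ∀ g ∈ (ker D.Γ F.m : Subgroup X), ∀ k ∈ (ker D.Γ F.m : Subgroup X), f g = f k →
      ∀ i, D.bit g (F.α i) = D.bit k (F.α i))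
    (hN : Nat.card (f '' ((ker D.Γ F.m : Subgroup X) : Set X)) ≤ N) :
    Nat.card (ker D.Γ F.m : Subgroup X) ≤ N * Nat.card (K X D.Γ 2 F.m) := by
  haveI := D.K_finite (n := 2) F.m
  refine card_le_mul f (fun g hg k hk e => F.K_two.mpr ⟨mul_mem (inv_mem hg) hk, fun i => ?_⟩) hN
  refine D.bit_false.mp ?_
  rw [D.bit_mul (F.hα i).symm ((inv_mem hg).2 _ (F.hα i)) (inv_mem hg).1 (hk.2 _ (F.hα i)) hk.1,
    D.bit_inv, hf g hg k hk e i, Bool.xor_self]

theorem edge_le_eight (h8 : Nat.card (K X D.Γ 2 F.m) ≤ 8) (i : Fin 3) :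
    Nat.card (G X (F.α i) ⊓ G X F.m : Subgroup X) ≤ 128 := by
  have h1 := F.ker_le (fun g i => D.bit g (F.α i)) (fun g _ k _ e i => congrFun e i)
    (le_trans (card_image_le _ _) (le_of_eq (card_bool_fun 3)))
  have h2 := D.edge_le (F.hα i).symm
  omega

end Frame

end Cfsg.Agent.GoldRadius82
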