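import Cfsg.Agent.Lib.GoldRadius82Meet

/-!
An even radius is at most four.
-/

set_option autoImplicit false
set_option linter.all false

namespace Cfsg.Agent.GoldRadius82

open Subgroup
open GoldschmidtS3 (G ker zedge)

variable {X V : Type*} [Group X] [MulAction X V]

namespace Data

variable (D : Data X V)
include D
variable (he : Even D.r) (hr : 6 ≤ D.r)
include he hr

/-- The pair outside the middle lies in the middle group at all such places or at none. -/
theorem pair_transfer {x y : ℕ → V} {n : ℕ} (hn : 1 ≤ n) (hT : D.Tr n) (hx : IsPath D.Γ x n)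
    (hy : IsPath D.Γ y n) (hbx : D.B (x 0)) (hby : D.B (y 0)) {f f' : X}
    (hf : D.Pair (x 0) (x 1) f) (hf' : D.Pair (y 0) (y 1) f') (hz : f ∈ D.Zv (x 1)) :
    f' ∈ D.Zv (y 1) := by
  obtain ⟨g, hg⟩ := hT x y hx hy (iff_of_true hbx hby)
  have ha : ¬ D.B (x 1) := D.not_B_of_odd hx hbx hn odd_one
  have h1 := D.Zv_conj ha (g := g) hz
  rw [hg 1 hn] at h1
  have h2 := D.Pair_conj hbx hf g
  rw [hg 0 (Nat.zero_le _), hg 1 hn] at h2
  rcases D.Pair_unique he (by omega) hby (hy.1 0 hn) h2 hf' with e | e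
  · rw [e]; exact h1
  · rw [e]; exact mul_mem h1 (D.mem_Zv (hy.1 0 hn).symm)

/-- An outer child of one end is not in the group of the other end. -/
theorem outer_notMem {x : ℕ → V} (hx : IsPath D.Γ x 4) (hb : D.B (x 0)) {β P : V}
    (hβ : D.Γ.Adj (x 0) β) (hβ1 : β ≠ x 1) (hP : D.Γ.Adj β P) (hP0 : P ≠ x 0) :
    D.av P ∉ D.Vv (x 4) := by
  intro hmem
  have hr4 : 4 ≤ D.r := by omega
  have b2 : D.B (x 2) := D.B_of_even hx hb (by omega) even_two
  have b4 : D.B (x 4) := D.B_of_even hx hb le_rfl (by decide)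
  have bP : D.B P := D.B_two hβ hP hb
  have a01 := hx.1 0 (by omega); have a12 := hx.1 1 (by omega)
  have a23 := hx.1 2 (by omega); have a34 := hx.1 3 (by omega)
  -- the far end sees the child only through a pair
  obtain ⟨f', hf'⟩ := D.exists_pair a34.symm
  have key : ∀ β' P', D.Γ.Adj (x 0) β' → β' ≠ x 1 → D.Γ.Adj β' P' → P' ≠ x 0 →
      D.av P' ∈ D.Vv (x 4) → D.av P' * f' ∈ D.Zv (x 3) ∧ D.av P' ∉ D.Zv (x 3) := by
    intro β' P' hβ' hβ'1 hP' hP'0 hmem'
    have bP' := D.B_two hβ' hP' hb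
    have hnot : D.av P' ∉ D.Zv (x 3) := by
      intro hc
      have h2 : D.av P' ∈ D.Vv (x 2) := D.Zv_le_Vv a23 hc
      have h1 := D.inter2 he hr4 b2 a01.symm a12 (hx.2 0 (by omega)) h2 (D.mem_Vv hβ' hP')
      rcases D.Z_cases (D.not_B_of_odd hx hb (by omega) odd_one) h1 with e | ⟨n, hn, e⟩
      · exact D.av_ne bP' e
      · by_cases hn0 : n = x 0
        · rw [hn0] at e; exact D.ne2 (D.B_of_adj hβ'.symm hb) hP' hβ'.symm hP'0 e
        · exact D.ne4 hb hβ' a01 hβ'1 hP' hn hP'0 hn0 e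
    refine ⟨?_, hnot⟩
    obtain ⟨α2, α3, p, q, h2, h3, n2, n3, n23, hp, hq, hpm, hqm, rfl⟩ := hf'
    -- an element fixing the child and moving the outer branches of the far end
    have hpath : IsPath D.Γ (cons P' (cons β' x)) 6 :=
      ((hx.cons hβ'.symm fun _ => hβ'1).cons hP'.symm fun _ => hP'0)
    obtain ⟨g, hg, hgn⟩ := D.mv_six he hr hpath bP'
    have gP : g • P' = P' := hg 0 (by omega)
    have g4 : g • x 4 = x 4 := hg 6 le_rfl
    have g3 : g • x 3 = x 3 := hg 5 (by omega)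
    have g2 : g • x 2 = x 2 := hg 4 (by omega)
    have gk3 : g ∈ (ker D.Γ (x 3) : Subgroup X) :=
      D.ker_of_fix a23.symm a34 (hx.2 2 (by omega)) g3 g2 g4
    have hgfix : g * D.av P' * g⁻¹ = D.av P' := by rw [← D.av_smul g bP', gP]
    have single : ∀ {γ δ R S : V}, D.Γ.Adj (x 4) γ → D.Γ.Adj (x 4) δ → γ ≠ x 3 → δ ≠ x 3 → γ ≠ δ →
        D.Γ.Adj γ R → D.Γ.Adj δ S → R ≠ x 4 → S ≠ x 4 →
        D.av P' * D.av R ∈ D.Zv (x 3) → False := by
      intro γ δ R S hγ hδ nγ nδ nγδ hR hS hR4 hS4 hz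
      have h1 := D.Zv_fix (D.not_B_of_odd hx hb (by omega) (by decide)) gk3 hz
      rw [show g * (D.av P' * D.av R) * g⁻¹ = (g * D.av P' * g⁻¹) * (g * D.av R * g⁻¹) by group,
        hgfix] at h1
      rw [← D.av_smul g (D.B_two hγ hR b4)] at h1
      exact D.ne4 b4 hδ hγ nγδ.symm
        (D.move_eq a34.symm hγ hδ nγ.symm nδ.symm nγδ g4 g3 hgn ▸ D.adj_smul g hR) hR
        (fun e => hR4 (smul_left_cancel g (e.trans g4.symm))) hR4 (mul_left_cancel h1)
    rcases D.V_cases he hr4 b4 a34.symm h2 h3 n2 n3 n23 hp hq hpm hqm hmem' with k | k | k | k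
    · exact absurd k hnot
    · exact (single h2 h3 n2 n3 n23 hp hq hpm hqm k).elim
    · exact (single h3 h2 n3 n2 n23.symm hq hp hqm hpm k).elim
    · exact k
  obtain ⟨k1, k2⟩ := key β P hβ hβ1 hP hP0 hmem
  -- exchange the outer branches at the near end
  obtain ⟨h, hh, hhn⟩ := D.mv_four he hr4 hx.reverse
  simp only [Nat.sub_self] at hhn
  have hhi : ∀ i, i ≤ 4 → h • x i = x i := fun i hi => by
    have := hh (4 - i) (by omega)
    simpa only [show 4 - (4 - i) = i by omega] using this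
  obtain ⟨γ, hγ, hγ1, hγβ⟩ := D.exists_third a01 hβ hβ1.symm
  have hβγ : h • β = γ := D.move_eq a01 hβ hγ hβ1.symm hγ1 hγβ (hhi 0 (by omega)) (hhi 1 (by omega)) hhn
  have hP' : D.Γ.Adj γ (h • P) := hβγ ▸ D.adj_smul h hP
  have hP'0 : h • P ≠ x 0 := fun e => hP0 (smul_left_cancel h (e.trans (hhi 0 (by omega)).symm))
  have hmem2 : D.av (h • P) ∈ D.Vv (x 4) := by
    rw [D.av_smul h bP]
    have := D.Vv_conj b4 (g := h) hmem
    rwa [hhi 4 le_rfl] at this
  obtain ⟨l1, -⟩ := key γ (h • P) hγ hγ1.symm hP' hP'0 hmem2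
  set f := D.av P * D.av (h • P) with hfdef
  have hf : D.Pair (x 0) (x 1) f :=
    ⟨β, γ, P, h • P, hβ, hγ, hβ1, hγ1.symm, hγβ, hP, hP', hP0, hP'0, rfl⟩
  have hfV0 : f ∈ D.Vv (x 0) := D.Pair_mem hf
  have hfZ3 : f ∈ D.Zv (x 3) := by
    have hc : f' * D.av (h • P) = D.av (h • P) * f' :=
      D.Vv_comm he hr4 b4 (D.Pair_mem hf') hmem2
    have e : D.av P * f' * (D.av (h • P) * f') = f :=
      D.comm_cancel hc.symm (D.Vv_sq he hr4 b4 (D.Pair_mem hf'))
    exact e ▸ mul_mem k1 l1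
  have hfZ1 : f ∈ D.Zv (x 1) :=
    D.inter2 he hr4 b2 a01.symm a12 (hx.2 0 (by omega)) (D.Zv_le_Vv a23 hfZ3) hfV0
  have hf'Z : f' ∈ D.Zv (x 3) :=
    D.pair_transfer he hr (n := 4) (by omega) (D.tr_four he hr4) hx hx.reverse hb
      (by simpa using b4) hf (by simpa using hf') hfZ1
  exact k2 ((Subgroup.mul_mem_cancel_right _ hf'Z).mp k1)

/-- The groups at distance four meet in the involution of the middle. -/
theorem inter4 {x : ℕ → V} (hx : IsPath D.Γ x 4) (hb : D.B (x 0)) {e : X}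
    (h0 : e ∈ D.Vv (x 0)) (h4 : e ∈ D.Vv (x 4)) : e = 1 ∨ e = D.av (x 2) := by
  by_contra hcon
  push Not at hcon
  have hr4 : 4 ≤ D.r := by omega
  have bad : ∀ {z : ℕ → V}, IsPath D.Γ z 4 → D.B (z 0) → ∀ {w : X}, w ∈ D.Vv (z 0) →
      w ∈ D.Vv (z 4) → w ≠ 1 → w ≠ D.av (z 2) →
      w ∉ D.Vv (z 2) ∧ ∀ f, D.Pair (z 0) (z 1) f → w * f ∈ D.Zv (z 1) := by
    intro z hz hbz w w0 w4 w1 w2
    have a01 := hz.1 0 (by omega); have a12 := hz.1 1 (by omega)
    have a23 := hz.1 2 (by omega); have a34 := hz.1 3 (by omega)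
    have b2 : D.B (z 2) := D.B_of_even hz hbz (by omega) even_two
    have hn2 : w ∉ D.Vv (z 2) := by
      intro hc
      rcases D.Z_meet he hr4 b2 a12.symm a23 (hz.2 1 (by omega))
        (D.inter2 he hr4 b2 a01.symm a12 (hz.2 0 (by omega)) hc w0)
        (D.inter2 he hr4 b2 a34 a23.symm (hz.2 2 (by omega)).symm hc w4) with e | e
      · exact w1 e
      · exact w2 e
    refine ⟨hn2, fun f hf => ?_⟩
    obtain ⟨α2, α3, p, q, h2, h3, n2, n3, n23, hp, hq, hpm, hqm, rfl⟩ := hf
    have single : ∀ {γ R : V}, D.Γ.Adj (z 0) γ → γ ≠ z 1 → D.Γ.Adj γ R → R ≠ z 0 →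
        w * D.av R ∈ D.Zv (z 1) → False := by
      intro γ R hγ nγ hR hR0 hzz
      have bR := D.B_two hγ hR hbz
      have ha1 : ¬ D.B (z 1) := D.not_B_of_odd hz hbz (by omega) odd_one
      have hw : D.av R = w * (w * D.av R) := by
        rw [← mul_assoc, D.Vv_sq he hr4 hbz w0, one_mul]
      have hm4 : D.av (z 2) ∈ D.Vv (z 4) := D.mem_Vv a34.symm a23.symm
      have c0 : D.av R * D.av (z 0) = D.av (z 0) * D.av R := D.comm2 bR hbz hR.symm hγ.symm
      obtain ⟨S, hS, hS0, hSR⟩ := D.exists_third hγ.symm hR hR0.symm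
      have hsib : D.av R * D.av (z 0) = D.av S :=
        D.third (D.B_of_adj hγ.symm hbz) hR hγ.symm hS hR0 hSR hS0
      rcases D.Z_cases ha1 hzz with e | ⟨n, hn, e⟩
      · rw [e, mul_one] at hw
        exact D.outer_notMem he hr hz hbz hγ nγ hR hR0 (hw ▸ w4)
      · rw [e] at hw
        rcases eq_or_ne n (z 2) with rfl | hn2'
        · exact D.outer_notMem he hr hz hbz hγ nγ hR hR0 (hw ▸ mul_mem w4 hm4)
        rcases eq_or_ne n (z 0) with rfl | hn0
        · -- the sibling of the child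
          refine D.outer_notMem he hr hz hbz hγ nγ hS hS0.symm ?_
          rw [← hsib, hw, mul_assoc, D.av_sq hbz, mul_one]
          exact w4
        · have e3 : D.av n = D.av (z 0) * D.av (z 2) :=
            (D.third ha1 a01.symm a12 hn (hz.2 0 (by omega)) hn0.symm hn2'.symm).symm
          have c02 : D.av (z 0) * D.av (z 2) = D.av (z 2) * D.av (z 0) :=
            D.Vv_comm he hr4 hbz (D.self_mem_Vv a01) (D.mem_Vv a01 a12)
          refine D.outer_notMem he hr hz hbz hγ nγ hS hS0.symm ?_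
          rw [← hsib, hw, e3, c02, mul_assoc, mul_assoc, D.av_sq hbz, mul_one]
          exact mul_mem w4 hm4
    rcases D.V_cases he hr4 hbz a01 h2 h3 n2 n3 n23 hp hq hpm hqm w0 with k | k | k | k
    · exact absurd (D.Zv_le_Vv a12.symm k) hn2
    · exact (single h2 n2 hp hpm k).elim
    · exact (single h3 n3 hq hqm k).elim
    · exact k
  obtain ⟨f, hf⟩ := D.exists_pair (hx.1 0 (by omega))
  have a01 := hx.1 0 (by omega); have a12 := hx.1 1 (by omega)
  have a23 := hx.1 2 (by omega); have a34 := hx.1 3 (by omega)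
  set u := x 0 with hu; set α1 := x 1 with hα1; set m := x 2 with hm
  set α2 := x 3 with hα2; set v := x 4 with hv
  have bm : D.B m := D.B_of_even hx hb (by omega) even_two
  obtain ⟨α3, h3, n13, n23⟩ := D.exists_third a12.symm a23 (hx.2 1 (by omega))
  obtain ⟨v', hv', hvm', hvv'⟩ := D.exists_third a23.symm a34 (hx.2 2 (by omega))
  obtain ⟨w, hw, hwm⟩ := D.exists_other h3.symm
  obtain ⟨w', hw', hwm', hww'⟩ := D.exists_third h3.symm hw hwm.symm
  -- paths through the middle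
  let mk : V → V → V → V → V → ℕ → V := fun a b c d e => cons a (cons b (cons c (cons d fun _ => e)))
  have mkp : ∀ {a b d e : V}, D.Γ.Adj b a → D.Γ.Adj m b → D.Γ.Adj m d → D.Γ.Adj d e → a ≠ m →
      b ≠ d → m ≠ e → IsPath D.Γ (mk a b m d e) 4 := by
    intro a b d e h1 h2 h3 h4 n1 n2 n3
    exact ((((isPath_zero fun _ => e).cons h4 (by omega)).cons h3 fun _ => n3).cons h2.symm
      fun _ => n2).cons h1.symm fun _ => n1
  have hum : u ≠ m := hx.2 0 (by omega)
  have n12 : α1 ≠ α2 := hx.2 1 (by omega)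
  have hmv : m ≠ v := hx.2 2 (by omega)
  have pv := mkp a01.symm a12.symm a23 a34 hum n12 hmv
  have pv' := mkp a01.symm a12.symm a23 hv' hum n12 hvm'
  have pw := mkp a01.symm a12.symm h3 hw hum n13 hwm.symm
  have pw' := mkp a01.symm a12.symm h3 hw' hum n13 hwm'
  -- every far end gives an element
  have get : ∀ {d e' : V}, D.Γ.Adj m d → D.Γ.Adj d e' → α1 ≠ d → m ≠ e' →
      ∃ y, y ∈ D.Vv u ∧ y ∈ D.Vv e' ∧ y ≠ 1 ∧ y ≠ D.av m := by
    intro d e' hd he' nd ne'
    obtain ⟨g, hg⟩ := D.tr_four he hr4 _ _ pv (mkp a01.symm a12.symm hd he' hum nd ne') Iff.rfl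
    have g0 : g • u = u := hg 0 (by omega)
    have g2 : g • m = m := hg 2 (by omega)
    have g4 : g • v = e' := hg 4 le_rfl
    refine ⟨g * e * g⁻¹, g0 ▸ D.Vv_conj hb h0,
      g4 ▸ D.Vv_conj (D.B_of_even hx hb le_rfl (by decide)) h4, fun h => hcon.1 (conj_eq_one_iff.mp h),
      fun h => hcon.2 ?_⟩
    calc e = g⁻¹ * (g * e * g⁻¹) * g := by group
      _ = D.av m := by rw [h, mul_assoc, ← D.comm_of_fix bm g2, inv_mul_cancel_left]
  -- the differences
  have bf : ∀ {d e' : V}, D.Γ.Adj m d → D.Γ.Adj d e' → α1 ≠ d → m ≠ e' → ∀ y, y ∈ D.Vv u →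
      y ∈ D.Vv e' → y ≠ 1 → y ≠ D.av m → y ∉ D.Vv m ∧ y * f ∈ D.Zv α1 := by
    intro d e' hd he' nd ne' y y0 y4 y1 y2
    obtain ⟨r1, r2⟩ := bad (mkp a01.symm a12.symm hd he' hum nd ne') hb y0 y4 y1 y2
    exact ⟨r1, r2 f hf⟩
  have ha1 : ¬ D.B α1 := D.B_of_adj a12 bm
  have hmu : D.av m ∈ D.Vv u := D.mem_Vv a01 a12
  -- two elements at sibling ends differ outside the centre
  have diff : ∀ {d p q : V}, D.Γ.Adj m d → D.Γ.Adj d p → D.Γ.Adj d q → α1 ≠ d → m ≠ p → m ≠ q →
      p ≠ q → ∀ y y', y ∈ D.Vv u → y ∈ D.Vv p → y ≠ 1 → y ≠ D.av m → y' ∈ D.Vv u → y' ∈ D.Vv q →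
      y' ≠ 1 → y' ≠ D.av m → y * y' ≠ 1 ∧ y * y' ≠ D.av m := by
    intro d p q hd hp hq nd nmp nmq npq y y' y0 yp y1 y2 y0' yq y1' y2'
    have bp := D.B_two hd hp bm
    have hyn := (bf hd hp nd nmp y y0 yp y1 y2).1
    have : ∀ c, c ∈ D.Vv q → y * y' = c → False := fun c hc e' => by
      have hyq : y ∈ D.Vv q := by
        rw [← eq_mul_inv_iff_mul_eq] at e'
        exact e' ▸ mul_mem hc (inv_mem yq)
      exact hyn (D.Zv_le_Vv hd (D.inter2 he hr4 bp hq hp npq.symm yp hyq))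
    exact ⟨this 1 (one_mem _), this _ (D.mem_Vv hq.symm hd.symm)⟩
  obtain ⟨e', e'0, e'4, e'1, e'2⟩ := get a23 hv' n12 hvm'
  obtain ⟨y, y0, y4, y1, y2⟩ := get h3 hw n13 hwm.symm
  obtain ⟨y', y'0, y'4, y'1, y'2⟩ := get h3 hw' n13 hwm'
  -- differences lie in the middle group
  have dz : ∀ {a b : X}, a * f ∈ D.Zv α1 → b * f ∈ D.Zv α1 → b ∈ D.Vv u → a * b ∈ D.Zv α1 := by
    intro a b ha hb' hbu
    have := mul_mem ha hb'
    rwa [D.comm_cancel (D.Vv_comm he hr4 hb hbu (D.Pair_mem hf))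
      (D.Vv_sq he hr4 hb (D.Pair_mem hf))] at this
  -- two nontrivial classes multiply to the trivial one
  have classes : ∀ {a b : X}, a ∈ D.Zv α1 → b ∈ D.Zv α1 → a ≠ 1 → a ≠ D.av m → b ≠ 1 →
      b ≠ D.av m → a * b = 1 ∨ a * b = D.av m := by
    intro a b ha hb' a1 a2 b1 b2
    rcases D.Z_cases ha1 ha with e1 | ⟨n, hn, rfl⟩
    · exact absurd e1 a1
    rcases D.Z_cases ha1 hb' with e1 | ⟨k, hk, rfl⟩
    · exact absurd e1 b1
    have hnm : n ≠ m := fun h' => a2 (by rw [h'])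
    have hkm : k ≠ m := fun h' => b2 (by rw [h'])
    by_cases hnk : n = k
    · exact Or.inl (by rw [hnk, D.av_sq (D.B_adj_of hk ha1)])
    · exact Or.inr (D.third ha1 hn hk a12 hnk hnm hkm)
  obtain ⟨-, fe⟩ := bf a23 a34 n12 hmv e h0 h4 hcon.1 hcon.2
  obtain ⟨-, fe'⟩ := bf a23 hv' n12 hvm' e' e'0 e'4 e'1 e'2
  obtain ⟨-, fy⟩ := bf h3 hw n13 hwm.symm y y0 y4 y1 y2
  obtain ⟨hd1, hd2⟩ := diff a23 a34 hv' n12 hmv hvm' hvv' e e' h0 h4 hcon.1 hcon.2 e'0 e'4 e'1 e'2
  -- one of the first two elements agrees with the third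
  obtain ⟨v0, hv0, hv0m, z, zu, zv, zn1, zn2, zw⟩ : ∃ v0, D.Γ.Adj α2 v0 ∧ m ≠ v0 ∧
      ∃ z, z ∈ D.Vv u ∧ z ∈ D.Vv v0 ∧ z ≠ 1 ∧ z ≠ D.av m ∧ z ∈ D.Vv w := by
    have mw : D.av m ∈ D.Vv w := D.mem_Vv hw.symm h3.symm
    have key : ∀ a, a ∈ D.Vv u → (a * y = 1 ∨ a * y = D.av m) → a ∈ D.Vv w := by
      rintro a au (h' | h')
      · rw [← eq_mul_inv_iff_mul_eq, one_mul] at h'
        exact h' ▸ inv_mem y4
      · rw [← eq_mul_inv_iff_mul_eq] at h'
        exact h' ▸ mul_mem mw (inv_mem y4)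
    by_cases c1 : e * y = 1 ∨ e * y = D.av m
    · exact ⟨v, a34, hmv, e, h0, h4, hcon.1, hcon.2, key e h0 c1⟩
    · push Not at c1
      refine ⟨v', hv', hvm', e', e'0, e'4, e'1, e'2, key e' e'0 ?_⟩
      have := classes (dz fe fe' e'0) (dz fe fy y0) hd1 hd2 c1.1 c1.2
      have e5 : e * e' * (e * y) = e' * y := by
        rw [D.Vv_comm he hr4 hb h0 e'0]
        calc e' * e * (e * y) = e' * (e * e) * y := by group
          _ = e' * y := by rw [D.Vv_sq he hr4 hb h0, mul_one]
      rwa [e5] at this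
  have bv0 := D.B_two a23 hv0 bm
  have bw := D.B_two h3 hw bm
  -- moving the third end to its sibling from both sides
  have both : ∀ {a b : V}, D.Γ.Adj b a → D.Γ.Adj m b → a ≠ m → b ≠ α3 → D.B a → z ∈ D.Vv a →
      ∃ y', y' ∈ D.Vv a ∧ y' ∈ D.Vv w' ∧ z * y' ∈ D.Zv b ∧ z * y' ≠ 1 ∧ z * y' ≠ D.av m ∧
        z * y' ∈ D.Vv a := by
    intro a b hab hmb ham hb3 ba za
    have p3 : IsPath D.Γ (cons a (cons b (cons m fun _ => α3))) 3 :=
      (((isPath_zero fun _ => α3).cons h3 (by omega)).cons hmb.symm fun _ => hb3).cons hab.symm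
        fun _ => ham
    obtain ⟨g, hg, hgn⟩ := D.mv_three he hr4 p3
    have g0 : g • a = a := hg 0 (by omega)
    have g2 : g • m = m := hg 2 (by omega)
    have g3 : g • α3 = α3 := hg 3 le_rfl
    have gw : g • w = w' := D.move_eq h3.symm hw hw' hwm.symm hwm' hww' g3 g2 hgn
    set y' := g * z * g⁻¹ with hy'
    have ya : y' ∈ D.Vv a := g0 ▸ D.Vv_conj ba za
    have yw : y' ∈ D.Vv w' := gw ▸ D.Vv_conj bw zw
    have y1' : y' ≠ 1 := fun h => zn1 (conj_eq_one_iff.mp h)
    have y2' : y' ≠ D.av m := fun h => zn2 (by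
      calc z = g⁻¹ * y' * g := by rw [hy']; group
        _ = D.av m := by rw [h, mul_assoc, ← D.comm_of_fix bm g2, inv_mul_cancel_left])
    obtain ⟨f2, hf2⟩ := D.exists_pair hab.symm
    obtain ⟨zn, zf⟩ := bad (mkp hab hmb h3 hw ham hb3 hwm.symm) ba za zw zn1 zn2
    obtain ⟨-, yf⟩ := bad (mkp hab hmb h3 hw' ham hb3 hwm') ba ya yw y1' y2'
    have hz' : z * y' ∈ D.Zv b := by
      have := mul_mem (zf f2 hf2) (yf f2 hf2)
      rwa [D.comm_cancel (D.Vv_comm he hr4 ba ya (D.Pair_mem hf2))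
        (D.Vv_sq he hr4 ba (D.Pair_mem hf2))] at this
    have hno : ∀ c, c ∈ D.Vv w' → z * y' = c → False := fun c hc e' => by
      have hzq : z ∈ D.Vv w' := by
        rw [← eq_mul_inv_iff_mul_eq] at e'
        exact e' ▸ mul_mem hc (inv_mem yw)
      exact zn (D.Zv_le_Vv h3 (D.inter2 he hr4 bw hw' hw hww'.symm zw hzq))
    exact ⟨y', ya, yw, hz', hno 1 (one_mem _), hno _ (D.mem_Vv hw'.symm h3.symm), mul_mem za ya⟩
  obtain ⟨yu, -, yuw, uz, u1, u2, -⟩ := both a01.symm a12.symm hum n13 hb zu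
  obtain ⟨yv, -, yvw, vz, v1, v2, -⟩ := both hv0 a23 hv0m.symm n23 bv0 zv
  rcases D.Z_cases ha1 uz with e1 | ⟨n, hn, e1⟩
  · exact u1 e1
  rcases D.Z_cases (D.B_of_adj a23.symm bm) vz with e2 | ⟨k, hk, e2⟩
  · exact v1 e2
  have hnm : n ≠ m := fun h' => u2 (by rw [e1, h'])
  have hkm : k ≠ m := fun h' => v2 (by rw [e2, h'])
  set f3 := D.av n * D.av k with hf3
  have hpair : D.Pair m α3 f3 :=
    ⟨α1, α2, n, k, a12.symm, a23, n13, n23, n12, hn, hk, hnm, hkm, rfl⟩
  have hf3w : f3 ∈ D.Vv w' := by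
    have e3 : f3 = yu * yv := by
      have hb' : D.B w' := D.B_two h3 hw' bm
      rw [hf3, ← e1, ← e2]
      have h1 : z * yu = yu * z := by
        have hz2 := D.Vv_inv he hr4 bm (D.Zv_le_Vv a12.symm uz)
        rw [mul_inv_rev, D.Vv_inv he hr4 hb' yuw, D.Vv_inv he hr4 hb zu] at hz2
        exact hz2.symm
      rw [h1]
      calc yu * z * (z * yv) = yu * (z * z) * yv := by group
        _ = yu * yv := by rw [D.Vv_sq he hr4 hb zu, mul_one]
    exact e3 ▸ mul_mem yuw yvw
  have hf3Z : f3 ∈ D.Zv α3 :=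
    D.inter2 he hr4 bm hw' h3.symm hwm'.symm (D.Pair_mem hpair) hf3w
  obtain ⟨pm, hpm0, hpm1⟩ : ∃ pm : ℕ → V, pm 0 = m ∧ pm 1 = α3 :=
    ⟨cons m fun _ => α3, rfl, rfl⟩
  have hp1 : IsPath D.Γ pm 1 := ⟨fun i hi => by
    obtain rfl : i = 0 := by omega
    rw [hpm0, hpm1]; exact h3, fun i hi => absurd hi (by omega)⟩
  have hfZ : f ∈ D.Zv α1 :=
    D.pair_transfer he hr le_rfl D.tr_one hp1 (hx.mono (by omega)) (by rw [hpm0]; exact bm) hb
      (by rw [hpm0, hpm1]; exact hpair) hf (by rw [hpm1]; exact hf3Z)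
  have hbad := bad hx hb h0 h4 hcon.1 hcon.2
  exact hbad.1 (D.Zv_le_Vv a12.symm ((Subgroup.mul_mem_cancel_right _ hfZ).mp (hbad.2 f hf)))

/-- The commutator along a critical path is the involution at `r - 2`. -/
theorem mid {x : ℕ → V} (hp : IsPath D.Γ x (D.r + 2)) (h : D.Crit x) :
    D.av (x 0) * D.av (D.av (x (D.r + 2)) • x 0) = D.av (x (D.r - 2)) := by
  have hr4 : 4 ≤ D.r := by omega
  set t := D.av (x (D.r + 2)) with ht
  set w := D.av (x 0) * D.av (t • x 0) with hw
  have hby : D.B (x (D.r + 2)) := D.B_of_even hp h.1 le_rfl (by simpa [Nat.even_add] using he)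
  have hbr : D.B (x D.r) := D.crit_end_B he h
  have hb2 : D.B (x 2) := D.B_of_even hp h.1 (by omega) even_two
  have hbr2 : D.B (x (D.r - 2)) := D.B_of_even hp h.1 (by omega)
    ((Nat.even_sub (by omega)).mpr (iff_of_true he even_two))
  have t2 : t • x 2 = x 2 := D.end_fix hp hby (by omega) (by omega)
  have w2 : w ∈ D.Vv (x 2) := mul_mem (D.mem_Vv (hp.1 1 (by omega)).symm (hp.1 0 (by omega)).symm)
    (D.mem_Vv (D.nbr_smul t2 (hp.1 1 (by omega)).symm) (D.adj_smul t (hp.1 0 (by omega)).symm))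
  have hs0 : D.av (x 0) • x D.r = x D.r := D.start_fix hp h.1 (by omega) le_rfl
  have wr : w ∈ D.Vv (x D.r) := by
    have e : w = D.av (D.av (x 0) • x (D.r + 2)) * t := by
      rw [hw, D.av_smul t h.1, D.av_smul (D.av (x 0)) hby, D.av_inv h.1, ht, D.av_inv hby]; group
    rw [e]
    exact mul_mem (D.mem_Vv (D.nbr_smul hs0 (hp.1 D.r (by omega)))
      (D.adj_smul _ (hp.1 (D.r + 1) (by omega)))) (D.mem_Vv (hp.1 D.r (by omega)) (hp.1 (D.r + 1) (by omega)))
  have hw1 : w ≠ 1 := by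
    intro e
    rw [hw, ← eq_inv_iff_mul_eq_one, D.av_inv (D.B_smul.mpr h.1)] at e
    have hk := (D.crit_symm he hp h).2.2
    simp only [Nat.sub_zero, show D.r + 2 - D.r = 2 by omega] at hk
    refine D.av_smul_ne (g := t) hb2 (hp.1 1 (by omega)).symm (hp.1 0 (by omega)).symm
      (hp.2 0 (by omega)) t2 ?_ e.symm
    exact D.move (hp.1 2 (by omega)) (hp.1 1 (by omega)).symm (hp.2 1 (by omega)).symm t2
      (D.end_fix hp hby (by omega) (by omega)) hk
  obtain ⟨e, hpe, hce, -, hei⟩ := D.slide he hr4 hp h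
  set p := D.av (e 0) with hpdef
  have hbe : D.B (e 0) := hce.1
  have e4 : e 4 = x 2 := hei 2 (by omega)
  -- the new involution centralises the group at `x 2`
  have hpc : p * w = w * p := by
    have : D.Vv (x 2) ≤ centralizer ({p} : Set X) := (closure_le _).mpr (by
      rintro u ⟨β, n, hβ, hn, rfl⟩
      rw [SetLike.mem_coe, mem_centralizer_singleton_iff]
      refine (D.comm_of_fix (D.B_two hβ hn hb2) (K_fix (K_step (n := 0) (K_step ?_ hβ) hn))).symm
      rw [← e4]
      exact K_mono (show 0 + 1 + 1 ≤ D.r - 4 by omega)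
        (fix_path hpe (D.av_ball hbe) 4 (by omega) (by omega)))
    exact (mem_centralizer_singleton_iff.mp (this w2)).symm
  have er : e D.r = x (D.r - 2) := by
    have := hei (D.r - 2) (by omega)
    rwa [show D.r - 2 + 2 = D.r by omega] at this
  have er1 : e (D.r + 1) = x (D.r - 1) := by
    have := hei (D.r - 1) (by omega)
    rwa [show D.r - 1 + 2 = D.r + 1 by omega] at this
  have er2 : e (D.r + 2) = x D.r := hei D.r (by omega)
  have pfix : p • x (D.r - 2) = x (D.r - 2) := by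
    rw [← er]; exact D.start_fix hpe hbe (by omega) le_rfl
  have a1 : D.Γ.Adj (x (D.r - 1)) (x D.r) := by
    have := hp.1 (D.r - 1) (by omega)
    rwa [show D.r - 1 + 1 = D.r by omega] at this
  have a2 : D.Γ.Adj (x (D.r - 2)) (x (D.r - 1)) := by
    have := hp.1 (D.r - 2) (by omega)
    rwa [show D.r - 2 + 1 = D.r - 1 by omega] at this
  have n0 : x D.r ≠ x (D.r - 2) := by
    have := hp.2 (D.r - 2) (by omega)
    rw [show D.r - 2 + 2 = D.r by omega] at this
    exact this.symm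
  have hmoved : p • x (D.r - 1) ≠ x (D.r - 1) := by
    have hadj : D.Γ.Adj (e D.r) (e (D.r - 1)) := by
      have := (hpe.1 (D.r - 1) (by omega)).symm
      rwa [show D.r - 1 + 1 = D.r by omega] at this
    have hne : e (D.r - 1) ≠ e (D.r + 1) := by
      have := hpe.2 (D.r - 1) (by omega)
      rwa [show D.r - 1 + 2 = D.r + 1 by omega] at this
    rw [← er1]
    exact D.move hadj (hpe.1 D.r (by omega)) hne (D.start_fix hpe hbe (by omega) le_rfl)
      (D.start_fix hpe hbe (by omega) (by omega)) hce.2.2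
  have q : IsPath D.Γ (cons (x D.r) (cons (x (D.r - 1)) (cons (x (D.r - 2))
      (cons (p • x (D.r - 1)) fun _ => p • x D.r)))) 4 :=
    ((((isPath_zero fun _ => p • x D.r).cons (D.adj_smul p a1) (by omega)).cons
      (D.nbr_smul pfix a2) fun _ h' => n0 (smul_left_cancel p (h'.symm.trans pfix.symm))).cons
      a2.symm fun _ => hmoved.symm).cons a1.symm fun _ => n0
  have w4 : w ∈ D.Vv (p • x D.r) := by
    have := D.Vv_conj hbr (g := p) wr
    rwa [hpc, mul_inv_cancel_right] at this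
  exact (D.inter4 he hr q hbr wr w4).resolve_left hw1

theorem false_of_six_le : False := by
  have hr4 : 4 ≤ D.r := by omega
  obtain ⟨x0, hc0⟩ := D.exists_crit
  obtain ⟨y, hy, hyn⟩ := D.exists_other (hc0.2.1.1 (D.r - 1) (by omega)).symm
  rw [show D.r - 1 + 1 = D.r by omega] at hy
  obtain ⟨y2, hy2, hy2n⟩ := D.exists_other hy.symm
  set x := snoc (snoc x0 (D.r + 1) y) (D.r + 2) y2 with hxdef
  have hp : IsPath D.Γ x (D.r + 2) := by
    refine (hc0.2.1.snoc hy fun i hi => ?_).snoc (by rw [snoc_eq]; exact hy2) fun i hi => ?_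
    · rw [show i = D.r - 1 by omega]; exact hyn
    · rw [show i = D.r by omega, snoc_lt (by omega)]; exact hy2n
  have hxx : ∀ i, i ≤ D.r → x i = x0 i := fun i hi => by
    rw [hxdef, snoc_lt (by omega), snoc_lt (by omega)]
  have h : D.Crit x := ⟨by rw [hxx 0 (by omega)]; exact hc0.1, hp.mono (by omega),
    by rw [hxx 0 (by omega), hxx D.r le_rfl]; exact hc0.2.2⟩
  clear_value x
  obtain ⟨e, hpe, hce, hce2, hei⟩ := D.slide he hr4 hp h
  have hpe2 : IsPath D.Γ (fun i => e (i + 2)) (D.r + 2) :=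
    ⟨fun i hi => hpe.1 (i + 2) (by omega), fun i hi => hpe.2 (i + 2) (by omega)⟩
  set t := D.av (e (D.r + 4)) with ht
  by_cases hr8 : 8 ≤ D.r
  · -- one more extension moves the middle involution
    obtain ⟨d, hpd, hcd, -, hdi⟩ := D.slide he hr4 (hpe.mono (by omega)) hce
    have hmid := D.mid he hr hpe2 hce2
    simp only [show 0 + 2 = 2 from rfl, show D.r + 2 + 2 = D.r + 4 from rfl,
      show D.r - 2 + 2 = D.r by omega] at hmid
    set w := D.av (e 2) * D.av (t • e 2) with hw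
    have hb4 : D.B (e 4) := D.B_of_even hpe hce.1 (by omega) (by decide)
    have hby : D.B (e (D.r + 4)) := D.B_of_even hpe hce.1 le_rfl (by
      simp [Nat.even_add, he, show Even 4 by decide])
    have t4 : t • e 4 = e 4 := D.end_fix hpe hby (by omega) (by omega)
    have we : w ∈ D.Vv (e 4) := mul_mem
      (D.mem_Vv (hpe.1 3 (by omega)).symm (hpe.1 2 (by omega)).symm)
      (D.mem_Vv (D.nbr_smul t4 (hpe.1 3 (by omega)).symm) (D.adj_smul t (hpe.1 2 (by omega)).symm))
    set p := D.av (d 0) with hpdef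
    have d6 : d 6 = e 4 := hdi 4 (by omega)
    have hpc : p * w = w * p := by
      have : D.Vv (e 4) ≤ centralizer ({p} : Set X) := (closure_le _).mpr (by
        rintro u ⟨β, n, hβ, hn, rfl⟩
        rw [SetLike.mem_coe, mem_centralizer_singleton_iff]
        refine (D.comm_of_fix (D.B_two hβ hn hb4) (K_fix (K_step (n := 0) (K_step ?_ hβ) hn))).symm
        rw [← d6]
        exact K_mono (show 0 + 1 + 1 ≤ D.r - 6 by omega)
          (fix_path hpd (D.av_ball hcd.1) 6 (by omega) (by omega)))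
      exact (mem_centralizer_singleton_iff.mp (this we)).symm
    have dr : d D.r = e (D.r - 2) := by
      have := hdi (D.r - 2) (by omega)
      rwa [show D.r - 2 + 2 = D.r by omega] at this
    have dr1 : d (D.r + 1) = e (D.r - 1) := by
      have := hdi (D.r - 1) (by omega)
      rwa [show D.r - 1 + 2 = D.r + 1 by omega] at this
    have hadj : D.Γ.Adj (d D.r) (d (D.r - 1)) := by
      have := (hpd.1 (D.r - 1) (by omega)).symm
      rwa [show D.r - 1 + 1 = D.r by omega] at this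
    have hne : d (D.r - 1) ≠ d (D.r + 1) := by
      have := hpd.2 (D.r - 1) (by omega)
      rwa [show D.r - 1 + 2 = D.r + 1 by omega] at this
    have pf : p • d D.r = d D.r := D.start_fix hpd hcd.1 (by omega) le_rfl
    have hmv : p • d (D.r + 1) ≠ d (D.r + 1) := D.move hadj (hpd.1 D.r (by omega)) hne pf
      (D.start_fix hpd hcd.1 (by omega) (by omega)) hcd.2.2
    have hber : D.B (e D.r) := D.B_of_even hpe hce.1 (by omega) he
    refine D.av_smul_ne (g := p) (D.B_of_even hpd hcd.1 (by omega) he) (hpd.1 D.r (by omega))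
      (show D.Γ.Adj (d (D.r + 1)) (d (D.r + 2)) from hpd.1 _ (by omega))
      (hpd.2 D.r (by omega)).symm pf hmv ?_
    rw [hdi D.r (by omega), D.av_smul p hber, ← hmid, hpc, mul_inv_cancel_right]
  -- the radius six
  have hr6 : D.r = 6 := by obtain ⟨k, hk⟩ := he; omega
  have hp8 : IsPath D.Γ x 8 := hp.mono (by omega)
  have allc : ∀ z : ℕ → V, IsPath D.Γ z 6 → D.B (z 0) → D.Crit z := by
    intro z hz hz0
    have a56 := hp8.1 5 (by omega)
    obtain ⟨x6', h6', n46, n66⟩ :=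
      D.exists_third (hp8.1 4 (by omega)).symm a56 (hp8.2 4 (by omega))
    have key : ∃ y : ℕ → V, D.Crit y ∧ (∀ i, i ≤ 5 → y i = x i) ∧ y 6 = x6' := by
      by_cases hM : D.Mv x 5
      · obtain ⟨g, hg, hgn⟩ := hM
        refine ⟨fun i => g • x i, ⟨D.B_smul.mpr h.1, ⟨fun i hi => D.adj_smul g (hp.1 i (by omega)),
          fun i hi e => hp.2 i (by omega) (smul_left_cancel g e)⟩, ?_⟩, hg,
          D.move_eq (hp8.1 4 (by omega)).symm a56 h6' (hp8.2 4 (by omega)) n46 n66 (hg 5 le_rfl)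
            (hg 4 (by omega)) hgn⟩
        show D.av (g • x 0) ∉ (ker D.Γ (g • x D.r) : Subgroup X)
        rw [D.av_smul g h.1, D.ker_conj]; exact h.2.2
      · have hq : IsPath D.Γ (fun i => x (5 - i)) 4 := (hp8.mono (by omega)).reverse.mono (by omega)
        obtain ⟨g, hg, hgn⟩ := D.mv_four he hr4 hq
        simp only [show 5 - 4 = 1 from rfl] at hgn
        have hgi : ∀ i, 1 ≤ i → i ≤ 5 → g • x i = x i := fun i h1 h2 => by
          have := hg (5 - i) (by omega)
          simpa only [show 5 - (5 - i) = i by omega] using this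
        have a10 : D.Γ.Adj (x 1) (x 0) := (hp.1 0 (by omega)).symm
        have a12 : D.Γ.Adj (x 1) (x 2) := hp.1 1 (by omega)
        have n02 : x 0 ≠ x 2 := hp.2 0 (by omega)
        obtain ⟨s, hs, hs2, hs0⟩ := D.exists_third a12 a10 n02.symm
        have hgs : g • s = x 0 := D.move_eq a12 hs a10 hs2 n02.symm hs0.symm
          (hgi 1 le_rfl (by omega)) (hgi 2 (by omega) (by omega)) hgn
        have hbs : D.B s := D.B_two a10.symm hs h.1
        have g6 : g ∉ (ker D.Γ (x 5) : Subgroup X) := by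
          intro hk
          apply hM
          have hk6 : g • x 6 = x 6 := hk.2 _ a56
          -- reverse and compare
          have hrev : IsPath D.Γ (fun i => x (6 - i)) 5 := (hp8.mono (by omega)).reverse.mono (by omega)
          refine D.mv_of_mv (D.tr_five he hr4) hrev (hp8.mono (by omega))
            (iff_of_true (by simpa using D.B_of_even hp8 h.1 (by omega) (show Even 6 by decide)) h.1)
            ⟨g, fun i hi => ?_, by simpa using hgn⟩
          show g • x (6 - i) = x (6 - i)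
          rcases Nat.eq_zero_or_pos i with rfl | hi'
          · simpa using hk6
          · exact hgi _ (by omega) (by omega)
        refine ⟨fun i => g • (cons s fun i => x (i + 1)) i, ⟨D.B_smul.mpr hbs, ?_, ?_⟩, ?_, ?_⟩
        · have hp' := D.set0_path (n := D.r + 1) hp hs fun _ => hs2.symm
          exact ⟨fun i hi => D.adj_smul g (hp'.1 i (by omega)),
            fun i hi e => hp'.2 i (by omega) (smul_left_cancel g e)⟩
        · have hcs := D.crit_sibling he hp h hs hs2.symm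
          show D.av (g • s) ∉ (ker D.Γ (g • (cons s fun i => x (i + 1)) D.r) : Subgroup X)
          rw [D.av_smul g hbs, D.ker_conj]
          exact hcs.2.2
        · intro i hi
          cases i with
          | zero => exact hgs
          | succ i => exact hgi (i + 1) (by omega) hi
        · exact D.move_eq (hp8.1 4 (by omega)).symm a56 h6' (hp8.2 4 (by omega)) n46 n66
            (hgi 5 (by omega) le_rfl) (hgi 4 (by omega) (by omega)) g6
    obtain ⟨g, hg⟩ := D.tr_five he hr4 z x (hz.mono (by omega)) (hp8.mono (by omega))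
      (iff_of_true hz0 h.1)
    have g6 : g • z 6 = x 6 ∨ g • z 6 = x6' := by
      have h1 : D.Γ.Adj (x 5) (g • z 6) := hg 5 le_rfl ▸ D.adj_smul g (hz.1 5 (by omega))
      rcases D.pick (hp8.1 4 (by omega)).symm a56 h6' h1 (hp8.2 4 (by omega)) n46 n66 with e' | e'
      · exact absurd (smul_left_cancel g (e'.trans (hg 4 (by omega)).symm)).symm (hz.2 4 (by omega))
      · exact e'
    refine ⟨hz0, hr6.symm ▸ hz, fun hk => ?_⟩
    rw [hr6] at hk
    have hk' := (D.ker_conj (g := g)).mpr hk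
    rw [← D.av_smul g hz0, hg 0 (by omega)] at hk'
    rcases g6 with e' | e' <;> rw [e'] at hk'
    · have := h.2.2; rw [hr6] at this; exact this hk'
    · obtain ⟨y', hy', hy'i, hy'6⟩ := key
      have := hy'.2.2
      rw [hr6, hy'6, hy'i 0 (by omega)] at this
      exact this hk'
  -- two conjugate pairs
  have he10 : IsPath D.Γ e 10 := hpe.mono (by omega)
  set p := D.av (e 0) with hpdef
  set q := D.av (e 10) with hqdef
  have hbp : D.B (e 0) := hce.1
  have hbq : D.B (e 10) := D.B_of_even he10 hbp le_rfl (by decide)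
  have pfix : ∀ i, i ≤ 6 → p • e i = e i := fun i hi => D.start_fix he10 hbp (by omega) (by omega)
  have qfix : ∀ i, 4 ≤ i → i ≤ 10 → q • e i = e i := fun i h1 h2 =>
    D.end_fix he10 hbq h2 (by omega)
  have pk : p ∉ (ker D.Γ (e 6) : Subgroup X) := by have := hce.2.2; rwa [hr6] at this
  have qk : q ∉ (ker D.Γ (e 4) : Subgroup X) := by
    have := (D.crit_symm he hpe2 hce2).2.2
    simp only [hr6, Nat.sub_zero] at this
    exact this
  -- the commutator of two centres at distance eight through a critical path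
  have sq : ∀ (z : ℕ → V), IsPath D.Γ z 8 → D.B (z 0) →
      (D.av (z 0) * D.av (z 8)) * (D.av (z 0) * D.av (z 8)) = D.av (z 4) := by
    intro z hz hz0
    have hm := D.mid he hr (x := z) (hr6.symm ▸ hz) (allc z (hz.mono (by omega)) hz0)
    simp only [hr6] at hm
    rw [D.av_smul _ hz0, D.av_inv (D.B_of_even hz hz0 le_rfl (by decide))] at hm
    rw [← hm]; group
  -- the two paths
  have pmv : p • e 7 ≠ e 7 := D.move (he10.1 5 (by omega)).symm (he10.1 6 (by omega))
    (he10.2 5 (by omega)) (pfix 6 le_rfl) (pfix 5 (by omega)) pk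
  have qmv : q • e 3 ≠ e 3 := D.move (he10.1 4 (by omega)) (he10.1 3 (by omega)).symm
    (he10.2 3 (by omega)).symm (qfix 4 le_rfl (by omega)) (qfix 5 (by omega) (by omega)) qk
  let z1 : ℕ → V := fun i => if i ≤ 4 then e (10 - i) else p • e (i + 2)
  have hz1 : IsPath D.Γ z1 8 := by
    refine ⟨fun i hi => ?_, fun i hi => ?_⟩
    · simp only [z1]
      interval_cases i <;> simp
      all_goals first
        | exact (he10.1 _ (by omega)).symm
        | exact D.adj_smul p (he10.1 _ (by omega))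
        | exact D.nbr_smul (pfix 6 le_rfl) (he10.1 6 (by omega))
    · simp only [z1]
      have hi6 : i ≤ 6 := by omega
      interval_cases i <;> simp
      all_goals first
        | exact (he10.2 _ (by omega)).symm
        | exact he10.2 _ (by omega)
        | exact pmv.symm
        | exact fun e' => he10.2 _ (by omega) (smul_left_cancel p e')
        | exact fun e' => he10.2 6 (by omega) (smul_left_cancel p ((pfix 6 le_rfl).trans e'))
  let z2 : ℕ → V := fun i => if i ≤ 4 then e i else q • e (8 - i)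
  have hz2 : IsPath D.Γ z2 8 := by
    refine ⟨fun i hi => ?_, fun i hi => ?_⟩
    · simp only [z2]
      interval_cases i <;> simp
      all_goals first
        | exact he10.1 _ (by omega)
        | exact D.adj_smul q (he10.1 _ (by omega)).symm
        | exact D.nbr_smul (qfix 4 le_rfl (by omega)) (he10.1 3 (by omega)).symm
    · simp only [z2]
      have hi6 : i ≤ 6 := by omega
      interval_cases i <;> simp
      all_goals first
        | exact he10.2 _ (by omega)
        | exact (he10.2 _ (by omega)).symm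
        | exact qmv.symm
        | exact fun e' => he10.2 _ (by omega) (smul_left_cancel q e').symm
        | exact fun e' => he10.2 2 (by omega) (smul_left_cancel q (e'.symm.trans (qfix 4 le_rfl (by omega)).symm))
  have s1 := sq z1 hz1 (by simpa [z1] using hbq)
  have s2 := sq z2 hz2 (by simpa [z2] using hbp)
  simp only [z1, z2, show (0 : ℕ) ≤ 4 from by omega, if_true, show ¬ (8 : ℕ) ≤ 4 from by omega,
    if_false, le_refl, Nat.sub_zero, show 8 + 2 = 10 from rfl, Nat.sub_self,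
    show 10 - 4 = 6 from rfl] at s1 s2
  rw [D.av_smul p hbq, ← hqdef, hpdef, D.av_inv hbp, ← hpdef] at s1
  rw [D.av_smul q hbp, ← hpdef, hqdef, D.av_inv hbq, ← hqdef] at s2
  refine D.ne2 (D.not_B_of_odd he10 hbp (show 5 ≤ 10 by omega) (by decide))
    (he10.1 4 (by omega)).symm (he10.1 5 (by omega)) (he10.2 4 (by omega)) ?_
  rw [← D.av_inv (D.B_of_even he10 hbp (show 4 ≤ 10 by omega) (by decide)), ← s2, ← s1]
  simp only [mul_inv_rev, show p⁻¹ = p from D.av_inv hbp, show q⁻¹ = q from D.av_inv hbq, mul_assoc]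

end Data

end Cfsg.Agent.GoldRadius82
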