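import Cfsg.Agent.Lib.GoldRadius82Bit

/-!
Radius two and three: an edge stabiliser has order at most `2 ^ 7`.
-/

set_option autoImplicit false
set_option linter.all false

namespace Cfsg.Agent.GoldRadius82

open Subgroup
open GoldschmidtS3 (G ker zedge)

variable {X V : Type*} [Group X] [MulAction X V]

theorem xor_swap {a b c d : Bool} : xor (xor a b) (xor c d) = xor (xor a c) (xor b d) := by
  cases a <;> cases b <;> cases c <;> cases d <;> rfl

namespace Frame

variable {D : Data X V} (F : Frame D)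
include F

/-- The bits at distance two for radius two. -/
theorem bits_two (h2 : IsPGroup 2 (G X D.a ⊓ G X D.b : Subgroup X)) (hr : D.r = 2)
    (hT : D.Tr D.r) : Nonempty (Bits D F) := by
  refine ⟨⟨fun g i => xor (D.bit g (F.p i)) (D.bit g (F.q i)), fun g i => D.bit g (F.p i),
    fun g hg k hk i => ?_, fun g hg k hk i => ?_, fun g hg he hs => ?_, fun i => ?_,
    fun g hg h i j h0 h1 => ?_⟩⟩
  · rw [hr] at hg hk
    rw [F.bit_mul_p hg hk i, F.bit_mul_q hg hk i]
    exact xor_swap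
  · rw [hr] at hg hk
    exact F.bit_mul_p hg hk i
  · rw [hr] at hg
    refine D.K_bot h2 F.hm (hr.symm ▸ D.K_three hg (F.all_child hs fun i => ?_))
    have := he i
    rwa [hs i, Bool.false_xor] at this
  · refine D.bit_true.mpr ?_
    have := D.av_bit h2 hT (x := cons F.m (cons (F.α i) fun _ => F.p i))
      (hr.symm ▸ path2 (F.hα i) (F.hp i) (F.hpm i).symm) F.hm
    rw [hr] at this
    exact this
  · have hp : D.Γ.Adj (F.α j) (h • F.p i) := h1 ▸ D.adj_smul h (F.hp i)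
    have hq : D.Γ.Adj (F.α j) (h • F.q i) := h1 ▸ D.adj_smul h (F.hq i)
    have hpm : h • F.p i ≠ F.m := fun e => F.hpm i (smul_left_cancel h (e.trans h0.symm))
    have hqm : h • F.q i ≠ F.m := fun e => F.hqm i (smul_left_cancel h (e.trans h0.symm))
    simp only [← D.bit_conj (h := h) (g := g) (v := F.p i), ← D.bit_conj (h := h) (g := g) (v := F.q i)]
    rcases F.pair_child j hp hpm hq hqm (fun e => F.hpq i (smul_left_cancel h e)) with
      ⟨e1, e2⟩ | ⟨e1, e2⟩ <;> rw [e1, e2]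
    · exact ⟨rfl, fun _ => rfl⟩
    · refine ⟨Bool.xor_comm _ _, fun e => ?_⟩
      revert e
      cases D.bit (h * g * h⁻¹) (F.p j) <;> cases D.bit (h * g * h⁻¹) (F.q j) <;> simp

theorem card_K_two (h2 : IsPGroup 2 (G X D.a ⊓ G X D.b : Subgroup X)) (hr : D.r = 2) :
    Nat.card (K X D.Γ 2 F.m) ≤ 8 := by
  have hT : D.Tr D.r := hr.symm ▸ D.tr_two
  obtain ⟨Bt⟩ := F.bits_two h2 hr hT
  have := Bt.card_le_eight h2 hT
  rwa [hr] at this

/-- The two outer neighbours of one child in each branch. -/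
def Outer (x y : Fin 3 → V) : Prop :=
  ∀ j, D.Γ.Adj (F.p j) (x j) ∧ D.Γ.Adj (F.p j) (y j) ∧ x j ≠ F.α j ∧ y j ≠ F.α j ∧ x j ≠ y j ∧
    ∀ ν, D.Γ.Adj (F.p j) ν → ν = F.α j ∨ ν = x j ∨ ν = y j

theorem exists_outer : ∃ x y, F.Outer x y := by
  have h : ∀ j, ∃ a b, D.Γ.Adj (F.p j) a ∧ D.Γ.Adj (F.p j) b ∧ a ≠ F.α j ∧ b ≠ F.α j ∧ a ≠ b ∧
      ∀ ν, D.Γ.Adj (F.p j) ν → ν = F.α j ∨ ν = a ∨ ν = b := fun j => by
    obtain ⟨a, b, h1, h2, n1, n2, n3, hall⟩ := D.three (F.p j) (F.α j) (F.hp j).symm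
    exact ⟨a, b, h1, h2, n1.symm, n2.symm, n3, hall⟩
  choose x y h using h
  exact ⟨x, y, h⟩

variable (h2 : IsPGroup 2 (G X D.a ⊓ G X D.b : Subgroup X)) (hr : D.r = 3)
include h2 hr

theorem crit3 {a b c d : V} (h1 : D.Γ.Adj a b) (h2' : D.Γ.Adj b c) (h3 : D.Γ.Adj c d) (n1 : a ≠ c)
    (n2 : b ≠ d) (ha : D.B a) : D.bit (D.av a) d = true := by
  refine D.bit_true.mpr ?_
  have := D.av_bit h2 (hr.symm ▸ D.tr_three') (x := cons a (cons b (cons c fun _ => d)))
    (hr.symm ▸ path3 h1 h2' h3 n1 n2) ha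
  rw [hr] at this
  exact this

/-- The involution of a child in another branch exchanges the children. -/
theorem swap_pq {i j : Fin 3} (hij : i ≠ j) : D.av (F.p i) • F.p j = F.q j ∧
    D.av (F.p i) • F.q j = F.p j ∧ D.av (F.p i) • F.α j = F.α j := by
  have hb := F.Bp i
  have hk : D.av (F.p i) ∈ K X D.Γ 3 (F.p i) := hr ▸ D.av_ball hb
  have hm : D.av (F.p i) • F.m = F.m := D.near2 hb (F.hp i).symm (F.hα i).symm
  have ha : D.av (F.p i) • F.α j = F.α j :=
    K_fix (K_step (n := 0) (K_step (K_step hk (F.hp i).symm) (F.hα i).symm) (F.hα j))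
  have hne : D.av (F.p i) ∉ (ker D.Γ (F.α j) : Subgroup X) := D.bit_true.mp
    (F.crit3 h2 hr (F.hp i).symm (F.hα i).symm (F.hα j) (F.hpm i) (fun e => hij (F.inj e)) hb)
  have e1 := D.move_eq (F.hα j).symm (F.hp j) (F.hq j) (F.hpm j).symm (F.hqm j).symm (F.hpq j)
    ha hm hne
  refine ⟨e1, ?_, ha⟩
  rw [← e1, D.av_av_smul hb]

theorem bit_q {g : X} (hg : g ∈ K X D.Γ 2 F.m) (j : Fin 3) :
    D.bit g (F.q j) = D.bit g (F.p j) := by
  obtain ⟨i, -, hij, -, -, -⟩ := F.others j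
  rw [← (F.swap_pq h2 hr hij.symm).1]
  exact D.bit_comm (D.comm_of_fix (F.Bp i) (D.K2_fix hg (F.hα i) (F.hp i)).2).symm

/-- At both children of a branch the outer bits are the same pair. -/
theorem outer_pair {x y : Fin 3 → V} (hO : F.Outer x y) (j : Fin 3) {P u v : V}
    (hP : D.Γ.Adj (F.α j) P) (hPm : P ≠ F.m) (hu : D.Γ.Adj P u) (hv : D.Γ.Adj P v)
    (huα : u ≠ F.α j) (hvα : v ≠ F.α j) (huv : u ≠ v) {g : X} (hg : g ∈ K X D.Γ 3 F.m) :
    (D.bit g u = D.bit g (x j) ∧ D.bit g v = D.bit g (y j)) ∨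
      (D.bit g u = D.bit g (y j) ∧ D.bit g v = D.bit g (x j)) := by
  obtain ⟨hx, hy, -, -, -, hall⟩ := hO j
  have base : ∀ {u v : V}, D.Γ.Adj (F.p j) u → D.Γ.Adj (F.p j) v → u ≠ F.α j → v ≠ F.α j → u ≠ v →
      (D.bit g u = D.bit g (x j) ∧ D.bit g v = D.bit g (y j)) ∨
        (D.bit g u = D.bit g (y j) ∧ D.bit g v = D.bit g (x j)) := by
    intro u v hu hv huα hvα huv
    rcases (hall u hu).resolve_left huα with e | e <;>
      rcases (hall v hv).resolve_left hvα with e' | e' <;> subst e <;> subst e'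
    · exact absurd rfl huv
    · exact Or.inl ⟨rfl, rfl⟩
    · exact Or.inr ⟨rfl, rfl⟩
    · exact absurd rfl huv
  rcases F.q_child j hP hPm with rfl | rfl
  · exact base hu hv huα hvα huv
  obtain ⟨i, -, hij, -, -, -⟩ := F.others j
  obtain ⟨-, e2, e3⟩ := F.swap_pq h2 hr hij.symm
  set a := D.av (F.p i) with ha
  have hc : a * g = g * a :=
    (D.comm_of_fix (F.Bp i) (D.K2_fix (K_succ_le hg) (F.hα i) (F.hp i)).2).symm
  rw [← D.bit_comm (v := u) hc, ← D.bit_comm (v := v) hc]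
  exact base (e2 ▸ D.adj_smul a hu) (e2 ▸ D.adj_smul a hv)
    (fun e => huα (smul_left_cancel a (e.trans e3.symm)))
    (fun e => hvα (smul_left_cancel a (e.trans e3.symm))) (fun e => huv (smul_left_cancel a e))

theorem bits_three {x y : Fin 3 → V} (hO : F.Outer x y) :
    ∃ Bt : Bits D F, Bt.e = (fun g i => xor (D.bit g (x i)) (D.bit g (y i))) ∧
      Bt.s = fun g i => D.bit g (x i) := by
  have fix : ∀ {g : X}, g ∈ K X D.Γ 3 F.m → ∀ i v, D.Γ.Adj (F.p i) v → g • F.p i = F.p i ∧ g • v = v :=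
    fun hg i v hv => D.K2_fix (K_step hg (F.hα i)) (F.hp i) hv
  refine ⟨⟨fun g i => xor (D.bit g (x i)) (D.bit g (y i)), fun g i => D.bit g (x i),
    fun g hg k hk i => ?_, fun g hg k hk i => ?_, fun g hg he hs => ?_, fun i => ?_,
    fun g hg h i j h0 h1 => ?_⟩, rfl, rfl⟩
  · rw [hr] at hg hk
    rw [D.bit_mul (hO i).1.symm (fix hg i _ (hO i).1).2 (fix hg i _ (hO i).1).1 (fix hk i _ (hO i).1).2
      (fix hk i _ (hO i).1).1, D.bit_mul (hO i).2.1.symm (fix hg i _ (hO i).2.1).2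
      (fix hg i _ (hO i).2.1).1 (fix hk i _ (hO i).2.1).2 (fix hk i _ (hO i).2.1).1]
    exact xor_swap
  · rw [hr] at hg hk
    exact D.bit_mul (hO i).1.symm (fix hg i _ (hO i).1).2 (fix hg i _ (hO i).1).1
      (fix hk i _ (hO i).1).2 (fix hk i _ (hO i).1).1
  · rw [hr] at hg
    refine D.K_bot h2 F.hm (hr.symm ▸ D.K_eq_of_bits hg fun z z0 hz => D.bit_false.mp ?_)
    obtain ⟨j, hj⟩ := F.all (z 1) (z0 ▸ hz.1 0 (by omega))
    have hyj : D.bit g (y j) = false := by
      have := he j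
      rwa [hs j, Bool.false_xor] at this
    obtain ⟨v, hv, h1, h3⟩ := D.exists_third (hz.1 1 (by omega)).symm (hz.1 2 (by omega))
      (hz.2 1 (by omega))
    rcases F.outer_pair h2 hr hO j (P := z 2) (u := z 3) (v := v) (hj ▸ hz.1 1 (by omega))
      (z0 ▸ (hz.2 0 (by omega)).symm) (hz.1 2 (by omega)) hv (hj ▸ (hz.2 1 (by omega)).symm)
      (hj ▸ h1.symm) h3 hg with ⟨e, -⟩ | ⟨e, -⟩
    · rw [e, hs j]
    · rw [e, hyj]
  · exact F.crit3 h2 hr (F.hα i) (F.hp i) (hO i).1 (F.hpm i).symm (hO i).2.2.1.symm F.hm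
  · rw [hr] at hg
    have hg' : h * g * h⁻¹ ∈ K X D.Γ 3 F.m := D.K_normal h0 hg
    simp only [← D.bit_conj (h := h) (g := g) (v := x i), ← D.bit_conj (h := h) (g := g) (v := y i)]
    obtain ⟨hx, hy, hxα, hyα, hxy, -⟩ := hO i
    rcases F.outer_pair h2 hr hO j (P := h • F.p i) (u := h • x i) (v := h • y i)
      (h1 ▸ D.adj_smul h (F.hp i)) (fun e => F.hpm i (smul_left_cancel h (e.trans h0.symm)))
      (D.adj_smul h hx) (D.adj_smul h hy) (fun e => hxα (smul_left_cancel h (e.trans h1.symm)))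
      (fun e => hyα (smul_left_cancel h (e.trans h1.symm))) (fun e => hxy (smul_left_cancel h e))
      hg' with ⟨e1, e2⟩ | ⟨e1, e2⟩ <;> rw [e1, e2]
    · exact ⟨rfl, fun _ => rfl⟩
    · refine ⟨Bool.xor_comm _ _, fun e => ?_⟩
      revert e
      cases D.bit (h * g * h⁻¹) (x j) <;> cases D.bit (h * g * h⁻¹) (y j) <;> simp

variable {Bt : Bits D F} {x y : Fin 3 → V} (hO : F.Outer x y)
  (hse : Bt.e = fun g i => xor (D.bit g (x i)) (D.bit g (y i)))
  (hss : Bt.s = fun g i => D.bit g (x i))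
include hO hse hss

/-- Conjugating by an element with a bit changes the representative by the difference. -/
theorem comm_pattern {g w : X} (hg : g ∈ K X D.Γ 2 F.m) (hw : w ∈ K X D.Γ 3 F.m) :
    (∀ i, (D.bit g (F.p i) && Bt.e w i) = false) ∨ ∀ i, (D.bit g (F.p i) && Bt.e w i) = true := by
  have hT : D.Tr D.r := hr.symm ▸ D.tr_three'
  have gm : g • F.m = F.m := K_fix hg
  have hw' : w ∈ K X D.Γ D.r F.m := hr.symm ▸ hw
  have hc : g * w * g⁻¹ ∈ K X D.Γ D.r F.m := D.K_normal gm hw'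
  have hga : ∀ i, g • F.α i = F.α i := fun i => (D.K2_fix hg (F.hα i) (F.hp i)).1
  have he : ∀ i, Bt.e (w * (g * w * g⁻¹)) i = false := fun i => by
    rw [Bt.add_e _ hw' _ hc, ← (Bt.pat w hw' g i i gm (hga i)).1, Bool.xor_self]
  have hs : ∀ i, Bt.s (w * (g * w * g⁻¹)) i = (D.bit g (F.p i) && Bt.e w i) := fun i => by
    rw [Bt.add_s _ hw' _ hc]
    simp only [hse, hss]
    obtain ⟨hx, hy, hxα, hyα, hxy, -⟩ := hO i
    have gp : g • F.p i = F.p i := (D.K2_fix hg (F.hα i) (F.hp i)).2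
    have e1 : D.bit (g * w * g⁻¹) (x i) = D.bit w (g⁻¹ • x i) := by
      have := D.bit_conj (h := g) (g := w) (v := g⁻¹ • x i)
      rwa [smul_inv_smul] at this
    rw [e1]
    by_cases hb : g ∈ (ker D.Γ (F.p i) : Subgroup X)
    · rw [(inv_mem hb).2 _ hx, D.bit_false.mpr hb, Bool.xor_self, Bool.false_and]
    · rw [D.move_eq (F.hp i).symm hx hy hxα.symm hyα.symm hxy (inv_smul_eq_iff.mpr gp.symm)
        (inv_smul_eq_iff.mpr (hga i).symm) (fun c => hb (inv_mem_iff.mp c)), D.bit_true.mpr hb,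
        Bool.true_and]
  rcases Bt.pattern h2 hT (mul_mem hw' hc) he with e | e
  · exact Or.inl fun i => by rw [← hs i, e, Bt.s_one h2 hT]
  · exact Or.inr fun i => by rw [← hs i, e, Bt.av_s]

/-- An element with all bits one makes the differences constant. -/
theorem e_const {k w : X} (hk : D.AllOne F.m k) (hw : w ∈ K X D.Γ 3 F.m) (i j : Fin 3) :
    Bt.e w i = Bt.e w j := by
  have hb : ∀ i, D.bit k (F.p i) = true := fun i => hk.2 _ _ (F.hα i) (F.hp i) (F.hpm i)
  rcases F.comm_pattern h2 hr hO hse hss hk.1 hw with h | h <;>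
  · have hi := h i; have hj := h j
    rw [hb, Bool.true_and] at hi hj
    rw [hi, hj]

end Frame

namespace Data

variable (D : Data X V) (h2 : IsPGroup 2 (G X D.a ⊓ G X D.b : Subgroup X)) (hr : D.r = 3)
include D h2 hr

/-- The commutator with a neighbouring element with all bits one is trivial. -/
theorem allOne_comm {m α u : V} (hm : D.B m) (h : D.Γ.Adj m α) (hu : D.Γ.Adj α u) (hum : u ≠ m)
    {g k ku : X} (hk : D.AllOne m k) (hku : D.AllOne u ku) (hg : g ∈ K X D.Γ 2 m) :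
    g * ku = ku * g := by
  have bu : D.B u := D.B_two h hu hm
  have gu : g • u = u := (D.K2_fix hg h hu).2
  have kum : ku • m = m := (D.K2_fix hku.1 hu.symm h.symm).2
  set c := g * ku * g⁻¹ * ku⁻¹ with hc
  have h3 : c ∈ K X D.Γ 3 u := D.allOne_div (gu ▸ D.allOne_conj hku g) hku
  have h2m : c ∈ K X D.Γ 2 m := by
    rw [hc, mul_assoc, mul_assoc, ← mul_assoc ku]
    exact mul_mem hg (D.K_normal kum (inv_mem hg))
  obtain ⟨F, hFm, hFα⟩ := D.exists_frame bu hu.symm
  subst hFm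
  obtain ⟨x, y, hO⟩ := F.exists_outer
  obtain ⟨Bt, hse, hss⟩ := F.bits_three h2 hr hO
  -- the branch through `m` sees nothing
  have hmF : D.Γ.Adj (F.α 0) m := hFα ▸ h.symm
  obtain ⟨β, hβ, hβα⟩ := D.exists_other h
  obtain ⟨γ, hγ, hαγ, hβγ⟩ := D.exists_third h hβ hβα.symm
  have z1 : D.bit c β = false := D.bit_false.mpr (K_one.mp (K_step h2m hβ))
  have z2 : D.bit c γ = false := D.bit_false.mpr (K_one.mp (K_step h2m hγ))
  have hz : D.bit c (x 0) = false ∧ D.bit c (y 0) = false := by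
    rcases F.outer_pair h2 hr hO 0 hmF hum.symm hβ hγ (hFα.symm ▸ hβα) (hFα.symm ▸ hαγ.symm) hβγ h3
      with ⟨e1, e2⟩ | ⟨e1, e2⟩
    · exact ⟨e1 ▸ z1, e2 ▸ z2⟩
    · exact ⟨e2 ▸ z2, e1 ▸ z1⟩
  have he : ∀ i, Bt.e c i = false := fun i => by
    rw [F.e_const h2 hr hO hse hss hku h3 i 0, hse]
    simp [hz.1, hz.2]
  have hT : D.Tr D.r := hr.symm ▸ D.tr_three'
  have c1 : c = 1 := by
    rcases Bt.pattern h2 hT (hr.symm ▸ h3) he with e | e
    · exact e
    · have := Bt.av_s 0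
      rw [← e, hss] at this
      simp [hz.1] at this
  rw [hc, mul_inv_eq_one, mul_inv_eq_iff_eq_mul] at c1
  exact c1

end Data

namespace Frame

variable {D : Data X V} (F : Frame D)
  (h2 : IsPGroup 2 (G X D.a ⊓ G X D.b : Subgroup X)) (hr : D.r = 3)
include F h2 hr

theorem diag {g k : X} (hk : D.AllOne F.m k) (hg : g ∈ K X D.Γ 2 F.m) {i j l : Fin 3} (hij : i ≠ j)
    (hil : i ≠ l) (hjl : j ≠ l) : D.bit g (F.p j) = D.bit g (F.p l) := by
  obtain ⟨t, ht⟩ : ∃ t : X, t • F.m = F.p i := by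
    obtain ⟨a, ha⟩ := F.hm
    obtain ⟨b, hb⟩ := F.Bp i
    exact ⟨b * a⁻¹, by rw [← ha, mul_smul, inv_smul_smul, hb]⟩
  have hku : D.AllOne (F.p i) (t * k * t⁻¹) := ht ▸ D.allOne_conj hk t
  set ku := t * k * t⁻¹
  have hc := D.allOne_comm h2 hr F.hm (F.hα i) (F.hp i) (F.hpm i) hk hku hg
  obtain ⟨e0, e1⟩ := D.K2_fix hku.1 (F.hp i).symm (F.hα i).symm
  have e2 : ku ∉ (ker D.Γ F.m : Subgroup X) :=
    D.bit_true.mp (hku.2 _ _ (F.hp i).symm (F.hα i).symm (F.hpm i).symm)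
  have ej : ku • F.α j = F.α l := D.move_eq (F.hα i) (F.hα j) (F.hα l) (fun e => hij (F.inj e))
    (fun e => hil (F.inj e)) (fun e => hjl (F.inj e)) e1 e0 e2
  rw [← D.bit_comm (v := F.p j) hc.symm]
  have hc' : D.Γ.Adj (F.α l) (ku • F.p j) := ej ▸ D.adj_smul ku (F.hp j)
  rcases F.q_child l hc' (fun e => F.hpm j (smul_left_cancel ku (e.trans e1.symm))) with e | e <;>
    rw [e]
  exact F.bit_q h2 hr hg l

theorem card_K_three : Nat.card (K X D.Γ 2 F.m) ≤ 8 := by
  haveI := D.fin F.m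
  haveI := D.K_finite (n := 3) F.m
  have hT : D.Tr D.r := hr.symm ▸ D.tr_three'
  obtain ⟨x, y, hO⟩ := F.exists_outer
  obtain ⟨Bt, hse, hss⟩ := F.bits_three h2 hr hO
  let f : X → Fin 3 → Bool := fun g i => D.bit g (F.p i)
  have hf : ∀ g ∈ K X D.Γ 2 F.m, ∀ k ∈ K X D.Γ 2 F.m, f g = f k → g⁻¹ * k ∈ K X D.Γ 3 F.m := by
    intro g hg k hk e
    have hm := mul_mem (inv_mem hg) hk
    have hp : ∀ i, D.bit (g⁻¹ * k) (F.p i) = false := fun i => by
      rw [F.bit_mul_p (inv_mem hg) hk, D.bit_inv, show D.bit g (F.p i) = D.bit k (F.p i) from congrFun e i,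
        Bool.xor_self]
    exact D.K_three hm (F.all_child hp fun i => by rw [F.bit_q h2 hr hm, hp i])
  have bound : ∀ {N M : ℕ}, Nat.card (f '' (K X D.Γ 2 F.m : Set X)) ≤ N →
      Nat.card (K X D.Γ 3 F.m) ≤ M → N * M ≤ 8 → Nat.card (K X D.Γ 2 F.m) ≤ 8 := by
    intro N M hN hM h8
    exact le_trans (card_le_mul f hf hN) (le_trans (Nat.mul_le_mul_left _ hM) h8)
  by_cases hex : ∃ k, D.AllOne F.m k
  · obtain ⟨k, hk⟩ := hex
    have two : ∀ S : Set (Fin 3 → Bool), (∀ v ∈ S, ∀ i, v i = v 0) → Nat.card S ≤ 2 := by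
      intro S hS
      refine le_trans (Nat.card_le_card_of_injective (fun v : S => v.1 0) fun v w e => ?_) (by simp)
      exact Subtype.ext (funext fun i => by rw [hS _ v.2 i, hS _ w.2 i]; exact e)
    refine bound (N := 2) (M := 4) (two _ ?_) ?_ le_rfl
    · rintro _ ⟨g, hg, rfl⟩ i
      fin_cases i
      · rfl
      · exact F.diag h2 hr hk hg (i := 2) (by decide) (by decide) (by decide)
      · exact F.diag h2 hr hk hg (i := 1) (by decide) (by decide) (by decide)
    · have := Bt.card_le h2 hT (N := 2) (two _ (by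
        rintro _ ⟨w, hw, rfl⟩ i
        exact F.e_const h2 hr hO hse hss hk (hr ▸ hw) i 0))
      rw [hr] at this
      exact this
  · by_cases hmix : ∃ g ∈ K X D.Γ 2 F.m, ∃ i, D.bit g (F.p i) = true
    · have zero : ∀ g ∈ K X D.Γ 2 F.m, ∀ i, D.bit g (F.p i) = true → ∀ w ∈ K X D.Γ 3 F.m,
          Bt.e w i = false := by
        intro g hg i hi w hw
        rcases F.comm_pattern h2 hr hO hse hss hg hw with h | h
        · have := h i
          rwa [hi, Bool.true_and] at this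
        · refine absurd ⟨g, hg, ?_⟩ hex
          have hall : ∀ j, D.bit g (F.p j) = true := fun j => (Bool.and_eq_true _ _ ▸ h j).1
          exact F.all_child hall fun j => by rw [F.bit_q h2 hr hg, hall j]
      obtain ⟨g, hg, i, hi⟩ := hmix
      have hW : Nat.card (K X D.Γ 3 F.m) ≤ 2 := by
        have h1 : Nat.card (Bt.e '' (K X D.Γ D.r F.m : Set X)) ≤ 1 := by
          refine le_trans (Nat.card_le_card_of_injective (β := Unit) (fun _ => ()) ?_) (by simp)
          rintro ⟨_, w, hw, rfl⟩ ⟨_, w', hw', rfl⟩ -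
          refine Subtype.ext (funext fun j => ?_)
          obtain ⟨h, h0, h1'⟩ := F.rotate i j
          have hp' : D.bit (h * g * h⁻¹) (F.p j) = true := by
            have hgh : h * g * h⁻¹ ∈ K X D.Γ 2 F.m := D.K_normal h0 hg
            rw [← D.bit_conj (h := h)] at hi
            rcases F.q_child j (h1' ▸ D.adj_smul h (F.hp i))
              (fun e => F.hpm i (smul_left_cancel h (e.trans h0.symm))) with e | e <;> rw [e] at hi
            · exact hi
            · rwa [F.bit_q h2 hr hgh] at hi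
          show Bt.e w j = Bt.e w' j
          rw [zero _ (D.K_normal h0 hg) j hp' w (hr ▸ hw), zero _ (D.K_normal h0 hg) j hp' w' (hr ▸ hw')]
        have := Bt.card_le h2 hT h1
        rw [hr] at this
        exact this
      refine bound (N := 4) (M := 2) ?_ hW le_rfl
      have := half_le (f '' (K X D.Γ 2 F.m : Set X)) ?_ (fun _ => true) ?_
      · rw [card_bool_fun] at this; omega
      · rintro _ ⟨g, hg, rfl⟩ _ ⟨k, hk, rfl⟩
        exact ⟨g * k, mul_mem hg hk, funext fun i => F.bit_mul_p hg hk i⟩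
      · rintro ⟨g, hg, e⟩
        exact hex ⟨g, hg, F.all_child (fun j => congrFun e j)
          fun j => by rw [F.bit_q h2 hr hg]; exact congrFun e j⟩
    · push Not at hmix
      refine bound (N := 1) (M := 8) ?_ ?_ le_rfl
      · refine le_trans (Nat.card_le_card_of_injective (β := Unit) (fun _ => ()) ?_) (by simp)
        rintro ⟨_, w, hw, rfl⟩ ⟨_, w', hw', rfl⟩ -
        exact Subtype.ext (funext fun j => by
          show D.bit w (F.p j) = D.bit w' (F.p j)
          rw [Bool.eq_false_iff.mpr (hmix w hw j), Bool.eq_false_iff.mpr (hmix w' hw' j)])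
      · have := Bt.card_le_eight h2 hT
        rwa [hr] at this

end Frame

end Cfsg.Agent.GoldRadius82
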