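import Cfsg.Agent.Lib.GoldRadius82Even
import Cfsg.Agent.Lib.GoldRadius82Small

/-!
Radius four, and the bound `2 ^ 7` on an edge stabiliser.
-/

set_option autoImplicit false
set_option linter.all false

namespace Cfsg.Agent.GoldRadius82

open Subgroup
open GoldschmidtS3 (G ker zedge)

variable {X V : Type*} [Group X] [MulAction X V]

theorem path6 {Γ : SimpleGraph V} {a b c d e f g : V} (h1 : Γ.Adj a b) (h2 : Γ.Adj b c)
    (h3 : Γ.Adj c d) (h4 : Γ.Adj d e) (h5 : Γ.Adj e f) (h6 : Γ.Adj f g) (n1 : a ≠ c) (n2 : b ≠ d)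
    (n3 : c ≠ e) (n4 : d ≠ f) (n5 : e ≠ g) :
    IsPath Γ (cons a (cons b (cons c (cons d (cons e (cons f fun _ => g)))))) 6 :=
  ((path4 h3 h4 h5 h6 n3 n4 n5).cons h2 fun _ => n2).cons h1 fun _ => n1

namespace Data

variable (D : Data X V)
include D

theorem exists_long (v : V) : ∀ n, ∃ x : ℕ → V, x 0 = v ∧ IsPath D.Γ x n
  | 0 => ⟨fun _ => v, rfl, isPath_zero _⟩
  | n + 1 => by
    obtain ⟨μ, hμ⟩ := D.nbr v
    obtain ⟨x, h0, hp⟩ := exists_long μ n
    rcases Nat.eq_zero_or_pos n with rfl | hn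
    · exact ⟨cons v x, rfl, hp.cons (h0 ▸ hμ) (by omega)⟩
    · obtain ⟨y, hy, hyn⟩ := D.exists_other (h0 ▸ hp.1 0 hn : D.Γ.Adj μ (x 1))
      by_cases e : v = x 1
      · -- extend at the far end instead
        obtain ⟨x', h0', hp'⟩ := exists_long v n
        obtain ⟨k, rfl⟩ : ∃ k, n = k + 1 := ⟨n - 1, by omega⟩
        obtain ⟨z, hz, hzn⟩ := D.exists_other (hp'.1 k (by omega)).symm
        refine ⟨snoc x' (k + 1 + 1) z, by rw [snoc_lt (by omega), h0'], hp'.snoc hz fun i hi => ?_⟩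
        rw [show i = k by omega]
        exact hzn
      · exact ⟨cons v x, rfl, hp.cons (h0 ▸ hμ) fun _ => e⟩

variable (h2 : IsPGroup 2 (G X D.a ⊓ G X D.b : Subgroup X)) (hr : D.r = 4)
include h2 hr

theorem even_r : Even D.r := by rw [hr]; decide

theorem tr_r : D.Tr D.r := by
  have := D.tr_four (D.even_r h2 hr) (by omega)
  rwa [← hr] at this

theorem crit4 {a b c d e : V} (h1 : D.Γ.Adj a b) (h2' : D.Γ.Adj b c) (h3 : D.Γ.Adj c d)
    (h4 : D.Γ.Adj d e) (n1 : a ≠ c) (n2 : b ≠ d) (n3 : c ≠ e) (ha : D.B a) :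
    D.bit (D.av a) e = true := by
  refine D.bit_true.mpr ?_
  have := D.av_bit h2 (D.tr_r h2 hr) (x := cons a (cons b (cons c (cons d fun _ => e))))
    (hr.symm ▸ path4 h1 h2' h3 h4 n1 n2 n3) ha
  rw [hr] at this
  exact this

theorem ball4 {p : V} (hp : D.B p) : D.av p ∈ K X D.Γ 4 p := hr ▸ D.av_ball hp

/-- Involutions of children in two branches do not multiply into the centre. -/
theorem not_sib {m β γ p q : V} (hm : D.B m) (h : D.Γ.Adj m β) (h' : D.Γ.Adj m γ) (hne : β ≠ γ)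
    (hp : D.Γ.Adj β p) (hq : D.Γ.Adj γ q) (hpm : p ≠ m) (hqm : q ≠ m) :
    D.av p * D.av q ≠ 1 ∧ D.av p * D.av q ≠ D.av m := by
  have bp := D.B_two h hp hm
  refine ⟨fun e => D.ne4 hm h h' hne hp hq hpm hqm ?_, fun e => ?_⟩
  · rw [← eq_inv_of_mul_eq_one_right e |>.trans (D.av_inv bp)]
  · obtain ⟨s, hs, hsm, hsp⟩ := D.exists_third h.symm hp hpm.symm
    refine D.ne4 hm h h' hne hs hq hsm.symm hqm ?_
    rw [← D.third (D.B_of_adj h.symm hm) hp h.symm hs hpm hsp hsm, ← e, ← mul_assoc, D.av_sq bp,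
      one_mul]

theorem mid_pair {x : ℕ → V} (hx : IsPath D.Γ x 6) (hb : D.B (x 0)) :
    D.Pair (x 2) (x 3) (D.av (x 0) * D.av (D.av (x 6) • x 0)) ∧
      D.av (x 0) * D.av (D.av (x 6) • x 0) ∈ D.Zv (x 3) := by
  set t := D.av (x 6) with ht
  have b2 : D.B (x 2) := D.B_of_even hx hb (by omega) even_two
  have b4 : D.B (x 4) := D.B_of_even hx hb (by omega) (by decide)
  have b6 : D.B (x 6) := D.B_of_even hx hb le_rfl (by decide)
  have t2 : t • x 2 = x 2 := D.end_fix hx b6 (by omega) (by omega)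
  have t3 : t • x 3 = x 3 := D.end_fix hx b6 (by omega) (by omega)
  have tk : t ∉ (ker D.Γ (x 2) : Subgroup X) := D.bit_true.mp (D.crit4 h2 hr (hx.1 5 (by omega)).symm
    (hx.1 4 (by omega)).symm (hx.1 3 (by omega)).symm (hx.1 2 (by omega)).symm
    (hx.2 4 (by omega)).symm (hx.2 3 (by omega)).symm (hx.2 2 (by omega)).symm b6)
  have t1 : t • x 1 ≠ x 1 := D.move (hx.1 2 (by omega)) (hx.1 1 (by omega)).symm
    (hx.2 1 (by omega)).symm t2 t3 tk
  have hP : D.Pair (x 2) (x 3) (D.av (x 0) * D.av (t • x 0)) :=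
    ⟨x 1, t • x 1, x 0, t • x 0, (hx.1 1 (by omega)).symm, D.nbr_smul t2 (hx.1 1 (by omega)).symm,
      hx.2 1 (by omega), fun e => hx.2 1 (by omega) (smul_left_cancel t (e.trans t3.symm)), t1.symm,
      (hx.1 0 (by omega)).symm, D.adj_smul t (hx.1 0 (by omega)).symm, hx.2 0 (by omega),
      fun e => hx.2 0 (by omega) (smul_left_cancel t (e.trans t2.symm)), rfl⟩
  refine ⟨hP, D.inter2 (D.even_r h2 hr) (by omega) b2 (hx.1 3 (by omega)) (hx.1 2 (by omega)).symm
    (hx.2 2 (by omega)).symm (D.Pair_mem hP) ?_⟩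
  have e : D.av (x 0) * D.av (t • x 0) = D.av (D.av (x 0) • x 6) * t := by
    rw [D.av_smul t hb, D.av_smul (D.av (x 0)) b6, D.av_inv hb, ht, D.av_inv b6]; group
  rw [e]
  have a4 : D.av (x 0) • x 4 = x 4 := D.start_fix hx hb (by omega) (by omega)
  exact mul_mem (D.mem_Vv (D.nbr_smul a4 (hx.1 4 (by omega))) (D.adj_smul _ (hx.1 5 (by omega))))
    (D.mem_Vv (hx.1 4 (by omega)) (hx.1 5 (by omega)))

/-- A pair lies in the group of its middle vertex. -/
theorem natural {m α : V} (hm : D.B m) (h : D.Γ.Adj m α) {f : X} (hf : D.Pair m α f) :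
    f ∈ D.Zv α := by
  obtain ⟨x, h0, hx⟩ := D.exists_long D.b 6
  have hb : D.B (x 0) := h0 ▸ D.B_b
  obtain ⟨hP, hZ⟩ := D.mid_pair h2 hr hx hb
  have b2 : D.B (x 2) := D.B_of_even hx hb (by omega) even_two
  obtain ⟨g, hg⟩ := D.tr_one (cons (x 2) fun _ => x 3) (cons m fun _ => α)
    ((isPath_zero _).cons (hx.1 2 (by omega)) (by omega)) ((isPath_zero _).cons h (by omega))
    (iff_of_true b2 hm)
  have g0 : g • x 2 = m := hg 0 (by omega)
  have g1 : g • x 3 = α := hg 1 le_rfl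
  have h1 := D.Zv_conj (D.B_of_adj (hx.1 2 (by omega)).symm b2) (g := g) hZ
  rw [g1] at h1
  have h2' := D.Pair_conj b2 hP g
  rw [g0, g1] at h2'
  rcases D.Pair_unique (D.even_r h2 hr) (by omega) hm h h2' hf with e | e
  · rw [e]; exact h1
  · rw [e]; exact mul_mem h1 (D.mem_Zv h.symm)

/-- The action at distance six. -/
theorem hair {a b c d e f g n : V} (h1 : D.Γ.Adj a b) (h2' : D.Γ.Adj b c) (h3 : D.Γ.Adj c d)
    (h4 : D.Γ.Adj d e) (h5 : D.Γ.Adj e f) (h6 : D.Γ.Adj f g) (n1 : a ≠ c) (n2 : b ≠ d) (n3 : c ≠ e)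
    (n4 : d ≠ f) (n5 : e ≠ g) (hn : D.Γ.Adj d n) (hnc : n ≠ c) (hne : n ≠ e) (ha : D.B a) :
    D.av (D.av g • a) = D.av a * D.av n := by
  have hx := path6 h1 h2' h3 h4 h5 h6 n1 n2 n3 n4 n5
  obtain ⟨-, hZ⟩ := D.mid_pair h2 hr hx ha
  simp only [cons] at hZ
  set t := D.av g with ht
  set w := D.av a * D.av (t • a) with hw
  have bc : D.B c := D.B_two h1 h2' ha
  have be : D.B e := D.B_two h3 h4 bc
  have bg : D.B g := D.B_two h5 h6 be
  have tc : t • c = c := D.end_fix hx bg (show 2 ≤ 6 by omega) (by omega)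
  have td : t • d = d := D.end_fix hx bg (show 3 ≤ 6 by omega) (by omega)
  have tk : t ∉ (ker D.Γ c : Subgroup X) := D.bit_true.mp
    (D.crit4 h2 hr h6.symm h5.symm h4.symm h3.symm n5.symm n4.symm n3.symm bg)
  have tb : t • b ≠ b := D.move h3 h2'.symm n2.symm tc td tk
  obtain ⟨w1, w2⟩ := D.not_sib h2 hr bc h2'.symm (D.nbr_smul tc h2'.symm) tb.symm h1.symm
    (D.adj_smul t h1.symm) n1 (fun e => n1 (smul_left_cancel t (e.trans tc.symm)))
  -- the same element seen from the other end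
  set s := D.av a with hs
  have e' : w = D.av (s • g) * t := by
    rw [hw, hs, D.av_smul t ha, D.av_smul (D.av a) bg, D.av_inv ha, ht, D.av_inv bg]; group
  have se : s • e = e := D.start_fix hx ha (show 4 ≤ 6 by omega) (by omega)
  have sd : s • d = d := D.start_fix hx ha (show 3 ≤ 6 by omega) (by omega)
  have sk : s ∉ (ker D.Γ e : Subgroup X) :=
    D.bit_true.mp (D.crit4 h2 hr h1 h2' h3 h4 n1 n2 n3 ha)
  have sf : s • f ≠ f := D.move h4.symm h5 n4 se sd sk
  obtain ⟨-, w3⟩ := D.not_sib h2 hr be (D.nbr_smul se h5) h5 sf (D.adj_smul s h6) h6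
    (fun q => n5.symm (smul_left_cancel s (q.trans se.symm))) n5.symm
  rcases D.Z_cases (D.B_of_adj h3.symm bc) hZ with q | ⟨k, hk, q⟩
  · exact absurd q w1
  · rcases D.pick h3.symm h4 hn hk n3 hnc.symm hne.symm with rfl | rfl | rfl
    · exact absurd q w2
    · exact absurd (e'.symm.trans q) w3
    · rw [← q, hw, ← mul_assoc, D.av_sq ha, one_mul]

/-- An element with all bits one shifts every involution at distance four. -/
theorem allOne_far {m α u x z : V} (hm : D.B m) (a1 : D.Γ.Adj m α) (a2 : D.Γ.Adj α u)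
    (a3 : D.Γ.Adj u x) (a4 : D.Γ.Adj x z) (n1 : u ≠ m) (n2 : x ≠ α) (n3 : z ≠ u) {k : X}
    (hk : D.AllOne m k) : D.av (k • z) = D.av z * D.av m := by
  have bu : D.B u := D.B_two a1 a2 hm
  have bz : D.B z := D.B_two a3 a4 bu
  obtain ⟨kα, ku⟩ := D.K2_fix hk.1 a1 a2
  have kx : k • x ≠ x := D.move a2.symm a3 n2.symm ku kα (D.bit_true.mp (hk.2 α u a1 a2 n1))
  have kxα : k • x ≠ α := fun e => n2 (smul_left_cancel k (e.trans kα.symm))
  have kzu : k • z ≠ u := fun e => n3 (smul_left_cancel k (e.trans ku.symm))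
  have hP : D.Pair u α (D.av z * D.av (k • z)) :=
    ⟨x, k • x, z, k • z, a3, D.nbr_smul ku a3, n2, kxα, kx.symm, a4, D.adj_smul k a4, n3, kzu, rfl⟩
  obtain ⟨y1, y2⟩ := D.not_sib h2 hr bu a3 (D.nbr_smul ku a3) kx.symm a4 (D.adj_smul k a4) n3 kzu
  rcases D.Z_cases (D.B_of_adj a1.symm hm) (D.natural h2 hr bu a2.symm hP) with q | ⟨n, hn, q⟩
  · exact absurd q y1
  by_cases hnm : n = m
  · rw [← hnm, ← q, ← mul_assoc, D.av_sq bz, one_mul]
  exfalso
  have hnu : n ≠ u := fun e => y2 (e ▸ q)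
  obtain ⟨β, hβ, hβα⟩ := D.exists_other a1
  obtain ⟨w, hw, hwm⟩ := D.exists_other hβ.symm
  have t1 : D.bit (D.av n) w = true :=
    D.crit4 h2 hr hn.symm a1.symm hβ hw hnm hβα.symm hwm.symm (D.B_adj_of hn (D.B_of_adj a1.symm hm))
  have zm : D.av z • m = m := D.av_fix bz (x := cons z (cons x (cons u (cons α fun _ => m)))) rfl
    (path4 a4.symm a3.symm a2.symm a1.symm n3 n2 n1) (show 4 ≤ D.r by omega) le_rfl
  have hk' : D.AllOne m (D.av z * k * (D.av z)⁻¹) := by
    have := D.allOne_conj hk (D.av z)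
    rwa [zm] at this
  have e : D.av z * D.av (k • z) = D.av z * k * (D.av z)⁻¹ * k⁻¹ := by
    rw [D.av_smul k bz, D.av_inv bz]; group
  have t0 : D.bit (D.av z * D.av (k • z)) w = false := by
    rw [e, D.bit_mul2 hk'.1 (inv_mem hk.1) hβ hw, D.bit_inv, hk'.2 _ _ hβ hw hwm,
      hk.2 _ _ hβ hw hwm]
    rfl
  rw [q, t1] at t0
  exact Bool.noConfusion t0

theorem K_four {m : V} (hm : D.B m) {g : X} (hg : g ∈ K X D.Γ 3 m) : g ∈ K X D.Γ 4 m := by
  refine D.K_eq_of_bits hg fun x h0 hx => ?_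
  have b0 : D.B (x 0) := h0 ▸ hm
  have b2 : D.B (x 2) := D.B_of_even hx b0 (by omega) even_two
  have g3 : g • x 3 = x 3 := fix_path' hx (h0 ▸ hg) le_rfl le_rfl
  have g2 : g • x 2 = x 2 := fix_path' hx (h0 ▸ hg) (by omega) (by omega)
  refine ⟨g3, fun p hp => ?_⟩
  by_cases hp2 : p = x 2
  · rw [hp2]; exact g2
  have bp : D.B p := D.B_two (hx.1 2 (by omega)) hp b2
  have ha3 : ¬ D.B (x 3) := D.B_of_adj (hx.1 2 (by omega)).symm b2
  refine D.av_inj ha3 (D.nbr_smul g3 hp) hp ?_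
  rcases D.av_child_smul (D.even_r h2 hr) b2 (hx.1 2 (by omega)) hp (D.nbr_smul g3 hp) hp2
    (fun e => hp2 (smul_left_cancel g (e.trans g2.symm))) with e | e
  · exact e
  exfalso
  have pm : D.av p • m = m := h0 ▸ D.av_fix bp (x := cons p (cons (x 3) (cons (x 2) (cons (x 1)
    fun _ => x 0)))) rfl (path4 hp.symm (hx.1 2 (by omega)).symm (hx.1 1 (by omega)).symm
    (hx.1 0 (by omega)).symm hp2 (hx.2 1 (by omega)).symm (hx.2 0 (by omega)).symm)
    (show 4 ≤ D.r by omega) le_rfl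
  have e' : D.av (x 2) = D.av p * g * (D.av p)⁻¹ * g⁻¹ := by
    calc D.av (x 2) = D.av p * (D.av p * D.av (x 2)) := by rw [← mul_assoc, D.av_sq bp, one_mul]
      _ = _ := by rw [← e, D.av_smul g bp, D.av_inv bp]; group
  have hK : D.av (x 2) ∈ K X D.Γ 3 m := e' ▸ mul_mem (D.K_normal pm hg) (inv_mem hg)
  have a01 : D.Γ.Adj m (x 1) := h0 ▸ hx.1 0 (by omega)
  obtain ⟨β, hβ, hβn⟩ := D.exists_other a01
  obtain ⟨w, hw, hwm⟩ := D.exists_other hβ.symm
  have := D.crit4 h2 hr (hx.1 1 (by omega)).symm a01.symm hβ hw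
    (h0 ▸ (hx.2 0 (by omega)).symm) hβn.symm hwm.symm b2
  rw [D.bit_false.mpr (K_one.mp (K_step (K_step hK hβ) hw))] at this
  exact Bool.noConfusion this

/-- Every element of the ball kernel of radius three is trivial or the involution of the centre. -/
theorem K_three_cases {m : V} (hm : D.B m) {w : X} (hw3 : w ∈ K X D.Γ 3 m) :
    w = 1 ∨ w = D.av m := by
  have hw := D.K_four h2 hr hm hw3
  have hwr : w ∈ K X D.Γ D.r m := hr.symm ▸ hw
  have hcomm : ∀ {z : V}, D.B z → w • z = z → D.av z * w = w * D.av z :=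
    fun hz h => (D.comm_of_fix hz h).symm
  -- elements commuting with `w` move one path to another
  have mover : ∀ y : ℕ → V, y 0 = m → IsPath D.Γ y 4 → ∀ j, 1 ≤ j → j ≤ 3 →
      ∃ g : X, g * w = w * g ∧ (∀ i, i ≤ j → g • y i = y i) ∧ g • y (j + 1) ≠ y (j + 1) := by
    intro y h0 hy j hj1 hj3
    have a1 : D.Γ.Adj m (y 1) := h0 ▸ hy.1 0 (by omega)
    have a2 := hy.1 1 (by omega); have a3 := hy.1 2 (by omega); have a4 := hy.1 3 (by omega)
    have n1 : y 2 ≠ m := h0 ▸ (hy.2 0 (by omega)).symm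
    have n2 : y 3 ≠ y 1 := (hy.2 1 (by omega)).symm
    have n3 : y 4 ≠ y 2 := (hy.2 2 (by omega)).symm
    have b2 : D.B (y 2) := D.B_two a1 a2 hm
    obtain ⟨β, hβ, hβn⟩ := D.exists_other a1
    obtain ⟨γ, hγ, hγn, hγβ⟩ := D.exists_third a1 hβ hβn.symm
    obtain ⟨p2, hp2, hp2m⟩ := D.exists_other hβ.symm
    obtain ⟨q2, hq2, hq2m, hq2p⟩ := D.exists_third hβ.symm hp2 hp2m.symm
    have bp2 := D.B_two hβ hp2 hm
    have bq2 := D.B_two hβ hq2 hm
    have wfix : ∀ {u x q : V}, D.Γ.Adj m β → D.Γ.Adj β u → D.Γ.Adj u x → D.Γ.Adj x q →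
        w • q = q := fun h1 h2 h3 h4 =>
      K_fix (K_step (n := 0) (K_step (K_step (K_step hw h1) h2) h3) h4)
    interval_cases j
    · -- the second vertex
      obtain ⟨x, hx, hxn⟩ := D.exists_other hp2.symm
      obtain ⟨q, hq, hqn⟩ := D.exists_other hx.symm
      obtain ⟨x', hx', hxn'⟩ := D.exists_other hq2.symm
      obtain ⟨q', hq', hqn'⟩ := D.exists_other hx'.symm
      have bq := D.B_two hx hq bp2
      have bq' := D.B_two hx' hq' bq2
      have side : ∀ {u x q : V}, D.Γ.Adj β u → D.Γ.Adj u x → D.Γ.Adj x q → u ≠ m → x ≠ β → q ≠ u →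
          D.B q → D.av q • m = m ∧ D.av q • y 1 = γ ∧ D.av q • γ = y 1 := by
        intro u x q h1 h2' h3 k1 k2 k3 hb
        have hk : D.av q ∈ K X D.Γ 4 q := D.ball4 h2 hr hb
        have q3 : D.av q • β = β :=
          K_fix (K_step (n := 1) (K_step (K_step hk h3.symm) h2'.symm) h1.symm)
        have q4 : D.av q • m = m :=
          K_fix (K_step (n := 0) (K_step (K_step (K_step hk h3.symm) h2'.symm) h1.symm) hβ.symm)
        have qk : D.av q ∉ (ker D.Γ m : Subgroup X) :=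
          D.bit_true.mp (D.crit4 h2 hr h3.symm h2'.symm h1.symm hβ.symm k3 k2 k1 hb)
        exact ⟨q4, D.move_eq hβ a1 hγ hβn hγβ hγn q4 q3 qk,
          D.move_eq hβ hγ a1 hγβ hβn hγn.symm q4 q3 qk⟩
      obtain ⟨qm, qy, qγ⟩ := side hp2 hx hq hp2m hxn hqn bq
      obtain ⟨qm', qy', qγ'⟩ := side hq2 hx' hq' hq2m.symm hxn' hqn' bq'
      refine ⟨D.av q' * D.av q, ?_, fun i hi => ?_, fun e => ?_⟩
      · exact (Commute.mul_left (hcomm bq' (wfix hβ hq2 hx' hq')) (hcomm bq (wfix hβ hp2 hx hq)))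
      · interval_cases i
        · rw [h0, mul_smul, qm, qm']
        · rw [mul_smul, qy, qγ']
      · rw [mul_smul] at e
        have e1 : D.av (D.av q • y 2) = D.av (y 2) * D.av q2 := D.hair h2 hr a2.symm a1.symm hβ hp2
          hx hq n1 hβn.symm hp2m.symm hxn.symm hqn.symm hq2 hq2m.symm hq2p.symm b2
        have hu : D.Γ.Adj γ (D.av q • y 2) := qy ▸ D.adj_smul (D.av q) a2
        have hum : D.av q • y 2 ≠ m := fun c => n1 (smul_left_cancel _ (c.trans qm.symm))
        have e2 : D.av (D.av q' • D.av q • y 2) = D.av (D.av q • y 2) * D.av p2 :=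
          D.hair h2 hr hu.symm hγ.symm hβ hq2 hx' hq' hum hγβ.symm hq2m hxn'.symm hqn'.symm hp2 hp2m
            hq2p (D.B_smul.mpr b2)
        rw [e, e1, mul_assoc, D.third (D.B_of_adj hβ.symm hm) hq2 hp2 hβ.symm hq2p.symm hq2m.symm hp2m,
          eq_comm, mul_eq_left] at e2
        exact D.av_ne hm e2
    · -- the third vertex
      have hk : D.av p2 ∈ K X D.Γ 4 p2 := D.ball4 h2 hr bp2
      have pm : D.av p2 • m = m := D.near2 bp2 hp2.symm hβ.symm
      have p1 : D.av p2 • y 1 = y 1 :=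
        K_fix (K_step (n := 1) (K_step (K_step hk hp2.symm) hβ.symm) a1)
      have p2' : D.av p2 • y 2 = y 2 :=
        K_fix (K_step (n := 0) (K_step (K_step (K_step hk hp2.symm) hβ.symm) a1) a2)
      refine ⟨D.av p2, hcomm bp2 (D.K2_fix (K_mono (by omega) hw) hβ hp2).2, fun i hi => ?_,
        D.move a2.symm a3 n2.symm p2' p1 (D.bit_true.mp
          (D.crit4 h2 hr hp2.symm hβ.symm a1 a2 hp2m hβn n1.symm bp2))⟩
      interval_cases i
      · rw [h0, pm]
      · exact p1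
      · exact p2'
    · -- the last vertex
      obtain ⟨ub, hub, hubm, hub2⟩ := D.exists_third a1.symm a2 n1.symm
      obtain ⟨x', hx', hxn'⟩ := D.exists_other hub.symm
      obtain ⟨v, hv, hvn⟩ := D.exists_other hx'.symm
      have bub := D.B_two a1 hub hm
      have bv := D.B_two hx' hv bub
      have hk : D.av p2 ∈ K X D.Γ 4 p2 := D.ball4 h2 hr bp2
      have pm : D.av p2 • m = m := D.near2 bp2 hp2.symm hβ.symm
      have p1 : D.av p2 • y 1 = y 1 :=
        K_fix (K_step (n := 1) (K_step (K_step hk hp2.symm) hβ.symm) a1)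
      have p2' : D.av p2 • y 2 = y 2 :=
        K_fix (K_step (n := 0) (K_step (K_step (K_step hk hp2.symm) hβ.symm) a1) a2)
      have pk : D.av p2 ∉ (ker D.Γ (y 2) : Subgroup X) := D.bit_true.mp
        (D.crit4 h2 hr hp2.symm hβ.symm a1 a2 hp2m hβn n1.symm bp2)
      have hkv : D.av v ∈ K X D.Γ 4 v := D.ball4 h2 hr bv
      have v3 : D.av v • y 1 = y 1 :=
        K_fix (K_step (n := 1) (K_step (K_step hkv hv.symm) hx'.symm) hub.symm)
      have vm : D.av v • m = m :=
        K_fix (K_step (n := 0) (K_step (K_step (K_step hkv hv.symm) hx'.symm) hub.symm) a1.symm)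
      have v2 : D.av v • y 2 = y 2 :=
        K_fix (K_step (n := 0) (K_step (K_step (K_step hkv hv.symm) hx'.symm) hub.symm) a2)
      have vk : D.av v ∉ (ker D.Γ (y 2) : Subgroup X) := D.bit_true.mp
        (D.crit4 h2 hr hv.symm hx'.symm hub.symm a2 hvn hxn' hub2.symm bv)
      refine ⟨D.av v * D.av p2, ?_, fun i hi => ?_, fun e => ?_⟩
      · refine Commute.mul_left (hcomm bv ?_) (hcomm bp2 (D.K2_fix (K_mono (by omega) hw) hβ hp2).2)
        exact K_fix (K_step (n := 0) (K_step (K_step (K_step hw a1) hub) hx') hv)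
      · interval_cases i
        · rw [h0, mul_smul, pm, vm]
        · rw [mul_smul, p1, v3]
        · rw [mul_smul, p2', v2]
        · exact (D.mul_ker a2.symm v2 v3 p2' p1 vk pk).2 _ a3
      · rw [mul_smul] at e
        have b4 : D.B (y 4) := D.B_two a3 a4 b2
        have e1 : D.av (D.av p2 • y 4) = D.av (y 4) * D.av ub := D.hair h2 hr a4.symm a3.symm a2.symm
          a1.symm hβ hp2.symm.symm n3 n2 n1 hβn.symm hp2m.symm hub hub2.symm hubm.symm b4
        have hz : D.Γ.Adj (D.av p2 • y 4) (D.av p2 • y 3) := D.adj_smul _ a4.symm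
        have hz2 : D.Γ.Adj (D.av p2 • y 3) (y 2) := by
          have := D.adj_smul (D.av p2) a3.symm
          rwa [p2'] at this
        have e2 : D.av (D.av v • D.av p2 • y 4) = D.av (D.av p2 • y 4) * D.av m :=
          D.hair h2 hr hz hz2 a2.symm hub hx' hv
            (fun c => n3 (smul_left_cancel _ (c.trans p2'.symm)))
            (fun c => n2 (smul_left_cancel _ (c.trans p1.symm))) hub2 hxn'.symm hvn.symm a1.symm
            n1.symm hubm (D.B_smul.mpr b4)
        rw [e, e1, mul_assoc, D.third (D.B_of_adj a1.symm hm) hub a1.symm a2 hubm.symm hub2.symm n1.symm,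
          eq_comm, mul_eq_left] at e2
        exact D.av_ne b2 e2
  -- so all bits agree
  have same : ∀ d y y' : _, (y : ℕ → V) 0 = m → (y' : ℕ → V) 0 = m → IsPath D.Γ y 4 →
      IsPath D.Γ y' 4 → (∀ i, i ≤ 4 - d → y i = y' i) → D.bit w (y 4) = D.bit w (y' 4) := by
    intro d
    induction d with
    | zero => intro y y' _ _ _ _ h; rw [h 4 le_rfl]
    | succ d ih =>
      intro y y' h0 h0' hy hy' h
      by_cases hd : 4 ≤ d
      · exact ih y y' h0 h0' hy hy' fun i hi => h i (by omega)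
      set j := 4 - (d + 1) with hj
      have e4 : 4 - d = j + 1 := by omega
      by_cases hnext : y (j + 1) = y' (j + 1)
      · exact ih y y' h0 h0' hy hy' fun i hi => by
          rcases Nat.lt_or_eq_of_le (e4 ▸ hi) with l | rfl
          · exact h i (by omega)
          · exact hnext
      suffices hg : ∃ g : X, g * w = w * g ∧ (∀ i, i ≤ j → g • y i = y i) ∧
          g • y (j + 1) = y' (j + 1) by
        obtain ⟨g, gc, gf, ge⟩ := hg
        rw [← D.bit_comm (v := y 4) gc]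
        refine ih (fun i => g • y i) y' ((gf 0 (Nat.zero_le _)).trans h0) h0'
          ⟨fun i hi => D.adj_smul g (hy.1 i hi), fun i hi e => hy.2 i hi (smul_left_cancel g e)⟩
          hy' fun i hi => ?_
        rcases Nat.lt_or_eq_of_le (e4 ▸ hi) with l | rfl
        · exact (gf i (by omega)).trans (h i (by omega))
        · exact ge
      rcases Nat.eq_zero_or_pos j with hj0 | hj0
      · rw [hj0] at hnext ⊢
        have a1 : D.Γ.Adj m (y 1) := h0 ▸ hy.1 0 (by omega)
        have a1' : D.Γ.Adj m (y' 1) := h0' ▸ hy'.1 0 (by omega)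
        obtain ⟨b, hb, hb1, hb2⟩ := D.exists_third a1 a1' hnext
        obtain ⟨u, hu, hum⟩ := D.exists_other hb.symm
        obtain ⟨x, hx, hxn⟩ := D.exists_other hu.symm
        obtain ⟨q, hq, hqn⟩ := D.exists_other hx.symm
        have bq := D.B_two hx hq (D.B_two hb hu hm)
        have hk : D.av q ∈ K X D.Γ 4 q := D.ball4 h2 hr bq
        have q3 : D.av q • b = b :=
          K_fix (K_step (n := 1) (K_step (K_step hk hq.symm) hx.symm) hu.symm)
        have q4 : D.av q • m = m :=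
          K_fix (K_step (n := 0) (K_step (K_step (K_step hk hq.symm) hx.symm) hu.symm) hb.symm)
        refine ⟨D.av q, hcomm bq (K_fix (K_step (n := 0) (K_step (K_step (K_step hw hb) hu) hx) hq)),
          fun i hi => ?_, D.move_eq hb a1 a1' hb1.symm hb2.symm hnext q4 q3 (D.bit_true.mp
            (D.crit4 h2 hr hq.symm hx.symm hu.symm hb.symm hqn hxn hum bq))⟩
        rw [Nat.le_zero.mp hi, h0, q4]
      · obtain ⟨g, gc, gf, gm⟩ := mover y h0 hy j hj0 (by omega)
        refine ⟨g, gc, gf, ?_⟩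
        have hp : D.Γ.Adj (y j) (y (j - 1)) := by
          have := (hy.1 (j - 1) (by omega)).symm
          rwa [show j - 1 + 1 = j by omega] at this
        have hq : D.Γ.Adj (y j) (y' (j + 1)) := (h j le_rfl) ▸ hy'.1 j (by omega)
        have nq : y (j - 1) ≠ y (j + 1) := by
          have := hy.2 (j - 1) (by omega)
          rwa [show j - 1 + 2 = j + 1 by omega] at this
        have nq' : y (j - 1) ≠ y' (j + 1) := by
          have := hy'.2 (j - 1) (by omega)
          rwa [show j - 1 + 2 = j + 1 by omega, ← h (j - 1) (by omega)] at this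
        rcases D.pick hp (hy.1 j (by omega)) hq (D.nbr_smul (gf j le_rfl) (hy.1 j (by omega))) nq nq'
          hnext with e | e | e
        · exact absurd (smul_left_cancel g (e.trans (gf (j - 1) (by omega)).symm)) nq.symm
        · exact absurd e gm
        · exact e
  obtain ⟨y, hy0, hy⟩ := D.exists_long m 4
  have all : ∀ z : ℕ → V, z 0 = m → IsPath D.Γ z 4 → D.bit w (z 4) = D.bit w (y 4) := fun z z0 hz =>
    same 4 z y z0 hy0 hz hy fun i hi => by rw [Nat.le_zero.mp hi, z0, hy0]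
  cases hb : D.bit w (y 4) with
  | false =>
    refine Or.inl (D.K_bot h2 hm (D.K_eq_of_bits hwr fun z z0 hz => D.bit_false.mp ?_))
    rw [hr] at hz ⊢
    rw [all z z0 hz, hb]
  | true =>
    refine Or.inr (D.eq_of_bits h2 hm hwr (D.av_ball hm) fun z z0 hz => ?_)
    refine iff_of_false ?_ (z0 ▸ D.av_bit h2 (D.tr_r h2 hr) hz (z0 ▸ hm))
    rw [hr] at hz ⊢
    exact D.bit_true.mp ((all z z0 hz).trans hb)

end Data

namespace Frame

variable {D : Data X V} (F : Frame D)
  (h2 : IsPGroup 2 (G X D.a ⊓ G X D.b : Subgroup X)) (hr : D.r = 4)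
include F h2 hr

/-- The differences agree in two branches. -/
theorem d_eq {g : X} (hg : g ∈ K X D.Γ 2 F.m) {i j l : Fin 3} (hij : i ≠ j) (hil : i ≠ l)
    (hjl : j ≠ l) :
    xor (D.bit g (F.p j)) (D.bit g (F.q j)) = xor (D.bit g (F.p l)) (D.bit g (F.q l)) := by
  obtain ⟨x, hx, hxn⟩ := D.exists_other (F.hp i).symm
  obtain ⟨p, hp, hpn⟩ := D.exists_other hx.symm
  have bu := F.Bp i
  have bp := D.B_two hx hp bu
  have hk : D.av p ∈ K X D.Γ 4 p := D.ball4 h2 hr bp
  have a3 : D.av p • F.α i = F.α i :=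
    K_fix (K_step (n := 1) (K_step (K_step hk hp.symm) hx.symm) (F.hp i).symm)
  have a4 : D.av p • F.m = F.m :=
    K_fix (K_step (n := 0) (K_step (K_step (K_step hk hp.symm) hx.symm) (F.hp i).symm) (F.hα i).symm)
  have ak : D.av p ∉ (ker D.Γ F.m : Subgroup X) := D.bit_true.mp
    (D.crit4 h2 hr hp.symm hx.symm (F.hp i).symm (F.hα i).symm hpn hxn (F.hpm i) bp)
  have aj : D.av p • F.α j = F.α l := D.move_eq (F.hα i) (F.hα j) (F.hα l) (fun e => hij (F.inj e))
    (fun e => hil (F.inj e)) (fun e => hjl (F.inj e)) a4 a3 ak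
  obtain ⟨gα, gu⟩ := D.K2_fix hg (F.hα i) (F.hp i)
  have giu : g⁻¹ • F.p i = F.p i := inv_smul_eq_iff.mpr gu.symm
  have giα : g⁻¹ • F.α i = F.α i := inv_smul_eq_iff.mpr gα.symm
  set y := g⁻¹ * (D.av p * g * (D.av p)⁻¹) with hydef
  have ey : y = D.av (g⁻¹ • p) * D.av p := by
    rw [hydef, D.av_smul g⁻¹ bp, D.av_inv bp]; group
  have hyZ : y ∈ D.Zv (F.α i) := by
    rw [ey]
    by_cases e : g⁻¹ • x = x
    · rcases D.av_child_smul (D.even_r h2 hr) bu hx hp (D.nbr_smul e hp) hpn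
        (fun c => hpn (smul_left_cancel g⁻¹ (c.trans giu.symm))) with q | q <;> rw [q]
      · rw [D.av_sq bp]; exact one_mem _
      · rw [D.comm2 bp bu hp.symm hx.symm, mul_assoc, D.av_sq bp, mul_one]
        exact D.mem_Zv (F.hp i)
    · exact D.natural h2 hr bu (F.hp i).symm ⟨g⁻¹ • x, x, g⁻¹ • p, p, D.nbr_smul giu hx, hx,
        fun c => hxn (smul_left_cancel g⁻¹ (c.trans giα.symm)), hxn, e, D.adj_smul g⁻¹ hp, hp,
        fun c => hpn (smul_left_cancel g⁻¹ (c.trans giu.symm)), hpn, rfl⟩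
  have yb : D.bit y (F.p j) = D.bit y (F.q j) := by
    rcases D.Z_cases (D.B_of_adj (F.hα i).symm F.hm) hyZ with q | ⟨n, hn, q⟩ <;> rw [q]
    · rw [D.bit_false.mpr (one_mem _), D.bit_false.mpr (one_mem _)]
    by_cases hnm : n = F.m
    · have hk2 : D.av n ∈ K X D.Γ 3 F.m := by rw [hnm]; exact K_succ_le (D.ball4 h2 hr F.hm)
      rw [D.bit_false.mpr (K_one.mp (K_step (K_step hk2 (F.hα j)) (F.hp j))),
        D.bit_false.mpr (K_one.mp (K_step (K_step hk2 (F.hα j)) (F.hq j)))]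
    · have bn := D.B_adj_of hn (D.B_of_adj (F.hα i).symm F.hm)
      rw [D.crit4 h2 hr hn.symm (F.hα i).symm (F.hα j) (F.hp j) hnm (fun e => hij (F.inj e))
          (F.hpm j).symm bn,
        D.crit4 h2 hr hn.symm (F.hα i).symm (F.hα j) (F.hq j) hnm (fun e => hij (F.inj e))
          (F.hqm j).symm bn]
  have hg' : D.av p * g * (D.av p)⁻¹ ∈ K X D.Γ 2 F.m := D.K_normal a4 hg
  have conj : ∀ v, D.bit (D.av p * g * (D.av p)⁻¹) v = D.bit g (D.av p • v) := fun v => by
    rw [← D.bit_conj (h := D.av p) (g := g) (v := D.av p • v), D.av_av_smul bp]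
  rw [hydef, F.bit_mul_p (inv_mem hg) hg', F.bit_mul_q (inv_mem hg) hg', D.bit_inv, D.bit_inv,
    conj, conj] at yb
  have hp' : D.Γ.Adj (F.α l) (D.av p • F.p j) := aj ▸ D.adj_smul _ (F.hp j)
  have hq' : D.Γ.Adj (F.α l) (D.av p • F.q j) := aj ▸ D.adj_smul _ (F.hq j)
  rcases F.pair_child l hp' (fun e => F.hpm j (smul_left_cancel _ (e.trans a4.symm))) hq'
    (fun e => F.hqm j (smul_left_cancel _ (e.trans a4.symm)))
    (fun e => F.hpq j (smul_left_cancel _ e)) with ⟨e1, e2⟩ | ⟨e1, e2⟩ <;> rw [e1, e2] at yb <;>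
    revert yb <;> cases D.bit g (F.p j) <;> cases D.bit g (F.q j) <;> cases D.bit g (F.p l) <;>
    cases D.bit g (F.q l) <;> simp

theorem d_all {g : X} (hg : g ∈ K X D.Γ 2 F.m) (j l : Fin 3) :
    xor (D.bit g (F.p j)) (D.bit g (F.q j)) = xor (D.bit g (F.p l)) (D.bit g (F.q l)) := by
  by_cases e : j = l
  · rw [e]
  obtain ⟨i, k, hji, hjk, hik, hall⟩ := F.others j
  rcases hall l with rfl | rfl | rfl
  · exact absurd rfl e
  · exact F.d_eq h2 hr hg (i := k) hjk.symm hik.symm hji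
  · exact F.d_eq h2 hr hg (i := i) hji.symm hik hjk

theorem child_bits (i : Fin 3) : D.av (F.p i) ∈ K X D.Γ 2 F.m ∧
    D.bit (D.av (F.p i)) (F.p i) = false ∧ D.bit (D.av (F.p i)) (F.q i) = false ∧
    ∀ j, i ≠ j → D.bit (D.av (F.p i)) (F.p j) = true ∧ D.bit (D.av (F.p i)) (F.q j) = true := by
  have hb := F.Bp i
  have hk : D.av (F.p i) ∈ K X D.Γ 4 (F.p i) := D.ball4 h2 hr hb
  exact ⟨K_step (K_step hk (F.hp i).symm) (F.hα i).symm, D.bit_false.mpr (K_ker (by omega) hk),
    D.bit_false.mpr (K_ker (by omega) (K_step (K_step hk (F.hp i).symm) (F.hq i))),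
    fun j hij => ⟨D.crit4 h2 hr (F.hp i).symm (F.hα i).symm (F.hα j) (F.hp j) (F.hpm i)
      (fun e => hij (F.inj e)) (F.hpm j).symm hb,
      D.crit4 h2 hr (F.hp i).symm (F.hα i).symm (F.hα j) (F.hq j) (F.hpm i)
      (fun e => hij (F.inj e)) (F.hqm j).symm hb⟩⟩

/-- An element without differences commutes with an element with all bits one. -/
theorem comm_allOne {g k : X} (hk : D.AllOne F.m k) (hg : g ∈ K X D.Γ 2 F.m)
    (h0 : D.bit g (F.p 0) = true) (h0' : D.bit g (F.q 0) = true) : Commute k g := by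
  have hq : ∀ j, D.bit g (F.q j) = D.bit g (F.p j) := fun j => by
    have := F.d_all h2 hr hg j 0
    rw [h0, h0'] at this
    revert this
    cases D.bit g (F.p j) <;> cases D.bit g (F.q j) <;> simp
  have kb : ∀ j, D.bit k (F.p j) = true ∧ D.bit k (F.q j) = true := fun j =>
    ⟨hk.2 _ _ (F.hα j) (F.hp j) (F.hpm j), hk.2 _ _ (F.hα j) (F.hq j) (F.hqm j)⟩
  have kc : ∀ i, Commute k (D.av (F.p i)) := fun i =>
    D.comm_of_fix (F.Bp i) (D.K2_fix hk.1 (F.hα i) (F.hp i)).2
  have zero : ∀ z ∈ K X D.Γ 2 F.m, (∀ j, D.bit z (F.p j) = false ∧ D.bit z (F.q j) = false) →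
      Commute k z := fun z hz hb => by
    rcases D.K_three_cases h2 hr F.hm (D.K_three hz (F.all_child (fun j => (hb j).1) fun j => (hb j).2))
      with rfl | rfl
    · exact Commute.one_right k
    · exact D.comm_of_fix F.hm (K_fix hk.1)
  have single : ∀ i, (∀ j, D.bit g (F.p j) = decide (j ≠ i)) → Commute k g := fun i hi => by
    obtain ⟨m2, b1, b2, b3⟩ := F.child_bits h2 hr i
    have hz := zero (g * D.av (F.p i)) (mul_mem hg m2) fun j => by
      rw [F.bit_mul_p hg m2, F.bit_mul_q hg m2, hq, hi]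
      by_cases e : j = i
      · subst e; simp [b1, b2]
      · simp [e, (b3 j (Ne.symm e)).1, (b3 j (Ne.symm e)).2]
    have := hz.mul_right (kc i).inv_right
    rwa [mul_inv_cancel_right] at this
  cases h1 : D.bit g (F.p 1) <;> cases h2' : D.bit g (F.p 2)
  · obtain ⟨m2, b1, b2, b3⟩ := F.child_bits h2 hr 0
    have hz := zero (g * D.av (F.p 0) * k) (mul_mem (mul_mem hg m2) hk.1) fun j => by
      rw [F.bit_mul_p (mul_mem hg m2) hk.1, F.bit_mul_q (mul_mem hg m2) hk.1, F.bit_mul_p hg m2,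
        F.bit_mul_q hg m2, hq, (kb j).1, (kb j).2]
      fin_cases j <;> simp [h0, h1, h2', b1, b2, b3]
    have := (hz.mul_right (Commute.refl k).inv_right).mul_right (kc 0).inv_right
    rwa [mul_inv_cancel_right, mul_inv_cancel_right] at this
  · exact single 1 fun j => by fin_cases j <;> simp [h0, h1, h2']
  · exact single 2 fun j => by fin_cases j <;> simp [h0, h1, h2']
  · have hz := zero (g * k) (mul_mem hg hk.1) fun j => by
      rw [F.bit_mul_p hg hk.1, F.bit_mul_q hg hk.1, hq, (kb j).1, (kb j).2]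
      fin_cases j <;> simp [h0, h1, h2']
    have := hz.mul_right (Commute.refl k).inv_right
    rwa [mul_inv_cancel_right] at this

end Frame

namespace Data

variable (D : Data X V) (h2 : IsPGroup 2 (G X D.a ⊓ G X D.b : Subgroup X)) (hr : D.r = 4)
include D h2 hr

theorem no_allOne {m : V} (hm : D.B m) (k : X) : ¬ D.AllOne m k := by
  intro hk
  obtain ⟨α, hα⟩ := D.nbr m
  obtain ⟨F, hFm, hFα⟩ := D.exists_frame hm hα
  subst hFm
  subst hFα
  have a1 := F.hα 0
  set u := F.p 0 with hu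
  set ub := F.q 0 with hub
  have bu := F.Bp 0
  obtain ⟨x, hx, hxn⟩ := D.exists_other (F.hq 0).symm
  obtain ⟨p, hp, hpn⟩ := D.exists_other hx.symm
  have bp := D.B_two hx hp (F.Bq 0)
  obtain ⟨t, ht⟩ : ∃ t : X, t • F.m = u := by
    obtain ⟨a, ha⟩ := hm
    obtain ⟨b, hb⟩ := bu
    exact ⟨b * a⁻¹, by rw [← ha, mul_smul, inv_smul_smul, hb]⟩
  have hku : D.AllOne u (t * k * t⁻¹) := ht ▸ D.allOne_conj hk t
  set ku := t * k * t⁻¹
  have hkp : D.av p ∈ K X D.Γ 4 p := D.ball4 h2 hr bp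
  have pα : D.av p • F.α 0 = F.α 0 :=
    K_fix (K_step (n := 1) (K_step (K_step hkp hp.symm) hx.symm) (F.hq 0).symm)
  have pm : D.av p • F.m = F.m :=
    K_fix (K_step (n := 0) (K_step (K_step (K_step hkp hp.symm) hx.symm) (F.hq 0).symm) a1.symm)
  have pu : D.av p • u = u :=
    K_fix (K_step (n := 0) (K_step (K_step (K_step hkp hp.symm) hx.symm) (F.hq 0).symm) (F.hp 0))
  have pub : D.av p • ub = ub := D.near2 bp hp.symm hx.symm
  have pmk : D.av p ∉ (ker D.Γ F.m : Subgroup X) := D.bit_true.mp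
    (D.crit4 h2 hr hp.symm hx.symm (F.hq 0).symm a1.symm hpn hxn (F.hqm 0) bp)
  obtain ⟨kuα, kum⟩ := D.K2_fix hku.1 (F.hp 0).symm a1.symm
  have kuub : ku • ub = ub := (D.K2_fix hku.1 (F.hp 0).symm (F.hq 0)).2
  have kuu : ku • u = u := K_fix hku.1
  have kumk : ku ∉ (ker D.Γ F.m : Subgroup X) :=
    D.bit_true.mp (hku.2 _ _ (F.hp 0).symm a1.symm (F.hpm 0).symm)
  set h := D.av p * ku with hh
  have hK : h ∈ K X D.Γ 2 F.m := by
    have hker : h ∈ (ker D.Γ F.m : Subgroup X) := D.mul_ker a1 pm pα kum kuα pmk kumk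
    refine F.K_two.mpr ⟨hker, fun i => ⟨hker.2 _ (F.hα i), fun w hw => ?_⟩⟩
    by_cases hwm : w = F.m
    · rw [hwm]; exact hker.1
    by_cases hi : i = 0
    · subst hi
      rcases F.q_child 0 hw hwm with rfl | rfl
      · rw [hh, mul_smul, kuu, pu]
      · rw [hh, mul_smul, kuub, pub]
    have hne : F.α i ≠ F.α 0 := fun e => hi (F.inj e)
    have bw := D.B_two (F.hα i) hw hm
    have e1 : D.av (ku • w) = D.av w * D.av u :=
      D.allOne_far h2 hr bu (F.hp 0).symm a1.symm (F.hα i) hw (F.hpm 0).symm hne hwm hku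
    have e2 : D.av (D.av p • w) = D.av w * D.av u :=
      D.hair h2 hr hw.symm (F.hα i).symm a1 (F.hq 0) hx hp hwm hne (F.hqm 0).symm hxn.symm hpn.symm
        (F.hp 0) (F.hpm 0) (F.hpq 0) bw
    have eb : ku • F.α i = D.av p • F.α i := by
      obtain ⟨l, hl, hl0, hli⟩ := D.exists_third a1 (F.hα i) hne.symm
      rw [D.move_eq a1 (F.hα i) hl hne.symm hl0 hli kum kuα kumk,
        D.move_eq a1 (F.hα i) hl hne.symm hl0 hli pm pα pmk]
    have ha : ¬ D.B (ku • F.α i) := fun c => D.B_of_adj (F.hα i).symm hm (D.B_smul.mp c)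
    have ew : ku • w = D.av p • w :=
      D.av_inj ha (D.adj_smul ku hw) (eb ▸ D.adj_smul (D.av p) hw) (e1.trans e2.symm)
    rw [hh, mul_smul, ew, D.av_av_smul bp]
  have hb0 : D.bit h u = true := by
    rw [hh, D.bit_mul (F.hp 0).symm pu pα kuu kuα,
      D.crit4 h2 hr hp.symm hx.symm (F.hq 0).symm (F.hp 0) hpn hxn (F.hpq 0).symm bp,
      D.bit_false.mpr (K_ker (by omega) hku.1)]
    rfl
  have hb1 : D.bit h ub = true := by
    rw [hh, D.bit_mul (F.hq 0).symm pub pα kuub kuα,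
      D.bit_false.mpr (K_ker (by omega) (K_step (K_step hkp hp.symm) hx.symm)),
      hku.2 _ _ (F.hp 0).symm (F.hq 0) (F.hpq 0).symm]
    rfl
  have c1 := F.comm_allOne h2 hr hk hK hb0 hb1
  have c2 : Commute k ku := by
    have hkuc : D.AllOne u (k * ku * k⁻¹) := by
      have e : k • u = u := (D.K2_fix hk.1 a1 (F.hp 0)).2
      have := D.allOne_conj hku k
      rwa [e] at this
    have h3u : k * ku * k⁻¹ * ku⁻¹ ∈ K X D.Γ 3 u := D.allOne_div hkuc hku
    have h3m : k * ku * k⁻¹ * ku⁻¹ ∈ K X D.Γ 3 F.m := by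
      have := D.allOne_div hk (kum ▸ D.allOne_conj hk ku)
      rwa [show k * (ku * k * ku⁻¹)⁻¹ = k * ku * k⁻¹ * ku⁻¹ by group] at this
    rcases D.K_three_cases h2 hr bu h3u with e | e
    · exact mul_inv_eq_iff_eq_mul.mp (mul_inv_eq_one.mp e)
    · rcases D.K_three_cases h2 hr hm h3m with e' | e'
      · exact absurd (e.symm.trans e') (D.av_ne bu)
      · exact absurd (e.symm.trans e') (D.ne2 (D.B_of_adj a1.symm hm) (F.hp 0) a1.symm (F.hpm 0))
  have e3 := D.allOne_far h2 hr hm a1 (F.hq 0) hx hp (F.hqm 0) hxn hpn hk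
  have c3 : k * D.av p = D.av p * k := by
    have : Commute k (D.av p) := by
      have := c1.mul_right c2.inv_right
      rwa [hh, mul_inv_cancel_right] at this
    exact this
  rw [D.av_smul k bp, c3, mul_inv_cancel_right, eq_comm, mul_eq_left] at e3
  exact D.av_ne hm e3

end Data

namespace Frame

variable {D : Data X V} (F : Frame D)
  (h2 : IsPGroup 2 (G X D.a ⊓ G X D.b : Subgroup X)) (hr : D.r = 4)
include F h2 hr

theorem card_edge_four : Nat.card (G X (F.α 0) ⊓ G X F.m : Subgroup X) ≤ 128 := by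
  haveI := D.fin F.m
  have hW : Nat.card (K X D.Γ 3 F.m) ≤ 2 := by
    haveI : Finite (zpowers (D.av F.m)) := D.finite_of_le (v := F.m)
      (zpowers_le.mpr (GoldschmidtS3.mem_G.mpr (K_fix (D.av_ball F.hm))))
    refine le_trans (Subgroup.card_le_of_le fun w hw => ?_) (show Nat.card (zpowers (D.av F.m)) ≤ 2 by
      rw [Nat.card_zpowers]
      exact Nat.le_of_dvd (by norm_num) (orderOf_dvd_of_pow_eq_one (by rw [pow_two, D.av_sq F.hm])))
    rcases D.K_three_cases h2 hr F.hm hw with rfl | rfl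
    · exact one_mem _
    · exact mem_zpowers _
  haveI := D.K_finite (n := 3) F.m
  let f : X → Fin 4 → Bool := fun g =>
    ![D.bit g (F.p 0), D.bit g (F.p 1), D.bit g (F.p 2), xor (D.bit g (F.p 0)) (D.bit g (F.q 0))]
  have qbit : ∀ {g : X}, g ∈ K X D.Γ 2 F.m → ∀ i,
      D.bit g (F.q i) = xor (D.bit g (F.p i)) (xor (D.bit g (F.p 0)) (D.bit g (F.q 0))) := by
    intro g hg i
    rw [← F.d_all h2 hr hg i 0, ← Bool.xor_assoc, Bool.xor_self, Bool.false_xor]
  have hK2 : Nat.card (K X D.Γ 2 F.m) ≤ 16 := by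
    have hN : Nat.card (f '' (K X D.Γ 2 F.m : Set X)) ≤ 8 := by
      have := half_le (f '' (K X D.Γ 2 F.m : Set X)) ?_ ![true, true, true, false] ?_
      · rw [card_bool_fun] at this; omega
      · rintro _ ⟨g, hg, rfl⟩ _ ⟨k, hk, rfl⟩
        refine ⟨g * k, mul_mem hg hk, funext fun i => ?_⟩
        fin_cases i <;>
          simp [f, F.bit_mul_p hg hk, F.bit_mul_q hg hk]
        cases D.bit g (F.p 0) <;> cases D.bit g (F.q 0) <;> cases D.bit k (F.p 0) <;>
          cases D.bit k (F.q 0) <;> rfl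
      · rintro ⟨g, hg, e⟩
        have e0 : D.bit g (F.p 0) = true := congrFun e 0
        have e1 : D.bit g (F.p 1) = true := congrFun e 1
        have e2 : D.bit g (F.p 2) = true := congrFun e 2
        have e3 : xor (D.bit g (F.p 0)) (D.bit g (F.q 0)) = false := congrFun e 3
        have hall : ∀ i, D.bit g (F.p i) = true := fun i => by fin_cases i <;> assumption
        exact D.no_allOne h2 hr F.hm g ⟨hg, F.all_child hall fun i => by rw [qbit hg, hall i, e3]; rfl⟩
    refine le_trans (card_le_mul (L := K X D.Γ 3 F.m) f (fun g hg k hk e => ?_) hN)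
      (by omega)
    have hp : ∀ i, D.bit g (F.p i) = D.bit k (F.p i) := fun i => by
      fin_cases i
      · exact congrFun e 0
      · exact congrFun e 1
      · exact congrFun e 2
    have hd : xor (D.bit g (F.p 0)) (D.bit g (F.q 0)) = xor (D.bit k (F.p 0)) (D.bit k (F.q 0)) :=
      congrFun e 3
    refine D.K_three (mul_mem (inv_mem hg) hk) (F.all_child (fun i => ?_) fun i => ?_)
    · rw [F.bit_mul_p (inv_mem hg) hk, D.bit_inv, hp, Bool.xor_self]
    · rw [F.bit_mul_q (inv_mem hg) hk, D.bit_inv, qbit hg, qbit hk, hp, hd, Bool.xor_self]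
  -- two bits determine the third
  have h1 := F.ker_le (fun g (i : Fin 2) => D.bit g (F.α (Fin.castSucc i)))
    (fun g hg k hk e => by
      have hz := mul_mem (inv_mem hg) hk
      set z := g⁻¹ * k with hzdef
      have zb : ∀ i, D.bit z (F.α i) = xor (D.bit g (F.α i)) (D.bit k (F.α i)) := fun i => by
        rw [hzdef, D.bit_mul (F.hα i).symm ((inv_mem hg).2 _ (F.hα i)) (inv_mem hg).1
          (hk.2 _ (F.hα i)) hk.1, D.bit_inv]
      have z0 : z ∈ (ker D.Γ (F.α 0) : Subgroup X) := D.bit_false.mp (by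
        rw [zb, show D.bit g (F.α 0) = D.bit k (F.α 0) from congrFun e 0, Bool.xor_self])
      have z1 : z ∈ (ker D.Γ (F.α 1) : Subgroup X) := D.bit_false.mp (by
        rw [zb, show D.bit g (F.α 1) = D.bit k (F.α 1) from congrFun e 1, Bool.xor_self])
      have z2 : z ∈ (ker D.Γ (F.α 2) : Subgroup X) := by
        have hP : D.Pair F.m (F.α 2) (D.av (F.p 0) * D.av (F.p 1)) :=
          ⟨F.α 0, F.α 1, F.p 0, F.p 1, F.hα 0, F.hα 1, fun e => absurd (F.inj e) (by decide),
            fun e => absurd (F.inj e) (by decide), fun e => absurd (F.inj e) (by decide), F.hp 0,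
            F.hp 1, F.hpm 0, F.hpm 1, rfl⟩
        obtain ⟨w1, w2⟩ := D.not_sib h2 hr F.hm (F.hα 0) (F.hα 1)
          (fun e => absurd (F.inj e) (by decide)) (F.hp 0) (F.hp 1) (F.hpm 0) (F.hpm 1)
        have ha := D.B_of_adj (F.hα 2).symm F.hm
        rcases D.Z_cases ha (D.natural h2 hr F.hm (F.hα 2) hP) with q | ⟨n, hn, q⟩
        · exact absurd q w1
        have hnm : F.m ≠ n := fun c => w2 (c ▸ q)
        have zα : z • F.α 2 = F.α 2 := hz.2 _ (F.hα 2)
        refine D.ker_of_fix (F.hα 2).symm hn hnm zα hz.1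
          (D.av_inj ha (D.nbr_smul zα hn) hn ?_)
        rw [D.av_smul z (D.B_adj_of hn ha), ← q,
          show z * (D.av (F.p 0) * D.av (F.p 1)) * z⁻¹ =
            (z * D.av (F.p 0) * z⁻¹) * (z * D.av (F.p 1) * z⁻¹) by group,
          ← D.av_smul z (F.Bp 0), ← D.av_smul z (F.Bp 1), z0.2 _ (F.hp 0), z1.2 _ (F.hp 1)]
      intro i
      have hzi : D.bit z (F.α i) = false := by
        fin_cases i
        · exact D.bit_false.mpr z0
        · exact D.bit_false.mpr z1
        · exact D.bit_false.mpr z2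
      rw [zb] at hzi
      revert hzi
      cases D.bit g (F.α i) <;> cases D.bit k (F.α i) <;> simp)
    (le_trans (card_image_le _ _) (le_of_eq (card_bool_fun 2)))
  have h3 := D.edge_le (F.hα 0).symm
  omega

end Frame

namespace Data

variable (D : Data X V)
include D

/-- The edge stabiliser has order at most `2 ^ 7`. -/
theorem card_edge (h2 : IsPGroup 2 (G X D.a ⊓ G X D.b : Subgroup X)) :
    Nat.card (G X D.a ⊓ G X D.b : Subgroup X) ≤ 2 ^ 7 := by
  obtain ⟨F, hm, hα⟩ := D.exists_frame D.B_b D.hab.symm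
  rw [← hm, ← hα]
  have hr2 := D.two_le
  rcases Nat.even_or_odd D.r with he | ho
  · rcases Nat.lt_or_ge D.r 6 with h6 | h6
    · have : D.r = 2 ∨ D.r = 4 := by obtain ⟨k, hk⟩ := he; omega
      rcases this with hr | hr
      · exact F.edge_le_eight (F.card_K_two h2 hr) 0
      · exact F.card_edge_four h2 hr
    · exact (D.false_of_six_le he h6).elim
  · have h3 := D.r_le_three_of_odd ho
    have hr : D.r = 3 := by obtain ⟨k, hk⟩ := ho; omega
    exact F.edge_le_eight (F.card_K_three h2 hr) 0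

end Data

end Cfsg.Agent.GoldRadius82
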