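import Cfsg.Agent.Lib.GoldRadius82Base

/-!
The involutions of vertices at distance two and four.
-/

set_option autoImplicit false
set_option linter.all false

namespace Cfsg.Agent.GoldRadius82

open Subgroup
open GoldschmidtS3 (G ker zedge)

variable {X V : Type*} [Group X] [MulAction X V]

/-- An element conjugating the generators of a finite subgroup into it normalises it. -/
theorem mem_normalizer_closure {S : Set X} [Finite (closure S : Subgroup X)] {g : X}
    (h : ∀ s ∈ S, g * s * g⁻¹ ∈ closure S) : g ∈ normalizer (closure S : Set X) := by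
  have hle : (closure S).map (MulAut.conj g).toMonoidHom ≤ closure S := by
    rw [MonoidHom.map_closure]
    exact (closure_le _).mpr (by rintro _ ⟨s, hs, rfl⟩; exact h s hs)
  have hcard : Nat.card ↥((closure S).map (MulAut.conj g).toMonoidHom) = Nat.card (closure S) :=
    (Nat.card_congr ((closure S).equivMapOfInjective _ (MulAut.conj g).injective).toEquiv).symm
  have heq := Subgroup.eq_of_le_of_card_ge hle hcard.ge
  refine mem_normalizer_iff.mpr fun y => ⟨fun hy => ?_, fun hy => ?_⟩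
  · rw [← heq]
    exact ⟨y, hy, rfl⟩
  · rw [← heq] at hy
    obtain ⟨z, hz, e⟩ := hy
    rwa [← (MulAut.conj g).injective e]

namespace Data

variable (D : Data X V)
include D

theorem finite_of_le {v : V} {N : Subgroup X} (h : N ≤ G X v) : Finite N := by
  haveI := D.fin v
  exact Finite.of_injective (Subgroup.inclusion h) (Subgroup.inclusion_injective h)

theorem K_finite {n : ℕ} (v : V) : Finite (K X D.Γ n v) :=
  D.finite_of_le fun g hg => GoldschmidtS3.mem_G.mpr (K_fix hg)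

theorem near {p : V} (hp : D.B p) {n : ℕ} (hn : n ≤ D.r) : D.av p ∈ K X D.Γ n p :=
  K_mono hn (D.av_ball hp)

theorem near1 {p α : V} (hp : D.B p) (h : D.Γ.Adj p α) : D.av p • α = α :=
  K_fix (K_step (n := 0) (D.near hp (le_trans (by omega) D.two_le)) h)

theorem near2 {p α m : V} (hp : D.B p) (h : D.Γ.Adj p α) (h' : D.Γ.Adj α m) : D.av p • m = m :=
  K_fix (K_step (n := 0) (K_step (D.near hp D.two_le) h) h')

theorem comm2 {p α m : V} (hp : D.B p) (hm : D.B m) (h : D.Γ.Adj p α) (h' : D.Γ.Adj α m) :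
    D.av p * D.av m = D.av m * D.av p := D.comm_of_fix hm (D.near2 hp h h')

theorem B_of_adj {α m : V} (h : D.Γ.Adj α m) (hm : D.B m) : ¬ D.B α :=
  fun ha => (D.B_adj h).mp ha hm

theorem B_adj_of {α p : V} (h : D.Γ.Adj α p) (ha : ¬ D.B α) : D.B p := by
  by_contra hp
  exact ha ((D.B_adj h).mpr hp)

theorem B_two {p α m : V} (h : D.Γ.Adj m α) (h' : D.Γ.Adj α p) (hm : D.B m) : D.B p :=
  D.B_adj_of h' (D.B_of_adj h.symm hm)

theorem mem_edge {p α m : V} (hp : D.B p) (h : D.Γ.Adj p α) (h' : D.Γ.Adj α m) :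
    D.av p ∈ G X α ⊓ G X m :=
  ⟨GoldschmidtS3.mem_G.mpr (D.near1 hp h), GoldschmidtS3.mem_G.mpr (D.near2 hp h h')⟩

/-- The three involutions around a vertex outside the orbit of `b` multiply to one. -/
theorem triple {α p q s : V} (ha : ¬ D.B α) (hp : D.Γ.Adj α p) (hq : D.Γ.Adj α q)
    (hs : D.Γ.Adj α s) (hpq : p ≠ q) (hps : p ≠ s) (hqs : q ≠ s) :
    D.av p * D.av q * D.av s = 1 := by
  have bp := D.B_adj_of hp ha
  have bq := D.B_adj_of hq ha
  have bs := D.B_adj_of hs ha
  have cpq := D.comm2 bp bq hp.symm hq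
  have cps := D.comm2 bp bs hp.symm hs
  have cqs := D.comm2 bq bs hq.symm hs
  set P := D.av p * D.av q * D.av s with hP
  have hconj : ∀ g : X, g * P * g⁻¹ = D.av (g • p) * D.av (g • q) * D.av (g • s) := by
    intro g
    rw [hP, D.av_smul g bp, D.av_smul g bq, D.av_smul g bs]; group
  have hH : G X α ≤ centralizer ({P} : Set X) := by
    obtain ⟨k, hk0, hkp, hkq⟩ := D.trans2 α p q s q hp hq hs hq hpq hqs.symm
    have hk0' := GoldschmidtS3.mem_G.mp hk0
    have hks : k • s = p := by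
      rcases D.pick hp hq hs (D.nbr_smul hk0' hs) hpq hps hqs with e | e | e
      · exact e
      · exact absurd (smul_left_cancel k (e.trans hkq.symm)) hqs.symm
      · exact absurd (smul_left_cancel k (e.trans hkp.symm)) hps.symm
    refine D.gen hp (fun t ht => ?_) hk0' (by rw [hkp]; exact hps.symm) ?_
    · rw [mem_centralizer_singleton_iff, ← mul_inv_eq_iff_eq_mul, hconj]
      have t0 := GoldschmidtS3.mem_G.mp ht.1
      have t1 := GoldschmidtS3.mem_G.mp ht.2
      by_cases htk : t ∈ (ker D.Γ α : Subgroup X)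
      · rw [htk.2 p hp, htk.2 q hq, htk.2 s hs]
      · rw [t1, D.move_eq hp hq hs hpq hps hqs t0 t1 htk,
          D.move_eq hp hs hq hps hpq hqs.symm t0 t1 htk, hP, mul_assoc, ← cqs, ← mul_assoc]
    · rw [mem_centralizer_singleton_iff, ← mul_inv_eq_iff_eq_mul, hconj, hkp, hkq, hks, hP,
        ← cqs, mul_assoc, ← cps, ← mul_assoc, ← cpq]
  have hz : P ∈ (zedge α p : Subgroup X) := by
    refine ⟨mul_mem (mul_mem ?_ (D.mem_edge bq hq.symm hp)) (D.mem_edge bs hs.symm hp), ?_,
      fun t ht => ((mem_centralizer_singleton_iff.mp (hH ht.1))).symm⟩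
    · exact ⟨GoldschmidtS3.mem_G.mpr (D.near1 bp hp.symm),
        GoldschmidtS3.mem_G.mpr (K_fix (D.near bp (le_refl D.r)))⟩
    · have h1 : Commute (D.av p) (D.av q) := cpq
      have h2 : Commute (D.av p * D.av q) (D.av s) := Commute.mul_left cps cqs
      rw [hP]
      calc D.av p * D.av q * D.av s * (D.av p * D.av q * D.av s)
          = D.av p * D.av q * (D.av s * (D.av p * D.av q)) * D.av s := by group
        _ = D.av p * D.av q * (D.av p * D.av q * D.av s) * D.av s := by rw [h2.symm.eq]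
        _ = D.av p * (D.av q * D.av p) * D.av q * (D.av s * D.av s) := by group
        _ = (D.av p * D.av p) * (D.av q * D.av q) * (D.av s * D.av s) := by rw [h1.symm.eq]; group
        _ = 1 := by rw [D.av_sq bp, D.av_sq bq, D.av_sq bs]; group
  exact D.eq_one_of_central hp bp hz fun g hg => mem_centralizer_singleton_iff.mp (hH hg)

theorem third {α p q s : V} (ha : ¬ D.B α) (hp : D.Γ.Adj α p) (hq : D.Γ.Adj α q)
    (hs : D.Γ.Adj α s) (hpq : p ≠ q) (hps : p ≠ s) (hqs : q ≠ s) :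
    D.av p * D.av q = D.av s := by
  have := D.triple ha hp hq hs hpq hps hqs
  rw [← mul_inv_eq_one, D.av_inv (D.B_adj_of hs ha)]
  exact this

theorem ne2 {α p q : V} (ha : ¬ D.B α) (hp : D.Γ.Adj α p) (hq : D.Γ.Adj α q) (hpq : p ≠ q) :
    D.av p ≠ D.av q := by
  intro e
  obtain ⟨s, hs, hps, hqs⟩ := D.exists_third hp hq hpq
  have := D.third ha hp hq hs hpq hps hqs
  rw [e, D.av_sq (D.B_adj_of hq ha)] at this
  exact D.av_ne (D.B_adj_of hs ha) this.symm

/-- The involutions of the neighbours of `α` lie in the group of two of them. -/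
theorem av_mem_pair {α p q x : V} (ha : ¬ D.B α) (hp : D.Γ.Adj α p) (hq : D.Γ.Adj α q)
    (hpq : p ≠ q) (hx : D.Γ.Adj α x) {N : Subgroup X} (h1 : D.av p ∈ N) (h2 : D.av q ∈ N) :
    D.av x ∈ N := by
  obtain ⟨s, hs, hps, hqs⟩ := D.exists_third hp hq hpq
  rcases D.pick hp hq hs hx hpq hps hqs with rfl | rfl | rfl
  · exact h1
  · exact h2
  · rw [← D.third ha hp hq hs hpq hps hqs]
    exact mul_mem h1 h2

theorem ne4 {m α α' p p' : V} (hm : D.B m) (h : D.Γ.Adj m α) (h' : D.Γ.Adj m α') (hne : α ≠ α')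
    (hp : D.Γ.Adj α p) (hp' : D.Γ.Adj α' p') (hpm : p ≠ m) (hp'm : p' ≠ m) :
    D.av p ≠ D.av p' := by
  intro e
  have ha := D.B_of_adj h.symm hm
  have ha' := D.B_of_adj h'.symm hm
  have bp := D.B_adj_of hp ha
  let S : Set X := {D.av m, D.av p}
  have hmN : D.av m ∈ closure S := subset_closure (Or.inl rfl)
  have hpN : D.av p ∈ closure S := subset_closure (Or.inr rfl)
  have hle : closure S ≤ G X α ⊓ G X m := (closure_le _).mpr (by
    rintro z (rfl | rfl)
    · exact ⟨GoldschmidtS3.mem_G.mpr (D.near1 hm h), GoldschmidtS3.mem_G.mpr (K_fix (D.near hm le_rfl))⟩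
    · exact D.mem_edge bp hp.symm h.symm)
  haveI : Finite (closure S : Subgroup X) := D.finite_of_le (hle.trans inf_le_left)
  have hall : ∀ x, D.Γ.Adj α x → D.av x ∈ closure S := fun x hx =>
    D.av_mem_pair ha h.symm hp hpm.symm hx hmN hpN
  have hN : ∀ g : X, g • α = α → g ∈ normalizer (closure S : Set X) := by
    intro g hg
    refine mem_normalizer_closure ?_
    rintro z (rfl | rfl)
    · rw [← D.av_smul g hm]; exact hall _ (D.nbr_smul hg h.symm)
    · rw [← D.av_smul g bp]; exact hall _ (D.nbr_smul hg hp)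
  obtain ⟨k, hk0, hk1, -⟩ := D.trans2 α m p p m h.symm hp hp h.symm hpm.symm hpm
  obtain ⟨l, hl0, hl1, -⟩ := D.trans2 m α α' α' α h h' h' h hne hne.symm
  have hl0' := GoldschmidtS3.mem_G.mp hl0
  have hlN : l ∈ normalizer (closure S : Set X) := by
    refine mem_normalizer_closure ?_
    rintro z (rfl | rfl)
    · rw [← D.av_smul l hm, hl0']; exact hmN
    · rw [← D.av_smul l bp]
      refine D.av_mem_pair ha' h'.symm hp' hp'm.symm ?_ hmN (e ▸ hpN)
      rw [← hl1]; exact D.adj_smul l hp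
  have hbot := D.no_normal h.symm hle (fun g hg => hN g (GoldschmidtS3.mem_G.mp hg.1))
    ⟨k, hN k (GoldschmidtS3.mem_G.mp hk0), GoldschmidtS3.mem_G.mp hk0, by rw [hk1]; exact hpm⟩
    ⟨l, hlN, hl0', by rw [hl1]; exact hne.symm⟩
  exact D.av_ne bp ((Subgroup.eq_bot_iff_forall _).mp hbot _ hpN)

/-- Some element of the kernel of `v` moves a neighbour of an adjacent vertex. -/
theorem exists_nbr_ker {δ μ : V} (hμ : D.Γ.Adj δ μ) :
    ∃ t ∈ (ker D.Γ μ : Subgroup X), t ∉ (ker D.Γ δ : Subgroup X) := by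
  by_contra hn
  push Not at hn
  obtain ⟨s, s0, s1, sk⟩ := D.exists_swap hμ
  have heq : ∀ q, q ∈ (ker D.Γ δ : Subgroup X) → q ∈ (ker D.Γ μ : Subgroup X) := by
    intro q hq
    by_contra hqn
    by_cases hsμ : s ∈ (ker D.Γ μ : Subgroup X)
    · exact sk (hn s hsμ)
    · have := hn _ (D.mul_ker hμ.symm (hq.2 μ hμ) hq.1 s1 s0 hqn hsμ)
      exact sk ((mul_mem_cancel_left hq).mp this)
  have nrm : ∀ {ν : V}, (∀ q, q ∈ (ker D.Γ δ : Subgroup X) → q ∈ (ker D.Γ ν : Subgroup X)) →
      (∀ q, q ∈ (ker D.Γ ν : Subgroup X) → q ∈ (ker D.Γ δ : Subgroup X)) →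
      G X ν ≤ normalizer ((ker D.Γ δ : Subgroup X) : Set X) := by
    intro ν h1 h2 g hg
    have key : ∀ g, g • ν = ν → ∀ q ∈ (ker D.Γ δ : Subgroup X),
        g * q * g⁻¹ ∈ (ker D.Γ δ : Subgroup X) := fun g hg q hq =>
      h2 _ (K_one.mp (D.K_normal hg (K_one.mpr (h1 q hq))))
    refine mem_normalizer_iff.mpr fun q => ⟨key g (GoldschmidtS3.mem_G.mp hg) q, fun hq => ?_⟩
    simpa [mul_assoc] using key g⁻¹ (GoldschmidtS3.mem_G.mp (inv_mem hg)) _ hq
  have hbot := D.faithful δ μ hμ (ker D.Γ δ) (GoldschmidtS3.ker_le_edge hμ)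
    (nrm (fun _ h => h) fun _ h => h) (nrm heq hn)
  exact sk (D.cent δ s (GoldschmidtS3.mem_G.mpr s0) fun q hq => by
    rw [hbot, mem_bot] at hq; rw [hq, mul_one, one_mul])

end Data

end Cfsg.Agent.GoldRadius82
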