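import Cfsg.Agent.Lib.GoldRadius82Near

/-!
An odd radius is at most three.
-/

set_option autoImplicit false
set_option linter.all false

namespace Cfsg.Agent.GoldRadius82

open Subgroup
open GoldschmidtS3 (G ker zedge)

variable {X V : Type*} [Group X] [MulAction X V]

namespace Data

variable (D : Data X V)
include D

/-- A moved path moves every shorter path with the same end. -/
theorem mv_same_end {k n : ℕ} (hk : k ≤ n) (hT : D.Tr k) {x u : ℕ → V} (hx : IsPath D.Γ x k)
    (hu : IsPath D.Γ u n) (hend : D.B (x k) ↔ D.B (u n)) (h : D.Mv u n) : D.Mv x k := by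
  obtain ⟨j, rfl⟩ : ∃ j, n = j + k := ⟨n - k, by omega⟩
  have hu' := hu.shift (k := j) (n := k)
  refine D.mv_of_mv hT hu' hx ?_ (D.mv_suffix h)
  have h1 := D.B_path hx k le_rfl
  have h2 := D.B_path hu' k le_rfl
  simp only [Nat.add_zero] at h2 ⊢
  tauto

/-- Moved paths of both end types give transitivity. -/
theorem tr_of_movers {N : ℕ} {u w : ℕ → V} {nu nw : ℕ} (hu : IsPath D.Γ u nu)
    (hw : IsPath D.Γ w nw) (hnu : N ≤ nu) (hnw : N ≤ nw) (hbu : D.B (u nu)) (hbw : ¬ D.B (w nw))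
    (mu : D.Mv u nu) (mw : D.Mv w nw) : ∀ k, 1 ≤ k → k ≤ N + 1 → D.Tr k := by
  intro k
  induction k with
  | zero => omega
  | succ k ih =>
    intro _ h2
    rcases Nat.eq_zero_or_pos k with rfl | hk
    · exact D.tr_one
    refine D.tr_succ hk (ih hk (by omega)) fun x hx => ?_
    by_cases hb : D.B (x k)
    · exact D.mv_same_end (by omega) (ih hk (by omega)) hx hu (iff_of_true hb hbu) mu
    · exact D.mv_same_end (by omega) (ih hk (by omega)) hx hw (iff_of_false hb hbw) mw

theorem B_of_even {x : ℕ → V} {n j : ℕ} (hp : IsPath D.Γ x n) (h0 : D.B (x 0)) (hj : j ≤ n)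
    (he : Even j) : D.B (x j) := (D.B_path hp j hj).mpr (iff_of_true h0 he)

theorem not_B_of_odd {x : ℕ → V} {n j : ℕ} (hp : IsPath D.Γ x n) (h0 : D.B (x 0)) (hj : j ≤ n)
    (ho : Odd j) : ¬ D.B (x j) := fun h =>
  (Nat.not_even_iff_odd.mpr ho) (((D.B_path hp j hj).mp h).mp h0)

/-- A critical path. -/
theorem exists_crit : ∃ x : ℕ → V, D.B (x 0) ∧ IsPath D.Γ x D.r ∧
    D.av (x 0) ∉ (ker D.Γ (x D.r) : Subgroup X) := by
  have hnot : D.c ∉ K X D.Γ (D.r + 1) D.b := fun h => D.c_ne (D.max_r D.c D.c_sq D.c_comm h)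
  obtain ⟨x, h0, hp, hk⟩ := exists_path D.c_ball hnot
  exact ⟨x, h0 ▸ D.B_b, hp, by rwa [h0, D.av_b]⟩

/-- The involution at the end of a path fixes all but the start. -/
theorem end_fix {x : ℕ → V} {n j : ℕ} (hp : IsPath D.Γ x n) (hn : D.B (x n)) (hj : j ≤ n)
    (h : n - j ≤ D.r) : D.av (x n) • x j = x j := by
  have := D.av_fix (v := x n) hn (x := fun i => x (n - i)) (j := n - j) (by simp) hp.reverse h
    (by omega)
  rwa [show n - (n - j) = j by omega] at this

theorem start_fix {x : ℕ → V} {n j : ℕ} (hp : IsPath D.Γ x n) (h0 : D.B (x 0)) (hj : j ≤ n)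
    (h : j ≤ D.r) : D.av (x 0) • x j = x j := D.av_fix h0 rfl hp h hj

/-- For odd radius, criticality is symmetric and the two middle involutions coincide. -/
theorem odd_rel (hodd : Odd D.r) {e : ℕ → V} (hp : IsPath D.Γ e (D.r + 1)) (h0 : D.B (e 0))
    (hk : D.av (e 0) ∉ (ker D.Γ (e D.r) : Subgroup X)) :
    D.av (e (D.r + 1)) • e 0 ≠ e 0 ∧ D.av (e 2) = D.av (e (D.r - 1)) := by
  have hr := D.two_le
  have hbe : D.B (e (D.r + 1)) := D.B_of_even hp h0 le_rfl (hodd.add_one)
  have hna : ¬ D.B (e D.r) := D.not_B_of_odd hp h0 (by omega) hodd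
  have hbm : D.B (e (D.r - 1)) := D.B_of_even hp h0 (by omega) (Nat.Odd.sub_odd hodd odd_one)
  have hadj1 : D.Γ.Adj (e D.r) (e (D.r - 1)) := by
    have := (hp.1 (D.r - 1) (by omega)).symm
    rwa [show D.r - 1 + 1 = D.r by omega] at this
  have hadj2 : D.Γ.Adj (e D.r) (e (D.r + 1)) := hp.1 D.r (by omega)
  have hne : e (D.r - 1) ≠ e (D.r + 1) := by
    have := hp.2 (D.r - 1) (by omega)
    rwa [show D.r - 1 + 2 = D.r + 1 by omega] at this
  obtain ⟨y', hy', hne1, hne2⟩ := D.exists_third hadj1 hadj2 hne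
  have hmv : D.av (e 0) • e (D.r + 1) = y' := D.move_eq hadj1 hadj2 hy' hne hne1 hne2
    (D.start_fix hp h0 (by omega) le_rfl) (D.start_fix hp h0 (by omega) (by omega)) hk
  have hc1 : D.av (e 0) * D.av (e (D.r + 1)) * D.av (e 0) = D.av y' := by
    rw [D.conj_av hbe h0, hmv]
  have hns : D.av (e (D.r + 1)) • e 0 ≠ e 0 := by
    intro hf
    have := D.comm_of_fix h0 hf
    rw [← this, mul_assoc, D.av_sq h0, mul_one] at hc1
    exact D.ne2 hna hadj2 hy' hne2 hc1
  refine ⟨hns, ?_⟩
  have hf1 : D.av (e (D.r + 1)) • e 1 = e 1 := D.end_fix hp hbe (by omega) (by omega)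
  have hf2 : D.av (e (D.r + 1)) • e 2 = e 2 := D.end_fix hp hbe (by omega) (by omega)
  have ha10 : D.Γ.Adj (e 1) (e 0) := (hp.1 0 (by omega)).symm
  have ha12 : D.Γ.Adj (e 1) (e 2) := hp.1 1 (by omega)
  have hn02 : e 0 ≠ e 2 := hp.2 0 (by omega)
  have hb1 : ¬ D.B (e 1) := D.not_B_of_odd hp h0 (by omega) odd_one
  obtain ⟨s, hs, hs1, hs2⟩ := D.exists_third ha12 ha10 hn02.symm
  have hk1 : D.av (e (D.r + 1)) ∉ (ker D.Γ (e 1) : Subgroup X) := fun h => hns (h.2 _ ha10)
  have hmv0 : D.av (e (D.r + 1)) • e 0 = s :=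
    D.move_eq ha12 ha10 hs hn02.symm hs1 hs2 hf1 hf2 hk1
  have hc0 : D.av (e (D.r + 1)) * D.av (e 0) * D.av (e (D.r + 1)) = D.av s := by
    rw [D.conj_av h0 hbe, hmv0]
  calc D.av (e 2) = D.av (e 0) * D.av s := (D.third hb1 ha10 hs ha12 hs2 hn02 hs1.symm).symm
    _ = D.av (e 0) * D.av (e (D.r + 1)) * D.av (e 0) * D.av (e (D.r + 1)) := by rw [← hc0]; group
    _ = D.av y' * D.av (e (D.r + 1)) := by rw [hc1]
    _ = D.av (e (D.r - 1)) := D.third hna hy' hadj2 hadj1 hne2.symm hne1.symm hne.symm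

theorem r_le_three_of_odd (hodd : Odd D.r) : D.r ≤ 3 := by
  by_contra hcon
  have hr5 : 5 ≤ D.r := by obtain ⟨k, hk⟩ := hodd; omega
  obtain ⟨x0, hb0, hp0, hk0⟩ := D.exists_crit
  obtain ⟨y, hy, hyn⟩ := D.exists_other
    (show D.Γ.Adj (x0 D.r) (x0 (D.r - 1)) by
      have := (hp0.1 (D.r - 1) (by omega)).symm
      rwa [show D.r - 1 + 1 = D.r by omega] at this)
  set x := snoc x0 (D.r + 1) y with hxdef
  have hp : IsPath D.Γ x (D.r + 1) := hp0.snoc hy fun i hi => by
    rw [show i = D.r - 1 by omega]; exact hyn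
  have hx0 : ∀ i, i ≤ D.r → x i = x0 i := fun i hi => snoc_lt (by omega)
  have hb : D.B (x 0) := by rwa [hx0 0 (by omega)]
  have hk : D.av (x 0) ∉ (ker D.Γ (x D.r) : Subgroup X) := by rwa [hx0 0 (by omega), hx0 _ le_rfl]
  clear_value x
  obtain ⟨hns, hrel⟩ := D.odd_rel hodd hp hb hk
  set t := D.av (x (D.r + 1)) with ht
  have hby : D.B (x (D.r + 1)) := D.B_of_even hp hb le_rfl hodd.add_one
  have hodd2 : Odd (D.r - 2) := by obtain ⟨k, hk⟩ := hodd; exact ⟨k - 1, by omega⟩
  -- the involutions two steps to the left fix the path far enough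
  have left : ∀ α z : V, D.Γ.Adj (x 0) α → α ≠ x 1 → D.Γ.Adj α z → z ≠ x 0 →
      t * D.av z * t ∈ closure ({D.av z, D.av (x 2)} : Set X) := by
    intro α z hα hα1 hz hz0
    have hp1 : IsPath D.Γ (cons α x) (D.r + 2) := hp.cons hα.symm fun _ => hα1
    have hp2 : IsPath D.Γ (cons z (cons α x)) (D.r + 3) := hp1.cons hz.symm fun _ => hz0
    set E := cons z (cons α x) with hE
    have hEx : ∀ i, E (i + 2) = x i := fun i => rfl
    have hbz : D.B (E 0) := D.B_two hα hz hb
    have hE1 := D.start_fix hp2 hbz (j := D.r) (by omega) le_rfl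
    have hfix1 : D.av z ∈ (ker D.Γ (E D.r) : Subgroup X) := by
      by_contra hc
      obtain ⟨-, h2⟩ := D.odd_rel hodd (hp2.mono (by omega)) hbz hc
      obtain ⟨i, hi⟩ : ∃ i, D.r - 1 = i + 2 := ⟨D.r - 3, by omega⟩
      rw [hi, hEx, show (2 : ℕ) = 0 + 2 from rfl, hEx] at h2
      apply hns
      have hbi : D.B (x i) := D.B_of_even hp hb (by omega) (by
        obtain ⟨k, hk⟩ := hodd; exact ⟨k - 1, by omega⟩)
      have hc1 : t * D.av (x i) = D.av (x i) * t :=
        D.comm_of_fix hbi (D.end_fix hp hby (by omega) (by omega))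
      rw [← h2] at hc1
      -- equal involutions at distance two would follow
      by_contra hne
      have hb1 : ¬ D.B (x 1) := D.not_B_of_odd hp hb (by omega) odd_one
      have ha : D.Γ.Adj (x 1) (x 0) := (hp.1 0 (by omega)).symm
      have hf : t • x 1 = x 1 := D.end_fix hp hby (by omega) (by omega)
      have heq : D.av (t • x 0) = D.av (x 0) := by
        rw [D.av_smul t hb, ht, D.av_inv hby, ← ht, hc1, mul_assoc, ht, D.av_sq hby, mul_one]
      exact D.ne2 hb1 (D.nbr_smul hf ha) ha hne heq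
    have hfr : D.av z • x (D.r - 1) = x (D.r - 1) := by
      have := hfix1.2 (E (D.r + 1)) (hp2.1 D.r (by omega))
      rwa [show D.r + 1 = (D.r - 1) + 2 by omega, hEx] at this
    by_cases hfix2 : D.av z ∈ (ker D.Γ (x (D.r - 1)) : Subgroup X)
    · have hfx : D.av z • x D.r = x D.r := by
        refine hfix2.2 _ ?_
        have := hp.1 (D.r - 1) (by omega)
        rwa [show D.r - 1 + 1 = D.r by omega] at this
      have hna : ¬ D.B (x D.r) := D.not_B_of_odd hp hb (by omega) hodd
      have hya : D.Γ.Adj (x D.r) (x (D.r + 1)) := hp.1 D.r (by omega)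
      have hxa : D.Γ.Adj (x D.r) (x (D.r - 1)) := by
        have := (hp.1 (D.r - 1) (by omega)).symm
        rwa [show D.r - 1 + 1 = D.r by omega] at this
      have hne : x (D.r - 1) ≠ x (D.r + 1) := by
        have := hp.2 (D.r - 1) (by omega)
        rwa [show D.r - 1 + 2 = D.r + 1 by omega] at this
      have hconj : D.av z * t * D.av z = D.av (D.av z • x (D.r + 1)) := D.conj_av hby hbz
      have hprod : D.av z * t * D.av z * t ∈ closure ({D.av z, D.av (x 2)} : Set X) := by
        rw [hconj]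
        by_cases hm : D.av z • x (D.r + 1) = x (D.r + 1)
        · rw [hm, ht, D.av_sq hby]; exact one_mem _
        · have hm' : D.av z • x (D.r + 1) ≠ x (D.r - 1) := fun e =>
            hne (smul_left_cancel _ (hfr.trans e.symm))
          rw [ht, D.third hna (D.nbr_smul hfx hya) hya hxa hm hm' hne.symm, ← hrel]
          exact subset_closure (Or.inr rfl)
      have : t * D.av z * t = D.av z * (D.av z * t * D.av z * t) := by
        rw [← mul_assoc, ← mul_assoc, ← mul_assoc, show D.av z * D.av z = 1 from D.av_sq hbz, one_mul]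
      rw [this]
      exact mul_mem (subset_closure (Or.inl rfl)) hprod
    · exfalso
      have hu : IsPath D.Γ E (D.r + 1) := hp2.mono (by omega)
      have hEend : E (D.r + 1) = x (D.r - 1) := by
        rw [show D.r + 1 = (D.r - 1) + 2 by omega, hEx]
      have mu : D.Mv E (D.r + 1) := by
        refine ⟨D.av z, fun i hi => ?_, by rwa [hEend]⟩
        rcases Nat.lt_or_eq_of_le hi with h | rfl
        · exact D.start_fix hp2 hbz (by omega) (by omega)
        · rw [hEend]; exact hfr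
      have mw : D.Mv x D.r := ⟨D.av (x 0), fun i hi => D.start_fix hp hb (by omega) hi, hk⟩
      have hbu : D.B (E (D.r + 1)) := D.B_of_even hu hbz le_rfl hodd.add_one
      have hbw : ¬ D.B (x D.r) := D.not_B_of_odd hp hb (by omega) hodd
      have hT := D.tr_of_movers hu (hp.mono (by omega)) (N := D.r) (by omega) le_rfl hbu hbw mu mw
      have hp4 : IsPath D.Γ (fun i => x (2 + i)) (D.r - 4) := IsPath.shift (hp.mono (by omega))
      obtain ⟨g, hg, hgn⟩ := D.mv_same_end (by omega) (hT (D.r - 4) (by omega) (by omega)) hp4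
        (hp.mono (Nat.le_succ _)) (iff_of_false (by
          show ¬ D.B (x (2 + (D.r - 4)))
          rw [show 2 + (D.r - 4) = D.r - 2 by omega]
          exact D.not_B_of_odd hp hb (by omega) hodd2) hbw) mw
      simp only [show 2 + (D.r - 4) = D.r - 2 by omega] at hgn
      have hg2 : g • x 2 = x 2 := by simpa using hg 0 (Nat.zero_le _)
      have hgr : g • x (D.r - 2) = x (D.r - 2) := by
        have := hg (D.r - 4) le_rfl
        simpa only [show 2 + (D.r - 4) = D.r - 2 by omega] using this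
      have hgr3 : g • x (D.r - 3) = x (D.r - 3) := by
        have := hg (D.r - 5) (by omega)
        simpa only [show 2 + (D.r - 5) = D.r - 3 by omega] using this
      have ha2 : D.Γ.Adj (x (D.r - 2)) (x (D.r - 3)) := by
        have := (hp.1 (D.r - 3) (by omega)).symm
        rwa [show D.r - 3 + 1 = D.r - 2 by omega] at this
      have ha3 : D.Γ.Adj (x (D.r - 2)) (x (D.r - 1)) := by
        have := hp.1 (D.r - 2) (by omega)
        rwa [show D.r - 2 + 1 = D.r - 1 by omega] at this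
      have hne : x (D.r - 3) ≠ x (D.r - 1) := by
        have := hp.2 (D.r - 3) (by omega)
        rwa [show D.r - 3 + 2 = D.r - 1 by omega] at this
      have hbm : D.B (x (D.r - 1)) := D.B_of_even hp hb (by omega) (Nat.Odd.sub_odd hodd odd_one)
      have hb2 : D.B (x 2) := D.B_of_even hp hb (by omega) even_two
      have hmoved := D.move ha2 ha3 hne hgr hgr3 hgn
      refine D.ne2 (D.not_B_of_odd hp hb (by omega) hodd2) (D.nbr_smul hgr ha3) ha3 hmoved ?_
      rw [D.av_smul g hbm, ← hrel, ← D.av_smul g hb2, hg2]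
  -- the group generated at distance two is normal at both ends
  let S : Set X := {u | ∃ α p, D.Γ.Adj (x 0) α ∧ D.Γ.Adj α p ∧ u = D.av p}
  have hle : closure S ≤ G X (x 0) ⊓ G X (x 1) := (closure_le _).mpr (by
    rintro u ⟨α, p, hα, hpα, rfl⟩
    have hbp : D.B p := D.B_two hα hpα hb
    refine ⟨GoldschmidtS3.mem_G.mpr (D.near2 hbp hpα.symm hα.symm), GoldschmidtS3.mem_G.mpr ?_⟩
    exact K_fix (K_step (n := 0) (K_step (K_step (D.near hbp (show 3 ≤ D.r by omega)) hpα.symm)
      hα.symm) (hp.1 0 (by omega))))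
  haveI : Finite (closure S : Subgroup X) := D.finite_of_le (hle.trans inf_le_left)
  have hN : ∀ g : X, g • x 0 = x 0 → g ∈ normalizer (closure S : Set X) := by
    intro g hg
    refine mem_normalizer_closure ?_
    rintro u ⟨α, p, hα, hpα, rfl⟩
    refine subset_closure ⟨g • α, g • p, D.nbr_smul hg hα, D.adj_smul g hpα, ?_⟩
    rw [D.av_smul g (D.B_two hα hpα hb)]
  have hf1 : t • x 1 = x 1 := D.end_fix hp hby (by omega) (by omega)
  have ha10 : D.Γ.Adj (x 1) (x 0) := (hp.1 0 (by omega)).symm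
  have h2S : D.av (x 2) ∈ closure S :=
    subset_closure ⟨x 1, x 2, ha10.symm, hp.1 1 (by omega), rfl⟩
  have hx1 : ∀ p, D.Γ.Adj (x 1) p → t * D.av p * t⁻¹ ∈ closure S := fun p hp' => by
    rw [← D.av_smul t (D.B_two ha10.symm hp' hb)]
    exact subset_closure ⟨x 1, t • p, ha10.symm, D.nbr_smul hf1 hp', rfl⟩
  have htN : t ∈ normalizer (closure S : Set X) := by
    refine mem_normalizer_closure ?_
    rintro u ⟨α, p, hα, hpα, rfl⟩
    by_cases h1 : α = x 1
    · exact hx1 p (h1 ▸ hpα)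
    by_cases h2 : p = x 0
    · exact h2 ▸ hx1 _ ha10
    rw [ht, D.av_inv hby, ← ht]
    have hle2 : closure ({D.av p, D.av (x 2)} : Set X) ≤ closure S := (closure_le _).mpr (by
      rintro v (rfl | rfl)
      · exact subset_closure ⟨α, p, hα, hpα, rfl⟩
      · exact h2S)
    exact hle2 (left α p hα h1 hpα h2)
  obtain ⟨α, hα, hα1⟩ := D.exists_other ha10.symm
  obtain ⟨k, hk0', hk1, -⟩ := D.trans2 (x 0) (x 1) α α (x 1) ha10.symm hα hα ha10.symm hα1.symm hα1
  have hbot := D.no_normal ha10.symm hle (fun g hg => hN g (GoldschmidtS3.mem_G.mp hg.1))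
    ⟨k, hN k (GoldschmidtS3.mem_G.mp hk0'), GoldschmidtS3.mem_G.mp hk0', by rw [hk1]; exact hα1⟩
    ⟨t, htN, hf1, hns⟩
  exact D.av_ne hb ((Subgroup.eq_bot_iff_forall _).mp hbot _
    (subset_closure ⟨x 1, x 0, ha10.symm, ha10, rfl⟩))

end Data

end Cfsg.Agent.GoldRadius82
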