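import Mathlib
import Cfsg.Prelude.Def_Amalgam
import Cfsg.Agent.Lib.LocGroup56

/-!
The coset graph of an amalgam pair: adjacency, transitivity, and the propagation lemma.
-/

set_option autoImplicit false
set_option linter.all false

namespace Cfsg.Agent.LocAmalgam56

open Subgroup Cfsg.Agent.LocGroup56

variable {X : Type*} [Group X] {M₁ M₂ : Subgroup X}

theorem adj_iff {a b : Cfsg.CosetVertex M₁ M₂} :
    (Cfsg.cosetGraph M₁ M₂).Adj a b ↔
      (∃ x : X, a = Sum.inl (x : X ⧸ M₁) ∧ b = Sum.inr (x : X ⧸ M₂)) ∨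
      (∃ x : X, b = Sum.inl (x : X ⧸ M₁) ∧ a = Sum.inr (x : X ⧸ M₂)) := by
  rw [Cfsg.cosetGraph, SimpleGraph.fromRel_adj]
  refine ⟨fun h => h.2, fun h => ⟨?_, h⟩⟩
  rcases h with ⟨x, rfl, rfl⟩ | ⟨x, rfl, rfl⟩ <;> simp

theorem adj_smul (g : X) {a b : Cfsg.CosetVertex M₁ M₂} (h : (Cfsg.cosetGraph M₁ M₂).Adj a b) :
    (Cfsg.cosetGraph M₁ M₂).Adj (g • a) (g • b) := by
  rw [adj_iff] at h ⊢
  rcases h with ⟨x, rfl, rfl⟩ | ⟨x, rfl, rfl⟩
  · exact Or.inl ⟨g * x, rfl, rfl⟩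
  · exact Or.inr ⟨g * x, rfl, rfl⟩

theorem neighbours_transitive {δ μ μ' : Cfsg.CosetVertex M₁ M₂}
    (hμ : (Cfsg.cosetGraph M₁ M₂).Adj δ μ) (hμ' : (Cfsg.cosetGraph M₁ M₂).Adj δ μ') :
    ∃ g ∈ MulAction.stabilizer X δ, g • μ = μ' := by
  rw [adj_iff] at hμ hμ'
  rcases hμ with ⟨x, rfl, rfl⟩ | ⟨x, rfl, rfl⟩ <;>
    rcases hμ' with ⟨y, hy, rfl⟩ | ⟨y, rfl, hy⟩ <;> simp only [Sum.inl.injEq, Sum.inr.injEq,
      reduceCtorEq] at hy
  · refine ⟨y * x⁻¹, ?_, ?_⟩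
    · rw [MulAction.mem_stabilizer_iff, Sum.smul_inl, MulAction.Quotient.smul_coe, smul_eq_mul,
        inv_mul_cancel_right, ← hy]
    · rw [Sum.smul_inr, MulAction.Quotient.smul_coe, smul_eq_mul, inv_mul_cancel_right]
  · refine ⟨y * x⁻¹, ?_, ?_⟩
    · rw [MulAction.mem_stabilizer_iff, Sum.smul_inr, MulAction.Quotient.smul_coe, smul_eq_mul,
        inv_mul_cancel_right, ← hy]
    · rw [Sum.smul_inl, MulAction.Quotient.smul_coe, smul_eq_mul, inv_mul_cancel_right]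

theorem connected (h : M₁ ⊔ M₂ = ⊤) : (Cfsg.cosetGraph M₁ M₂).Connected := by
  let a : Cfsg.CosetVertex M₁ M₂ := Sum.inl ((1 : X) : X ⧸ M₁)
  let b : Cfsg.CosetVertex M₁ M₂ := Sum.inr ((1 : X) : X ⧸ M₂)
  have hab : (Cfsg.cosetGraph M₁ M₂).Adj a b := adj_iff.mpr (Or.inl ⟨1, rfl, rfl⟩)
  have trans : ∀ (g : X) {u v : Cfsg.CosetVertex M₁ M₂}, (Cfsg.cosetGraph M₁ M₂).Reachable u v →
      (Cfsg.cosetGraph M₁ M₂).Reachable (g • u) (g • v) := by
    intro g u v huv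
    exact huv.map ⟨fun w => g • w, fun hw => adj_smul g hw⟩
  let H : Subgroup X :=
    { carrier := {g | (Cfsg.cosetGraph M₁ M₂).Reachable a (g • a)}
      one_mem' := by simp
      mul_mem' := fun {g k} hg hk => by
        have := trans g hk
        simp only [Set.mem_setOf_eq, mul_smul] at *
        exact hg.trans this
      inv_mem' := fun {g} hg => by
        have := trans g⁻¹ hg
        simp only [Set.mem_setOf_eq, inv_smul_smul] at *
        exact this.symm }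
  have h1 : M₁ ≤ H := fun g hg => by
    have : g • a = a := congrArg Sum.inl (QuotientGroup.eq.mpr (by simpa using inv_mem hg))
    show (Cfsg.cosetGraph M₁ M₂).Reachable a (g • a)
    rw [this]
  have h2 : M₂ ≤ H := fun g hg => by
    have : g • b = b := congrArg Sum.inr (QuotientGroup.eq.mpr (by simpa using inv_mem hg))
    have h2 := adj_smul g hab
    rw [this] at h2
    exact hab.reachable.trans h2.symm.reachable
  have hH : H = ⊤ := top_unique (h ▸ sup_le h1 h2)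
  have hall : ∀ g : X, (Cfsg.cosetGraph M₁ M₂).Reachable a (g • a) := fun g => by
    have : g ∈ H := hH ▸ Subgroup.mem_top g
    exact this
  haveI : Nonempty (Cfsg.CosetVertex M₁ M₂) := ⟨a⟩
  suffices ha : ∀ v, (Cfsg.cosetGraph M₁ M₂).Reachable a v from ⟨fun u v => (ha u).symm.trans (ha v)⟩
  rintro (v | v) <;> induction v using QuotientGroup.induction_on with
  | H g =>
    first
    | simpa [a] using hall g
    | exact ((hall g).trans (trans g hab.reachable)).trans (by simp [b])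

theorem fix_all_eq_bot (h : ∀ N : Subgroup X, N ≤ M₁ ⊓ M₂ → N.Normal → N = ⊥) (T : Subgroup X)
    (hT : ∀ v : Cfsg.CosetVertex M₁ M₂, T ≤ MulAction.stabilizer X v) : T = ⊥ := by
  let N := (MulAction.toPermHom X (Cfsg.CosetVertex M₁ M₂)).ker
  have hN : ∀ g, g ∈ N ↔ ∀ v : Cfsg.CosetVertex M₁ M₂, g • v = v := fun g => by
    simp [N, MonoidHom.mem_ker, Equiv.ext_iff]
  have hle : N ≤ M₁ ⊓ M₂ := fun g hg => by
    rw [hN] at hg
    constructor
    · have := hg (Sum.inl ((1 : X) : X ⧸ M₁))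
      rw [Sum.smul_inl, Sum.inl.injEq, MulAction.Quotient.smul_coe, smul_eq_mul, mul_one,
        QuotientGroup.eq, mul_one] at this
      exact (Subgroup.inv_mem_iff M₁).mp this
    · have := hg (Sum.inr ((1 : X) : X ⧸ M₂))
      rw [Sum.smul_inr, Sum.inr.injEq, MulAction.Quotient.smul_coe, smul_eq_mul, mul_one,
        QuotientGroup.eq, mul_one] at this
      exact (Subgroup.inv_mem_iff M₂).mp this
  have hb := h N hle (MonoidHom.normal_ker _)
  refine (Subgroup.eq_bot_iff_forall T).mpr fun t ht => ?_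
  have : t ∈ N := (hN t).mpr fun v => hT v ht
  rwa [hb, Subgroup.mem_bot] at this

/-- The propagation lemma: a subgroup fixing an edge and normalized by groups transitive on the
neighbours of both ends is trivial. -/
theorem normalized_edge_eq_bot (h : Cfsg.IsAmalgamPair M₁ M₂) {δ μ : Cfsg.CosetVertex M₁ M₂}
    (hμ : (Cfsg.cosetGraph M₁ M₂).Adj δ μ) (T : Subgroup X) (hT : T ≤ Cfsg.edgeStabilizer δ μ)
    (K : Subgroup X) (hK : K ≤ Subgroup.normalizer (T : Set X))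
    (hδ : ∀ ν ν', (Cfsg.cosetGraph M₁ M₂).Adj δ ν → (Cfsg.cosetGraph M₁ M₂).Adj δ ν' →
      ∃ g ∈ K, g • δ = δ ∧ g • ν = ν')
    (hμ' : ∀ ν ν', (Cfsg.cosetGraph M₁ M₂).Adj μ ν → (Cfsg.cosetGraph M₁ M₂).Adj μ ν' →
      ∃ g ∈ K, g • μ = μ ∧ g • ν = ν') : T = ⊥ := by
  let S : Set (Cfsg.CosetVertex M₁ M₂) := {v | ∃ k ∈ K, v = k • δ ∨ v = k • μ}
  have step : ∀ v w, v ∈ S → (Cfsg.cosetGraph M₁ M₂).Adj v w → w ∈ S := by
    rintro v w ⟨k, hk, hv⟩ hvw
    have h' := adj_smul k⁻¹ hvw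
    rcases hv with rfl | rfl <;> rw [inv_smul_smul] at h'
    · obtain ⟨g, hg, -, hgw⟩ := hδ μ _ hμ h'
      exact ⟨k * g, mul_mem hk hg, Or.inr (by rw [mul_smul, hgw, smul_inv_smul])⟩
    · obtain ⟨g, hg, -, hgw⟩ := hμ' δ _ hμ.symm h'
      exact ⟨k * g, mul_mem hk hg, Or.inl (by rw [mul_smul, hgw, smul_inv_smul])⟩
  have key : ∀ u v, (Cfsg.cosetGraph M₁ M₂).Walk u v → u ∈ S → v ∈ S := by
    intro u v w
    induction w with
    | nil => exact id
    | cons hadj _ ih => exact fun hu => ih (step _ _ hu hadj)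
  have all : ∀ v, v ∈ S := fun v => by
    obtain ⟨w⟩ := (connected h.1).preconnected δ v
    exact key _ _ w ⟨1, one_mem _, Or.inl (one_smul _ _).symm⟩
  refine fix_all_eq_bot h.2.2.2 T fun v t ht => ?_
  obtain ⟨k, hk, hv⟩ := all v
  have ht' : k⁻¹ * t * k ∈ T := by
    simpa using conj_mem_of_mem_normalizer (hK (inv_mem hk)) ht
  rw [MulAction.mem_stabilizer_iff]
  rcases hv with rfl | rfl
  · have := MulAction.mem_stabilizer_iff.mp (hT ht').1
    rwa [mul_smul, mul_smul, inv_smul_eq_iff] at this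
  · have := MulAction.mem_stabilizer_iff.mp (hT ht').2
    rwa [mul_smul, mul_smul, inv_smul_eq_iff] at this

/-- Every edge is a translate of the standard edge, possibly reversed. -/
theorem exists_base {a b : Cfsg.CosetVertex M₁ M₂} (h : (Cfsg.cosetGraph M₁ M₂).Adj a b) :
    ∃ x : X, (a = x • Sum.inl ((1 : X) : X ⧸ M₁) ∧ b = x • Sum.inr ((1 : X) : X ⧸ M₂)) ∨
      (b = x • Sum.inl ((1 : X) : X ⧸ M₁) ∧ a = x • Sum.inr ((1 : X) : X ⧸ M₂)) := by
  rcases adj_iff.mp h with ⟨x, rfl, rfl⟩ | ⟨x, rfl, rfl⟩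
  · exact ⟨x, Or.inl ⟨by simp, by simp⟩⟩
  · exact ⟨x, Or.inr ⟨by simp, by simp⟩⟩

end Cfsg.Agent.LocAmalgam56
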