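import Mathlib
import Cfsg.Prelude.Def_Amalgam
import Cfsg.Agent.Lib.LocGroup56
import Cfsg.Agent.Lib.LocAmalgam56

/-!
Amalgam pairs of characteristic `p`: vertex and edge data, `Q_δ`, `Z_δ` and critical pairs.
-/

set_option autoImplicit false
set_option linter.all false

namespace Cfsg.Agent.LocAmalgamCharP56

open Subgroup Cfsg.Agent.LocGroup56 Cfsg.Agent.LocAmalgam56

variable {X : Type*} [Group X] {M₁ M₂ : Subgroup X} {p : ℕ}

theorem stab_base_left :
    MulAction.stabilizer X (Sum.inl ((1 : X) : X ⧸ M₁) : Cfsg.CosetVertex M₁ M₂) = M₁ := by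
  ext g
  rw [MulAction.mem_stabilizer_iff, Sum.smul_inl, Sum.inl.injEq, MulAction.Quotient.smul_coe,
    smul_eq_mul, mul_one, QuotientGroup.eq, mul_one, Subgroup.inv_mem_iff]

theorem stab_base_right :
    MulAction.stabilizer X (Sum.inr ((1 : X) : X ⧸ M₂) : Cfsg.CosetVertex M₁ M₂) = M₂ := by
  ext g
  rw [MulAction.mem_stabilizer_iff, Sum.smul_inr, Sum.inr.injEq, MulAction.Quotient.smul_coe,
    smul_eq_mul, mul_one, QuotientGroup.eq, mul_one, Subgroup.inv_mem_iff]

theorem stab_smul {α : Type*} [MulAction X α] (x : X) (a : α) :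
    MulAction.stabilizer X (x • a) =
      (MulAction.stabilizer X a).map (MulAut.conj x).toMonoidHom :=
  MulAction.stabilizer_smul_eq_stabilizer_map_conj x a

/-- The data carried by every oriented edge of the coset graph of a characteristic `p` pair. -/
structure EdgeData (p : ℕ) (A B : Subgroup X) : Prop where
  finite : Finite A
  charP : Subgroup.centralizer (Cfsg.pCore p A : Set A) ≤ Cfsg.pCore p A
  factor : (Nat.card ↥(A ⊓ B)).factorization p = (Nat.card A).factorization p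

theorem EdgeData.map {A B : Subgroup X} (h : EdgeData p A B) (e : X ≃* X) :
    EdgeData p (A.map e.toMonoidHom) (B.map e.toMonoidHom) := by
  let f := A.equivMapOfInjective e.toMonoidHom e.injective
  refine ⟨?_, charP_equiv f h.charP, ?_⟩
  · haveI := h.finite
    exact Finite.of_equiv _ f.toEquiv
  · rw [← Subgroup.map_inf _ _ _ e.injective,
      ← Nat.card_congr ((A ⊓ B).equivMapOfInjective e.toMonoidHom e.injective).toEquiv,
      ← Nat.card_congr f.toEquiv]
    exact h.factor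

theorem edgeData [Fact p.Prime] (h : Cfsg.IsCharPAmalgamPair p M₁ M₂)
    {a b : Cfsg.CosetVertex M₁ M₂} (hab : (Cfsg.cosetGraph M₁ M₂).Adj a b) :
    EdgeData p (MulAction.stabilizer X a) (MulAction.stabilizer X b) := by
  obtain ⟨-, f1, f2, -, -, hS, c1, c2⟩ := h
  haveI : Finite ↥(M₁ ⊓ M₂) := Finite.of_injective _ (Subgroup.inclusion_injective inf_le_left)
  obtain ⟨S⟩ := (Sylow.nonempty : Nonempty (Sylow p ↥(M₁ ⊓ M₂)))
  obtain ⟨P₁⟩ := (Sylow.nonempty : Nonempty (Sylow p M₁))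
  obtain ⟨P₂⟩ := (Sylow.nonempty : Nonempty (Sylow p M₂))
  obtain ⟨e1, e2⟩ := hS S P₁ P₂
  rw [S.card_eq_multiplicity, P₁.card_eq_multiplicity] at e1
  rw [S.card_eq_multiplicity, P₂.card_eq_multiplicity] at e2
  have hp := (Fact.out : p.Prime)
  have q1 := Nat.pow_right_injective hp.two_le e1
  have q2 := Nat.pow_right_injective hp.two_le e2
  have d1 : EdgeData p M₁ M₂ := ⟨f1, c1, q1⟩
  have d2 : EdgeData p M₂ M₁ := ⟨f2, c2, by rw [inf_comm]; exact q2⟩
  obtain ⟨x, ⟨rfl, rfl⟩ | ⟨rfl, rfl⟩⟩ := exists_base hab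
  · rw [stab_smul, stab_smul, stab_base_left, stab_base_right]
    exact d1.map _
  · rw [stab_smul, stab_smul, stab_base_left, stab_base_right]
    exact d2.map _

theorem exists_adj (a : Cfsg.CosetVertex M₁ M₂) : ∃ b, (Cfsg.cosetGraph M₁ M₂).Adj a b := by
  rcases a with a | a <;> induction a using QuotientGroup.induction_on with
  | H g =>
    first
    | exact ⟨Sum.inr (g : X ⧸ M₂), adj_iff.mpr (Or.inl ⟨g, rfl, rfl⟩)⟩
    | exact ⟨Sum.inl (g : X ⧸ M₁), adj_iff.mpr (Or.inr ⟨g, rfl, rfl⟩)⟩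

theorem vertex_finite [Fact p.Prime] (h : Cfsg.IsCharPAmalgamPair p M₁ M₂)
    (a : Cfsg.CosetVertex M₁ M₂) : Finite (MulAction.stabilizer X a) :=
  (edgeData h (exists_adj a).choose_spec).finite

theorem vertex_charP [Fact p.Prime] (h : Cfsg.IsCharPAmalgamPair p M₁ M₂)
    (a : Cfsg.CosetVertex M₁ M₂) :
    Subgroup.centralizer (Cfsg.pCore p ↥(MulAction.stabilizer X a) : Set ↥(MulAction.stabilizer X a))
      ≤ Cfsg.pCore p ↥(MulAction.stabilizer X a) :=
  (edgeData h (exists_adj a).choose_spec).charP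

/-- A Sylow subgroup of the edge stabilizer is a Sylow subgroup of the vertex stabilizer. -/
theorem exists_sylow_of_edge [Fact p.Prime] (h : Cfsg.IsCharPAmalgamPair p M₁ M₂)
    {a b : Cfsg.CosetVertex M₁ M₂} (hab : (Cfsg.cosetGraph M₁ M₂).Adj a b)
    (S : Sylow p ↥(Cfsg.edgeStabilizer a b)) :
    ∃ P : Sylow p ↥(MulAction.stabilizer X a),
      (P : Subgroup ↥(MulAction.stabilizer X a)).map (MulAction.stabilizer X a).subtype =
        (S : Subgroup ↥(Cfsg.edgeStabilizer a b)).map (Cfsg.edgeStabilizer a b).subtype := by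
  haveI := vertex_finite h a
  haveI : Finite ↥(Cfsg.edgeStabilizer a b) :=
    Finite.of_injective _ (Subgroup.inclusion_injective inf_le_left)
  let i := Subgroup.inclusion (inf_le_left : Cfsg.edgeStabilizer a b ≤ MulAction.stabilizer X a)
  have hc : Nat.card ((S : Subgroup ↥(Cfsg.edgeStabilizer a b)).map i) =
      p ^ (Nat.card ↥(MulAction.stabilizer X a)).factorization p := by
    rw [← (edgeData h hab).factor, ← S.card_eq_multiplicity]
    exact (Nat.card_congr
      ((S : Subgroup _).equivMapOfInjective i (Subgroup.inclusion_injective _)).toEquiv).symm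
  refine ⟨Sylow.ofCard _ hc, ?_⟩
  rw [Sylow.coe_ofCard, Subgroup.map_map]
  rfl

/-- The same Sylow subgroup is also a Sylow subgroup of the other end of the edge. -/
theorem exists_sylow_of_edge_right [Fact p.Prime] (h : Cfsg.IsCharPAmalgamPair p M₁ M₂)
    {a b : Cfsg.CosetVertex M₁ M₂} (hab : (Cfsg.cosetGraph M₁ M₂).Adj a b)
    (S : Sylow p ↥(Cfsg.edgeStabilizer a b)) :
    ∃ P : Sylow p ↥(MulAction.stabilizer X b),
      (P : Subgroup ↥(MulAction.stabilizer X b)).map (MulAction.stabilizer X b).subtype =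
        (S : Subgroup ↥(Cfsg.edgeStabilizer a b)).map (Cfsg.edgeStabilizer a b).subtype := by
  haveI := vertex_finite h b
  haveI : Finite ↥(Cfsg.edgeStabilizer a b) :=
    Finite.of_injective _ (Subgroup.inclusion_injective inf_le_right)
  let i := Subgroup.inclusion (inf_le_right : Cfsg.edgeStabilizer a b ≤ MulAction.stabilizer X b)
  have hc : Nat.card ((S : Subgroup ↥(Cfsg.edgeStabilizer a b)).map i) =
      p ^ (Nat.card ↥(MulAction.stabilizer X b)).factorization p := by
    have e : (Nat.card ↥(Cfsg.edgeStabilizer a b)).factorization p =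
        (Nat.card ↥(MulAction.stabilizer X b)).factorization p := by
      have := (edgeData h hab.symm).factor
      rwa [inf_comm] at this
    rw [← e, ← S.card_eq_multiplicity]
    exact (Nat.card_congr
      ((S : Subgroup _).equivMapOfInjective i (Subgroup.inclusion_injective _)).toEquiv).symm
  refine ⟨Sylow.ofCard _ hc, ?_⟩
  rw [Sylow.coe_ofCard, Subgroup.map_map]
  rfl

theorem vertexQ_le_sylow {a : Cfsg.CosetVertex M₁ M₂}
    (P : Sylow p ↥(MulAction.stabilizer X a)) :
    Cfsg.vertexQ p a ≤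
      (P : Subgroup ↥(MulAction.stabilizer X a)).map (MulAction.stabilizer X a).subtype :=
  Subgroup.map_mono (pCore_le_sylow P)

theorem vertexQ_le_neighbourKernel [Fact p.Prime] (h : Cfsg.IsCharPAmalgamPair p M₁ M₂)
    (a : Cfsg.CosetVertex M₁ M₂) : Cfsg.vertexQ p a ≤ Cfsg.neighbourKernel a := by
  refine le_inf (Subgroup.map_subtype_le _) (le_iInf₂ fun b hb => ?_)
  haveI := vertex_finite h a
  obtain ⟨S⟩ := (Sylow.nonempty : Nonempty (Sylow p ↥(Cfsg.edgeStabilizer a b)))
  obtain ⟨P, hP⟩ := exists_sylow_of_edge h hb S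
  exact ((vertexQ_le_sylow P).trans hP.le).trans ((Subgroup.map_subtype_le _).trans inf_le_right)

theorem neighbourKernel_le {a b : Cfsg.CosetVertex M₁ M₂}
    (hab : (Cfsg.cosetGraph M₁ M₂).Adj a b) :
    Cfsg.neighbourKernel a ≤ MulAction.stabilizer X b :=
  inf_le_right.trans (iInf₂_le b hab)

theorem mem_vertexQ_of_centralizes [Fact p.Prime] (h : Cfsg.IsCharPAmalgamPair p M₁ M₂)
    (a : Cfsg.CosetVertex M₁ M₂) {x : X} (hx : x ∈ MulAction.stabilizer X a)
    (hc : ∀ y ∈ Cfsg.vertexQ p a, y * x = x * y) : x ∈ Cfsg.vertexQ p a := by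
  refine ⟨⟨x, hx⟩, vertex_charP h a (Subgroup.mem_centralizer_iff.mpr fun y hy => ?_), rfl⟩
  exact Subtype.ext (hc y ⟨y, hy, rfl⟩)

theorem omega_center_le_Q [Fact p.Prime] (h : Cfsg.IsCharPAmalgamPair p M₁ M₂)
    (a : Cfsg.CosetVertex M₁ M₂) (P : Sylow p ↥(MulAction.stabilizer X a)) :
    Cfsg.omegaOne p (((P : Subgroup _).map (MulAction.stabilizer X a).subtype) ⊓
      Subgroup.centralizer (((P : Subgroup _).map (MulAction.stabilizer X a).subtype : Subgroup X)
        : Set X)) ≤ Cfsg.vertexQ p a := by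
  refine (omegaOne_le p _).trans fun x hx => mem_vertexQ_of_centralizes h a ?_ fun y hy => ?_
  · exact Subgroup.map_subtype_le _ hx.1
  · exact Subgroup.mem_centralizer_iff.mp hx.2 y (vertexQ_le_sylow P hy)

theorem vertexZ_le_Q [Fact p.Prime] (h : Cfsg.IsCharPAmalgamPair p M₁ M₂)
    (a : Cfsg.CosetVertex M₁ M₂) : Cfsg.vertexZ p a ≤ Cfsg.vertexQ p a :=
  iSup_le (omega_center_le_Q h a)

theorem vertexZ_le_stab [Fact p.Prime] (h : Cfsg.IsCharPAmalgamPair p M₁ M₂)
    (a : Cfsg.CosetVertex M₁ M₂) : Cfsg.vertexZ p a ≤ MulAction.stabilizer X a :=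
  (vertexZ_le_Q h a).trans (Subgroup.map_subtype_le _)

theorem sylow_map_smul {H : Subgroup X} (g : H) (P : Sylow p H) :
    ((g • P : Sylow p H) : Subgroup H).map H.subtype =
      ((P : Subgroup H).map H.subtype).map (MulAut.conj (g : X)).toMonoidHom := by
  rw [Sylow.coe_subgroup_smul]
  ext x
  constructor
  · rintro ⟨y, hy, rfl⟩
    obtain ⟨z, hz, rfl⟩ := (Subgroup.mem_smul_pointwise_iff_exists _ _ _).mp hy
    exact ⟨z, ⟨z, hz, rfl⟩, by simp⟩
  · rintro ⟨_, ⟨z, hz, rfl⟩, rfl⟩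
    exact ⟨MulAut.conj g • z, (Subgroup.mem_smul_pointwise_iff_exists _ _ _).mpr ⟨z, hz, rfl⟩,
      by simp⟩

theorem omega_center_map (f : X ≃* X) (S : Subgroup X) :
    (Cfsg.omegaOne p (S ⊓ Subgroup.centralizer (S : Set X))).map f.toMonoidHom =
      Cfsg.omegaOne p (S.map f.toMonoidHom ⊓
        Subgroup.centralizer ((S.map f.toMonoidHom : Subgroup X) : Set X)) := by
  rw [omegaOne_map p _ f.injective, map_inf_centralizer _ f.injective]

theorem sylowCenterClosure_normalized (H : Subgroup X) :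
    H ≤ Subgroup.normalizer (Cfsg.sylowCenterClosure p H : Set X) := by
  have key : ∀ g ∈ H, ∀ x ∈ Cfsg.sylowCenterClosure p H,
      g * x * g⁻¹ ∈ Cfsg.sylowCenterClosure p H := by
    intro g hg x hx
    have hle : (Cfsg.sylowCenterClosure p H).map (MulAut.conj g).toMonoidHom ≤
        Cfsg.sylowCenterClosure p H := by
      rw [Cfsg.sylowCenterClosure, Subgroup.map_iSup]
      refine iSup_le fun P => ?_
      rw [omega_center_map]
      have := sylow_map_smul (⟨g, hg⟩ : H) P
      rw [← this]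
      exact le_iSup_of_le _ le_rfl
    exact hle ⟨x, hx, by simp⟩
  exact le_normalizer_of_conj key

theorem le_kernel_of_lt {a b : Cfsg.CosetVertex M₁ M₂}
    (hlt : (Cfsg.cosetGraph M₁ M₂).dist a b < Cfsg.criticalDistance p M₁ M₂) :
    Cfsg.vertexZ p a ≤ Cfsg.neighbourKernel b := by
  by_contra hn
  exact Nat.notMem_of_lt_sInf hlt ⟨a, b, rfl, hn⟩

/-- A neighbour of `a` one step closer to `b`. -/
theorem exists_step (h : M₁ ⊔ M₂ = ⊤) {a b : Cfsg.CosetVertex M₁ M₂} (hne : a ≠ b) :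
    ∃ c, (Cfsg.cosetGraph M₁ M₂).Adj a c ∧
      (Cfsg.cosetGraph M₁ M₂).dist c b < (Cfsg.cosetGraph M₁ M₂).dist a b := by
  obtain ⟨w, hw⟩ := (connected h).exists_walk_length_eq_dist a b
  cases w with
  | nil => exact absurd rfl hne
  | cons hadj q =>
    refine ⟨_, hadj, ?_⟩
    rw [← hw, SimpleGraph.Walk.length_cons]
    exact Nat.lt_succ_of_le (SimpleGraph.dist_le q)

theorem critical_ne [Fact p.Prime] (h : Cfsg.IsCharPAmalgamPair p M₁ M₂)
    {α α' : Cfsg.CosetVertex M₁ M₂} (hc : Cfsg.IsCriticalPair p α α') : α ≠ α' := by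
  rintro rfl
  exact hc.1 ((vertexZ_le_Q h α).trans (vertexQ_le_neighbourKernel h α))

end Cfsg.Agent.LocAmalgamCharP56
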