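import Cfsg.Agent.Lib.GoldRadius82Four
import Cfsg.Agent.Lib.GoldschmidtS3Iso
import Cfsg.Agent.Lib.LocAmalgamCharP56

/-!
A pair of finite subgroups with common Sylow 2-subgroup and residues `S₃`: the coset graph and the
bound `2 ^ 7` on the intersection.
-/

set_option autoImplicit false
set_option linter.all false

namespace Cfsg.Agent.GoldRadius82

open Subgroup
open GoldschmidtS3 (G ker zedge mem_G mem_G_smul)

/-- A subgroup of `P` of index three of `2`-power order and the core of index six. -/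
structure Side {Y : Type*} [Group Y] (P T : Subgroup Y) : Prop where
  le : T ≤ P
  two : IsPGroup 2 T
  idx : (T.subgroupOf P).index = 3
  core : (Cfsg.pCore 2 P).index = 6

theorem Side.sylow {Y : Type*} [Group Y] {P T : Subgroup Y} [Finite P] (h : Side P T) :
    ∃ S : Sylow 2 P, (S : Subgroup P) = T.subgroupOf P := by
  haveI : Fact (Nat.Prime 2) := ⟨Nat.prime_two⟩
  exact ⟨(h.two.of_equiv (subgroupOfEquivOfLe h.le).symm).toSylow (by rw [h.idx]; norm_num), rfl⟩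

/-- When the core of one side does not contain its centraliser, the intersection has order at most
sixteen. -/
theorem card_le_of_not_charP {Y : Type*} [Group Y] (M N T : Subgroup Y) [Finite M] [Finite N]
    (hM : Side M T) (hN : Side N T)
    (hnc : ¬ Subgroup.centralizer (Cfsg.pCore 2 M : Set M) ≤ Cfsg.pCore 2 M)
    (faith : ∀ K : Subgroup Y, K ≤ T → M ≤ normalizer (K : Set Y) → N ≤ normalizer (K : Set Y) →
      K = ⊥) : Nat.card T ≤ 2 ^ 7 := by
  classical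
  haveI : Fact (Nat.Prime 2) := ⟨Nat.prime_two⟩
  haveI : Fact (Nat.Prime 3) := ⟨Nat.prime_three⟩
  haveI : Finite T := Finite.of_injective _ (Subgroup.inclusion_injective hM.le)
  haveI : (Cfsg.pCore 2 M).Normal := Cfsg.pCore_normal 2 _
  set C := Subgroup.centralizer (Cfsg.pCore 2 M : Set M)
  obtain ⟨S, hS⟩ := hM.sylow
  obtain ⟨k, hk⟩ := (LocGroup56.pCore_isPGroup 2 M).exists_card_eq
  have hcM : Nat.card M = 2 ^ k * 6 := by
    rw [← (Cfsg.pCore 2 M).card_mul_index, hk, hM.core]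
  have h3C : 3 ∣ Nat.card C := by
    by_contra h3
    apply hnc
    refine LocGroup56.le_pCore inferInstance ?_
    have hd : Nat.card C ∣ 2 ^ (k + 1) * 3 := by
      have := C.card_subgroup_dvd_card
      rwa [hcM, show 2 ^ k * 6 = 2 ^ (k + 1) * 3 by rw [pow_succ]; ring] at this
    have := ((Nat.prime_three.coprime_iff_not_dvd.mpr h3).symm).dvd_of_dvd_mul_right hd
    obtain ⟨i, -, hi⟩ := (Nat.dvd_prime_pow Nat.prime_two).mp this
    exact IsPGroup.of_card hi
  obtain ⟨⟨x, hxC⟩, hx⟩ := exists_prime_orderOf_dvd_card' 3 h3C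
  rw [Subgroup.orderOf_mk] at hx
  have hgen : T.subgroupOf M ⊔ zpowers x = ⊤ := by
    refine Subgroup.eq_top_of_le_card _ (Nat.le_of_dvd Nat.card_pos ?_)
    have e : Nat.card M = Nat.card (T.subgroupOf M) * 3 := by
      rw [← hM.idx, (T.subgroupOf M).card_mul_index]
    rw [e]
    refine Nat.Coprime.mul_dvd_of_dvd_of_dvd ?_ (Subgroup.card_dvd_of_le le_sup_left) ?_
    · obtain ⟨i, hi⟩ := S.isPGroup'.exists_card_eq
      rw [← hS, hi]
      exact Nat.Coprime.pow_left _ (by norm_num)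
    · have := Subgroup.card_dvd_of_le (le_sup_right : zpowers x ≤ T.subgroupOf M ⊔ zpowers x)
      rwa [Nat.card_zpowers, hx] at this
  set Q : Subgroup Y := (Cfsg.pCore 2 M).map M.subtype with hQ
  have hQT : Q ≤ T := by
    rintro _ ⟨q, hq, rfl⟩
    have : q ∈ T.subgroupOf M := hS ▸ LocGroup56.pCore_le_sylow S hq
    exact this
  have hQN : Q ≤ N := hQT.trans hN.le
  set K : Subgroup Y := ((Q.subgroupOf N).normalCore).map N.subtype with hK
  have hKQ : K ≤ Q := by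
    rintro _ ⟨q, hq, rfl⟩
    exact (Subgroup.normalCore_le _ hq : q ∈ Q.subgroupOf N)
  have nN : N ≤ normalizer (K : Set Y) := LocGroup56.le_normalizer_of_conj fun g hg => by
    rintro _ ⟨q, hq, rfl⟩
    have hcj : (⟨g, hg⟩ : N) * q * (⟨g, hg⟩ : N)⁻¹ ∈ (Q.subgroupOf N).normalCore :=
      (Subgroup.normalCore_normal (Q.subgroupOf N)).conj_mem q hq ⟨g, hg⟩
    exact Subgroup.mem_map_of_mem N.subtype hcj
  have nM : M ≤ normalizer (K : Set Y) := by
    have : (⊤ : Subgroup M) ≤ (normalizer (K : Set Y)).comap M.subtype := by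
      rw [← hgen]
      refine sup_le (fun t ht => nN (hN.le ht)) ((zpowers_le).mpr ?_)
      have fixq : ∀ z ∈ K, (x : Y) * z = z * x := by
        intro z hz
        obtain ⟨q, hq, rfl⟩ := hKQ hz
        exact congrArg Subtype.val (mem_centralizer_iff.mp hxC q hq).symm
      refine LocGroup56.mem_normalizer_of_map_le (fun z hz => ?_) (fun z hz => ?_)
      · show (x : Y) * z * (x : Y)⁻¹ ∈ K
        rw [fixq z hz, mul_inv_cancel_right]; exact hz
      · show (x : Y)⁻¹ * z * (x : Y) ∈ K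
        rw [mul_assoc, ← fixq z hz, inv_mul_cancel_left]; exact hz
    exact fun g hg => this (mem_top (⟨g, hg⟩ : M))
  have hKbot : (Q.subgroupOf N).normalCore = ⊥ := by
    have := faith K (hKQ.trans hQT) nM nN
    rwa [hK, Subgroup.map_eq_bot_iff_of_injective _ N.subtype_injective] at this
  have hidx : (Q.subgroupOf N).index = 6 := by
    have h1 : Q.relIndex M = 6 := by
      rw [← hM.core]
      unfold Subgroup.relIndex
      rw [hQ, Subgroup.subgroupOf, Subgroup.comap_map_eq_self_of_injective M.subtype_injective]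
    have h2 := Subgroup.relIndex_mul_relIndex Q T M hQT hM.le
    have h3 := Subgroup.relIndex_mul_relIndex Q T N hQT hN.le
    rw [h1, show T.relIndex M = 3 from hM.idx] at h2
    rw [show T.relIndex N = 3 from hN.idx] at h3
    show Q.relIndex N = 6
    omega
  haveI : Finite (N ⧸ Q.subgroupOf N) := Nat.finite_of_card_ne_zero (by
    rw [← Subgroup.index_eq_card, hidx]; norm_num)
  have hdvd : Nat.card N ∣ 720 := by
    have hinj : Function.Injective (MulAction.toPermHom N (N ⧸ Q.subgroupOf N)) := by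
      rw [← MonoidHom.ker_eq_bot_iff, ← Subgroup.normalCore_eq_ker, hKbot]
    have := Subgroup.card_dvd_of_injective _ hinj
    rwa [Nat.card_perm, ← Subgroup.index_eq_card, hidx] at this
  have hT720 : Nat.card T ∣ 720 := (Subgroup.card_dvd_of_le hN.le).trans hdvd
  obtain ⟨i, hi⟩ := hM.two.exists_card_eq
  rw [hi] at hT720 ⊢
  have : (2 : ℕ) ^ i ∣ 16 * 45 := hT720
  have h16 := (Nat.Coprime.pow_left i (by norm_num : Nat.Coprime 2 45)).dvd_of_dvd_mul_right this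
  exact le_trans (Nat.le_of_dvd (by norm_num) h16) (by norm_num)

variable {X V : Type*} [Group X] [MulAction X V] {Γ : SimpleGraph V}

/-- The conditions at one vertex. -/
def Vertex (Γ : SimpleGraph V) (X : Type*) [Group X] [MulAction X V] (δ : V) : Prop :=
  Finite (G X δ) ∧
  (∀ μ : V, Γ.Adj δ μ → ∃ a a', Γ.Adj δ a ∧ Γ.Adj δ a' ∧ μ ≠ a ∧ μ ≠ a' ∧ a ≠ a' ∧
    ∀ ν, Γ.Adj δ ν → ν = μ ∨ ν = a ∨ ν = a') ∧
  (∀ μ ν μ' ν' : V, Γ.Adj δ μ → Γ.Adj δ ν → Γ.Adj δ μ' → Γ.Adj δ ν' → μ ≠ ν → μ' ≠ ν' →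
    ∃ g ∈ G X δ, g • μ = μ' ∧ g • ν = ν') ∧
  (∀ g ∈ G X δ, (∀ q ∈ (ker Γ δ : Subgroup X), g * q = q * g) → g ∈ ker Γ δ)

variable (hadj : ∀ (g : X) {a b : V}, Γ.Adj a b → Γ.Adj (g • a) (g • b))
include hadj

theorem kerConj {x g : X} {δ : V} (hg : g ∈ (ker Γ δ : Subgroup X)) :
    x * g * x⁻¹ ∈ (ker Γ (x • δ) : Subgroup X) := by
  refine ⟨by rw [mul_smul, inv_smul_smul, mul_smul, hg.1], fun μ hμ => ?_⟩
  have h1 := hadj x⁻¹ hμ
  rw [inv_smul_smul] at h1
  rw [mul_smul, mul_smul, hg.2 _ h1, smul_inv_smul]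

omit hadj in
theorem zedgeConj {x z : X} {δ μ : V} (hz : z ∈ (zedge δ μ : Subgroup X)) :
    x * z * x⁻¹ ∈ (zedge (x • δ) (x • μ) : Subgroup X) := by
  refine ⟨⟨(mem_G_smul δ).mpr hz.1.1, (mem_G_smul μ).mpr hz.1.2⟩, ?_, fun t ht => ?_⟩
  · rw [show x * z * x⁻¹ * (x * z * x⁻¹) = x * (z * z) * x⁻¹ by group, hz.2.1]; group
  · have e : x * (x⁻¹ * t * x) * x⁻¹ = t := by group
    have h1 : x⁻¹ * t * x ∈ G X δ ⊓ G X μ :=
      ⟨(mem_G_smul (g := x) δ).mp (by rw [e]; exact ht.1),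
        (mem_G_smul (g := x) μ).mp (by rw [e]; exact ht.2)⟩
    calc x * z * x⁻¹ * t = x * (z * (x⁻¹ * t * x)) * x⁻¹ := by group
      _ = x * (x⁻¹ * t * x * z) * x⁻¹ := by rw [hz.2.2 _ h1]
      _ = _ := by group

theorem vertex_smul (x : X) {δ : V} (h : Vertex Γ X δ) : Vertex Γ X (x • δ) := by
  obtain ⟨h1, h2, h3, h4⟩ := h
  have back : ∀ {μ : V}, Γ.Adj (x • δ) μ → Γ.Adj δ (x⁻¹ • μ) := fun hμ => by
    have := hadj x⁻¹ hμ; rwa [inv_smul_smul] at this
  refine ⟨?_, fun μ hμ => ?_, fun μ ν μ' ν' hμ hν hμ' hν' hne hne' => ?_, fun g hg hc => ?_⟩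
  · have e : G X (x • δ) = (G X δ).map (MulAut.conj x).toMonoidHom :=
      MulAction.stabilizer_smul_eq_stabilizer_map_conj x δ
    rw [e]
    exact Finite.of_equiv _ ((G X δ).equivMapOfInjective _ (MulAut.conj x).injective).toEquiv
  · obtain ⟨a, a', ha, ha', n1, n2, n3, hall⟩ := h2 _ (back hμ)
    refine ⟨x • a, x • a', hadj x ha, hadj x ha', fun e => n1 (by rw [e, inv_smul_smul]),
      fun e => n2 (by rw [e, inv_smul_smul]), fun e => n3 (smul_left_cancel x e), fun ν hν => ?_⟩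
    rcases hall _ (back hν) with e | e | e
    · exact Or.inl (smul_left_cancel x⁻¹ e)
    · exact Or.inr (Or.inl (by rw [← e, smul_inv_smul]))
    · exact Or.inr (Or.inr (by rw [← e, smul_inv_smul]))
  · obtain ⟨g, hg, e1, e2⟩ := h3 _ _ _ _ (back hμ) (back hν) (back hμ') (back hν')
      (fun e => hne (smul_left_cancel _ e)) (fun e => hne' (smul_left_cancel _ e))
    exact ⟨x * g * x⁻¹, (mem_G_smul δ).mpr hg, by rw [mul_smul, mul_smul, e1, smul_inv_smul],
      by rw [mul_smul, mul_smul, e2, smul_inv_smul]⟩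
  · have e : x * (x⁻¹ * g * x) * x⁻¹ = g := by group
    have := h4 (x⁻¹ * g * x) ((mem_G_smul (g := x) δ).mp (by rw [e]; exact hg)) fun q hq => by
      calc x⁻¹ * g * x * q = x⁻¹ * (g * (x * q * x⁻¹)) * x := by group
        _ = x⁻¹ * (x * q * x⁻¹ * g) * x := by rw [hc _ (kerConj hadj hq)]
        _ = _ := by group
    have := kerConj hadj (x := x) this
    rwa [e] at this

/-- The conditions at the base vertex. -/
theorem vertex_base {a b : V} (hab : Γ.Adj a b)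
    (htr : ∀ μ, Γ.Adj a μ → ∃ g ∈ G X a, g • b = μ) (P T : Subgroup X) [Finite P]
    (hP : G X a = P) (hT : G X a ⊓ G X b = T) (hs : Side P T)
    (h1 : Subgroup.centralizer (Cfsg.pCore 2 P : Set P) ≤ Cfsg.pCore 2 P) :
    Vertex Γ X a := by
  classical
  obtain ⟨S, hS⟩ := hs.sylow
  subst hP
  haveI hfin : Finite (G X a) := inferInstance
  haveI : (Cfsg.pCore 2 (G X a)).Normal := Cfsg.pCore_normal 2 _
  let N := {ν : V // Γ.Adj a ν}
  let act : G X a → N → N := fun g ν => ⟨(g : X) • (ν : V), by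
    have := hadj (g : X) ν.2
    rwa [mem_G.mp g.2] at this⟩
  let φ : G X a →* Equiv.Perm N :=
    { toFun := fun g =>
        { toFun := act g
          invFun := act g⁻¹
          left_inv := fun ν => Subtype.ext (inv_smul_smul (g : X) (ν : V))
          right_inv := fun ν => Subtype.ext (smul_inv_smul (g : X) (ν : V)) }
      map_one' := Equiv.ext fun ν => Subtype.ext (one_smul X (ν : V))
      map_mul' := fun g g' => Equiv.ext fun ν => Subtype.ext (mul_smul (g : X) (g' : X) (ν : V)) }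
  have hφ : ∀ (g : G X a) (ν : N), ((φ g ν : N) : V) = (g : X) • (ν : V) := fun _ _ => rfl
  let T0 := (S : Subgroup (G X a))
  have hT0 : ∀ g : G X a, g ∈ T0 ↔ (g : X) • b = b := by
    intro g
    show g ∈ (S : Subgroup (G X a)) ↔ _
    rw [hS, mem_subgroupOf, ← hT, Subgroup.mem_inf, mem_G (δ := b)]
    exact ⟨fun h => h.2, fun h => ⟨g.2, h⟩⟩
  let f : G X a ⧸ T0 → N := Quotient.lift (fun g => φ g ⟨b, hab⟩) (fun g g' hgg => by
    apply Subtype.ext
    rw [hφ, hφ]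
    have := (hT0 _).mp (QuotientGroup.leftRel_apply.mp hgg)
    rw [Subgroup.coe_mul, Subgroup.coe_inv, mul_smul, inv_smul_eq_iff] at this
    exact this.symm)
  have hf : Function.Bijective f := by
    constructor
    · intro u v
      obtain ⟨g, rfl⟩ := QuotientGroup.mk_surjective u
      obtain ⟨g', rfl⟩ := QuotientGroup.mk_surjective v
      intro e
      have e' : (g : X) • b = (g' : X) • b := congrArg Subtype.val e
      refine QuotientGroup.eq.mpr ((hT0 _).mpr ?_)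
      rw [Subgroup.coe_mul, Subgroup.coe_inv, mul_smul, ← e', inv_smul_smul]
    · rintro ⟨μ, hμ⟩
      obtain ⟨g, hg, e⟩ := htr μ hμ
      exact ⟨QuotientGroup.mk ⟨g, hg⟩, Subtype.ext e⟩
  have hker : φ.ker = Cfsg.pCore 2 (G X a) := by
    apply le_antisymm
    · refine LocGroup56.le_pCore (MonoidHom.normal_ker φ) ?_
      refine S.isPGroup'.to_le fun g hg => (hT0 g).mpr ?_
      exact congrArg Subtype.val (DFunLike.congr_fun (MonoidHom.mem_ker.mp hg) ⟨b, hab⟩)
    · intro q hq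
      rw [MonoidHom.mem_ker]
      refine Equiv.ext fun ν => Subtype.ext ?_
      obtain ⟨g, hg, e⟩ := htr ν.1 ν.2
      have hc := (inferInstance : (Cfsg.pCore 2 (G X a)).Normal).conj_mem q hq ⟨g⁻¹, inv_mem hg⟩
      have h := (hT0 _).mp (LocGroup56.pCore_le_sylow S hc)
      simp only [Subgroup.coe_mul, Subgroup.coe_inv, inv_inv, mul_smul, inv_smul_eq_iff] at h
      rw [hφ]
      show (q : X) • (ν : V) = (ν : V)
      rw [← e]; exact h
  have hq6 : Nat.card (G X a ⧸ Cfsg.pCore 2 (G X a)) = 6 := by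
    rw [← Subgroup.index_eq_card, hs.core]
  have hN3 : Nat.card N = 3 := by
    rw [← Nat.card_congr (Equiv.ofBijective f hf), ← Subgroup.index_eq_card]
    show (S : Subgroup (G X a)).index = 3
    rw [hS, hs.idx]
  have hN : Finite N := Nat.finite_of_card_ne_zero (by omega)
  let eN : N ≃ Fin 3 := (Finite.equivFin N).trans (finCongr hN3)
  have hsurj : Function.Surjective φ := by
    have h1 : Nat.card φ.range = 6 := by
      rw [← Nat.card_congr (QuotientGroup.quotientKerEquivRange φ).toEquiv]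
      rw [← hq6]; exact Nat.card_congr (QuotientGroup.quotientMulEquivOfEq hker).toEquiv
    rw [← MonoidHom.range_eq_top]
    exact Subgroup.eq_top_of_card_eq _ (by rw [h1, Nat.card_perm, hN3]; rfl)
  have hkerX : ∀ g : G X a, g ∈ Cfsg.pCore 2 (G X a) ↔ (g : X) ∈ (ker Γ a : Subgroup X) := by
    intro g
    rw [← hker, MonoidHom.mem_ker]
    refine ⟨fun h => ⟨mem_G.mp g.2, fun μ hμ => congrArg Subtype.val (DFunLike.congr_fun h ⟨μ, hμ⟩)⟩,
      fun h => Equiv.ext fun ν => Subtype.ext (h.2 ν.1 ν.2)⟩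
  refine ⟨hfin, fun μ hμ => ?_, fun μ ν μ' ν' hμ hν hμ' hν' hne hne' => ?_, fun g hg hc => ?_⟩
  · have key : ∀ i j : Fin 3, i ≠ i + 1 ∧ i ≠ i + 2 ∧ i + 1 ≠ i + 2 ∧
        (j = i ∨ j = i + 1 ∨ j = i + 2) := by decide
    set i := eN ⟨μ, hμ⟩ with hi
    refine ⟨(eN.symm (i + 1)).1, (eN.symm (i + 2)).1, (eN.symm (i + 1)).2, (eN.symm (i + 2)).2,
      fun e => ?_, fun e => ?_, fun e => ?_, fun ν hν => ?_⟩
    · apply (key i i).1
      exact (congrArg eN (show (⟨μ, hμ⟩ : N) = eN.symm (i + 1) from Subtype.ext e)).trans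
        (Equiv.apply_symm_apply _ _)
    · apply (key i i).2.1
      exact (congrArg eN (show (⟨μ, hμ⟩ : N) = eN.symm (i + 2) from Subtype.ext e)).trans
        (Equiv.apply_symm_apply _ _)
    · exact (key i i).2.2.1 (eN.symm.injective (Subtype.ext e))
    · rcases (key i (eN ⟨ν, hν⟩)).2.2.2 with e | e | e
      · exact Or.inl (congrArg Subtype.val (eN.injective e))
      · exact Or.inr (Or.inl (by rw [← e, Equiv.symm_apply_apply]))
      · exact Or.inr (Or.inr (by rw [← e, Equiv.symm_apply_apply]))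
  · let u : N := ⟨μ, hμ⟩
    let u' : N := ⟨μ', hμ'⟩
    let v : N := ⟨ν, hν⟩
    let v' : N := ⟨ν', hν'⟩
    obtain ⟨g, hg⟩ := hsurj (Equiv.swap (Equiv.swap u u' v) v' * Equiv.swap u u')
    refine ⟨g, g.2, ?_, ?_⟩
    · have h1 : (Equiv.swap (Equiv.swap u u' v) v' * Equiv.swap u u') u = u' := by
        rw [Equiv.Perm.mul_apply, Equiv.swap_apply_left]
        refine Equiv.swap_apply_of_ne_of_ne (fun e => ?_) (fun e => hne' (congrArg Subtype.val e))
        rw [eq_comm, Equiv.apply_eq_iff_eq_symm_apply, Equiv.symm_swap,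
          Equiv.swap_apply_right] at e
        exact hne (congrArg Subtype.val e).symm
      rw [← hg] at h1
      exact congrArg Subtype.val h1
    · have h1 : (Equiv.swap (Equiv.swap u u' v) v' * Equiv.swap u u') v = v' := by
        rw [Equiv.Perm.mul_apply, Equiv.swap_apply_left]
      rw [← hg] at h1
      exact congrArg Subtype.val h1
  · exact (hkerX ⟨g, hg⟩).mp (h1 (mem_centralizer_iff.mpr fun q hq =>
      Subtype.ext (hc _ ((hkerX q).mp hq)).symm))

omit hadj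

section

variable {Y : Type*} [Group Y] (P₁ P₂ : Subgroup Y) [Finite P₁] [Finite P₂]

/-- The vertex conditions everywhere and faithfulness. -/
theorem graph_base (hs₁ : Side P₁ (P₁ ⊓ P₂)) (hs₂ : Side P₂ (P₁ ⊓ P₂))
    (hc₁ : Subgroup.centralizer (Cfsg.pCore 2 P₁ : Set P₁) ≤ Cfsg.pCore 2 P₁)
    (hc₂ : Subgroup.centralizer (Cfsg.pCore 2 P₂ : Set P₂) ≤ Cfsg.pCore 2 P₂)
    (faith : ∀ N : Subgroup Y, N ≤ P₁ ⊓ P₂ → P₁ ≤ normalizer (N : Set Y) →
      P₂ ≤ normalizer (N : Set Y) → N = ⊥) :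
    (∀ v, Vertex (Cfsg.cosetGraph P₁ P₂) Y v) ∧
      ∀ δ μ, (Cfsg.cosetGraph P₁ P₂).Adj δ μ → ∀ N : Subgroup Y,
        N ≤ G Y δ ⊓ G Y μ → G Y δ ≤ normalizer (N : Set Y) → G Y μ ≤ normalizer (N : Set Y) →
          N = ⊥ := by
  let Γ := Cfsg.cosetGraph P₁ P₂
  let a : Cfsg.CosetVertex P₁ P₂ := Sum.inl ((1 : Y) : Y ⧸ P₁)
  let b : Cfsg.CosetVertex P₁ P₂ := Sum.inr ((1 : Y) : Y ⧸ P₂)
  have hab : Γ.Adj a b := LocAmalgam56.adj_iff.mpr (Or.inl ⟨1, rfl, rfl⟩)
  have ea : G Y a = P₁ := LocAmalgamCharP56.stab_base_left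
  have eb : G Y b = P₂ := LocAmalgamCharP56.stab_base_right
  have hadj : ∀ (g : Y) {u v : Cfsg.CosetVertex P₁ P₂}, Γ.Adj u v → Γ.Adj (g • u) (g • v) :=
    fun g => fun {u v} => LocAmalgam56.adj_smul g
  have va : Vertex Γ Y a := vertex_base hadj hab
    (fun μ hμ => LocAmalgam56.neighbours_transitive hab hμ) P₁ _ ea (by rw [ea, eb]) hs₁ hc₁
  have vb : Vertex Γ Y b := vertex_base hadj hab.symm
    (fun μ hμ => LocAmalgam56.neighbours_transitive hab.symm hμ) P₂ _ eb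
    (by rw [ea, eb, inf_comm]) hs₂ hc₂
  refine ⟨?_, ?_⟩
  · rintro (v | v) <;> induction v using QuotientGroup.induction_on with
    | H x =>
      first
      | (have := vertex_smul hadj x va; simpa [a] using this)
      | (have := vertex_smul hadj x vb; simpa [b] using this)
  intro δ μ hδμ N hle n1 n2
  obtain ⟨x, hx⟩ := LocAmalgam56.exists_base hδμ
  let N' : Subgroup Y := N.comap (MulAut.conj x).toMonoidHom
  have mem' : ∀ w, w ∈ N' ↔ x * w * x⁻¹ ∈ N := fun w => Iff.rfl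
  have hn : ∀ v : Cfsg.CosetVertex P₁ P₂, G Y (x • v) ≤ normalizer (N : Set Y) →
      G Y v ≤ normalizer (N' : Set Y) := by
    intro v hv g hg
    refine mem_normalizer_iff.mpr fun w => ?_
    rw [mem', mem', show x * (g * w * g⁻¹) * x⁻¹ =
      (x * g * x⁻¹) * (x * w * x⁻¹) * (x * g * x⁻¹)⁻¹ by group]
    exact mem_normalizer_iff.mp (hv ((mem_G_smul v).mpr hg)) _
  have hl : ∀ v : Cfsg.CosetVertex P₁ P₂, N ≤ G Y (x • v) → N' ≤ G Y v := fun v hv w hw =>
    (mem_G_smul v).mp (hv hw)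
  have hbot : N' = ⊥ := by
    rcases hx with ⟨rfl, rfl⟩ | ⟨rfl, rfl⟩
    · exact faith N' (le_inf (ea ▸ hl a (hle.trans inf_le_left)) (eb ▸ hl b (hle.trans inf_le_right)))
        (ea ▸ hn a n1) (eb ▸ hn b n2)
    · exact faith N' (le_inf (ea ▸ hl a (hle.trans inf_le_right)) (eb ▸ hl b (hle.trans inf_le_left)))
        (ea ▸ hn a n2) (eb ▸ hn b n1)
  refine (Subgroup.eq_bot_iff_forall N).mpr fun w hw => ?_
  have h' : x⁻¹ * w * x ∈ N' := by
    rw [mem', show x * (x⁻¹ * w * x) * x⁻¹ = w by group]; exact hw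
  rw [hbot, Subgroup.mem_bot] at h'
  calc w = x * (x⁻¹ * w * x) * x⁻¹ := by group
    _ = 1 := by rw [h']; group

/-- A side centralises the central involutions of the intersection. -/
def Central (P T : Subgroup Y) : Prop :=
  ∀ z ∈ T, z * z = 1 → (∀ t ∈ T, z * t = t * z) → ∀ g ∈ P, g * z = z * g

variable (hgen : P₁ ⊔ P₂ = ⊤) (hs₁ : Side P₁ (P₁ ⊓ P₂)) (hs₂ : Side P₂ (P₁ ⊓ P₂))
  (hc₁ : Subgroup.centralizer (Cfsg.pCore 2 P₁ : Set P₁) ≤ Cfsg.pCore 2 P₁)
  (hc₂ : Subgroup.centralizer (Cfsg.pCore 2 P₂ : Set P₂) ≤ Cfsg.pCore 2 P₂)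
  (faith : ∀ N : Subgroup Y, N ≤ P₁ ⊓ P₂ → P₁ ≤ normalizer (N : Set Y) →
    P₂ ≤ normalizer (N : Set Y) → N = ⊥)
include hgen hs₁ hs₂ hc₁ hc₂ faith

theorem card_le_of_central (hcz : Central P₂ (P₁ ⊓ P₂)) :
    Nat.card (P₁ ⊓ P₂ : Subgroup Y) ≤ 2 ^ 7 := by
  classical
  haveI : Fact (Nat.Prime 2) := ⟨Nat.prime_two⟩
  obtain ⟨vall, hfaith⟩ := graph_base P₁ P₂ hs₁ hs₂ hc₁ hc₂ faith
  let Γ := Cfsg.cosetGraph P₁ P₂
  let a : Cfsg.CosetVertex P₁ P₂ := Sum.inl ((1 : Y) : Y ⧸ P₁)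
  let b : Cfsg.CosetVertex P₁ P₂ := Sum.inr ((1 : Y) : Y ⧸ P₂)
  have hab : Γ.Adj a b := LocAmalgam56.adj_iff.mpr (Or.inl ⟨1, rfl, rfl⟩)
  have ea : G Y a = P₁ := LocAmalgamCharP56.stab_base_left
  have eb : G Y b = P₂ := LocAmalgamCharP56.stab_base_right
  set T := P₁ ⊓ P₂ with hTdef
  haveI : Finite T := Finite.of_injective _ (Subgroup.inclusion_injective inf_le_left)
  haveI : Finite (G Y b) := (vall b).1
  by_cases hT1 : T = ⊥
  · rw [hT1, Subgroup.card_bot]; norm_num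
  -- an involution in the centre of the intersection
  haveI : Nontrivial T := (Subgroup.nontrivial_iff_ne_bot T).mpr hT1
  haveI := hs₁.two.center_nontrivial
  obtain ⟨n, hn, hc⟩ := (hs₁.two.to_subgroup (Subgroup.center T)).nontrivial_iff_card.mp ‹_›
  obtain ⟨⟨⟨z0, z0T⟩, z0c⟩, hz0⟩ :=
    exists_prime_orderOf_dvd_card' 2 (G := Subgroup.center T) (hc ▸ dvd_pow_self 2 hn.ne')
  rw [Subgroup.orderOf_mk, Subgroup.orderOf_mk] at hz0
  have z0sq : z0 * z0 = 1 := by rw [← pow_two, ← hz0, pow_orderOf_eq_one]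
  have z0ne : z0 ≠ 1 := fun e => by rw [e, orderOf_one] at hz0; norm_num at hz0
  have z0cc : ∀ g ∈ P₂, g * z0 = z0 * g := hcz z0 z0T z0sq fun t ht =>
    (congrArg Subtype.val (Subgroup.mem_center_iff.mp z0c ⟨t, ht⟩)).symm
  -- candidates: central involutions of the stabiliser of `b`
  let Good : Y → ℕ → Prop := fun z n =>
    z ≠ 1 ∧ z * z = 1 ∧ (∀ g ∈ G Y b, g * z = z * g) ∧ z ∈ G Y b ∧ z ∈ K Y Γ n b
  have good2 : Good z0 2 := by
    have h0 : z0 ∈ G Y b := by rw [eb]; exact z0T.2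
    have hcc : ∀ g ∈ G Y b, g * z0 = z0 * g := fun g hg => z0cc g (eb ▸ hg)
    have hk := (vall b).2.2.2 z0 h0 fun q hq => (hcc q (mem_G.mpr hq.1)).symm
    refine ⟨z0ne, z0sq, hcc, h0, mem_K_succ.mpr ⟨mem_G.mp h0, fun μ hμ => K_one.mpr ?_⟩⟩
    exact (vall μ).2.2.2 z0 (mem_G.mpr (hk.2 μ hμ)) fun q hq =>
      (hcc q (mem_G.mpr (hq.2 b hμ.symm))).symm
  have spread : ∀ {z : Y} {u v : Cfsg.CosetVertex P₁ P₂}, Γ.Walk u v → (∀ n, z ∈ K Y Γ n u) →
      ∀ n, z ∈ K Y Γ n v := by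
    intro z u v w
    induction w with
    | nil => exact id
    | cons h _ ih => exact fun hu => ih fun n => K_step (hu (n + 1)) h
  have bound : ∀ z : G Y b, ∃ N, ∀ n, Good z n → n ≤ N := by
    intro z
    by_cases h : ∃ n, (z : Y) ∉ K Y Γ n b
    · obtain ⟨N, hN⟩ := h
      exact ⟨N, fun n hn => le_of_not_gt fun hlt => hN (K_mono hlt.le hn.2.2.2.2)⟩
    · push Not at h
      refine ⟨0, fun n hn => absurd ?_ hn.1⟩
      have hall : ∀ v : Cfsg.CosetVertex P₁ P₂, zpowers (z : Y) ≤ MulAction.stabilizer Y v := by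
        intro v
        obtain ⟨w⟩ := (LocAmalgam56.connected hgen).preconnected b v
        exact zpowers_le.mpr (mem_G.mpr (K_fix (spread w h 0)))
      refine zpowers_eq_bot.mp (LocAmalgam56.fix_all_eq_bot (fun N hle hnorm => ?_) _ hall)
      exact faith N hle (Subgroup.normalizer_eq_top_iff.mpr hnorm ▸ le_top)
        (Subgroup.normalizer_eq_top_iff.mpr hnorm ▸ le_top)
  choose N hN using bound
  haveI : Fintype (G Y b) := Fintype.ofFinite _
  let M := Finset.univ.sup N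
  have hM : ∀ z n, Good z n → n ≤ M := fun z n h =>
    (hN ⟨z, h.2.2.2.1⟩ n h).trans (Finset.le_sup (f := N) (Finset.mem_univ _))
  let r := Nat.findGreatest (fun n => ∃ z, Good z n) M
  obtain ⟨c, c1, c2, c3, c4, c5⟩ : ∃ z, Good z r :=
    Nat.findGreatest_spec (P := fun n => ∃ z, Good z n) (hM z0 2 good2) ⟨z0, good2⟩
  have hr2 : 2 ≤ r := Nat.le_findGreatest (hM z0 2 good2) ⟨z0, good2⟩
  let D : Data Y (Cfsg.CosetVertex P₁ P₂) :=
    { Γ := Γ
      b := b
      a := a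
      hab := hab
      c := c
      r := r
      adj_smul := fun g {u v} => LocAmalgam56.adj_smul g
      fin := fun v => (vall v).1
      three := fun v => (vall v).2.1
      nbr := LocAmalgamCharP56.exists_adj
      trans2 := fun v => (vall v).2.2.1
      cent := fun v => (vall v).2.2.2
      faithful := hfaith
      bip := by
        have hB : ∀ u : Cfsg.CosetVertex P₁ P₂, (∃ g : Y, g • b = u) ↔ ∃ v, u = Sum.inr v := by
          intro u
          constructor
          · rintro ⟨g, rfl⟩; exact ⟨_, rfl⟩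
          · rintro ⟨v, rfl⟩
            induction v using QuotientGroup.induction_on with
            | H g => exact ⟨g, by simp [b]⟩
        intro u v huv
        rw [hB, hB]
        rcases LocAmalgam56.adj_iff.mp huv with ⟨x, rfl, rfl⟩ | ⟨x, rfl, rfl⟩ <;> simp
      edge_central := by
        rintro α m hαm ⟨g0, hg0⟩ z hz g hg
        obtain ⟨x, ⟨rfl, rfl⟩ | ⟨rfl, rfl⟩⟩ := LocAmalgam56.exists_base hαm
        · have hz' := zedgeConj (x := x⁻¹) hz
          rw [inv_smul_smul, inv_smul_smul] at hz'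
          have ea' : G Y (Sum.inl ((1 : Y) : Y ⧸ P₁) : Cfsg.CosetVertex P₁ P₂) = P₁ := ea
          have eb' : G Y (Sum.inr ((1 : Y) : Y ⧸ P₂) : Cfsg.CosetVertex P₁ P₂) = P₂ := eb
          obtain ⟨hz1, hz2, hz3⟩ := hz'
          rw [ea', eb'] at hz1 hz3
          have hg' : x⁻¹ * g * x⁻¹⁻¹ ∈ P₂ := by
            rw [← eb']
            have := (mem_G_smul (g := x⁻¹) _).mpr hg
            rwa [inv_smul_smul] at this
          have := hcz _ hz1 hz2 hz3 _ hg'
          calc g * z = x * ((x⁻¹ * g * x⁻¹⁻¹) * (x⁻¹ * z * x⁻¹⁻¹)) * x⁻¹ := by group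
            _ = x * ((x⁻¹ * z * x⁻¹⁻¹) * (x⁻¹ * g * x⁻¹⁻¹)) * x⁻¹ := by rw [this]
            _ = _ := by group
        · simp [b] at hg0
      two_le := hr2
      c_ne := c1
      c_sq := c2
      c_comm := c3
      c_ball := c5
      max_r := fun z h1 h2 h3 => by
        by_contra hz
        have hg : Good z (r + 1) := ⟨hz, h1, h2, mem_G.mpr (K_fix h3), h3⟩
        have := Nat.le_findGreatest (P := fun n => ∃ z, Good z n) (hM z (r + 1) hg) ⟨z, hg⟩
        exact absurd this (by simp [r]) }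
  have hU : G Y D.a ⊓ G Y D.b = T := by
    show G Y a ⊓ G Y b = T
    rw [ea, eb]
  have := D.card_edge (hU.symm ▸ hs₁.two)
  rwa [hU] at this

theorem card_le_of_not_central (n₁ : ¬ Central P₁ (P₁ ⊓ P₂)) (n₂ : ¬ Central P₂ (P₁ ⊓ P₂)) :
    Nat.card (P₁ ⊓ P₂ : Subgroup Y) ≤ 2 ^ 7 := by
  classical
  obtain ⟨vall, hfaith⟩ := graph_base P₁ P₂ hs₁ hs₂ hc₁ hc₂ faith
  let Γ := Cfsg.cosetGraph P₁ P₂
  let a : Cfsg.CosetVertex P₁ P₂ := Sum.inl ((1 : Y) : Y ⧸ P₁)
  let b : Cfsg.CosetVertex P₁ P₂ := Sum.inr ((1 : Y) : Y ⧸ P₂)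
  have hab : Γ.Adj a b := LocAmalgam56.adj_iff.mpr (Or.inl ⟨1, rfl, rfl⟩)
  have ea : G Y a = P₁ := LocAmalgamCharP56.stab_base_left
  have eb : G Y b = P₂ := LocAmalgamCharP56.stab_base_right
  have hadj : ∀ (g : Y) {u v : Cfsg.CosetVertex P₁ P₂}, Γ.Adj u v → Γ.Adj (g • u) (g • v) :=
    fun g => fun {u v} => LocAmalgam56.adj_smul g
  have move : ∀ (x : Y) {δ μ : Cfsg.CosetVertex P₁ P₂},
      (∃ g ∈ G Y δ, ∃ z ∈ (zedge δ μ : Subgroup Y), g * z ≠ z * g) →
        ∃ g ∈ G Y (x • δ), ∃ z ∈ (zedge (x • δ) (x • μ) : Subgroup Y), g * z ≠ z * g := by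
    rintro x δ μ ⟨g, hg, z, hz, hne⟩
    refine ⟨x * g * x⁻¹, (mem_G_smul δ).mpr hg, _, zedgeConj (x := x) hz, fun e => hne ?_⟩
    rw [show x * g * x⁻¹ * (x * z * x⁻¹) = x * (g * z) * x⁻¹ by group,
      show x * z * x⁻¹ * (x * g * x⁻¹) = x * (z * g) * x⁻¹ by group] at e
    exact mul_left_cancel (mul_right_cancel e)
  have na : ∃ g ∈ G Y a, ∃ z ∈ (zedge a b : Subgroup Y), g * z ≠ z * g := by
    unfold Central at n₁; push Not at n₁
    obtain ⟨z, hz, h1, h2, g, hg, hne⟩ := n₁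
    exact ⟨g, ea.symm ▸ hg, z, ⟨by rw [ea, eb]; exact hz, h1,
      fun t ht => h2 t (by rwa [ea, eb] at ht)⟩, hne⟩
  have nb : ∃ g ∈ G Y b, ∃ z ∈ (zedge b a : Subgroup Y), g * z ≠ z * g := by
    unfold Central at n₂; push Not at n₂
    obtain ⟨z, hz, h1, h2, g, hg, hne⟩ := n₂
    exact ⟨g, eb.symm ▸ hg, z, ⟨by rw [ea, eb, inf_comm]; exact hz, h1,
      fun t ht => h2 t (by rwa [ea, eb, inf_comm] at ht)⟩, hne⟩
  have h : GoldschmidtS3.Hyp Y Γ := by
    refine ⟨hadj, LocAmalgam56.connected hgen, fun v => (vall v).1, fun v => (vall v).2.1,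
      fun v => (vall v).2.2.1, fun v => (vall v).2.2.2, fun δ μ hδμ => ?_, hfaith⟩
    obtain ⟨x, ⟨rfl, rfl⟩ | ⟨rfl, rfl⟩⟩ := LocAmalgam56.exists_base hδμ
    · exact move x na
    · exact move x nb
  obtain ⟨α, β, hαβ, hcl⟩ := h.classify hab
  have h48 : Nat.card (G Y α) ≤ 48 ∧ Nat.card (G Y β) ≤ 48 := by
    have c4 : Nat.card (Equiv.Perm (Fin 4)) = 24 := by
      rw [Nat.card_perm, Nat.card_fin]; rfl
    have c8 : Nat.card (Multiplicative (ZMod 2) × Equiv.Perm (Fin 4)) = 48 := by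
      rw [Nat.card_prod, c4, Nat.card_congr Multiplicative.toAdd, Nat.card_zmod]
    rcases hcl with ⟨⟨u⟩, ⟨v⟩⟩ | ⟨⟨u⟩, ⟨v⟩⟩ <;>
      rw [Nat.card_congr u.toEquiv, Nat.card_congr v.toEquiv] <;> omega
  obtain ⟨x, hx⟩ := LocAmalgam56.exists_base hαβ
  have tr : Nat.card P₁ = Nat.card (G Y (x • a)) := by
    exact Nat.card_congr ((MulEquiv.subgroupCongr ea.symm).trans
      (((G Y a).equivMapOfInjective _ (MulAut.conj x).injective).trans
      (MulEquiv.subgroupCongr (MulAction.stabilizer_smul_eq_stabilizer_map_conj x a).symm))).toEquiv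
  have hle : Nat.card (P₁ ⊓ P₂ : Subgroup Y) ≤ Nat.card P₁ := Subgroup.card_le_of_le inf_le_left
  simp only [a] at tr
  rcases hx with ⟨rfl, rfl⟩ | ⟨rfl, rfl⟩ <;> omega

end

end Cfsg.Agent.GoldRadius82
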