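import Cfsg.Agent.Lib.GoldRadius82Odd

/-!
An even radius at least four: symmetric criticality, extension of critical paths and transitivity
on paths of length five.
-/

set_option autoImplicit false
set_option linter.all false

namespace Cfsg.Agent.GoldRadius82

open Subgroup
open GoldschmidtS3 (G ker zedge)

variable {X V : Type*} [Group X] [MulAction X V]

namespace Data

variable (D : Data X V)
include D

/-- Moving the intermediate vertex changes the involution two steps away. -/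
theorem av_smul_ne {m α p : V} {g : X} (hm : D.B m) (h : D.Γ.Adj m α) (hp : D.Γ.Adj α p)
    (hpm : p ≠ m) (hg : g • m = m) (hgα : g • α ≠ α) : D.av (g • p) ≠ D.av p :=
  D.ne4 hm (D.nbr_smul hg h) h hgα (D.adj_smul g hp) hp
    (fun e => hpm (smul_left_cancel g (e.trans hg.symm))) hpm

theorem av_av_smul {v : V} (hv : D.B v) (u : V) : D.av v • D.av v • u = u := by
  rw [← mul_smul, D.av_sq hv, one_smul]

/-- A path of length `r` whose first involution moves a neighbour of its end. -/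
def Crit (x : ℕ → V) : Prop :=
  D.B (x 0) ∧ IsPath D.Γ x D.r ∧ D.av (x 0) ∉ (ker D.Γ (x D.r) : Subgroup X)

theorem crit_mv {x : ℕ → V} (h : D.Crit x) : D.Mv x D.r :=
  ⟨D.av (x 0), fun i hi => D.start_fix h.2.1 h.1 hi hi, h.2.2⟩

/-- A long path ending outside the orbit with a moved neighbour. -/
def P : Prop := ∃ (w : ℕ → V) (n : ℕ), D.r ≤ n ∧ IsPath D.Γ w n ∧ ¬ D.B (w n) ∧ D.Mv w n

variable (he : Even D.r)
include he

theorem crit_end_B {x : ℕ → V} (h : D.Crit x) : D.B (x D.r) := D.B_of_even h.2.1 h.1 le_rfl he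

theorem all_crit_of_P (hP : D.P) {x : ℕ → V} (hb : D.B (x 0)) (hp : IsPath D.Γ x D.r) :
    D.Crit x := by
  obtain ⟨w, n, hn, hw, hwB, hwm⟩ := hP
  obtain ⟨u, hu⟩ := D.exists_crit
  have hr := D.two_le
  have hT := D.tr_of_movers hu.2.1 hw (N := D.r) le_rfl hn (D.crit_end_B he hu) hwB (D.crit_mv hu)
    hwm D.r (by omega) (Nat.le_succ _)
  obtain ⟨g, hg⟩ := hT u x hu.2.1 hp (iff_of_true hu.1 hb)
  refine ⟨hb, hp, ?_⟩
  rw [← hg 0 (Nat.zero_le _), ← hg D.r le_rfl, D.av_smul g hu.1, D.ker_conj]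
  exact hu.2.2

/-- The last involution does not fix the start of a critical path. -/
theorem crit_move {x : ℕ → V} (hp : IsPath D.Γ x (D.r + 2)) (h : D.Crit x) :
    D.av (x (D.r + 2)) • x 0 ≠ x 0 := by
  intro hf
  have hr := D.two_le
  have hbm := D.crit_end_B he h
  have hby : D.B (x (D.r + 2)) := D.B_of_even hp h.1 le_rfl (by simpa [Nat.even_add] using he)
  have hfix := D.start_fix hp h.1 (j := D.r) (by omega) le_rfl
  have hc := D.comm_of_fix h.1 hf
  have hmove : D.av (x 0) • x (D.r + 1) ≠ x (D.r + 1) := by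
    intro e
    have hadj : D.Γ.Adj (x D.r) (x (D.r - 1)) := by
      have := (hp.1 (D.r - 1) (by omega)).symm
      rwa [show D.r - 1 + 1 = D.r by omega] at this
    have hne : x (D.r - 1) ≠ x (D.r + 1) := by
      have := hp.2 (D.r - 1) (by omega)
      rwa [show D.r - 1 + 2 = D.r + 1 by omega] at this
    exact h.2.2 (D.ker_of_fix hadj (hp.1 D.r (by omega)) hne hfix
      (D.start_fix hp h.1 (by omega) (by omega)) e)
  refine D.av_smul_ne (g := D.av (x 0)) hbm (hp.1 D.r (by omega)) (hp.1 (D.r + 1) (by omega))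
    (hp.2 D.r (by omega)).symm hfix hmove ?_
  rw [D.av_smul _ hby, D.av_inv h.1, ← hc, mul_assoc, D.av_sq h.1, mul_one]

/-- Criticality is symmetric. -/
theorem crit_symm {x : ℕ → V} (hp : IsPath D.Γ x (D.r + 2)) (h : D.Crit x) :
    D.Crit (fun i => x (D.r + 2 - i)) := by
  have hr := D.two_le
  have hby : D.B (x (D.r + 2)) := D.B_of_even hp h.1 le_rfl (by simpa [Nat.even_add] using he)
  have hy := hp.reverse
  refine ⟨by simpa using hby, hy.mono (by omega), fun hk => ?_⟩
  simp only [Nat.sub_zero, show D.r + 2 - D.r = 2 by omega] at hk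
  have h1 : D.av (x (D.r + 2)) • x 1 = x 1 := hk.2 _ (hp.1 1 (by omega)).symm
  have hP : D.P := by
    refine ⟨fun i => x (D.r + 2 - i), D.r + 1, by omega, hy.mono (by omega), ?_,
      D.av (x (D.r + 2)), fun i hi => ?_, ?_⟩
    · show ¬ D.B (x (D.r + 2 - (D.r + 1)))
      rw [show D.r + 2 - (D.r + 1) = 1 by omega]
      exact D.not_B_of_odd hp h.1 (by omega) odd_one
    · rcases Nat.lt_or_eq_of_le hi with hl | rfl
      · exact D.end_fix hp hby (by omega) (by omega)
      · show D.av (x (D.r + 2)) • x (D.r + 2 - (D.r + 1)) = x (D.r + 2 - (D.r + 1))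
        rw [show D.r + 2 - (D.r + 1) = 1 by omega]; exact h1
    · show D.av (x (D.r + 2)) ∉ (ker D.Γ (x (D.r + 2 - (D.r + 1))) : Subgroup X)
      rw [show D.r + 2 - (D.r + 1) = 1 by omega]
      exact fun hk1 => D.crit_move he hp h (hk1.2 _ (hp.1 0 (by omega)).symm)
  have := (D.all_crit_of_P he hP (x := fun i => x (D.r + 2 - i)) (by simpa using hby)
    (hy.mono (by omega))).2.2
  simp only [Nat.sub_zero, show D.r + 2 - D.r = 2 by omega] at this
  exact this hk

omit he in
theorem set0_path {x : ℕ → V} {n : ℕ} (hp : IsPath D.Γ x (n + 1)) {s : V}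
    (hs : D.Γ.Adj (x 1) s) (hs2 : 1 ≤ n → s ≠ x 2) :
    IsPath D.Γ (cons s fun i => x (i + 1)) (n + 1) := by
  refine IsPath.cons ⟨fun i hi => hp.1 (i + 1) (by omega), fun i hi => hp.2 (i + 1) (by omega)⟩
    hs.symm hs2

/-- The start may be replaced by a sibling. -/
theorem crit_sibling {x : ℕ → V} (hp : IsPath D.Γ x (D.r + 2)) (h : D.Crit x) {s : V}
    (hs : D.Γ.Adj (x 1) s) (hs2 : s ≠ x 2) : D.Crit (cons s fun i => x (i + 1)) := by
  have hr := D.two_le
  have hp' := D.set0_path (n := D.r + 1) hp hs fun _ => hs2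
  have hsB : D.B s := D.B_two (hp.1 0 (by omega)) hs h.1
  set x' := cons s fun i => x (i + 1) with hx'
  have hx : ∀ i, 1 ≤ i → x' i = x i := fun i hi => by
    obtain ⟨j, rfl⟩ : ∃ j, i = j + 1 := ⟨i - 1, by omega⟩
    rfl
  have hrev := D.crit_symm he hp h
  have hcr : D.Crit (fun i => x' (D.r + 2 - i)) := by
    refine ⟨?_, hp'.reverse.mono (by omega), ?_⟩
    · show D.B (x' (D.r + 2 - 0))
      rw [hx _ (by omega)]; exact hrev.1
    · show D.av (x' (D.r + 2 - 0)) ∉ (ker D.Γ (x' (D.r + 2 - D.r)) : Subgroup X)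
      rw [hx _ (by omega), hx _ (by omega)]; exact hrev.2.2
  have := D.crit_symm he (x := fun i => x' (D.r + 2 - i)) hp'.reverse hcr
  refine ⟨hsB, hp'.mono (by omega), ?_⟩
  have h2 := this.2.2
  simp only [show D.r + 2 - (D.r + 2 - 0) = 0 by omega,
    show D.r + 2 - (D.r + 2 - D.r) = D.r by omega] at h2
  exact h2

/-- A critical path extends two steps backwards, up to the choice of its start. -/
theorem slide (hr : 4 ≤ D.r) {x : ℕ → V} (hp : IsPath D.Γ x (D.r + 2)) (h : D.Crit x) :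
    ∃ e : ℕ → V, IsPath D.Γ e (D.r + 4) ∧ D.Crit e ∧ D.Crit (fun i => e (i + 2)) ∧
      ∀ i, 1 ≤ i → e (i + 2) = x i := by
  set t := D.av (x (D.r + 2)) with ht
  have hby : D.B (x (D.r + 2)) := D.B_of_even hp h.1 le_rfl (by simpa [Nat.even_add] using he)
  by_contra hcon
  have notCrit : ∀ s α z : V, D.Γ.Adj (x 1) s → s ≠ x 2 → D.Γ.Adj s α → α ≠ x 1 → D.Γ.Adj α z →
      z ≠ s → ¬ D.Crit (cons z (cons α (cons s fun i => x (i + 1)))) := by
    intro s α z hs hs2 hα hα1 hz hzs hc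
    have hp' := D.set0_path (n := D.r + 1) hp hs fun _ => hs2
    refine hcon ⟨_, (hp'.cons hα.symm fun _ => hα1).cons hz.symm (fun _ => hzs), hc,
      D.crit_sibling he hp h hs hs2, fun i hi => ?_⟩
    obtain ⟨j, rfl⟩ : ∃ j, i = j + 1 := ⟨i - 1, by omega⟩
    rfl
  -- a long moved path is excluded
  have hnP : ¬ D.P := by
    intro hP
    obtain ⟨α, hα, hα1⟩ := D.exists_other (hp.1 0 (by omega))
    obtain ⟨z, hz, hz0⟩ := D.exists_other hα.symm
    have hp' := D.set0_path (n := D.r + 1) hp (hp.1 0 (by omega)).symm fun _ => hp.2 0 (by omega)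
    have hE := (hp'.cons hα.symm fun _ => hα1).cons hz.symm (fun _ => hz0)
    exact notCrit (x 0) α z (hp.1 0 (by omega)).symm (hp.2 0 (by omega)) hα hα1 hz hz0
      (D.all_crit_of_P he hP (D.B_two hα hz h.1) (hE.mono (by omega)))
  let S : Set X := {u | ∃ β α p, D.Γ.Adj (x 1) β ∧ D.Γ.Adj β α ∧ D.Γ.Adj α p ∧ u = D.av p}
  have ha12 : D.Γ.Adj (x 1) (x 2) := hp.1 1 (by omega)
  have hb1 : ¬ D.B (x 1) := D.not_B_of_odd hp h.1 (by omega) odd_one
  have ht2 : t • x 2 = x 2 := D.end_fix hp hby (by omega) (by omega)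
  have hSB : ∀ {β α p : V}, D.Γ.Adj (x 1) β → D.Γ.Adj β α → D.Γ.Adj α p → D.B p :=
    fun hβ hα hpα => D.B_two hα hpα (D.B_adj_of hβ hb1)
  have hle : closure S ≤ G X (x 1) ⊓ G X (x 2) := (closure_le _).mpr (by
    rintro u ⟨β, α, p, hβ, hα, hpα, rfl⟩
    have h3 : D.av p ∈ K X D.Γ 1 (x 1) :=
      K_step (K_step (K_step (D.near (hSB hβ hα hpα) (show 4 ≤ D.r by omega)) hpα.symm) hα.symm)
        hβ.symm
    exact ⟨GoldschmidtS3.mem_G.mpr (K_fix h3),
      GoldschmidtS3.mem_G.mpr ((K_one.mp h3).2 _ ha12)⟩)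
  haveI : Finite (closure S : Subgroup X) := D.finite_of_le (hle.trans inf_le_left)
  have hN : ∀ g : X, g • x 1 = x 1 → g ∈ normalizer (closure S : Set X) := by
    intro g hg
    refine mem_normalizer_closure ?_
    rintro u ⟨β, α, p, hβ, hα, hpα, rfl⟩
    refine subset_closure ⟨g • β, g • α, g • p, D.nbr_smul hg hβ, D.adj_smul g hα,
      D.adj_smul g hpα, ?_⟩
    rw [D.av_smul g (hSB hβ hα hpα)]
  have hx2 : ∀ α p, D.Γ.Adj (x 2) α → D.Γ.Adj α p → t * D.av p * t⁻¹ ∈ closure S := by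
    intro α p hα hpα
    rw [← D.av_smul t (hSB ha12 hα hpα)]
    exact subset_closure ⟨x 2, t • α, t • p, ha12, D.nbr_smul ht2 hα, D.adj_smul t hpα, rfl⟩
  have htN : t ∈ normalizer (closure S : Set X) := by
    refine mem_normalizer_closure ?_
    rintro u ⟨s, α, z, hs, hα, hz, rfl⟩
    by_cases hs2 : s = x 2
    · exact hx2 α z (hs2 ▸ hα) hz
    by_cases hα1 : α = x 1
    · exact hx2 (x 1) z ha12.symm (hα1 ▸ hz)
    by_cases hzs : z = s
    · exact hx2 (x 1) z ha12.symm (hzs.symm ▸ hs)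
    have hbs : D.B s := D.B_adj_of hs hb1
    have hbz : D.B z := D.B_two hα hz hbs
    have hp' := D.set0_path (n := D.r + 1) hp hs fun _ => hs2
    set E := cons z (cons α (cons s fun i => x (i + 1))) with hE
    have hEp : IsPath D.Γ E (D.r + 4) := (hp'.cons hα.symm fun _ => hα1).cons hz.symm fun _ => hzs
    have hEx : ∀ i, 1 ≤ i → E (i + 2) = x i := fun i hi => by
      obtain ⟨j, rfl⟩ : ∃ j, i = j + 1 := ⟨i - 1, by omega⟩
      rfl
    have hsS : D.av s ∈ closure S :=
      subset_closure ⟨x 2, x 1, s, ha12, ha12.symm, hs, rfl⟩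
    have hzS : D.av z ∈ closure S := subset_closure ⟨s, α, z, hs, hα, hz, rfl⟩
    have htsS : t * D.av s * t ∈ closure S := by
      have := hx2 (x 1) s ha12.symm hs
      rwa [ht, D.av_inv hby, ← ht] at this
    -- the path of the new involution is fixed up to `x r`
    have hk1 : D.av z ∈ (ker D.Γ (E D.r) : Subgroup X) := by
      by_contra hc
      exact notCrit s α z hs hs2 hα hα1 hz hzs ⟨hbz, hEp.mono (by omega), hc⟩
    have hfix1 : D.av z • E (D.r + 1) = E (D.r + 1) := hk1.2 _ (hEp.1 D.r (by omega))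
    have hfixi : ∀ i, i ≤ D.r + 1 → D.av z • E i = E i := fun i hi => by
      rcases Nat.lt_or_eq_of_le hi with hl | rfl
      · exact D.start_fix hEp hbz (by omega) (by omega)
      · exact hfix1
    have hk2 : D.av z ∈ (ker D.Γ (E (D.r + 1)) : Subgroup X) := by
      by_contra hc
      exact hnP ⟨E, D.r + 1, by omega, hEp.mono (by omega),
        D.not_B_of_odd hEp hbz (by omega) he.add_one, D.av z, hfixi, hc⟩
    have hfix2 : D.av z • x D.r = x D.r := by
      have := hk2.2 _ (hEp.1 (D.r + 1) (by omega))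
      rwa [hEx D.r (by omega)] at this
    rw [ht, D.av_inv hby, ← ht]
    by_cases hm : D.av z • x (D.r + 1) = x (D.r + 1)
    · have hfix3 : D.av z • x (D.r + 2) = x (D.r + 2) := by
        by_contra hc
        refine hnP ⟨E, D.r + 3, by omega, hEp.mono (by omega),
          D.not_B_of_odd hEp hbz (by omega) (he.add_odd (by decide)), D.av z, fun i hi => ?_,
          fun hk => ?_⟩
        · rcases Nat.lt_or_ge i (D.r + 2) with hl | hl
          · exact hfixi i (by omega)
          · rcases Nat.lt_or_ge i (D.r + 3) with hl' | hl'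
            · rw [show i = D.r + 2 by omega, hEx D.r (by omega)]; exact hfix2
            · rw [show i = (D.r + 1) + 2 by omega, hEx (D.r + 1) (by omega)]; exact hm
        · apply hc
          have := hk.2 _ (hEp.1 (D.r + 3) (by omega))
          rwa [show D.r + 3 + 1 = (D.r + 2) + 2 by omega, hEx (D.r + 2) (by omega)] at this
      have hc : D.av z * t = t * D.av z := D.comm_of_fix hby hfix3
      rw [← hc, mul_assoc, ht, D.av_sq hby, mul_one]
      exact hzS
    · have hcs := D.crit_sibling he hp h hs hs2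
      have hps := D.set0_path (n := D.r + 1) hp hs fun _ => hs2
      have hsx : ∀ i, 1 ≤ i → (cons s fun i => x (i + 1)) i = x i := fun i hi => by
        obtain ⟨j, rfl⟩ : ∃ j, i = j + 1 := ⟨i - 1, by omega⟩
        rfl
      have hadj : D.Γ.Adj (x D.r) (x (D.r - 1)) := by
        have := (hp.1 (D.r - 1) (by omega)).symm
        rwa [show D.r - 1 + 1 = D.r by omega] at this
      have hne : x (D.r - 1) ≠ x (D.r + 1) := by
        have := hp.2 (D.r - 1) (by omega)
        rwa [show D.r - 1 + 2 = D.r + 1 by omega] at this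
      have hs0 : ∀ i, 1 ≤ i → i ≤ D.r → D.av s • x i = x i := fun i hi hi' => by
        have := D.start_fix hps hbs (j := i) (by omega) hi'
        rw [hsx i hi] at this
        exact this
      have hsk : D.av s ∉ (ker D.Γ (x D.r) : Subgroup X) := by
        have := hcs.2.2
        rwa [hsx _ (by omega)] at this
      have hzk : D.av z ∉ (ker D.Γ (x D.r) : Subgroup X) :=
        fun hk => hm (hk.2 _ (hp.1 D.r (by omega)))
      have hzr : D.av z • x (D.r - 1) = x (D.r - 1) := by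
        have := hfix1
        rwa [show D.r + 1 = (D.r - 1) + 2 by omega, hEx (D.r - 1) (by omega)] at this
      have hprod := D.mul_ker hadj (hs0 D.r (by omega) le_rfl) (hs0 (D.r - 1) (by omega) (by omega))
        hfix2 hzr hsk hzk
      have hy : (D.av s * D.av z) • x (D.r + 2) = x (D.r + 2) := by
        by_contra hc
        refine hnP ⟨fun i => x (1 + i), D.r, le_rfl, IsPath.shift (hp.mono (by omega)), ?_,
          D.av s * D.av z, fun i hi => ?_, fun hk => hc ?_⟩
        · show ¬ D.B (x (1 + D.r))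
          exact D.not_B_of_odd hp h.1 (by omega) (by simpa [Nat.add_comm] using he.add_one)
        · show (D.av s * D.av z) • x (1 + i) = x (1 + i)
          rcases Nat.lt_or_eq_of_le hi with hl | rfl
          · rw [mul_smul]
            have e1 : D.av z • x (1 + i) = x (1 + i) := by
              rcases Nat.lt_or_ge (1 + i) D.r with hl' | hl'
              · rw [← hEx (1 + i) (by omega)]; exact hfixi _ (by omega)
              · rw [show 1 + i = D.r by omega]; exact hfix2
            rw [e1, hs0 _ (by omega) (by omega)]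
          · rw [Nat.add_comm]; exact hprod.2 _ (hp.1 D.r (by omega))
        · simp only [Nat.add_comm 1 D.r] at hk
          exact hk.2 _ (hp.1 (D.r + 1) (by omega))
      have heq : D.av z * t * D.av z = D.av s * t * D.av s := by
        rw [ht, D.conj_av hby hbz, D.conj_av hby hbs]
        congr 1
        rw [mul_smul] at hy
        have h' := congrArg (fun v => D.av s • v) hy
        simp only [D.av_av_smul hbs] at h'
        exact h'
      have : t * D.av z * t = (t * D.av s * t) * D.av s * D.av z := by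
        calc t * D.av z * t = t * (D.av z * t * D.av z) * D.av z := by
              rw [mul_assoc t, mul_assoc t, mul_assoc _ (D.av z) (D.av z), D.av_sq hbz, mul_one]
          _ = _ := by rw [heq]; group
      rw [this]
      exact mul_mem (mul_mem htsS hsS) hzS
  obtain ⟨k, hk0, hk1, -⟩ := D.trans2 (x 1) (x 2) (x 0) (x 0) (x 2) ha12 (hp.1 0 (by omega)).symm
    (hp.1 0 (by omega)).symm ha12 (hp.2 0 (by omega)).symm (hp.2 0 (by omega))
  have ht1 : t • x 1 ≠ x 1 := by
    intro e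
    have hk := (D.crit_symm he hp h).2.2
    simp only [Nat.sub_zero, show D.r + 2 - D.r = 2 by omega] at hk
    exact hk (D.ker_of_fix (hp.1 2 (by omega)) ha12.symm (hp.2 1 (by omega)).symm ht2
      (D.end_fix hp hby (by omega) (by omega)) e)
  have hbot := D.no_normal ha12 hle (fun g hg => hN g (GoldschmidtS3.mem_G.mp hg.1))
    ⟨k, hN k (GoldschmidtS3.mem_G.mp hk0), GoldschmidtS3.mem_G.mp hk0,
      by rw [hk1]; exact hp.2 0 (by omega)⟩
    ⟨t, htN, ht2, ht1⟩
  exact D.av_ne h.1 ((Subgroup.eq_bot_iff_forall _).mp hbot _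
    (subset_closure ⟨x 2, x 1, x 0, ha12, ha12.symm, (hp.1 0 (by omega)).symm, rfl⟩))

/-- Two children of one vertex of the orbit commute. -/
theorem comm4 (hr : 4 ≤ D.r) {m α α' p p' : V} (hm : D.B m) (h : D.Γ.Adj m α) (h' : D.Γ.Adj m α')
    (hp : D.Γ.Adj α p) (hp' : D.Γ.Adj α' p') : D.av p * D.av p' = D.av p' * D.av p :=
  D.comm_of_fix (D.B_two h' hp' hm) (K_fix (K_step (n := 0)
    (K_step (K_step (K_step (D.near (D.B_two h hp hm) hr) hp.symm) h.symm) h') hp'))

/-- Moving a child either fixes it or passes to its sibling. -/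
theorem av_child_smul {m α p q : V} (hm : D.B m) (h : D.Γ.Adj m α) (hp : D.Γ.Adj α p)
    (hq : D.Γ.Adj α q) (hpm : p ≠ m) (hqm : q ≠ m) :
    D.av q = D.av p ∨ D.av q = D.av p * D.av m := by
  by_cases e : q = p
  · exact Or.inl (by rw [e])
  · exact Or.inr (D.third (D.B_of_adj h.symm hm) hp h.symm hq hpm (Ne.symm e) (Ne.symm hqm)).symm

omit he in
theorem comm_cancel {a b c : X} (h1 : b * c = c * b) (hc : c * c = 1) : a * c * (b * c) = a * b := by
  rw [h1]
  calc a * c * (c * b) = a * (c * c) * b := by group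
    _ = a * b := by rw [hc, mul_one]

/-- The flips at a vertex of the orbit are not all equal. -/
theorem not_diag (hr : 4 ≤ D.r) {m α α' : V} (hm : D.B m) (h : D.Γ.Adj m α) (h' : D.Γ.Adj m α')
    (hne : α ≠ α') :
    ∃ g ∈ (ker D.Γ m : Subgroup X), g ∈ (ker D.Γ α : Subgroup X) ∧ g ∉ (ker D.Γ α' : Subgroup X) := by
  by_contra hcon
  push Not at hcon
  have all : ∀ β β', D.Γ.Adj m β → D.Γ.Adj m β' → β ≠ β' → ∀ g ∈ (ker D.Γ m : Subgroup X),
      g ∈ (ker D.Γ β : Subgroup X) → g ∈ (ker D.Γ β' : Subgroup X) := by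
    intro β β' hβ hβ' hββ g hg hgβ
    obtain ⟨k, hk0, hk1, hk2⟩ := D.trans2 m β β' α α' hβ hβ' h h' hββ hne
    have h1 : k * g * k⁻¹ ∈ (ker D.Γ m : Subgroup X) := by
      have := D.ker_conj (g := k) |>.mpr hg
      rwa [GoldschmidtS3.mem_G.mp hk0] at this
    have h2 := hcon _ h1 (hk1 ▸ D.ker_conj.mpr hgβ)
    rw [← hk2] at h2
    exact D.ker_conj.mp h2
  obtain ⟨α3, h3, hα3, hα'3⟩ := D.exists_third h h' hne
  obtain ⟨p2, hp2, hp2m⟩ := D.exists_other h'.symm
  obtain ⟨p3, hp3, hp3m⟩ := D.exists_other h3.symm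
  have b2 := D.B_two h' hp2 hm
  have b3 := D.B_two h3 hp3 hm
  set f := D.av p2 * D.av p3 with hf
  have c23 := D.comm4 he hr hm h' h3 hp2 hp3
  have c2m := D.comm2 b2 hm hp2.symm h'.symm
  have c3m := D.comm2 b3 hm hp3.symm h3.symm
  have hcU : ∀ g ∈ G X α ⊓ G X m, g * f * g⁻¹ = f := by
    intro g hg
    have g0 := GoldschmidtS3.mem_G.mp hg.2
    have g1 := GoldschmidtS3.mem_G.mp hg.1
    rw [hf, show g * (D.av p2 * D.av p3) * g⁻¹ = (g * D.av p2 * g⁻¹) * (g * D.av p3 * g⁻¹) by group,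
      ← D.av_smul g b2, ← D.av_smul g b3]
    by_cases hk : g ∈ (ker D.Γ m : Subgroup X)
    · have e2 : g • α' = α' := hk.2 _ h'
      have e3 : g • α3 = α3 := hk.2 _ h3
      have hiff : g ∈ (ker D.Γ α' : Subgroup X) ↔ g ∈ (ker D.Γ α3 : Subgroup X) :=
        ⟨all α' α3 h' h3 hα'3 g hk, all α3 α' h3 h' hα'3.symm g hk⟩
      by_cases hk2 : g ∈ (ker D.Γ α' : Subgroup X)
      · rw [hk2.2 _ hp2, (hiff.mp hk2).2 _ hp3]
      · rw [← D.third (D.B_of_adj h'.symm hm) hp2 h'.symm (D.nbr_smul e2 hp2) hp2m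
          (D.move h'.symm hp2 hp2m.symm e2 g0 hk2).symm
          (fun e => hp2m (smul_left_cancel g (e.symm.trans g0.symm))),
          ← D.third (D.B_of_adj h3.symm hm) hp3 h3.symm (D.nbr_smul e3 hp3) hp3m
          (D.move h3.symm hp3 hp3m.symm e3 g0 (fun k3 => hk2 (hiff.mpr k3))).symm
          (fun e => hp3m (smul_left_cancel g (e.symm.trans g0.symm))),
          D.comm_cancel c3m (D.av_sq hm)]
    · have e2 : g • α' = α3 := D.move_eq h h' h3 hne hα3 hα'3 g0 g1 hk
      have e3 : g • α3 = α' := D.move_eq h h3 h' hα3 hne hα'3.symm g0 g1 hk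
      have a2 : D.Γ.Adj α3 (g • p2) := e2 ▸ D.adj_smul g hp2
      have a3 : D.Γ.Adj α' (g • p3) := e3 ▸ D.adj_smul g hp3
      have n2 : g • p2 ≠ m := fun e => hp2m (smul_left_cancel g (e.trans g0.symm))
      have n3 : g • p3 ≠ m := fun e => hp3m (smul_left_cancel g (e.trans g0.symm))
      have hg2m : g * g ∈ (ker D.Γ m : Subgroup X) := D.mul_ker h g0 g1 g0 g1 hk hk
      have hg2a : g * g ∈ (ker D.Γ α : Subgroup X) := by
        by_cases hkα : g ∈ (ker D.Γ α : Subgroup X)
        · exact mul_mem hkα hkα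
        · exact D.mul_ker h.symm g1 g0 g1 g0 hkα hkα
      have hg22 : g • g • p2 = p2 := by
        rw [← mul_smul]; exact (all α α' h h' hne _ hg2m hg2a).2 _ hp2
      by_cases hpp : g • p2 = p3
      · rw [hpp, show g • p3 = p2 by rw [← hpp]; exact hg22, c23]
      · have hq : g • p3 ≠ p2 := fun e => hpp (smul_left_cancel g (hg22.trans e.symm))
        rw [← D.third (D.B_of_adj h3.symm hm) hp3 h3.symm a2 hp3m (Ne.symm hpp) n2.symm,
          ← D.third (D.B_of_adj h'.symm hm) hp2 h'.symm a3 hp2m (Ne.symm hq) n3.symm,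
          D.comm_cancel c2m (D.av_sq hm), c23]
  have hfz : f ∈ (zedge α m : Subgroup X) := by
    refine ⟨mul_mem ?_ ?_, ?_, fun t ht => ((mul_inv_eq_iff_eq_mul.mp (hcU t ht))).symm⟩
    · exact ⟨GoldschmidtS3.mem_G.mpr (K_fix (K_step (n := 0) (K_step (K_step
        (D.near b2 (show 3 ≤ D.r by omega)) hp2.symm) h'.symm) h)),
        GoldschmidtS3.mem_G.mpr (D.near2 b2 hp2.symm h'.symm)⟩
    · exact ⟨GoldschmidtS3.mem_G.mpr (K_fix (K_step (n := 0) (K_step (K_step
        (D.near b3 (show 3 ≤ D.r by omega)) hp3.symm) h3.symm) h)),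
        GoldschmidtS3.mem_G.mpr (D.near2 b3 hp3.symm h3.symm)⟩
    · rw [hf]
      calc D.av p2 * D.av p3 * (D.av p2 * D.av p3)
          = D.av p2 * (D.av p3 * D.av p2) * D.av p3 := by group
        _ = (D.av p2 * D.av p2) * (D.av p3 * D.av p3) := by rw [← c23]; group
        _ = 1 := by rw [D.av_sq b2, D.av_sq b3, one_mul]
  -- a permutation fixing the third branch
  obtain ⟨k, hk0, hk1, hk2⟩ := D.trans2 m α' α3 α α3 h' h3 h h3 hα'3 hα3
  have k0 := GoldschmidtS3.mem_G.mp hk0
  have hkf : k * f * k⁻¹ = f :=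
    mul_inv_eq_iff_eq_mul.mpr (D.edge_central α m h.symm hm f hfz k hk0)
  rw [hf, show k * (D.av p2 * D.av p3) * k⁻¹ = (k * D.av p2 * k⁻¹) * (k * D.av p3 * k⁻¹) by group,
    ← D.av_smul k b2, ← D.av_smul k b3] at hkf
  have ha : D.Γ.Adj α (k • p2) := hk1 ▸ D.adj_smul k hp2
  have ha3 : D.Γ.Adj α3 (k • p3) := hk2 ▸ D.adj_smul k hp3
  have n2 : k • p2 ≠ m := fun e => hp2m (smul_left_cancel k (e.trans k0.symm))
  have n3 : k • p3 ≠ m := fun e => hp3m (smul_left_cancel k (e.trans k0.symm))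
  rcases D.av_child_smul he hm h3 hp3 ha3 hp3m n3 with e | e <;> rw [e] at hkf
  · exact D.ne4 hm h h' hne ha hp2 n2 hp2m (mul_right_cancel hkf)
  · obtain ⟨q, hq, hqm, hqp⟩ := D.exists_third h.symm ha n2.symm
    rw [c3m, ← mul_assoc, D.third (D.B_of_adj h.symm hm) ha h.symm hq n2 hqp hqm] at hkf
    exact D.ne4 hm h h' hne hq hp2 hqm.symm hp2m (mul_right_cancel hkf)

theorem end_B_mv {k : ℕ} (hk : k ≤ D.r) (hT : D.Tr k) {x : ℕ → V} (hp : IsPath D.Γ x k)
    (hb : D.B (x k)) : D.Mv x k := by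
  obtain ⟨u, hu⟩ := D.exists_crit
  exact D.mv_same_end hk hT hp hu.2.1 (iff_of_true hb (D.crit_end_B he hu)) (D.crit_mv hu)

theorem mv_two (hr : 4 ≤ D.r) {x : ℕ → V} (hp : IsPath D.Γ x 2) : D.Mv x 2 := by
  by_cases hb : D.B (x 2)
  · exact D.end_B_mv he (by omega) D.tr_two hp hb
  · obtain ⟨t, ht, htn⟩ := D.exists_nbr_ker (hp.1 1 (by omega)).symm
    refine ⟨t, fun i hi => ?_, htn⟩
    interval_cases i
    · exact ht.2 _ (hp.1 0 (by omega)).symm
    · exact ht.1
    · exact ht.2 _ (hp.1 1 (by omega))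

theorem tr_three (hr : 4 ≤ D.r) : D.Tr 3 :=
  D.tr_succ (by omega) D.tr_two fun _ hx => D.mv_two he hr hx

theorem mv_three (hr : 4 ≤ D.r) {x : ℕ → V} (hp : IsPath D.Γ x 3) : D.Mv x 3 := by
  by_cases hb : D.B (x 3)
  · exact D.end_B_mv he (by omega) (D.tr_three he hr) hp hb
  · have hb2 : D.B (x 2) := by
      by_contra h2
      exact h2 ((D.B_adj (hp.1 2 (by omega))).mpr hb)
    obtain ⟨g, hg, hg1, hg3⟩ := D.not_diag he hr hb2 (hp.1 1 (by omega)).symm (hp.1 2 (by omega))
      (hp.2 1 (by omega))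
    refine ⟨g, fun i hi => ?_, hg3⟩
    interval_cases i
    · exact hg1.2 _ (hp.1 0 (by omega)).symm
    · exact hg.2 _ (hp.1 1 (by omega)).symm
    · exact hg.1
    · exact hg.2 _ (hp.1 2 (by omega))

theorem tr_four (hr : 4 ≤ D.r) : D.Tr 4 :=
  D.tr_succ (by omega) (D.tr_three he hr) fun _ hx => D.mv_three he hr hx

theorem mv_four (hr : 4 ≤ D.r) {x : ℕ → V} (hp : IsPath D.Γ x 4) : D.Mv x 4 := by
  have hT := D.tr_four he hr
  by_cases hb : D.B (x 4)
  · exact D.end_B_mv he hr hT hp hb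
  obtain ⟨g, hg, hgn⟩ := D.mv_three he hr (hp.shift (k := 1) (n := 3))
  simp only [show 1 + 3 = 4 from rfl] at hgn
  by_cases hg0 : g • x 0 = x 0
  · refine ⟨g, fun i hi => ?_, hgn⟩
    rcases Nat.eq_zero_or_pos i with rfl | hi'
    · exact hg0
    · have := hg (i - 1) (by omega)
      simpa only [show 1 + (i - 1) = i by omega] using this
  obtain ⟨x5, hx5, hx5n⟩ := D.exists_other (hp.1 3 (by omega)).symm
  have hp5 : IsPath D.Γ (snoc x 5 x5) 5 := hp.snoc hx5 fun i hi => by
    rw [show i = 3 by omega]; exact hx5n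
  have hx : ∀ i, i ≤ 4 → snoc x 5 x5 i = x i := fun i hi => snoc_lt (by omega)
  have hq : IsPath D.Γ (fun i => snoc x 5 x5 (5 - i)) 4 := hp5.reverse.mono (by omega)
  have hqB : D.B (x 1) := by
    have h1 := D.B_path hp 1 (by omega)
    have h4 := D.B_path hp 4 (by omega)
    simp only [show ¬ Even 1 by decide, show Even 4 by decide, iff_false, iff_true] at h1 h4
    tauto
  obtain ⟨k, hk, hkn⟩ := D.end_B_mv he hr hT hq (by
    show D.B (snoc x 5 x5 1)
    rw [hx 1 (by omega)]; exact hqB)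
  simp only [show 5 - 4 = 1 from rfl, hx 1 (by omega)] at hkn
  have hk5 : k • x5 = x5 := by simpa [snoc_eq] using hk 0 (by omega)
  have hki : ∀ i, 1 ≤ i → i ≤ 4 → k • x i = x i := fun i h1 h2 => by
    have := hk (5 - i) (by omega)
    simp only [show 5 - (5 - i) = i by omega, hx i h2] at this
    exact this
  have hgi : ∀ i, 1 ≤ i → i ≤ 4 → g • x i = x i := fun i h1 h2 => by
    have := hg (i - 1) (by omega)
    simpa only [show 1 + (i - 1) = i by omega] using this
  have hk4 : k ∈ (ker D.Γ (x 4) : Subgroup X) := D.ker_of_fix (hp.1 3 (by omega)).symm hx5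
    hx5n.symm (hki 4 (by omega) le_rfl) (hki 3 (by omega) (by omega)) hk5
  have hg1 : g ∉ (ker D.Γ (x 1) : Subgroup X) := fun hc => hg0 (hc.2 _ (hp.1 0 (by omega)).symm)
  have hprod := D.mul_ker (hp.1 1 (by omega)) (hgi 1 le_rfl (by omega)) (hgi 2 (by omega) (by omega))
    (hki 1 le_rfl (by omega)) (hki 2 (by omega) (by omega)) hg1 hkn
  refine ⟨g * k, fun i hi => ?_, fun hc => hgn ((mul_mem_cancel_right hk4).mp hc)⟩
  rcases Nat.eq_zero_or_pos i with rfl | hi'
  · exact hprod.2 _ (hp.1 0 (by omega)).symm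
  · rw [mul_smul, hki i hi' hi, hgi i hi' hi]

theorem tr_five (hr : 4 ≤ D.r) : D.Tr 5 :=
  D.tr_succ (by omega) (D.tr_four he hr) fun _ hx => D.mv_four he hr hx

theorem mv_six (hr : 6 ≤ D.r) {x : ℕ → V} (hp : IsPath D.Γ x 6) (hb : D.B (x 0)) : D.Mv x 6 := by
  have hT5 := D.tr_five he (by omega)
  have hb6 : D.B (x 6) := D.B_of_even hp hb le_rfl (by decide)
  by_cases hM : ∃ y : ℕ → V, IsPath D.Γ y 5 ∧ D.B (y 0) ∧ D.Mv y 5
  · obtain ⟨y, hy, hy0, hym⟩ := hM
    refine D.end_B_mv he hr (D.tr_succ (by omega) hT5 fun z hz => ?_) hp hb6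
    by_cases hz5 : D.B (z 5)
    · exact D.end_B_mv he (by omega) hT5 hz hz5
    · refine D.mv_of_mv hT5 hy hz (iff_of_true hy0 ?_) hym
      have h5 := D.B_path hz 5 le_rfl
      simp only [show ¬ Even 5 by decide, iff_false] at h5
      tauto
  push Not at hM
  obtain ⟨g, hg, hgn⟩ := D.end_B_mv he (by omega) hT5 (hp.shift (k := 1) (n := 5))
    (by show D.B (x (1 + 5)); exact hb6)
  simp only [show 1 + 5 = 6 from rfl] at hgn
  have hgi : ∀ i, 1 ≤ i → i ≤ 6 → g • x i = x i := fun i h1 h2 => by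
    have := hg (i - 1) (by omega)
    simpa only [show 1 + (i - 1) = i by omega] using this
  refine ⟨g, fun i hi => ?_, hgn⟩
  rcases Nat.eq_zero_or_pos i with rfl | hi'
  · have hk1 : g ∈ (ker D.Γ (x 1) : Subgroup X) := by
      by_contra hc
      refine hM (fun i => x (6 - i)) (hp.reverse.mono (by omega)) (by simpa using hb6)
        ⟨g, fun i hi => hgi _ (by omega) (by omega), ?_⟩
      simpa using hc
    exact hk1.2 _ (hp.1 0 (by omega)).symm
  · exact hgi i hi' hi

end Data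

end Cfsg.Agent.GoldRadius82
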