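import Mathlib
import Cfsg.Agent.Lib.HallHigmanB
import Cfsg.Agent.Lib.CoprimeAction

/-!
# The linear lemma behind Gross's bound on the 2-length

`x` has order dividing `2 ^ m`, `m ≥ 2`, and fixes every fixed point of its top power `y`, and
`y - 1` has rank at most two. If `x` and the group `R = [R, y]` normalise the 2-group
`P = [P, R]`, then `P` acts trivially.
-/

set_option autoImplicit false

namespace Cfsg.Agent.GrossClassTwo

open Module
open scoped commutatorElement

variable {K W : Type*} [Field K] [AddCommGroup W] [Module K W]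

/-- The scalar elements. -/
def scalar {L : Type*} [Group L] [Finite L] (ρ : Representation K L W) : Subgroup L where
  carrier := {g | ∃ c : K, ρ g = c • 1}
  one_mem' := ⟨1, by rw [map_one, one_smul]⟩
  mul_mem' := fun {a b} ⟨c, hc⟩ ⟨d, hd⟩ => ⟨c * d, by rw [map_mul, hc, hd, smul_one_mul, smul_smul]⟩
  inv_mem' := fun {a} ⟨c, hc⟩ => by
    obtain ⟨n, hn⟩ : ∃ n : ℕ, a⁻¹ = a ^ n := ⟨orderOf a - 1, by
      rw [inv_eq_iff_mul_eq_one, ← pow_succ', Nat.sub_add_cancel (orderOf_pos a),
        pow_orderOf_eq_one]⟩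
    exact ⟨c ^ n, by rw [hn, map_pow, hc, smul_pow, one_pow]⟩

section rep

variable {L : Type*} [Group L] [Finite L] (ρ : Representation K L W)

instance scalar_normal : (scalar ρ).Normal :=
  ⟨fun g ⟨c, hc⟩ u => ⟨c, by
    rw [map_mul, map_mul, hc, mul_smul_comm, mul_one, smul_mul_assoc, ← map_mul, mul_inv_cancel,
      map_one]⟩⟩

theorem mem_scalar {g : L} : g ∈ scalar ρ ↔ ∃ c : K, ρ g = c • 1 := Iff.rfl

theorem rho_inv_apply (g : L) (w : W) : ρ g⁻¹ (ρ g w) = w := by
  rw [← Module.End.mul_apply, ← map_mul, inv_mul_cancel, map_one, Module.End.one_apply]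

theorem rho_apply_inv (g : L) (w : W) : ρ g (ρ g⁻¹ w) = w := by
  rw [← Module.End.mul_apply, ← map_mul, mul_inv_cancel, map_one, Module.End.one_apply]

theorem mul_apply' (a b : L) (w : W) : ρ (a * b) w = ρ a (ρ b w) := by
  rw [map_mul, Module.End.mul_apply]

theorem comm_scalar_of_mem {g : L} (hg : g ∈ scalar ρ) (h : L) : ρ g * ρ h = ρ h * ρ g := by
  obtain ⟨c, hc⟩ := hg
  rw [hc, smul_mul_assoc, one_mul, mul_smul_comm, mul_one]

/-- A commutator which is scalar is multiplicative in its first argument. -/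
theorem rho_commutator_mul {a b c : L} {s t : K} (ha : ρ ⁅a, c⁆ = s • 1) (hb : ρ ⁅b, c⁆ = t • 1) :
    ρ ⁅a * b, c⁆ = (s * t) • 1 := by
  rw [show ⁅a * b, c⁆ = a * ⁅b, c⁆ * a⁻¹ * ⁅a, c⁆ by simp only [commutatorElement_def]; group]
  rw [map_mul, map_mul, map_mul, hb, ha]
  simp only [mul_smul_comm, smul_mul_assoc, mul_one, smul_smul, ← map_mul, mul_inv_cancel,
    map_one]

theorem rho_commutator_pow {a c : L} {s : K} (ha : ρ ⁅a, c⁆ = s • 1) (k : ℕ) :
    ρ ⁅a ^ k, c⁆ = (s ^ k) • 1 := by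
  induction k with
  | zero => rw [pow_zero, pow_zero, one_smul, commutatorElement_one_left, map_one]
  | succ k ih => rw [pow_succ, pow_succ, rho_commutator_mul ρ ih ha]

theorem commute_of_commutator {a b : L} (h : ρ ⁅a, b⁆ = 1) : ρ a * ρ b = ρ b * ρ a := by
  calc ρ a * ρ b = ρ (⁅a, b⁆ * (b * a)) := by
        rw [← map_mul]; congr 1; simp [commutatorElement_def, mul_assoc]
    _ = ρ b * ρ a := by rw [map_mul, h, one_mul, map_mul]

theorem commutator_eq_one_of_commute {a b : L} (h : ρ a * ρ b = ρ b * ρ a) : ρ ⁅a, b⁆ = 1 := by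
  rw [commutatorElement_def, map_mul, map_mul, map_mul, h, mul_assoc (ρ b), ← map_mul,
    mul_inv_cancel, map_one, mul_one, ← map_mul, mul_inv_cancel, map_one]

theorem exists_pow_neg_one {s : K} {k : ℕ} (hs : s ^ 2 ^ k = 1) (hs1 : s ≠ 1) :
    ∃ j, s ^ 2 ^ j = -1 := by
  induction k with
  | zero => rw [pow_zero, pow_one] at hs; exact absurd hs hs1
  | succ k ih =>
    by_cases h : s ^ 2 ^ k = 1
    · exact ih h
    · refine ⟨k, ?_⟩
      rw [pow_succ, pow_mul, sq] at hs
      rcases mul_self_eq_one_iff.mp hs with h1 | h1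
      · exact absurd h1 h
      · exact h1

/-- An involution splits the space. -/
theorem finrank_ker_add_range [FiniteDimensional K W] (f : Module.End K W) :
    finrank K (LinearMap.range f) + finrank K (LinearMap.ker f) = finrank K W :=
  f.finrank_range_add_finrank_ker

theorem apply_eq_neg_of_mem_range {y : L} (hy : y * y = 1) {w : W}
    (hw : w ∈ LinearMap.range (ρ y - 1)) : ρ y w = -w := by
  obtain ⟨v, rfl⟩ := hw
  rw [LinearMap.sub_apply, Module.End.one_apply, map_sub, ← mul_apply', hy, map_one,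
    Module.End.one_apply]
  abel

theorem mem_range_of_neg (h2 : (2 : K) ≠ 0) {y : L} {w : W} (hw : ρ y w = -w) :
    w ∈ LinearMap.range (ρ y - 1) := by
  refine ⟨-(2 : K)⁻¹ • w, ?_⟩
  rw [LinearMap.sub_apply, Module.End.one_apply, map_smul, hw, ← smul_sub,
    show -w - w = -((2 : K) • w) by rw [two_smul]; abel, neg_smul, smul_neg, neg_neg, smul_smul,
    inv_mul_cancel₀ h2, one_smul]

/-- The semilinear core: all central elements of `P` are scalar. -/
theorem core [FiniteDimensional K W] (h2 : (2 : K) ≠ 0) {x : L} {m : ℕ} (hm : 2 ≤ m)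
    (hxm : x ^ 2 ^ m = 1) {P : Subgroup L} (hP : IsPGroup 2 P)
    (hxP : x ∈ Subgroup.normalizer (P : Set L))
    (hfix : ∀ w, ρ (x ^ 2 ^ (m - 1)) w = w → ρ x w = w)
    (hrank : finrank K (LinearMap.range (ρ (x ^ 2 ^ (m - 1)) - 1)) ≤ 2)
    (hcomm : ∀ a ∈ P, ∀ b ∈ P, ⁅a, b⁆ ∈ scalar ρ)
    (hnd : ∀ a ∈ P, a ∉ scalar ρ → ∃ b ∈ P, ρ ⁅b, a⁆ ≠ 1) :
    ∀ p ∈ P, ⁅x ^ 2 ^ (m - 1), p⁆ ∈ scalar ρ := by
  classical
  set k := 2 ^ (m - 1) with hk
  set y := x ^ k with hy
  have hkeven : Even k := Nat.even_pow.mpr ⟨even_two, by omega⟩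
  have hyy : y * y = 1 := by
    rw [hy, hk, ← pow_add, ← two_mul, ← pow_succ', Nat.sub_add_cancel (by omega), hxm]
  have hyinv : y⁻¹ = y := inv_eq_of_mul_eq_one_right hyy
  have hxy : x * y = y * x := (Commute.refl x).pow_right k
  -- if `y` acts as an element of `P` there is nothing to prove
  by_cases hinn : ∃ g ∈ P, ρ g = ρ y
  · obtain ⟨g, hg, hgy⟩ := hinn
    intro p hp
    obtain ⟨c, hc⟩ := hcomm g hg p hp
    refine ⟨c, ?_⟩
    have hginv : ρ y⁻¹ = ρ g⁻¹ := by
      calc ρ y⁻¹ = ρ y⁻¹ * (ρ g * ρ g⁻¹) := by rw [← map_mul ρ g, mul_inv_cancel, map_one, mul_one]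
        _ = ρ g⁻¹ := by rw [hgy, ← mul_assoc, ← map_mul, inv_mul_cancel, map_one, one_mul]
    rw [← hc, commutatorElement_def, commutatorElement_def]
    simp only [map_mul, hgy, hginv]
  push Not at hinn
  by_cases hall : ∀ a ∈ P, a ∈ scalar ρ
  · intro p hp
    exact ⟨1, by
      rw [one_smul]
      exact commutator_eq_one_of_commute ρ (comm_scalar_of_mem ρ (hall p hp) y).symm⟩
  push Not at hall
  -- the scalar of a non-trivial commutator and its order
  have hscal2 : ∀ a ∈ P, ∀ b ∈ P, ∀ s : K, ρ ⁅a, b⁆ = s • 1 → ∃ j, s ^ 2 ^ j = 1 := by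
    intro a ha b hb s hs
    obtain ⟨j, hj⟩ := hP ⟨⁅a, b⁆, by
      rw [commutatorElement_def]
      exact P.mul_mem (P.mul_mem (P.mul_mem ha hb) (P.inv_mem ha)) (P.inv_mem hb)⟩
    refine ⟨j, ?_⟩
    have h1 := congrArg (fun g : P => ρ (g : L)) hj
    simp only [Subgroup.coe_pow, map_pow, Subgroup.coe_one, map_one, hs, smul_pow, one_pow] at h1
    by_contra hne
    obtain ⟨a0, -, ha0⟩ := hall
    have : Nontrivial W := by
      by_contra hsub
      rw [not_nontrivial_iff_subsingleton] at hsub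
      exact ha0 ⟨1, LinearMap.ext fun w => Subsingleton.elim _ _⟩
    exact hne (smul_left_injective K (one_ne_zero (α := Module.End K W))
      (h1.trans (one_smul K 1).symm))
  -- the dimension is even, so the fixed points of `y` fill at least half of it
  have hnt : Nontrivial W := by
    obtain ⟨a0, -, ha0⟩ := hall
    by_contra hsub
    rw [not_nontrivial_iff_subsingleton] at hsub
    exact ha0 ⟨1, LinearMap.ext fun w => Subsingleton.elim _ _⟩
  have hDeven : Even (finrank K W) := by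
    obtain ⟨a, ha, has⟩ := hall
    obtain ⟨b, hb, hba⟩ := hnd a ha has
    obtain ⟨s, hs⟩ := hcomm b hb a ha
    obtain ⟨j, hj⟩ := hscal2 b hb a ha s hs
    by_contra hodd
    rw [Nat.not_even_iff_odd] at hodd
    refine hba ?_
    have hdet := congrArg LinearMap.det hs
    rw [LinearMap.det_smul, map_one, mul_one, commutatorElement_def, map_mul, map_mul, map_mul,
      map_mul, map_mul, map_mul] at hdet
    have hd1 : ∀ g : L, LinearMap.det (ρ g) * LinearMap.det (ρ g⁻¹) = 1 := fun g => by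
      rw [← map_mul LinearMap.det, ← map_mul ρ, mul_inv_cancel, map_one, map_one]
    rw [show LinearMap.det (ρ b) * LinearMap.det (ρ a) * LinearMap.det (ρ b⁻¹) *
        LinearMap.det (ρ a⁻¹) = (LinearMap.det (ρ b) * LinearMap.det (ρ b⁻¹)) *
        (LinearMap.det (ρ a) * LinearMap.det (ρ a⁻¹)) by ring, hd1, hd1, one_mul] at hdet
    have h1 : orderOf s ∣ Nat.gcd (2 ^ j) (finrank K W) :=
      Nat.dvd_gcd (orderOf_dvd_of_pow_eq_one hj) (orderOf_dvd_of_pow_eq_one hdet.symm)
    rw [Nat.Coprime.gcd_eq_one (Nat.Coprime.pow_left j (Nat.coprime_two_left.mpr hodd)),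
      Nat.dvd_one, orderOf_eq_one_iff] at h1
    rw [hs, h1, one_smul]
  set W0 := LinearMap.range (ρ y - 1) with hW0
  set U := LinearMap.ker (ρ y - 1) with hU
  have hmemU : ∀ w, w ∈ U ↔ ρ y w = w := fun w => by
    rw [hU, LinearMap.mem_ker, LinearMap.sub_apply, Module.End.one_apply, sub_eq_zero]
  have hneg : ∀ w ∈ W0, ρ y w = -w := fun w hw => apply_eq_neg_of_mem_range ρ hyy hw
  have hdim : finrank K W0 + finrank K U = finrank K W := finrank_ker_add_range (ρ y - 1)
  have hsplit : ∀ w : W, ∃ u ∈ U, ∃ v ∈ W0, w = u + v := by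
    intro w
    refine ⟨(2 : K)⁻¹ • (w + ρ y w), ?_, (2 : K)⁻¹ • (w - ρ y w), ?_, ?_⟩
    · rw [hmemU, map_smul, map_add, ← mul_apply', hyy, map_one, Module.End.one_apply, add_comm]
    · refine W0.smul_mem _ ⟨-w, ?_⟩
      rw [LinearMap.sub_apply, Module.End.one_apply, map_neg]
      abel
    · rw [← smul_add, show w + ρ y w + (w - ρ y w) = (2 : K) • w by rw [two_smul]; abel,
        smul_smul, inv_mul_cancel₀ h2, one_smul]
  by_cases hD2 : finrank K U < finrank K W0
  · -- then `U = 0` and `y` is scalar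
    intro p _
    have hU0 : finrank K U = 0 := by
      obtain ⟨t, ht⟩ := hDeven
      omega
    have hyneg : ρ y = (-1 : K) • 1 := LinearMap.ext fun w => by
      obtain ⟨u, hu, v, hv, rfl⟩ := hsplit w
      rw [Submodule.finrank_eq_zero.mp hU0, Submodule.mem_bot] at hu
      rw [hu, zero_add, hneg v hv, LinearMap.smul_apply, Module.End.one_apply, neg_smul, one_smul]
    exact ⟨1, by
      rw [one_smul]
      exact commutator_eq_one_of_commute ρ (comm_scalar_of_mem ρ ⟨-1, hyneg⟩ p)⟩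
  push Not at hD2
  have hyne : ρ y ≠ 1 := fun h => hinn 1 P.one_mem (by rw [map_one, h])
  have hx_on_U : ∀ u ∈ U, ρ x u = u := fun u hu => hfix u ((hmemU u).mp hu)
  have hxinv_U : ∀ u ∈ U, ρ x⁻¹ u = u := fun u hu => by
    conv_lhs => rw [← hx_on_U u hu]
    rw [rho_inv_apply]
  -- an element of `P` commuting with `y` is fixed by `x` modulo scalars
  have hfixB : ∀ c ∈ P, ρ y * ρ c = ρ c * ρ y → ⁅x, c⁆ ∈ scalar ρ := by
    intro c hc hyc
    by_contra hw
    set w := ⁅x, c⁆ with hwdef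
    have hwP : w ∈ P := by
      rw [hwdef, commutatorElement_def]
      exact P.mul_mem ((Subgroup.mem_normalizer_iff.mp hxP c).mp hc) (P.inv_mem hc)
    have hcom' : ∀ g : L, ρ y * ρ g = ρ g * ρ y → ∀ u, ρ y (ρ g u) = ρ g (ρ y u) :=
      fun g h u => LinearMap.congr_fun h u
    have hycinv : ρ y * ρ c⁻¹ = ρ c⁻¹ * ρ y := by
      calc ρ y * ρ c⁻¹ = ρ c⁻¹ * (ρ c * ρ y) * ρ c⁻¹ := by
            rw [← mul_assoc, ← map_mul ρ c⁻¹ c, inv_mul_cancel, map_one, one_mul]
        _ = ρ c⁻¹ * ρ y := by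
            rw [← hyc, mul_assoc, mul_assoc, ← map_mul ρ c c⁻¹, mul_inv_cancel, map_one, mul_one]
    have hwU : ∀ u ∈ U, ρ w u = u := by
      intro u hu
      have h1 : ρ c⁻¹ u ∈ U := (hmemU _).mpr (by rw [hcom' _ hycinv, (hmemU u).mp hu])
      rw [hwdef, commutatorElement_def, mul_apply', mul_apply', mul_apply', hxinv_U _ h1,
        rho_apply_inv, hx_on_U u hu]
    obtain ⟨v, hv, hvw⟩ := hnd w hwP hw
    obtain ⟨s, hs⟩ := hcomm v hv w hwP
    have hs1 : s ≠ 1 := fun h => hvw (by rw [hs, h, one_smul])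
    obtain ⟨j, hj⟩ := hscal2 v hv w hwP s hs
    have hs0 : s ≠ 0 := fun h => by rw [h, zero_pow (by positivity)] at hj; exact zero_ne_one hj
    -- `v` maps the fixed points of `w` into the `s⁻¹`-eigenspace
    let E := LinearMap.ker (ρ w - s⁻¹ • 1)
    let F := LinearMap.ker (ρ w - 1)
    have hmemE : ∀ u, u ∈ E ↔ ρ w u = s⁻¹ • u := fun u => by
      simp [E, sub_eq_zero]
    have hmemF : ∀ u, u ∈ F ↔ ρ w u = u := fun u => by simp [F, sub_eq_zero]
    have hvF : F.map (ρ v) ≤ E := by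
      rintro _ ⟨u, hu, rfl⟩
      rw [hmemE]
      have h1 : ρ v * ρ w = s • (ρ w * ρ v) := by
        calc ρ v * ρ w = ρ (⁅v, w⁆ * (w * v)) := by
              rw [← map_mul]; congr 1; simp [commutatorElement_def, mul_assoc]
          _ = s • (ρ w * ρ v) := by rw [map_mul, hs, smul_one_mul, map_mul]
      have h3 := LinearMap.congr_fun h1 u
      rw [Module.End.mul_apply, (hmemF u).mp hu, LinearMap.smul_apply, Module.End.mul_apply] at h3
      conv_rhs => rw [h3]
      rw [smul_smul, inv_mul_cancel₀ hs0, one_smul]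
    have hinjv : Function.Injective (ρ v) := Function.LeftInverse.injective (rho_inv_apply ρ v)
    have hEF : finrank K F ≤ finrank K E :=
      (Submodule.equivMapOfInjective _ hinjv F).finrank_eq.trans_le (Submodule.finrank_mono hvF)
    have hdisj : E ⊓ F = ⊥ := by
      rw [eq_bot_iff]
      rintro u ⟨h1, h3⟩
      rw [SetLike.mem_coe, hmemE, (hmemF u).mp h3] at h1
      have : (1 - s⁻¹) • u = 0 := by rw [sub_smul, one_smul, ← h1, sub_self]
      rcases smul_eq_zero.mp this with h | h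
      · exact absurd (inv_eq_one.mp (sub_eq_zero.mp h).symm) hs1
      · exact (Submodule.mem_bot K).mpr h
    have hUF : U ≤ F := fun u hu => (hmemF u).mpr (hwU u hu)
    have hsum : finrank K E + finrank K F ≤ finrank K W := by
      rw [← Submodule.finrank_sup_add_finrank_inf_eq, hdisj, finrank_bot, add_zero]
      exact Submodule.finrank_le _
    have hUF' := Submodule.finrank_mono hUF
    have hUeq : U = F := Submodule.eq_of_le_of_finrank_le hUF (by omega)
    -- so `E = W0` and `w` acts on it as the scalar `s⁻¹`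
    have hEW0 : E ≤ W0 := by
      intro e he
      obtain ⟨u, hu, v0, hv0, rfl⟩ := hsplit e
      have hyw : ρ y * ρ w = ρ w * ρ y := by
        have hyx : ∀ g, g * y = y * g → ρ y * ρ g = ρ g * ρ y := fun g h => by
          rw [← map_mul, ← map_mul, h]
        have hxi : x⁻¹ * y = y * x⁻¹ := (Commute.inv_left (hxy : Commute x y)).eq
        rw [hwdef, commutatorElement_def]
        simp only [map_mul]
        rw [← mul_assoc, ← mul_assoc, ← mul_assoc, hyx x hxy, mul_assoc (ρ x) (ρ y), hyc,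
          ← mul_assoc, mul_assoc (ρ x * ρ c) (ρ y), hyx x⁻¹ hxi, ← mul_assoc,
          mul_assoc (ρ x * ρ c * ρ x⁻¹) (ρ y), hycinv]
        simp only [mul_assoc]
      have hwv0 : ρ w v0 ∈ W0 := mem_range_of_neg ρ h2 (by
        rw [hcom' _ hyw, hneg v0 hv0, map_neg])
      have h1 := (hmemE _).mp he
      rw [map_add, hwU u hu, smul_add] at h1
      have h3 : u - s⁻¹ • u = s⁻¹ • v0 - ρ w v0 := by
        rw [sub_eq_sub_iff_add_eq_add, h1]; abel
      have h4 : u - s⁻¹ • u ∈ W0 := h3 ▸ W0.sub_mem (W0.smul_mem _ hv0) hwv0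
      have h5 : u - s⁻¹ • u = 0 := by
        have hUmem : u - s⁻¹ • u ∈ U := U.sub_mem hu (U.smul_mem _ hu)
        have h6 := hneg _ h4
        rw [(hmemU _).mp hUmem] at h6
        have : (2 : K) • (u - s⁻¹ • u) = 0 := by rw [two_smul]; nth_rw 2 [h6]; abel
        exact (smul_eq_zero.mp this).resolve_left h2
      have h7 : (1 - s⁻¹) • u = 0 := by rw [sub_smul, one_smul, h5]
      rcases smul_eq_zero.mp h7 with h | h
      · exact absurd (inv_eq_one.mp (sub_eq_zero.mp h).symm) hs1
      · rw [h, zero_add]; exact hv0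
    have hEeq : E = W0 := Submodule.eq_of_le_of_finrank_le hEW0 (by rw [← hUeq] at hEF; omega)
    obtain ⟨i, hi⟩ := exists_pow_neg_one (s := s⁻¹) (k := j) (by rw [inv_pow, hj, inv_one])
      (by rw [ne_eq, inv_eq_one]; exact hs1)
    refine hinn (w ^ 2 ^ i) (P.pow_mem hwP _) (LinearMap.ext fun z => ?_)
    obtain ⟨u, hu, v0, hv0, rfl⟩ := hsplit z
    have hp1 : ∀ n : ℕ, (ρ (w ^ n)) u = u := by
      intro n
      induction n with
      | zero => rw [pow_zero, map_one, Module.End.one_apply]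
      | succ n ih => rw [pow_succ, mul_apply', hwU u hu, ih]
    have hp2 : ∀ n : ℕ, (ρ (w ^ n)) v0 = (s⁻¹) ^ n • v0 := by
      intro n
      induction n with
      | zero => rw [pow_zero, map_one, Module.End.one_apply, pow_zero, one_smul]
      | succ n ih =>
        rw [pow_succ, mul_apply', (hmemE v0).mp (hEeq ▸ hv0), map_smul, ih, smul_smul, pow_succ,
          mul_comm]
    rw [map_add, map_add, hp1, hp2, hi, (hmemU u).mp hu, hneg v0 hv0, neg_smul, one_smul]
  -- an element anticommuting with `y` cannot commute with `[x, c]`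
  have hanti : ∀ c ∈ P, ρ y * ρ c = (-1 : K) • (ρ c * ρ y) → ρ ⁅c, ⁅x, c⁆⁆ ≠ 1 := by
    intro c _ hyc h1
    have hc := commute_of_commutator ρ h1
    apply hyne
    have hW : ∀ v ∈ W0, ρ x v = ρ x⁻¹ v := by
      intro v hv
      have hcv : ρ c⁻¹ v ∈ U := by
        rw [hmemU]
        have h3 := LinearMap.congr_fun hyc (ρ c⁻¹ v)
        rw [Module.End.mul_apply, LinearMap.smul_apply, Module.End.mul_apply, rho_apply_inv,
          hneg v hv, neg_smul, one_smul] at h3
        apply (Function.LeftInverse.injective (rho_inv_apply ρ c) : Function.Injective (ρ c))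
        rw [rho_apply_inv]
        exact (neg_injective h3).symm
      have h7 : ρ x⁻¹ v ∈ W0 := by
        refine mem_range_of_neg ρ h2 ?_
        rw [← mul_apply' ρ y, ← ((Commute.inv_left (hxy : Commute x y)).eq), mul_apply',
          hneg _ hv, map_neg]
      have h8 : ρ c (ρ x⁻¹ v) ∈ U := by
        rw [hmemU]
        have h9 := LinearMap.congr_fun hyc (ρ x⁻¹ v)
        rw [Module.End.mul_apply, LinearMap.smul_apply, Module.End.mul_apply, hneg _ h7, map_neg,
          neg_smul, one_smul, neg_neg] at h9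
        exact h9
      have h4 := LinearMap.congr_fun hc v
      rw [Module.End.mul_apply, Module.End.mul_apply, commutatorElement_def,
        mul_apply', mul_apply', mul_apply', mul_apply', mul_apply', mul_apply',
        hxinv_U _ hcv, rho_apply_inv, rho_inv_apply, hx_on_U _ h8] at h4
      exact (Function.LeftInverse.injective (rho_inv_apply ρ c) : Function.Injective (ρ c)) h4
    refine LinearMap.ext fun z => ?_
    obtain ⟨u, hu, v, hv, rfl⟩ := hsplit z
    have hx2 : ρ (x ^ 2) v = v := by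
      rw [sq, mul_apply', hW v hv, rho_apply_inv]
    have hpow : ∀ n : ℕ, ρ ((x ^ 2) ^ n) v = v := by
      intro n
      induction n with
      | zero => rw [pow_zero, map_one, Module.End.one_apply]
      | succ n ih => rw [pow_succ, mul_apply', hx2, ih]
    have hyv : ρ y v = v := by
      obtain ⟨t, ht⟩ := hkeven
      rw [hy, ht, ← two_mul, pow_mul, hpow]
    rw [map_add, (hmemU u).mp hu, hyv, Module.End.one_apply]
  -- the quotient by the scalars
  set S : Subgroup P := (scalar ρ).subgroupOf P with hSdef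
  have : S.Normal := inferInstance
  have hSmem : ∀ a : P, a ∈ S ↔ (a : L) ∈ scalar ρ := fun a => Iff.rfl
  let _ : CommGroup (P ⧸ S) :=
    { (inferInstance : Group (P ⧸ S)) with
      mul_comm := fun u v => by
        obtain ⟨a, rfl⟩ := QuotientGroup.mk_surjective u
        obtain ⟨b, rfl⟩ := QuotientGroup.mk_surjective v
        rw [← QuotientGroup.mk_mul, ← QuotientGroup.mk_mul, QuotientGroup.eq, hSmem]
        have := hcomm _ (P.inv_mem b.2) _ (P.inv_mem a.2)
        rw [commutatorElement_def, inv_inv, inv_inv] at this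
        simpa [mul_assoc] using this }
  let π := QuotientGroup.mk' S
  have hπ : ∀ a b : P, π a = π b ↔ (a : L) * (b : L)⁻¹ ∈ scalar ρ := fun a b => by
    rw [← div_eq_one, ← map_div, QuotientGroup.mk'_apply, QuotientGroup.eq_one_iff, hSmem]
    simp [div_eq_mul_inv]
  let α : MulAut P := Subgroup.normalizerMonoidHom P ⟨x, hxP⟩
  have hα : ∀ a : P, ((α a : P) : L) = x * a * x⁻¹ := fun a => rfl
  have hαS : S.map α.toMonoidHom = S := by
    refine Subgroup.eq_of_le_of_card_ge ?_ (le_of_eq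
      (Subgroup.card_map_of_injective (f := α.toMonoidHom) α.injective).symm)
    rintro _ ⟨a, ha, rfl⟩
    exact (hSmem _).mpr ((scalar_normal ρ).conj_mem _ ha x)
  let θ : (P ⧸ S) →* (P ⧸ S) := (QuotientGroup.congr S S α hαS).toMonoidHom
  have hθ : ∀ a : P, θ (π a) = π (α a) := fun a => rfl
  let ψ : (P ⧸ S) →* (P ⧸ S) := θ / MonoidHom.id _
  have hψ : ∀ a : P, ∀ c : P, (c : L) = ⁅x, (a : L)⁆ → ψ (π a) = π c := by
    intro a c hc
    show θ (π a) / π a = π c
    rw [hθ, ← map_div, hπ]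
    have : ((α a / a : P) : L) = (c : L) := by
      rw [hc, commutatorElement_def, div_eq_mul_inv, Subgroup.coe_mul, Subgroup.coe_inv, hα]
    rw [this, mul_inv_cancel]
    exact (scalar ρ).one_mem
  have hcommP : ∀ a : P, ⁅x, (a : L)⁆ ∈ P := fun a => by
    rw [commutatorElement_def]
    exact P.mul_mem ((Subgroup.mem_normalizer_iff.mp hxP a).mp a.2) (P.inv_mem a.2)
  -- elements fixed by `y`
  have hC : ∀ a : P, ⁅y, (a : L)⁆ ∈ scalar ρ →
      ψ (π a) = 1 ∨ ρ y * ρ (a : L) = (-1 : K) • (ρ (a : L) * ρ y) := by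
    intro a ha
    obtain ⟨t, ht⟩ := ha
    have h1 : ρ y * ρ (a : L) = t • (ρ (a : L) * ρ y) := by
      calc ρ y * ρ (a : L) = ρ (⁅y, (a : L)⁆ * (a * y)) := by
            rw [← map_mul]; congr 1; simp [commutatorElement_def, mul_assoc]
        _ = t • (ρ (a : L) * ρ y) := by rw [map_mul, ht, smul_one_mul, map_mul]
    have ht2 : t * t = 1 := by
      refine smul_left_injective K (one_ne_zero (α := Module.End K W)) ?_
      calc (t * t) • (1 : Module.End K W) = ρ ⁅y * y, (a : L)⁆ :=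
            (rho_commutator_mul ρ ht ht).symm
        _ = (1 : K) • 1 := by rw [hyy, commutatorElement_one_left, map_one, one_smul]
    rcases mul_self_eq_one_iff.mp ht2 with rfl | rfl
    · left
      rw [hψ a ⟨_, hcommP a⟩ rfl, QuotientGroup.mk'_apply, QuotientGroup.eq_one_iff, hSmem]
      exact hfixB a a.2 (by rw [h1, one_smul])
    · exact Or.inr h1
  have hθpow : ∀ (n : ℕ) (a : P), (θ^[n]) (π a) = π ((α ^ n) a) := by
    intro n
    induction n with
    | zero => intro a; rfl
    | succ n ih =>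
      intro a
      rw [Function.iterate_succ_apply, hθ, ih, pow_succ, MulAut.mul_apply]
  have hαpow : ∀ (n : ℕ) (a : P), (((α ^ n) a : P) : L) = x ^ n * a * (x ^ n)⁻¹ := fun n a => by
    rw [← map_pow]; rfl
  have hθψ : ∀ u, θ u = ψ u * u := fun u => (div_mul_cancel (θ u) u).symm
  have hθy : ∀ a : P, (θ^[k]) (π a) = π a ↔ ⁅y, (a : L)⁆ ∈ scalar ρ := fun a => by
    rw [hθpow, hπ, hαpow, ← hy, commutatorElement_def]
  -- kernel of the square of `ψ`
  have hlin : ∀ u, ψ (ψ u) = 1 → ∀ n : ℕ, (θ^[n]) u = ψ u ^ n * u := by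
    intro u hu n
    induction n with
    | zero => simp
    | succ n ih =>
      rw [Function.iterate_succ_apply', ih, map_mul, map_pow, hθψ (ψ u), hu, one_mul, hθψ u,
        pow_succ, mul_assoc]
  have hker2 : ∀ u, ψ (ψ u) = 1 → (θ^[k]) u = u := by
    intro u hu
    obtain ⟨a, rfl⟩ := QuotientGroup.mk'_surjective S u
    have h2k : ψ (π a) ^ (2 * k) = 1 := by
      have h1 := hlin _ hu (2 * k)
      rw [hθpow] at h1
      have : (α ^ (2 * k)) a = a := Subtype.ext (by
        rw [hαpow, hk, ← pow_succ', Nat.sub_add_cancel (by omega), hxm, one_mul, inv_one, mul_one])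
      rw [this] at h1
      exact mul_eq_right.mp h1.symm
    have hsq : (θ^[k]) (π (a ^ 2)) = π (a ^ 2) := by
      rw [hlin _ (by rw [map_pow, map_pow, map_pow, hu, one_pow]) k, map_pow, map_pow, ← pow_mul,
        h2k, one_mul]
    rcases hC (a ^ 2) ((hθy _).mp hsq) with h | h
    · rw [map_pow, map_pow] at h
      obtain ⟨t, ht⟩ := hkeven
      rw [hlin _ hu k, ht, ← two_mul, pow_mul, h, one_pow, one_mul]
    · exfalso
      set b : P := ⟨_, hcommP a⟩ with hb
      have hψb : ψ (π a) = π b := hψ a b rfl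
      have hbfix : ψ (π b) = 1 := hψb ▸ hu
      -- `[x, a²]` commutes with `y`, so its square is scalar
      set c' : P := ⟨_, hcommP (a ^ 2)⟩ with hc'
      have hc'2 : π c' = π (b ^ 2) := by
        rw [← hψ (a ^ 2) c' rfl, map_pow, map_pow, hψb, map_pow]
      have hb4 : π (b ^ 4) = 1 := by
        have h4 : ψ (π (a ^ 2 * a ^ 2)) = π (b ^ 4) := by
          rw [map_mul, map_mul, map_pow π a 2, map_pow, hψb, ← pow_add, map_pow]
        rw [← h4]
        obtain ⟨t, ht⟩ : ∃ t : K, ρ ⁅y, ((a ^ 2 : P) : L)⁆ = t • 1 := (hθy _).mp hsq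
        refine (hC _ ?_).resolve_right fun h' => ?_
        · refine (hθy _).mp ?_
          rw [map_mul]
          exact (iterate_map_mul θ k _ _).trans (by rw [hsq])
        · rw [Subgroup.coe_mul, map_mul, ← mul_assoc, h, smul_mul_assoc, mul_assoc, h,
            mul_smul_comm, smul_smul, neg_mul_neg, one_mul, one_smul, ← mul_assoc] at h'
          have : (2 : K) • (ρ ((a ^ 2 : P) : L) * ρ ((a ^ 2 : P) : L) * ρ y) = 0 := by
            rw [two_smul]; nth_rw 1 [h']; rw [neg_smul, one_smul, neg_add_cancel]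
          rcases smul_eq_zero.mp this with h0 | h0
          · exact h2 h0
          · rw [← map_mul, ← map_mul] at h0
            obtain ⟨w, hw⟩ := exists_ne (0 : W)
            have h9 := rho_inv_apply ρ (((a ^ 2 : P) : L) * ((a ^ 2 : P) : L) * y) w
            rw [h0, LinearMap.zero_apply, map_zero] at h9
            exact hw h9.symm
      obtain ⟨s, hs⟩ := hcomm _ b.2 _ a.2
      have hs4 : s ^ 4 = 1 := by
        refine smul_left_injective K (one_ne_zero (α := Module.End K W)) ?_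
        rw [QuotientGroup.mk'_apply, QuotientGroup.eq_one_iff, hSmem, Subgroup.coe_pow] at hb4
        calc (s ^ 4) • (1 : Module.End K W) = ρ ⁅(b : L) ^ 4, (a : L)⁆ :=
              (rho_commutator_pow ρ hs 4).symm
          _ = (1 : K) • 1 := by
              rw [one_smul]; exact commutator_eq_one_of_commute ρ (comm_scalar_of_mem ρ hb4 _)
      have hba : ρ ⁅(a : L) ^ 2, (b : L) ^ 2⁆ = 1 := by
        have h1 : ρ ⁅(b : L) ^ 2, (a : L)⁆ = (s ^ 2) • 1 := rho_commutator_pow ρ hs 2
        obtain ⟨t, ht⟩ := hcomm _ a.2 _ (P.pow_mem b.2 2)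
        have h3 : t * s ^ 2 = 1 := by
          refine smul_left_injective K (one_ne_zero (α := Module.End K W)) ?_
          calc (t * s ^ 2) • (1 : Module.End K W) =
              ρ ⁅(a : L), (b : L) ^ 2⁆ * ρ ⁅(b : L) ^ 2, (a : L)⁆ := by
                rw [ht, h1, smul_one_mul, smul_smul]
            _ = (1 : K) • 1 := by
                rw [one_smul, ← map_mul, ← commutatorElement_inv, inv_mul_cancel, map_one]
        rw [rho_commutator_pow ρ ht 2]
        have : t ^ 2 = 1 := by linear_combination t * s ^ 2 * h3 + h3 - t ^ 2 * hs4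
        rw [this, one_smul]
      refine hanti _ (a ^ 2).2 h (commutator_eq_one_of_commute ρ ?_)
      obtain ⟨z, hz⟩ := (hπ c' (b ^ 2)).mp hc'2
      have h5 : ρ (c' : L) = z • ρ ((b : L) ^ 2) := by
        rw [← Subgroup.coe_pow]
        calc ρ (c' : L) = ρ ((c' : L) * ((b ^ 2 : P) : L)⁻¹ * ((b ^ 2 : P) : L)) := by
              rw [inv_mul_cancel_right]
          _ = z • ρ ((b ^ 2 : P) : L) := by rw [map_mul, hz, smul_one_mul]
      show ρ ((a : L) ^ 2) * ρ (c' : L) = ρ (c' : L) * ρ ((a : L) ^ 2)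
      rw [h5, mul_smul_comm, smul_mul_assoc, commute_of_commutator ρ hba]
  have hker3 : ∀ u, ψ (ψ (ψ u)) = 1 → ψ (ψ u) = 1 := by
    intro u hu
    obtain ⟨b, rfl⟩ := QuotientGroup.mk'_surjective S u
    set c : P := ⟨_, hcommP b⟩ with hcdef
    have hψb : ψ (π b) = π c := hψ b c rfl
    rw [hψb] at hu ⊢
    rcases hC c ((hθy c).mp (hker2 _ hu)) with h | h
    · exact h
    exfalso
    set c' : P := ⟨_, hcommP c⟩ with hc'def
    have hc'fix : π (α c') = π c' := by
      rw [← hθ, hθψ]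
      rw [hψ c c' rfl] at hu
      rw [hu, one_mul]
    have hbα : π (α b) = π (c * b) := by rw [← hθ, hθψ, hψb, map_mul]
    obtain ⟨z1, hz1⟩ := (hπ _ _).mp hc'fix
    obtain ⟨z2, hz2⟩ := (hπ _ _).mp hbα
    refine hanti _ c.2 h ?_
    obtain ⟨s, hs⟩ := hcomm _ b.2 _ c'.2
    obtain ⟨t, ht⟩ := hcomm _ c.2 _ c'.2
    have hcomp : ∀ g1 g2 g3 g4 : L, ∀ d1 d2 : K, ρ g1 = d1 • ρ g3 → ρ g2 = d2 • ρ g4 →
        ρ ⁅g1, g2⁆ = ρ ⁅g3, g4⁆ := by
      intro g1 g2 g3 g4 d1 d2 e1 e2
      have hinvs : ∀ g g' : L, ∀ d : K, ρ g = d • ρ g' → ρ g⁻¹ = d⁻¹ • ρ g'⁻¹ := by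
        intro g g' d e
        rcases eq_or_ne d 0 with rfl | hd
        · rw [zero_smul] at e
          rw [inv_zero, zero_smul]
          calc ρ g⁻¹ = ρ g⁻¹ * ρ g * ρ g⁻¹ := by rw [← map_mul, inv_mul_cancel, map_one, one_mul]
            _ = 0 := by rw [e, mul_zero, zero_mul]
        · calc ρ g⁻¹ = d⁻¹ • (ρ g⁻¹ * (d • ρ g') * ρ g'⁻¹) := by
                rw [mul_smul_comm, smul_mul_assoc, smul_smul, inv_mul_cancel₀ hd, one_smul,
                  mul_assoc, ← map_mul ρ g', mul_inv_cancel, map_one, mul_one]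
            _ = d⁻¹ • ρ g'⁻¹ := by
                rw [← e, ← map_mul ρ g⁻¹, inv_mul_cancel, map_one, one_mul]
      have hd : ∀ g g' : L, ∀ d : K, ρ g = d • ρ g' → d ≠ 0 := by
        intro g g' d e hd0
        rw [hd0, zero_smul] at e
        obtain ⟨w, hw⟩ := exists_ne (0 : W)
        have := rho_inv_apply ρ g w
        rw [e, LinearMap.zero_apply, map_zero] at this
        exact hw this.symm
      rw [commutatorElement_def, commutatorElement_def, map_mul, map_mul, map_mul, map_mul,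
        map_mul, map_mul, hinvs _ _ _ e1, hinvs _ _ _ e2, e1, e2]
      simp only [smul_mul_assoc, mul_smul_comm, smul_smul]
      rw [show d2⁻¹ * (d1⁻¹ * (d2 * d1)) = 1 by
        have := hd _ _ _ e1; have := hd _ _ _ e2; field_simp, one_smul]
    have hdec : ∀ (g g' : L) (z : K), ρ (g * g'⁻¹) = z • 1 → ρ g = z • ρ g' := fun g g' z e => by
      calc ρ g = ρ (g * g'⁻¹) * ρ g' := by rw [← map_mul, inv_mul_cancel_right]
        _ = z • ρ g' := by rw [e, smul_one_mul]
    have h1 : ρ ⁅((α b : P) : L), ((α c' : P) : L)⁆ = s • 1 := by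
      rw [hα, hα, show ⁅x * (b : L) * x⁻¹, x * (c' : L) * x⁻¹⁆ = x * ⁅(b : L), (c' : L)⁆ * x⁻¹ by
          simp only [commutatorElement_def]; group,
        map_mul, map_mul, hs, mul_smul_comm, mul_one, smul_mul_assoc, ← map_mul, mul_inv_cancel,
        map_one]
    have h3 : ρ ⁅((c * b : P) : L), (c' : L)⁆ = (t * s) • 1 := by
      rw [Subgroup.coe_mul]
      exact rho_commutator_mul ρ ht hs
    rw [hcomp _ _ _ _ _ _ (hdec _ _ _ hz2) (hdec _ _ _ hz1), h3] at h1
    have hs0 : s ≠ 0 := by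
      rintro rfl
      obtain ⟨w, hw⟩ := exists_ne (0 : W)
      have := rho_inv_apply ρ ⁅(b : L), (c' : L)⁆ w
      rw [hs, zero_smul, LinearMap.zero_apply, map_zero] at this
      exact hw this.symm
    have ht1 : t = 1 := (mul_eq_right₀ hs0).mp
      (smul_left_injective K (one_ne_zero (α := Module.End K W)) h1)
    show ρ ⁅(c : L), (c' : L)⁆ = 1
    rw [ht, ht1, one_smul]
  -- `ψ` is nilpotent, so `ψ ∘ ψ` is trivial
  intro p hp
  suffices h : ψ (ψ (π ⟨p, hp⟩)) = 1 from (hθy ⟨p, hp⟩).mp (hker2 _ h)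
  by_contra hne
  have hchain : ∀ n : ℕ, ψ (ψ ((ψ^[n]) (π ⟨p, hp⟩))) ≠ 1 := by
    intro n
    induction n with
    | zero => exact hne
    | succ n ih => exact fun h => ih (hker3 _ (by rw [Function.iterate_succ_apply'] at h; exact h))
  -- the elements reached are periodic under `ψ`
  obtain ⟨i, j, hij, heq⟩ : ∃ i j : ℕ, i < j ∧ (ψ^[i]) (π ⟨p, hp⟩) = (ψ^[j]) (π ⟨p, hp⟩) := by
    obtain ⟨i, j, hne', h⟩ := Finite.exists_ne_map_eq_of_infinite fun n : ℕ => (ψ^[n]) (π ⟨p, hp⟩)
    rcases lt_or_gt_of_ne hne' with hl | hl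
    · exact ⟨i, j, hl, h⟩
    · exact ⟨j, i, hl, h.symm⟩
  -- the subgroup of periodic points
  set d := j - i with hd
  have hper : (ψ^[d]) ((ψ^[i]) (π ⟨p, hp⟩)) = (ψ^[i]) (π ⟨p, hp⟩) := by
    rw [← Function.iterate_add_apply, show d + i = j by omega, ← heq]
  let H : Subgroup (P ⧸ S) :=
    { carrier := {u | (ψ^[d]) u = u}
      one_mem' := iterate_map_one ψ d
      mul_mem' := fun {u v} hu hv => by
        show (ψ^[d]) (u * v) = u * v
        rw [iterate_map_mul, hu, hv]
      inv_mem' := fun {u} hu => by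
        show (ψ^[d]) u⁻¹ = u⁻¹
        rw [iterate_map_inv, hu] }
  have hHθ : ∀ u ∈ H, θ u ∈ H := fun u hu => by
    rw [hθψ]
    refine H.mul_mem ?_ hu
    show (ψ^[d]) (ψ u) = ψ u
    rw [← Function.iterate_succ_apply, Function.iterate_succ_apply', hu]
  let X : Subgroup (MulAut (P ⧸ S)) := Subgroup.zpowers (QuotientGroup.congr S S α hαS)
  set β := QuotientGroup.congr S S α hαS
  have hX : IsPGroup 2 X := by
    refine IsPGroup.of_card (n := (Nat.card X).factorization 2) ?_
    have hd2 : Nat.card X ∣ 2 ^ m := by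
      rw [Nat.card_zpowers]
      refine orderOf_dvd_of_pow_eq_one (MulEquiv.ext fun u => ?_)
      obtain ⟨a, rfl⟩ := QuotientGroup.mk'_surjective S u
      have hb : ∀ n : ℕ, (β ^ n) (π a) = (θ^[n]) (π a) := by
        intro n
        induction n with
        | zero => rfl
        | succ n ih => rw [pow_succ', MulAut.mul_apply, ih, Function.iterate_succ_apply']; rfl
      rw [hb, hθpow, MulAut.one_apply]
      congr 1
      exact Subtype.ext (by rw [hαpow, hxm, one_mul, inv_one, mul_one])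
    obtain ⟨e, -, he⟩ := (Nat.dvd_prime_pow Nat.prime_two).mp hd2
    rw [he, Nat.factorization_pow, Finsupp.smul_apply, Nat.Prime.factorization_self Nat.prime_two]
    simp
  have hstab : ∀ g ∈ X, ∀ u ∈ H, g u ∈ H := by
    intro g hg
    obtain ⟨n, rfl⟩ := mem_powers_iff_mem_zpowers.mpr hg
    induction n with
    | zero => intro u hu; simpa using hu
    | succ n ih =>
      intro u hu
      show (β ^ (n + 1)) u ∈ H
      rw [pow_succ', MulAut.mul_apply]
      exact hHθ _ (ih (mem_powers_iff_mem_zpowers.mp ⟨n, rfl⟩) u hu)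
  let act : MulAction X H :=
    { smul := fun g u => ⟨(g : MulAut (P ⧸ S)) u, hstab g g.2 u u.2⟩
      one_smul := fun u => Subtype.ext rfl
      mul_smul := fun g g' u => Subtype.ext rfl }
  have hHne : (ψ^[i]) (π ⟨p, hp⟩) ≠ 1 := fun h => hchain i (by rw [h, map_one, map_one])
  have hHcard : 2 ∣ Nat.card H := by
    have hPq : IsPGroup 2 H := (hP.to_quotient S).to_subgroup H
    obtain ⟨e, he⟩ := IsPGroup.iff_card.mp hPq
    rcases e with _ | e
    · rw [pow_zero] at he
      have hbot : H = ⊥ := Subgroup.card_eq_one.mp he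
      have hm' : (ψ^[i]) (π ⟨p, hp⟩) ∈ H := hper
      rw [hbot, Subgroup.mem_bot] at hm'
      exact absurd hm' hHne
    · rw [he]; exact dvd_pow_self 2 (by omega)
  have hfix1 : (1 : H) ∈ MulAction.fixedPoints X H := fun g => by
    refine Subtype.ext ?_
    show ((g : MulAut (P ⧸ S)) : (P ⧸ S) ≃* (P ⧸ S)) 1 = 1
    exact map_one _
  obtain ⟨u, hu, hu1⟩ := hX.exists_fixed_point_of_prime_dvd_card_of_fixed_point H hHcard hfix1
  have hu' : θ (u : P ⧸ S) = u :=
    congrArg Subtype.val (hu ⟨β, Subgroup.mem_zpowers β⟩)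
  have hψu : ψ (u : P ⧸ S) = 1 := mul_eq_right.mp ((hθψ _).symm.trans hu')
  have hper' : (ψ^[d]) (u : P ⧸ S) = u := u.2
  obtain ⟨d', hd'⟩ : ∃ d', d = d' + 1 := ⟨d - 1, by omega⟩
  rw [hd', Function.iterate_succ_apply, hψu, iterate_map_one] at hper'
  exact hu1 (Subtype.ext hper')

end rep

end Cfsg.Agent.GrossClassTwo
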