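import Mathlib
import Cfsg.Agent.Lib.GrossClassTwo

/-!
# Gross: the 2-group `P = [P, R]` acts trivially
-/

set_option autoImplicit false

namespace Cfsg.Agent.GrossClassTwo

open Module
open scoped commutatorElement

variable {K : Type*} [Field K] {W : Type*} [AddCommGroup W] [Module K W]
variable {L : Type*} [Group L] [Finite L] (ρ : Representation K L W)

/-- The representation on an invariant subspace. -/
def subFull (U : Submodule K W) (hU : ∀ g : L, ∀ w ∈ U, ρ g w ∈ U) : Representation K L U where
  toFun g := (ρ g).restrict (hU g)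
  map_one' := LinearMap.ext fun w => Subtype.ext (by simp)
  map_mul' a b := LinearMap.ext fun w => Subtype.ext (by
    show ρ (a * b) w = _; rw [map_mul]; rfl)

/-- The representation on a quotient. -/
def quotFull (U : Submodule K W) (hU : ∀ g : L, ∀ w ∈ U, ρ g w ∈ U) :
    Representation K L (W ⧸ U) where
  toFun g := U.mapQ U (ρ g) (hU g)
  map_one' := Submodule.linearMap_qext _ (LinearMap.ext fun w => by simp)
  map_mul' a b := Submodule.linearMap_qext _ (LinearMap.ext fun w => by
    show Submodule.Quotient.mk (ρ (a * b) w) = _; rw [map_mul]; rfl)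

/-- The common eigenspace of a character. -/
def eigenChar (A : Subgroup L) (l : A → K) : Submodule K W :=
  ⨅ a : A, LinearMap.ker (ρ (a : L) - l a • 1)

omit [Finite L] in
theorem mem_eigenChar {A : Subgroup L} {l : A → K} {w : W} :
    w ∈ eigenChar ρ A l ↔ ∀ a : A, ρ (a : L) w = l a • w := by
  simp [eigenChar, sub_eq_zero]

omit [Finite L] in
/-- Eigenvectors of distinct characters are independent. -/
theorem eq_zero_of_sum_eigen {A : Subgroup L} {ι : Type*} (s : Finset ι) (l : ι → A → K)
    (w : ι → W) (hw : ∀ i ∈ s, w i ∈ eigenChar ρ A (l i))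
    (hl : ∀ i ∈ s, ∀ j ∈ s, i ≠ j → l i ≠ l j) (h0 : ∑ i ∈ s, w i = 0) : ∀ i ∈ s, w i = 0 := by
  classical
  induction s using Finset.induction_on generalizing w with
  | empty => intro i hi; simp at hi
  | insert j s hj ih =>
    have key : ∀ i ∈ s, w i = 0 := by
      intro i hi
      obtain ⟨a, ha⟩ := Function.ne_iff.mp
        (hl i (Finset.mem_insert_of_mem hi) j (Finset.mem_insert_self j s) (by rintro rfl; exact hj hi))
      have h1 := ih (fun t => (l t a - l j a) • w t)
        (fun t ht => (eigenChar ρ A (l t)).smul_mem _ (hw t (Finset.mem_insert_of_mem ht)))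
        (fun t ht u hu => hl t (Finset.mem_insert_of_mem ht) u (Finset.mem_insert_of_mem hu)) ?_ i hi
      · exact (smul_eq_zero.mp h1).resolve_left (sub_ne_zero.mpr ha)
      · have h2 : ∑ t ∈ insert j s, (l t a - l j a) • w t = 0 := by
          have h3 := congrArg (ρ (a : L)) h0
          rw [map_sum, map_zero, Finset.sum_congr rfl fun t ht =>
            (mem_eigenChar ρ).mp (hw t ht) a] at h3
          simp only [sub_smul]
          rw [Finset.sum_sub_distrib, h3, ← Finset.smul_sum, h0, smul_zero, sub_zero]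
        rwa [Finset.sum_insert hj, sub_self, zero_smul, zero_add] at h2
    intro i hi
    rcases Finset.mem_insert.mp hi with rfl | hi
    · rwa [Finset.sum_insert hj, Finset.sum_eq_zero key, add_zero] at h0
    · exact key i hi

theorem trivial_of_class_two_gen [IsAlgClosed K] (n : ℕ) :
    ∀ {W : Type*} [AddCommGroup W] [Module K W] [FiniteDimensional K W] (ρ : Representation K L W)
      (_ : finrank K W ≤ n) (_ : (2 : K) ≠ 0) {x : L} {m : ℕ} (_ : 2 ≤ m) (_ : x ^ 2 ^ m = 1)
      {P R : Subgroup L} (_ : IsPGroup 2 P) (_ : P.Normal)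
      (_ : P ⊔ R ⊔ Subgroup.zpowers x = ⊤)
      (_ : ⁅R, Subgroup.zpowers (x ^ 2 ^ (m - 1))⁆ = R) (_ : ⁅P, R⁆ = P)
      (_ : ∀ w, ρ (x ^ 2 ^ (m - 1)) w = w → ρ x w = w)
      (_ : finrank K (LinearMap.range (ρ (x ^ 2 ^ (m - 1)) - 1)) ≤ 2)
      (_ : ∀ a ∈ P, ∀ b ∈ P, ∀ c ∈ P, ρ ⁅c, ⁅a, b⁆⁆ = 1),
      ∀ p ∈ P, ρ p = 1 := by
  induction n with
  | zero =>
    intro W _ _ _ ρ hn _ x m _ _ P R _ _ _ _ _ _ _ _ p _
    have : Subsingleton W := Module.finrank_zero_iff.mp (Nat.le_zero.mp hn)
    exact Subsingleton.elim _ _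
  | succ n ih =>
    intro W _ _ _ ρ hn h2 x m hm hxm P R hP hPn hgen hRy hPR hfix hrank hcl p hp
    classical
    set y := x ^ 2 ^ (m - 1) with hy
    have hyy : y * y = 1 := by
      rw [hy, ← pow_add, ← two_mul, ← pow_succ', Nat.sub_add_cancel (by omega), hxm]
    by_cases hred : ∃ U : Submodule K W, (∀ g : L, ∀ w ∈ U, ρ g w ∈ U) ∧ U ≠ ⊥ ∧ U ≠ ⊤
    · obtain ⟨U, hUinv, hU0, hU1⟩ := hred
      have hdim := U.finrank_quotient_add_finrank
      have hUpos : 0 < finrank K U := by
        rw [Nat.pos_iff_ne_zero]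
        exact fun h0 => hU0 (Submodule.finrank_eq_zero.mp h0)
      have hUlt : finrank K U < finrank K W := Submodule.finrank_lt hU1
      have hs : ∀ p ∈ P, subFull ρ U hUinv p = 1 := by
        refine ih (subFull ρ U hUinv) (by omega) h2 hm hxm hP hPn hgen hRy hPR ?_ ?_ ?_
        · intro w hw
          exact Subtype.ext (hfix w (congrArg Subtype.val hw))
        · have hle : (LinearMap.range (subFull ρ U hUinv y - 1)).map U.subtype ≤
              LinearMap.range (ρ y - 1) := by
            rintro _ ⟨_, ⟨w, rfl⟩, rfl⟩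
            exact ⟨w, rfl⟩
          have := Submodule.finrank_mono hle
          rw [Submodule.finrank_map_subtype_eq] at this
          exact this.trans hrank
        · intro a ha b hb c hc
          refine LinearMap.ext fun w => Subtype.ext ?_
          show ρ ⁅c, ⁅a, b⁆⁆ w = w
          rw [hcl a ha b hb c hc, Module.End.one_apply]
      have hq : ∀ p ∈ P, quotFull ρ U hUinv p = 1 := by
        refine ih (quotFull ρ U hUinv) (by omega) h2 hm hxm hP hPn hgen hRy hPR ?_ ?_ ?_
        · intro v hv
          obtain ⟨w, rfl⟩ := Submodule.Quotient.mk_surjective U v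
          have hv' : Submodule.Quotient.mk (p := U) (ρ y w) = Submodule.Quotient.mk w := hv
          set w' := (2 : K)⁻¹ • (w + ρ y w) with hw'
          have hw'U : Submodule.Quotient.mk (p := U) w' = Submodule.Quotient.mk w := by
            rw [hw', Submodule.Quotient.mk_smul, Submodule.Quotient.mk_add, hv', ← two_smul K,
              smul_smul, inv_mul_cancel₀ h2, one_smul]
          have hw'y : ρ y w' = w' := by
            rw [hw', map_smul, map_add, ← mul_apply', hyy, map_one, Module.End.one_apply, add_comm]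
          rw [← hw'U]
          show Submodule.Quotient.mk (ρ x w') = _
          rw [hfix w' hw'y]
        · have hle : LinearMap.range (quotFull ρ U hUinv y - 1) ≤
              (LinearMap.range (ρ y - 1)).map U.mkQ := by
            rintro _ ⟨v, rfl⟩
            obtain ⟨w, rfl⟩ := Submodule.Quotient.mk_surjective U v
            exact ⟨(ρ y - 1) w, ⟨w, rfl⟩, rfl⟩
          exact (Submodule.finrank_mono hle).trans ((Submodule.finrank_map_le _ _).trans hrank)
        · intro a ha b hb c hc
          refine Submodule.linearMap_qext _ (LinearMap.ext fun w => ?_)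
          show Submodule.Quotient.mk (ρ ⁅c, ⁅a, b⁆⁆ w) = _
          rw [hcl a ha b hb c hc, Module.End.one_apply]
          rfl
      obtain ⟨j, hj⟩ := hP ⟨p, hp⟩
      refine Cfsg.Agent.HallHigman.eq_one_of_unipotent (n := 2 ^ j) ?_ ?_ U ?_ ?_
      · rw [Nat.cast_pow]
        exact pow_ne_zero _ (by exact_mod_cast h2)
      · rw [← map_pow, show p ^ 2 ^ j = 1 from congrArg Subtype.val hj, map_one]
      · intro w hw
        exact congrArg Subtype.val (LinearMap.congr_fun (hs p hp) ⟨w, hw⟩)
      · intro w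
        exact (Submodule.Quotient.eq U).mp
          (LinearMap.congr_fun (hq p hp) (Submodule.Quotient.mk w))
    push Not at hred
    have hirr : ∀ U : Submodule K W, (∀ g : L, ∀ w ∈ U, ρ g w ∈ U) → U = ⊥ ∨ U = ⊤ :=
      fun U h => or_iff_not_imp_left.mpr (hred U h)
    rcases subsingleton_or_nontrivial W with hW | hW
    · exact Subsingleton.elim _ _
    -- the centre of `P` modulo the kernel
    let A : Subgroup L :=
      { carrier := {a | a ∈ P ∧ ∀ b ∈ P, ρ a * ρ b = ρ b * ρ a}
        one_mem' := ⟨P.one_mem, fun b _ => by rw [map_one, one_mul, mul_one]⟩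
        mul_mem' := fun {a c} ha hc => ⟨P.mul_mem ha.1 hc.1, fun b hb => by
          rw [map_mul, mul_assoc, hc.2 b hb, ← mul_assoc, ha.2 b hb, mul_assoc]⟩
        inv_mem' := fun {a} ha => ⟨P.inv_mem ha.1, fun b hb => by
          calc ρ a⁻¹ * ρ b = ρ a⁻¹ * (ρ b * ρ a) * ρ a⁻¹ := by
                rw [mul_assoc, mul_assoc, ← map_mul ρ a a⁻¹, mul_inv_cancel, map_one, mul_one]
            _ = ρ b * ρ a⁻¹ := by
                rw [← ha.2 b hb, ← mul_assoc, ← map_mul ρ a⁻¹ a, inv_mul_cancel, map_one,
                  one_mul]⟩ }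
    have hAn : ∀ g a : L, a ∈ A → g * a * g⁻¹ ∈ A := by
      intro g a ha
      refine ⟨hPn.conj_mem a ha.1 g, fun b hb => ?_⟩
      have hb' : g⁻¹ * b * g ∈ P := by simpa using hPn.conj_mem b hb g⁻¹
      calc ρ (g * a * g⁻¹) * ρ b = ρ g * (ρ a * ρ (g⁻¹ * b * g)) * ρ g⁻¹ := by
            simp only [← map_mul]; congr 1; group
        _ = ρ b * ρ (g * a * g⁻¹) := by
            rw [ha.2 _ hb']; simp only [← map_mul]; congr 1; group
    let tw : L → (A → K) → (A → K) := fun g l a =>
      l ⟨g⁻¹ * a * g, by simpa using hAn g⁻¹ a a.2⟩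
    have htw_one : ∀ l, tw 1 l = l := fun l => funext fun a => by simp [tw]
    have htw_mul : ∀ g h l, tw (g * h) l = tw g (tw h l) := fun g h l => funext fun a => by
      simp [tw, mul_assoc]
    have hEtw : ∀ (g : L) (l : A → K), ∀ w ∈ eigenChar ρ A l,
        ρ g w ∈ eigenChar ρ A (tw g l) := by
      intro g l w hw
      rw [mem_eigenChar] at hw ⊢
      intro a
      have h1 : ρ (g⁻¹ * a * g) w = tw g l a • w := hw ⟨_, by simpa using hAn g⁻¹ a a.2⟩
      rw [← map_smul, ← h1, ← mul_apply', ← mul_apply']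
      congr 2
      group
    let st : (A → K) → Subgroup L := fun l =>
      { carrier := {g | tw g l = l}
        one_mem' := htw_one l
        mul_mem' := fun {g h} hg hh => by
          show tw (g * h) l = l
          rw [htw_mul, hh, hg]
        inv_mem' := fun {g} hg => by
          show tw g⁻¹ l = l
          conv_lhs => rw [← hg]
          rw [← htw_mul, inv_mul_cancel, htw_one] }
    have hxE : ∀ w, ρ y w = w → ρ x w = w := hfix
    have hrx : finrank K (LinearMap.range (ρ x - 1)) ≤ 2 := by
      have hle : LinearMap.ker (ρ y - 1) ≤ LinearMap.ker (ρ x - 1) := fun w hw => by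
        simp only [LinearMap.mem_ker, LinearMap.sub_apply, Module.End.one_apply, sub_eq_zero] at hw ⊢
        exact hfix w hw
      have h1 := Submodule.finrank_mono hle
      have h3 := (ρ x - 1).finrank_range_add_finrank_ker
      have h4 := (ρ y - 1).finrank_range_add_finrank_ker
      omega
    -- `y` fixes every eigencharacter
    have hy_st : ∀ (l : A → K) (w : W), w ∈ eigenChar ρ A l → w ≠ 0 → y ∈ st l := by
      intro l w hw hw0
      by_cases hx2 : x ^ 2 ∈ st l
      · have h := (st l).pow_mem hx2 (2 ^ (m - 2))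
        rw [← pow_mul, ← pow_succ', show m - 2 + 1 = m - 1 by omega] at h
        exact h
      exfalso
      have hx3 : x ^ 3 ∉ st l := by
        intro h3
        have hcop : Nat.Coprime (orderOf x) 3 :=
          Nat.Coprime.coprime_dvd_left (orderOf_dvd_of_pow_eq_one hxm)
            (Nat.Coprime.pow_left _ (by norm_num))
        obtain ⟨t, ht⟩ := exists_pow_eq_self_of_coprime (x := x) hcop.symm
        exact hx2 ((st l).pow_mem (ht ▸ (st l).pow_mem h3 t) 2)
      have hx1 : x ∉ st l := fun h => hx2 ((st l).pow_mem h 2)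
      have hdist : ∀ i < 4, ∀ j < 4, i ≠ j → tw (x ^ i) l ≠ tw (x ^ j) l := by
        intro i hi j hj hij heq
        wlog hlt : i < j generalizing i j
        · exact this j hj i hi (Ne.symm hij) heq.symm (by omega)
        obtain ⟨d, rfl⟩ : ∃ d, j = i + d := ⟨j - i, by omega⟩
        have hd : x ^ d ∈ st l := by
          show tw (x ^ d) l = l
          have := congrArg (tw (x ^ i)⁻¹) heq
          rw [← htw_mul, ← htw_mul, inv_mul_cancel, htw_one, pow_add, inv_mul_cancel_left] at this
          exact this.symm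
        obtain rfl | rfl | rfl : d = 1 ∨ d = 2 ∨ d = 3 := by omega
        · exact hx1 (pow_one x ▸ hd)
        · exact hx2 hd
        · exact hx3 hd
      let v : Fin 3 → LinearMap.range (ρ x - 1) := fun i =>
        ⟨(ρ x - 1) (ρ (x ^ (i : ℕ)) w), LinearMap.mem_range_self _ _⟩
      have hv : LinearIndependent K v := by
        rw [Fintype.linearIndependent_iff]
        intro c hc
        have hc' := congrArg Subtype.val hc
        simp only [Fin.sum_univ_three, v, Submodule.coe_add, Submodule.coe_smul,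
          Submodule.coe_zero, LinearMap.sub_apply, Module.End.one_apply, ← mul_apply' ρ,
          Fin.val_zero, Fin.val_one, Fin.val_two, ← pow_succ'] at hc'
        let d : Fin 4 → K := ![-c 0, c 0 - c 1, c 1 - c 2, c 2]
        have hsum : ∑ i : Fin 4, d i • ρ (x ^ (i : ℕ)) w = 0 := by
          rw [Fin.sum_univ_four, ← hc']
          simp only [d, Matrix.cons_val_zero, Matrix.cons_val_one, Matrix.cons_val,
            Fin.val_zero, Fin.val_one, Fin.val_two, show ((3 : Fin 4) : ℕ) = 3 from rfl,
            neg_smul, sub_smul, smul_sub, zero_add, show (1 + 1 : ℕ) = 2 from rfl,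
            show (2 + 1 : ℕ) = 3 from rfl]
          abel
        have h0 := eq_zero_of_sum_eigen ρ (A := A) Finset.univ (fun i : Fin 4 => tw (x ^ (i : ℕ)) l)
          (fun i => d i • ρ (x ^ (i : ℕ)) w)
          (fun i _ => Submodule.smul_mem _ _ (hEtw _ _ w hw))
          (fun i _ j _ hij => hdist i i.2 j j.2 fun h => hij (Fin.ext h)) hsum
        have hd0 : ∀ i, d i = 0 := fun i => (smul_eq_zero.mp (h0 i (Finset.mem_univ i))).resolve_right
          fun hz => hw0 (by rw [← rho_inv_apply ρ (x ^ (i : ℕ)) w, hz, map_zero])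
        have e0 : -c 0 = 0 := hd0 0
        have e1 : c 0 - c 1 = 0 := hd0 1
        have e2 : c 2 = 0 := hd0 3
        intro i
        fin_cases i
        · exact neg_eq_zero.mp e0
        · show c 1 = 0
          rw [← neg_eq_zero.mp e0]; exact (sub_eq_zero.mp e1).symm
        · exact e2
      have := hv.fintype_card_le_finrank
      rw [Fintype.card_fin] at this
      omega
    have hcomA : ∀ a b : A, ρ (a : L) * ρ (b : L) = ρ (b : L) * ρ (a : L) :=
      fun a b => a.2.2 b b.2.1
    obtain ⟨l0, w0, hw0, hl0⟩ :=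
      Cfsg.Agent.HallHigman.exists_eigencharacter (ρ.comp A.subtype) hcomA
    set l : A → K := fun a => l0 a with hl
    set E := eigenChar ρ A l with hE
    have hw0E : w0 ∈ E := (mem_eigenChar ρ).mpr hl0
    have hyst : y ∈ st l := hy_st l w0 hw0E hw0
    have hstE : ∀ g ∈ st l, ∀ w ∈ E, ρ g w ∈ E := by
      intro g hg w hw
      have := hEtw g l w hw
      rwa [show tw g l = l from hg] at this
    have hRst : R ≤ st l := by
      rw [← hRy, Subgroup.commutator_le]
      intro r _ z hz
      obtain ⟨e, rfl⟩ := hz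
      show tw ⁅r, y ^ e⁆ l = l
      have hr0 : ρ r⁻¹ w0 ≠ 0 := fun h => hw0 (by rw [← rho_apply_inv ρ r w0, h, map_zero])
      have h1 : y ^ e ∈ st (tw r⁻¹ l) :=
        (st (tw r⁻¹ l)).zpow_mem (hy_st _ _ (hEtw r⁻¹ l w0 hw0E) hr0) e
      have h2' : (y ^ e)⁻¹ ∈ st l := (st l).inv_mem ((st l).zpow_mem hyst e)
      rw [commutatorElement_def, htw_mul, show tw (y ^ e)⁻¹ l = l from h2', htw_mul, htw_mul,
        show tw (y ^ e) (tw r⁻¹ l) = tw r⁻¹ l from h1, ← htw_mul, mul_inv_cancel, htw_one]
    have hPst : P ≤ st l := by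
      intro g hg
      refine funext fun a => ?_
      by_contra hne
      have h1 : ρ g w0 ∈ E ∧ ρ g w0 ∈ eigenChar ρ A (tw g l) := by
        refine ⟨(mem_eigenChar ρ).mpr fun a => ?_, hEtw g l w0 hw0E⟩
        rw [← Module.End.mul_apply, a.2.2 g hg, Module.End.mul_apply,
          (mem_eigenChar ρ).mp hw0E a, map_smul]
      have h3 := (mem_eigenChar ρ).mp h1.1 a
      rw [(mem_eigenChar ρ).mp h1.2 a] at h3
      refine hne (smul_left_injective K (fun h : ρ g w0 = 0 => hw0 ?_) h3)
      rw [← rho_inv_apply ρ g w0, h, map_zero]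
    by_cases hxst : x ∈ st l
    · -- the centre is scalar
      have htop : ∀ g, g ∈ st l := fun g => by
        have : P ⊔ R ⊔ Subgroup.zpowers x ≤ st l :=
          sup_le (sup_le hPst hRst) (Subgroup.zpowers_le.mpr hxst)
        exact this (hgen ▸ Subgroup.mem_top g)
      have hEtop : E = ⊤ := (hirr E fun g => hstE g (htop g)).resolve_left
        ((Submodule.ne_bot_iff _).mpr ⟨w0, hw0E, hw0⟩)
      have hA : ∀ a ∈ A, a ∈ scalar ρ := fun a ha => ⟨l ⟨a, ha⟩, LinearMap.ext fun w => by
        simpa using (mem_eigenChar ρ).mp (hEtop ▸ Submodule.mem_top : w ∈ E) ⟨a, ha⟩⟩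
      have hcore := core ρ h2 hm hxm hP
        (Subgroup.mem_normalizer_iff.mpr fun g => ⟨fun hg => hPn.conj_mem g hg x, fun hg => by
          simpa [mul_assoc] using hPn.conj_mem _ hg x⁻¹⟩)
        hfix hrank
        (fun a ha b hb => hA _ ⟨by
            rw [commutatorElement_def]
            exact P.mul_mem (P.mul_mem (P.mul_mem ha hb) (P.inv_mem ha)) (P.inv_mem hb),
          fun c hc => (commute_of_commutator ρ (hcl a ha b hb c hc)).symm⟩)
        (fun a ha has => by
          by_contra hno
          push Not at hno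
          exact has (hA a ⟨ha, fun b hb => (commute_of_commutator ρ (hno b hb)).symm⟩))
      let N : Subgroup L :=
        { carrier := {g | ∀ q ∈ P, ⁅g, q⁆ ∈ scalar ρ}
          one_mem' := fun q _ => by rw [commutatorElement_one_left]; exact Subgroup.one_mem _
          mul_mem' := fun {g h} hg hh q hq => by
            rw [show ⁅g * h, q⁆ = g * ⁅h, q⁆ * g⁻¹ * ⁅g, q⁆ by
              simp only [commutatorElement_def]; group]
            exact (scalar ρ).mul_mem ((scalar_normal ρ).conj_mem _ (hh q hq) g) (hg q hq)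
          inv_mem' := fun {g} hg q hq => by
            rw [show ⁅g⁻¹, q⁆ = g⁻¹ * ⁅g, q⁆⁻¹ * g⁻¹⁻¹ by
              simp only [commutatorElement_def]; group]
            exact (scalar_normal ρ).conj_mem _ ((scalar ρ).inv_mem (hg q hq)) g⁻¹ }
      have hNconj : ∀ g h, h ∈ N → g * h * g⁻¹ ∈ N := by
        intro g h hh q hq
        have hq' : g⁻¹ * q * g ∈ P := by simpa using hPn.conj_mem q hq g⁻¹
        rw [show ⁅g * h * g⁻¹, q⁆ = g * ⁅h, g⁻¹ * q * g⁆ * g⁻¹ by
          simp only [commutatorElement_def]; group]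
        exact (scalar_normal ρ).conj_mem _ (hh _ hq') g
      have hRN : R ≤ N := by
        rw [← hRy, Subgroup.commutator_le]
        intro r _ z hz
        have hzN : z ∈ N := (Subgroup.zpowers_le.mpr (show y ∈ N from hcore)) hz
        rw [commutatorElement_def]
        exact N.mul_mem (hNconj r z hzN) (N.inv_mem hzN)
      have hPs : P ≤ scalar ρ := by
        rw [← hPR, Subgroup.commutator_le]
        intro q hq r hr
        rw [← commutatorElement_inv]
        exact (scalar ρ).inv_mem (hRN hr q hq)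
      have hker : P ≤ ρ.ker := by
        rw [← hPR, Subgroup.commutator_le]
        intro q hq r _
        exact commutator_eq_one_of_commute ρ (comm_scalar_of_mem ρ (hPs hq) r)
      exact hker hp
    · -- `y` is `-1` on `E`, so `P` fixes `E`
      have hyE : ∀ w ∈ E, ρ y w = -w := by
        intro w hw
        set u := w + ρ y w with hu
        have huy : ρ y u = u := by
          rw [hu, map_add, ← mul_apply', hyy, map_one, Module.End.one_apply, add_comm]
        have huE : u ∈ E := E.add_mem hw (hstE y hyst w hw)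
        have hu0 : u = 0 := by
          have h3 := hEtw x l u huE
          rw [hfix u huy] at h3
          by_contra hne
          refine hxst (funext fun a => ?_)
          have h4 := (mem_eigenChar ρ).mp h3 a
          rw [(mem_eigenChar ρ).mp huE a] at h4
          exact (smul_left_injective K hne h4).symm
        rw [← sub_eq_zero, sub_neg_eq_add, add_comm]
        exact hu0
      let Fp : Subgroup L :=
        { carrier := {g | ∀ w ∈ E, ρ g w = w}
          one_mem' := fun w _ => by rw [map_one, Module.End.one_apply]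
          mul_mem' := fun {g h} hg hh w hw => by rw [mul_apply', hh w hw, hg w hw]
          inv_mem' := fun {g} hg w hw => by
            conv_lhs => rw [← hg w hw]
            rw [rho_inv_apply] }
      have hRF : R ≤ Fp := by
        have hRle : ∀ r ∈ R, ∀ w ∈ E, ρ r⁻¹ w ∈ E := fun r hr w hw =>
          hstE _ (hRst (R.inv_mem hr)) w hw
        rw [← hRy, Subgroup.commutator_le]
        intro r hr z hz w hw
        obtain ⟨e, he⟩ : ∃ e : ℕ, y ^ e = z := mem_powers_iff_mem_zpowers.mpr hz
        have hsc : ∀ e : ℕ, ∀ u ∈ E, ρ (y ^ e) u = ((-1 : K) ^ e) • u := by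
          intro e
          induction e with
          | zero => intro u _; rw [pow_zero, map_one, Module.End.one_apply, pow_zero, one_smul]
          | succ e ihe =>
            intro u hu
            rw [pow_succ, mul_apply', hyE u hu, ← neg_one_smul K u, map_smul, ihe u hu, smul_smul,
              pow_succ, mul_comm]
        have hzinv : z⁻¹ = z := by
          rw [← he, ← inv_pow, inv_eq_of_mul_eq_one_right hyy]
        rw [commutatorElement_def, hzinv, mul_apply', mul_apply', mul_apply', ← he, hsc e w hw,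
          map_smul, hsc e _ (E.smul_mem _ (hRle r hr w hw)), smul_smul, ← pow_add, ← two_mul,
          pow_mul, neg_one_sq, one_pow, one_smul, rho_apply_inv]
      have hPF : P ≤ Fp := by
        rw [← hPR, Subgroup.commutator_le]
        intro q hq r hr w hw
        rw [commutatorElement_def, mul_apply', mul_apply', mul_apply',
          hRF (R.inv_mem hr) w hw, hRF hr _ (hstE _ (hPst (P.inv_mem hq)) w hw), rho_apply_inv]
      let F : Submodule K W := ⨅ q : P, LinearMap.ker (ρ (q : L) - 1)
      have hmemF : ∀ w, w ∈ F ↔ ∀ q ∈ P, ρ q w = w := fun w => by simp [F, sub_eq_zero]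
      have hFinv : ∀ g : L, ∀ w ∈ F, ρ g w ∈ F := by
        intro g w hw
        rw [hmemF] at hw ⊢
        intro q hq
        have hq' : g⁻¹ * q * g ∈ P := by simpa using hPn.conj_mem q hq g⁻¹
        conv_rhs => rw [← hw _ hq', ← mul_apply']
        rw [← mul_apply']
        congr 2
        group
      have hFtop : F = ⊤ := (hirr F hFinv).resolve_left ((Submodule.ne_bot_iff _).mpr
        ⟨w0, (hmemF w0).mpr fun q hq => hPF hq w0 hw0E, hw0⟩)
      exact LinearMap.ext fun w => (hmemF w).mp (hFtop ▸ Submodule.mem_top) p hp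

/-- Only the subgroup generated by `P`, `R` and `x` matters. -/
theorem trivial_of_class_two [IsAlgClosed K] [FiniteDimensional K W] (h2 : (2 : K) ≠ 0) {x : L} {m : ℕ}
    (hm : 2 ≤ m) (hxm : x ^ 2 ^ m = 1) {P R : Subgroup L} (hP : IsPGroup 2 P)
    (hxP : x ∈ Subgroup.normalizer (P : Set L)) (hRP : R ≤ Subgroup.normalizer (P : Set L))
    (hRy : ⁅R, Subgroup.zpowers (x ^ 2 ^ (m - 1))⁆ = R) (hPR : ⁅P, R⁆ = P)
    (hfix : ∀ w, ρ (x ^ 2 ^ (m - 1)) w = w → ρ x w = w)
    (hrank : finrank K (LinearMap.range (ρ (x ^ 2 ^ (m - 1)) - 1)) ≤ 2)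
    (hcl : ∀ a ∈ P, ∀ b ∈ P, ∀ c ∈ P, ρ ⁅c, ⁅a, b⁆⁆ = 1) : ∀ p ∈ P, ρ p = 1 := by
  set H := P ⊔ R ⊔ Subgroup.zpowers x
  have hPH : P ≤ H := le_sup_left.trans le_sup_left
  have hRH : R ≤ H := le_sup_right.trans le_sup_left
  have hxH : x ∈ H := le_sup_right (a := P ⊔ R) (Subgroup.mem_zpowers x)
  have hHN : H ≤ Subgroup.normalizer (P : Set L) :=
    sup_le (sup_le Subgroup.le_normalizer hRP) (Subgroup.zpowers_le.mpr hxP)
  let P' := P.subgroupOf H
  let R' := R.subgroupOf H
  let x' : H := ⟨x, hxH⟩
  have hmP : P'.map H.subtype = P := Subgroup.map_subgroupOf_eq_of_le hPH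
  have hmR : R'.map H.subtype = R := Subgroup.map_subgroupOf_eq_of_le hRH
  intro p hp
  refine trivial_of_class_two_gen (L := H) (finrank K W) (ρ.comp H.subtype) le_rfl h2 hm
    (x := x') (Subtype.ext hxm) (P := P') (R := R') hP.comap_subtype
    ⟨fun a ha g => (Subgroup.mem_normalizer_iff.mp (hHN g.2) a).mp ha⟩ ?_ ?_ ?_ hfix hrank
    (fun a ha b hb c hc => ?_) ⟨p, hPH hp⟩ hp
  · apply Subgroup.map_injective H.subtype_injective
    rw [Subgroup.map_sup, Subgroup.map_sup, hmP, hmR, MonoidHom.map_zpowers,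
      ← MonoidHom.range_eq_map, Subgroup.range_subtype]
    rfl
  · apply Subgroup.map_injective H.subtype_injective
    rw [Subgroup.map_commutator, hmR, MonoidHom.map_zpowers]
    exact hRy
  · apply Subgroup.map_injective H.subtype_injective
    rw [Subgroup.map_commutator, hmP, hmR]
    exact hPR
  · exact hcl a ha b hb c hc

/-- `P = [P, R]` acts trivially. -/
theorem trivial_of_conf [IsAlgClosed K] [FiniteDimensional K W] (h2 : (2 : K) ≠ 0) {x : L} {m : ℕ}
    (hm : 2 ≤ m) (hxm : x ^ 2 ^ m = 1) {P R : Subgroup L} (hP : IsPGroup 2 P)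
    (hR : Odd (Nat.card R))
    (hxP : x ∈ Subgroup.normalizer (P : Set L)) (hxR : x ∈ Subgroup.normalizer (R : Set L))
    (hRP : R ≤ Subgroup.normalizer (P : Set L))
    (hRy : ⁅R, Subgroup.zpowers (x ^ 2 ^ (m - 1))⁆ = R) (hPR : ⁅P, R⁆ = P)
    (hfix : ∀ w, ρ (x ^ 2 ^ (m - 1)) w = w → ρ x w = w)
    (hrank : finrank K (LinearMap.range (ρ (x ^ 2 ^ (m - 1)) - 1)) ≤ 2) : ∀ p ∈ P, ρ p = 1 := by
  induction hn : Nat.card P using Nat.strong_induction_on generalizing P with
  | _ n ih =>
  subst hn
  rcases eq_or_ne P ⊥ with rfl | hP0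
  · intro p hp
    rw [Subgroup.mem_bot] at hp
    rw [hp, map_one]
  set D := ⁅P, P⁆ with hD
  have hDP : D ≤ P := P.commutator_le_self
  have hDne : D ≠ P := by
    intro h
    have hnt : Nontrivial P := (Subgroup.nontrivial_iff_ne_bot P).mpr hP0
    have : Group.IsNilpotent P := hP.isNilpotent
    refine (Group.IsSolvable.commutator_lt_top_of_nontrivial (G := P)).ne ?_
    apply Subgroup.map_injective P.subtype_injective
    rw [commutator_def, Subgroup.map_commutator, ← MonoidHom.range_eq_map, Subgroup.range_subtype]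
    exact h
  have hconjD : ∀ g ∈ Subgroup.normalizer (P : Set L), g ∈ Subgroup.normalizer (D : Set L) := by
    intro g hg
    rw [Subgroup.mem_normalizer_iff_map_conj_eq, hD, Subgroup.map_commutator,
      Subgroup.mem_normalizer_iff_map_conj_eq.mp hg]
  have hRD : R ≤ Subgroup.normalizer (D : Set L) := fun g hg => hconjD g (hRP hg)
  have hcop : (Nat.card R).Coprime (Nat.card D) := by
    obtain ⟨k, hk⟩ := IsPGroup.iff_card.mp (hP.to_le hDP)
    rw [hk]
    exact (Nat.coprime_two_right.mpr hR).pow_right k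
  have hsol : Group.IsSolvable R ∨ Group.IsSolvable D :=
    Or.inr (Cfsg.Agent.CoprimeAction.isSolvable_of_isPGroup (hP.to_le hDP))
  set P1 := ⁅D, R⁆ with hP1
  have hP1D : P1 ≤ D := Cfsg.Agent.CoprimeAction.commutator_le_self_of_le_normalizer hRD
  have hP1R : ⁅P1, R⁆ = P1 := Cfsg.Agent.CoprimeAction.commutator_commutator_eq hRD hcop hsol
  have hconj1 : ∀ g ∈ Subgroup.normalizer (P : Set L), g ∈ Subgroup.normalizer (R : Set L) →
      g ∈ Subgroup.normalizer (P1 : Set L) := by
    intro g hg hgR
    rw [Subgroup.mem_normalizer_iff_map_conj_eq, hP1, Subgroup.map_commutator,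
      Subgroup.mem_normalizer_iff_map_conj_eq.mp (hconjD g hg),
      Subgroup.mem_normalizer_iff_map_conj_eq.mp hgR]
  have htriv : ∀ a ∈ P1, ρ a = 1 := by
    refine ih (Nat.card P1) ?_ (hP.to_le (hP1D.trans hDP)) (hconj1 x hxP hxR)
      (fun g hg => hconj1 g (hRP hg) (Subgroup.le_normalizer hg)) hP1R rfl
    refine lt_of_le_of_lt (Nat.le_of_dvd Nat.card_pos (Subgroup.card_dvd_of_le hP1D)) ?_
    exact lt_of_le_of_ne (Nat.le_of_dvd Nat.card_pos (Subgroup.card_dvd_of_le hDP)) fun h =>
      hDne (Subgroup.eq_of_le_of_card_ge hDP h.ge)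
  refine trivial_of_class_two ρ h2 hm hxm hP hxP hRP hRy hPR hfix hrank ?_
  set π := QuotientGroup.mk' ρ.ker with hπ
  have hbot : ∀ {H : Subgroup L}, H ≤ ρ.ker → H.map π = ⊥ := by
    intro H hH
    rw [Subgroup.map_eq_bot_iff, hπ, QuotientGroup.ker_mk']
    exact hH
  have h0 : ⁅D.map π, R.map π⁆ = ⊥ := by
    rw [← Subgroup.map_commutator]
    exact hbot htriv
  have h1 : ⁅⁅R.map π, D.map π⁆, P.map π⁆ = ⊥ := by
    rw [Subgroup.commutator_comm (R.map π), h0, Subgroup.commutator_bot_left]
  have h3 : ⁅⁅D.map π, P.map π⁆, R.map π⁆ = ⊥ := by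
    refine eq_bot_iff.mpr ((Subgroup.commutator_mono ?_ le_rfl).trans h0.le)
    rw [← Subgroup.map_commutator]
    refine Subgroup.map_mono ?_
    exact Cfsg.Agent.CoprimeAction.commutator_le_self_of_le_normalizer
      (fun g hg => hconjD g (Subgroup.le_normalizer hg))
  have h4 := Subgroup.commutator_commutator_eq_bot_of_rotate h1 h3
  rw [← Subgroup.map_commutator P R, hPR] at h4
  intro a ha b hb c hc
  have h5 : π ⁅c, ⁅a, b⁆⁆ ∈ ⁅P.map π, D.map π⁆ := by
    rw [map_commutatorElement]
    exact Subgroup.commutator_mem_commutator ⟨c, hc, rfl⟩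
      ⟨_, Subgroup.commutator_mem_commutator ha hb, rfl⟩
  rw [h4, Subgroup.mem_bot, hπ] at h5
  exact (QuotientGroup.eq_one_iff _).mp h5

end Cfsg.Agent.GrossClassTwo
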