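import Mathlib
import Cfsg.Agent.Lib.HallHigmanB
import Cfsg.Agent.Lib.CoprimeAction
import Cfsg.Agent.S3784

/-!
# The exceptional case of Theorem B of Hall and Higman for `p = 2`

`C` is a `q`-group of class two, `x` has order dividing `2 ^ n` and `1 + x + ... + x ^ (2 ^ n - 1)`
is zero in characteristic two. On a component with central character `l` on which the top power `y`
moves `C`, a power `x₁ = x ^ 2 ^ f` with `f + 2 ≤ n` fixes `l` and every fixed point of `y` in
`C / rad l`, and `[C, y]` has at most `q ^ 2` elements modulo `rad l`.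
-/

set_option autoImplicit false

namespace Cfsg.Agent.GrossExceptional

open Module
open scoped commutatorElement
open Cfsg.Agent.HallHigman (scal mem_scal)

/-! ### Twisted group algebras -/

section twist

variable {K W : Type*} [Field K] [AddCommGroup W] [Module K W] [Nontrivial W]
variable {Q : Type*} [Group Q] [Fintype Q] (r : Q →* Module.End K W)

omit [Fintype Q] in
theorem r_inv_mul (u : Q) : r u⁻¹ * r u = 1 := by rw [← map_mul, inv_mul_cancel, map_one]

omit [Fintype Q] in
theorem r_ne_zero (u : Q) : r u ≠ 0 := fun h => by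
  have := r_inv_mul r u
  rw [h, mul_zero] at this
  exact zero_ne_one this

/-- Averaging over conjugates. -/
def avg (a : Module.End K W) : Module.End K W := ∑ u, r u * a * r u⁻¹

theorem avg_of_not_scal (hcomm : ∀ u v : Q, ⁅u, v⁆ ∈ scal r)
    (hnd : ∀ u : Q, u ∉ scal r → ∃ v : Q, r ⁅v, u⁆ ≠ 1) {g : Q} (hg : g ∉ scal r) :
    avg r (r g) = 0 := by
  classical
  have hsc : ∀ {c d : K}, c • (1 : Module.End K W) = d • 1 → c = d := fun {c d} h =>
    smul_left_injective K (one_ne_zero (α := Module.End K W)) h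
  choose β hβ using fun u => hcomm u g
  have hconj : ∀ u, r (u * g * u⁻¹) = β u • r g := by
    intro u
    rw [show u * g * u⁻¹ = ⁅u, g⁆ * g by simp [commutatorElement_def], map_mul, hβ, smul_one_mul]
  let f : Q →* K :=
    { toFun := β
      map_one' := hsc (by rw [← hβ, commutatorElement_one_left, map_one, one_smul])
      map_mul' := fun u w => by
        refine smul_left_injective K (r_ne_zero r g) ?_
        show β (u * w) • r g = (β u * β w) • r g
        rw [← hconj, show u * w * g * (u * w)⁻¹ = u * (w * g * w⁻¹) * u⁻¹ by group, map_mul,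
          map_mul, hconj, mul_smul_comm, smul_mul_assoc, ← map_mul, ← map_mul, hconj, smul_smul,
          mul_comm] }
  have hf : f ≠ 1 := by
    intro h
    obtain ⟨u, hu⟩ := hnd g hg
    refine hu ?_
    rw [hβ, show β u = 1 from DFunLike.congr_fun h u, one_smul]
  calc avg r (r g) = ∑ u, β u • r g :=
        Finset.sum_congr rfl fun u _ => by rw [← map_mul, ← map_mul, hconj]
    _ = 0 := by
        rw [← Finset.sum_smul, show ∑ u, β u = ∑ u, f u from rfl, sum_hom_units_eq_zero f hf,
          zero_smul]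

theorem avg_of_scal {g : Q} {c : K} (hc : r g = c • 1) :
    avg r (r g) = ((Fintype.card Q : K) * c) • 1 := by
  simp only [avg, hc, mul_smul_comm, mul_one, smul_mul_assoc, ← map_mul, mul_inv_cancel, map_one]
  rw [Finset.sum_const, Finset.card_univ, ← Nat.cast_smul_eq_nsmul K, smul_smul]

theorem avg_scalar (hcomm : ∀ u v : Q, ⁅u, v⁆ ∈ scal r)
    (hnd : ∀ u : Q, u ∉ scal r → ∃ v : Q, r ⁅v, u⁆ ≠ 1) {a : Module.End K W}
    (ha : a ∈ Algebra.adjoin K (Set.range r)) : ∃ c : K, avg r a = c • 1 := by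
  rw [← Subalgebra.mem_toSubmodule, Algebra.adjoin_eq_span] at ha
  have hcl : Submonoid.closure (Set.range r) ≤ MonoidHom.mrange r :=
    Submonoid.closure_le.mpr (Set.range_subset_iff.mpr fun u => ⟨u, rfl⟩)
  induction ha using Submodule.span_induction with
  | mem f hf =>
    obtain ⟨g, rfl⟩ := hcl hf
    by_cases hg : g ∈ scal r
    · obtain ⟨c, hc⟩ := hg
      exact ⟨_, avg_of_scal r hc⟩
    · exact ⟨0, by rw [avg_of_not_scal r hcomm hnd hg, zero_smul]⟩
  | zero => exact ⟨0, by simp [avg]⟩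
  | add x y _ _ hx hy =>
    obtain ⟨c, hc⟩ := hx
    obtain ⟨d, hd⟩ := hy
    refine ⟨c + d, ?_⟩
    rw [add_smul, ← hc, ← hd]
    simp only [avg, mul_add, add_mul, Finset.sum_add_distrib]
  | smul t x _ hx =>
    obtain ⟨c, hc⟩ := hx
    refine ⟨t * c, ?_⟩
    rw [← smul_smul, ← hc]
    simp only [avg, mul_smul_comm, smul_mul_assoc, Finset.smul_sum]

/-- An element of the algebra is determined by its restriction to an invariant subspace. -/
theorem eq_zero_of_vanish (hcomm : ∀ u v : Q, ⁅u, v⁆ ∈ scal r)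
    (hnd : ∀ u : Q, u ∉ scal r → ∃ v : Q, r ⁅v, u⁆ ≠ 1) (hQK : (Fintype.card Q : K) ≠ 0)
    {a : Module.End K W} (ha : a ∈ Algebra.adjoin K (Set.range r)) {U : Submodule K W}
    (hU : ∀ u, ∀ w ∈ U, r u w ∈ U) (hU0 : U ≠ ⊥) (hz : ∀ w ∈ U, a w = 0) : a = 0 := by
  classical
  obtain ⟨w0, hw0, hne⟩ := (Submodule.ne_bot_iff U).mp hU0
  have hzero : ∀ v, avg r (r v * a) = 0 := by
    intro v
    obtain ⟨c, hc⟩ := avg_scalar r hcomm hnd
      (Subalgebra.mul_mem _ (Algebra.subset_adjoin ⟨v, rfl⟩) ha)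
    have h1 : avg r (r v * a) w0 = 0 := by
      simp only [avg, LinearMap.sum_apply, Module.End.mul_apply, hz _ (hU _ _ hw0), map_zero,
        Finset.sum_const_zero]
    rw [hc, LinearMap.smul_apply, Module.End.one_apply] at h1
    rw [hc, (smul_eq_zero.mp h1).resolve_right hne, zero_smul]
  have key : ∑ v, r v⁻¹ * avg r (r v * a) =
      ((Fintype.card Q : K) * (Finset.univ.filter fun u => u ∈ scal r).card) • a := by
    have h1 : ∑ v, r v⁻¹ * avg r (r v * a) = ∑ u, avg r (r u) * a * r u⁻¹ := by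
      simp only [avg, Finset.mul_sum, Finset.sum_mul]
      rw [Finset.sum_comm]
      refine Finset.sum_congr rfl fun u _ => ?_
      rw [← Equiv.sum_comp (Equiv.inv Q)]
      refine Finset.sum_congr rfl fun v _ => ?_
      simp only [Equiv.inv_apply, inv_inv, ← map_mul, ← mul_assoc]
    rw [h1, ← Finset.sum_filter_add_sum_filter_not Finset.univ fun u => u ∈ scal r,
      Finset.sum_eq_zero (s := Finset.univ.filter fun u => u ∉ scal r) (fun u hu => by
        rw [avg_of_not_scal r hcomm hnd (Finset.mem_filter.mp hu).2, zero_mul, zero_mul]), add_zero,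
      Finset.sum_congr rfl (g := fun _ => (Fintype.card Q : K) • a) (fun u hu => by
        obtain ⟨c, hc⟩ := (Finset.mem_filter.mp hu).2
        have h := r_inv_mul r u
        rw [hc, mul_smul_comm, mul_one] at h
        rw [avg_of_scal r hc, smul_one_mul, smul_mul_assoc, mul_smul, ← mul_smul_comm c a, h,
          mul_one]),
      Finset.sum_const, ← Nat.cast_smul_eq_nsmul K, smul_smul, mul_comm]
  simp only [hzero, mul_zero, Finset.sum_const_zero] at key
  refine (smul_eq_zero.mp key.symm).resolve_left (mul_ne_zero hQK ?_)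
  intro h0
  apply hQK
  obtain ⟨d, hd⟩ : (Finset.univ.filter fun u => u ∈ scal r).card ∣ Fintype.card Q := by
    rw [← Fintype.card_subtype, ← Nat.card_eq_fintype_card, ← Nat.card_eq_fintype_card]
    exact (scal r).card_subgroup_dvd_card
  rw [hd, Nat.cast_mul, h0, zero_mul]

theorem index_le_sq [FiniteDimensional K W] (hcomm : ∀ u v : Q, ⁅u, v⁆ ∈ scal r)
    (hnd : ∀ u : Q, u ∉ scal r → ∃ v : Q, r ⁅v, u⁆ ≠ 1) (hQK : (Fintype.card Q : K) ≠ 0) :
    (scal r).index ≤ finrank K W ^ 2 := by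
  classical
  let bf : Q ⧸ scal r → Module.End K W := fun i => r i.out
  have hindep : LinearIndependent K bf := by
    rw [Fintype.linearIndependent_iff]
    intro g hg j
    have h1 : avg r ((∑ i, g i • bf i) * r (Quotient.out j)⁻¹) = 0 := by
      rw [hg, zero_mul]
      simp [avg]
    have h3 : avg r ((∑ i, g i • bf i) * r (Quotient.out j)⁻¹) =
        ∑ i, g i • avg r (r (i.out * (Quotient.out j)⁻¹)) := by
      simp only [avg, Finset.sum_mul, Finset.mul_sum, Finset.smul_sum]
      rw [Finset.sum_comm]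
      refine Finset.sum_congr rfl fun i _ => Finset.sum_congr rfl fun u _ => ?_
      simp only [bf, map_mul, mul_smul_comm, smul_mul_assoc]
    rw [h3, Finset.sum_eq_single j] at h1
    · rw [mul_inv_cancel, avg_of_scal r (c := 1) (by rw [map_one, one_smul]), mul_one,
        smul_smul, smul_eq_zero] at h1
      exact (mul_eq_zero.mp (h1.resolve_right one_ne_zero)).resolve_right hQK
    · intro i _ hij
      rw [avg_of_not_scal r hcomm hnd, smul_zero]
      intro hmem
      refine hij ?_
      rw [← QuotientGroup.out_eq' i, ← QuotientGroup.out_eq' j, ← div_eq_one, ← QuotientGroup.mk_div,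
        QuotientGroup.eq_one_iff, div_eq_mul_inv]
      exact hmem
    · exact fun h => absurd (Finset.mem_univ j) h
  have := hindep.fintype_card_le_finrank
  rwa [← Nat.card_eq_fintype_card, Module.finrank_linearMap, ← sq] at this

end twist

/-! ### Small lemmas -/

section small

variable {K W : Type*} [Field K] [AddCommGroup W] [Module K W]

open Polynomial in
theorem geom_eq_sub_one_pow [CharP K 2] (X : Module.End K W) (e : ℕ) :
    ∑ k ∈ Finset.range (2 ^ e), X ^ k = (X - 1) ^ (2 ^ e - 1) := by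
  have h2 : (Polynomial.X - 1 : K[X]) ≠ 0 := by
    simpa using X_sub_C_ne_zero (1 : K)
  have h : ∑ k ∈ Finset.range (2 ^ e), (Polynomial.X : K[X]) ^ k =
      (Polynomial.X - 1) ^ (2 ^ e - 1) := by
    refine mul_right_cancel₀ h2 ?_
    rw [geom_sum_mul, ← pow_succ, Nat.sub_add_cancel Nat.one_le_two_pow, sub_pow_char_pow, one_pow]
  simpa using congrArg (Polynomial.aeval X) h

open Polynomial in
theorem sub_one_pow_two [CharP K 2] (X : Module.End K W) (e : ℕ) :
    (X - 1) ^ 2 ^ e = X ^ 2 ^ e - 1 := by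
  have h : (Polynomial.X - 1 : K[X]) ^ 2 ^ e = Polynomial.X ^ 2 ^ e - 1 := by
    rw [sub_pow_char_pow, one_pow]
  simpa using congrArg (Polynomial.aeval X) h

theorem finrank_range_pow_le [FiniteDimensional K W] (N : Module.End K W) {j0 : ℕ}
    (hN : N ^ j0 = 0) :
    ∀ j, finrank K (LinearMap.range (N ^ j)) ≤ finrank K W - j := by
  intro j
  induction j with
  | zero => exact (Submodule.finrank_le _).trans (Nat.sub_zero _).ge
  | succ j ih =>
    by_cases h0 : N ^ (j + 1) = 0
    · rw [h0, LinearMap.range_zero, finrank_bot]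
      exact Nat.zero_le _
    have hsucc : LinearMap.range (N ^ (j + 1)) = (LinearMap.range (N ^ j)).map N := by
      rw [pow_succ', Module.End.mul_eq_comp, LinearMap.range_comp]
    have hlt : finrank K (LinearMap.range (N ^ (j + 1))) < finrank K (LinearMap.range (N ^ j)) := by
      rcases (hsucc ▸ Submodule.finrank_map_le N (LinearMap.range (N ^ j)) :
        finrank K (LinearMap.range (N ^ (j + 1))) ≤ finrank K (LinearMap.range (N ^ j))).lt_or_eq
        with h | h
      · exact h
      · exfalso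
        have hle : LinearMap.range (N ^ (j + 1)) ≤ LinearMap.range (N ^ j) := by
          rw [pow_succ, Module.End.mul_eq_comp]
          exact LinearMap.range_comp_le_range _ _
        have heq := Submodule.eq_of_le_of_finrank_le hle h.ge
        have hst : ∀ i, LinearMap.range (N ^ (i + j)) = LinearMap.range (N ^ j) := by
          intro i
          induction i with
          | zero => rw [zero_add]
          | succ i ih2 =>
            rw [show i + 1 + j = (i + j) + 1 by omega, pow_succ', Module.End.mul_eq_comp,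
              LinearMap.range_comp, ih2, ← hsucc, heq]
        have := hst j0
        rw [pow_add, hN, zero_mul, LinearMap.range_zero] at this
        rw [← this] at heq
        exact h0 (LinearMap.range_eq_bot.mp heq)
    omega

theorem pow_eq_zero_of_nilpotent [FiniteDimensional K W] (N : Module.End K W) {j0 : ℕ}
    (hN : N ^ j0 = 0) : N ^ finrank K W = 0 :=
  LinearMap.range_eq_bot.mp (Submodule.finrank_eq_zero.mp
    (Nat.le_zero.mp ((finrank_range_pow_le N hN _).trans (Nat.sub_self _).le)))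

theorem two_pow_cases {D h : ℕ} (hh : ∃ i, h = 2 ^ i) (hlow : 2 * h < D) (hhigh : D < 4 * h)
    (hodd : Odd D) (hdvd : 4 * h ∣ D ^ 2 - 1) : D = 2 * h + 1 ∨ D = 4 * h - 1 := by
  obtain ⟨i, rfl⟩ := hh
  obtain ⟨d, rfl⟩ := hodd
  rw [show (2 * d + 1) ^ 2 - 1 = 4 * (d * (d + 1)) by
    rw [show (2 * d + 1) ^ 2 = 4 * (d * (d + 1)) + 1 by ring, Nat.add_sub_cancel]] at hdvd
  have hd := Nat.dvd_of_mul_dvd_mul_left (by norm_num : 0 < 4) hdvd
  have hcases : 2 ^ i ∣ d ∨ 2 ^ i ∣ d + 1 := by
    rcases Nat.even_or_odd d with he | ho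
    · exact Or.inl ((Nat.Coprime.pow_left i
        (Nat.coprime_two_left.mpr he.add_one)).dvd_of_dvd_mul_right hd)
    · exact Or.inr ((Nat.Coprime.pow_left i
        (Nat.coprime_two_left.mpr ho)).dvd_of_dvd_mul_left hd)
  rcases hcases with ⟨c, hc⟩ | ⟨c, hc⟩
  · left
    have h1 : c = 1 := by
      rcases c with _ | _ | c
      · simp at hc; omega
      · rfl
      · have : 2 ^ i * 2 ≤ 2 ^ i * (c + 1 + 1) := Nat.mul_le_mul_left _ (by omega)
        omega
    rw [h1, mul_one] at hc
    omega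
  · right
    have h1 : c = 2 := by
      rcases c with _ | _ | _ | c
      · simp at hc
      · omega
      · rfl
      · have : 2 ^ i * 3 ≤ 2 ^ i * (c + 1 + 1 + 1) := Nat.mul_le_mul_left _ (by omega)
        omega
    rw [h1] at hc
    omega

theorem add_mul_pow_nil {A : Type*} [Ring A] {a b N : A} (hab : Commute a b) (haN : Commute a N)
    (hbN : Commute b N) {l : ℕ} (hl : N ^ (l + 1 + 1) = 0) (n : ℕ) :
    (a + b * N) ^ (n + 1) * N ^ l = a ^ (n + 1) * N ^ l + (n + 1) • (a ^ n * b * N ^ (l + 1)) := by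
  induction n with
  | zero =>
    rw [zero_add, pow_one, pow_one, one_smul, pow_zero, one_mul, add_mul, mul_assoc, ← pow_succ']
  | succ n ih =>
    have h0 : N * N ^ (l + 1) = 0 := by rw [← pow_succ', hl]
    rw [pow_succ' (a + b * N) (n + 1), mul_assoc, ih, add_mul a, mul_add a, mul_add (b * N)]
    have e1 : b * N * (a ^ (n + 1) * N ^ l) = a ^ (n + 1) * b * N ^ (l + 1) := by
      rw [mul_assoc b, ← mul_assoc N, ← ((haN.pow_left (n + 1)).eq), mul_assoc, ← pow_succ',
        ← mul_assoc, ← ((hab.pow_left (n + 1)).eq)]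
    have e2 : b * N * ((n + 1) • (a ^ n * b * N ^ (l + 1))) = 0 := by
      rw [mul_smul_comm, mul_assoc b, ← mul_assoc N, ← ((haN.pow_left n).mul_left hbN).eq,
        mul_assoc, h0]
      simp
    rw [e1, e2, add_zero, ← mul_assoc, ← pow_succ', mul_smul_comm, ← mul_assoc, ← mul_assoc,
      ← pow_succ', succ_nsmul _ (n + 1)]
    abel

end small

/-- An irreducible component: the dimension is the Mersenne prime `q = 2 ^ e - 1`. -/
theorem irred_stage {K W : Type*} [Field K] [IsAlgClosed K] [CharP K 2] [AddCommGroup W]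
    [Module K W] [FiniteDimensional K W] [Nontrivial W] {Q : Type*} [Group Q] [Fintype Q]
    {q : ℕ} (hq : q.Prime) (hq2 : q ≠ 2) (hQ : IsPGroup q Q) (r : Q →* Module.End K W)
    {X : Module.End K W} {α : MulAut Q} {e1 : ℕ} (he1 : 1 ≤ e1) (hXm : X ^ 2 ^ e1 = 1)
    (hαm : α ^ 2 ^ e1 = 1) (hint : ∀ u, X * r u = r (α u) * X)
    (hcomm : ∀ u v : Q, ⁅u, v⁆ ∈ scal r)
    (hnd : ∀ u : Q, u ∉ scal r → ∃ v : Q, r ⁅v, u⁆ ≠ 1)
    (hfpf : ∀ k, 0 < k → k < 2 ^ e1 → ∀ u, (α ^ k) u * u⁻¹ ∈ scal r → u ∈ scal r)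
    (hN : ∑ k ∈ Finset.range (2 ^ e1), X ^ k = 0)
    (hirr : ∀ U : Submodule K W, (∀ u, ∀ w ∈ U, r u w ∈ U) → (∀ w ∈ U, X w ∈ U) → U = ⊥ ∨ U = ⊤)
    (hQK : (Nat.card Q : K) ≠ 0) (hidx1 : (scal r).index ≠ 1) :
    2 ≤ e1 ∧ (scal r).index = q ^ 2 ∧ 2 ^ e1 = q + 1 ∧
      (∀ V : Submodule K W, (∀ u, ∀ w ∈ V, r u w ∈ V) → V = ⊥ ∨ V = ⊤) ∧
      (X - 1) ^ (2 ^ e1 - 2) ≠ 0 := by
  have hqf := Fact.mk hq
  set m := 2 ^ e1 with hm
  have hm2 : 2 ≤ m := Nat.le_self_pow (show e1 ≠ 0 by omega) 2
  have hQK' : (Fintype.card Q : K) ≠ 0 := by rwa [← Nat.card_eq_fintype_card]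
  obtain ⟨hidx, hlt, hdvd⟩ := Cfsg.Agent.HallHigman.core r m hm2 hXm hαm hint hQK hirr hcomm hnd
    hfpf hN
  set D := finrank K W with hD
  have hD2 : 2 ≤ D := by
    have hpos : 0 < D := Module.finrank_pos
    by_contra hD1
    push Not at hD1
    rw [show D = 1 by omega, one_pow] at hidx
    exact hidx1 hidx
  have he12 : 2 ≤ e1 := by
    by_contra hlt2
    push Not at hlt2
    have : m ≤ 2 := by
      rw [hm]
      calc 2 ^ e1 ≤ 2 ^ 1 := Nat.pow_le_pow_right (by norm_num) (by omega)
        _ = 2 := by norm_num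
    omega
  set h := 2 ^ (e1 - 2) with hh
  have hm4 : m = 4 * h := by
    rw [hh, hm, show (4 : ℕ) = 2 ^ 2 by norm_num, ← pow_add, show 2 + (e1 - 2) = e1 by omega]
  -- `D` is a power of `q`
  obtain ⟨jj, hjj⟩ : ∃ jj, D = q ^ jj := by
    obtain ⟨i, hi⟩ := IsPGroup.iff_card.mp hQ
    obtain ⟨i', -, hi'⟩ := (Nat.dvd_prime_pow hq).mp (hi ▸ (scal r).index_dvd_card)
    obtain ⟨j, -, hj⟩ := (Nat.dvd_prime_pow hq).mp
      ((dvd_pow_self D two_ne_zero).trans ((hidx.symm.trans hi').dvd))
    exact ⟨j, hj⟩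
  have hDodd : Odd D := hjj ▸ (hq.odd_of_ne_two hq2).pow
  have hXUm := hXm
  have hnilU : (X - 1) ^ m = 0 := by
    rw [hm, sub_one_pow_two, ← hm, hXUm, sub_self]
  -- `D > m / 2`
  have hYU : ∀ (u : Q), X ^ 2 ^ (e1 - 1) * r u =
      r ((α ^ 2 ^ (e1 - 1)) u) * X ^ 2 ^ (e1 - 1) := fun u =>
    Cfsg.Agent.HallHigman.pow_intertwine r hint _ u
  have hylt : 2 ^ (e1 - 1) < m := Nat.pow_lt_pow_right (by norm_num) (by omega)
  have hDgt : 2 * h < D := by
    by_contra hle
    push Not at hle
    have h0 : X ^ 2 ^ (e1 - 1) = 1 := by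
      have h1 : (X - 1) ^ 2 ^ (e1 - 1) = 0 := by
        refine pow_eq_zero_of_le ?_ (pow_eq_zero_of_nilpotent _ hnilU)
        rw [show 2 ^ (e1 - 1) = 2 * h by
          rw [hh, ← pow_succ', show e1 - 2 + 1 = e1 - 1 by omega]]
        exact hle
      rw [sub_one_pow_two, sub_eq_zero] at h1
      exact h1
    apply hidx1
    rw [Subgroup.index_eq_one, eq_top_iff]
    intro u _
    refine hfpf _ (by positivity) hylt u (⟨1, ?_⟩)
    have := hYU u
    rw [h0, one_mul, mul_one] at this
    rw [map_mul, ← this, ← map_mul, mul_inv_cancel, map_one, one_smul]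
  rw [hm4] at hlt hdvd
  have hcases := two_pow_cases ⟨e1 - 2, rfl⟩ hDgt hlt hDodd hdvd
  -- the transvection case
  have hDm : D = m - 1 := by
    rcases hcases with hc | hc
    swap; · omega
    rcases Nat.lt_or_ge D 4 with hD4 | hD4
    · have : h = 1 := by omega
      omega
    exfalso
    have hyY : finrank K (LinearMap.range (X ^ 2 ^ (e1 - 1) - 1)) ≤ 1 := by
      have := finrank_range_pow_le _ hnilU (2 ^ (e1 - 1))
      rw [sub_one_pow_two,
        show 2 ^ (e1 - 1) = 2 * h by
          rw [hh, ← pow_succ', show e1 - 2 + 1 = e1 - 1 by omega]] at this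
      rw [show 2 ^ (e1 - 1) = 2 * h by
          rw [hh, ← pow_succ', show e1 - 2 + 1 = e1 - 1 by omega]]
      omega
    set Y := X ^ 2 ^ (e1 - 1) with hY
    obtain ⟨u, hu⟩ : ∃ u, u ∉ scal r := by
      by_contra hall
      push Not at hall
      exact hidx1 (Subgroup.index_eq_one.mpr (eq_top_iff.mpr fun u _ => hall u))
    set g := (α ^ 2 ^ (e1 - 1)) u * u⁻¹ with hg
    have hgns : g ∉ scal r := fun hmem => hu (hfpf _ (by positivity) hylt u hmem)
    obtain ⟨v, hv⟩ := hnd g hgns
    obtain ⟨s, hs⟩ := hcomm v g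
    have hs1 : s ≠ 1 := fun h => hv (by rw [hs, h, one_smul])
    obtain ⟨j, hj⟩ : ∃ j, s ^ q ^ j = 1 := by
      obtain ⟨j, hj⟩ := hQ ⁅v, g⁆
      refine ⟨j, smul_left_injective K (one_ne_zero (α := Module.End K W)) ?_⟩
      calc (s ^ q ^ j) • (1 : Module.End K W) = r (⁅v, g⁆ ^ q ^ j) := by
            rw [map_pow, hs, smul_pow, one_pow]
        _ = (1 : K) • 1 := by rw [hj, map_one, one_smul]
    have hs0 : s ≠ 0 := fun h => by rw [h, zero_pow (pow_ne_zero _ hq.ne_zero)] at hj; exact zero_ne_one hj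
    have hss : s * s ≠ 1 := by
      intro h2
      have h3 : orderOf s ∣ Nat.gcd 2 (q ^ j) :=
        Nat.dvd_gcd (orderOf_dvd_of_pow_eq_one (by rw [sq, h2])) (orderOf_dvd_of_pow_eq_one hj)
      rw [Nat.Coprime.gcd_eq_one (Nat.coprime_two_left.mpr ((hq.odd_of_ne_two hq2).pow)),
        Nat.dvd_one, orderOf_eq_one_iff] at h3
      exact hs1 h3
    -- `g - 1` has rank at most two
    have hYY : Y * Y = 1 := by
      rw [hY, ← pow_add, ← two_mul, ← pow_succ', show e1 - 1 + 1 = e1 by omega]
      exact hXUm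
    have hgY : r g = Y * (r u * Y * r u⁻¹) := by
      calc r g = r ((α ^ 2 ^ (e1 - 1)) u) * (Y * Y) * r u⁻¹ := by rw [hg, map_mul, hYY, mul_one]
        _ = Y * (r u * Y * r u⁻¹) := by
            rw [← mul_assoc, ← hYU, mul_assoc, mul_assoc, ← mul_assoc (r u) Y]
    let Fx := LinearMap.ker (r g - 1)
    have hrank : finrank K (LinearMap.range (r g - 1)) ≤ 2 := by
      have he : r g - 1 = Y * (r u * (Y - 1) * r u⁻¹) + (Y - 1) := by
        rw [hgY, mul_sub, sub_mul, mul_one, ← map_mul r u u⁻¹, mul_inv_cancel, map_one, mul_sub,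
          mul_one]
        abel
      have h1 : finrank K (LinearMap.range (Y * (r u * (Y - 1) * r u⁻¹))) ≤ 1 := by
        rw [Module.End.mul_eq_comp, LinearMap.range_comp, Module.End.mul_eq_comp,
          Module.End.mul_eq_comp]
        refine (Submodule.finrank_map_le _ _).trans ((Submodule.finrank_mono
          (LinearMap.range_comp_le_range _ _)).trans ?_)
        rw [LinearMap.range_comp]
        exact (Submodule.finrank_map_le _ _).trans hyY
      rw [he]
      refine (Submodule.finrank_mono ?_).trans ((Submodule.finrank_add_le_finrank_add_finrank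
        _ _).trans (Nat.add_le_add h1 hyY))
      rintro _ ⟨w, rfl⟩
      exact Submodule.add_mem_sup (LinearMap.mem_range_self _ w) (LinearMap.mem_range_self _ w)
    have hfF := (r g - 1).finrank_range_add_finrank_ker
    have hEv : ∀ t : K, ∀ w, r g w = t • w → r g (r v w) = (s⁻¹ * t) • r v w := by
      intro t w hw
      have h1 : r v * r g = s • (r g * r v) := by
        calc r v * r g = r (⁅v, g⁆ * (g * v)) := by
              rw [← map_mul]; congr 1; simp [commutatorElement_def, mul_assoc]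
          _ = s • (r g * r v) := by rw [map_mul, hs, smul_one_mul, map_mul]
      have h3 := LinearMap.congr_fun h1 w
      rw [Module.End.mul_apply, hw, map_smul, LinearMap.smul_apply, Module.End.mul_apply] at h3
      rw [← smul_smul, h3, smul_smul, inv_mul_cancel₀ hs0, one_smul]
    let Ev : K → Submodule K W := fun t => LinearMap.ker (r g - t • 1)
    have hmemEv : ∀ t w, w ∈ Ev t ↔ r g w = t • w := fun t w => by simp [Ev, sub_eq_zero]
    have hinjv : Function.Injective (r v) := Function.LeftInverse.injective (g := r v⁻¹)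
      fun w => by rw [← Module.End.mul_apply, ← map_mul, inv_mul_cancel, map_one, Module.End.one_apply]
    have hstepE : ∀ t, finrank K (Ev t) ≤ finrank K (Ev (s⁻¹ * t)) := fun t =>
      (Submodule.equivMapOfInjective _ hinjv (Ev t)).finrank_eq.trans_le
        (Submodule.finrank_mono (by
          rintro _ ⟨w, hw, rfl⟩
          exact (hmemEv _ _).mpr (hEv t w ((hmemEv t w).mp hw))))
    have h12 : Ev 1 ⊓ Ev s⁻¹ = ⊥ := by
      rw [eq_bot_iff]
      rintro w ⟨h1, h2⟩
      rw [SetLike.mem_coe, hmemEv] at h1 h2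
      rw [h1, one_smul] at h2
      have : (1 - s⁻¹) • w = 0 := by rw [sub_smul, one_smul, ← h2, sub_self]
      rcases smul_eq_zero.mp this with h | h
      · exact absurd (inv_eq_one.mp (sub_eq_zero.mp h).symm) hs1
      · exact (Submodule.mem_bot K).mpr h
    have h123 : (Ev 1 ⊔ Ev s⁻¹) ⊓ Ev (s⁻¹ * s⁻¹) = ⊥ := by
      rw [eq_bot_iff]
      rintro w ⟨hw1, hw2⟩
      obtain ⟨a, ha, b, hb, rfl⟩ := Submodule.mem_sup.mp hw1
      rw [SetLike.mem_coe, hmemEv] at hw2
      rw [hmemEv, one_smul] at ha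
      rw [hmemEv] at hb
      rw [map_add, ha, hb, smul_add] at hw2
      set t := s⁻¹ * s⁻¹
      have hab : (1 - t) • a = (t - s⁻¹) • b := by
        rw [sub_smul, sub_smul, one_smul, sub_eq_sub_iff_add_eq_add, hw2]; abel
      have hmem : (1 - t) • a ∈ Ev 1 ⊓ Ev s⁻¹ :=
        ⟨Submodule.smul_mem _ _ ((hmemEv 1 a).mpr (by rw [ha, one_smul])),
          hab ▸ Submodule.smul_mem _ _ ((hmemEv _ b).mpr hb)⟩
      rw [h12, Submodule.mem_bot] at hmem
      have ha0 : a = 0 := (smul_eq_zero.mp hmem).resolve_left fun h => hss (by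
        rw [sub_eq_zero] at h
        have : (s * s) * t = s * s := by rw [← h, mul_one]
        rw [← this]; simp only [t]; field_simp)
      rw [hmem, eq_comm, smul_eq_zero] at hab
      have hb0 : b = 0 := hab.resolve_left fun h => hs1 (by
        rw [sub_eq_zero] at h
        simp only [t] at h
        have h5 : s⁻¹ = 1 := (mul_eq_left₀ (inv_ne_zero hs0)).mp h
        exact inv_eq_one.mp h5)
      rw [ha0, hb0, add_zero]
      exact Submodule.zero_mem _
    have hsum : finrank K (Ev 1) + finrank K (Ev s⁻¹) + finrank K (Ev (s⁻¹ * s⁻¹)) ≤ D := by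
      rw [← Submodule.finrank_sup_add_finrank_inf_eq (Ev 1), h12, finrank_bot, add_zero,
        ← Submodule.finrank_sup_add_finrank_inf_eq, h123, finrank_bot, add_zero]
      exact Submodule.finrank_le _
    have h1' := hstepE 1
    rw [mul_one] at h1'
    have h2' := hstepE s⁻¹
    have hEv1 : Ev 1 = LinearMap.ker (r g - 1) := by simp [Ev]
    rw [hEv1] at h1' hsum
    omega
  -- hence `D = q`
  have hDq : D = q := by
    have heq : (2 : ℕ) ^ e1 = q ^ jj + 1 := by rw [← hjj, ← hm]; omega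
    have hj0 : jj ≠ 0 := fun h => by rw [hjj, h, pow_zero] at hD2; omega
    rcases Cfsg.Agent.S3784.result 2 q e1 jj Nat.prime_two hq (by omega) (by omega) heq with
      h | h | h
    · rw [hjj, h.2.1, pow_one]
    · exact absurd h.1 hq2
    · rw [hjj]; omega
  have hirrC1 : ∀ V : Submodule K W, (∀ u, ∀ w ∈ V, r u w ∈ V) → V = ⊥ ∨ V = ⊤ := by
    intro V hV
    refine or_iff_not_imp_left.mpr fun hV0 => ?_
    have : Nontrivial V := Submodule.nontrivial_iff_ne_bot.mpr hV0
    let rV : Q →* Module.End K V :=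
      { toFun := fun u => (r u).restrict (hV u)
        map_one' := LinearMap.ext fun w => Subtype.ext (by simp)
        map_mul' := fun a b => LinearMap.ext fun w => Subtype.ext (by
          show r (a * b) w = _; rw [map_mul]; rfl) }
    have hscalV : scal (W := V) rV = scal r := by
      refine le_antisymm ?_ ?_
      · rintro u ⟨c, hc⟩
        by_contra hu
        obtain ⟨v, hv⟩ := hnd u hu
        obtain ⟨d, hd⟩ := hcomm v u
        refine hv ?_
        obtain ⟨w, hw⟩ := exists_ne (0 : V)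
        have hone : rV ⁅v, u⁆ = 1 := by
          rw [commutatorElement_def, map_mul, map_mul, map_mul, hc, mul_smul_comm, mul_one,
            smul_mul_assoc, ← map_mul, mul_inv_cancel, map_one, smul_one_mul]
          calc c • rV u⁻¹ = (c • (1 : Module.End K V)) * rV u⁻¹ := by rw [smul_one_mul]
            _ = 1 := by rw [← hc, ← map_mul, mul_inv_cancel, map_one]
        have h2 := congrArg (fun e : Module.End K V => ((e w : V) : W)) hone
        change r ⁅v, u⁆ w = (w : W) at h2
        rw [hd, LinearMap.smul_apply, Module.End.one_apply] at h2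
        rw [hd, smul_left_injective K (fun h => hw (Subtype.ext h)) (h2.trans (one_smul K _).symm),
          one_smul]
      · rintro u ⟨c, hc⟩
        exact ⟨c, LinearMap.ext fun w => Subtype.ext (LinearMap.congr_fun hc (w : W))⟩
    have hle := index_le_sq (W := V) rV (fun u v => hscalV ▸ hcomm u v) (fun u hu => by
      obtain ⟨v, hv⟩ := hnd u (hscalV ▸ hu)
      obtain ⟨d, hd⟩ := hcomm v u
      refine ⟨v, fun h => hv ?_⟩
      obtain ⟨w, hw⟩ := exists_ne (0 : V)
      have h2 := congrArg (fun e : Module.End K V => ((e w : V) : W)) h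
      change r ⁅v, u⁆ w = (w : W) at h2
      rw [hd, LinearMap.smul_apply, Module.End.one_apply] at h2
      rw [hd, smul_left_injective K (fun h => hw (Subtype.ext h)) (h2.trans (one_smul K _).symm),
        one_smul]) hQK'
    rw [hscalV, hidx] at hle
    have hle' : D ≤ finrank K V := Nat.pow_le_pow_iff_left two_ne_zero |>.mp hle
    exact Submodule.eq_of_le_of_finrank_le le_top (by rw [finrank_top]; exact hle')
  refine ⟨he12, by rw [hidx, hDq], by omega, hirrC1, fun hT2 => ?_⟩
  have h2h : 2 * h = 2 ^ (e1 - 1) := by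
    rw [hh, ← pow_succ', show e1 - 2 + 1 = e1 - 1 by omega]
  have hsum2 : ∑ j ∈ Finset.range (2 * h), (X ^ 2) ^ j = 0 := by
    rw [h2h, geom_eq_sub_one_pow]
    have hsq : X ^ 2 - 1 = (X - 1) ^ 2 ^ 1 := by rw [sub_one_pow_two, pow_one]
    rw [hsq, ← pow_mul, show 2 ^ 1 * (2 ^ (e1 - 1) - 1) = m - 2 by rw [← h2h, hm4]; omega, hT2]
  obtain ⟨-, hlt2, -⟩ := Cfsg.Agent.HallHigman.core r (X := X ^ 2) (α := α ^ 2) (2 * h) (by omega)
    (by rw [← pow_mul, show 2 * (2 * h) = 4 * h by ring, ← hm4, hXm])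
    (by rw [← pow_mul, show 2 * (2 * h) = 4 * h by ring, ← hm4, hαm])
    (fun u => Cfsg.Agent.HallHigman.pow_intertwine r hint 2 u) hQK
    (fun V h1 _ => hirrC1 V h1) hcomm hnd
    (fun j hj0 hj u hu => hfpf (2 * j) (by omega) (by omega) u (by rwa [← pow_mul] at hu)) hsum2
  omega

/-! ### The component -/

section component

variable {K W : Type*} [Field K] [IsAlgClosed K] [CharP K 2] [AddCommGroup W] [Module K W]
  [FiniteDimensional K W]
variable {H : Type*} [Group H] [Finite H] (ρ : Representation K H W)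

/-- The elements of `C` pairing trivially with `C` under `l`. -/
def InRad {C : Subgroup H} (l : ↥(C ⊓ Subgroup.centralizer (C : Set H)) →* K) (u : H) : Prop :=
  ∀ v ∈ C, ∀ hz : ⁅u, v⁆ ∈ C ⊓ Subgroup.centralizer (C : Set H), l ⟨⁅u, v⁆, hz⟩ = 1

set_option maxHeartbeats 6400000 in
theorem component {q : ℕ} (hq : q.Prime) (hq2 : q ≠ 2) {x : H} {n : ℕ} (hn : 1 ≤ n)
    (hxn : x ^ 2 ^ n = 1) (hN : ∑ k ∈ Finset.range (2 ^ n), ρ x ^ k = 0) {C : Subgroup H}
    (hC : IsPGroup q C) (hxC : x ∈ Subgroup.normalizer (C : Set H))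
    (hcl : ∀ a ∈ C, ∀ b ∈ C, ⁅a, b⁆ ∈ C ⊓ Subgroup.centralizer (C : Set H))
    (hyZ : ∀ z ∈ C ⊓ Subgroup.centralizer (C : Set H),
      x ^ 2 ^ (n - 1) * z = z * x ^ 2 ^ (n - 1))
    (l : ↥(C ⊓ Subgroup.centralizer (C : Set H)) →* K)
    (hl0 : ∃ w : W, w ≠ 0 ∧ ∀ z : ↥(C ⊓ Subgroup.centralizer (C : Set H)), ρ (z : H) w = l z • w)
    (hmove : ∃ u ∈ C, ¬ InRad l ⁅x ^ 2 ^ (n - 1), u⁆) :
    ∃ f, f + 2 ≤ n ∧
      (∀ z z' : ↥(C ⊓ Subgroup.centralizer (C : Set H)),
        (z' : H) = x ^ 2 ^ f * z * (x ^ 2 ^ f)⁻¹ → l z' = l z) ∧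
      (∀ u ∈ C, InRad l ⁅x ^ 2 ^ (n - 1), u⁆ → InRad l ⁅x ^ 2 ^ f, u⁆) ∧
      ∀ R0 : Subgroup H, (∀ u ∈ C, u ∈ R0 ↔ InRad l u) →
        R0.relIndex ⁅Subgroup.zpowers (x ^ 2 ^ (n - 1)), C⁆ ∣ q ^ 2 := by
  classical
  have hqf := Fact.mk hq
  let Z : Subgroup H := C ⊓ Subgroup.centralizer (C : Set H)
  set y := x ^ 2 ^ (n - 1) with hy
  have hyy : y * y = 1 := by
    rw [hy, ← pow_add, ← two_mul, ← pow_succ', Nat.sub_add_cancel hn, hxn]
  have hyC : y ∈ Subgroup.normalizer (C : Set H) := pow_mem hxC _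
  have hxZ : x ∈ Subgroup.normalizer (Z : Set H) := Cfsg.Agent.HallHigman.mem_normalizer_centralizer
    hxC |> fun h => Cfsg.Agent.CoprimeAction.le_normalizer_inf (A := Subgroup.zpowers x)
      (Subgroup.zpowers_le.mpr hxC) (Subgroup.zpowers_le.mpr h) (Subgroup.mem_zpowers x)
  let αZ : MulAut Z := Subgroup.normalizerMonoidHom Z ⟨x, hxZ⟩
  have hαZ : ∀ (k : ℕ) (z : Z), (((αZ ^ k) z : Z) : H) = x ^ k * z * (x ^ k)⁻¹ := fun k z => by
    rw [← map_pow]; rfl
  have hlfix : ∀ k : ℕ, (∀ z, l ((αZ ^ k) z) = l z) → ∀ i, ∀ z, l ((αZ ^ (k * i)) z) = l z := by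
    intro k hk i
    induction i with
    | zero => intro z; simp
    | succ i ih => intro z; rw [Nat.mul_succ, pow_add, MulAut.mul_apply, ih, hk]
  have htopfix : ∀ z, l ((αZ ^ 2 ^ (n - 1)) z) = l z := fun z => by
    congr 1
    exact Subtype.ext (by rw [hαZ, ← hy, hyZ z z.2, mul_inv_cancel_right])
  have hex : ∃ f, ∀ z, l ((αZ ^ 2 ^ f) z) = l z := ⟨n - 1, htopfix⟩
  set f := Nat.find hex with hf
  have hffix := Nat.find_spec hex
  have hfn : f ≤ n - 1 := Nat.find_min' hex htopfix
  set e1 := n - f with he1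
  set m := 2 ^ e1 with hm
  set x1 := x ^ 2 ^ f with hx1
  have hx1m : x1 ^ m = 1 := by
    rw [hx1, hm, ← pow_mul, ← pow_add, show f + (n - f) = n by omega, hxn]
  have hx1y : x1 ^ 2 ^ (e1 - 1) = y := by
    rw [hx1, hy, ← pow_mul, ← pow_add, show f + (n - f - 1) = n - 1 by omega]
  have horbit : ∀ k, ¬ 2 ^ f ∣ k → ∃ b, l ((αZ ^ k) b) ≠ l b := by
    intro k hk
    by_contra hall
    push Not at hall
    have hk0 : k ≠ 0 := fun h => hk (h ▸ dvd_zero _)
    obtain ⟨i, k', hk', rfl⟩ := Nat.exists_eq_pow_mul_and_not_dvd hk0 2 (by norm_num)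
    have hif : i < f := by
      by_contra h
      exact hk ((pow_dvd_pow 2 (by omega)).mul_right k')
    obtain ⟨t, ht1, ht⟩ := Nat.exists_mul_mod_eq_gcd (n := k') (k := 2 ^ n)
      (by
        rw [Nat.Coprime.pow_right n ((Nat.prime_two.coprime_iff_not_dvd).mpr hk').symm]
        exact Nat.one_lt_pow (by omega) (by norm_num))
    rw [Nat.Coprime.pow_right n ((Nat.prime_two.coprime_iff_not_dvd).mpr hk').symm] at ht
    refine Nat.find_min hex hif fun z => ?_
    have h1 := hlfix _ hall t z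
    convert h1 using 2
    refine Subtype.ext ?_
    rw [hαZ, hαZ]
    have h2 : x ^ (2 ^ i * k' * t) = x ^ 2 ^ i := by
      rw [mul_assoc, mul_comm, pow_mul]
      conv_lhs => rw [← Nat.mod_add_div (k' * t) (2 ^ n), ht, pow_add, pow_one, pow_mul, hxn,
        one_pow, mul_one]
    rw [h2]
  -- the component
  let W' : Submodule K W := ⨅ z : Z, LinearMap.ker (ρ (z : H) - l z • 1)
  have hmemW : ∀ w, w ∈ W' ↔ ∀ z : Z, ρ (z : H) w = l z • w := by
    intro w; simp [W', sub_eq_zero]
  have hWC : ∀ u ∈ C, ∀ w ∈ W', ρ u w ∈ W' := by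
    intro u hu w hw
    rw [hmemW] at hw ⊢
    intro z
    rw [← Module.End.mul_apply, ← map_mul, ← Subgroup.mem_centralizer_iff.mp z.2.2 u hu, map_mul,
      Module.End.mul_apply, hw, map_smul]
  have hWx : ∀ k, 2 ^ f ∣ k → ∀ w ∈ W', ρ (x ^ k) w ∈ W' := by
    rintro _ ⟨i, rfl⟩ w hw
    rw [hmemW] at hw ⊢
    intro z
    obtain ⟨b, rfl⟩ := (αZ ^ (2 ^ f * i)).surjective z
    rw [← Module.End.mul_apply, ← map_mul, hαZ, inv_mul_cancel_right, map_mul,
      Module.End.mul_apply, hw, map_smul, hlfix _ hffix i]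
  have hnt : Nontrivial W' := by
    obtain ⟨w, hw0, hw⟩ := hl0
    exact ⟨⟨⟨w, (hmemW w).mpr hw⟩, 0, fun h => hw0 (congrArg Subtype.val h)⟩⟩
  -- the norm of `x1` vanishes on the component
  have hWN : ∀ w ∈ W', ∑ j ∈ Finset.range m, ρ (x1 ^ j) w = 0 := by
    intro w hw
    have : Fintype Z := Fintype.ofFinite Z
    have hnonfix : ∀ k, ¬ 2 ^ f ∣ k → ∑ a : Z, l a⁻¹ • ρ a (ρ (x ^ k) w) = 0 := by
      intro k hk
      obtain ⟨b, hb⟩ := horbit k hk
      set c := (αZ ^ k) b
      have h2 : ∑ a : Z, l a⁻¹ • ρ a (ρ c (ρ (x ^ k) w)) =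
          l c • ∑ a : Z, l a⁻¹ • ρ a (ρ (x ^ k) w) := by
        rw [Finset.smul_sum]
        refine Eq.trans (Finset.sum_congr rfl fun a _ => ?_)
          (Equiv.sum_comp (Equiv.mulRight c) fun a => l c • l a⁻¹ • ρ a (ρ (x ^ k) w))
        rw [Equiv.coe_mulRight, ← Module.End.mul_apply (ρ a), ← map_mul, smul_smul, ← map_mul]
        congr 1
        rw [mul_inv_rev, mul_inv_cancel_left]
      have h3 : ρ c (ρ (x ^ k) w) = l b • ρ (x ^ k) w := by
        rw [← Module.End.mul_apply, ← map_mul, hαZ, inv_mul_cancel_right, map_mul,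
          Module.End.mul_apply, (hmemW w).mp hw, map_smul]
      simp only [h3, map_smul] at h2
      rw [← sub_eq_zero, Finset.sum_congr rfl fun a _ => smul_comm (l a⁻¹) (l b) _,
        ← Finset.smul_sum, ← sub_smul, smul_eq_zero, sub_eq_zero] at h2
      exact h2.resolve_left (Ne.symm hb)
    have hfixk : ∀ k, 2 ^ f ∣ k →
        ∑ a : Z, l a⁻¹ • ρ a (ρ (x ^ k) w) = Fintype.card Z • ρ (x ^ k) w := by
      intro k hk
      rw [Finset.sum_congr rfl (g := fun _ => ρ (x ^ k) w) ?_, Finset.sum_const, Finset.card_univ]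
      intro a _
      rw [(hmemW _).mp (hWx k hk w hw) a, smul_smul, ← map_mul, inv_mul_cancel, map_one, one_smul]
    have h0 : ∑ k ∈ Finset.range (2 ^ n), ∑ a : Z, l a⁻¹ • ρ a (ρ (x ^ k) w) = 0 := by
      rw [Finset.sum_comm]
      refine Finset.sum_eq_zero fun a _ => ?_
      have := LinearMap.congr_fun hN w
      simp only [LinearMap.sum_apply, ← map_pow, LinearMap.zero_apply] at this
      rw [← Finset.smul_sum, ← map_sum, this, map_zero, smul_zero]
    rw [← Finset.sum_filter_add_sum_filter_not _ fun k => 2 ^ f ∣ k,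
      Finset.sum_eq_zero (s := Finset.filter (fun k => ¬ 2 ^ f ∣ k) _)
        (fun k hk => hnonfix k (Finset.mem_filter.mp hk).2), add_zero,
      Finset.sum_congr rfl fun k hk => hfixk k (Finset.mem_filter.mp hk).2,
      ← Finset.smul_sum, ← Nat.cast_smul_eq_nsmul K, smul_eq_zero] at h0
    have hZK : ((Fintype.card Z : ℕ) : K) ≠ 0 := by
      obtain ⟨i, hi⟩ := IsPGroup.iff_card.mp (hC.to_le (inf_le_left : Z ≤ C))
      rw [← Nat.card_eq_fintype_card, hi, Nat.cast_pow]
      refine pow_ne_zero _ ?_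
      rw [Ne, CharP.cast_eq_zero_iff K 2, Nat.prime_dvd_prime_iff_eq Nat.prime_two hq]
      exact Ne.symm hq2
    refine Eq.trans ?_ (h0.resolve_left hZK)
    have hpf : 0 < 2 ^ f := by positivity
    refine Finset.sum_bij' (fun j _ => 2 ^ f * j) (fun k _ => k / 2 ^ f) ?_ ?_ ?_ ?_ ?_
    · intro j hj
      refine Finset.mem_filter.mpr ⟨Finset.mem_range.mpr ?_, dvd_mul_right _ _⟩
      rw [show 2 ^ n = 2 ^ f * 2 ^ e1 by rw [← pow_add, he1, Nat.add_sub_cancel' (by omega)]]
      exact Nat.mul_lt_mul_of_pos_left (Finset.mem_range.mp hj) hpf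
    · intro k hk
      refine Finset.mem_range.mpr ((Nat.div_lt_iff_lt_mul hpf).mpr ?_)
      rw [hm, ← pow_add, show e1 + f = n by omega]
      exact Finset.mem_range.mp (Finset.mem_filter.mp hk).1
    · intro j _
      exact Nat.mul_div_cancel_left _ hpf
    · intro k hk
      exact Nat.mul_div_cancel' (Finset.mem_filter.mp hk).2
    · intro j _
      rw [hx1, ← pow_mul]
  -- operators on the component
  let R : C →* Module.End K W' :=
    { toFun := fun u => (ρ (u : H)).restrict (hWC u u.2)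
      map_one' := LinearMap.ext fun w => Subtype.ext (by simp)
      map_mul' := fun a b => LinearMap.ext fun w => Subtype.ext (by
        show ρ ((a : H) * b) w = _; rw [map_mul]; rfl) }
  let X : Module.End K W' := (ρ x1).restrict (hWx (2 ^ f) dvd_rfl)
  have hXpow : ∀ (k : ℕ) (w : W'), ((X ^ k) w : W) = ρ (x1 ^ k) w := by
    intro k
    induction k with
    | zero => intro w; simp
    | succ k ih =>
      intro w
      rw [pow_succ', pow_succ', map_mul, Module.End.mul_apply, Module.End.mul_apply, ← ih]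
      rfl
  have hXm : X ^ m = 1 := LinearMap.ext fun w => Subtype.ext (by
    rw [hXpow, hx1m, map_one]; rfl)
  have hXN : ∑ k ∈ Finset.range m, X ^ k = 0 := LinearMap.ext fun w => Subtype.ext (by
    rw [LinearMap.sum_apply, Submodule.coe_sum, Finset.sum_congr rfl fun k _ => hXpow k w]
    exact hWN w w.2)
  have hx1C : x1 ∈ Subgroup.normalizer (C : Set H) := pow_mem hxC _
  let αC : MulAut C := Subgroup.normalizerMonoidHom C ⟨x1, hx1C⟩
  have hαC : ∀ (k : ℕ) (u : C), (((αC ^ k) u : C) : H) = x1 ^ k * u * (x1 ^ k)⁻¹ := fun k u => by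
    rw [← map_pow]; rfl
  have hintC : ∀ u : C, X * R u = R (αC u) * X := fun u => LinearMap.ext fun w => Subtype.ext (by
    show ρ x1 (ρ (u : H) w) = ρ ((αC u : C) : H) (ρ x1 w)
    rw [← Module.End.mul_apply, ← Module.End.mul_apply, ← map_mul, ← map_mul]
    congr 2
    show x1 * (u : H) = (x1 * u * x1⁻¹) * x1
    rw [inv_mul_cancel_right])
  have hZs : ∀ (u : C) (hz : (u : H) ∈ Z), R u = l ⟨u, hz⟩ • 1 := fun u hz =>
    LinearMap.ext fun w => Subtype.ext ((hmemW w).mp w.2 ⟨u, hz⟩)
  have hcommC : ∀ u v : C, R ⁅u, v⁆ = l ⟨⁅(u : H), v⁆, hcl u u.2 v v.2⟩ • 1 := fun u v =>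
    hZs ⁅u, v⁆ (hcl u u.2 v v.2)
  have hl1 : ∀ (z : Z), l z = 1 ↔ (l z • (1 : Module.End K W') = 1) := fun z =>
    ⟨fun h => by rw [h, one_smul], fun h =>
      smul_left_injective K (one_ne_zero (α := Module.End K W')) (h.trans (one_smul K 1).symm)⟩
  have hcomm_iff : ∀ u v : C, l ⟨⁅(u : H), v⁆, hcl u u.2 v v.2⟩ = 1 ↔
      R u * R v = R v * R u := by
    intro u v
    rw [hl1, ← hcommC]
    constructor
    · intro h
      calc R u * R v = R (⁅u, v⁆ * (v * u)) := by
            rw [← map_mul]; congr 1; simp [commutatorElement_def, mul_assoc]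
        _ = R v * R u := by rw [map_mul, h, one_mul, map_mul]
    · intro h
      rw [commutatorElement_def, map_mul, map_mul, map_mul, h, mul_assoc (R v), ← map_mul,
        mul_inv_cancel, map_one, mul_one, ← map_mul, mul_inv_cancel, map_one]
  have hrad_iff : ∀ u : C, InRad l (u : H) ↔ ∀ v : C, R u * R v = R v * R u := by
    intro u
    refine ⟨fun h v => (hcomm_iff u v).mp (h v v.2 _), fun h v hv hz => ?_⟩
    exact (hcomm_iff u ⟨v, hv⟩).mpr (h ⟨v, hv⟩)
  -- `C1 = [y, C]`
  set C1 := ⁅Subgroup.zpowers y, C⁆ with hC1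
  have hC1C : C1 ≤ C := by
    rw [hC1, Subgroup.commutator_comm]
    exact Cfsg.Agent.CoprimeAction.commutator_le_self_of_le_normalizer
      (Subgroup.zpowers_le.mpr hyC)
  have hzy : ∀ z ∈ Subgroup.zpowers y, z = 1 ∨ z = y := by
    intro z hz
    obtain ⟨i, rfl⟩ := hz
    rcases Int.even_or_odd i with ⟨t, rfl⟩ | ⟨t, rfl⟩
    · left
      show y ^ (t + t) = 1
      rw [zpow_add, ← (Commute.refl y).mul_zpow, hyy, one_zpow]
    · right
      show y ^ (2 * t + 1) = y
      rw [zpow_add_one, two_mul, zpow_add, ← (Commute.refl y).mul_zpow, hyy, one_zpow, one_mul]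
  have hx1C1 : x1 ∈ Subgroup.normalizer (C1 : Set H) := by
    rw [Subgroup.mem_normalizer_iff_map_conj_eq, hC1, Subgroup.map_commutator,
      Subgroup.mem_normalizer_iff_map_conj_eq.mp hx1C, MonoidHom.map_zpowers]
    congr 2
    show x1 * y * x1⁻¹ = y
    rw [← hx1y, ← pow_succ', pow_succ, mul_inv_cancel_right]
  let r : C1 →* Module.End K W' := R.comp (Subgroup.inclusion hC1C)
  let α : MulAut C1 := Subgroup.normalizerMonoidHom C1 ⟨x1, hx1C1⟩
  have hαk : ∀ (k : ℕ) (u : C1), (((α ^ k) u : C1) : H) = x1 ^ k * u * (x1 ^ k)⁻¹ := fun k u => by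
    rw [← map_pow]; rfl
  have hint : ∀ u, X * r u = r (α u) * X := fun u => hintC _
  have hyinv : y⁻¹ = y := inv_eq_of_mul_eq_one_right hyy
  let ay : C →* C :=
    { toFun := fun u => ⟨y * u * y⁻¹, (Subgroup.mem_normalizer_iff.mp hyC u).mp u.2⟩
      map_one' := Subtype.ext (by simp)
      map_mul' := fun a b => Subtype.ext (by simp [mul_assoc]) }
  -- `y` inverts `C1` modulo scalars
  have hanti : ∀ u (hu : u ∈ C1), R (ay ⟨u, hC1C hu⟩ * ⟨u, hC1C hu⟩) ∈
      {e : Module.End K W' | ∃ c : K, e = c • 1} := by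
    let T : Subgroup C :=
      { carrier := {u | ay u * u ∈ scal R}
        one_mem' := by simp [Subgroup.one_mem]
        mul_mem' := fun {a b} ha hb => by
          show ay (a * b) * (a * b) ∈ scal R
          rw [map_mul, show ay a * ay b * (a * b) = ay a * a * ⁅a⁻¹, ay b⁆ * (ay b * b) by
            simp [commutatorElement_def, mul_assoc]]
          exact (scal R).mul_mem ((scal R).mul_mem ha ⟨_, hcommC _ _⟩) hb
        inv_mem' := fun {a} ha => by
          show ay a⁻¹ * a⁻¹ ∈ scal R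
          rw [map_inv, show (ay a)⁻¹ * a⁻¹ = (ay a)⁻¹ * (ay a * a)⁻¹ * (ay a) by group]
          simpa using (Cfsg.Agent.HallHigman.scal_normal R).conj_mem _ ((scal R).inv_mem ha) (ay a)⁻¹ }
    have hle : C1 ≤ T.map C.subtype := by
      rw [hC1, Subgroup.commutator_le]
      intro z hz u hu
      rcases hzy z hz with rfl | rfl
      · rw [commutatorElement_one_left]; exact Subgroup.one_mem _
      · refine ⟨⟨⁅y, u⁆, ?_⟩, ?_, rfl⟩
        · rw [commutatorElement_def]
          exact C.mul_mem ((Subgroup.mem_normalizer_iff.mp hyC u).mp hu) (C.inv_mem hu)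
        · show ay _ * _ ∈ scal R
          refine ⟨1, ?_⟩
          rw [one_smul, ← map_one R]
          congr 1
          refine Subtype.ext ?_
          show y * ⁅y, u⁆ * y⁻¹ * ⁅y, u⁆ = 1
          rw [commutatorElement_def, hyinv]
          calc y * (y * u * y * u⁻¹) * y * (y * u * y * u⁻¹)
              = (y * y) * u * y * u⁻¹ * (y * y) * u * y * u⁻¹ := by simp only [mul_assoc]
            _ = u * y * y * u⁻¹ := by rw [hyy]; simp [mul_assoc]
            _ = 1 := by rw [mul_assoc u, hyy, mul_one, mul_inv_cancel]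
    intro u hu
    obtain ⟨v, hv, hvu⟩ := hle hu
    obtain rfl : v = ⟨u, hC1C hu⟩ := Subtype.ext hvu
    exact hv
  have hodd : ∀ (u : C), R (u ^ 2) ∈ {e : Module.End K W' | ∃ c : K, e = c • 1} →
      ∃ c : K, R u = c • 1 := by
    rintro u ⟨c, hc⟩
    obtain ⟨i, hi⟩ := hC u
    obtain ⟨t, ht⟩ : Odd (q ^ i) := (hq.odd_of_ne_two hq2).pow
    refine ⟨c ^ (t + 1), ?_⟩
    calc R u = R ((u ^ 2) ^ (t + 1)) := by
          rw [← pow_mul, show 2 * (t + 1) = q ^ i + 1 by omega, pow_succ, hi, one_mul]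
      _ = c ^ (t + 1) • 1 := by rw [map_pow, hc, smul_pow, one_pow]
  have hm1 : 1 ≤ m := Nat.one_le_two_pow
  have hQK : (Nat.card C1 : K) ≠ 0 := by
    obtain ⟨i, hi⟩ := IsPGroup.iff_card.mp (hC.to_le hC1C)
    rw [hi, Nat.cast_pow]
    refine pow_ne_zero _ ?_
    rw [Ne, CharP.cast_eq_zero_iff K 2, Nat.prime_dvd_prime_iff_eq Nat.prime_two hq]
    exact Ne.symm hq2
  -- central elements of `C1` are scalar
  have hA : ∀ u : C1, (∀ v : C1, r u * r v = r v * r u) → u ∈ scal r := by
    let A0 : Subgroup C1 :=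
      { carrier := {u | (∀ v : C1, r u * r v = r v * r u) ∧
          R (ay (Subgroup.inclusion hC1C u)) * r u = 1}
        one_mem' := ⟨fun v => by rw [map_one, one_mul, mul_one], by simp⟩
        mul_mem' := fun {a b} ha hb => by
          refine ⟨fun v => by rw [map_mul, mul_assoc, hb.1, ← mul_assoc, ha.1, mul_assoc], ?_⟩
          have hmem : ∀ c : C1, ∃ c' : C1,
              R (ay (Subgroup.inclusion hC1C c)) = r c' := by
            intro c
            refine ⟨⟨y * (c : H) * y⁻¹, ?_⟩, rfl⟩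
            have hyC1 : y ∈ Subgroup.normalizer (C1 : Set H) := hx1y ▸ pow_mem hx1C1 _
            exact (Subgroup.mem_normalizer_iff.mp hyC1 c).mp c.2
          obtain ⟨b', hb'⟩ := hmem b
          rw [map_mul, map_mul, map_mul, map_mul, hb', mul_assoc, ← mul_assoc (r b'),
            ← ha.1, mul_assoc (r a), ← hb', hb.2, mul_one, ha.2]
        inv_mem' := fun {a} ha => by
          have hai : ∀ v : C1, r a⁻¹ * r v = r v * r a⁻¹ := fun v => by
            calc r a⁻¹ * r v = r a⁻¹ * (r v * r a) * r a⁻¹ := by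
                  rw [mul_assoc, mul_assoc, ← map_mul r a a⁻¹, mul_inv_cancel, map_one, mul_one]
              _ = r v * r a⁻¹ := by
                  rw [← ha.1, ← mul_assoc, ← map_mul r a⁻¹ a, inv_mul_cancel, map_one, one_mul]
          refine ⟨hai, ?_⟩
          have h1 : r a = R (ay (Subgroup.inclusion hC1C a))⁻¹ := by
            calc r a = R ((ay (Subgroup.inclusion hC1C a))⁻¹ * ay (Subgroup.inclusion hC1C a)) * r a := by
                  rw [inv_mul_cancel, map_one, one_mul]
              _ = _ := by rw [map_mul, mul_assoc, ha.2, mul_one]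
          rw [map_inv, map_inv, ← h1, ← map_mul, mul_inv_cancel, map_one] }
    have hA0α : ∀ a ∈ A0, α a ∈ A0 := by
      intro a ha
      have hXu : IsUnit X := (isUnit_pow_iff (by omega : m ≠ 0)).mp (hXm ▸ isUnit_one)
      refine ⟨fun v => ?_, ?_⟩
      · obtain ⟨v, rfl⟩ := α.surjective v
        refine hXu.mul_right_cancel ?_
        rw [mul_assoc, ← hint, ← mul_assoc, ← hint, mul_assoc, ha.1 v, ← mul_assoc, hint,
          mul_assoc, hint, ← mul_assoc]
      · refine hXu.mul_right_cancel ?_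
        have hay : ay (Subgroup.inclusion hC1C (α a)) = αC (ay (Subgroup.inclusion hC1C a)) := by
          refine Subtype.ext ?_
          show y * (x1 * (a : H) * x1⁻¹) * y⁻¹ = x1 * (y * (a : H) * y⁻¹) * x1⁻¹
          have hc : y * x1 = x1 * y := by rw [← hx1y, ← pow_succ, pow_succ']
          calc y * (x1 * (a : H) * x1⁻¹) * y⁻¹ = (y * x1) * a * (y * x1)⁻¹ := by group
            _ = (x1 * y) * a * (x1 * y)⁻¹ := by rw [hc]
            _ = _ := by group
        rw [hay, mul_assoc, ← hint, ← mul_assoc, ← hintC, mul_assoc, ha.2, mul_one, one_mul]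
    have hA0 : ∀ a ∈ A0, r a = 1 := by
      intro a ha
      have hmap : A0.map α.toMonoidHom = A0 := by
        refine Subgroup.eq_of_le_of_card_ge ?_ (le_of_eq
          (Subgroup.card_map_of_injective (f := α.toMonoidHom) α.injective).symm)
        rintro _ ⟨b, hb, rfl⟩
        exact hA0α b hb
      let β : MulAut A0 := (α.subgroupMap A0).trans (MulEquiv.subgroupCongr hmap)
      have hβ : ∀ (k : ℕ) (b : A0), (((β ^ k) b : A0) : C1) = (α ^ k) b := by
        intro k
        induction k with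
        | zero => intro b; rfl
        | succ k ih =>
          intro b
          rw [pow_succ', pow_succ', MulAut.mul_apply, MulAut.mul_apply, ← ih]
          rfl
      refine Cfsg.Agent.HallHigman.eq_one_of_abelian_fpf (r.comp A0.subtype) (X := X) (α := β)
        hm1 hXN (fun b => hint _) (fun u v => u.2.1 v) ?_ ?_ ⟨a, ha⟩
      · obtain ⟨d, hd⟩ := Subgroup.card_subgroup_dvd_card A0
        intro h
        apply hQK
        rw [hd, Nat.cast_mul, h, zero_mul]
      · intro k hk0 hkm b hb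
        change r ((β ^ k) b : A0) = r b at hb
        rw [hβ] at hb
        obtain ⟨i, hi⟩ := Cfsg.Agent.HallHigman.exists_pow_eq_top_power Nat.prime_two hx1m hk0 hkm
        rw [hx1y] at hi
        have hXk : X ^ k * r b = r b * X ^ k := by
          rw [Cfsg.Agent.HallHigman.pow_intertwine r hint, hb]
        have hXki : X ^ (k * i) * r b = r b * X ^ (k * i) := by
          rw [pow_mul]
          exact Commute.pow_left hXk i
        rw [Cfsg.Agent.HallHigman.pow_intertwine r hint] at hXki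
        have hu : IsUnit (X ^ (k * i)) := ((isUnit_pow_iff (by omega : m ≠ 0)).mp
          (hXm ▸ isUnit_one)).pow _
        have h1 := hu.mul_right_cancel hXki
        have h2 : R (ay (Subgroup.inclusion hC1C (b : C1))) = r b := by
          rw [← h1]
          show R _ = R _
          congr 1
          refine Subtype.ext ?_
          show y * ((b : C1) : H) * y⁻¹ = _
          rw [Subgroup.coe_inclusion, hαk, pow_mul, hi]
        obtain ⟨-, hb2⟩ := b.2
        rw [h2, ← map_mul, ← sq] at hb2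
        obtain ⟨j, hj⟩ := (hC.to_le hC1C) (b : C1)
        obtain ⟨t, ht⟩ : Odd (q ^ j) := (hq.odd_of_ne_two hq2).pow
        show r b = 1
        calc r (b : C1) = r (((b : C1) ^ 2) ^ (t + 1)) := by
              rw [← pow_mul, show 2 * (t + 1) = q ^ j + 1 by omega, pow_succ, hj, one_mul]
          _ = 1 := by rw [map_pow, hb2, one_pow]
    intro u hu
    have hyC1 : y ∈ Subgroup.normalizer (C1 : Set H) := hx1y ▸ pow_mem hx1C1 _
    set u' : C1 := ⟨y * (u : H) * y⁻¹, (Subgroup.mem_normalizer_iff.mp hyC1 u).mp u.2⟩ with hu'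
    have hyu : ay (Subgroup.inclusion hC1C u) = Subgroup.inclusion hC1C u' := rfl
    obtain ⟨c, hc⟩ := hanti (u : H) u.2
    have hc' : r u' * r u = c • 1 := by rw [← map_mul]; exact hc
    have hu'comm : ∀ v : C1, r u' * r v = r v * r u' := by
      intro v
      have h1 : r u' = c • r u⁻¹ := by
        calc r u' = r u' * (r u * r u⁻¹) := by rw [← map_mul r u, mul_inv_cancel, map_one, mul_one]
          _ = c • r u⁻¹ := by rw [← mul_assoc, hc', smul_one_mul]
      have h2 : r u⁻¹ * r v = r v * r u⁻¹ := by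
        calc r u⁻¹ * r v = r u⁻¹ * (r v * r u) * r u⁻¹ := by
              rw [mul_assoc, mul_assoc, ← map_mul r u u⁻¹, mul_inv_cancel, map_one, mul_one]
          _ = r v * r u⁻¹ := by
              rw [← hu, ← mul_assoc, ← map_mul r u⁻¹ u, inv_mul_cancel, map_one, one_mul]
      rw [h1, smul_mul_assoc, h2, mul_smul_comm]
    have hd : u' * u⁻¹ ∈ A0 := by
      refine ⟨fun v => ?_, ?_⟩
      · have h2 : r u⁻¹ * r v = r v * r u⁻¹ := by
          calc r u⁻¹ * r v = r u⁻¹ * (r v * r u) * r u⁻¹ := by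
                rw [mul_assoc, mul_assoc, ← map_mul r u u⁻¹, mul_inv_cancel, map_one, mul_one]
            _ = r v * r u⁻¹ := by
                rw [← hu, ← mul_assoc, ← map_mul r u⁻¹ u, inv_mul_cancel, map_one, one_mul]
        rw [map_mul, mul_assoc, h2, ← mul_assoc, hu'comm, mul_assoc]
      · show R _ * R _ = 1
        rw [← map_mul, ← map_one R]
        congr 1
        refine Subtype.ext ?_
        show y * (y * (u : H) * y⁻¹ * (u : H)⁻¹) * y⁻¹ * (y * (u : H) * y⁻¹ * (u : H)⁻¹) = 1
        rw [hyinv]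
        calc y * (y * u * y * (u : H)⁻¹) * y * (y * u * y * (u : H)⁻¹)
            = (y * y) * u * y * (u : H)⁻¹ * (y * y) * u * y * (u : H)⁻¹ := by simp only [mul_assoc]
          _ = u * y * y * (u : H)⁻¹ := by rw [hyy]; simp [mul_assoc]
          _ = 1 := by rw [mul_assoc (u : H), hyy, mul_one, mul_inv_cancel]
    have h1 := hA0 _ hd
    have h2 : r u' = r u := by
      calc r u' = r (u' * u⁻¹) * r u := by rw [← map_mul, inv_mul_cancel_right]
        _ = r u := by rw [h1, one_mul]
    rw [h2, ← map_mul] at hc'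
    exact hodd (Subgroup.inclusion hC1C u) ⟨c, by rw [sq]; exact hc'⟩
  have : Fintype C1 := Fintype.ofFinite C1
  have hQK' : (Fintype.card C1 : K) ≠ 0 := by rwa [← Nat.card_eq_fintype_card]
  have hcomm : ∀ u v : C1, ⁅u, v⁆ ∈ scal r := fun u v =>
    ⟨_, hcommC (Subgroup.inclusion hC1C u) (Subgroup.inclusion hC1C v)⟩
  have hnd : ∀ u : C1, u ∉ scal r → ∃ v : C1, r ⁅v, u⁆ ≠ 1 := by
    intro u hu
    by_contra hno
    push Not at hno
    refine hu (hA u fun v => ?_)
    exact ((hcomm_iff (Subgroup.inclusion hC1C v) (Subgroup.inclusion hC1C u)).mp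
      ((hl1 _).mpr (by rw [← hcommC]; exact hno v))).symm
  -- fixed elements of `C1` modulo scalars are scalar
  have hfpf : ∀ k, 0 < k → k < m → ∀ u, (α ^ k) u * u⁻¹ ∈ scal r → u ∈ scal r := by
    intro k hk0 hkm u hu
    obtain ⟨i, hi⟩ := Cfsg.Agent.HallHigman.exists_pow_eq_top_power Nat.prime_two hx1m hk0 hkm
    rw [hx1y] at hi
    have hstep : ∀ v : C1, v ∈ scal r → (α ^ k) v ∈ scal r := by
      rintro v ⟨c, hc⟩
      refine ⟨c, ?_⟩
      have hu2 : IsUnit (X ^ k) := ((isUnit_pow_iff (by omega : m ≠ 0)).mp (hXm ▸ isUnit_one)).pow _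
      refine hu2.mul_right_cancel ?_
      rw [← Cfsg.Agent.HallHigman.pow_intertwine r hint, hc, mul_smul_comm, mul_one, smul_one_mul]
    have hall : ∀ j : ℕ, ((α ^ k) ^ j) u * u⁻¹ ∈ scal r := by
      intro j
      induction j with
      | zero => simp [Subgroup.one_mem]
      | succ j ih =>
        have h1 := (scal r).mul_mem (hstep _ ih) hu
        rw [map_mul, map_inv, ← MulAut.mul_apply, ← pow_succ'] at h1
        simpa [mul_assoc] using h1
    obtain ⟨c, hc⟩ := hall i
    obtain ⟨d, hd⟩ := hanti (u : H) u.2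
    have hki : R (Subgroup.inclusion hC1C (((α ^ k) ^ i) u)) = R (ay (Subgroup.inclusion hC1C u)) := by
      congr 1
      refine Subtype.ext ?_
      rw [Subgroup.coe_inclusion, ← pow_mul, hαk, pow_mul, hi]
      rfl
    have h3 : R (ay (Subgroup.inclusion hC1C u)) = c • r u := by
      rw [← hki]
      calc r (((α ^ k) ^ i) u) = r (((α ^ k) ^ i) u * u⁻¹) * r u := by
            rw [← map_mul, inv_mul_cancel_right]
        _ = c • r u := by rw [hc, smul_one_mul]
    rw [map_mul] at hd
    change R (ay (Subgroup.inclusion hC1C u)) * r u = d • 1 at hd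
    rw [h3, smul_mul_assoc, ← map_mul] at hd
    have hc0 : c ≠ 0 := fun h => r_ne_zero r _ (by rw [hc, h, zero_smul])
    refine hodd (Subgroup.inclusion hC1C u) ⟨c⁻¹ * d, ?_⟩
    rw [sq, ← smul_smul, ← hd, smul_smul, inv_mul_cancel₀ hc0, one_smul]
    rfl
  -- an irreducible subspace
  let Inv : Submodule K W' → Prop := fun U => (∀ u, ∀ w ∈ U, r u w ∈ U) ∧ ∀ w ∈ U, X w ∈ U
  have hP : ∃ d, ∃ U : Submodule K W', U ≠ ⊥ ∧ finrank K U = d ∧ Inv U :=
    ⟨_, ⊤, top_ne_bot, rfl, fun _ _ _ => Submodule.mem_top, fun _ _ => Submodule.mem_top⟩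
  obtain ⟨U, hU0, hUd, hUr, hUX⟩ := Nat.find_spec hP
  have hUmin : ∀ V : Submodule K W', V ≠ ⊥ → V ≤ U → Inv V → V = U := fun V hV hVU hVi =>
    Submodule.eq_of_le_of_finrank_le hVU (hUd ▸ Nat.find_min' hP ⟨V, hV, rfl, hVi⟩)
  have hntU : Nontrivial U := Submodule.nontrivial_iff_ne_bot.mpr hU0
  let rU : C1 →* Module.End K U :=
    { toFun := fun u => (r u).restrict (hUr u)
      map_one' := LinearMap.ext fun w => Subtype.ext (by simp)
      map_mul' := fun a b => LinearMap.ext fun w => Subtype.ext (by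
        show r (a * b) w = _; rw [map_mul]; rfl) }
  let XU : Module.End K U := X.restrict hUX
  have hXUpow : ∀ (k : ℕ) (w : U), ((XU ^ k) w : W') = (X ^ k) w := by
    intro k
    induction k with
    | zero => intro w; rfl
    | succ k ih =>
      intro w
      rw [pow_succ', pow_succ', Module.End.mul_apply, Module.End.mul_apply, ← ih]
      rfl
  have hscalU : scal rU = scal r := by
    refine le_antisymm ?_ ?_
    · rintro u ⟨c, hc⟩
      by_contra hu
      obtain ⟨v, hv⟩ := hnd u hu
      obtain ⟨d, hd⟩ := hcomm v u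
      refine hv ?_
      obtain ⟨w, hw⟩ := exists_ne (0 : U)
      have hone : rU ⁅v, u⁆ = 1 := by
        rw [commutatorElement_def, map_mul, map_mul, map_mul, hc, mul_smul_comm, mul_one,
          smul_mul_assoc, ← map_mul, mul_inv_cancel, map_one, smul_one_mul]
        calc c • rU u⁻¹ = (c • (1 : Module.End K U)) * rU u⁻¹ := by rw [smul_one_mul]
          _ = 1 := by rw [← hc, ← map_mul, mul_inv_cancel, map_one]
      have h2 := congrArg (fun e : Module.End K U => ((e w : U) : W')) hone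
      change r ⁅v, u⁆ w = (w : W') at h2
      rw [hd, LinearMap.smul_apply, Module.End.one_apply] at h2
      rw [hd, smul_left_injective K (fun h => hw (Subtype.ext h)) (h2.trans (one_smul K _).symm),
        one_smul]
    · rintro u ⟨c, hc⟩
      exact ⟨c, LinearMap.ext fun w => Subtype.ext (LinearMap.congr_fun hc (w : W'))⟩
  have hcommU : ∀ u v : C1, ⁅u, v⁆ ∈ scal rU := fun u v => hscalU ▸ hcomm u v
  have hndU : ∀ u : C1, u ∉ scal rU → ∃ v : C1, rU ⁅v, u⁆ ≠ 1 := by
    intro u hu
    obtain ⟨v, hv⟩ := hnd u (hscalU ▸ hu)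
    obtain ⟨d, hd⟩ := hcomm v u
    refine ⟨v, fun h => hv ?_⟩
    obtain ⟨w, hw⟩ := exists_ne (0 : U)
    have h2 := congrArg (fun e : Module.End K U => ((e w : U) : W')) h
    change r ⁅v, u⁆ w = (w : W') at h2
    rw [hd, LinearMap.smul_apply, Module.End.one_apply] at h2
    rw [hd, smul_left_injective K (fun h => hw (Subtype.ext h)) (h2.trans (one_smul K _).symm),
      one_smul]
  have hm2 : 2 ≤ m := Nat.le_self_pow (show e1 ≠ 0 by omega) 2
  have hαm : α ^ m = 1 := MulEquiv.ext fun u => Subtype.ext (by rw [hαk, hx1m]; simp)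
  have hirr1 : ∀ V : Submodule K U, (∀ u, ∀ w ∈ V, rU u w ∈ V) → (∀ w ∈ V, (XU ^ 1) w ∈ V) →
      V = ⊥ ∨ V = ⊤ := by
    intro V h1 h2
    refine or_iff_not_imp_left.mpr fun hV => ?_
    have hinv : Inv (V.map U.subtype) := by
      refine ⟨?_, ?_⟩
      · rintro u _ ⟨w, hw, rfl⟩
        exact ⟨rU u w, h1 u w hw, rfl⟩
      · rintro _ ⟨w, hw, rfl⟩
        exact ⟨XU w, by simpa using h2 w hw, rfl⟩
    have hinj := Submodule.map_injective_of_injective (f := U.subtype) U.injective_subtype
    have := hUmin _ (fun h => hV ((hinj.eq_iff' (Submodule.map_bot _)).mp h))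
      (Submodule.map_subtype_le _ _) hinv
    exact hinj (this.trans (Submodule.map_subtype_top U).symm)
  have hscal_rad : ∀ u : C1, u ∈ scal r → InRad l (u : H) := by
    rintro u ⟨c, hc⟩
    refine (hrad_iff (Subgroup.inclusion hC1C u)).mpr fun v => ?_
    show r u * R v = R v * r u
    rw [hc, smul_one_mul, mul_smul_comm, mul_one]
  have hidx1 : (scal r).index ≠ 1 := by
    intro h1
    obtain ⟨u, hu, hnr⟩ := hmove
    have hmem : ⁅y, u⁆ ∈ C1 := Subgroup.commutator_mem_commutator (Subgroup.mem_zpowers y) hu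
    exact hnr (hscal_rad ⟨_, hmem⟩ (Subgroup.index_eq_one.mp h1 ▸ Subgroup.mem_top _))
  have hXUsum : ∑ j ∈ Finset.range m, XU ^ j = 0 := by
    refine LinearMap.ext fun w => Subtype.ext ?_
    rw [LinearMap.sum_apply, Submodule.coe_sum]
    simp only [hXUpow]
    have := LinearMap.congr_fun hXN (w : W')
    rwa [LinearMap.sum_apply] at this
  obtain ⟨he12, hidx, hmq, hirrC1, hXUne⟩ := irred_stage (W := U) hq hq2 (hC.to_le hC1C) rU
    (X := XU) (α := α) (e1 := e1) (by omega)
    (LinearMap.ext fun w => Subtype.ext (by rw [hXUpow, hXm]; rfl)) hαm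
    (fun v => LinearMap.ext fun w => Subtype.ext (LinearMap.congr_fun (hint v) (w : W')))
    hcommU hndU (fun k hk0 hk u hu => by
      rw [hscalU] at hu ⊢
      exact hfpf k hk0 hk u hu)
    hXUsum (fun V h1 h2 => hirr1 V h1 (by simpa using h2)) hQK (hscalU ▸ hidx1)
  rw [hscalU] at hidx
  let A := Algebra.adjoin K (Set.range r)
  have hlift : ∀ e : Module.End K U, ∃ a ∈ A, ∀ w : U, a (w : W') = (e w : W') := by
    intro e
    have he : e ∈ Algebra.adjoin K (Set.range rU) := by
      rw [Cfsg.Agent.HallHigman.adjoin_eq_top_of_irreducible (W := U) (Set.range rU) fun V hV =>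
        hirrC1 V fun u w hw => hV _ ⟨u, rfl⟩ w hw]
      trivial
    induction he using Algebra.adjoin_induction with
    | mem e he =>
      obtain ⟨u, rfl⟩ := he
      exact ⟨r u, Algebra.subset_adjoin ⟨u, rfl⟩, fun w => rfl⟩
    | algebraMap c =>
      exact ⟨algebraMap K _ c, Subalgebra.algebraMap_mem A c, fun w => rfl⟩
    | add e e' _ _ h h' =>
      obtain ⟨a, ha, ha'⟩ := h
      obtain ⟨b, hb, hb'⟩ := h'
      exact ⟨a + b, A.add_mem ha hb, fun w => by simp [ha' w, hb' w]⟩
    | mul e e' _ _ h h' =>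
      obtain ⟨a, ha, ha'⟩ := h
      obtain ⟨b, hb, hb'⟩ := h'
      exact ⟨a * b, A.mul_mem ha hb, fun w => by
        rw [Module.End.mul_apply, hb', ha', Module.End.mul_apply]⟩
  obtain ⟨T, hTA, hTU⟩ := hlift XU
  have hTpow : ∀ (k : ℕ) (w : U), (T ^ k) (w : W') = ((XU ^ k) w : W') := by
    intro k
    induction k with
    | zero => intro w; rfl
    | succ k ih =>
      intro w
      rw [pow_succ', pow_succ', Module.End.mul_apply, ih, hTU, Module.End.mul_apply]
  have hvan : ∀ {a : Module.End K W'}, a ∈ A → (∀ w ∈ U, a w = 0) → a = 0 :=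
    fun ha hz => eq_zero_of_vanish r hcomm hnd hQK' ha hUr hU0 hz
  have hTm : T ^ m = 1 := sub_eq_zero.mp (hvan (A.sub_mem (A.pow_mem hTA m) A.one_mem) fun w hw => by
    rw [LinearMap.sub_apply, hTpow m ⟨w, hw⟩, hXUpow, hXm, sub_self])
  have hTr : ∀ u, T * r u = r (α u) * T := fun u =>
    sub_eq_zero.mp (hvan (A.sub_mem (A.mul_mem hTA (Algebra.subset_adjoin ⟨u, rfl⟩))
      (A.mul_mem (Algebra.subset_adjoin ⟨α u, rfl⟩) hTA)) fun w hw => by
      rw [LinearMap.sub_apply, Module.End.mul_apply, Module.End.mul_apply]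
      have e1 : T (r u w) = X (r u w) := hTU ⟨r u w, hUr u w hw⟩
      have e2 : T w = X w := hTU ⟨w, hw⟩
      rw [e1, e2]
      exact sub_eq_zero.mpr (LinearMap.congr_fun (hint u) w))
  have hTsum : ∑ k ∈ Finset.range m, T ^ k = 0 :=
    hvan (Subalgebra.sum_mem _ fun k _ => A.pow_mem hTA k) fun w hw => by
      rw [LinearMap.sum_apply, Finset.sum_congr rfl fun k _ => (hTpow k ⟨w, hw⟩).trans
        (hXUpow k ⟨w, hw⟩), ← LinearMap.sum_apply, hXN, LinearMap.zero_apply]
  have hTX : T * X = X * T := by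
    have hconjA : ∀ a ∈ A, ∃ a' ∈ A, X * a = a' * X := by
      intro a ha
      induction ha using Algebra.adjoin_induction with
      | mem a ha =>
        obtain ⟨u, rfl⟩ := ha
        exact ⟨r (α u), Algebra.subset_adjoin ⟨α u, rfl⟩, hint u⟩
      | algebraMap c =>
        exact ⟨algebraMap K _ c, Subalgebra.algebraMap_mem A c, (Algebra.commutes c X).symm⟩
      | add a b _ _ h h' =>
        obtain ⟨a', ha', hab⟩ := h
        obtain ⟨b', hb', hbb⟩ := h'
        exact ⟨a' + b', A.add_mem ha' hb', by rw [mul_add, add_mul, hab, hbb]⟩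
      | mul a b _ _ h h' =>
        obtain ⟨a', ha', hab⟩ := h
        obtain ⟨b', hb', hbb⟩ := h'
        exact ⟨a' * b', A.mul_mem ha' hb', by rw [← mul_assoc, hab, mul_assoc, hbb, mul_assoc]⟩
    obtain ⟨T', hT', hXT⟩ := hconjA T hTA
    have : T' = T := by
      refine sub_eq_zero.mp (hvan (A.sub_mem hT' hTA) fun w hw => ?_)
      -- write `w` as a value of `X`
      have hw' : w = X ((XU ^ (m - 1)) ⟨w, hw⟩ : U) := by
        rw [hXUpow, ← Module.End.mul_apply, ← pow_succ', Nat.sub_add_cancel hm1, hXm,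
          Module.End.one_apply]
      rw [hw', LinearMap.sub_apply, sub_eq_zero, ← Module.End.mul_apply T', ← hXT,
        Module.End.mul_apply]
      rw [hTU]
      exact (hTU ⟨_, hUX _ ((XU ^ (m - 1)) ⟨w, hw⟩).2⟩).symm
    rw [hXT, this]
  set X0 := T ^ (m - 1) * X with hX0
  have hTT : T * T ^ (m - 1) = 1 := by rw [← pow_succ', Nat.sub_add_cancel hm1, hTm]
  have hTT' : T ^ (m - 1) * T = 1 := by rw [← pow_succ, Nat.sub_add_cancel hm1, hTm]
  have hXT0 : X = T * X0 := by rw [hX0, ← mul_assoc, hTT, one_mul]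
  have hX0r : ∀ u, X0 * r u = r u * X0 := by
    intro u
    have h1 : T ^ (m - 1) * r (α u) = r u * T ^ (m - 1) := by
      calc T ^ (m - 1) * r (α u) = T ^ (m - 1) * (r (α u) * T) * T ^ (m - 1) := by
            rw [mul_assoc, mul_assoc (r (α u)), hTT, mul_one]
        _ = r u * T ^ (m - 1) := by rw [← hTr, ← mul_assoc, hTT', one_mul]
    rw [hX0, mul_assoc, hint, ← mul_assoc, h1, mul_assoc]
  have hTX0 : Commute T X0 := by
    rw [hX0]
    exact (Commute.pow_right (Commute.refl T) _).mul_right hTX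
  set N := X0 - 1 with hNdef
  have hX0one : X0 = 1 := by
    have hNnil : N ^ m = 0 := by
      rw [hNdef, hm, sub_one_pow_two, ← hm, hX0,
        (Commute.pow_left hTX _).mul_pow, ← pow_mul, mul_comm, pow_mul, hTm, one_pow, one_mul, hXm,
        sub_self]
    by_contra hne
    have hN1 : N ≠ 0 := sub_ne_zero.mpr hne
    have hex : ∃ i, N ^ (i + 1 + 1) = 0 := ⟨m, by
      rw [pow_add, pow_add, hNnil, zero_mul, zero_mul]⟩
    set i := Nat.find hex with hi
    have hNi : N ^ (i + 1) ≠ 0 := by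
      rcases Nat.eq_zero_or_pos i with h0 | h0
      · rw [h0, zero_add, pow_one]; exact hN1
      · have := Nat.find_min hex (show i - 1 < i by omega)
        rwa [show i - 1 + 1 + 1 = i + 1 by omega] at this
    have hdec : X - 1 = (T - 1) + T * N := by
      rw [hNdef, mul_sub, mul_one, ← hXT0]; abel
    have hTN : Commute T N := hTX0.sub_right (Commute.one_right T)
    have hexp := add_mul_pow_nil (a := T - 1) (b := T) (N := N)
      ((Commute.refl T).sub_left (Commute.one_left T)) (hTN.sub_left (Commute.one_left N)) hTN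
      (l := i) (Nat.find_spec hex) (m - 2)
    rw [← hdec, show m - 2 + 1 = m - 1 by omega,
      show (X - 1) ^ (m - 1) = 0 by rw [hm, ← geom_eq_sub_one_pow, ← hm, hXN],
      show (T - 1) ^ (m - 1) = 0 by rw [hm, ← geom_eq_sub_one_pow, ← hm, hTsum],
      zero_mul, zero_add] at hexp
    obtain ⟨t, ht⟩ : Odd (m - 1) := by
      rw [hm, hmq, Nat.add_sub_cancel]; exact hq.odd_of_ne_two hq2
    have h2z : (2 : Module.End K W') = 0 := by
      have h2 : ((2 : ℕ) : K) = 0 := (CharP.cast_eq_zero_iff K 2 2).mpr dvd_rfl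
      have := congrArg (algebraMap K (Module.End K W')) h2
      rwa [map_natCast, map_zero, Nat.cast_ofNat] at this
    rw [ht, add_smul, one_smul, mul_smul, two_smul, ← two_mul, h2z, zero_mul, zero_add] at hexp
    have haA : (T - 1) ^ (m - 2) * T ∈ A :=
      A.mul_mem (A.pow_mem (A.sub_mem hTA A.one_mem) _) hTA
    have ha0 : (T - 1) ^ (m - 2) * T = 0 := by
      refine eq_zero_of_vanish r hcomm hnd hQK' haA
        (U := LinearMap.range (N ^ (i + 1))) ?_ (fun h => hNi (LinearMap.range_eq_bot.mp h)) ?_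
      · rintro u _ ⟨w, rfl⟩
        refine ⟨r u w, ?_⟩
        have hc : Commute (N ^ (i + 1)) (r u) :=
          (Commute.sub_left (hX0r u) (Commute.one_left _)).pow_left _
        exact LinearMap.congr_fun hc.eq w
      · rintro _ ⟨w, rfl⟩
        exact (LinearMap.congr_fun hexp w).symm
    have hT2 : (T - 1) ^ (m - 2) = 0 := by
      calc (T - 1) ^ (m - 2) = (T - 1) ^ (m - 2) * (T * T ^ (m - 1)) := by rw [hTT, mul_one]
        _ = 0 := by rw [← mul_assoc, ha0, zero_mul]
    -- so `(XU - 1) ^ (m - 2) = 0`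
    refine hXUne (LinearMap.ext fun w => Subtype.ext ?_)
    have hTsub : ∀ (k : ℕ) (w : U), ((T - 1) ^ k) (w : W') = (((XU - 1) ^ k) w : W') := by
      intro k
      induction k with
      | zero => intro w; rfl
      | succ k ih =>
        intro w
        rw [pow_succ', pow_succ', Module.End.mul_apply, ih, LinearMap.sub_apply, hTU,
          Module.End.mul_apply, LinearMap.sub_apply]
        rfl
    rw [← hTsub, hT2]
    rfl
  have hXA : X ∈ A := by rw [hXT0, hX0one, mul_one]; exact hTA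
  refine ⟨f, by omega, fun z z' hz => ?_, fun u hu hyu => ?_, fun R0 hR0 => ?_⟩
  · have : z' = (αZ ^ 2 ^ f) z := Subtype.ext (hz.trans (hαZ _ _).symm)
    rw [this, hffix]
  · -- fixed points of `y` commute with `C1`
    set uC : C := ⟨u, hu⟩
    have hgen : ∀ a : C1, R uC * r a = r a * R uC := by
      let T' : Subgroup C :=
        { carrier := {a | R uC * R a = R a * R uC}
          one_mem' := by simp
          mul_mem' := fun {a b} ha hb => by
            show R uC * R (a * b) = R (a * b) * R uC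
            rw [map_mul, ← mul_assoc, ha, mul_assoc, hb, mul_assoc]
          inv_mem' := fun {a} ha => by
            show R uC * R a⁻¹ = R a⁻¹ * R uC
            calc R uC * R a⁻¹ = R a⁻¹ * (R a * R uC) * R a⁻¹ := by
                  rw [← mul_assoc (R a⁻¹), ← map_mul R a⁻¹ a, inv_mul_cancel, map_one, one_mul]
              _ = R a⁻¹ * R uC := by
                  rw [← ha, mul_assoc, mul_assoc, ← map_mul R a a⁻¹, mul_inv_cancel, map_one,
                    mul_one] }
      have hle : C1 ≤ T'.map C.subtype := by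
        rw [hC1, Subgroup.commutator_le]
        intro z hz v hv
        rcases hzy z hz with rfl | rfl
        · rw [commutatorElement_one_left]; exact Subgroup.one_mem _
        set g : H := ⁅y, v⁆ with hgdef
        have hg : g ∈ C := hC1C (Subgroup.commutator_mem_commutator (Subgroup.mem_zpowers y) hv)
        refine ⟨⟨g, hg⟩, ?_, rfl⟩
        show R uC * R ⟨g, hg⟩ = R ⟨g, hg⟩ * R uC
        have hayg : ay ⟨g, hg⟩ = (⟨g, hg⟩ : C)⁻¹ := by
          refine Subtype.ext ?_
          show y * ⁅y, v⁆ * y⁻¹ = ⁅y, v⁆⁻¹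
          rw [commutatorElement_inv, commutatorElement_def, commutatorElement_def, hyinv]
          calc y * (y * v * y * v⁻¹) * y = (y * y) * v * y * v⁻¹ * y := by simp only [mul_assoc]
            _ = v * y * v⁻¹ * y := by rw [hyy, one_mul]
        set d := l ⟨⁅(uC : H), ((⟨g, hg⟩ : C) : H)⁆, hcl _ uC.2 _ hg⟩ with hd
        have h1 : R ⁅ay uC, ay ⟨g, hg⟩⁆ = d • 1 := by
          rw [← map_commutatorElement, ← hcommC]
          congr 1
          refine Subtype.ext ?_
          exact mul_inv_eq_iff_eq_mul.mpr (hyZ _ (hcl _ uC.2 _ hg))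
        rw [hayg] at h1
        -- modulo `rad`, `y` fixes `u`
        have hs2 : ⁅y, u⁆ ∈ C := by
          rw [commutatorElement_def]
          exact C.mul_mem ((Subgroup.mem_normalizer_iff.mp hyC u).mp hu) (C.inv_mem hu)
        have hw : ∀ b : C, R ⟨⁅y, u⁆, hs2⟩ * R b = R b * R ⟨⁅y, u⁆, hs2⟩ :=
          (hrad_iff ⟨⁅y, u⁆, hs2⟩).mp hyu
        have hay : ay uC = ⟨⁅y, u⁆, hs2⟩ * uC := Subtype.ext (by
          show y * u * y⁻¹ = ⁅y, u⁆ * u
          rw [commutatorElement_def, inv_mul_cancel_right])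
        set gC : C := ⟨g, hg⟩
        have h2 : R uC * R gC⁻¹ = d • (R gC⁻¹ * R uC) := by
          have h3 : R (ay uC) * R gC⁻¹ = d • (R gC⁻¹ * R (ay uC)) := by
            calc R (ay uC) * R gC⁻¹ = R (⁅ay uC, gC⁻¹⁆ * (gC⁻¹ * ay uC)) := by
                  rw [← map_mul]; congr 1; simp [commutatorElement_def, mul_assoc]
              _ = _ := by rw [map_mul, h1, smul_one_mul, map_mul]
          rw [hay, map_mul, mul_assoc, ← mul_assoc (R gC⁻¹), ← hw gC⁻¹, mul_assoc,
            ← mul_smul_comm] at h3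
          have hu' : IsUnit (R ⟨⁅y, u⁆, hs2⟩) :=
            ⟨⟨R ⟨⁅y, u⁆, hs2⟩, R ⟨⁅y, u⁆, hs2⟩⁻¹, by rw [← map_mul, mul_inv_cancel, map_one],
              by rw [← map_mul, inv_mul_cancel, map_one]⟩, rfl⟩
          exact hu'.mul_left_cancel h3
        have h4 : R uC * R gC = d • (R gC * R uC) := by
          calc R uC * R gC = R (⁅uC, gC⁆ * (gC * uC)) := by
                rw [← map_mul]; congr 1; simp [commutatorElement_def, mul_assoc]
            _ = _ := by rw [map_mul, hcommC, smul_one_mul, map_mul]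
        have h5 : R uC = (d * d) • R uC := by
          calc R uC = R uC * R gC⁻¹ * R gC := by
                rw [mul_assoc, ← map_mul R gC⁻¹, inv_mul_cancel, map_one, mul_one]
            _ = (d * d) • R uC := by
                rw [h2, smul_mul_assoc, mul_assoc, h4, mul_smul_comm, smul_smul, ← mul_assoc,
                  ← map_mul R gC⁻¹, inv_mul_cancel, map_one, one_mul]
        have hdd : d * d = 1 :=
          smul_left_injective K (r_ne_zero R uC) (h5.symm.trans (one_smul K _).symm)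
        have hd1 : d = 1 := by
          rcases mul_self_eq_one_iff.mp hdd with h | h
          · exact h
          · rw [h, CharTwo.neg_eq]
        rw [h4, hd1, one_smul]
      intro a
      obtain ⟨b, hb, hba⟩ := hle a.2
      obtain rfl : b = Subgroup.inclusion hC1C a := Subtype.ext hba
      exact hb
    have hcA : ∀ a ∈ A, R uC * a = a * R uC := by
      intro a ha
      induction ha using Algebra.adjoin_induction with
      | mem a ha => obtain ⟨v, rfl⟩ := ha; exact hgen v
      | algebraMap c => exact (Algebra.commutes c _).symm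
      | add a b _ _ h h' => rw [mul_add, add_mul, h, h']
      | mul a b _ _ h h' => rw [← mul_assoc, h, mul_assoc, h', mul_assoc]
    have h1 := hintC uC
    rw [← hcA X hXA] at h1
    have hXu : IsUnit X := (isUnit_pow_iff (by omega : m ≠ 0)).mp (hXm ▸ isUnit_one)
    have h2 := hXu.mul_right_cancel h1
    have hw : ⁅x1, u⁆ ∈ C := by
      rw [commutatorElement_def]
      exact C.mul_mem ((Subgroup.mem_normalizer_iff.mp hx1C u).mp hu) (C.inv_mem hu)
    refine (hrad_iff ⟨_, hw⟩).mpr fun v => ?_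
    have h3 : R ⟨⁅x1, u⁆, hw⟩ = 1 := by
      rw [show (⟨⁅x1, u⁆, hw⟩ : C) = αC uC * uC⁻¹ from
        Subtype.ext (commutatorElement_def x1 u), map_mul, ← h2, ← map_mul, mul_inv_cancel, map_one]
    rw [h3, one_mul, mul_one]
  · have hsub : R0.subgroupOf C1 = scal r := by
      ext u
      rw [Subgroup.mem_subgroupOf, hR0 u (hC1C u.2)]
      refine ⟨fun h => hA u fun v => ?_, hscal_rad u⟩
      exact (hrad_iff (Subgroup.inclusion hC1C u)).mp h (Subgroup.inclusion hC1C v)
    rw [Subgroup.relIndex, hsub, hidx]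

end component

end Cfsg.Agent.GrossExceptional
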