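import Mathlib
import Cfsg.Agent.Lib.GrossExceptional
import Cfsg.Agent.Lib.GrossClassTwoMain
import Cfsg.Agent.Lib.HallHigmanExponent
import Cfsg.Agent.Lib.ClassTwoBaer
import Cfsg.Agent.Lib.SFTGroup

/-!
# Gross: top powers lie in `O_{2',2}`

`H` is solvable with `O_2(H) = 1`, acting faithfully on an elementary abelian 2-group, all its
2-elements have order dividing `2 ^ n` (`n ≥ 2`) and vanishing norm of that length. Then the
`2 ^ (n - 1)`-th powers of 2-elements lie in `O_{2',2}(H)`.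
-/

set_option autoImplicit false

namespace Cfsg.Agent.GrossTopPower

open Module
open scoped commutatorElement
open Cfsg.Agent.HallCore Cfsg.Agent.HallSolvable

theorem exists_rep_moved_aux {L M : Type*} [Group L] [Finite L] [AddCommGroup M] [Finite M]
    {q : ℕ} [Fact q.Prime] [Module (ZMod q) M] (ψ : L →* AddMonoid.End M) {x y : L}
    (hfix : ∀ v, ψ y v = v → ψ x v = v) (B : AddSubgroup M) (hB : ∀ v, ψ y v - v ∈ B)
    (hBcard : Nat.card B ∣ q ^ 2) :
    ∃ (n : ℕ) (ρ : Representation (AlgebraicClosure (ZMod q)) L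
        (Fin n → AlgebraicClosure (ZMod q))),
      (∀ g, ρ g = 1 ↔ ∀ v, ψ g v = v) ∧ (∀ w, ρ y w = w → ρ x w = w) ∧
      finrank (AlgebraicClosure (ZMod q)) (LinearMap.range (ρ y - 1)) ≤ 2 := by
  classical
  let K := AlgebraicClosure (ZMod q)
  let Lf : L →* Module.End (ZMod q) M :=
    { toFun := fun g => AddMonoidHom.toZModLinearMap q (ψ g)
      map_one' := LinearMap.ext fun v => by
        show (ψ 1) v = v
        rw [map_one]
        rfl
      map_mul' := fun a b => LinearMap.ext fun v => by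
        show (ψ (a * b)) v = (ψ a) ((ψ b) v)
        rw [map_mul]
        rfl }
  let bV := Module.finBasis (ZMod q) M
  let n := Module.finrank (ZMod q) M
  let Φ : Module.End (ZMod q) M →+* Module.End K (Fin n → K) :=
    (((Matrix.toLinAlgEquiv' (R := K) (n := Fin n)).toRingEquiv.toRingHom).comp
      (algebraMap (ZMod q) K).mapMatrix).comp (LinearMap.toMatrixAlgEquiv bV).toRingEquiv.toRingHom
  have hΦ : Function.Injective Φ := by
    intro A B h
    have h1 := (Matrix.toLinAlgEquiv' (R := K) (n := Fin n)).injective h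
    exact (LinearMap.toMatrixAlgEquiv bV).injective
      (Matrix.map_injective (algebraMap (ZMod q) K).injective h1)
  refine ⟨n, (Φ.toMonoidHom).comp Lf, fun g => ?_, ?_, ?_⟩
  · show Φ (Lf g) = 1 ↔ _
    rw [← map_one Φ, hΦ.eq_iff]
    exact ⟨fun h v => LinearMap.congr_fun h v, fun h => LinearMap.ext h⟩
  · -- `x - 1` factors through `y - 1`
    have hle : LinearMap.ker (Lf y - 1) ≤ LinearMap.ker (Lf x - 1) := by
      intro v hv
      rw [LinearMap.mem_ker, LinearMap.sub_apply, Module.End.one_apply, sub_eq_zero] at hv ⊢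
      exact hfix v hv
    obtain ⟨g, hg⟩ := LinearMap.exists_extend
      (((LinearMap.ker (Lf y - 1)).liftQ (Lf x - 1) hle) ∘ₗ
        (Lf y - 1).quotKerEquivRange.symm.toLinearMap)
    have hfac : Lf x - 1 = g * (Lf y - 1) := by
      refine LinearMap.ext fun v => ?_
      have h1 := LinearMap.congr_fun hg ⟨(Lf y - 1) v, LinearMap.mem_range_self _ v⟩
      rw [LinearMap.comp_apply, LinearMap.comp_apply] at h1
      rw [Module.End.mul_apply]
      refine Eq.trans ?_ h1.symm
      rw [LinearEquiv.coe_coe, LinearMap.quotKerEquivRange_symm_apply_image]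
      rfl
    intro w hw
    have h := congrArg Φ hfac
    rw [map_sub, map_mul, map_sub, map_one] at h
    have hw' : Φ (Lf y) w = w := hw
    have h3 := LinearMap.congr_fun h w
    rw [Module.End.mul_apply, LinearMap.sub_apply, LinearMap.sub_apply, Module.End.one_apply, hw',
      sub_self, map_zero, sub_eq_zero] at h3
    exact h3
  · -- the rank
    set f := Lf y - 1 with hf
    have hR : finrank (ZMod q) (LinearMap.range f) ≤ 2 := by
      have hsub : ∀ u ∈ LinearMap.range f, u ∈ B := by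
        rintro _ ⟨v, rfl⟩
        rw [hf, LinearMap.sub_apply, Module.End.one_apply]
        exact hB v
      let ι : LinearMap.range f → B := fun u => ⟨(u : M), hsub u u.2⟩
      have hinj : Function.Injective ι := fun a b h => Subtype.ext (Subtype.ext_iff.mp h :)
      have h1 := Nat.card_le_card_of_injective ι hinj
      have h2 : Nat.card B ≤ q ^ 2 := Nat.le_of_dvd (pow_pos (Fact.out : q.Prime).pos 2) hBcard
      rw [Module.natCard_eq_pow_finrank (K := ZMod q), Nat.card_zmod] at h1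
      exact (Nat.pow_le_pow_iff_right (Fact.out : q.Prime).one_lt).mp (h1.trans h2)
    have h1 : (Φ.toMonoidHom).comp Lf y - 1 = Φ f := by
      show Φ (Lf y) - 1 = _
      rw [← map_one Φ, ← map_sub]
    rw [h1]
    have hrk : finrank K (LinearMap.range (Φ f)) ≤ finrank (ZMod q) (LinearMap.range f) := by
      show finrank K (LinearMap.range (Matrix.toLin' ((LinearMap.toMatrix bV bV f).map
        (algebraMap (ZMod q) K)))) ≤ _
      rw [Matrix.toLin'_apply']
      show Matrix.rank ((LinearMap.toMatrix bV bV f).map (algebraMap (ZMod q) K)) ≤ _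
      let bR := Module.finBasis (ZMod q) (LinearMap.range f)
      have hfac2 : LinearMap.toMatrix bV bV f =
          LinearMap.toMatrix bR bV (LinearMap.range f).subtype *
            LinearMap.toMatrix bV bR f.rangeRestrict := by
        rw [← LinearMap.toMatrix_comp bV bR bV, LinearMap.subtype_comp_codRestrict]
      rw [hfac2, Matrix.map_mul]
      exact (Matrix.rank_mul_le_left _ _).trans ((Matrix.rank_le_card_width _).trans
        (Fintype.card_fin _).le)
    exact hrk.trans hR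

/-- An elementary abelian action as a representation, with the two facts needed downstream. -/
theorem exists_rep_moved {L V : Type*} [Group L] [Finite L] [CommGroup V] [Finite V] {q : ℕ}
    [Fact q.Prime] (hV : ∀ v : V, v ^ q = 1) (ψ : L →* MulAut V) {x y : L}
    (hfix : ∀ v, ψ y v = v → ψ x v = v) (B : Subgroup V) (hB : ∀ v, ψ y v * v⁻¹ ∈ B)
    (hBcard : Nat.card B ∣ q ^ 2) :
    ∃ (n : ℕ) (ρ : Representation (AlgebraicClosure (ZMod q)) L
        (Fin n → AlgebraicClosure (ZMod q))),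
      (∀ g, ρ g = 1 ↔ ψ g = 1) ∧ (∀ w, ρ y w = w → ρ x w = w) ∧
      finrank (AlgebraicClosure (ZMod q)) (LinearMap.range (ρ y - 1)) ≤ 2 := by
  let ψ' : L →* AddMonoid.End (Additive V) :=
    { toFun := fun g => MonoidHom.toAdditive (ψ g).toMonoidHom
      map_one' := by rw [map_one]; rfl
      map_mul' := fun a b => by rw [map_mul]; rfl }
  obtain ⟨n, ρ, h1, h2, h3⟩ := @exists_rep_moved_aux L (Additive V) _ _ _ _ q _
    (AddCommGroup.zmodModule fun v => hV v.toMul) ψ' x y
    (fun v hv => congrArg Additive.ofMul (hfix v.toMul (congrArg Additive.toMul hv)))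
    B.toAddSubgroup (fun v => by
      show (Additive.toMul (ψ' y v - v)) ∈ B
      rw [toMul_sub, div_eq_mul_inv]
      exact hB v.toMul)
    (by
      refine (dvd_of_eq (Nat.card_congr ?_)).trans hBcard
      exact Equiv.subtypeEquiv Additive.toMul fun v => Iff.rfl)
  refine ⟨n, ρ, fun g => (h1 g).trans ?_, h2, h3⟩
  rw [MulEquiv.ext_iff]
  exact ⟨fun h v => Additive.ofMul.injective (h (Additive.ofMul v)),
    fun h v => congrArg Additive.ofMul (h v.toMul)⟩

variable {H : Type*} [Group H] [Finite H]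

/-- The part of the configuration inside a `q`-subgroup of class two. -/
theorem centralizes_mod_center {q : ℕ} [Fact q.Prime] (hq2 : q ≠ 2) {W : Type*} [AddCommGroup W]
    {K : Type*} [Field K] [IsAlgClosed K] [CharP K 2] [Module K W] [FiniteDimensional K W]
    (ρ : Representation K H W) (hρ : ∀ g, ρ g = 1 → g = 1) {x : H} {n : ℕ} (hn : 2 ≤ n)
    (hxn : x ^ 2 ^ n = 1) (hN : ∑ k ∈ Finset.range (2 ^ n), ρ x ^ k = 0)
    {P R : Subgroup H} (hP : IsPGroup 2 P) (hR : Odd (Nat.card R))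
    (hxP : x ∈ Subgroup.normalizer (P : Set H)) (hxR : x ∈ Subgroup.normalizer (R : Set H))
    (hRP : R ≤ Subgroup.normalizer (P : Set H))
    (hRy : ⁅R, Subgroup.zpowers (x ^ 2 ^ (n - 1))⁆ = R) (hPR : ⁅P, R⁆ = P)
    {C : Subgroup H} [hCn : C.Normal] (hC : IsPGroup q C)
    (hcl : ∀ a ∈ C, ∀ b ∈ C, ⁅a, b⁆ ∈ C ⊓ Subgroup.centralizer (C : Set H))
    (hpow : ∀ a ∈ C, a ^ q ∈ C ⊓ Subgroup.centralizer (C : Set H))
    (hyZ : x ^ 2 ^ (n - 1) ∈
      Subgroup.centralizer ((C ⊓ Subgroup.centralizer (C : Set H) : Subgroup H) : Set H)) :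
    ∀ p ∈ P, ∀ c ∈ C, ⁅p, c⁆ ∈ C ⊓ Subgroup.centralizer (C : Set H) := by
  classical
  have hq : q.Prime := Fact.out
  have hqK : (q : K) ≠ 0 := by
    rw [Ne, CharP.cast_eq_zero_iff K 2, Nat.prime_dvd_prime_iff_eq Nat.prime_two hq]
    exact Ne.symm hq2
  intro p hp c hc
  have hpcC : ⁅p, c⁆ ∈ C := by
    rw [commutatorElement_def]
    exact C.mul_mem (hCn.conj_mem c hc p) (C.inv_mem hc)
  refine ⟨hpcC, Subgroup.mem_centralizer_iff.mpr fun v hv => ?_⟩
  suffices hz1 : ⁅⁅p, c⁆, v⁆ = 1 by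
    rw [commutatorElement_eq_one_iff_mul_comm] at hz1
    exact hz1.symm
  by_contra hz
  set Z : Subgroup H := C ⊓ Subgroup.centralizer (C : Set H) with hZdef
  set z : Z := ⟨⁅⁅p, c⁆, v⁆, hcl _ hpcC v hv⟩
  have hZn : Z.Normal := inferInstance
  -- an eigencharacter not trivial on `z`
  obtain ⟨l, ⟨w0, hw0, hlw⟩, hlz⟩ : ∃ l : ↥Z →* K,
      (∃ w : W, w ≠ 0 ∧ ∀ a : Z, ρ (a : H) w = l a • w) ∧ l z ≠ 1 := by
    set U := LinearMap.range (ρ (z : H) - 1) with hU
    have hU0 : U ≠ ⊥ := fun h => hz (hρ _ (sub_eq_zero.mp (LinearMap.range_eq_bot.mp h)))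
    have hinv : ∀ a : Z, ∀ w ∈ U, ρ (a : H) w ∈ U := by
      rintro a _ ⟨w, rfl⟩
      refine ⟨ρ (a : H) w, ?_⟩
      have hcom : ρ (z : H) * ρ (a : H) = ρ (a : H) * ρ (z : H) := by
        rw [← map_mul, ← map_mul, Subgroup.mem_centralizer_iff.mp z.2.2 a a.2.1]
      rw [LinearMap.sub_apply, LinearMap.sub_apply, Module.End.one_apply, Module.End.one_apply,
        map_sub, ← Module.End.mul_apply, hcom, Module.End.mul_apply]
    have hnt : Nontrivial U := Submodule.nontrivial_iff_ne_bot.mpr hU0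
    let r : Z →* Module.End K U :=
      { toFun := fun a => (ρ (a : H)).restrict (hinv a)
        map_one' := LinearMap.ext fun w => Subtype.ext (by simp)
        map_mul' := fun a b => LinearMap.ext fun w => Subtype.ext (by
          show ρ ((a : H) * b) w = _; rw [map_mul]; rfl) }
    obtain ⟨l, w, hw0, hlw⟩ := Cfsg.Agent.HallHigman.exists_eigencharacter r fun a b => by
      rw [← map_mul, ← map_mul]
      congr 1
      exact Subtype.ext (Subgroup.mem_centralizer_iff.mp b.2.2 (a : H) a.2.1)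
    have hlw' : ∀ a : Z, ρ (a : H) (w : W) = l a • (w : W) := fun a =>
      congrArg Subtype.val (hlw a)
    refine ⟨l, ⟨w, fun h => hw0 (Subtype.ext h), hlw'⟩, fun h1 => ?_⟩
    obtain ⟨v', hv'⟩ := w.2
    have hfix : ρ (z : H) (w : W) = w := by rw [hlw', h1, one_smul]
    have hpw : ∀ j : ℕ, ρ ((z : H) ^ j) v' = v' + (j : K) • (w : W) := by
      intro j
      induction j with
      | zero => simp
      | succ j ih =>
        have hzv : ρ (z : H) v' = v' + (w : W) := by
          rw [← hv', LinearMap.sub_apply, Module.End.one_apply]; abel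
        rw [pow_succ', map_mul, Module.End.mul_apply, ih, map_add, map_smul, hfix, hzv,
          Nat.cast_succ, add_smul, one_smul]
        abel
    obtain ⟨i, hi⟩ := hC ⟨(z : H), z.2.1⟩
    have := hpw (q ^ i)
    rw [show (z : H) ^ q ^ i = 1 from congrArg Subtype.val hi, map_one, Module.End.one_apply,
      left_eq_add, Nat.cast_pow] at this
    exact hw0 (Subtype.ext ((smul_eq_zero.mp this).resolve_left (pow_ne_zero _ hqK)))
  -- the stabilizer of `l`
  let L : Subgroup H :=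
    { carrier := {g | ∀ a b : Z, (b : H) = g * a * g⁻¹ → l b = l a}
      one_mem' := fun a b h => by rw [show b = a from Subtype.ext (by simpa using h)]
      mul_mem' := fun {g h} hg hh a b hb => by
        rw [hg ⟨_, hZn.conj_mem a a.2 h⟩ b (by rw [hb]; group)]
        exact hh a _ rfl
      inv_mem' := fun {g} hg a b hb => (hg b a (by rw [hb]; group)).symm }
  have hcentL : Subgroup.centralizer (Z : Set H) ≤ L := fun g hg a b hb => by
    rw [show b = a from Subtype.ext (hb.trans (mul_inv_eq_iff_eq_mul.mpr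
      (Subgroup.mem_centralizer_iff.mp hg a a.2).symm))]
  have : (Subgroup.centralizer (Z : Set H)).Normal := inferInstance
  set y := x ^ 2 ^ (n - 1) with hy
  have hRc : R ≤ Subgroup.centralizer (Z : Set H) := by
    rw [← hRy]
    exact (Subgroup.commutator_mono le_rfl (Subgroup.zpowers_le.mpr hyZ)).trans
      (Subgroup.commutator_le_right _ _)
  have hPc : P ≤ Subgroup.centralizer (Z : Set H) := by
    rw [← hPR]
    exact (Subgroup.commutator_mono le_rfl hRc).trans (Subgroup.commutator_le_right _ _)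
  -- `rad l`
  have hmulrad : ∀ a ∈ C, ∀ b ∈ C, Cfsg.Agent.GrossExceptional.InRad l a →
      Cfsg.Agent.GrossExceptional.InRad l b → Cfsg.Agent.GrossExceptional.InRad l (a * b) := by
    intro a ha b hb h1 h2 v hv hm
    have e : ⁅a * b, v⁆ = ⁅b, v⁆ * ⁅a, v⁆ := by
      have hc := Subgroup.mem_centralizer_iff.mp (hcl b hb v hv).2 a ha
      calc ⁅a * b, v⁆ = a * ⁅b, v⁆ * a⁻¹ * ⁅a, v⁆ := by simp only [commutatorElement_def]; group
        _ = _ := by rw [hc, mul_inv_cancel_right]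
    have : (⟨⁅a * b, v⁆, hm⟩ : Z) = ⟨⁅b, v⁆, hcl b hb v hv⟩ * ⟨⁅a, v⁆, hcl a ha v hv⟩ :=
      Subtype.ext e
    rw [this, map_mul, h1 v hv _, h2 v hv _, one_mul]
  let R0 : Subgroup H :=
    { carrier := {u | u ∈ C ∧ Cfsg.Agent.GrossExceptional.InRad l u}
      one_mem' := ⟨C.one_mem, fun v hv hm => by
        rw [show (⟨⁅(1 : H), v⁆, hm⟩ : Z) = 1 from Subtype.ext (commutatorElement_one_left v),
          map_one]⟩
      mul_mem' := fun {a b} ha hb => ⟨C.mul_mem ha.1 hb.1, hmulrad a ha.1 b hb.1 ha.2 hb.2⟩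
      inv_mem' := fun {a} ha => by
        refine ⟨C.inv_mem ha.1, fun v hv hm => ?_⟩
        have e : ⁅a⁻¹, v⁆ = ⁅a, v⁆⁻¹ := by
          have hc := Subgroup.mem_centralizer_iff.mp (hcl a ha.1 v hv).2 a ha.1
          calc ⁅a⁻¹, v⁆ = a⁻¹ * ⁅a, v⁆⁻¹ * a := by simp only [commutatorElement_def]; group
            _ = _ := by
              rw [show a⁻¹ * ⁅a, v⁆⁻¹ * a = (a⁻¹ * ⁅a, v⁆ * a)⁻¹ by group, mul_assoc, ← hc,
                inv_mul_cancel_left]
        rw [show (⟨⁅a⁻¹, v⁆, hm⟩ : Z) = (⟨⁅a, v⁆, hcl a ha.1 v hv⟩ : Z)⁻¹ from Subtype.ext e,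
          map_inv, ha.2 v hv _, inv_one] }
  have hZrad : Z ≤ R0 := fun a ha => ⟨ha.1, fun v hv hm => by
    rw [show (⟨⁅a, v⁆, hm⟩ : Z) = 1 from Subtype.ext (commutatorElement_eq_one_iff_mul_comm.mpr
      (Subgroup.mem_centralizer_iff.mp ha.2 v hv).symm), map_one]⟩
  set S : Subgroup C := R0.subgroupOf C with hSdef
  have hSmem : ∀ u : C, u ∈ S ↔ Cfsg.Agent.GrossExceptional.InRad l (u : H) := fun u =>
    ⟨fun h => h.2, fun h => ⟨u.2, h⟩⟩
  have hSn : S.Normal := ⟨fun a ha g => by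
    show (g : H) * a * (g : H)⁻¹ ∈ R0
    have h1 : (g : H) * a * (g : H)⁻¹ = ⁅(g : H), (a : H)⁆ * a := by
      simp [commutatorElement_def, mul_assoc]
    rw [h1]
    exact R0.mul_mem (hZrad (hcl g g.2 a a.2)) ha⟩
  let _ : CommGroup (C ⧸ S) :=
    { (inferInstance : Group (C ⧸ S)) with
      mul_comm := fun a b => by
        obtain ⟨a, rfl⟩ := QuotientGroup.mk_surjective a
        obtain ⟨b, rfl⟩ := QuotientGroup.mk_surjective b
        rw [← QuotientGroup.mk_mul, ← QuotientGroup.mk_mul, QuotientGroup.eq]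
        refine hZrad ?_
        have := hcl _ (C.inv_mem b.2) _ (C.inv_mem a.2)
        rw [commutatorElement_def, inv_inv, inv_inv] at this
        simpa [mul_assoc] using this }
  have hVq : ∀ a : C ⧸ S, a ^ q = 1 := by
    intro a
    obtain ⟨a, rfl⟩ := QuotientGroup.mk_surjective a
    rw [← QuotientGroup.mk_pow, QuotientGroup.eq_one_iff]
    exact hZrad (hpow a a.2)
  have hRadconj : ∀ g ∈ L, ∀ a : C, a ∈ S → MulAut.conjNormal g a ∈ S := by
    intro g hg a ha
    rw [hSmem] at ha ⊢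
    intro v hv hm
    rw [MulAut.conjNormal_apply] at hm
    have hv' : g⁻¹ * v * g ∈ C := by simpa using hCn.conj_mem v hv g⁻¹
    have h1 := hg ⟨⁅(a : H), g⁻¹ * v * g⁆, hcl a a.2 _ hv'⟩ ⟨_, hm⟩ (by
      show ⁅g * (a : H) * g⁻¹, v⁆ = g * ⁅(a : H), g⁻¹ * v * g⁆ * g⁻¹
      simp only [commutatorElement_def]; group)
    rw [ha _ hv' _] at h1
    convert h1 using 3
    exact congrArg (fun t => ⁅t, v⁆) (MulAut.conjNormal_apply g a)
  have hmapS : ∀ g : L, S.map (MulAut.conjNormal (g : H) : MulAut C).toMonoidHom = S := fun g => by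
    refine Subgroup.eq_of_le_of_card_ge ?_ (le_of_eq (Subgroup.card_map_of_injective
      (f := (MulAut.conjNormal (g : H) : MulAut C).toMonoidHom) (MulEquiv.injective _)).symm)
    rintro _ ⟨a, ha, rfl⟩
    exact hRadconj g g.2 a ha
  let ψ : L →* MulAut (C ⧸ S) :=
    { toFun := fun g => QuotientGroup.congr S S (MulAut.conjNormal (g : H) : MulAut C) (hmapS g)
      map_one' := MulEquiv.ext fun a => by
        obtain ⟨a, rfl⟩ := QuotientGroup.mk_surjective a
        show (((MulAut.conjNormal (1 : H) : MulAut C) a : C) : C ⧸ S) = _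
        rw [map_one]; rfl
      map_mul' := fun g h => MulEquiv.ext fun a => by
        obtain ⟨a, rfl⟩ := QuotientGroup.mk_surjective a
        show (((MulAut.conjNormal ((g : H) * h) : MulAut C) a : C) : C ⧸ S) = _
        rw [map_mul]; rfl }
  have hψ : ∀ (g : L) (a : C), ψ g a = (a : C ⧸ S) ↔
      Cfsg.Agent.GrossExceptional.InRad l ⁅(g : H), (a : H)⁆ := by
    intro g a
    show (((MulAut.conjNormal (g : H) : MulAut C) a : C) : C ⧸ S) = _ ↔ _
    rw [← div_eq_one, ← QuotientGroup.mk_div, QuotientGroup.eq_one_iff, hSmem]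
    simp [div_eq_mul_inv, commutatorElement_def]
  -- it is enough that `P` acts trivially
  have hpL : p ∈ L := hcentL (hPc hp)
  suffices hP1 : ψ ⟨p, hpL⟩ = 1 by
    have h1 : Cfsg.Agent.GrossExceptional.InRad l ⁅p, c⁆ := (hψ ⟨p, hpL⟩ ⟨c, hc⟩).mp (by
      rw [hP1]; rfl)
    exact hlz (h1 v hv z.2)
  have hyL : y ∈ L := hcentL hyZ
  have hRL : R ≤ L := hRc.trans hcentL
  have hPL : P ≤ L := hPc.trans hcentL
  by_cases hmove : ∃ u ∈ C, ¬ Cfsg.Agent.GrossExceptional.InRad l ⁅y, u⁆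
  · obtain ⟨f, hfn, hx1, hfix, hcard⟩ := Cfsg.Agent.GrossExceptional.component ρ hq hq2
      (by omega : 1 ≤ n) hxn hN hC (Subgroup.mem_normalizer_iff.mpr fun g => ⟨fun hg => hCn.conj_mem g hg x, fun hg => by simpa [mul_assoc] using hCn.conj_mem _ hg x⁻¹⟩)
      hcl (fun a ha => (Subgroup.mem_centralizer_iff.mp hyZ a ha).symm) l ⟨w0, hw0, hlw⟩ hmove
    set x1 := x ^ 2 ^ f with hx1def
    have hx1L : x1 ∈ L := hx1
    set m := n - f with hm
    have hx1y : x1 ^ 2 ^ (m - 1) = y := by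
      rw [hx1def, hy, ← pow_mul, ← pow_add, show f + (n - f - 1) = n - 1 by omega]
    have hx1m : x1 ^ 2 ^ m = 1 := by
      rw [hx1def, ← pow_mul, ← pow_add, show f + (n - f) = n by omega, hxn]
    set C1 := ⁅Subgroup.zpowers y, C⁆
    let B : Subgroup (C ⧸ S) := (C1.subgroupOf C).map (QuotientGroup.mk' S)
    have hC1C : C1 ≤ C := Subgroup.commutator_le_right _ _
    have hBcard : Nat.card B ∣ q ^ 2 := by
      have h := hcard R0 fun u hu => ⟨fun h => h.2, fun h => ⟨hu, h⟩⟩
      rw [← relIndex_eq_card_map]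
      show (R0.subgroupOf C).relIndex (C1.subgroupOf C) ∣ q ^ 2
      rwa [Subgroup.relIndex_subgroupOf hC1C]
    obtain ⟨d, σ, hσ, hσfix, hσrank⟩ := exists_rep_moved (q := q) hVq ψ
      (x := ⟨x1, hx1L⟩) (y := ⟨y, hyL⟩)
      (fun a ha => by
        obtain ⟨a, rfl⟩ := QuotientGroup.mk_surjective a
        exact (hψ _ a).mpr (hfix a a.2 ((hψ _ a).mp ha)))
      B (fun a => by
        obtain ⟨a, rfl⟩ := QuotientGroup.mk_surjective a
        have hmem : ⁅y, (a : H)⁆ ∈ C1 :=
          Subgroup.commutator_mem_commutator (Subgroup.mem_zpowers y) a.2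
        refine ⟨⟨⁅y, (a : H)⁆, hC1C hmem⟩, hmem, ?_⟩
        show _ = (((MulAut.conjNormal y : MulAut C) a : C) : C ⧸ S) * (a : C ⧸ S)⁻¹
        rw [← QuotientGroup.mk_inv, ← QuotientGroup.mk_mul]
        refine congrArg _ (Subtype.ext ?_)
        simp [commutatorElement_def])
      hBcard
    have h2 : (2 : AlgebraicClosure (ZMod q)) ≠ 0 := by
      rw [show (2 : AlgebraicClosure (ZMod q)) = ((2 : ℕ) : AlgebraicClosure (ZMod q)) by norm_num,
        Ne, CharP.cast_eq_zero_iff (AlgebraicClosure (ZMod q)) q,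
        Nat.prime_dvd_prime_iff_eq hq Nat.prime_two]
      exact hq2
    let x1' : L := ⟨x1, hx1L⟩
    have hyeq : x1' ^ 2 ^ (m - 1) = ⟨y, hyL⟩ := Subtype.ext hx1y
    have hmap : ∀ {A : Subgroup H}, A ≤ L → (A.subgroupOf L).map L.subtype = A :=
      fun h => Subgroup.map_subgroupOf_eq_of_le h
    have hnorm : ∀ {A : Subgroup H} (g : L), (g : H) ∈ Subgroup.normalizer (A : Set H) →
        g ∈ Subgroup.normalizer ((A.subgroupOf L : Subgroup L) : Set L) := fun {A} g hg => by
      rw [Subgroup.mem_normalizer_iff]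
      exact fun a => Subgroup.mem_normalizer_iff.mp hg (a : H)
    refine (hσ _).mp (Cfsg.Agent.GrossClassTwo.trivial_of_conf σ h2 (x := x1') (m := m) (by omega)
      (Subtype.ext hx1m) (P := P.subgroupOf L) (R := R.subgroupOf L) hP.comap_subtype ?_
      (hnorm _ (pow_mem hxP _)) (hnorm _ (pow_mem hxR _)) (fun g hg => hnorm g (hRP hg)) ?_ ?_
      (by rw [hyeq]; exact hσfix) (by rw [hyeq]; exact hσrank) ⟨p, hpL⟩ hp)
    · rw [Nat.card_congr (Subgroup.subgroupOfEquivOfLe hRL).toEquiv]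
      exact hR
    · apply Subgroup.map_injective L.subtype_injective
      rw [Subgroup.map_commutator, hmap hRL, MonoidHom.map_zpowers, hyeq]
      exact hRy
    · apply Subgroup.map_injective L.subtype_injective
      rw [Subgroup.map_commutator, hmap hRL, hmap hPL, hPR]
  · -- `y`, hence `R` and `P`, act trivially
    push Not at hmove
    have hy1 : ψ ⟨y, hyL⟩ = 1 := MulEquiv.ext fun a => by
      obtain ⟨a, rfl⟩ := QuotientGroup.mk_surjective a
      exact (hψ _ a).mpr (hmove a a.2)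
    have hR1 : R ≤ ψ.ker.map L.subtype := by
      rw [← hRy, Subgroup.commutator_le]
      intro r hr s hs
      obtain ⟨i, rfl⟩ := hs
      refine ⟨⁅(⟨r, hRL hr⟩ : L), (⟨y, hyL⟩ : L) ^ i⁆, ?_, rfl⟩
      rw [SetLike.mem_coe, MonoidHom.mem_ker, map_commutatorElement, map_zpow, hy1, one_zpow,
        commutatorElement_one_right]
    have hP1 : P ≤ ψ.ker.map L.subtype := by
      rw [← hPR, Subgroup.commutator_le]
      intro a ha r hr
      obtain ⟨r', hr', hrr⟩ := hR1 hr
      refine ⟨⁅(⟨a, hPL ha⟩ : L), r'⁆, ?_, by rw [map_commutatorElement, hrr]; rfl⟩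
      rw [SetLike.mem_coe, MonoidHom.mem_ker, map_commutatorElement, MonoidHom.mem_ker.mp hr',
        commutatorElement_one_right]
    obtain ⟨p', hp', hpp⟩ := hP1 hp
    rw [show (⟨p, hpL⟩ : L) = p' from Subtype.ext hpp.symm]
    exact MonoidHom.mem_ker.mp hp'

theorem pCoreOf_top_le (q : ℕ) : Cfsg.pCoreOf q (⊤ : Subgroup H) ≤ Cfsg.pCore q H := by
  have : (Cfsg.pCoreOf q (⊤ : Subgroup H)).Normal :=
    (pCore_normal q _).map (Subgroup.subtype _) fun h => ⟨⟨h, Subgroup.mem_top h⟩, rfl⟩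
  exact le_pCore ((isPGroup_pCore q _).map _)

variable {V : Type*} [CommGroup V] [Finite V]

/-- The configuration is impossible. -/
theorem false_of_conf (hsol : Group.IsSolvable H) (hO : Cfsg.pCore 2 H = ⊥)
    (hV : ∀ v : V, v ^ 2 = 1) (φ : H →* MulAut V) (hφ : Function.Injective φ) {x : H} {n : ℕ}
    (hn : 2 ≤ n) (hxn : x ^ 2 ^ n = 1)
    (hnorm : ∀ v : V, ∏ k ∈ Finset.range (2 ^ n), φ (x ^ k) v = 1)
    {P R : Subgroup H} (hP : IsPGroup 2 P) (hR : Odd (Nat.card R))
    (hxP : x ∈ Subgroup.normalizer (P : Set H)) (hxR : x ∈ Subgroup.normalizer (R : Set H))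
    (hRP : R ≤ Subgroup.normalizer (P : Set H))
    (hRy : ⁅R, Subgroup.zpowers (x ^ 2 ^ (n - 1))⁆ = R) (hPR : ⁅P, R⁆ = P) (hP0 : P ≠ ⊥) :
    False := by
  obtain ⟨d, ρ, hρ, hρN⟩ := Cfsg.Agent.HallHigman.exists_rep (ℓ := 2) hV φ
  have hρ1 : ∀ g, ρ g = 1 → g = 1 := fun g hg => hφ (((hρ g).mp hg).trans (map_one φ).symm)
  have key : ∀ q : ℕ, q.Prime → P ≤ Subgroup.centralizer (Cfsg.pCore q H : Set H) := by
    intro q hq
    have := Fact.mk hq
    rcases eq_or_ne q 2 with rfl | hq2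
    · rw [hO]
      intro a _
      rw [Subgroup.mem_centralizer_iff]
      intro b hb
      rw [SetLike.mem_coe, Subgroup.mem_bot] at hb
      rw [hb, one_mul, mul_one]
    set Q := Cfsg.pCore q H
    have hQn : Q.Normal := pCore_normal q H
    obtain ⟨C, hCQ, hNC, hCcent, hcl, hpow⟩ :=
      Cfsg.Agent.ClassTwoBaer.exists_critical_sub (isPGroup_pCore q H)
    have hCn : C.Normal := Subgroup.normalizer_eq_top_iff.mp (top_le_iff.mp
      ((Subgroup.normalizer_eq_top_iff.mpr hQn).ge.trans hNC))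
    have hCp : IsPGroup q C := (isPGroup_pCore q H).to_le hCQ
    set Z : Subgroup H := C ⊓ Subgroup.centralizer (C : Set H) with hZ
    have hyZ : x ^ 2 ^ (n - 1) ∈ Subgroup.centralizer (Z : Set H) := by
      by_contra hy
      have hnc : ¬ Z ≤ Subgroup.centralizer {x ^ 2 ^ (n - 1)} := fun h =>
        hy (Subgroup.mem_centralizer_iff.mpr fun a ha =>
          Subgroup.mem_centralizer_singleton_iff.mp (h ha))
      have hxZ : x ∈ Subgroup.normalizer (Z : Set H) := by
        rw [Subgroup.normalizer_eq_top_iff.mpr (inferInstance : Z.Normal)]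
        exact Subgroup.mem_top x
      exact (Cfsg.Agent.HallHigman.exceptional_of_norm_trivial hV φ Nat.prime_two hq (Ne.symm hq2)
        (Ne.symm hq2) (by omega) hxn hxZ (hCp.to_le inf_le_left)
        (fun u _ hu => hφ (hu.trans (map_one φ).symm)) hnc hnorm).2
        ⟨⟨fun a b => Subtype.ext (Subgroup.mem_centralizer_iff.mp b.2.2 (a : H) a.2.1)⟩⟩
    have hmod := centralizes_mod_center hq2 ρ hρ1 hn hxn ((hρN x _).mpr hnorm) hP hR hxP hxR hRP
      hRy hPR hCp hcl hpow hyZ
    have : (Subgroup.centralizer (Z : Set H)).Normal := inferInstance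
    have hPZ : P ≤ Subgroup.centralizer (Z : Set H) := by
      rw [← hPR]
      refine (Subgroup.commutator_mono le_rfl ?_).trans (Subgroup.commutator_le_right _ _)
      rw [← hRy]
      exact (Subgroup.commutator_mono le_rfl (Subgroup.zpowers_le.mpr hyZ)).trans
        (Subgroup.commutator_le_right _ _)
    obtain ⟨i, hi⟩ := IsPGroup.iff_card.mp hP
    have hcopP : ∀ {A : Subgroup H}, IsPGroup q A → (Nat.card P).Coprime (Nat.card A) := by
      intro A hA
      obtain ⟨j, hj⟩ := IsPGroup.iff_card.mp hA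
      rw [hi, hj]
      exact Nat.Coprime.pow _ _ ((Nat.coprime_primes Nat.prime_two hq).mpr (Ne.symm hq2))
    have hPC : P ≤ Subgroup.centralizer (C : Set H) := by
      refine Cfsg.Agent.CoprimeAction.le_centralizer_of_stabilizes
        (hcopP (hCp.to_le inf_le_left : IsPGroup q Z)) (Subgroup.le_centralizer_iff.mp hPZ) ?_
      intro a ha k hk
      have h1 : ⁅a, k⁆ ∈ Z := hmod a ha k hk
      have h2 : k⁻¹ * a * k * a⁻¹ = k⁻¹ * ⁅a, k⁆ * k⁻¹⁻¹ := by
        rw [commutatorElement_def]; group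
      rw [h2]
      exact (inferInstance : Z.Normal).conj_mem _ h1 k⁻¹
    -- from `C` to `Q`
    have hQP : P ≤ Subgroup.normalizer (Q : Set H) := by
      rw [Subgroup.normalizer_eq_top_iff.mpr hQn]; exact le_top
    have hcopQ := hcopP (isPGroup_pCore q H)
    have hsolQ : Group.IsSolvable P ∨ Group.IsSolvable Q :=
      Or.inr (Cfsg.Agent.CoprimeAction.isSolvable_of_isPGroup (isPGroup_pCore q H))
    refine Cfsg.Agent.CoprimeAction.le_centralizer_of_commutator_commutator_eq_bot hQP hcopQ hsolQ ?_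
    have hQPC : ⁅Q, P⁆ ≤ Q ⊓ Subgroup.centralizer (C : Set H) := by
      refine le_inf (Cfsg.Agent.CoprimeAction.commutator_le_self_of_le_normalizer hQP) ?_
      have h1 : ⁅⁅P, C⁆, Q⁆ = ⊥ := by
        rw [Subgroup.commutator_eq_bot_iff_le_centralizer.mpr hPC, Subgroup.commutator_bot_left]
      have h3 : ⁅⁅C, Q⁆, P⁆ = ⊥ := by
        refine eq_bot_iff.mpr ((Subgroup.commutator_mono (Subgroup.commutator_le_left C Q)
          le_rfl).trans ?_)
        rw [Subgroup.commutator_comm, Subgroup.commutator_eq_bot_iff_le_centralizer.mpr hPC]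
      exact Subgroup.commutator_eq_bot_iff_le_centralizer.mp
        (Subgroup.commutator_commutator_eq_bot_of_rotate h1 h3)
    have hQPZ : ⁅Q, P⁆ ≤ Z := le_inf (hQPC.trans hCcent) (hQPC.trans inf_le_right)
    exact Subgroup.commutator_eq_bot_iff_le_centralizer.mpr
      (hQPZ.trans (Subgroup.le_centralizer_iff.mp hPZ))
  refine hP0 (le_bot_iff.mp ?_)
  rw [← hO]
  refine le_trans ?_ (pCoreOf_top_le 2)
  have hsolT : Group.IsSolvable ↥(⊤ : Subgroup H) := inferInstance
  exact Cfsg.Agent.SFTGroup.le_oq_of_commute hsolT le_top hP fun t ht =>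
    (key t ht).trans (Subgroup.centralizer_le (pCoreOf_top_le t))

/-- Replace an element by its 2-part. -/
theorem exists_two_part {H2 : Type*} [Group H2] (π : H →* H2) {g : H} {n : ℕ}
    (hg : π g ^ 2 ^ n = 1) :
    ∃ z ∈ Subgroup.zpowers g, π z = π g ∧ ∃ k : ℕ, z ^ 2 ^ k = 1 := by
  obtain ⟨k, o, ho, hko⟩ := Nat.exists_eq_pow_mul_and_not_dvd (orderOf_pos g).ne' 2 (by norm_num)
  have hcop : Nat.Coprime o (2 ^ (n + 1)) :=
    Nat.Coprime.pow_right _ ((Nat.prime_two.coprime_iff_not_dvd).mpr ho).symm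
  obtain ⟨t, -, ht⟩ := Nat.exists_mul_mod_eq_gcd (n := o) (k := 2 ^ (n + 1))
    (by rw [hcop]; exact Nat.one_lt_pow (by omega) (by norm_num))
  rw [hcop] at ht
  refine ⟨g ^ (o * t), Subgroup.npow_mem_zpowers g _, ?_, k, ?_⟩
  · rw [map_pow]
    conv_lhs => rw [← Nat.mod_add_div (o * t) (2 ^ (n + 1)), ht, pow_add, pow_one, pow_mul,
      pow_succ, pow_mul, hg, one_pow, one_pow, mul_one]
  · rw [← pow_mul, show o * t * 2 ^ k = 2 ^ k * o * t by ring, ← hko, pow_mul, pow_orderOf_eq_one,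
      one_pow]

/-- Top powers lie in `O_{2',2}(H)`. -/
theorem top_power_mem (hsol : Group.IsSolvable H) (hO : Cfsg.pCore 2 H = ⊥)
    (hV : ∀ v : V, v ^ 2 = 1) (φ : H →* MulAut V) (hφ : Function.Injective φ) {n : ℕ}
    (hn : 2 ≤ n) (hexp : ∀ (g : H) (k : ℕ), g ^ 2 ^ k = 1 → g ^ 2 ^ n = 1)
    (hnorm : ∀ (g : H) (k : ℕ), g ^ 2 ^ k = 1 → ∀ v : V,
      ∏ j ∈ Finset.range (2 ^ n), φ (g ^ j) v = 1)
    {x : H} {kx : ℕ} (hx : x ^ 2 ^ kx = 1) :
    x ^ 2 ^ (n - 1) ∈ Cfsg.Agent.HallPLength.term 2 H 2 := by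
  classical
  have : Fact (Nat.Prime 2) := ⟨Nat.prime_two⟩
  set T1 := Cfsg.Agent.HallPLength.term 2 H (2 * 0 + 1)
  have hT1n : T1.Normal := Cfsg.Agent.HallPLength.term_two_normal _ _ _
  set T := Cfsg.Agent.HallPLength.term 2 H 2 with hTdef
  have hTn : T.Normal := Cfsg.Agent.HallPLength.term_two_normal _ _ _
  set O := Cfsg.pCore 2 (H ⧸ T1)
  have hTeq : T = O.comap (QuotientGroup.mk' T1) :=
    Cfsg.Agent.HallConstrained.upperPSeries_even 0
  have hpsol : Cfsg.IsPSolvable 2 H := isPSolvable_of_solvable 2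
  set π : H →* (H ⧸ T1) ⧸ O := (QuotientGroup.mk' O).comp (QuotientGroup.mk' T1) with hπ
  have hπsurj : Function.Surjective π :=
    (QuotientGroup.mk'_surjective _).comp (QuotientGroup.mk'_surjective _)
  have hker : ∀ g, g ∈ T ↔ π g = 1 := fun g => by
    rw [hTeq, Subgroup.mem_comap]
    exact (QuotientGroup.eq_one_iff (N := O) _).symm
  by_contra hy
  have hxn := hexp x kx hx
  set x' := QuotientGroup.mk' T1 x
  have hxe : x' ^ 2 ^ n ∈ O := by
    rw [← map_pow, hxn, map_one]; exact Subgroup.one_mem _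
  have hye : x' ^ 2 ^ (n - 1) ∉ O := fun h => hy (by rw [hTeq]; rw [← map_pow] at h; exact h)
  obtain ⟨r, hr, hr2, Qb, hQbM, hQb, hxQ, hnc⟩ := Cfsg.Agent.HallHigman.exists_moved_subgroup
    (isPSolvable_quotient hpsol T1) hxe (by omega : 1 ≤ n) hye
  have := Fact.mk hr
  -- a Sylow 2-subgroup of `T` and Frattini
  let P0 : Sylow 2 T := default
  set P : Subgroup H := (P0 : Subgroup T).map T.subtype with hPdef
  have hPT : P ≤ T := Subgroup.map_subtype_le _
  have hPp : IsPGroup 2 P := P0.isPGroup'.map _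
  have hfrat : Subgroup.normalizer (P : Set H) ⊔ T = ⊤ := Sylow.normalizer_sup_eq_top P0
  set N := Subgroup.normalizer (P : Set H)
  have hcov : ∀ h : H, ∃ g ∈ N, π g = π h := by
    intro h
    obtain ⟨g, hg, t, ht, rfl⟩ : ∃ g ∈ N, ∃ t ∈ T, g * t = h :=
      Subgroup.mem_sup_of_normal_right.mp (hfrat ▸ Subgroup.mem_top h)
    exact ⟨g, hg, by rw [map_mul, (hker t).mp ht, mul_one]⟩
  set W := N ⊓ Qb.comap π
  let R0 : Sylow r W := default
  set R1 : Subgroup H := (R0 : Subgroup W).map W.subtype with hR1def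
  have hR1W : R1 ≤ W := Subgroup.map_subtype_le _
  have hR1p : IsPGroup r R1 := R0.isPGroup'.map _
  have hπW : ∀ u ∈ Qb, ∃ w ∈ R1, π w = u := by
    intro u hu
    let f : W →* Qb := (π.comp W.subtype).codRestrict Qb fun w => w.2.2
    have hfsurj : Function.Surjective f := by
      rintro ⟨u, hu⟩
      obtain ⟨h, rfl⟩ := hπsurj u
      obtain ⟨g, hg, hgh⟩ := hcov h
      exact ⟨⟨g, hg, show π g ∈ Qb by rw [hgh]; exact hu⟩, Subtype.ext hgh⟩
    have htop : (R0.mapSurjective hfsurj : Subgroup Qb) = ⊤ :=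
      ((R0.mapSurjective hfsurj).is_maximal' (hQb.to_subgroup _ |>.of_equiv
        (MulEquiv.refl _) : IsPGroup r (⊤ : Subgroup Qb)) le_top).symm
    obtain ⟨w, hw, hwu⟩ : (⟨u, hu⟩ : Qb) ∈ (R0 : Subgroup W).map f := by
      rw [← Sylow.coe_mapSurjective hfsurj R0, htop]
      exact Subgroup.mem_top _
    exact ⟨w, ⟨w, hw, rfl⟩, congrArg Subtype.val hwu⟩
  -- an element normalising `P` and `R1` congruent to `x`
  obtain ⟨g, hgN, hgx⟩ := hcov x
  have hgW : g ∈ Subgroup.normalizer (W : Set H) := by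
    rw [Subgroup.mem_normalizer_iff]
    intro a
    have h1 : π (g * a * g⁻¹) ∈ Qb ↔ π a ∈ Qb := by
      rw [map_mul, map_mul, map_inv, hgx]
      exact (Subgroup.mem_normalizer_iff.mp hxQ (π a)).symm
    have h2 : g * a * g⁻¹ ∈ N ↔ a ∈ N := by
      refine ⟨fun h => ?_, fun h => N.mul_mem (N.mul_mem hgN h) (N.inv_mem hgN)⟩
      have := N.mul_mem (N.mul_mem (N.inv_mem hgN) h) hgN
      simpa [mul_assoc] using this
    show a ∈ N ∧ π a ∈ Qb ↔ g * a * g⁻¹ ∈ N ∧ π (g * a * g⁻¹) ∈ Qb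
    rw [h1, h2]
  obtain ⟨g1, hg1N, hg1R, hg1x⟩ : ∃ g1 ∈ N, g1 ∈ Subgroup.normalizer (R1 : Set H) ∧ π g1 = π x := by
    let αg : MulAut W := Subgroup.normalizerMonoidHom W ⟨g, hgW⟩
    let R0' : Sylow r W := R0.mapSurjective (f := αg.toMonoidHom) αg.surjective
    obtain ⟨w, hw⟩ := MulAction.exists_smul_eq W R0 R0'
    obtain ⟨w1, hw1, hw1eq⟩ := hπW _ w.2.2
    refine ⟨((w : H) * w1⁻¹)⁻¹ * g,
      N.mul_mem (N.inv_mem (N.mul_mem w.2.1 (N.inv_mem (hR1W hw1).1))) hgN, ?_, ?_⟩
    · have hconj : R1.map (MulAut.conj g).toMonoidHom = R1.map (MulAut.conj (w : H)).toMonoidHom := by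
        have e1 : ((w • R0 : Sylow r W) : Subgroup W) =
            (R0 : Subgroup W).map (MulAut.conj w).toMonoidHom := rfl
        have h0 : (R0 : Subgroup W).map (MulAut.conj w).toMonoidHom =
            (R0 : Subgroup W).map αg.toMonoidHom := by rw [← e1, hw]; rfl
        have c1 : (MulAut.conj g).toMonoidHom.comp W.subtype = W.subtype.comp αg.toMonoidHom :=
          MonoidHom.ext fun a => rfl
        have c2 : (MulAut.conj (w : H)).toMonoidHom.comp W.subtype =
            W.subtype.comp (MulAut.conj w).toMonoidHom := MonoidHom.ext fun a => rfl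
        rw [hR1def, Subgroup.map_map, Subgroup.map_map, c1, c2, ← Subgroup.map_map,
          ← Subgroup.map_map, h0]
      have hw1' : R1.map (MulAut.conj w1⁻¹).toMonoidHom = R1 :=
        Subgroup.mem_normalizer_iff_map_conj_eq.mp (Subgroup.le_normalizer (R1.inv_mem hw1))
      rw [Subgroup.mem_normalizer_iff_map_conj_eq]
      have hcomp : ∀ a b : H, (MulAut.conj (a * b)).toMonoidHom =
          (MulAut.conj a).toMonoidHom.comp (MulAut.conj b).toMonoidHom := fun a b => by
        ext c; simp [mul_assoc]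
      show R1.map (MulAut.conj (((w : H) * w1⁻¹)⁻¹ * g)).toMonoidHom = R1
      rw [hcomp, ← Subgroup.map_map, hconj, Subgroup.map_map, ← hcomp, mul_inv_rev, inv_inv,
        mul_assoc, inv_mul_cancel, mul_one]
      exact Subgroup.mem_normalizer_iff_map_conj_eq.mp (Subgroup.le_normalizer hw1)
    · rw [map_mul, map_inv, map_mul, map_inv, hw1eq, mul_inv_cancel, inv_one, one_mul, hgx]
  obtain ⟨z, hz, hzg, kz, hzk⟩ := exists_two_part π (g := g1) (n := n) (by
    rw [hg1x, ← map_pow, hxn, map_one])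
  have hzN : z ∈ N := (Subgroup.zpowers_le.mpr hg1N) hz
  have hzR1 : z ∈ Subgroup.normalizer (R1 : Set H) := (Subgroup.zpowers_le.mpr hg1R) hz
  have hzn := hexp z kz hzk
  set y := z ^ 2 ^ (n - 1)
  have hyR1 : Subgroup.zpowers y ≤ Subgroup.normalizer (R1 : Set H) :=
    Subgroup.zpowers_le.mpr (pow_mem hzR1 _)
  have hy2 : y ^ 2 = 1 := by rw [← pow_mul, ← pow_succ, Nat.sub_add_cancel (by omega), hzn]
  have hcopR : (Nat.card (Subgroup.zpowers y)).Coprime (Nat.card R1) := by
    obtain ⟨j, hj⟩ := IsPGroup.iff_card.mp hR1p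
    rw [Nat.card_zpowers, hj]
    exact Nat.Coprime.coprime_dvd_left (orderOf_dvd_of_pow_eq_one hy2)
      (((Nat.coprime_primes Nat.prime_two hr).mpr (Ne.symm hr2)).pow_right j)
  set R := ⁅R1, Subgroup.zpowers y⁆ with hRdef
  have hRR1 : R ≤ R1 := Cfsg.Agent.CoprimeAction.commutator_le_self_of_le_normalizer hyR1
  have hRy : ⁅R, Subgroup.zpowers y⁆ = R := Cfsg.Agent.CoprimeAction.commutator_commutator_eq hyR1
    hcopR (Or.inl (Cfsg.Agent.CoprimeAction.isSolvable_zpowers y))
  have hconj_comm : ∀ {A B : Subgroup H} (a : H), a ∈ Subgroup.normalizer (A : Set H) →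
      a ∈ Subgroup.normalizer (B : Set H) →
        a ∈ Subgroup.normalizer ((⁅A, B⁆ : Subgroup H) : Set H) := by
    intro A B a hA hB
    rw [Subgroup.mem_normalizer_iff_map_conj_eq, Subgroup.map_commutator,
      Subgroup.mem_normalizer_iff_map_conj_eq.mp hA, Subgroup.mem_normalizer_iff_map_conj_eq.mp hB]
  have hzy : z ∈ Subgroup.normalizer (Subgroup.zpowers y : Set H) := by
    rw [Subgroup.mem_normalizer_iff_map_conj_eq, MonoidHom.map_zpowers]
    congr 1
    show z * y * z⁻¹ = y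
    rw [← pow_succ', pow_succ, mul_inv_cancel_right]
  have hzR : z ∈ Subgroup.normalizer (R : Set H) := hconj_comm z hzR1 hzy
  have hRN : R ≤ N := fun a ha => (hR1W (hRR1 ha)).1
  have hRT : ¬ R ≤ T := by
    intro h
    refine hnc fun u hu => ?_
    obtain ⟨w, hw, rfl⟩ := hπW u hu
    have h1 := (hker _).mp (h (Subgroup.commutator_mem_commutator hw (Subgroup.mem_zpowers y)))
    rw [map_commutatorElement, commutatorElement_eq_one_iff_mul_comm] at h1
    have hπy : π y = (QuotientGroup.mk x' : (H ⧸ T1) ⧸ O) ^ 2 ^ (n - 1) := by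
      rw [map_pow, hzg, hg1x]; rfl
    rw [hπy] at h1
    exact Subgroup.mem_centralizer_singleton_iff.mpr h1
  set P1 := ⁅P, R⁆ with hP1def
  have hRcard : Odd (Nat.card R) := by
    obtain ⟨j, hj⟩ := IsPGroup.iff_card.mp (hR1p.to_le hRR1)
    rw [hj]; exact (hr.odd_of_ne_two hr2).pow
  have hcopP : (Nat.card R).Coprime (Nat.card P) := by
    obtain ⟨j, hj⟩ := IsPGroup.iff_card.mp hPp
    rw [hj]; exact (Nat.coprime_two_right.mpr hRcard).pow_right j
  have hP1P : P1 ≤ P := Cfsg.Agent.CoprimeAction.commutator_le_self_of_le_normalizer hRN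
  have hP1R : ⁅P1, R⁆ = P1 := Cfsg.Agent.CoprimeAction.commutator_commutator_eq hRN hcopP
    (Or.inr (Cfsg.Agent.CoprimeAction.isSolvable_of_isPGroup hPp))
  refine false_of_conf hsol hO hV φ hφ hn hzn (hnorm z kz hzk) (P := P1) (R := R)
    (hPp.to_le hP1P) hRcard (hconj_comm z hzN hzR) hzR
    (fun a ha => hconj_comm a (hRN ha) (Subgroup.le_normalizer ha)) hRy hP1R ?_
  intro hbot
  refine hRT fun a ha => ?_
  rw [hTeq, Subgroup.mem_comap]
  refine centralizer_pCore_le (isPSolvable_quotient hpsol T1)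
    (Cfsg.Agent.HallConstrained.pPrimeCore_quotient_upperPSeries 0) ?_
  rw [Subgroup.mem_centralizer_iff]
  intro b hb
  rw [SetLike.mem_coe] at hb
  -- `O` is the image of `P`
  obtain ⟨c, rfl⟩ := QuotientGroup.mk'_surjective T1 b
  let fT : T →* O := ((QuotientGroup.mk' T1).comp T.subtype).codRestrict O fun t =>
    show (t : H) ∈ O.comap (QuotientGroup.mk' T1) from hTeq ▸ t.2
  have hfT : Function.Surjective fT := by
    rintro ⟨b, hb⟩
    obtain ⟨c, rfl⟩ := QuotientGroup.mk'_surjective T1 b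
    exact ⟨⟨c, hTeq ▸ hb⟩, rfl⟩
  have htop : (P0.mapSurjective hfT : Subgroup O) = ⊤ :=
    ((P0.mapSurjective hfT).is_maximal' ((isPGroup_pCore 2 (H ⧸ T1)).to_subgroup ⊤ |>.of_equiv
      (MulEquiv.refl _)) le_top).symm
  obtain ⟨c', hc', hcc⟩ : (⟨QuotientGroup.mk' T1 c, hb⟩ : O) ∈ (P0 : Subgroup T).map fT := by
    rw [← Sylow.coe_mapSurjective hfT P0, htop]
    exact Subgroup.mem_top _
  have h1 : ⁅(c' : H), a⁆ = 1 := Subgroup.mem_bot.mp
    (hbot ▸ Subgroup.commutator_mem_commutator ⟨c', hc', rfl⟩ ha)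
  have hcc' : QuotientGroup.mk' T1 (c' : H) = QuotientGroup.mk' T1 c := congrArg Subtype.val hcc
  rw [← hcc', ← map_mul, ← map_mul, commutatorElement_eq_one_iff_mul_comm.mp h1]

end Cfsg.Agent.GrossTopPower
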