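import Mathlib
import Cfsg.Agent.Lib.CoprimeAction
import Cfsg.Agent.Lib.HallHigmanB

/-!
# Gross's theorem for two-power automorphisms: algebraic tools

An element `y` of order dividing `2 ^ e` satisfying a polynomial of degree below `2 ^ e` with
non-zero constant term has its involution centralising every invariant abelian group of odd order.
The symplectic module of a group of class two.
-/

set_option autoImplicit false

namespace Cfsg.Agent.GrossTwo

open Subgroup
open scoped commutatorElement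

universe u

section Operators

variable {K W : Type*} [Field K] [AddCommGroup W] [Module K W]
variable {Q : Type*} [Group Q] [Finite Q] (r : Q →* Module.End K W) {X : Module.End K W}
  {α : MulAut Q}

/-- A semiregular abelian group under an element with a short polynomial acts trivially. -/
theorem eq_one_of_poly {m : ℕ} (c : ℕ → K) (hc0 : c 0 ≠ 0)
    (hN : ∑ k ∈ Finset.range (m + 1), c k • X ^ k = 0)
    (hint : ∀ u, X * r u = r (α u) * X) (hcomm : ∀ u v, r u * r v = r v * r u)
    (hQK : (Nat.card Q : K) ≠ 0)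
    (hfpf : ∀ k, 0 < k → k ≤ m → ∀ u, r ((α ^ k) u) = r u → r u = 1) (v : Q) : r v = 1 := by
  classical
  have : Fintype Q := Fintype.ofFinite Q
  set S : Module.End K W := ∑ u, r u
  have hSabs : ∀ w, r w * S = S := by
    intro w
    rw [Finset.mul_sum]
    simp only [← map_mul]
    exact Equiv.sum_comp (Equiv.mulLeft w) fun u => r u
  have hcast : ((Fintype.card Q : ℕ) : K) ≠ 0 := by rwa [← Nat.card_eq_fintype_card]
  let T : ℕ → Module.End K W := fun k => ∑ u, r (u * (α ^ k) u⁻¹)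
  have hT : ∀ k, 0 < k → k ≤ m → T k = S := by
    intro k hk0 hkm
    have : Finite ↥(Set.range r) := (Set.finite_range r).to_subtype
    let φ : ↥(Set.range r) → ↥(Set.range r) := fun y =>
      ⟨r (y.2.choose * (α ^ k) y.2.choose⁻¹), _, rfl⟩
    have hinj : Function.Injective φ := by
      intro y z hyz
      set a := y.2.choose
      set b := z.2.choose
      have h1 : r (a * (α ^ k) a⁻¹) = r (b * (α ^ k) b⁻¹) := congrArg Subtype.val hyz
      rw [map_mul, map_mul] at h1
      have h2 : r ((α ^ k) (b⁻¹ * a)) = r (b⁻¹ * a) := by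
        calc r ((α ^ k) (b⁻¹ * a)) = r b⁻¹ * (r b * r ((α ^ k) b⁻¹)) * r ((α ^ k) a) := by
              rw [← mul_assoc (r b⁻¹), ← map_mul, inv_mul_cancel, map_one, one_mul, ← map_mul,
                ← map_mul]
          _ = r (b⁻¹ * a) := by
              rw [← h1]
              simp only [← map_mul]
              congr 1
              simp [mul_assoc]
      have h3 := hfpf k hk0 hkm _ h2
      refine Subtype.ext ?_
      calc (y : Module.End K W) = r a := y.2.choose_spec.symm
        _ = r b * r (b⁻¹ * a) := by rw [← map_mul, mul_inv_cancel_left]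
        _ = (z : Module.End K W) := by rw [h3, mul_one]; exact z.2.choose_spec
    have habs : ∀ w, r w * T k = T k := by
      intro w
      obtain ⟨y, hy⟩ := (Finite.injective_iff_surjective.mp hinj) ⟨r w, w, rfl⟩
      set a := y.2.choose
      have h1 : r (a * (α ^ k) a⁻¹) = r w := congrArg Subtype.val hy
      rw [← h1, Finset.mul_sum]
      refine Eq.trans (Finset.sum_congr rfl fun u _ => ?_)
        (Equiv.sum_comp (Equiv.mulLeft a) fun u => r (u * (α ^ k) u⁻¹))
      rw [Equiv.coe_mulLeft, mul_inv_rev, map_mul (α ^ k), map_mul, map_mul, map_mul, map_mul,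
        mul_assoc, mul_assoc]
      congr 1
      rw [← mul_assoc, hcomm ((α ^ k) a⁻¹) u, mul_assoc, hcomm ((α ^ k) a⁻¹)]
      rw [map_mul]
    have h1 : S * T k = Fintype.card Q • T k := by
      rw [Finset.sum_mul, Finset.sum_congr rfl fun u _ => habs u, Finset.sum_const,
        Finset.card_univ]
    have h2 : T k * S = Fintype.card Q • S := by
      rw [Finset.sum_mul, Finset.sum_congr rfl fun u _ => hSabs _, Finset.sum_const,
        Finset.card_univ]
    have h3 : S * T k = T k * S := by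
      simp only [S, T, Finset.sum_mul, Finset.mul_sum]
      rw [Finset.sum_comm]
      exact Finset.sum_congr rfl fun u _ => Finset.sum_congr rfl fun w _ => hcomm _ _
    rw [h1, h2, ← Nat.cast_smul_eq_nsmul K, ← Nat.cast_smul_eq_nsmul K] at h3
    exact smul_right_injective _ hcast h3
  have key : S = Fintype.card Q • (1 : Module.End K W) := by
    have h1 : ∑ k ∈ Finset.range (m + 1), c k • (T k * X ^ k) = 0 := by
      have h2 : ∀ k, T k * X ^ k = ∑ u, r u * X ^ k * r u⁻¹ := by
        intro k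
        rw [Finset.sum_mul]
        refine Finset.sum_congr rfl fun u _ => ?_
        rw [mul_assoc, Cfsg.Agent.HallHigman.pow_intertwine r hint, ← mul_assoc, ← map_mul]
      simp only [h2, Finset.smul_sum]
      rw [Finset.sum_comm]
      refine Finset.sum_eq_zero fun u _ => ?_
      rw [Finset.sum_congr rfl (g := fun k => r u * (c k • X ^ k) * r u⁻¹) fun k _ => by
          rw [mul_smul_comm, smul_mul_assoc],
        ← Finset.sum_mul, ← Finset.mul_sum, hN, mul_zero, zero_mul]
    rw [Finset.sum_range_succ'] at h1 hN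
    rw [Finset.sum_congr rfl (g := fun k => S * (c (k + 1) • X ^ (k + 1))) fun k hk => by
      rw [hT (k + 1) (by omega) (by have := Finset.mem_range.mp hk; omega), mul_smul_comm]] at h1
    rw [← Finset.mul_sum, eq_neg_of_add_eq_zero_left hN] at h1
    simp only [T, mul_one, pow_zero, MulAut.one_apply, mul_inv_cancel, map_one, Finset.sum_const,
      Finset.card_univ, mul_neg, mul_smul_comm] at h1
    exact smul_right_injective _ hc0 (neg_add_eq_zero.mp h1)
  have h := hSabs v
  rw [key, mul_smul_comm, mul_one, ← Nat.cast_smul_eq_nsmul K, ← Nat.cast_smul_eq_nsmul K] at h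
  exact smul_right_injective _ hcast h

end Operators

/-- The involution of a two-power element with a short polynomial centralises the invariant
abelian groups of odd order. -/
theorem commute_of_poly {K W G : Type*} [Field K] [AddCommGroup W] [Module K W] [Group G]
    [Finite G] (ρ : Representation K G W) {A : Subgroup G}
    (hA : ∀ a ∈ A, ∀ b ∈ A, ρ a * ρ b = ρ b * ρ a) (hcard : (Nat.card A : K) ≠ 0)
    (hodd : Odd (Nat.card A)) {y : G} (hyA : y ∈ normalizer (A : Set G)) {e : ℕ} (he : 1 ≤ e)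
    (hye : y ^ 2 ^ e = 1) (P : Polynomial K) (hdeg : P.natDegree < 2 ^ e)
    (h0 : P.coeff 0 ≠ 0) (hP : Polynomial.aeval (ρ y) P = 0) :
    ∀ a ∈ A, ρ (y ^ 2 ^ (e - 1)) * ρ a = ρ a * ρ (y ^ 2 ^ (e - 1)) := by
  classical
  set t := y ^ 2 ^ (e - 1) with ht
  have htt : t * t = 1 := by
    rw [ht, ← pow_add, ← two_mul, ← pow_succ', Nat.sub_add_cancel he, hye]
  have htinv : t⁻¹ = t := inv_eq_of_mul_eq_one_right htt
  have htA : t ∈ normalizer (A : Set G) := pow_mem hyA _
  have hct : ∀ {a : G}, a ∈ A → t * a * t⁻¹ ∈ A := fun ha =>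
    Cfsg.Agent.CoprimeAction.conj_mem htA ha
  have hm : ∀ a b : G, ρ (a * b) = ρ a * ρ b := fun a b => map_mul ρ a b
  let B : Subgroup G :=
    { carrier := {a | a ∈ A ∧ ρ (t * a * t⁻¹) * ρ a = 1}
      one_mem' := ⟨one_mem _, by simp⟩
      mul_mem' := by
        rintro a b ⟨ha, ha'⟩ ⟨hb, hb'⟩
        refine ⟨mul_mem ha hb, ?_⟩
        rw [show t * (a * b) * t⁻¹ = (t * a * t⁻¹) * (t * b * t⁻¹) by group,
          hm (t * a * t⁻¹) (t * b * t⁻¹), hm a b, mul_assoc, ← mul_assoc (ρ (t * b * t⁻¹)) (ρ a),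
          hA _ (hct hb) _ ha, mul_assoc (ρ a), hb', mul_one, ha']
      inv_mem' := by
        rintro a ⟨ha, ha'⟩
        refine ⟨inv_mem ha, ?_⟩
        have h2 : ρ (t * a * t⁻¹) = ρ a⁻¹ := by
          calc ρ (t * a * t⁻¹) = ρ (t * a * t⁻¹) * (ρ a * ρ a⁻¹) := by
                rw [← hm, mul_inv_cancel, map_one, mul_one]
            _ = ρ a⁻¹ := by rw [← mul_assoc, ha', one_mul]
        rw [show t * a⁻¹ * t⁻¹ = (t * a * t⁻¹)⁻¹ by group, ← h2, ← map_mul, inv_mul_cancel,
          map_one] }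
  have hBA : B ≤ A := fun a ha => ha.1
  have hyB : y ∈ normalizer (B : Set G) := by
    have hyt : y * t = t * y := ((Commute.refl y).pow_right _).eq
    refine mem_normalizer_iff_map_conj_eq.mpr (Subgroup.eq_of_le_of_card_ge ?_ (le_of_eq
      (Subgroup.card_map_of_injective (MulAut.conj y).injective).symm))
    rintro _ ⟨a, ⟨ha, ha'⟩, rfl⟩
    refine ⟨Cfsg.Agent.CoprimeAction.conj_mem hyA ha, ?_⟩
    show ρ (t * (y * a * y⁻¹) * t⁻¹) * ρ (y * a * y⁻¹) = 1
    have e1 : t * (y * a * y⁻¹) * t⁻¹ = y * (t * a * t⁻¹) * y⁻¹ := by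
      calc t * (y * a * y⁻¹) * t⁻¹ = (t * y) * a * (t * y)⁻¹ := by group
        _ = (y * t) * a * (y * t)⁻¹ := by rw [hyt]
        _ = _ := by group
    rw [e1, hm (y * (t * a * t⁻¹)) y⁻¹, hm y (t * a * t⁻¹), hm (y * a) y⁻¹, hm y a]
    calc ρ y * ρ (t * a * t⁻¹) * ρ y⁻¹ * (ρ y * ρ a * ρ y⁻¹)
        = ρ y * ρ (t * a * t⁻¹) * (ρ y⁻¹ * ρ y) * ρ a * ρ y⁻¹ := by simp only [mul_assoc]
      _ = ρ y * (ρ (t * a * t⁻¹) * ρ a) * ρ y⁻¹ := by
          rw [← hm y⁻¹ y, inv_mul_cancel, map_one, mul_one]; simp only [mul_assoc]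
      _ = 1 := by rw [ha', mul_one, ← hm, mul_inv_cancel, map_one]
  let α : MulAut B := normalizerMonoidHom B ⟨y, hyB⟩
  have hα : ∀ (k : ℕ) (u : B), (((α ^ k) u : B) : G) = y ^ k * u * (y ^ k)⁻¹ := by
    intro k u
    rw [← map_pow]
    rfl
  have hBK : (Nat.card B : K) ≠ 0 := fun h => hcard (by
    obtain ⟨d, hd⟩ := card_dvd_of_le hBA
    rw [hd, Nat.cast_mul, h, zero_mul])
  have hN : ∑ k ∈ Finset.range (2 ^ e - 1 + 1), P.coeff k • ρ y ^ k = 0 := by
    rw [← hP]
    exact (Polynomial.aeval_eq_sum_range' (by omega) _).symm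
  have hB : ∀ b ∈ B, ρ b = 1 := by
    intro b hb
    refine eq_one_of_poly ((ρ : G →* _).comp B.subtype) (α := α) (m := 2 ^ e - 1) P.coeff h0 hN
      ?_ ?_ hBK ?_ ⟨b, hb⟩
    · intro u
      show ρ y * ρ u = ρ ((α u : B) : G) * ρ y
      have := hα 1 u
      rw [pow_one, pow_one] at this
      rw [this, ← map_mul, ← map_mul, inv_mul_cancel_right]
    · intro u v
      exact hA _ (hBA u.2) _ (hBA v.2)
    · intro k hk0 hkm u hu
      change ρ ((((α ^ k) u : B)) : G) = ρ (u : G) at hu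
      rw [hα] at hu
      obtain ⟨l, hl⟩ := Cfsg.Agent.HallHigman.exists_pow_eq_top_power Nat.prime_two hye hk0
        (by omega : k < 2 ^ e)
      have hu2 : ∀ i : ℕ, ρ ((y ^ k) ^ i * u * ((y ^ k) ^ i)⁻¹) = ρ u := by
        intro i
        induction i with
        | zero => simp
        | succ i ih =>
          rw [show (y ^ k) ^ (i + 1) * (u : G) * ((y ^ k) ^ (i + 1))⁻¹ =
            y ^ k * ((y ^ k) ^ i * (u : G) * ((y ^ k) ^ i)⁻¹) * (y ^ k)⁻¹ by rw [pow_succ']; group,
            map_mul, map_mul, ih, ← map_mul, ← map_mul, hu]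
      have h1 := hu2 l
      rw [hl] at h1
      have h2 := u.2.2
      rw [h1] at h2
      show ρ (u : G) = 1
      obtain ⟨d, hd⟩ := hodd.of_dvd_nat (card_dvd_of_le hBA)
      have h3 : (u : G) ^ Nat.card B = 1 := congrArg Subtype.val (pow_card_eq_one' (x := u))
      have h4 := congrArg (fun g => ρ g) h3
      rw [hd] at h4
      simp only [map_pow, map_one] at h4
      rwa [pow_succ, pow_mul, sq, h2, one_pow, one_mul] at h4
  intro a ha
  have hbB : a⁻¹ * (t * a * t⁻¹) ∈ B := by
    refine ⟨mul_mem (inv_mem ha) (hct ha), ?_⟩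
    rw [← map_mul, show t * (a⁻¹ * (t * a * t⁻¹)) * t⁻¹ * (a⁻¹ * (t * a * t⁻¹)) =
      t * a⁻¹ * (t * a) * (t * t)⁻¹ * a⁻¹ * (t * a * t⁻¹) by group, htt, inv_one, mul_one,
      show t * a⁻¹ * (t * a) * a⁻¹ * (t * a * t⁻¹) = t * a⁻¹ * (t * t) * a * t⁻¹ by group, htt]
    simp [mul_assoc]
  have h1 := hB _ hbB
  rw [map_mul] at h1
  have h2 : ρ (t * a * t⁻¹) = ρ a := by
    calc ρ (t * a * t⁻¹) = ρ a * (ρ a⁻¹ * ρ (t * a * t⁻¹)) := by
          rw [← mul_assoc, ← map_mul (ρ : G →* _) a, mul_inv_cancel, map_one, one_mul]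
      _ = ρ a := by rw [h1, mul_one]
  rw [← map_mul, ← map_mul]
  conv_rhs => rw [map_mul, ← h2, ← map_mul, inv_mul_cancel_right]

/-- An action by additive maps as a representation over the prime field. -/
def repOfAddHom (q : ℕ) {H V : Type*} [Monoid H] [AddCommGroup V] [Module (ZMod q) V]
    (f : H → V →+ V) (h1 : ∀ u, f 1 u = u) (hm : ∀ g h u, f (g * h) u = f g (f h u)) :
    Representation (ZMod q) H V where
  toFun g := (f g).toZModLinearMap q
  map_one' := LinearMap.ext h1
  map_mul' g h := LinearMap.ext (hm g h)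

/-- The symplectic module of a group of class two whose commutators lie in a central group of
order `q`. -/
theorem exists_form {G : Type u} [Group G] [Finite G] {q : ℕ} [Fact q.Prime] (D : Subgroup G)
    (hexp : ∀ u ∈ D, u ^ q ∈ Cfsg.Agent.HallHigman.ctr D) {z : G} (hz : orderOf z = q)
    (hzc : ∀ g : G, Commute g z) (hpow : ∀ u ∈ D, ∀ v ∈ D, ∃ k : ℕ, ⁅u, v⁆ = z ^ k) :
    ∃ (V : Type u) (_ : AddCommGroup V) (_ : Module (ZMod q) V) (_ : Finite V)
      (σ : Representation (ZMod q) ↥(normalizer (D : Set G)) V) (π : ↥D → V)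
      (β : V → V → ZMod q),
      Function.Surjective π ∧ (∀ a b, π (a * b) = π a + π b) ∧
      (∀ a : ↥D, π a = 0 ↔ (a : G) ∈ Cfsg.Agent.HallHigman.ctr D) ∧
      (∀ (g : ↥(normalizer (D : Set G))) (a b : ↥D),
        (b : G) = g * a * (g : G)⁻¹ → σ g (π a) = π b) ∧
      (∀ u u' v, β (u + u') v = β u v + β u' v) ∧ (∀ u v v', β u (v + v') = β u v + β u v') ∧
      (∀ u, β u u = 0) ∧ (∀ u, (∀ v, β u v = 0) → u = 0) ∧
      (∀ g u v, β (σ g u) (σ g v) = β u v) ∧
      (∀ a b : ↥D, β (π a) (π b) = 0 ↔ Commute (a : G) b) := by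
  classical
  have hz' : IsOfFinOrder z := isOfFinOrder_of_finite z
  have hctr : ∀ a : ↥D, a ∈ center ↥D ↔ (a : G) ∈ Cfsg.Agent.HallHigman.ctr D := fun a => by
    rw [mem_center_iff]
    exact ⟨fun h => ⟨a.2, mem_centralizer_iff.mpr fun b hb => congrArg Subtype.val (h ⟨b, hb⟩)⟩,
      fun h b => Subtype.ext (mem_centralizer_iff.mp h.2 b b.2)⟩
  have hpow' : ∀ a b : ↥D, ∃ k : ℕ, ⁅(a : G), (b : G)⁆ = z ^ k := fun a b =>
    hpow a a.2 b b.2
  choose ex hex using hpow'
  let L : ↥D → ↥D → ZMod q := fun a b => (ex a b : ZMod q)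
  have hinj : ∀ {i j : ℕ}, z ^ i = z ^ j → (i : ZMod q) = j := fun {i j} h => by
    rw [ZMod.natCast_eq_natCast_iff']
    have := pow_inj_mod (x := z) |>.mp h
    rwa [hz] at this
  have hL : ∀ {a b : ↥D} {k : ℕ}, ⁅(a : G), (b : G)⁆ = z ^ k → L a b = k := fun {a b k} h =>
    hinj ((hex a b).symm.trans h)
  have hL0 : ∀ a b : ↥D, L a b = 0 ↔ Commute (a : G) b := fun a b => by
    rw [← Nat.cast_zero]
    refine ⟨fun h => commutatorElement_eq_one_iff_mul_comm.mp ?_, fun h => hL ?_⟩
    · rw [hex, ← orderOf_dvd_iff_pow_eq_one, hz]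
      exact (ZMod.natCast_eq_zero_iff _ _).mp (by simpa [L] using h)
    · rw [pow_zero]
      exact commutatorElement_eq_one_iff_mul_comm.mpr h.eq
  have hcl : ∀ a a' b : ↥D, L (a * a') b = L a b + L a' b := fun a a' b => by
    rw [← Nat.cast_add]
    refine hL ?_
    rw [Subgroup.coe_mul, show ⁅(a : G) * a', (b : G)⁆ = (a : G) * ⁅(a' : G), (b : G)⁆ *
      ((a : G))⁻¹ * ⁅(a : G), (b : G)⁆ by simp only [commutatorElement_def]; group, hex, hex,
      ((hzc (a : G)).pow_right _).eq, mul_inv_cancel_right, pow_add]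
    exact (Commute.pow_pow_self z _ _).eq
  have hskew : ∀ a b : ↥D, L b a = -L a b := fun a b => by
    rw [eq_neg_iff_add_eq_zero, ← Nat.cast_add, ← Nat.cast_zero]
    refine hinj ?_
    rw [pow_add, ← hex, ← hex, pow_zero, ← commutatorElement_inv (a : G) b, inv_mul_cancel]
  have hcr : ∀ a b b' : ↥D, L a (b * b') = L a b + L a b' := fun a b b' => by
    rw [hskew (b * b') a, hcl, neg_add, ← hskew b a, ← hskew b' a]
  have hLz : ∀ {c : ↥D}, c ∈ center ↥D → ∀ b, L c b = 0 := fun {c} hc b =>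
    (hL0 c b).mpr (congrArg Subtype.val (mem_center_iff.mp hc b)).symm
  have hcomm : ∀ a b : ↥D, ⁅a, b⁆ ∈ center ↥D := fun a b => by
    rw [mem_center_iff]
    intro g
    refine Subtype.ext ?_
    show (g : G) * ⁅(a : G), (b : G)⁆ = ⁅(a : G), (b : G)⁆ * g
    rw [hex]
    exact ((hzc (g : G)).pow_right _).eq
  have : IsMulCommutative (↥D ⧸ center ↥D) := ⟨⟨fun u v => by
    induction u using QuotientGroup.induction_on with
    | H a =>
      induction v using QuotientGroup.induction_on with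
      | H b =>
        rw [← QuotientGroup.mk_mul, ← QuotientGroup.mk_mul, QuotientGroup.eq, mul_inv_rev]
        have := hcomm b⁻¹ a⁻¹
        rw [commutatorElement_def, inv_inv, inv_inv] at this
        simpa [mul_assoc] using this⟩⟩
  let : CommGroup (↥D ⧸ center ↥D) :=
    { (inferInstance : Group (↥D ⧸ center ↥D)) with mul_comm := mul_comm' }
  let V := Additive (↥D ⧸ center ↥D)
  let pr : ↥D → V := fun a => Additive.ofMul (a : ↥D ⧸ center ↥D)
  have hpr : Function.Surjective pr := fun u => by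
    obtain ⟨a, ha⟩ := QuotientGroup.mk_surjective (Additive.toMul u)
    exact ⟨a, by simp [pr, ha]⟩
  have hprm : ∀ a b, pr (a * b) = pr a + pr b := fun a b => rfl
  have hpr0 : ∀ a, pr a = 0 ↔ a ∈ center ↥D := fun a => QuotientGroup.eq_one_iff a
  let : Module (ZMod q) V := AddCommGroup.zmodModule (n := q) (fun u => by
    obtain ⟨a, rfl⟩ := hpr u
    have : q • pr a = pr (a ^ q) := rfl
    rw [this, hpr0, hctr, Subgroup.coe_pow]
    exact hexp a a.2)
  have hwd : ∀ {a a' b b' : ↥D}, pr a = pr a' → pr b = pr b' → L a b = L a' b' := by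
    intro a a' b b' h1 h2
    have h1' : a⁻¹ * a' ∈ center ↥D := QuotientGroup.eq.mp h1
    have h2' : b⁻¹ * b' ∈ center ↥D := QuotientGroup.eq.mp h2
    rw [show a' = a * (a⁻¹ * a') by group, show b' = b * (b⁻¹ * b') by group, hcl, hLz h1',
      add_zero, hcr, hskew (b⁻¹ * b') a, hLz h2', neg_zero, add_zero]
  let β : V → V → ZMod q := fun u v => L (Function.surjInv hpr u) (Function.surjInv hpr v)
  have hβ : ∀ a b, β (pr a) (pr b) = L a b := fun a b =>
    hwd (Function.surjInv_eq hpr _) (Function.surjInv_eq hpr _)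
  -- the action
  let φ : ↥(normalizer (D : Set G)) →* MulAut ↥D := normalizerMonoidHom D
  have hφ : ∀ g (a : ↥D), ((φ g a : ↥D) : G) = g * a * (g : G)⁻¹ := fun g a => rfl
  have hle : ∀ g, center ↥D ≤ (center ↥D).comap (φ g).toMonoidHom := fun g =>
    (Subgroup.characteristic_iff_comap_eq.mp inferInstance (φ g)).ge
  let f : ↥(normalizer (D : Set G)) → V →+ V := fun g => MonoidHom.toAdditive
    (QuotientGroup.map (center ↥D) (center ↥D) (φ g).toMonoidHom (hle g))
  have hf : ∀ g a, f g (pr a) = pr (φ g a) := fun g a => rfl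
  have hf1 : ∀ u, f 1 u = u := fun u => by
    obtain ⟨a, rfl⟩ := hpr u
    rw [hf, map_one]
    rfl
  have hfm : ∀ g h u, f (g * h) u = f g (f h u) := fun g h u => by
    obtain ⟨a, rfl⟩ := hpr u
    rw [hf, hf, hf, map_mul]
    rfl
  let σ : Representation (ZMod q) ↥(normalizer (D : Set G)) V := repOfAddHom q f hf1 hfm
  refine ⟨V, inferInstance, inferInstance, inferInstanceAs (Finite (↥D ⧸ center ↥D)), σ, pr, β,
    hpr, hprm, fun a => (hpr0 a).trans (hctr a), ?_, ?_, ?_, ?_, ?_, ?_, ?_⟩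
  · intro g a b hb
    show f g (pr a) = pr b
    rw [hf]
    exact congrArg pr (Subtype.ext ((hφ g a).trans hb.symm))
  · intro u u' v
    obtain ⟨a, rfl⟩ := hpr u; obtain ⟨a', rfl⟩ := hpr u'; obtain ⟨b, rfl⟩ := hpr v
    rw [← hprm, hβ, hβ, hβ, hcl]
  · intro u v v'
    obtain ⟨a, rfl⟩ := hpr u; obtain ⟨b, rfl⟩ := hpr v; obtain ⟨b', rfl⟩ := hpr v'
    rw [← hprm, hβ, hβ, hβ, hcr]
  · intro u
    obtain ⟨a, rfl⟩ := hpr u
    rw [hβ]
    exact (hL0 a a).mpr (Commute.refl _)
  · intro u hu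
    obtain ⟨a, rfl⟩ := hpr u
    rw [hpr0, mem_center_iff]
    intro b
    have h1 := hu (pr b)
    rw [hβ, hL0] at h1
    exact Subtype.ext h1.eq.symm
  · intro g u v
    obtain ⟨a, rfl⟩ := hpr u; obtain ⟨b, rfl⟩ := hpr v
    show β (f g (pr a)) (f g (pr b)) = _
    rw [hf, hf, hβ, hβ]
    refine hL ?_
    have := map_commutatorElement (MulAut.conj (g : G)).toMonoidHom (a : G) (b : G)
    simp only [MulEquiv.coe_toMonoidHom, MulAut.conj_apply] at this
    rw [hφ, hφ, ← this, hex, ((hzc (g : G)).pow_right _).eq, mul_inv_cancel_right]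
  · intro a b
    rw [hβ]
    exact hL0 a b

/-- If `q ^ j + 1` is a power of two greater than two then `j = 1`. -/
theorem pow_add_one_eq_two_pow {q j a : ℕ} (hq : Odd q) (hq1 : 1 < q) (ha : 2 ≤ a)
    (h : q ^ j + 1 = 2 ^ a) : j = 1 := by
  rcases Nat.even_or_odd j with hj | hj
  · exfalso
    obtain ⟨i, rfl⟩ := hj
    obtain ⟨d, hd⟩ := hq.pow (n := i)
    rw [pow_add, hd, show a = a - 2 + 2 by omega, pow_add] at h
    ring_nf at h
    omega
  · have h1 : (∑ i ∈ Finset.range j, (-(q : ℤ)) ^ i) * ((q : ℤ) + 1) = 2 ^ a := by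
      have h2 := geom_sum_mul (-(q : ℤ)) j
      rw [hj.neg_pow] at h2
      have h3 : ((q : ℤ) ^ j + 1) = 2 ^ a := by exact_mod_cast h
      linarith
    set S := ∑ i ∈ Finset.range j, (-(q : ℤ)) ^ i with hS
    have h2 : ¬ (2 : ℤ) ∣ S := by
      rw [← Int.natAbs_dvd_natAbs.not, show ((2 : ℤ).natAbs) = 2 from rfl, ← even_iff_two_dvd,
        Int.natAbs_even, hS, ← ZMod.intCast_eq_zero_iff_even]
      push_cast
      have hq' : (q : ZMod 2) = 1 := (ZMod.natCast_eq_one_iff_odd).mpr hq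
      simp only [hq', show (-1 : ZMod 2) = 1 from rfl, one_pow, Finset.sum_const,
        Finset.card_range, nsmul_eq_mul, mul_one]
      rw [(ZMod.natCast_eq_one_iff_odd).mpr hj]
      exact one_ne_zero
    have h3 : S.natAbs = 1 := by
      have h4 : S.natAbs ∣ 2 ^ a := by
        have := Int.natAbs_dvd_natAbs.mpr (Dvd.intro _ h1)
        simpa [Int.natAbs_pow] using this
      obtain ⟨i, -, hi⟩ := (Nat.dvd_prime_pow Nat.prime_two).mp h4
      rcases Nat.eq_zero_or_pos i with h0 | h0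
      · rw [hi, h0, pow_zero]
      · exact absurd (Int.natAbs_dvd_natAbs.mp (show (2 : ℤ).natAbs ∣ S.natAbs by
          rw [hi]; exact dvd_pow_self 2 h0.ne')) h2
    have h4 := congrArg Int.natAbs h1
    rw [Int.natAbs_mul, h3, one_mul, Int.natAbs_pow, show ((q : ℤ) + 1).natAbs = q + 1 by omega,
      show ((2 : ℤ).natAbs) = 2 from rfl, ← h] at h4
    have h5 : q ^ 1 = q ^ j := by rw [pow_one]; omega
    exact (Nat.pow_right_injective hq1 h5).symm

end Cfsg.Agent.GrossTwo
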