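import Cfsg.Agent.Lib.GrossTwoTop

/-!
# Gross's theorem for two-power automorphisms: the nilpotent series
-/

set_option autoImplicit false

namespace Cfsg.Agent.GrossTwo

open Subgroup Cfsg.Agent.HallHigman
open scoped commutatorElement

universe u

/-- On a minimal normal subgroup a term of the lower central series of the commutator with the
involution acts trivially, the first one if the exponent is at most two. -/
theorem exists_lcs_le_centralizer {e : ℕ} {Γ : Type u} [Group Γ] [Finite Γ] {s : Γ} (he : 1 ≤ e)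
    {G N : Subgroup Γ} [G.Normal] [Group.IsSolvable G]
    (hN : Cfsg.Agent.HallSolvable.IsMinNormal N) (hNG : N ≤ G) (hs : s ^ 2 ^ e = 1)
    (hfpf : ∀ g ∈ G, s * g = g * s → g = 1) :
    (∃ k, (⁅G, zpowers (s ^ 2 ^ (e - 1))⁆).lowerCentralSeries k ≤ centralizer (N : Set Γ)) ∧
      (e ≤ 2 → ⁅G, zpowers (s ^ 2 ^ (e - 1))⁆ ≤ centralizer (N : Set Γ)) := by
  have := hN.normal
  have : Group.IsSolvable N := Cfsg.Agent.CoprimeAction.isSolvable_of_le hNG
  obtain ⟨l, hl, hel, hlN⟩ := hN.exists_prime
  have := Fact.mk hl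
  have hcomm := hN.commutative_of_solvable
  let _ : CommGroup N :=
    { (inferInstance : Group N) with mul_comm := hcomm.is_comm.comm }
  have hV : ∀ v : N, v ^ l = 1 := fun v => Subtype.ext (by simpa using hel.2 v v.2)
  let φ : Γ →* MulAut N := MulAut.conjNormal
  let π := QuotientGroup.mk' φ.ker
  let ψ : Γ ⧸ φ.ker →* MulAut N := QuotientGroup.kerLift φ
  have hψ : Function.Injective ψ := QuotientGroup.kerLift_injective φ
  set Gb := G.map π with hGb
  have hGbn : Gb.Normal :=
    Subgroup.Normal.map inferInstance π (QuotientGroup.mk'_surjective _)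
  have : Group.IsSolvable Gb := Group.isSolvable_of_surjective (π.subgroupMap_surjective G)
  have hcop := coprime_of_fpf Nat.prime_two hs hfpf
  have hfpfb : ∀ g ∈ Gb, π s * g = g * π s → g = 1 :=
    fpf_map π (normalizer_eq_top G ▸ mem_top s) hcop hfpf
  have hsb : π s ^ 2 ^ e = 1 := by rw [← map_pow, hs, map_one]
  have hfV : ∀ v : N, ψ (π s) v = v → v = 1 := by
    intro v hv
    have hv' : (MulAut.conjNormal s v : N) = v := hv
    refine Subtype.ext (hfpf _ (hNG v.2) ?_)
    have h1 := congrArg Subtype.val hv'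
    rw [MulAut.conjNormal_apply] at h1
    exact mul_inv_eq_iff_eq_mul.mp h1
  have hcardN : l ∣ Nat.card N := by
    obtain ⟨k, hk⟩ := IsPGroup.iff_card.mp hlN
    rw [hk]
    refine dvd_pow_self l ?_
    rintro rfl
    rw [pow_zero, card_eq_one] at hk
    exact hN.ne_bot hk
  have hl2 : l ≠ 2 := by
    rintro rfl
    obtain ⟨v, hv⟩ := exists_prime_orderOf_dvd_card' (G := N) 2 hcardN
    have hd := hcardN.trans (card_dvd_of_le hNG)
    obtain ⟨i, -, hi⟩ := (Nat.dvd_prime_pow Nat.prime_two).mp (orderOf_dvd_of_pow_eq_one hs)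
    rcases Nat.eq_zero_or_pos i with hi0 | hi0
    · have hs1 : s = 1 := orderOf_eq_one_iff.mp (by rw [hi, hi0, pow_zero])
      have h1 := hfpf v (hNG v.2) (by rw [hs1, one_mul, mul_one])
      rw [show v = 1 from Subtype.ext h1, orderOf_one] at hv
      omega
    · have := Nat.dvd_gcd (hi ▸ dvd_pow_self 2 hi0.ne' : 2 ∣ orderOf s) hd
      rw [hcop.gcd_eq_one] at this
      omega
  obtain ⟨d, ρ, hρ, hρN⟩ := exists_rep hV ψ
  have hρi : Function.Injective ρ := by
    rw [injective_iff_map_eq_one]
    exact fun g hg => hψ (((hρ g).mp hg).trans (map_one ψ).symm)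
  have hsum : ∑ k ∈ Finset.range (2 ^ e), ρ (π s) ^ k = 0 :=
    (hρN (π s) _).mpr (norm_trivial_of_fpf ψ hsb hfV)
  have hOl : Cfsg.pCore l Gb = ⊥ := by
    set O := (Cfsg.pCore l Gb).map Gb.subtype with hO
    have : (Cfsg.pCore l Gb).Characteristic := Cfsg.Agent.HallCore.pCore_characteristic l Gb
    have hOn : O.Normal := inferInstance
    have hOp : IsPGroup l O := (Cfsg.Agent.HallCore.isPGroup_pCore l Gb).map Gb.subtype
    let _ : MulAction O N := MulAction.compHom N (ψ.comp O.subtype)
    obtain ⟨b, hb, hb1⟩ := hOp.exists_fixed_point_of_prime_dvd_card_of_fixed_point N hcardN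
      (a := 1) (fun u => map_one (ψ (u : Γ ⧸ φ.ker)))
    let F : Subgroup Γ :=
      { carrier := {x | ∃ hx : x ∈ N, ∀ u ∈ O, ψ u ⟨x, hx⟩ = ⟨x, hx⟩}
        one_mem' := ⟨N.one_mem, fun u _ => map_one (ψ u)⟩
        mul_mem' := by
          rintro a c ⟨ha, ha'⟩ ⟨hc, hc'⟩
          refine ⟨N.mul_mem ha hc, fun u hu => ?_⟩
          rw [show (⟨a * c, N.mul_mem ha hc⟩ : N) = ⟨a, ha⟩ * ⟨c, hc⟩ from rfl, map_mul,
            ha' u hu, hc' u hu]
        inv_mem' := by
          rintro a ⟨ha, ha'⟩
          refine ⟨N.inv_mem ha, fun u hu => ?_⟩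
          rw [show (⟨a⁻¹, N.inv_mem ha⟩ : N) = (⟨a, ha⟩ : N)⁻¹ from rfl, map_inv, ha' u hu] }
    have hFn : F.Normal := ⟨fun x hx g => by
      obtain ⟨hx', hx''⟩ := hx
      refine ⟨Subgroup.Normal.conj_mem inferInstance x hx' g, fun u hu => ?_⟩
      have h1 : (⟨g * x * g⁻¹, Subgroup.Normal.conj_mem inferInstance x hx' g⟩ : N) =
          ψ (π g) ⟨x, hx'⟩ := Subtype.ext (MulAut.conjNormal_apply g ⟨x, hx'⟩).symm
      rw [h1, ← MulAut.mul_apply, ← map_mul,
        show u * π g = π g * ((π g)⁻¹ * u * π g) by group, map_mul, MulAut.mul_apply,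
        hx'' _ (by simpa using hOn.conj_mem u hu (π g)⁻¹)]⟩
    have hFle : F ≤ N := fun x hx => hx.1
    have hFne : F ≠ ⊥ := by
      intro h0
      have : (b : Γ) ∈ F := ⟨b.2, fun u hu => hb ⟨u, hu⟩⟩
      rw [h0, mem_bot] at this
      exact hb1 (Subtype.ext this.symm)
    have hFN := hN.eq_of_le hFle hFne
    refine (eq_bot_iff_forall _).mpr fun u hu => Subtype.ext (hψ ?_)
    rw [Subgroup.coe_one, map_one]
    refine MulEquiv.ext fun v => ?_
    obtain ⟨_, hv⟩ := (show (v : Γ) ∈ F from hFN.symm ▸ v.2)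
    exact hv _ ⟨u, hu, rfl⟩
  obtain ⟨h1, h2⟩ := faithful_step hl hl2 ρ hρi Gb he hsb hsum hfpfb hOl
  have hmap : (⁅G, zpowers (s ^ 2 ^ (e - 1))⁆).map π =
      ⁅Gb, zpowers (π s ^ 2 ^ (e - 1))⁆ := by
    rw [map_commutator, MonoidHom.map_zpowers, map_pow]
  have hker : ∀ L : Subgroup Γ, L.map π = ⊥ → L ≤ centralizer (N : Set Γ) := by
    intro L hL x hx
    have hxk : x ∈ φ.ker := by
      have : π x ∈ L.map π := mem_map_of_mem π hx
      rw [hL, mem_bot] at this
      exact (QuotientGroup.eq_one_iff x).mp this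
    rw [mem_centralizer_iff]
    intro v hv
    have h5 := congrArg Subtype.val (DFunLike.congr_fun (MonoidHom.mem_ker.mp hxk) ⟨v, hv⟩)
    rw [MulAut.conjNormal_apply] at h5
    exact (mul_inv_eq_iff_eq_mul.mp h5).symm
  refine ⟨?_, fun he2 => hker _ (by rw [hmap]; exact h2 he2)⟩
  have hnil : Group.IsNilpotent (⁅Gb, zpowers (π s ^ 2 ^ (e - 1))⁆ : Subgroup _) :=
    Cfsg.Agent.ComponentsCores.nilpotent_of_le h1
      ((Cfsg.Agent.ComponentsCores.isNilpotent_map_subtype_iff _).mpr inferInstance)
  obtain ⟨k, hk⟩ := (Subgroup.isNilpotent_iff_lowerCentralSeries _).mp hnil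
  exact ⟨k, hker _ (by rw [map_lowerCentralSeries, hmap, hk])⟩

theorem isNilpotent_of_map {Γ : Type*} [Group Γ] (M N : Subgroup Γ) [N.Normal]
    (hc : M ≤ centralizer (N : Set Γ))
    (h : Group.IsNilpotent (M.map (QuotientGroup.mk' N))) : Group.IsNilpotent M := by
  refine Subgroup.isNilpotent_of_ker_le_center ((QuotientGroup.mk' N).subgroupMap M) ?_
  intro x hx
  have hxN : (x : Γ) ∈ N := (QuotientGroup.eq_one_iff _).mp (congrArg Subtype.val hx)
  rw [mem_center_iff]
  intro y
  exact Subtype.ext (mem_centralizer_iff.mp (hc y.2) _ hxN).symm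

theorem height_aux {e : ℕ} (he : 1 ≤ e) (m : ℕ) :
    ∀ (Γ : Type u) [Group Γ] [Finite Γ] (G : Subgroup Γ) [G.Normal] [Group.IsSolvable G] (s : Γ),
      Nat.card G ≤ m → s ^ 2 ^ e = 1 → (∀ g ∈ G, s * g = g * s → g = 1) →
      (∃ k, Group.IsNilpotent ((⁅G, zpowers (s ^ 2 ^ (e - 1))⁆).lowerCentralSeries k)) ∧
        (e ≤ 2 → Group.IsNilpotent (⁅G, zpowers (s ^ 2 ^ (e - 1))⁆ : Subgroup Γ)) := by
  induction m with
  | zero =>
    intro Γ _ _ G _ _ s hm
    exact absurd hm (by have := Nat.card_pos (α := G); omega)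
  | succ m ih =>
    intro Γ _ _ G _ _ s hm hs hfpf
    by_cases hG : G = ⊥
    · subst hG
      rw [commutator_bot_left]
      refine ⟨⟨0, ?_⟩, fun _ => inferInstance⟩
      rw [Subgroup.lowerCentralSeries_zero]
      infer_instance
    obtain ⟨N, hN, hNG⟩ := Cfsg.Agent.HallSolvable.exists_minNormal_le hG
    have := hN.normal
    obtain ⟨⟨k₂, hk₂⟩, hc2⟩ := exists_lcs_le_centralizer he hN hNG hs hfpf
    let π := QuotientGroup.mk' N
    have : (G.map π).Normal :=
      Subgroup.Normal.map inferInstance π (QuotientGroup.mk'_surjective _)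
    have : Group.IsSolvable (G.map π) :=
      Group.isSolvable_of_surjective (π.subgroupMap_surjective G)
    have hlt : Nat.card (G.map π) < Nat.card G := by
      have h1 := Cfsg.Agent.HallCore.card_map_mk'_mul N G hNG
      have h2 : 1 < Nat.card N := N.one_lt_card_iff_ne_bot.mpr hN.ne_bot
      have h3 : 0 < Nat.card (G.map π) := Nat.card_pos
      rw [← h1]
      nlinarith
    obtain ⟨⟨k₁, hk₁⟩, h2⟩ := ih (Γ ⧸ N) (G.map π) (π s) (by omega)
      (by rw [← map_pow, hs, map_one])
      (fpf_map π (normalizer_eq_top G ▸ mem_top s) (coprime_of_fpf Nat.prime_two hs hfpf) hfpf)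
    rw [← map_pow, ← MonoidHom.map_zpowers, ← map_commutator] at hk₁ h2
    set L := ⁅G, zpowers (s ^ 2 ^ (e - 1))⁆
    refine ⟨⟨max k₁ k₂, isNilpotent_of_map _ N
      ((L.lowerCentralSeries_antitone (le_max_right k₁ k₂)).trans hk₂) ?_⟩,
      fun he2 => isNilpotent_of_map _ N (hc2 he2) (h2 he2)⟩
    rw [map_lowerCentralSeries]
    exact Cfsg.Agent.ComponentsCores.nilpotent_of_le
      ((L.map π).lowerCentralSeries_antitone (le_max_left k₁ k₂)) hk₁

/-- A series of length `m` with nilpotent factors. -/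
def HasChain (G : Type u) [Group G] (m : ℕ) : Prop :=
  ∃ F : Fin (m + 1) → Subgroup G, F 0 = ⊥ ∧ F (Fin.last m) = ⊤ ∧
    Monotone F ∧ (∀ i, (F i).Normal) ∧
    ∀ i : Fin m, ∃ k : ℕ, (F i.succ).lowerCentralSeries k ≤ F i.castSucc

theorem hasChain_succ {G H : Type u} [Group G] [Group H] (f : G →* H)
    (hf : Function.Surjective f) [Group.IsNilpotent f.ker] {m : ℕ} (h : HasChain H m) :
    HasChain G (m + 1) := by
  obtain ⟨F, hF0, hF1, hFm, hFn, hFk⟩ := h
  refine ⟨Fin.cons ⊥ fun i => (F i).comap f, rfl, ?_, ?_, ?_, ?_⟩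
  · rw [← Fin.succ_last, Fin.cons_succ, hF1, comap_top]
  · refine Fin.monotone_iff_le_succ.mpr fun i => ?_
    rw [Fin.cons_succ]
    induction i using Fin.cases with
    | zero => exact bot_le
    | succ j =>
      rw [← Fin.succ_castSucc, Fin.cons_succ]
      exact comap_mono (hFm (Fin.castSucc_le_succ j))
  · intro i
    induction i using Fin.cases with
    | zero => rw [Fin.cons_zero]; infer_instance
    | succ j => rw [Fin.cons_succ]; exact (hFn j).comap _
  · intro i
    rw [Fin.cons_succ]
    induction i using Fin.cases with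
    | zero =>
      obtain ⟨k, hk⟩ := (Subgroup.isNilpotent_iff_lowerCentralSeries f.ker).mp ‹_›
      refine ⟨k, ?_⟩
      rw [Fin.castSucc_zero, Fin.cons_zero, hF0, MonoidHom.comap_bot, hk]
    | succ j =>
      obtain ⟨k, hk⟩ := hFk j
      refine ⟨k, ?_⟩
      rw [← Fin.succ_castSucc, Fin.cons_succ, ← map_le_iff_le_comap,
        map_lowerCentralSeries, map_comap_eq_self_of_surjective hf]
      exact hk

/-- The length of the series. -/
def len (n : ℕ) : ℕ := if n ≤ 1 then n else 2 * n - 2

/-- **Gross:** the series for a fixed point free automorphism of order dividing `2 ^ n`. -/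
theorem exists_chain (n : ℕ) :
    ∀ (G : Type u) [Group G] [Finite G] [Group.IsSolvable G] (σ : MulAut G), σ ^ 2 ^ n = 1 →
      (∀ g, σ g = g → g = 1) → HasChain G (len n) := by
  induction n with
  | zero =>
    intro G _ _ _ σ hσ hfpf
    rw [pow_zero, pow_one] at hσ
    refine ⟨fun _ => ⊥, rfl, ?_, monotone_const, fun _ => inferInstance, fun i => i.elim0⟩
    exact eq_top_iff.mpr fun g _ => by
      rw [mem_bot]; exact hfpf g (by rw [hσ]; rfl)
  | succ n ih =>
    intro G _ _ _ σ hσ hfpf
    let Δ := G ⋊[(zpowers σ).subtype] zpowers σ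
    have : Finite Δ := Finite.of_equiv _ SemidirectProduct.equivProd.symm
    let ι : G →* Δ := SemidirectProduct.inl
    let s : Δ := SemidirectProduct.inr ⟨σ, mem_zpowers σ⟩
    have : ι.range.Normal := by
      rw [SemidirectProduct.range_inl_eq_ker_rightHom]
      infer_instance
    have : Group.IsSolvable ι.range := Group.isSolvable_of_surjective ι.rangeRestrict_surjective
    have hspow : ∀ k : ℕ, s ^ k = SemidirectProduct.inr
        (⟨σ ^ k, pow_mem (mem_zpowers σ) k⟩ : zpowers σ) :=
      fun k => (map_pow (SemidirectProduct.inr : zpowers σ →* Δ) _ k).symm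
    have hsk : ∀ (k : ℕ) (g : G), s ^ k * ι g * (s ^ k)⁻¹ = ι ((σ ^ k) g) := by
      intro k g
      rw [hspow, ← map_inv]
      exact (SemidirectProduct.inl_aut (φ := (zpowers σ).subtype)
        ⟨σ ^ k, pow_mem (mem_zpowers σ) k⟩ g).symm
    have hs : s ^ 2 ^ (n + 1) = 1 := by
      rw [hspow, show (⟨σ ^ 2 ^ (n + 1), pow_mem (mem_zpowers σ) _⟩ : zpowers σ) = 1 from
        Subtype.ext hσ, map_one]
    have hfix : ∀ x ∈ ι.range, s * x = x * s → x = 1 := by
      rintro _ ⟨g, rfl⟩ h
      have h1 := hsk 1 g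
      rw [pow_one, pow_one, h, mul_inv_cancel_right] at h1
      rw [hfpf g (SemidirectProduct.inl_injective h1).symm, map_one]
    set s0 := s ^ 2 ^ n with hs0
    set L' := ⁅ι.range, zpowers s0⁆ with hL'
    obtain ⟨⟨k, hk⟩, hsm⟩ :=
      height_aux (e := n + 1) (by omega) _ Δ ι.range s le_rfl hs hfix
    set L := L'.comap ι with hL
    have hmapL : L.map ι = L' := map_comap_eq_self (commutator_le_left _ _)
    have hLn : L.Normal := ⟨fun x hx g => by
      rw [hL, mem_comap, map_mul, map_mul, map_inv]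
      exact Cfsg.Agent.CoprimeAction.conj_mem
        (normalizer_commutator_ge_left _ _ (MonoidHom.mem_range.mpr ⟨g, rfl⟩)) hx⟩
    have hsL : s ∈ normalizer (L' : Set Δ) := by
      refine Cfsg.Agent.CoprimeAction.mem_normalizer_of_conj_smul_eq ?_
      show L'.map (MulAut.conj s).toMonoidHom = L'
      rw [hL', map_commutator, MonoidHom.map_zpowers,
        show (MulAut.conj s).toMonoidHom s0 = s0 by
          simp only [MulEquiv.coe_toMonoidHom, MulAut.conj_apply, hs0]
          rw [← pow_succ', pow_succ, mul_inv_cancel_right]]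
      congr 1
      exact Subgroup.normal_iff_map_conj_eq.mp inferInstance s
    have hσL : L.map σ.toMonoidHom = L := by
      refine Subgroup.eq_of_le_of_card_ge ?_ (le_of_eq
        (Subgroup.card_map_of_injective (f := σ.toMonoidHom) σ.injective).symm)
      rintro _ ⟨x, hx, rfl⟩
      show ι (σ x) ∈ L'
      have := hsk 1 x
      rw [pow_one, pow_one] at this
      rw [← this]
      exact Cfsg.Agent.CoprimeAction.conj_mem hsL hx
    let τ : MulAut (G ⧸ L) := QuotientGroup.congr L L σ hσL
    have hτk : ∀ (k : ℕ) (g : G), (τ ^ k) (g : G ⧸ L) = (((σ ^ k) g : G) : G ⧸ L) := by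
      intro k
      induction k with
      | zero => intro g; rfl
      | succ k ihk =>
        intro g
        rw [pow_succ, pow_succ, MulAut.mul_apply, MulAut.mul_apply]
        exact ihk (σ g)
    have hτ : τ ^ 2 ^ n = 1 := by
      refine MulEquiv.ext fun x => ?_
      obtain ⟨g, rfl⟩ := QuotientGroup.mk_surjective x
      rw [hτk, MulAut.one_apply, eq_comm, QuotientGroup.eq]
      show ι (g⁻¹ * (σ ^ 2 ^ n) g) ∈ L'
      rw [map_mul, map_inv, ← hsk]
      have := commutator_mem_commutator (H₁ := ι.range) (H₂ := zpowers s0)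
        (MonoidHom.mem_range.mpr ⟨g⁻¹, rfl⟩) (mem_zpowers s0)
      rw [commutatorElement_def, map_inv, inv_inv] at this
      simpa [mul_assoc] using this
    have hτfix : ∀ x, τ x = x → x = 1 := by
      intro x hx
      obtain ⟨g, rfl⟩ := QuotientGroup.mk_surjective x
      have h1 : g⁻¹ * σ g ∈ L := QuotientGroup.eq.mp hx.symm
      obtain ⟨c, hsc, hc⟩ := Cfsg.Agent.CoprimeAction.exists_fixed_mem_coset_zpowers hsL
        ((coprime_of_fpf Nat.prime_two hs hfix).coprime_dvd_right
          (card_dvd_of_le (commutator_le_left _ _))) (ι g) (by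
          have := hsk 1 g
          rw [pow_one, pow_one] at this
          have h2 : ι (g⁻¹ * σ g) ∈ L' := h1
          rw [map_mul, map_inv, ← this] at h2
          simpa [mul_assoc] using h2)
      have hcG : c ∈ ι.range := by
        have := ι.range.mul_mem ⟨g, rfl⟩ (commutator_le_left _ _ hc)
        rwa [mul_inv_cancel_left] at this
      rw [hfix c hcG hsc, mul_one, ← map_inv] at hc
      exact (QuotientGroup.eq_one_iff g).mpr (by simpa using L.inv_mem hc)
    have hchain := ih (G ⧸ L) τ hτ hτfix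
    have hinj : Function.Injective ι := SemidirectProduct.inl_injective
    rcases Nat.lt_or_ge n 2 with hn2 | hn2
    · have hnil : Group.IsNilpotent (L.map ι) := hmapL ▸ hsm (by omega)
      have : Group.IsNilpotent (QuotientGroup.mk' L).ker := by
        rw [QuotientGroup.ker_mk']
        exact Group.nilpotent_of_mulEquiv (L.equivMapOfInjective ι hinj).symm
      have h1 := hasChain_succ (QuotientGroup.mk' L) (QuotientGroup.mk'_surjective L) hchain
      have hlen : len (n + 1) = len n + 1 := by
        unfold len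
        rcases Nat.lt_or_ge n 1 with h | h
        · obtain rfl : n = 0 := by omega
          simp
        · obtain rfl : n = 1 := by omega
          simp
      rwa [hlen]
    · -- two new terms
      set M := L.lowerCentralSeries k with hM
      have hMn : M.Normal := inferInstance
      have hML : M ≤ L := L.lowerCentralSeries_le_self k
      have hnilM : Group.IsNilpotent M := by
        have h1 : M.map ι = L'.lowerCentralSeries k := by rw [hM, map_lowerCentralSeries, hmapL]
        have : Group.IsNilpotent (M.map ι) := h1 ▸ hk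
        exact Group.nilpotent_of_mulEquiv (M.equivMapOfInjective ι hinj).symm
      let f : G ⧸ M →* G ⧸ L := QuotientGroup.map M L (MonoidHom.id G) (by simpa using hML)
      have hf : Function.Surjective f := fun x => by
        obtain ⟨g, rfl⟩ := QuotientGroup.mk_surjective x
        exact ⟨(g : G ⧸ M), rfl⟩
      have hker : f.ker = L.map (QuotientGroup.mk' M) := by
        ext x
        obtain ⟨g, rfl⟩ := QuotientGroup.mk_surjective x
        constructor
        · intro hg
          exact ⟨g, (QuotientGroup.eq_one_iff g).mp hg, rfl⟩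
        · rintro ⟨g', hg', heq⟩
          rw [← heq]
          exact (QuotientGroup.eq_one_iff g').mpr hg'
      have : Group.IsNilpotent f.ker := by
        rw [Subgroup.isNilpotent_iff_lowerCentralSeries]
        refine ⟨k, ?_⟩
        rw [hker, ← map_lowerCentralSeries, ← hM, QuotientGroup.map_mk'_self]
      have h1 := hasChain_succ f hf hchain
      have : Group.IsNilpotent (QuotientGroup.mk' M).ker := by
        rw [QuotientGroup.ker_mk']
        exact hnilM
      have h2 := hasChain_succ (QuotientGroup.mk' M) (QuotientGroup.mk'_surjective M) h1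
      have hlen : len (n + 1) = len n + 1 + 1 := by
        unfold len
        rw [if_neg (by omega), if_neg (by omega)]
        omega
      rwa [hlen]

end Cfsg.Agent.GrossTwo
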