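import Mathlib
import Cfsg.Prelude
import Cfsg.Agent.Lib.GrossTopPower
import Cfsg.Agent.Lib.HallPLength

/-!
# Gross's bound on the 2-length of a solvable group
-/

set_option autoImplicit false

namespace Cfsg.Agent.GrossTwoLength

open Cfsg.Agent.HallCore Cfsg.Agent.HallSolvable Cfsg.Agent.HallPLength

/-- A 2-element of a quotient lifts to a 2-element. -/
theorem lift_two_element {G K : Type*} [Group G] [Finite G] [Group K] [Finite K] {f : G →* K}
    (hf : Function.Surjective f) {g : K} {k : ℕ} (hg : g ^ 2 ^ k = 1) :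
    ∃ (P : Sylow 2 G), ∃ x ∈ (P : Subgroup G), f x = g := by
  have : Fact (Nat.Prime 2) := ⟨Nat.prime_two⟩
  obtain ⟨e, -, he⟩ := (Nat.dvd_prime_pow Nat.prime_two).mp (orderOf_dvd_of_pow_eq_one hg)
  obtain ⟨S, hS⟩ := (IsPGroup.of_card (n := e) (by rw [Nat.card_zpowers, he]) :
    IsPGroup 2 (Subgroup.zpowers g)).exists_le_sylow
  obtain ⟨P, rfl⟩ := Sylow.mapSurjective_surjective hf 2 S
  obtain ⟨x, hx, hxg⟩ := hS (Subgroup.mem_zpowers g)
  exact ⟨P, x, hx, hxg⟩

universe u

/-- Sylow 2-subgroups of exponent dividing `2 ^ (d + 1)` bound the 2-length by `2 d + 1`. -/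
theorem pLengthLE_two (d : ℕ) : ∀ (G : Type u) [Group G] [Finite G], Group.IsSolvable G →
    (∀ (P : Sylow 2 G), ∀ x ∈ (P : Subgroup G), x ^ 2 ^ (d + 1) = 1) →
    Cfsg.PLengthLE 2 (2 * d + 1) G := by
  have : Fact (Nat.Prime 2) := ⟨Nat.prime_two⟩
  induction d with
  | zero =>
    intro G _ _ hsol hexp
    let S : Sylow 2 G := default
    have hcomm : ∀ a b : ↥(S : Subgroup G), a * b = b * a := fun a b => by
      have hinv : ∀ c : ↥(S : Subgroup G), c⁻¹ = c := fun c => inv_eq_of_mul_eq_one_right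
        (Subtype.ext (by simpa [sq] using hexp S c c.2))
      rw [← hinv (a * b), mul_inv_rev, hinv, hinv]
    refine pLengthLE_of_class_le 1 (isPSolvable_of_solvable 2) S ?_
    let _ : CommGroup ↥(S : Subgroup G) :=
      { (inferInstance : Group ↥(S : Subgroup G)) with mul_comm := hcomm }
    exact CommGroup.nilpotencyClass_le_one
  | succ d ih =>
    intro G _ _ hsol hexp
    have hp : Cfsg.IsPSolvable 2 G := isPSolvable_of_solvable 2
    have hlift : ∀ {K : Type u} [Group K] [Finite K] {f : G →* K}, Function.Surjective f →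
        ∀ (g : K) (k : ℕ), g ^ 2 ^ k = 1 → g ^ 2 ^ (d + 1 + 1) = 1 := by
      intro K _ _ f hf g k hg
      obtain ⟨P, x, hx, rfl⟩ := lift_two_element hf hg
      rw [← map_pow, hexp P x hx, map_one]
    -- the action of `H = (G ⧸ T1) ⧸ O` on the Frattini quotient of `O`
    have hT1n : (term 2 G (2 * 0 + 1)).Normal := term_two_normal _ _ _
    set T1 := term 2 G (2 * 0 + 1)
    have hT2n : (term 2 G 2).Normal := term_two_normal _ _ _
    set T2 := term 2 G 2
    set O := Cfsg.pCore 2 (G ⧸ T1)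
    have hT2 : T2 = O.comap (QuotientGroup.mk' T1) :=
      Cfsg.Agent.HallConstrained.upperPSeries_even 0
    have hOp : IsPGroup 2 O := isPGroup_pCore 2 _
    let _ : CommGroup (↥O ⧸ frattini ↥O) :=
      { (inferInstance : Group (↥O ⧸ frattini ↥O)) with
        mul_comm := Cfsg.Agent.HallHigman.frattini_quotient_comm O hOp }
    obtain ⟨φ, hφ, hφc⟩ := Cfsg.Agent.HallHigman.exists_frattini_action
      (isPSolvable_quotient hp T1) (Cfsg.Agent.HallConstrained.pPrimeCore_quotient_upperPSeries 0)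
    let f : G →* (G ⧸ T1) ⧸ O := (QuotientGroup.mk' O).comp (QuotientGroup.mk' T1)
    have hf : Function.Surjective f :=
      (QuotientGroup.mk'_surjective _).comp (QuotientGroup.mk'_surjective _)
    have hsolH : Group.IsSolvable ((G ⧸ T1) ⧸ O) := Group.isSolvable_of_surjective hf
    have hO : Cfsg.pCore 2 ((G ⧸ T1) ⧸ O) = ⊥ := pCore_quotient_self 2 _
    -- every 2-element has vanishing norm
    have hnorm : ∀ (g : (G ⧸ T1) ⧸ O) (k : ℕ), g ^ 2 ^ k = 1 → ∀ v : ↥O ⧸ frattini ↥O,
        ∏ j ∈ Finset.range (2 ^ (d + 1 + 1)), φ (g ^ j) v = 1 := by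
      intro g k hg v
      obtain ⟨P, x, hx, rfl⟩ := lift_two_element hf hg
      obtain ⟨o, rfl⟩ := QuotientGroup.mk_surjective v
      obtain ⟨om, h1, h2⟩ := Cfsg.Agent.HallHigman.exists_coe_mul_pow (V := ↥O ⧸ frattini ↥O) O
        (QuotientGroup.mk' (frattini ↥O)) (QuotientGroup.mk' O) φ hφc (QuotientGroup.mk' T1 x) o
        (2 ^ (d + 1 + 1))
      have hox : ((o : G ⧸ T1) * QuotientGroup.mk' T1 x) ^ 2 ^ (d + 1 + 1) = 1 := by
        have hmem : (o : G ⧸ T1) * QuotientGroup.mk' T1 x ∈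
            (P.mapSurjective (QuotientGroup.mk'_surjective T1) : Subgroup (G ⧸ T1)) :=
          mul_mem (pCore_le_sylow _ o.2) ⟨x, hx, rfl⟩
        obtain ⟨y, hy, hyeq⟩ := hmem
        rw [← hyeq, ← map_pow, hexp P y hy, map_one]
      rw [hox, ← map_pow, hexp P x hx, map_one, mul_one] at h1
      rw [show om = 1 from Subtype.ext h1.symm, map_one] at h2
      refine Eq.trans (Finset.prod_congr rfl fun j _ => ?_) h2.symm
      rfl
    -- descend twice
    rw [show 2 * (d + 1) + 1 = (2 * d + 1 + 1) + 1 by ring, pLengthLE_succ_iff]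
    let g0 : (G ⧸ T1) ⧸ O →* G ⧸ T2 := QuotientGroup.lift O
      (QuotientGroup.lift T1 (QuotientGroup.mk' T2) fun a ha => by
        rw [QuotientGroup.ker_mk']
        exact Cfsg.Agent.HallConstrained.upperPSeries_le_succ (2 * 0 + 1) ha)
      (fun b hb => by
        obtain ⟨a, rfl⟩ := QuotientGroup.mk'_surjective T1 b
        exact (QuotientGroup.eq_one_iff a).mpr (by rw [hT2]; exact hb))
    have hg0 : Function.Surjective g0 := fun b => by
      obtain ⟨a, rfl⟩ := QuotientGroup.mk'_surjective T2 b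
      exact ⟨f a, rfl⟩
    refine pLengthLE_of_surjective hg0 ?_
    rw [pLengthLE_succ_iff]
    set H := (G ⧸ T1) ⧸ O
    have hTHn : (term 2 H 2).Normal := term_two_normal _ _ _
    refine ih (H ⧸ term 2 H 2) (Group.isSolvable_of_surjective (QuotientGroup.mk'_surjective _))
      fun P z hz => ?_
    obtain ⟨j, hj⟩ := P.isPGroup' ⟨z, hz⟩
    obtain ⟨P0, x, hx, rfl⟩ := lift_two_element (QuotientGroup.mk'_surjective (term 2 H 2))
      (g := z) (k := j) (congrArg Subtype.val hj)
    rw [← map_pow]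
    refine (QuotientGroup.eq_one_iff _).mpr ?_
    obtain ⟨i, hi⟩ := P0.isPGroup' ⟨x, hx⟩
    exact Cfsg.Agent.GrossTopPower.top_power_mem hsolH hO
      (Cfsg.Agent.PGroupsBasic.quotient_frattini_elementary hOp).2 φ hφ (n := d + 1 + 1) (by omega)
      (hlift hf) hnorm (kx := i) (congrArg Subtype.val hi)

end Cfsg.Agent.GrossTwoLength
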