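import Cfsg.Agent.Lib.GrossTwoAlgebra
import Cfsg.Agent.Lib.HallHigmanFPF

/-!
# Gross's theorem for two-power automorphisms: the second level

A group `R` of prime power order `r ^ k` normalised by `y`, generated by its commutators with the
involution of `y`, acts trivially on a symplectic module in which that involution inverts exactly a
plane, when the order of `y` is `q + 1`.
-/

set_option autoImplicit false

namespace Cfsg.Agent.GrossTwo

open Subgroup Module Cfsg.Agent.HallHigman
open scoped commutatorElement Polynomial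

universe u

/-- Two eigenvectors in a plane with opposite weights and an element permuting their lines. -/
theorem square_eigen {F : Type*} [Field F] {V : Type*} [AddCommGroup V] [Module F V] [Finite F]
    [Finite V] (E : Submodule F V) (hE : finrank F E = 2) (g Y : Module.End F V)
    (hg : ∀ v ∈ E, g v ∈ E) (hY : ∀ v ∈ E, Y v ∈ E) (hYinj : Function.Injective Y)
    {v₁ v₂ : V} {c₁ c₂ : F} (h1E : v₁ ∈ E) (h2E : v₂ ∈ E) (h10 : v₁ ≠ 0) (h20 : v₂ ≠ 0)
    (hc : c₁ ≠ c₂) (hg1 : g v₁ = c₁ • v₁) (hg2 : g v₂ = c₂ • v₂)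
    (hperm : ∀ v ∈ E, ∀ c : F, g v = c • v → ∃ d : F, g (Y v) = d • Y v) :
    ∃ d : F, Y (Y v₁) = d • v₁ := by
  classical
  let b : Fin 2 → E := ![⟨v₁, h1E⟩, ⟨v₂, h2E⟩]
  have hb : LinearIndependent F b := by
    rw [LinearIndependent.pair_iff]
    intro s t hst
    have h1 : s • v₁ + t • v₂ = 0 := congrArg Subtype.val hst
    have h2 := congrArg g h1
    rw [map_add, map_smul, map_smul, hg1, hg2, map_zero] at h2
    have h3 : (t * (c₂ - c₁)) • v₂ = 0 := by
      calc (t * (c₂ - c₁)) • v₂ = (s • c₁ • v₁ + t • c₂ • v₂) - c₁ • (s • v₁ + t • v₂) := by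
            simp only [smul_add, smul_smul, sub_smul, mul_sub, mul_comm c₁ s, mul_comm c₁ t]
            abel
        _ = 0 := by rw [h1, h2, smul_zero, sub_zero]
    have ht : t = 0 :=
      (mul_eq_zero.mp ((smul_eq_zero.mp h3).resolve_right h20)).resolve_right (sub_ne_zero.mpr hc.symm)
    rw [ht, zero_smul, add_zero] at h1
    exact ⟨(smul_eq_zero.mp h1).resolve_right h10, ht⟩
  have : FiniteDimensional F E := Module.Finite.of_finite
  let B := basisOfLinearIndependentOfCardEqFinrank hb (by rw [Fintype.card_fin, hE])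
  -- an eigenvector of `g` in the plane lies on one of the two lines
  have hline : ∀ v ∈ E, ∀ d : F, g v = d • v → (∃ a : F, v = a • v₁) ∨ ∃ a : F, v = a • v₂ := by
    intro v hv d hd
    have h1 : v = B.repr ⟨v, hv⟩ 0 • v₁ + B.repr ⟨v, hv⟩ 1 • v₂ := by
      have := congrArg Subtype.val (B.sum_repr ⟨v, hv⟩).symm
      rw [Fin.sum_univ_two] at this
      simpa [B, b] using this
    set a₁ := B.repr ⟨v, hv⟩ 0
    set a₂ := B.repr ⟨v, hv⟩ 1
    by_cases ha : a₁ = 0
    · exact Or.inr ⟨a₂, by rw [h1, ha, zero_smul, zero_add]⟩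
    by_cases ha2 : a₂ = 0
    · exact Or.inl ⟨a₁, by rw [h1, ha2, zero_smul, add_zero]⟩
    exfalso
    have h2 : (a₁ * (c₁ - d)) • v₁ + (a₂ * (c₂ - d)) • v₂ = 0 := by
      have h3 := hd
      rw [h1, map_add, map_smul, map_smul, hg1, hg2, ← sub_eq_zero] at h3
      calc _ = a₁ • c₁ • v₁ + a₂ • c₂ • v₂ - d • (a₁ • v₁ + a₂ • v₂) := by
            simp only [smul_add, smul_smul, sub_smul, mul_sub, mul_comm d a₁, mul_comm d a₂]
            abel
        _ = 0 := h3
    obtain ⟨h4, h5⟩ := LinearIndependent.pair_iff.mp hb _ _ (Subtype.ext h2)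
    exact hc ((sub_eq_zero.mp ((mul_eq_zero.mp h4).resolve_left ha)).trans
      (sub_eq_zero.mp ((mul_eq_zero.mp h5).resolve_left ha2)).symm)
  obtain ⟨d₁, hd₁⟩ := hperm v₁ h1E c₁ hg1
  rcases hline _ (hY _ h1E) d₁ hd₁ with ⟨a, ha⟩ | ⟨a, ha⟩
  · exact ⟨a * a, by rw [ha, map_smul, ha, smul_smul]⟩
  obtain ⟨d₂, hd₂⟩ := hperm v₂ h2E c₂ hg2
  rcases hline _ (hY _ h2E) d₂ hd₂ with ⟨a', ha'⟩ | ⟨a', ha'⟩
  · exact ⟨a * a', by rw [ha, map_smul, ha', smul_smul]⟩
  exfalso
  have h1 : a' • v₁ - a • v₂ = 0 := hYinj (by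
    rw [map_sub, map_smul, map_smul, map_zero, ha, ha', smul_smul, smul_smul, mul_comm, sub_self])
  rw [sub_eq_add_neg, ← neg_smul] at h1
  obtain ⟨-, h3⟩ := LinearIndependent.pair_iff.mp hb _ _ (Subtype.ext h1)
  rw [neg_eq_zero.mp h3, zero_smul, ← map_zero Y] at ha
  exact h10 (hYinj ha)

/-- The second level: `R` acts trivially. -/
theorem second_level {q : ℕ} [Fact q.Prime] (hq2 : q ≠ 2) {H : Type*} [Group H] [Finite H]
    {V : Type u} [AddCommGroup V] [Module (ZMod q) V] [Finite V]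
    (σ : Representation (ZMod q) H V) {y : H} {e : ℕ} (he : 2 ≤ e) (hye : y ^ 2 ^ e = 1)
    (heq : q + 1 = 2 ^ e) {R : Subgroup H} {r : ℕ} (hr : r.Prime) (hr2 : r ≠ 2) (hrq : r ≠ q)
    (hR : IsPGroup r R) (hyR : y ∈ normalizer (R : Set H))
    (hgen : ⁅R, Subgroup.zpowers (y ^ 2 ^ (e - 1))⁆ = R)
    (β : V → V → ZMod q) (hl : ∀ u u' v, β (u + u') v = β u v + β u' v)
    (hrl : ∀ u v v', β u (v + v') = β u v + β u v') (hss : ∀ u, β u u = 0)
    (hinv : ∀ g u v, β (σ g u) (σ g v) = β u v)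
    (hcard : Nat.card {w : V // σ (y ^ 2 ^ (e - 1)) w = -w} = q ^ 2)
    (hnd : ∀ w, σ (y ^ 2 ^ (e - 1)) w = -w →
      (∀ w', σ (y ^ 2 ^ (e - 1)) w' = -w' → β w w' = 0) → w = 0)
    (htwo : e = 2 → ∀ w, σ (y ^ 2 ^ (e - 1)) w = w → σ y w = w) :
    ∀ x ∈ R, σ x = 1 := by
  classical
  by_contra hne
  push Not at hne
  obtain ⟨x₀, hx₀, hx₁⟩ := hne
  -- read on the image group
  let π := QuotientGroup.mk' (MonoidHom.ker σ)
  let τ := imageRep σ
  have hτi : Function.Injective τ := imageRep_injective σ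
  have hτ : ∀ g, τ (π g) = σ g := imageRep_mk σ
  set Y := π y with hYdef
  set T := π (y ^ 2 ^ (e - 1)) with hTdef
  have hTY : T = Y ^ 2 ^ (e - 1) := map_pow π _ _
  set R' := R.map π with hR'
  have hR'p : IsPGroup r R' := hR.map π
  have hR'ne : R' ≠ ⊥ := by
    intro h0
    refine hx₁ ?_
    have : π x₀ ∈ R' := mem_map_of_mem π hx₀
    rw [h0, mem_bot] at this
    rw [← hτ, this, map_one]
  have hgen' : ⁅R', Subgroup.zpowers T⁆ = R' := by
    rw [hR', hTdef, ← MonoidHom.map_zpowers, ← map_commutator, hgen]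
  have hYR : Y ∈ normalizer (R' : Set _) := le_normalizer_map π ⟨y, hyR, rfl⟩
  have hYe : Y ^ 2 ^ e = 1 := by rw [hYdef, ← map_pow, hye, map_one]
  have hTT : T * T = 1 := by
    rw [hTY, ← pow_add, ← two_mul, ← pow_succ', Nat.sub_add_cancel (by omega), hYe]
  have hinv' : ∀ g u v, β (τ g u) (τ g v) = β u v := by
    intro g u v
    obtain ⟨g, rfl⟩ := QuotientGroup.mk'_surjective _ g
    rw [hτ]
    exact hinv g u v
  -- the centre
  have := Fact.mk hr
  have := Fact.mk Nat.prime_two
  have hA : ctr R' ≠ ⊥ := by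
    have : Nontrivial R' := (Subgroup.nontrivial_iff_ne_bot R').mpr hR'ne
    have h1 := hR'p.center_nontrivial
    obtain ⟨⟨c, hc⟩, hc1⟩ := exists_ne (1 : Subgroup.center R')
    intro h0
    have hmem : (c : H ⧸ MonoidHom.ker σ) ∈ ctr R' :=
      ⟨c.2, mem_centralizer_iff.mpr fun b hb => congrArg Subtype.val (mem_center_iff.mp hc ⟨b, hb⟩)⟩
    rw [h0, mem_bot] at hmem
    exact hc1 (Subtype.ext (Subtype.ext hmem))
  set A := ctr R'
  have hAc : ∀ a ∈ A, ∀ b ∈ A, a * b = b * a := fun a ha b hb =>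
    Subgroup.mem_centralizer_iff.mp hb.2 a ha.1
  have hYA : Y ∈ normalizer (A : Set _) :=
    Cfsg.Agent.CoprimeAction.le_normalizer_inf (Subgroup.zpowers_le.mpr hYR)
      (Subgroup.zpowers_le.mpr (mem_normalizer_centralizer hYR)) (Subgroup.mem_zpowers Y)
  have hrK : (r : ZMod q) ≠ 0 := by
    rw [Ne, ZMod.natCast_eq_zero_iff, Nat.prime_dvd_prime_iff_eq Fact.out hr]
    exact hrq.symm
  obtain ⟨kA, hkA⟩ := IsPGroup.iff_card.mp (hR'p.to_le (inf_le_left : A ≤ R'))
  have h2q : (2 : ZMod q) ≠ 0 := by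
    intro h0
    have h1 : ((2 : ℕ) : ZMod q) = 0 := by exact_mod_cast h0
    rw [ZMod.natCast_eq_zero_iff] at h1
    exact hq2 ((Nat.prime_dvd_prime_iff_eq Fact.out Nat.prime_two).mp h1)
  have hTT' : ∀ w, τ T (τ T w) = w := fun w => by
    rw [← Module.End.mul_apply, ← map_mul, hTT, map_one, Module.End.one_apply]
  -- the plane
  let E : Submodule (ZMod q) V := LinearMap.ker (τ T + 1)
  have hE : ∀ w, w ∈ E ↔ τ T w = -w := fun w => by
    simp only [E, LinearMap.mem_ker, LinearMap.add_apply, Module.End.one_apply,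
      add_eq_zero_iff_eq_neg]
  have hE' : ∀ w, w ∈ E ↔ σ (y ^ 2 ^ (e - 1)) w = -w := fun w => by rw [hE, hTdef, hτ]
  have hcE : Nat.card E = q ^ 2 := by
    rw [← hcard]
    exact Nat.card_congr (Equiv.subtypeEquivRight hE')
  have : FiniteDimensional (ZMod q) E := Module.Finite.of_finite
  have hdim : finrank (ZMod q) E = 2 := by
    have := hcE
    rw [Module.natCard_eq_pow_finrank (K := ZMod q), Nat.card_zmod] at this
    exact Nat.pow_right_injective (Fact.out : q.Prime).two_le this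
  have hYT : Commute Y T := by rw [hTY]; exact (Commute.refl Y).pow_right _
  have hYE : ∀ w ∈ E, τ Y w ∈ E := fun w hw => by
    rw [hE, ← Module.End.mul_apply, ← map_mul, ← hYT.eq, map_mul, Module.End.mul_apply,
      (hE w).mp hw, map_neg]
  -- a short polynomial for `Y`
  obtain ⟨P, hdeg, hP0, hP⟩ : ∃ P : (ZMod q)[X], P.natDegree < 2 ^ e ∧ P.coeff 0 ≠ 0 ∧
      Polynomial.aeval (τ Y) P = 0 := by
    rcases Nat.lt_or_ge e 3 with h3 | h3
    · obtain rfl : e = 2 := by omega
      refine ⟨(Polynomial.X - Polynomial.C 1) * (Polynomial.X ^ 2 + Polynomial.C 1), ?_, ?_, ?_⟩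
      · refine lt_of_le_of_lt Polynomial.natDegree_mul_le ?_
        rw [Polynomial.natDegree_X_sub_C, Polynomial.natDegree_X_pow_add_C]
        norm_num
      · simp [Polynomial.mul_coeff_zero]
      · refine LinearMap.ext fun w => ?_
        rw [map_mul, map_sub, map_add, map_pow, Polynomial.aeval_X, map_one, map_one,
          Module.End.mul_apply, LinearMap.sub_apply, LinearMap.add_apply, Module.End.one_apply,
          Module.End.one_apply, LinearMap.zero_apply, pow_two, Module.End.mul_apply]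
        have h2 : τ Y (τ Y w) = τ T w := by
          rw [hTY, show 2 - 1 = 1 from rfl, pow_one, pow_two, map_mul, Module.End.mul_apply]
        rw [h2, sub_eq_zero]
        have := htwo rfl (τ T w + w) (by rw [← hτ, ← hTdef, map_add, hTT', add_comm])
        rwa [← hτ, ← hYdef] at this
    · let f : E →ₗ[ZMod q] E := (τ Y).restrict hYE
      refine ⟨(Polynomial.X ^ 2 ^ (e - 1) - Polynomial.C 1) * f.charpoly, ?_, ?_, ?_⟩
      · refine lt_of_le_of_lt Polynomial.natDegree_mul_le ?_
        rw [Polynomial.natDegree_X_pow_sub_C, LinearMap.charpoly_natDegree, hdim]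
        have h4 : 2 ^ 2 ≤ 2 ^ (e - 1) := Nat.pow_le_pow_right two_pos (by omega)
        have h5 : 2 ^ e = 2 ^ (e - 1) * 2 := by rw [← pow_succ, Nat.sub_add_cancel (by omega)]
        omega
      · rw [Polynomial.mul_coeff_zero]
        refine mul_ne_zero ?_ ?_
        · rw [Polynomial.coeff_sub, Polynomial.coeff_X_pow, if_neg (pow_ne_zero _ two_ne_zero).symm,
            Polynomial.coeff_C_zero, zero_sub]
          exact neg_ne_zero.mpr one_ne_zero
        · intro h0
          have hd := LinearMap.det_eq_sign_charpoly_coeff f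
          rw [h0, mul_zero] at hd
          obtain ⟨v, hv, hv0⟩ := Submodule.exists_mem_ne_zero_of_ne_bot
            (LinearMap.bot_lt_ker_of_det_eq_zero hd).ne'
          refine hv0 (Subtype.ext ?_)
          have h6 : τ Y (v : V) = 0 := congrArg Subtype.val (LinearMap.mem_ker.mp hv)
          rw [← Module.End.one_apply (R := ZMod q) (v : V), ← map_one τ, ← inv_mul_cancel Y,
            map_mul, Module.End.mul_apply, h6, map_zero]
          rfl
      · rw [mul_comm, map_mul]
        refine LinearMap.ext fun w => ?_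
        rw [Module.End.mul_apply, map_sub, map_pow, Polynomial.aeval_X, map_one, map_one, ← map_pow,
          ← hTY, LinearMap.sub_apply, Module.End.one_apply, LinearMap.zero_apply]
        have hu : τ T w - w ∈ E := by rw [hE, map_sub, hTT', neg_sub]
        have hres : ∀ (p : (ZMod q)[X]) (v : E),
            (((Polynomial.aeval f p) v : E) : V) = Polynomial.aeval (τ Y) p (v : V) := by
          intro p
          induction p using Polynomial.induction_on' with
          | add p₁ p₂ h₁ h₂ =>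
            intro v
            rw [map_add, map_add, LinearMap.add_apply, LinearMap.add_apply, Submodule.coe_add,
              h₁, h₂]
          | monomial n c =>
            intro v
            rw [Polynomial.aeval_monomial, Polynomial.aeval_monomial, ← Algebra.smul_def,
              ← Algebra.smul_def, LinearMap.smul_apply, LinearMap.smul_apply, Submodule.coe_smul]
            congr 1
            induction n with
            | zero => rfl
            | succ n ih =>
              rw [pow_succ', pow_succ', Module.End.mul_apply, Module.End.mul_apply, ← ih]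
              rfl
        rw [← hres f.charpoly ⟨_, hu⟩, LinearMap.aeval_self_charpoly]
        rfl
  have hTA : ∀ a ∈ A, T * a = a * T := fun a ha => hτi (by
    rw [map_mul, map_mul, hTY]
    refine commute_of_poly τ (fun a ha b hb => ?_) ?_ ?_ hYA (by omega) hYe P hdeg hP0 hP a ha
    · rw [← map_mul, ← map_mul, hAc a ha b hb]
    · rw [hkA, Nat.cast_pow]; exact pow_ne_zero _ hrK
    · rw [hkA]; exact (hr.odd_of_ne_two hr2).pow)
  -- an element of order `r` of the centre
  obtain ⟨c, hcA, hcr, hc1⟩ : ∃ c ∈ A, c ^ r = 1 ∧ c ≠ 1 := by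
    have hA1 : kA ≠ 0 := by
      rintro rfl
      rw [pow_zero, card_eq_one] at hkA
      exact hA hkA
    obtain ⟨c, hc⟩ := exists_prime_orderOf_dvd_card' (G := A) r (hkA ▸ dvd_pow_self r hA1)
    refine ⟨c, c.2, ?_, fun h1 => hr.ne_one ?_⟩
    · rw [← hc, ← Subgroup.coe_pow, pow_orderOf_eq_one, Subgroup.coe_one]
    · rw [← hc, show c = 1 from Subtype.ext h1, orderOf_one]
  have hcE' : ∀ a ∈ A, ∀ w ∈ E, τ a w ∈ E := fun a ha w hw => by
    rw [hE, ← Module.End.mul_apply, ← map_mul, hTA a ha, map_mul, Module.End.mul_apply,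
      (hE w).mp hw, map_neg]
  -- it is non-trivial on the plane
  have hcne : ∃ w ∈ E, τ c w ≠ w := by
    by_contra hall
    push Not at hall
    set M := LinearMap.range (τ c - 1)
    have hMT : ∀ v ∈ M, τ T v = v := by
      rintro _ ⟨w, rfl⟩
      have hu : τ T w - w ∈ E := by rw [hE, map_sub, hTT', neg_sub]
      have h1 := hall _ hu
      rw [map_sub] at h1
      rw [LinearMap.sub_apply, Module.End.one_apply, map_sub, ← Module.End.mul_apply, ← map_mul,
        hTA c hcA, map_mul, Module.End.mul_apply]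
      exact sub_eq_sub_iff_sub_eq_sub.mp h1
    have hMR : ∀ x ∈ R', ∀ v ∈ M, τ x v ∈ M := by
      rintro x hx _ ⟨w, rfl⟩
      refine ⟨τ x w, ?_⟩
      rw [LinearMap.sub_apply, LinearMap.sub_apply, Module.End.one_apply, Module.End.one_apply,
        map_sub, ← Module.End.mul_apply, ← map_mul, ← Subgroup.mem_centralizer_iff.mp hcA.2 x hx,
        map_mul, Module.End.mul_apply]
    let S : Subgroup (H ⧸ MonoidHom.ker σ) :=
      { carrier := {g | ∀ v ∈ M, τ g v = v}
        one_mem' := fun v _ => by rw [map_one, Module.End.one_apply]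
        mul_mem' := fun {g h} hg hh v hv => by
          rw [map_mul, Module.End.mul_apply, hh v hv, hg v hv]
        inv_mem' := fun {g} hg v hv => by
          conv_lhs => rw [← hg v hv]
          rw [← Module.End.mul_apply, ← map_mul, inv_mul_cancel, map_one, Module.End.one_apply] }
    have hTS : T ∈ S := hMT
    have hRS : R' ≤ S := by
      have hle : ⁅R', Subgroup.zpowers T⁆ ≤ S := by
        rw [commutator_le]
        intro x hx b hb v hv
        have hbS : b ∈ S := (Subgroup.zpowers_le.mpr hTS) hb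
        rw [commutatorElement_def, map_mul, map_mul, map_mul, Module.End.mul_apply,
          Module.End.mul_apply, Module.End.mul_apply, inv_mem hbS v hv,
          hbS _ (hMR _ (inv_mem hx) _ hv), ← Module.End.mul_apply, ← map_mul, mul_inv_cancel,
          map_one, Module.End.one_apply]
      rwa [hgen'] at hle
    refine hc1 (hτi ?_)
    rw [map_one]
    refine eq_one_of_unipotent (n := r) hrK (by rw [← map_pow, hcr, map_one]) M
      (fun w hw => hRS hcA.1 w hw) fun w => ⟨w, ?_⟩
    rw [LinearMap.sub_apply, Module.End.one_apply]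
  -- without fixed vectors there
  have hnofix : ∀ w ∈ E, τ c w = w → w = 0 := by
    intro w₀ hw₀ hfix
    by_contra h0
    obtain ⟨v, hv, hvc⟩ := hcne
    let φ : E →ₗ[ZMod q] ZMod q :=
      ((AddMonoidHom.mk' (fun v : V => β w₀ v) fun a b => hrl w₀ a b).comp
        E.subtype.toAddMonoidHom).toZModLinearMap q
    have hφ : ∀ v : E, φ v = β w₀ v := fun v => rfl
    have hker : LinearMap.ker φ = Submodule.span (ZMod q) {(⟨w₀, hw₀⟩ : E)} := by
      symm
      refine Submodule.eq_of_le_of_finrank_le ?_ ?_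
      · rw [Submodule.span_singleton_le_iff_mem, LinearMap.mem_ker, hφ]
        exact hss w₀
      · rw [finrank_span_singleton (fun h => h0 (congrArg Subtype.val h))]
        by_contra hlt
        have hker : LinearMap.ker φ = ⊤ := Submodule.eq_top_of_finrank_eq (le_antisymm
          (Submodule.finrank_le _) (by rw [hdim]; omega))
        refine h0 (hnd w₀ ((hE' w₀).mp hw₀) fun w' hw' => ?_)
        have h1 : (⟨w', (hE' w').mpr hw'⟩ : E) ∈ LinearMap.ker φ := hker ▸ Submodule.mem_top
        exact h1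
    have huni : ∀ v : E, τ c v - (v : V) ∈ Submodule.span (ZMod q) {w₀} := by
      intro v
      have hmem : (⟨τ c v - v, E.sub_mem (hcE' c hcA v v.2) v.2⟩ : E) ∈ LinearMap.ker φ := by
        rw [LinearMap.mem_ker, hφ]
        show β w₀ (τ c (v : V) - v) = 0
        have h1 := hinv' c w₀ v
        rw [hfix] at h1
        have h2 := hrl w₀ (τ c (v : V) - v) v
        rw [sub_add_cancel, h1] at h2
        exact left_eq_add.mp (h2.trans (add_comm _ _))
      rw [hker, Submodule.mem_span_singleton] at hmem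
      obtain ⟨a, ha⟩ := hmem
      exact Submodule.mem_span_singleton.mpr ⟨a, congrArg Subtype.val ha⟩
    refine hvc ?_
    let g : E →ₗ[ZMod q] E := (τ c).restrict (hcE' c hcA)
    have hgr : ∀ (n : ℕ) (u : E), (((g ^ n) u : E) : V) = τ (c ^ n) (u : V) := by
      intro n
      induction n with
      | zero => intro u; rw [pow_zero, pow_zero, map_one]; rfl
      | succ n ih =>
        intro u
        rw [pow_succ', pow_succ', map_mul, Module.End.mul_apply, Module.End.mul_apply, ← ih]
        rfl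
    have hg1 : g = 1 := eq_one_of_unipotent (n := r) hrK
      (LinearMap.ext fun u => Subtype.ext (by rw [hgr, hcr, map_one]; rfl))
      (Submodule.span (ZMod q) {(⟨w₀, hw₀⟩ : E)})
      (fun w hw => by
        obtain ⟨a, rfl⟩ := Submodule.mem_span_singleton.mp hw
        rw [map_smul]
        congr 1
        exact Subtype.ext hfix)
      (fun w => by
        obtain ⟨a, ha⟩ := Submodule.mem_span_singleton.mp (huni w)
        exact Submodule.mem_span_singleton.mpr ⟨a, Subtype.ext ha⟩)
    exact congrArg Subtype.val (LinearMap.congr_fun hg1 ⟨v, hv⟩)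
  -- so `r` divides `q - 1`
  have hqge : 2 ≤ q := (Fact.out : q.Prime).two_le
  have hrdvd : r ∣ q ^ 2 - 1 := by
    have h1 : ∀ (n : ℕ) (w : V), w ∈ E → τ (c ^ n) w ∈ E := fun n w hw =>
      hcE' _ (pow_mem hcA n) w hw
    let π' : Equiv.Perm E :=
      { toFun := fun w => ⟨τ c w, hcE' c hcA w w.2⟩
        invFun := fun w => ⟨τ c⁻¹ w, hcE' _ (inv_mem hcA) w w.2⟩
        left_inv := fun w => Subtype.ext (by
          show τ c⁻¹ (τ c w) = w
          rw [← Module.End.mul_apply, ← map_mul, inv_mul_cancel, map_one, Module.End.one_apply])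
        right_inv := fun w => Subtype.ext (by
          show τ c (τ c⁻¹ w) = w
          rw [← Module.End.mul_apply, ← map_mul, mul_inv_cancel, map_one, Module.End.one_apply]) }
    have hπk : ∀ (k : ℕ) (w : E), (((π' ^ k) w : E) : V) = τ (c ^ k) (w : V) := by
      intro k
      induction k with
      | zero => intro w; rw [pow_zero, pow_zero, map_one]; rfl
      | succ k ih =>
        intro w
        rw [pow_succ', pow_succ', map_mul, Equiv.Perm.mul_apply, Module.End.mul_apply, ← ih]
        rfl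
    rw [← hcE]
    refine dvd_card_sub_one (o := (0 : E)) hr.pos π'
      (Equiv.ext fun w => Subtype.ext (by rw [hπk, hcr, map_one]; rfl))
      (Subtype.ext (map_zero _)) fun w hw k hk0 hkr heqw => hw (Subtype.ext ?_)
    refine hnofix w w.2 ?_
    have h2 : τ (c ^ k) (w : V) = w := by rw [← hπk, heqw]
    have hg : k.Coprime (orderOf c) :=
      (Nat.Coprime.coprime_dvd_right (orderOf_dvd_of_pow_eq_one hcr)
        ((hr.coprime_iff_not_dvd.mpr fun hd => by
          have := Nat.le_of_dvd hk0 hd; omega).symm))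
    obtain ⟨i, hi⟩ := exists_pow_eq_self_of_coprime hg
    rw [← hi]
    clear hi
    induction i with
    | zero => simp
    | succ i ih => rw [pow_succ, map_mul, Module.End.mul_apply, h2, ih]
  have hrq1 : r ∣ q - 1 := by
    rw [show q ^ 2 - 1 = (q + 1) * (q - 1) by rw [← Nat.sq_sub_sq q 1, one_pow], heq] at hrdvd
    refine (Nat.Coprime.dvd_of_dvd_mul_left ?_ hrdvd)
    exact ((Nat.coprime_primes hr Nat.prime_two).mpr hr2).pow_right _
  have hq1 : 3 ≤ e := by
    by_contra h3
    obtain rfl : e = 2 := by omega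
    norm_num at heq
    obtain rfl : q = 3 := by omega
    exact hr2 ((Nat.prime_dvd_prime_iff_eq hr Nat.prime_two).mp hrq1)
  -- eigenvectors
  obtain ⟨γ₀, hγ₀⟩ : ∃ γ : ZMod q, IsPrimitiveRoot γ r := by
    have hd : r ∣ Nat.card (ZMod q)ˣ := by
      rw [Nat.card_units, Nat.card_zmod]; exact hrq1
    obtain ⟨γ, hγ⟩ := exists_prime_orderOf_dvd_card' (G := (ZMod q)ˣ) r hd
    exact ⟨(γ : ZMod q), IsPrimitiveRoot.iff_orderOf.mpr (by rw [orderOf_units, hγ])⟩
  have hroot : ∀ v : V, (r : ZMod q) • v =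
      ∑ i ∈ Finset.range r, ∑ k ∈ Finset.range r, (γ₀ ^ i) ^ k • τ (c ^ k) v := by
    intro v
    rw [Finset.sum_comm, Finset.sum_eq_single 0]
    · simp [Nat.cast_smul_eq_nsmul]
    · intro k hk hk0
      rw [← Finset.sum_smul]
      have h1 : ∑ i ∈ Finset.range r, (γ₀ ^ i) ^ k = 0 := by
        have hne : γ₀ ^ k ≠ 1 := hγ₀.pow_ne_one_of_pos_of_lt hk0 (Finset.mem_range.mp hk)
        have h2 := geom_sum_mul (γ₀ ^ k) r
        rw [← pow_mul γ₀ k r, mul_comm k r, pow_mul, hγ₀.pow_eq_one, one_pow, sub_self,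
          mul_eq_zero] at h2
        rw [← h2.resolve_right (sub_ne_zero.mpr hne)]
        exact Finset.sum_congr rfl fun i _ => by rw [← pow_mul, ← pow_mul, mul_comm]
      rw [h1, zero_smul]
    · exact fun h0 => absurd (Finset.mem_range.mpr hr.pos) h0
  let p : ℕ → V → V := fun i v => ∑ k ∈ Finset.range r, (γ₀ ^ i) ^ k • τ (c ^ k) v
  have hpE : ∀ i, ∀ v ∈ E, p i v ∈ E := fun i v hv =>
    E.sum_mem fun k _ => E.smul_mem _ (hcE' _ (pow_mem hcA k) v hv)
  have hper : ∀ i v, γ₀ ^ i • τ c (p i v) = p i v := by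
    intro i v
    rw [map_sum, Finset.smul_sum]
    have h1 : ∀ k, γ₀ ^ i • τ c ((γ₀ ^ i) ^ k • τ (c ^ k) v) =
        (γ₀ ^ i) ^ (k + 1) • τ (c ^ (k + 1)) v := fun k => by
      rw [map_smul, smul_smul, ← pow_succ', ← Module.End.mul_apply, ← map_mul, ← pow_succ']
    rw [Finset.sum_congr rfl fun k _ => h1 k]
    have hr1 : r = r - 1 + 1 := (Nat.sub_add_cancel hr.pos).symm
    show _ = ∑ k ∈ Finset.range r, (γ₀ ^ i) ^ k • τ (c ^ k) v
    rw [hr1, Finset.sum_range_succ, Finset.sum_range_succ' (fun k => (γ₀ ^ i) ^ k • τ (c ^ k) v),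
      ← hr1, hcr, ← pow_mul γ₀ i r, mul_comm i r, pow_mul, hγ₀.pow_eq_one, one_pow, pow_zero,
      pow_zero]
  -- every vector of the plane lies in the span of the eigenvectors
  have hvec : ∀ w ∈ E, w ≠ 0 → ∃ i v, v ∈ E ∧ p i v ≠ 0 ∧ v = w := by
    intro w hw hw0
    by_contra hall
    push Not at hall
    have h1 := hroot w
    rw [Finset.sum_eq_zero fun i _ => (not_not.mp fun hne => hall i w hw hne rfl : p i w = 0),
      smul_eq_zero] at h1
    exact hw0 (h1.resolve_left hrK)
  obtain ⟨w, hwE, hwne⟩ := hcne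
  obtain ⟨i₁, v, hv, hp₁, rfl⟩ := hvec w hwE (fun h0 => hwne (by rw [h0, map_zero]))
  set v₁ := p i₁ v with hv₁
  have hv₁E : v₁ ∈ E := hpE _ _ hv
  have hγu : ∀ i : ℕ, γ₀ ^ i ≠ 0 := fun i => pow_ne_zero _ (hγ₀.ne_zero hr.ne_zero)
  have hg1 : τ c v₁ = (γ₀ ^ i₁)⁻¹ • v₁ := by
    have := hper i₁ v
    conv_rhs => rw [hv₁, ← this, inv_smul_smul₀ (hγu i₁)]
  have hc₁ : (γ₀ ^ i₁)⁻¹ ≠ 1 := fun h1 => hp₁ (hnofix v₁ hv₁E (by rw [hg1, h1, one_smul]))
  obtain ⟨i₂, u, hu, hind⟩ : ∃ i u, u ∈ E ∧ p i u ∉ Submodule.span (ZMod q) {v₁} := by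
    by_contra hall
    push Not at hall
    have hle : E ≤ Submodule.span (ZMod q) {v₁} := fun w hw => by
      have h1 := hroot w
      have h2 : (r : ZMod q) • w ∈ Submodule.span (ZMod q) {v₁} := by
        rw [h1]
        exact Submodule.sum_mem _ fun i _ => hall i w hw
      have := Submodule.smul_mem _ (r : ZMod q)⁻¹ h2
      rwa [inv_smul_smul₀ hrK] at this
    have h3 := Submodule.finrank_mono hle
    rw [hdim, finrank_span_singleton hp₁] at h3
    omega
  set v₂ := p i₂ u with hv₂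
  have hv₂E : v₂ ∈ E := hpE _ _ hu
  have hv₂0 : v₂ ≠ 0 := fun h0 => hind (h0 ▸ Submodule.zero_mem _)
  have hg2 : τ c v₂ = (γ₀ ^ i₂)⁻¹ • v₂ := by
    have := hper i₂ u
    conv_rhs => rw [hv₂, ← this, inv_smul_smul₀ (hγu i₂)]
  have hβs : ∀ (a b : ZMod q) u v, β (a • u) (b • v) = a * b * β u v := by
    intro a b u v
    have e1 := ((AddMonoidHom.mk' (fun x => β x (b • v)) fun x x' => hl x x' _).toZModLinearMap
      q).map_smul a u
    have e2 := ((AddMonoidHom.mk' (fun x => β u x) fun x x' => hrl u x x').toZModLinearMap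
      q).map_smul b v
    change β (a • u) (b • v) = a • β u (b • v) at e1
    change β u (b • v) = b • β u v at e2
    rw [e1, e2, smul_eq_mul, smul_eq_mul, mul_assoc]
  -- the weights are different
  have hc12 : (γ₀ ^ i₁)⁻¹ ≠ (γ₀ ^ i₂)⁻¹ := by
    intro heq'
    have hlin : LinearIndependent (ZMod q) ![(⟨v₁, hv₁E⟩ : E), ⟨v₂, hv₂E⟩] := by
      rw [LinearIndependent.pair_iff]
      intro s t hst
      have h1 : s • v₁ + t • v₂ = 0 := congrArg Subtype.val hst
      by_cases ht : t = 0
      · rw [ht, zero_smul, add_zero] at h1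
        exact ⟨(smul_eq_zero.mp h1).resolve_right hp₁, ht⟩
      · refine absurd ?_ hind
        rw [Submodule.mem_span_singleton]
        refine ⟨-(t⁻¹ * s), ?_⟩
        rw [neg_smul, ← smul_smul, eq_neg_of_add_eq_zero_left h1, smul_neg, neg_neg, smul_smul,
          inv_mul_cancel₀ ht, one_smul]
    let B := basisOfLinearIndependentOfCardEqFinrank hlin (by rw [Fintype.card_fin, hdim])
    -- `c` is scalar on the plane, so preserves the form only as `1` or `-1`
    have hscal : ∀ w ∈ E, τ c w = (γ₀ ^ i₁)⁻¹ • w := by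
      intro w hw
      have h1 : w = B.repr ⟨w, hw⟩ 0 • v₁ + B.repr ⟨w, hw⟩ 1 • v₂ := by
        have := congrArg Subtype.val (B.sum_repr ⟨w, hw⟩).symm
        rw [Fin.sum_univ_two] at this
        simpa [B] using this
      rw [h1, map_add, map_smul, map_smul, hg1, hg2, ← heq', smul_add]
      simp only [smul_smul, mul_comm]
    obtain ⟨w', hw', hβne⟩ : ∃ w', σ (y ^ 2 ^ (e - 1)) w' = -w' ∧ β v₁ w' ≠ 0 := by
      by_contra hall
      push Not at hall
      exact hp₁ (hnd v₁ ((hE' _).mp hv₁E) hall)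
    have h2 := hinv' c v₁ w'
    rw [hg1, hscal w' ((hE' _).mpr hw'), hβs, mul_left_eq_self₀] at h2
    have hsq : ((γ₀ ^ i₁)⁻¹) ^ 2 = 1 := by rw [pow_two]; exact h2.resolve_right hβne
    have hr' : ((γ₀ ^ i₁)⁻¹) ^ r = 1 := by
      rw [inv_pow, ← pow_mul, mul_comm, pow_mul, hγ₀.pow_eq_one, one_pow, inv_one]
    have hg := pow_gcd_eq_one.mpr ⟨hsq, hr'⟩
    rw [((Nat.coprime_primes Nat.prime_two hr).mpr hr2.symm).gcd_eq_one, pow_one] at hg
    exact hc₁ hg
  obtain ⟨d, hd⟩ := square_eigen E hdim (τ c) (τ Y) (hcE' c hcA) hYE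
    (fun a b hab => by
      have := congrArg (τ Y⁻¹) hab
      simpa only [← Module.End.mul_apply, ← map_mul, inv_mul_cancel, map_one,
        Module.End.one_apply] using this)
    hv₁E hv₂E hp₁ hv₂0 hc12 hg1 hg2 (fun v hv γ hγ => by
      -- `Y⁻¹ c Y` commutes with `c` and is diagonal with `v`
      have hc'A : Y⁻¹ * c * Y ∈ A := Cfsg.Agent.CoprimeAction.conj_mem' hYA hcA
      have hcc : c * (Y⁻¹ * c * Y) = Y⁻¹ * c * Y * c := hAc c hcA _ hc'A
      set c' := Y⁻¹ * c * Y
      have h1 : τ c (τ Y v) = τ Y (τ c' v) := by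
        rw [← Module.End.mul_apply, ← Module.End.mul_apply, ← map_mul, ← map_mul]
        congr 2
        show c * Y = Y * (Y⁻¹ * c * Y)
        group
      -- eigenspaces of `c` in the plane are lines
      by_cases hv0 : v = 0
      · exact ⟨0, by rw [hv0, map_zero, map_zero, smul_zero]⟩
      let K₁ : Submodule (ZMod q) E :=
        LinearMap.ker ((τ c).restrict (hcE' c hcA) - γ • (1 : Module.End (ZMod q) E))
      have hK : ∀ u : E, u ∈ K₁ ↔ τ c (u : V) = γ • (u : V) := fun u => by
        simp only [K₁, LinearMap.mem_ker, LinearMap.sub_apply, LinearMap.smul_apply,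
          Module.End.one_apply, sub_eq_zero, Subtype.ext_iff]
        rfl
      have hK1 : finrank (ZMod q) K₁ ≤ 1 := by
        by_contra hK2
        have htop : K₁ = ⊤ := Submodule.eq_top_of_finrank_eq (le_antisymm
          (Submodule.finrank_le _) (by rw [hdim]; omega))
        have e1 : τ c v₁ = γ • v₁ := (hK ⟨v₁, hv₁E⟩).mp (htop ▸ Submodule.mem_top)
        have e2 : τ c v₂ = γ • v₂ := (hK ⟨v₂, hv₂E⟩).mp (htop ▸ Submodule.mem_top)
        rw [hg1] at e1
        rw [hg2] at e2
        exact hc12 ((smul_left_injective (ZMod q) hp₁ e1).trans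
          (smul_left_injective (ZMod q) hv₂0 e2).symm)
      have hvK : (⟨v, hv⟩ : E) ∈ K₁ := (hK _).mpr hγ
      have hc'K : (⟨τ c' v, hcE' _ hc'A v hv⟩ : E) ∈ K₁ := (hK _).mpr (by
        show τ c (τ c' v) = γ • τ c' v
        rw [← Module.End.mul_apply, ← map_mul, hcc, map_mul, Module.End.mul_apply, hγ, map_smul])
      have hspan : Submodule.span (ZMod q) {(⟨v, hv⟩ : E)} = K₁ :=
        Submodule.eq_of_le_of_finrank_le ((Submodule.span_singleton_le_iff_mem _ _).mpr hvK)
          (by rw [finrank_span_singleton (fun h => hv0 (congrArg Subtype.val h))]; exact hK1)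
      rw [← hspan, Submodule.mem_span_singleton] at hc'K
      obtain ⟨μ, hμ⟩ := hc'K
      exact ⟨μ, by rw [h1, show τ c' v = μ • v from (congrArg Subtype.val hμ).symm, map_smul]⟩)
  -- the square of `Y` has too small an order
  have hiter : ∀ n : ℕ, τ (Y ^ (2 * n)) v₁ = d ^ n • v₁ := by
    intro n
    induction n with
    | zero => simp
    | succ n ih =>
      rw [show 2 * (n + 1) = 2 * n + 2 by ring, pow_add, map_mul, Module.End.mul_apply, pow_two,
        map_mul, Module.End.mul_apply, hd, map_smul, ih, smul_smul, pow_succ', ]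
  have hhalf : d ^ 2 ^ (e - 2) = -1 := by
    have h1 : τ T v₁ = -v₁ := (hE v₁).mp hv₁E
    rw [hTY, show 2 ^ (e - 1) = 2 * 2 ^ (e - 2) by
      rw [← pow_succ', show e - 2 + 1 = e - 1 by omega], hiter] at h1
    refine smul_left_injective (ZMod q) hp₁ ?_
    show d ^ 2 ^ (e - 2) • v₁ = (-1 : ZMod q) • v₁
    rw [h1, neg_one_smul]
  have hd0 : d ≠ 0 := by
    rintro rfl
    rw [zero_pow (pow_ne_zero _ two_ne_zero)] at hhalf
    exact one_ne_zero (neg_eq_zero.mp hhalf.symm)
  have hd2 : d ^ 2 = 1 := by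
    have h1 : d ^ 2 ^ (e - 1) = 1 := by
      rw [show 2 ^ (e - 1) = 2 ^ (e - 2) * 2 by rw [← pow_succ, show e - 2 + 1 = e - 1 by omega],
        pow_mul, hhalf]
      ring
    have h2 := ZMod.pow_card_sub_one_eq_one hd0
    obtain ⟨k, hk⟩ : ∃ k, q - 1 = 2 * k ∧ Odd k := ⟨2 ^ (e - 1) - 1, by
      have h3 : 2 ^ e = 2 ^ (e - 1) * 2 := by rw [← pow_succ, Nat.sub_add_cancel (by omega)]
      have h4 : 2 ≤ 2 ^ (e - 1) := Nat.le_self_pow (by omega) 2
      refine ⟨by omega, ?_⟩
      obtain ⟨j, hj⟩ : 2 ∣ 2 ^ (e - 1) := dvd_pow_self 2 (by omega)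
      exact ⟨j - 1, by omega⟩⟩
    have hg : Nat.gcd (q - 1) (2 ^ (e - 1)) = 2 := by
      rw [hk.1, show 2 ^ (e - 1) = 2 * 2 ^ (e - 2) by
        rw [← pow_succ', show e - 2 + 1 = e - 1 by omega], Nat.gcd_mul_left,
        ((Nat.coprime_two_right.mpr hk.2).pow_right _).gcd_eq_one, mul_one]
    rw [← hg]
    exact pow_gcd_eq_one.mpr ⟨h2, h1⟩
  refine h2q ?_
  rw [show 2 ^ (e - 2) = 2 * 2 ^ (e - 3) by rw [← pow_succ', show e - 3 + 1 = e - 2 by omega],
    pow_mul, hd2, one_pow] at hhalf
  linear_combination hhalf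

end Cfsg.Agent.GrossTwo
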