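import Mathlib
import Cfsg.Prelude
import Cfsg.Agent.Lib.CoprimeAction
import Cfsg.Agent.Lib.ComponentsFitting
import Cfsg.Agent.Lib.ComponentsCores
import Cfsg.Agent.Lib.HallSolvable
import Cfsg.Agent.Lib.HallHigmanFPF

/-!
# The theorem of Shult and Gross

A solvable group with a fixed point free automorphism of order `p ^ n`, `p` odd, has Fitting
height at most `n`.
-/

set_option autoImplicit false

namespace Cfsg.Agent.HallHigman

open scoped commutatorElement

universe u

variable {Γ : Type*} [Group Γ] [Finite Γ] {p e : ℕ} {s : Γ}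

/-- A normal subgroup on which a `p`-element is fixed point free has order prime to `p`. -/
theorem coprime_of_fpf (hp : p.Prime) {G : Subgroup Γ} [G.Normal] (hs : s ^ p ^ e = 1)
    (hfpf : ∀ g ∈ G, s * g = g * s → g = 1) : (orderOf s).Coprime (Nat.card G) := by
  have := Fact.mk hp
  obtain ⟨i, -, hi⟩ := (Nat.dvd_prime_pow hp).mp (orderOf_dvd_of_pow_eq_one hs)
  have hA : IsPGroup p (Subgroup.zpowers s) := IsPGroup.of_card (n := i) (by rw [Nat.card_zpowers, hi])
  let _ : MulAction (Subgroup.zpowers s) G :=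
    MulAction.compHom G ((MulAut.conjNormal (H := G)).comp (Subgroup.zpowers s).subtype)
  have h := hA.card_modEq_card_fixedPoints G
  have h1 : Nat.card (MulAction.fixedPoints (Subgroup.zpowers s) G) = 1 := by
    have : Subsingleton (MulAction.fixedPoints (Subgroup.zpowers s) G) := by
      refine ⟨fun a b => Subtype.ext ?_⟩
      have key : ∀ c : MulAction.fixedPoints (Subgroup.zpowers s) G, (c : G) = 1 := by
        intro c
        refine Subtype.ext (hfpf _ (c : G).2 ?_)
        have hc : ((MulAut.conjNormal s (c : G) : G) : Γ) = (c : G) :=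
          congrArg Subtype.val (c.2 ⟨s, Subgroup.mem_zpowers s⟩)
        rw [MulAut.conjNormal_apply] at hc
        exact mul_inv_eq_iff_eq_mul.mp hc
      rw [key a, key b]
    have : Nonempty (MulAction.fixedPoints (Subgroup.zpowers s) G) := ⟨⟨1, fun a => map_one (MulAut.conjNormal (H := G) (a : Γ))⟩⟩
    exact Nat.card_of_subsingleton (Classical.arbitrary _)
  rw [h1] at h
  rw [hi]
  refine (hp.coprime_iff_not_dvd.mpr fun hd => hp.not_dvd_one ?_).pow_left i
  exact (Nat.ModEq.dvd_iff h dvd_rfl).mp hd

/-- The image of `G` acting on a minimal normal subgroup commutes with the power of order `p`. -/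
theorem top_power_centralizes (hp : p.Prime) (hp2 : p ≠ 2) (he : 1 ≤ e) {G N : Subgroup Γ}
    [G.Normal] [Group.IsSolvable G] (hN : Cfsg.Agent.HallSolvable.IsMinNormal N) (hNG : N ≤ G)
    (hs : s ^ p ^ e = 1) (hfpf : ∀ g ∈ G, s * g = g * s → g = 1) :
    ⁅G, Subgroup.zpowers (s ^ p ^ (e - 1))⁆ ≤ Subgroup.centralizer (N : Set Γ) := by
  have := hN.normal
  have : Group.IsSolvable N := Cfsg.Agent.CoprimeAction.isSolvable_of_le hNG
  obtain ⟨l, hl, hel, hlN⟩ := hN.exists_prime
  have := Fact.mk hl
  have hcomm := hN.commutative_of_solvable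
  let _ : CommGroup N :=
    { (inferInstance : Group N) with mul_comm := hcomm.is_comm.comm }
  have hV : ∀ v : N, v ^ l = 1 := fun v => Subtype.ext (by simpa using hel.2 v v.2)
  let φ : Γ →* MulAut N := MulAut.conjNormal
  let π := QuotientGroup.mk' φ.ker
  let ψ : Γ ⧸ φ.ker →* MulAut N := QuotientGroup.kerLift φ
  have hψ : Function.Injective ψ := QuotientGroup.kerLift_injective φ
  set Gb := G.map π with hGb
  have hGbn : Gb.Normal := Subgroup.Normal.map inferInstance π (QuotientGroup.mk'_surjective _)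
  have : Group.IsSolvable Gb :=
    Group.isSolvable_of_surjective (π.subgroupMap_surjective G)
  have hcop := coprime_of_fpf hp hs hfpf
  have hfpfb : ∀ g ∈ Gb, π s * g = g * π s → g = 1 :=
    fpf_map π (Subgroup.normalizer_eq_top G ▸ Subgroup.mem_top s) hcop hfpf
  have hsb : π s ^ p ^ e = 1 := by rw [← map_pow, hs, map_one]
  have hfV : ∀ v : N, ψ (π s) v = v → v = 1 := by
    intro v hv
    have hv' : (MulAut.conjNormal s v : N) = v := hv
    refine Subtype.ext (hfpf _ (hNG v.2) ?_)
    have h1 := congrArg Subtype.val hv'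
    rw [MulAut.conjNormal_apply] at h1
    exact mul_inv_eq_iff_eq_mul.mp h1
  set t := π s ^ p ^ (e - 1) with ht
  -- each `O_q` of the image commutes with `t`
  have hq : ∀ q : ℕ, q.Prime → (Cfsg.pCore q Gb).map Gb.subtype ≤ Subgroup.centralizer {t} := by
    intro q hq
    set O := (Cfsg.pCore q Gb).map Gb.subtype with hO
    have hOG : O ≤ Gb := Subgroup.map_subtype_le _
    have : (Cfsg.pCore q Gb).Characteristic := Cfsg.Agent.HallCore.pCore_characteristic q Gb
    have hOn : O.Normal := inferInstance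
    have hOp : IsPGroup q O := (Cfsg.Agent.HallCore.isPGroup_pCore q Gb).map Gb.subtype
    have := Fact.mk hq
    by_cases hqp : q = p
    · subst hqp
      obtain ⟨k, hk⟩ := IsPGroup.iff_card.mp hOp
      have h1 : (orderOf (π s)).Coprime (Nat.card O) := by
        refine (Nat.Coprime.coprime_dvd_right (Subgroup.card_dvd_of_le hOG) ?_)
        exact (hcop.coprime_dvd_left (orderOf_map_dvd π s)).coprime_dvd_right
          (Subgroup.card_map_dvd G π)
      intro u hu
      rw [Subgroup.mem_centralizer_singleton_iff]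
      rcases Nat.eq_zero_or_pos k with hk0 | hk0
      · rw [hk0, pow_zero, Subgroup.card_eq_one] at hk
        rw [hk, Subgroup.mem_bot] at hu
        rw [hu, one_mul, mul_one]
      · have h2 : orderOf (π s) = 1 := by
          obtain ⟨i, -, hi⟩ := (Nat.dvd_prime_pow hp).mp (orderOf_dvd_of_pow_eq_one hsb)
          rw [hk, hi] at h1
          rcases Nat.eq_zero_or_pos i with hi0 | hi0
          · rw [hi, hi0, pow_zero]
          · exact absurd (Nat.Coprime.coprime_dvd_left (dvd_pow_self q hi0.ne')
              (Nat.Coprime.coprime_dvd_right (dvd_pow_self q hk0.ne') h1))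
              (by simpa [Nat.coprime_self] using hp.ne_one)
        rw [ht, orderOf_eq_one_iff.mp h2, one_pow, one_mul, mul_one]
    by_cases hql : q = l
    · subst hql
      let _ : MulAction O N := MulAction.compHom N (ψ.comp O.subtype)
      have hcard : q ∣ Nat.card N := by
        obtain ⟨k, hk⟩ := IsPGroup.iff_card.mp hlN
        rw [hk]
        refine dvd_pow_self q ?_
        rintro rfl
        rw [pow_zero, Subgroup.card_eq_one] at hk
        exact hN.ne_bot hk
      obtain ⟨b, hb, hb1⟩ := hOp.exists_fixed_point_of_prime_dvd_card_of_fixed_point N hcard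
        (a := 1) (fun u => map_one (ψ (u : Γ ⧸ φ.ker)))
      -- the fixed points form a normal subgroup of `Γ`
      let F : Subgroup Γ :=
        { carrier := {x | ∃ hx : x ∈ N, ∀ u ∈ O, ψ u ⟨x, hx⟩ = ⟨x, hx⟩}
          one_mem' := ⟨N.one_mem, fun u _ => map_one (ψ u)⟩
          mul_mem' := by
            rintro a c ⟨ha, ha'⟩ ⟨hc, hc'⟩
            refine ⟨N.mul_mem ha hc, fun u hu => ?_⟩
            rw [show (⟨a * c, N.mul_mem ha hc⟩ : N) = ⟨a, ha⟩ * ⟨c, hc⟩ from rfl, map_mul,
              ha' u hu, hc' u hu]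
          inv_mem' := by
            rintro a ⟨ha, ha'⟩
            refine ⟨N.inv_mem ha, fun u hu => ?_⟩
            rw [show (⟨a⁻¹, N.inv_mem ha⟩ : N) = (⟨a, ha⟩ : N)⁻¹ from rfl, map_inv, ha' u hu] }
      have hFn : F.Normal := ⟨fun x hx g => by
        obtain ⟨hx', hx''⟩ := hx
        refine ⟨Subgroup.Normal.conj_mem inferInstance x hx' g, fun u hu => ?_⟩
        have h1 : (⟨g * x * g⁻¹, Subgroup.Normal.conj_mem inferInstance x hx' g⟩ : N) =
            ψ (π g) ⟨x, hx'⟩ := Subtype.ext (MulAut.conjNormal_apply g ⟨x, hx'⟩).symm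
        rw [h1, ← MulAut.mul_apply, ← map_mul,
          show u * π g = π g * ((π g)⁻¹ * u * π g) by group, map_mul, MulAut.mul_apply,
          hx'' _ (by simpa using hOn.conj_mem u hu (π g)⁻¹)]⟩
      have hFle : F ≤ N := fun x hx => hx.1
      have hFne : F ≠ ⊥ := by
        intro h0
        have : (b : Γ) ∈ F := ⟨b.2, fun u hu => hb ⟨u, hu⟩⟩
        rw [h0, Subgroup.mem_bot] at this
        exact hb1 (Subtype.ext this.symm)
      have hFN := hN.eq_of_le hFle hFne
      intro u hu
      have h1 : u = 1 := hψ (by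
        rw [map_one]
        refine MulEquiv.ext fun v => ?_
        obtain ⟨_, hv⟩ := (show (v : Γ) ∈ F from hFN.symm ▸ v.2)
        exact hv u hu)
      rw [Subgroup.mem_centralizer_singleton_iff, h1, one_mul, mul_one]
    · intro u hu
      rw [Subgroup.mem_centralizer_singleton_iff]
      exact hψ (fpf_trivial hV ψ hp hp2 hq (Ne.symm hqp) (Ne.symm hql) he hsb
        (Subgroup.normalizer_eq_top O ▸ Subgroup.mem_top (π s)) hOp
        (fun v hv => hfpfb v (hOG hv)) hfV u hu)
  -- hence `t` centralises the Fitting subgroup of the image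
  set F := (Cfsg.fittingSubgroup Gb).map Gb.subtype with hF
  have : (Cfsg.fittingSubgroup Gb).Characteristic := inferInstance
  have hFn : F.Normal := inferInstance
  have hFt : F ≤ Subgroup.centralizer {t} := by
    rw [hF, Cfsg.Agent.ComponentsFitting.fittingSubgroup_eq_iSup, Subgroup.map_iSup]
    exact iSup_le fun r => hq r (Nat.prime_of_mem_primeFactors r.2)
  have htC : Subgroup.zpowers t ≤ Subgroup.centralizer (F : Set (Γ ⧸ φ.ker)) := by
    rw [Subgroup.zpowers_le, Subgroup.mem_centralizer_iff]
    intro x hx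
    exact Subgroup.mem_centralizer_singleton_iff.mp (hFt hx)
  have hC : (Subgroup.centralizer (F : Set (Γ ⧸ φ.ker))).Normal := inferInstance
  have hle : ⁅Gb, Subgroup.zpowers t⁆ ≤ F := by
    intro x hx
    have hxG : x ∈ Gb := Subgroup.commutator_le_left _ _ hx
    have hxC : x ∈ Subgroup.centralizer (F : Set (Γ ⧸ φ.ker)) :=
      Subgroup.commutator_le_right _ _ (Subgroup.commutator_mono le_rfl htC hx)
    refine ⟨⟨x, hxG⟩, Cfsg.Agent.HallSolvable.centralizer_fitting_le ?_, rfl⟩
    rw [Subgroup.mem_centralizer_iff]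
    intro y hy
    exact Subtype.ext (Subgroup.mem_centralizer_iff.mp hxC _ ⟨y, hy, rfl⟩)
  have h2 : ⁅⁅Gb, Subgroup.zpowers t⁆, Subgroup.zpowers t⁆ = ⊥ := by
    rw [eq_bot_iff, ← Subgroup.commutator_eq_bot_iff_le_centralizer.mpr htC,
      Subgroup.commutator_comm (Subgroup.zpowers t) F]
    exact Subgroup.commutator_mono hle le_rfl
  have hcopb : (Nat.card (Subgroup.zpowers t)).Coprime (Nat.card Gb) := by
    rw [Nat.card_zpowers, ht, ← map_pow]
    exact ((hcop.coprime_dvd_left (orderOf_pow_dvd _)).coprime_dvd_left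
      (orderOf_map_dvd π _)).coprime_dvd_right (Subgroup.card_map_dvd G π)
  have h3 := Cfsg.Agent.CoprimeAction.le_centralizer_of_commutator_commutator_eq_bot
    (Subgroup.normalizer_eq_top Gb ▸ le_top) hcopb
    (Or.inl (Cfsg.Agent.CoprimeAction.isSolvable_zpowers t)) h2
  have h4 : (⁅G, Subgroup.zpowers (s ^ p ^ (e - 1))⁆).map π = ⊥ := by
    rw [Subgroup.map_commutator, MonoidHom.map_zpowers, map_pow, Subgroup.commutator_comm]
    exact Subgroup.commutator_eq_bot_iff_le_centralizer.mpr h3
  intro x hx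
  have hxk : x ∈ φ.ker := by
    have : π x ∈ (⁅G, Subgroup.zpowers (s ^ p ^ (e - 1))⁆).map π := Subgroup.mem_map_of_mem π hx
    rw [h4, Subgroup.mem_bot] at this
    exact (QuotientGroup.eq_one_iff x).mp this
  rw [Subgroup.mem_centralizer_iff]
  intro v hv
  have h5 := congrArg Subtype.val (DFunLike.congr_fun (MonoidHom.mem_ker.mp hxk) ⟨v, hv⟩)
  rw [MulAut.conjNormal_apply] at h5
  exact (mul_inv_eq_iff_eq_mul.mp h5).symm

theorem isNilpotent_commutator_aux (hp : p.Prime) (hp2 : p ≠ 2) (he : 1 ≤ e) (m : ℕ) :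
    ∀ (Γ : Type u) [Group Γ] [Finite Γ] (G : Subgroup Γ) [G.Normal] [Group.IsSolvable G] (s : Γ),
      Nat.card G ≤ m → s ^ p ^ e = 1 → (∀ g ∈ G, s * g = g * s → g = 1) →
      Group.IsNilpotent (⁅G, Subgroup.zpowers (s ^ p ^ (e - 1))⁆ : Subgroup Γ) := by
  induction m with
  | zero =>
    intro Γ _ _ G _ _ s hm
    exact absurd hm (by have := Nat.card_pos (α := G); omega)
  | succ m ih =>
    intro Γ _ _ G _ _ s hm hs hfpf
    by_cases hG : G = ⊥
    · subst hG
      rw [Subgroup.commutator_bot_left]
      infer_instance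
    obtain ⟨N, hN, hNG⟩ := Cfsg.Agent.HallSolvable.exists_minNormal_le hG
    have := hN.normal
    have hc := top_power_centralizes hp hp2 he hN hNG hs hfpf
    let π := QuotientGroup.mk' N
    have : (G.map π).Normal :=
      Subgroup.Normal.map inferInstance π (QuotientGroup.mk'_surjective _)
    have : Group.IsSolvable (G.map π) := Group.isSolvable_of_surjective (π.subgroupMap_surjective G)
    have hlt : Nat.card (G.map π) < Nat.card G := by
      have h1 := Cfsg.Agent.HallCore.card_map_mk'_mul N G hNG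
      have h2 : 1 < Nat.card N := N.one_lt_card_iff_ne_bot.mpr hN.ne_bot
      have h3 : 0 < Nat.card (G.map π) := Nat.card_pos
      rw [← h1]
      nlinarith
    have hnil := ih (Γ ⧸ N) (G.map π) (π s) (by omega) (by rw [← map_pow, hs, map_one])
      (fpf_map π (Subgroup.normalizer_eq_top G ▸ Subgroup.mem_top s) (coprime_of_fpf hp hs hfpf)
        hfpf)
    rw [← map_pow, ← MonoidHom.map_zpowers, ← Subgroup.map_commutator] at hnil
    set L := ⁅G, Subgroup.zpowers (s ^ p ^ (e - 1))⁆
    refine Subgroup.isNilpotent_of_ker_le_center (π.subgroupMap L) ?_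
    intro x hx
    have hxN : (x : Γ) ∈ N := (QuotientGroup.eq_one_iff _).mp (congrArg Subtype.val hx)
    rw [Subgroup.mem_center_iff]
    intro y
    exact Subtype.ext (Subgroup.mem_centralizer_iff.mp (hc y.2) _ hxN).symm

/-- **Shult, Gross:** the commutator with the power of order `p` is nilpotent. -/
theorem isNilpotent_commutator (hp : p.Prime) (hp2 : p ≠ 2) (he : 1 ≤ e) {Γ : Type u} [Group Γ]
    [Finite Γ] (G : Subgroup Γ) [G.Normal] [Group.IsSolvable G] {s : Γ} (hs : s ^ p ^ e = 1)
    (hfpf : ∀ g ∈ G, s * g = g * s → g = 1) :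
    Group.IsNilpotent (⁅G, Subgroup.zpowers (s ^ p ^ (e - 1))⁆ : Subgroup Γ) :=
  isNilpotent_commutator_aux hp hp2 he _ Γ G s le_rfl hs hfpf

/-- A solvable group with a fixed point free automorphism of order dividing `p ^ n` has a
nilpotent series of length `n`. -/
theorem exists_nilpotent_chain (hp : p.Prime) (hp2 : p ≠ 2) (n : ℕ) :
    ∀ (G : Type u) [Group G] [Finite G] [Group.IsSolvable G] (σ : MulAut G), σ ^ p ^ n = 1 →
      (∀ g, σ g = g → g = 1) → ∃ F : Fin (n + 1) → Subgroup G, F 0 = ⊥ ∧ F (Fin.last n) = ⊤ ∧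
        Monotone F ∧ (∀ i, (F i).Normal) ∧
        ∀ i : Fin n, ∃ k : ℕ, (F i.succ).lowerCentralSeries k ≤ F i.castSucc := by
  induction n with
  | zero =>
    intro G _ _ _ σ hσ hfpf
    rw [pow_zero, pow_one] at hσ
    refine ⟨fun _ => ⊥, rfl, ?_, monotone_const, fun _ => inferInstance, fun i => i.elim0⟩
    exact (eq_top_iff.mpr fun g _ => by
      rw [Subgroup.mem_bot]; exact hfpf g (by rw [hσ]; rfl))
  | succ n ih =>
    intro G _ _ _ σ hσ hfpf
    let Δ := G ⋊[(Subgroup.zpowers σ).subtype] Subgroup.zpowers σ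
    have : Finite Δ := Finite.of_equiv _ SemidirectProduct.equivProd.symm
    let ι : G →* Δ := SemidirectProduct.inl
    let s : Δ := SemidirectProduct.inr ⟨σ, Subgroup.mem_zpowers σ⟩
    have : ι.range.Normal := by
      rw [SemidirectProduct.range_inl_eq_ker_rightHom]
      infer_instance
    have : Group.IsSolvable ι.range := Group.isSolvable_of_surjective ι.rangeRestrict_surjective
    have hspow : ∀ k : ℕ, s ^ k = SemidirectProduct.inr
        (⟨σ ^ k, pow_mem (Subgroup.mem_zpowers σ) k⟩ : Subgroup.zpowers σ) :=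
      fun k => (map_pow (SemidirectProduct.inr : Subgroup.zpowers σ →* Δ) _ k).symm
    have hsk : ∀ (k : ℕ) (g : G), s ^ k * ι g * (s ^ k)⁻¹ = ι ((σ ^ k) g) := by
      intro k g
      rw [hspow, ← map_inv]
      exact (SemidirectProduct.inl_aut (φ := (Subgroup.zpowers σ).subtype)
        ⟨σ ^ k, pow_mem (Subgroup.mem_zpowers σ) k⟩ g).symm
    have hs : s ^ p ^ (n + 1) = 1 := by
      rw [hspow, show (⟨σ ^ p ^ (n + 1), pow_mem (Subgroup.mem_zpowers σ) _⟩ :
        Subgroup.zpowers σ) = 1 from Subtype.ext hσ, map_one]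
    have hfix : ∀ x ∈ ι.range, s * x = x * s → x = 1 := by
      rintro _ ⟨g, rfl⟩ h
      have h1 := hsk 1 g
      rw [pow_one, pow_one, h, mul_inv_cancel_right] at h1
      rw [hfpf g (SemidirectProduct.inl_injective h1).symm, map_one]
    set s0 := s ^ p ^ n with hs0
    set L' := ⁅ι.range, Subgroup.zpowers s0⁆ with hL'
    have hnil : Group.IsNilpotent L' := isNilpotent_commutator hp hp2 (e := n + 1) (by omega) _ hs hfix
    set L := L'.comap ι with hL
    have hmapL : L.map ι = L' := Subgroup.map_comap_eq_self (Subgroup.commutator_le_left _ _)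
    have : Group.IsNilpotent L := by
      have : Group.IsNilpotent (L.map ι) := hmapL ▸ hnil
      exact Group.nilpotent_of_mulEquiv (L.equivMapOfInjective ι SemidirectProduct.inl_injective).symm
    have hLn : L.Normal := ⟨fun x hx g => by
      rw [hL, Subgroup.mem_comap, map_mul, map_mul, map_inv]
      exact Cfsg.Agent.CoprimeAction.conj_mem
        (Subgroup.normalizer_commutator_ge_left _ _ (MonoidHom.mem_range.mpr ⟨g, rfl⟩)) hx⟩
    have hsL : s ∈ Subgroup.normalizer (L' : Set Δ) := by
      refine Cfsg.Agent.CoprimeAction.mem_normalizer_of_conj_smul_eq ?_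
      show L'.map (MulAut.conj s).toMonoidHom = L'
      rw [hL', Subgroup.map_commutator, MonoidHom.map_zpowers,
        show (MulAut.conj s).toMonoidHom s0 = s0 by
          simp only [MulEquiv.coe_toMonoidHom, MulAut.conj_apply, hs0]
          rw [← pow_succ', pow_succ, mul_inv_cancel_right]]
      congr 1
      exact Subgroup.normal_iff_map_conj_eq.mp inferInstance s
    have hσL : L.map σ.toMonoidHom = L := by
      refine Subgroup.eq_of_le_of_card_ge ?_ (le_of_eq
        (Subgroup.card_map_of_injective (f := σ.toMonoidHom) σ.injective).symm)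
      rintro _ ⟨x, hx, rfl⟩
      show ι (σ x) ∈ L'
      have := hsk 1 x
      rw [pow_one, pow_one] at this
      rw [← this]
      exact Cfsg.Agent.CoprimeAction.conj_mem hsL hx
    let τ : MulAut (G ⧸ L) := QuotientGroup.congr L L σ hσL
    have hτk : ∀ (k : ℕ) (g : G), (τ ^ k) (g : G ⧸ L) = (((σ ^ k) g : G) : G ⧸ L) := by
      intro k
      induction k with
      | zero => intro g; rfl
      | succ k ihk =>
        intro g
        rw [pow_succ, pow_succ, MulAut.mul_apply, MulAut.mul_apply]
        exact ihk (σ g)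
    have hτ : τ ^ p ^ n = 1 := by
      refine MulEquiv.ext fun x => ?_
      obtain ⟨g, rfl⟩ := QuotientGroup.mk_surjective x
      rw [hτk, MulAut.one_apply, eq_comm, QuotientGroup.eq]
      show ι (g⁻¹ * (σ ^ p ^ n) g) ∈ L'
      rw [map_mul, map_inv, ← hsk]
      have := Subgroup.commutator_mem_commutator (H₁ := ι.range) (H₂ := Subgroup.zpowers s0)
        (MonoidHom.mem_range.mpr ⟨g⁻¹, rfl⟩) (Subgroup.mem_zpowers s0)
      rw [commutatorElement_def, map_inv, inv_inv] at this
      simpa [mul_assoc] using this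
    have hτfix : ∀ x, τ x = x → x = 1 := by
      intro x hx
      obtain ⟨g, rfl⟩ := QuotientGroup.mk_surjective x
      have h1 : g⁻¹ * σ g ∈ L := QuotientGroup.eq.mp hx.symm
      obtain ⟨c, hsc, hc⟩ := Cfsg.Agent.CoprimeAction.exists_fixed_mem_coset_zpowers hsL
        ((coprime_of_fpf hp hs hfix).coprime_dvd_right
          (Subgroup.card_dvd_of_le (Subgroup.commutator_le_left _ _))) (ι g) (by
          have := hsk 1 g
          rw [pow_one, pow_one] at this
          have h2 : ι (g⁻¹ * σ g) ∈ L' := h1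
          rw [map_mul, map_inv, ← this] at h2
          simpa [mul_assoc] using h2)
      have hcG : c ∈ ι.range := by
        have := ι.range.mul_mem ⟨g, rfl⟩ (Subgroup.commutator_le_left _ _ hc)
        rwa [mul_inv_cancel_left] at this
      rw [hfix c hcG hsc, mul_one, ← map_inv] at hc
      exact (QuotientGroup.eq_one_iff g).mpr (by simpa using L.inv_mem hc)
    obtain ⟨F, hF0, hF1, hFm, hFn, hFk⟩ := ih (G ⧸ L) τ hτ hτfix
    refine ⟨Fin.cons ⊥ fun i => (F i).comap (QuotientGroup.mk' L), rfl, ?_, ?_, ?_, ?_⟩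
    · rw [← Fin.succ_last, Fin.cons_succ, hF1, Subgroup.comap_top]
    · refine Fin.monotone_iff_le_succ.mpr fun i => ?_
      rw [Fin.cons_succ]
      induction i using Fin.cases with
      | zero => exact bot_le
      | succ j =>
        rw [← Fin.succ_castSucc, Fin.cons_succ]
        exact Subgroup.comap_mono (hFm (Fin.castSucc_le_succ j))
    · intro i
      induction i using Fin.cases with
      | zero => rw [Fin.cons_zero]; infer_instance
      | succ j => rw [Fin.cons_succ]; exact (hFn j).comap _
    · intro i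
      rw [Fin.cons_succ]
      induction i using Fin.cases with
      | zero =>
        obtain ⟨k, hk⟩ := (Subgroup.isNilpotent_iff_lowerCentralSeries L).mp ‹_›
        refine ⟨k, ?_⟩
        rw [Fin.castSucc_zero, Fin.cons_zero, hF0, MonoidHom.comap_bot, QuotientGroup.ker_mk', hk]
      | succ j =>
        obtain ⟨k, hk⟩ := hFk j
        refine ⟨k, ?_⟩
        rw [← Fin.succ_castSucc, Fin.cons_succ, ← Subgroup.map_le_iff_le_comap,
          Subgroup.map_lowerCentralSeries,
          Subgroup.map_comap_eq_self_of_surjective (QuotientGroup.mk'_surjective L)]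
        exact hk

end Cfsg.Agent.HallHigman
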