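import Cfsg.Agent.Lib.GrossTwoPlane
import Cfsg.Agent.Lib.GrossTwoSecond
import Cfsg.Agent.Lib.HallHigmanShultGross

/-!
# Gross's theorem for two-power automorphisms: minimal invariant subgroups

A minimal invariant `q`-subgroup not centralised by the acting group and its reduction to the
exceptional plane.
-/

set_option autoImplicit false

namespace Cfsg.Agent.GrossTwo

open Subgroup Module Cfsg.Agent.HallHigman
open scoped commutatorElement

universe u

/-- A minimal invariant subgroup with non-trivial action. -/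
theorem exists_minimal {G : Type*} [Group G] [Finite G] {q : ℕ} [Fact q.Prime] {Q X : Subgroup G}
    (hQ : IsPGroup q Q) {s : G} (hsQ : s ∈ normalizer (Q : Set G))
    (hsX : s ∈ normalizer (X : Set G)) (hXQ : X ≤ normalizer (Q : Set G))
    (hcop : (Nat.card X).Coprime (Nat.card Q)) (hnc : ¬ X ≤ centralizer (Q : Set G)) :
    ∃ D ≤ Q, s ∈ normalizer (D : Set G) ∧ X ≤ normalizer (D : Set G) ∧
      ¬ X ≤ centralizer (D : Set G) ∧ ⁅D, X⁆ = D ∧ (∀ u ∈ D, u ^ q ∈ ctr D) ∧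
      (∀ u ∈ D, ∀ v ∈ D, ⁅u, v⁆ ∈ ctr D) ∧
      ((∃ u ∈ D, ∃ v ∈ D, u * v ≠ v * u) → X ≤ centralizer (ctr D : Set G)) := by
  classical
  let P : ℕ → Prop := fun d => ∃ U : Subgroup G, Nat.card U = d ∧ U ≤ Q ∧
    s ∈ normalizer (U : Set G) ∧ X ≤ normalizer (U : Set G) ∧ ¬ X ≤ centralizer (U : Set G)
  have hP : ∃ d, P d := ⟨_, Q, rfl, le_rfl, hsQ, hXQ, hnc⟩
  obtain ⟨D, hDd, hDQ, hsD, hXD, hD⟩ := Nat.find_spec hP
  have hmin : ∀ U : Subgroup G, U ≤ D → s ∈ normalizer (U : Set G) →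
      X ≤ normalizer (U : Set G) → ¬ X ≤ centralizer (U : Set G) → U = D := fun U h1 h2 h3 h4 =>
    Subgroup.eq_of_le_of_card_ge h1 (hDd ▸ Nat.find_min' hP ⟨U, rfl, h1.trans hDQ, h2, h3, h4⟩)
  have hDp : IsPGroup q D := hQ.to_le hDQ
  have hcopD : (Nat.card X).Coprime (Nat.card D) :=
    hcop.coprime_dvd_right (card_dvd_of_le hDQ)
  have hsol : Group.IsSolvable X ∨ Group.IsSolvable D :=
    Or.inr (Cfsg.Agent.CoprimeAction.isSolvable_of_isPGroup hDp)
  -- `D = [D, X]`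
  have hgen : ⁅D, X⁆ = D := by
    refine hmin _ (Cfsg.Agent.CoprimeAction.commutator_le_self_of_le_normalizer hXD) ?_
      (Subgroup.normalizer_commutator_ge_right D X) fun h => hD ?_
    · rw [mem_normalizer_iff_map_conj_eq, map_commutator, mem_normalizer_iff_map_conj_eq.mp hsD,
        mem_normalizer_iff_map_conj_eq.mp hsX]
    · refine Cfsg.Agent.CoprimeAction.le_centralizer_of_commutator_commutator_eq_bot hXD hcopD
        hsol ?_
      rw [commutator_comm]
      exact commutator_eq_bot_iff_le_centralizer.mpr h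
  -- the subgroup of powers and commutators is proper
  set S : Set G := {g | ∃ u ∈ D, g = u ^ q} ∪ {g | ∃ u ∈ D, ∃ v ∈ D, g = ⁅u, v⁆} with hS
  set F := closure S
  have hFD : F ≤ D := by
    refine (closure_le _).mpr ?_
    rintro g (⟨u, hu, rfl⟩ | ⟨u, hu, v, hv, rfl⟩)
    · exact pow_mem hu q
    · rw [SetLike.mem_coe, commutatorElement_def]
      exact mul_mem (mul_mem (mul_mem hu hv) (inv_mem hu)) (inv_mem hv)
  have hFn : ∀ g ∈ normalizer (D : Set G), g ∈ normalizer (F : Set G) := by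
    intro g hg
    refine mem_normalizer_iff_map_conj_eq.mpr (Subgroup.eq_of_le_of_card_ge ?_ (le_of_eq
      (Subgroup.card_map_of_injective (MulAut.conj g).injective).symm))
    refine map_le_iff_le_comap.mpr ((closure_le _).mpr ?_)
    rintro x (⟨u, hu, rfl⟩ | ⟨u, hu, v, hv, rfl⟩)
    · rw [SetLike.mem_coe, mem_comap, map_pow]
      exact subset_closure (Or.inl ⟨_, Cfsg.Agent.CoprimeAction.conj_mem hg hu, rfl⟩)
    · rw [SetLike.mem_coe, mem_comap, map_commutatorElement]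
      exact subset_closure (Or.inr ⟨_, Cfsg.Agent.CoprimeAction.conj_mem hg hu, _,
        Cfsg.Agent.CoprimeAction.conj_mem hg hv, rfl⟩)
  have hFlt : F ≠ D := by
    intro hFe
    obtain ⟨k, hk⟩ := IsPGroup.iff_card.mp hDp
    have hk0 : 1 ≤ k := by
      by_contra h0
      rw [show k = 0 by omega, pow_zero, card_eq_one] at hk
      exact hD (by rw [hk]; exact fun x _ => by simp [mem_centralizer_iff])
    obtain ⟨M, hM⟩ := Sylow.exists_subgroup_card_pow_prime (G := D) q (n := k - 1)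
      (hk ▸ pow_dvd_pow q (Nat.sub_le _ _))
    have hidx : M.index = q := by
      have h1 := M.card_mul_index
      rw [hk, hM] at h1
      conv_rhs at h1 => rw [show k = k - 1 + 1 by omega, pow_succ]
      exact Nat.eq_of_mul_eq_mul_left (pow_pos (Fact.out : q.Prime).pos _) h1
    have hMn : M.Normal := Subgroup.normal_of_index_eq_minFac_card (by
      rw [hidx, hk, (Fact.out : q.Prime).pow_minFac (by omega)])
    have hcy : IsCyclic (D ⧸ M) := isCyclic_of_prime_card (p := q) (by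
      rw [← Subgroup.index_eq_card, hidx])
    have hle : F ≤ M.map D.subtype := by
      refine (closure_le _).mpr ?_
      rintro g (⟨u, hu, rfl⟩ | ⟨u, hu, v, hv, rfl⟩)
      · refine ⟨(⟨u, hu⟩ : D) ^ q, ?_, rfl⟩
        rw [SetLike.mem_coe, ← QuotientGroup.eq_one_iff, QuotientGroup.mk_pow, ← hidx,
          Subgroup.index_eq_card]
        exact pow_card_eq_one'
      · refine ⟨⁅(⟨u, hu⟩ : D), ⟨v, hv⟩⁆, ?_, rfl⟩
        rw [SetLike.mem_coe, ← QuotientGroup.eq_one_iff]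
        show QuotientGroup.mk' M ⁅(⟨u, hu⟩ : D), ⟨v, hv⟩⁆ = 1
        rw [map_commutatorElement, commutatorElement_eq_one_iff_mul_comm]
        obtain ⟨g, hg⟩ := hcy.exists_generator
        obtain ⟨i, hi⟩ := mem_zpowers_iff.mp (hg (QuotientGroup.mk' M ⟨u, hu⟩))
        obtain ⟨j, hj⟩ := mem_zpowers_iff.mp (hg (QuotientGroup.mk' M ⟨v, hv⟩))
        rw [← hi, ← hj]
        exact zpow_mul_comm g i j
    have h2 : D ≤ M.map D.subtype := le_trans (le_of_eq hFe.symm) hle
    have h3 : Nat.card D ≤ Nat.card M := by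
      have := Subgroup.card_le_of_le h2
      rwa [Subgroup.card_map_of_injective D.subtype_injective] at this
    rw [hk, hM] at h3
    have := Nat.pow_lt_pow_right (Fact.out : q.Prime).one_lt (show k - 1 < k by omega)
    omega
  have hXF : X ≤ centralizer (F : Set G) := by
    by_contra h
    exact hFlt (hmin F hFD (hFn s hsD) (fun x hx => hFn x (hXD hx)) h)
  -- hence central in `D`
  have hDF : ⁅⁅D, X⁆, F⁆ = ⊥ := by
    have h1 : ⁅⁅X, F⁆, D⁆ = ⊥ := by
      rw [commutator_eq_bot_iff_le_centralizer.mpr hXF, commutator_bot_left]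
    have h2 : ⁅⁅F, D⁆, X⁆ = ⊥ := by
      refine eq_bot_iff.mpr ((commutator_mono (H₁ := ⁅F, D⁆) (K₁ := F) ?_ le_rfl).trans (le_of_eq
        ?_))
      · rw [commutator_le]
        intro a ha b hb
        exact subset_closure (Or.inr ⟨a, hFD ha, b, hb, rfl⟩)
      · rw [commutator_comm]
        exact commutator_eq_bot_iff_le_centralizer.mpr hXF
    exact commutator_commutator_eq_bot_of_rotate h1 h2
  rw [hgen, commutator_eq_bot_iff_le_centralizer] at hDF
  have hFc : F ≤ ctr D := le_inf hFD fun a ha => mem_centralizer_iff.mpr fun d hd =>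
    (mem_centralizer_iff.mp (hDF hd) a ha).symm
  refine ⟨D, hDQ, hsD, hXD, hD, hgen, fun u hu => hFc (subset_closure (Or.inl ⟨u, hu, rfl⟩)),
    fun u hu v hv => hFc (subset_closure (Or.inr ⟨u, hu, v, hv, rfl⟩)), ?_⟩
  rintro ⟨u, hu, v, hv, huv⟩
  by_contra h
  have := hmin (ctr D) inf_le_left
    (Cfsg.Agent.CoprimeAction.le_normalizer_inf (Subgroup.zpowers_le.mpr hsD)
      (Subgroup.zpowers_le.mpr (mem_normalizer_centralizer hsD)) (Subgroup.mem_zpowers s))
    (Cfsg.Agent.CoprimeAction.le_normalizer_inf hXD fun x hx =>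
      mem_normalizer_centralizer (hXD hx)) h
  rw [← this] at hv
  exact huv (mem_centralizer_iff.mp hv.2 u hu)

/-- The data around a minimal subgroup. -/
structure MData {K W G : Type*} [Field K] [Group G] [AddCommGroup W] [Module K W] (q e : ℕ)
    (ρ : Representation K G W) (s : G) (D X : Subgroup G) : Prop where
  hρ : Function.Injective ρ
  hq : q.Prime
  hq2 : q ≠ 2
  hqK : (q : K) ≠ 0
  h2K : (2 : K) ≠ 0
  he : 1 ≤ e
  hse : s ^ 2 ^ e = 1
  hN : ∑ k ∈ Finset.range (2 ^ e), ρ s ^ k = 0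
  hsD : s ∈ normalizer (D : Set G)
  hsX : s ∈ normalizer (X : Set G)
  hfpf : ∀ d ∈ D, s * d = d * s → d = 1
  hD : IsPGroup q D
  hXD : X ≤ normalizer (D : Set G)
  hgen : ⁅D, X⁆ = D
  hexp : ∀ u ∈ D, u ^ q ∈ ctr D
  hcls : ∀ u ∈ D, ∀ v ∈ D, ⁅u, v⁆ ∈ ctr D
  hnab : ∃ u ∈ D, ∃ v ∈ D, u * v ≠ v * u
  hXc : X ≤ centralizer (ctr D : Set G)

variable {K W : Type*} {G : Type u} [Field K] [IsAlgClosed K] [Group G] [Finite G] [AddCommGroup W]
  [Module K W] [FiniteDimensional K W]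
variable {q e : ℕ} {ρ : Representation K G W} {s : G} {D X : Subgroup G}

theorem MData.descend (h : MData q e ρ s D X) :
    ∃ f, 1 ≤ f ∧ f < e ∧ ∃ (U : Submodule K W),
      D ≤ HallHigman.preserving ρ U ∧ X ≤ HallHigman.preserving ρ U ∧ s ^ 2 ^ f ∈ HallHigman.preserving ρ U ∧
      (∀ hy : s ^ 2 ^ f ∈ HallHigman.preserving ρ U,
        LData q (e - f) (imageRep (subRep ρ U))
          (QuotientGroup.mk' _ (⟨s ^ 2 ^ f, hy⟩ : HallHigman.preserving ρ U))
          ((D.subgroupOf (HallHigman.preserving ρ U)).map (QuotientGroup.mk' _))) ∧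
      ∃ x ∈ X, ∃ u ∈ D, ∃ v ∈ D, ∃ w ∈ U, ρ ⁅⁅x, u⁆, v⁆ w ≠ w := by
  classical
  obtain ⟨x, hx, u, hu, v, hv, hne⟩ : ∃ x ∈ X, ∃ u ∈ D, ∃ v ∈ D, ⁅⁅x, u⁆, v⁆ ≠ 1 := by
    by_contra hall
    push Not at hall
    have hle : D ≤ centralizer (D : Set G) := by
      conv_lhs => rw [← h.hgen]
      rw [commutator_le]
      intro u hu x hx
      rw [← commutatorElement_inv x u]
      refine inv_mem (mem_centralizer_iff.mpr fun v hv => ?_)
      exact (commutatorElement_eq_one_iff_mul_comm.mp (hall x hx u hu v hv)).symm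
    obtain ⟨u, hu, v, hv, huv⟩ := h.hnab
    exact huv (mem_centralizer_iff.mp (hle hv) u hu)
  have hxu : ⁅x, u⁆ ∈ D := by
    rw [commutatorElement_def]
    exact mul_mem (Cfsg.Agent.CoprimeAction.conj_mem (h.hXD hx) hu) (inv_mem hu)
  set c := ⁅⁅x, u⁆, v⁆
  have hc : c ∈ ctr D := h.hcls _ hxu _ hv
  have hAc : ∀ a ∈ ctr D, ∀ b ∈ ctr D, a * b = b * a := fun a ha b hb =>
    Subgroup.mem_centralizer_iff.mp hb.2 a ha.1
  have hsA : s ∈ normalizer (ctr D : Set G) :=
    Cfsg.Agent.CoprimeAction.le_normalizer_inf (Subgroup.zpowers_le.mpr h.hsD)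
      (Subgroup.zpowers_le.mpr (mem_normalizer_centralizer h.hsD)) (Subgroup.mem_zpowers s)
  have hcardA : (Nat.card (ctr D : Subgroup G) : K) ≠ 0 := by
    have := Fact.mk h.hq
    obtain ⟨k, hk⟩ := IsPGroup.iff_card.mp (h.hD.to_le (inf_le_left : ctr D ≤ D))
    rw [hk, Nat.cast_pow]
    exact pow_ne_zero _ h.hqK
  have hs0 : ∀ a ∈ ctr D, s ^ 2 ^ (e - 1) * a = a * s ^ 2 ^ (e - 1) :=
    commute_top_of_comm Nat.prime_two h.hq h.hq2.symm h.hqK h.hρ h.he h.hse h.hN
      (h.hD.to_le inf_le_left) hsA hAc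
  -- a character not killing `c`
  obtain ⟨l, w, hw, hcw⟩ : ∃ l : ↥(ctr D) →* K, ∃ w ∈ eig ρ l, ρ c w ≠ w := by
    by_contra hall
    push Not at hall
    refine hne (h.hρ ?_)
    rw [map_one]
    refine LinearMap.ext fun w => ?_
    have hle : (⊤ : Submodule K W) ≤ LinearMap.ker (ρ c - 1) := by
      rw [← iSup_eig_eq_top ρ hAc hcardA]
      exact iSup_le fun l v hv => by
        rw [LinearMap.mem_ker, LinearMap.sub_apply, hall l v hv, Module.End.one_apply, sub_self]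
    have := LinearMap.mem_ker.mp (hle (Submodule.mem_top (x := w)))
    rwa [LinearMap.sub_apply, sub_eq_zero] at this
  obtain ⟨f, hf, hfS, hdesc⟩ := exists_descent_eig Nat.prime_two h.he ρ hcardA hsA h.hse hs0 l
  -- the character is not fixed by `s`
  have hf1 : 1 ≤ f := by
    by_contra h0
    rw [show f = 0 by omega, pow_zero, pow_one] at hfS
    let φ : ↥(ctr D) → ↥(ctr D) := fun a => ⟨(a : G)⁻¹ * (s * a * s⁻¹),
      mul_mem (inv_mem a.2) (Cfsg.Agent.CoprimeAction.conj_mem hsA a.2)⟩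
    have hinj : Function.Injective φ := by
      intro a b hab
      have h1 : (a : G)⁻¹ * (s * a * s⁻¹) = (b : G)⁻¹ * (s * b * s⁻¹) := congrArg Subtype.val hab
      have h2 : (b : G) * (a : G)⁻¹ = (s * b * s⁻¹) * (s * a * s⁻¹)⁻¹ := by
        rw [eq_mul_inv_iff_mul_eq, mul_assoc, h1, mul_inv_cancel_left]
      have h3 : (b : G) * (a : G)⁻¹ = 1 := h.hfpf _ (mul_mem b.2.1 (inv_mem a.2.1)) (by
        conv_rhs => rw [h2]
        group)
      exact Subtype.ext (mul_inv_eq_one.mp h3).symm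
    obtain ⟨a, ha⟩ := Finite.injective_iff_surjective.mp hinj ⟨c, hc⟩
    let b : ↥(ctr D) := ⟨s * a * s⁻¹, Cfsg.Agent.CoprimeAction.conj_mem hsA a.2⟩
    have hlc : l ⟨c, hc⟩ = 1 := by
      rw [← ha, show φ a = a⁻¹ * b from Subtype.ext rfl, map_mul, hfS.2 a b rfl, ← map_mul,
        inv_mul_cancel, map_one]
    exact hcw (by rw [hw ⟨c, hc⟩, hlc, one_smul])
  set U := eig ρ l
  have hDU : D ≤ HallHigman.preserving ρ U := fun d hd => charStab_le_preserving ρ l
    (centralizer_le_charStab l fun a ha => Subgroup.mem_centralizer_iff.mp ha.2 d hd)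
  refine ⟨f, hf1, hf, U, hDU, fun b hb => charStab_le_preserving ρ l
    (centralizer_le_charStab l fun a ha => (mem_centralizer_iff.mp (h.hXc hb) a ha).symm),
    charStab_le_preserving ρ l hfS, fun hy => ?_, x, hx, u, hu, v, hv, w, hw, hcw⟩
  set P := HallHigman.preserving ρ U
  set π := QuotientGroup.mk' (MonoidHom.ker (subRep ρ U))
  refine ⟨imageRep_injective _, h.hq, h.hq2, h.hqK, h.h2K, by omega, ?_, ?_, ?_, ?_, ?_, ?_⟩
  · rw [← map_pow, show (⟨s ^ 2 ^ f, hy⟩ : P) ^ 2 ^ (e - f) = 1 from Subtype.ext (by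
      rw [Subgroup.coe_pow, Subgroup.coe_one, ← pow_mul, ← pow_add, Nat.add_sub_cancel' hf.le,
        h.hse]), map_one]
  · simp only [π, imageRep_mk]
    refine LinearMap.ext fun z => Subtype.ext ?_
    have h1 := hdesc 1 (2 ^ (e - f)) (fun b _ => Commute.one_left _) (by
      rw [one_mul, ← pow_add, Nat.add_sub_cancel' hf.le]; exact h.hN) (z : W) z.2
    rw [Module.End.one_apply] at h1
    rw [LinearMap.sum_apply, Submodule.coe_sum]
    simp only [← map_pow] at h1 ⊢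
    exact h1
  · refine le_normalizer_map π ⟨_, ?_, rfl⟩
    rw [SetLike.mem_coe, mem_normalizer_iff]
    exact fun g => mem_normalizer_iff.mp (pow_mem h.hsD _) (g : G)
  · exact h.hD.comap_subtype.map π
  · rintro _ ⟨a, ha, rfl⟩
    rw [← map_pow]
    refine ⟨⟨_, pow_mem ha q, rfl⟩, mem_centralizer_iff.mpr ?_⟩
    rintro _ ⟨b, hb, rfl⟩
    rw [← map_mul, ← map_mul]
    exact congrArg π (Subtype.ext (mem_centralizer_iff.mp (h.hexp a ha).2 b hb))
  · rintro _ ⟨a, ha, rfl⟩ _ ⟨b, hb, rfl⟩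
    refine ⟨l ⟨⁅(a : G), (b : G)⁆, h.hcls _ ha _ hb⟩, ?_⟩
    rw [← map_commutatorElement, imageRep_mk]
    exact LinearMap.ext fun z => Subtype.ext (z.2 ⟨⁅(a : G), (b : G)⁆, h.hcls _ ha _ hb⟩)

/-- The elements acting trivially on `D` modulo its centre. -/
def quotCentralizer {H : Type*} [Group H] (D : Subgroup H) : Subgroup H where
  carrier := {g | g ∈ normalizer (D : Set H) ∧ ∀ u ∈ D, g * u * g⁻¹ * u⁻¹ ∈ ctr D}
  one_mem' := ⟨one_mem _, fun u _ => by simp⟩
  mul_mem' := by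
    rintro a b ⟨ha, ha'⟩ ⟨hb, hb'⟩
    refine ⟨mul_mem ha hb, fun u hu => ?_⟩
    rw [show a * b * u * (a * b)⁻¹ * u⁻¹ =
      (a * (b * u * b⁻¹) * a⁻¹ * (b * u * b⁻¹)⁻¹) * (b * u * b⁻¹ * u⁻¹) by group]
    exact mul_mem (ha' _ (Cfsg.Agent.CoprimeAction.conj_mem hb hu)) (hb' u hu)
  inv_mem' := by
    rintro a ⟨ha, ha'⟩
    refine ⟨inv_mem ha, fun u hu => ?_⟩
    have h1 := inv_mem (ha' _ (Cfsg.Agent.CoprimeAction.conj_mem (inv_mem ha) hu))
    simpa [mul_assoc] using h1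

theorem conj_mem_quotCentralizer {H : Type*} [Group H] {D : Subgroup H} {x a : H}
    (hx : x ∈ normalizer (D : Set H)) (ha : a ∈ quotCentralizer D) :
    x * a * x⁻¹ ∈ quotCentralizer D := by
  refine ⟨mul_mem (mul_mem hx ha.1) (inv_mem hx), fun u hu => ?_⟩
  have h1 := ha.2 _ (Cfsg.Agent.CoprimeAction.conj_mem (inv_mem hx) hu)
  have hn : x ∈ normalizer (ctr D : Set H) :=
    Cfsg.Agent.CoprimeAction.le_normalizer_inf (Subgroup.zpowers_le.mpr hx)
      (Subgroup.zpowers_le.mpr (mem_normalizer_centralizer hx)) (Subgroup.mem_zpowers x)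
  have h2 := Cfsg.Agent.CoprimeAction.conj_mem hn h1
  simpa [mul_assoc] using h2

/-- With the involution as acting group the exponent is at least three. -/
theorem MData.three_le (h : MData q e ρ s D X) (hX : X = zpowers (s ^ 2 ^ (e - 1))) : 3 ≤ e := by
  classical
  obtain ⟨f, hf1, hf, U, hDU, hXU, hyU, hL, x, hx, u, hu, v, hv, w, hw, hne⟩ := h.descend
  set P := HallHigman.preserving ρ U
  set π := QuotientGroup.mk' (MonoidHom.ker (subRep ρ U))
  set D' := (D.subgroupOf P).map π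
  set y' := π ⟨s ^ 2 ^ f, hyU⟩
  have htP : s ^ 2 ^ (e - 1) ∈ P := by
    have := pow_mem hyU (2 ^ (e - f - 1))
    rwa [← pow_mul, ← pow_add, show f + (e - f - 1) = e - 1 by omega] at this
  have hy't : y' ^ 2 ^ (e - f - 1) = π ⟨s ^ 2 ^ (e - 1), htP⟩ := by
    rw [← map_pow]
    exact congrArg π (Subtype.ext (by
      rw [Subgroup.coe_pow, ← pow_mul, ← pow_add, show f + (e - f - 1) = e - 1 by omega]))
  obtain ⟨f', hf', -, ha2, -⟩ := (hL hyU).plane (by
    by_contra hall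
    push Not at hall
    have hyn : y' ∈ normalizer (D' : Set (↥P ⧸ MonoidHom.ker (subRep ρ U))) := (hL hyU).hyD
    have ht : y' ^ 2 ^ (e - f - 1) ∈ quotCentralizer D' := ⟨pow_mem hyn _, hall⟩
    have hxP : (⟨x, hXU hx⟩ : P) ∈ ((quotCentralizer D').comap π) := by
      subst hX
      obtain ⟨i, rfl⟩ := mem_zpowers_iff.mp hx
      rw [hy't] at ht
      exact (SetLike.mem_coe.mp (zpow_mem (K := (quotCentralizer D').comap π) ht i))
    obtain ⟨-, hxc⟩ := hxP
    have h1 := (hxc (π ⟨u, hDU hu⟩) ⟨_, hu, rfl⟩).2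
    have h2 := mem_centralizer_iff.mp h1 (π ⟨v, hDU hv⟩) ⟨_, hv, rfl⟩
    have h3 : π ⁅⁅(⟨x, hXU hx⟩ : P), (⟨u, hDU hu⟩ : P)⁆, (⟨v, hDU hv⟩ : P)⁆ = 1 := by
      rw [map_commutatorElement, map_commutatorElement, commutatorElement_eq_one_iff_mul_comm]
      exact h2.symm
    have h4 := (QuotientGroup.eq_one_iff _).mp h3
    exact hne (congrArg Subtype.val (LinearMap.congr_fun (MonoidHom.mem_ker.mp h4) ⟨w, hw⟩)))
  omega

/-- A group generated by its commutators with the involution cannot act. -/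
theorem MData.false_of_gen (h : MData q e ρ s D X) {r : ℕ} (hr : r.Prime) (hr2 : r ≠ 2)
    (hrq : r ≠ q) (hX : IsPGroup r X) (hXt : ⁅X, zpowers (s ^ 2 ^ (e - 1))⁆ = X) : False := by
  classical
  obtain ⟨f, hf1, hf, U, hDU, hXU, hyU, hL, x, hx, u, hu, v, hv, w, hw, hne⟩ := h.descend
  have := Fact.mk h.hq
  set P := HallHigman.preserving ρ U
  set π := QuotientGroup.mk' (MonoidHom.ker (subRep ρ U))
  set D' := (D.subgroupOf P).map π
  set y' := π ⟨s ^ 2 ^ f, hyU⟩
  have htP : s ^ 2 ^ (e - 1) ∈ P := by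
    have := pow_mem hyU (2 ^ (e - f - 1))
    rwa [← pow_mul, ← pow_add, show f + (e - f - 1) = e - 1 by omega] at this
  have hy't : y' ^ 2 ^ (e - f - 1) = π ⟨s ^ 2 ^ (e - 1), htP⟩ := by
    rw [← map_pow]
    exact congrArg π (Subtype.ext (by
      rw [Subgroup.coe_pow, ← pow_mul, ← pow_add, show f + (e - f - 1) = e - 1 by omega]))
  set X' := (X.subgroupOf P).map π with hX'
  have hgen' : ⁅X', zpowers (y' ^ 2 ^ (e - f - 1))⁆ = X' := by
    rw [hy't, hX', ← MonoidHom.map_zpowers, ← map_commutator]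
    congr 1
    apply map_injective P.subtype_injective
    rw [map_commutator, MonoidHom.map_zpowers, map_subgroupOf_eq_of_le hXU]
    exact hXt
  have hXn : X' ≤ normalizer (D' : Set (↥P ⧸ MonoidHom.ker (subRep ρ U))) := by
    rintro _ ⟨a, ha, rfl⟩
    refine le_normalizer_map π ⟨a, ?_, rfl⟩
    rw [SetLike.mem_coe, mem_normalizer_iff]
    exact fun g => mem_normalizer_iff.mp (h.hXD ha) (g : G)
  have hfin : ¬ π ⟨x, hXU hx⟩ ∈ quotCentralizer D' := by
    rintro ⟨-, hxc⟩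
    have h1 := (hxc (π ⟨u, hDU hu⟩) ⟨_, hu, rfl⟩).2
    have h2 := mem_centralizer_iff.mp h1 (π ⟨v, hDU hv⟩) ⟨_, hv, rfl⟩
    have h3 : π ⁅⁅(⟨x, hXU hx⟩ : P), (⟨u, hDU hu⟩ : P)⁆, (⟨v, hDU hv⟩ : P)⁆ = 1 := by
      rw [map_commutatorElement, map_commutatorElement, commutatorElement_eq_one_iff_mul_comm]
      exact h2.symm
    have h4 := (QuotientGroup.eq_one_iff _).mp h3
    exact hne (congrArg Subtype.val (LinearMap.congr_fun (MonoidHom.mem_ker.mp h4) ⟨w, hw⟩))
  have hyn : y' ∈ normalizer (D' : Set (↥P ⧸ MonoidHom.ker (subRep ρ U))) := (hL hyU).hyD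
  obtain ⟨f', hf', heq, ha2, V, _, _, _, σ, β, hker, hl, hr', hss, hinv, hcard, hnd, htwo⟩ :=
    (hL hyU).plane (by
      by_contra hall
      push Not at hall
      have ht : y' ^ 2 ^ (e - f - 1) ∈ quotCentralizer D' := ⟨pow_mem hyn _, hall⟩
      refine hfin ?_
      have hle : X' ≤ quotCentralizer D' := by
        rw [← hgen', commutator_le]
        intro a ha b hb
        have hbS : b ∈ quotCentralizer D' := zpowers_le.mpr ht hb
        rw [commutatorElement_def]
        exact mul_mem (conj_mem_quotCentralizer (hXn ha) hbS) (inv_mem hbS)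
      exact hle ⟨_, hx, rfl⟩)
  let N := normalizer (D' : Set (↥P ⧸ MonoidHom.ker (subRep ρ U)))
  set yN : ↥N := ⟨y', hyn⟩
  have hyX : y' ∈ normalizer (X' : Set (↥P ⧸ MonoidHom.ker (subRep ρ U))) := by
    refine le_normalizer_map π ⟨_, ?_, rfl⟩
    rw [SetLike.mem_coe, mem_normalizer_iff]
    exact fun g => mem_normalizer_iff.mp (pow_mem h.hsX _) (g : G)
  have hpow : (yN ^ 2 ^ f') ^ 2 ^ (e - f - f' - 1) = yN ^ 2 ^ (e - f - 1) := by
    rw [← pow_mul, ← pow_add, show f' + (e - f - f' - 1) = e - f - 1 by omega]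
  have htriv := second_level h.hq2 σ (y := yN ^ 2 ^ f') (e := e - f - f') ha2 (by
      rw [← pow_mul, ← pow_add, show f' + (e - f - f') = e - f by omega]
      exact Subtype.ext (hL hyU).hye) heq
    (R := X'.subgroupOf N) hr hr2 hrq ((hX.comap_subtype.map π).comap_subtype) (by
      rw [mem_normalizer_iff]
      exact fun g => mem_normalizer_iff.mp (pow_mem hyX _) (g : _)) (by
      rw [hpow]
      apply map_injective N.subtype_injective
      rw [map_commutator, MonoidHom.map_zpowers, map_subgroupOf_eq_of_le hXn]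
      exact hgen')
    β hl hr' hss hinv (by rw [hpow]; exact hcard) (by rw [hpow]; exact hnd)
    (fun h2 w' hw' => by rw [hpow] at hw'; exact htwo h2 w' hw')
  refine hfin ⟨hXn ⟨_, hx, rfl⟩, ?_⟩
  exact hker ⟨π ⟨x, hXU hx⟩, hXn ⟨_, hx, rfl⟩⟩ (htriv _ (show π ⟨x, hXU hx⟩ ∈ X' from ⟨_, hx, rfl⟩))

end Cfsg.Agent.GrossTwo
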