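import Cfsg.Agent.Lib.HallHigmanB

/-!
# Eigenspaces of an abelian group and descent of the polynomial of an element
-/

set_option autoImplicit false

namespace Cfsg.Agent.HallHigman

open Subgroup Module

variable {K G W : Type*} [Field K] [Group G] [AddCommGroup W] [Module K W]

/-- The common eigenspace of `A` for the character `l`. -/
def eig (ρ : Representation K G W) {A : Subgroup G} (l : A →* K) : Submodule K W where
  carrier := {w | ∀ a : A, ρ a w = l a • w}
  add_mem' := fun {v w} hv hw a => by rw [map_add, hv a, hw a, smul_add]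
  zero_mem' := fun a => by rw [map_zero, smul_zero]
  smul_mem' := fun c {w} hw a => by rw [map_smul, hw a, smul_comm]

theorem mem_eig {ρ : Representation K G W} {A : Subgroup G} {l : A →* K} {w : W} :
    w ∈ eig ρ l ↔ ∀ a : A, ρ a w = l a • w := Iff.rfl

/-- The elements normalising `A` and fixing the character `l`. -/
def charStab {A : Subgroup G} (l : A →* K) : Subgroup G where
  carrier := {g | g ∈ normalizer (A : Set G) ∧ ∀ a b : A, (b : G) = g * a * g⁻¹ → l b = l a}
  one_mem' := ⟨one_mem _, fun a b h => by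
    rw [show b = a from Subtype.ext (by simpa using h)]⟩
  mul_mem' := fun {g h} hg hh => ⟨mul_mem hg.1 hh.1, fun a b hab => by
    let c : A := ⟨h * a * h⁻¹, (mem_normalizer_iff.mp hh.1 a).mp a.2⟩
    rw [hg.2 c b (by rw [hab]; simp [c, mul_assoc]), hh.2 a c rfl]⟩
  inv_mem' := fun {g} hg => ⟨inv_mem hg.1, fun a b hab => (hg.2 b a (by rw [hab]; group)).symm⟩

theorem mem_charStab {A : Subgroup G} {l : A →* K} {g : G} :
    g ∈ charStab l ↔ g ∈ normalizer (A : Set G) ∧
      ∀ a b : A, (b : G) = g * a * g⁻¹ → l b = l a := Iff.rfl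

/-- What commutes with `A` fixes every character. -/
theorem centralizer_le_charStab {A : Subgroup G} (l : A →* K) {g : G}
    (hg : ∀ a ∈ A, g * a = a * g) : g ∈ charStab l :=
  ⟨centralizer_le_normalizer _ (mem_centralizer_iff.mpr fun a ha => (hg a ha).symm),
    fun a b hab => by
      rw [show b = a from Subtype.ext (by rw [hab, hg a a.2, mul_inv_cancel_right])]⟩

theorem charStab_le_preserving [Finite G] (ρ : Representation K G W) {A : Subgroup G}
    (l : A →* K) : charStab l ≤ preserving ρ (eig ρ l) := by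
  intro g hg w hw a
  have hn : (g⁻¹ * a * g : G) ∈ A := by
    simpa using (mem_normalizer_iff.mp (inv_mem hg.1) (a : G)).mp a.2
  rw [hg.2 ⟨_, hn⟩ a (by simp [mul_assoc]), ← map_smul, ← hw ⟨_, hn⟩, ← Module.End.mul_apply,
    ← Module.End.mul_apply, ← map_mul, ← map_mul]
  congr 2
  group

variable [Finite G]

/-- The eigenspaces of an abelian group of order prime to the characteristic span. -/
theorem iSup_eig_eq_top [IsAlgClosed K] [FiniteDimensional K W] (ρ : Representation K G W)
    {A : Subgroup G} (hA : ∀ a ∈ A, ∀ b ∈ A, a * b = b * a) (hcard : (Nat.card A : K) ≠ 0) :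
    ⨆ l : A →* K, eig ρ l = ⊤ := by
  classical
  have : Fintype A := Fintype.ofFinite A
  set S : Submodule K W := ⨆ l : A →* K, eig ρ l
  by_contra hS
  have : Nontrivial (W ⧸ S) := Submodule.Quotient.nontrivial_iff.mpr hS
  have hinv : ∀ a : A, ∀ w ∈ S, ρ a w ∈ S := by
    intro a w hw
    refine (iSup_le fun l v hv => ?_ : S ≤ S.comap (ρ a)) hw
    show ρ a v ∈ S
    rw [hv a]
    exact S.smul_mem _ (Submodule.mem_iSup_of_mem l hv)
  let τ : A →* Module.End K (W ⧸ S) :=
    { toFun := fun a => S.mapQ S (ρ a) (hinv a)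
      map_one' := Submodule.linearMap_qext _ (LinearMap.ext fun w => by simp)
      map_mul' := fun a b => Submodule.linearMap_qext _ (LinearMap.ext fun w => by
        show Submodule.Quotient.mk (ρ ((a * b : A) : G) w) = _
        rw [coe_mul, map_mul]; rfl) }
  obtain ⟨l, v, hv0, hv⟩ := exists_eigencharacter τ fun a b => by
    rw [← map_mul, ← map_mul]
    exact congrArg τ (Subtype.ext (hA a a.2 b b.2))
  obtain ⟨w, rfl⟩ := S.mkQ_surjective v
  set u : W := ∑ a : A, l a⁻¹ • ρ a w
  have hu : u ∈ S := by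
    refine Submodule.mem_iSup_of_mem l fun b => ?_
    rw [map_sum, Finset.smul_sum]
    refine Fintype.sum_equiv (Equiv.mulLeft b) _ _ fun a => ?_
    rw [map_smul, ← Module.End.mul_apply, ← map_mul, smul_smul, ← map_mul]
    show l a⁻¹ • ρ ((b * a : A) : G) w = l (b * (b * a)⁻¹) • ρ ((b * a : A) : G) w
    rw [mul_inv_rev, ← mul_assoc, show b * a⁻¹ * b⁻¹ = a⁻¹ from Subtype.ext (by
      show (b : G) * (a : G)⁻¹ * (b : G)⁻¹ = (a : G)⁻¹
      rw [hA b b.2 _ (inv_mem a.2), mul_inv_cancel_right])]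
  have h1 : S.mkQ u = (Nat.card A : K) • S.mkQ w := by
    rw [map_sum, Finset.sum_congr rfl (g := fun _ => S.mkQ w) fun a _ => ?_, Finset.sum_const,
      Finset.card_univ, ← Nat.card_eq_fintype_card, Nat.cast_smul_eq_nsmul]
    rw [map_smul, show S.mkQ (ρ a w) = τ a (S.mkQ w) from rfl, hv, smul_smul, ← map_mul,
      inv_mul_cancel, map_one, one_smul]
  rw [Submodule.mkQ_apply, (Submodule.Quotient.mk_eq_zero S).mpr hu, eq_comm, smul_eq_zero] at h1
  exact hv0 (h1.resolve_left hcard)

/-- Descent to an eigenspace: the least `p`-power of `y` fixing the character satisfies on the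
eigenspace the polynomial obtained from that of `y` by keeping every `p ^ f`-th term. -/
theorem exists_descent_eig {p e : ℕ} (hp : p.Prime) (he : 1 ≤ e) (ρ : Representation K G W)
    {A : Subgroup G} (hcard : (Nat.card A : K) ≠ 0) {y : G}
    (hyA : y ∈ normalizer (A : Set G)) (hye : y ^ p ^ e = 1)
    (hy0 : ∀ a ∈ A, y ^ p ^ (e - 1) * a = a * y ^ p ^ (e - 1)) (l : A →* K) :
    ∃ f < e, y ^ p ^ f ∈ charStab l ∧ ∀ (T : Module.End K W) (n : ℕ),
      (∀ a ∈ A, Commute T (ρ a)) → T * ∑ k ∈ Finset.range (p ^ f * n), ρ y ^ k = 0 →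
      ∀ w ∈ eig ρ l, T (∑ i ∈ Finset.range n, (ρ (y ^ p ^ f) ^ i) w) = 0 := by
  classical
  have hex : ∃ f, y ^ p ^ f ∈ charStab l := ⟨e - 1, centralizer_le_charStab l hy0⟩
  set f := Nat.find hex
  have hf : f ≤ e - 1 := Nat.find_min' hex (centralizer_le_charStab l hy0)
  refine ⟨f, by omega, Nat.find_spec hex, fun T n hT hpoly w hw => ?_⟩
  have hdvd : ∀ k, y ^ k ∈ charStab l → p ^ f ∣ k := by
    intro k hk
    rcases Nat.eq_zero_or_pos k with rfl | hk0
    · exact dvd_zero _
    obtain ⟨i, k', hk', rfl⟩ := Nat.exists_eq_pow_mul_and_not_dvd hk0.ne' p hp.ne_one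
    refine dvd_mul_of_dvd_left (pow_dvd_pow p ?_) _
    refine Nat.find_min' hex ?_
    have hcop : k'.Coprime (orderOf (y ^ p ^ i)) := by
      refine ((hp.coprime_iff_not_dvd.mpr hk').symm.pow_right e).coprime_dvd_right ?_
      exact orderOf_dvd_of_pow_eq_one (by rw [← pow_mul, mul_comm, pow_mul, hye, one_pow])
    obtain ⟨m, hm⟩ := exists_pow_eq_self_of_coprime hcop
    rw [← hm, ← pow_mul y]
    exact pow_mem hk m
  have : Fintype A := Fintype.ofFinite A
  have hproj : ∀ k, ∑ a : A, l a⁻¹ • ρ a (ρ (y ^ k) w) =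
      if p ^ f ∣ k then (Nat.card A : K) • ρ (y ^ k) w else 0 := by
    intro k
    split_ifs with hk
    · obtain ⟨i, rfl⟩ := hk
      have hmem : ρ (y ^ (p ^ f * i)) w ∈ eig ρ l := by
        rw [pow_mul]
        exact charStab_le_preserving ρ l (pow_mem (Nat.find_spec hex) i) w hw
      rw [Finset.sum_congr rfl (g := fun _ => ρ (y ^ (p ^ f * i)) w) fun a _ => ?_,
        Finset.sum_const, Finset.card_univ, ← Nat.card_eq_fintype_card, Nat.cast_smul_eq_nsmul]
      rw [hmem a, smul_smul, ← map_mul, inv_mul_cancel, map_one, one_smul]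
    · have hn : y ^ k ∈ normalizer (A : Set G) := pow_mem hyA k
      obtain ⟨a, b, hab, hne⟩ : ∃ a b : A, (b : G) = y ^ k * a * (y ^ k)⁻¹ ∧ l b ≠ l a := by
        by_contra hall
        push Not at hall
        exact hk (hdvd k ⟨hn, hall⟩)
      set S := ∑ c : A, l c⁻¹ • ρ c (ρ (y ^ k) w)
      have h1 : ∑ c : A, l c⁻¹ • ρ c (ρ b (ρ (y ^ k) w)) = l b • S := by
        rw [Finset.smul_sum]
        refine Fintype.sum_equiv (Equiv.mulRight b) _ _ fun c => ?_
        rw [Equiv.coe_mulRight, ← Module.End.mul_apply (ρ c), ← map_mul, smul_smul, ← map_mul]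
        congr 1
        rw [mul_inv_rev, mul_inv_cancel_left]
      have h2 : ρ b (ρ (y ^ k) w) = l a • ρ (y ^ k) w := by
        rw [← Module.End.mul_apply, ← map_mul, hab, inv_mul_cancel_right, map_mul,
          Module.End.mul_apply, hw a, map_smul]
      simp only [h2, map_smul] at h1
      rw [Finset.sum_congr rfl fun c _ => smul_comm (l c⁻¹) (l a) _, ← Finset.smul_sum,
        ← sub_eq_zero, ← sub_smul, smul_eq_zero, sub_eq_zero] at h1
      exact h1.resolve_left (Ne.symm hne)
  have h0 : T (∑ k ∈ Finset.range (p ^ f * n), if p ^ f ∣ k then (Nat.card A : K) • ρ (y ^ k) w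
      else 0) = 0 := by
    rw [← Finset.sum_congr rfl fun k _ => hproj k, Finset.sum_comm, map_sum]
    refine Finset.sum_eq_zero fun a _ => ?_
    have h3 := LinearMap.congr_fun hpoly w
    rw [Module.End.mul_apply, LinearMap.sum_apply, LinearMap.zero_apply] at h3
    simp only [← map_pow] at h3
    rw [← Finset.smul_sum, map_smul, ← map_sum, ← Module.End.mul_apply, (hT a a.2).eq,
      Module.End.mul_apply, h3, map_zero, smul_zero]
  rw [← Finset.sum_filter, ← Finset.smul_sum, map_smul, smul_eq_zero] at h0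
  refine Eq.trans (congrArg T ?_) (h0.resolve_left hcard)
  have hpf := pow_pos hp.pos f
  refine Finset.sum_bij' (fun j _ => p ^ f * j) (fun k _ => k / p ^ f) ?_ ?_ ?_ ?_ ?_
  · intro j hj
    exact Finset.mem_filter.mpr ⟨Finset.mem_range.mpr
      (Nat.mul_lt_mul_of_pos_left (Finset.mem_range.mp hj) hpf), dvd_mul_right _ _⟩
  · intro k hk
    refine Finset.mem_range.mpr ((Nat.div_lt_iff_lt_mul hpf).mpr ?_)
    rw [mul_comm]
    exact Finset.mem_range.mp (Finset.mem_filter.mp hk).1
  · intro j _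
    exact Nat.mul_div_cancel_left _ hpf
  · intro k hk
    exact Nat.mul_div_cancel' (Finset.mem_filter.mp hk).2
  · intro j _
    rw [← map_pow, ← pow_mul]

end Cfsg.Agent.HallHigman
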