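import Cfsg.Agent.Lib.HallHigmanSymplectic
import Cfsg.Agent.Lib.CoprimeAction
import Cfsg.Agent.Lib.PGroupsExtraspecial

/-!
# Cyclic groups acting fixed point freely on an extraspecial group
-/

set_option autoImplicit false

namespace Cfsg.Agent.HallHigman

open Subgroup Cfsg.Agent.PGroupsBasic Cfsg.Agent.PGroupsExtraspecial
open scoped commutatorElement

/-- A fixed point free automorphism of a non-degenerate biadditive form on a vector space of
dimension `2 n` over the prime field. -/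
theorem dvd_pow_of_form {p : ℕ} [hp : Fact p.Prime] {V : Type*} [AddCommGroup V]
    [Module (ZMod p) V] [Finite V] {n h : ℕ} (hV : Nat.card V = p ^ (2 * n))
    (hh : 0 < h) (hcop : h.Coprime p) (β : V → V → ZMod p)
    (hl : ∀ u u' v, β (u + u') v = β u v + β u' v) (hr : ∀ u v v', β u (v + v') = β u v + β u v')
    (hnd : ∀ u, (∀ v, β u v = 0) → u = 0) (f : V →+ V) (hβ : ∀ u v, β (f u) (f v) = β u v)
    (hfh : ∀ u, f^[h] u = u) (hfree : ∀ k, 0 < k → k < h → ∀ u, f^[k] u = u → u = 0) :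
    h ∣ p ^ n + 1 ∨ h ∣ p ^ n - 1 := by
  classical
  let B := LinearMap.mk₂ (ZMod p) β hl
    (fun c u v => ((AddMonoidHom.mk' (fun u => β u v) (fun u u' => hl u u' v)).toZModLinearMap
      p).map_smul c u)
    hr
    (fun c u v => ((AddMonoidHom.mk' (fun v => β u v) (fun v v' => hr u v v')).toZModLinearMap
      p).map_smul c v)
  let g : V →ₗ[ZMod p] V := f.toZModLinearMap p
  have hgk : ∀ (k : ℕ) (u : V), (g ^ k) u = f^[k] u := fun k u => Module.End.pow_apply g k u
  let bs := Module.finBasis (ZMod p) V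
  have hdim : Fintype.card (Fin (Module.finrank (ZMod p) V)) = 2 * n := by
    rw [Fintype.card_fin]
    rw [Module.natCard_eq_pow_finrank (K := ZMod p), Nat.card_zmod] at hV
    exact Nat.pow_right_injective hp.out.two_le hV
  refine dvd_pow_of_symplectic hdim hh hcop (LinearMap.toMatrixAlgEquiv bs g)
    (LinearMap.toMatrix₂ bs bs B) ?_ ?_ ?_ ?_
  · exact (LinearMap.separatingLeft_iff_det_ne_zero bs).mp hnd
  · have h1 : B.compl₁₂ g g = B := LinearMap.ext₂ fun u v => hβ u v
    conv_rhs => rw [← h1, LinearMap.toMatrix₂_compl₁₂ bs bs]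
    rfl
  · rw [← map_pow, ← map_one (LinearMap.toMatrixAlgEquiv bs)]
    congr 1
    refine LinearMap.ext fun u => ?_
    rw [hgk, hfh, Module.End.one_apply]
  · intro k hk0 hkh hdet
    rw [← map_pow, ← map_one (LinearMap.toMatrixAlgEquiv bs), ← map_sub] at hdet
    change (LinearMap.toMatrix bs bs (1 - g ^ k)).det = 0 at hdet
    rw [LinearMap.det_toMatrix] at hdet
    obtain ⟨u, hu, hu0⟩ := Submodule.exists_mem_ne_zero_of_ne_bot
      (LinearMap.bot_lt_ker_of_det_eq_zero hdet).ne'
    rw [LinearMap.mem_ker, LinearMap.sub_apply, Module.End.one_apply, hgk, sub_eq_zero] at hu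
    exact hu0 (hfree k hk0 hkh u hu.symm)

/-- The symplectic module `P ⧸ Z(P)` of an extraspecial group, read off a coprime element acting
fixed point freely. -/
theorem dvd_pow_of_extraspecial {G : Type*} [Group G] [Finite G] {p : ℕ} [hp : Fact p.Prime]
    (P : Subgroup G) (hP : Cfsg.IsExtraspecial p ↥P) (n : ℕ) (hn : Nat.card P = p ^ (2 * n + 1))
    {x : G} (hx1 : x ≠ 1) (hxN : x ∈ normalizer (P : Set G)) (hcop : (orderOf x).Coprime p)
    (hfix : ∀ k : ℕ, x ^ k ≠ 1 → ∀ a : ↥P, x ^ k * a = a * x ^ k ↔ a ∈ center ↥P) :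
    orderOf x ∣ p ^ n + 1 ∨ orderOf x ∣ p ^ n - 1 := by
  classical
  obtain ⟨z, hz, hzc⟩ := extraspecial_exists_z hP
  have hlog : ∀ a b : ↥P, ∃ k : ℕ, ⁅a, b⁆ = z ^ k := fun a b => by
    have := extraspecial_commInto hP hzc ⊤ a b (mem_top b)
    obtain ⟨k, hk⟩ := mem_powers_iff_mem_zpowers.mpr this
    exact ⟨k, hk.symm⟩
  choose e he using hlog
  let L : ↥P → ↥P → ZMod p := fun a b => (e a b : ZMod p)
  have hL : ∀ {a b : ↥P} {k : ℕ}, ⁅a, b⁆ = z ^ k → L a b = k := fun {a b k} h =>
    (ZMod.natCast_eq_natCast_iff' _ _ _).mpr ((pow_inj_mod hz _ _).mp ((he a b).symm.trans h))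
  have hcl : ∀ a a' b : ↥P, L (a * a') b = L a b + L a' b := fun a a' b => by
    rw [← Nat.cast_add]
    refine hL ?_
    rw [commutatorElement_mul_left_of_central (special_commutator_mem_center hP.1 a' b),
      pow_add, ← he, ← he]
  have hskew : ∀ a b : ↥P, L b a = -L a b := fun a b => by
    rw [eq_neg_iff_add_eq_zero, ← Nat.cast_add, ← Nat.cast_zero, ZMod.natCast_eq_natCast_iff']
    exact (pow_inj_mod hz _ _).mp (by rw [pow_add, ← he, ← he, ← commutatorElement_inv a b,
      inv_mul_cancel, pow_zero])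
  have hcr : ∀ a b b' : ↥P, L a (b * b') = L a b + L a b' := fun a b b' => by
    rw [hskew (b * b') a, hcl, neg_add, ← hskew b a, ← hskew b' a]
  have hLz : ∀ {c : ↥P}, c ∈ center ↥P → ∀ b, L c b = 0 := fun {c} hc b => by
    rw [← Nat.cast_zero]
    exact hL (by rw [pow_zero, commutatorElement_eq_one_iff_mul_comm]
                 exact (mem_center_iff.mp hc b).symm)
  have : IsMulCommutative (↥P ⧸ center ↥P) := ⟨⟨fun u v => by
    induction u using QuotientGroup.induction_on with
    | H a =>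
      induction v using QuotientGroup.induction_on with
      | H b =>
        rw [← QuotientGroup.mk_mul, ← QuotientGroup.mk_mul, QuotientGroup.eq, mul_inv_rev]
        have := special_commutator_mem_center hP.1 b⁻¹ a⁻¹
        rw [commutatorElement_def, inv_inv, inv_inv] at this
        simpa [mul_assoc] using this⟩⟩
  let : CommGroup (↥P ⧸ center ↥P) :=
    { (inferInstance : Group (↥P ⧸ center ↥P)) with mul_comm := mul_comm' }
  let V := Additive (↥P ⧸ center ↥P)
  let q : ↥P → V := fun a => Additive.ofMul (a : ↥P ⧸ center ↥P)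
  have hq : Function.Surjective q := fun u => by
    obtain ⟨a, ha⟩ := QuotientGroup.mk_surjective (Additive.toMul u)
    exact ⟨a, by simp [q, ha]⟩
  have hqm : ∀ a b, q (a * b) = q a + q b := fun a b => rfl
  have hq0 : ∀ a, q a = 0 ↔ a ∈ center ↥P := fun a => QuotientGroup.eq_one_iff a
  let : Module (ZMod p) V := AddCommGroup.zmodModule (n := p) (fun u => by
    obtain ⟨a, rfl⟩ := hq u
    have : p • q a = q (a ^ p) := rfl
    rw [this, hq0]
    exact special_pow_mem_center hP.1 a)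
  have : Finite V := inferInstanceAs (Finite (↥P ⧸ center ↥P))
  -- the form
  have hwd : ∀ {a a' b b' : ↥P}, q a = q a' → q b = q b' → L a b = L a' b' := by
    intro a a' b b' h1 h2
    have h1' : a⁻¹ * a' ∈ center ↥P := QuotientGroup.eq.mp h1
    have h2' : b⁻¹ * b' ∈ center ↥P := QuotientGroup.eq.mp h2
    rw [show a' = a * (a⁻¹ * a') by group, show b' = b * (b⁻¹ * b') by group, hcl, hLz h1', add_zero,
      hcr, hskew (b⁻¹ * b') a, hLz h2', neg_zero, add_zero]
  let B₀ : V → V → ZMod p := fun u v => L (Function.surjInv hq u) (Function.surjInv hq v)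
  have hB₀ : ∀ a b, B₀ (q a) (q b) = L a b := fun a b =>
    hwd (Function.surjInv_eq hq _) (Function.surjInv_eq hq _)
  have hBl : ∀ u u' v, B₀ (u + u') v = B₀ u v + B₀ u' v := fun u u' v => by
    obtain ⟨a, rfl⟩ := hq u; obtain ⟨a', rfl⟩ := hq u'; obtain ⟨b, rfl⟩ := hq v
    rw [← hqm, hB₀, hB₀, hB₀, hcl]
  have hBr : ∀ u v v', B₀ u (v + v') = B₀ u v + B₀ u v' := fun u v v' => by
    obtain ⟨a, rfl⟩ := hq u; obtain ⟨b, rfl⟩ := hq v; obtain ⟨b', rfl⟩ := hq v'
    rw [← hqm, hB₀, hB₀, hB₀, hcr]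
  -- the action
  let φ : MulAut ↥P := normalizerMonoidHom P ⟨x, hxN⟩
  have hφ : ∀ a : ↥P, ((φ a : ↥P) : G) = x * a * x⁻¹ := fun a => rfl
  have hφz : ∀ c ∈ center ↥P, φ c = c := fun c hc => Subtype.ext (by
    rw [hφ, mul_inv_eq_iff_eq_mul]
    simpa using (hfix 1 (by simpa using hx1) c).mpr hc)
  have hle : center ↥P ≤ (center ↥P).comap φ.toMonoidHom := fun c hc => by
    rw [mem_comap, MulEquiv.coe_toMonoidHom, hφz c hc]
    exact hc
  let f : V →+ V := MonoidHom.toAdditive
    (QuotientGroup.map (center ↥P) (center ↥P) φ.toMonoidHom hle)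
  have hf : ∀ a, f (q a) = q (φ a) := fun a => rfl
  have hfk : ∀ (k : ℕ) (a : ↥P), ∃ b : ↥P, f^[k] (q a) = q b ∧
      (b : G) = x ^ k * a * (x ^ k)⁻¹ := by
    intro k a
    induction k with
    | zero => exact ⟨a, rfl, by simp⟩
    | succ k ih =>
      obtain ⟨b, h1, h2⟩ := ih
      refine ⟨φ b, ?_, ?_⟩
      · rw [Function.iterate_succ_apply', h1, hf]
      · rw [hφ, h2, pow_succ']
        group
  have hcard : Nat.card V = p ^ (2 * n) := by
    have h1 : Nat.card (↥P ⧸ center ↥P) * Nat.card (center ↥P) = Nat.card ↥P :=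
      (card_eq_card_quotient_mul_card_subgroup (center ↥P)).symm
    rw [hP.2, hn, pow_succ] at h1
    exact Nat.eq_of_mul_eq_mul_right hp.out.pos h1
  refine dvd_pow_of_form hcard (orderOf_pos x) hcop B₀ hBl hBr ?_ f ?_ ?_ ?_
  · intro u hu
    obtain ⟨a, rfl⟩ := hq u
    rw [hq0, mem_center_iff]
    intro b
    refine (commutatorElement_eq_one_iff_mul_comm.mp ?_).symm
    have h1 := hu (q b)
    rw [hB₀] at h1
    rw [he a b, pow_eq_one_iff hz]
    exact (ZMod.natCast_eq_zero_iff _ _).mp h1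
  · intro u v
    obtain ⟨a, rfl⟩ := hq u; obtain ⟨b, rfl⟩ := hq v
    rw [hf, hf, hB₀, hB₀]
    refine hL ?_
    rw [← map_commutatorElement, he a b, map_pow, hφz z hz.1]
  · intro u
    obtain ⟨a, rfl⟩ := hq u
    obtain ⟨b, h1, h2⟩ := hfk (orderOf x) a
    rw [h1]
    congr 1
    exact Subtype.ext (by rw [h2, pow_orderOf_eq_one]; simp)
  · intro k hk0 hkh u hu
    obtain ⟨a, rfl⟩ := hq u
    obtain ⟨b, h1, h2⟩ := hfk k a
    replace hu : q a = q b := (h1.symm.trans hu).symm
    have hxk : x ^ k ≠ 1 := pow_ne_one_of_lt_orderOf hk0.ne' hkh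
    set D : Subgroup G := (center ↥P).map P.subtype
    have hcomm : ∀ d ∈ D, x ^ k * d = d * x ^ k := by
      rintro _ ⟨d, hd, rfl⟩
      exact (hfix k hxk d).mpr hd
    have hxD : x ^ k ∈ normalizer (D : Set G) :=
      centralizer_le_normalizer _ (mem_centralizer_iff.mpr fun d hd => (hcomm d hd).symm)
    have hD : Nat.card D = p := by rw [card_map_of_injective P.subtype_injective, hP.2]
    obtain ⟨c, hc1, hc2⟩ := CoprimeAction.exists_fixed_mem_coset_zpowers (a := x ^ k) hxD
      (hD.symm ▸ hcop.coprime_dvd_left (orderOf_pow_dvd k)) (a : G) (by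
        have h3 : a⁻¹ * b ∈ center ↥P := QuotientGroup.eq.mp hu
        have h4 := mem_map_of_mem P.subtype h3
        simpa [h2, mul_assoc, -mem_map] using h4)
    obtain ⟨d, hd, hd'⟩ := hc2
    have hc : c = ((a * d : ↥P) : G) := by
      rw [coe_mul]
      rw [show (d : G) = (a : G)⁻¹ * c from hd', mul_inv_cancel_left]
    rw [hc] at hc1
    have := (hfix k hxk _).mp hc1
    exact ((hq0 a).mpr (by simpa using (mul_mem_cancel_right hd).mp this))

end Cfsg.Agent.HallHigman
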