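import Cfsg.Agent.Lib.HallHigmanTops

/-!
# Commutators of top powers on an invariant subgroup
-/

set_option autoImplicit false

namespace Cfsg.Agent.HallHigman

open Subgroup Module
open scoped commutatorElement

universe u v

/-- `g` is the top power of an element normalising `Q` and satisfying the polynomial of
Theorem B. -/
def IsTop {K G W : Type*} [Field K] [Group G] [AddCommGroup W] [Module K W] (p : ℕ)
    (ρ : Representation K G W) (Q : Subgroup G) (g : G) : Prop :=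
  ∃ (y : G) (e : ℕ), 1 ≤ e ∧ g = y ^ p ^ (e - 1) ∧ y ^ p ^ e = 1 ∧
    y ∈ normalizer (Q : Set G) ∧ ∑ k ∈ Finset.range (p ^ e), ρ y ^ k = 0

variable {K G W : Type*} [Field K] [Group G] [Finite G] [AddCommGroup W] [Module K W]

omit [Finite G] in
theorem IsTop.mem_normalizer {p : ℕ} {ρ : Representation K G W} {Q : Subgroup G} {g : G}
    (h : IsTop p ρ Q g) : g ∈ normalizer (Q : Set G) := by
  obtain ⟨y, e, -, rfl, -, hy, -⟩ := h
  exact pow_mem hy _

theorem coprime_zpowers_of_pow_eq {p q : ℕ} (hp : p.Prime) (hq : q.Prime) (hpq : p ≠ q) {g : G}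
    (hg : g ^ p = 1) {Q : Subgroup G} (hQ : IsPGroup q Q) :
    (Nat.card (zpowers g)).Coprime (Nat.card Q) := by
  have := Fact.mk hq
  obtain ⟨k, hk⟩ := IsPGroup.iff_card.mp hQ
  rw [Nat.card_zpowers, hk]
  exact (((Nat.coprime_primes hp hq).mpr hpq).coprime_dvd_left
    (orderOf_dvd_of_pow_eq_one hg)).pow_right k

/-- Top powers centralise the invariant abelian `q`-subgroups. -/
theorem commute_top_of_comm [IsAlgClosed K] [FiniteDimensional K W] {p q e : ℕ} (hp : p.Prime)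
    (hq : q.Prime) (hpq : p ≠ q) (hqK : (q : K) ≠ 0) {ρ : Representation K G W}
    (hρ : Function.Injective ρ) (he : 1 ≤ e) {y : G} (hye : y ^ p ^ e = 1)
    (hN : ∑ k ∈ Finset.range (p ^ e), ρ y ^ k = 0) {A : Subgroup G} (hA : IsPGroup q A)
    (hyA : y ∈ normalizer (A : Set G)) (hAc : ∀ a ∈ A, ∀ b ∈ A, a * b = b * a) :
    ∀ a ∈ A, y ^ p ^ (e - 1) * a = a * y ^ p ^ (e - 1) := by
  set g := y ^ p ^ (e - 1) with hg
  have hgA : zpowers g ≤ normalizer (A : Set G) := zpowers_le.mpr (pow_mem hyA _)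
  have hgp : g ^ p = 1 := by rw [hg, ← pow_mul, ← pow_succ, Nat.sub_add_cancel he, hye]
  have hcop := coprime_zpowers_of_pow_eq hp hq hpq hgp hA
  have hle : ⁅A, zpowers g⁆ ≤ A := CoprimeAction.commutator_le_self_of_le_normalizer hgA
  suffices h : ⁅A, zpowers g⁆ = ⊥ from fun a ha =>
    mem_centralizer_iff.mp (commutator_eq_bot_iff_le_centralizer.mp h ha) g (mem_zpowers g)
  by_contra h
  obtain ⟨⟨u, hu⟩, hu1⟩ : ∃ u : ↥⁅A, zpowers g⁆, u ≠ 1 := by
    have := (nontrivial_iff_ne_bot _).mpr h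
    exact exists_ne 1
  have hyn : y ∈ normalizer ((⁅A, zpowers g⁆ : Subgroup G) : Set G) := by
    rw [mem_normalizer_iff_map_conj_eq, map_commutator, MonoidHom.map_zpowers,
      mem_normalizer_iff_map_conj_eq.mp hyA]
    congr 2
    show y * g * y⁻¹ = g
    rw [hg, ← pow_succ', pow_succ, mul_inv_cancel_right]
  have hd : HHData p q e ρ y ⁅A, zpowers g⁆ := by
    refine ⟨hp, hq, hpq, hqK, he, hye, hyn, hA.to_le hle, ?_, ?_, hN,
      u, hu, fun h1 => hu1 (Subtype.ext (hρ (h1.trans (map_one ρ).symm)))⟩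
    · refine eq_bot_iff.mpr ((commutator_mono (commutator_mono hle hle) le_rfl).trans ?_)
      rw [show ⁅A, A⁆ = ⊥ from commutator_eq_bot_iff_le_centralizer.mpr fun a ha =>
        mem_centralizer_iff.mpr fun b hb => hAc b hb a ha, commutator_bot_left]
    · rw [← hg]
      exact CoprimeAction.commutator_commutator_eq hgA hcop
        (Or.inl (CoprimeAction.isSolvable_zpowers g))
  exact hd.degree_bound.2 ⟨⟨fun a b => Subtype.ext (hAc a (hle a.2) b (hle b.2))⟩⟩

/-- In the scalar case a commutator of a top power centralises `Q`. -/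
theorem commutator_mem_centralizer_of_scalar [IsAlgClosed K] [FiniteDimensional K W] {p q e : ℕ}
    (hp : p.Prime) (hp2 : p ≠ 2) (hq : q.Prime) (hpq : p ≠ q) (hqK : (q : K) ≠ 0)
    {ρ : Representation K G W} (hρ : Function.Injective ρ) {Q : Subgroup G} (hQ : IsPGroup q Q)
    (hcl : ⁅⁅Q, Q⁆, Q⁆ = ⊥) (hscal : ∀ a ∈ ctr Q, ∃ c : K, ρ a = c • 1) (he : 1 ≤ e) {y h : G}
    (hye : y ^ p ^ e = 1) (hyQ : y ∈ normalizer (Q : Set G))
    (hN : ∑ k ∈ Finset.range (p ^ e), ρ y ^ k = 0) (hhQ : h ∈ normalizer (Q : Set G))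
    (hcy : ⁅⁅y ^ p ^ (e - 1), h⁆, y⁆ ∈ centralizer (Q : Set G))
    (hcg : ⁅⁅y ^ p ^ (e - 1), h⁆, y ^ p ^ (e - 1)⁆ ∈ centralizer (Q : Set G))
    (hch : ⁅⁅y ^ p ^ (e - 1), h⁆, h⁆ ∈ centralizer (Q : Set G)) :
    ⁅y ^ p ^ (e - 1), h⁆ ∈ centralizer (Q : Set G) := by
  classical
  have := Fact.mk hq
  set g := y ^ p ^ (e - 1) with hg
  set c := ⁅g, h⁆ with hc
  have hgQ : g ∈ normalizer (Q : Set G) := pow_mem hyQ _
  have hgp : g ^ p = 1 := by rw [hg, ← pow_mul, ← pow_succ, Nat.sub_add_cancel he, hye]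
  have hcop := coprime_zpowers_of_pow_eq hp hq hpq hgp hQ
  have hsol : Group.IsSolvable (zpowers g) ∨ Group.IsSolvable Q :=
    Or.inl (CoprimeAction.isSolvable_zpowers g)
  have hgQ' : zpowers g ≤ normalizer (Q : Set G) := zpowers_le.mpr hgQ
  have hscg : ∀ a ∈ ctr Q, g * a = a * g := fun a ha => by
    obtain ⟨t, ht⟩ := hscal a ha
    exact hρ (by rw [map_mul, map_mul, ht, mul_smul_comm, mul_one, smul_one_mul])
  set Q₁ := ⁅Q, zpowers g⁆
  have hQ₁ : Q₁ ≤ Q := CoprimeAction.commutator_le_self_of_le_normalizer hgQ'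
  rcases eq_or_ne Q₁ ⊥ with hbot | hne
  · have hgC : g ∈ centralizer (Q : Set G) := mem_centralizer_iff.mpr fun u hu =>
      (mem_centralizer_iff.mp (commutator_eq_bot_iff_le_centralizer.mp hbot hu) g
        (mem_zpowers g)).symm
    rw [hc, commutatorElement_def, mul_assoc, mul_assoc, ← mul_assoc h]
    exact mul_mem hgC (CoprimeAction.conj_mem (mem_normalizer_centralizer hhQ) (inv_mem hgC))
  -- commutators with the fixed points of `g` vanish on `Q₁`
  have hcomm : ∀ v w : G, v ∈ Q → w ∈ Q → ⁅v, w⁆ ∈ ctr Q := fun v w hv hw =>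
    ⟨Q.commutator_le_self (commutator_mem_commutator hv hw),
      commutator_eq_bot_iff_le_centralizer.mp hcl (commutator_mem_commutator hv hw)⟩
  have hfix : ∀ d ∈ Q, g * d = d * g → Q₁ ≤ centralizer {d} := by
    intro d hd hgd
    rw [commutator_le]
    intro v hv z hz
    rw [mem_centralizer_singleton_iff]
    obtain ⟨i, rfl⟩ := mem_powers_iff_mem_zpowers.2 hz
    show ⁅v, g ^ i⁆ * d = d * ⁅v, g ^ i⁆
    set z := g ^ i
    have hzv : z * v * z⁻¹ ∈ Q := CoprimeAction.conj_mem (pow_mem hgQ i) hv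
    have h1 : z * ⁅v, d⁆ * z⁻¹ = ⁅v, d⁆ := by
      rw [mul_inv_eq_iff_eq_mul]
      exact ((show Commute g ⁅v, d⁆ from hscg _ (hcomm v d hv hd)).pow_left i).eq
    have h2 : ⁅z * v * z⁻¹, d⁆ = ⁅v, d⁆ := by
      have h3 := map_commutatorElement (MulAut.conj z).toMonoidHom v d
      simp only [MulEquiv.coe_toMonoidHom, MulAut.conj_apply, h1,
        show z * d * z⁻¹ = d from mul_inv_eq_iff_eq_mul.mpr
          ((show Commute g d from hgd).pow_left i).eq] at h3
      exact h3.symm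
    have hz' : ∀ {a : G}, a ∈ Q → ⁅v, d⁆ * a = a * ⁅v, d⁆ := fun {a} ha =>
      (mem_centralizer_iff.mp (hcomm v d hv hd).2 a ha).symm
    have f1 : v * d = ⁅v, d⁆ * d * v := by simp only [commutatorElement_def]; group
    have f2 : z * v * z⁻¹ * d = ⁅v, d⁆ * d * (z * v * z⁻¹) := by
      rw [← h2]; simp only [commutatorElement_def]; group
    rw [show ⁅v, z⁆ = v * (z * v * z⁻¹)⁻¹ by simp only [commutatorElement_def]; group]
    have f3 : (z * v * z⁻¹)⁻¹ * d = ⁅v, d⁆⁻¹ * d * (z * v * z⁻¹)⁻¹ := by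
      rw [inv_mul_eq_iff_eq_mul, ← mul_assoc, ← mul_assoc, eq_mul_inv_iff_mul_eq]
      calc d * (z * v * z⁻¹) = ⁅v, d⁆⁻¹ * (⁅v, d⁆ * d * (z * v * z⁻¹)) := by group
        _ = ⁅v, d⁆⁻¹ * (z * v * z⁻¹) * d := by rw [← f2]; group
        _ = z * v * z⁻¹ * ⁅v, d⁆⁻¹ * d := by
          rw [((show Commute ⁅v, d⁆ (z * v * z⁻¹) from hz' hzv).inv_left).eq]
    calc v * (z * v * z⁻¹)⁻¹ * d = v * (⁅v, d⁆⁻¹ * d) * (z * v * z⁻¹)⁻¹ := by
          rw [mul_assoc v (z * v * z⁻¹)⁻¹, f3]; simp only [mul_assoc]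
      _ = ⁅v, d⁆⁻¹ * (v * d) * (z * v * z⁻¹)⁻¹ := by
          rw [← mul_assoc v, ((show Commute ⁅v, d⁆ v from hz' hv).inv_left).symm.eq]
          simp only [mul_assoc]
      _ = d * (v * (z * v * z⁻¹)⁻¹) := by
          rw [f1]; group
  have hctr : ctr Q₁ = Q₁ ⊓ ctr Q := by
    refine le_antisymm (fun u hu => ⟨hu.1, hQ₁ hu.1, mem_centralizer_iff.mpr fun v hv => ?_⟩)
      fun u hu => ⟨hu.1, centralizer_le hQ₁ hu.2.2⟩
    obtain ⟨a, ha, d, hd, rfl⟩ := CoprimeAction.exists_mul_fixed hgQ' hcop hsol hv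
    have h1 := mem_centralizer_singleton_iff.mp
      (hfix d hd.1 (mem_centralizer_iff.mp hd.2 g (mem_zpowers g)) hu.1)
    show a * d * u = u * (a * d)
    rw [mul_assoc, ← h1, ← mul_assoc, ← mul_assoc, mem_centralizer_iff.mp hu.2 a ha]
  obtain ⟨⟨u₀, hu₀⟩, hu₀1⟩ : ∃ u : Q₁, u ≠ 1 := by
    have := (nontrivial_iff_ne_bot _).mpr hne
    exact exists_ne 1
  have hyQ₁ : y ∈ normalizer (Q₁ : Set G) := by
    rw [mem_normalizer_iff_map_conj_eq, map_commutator, MonoidHom.map_zpowers,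
      mem_normalizer_iff_map_conj_eq.mp hyQ]
    congr 2
    show y * g * y⁻¹ = g
    rw [hg, ← pow_succ', pow_succ, mul_inv_cancel_right]
  have hd : HHData p q e ρ y Q₁ := ⟨hp, hq, hpq, hqK, he, hye, hyQ₁, hQ.to_le hQ₁,
    eq_bot_iff.mpr ((commutator_mono (commutator_mono hQ₁ hQ₁) hQ₁).trans hcl.le),
    CoprimeAction.commutator_commutator_eq hgQ' hcop hsol, hN,
    u₀, hu₀, fun h1 => hu₀1 (Subtype.ext (hρ (h1.trans (map_one ρ).symm)))⟩
  obtain ⟨j, hj, hlt, hdvd, hcard⟩ :=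
    hd.card_of_scalar (fun u _ h1 => hρ (h1.trans (map_one ρ).symm))
      (fun a ha => hscal a (hctr ▸ ha : a ∈ Q₁ ⊓ ctr Q).2)
  obtain ⟨rfl, hpe⟩ := odd_case hp hp2 hq hj hlt hdvd
  -- the module `Q ⧸ Z(Q)`
  set N := normalizer (Q : Set G)
  let α : N →* MulAut Q := normalizerMonoidHom Q
  set Z : Subgroup Q := (ctr Q).subgroupOf Q
  have hZn : Z.Normal := ⟨fun a ha b => by
    rw [show b * a * b⁻¹ = a from Subtype.ext (by
      rw [coe_mul, coe_mul, coe_inv,
        mem_centralizer_iff.mp (mem_subgroupOf.mp ha).2 (b : G) b.2, mul_inv_cancel_right])]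
    exact ha⟩
  let _ : CommGroup (Q ⧸ Z) :=
    { (inferInstance : Group (Q ⧸ Z)) with
      mul_comm := fun a b => by
        obtain ⟨a, rfl⟩ := QuotientGroup.mk_surjective a
        obtain ⟨b, rfl⟩ := QuotientGroup.mk_surjective b
        rw [← QuotientGroup.mk_mul, ← QuotientGroup.mk_mul, QuotientGroup.eq, mem_subgroupOf]
        have h1 := hcomm _ _ (inv_mem b.2) (inv_mem a.2)
        simpa [commutatorElement_def, mul_assoc] using h1 }
  have hmapZ : ∀ s : N, Z.map (α s).toMonoidHom = Z := fun s => by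
    refine Subgroup.eq_of_le_of_card_ge ?_ (le_of_eq
      (card_map_of_injective (f := (α s).toMonoidHom) (α s).injective).symm)
    rintro _ ⟨u, hu, rfl⟩
    refine mem_subgroupOf.mpr ⟨(α s u).2, mem_centralizer_iff.mpr fun v hv => ?_⟩
    show v * ((s : G) * u * (s : G)⁻¹) = (s : G) * u * (s : G)⁻¹ * v
    have h1 := mem_centralizer_iff.mp (mem_subgroupOf.mp hu).2 _ (CoprimeAction.conj_mem' s.2 hv)
    calc v * ((s : G) * u * (s : G)⁻¹) = (s : G) * ((s : G)⁻¹ * v * s * u) * (s : G)⁻¹ := by group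
      _ = _ := by rw [h1]; group
  let f : N →* MulAut (Q ⧸ Z) :=
    { toFun := fun s => QuotientGroup.congr Z Z (α s) (hmapZ s)
      map_one' := MulEquiv.ext fun z => by
        obtain ⟨u, rfl⟩ := QuotientGroup.mk_surjective z
        show ((α 1 u : Q) : Q ⧸ Z) = _
        rw [map_one]; rfl
      map_mul' := fun s t => MulEquiv.ext fun z => by
        obtain ⟨u, rfl⟩ := QuotientGroup.mk_surjective z
        show ((α (s * t) u : Q) : Q ⧸ Z) = ((α s (α t u) : Q) : Q ⧸ Z)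
        rw [map_mul]; rfl }
  have hf : ∀ (s : N) (u : Q), f s (u : Q ⧸ Z) = ((α s u : Q) : Q ⧸ Z) := fun s u => rfl
  have hfC : ∀ s : N, (s : G) ∈ centralizer (Q : Set G) → f s = 1 := fun s hs => by
    refine MulEquiv.ext fun z => ?_
    obtain ⟨u, rfl⟩ := QuotientGroup.mk_surjective z
    rw [hf, show α s u = u from Subtype.ext (by
      show (s : G) * u * (s : G)⁻¹ = u
      rw [← mem_centralizer_iff.mp hs (u : G) u.2, mul_inv_cancel_right])]
    rfl
  set g' : N := ⟨g, hgQ⟩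
  set h' : N := ⟨h, hhQ⟩
  set y' : N := ⟨y, hyQ⟩
  set c' : N := ⁅g', h'⁆
  have hcomm' : ∀ t : N, ⁅c, (t : G)⁆ ∈ centralizer (Q : Set G) → Commute (f c') (f t) := fun t ht =>
    commutatorElement_eq_one_iff_mul_comm.mp (by rw [← map_commutatorElement]; exact hfC _ ht)
  have hMcop : p.Coprime (Nat.card (Q ⧸ Z)) := by
    obtain ⟨k, hk⟩ := IsPGroup.iff_card.mp (hQ.to_quotient Z)
    rw [hk]
    exact ((Nat.coprime_primes hp hq).mpr hpq).pow_right k
  have hfgp : f g' ^ p = 1 := by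
    rw [← map_pow, show g' ^ p = 1 from Subtype.ext hgp, map_one]
  set U : Subgroup (Q ⧸ Z) := (Q₁.subgroupOf Q).map (QuotientGroup.mk' Z)
  have hUd : ∀ m, m ∈ U ↔ ∃ n, f g' n * n⁻¹ = m := by
    let D : Subgroup (Q ⧸ Z) :=
      { carrier := {m | ∃ n, f g' n * n⁻¹ = m}
        one_mem' := ⟨1, by simp⟩
        mul_mem' := fun {a b} ha hb => by
          obtain ⟨n, rfl⟩ := ha
          obtain ⟨n', rfl⟩ := hb
          exact ⟨n * n', by rw [map_mul, mul_inv_rev]; ac_rfl⟩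
        inv_mem' := fun {a} ha => by
          obtain ⟨n, rfl⟩ := ha
          exact ⟨n⁻¹, by rw [map_inv, mul_inv_rev, inv_inv]; ac_rfl⟩ }
    have hpowD : ∀ (i : ℕ) (n : Q ⧸ Z), (f g' ^ i) n * n⁻¹ ∈ D := fun i n => by
      induction i with
      | zero => simp
      | succ i ih =>
        rw [pow_succ', MulAut.mul_apply, show f g' ((f g' ^ i) n) * n⁻¹ =
          (f g' ((f g' ^ i) n) * ((f g' ^ i) n)⁻¹) * ((f g' ^ i) n * n⁻¹) by
            rw [mul_assoc, inv_mul_cancel_left]]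
        exact D.mul_mem ⟨_, rfl⟩ ih
    intro m
    constructor
    · intro hm
      have h1 : Q₁ ≤ ((D.comap (QuotientGroup.mk' Z)).map Q.subtype) := by
        rw [commutator_le]
        intro v hv z hz
        obtain ⟨i, rfl⟩ := mem_powers_iff_mem_zpowers.2 hz
        refine ⟨⟨v, hv⟩ * (α (g' ^ i) ⟨v, hv⟩)⁻¹, ?_, ?_⟩
        · show (((⟨v, hv⟩ : Q) * (α (g' ^ i) ⟨v, hv⟩)⁻¹ : Q) : Q ⧸ Z) ∈ D
          rw [QuotientGroup.mk_mul, QuotientGroup.mk_inv, ← hf, map_pow, ← inv_mem_iff,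
            mul_inv_rev, inv_inv]
          exact hpowD i _
        · show v * ((g' ^ i : N) * v * ((g' ^ i : N) : G)⁻¹)⁻¹ = ⁅v, g ^ i⁆
          rw [SubgroupClass.coe_pow, show (g' : G) = g from rfl, commutatorElement_def]
          group
      obtain ⟨u, hu, rfl⟩ := hm
      obtain ⟨u', hu', hu''⟩ := h1 hu
      rw [show u = u' from Subtype.ext hu''.symm]
      exact hu'
    · rintro ⟨n, rfl⟩
      obtain ⟨v, rfl⟩ := QuotientGroup.mk_surjective n
      refine ⟨α g' v * v⁻¹, ?_, by rw [map_mul, map_inv, hf]; rfl⟩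
      show g * (v : G) * g⁻¹ * (v : G)⁻¹ ∈ Q₁
      have := inv_mem (commutator_mem_commutator (H₁ := Q) v.2 (mem_zpowers g))
      simpa [commutatorElement_def, mul_assoc] using this
  have hUcard : Nat.card U = (2 ^ j) ^ 2 := by
    have h1 := relIndex_ker (Q₁.subgroupOf Q) (QuotientGroup.mk' Z)
    rw [QuotientGroup.ker_mk', relIndex_subgroupOf hQ₁, ← inf_relIndex_right, inf_comm, ← hctr] at h1
    have h2 := relIndex_mul_relIndex ⊥ (ctr Q₁) Q₁ bot_le inf_le_left
    rw [relIndex_bot_left, relIndex_bot_left, hcard, h1, mul_comm] at h2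
    exact Nat.eq_of_mul_eq_mul_right Nat.card_pos h2
  have hyg : Commute (f y') (f g') := by
    refine Commute.map ?_ f
    exact Subtype.ext ((Commute.refl y).pow_right _).eq
  have hirr : ∀ U' ≤ U, (∀ m ∈ U', f y' m ∈ U') → U' = ⊥ ∨ U' = U := by
    intro U' hU' hinv
    by_cases hU'0 : U' = ⊥
    · exact Or.inl hU'0
    refine Or.inr (Subgroup.eq_of_le_of_card_ge hU' ?_)
    have hbij : Function.Bijective fun m : U' => (⟨f y' m, hinv m m.2⟩ : U') :=
      Finite.injective_iff_bijective.mp fun a b hab => Subtype.ext ((f y').injective (congrArg Subtype.val hab))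
    let π : Equiv.Perm U' := Equiv.ofBijective _ hbij
    have hπ : ∀ (k : ℕ) (m : U'), (((π ^ k) m : U') : Q ⧸ Z) = (f y' ^ k) m := fun k m => by
      induction k generalizing m with
      | zero => rfl
      | succ k ih => rw [pow_succ, Equiv.Perm.mul_apply, ih, pow_succ, MulAut.mul_apply]; rfl
    have hdvd' : p ^ e ∣ Nat.card U' - 1 := by
      refine dvd_card_sub_one (o := (1 : U')) (pow_pos hp.pos e) π (Equiv.ext fun m => Subtype.ext ?_)
        (Subtype.ext (map_one (f y'))) fun m hm k hk0 hk hfx => hm ?_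
      · rw [hπ, ← map_pow, show y' ^ p ^ e = 1 from Subtype.ext hye, map_one]
        rfl
      · have h1 : (f y' ^ k) (m : Q ⧸ Z) = m := by rw [← hπ, hfx]
        obtain ⟨l, hl⟩ := exists_pow_eq_top_power hp hye hk0 hk
        have h2 : f g' (m : Q ⧸ Z) = m := by
          rw [show g' = (y' ^ k) ^ l from Subtype.ext hl.symm, map_pow, map_pow]
          clear hl
          induction l with
          | zero => rfl
          | succ l ih => rw [pow_succ, MulAut.mul_apply, h1, ih]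
        obtain ⟨n, hn⟩ := (hUd m).mp (hU' m.2)
        have h3 : ∀ i : ℕ, (f g' ^ i) n = (m : Q ⧸ Z) ^ i * n := fun i => by
          induction i with
          | zero => simp
          | succ i ih =>
            rw [pow_succ', MulAut.mul_apply, ih, map_mul, map_pow, h2,
              show f g' n = (m : Q ⧸ Z) * n by rw [← hn, inv_mul_cancel_right], ← mul_assoc,
              pow_succ]
        have h4 := h3 p
        rw [hfgp, MulAut.one_apply, right_eq_mul] at h4
        exact Subtype.ext (orderOf_eq_one_iff.mp (Nat.eq_one_of_dvd_coprimes hMcop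
          (orderOf_dvd_of_pow_eq_one h4) (orderOf_dvd_natCard _)))
    obtain ⟨k, hk⟩ := IsPGroup.iff_card.mp ((hQ.to_quotient Z).to_subgroup U')
    have hkd : 2 * j ≤ k := by
      by_contra hlt'
      rw [hk, hpe] at hdvd'
      have hk0 : 0 < k := Nat.pos_of_ne_zero fun h0 => hU'0 (card_eq_one.mp (by rw [hk, h0, pow_zero]))
      have hcong : ∀ i : ℕ, (2 : ℕ) ^ j + 1 ∣ 2 ^ i - 1 → 0 < i → j < i := by
        intro i hi hi0
        by_contra hle
        have h1 : (2 : ℕ) ^ i ≤ 2 ^ j := Nat.pow_le_pow_right two_pos (by omega)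
        have h2 : 2 ≤ (2 : ℕ) ^ i := Nat.le_self_pow (by omega) 2
        have := Nat.le_of_dvd (by omega) hi
        omega
      have hjk := hcong k hdvd' hk0
      -- `2 ^ (2 j - k)` is also congruent to `1`
      have h5 : ((2 : ℤ) ^ j + 1) ∣ (2 : ℤ) ^ k - 1 := by
        have := Int.natCast_dvd_natCast.mpr hdvd'
        rw [Nat.cast_sub Nat.one_le_two_pow] at this
        push_cast at this
        exact this
      have h6 : ((2 : ℤ) ^ j + 1) ∣ (2 : ℤ) ^ (2 * j - k) - 1 := by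
        have h7 : ((2 : ℤ) ^ j + 1) ∣ (2 : ℤ) ^ (2 * j) - 1 :=
          ⟨(2 : ℤ) ^ j - 1, by rw [two_mul, pow_add]; ring⟩
        have h8 := dvd_sub h7 (h5.mul_left ((2 : ℤ) ^ (2 * j - k)))
        rwa [mul_sub, mul_one, ← pow_add, Nat.sub_add_cancel (by omega),
          show ((2 : ℤ) ^ (2 * j) - 1) - ((2 : ℤ) ^ (2 * j) - (2 : ℤ) ^ (2 * j - k)) =
            (2 : ℤ) ^ (2 * j - k) - 1 by ring] at h8
      have h9 := hcong (2 * j - k) (by
        rw [← Int.natCast_dvd_natCast, Nat.cast_sub Nat.one_le_two_pow]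
        push_cast
        exact h6) (by omega)
      omega
    rw [hUcard, hk, ← pow_mul, mul_comm j 2]
    exact Nat.pow_le_pow_right two_pos hkd
  have hfc : f c' = f g' * f h' * (f g')⁻¹ * (f h')⁻¹ := by
    rw [show c' = g' * h' * g'⁻¹ * h'⁻¹ from commutatorElement_def g' h', map_mul, map_mul, map_mul,
      map_inv, map_inv]
  have hc1 : f c' = 1 := commutator_eq_one_of_irreducible hp hp2 hMcop hfgp hfc
    (hcomm' g' hcg) (hcomm' h' hch) (hcomm' y' hcy) hyg hUd hirr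
  -- `c` fixes `Q ⧸ Z(Q)` and `Z(Q)`
  have hcN : c ∈ N := (c' : N).2
  have hle : ⁅Q, zpowers c⁆ ≤ ctr Q := by
    rw [commutator_le]
    intro v hv z hz
    obtain ⟨i, rfl⟩ := mem_powers_iff_mem_zpowers.2 hz
    have h1 : (α (c' ^ i) ⟨v, hv⟩ : Q ⧸ Z) = ((⟨v, hv⟩ : Q) : Q ⧸ Z) := by
      rw [← hf, map_pow, hc1, one_pow]; rfl
    have h2 := mem_subgroupOf.mp (QuotientGroup.eq.mp h1.symm)
    rw [coe_mul, coe_inv] at h2
    change v⁻¹ * ((c ^ i : G) * v * (c ^ i)⁻¹) ∈ ctr Q at h2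
    show ⁅v, c ^ i⁆ ∈ ctr Q
    have h3 := inv_mem h2
    have h4 : ⁅v, c ^ i⁆ = v * ((c ^ i * v * (c ^ i)⁻¹)⁻¹ * v) * v⁻¹ := by
      simp only [commutatorElement_def]; group
    rw [h4, mem_centralizer_iff.mp
      (show (c ^ i * v * (c ^ i)⁻¹)⁻¹ * v ∈ ctr Q by simpa [mul_assoc] using h3).2 v hv,
      mul_inv_cancel_right]
    simpa [mul_assoc] using h3
  have hcp : c ^ p ∈ centralizer (Q : Set G) := by
    -- `c` commutes with `g` modulo the centraliser
    set C := centralizer (Q : Set G)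
    have hCn : (C.subgroupOf N).Normal := ⟨fun a ha b =>
      (show (b : G) * a * (b : G)⁻¹ ∈ C from
        CoprimeAction.conj_mem (mem_normalizer_centralizer b.2) ha)⟩
    set π := QuotientGroup.mk' (C.subgroupOf N)
    have h1 : ∀ t : N, ⁅c, (t : G)⁆ ∈ C → Commute (π c') (π t) := fun t ht =>
      commutatorElement_eq_one_iff_mul_comm.mp (by
        rw [← map_commutatorElement]; exact (QuotientGroup.eq_one_iff _).mpr ht)
    have h2 : π c' = π g' * π h' * (π g')⁻¹ * (π h')⁻¹ := by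
      rw [show c' = g' * h' * g'⁻¹ * h'⁻¹ from commutatorElement_def g' h', map_mul, map_mul,
        map_mul, map_inv, map_inv]
    have h3 : ∀ k : ℕ, π g' ^ k * π h' * (π g' ^ k)⁻¹ = π c' ^ k * π h' := by
      intro k
      induction k with
      | zero => simp
      | succ k ih =>
        calc π g' ^ (k + 1) * π h' * (π g' ^ (k + 1))⁻¹
            = π g' * (π g' ^ k * π h' * (π g' ^ k)⁻¹) * (π g')⁻¹ := by rw [pow_succ']; group
          _ = π g' * π c' ^ k * π h' * (π g')⁻¹ := by rw [ih]; simp only [mul_assoc]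
          _ = π c' ^ k * (π g' * π h' * (π g')⁻¹) := by
              rw [← ((h1 g' hcg).pow_left k).eq]; simp only [mul_assoc]
          _ = π c' ^ (k + 1) * π h' := by
              rw [pow_succ, h2, mul_assoc _ _ (π h'), inv_mul_cancel_right]
    have h4 := h3 p
    rw [← map_pow π g', show g' ^ p = 1 from Subtype.ext hgp, map_one, one_mul, inv_one, mul_one]
      at h4
    have h5 : π (c' ^ p) = 1 := by
      rw [map_pow]; exact (mul_right_cancel ((one_mul _).trans h4)).symm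
    exact (QuotientGroup.eq_one_iff (c' ^ p)).mp h5
  refine mem_centralizer_iff.mpr fun v hv => ?_
  have hd0 : ⁅v, c⁆ ∈ ctr Q := hle (commutator_mem_commutator hv (mem_zpowers c))
  have hcd : c * ⁅v, c⁆ = ⁅v, c⁆ * c := by
    obtain ⟨t, ht⟩ := hscal _ hd0
    exact hρ (by rw [map_mul, map_mul, ht, mul_smul_comm, mul_one, smul_one_mul])
  have hpow : ∀ k : ℕ, v * c ^ k = ⁅v, c⁆ ^ k * c ^ k * v := by
    intro k
    induction k with
    | zero => simp
    | succ k ih =>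
      calc v * c ^ (k + 1) = v * c ^ k * c := by rw [pow_succ, mul_assoc]
        _ = ⁅v, c⁆ ^ k * c ^ k * (⁅v, c⁆ * c * v) := by
            rw [ih, mul_assoc _ v c, show v * c = ⁅v, c⁆ * c * v by
              simp only [commutatorElement_def]; group]
        _ = _ := by
            rw [← mul_assoc, ← mul_assoc, mul_assoc _ (c ^ k) ⁅v, c⁆,
              ((show Commute c ⁅v, c⁆ from hcd).pow_left k).eq, ← mul_assoc, ← pow_succ, pow_succ c]
            simp only [mul_assoc]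
  have h1 := hpow p
  rw [mem_centralizer_iff.mp hcp v hv, mul_assoc, right_eq_mul] at h1
  have h2 : ⁅v, c⁆ = 1 := by
    obtain ⟨k, hk⟩ := IsPGroup.iff_orderOf.mp hQ ⟨⁅v, c⁆, hd0.1⟩
    rw [← Subgroup.orderOf_coe] at hk
    refine orderOf_eq_one_iff.mp (Nat.eq_one_of_dvd_coprimes
      (((Nat.coprime_primes hp hq).mpr hpq).pow_right k) (orderOf_dvd_of_pow_eq_one h1) ?_)
    rw [show orderOf ⁅v, c⁆ = 2 ^ k from hk]
  exact commutatorElement_eq_one_iff_mul_comm.mp h2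

theorem commutator_top_aux {K : Type*} [Field K] [IsAlgClosed K] {p q : ℕ} (hp : p.Prime)
    (hp2 : p ≠ 2) (hq : q.Prime) (hpq : p ≠ q) (hqK : (q : K) ≠ 0) (n : ℕ) :
    ∀ (G : Type u) [Group G] [Finite G] (W : Type v) [AddCommGroup W] [Module K W]
      [FiniteDimensional K W] (ρ : Representation K G W) (Q : Subgroup G) (y h : G) (e : ℕ),
      finrank K W ≤ n → Function.Injective ρ → IsPGroup q Q → ⁅⁅Q, Q⁆, Q⁆ = ⊥ → 1 ≤ e →
      y ^ p ^ e = 1 → y ∈ normalizer (Q : Set G) → ∑ k ∈ Finset.range (p ^ e), ρ y ^ k = 0 →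
      h ∈ Subgroup.closure {g | IsTop p ρ Q g} →
      ⁅⁅y ^ p ^ (e - 1), h⁆, y⁆ ∈ centralizer (Q : Set G) →
      ⁅⁅y ^ p ^ (e - 1), h⁆, y ^ p ^ (e - 1)⁆ ∈ centralizer (Q : Set G) →
      ⁅⁅y ^ p ^ (e - 1), h⁆, h⁆ ∈ centralizer (Q : Set G) →
      ⁅y ^ p ^ (e - 1), h⁆ ∈ centralizer (Q : Set G) := by
  classical
  induction n using Nat.strong_induction_on with
  | _ n ih =>
  intro G _ _ W _ _ _ ρ Q y h e hn hρ hQ hcl he hye hyQ hN hh hcy hcg hch
  have hhQ : h ∈ normalizer (Q : Set G) :=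
    (closure_le _).mpr (fun g hg => IsTop.mem_normalizer hg) hh
  by_cases hscal : ∀ a ∈ ctr Q, ∃ c : K, ρ a = c • 1
  · exact commutator_mem_centralizer_of_scalar hp hp2 hq hpq hqK hρ hQ hcl hscal he hye hyQ hN hhQ
      hcy hcg hch
  push Not at hscal
  obtain ⟨a₀, ha₀, ha₀1⟩ := hscal
  set g₀ := y ^ p ^ (e - 1) with hg₀
  set c := ⁅g₀, h⁆
  have hA : ∀ a ∈ ctr Q, ∀ b ∈ ctr Q, a * b = b * a := fun a ha b hb =>
    congrArg Subtype.val ((ctr_comm (Q := Q)).is_comm.comm ⟨a, ha⟩ ⟨b, hb⟩)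
  have hcardA : (Nat.card (ctr Q) : K) ≠ 0 := by
    have := Fact.mk hq
    obtain ⟨k, hk⟩ := IsPGroup.iff_card.mp (hQ.to_le (inf_le_left : ctr Q ≤ Q))
    rw [hk, Nat.cast_pow]
    exact pow_ne_zero _ hqK
  have hnA : ∀ {s : G}, s ∈ normalizer (Q : Set G) → s ∈ normalizer (ctr Q : Set G) := fun {s} hs =>
    CoprimeAction.le_normalizer_inf (A := zpowers s) (H := Q) (K := centralizer (Q : Set G))
      (zpowers_le.mpr hs) (zpowers_le.mpr (mem_normalizer_centralizer hs)) (mem_zpowers s)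
  have hQctr : IsPGroup q (ctr Q) := hQ.to_le inf_le_left
  have hcQ : c ∈ normalizer (Q : Set G) := by
    have hg₀n : g₀ ∈ normalizer (Q : Set G) := pow_mem hyQ _
    exact mul_mem (mul_mem (mul_mem hg₀n hhQ) (inv_mem hg₀n)) (inv_mem hhQ)
  refine mem_centralizer_iff.mpr fun u hu => ?_
  rw [← commutatorElement_eq_one_iff_mul_comm]
  refine hρ (LinearMap.ext fun w => ?_)
  rw [map_one, Module.End.one_apply]
  suffices hall : ∀ l : ctr Q →* K, eig ρ l ≤ LinearMap.ker (ρ ⁅u, c⁆ - 1) by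
    have h1 : w ∈ LinearMap.ker (ρ ⁅u, c⁆ - 1) := by
      refine (?_ : (⊤ : Submodule K W) ≤ _) Submodule.mem_top
      rw [← iSup_eig_eq_top ρ hA hcardA]
      exact iSup_le hall
    exact sub_eq_zero.mp (LinearMap.mem_ker.mp h1)
  intro l
  have hlt : finrank K (eig ρ l) < finrank K W := Submodule.finrank_lt fun ht =>
    ha₀1 (l ⟨a₀, ha₀⟩) (LinearMap.ext fun v => (ht.symm ▸ Submodule.mem_top : v ∈ eig ρ l) ⟨a₀, ha₀⟩)
  set U := eig ρ l
  set H := charStab l
  have hHU : H ≤ preserving ρ U := charStab_le_preserving ρ l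
  let σ : Representation K H U := (subRep ρ U).comp (Subgroup.inclusion hHU)
  let π := QuotientGroup.mk' σ.ker
  set Q' := (Q.subgroupOf H).map π
  have hQH : Q ≤ H := fun v hv =>
    centralizer_le_charStab l fun a ha => mem_centralizer_iff.mp ha.2 v hv
  have hQ'cl : ⁅⁅Q', Q'⁆, Q'⁆ = ⊥ := by
    rw [← map_commutator, ← map_commutator, show ⁅⁅Q.subgroupOf H, Q.subgroupOf H⁆, Q.subgroupOf H⁆ = ⊥ from
      map_injective H.subtype_injective (by
        rw [map_commutator, map_commutator, map_subgroupOf_eq_of_le hQH, hcl, Subgroup.map_bot]),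
      Subgroup.map_bot]
  have hdesc : ∀ {g : G}, IsTop p ρ Q g → ∃ hg : g ∈ H, IsTop p (imageRep σ) Q' (π ⟨g, hg⟩) := by
    rintro g ⟨z, d, hd, rfl, hzd, hzQ, hzN⟩
    have hz0 : ∀ a ∈ ctr Q, z ^ p ^ (d - 1) * a = a * z ^ p ^ (d - 1) :=
      commute_top_of_comm hp hq hpq hqK hρ hd hzd hzN hQctr (hnA hzQ) hA
    obtain ⟨f, hf, hfH, hfdesc⟩ := exists_descent_eig hp hd ρ hcardA (hnA hzQ) hzd hz0 l
    have hfe : (z ^ p ^ f) ^ p ^ (d - f - 1) = z ^ p ^ (d - 1) := by
      rw [← pow_mul, ← pow_add, show f + (d - f - 1) = d - 1 by omega]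
    refine ⟨centralizer_le_charStab l hz0, π ⟨z ^ p ^ f, hfH⟩, d - f, by omega, ?_, ?_, ?_, ?_⟩
    · rw [← map_pow]
      exact congrArg π (Subtype.ext hfe.symm)
    · rw [← map_pow, show (⟨z ^ p ^ f, hfH⟩ : H) ^ p ^ (d - f) = 1 from Subtype.ext (by
        show (z ^ p ^ f) ^ p ^ (d - f) = 1
        rw [← pow_mul, ← pow_add, Nat.add_sub_cancel' hf.le, hzd]), map_one]
    · refine le_normalizer_map π ⟨_, ?_, rfl⟩
      rw [SetLike.mem_coe, mem_normalizer_iff]
      exact fun v => mem_normalizer_iff.mp (pow_mem hzQ (p ^ f)) (v : G)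
    · have h1 := hfdesc 1 (p ^ (d - f)) (fun _ _ => Commute.one_left _)
        (by rw [one_mul, ← pow_add, Nat.add_sub_cancel' hf.le]; exact hzN)
      show ∑ k ∈ Finset.range (p ^ (d - f)), σ ⟨z ^ p ^ f, hfH⟩ ^ k = 0
      refine LinearMap.ext fun v => Subtype.ext ?_
      rw [LinearMap.sum_apply, Submodule.coe_sum]
      have h2 := h1 (v : W) v.2
      rw [Module.End.one_apply] at h2
      simp only [← map_pow] at h2 ⊢
      exact h2
  obtain ⟨hhH, hh'⟩ : ∃ hh : h ∈ H, π ⟨h, hh⟩ ∈ Subgroup.closure {g | IsTop p (imageRep σ) Q' g} := by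
    suffices hmain : ∀ t ∈ Subgroup.closure {g | IsTop p ρ Q g},
        ∃ ht : t ∈ H, π ⟨t, ht⟩ ∈ Subgroup.closure {g | IsTop p (imageRep σ) Q' g} from hmain h hh
    intro t ht
    induction ht using Subgroup.closure_induction with
    | mem g hg => obtain ⟨hg', h1⟩ := hdesc hg; exact ⟨hg', subset_closure h1⟩
    | one => exact ⟨one_mem H, by
        rw [show (⟨1, one_mem H⟩ : H) = 1 from rfl, map_one]; exact one_mem _⟩
    | mul a b _ _ ha hb =>
      obtain ⟨ha1, ha2⟩ := ha; obtain ⟨hb1, hb2⟩ := hb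
      exact ⟨mul_mem ha1 hb1, by
        rw [show (⟨a * b, mul_mem ha1 hb1⟩ : H) = ⟨a, ha1⟩ * ⟨b, hb1⟩ from rfl, map_mul]
        exact mul_mem ha2 hb2⟩
    | inv a _ ha =>
      obtain ⟨ha1, ha2⟩ := ha
      exact ⟨inv_mem ha1, by
        rw [show (⟨a⁻¹, inv_mem ha1⟩ : H) = (⟨a, ha1⟩ : H)⁻¹ from rfl, map_inv]
        exact inv_mem ha2⟩
  -- descend the main element
  have hz0 : ∀ a ∈ ctr Q, g₀ * a = a * g₀ :=
    commute_top_of_comm hp hq hpq hqK hρ he hye hN hQctr (hnA hyQ) hA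
  obtain ⟨f, hf, hfH, hfdesc⟩ := exists_descent_eig hp he ρ hcardA (hnA hyQ) hye hz0 l
  set y' : H := ⟨y ^ p ^ f, hfH⟩
  set h' : H := ⟨h, hhH⟩
  have hy'0 : ((y' ^ p ^ (e - f - 1) : H) : G) = g₀ := by
    show (y ^ p ^ f) ^ p ^ (e - f - 1) = g₀
    rw [← pow_mul, ← pow_add, show f + (e - f - 1) = e - 1 by omega]
  set g' : H := y' ^ p ^ (e - f - 1)
  have hcC : ∀ t : H, ⁅c, (t : G)⁆ ∈ centralizer (Q : Set G) →
      ⁅⁅π g', π h'⁆, π t⁆ ∈ centralizer (Q' : Set (H ⧸ σ.ker)) := by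
    intro t ht
    rw [← map_commutatorElement, ← map_commutatorElement]
    refine mem_centralizer_iff.mpr ?_
    rintro _ ⟨v, hv, rfl⟩
    rw [← map_mul, ← map_mul]
    refine congrArg π (Subtype.ext ?_)
    have h1 : ((⁅⁅g', h'⁆, t⁆ : H) : G) = ⁅c, (t : G)⁆ := by
      show ⁅⁅(g' : G), h⁆, (t : G)⁆ = _
      rw [hy'0]
    rw [coe_mul, coe_mul, h1]
    exact mem_centralizer_iff.mp ht (v : G) hv
  -- `c` commutes with every power of `y` modulo the centraliser
  have hcyf : ⁅c, y ^ p ^ f⁆ ∈ centralizer (Q : Set G) := by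
    set C := centralizer (Q : Set G)
    induction p ^ f with
    | zero => rw [pow_zero, commutatorElement_one_right]; exact one_mem _
    | succ k ihk =>
      rw [show ⁅c, y ^ (k + 1)⁆ = ⁅c, y ^ k⁆ * (y ^ k * ⁅c, y⁆ * (y ^ k)⁻¹) by
        simp only [commutatorElement_def, pow_succ]; group]
      exact mul_mem ihk (CoprimeAction.conj_mem (mem_normalizer_centralizer (pow_mem hyQ k)) hcy)
  have key := ih (finrank K U) (lt_of_lt_of_le hlt hn) (H ⧸ σ.ker) U (imageRep σ) Q' (π y') (π h')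
    (e - f) le_rfl (imageRep_injective σ) (hQ.comap_subtype.map π) hQ'cl (by omega)
    (by
      rw [← map_pow, show y' ^ p ^ (e - f) = 1 from Subtype.ext (by
        show (y ^ p ^ f) ^ p ^ (e - f) = 1
        rw [← pow_mul, ← pow_add, Nat.add_sub_cancel' hf.le, hye]), map_one])
    (le_normalizer_map π ⟨y', by
      rw [SetLike.mem_coe, mem_normalizer_iff]
      exact fun v => mem_normalizer_iff.mp (pow_mem hyQ (p ^ f)) (v : G), rfl⟩)
    (by
      show ∑ k ∈ Finset.range (p ^ (e - f)), σ y' ^ k = 0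
      refine LinearMap.ext fun v => Subtype.ext ?_
      rw [LinearMap.sum_apply, Submodule.coe_sum]
      have h2 := hfdesc 1 (p ^ (e - f)) (fun _ _ => Commute.one_left _)
        (by rw [one_mul, ← pow_add, Nat.add_sub_cancel' hf.le]; exact hN) (v : W) v.2
      rw [Module.End.one_apply] at h2
      simp only [← map_pow] at h2 ⊢
      exact h2)
    hh' (by rw [← map_pow]; exact hcC y' hcyf)
    (by rw [← map_pow]; exact hcC g' (by rw [hy'0]; exact hcg))
    (by rw [← map_pow]; exact hcC h' hch)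
  rw [← map_pow, ← map_commutatorElement] at key
  intro v hv
  have hv' := mem_centralizer_iff.mp key (π ⟨u, hQH hu⟩) ⟨⟨u, hQH hu⟩, hu, rfl⟩
  rw [← commutatorElement_eq_one_iff_mul_comm, ← map_commutatorElement] at hv'
  have h3 : σ ⁅(⟨u, hQH hu⟩ : H), ⁅g', h'⁆⁆ = 1 :=
    MonoidHom.mem_ker.mp ((QuotientGroup.eq_one_iff _).mp hv')
  have h4 : ρ ⁅u, ⁅(g' : G), h⁆⁆ v = v :=
    congrArg Subtype.val (LinearMap.congr_fun h3 ⟨v, hv⟩)
  rw [hy'0] at h4
  rw [LinearMap.mem_ker, LinearMap.sub_apply, Module.End.one_apply, h4, sub_self]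

end Cfsg.Agent.HallHigman
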