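import Cfsg.Agent.Lib.GrossTwoAlgebra
import Cfsg.Agent.Lib.HallHigmanExtraspecialAction
import Cfsg.Agent.Lib.HallHigmanEigen
import Cfsg.Agent.Lib.HallHigmanTopsCommute

/-!
# Gross's theorem for two-power automorphisms: the exceptional plane

A `q`-group of class two with an element `y` of order dividing `2 ^ a` satisfying
`1 + y + ... + y ^ (2 ^ a - 1) = 0`, whose involution acts non-trivially: the involution inverts
exactly a plane of the symplectic module and `q + 1 = 2 ^ a`.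
-/

set_option autoImplicit false

namespace Cfsg.Agent.GrossTwo

open Subgroup Module Cfsg.Agent.HallHigman
open scoped commutatorElement

universe u

/-- A non-zero invariant subspace without smaller ones. -/
theorem exists_minimal_submodule {K W : Type*} [Field K] [AddCommGroup W] [Module K W]
    [FiniteDimensional K W] (S : Set (Module.End K W)) {U : Submodule K W} (hU0 : U ≠ ⊥)
    (hU : ∀ f ∈ S, ∀ w ∈ U, f w ∈ U) :
    ∃ U₁ ≤ U, U₁ ≠ ⊥ ∧ (∀ f ∈ S, ∀ w ∈ U₁, f w ∈ U₁) ∧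
      ∀ X ≤ U₁, (∀ f ∈ S, ∀ w ∈ X, f w ∈ X) → X = ⊥ ∨ X = U₁ := by
  classical
  let P : ℕ → Prop := fun d => ∃ X ≤ U, X ≠ ⊥ ∧ (∀ f ∈ S, ∀ w ∈ X, f w ∈ X) ∧ finrank K X = d
  have hP : ∃ d, P d := ⟨_, U, le_rfl, hU0, hU, rfl⟩
  obtain ⟨X, hXU, hX0, hXS, hXd⟩ := Nat.find_spec hP
  refine ⟨X, hXU, hX0, hXS, fun Y hY hYS => or_iff_not_imp_left.mpr fun hY0 => ?_⟩
  exact Submodule.eq_of_le_of_finrank_le hY
    (hXd ▸ Nat.find_min' hP ⟨Y, hY.trans hXU, hY0, hYS, rfl⟩)

/-- The local configuration: `D` of class two with scalar commutators. -/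
structure LData {K G W : Type*} [Field K] [Group G] [AddCommGroup W] [Module K W] (q a : ℕ)
    (ρ : Representation K G W) (y : G) (D : Subgroup G) : Prop where
  hρ : Function.Injective ρ
  hq : q.Prime
  hq2 : q ≠ 2
  hqK : (q : K) ≠ 0
  h2K : (2 : K) ≠ 0
  ha : 1 ≤ a
  hye : y ^ 2 ^ a = 1
  hN : ∑ k ∈ Finset.range (2 ^ a), ρ y ^ k = 0
  hyD : y ∈ normalizer (D : Set G)
  hD : IsPGroup q D
  hexp : ∀ u ∈ D, u ^ q ∈ ctr D
  hsc : ∀ u ∈ D, ∀ v ∈ D, ∃ c : K, ρ ⁅u, v⁆ = c • 1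

variable {K W : Type*} {G : Type u} [Field K] [Group G] [Finite G] [AddCommGroup W] [Module K W]
variable {q a : ℕ} {ρ : Representation K G W} {y : G} {D : Subgroup G}

omit [Finite G] in
theorem LData.central (h : LData q a ρ y D) {u v : G} (hu : u ∈ D) (hv : v ∈ D) (g : G) :
    Commute g ⁅u, v⁆ := by
  obtain ⟨c, hc⟩ := h.hsc u hu v hv
  refine h.hρ ?_
  rw [map_mul, map_mul, hc, mul_smul_comm, mul_one, smul_mul_assoc, one_mul]

omit [Finite G] in
theorem LData.comm_pow (h : LData q a ρ y D) {u v : G} (hu : u ∈ D) (hv : v ∈ D) :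
    ⁅u, v⁆ ^ q = 1 := by
  have hc := h.central hu hv
  have h1 : ∀ n : ℕ, u ^ n * v = ⁅u, v⁆ ^ n * (v * u ^ n) := by
    intro n
    induction n with
    | zero => simp
    | succ n ih =>
      calc u ^ (n + 1) * v = u ^ n * (u * v) := by rw [pow_succ, mul_assoc]
        _ = u ^ n * (⁅u, v⁆ * (v * u)) := by
            congr 1
            simp only [commutatorElement_def]
            group
        _ = ⁅u, v⁆ * (u ^ n * v) * u := by
            rw [← mul_assoc, (hc (u ^ n)).eq]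
            simp only [mul_assoc]
        _ = _ := by
            rw [ih, pow_succ', pow_succ u]
            simp only [mul_assoc]
  have h2 := h1 q
  rw [← Subgroup.mem_centralizer_iff.mp (h.hexp u hu).2 v hv] at h2
  exact (mul_eq_right.mp h2.symm)

theorem LData.plane [IsAlgClosed K] [FiniteDimensional K W] (h : LData q a ρ y D)
    (hnt : ∃ u ∈ D, y ^ 2 ^ (a - 1) * u * (y ^ 2 ^ (a - 1))⁻¹ * u⁻¹ ∉ ctr D) :
    ∃ f, f < a ∧ q + 1 = 2 ^ (a - f) ∧ 2 ≤ a - f ∧
    ∃ (V : Type u) (_ : AddCommGroup V) (_ : Module (ZMod q) V) (_ : Finite V)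
      (σ : Representation (ZMod q) ↥(normalizer (D : Set G)) V) (β : V → V → ZMod q),
      (∀ g, σ g = 1 → ∀ u ∈ D, (g : G) * u * (g : G)⁻¹ * u⁻¹ ∈ ctr D) ∧
      (∀ u u' v, β (u + u') v = β u v + β u' v) ∧ (∀ u v v', β u (v + v') = β u v + β u v') ∧
      (∀ u, β u u = 0) ∧
      (∀ g u v, β (σ g u) (σ g v) = β u v) ∧
      Nat.card {w : V // σ (⟨y, h.hyD⟩ ^ 2 ^ (a - 1)) w = -w} = q ^ 2 ∧
      (∀ w, σ (⟨y, h.hyD⟩ ^ 2 ^ (a - 1)) w = -w →
        (∀ w', σ (⟨y, h.hyD⟩ ^ 2 ^ (a - 1)) w' = -w' → β w w' = 0) → w = 0) ∧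
      (a - f = 2 → ∀ w, σ (⟨y, h.hyD⟩ ^ 2 ^ (a - 1)) w = w →
        σ (⟨y, h.hyD⟩ ^ 2 ^ f) w = w) := by
  classical
  have hqf := Fact.mk h.hq
  set t := y ^ 2 ^ (a - 1) with ht
  have htt : t * t = 1 := by
    rw [ht, ← pow_add, ← two_mul, ← pow_succ', Nat.sub_add_cancel h.ha, h.hye]
  have htD : t ∈ normalizer (D : Set G) := pow_mem h.hyD _
  have hAc : ∀ c ∈ ctr D, ∀ d ∈ ctr D, c * d = d * c := fun c hc d hd =>
    Subgroup.mem_centralizer_iff.mp hd.2 c hc.1
  have hyA : y ∈ normalizer (ctr D : Set G) :=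
    Cfsg.Agent.CoprimeAction.le_normalizer_inf (Subgroup.zpowers_le.mpr h.hyD)
      (Subgroup.zpowers_le.mpr (mem_normalizer_centralizer h.hyD)) (Subgroup.mem_zpowers y)
  have htA : ∀ c ∈ ctr D, t * c = c * t :=
    commute_top_of_comm Nat.prime_two h.hq h.hq2.symm h.hqK h.hρ h.ha h.hye h.hN
      (h.hD.to_le inf_le_left) hyA hAc
  have hDK : ∀ {B : Subgroup G}, B ≤ D → (Nat.card B : K) ≠ 0 := by
    intro B hB
    obtain ⟨k, hk⟩ := IsPGroup.iff_card.mp (h.hD.to_le hB)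
    rw [hk, Nat.cast_pow]
    exact pow_ne_zero _ h.hqK
  -- a commutator of order `q`
  obtain ⟨u₀, hu₀, hu₁⟩ := hnt
  obtain ⟨v₀, hv₀, huv⟩ : ∃ v₀ ∈ D, ⁅u₀, v₀⁆ ≠ 1 := by
    by_contra hall
    push Not at hall
    have hu : u₀ ∈ ctr D := ⟨hu₀, mem_centralizer_iff.mpr fun v hv =>
      (commutatorElement_eq_one_iff_mul_comm.mp (hall v hv)).symm⟩
    refine hu₁ ?_
    rw [htA u₀ hu, mul_inv_cancel_right, mul_inv_cancel]
    exact one_mem _
  set z := ⁅u₀, v₀⁆
  have hz : orderOf z = q := orderOf_eq_prime (h.comm_pow hu₀ hv₀) huv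
  have : Nontrivial W := by
    rcases subsingleton_or_nontrivial W with hs | hs
    · exact absurd (h.hρ (Subsingleton.elim (ρ z) (ρ 1))) huv
    · exact hs
  have hsm : ∀ {c d : K}, c • (1 : Module.End K W) = d • 1 → c = d := fun {c d} he =>
    smul_left_injective K (one_ne_zero (α := Module.End K W)) he
  have hpow : ∀ u ∈ D, ∀ v ∈ D, ∃ k : ℕ, ⁅u, v⁆ = z ^ k := by
    intro u hu v hv
    obtain ⟨c, hc⟩ := h.hsc u hu v hv
    obtain ⟨d, hd⟩ := h.hsc u₀ hu₀ v₀ hv₀
    have hpw : ∀ (n : ℕ) (b : K), (b • (1 : Module.End K W)) ^ n = b ^ n • 1 := fun n b => by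
      rw [smul_pow, one_pow]
    have hcq : c ^ q = 1 := hsm (by
      rw [← hpw, ← hc, ← map_pow, h.comm_pow hu hv, map_one, one_smul])
    have hdq : d ^ q = 1 := hsm (by
      rw [← hpw, ← hd, ← map_pow, h.comm_pow hu₀ hv₀, map_one, one_smul])
    have hd1 : d ≠ 1 := fun he => huv (h.hρ (by rw [hd, he, one_smul, map_one]))
    have hprim : IsPrimitiveRoot d q := IsPrimitiveRoot.iff_orderOf.mpr (orderOf_eq_prime hdq hd1)
    obtain ⟨k, -, hk⟩ := hprim.eq_pow_of_pow_eq_one hcq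
    refine ⟨k, h.hρ ?_⟩
    rw [map_pow, hc, hd, hpw, hk]
  obtain ⟨V, _, _, _, σ, π, β, hπs, hπm, hπ0, hπe, hl, hr, hss, hnd, hinv, hβc⟩ :=
    exists_form D h.hexp hz (h.central hu₀ hv₀) hpow
  set yN : ↥(normalizer (D : Set G)) := ⟨y, h.hyD⟩
  set tN := yN ^ 2 ^ (a - 1)
  have htN : (tN : G) = t := rfl
  have hπ1 : π 1 = 0 := (hπ0 1).mpr (one_mem _)
  have hπi : ∀ b, π b⁻¹ = -π b := fun b => by
    rw [eq_neg_iff_add_eq_zero, ← hπm, inv_mul_cancel, hπ1]
  have hβn : ∀ u v, β u (-v) = -β u v := fun u v => by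
    rw [eq_neg_iff_add_eq_zero, ← hr, neg_add_cancel]
    have := hr u 0 0
    rw [add_zero] at this
    exact left_eq_add.mp this
  have hskew : ∀ u v, β u v = -β v u := fun u v => by
    have := hss (u + v)
    rw [hl, hr, hr, hss, hss, zero_add, add_zero] at this
    exact eq_neg_of_add_eq_zero_left this
  have h2q : (2 : ZMod q) ≠ 0 := by
    intro h0
    have h1 : ((2 : ℕ) : ZMod q) = 0 := by exact_mod_cast h0
    rw [ZMod.natCast_eq_zero_iff] at h1
    exact h.hq2 ((Nat.prime_dvd_prime_iff_eq h.hq Nat.prime_two).mp h1)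
  have htt' : ∀ w, σ tN (σ tN w) = w := fun w => by
    rw [← Module.End.mul_apply, ← map_mul, show tN * tN = 1 from Subtype.ext htt, map_one,
      Module.End.one_apply]
  -- eigenvectors of `t` for different values are orthogonal
  have horth : ∀ u w, σ tN u = u → σ tN w = -w → β u w = 0 := by
    intro u w hu hw
    have h1 := hinv tN u w
    rw [hu, hw, hβn] at h1
    have h3 : (2 : ZMod q) * β u w = 0 := by linear_combination -h1
    exact (mul_eq_zero.mp h3).resolve_left h2q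
  have hdec : ∀ w, ∃ u e, σ tN u = u ∧ σ tN e = -e ∧ w = u + e := by
    intro w
    refine ⟨(2 : ZMod q)⁻¹ • (w + σ tN w), (2 : ZMod q)⁻¹ • (w - σ tN w), ?_, ?_, ?_⟩
    · rw [map_smul, map_add, htt', add_comm]
    · rw [map_smul, map_sub, htt', ← smul_neg, neg_sub]
    · rw [← smul_add, show w + σ tN w + (w - σ tN w) = (2 : ZMod q) • w by rw [two_smul]; abel,
        smul_smul, inv_mul_cancel₀ h2q, one_smul]
  have hndE : ∀ w, σ tN w = -w → (∀ w', σ tN w' = -w' → β w w' = 0) → w = 0 := by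
    intro w hw hall
    refine hnd w fun v => ?_
    obtain ⟨u, e, hu, he, rfl⟩ := hdec v
    rw [hr, hall e he, add_zero, hskew, horth u w hu hw, neg_zero]
  -- the inverted part
  let E : Submodule (ZMod q) V := LinearMap.ker (σ tN + 1)
  have hE : ∀ w, w ∈ E ↔ σ tN w = -w := fun w => by
    simp only [E, LinearMap.mem_ker, LinearMap.add_apply, Module.End.one_apply,
      add_eq_zero_iff_eq_neg]
  let E0 : Subgroup ↥D :=
    { carrier := {d | σ tN (π d) = -π d}
      one_mem' := by simp [hπ1]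
      mul_mem' := fun {b c} hb hc => by
        simp only [Set.mem_ofPred_eq, hπm, map_add] at hb hc ⊢
        rw [hb, hc, neg_add]
      inv_mem' := fun {b} hb => by
        simp only [Set.mem_ofPred_eq, hπi, map_neg] at hb ⊢
        rw [hb] }
  let conjD : ↥(normalizer (D : Set G)) → ↥D → ↥D := fun g d =>
    ⟨g * d * (g : G)⁻¹, Cfsg.Agent.CoprimeAction.conj_mem g.2 d.2⟩
  have hconj : ∀ g d, σ g (π d) = π (conjD g d) := fun g d => hπe g d (conjD g d) rfl
  obtain ⟨w₁, hw₁E, hw₁⟩ : ∃ w, σ tN w = -w ∧ w ≠ 0 := by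
    refine ⟨π ⟨u₀, hu₀⟩ - σ tN (π ⟨u₀, hu₀⟩), by rw [map_sub, htt', neg_sub], fun h0 => hu₁ ?_⟩
    rw [sub_eq_zero, hconj] at h0
    have h1 : π (conjD tN ⟨u₀, hu₀⟩ * ⟨u₀, hu₀⟩⁻¹) = 0 := by
      rw [hπm, hπi, ← h0, add_neg_cancel]
    exact (hπ0 _).mp h1
  obtain ⟨d₁, rfl⟩ := hπs w₁
  have hyt : Commute yN tN := (Commute.refl yN).pow_right _
  have hymem : ∀ d : ↥D, d ∈ E0 → conjD yN d ∈ E0 := by
    intro d hd
    show σ tN (π (conjD yN d)) = -π (conjD yN d)
    rw [← hconj, ← Module.End.mul_apply, ← map_mul, ← hyt.eq, map_mul, Module.End.mul_apply,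
      show σ tN (π d) = -π d from hd, map_neg]
  set Q : Subgroup G := E0.map D.subtype with hQdef
  have hQD : Q ≤ D := map_subtype_le _
  have hyQ : y ∈ normalizer (Q : Set G) := by
    refine mem_normalizer_iff_map_conj_eq.mpr (Subgroup.eq_of_le_of_card_ge ?_ (le_of_eq
      (Subgroup.card_map_of_injective (MulAut.conj y).injective).symm))
    rintro _ ⟨_, ⟨d, hd, rfl⟩, rfl⟩
    exact ⟨conjD yN d, hymem d hd, rfl⟩
  have hQE : ∀ u : ↥Q, σ tN (π ⟨u, hQD u.2⟩) = -π ⟨u, hQD u.2⟩ := by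
    rintro ⟨_, d, hd, rfl⟩
    exact hd
  -- an eigenspace of the centre and a descent
  obtain ⟨l, w₀, hw₀, hl₀⟩ := exists_eigencharacter (ρ.comp (ctr D).subtype) fun b c => by
    show ρ (b : G) * ρ (c : G) = ρ (c : G) * ρ (b : G)
    rw [← map_mul, ← map_mul, hAc b b.2 c c.2]
  set U := eig ρ l
  have hU0 : U ≠ ⊥ := (Submodule.ne_bot_iff _).mpr ⟨w₀, hl₀, hw₀⟩
  obtain ⟨f, hf, hfS, hdesc⟩ := exists_descent_eig Nat.prime_two h.ha ρ (hDK inf_le_left) hyA
    h.hye htA l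
  set a' := a - f with ha'
  set y' := y ^ 2 ^ f with hy'
  have hy'e : y' ^ 2 ^ a' = 1 := by
    rw [hy', ← pow_mul, ← pow_add, ha', Nat.add_sub_cancel' hf.le, h.hye]
  have hy't : y' ^ 2 ^ (a' - 1) = t := by
    rw [hy', ← pow_mul, ← pow_add, ha', ht, show f + (a - f - 1) = a - 1 by omega]
  have hN' : ∀ w ∈ U, (∑ i ∈ Finset.range (2 ^ a'), ρ y' ^ i) w = 0 := by
    intro w hw
    have h1 := hdesc 1 (2 ^ a') (fun b _ => Commute.one_left _) (by
      rw [one_mul, ha', ← pow_add, Nat.add_sub_cancel' hf.le]; exact h.hN) w hw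
    rw [LinearMap.sum_apply]
    rwa [Module.End.one_apply] at h1
  have hDU : ∀ u ∈ D, ∀ w ∈ U, ρ u w ∈ U := fun u hu w hw =>
    charStab_le_preserving ρ l (centralizer_le_charStab l fun c hc =>
      Subgroup.mem_centralizer_iff.mp hc.2 u hu) w hw
  have hyU : ∀ w ∈ U, ρ y' w ∈ U := fun w hw => charStab_le_preserving ρ l hfS w hw
  -- an irreducible constituent
  set S : Set (Module.End K W) := insert (ρ y') {g | ∃ u ∈ Q, g = ρ u} with hS
  obtain ⟨U₁, hU₁U, hU₁0, hU₁S, hU₁min⟩ := exists_minimal_submodule S hU0 (by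
    rintro g (rfl | ⟨u, hu, rfl⟩)
    · exact hyU
    · exact hDU u (hQD hu))
  have hQU₁ : ∀ u ∈ Q, ∀ w ∈ U₁, ρ u w ∈ U₁ := fun u hu =>
    hU₁S _ (Set.mem_insert_of_mem _ ⟨u, hu, rfl⟩)
  have hyU₁ : ∀ w ∈ U₁, ρ y' w ∈ U₁ := hU₁S _ (Set.mem_insert _ _)
  have : Nontrivial U₁ := Submodule.nontrivial_iff_ne_bot.mpr hU₁0
  let r : ↥Q →* Module.End K U₁ :=
    { toFun := fun u => (ρ (u : G)).restrict (hQU₁ u u.2)
      map_one' := LinearMap.ext fun w => Subtype.ext (by
        show ρ ((1 : ↥Q) : G) w = w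
        rw [Subgroup.coe_one, map_one, Module.End.one_apply])
      map_mul' := fun b c => LinearMap.ext fun w => Subtype.ext (by
        show ρ ((b : G) * c) w = _
        rw [map_mul]
        rfl) }
  have hrv : ∀ (u : ↥Q) (w : U₁), ((r u w : U₁) : W) = ρ (u : G) (w : W) := fun u w => rfl
  let X : Module.End K U₁ := (ρ y').restrict hyU₁
  have hXk : ∀ (k : ℕ) (w : U₁), (((X ^ k) w : U₁) : W) = (ρ y' ^ k) (w : W) := by
    intro k
    induction k with
    | zero => intro w; rfl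
    | succ k ih =>
      intro w
      rw [pow_succ, pow_succ, Module.End.mul_apply, Module.End.mul_apply, ih]
      rfl
  let α : MulAut ↥Q := normalizerMonoidHom Q ⟨y', pow_mem hyQ _⟩
  have hαk : ∀ (k : ℕ) (u : ↥Q), (((α ^ k) u : ↥Q) : G) = y' ^ k * u * (y' ^ k)⁻¹ := by
    intro k u
    rw [← map_pow]
    rfl
  -- the scalar elements
  obtain ⟨w₂, hw₂U, hw₂⟩ := Submodule.exists_mem_ne_zero_of_ne_bot hU₁0
  have hscal : ∀ u : ↥Q, u ∈ scal r ↔ (u : G) ∈ ctr D := by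
    intro u
    constructor
    · rintro ⟨c, hc⟩
      rw [← hπ0 ⟨u, hQD u.2⟩]
      refine hndE _ (hQE u) fun w' hw' => ?_
      obtain ⟨d, rfl⟩ := hπs w'
      rw [hβc]
      have hd : (d : G) ∈ Q := ⟨d, hw', rfl⟩
      obtain ⟨c', hc'⟩ := h.hsc u (hQD u.2) d d.2
      have h1 : r ⁅u, ⟨d, hd⟩⁆ = 1 := by
        have hu' : (c • (1 : Module.End K U₁)) * r ⟨d, hd⟩ = r ⟨d, hd⟩ * (c • 1) := by
          rw [smul_mul_assoc, one_mul, mul_smul_comm, mul_one]
        rw [← hc, ← map_mul, ← map_mul] at hu'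
        rw [commutatorElement_def, map_mul, map_mul, hu', ← map_mul, ← map_mul]
        simp [mul_assoc]
      have h2 := congrArg Subtype.val (LinearMap.congr_fun h1 ⟨w₂, hw₂U⟩)
      rw [hrv] at h2
      change ρ ⁅(u : G), (d : G)⁆ w₂ = w₂ at h2
      rw [hc', LinearMap.smul_apply, Module.End.one_apply] at h2
      have h3 : c' = 1 := smul_left_injective K hw₂ (h2.trans (one_smul K w₂).symm)
      rw [h3, one_smul, ← map_one ρ] at hc'
      exact commutatorElement_eq_one_iff_mul_comm.mp (h.hρ hc')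
    · intro hu
      refine ⟨l ⟨u, hu⟩, LinearMap.ext fun w => Subtype.ext ?_⟩
      rw [hrv, LinearMap.smul_apply, Module.End.one_apply, Submodule.coe_smul]
      exact hU₁U w.2 ⟨u, hu⟩
  have hfree : ∀ k, 0 < k → k < 2 ^ a' → ∀ w, σ tN w = -w → σ ((yN ^ 2 ^ f) ^ k) w = w → w = 0 := by
    intro k hk0 hk w hw hkw
    obtain ⟨i, hi⟩ := exists_pow_eq_top_power Nat.prime_two hy'e hk0 hk
    rw [hy't] at hi
    have h1 : σ tN w = w := by
      rw [show tN = ((yN ^ 2 ^ f) ^ k) ^ i from Subtype.ext hi.symm, map_pow]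
      clear hi
      induction i with
      | zero => rfl
      | succ i ih => rw [pow_succ, Module.End.mul_apply, hkw, ih]
    rw [h1, ← sub_eq_zero, sub_neg_eq_add, ← two_smul (ZMod q)] at hw
    exact (smul_eq_zero.mp hw).resolve_left h2q
  have hm2 : 2 ≤ 2 ^ a' := Nat.le_self_pow (by omega) 2
  obtain ⟨h1, h2, -⟩ := core r (X := X) (α := α) (2 ^ a') hm2
    (LinearMap.ext fun w => Subtype.ext (by rw [hXk, ← map_pow, hy'e, map_one]; rfl))
    (MulEquiv.ext fun u => Subtype.ext (by rw [hαk, hy'e]; simp))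
    (fun u => LinearMap.ext fun w => Subtype.ext (by
      show ρ y' (ρ (u : G) (w : W)) = ρ (y' * u * y'⁻¹) (ρ y' (w : W))
      rw [← Module.End.mul_apply, ← Module.End.mul_apply, ← map_mul, ← map_mul,
        inv_mul_cancel_right]))
    (hDK hQD)
    (fun Z hZu hZy => by
      rcases hU₁min (Z.map U₁.subtype) (Submodule.map_subtype_le _ _) (by
        rintro g hg _ ⟨w, hw, rfl⟩
        rcases hg with rfl | ⟨u, hu, rfl⟩
        · exact ⟨_, hZy w hw, rfl⟩
        · exact ⟨_, hZu ⟨u, hu⟩ w hw, rfl⟩) with h0 | h0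
      · exact Or.inl (Submodule.map_injective_of_injective U₁.injective_subtype
          (h0.trans (Submodule.map_bot _).symm))
      · refine Or.inr (Submodule.map_injective_of_injective U₁.injective_subtype ?_)
        rw [h0, Submodule.map_top, Submodule.range_subtype])
    (fun u v => by
      rw [hscal]
      exact ⟨hQD (⁅u, v⁆ : ↥Q).2, mem_centralizer_iff.mpr fun g _ =>
        (h.central (hQD u.2) (hQD v.2) g).eq⟩)
    (fun u hu => by
      by_contra hall
      push Not at hall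
      refine hu ((hscal u).mpr ((hπ0 ⟨u, hQD u.2⟩).mp (hndE _ (hQE u) fun w' hw' => ?_)))
      obtain ⟨d, rfl⟩ := hπs w'
      rw [hβc]
      have hd : (d : G) ∈ Q := ⟨d, hw', rfl⟩
      obtain ⟨c', hc'⟩ := h.hsc d d.2 u (hQD u.2)
      have h2 := congrArg Subtype.val (LinearMap.congr_fun (hall ⟨d, hd⟩) ⟨w₂, hw₂U⟩)
      rw [hrv] at h2
      change ρ ⁅(d : G), (u : G)⁆ w₂ = w₂ at h2
      rw [hc', LinearMap.smul_apply, Module.End.one_apply] at h2
      have h3 : c' = 1 := smul_left_injective K hw₂ (h2.trans (one_smul K w₂).symm)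
      rw [h3, one_smul, ← map_one ρ] at hc'
      exact ((commutatorElement_eq_one_iff_mul_comm.mp (h.hρ hc')) :
        Commute (d : G) (u : G)).symm)
    (fun k hk0 hk u hu => by
      rw [hscal] at hu ⊢
      rw [Subgroup.coe_mul, Subgroup.coe_inv, hαk] at hu
      rw [← hπ0 ⟨u, hQD u.2⟩]
      refine hfree k hk0 hk _ (hQE u) ?_
      rw [hconj, ← sub_eq_zero, sub_eq_add_neg, ← hπi, ← hπm, hπ0]
      exact hu)
    (LinearMap.ext fun w => Subtype.ext (by
      rw [LinearMap.sum_apply, Submodule.coe_sum, LinearMap.zero_apply]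
      simp only [hXk]
      rw [← LinearMap.sum_apply]
      exact hN' w (hU₁U w.2)))
  -- the index is the order of the inverted part
  let Ψ : ↥Q →* Multiplicative E :=
    { toFun := fun u => Multiplicative.ofAdd ⟨π ⟨u, hQD u.2⟩, (hE _).mpr (hQE u)⟩
      map_one' := by
        refine congrArg Multiplicative.ofAdd (Subtype.ext ?_)
        exact hπ1
      map_mul' := fun b c => by
        refine congrArg Multiplicative.ofAdd (Subtype.ext ?_)
        exact hπm ⟨b, hQD b.2⟩ ⟨c, hQD c.2⟩ }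
  have hΨker : Ψ.ker = scal r := by
    ext u
    rw [hscal, ← hπ0 ⟨u, hQD u.2⟩, MonoidHom.mem_ker]
    exact ⟨fun he => congrArg Subtype.val (Multiplicative.ofAdd.injective he),
      fun he => congrArg Multiplicative.ofAdd (Subtype.ext he)⟩
  have hΨs : Function.Surjective Ψ := by
    intro e
    obtain ⟨d, hd⟩ := hπs (Multiplicative.toAdd e : E).1
    have hd' : σ tN (π d) = -π d := by rw [hd]; exact (hE _).mp (Multiplicative.toAdd e).2
    exact ⟨⟨d, d, hd', rfl⟩, congrArg Multiplicative.ofAdd (Subtype.ext hd)⟩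
  have hcardE : Nat.card E = finrank K U₁ ^ 2 := by
    rw [← h1, ← hΨker, Subgroup.index_ker, MonoidHom.range_eq_top.mpr hΨs, Subgroup.card_top,
      Nat.card_congr Multiplicative.ofAdd.symm]
  obtain ⟨i, hi⟩ : ∃ i, Nat.card E = q ^ i := by
    rw [Module.natCard_eq_pow_finrank (K := ZMod q), Nat.card_zmod]
    exact ⟨_, rfl⟩
  obtain ⟨j, -, hj⟩ := (Nat.dvd_prime_pow h.hq).mp
    ((dvd_pow_self (finrank K U₁) two_ne_zero).trans ((hcardE.symm.trans hi).dvd))
  have hi0 : 1 < Nat.card E := by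
    have hne : (⟨π d₁, (hE _).mpr hw₁E⟩ : E) ≠ 0 := fun he => hw₁ (congrArg Subtype.val he)
    exact Finite.one_lt_card_iff_nontrivial.mpr (nontrivial_of_ne _ _ hne)
  have hj0 : 1 ≤ j := by
    by_contra h0
    rw [show j = 0 by omega, pow_zero] at hj
    rw [hcardE, hj, one_pow] at hi0
    omega
  -- the symplectic bound
  let fy : E →+ E :=
    { toFun := fun w => ⟨σ (yN ^ 2 ^ f) w, by
        rw [hE, ← Module.End.mul_apply, ← map_mul, ← (hyt.pow_left _).eq, map_mul,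
          Module.End.mul_apply, (hE _).mp w.2, map_neg]⟩
      map_zero' := Subtype.ext (map_zero _)
      map_add' := fun b c => Subtype.ext (map_add _ _ _) }
  have hfy : ∀ (k : ℕ) (w : E), ((fy^[k] w : E) : V) = σ ((yN ^ 2 ^ f) ^ k) w := by
    intro k
    induction k with
    | zero => intro w; rw [pow_zero, map_one]; rfl
    | succ k ih =>
      intro w
      rw [Function.iterate_succ_apply', pow_succ', map_mul, Module.End.mul_apply, ← ih]
      rfl
  have hdiv := dvd_pow_of_form (V := E) (n := j) (h := 2 ^ a')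
    (by rw [hcardE, hj, ← pow_mul, mul_comm]) (by omega)
    ((((Nat.coprime_primes Nat.prime_two h.hq).mpr h.hq2.symm)).pow_left a')
    (fun u v => β u v) (fun u u' v => hl u u' v) (fun u v v' => hr u v v')
    (fun u hu => Subtype.ext (hndE _ ((hE _).mp u.2) fun w' hw' => hu ⟨w', (hE _).mpr hw'⟩))
    fy (fun u v => hinv _ _ _)
    (fun u => Subtype.ext (by
      rw [hfy, show (yN ^ 2 ^ f) ^ 2 ^ a' = 1 from Subtype.ext hy'e, map_one]
      rfl))
    (fun k hk0 hk u hu => Subtype.ext (hfree k hk0 hk _ ((hE _).mp u.2) (by rw [← hfy, hu])))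
  rw [hj] at h2
  have hqj : 1 < q ^ j := Nat.one_lt_pow (by omega) h.hq.one_lt
  have heq : q ^ j + 1 = 2 ^ a' := by
    rcases hdiv with hd | hd <;> have := Nat.le_of_dvd (by omega) hd <;> omega
  have hq3 : 3 ≤ q := by
    have := h.hq.two_le
    have := h.hq2
    omega
  have ha2 : 2 ≤ a' := by
    by_contra h0
    have : 2 ^ a' ≤ 2 ^ 1 := Nat.pow_le_pow_right two_pos (by omega)
    omega
  have hj1 := pow_add_one_eq_two_pow (h.hq.odd_of_ne_two h.hq2) (by omega) ha2 heq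
  subst hj1
  rw [pow_one] at heq
  -- a fixed vector of `t` in the eigenspace
  have htU : ∀ w ∈ U, ρ t w ∈ U := by
    rw [← hy't]
    exact fun w hw => charStab_le_preserving ρ l (pow_mem hfS _) w hw
  have hUp : ∃ w ∈ U, w ≠ 0 ∧ ρ t w = w := by
    by_contra hall
    push Not at hall
    have hneg : ∀ w ∈ U, ρ t w = -w := by
      intro w hw
      by_contra hne
      refine hall (w + ρ t w) (U.add_mem hw (htU w hw))
        (fun h0 => hne (eq_neg_of_add_eq_zero_right h0)) ?_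
      rw [map_add, ← Module.End.mul_apply, ← map_mul, htt, map_one, Module.End.one_apply,
        add_comm]
    refine hw₁ (hndE _ hw₁E fun w' hw' => ?_)
    obtain ⟨d', rfl⟩ := hπs w'
    rw [hβc]
    -- `t` is scalar on `U`, so the square of `d₁` is scalar there
    have hd : π (conjD tN d₁ * d₁) = 0 := by rw [hπm, ← hconj, hw₁E, neg_add_cancel]
    have hdc : (t * (d₁ : G) * t⁻¹ * d₁ : G) ∈ ctr D := (hπ0 _).mp hd
    obtain ⟨c, hc⟩ : ∃ c : K, ∀ w ∈ U, ρ ((d₁ : G) ^ 2) w = c • w := by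
      refine ⟨l ⟨_, hdc⟩, fun w hw => ?_⟩
      rw [← hw ⟨_, hdc⟩]
      show ρ ((d₁ : G) ^ 2) w = ρ (t * (d₁ : G) * t⁻¹ * d₁) w
      rw [inv_eq_of_mul_eq_one_right htt]
      simp only [map_mul, pow_two, Module.End.mul_apply]
      rw [hneg _ (hDU _ d₁.2 w hw), map_neg, map_neg,
        hneg _ (hDU _ d₁.2 _ (hDU _ d₁.2 w hw)), neg_neg]
    have hcomm2 : Commute ((d₁ : G) ^ 2) d' := by
      obtain ⟨c', hc'⟩ := h.hsc _ (pow_mem d₁.2 2) d' d'.2
      refine commutatorElement_eq_one_iff_mul_comm.mp (h.hρ ?_)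
      have h5 : ρ ((d₁ : G) ^ 2 * d') w₀ = ρ ((d' : G) * (d₁ : G) ^ 2) w₀ := by
        rw [map_mul, map_mul, Module.End.mul_apply, Module.End.mul_apply,
          hc _ (hDU _ d'.2 w₀ hl₀), hc w₀ hl₀, map_smul]
      have h6 : ρ ⁅(d₁ : G) ^ 2, (d' : G)⁆ (ρ ((d' : G) * (d₁ : G) ^ 2) w₀) =
          ρ ((d' : G) * (d₁ : G) ^ 2) w₀ := by
        rw [← Module.End.mul_apply, ← map_mul, show ⁅(d₁ : G) ^ 2, (d' : G)⁆ *
          ((d' : G) * (d₁ : G) ^ 2) = (d₁ : G) ^ 2 * d' by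
            simp only [commutatorElement_def]; group, h5]
      rw [hc', LinearMap.smul_apply, Module.End.one_apply] at h6
      have hne : ρ ((d' : G) * (d₁ : G) ^ 2) w₀ ≠ 0 := fun h0 => hw₀ (by
        rw [← Module.End.one_apply (R := K) w₀, ← map_one ρ,
          ← inv_mul_cancel ((d' : G) * (d₁ : G) ^ 2), map_mul, Module.End.mul_apply, h0, map_zero])
      have h3 : c' = 1 := smul_left_injective K hne (h6.trans (one_smul K _).symm)
      rw [hc', h3, one_smul, map_one]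
    obtain ⟨i, hi⟩ := h.hD ⟨(d₁ : G), d₁.2⟩
    obtain ⟨k, hk⟩ := (h.hq.odd_of_ne_two h.hq2).pow (n := i)
    have hpow : (d₁ : G) = ((d₁ : G) ^ 2) ^ (k + 1) := by
      have hi' : (d₁ : G) ^ q ^ i = 1 := congrArg Subtype.val hi
      rw [← pow_mul, show 2 * (k + 1) = q ^ i + 1 by omega, pow_succ, hi', one_mul]
    rw [hpow]
    exact hcomm2.pow_left _
  obtain ⟨wp, hwpU, hwp0, hwpt⟩ := hUp
  refine ⟨f, hf, heq, ha2, V, inferInstance, inferInstance, inferInstance, σ, β, ?_, hl, hr, hss,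
    hinv, ?_, hndE, ?_⟩
  · intro g hg u hu
    refine (hπ0 (conjD g ⟨u, hu⟩ * ⟨u, hu⟩⁻¹)).mp ?_
    rw [hπm, hπi, ← hconj, hg, Module.End.one_apply, add_neg_cancel]
  · rw [← Nat.card_congr (Equiv.subtypeEquivRight fun w => hE w), hcardE, hj, pow_one]
  intro ha'2 w hw
  have hcop : (orderOf t).Coprime (Nat.card (ctr D : Subgroup G)) := by
    rw [← Nat.card_zpowers]
    exact coprime_zpowers_of_pow_eq Nat.prime_two h.hq h.hq2.symm (by rw [pow_two, htt])
      (h.hD.to_le inf_le_left)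
  -- preimages commuting with `t`
  have hlift : ∀ u, σ tN u = u → ∃ d : ↥D, π d = u ∧ t * (d : G) = d * t := by
    intro u hu
    obtain ⟨d, rfl⟩ := hπs u
    have hk : (d : G)⁻¹ * t * d * t⁻¹ ∈ ctr D := by
      have : π (d⁻¹ * conjD tN d) = 0 := by rw [hπm, hπi, ← hconj, hu, neg_add_cancel]
      simpa [conjD, htN, mul_assoc] using (hπ0 _).mp this
    obtain ⟨c, hc1, hc2⟩ := Cfsg.Agent.CoprimeAction.exists_fixed_mem_coset_zpowers
      (pow_mem hyA _ : t ∈ normalizer (ctr D : Set G)) hcop (d : G) hk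
    have hcD : c ∈ D := by
      have := D.mul_mem d.2 hc2.1
      rwa [mul_inv_cancel_left] at this
    refine ⟨⟨c, hcD⟩, ?_, hc1⟩
    have : π (d⁻¹ * ⟨c, hcD⟩) = 0 := (hπ0 _).mpr hc2
    rw [hπm, hπi, neg_add_eq_zero] at this
    exact this.symm
  -- `y'` is `-1` on the fixed vectors of `t` in `U`
  have hy'' : ∀ v ∈ U, ρ t v = v → ρ y' v = -v := by
    intro v hv hvt
    have h0 := hN' v hv
    rw [show a' = 2 from ha'2] at h0
    have h2t : y' ^ 2 = t := by
      have := hy't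
      rwa [show a' = 2 from ha'2] at this
    have h3t : y' ^ 3 = y' * t := by rw [← h2t, ← pow_succ']
    simp only [Finset.sum_range_succ, Finset.sum_range_zero, zero_add, LinearMap.add_apply,
      show (2 : ℕ) ^ 2 = 4 from rfl, pow_zero, Module.End.one_apply, pow_one] at h0
    rw [← map_pow, ← map_pow, h2t, h3t, map_mul, Module.End.mul_apply, hvt] at h0
    have h4 : (2 : K) • (ρ y' v + v) = 0 := by rw [two_smul, ← h0]; abel
    exact eq_neg_of_add_eq_zero_left ((smul_eq_zero.mp h4).resolve_left h.h2K)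
  have hyi : ∀ v ∈ U, ρ t v = v → ρ y'⁻¹ v = -v := by
    intro v hv hvt
    have h1 := congrArg (ρ y'⁻¹) (hy'' v hv hvt)
    rw [← Module.End.mul_apply, ← map_mul, inv_mul_cancel, map_one, Module.End.one_apply,
      map_neg] at h1
    exact (neg_eq_iff_eq_neg.mp h1.symm)
  obtain ⟨d, rfl, hdt⟩ := hlift w hw
  set c₁ : ↥D := conjD (yN ^ 2 ^ f) d * d⁻¹ with hc₁
  have hπc : π c₁ = σ (yN ^ 2 ^ f) (π d) - π d := by rw [hc₁, hπm, hπi, ← hconj, sub_eq_add_neg]
  have hπct : σ tN (π c₁) = π c₁ := by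
    rw [hπc, map_sub, ← Module.End.mul_apply, ← map_mul, ← (hyt.pow_left _).eq, map_mul,
      Module.End.mul_apply, hw]
  have hdU : ∀ (b : ↥D), t * (b : G) = b * t → ∀ v ∈ U, ρ t v = v →
      ρ (b : G) v ∈ U ∧ ρ t (ρ (b : G) v) = ρ (b : G) v := fun b hb v hv hvt =>
    ⟨hDU _ b.2 v hv, by
      rw [← Module.End.mul_apply, ← map_mul, hb, map_mul, Module.End.mul_apply, hvt]⟩
  have hc₁v : ∀ v ∈ U, ρ t v = v → ρ (c₁ : G) v = v := by
    intro v hv hvt
    have hdt' : t * ((d⁻¹ : ↥D) : G) = ((d⁻¹ : ↥D) : G) * t :=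
      (Commute.inv_right (hdt : Commute t (d : G))).eq
    obtain ⟨hv1, hv2⟩ := hdU d⁻¹ hdt' v hv hvt
    show ρ (y' * (d : G) * y'⁻¹ * ((d⁻¹ : ↥D) : G)) v = v
    simp only [map_mul, Module.End.mul_apply]
    rw [hyi _ hv1 hv2, map_neg, map_neg, ← Module.End.mul_apply (ρ (d : G)), ← map_mul,
      Subgroup.coe_inv, mul_inv_cancel, map_one, Module.End.one_apply, hy'' v hv hvt, neg_neg]
  have h0 : π c₁ = 0 := by
    refine hnd _ fun v => ?_
    obtain ⟨u, e, hu, he, rfl⟩ := hdec v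
    rw [hr, horth _ e hπct he, add_zero]
    obtain ⟨b, rfl, hbt⟩ := hlift u hu
    rw [hβc]
    obtain ⟨c', hc'⟩ := h.hsc _ c₁.2 b b.2
    refine commutatorElement_eq_one_iff_mul_comm.mp (h.hρ ?_)
    obtain ⟨hb1, hb2⟩ := hdU b hbt wp hwpU hwpt
    have hne : ρ ((b : G) * c₁) wp ≠ 0 := fun h0 => hwp0 (by
      rw [← Module.End.one_apply (R := K) wp, ← map_one ρ,
        ← inv_mul_cancel ((b : G) * (c₁ : G)), map_mul, Module.End.mul_apply, h0, map_zero])
    have h6 : ρ ⁅(c₁ : G), (b : G)⁆ (ρ ((b : G) * c₁) wp) = ρ ((b : G) * c₁) wp := by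
      rw [← Module.End.mul_apply, ← map_mul, show ⁅(c₁ : G), (b : G)⁆ * ((b : G) * c₁) =
        (c₁ : G) * b by simp only [commutatorElement_def]; group, map_mul, map_mul,
        Module.End.mul_apply, Module.End.mul_apply, hc₁v _ hb1 hb2, hc₁v wp hwpU hwpt]
    rw [hc', LinearMap.smul_apply, Module.End.one_apply] at h6
    have h3 : c' = 1 := smul_left_injective K hne (h6.trans (one_smul K _).symm)
    rw [hc', h3, one_smul, map_one]
  rw [hπc, sub_eq_zero] at h0
  exact h0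

end Cfsg.Agent.GrossTwo
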