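import Cfsg.Agent.Lib.GrossTwoMinimal

/-!
# Gross's theorem for two-power automorphisms: the action on a minimal normal subgroup

Let `s` of order dividing `2 ^ e` be fixed point free on the solvable group `G` and
`t = s ^ 2 ^ (e - 1)`.  Then `⁅G, t⁆` acts on every chief factor as a nilpotent group, and
trivially if `e ≤ 2`; hence `⁅G, t⁆` has Fitting height at most two.
-/

set_option autoImplicit false

namespace Cfsg.Agent.GrossTwo

open Subgroup Module Cfsg.Agent.HallHigman
open scoped commutatorElement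

universe u

/-- An element of coprime order centralising every `p`-core of a solvable normal subgroup
centralises it. -/
theorem commutator_eq_bot_of_pCores {Γ : Type*} [Group Γ] [Finite Γ] (G : Subgroup Γ) [G.Normal]
    [Group.IsSolvable G] {t : Γ} (hcop : (orderOf t).Coprime (Nat.card G))
    (h : ∀ q : ℕ, q.Prime → (Cfsg.pCore q G).map G.subtype ≤ centralizer {t}) :
    ⁅G, zpowers t⁆ = ⊥ := by
  set F := (Cfsg.fittingSubgroup G).map G.subtype with hF
  have : (Cfsg.fittingSubgroup G).Characteristic := inferInstance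
  have hFn : F.Normal := inferInstance
  have hFt : F ≤ centralizer {t} := by
    rw [hF, Cfsg.Agent.ComponentsFitting.fittingSubgroup_eq_iSup, Subgroup.map_iSup]
    exact iSup_le fun r => h r (Nat.prime_of_mem_primeFactors r.2)
  have htC : zpowers t ≤ centralizer (F : Set Γ) := by
    rw [zpowers_le, mem_centralizer_iff]
    intro x hx
    exact mem_centralizer_singleton_iff.mp (hFt hx)
  have hle : ⁅G, zpowers t⁆ ≤ F := by
    intro x hx
    have hxG : x ∈ G := commutator_le_left _ _ hx
    have hxC : x ∈ centralizer (F : Set Γ) :=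
      commutator_le_right _ _ (commutator_mono le_rfl htC hx)
    refine ⟨⟨x, hxG⟩, Cfsg.Agent.HallSolvable.centralizer_fitting_le ?_, rfl⟩
    rw [mem_centralizer_iff]
    intro y hy
    exact Subtype.ext (mem_centralizer_iff.mp hxC _ ⟨y, hy, rfl⟩)
  have h2 : ⁅⁅G, zpowers t⁆, zpowers t⁆ = ⊥ := by
    rw [eq_bot_iff, ← commutator_eq_bot_iff_le_centralizer.mpr htC, commutator_comm (zpowers t) F]
    exact commutator_mono hle le_rfl
  have h3 := Cfsg.Agent.CoprimeAction.le_centralizer_of_commutator_commutator_eq_bot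
    (Subgroup.normalizer_eq_top G ▸ le_top) (by rwa [Nat.card_zpowers])
    (Or.inl (Cfsg.Agent.CoprimeAction.isSolvable_zpowers t)) h2
  rw [commutator_comm]
  exact commutator_eq_bot_iff_le_centralizer.mpr h3

variable {K W : Type*} {Γ : Type u} [Field K] [IsAlgClosed K] [Group Γ] [Finite Γ]
  [AddCommGroup W] [Module K W] [FiniteDimensional K W]

/-- The faithful step. -/
theorem faithful_step {l e : ℕ} [CharP K l] (hl : l.Prime) (hl2 : l ≠ 2)
    (ρ : Representation K Γ W) (hρ : Function.Injective ρ) (G : Subgroup Γ) [G.Normal]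
    [Group.IsSolvable G] {s : Γ} (he : 1 ≤ e) (hse : s ^ 2 ^ e = 1)
    (hN : ∑ k ∈ Finset.range (2 ^ e), ρ s ^ k = 0) (hfpf : ∀ g ∈ G, s * g = g * s → g = 1)
    (hOl : Cfsg.pCore l G = ⊥) :
    ⁅G, zpowers (s ^ 2 ^ (e - 1))⁆ ≤ (Cfsg.fittingSubgroup G).map G.subtype ∧
      (e ≤ 2 → ⁅G, zpowers (s ^ 2 ^ (e - 1))⁆ = ⊥) := by
  classical
  set t := s ^ 2 ^ (e - 1) with ht
  have hcop := coprime_of_fpf Nat.prime_two hse hfpf
  have hcopt : (orderOf t).Coprime (Nat.card G) := hcop.coprime_dvd_left (orderOf_pow_dvd _)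
  have hodd : ∀ q : ℕ, q.Prime → q ∣ Nat.card G → q ≠ 2 := by
    intro q hq hqd hq2
    subst hq2
    obtain ⟨g, hg⟩ := exists_prime_orderOf_dvd_card' (G := G) 2 (hp := ⟨hq⟩) hqd
    rcases Nat.eq_zero_or_pos ((orderOf s) % 2) with h0 | h0
    · have := Nat.dvd_gcd (Nat.dvd_of_mod_eq_zero h0) hqd
      rw [hcop.gcd_eq_one] at this
      omega
    · obtain ⟨i, -, hi⟩ := (Nat.dvd_prime_pow Nat.prime_two).mp (orderOf_dvd_of_pow_eq_one hse)
      rcases Nat.eq_zero_or_pos i with hi0 | hi0
      · have hs1 : s = 1 := orderOf_eq_one_iff.mp (by rw [hi, hi0, pow_zero])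
        have h1 := hfpf g g.2 (by rw [hs1, one_mul, mul_one])
        rw [show g = 1 from Subtype.ext h1, orderOf_one] at hg
        omega
      · obtain ⟨d, hd⟩ : 2 ∣ orderOf s := hi ▸ dvd_pow_self 2 hi0.ne'
        omega
  have h2K : (2 : K) ≠ 0 := by
    intro h0
    have h1 : ((2 : ℕ) : K) = 0 := by exact_mod_cast h0
    rw [CharP.cast_eq_zero_iff K l, Nat.prime_dvd_prime_iff_eq hl Nat.prime_two] at h1
    exact hl2 h1
  have hst : s * t = t * s := ((Commute.refl s).pow_right _).eq
  have hstn : s ∈ normalizer (zpowers t : Set Γ) := by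
    rw [mem_normalizer_iff_map_conj_eq, MonoidHom.map_zpowers]
    congr 1
    show s * t * s⁻¹ = t
    rw [hst, mul_inv_cancel_right]
  -- data for a minimal subgroup of a `q`-core
  have hdata : ∀ (q : ℕ) (X : Subgroup Γ), q.Prime → s ∈ normalizer (X : Set Γ) →
      (Nat.card X).Coprime (Nat.card ((Cfsg.pCore q G).map G.subtype : Subgroup Γ)) →
      (∀ D : Subgroup Γ, D ≤ G → IsPGroup q D → s ∈ normalizer (D : Set Γ) →
        X ≤ normalizer (D : Set Γ) → (∀ u ∈ D, ∀ v ∈ D, u * v = v * u) →
        q ≠ 2 → (q : K) ≠ 0 → X ≤ centralizer (D : Set Γ)) →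
      ¬ X ≤ centralizer (((Cfsg.pCore q G).map G.subtype : Subgroup Γ) : Set Γ) →
      ∃ D, MData q e ρ s D X := by
    intro q X hq hsX hcopX hab hnc
    have := Fact.mk hq
    set O := (Cfsg.pCore q G).map G.subtype with hO
    have hOG : O ≤ G := map_subtype_le _
    have : (Cfsg.pCore q G).Characteristic := Cfsg.Agent.HallCore.pCore_characteristic q G
    have hOn : O.Normal := inferInstance
    have hOp : IsPGroup q O := (Cfsg.Agent.HallCore.isPGroup_pCore q G).map G.subtype
    have hOne : O ≠ ⊥ := fun h0 => hnc (by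
      rw [h0]
      exact fun x _ => by simp [mem_centralizer_iff])
    have hqd : q ∣ Nat.card G := by
      obtain ⟨k, hk⟩ := IsPGroup.iff_card.mp hOp
      have hk0 : k ≠ 0 := by
        rintro rfl
        rw [pow_zero, card_eq_one] at hk
        exact hOne hk
      exact ((dvd_pow_self q hk0).trans (dvd_of_eq hk.symm)).trans (card_dvd_of_le hOG)
    have hql : q ≠ l := by
      rintro rfl
      exact hOne (by rw [hO, hOl, Subgroup.map_bot])
    have hqK : (q : K) ≠ 0 := by
      rw [Ne, CharP.cast_eq_zero_iff K l, Nat.prime_dvd_prime_iff_eq hl hq]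
      exact hql.symm
    obtain ⟨D, hDO, hsD, hXD, hXn, hgen, hexp, hcls, hXc⟩ :=
      exists_minimal hOp (normalizer_eq_top O ▸ mem_top s) hsX
        (normalizer_eq_top O ▸ le_top) hcopX hnc
    have hnab : ∃ u ∈ D, ∃ v ∈ D, u * v ≠ v * u := by
      by_contra hall
      push Not at hall
      exact hXn (hab D (hDO.trans hOG) (hOp.to_le hDO) hsD hXD hall (hodd q hq hqd) hqK)
    exact ⟨D, hρ, hq, hodd q hq hqd, hqK, h2K, he, hse, hN, hsD, hsX,
      fun d hd => hfpf d (hOG (hDO hd)), hOp.to_le hDO, hXD, hgen, hexp, hcls, hnab, hXc hnab⟩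
  have habel : ∀ (q : ℕ) (D : Subgroup Γ), q.Prime → IsPGroup q D → s ∈ normalizer (D : Set Γ) →
      (∀ u ∈ D, ∀ v ∈ D, u * v = v * u) → q ≠ 2 → (q : K) ≠ 0 → ∀ u ∈ D, t * u = u * t := by
    intro q D hq hD hsD hc hq2 hqK u hu
    exact commute_top_of_comm Nat.prime_two hq hq2.symm hqK hρ he hse hN hD hsD hc u hu
  -- small exponents
  have hsmall : e ≤ 2 → ∀ q : ℕ, q.Prime →
      (Cfsg.pCore q G).map G.subtype ≤ centralizer {t} := by
    intro he2 q hq
    by_contra hnc
    have := Fact.mk hq
    obtain ⟨D, hD⟩ := hdata q (zpowers t) hq hstn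
      (by
        rw [Nat.card_zpowers]
        exact hcopt.coprime_dvd_right (card_dvd_of_le (map_subtype_le _)))
      (fun D _ hDp hsD _ hc hq2 hqK => zpowers_le.mpr (mem_centralizer_iff.mpr fun u hu =>
        (habel q D hq hDp hsD hc hq2 hqK u hu).symm))
      (fun hle => hnc fun x hx => mem_centralizer_singleton_iff.mpr
        (mem_centralizer_iff.mp (hle (mem_zpowers t)) x hx))
    have := hD.three_le rfl
    omega
  refine ⟨?_, fun he2 => commutator_eq_bot_of_pCores G hcopt (hsmall he2)⟩
  -- the general case, modulo the Fitting subgroup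
  set F := (Cfsg.fittingSubgroup G).map G.subtype with hF
  have : (Cfsg.fittingSubgroup G).Characteristic := inferInstance
  have hFn : F.Normal := inferInstance
  let π := QuotientGroup.mk' F
  have hGn : (G.map π).Normal := Subgroup.Normal.map inferInstance π (QuotientGroup.mk'_surjective _)
  have : Group.IsSolvable (G.map π) :=
    Group.isSolvable_of_surjective (π.subgroupMap_surjective G)
  have hcop2 : (orderOf (π t)).Coprime (Nat.card (G.map π)) :=
    (hcopt.coprime_dvd_left (orderOf_map_dvd π t)).coprime_dvd_right (card_map_dvd G π)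
  by_contra hnle
  obtain ⟨r, hr, hrt⟩ : ∃ r : ℕ, r.Prime ∧
      ¬ (Cfsg.pCore r (G.map π)).map (G.map π).subtype ≤ centralizer {π t} := by
    by_contra hall
    push Not at hall
    refine hnle fun x hx => ?_
    have h1 := commutator_eq_bot_of_pCores (G.map π) hcop2 hall
    rw [← MonoidHom.map_zpowers, ← map_commutator] at h1
    have h2 : π x ∈ (⊥ : Subgroup (Γ ⧸ F)) := h1 ▸ mem_map_of_mem π hx
    exact (QuotientGroup.eq_one_iff x).mp (mem_bot.mp h2)
  have := Fact.mk hr
  set O₂ := (Cfsg.pCore r (G.map π)).map (G.map π).subtype with hO₂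
  have : (Cfsg.pCore r (G.map π)).Characteristic :=
    Cfsg.Agent.HallCore.pCore_characteristic r (G.map π)
  have hO₂n : O₂.Normal := inferInstance
  have hO₂p : IsPGroup r O₂ := (Cfsg.Agent.HallCore.isPGroup_pCore r (G.map π)).map _
  set M := O₂.comap π ⊓ G with hM
  have hMn : M.Normal := inferInstance
  have hMmap : M.map π = O₂ := by
    refine le_antisymm ((map_mono inf_le_left).trans (map_comap_le π O₂)) ?_
    intro x hx
    obtain ⟨g, hg, rfl⟩ := map_subtype_le _ hx
    exact ⟨g, ⟨hx, hg⟩, rfl⟩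
  have hMt : zpowers t ≤ normalizer (M : Set Γ) := normalizer_eq_top M ▸ le_top
  have hcopM : (Nat.card (zpowers s)).Coprime (Nat.card M) := by
    rw [Nat.card_zpowers]
    exact hcop.coprime_dvd_right (card_dvd_of_le inf_le_right)
  have hMsol : Group.IsSolvable M := Cfsg.Agent.CoprimeAction.isSolvable_of_le inf_le_right
  obtain ⟨P₀, hP₀⟩ := Cfsg.Agent.CoprimeAction.exists_invariant_sylow
    (normalizer_eq_top M ▸ le_top : zpowers s ≤ normalizer (M : Set Γ)) hcopM (Or.inr hMsol) r
  set R₀ := (P₀ : Subgroup M).map M.subtype with hR₀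
  have hR₀M : R₀ ≤ M := map_subtype_le _
  have hR₀p : IsPGroup r R₀ := P₀.2.map M.subtype
  have htR₀ : zpowers t ≤ normalizer (R₀ : Set Γ) :=
    (zpowers_le.mpr (pow_mem (mem_zpowers s) _)).trans hP₀
  set R := ⁅R₀, zpowers t⁆ with hR
  have hRR₀ : R ≤ R₀ := Cfsg.Agent.CoprimeAction.commutator_le_self_of_le_normalizer htR₀
  have hcopR₀ : (Nat.card (zpowers t)).Coprime (Nat.card R₀) := by
    rw [Nat.card_zpowers]
    exact hcopt.coprime_dvd_right (card_dvd_of_le (hR₀M.trans inf_le_right))
  have hRgen : ⁅R, zpowers t⁆ = R := Cfsg.Agent.CoprimeAction.commutator_commutator_eq htR₀ hcopR₀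
    (Or.inl (Cfsg.Agent.CoprimeAction.isSolvable_zpowers t))
  have hRG : R ≤ G := hRR₀.trans (hR₀M.trans inf_le_right)
  have hRp : IsPGroup r R := hR₀p.to_le hRR₀
  have hsR : s ∈ normalizer (R : Set Γ) := by
    rw [mem_normalizer_iff_map_conj_eq, hR, map_commutator,
      mem_normalizer_iff_map_conj_eq.mp (hP₀ (mem_zpowers s)),
      mem_normalizer_iff_map_conj_eq.mp hstn]
  -- `R` covers the part of the quotient moved by `t`
  have hcover : R₀.map π = O₂ := by
    refine le_antisymm ((map_mono hR₀M).trans hMmap.le) fun x hx => ?_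
    have hp' : IsPGroup r (M.map π) := hMmap ▸ hO₂p
    let S := P₀.mapSurjective (π.subgroupMap_surjective M)
    have htop : (⊤ : Subgroup (M.map π)) = (S : Subgroup (M.map π)) :=
      S.is_maximal' (hp'.to_subgroup ⊤) le_top
    have hx' : (⟨x, hMmap.ge hx⟩ : M.map π) ∈ (S : Subgroup (M.map π)) := htop ▸ mem_top _
    obtain ⟨a, ha, hax⟩ := hx'
    exact ⟨(a : Γ), ⟨a, ha, rfl⟩, congrArg Subtype.val hax⟩
  have hRF : ¬ R ≤ F := by
    intro hle
    refine hrt fun x hx => ?_
    have h1 : ⁅O₂, zpowers (π t)⁆ = ⊥ := by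
      rw [← hcover, ← MonoidHom.map_zpowers, ← map_commutator, eq_bot_iff]
      rintro _ ⟨a, ha, rfl⟩
      exact mem_bot.mpr ((QuotientGroup.eq_one_iff a).mpr (hle ha))
    exact mem_centralizer_singleton_iff.mpr
      (mem_centralizer_iff.mp (commutator_eq_bot_iff_le_centralizer.mp h1 hx) (π t)
        (mem_zpowers _)).symm
  -- some core moved by `R`
  obtain ⟨q, hq, hqr, hRq⟩ : ∃ q : ℕ, q.Prime ∧ q ≠ r ∧
      ¬ R ≤ centralizer (((Cfsg.pCore q G).map G.subtype : Subgroup Γ) : Set Γ) := by
    by_contra hall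
    push Not at hall
    let J : Subgroup Γ := ⨅ q : {q : ℕ // q.Prime ∧ q ≠ r},
      centralizer (((Cfsg.pCore q.1 G).map G.subtype : Subgroup Γ) : Set Γ)
    have hJn : J.Normal := normal_iInf_normal fun q => by
      have : (Cfsg.pCore q.1 G).Characteristic := Cfsg.Agent.HallCore.pCore_characteristic q.1 G
      infer_instance
    set X := M ⊓ J
    have hXn : X.Normal := inferInstance
    have hRX : R ≤ X := le_inf (hRR₀.trans hR₀M) (le_iInf fun q => hall q.1 q.2.1 q.2.2)
    have hXnil : Group.IsNilpotent X := by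
      refine (Group.isNilpotent_of_finite_tfae.out 0 3).mpr fun p hp Q => ?_
      -- Sylow subgroups for other primes are central
      have hcent : ∀ q : ℕ, q.Prime → q ≠ r → ∀ Q : Sylow q X, ∀ a ∈ (Q : Subgroup X),
          ∀ b : X, b * a = a * b := by
        intro q hq hqr Q a ha b
        have := Fact.mk hq
        have haF : (a : Γ) ∈ F := by
          obtain ⟨i, hi⟩ := Q.2 ⟨a, ha⟩
          have hi' : (a : Γ) ^ q ^ i = 1 :=
            congrArg (fun z : (Q : Subgroup X) => ((z : X) : Γ)) hi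
          obtain ⟨j, hj⟩ := hO₂p ⟨π (a : Γ), a.2.1.1⟩
          have hj' : (π (a : Γ)) ^ r ^ j = 1 := congrArg Subtype.val hj
          have h1 : π (a : Γ) = 1 := by
            rw [← orderOf_eq_one_iff]
            exact Nat.eq_one_of_dvd_coprimes (((Nat.coprime_primes hq hr).mpr hqr).pow i j)
              (orderOf_dvd_of_pow_eq_one (by rw [← map_pow, hi', map_one]))
              (orderOf_dvd_of_pow_eq_one hj')
          exact (QuotientGroup.eq_one_iff _).mp h1
        obtain ⟨a', ha', haa⟩ := haF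
        have hpc : a' ∈ Cfsg.pCore q G := by
          have h1 : (⟨a', ha'⟩ : Cfsg.fittingSubgroup G) ∈ Cfsg.pCore q (Cfsg.fittingSubgroup G) := by
            obtain ⟨S⟩ := (inferInstance : Nonempty (Sylow q (Cfsg.fittingSubgroup G)))
            have hSn : (S : Subgroup (Cfsg.fittingSubgroup G)).Normal := inferInstance
            obtain ⟨i, hi⟩ := Q.2 ⟨a, ha⟩
            have hi' : (a : Γ) ^ q ^ i = 1 :=
              congrArg (fun z : (Q : Subgroup X) => ((z : X) : Γ)) hi
            have hz : IsPGroup q (zpowers (⟨a', ha'⟩ : Cfsg.fittingSubgroup G)) := by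
              intro g
              obtain ⟨k, hk⟩ := mem_zpowers_iff.mp g.2
              refine ⟨i, Subtype.ext ?_⟩
              rw [Subgroup.coe_pow, ← hk, ← zpow_natCast, ← zpow_mul, mul_comm, zpow_mul,
                zpow_natCast, show (⟨a', ha'⟩ : Cfsg.fittingSubgroup G) ^ q ^ i = 1 from
                  Subtype.ext (G.subtype_injective (by
                    rw [Subgroup.coe_pow, map_pow, Subgroup.coe_one, map_one]
                    exact (congrArg (· ^ q ^ i) haa).trans hi')),
                one_zpow, Subgroup.coe_one]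
            obtain ⟨S', hS'⟩ := hz.exists_le_sylow
            have hS'n : (S' : Subgroup (Cfsg.fittingSubgroup G)).Normal := inferInstance
            exact Cfsg.Agent.ComponentsCores.le_pCore' S'.2 (hS' (mem_zpowers _))
          have h2 : ((Cfsg.pCore q (Cfsg.fittingSubgroup G)).map
              (Cfsg.fittingSubgroup G).subtype) ≤ Cfsg.pCore q G := by
            have : (Cfsg.pCore q (Cfsg.fittingSubgroup G)).Characteristic :=
              Cfsg.Agent.HallCore.pCore_characteristic q _
            have hn : ((Cfsg.pCore q (Cfsg.fittingSubgroup G)).map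
              (Cfsg.fittingSubgroup G).subtype).Normal := inferInstance
            exact Cfsg.Agent.ComponentsCores.le_pCore'
              ((Cfsg.Agent.HallCore.isPGroup_pCore q (Cfsg.fittingSubgroup G)).map _)
          exact h2 ⟨_, h1, rfl⟩
        have hb : (b : Γ) ∈ centralizer (((Cfsg.pCore q G).map G.subtype : Subgroup Γ) : Set Γ) :=
          mem_iInf.mp b.2.2 (⟨q, hq, hqr⟩ : {q : ℕ // q.Prime ∧ q ≠ r})
        refine Subtype.ext ?_
        exact (mem_centralizer_iff.mp hb (a : Γ) ⟨a', hpc, haa⟩).symm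
      have := hp
      by_cases hpr : p = r
      · subst hpr
        refine normalizer_eq_top_iff.mp ((card_eq_iff_eq_top _).mp (Nat.dvd_antisymm
          (card_subgroup_dvd_card _) ((Nat.dvd_iff_prime_pow_dvd_dvd _ _).mpr fun q k hq hd => ?_)))
        have := Fact.mk hq
        by_cases hqp : q = p
        · subst hqp
          exact (Q.pow_dvd_card_of_pow_dvd_card hd).trans (card_dvd_of_le le_normalizer)
        · obtain ⟨S⟩ := (inferInstance : Nonempty (Sylow q X))
          refine (S.pow_dvd_card_of_pow_dvd_card hd).trans (card_dvd_of_le fun a ha => ?_)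
          refine centralizer_le_normalizer _ (mem_centralizer_iff.mpr fun b _ => ?_)
          exact hcent q hq hqp S a ha b
      · refine ⟨fun a ha b => ?_⟩
        rw [hcent p hp.out hpr Q a ha b, mul_inv_cancel_right]
        exact ha
    have hXG : X ≤ G := inf_le_left.trans inf_le_right
    refine hRF fun x hx => ⟨⟨x, hRG hx⟩, ?_, rfl⟩
    have hn : (X.subgroupOf G).Normal := inferInstance
    refine Cfsg.Agent.ComponentsFitting.subnormal_nilpotent_le_fitting hn.isSubnormal
      ((Group.isNilpotent_congr (subgroupOfEquivOfLe hXG)).mpr hXnil) ?_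
    exact hRX hx
  have := Fact.mk hq
  obtain ⟨D, hD⟩ := hdata q R hq hsR (by
      obtain ⟨i, hi⟩ := IsPGroup.iff_card.mp hRp
      obtain ⟨j, hj⟩ := IsPGroup.iff_card.mp
        ((Cfsg.Agent.HallCore.isPGroup_pCore q G).map G.subtype)
      rw [hi, hj]
      exact ((Nat.coprime_primes hr hq).mpr hqr.symm).pow i j)
    (fun D _ hDp hsD hRD hc hq2 hqK => by
      intro x hx
      rw [← hRgen] at hx
      revert x
      rw [← SetLike.le_def, commutator_le]
      intro x hx b hb
      rw [mem_centralizer_iff]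
      intro d hd
      have htd : ∀ u ∈ D, b * u = u * b := by
        intro u hu
        obtain ⟨i, rfl⟩ := mem_zpowers_iff.mp hb
        exact ((show Commute t u from habel q D hq hDp hsD hc hq2 hqK u hu).zpow_left i).eq
      have h1 : ∀ u ∈ D, x * b * u * (x * b)⁻¹ = x * u * x⁻¹ := fun u hu => by
        rw [show x * b * u * (x * b)⁻¹ = x * (b * u * b⁻¹) * x⁻¹ by group, htd u hu,
          mul_inv_cancel_right]
      have hu₁ : x⁻¹ * d * x ∈ D := Cfsg.Agent.CoprimeAction.conj_mem' (hRD hx) hd
      have h2 : ⁅x, b⁆ * d * ⁅x, b⁆⁻¹ = d := by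
        calc ⁅x, b⁆ * d * ⁅x, b⁆⁻¹
            = x * b * (x⁻¹ * (b⁻¹ * d * b) * x) * (x * b)⁻¹ := by
              simp only [commutatorElement_def]; group
          _ = x * b * (x⁻¹ * d * x) * (x * b)⁻¹ := by
              rw [mul_assoc b⁻¹, ← htd d hd, ← mul_assoc b⁻¹, inv_mul_cancel, one_mul]
          _ = d := by rw [h1 _ hu₁]; group
      exact (mul_inv_eq_iff_eq_mul.mp h2).symm)
    hRq
  have hRne : R ≠ ⊥ := fun h0 => hRF (h0 ▸ bot_le)
  have hr2 : r ≠ 2 := hodd r hr (by
    obtain ⟨k, hk⟩ := IsPGroup.iff_card.mp hRp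
    have hk0 : k ≠ 0 := by
      rintro rfl
      rw [pow_zero, card_eq_one] at hk
      exact hRne hk
    exact ((dvd_pow_self r hk0).trans (dvd_of_eq hk.symm)).trans (card_dvd_of_le hRG))
  exact hD.false_of_gen hr hr2 hqr.symm hRp hRgen

end Cfsg.Agent.GrossTwo
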