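import Mathlib
import Cfsg.Prelude.Def_Classical

/-! Reflection words for orthogonal groups over the field with two elements, evaluated on bit masks. -/

set_option autoImplicit false

namespace Cfsg.Agent.H1Orth
open Matrix
open scoped commutatorElement

variable {ι : Type} [Fintype ι] [DecidableEq ι] {Q : (ι → ZMod 2) → ZMod 2}

abbrev IG (Q : (ι → ZMod 2) → ZMod 2) := ↥(Cfsg.isometryGroup (ZMod 2) Q)

def act (g : IG Q) (v : ι → ZMod 2) : ι → ZMod 2 :=
  Matrix.mulVec ((g : GL ι (ZMod 2)) : Matrix ι ι (ZMod 2)) v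

lemma act_mul (g h : IG Q) (v) : act (g * h) v = act g (act h v) := by
  simp [act, Matrix.mulVec_mulVec]

lemma act_one (v : ι → ZMod 2) : act (1 : IG Q) v = v := by simp [act]

lemma act_add (g : IG Q) (v w) : act g (v + w) = act g v + act g w := by
  simp [act, Matrix.mulVec_add]

lemma act_sub (g : IG Q) (v w) : act g (v - w) = act g v - act g w := by
  simp [act, Matrix.mulVec_sub]

lemma act_zero (g : IG Q) : act g 0 = 0 := by simp [act]

lemma act_inj (g : IG Q) {v w} (h : act g v = act g w) : v = w := by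
  have := congrArg (act g⁻¹) h
  simpa [← act_mul, act_one] using this

lemma Q_act (g : IG Q) (v) : Q (act g v) = Q v := g.2 v v

lemma act_ext (g h : IG Q) (H : ∀ j, act g (Pi.single j 1) = act h (Pi.single j 1)) : g = h := by
  apply Subtype.ext
  apply Units.ext
  ext i j
  have := congrFun (H j) i
  simpa [act] using this

lemma vadd_self {κ : Type} (a : κ → ZMod 2) : a + a = 0 :=
  funext fun _ => CharTwo.add_self_eq_zero _

/-- The polar form. -/
def pol (Q : (ι → ZMod 2) → ZMod 2) (u v : ι → ZMod 2) : ZMod 2 := Q (u + v) + Q u + Q v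

/-- The vector with bit mask `x`. -/
def toV {n : ℕ} (e : ι ≃ Fin n) (x : ℕ) : ι → ZMod 2 :=
  fun i => if x.testBit (e i) then 1 else 0

lemma toV_xor {n : ℕ} (e : ι ≃ Fin n) (x y : ℕ) : toV e (x ^^^ y) = toV e x + toV e y := by
  funext i
  simp only [toV, Nat.testBit_xor, Pi.add_apply]
  cases x.testBit (e i) <;> cases y.testBit (e i) <;> decide

lemma toV_inj {n : ℕ} (e : ι ≃ Fin n) {x y : ℕ} (hx : x < 2 ^ n) (hy : y < 2 ^ n)
    (h : toV e x = toV e y) : x = y := by
  apply Nat.eq_of_testBit_eq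
  intro j
  by_cases hj : j < n
  · have := congrFun h (e.symm ⟨j, hj⟩)
    simp only [toV, Equiv.apply_symm_apply] at this
    revert this
    cases x.testBit j <;> cases y.testBit j <;> decide
  · have hp : 2 ^ n ≤ 2 ^ j := Nat.pow_le_pow_right (by norm_num) (not_lt.mp hj)
    rw [Nat.testBit_lt_two_pow (lt_of_lt_of_le hx hp),
      Nat.testBit_lt_two_pow (lt_of_lt_of_le hy hp)]

lemma toV_surj {n : ℕ} (e : ι ≃ Fin n) (v : ι → ZMod 2) : ∃ x < 2 ^ n, toV e x = v := by
  have hb : Function.Bijective (fun x : Fin (2 ^ n) => toV e x) := by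
    rw [Fintype.bijective_iff_injective_and_card]
    refine ⟨fun x y h => Fin.ext (toV_inj e x.2 y.2 h), ?_⟩
    simp [Fintype.card_congr e]
  obtain ⟨x, hx⟩ := hb.2 v
  exact ⟨x, x.2, hx⟩

lemma toV_zero {n : ℕ} (e : ι ≃ Fin n) : toV e 0 = 0 := by
  funext i; simp [toV]

lemma toV_single {n : ℕ} (e : ι ≃ Fin n) (j : ι) : toV e (2 ^ (e j : ℕ)) = Pi.single j 1 := by
  funext i
  simp only [toV, Nat.testBit_two_pow]
  by_cases h : i = j
  · subst h; simp
  · have : ¬ ((e j : ℕ) = (e i : ℕ)) := fun hh => h (e.injective (Fin.ext hh.symm))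
    simp [h, this]

/-- A quadratic form together with its evaluation on bit masks. -/
structure Model (Q : (ι → ZMod 2) → ZMod 2) where
  n : ℕ
  e : ι ≃ Fin n
  q : ℕ → Bool
  hq : ∀ x : Fin (2 ^ n), Q (toV e x) = if q x then 1 else 0
  hadd : ∀ u v w, pol Q u (v + w) = pol Q u v + pol Q u w

namespace Model

variable (M : Model Q)

def bq (u v : ℕ) : Bool := ((M.q (u ^^^ v)).xor (M.q u)).xor (M.q v)

def tn (u x : ℕ) : ℕ := if M.bq u x then x ^^^ u else x

def evn (l : List ℕ) (x : ℕ) : ℕ := l.foldr M.tn x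

def isRoot (u : ℕ) : Bool := decide (u < 2 ^ M.n) && M.q u

def okW (l : List ℕ) : Bool := l.all M.isRoot

lemma pol_toV {u v : ℕ} (hu : u < 2 ^ M.n) (hv : v < 2 ^ M.n) :
    pol Q (toV M.e u) (toV M.e v) = if M.bq u v then 1 else 0 := by
  have h3 : u ^^^ v < 2 ^ M.n := Nat.xor_lt_two_pow hu hv
  rw [pol, ← toV_xor, M.hq ⟨_, hu⟩, M.hq ⟨_, hv⟩, M.hq ⟨_, h3⟩, bq]
  cases M.q (u ^^^ v) <;> cases M.q u <;> cases M.q v <;> decide

include M in
lemma pol_zero (u : ι → ZMod 2) : pol Q u 0 = 0 := by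
  have := M.hadd u 0 0
  rw [add_zero] at this
  calc pol Q u 0 = pol Q u 0 + pol Q u 0 := this
    _ = 0 := CharTwo.add_self_eq_zero _

include M in
lemma Q_zero : Q 0 = 0 := by
  have := M.pol_zero 0
  simpa [pol, CharTwo.add_self_eq_zero] using this

include M in
lemma pol_self (u : ι → ZMod 2) : pol Q u u = 0 := by
  simp [pol, vadd_self, M.Q_zero, CharTwo.add_self_eq_zero]

include M in
lemma pol_comm (a b : ι → ZMod 2) : pol Q a b = pol Q b a := by
  have _ := M.n
  unfold pol; rw [add_comm a b]; ring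

include M in
lemma pol_add_left (a b c : ι → ZMod 2) : pol Q (a + b) c = pol Q a c + pol Q b c := by
  rw [M.pol_comm, M.hadd, M.pol_comm c a, M.pol_comm c b]

def polHom (u : ι → ZMod 2) : (ι → ZMod 2) →+ ZMod 2 where
  toFun := pol Q u
  map_zero' := M.pol_zero u
  map_add' := M.hadd u

include M in
lemma pol_smul (a b : ι → ZMod 2) (c : ZMod 2) : pol Q a (c • b) = c * pol Q a b :=
  map_smul ((M.polHom a).toZModLinearMap 2) c b

/-- The reflection in `u`. -/
def reflLin (u : ι → ZMod 2) : (ι → ZMod 2) →ₗ[ZMod 2] (ι → ZMod 2) :=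
  LinearMap.id + ((M.polHom u).toZModLinearMap 2).smulRight u

lemma reflLin_apply (u v : ι → ZMod 2) : M.reflLin u v = v + pol Q u v • u := rfl

lemma reflLin_invol (u : ι → ZMod 2) : (M.reflLin u).comp (M.reflLin u) = LinearMap.id := by
  apply LinearMap.ext
  intro v
  have h1 : pol Q u (v + pol Q u v • u) = pol Q u v := by
    rw [M.hadd, M.pol_smul, M.pol_self, mul_zero, add_zero]
  simp only [LinearMap.comp_apply, LinearMap.id_apply, reflLin_apply, h1]
  rw [add_assoc, vadd_self, add_zero]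

omit [Fintype ι] [DecidableEq ι] in
lemma Q_refl (u : ι → ZMod 2) (hu : Q u = 1) (v : ι → ZMod 2) :
    Q (v + pol Q u v • u) = Q v := by
  have key : ∀ c : ZMod 2, c = 0 ∨ c = 1 := by decide
  rcases key (pol Q u v) with h | h
  · simp [h]
  · rw [h, one_smul, add_comm]
    rw [pol, hu] at h
    generalize Q (u + v) = a at h ⊢
    generalize Q v = b at h ⊢
    revert a b; decide

/-- The reflection in a non-singular vector, as an isometry. -/
def refl (u : ι → ZMod 2) (hu : Q u = 1) : IG Q :=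
  ⟨⟨LinearMap.toMatrix' (M.reflLin u), LinearMap.toMatrix' (M.reflLin u),
      by rw [← LinearMap.toMatrix'_comp, M.reflLin_invol, LinearMap.toMatrix'_id],
      by rw [← LinearMap.toMatrix'_comp, M.reflLin_invol, LinearMap.toMatrix'_id]⟩, by
    intro v w
    show Q (LinearMap.toMatrix' (M.reflLin u) *ᵥ v) = Q v
    rw [← Matrix.toLin'_apply, Matrix.toLin'_toMatrix']
    exact Q_refl u hu v⟩

lemma act_refl (u : ι → ZMod 2) (hu : Q u = 1) (v) :
    act (M.refl u hu) v = v + pol Q u v • u := by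
  show LinearMap.toMatrix' (M.reflLin u) *ᵥ v = _
  rw [← Matrix.toLin'_apply, Matrix.toLin'_toMatrix']
  rfl

def T (u : ℕ) : IG Q :=
  if h : Q (toV M.e u) = 1 then M.refl (toV M.e u) h else 1

lemma T_sq (u : ℕ) : M.T u * M.T u = 1 := by
  unfold T; split
  · apply Subtype.ext; apply Units.ext
    show LinearMap.toMatrix' _ * LinearMap.toMatrix' _ = 1
    rw [← LinearMap.toMatrix'_comp, M.reflLin_invol, LinearMap.toMatrix'_id]
  · simp

lemma T_cancel (u : ℕ) (g : IG Q) : M.T u * (M.T u * g) = g := by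
  rw [← mul_assoc, M.T_sq, one_mul]

lemma T_inv (u : ℕ) : (M.T u)⁻¹ = M.T u := inv_eq_of_mul_eq_one_right (M.T_sq u)

lemma act_T {u x : ℕ} (hu : M.isRoot u = true) (hx : x < 2 ^ M.n) :
    act (M.T u) (toV M.e x) = toV M.e (M.tn u x) ∧ M.tn u x < 2 ^ M.n := by
  simp only [isRoot, Bool.and_eq_true, decide_eq_true_eq] at hu
  have h1 : Q (toV M.e u) = 1 := by rw [M.hq ⟨u, hu.1⟩]; simp [hu.2]
  rw [T, dif_pos h1, M.act_refl, M.pol_toV hu.1 hx]
  unfold tn
  cases M.bq u x
  · simp [hx]
  · simp [toV_xor, Nat.xor_lt_two_pow hx hu.1]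

/-- A word of reflections. -/
def ev (l : List ℕ) : IG Q := (l.map M.T).prod

lemma ev_nil : M.ev [] = 1 := rfl
lemma ev_cons (u : ℕ) (l : List ℕ) : M.ev (u :: l) = M.T u * M.ev l := by simp [ev]
lemma ev_append (a b : List ℕ) : M.ev (a ++ b) = M.ev a * M.ev b := by simp [ev]

lemma ev_inv (l : List ℕ) : (M.ev l)⁻¹ = M.ev l.reverse := by
  induction l with
  | nil => simp [ev]
  | cons u l ih => simp [ev_cons, ev_append, ev_nil, ih, M.T_inv]

lemma act_ev : ∀ (l : List ℕ) {x : ℕ}, M.okW l = true → x < 2 ^ M.n →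
    act (M.ev l) (toV M.e x) = toV M.e (M.evn l x) ∧ M.evn l x < 2 ^ M.n
  | [], x, _, hx => by simp [ev_nil, act_one, evn, hx]
  | u :: l, x, h, hx => by
    simp only [okW, List.all_cons, Bool.and_eq_true] at h
    obtain ⟨h1, h2⟩ := act_ev l h.2 hx
    rw [ev_cons, act_mul, h1]
    exact M.act_T h.1 h2

lemma okW_append {a b : List ℕ} (ha : M.okW a = true) (hb : M.okW b = true) :
    M.okW (a ++ b) = true := by simp [okW] at *; grind

lemma okW_reverse {a : List ℕ} (ha : M.okW a = true) : M.okW a.reverse = true := by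
  simp [okW] at *; grind

def eqW (a b : List ℕ) : Bool :=
  (List.range M.n).all fun k => M.evn a (2 ^ k) == M.evn b (2 ^ k)

lemma ev_eq {a b : List ℕ} (ha : M.okW a = true) (hb : M.okW b = true) (h : M.eqW a b = true) :
    M.ev a = M.ev b := by
  apply act_ext
  intro j
  have hx : 2 ^ (M.e j : ℕ) < 2 ^ M.n := Nat.pow_lt_pow_right (by norm_num) (M.e j).2
  rw [← toV_single M.e, (M.act_ev a ha hx).1, (M.act_ev b hb hx).1]
  simp only [eqW, List.all_eq_true, List.mem_range, beq_iff_eq] at h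
  rw [h _ (M.e j).2]

/-! ### Generation by reflections -/

def span : List ℕ → List ℕ
  | [] => [0]
  | p :: ps => let S := span ps; S ++ S.map (p ^^^ ·)

def genU (prev : List ℕ) (u : ℕ) : Bool := M.isRoot u && prev.all fun p => !M.bq u p

/-- Every candidate image `w` of `e` returns to `e` by at most two reflections fixing `prev`. -/
def stage (e : ℕ) (prev : List ℕ) : Bool :=
  decide (e < 2 ^ M.n) &&
  (List.range (2 ^ M.n)).all fun w =>
    !(M.q w == M.q e) || !(prev.all fun p => M.bq w p == M.bq e p) || (w == e) ||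
    (M.genU prev (w ^^^ e) && M.tn (w ^^^ e) w == e) ||
    ((List.range (2 ^ M.n)).any fun u =>
      M.genU prev u &&
        (M.genU prev (w ^^^ M.tn u e) && M.tn (w ^^^ M.tn u e) w == M.tn u e)) ||
    (span prev).contains w

def stages : List ℕ → List ℕ → Bool
  | prev, [] => (List.range M.n).all fun k => (span prev).contains (2 ^ k)
  | prev, e :: es => M.stage e prev && stages (e :: prev) es

lemma fix_span (g : IG Q) :
    ∀ (ps : List ℕ), (∀ p ∈ ps, act g (toV M.e p) = toV M.e p) →
      ∀ x ∈ span ps, act g (toV M.e x) = toV M.e x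
  | [], _, x, hx => by
    simp [span] at hx; subst hx; rw [toV_zero, act_zero]
  | p :: ps, h, x, hx => by
    have ih := fix_span g ps (fun p hp => h p (List.mem_cons_of_mem _ hp))
    simp only [span, List.mem_append, List.mem_map] at hx
    rcases hx with hx | ⟨y, hy, rfl⟩
    · exact ih x hx
    · rw [toV_xor, act_add, ih y hy, h p (by simp)]

lemma genU_spec {prev : List ℕ} {u : ℕ} (hp : ∀ p ∈ prev, p < 2 ^ M.n)
    (hu : M.genU prev u = true) :
    M.isRoot u = true ∧ ∀ p ∈ prev, act (M.T u) (toV M.e p) = toV M.e p := by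
  simp only [genU, Bool.and_eq_true, List.all_eq_true, Bool.not_eq_true'] at hu
  refine ⟨hu.1, fun p hp' => ?_⟩
  rw [(M.act_T hu.1 (hp p hp')).1, tn, hu.2 p hp']
  simp

lemma tn_tn {u x : ℕ} (hu : M.isRoot u = true) (hx : x < 2 ^ M.n) : M.tn u (M.tn u x) = x := by
  have h1 := M.act_T hu hx
  have h2 := M.act_T hu h1.2
  apply toV_inj M.e h2.2 hx
  rw [← h2.1, ← h1.1, ← act_mul, M.T_sq, act_one]

lemma gen_aux : ∀ (es prev : List ℕ), M.stages prev es = true → (∀ p ∈ prev, p < 2 ^ M.n) →
    ∀ g : IG Q, (∀ p ∈ prev, act g (toV M.e p) = toV M.e p) →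
      ∃ l, M.okW l = true ∧ g = M.ev l
  | [], prev, h, _, g, hg => by
    refine ⟨[], rfl, act_ext _ _ fun j => ?_⟩
    simp only [stages, List.all_eq_true, List.mem_range] at h
    have := M.fix_span g prev hg _ (List.mem_of_elem_eq_true (h _ (M.e j).2))
    rw [toV_single] at this
    rw [this, ev_nil, act_one]
  | e :: es, prev, h, hp, g, hg => by
    simp only [stages, Bool.and_eq_true] at h
    obtain ⟨hs, hrest⟩ := h
    simp only [stage, Bool.and_eq_true, decide_eq_true_eq, List.all_eq_true, List.mem_range] at hs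
    obtain ⟨he, hs⟩ := hs
    have hp' : ∀ p ∈ e :: prev, p < 2 ^ M.n := by
      intro p hm; rcases List.mem_cons.mp hm with rfl | hm; exacts [he, hp p hm]
    obtain ⟨w, hw, hwv⟩ := toV_surj M.e (act g (toV M.e e))
    have hQ : M.q w = M.q e := by
      have := Q_act g (toV M.e e)
      rw [← hwv, M.hq ⟨w, hw⟩, M.hq ⟨e, he⟩] at this
      revert this
      cases M.q w <;> cases M.q e <;> simp
    have hB : ∀ p ∈ prev, M.bq w p = M.bq e p := by
      intro p hm
      have hinv : ∀ a b, pol Q (act g a) (act g b) = pol Q a b := fun a b => by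
        unfold pol; rw [← act_add, Q_act g, Q_act g, Q_act g]
      have := hinv (toV M.e e) (toV M.e p)
      rw [← hwv, hg p hm, M.pol_toV hw (hp p hm), M.pol_toV he (hp p hm)] at this
      revert this
      cases M.bq w p <;> cases M.bq e p <;> simp
    have fin : ∀ l : List ℕ, M.okW l = true →
        (∀ p ∈ prev, act (M.ev l) (toV M.e p) = toV M.e p) → M.evn l w = e →
        ∃ l, M.okW l = true ∧ g = M.ev l := by
      intro l hl hfix hwe
      have hg' : ∀ p ∈ e :: prev, act (M.ev l * g) (toV M.e p) = toV M.e p := by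
        intro p hm
        rw [act_mul]
        rcases List.mem_cons.mp hm with rfl | hm
        · rw [← hwv, (M.act_ev l hl hw).1, hwe]
        · rw [hg p hm, hfix p hm]
      obtain ⟨k, hk, hk'⟩ := gen_aux es (e :: prev) hrest hp' (M.ev l * g) hg'
      refine ⟨l.reverse ++ k, M.okW_append (M.okW_reverse hl) hk, ?_⟩
      rw [ev_append, ← ev_inv, ← hk', inv_mul_cancel_left]
    have := hs w hw
    simp only [Bool.or_eq_true, Bool.and_eq_true, beq_iff_eq, Bool.not_eq_true',
      List.any_eq_true, List.mem_range] at this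
    rcases this with ((((h1 | h1) | h1) | ⟨h1, h2⟩) | ⟨u, -, hu, hy, hyw⟩) | h1
    · simp [hQ] at h1
    · exfalso
      have : (prev.all fun p => M.bq w p == M.bq e p) = true := by
        simp only [List.all_eq_true, beq_iff_eq]; exact hB
      rw [h1] at this; exact Bool.noConfusion this
    · exact fin [] rfl (by simp [ev_nil, act_one]) h1
    · obtain ⟨r, hr⟩ := M.genU_spec hp h1
      refine fin [w ^^^ e] (by simp [okW, r]) (fun p hm => ?_) h2
      rw [ev_cons, ev_nil, mul_one]; exact hr p hm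
    · obtain ⟨r, hr⟩ := M.genU_spec hp hu
      obtain ⟨r', hr'⟩ := M.genU_spec hp hy
      refine fin [u, w ^^^ M.tn u e] (by simp [okW, r, r']) (fun p hm => ?_) ?_
      · rw [ev_cons, ev_cons, ev_nil, mul_one, act_mul, hr' p hm, hr p hm]
      · show M.tn u (M.tn (w ^^^ M.tn u e) w) = e
        rw [hyw, M.tn_tn r he]
    · have hfix := M.fix_span g prev hg w (List.mem_of_elem_eq_true h1)
      have hwe : w = e := by
        apply toV_inj M.e hw he
        apply act_inj g
        rw [hfix, hwv]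
      exact fin [] rfl (by simp [ev_nil, act_one]) hwe

lemma gen {bs : List ℕ} (h : M.stages [] bs = true) (g : IG Q) :
    ∃ l, M.okW l = true ∧ g = M.ev l :=
  M.gen_aux bs [] h (by simp) g (by simp)

/-! ### The commutator subgroup -/

def link (r : ℕ) : Bool :=
  (List.range (2 ^ M.n)).all fun v => !M.q v || v == r || M.bq r v ||
    (List.range (2 ^ M.n)).any fun x => M.q x && (M.bq r x && M.bq x v)

lemma pair_mem_of_bq {u v : ℕ} (hu' : M.isRoot u = true) (hv' : M.isRoot v = true)
    (hb : M.bq u v = true) : M.ev [u, v] ∈ Cfsg.Omega (ZMod 2) Q := by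
  obtain ⟨hu, hu2⟩ : u < 2 ^ M.n ∧ M.q u = true := by simpa [isRoot] using hu'
  obtain ⟨hv, hv2⟩ : v < 2 ^ M.n ∧ M.q v = true := by simpa [isRoot] using hv'
  have hw : u ^^^ v < 2 ^ M.n := Nat.xor_lt_two_pow hu hv
  have hw2 : M.q (u ^^^ v) = true := by
    have hbq := hb
    simp only [bq, hu2, hv2] at hbq
    revert hbq; cases M.q (u ^^^ v) <;> simp
  set w := u ^^^ v
  have hconj : M.T w * M.T u * M.T w = M.T v := by
    apply act_ext
    intro j
    have hQv : Q (toV M.e v) = 1 := by rw [M.hq ⟨v, hv⟩]; simp [hv2]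
    have hQu : Q (toV M.e u) = 1 := by rw [M.hq ⟨u, hu⟩]; simp [hu2]
    have hQw : Q (toV M.e w) = 1 := by rw [M.hq ⟨w, hw⟩]; simp [hw2]
    have huv : pol Q (toV M.e u) (toV M.e v) = 1 := by rw [M.pol_toV hu hv]; simp [hb]
    have hwadd : toV M.e w = toV M.e u + toV M.e v := toV_xor _ _ _
    simp only [T, dif_pos hQv, dif_pos hQu, dif_pos hQw, act_mul, M.act_refl]
    rw [hwadd]
    generalize toV M.e u = U at huv ⊢
    generalize toV M.e v = W at huv ⊢
    generalize (Pi.single j 1 : ι → ZMod 2) = X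
    have e1 : pol Q U U = 0 := M.pol_self U
    have e2 : pol Q W W = 0 := M.pol_self W
    have e3 : pol Q W U = 1 := by rw [M.pol_comm]; exact huv
    simp only [M.hadd, M.pol_smul, M.pol_add_left, e1, e2, e3, huv]
    generalize pol Q U X = a
    generalize pol Q W X = b
    have key : ∀ a b x y z : ZMod 2,
        (x + (a + b) * (y + z) + (a + (a + b) * (0 + 1)) * y +
          (a + b + (a + b) * (0 + 1 + (1 + 0)) + (a + (a + b) * (0 + 1)) * (0 + 1)) * (y + z))
        = x + b * z := by decide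
    funext i
    simp only [Pi.add_apply, Pi.smul_apply, smul_eq_mul]
    exact key a b (X i) (U i) (W i)
  have : M.ev [u, v] = ⁅M.T u, M.T w⁆ := by
    rw [ev_cons, ev_cons, ev_nil, mul_one, commutatorElement_def, T_inv, T_inv, ← hconj]
    group
  rw [this]
  exact Subgroup.commutator_mem_commutator (Subgroup.mem_top _) (Subgroup.mem_top _)

lemma pair_mem {r : ℕ} (hr : M.isRoot r = true) (hl : M.link r = true) {v : ℕ}
    (hv : M.isRoot v = true) : M.ev [r, v] ∈ Cfsg.Omega (ZMod 2) Q := by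
  obtain ⟨hv1, hv2⟩ : v < 2 ^ M.n ∧ M.q v = true := by simpa [isRoot] using hv
  simp only [link, List.all_eq_true, List.mem_range, Bool.or_eq_true, Bool.not_eq_true',
    List.any_eq_true, Bool.and_eq_true, beq_iff_eq] at hl
  rcases hl v hv1 with ((h | h) | h) | ⟨x, hx, hq, h1, h2⟩
  · rw [hv2] at h; exact absurd h (by simp)
  · subst h; simp [ev_cons, ev_nil, M.T_sq]
  · exact M.pair_mem_of_bq hr hv h
  · have hxr : M.isRoot x = true := by simp [isRoot, hx, hq]
    have := mul_mem (M.pair_mem_of_bq hr hxr h1) (M.pair_mem_of_bq hxr hv h2)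
    convert this using 1
    simp [ev_cons, ev_nil, mul_assoc, M.T_cancel]

lemma even_mem (K : Subgroup (IG Q)) (r : ℕ)
    (h : ∀ v, M.isRoot v = true → M.ev [r, v] ∈ K) :
    ∀ l : List ℕ, M.okW l = true → Even l.length → M.ev l ∈ K
  | [], _, _ => K.one_mem
  | [_], _, he => by simp at he
  | a :: b :: l, ho, he => by
    simp only [okW, List.all_cons, Bool.and_eq_true] at ho
    have ha := inv_mem (h a ho.1)
    have hb := h b ho.2.1
    have ih := even_mem K r h l ho.2.2 (by simpa [Nat.even_add_one] using he)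
    have := mul_mem (mul_mem ha hb) ih
    convert this using 1
    simp [ev_cons, ev_nil, T_inv, mul_assoc, M.T_cancel]

def evens : Subgroup (IG Q) where
  carrier := {g | ∃ l, M.okW l = true ∧ Even l.length ∧ g = M.ev l}
  one_mem' := ⟨[], rfl, by simp, rfl⟩
  mul_mem' := by
    rintro _ _ ⟨a, ha, ha', rfl⟩ ⟨b, hb, hb', rfl⟩
    exact ⟨a ++ b, M.okW_append ha hb, by rw [List.length_append]; exact ha'.add hb',
      (M.ev_append a b).symm⟩
  inv_mem' := by
    rintro _ ⟨a, ha, ha', rfl⟩
    exact ⟨a.reverse, M.okW_reverse ha, by simpa using ha', M.ev_inv a⟩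

lemma omega_le {bs : List ℕ} (h : M.stages [] bs = true) : Cfsg.Omega (ZMod 2) Q ≤ M.evens := by
  show commutator _ ≤ _
  rw [commutator_def, Subgroup.commutator_le]
  intro a _ b _
  obtain ⟨la, ha, rfl⟩ := M.gen h a
  obtain ⟨lb, hb, rfl⟩ := M.gen h b
  refine ⟨la ++ lb ++ la.reverse ++ lb.reverse,
    M.okW_append (M.okW_append (M.okW_append ha hb) (M.okW_reverse ha)) (M.okW_reverse hb),
    ⟨la.length + lb.length, by simp; ring⟩, ?_⟩
  simp [commutatorElement_def, ev_append, ev_inv, mul_assoc]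

def chkFpf (z : List ℕ) : Bool :=
  (List.range (2 ^ M.n)).all fun x => x == 0 || !(M.evn z x == x)

lemma fpf {z : List ℕ} (hz : M.okW z = true) (h : M.chkFpf z = true) (v : ι → ZMod 2)
    (hv : act (M.ev z) v = v) : v = 0 := by
  obtain ⟨x, hx, rfl⟩ := toV_surj M.e v
  rw [(M.act_ev z hz hx).1] at hv
  have := toV_inj M.e (M.act_ev z hz hx).2 hx hv
  simp only [chkFpf, List.all_eq_true, List.mem_range, Bool.or_eq_true, beq_iff_eq,
    Bool.not_eq_true', beq_eq_false_iff_ne] at h
  rcases h x hx with h | h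
  · rw [h, toV_zero]
  · exact absurd this h

end Model
end Cfsg.Agent.H1Orth
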