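import Cfsg.Agent.Lib.H1Orth

/-! Crossed homomorphisms from the commutator subgroup of an orthogonal group over two elements. -/

set_option autoImplicit false

namespace Cfsg.Agent.H1Orth
open Matrix

variable {ι : Type} [Fintype ι] [DecidableEq ι] {Q : (ι → ZMod 2) → ZMod 2}

abbrev IsCoc (Q : (ι → ZMod 2) → ZMod 2)
    (f : ↥(Cfsg.Omega (ZMod 2) Q) → (ι → ZMod 2)) : Prop :=
  ∀ g h, f (g * h) = f g + act (g : IG Q) (f h)

lemma coc_one {f : ↥(Cfsg.Omega (ZMod 2) Q) → (ι → ZMod 2)} (hf : IsCoc Q f) : f 1 = 0 := by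
  have := hf 1 1
  rw [mul_one, Subgroup.coe_one, act_one] at this
  exact left_eq_add.mp this

def kerK {f : ↥(Cfsg.Omega (ZMod 2) Q) → (ι → ZMod 2)} (hf : IsCoc Q f) : Subgroup (IG Q) where
  carrier := {g | ∃ h : g ∈ Cfsg.Omega (ZMod 2) Q, f ⟨g, h⟩ = 0}
  one_mem' := ⟨one_mem _, coc_one hf⟩
  mul_mem' := by
    rintro a b ⟨ha, ha0⟩ ⟨hb, hb0⟩
    refine ⟨mul_mem ha hb, ?_⟩
    have := hf ⟨a, ha⟩ ⟨b, hb⟩
    rw [ha0, hb0, act_zero, add_zero] at this
    exact this
  inv_mem' := by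
    rintro a ⟨ha, ha0⟩
    refine ⟨inv_mem ha, ?_⟩
    have := hf ⟨a, ha⟩⁻¹ ⟨a, ha⟩
    rw [inv_mul_cancel, coc_one hf, ha0, act_zero, add_zero] at this
    exact this.symm

section
variable {f : ↥(Cfsg.Omega (ZMod 2) Q) → (ι → ZMod 2)} {hf : IsCoc Q f}

lemma centralize_mem {z c : IG Q} (hz : z ∈ kerK hf) (hfpf : ∀ v, act z v = v → v = 0)
    (hc : c ∈ Cfsg.Omega (ZMod 2) Q) (hcom : z * c = c * z) : c ∈ kerK hf := by
  obtain ⟨hz, hz0⟩ := hz
  refine ⟨hc, hfpf _ ?_⟩
  have h1 := hf ⟨z, hz⟩ ⟨c, hc⟩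
  have h2 := hf ⟨c, hc⟩ ⟨z, hz⟩
  rw [hz0, zero_add] at h1
  rw [hz0, act_zero, add_zero] at h2
  rw [← h1, ← h2]
  congr 1
  exact Subtype.ext hcom

lemma conj_mem {z s : IG Q} (hz : z ∈ kerK hf) (hfpf : ∀ v, act z v = v → v = 0)
    (hs : s ∈ Cfsg.Omega (ZMod 2) Q) (hcom : z * (s * z * s⁻¹) = (s * z * s⁻¹) * z) :
    s ∈ kerK hf := by
  have hw := mul_mem (mul_mem hs hz.1) (inv_mem hs)
  obtain ⟨_, hw0⟩ := centralize_mem hz hfpf hw hcom
  obtain ⟨hz, hz0⟩ := hz
  refine ⟨hs, ?_⟩
  have h1 := hf ⟨_, hw⟩ ⟨s, hs⟩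
  have h2 := hf ⟨s, hs⟩ ⟨z, hz⟩
  rw [hw0, zero_add] at h1
  rw [hz0, act_zero, add_zero] at h2
  have he : (⟨_, hw⟩ : ↥(Cfsg.Omega (ZMod 2) Q)) * ⟨s, hs⟩ = ⟨s, hs⟩ * ⟨z, hz⟩ :=
    Subtype.ext (by simp)
  rw [he, h2] at h1
  simp only at h1
  have h3 : act s⁻¹ (f ⟨s, hs⟩) = 0 := by
    apply hfpf
    apply act_inj s
    rw [← act_mul, ← act_mul, ← act_mul, mul_inv_cancel, act_one]
    exact h1.symm
  have := congrArg (act s) h3
  rwa [← act_mul, mul_inv_cancel, act_one, act_zero] at this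

end

theorem normalise {f : ↥(Cfsg.Omega (ZMod 2) Q) → (ι → ZMod 2)} (hf : IsCoc Q f)
    (z : ↥(Cfsg.Omega (ZMod 2) Q)) (hfpf : ∀ v, act (z : IG Q) v = v → v = 0)
    (H : ∀ (F : ↥(Cfsg.Omega (ZMod 2) Q) → (ι → ZMod 2)) (hF : IsCoc Q F),
      (z : IG Q) ∈ kerK hF → Cfsg.Omega (ZMod 2) Q ≤ kerK hF) :
    ∃ v, ∀ g, f g = act (g : IG Q) v - v := by
  have hinj : Function.Injective (fun v => act (z : IG Q) v - v) := by
    intro a b h
    apply sub_eq_zero.mp
    apply hfpf
    rw [act_sub]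
    rwa [sub_eq_sub_iff_sub_eq_sub] at h
  obtain ⟨v, hv⟩ := (Finite.injective_iff_surjective.mp hinj) (f z)
  refine ⟨v, fun g => ?_⟩
  let F := fun g : ↥(Cfsg.Omega (ZMod 2) Q) => f g - (act (g : IG Q) v - v)
  have hF : IsCoc Q F := by
    intro g h
    simp only [F, hf g h, Subgroup.coe_mul, act_mul, act_sub]
    abel
  obtain ⟨_, h0⟩ := H F hF ⟨z.2, by simp only [F]; rw [← hv, sub_self]⟩ g.2
  exact sub_eq_zero.mp h0

namespace Model

variable (M : Model Q)

def good (z : List ℕ) (u v : ℕ) : Bool :=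
  M.eqW (z ++ ([u, v] ++ z ++ [v, u])) (([u, v] ++ z ++ [v, u]) ++ z)

/-- `(c, a, i)`: the pair `a c` is handled by the `i`-th word, `a` being reached before `c`. -/
def tree (zs : List (List ℕ)) : List ℕ → List (ℕ × ℕ × ℕ) → Bool
  | seen, [] => (List.range (2 ^ M.n)).all fun x => !M.q x || seen.contains x
  | seen, (c, a, i) :: r =>
    M.isRoot c && seen.contains a && decide (i < zs.length) && M.good (zs.getD i []) a c &&
      tree zs (c :: seen) r

def chain : List ℕ → List (List ℕ) → Bool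
  | _, [] => true
  | z, y :: ys => M.eqW (z ++ y) (y ++ z) && chain y ys

def zOK (zs : List (List ℕ)) : Bool :=
  zs.all fun z => M.okW z && decide (z.length % 2 = 0) && M.chkFpf z

theorem h1_of_tree (bs : List ℕ) (r : ℕ) (z0 : List ℕ) (zs : List (List ℕ))
    (es : List (ℕ × ℕ × ℕ)) (hst : M.stages [] bs = true) (hr : M.isRoot r = true)
    (hl : M.link r = true) (hz : M.zOK (z0 :: zs) = true) (hch : M.chain z0 zs = true)
    (ht : M.tree (z0 :: zs) [r] es = true)
    (f : ↥(Cfsg.Omega (ZMod 2) Q) → (ι → ZMod 2)) (hf : IsCoc Q f) :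
    ∃ v, ∀ g, f g = act (g : IG Q) v - v := by
  have hzok : ∀ z ∈ z0 :: zs, M.okW z = true ∧ Even z.length ∧ M.chkFpf z = true := by
    intro z hm
    simp only [zOK, List.all_eq_true, Bool.and_eq_true, decide_eq_true_eq] at hz
    exact ⟨(hz z hm).1.1, Nat.even_iff.mpr (hz z hm).1.2, (hz z hm).2⟩
  have hmem : ∀ l, M.okW l = true → Even l.length → M.ev l ∈ Cfsg.Omega (ZMod 2) Q :=
    M.even_mem _ r (fun v hv => M.pair_mem hr hl hv)
  obtain ⟨ho0, he0, hf0⟩ := hzok z0 (by simp)
  refine normalise hf ⟨_, hmem z0 ho0 he0⟩ (M.fpf ho0 hf0) fun F hF hz0 => ?_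
  have hK : ∀ z ∈ z0 :: zs, M.ev z ∈ kerK hF := by
    have main : ∀ (ys : List (List ℕ)) (y : List ℕ), (∀ z ∈ y :: ys, z ∈ z0 :: zs) →
        M.chain y ys = true → M.ev y ∈ kerK hF → ∀ z ∈ y :: ys, M.ev z ∈ kerK hF := by
      intro ys
      induction ys with
      | nil => intro y _ _ hy z hm; simp at hm; subst hm; exact hy
      | cons x xs ih =>
        intro y hsub hc hy z hm
        simp only [chain, Bool.and_eq_true] at hc
        rcases List.mem_cons.mp hm with rfl | hm
        · exact hy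
        · obtain ⟨hoy, _, hfy⟩ := hzok y (hsub y (by simp))
          obtain ⟨hox, hex, _⟩ := hzok x (hsub x (by simp))
          refine ih x (fun z hz => hsub z (List.mem_cons_of_mem _ hz)) hc.2 ?_ z hm
          refine centralize_mem hy (M.fpf hoy hfy) (hmem x hox hex) ?_
          rw [← ev_append, ← ev_append]
          exact M.ev_eq (M.okW_append hoy hox) (M.okW_append hox hoy) hc.1
    exact main zs z0 (fun _ h => h) hch hz0
  have hpairs : ∀ v, M.isRoot v = true → M.ev [r, v] ∈ kerK hF := by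
    have main : ∀ (es : List (ℕ × ℕ × ℕ)) (seen : List ℕ),
        M.tree (z0 :: zs) seen es = true →
        (∀ x ∈ seen, M.isRoot x = true ∧ M.ev [r, x] ∈ kerK hF) →
        ∀ v, M.isRoot v = true → M.ev [r, v] ∈ kerK hF := by
      intro es
      induction es with
      | nil =>
        intro seen ht hs v hv
        obtain ⟨hv1, hv2⟩ : v < 2 ^ M.n ∧ M.q v = true := by simpa [isRoot] using hv
        simp only [tree, List.all_eq_true, List.mem_range, Bool.or_eq_true,
          Bool.not_eq_true'] at ht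
        rcases ht v hv1 with h | h
        · rw [hv2] at h; exact absurd h (by simp)
        · exact (hs v (List.mem_of_elem_eq_true h)).2
      | cons x xs ih =>
        obtain ⟨c, a, i⟩ := x
        intro seen ht hs v hv
        simp only [tree, Bool.and_eq_true, decide_eq_true_eq] at ht
        obtain ⟨⟨⟨⟨hc, ha⟩, hi⟩, hg⟩, hrest⟩ := ht
        obtain ⟨har, hak⟩ := hs a (List.mem_of_elem_eq_true ha)
        refine ih (c :: seen) hrest (fun x hx => ?_) v hv
        rcases List.mem_cons.mp hx with rfl | hx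
        · refine ⟨hc, ?_⟩
          have hzm : (z0 :: zs).getD i [] ∈ z0 :: zs := by
            rw [List.getD_eq_getElem _ _ hi]; exact List.getElem_mem hi
          generalize (z0 :: zs).getD i [] = z at hg hzm
          obtain ⟨hoz, _, hfz⟩ := hzok z hzm
          have hrev : M.ev [x, a] = (M.ev [a, x])⁻¹ := by rw [ev_inv]; rfl
          have hoac : M.okW [a, x] = true := by simp [okW, har, hc]
          have hoca : M.okW [x, a] = true := by simp [okW, har, hc]
          have hE : M.ev [a, x] ∈ kerK hF := by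
            refine conj_mem (hK z hzm) (M.fpf hoz hfz) (hmem _ hoac (by simp)) ?_
            rw [← hrev, ← ev_append, ← ev_append, ← ev_append, ← ev_append]
            exact M.ev_eq (M.okW_append hoz (M.okW_append (M.okW_append hoac hoz) hoca))
              (M.okW_append (M.okW_append (M.okW_append hoac hoz) hoca) hoz) hg
          have := mul_mem hak hE
          convert this using 1
          simp [ev_cons, ev_nil, mul_assoc, M.T_cancel]
        · exact hs x hx
    refine main es [r] ht ?_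
    intro x hx
    simp at hx; subst hx
    refine ⟨hr, ?_⟩
    simp [ev_cons, ev_nil, M.T_sq]
  intro g hg
  obtain ⟨l, ho, he, rfl⟩ := M.omega_le hst hg
  exact M.even_mem _ r hpairs l ho he

def relChk (z s : List ℕ) : Bool :=
  (List.range (2 ^ M.n)).all fun c => c == 0 || !(M.evn s c == c) ||
    !((M.evn z c ^^^ M.evn (z ++ s) (M.evn z c) ^^^
      M.evn ((z ++ s) ++ (z ++ s)) (M.evn z c)) == 0)

def wordsChk (r : ℕ) (z s : List ℕ) : List (ℕ × List Bool) → List ℕ → Bool
  | [], seen => (List.range (2 ^ M.n)).all fun x => !M.q x || seen.contains x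
  | (c, w) :: rest, seen =>
    M.isRoot c && M.eqW [r, c] (w.flatMap fun b => if b then z else s) &&
      wordsChk r z s rest (c :: seen)

theorem h1_of_rel (bs : List ℕ) (r : ℕ) (z s : List ℕ) (ws : List (ℕ × List Bool))
    (hst : M.stages [] bs = true) (hr : M.isRoot r = true) (hl : M.link r = true)
    (hoz : M.okW z = true) (hos : M.okW s = true) (hez : Even z.length) (hes : Even s.length)
    (hfz : M.chkFpf z = true) (hs2 : M.eqW (s ++ s) [] = true)
    (hzs3 : M.eqW ((z ++ s) ++ (z ++ s) ++ (z ++ s)) [] = true)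
    (hrel : M.relChk z s = true) (hw : M.wordsChk r z s ws [r] = true)
    (f : ↥(Cfsg.Omega (ZMod 2) Q) → (ι → ZMod 2)) (hf : IsCoc Q f) :
    ∃ v, ∀ g, f g = act (g : IG Q) v - v := by
  have hmem : ∀ l, M.okW l = true → Even l.length → M.ev l ∈ Cfsg.Omega (ZMod 2) Q :=
    M.even_mem _ r (fun v hv => M.pair_mem hr hl hv)
  have hzΩ := hmem z hoz hez
  have hsΩ := hmem s hos hes
  refine normalise hf ⟨_, hzΩ⟩ (M.fpf hoz hfz) fun F hF hzK => ?_
  have hzK : M.ev z ∈ kerK hF := hzK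
  have hz0 : F ⟨_, hzΩ⟩ = 0 := hzK.2
  have hsK : M.ev s ∈ kerK hF := by
    refine ⟨hsΩ, ?_⟩
    let S : ↥(Cfsg.Omega (ZMod 2) Q) := ⟨_, hsΩ⟩
    let Z : ↥(Cfsg.Omega (ZMod 2) Q) := ⟨_, hzΩ⟩
    have hS : S * S = 1 := Subtype.ext (by
      show M.ev s * M.ev s = 1
      rw [← ev_append, M.ev_eq (M.okW_append hos hos) rfl hs2, ev_nil])
    have hzs := M.okW_append hoz hos
    have hG : Z * S * (Z * S) * (Z * S) = 1 := Subtype.ext (by
      show M.ev z * M.ev s * (M.ev z * M.ev s) * (M.ev z * M.ev s) = 1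
      rw [← ev_append, ← ev_append, ← ev_append,
        M.ev_eq (M.okW_append (M.okW_append hzs hzs) hzs) rfl hzs3, ev_nil])
    have e1 : F S + act (M.ev s) (F S) = 0 := by
      have := hF S S; rw [hS, coc_one hF] at this; exact this.symm
    have e2 : F (Z * S) = act (M.ev z) (F S) := by
      rw [hF Z S, show F Z = 0 from hz0, zero_add]
    have e3 : F (Z * S) + act (M.ev (z ++ s)) (F (Z * S)) +
        act (M.ev ((z ++ s) ++ (z ++ s))) (F (Z * S)) = 0 := by
      have h2 := hF (Z * S * (Z * S)) (Z * S)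
      rw [hG, coc_one hF, hF (Z * S) (Z * S)] at h2
      simp only [ev_append]
      exact h2.symm
    obtain ⟨c, hc, hcv⟩ := toV_surj M.e (F S)
    show F S = 0
    rw [e2, ← hcv] at e3
    rw [← hcv] at e1 ⊢
    obtain ⟨a1, b1⟩ := M.act_ev z hoz hc
    obtain ⟨a2, b2⟩ := M.act_ev (z ++ s) hzs b1
    obtain ⟨a3, b3⟩ := M.act_ev _ (M.okW_append hzs hzs) b1
    obtain ⟨a4, b4⟩ := M.act_ev s hos hc
    rw [a1, a2, a3, ← toV_xor, ← toV_xor, ← toV_zero M.e] at e3
    have e3' := toV_inj M.e (Nat.xor_lt_two_pow (Nat.xor_lt_two_pow b1 b2) b3)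
      (Nat.two_pow_pos _) e3
    rw [a4] at e1
    have e1' : M.evn s c = c := by
      apply toV_inj M.e b4 hc
      have := congrArg (toV M.e c + ·) e1
      simpa [← add_assoc, vadd_self] using this
    simp only [relChk, List.all_eq_true, List.mem_range, Bool.or_eq_true, beq_iff_eq,
      Bool.not_eq_true', beq_eq_false_iff_ne] at hrel
    rcases hrel c hc with (h | h) | h
    · rw [h, toV_zero]
    · exact absurd e1' h
    · exact absurd e3' h
  have hflat : ∀ w : List Bool, M.okW (w.flatMap fun b => if b then z else s) = true ∧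
      M.ev (w.flatMap fun b => if b then z else s) ∈ kerK hF := by
    intro w
    induction w with
    | nil => exact ⟨rfl, one_mem _⟩
    | cons b w ih =>
      rw [List.flatMap_cons, ev_append]
      cases b
      · exact ⟨M.okW_append hos ih.1, mul_mem hsK ih.2⟩
      · exact ⟨M.okW_append hoz ih.1, mul_mem hzK ih.2⟩
  have main : ∀ (ws : List (ℕ × List Bool)) (seen : List ℕ),
      M.wordsChk r z s ws seen = true → (∀ x ∈ seen, M.ev [r, x] ∈ kerK hF) →
      ∀ v, M.isRoot v = true → M.ev [r, v] ∈ kerK hF := by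
    intro ws
    induction ws with
    | nil =>
      intro seen ht hs v hv
      obtain ⟨hv1, hv2⟩ : v < 2 ^ M.n ∧ M.q v = true := by simpa [isRoot] using hv
      simp only [wordsChk, List.all_eq_true, List.mem_range, Bool.or_eq_true,
        Bool.not_eq_true'] at ht
      rcases ht v hv1 with h | h
      · rw [hv2] at h; exact absurd h (by simp)
      · exact hs v (List.mem_of_elem_eq_true h)
    | cons x xs ih =>
      obtain ⟨c, w⟩ := x
      intro seen ht hs v hv
      simp only [wordsChk, Bool.and_eq_true] at ht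
      refine ih (c :: seen) ht.2 (fun x hx => ?_) v hv
      rcases List.mem_cons.mp hx with rfl | hx
      · rw [M.ev_eq (by simp [okW, hr, ht.1.1]) (hflat w).1 ht.1.2]; exact (hflat w).2
      · exact hs x hx
  intro g hg
  obtain ⟨l, ho, he, rfl⟩ := M.omega_le hst hg
  refine M.even_mem _ r (main ws [r] hw ?_) l ho he
  intro x hx
  simp at hx; subst hx
  have : M.ev [x, x] = 1 := by simp [ev_cons, ev_nil, M.T_sq]
  rw [this]
  exact one_mem _

end Model

end Cfsg.Agent.H1Orth
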