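import Mathlib
import Cfsg.Agent.Lib.CoprimeAction
import Cfsg.Agent.Lib.PGroupsCyclic

/-!
# Elementary facts about cyclic Sylow subgroups and coprime elements (for S4016)
-/

set_option autoImplicit false

namespace Cfsg.Agent.H74CyclicAb

open Subgroup

universe u

variable {G : Type u} [Group G] [Finite G] {p : ℕ} [hp : Fact p.Prime]

omit hp in
theorem mem_normalizer_of_conj {A : Subgroup G} {y : G} (h : ∀ x ∈ A, y * x * y⁻¹ ∈ A) :
    y ∈ normalizer (A : Set G) := by
  have hle : A.map (MulAut.conj y).toMonoidHom ≤ A := by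
    rintro _ ⟨x, hx, rfl⟩; exact h x hx
  have heq : A.map (MulAut.conj y).toMonoidHom = A :=
    eq_of_le_of_card_ge hle (card_map_of_injective (MulAut.conj y).injective).ge
  rw [Subgroup.mem_normalizer_iff]
  intro x
  refine ⟨h x, fun hx => ?_⟩
  rw [← heq] at hx
  obtain ⟨a, ha, hax⟩ := hx
  simp only [MulEquiv.coe_toMonoidHom, MulAut.conj_apply, mul_left_inj, mul_right_inj] at hax
  exact hax ▸ ha

omit hp in
theorem comm_of_isCyclic {P : Subgroup G} (hc : IsCyclic P) :
    ∀ a ∈ P, ∀ b ∈ P, a * b = b * a := by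
  intro a ha b hb
  have := hc
  obtain ⟨g, hg⟩ := IsCyclic.exists_generator (α := P)
  obtain ⟨i, hi⟩ := mem_zpowers_iff.1 (hg ⟨a, ha⟩)
  obtain ⟨j, hj⟩ := mem_zpowers_iff.1 (hg ⟨b, hb⟩)
  have h1 : (⟨a, ha⟩ : P) * ⟨b, hb⟩ = ⟨b, hb⟩ * ⟨a, ha⟩ := by
    rw [← hi, ← hj, ← zpow_add, ← zpow_add, add_comm]
  exact congrArg Subtype.val h1

theorem cyclic_le_or {P A B : Subgroup G} (hc : IsCyclic P) (hP : IsPGroup p P) (hA : A ≤ P)
    (hB : B ≤ P) : A ≤ B ∨ B ≤ A := by
  obtain ⟨a, ha⟩ := IsPGroup.iff_card.1 (hP.to_le hA)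
  obtain ⟨b, hb⟩ := IsPGroup.iff_card.1 (hP.to_le hB)
  have key : ∀ (A B : Subgroup G) (a b : ℕ), A ≤ P → B ≤ P → Nat.card A = p ^ a →
      Nat.card B = p ^ b → a ≤ b → A ≤ B := by
    intro A B a b hA hB ha hb hab
    obtain ⟨C, hC⟩ := Sylow.exists_subgroup_card_pow_prime p
      (show p ^ a ∣ Nat.card B by rw [hb]; exact pow_dvd_pow p hab)
    have h1 : C.map B.subtype ≤ B := map_subtype_le C
    have h2 : Nat.card (C.map B.subtype) = p ^ a := by
      rw [card_map_of_injective B.subtype_injective, hC]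
    have := PGroupsCyclic.eq_of_card_eq_of_isCyclic hc hA (h1.trans hB) (ha.trans h2.symm)
    exact this ▸ h1
  rcases le_total a b with hab | hab
  · exact Or.inl (key A B a b hA hB ha hb hab)
  · exact Or.inr (key B A b a hB hA hb ha hab)

/-- A coprime element acting trivially modulo a proper subgroup of a cyclic `p`-group centralizes
it. -/
theorem commute_of_trivial_mod {P P0 : Subgroup G} (hc : IsCyclic P) (hP : IsPGroup p P) {y : G}
    (hy : (orderOf y).Coprime p) (hle : P0 ≤ P) (hne : ¬ P ≤ P0)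
    (h : ∀ x ∈ P, y * x * y⁻¹ * x⁻¹ ∈ P0) : ∀ x ∈ P, y * x = x * y := by
  have hn0 : y ∈ normalizer (P0 : Set G) := by
    refine mem_normalizer_of_conj fun x hx => ?_
    have := P0.mul_mem (h x (hle hx)) hx
    simpa using this
  obtain ⟨n, hn⟩ := IsPGroup.iff_card.1 (hP.to_le hle)
  have hcop : (orderOf y).Coprime (Nat.card P0) := by rw [hn]; exact Nat.Coprime.pow_right n hy
  have key : ∀ k ∈ P, k ∉ P0 → ∃ c ∈ P, y * c = c * y ∧ P0 ≤ zpowers c ∧ k ∈ zpowers c := by
    intro k hk hk0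
    have hc1 := h k hk
    have hfix : k⁻¹ * y * k * y⁻¹ ∈ P0 := by
      have hyk : y * k * y⁻¹ ∈ P := by
        have := P.mul_mem (hle hc1) hk
        simpa using this
      have hcm := comm_of_isCyclic hc _ (P.inv_mem hk) _ hyk
      rw [show k⁻¹ * y * k * y⁻¹ = k⁻¹ * (y * k * y⁻¹) by group, hcm]
      exact hc1
    obtain ⟨c, hyc, hkc⟩ := CoprimeAction.exists_fixed_mem_coset_zpowers hn0 hcop k hfix
    have hcP : c ∈ P := by
      have := P.mul_mem hk (hle hkc)
      simpa using this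
    have hnot : ¬ zpowers c ≤ P0 := by
      intro hle'
      apply hk0
      have := P0.mul_mem (hle' (mem_zpowers c)) (P0.inv_mem hkc)
      simpa [mul_assoc] using this
    have hsub : P0 ≤ zpowers c :=
      (cyclic_le_or hc hP hle (zpowers_le.2 hcP)).resolve_right hnot
    refine ⟨c, hcP, hyc, hsub, ?_⟩
    have := (zpowers c).mul_mem (mem_zpowers c) ((zpowers c).inv_mem (hsub hkc))
    simpa [mul_assoc] using this
  obtain ⟨k, hk, hk0⟩ := SetLike.not_le_iff_exists.1 hne
  intro x hx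
  have fin : ∀ c x : G, y * c = c * y → x ∈ zpowers c → y * x = x * y := by
    intro c x hc hx
    obtain ⟨i, rfl⟩ := mem_zpowers_iff.1 hx
    exact ((show Commute y c from hc).zpow_right i).eq
  by_cases hx0 : x ∈ P0
  · obtain ⟨c, -, hyc, hsub, -⟩ := key k hk hk0
    exact fin c x hyc (hsub hx0)
  · obtain ⟨c, -, hyc, -, hxc⟩ := key x hx hx0
    exact fin c x hyc hxc

/-- A coprime element commuting with a nontrivial element of a cyclic `p`-group centralizes it. -/
theorem commute_of_commute_one {P : Subgroup G} (hc : IsCyclic P) (hP : IsPGroup p P) {y : G}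
    (hy : (orderOf y).Coprime p) (hn : ∀ x ∈ P, y * x * y⁻¹ ∈ P) {w : G} (hw : w ∈ P) (hw1 : w ≠ 1)
    (hyw : y * w = w * y) : ∀ x ∈ P, y * x = x * y := by
  let φ : P →* P :=
    { toFun := fun x => ⟨y * x * y⁻¹ * (x : G)⁻¹, P.mul_mem (hn x x.2) (P.inv_mem x.2)⟩
      map_one' := Subtype.ext (by simp)
      map_mul' := fun a b => Subtype.ext (by
        have h2 := comm_of_isCyclic hc _ (P.mul_mem (hn b b.2) (P.inv_mem b.2)) _ (P.inv_mem a.2)
        show y * (a * b : G) * y⁻¹ * ((a : G) * b)⁻¹ =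
          (y * a * y⁻¹ * (a : G)⁻¹) * (y * b * y⁻¹ * (b : G)⁻¹)
        calc y * (a * b : G) * y⁻¹ * ((a : G) * b)⁻¹
            = (y * a * y⁻¹) * ((y * b * y⁻¹ * (b : G)⁻¹) * (a : G)⁻¹) := by group
          _ = (y * a * y⁻¹) * ((a : G)⁻¹ * (y * b * y⁻¹ * (b : G)⁻¹)) := by rw [h2]
          _ = _ := by group) }
  refine commute_of_trivial_mod hc hP hy (P0 := φ.range.map P.subtype) (map_subtype_le _) ?_ ?_
  · intro hle
    have htop : φ.range = ⊤ := by
      rw [eq_top_iff]
      intro x _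
      obtain ⟨z, hz, hzx⟩ := hle x.2
      exact Subtype.ext hzx ▸ hz
    have hinj : Function.Injective φ :=
      Finite.injective_iff_surjective.2 (MonoidHom.range_eq_top.1 htop)
    have h1 : φ ⟨w, hw⟩ = φ 1 := by
      rw [map_one]; exact Subtype.ext (by simp [φ, hyw])
    exact hw1 (congrArg Subtype.val (hinj h1))
  · intro x hx
    exact ⟨φ ⟨x, hx⟩, ⟨_, rfl⟩, rfl⟩

omit hp in
theorem exists_sq_root {q : G} (h : Odd (orderOf q)) : ∃ σ ∈ zpowers q, σ * σ = q := by
  obtain ⟨k, hk⟩ := h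
  refine ⟨q ^ (k + 1), pow_mem (mem_zpowers q) _, ?_⟩
  rw [← pow_add, show k + 1 + (k + 1) = (2 * k + 1) + 1 by ring, pow_succ, ← hk,
    pow_orderOf_eq_one, one_mul]

/-- Some `p`-power power of any element has order prime to `p`. -/
theorem exists_pow_coprime (g : G) : ∃ a : ℕ, (orderOf (g ^ p ^ a)).Coprime p := by
  refine ⟨(orderOf g).factorization p, ?_⟩
  rw [orderOf_pow' g (pow_ne_zero _ hp.out.ne_zero),
    Nat.gcd_eq_right (Nat.ordProj_dvd (orderOf g) p)]
  exact (Nat.coprime_ordCompl hp.out (orderOf_pos g).ne').symm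

omit hp in
theorem mem_of_pow_mem {H : Subgroup G} {g : G} {a b : ℕ} (hab : a.Coprime b) (ha : g ^ a ∈ H)
    (hb : g ^ b ∈ H) : g ∈ H := by
  have h := Nat.gcd_eq_gcd_ab a b
  rw [hab.gcd_eq_one] at h
  have : g = (g ^ a) ^ (Nat.gcdA a b) * (g ^ b) ^ (Nat.gcdB a b) := by
    rw [← zpow_natCast g a, ← zpow_natCast g b, ← zpow_mul, ← zpow_mul, ← zpow_add, ← h]
    simp
  rw [this]
  exact H.mul_mem (H.zpow_mem ha _) (H.zpow_mem hb _)

/-- A `p`-element normalizing a Sylow `p`-subgroup lies in it. -/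
theorem mem_sylow_of_mem_normalizer (Q : Sylow p G) {x : G} {a : ℕ} (hx : x ^ p ^ a = 1)
    (hn : x ∈ normalizer ((Q : Subgroup G) : Set G)) : x ∈ (Q : Subgroup G) := by
  have hpg : IsPGroup p (zpowers x) := by
    intro g
    obtain ⟨i, hi⟩ := mem_zpowers_iff.1 g.2
    refine ⟨a, Subtype.ext ?_⟩
    rw [SubgroupClass.coe_pow, ← hi, ← zpow_natCast, ← zpow_mul, mul_comm, zpow_mul, zpow_natCast,
      hx, one_zpow, OneMemClass.coe_one]
  have h := IsPGroup.inf_normalizer_sylow hpg Q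
  have : x ∈ zpowers x ⊓ normalizer (Q : Set G) := ⟨mem_zpowers x, hn⟩
  rw [h] at this
  exact this.2

/-- If the `p'`-elements of `N(Q)` lie in a subgroup `C` containing `Q`, then `N(Q) ≤ C`. -/
theorem normalizer_le_of_coprime_le (Q : Sylow p G) {C : Subgroup G} (hQC : (Q : Subgroup G) ≤ C)
    (h : ∀ y ∈ normalizer ((Q : Subgroup G) : Set G), (orderOf y).Coprime p → y ∈ C) :
    normalizer ((Q : Subgroup G) : Set G) ≤ C := by
  intro g hg
  obtain ⟨a, ha⟩ := exists_pow_coprime (p := p) g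
  refine mem_of_pow_mem (a := p ^ a) (b := orderOf (g ^ p ^ a)) (Nat.Coprime.pow_left a ha.symm)
    (h _ (pow_mem hg _) ha) (hQC ?_)
  refine mem_sylow_of_mem_normalizer Q (a := a) ?_ (pow_mem hg _)
  rw [← pow_mul, mul_comm, pow_mul, pow_orderOf_eq_one]

omit hp in
theorem mul_pow_mem {A : Subgroup G} {a b : G} (ha : a ∈ A) (hb : b ∈ normalizer (A : Set G))
    (m : ℕ) : (a * b) ^ m * (b ^ m)⁻¹ ∈ A := by
  induction m with
  | zero => simp
  | succ m ih =>
    have hbm : b ^ m ∈ normalizer (A : Set G) := pow_mem hb m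
    have h2 := A.mul_mem ih ((Subgroup.mem_normalizer_iff.1 hbm a).1 ha)
    convert h2 using 1
    rw [pow_succ, pow_succ]
    group

/-- Adjoining a `p'`-element to a normalized `p'`-subgroup gives a `p'`-subgroup. -/
theorem not_dvd_card_sup_zpowers {A : Subgroup G} (hA : ¬ p ∣ Nat.card A) {y : G}
    (hy : (orderOf y).Coprime p) (hn : y ∈ normalizer (A : Set G)) :
    ¬ p ∣ Nat.card (A ⊔ zpowers y : Subgroup G) := by
  intro hd
  obtain ⟨w, hw⟩ := exists_prime_orderOf_dvd_card' p hd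
  have hmem : (w : G) ∈ ((A ⊔ zpowers y : Subgroup G) : Set G) := w.2
  rw [coe_mul_of_right_le_normalizer_left A (zpowers y) (zpowers_le.2 hn)] at hmem
  obtain ⟨a, ha, b, hb, hab⟩ := hmem
  have hbn : b ∈ normalizer (A : Set G) := zpowers_le.2 hn hb
  have hbm : b ^ orderOf y = 1 := by
    obtain ⟨i, rfl⟩ := mem_zpowers_iff.1 hb
    rw [← zpow_natCast, ← zpow_mul, mul_comm, zpow_mul, zpow_natCast, pow_orderOf_eq_one,
      one_zpow]
  have h1 := mul_pow_mem ha hbn (orderOf y)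
  rw [hbm, inv_one, mul_one] at h1
  have hab' : a * b = (w : G) := hab
  rw [hab'] at h1
  have hwo : orderOf (w : G) = p := by rw [orderOf_coe]; exact hw
  have hwA : (w : G) ∈ A :=
    mem_of_pow_mem (a := orderOf y) (b := p) hy h1
      (by rw [← hwo, pow_orderOf_eq_one]; exact A.one_mem)
  exact hA (hwo ▸ (orderOf_mk _ hwA ▸ orderOf_dvd_natCard (⟨_, hwA⟩ : A)))

/-- A normal subgroup containing all `p'`-elements has `p`-power index. -/
theorem exists_relIndex_eq_pow {A X : Subgroup G} (hn : X ≤ normalizer (A : Set G))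
    (h : ∀ y ∈ X, (orderOf y).Coprime p → y ∈ A) : ∃ k, A.relIndex X = p ^ k := by
  have : (A.subgroupOf X).Normal := normal_subgroupOf_of_le_normalizer hn
  have hpg : IsPGroup p (X ⧸ A.subgroupOf X) := by
    intro q
    obtain ⟨x, rfl⟩ := QuotientGroup.mk'_surjective _ q
    obtain ⟨a, ha⟩ := exists_pow_coprime (p := p) (x : G)
    refine ⟨a, ?_⟩
    rw [← map_pow, ← MonoidHom.mem_ker, QuotientGroup.ker_mk', mem_subgroupOf,
      SubgroupClass.coe_pow]
    exact h _ (pow_mem x.2 _) ha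
  obtain ⟨k, hk⟩ := IsPGroup.iff_card.1 hpg
  exact ⟨k, hk⟩

/-- The number of conjugates of `t` under `X` times the centralizer order is `|X|`. -/
theorem card_conj_mul (X : Subgroup G) (t : G) :
    Nat.card {y : G // ∃ g ∈ X, g * t * g⁻¹ = y} *
      Nat.card (X ⊓ centralizer ({t} : Set G) : Subgroup G) = Nat.card X := by
  letI : MulAction X G := MulAction.compHom G ((MulAut.conj).comp X.subtype)
  have h := MulAction.index_stabilizer X t
  have hst : (MulAction.stabilizer X t).map X.subtype = X ⊓ centralizer ({t} : Set G) := by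
    ext g
    constructor
    · rintro ⟨⟨g, hg⟩, hfix, rfl⟩
      refine ⟨hg, mem_centralizer_singleton_iff.2 ?_⟩
      have : g * t * g⁻¹ = t := hfix
      calc g * t = g * t * g⁻¹ * g := by group
        _ = t * g := by rw [this]
    · rintro ⟨hg, hc⟩
      refine ⟨⟨g, hg⟩, ?_, rfl⟩
      show g * t * g⁻¹ = t
      rw [mem_centralizer_singleton_iff.1 hc]; group
  have horb : (MulAction.orbit X t).ncard = Nat.card {y : G // ∃ g ∈ X, g * t * g⁻¹ = y} := by
    rw [← Nat.card_coe_set_eq]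
    refine Nat.card_congr (Equiv.setCongr ?_)
    ext y
    constructor
    · rintro ⟨⟨g, hg⟩, rfl⟩; exact ⟨g, hg, rfl⟩
    · rintro ⟨g, hg, rfl⟩; exact ⟨⟨g, hg⟩, rfl⟩
  rw [← hst, card_map_of_injective X.subtype_injective, ← horb, ← h, mul_comm]
  exact Subgroup.card_mul_index _

end Cfsg.Agent.H74CyclicAb
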