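import Mathlib
import Cfsg.Prelude.Def_Transfer
import Cfsg.Agent.Lib.H74CyclicAbBasic
import Cfsg.Agent.Lib.TransferPResidual
import Cfsg.Agent.Lib.CNTheorem

/-!
# No simple group has a cyclic Sylow `p`-subgroup and all `p'`-subgroups abelian (for S4016)
-/

set_option autoImplicit false

namespace Cfsg.Agent.H74CyclicAb

open Subgroup

universe u

variable {G : Type u} [Group G] [Finite G] {p : ℕ} [hp : Fact p.Prime]

/-- `N(Q)`. -/
abbrev nS (Q : Sylow p G) : Subgroup G := normalizer ((Q : Subgroup G) : Set G)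

/-- The configuration of a minimal counterexample. -/
structure Hyp (G : Type u) [Group G] (p : ℕ) : Prop where
  simple : ∀ N : Subgroup G, N.Normal → N = ⊥ ∨ N = ⊤
  noncomm : ∃ a b : G, a * b ≠ b * a
  cyc : ∀ Q : Sylow p G, IsCyclic (Q : Subgroup G)
  ab : ∀ H : Subgroup G, ¬ p ∣ Nat.card H → ∀ a ∈ H, ∀ b ∈ H, a * b = b * a
  ih : ∀ H : Subgroup G, H ≠ ⊤ → Cfsg.HasNormalPComplement p H ∨
    ∀ Q : Sylow p G, (Q : Subgroup G) ≤ H → H ≤ normalizer ((Q : Subgroup G) : Set G)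

omit hp in
theorem le_nS (Q : Sylow p G) : (Q : Subgroup G) ≤ nS Q := le_normalizer

omit [Finite G] hp in
theorem conj_mem_of_mem_nS {Q : Sylow p G} {g x : G} (hg : g ∈ nS Q) (hx : x ∈ (Q : Subgroup G)) :
    g * x * g⁻¹ ∈ (Q : Subgroup G) :=
  (Subgroup.mem_normalizer_iff.1 hg x).1 hx

omit [Finite G] hp in
theorem centralizer_le_nS (Q : Sylow p G) :
    centralizer ((Q : Subgroup G) : Set G) ≤ nS Q := by
  intro x hx
  rw [Subgroup.mem_normalizer_iff]
  intro h
  constructor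
  · intro hh
    rw [← hx h hh, mul_inv_cancel_right]; exact hh
  · intro hh
    have h2 := hx _ hh
    have : x * h * x⁻¹ = h := by
      have e : x⁻¹ * ((x * h * x⁻¹) * x) = x⁻¹ * (x * (x * h * x⁻¹)) := by rw [h2]
      calc x * h * x⁻¹ = x⁻¹ * (x * (x * h * x⁻¹)) := by group
        _ = x⁻¹ * ((x * h * x⁻¹) * x) := e.symm
        _ = h := by group
    rwa [this] at hh

omit [Finite G] hp in
theorem coprime_of_orderOf_eq {x : G} {q : ℕ} (hq : q.Prime) (hne : q ≠ p) [hp : Fact p.Prime]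
    (hx : orderOf x = q) : (orderOf x).Coprime p :=
  hx ▸ (Nat.coprime_primes hq hp.out).2 hne

theorem eq_one_of_coprime {Q : Sylow p G} {x : G} (hx : x ∈ (Q : Subgroup G))
    (hc : (orderOf x).Coprime p) : x = 1 := by
  obtain ⟨k, hk⟩ := IsPGroup.iff_card.1 Q.2
  have h1 : orderOf x ∣ p ^ k := hk ▸ (orderOf_mk x hx ▸ orderOf_dvd_natCard (⟨x, hx⟩ : Q))
  exact orderOf_eq_one_iff.1 (Nat.Coprime.eq_one_of_dvd (Nat.Coprime.pow_right k hc) h1)

theorem orderOf_ne_two (hodd : p ≠ 2) {Q : Sylow p G} {x : G} (hx : x ∈ (Q : Subgroup G))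
    (h : x * x = 1) : x = 1 := by
  by_contra h1
  have ho : orderOf x = 2 := orderOf_eq_prime (by rwa [pow_two]) h1
  exact h1 (eq_one_of_coprime hx (ho ▸ (Nat.coprime_primes Nat.prime_two hp.out).2 hodd.symm))

theorem inv_of_orderOf_two {j : G} (hj : orderOf j = 2) : j⁻¹ = j :=
  inv_eq_of_mul_eq_one_right (by rw [← pow_two, ← hj, pow_orderOf_eq_one])

namespace Hyp

variable (h : Hyp G p)

include h

omit [Finite G] hp in
theorem center_eq_bot : center G = ⊥ := by
  refine (h.simple _ inferInstance).resolve_right fun he => ?_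
  obtain ⟨a, b, hab⟩ := h.noncomm
  exact hab ((mem_center_iff.1 (he ▸ mem_top b)) a)

omit [Finite G] hp in
theorem centralizer_ne_top {x : G} (hx : x ≠ 1) : centralizer ({x} : Set G) ≠ ⊤ := by
  intro he
  refine hx (mem_bot.1 (h.center_eq_bot ▸ mem_center_iff.2 fun g => ?_))
  exact mem_centralizer_singleton_iff.1 (he ▸ mem_top g)

omit hp in
theorem dvd_card : p ∣ Nat.card G := by
  by_contra hd
  obtain ⟨a, b, hab⟩ := h.noncomm
  exact hab (h.ab ⊤ (by rwa [card_top]) a trivial b trivial)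

omit hp in
theorem burnside_false {r : ℕ} [Fact r.Prime] (hr : r ∣ Nat.card G) (S : Sylow r G)
    (hle : normalizer (S : Set G) ≤ centralizer (S : Set G)) : False := by
  have hS : (S : Subgroup G) ≠ ⊥ := S.ne_bot_of_dvd_card hr
  rcases h.simple _ (MonoidHom.normal_ker (MonoidHom.transferSylow S hle)) with hk | hk
  · have hc := MonoidHom.ker_transferSylow_isComplement' S hle
    rw [hk] at hc
    have hS' : (S : Subgroup G) = ⊤ := isComplement'_bot_left.1 hc
    obtain ⟨a, b, hab⟩ := h.noncomm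
    have hb : b ∈ centralizer (S : Set G) := hle (le_normalizer (hS'.ge (mem_top b)))
    exact hab (hb a (hS'.ge (mem_top a)))
  · have hc := MonoidHom.ker_transferSylow_isComplement' S hle
    rw [hk] at hc
    exact hS (isComplement'_top_left.1 hc)

omit hp in
theorem not_nS_le_centralizer [Fact p.Prime] (Q : Sylow p G) :
    ¬ nS Q ≤ centralizer ((Q : Subgroup G) : Set G) :=
  fun hle => h.burnside_false h.dvd_card Q hle

omit hp in
theorem exists_order_p [Fact p.Prime] (Q : Sylow p G) : ∃ w ∈ (Q : Subgroup G), orderOf w = p := by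
  obtain ⟨w, hw⟩ := exists_prime_orderOf_dvd_card' (G := (Q : Subgroup G)) p
    (Q.dvd_card_of_dvd_card h.dvd_card)
  exact ⟨w, w.2, (orderOf_coe w).trans hw⟩

theorem odd : p ≠ 2 := by
  intro h2
  obtain ⟨Q⟩ : Nonempty (Sylow p G) := inferInstance
  refine h.not_nS_le_centralizer Q (normalizer_le_of_coprime_le Q
    (fun x hx y hy => comm_of_isCyclic (h.cyc Q) y hy x hx) fun y hy hyc x hx => ?_)
  obtain ⟨w, hw, hwo⟩ := h.exists_order_p Q
  have hy' : ∀ x ∈ (Q : Subgroup G), y * x * y⁻¹ ∈ (Q : Subgroup G) := fun x hx =>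
    conj_mem_of_mem_nS hy hx
  have hw1 : w ≠ 1 := fun e => hp.out.one_lt.ne' (by rw [← hwo, e, orderOf_one])
  have key : y * w * y⁻¹ = w := by
    have he : zpowers (y * w * y⁻¹) = zpowers w := by
      refine PGroupsCyclic.eq_of_card_eq_of_isCyclic (h.cyc Q) (zpowers_le.2 (hy' w hw))
        (zpowers_le.2 hw) ?_
      rw [Nat.card_zpowers, Nat.card_zpowers, ← MulAut.conj_apply, MulEquiv.orderOf_eq]
    have hm : y * w * y⁻¹ ∈ zpowers w := he ▸ mem_zpowers _
    classical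
    rw [mem_zpowers_iff_mem_range_orderOf, Finset.mem_image] at hm
    obtain ⟨i, hi, hiw⟩ := hm
    rw [Finset.mem_range, hwo, h2] at hi
    interval_cases i
    · rw [pow_zero] at hiw
      exact absurd (conj_eq_one_iff.1 hiw.symm) hw1
    · rw [pow_one] at hiw; exact hiw.symm
  have hyw : y * w = w * y := by
    calc y * w = y * w * y⁻¹ * y := by group
      _ = w * y := by rw [key]
  exact (commute_of_commute_one (h.cyc Q) Q.2 hyc hy' hw hw1 hyw x hx).symm

theorem not_hnpc (Q : Sylow p G) {X : Subgroup G} (hX : nS Q ≤ X) :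
    ¬ Cfsg.HasNormalPComplement p X := by
  intro hn
  refine h.not_nS_le_centralizer Q (normalizer_le_of_coprime_le Q
    (fun x hx y hy => comm_of_isCyclic (h.cyc Q) y hy x hx) fun y hy hyc x hx => ?_)
  set y' : X := ⟨y, hX hy⟩
  set x' : X := ⟨x, hX (le_nS Q hx)⟩
  have hy' : y' ∈ Cfsg.pResidual p X :=
    TransferPResidual.mem_pResidual_of_coprime (by rwa [orderOf_mk])
  have hN : (Cfsg.pResidual p X).Normal := inferInstance
  have hc : y' * (x' * y'⁻¹ * x'⁻¹) ∈ Cfsg.pResidual p X :=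
    mul_mem hy' (hN.conj_mem _ (inv_mem hy') x')
  rw [TransferPResidual.mem_pResidual_iff_coprime hn, ← orderOf_coe] at hc
  have e : ((y' * (x' * y'⁻¹ * x'⁻¹) : X) : G) = y * x * y⁻¹ * x⁻¹ := by
    simp [x', y', mul_assoc]
  rw [e] at hc
  have h1 := eq_one_of_coprime
    ((Q : Subgroup G).mul_mem (conj_mem_of_mem_nS hy hx) ((Q : Subgroup G).inv_mem hx)) hc
  have h2 : y * x * y⁻¹ = x := mul_inv_eq_one.1 h1
  calc x * y = y * x * y⁻¹ * y := by rw [h2]
    _ = y * x := by group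

theorem le_nS_of_ne_top (Q : Sylow p G) {X : Subgroup G} (hX : nS Q ≤ X) (hne : X ≠ ⊤) :
    X ≤ nS Q := by
  rcases h.ih X hne with h1 | h1
  · exact absurd h1 (h.not_hnpc Q hX)
  · exact h1 Q ((le_nS Q).trans hX)

theorem normalizer_zpowers_le (Q : Sylow p G) {w : G} (hw : w ∈ (Q : Subgroup G))
    (hwo : orderOf w = p) : normalizer (zpowers w : Set G) ≤ nS Q := by
  have hw1 : w ≠ 1 := fun e => hp.out.one_lt.ne' (by rw [← hwo, e, orderOf_one])
  refine h.le_nS_of_ne_top Q ?_ ?_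
  · intro g hg
    refine mem_normalizer_of_conj fun x hx => ?_
    have he : zpowers (g * w * g⁻¹) = zpowers w := by
      refine PGroupsCyclic.eq_of_card_eq_of_isCyclic (h.cyc Q)
        (zpowers_le.2 (conj_mem_of_mem_nS hg hw)) (zpowers_le.2 hw) ?_
      rw [Nat.card_zpowers, Nat.card_zpowers, ← MulAut.conj_apply, MulEquiv.orderOf_eq]
    obtain ⟨i, rfl⟩ := mem_zpowers_iff.1 hx
    rw [← conj_zpow]
    exact zpow_mem (he ▸ mem_zpowers _) i
  · intro he
    have hn : (zpowers w).Normal := normalizer_eq_top_iff.1 he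
    rcases h.simple _ hn with h1 | h1
    · exact hw1 (zpowers_eq_bot.1 h1)
    · obtain ⟨a, b, hab⟩ := h.noncomm
      obtain ⟨i, rfl⟩ := mem_zpowers_iff.1 (h1 ▸ mem_top a : a ∈ zpowers w)
      obtain ⟨j, rfl⟩ := mem_zpowers_iff.1 (h1 ▸ mem_top b : b ∈ zpowers w)
      exact hab (by rw [← zpow_add, ← zpow_add, add_comm])

theorem centralizer_le (Q : Sylow p G) {w : G} (hw : w ∈ (Q : Subgroup G))
    (hwo : orderOf w = p) : centralizer ({w} : Set G) ≤ nS Q := by
  refine le_trans (fun g hg => ?_) (h.normalizer_zpowers_le Q hw hwo)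
  refine mem_normalizer_of_conj fun x hx => ?_
  obtain ⟨i, rfl⟩ := mem_zpowers_iff.1 hx
  have h1 : g * w * g⁻¹ = w := by rw [mem_centralizer_singleton_iff.1 hg]; group
  rw [← conj_zpow, h1]
  exact zpow_mem (mem_zpowers w) i

omit h in
theorem exists_order_p_pow (Q : Sylow p G) {x : G} (hx : x ∈ (Q : Subgroup G)) (hx1 : x ≠ 1) :
    ∃ i : ℕ, orderOf (x ^ i) = p := by
  obtain ⟨k, hk⟩ := IsPGroup.iff_card.1 Q.2
  have h1 : orderOf x ∣ p ^ k := hk ▸ (orderOf_mk x hx ▸ orderOf_dvd_natCard (⟨x, hx⟩ : Q))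
  obtain ⟨j, -, hjx⟩ := (Nat.dvd_prime_pow hp.out).1 h1
  have hj0 : j ≠ 0 := fun e => hx1 (orderOf_eq_one_iff.1 (by rw [hjx, e, pow_zero]))
  exact ⟨orderOf x / p, orderOf_pow_orderOf_div (orderOf_pos x).ne' (hjx ▸ dvd_pow_self p hj0)⟩

theorem sylow_unique (Q R : Sylow p G) {x : G} (hx : x ∈ (Q : Subgroup G))
    (hxR : x ∈ (R : Subgroup G)) (hx1 : x ≠ 1) : Q = R := by
  obtain ⟨i, hi⟩ := exists_order_p_pow Q hx hx1
  have hle : (R : Subgroup G) ≤ (Q : Subgroup G) := by
    intro r hr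
    have hn : r ∈ nS Q := h.centralizer_le Q (pow_mem hx i) hi
      (mem_centralizer_singleton_iff.2 (comm_of_isCyclic (h.cyc R) r hr _ (pow_mem hxR i)))
    obtain ⟨a, ha⟩ := R.2 ⟨r, hr⟩
    exact mem_sylow_of_mem_normalizer Q (a := a) (by simpa using congrArg Subtype.val ha) hn
  exact (Sylow.ext (R.3 Q.2 hle))

theorem comm_mod (Q : Sylow p G) {a b : G} (ha : a ∈ nS Q) (hb : b ∈ nS Q) :
    a * b * a⁻¹ * b⁻¹ ∈ (Q : Subgroup G) := by
  set Q' := (Q : Subgroup G).subgroupOf (nS Q)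
  have : Q'.Normal := normal_in_normalizer
  have hcard : Nat.card Q' = Nat.card (Q : Subgroup G) :=
    Nat.card_congr (subgroupOfEquivOfLe (le_nS Q)).toEquiv
  have hcop : (Nat.card Q').Coprime Q'.index :=
    hcard ▸ Q.card_coprime_index.coprime_dvd_right (relIndex_dvd_index_of_le (le_nS Q))
  obtain ⟨L, hL⟩ := exists_right_complement'_of_coprime hcop
  have hLc : ¬ p ∣ Nat.card (L.map (nS Q).subtype) := by
    rw [card_map_of_injective (nS Q).subtype_injective, ← hL.symm.index_eq_card]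
    intro hd
    exact Q.not_dvd_index (hd.trans (relIndex_dvd_index_of_le (le_nS Q)))
  obtain ⟨⟨q1, l1⟩, h1⟩ := (hL.existsUnique ⟨a, ha⟩).exists
  obtain ⟨⟨q2, l2⟩, h2⟩ := (hL.existsUnique ⟨b, hb⟩).exists
  have hl : (l1 : nS Q) * l2 = l2 * l1 := Subtype.ext
    (h.ab _ hLc _ ⟨l1, l1.2, rfl⟩ _ ⟨l2, l2.2, rfl⟩)
  let π := QuotientGroup.mk' Q'
  have hq : ∀ q : Q', π q = 1 := fun q => (QuotientGroup.eq_one_iff _).2 q.2
  have hπ : π ((⟨a, ha⟩ : nS Q) * ⟨b, hb⟩ * (⟨a, ha⟩ : nS Q)⁻¹ * (⟨b, hb⟩ : nS Q)⁻¹) = 1 := by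
    simp only [← h1, ← h2, map_mul, map_inv, hq, one_mul]
    simp only [← map_inv, ← map_mul]
    rw [hl, mul_inv_cancel_right, mul_inv_cancel, map_one]
  have h5 := (QuotientGroup.eq_one_iff (N := Q') _).1 hπ
  simpa [Q', mem_subgroupOf] using h5

/-- A `p'`-element centralizing `Q` is central in `N(Q)`. -/
theorem comm_nS (Q : Sylow p G) {x y : G} (hx : (orderOf x).Coprime p)
    (hxQ : x ∈ centralizer ((Q : Subgroup G) : Set G)) (hy : y ∈ nS Q) : y * x = x * y := by
  have hc := h.comm_mod Q hy (centralizer_le_nS Q hxQ)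
  set c := y * x * y⁻¹ * x⁻¹
  have hcx : c * x = x * c := hxQ c hc
  have hyxy : orderOf (y * x * y⁻¹) = orderOf x := by
    rw [← MulAut.conj_apply, MulEquiv.orderOf_eq]
  have h1 : c ^ orderOf x = 1 := by
    have h2 : (c * x) ^ orderOf x = c ^ orderOf x * x ^ orderOf x := Commute.mul_pow hcx _
    rw [pow_orderOf_eq_one, mul_one, show c * x = y * x * y⁻¹ by simp [c]] at h2
    rw [← h2, ← hyxy, pow_orderOf_eq_one]
  have : c = 1 := eq_one_of_coprime hc (hx.coprime_dvd_left (orderOf_dvd_of_pow_eq_one h1))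
  have h2 : y * x * y⁻¹ = x := mul_inv_eq_one.1 this
  calc y * x = y * x * y⁻¹ * y := by group
    _ = x * y := by rw [h2]

theorem centralizer_eq_nS (Q : Sylow p G) {x : G} (hx : (orderOf x).Coprime p)
    (hxQ : x ∈ centralizer ((Q : Subgroup G) : Set G)) (hx1 : x ≠ 1) :
    centralizer ({x} : Set G) = nS Q :=
  have hle : nS Q ≤ centralizer ({x} : Set G) := fun _ hy =>
    mem_centralizer_singleton_iff.2 (h.comm_nS Q hx hxQ hy)
  le_antisymm (h.le_nS_of_ne_top Q hle (h.centralizer_ne_top hx1)) hle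

theorem centralizes_of_commute (Q : Sylow p G) {x w : G} (hx : (orderOf x).Coprime p)
    (hw : w ∈ (Q : Subgroup G)) (hw1 : w ≠ 1) (hxw : x * w = w * x) :
    x ∈ centralizer ((Q : Subgroup G) : Set G) := by
  obtain ⟨i, hi⟩ := exists_order_p_pow Q hw hw1
  have hxn : x ∈ nS Q := h.centralizer_le Q (pow_mem hw i) hi
    (mem_centralizer_singleton_iff.2 ((show Commute x w from hxw).pow_right i).eq)
  exact fun y hy => (commute_of_commute_one (h.cyc Q) Q.2 hx
    (fun z hz => conj_mem_of_mem_nS hxn hz) hw hw1 hxw y hy).symm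

theorem invol_or (Q : Sylow p G) {j : G} (hj : orderOf j = 2) (hjn : j ∈ nS Q) :
    j ∈ centralizer ((Q : Subgroup G) : Set G) ∨
      ∀ x ∈ (Q : Subgroup G), j * x * j⁻¹ = x⁻¹ := by
  by_cases hc : j ∈ centralizer ((Q : Subgroup G) : Set G)
  · exact Or.inl hc
  refine Or.inr fun x hx => ?_
  have hx' := conj_mem_of_mem_nS hjn hx
  set y := x * (j * x * j⁻¹) with hy
  have hyQ : y ∈ (Q : Subgroup G) := mul_mem hx hx'
  by_contra hne
  have hy1 : y ≠ 1 := fun e => hne (eq_inv_of_mul_eq_one_right e)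
  refine hc (h.centralizes_of_commute Q
    (coprime_of_orderOf_eq Nat.prime_two h.odd.symm hj) hyQ hy1 ?_)
  have hsq : j * j = 1 := by rw [← pow_two, ← hj, pow_orderOf_eq_one]
  have h1 : j * y * j⁻¹ = y := by
    rw [hy, show j * (x * (j * x * j⁻¹)) * j⁻¹ = (j * x * j⁻¹) * ((j * j) * x * (j * j)⁻¹) by group,
      hsq, one_mul, inv_one, mul_one, comm_of_isCyclic (h.cyc Q) _ hx' _ hx]
  calc j * y = j * y * j⁻¹ * j := by group
    _ = y * j := by rw [h1]

/-- Two non-commuting involutions invert a common Sylow `p`-subgroup. -/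
theorem noncomm_pair {s t : G} (hs : orderOf s = 2) (ht : orderOf t = 2)
    (hst : s * t ≠ t * s) :
    ∃ (Q : Sylow p G) (w : G), w ∈ (Q : Subgroup G) ∧ orderOf w = p ∧ w ∈ zpowers (t * s) ∧
      s ∈ nS Q ∧ t ∈ nS Q ∧ s ∉ centralizer ((Q : Subgroup G) : Set G) ∧
      t ∉ centralizer ((Q : Subgroup G) : Set G) := by
  have hss : s * s = 1 := by rw [← pow_two, ← hs, pow_orderOf_eq_one]
  have htt : t * t = 1 := by rw [← pow_two, ← ht, pow_orderOf_eq_one]
  have hsi : s⁻¹ = s := inv_eq_of_mul_eq_one_right hss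
  have hti : t⁻¹ = t := inv_eq_of_mul_eq_one_right htt
  set z := t * s with hz
  have hzi : z⁻¹ = s * t := by rw [hz, mul_inv_rev, hsi, hti]
  have htz : t * z * t⁻¹ = z⁻¹ := by
    rw [hzi, hti, hz, ← mul_assoc, htt, one_mul]
  have hsz : s * z * s⁻¹ = z⁻¹ := by
    rw [hzi, hsi, hz, mul_assoc s, mul_assoc, hss, mul_one]
  have hnz : ∀ g : G, g * z * g⁻¹ = z⁻¹ → ∀ w ∈ zpowers z, g * w * g⁻¹ = w⁻¹ := by
    intro g hg w hw
    obtain ⟨i, rfl⟩ := mem_zpowers_iff.1 hw
    rw [← conj_zpow, hg, inv_zpow]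
  by_cases hd : p ∣ orderOf z
  · have hwo : orderOf (z ^ (orderOf z / p)) = p :=
      orderOf_pow_orderOf_div (orderOf_pos z).ne' hd
    set w := z ^ (orderOf z / p)
    have hwz : w ∈ zpowers z := pow_mem (mem_zpowers z) _
    obtain ⟨Q, hQ⟩ := IsPGroup.exists_le_sylow
      (IsPGroup.of_card (show Nat.card (zpowers w) = p ^ 1 by rw [Nat.card_zpowers, hwo, pow_one]))
    have hwQ : w ∈ (Q : Subgroup G) := hQ (mem_zpowers w)
    have hin : ∀ g : G, g * z * g⁻¹ = z⁻¹ →
        g ∈ nS Q ∧ g ∉ centralizer ((Q : Subgroup G) : Set G) := by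
      intro g hg
      have h1 := hnz g hg w hwz
      refine ⟨h.normalizer_zpowers_le Q hwQ hwo (mem_normalizer_of_conj fun x hx => ?_), fun hc => ?_⟩
      · obtain ⟨i, rfl⟩ := mem_zpowers_iff.1 hx
        rw [← conj_zpow, h1]
        exact zpow_mem (inv_mem (mem_zpowers w)) i
      · have h2 : g * w * g⁻¹ = w := by rw [← hc w hwQ]; group
        have h3 : w * w = 1 := mul_eq_one_iff_eq_inv.2 (h2.symm.trans h1)
        exact hp.out.one_lt.ne' (by rw [← hwo, orderOf_ne_two h.odd hwQ h3, orderOf_one])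
    exact ⟨Q, w, hwQ, hwo, hwz, (hin s hsz).1, (hin t htz).1, (hin s hsz).2, (hin t htz).2⟩
  · exfalso
    have htn : t ∈ normalizer (zpowers z : Set G) := by
      refine mem_normalizer_of_conj fun x hx => ?_
      rw [hnz t htz x hx]; exact inv_mem hx
    have hY := not_dvd_card_sup_zpowers (A := zpowers z) (by rwa [Nat.card_zpowers])
      (coprime_of_orderOf_eq Nat.prime_two h.odd.symm ht) htn
    have hcm := h.ab _ hY z (le_sup_left (α := Subgroup G) (mem_zpowers z)) t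
      (le_sup_right (α := Subgroup G) (mem_zpowers t))
    apply hst
    calc s * t = t * (t * s * t) := by rw [← mul_assoc, ← mul_assoc, htt, one_mul]
      _ = t * (t * (t * s)) := by rw [← hz, hcm]
      _ = t * s := by rw [← mul_assoc, htt, one_mul]

/-- A `p'`-element of prime order centralizing a Sylow `p`-subgroup. -/
theorem central_data {q : ℕ} [hq : Fact q.Prime] (hqp : q ≠ p) (Q : Sylow p G) {c : G}
    (hc : orderOf c = q) (hcQ : c ∈ centralizer ((Q : Subgroup G) : Set G)) (S : Sylow q G)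
    (hcS : c ∈ (S : Subgroup G)) :
    q = 2 ∧ (∀ x ∈ (S : Subgroup G), orderOf x = q → IsConj c x) ∧
      ∀ x ∈ (S : Subgroup G), orderOf x = q → x ∈ centralizer ((Q : Subgroup G) : Set G) →
        x ∈ zpowers c := by
  classical
  have hqd : q ∣ Nat.card G := hc ▸ orderOf_dvd_natCard c
  have hc1 : c ≠ 1 := fun e => hq.out.one_lt.ne' (by rw [← hc, e, orderOf_one])
  have hScop : ∀ x ∈ (S : Subgroup G), (orderOf x).Coprime p := by
    intro x hx
    obtain ⟨k, hk⟩ := IsPGroup.iff_card.1 S.2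
    have h1 : orderOf x ∣ q ^ k := hk ▸ (orderOf_mk x hx ▸ orderOf_dvd_natCard (⟨x, hx⟩ : S))
    exact ((Nat.coprime_primes hq.out hp.out).2 hqp |>.pow_left k).coprime_dvd_left h1
  have hSab : ∀ a ∈ (S : Subgroup G), ∀ b ∈ (S : Subgroup G), a * b = b * a := by
    refine h.ab _ fun hd => ?_
    obtain ⟨k, hk⟩ := IsPGroup.iff_card.1 S.2
    rw [hk] at hd
    exact hqp ((Nat.prime_dvd_prime_iff_eq hp.out hq.out).1 (hp.out.dvd_of_dvd_pow hd)).symm
  have hM := h.centralizer_eq_nS Q (coprime_of_orderOf_eq hq.out hqp hc) hcQ hc1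
  have hSM : (S : Subgroup G) ≤ nS Q := fun x hx =>
    hM ▸ mem_centralizer_singleton_iff.2 (hSab x hx c hcS)
  set A := centralizer ((S : Subgroup G) : Set G)
  have hAM : A ≤ nS Q := fun x hx => hM ▸ mem_centralizer_singleton_iff.2 (hx c hcS).symm
  have hSA : (S : Subgroup G) ≤ A := fun x hx y hy => hSab y hy x hx
  set N := normalizer ((S : Subgroup G) : Set G)
  have hNA : N ≤ normalizer (A : Set G) := by
    intro g hg
    refine mem_normalizer_of_conj fun x hx s hs => ?_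
    have h1 := hx _ ((Subgroup.mem_normalizer_iff.1 (inv_mem hg) s).1 hs)
    rw [inv_inv] at h1
    calc s * (g * x * g⁻¹) = g * ((g⁻¹ * s * g) * x) * g⁻¹ := by group
      _ = g * (x * (g⁻¹ * s * g)) * g⁻¹ := by rw [h1]
      _ = g * x * g⁻¹ * s := by group
  have hnQ : ∀ u : G, (∀ x ∈ nS Q, u * x * u⁻¹ ∈ nS Q) → u ∈ nS Q := by
    intro u hu
    refine mem_normalizer_of_conj fun x hx => ?_
    obtain ⟨a, ha⟩ := Q.2 ⟨x, hx⟩
    refine mem_sylow_of_mem_normalizer Q (a := a) ?_ (hu x (le_nS Q hx))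
    rw [conj_pow, show x ^ p ^ a = 1 by simpa using congrArg Subtype.val ha]
    group
  by_cases hSQ : (S : Subgroup G) ≤ centralizer ((Q : Subgroup G) : Set G)
  · exfalso
    have hAeq : A = nS Q := le_antisymm hAM fun y hy s hs =>
      (h.comm_nS Q (hScop s hs) (hSQ hs) hy).symm
    refine h.burnside_false hqd S fun g hg => ?_
    have : g ∈ nS Q := hnQ g fun x hx =>
      hAeq.le ((Subgroup.mem_normalizer_iff.1 (hNA hg) x).1 (hAeq.ge hx))
    exact hAeq.ge this
  have hApd : ¬ p ∣ Nat.card A := by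
    intro hd
    obtain ⟨w, hw⟩ := exists_prime_orderOf_dvd_card' p hd
    have hwo : orderOf (w : G) = p := (orderOf_coe w).trans hw
    have hwQ : (w : G) ∈ (Q : Subgroup G) := mem_sylow_of_mem_normalizer Q (a := 1)
      (by rw [pow_one, ← hwo, pow_orderOf_eq_one]) (hAM w.2)
    exact hSQ fun s hs => h.centralizes_of_commute Q (hScop s hs) hwQ
      (fun e => hp.out.one_lt.ne' (by rw [← hwo, e, orderOf_one])) (w.2 s hs)
  have hN' : ∀ y ∈ N, (orderOf y).Coprime p → y ∈ A := fun y hy hyc s hs =>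
    h.ab _ (not_dvd_card_sup_zpowers hApd hyc (hNA hy)) s
      (le_sup_left (α := Subgroup G) (hSA hs)) y (le_sup_right (α := Subgroup G) (mem_zpowers y))
  obtain ⟨k, hk⟩ := exists_relIndex_eq_pow hNA hN'
  have hAN : A ≤ N := centralizer_le_normalizer _
  have hk0 : k ≠ 0 := by
    intro e
    rw [e, pow_zero, relIndex_eq_one] at hk
    exact h.burnside_false hqd S hk
  have hstab : N ⊓ centralizer ({c} : Set G) = A := by
    refine le_antisymm ?_ (le_inf hAN fun x hx => mem_centralizer_singleton_iff.2 (hx c hcS).symm)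
    rintro g ⟨hgN, hgc⟩
    have hgc' : g ∈ nS Q := hM ▸ hgc
    obtain ⟨a, ha⟩ := exists_pow_coprime (p := p) g
    refine mem_of_pow_mem (a := p ^ a) (b := orderOf (g ^ p ^ a)) (Nat.Coprime.pow_left a ha.symm)
      (hN' _ (pow_mem hgN _) ha) ?_
    set x := g ^ orderOf (g ^ p ^ a)
    have hxQ : x ∈ (Q : Subgroup G) := mem_sylow_of_mem_normalizer Q (a := a)
      (by rw [← pow_mul, mul_comm, pow_mul, pow_orderOf_eq_one]) (pow_mem hgc' _)
    intro s hs
    have h1 : x * s * x⁻¹ * s⁻¹ ∈ (S : Subgroup G) :=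
      mul_mem ((Subgroup.mem_normalizer_iff.1 (pow_mem hgN _) s).1 hs) (inv_mem hs)
    have h2 : x * s * x⁻¹ * s⁻¹ ∈ (Q : Subgroup G) := by
      rw [show x * s * x⁻¹ * s⁻¹ = x * (s * x⁻¹ * s⁻¹) by group]
      exact mul_mem hxQ (conj_mem_of_mem_nS (hSM hs) (inv_mem hxQ))
    have h3 : x * s * x⁻¹ = s := mul_inv_eq_one.1 (eq_one_of_coprime h2 (hScop _ h1))
    calc s * x = x * s * x⁻¹ * x := by rw [h3]
      _ = x * s := by group
  have horb : Nat.card {y : G // ∃ g ∈ N, g * c * g⁻¹ = y} = p ^ k := by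
    have h1 := card_conj_mul N c
    have h2 : Nat.card A * p ^ k = Nat.card N := by
      rw [← hk, ← Nat.card_congr (subgroupOfEquivOfLe hAN).toEquiv]
      exact card_mul_index (A.subgroupOf N)
    rw [hstab, ← h2, mul_comm] at h1
    exact Nat.eq_of_mul_eq_mul_left Nat.card_pos h1
  set V : Subgroup G :=
    { carrier := {x | x ∈ (S : Subgroup G) ∧ x ^ q = 1}
      one_mem' := ⟨one_mem _, one_pow _⟩
      mul_mem' := fun {a b} ha hb => ⟨mul_mem ha.1 hb.1, by
        rw [(show Commute a b from hSab a ha.1 b hb.1).mul_pow, ha.2, hb.2, one_mul]⟩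
      inv_mem' := fun {a} ha => ⟨inv_mem ha.1, by rw [inv_pow, ha.2, inv_one]⟩ }
  set E := V ⊓ centralizer ((Q : Subgroup G) : Set G)
  have hcV : c ∈ V := ⟨hcS, hc ▸ pow_orderOf_eq_one c⟩
  have hcE : zpowers c ≤ E := zpowers_le.2 ⟨hcV, hcQ⟩
  have hVconj : ∀ g ∈ N, ∀ x ∈ V, g * x * g⁻¹ ∈ V := fun g hg x hx =>
    ⟨(Subgroup.mem_normalizer_iff.1 hg x).1 hx.1, by rw [conj_pow, hx.2, mul_one, mul_inv_cancel]⟩
  have hdisj : ∀ g ∈ N, g * c * g⁻¹ ≠ c →
      ∀ x ∈ E, g⁻¹ * x * g ∈ E → x = 1 := by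
    intro g hg hne x hx hx'
    by_contra hx1
    have e1 := h.centralizer_eq_nS Q (hScop x hx.1.1) hx.2 hx1
    have e2 := h.centralizer_eq_nS Q (hScop _ hx'.1.1) hx'.2 fun e => hx1 (by
      calc x = g * (g⁻¹ * x * g) * g⁻¹ := by group
        _ = 1 := by rw [e]; group)
    have hgQ : g ∈ nS Q := by
      refine hnQ g fun y hy => ?_
      rw [← e1, mem_centralizer_singleton_iff]
      have h1 := mem_centralizer_singleton_iff.1 (e2.ge hy)
      calc g * y * g⁻¹ * x = g * (y * (g⁻¹ * x * g)) * g⁻¹ := by group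
        _ = g * ((g⁻¹ * x * g) * y) * g⁻¹ := by rw [h1]
        _ = x * (g * y * g⁻¹) := by group
    rw [← hM, mem_centralizer_singleton_iff] at hgQ
    exact hne (by rw [hgQ]; group)
  have hp3 : 1 < p ^ k := Nat.one_lt_pow hk0 hp.out.one_lt
  obtain ⟨y0, hy0⟩ : ∃ g ∈ N, g * c * g⁻¹ ≠ c := by
    by_contra hno
    push Not at hno
    have h1 : Nat.card {y : G // ∃ g ∈ N, g * c * g⁻¹ = y} ≤ 1 := by
      refine Finite.card_le_one_iff_subsingleton.2 ⟨fun a b => Subtype.ext ?_⟩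
      obtain ⟨g, hg, e⟩ := a.2
      obtain ⟨g', hg', e'⟩ := b.2
      rw [← e, ← e', hno g hg, hno g' hg']
    omega
  -- `|E| ^ 2 ≤ |V|`
  have hsq : Nat.card E * Nat.card E ≤ Nat.card V := by
    rw [← Nat.card_prod]
    refine Nat.card_le_card_of_injective
      (fun e : E × E => (⟨e.1 * (y0 * e.2 * y0⁻¹), mul_mem e.1.2.1 (hVconj y0 hy0.1 _ e.2.2.1)⟩ : V)) ?_
    rintro ⟨a, b⟩ ⟨a', b'⟩ e
    have e' : (a : G) * (y0 * b * y0⁻¹) = a' * (y0 * b' * y0⁻¹) := congrArg Subtype.val e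
    have h1 : (a' : G)⁻¹ * a = y0 * ((b' : G) * (b : G)⁻¹) * y0⁻¹ := by
      calc (a' : G)⁻¹ * a = (a' : G)⁻¹ * (a * (y0 * b * y0⁻¹)) * (y0 * b * y0⁻¹)⁻¹ := by group
        _ = _ := by rw [e']; group
    have h2 : (a' : G)⁻¹ * a = 1 := by
      refine hdisj y0 hy0.1 hy0.2 _ (mul_mem (inv_mem a'.2) a.2) ?_
      rw [h1]
      simp only [mul_assoc, inv_mul_cancel_left, inv_mul_cancel, mul_one]
      exact mul_mem b'.2 (inv_mem b.2)
    rw [h2] at h1
    have h3 : (b' : G) * (b : G)⁻¹ = 1 := conj_eq_one_iff.1 h1.symm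
    exact Prod.ext (Subtype.ext (inv_mul_eq_one.1 h2).symm)
      (Subtype.ext (mul_inv_eq_one.1 h3).symm)
  -- an element of `V` outside `E` acts faithfully on the order `p` subgroup of `Q`
  obtain ⟨w, hw, hwo⟩ := h.exists_order_p Q
  have hw1 : w ≠ 1 := fun e => hp.out.one_lt.ne' (by rw [← hwo, e, orderOf_one])
  obtain ⟨v, hv, hvE⟩ : ∃ v ∈ V, v ∉ E := by
    refine ⟨y0 * c * y0⁻¹, hVconj y0 hy0.1 c hcV, fun he => hc1 ?_⟩
    have h1 := hdisj y0 hy0.1 hy0.2 _ he (by
      simp only [mul_assoc, inv_mul_cancel_left, inv_mul_cancel, mul_one]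
      exact hcE (mem_zpowers c))
    exact conj_eq_one_iff.1 h1
  have hact : ∀ x ∈ V, ∃ r : ℤ, x * w * x⁻¹ = w ^ r ∧ (r : ZMod p) ^ q = 1 := by
    intro x hx
    have h1 : x * w * x⁻¹ ∈ zpowers w := by
      have he : zpowers (x * w * x⁻¹) = zpowers w := by
        refine PGroupsCyclic.eq_of_card_eq_of_isCyclic (h.cyc Q)
          (zpowers_le.2 (conj_mem_of_mem_nS (hSM hx.1) hw)) (zpowers_le.2 hw) ?_
        rw [Nat.card_zpowers, Nat.card_zpowers, ← MulAut.conj_apply, MulEquiv.orderOf_eq]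
      exact he ▸ mem_zpowers _
    obtain ⟨r, hr⟩ := mem_zpowers_iff.1 h1
    refine ⟨r, hr.symm, ?_⟩
    have h2 := PGroupsCyclic.conj_iterate hr.symm q
    rw [hx.2, one_mul, inv_one, mul_one] at h2
    have h2' : w ^ (1 : ℤ) = w ^ (r ^ q) := by rw [zpow_one]; exact h2
    rw [PGroupsCyclic.zpow_eq_iff_dvd, hwo, ← ZMod.intCast_zmod_eq_zero_iff_dvd] at h2'
    push_cast at h2'
    exact (sub_eq_zero.1 h2').symm
  obtain ⟨r0, hr0, hr0q⟩ := hact v hv
  have hr01 : (r0 : ZMod p) ≠ 1 := by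
    intro e
    refine hvE ⟨hv, h.centralizes_of_commute Q (hScop v hv.1) hw hw1 ?_⟩
    have : w ^ r0 = w ^ (1 : ℤ) := by
      rw [PGroupsCyclic.zpow_eq_iff_dvd, hwo, ← ZMod.intCast_zmod_eq_zero_iff_dvd]
      push_cast
      rw [e, sub_self]
    rw [this, zpow_one] at hr0
    calc v * w = v * w * v⁻¹ * v := by group
      _ = w * v := by rw [hr0]
  have hr0o : orderOf (r0 : ZMod p) = q := orderOf_eq_prime hr0q hr01
  have hprim : IsPrimitiveRoot (r0 : ZMod p) q := hr0o ▸ IsPrimitiveRoot.orderOf _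
  have hr00 : (r0 : ZMod p) ≠ 0 := fun e => by
    rw [e, zero_pow hq.out.ne_zero] at hr0q; exact zero_ne_one hr0q
  have hqle : q ≤ p - 1 := by
    have h1 := orderOf_dvd_of_pow_eq_one (ZMod.pow_card_sub_one_eq_one hr00)
    rw [hr0o] at h1
    exact Nat.le_of_dvd (by have := hp.out.two_le; omega) h1
  have hVE : Nat.card V ≤ q * Nat.card E := by
    have h1 : Nat.card (Fin q × E) = q * Nat.card E := by rw [Nat.card_prod, Nat.card_fin]
    rw [← h1]
    refine Nat.card_le_card_of_surjective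
      (fun e : Fin q × E => (⟨v ^ (e.1 : ℕ) * e.2, mul_mem (pow_mem hv _) e.2.2.1⟩ : V)) ?_
    rintro ⟨x, hx⟩
    obtain ⟨r, hr, hrq⟩ := hact x hx
    obtain ⟨i, hi, hir⟩ := hprim.eq_pow_of_pow_eq_one hrq
    have hi' := PGroupsCyclic.conj_iterate hr0 i
    have hwr : w ^ (r0 ^ i) = w ^ r := by
      rw [PGroupsCyclic.zpow_eq_iff_dvd, hwo, ← ZMod.intCast_zmod_eq_zero_iff_dvd]
      push_cast
      rw [hir, sub_self]
    rw [hwr, ← hr] at hi'
    refine ⟨⟨⟨i, hi⟩, ⟨(v ^ i)⁻¹ * x, V.mul_mem (V.inv_mem (V.pow_mem hv i)) hx, ?_⟩⟩, Subtype.ext (by simp)⟩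
    refine h.centralizes_of_commute Q
      (hScop _ (mul_mem (inv_mem (pow_mem (hv.1 : v ∈ (S : Subgroup G)) i)) hx.1)) hw hw1 ?_
    calc (v ^ i)⁻¹ * x * w = (v ^ i)⁻¹ * (x * w * x⁻¹) * x := by group
      _ = (v ^ i)⁻¹ * (v ^ i * w * (v ^ i)⁻¹) * x := by rw [hi']
      _ = w * ((v ^ i)⁻¹ * x) := by group
  have hEq : Nat.card E = q := by
    refine le_antisymm (Nat.le_of_mul_le_mul_right (hsq.trans hVE) Nat.card_pos) ?_
    rw [← hc, ← Nat.card_zpowers]
    exact card_le_of_le hcE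
  have hEc : zpowers c = E :=
    eq_of_le_of_card_ge hcE (by rw [Nat.card_zpowers, hc, hEq])
  -- the lines through the conjugates of `c`
  let O := {y : G // ∃ g ∈ N, g * c * g⁻¹ = y}
  have hline : Nat.card O * (q - 1) + 1 ≤ Nat.card V := by
    let f : Option (O × Fin (q - 1)) → V := fun o => o.elim 1 fun e =>
      ⟨(e.1 : G) ^ ((e.2 : ℕ) + 1), pow_mem (by
        obtain ⟨g, hg, he⟩ := e.1.2
        exact he ▸ hVconj g hg c hcV) _⟩
    have hO : ∀ (y : O) (i : ℕ), (y : G) ^ i = 1 ↔ q ∣ i := by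
      intro y i
      obtain ⟨g, -, he⟩ := y.2
      rw [← orderOf_dvd_iff_pow_eq_one, ← he, ← MulAut.conj_apply, MulEquiv.orderOf_eq, hc]
    have hlt : ∀ i : Fin (q - 1), ¬ q ∣ (i : ℕ) + 1 := fun i hd => by
      have := Nat.le_of_dvd (Nat.succ_pos _) hd
      have := i.2
      omega
    have hf : Function.Injective f := by
      rintro (_ | ⟨y, i⟩) (_ | ⟨y', i'⟩) e
      · rfl
      · exact absurd ((hO y' _).1 (congrArg Subtype.val e).symm) (hlt i')
      · exact absurd ((hO y _).1 (congrArg Subtype.val e)) (hlt i)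
      · have e' : (y : G) ^ ((i : ℕ) + 1) = (y' : G) ^ ((i' : ℕ) + 1) := congrArg Subtype.val e
        have hyy : y = y' := by
          obtain ⟨g, hg, he⟩ := y.2
          obtain ⟨g', hg', he'⟩ := y'.2
          refine Subtype.ext ?_
          by_contra hne
          have hne' : g⁻¹ * g' * c * (g⁻¹ * g')⁻¹ ≠ c := fun e2 => hne (by
            rw [← he, ← he']
            calc g * c * g⁻¹ = g * (g⁻¹ * g' * c * (g⁻¹ * g')⁻¹) * g⁻¹ := by rw [e2]
              _ = g' * c * g'⁻¹ := by group)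
          refine hlt i ((hO y _).1 ?_)
          rw [← he, conj_pow, conj_eq_one_iff]
          refine hdisj _ (mul_mem (inv_mem hg) hg') hne' _
            (pow_mem (hcE (mem_zpowers c)) _) ?_
          rw [← he, ← he', conj_pow, conj_pow] at e'
          rw [show (g⁻¹ * g')⁻¹ * c ^ ((i : ℕ) + 1) * (g⁻¹ * g') =
            g'⁻¹ * (g * c ^ ((i : ℕ) + 1) * g⁻¹) * g' by group, e']
          simp only [mul_assoc, inv_mul_cancel_left, inv_mul_cancel, mul_one]
          exact pow_mem (hcE (mem_zpowers c)) _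
        subst hyy
        have hii : (i : ℕ) + 1 ≡ (i' : ℕ) + 1 [MOD q] := by
          have := pow_eq_pow_iff_modEq.1 e'
          obtain ⟨g, -, he⟩ := y.2
          rwa [← he, ← MulAut.conj_apply, MulEquiv.orderOf_eq, hc] at this
        have := i.2
        have := i'.2
        have h3 := Nat.ModEq.eq_of_lt_of_lt hii (by omega) (by omega)
        rw [show i = i' from Fin.ext (by omega)]
    have := Nat.card_le_card_of_injective f hf
    rwa [Finite.card_option, Nat.card_prod, Nat.card_fin] at this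
  rw [horb] at hline
  have hVq : Nat.card V ≤ q * q := hVE.trans (by rw [hEq])
  have hpk : p ≤ p ^ k := Nat.le_self_pow hk0 p
  have h2q := hq.out.two_le
  have hkq : p ^ k ≤ q + 1 := by
    by_contra hh
    push Not at hh
    have : (q + 2) * (q - 1) ≤ p ^ k * (q - 1) := Nat.mul_le_mul_right _ hh
    obtain ⟨m, rfl⟩ : ∃ m, q = m + 2 := ⟨q - 2, by omega⟩
    simp only [show m + 2 - 1 = m + 1 by omega] at *
    nlinarith
  have hq2 : q = 2 := by
    rcases hq.out.eq_two_or_odd' with e | e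
    · exact e
    · exfalso
      have hpo : Odd p := hp.out.odd_of_ne_two h.odd
      obtain ⟨a, ha⟩ := e
      obtain ⟨b, hb⟩ := hpo
      omega
  have hpk3 : p ^ k = 3 := by
    have h3 : 3 ≤ p := by have := hp.out.two_le; have := h.odd; omega
    omega
  refine ⟨hq2, fun x hxS hx => ?_, fun x hxS hx hxQ => ?_⟩
  · by_contra hnc
    have h4 : Nat.card V ≤ 4 := by subst hq2; omega
    let f : Option (Option O) → V := fun o => o.elim 1 fun o' => o'.elim
      ⟨x, hxS, hx ▸ pow_orderOf_eq_one x⟩ fun y => ⟨y, by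
        obtain ⟨g, hg, he⟩ := y.2
        exact he ▸ hVconj g hg c hcV⟩
    have hy1 : ∀ y : O, (y : G) ≠ 1 := by
      intro y e
      obtain ⟨g, -, he⟩ := y.2
      rw [e, conj_eq_one_iff] at he
      exact hc1 he
    have hx1 : x ≠ 1 := fun e => hq.out.one_lt.ne' (by rw [← hx, e, orderOf_one])
    have hyx : ∀ y : O, (y : G) ≠ x := by
      intro y e
      obtain ⟨g, -, he⟩ := y.2
      exact hnc (isConj_iff.2 ⟨g, he.trans e⟩)
    have hf : Function.Injective f := by
      rintro (_ | _ | y) (_ | _ | y') e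
      · rfl
      · exact absurd (congrArg Subtype.val e).symm hx1
      · exact absurd (congrArg Subtype.val e).symm (hy1 y')
      · exact absurd (congrArg Subtype.val e) hx1
      · rfl
      · exact absurd (congrArg Subtype.val e).symm (hyx y')
      · exact absurd (congrArg Subtype.val e) (hy1 y)
      · exact absurd (congrArg Subtype.val e) (hyx y)
      · have e2 : (y : G) = (y' : G) := congrArg (fun v : V => (v : G)) e
        rw [show y = y' from Subtype.ext e2]
    have h5 := Nat.card_le_card_of_injective f hf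
    rw [Finite.card_option, Finite.card_option, horb, hpk3] at h5
    omega
  · exact hEc ▸ ⟨⟨hxS, hx ▸ pow_orderOf_eq_one x⟩, hxQ⟩

/-- The group has even order. -/
theorem exists_invol : ∃ t : G, orderOf t = 2 := by
  by_contra hno
  push Not at hno
  have hodd : Odd (Nat.card G) := by
    rw [Nat.odd_iff, ← Nat.two_dvd_ne_zero]
    intro hd
    obtain ⟨t, ht⟩ := exists_prime_orderOf_dvd_card' 2 hd
    exact hno t ht
  have hnone : ∀ (Q : Sylow p G) (x : G), (orderOf x).Coprime p →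
      x ∈ centralizer ((Q : Subgroup G) : Set G) → x = 1 := by
    intro Q x hx hxQ
    by_contra hx1
    obtain ⟨q, hq, hqd⟩ := Nat.exists_prime_and_dvd
      (fun e => hx1 (orderOf_eq_one_iff.1 e) : orderOf x ≠ 1)
    have : Fact q.Prime := ⟨hq⟩
    set c := x ^ (orderOf x / q)
    have hc : orderOf c = q := orderOf_pow_orderOf_div (orderOf_pos x).ne' hqd
    have hqp : q ≠ p := fun e =>
      hp.out.one_lt.ne' ((hx.coprime_dvd_left (e ▸ hqd)) |> fun hh => by simpa using hh)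
    obtain ⟨S, hS⟩ := IsPGroup.exists_le_sylow
      (IsPGroup.of_card (show Nat.card (zpowers c) = q ^ 1 by rw [Nat.card_zpowers, hc, pow_one]))
    obtain ⟨h2, -, -⟩ := h.central_data hqp Q hc (pow_mem hxQ _) S (hS (mem_zpowers c))
    exact hno c (hc.trans h2)
  have hcw : ∀ (Q : Sylow p G) (w : G), w ∈ (Q : Subgroup G) → w ≠ 1 →
      centralizer ({w} : Set G) ≤ (Q : Subgroup G) := by
    intro Q w hw hw1 g hg
    obtain ⟨i, hi⟩ := exists_order_p_pow Q hw hw1
    have hgn : g ∈ nS Q := h.centralizer_le Q (pow_mem hw i) hi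
      (mem_centralizer_singleton_iff.2
        ((show Commute g w from mem_centralizer_singleton_iff.1 hg).pow_right i).eq)
    obtain ⟨a, ha⟩ := exists_pow_coprime (p := p) g
    refine mem_sylow_of_mem_normalizer Q (a := a) (hnone Q _ ha ?_) hgn
    exact h.centralizes_of_commute Q ha hw hw1
      ((show Commute g w from mem_centralizer_singleton_iff.1 hg).pow_left _).eq
  have hCA : ∀ x : G, x ≠ 1 → ∀ a ∈ centralizer ({x} : Set G),
      ∀ b ∈ centralizer ({x} : Set G), a * b = b * a := by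
    intro x hx
    by_cases hd : p ∣ Nat.card (centralizer ({x} : Set G))
    · obtain ⟨w, hw⟩ := exists_prime_orderOf_dvd_card' p hd
      have hwo : orderOf (w : G) = p := (orderOf_coe w).trans hw
      obtain ⟨Q, hQ⟩ := IsPGroup.exists_le_sylow (IsPGroup.of_card
        (show Nat.card (zpowers (w : G)) = p ^ 1 by rw [Nat.card_zpowers, hwo, pow_one]))
      have hxQ : x ∈ (Q : Subgroup G) := hcw Q w (hQ (mem_zpowers _))
        (fun e => hp.out.one_lt.ne' (by rw [← hwo, e, orderOf_one]))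
        (mem_centralizer_singleton_iff.2 (mem_centralizer_singleton_iff.1 w.2).symm)
      exact fun a ha b hb =>
        comm_of_isCyclic (h.cyc Q) a (hcw Q x hxQ hx ha) b (hcw Q x hxQ hx hb)
    · exact h.ab _ hd
  have hsol : Group.IsSolvable G := CNTheorem.isSolvable _ rfl hodd fun x hx =>
    CNBasic.isNilpotent_of_commute fun _ _ _ _ _ a b _ _ _ _ => Subtype.ext (hCA x hx a a.2 b b.2)
  obtain ⟨a, b, hab⟩ := h.noncomm
  have : Nontrivial G := ⟨a, b, fun e => hab (e ▸ rfl)⟩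
  rcases h.simple (commutator G) inferInstance with h1 | h1
  · exact hab (by
      have hcm := Subgroup.commutator_eq_bot_iff_le_centralizer.1 h1
      exact hcm (mem_top b) a (mem_top a))
  · exact (Group.IsSolvable.commutator_lt_top_of_nontrivial G).ne h1

end Hyp

end Cfsg.Agent.H74CyclicAb
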