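import Mathlib
import Cfsg.Agent.Lib.H74CyclicAbSimple

/-!
# The two involution configurations (for S4016)
-/

set_option autoImplicit false

namespace Cfsg.Agent.H74CyclicAb

open Subgroup
open scoped Pointwise

universe u

variable {G : Type u} [Group G] [Finite G] {p : ℕ} [hp : Fact p.Prime]

omit hp in
theorem mem_nS_iff {g : G} {Q : Sylow p G} : g ∈ nS Q ↔ g • Q = Q :=
  Sylow.smul_eq_iff_mem_normalizer.symm

omit [Finite G] hp in
theorem orderOf_mul_two {a b : G} (ha : orderOf a = 2) (hb : orderOf b = 2) (hab : a * b = b * a)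
    (hne : a * b ≠ 1) : orderOf (a * b) = 2 := by
  refine orderOf_eq_prime ?_ hne
  have ha' : a ^ 2 = 1 := ha ▸ pow_orderOf_eq_one a
  have hb' : b ^ 2 = 1 := hb ▸ pow_orderOf_eq_one b
  rw [(show Commute a b from hab).mul_pow, ha', hb', one_mul]

namespace Hyp

variable (h : Hyp G p)

include h

theorem coprime_two {t : G} (ht : orderOf t = 2) : (orderOf t).Coprime p :=
  coprime_of_orderOf_eq Nat.prime_two h.odd.symm ht

omit hp in
theorem exists_noncomm {t : G} (ht : orderOf t = 2) :
    ∃ g : G, t * (g * t * g⁻¹) ≠ (g * t * g⁻¹) * t := by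
  by_contra hno
  push Not at hno
  have ht1 : t ≠ 1 := fun e => by rw [e, orderOf_one] at ht; omega
  refine h.centralizer_ne_top ht1 (eq_top_iff.2 ?_)
  have hcl : normalClosure ({t} : Set G) = ⊤ := by
    refine (h.simple _ normalClosure_normal).resolve_left fun e => ht1 ?_
    exact mem_bot.1 (e ▸ subset_normalClosure (Set.mem_singleton t))
  rw [← hcl, normalClosure, closure_le]
  intro x hx
  obtain ⟨a, ha, hax⟩ := Group.mem_conjugatesOfSet_iff.1 hx
  obtain ⟨g, rfl⟩ := isConj_iff.1 hax
  rw [Set.mem_singleton_iff.1 ha]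
  exact mem_centralizer_singleton_iff.2 (hno g).symm

omit h hp in
theorem orderOf_conj' (g t : G) : orderOf (g * t * g⁻¹) = orderOf t := by
  rw [← MulAut.conj_apply, MulEquiv.orderOf_eq]

theorem exists_central_transport {z : G} {Q : Sylow p G}
    (hz : orderOf z = 2) (hzQ : z ∈ centralizer ((Q : Subgroup G) : Set G)) (R : Sylow p G) :
    ∃ x : G, orderOf x = 2 ∧ x ∈ centralizer ((R : Subgroup G) : Set G) := by
  obtain ⟨g, hg⟩ := MulAction.exists_smul_eq G Q R
  refine ⟨g * z * g⁻¹, (orderOf_conj' g z).trans hz, fun y hy => ?_⟩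
  rw [← hg] at hy
  change y ∈ ((MulAut.conj g • (Q : Subgroup G) : Subgroup G) : Set G) at hy
  rw [SetLike.mem_coe, Subgroup.mem_pointwise_smul_iff_inv_smul_mem] at hy
  have h1 := hzQ _ hy
  simp only [MulAut.smul_def, ← map_inv, MulAut.conj_apply, inv_inv] at h1
  calc y * (g * z * g⁻¹) = g * ((g⁻¹ * y * g) * z) * g⁻¹ := by group
    _ = g * (z * (g⁻¹ * y * g)) * g⁻¹ := by rw [h1]
    _ = g * z * g⁻¹ * y := by group

/-- No involution centralizes a Sylow `p`-subgroup: impossible. -/
theorem case_free (hno : ∀ (Q : Sylow p G) (x : G), orderOf x = 2 →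
    x ∉ centralizer ((Q : Subgroup G) : Set G)) : False := by
  classical
  obtain ⟨t, ht⟩ := h.exists_invol
  have htt : t * t = 1 := by rw [← pow_two, ← ht, pow_orderOf_eq_one]
  have hti : t⁻¹ = t := inv_of_orderOf_two ht
  have ht1 : t ≠ 1 := fun e => by rw [e, orderOf_one] at ht; omega
  have hA : ∀ x : G, orderOf x = 2 → ¬ p ∣ Nat.card (centralizer ({x} : Set G)) := by
    intro x hx hd
    obtain ⟨w, hw⟩ := exists_prime_orderOf_dvd_card' p hd
    have hwo : orderOf (w : G) = p := (orderOf_coe w).trans hw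
    obtain ⟨Q, hQ⟩ := IsPGroup.exists_le_sylow (IsPGroup.of_card
      (show Nat.card (zpowers (w : G)) = p ^ 1 by rw [Nat.card_zpowers, hwo, pow_one]))
    exact hno Q x hx (h.centralizes_of_commute Q (h.coprime_two hx) (hQ (mem_zpowers _))
      (fun e => hp.out.one_lt.ne' (by rw [← hwo, e, orderOf_one]))
      (mem_centralizer_singleton_iff.1 w.2).symm)
  have hinvall : ∀ (Q : Sylow p G) (x : G), orderOf x = 2 → x ∈ nS Q →
      ∀ y ∈ (Q : Subgroup G), x * y * x⁻¹ = y⁻¹ :=
    fun Q x hx hn => (h.invol_or Q hx hn).resolve_left (hno Q x hx)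
  -- two involutions of `N(Q)` differ by an element of `Q`
  have hdiff : ∀ (Q : Sylow p G) (a b : G), orderOf a = 2 → orderOf b = 2 → a ∈ nS Q → b ∈ nS Q →
      a * b ∈ (Q : Subgroup G) := by
    intro Q a b ha hb han hbn
    have hai := inv_of_orderOf_two ha
    have hbi := inv_of_orderOf_two hb
    set e := a * b
    have hen : e ∈ nS Q := mul_mem han hbn
    have hec : e ∈ centralizer ((Q : Subgroup G) : Set G) := by
      intro y hy
      have h1 := hinvall Q b hb hbn y hy
      have h2 := hinvall Q a ha han y⁻¹ (inv_mem hy)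
      rw [inv_inv] at h2
      have h3 : e * y * e⁻¹ = y := by
        calc e * y * e⁻¹ = a * (b * y * b⁻¹) * a⁻¹ := by simp only [e]; group
          _ = y := by rw [h1, h2]
      calc y * e = e * y * e⁻¹ * e := by rw [h3]
        _ = e * y := by group
    obtain ⟨k, hk⟩ := exists_pow_coprime (p := p) e
    set f := e ^ p ^ k
    have hbe : b * e * b⁻¹ = e⁻¹ := by
      simp only [e, mul_inv_rev, hai, hbi, mul_assoc]
      rw [show b * b = 1 by nth_rw 1 [← hbi]; exact inv_mul_cancel b, mul_one]
    have hfc : f ∈ centralizer ((Q : Subgroup G) : Set G) := pow_mem hec _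
    have hf : b * f * b⁻¹ = f⁻¹ := by rw [← conj_pow, hbe, inv_pow]
    have hbf : b * f = f * b := h.comm_nS Q hk hfc hbn
    rw [hbf, mul_inv_cancel_right] at hf
    have hf1 : f = 1 := by
      by_contra hne
      exact hno Q f (orderOf_eq_prime (by rw [pow_two]; exact mul_eq_one_iff_eq_inv.2 hf) hne) hfc
    exact mem_sylow_of_mem_normalizer Q (a := k) hf1 hen
  -- one class
  have hconj : ∀ a b : G, orderOf a = 2 → orderOf b = 2 → a * b ≠ b * a → IsConj a b := by
    intro a b ha hb hab
    obtain ⟨Q, w, -, -, -, han, hbn, -, -⟩ := h.noncomm_pair ha hb hab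
    have hq := hdiff Q b a hb ha hbn han
    obtain ⟨σ, hσ, hσσ⟩ := exists_sq_root (q := b * a) (by
      obtain ⟨k, hk⟩ := IsPGroup.iff_card.1 Q.2
      exact (hp.out.odd_of_ne_two h.odd).pow.of_dvd_nat
        (hk ▸ (orderOf_mk _ hq ▸ orderOf_dvd_natCard (⟨b * a, hq⟩ : Q)) : orderOf (b * a) ∣ p ^ k))
    have hσQ : σ ∈ (Q : Subgroup G) := zpowers_le.2 hq hσ
    have h1 := hinvall Q a ha han σ⁻¹ (inv_mem hσQ)
    rw [inv_inv] at h1
    refine isConj_iff.2 ⟨σ, ?_⟩
    calc σ * a * σ⁻¹ = σ * (a * σ⁻¹ * a⁻¹) * a := by group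
      _ = b := by rw [h1, hσσ, mul_assoc, ← pow_two, ← ha, pow_orderOf_eq_one, mul_one]
  have hclass : ∀ s : G, orderOf s = 2 → IsConj t s := by
    intro s hs
    by_contra hnc
    have hs1 : s ≠ 1 := fun e => by rw [e, orderOf_one] at hs; omega
    refine h.centralizer_ne_top hs1 (eq_top_iff.2 ?_)
    have hcl : normalClosure ({t} : Set G) = ⊤ := by
      refine (h.simple _ normalClosure_normal).resolve_left fun e => ht1 ?_
      exact mem_bot.1 (e ▸ subset_normalClosure (Set.mem_singleton t))
    rw [← hcl, normalClosure, closure_le]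
    intro x hx
    obtain ⟨a, ha, hax⟩ := Group.mem_conjugatesOfSet_iff.1 hx
    rw [Set.mem_singleton_iff.1 ha] at hax
    refine mem_centralizer_singleton_iff.2 (by_contra fun hne => hnc ?_)
    obtain ⟨g, hg⟩ := isConj_iff.1 hax
    exact hax.trans (hconj x s (by rw [← hg, orderOf_conj', ht]) hs hne)
  set A := centralizer ({t} : Set G)
  have hAd := hA t ht
  have hAc := h.ab A hAd
  -- the Sylow subgroups normalized by `t`
  let K := {Q : Sylow p G // t ∈ nS Q}
  let Nt := {s : G // orderOf s = 2 ∧ s * t ≠ t * s}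
  have hq2 : ∀ (Q : K) (q : G), q ∈ (Q.1 : Subgroup G) → q ≠ 1 →
      orderOf (q * t) = 2 ∧ (q * t) * t ≠ t * (q * t) := by
    intro Q q hq hq1
    have h1 := hinvall Q.1 t ht Q.2 q hq
    rw [hti] at h1
    refine ⟨orderOf_eq_prime ?_ ?_, fun e => hq1 ?_⟩
    · rw [pow_two, show q * t * (q * t) = q * (t * q * t) by group, h1, mul_inv_cancel]
    · intro e
      rw [mul_eq_one_iff_eq_inv, hti] at e
      exact ht1 (orderOf_ne_two h.odd (e ▸ hq : t ∈ (Q.1 : Subgroup G)) htt)
    · rw [mul_assoc q, htt, mul_one, ← mul_assoc, h1] at e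
      exact orderOf_ne_two h.odd hq (mul_eq_one_iff_eq_inv.2 e)
  let F : (Σ Q : K, {q : (Q.1 : Subgroup G) // q ≠ 1}) → Nt := fun e =>
    ⟨(e.2.1 : G) * t, hq2 e.1 _ e.2.1.2 fun c => e.2.2 (Subtype.ext c)⟩
  have hF : Function.Bijective F := by
    constructor
    · rintro ⟨Q, ⟨⟨q, hq⟩, hq1⟩⟩ ⟨Q', ⟨⟨q', hq'⟩, hq1'⟩⟩ e
      have e' : q * t = q' * t := congrArg Subtype.val e
      rw [mul_left_inj] at e'
      subst e'
      have : Q = Q' := Subtype.ext (h.sylow_unique Q.1 Q'.1 hq hq' fun c => hq1 (Subtype.ext c))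
      subst this
      rfl
    · rintro ⟨s, hs, hst⟩
      obtain ⟨Q, w, -, -, -, hsn, htn, -, -⟩ := h.noncomm_pair hs ht hst
      have hq := hdiff Q s t hs ht hsn htn
      refine ⟨⟨⟨Q, htn⟩, ⟨⟨s * t, hq⟩, fun e => hst ?_⟩⟩, Subtype.ext ?_⟩
      · have : s = t := by
          have e' : s * t = 1 := congrArg Subtype.val e
          rw [mul_eq_one_iff_eq_inv, hti] at e'
          exact e'
        rw [this]
      · show s * t * t = s
        rw [mul_assoc, htt, mul_one]
  obtain ⟨Q0⟩ : Nonempty (Sylow p G) := inferInstance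
  set P := Nat.card (Q0 : Subgroup G) with hP
  have : Fintype (Sylow p G) := Fintype.ofFinite _
  have hNt : Nat.card Nt = Nat.card K * (P - 1) := by
    rw [← Nat.card_congr (Equiv.ofBijective F hF), Nat.card_sigma]
    rw [Finset.sum_congr rfl (g := fun _ => P - 1) (fun Q _ => ?_), Finset.sum_const,
      Finset.card_univ, smul_eq_mul, Nat.card_eq_fintype_card]
    have h1 : Nat.card (Q.1 : Subgroup G) =
        Nat.card {q : (Q.1 : Subgroup G) // q = 1} + Nat.card {q : (Q.1 : Subgroup G) // q ≠ 1} := by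
      rw [← Nat.card_sum, Nat.card_congr (Equiv.sumCompl _)]
    rw [show Nat.card {q : (Q.1 : Subgroup G) // q = 1} = 1 by simp] at h1
    rw [hP, Sylow.card_eq_multiplicity, ← Sylow.card_eq_multiplicity Q.1, h1]
    omega
  -- `K` is a `C(t)`-orbit
  have hKne : Nonempty K := by
    obtain ⟨g, hg⟩ := h.exists_noncomm ht
    obtain ⟨Q, -, -, -, -, htn, -, -, -⟩ :=
      h.noncomm_pair ht ((orderOf_conj' g t).trans ht) hg
    exact ⟨⟨Q, htn⟩⟩
  obtain ⟨Q1⟩ := hKne
  have hKA : Nat.card K ∣ Nat.card A := by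
    have horb : MulAction.orbit A Q1.1 = {Q : Sylow p G | t ∈ nS Q} := by
      ext Q
      constructor
      · rintro ⟨⟨a, ha⟩, rfl⟩
        show t ∈ nS (a • Q1.1)
        rw [mem_nS_iff, ← mul_smul,
          show t * a = a * t from (mem_centralizer_singleton_iff.1 ha).symm, mul_smul,
          mem_nS_iff.1 Q1.2]
      · intro hQ
        obtain ⟨g, rfl⟩ := MulAction.exists_smul_eq G Q1.1 Q
        have hg : g⁻¹ * t * g ∈ nS Q1.1 := by
          rw [mem_nS_iff, mul_smul, mul_smul,
            mem_nS_iff.1 hQ, inv_smul_smul]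
        have hto : orderOf (g⁻¹ * t * g) = 2 := by
          have := orderOf_conj' g⁻¹ t
          rw [inv_inv] at this
          exact this.trans ht
        have hq := hdiff Q1.1 _ t hto ht hg Q1.2
        obtain ⟨σ, hσ, hσσ⟩ := exists_sq_root (q := g⁻¹ * t * g * t) (by
          obtain ⟨k, hk⟩ := IsPGroup.iff_card.1 Q1.1.2
          exact (hp.out.odd_of_ne_two h.odd).pow.of_dvd_nat
            (hk ▸ (orderOf_mk _ hq ▸ orderOf_dvd_natCard (⟨_, hq⟩ : Q1.1)) :
              orderOf (g⁻¹ * t * g * t) ∣ p ^ k))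
        have hσQ : σ ∈ (Q1.1 : Subgroup G) := zpowers_le.2 hq hσ
        have h1 := hinvall Q1.1 t ht Q1.2 σ⁻¹ (inv_mem hσQ)
        rw [inv_inv] at h1
        have h2 : σ * t * σ⁻¹ = g⁻¹ * t * g := by
          calc σ * t * σ⁻¹ = σ * (t * σ⁻¹ * t⁻¹) * t := by group
            _ = _ := by rw [h1, hσσ, mul_assoc, htt, mul_one]
        refine ⟨⟨g * σ, mem_centralizer_singleton_iff.2 ?_⟩, ?_⟩
        · calc g * σ * t = g * (σ * t * σ⁻¹) * σ := by group
            _ = t * (g * σ) := by rw [h2]; group
        · show (g * σ) • Q1.1 = g • Q1.1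
          rw [mul_smul, mem_nS_iff.1 (le_nS Q1.1 hσQ)]
    have h1 : Nat.card K = Nat.card (MulAction.orbit A Q1.1) :=
      Nat.card_congr (Equiv.setCongr horb).symm
    rw [h1]
    exact Nat.card_congr (MulAction.orbitEquivQuotientStabilizer A Q1.1) ▸
      Subgroup.card_quotient_dvd_card _
  -- commuting involutions
  have hAN : A ≤ normalizer (A : Set G) := le_normalizer
  let Ct := {s : G // orderOf s = 2 ∧ s * t = t * s}
  have hN' : ∀ y ∈ normalizer (A : Set G), (orderOf y).Coprime p → y ∈ A := fun y hy hyc =>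
    mem_centralizer_singleton_iff.2 (h.ab _ (not_dvd_card_sup_zpowers hAd hyc hy) y
      (le_sup_right (α := Subgroup G) (mem_zpowers y)) t
      (le_sup_left (α := Subgroup G) (mem_centralizer_singleton_iff.2 rfl)))
  obtain ⟨k, hk⟩ := exists_relIndex_eq_pow le_rfl hN'
  have hCt : Nat.card Ct = p ^ k := by
    have h1 := card_conj_mul (normalizer (A : Set G)) t
    rw [inf_eq_right.2 hAN] at h1
    have h2 : Nat.card A * p ^ k = Nat.card (normalizer (A : Set G)) := by
      rw [← hk, ← Nat.card_congr (subgroupOfEquivOfLe hAN).toEquiv]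
      exact card_mul_index (A.subgroupOf _)
    rw [← h2, mul_comm] at h1
    rw [← Nat.eq_of_mul_eq_mul_left Nat.card_pos h1]
    refine Nat.card_congr (Equiv.subtypeEquivRight fun y => ⟨?_, ?_⟩)
    · rintro ⟨hy, hyt⟩
      obtain ⟨g, hg⟩ := isConj_iff.1 (hclass y hy)
      refine ⟨g, ?_, hg⟩
      have hyA : y ∈ A := mem_centralizer_singleton_iff.2 hyt
      have hle : A ≤ centralizer ({y} : Set G) := fun a ha =>
        mem_centralizer_singleton_iff.2 (hAc a ha y hyA)
      have hmap : A.map (MulAut.conj g).toMonoidHom = centralizer ({y} : Set G) := by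
        ext x
        constructor
        · rintro ⟨a, ha, rfl⟩
          rw [mem_centralizer_singleton_iff, ← hg]
          show g * a * g⁻¹ * (g * t * g⁻¹) = g * t * g⁻¹ * (g * a * g⁻¹)
          calc g * a * g⁻¹ * (g * t * g⁻¹) = g * (a * t) * g⁻¹ := by group
            _ = g * (t * a) * g⁻¹ := by rw [mem_centralizer_singleton_iff.1 ha]
            _ = _ := by group
        · intro hx
          refine ⟨g⁻¹ * x * g, mem_centralizer_singleton_iff.2 ?_, by simp [mul_assoc]⟩
          have h3 := mem_centralizer_singleton_iff.1 hx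
          rw [← hg] at h3
          calc g⁻¹ * x * g * t = g⁻¹ * (x * (g * t * g⁻¹)) * g := by group
            _ = g⁻¹ * ((g * t * g⁻¹) * x) * g := by rw [h3]
            _ = _ := by group
      have heq : A = centralizer ({y} : Set G) := eq_of_le_of_card_ge hle (by
        rw [← hmap, card_map_of_injective (MulAut.conj g).injective])
      refine mem_normalizer_of_conj fun x hx => ?_
      rw [heq, ← hmap]
      exact ⟨x, hx, rfl⟩
    · rintro ⟨g, hg, rfl⟩
      refine ⟨(orderOf_conj' g t).trans ht, mem_centralizer_singleton_iff.1 ?_⟩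
      exact (Subgroup.mem_normalizer_iff.1 hg t).1 (mem_centralizer_singleton_iff.2 rfl)
  rcases Nat.eq_zero_or_pos k with hk0 | hk0
  · -- a single commuting involution
    rw [hk0, pow_zero] at hCt
    obtain ⟨S, hS⟩ := IsPGroup.exists_le_sylow (p := 2)
      (IsPGroup.of_card (show Nat.card (zpowers t) = 2 ^ 1 by rw [Nat.card_zpowers, ht, pow_one]))
    have htS : t ∈ (S : Subgroup G) := hS (mem_zpowers t)
    have hSab := h.ab (S : Subgroup G) fun hd => by
      obtain ⟨j, hj⟩ := IsPGroup.iff_card.1 S.2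
      rw [hj] at hd
      exact h.odd ((Nat.prime_dvd_prime_iff_eq hp.out Nat.prime_two).1 (hp.out.dvd_of_dvd_pow hd))
    have hSA : (S : Subgroup G) ≤ A := fun x hx =>
      mem_centralizer_singleton_iff.2 (hSab x hx t htS)
    refine h.burnside_false (r := 2) (ht ▸ orderOf_dvd_natCard t) S fun g hg => ?_
    have hgt : g * t * g⁻¹ ∈ A := hSA ((Subgroup.mem_normalizer_iff.1 hg t).1 htS)
    have : (⟨g * t * g⁻¹, (orderOf_conj' g t).trans ht, mem_centralizer_singleton_iff.1 hgt⟩ : Ct) =
        ⟨t, ht, rfl⟩ := (Nat.card_eq_one_iff_unique.1 hCt).1.elim _ _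
    have e : g * t * g⁻¹ = t := congrArg Subtype.val this
    have hgA : g ∈ A := mem_centralizer_singleton_iff.2 (by
      calc g * t = g * t * g⁻¹ * g := by group
        _ = t * g := by rw [e])
    exact fun s hs => hAc s (hSA hs) g hgA
  · -- count modulo `p`
    let I := {s : G // orderOf s = 2}
    have hI : Nat.card I = Nat.card Ct + Nat.card Nt := by
      rw [← Nat.card_sum]
      exact Nat.card_congr ((Equiv.sumCompl fun s : I => (s : G) * t = t * s).symm.trans
        (Equiv.sumCongr (Equiv.subtypeSubtypeEquivSubtypeInter (fun s : G => orderOf s = 2)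
          (fun s => s * t = t * s))
          (Equiv.subtypeSubtypeEquivSubtypeInter (fun s : G => orderOf s = 2)
          (fun s => ¬ s * t = t * s))))
    have hiA : Nat.card I * Nat.card A = Nat.card G := by
      have h1 := card_conj_mul (⊤ : Subgroup G) t
      rw [top_inf_eq, card_top] at h1
      rw [← h1]
      congr 1
      refine Nat.card_congr (Equiv.subtypeEquivRight fun y => ⟨fun hy => ?_, ?_⟩)
      · obtain ⟨g, hg⟩ := isConj_iff.1 (hclass y hy)
        exact ⟨g, trivial, hg⟩
      · rintro ⟨g, -, rfl⟩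
        exact (orderOf_conj' g t).trans ht
    have hpI : p ∣ Nat.card I := by
      have := h.dvd_card
      rw [← hiA] at this
      exact (hp.out.dvd_mul.1 this).resolve_right hAd
    have hpP : p ∣ P := Q0.dvd_card_of_dvd_card h.dvd_card
    rw [hI, hCt, hNt] at hpI
    have h2 : p ∣ Nat.card K * (P - 1) := (Nat.dvd_add_right (dvd_pow_self p hk0.ne')).1 hpI
    rcases hp.out.dvd_mul.1 h2 with h3 | h3
    · exact hAd (h3.trans hKA)
    · have hP1 : 1 ≤ P := Nat.card_pos
      have := Nat.dvd_sub hpP h3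
      rw [show P - (P - 1) = 1 by omega] at this
      exact hp.out.one_lt.ne' (Nat.dvd_one.1 this)

/-- Some involution centralizes a Sylow `p`-subgroup: impossible. -/
theorem case_central {z : G} {Q : Sylow p G} (hz : orderOf z = 2)
    (hzQ : z ∈ centralizer ((Q : Subgroup G) : Set G)) : False := by
  classical
  have hall : ∀ R : Sylow p G, ∃ x : G, orderOf x = 2 ∧
      x ∈ centralizer ((R : Subgroup G) : Set G) := h.exists_central_transport hz hzQ
  have hsylow : ∀ x : G, orderOf x = 2 → ∃ S : Sylow 2 G, x ∈ (S : Subgroup G) := fun x hx => by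
    obtain ⟨S, hS⟩ := IsPGroup.exists_le_sylow (p := 2)
      (IsPGroup.of_card (show Nat.card (zpowers x) = 2 ^ 1 by rw [Nat.card_zpowers, hx, pow_one]))
    exact ⟨S, hS (mem_zpowers x)⟩
  have huniq : ∀ (R : Sylow p G) (x y : G), orderOf x = 2 → orderOf y = 2 →
      x ∈ centralizer ((R : Subgroup G) : Set G) → y ∈ centralizer ((R : Subgroup G) : Set G) →
      x = y := by
    intro R x y hx hy hxR hyR
    have hxy : y * x = x * y := h.comm_nS R (h.coprime_two hx) hxR (centralizer_le_nS R hyR)
    have hle : zpowers y ≤ normalizer (zpowers x : Set G) := zpowers_le.2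
      (mem_normalizer_of_conj fun g hg => by
        obtain ⟨i, rfl⟩ := mem_zpowers_iff.1 hg
        rw [← conj_zpow, hxy, mul_inv_cancel_right]
        exact zpow_mem (mem_zpowers x) i)
    have h2 : IsPGroup 2 (zpowers y ⊔ zpowers x : Subgroup G) :=
      (IsPGroup.of_card (show Nat.card (zpowers y) = 2 ^ 1 by rw [Nat.card_zpowers, hy, pow_one])
        ).to_sup_of_normal_right'
      (IsPGroup.of_card (show Nat.card (zpowers x) = 2 ^ 1 by rw [Nat.card_zpowers, hx, pow_one]))
        hle
    obtain ⟨S, hS⟩ := h2.exists_le_sylow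
    obtain ⟨-, -, h3⟩ := h.central_data h.odd.symm R hx hxR S
      (hS (le_sup_right (α := Subgroup G) (mem_zpowers x)))
    have h4 := h3 y (hS (le_sup_left (α := Subgroup G) (mem_zpowers y))) hy hyR
    rw [mem_zpowers_iff_mem_range_orderOf, Finset.mem_image] at h4
    obtain ⟨i, hi, hiy⟩ := h4
    rw [Finset.mem_range, hx] at hi
    interval_cases i
    · rw [pow_zero] at hiy
      rw [← hiy, orderOf_one] at hy; omega
    · rwa [pow_one] at hiy
  have hclass : ∀ x : G, orderOf x = 2 → IsConj z x := by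
    intro x hx
    obtain ⟨S, hzS⟩ := hsylow z hz
    obtain ⟨T, hxT⟩ := hsylow x hx
    obtain ⟨g, hg⟩ := MulAction.exists_smul_eq G S T
    rw [← hg] at hxT
    change x ∈ (MulAut.conj g • (S : Subgroup G) : Subgroup G) at hxT
    rw [Subgroup.mem_pointwise_smul_iff_inv_smul_mem] at hxT
    simp only [MulAut.smul_def, ← map_inv, MulAut.conj_apply, inv_inv] at hxT
    obtain ⟨-, h2, -⟩ := h.central_data h.odd.symm Q hz hzQ S hzS
    have ho : orderOf (g⁻¹ * x * g) = 2 := by
      have := orderOf_conj' g⁻¹ x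
      rw [inv_inv] at this
      exact this.trans hx
    exact (h2 _ hxT ho).trans (isConj_iff.2 ⟨g, by group⟩)
  have hcen : ∀ x : G, orderOf x = 2 →
      ∃ R : Sylow p G, x ∈ centralizer ((R : Subgroup G) : Set G) := by
    intro x hx
    obtain ⟨g, hg⟩ := isConj_iff.1 (hclass x hx)
    refine ⟨g • Q, fun y hy => ?_⟩
    change y ∈ ((MulAut.conj g • (Q : Subgroup G) : Subgroup G) : Set G) at hy
    rw [SetLike.mem_coe, Subgroup.mem_pointwise_smul_iff_inv_smul_mem] at hy
    have h1 := hzQ _ hy
    simp only [MulAut.smul_def, ← map_inv, MulAut.conj_apply, inv_inv] at h1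
    rw [← hg]
    calc y * (g * z * g⁻¹) = g * ((g⁻¹ * y * g) * z) * g⁻¹ := by group
      _ = g * (z * (g⁻¹ * y * g)) * g⁻¹ := by rw [h1]
      _ = g * z * g⁻¹ * y := by group
  -- the commuting graph
  let V := {x : G // orderOf x = 2}
  let adj : V → V → Prop := fun a b => a ≠ b ∧ (a : G) * b = b * a
  have hsymm : ∀ a b, adj a b → adj b a := fun a b e => ⟨e.1.symm, e.2.symm⟩
  have hcommon : ∀ a b : V, a ≠ b → ∃! x, adj a x ∧ adj x b := by
    intro a b hab
    by_cases hc : (a : G) * b = b * a
    · -- commuting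
      have hab1 : (a : G) * b ≠ 1 := fun e => hab (Subtype.ext (by
        rw [mul_eq_one_iff_eq_inv, inv_of_orderOf_two b.2] at e; exact e))
      have hab2 : orderOf ((a : G) * b) = 2 := orderOf_mul_two a.2 b.2 hc hab1
      refine ⟨⟨_, hab2⟩, ⟨⟨fun e => ?_, ?_⟩, ⟨fun e => ?_, ?_⟩⟩, ?_⟩
      · have e' : (a : G) = a * b := congrArg Subtype.val e
        have := left_eq_mul.1 e'
        exact absurd b.2 (by rw [this, orderOf_one]; decide)
      · exact ((Commute.refl (a : G)).mul_right hc).eq
      · have e' : (a : G) * b = b := congrArg Subtype.val e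
        have := mul_eq_right.1 e'
        exact absurd a.2 (by rw [this, orderOf_one]; decide)
      · exact ((show Commute (a : G) b from hc).mul_left (Commute.refl (b : G))).eq
      · rintro x ⟨⟨hax, haxc⟩, ⟨hxb, hxbc⟩⟩
        obtain ⟨R, hR⟩ := hcen a a.2
        have hnS : ∀ y : V, (a : G) * y = y * a → (y : G) ∈ nS R := fun y e =>
          h.centralizer_eq_nS R (h.coprime_two a.2) hR (fun c => by
            have := a.2; rw [c, orderOf_one] at this; omega) ▸
            mem_centralizer_singleton_iff.2 e.symm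
        have hinv : ∀ y : V, a ≠ y → (a : G) * y = y * a →
            ∀ q ∈ (R : Subgroup G), (y : G) * q * (y : G)⁻¹ = q⁻¹ := fun y hne e =>
          (h.invol_or R y.2 (hnS y e)).resolve_left fun hh =>
            hne (Subtype.ext (huniq R _ _ a.2 y.2 hR hh))
        have hx := hinv x hax haxc
        have hb := hinv b hab hc
        have hxy : (x : G) * b ∈ centralizer ((R : Subgroup G) : Set G) := by
          intro q hq
          have h1 := hx q⁻¹ (inv_mem hq)
          rw [inv_inv] at h1
          have h2 := hb q hq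
          calc q * ((x : G) * b) = (x : G) * q⁻¹ * (x : G)⁻¹ * (x * b) := by rw [h1]
            _ = (x : G) * q⁻¹ * b := by group
            _ = (x : G) * ((b : G) * q * (b : G)⁻¹) * b := by rw [h2]
            _ = (x : G) * b * q := by group
        have hxb1 : (x : G) * b ≠ 1 := fun e => hxb (Subtype.ext (by
          rw [mul_eq_one_iff_eq_inv, inv_of_orderOf_two b.2] at e; exact e))
        have hxb2 : orderOf ((x : G) * b) = 2 := orderOf_mul_two x.2 b.2 hxbc hxb1
        have := huniq R _ _ hxb2 a.2 hxy hR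
        refine Subtype.ext ?_
        show (x : G) = a * b
        rw [← this, mul_assoc, show (b : G) * b = 1 by
          nth_rw 1 [← inv_of_orderOf_two b.2]; exact inv_mul_cancel _, mul_one]
    · obtain ⟨R, w, hwR, hwo, hwz, han, hbn, hac, hbc⟩ := h.noncomm_pair a.2 b.2 hc
      obtain ⟨x, hx, hxR⟩ := hall R
      have hxa := h.comm_nS R (h.coprime_two hx) hxR han
      have hxb := h.comm_nS R (h.coprime_two hx) hxR hbn
      refine ⟨⟨x, hx⟩, ⟨⟨fun e => hac ?_, hxa⟩, ⟨fun e => hbc ?_, hxb.symm⟩⟩, ?_⟩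
      · rw [show (a : G) = x from congrArg Subtype.val e]; exact hxR
      · rw [show (b : G) = x from congrArg Subtype.val e.symm]; exact hxR
      · rintro y ⟨⟨-, hya⟩, ⟨-, hyb⟩⟩
        refine Subtype.ext (huniq R _ _ y.2 hx ?_ hxR)
        refine h.centralizes_of_commute R (h.coprime_two y.2) hwR
          (fun e => hp.out.one_lt.ne' (by rw [← hwo, e, orderOf_one])) ?_
        obtain ⟨i, rfl⟩ := mem_zpowers_iff.1 hwz
        exact (((show Commute (y : G) b from hyb).mul_right
          (show Commute (y : G) a from hya.symm)).zpow_right i).eq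
  -- regularity
  let z' : V := ⟨z, hz⟩
  set n := Nat.card {x : V // adj z' x}
  have hdeg : ∀ a : V, Nat.card {x : V // adj a x} = n := by
    intro a
    obtain ⟨g, hg⟩ := isConj_iff.1 (hclass a a.2)
    let e : V ≃ V := (MulAut.conj g).toEquiv.subtypeEquiv fun x => by
      show orderOf x = 2 ↔ orderOf ((MulAut.conj g) x) = 2
      rw [MulEquiv.orderOf_eq]
    refine (Nat.card_congr (e.subtypeEquiv fun x => ?_)).symm
    show adj z' x ↔ adj a (e x)
    have ha : a = e z' := Subtype.ext hg.symm
    rw [ha]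
    refine and_congr (e.injective.ne_iff).symm ?_
    show z * (x : G) = x * z ↔ g * z * g⁻¹ * (g * x * g⁻¹) = g * x * g⁻¹ * (g * z * g⁻¹)
    constructor
    · intro e'
      rw [show g * z * g⁻¹ * (g * x * g⁻¹) = g * (z * x) * g⁻¹ by group, e']
      group
    · intro e'
      rw [show g * z * g⁻¹ * (g * x * g⁻¹) = g * (z * x) * g⁻¹ by group,
        show g * x * g⁻¹ * (g * z * g⁻¹) = g * (x * z) * g⁻¹ by group] at e'
      exact mul_left_cancel (mul_right_cancel e')
  have hn3 : 3 ≤ n := by
    obtain ⟨g, hg⟩ := h.exists_noncomm hz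
    obtain ⟨R, -, -, -, -, han, -, hac, -⟩ :=
      h.noncomm_pair hz ((orderOf_conj' g z).trans hz) hg
    obtain ⟨x, hx, hxR⟩ := hall R
    have hzx : z * x = x * z := h.comm_nS R (h.coprime_two hx) hxR han
    have hzne : x ≠ z := fun e => hac (e ▸ hxR)
    have hxn : x ∈ nS Q := h.centralizer_eq_nS Q (h.coprime_two hz) hzQ (fun e => by
      rw [e, orderOf_one] at hz; omega) ▸ mem_centralizer_singleton_iff.2 hzx.symm
    have hinv := (h.invol_or Q hx hxn).resolve_left fun hh => hzne (huniq Q _ _ hx hz hh hzQ)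
    obtain ⟨w, hw, hwo⟩ := h.exists_order_p Q
    have hwz : w * z = z * w := hzQ w hw
    have hxx : x * x = 1 := by rw [← pow_two, ← hx, pow_orderOf_eq_one]
    have hxi := inv_of_orderOf_two hx
    have hzz : z * z = 1 := by rw [← pow_two, ← hz, pow_orderOf_eq_one]
    have hxw : x * w * x = w⁻¹ := by nth_rw 2 [← hxi]; exact hinv w hw
    have hw2 : w * x * w⁻¹ = w * w * x := by
      calc w * x * w⁻¹ = w * (x * (x * w * x)) := by rw [hxw]; group
        _ = w * w * x := by rw [← mul_assoc x, ← mul_assoc x, hxx, one_mul, mul_assoc]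
    have hww : w * w ≠ 1 := fun e => by
      have := orderOf_ne_two h.odd hw e
      rw [this, orderOf_one] at hwo
      exact hp.out.one_lt.ne hwo
    have o2 : orderOf (z * x) = 2 := by
      refine orderOf_mul_two hz hx hzx fun e => hzne ?_
      rw [mul_eq_one_iff_eq_inv, hxi] at e; exact e.symm
    have o3 : orderOf (w * x * w⁻¹) = 2 := (orderOf_conj' w x).trans hx
    let f : Fin 3 → {v : V // adj z' v} := ![⟨⟨x, hx⟩, fun e => hzne (congrArg Subtype.val e).symm, hzx⟩,
      ⟨⟨z * x, o2⟩, fun e => by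
        have e' : z = z * x := congrArg Subtype.val e
        have := left_eq_mul.1 e'
        rw [this, orderOf_one] at hx; omega,
        ((Commute.refl z).mul_right hzx).eq⟩,
      ⟨⟨w * x * w⁻¹, o3⟩, fun e => by
        have e' : z = w * x * w⁻¹ := congrArg Subtype.val e
        refine hzne ?_
        calc x = w⁻¹ * (w * x * w⁻¹) * w := by group
          _ = w⁻¹ * (w * z) := by rw [← e', hwz]; group
          _ = z := by group,
        (((show Commute z w from hwz.symm).mul_right hzx).mul_right
          (show Commute z w from hwz.symm).inv_right).eq⟩]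
    have hv : ∀ i, ((f i).1 : G) = ![x, z * x, w * x * w⁻¹] i := by
      intro i; fin_cases i <;> rfl
    have hf : Function.Injective f := by
      intro i j e
      have e' : ![x, z * x, w * x * w⁻¹] i = ![x, z * x, w * x * w⁻¹] j := by
        rw [← hv, ← hv, e]
      have d1 : x ≠ z * x := fun e => by
        have := right_eq_mul.1 e; rw [this, orderOf_one] at hz; omega
      have d2 : x ≠ w * x * w⁻¹ := fun e => hww (by
        rw [hw2] at e; exact right_eq_mul.1 e)
      have d3 : z * x ≠ w * x * w⁻¹ := fun e => hzne (by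
        rw [hw2, mul_left_inj] at e
        exact absurd (orderOf_ne_two h.odd (e ▸ mul_mem hw hw : z ∈ (Q : Subgroup G)) hzz)
          (fun c => by rw [c, orderOf_one] at hz; omega))
      revert e'
      fin_cases i <;> fin_cases j <;> intro e' <;>
        first | rfl | exact absurd e' d1 | exact absurd e' d2 | exact absurd e' d3 | exact absurd e'.symm d1 | exact absurd e'.symm d2 | exact absurd e'.symm d3
    simpa [n] using Nat.card_le_card_of_injective f hf
  -- the adjacency matrix modulo a prime dividing `n - 1`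
  obtain ⟨q, hq, hqd⟩ := Nat.exists_prime_and_dvd (show n - 1 ≠ 1 by omega)
  have : Fact q.Prime := ⟨hq⟩
  have hn1 : (n : ZMod q) = 1 := by
    have h1 : ((n - 1 : ℕ) : ZMod q) = 0 := (CharP.cast_eq_zero_iff (ZMod q) q _).2 hqd
    rw [Nat.cast_sub (by omega), Nat.cast_one, sub_eq_zero] at h1
    exact h1
  have : Fintype V := Fintype.ofFinite V
  let A : Matrix V V (ZMod q) := fun a b => if adj a b then 1 else 0
  let J : Matrix V V (ZMod q) := fun _ _ => 1
  have hA2 : A * A = J := by
    ext a b
    have h1 : ∀ x, A a x * A x b = if adj a x ∧ adj x b then 1 else 0 := by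
      intro x
      by_cases h1 : adj a x <;> by_cases h2 : adj x b <;> simp [A, h1, h2]
    rw [Matrix.mul_apply, Finset.sum_congr rfl fun x _ => h1 x, Finset.sum_boole]
    show _ = (1 : ZMod q)
    by_cases hab : a = b
    · subst hab
      rw [← hn1]
      congr 1
      rw [← hdeg a, Nat.card_eq_fintype_card, Fintype.card_subtype]
      congr 1
      ext x
      simp only [Finset.mem_filter, Finset.mem_univ, true_and]
      exact ⟨And.left, fun e => ⟨e, hsymm _ _ e⟩⟩
    · obtain ⟨x, hx, hxu⟩ := hcommon a b hab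
      rw [show Finset.univ.filter (fun y => adj a y ∧ adj y b) = {x} by
        ext y
        simp only [Finset.mem_filter, Finset.mem_univ, true_and, Finset.mem_singleton]
        exact ⟨hxu y, fun e => e ▸ hx⟩]
      simp
  have hAJ : A * J = J := by
    ext a b
    rw [Matrix.mul_apply]
    simp only [A, J, mul_one]
    rw [Finset.sum_boole, show (Finset.univ.filter (adj a)).card = n by
      rw [← hdeg a, Nat.card_eq_fintype_card, Fintype.card_subtype]]
    exact hn1
  have hpow : ∀ j, A ^ (j + 2) = J := by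
    intro j
    induction j with
    | zero => rw [pow_two]; exact hA2
    | succ j ih => rw [pow_succ', ih, hAJ]
  have hJJ : J * J = J := by
    nth_rw 1 [← hA2]
    rw [mul_assoc, hAJ, hAJ]
  have hcV : (Fintype.card V : ZMod q) = 1 := by
    have := congrFun (congrFun hJJ z') z'
    rw [Matrix.mul_apply] at this
    simpa [J] using this
  have htrA : A.trace = 0 := by
    refine Finset.sum_eq_zero fun a _ => ?_
    show (if adj a a then (1 : ZMod q) else 0) = 0
    rw [if_neg fun e => e.1 rfl]
  have htrJ : J.trace = 1 := by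
    rw [← hcV]
    show ∑ a : V, (1 : ZMod q) = (Fintype.card V : ZMod q)
    simp
  have h1 := ZMod.trace_pow_card A
  have hAq : A ^ q = J := by
    have hj : q = q - 2 + 2 := by have := hq.two_le; omega
    have := hpow (q - 2)
    rwa [← hj] at this
  rw [hAq, htrJ, htrA, zero_pow hq.ne_zero] at h1
  exact one_ne_zero h1

theorem contradiction : False := by
  by_cases hc : ∃ (Q : Sylow p G) (x : G),
      orderOf x = 2 ∧ x ∈ centralizer ((Q : Subgroup G) : Set G)
  · obtain ⟨Q, x, hx, hxQ⟩ := hc
    exact h.case_central hx hxQ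
  · push Not at hc
    exact h.case_free hc

end Hyp

end Cfsg.Agent.H74CyclicAb
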