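import Mathlib

/-!
Euler characteristic of a finite subset of a poset, and the alternating count of elements
normalizing the members of an upward closed family of `p`-subgroups.
-/

set_option autoImplicit false

namespace Cfsg.Agent.H74Euler

open scoped Classical

variable {α : Type*} [PartialOrder α]

/-- Euler characteristic of the order complex of `S`. -/
noncomputable def chi (S : Finset α) : ℤ :=
  ∑ x : {x // x ∈ S}, (1 - chi (S.filter (x.1 < ·)))
termination_by S.card
decreasing_by
  exact Finset.card_lt_card ⟨Finset.filter_subset _ _, fun h =>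
    lt_irrefl _ (Finset.mem_filter.1 (h x.2)).2⟩

/-- The weight of `x` in `S`. -/
noncomputable def wt (S : Finset α) (x : α) : ℤ := 1 - chi (S.filter (x < ·))

theorem chi_eq (S : Finset α) : chi S = ∑ x ∈ S, wt S x := by
  rw [chi]
  exact (Finset.sum_coe_sort S (fun x => wt S x))

theorem filter_lt_filter_lt (S : Finset α) {x y : α} (h : x < y) :
    (S.filter (x < ·)).filter (y < ·) = S.filter (y < ·) := by
  ext z
  simp only [Finset.mem_filter]
  exact ⟨fun hz => ⟨hz.1.1, hz.2⟩, fun hz => ⟨⟨hz.1, h.trans hz.2⟩, hz.2⟩⟩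

theorem sum_wt_ge (S : Finset α) {x : α} (hx : x ∈ S) :
    ∑ y ∈ S.filter (x ≤ ·), wt S y = 1 := by
  have h : S.filter (x ≤ ·) = insert x (S.filter (x < ·)) := by
    ext z
    simp only [Finset.mem_filter, Finset.mem_insert, le_iff_lt_or_eq]
    constructor
    · rintro ⟨hz, h | h⟩
      · exact Or.inr ⟨hz, h⟩
      · exact Or.inl h.symm
    · rintro (rfl | ⟨hz, h⟩)
      · exact ⟨hx, Or.inr rfl⟩
      · exact ⟨hz, Or.inl h⟩
  rw [h, Finset.sum_insert (by simp)]
  have : ∑ y ∈ S.filter (x < ·), wt S y = chi (S.filter (x < ·)) := by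
    rw [chi_eq]
    refine Finset.sum_congr rfl fun y hy => ?_
    rw [wt, wt, filter_lt_filter_lt S (Finset.mem_filter.1 hy).2]
  rw [this, wt]
  ring

theorem eq_wt (S : Finset α) (v : α → ℤ) (hv : ∀ x ∈ S, ∑ y ∈ S.filter (x ≤ ·), v y = 1) :
    ∀ x ∈ S, v x = wt S x := by
  suffices H : ∀ n, ∀ x ∈ S, (S.filter (x < ·)).card = n → v x = wt S x from
    fun x hx => H _ x hx rfl
  intro n
  induction n using Nat.strong_induction_on with
  | _ n ih =>
    intro x hx hn
    have h : S.filter (x ≤ ·) = insert x (S.filter (x < ·)) := by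
      ext z
      simp only [Finset.mem_filter, Finset.mem_insert, le_iff_lt_or_eq]
      constructor
      · rintro ⟨hz, h | h⟩
        · exact Or.inr ⟨hz, h⟩
        · exact Or.inl h.symm
      · rintro (rfl | ⟨hz, h⟩)
        · exact ⟨hx, Or.inr rfl⟩
        · exact ⟨hz, Or.inl h⟩
    have h1 := hv x hx
    have h2 := sum_wt_ge S hx
    rw [h, Finset.sum_insert (by simp)] at h1 h2
    have h3 : ∑ y ∈ S.filter (x < ·), v y = ∑ y ∈ S.filter (x < ·), wt S y := by
      refine Finset.sum_congr rfl fun y hy => ih _ ?_ y (Finset.mem_filter.1 hy).1 rfl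
      rw [← hn, ← filter_lt_filter_lt S (Finset.mem_filter.1 hy).2]
      exact Finset.card_lt_card ⟨Finset.filter_subset _ _, fun h' =>
        lt_irrefl _ (Finset.mem_filter.1 (h' hy)).2⟩
    linarith

/-- A monotone decreasing retraction preserves `chi`. -/
theorem chi_retract (S F : Finset α) (hFS : F ⊆ S) (f : α → α) (hf : ∀ x ∈ S, f x ∈ F)
    (hle : ∀ x ∈ S, f x ≤ x) (hmono : ∀ x ∈ S, ∀ y ∈ S, x ≤ y → f x ≤ f y)
    (hfix : ∀ x ∈ F, f x = x) : chi S = chi F := by
  have key : ∀ u ∈ F, (∑ y ∈ S.filter (fun y => f y = u), wt S y) = wt F u := by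
    refine eq_wt F _ fun z hz => ?_
    rw [← sum_wt_ge S (hFS hz)]
    have h : S.filter (z ≤ ·) = S.filter (fun y => z ≤ f y) := by
      refine Finset.filter_congr fun y hy => ⟨fun h => ?_, fun h => h.trans (hle y hy)⟩
      rw [← hfix z hz]
      exact hmono z (hFS hz) y hy h
    rw [h, ← Finset.sum_fiberwise_of_maps_to (s := S.filter (fun y => z ≤ f y))
      (t := F.filter (z ≤ ·)) (g := f) (fun y hy => by
        simp only [Finset.mem_filter] at hy ⊢
        exact ⟨hf y hy.1, hy.2⟩) (wt S)]
    refine Finset.sum_congr rfl fun u hu => Finset.sum_congr ?_ fun _ _ => rfl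
    ext y
    simp only [Finset.mem_filter] at hu ⊢
    exact ⟨fun h => ⟨⟨h.1, h.2.symm ▸ hu.2⟩, h.2⟩, fun h => ⟨h.1.1, h.2⟩⟩
  rw [chi_eq, chi_eq, ← Finset.sum_fiberwise_of_maps_to (g := f) (t := F) hf (wt S)]
  exact Finset.sum_congr rfl key

theorem chi_empty : chi (∅ : Finset α) = 0 := by rw [chi_eq, Finset.sum_empty]

theorem chi_of_min (S : Finset α) {m : α} (hm : m ∈ S) (h : ∀ x ∈ S, m ≤ x) : chi S = 1 := by
  rw [chi_eq, ← sum_wt_ge S hm]
  exact Finset.sum_congr (Finset.filter_true_of_mem h).symm fun _ _ => rfl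

theorem chi_erase_min (S : Finset α) {K : α} (hK : K ∈ S) (h : ∀ x ∈ S, ¬ x < K) :
    chi S = chi (S.erase K) + (1 - chi (S.filter (K < ·))) := by
  rw [chi_eq, ← Finset.sum_erase_add S _ hK, chi_eq (S.erase K)]
  congr 1
  refine Finset.sum_congr rfl fun y hy => ?_
  rw [wt, wt]
  congr 2
  ext z
  simp only [Finset.mem_filter, Finset.mem_erase] at hy ⊢
  exact ⟨fun hz => ⟨⟨fun e => h y hy.2 (e ▸ hz.2), hz.1⟩, hz.2⟩, fun hz => ⟨hz.1.2, hz.2⟩⟩

variable {G : Type*} [Group G]

theorem lt_inf_normalizer [Finite G] {p : ℕ} [Fact p.Prime] {K L : Subgroup G}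
    (hL : IsPGroup p L) (h : K < L) : K < L ⊓ Subgroup.normalizer (K : Set G) := by
  haveI := hL.isNilpotent
  refine lt_of_le_of_ne (le_inf h.le Subgroup.le_normalizer) fun heq => ?_
  have hne : K.subgroupOf L < ⊤ :=
    lt_top_iff_ne_top.2 fun e => h.not_ge (Subgroup.subgroupOf_eq_top.1 e)
  have h1 := Group.normalizerCondition_of_isNilpotent (G := L) _ hne
  refine h1.not_ge fun x hx => ?_
  rw [Subgroup.mem_subgroupOf]
  rw [heq]
  refine ⟨x.2, Subgroup.mem_normalizer_iff.2 fun y => ?_⟩
  have hx' := Subgroup.mem_normalizer_iff.1 hx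
  constructor
  · intro hy
    exact (hx' ⟨y, h.le hy⟩).1 hy
  · intro hy
    have hyL : y ∈ L := by
      have := L.mul_mem (L.mul_mem (L.inv_mem x.2) (h.le hy)) x.2
      simpa [mul_assoc] using this
    exact (hx' ⟨y, hyL⟩).2 hy

/-- Maximal members of a family. -/
noncomputable def maxElts (S : Finset α) : Finset α := S.filter (fun Q => ∀ M ∈ S, Q ≤ M → M = Q)

theorem mem_maxElts {S : Finset α} {Q : α} :
    Q ∈ maxElts S ↔ Q ∈ S ∧ ∀ M ∈ S, Q ≤ M → M = Q := by
  simp [maxElts]

theorem sum_sylow_normalizer [Finite G] (p : ℕ) [Fact p.Prime] :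
    ∑ᶠ P : Sylow p G, (Nat.card (Subgroup.normalizer ((P : Subgroup G) : Set G))) = Nat.card G := by
  haveI := Fintype.ofFinite (Sylow p G)
  obtain ⟨P₀⟩ : Nonempty (Sylow p G) := inferInstance
  have h : ∀ P : Sylow p G, Nat.card (Subgroup.normalizer ((P : Subgroup G) : Set G)) *
      Nat.card (Sylow p G) = Nat.card G := fun P => by
    rw [P.card_eq_index_normalizer]; exact Subgroup.card_mul_index _
  have h' : ∀ P : Sylow p G, Nat.card (Subgroup.normalizer ((P : Subgroup G) : Set G)) =
      Nat.card (Subgroup.normalizer ((P₀ : Subgroup G) : Set G)) := fun P =>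
    Nat.eq_of_mul_eq_mul_right Nat.card_pos ((h P).trans (h P₀).symm)
  rw [finsum_eq_sum_of_fintype, Finset.sum_congr rfl fun P _ => h' P, Finset.sum_const,
    Finset.card_univ, ← Nat.card_eq_fintype_card, smul_eq_mul, mul_comm, h P₀]

theorem sum_chi_normalizer [Fintype G] (p : ℕ) [Fact p.Prime] (S : Finset (Subgroup G)) :
    ∀ (X : Subgroup G), (∀ L ∈ S, IsPGroup p L ∧ L ≤ X) →
    (∀ L ∈ S, ∀ M : Subgroup G, IsPGroup p M → L ≤ M → M ≤ X → M ∈ S) →
    ∑ g ∈ Finset.univ.filter (· ∈ X),
        chi (S.filter (fun L : Subgroup G => g ∈ Subgroup.normalizer (L : Set G))) =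
      ∑ Q ∈ maxElts S, (Nat.card ↥(X ⊓ Subgroup.normalizer (Q : Set G)) : ℤ) := by
  induction S using Finset.strongInduction with
  | _ S ih =>
    intro X hS hup
    rcases S.eq_empty_or_nonempty with rfl | hne
    · simp [maxElts, chi_empty]
    obtain ⟨K, hK, hKmin⟩ := S.exists_minimal hne
    have hmin : ∀ x ∈ S, ¬ x < K := fun x hx hlt => hlt.not_ge (hKmin hx hlt.le)
    set U := S.filter (K < ·) with hU
    set Y := X ⊓ Subgroup.normalizer (K : Set G) with hY
    -- peel off `K`
    have hstep : ∀ g : G, g ∈ X →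
        chi (S.filter (fun L : Subgroup G => g ∈ Subgroup.normalizer (L : Set G))) =
          chi ((S.erase K).filter (fun L : Subgroup G => g ∈ Subgroup.normalizer (L : Set G))) +
          (if g ∈ Y then 1 - chi (U.filter (fun L : Subgroup G => g ∈ Subgroup.normalizer (L : Set G)))
            else 0) := by
      intro g hg
      rw [Finset.filter_erase]
      by_cases hgK : g ∈ Subgroup.normalizer (K : Set G)
      · rw [if_pos (show g ∈ Y from ⟨hg, hgK⟩),
          chi_erase_min _ (Finset.mem_filter.2 ⟨hK, hgK⟩) (fun x hx => hmin x (Finset.mem_filter.1 hx).1),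
          hU, Finset.filter_comm]
      · rw [if_neg (fun h : g ∈ Y => hgK h.2), add_zero, Finset.erase_eq_of_notMem]
        exact fun h => hgK (Finset.mem_filter.1 h).2
    rw [Finset.sum_congr rfl fun g hg => hstep g (Finset.mem_filter.1 hg).2, Finset.sum_add_distrib,
      ih _ (Finset.erase_ssubset hK) X (fun L hL => hS L (Finset.mem_of_mem_erase hL))
        (fun L hL M hM hLM hMX => Finset.mem_erase.2 ⟨fun e => by
          subst e
          exact (Finset.mem_erase.1 hL).1 (le_antisymm hLM (hKmin (Finset.mem_of_mem_erase hL) hLM)),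
          hup L (Finset.mem_of_mem_erase hL) M hM hLM hMX⟩),
      Finset.sum_ite, Finset.sum_const_zero, add_zero, Finset.filter_filter]
    have hYX : (Finset.univ.filter fun g : G => g ∈ X ∧ g ∈ Y) = Finset.univ.filter (· ∈ Y) :=
      Finset.filter_congr fun g _ => ⟨fun h => h.2, fun h => ⟨h.1, h⟩⟩
    rw [hYX, Finset.sum_sub_distrib]
    have hcardY : ∑ g ∈ Finset.univ.filter (· ∈ Y), (1 : ℤ) = Nat.card Y := by
      rw [Finset.sum_const, nsmul_eq_mul, mul_one, Nat.card_eq_fintype_card,
        Fintype.card_subtype]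
    rw [hcardY]
    rcases U.eq_empty_or_nonempty with hU0 | ⟨L₀, hL₀⟩
    · -- `K` is maximal
      have hKmax : K ∈ maxElts S := mem_maxElts.2 ⟨hK, fun M hM hKM =>
        by_contra fun hne' => Finset.eq_empty_iff_forall_notMem.1 hU0 M
          (Finset.mem_filter.2 ⟨hM, lt_of_le_of_ne hKM (Ne.symm hne')⟩)⟩
      have hmax : maxElts S = insert K (maxElts (S.erase K)) := by
        ext Q
        simp only [mem_maxElts, Finset.mem_insert, Finset.mem_erase]
        constructor
        · rintro ⟨hQ, h⟩
          by_cases hQK : Q = K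
          · exact Or.inl hQK
          · exact Or.inr ⟨⟨hQK, hQ⟩, fun M hM => h M hM.2⟩
        · rintro (rfl | ⟨⟨hne', hQ⟩, h⟩)
          · exact mem_maxElts.1 hKmax
          · refine ⟨hQ, fun M hM hQM => ?_⟩
            by_cases hMK : M = K
            · subst hMK; exact le_antisymm (hKmin hQ hQM) hQM
            · exact h M ⟨hMK, hM⟩ hQM
      have hKnot : K ∉ maxElts (S.erase K) := fun h => (Finset.mem_erase.1 (mem_maxElts.1 h).1).1 rfl
      rw [hmax, Finset.sum_insert hKnot]
      simp only [hU0, Finset.filter_empty, chi_empty, Finset.sum_const_zero, sub_zero, ← hY]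
      ring
    · -- `K` is not maximal
      have hmax : maxElts S = maxElts (S.erase K) := by
        ext Q
        simp only [mem_maxElts, Finset.mem_erase]
        constructor
        · rintro ⟨hQ, h⟩
          refine ⟨⟨?_, hQ⟩, fun M hM => h M hM.2⟩
          rintro rfl
          exact (Finset.mem_filter.1 hL₀).2.ne' (h L₀ (Finset.mem_filter.1 hL₀).1 (Finset.mem_filter.1 hL₀).2.le)
        · rintro ⟨⟨hne', hQ⟩, h⟩
          refine ⟨hQ, fun M hM hQM => ?_⟩
          by_cases hMK : M = K
          · subst hMK; exact le_antisymm (hKmin hQ hQM) hQM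
          · exact h M ⟨hMK, hM⟩ hQM
      rw [← hmax]
      set T := U.filter (· ≤ Y) with hT
      have hKY : K ≤ Y := le_inf (hS K hK).2 Subgroup.le_normalizer
      -- retraction onto `T`
      have hfT : ∀ L ∈ U, L ⊓ Subgroup.normalizer (K : Set G) ∈ T := by
        intro L hL
        obtain ⟨hLS, hKL⟩ := Finset.mem_filter.1 hL
        obtain ⟨hLp, hLX⟩ := hS L hLS
        have hlt := lt_inf_normalizer hLp hKL
        exact Finset.mem_filter.2 ⟨Finset.mem_filter.2 ⟨hup K hK _ (hLp.to_le inf_le_left) hlt.le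
          (inf_le_left.trans hLX), hlt⟩, le_inf (inf_le_left.trans hLX) inf_le_right⟩
      have hret : ∀ g ∈ Y, chi (U.filter (fun L : Subgroup G => g ∈ Subgroup.normalizer (L : Set G))) =
          chi (T.filter (fun L : Subgroup G => g ∈ Subgroup.normalizer (L : Set G))) := by
        intro g hg
        refine chi_retract _ _ (Finset.filter_subset_filter _ (Finset.filter_subset _ _))
          (fun L => L ⊓ Subgroup.normalizer (K : Set G)) ?_ (fun _ _ => inf_le_left)
          (fun _ _ _ _ h => inf_le_inf_right _ h) ?_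
        · intro L hL
          obtain ⟨hLU, hgL⟩ := Finset.mem_filter.1 hL
          refine Finset.mem_filter.2 ⟨hfT L hLU, Subgroup.mem_normalizer_iff.2 fun h => ?_⟩
          rw [Subgroup.mem_inf, Subgroup.mem_inf, Subgroup.mem_normalizer_iff.1 hgL h]
          refine and_congr_right fun _ => ⟨fun hh => ?_, fun hh => ?_⟩
          · exact Subgroup.mul_mem _ (Subgroup.mul_mem _ hg.2 hh) (Subgroup.inv_mem _ hg.2)
          · have := Subgroup.mul_mem _ (Subgroup.mul_mem _ (Subgroup.inv_mem _ hg.2) hh) hg.2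
            simpa [mul_assoc] using this
        · intro L hL
          exact inf_eq_left.2 ((Finset.mem_filter.1 (Finset.mem_filter.1 hL).1).2.trans inf_le_right)
      have hTS : T ⊂ S := ⟨(Finset.filter_subset _ _).trans (Finset.filter_subset _ _), fun h =>
        lt_irrefl _ (Finset.mem_filter.1 (Finset.mem_filter.1 (h hK)).1).2⟩
      have hIH := ih T hTS Y
        (fun L hL => ⟨(hS L (Finset.mem_filter.1 (Finset.mem_filter.1 hL).1).1).1,
          (Finset.mem_filter.1 hL).2⟩)
        (fun L hL M hM hLM hMY => by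
          obtain ⟨hLU, -⟩ := Finset.mem_filter.1 hL
          obtain ⟨hLS, hKL⟩ := Finset.mem_filter.1 hLU
          exact Finset.mem_filter.2 ⟨Finset.mem_filter.2 ⟨hup L hLS M hM hLM (hMY.trans inf_le_left),
            hKL.trans_le hLM⟩, hMY⟩)
      rw [Finset.sum_congr rfl fun g hg => hret g (Finset.mem_filter.1 hg).2, hIH]
      -- maximal members of `T` are the Sylow subgroups of `Y`
      have hKn : (K.subgroupOf Y).Normal :=
        Subgroup.normal_subgroupOf_iff_le_normalizer hKY |>.2 inf_le_right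
      have hKP : ∀ P : Sylow p Y, K.subgroupOf Y ≤ (P : Subgroup Y) := fun P => by
        obtain ⟨P₀, hP₀⟩ := ((hS K hK).1.of_equiv (Subgroup.subgroupOfEquivOfLe hKY).symm).exists_le_sylow
        obtain ⟨c, rfl⟩ := MulAction.exists_smul_eq Y P₀ P
        intro x hx
        rw [Sylow.coe_subgroup_smul, Subgroup.mem_pointwise_smul_iff_inv_smul_mem]
        apply hP₀
        simpa [MulAut.smul_def] using hKn.conj_mem x hx c⁻¹
      obtain ⟨L₁, hL₁⟩ : T.Nonempty := ⟨_, hfT L₀ hL₀⟩
      have hPT : ∀ P : Sylow p Y, (P : Subgroup Y).map Y.subtype ∈ T := by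
        intro P
        have hle : K ≤ (P : Subgroup Y).map Y.subtype := by
          have := Subgroup.map_mono (f := Y.subtype) (hKP P)
          rwa [Subgroup.map_subgroupOf_eq_of_le hKY] at this
        have hPY : (P : Subgroup Y).map Y.subtype ≤ Y := Subgroup.map_subtype_le _
        refine Finset.mem_filter.2 ⟨Finset.mem_filter.2 ⟨hup K hK _ (P.isPGroup'.map _) hle
          (hPY.trans inf_le_left), lt_of_le_of_ne hle fun e => ?_⟩, hPY⟩
        obtain ⟨hL₁U, hL₁Y⟩ := Finset.mem_filter.1 hL₁
        obtain ⟨hL₁S, hKL₁⟩ := Finset.mem_filter.1 hL₁U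
        have hP' : (P : Subgroup Y) = K.subgroupOf Y := by
          apply Subgroup.map_injective Y.subtype_injective
          rw [Subgroup.map_subgroupOf_eq_of_le hKY, ← e]
        have hle' : (P : Subgroup Y) ≤ L₁.subgroupOf Y := hP' ▸ fun x hx => hKL₁.le hx
        have h2 := P.is_maximal' ((hS L₁ hL₁S).1.of_equiv (Subgroup.subgroupOfEquivOfLe hL₁Y).symm) hle'
        rw [hP'] at h2
        have h3 := congrArg (Subgroup.map Y.subtype) h2
        rw [Subgroup.map_subgroupOf_eq_of_le hKY, Subgroup.map_subgroupOf_eq_of_le hL₁Y] at h3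
        exact hKL₁.ne h3.symm
      have hmaxT : maxElts T = (Finset.univ : Finset (Sylow p Y)).image
          (fun P : Sylow p Y => (P : Subgroup Y).map Y.subtype) := by
        ext Q
        simp only [mem_maxElts, Finset.mem_image, Finset.mem_univ, true_and]
        constructor
        · rintro ⟨hQ, hmx⟩
          obtain ⟨hQU, hQY⟩ := Finset.mem_filter.1 hQ
          obtain ⟨P, hP⟩ := ((hS Q (Finset.mem_filter.1 hQU).1).1.of_equiv
            (Subgroup.subgroupOfEquivOfLe hQY).symm).exists_le_sylow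
          refine ⟨P, hmx _ (hPT P) ?_⟩
          have := Subgroup.map_mono (f := Y.subtype) hP
          rwa [Subgroup.map_subgroupOf_eq_of_le hQY] at this
        · rintro ⟨P, rfl⟩
          refine ⟨hPT P, fun M hM hle => ?_⟩
          obtain ⟨hMU, hMY⟩ := Finset.mem_filter.1 hM
          have h2 := P.is_maximal' ((hS M (Finset.mem_filter.1 hMU).1).1.of_equiv
            (Subgroup.subgroupOfEquivOfLe hMY).symm) (fun x hx => hle (Subgroup.mem_map_of_mem _ hx))
          rw [← h2, Subgroup.map_subgroupOf_eq_of_le hMY]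
      rw [hmaxT, Finset.sum_image (fun P _ P' _ h => Sylow.ext (Subgroup.map_injective Y.subtype_injective h))]
      have hN : ∀ P : Sylow p Y,
          Nat.card ↥(Y ⊓ Subgroup.normalizer (((P : Subgroup Y).map Y.subtype : Subgroup G) : Set G)) =
            Nat.card (Subgroup.normalizer ((P : Subgroup Y) : Set Y)) := by
        intro P
        rw [← Nat.card_congr (Subgroup.subgroupOfEquivOfLe
          (inf_le_left : Y ⊓ Subgroup.normalizer (((P : Subgroup Y).map Y.subtype : Subgroup G) : Set G) ≤ Y)).toEquiv]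
        congr 2
        ext y
        simp only [Subgroup.mem_subgroupOf, Subgroup.mem_inf, y.2, true_and,
          Subgroup.mem_normalizer_iff]
        constructor
        · intro h z
          constructor
          · intro hz
            obtain ⟨w, hw, hwz⟩ := (h (z : G)).1 ⟨z, hz, rfl⟩
            have : w = y * z * y⁻¹ := Subtype.ext hwz
            exact this ▸ hw
          · intro hz
            obtain ⟨w, hw, hwz⟩ := (h (z : G)).2 ⟨y * z * y⁻¹, hz, rfl⟩
            have : w = z := Subtype.ext hwz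
            exact this ▸ hw
        · intro h z
          constructor
          · rintro ⟨w, hw, rfl⟩
            exact ⟨y * w * y⁻¹, (h w).1 hw, rfl⟩
          · rintro ⟨w, hw, hwz⟩
            refine ⟨y⁻¹ * w * y, (h _).2 ((show y * (y⁻¹ * w * y) * y⁻¹ = w by group).symm ▸ hw), ?_⟩
            simp only [Subgroup.coe_subtype, Subgroup.coe_mul, InvMemClass.coe_inv] at hwz ⊢
            rw [hwz]; group
      have hsum := sum_sylow_normalizer (G := Y) p
      rw [finsum_eq_sum_of_fintype] at hsum
      have hsum' : ∑ P : Sylow p Y, (Nat.card (Subgroup.normalizer ((P : Subgroup Y) : Set Y)) : ℤ)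
          = (Nat.card Y : ℤ) := by exact_mod_cast hsum
      rw [Finset.sum_congr rfl fun P _ => congrArg Nat.cast (hN P), hsum']
      ring

end Cfsg.Agent.H74Euler
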