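import Mathlib
import Cfsg.Agent.Lib.CoprimeActionAut
import Cfsg.Agent.Lib.CoprimeExtra

/-!
The product of the fixed point orders of the elements of a `p`-group acting coprimely on `V`:
`(∏ₓ |C_V(x)|)^p ≤ |V|^|A| |C_V(A)|^((p-1)|A|)`.
-/

set_option autoImplicit false

namespace Cfsg.Agent.H74FixedProd

open scoped Classical

universe u v

section Basic

variable {A : Type u} {V : Type v} [Group A] [Group V]

/-- Fixed points of the element `x`. -/
def fixE (φ : A →* MulAut V) (x : A) : Subgroup V :=
  MonoidHom.eqLocus (φ x).toMonoidHom (MonoidHom.id V)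

theorem mem_fixE {φ : A →* MulAut V} {x : A} {v : V} : v ∈ fixE φ x ↔ φ x v = v := Iff.rfl

/-- Fixed points of all of `A`. -/
def fixA (φ : A →* MulAut V) : Subgroup V where
  carrier := {v | ∀ x, φ x v = v}
  one_mem' := fun x => map_one _
  mul_mem' := fun {a b} ha hb x => by rw [map_mul, ha x, hb x]
  inv_mem' := fun {a} ha x => by rw [map_inv, ha x]

theorem mem_fixA {φ : A →* MulAut V} {v : V} : v ∈ fixA φ ↔ ∀ x, φ x v = v := Iff.rfl

/-- Restriction of an action to an invariant subgroup. -/
def restrict (φ : A →* MulAut V) (S : Subgroup V) (hS : ∀ a, ∀ s ∈ S, φ a s ∈ S) : A →* MulAut S where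
  toFun a :=
    { toFun := fun s => ⟨φ a s, hS a s s.2⟩
      invFun := fun s => ⟨φ a⁻¹ s, hS a⁻¹ s s.2⟩
      left_inv := fun s => Subtype.ext (by simp)
      right_inv := fun s => Subtype.ext (by simp)
      map_mul' := fun s t => Subtype.ext (map_mul (φ a) _ _) }
  map_one' := by ext s; simp
  map_mul' := fun a b => by ext s; simp

@[simp] theorem restrict_apply (φ : A →* MulAut V) (S : Subgroup V) (hS : ∀ a, ∀ s ∈ S, φ a s ∈ S)
    (a : A) (s : S) : (restrict φ S hS a s : V) = φ a s := rfl

/-- Induced action on the quotient by an invariant normal subgroup. -/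
def quot (φ : A →* MulAut V) (S : Subgroup V) [S.Normal] (hS : ∀ a, ∀ s ∈ S, φ a s ∈ S) :
    A →* MulAut (V ⧸ S) where
  toFun a := QuotientGroup.congr S S (φ a) (by
    refine le_antisymm ?_ ?_
    · rintro _ ⟨s, hs, rfl⟩; exact hS a s hs
    · intro s hs
      exact ⟨φ a⁻¹ s, hS _ s hs, by show φ a (φ a⁻¹ s) = s; rw [← MulAut.mul_apply, ← map_mul, mul_inv_cancel, map_one]; rfl⟩)
  map_one' := by
    ext v; obtain ⟨v, rfl⟩ := QuotientGroup.mk_surjective v; simp
  map_mul' := fun a b => by
    ext v; obtain ⟨v, rfl⟩ := QuotientGroup.mk_surjective v; simp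

@[simp] theorem quot_mk (φ : A →* MulAut V) (S : Subgroup V) [S.Normal]
    (hS : ∀ a, ∀ s ∈ S, φ a s ∈ S) (a : A) (v : V) :
    quot φ S hS a (v : V ⧸ S) = ((φ a v : V) : V ⧸ S) := by
  simp [quot]

theorem card_fixed_split [Finite A] [Finite V] (φ : A →* MulAut V) (S : Subgroup V) [S.Normal]
    (hS : ∀ a, ∀ s ∈ S, φ a s ∈ S) (hcop : (Nat.card A).Coprime (Nat.card V))
    (hsolv : Group.IsSolvable A) :
    Nat.card (fixA φ) = Nat.card (fixA (restrict φ S hS)) * Nat.card (fixA (quot φ S hS)) := by
  let f : fixA φ →* fixA (quot φ S hS) :=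
    { toFun := fun v => ⟨((v : V) : V ⧸ S), fun x => by rw [quot_mk, v.2 x]⟩
      map_one' := rfl
      map_mul' := fun _ _ => rfl }
  have hsurj : Function.Surjective f := by
    rintro ⟨v, hv⟩
    obtain ⟨v, rfl⟩ := QuotientGroup.mk_surjective v
    obtain ⟨c, hc, hvc⟩ := CoprimeActionAut.exists_fixed_mem_coset φ hcop (Or.inl hsolv) S hS v
      (fun a => by
        have := hv a
        rw [quot_mk] at this
        exact QuotientGroup.eq.1 this.symm)
    exact ⟨⟨c, hc⟩, Subtype.ext (QuotientGroup.eq.2 hvc).symm⟩
  have hker : Nat.card f.ker = Nat.card (fixA (restrict φ S hS)) := Nat.card_congr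
    { toFun := fun v => ⟨⟨v.1.1, (QuotientGroup.eq_one_iff _).1 (congrArg Subtype.val v.2)⟩,
        fun x => Subtype.ext (v.1.2 x)⟩
      invFun := fun v => ⟨⟨v.1.1, fun x => congrArg Subtype.val (v.2 x)⟩,
        Subtype.ext ((QuotientGroup.eq_one_iff _).2 v.1.2)⟩
      left_inv := fun _ => rfl
      right_inv := fun _ => rfl }
  rw [← f.ker.index_mul_card, Subgroup.index_ker, MonoidHom.range_eq_top.2 hsurj, Subgroup.card_top,
    hker, mul_comm]

theorem fixA_zpowers_eq (φ : A →* MulAut V) (x : A) :
    fixA (φ.comp (Subgroup.zpowers x).subtype) = fixE φ x := by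
  ext v
  refine ⟨fun h => h ⟨x, Subgroup.mem_zpowers x⟩, fun h => ?_⟩
  rintro ⟨y, hy⟩
  let St : Subgroup A :=
    { carrier := {y | φ y v = v}
      one_mem' := by show φ 1 v = v; rw [map_one]; rfl
      mul_mem' := fun {a b} ha hb => by
        show φ (a * b) v = v
        rw [map_mul, MulAut.mul_apply, show φ b v = v from hb, show φ a v = v from ha]
      inv_mem' := fun {a} ha => by
        show φ a⁻¹ v = v
        rw [map_inv]; nth_rw 1 [← show φ a v = v from ha]; exact (φ a).symm_apply_apply v }
  exact (Subgroup.zpowers_le.2 (show x ∈ St from h)) hy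

end Basic

/-- The abelian case. -/
theorem prod_fixE_le_comm {p : ℕ} [hp : Fact p.Prime] :
    ∀ (n : ℕ) (A : Type u) [Group A] [Fintype A] (V : Type v) [CommGroup V] [Finite V]
      (φ : A →* MulAut V), Nat.card A ≤ n → IsPGroup p A → (Nat.card A).Coprime (Nat.card V) →
      (∏ x : A, Nat.card (fixE φ x)) ^ p ≤
        Nat.card V ^ Nat.card A * Nat.card (fixA φ) ^ ((p - 1) * Nat.card A) := by
  intro n
  induction n with
  | zero =>
    intro A _ _ V _ _ φ hn
    exact absurd hn (Nat.not_le.2 Nat.card_pos)
  | succ n ih =>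
    intro A _ _ V _ _ φ hn hA hcop
    have hp1 := hp.out.one_lt
    rcases subsingleton_or_nontrivial A with hsub | hnt
    · have h1 : ∀ x, fixE φ x = ⊤ := fun x => by
        rw [Subsingleton.elim x 1]; ext v; simp [mem_fixE]
      have h2 : fixA φ = ⊤ := by
        ext v; simp only [mem_fixA, Subgroup.mem_top, iff_true]; intro x
        exact (SetLike.ext_iff.1 (h1 x) v).2 trivial
      simp only [h1, h2, Subgroup.card_top, Finset.prod_const, Finset.card_univ, ← Nat.card_eq_fintype_card,
        Nat.card_unique, pow_one, mul_one]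
      rw [← pow_succ', Nat.sub_add_cancel hp1.le]
    · haveI := hA.center_nontrivial
      obtain ⟨k, hk⟩ := IsPGroup.iff_card.1 (hA.to_subgroup (Subgroup.center A))
      have hpdvd : p ∣ Nat.card (Subgroup.center A) := by
        rw [hk]
        refine dvd_pow_self p fun h => ?_
        rw [h, pow_zero] at hk
        exact absurd hk (Finite.one_lt_card.ne')
      obtain ⟨⟨z, hzc⟩, hz⟩ := exists_prime_orderOf_dvd_card' p hpdvd
      rw [Subgroup.orderOf_mk] at hz
      have hzcomm : ∀ a, a * z = z * a := Subgroup.mem_center_iff.1 hzc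
      have hpV : p.Coprime (Nat.card V) := hcop.coprime_dvd_left (hz ▸ orderOf_dvd_natCard z)
      have hφcomm : ∀ a b : A, a * b = b * a → ∀ v, φ a (φ b v) = φ b (φ a v) := fun a b h v => by
        rw [← MulAut.mul_apply, ← MulAut.mul_apply, ← map_mul, ← map_mul, h]
      let ψ : V →* V :=
        { toFun := fun v => φ z v * v⁻¹
          map_one' := by simp
          map_mul' := fun v w => by rw [map_mul, mul_inv, mul_mul_mul_comm] }
      set U := ψ.range with hU
      set C := ψ.ker with hC
      have hmemC : ∀ v, v ∈ C ↔ φ z v = v := fun v => by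
        rw [hC, MonoidHom.mem_ker]; exact mul_inv_eq_one
      have hCU : ∀ u ∈ U, φ z u = u → u = 1 := by
        rintro _ ⟨v, rfl⟩ hfix
        have hfix' : φ z (ψ v) = ψ v := hfix
        have hpow : ∀ i : ℕ, φ (z ^ i) v = (ψ v) ^ i * v := by
          intro i
          induction i with
          | zero => simp
          | succ i ih' =>
            rw [pow_succ', map_mul, MulAut.mul_apply, ih', map_mul, map_pow, hfix']
            have : φ z v = ψ v * v := by show φ z v = φ z v * v⁻¹ * v; rw [inv_mul_cancel_right]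
            rw [this, pow_succ, mul_assoc]
        have h1 : ψ v ^ p = 1 := by
          have := hpow p
          rw [← hz, pow_orderOf_eq_one, map_one, MulAut.one_apply] at this
          rw [← hz]
          exact mul_eq_right.1 this.symm
        exact orderOf_eq_one_iff.1 (Nat.dvd_one.1 (hpV ▸ Nat.dvd_gcd (orderOf_dvd_of_pow_eq_one h1) (orderOf_dvd_natCard _)))
      have hψcomm : ∀ a v, φ a (ψ v) = ψ (φ a v) := fun a v => by
        show φ a (φ z v * v⁻¹) = φ z (φ a v) * (φ a v)⁻¹
        rw [map_mul, map_inv, hφcomm a z (hzcomm a)]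
      have hCinv : ∀ a, ∀ v ∈ C, φ a v ∈ C := fun a v hv => by
        rw [hmemC] at hv ⊢
        rw [← hφcomm a z (hzcomm a), hv]
      have hVcard : Nat.card C * Nat.card U = Nat.card V := by
        rw [mul_comm, hU, ← Subgroup.index_ker]; exact ψ.ker.index_mul_card
      -- split each fixed subgroup
      have hsplit : ∀ x, Nat.card (fixE φ x) ≤
          Nat.card (fixE φ x ⊓ C : Subgroup V) * Nat.card (fixE φ x ⊓ U : Subgroup V) := by
        intro x
        let g : fixE φ x →* (fixE φ x ⊓ U : Subgroup V) :=
          { toFun := fun v => ⟨ψ v, show φ x (ψ v) = ψ v by rw [hψcomm, mem_fixE.1 v.2], ⟨v, rfl⟩⟩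
            map_one' := Subtype.ext (map_one ψ)
            map_mul' := fun a b => Subtype.ext (map_mul ψ (a : V) b) }
        have hk' : Nat.card g.ker = Nat.card (fixE φ x ⊓ C : Subgroup V) := Nat.card_congr
          { toFun := fun v => ⟨v.1.1, v.1.2, congrArg Subtype.val v.2⟩
            invFun := fun v => ⟨⟨v.1, v.2.1⟩, Subtype.ext v.2.2⟩
            left_inv := fun _ => rfl
            right_inv := fun _ => rfl }
        rw [← g.ker.card_mul_index, hk', Subgroup.index_ker]
        exact Nat.mul_le_mul_left _ (Nat.le_of_dvd Nat.card_pos (Subgroup.card_subgroup_dvd_card _))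
      -- each coset of `⟨z⟩` contributes at most `|U|`
      have hindep : ∀ (x : A) (s : Finset (Fin p)) (u : Fin p → V),
          (∀ i ∈ s, u i ∈ U ∧ φ (x * z ^ (i : ℕ)) (u i) = u i) →
          ∏ i ∈ s, u i = 1 → ∀ i ∈ s, u i = 1 := by
        intro x s
        induction s using Finset.induction_on with
        | empty => intro u _ _ i hi; exact absurd hi (Finset.notMem_empty i)
        | insert j s hj ihs =>
          intro u hu hprod
          let T : V →* V :=
            { toFun := fun v => φ (x * z ^ (j : ℕ)) v * v⁻¹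
              map_one' := by simp
              map_mul' := fun v w => by rw [map_mul, mul_inv, mul_mul_mul_comm] }
          have hTU : ∀ v ∈ U, T v ∈ U := fun v hv => by
            obtain ⟨w, rfl⟩ := hv
            exact U.mul_mem ⟨_, (hψcomm _ _).symm⟩ (U.inv_mem ⟨w, rfl⟩)
          have hTj : T (u j) = 1 := by
            show φ _ (u j) * (u j)⁻¹ = 1
            rw [(hu j (Finset.mem_insert_self _ _)).2, mul_inv_cancel]
          have hT := ihs (fun i => T (u i)) (fun i hi => ?_) ?_
          · have hall : ∀ i ∈ s, u i = 1 := by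
              intro i hi
              obtain ⟨hiU, hifix⟩ := hu i (Finset.mem_insert_of_mem hi)
              have hifix' : φ (x * z ^ (j : ℕ)) (u i) = u i := mul_inv_eq_one.1 (hT i hi)
              have hii : φ (z ^ (j : ℕ)) (u i) = φ (z ^ (i : ℕ)) (u i) := by
                apply (φ x).injective
                rw [← MulAut.mul_apply, ← MulAut.mul_apply, ← map_mul, ← map_mul, hifix', hifix]
              refine hCU _ hiU ?_
              -- the stabiliser of `u i` in `⟨z⟩` contains a generator
              let St : Subgroup A :=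
                { carrier := {y | φ y (u i) = u i}
                  one_mem' := by show φ 1 _ = _; rw [map_one]; rfl
                  mul_mem' := fun {a b} ha hb => by
                    show φ (a * b) _ = _
                    rw [map_mul, MulAut.mul_apply, show φ b _ = _ from hb, show φ a _ = _ from ha]
                  inv_mem' := fun {a} ha => by
                    show φ a⁻¹ _ = _
                    rw [map_inv]; nth_rw 1 [← show φ a (u i) = u i from ha]
                    exact (φ a).symm_apply_apply _ }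
              have hmem : (z ^ (i : ℕ))⁻¹ * z ^ (j : ℕ) ∈ St := by
                show φ _ _ = _
                rw [map_mul, MulAut.mul_apply, hii, map_inv]
                exact (φ _).symm_apply_apply _
              have hne : (z ^ (i : ℕ))⁻¹ * z ^ (j : ℕ) ≠ 1 := fun h => by
                have h' := (inv_mul_eq_one.1 h)
                have := pow_inj_mod.1 h'
                rw [hz, Nat.mod_eq_of_lt i.2, Nat.mod_eq_of_lt j.2] at this
                exact hj (Fin.ext this ▸ hi)
              have hgen : Subgroup.zpowers ((z ^ (i : ℕ))⁻¹ * z ^ (j : ℕ)) = Subgroup.zpowers z := by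
                refine Subgroup.eq_of_le_of_card_ge (Subgroup.zpowers_le.2 (Subgroup.mul_mem _
                  (Subgroup.inv_mem _ (Subgroup.npow_mem_zpowers z _)) (Subgroup.npow_mem_zpowers z _))) ?_
                rw [Nat.card_zpowers, Nat.card_zpowers]
                have hd : orderOf ((z ^ (i : ℕ))⁻¹ * z ^ (j : ℕ)) ∣ p := by
                  refine orderOf_dvd_of_pow_eq_one ?_
                  have hzp : z ^ p = 1 := by rw [← hz]; exact pow_orderOf_eq_one z
                  rw [Commute.mul_pow (((Commute.refl z).pow_pow _ _).inv_left), inv_pow, ← pow_mul,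
                    ← pow_mul, mul_comm (i : ℕ), mul_comm (j : ℕ), pow_mul, pow_mul, hzp]
                  simp
                rw [((Nat.dvd_prime hp.out).1 hd).resolve_left (fun h => hne (orderOf_eq_one_iff.1 h)), hz]
              have : z ∈ St := Subgroup.zpowers_le.2 hmem (hgen ▸ Subgroup.mem_zpowers z)
              exact this
            intro i hi
            rcases Finset.mem_insert.1 hi with rfl | hi'
            · rw [Finset.prod_insert hj, Finset.prod_eq_one hall, mul_one] at hprod
              exact hprod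
            · exact hall i hi'
          · refine ⟨hTU _ (hu i (Finset.mem_insert_of_mem hi)).1, ?_⟩
            show φ (x * z ^ (i : ℕ)) (φ (x * z ^ (j : ℕ)) (u i) * (u i)⁻¹) = _
            have hc : (x * z ^ (i : ℕ)) * (x * z ^ (j : ℕ)) = (x * z ^ (j : ℕ)) * (x * z ^ (i : ℕ)) := by
              have hxz : ∀ m : ℕ, x * z ^ m = z ^ m * x := fun m => (Commute.pow_right (hzcomm x) m).eq
              have hc1 : ∀ m : ℕ, Commute x (z ^ m) := fun m => hxz m
              exact (((Commute.refl x).mul_right (hc1 _)).mul_left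
                ((hc1 _).symm.mul_right (Commute.pow_pow_self z _ _))).eq
            rw [map_mul, map_inv, hφcomm _ _ hc, (hu i (Finset.mem_insert_of_mem hi)).2]
            rfl
          · rw [← map_prod, ← mul_one (T (∏ i ∈ s, u i))]
            nth_rw 1 [← hTj]
            rw [← map_mul, mul_comm, ← Finset.prod_insert hj, hprod, map_one]
      have hUle : ∀ x, ∏ i : Fin p, Nat.card (fixE φ (x * z ^ (i : ℕ)) ⊓ U : Subgroup V) ≤ Nat.card U := by
        intro x
        rw [← Nat.card_pi]
        refine Nat.card_le_card_of_injective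
          (fun f => (⟨∏ i : Fin p, (f i : V), U.prod_mem fun i _ => (f i).2.2⟩ : U)) ?_
        intro f g hfg
        have h := congrArg Subtype.val hfg
        funext i
        refine Subtype.ext (mul_inv_eq_one.1 (hindep x Finset.univ (fun i => (f i : V) * (g i : V)⁻¹)
          (fun i _ => ⟨U.mul_mem (f i).2.2 (U.inv_mem (g i).2.2), by
            rw [map_mul, map_inv, mem_fixE.1 (f i).2.1, mem_fixE.1 (g i).2.1]⟩) ?_ i (Finset.mem_univ i)))
        rw [Finset.prod_mul_distrib, Finset.prod_inv_distrib]
        exact mul_inv_eq_one.2 h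
      have hUprod : (∏ x : A, Nat.card (fixE φ x ⊓ U : Subgroup V)) ^ p ≤ Nat.card U ^ Nat.card A := by
        calc (∏ x : A, Nat.card (fixE φ x ⊓ U : Subgroup V)) ^ p
            = ∏ i : Fin p, ∏ x : A, Nat.card (fixE φ (x * z ^ (i : ℕ)) ⊓ U : Subgroup V) := by
              have e : ∀ i : Fin p, ∏ x : A, Nat.card (fixE φ (x * z ^ (i : ℕ)) ⊓ U : Subgroup V) =
                  ∏ x : A, Nat.card (fixE φ x ⊓ U : Subgroup V) := fun i =>
                Fintype.prod_equiv (Equiv.mulRight (z ^ (i : ℕ))) _ _ (fun x => rfl)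
              rw [Finset.prod_congr rfl fun i _ => e i]
              simp
          _ = ∏ x : A, ∏ i : Fin p, Nat.card (fixE φ (x * z ^ (i : ℕ)) ⊓ U : Subgroup V) := Finset.prod_comm
          _ ≤ ∏ _x : A, Nat.card U := Finset.prod_le_prod (fun _ _ => Nat.zero_le _) fun x _ => hUle x
          _ = Nat.card U ^ Nat.card A := by simp [Nat.card_eq_fintype_card]
      -- `C` is acted on by `A ⧸ ⟨z⟩`
      haveI hZn : (Subgroup.zpowers z).Normal := ⟨fun a ha g => by
        obtain ⟨m, rfl⟩ := Subgroup.mem_zpowers_iff.1 ha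
        have : Commute g (z ^ m) := Commute.zpow_right (hzcomm g) m
        rw [this.eq, mul_inv_cancel_right]; exact Subgroup.zpow_mem _ (Subgroup.mem_zpowers z) m⟩
      let φC := restrict φ C hCinv
      have hker : Subgroup.zpowers z ≤ φC.ker := by
        rw [Subgroup.zpowers_le, MonoidHom.mem_ker]
        ext v
        exact (hmemC v).1 v.2
      let ψC : A ⧸ Subgroup.zpowers z →* MulAut C := QuotientGroup.lift _ φC hker
      haveI : Fintype (A ⧸ Subgroup.zpowers z) := Fintype.ofFinite _
      have hcardA : Nat.card (A ⧸ Subgroup.zpowers z) * p = Nat.card A := by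
        rw [← hz, ← Nat.card_zpowers]; exact Subgroup.index_mul_card _
      have hlt : Nat.card (A ⧸ Subgroup.zpowers z) ≤ n := by
        have : 0 < Nat.card (A ⧸ Subgroup.zpowers z) := Nat.card_pos
        nlinarith
      have hIH := ih (A ⧸ Subgroup.zpowers z) C ψC hlt (hA.to_quotient _)
        ((hcop.coprime_dvd_left ⟨p, hcardA.symm⟩).coprime_dvd_right (Subgroup.card_subgroup_dvd_card _))
      have hfx : ∀ x : A, Nat.card (fixE ψC (x : A ⧸ Subgroup.zpowers z)) =
          Nat.card (fixE φ x ⊓ C : Subgroup V) := fun x => Nat.card_congr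
        { toFun := fun v => ⟨v.1.1, show φ x v.1.1 = v.1.1 from congrArg Subtype.val v.2, v.1.2⟩
          invFun := fun v => ⟨⟨v.1, v.2.2⟩, show φC x _ = _ from Subtype.ext v.2.1⟩
          left_inv := fun _ => rfl
          right_inv := fun _ => rfl }
      have hfA : Nat.card (fixA ψC) = Nat.card (fixA φ) := Nat.card_congr
        { toFun := fun v => ⟨v.1.1, fun x => congrArg Subtype.val (v.2 (x : A ⧸ Subgroup.zpowers z))⟩
          invFun := fun v => ⟨⟨v.1, (hmemC v.1).2 (v.2 z)⟩, fun q => by
            obtain ⟨x, rfl⟩ := QuotientGroup.mk_surjective q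
            exact Subtype.ext (v.2 x)⟩
          left_inv := fun _ => rfl
          right_inv := fun _ => rfl }
      have hCprod : ∏ x : A, Nat.card (fixE φ x ⊓ C : Subgroup V) =
          (∏ q : A ⧸ Subgroup.zpowers z, Nat.card (fixE ψC q)) ^ p := by
        rw [← Finset.prod_pow, ← Finset.prod_fiberwise_of_maps_to
          (g := fun x : A => (x : A ⧸ Subgroup.zpowers z)) (fun _ _ => Finset.mem_univ _)]
        refine Finset.prod_congr rfl fun q _ => ?_
        rw [Finset.prod_congr rfl (fun x hx => show Nat.card (fixE φ x ⊓ C : Subgroup V) =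
          Nat.card (fixE ψC q) by rw [← hfx, (Finset.mem_filter.1 hx).2]), Finset.prod_const]
        congr 1
        obtain ⟨x₀, rfl⟩ := QuotientGroup.mk_surjective q
        rw [← Fintype.card_subtype, ← Nat.card_eq_fintype_card]
        refine (Nat.card_congr ?_).trans (hz ▸ Nat.card_zpowers z)
        exact
          { toFun := fun x => ⟨x₀⁻¹ * x.1, QuotientGroup.eq.1 x.2.symm⟩
            invFun := fun y => ⟨x₀ * y.1, QuotientGroup.mk_mul_of_mem _ y.2⟩
            left_inv := fun x => Subtype.ext (mul_inv_cancel_left _ _)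
            right_inv := fun y => Subtype.ext (inv_mul_cancel_left _ _) }
      have hCbound : (∏ x : A, Nat.card (fixE φ x ⊓ C : Subgroup V)) ^ p ≤
          Nat.card C ^ Nat.card A * Nat.card (fixA φ) ^ ((p - 1) * Nat.card A) := by
        rw [hCprod, ← hcardA]
        refine (Nat.pow_le_pow_left hIH p).trans (le_of_eq ?_)
        rw [mul_pow, ← pow_mul, ← pow_mul, hfA, mul_assoc]
      calc (∏ x : A, Nat.card (fixE φ x)) ^ p
          ≤ ((∏ x : A, Nat.card (fixE φ x ⊓ C : Subgroup V)) *
              ∏ x : A, Nat.card (fixE φ x ⊓ U : Subgroup V)) ^ p := by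
            rw [← Finset.prod_mul_distrib]
            exact Nat.pow_le_pow_left (Finset.prod_le_prod (fun _ _ => Nat.zero_le _) fun x _ => hsplit x) p
        _ ≤ (Nat.card C ^ Nat.card A * Nat.card (fixA φ) ^ ((p - 1) * Nat.card A)) *
              Nat.card U ^ Nat.card A := by
            rw [mul_pow]; exact Nat.mul_le_mul hCbound hUprod
        _ = _ := by rw [← hVcard, mul_pow]; ring

/-- The case of a nilpotent `V`. -/
theorem prod_fixE_le_nilpotent {p : ℕ} [hp : Fact p.Prime] :
    ∀ (n : ℕ) (A : Type u) [Group A] [Fintype A] (V : Type v) [Group V] [Finite V] [Group.IsNilpotent V]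
      (φ : A →* MulAut V), Nat.card V ≤ n → IsPGroup p A → (Nat.card A).Coprime (Nat.card V) →
      (∏ x : A, Nat.card (fixE φ x)) ^ p ≤
        Nat.card V ^ Nat.card A * Nat.card (fixA φ) ^ ((p - 1) * Nat.card A) := by
  intro n
  induction n with
  | zero =>
    intro A _ _ V _ _ _ φ hn
    exact absurd hn (Nat.not_le.2 Nat.card_pos)
  | succ n ih =>
    intro A _ _ V _ _ _ φ hn hA hcop
    rcases subsingleton_or_nontrivial V with hsub | hnt
    · have h : ∀ S : Subgroup V, Nat.card S = 1 := fun S => Nat.card_unique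
      simp [h, Nat.card_unique]
    set Z := Subgroup.center V with hZ
    haveI : Group.IsSolvable A := (have := hA.isNilpotent; inferInstance)
    have hinv : ∀ a, ∀ s ∈ Z, φ a s ∈ Z := fun a s hs => by
      have := (inferInstance : Z.Characteristic).fixed (φ a)
      exact (SetLike.ext_iff.1 this s).2 hs
    let φZ := restrict φ Z hinv
    let φQ := quot φ Z hinv
    haveI : Nontrivial Z := Subgroup.nontrivial_iff_ne_bot Z |>.2 (Group.IsNilpotent.center_ne_bot V)
    have hVZ : Nat.card (V ⧸ Z) * Nat.card Z = Nat.card V := Z.index_mul_card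
    have hQlt : Nat.card (V ⧸ Z) ≤ n := by
      have : 1 < Nat.card Z := Finite.one_lt_card
      have : 0 < Nat.card (V ⧸ Z) := Nat.card_pos
      nlinarith
    have hQ := ih A (V ⧸ Z) φQ hQlt hA (hcop.coprime_dvd_right ⟨_, hVZ.symm⟩)
    letI : CommGroup Z := { mul_comm := fun a b => Subtype.ext (Subgroup.mem_center_iff.1 b.2 a) }
    have hZ' := prod_fixE_le_comm (p := p) (Nat.card A) A Z φZ le_rfl hA
      (hcop.coprime_dvd_right (Subgroup.card_subgroup_dvd_card _))
    have hE : ∀ x, Nat.card (fixE φ x) = Nat.card (fixE φZ x) * Nat.card (fixE φQ x) := by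
      intro x
      haveI : Group.IsSolvable (Subgroup.zpowers x) := CoprimeAction.isSolvable_zpowers x
      rw [← fixA_zpowers_eq, ← fixA_zpowers_eq, ← fixA_zpowers_eq]
      exact card_fixed_split (φ.comp (Subgroup.zpowers x).subtype) Z (fun a => hinv a)
        (hcop.coprime_dvd_left (Subgroup.card_subgroup_dvd_card _)) inferInstance
    have hAll := card_fixed_split φ Z hinv hcop inferInstance
    calc (∏ x : A, Nat.card (fixE φ x)) ^ p
        = (∏ x : A, Nat.card (fixE φZ x)) ^ p * (∏ x : A, Nat.card (fixE φQ x)) ^ p := by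
          rw [← mul_pow, ← Finset.prod_mul_distrib, Finset.prod_congr rfl fun x _ => hE x]
      _ ≤ _ := Nat.mul_le_mul hZ' hQ
      _ = _ := by rw [hAll, ← hVZ, mul_pow, mul_pow]; ring

/-- The general case: `A` acts through `ρ` on a subgroup `K` it normalises. -/
theorem prod_centralizer_le {p : ℕ} [hp : Fact p.Prime] {A : Type u} [Group A] [Fintype A]
    {G : Type v} [Group G] [Finite G] (ρ : A →* G) (K : Subgroup G) (hA : IsPGroup p A)
    (hK : ρ.range ≤ Subgroup.normalizer (K : Set G)) (hcop : (Nat.card A).Coprime (Nat.card K)) :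
    (∏ x : A, Nat.card (K ⊓ Subgroup.centralizer ({ρ x} : Set G) : Subgroup G)) ^ p ≤
      Nat.card K ^ Nat.card A *
        Nat.card (K ⊓ Subgroup.centralizer (ρ.range : Set G) : Subgroup G) ^ ((p - 1) * Nat.card A) := by
  set c : A → ℕ := fun x => Nat.card (K ⊓ Subgroup.centralizer ({ρ x} : Set G) : Subgroup G) with hc
  set cA := Nat.card (K ⊓ Subgroup.centralizer (ρ.range : Set G) : Subgroup G) with hcA
  have hR : IsPGroup p ρ.range := hA.of_surjective ρ.rangeRestrict ρ.rangeRestrict_surjective
  have hcopR : (Nat.card ρ.range).Coprime (Nat.card K) :=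
    hcop.coprime_dvd_left (Subgroup.card_range_dvd ρ)
  haveI : Group.IsSolvable ρ.range := (have := hR.isNilpotent; inferInstance)
  have hkey : ∀ l : ℕ, l.Prime → (∏ x : A, l ^ (c x).factorization l) ^ p ≤
      (l ^ (Nat.card K).factorization l) ^ Nat.card A *
        (l ^ cA.factorization l) ^ ((p - 1) * Nat.card A) := by
    intro l hl
    haveI := Fact.mk hl
    obtain ⟨W, hW⟩ := CoprimeAction.exists_invariant_sylow hK hcopR (Or.inl inferInstance) l
    set W' := (W : Subgroup K).map K.subtype with hW'
    let φ : A →* MulAut W' := (Subgroup.normalizerMonoidHom W').comp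
      (ρ.codRestrict (Subgroup.normalizer (W' : Set G)) (fun a => hW ⟨a, rfl⟩))
    have hφ : ∀ (a : A) (w : W'), (φ a w : G) = ρ a * w * (ρ a)⁻¹ := fun a w => rfl
    haveI : Group.IsNilpotent W' := (W.2.map K.subtype).isNilpotent
    have hcW : (Nat.card A).Coprime (Nat.card W') :=
      hcop.coprime_dvd_right (Subgroup.card_dvd_of_le (Subgroup.map_subtype_le _))
    have hmain := prod_fixE_le_nilpotent (p := p) (Nat.card W') A W' φ le_rfl hA hcW
    have hx : ∀ x : A, Nat.card (fixE φ x) = l ^ (c x).factorization l := by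
      intro x
      have hz : Subgroup.zpowers (ρ x) ≤ ρ.range := Subgroup.zpowers_le.2 ⟨x, rfl⟩
      have h := CoprimeExtra.card_sylow_inf_centralizer (A := Subgroup.zpowers (ρ x)) (K := K) (hz.trans hK)
        (hcopR.coprime_dvd_left (Subgroup.card_dvd_of_le hz))
        (Or.inl (CoprimeAction.isSolvable_zpowers _)) W (hz.trans hW)
      rw [Subgroup.zpowers_eq_closure, Subgroup.centralizer_closure] at h
      rw [show c x = _ from rfl, ← h]
      exact Nat.card_congr
        { toFun := fun v => ⟨v.1.1, v.1.2, Subgroup.mem_centralizer_singleton_iff.2 (by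
            have := congrArg Subtype.val (show φ x v.1 = v.1 from v.2)
            rw [hφ, mul_inv_eq_iff_eq_mul] at this
            exact this.symm)⟩
          invFun := fun v => ⟨⟨v.1, v.2.1⟩, Subtype.ext (by
            show (φ x ⟨v.1, v.2.1⟩ : G) = v.1
            rw [hφ, mul_inv_eq_iff_eq_mul]
            exact Subgroup.mem_centralizer_iff.1 v.2.2 _ rfl)⟩
          left_inv := fun _ => rfl
          right_inv := fun _ => rfl }
    have hA' : Nat.card (fixA φ) = l ^ cA.factorization l := by
      have h := CoprimeExtra.card_sylow_inf_centralizer (A := ρ.range) (K := K) hK hcopR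
        (Or.inl inferInstance) W hW
      rw [hcA, ← h]
      exact Nat.card_congr
        { toFun := fun v => ⟨v.1.1, v.1.2, Subgroup.mem_centralizer_iff.2 fun y hy => by
            obtain ⟨x, rfl⟩ := hy
            have := congrArg Subtype.val (v.2 x)
            rw [hφ, mul_inv_eq_iff_eq_mul] at this
            exact this⟩
          invFun := fun v => ⟨⟨v.1, v.2.1⟩, fun x => Subtype.ext (by
            rw [hφ, mul_inv_eq_iff_eq_mul]
            exact Subgroup.mem_centralizer_iff.1 v.2.2 (ρ x) ⟨x, rfl⟩)⟩
          left_inv := fun _ => rfl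
          right_inv := fun _ => rfl }
    rw [Finset.prod_congr rfl fun x _ => hx x, hA', CoprimeAction.card_map_sylow] at hmain
    exact hmain
  -- multiply over the primes
  set F := (Nat.card K).primeFactors with hF
  have hrec : ∀ d : ℕ, d ∣ Nat.card K → d = ∏ l ∈ F, l ^ d.factorization l := fun d hd => by
    have hd0 : d ≠ 0 := fun h => Nat.card_pos.ne' (zero_dvd_iff.1 (h ▸ hd))
    conv_lhs => rw [← Nat.prod_factorization_pow_eq_self hd0]
    refine Finsupp.prod_of_support_subset _ ?_ _ (fun l _ => pow_zero l)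
    rw [Nat.support_factorization]
    exact Nat.primeFactors_mono hd Nat.card_pos.ne'
  calc (∏ x : A, c x) ^ p = (∏ x : A, ∏ l ∈ F, l ^ (c x).factorization l) ^ p := by
        rw [Finset.prod_congr rfl fun x _ => hrec (c x) (Subgroup.card_dvd_of_le inf_le_left)]
    _ = ∏ l ∈ F, (∏ x : A, l ^ (c x).factorization l) ^ p := by rw [Finset.prod_comm, Finset.prod_pow]
    _ ≤ ∏ l ∈ F, ((l ^ (Nat.card K).factorization l) ^ Nat.card A *
          (l ^ cA.factorization l) ^ ((p - 1) * Nat.card A)) :=
        Finset.prod_le_prod (fun _ _ => Nat.zero_le _) fun l hl => hkey l (Nat.prime_of_mem_primeFactors hl)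
    _ = _ := by
        rw [Finset.prod_mul_distrib, Finset.prod_pow, Finset.prod_pow, ← hrec _ dvd_rfl,
          ← hrec _ (Subgroup.card_dvd_of_le inf_le_left)]

end Cfsg.Agent.H74FixedProd
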