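import Mathlib
import Cfsg.Prelude.Def_Transfer
import Cfsg.Agent.Lib.FusionSysGroup
import Cfsg.Agent.Lib.FusionMetacyclicResistant
import Cfsg.Agent.S0071
import Cfsg.Agent.S0949

/-!
A finite group with a metacyclic Sylow 2-subgroup having a cyclic quotient of order `> 2`
by a cyclic normal subgroup is solvable, given that groups of odd order are solvable (`hFT`).
-/

set_option autoImplicit false

namespace Cfsg.Agent.H74MetacyclicSylow

universe u

/-- A cyclic group in which every member of a generating set squares to one has at most two elements. -/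
theorem card_le_two_of_gen {C : Type*} [Group C] [Finite C] [IsCyclic C] (T : Set C)
    (hT : Subgroup.closure T = ⊤) (h : ∀ t ∈ T, t ^ 2 = 1) : Nat.card C ≤ 2 := by
  obtain ⟨c, hc⟩ := IsCyclic.exists_generator (α := C)
  let _ : CommGroup C := IsCyclic.commGroup
  have hall : ∀ x ∈ Subgroup.closure T, x ^ 2 = 1 := by
    intro x hx
    refine Subgroup.closure_induction (p := fun x _ => x ^ 2 = 1) h (one_pow 2) ?_ ?_ hx
    · intro a b _ _ ha hb; rw [mul_pow, ha, hb, one_mul]
    · intro a _ ha; rw [inv_pow, ha, inv_one]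
  have : orderOf c ≤ 2 := Nat.le_of_dvd (by norm_num) (orderOf_dvd_of_pow_eq_one (hall c (hT ▸ Subgroup.mem_top c)))
  rwa [orderOf_eq_card_of_forall_mem_zpowers hc] at this

/-- The metacyclic hypothesis with a quotient of order `> 2` leaves only the homocyclic rank two case. -/
theorem shape {S : Type u} [Group S] [Finite S] (hS : IsPGroup 2 S) (hnc : ¬ IsCyclic S)
    (N : Subgroup S) [hN : N.Normal] (hNc : IsCyclic N) (hQc : IsCyclic (S ⧸ N))
    (hQ : 2 < Nat.card (S ⧸ N))
    (h : (∃ n k : ℕ, Nonempty (S ≃* Multiplicative (Fin k → ZMod (2 ^ n)))) ∨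
      (∃ m : ℕ, Nonempty (S ≃* DihedralGroup m)) ∨ (∃ m : ℕ, Nonempty (S ≃* QuaternionGroup m)) ∨
      Cfsg.IsQuasiDihedral S) :
    ∃ m : ℕ, 2 ≤ m ∧ Nonempty (S ≃* Multiplicative (ZMod (2 ^ m) × ZMod (2 ^ m))) := by
  classical
  haveI := hQc
  let π := QuotientGroup.mk' N
  have hπ : Function.Surjective π := QuotientGroup.mk'_surjective N
  have key : ∀ T : Set S, Subgroup.closure T = ⊤ → (∀ t ∈ T, (π t) ^ 2 = 1) → False := by
    intro T hT h2
    have hgen : Subgroup.closure (π '' T) = ⊤ := by
      rw [← MonoidHom.map_closure, hT, Subgroup.map_top_of_surjective π hπ]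
    have := card_le_two_of_gen (π '' T) hgen (by rintro _ ⟨t, ht, rfl⟩; exact h2 t ht)
    omega
  have hcomm : ∀ a b : S, π a * π b = π b * π a :=
    fun a b => (IsCyclic.commGroup (α := S ⧸ N)).mul_comm (π a) (π b)
  rcases h with ⟨n, k, ⟨e⟩⟩ | ⟨m, ⟨e⟩⟩ | ⟨m, ⟨e⟩⟩ | ⟨n, hn, hcard, x, y, hx, hy, hyx⟩
  · -- homocyclic
    rcases Nat.eq_zero_or_pos n with rfl | hn
    · haveI : Subsingleton (ZMod (2 ^ 0)) := by
        rw [pow_zero]; infer_instance
      haveI : Subsingleton S := e.toEquiv.subsingleton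
      exact absurd isCyclic_of_subsingleton hnc
    match k, e with
    | 0, e =>
      haveI : Subsingleton S := e.toEquiv.subsingleton
      exact absurd isCyclic_of_subsingleton hnc
    | 1, e =>
      refine absurd ?_ hnc
      let e1 : (Fin 1 → ZMod (2 ^ n)) ≃+ ZMod (2 ^ n) :=
        { toFun := fun f => f 0, invFun := fun z _ => z,
          left_inv := fun f => funext fun i => by rw [Subsingleton.elim i 0],
          right_inv := fun z => rfl, map_add' := fun f g => rfl }
      let e2 := e.trans (AddEquiv.toMultiplicative e1)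
      exact isCyclic_of_surjective e2.symm.toMonoidHom e2.symm.surjective
    | 2, e =>
      have e1 : (Fin 2 → ZMod (2 ^ n)) ≃+ ZMod (2 ^ n) × ZMod (2 ^ n) :=
        { toFun := fun f => (f 0, f 1), invFun := fun z => ![z.1, z.2],
          left_inv := fun f => funext fun i => by fin_cases i <;> rfl,
          right_inv := fun z => rfl, map_add' := fun f g => rfl }
      let e2 := e.trans (AddEquiv.toMultiplicative e1)
      refine ⟨n, ?_, ⟨e2⟩⟩
      by_contra hlt
      obtain rfl : n = 1 := by omega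
      refine key Set.univ Subgroup.closure_univ fun t _ => ?_
      have : t ^ 2 = 1 := by
        apply e.injective
        rw [map_pow, map_one]
        apply Multiplicative.toAdd.injective
        rw [toAdd_pow, toAdd_one]
        funext i
        rw [Pi.smul_apply, two_nsmul, Pi.zero_apply]
        exact CharTwo.add_self_eq_zero (R := ZMod 2) _
      rw [← map_pow, this, map_one]
    | k + 3, e =>
      exfalso
      obtain ⟨a, ha⟩ := IsCyclic.exists_generator (α := N)
      obtain ⟨b', hb'⟩ := IsCyclic.exists_generator (α := S ⧸ N)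
      obtain ⟨b, rfl⟩ := hπ b'
      have hgen : ∀ s : S, ∃ i j : ℤ, s = b ^ i * (a : S) ^ j := by
        intro s
        obtain ⟨i, hi⟩ := Subgroup.mem_zpowers_iff.mp (hb' (π s))
        have hmem : (b ^ i)⁻¹ * s ∈ N := by
          rw [← QuotientGroup.eq]; exact (map_zpow π b i).trans hi
        obtain ⟨j, hj⟩ := Subgroup.mem_zpowers_iff.mp (ha ⟨_, hmem⟩)
        refine ⟨i, j, ?_⟩
        have := congrArg (fun z : N => (z : S)) hj
        simp only [SubgroupClass.coe_zpow] at this
        rw [this]; group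
      let r : ZMod (2 ^ n) →+ ZMod 2 := (ZMod.castHom (dvd_pow_self 2 (show n ≠ 0 by omega)) (ZMod 2)).toAddMonoidHom
      let φ : S → (Fin (k + 3) → ZMod 2) := fun s i => r ((Multiplicative.toAdd (e s)) i)
      have hφ : Function.Surjective φ := by
        intro v
        have hr : Function.Surjective r := ZMod.castHom_surjective (dvd_pow_self 2 (show n ≠ 0 by omega))
        choose w hw using fun i => hr (v i)
        exact ⟨e.symm (Multiplicative.ofAdd w), by funext i; simp [φ, hw]⟩
      have hle : (Finset.univ : Finset (Fin (k + 3) → ZMod 2)) ⊆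
          Finset.univ.image (fun c : ZMod 2 × ZMod 2 => c.1 • φ b + c.2 • φ (a : S)) := by
        intro v _
        obtain ⟨s, rfl⟩ := hφ v
        obtain ⟨i, j, rfl⟩ := hgen s
        refine Finset.mem_image.mpr ⟨((i : ZMod 2), (j : ZMod 2)), Finset.mem_univ _, ?_⟩
        funext l
        simp only [φ, map_mul, map_zpow, toAdd_mul, toAdd_zpow, Pi.add_apply, Pi.smul_apply, map_add]
        rw [map_zsmul, map_zsmul]
        simp only [zsmul_eq_mul, smul_eq_mul]
      have h1 := (Finset.card_le_card hle).trans Finset.card_image_le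
      simp only [Finset.card_univ, Fintype.card_fun, Fintype.card_prod, ZMod.card, Fintype.card_fin] at h1
      have : 2 ^ 3 ≤ 2 ^ (k + 3) := Nat.pow_le_pow_right (by norm_num) (by omega)
      omega
  · -- dihedral
    exfalso
    refine key {s | s ^ 2 = 1} ?_ (fun t ht => by rw [← map_pow, ht, map_one])
    rw [eq_top_iff]
    intro s _
    have hsr : ∀ i, e.symm (DihedralGroup.sr i) ∈ Subgroup.closure {s : S | s ^ 2 = 1} := fun i =>
      Subgroup.subset_closure (by
        show _ ^ 2 = 1
        rw [← map_pow, pow_two, DihedralGroup.sr_mul_self, map_one])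
    rcases hs : e s with i | i
    · have : s = e.symm (DihedralGroup.sr 0) * e.symm (DihedralGroup.sr i) := by
        rw [← map_mul, DihedralGroup.sr_mul_sr, sub_zero, ← hs, e.symm_apply_apply]
      rw [this]; exact Subgroup.mul_mem _ (hsr _) (hsr _)
    · have := hsr i; rwa [← hs, e.symm_apply_apply] at this
  · -- quaternion
    exfalso
    obtain ⟨c, hc⟩ : ∃ c, Nat.card S = 2 ^ c := hS.exists_card_eq
    rw [Nat.card_congr e.toEquiv] at hc
    haveI : Finite (QuaternionGroup m) := Finite.of_equiv S e.toEquiv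
    have hm0 : NeZero m := ⟨fun h0 => by
      subst h0
      have hinj : Function.Injective (QuaternionGroup.a : ZMod (2 * 0) → QuaternionGroup 0) :=
        fun _ _ h => QuaternionGroup.a.inj h
      exact @Finite.false ℤ _ (Finite.of_injective _ hinj)⟩
    rw [Nat.card_eq_fintype_card, QuaternionGroup.card] at hc
    by_cases hm1 : m = 1
    · subst hm1
      refine hnc (isCyclic_of_orderOf_eq_card (e.symm (QuaternionGroup.xa 0)) ?_)
      rw [MulEquiv.orderOf_eq, QuaternionGroup.orderOf_xa, Nat.card_congr e.toEquiv,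
        Nat.card_eq_fintype_card, QuaternionGroup.card]
    · have hme : 2 ∣ m := by
        have hm2 : m ∣ 2 ^ c := ⟨4, by rw [← hc]; ring⟩
        obtain ⟨i, -, rfl⟩ := (Nat.dvd_prime_pow Nat.prime_two).mp hm2
        rcases Nat.eq_zero_or_pos i with rfl | hi
        · exact absurd (pow_zero 2) hm1
        · exact dvd_pow_self 2 (by omega)
      let x := e.symm (QuaternionGroup.a 1)
      let y := e.symm (QuaternionGroup.xa 0)
      have hgen : Subgroup.closure ({x, y} : Set S) = ⊤ := by
        rw [eq_top_iff]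
        intro s _
        have hx : ∀ i : ZMod (2 * m), e.symm (QuaternionGroup.a i) ∈ Subgroup.closure ({x, y} : Set S) := by
          intro i
          have : x ^ i.val = e.symm (QuaternionGroup.a i) := by
            rw [← map_pow, QuaternionGroup.a_one_pow, ZMod.natCast_zmod_val]
          rw [← this]; exact Subgroup.pow_mem _ (Subgroup.subset_closure (by simp)) _
        rcases hs : e s with i | i
        · have := hx i; rwa [← hs, e.symm_apply_apply] at this
        · have : s = y * e.symm (QuaternionGroup.a i) := by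
            rw [← map_mul, QuaternionGroup.xa_mul_a, zero_add, ← hs, e.symm_apply_apply]
          rw [this]; exact Subgroup.mul_mem _ (Subgroup.subset_closure (by simp)) (hx i)
      have hrel : y * x = x⁻¹ * y := by
        apply e.injective
        simp [x, y]
        show _ = QuaternionGroup.a (-1) * QuaternionGroup.xa 0
        simp
      have hx2 : π x ^ 2 = 1 := by
        have h1 : π x * π y = π x⁻¹ * π y := by
          rw [hcomm x y, ← map_mul, hrel, map_mul]
        have h2 := mul_right_cancel h1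
        rw [map_inv] at h2
        rw [pow_two]; exact mul_eq_one_iff_eq_inv.mpr h2
      refine key {x, y} hgen ?_
      intro t ht
      rcases ht with rfl | ht
      · exact hx2
      · rw [Set.mem_singleton_iff] at ht; subst ht
        have : y ^ 2 = x ^ m := by
          rw [← map_pow, ← map_pow, pow_two, QuaternionGroup.xa_mul_xa, QuaternionGroup.a_one_pow]
          simp
        rw [← map_pow, this, map_pow]
        obtain ⟨l, rfl⟩ := hme
        rw [pow_mul, hx2, one_pow]
  · -- quasidihedral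
    exfalso
    obtain ⟨j, rfl⟩ : ∃ j, n = j + 3 := ⟨n - 3, by omega⟩
    set r := 2 ^ (j + 3 - 1) - 1 with hr
    have hr' : r - 1 = 2 * (2 ^ (j + 1) - 1) ∧ 1 ≤ r := by
      have : 2 ^ (j + 3 - 1) = 2 * 2 ^ (j + 1) := by
        rw [show j + 3 - 1 = j + 1 + 1 from rfl, pow_succ, mul_comm]
      have : 1 ≤ 2 ^ (j + 1) := Nat.one_le_pow _ _ (by norm_num)
      omega
    have hxy : y ∉ Subgroup.zpowers x := by
      rintro ⟨i, rfl⟩
      have h1 : x = x ^ r := by
        rw [← hyx, ((Commute.refl x).zpow_left i).eq, mul_inv_cancel_right]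
      have h2 : x ^ (r - 1) = 1 := by
        have : x ^ (r - 1) * x = 1 * x := by
          rw [← pow_succ, Nat.sub_add_cancel hr'.2, one_mul, ← h1]
        exact mul_right_cancel this
      have h3 := orderOf_dvd_of_pow_eq_one h2
      rw [hx, hr'.1] at h3
      have h4 : 2 ^ (j + 3) ≤ 2 * (2 ^ (j + 1) - 1) :=
        Nat.le_of_dvd (by have : 2 ≤ 2 ^ (j + 1) := Nat.le_self_pow (by omega) 2; omega) h3
      have : 2 ^ (j + 3) = 4 * 2 ^ (j + 1) := by rw [pow_add, pow_add]; ring
      omega
    have hgen : Subgroup.closure ({x, y} : Set S) = ⊤ := by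
      set H := Subgroup.closure ({x, y} : Set S) with hH
      have hle : Subgroup.zpowers x ≤ H := Subgroup.zpowers_le.mpr (Subgroup.subset_closure (by simp))
      have hne : Subgroup.zpowers x ≠ H := fun h => hxy (h ▸ Subgroup.subset_closure (by simp))
      have hlt : 2 ^ (j + 3) < Nat.card H := by
        rw [← hx, ← Nat.card_zpowers]
        by_contra hle'
        exact hne (Subgroup.eq_of_le_of_card_ge hle (Nat.le_of_not_lt hle'))
      obtain ⟨i, hi, hi'⟩ := (Nat.dvd_prime_pow Nat.prime_two).mp (hcard ▸ H.card_subgroup_dvd_card)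
      apply Subgroup.eq_top_of_card_eq
      rw [hi'] at hlt ⊢
      have := (Nat.pow_lt_pow_iff_right (by norm_num : 1 < 2)).mp hlt
      rw [hcard, show i = j + 3 + 1 by omega]
    refine key {x, y} hgen ?_
    intro t ht
    rcases ht with rfl | ht
    · have h1 : π t ^ (r - 1) = 1 := by
        have h2 : π t = π t ^ r := by
          rw [← map_pow, ← hyx, map_mul, map_mul, map_inv, hcomm y t, mul_inv_cancel_right]
        have : π t ^ (r - 1) * π t = 1 * π t := by
          rw [← pow_succ, Nat.sub_add_cancel hr'.2, one_mul, ← h2]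
        exact mul_right_cancel this
      have h2 : π t ^ (2 ^ (j + 3)) = 1 := by rw [← map_pow, ← hx, pow_orderOf_eq_one, map_one]
      have := pow_gcd_eq_one.mpr ⟨h1, h2⟩
      rw [hr'.1, show 2 ^ (j + 3) = 2 * 2 ^ (j + 2) by rw [pow_succ, mul_comm], Nat.gcd_mul_left] at this
      have hco : Nat.gcd (2 ^ (j + 1) - 1) (2 ^ (j + 2)) = 1 := by
        apply Nat.Coprime.pow_right
        rw [Nat.coprime_two_right, Nat.odd_iff]
        have : 2 ^ (j + 1) % 2 = 0 := by rw [pow_succ]; simp
        have : 1 ≤ 2 ^ (j + 1) := Nat.one_le_pow _ _ (by norm_num)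
        omega
      rwa [hco, mul_one] at this
    · rw [Set.mem_singleton_iff] at ht; subst ht
      rw [← map_pow, ← hy, pow_orderOf_eq_one, map_one]

/-- Inner fusion on a Sylow 2-subgroup gives a normal complement. -/
theorem complement_of_inner {G : Type u} [Group G] [Finite G] (P : Sylow 2 G)
    (hF : ∀ Q : Subgroup G, (Cfsg.groupFusionSystem (P : Subgroup G)).Hom Q =
      (Cfsg.innerFusionSystem (P : Subgroup G)).Hom Q) :
    ∃ K : Subgroup G, K.Normal ∧ K.IsComplement' (P : Subgroup G) := by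
  haveI : Fact (Nat.Prime 2) := ⟨Nat.prime_two⟩
  refine (Cfsg.Agent.S0071.result P).mpr fun Q hQ g hg hcop => ?_
  have hnorm : ∀ x ∈ Q, g * x * g⁻¹ ∈ Q := fun x hx => (Subgroup.mem_normalizer_iff.mp hg x).mp hx
  let φ : ↥Q →* G := (MulAut.conj g).toMonoidHom.comp Q.subtype
  have hmem : φ ∈ (Cfsg.groupFusionSystem (P : Subgroup G)).Hom Q :=
    ⟨hQ, fun x => hQ (hnorm _ x.2), g, fun x => rfl⟩
  rw [hF] at hmem
  obtain ⟨-, s, hs, hs'⟩ := hmem
  have heq : ∀ x ∈ Q, g * x * g⁻¹ = s * x * s⁻¹ := fun x hx => hs' ⟨x, hx⟩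
  have hpow : ∀ (k : ℕ), ∀ x ∈ Q, g ^ k * x * (g ^ k)⁻¹ = s ^ k * x * (s ^ k)⁻¹ := by
    intro k
    induction k with
    | zero => intro x _; simp
    | succ k ih =>
      intro x hx
      calc g ^ (k + 1) * x * (g ^ (k + 1))⁻¹ = g ^ k * (g * x * g⁻¹) * (g ^ k)⁻¹ := by
            rw [pow_succ]; group
        _ = s ^ k * (g * x * g⁻¹) * (s ^ k)⁻¹ := ih _ (hnorm x hx)
        _ = s ^ (k + 1) * x * (s ^ (k + 1))⁻¹ := by rw [heq x hx, pow_succ]; group
  obtain ⟨c, hc⟩ : ∃ c, orderOf (⟨s, hs⟩ : (P : Subgroup G)) = 2 ^ c :=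
    IsPGroup.iff_orderOf.mp P.isPGroup' _
  rw [Subgroup.orderOf_mk] at hc
  have hcent : g ^ (2 ^ c) ∈ Subgroup.centralizer (Q : Set G) := by
    rw [Subgroup.mem_centralizer_iff]
    intro x hx
    have := hpow (2 ^ c) x hx
    rw [show s ^ (2 ^ c) = 1 by rw [← hc]; exact pow_orderOf_eq_one s] at this
    rw [inv_one, mul_one, one_mul, mul_inv_eq_iff_eq_mul] at this
    exact this.symm
  obtain ⟨l, hl⟩ : ∃ l : ℕ, (g ^ (2 ^ c)) ^ l = g :=
    exists_pow_eq_self_of_coprime ((hcop.pow_right c).symm)
  rw [← hl]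
  exact Subgroup.pow_mem _ hcent l

/-- A finite group is solvable if it has an odd normal subgroup with 2-group quotient (given `hFT`). -/
theorem solvable_of_ext {G : Type u} [Group G] [Finite G] (K : Subgroup G) [K.Normal]
    (hK : Group.IsSolvable K) (hQ : Group.IsSolvable (G ⧸ K)) : Group.IsSolvable G := by
  haveI := hK; haveI := hQ
  exact Group.isSolvable_of_ker_le_range K.subtype (QuotientGroup.mk' K)
    (by rw [QuotientGroup.ker_mk', Subgroup.range_subtype])

/-- Main theorem. -/
theorem solvable (hFT : ∀ (X : Type u) [Group X] [Finite X], Odd (Nat.card X) → Group.IsSolvable X)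
    {G : Type u} [Group G] [Finite G] (S : Sylow 2 G) (N : Subgroup ↥(S : Subgroup G)) [hN : N.Normal]
    (hNc : IsCyclic N) (hQc : IsCyclic (↥(S : Subgroup G) ⧸ N))
    (hQ : 2 < Nat.card (↥(S : Subgroup G) ⧸ N)) : Group.IsSolvable G := by
  classical
  haveI : Fact (Nat.Prime 2) := ⟨Nat.prime_two⟩
  have hcomp : (∃ K : Subgroup G, K.Normal ∧ K.IsComplement' (S : Subgroup G)) → Group.IsSolvable G := by
    rintro ⟨K, hK, hKc⟩
    haveI := hK
    have hodd : Odd (Nat.card K) := by
      rw [← hKc.index_eq_card, Nat.odd_iff]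
      have := S.not_dvd_index
      omega
    refine solvable_of_ext K (hFT K hodd) ?_
    haveI : Group.IsNilpotent ↥(S : Subgroup G) := S.isPGroup'.isNilpotent
    refine Group.isSolvable_of_surjective (f := (QuotientGroup.mk' K).comp (S : Subgroup G).subtype) ?_
    intro q
    obtain ⟨x, rfl⟩ := QuotientGroup.mk'_surjective K q
    obtain ⟨⟨k, t⟩, rfl⟩ := hKc.2 x
    refine ⟨t, ?_⟩
    show QuotientGroup.mk' K (t : G) = QuotientGroup.mk' K ((k : G) * (t : G))
    have hk : QuotientGroup.mk' K (k : G) = 1 := (QuotientGroup.eq_one_iff (k : G)).mpr k.2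
    rw [map_mul, hk, one_mul]
  by_cases hnp : ∃ K : Subgroup G, K.Normal ∧ K.IsComplement' (S : Subgroup G)
  · exact hcomp hnp
  have hnc : ¬ IsCyclic ↥(S : Subgroup G) := by
    intro hcyc
    refine hnp ((Cfsg.Agent.S0071.result S).mpr fun Q hQ' g hg hcop => ?_)
    haveI : IsCyclic ↥Q := isCyclic_of_injective (Subgroup.inclusion hQ') (Subgroup.inclusion_injective hQ')
    obtain ⟨q, hq⟩ := IsCyclic.exists_generator (α := Q)
    have hQ2 : IsPGroup 2 Q := S.isPGroup'.to_le hQ'
    obtain ⟨c, hc⟩ := hQ2.exists_card_eq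
    let α : ↥(Subgroup.normalizer (Q : Set G)) →* MulAut Q := Q.normalizerMonoidHom
    have hαcard : IsPGroup 2 (MulAut Q) := by
      apply IsPGroup.of_card (n := c - 1)
      rw [IsCyclic.card_mulAut, hc]
      rcases Nat.eq_zero_or_pos c with rfl | hc0
      · simp
      · rw [Nat.totient_prime_pow Nat.prime_two hc0]; simp
    have h1 : α ⟨g, hg⟩ = 1 := by
      obtain ⟨i, hi⟩ := IsPGroup.iff_orderOf.mp hαcard (α ⟨g, hg⟩)
      rw [← orderOf_eq_one_iff]
      have hd := orderOf_map_dvd α ⟨g, hg⟩
      rw [Subgroup.orderOf_mk, hi] at hd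
      rw [hi]
      exact Nat.eq_one_of_dvd_coprimes (hcop.symm.pow_left i) dvd_rfl hd
    have h2 : ⟨g, hg⟩ ∈ α.ker := h1
    rw [Subgroup.normalizerMonoidHom_ker] at h2
    exact h2
  have hshape : ∃ m : ℕ, 2 ≤ m ∧
      Nonempty (↥(S : Subgroup G) ≃* Multiplicative (ZMod (2 ^ m) × ZMod (2 ^ m))) := by
    refine shape S.isPGroup' hnc N hNc hQc hQ ?_
    by_contra hcon
    push Not at hcon
    obtain ⟨hh, hd, hq, hsd⟩ := hcon
    refine hnp (complement_of_inner S fun Q => ?_)
    rw [Cfsg.Agent.FusionMetacyclicResistant.inner_of_metacyclic S.isPGroup'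
      (Cfsg.Agent.FusionSysGroup.saturated_group S) ⟨N, hN, hNc, hQc⟩
      (fun ⟨n, k, e⟩ => (hh n k).false e.some) (fun ⟨m, e⟩ => (hd m).false e.some)
      (fun ⟨m, e⟩ => (hq m).false e.some) hsd]
  obtain ⟨m, hm, ⟨e⟩⟩ := hshape
  -- pass to the quotient by a maximal odd normal subgroup
  obtain ⟨K, ⟨hK, hKodd⟩, hKmax⟩ : ∃ K : Subgroup G, (K.Normal ∧ Odd (Nat.card K)) ∧
      ∀ L : Subgroup G, L.Normal ∧ Odd (Nat.card L) → K ≤ L → L = K := by
    obtain ⟨K, hK⟩ := (Set.toFinite {L : Subgroup G | L.Normal ∧ Odd (Nat.card L)}).exists_maximal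
      ⟨⊥, inferInstance, by simp⟩
    exact ⟨K, hK.1, fun L hL hle => le_antisymm (hK.2 hL hle) hle⟩
  haveI := hK
  let π := QuotientGroup.mk' K
  have hπ : Function.Surjective π := QuotientGroup.mk'_surjective K
  let S' : Sylow 2 (G ⧸ K) := S.mapSurjective hπ
  have hinj : Function.Injective (π.subgroupMap (S : Subgroup G)) := by
    rw [injective_iff_map_eq_one]
    intro x hx
    have hxK : (x : G) ∈ K := (QuotientGroup.eq_one_iff (x : G)).mp (congrArg Subtype.val hx)
    obtain ⟨i, hi⟩ := IsPGroup.iff_orderOf.mp S.isPGroup' x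
    have hd : orderOf (x : G) ∣ Nat.card K := Subgroup.orderOf_dvd_natCard _ hxK
    rw [Subgroup.orderOf_coe, hi] at hd
    have : i = 0 := by
      rcases Nat.eq_zero_or_pos i with h0 | hpos
      · exact h0
      · exact absurd (hKodd.of_dvd_nat hd) (by simp [Nat.not_odd_iff_even, Nat.even_pow]; omega)
    rwa [this, pow_zero, orderOf_eq_one_iff] at hi
  let e' : ↥(S' : Subgroup (G ⧸ K)) ≃* Multiplicative (ZMod (2 ^ m) × ZMod (2 ^ m)) :=
    ((MulEquiv.ofBijective (π.subgroupMap (S : Subgroup G))
      ⟨hinj, MonoidHom.subgroupMap_surjective π _⟩).symm).trans e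
  have hO : ∀ L : Subgroup (G ⧸ K), L.Normal → Odd (Nat.card L) → L = ⊥ := by
    intro L hL hLodd
    have hcard : Nat.card (L.comap π) = Nat.card L * Nat.card K := by
      have h1 := (L.comap π).card_mul_index
      rw [Subgroup.index_comap_of_surjective _ hπ] at h1
      have h2 := L.card_mul_index
      have h3 := K.card_mul_index
      rw [Subgroup.index_eq_card K] at h3
      have hpos : 0 < L.index := Nat.pos_of_ne_zero Subgroup.index_ne_zero_of_finite
      apply Nat.eq_of_mul_eq_mul_right hpos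
      rw [h1, ← h3, ← h2]; ring
    have := hKmax (L.comap π) ⟨hL.comap π, by rw [hcard]; exact hLodd.mul hKodd⟩ (fun x hx => by
      show π x ∈ L
      have h1 : π x = 1 := (QuotientGroup.eq_one_iff x).mpr hx
      rw [h1]; exact L.one_mem)
    rw [← Subgroup.map_comap_eq_self_of_surjective hπ L, this]
    exact (Subgroup.map_eq_bot_iff _).mpr (by rw [QuotientGroup.ker_mk'])
  obtain ⟨hn', -, hidx⟩ := Cfsg.Agent.S0949.result S' m hm e' hO
  refine solvable_of_ext K (hFT K hKodd) ?_
  haveI := hn'
  haveI : Group.IsNilpotent ↥(S' : Subgroup (G ⧸ K)) := S'.isPGroup'.isNilpotent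
  refine solvable_of_ext (S' : Subgroup (G ⧸ K)) inferInstance ?_
  rcases hidx with h | h
  · haveI : Subsingleton ((G ⧸ K) ⧸ (S' : Subgroup (G ⧸ K))) := by
      rw [← Finite.card_le_one_iff_subsingleton, ← Subgroup.index_eq_card, h]
    infer_instance
  · haveI : Fact (Nat.Prime 3) := ⟨Nat.prime_three⟩
    haveI := isCyclic_of_prime_card (α := (G ⧸ K) ⧸ (S' : Subgroup (G ⧸ K))) (p := 3)
      (by rw [← Subgroup.index_eq_card, h])
    letI := IsCyclic.commGroup (α := (G ⧸ K) ⧸ (S' : Subgroup (G ⧸ K)))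
    exact Group.isSolvable_of_comm fun a b => mul_comm a b

end Cfsg.Agent.H74MetacyclicSylow
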