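import Mathlib

/-!
An elementary abelian 2-group of automorphisms of an elementary abelian 2-group `M`, acting
faithfully on an odd nilpotent group of automorphisms, with `|M| ≤ |E| |C_M(E)|`, cannot have all
non-identity elements with fixed subgroups of the same size (when `|E| ≥ 3`).
-/

set_option autoImplicit false

namespace Cfsg.Agent.H74Offender

section Odd

variable {G : Type*} [Group G]

theorem eq_one_of_sq {a : G} {k : ℕ} (hk : Odd k) (ha : a ^ k = 1) (h2 : a * a = 1) : a = 1 := by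
  obtain ⟨j, rfl⟩ := hk
  rwa [pow_succ, pow_mul, pow_two, h2, one_pow, one_mul] at ha

theorem odd_pow_of_card (F : Subgroup G) (hF : Odd (Nat.card F)) {a : G} (ha : a ∈ F) :
    a ^ Nat.card F = 1 :=
  congrArg Subtype.val (pow_card_eq_one' (x := (⟨a, ha⟩ : F)))

theorem mem_zpowers_sq {a : G} {k : ℕ} (hk : Odd k) (ha : a ^ k = 1) :
    a ∈ Subgroup.zpowers (a * a) := by
  obtain ⟨j, rfl⟩ := hk
  refine ⟨((j + 1 : ℕ) : ℤ), ?_⟩
  show (a * a) ^ ((j + 1 : ℕ) : ℤ) = a
  rw [zpow_natCast, ← pow_two, ← pow_mul, show 2 * (j + 1) = (2 * j + 1) + 1 by ring, pow_succ, ha,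
    one_mul]

theorem comm_of_sq {a b : G} (ha : a * a = 1) (hb : b * b = 1) (hab : a * b * (a * b) = 1) :
    a * b = b * a := by
  rw [← inv_eq_of_mul_eq_one_right hab, mul_inv_rev, inv_eq_of_mul_eq_one_right ha,
    inv_eq_of_mul_eq_one_right hb]

end Odd

section Eigen

variable {A : Type*} [CommGroup A] {ι : Type*}

/-- An abelian group of odd exponent acted on by commuting involutions is generated by the
elements that are fixed or inverted by each of them. -/
theorem mem_closure_eigen (hA : ∀ a : A, ∃ k, Odd k ∧ a ^ k = 1) (θ : ι → (A →* A))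
    (T : Finset ι) (hinvol : ∀ i ∈ T, ∀ a, θ i (θ i a) = a)
    (hcomm : ∀ i ∈ T, ∀ j ∈ T, ∀ a, θ i (θ j a) = θ j (θ i a)) (a : A) :
    a ∈ Subgroup.closure {c : A | ∀ i ∈ T, θ i c = c ∨ θ i c = c⁻¹} := by
  classical
  induction T using Finset.induction_on generalizing a with
  | empty => exact Subgroup.subset_closure (by simp)
  | @insert j T hj ih =>
    have hall := fun x => ih (fun i hi => hinvol i (Finset.mem_insert_of_mem hi))
      (fun i hi l hl => hcomm i (Finset.mem_insert_of_mem hi) l (Finset.mem_insert_of_mem hl)) x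
    refine (Subgroup.closure_le _).2 (fun c hc => ?_) (hall a)
    set U := Subgroup.closure {c : A | ∀ i ∈ insert j T, θ i c = c ∨ θ i c = c⁻¹}
    have hj2 := hinvol j (Finset.mem_insert_self j T)
    have h1 : c * θ j c ∈ U := by
      refine Subgroup.subset_closure fun i hi => ?_
      rcases Finset.mem_insert.1 hi with rfl | hi'
      · left; rw [map_mul, hj2, mul_comm]
      · rcases hc i hi' with h | h
        · left
          rw [map_mul, hcomm i hi j (Finset.mem_insert_self j T), h]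
        · right
          rw [map_mul, hcomm i hi j (Finset.mem_insert_self j T), h, map_inv, mul_inv]
    have h2 : c * (θ j c)⁻¹ ∈ U := by
      refine Subgroup.subset_closure fun i hi => ?_
      rcases Finset.mem_insert.1 hi with rfl | hi'
      · right; rw [map_mul, map_inv, hj2, mul_inv, inv_inv, mul_comm]
      · rcases hc i hi' with h | h
        · left
          rw [map_mul, map_inv, hcomm i hi j (Finset.mem_insert_self j T), h]
        · right
          rw [map_mul, map_inv, hcomm i hi j (Finset.mem_insert_self j T), h, map_inv, mul_inv]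
    have h3 : c * c ∈ U := by
      have := U.mul_mem h1 h2
      rwa [mul_mul_mul_comm, mul_inv_cancel, mul_one] at this
    obtain ⟨k, hk, hk'⟩ := hA c
    exact (Subgroup.zpowers_le.2 h3) (mem_zpowers_sq hk hk')

end Eigen

section System

variable {Γ : Type*} [Group Γ]

/-- `f` is fixed or inverted by every element of `E`. -/
def Eig (E : Subgroup Γ) (c : Γ) : Prop := ∀ e ∈ E, e * c * e⁻¹ = c ∨ e * c * e⁻¹ = c⁻¹

theorem exists_good [Finite Γ] {E F : Subgroup Γ} (hE2 : ∀ x ∈ E, x * x = 1)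
    (hodd : Odd (Nat.card F)) (hnil : Group.IsNilpotent F)
    (hn : ∀ e ∈ E, ∀ f ∈ F, e * f * e⁻¹ ∈ F)
    (hfaith : ∀ e ∈ E, (∀ f ∈ F, e * f * e⁻¹ = f) → e = 1) :
    ∃ A : Subgroup Γ, A ≤ F ∧ (∀ x ∈ A, ∀ y ∈ A, x * y = y * x) ∧
      (∀ e ∈ E, ∀ a ∈ A, e * a * e⁻¹ ∈ A) ∧ ∀ e ∈ E, (∀ a ∈ A, e * a * e⁻¹ = a) → e = 1 := by
  classical
  let S : Set (Subgroup Γ) := {A | A ≤ F ∧ (∀ x ∈ A, ∀ y ∈ A, x * y = y * x) ∧
    ∀ e ∈ E, ∀ a ∈ A, e * a * e⁻¹ ∈ A}
  obtain ⟨A, hA⟩ := (Set.toFinite S).exists_maximal (⟨⊥, bot_le, fun x hx y hy => by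
    rw [Subgroup.mem_bot] at hx hy; rw [hx, hy], fun e _ a ha => by
    rw [Subgroup.mem_bot] at ha ⊢; rw [ha]; group⟩ : S.Nonempty)
  obtain ⟨hAF, hAc, hAE⟩ := hA.1
  refine ⟨A, hAF, hAc, hAE, ?_⟩
  have hEc : ∀ a ∈ E, ∀ b ∈ E, a * b = b * a := fun a ha b hb =>
    comm_of_sq (hE2 a ha) (hE2 b hb) (hE2 _ (E.mul_mem ha hb))
  -- A is self-centralizing in F
  let C : Subgroup Γ := F ⊓ Subgroup.centralizer (A : Set Γ)
  have hAC : A ≤ C := fun a ha => ⟨hAF ha, Subgroup.mem_centralizer_iff.2 fun b hb => hAc b hb a ha⟩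
  have hCE : ∀ e ∈ E, ∀ c ∈ C, e * c * e⁻¹ ∈ C := fun e he c hc =>
    ⟨hn e he c hc.1, Subgroup.mem_centralizer_iff.2 fun a ha => by
      have h1 := Subgroup.mem_centralizer_iff.1 hc.2 _ (hAE e⁻¹ (E.inv_mem he) a ha)
      calc a * (e * c * e⁻¹) = e * ((e⁻¹ * a * (e⁻¹)⁻¹) * c) * e⁻¹ := by group
        _ = e * (c * (e⁻¹ * a * (e⁻¹)⁻¹)) * e⁻¹ := by rw [h1]
        _ = _ := by group⟩
  have hCA : C ≤ A := by
    by_contra hCA
    haveI hnC : Group.IsNilpotent C := by
      haveI := hnil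
      exact Group.nilpotent_of_mulEquiv (Subgroup.subgroupOfEquivOfLe (inf_le_left : C ≤ F))
    let A' := A.subgroupOf C
    haveI : A'.Normal := ⟨fun a ha g => by
      have h1 := Subgroup.mem_centralizer_iff.1 g.2.2 _ ha
      show (g : Γ) * (a : Γ) * (g : Γ)⁻¹ ∈ A
      have h1' : (a : Γ) * (g : Γ) = (g : Γ) * (a : Γ) := h1
      rw [← h1', mul_inv_cancel_right]
      exact ha⟩
    let θ : E → (C →* C) := fun e =>
      { toFun := fun c => ⟨(e : Γ) * c * (e : Γ)⁻¹, hCE _ e.2 _ c.2⟩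
        map_one' := Subtype.ext (by simp)
        map_mul' := fun x y => Subtype.ext (by simp [mul_assoc]) }
    have hθA : ∀ e, A' ≤ A'.comap (θ e) := fun e c hc => hAE _ e.2 _ hc
    let θQ : E → (C ⧸ A' →* C ⧸ A') := fun e => QuotientGroup.map A' A' (θ e) (hθA e)
    have hθθ : ∀ e c, θ e (θ e c) = c := fun e c => Subtype.ext (by
      show (e : Γ) * ((e : Γ) * c * (e : Γ)⁻¹) * (e : Γ)⁻¹ = c
      rw [inv_eq_of_mul_eq_one_right (hE2 _ e.2)]
      calc (e : Γ) * (e * c * e) * e = ((e : Γ) * e) * c * (e * e) := by group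
        _ = c := by rw [hE2 _ e.2]; group)
    have hθc : ∀ e e' c, θ e (θ e' c) = θ e' (θ e c) := fun e e' c => Subtype.ext (by
      show (e : Γ) * ((e' : Γ) * c * (e' : Γ)⁻¹) * (e : Γ)⁻¹ =
        (e' : Γ) * ((e : Γ) * c * (e : Γ)⁻¹) * (e' : Γ)⁻¹
      calc (e : Γ) * ((e' : Γ) * c * (e' : Γ)⁻¹) * (e : Γ)⁻¹
          = ((e : Γ) * e') * c * ((e : Γ) * e')⁻¹ := by group
        _ = ((e' : Γ) * e) * c * ((e' : Γ) * e)⁻¹ := by rw [hEc _ e.2 _ e'.2]
        _ = _ := by group)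
    let Z := Subgroup.center (C ⧸ A')
    have hZ : Z ≠ ⊥ := by
      haveI : Nontrivial (C ⧸ A') := QuotientGroup.nontrivial_iff.2 fun h => hCA (Subgroup.subgroupOf_eq_top.1 h)
      intro h
      haveI : Group.IsNilpotent (C ⧸ A') := inferInstance
      exact Group.IsNilpotent.center_ne_bot (G := C ⧸ A') h
    have hθZ : ∀ e z, z ∈ Z → θQ e z ∈ Z := fun e z hz => by
      refine Subgroup.mem_center_iff.2 fun w => ?_
      have h := congrArg (θQ e) (Subgroup.mem_center_iff.1 hz (θQ e w))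
      rw [map_mul, map_mul] at h
      have hw : θQ e (θQ e w) = w := by
        induction w using QuotientGroup.induction_on with
        | H w => exact congrArg QuotientGroup.mk (hθθ e w)
      rwa [hw] at h
    letI : CommGroup Z := { (inferInstance : Group Z) with
      mul_comm := fun x y => Subtype.ext (Subgroup.mem_center_iff.1 y.2 x.1) }
    let θZ : E → (Z →* Z) := fun e =>
      { toFun := fun z => ⟨θQ e z, hθZ e _ z.2⟩
        map_one' := Subtype.ext (map_one _)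
        map_mul' := fun x y => Subtype.ext (map_mul _ _ _) }
    have hgen := mem_closure_eigen (A := Z) (fun z => by
        obtain ⟨c, hc⟩ := QuotientGroup.mk_surjective (z : C ⧸ A')
        refine ⟨Nat.card F, hodd, Subtype.ext ?_⟩
        show (z : C ⧸ A') ^ Nat.card F = 1
        rw [← hc, ← QuotientGroup.mk_pow]
        refine (QuotientGroup.eq_one_iff _).2 ?_
        show ((c ^ Nat.card F : C) : Γ) ∈ A
        rw [SubmonoidClass.coe_pow, odd_pow_of_card F hodd c.2.1]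
        exact A.one_mem)
      θZ (Set.toFinite (Set.univ : Set E)).toFinset
      (fun e _ z => Subtype.ext (by
        show θQ e (θQ e z) = z
        generalize (z : C ⧸ A') = w
        induction w using QuotientGroup.induction_on with
        | H w => exact congrArg QuotientGroup.mk (hθθ e w)))
      (fun e _ e' _ z => Subtype.ext (by
        show θQ e (θQ e' z) = θQ e' (θQ e z)
        generalize (z : C ⧸ A') = w
        induction w using QuotientGroup.induction_on with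
        | H w => exact congrArg QuotientGroup.mk (hθc e e' w)))
    obtain ⟨c, hc1, hc⟩ : ∃ c : C, (c : Γ) ∉ A ∧ ∀ e : E,
        (θ e c : C ⧸ A') = c ∨ (θ e c : C ⧸ A') = (c : C ⧸ A')⁻¹ := by
      by_contra hno
      apply hZ
      rw [eq_bot_iff]
      intro z hz
      have h := hgen ⟨z, hz⟩
      have hle : Subgroup.closure {w : Z | ∀ e ∈ (Set.toFinite (Set.univ : Set E)).toFinset,
          θZ e w = w ∨ θZ e w = w⁻¹} ≤ ⊥ := by
        rw [Subgroup.closure_le]
        intro w hw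
        obtain ⟨c, hc⟩ := QuotientGroup.mk_surjective (w : C ⧸ A')
        by_contra hne
        apply hno
        refine ⟨c, fun hcA => hne (Subtype.ext ?_), fun e => ?_⟩
        · show (w : C ⧸ A') = 1
          rw [← hc]
          exact (QuotientGroup.eq_one_iff _).2 hcA
        · have := hw e (by simp)
          rcases this with h | h
          · left; have := congrArg Subtype.val h; rwa [show (θZ e w : C ⧸ A') = θQ e w from rfl, ← hc] at this
          · right; have := congrArg Subtype.val h; rwa [show (θZ e w : C ⧸ A') = θQ e w from rfl, InvMemClass.coe_inv, ← hc] at this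
      exact Subgroup.mem_bot.2 (congrArg Subtype.val (Subgroup.mem_bot.1 (hle h)))
    let B := A ⊔ Subgroup.zpowers (c : Γ)
    have hB : B ∈ S := by
      refine ⟨sup_le hAF (Subgroup.zpowers_le.2 c.2.1), ?_, ?_⟩
      · have h1 : B ≤ Subgroup.centralizer (B : Set Γ) := by
          have hA1 : A ≤ Subgroup.centralizer (B : Set Γ) := Subgroup.le_centralizer_iff.1
            (sup_le (fun a ha => (hAC ha).2) (Subgroup.zpowers_le.2 c.2.2))
          refine sup_le hA1 (Subgroup.le_centralizer_iff.1 (sup_le ?_ ?_))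
          · exact fun a ha => Subgroup.mem_centralizer_iff.2 (by
              rintro _ ⟨i, rfl⟩
              exact ((show Commute a (c : Γ) from Subgroup.mem_centralizer_iff.1 c.2.2 a ha).zpow_right i).eq.symm)
          · exact fun x hx => Subgroup.mem_centralizer_iff.2 (by
              obtain ⟨j, rfl⟩ := hx
              rintro _ ⟨i, rfl⟩
              exact ((Commute.refl (c : Γ)).zpow_zpow i j).eq)
        exact fun x hx y hy => Subgroup.mem_centralizer_iff.1 (h1 hy) x hx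
      · intro e he
        have hle : B ≤ B.comap (MulAut.conj e).toMonoidHom := by
          refine sup_le (fun a ha => Subgroup.mem_sup_left (hAE e he a ha)) (Subgroup.zpowers_le.2 ?_)
          show e * (c : Γ) * e⁻¹ ∈ B
          rcases hc ⟨e, he⟩ with h | h
          · rw [eq_comm, QuotientGroup.eq] at h
            have h' : (c : Γ)⁻¹ * (e * c * e⁻¹) ∈ A := h
            have := B.mul_mem (Subgroup.mem_sup_right (Subgroup.mem_zpowers (c : Γ)))
              (Subgroup.mem_sup_left h')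
            rwa [mul_inv_cancel_left] at this
          · rw [← QuotientGroup.mk_inv, eq_comm, QuotientGroup.eq] at h
            have h' : ((c : Γ)⁻¹)⁻¹ * (e * c * e⁻¹) ∈ A := h
            have := B.mul_mem (B.inv_mem (Subgroup.mem_sup_right (Subgroup.mem_zpowers (c : Γ))))
              (Subgroup.mem_sup_left h')
            rwa [mul_inv_cancel_left] at this
        exact fun b hb => hle hb
    exact hc1 (hA.2 hB le_sup_left (Subgroup.mem_sup_right (Subgroup.mem_zpowers (c : Γ))))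
  intro e he hea
  apply hfaith e he
  -- the fixed points of e in F
  let K : Subgroup Γ := F ⊓ Subgroup.centralizer ({e} : Set Γ)
  have hKmem : ∀ {f : Γ}, f ∈ K ↔ f ∈ F ∧ e * f * e⁻¹ = f := fun {f} => by
    show f ∈ F ∧ f ∈ Subgroup.centralizer ({e} : Set Γ) ↔ _
    rw [Subgroup.mem_centralizer_singleton_iff]
    exact and_congr_right fun _ => ⟨fun h => by rw [← h, mul_inv_cancel_right],
      fun h => by conv_lhs => rw [← h]
                  group⟩
  intro f hf
  by_contra hne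
  haveI := hnil
  have hlt : K.subgroupOf F < ⊤ := lt_top_iff_ne_top.2 fun h =>
    hne (hKmem.1 (Subgroup.subgroupOf_eq_top.1 h hf)).2
  obtain ⟨n, hnN, hnK⟩ :=
    SetLike.exists_of_lt (Group.normalizerCondition_of_isNilpotent (G := F) _ hlt)
  apply hnK
  show (n : Γ) ∈ K
  refine hKmem.2 ⟨n.2, ?_⟩
  set a := (n : Γ)⁻¹ * (e * n * e⁻¹) with hadef
  have haA : a ∈ A := hCA ⟨F.mul_mem (F.inv_mem n.2) (hn e he n n.2),
    Subgroup.mem_centralizer_iff.2 fun x hx => by
      have hx1 : x ∈ K := hKmem.2 ⟨hAF hx, hea x hx⟩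
      have hx2 := (Subgroup.mem_normalizer_iff.1 hnN ⟨x, hAF hx⟩).1 hx1
      have hx3 := (hKmem.1 (show (n : Γ) * x * (n : Γ)⁻¹ ∈ K from hx2)).2
      have h4 : e * x * e⁻¹ = x := hea x hx
      calc x * a = (n : Γ)⁻¹ * ((n : Γ) * x * (n : Γ)⁻¹) * (e * n * e⁻¹) := by rw [hadef]; group
        _ = (n : Γ)⁻¹ * (e * ((n : Γ) * x * (n : Γ)⁻¹) * e⁻¹) * (e * n * e⁻¹) := by rw [hx3]
        _ = (n : Γ)⁻¹ * (e * n * e⁻¹) * (e * x * e⁻¹) := by group
        _ = _ := by rw [h4]⟩
  have h2 : a * a = 1 := by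
    have hea' := hea a haA
    have hee : e⁻¹ = e := inv_eq_of_mul_eq_one_right (hE2 e he)
    calc a * a = a * (e * a * e⁻¹) := by rw [hea']
      _ = (n : Γ)⁻¹ * (e * n * e⁻¹) * (e * ((n : Γ)⁻¹ * (e * n * e⁻¹)) * e⁻¹) := by rw [hadef]
      _ = (n : Γ)⁻¹ * ((e * e) * n * (e⁻¹ * e⁻¹)) := by group
      _ = 1 := by rw [hee, hE2 e he]; group
  have h1 := eq_one_of_sq hodd (odd_pow_of_card F hodd (hAF haA)) h2
  rw [hadef] at h1
  exact (inv_mul_eq_one.1 h1).symm

theorem exists_adjust {b : ℕ} {E : Subgroup Γ} (hE2 : ∀ x ∈ E, x * x = 1) (e f : Fin b → Γ)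
    (he : ∀ i, e i ∈ E)
    (hii : ∀ i, e i * f i * (e i)⁻¹ = (f i)⁻¹)
    (hij : ∀ i j, i ≠ j → e i * f j * (e i)⁻¹ = f j)
    (H : Subgroup Γ) (heH : ∀ i, e i ∈ H) {x : Γ} (hx : x ∈ E)
    (hfx : ∀ i, x * f i * x⁻¹ = f i ∨ x * f i * x⁻¹ = (f i)⁻¹) (s : Finset (Fin b)) :
    ∃ y, y ∈ E ∧ x⁻¹ * y ∈ H ∧ (∀ i, y * f i * y⁻¹ = f i ∨ y * f i * y⁻¹ = (f i)⁻¹) ∧
      ∀ i ∈ s, y * f i * y⁻¹ = f i := by
  classical
  induction s using Finset.induction_on with
  | empty => exact ⟨x, hx, by simp, hfx, by simp⟩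
  | @insert j s hj ih =>
    obtain ⟨y, hy, hyH, hyf, hys⟩ := ih
    by_cases hfix : y * f j * y⁻¹ = f j
    · exact ⟨y, hy, hyH, hyf, fun i hi => (Finset.mem_insert.1 hi).elim (fun h => h ▸ hfix) (hys i)⟩
    refine ⟨e j * y, E.mul_mem (he j) hy, ?_, fun i => ?_, fun i hi => ?_⟩
    · have hcomm : e j * y = y * e j :=
        comm_of_sq (hE2 _ (he j)) (hE2 _ hy) (hE2 _ (E.mul_mem (he j) hy))
      rw [hcomm, ← mul_assoc]
      exact H.mul_mem hyH (heH j)
    · have key : e j * y * f i * (e j * y)⁻¹ = e j * (y * f i * y⁻¹) * (e j)⁻¹ := by group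
      rw [key]
      by_cases hij' : j = i
      · subst hij'
        rcases hyf j with h | h
        · exact absurd h hfix
        · left; rw [h, ← conj_inv, hii, inv_inv]
      · rcases hyf i with h | h
        · left; rw [h, hij j i hij']
        · right; rw [h, ← conj_inv, hij j i hij']
    · have key : e j * y * f i * (e j * y)⁻¹ = e j * (y * f i * y⁻¹) * (e j)⁻¹ := by group
      rw [key]
      rcases Finset.mem_insert.1 hi with rfl | hi'
      · rcases hyf i with h | h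
        · exact absurd h hfix
        · rw [h, ← conj_inv, hii, inv_inv]
      · rw [hys i hi', hij j i]
        rintro rfl
        exact hj hi'

theorem exists_system [Finite Γ] {E A : Subgroup Γ} (hE2 : ∀ x ∈ E, x * x = 1)
    (hodd : Odd (Nat.card A)) (hAc : ∀ x ∈ A, ∀ y ∈ A, x * y = y * x)
    (hAE : ∀ e ∈ E, ∀ a ∈ A, e * a * e⁻¹ ∈ A)
    (hfaith : ∀ e ∈ E, (∀ a ∈ A, e * a * e⁻¹ = a) → e = 1) :
    ∀ (m : ℕ) (H : Subgroup Γ), H ≤ E → Nat.card H = m →
      ∃ (b : ℕ) (e f : Fin b → Γ), 2 ^ b = Nat.card H ∧ (∀ i, e i ∈ H) ∧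
        H ≤ Subgroup.closure (Set.range e) ∧ (∀ i, f i ∈ A ∧ Eig E (f i) ∧ f i ≠ 1) ∧
        (∀ i, e i * f i * (e i)⁻¹ = (f i)⁻¹) ∧ ∀ i j, i ≠ j → e i * f j * (e i)⁻¹ = f j := by
  classical
  intro m
  induction m using Nat.strong_induction_on with
  | _ m ih =>
    intro H hHE hm
    by_cases hH : H = ⊥
    · subst hH
      exact ⟨0, Fin.elim0, Fin.elim0, by simp, fun i => i.elim0, bot_le, fun i => i.elim0,
        fun i => i.elim0, fun i => i.elim0⟩
    obtain ⟨f₀, hf₀A, hf₀E, e₀, he₀, he₀f⟩ : ∃ f₀ ∈ A, Eig E f₀ ∧ ∃ e₀ ∈ H, e₀ * f₀ * e₀⁻¹ ≠ f₀ := by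
      by_contra hno
      push Not at hno
      apply hH
      rw [eq_bot_iff]
      intro h hh
      refine Subgroup.mem_bot.2 (hfaith h (hHE hh) fun a ha => ?_)
      let θ : E → (A →* A) := fun e =>
        { toFun := fun c => ⟨(e : Γ) * c * (e : Γ)⁻¹, hAE _ e.2 _ c.2⟩
          map_one' := Subtype.ext (by simp)
          map_mul' := fun x y => Subtype.ext (by simp [mul_assoc]) }
      letI : CommGroup A := { (inferInstance : Group A) with
        mul_comm := fun x y => Subtype.ext (hAc x.1 x.2 y.1 y.2) }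
      have hgen := mem_closure_eigen (A := A) (fun z => ⟨Nat.card A, hodd, pow_card_eq_one'⟩) θ
        (Set.toFinite (Set.univ : Set E)).toFinset
        (fun e _ z => Subtype.ext (by
          show (e : Γ) * ((e : Γ) * z * (e : Γ)⁻¹) * (e : Γ)⁻¹ = z
          rw [inv_eq_of_mul_eq_one_right (hE2 _ e.2)]
          calc (e : Γ) * (e * z * e) * e = ((e : Γ) * e) * z * (e * e) := by group
            _ = z := by rw [hE2 _ e.2]; group))
        (fun e _ e' _ z => Subtype.ext (by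
          show (e : Γ) * ((e' : Γ) * z * (e' : Γ)⁻¹) * (e : Γ)⁻¹ =
            (e' : Γ) * ((e : Γ) * z * (e : Γ)⁻¹) * (e' : Γ)⁻¹
          have hc : (e : Γ) * e' = e' * e :=
            comm_of_sq (hE2 _ e.2) (hE2 _ e'.2) (hE2 _ (E.mul_mem e.2 e'.2))
          calc (e : Γ) * ((e' : Γ) * z * (e' : Γ)⁻¹) * (e : Γ)⁻¹
              = ((e : Γ) * e') * z * ((e : Γ) * e')⁻¹ := by group
            _ = ((e' : Γ) * e) * z * ((e' : Γ) * e)⁻¹ := by rw [hc]
            _ = _ := by group)) ⟨a, ha⟩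
      have hle : Subgroup.closure {w : A | ∀ e ∈ (Set.toFinite (Set.univ : Set E)).toFinset,
          θ e w = w ∨ θ e w = w⁻¹} ≤ MonoidHom.eqLocus (θ ⟨h, hHE hh⟩) (MonoidHom.id A) := by
        rw [Subgroup.closure_le]
        intro w hw
        refine Subtype.ext (hno w w.2 (fun e he => ?_) h hh)
        exact (hw ⟨e, he⟩ (by simp)).imp (congrArg Subtype.val) (congrArg Subtype.val)
      exact congrArg Subtype.val (hle hgen)
    let K : Subgroup Γ := H ⊓ Subgroup.centralizer ({f₀} : Set Γ)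
    have hKH : K ≤ H := inf_le_left
    have hKmem : ∀ {x : Γ}, x ∈ K ↔ x ∈ H ∧ x * f₀ * x⁻¹ = f₀ := fun {x} => by
      show x ∈ H ∧ x ∈ Subgroup.centralizer ({f₀} : Set Γ) ↔ _
      rw [Subgroup.mem_centralizer_singleton_iff]
      exact and_congr_right fun _ => ⟨fun h => by rw [h, mul_inv_cancel_right],
        fun h => by conv_rhs => rw [← h]
                    group⟩
    have hinv₀ : e₀ * f₀ * e₀⁻¹ = f₀⁻¹ := (hf₀E e₀ (hHE he₀)).resolve_left he₀f
    have hidx : (K.subgroupOf H).index = 2 := by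
      rw [Subgroup.index_eq_two_iff]
      refine ⟨⟨e₀, he₀⟩, fun x => ?_⟩
      show Xor ((x : Γ) * e₀ ∈ K) ((x : Γ) ∈ K)
      have hx : ((x : Γ) * e₀) * f₀ * ((x : Γ) * e₀)⁻¹ = ((x : Γ) * f₀ * (x : Γ)⁻¹)⁻¹ := by
        rw [show ((x : Γ) * e₀) * f₀ * ((x : Γ) * e₀)⁻¹ = (x : Γ) * (e₀ * f₀ * e₀⁻¹) * (x : Γ)⁻¹ by
          group, hinv₀, conj_inv]
      rcases hf₀E x (hHE x.2) with h | h
      · refine Or.inr ⟨hKmem.2 ⟨x.2, h⟩, fun hc => he₀f ?_⟩
        have := (hKmem.1 hc).2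
        rw [hx, h] at this
        rw [hinv₀, this]
      · refine Or.inl ⟨hKmem.2 ⟨H.mul_mem x.2 he₀, by rw [hx, h, inv_inv]⟩, fun hc => he₀f ?_⟩
        have := (hKmem.1 hc).2
        rw [h] at this
        rw [hinv₀, this]
    have hcard : Nat.card K * 2 = Nat.card H := by
      rw [← Nat.card_congr (Subgroup.subgroupOfEquivOfLe hKH).toEquiv, ← hidx]
      exact Subgroup.card_mul_index _
    obtain ⟨b, e, f, hb, heK, hgen, hf, hii, hij⟩ := ih (Nat.card K)
      (by have := Nat.card_pos (α := K); omega) K (hKH.trans hHE) rfl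
    have heE : ∀ i, e i ∈ E := fun i => hHE (hKH (heK i))
    obtain ⟨y, hyE, hyK, -, hys⟩ := exists_adjust hE2 e f heE hii hij K heK (hHE he₀)
      (fun i => (hf i).2.1 e₀ (hHE he₀)) Finset.univ
    have hyH : y ∈ H := by
      have := H.mul_mem he₀ (hKH hyK)
      rwa [mul_inv_cancel_left] at this
    refine ⟨b + 1, Fin.cons y e, Fin.cons f₀ f, ?_, ?_, ?_, ?_, ?_, ?_⟩
    · rw [pow_succ, hb, hcard]
    · exact fun i => Fin.cases hyH (fun j => hKH (heK j)) i
    · set U := Subgroup.closure (Set.range (Fin.cons y e : Fin (b + 1) → Γ))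
      have hKU : K ≤ U := hgen.trans (Subgroup.closure_mono (by
        rintro _ ⟨i, rfl⟩
        exact ⟨i.succ, by simp⟩))
      have hyU : y ∈ U := Subgroup.subset_closure ⟨0, by simp⟩
      have he₀U : e₀ ∈ U := by
        have := U.mul_mem hyU (U.inv_mem (hKU hyK))
        rwa [mul_inv_rev, inv_inv, mul_inv_cancel_left] at this
      intro h hh
      by_cases hc : h ∈ K
      · exact hKU hc
      · have : h * e₀ ∈ K := by
          refine hKmem.2 ⟨H.mul_mem hh he₀, ?_⟩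
          rcases hf₀E h (hHE hh) with h1 | h1
          · exact absurd (hKmem.2 ⟨hh, h1⟩) hc
          · rw [show (h * e₀) * f₀ * (h * e₀)⁻¹ = h * (e₀ * f₀ * e₀⁻¹) * h⁻¹ by group, hinv₀,
              ← conj_inv, h1, inv_inv]
        have := U.mul_mem (hKU this) (U.inv_mem he₀U)
        rwa [mul_inv_cancel_right] at this
    · refine fun i => Fin.cases ?_ (fun j => by simpa using hf j) i
      simp only [Fin.cons_zero]
      exact ⟨hf₀A, hf₀E, fun h => he₀f (by rw [h]; group)⟩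
    · refine fun i => Fin.cases ?_ (fun j => by simpa using hii j) i
      simp only [Fin.cons_zero]
      have : y * f₀ * y⁻¹ = e₀ * ((e₀⁻¹ * y) * f₀ * (e₀⁻¹ * y)⁻¹) * e₀⁻¹ := by group
      rw [this, (hKmem.1 hyK).2, hinv₀]
    · intro i j hne
      revert hne
      refine Fin.cases ?_ (fun i' => ?_) i <;> refine Fin.cases ?_ (fun j' => ?_) j <;> intro hne
      · exact absurd rfl hne
      · simpa using hys j' (Finset.mem_univ _)
      · simpa using (hKmem.1 (heK i')).2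
      · simpa using hij i' j' (fun h => hne (by rw [h]))

end System

section Fix

variable {M : Type*} [CommGroup M] [Finite M] {ι : Type*}

/-- Fixed points in `W` of the automorphisms `e i`, `i ∈ s`. -/
def fix (e : ι → MulAut M) (W : Subgroup M) (s : Finset ι) : Subgroup M where
  carrier := {x | x ∈ W ∧ ∀ i ∈ s, e i x = x}
  one_mem' := ⟨W.one_mem, fun i _ => map_one _⟩
  mul_mem' := fun ha hb => ⟨W.mul_mem ha.1 hb.1, fun i hi => by rw [map_mul, ha.2 i hi, hb.2 i hi]⟩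
  inv_mem' := fun ha => ⟨W.inv_mem ha.1, fun i hi => by rw [map_inv, ha.2 i hi]⟩

theorem mem_fix {e : ι → MulAut M} {W : Subgroup M} {s : Finset ι} {x : M} :
    x ∈ fix e W s ↔ x ∈ W ∧ ∀ i ∈ s, e i x = x := Iff.rfl

/-- The commuting relations of a system of involutions and odd automorphisms. -/
structure Sys (s : Finset ι) (e f : ι → MulAut M) : Prop where
  invol : ∀ i ∈ s, ∀ x, e i (e i x) = x
  ee : ∀ i ∈ s, ∀ j ∈ s, ∀ x, e i (e j x) = e j (e i x)
  ff : ∀ i ∈ s, ∀ j ∈ s, ∀ x, f i (f j x) = f j (f i x)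
  ef : ∀ i ∈ s, ∀ j ∈ s, i ≠ j → ∀ x, e i (f j x) = f j (e i x)
  inv : ∀ i ∈ s, ∀ x, f i (e i (f i x)) = e i x
  odd : ∀ i ∈ s, ∃ k, Odd k ∧ f i ^ k = 1

variable {e f : ι → MulAut M}

theorem Sys.mono {s t : Finset ι} (h : Sys s e f) (hts : t ⊆ s) : Sys t e f :=
  ⟨fun i hi => h.invol i (hts hi), fun i hi j hj => h.ee i (hts hi) j (hts hj),
    fun i hi j hj => h.ff i (hts hi) j (hts hj), fun i hi j hj => h.ef i (hts hi) j (hts hj),
    fun i hi => h.inv i (hts hi), fun i hi => h.odd i (hts hi)⟩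

theorem eq_of_fix_two {φ : MulAut M} {k : ℕ} (hk : Odd k) (hφ : φ ^ k = 1) {x : M}
    (h : φ (φ x) = x) : φ x = x := by
  obtain ⟨j, rfl⟩ := hk
  have hj : ∀ j, (φ ^ (2 * j)) x = x := by
    intro j
    induction j with
    | zero => rfl
    | succ j ih =>
      rw [show 2 * (j + 1) = 2 * j + 2 by ring, pow_add, MulAut.mul_apply, pow_two,
        MulAut.mul_apply, h, ih]
  have h1 : (φ ^ (2 * j + 1)) x = x := by rw [hφ]; rfl
  rw [pow_succ', MulAut.mul_apply, hj j] at h1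
  exact h1

/-- `φ - 1`. -/
def dHom (φ : MulAut M) : M →* M where
  toFun x := φ x * x⁻¹
  map_one' := by simp
  map_mul' x y := by rw [map_mul, mul_inv, mul_mul_mul_comm]

theorem dHom_eq_one {φ : MulAut M} {x : M} : dHom φ x = 1 ↔ φ x = x := by
  show φ x * x⁻¹ = 1 ↔ _
  rw [mul_inv_eq_one]

/-- The decomposition of an invariant `W` under one pair `(e j, f j)`. -/
theorem split {s : Finset ι} (hs : Sys s e f) (hM : ∀ x : M, x * x = 1) (W : Subgroup M)
    (hWe : ∀ i ∈ s, ∀ x ∈ W, e i x ∈ W) (hWf : ∀ i ∈ s, ∀ x ∈ W, f i x ∈ W) {j : ι} (hj : j ∈ s) :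
    ∃ X Y C : Subgroup M, X ≤ W ∧ Y ≤ W ∧ C ≤ X ∧ X ⊓ Y = ⊥ ∧
      (∀ x, x ∈ Y ↔ x ∈ W ∧ f j x = x) ∧ (∀ x, x ∈ C ↔ x ∈ X ∧ e j x = x) ∧
      (∀ w ∈ W, ∃ a ∈ X, ∃ b ∈ Y, a * b = w) ∧
      (∀ x ∈ X, ∃ a ∈ C, ∃ b ∈ C, a * f j b = x) ∧
      Nat.card X * Nat.card Y = Nat.card W ∧ Nat.card C * Nat.card C = Nat.card X ∧
      (∀ g : MulAut M, (∀ x ∈ W, g x ∈ W) → (∀ x, g (f j x) = f j (g x)) →
        (∀ x ∈ X, g x ∈ X) ∧ ∀ x ∈ Y, g x ∈ Y) ∧
      (∀ x ∈ X, e j x ∈ X) ∧ ∀ x ∈ Y, e j x ∈ Y := by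
  classical
  let X : Subgroup M := W.map (dHom (f j))
  let Y : Subgroup M := W ⊓ (dHom (f j)).ker
  have hY : ∀ x, x ∈ Y ↔ x ∈ W ∧ f j x = x := fun x =>
    and_congr_right fun _ => dHom_eq_one
  let C : Subgroup M :=
    { carrier := {x | x ∈ X ∧ e j x = x}
      one_mem' := ⟨X.one_mem, map_one _⟩
      mul_mem' := fun ha hb => ⟨X.mul_mem ha.1 hb.1, by rw [map_mul, ha.2, hb.2]⟩
      inv_mem' := fun ha => ⟨X.inv_mem ha.1, by rw [map_inv, ha.2]⟩ }
  obtain ⟨k, hk, hfk⟩ := hs.odd j hj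
  have hXW : X ≤ W := by
    rintro _ ⟨w, hw, rfl⟩
    exact W.mul_mem (hWf j hj w hw) (W.inv_mem hw)
  have hdisj : X ⊓ Y = ⊥ := by
    rw [eq_bot_iff]
    rintro x ⟨hxX, hxY⟩
    obtain ⟨w, -, rfl⟩ := hxX
    have hfix : f j (dHom (f j) w) = dHom (f j) w := ((hY _).1 hxY).2
    set d := dHom (f j) w with hd
    have hfw : f j w = d * w := by
      rw [hd]; show _ = f j w * w⁻¹ * w; rw [inv_mul_cancel_right]
    have hn : ∀ n, (f j ^ n) w = d ^ n * w := by
      intro n
      induction n with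
      | zero => simp
      | succ n ih =>
        rw [pow_succ', MulAut.mul_apply, ih, map_mul, map_pow, hfix, hfw, ← mul_assoc, ← pow_succ]
    have h1 := hn k
    rw [hfk, MulAut.one_apply, eq_comm, mul_eq_right] at h1
    rw [Subgroup.mem_bot]
    obtain ⟨l, rfl⟩ := hk
    rwa [pow_succ, pow_mul, pow_two, hM, one_pow, one_mul] at h1
  have hcard1 : Nat.card X * Nat.card Y = Nat.card W := by
    let φ := (dHom (f j)).comp W.subtype
    have h1 : φ.range = X := by rw [MonoidHom.range_comp, W.range_subtype]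
    have h2 : φ.ker.map W.subtype = Y := by
      rw [← MonoidHom.comap_ker, Subgroup.map_comap_eq, W.range_subtype]
    rw [← h1, ← h2, Subgroup.card_map_of_injective W.subtype_injective, mul_comm,
      ← Subgroup.card_mul_index φ.ker, Subgroup.index_ker]
  have hgen : ∀ (A B D : Subgroup M), A ⊓ B = ⊥ → A ≤ D → B ≤ D →
      Nat.card A * Nat.card B = Nat.card D → ∀ w ∈ D, ∃ a ∈ A, ∃ b ∈ B, a * b = w := by
    intro A B D hAB hA hB hc w hw
    let μ : A × B → D := fun p => ⟨(p.1 : M) * p.2, D.mul_mem (hA p.1.2) (hB p.2.2)⟩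
    have hinj : Function.Injective μ := by
      rintro ⟨⟨a, ha⟩, ⟨b, hb⟩⟩ ⟨⟨a', ha'⟩, ⟨b', hb'⟩⟩ h
      have h' : a * b = a' * b' := congrArg Subtype.val h
      have h3 : a'⁻¹ * a = b' * b⁻¹ := by
        rw [eq_mul_inv_iff_mul_eq, mul_assoc, h', inv_mul_cancel_left]
      have h4 : a'⁻¹ * a ∈ A ⊓ B :=
        ⟨A.mul_mem (A.inv_mem ha') ha, h3 ▸ B.mul_mem hb' (B.inv_mem hb)⟩
      rw [hAB, Subgroup.mem_bot] at h4
      rw [h4] at h3
      have e1 : a = a' := (inv_mul_eq_one.1 h4).symm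
      have e2 : b = b' := (mul_inv_eq_one.1 h3.symm).symm
      subst e1 e2; rfl
    have hsurj := (hinj.bijective_of_nat_card_le (by rw [Nat.card_prod, hc])).surjective
    obtain ⟨⟨a, b⟩, hab⟩ := hsurj ⟨w, hw⟩
    exact ⟨a, a.2, b, b.2, congrArg Subtype.val hab⟩
  have hfinv : ∀ x, e j (f j x) = (f j).symm (e j x) := fun x =>
    (f j).injective (by rw [MulEquiv.apply_symm_apply]; exact hs.inv j hj x)
  have heX : ∀ x ∈ X, e j x ∈ X := by
    rintro _ ⟨w, hw, rfl⟩
    refine ⟨(e j (f j w))⁻¹, W.inv_mem (hWe j hj _ (hWf j hj w hw)), ?_⟩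
    show f j (e j (f j w))⁻¹ * ((e j (f j w))⁻¹)⁻¹ = e j (f j w * w⁻¹)
    rw [map_inv, hs.inv j hj, inv_inv, map_mul, map_inv, mul_comm]
  have heY : ∀ x ∈ Y, e j x ∈ Y := by
    intro x hx
    obtain ⟨hxW, hxf⟩ := (hY x).1 hx
    refine (hY _).2 ⟨hWe j hj x hxW, ?_⟩
    have := hs.inv j hj x
    rwa [hxf] at this
  have hfX : ∀ x ∈ X, f j x ∈ X := by
    rintro _ ⟨w, hw, rfl⟩
    exact ⟨f j w, hWf j hj w hw, by
      show f j (f j w) * (f j w)⁻¹ = f j (f j w * w⁻¹)
      rw [map_mul, map_inv]⟩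
  have hCinv : ∀ x, x ∈ C → f j x ∈ C → x = 1 := by
    intro x hx hfx
    have h1 : f j (f j x) = x := by
      have := hs.inv j hj x
      rwa [hfx.2, hx.2] at this
    have h2 : x ∈ X ⊓ Y := ⟨hx.1, (hY x).2 ⟨hXW hx.1, eq_of_fix_two hk hfk h1⟩⟩
    rwa [hdisj, Subgroup.mem_bot] at h2
  let fC := C.map (f j).toMonoidHom
  have hCf : C ⊓ fC = ⊥ := by
    rw [eq_bot_iff]
    rintro _ ⟨hx, y, hy, rfl⟩
    rw [Subgroup.mem_bot, hCinv y hy hx, map_one]
  have hfCX : fC ≤ X := by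
    rintro _ ⟨y, hy, rfl⟩
    exact hfX y hy.1
  have hCX : C ≤ X := fun x hx => hx.1
  have hcardfC : Nat.card fC = Nat.card C := Subgroup.card_map_of_injective (f j).injective
  have hcard2 : Nat.card C * Nat.card C = Nat.card X := by
    refine le_antisymm ?_ ?_
    · let μ : C × fC → X := fun p => ⟨(p.1 : M) * p.2, X.mul_mem (hCX p.1.2) (hfCX p.2.2)⟩
      have hinj : Function.Injective μ := by
        rintro ⟨⟨a, ha⟩, ⟨b, hb⟩⟩ ⟨⟨a', ha'⟩, ⟨b', hb'⟩⟩ h
        have h' : a * b = a' * b' := congrArg Subtype.val h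
        have h3 : a'⁻¹ * a = b' * b⁻¹ := by
          rw [eq_mul_inv_iff_mul_eq, mul_assoc, h', inv_mul_cancel_left]
        have h4 : a'⁻¹ * a ∈ C ⊓ fC :=
          ⟨C.mul_mem (C.inv_mem ha') ha, h3 ▸ fC.mul_mem hb' (fC.inv_mem hb)⟩
        rw [hCf, Subgroup.mem_bot] at h4
        rw [h4] at h3
        have e1 : a = a' := (inv_mul_eq_one.1 h4).symm
        have e2 : b = b' := (mul_inv_eq_one.1 h3.symm).symm
        subst e1 e2; rfl
      have := Nat.card_le_card_of_injective μ hinj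
      rwa [Nat.card_prod, hcardfC] at this
    · let φ := (dHom (e j)).comp X.subtype
      have h1 : φ.range ≤ C := by
        rintro _ ⟨⟨x, hx⟩, rfl⟩
        refine ⟨X.mul_mem (heX x hx) (X.inv_mem hx), ?_⟩
        show e j (e j x * x⁻¹) = e j x * x⁻¹
        rw [map_mul, map_inv, hs.invol j hj, inv_eq_of_mul_eq_one_right (hM x),
          inv_eq_of_mul_eq_one_right (hM (e j x)), mul_comm]
      have h2 : φ.ker.map X.subtype ≤ C := by
        rintro _ ⟨⟨x, hx⟩, hker, rfl⟩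
        exact ⟨hx, dHom_eq_one.1 hker⟩
      have h3 := Subgroup.card_le_of_le h2
      rw [Subgroup.card_map_of_injective X.subtype_injective] at h3
      rw [← Subgroup.card_mul_index φ.ker, Subgroup.index_ker]
      exact Nat.mul_le_mul h3 (Subgroup.card_le_of_le h1)
  refine ⟨X, Y, C, hXW, inf_le_left, hCX, hdisj, hY, fun x => Iff.rfl,
    hgen X Y W hdisj hXW inf_le_left hcard1, fun x hx => ?_, hcard1, hcard2, ?_, heX, heY⟩
  · obtain ⟨a, ha, b, ⟨c, hc, rfl⟩, hab⟩ :=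
      hgen C fC X hCf hCX hfCX (by rw [hcardfC, hcard2]) x hx
    exact ⟨a, ha, c, hc, hab⟩
  · intro g hgW hgf
    refine ⟨?_, ?_⟩
    · rintro _ ⟨w, hw, rfl⟩
      exact ⟨g w, hgW w hw, by
        show f j (g w) * (g w)⁻¹ = g (f j w * w⁻¹)
        rw [map_mul, map_inv, hgf]⟩
    · intro x hx
      obtain ⟨hxW, hxf⟩ := (hY x).1 hx
      exact (hY _).2 ⟨hgW x hxW, by rw [← hgf, hxf]⟩

/-- The counting lemma. -/
theorem fix_bound (hM : ∀ x : M, x * x = 1) : ∀ (N : ℕ) (W : Subgroup M), Nat.card W = N →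
    ∀ s : Finset ι, Sys s e f → (∀ i ∈ s, ∀ x ∈ W, e i x ∈ W) → (∀ i ∈ s, ∀ x ∈ W, f i x ∈ W) →
      (∀ i ∈ s, ∃ x ∈ W, f i x ≠ x) →
      2 ^ s.card * Nat.card (fix e W s) ≤ Nat.card W ∧
      (2 ^ s.card * Nat.card (fix e W s) = Nat.card W →
        (∀ g : MulAut M, (∀ x ∈ W, g x ∈ W) →
            (∀ i ∈ s, ∀ x, g (e i x) = e i (g x) ∧ g (f i x) = f i (g x)) →
            (∀ x ∈ fix e W s, g x = x) → ∀ x ∈ W, g x = x) ∧
        ∀ j ∈ s, ∃ K : Subgroup M, K ≤ W ∧ 2 * Nat.card K = Nat.card W ∧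
          (∀ x ∈ W, e j x = x ↔ x ∈ K) ∧
          ∀ x ∈ W, e j x * x⁻¹ ≠ 1 → f j (e j x * x⁻¹) ≠ e j x * x⁻¹) := by
  classical
  intro N
  induction N using Nat.strong_induction_on with
  | _ N ih =>
    intro W hN s hs hWe hWf hmove
    rcases s.eq_empty_or_nonempty with rfl | hne
    · have h : fix e W (∅ : Finset ι) = W := by ext x; simp [mem_fix]
      refine ⟨by simp [h], fun _ => ⟨fun g _ _ hg x hx => hg x (by rw [h]; exact hx), by simp⟩⟩
    -- the analysis at one index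
    have main : ∀ j ∈ s, 2 ^ s.card * Nat.card (fix e W s) ≤ Nat.card W ∧
        (2 ^ s.card * Nat.card (fix e W s) = Nat.card W →
          (∀ g : MulAut M, (∀ x ∈ W, g x ∈ W) →
            (∀ i ∈ s, ∀ x, g (e i x) = e i (g x) ∧ g (f i x) = f i (g x)) →
            (∀ x ∈ fix e W s, g x = x) → ∀ x ∈ W, g x = x) ∧
          ∃ K : Subgroup M, K ≤ W ∧ 2 * Nat.card K = Nat.card W ∧
            (∀ x ∈ W, e j x = x ↔ x ∈ K) ∧
            ∀ x ∈ W, e j x * x⁻¹ ≠ 1 → f j (e j x * x⁻¹) ≠ e j x * x⁻¹) := by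
      intro j hj
      obtain ⟨X, Y, C, hXW, hYW, hCX, hXY, hY, hC, hgenW, hgenX, hcW, hcX, hstab, heX, heY⟩ :=
        split hs hM W hWe hWf hj
      obtain ⟨w₀, hw₀, hw₀f⟩ := hmove j hj
      have hX1 : 2 ≤ Nat.card C := by
        by_contra h
        have hc1 : Nat.card C = 1 := by have := Nat.card_pos (α := C); omega
        rw [hc1, one_mul] at hcX
        have : X = ⊥ := Subgroup.card_eq_one.1 hcX.symm
        obtain ⟨a, ha, b, hb, rfl⟩ := hgenW w₀ hw₀
        rw [this, Subgroup.mem_bot] at ha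
        rw [ha, one_mul] at hw₀f
        exact hw₀f ((hY b).1 hb).2
      have hX4 : 4 ≤ Nat.card X := by rw [← hcX]; exact Nat.mul_le_mul hX1 hX1
      have hYlt : Nat.card Y < N := by
        rw [← hN, ← hcW]
        exact lt_mul_left Nat.card_pos (by omega)
      have hClt : Nat.card C < N := by
        rw [← hN, ← hcW]
        have h1 : Nat.card C < Nat.card X := by
          rw [← hcX]; exact lt_mul_left Nat.card_pos (by omega)
        exact lt_of_lt_of_le h1 (Nat.le_mul_of_pos_right _ Nat.card_pos)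
      set s' := s.erase j
      have hs's : s' ⊆ s := Finset.erase_subset j s
      have hcomm : ∀ i ∈ s', (∀ x, e i (f j x) = f j (e i x)) ∧
          (∀ x, f i (f j x) = f j (f i x)) ∧ (∀ x, e j (e i x) = e i (e j x)) ∧
          ∀ x, e j (f i x) = f i (e j x) := fun i hi =>
        ⟨hs.ef i (hs's hi) j hj (Finset.ne_of_mem_erase hi), hs.ff i (hs's hi) j hj,
          hs.ee j hj i (hs's hi), hs.ef j hj i (hs's hi) (Finset.ne_of_mem_erase hi).symm⟩
      have heXY : ∀ i ∈ s', (∀ x ∈ X, e i x ∈ X) ∧ ∀ x ∈ Y, e i x ∈ Y := fun i hi =>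
        hstab (e i) (hWe i (hs's hi)) (hcomm i hi).1
      have hfXY : ∀ i ∈ s', (∀ x ∈ X, f i x ∈ X) ∧ ∀ x ∈ Y, f i x ∈ Y := fun i hi =>
        hstab (f i) (hWf i (hs's hi)) (hcomm i hi).2.1
      set J := s'.filter fun i => ∀ x ∈ Y, f i x = x
      set O := s'.filter fun i => ¬ ∀ x ∈ Y, f i x = x
      have hJ : J ⊆ s' := Finset.filter_subset _ _
      have hO : O ⊆ s' := Finset.filter_subset _ _
      have hcard : J.card + O.card + 1 = s.card := by
        rw [Finset.card_filter_add_card_filter_not, Finset.card_erase_add_one hj]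
      obtain ⟨hYb, hYe⟩ := ih _ hYlt Y rfl O (hs.mono (hO.trans hs's))
        (fun i hi => (heXY i (hO hi)).2) (fun i hi => (hfXY i (hO hi)).2)
        (fun i hi => by
          have := (Finset.mem_filter.1 hi).2
          push Not at this
          exact this)
      have hCe : ∀ i ∈ s', ∀ x ∈ C, e i x ∈ C := fun i hi x hx =>
        (hC _).2 ⟨(heXY i hi).1 x ((hC x).1 hx).1, by rw [(hcomm i hi).2.2.1, ((hC x).1 hx).2]⟩
      have hCf : ∀ i ∈ s', ∀ x ∈ C, f i x ∈ C := fun i hi x hx =>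
        (hC _).2 ⟨(hfXY i hi).1 x ((hC x).1 hx).1, by rw [(hcomm i hi).2.2.2, ((hC x).1 hx).2]⟩
      have hCmove : ∀ i ∈ J, ∃ x ∈ C, f i x ≠ x := by
        intro i hi
        by_contra hno
        push Not at hno
        obtain ⟨x, hx, hxf⟩ := hmove i (hs's (hJ hi))
        obtain ⟨a, ha, b, hb, rfl⟩ := hgenW x hx
        obtain ⟨c, hc, d, hd, rfl⟩ := hgenX a ha
        apply hxf
        rw [map_mul, map_mul, hno c hc, (hcomm i (hJ hi)).2.1, hno d hd,
          (Finset.mem_filter.1 hi).2 b hb]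
      obtain ⟨hCb, -⟩ := ih _ hClt C rfl J (hs.mono (hJ.trans hs's))
        (fun i hi => hCe i (hJ hi)) (fun i hi => hCf i (hJ hi)) hCmove
      -- fixed points split
      let F₁ := fix e C J
      let F₂ := fix e Y O
      have hFix : Nat.card (fix e W s) ≤ Nat.card F₁ * Nat.card F₂ := by
        have hdec : ∀ w : fix e W s, ∃ a ∈ F₁, ∃ b ∈ F₂, a * b = (w : M) := by
          rintro ⟨w, hwW, hwe⟩
          obtain ⟨a, ha, b, hb, rfl⟩ := hgenW w hwW
          have key : ∀ i ∈ s, e i a = a ∧ e i b = b := by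
            intro i hi
            have hinX : e i a ∈ X ∧ e i b ∈ Y := by
              by_cases hij : i = j
              · subst hij; exact ⟨heX a ha, heY b hb⟩
              · exact ⟨(heXY i (Finset.mem_erase.2 ⟨hij, hi⟩)).1 a ha,
                  (heXY i (Finset.mem_erase.2 ⟨hij, hi⟩)).2 b hb⟩
            have h := hwe i hi
            rw [map_mul] at h
            have h1 : a⁻¹ * e i a = b * (e i b)⁻¹ := by
              rw [eq_mul_inv_iff_mul_eq, mul_assoc, h, inv_mul_cancel_left]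
            have h2 : a⁻¹ * e i a ∈ X ⊓ Y :=
              ⟨X.mul_mem (X.inv_mem ha) hinX.1, h1 ▸ Y.mul_mem hb (Y.inv_mem hinX.2)⟩
            rw [hXY, Subgroup.mem_bot] at h2
            rw [h2] at h1
            exact ⟨(inv_mul_eq_one.1 h2).symm, (mul_inv_eq_one.1 h1.symm).symm⟩
          exact ⟨a, ⟨(hC a).2 ⟨ha, (key j hj).1⟩, fun i hi => (key i (hs's (hJ hi))).1⟩,
            b, ⟨hb, fun i hi => (key i (hs's (hO hi))).2⟩, rfl⟩
        choose a ha b hb hab using hdec
        rw [← Nat.card_prod]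
        refine Nat.card_le_card_of_injective
          (fun w => ((⟨a w, ha w⟩ : F₁), (⟨b w, hb w⟩ : F₂))) fun v w h => ?_
        simp only [Prod.mk.injEq, Subtype.mk.injEq] at h
        exact Subtype.ext (by rw [← hab v, ← hab w, h.1, h.2])
      set p := 2 ^ J.card with hp
      set q := 2 ^ O.card with hq
      have hpow : 2 ^ s.card = 2 * p * q := by
        rw [hp, hq, ← hcard, pow_succ, pow_add]; ring
      have hstep : 2 ^ s.card * Nat.card (fix e W s) ≤
          2 * (p * Nat.card F₁) * (q * Nat.card F₂) := by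
        rw [hpow]
        calc 2 * p * q * Nat.card (fix e W s) ≤ 2 * p * q * (Nat.card F₁ * Nat.card F₂) :=
              Nat.mul_le_mul le_rfl hFix
          _ = _ := by ring
      have hstep2 : 2 * (p * Nat.card F₁) * (q * Nat.card F₂) ≤ 2 * Nat.card C * Nat.card Y :=
        Nat.mul_le_mul (Nat.mul_le_mul le_rfl hCb) hYb
      have hW : Nat.card W = Nat.card C * Nat.card C * Nat.card Y := by rw [hcX, hcW]
      have hstep3 : 2 * Nat.card C * Nat.card Y ≤ Nat.card W := by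
        rw [hW]; exact Nat.mul_le_mul (Nat.mul_le_mul hX1 le_rfl) le_rfl
      refine ⟨hstep.trans (hstep2.trans hstep3), fun heq => ?_⟩
      have heq1 : 2 * Nat.card C * Nat.card Y = Nat.card W := le_antisymm hstep3
        (heq ▸ hstep.trans hstep2)
      have hC2 : Nat.card C = 2 := by
        rw [hW] at heq1
        have h1 := Nat.eq_of_mul_eq_mul_right Nat.card_pos heq1
        exact (Nat.eq_of_mul_eq_mul_right Nat.card_pos h1).symm
      have hCall : ∀ (φ : MulAut M), (∀ x ∈ C, φ x ∈ C) → ∀ x ∈ C, φ x = x := by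
        intro φ hφ x hx
        by_cases hx1 : x = 1
        · rw [hx1, map_one]
        have h2 : ∀ y : C, y = 1 ∨ y = ⟨x, hx⟩ := by
          intro y
          by_contra hy
          push Not at hy
          have h3 : ({1, ⟨x, hx⟩, y} : Finset C).card = 3 := by
            rw [Finset.card_insert_of_notMem, Finset.card_pair (Ne.symm hy.2)]
            simp only [Finset.mem_insert, Finset.mem_singleton, not_or]
            exact ⟨fun h => hx1 (congrArg Subtype.val h).symm, Ne.symm hy.1⟩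
          haveI := Fintype.ofFinite C
          have h4 := Finset.card_le_univ ({1, ⟨x, hx⟩, y} : Finset C)
          rw [h3, ← Nat.card_eq_fintype_card, hC2] at h4
          omega
        rcases h2 ⟨φ x, hφ x hx⟩ with h | h
        · exact absurd (φ.map_eq_one_iff.1 (congrArg Subtype.val h)) hx1
        · exact congrArg Subtype.val h
      have hJe : J = ∅ := by
        rw [Finset.eq_empty_iff_forall_notMem]
        intro i hi
        obtain ⟨x, hx, hxf⟩ := hCmove i hi
        exact hxf (hCall (f i) (hCf i (hJ hi)) x hx)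
      have hOs : O = s' := Finset.filter_true_of_mem fun i hi h => by
        have : i ∈ J := Finset.mem_filter.2 ⟨hi, h⟩
        rw [hJe] at this
        exact absurd this (by simp)
      have hF1 : Nat.card F₁ = 2 := by
        rw [← hC2, show F₁ = C from by ext x; simp [F₁, mem_fix, hJe]]
      -- fixed points of W contain C and F₂
      have hp1 : p = 1 := by rw [hp, hJe]; rfl
      have hYeq : q * Nat.card F₂ = Nat.card Y := by
        refine le_antisymm hYb ?_
        have h := (heq ▸ hstep : Nat.card W ≤ _)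
        rw [hW, hC2, hF1, hp1] at h
        nlinarith
      obtain ⟨hYg, -⟩ := hYe hYeq
      have hFixeq : Nat.card (fix e W s) = 2 * Nat.card F₂ := by
        rw [hpow, hp1, hW, hC2, ← hYeq] at heq
        have hq0 : 0 < q := by rw [hq]; positivity
        nlinarith
      -- e j fixes Y
      have hejY : ∀ x ∈ Y, e j x = x := by
        refine hYg (e j) heY (fun i hi x => ⟨(hcomm i (hO hi)).2.2.1 x, (hcomm i (hO hi)).2.2.2 x⟩) ?_
        -- every element of F₂ is fixed by e j, by counting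
        let F₂' : Subgroup M := fix e Y s
        have hle : F₂' ≤ F₂ := fun x hx => ⟨hx.1, fun i hi => hx.2 i (hs's (hO hi))⟩
        have hge : Nat.card F₂ ≤ Nat.card F₂' := by
          have hdec : ∀ w : fix e W s, ∃ a ∈ F₁, ∃ b ∈ F₂', a * b = (w : M) := by
            rintro ⟨w, hwW, hwe⟩
            obtain ⟨a, ha, b, hb, rfl⟩ := hgenW w hwW
            have key : ∀ i ∈ s, e i a = a ∧ e i b = b := by
              intro i hi
              have hinX : e i a ∈ X ∧ e i b ∈ Y := by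
                by_cases hij : i = j
                · subst hij; exact ⟨heX a ha, heY b hb⟩
                · exact ⟨(heXY i (Finset.mem_erase.2 ⟨hij, hi⟩)).1 a ha,
                    (heXY i (Finset.mem_erase.2 ⟨hij, hi⟩)).2 b hb⟩
              have h := hwe i hi
              rw [map_mul] at h
              have h1 : a⁻¹ * e i a = b * (e i b)⁻¹ := by
                rw [eq_mul_inv_iff_mul_eq, mul_assoc, h, inv_mul_cancel_left]
              have h2 : a⁻¹ * e i a ∈ X ⊓ Y :=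
                ⟨X.mul_mem (X.inv_mem ha) hinX.1, h1 ▸ Y.mul_mem hb (Y.inv_mem hinX.2)⟩
              rw [hXY, Subgroup.mem_bot] at h2
              rw [h2] at h1
              exact ⟨(inv_mul_eq_one.1 h2).symm, (mul_inv_eq_one.1 h1.symm).symm⟩
            exact ⟨a, ⟨(hC a).2 ⟨ha, (key j hj).1⟩, fun i hi => (key i (hs's (hJ hi))).1⟩,
              b, ⟨hb, fun i hi => (key i hi).2⟩, rfl⟩
          choose a ha b hb hab using hdec
          have h := Nat.card_le_card_of_injective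
            (fun w => ((⟨a w, ha w⟩ : F₁), (⟨b w, hb w⟩ : F₂'))) (fun v w h => by
              simp only [Prod.mk.injEq, Subtype.mk.injEq] at h
              exact Subtype.ext (by rw [← hab v, ← hab w, h.1, h.2]))
          rw [Nat.card_prod, hF1, hFixeq] at h
          omega
        intro x hx
        have := Subgroup.eq_of_le_of_card_ge hle hge
        exact ((this ▸ hx : x ∈ F₂')).2 j hj
      refine ⟨?_, ?_⟩
      · intro g hgW hgc hgfix
        obtain ⟨hgX, hgY⟩ := hstab g hgW (fun x => (hgc j hj x).2)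
        have hgC : ∀ x ∈ C, g x ∈ C := fun x hx =>
          (hC _).2 ⟨hgX x ((hC x).1 hx).1, by rw [← (hgc j hj x).1, ((hC x).1 hx).2]⟩
        have hg1 := hCall g hgC
        have hg2 : ∀ x ∈ Y, g x = x := hYg g hgY (fun i hi => hgc i (hs's (hO hi))) fun x hx => by
          refine hgfix x ⟨hYW hx.1, fun i hi => ?_⟩
          by_cases hij : i = j
          · subst hij; exact hejY x hx.1
          · exact hx.2 i (hOs ▸ Finset.mem_erase.2 ⟨hij, hi⟩)
        intro w hw
        obtain ⟨a, ha, b, hb, rfl⟩ := hgenW w hw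
        obtain ⟨c, hc, d, hd, rfl⟩ := hgenX a ha
        rw [map_mul, map_mul, (hgc j hj d).2, hg1 c hc, hg1 d hd, hg2 b hb]
      · refine ⟨C ⊔ Y, sup_le (hCX.trans hXW) hYW, ?_, fun x hx => ⟨fun h => ?_, fun h => ?_⟩, ?_⟩
        · have h1 : Nat.card ↥(C ⊔ Y) = Nat.card C * Nat.card Y := by
            let μ : C × Y → ↥(C ⊔ Y) := fun p =>
              ⟨(p.1 : M) * p.2, mul_mem (Subgroup.mem_sup_left p.1.2) (Subgroup.mem_sup_right p.2.2)⟩
            rw [← Nat.card_prod]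
            refine (Nat.card_eq_of_bijective μ ⟨?_, ?_⟩).symm
            · rintro ⟨⟨a, ha⟩, ⟨b, hb⟩⟩ ⟨⟨a', ha'⟩, ⟨b', hb'⟩⟩ h
              have h' : a * b = a' * b' := congrArg Subtype.val h
              have h3 : a'⁻¹ * a = b' * b⁻¹ := by
                rw [eq_mul_inv_iff_mul_eq, mul_assoc, h', inv_mul_cancel_left]
              have h4 : a'⁻¹ * a ∈ X ⊓ Y :=
                ⟨X.mul_mem (X.inv_mem (hCX ha')) (hCX ha), h3 ▸ Y.mul_mem hb' (Y.inv_mem hb)⟩
              rw [hXY, Subgroup.mem_bot] at h4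
              rw [h4] at h3
              have e1 : a = a' := (inv_mul_eq_one.1 h4).symm
              have e2 : b = b' := (mul_inv_eq_one.1 h3.symm).symm
              subst e1 e2; rfl
            · rintro ⟨x, hx⟩
              obtain ⟨a, ha, b, hb, rfl⟩ := Subgroup.mem_sup.1 hx
              exact ⟨(⟨a, ha⟩, ⟨b, hb⟩), rfl⟩
          rw [h1, hW, hC2]; ring
        · obtain ⟨a, ha, b, hb, rfl⟩ := hgenW x hx
          rw [map_mul, hejY b hb, mul_left_inj] at h
          exact mul_mem (Subgroup.mem_sup_left ((hC a).2 ⟨ha, h⟩)) (Subgroup.mem_sup_right hb)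
        · obtain ⟨a, ha, b, hb, rfl⟩ := Subgroup.mem_sup.1 h
          rw [map_mul, ((hC a).1 ha).2, hejY b hb]
        · intro x hx hne hfix
          obtain ⟨a, ha, b, hb, rfl⟩ := hgenW x hx
          have hval : e j (a * b) * (a * b)⁻¹ = e j a * a⁻¹ := by
            rw [map_mul, hejY b hb, mul_inv, mul_mul_mul_comm, mul_inv_cancel, mul_one]
          rw [hval] at hfix hne
          have hmem : e j a * a⁻¹ ∈ X ⊓ Y := ⟨X.mul_mem (heX a ha) (X.inv_mem ha),
            (hY _).2 ⟨W.mul_mem (hWe j hj a (hXW ha)) (W.inv_mem (hXW ha)), hfix⟩⟩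
          rw [hXY, Subgroup.mem_bot] at hmem
          exact hne hmem
    obtain ⟨j₀, hj₀⟩ := hne
    exact ⟨(main j₀ hj₀).1,
      fun h => ⟨((main j₀ hj₀).2 h).1, fun j hj => ((main j hj).2 h).2⟩⟩

/-- The offender obstruction. -/
theorem not_all_equal (hM : ∀ x : M, x * x = 1) (E F : Subgroup (MulAut M))
    (hE2 : ∀ a ∈ E, a * a = 1) (hcard : 3 ≤ Nat.card E) (hodd : Odd (Nat.card F))
    (hnil : Group.IsNilpotent F) (hn : ∀ a ∈ E, ∀ b ∈ F, a * b * a⁻¹ ∈ F)
    (hfaith : ∀ a ∈ E, (∀ b ∈ F, a * b * a⁻¹ = b) → a = 1)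
    (hoff : Nat.card M ≤ Nat.card E * Nat.card {x : M // ∀ a ∈ E, a x = x})
    (heq : ∀ a ∈ E, ∀ b ∈ E, a ≠ 1 → b ≠ 1 →
      Nat.card {x : M // a x = x} = Nat.card {x : M // b x = x}) : False := by
  classical
  obtain ⟨A, hAF, hAc, hAE, hAf⟩ := exists_good hE2 hodd hnil hn hfaith
  have hAodd : Odd (Nat.card A) := hodd.of_dvd_nat (Subgroup.card_dvd_of_le hAF)
  obtain ⟨b, e, f, hb, heE, hgen, hf, hii, hij⟩ :=
    exists_system hE2 hAodd hAc hAE hAf (Nat.card E) E le_rfl rfl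
  have hb2 : 2 ≤ b := by
    by_contra h
    interval_cases b <;> omega
  have hsys : Sys (Finset.univ : Finset (Fin b)) e f := by
    have hcomm : ∀ i j, i ≠ j → e i * f j = f j * e i := fun i j h => by
      conv_rhs => rw [← hij i j h]
      group
    refine ⟨fun i _ x => ?_, fun i _ j _ x => ?_, fun i _ j _ x => ?_, fun i _ j _ h x => ?_,
      fun i _ x => ?_, fun i _ => ?_⟩
    · rw [← MulAut.mul_apply, hE2 _ (heE i), MulAut.one_apply]
    · rw [← MulAut.mul_apply, ← MulAut.mul_apply]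
      congr 1
      exact comm_of_sq (hE2 _ (heE i)) (hE2 _ (heE j)) (hE2 _ (E.mul_mem (heE i) (heE j)))
    · rw [← MulAut.mul_apply, ← MulAut.mul_apply, hAc _ (hf i).1 _ (hf j).1]
    · rw [← MulAut.mul_apply, ← MulAut.mul_apply, hcomm i j h]
    · rw [← MulAut.mul_apply, ← MulAut.mul_apply]
      congr 1
      calc f i * (e i * f i) = f i * (e i * f i * (e i)⁻¹) * e i := by group
        _ = e i := by rw [hii i, mul_inv_cancel, one_mul]
    · exact ⟨Nat.card A, hAodd, odd_pow_of_card A hAodd (hf i).1⟩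
  have hfix : Nat.card (fix e ⊤ Finset.univ) = Nat.card {x : M // ∀ a ∈ E, a x = x} := by
    refine Nat.card_congr (Equiv.subtypeEquivRight fun x => ?_)
    show x ∈ fix e ⊤ Finset.univ ↔ _
    rw [mem_fix]
    refine ⟨fun h a ha => ?_, fun h => ⟨trivial, fun i _ => h _ (heE i)⟩⟩
    exact ((Subgroup.closure_le (K := MulAction.stabilizer (MulAut M) x)).2 (by
      rintro _ ⟨i, rfl⟩
      exact h.2 i (Finset.mem_univ i)) (hgen ha))
  obtain ⟨hb1, hb3⟩ := fix_bound hM _ ⊤ rfl Finset.univ hsys (fun _ _ _ _ => trivial)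
    (fun _ _ _ _ => trivial) (fun i _ => by
      by_contra h
      push Not at h
      exact (hf i).2.2 (MulEquiv.ext fun x => h x trivial))
  rw [Finset.card_univ, Fintype.card_fin, hfix, Subgroup.card_top, hb] at hb1 hb3
  obtain ⟨-, hK⟩ := hb3 (le_antisymm hb1 hoff)
  let i₁ : Fin b := ⟨0, by omega⟩
  let i₂ : Fin b := ⟨1, by omega⟩
  have hne12 : i₁ ≠ i₂ := by simp [i₁, i₂]
  obtain ⟨K₁, -, hc₁, hm₁, hd₁⟩ := hK i₁ (Finset.mem_univ _)
  obtain ⟨K₂, -, hc₂, hm₂, hd₂⟩ := hK i₂ (Finset.mem_univ _)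
  rw [← Subgroup.card_top (G := M)] at hc₁ hc₂
  have he1 : e i₁ ≠ 1 := by
    intro h
    have h1 : K₁ = ⊤ := eq_top_iff.2 fun x _ => (hm₁ x trivial).1 (by rw [h]; rfl)
    rw [h1] at hc₁
    have := Nat.card_pos (α := (⊤ : Subgroup M))
    omega
  have he2 : e i₂ ≠ 1 := by
    intro h
    have h1 : K₂ = ⊤ := eq_top_iff.2 fun x _ => (hm₂ x trivial).1 (by rw [h]; rfl)
    rw [h1] at hc₂
    have := Nat.card_pos (α := (⊤ : Subgroup M))
    omega
  -- f i₁ preserves K₂
  have hf1K2 : ∀ x, x ∈ K₂ → f i₁ x ∈ K₂ := fun x hx => (hm₂ _ trivial).1 (by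
    rw [hsys.ef i₂ (Finset.mem_univ _) i₁ (Finset.mem_univ _) hne12.symm,
      (hm₂ x trivial).2 hx])
  obtain ⟨x₀, hx₀⟩ : ∃ x, e i₁ x ≠ x := by
    by_contra h
    push Not at h
    exact he1 (MulEquiv.ext h)
  have hd0 : e i₁ x₀ * x₀⁻¹ ≠ 1 := fun h => hx₀ (mul_inv_eq_one.1 h)
  set c₁ := e i₁ x₀ * x₀⁻¹ with hc1def
  have hc1fix : e i₁ c₁ = c₁ := by
    rw [hc1def, map_mul, map_inv, hsys.invol i₁ (Finset.mem_univ _),
      inv_eq_of_mul_eq_one_right (hM x₀), inv_eq_of_mul_eq_one_right (hM (e i₁ x₀)), mul_comm]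
  have hKne : K₁ ≠ K₂ := by
    intro h
    have hfc : e i₁ (f i₁ c₁) = f i₁ c₁ := (hm₁ _ trivial).2
      (h ▸ hf1K2 c₁ (h ▸ (hm₁ c₁ trivial).1 hc1fix))
    have h2 : f i₁ (f i₁ c₁) = c₁ := by
      have := hsys.inv i₁ (Finset.mem_univ _) c₁
      rwa [hfc, hc1fix] at this
    obtain ⟨k, hk, hfk⟩ := hsys.odd i₁ (Finset.mem_univ _)
    exact hd₁ x₀ trivial hd0 (eq_of_fix_two hk hfk h2)
  have hK12 : ¬ K₂ ≤ K₁ := fun h => hKne (Subgroup.eq_of_le_of_card_ge h (by omega)).symm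
  have hK21 : ¬ K₁ ≤ K₂ := fun h => hKne (Subgroup.eq_of_le_of_card_ge h (by omega))
  obtain ⟨x₁, hx₁, hx₁'⟩ := SetLike.not_le_iff_exists.1 hK12
  obtain ⟨x₂, hx₂, hx₂'⟩ := SetLike.not_le_iff_exists.1 hK21
  set e₃ := e i₁ * e i₂ with he3def
  have h31 : e₃ x₁ = e i₁ x₁ := by rw [he3def, MulAut.mul_apply, (hm₂ x₁ trivial).2 hx₁]
  have h32 : e₃ x₂ = e i₂ x₂ := by
    rw [he3def, MulAut.mul_apply, hsys.ee i₁ (Finset.mem_univ _) i₂ (Finset.mem_univ _),
      (hm₁ x₂ trivial).2 hx₂]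
  have h31' : e₃ x₁ ≠ x₁ := fun h => hx₁' ((hm₁ x₁ trivial).1 (h31 ▸ h))
  have h32' : e₃ x₂ ≠ x₂ := fun h => hx₂' ((hm₂ x₂ trivial).1 (h32 ▸ h))
  let K₃ : Subgroup M := fix (fun _ : Fin 1 => e₃) ⊤ Finset.univ
  have hK3 : ∀ x, x ∈ K₃ ↔ e₃ x = x := fun x =>
    ⟨fun h => h.2 0 (Finset.mem_univ _), fun h => ⟨trivial, fun _ _ => h⟩⟩
  have hc3 : Nat.card K₃ = Nat.card K₁ := by
    have hne3 : e₃ ≠ 1 := fun h => h31' (by rw [h]; rfl)
    rw [Nat.card_congr (Equiv.subtypeEquivRight (p := (· ∈ K₃)) hK3),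
      heq e₃ (E.mul_mem (heE _) (heE _)) (e i₁) (heE _) hne3 he1]
    exact Nat.card_congr (Equiv.subtypeEquivRight fun x => hm₁ x trivial)
  have hidx : K₃.index = 2 := by
    have h := K₃.card_mul_index
    rw [hc3, ← Subgroup.card_top (G := M), ← hc₁, mul_comm 2 (Nat.card K₁)] at h
    exact Nat.eq_of_mul_eq_mul_left Nat.card_pos h
  have hmul : x₁ * x₂ ∈ K₃ := (Subgroup.mul_mem_iff_of_index_two hidx).2
    (iff_of_false (fun h => h31' ((hK3 _).1 h)) (fun h => h32' ((hK3 _).1 h)))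
  rw [hK3, map_mul, h31, h32] at hmul
  have hcc : e i₁ x₁ * x₁⁻¹ = e i₂ x₂ * x₂⁻¹ := by
    have h : e i₁ x₁ * x₁⁻¹ * (e i₂ x₂ * x₂⁻¹) = 1 := by
      rw [mul_mul_mul_comm, hmul, mul_mul_mul_comm, mul_inv_cancel, mul_inv_cancel, one_mul]
    exact (eq_inv_of_mul_eq_one_left h).trans (inv_eq_of_mul_eq_one_right (hM _))
  have hd1 : e i₁ x₁ * x₁⁻¹ ≠ 1 := fun h => hx₁' ((hm₁ x₁ trivial).1 (mul_inv_eq_one.1 h))
  apply hd₁ x₁ trivial hd1
  rw [hcc]
  set y := f i₁ x₂ with hy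
  have hfd : f i₁ (e i₂ x₂ * x₂⁻¹) = e i₂ y * y⁻¹ := by
    rw [map_mul, map_inv, hy,
      hsys.ef i₂ (Finset.mem_univ _) i₁ (Finset.mem_univ _) hne12.symm]
  rw [hfd]
  have hy2 : y ∉ K₂ := fun h => by
    apply hx₂'
    have h' := (hm₂ _ trivial).2 h
    rw [hy, hsys.ef i₂ (Finset.mem_univ _) i₁ (Finset.mem_univ _) hne12.symm] at h'
    exact (hm₂ x₂ trivial).1 ((f i₁).injective h')
  have hidx2 : K₂.index = 2 := by
    have h := K₂.card_mul_index
    rw [← Subgroup.card_top (G := M), ← hc₂, mul_comm 2 (Nat.card K₂)] at h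
    exact Nat.eq_of_mul_eq_mul_left Nat.card_pos h
  have hq : y * x₂⁻¹ ∈ K₂ := (Subgroup.mul_mem_iff_of_index_two hidx2).2
    (iff_of_false hy2 fun h => hx₂' (by simpa using K₂.inv_mem h))
  have hq' := (hm₂ _ trivial).2 hq
  rw [map_mul, map_inv] at hq'
  have hq'' : e i₂ y = y * x₂⁻¹ * e i₂ x₂ := mul_inv_eq_iff_eq_mul.1 hq'
  rw [hq'', mul_comm (y * x₂⁻¹) (e i₂ x₂), ← mul_assoc, mul_inv_eq_iff_eq_mul, mul_assoc,
    mul_comm y x₂⁻¹, mul_assoc]

end Fix

end Cfsg.Agent.H74Offender
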