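import Mathlib

/-!
A group whose squares lie in a central elementary abelian subgroup `V` containing all of its
involutions has `|T : V| ≤ |V| ^ 2` (the Chevalley-Warning argument by finite differences).
-/

set_option autoImplicit false

namespace Cfsg.Agent.H74QuadBound

/-- `Deg d f`: all `(d+1)`-st differences of `f` vanish. -/
def Deg {M : Type*} [AddCommGroup M] : ℕ → (M → ZMod 2) → Prop
  | 0, f => ∀ a x, f (x + a) = f x
  | d + 1, f => ∀ a, Deg d fun x => f (x + a) + f x

variable {M : Type*} [AddCommGroup M]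

theorem deg_congr {d : ℕ} {f g : M → ZMod 2} (h : ∀ x, f x = g x) (hf : Deg d f) : Deg d g := by
  rwa [← funext h]

theorem deg_zero_fun (d : ℕ) : Deg d (fun _ : M => (0 : ZMod 2)) := by
  induction d with
  | zero => exact fun a x => rfl
  | succ d ih => exact fun a => deg_congr (fun x => by simp) ih

theorem deg_succ {d : ℕ} {f : M → ZMod 2} (hf : Deg d f) : Deg (d + 1) f := by
  induction d generalizing f with
  | zero =>
    intro a b x
    show f (x + b + a) + f (x + b) = f (x + a) + f x
    simp only [hf a, hf b, CharTwo.add_self_eq_zero]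
  | succ d ih => exact fun a => ih (hf a)

theorem deg_mono {d e : ℕ} (h : d ≤ e) {f : M → ZMod 2} (hf : Deg d f) : Deg e f := by
  induction h with
  | refl => exact hf
  | step _ ih => exact deg_succ ih

theorem deg_add {d : ℕ} {f g : M → ZMod 2} (hf : Deg d f) (hg : Deg d g) :
    Deg d fun x => f x + g x := by
  induction d generalizing f g with
  | zero => exact fun a x => by simp [hf a, hg a]
  | succ d ih => exact fun a => deg_congr (fun x => by ring) (ih (hf a) (hg a))

theorem deg_smul {d : ℕ} (c : ZMod 2) {f : M → ZMod 2} (hf : Deg d f) :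
    Deg d fun x => c * f x := by
  induction d generalizing f with
  | zero => exact fun a x => by simp [hf a]
  | succ d ih => exact fun a => deg_congr (fun x => by ring) (ih (hf a))

theorem deg_comp {N : Type*} [AddCommGroup N] (φ : N →+ M) {d : ℕ} {f : M → ZMod 2}
    (hf : Deg d f) : Deg d (fun x => f (φ x)) := by
  induction d generalizing f with
  | zero => exact fun a x => by simp [map_add, hf (φ a)]
  | succ d ih => exact fun a => deg_congr (fun x => by simp [map_add]) (ih (hf (φ a)))

theorem deg_shift {d : ℕ} (b : M) {f : M → ZMod 2} (hf : Deg d f) :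
    Deg d fun x => f (x + b) := by
  induction d generalizing f with
  | zero => exact fun a x => by show f (x + a + b) = f (x + b); rw [add_right_comm, hf a]
  | succ d ih => exact fun a => deg_congr (fun x => by rw [add_right_comm]) (ih (hf a))

theorem deg_mul : ∀ {n a b : ℕ}, a + b = n → ∀ {f g : M → ZMod 2}, Deg a f → Deg b g →
    Deg n fun x => f x * g x := by
  intro n
  induction n using Nat.strong_induction_on with
  | _ n ih =>
    intro a b hab f g hf hg
    rcases a with _ | a
    · have hc : ∀ x, f x = f 0 := fun x => by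
        have := hf x 0
        rwa [zero_add] at this
      rw [zero_add] at hab
      subst hab
      exact deg_congr (fun x => by rw [hc x]) (deg_smul (f 0) hg)
    · rcases b with _ | b
      · have hc : ∀ x, g x = g 0 := fun x => by
          have := hg x 0
          rwa [zero_add] at this
        rw [add_zero] at hab
        subst hab
        exact deg_congr (fun x => by rw [hc x, mul_comm]) (deg_smul (g 0) hf)
      · obtain ⟨k, rfl⟩ : ∃ k, n = k + 1 := ⟨a + 1 + b, by omega⟩
        intro c
        refine deg_congr (fun x => ?_) (deg_add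
          (ih k (by omega) (a := a) (b := b + 1) (by omega) (hf c) (deg_shift c hg))
          (ih k (by omega) (a := a + 1) (b := b) (by omega) hf (hg c)))
        show _ = f (x + c) * g (x + c) + f x * g x
        generalize f (x + c) = p, g (x + c) = q, f x = r, g x = s
        revert p q r s
        decide

theorem deg_prod {ι : Type*} (s : Finset ι) (k : ℕ) (f : ι → M → ZMod 2)
    (hf : ∀ i ∈ s, Deg k (f i)) : Deg (s.card * k) fun x => ∏ i ∈ s, f i x := by
  classical
  induction s using Finset.induction_on with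
  | empty => simpa using (show Deg 0 (fun _ : M => (1 : ZMod 2)) from fun a x => rfl)
  | @insert i s hi ih =>
    refine deg_congr (fun x => (Finset.prod_insert hi).symm) ?_
    refine deg_mul ?_ (hf i (Finset.mem_insert_self i s))
      (ih fun j hj => hf j (Finset.mem_insert_of_mem hj))
    rw [Finset.card_insert_of_notMem hi]; ring

theorem sum_eq_zero : ∀ {m d : ℕ}, d < m → ∀ {f : (Fin m → ZMod 2) → ZMod 2}, Deg d f →
    ∑ x, f x = 0 := by
  intro m
  induction m with
  | zero => intro d h; omega
  | succ m ih =>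
    intro d hdm f hf
    rw [← Equiv.sum_comp (Fin.consEquiv fun _ : Fin (m + 1) => ZMod 2), Fintype.sum_prod_type,
      show (Finset.univ : Finset (ZMod 2)) = {0, 1} from rfl,
      Finset.sum_pair (by decide), ← Finset.sum_add_distrib]
    show ∑ y : Fin m → ZMod 2, (f (Fin.cons 0 y) + f (Fin.cons 1 y)) = 0
    let φ : (Fin m → ZMod 2) →+ (Fin (m + 1) → ZMod 2) :=
      { toFun := fun y => Fin.cons 0 y
        map_zero' := funext fun i => by refine Fin.cases ?_ (fun j => ?_) i <;> simp
        map_add' := fun y z => funext fun i => by refine Fin.cases ?_ (fun j => ?_) i <;> simp }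
    let e : Fin (m + 1) → ZMod 2 := Fin.cons 1 0
    have hsplit : ∀ y : Fin m → ZMod 2, (Fin.cons 1 y : Fin (m + 1) → ZMod 2) = φ y + e :=
      fun y => funext fun i => by refine Fin.cases ?_ (fun j => ?_) i <;> simp [φ, e]
    rcases d with _ | d
    · refine Finset.sum_eq_zero fun y _ => ?_
      rw [hsplit y, hf e]
      exact CharTwo.add_self_eq_zero _
    · refine ih (d := d) (by omega) (deg_congr (fun y => ?_) (deg_comp φ (hf e)))
      show f (φ y + e) + f (φ y) = _
      rw [hsplit y, add_comm]
      rfl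

theorem le_of_aniso {m n : ℕ} (q : (Fin m → ZMod 2) → (Fin n → ZMod 2))
    (hq : ∀ i, Deg 2 fun x => q x i) (hzero : ∀ x, q x = 0 ↔ x = 0) : m ≤ n * 2 := by
  by_contra h
  classical
  have hdeg : Deg (n * 2) (fun x => ∏ i : Fin n, (1 + q x i)) := by
    have := deg_prod (Finset.univ : Finset (Fin n)) 2 (fun i x => 1 + q x i)
      (fun i _ => deg_add (deg_mono (Nat.zero_le 2) (show Deg 0 (fun _ => (1 : ZMod 2)) from
        fun a x => rfl)) (hq i))
    simpa using this
  have hsum := sum_eq_zero (by omega) hdeg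
  rw [Finset.sum_eq_single (0 : Fin m → ZMod 2)] at hsum
  · rw [(hzero 0).2 rfl] at hsum
    simp at hsum
  · intro x _ hx
    obtain ⟨i, hi⟩ : ∃ i, q x i ≠ 0 := by
      by_contra hc
      push Not at hc
      exact hx ((hzero x).1 (funext hc))
    refine Finset.prod_eq_zero (Finset.mem_univ i) ?_
    revert hi
    generalize q x i = z
    revert z
    decide
  · simp

theorem exists_coord {A : Type*} [AddCommGroup A] [Finite A] (h : ∀ a : A, a + a = 0) :
    ∃ n : ℕ, Nonempty (A ≃+ (Fin n → ZMod 2)) := by
  have : Module (ZMod 2) A := AddCommGroup.zmodModule (fun a => by rw [two_nsmul]; exact h a)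
  exact ⟨Module.finrank (ZMod 2) A, ⟨(Module.finBasis (ZMod 2) A).equivFun.toAddEquiv⟩⟩

theorem card_le_sq {A B : Type*} [AddCommGroup A] [Finite A] [AddCommGroup B] [Finite B]
    (hA : ∀ a : A, a + a = 0) (hB : ∀ b : B, b + b = 0) (q : A → B)
    (β : A → A → B) (hq : ∀ x y, q (x + y) = q x + q y + β x y)
    (hβ : ∀ x y z, β (x + y) z = β x z + β y z) (hzero : ∀ x, q x = 0 ↔ x = 0) :
    Nat.card A ≤ Nat.card B ^ 2 := by
  obtain ⟨m, ⟨eA⟩⟩ := exists_coord hA
  obtain ⟨n, ⟨eB⟩⟩ := exists_coord hB
  have key := le_of_aniso (fun x => eB (q (eA.symm x))) (fun i => ?_) (fun x => ?_)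
  · rw [Nat.card_congr eA.toEquiv, Nat.card_congr eB.toEquiv]
    simp only [Nat.card_eq_fintype_card, Fintype.card_fun, ZMod.card, Fintype.card_fin, ← pow_mul]
    exact Nat.pow_le_pow_right (by norm_num) key
  · intro a b c x
    show _ = _
    simp only [map_add, Pi.add_apply, hq, hβ]
    generalize eB (q (eA.symm a)) i = u1, eB (q (eA.symm b)) i = u2, eB (q (eA.symm c)) i = u3,
      eB (q (eA.symm x)) i = u4, eB (β (eA.symm x) (eA.symm a)) i = u5,
      eB (β (eA.symm x) (eA.symm b)) i = u6, eB (β (eA.symm x) (eA.symm c)) i = u7,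
      eB (β (eA.symm b) (eA.symm a)) i = u8, eB (β (eA.symm c) (eA.symm a)) i = u9,
      eB (β (eA.symm c) (eA.symm b)) i = u10
    grind
  · constructor
    · intro h
      exact eA.symm.map_eq_zero_iff.1 ((hzero _).1 (eB.map_eq_zero_iff.1 h))
    · intro h
      subst h
      rw [map_zero, (hzero 0).2 rfl, map_zero]

/-- The bound `|T : V| ≤ |V| ^ 2`. -/
theorem index_le_sq {T : Type*} [Group T] [Finite T] (V : Subgroup T)
    (hVc : V ≤ Subgroup.center T) (hsq : ∀ t : T, t * t ∈ V)
    (hinv : ∀ t : T, t * t = 1 → t ∈ V) (hV2 : ∀ v ∈ V, v * v = 1) :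
    V.index ≤ Nat.card V ^ 2 := by
  haveI : V.Normal := ⟨fun v hv g => by
    rwa [Subgroup.mem_center_iff.1 (hVc hv) g, mul_inv_cancel_right]⟩
  have hc : ∀ v ∈ V, ∀ t : T, t * v = v * t := fun v hv => Subgroup.mem_center_iff.1 (hVc hv)
  have hQ2 : ∀ x : T ⧸ V, x * x = 1 := fun x => by
    induction x using QuotientGroup.induction_on with
    | H t => exact (QuotientGroup.eq_one_iff _).2 (hsq t)
  letI : CommGroup (T ⧸ V) :=
    { (inferInstance : Group (T ⧸ V)) with
      mul_comm := fun x y => by
        have hx := inv_eq_of_mul_eq_one_right (hQ2 x)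
        have hy := inv_eq_of_mul_eq_one_right (hQ2 y)
        have hxy := inv_eq_of_mul_eq_one_right (hQ2 (x * y))
        rw [mul_inv_rev, hx, hy] at hxy
        exact hxy.symm }
  letI : CommGroup ↥V :=
    { (inferInstance : Group ↥V) with
      mul_comm := fun x y => Subtype.ext (hc y.1 y.2 x.1) }
  have hcomm : ∀ x a : T, a * x * a⁻¹ * x⁻¹ ∈ V := fun x a => by
    refine (QuotientGroup.eq_one_iff _).1 ?_
    simp only [QuotientGroup.mk_mul, QuotientGroup.mk_inv]
    rw [mul_comm (a : T ⧸ V) (x : T ⧸ V), mul_inv_cancel_right, mul_inv_cancel]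
  let cf : T → T → ↥V := fun x a => ⟨a * x * a⁻¹ * x⁻¹, hcomm x a⟩
  have hcf : ∀ x y a : T, cf (x * y) a = cf x a * cf y a := fun x y a => Subtype.ext (by
    show a * (x * y) * a⁻¹ * (x * y)⁻¹ = a * x * a⁻¹ * x⁻¹ * (a * y * a⁻¹ * y⁻¹)
    have hh := hc _ (hcomm y a) x
    calc a * (x * y) * a⁻¹ * (x * y)⁻¹
        = (a * x * a⁻¹) * (a * y * a⁻¹ * y⁻¹) * x⁻¹ := by group
      _ = (a * x * a⁻¹ * x⁻¹) * (x * (a * y * a⁻¹ * y⁻¹)) * x⁻¹ := by group
      _ = _ := by rw [hh]; group)
  have hsqv : ∀ (t v : T), v ∈ V → t * v * (t * v) = t * t := fun t v hv => by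
    rw [mul_assoc t v, ← mul_assoc v t, ← hc v hv t, mul_assoc t v, hV2 v hv, mul_one]
  let qf : T ⧸ V → ↥V := Quotient.lift (fun t : T => (⟨t * t, hsq t⟩ : ↥V)) (fun s t hst =>
    Subtype.ext (by
      have hmem : s⁻¹ * t ∈ V := QuotientGroup.leftRel_apply.1 hst
      show s * s = t * t
      rw [← hsqv s _ hmem, mul_inv_cancel_left]))
  have hqf : ∀ t : T, qf (t : T ⧸ V) = ⟨t * t, hsq t⟩ := fun t => rfl
  have hqmul : ∀ s t : T, qf ((s * t : T) : T ⧸ V) =
      qf (s : T ⧸ V) * qf (t : T ⧸ V) * cf s t := fun s t => Subtype.ext (by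
    show s * t * (s * t) = s * s * (t * t) * (t * s * t⁻¹ * s⁻¹)
    have h1 := hc _ (hcomm s t) (t * t)
    calc s * t * (s * t) = s * (t * s * t⁻¹ * s⁻¹) * (s * (t * t)) := by group
      _ = (t * s * t⁻¹ * s⁻¹) * (s * (s * (t * t))) := by rw [hc _ (hcomm s t) s]; group
      _ = _ := by rw [← hc _ (hcomm s t) (s * (s * (t * t)))]; group)
  let β : T ⧸ V → T ⧸ V → ↥V := fun x y => (qf x * qf y)⁻¹ * qf (x * y)
  have hβ : ∀ s t : T, β (s : T ⧸ V) (t : T ⧸ V) = cf s t := fun s t => by
    show (qf (s : T ⧸ V) * qf (t : T ⧸ V))⁻¹ * qf (((s * t : T)) : T ⧸ V) = _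
    rw [hqmul, inv_mul_cancel_left]
  rw [Subgroup.index_eq_card]
  have := card_le_sq (A := Additive (T ⧸ V)) (B := Additive ↥V)
    (fun a => hQ2 (Additive.toMul a)) (fun b => Subtype.ext (hV2 _ (Additive.toMul b).2))
    (fun a => Additive.ofMul (qf (Additive.toMul a)))
    (fun a b => Additive.ofMul (β (Additive.toMul a) (Additive.toMul b))) ?_ ?_ ?_
  · rwa [Nat.card_congr Additive.toMul, Nat.card_congr Additive.toMul] at this
  · intro x y
    show qf (Additive.toMul x * Additive.toMul y) = qf _ * qf _ * β _ _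
    rw [mul_inv_cancel_left]
  · intro x y z
    show β (Additive.toMul x * Additive.toMul y) _ = β _ _ * β _ _
    generalize Additive.toMul x = a, Additive.toMul y = b, Additive.toMul z = c
    induction a using QuotientGroup.induction_on with
    | H a => induction b using QuotientGroup.induction_on with
      | H b => induction c using QuotientGroup.induction_on with
        | H c => rw [← QuotientGroup.mk_mul, hβ, hβ, hβ, hcf]
  · intro x
    show qf (Additive.toMul x) = 1 ↔ Additive.toMul x = 1
    generalize Additive.toMul x = a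
    induction a using QuotientGroup.induction_on with
    | H a =>
      rw [hqf, QuotientGroup.eq_one_iff]
      exact ⟨fun h => hinv a (congrArg Subtype.val h), fun h => Subtype.ext (hV2 a h)⟩

end Cfsg.Agent.H74QuadBound
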