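import Mathlib
import Cfsg.Prelude.Def_Local
import Cfsg.Agent.Lib.HallSolvable
import Cfsg.Agent.Lib.CoprimeSZ
import Cfsg.Agent.Lib.ComponentsFitting
import Cfsg.Agent.Lib.ClassTwoPow
import Cfsg.Agent.Lib.H74QuadBound
import Cfsg.Agent.Lib.H74Offender

/-!
A solvable group with one class of involutions and at least two involutions in a Sylow
2-subgroup has 2-length one.
-/

set_option autoImplicit false

namespace Cfsg.Agent.H74OneClass

open Cfsg.Agent.HallCore Cfsg.Agent.HallSolvable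
open scoped Pointwise commutatorElement

universe u

/-- All involutions are conjugate. -/
def Conj2 (G : Type*) [Group G] : Prop :=
  ∀ x y : G, x ≠ 1 → x * x = 1 → y ≠ 1 → y * y = 1 → ∃ g, g * x * g⁻¹ = y

/-- There are two commuting distinct involutions. -/
def Two (G : Type*) [Group G] : Prop :=
  ∃ x y : G, x ≠ y ∧ x ≠ 1 ∧ x * x = 1 ∧ y ≠ 1 ∧ y * y = 1 ∧ x * y = y * x

/-- `O(G) S` is normal. -/
def Good (G : Type*) [Group G] : Prop :=
  ∀ S : Sylow 2 G, ((S : Subgroup G) ⊔ Cfsg.pPrimeCore 2 G).Normal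

variable {G : Type u} [Group G] [Finite G]

theorem odd_core : Odd (Nat.card (Cfsg.pPrimeCore 2 G)) :=
  Nat.coprime_two_right.1 (coprime_card_pPrimeCore 2 G)

omit [Finite G] in
theorem eq_one_of_odd_two {a : G} {k m : ℕ} (hk : Odd k) (h1 : a ^ k = 1) (h2 : a ^ 2 ^ m = 1) :
    a = 1 := by
  have h := pow_gcd_eq_one.2 ⟨h1, h2⟩
  rwa [show Nat.gcd k (2 ^ m) = 1 from Nat.Coprime.pow_right m (Nat.coprime_two_right.2 hk),
    pow_one] at h

omit [Finite G] in
theorem inf_eq_one {A B : Subgroup G} (hA : Odd (Nat.card A)) (hB : IsPGroup 2 B) {a : G}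
    (ha : a ∈ A) (hb : a ∈ B) : a = 1 := by
  obtain ⟨m, hm⟩ := hB ⟨a, hb⟩
  exact eq_one_of_odd_two hA (H74Offender.odd_pow_of_card A hA ha) (congrArg Subtype.val hm)

omit [Finite G] in
/-- An element of odd order stabilising a coset of fixed elements fixes it. -/
theorem stab_trivial {x r a : G} {k m : ℕ} (hxr : x * r * x⁻¹ = r * a) (hxa : x * a * x⁻¹ = a)
    (hk : Odd k) (hx : x ^ k = 1) (ha : a ^ 2 ^ m = 1) : x * r * x⁻¹ = r := by
  have hn : ∀ n : ℕ, x ^ n * r * (x ^ n)⁻¹ = r * a ^ n := by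
    intro n
    induction n with
    | zero => simp
    | succ n ih =>
      rw [pow_succ', mul_inv_rev, show x * x ^ n * r * ((x ^ n)⁻¹ * x⁻¹) =
        x * (x ^ n * r * (x ^ n)⁻¹) * x⁻¹ by group, ih,
        show x * (r * a ^ n) * x⁻¹ = (x * r * x⁻¹) * (x * a * x⁻¹) ^ n by rw [conj_pow]; group,
        hxr, hxa, mul_assoc, ← pow_succ']
  have h := hn k
  rw [hx, one_mul, inv_one, mul_one, eq_comm, mul_eq_left] at h
  rw [hxr, eq_one_of_odd_two hk h ha, mul_one]

theorem fixed_invol {A P : Subgroup G} (hA : IsPGroup 2 A) (hP : IsPGroup 2 P) (hA1 : A ≠ ⊥)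
    (hPA : P ≤ Subgroup.normalizer (A : Set G)) :
    ∃ a ∈ A, a ≠ 1 ∧ a * a = 1 ∧ ∀ x ∈ P, x * a = a * x := by
  letI : MulAction P A :=
    { smul := fun x a => ⟨(x : G) * a * (x : G)⁻¹,
        (Subgroup.mem_normalizer_iff.1 (hPA x.2) a).1 a.2⟩
      one_smul := fun a => Subtype.ext (by
        show (1 : G) * a * (1 : G)⁻¹ = a
        simp)
      mul_smul := fun x y a => Subtype.ext (by
        show ((x : G) * y) * a * ((x : G) * y)⁻¹ = (x : G) * ((y : G) * a * (y : G)⁻¹) * (x : G)⁻¹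
        group) }
  haveI : Nontrivial A := (Subgroup.nontrivial_iff_ne_bot A).2 hA1
  obtain ⟨n, hn, hcard⟩ := (hA.nontrivial_iff_card).1 this
  obtain ⟨b, hb, hb1⟩ := hP.exists_fixed_point_of_prime_dvd_card_of_fixed_point (α := A)
    (hcard ▸ dvd_pow_self 2 (Nat.pos_iff_ne_zero.1 hn)) (a := 1)
    (fun x => Subtype.ext (by
      show (x : G) * (1 : A) * (x : G)⁻¹ = (1 : A)
      simp))
  obtain ⟨k, hk⟩ := IsPGroup.iff_orderOf.1 hA b
  have hk0 : k ≠ 0 := by
    rintro rfl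
    rw [pow_zero, orderOf_eq_one_iff] at hk
    exact hb1 hk.symm
  obtain ⟨k, rfl⟩ := Nat.exists_eq_succ_of_ne_zero hk0
  refine ⟨(b : G) ^ 2 ^ k, A.pow_mem b.2 _, fun h => ?_, ?_, fun x hx => ?_⟩
  · have h1 := orderOf_le_of_pow_eq_one (by positivity) h
    rw [Subgroup.orderOf_coe, hk, pow_succ] at h1
    have : 0 < 2 ^ k := by positivity
    omega
  · rw [← pow_add, ← two_mul, ← pow_succ', ← hk, ← Subgroup.orderOf_coe, pow_orderOf_eq_one]
  · have h2 : x * (b : G) * x⁻¹ = b := congrArg Subtype.val (hb ⟨x, hx⟩)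
    exact ((show Commute x (b : G) from mul_inv_eq_iff_eq_mul.1 h2).pow_right _).eq

theorem lift_invol {N : Subgroup G} [N.Normal] (hN : Odd (Nat.card N)) {x : G ⧸ N}
    (hx : x * x = 1) : ∃ y : G, y * y = 1 ∧ (y : G ⧸ N) = x := by
  obtain ⟨y, rfl⟩ := QuotientGroup.mk_surjective x
  obtain ⟨j, hj⟩ := hN
  refine ⟨y ^ Nat.card N, ?_, ?_⟩
  · have hy : y * y ∈ N := (QuotientGroup.eq_one_iff _).1 hx
    rw [← (Commute.refl y).mul_pow]
    exact congrArg Subtype.val (pow_card_eq_one' (x := (⟨y * y, hy⟩ : N)))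
  · rw [QuotientGroup.mk_pow, hj, pow_succ, pow_mul, pow_two, hx, one_pow, one_mul]

omit [Finite G] in
theorem mem_left_of_mem_sup {S O : Subgroup G} (hS : IsPGroup 2 S)
    (hn : S ≤ Subgroup.normalizer (O : Set G)) (hO : Odd (Nat.card O)) {c : G} (hc : c ∈ S ⊔ O)
    {k : ℕ} (hk : Odd k) (hck : c ^ k = 1) : c ∈ O := by
  have hc' : c ∈ ((S : Set G) * (O : Set G)) := by
    rw [← Subgroup.coe_mul_of_left_le_normalizer_right _ _ hn]; exact hc
  obtain ⟨s, hs, o, ho, rfl⟩ := Set.mem_mul.1 hc'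
  have hpow : ∀ n : ℕ, (s ^ n)⁻¹ * (s * o) ^ n ∈ O := by
    intro n
    induction n with
    | zero => simp
    | succ n ih =>
      have h1 := (Subgroup.mem_normalizer_iff''.1 (hn hs) _).1 ih
      have := O.mul_mem h1 ho
      rw [pow_succ (s * o), pow_succ s]
      convert this using 1
      group
  have h := hpow k
  rw [hck, mul_one, inv_mem_iff] at h
  obtain ⟨m, hm⟩ := hS ⟨s, hs⟩
  have hsk := inf_eq_one hO hS h (S.pow_mem hs k)
  rw [eq_one_of_odd_two hk hsk (congrArg Subtype.val hm), one_mul]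
  exact ho

/-- The inductive information on a proper subgroup. -/
theorem sub_data (ih : ∀ m, m < Nat.card G → ∀ (H : Type u) [Group H] [Finite H], Nat.card H = m →
      Group.IsSolvable H → Conj2 H → Two H → Good H) (hsol : Group.IsSolvable G)
    (N : Subgroup G) (hN : N ≠ ⊤)
    (hc : ∀ x ∈ N, ∀ y ∈ N, x ≠ 1 → x * x = 1 → y ≠ 1 → y * y = 1 → ∃ n ∈ N, n * x * n⁻¹ = y)
    (htwo : ∃ x ∈ N, ∃ y ∈ N, x ≠ y ∧ x ≠ 1 ∧ x * x = 1 ∧ y ≠ 1 ∧ y * y = 1 ∧ x * y = y * x)
    (Q : Subgroup G) (hQ : IsPGroup 2 Q) (hQN : Q ≤ N) :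
    ∃ S O : Subgroup G, Q ≤ S ∧ S ≤ N ∧ IsPGroup 2 S ∧ ¬ 2 ∣ S.relIndex N ∧ O ≤ N ∧
      Odd (Nat.card O) ∧ (∀ g ∈ N, ∀ o ∈ O, g * o * g⁻¹ ∈ O) ∧
      (∀ L : Subgroup G, L ≤ N → Odd (Nat.card L) → (∀ g ∈ N, ∀ l ∈ L, g * l * g⁻¹ ∈ L) → L ≤ O) ∧
      (∀ g ∈ N, ∀ x ∈ S ⊔ O, g * x * g⁻¹ ∈ S ⊔ O) ∧
      ∀ g ∈ N, ∃ o ∈ O, o⁻¹ * g ∈ Subgroup.normalizer (S : Set G) := by
  have hgood : Good N := ih _ (card_subgroup_lt hN) N rfl inferInstance
    (fun x y hx hx2 hy hy2 => by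
      obtain ⟨n, hn, h⟩ := hc x x.2 y y.2 (fun h => hx (Subtype.ext h))
        (congrArg Subtype.val hx2) (fun h => hy (Subtype.ext h)) (congrArg Subtype.val hy2)
      exact ⟨⟨n, hn⟩, Subtype.ext h⟩)
    (by
      obtain ⟨x, hx, y, hy, hxy, hx1, hx2, hy1, hy2, hcm⟩ := htwo
      exact ⟨⟨x, hx⟩, ⟨y, hy⟩, fun h => hxy (congrArg Subtype.val h),
        fun h => hx1 (congrArg Subtype.val h), Subtype.ext hx2,
        fun h => hy1 (congrArg Subtype.val h), Subtype.ext hy2, Subtype.ext hcm⟩)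
  obtain ⟨S₀, hS₀⟩ := (hQ.comap_subtype (K := N)).exists_le_sylow
  set S := (S₀ : Subgroup N).map N.subtype with hSdef
  set O := (Cfsg.pPrimeCore 2 N).map N.subtype with hOdef
  have hOodd : Odd (Nat.card O) := by
    rw [Subgroup.card_map_of_injective N.subtype_injective]; exact odd_core
  have hSO : S ⊔ O = ((S₀ : Subgroup N) ⊔ Cfsg.pPrimeCore 2 N).map N.subtype :=
    (Subgroup.map_sup _ _ _).symm
  have hOn : ∀ g ∈ N, ∀ o ∈ O, g * o * g⁻¹ ∈ O := by
    rintro g hg _ ⟨o, ho, rfl⟩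
    exact ⟨_, (pPrimeCore_normal 2 N).conj_mem o ho ⟨g, hg⟩, rfl⟩
  have hSN : S ≤ N := Subgroup.map_subtype_le _
  have hSp : IsPGroup 2 S := S₀.2.map _
  have hJ : ∀ g ∈ N, ∀ x ∈ S ⊔ O, g * x * g⁻¹ ∈ S ⊔ O := by
    intro g hg x hx
    rw [hSO] at hx ⊢
    obtain ⟨y, hy, rfl⟩ := hx
    exact ⟨_, (hgood S₀).conj_mem y hy ⟨g, hg⟩, rfl⟩
  refine ⟨S, O, fun q hq => ⟨⟨q, hQN hq⟩, hS₀ hq, rfl⟩, hSN, hSp, ?_, Subgroup.map_subtype_le _,
    hOodd, hOn, ?_, hJ, ?_⟩
  · have h : S.relIndex N = (S₀ : Subgroup N).index := by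
      show (S.subgroupOf N).index = _
      rw [hSdef, Subgroup.subgroupOf, Subgroup.comap_map_eq_self_of_injective N.subtype_injective]
    rw [h]
    exact S₀.not_dvd_index
  · intro L hL hLo hLn l hl
    haveI : (L.subgroupOf N).Normal := ⟨fun x hx g => hLn g g.2 x hx⟩
    refine ⟨⟨l, hL hl⟩, le_pPrimeCore (p := 2) (N := L.subgroupOf N) ?_ hl, rfl⟩
    rw [Nat.card_congr (Subgroup.subgroupOfEquivOfLe hL).toEquiv]
    exact Nat.coprime_two_right.2 hLo
  · intro g hg
    have hSnO : S ≤ Subgroup.normalizer (O : Set G) := fun s hs => by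
      rw [Subgroup.mem_normalizer_iff]
      refine fun x => ⟨hOn s (hSN hs) x, fun hx => ?_⟩
      have := hOn s⁻¹ (N.inv_mem (hSN hs)) _ hx
      simpa [mul_assoc] using this
    have hcop : (Nat.card S).Coprime (Nat.card O) := by
      obtain ⟨m, hm⟩ := IsPGroup.iff_card.1 hSp
      rw [hm]
      exact (Nat.coprime_two_left.2 hOodd).pow_left m
    obtain ⟨o, ho, hconj⟩ := CoprimeSZ.exists_conj_of_card_eq (N := O) (A := S)
      (B := MulAut.conj g • S) hSnO hcop
      (Or.inl (inferInstance : Group.IsSolvable S))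
      (by
        intro x hx
        rw [CoprimeSZ.conj_smul_eq_map] at hx
        obtain ⟨s, hs, rfl⟩ := hx
        rw [sup_comm]
        exact hJ g hg s (Subgroup.mem_sup_left hs))
      (CoprimeSZ.card_conj_smul g S)
    refine ⟨o, ho, Subgroup.mem_normalizer_iff_map_conj_eq.2 ?_⟩
    show S.map (MulAut.conj (o⁻¹ * g)).toMonoidHom = S
    rw [← CoprimeSZ.conj_smul_eq_map, map_mul, mul_smul, ← hconj, ← mul_smul, ← map_mul,
      inv_mul_cancel, map_one, one_smul]

theorem exists_invol_of_even {H : Subgroup G} (h : Even (Nat.card H)) :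
    ∃ x ∈ H, x ≠ 1 ∧ x * x = 1 := by
  obtain ⟨⟨x, hx⟩, hxo⟩ := exists_prime_orderOf_dvd_card' 2 (even_iff_two_dvd.1 h)
  rw [Subgroup.orderOf_mk] at hxo
  refine ⟨x, hx, fun h => ?_, by rw [← pow_two, ← hxo, pow_orderOf_eq_one]⟩
  rw [h, orderOf_one] at hxo
  omega

omit [Finite G] in
/-- Conjugation-invariance of a set-defined condition, as a normalizer membership. -/
theorem mem_normalizer_of_conj {H : Subgroup G} {N : Subgroup G}
    (h : ∀ g ∈ N, ∀ x ∈ H, g * x * g⁻¹ ∈ H) : N ≤ Subgroup.normalizer (H : Set G) := fun g hg => by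
  rw [Subgroup.mem_normalizer_iff]
  refine fun x => ⟨h g hg x, fun hx => ?_⟩
  have := h g⁻¹ (N.inv_mem hg) _ hx
  simpa [mul_assoc] using this

/-- A subgroup of squares surjecting onto `V` has order at least `|V| ^ 2`, with equality making
the squaring map injective modulo `V`. -/
theorem sq_surj {V U : Subgroup G} (hVU : V ≤ U) (hVc : ∀ v ∈ V, ∀ u ∈ U, v * u = u * v)
    (hV2 : ∀ v ∈ V, v * v = 1) (hsq : ∀ u ∈ U, u * u ∈ V)
    (hsurj : ∀ v ∈ V, ∃ u ∈ U, u * u = v) :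
    Nat.card V * Nat.card V ≤ Nat.card U ∧ (Nat.card U = Nat.card V * Nat.card V →
      ∀ u ∈ U, ∀ u' ∈ U, u * u = u' * u' → u⁻¹ * u' ∈ V) := by
  set W := V.subgroupOf U
  have hwell : ∀ a b : U, (QuotientGroup.leftRel W).r a b →
      (⟨(a : G) * a, hsq a a.2⟩ : V) = ⟨(b : G) * b, hsq b b.2⟩ := by
    intro a b hab
    have h : (a : G)⁻¹ * b ∈ V := (QuotientGroup.leftRel_apply (s := W)).1 hab
    refine Subtype.ext ?_
    show (a : G) * a = (b : G) * b
    set v := (a : G)⁻¹ * b with hv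
    have hb : (b : G) = a * v := by rw [hv, mul_inv_cancel_left]
    rw [hb, mul_assoc (a : G) v, ← mul_assoc v (a : G), hVc v h a a.2, mul_assoc (a : G) v,
      hV2 v h, mul_one]
  let q : U ⧸ W → V := Quotient.lift (fun a : U => (⟨(a : G) * a, hsq a a.2⟩ : V)) hwell
  have hq : Function.Surjective q := fun v => by
    obtain ⟨u, hu, huv⟩ := hsurj v v.2
    exact ⟨QuotientGroup.mk ⟨u, hu⟩, Subtype.ext huv⟩
  have hcard : Nat.card U = Nat.card (U ⧸ W) * Nat.card V := by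
    rw [Subgroup.card_eq_card_quotient_mul_card_subgroup W,
      Nat.card_congr (Subgroup.subgroupOfEquivOfLe hVU).toEquiv]
  have h1 := Nat.card_le_card_of_surjective q hq
  refine ⟨by rw [hcard]; exact Nat.mul_le_mul h1 le_rfl, fun heq u hu u' hu' h => ?_⟩
  rw [hcard] at heq
  have h2 : Nat.card (U ⧸ W) = Nat.card V := Nat.eq_of_mul_eq_mul_right Nat.card_pos heq
  have hinj := (hq.bijective_of_nat_card_le h2.le).injective
  have h3 : (QuotientGroup.mk (⟨u, hu⟩ : U) : U ⧸ W) = QuotientGroup.mk ⟨u', hu'⟩ :=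
    hinj (Subtype.ext h)
  exact (QuotientGroup.eq (s := W)).1 h3

/-- The configuration reached in the reduction is impossible. -/
theorem final_case (R V N : Subgroup G) [R.Normal] [V.Normal] (S O : Subgroup G)
    (hR : IsPGroup 2 R) (hVR : V ≤ R) (hCR : Subgroup.centralizer (R : Set G) ≤ R)
    (hF : ∃ F : Subgroup (G ⧸ R), F.Normal ∧ Group.IsNilpotent F ∧ Odd (Nat.card F) ∧
      Subgroup.centralizer (F : Set (G ⧸ R)) ≤ F)
    (hQ : ∀ K : Subgroup G, K.Normal → IsPGroup 2 K → K ≤ R)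
    (hinv : ∀ x : G, x * x = 1 → x ∈ V) (hV2 : ∀ v ∈ V, v * v = 1)
    (hV3 : 3 ≤ Nat.card V) (hVc : ∀ v ∈ V, ∀ r ∈ R, v * r = r * v)
    (hsq : ∀ r ∈ R, r * r ∈ V) (hRV : R ≠ V) (hNR : N ⊓ R = V)
    (htr : ∀ x ∈ V, ∀ y ∈ V, x ≠ 1 → y ≠ 1 → ∃ n ∈ N, n * x * n⁻¹ = y)
    (hVS : V ≤ S) (hSN : S ≤ N) (hS : IsPGroup 2 S) (hSR : ¬ S ≤ R) (hON : O ≤ N)
    (hOV : ∀ o ∈ O, ∀ v ∈ V, o * v = v * o)
    (hfr : ∀ g ∈ N, ∃ o ∈ O, o⁻¹ * g ∈ Subgroup.normalizer (S : Set G)) : False := by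
  classical
  have hVn : ∀ g : G, ∀ v ∈ V, g * v * g⁻¹ ∈ V := fun g v hv =>
    (inferInstance : V.Normal).conj_mem v hv g
  set H : Subgroup G := N ⊓ Subgroup.normalizer (S : Set G)
  have htrH : ∀ x ∈ V, ∀ y ∈ V, x ≠ 1 → y ≠ 1 → ∃ h ∈ H, h * x * h⁻¹ = y := by
    intro x hx y hy hx1 hy1
    obtain ⟨n, hn, hnxy⟩ := htr x hx y hy hx1 hy1
    obtain ⟨o, ho, hh⟩ := hfr n hn
    refine ⟨o⁻¹ * n, ⟨N.mul_mem (N.inv_mem (hON ho)) hn, hh⟩, ?_⟩
    calc o⁻¹ * n * x * (o⁻¹ * n)⁻¹ = o⁻¹ * (n * x * n⁻¹) * o := by group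
      _ = o⁻¹ * y * o := by rw [hnxy]
      _ = y := by rw [mul_assoc, ← hOV o ho y hy, inv_mul_cancel_left]
  have hHS : ∀ h ∈ H, ∀ s ∈ S, h * s * h⁻¹ ∈ S := fun h hh s hs =>
    (Subgroup.mem_normalizer_iff.1 hh.2 s).1 hs
  have hR2 : Nat.card V ≠ 1 := by omega
  -- V is central in S
  have hVS' : ∀ s ∈ S, ∀ v ∈ V, s * v = v * s := by
    obtain ⟨a, ha, ha1, -, haS⟩ := fixed_invol (hR.to_le hVR) hS
      (fun h => hR2 (by rw [h, Subgroup.card_bot]))
      (mem_normalizer_of_conj fun g _ => hVn g)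
    intro s hs v hv
    by_cases hv1 : v = 1
    · simp [hv1]
    obtain ⟨h, hh, rfl⟩ := htrH a ha v hv ha1 hv1
    have h1 := haS _ (hHS h⁻¹ (H.inv_mem hh) s hs)
    calc s * (h * a * h⁻¹) = h * ((h⁻¹ * s * (h⁻¹)⁻¹) * a) * h⁻¹ := by group
      _ = h * (a * (h⁻¹ * s * (h⁻¹)⁻¹)) * h⁻¹ := by rw [h1]
      _ = _ := by group
  -- quotient by V
  set π := QuotientGroup.mk' V
  have hπ : ∀ x : G, π x = 1 ↔ x ∈ V := fun x => QuotientGroup.eq_one_iff x
  have hπc : ∀ x y : G, π x * π y = π y * π x ↔ x * y * x⁻¹ * y⁻¹ ∈ V := fun x y => by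
    rw [← hπ, map_mul, map_mul, map_mul, map_inv, map_inv, mul_inv_eq_one, mul_inv_eq_iff_eq_mul]
  -- E
  let E : Subgroup G :=
    { carrier := {s | s ∈ S ∧ s * s ∈ V ∧ ∀ x ∈ S, π s * π x = π x * π s}
      one_mem' := ⟨S.one_mem, by simp [V.one_mem], by simp⟩
      mul_mem' := by
        rintro a b ⟨ha, ha2, hac⟩ ⟨hb, hb2, hbc⟩
        refine ⟨S.mul_mem ha hb, ?_, fun x hx => ?_⟩
        · have h1 : π a * π a = 1 := by rw [← map_mul]; exact (hπ _).2 ha2
          have h2 : π b * π b = 1 := by rw [← map_mul]; exact (hπ _).2 hb2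
          rw [← hπ, map_mul, map_mul, mul_assoc, ← mul_assoc (π b), hbc a ha, mul_assoc (π a),
            ← mul_assoc, h1, one_mul, h2]
        · rw [map_mul, mul_assoc, hbc x hx, ← mul_assoc, hac x hx, mul_assoc]
      inv_mem' := by
        rintro a ⟨ha, ha2, hac⟩
        refine ⟨S.inv_mem ha, ?_, fun x hx => ?_⟩
        · rw [← mul_inv_rev, inv_mem_iff]; exact ha2
        · rw [map_inv]; exact (Commute.inv_left (hac x hx)).eq }
  have hES : E ≤ S := fun e he => he.1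
  have hEN : E ≤ N := hES.trans hSN
  have hVE : V ≤ E := fun v hv => ⟨hVS hv, V.mul_mem hv hv, fun x hx => by
    rw [(hπ v).2 hv, one_mul, mul_one]⟩
  have hER : ∀ e ∈ E, e ∈ R → e ∈ V := fun e he heR => hNR ▸ ⟨hEN he, heR⟩
  obtain ⟨e₀, he₀, he₀V⟩ : ∃ e₀ ∈ E, e₀ ∉ V := by
    have hSV : S.map π ≠ ⊥ := fun h => hSR fun s hs =>
      hVR ((hπ s).1 (Subgroup.mem_bot.1 (h ▸ Subgroup.mem_map_of_mem π hs)))
    obtain ⟨a, ⟨s, hs, rfl⟩, ha1, ha2, hac⟩ :=
      fixed_invol (hS.map π) (hS.map π) hSV Subgroup.le_normalizer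
    refine ⟨s, ⟨hs, ?_, fun x hx => (hac _ ⟨x, hx, rfl⟩).symm⟩, fun h => ha1 ((hπ s).2 h)⟩
    rw [← hπ, map_mul]; exact ha2
  have hHE : ∀ h ∈ H, ∀ e ∈ E, h * e * h⁻¹ ∈ E := by
    intro h hh e he
    refine ⟨hHS h hh e he.1, ?_, fun x hx => ?_⟩
    · have := hVn h _ he.2.1
      convert this using 1
      group
    · have h1 := he.2.2 _ (hHS h⁻¹ (H.inv_mem hh) x hx)
      rw [inv_inv] at h1
      have h2 := congrArg (fun z => π h * z * (π h)⁻¹) h1
      simp only [map_mul, map_inv] at h2 ⊢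
      group at h2 ⊢
      exact h2
  -- U
  let U : Subgroup G :=
    { carrier := {r | r ∈ R ∧ ∀ e ∈ E, π r * π e = π e * π r}
      one_mem' := ⟨R.one_mem, by simp⟩
      mul_mem' := fun {a b} ha hb => ⟨R.mul_mem ha.1 hb.1, fun e he => by
        rw [map_mul, mul_assoc, hb.2 e he, ← mul_assoc, ha.2 e he, mul_assoc]⟩
      inv_mem' := fun {a} ha => ⟨R.inv_mem ha.1, fun e he => by
        rw [map_inv]; exact (Commute.inv_left (ha.2 e he)).eq⟩ }
  have hUR : U ≤ R := fun u hu => hu.1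
  have hVU : V ≤ U := fun v hv => ⟨hVR hv, fun e he => by rw [(hπ v).2 hv, one_mul, mul_one]⟩
  obtain ⟨u₀, hu₀, hu₀V⟩ : ∃ u₀ ∈ U, u₀ ∉ V := by
    have hRV' : R.map π ≠ ⊥ := fun h => hRV (le_antisymm
      (fun r hr => (hπ r).1 (Subgroup.mem_bot.1 (h ▸ Subgroup.mem_map_of_mem π hr))) hVR)
    haveI : (R.map π).Normal := Subgroup.Normal.map inferInstance π (QuotientGroup.mk'_surjective V)
    obtain ⟨a, ⟨r, hr, rfl⟩, ha1, -, hac⟩ := fixed_invol (hR.map π) ((hS.to_le hES).map π) hRV'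
      (by rw [Subgroup.normalizer_eq_top_iff.2 inferInstance]; exact le_top)
    exact ⟨r, ⟨hr, fun e he => (hac _ ⟨e, he, rfl⟩).symm⟩, fun h => ha1 ((hπ r).2 h)⟩
  have hHU : ∀ h ∈ H, ∀ r ∈ U, h * r * h⁻¹ ∈ U := by
    intro h hh r hr
    refine ⟨(inferInstance : R.Normal).conj_mem r hr.1 h, fun e he => ?_⟩
    have h1 := hr.2 _ (hHE h⁻¹ (H.inv_mem hh) e he)
    rw [inv_inv] at h1
    have h2 := congrArg (fun z => π h * z * (π h)⁻¹) h1
    simp only [map_mul, map_inv] at h2 ⊢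
    group at h2 ⊢
    exact h2
  -- every element of V is a square in U and in E
  have hsurj : ∀ (A : Subgroup G), (∀ h ∈ H, ∀ a ∈ A, h * a * h⁻¹ ∈ A) → ∀ a₀ ∈ A, a₀ ∉ V →
      a₀ * a₀ ∈ V → ∀ v ∈ V, ∃ a ∈ A, a * a = v := by
    intro A hA a₀ ha₀ ha₀V ha₀2 v hv
    by_cases hv1 : v = 1
    · exact ⟨1, A.one_mem, by simp [hv1]⟩
    obtain ⟨h, hh, he⟩ := htrH _ ha₀2 v hv (fun h => ha₀V (hinv _ h)) hv1
    exact ⟨h * a₀ * h⁻¹, hA h hh _ ha₀, by rw [← he]; group⟩
  have hUsurj := hsurj U hHU u₀ hu₀ hu₀V (hsq u₀ hu₀.1)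
  have hEsurj := hsurj E hHE e₀ he₀ he₀V he₀.2.1
  have hUcard := sq_surj hVU (fun v hv u hu => hVc v hv u hu.1) hV2 (fun u hu => hsq u hu.1) hUsurj
  have hEcard := sq_surj hVE (fun v hv e he => (hVS' e he.1 v hv).symm) hV2 (fun e he => he.2.1)
    hEsurj
  -- the bound for R
  have hbound : ∀ T : Subgroup G, V ≤ T → (∀ v ∈ V, ∀ t ∈ T, v * t = t * v) →
      (∀ t ∈ T, t * t ∈ V) → Nat.card T ≤ Nat.card V * (Nat.card V * Nat.card V) := by
    intro T hVT hc hsq'
    have h := H74QuadBound.index_le_sq (V.subgroupOf T)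
      (fun v hv => Subgroup.mem_center_iff.2 fun t => Subtype.ext (hc _ hv t t.2).symm)
      (fun t => hsq' t t.2) (fun t ht => hinv t (congrArg Subtype.val ht))
      (fun v hv => Subtype.ext (hV2 v hv))
    rw [Nat.card_congr (Subgroup.subgroupOfEquivOfLe hVT).toEquiv, pow_two] at h
    rw [← (V.subgroupOf T).card_mul_index, Nat.card_congr (Subgroup.subgroupOfEquivOfLe hVT).toEquiv]
    exact Nat.mul_le_mul le_rfl h
  have hRcard := hbound R hVR hVc hsq
  -- T = U E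
  let T : Subgroup G := U ⊔ E
  have hπT : T.map π ≤ Subgroup.centralizer (T.map π : Set (G ⧸ V)) := by
    have hUU : ∀ a ∈ U, ∀ b ∈ U, π a * π b = π b * π a := fun a ha b hb => by
      refine H74Offender.comm_of_sq ?_ ?_ ?_
      · rw [← map_mul]; exact (hπ _).2 (hsq a ha.1)
      · rw [← map_mul]; exact (hπ _).2 (hsq b hb.1)
      · rw [← map_mul, ← map_mul]; exact (hπ _).2 (hsq _ (R.mul_mem ha.1 hb.1))
    have hU : U.map π ≤ Subgroup.centralizer (T.map π : Set (G ⧸ V)) := by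
      rw [Subgroup.le_centralizer_iff, Subgroup.map_sup]
      refine sup_le ?_ ?_
      · rintro _ ⟨a, ha, rfl⟩
        exact Subgroup.mem_centralizer_iff.2 (by rintro _ ⟨b, hb, rfl⟩; exact hUU b hb a ha)
      · rintro _ ⟨a, ha, rfl⟩
        exact Subgroup.mem_centralizer_iff.2 (by rintro _ ⟨b, hb, rfl⟩; exact hb.2 a ha)
    have hE' : E.map π ≤ Subgroup.centralizer (T.map π : Set (G ⧸ V)) := by
      rw [Subgroup.le_centralizer_iff, Subgroup.map_sup]
      refine sup_le ?_ ?_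
      · rintro _ ⟨a, ha, rfl⟩
        exact Subgroup.mem_centralizer_iff.2 (by rintro _ ⟨b, hb, rfl⟩; exact (ha.2 b hb).symm)
      · rintro _ ⟨a, ha, rfl⟩
        exact Subgroup.mem_centralizer_iff.2 (by rintro _ ⟨b, hb, rfl⟩; exact hb.2.2 a ha.1)
    rw [Subgroup.map_sup] at hU hE' ⊢
    exact sup_le hU hE'
  have hTdec : ∀ t ∈ T, ∃ u ∈ U, ∃ e ∈ E, u * e = t := by
    intro t ht
    have hn : E ≤ Subgroup.normalizer (U : Set G) := mem_normalizer_of_conj fun e he u hu => by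
      have h1 : (u : G)⁻¹ * (e * u * e⁻¹) ∈ V := by
        rw [← hπ, map_mul, map_mul, map_mul, map_inv, map_inv, ← hu.2 e he, mul_inv_cancel_right,
          inv_mul_cancel]
      have := U.mul_mem hu (hVU h1)
      rwa [mul_inv_cancel_left] at this
    have ht' : t ∈ ((U : Set G) * (E : Set G)) := by
      rw [← Subgroup.coe_mul_of_right_le_normalizer_left _ _ hn]; exact ht
    obtain ⟨u, hu, e, he, hue⟩ := Set.mem_mul.1 ht'
    exact ⟨u, hu, e, he, hue⟩
  have hTsq : ∀ t ∈ T, t * t ∈ V := by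
    intro t ht
    obtain ⟨u, hu, e, he, rfl⟩ := hTdec t ht
    rw [← hπ, map_mul, map_mul, mul_assoc, ← mul_assoc (π e), ← hu.2 e he, mul_assoc (π u),
      ← mul_assoc, ← map_mul, ← map_mul, (hπ _).2 (hsq u hu.1), one_mul, (hπ _).2 he.2.1]
  have hTc : ∀ v ∈ V, ∀ t ∈ T, v * t = t * v := by
    intro v hv t ht
    obtain ⟨u, hu, e, he, rfl⟩ := hTdec t ht
    rw [← mul_assoc, hVc v hv u hu.1, mul_assoc, ← hVS' e he.1 v hv, mul_assoc]
  have hTcard := hbound T (hVU.trans le_sup_left) hTc hTsq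
  have hUE : Nat.card U * Nat.card E = Nat.card T * Nat.card V := by
    have hinter : U ⊓ E = V := le_antisymm (fun x hx => hER x hx.2 hx.1.1) (le_inf hVU hVE)
    rw [← hinter]
    let μ : U × E → T := fun p =>
      ⟨(p.1 : G) * p.2, mul_mem (Subgroup.mem_sup_left p.1.2) (Subgroup.mem_sup_right p.2.2)⟩
    have hfib : ∀ t : T, Nat.card {p : U × E // μ p = t} = Nat.card ↥(U ⊓ E) := by
      intro t
      obtain ⟨u, hu, e, he, hue⟩ := hTdec t t.2
      refine Nat.card_congr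
        { toFun := fun p => ⟨u⁻¹ * (p.1.1 : G), ?_, ?_⟩
          invFun := fun d => ⟨(⟨u * d, U.mul_mem hu d.2.1⟩,
            ⟨(d : G)⁻¹ * e, E.mul_mem (E.inv_mem d.2.2) he⟩), Subtype.ext (by
              show u * (d : G) * ((d : G)⁻¹ * e) = t
              rw [← hue]; group)⟩
          left_inv := fun p => ?_
          right_inv := fun d => Subtype.ext (by
            show u⁻¹ * (u * (d : G)) = d
            rw [inv_mul_cancel_left]) }
      · exact U.mul_mem (U.inv_mem hu) p.1.1.2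
      · have h : (p.1.1 : G) * p.1.2 = u * e := by
          rw [hue]; exact congrArg Subtype.val p.2
        have h' : u⁻¹ * (p.1.1 : G) = e * (p.1.2 : G)⁻¹ := by
          rw [eq_mul_inv_iff_mul_eq, mul_assoc, h, inv_mul_cancel_left]
        rw [SetLike.mem_coe, h']
        exact E.mul_mem he (E.inv_mem p.1.2.2)
      · obtain ⟨⟨⟨a, ha⟩, ⟨b, hb⟩⟩, hp⟩ := p
        have h : a * b = u * e := by
          rw [hue]; exact congrArg Subtype.val hp
        refine Subtype.ext (Prod.ext (Subtype.ext ?_) (Subtype.ext ?_))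
        · show u * (u⁻¹ * a) = a
          rw [mul_inv_cancel_left]
        · show (u⁻¹ * a)⁻¹ * e = b
          rw [mul_inv_rev, inv_inv, mul_assoc, ← h, inv_mul_cancel_left]
    haveI := Fintype.ofFinite T
    rw [← Nat.card_prod, ← Nat.card_congr (Equiv.sigmaFiberEquiv μ), Nat.card_sigma,
      Finset.sum_congr rfl (fun t _ => hfib t), Finset.sum_const, Finset.card_univ, smul_eq_mul,
      ← Nat.card_eq_fintype_card]
  set v := Nat.card V with hv
  have hv0 : 0 < v := Nat.card_pos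
  have hvv : 0 < v * v := Nat.mul_pos hv0 hv0
  have hprod : Nat.card U * Nat.card E ≤ v * v * (v * v) := by
    rw [hUE]
    calc Nat.card T * v ≤ v * (v * v) * v := Nat.mul_le_mul hTcard le_rfl
      _ = v * v * (v * v) := by ring
  have hUeq : Nat.card U = v * v := by
    refine le_antisymm ?_ hUcard.1
    refine Nat.le_of_mul_le_mul_right (le_trans ?_ hprod) hvv
    exact Nat.mul_le_mul le_rfl hEcard.1
  have hEeq : Nat.card E = v * v := by
    refine le_antisymm ?_ hEcard.1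
    refine Nat.le_of_mul_le_mul_left (le_trans ?_ hprod) hvv
    exact Nat.mul_le_mul hUcard.1 le_rfl
  -- the module
  set Rb := R.map π
  haveI : Rb.Normal := Subgroup.Normal.map inferInstance π (QuotientGroup.mk'_surjective V)
  letI : CommGroup Rb := { (inferInstance : Group Rb) with
    mul_comm := fun x y => by
      obtain ⟨_, a, ha, rfl⟩ := x
      obtain ⟨_, b, hb, rfl⟩ := y
      refine Subtype.ext ?_
      show π a * π b = π b * π a
      refine H74Offender.comm_of_sq ?_ ?_ ?_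
      · rw [← map_mul]; exact (hπ _).2 (hsq a ha)
      · rw [← map_mul]; exact (hπ _).2 (hsq b hb)
      · rw [← map_mul, ← map_mul]; exact (hπ _).2 (hsq _ (R.mul_mem ha hb)) }
  let ψ : G →* MulAut Rb := (MulAut.conjNormal (H := Rb)).comp π
  have hψ : ∀ (g : G) (x : Rb), ((ψ g x : Rb) : G ⧸ V) = π g * x * (π g)⁻¹ := fun g x =>
    MulAut.conjNormal_apply (π g) x
  have hψker : ∀ g : G, g ∈ ψ.ker ↔ ∀ r ∈ R, π g * π r = π r * π g := by
    intro g
    rw [MonoidHom.mem_ker]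
    constructor
    · intro h r hr
      have h1 := hψ g ⟨π r, r, hr, rfl⟩
      rw [h, MulAut.one_apply] at h1
      exact (eq_mul_inv_iff_mul_eq.1 h1).symm
    · intro h
      ext x
      obtain ⟨r, hr, hrx⟩ := x.2
      rw [MulAut.one_apply, hψ, ← hrx, h r hr, mul_inv_cancel_right]
  have hRker : R ≤ ψ.ker := fun a ha => (hψker a).2 fun r hr => by
    refine H74Offender.comm_of_sq ?_ ?_ ?_
    · rw [← map_mul]; exact (hπ _).2 (hsq a ha)
    · rw [← map_mul]; exact (hπ _).2 (hsq r hr)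
    · rw [← map_mul, ← map_mul]; exact (hπ _).2 (hsq _ (R.mul_mem ha hr))
  -- the kernel is R
  have hker : ψ.ker ≤ R := by
    refine hQ _ inferInstance ?_
    -- odd order elements are trivial
    have hodd : ∀ x ∈ ψ.ker, ∀ k : ℕ, Odd k → x ^ k = 1 → x = 1 := by
      intro x hx k hk hxk
      have hcoset : ∀ r ∈ R, ∃ c ∈ V, x * r * x⁻¹ = r * c := fun r hr => by
        refine ⟨r⁻¹ * (x * r * x⁻¹), ?_, by rw [mul_inv_cancel_left]⟩
        rw [← hπ, map_mul, map_mul, map_mul, map_inv, map_inv, (hψker x).1 hx r hr,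
          mul_inv_cancel_right, inv_mul_cancel]
      have hxV : ∀ w ∈ V, x * w * x⁻¹ = w := by
        intro w hw
        obtain ⟨u, hu, rfl⟩ := hUsurj w hw
        obtain ⟨c, hc, hxc⟩ := hcoset u hu.1
        calc x * (u * u) * x⁻¹ = (x * u * x⁻¹) * (x * u * x⁻¹) := by group
          _ = u * c * (u * c) := by rw [hxc]
          _ = u * u := by
            rw [mul_assoc u c, ← mul_assoc c u, hVc c hc u hu.1, mul_assoc u c, hV2 c hc, mul_one]
      have hxR : x ∈ R := hCR (Subgroup.mem_centralizer_iff.2 fun r hr => by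
        obtain ⟨c, hc, hxc⟩ := hcoset r hr
        have := stab_trivial hxc (hxV c hc) hk hxk (m := 1) (by rw [pow_one, pow_two, hV2 c hc])
        exact (mul_inv_eq_iff_eq_mul.1 this).symm)
      obtain ⟨m, hm⟩ := hR ⟨x, hxR⟩
      exact eq_one_of_odd_two hk hxk (congrArg Subtype.val hm)
    intro x
    have hpos : orderOf (x : G) ≠ 0 := (orderOf_pos _).ne'
    obtain ⟨a, l, hl, hal⟩ := Nat.exists_eq_two_pow_mul_odd hpos
    refine ⟨a, Subtype.ext ?_⟩
    show (x : G) ^ 2 ^ a = 1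
    refine hodd _ (ψ.ker.pow_mem x.2 _) l hl ?_
    rw [← pow_mul, ← hal, pow_orderOf_eq_one]
  -- the data for the offender lemma
  obtain ⟨F, hFn, hFnil, hFodd, hCF⟩ := hF
  let σ : G ⧸ R →* MulAut Rb := QuotientGroup.lift R ψ hRker
  have hσ : ∀ g : G, σ (QuotientGroup.mk' R g) = ψ g := fun g => rfl
  have hσinj : Function.Injective σ := by
    rw [← MonoidHom.ker_eq_bot_iff, eq_bot_iff]
    intro q hq
    obtain ⟨g, rfl⟩ := QuotientGroup.mk'_surjective R q
    exact Subgroup.mem_bot.2 ((QuotientGroup.eq_one_iff g).2 (hker (show ψ g = 1 from hq)))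
  set Eb := E.map ψ with hEb
  set Fb := F.map σ with hFb
  have hEψ : ∀ e ∈ E, ψ e = 1 → e ∈ V := fun e he h => hER e he (hker h)
  have hEbcard : Nat.card Eb = v := by
    let φ := ψ.comp E.subtype
    have hr : φ.range = Eb := by rw [MonoidHom.range_comp, E.range_subtype]
    have hk : φ.ker = V.subgroupOf E := by
      ext e
      rw [MonoidHom.mem_ker, Subgroup.mem_subgroupOf]
      exact ⟨hEψ e e.2, fun h => hRker (hVR h)⟩
    have hc : v * (V.subgroupOf E).index = Nat.card E := by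
      rw [hv, ← Nat.card_congr (Subgroup.subgroupOfEquivOfLe hVE).toEquiv]
      exact Subgroup.card_mul_index _
    rw [← hr, ← Subgroup.index_ker, hk]
    rw [hEeq] at hc
    exact Nat.eq_of_mul_eq_mul_left hv0 hc
  have hfixcard : Nat.card {x : Rb // ∀ a ∈ Eb, a x = x} = v := by
    have h1 : Nat.card {x : Rb // ∀ a ∈ Eb, a x = x} = Nat.card (U.map π) := by
      refine Nat.card_congr
        { toFun := fun x => ⟨(x.1 : G ⧸ V), ?_⟩
          invFun := fun y => ⟨⟨(y : G ⧸ V), Subgroup.map_mono hUR y.2⟩, ?_⟩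
          left_inv := fun x => rfl
          right_inv := fun y => rfl }
      · obtain ⟨r, hr, hrx⟩ := x.1.2
        refine ⟨r, ⟨hr, fun e he => ?_⟩, hrx⟩
        have := congrArg Subtype.val (x.2 _ ⟨e, he, rfl⟩)
        rw [hψ, ← hrx, mul_inv_eq_iff_eq_mul] at this
        exact this.symm
      · rintro _ ⟨e, he, rfl⟩
        obtain ⟨r, hr, hry⟩ := y.2
        refine Subtype.ext ?_
        rw [hψ]
        show π e * (y : G ⧸ V) * (π e)⁻¹ = y
        rw [← hry, ← hr.2 e he, mul_inv_cancel_right]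
    let φ := π.comp U.subtype
    have hr : φ.range = U.map π := by rw [MonoidHom.range_comp, U.range_subtype]
    have hk : φ.ker = V.subgroupOf U := by
      ext e
      rw [MonoidHom.mem_ker, Subgroup.mem_subgroupOf]
      exact hπ e
    have hc : v * (V.subgroupOf U).index = Nat.card U := by
      rw [hv, ← Nat.card_congr (Subgroup.subgroupOfEquivOfLe hVU).toEquiv]
      exact Subgroup.card_mul_index _
    rw [h1, ← hr, ← Subgroup.index_ker, hk]
    rw [hUeq] at hc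
    exact Nat.eq_of_mul_eq_mul_left hv0 hc
  have hRb : Nat.card Rb ≤ v * v := by
    let φ := π.comp R.subtype
    have hr : φ.range = Rb := by rw [MonoidHom.range_comp, R.range_subtype]
    have hk : φ.ker = V.subgroupOf R := by
      ext e
      rw [MonoidHom.mem_ker, Subgroup.mem_subgroupOf]
      exact hπ e
    have hc : v * (V.subgroupOf R).index = Nat.card R := by
      rw [hv, ← Nat.card_congr (Subgroup.subgroupOfEquivOfLe hVR).toEquiv]
      exact Subgroup.card_mul_index _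
    rw [← hr, ← Subgroup.index_ker, hk]
    exact Nat.le_of_mul_le_mul_left (hc ▸ hRcard) hv0
  have hFoddb : Odd (Nat.card Fb) := by
    rw [hFb, Subgroup.card_map_of_injective hσinj]; exact hFodd
  have hFnilb : Group.IsNilpotent Fb :=
    Group.nilpotent_of_mulEquiv (F.equivMapOfInjective σ hσinj)
  refine H74Offender.not_all_equal (M := Rb) (fun x => ?_) Eb Fb ?_ ?_ hFoddb hFnilb ?_ ?_ ?_ ?_
  · obtain ⟨r, hr, hrx⟩ := x.2
    refine Subtype.ext ?_
    show (x : G ⧸ V) * x = 1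
    rw [← hrx, ← map_mul]
    exact (hπ _).2 (hsq r hr)
  · rintro _ ⟨e, he, rfl⟩
    rw [← map_mul]
    exact hRker (hVR he.2.1)
  · rw [hEbcard]; exact hV3
  · rintro _ ⟨e, he, rfl⟩ _ ⟨q, hq, rfl⟩
    refine ⟨QuotientGroup.mk' R e * q * (QuotientGroup.mk' R e)⁻¹, hFn.conj_mem q hq _, ?_⟩
    rw [map_mul, map_mul, map_inv, hσ]
  · rintro _ ⟨e, he, rfl⟩ h
    have hmem : QuotientGroup.mk' R e ∈ F := hCF (Subgroup.mem_centralizer_iff.2 fun q hq => by
      apply hσinj
      rw [map_mul, map_mul, hσ]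
      exact (mul_inv_eq_iff_eq_mul.1 (h _ ⟨q, hq, rfl⟩)).symm)
    have h1 : QuotientGroup.mk' R e = 1 :=
      H74Offender.eq_one_of_sq hFodd (H74Offender.odd_pow_of_card F hFodd hmem) (by
        rw [← map_mul]; exact (QuotientGroup.eq_one_iff _).2 (hVR he.2.1))
    rw [← hσ, h1, map_one]
  · rw [hEbcard, hfixcard]; exact hRb
  · rintro _ ⟨a, ha, rfl⟩ _ ⟨b, hb, rfl⟩ ha1 hb1
    have hne : ∀ e ∈ E, ψ e ≠ 1 → e * e ≠ 1 := fun e he h1 h2 => h1 (hRker (hVR (hinv e h2)))
    obtain ⟨h, hh, hconj⟩ := htrH _ ha.2.1 _ hb.2.1 (hne a ha ha1) (hne b hb hb1)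
    have hab : b⁻¹ * (h * a * h⁻¹) ∈ V := hEcard.2 hEeq b hb _ (hHE h hh a ha) (by
      rw [← hconj]; group)
    have hψab : ψ b = ψ h * ψ a * (ψ h)⁻¹ := by
      have h1 : ψ (b⁻¹ * (h * a * h⁻¹)) = 1 := hRker (hVR hab)
      rw [map_mul, map_inv, inv_mul_eq_one, map_mul, map_mul, map_inv] at h1
      exact h1
    refine Nat.card_congr ((ψ h).toEquiv.subtypeEquiv fun x => ?_)
    show ψ a x = x ↔ ψ b (ψ h x) = ψ h x
    rw [hψab]
    simp [MulAut.mul_apply]

/-- Frattini argument for an odd complement inside a normal `2`-by-odd subgroup. -/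
theorem exists_odd_lift (hsol : Group.IsSolvable G) (R : Subgroup G) [R.Normal] (hR : IsPGroup 2 R)
    (F : Subgroup (G ⧸ R)) [F.Normal] (hF : Odd (Nat.card F)) :
    ∃ L : Subgroup G, Odd (Nat.card L) ∧ L.map (QuotientGroup.mk' R) = F ∧
      ∀ g : G, ∃ r ∈ R, r⁻¹ * g ∈ Subgroup.normalizer (L : Set G) := by
  set K := F.comap (QuotientGroup.mk' R)
  have hRK : R ≤ K := QuotientGroup.le_comap_mk' R _
  set R' := R.subgroupOf K
  have hidx : R'.index = Nat.card F := by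
    show R.relIndex K = _
    rw [relIndex_eq_card_map,
      Subgroup.map_comap_eq_self_of_surjective (QuotientGroup.mk'_surjective R)]
  obtain ⟨m, hm⟩ := IsPGroup.iff_card.1 hR
  have hR'card : Nat.card R' = 2 ^ m := by
    rw [← hm]; exact Nat.card_congr (Subgroup.subgroupOfEquivOfLe hRK).toEquiv
  obtain ⟨L', hL'⟩ := Subgroup.exists_right_complement'_of_coprime (N := R')
    (by rw [hR'card, hidx]; exact (Nat.coprime_two_left.2 hF).pow_left m)
  set L := L'.map K.subtype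
  have hLcard : Nat.card L = Nat.card F := by
    rw [Subgroup.card_map_of_injective K.subtype_injective, ← hidx, ← hL'.symm.index_eq_card]
  have hsup : R ⊔ L = K := by
    have h1 : (R' ⊔ L').map K.subtype = K := by
      rw [hL'.sup_eq_top, ← MonoidHom.range_eq_map, K.range_subtype]
    rwa [Subgroup.map_sup, Subgroup.subgroupOf_map_subtype, inf_eq_left.2 hRK] at h1
  refine ⟨L, hLcard ▸ hF, ?_, fun g => ?_⟩
  · have h := congrArg (Subgroup.map (QuotientGroup.mk' R)) hsup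
    rwa [Subgroup.map_sup, QuotientGroup.map_mk'_self, bot_sup_eq,
      Subgroup.map_comap_eq_self_of_surjective (QuotientGroup.mk'_surjective R)] at h
  · obtain ⟨r, hr, hconj⟩ := CoprimeSZ.exists_conj_of_card_eq (N := R) (A := L)
      (B := MulAut.conj g • L) (by rw [Subgroup.normalizer_eq_top_iff.2 inferInstance]; exact le_top)
      (by rw [hLcard, hm]; exact (Nat.coprime_two_right.2 hF).pow_right m)
      (Or.inl (inferInstance : Group.IsSolvable L))
      (by
        intro x hx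
        rw [CoprimeSZ.conj_smul_eq_map] at hx
        obtain ⟨l, hl, rfl⟩ := hx
        rw [hsup]
        exact (inferInstance : K.Normal).conj_mem l (hsup ▸ Subgroup.mem_sup_right hl) g)
      (CoprimeSZ.card_conj_smul g L)
    refine ⟨r, hr, Subgroup.mem_normalizer_iff_map_conj_eq.2 ?_⟩
    show L.map (MulAut.conj (r⁻¹ * g)).toMonoidHom = L
    rw [← CoprimeSZ.conj_smul_eq_map, map_mul, mul_smul, ← hconj, ← mul_smul, ← map_mul,
      inv_mul_cancel, map_one, one_smul]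

theorem good_bot (ih : ∀ m, m < Nat.card G → ∀ (H : Type u) [Group H] [Finite H], Nat.card H = m →
      Group.IsSolvable H → Conj2 H → Two H → Good H) (hsol : Group.IsSolvable G)
    (hconj : Conj2 G) (htwo : Two G) (hO : Cfsg.pPrimeCore 2 G = ⊥) : Good G := by
  classical
  haveI := hsol
  haveI : Fact (Nat.Prime 2) := ⟨Nat.prime_two⟩
  intro S
  rw [hO, sup_bot_eq]
  set R := Cfsg.pCore 2 G with hRdef
  have hR : IsPGroup 2 R := isPGroup_pCore 2 G
  have hCR : Subgroup.centralizer (R : Set G) ≤ R :=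
    centralizer_pCore_le (isPSolvable_of_solvable 2) hO
  suffices hSR : (S : Subgroup G) ≤ R by
    rw [le_antisymm hSR (pCore_le_sylow S)]
    exact pCore_normal 2 G
  by_contra hSR
  obtain ⟨x₁, y₁, hxy, hx1, hx2, hy1, hy2, hcm⟩ := htwo
  have hRne : R ≠ ⊥ := fun h => hx1 (by
    have : x₁ ∈ Subgroup.centralizer (R : Set G) := Subgroup.mem_centralizer_iff.2 fun r hr => by
      rw [h] at hr
      rw [Subgroup.mem_bot.1 hr, one_mul, mul_one]
    have h2 := hCR this
    rw [h] at h2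
    exact Subgroup.mem_bot.1 h2)
  obtain ⟨z, hzR, hz1, hz2, hzc⟩ := fixed_invol hR hR hRne Subgroup.le_normalizer
  have hinv : ∀ x : G, x * x = 1 → x ∈ R ∧ ∀ r ∈ R, r * x = x * r := by
    intro x hx
    by_cases h1 : x = 1
    · exact ⟨h1 ▸ R.one_mem, by simp [h1]⟩
    obtain ⟨g, rfl⟩ := hconj z x hz1 hz2 h1 hx
    refine ⟨(pCore_normal 2 G).conj_mem z hzR g, fun r hr => ?_⟩
    have h2 := hzc _ ((pCore_normal 2 G).conj_mem r hr g⁻¹)
    rw [inv_inv] at h2
    calc r * (g * z * g⁻¹) = g * ((g⁻¹ * r * g) * z) * g⁻¹ := by group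
      _ = g * (z * (g⁻¹ * r * g)) * g⁻¹ := by rw [h2]
      _ = _ := by group
  -- the Fitting subgroup of the quotient
  set Q := G ⧸ R
  haveI : Group.IsSolvable Q :=
    Group.isSolvable_of_surjective (f := QuotientGroup.mk' R) (QuotientGroup.mk'_surjective R)
  set F := Cfsg.fittingSubgroup Q
  have hFnil : Group.IsNilpotent F := Cfsg.Agent.ComponentsFitting.fittingSubgroup_isNilpotent
  have hFodd : Odd (Nat.card F) := by
    rw [← Nat.not_even_iff_odd, even_iff_two_dvd]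
    intro hd
    obtain ⟨P⟩ := (inferInstance : Nonempty (Sylow 2 F))
    have hPn : (P : Subgroup F).Normal := by
      haveI := hFnil
      have h03 : Group.IsNilpotent F ↔ ∀ (p : ℕ) (_hp : Fact p.Prime) (P : Sylow p F),
          (P : Subgroup F).Normal := (Group.isNilpotent_of_finite_tfae (G := F)).out 0 3
      exact h03.1 hFnil 2 inferInstance P
    haveI := Sylow.characteristic_of_normal P hPn
    haveI : ((P : Subgroup F).map F.subtype).Normal := inferInstance
    have hle := le_pCore (p := 2) (N := (P : Subgroup F).map F.subtype) (P.2.map _)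
    rw [hRdef] at *
    rw [pCore_quotient_self 2 G, le_bot_iff,
      Subgroup.map_eq_bot_iff_of_injective _ F.subtype_injective] at hle
    exact P.ne_bot_of_dvd_card hd hle
  have hCF : Subgroup.centralizer (F : Set Q) ≤ F := centralizer_fitting_le
  have hQ2 : ∀ K : Subgroup G, K.Normal → IsPGroup 2 K → K ≤ R := fun K hK hK2 => le_pCore hK2
  obtain ⟨L, hLodd, hLF, hLfr⟩ := exists_odd_lift hsol R hR F hFodd
  have hLnotR : ¬ L ≤ R := by
    intro h
    have hF0 : F = ⊥ := by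
      rw [← hLF]; exact (map_mk'_eq_bot).2 h
    apply hSR
    intro s _
    refine (QuotientGroup.eq_one_iff s).1 ?_
    have h1 := hCF (Subgroup.mem_centralizer_iff.2 (fun q hq => by
      rw [hF0] at hq
      rw [Subgroup.mem_bot.1 hq, one_mul, mul_one]) : (s : Q) ∈ Subgroup.centralizer (F : Set Q))
    rw [hF0] at h1
    exact Subgroup.mem_bot.1 h1
  -- involutions centralise every such subgroup
  have hgoodL : ∀ L : Subgroup G, Odd (Nat.card L) →
      (∀ g : G, ∃ r ∈ R, r⁻¹ * g ∈ Subgroup.normalizer (L : Set G)) →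
      ∀ x : G, x * x = 1 → ∀ l ∈ L, l * x = x * l := by
    intro L hLo hfr
    -- either all or none
    have hall : (∃ x : G, x ≠ 1 ∧ x * x = 1 ∧ ∀ l ∈ L, l * x = x * l) →
        ∀ x : G, x * x = 1 → ∀ l ∈ L, l * x = x * l := by
      rintro ⟨x, hx1, hx2, hxL⟩ y hy l hl
      by_cases hy1 : y = 1
      · simp [hy1]
      obtain ⟨g, rfl⟩ := hconj x y hx1 hx2 hy1 hy
      obtain ⟨r, hr, hn⟩ := hfr g
      set n := r⁻¹ * g with hndef
      have hg : g = r * n := by rw [hndef, mul_inv_cancel_left]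
      have hy' : n * x * n⁻¹ * (n * x * n⁻¹) = 1 := by
        calc n * x * n⁻¹ * (n * x * n⁻¹) = n * (x * x) * n⁻¹ := by group
          _ = 1 := by rw [hx2]; group
      have hgy : g * x * g⁻¹ = n * x * n⁻¹ := by
        rw [hg, show r * n * x * (r * n)⁻¹ = r * (n * x * n⁻¹) * r⁻¹ by group,
          (hinv _ hy').2 r hr, mul_inv_cancel_right]
      rw [hgy]
      have h := hxL _ ((Subgroup.mem_normalizer_iff''.1 hn l).1 hl)
      calc l * (n * x * n⁻¹) = n * ((n⁻¹ * l * n) * x) * n⁻¹ := by group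
        _ = n * (x * (n⁻¹ * l * n)) * n⁻¹ := by rw [h]
        _ = _ := by group
    by_cases hex : ∃ x : G, x ≠ 1 ∧ x * x = 1 ∧ ∀ l ∈ L, l * x = x * l
    · exact hall hex
    exfalso
    set N := Subgroup.normalizer (L : Set G)
    have hNR : ∀ x ∈ N, x ∈ R → x = 1 := by
      intro x hxN hxR
      by_contra hx
      obtain ⟨k, hk⟩ := IsPGroup.iff_orderOf.1 hR ⟨x, hxR⟩
      rw [Subgroup.orderOf_mk] at hk
      have hk0 : k ≠ 0 := by
        rintro rfl
        rw [pow_zero, orderOf_eq_one_iff] at hk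
        exact hx hk
      obtain ⟨k, rfl⟩ := Nat.exists_eq_succ_of_ne_zero hk0
      have hi1 : x ^ 2 ^ k ≠ 1 := fun h => by
        have h1 := orderOf_le_of_pow_eq_one (by positivity) h
        rw [hk, pow_succ] at h1
        have : 0 < 2 ^ k := by positivity
        omega
      have hi2 : x ^ 2 ^ k * x ^ 2 ^ k = 1 := by
        rw [← pow_add, ← two_mul, ← pow_succ', ← hk, pow_orderOf_eq_one]
      refine hex ⟨_, hi1, hi2, fun l hl => ((show Commute l x from ?_).pow_right _).eq⟩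
      -- x centralises L
      have h1 : l * x * l⁻¹ * x⁻¹ = 1 := inf_eq_one hLo hR (by
          have := L.mul_mem hl ((Subgroup.mem_normalizer_iff.1 hxN _).1 (L.inv_mem hl))
          simpa [mul_assoc] using this)
        (R.mul_mem ((pCore_normal 2 G).conj_mem x hxR l) (R.inv_mem hxR))
      exact mul_inv_eq_iff_eq_mul.1 (mul_inv_eq_one.1 h1)
    obtain ⟨s, hs, hsR⟩ := SetLike.not_le_iff_exists.1 hSR
    obtain ⟨r, hr, hn⟩ := hfr s
    have hnR : r⁻¹ * s ∉ R := fun h => hsR (by simpa using R.mul_mem hr h)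
    -- N has even order
    obtain ⟨k, hk⟩ := IsPGroup.iff_orderOf.1 S.2 ⟨s, hs⟩
    rw [Subgroup.orderOf_mk] at hk
    have hdvd : orderOf (QuotientGroup.mk' R s) ∣ 2 ^ k := hk ▸ orderOf_map_dvd _ _
    have hne : orderOf (QuotientGroup.mk' R s) ≠ 1 := fun h =>
      hsR ((QuotientGroup.eq_one_iff s).1 (orderOf_eq_one_iff.1 h))
    obtain ⟨j, -, hj⟩ := (Nat.dvd_prime_pow Nat.prime_two).1 hdvd
    have hj0 : j ≠ 0 := by rintro rfl; exact hne (by simpa using hj)
    have hmk : QuotientGroup.mk' R (r⁻¹ * s) = QuotientGroup.mk' R s := by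
      rw [map_mul, show QuotientGroup.mk' R r⁻¹ = 1 from
        (QuotientGroup.eq_one_iff _).2 (R.inv_mem hr), one_mul]
    have heven : Even (Nat.card N) := by
      rw [even_iff_two_dvd]
      refine dvd_trans ?_ (Subgroup.orderOf_dvd_natCard N hn)
      refine dvd_trans ?_ (orderOf_map_dvd (QuotientGroup.mk' R) _)
      rw [hmk, hj]
      exact dvd_pow_self 2 hj0
    obtain ⟨x, hxN, hx1, hx2⟩ := exists_invol_of_even heven
    exact hx1 (hNR x hxN (hinv x hx2).1)
  -- data on N(L)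
  have hnotnormal : ∀ L : Subgroup G, Odd (Nat.card L) → ¬ L ≤ R →
      Subgroup.normalizer (L : Set G) ≠ ⊤ := fun L hLo hLR h => by
    haveI : L.Normal := Subgroup.normalizer_eq_top_iff.1 h
    have := le_pPrimeCore (p := 2) (N := L) (Nat.coprime_two_right.2 hLo)
    rw [hO] at this
    exact hLR (this.trans bot_le)
  have hdata : ∀ L : Subgroup G, Odd (Nat.card L) →
      (∀ g : G, ∃ r ∈ R, r⁻¹ * g ∈ Subgroup.normalizer (L : Set G)) →
      (∀ x : G, x * x = 1 → x ∈ Subgroup.normalizer (L : Set G)) ∧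
      ∀ x y : G, x ≠ 1 → x * x = 1 → y ≠ 1 → y * y = 1 →
        ∃ n ∈ Subgroup.normalizer (L : Set G), n * x * n⁻¹ = y := by
    intro L hLo hfr
    refine ⟨fun x hx => ?_, fun x y hx1 hx2 hy1 hy2 => ?_⟩
    · rw [Subgroup.mem_normalizer_iff]
      intro l
      have h := hgoodL L hLo hfr x hx
      constructor
      · intro hl; rwa [← h l hl, mul_inv_cancel_right]
      · intro hl
        have h2 := h _ hl
        have h3 : x * l * x⁻¹ = l := mul_left_cancel (a := x) (h2.symm.trans (by group))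
        rwa [h3] at hl
    · obtain ⟨g, rfl⟩ := hconj x y hx1 hx2 hy1 hy2
      obtain ⟨r, hr, hn⟩ := hfr g
      refine ⟨_, hn, ?_⟩
      have h := (hinv _ hy2).2 r hr
      calc r⁻¹ * g * x * (r⁻¹ * g)⁻¹ = r⁻¹ * ((g * x * g⁻¹) * r) := by group
        _ = r⁻¹ * (r * (g * x * g⁻¹)) := by rw [h]
        _ = g * x * g⁻¹ := by rw [inv_mul_cancel_left]
  -- the maximal choice
  set N := Subgroup.normalizer (L : Set G) with hNdef
  obtain ⟨hLinv, hLconj⟩ := hdata L hLodd hLfr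
  have htwoN : ∀ K : Subgroup G, (∀ x : G, x * x = 1 → x ∈ K) →
      ∃ x ∈ K, ∃ y ∈ K, x ≠ y ∧ x ≠ 1 ∧ x * x = 1 ∧ y ≠ 1 ∧ y * y = 1 ∧ x * y = y * x :=
    fun K hK => ⟨x₁, hK _ hx2, y₁, hK _ hy2, hxy, hx1, hx2, hy1, hy2, hcm⟩
  obtain ⟨S₀, O₀, -, hS₀N, hS₀2, hS₀idx, hO₀N, hO₀odd, hO₀n, hO₀max, hJ₀, hfr₀⟩ :=
    sub_data ih hsol N (hnotnormal L hLodd hLnotR) (fun x _ y _ => hLconj x y) (htwoN N hLinv) ⊥
      IsPGroup.of_bot bot_le
  set L₁ := ⁅O₀, S₀⁆
  have hLO₀ : L ≤ O₀ := hO₀max L Subgroup.le_normalizer hLodd fun g hg l hl =>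
    (Subgroup.mem_normalizer_iff.1 hg l).1 hl
  have hL₁O : L₁ ≤ O₀ := by
    rw [Subgroup.commutator_le]
    intro o ho s hs
    have := O₀.mul_mem ho (hO₀n s (hS₀N hs) o⁻¹ (O₀.inv_mem ho))
    rw [commutatorElement_def]
    simpa [mul_assoc] using this
  have hL₁odd : Odd (Nat.card L₁) := hO₀odd.of_dvd_nat (Subgroup.card_dvd_of_le hL₁O)
  have hNL₁ : N ≤ Subgroup.normalizer (L₁ : Set G) := by
    intro g hg
    obtain ⟨o, ho, hn⟩ := hfr₀ g hg
    have h1 : O₀ ≤ Subgroup.normalizer (L₁ : Set G) := mem_normalizer_of_conj fun a ha x hx => by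
      have hle : L₁ ≤ L₁.comap (MulAut.conj a).toMonoidHom := by
        rw [Subgroup.commutator_le]
        intro b hb c hc
        show a * ⁅b, c⁆ * a⁻¹ ∈ L₁
        have := L₁.mul_mem (Subgroup.commutator_mem_commutator (O₀.mul_mem ha hb) hc)
          (L₁.inv_mem (Subgroup.commutator_mem_commutator ha hc))
        convert this using 1
        simp only [commutatorElement_def]; group
      exact hle hx
    have hg' : g = o * (o⁻¹ * g) := by rw [mul_inv_cancel_left]
    rw [hg']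
    refine mul_mem (h1 ho) ?_
    have hnN : o⁻¹ * g ∈ N := N.mul_mem (N.inv_mem (hO₀N ho)) hg
    set n := o⁻¹ * g
    have key : ∀ m ∈ N, m ∈ Subgroup.normalizer (S₀ : Set G) → ∀ x ∈ L₁, m * x * m⁻¹ ∈ L₁ := by
      intro m hm hmS x hx
      have hle : L₁ ≤ L₁.comap (MulAut.conj m).toMonoidHom := by
        rw [Subgroup.commutator_le]
        intro b hb c hc
        show m * ⁅b, c⁆ * m⁻¹ ∈ L₁
        have := Subgroup.commutator_mem_commutator (hO₀n m hm b hb)
          ((Subgroup.mem_normalizer_iff.1 hmS c).1 hc)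
        convert this using 1
        simp only [commutatorElement_def]; group
      exact hle hx
    rw [Subgroup.mem_normalizer_iff]
    refine fun x => ⟨key n hnN hn x, fun hx => ?_⟩
    have := key n⁻¹ (N.inv_mem hnN) (inv_mem hn) _ hx
    simpa [mul_assoc] using this
  have hL₁fr : ∀ g : G, ∃ r ∈ R, r⁻¹ * g ∈ Subgroup.normalizer (L₁ : Set G) := fun g => by
    obtain ⟨r, hr, hn⟩ := hLfr g
    exact ⟨r, hr, hNL₁ hn⟩
  have hS₀R : ¬ S₀ ≤ R := by
    intro h
    obtain ⟨s, hs, hsR⟩ := SetLike.not_le_iff_exists.1 hSR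
    obtain ⟨r, hr, hn⟩ := hLfr s
    have hmk : QuotientGroup.mk' R (r⁻¹ * s) = QuotientGroup.mk' R s := by
      rw [map_mul, show QuotientGroup.mk' R r⁻¹ = 1 from
        (QuotientGroup.eq_one_iff _).2 (R.inv_mem hr), one_mul]
    have h2 : (N ⊓ R).relIndex N ∣ S₀.relIndex N :=
      Subgroup.relIndex_dvd_of_le_left N (le_inf hS₀N h)
    rw [Subgroup.inf_relIndex_left] at h2
    have h3 : orderOf (QuotientGroup.mk' R s) ∣ R.relIndex N := by
      rw [relIndex_eq_card_map, ← hmk]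
      exact Subgroup.orderOf_dvd_natCard _ (Subgroup.mem_map_of_mem _ hn)
    obtain ⟨k, hk⟩ := IsPGroup.iff_orderOf.1 S.2 ⟨s, hs⟩
    rw [Subgroup.orderOf_mk] at hk
    obtain ⟨j, -, hj⟩ := (Nat.dvd_prime_pow Nat.prime_two).1 (hk ▸ orderOf_map_dvd (QuotientGroup.mk' R) s)
    rcases j with _ | j
    · exact hsR ((QuotientGroup.eq_one_iff s).1 (orderOf_eq_one_iff.1 (by simpa using hj)))
    · exact hS₀idx ((hj ▸ dvd_pow_self 2 (Nat.succ_ne_zero j) : 2 ∣ orderOf (QuotientGroup.mk' R s)).trans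
        (h3.trans h2))
  have hL₁R : ¬ L₁ ≤ R := by
    intro h
    apply hS₀R
    intro s hs
    have hq : (QuotientGroup.mk' R s) ∈ F := hCF (Subgroup.mem_centralizer_iff.2 fun q hq => by
      rw [← hLF] at hq
      obtain ⟨l, hl, rfl⟩ := hq
      have h1 := h (Subgroup.commutator_mem_commutator (hLO₀ hl) hs)
      rw [← map_mul, ← map_mul, eq_comm]
      refine QuotientGroup.eq.2 ?_
      have := (inferInstance : R.Normal).conj_mem _ h1 (l⁻¹ * s⁻¹)
      rw [commutatorElement_def] at this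
      convert this using 1
      group)
    obtain ⟨m, hm⟩ := hS₀2 ⟨s, hs⟩
    refine (QuotientGroup.eq_one_iff s).1 (eq_one_of_odd_two (m := m) hFodd
      (H74Offender.odd_pow_of_card F hFodd hq) ?_)
    show QuotientGroup.mk' R s ^ 2 ^ m = 1
    rw [← map_pow, show s ^ 2 ^ m = 1 from congrArg Subtype.val hm, map_one]
  -- N-invariant proper intermediate subgroups are centralised by L₁
  have hmin : ∀ W : Subgroup G, N ⊓ R ≤ W → W ≤ R → W ≠ R →
      (∀ g ∈ N, ∀ w ∈ W, g * w * g⁻¹ ∈ W) → ∀ l ∈ L₁, ∀ w ∈ W, l * w = w * l := by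
    intro W hNW hWR hne hWn
    set G' := W ⊔ N
    have hNnW : N ≤ Subgroup.normalizer (W : Set G) := mem_normalizer_of_conj hWn
    have hG' : G' ≠ ⊤ := by
      intro h
      apply hne
      refine le_antisymm hWR fun x hx => ?_
      have hx' : x ∈ ((W : Set G) * (N : Set G)) := by
        rw [← Subgroup.coe_mul_of_right_le_normalizer_left _ _ hNnW]
        show x ∈ G'
        rw [h]; trivial
      obtain ⟨w, hw, n, hn, rfl⟩ := Set.mem_mul.1 hx'
      have hnR : n ∈ R := by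
        have := R.mul_mem (R.inv_mem (hWR hw)) hx
        rwa [inv_mul_cancel_left] at this
      exact W.mul_mem hw (hNW ⟨hn, hnR⟩)
    obtain ⟨S', O', hS₀S', hS'G, hS'2, -, hO'G, hO'odd, hO'n, -, hJ', -⟩ :=
      sub_data ih hsol G' hG'
        (fun x _ y _ hx1 hx2 hy1 hy2 => by
          obtain ⟨n, hn, h⟩ := hLconj x y hx1 hx2 hy1 hy2
          exact ⟨n, Subgroup.mem_sup_right hn, h⟩)
        (htwoN G' (fun x hx => Subgroup.mem_sup_right (hLinv x hx))) S₀ hS₀2
        (hS₀N.trans le_sup_right)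
    have hO'W : ∀ o ∈ O', ∀ w ∈ W, o * w = w * o := by
      intro o ho w hw
      have hwG : w ∈ G' := Subgroup.mem_sup_left hw
      have hc : o * w * o⁻¹ * w⁻¹ = 1 := by
        refine inf_eq_one hO'odd (hR.to_le hWR) ?_ ?_
        · have := O'.mul_mem ho (hO'n w hwG _ (O'.inv_mem ho))
          convert this using 1
          group
        · refine W.mul_mem ?_ (W.inv_mem hw)
          have hWn' : G' ≤ Subgroup.normalizer (W : Set G) := sup_le Subgroup.le_normalizer hNnW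
          exact (Subgroup.mem_normalizer_iff.1 (hWn' (hO'G ho)) w).1 hw
      exact mul_inv_eq_iff_eq_mul.1 (mul_inv_eq_one.1 hc)
    have hgen : L₁ ≤ O' := by
      rw [Subgroup.commutator_le]
      intro a ha b hb
      have hS'n : S' ≤ Subgroup.normalizer (O' : Set G) :=
        mem_normalizer_of_conj fun g hg => hO'n g (hS'G hg)
      refine mem_left_of_mem_sup hS'2 hS'n hO'odd ?_ hO₀odd
        (H74Offender.odd_pow_of_card O₀ hO₀odd (hL₁O (Subgroup.commutator_mem_commutator ha hb)))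
      rw [commutatorElement_def]
      exact mul_mem (hJ' a (Subgroup.mem_sup_right (hO₀N ha)) b (Subgroup.mem_sup_left (hS₀S' hb)))
        (Subgroup.mem_sup_left (S'.inv_mem (hS₀S' hb)))
    exact fun l hl w hw => hO'W l (hgen hl) w hw
  set N₁ := Subgroup.normalizer (L₁ : Set G) with hN₁def
  set V := N₁ ⊓ R with hVdef
  have hVR : V ≤ R := inf_le_right
  have hVL : ∀ l ∈ L₁, ∀ v ∈ V, l * v = v * l := by
    intro l hl v hv
    have h1 : l * v * l⁻¹ * v⁻¹ = 1 := inf_eq_one hL₁odd hR (by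
        have := L₁.mul_mem hl ((Subgroup.mem_normalizer_iff.1 hv.1 _).1 (L₁.inv_mem hl))
        simpa [mul_assoc] using this)
      (R.mul_mem ((pCore_normal 2 G).conj_mem v hv.2 l) (R.inv_mem hv.2))
    exact mul_inv_eq_iff_eq_mul.1 (mul_inv_eq_one.1 h1)
  have hVne : V ≠ R := by
    intro h
    apply hL₁R
    refine le_trans (fun l hl => Subgroup.mem_centralizer_iff.2 fun r hr => ?_) hCR
    exact (hVL l hl r (h ▸ hr)).symm
  have hNN₁ : N ⊓ R ≤ V := inf_le_inf_right R hNL₁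
  have hmin' : ∀ W : Subgroup G, V ≤ W → W ≤ R → (∀ g ∈ N₁, ∀ w ∈ W, g * w * g⁻¹ ∈ W) →
      W = V ∨ W = R := by
    intro W hVW hWR hWn
    by_cases hne : W = R
    · exact Or.inr hne
    refine Or.inl (le_antisymm (fun w hw => ⟨?_, hWR hw⟩) hVW)
    have h := hmin W (hNN₁.trans hVW) hWR hne (fun g hg => hWn g (hNL₁ hg))
    show w ∈ Subgroup.normalizer (L₁ : Set G)
    rw [Subgroup.mem_normalizer_iff]
    intro l
    constructor
    · intro hl; rwa [← h l hl w hw, mul_inv_cancel_right]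
    · intro hl
      have h2 := h _ hl w hw
      have h3 : w * l * w⁻¹ = l := mul_left_cancel (a := w) (h2.symm.trans (by group))
      rwa [h3] at hl
  obtain ⟨hL₁inv, hL₁conj⟩ := hdata L₁ hL₁odd hL₁fr
  have hinV : ∀ x : G, x * x = 1 → x ∈ V := fun x hx => ⟨hL₁inv x hx, (hinv x hx).1⟩
  have hN₁V : ∀ g ∈ N₁, ∀ v ∈ V, g * v * g⁻¹ ∈ V := fun g hg v hv =>
    ⟨N₁.mul_mem (N₁.mul_mem hg hv.1) (N₁.inv_mem hg), (pCore_normal 2 G).conj_mem v hv.2 g⟩
  -- V is normal
  have hVn : V.Normal := by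
    set W := R ⊓ Subgroup.normalizer (V : Set G)
    have hWn : ∀ g ∈ N₁, ∀ w ∈ W, g * w * g⁻¹ ∈ W := fun g hg w hw =>
      ⟨(pCore_normal 2 G).conj_mem w hw.1 g, by
        show g * w * g⁻¹ ∈ Subgroup.normalizer (V : Set G)
        have hgN : g ∈ Subgroup.normalizer (V : Set G) := mem_normalizer_of_conj hN₁V hg
        exact mul_mem (mul_mem hgN hw.2) (inv_mem hgN)⟩
    have hWR : W = R := by
      refine (hmin' W (le_inf hVR Subgroup.le_normalizer) inf_le_left hWn).resolve_left fun h => ?_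
      have hlt : V.subgroupOf R < ⊤ := lt_top_iff_ne_top.2 fun e =>
        hVne (le_antisymm hVR (Subgroup.subgroupOf_eq_top.1 e))
      haveI : Group.IsNilpotent R := hR.isNilpotent
      obtain ⟨n, hn, hnV⟩ :=
        SetLike.exists_of_lt (Group.normalizerCondition_of_isNilpotent (G := R) _ hlt)
      apply hnV
      show (n : G) ∈ V
      rw [← h]
      refine ⟨n.2, Subgroup.mem_normalizer_iff.2 fun x => ?_⟩
      constructor
      · intro hx
        exact (Subgroup.mem_normalizer_iff.1 hn ⟨x, hVR hx⟩).1 hx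
      · intro hx
        have hxR : x ∈ R := by
          have := R.mul_mem (R.mul_mem (R.inv_mem n.2) (hVR hx)) n.2
          simpa [mul_assoc] using this
        exact (Subgroup.mem_normalizer_iff.1 hn ⟨x, hxR⟩).2 hx
    refine Subgroup.normalizer_eq_top_iff.1 (top_le_iff.1 fun g _ => ?_)
    obtain ⟨r, hr, hn⟩ := hL₁fr g
    have h1 : r ∈ W := hWR.symm ▸ hr
    have := mul_mem h1.2 (mem_normalizer_of_conj hN₁V hn)
    rwa [mul_inv_cancel_left] at this
  -- C = centraliser of V in R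
  set C := R ⊓ Subgroup.centralizer (V : Set G) with hCdef
  have hCn : ∀ g : G, ∀ c ∈ C, g * c * g⁻¹ ∈ C := fun g c hc =>
    ⟨(pCore_normal 2 G).conj_mem c hc.1 g, Subgroup.mem_centralizer_iff.2 fun v hv => by
      have h1 := Subgroup.mem_centralizer_iff.1 hc.2 _ (hVn.conj_mem v hv g⁻¹)
      rw [inv_inv] at h1
      calc v * (g * c * g⁻¹) = g * ((g⁻¹ * v * g) * c) * g⁻¹ := by group
        _ = g * (c * (g⁻¹ * v * g)) * g⁻¹ := by rw [h1]
        _ = _ := by group⟩
  have hCne : ¬ C ≤ V := by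
    intro hCV
    apply hL₁R
    refine le_trans (fun l hl => Subgroup.mem_centralizer_iff.2 fun r hr => ?_) hCR
    set a := r⁻¹ * (l * r * l⁻¹) with hadef
    have haC : a ∈ C := ⟨R.mul_mem (R.inv_mem hr) ((pCore_normal 2 G).conj_mem r hr l),
      Subgroup.mem_centralizer_iff.2 fun v hv => by
        have h1 : l⁻¹ * v = v * l⁻¹ := ((Commute.inv_left (hVL l hl v hv)).eq)
        have h2 := hVL l hl _ (hVn.conj_mem v hv r)
        have h3 : r * v * r⁻¹ * l⁻¹ = l⁻¹ * (r * v * r⁻¹) :=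
          ((Commute.inv_left h2).eq).symm
        calc v * a = r⁻¹ * (r * v * r⁻¹ * l) * r * l⁻¹ := by rw [hadef]; group
          _ = r⁻¹ * (l * (r * v * r⁻¹)) * r * l⁻¹ := by rw [h2]
          _ = r⁻¹ * l * r * (v * l⁻¹) := by group
          _ = r⁻¹ * l * r * (l⁻¹ * v) := by rw [h1]
          _ = a * v := by rw [hadef]; group⟩
    obtain ⟨m, hm⟩ := hR ⟨a, haC.1⟩
    have hfix := stab_trivial (x := l) (r := r) (a := a) (by rw [hadef, mul_inv_cancel_left])
      (by rw [hVL l hl a (hCV haC), mul_inv_cancel_right]) hL₁odd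
      (H74Offender.odd_pow_of_card L₁ hL₁odd hl) (m := m) (congrArg Subtype.val hm)
    exact (mul_inv_eq_iff_eq_mul.1 hfix).symm
  have hRVC : V ⊔ C = R := by
    refine (hmin' (V ⊔ C) le_sup_left (sup_le hVR inf_le_left) ?_).resolve_left
      fun h => hCne (h ▸ le_sup_right)
    intro g hg
    have hle : V ⊔ C ≤ (V ⊔ C).comap (MulAut.conj g).toMonoidHom :=
      sup_le (fun v hv => Subgroup.mem_sup_left (hVn.conj_mem v hv g))
        (fun c hc => Subgroup.mem_sup_right (hCn g c hc))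
    exact fun x hx => hle hx
  -- squares lie in V
  have hsqV : ∀ r ∈ R, r * r ∈ V := by
    set Φ := (frattini R).map R.subtype
    haveI : Φ.Normal := inferInstance
    have hΦ : V ⊔ Φ = V := by
      refine (hmin' (V ⊔ Φ) le_sup_left (sup_le hVR (Subgroup.map_subtype_le _))
        (fun g _ x hx => (inferInstance : (V ⊔ Φ).Normal).conj_mem x hx g)).resolve_right fun h => ?_
      have h1 : V.subgroupOf R ⊔ frattini R = ⊤ := by
        apply Subgroup.map_injective R.subtype_injective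
        rw [Subgroup.map_sup, Subgroup.subgroupOf_map_subtype, inf_eq_left.2 hVR,
          ← MonoidHom.range_eq_map, R.range_subtype]
        exact h
      exact hVne (le_antisymm hVR (Subgroup.subgroupOf_eq_top.1 (frattini_nongenerating h1)))
    intro r hr
    rw [← hΦ]
    refine Subgroup.mem_sup_right ⟨⟨r, hr⟩ ^ 2, ClassTwoPow.pow_mem_frattini hR _, ?_⟩
    rw [pow_two]; rfl
  have hVC : ∀ c ∈ C, ∀ v ∈ V, v * c = c * v := fun c hc v hv =>
    Subgroup.mem_centralizer_iff.1 hc.2 v hv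
  have hdec : ∀ r ∈ R, ∃ v ∈ V, ∃ c ∈ C, v * c = r := by
    intro r hr
    have : r ∈ ((V : Set G) * (C : Set G)) := by
      rw [← Subgroup.normal_mul, hRVC]; exact hr
    obtain ⟨v, hv, c, hc, h⟩ := Set.mem_mul.1 this
    exact ⟨v, hv, c, hc, h⟩
  have htrick : ∀ w ∈ C, ∀ a ∈ V, a * a = w * w → w ∈ V := by
    intro w hw a ha h
    have hc := hVC w hw a ha
    have h1 : (w * a⁻¹) * (w * a⁻¹) = 1 := by
      rw [mul_assoc, ← mul_assoc a⁻¹, (Commute.inv_left hc).eq, mul_assoc w a⁻¹, ← mul_assoc,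
        ← h, mul_assoc, mul_inv_cancel_left, mul_inv_cancel]
    have := V.mul_mem (hinV _ h1) ha
    rwa [inv_mul_cancel_right] at this
  have hsurjV : ∀ A : Subgroup G, (∀ g ∈ N₁, ∀ a ∈ A, g * a * g⁻¹ ∈ A) → ∀ a₀ ∈ A, a₀ * a₀ ≠ 1 →
      a₀ * a₀ * (a₀ * a₀) = 1 → ∀ v : G, v * v = 1 → ∃ a ∈ A, a * a = v := by
    intro A hA a₀ ha₀ hne h4 v hv
    by_cases hv1 : v = 1
    · exact ⟨1, A.one_mem, by simp [hv1]⟩
    obtain ⟨g, hg, he⟩ := hL₁conj _ v hne h4 hv1 hv
    exact ⟨g * a₀ * g⁻¹, hA g hg _ ha₀, by rw [← he]; group⟩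
  have hord4 : ∀ A : Subgroup G, A ≤ R → (∀ a ∈ A, a * a * (a * a) = 1 → a * a = 1) →
      ∀ a ∈ A, a * a = 1 := by
    intro A hA h
    have key : ∀ k : ℕ, ∀ a ∈ A, a ^ 2 ^ k = 1 → a * a = 1 := by
      intro k
      induction k with
      | zero => intro a _ h1; rw [pow_zero, pow_one] at h1; simp [h1]
      | succ k ih =>
        intro a ha h1
        refine h a ha (ih (a * a) (A.mul_mem ha ha) ?_)
        rw [← pow_two, ← pow_mul, ← pow_succ']
        exact h1
    intro a ha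
    obtain ⟨k, hk⟩ := hR ⟨a, hA ha⟩
    exact key k a ha (congrArg Subtype.val hk)
  -- the centre of V is elementary
  have hZ : ∀ a ∈ V ⊓ C, a * a = 1 := by
    refine hord4 _ (inf_le_left.trans hVR) ?_
    by_contra hno
    push Not at hno
    obtain ⟨a₀, ha₀, h4, hne⟩ := hno
    have hsq' := hsurjV (V ⊓ C) (fun g hg a ha => ⟨hVn.conj_mem a ha.1 g, hCn g a ha.2⟩)
      a₀ ha₀ hne h4
    apply hL₁R
    refine le_trans (fun l hl => Subgroup.mem_centralizer_iff.2 fun r hr => ?_) hCR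
    obtain ⟨v, hv, w, hw, rfl⟩ := hdec r hr
    have hlw : l * w * l⁻¹ = w := by
      set u := l * w * l⁻¹ * w⁻¹ with hudef
      have huC : u ∈ C := C.mul_mem (hCn l w hw) (C.inv_mem hw)
      set w' := l * w * l⁻¹ with hw'def
      have hw'C : w' ∈ C := hCn l w hw
      have hw2 : w' * w' = w * w := by
        calc w' * w' = l * (w * w) * l⁻¹ := by rw [hw'def]; group
          _ = w * w := by rw [hVL l hl _ (hsqV w hw.1), mul_inv_cancel_right]
      have hcv : ∀ a ∈ C, ∀ b ∈ C, a * b * a⁻¹ * b⁻¹ ∈ V := by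
        intro a ha b hb
        have h1 : a * b * a⁻¹ * b⁻¹ = (a * b) * (a * b) * ((b⁻¹ * a⁻¹ * b) * (b⁻¹ * a⁻¹ * b)) *
            (b⁻¹ * b⁻¹) := by group
        rw [h1]
        have hba : b⁻¹ * a⁻¹ * b ∈ R :=
          R.mul_mem (R.mul_mem (R.inv_mem hb.1) (R.inv_mem ha.1)) hb.1
        exact V.mul_mem (V.mul_mem (hsqV _ (R.mul_mem ha.1 hb.1)) (hsqV _ hba))
          (hsqV _ (R.inv_mem hb.1))
      set c := w * w' * w⁻¹ * w'⁻¹ with hcdef
      have hcV : c ∈ V := hcv w hw w' hw'C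
      have hcw : c * w = w * c := hVC w hw c hcV
      have hcw' : c * w' = w' * c := hVC w' hw'C c hcV
      have hc2 : c * c = 1 := by
        have h1 : w * w * w' = w' * (w * w) := (hVC w' hw'C _ (hsqV w hw.1))
        calc c * c = (c * w) * w' * w⁻¹ * w'⁻¹ := by simp only [hcdef]; group
          _ = (w * c) * w' * w⁻¹ * w'⁻¹ := by rw [hcw]
          _ = (w * w * w') * (w⁻¹ * w⁻¹) * w'⁻¹ := by simp only [hcdef]; group
          _ = 1 := by rw [h1]; group
      have hu2 : u * u = c⁻¹ := by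
        have h2 : u * u = w' * (w⁻¹ * w' * w * w'⁻¹) * (w' * (w * w)⁻¹) := by rw [hudef]; group
        rw [h2]
        have h3 : w⁻¹ * w' * w * w'⁻¹ = c⁻¹ := by
          have : w⁻¹ * w' * w * w'⁻¹ = w⁻¹ * c⁻¹ * w := by rw [hcdef]; group
          rw [this, mul_assoc, (Commute.inv_left hcw).eq, inv_mul_cancel_left]
        rw [h3, ← mul_assoc, mul_assoc w' c⁻¹ w', (Commute.inv_left hcw').eq, ← mul_assoc w' w',
          hw2, ← (Commute.inv_left (show Commute c (w * w) from hVC _ (C.mul_mem hw hw) c hcV)).eq,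
          mul_inv_cancel_right]
      have hu2' : u * u * (u * u) = 1 := by rw [hu2, ← mul_inv_rev, hc2, inv_one]
      obtain ⟨a, ha, haa⟩ := hsq' _ hu2'
      have huV := htrick u huC a ha.1 haa
      obtain ⟨m, hm⟩ := hR ⟨u, hVR huV⟩
      refine stab_trivial (a := w⁻¹ * u * w) (by rw [hudef, hw'def]; group) ?_ hL₁odd
        (H74Offender.odd_pow_of_card L₁ hL₁odd hl) (m := m) ?_
      · rw [mul_assoc w⁻¹, hVC w hw u huV, inv_mul_cancel_left, hVL l hl u huV,
          mul_inv_cancel_right]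
      · rw [mul_assoc w⁻¹, hVC w hw u huV, inv_mul_cancel_left]
        exact congrArg Subtype.val hm
    have hv' : l * v = v * l := hVL l hl v hv
    have hw' : l * w = w * l := mul_inv_eq_iff_eq_mul.1 hlw
    rw [← mul_assoc l, hv', mul_assoc v l, hw', mul_assoc]
  -- V is elementary
  have hV2 : ∀ v ∈ V, v * v = 1 := by
    refine hord4 _ hVR ?_
    by_contra hno
    push Not at hno
    obtain ⟨a₀, ha₀, h4, hne⟩ := hno
    have hsq' := hsurjV V hN₁V a₀ ha₀ hne h4
    obtain ⟨w, hw, hwV⟩ := SetLike.not_le_iff_exists.1 hCne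
    obtain ⟨a, ha, haa⟩ := hsq' (w * w)
      (hZ _ ⟨hsqV w hw.1, C.mul_mem hw hw⟩)
    exact hwV (htrick w hw a ha haa)
  have hVc : ∀ v ∈ V, ∀ r ∈ R, v * r = r * v := fun v hv r hr => ((hinv v (hV2 v hv)).2 r hr).symm
  haveI := hVn
  obtain ⟨S₁, O₁, hVS₁, hS₁N, hS₁2, hS₁idx, hO₁N, hO₁odd, hO₁n, -, -, hfr₁⟩ :=
    sub_data ih hsol N₁ (hnotnormal L₁ hL₁odd hL₁R) (fun x _ y _ => hL₁conj x y)
      (htwoN N₁ hL₁inv) V (hR.to_le hVR) inf_le_left
  have hS₁R : ¬ S₁ ≤ R := by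
    intro h
    obtain ⟨s, hs, hsR⟩ := SetLike.not_le_iff_exists.1 hSR
    obtain ⟨r, hr, hn⟩ := hL₁fr s
    have hmk : QuotientGroup.mk' R (r⁻¹ * s) = QuotientGroup.mk' R s := by
      rw [map_mul, show QuotientGroup.mk' R r⁻¹ = 1 from
        (QuotientGroup.eq_one_iff _).2 (R.inv_mem hr), one_mul]
    have h2 : (N₁ ⊓ R).relIndex N₁ ∣ S₁.relIndex N₁ :=
      Subgroup.relIndex_dvd_of_le_left N₁ (le_inf hS₁N h)
    rw [Subgroup.inf_relIndex_left] at h2
    have h3 : orderOf (QuotientGroup.mk' R s) ∣ R.relIndex N₁ := by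
      rw [relIndex_eq_card_map, ← hmk]
      exact Subgroup.orderOf_dvd_natCard _ (Subgroup.mem_map_of_mem _ hn)
    obtain ⟨k, hk⟩ := IsPGroup.iff_orderOf.1 S.2 ⟨s, hs⟩
    rw [Subgroup.orderOf_mk] at hk
    obtain ⟨j, -, hj⟩ := (Nat.dvd_prime_pow Nat.prime_two).1 (hk ▸ orderOf_map_dvd (QuotientGroup.mk' R) s)
    rcases j with _ | j
    · exact hsR ((QuotientGroup.eq_one_iff s).1 (orderOf_eq_one_iff.1 (by simpa using hj)))
    · exact hS₁idx ((hj ▸ dvd_pow_self 2 (Nat.succ_ne_zero j) : 2 ∣ orderOf (QuotientGroup.mk' R s)).trans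
        (h3.trans h2))
  have hV3 : 3 ≤ Nat.card V := by
    haveI := Fintype.ofFinite V
    rw [Nat.card_eq_fintype_card]
    have h := Finset.card_le_univ
      ({1, ⟨x₁, hinV _ hx2⟩, ⟨y₁, hinV _ hy2⟩} : Finset V)
    rw [Finset.card_insert_of_notMem, Finset.card_pair] at h
    · exact h
    · exact fun e => hxy (congrArg Subtype.val e)
    · simp only [Finset.mem_insert, Finset.mem_singleton, not_or]
      exact ⟨fun e => hx1 (congrArg Subtype.val e).symm, fun e => hy1 (congrArg Subtype.val e).symm⟩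
  refine final_case R V N₁ S₁ O₁ hR hVR hCR ⟨F, inferInstance, hFnil, hFodd, hCF⟩ hQ2 hinV hV2 hV3
    hVc hsqV (Ne.symm hVne) rfl ?_ hVS₁ hS₁N hS₁2 hS₁R hO₁N ?_ hfr₁
  · exact fun x hx y hy hx1 hy1 => hL₁conj x y hx1 (hV2 x hx) hy1 (hV2 y hy)
  · intro o ho v hv
    have hc : o * v * o⁻¹ * v⁻¹ = 1 := by
      refine inf_eq_one hO₁odd (hR.to_le hVR) ?_
        (V.mul_mem (hVn.conj_mem v hv o) (V.inv_mem hv))
      have := O₁.mul_mem ho (hO₁n v hv.1 _ (O₁.inv_mem ho))
      convert this using 1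
      group
    exact mul_inv_eq_iff_eq_mul.1 (mul_inv_eq_one.1 hc)

theorem good : ∀ (n : ℕ) (H : Type u) [Group H] [Finite H], Nat.card H = n →
    Group.IsSolvable H → Conj2 H → Two H → Good H := by
  intro n
  induction n using Nat.strong_induction_on with
  | _ n ih =>
    intro H _ _ hn hsol hconj htwo
    subst hn
    by_cases hO : Cfsg.pPrimeCore 2 H = ⊥
    · exact good_bot ih hsol hconj htwo hO
    intro S
    set O := Cfsg.pPrimeCore 2 H with hOdef
    have hOodd : Odd (Nat.card O) := odd_core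
    obtain ⟨x₁, y₁, hxy, hx1, hx2, hy1, hy2, hcm⟩ := htwo
    have hne : ∀ x : H, x ≠ 1 → x * x = 1 → (x : H ⧸ O) ≠ 1 := fun x hx hx2 h =>
      hx (H74Offender.eq_one_of_sq hOodd
        (H74Offender.odd_pow_of_card O hOodd ((QuotientGroup.eq_one_iff x).1 h)) hx2)
    have hgood : Good (H ⧸ O) := ih _ (card_quotient_lt hO) (H ⧸ O) rfl
      (Group.isSolvable_of_surjective (f := QuotientGroup.mk' O) (QuotientGroup.mk'_surjective O))
      (fun x y hx hx2 hy hy2 => by
        obtain ⟨a, ha, rfl⟩ := lift_invol hOodd hx2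
        obtain ⟨b, hb, rfl⟩ := lift_invol hOodd hy2
        obtain ⟨g, rfl⟩ := hconj a b (fun h => hx (by rw [h]; rfl)) ha
          (fun h => hy (by rw [h]; rfl)) hb
        exact ⟨g, rfl⟩)
      ⟨x₁, y₁, fun h => by
          rw [QuotientGroup.eq, inv_eq_of_mul_eq_one_right hx2] at h
          refine hne (x₁ * y₁) (fun e => hxy ?_) ?_ ((QuotientGroup.eq_one_iff _).2 h)
          · rw [← inv_eq_of_mul_eq_one_right e]; exact (inv_eq_of_mul_eq_one_right hx2).symm
          · calc x₁ * y₁ * (x₁ * y₁) = x₁ * (y₁ * x₁) * y₁ := by group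
              _ = x₁ * x₁ * (y₁ * y₁) := by rw [← hcm]; group
              _ = 1 := by rw [hx2, hy2, one_mul],
        hne x₁ hx1 hx2, by rw [← QuotientGroup.mk_mul, hx2, QuotientGroup.mk_one], hne y₁ hy1 hy2,
        by rw [← QuotientGroup.mk_mul, hy2, QuotientGroup.mk_one],
        by rw [← QuotientGroup.mk_mul, hcm, QuotientGroup.mk_mul]⟩
    have h := hgood (S.mapSurjective (QuotientGroup.mk'_surjective O))
    rw [pPrimeCore_quotient_self 2 H, sup_bot_eq] at h
    have h2 := h.comap (QuotientGroup.mk' O)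
    have h3 : ((S.mapSurjective (QuotientGroup.mk'_surjective O) : Sylow 2 _) :
        Subgroup (H ⧸ O)).comap (QuotientGroup.mk' O) = (S : Subgroup H) ⊔ O := by
      show ((S : Subgroup H).map (QuotientGroup.mk' O)).comap (QuotientGroup.mk' O) = _
      rw [Subgroup.comap_map_eq, QuotientGroup.ker_mk']
    rwa [h3] at h2

end Cfsg.Agent.H74OneClass
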