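import Mathlib

/-!
Coprime actions in which every orbit has prime-power size: preliminaries.
-/

set_option autoImplicit false

namespace Cfsg.Agent.H74OrbitBasic

open MulAction

/-- A perfect group has only trivial maps into solvable groups. -/
theorem hom_trivial {H K : Type*} [Group H] [Group K] (hperf : commutator H = ⊤)
    [hK : Group.IsSolvable K] (f : H →* K) (h : H) : f h = 1 := by
  obtain ⟨n, hn⟩ := hK.solvable
  have hd : ∀ k, derivedSeries H k = ⊤ := fun k => by
    induction k with
    | zero => rfl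
    | succ k ih => rw [derivedSeries_succ, ih, ← commutator_def, hperf]
  have h2 := map_derivedSeries_le_derivedSeries f n (Subgroup.mem_map_of_mem f
    (show h ∈ derivedSeries H n by rw [hd]; trivial))
  rwa [hn, Subgroup.mem_bot] at h2

/-- All orbits have `p`-power size. -/
def PPow (H V : Type*) [Group H] [MulAction H V] (p : ℕ) : Prop :=
  ∀ v : V, ∃ a : ℕ, (stabilizer H v).index = p ^ a

theorem ppow_normal {H V : Type*} [Group H] [Finite H] [MulAction H V] {p : ℕ} (hp : p.Prime)
    (horb : PPow H V p) (M : Subgroup H) [M.Normal] : PPow M V p := by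
  intro v
  obtain ⟨a, ha⟩ := horb v
  set K := stabilizer H v
  have h1 : (stabilizer M v) = K.subgroupOf M := by
    ext m
    rfl
  have e1 : K.relIndex M * M.index = M.relIndex K * K.index := by
    have a1 := Subgroup.relIndex_mul_index (inf_le_left : M ⊓ K ≤ M)
    have a2 := Subgroup.relIndex_mul_index (inf_le_right : M ⊓ K ≤ K)
    rw [Subgroup.inf_relIndex_left] at a1
    rw [Subgroup.inf_relIndex_right] at a2
    rw [a1, a2]
  obtain ⟨e, he⟩ := Subgroup.relIndex_dvd_index_of_normal M K
  have hne : M.relIndex K ≠ 0 := by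
    rw [Subgroup.relIndex]
    exact Subgroup.index_ne_zero_of_finite
  rw [he] at e1
  have e2 : K.index = K.relIndex M * e :=
    Nat.eq_of_mul_eq_mul_left (Nat.pos_of_ne_zero hne) (by rw [← e1]; ring)
  obtain ⟨b, -, hb⟩ := (Nat.dvd_prime_pow hp).1 (ha ▸ (⟨e, e2⟩ : K.relIndex M ∣ K.index))
  exact ⟨b, by rw [h1]; exact hb⟩

theorem ppow_range {H V : Type*} [Group H] [MulAction H V] {p : ℕ} (horb : PPow H V p) :
    PPow (MulAction.toPermHom H V).range V p := by
  intro v
  obtain ⟨a, ha⟩ := horb v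
  refine ⟨a, ?_⟩
  rw [← Subgroup.index_comap_of_surjective _ (MulAction.toPermHom H V).rangeRestrict_surjective,
    ← ha]
  rfl

/-- A Sylow `p`-subgroup has the same orbits. -/
theorem orbit_eq {H V : Type*} [Group H] [Finite H] [MulAction H V] [Finite V] {p : ℕ}
    [hp : Fact p.Prime] (horb : PPow H V p) (P : Sylow p H) (h : H) (v : V) :
    ∃ x ∈ (P : Subgroup H), x • v = h • v := by
  obtain ⟨a, ha⟩ := horb v
  set K := stabilizer H v
  have h1 : (stabilizer (P : Subgroup H) v) = K.subgroupOf P := by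
    ext m
    rfl
  obtain ⟨e, he⟩ := IsPGroup.iff_card.1 P.2
  obtain ⟨b, hb⟩ := IsPGroup.iff_card.1 (P.2.to_le (inf_le_left : (P : Subgroup H) ⊓ K ≤ P))
  have hKH : Nat.card K * p ^ a = Nat.card H := by rw [← ha, Subgroup.card_mul_index]
  have hdvd : p ^ (b + a) ∣ Nat.card H := by
    rw [← hKH, pow_add, ← hb]
    exact Nat.mul_dvd_mul_right (Subgroup.card_dvd_of_le inf_le_right) _
  have hle : p ^ (b + a) ∣ p ^ e := by
    rw [← he, P.card_eq_multiplicity]
    exact pow_dvd_pow p ((hp.out.pow_dvd_iff_le_factorization Nat.card_pos.ne').1 hdvd)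
  have hrel : p ^ b * K.relIndex P = p ^ e := by
    rw [← hb, ← he, ← Subgroup.inf_relIndex_left, ← Subgroup.relIndex_bot_left,
      Subgroup.relIndex_mul_relIndex _ _ _ bot_le inf_le_left, Subgroup.relIndex_bot_left]
  have hge : p ^ a ≤ K.relIndex P := by
    rw [← hrel, pow_add] at hle
    refine Nat.le_of_dvd ?_ (Nat.dvd_of_mul_dvd_mul_left (pow_pos hp.out.pos b) hle)
    rw [Nat.pos_iff_ne_zero, Subgroup.relIndex]
    exact Subgroup.index_ne_zero_of_finite
  have hsub : orbit (P : Subgroup H) v ⊆ orbit H v := by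
    rintro _ ⟨x, rfl⟩
    exact ⟨(x : H), rfl⟩
  have heq : orbit (P : Subgroup H) v = orbit H v := by
    refine Set.eq_of_subset_of_ncard_le hsub ?_ (Set.toFinite _)
    rw [← index_stabilizer, ← index_stabilizer, h1, ha]
    exact hge
  obtain ⟨x, hx⟩ := (heq ▸ mem_orbit v h : h • v ∈ orbit (P : Subgroup H) v)
  exact ⟨x, x.2, hx⟩

end Cfsg.Agent.H74OrbitBasic
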