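import Mathlib
import Cfsg.Agent.Lib.H74OrbitBasic

/-!
Coprime actions in which every orbit has prime-power size: the minimal configuration, and the
exclusion of a normal elementary abelian subgroup of order `p ^ 2` in a Sylow `p`-subgroup.
-/

set_option autoImplicit false

namespace Cfsg.Agent.H74OrbitBlocks

open MulAction Cfsg.Agent.H74OrbitBasic

universe u

/-- The minimal configuration. -/
structure Crit (H V : Type u) [Group H] [AddCommGroup V] [DistribMulAction H V] (p q : ℕ) : Prop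
    where
  perf : commutator H = ⊤
  irr : ∀ W : AddSubgroup V, (∀ h : H, ∀ w ∈ W, h • w ∈ W) → W = ⊥ ∨ W = ⊤
  faith : ∀ h : H, (∀ v : V, h • v = v) → h = 1
  cop : (Nat.card H).Coprime q
  exp : ∀ v : V, q • v = 0
  orb : PPow H V p
  ne : ∃ h : H, h ≠ 1
  normal : ∀ M : Subgroup H, M.Normal → M ≠ ⊤ → Group.IsSolvable M

/-- The fixed points of an element. -/
def fixSub {H V : Type*} [Group H] [AddCommGroup V] [DistribMulAction H V] (x : H) :
    AddSubgroup V where
  carrier := {v | x • v = v}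
  zero_mem' := smul_zero x
  add_mem' {a b} ha hb := by
    show x • (a + b) = a + b
    rw [smul_add, ha, hb]
  neg_mem' {a} ha := by
    show x • (-a) = -a
    rw [smul_neg, ha]

theorem mem_fixSub {H V : Type*} [Group H] [AddCommGroup V] [DistribMulAction H V] {x : H}
    {v : V} : v ∈ fixSub x ↔ x • v = v := Iff.rfl

section crit

variable {H V : Type u} [Group H] [Finite H] [AddCommGroup V] [Finite V] [DistribMulAction H V]
  {p q : ℕ} [hp : Fact p.Prime]

theorem Crit.irrP (C : Crit H V p q) (P : Sylow p H) (W : AddSubgroup V)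
    (hW : ∀ x ∈ (P : Subgroup H), ∀ w ∈ W, x • w ∈ W) : W = ⊥ ∨ W = ⊤ := by
  refine C.irr W fun h w hw => ?_
  obtain ⟨x, hx, hxw⟩ := orbit_eq C.orb P h w
  exact hxw ▸ hW x hx w hw

theorem Crit.exists_ne_zero (C : Crit H V p q) : ∃ v : V, v ≠ 0 := by
  by_contra h
  push Not at h
  obtain ⟨g, hg⟩ := C.ne
  exact hg (C.faith g fun v => by rw [h v, smul_zero])

/-- An element central in the Sylow subgroup has no nonzero fixed vector. -/
theorem Crit.fixed_zero (C : Crit H V p q) (P : Sylow p H) {x : H} (hx1 : x ≠ 1)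
    (hc : ∀ y ∈ (P : Subgroup H), y * x = x * y) {v : V} (hv : x • v = v) : v = 0 := by
  rcases C.irrP P (fixSub x) (fun y hy w hw => by
    rw [mem_fixSub] at hw ⊢
    rw [← mul_smul, ← hc y hy, mul_smul, hw]) with h | h
  · rw [← AddSubgroup.mem_bot, ← h]
    exact hv
  · exact absurd (C.faith x fun w => mem_fixSub.1 (h ▸ AddSubgroup.mem_top w)) hx1

theorem Crit.nsmul_inj (C : Crit H V p q) {n : ℕ} (hn : n.Coprime q) {v : V} (h : n • v = 0) :
    v = 0 := by
  have h1 : addOrderOf v ∣ Nat.gcd n q :=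
    Nat.dvd_gcd (addOrderOf_dvd_iff_nsmul_eq_zero.2 h)
      (addOrderOf_dvd_iff_nsmul_eq_zero.2 (C.exp v))
  rw [Nat.Coprime.gcd_eq_one hn, Nat.dvd_one] at h1
  exact AddMonoid.addOrderOf_eq_one_iff.1 h1

/-- No normal elementary abelian subgroup of order `p ^ 2`. -/
theorem Crit.blocks (C : Crit H V p q) (hpH : p ∣ Nat.card H) (P : Sylow p H) (z b : H)
    (hzP : z ∈ (P : Subgroup H)) (hbP : b ∈ (P : Subgroup H)) (hz1 : z ≠ 1) (hzp : z ^ p = 1)
    (hbp : b ^ p = 1) (hb : b ∉ Subgroup.zpowers z)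
    (hzc : ∀ y ∈ (P : Subgroup H), y * z = z * y)
    (hbc : ∀ y ∈ (P : Subgroup H), ∃ k : ℕ, y * b * y⁻¹ = z ^ k * b) : False := by
  classical
  set zp : ZMod p → H := fun i => z ^ i.val with hzpdef
  have hzpn : ∀ n : ℕ, zp (n : ZMod p) = z ^ n := fun n => by
    simp only [zp, ZMod.val_natCast]
    exact (pow_eq_pow_mod n hzp).symm
  have zp_add : ∀ i j, zp (i + j) = zp i * zp j := fun i j => by
    conv_lhs => rw [← ZMod.natCast_zmod_val i, ← ZMod.natCast_zmod_val j, ← Nat.cast_add, hzpn,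
      pow_add]
  have zp_zero : zp 0 = 1 := by simp [zp]
  have zp_pow : ∀ (i : ZMod p) (m : ℕ), zp i ^ m = zp (i * m) := fun i m => by
    conv_rhs => rw [← ZMod.natCast_zmod_val i, ← Nat.cast_mul, hzpn, pow_mul]
  have zpP : ∀ i, zp i ∈ (P : Subgroup H) := fun i => Subgroup.pow_mem _ hzP _
  have zpc : ∀ i, ∀ y ∈ (P : Subgroup H), y * zp i = zp i * y := fun i y hy =>
    Commute.pow_right (hzc y hy) _
  have zp_ne : ∀ i, i ≠ 0 → zp i ≠ 1 := fun i hi h => by
    have ho : orderOf z = p := orderOf_eq_prime hzp hz1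
    have h2 : orderOf z ∣ i.val := orderOf_dvd_of_pow_eq_one (show z ^ i.val = 1 from h)
    rw [ho] at h2
    exact hi ((ZMod.val_eq_zero i).1 (Nat.eq_zero_of_dvd_of_lt h2 (ZMod.val_lt i)))
  obtain ⟨v0, hv0⟩ := C.exists_ne_zero
  -- some `zp i * b` has a nonzero fixed vector
  have hex : ∃ i, ∃ w : V, w ≠ 0 ∧ (zp i * b) • w = w := by
    by_contra hall
    push Not at hall
    have hfix : ∀ (c : H), c ^ p = 1 → ∀ y : V,
        c • (∑ j : ZMod p, c ^ j.val • y) = ∑ j : ZMod p, c ^ j.val • y := by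
      intro c hc y
      rw [Finset.smul_sum]
      refine Fintype.sum_equiv (Equiv.addLeft (1 : ZMod p)) _ _ fun j => ?_
      rw [← mul_smul, ← pow_succ']
      congr 1
      show c ^ (j.val + 1) = c ^ (1 + j).val
      conv_rhs => rw [← ZMod.natCast_zmod_val j, ← Nat.cast_one, ← Nat.cast_add, ZMod.val_natCast]
      rw [add_comm 1 j.val]
      exact pow_eq_pow_mod _ hc
    have hS : ∀ i, ∑ j : ZMod p, (zp i * b) ^ j.val • v0 = 0 := fun i => by
      by_contra h
      refine hall i _ h (hfix _ ?_ v0)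
      rw [Commute.mul_pow (zpc i b hbP).symm, zp_pow, hbp, ZMod.natCast_self, mul_zero, zp_zero,
        one_mul]
    have hT : ∀ y : V, ∑ i : ZMod p, zp i • y = 0 := fun y =>
      C.fixed_zero P hz1 hzc (hfix z hzp y)
    have hrw : ∀ i j : ZMod p, (zp i * b) ^ j.val • v0 = zp (i * j) • (b ^ j.val • v0) :=
      fun i j => by
        rw [Commute.mul_pow (zpc i b hbP).symm, zp_pow, mul_smul, ZMod.natCast_zmod_val]
    have hsum : ∑ j : ZMod p, ∑ i : ZMod p, zp (i * j) • (b ^ j.val • v0) = 0 := by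
      rw [Finset.sum_comm]
      exact Finset.sum_eq_zero fun i _ => by rw [← hS i]; simp only [hrw]
    rw [Finset.sum_eq_single (0 : ZMod p)] at hsum
    · simp only [mul_zero, zp_zero, one_smul, ZMod.val_zero, pow_zero, Finset.sum_const,
        Finset.card_univ, ZMod.card] at hsum
      exact hv0 (C.nsmul_inj (Nat.Coprime.coprime_dvd_left hpH C.cop) hsum)
    · intro j _ hj
      rw [← hT (b ^ j.val • v0)]
      exact Fintype.sum_equiv (Equiv.mulRight₀ j hj) _ _ fun i => rfl
    · exact fun h => absurd (Finset.mem_univ _) h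
  obtain ⟨i0, w0, hw0, hw0f⟩ := hex
  set B := zp i0 * b with hBdef
  have hBP : B ∈ (P : Subgroup H) := mul_mem (zpP i0) hbP
  have hBne : B ≠ 1 := fun h => hb (by
    rw [show b = (zp i0)⁻¹ from eq_inv_of_mul_eq_one_right h]
    exact Subgroup.inv_mem _ (Subgroup.pow_mem _ (Subgroup.mem_zpowers z) _))
  have hd : ∀ x : (P : Subgroup H), ∃ d : ZMod p, (x : H) * B * (x : H)⁻¹ = zp d * B := by
    rintro ⟨x, hx⟩
    obtain ⟨k, hk⟩ := hbc x hx
    refine ⟨(k : ZMod p), ?_⟩
    show x * B * x⁻¹ = _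
    rw [hzpn, hBdef, ← mul_assoc, zpc i0 x hx, mul_assoc, mul_assoc, ← mul_assoc x, hk,
      ← mul_assoc, ← mul_assoc, (Commute.pow_right (hzc _ (zpP i0)) k).eq]
  choose d hd using hd
  set W : ZMod p → AddSubgroup V := fun j => fixSub (zp j * B)
  have hmove : ∀ (x : (P : Subgroup H)) j v, v ∈ W j → (x : H) • v ∈ W (j + d x) := by
    intro x j v hv
    show (zp (j + d x) * B) • (x : H) • v = (x : H) • v
    have h1 : zp (j + d x) * B * (x : H) = (x : H) * (zp j * B) := by
      rw [zp_add, mul_assoc (zp j), ← hd x, ← mul_assoc (x : H) (zp j), zpc j _ x.2]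
      group
    rw [← mul_smul, h1, mul_smul, show (zp j * B) • v = v from hv]
  have huniq : ∀ i j v, v ∈ W i → v ∈ W j → v ≠ 0 → i = j := by
    intro i j v hi hj hv
    by_contra hij
    refine hv (C.fixed_zero P (zp_ne (i - j) (sub_ne_zero.2 hij)) (zpc _) ?_)
    have h1 : zp (i - j) * (zp j * B) = zp i * B := by
      rw [← mul_assoc, ← zp_add, sub_add_cancel]
    have h2 : (zp (i - j) * (zp j * B)) • v = v := by rw [h1]; exact hi
    rwa [mul_smul, show (zp j * B) • v = v from hj] at h2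
  obtain ⟨g, hg⟩ : ∃ g, d g ≠ 0 := by
    by_contra hall
    push Not at hall
    refine hw0 (C.fixed_zero P hBne (fun y hy => ?_) hw0f)
    have := hd ⟨y, hy⟩
    rw [hall, zp_zero, one_mul] at this
    exact mul_inv_eq_iff_eq_mul.1 this
  obtain ⟨g1, hg1⟩ : ∃ g1 : (P : Subgroup H), d g1 = 1 := by
    have hpow : ∀ n : ℕ, ((g : H) ^ n) * B * ((g : H) ^ n)⁻¹ = zp (n * d g) * B := by
      intro n
      induction n with
      | zero => simp [zp_zero]
      | succ n ih =>
        calc (g : H) ^ (n + 1) * B * ((g : H) ^ (n + 1))⁻¹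
            = (g : H) * ((g : H) ^ n * B * ((g : H) ^ n)⁻¹) * (g : H)⁻¹ := by
              rw [pow_succ']; group
          _ = zp (n * d g) * ((g : H) * B * (g : H)⁻¹) := by
              rw [ih, ← mul_assoc, zpc _ _ g.2]; group
          _ = zp ((n + 1 : ℕ) * d g) * B := by
              rw [hd, ← mul_assoc, ← zp_add, Nat.cast_succ, add_mul, one_mul]
    refine ⟨g ^ ((d g)⁻¹).val, ?_⟩
    have h1 := hd (g ^ ((d g)⁻¹).val)
    rw [SubmonoidClass.coe_pow, hpow, ZMod.natCast_zmod_val, inv_mul_cancel₀ hg] at h1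
    have h2 := mul_right_cancel h1
    by_contra hne
    apply zp_ne _ (sub_ne_zero.2 hne)
    rw [← mul_left_inj (zp 1), ← zp_add, sub_add_cancel, one_mul]
    exact h2.symm
  have hnz : ∀ j, ∃ w ∈ W j, w ≠ 0 := by
    intro j
    rw [← ZMod.natCast_zmod_val j]
    generalize j.val = n
    induction n with
    | zero =>
      refine ⟨w0, ?_, hw0⟩
      show (zp _ * B) • w0 = w0
      rw [Nat.cast_zero, zp_zero, one_mul]
      exact hw0f
    | succ n ih =>
      obtain ⟨w, hw, hwne⟩ := ih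
      refine ⟨(g1 : H) • w, ?_, fun h => hwne ((smul_eq_zero_iff_eq (g1 : H)).1 h)⟩
      have := hmove g1 _ w hw
      rw [hg1] at this
      rwa [Nat.cast_succ]
  choose w hw hwne using hnz
  have hU : ∀ (h : H) v j, v ∈ W j → ∃ j', h • v ∈ W j' := by
    intro h v j hv
    obtain ⟨x, hx, hxv⟩ := orbit_eq C.orb P h v
    exact ⟨j + d ⟨x, hx⟩, hxv ▸ hmove ⟨x, hx⟩ j v hv⟩
  have hstab : ∀ (k : ZMod p) (i : ZMod p) (a : V), a ∈ W i → (zp k * B) • a - a ∈ W i := by
    intro k i a ha
    refine AddSubgroup.sub_mem _ ?_ ha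
    show (zp i * B) • (zp k * B) • a = (zp k * B) • a
    have c1 : Commute (zp i) (zp k) := zpc k _ (zpP i)
    have c2 : Commute B (zp k) := zpc k B hBP
    have c3 : Commute (zp i) B := (show Commute B (zp i) from zpc i B hBP).symm
    have hcomm : zp i * B * (zp k * B) = zp k * B * (zp i * B) :=
      ((c1.mul_right c3).mul_left (c2.mul_right (Commute.refl B))).eq
    rw [← mul_smul, hcomm, mul_smul, show (zp i * B) • a = a from ha]
  have hsum : ∀ a c i j k, a ∈ W i → c ∈ W j → i ≠ j → a ≠ 0 → c ≠ 0 → a + c ∉ W k := by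
    intro a c i j k ha hc hij ha0 hc0 hk
    by_cases hki : k = i
    · subst hki
      refine hij (huniq k j c ?_ hc hc0)
      simpa using AddSubgroup.sub_mem _ hk ha
    have h1 : (zp k * B) • a - a = -((zp k * B) • c - c) := by
      have : (zp k * B) • (a + c) = a + c := hk
      rw [smul_add] at this
      rw [eq_neg_iff_add_eq_zero, sub_add_sub_comm, this, sub_self]
    have h2 : (zp k * B) • a - a = 0 := by
      by_contra hne
      exact hij (huniq i j _ (hstab k i a ha) (h1 ▸ AddSubgroup.neg_mem _ (hstab k j c hc)) hne)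
    exact hki (huniq k i a (sub_eq_zero.1 h2) ha ha0)
  have hσ : ∀ (h : H) i, ∃ j, ∀ a ∈ W i, h • a ∈ W j := by
    intro h i
    obtain ⟨j, hj⟩ := hU h (w i) i (hw i)
    refine ⟨j, fun a ha => ?_⟩
    by_cases ha0 : a = 0
    · rw [ha0, smul_zero]; exact AddSubgroup.zero_mem _
    obtain ⟨j', hj'⟩ := hU h a i ha
    by_cases hjj : j' = j
    · exact hjj ▸ hj'
    obtain ⟨k, hk⟩ := hU h (a + w i) i (AddSubgroup.add_mem _ ha (hw i))
    rw [smul_add] at hk
    exact absurd hk (hsum _ _ _ _ _ hj' hj hjj ((smul_ne_zero_iff_ne h).2 ha0)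
      ((smul_ne_zero_iff_ne h).2 (hwne i)))
  choose σ hσ using hσ
  have hσu : ∀ (h : H) i v j, v ∈ W i → v ≠ 0 → h • v ∈ W j → σ h i = j := fun h i v j hv hv0 hj =>
    huniq _ _ _ (hσ h i v hv) hj ((smul_ne_zero_iff_ne h).2 hv0)
  have hσmul : ∀ h k i, σ (h * k) i = σ h (σ k i) := fun h k i =>
    hσu _ i (w i) _ (hw i) (hwne i) (by
      rw [mul_smul]
      exact hσ h _ _ (hσ k i _ (hw i)))
  have hσone : ∀ i, σ 1 i = i := fun i => hσu _ i (w i) _ (hw i) (hwne i) (by rw [one_smul]; exact hw i)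
  have hσinj : ∀ h, Function.Injective (σ h) := fun h i j hij => by
    have := congrArg (σ h⁻¹) hij
    rwa [← hσmul, ← hσmul, inv_mul_cancel, hσone, hσone] at this
  -- uniqueness of decompositions
  have hpair : ∀ a c a' c' i j k l, a ∈ W i → c ∈ W j → a' ∈ W k → c' ∈ W l → i ≠ j → k ≠ l →
      a ≠ 0 → c ≠ 0 → a' ≠ 0 → c' ≠ 0 → a + c = a' + c' → i = k ∨ i = l := by
    intro a c a' c' i j k l ha hc ha' hc' hij hkl ha0 hc0 ha0' hc0' heq
    by_contra hne
    push Not at hne
    have h1 : (zp i * B) • c - c =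
        ((zp i * B) • a' - a') + ((zp i * B) • c' - c') := by
      have h := congrArg (fun v => (zp i * B) • v - v) heq
      simp only [smul_add] at h
      rw [show (zp i * B) • a = a from ha] at h
      rw [add_sub_add_left_eq_sub] at h
      rw [h]; abel
    refine hsum _ _ k l j (hstab i k a' ha') (hstab i l c' hc') hkl ?_ ?_ (h1 ▸ hstab i j c hc)
    · exact fun h => hne.1 (huniq i k a' (sub_eq_zero.1 h) ha' ha0')
    · exact fun h => hne.2 (huniq i l c' (sub_eq_zero.1 h) hc' hc0')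
  have h01 : ∀ i : ZMod p, i ≠ i + 1 := fun i h => one_ne_zero (α := ZMod p) (by
    have := congrArg (fun t => t - i) h
    simpa using this.symm)
  have hedge : ∀ h i, σ h (i + 1) = σ h i + 1 ∨ σ h i = σ h (i + 1) + 1 := by
    intro h i
    have hw' : (g1 : H) • w i ∈ W (i + 1) := hg1 ▸ hmove g1 i _ (hw i)
    obtain ⟨x, hx, hxv⟩ := orbit_eq C.orb P h (w i + (g1 : H) • w i)
    rw [smul_add, smul_add] at hxv
    have hne : (g1 : H) • w i ≠ 0 := (smul_ne_zero_iff_ne _).2 (hwne i)
    have hA := hσ h i _ (hw i)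
    have hB := hσ h (i + 1) _ hw'
    have hA' := hmove ⟨x, hx⟩ i _ (hw i)
    have hB' := hmove ⟨x, hx⟩ (i + 1) _ hw'
    have n1 : σ h i ≠ σ h (i + 1) := fun e => h01 i (hσinj h e)
    have n2 : i + d ⟨x, hx⟩ ≠ i + 1 + d ⟨x, hx⟩ := fun e => h01 i (add_right_cancel e)
    have z1 := (smul_ne_zero_iff_ne h).2 (hwne i)
    have z2 := (smul_ne_zero_iff_ne h).2 hne
    have z3 := (smul_ne_zero_iff_ne x).2 (hwne i)
    have z4 := (smul_ne_zero_iff_ne x).2 hne
    have e1 := hpair _ _ _ _ _ _ _ _ hA hB hA' hB' n1 n2 z1 z2 z3 z4 hxv.symm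
    have e2 := hpair _ _ _ _ _ _ _ _ hB hA hA' hB' n1.symm n2 z2 z1 z3 z4
      (by rw [add_comm]; exact hxv.symm)
    rcases e1 with e1 | e1 <;> rcases e2 with e2 | e2
    · exact absurd (e1.trans e2.symm) n1
    · left; rw [e1, e2]; ring
    · right; rw [e1, e2]; ring
    · exact absurd (e1.trans e2.symm) n1
  let δ : H → ZMod p := fun h => σ h 1 - σ h 0
  have hstep : ∀ h (n : ℕ), σ h ((n : ZMod p) + 1) - σ h n = δ h := by
    intro h n
    induction n with
    | zero => simp [δ]
    | succ n ih =>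
      rw [Nat.cast_succ, ← ih]
      set j : ZMod p := (n : ZMod p)
      have hneg : (σ h (j + 1 + 1) = σ h j) →
          σ h (j + 1 + 1) - σ h (j + 1) = σ h (j + 1) - σ h j := fun e => by
        have h2 : (2 : ZMod p) = 0 := by
          have := congrArg (fun t => t - j) (hσinj h e)
          simpa [add_assoc, one_add_one_eq_two] using this
        have h3 : σ h (j + 1 + 1) - σ h (j + 1) =
            -(σ h (j + 1) - σ h j) := by rw [e]; ring
        rcases hedge h j with c | c
        · rw [h3, c, add_sub_cancel_left]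
          linear_combination -h2
        · rw [h3, c]
          ring_nf
          linear_combination h2
      rcases hedge h j with c1 | c1 <;> rcases hedge h (j + 1) with c2 | c2
      · rw [c2, c1]; ring
      · exact hneg (add_right_cancel (c2.symm.trans c1))
      · exact hneg (c2.trans c1.symm)
      · rw [c1, c2]; ring
  have haff : ∀ h i, σ h i = σ h 0 + i * δ h := by
    intro h i
    rw [← ZMod.natCast_zmod_val i]
    generalize i.val = n
    induction n with
    | zero => simp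
    | succ n ih =>
      rw [Nat.cast_succ, sub_eq_iff_eq_add.1 (hstep h n), ih]
      ring
  have hδne : ∀ h, δ h ≠ 0 := fun h e => zero_ne_one (α := ZMod p) (hσinj h (sub_eq_zero.1 e).symm)
  have hδmul : ∀ h k, δ (h * k) = δ h * δ k := by
    intro h k
    show σ (h * k) 1 - σ (h * k) 0 = _
    rw [hσmul, hσmul, haff h (σ k 1), haff h (σ k 0)]
    show _ = δ h * (σ k 1 - σ k 0)
    ring
  let f : H →* (ZMod p)ˣ := MonoidHom.mk' (fun h => Units.mk0 (δ h) (hδne h))
    (fun h k => Units.ext (hδmul h k))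
  have hδ1 : ∀ h, δ h = 1 := fun h => congrArg Units.val (hom_trivial C.perf f h)
  let t : H →* Multiplicative (ZMod p) := MonoidHom.mk' (fun h => Multiplicative.ofAdd (σ h 0))
    (fun h k => by
      rw [← ofAdd_add, hσmul, haff h (σ k 0), hδ1, mul_one])
  have ht : ∀ h, σ h 0 = 0 := fun h => Multiplicative.ofAdd.injective (hom_trivial C.perf t h)
  rcases C.irr (W 0) (fun h a ha => ht h ▸ hσ h 0 a ha) with h | h
  · exact hwne 0 (by rw [← AddSubgroup.mem_bot, ← h]; exact hw 0)
  · refine hBne (C.faith B fun v => ?_)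
    have : v ∈ W 0 := h ▸ AddSubgroup.mem_top v
    have h2 : (zp 0 * B) • v = v := this
    rwa [zp_zero, one_mul] at h2

end crit

end Cfsg.Agent.H74OrbitBlocks
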