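import Mathlib
import Cfsg.Agent.Lib.H74OrbitBlocks
import Cfsg.Agent.Lib.HallSolvable
import Cfsg.Agent.Lib.TransferPow
import Cfsg.Agent.Lib.PermPrimeDegree
import Cfsg.Agent.Lib.CyclicBGroup72

/-!
Coprime actions in which every orbit has prime-power size: exclusion of a cyclic Sylow subgroup.
-/

set_option autoImplicit false

namespace Cfsg.Agent.H74OrbitCyclic

open MulAction Cfsg.Agent.H74OrbitBasic Cfsg.Agent.H74OrbitBlocks

universe u

variable {H V : Type u} [Group H] [Finite H] [AddCommGroup V] [Finite V] [DistribMulAction H V]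
  {p q : ℕ} [hp : Fact p.Prime]

/-- Perfectness, a cyclic Sylow subgroup and a nontrivial solvable normal subgroup collide. -/
theorem no_solvable_normal (C : Crit H V p q) (P : Sylow p H) [hPc : IsCyclic (P : Subgroup H)]
    (M : Subgroup H) [M.Normal] [Group.IsSolvable M] (hM : M ≠ ⊥) : False := by
  obtain ⟨A, hA, hAM⟩ := HallSolvable.exists_minNormal_le hM
  haveI : Group.IsSolvable A :=
    solvable_of_solvable_injective (Subgroup.inclusion_injective hAM)
  haveI := hA.normal
  obtain ⟨r, hr, -, hAr⟩ := hA.exists_prime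
  haveI : Fact r.Prime := ⟨hr⟩
  by_cases hrp : r = p
  · subst hrp
    have hAP : A ≤ (P : Subgroup H) := IsPGroup.le_sylow_of_normal hAr P
    haveI : IsCyclic A :=
      isCyclic_of_injective (Subgroup.inclusion hAP) (Subgroup.inclusion_injective hAP)
    haveI : Group.IsSolvable (MulAut A) :=
      solvable_of_solvable_injective (f := (IsCyclic.mulAutMulEquiv A).toMonoidHom)
        (IsCyclic.mulAutMulEquiv A).injective
    haveI : IsMulCommutative (P : Subgroup H) :=
      hPc.isMulCommutative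
    obtain ⟨⟨a, ha⟩, hane⟩ := Subgroup.ne_bot_iff_exists_ne_one.1 hA.ne_bot
    apply hane
    refine Subtype.ext (TransferPow.eq_one_of_mem_center_commutator (H := (P : Subgroup H))
      (hAP ha) (Subgroup.mem_center_iff.2 fun h => ?_) (C.perf ▸ Subgroup.mem_top a) ?_)
    · have h1 := congrArg (fun e : MulAut A => ((e ⟨a, ha⟩ : A) : H))
        (hom_trivial C.perf (MulAut.conjNormal : H →* MulAut A) h)
      simp only [MulAut.conjNormal_apply, MulAut.one_apply] at h1
      exact mul_inv_eq_iff_eq_mul.1 h1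
    · obtain ⟨j, hj⟩ := P.2 ⟨a, hAP ha⟩
      have ho : orderOf a ∣ r ^ j := orderOf_dvd_of_pow_eq_one (congrArg Subtype.val hj)
      refine Nat.Coprime.coprime_dvd_right ho (Nat.Coprime.pow_right j ?_)
      exact (hr.coprime_iff_not_dvd.2 (by exact P.not_dvd_index)).symm
  · apply hA.ne_bot
    rw [Subgroup.eq_bot_iff_forall]
    intro a ha
    refine C.faith a fun v => ?_
    obtain ⟨i, hi⟩ := ppow_normal hp.out C.orb A v
    obtain ⟨j, hj⟩ := hAr.index (stabilizer A v)
    have hi0 : i = 0 := by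
      by_contra hne
      have h1 : p ∣ r ^ j := hj ▸ hi ▸ dvd_pow_self p hne
      exact hrp ((Nat.prime_dvd_prime_iff_eq hp.out hr).1 (hp.out.dvd_of_dvd_pow h1)).symm
    rw [hi0, pow_zero, Subgroup.index_eq_one] at hi
    exact (mem_stabilizer_iff.1 (show (⟨a, ha⟩ : A) ∈ stabilizer A v by rw [hi]; trivial))

/-- A finite invariant set, with all orbits of nonzero vectors of the same size, is not
doubly transitive. -/
theorem no_two_transitive (C : Crit H V p q) (hq : q.Prime) (X : Finset V) (hX : 3 ≤ X.card)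
    (hXinv : ∀ h : H, ∀ x ∈ X, h • x ∈ X)
    (hsize : ∀ u : V, u ≠ 0 → (orbit H u).ncard = X.card)
    (h2 : ∀ a ∈ X, ∀ b ∈ X, ∀ c ∈ X, ∀ d ∈ X, a ≠ b → c ≠ d →
      ∃ h : H, h • a = c ∧ h • b = d) : False := by
  classical
  obtain ⟨x0, y0, hx0, hy0, hxy0⟩ := Finset.one_lt_card_iff.1 (by omega : 1 < X.card)
  set u0 := x0 - y0 with hu0
  have hu0ne : u0 ≠ 0 := sub_ne_zero.2 hxy0
  set Y := (Set.toFinite (orbit H u0)).toFinset with hYdef
  have hYcard : Y.card = X.card := by
    rw [← hsize u0 hu0ne, Set.ncard_eq_toFinset_card _ (Set.toFinite _)]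
  have hdiff : ∀ a ∈ X, ∀ b ∈ X, a ≠ b → a - b ∈ Y := by
    intro a ha b hb hab
    obtain ⟨h, h1, h2⟩ := h2 x0 hx0 y0 hy0 a ha b hb hxy0 hab
    rw [hYdef, Set.Finite.mem_toFinset]
    exact ⟨h, by show h • u0 = _; rw [hu0, smul_sub, h1, h2]⟩
  have hYinv : ∀ h : H, ∀ u ∈ Y, h • u ∈ Y := by
    intro h u hu
    rw [hYdef, Set.Finite.mem_toFinset] at hu ⊢
    obtain ⟨k, rfl⟩ := hu
    exact ⟨h * k, mul_smul h k u0⟩
  have hYne : ∀ u ∈ Y, u ≠ 0 := by
    intro u hu
    rw [hYdef, Set.Finite.mem_toFinset] at hu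
    obtain ⟨k, rfl⟩ := hu
    exact (smul_ne_zero_iff_ne k).2 hu0ne
  set heads : V → Finset V := fun u => X.filter fun x => x - u ∈ X with hheads
  have hconst : ∀ u ∈ Y, (heads u).card = (heads u0).card := by
    intro u hu
    rw [hYdef, Set.Finite.mem_toFinset] at hu
    obtain ⟨k, rfl⟩ := hu
    symm
    refine Finset.card_bij (fun x _ => k • x) (fun x hx => ?_) (fun a _ b _ h => smul_left_cancel k h)
      (fun x hx => ⟨k⁻¹ • x, ?_, smul_inv_smul k x⟩)
    · rw [Finset.mem_filter] at hx ⊢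
      exact ⟨hXinv k x hx.1, by
        show k • x - k • u0 ∈ X
        rw [← smul_sub]; exact hXinv k _ hx.2⟩
    · rw [Finset.mem_filter] at hx ⊢
      refine ⟨hXinv k⁻¹ x hx.1, ?_⟩
      have h3 := hXinv k⁻¹ _ hx.2
      rw [smul_sub] at h3
      simpa using h3
  have hcount : (Y.sigma heads).card = X.offDiag.card := by
    refine Finset.card_bij (fun s _ => (s.2, s.2 - s.1)) (fun s hs => ?_) (fun a _ b _ h => ?_)
      (fun t ht => ?_)
    · rw [Finset.mem_sigma, Finset.mem_filter] at hs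
      rw [Finset.mem_offDiag]
      refine ⟨hs.2.1, hs.2.2, fun h => hYne _ hs.1 ?_⟩
      have : s.2 - s.1 = s.2 := h.symm
      simpa using this
    · obtain ⟨a1, a2⟩ := a
      obtain ⟨b1, b2⟩ := b
      simp only [Prod.mk.injEq] at h
      obtain ⟨h1, h2⟩ := h
      subst h1
      rw [sub_right_inj] at h2
      subst h2
      rfl
    · rw [Finset.mem_offDiag] at ht
      obtain ⟨ha, hb, hab⟩ := ht
      refine ⟨⟨t.1 - t.2, t.1⟩, ?_, by simp⟩
      rw [Finset.mem_sigma, Finset.mem_filter]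
      exact ⟨hdiff _ ha _ hb hab, ha, by simpa using hb⟩
  have hc : (heads u0).card + 1 = X.card := by
    rw [Finset.card_sigma, Finset.sum_congr rfl hconst, Finset.sum_const, smul_eq_mul,
      Finset.offDiag_card, hYcard] at hcount
    have h1 : X.card * ((heads u0).card + 1) = X.card * X.card := by
      have : X.card ≤ X.card * X.card := Nat.le_mul_self _
      rw [mul_add, mul_one, hcount]
      omega
    exact Nat.eq_of_mul_eq_mul_left (by omega) h1
  have huniq : ∀ u ∈ Y, ∃! x, x ∈ X ∧ x - u ∉ X := by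
    intro u hu
    have h1 : (X.filter fun x => ¬ (x - u ∈ X)).card = 1 := by
      have h1 := Finset.card_filter_add_card_filter_not (s := X) (fun x => x - u ∈ X)
      have h3 : (X.filter fun x => x - u ∈ X).card = (heads u0).card := hconst u hu
      omega
    obtain ⟨x, hx⟩ := Finset.card_eq_one.1 h1
    refine ⟨x, Finset.mem_filter.1 (hx ▸ Finset.mem_singleton_self x), fun y hy => ?_⟩
    exact Finset.mem_singleton.1 (hx ▸ Finset.mem_filter.2 hy)
  choose! e he heu using huniq
  have heq : ∀ h : H, ∀ u ∈ Y, e (h • u) = h • e u := by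
    intro h u hu
    refine (heu _ (hYinv h u hu) _ ⟨hXinv h _ (he u hu).1, fun h1 => (he u hu).2 ?_⟩).symm
    rw [← smul_sub] at h1
    have := hXinv h⁻¹ _ h1
    rwa [inv_smul_smul] at this
  have hu0Y : u0 ∈ Y := hdiff _ hx0 _ hy0 hxy0
  have hinj : Set.InjOn e (Y : Set V) := by
    refine Finset.injOn_of_surjOn_of_card_le e (fun u hu => (he u hu).1) ?_ hYcard.le
    intro x hx
    by_cases hxe : x = e u0
    · exact ⟨u0, hu0Y, hxe.symm⟩
    · obtain ⟨h, h1, -⟩ := h2 (e u0) (he u0 hu0Y).1 x hx x hx (e u0) (he u0 hu0Y).1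
        (Ne.symm hxe) hxe
      exact ⟨h • u0, hYinv h _ hu0Y, by rw [heq h u0 hu0Y, h1]⟩
  have hneg : -u0 ∈ Y := by
    rw [hu0, neg_sub]
    exact hdiff _ hy0 _ hx0 (Ne.symm hxy0)
  have hsame : -u0 = u0 := by
    refine hinj hneg hu0Y ?_
    by_contra hne
    obtain ⟨x, hx, hxne⟩ := Finset.exists_mem_notMem_of_card_lt_card
      (s := ({e u0, e (-u0)} : Finset V)) (t := X) (lt_of_le_of_lt Finset.card_le_two (by omega))
    simp only [Finset.mem_insert, Finset.mem_singleton, not_or] at hxne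
    obtain ⟨h, h1, h3⟩ := h2 (e u0) (he u0 hu0Y).1 (e (-u0)) (he _ hneg).1 (e u0)
      (he u0 hu0Y).1 x hx (Ne.symm hne) (Ne.symm hxne.1)
    rw [← heq h u0 hu0Y] at h1
    rw [← heq h _ hneg, smul_neg, hinj (hYinv h _ hu0Y) hu0Y h1] at h3
    exact hxne.2 h3.symm
  have hq2 : q = 2 := by
    by_contra hne
    refine hu0ne (C.nsmul_inj (n := 2)
      ((Nat.coprime_primes Nat.prime_two hq).2 (Ne.symm hne)) ?_)
    rw [two_nsmul]
    nth_rw 1 [← hsame]
    exact neg_add_cancel u0
  subst hq2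
  obtain ⟨h, h1, h3⟩ := h2 x0 hx0 y0 hy0 y0 hy0 x0 hx0 hxy0 (Ne.symm hxy0)
  have hodd : Odd (orderOf h) := by
    rw [← Nat.not_even_iff_odd, even_iff_two_dvd]
    intro hd
    have h4 : 2 ∣ Nat.card H := hd.trans (orderOf_dvd_natCard h)
    have h5 := Nat.eq_one_of_dvd_coprimes C.cop h4 dvd_rfl
    omega
  have hsq : h ^ 2 ∈ stabilizer H x0 := by
    rw [mem_stabilizer_iff, sq, mul_smul, h1, h3]
  obtain ⟨t, ht⟩ := hodd
  have hh : h = (h ^ 2) ^ (t + 1) := by
    rw [← pow_mul, show 2 * (t + 1) = orderOf h + 1 by omega, pow_succ, pow_orderOf_eq_one,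
      one_mul]
  have h6 : h ∈ stabilizer H x0 := by
    rw [hh]
    exact Subgroup.pow_mem _ hsq _
  rw [mem_stabilizer_iff, h1] at h6
  exact hxy0 h6.symm

/-- A Sylow subgroup is not cyclic. -/
theorem cyclic (C : Crit H V p q) (hq : q.Prime) (P : Sylow p H)
    [hPc : IsCyclic (P : Subgroup H)] : False := by
  classical
  obtain ⟨v0, hv0⟩ := C.exists_ne_zero
  obtain ⟨⟨g, hg⟩, hgen⟩ := hPc.exists_generator
  have hmem : ∀ x ∈ (P : Subgroup H), ∃ n : ℕ, g ^ n = x := by
    intro x hx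
    obtain ⟨k, hk⟩ := Subgroup.mem_zpowers_iff.1 (hgen ⟨x, hx⟩)
    have h1 : g ^ k = x := congrArg Subtype.val hk
    obtain ⟨n, hn⟩ := (isOfFinOrder_of_finite g).mem_powers_iff_mem_zpowers.2
      (show x ∈ Subgroup.zpowers g from ⟨k, h1⟩)
    exact ⟨n, hn⟩
  have hcomm : ∀ x ∈ (P : Subgroup H), ∀ y ∈ (P : Subgroup H), x * y = y * x := fun x hx y hy =>
    congrArg Subtype.val (hPc.isMulCommutative.is_comm.comm ⟨x, hx⟩ ⟨y, hy⟩)
  obtain ⟨m, hm⟩ : ∃ m, orderOf g = p ^ m := by
    obtain ⟨j, hj⟩ := P.2 ⟨g, hg⟩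
    obtain ⟨m, -, hm⟩ := (Nat.dvd_prime_pow hp.out).1
      (orderOf_dvd_of_pow_eq_one (congrArg Subtype.val hj : g ^ p ^ j = 1))
    exact ⟨m, hm⟩
  haveI : NeZero (p ^ m) := ⟨pow_ne_zero m hp.out.ne_zero⟩
  set gp : ZMod (p ^ m) → H := fun i => g ^ i.val
  have hgpn : ∀ n : ℕ, gp (n : ZMod (p ^ m)) = g ^ n := fun n => by
    simp only [gp, ZMod.val_natCast]
    rw [← hm, pow_mod_orderOf]
  have hgadd : ∀ i j, gp (i + j) = gp i * gp j := fun i j => by
    conv_lhs => rw [← ZMod.natCast_zmod_val i, ← ZMod.natCast_zmod_val j, ← Nat.cast_add, hgpn,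
      pow_add]
  have hgP : ∀ i, gp i ∈ (P : Subgroup H) := fun i => Subgroup.pow_mem _ hg _
  have hbij : ∀ u : V, u ≠ 0 → Function.Bijective
      (fun i : ZMod (p ^ m) => (⟨gp i • u, gp i, rfl⟩ : orbit H u)) := by
    intro u hu
    constructor
    · intro i j hij
      have h1 : gp i • u = gp j • u := congrArg Subtype.val hij
      by_contra hne
      have hz : (gp (i - j)) • u = u := by
        have h2 : gp (i - j) * gp j = gp i := by rw [← hgadd, sub_add_cancel]
        have h3 : gp (i - j) * gp j = gp j * gp (i - j) :=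
          hcomm _ (hgP _) _ (hgP _)
        rw [← smul_left_cancel_iff (gp j), ← mul_smul, ← h3, h2, h1]
      refine hu (C.fixed_zero P ?_ (fun y hy => hcomm y hy _ (hgP _)) hz)
      intro h
      apply hne
      rw [← sub_eq_zero, ← ZMod.val_eq_zero]
      have hdd : orderOf g ∣ (i - j).val := orderOf_dvd_of_pow_eq_one (show g ^ (i - j).val = 1 from h)
      rw [hm] at hdd
      exact Nat.eq_zero_of_dvd_of_lt hdd (ZMod.val_lt _)
    · rintro ⟨_, h, rfl⟩
      obtain ⟨x, hx, hxu⟩ := orbit_eq C.orb P h u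
      obtain ⟨n, rfl⟩ := hmem x hx
      exact ⟨n, Subtype.ext (by show gp n • u = h • u; rw [hgpn, hxu])⟩
  have hsize : ∀ u : V, u ≠ 0 → (orbit H u).ncard = p ^ m := fun u hu => by
    rw [← Nat.card_coe_set_eq, ← Nat.card_eq_of_bijective _ (hbij u hu), Nat.card_zmod]
  let e := Equiv.ofBijective _ (hbij v0 hv0)
  let φ : H →* Equiv.Perm (ZMod (p ^ m)) :=
    (Equiv.permCongrHom e.symm).toMonoidHom.comp (MulAction.toPermHom H (orbit H v0))
  have hφ : ∀ h i, (e (φ h i) : V) = h • (e i : V) := fun h i => by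
    show (e (e.symm (h • e.symm.symm i)) : V) = _
    rw [Equiv.apply_symm_apply]
    rfl
  have hT : ∀ c, Equiv.addRight c ∈ φ.range := fun c => ⟨gp c, Equiv.ext fun i => by
    refine e.injective (Subtype.ext ?_)
    rw [hφ]
    show gp c • gp i • v0 = gp (i + c) • v0
    rw [← mul_smul, ← hgadd, add_comm]⟩
  have hinj : Function.Injective φ := by
    rw [injective_iff_map_eq_one]
    intro h hh
    refine C.faith h fun v => ?_
    have hspan : (AddSubgroup.closure (orbit H v0)) = ⊤ := by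
      refine (C.irr _ fun k w hw => ?_).resolve_left fun hb => hv0 ?_
      · induction hw using AddSubgroup.closure_induction with
        | mem x hx =>
          exact AddSubgroup.subset_closure ((smul_orbit k v0).le (Set.smul_mem_smul_set hx))
        | zero => rw [smul_zero]; exact AddSubgroup.zero_mem _
        | add x y _ _ hx hy => rw [smul_add]; exact AddSubgroup.add_mem _ hx hy
        | neg x _ hx => rw [smul_neg]; exact AddSubgroup.neg_mem _ hx
      · rw [← AddSubgroup.mem_bot, ← hb]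
        exact AddSubgroup.subset_closure (mem_orbit_self v0)
    have hle : AddSubgroup.closure (orbit H v0) ≤ fixSub h := by
      rw [AddSubgroup.closure_le]
      intro w hw
      obtain ⟨i, hi⟩ := (hbij v0 hv0).2 ⟨w, hw⟩
      have h1 := hφ h i
      rw [hh, Equiv.Perm.one_apply] at h1
      rw [show w = (e i : V) from (congrArg Subtype.val hi).symm, SetLike.mem_coe, mem_fixSub]
      exact h1.symm
    exact mem_fixSub.1 (hle (hspan ▸ AddSubgroup.mem_top v))
  have hsolcontra : Group.IsSolvable φ.range → False := fun hs => by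
    obtain ⟨h, hh⟩ := C.ne
    refine hh (hinj ?_)
    rw [map_one]
    exact congrArg Subtype.val (hom_trivial (K := φ.range) C.perf φ.rangeRestrict h)
  let X : Finset V := (Set.toFinite (orbit H v0)).toFinset
  have hXcard : X.card = p ^ m := by
    rw [← hsize v0 hv0, Set.ncard_eq_toFinset_card _ (Set.toFinite _)]
  have h2trans : 3 ≤ p ^ m → (∀ a b c d : ZMod (p ^ m), a ≠ b → c ≠ d →
      ∃ σ ∈ φ.range, σ a = c ∧ σ b = d) → False := by
    intro h3 h2
    refine no_two_transitive C hq X (hXcard ▸ h3) (fun h x hx => ?_)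
      (fun u hu => by rw [hsize u hu, hXcard]) ?_
    · rw [Set.Finite.mem_toFinset] at hx ⊢
      exact (smul_orbit h v0).le (Set.smul_mem_smul_set hx)
    · intro a ha b hb c hc d hd hab hcd
      rw [Set.Finite.mem_toFinset] at ha hb hc hd
      obtain ⟨ia, rfl⟩ : ∃ i, (e i : V) = a := ⟨e.symm ⟨a, ha⟩, by simp⟩
      obtain ⟨ib, rfl⟩ : ∃ i, (e i : V) = b := ⟨e.symm ⟨b, hb⟩, by simp⟩
      obtain ⟨ic, rfl⟩ : ∃ i, (e i : V) = c := ⟨e.symm ⟨c, hc⟩, by simp⟩
      obtain ⟨id', rfl⟩ : ∃ i, (e i : V) = d := ⟨e.symm ⟨d, hd⟩, by simp⟩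
      obtain ⟨σ, ⟨h, rfl⟩, h1, h4⟩ := h2 ia ib ic id' (fun e1 => hab (by rw [e1]))
        (fun e1 => hcd (by rw [e1]))
      exact ⟨h, by rw [← hφ, h1], by rw [← hφ, h4]⟩
  rcases lt_trichotomy m 1 with hm0 | hm1 | hm2
  · -- trivial Sylow subgroup
    obtain rfl : m = 0 := by omega
    refine hsolcontra (Group.isSolvable_of_comm fun a b => Subtype.ext ?_)
    haveI : Subsingleton (ZMod (p ^ 0)) := by rw [pow_zero]; infer_instance
    exact Subsingleton.elim _ _
  · subst hm1
    haveI : IsPretransitive φ.range (ZMod (p ^ 1)) := ⟨fun x y =>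
      ⟨⟨Equiv.addRight (y - x), hT _⟩, by show x + (y - x) = y; abel⟩⟩
    by_cases h3 : 3 ≤ p ^ 1
    · rcases PermPrimeDegree.solvable_or_twoTransitive
        (by rw [Nat.card_zmod, pow_one]; exact hp.out) φ.range with h | h
      · exact hsolcontra h
      · refine h2trans h3 fun a b c d hab hcd => ?_
        obtain ⟨σ, h1, h4⟩ := (MulAction.is_two_pretransitive_iff.1 h) hab hcd
        exact ⟨σ, σ.2, h1, h4⟩
    · haveI : Fact (Nat.Prime 2) := ⟨Nat.prime_two⟩
      have hp2 : p = 2 := by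
        have := hp.out.two_le
        rw [pow_one] at h3
        omega
      haveI : IsCyclic (Equiv.Perm (ZMod (p ^ 1))) := isCyclic_of_prime_card (p := 2) (by
        rw [Nat.card_perm, Nat.card_zmod, hp2]; rfl)
      haveI : Group.IsSolvable (Equiv.Perm (ZMod (p ^ 1))) :=
        Group.isSolvable_of_comm (IsCyclic.isMulCommutative (α := Equiv.Perm (ZMod (p ^ 1)))).is_comm.comm
      exact hsolcontra inferInstance
  · have h3 : 3 ≤ p ^ m :=
      le_trans (by nlinarith [hp.out.two_le]) (Nat.pow_le_pow_right hp.out.pos (show 2 ≤ m by omega))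
    by_cases h2 : ∀ x y : ZMod (p ^ m), x ≠ 0 → y ≠ 0 → CyclicBGroup72.Rel φ.range x y
    · refine h2trans h3 fun a b c d hab hcd => ?_
      obtain ⟨σ, hσ, h0, h1⟩ := h2 (b - a) (d - c) (sub_ne_zero.2 (Ne.symm hab))
        (sub_ne_zero.2 (Ne.symm hcd))
      refine ⟨Equiv.addRight c * σ * Equiv.addRight (-a),
        mul_mem (mul_mem (hT _) hσ) (hT _), ?_, ?_⟩
      · simp [h0]
      · simp [← sub_eq_add_neg, h1]
    obtain ⟨D, hDb, hDt, hD⟩ := CyclicBGroup72.exists_invariant_subgroup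
      (G := φ.range) (show 2 ≤ m by omega) hT h2
    have key : ∀ (h : H) i, ∀ d ∈ D, φ h (i + d) - φ h i ∈ D := fun h i d hd =>
      hD d _ (CyclicBGroup72.rel_shift hT (⟨h, rfl⟩ : φ h ∈ φ.range) i d) hd
    let M : Subgroup H :=
      { carrier := {h | ∀ i, φ h i - i ∈ D}
        one_mem' := fun i => by rw [map_one, Equiv.Perm.one_apply, sub_self]; exact D.zero_mem
        mul_mem' := fun {a b} ha hb i => by
          rw [map_mul, Equiv.Perm.mul_apply, ← sub_add_sub_cancel _ (φ b i) i]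
          exact D.add_mem (ha _) (hb i)
        inv_mem' := fun {a} ha i => by
          have := D.neg_mem (ha (φ a⁻¹ i))
          rwa [neg_sub, ← Equiv.Perm.mul_apply, ← map_mul, mul_inv_cancel, map_one,
            Equiv.Perm.one_apply] at this }
    haveI : M.Normal := ⟨fun h hh k i => by
      have e1 : i = φ k (φ k⁻¹ i) := by
        rw [← Equiv.Perm.mul_apply, ← map_mul, mul_inv_cancel, map_one, Equiv.Perm.one_apply]
      rw [map_mul, map_mul, Equiv.Perm.mul_apply, Equiv.Perm.mul_apply]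
      nth_rw 2 [e1]
      have h1 := key k (φ k⁻¹ i) _ (hh (φ k⁻¹ i))
      rwa [add_sub_cancel] at h1⟩
    have hMt : M ≠ ⊤ := fun h => hDt (by
      rw [eq_top_iff]
      intro c _
      obtain ⟨k, hk⟩ := hT c
      have h1 : φ k 0 - 0 ∈ D := (h ▸ Subgroup.mem_top k : k ∈ M) 0
      rw [hk, sub_zero] at h1
      simpa using h1)
    have hMb : M ≠ ⊥ := fun h => by
      obtain ⟨d, hd, hdne⟩ : ∃ d ∈ D, d ≠ 0 := by
        by_contra hall
        push Not at hall
        exact hDb ((AddSubgroup.eq_bot_iff_forall D).2 hall)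
      obtain ⟨k, hk⟩ := hT d
      have hkM : k ∈ M := fun i => by rw [hk]; simpa using hd
      rw [h, Subgroup.mem_bot] at hkM
      rw [hkM, map_one] at hk
      exact hdne (by simpa using (congrArg (fun σ => σ 0) hk).symm)
    haveI := C.normal M inferInstance hMt
    exact no_solvable_normal C P M hMb

end Cfsg.Agent.H74OrbitCyclic
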