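import Mathlib
import Cfsg.Agent.Lib.H74OrbitBlocks

/-!
Coprime actions in which every orbit has prime-power size: exclusion of Sylow `2`-subgroups with a
cyclic subgroup of index `2` inverted, up to sign, from outside.
-/

set_option autoImplicit false

namespace Cfsg.Agent.H74OrbitTwo

open MulAction Cfsg.Agent.H74OrbitBasic Cfsg.Agent.H74OrbitBlocks

universe u

variable {H V : Type u} [Group H] [Finite H] [AddCommGroup V] [Finite V] [DistribMulAction H V]
  {q : ℕ}

/-- The space cannot have order at most `q ^ 2`. -/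
theorem small (C : Crit H V 2 q) (hq : q.Prime) (hcard : Nat.card V ≤ q ^ 2) : False := by
  classical
  haveI : Fact q.Prime := ⟨hq⟩
  have : Module (ZMod q) V := AddCommGroup.zmodModule C.exp
  let lin : H → (V →ₗ[ZMod q] V) := fun h =>
    ({ toFun := fun v => h • v, map_zero' := smul_zero h, map_add' := smul_add h } : V →+ V
      ).toZModLinearMap q
  let L : H →* (V →ₗ[ZMod q] V) :=
    { toFun := lin
      map_one' := LinearMap.ext fun v => by show (1 : H) • v = v; exact one_smul H v
      map_mul' := fun a b => LinearMap.ext fun v => by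
        show (a * b) • v = a • b • v
        exact mul_smul a b v }
  have hL : ∀ h v, L h v = h • v := fun h v => rfl
  let D : H →* (ZMod q)ˣ := MonoidHom.toHomUnits (LinearMap.det.comp L)
  have hdet : ∀ h, LinearMap.det (L h) = 1 := fun h =>
    congrArg Units.val (hom_trivial C.perf D h)
  obtain ⟨v0, hv0⟩ := C.exists_ne_zero
  have hrank : Module.finrank (ZMod q) V ≤ 2 := by
    have h1 : Nat.card V = q ^ Module.finrank (ZMod q) V := by
      rw [Module.natCard_eq_pow_finrank (K := ZMod q), Nat.card_zmod]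
    exact (Nat.pow_le_pow_iff_right hq.one_lt).1 (h1 ▸ hcard)
  have hstab : ∀ h : H, h • v0 = v0 → h = 1 := by
    intro h hh
    by_cases hsp : ∀ w : V, ∃ a : ZMod q, a • v0 = w
    · refine C.faith h fun w => ?_
      obtain ⟨a, rfl⟩ := hsp w
      rw [← hL, map_smul, hL, hh]
    push Not at hsp
    obtain ⟨w, hw⟩ := hsp
    have hli : LinearIndependent (ZMod q) ![v0, w] := (LinearIndependent.pair_iff' hv0).2 hw
    have hr2 : Module.finrank (ZMod q) V = 2 :=
      le_antisymm hrank (by simpa using hli.fintype_card_le_finrank)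
    let b := basisOfLinearIndependentOfCardEqFinrank hli (by simp [hr2])
    have hb : ⇑b = ![v0, w] := coe_basisOfLinearIndependentOfCardEqFinrank _ _
    set a := b.repr (h • w) 0
    set s := b.repr (h • w) 1
    have hw' : h • w = a • v0 + s • w := by
      conv_lhs => rw [← b.sum_repr (h • w)]
      rw [Fin.sum_univ_two, hb]
      rfl
    have hs : s = 1 := by
      rw [← hdet h, ← LinearMap.det_toMatrix b, Matrix.det_fin_two]
      have e0 : L h (b 0) = b 0 := by rw [hb]; exact hh
      have e1 : L h (b 1) = h • w := by rw [hb]; rfl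
      simp only [LinearMap.toMatrix_apply, e0, e1, b.repr_self]
      simp [s]
    rw [hs, one_smul] at hw'
    have hpow : ∀ n : ℕ, (h ^ n) • w = n • (a • v0) + w := by
      intro n
      induction n with
      | zero => simp
      | succ n ih =>
        rw [pow_succ', mul_smul, ih, smul_add, hw', ← hL, map_nsmul, map_smul, hL, hh, succ_nsmul]
        abel
    have hhq : h ^ q = 1 := by
      refine C.faith _ fun x => ?_
      have h0 : (h ^ q) • v0 = v0 := by
        have : h ^ q ∈ stabilizer H v0 := Subgroup.pow_mem _ (mem_stabilizer_iff.2 hh) q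
        exact this
      have h1 : (h ^ q) • w = w := by rw [hpow, C.exp, zero_add]
      rw [← b.sum_repr x, Fin.sum_univ_two, hb, ← hL, map_add, map_smul, map_smul, hL, hL]
      simp only [Matrix.cons_val_zero, Matrix.cons_val_one, h0, h1]
    have h2 := pow_gcd_eq_one.mpr ⟨pow_card_eq_one' (x := h), hhq⟩
    rwa [C.cop.gcd_eq_one, pow_one] at h2
  obtain ⟨a, ha⟩ := C.orb v0
  have hbot : stabilizer H v0 = ⊥ := (Subgroup.eq_bot_iff_forall _).2 hstab
  rw [hbot, Subgroup.index_bot] at ha
  haveI : Fact (Nat.Prime 2) := ⟨Nat.prime_two⟩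
  haveI := (IsPGroup.of_card ha).isNilpotent
  obtain ⟨g, hg⟩ := C.ne
  exact hg (hom_trivial C.perf (MonoidHom.id H) g)

theorem special (C : Crit H V 2 q) (hq : q.Prime) (P : Sylow 2 H) (c t : H)
    (hc : c ∈ (P : Subgroup H)) (ht : t ∈ (P : Subgroup H)) (m r : ℕ) (hm : 2 ≤ m)
    (hco : orderOf c = 2 ^ m) (hPcard : Nat.card (P : Subgroup H) = 2 ^ (m + 1))
    (htc : t ∉ Subgroup.zpowers c) (hrel : t * c * t⁻¹ = c ^ r) (hr4 : r % 4 = 3)
    (hrr : c ^ (r * r) = c) : False := by
  classical
  haveI : Fact (Nat.Prime 2) := ⟨Nat.prime_two⟩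
  haveI : Fact q.Prime := ⟨hq⟩
  have h2H : 2 ∣ Nat.card H :=
    dvd_trans (hco ▸ dvd_pow_self 2 (by omega)) (orderOf_dvd_natCard c)
  have hq2 : q ≠ 2 := fun h => by
    have := Nat.eq_one_of_dvd_coprimes C.cop h2H (h ▸ dvd_rfl)
    omega
  -- the shape of P
  have hdec : ∀ x ∈ (P : Subgroup H), ∃ n : ℕ, x = c ^ n ∨ x = t * c ^ n := by
    set Z := (Subgroup.zpowers c).subgroupOf (P : Subgroup H)
    have hidx : Z.index = 2 := by
      have h1 := Subgroup.card_mul_index Z
      rw [Nat.card_congr (Subgroup.subgroupOfEquivOfLe (Subgroup.zpowers_le.2 hc)).toEquiv,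
        Nat.card_zpowers, hco, hPcard, pow_succ] at h1
      exact Nat.eq_of_mul_eq_mul_left (pow_pos (by omega) m) h1
    intro x hx
    by_cases hxc : x ∈ Subgroup.zpowers c
    · obtain ⟨n, hn⟩ := (isOfFinOrder_of_finite c).mem_powers_iff_mem_zpowers.2 hxc
      exact ⟨n, Or.inl hn.symm⟩
    · have h1 : (⟨t, ht⟩⁻¹ * ⟨x, hx⟩ : (P : Subgroup H)) ∈ Z := by
        rw [Subgroup.mul_mem_iff_of_index_two hidx, Subgroup.inv_mem_iff]
        simp only [Z, Subgroup.mem_subgroupOf]
        exact iff_of_false htc hxc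
      obtain ⟨n, hn⟩ := (isOfFinOrder_of_finite c).mem_powers_iff_mem_zpowers.2
        (Subgroup.mem_subgroupOf.1 h1)
      refine ⟨n, Or.inr ?_⟩
      rw [show c ^ n = t⁻¹ * x from hn, mul_inv_cancel_left]
  have htt : ∃ n : ℕ, t * t = c ^ n := by
    obtain ⟨n, h | h⟩ := hdec (t * t) (mul_mem ht ht)
    · exact ⟨n, h⟩
    · exact absurd (by rw [mul_left_cancel h]; exact Subgroup.pow_mem _ (Subgroup.mem_zpowers c) _) htc
  have hct : c * t = t * c ^ r := by
    have h1 : t * c = c ^ r * t := mul_inv_eq_iff_eq_mul.1 hrel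
    have h2 : ∀ n : ℕ, t * c ^ n = (c ^ r) ^ n * t := by
      intro n
      induction n with
      | zero => simp
      | succ n ih => rw [pow_succ, ← mul_assoc, ih, mul_assoc, h1, ← mul_assoc, ← pow_succ]
    rw [h2 r, ← pow_mul, hrr]
  by_cases hred : ∃ A : AddSubgroup V, A ≠ ⊥ ∧ A ≠ ⊤ ∧ ∀ a ∈ A, c • a ∈ A
  · obtain ⟨A, hAb, hAt, hAc⟩ := hred
    have hAp : ∀ (n : ℕ), ∀ a ∈ A, (c ^ n) • a ∈ A := by
      intro n
      induction n with
      | zero => intro a ha; simpa using ha
      | succ n ih => intro a ha; rw [pow_succ', mul_smul]; exact hAc _ (ih a ha)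
    let InB : V → Prop := fun v => ∃ a ∈ A, t • a = v
    have hct' : ∀ (n : ℕ) (a : V), a ∈ A → InB ((c ^ n) • t • a) := by
      intro n
      induction n with
      | zero => intro a ha; exact ⟨a, ha, by rw [pow_zero, one_smul]⟩
      | succ n ih =>
        intro a ha
        rw [pow_succ, mul_smul, ← mul_smul c t, hct, mul_smul]
        exact ih _ (hAp r a ha)
    obtain ⟨n2, hn2⟩ := htt
    have hBt : ∀ v, InB v → t • v ∈ A := by
      rintro v ⟨a, ha, rfl⟩
      rw [← mul_smul, hn2]
      exact hAp _ a ha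
    have hBp : ∀ (n : ℕ) v, InB v → InB ((c ^ n) • v) := by
      rintro n v ⟨a, ha, rfl⟩
      exact hct' n a ha
    -- A and t A meet trivially
    have hAB : ∀ v ∈ A, InB v → v = 0 := by
      let I : AddSubgroup V := A ⊓ A.map (DistribSMul.toAddMonoidHom V t)
      have hI : ∀ v, v ∈ I ↔ v ∈ A ∧ InB v := fun v => by
        simp [I, InB, AddSubgroup.mem_map]
      have hI0 : I = ⊥ := by
        refine (C.irrP P I fun x hx v hv => ?_).resolve_right fun h => hAt ?_
        · obtain ⟨hvA, hvB⟩ := (hI v).1 hv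
          obtain ⟨n, rfl | rfl⟩ := hdec x hx
          · exact (hI _).2 ⟨hAp n v hvA, hBp n v hvB⟩
          · rw [mul_smul]
            exact (hI _).2 ⟨hBt _ (hBp n v hvB), ⟨_, hAp n v hvA, rfl⟩⟩
        · exact top_le_iff.1 (h ▸ inf_le_left)
      intro v hv hvB
      have h1 : v ∈ I := (hI v).2 ⟨hv, hvB⟩
      rwa [hI0, AddSubgroup.mem_bot] at h1
    have hU : ∀ (h : H), ∀ a ∈ A, h • a ∈ A ∨ InB (h • a) := by
      intro h a ha
      obtain ⟨x, hx, hxv⟩ := orbit_eq C.orb P h a
      obtain ⟨n, rfl | rfl⟩ := hdec x hx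
      · exact Or.inl (hxv ▸ hAp n a ha)
      · exact Or.inr ⟨(c ^ n) • a, hAp n a ha, by rw [← mul_smul, hxv]⟩
    have hBadd : ∀ v w, InB v → InB w → InB (v + w) := by
      rintro v w ⟨a, ha, rfl⟩ ⟨b, hb, rfl⟩
      exact ⟨a + b, A.add_mem ha hb, smul_add _ _ _⟩
    have hBneg : ∀ v, InB v → InB (-v) := by
      rintro v ⟨a, ha, rfl⟩
      exact ⟨-a, A.neg_mem ha, smul_neg _ _⟩
    have hdich : ∀ h : H, (∀ a ∈ A, h • a ∈ A) ∨ (∀ a ∈ A, InB (h • a)) := by
      intro h
      by_contra hne
      push Not at hne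
      obtain ⟨⟨a, ha, ha'⟩, b, hb, hb'⟩ := hne
      have haB := (hU h a ha).resolve_left ha'
      have hbA := (hU h b hb).resolve_right hb'
      rcases hU h (a + b) (A.add_mem ha hb) with h1 | h1 <;> rw [smul_add] at h1
      · exact ha' (by simpa using A.sub_mem h1 hbA)
      · exact hb' (by simpa [add_assoc] using hBadd _ _ (hBneg _ haB) h1)
    let S : Subgroup H :=
      { carrier := {h | (∀ a ∈ A, h • a ∈ A) ∧ ∀ a ∈ A, h⁻¹ • a ∈ A}
        one_mem' := by simp
        mul_mem' := fun {x y} hx hy => ⟨fun a ha => by rw [mul_smul]; exact hx.1 _ (hy.1 a ha),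
          fun a ha => by rw [mul_inv_rev, mul_smul]; exact hy.2 _ (hx.2 a ha)⟩
        inv_mem' := fun {x} hx => ⟨hx.2, fun a ha => by rw [inv_inv]; exact hx.1 a ha⟩ }
    have himg : ∀ h : H, (∀ a ∈ A, h • a ∈ A) → h ∈ S := by
      intro h hh
      refine ⟨hh, fun a ha => ?_⟩
      have hsurj : Function.Surjective (fun x : A => (⟨h • (x : V), hh _ x.2⟩ : A)) :=
        Finite.injective_iff_surjective.1 fun x y e =>
          Subtype.ext (smul_left_cancel h (congrArg Subtype.val e))
      obtain ⟨b, hb⟩ := hsurj ⟨a, ha⟩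
      have h1 : h • (b : V) = a := congrArg Subtype.val hb
      rw [← h1, inv_smul_smul]
      exact b.2
    have hboth : ∀ h k : H, h ∉ S → k ∉ S → k⁻¹ * h ∈ S := by
      intro h k hh hk
      have h1 := (hdich h).resolve_left (fun e => hh (himg h e))
      have h2 := (hdich k).resolve_left (fun e => hk (himg k e))
      refine himg _ fun a ha => ?_
      -- k maps A onto t A
      have hsurj : Function.Surjective
          (fun x : A => (⟨t⁻¹ • k • (x : V), by
            obtain ⟨b, hb, hb'⟩ := h2 _ x.2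
            rw [← hb', inv_smul_smul]; exact hb⟩ : A)) :=
        Finite.injective_iff_surjective.1 fun x y e =>
          Subtype.ext (smul_left_cancel k (smul_left_cancel t⁻¹ (congrArg Subtype.val e)))
      obtain ⟨b, hb, hb'⟩ := h1 a ha
      obtain ⟨x, hx⟩ := hsurj ⟨b, hb⟩
      have h3 : t⁻¹ • k • (x : V) = b := congrArg Subtype.val hx
      rw [mul_smul, ← hb', ← h3, smul_inv_smul, inv_smul_smul]
      exact x.2
    let f : H →* Multiplicative (ZMod 2) := MonoidHom.mk'
      (fun h => Multiplicative.ofAdd (if h ∈ S then (0 : ZMod 2) else 1)) (fun h k => by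
        rw [← ofAdd_add]
        congr 1
        by_cases hh : h ∈ S <;> by_cases hk : k ∈ S
        · simp [hh, hk, S.mul_mem hh hk]
        · simp [hh, hk, S.mul_mem_cancel_left hh]
        · simp [hh, hk, S.mul_mem_cancel_right hk]
        · have h1 : h * k ∈ S := by
            have h2 := hboth k h⁻¹ hk (fun e => hh (inv_inv h ▸ S.inv_mem e))
            rwa [inv_inv] at h2
          rw [if_pos h1, if_neg hh, if_neg hk]
          rfl)
    have hS : ∀ h, h ∈ S := fun h => by
      by_contra hh
      have := hom_trivial C.perf f h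
      simp [f, hh] at this
    rcases C.irr A (fun h a ha => (hS h).1 a ha) with h | h
    · exact hAb h
    · exact hAt h
  · push Not at hred
    have hirr : ∀ W : AddSubgroup V, (∀ a ∈ W, c • a ∈ W) → W = ⊥ ∨ W = ⊤ := by
      intro W hW
      by_contra hne
      push Not at hne
      obtain ⟨a, ha, ha'⟩ := hred W hne.1 hne.2
      exact ha' (hW a ha)
    set ρ := DistribMulAction.toAddMonoidEnd H V
    have hρ : ∀ h v, ρ h v = h • v := fun h v => rfl
    have hρinj : Function.Injective ρ := fun a b e => by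
      refine inv_mul_eq_one.1 (C.faith _ fun v => ?_)
      rw [mul_smul, show b • v = a • v by rw [← hρ, ← hρ, e], inv_smul_smul]
    set K : Subring (AddMonoid.End V) := Subring.closure {ρ c}
    have hcK : ρ c ∈ K := Subring.subset_closure rfl
    have hcomm0 : ∀ x ∈ K, x * ρ c = ρ c * x := by
      have : K ≤ Subring.centralizer {ρ c} := Subring.closure_le.2 (by
        rintro x rfl
        exact Subring.mem_centralizer_iff.2 (by simp))
      intro x hx
      exact ((Subring.mem_centralizer_iff.1 (this hx)) (ρ c) rfl).symm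
    have hcomm : ∀ x ∈ K, ∀ y ∈ K, x * y = y * x := by
      intro x hx y hy
      have : K ≤ Subring.centralizer {x} := Subring.closure_le.2 (by
        rintro z rfl
        exact Subring.mem_centralizer_iff.2 (by rintro w rfl; exact hcomm0 _ hx))
      exact (Subring.mem_centralizer_iff.1 (this hy)) x rfl
    letI : CommRing K :=
      { (inferInstance : Ring K) with mul_comm := fun x y => Subtype.ext (hcomm _ x.2 _ y.2) }
    haveI : Finite (AddMonoid.End V) := Finite.of_injective _ DFunLike.coe_injective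
    have hinjx : ∀ x ∈ K, x ≠ 0 → ∀ v, x v = 0 → v = 0 := by
      intro x hx hx0 v hv
      rcases hirr (AddMonoidHom.ker (x : V →+ V)) (fun a ha => by
        have ha' : x a = 0 := ha
        show (x * ρ c) a = 0
        rw [hcomm0 x hx]
        show ρ c (x a) = 0
        rw [ha', map_zero]) with h | h
      · rw [← AddSubgroup.mem_bot, ← h]
        exact hv
      · exact absurd (AddMonoidHom.ext fun a =>
          (AddMonoidHom.mem_ker.1 (h ▸ AddSubgroup.mem_top a) : (x : V →+ V) a = 0)) hx0
    obtain ⟨v0, hv0⟩ := C.exists_ne_zero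
    haveI : Nontrivial K := ⟨⟨0, 1, fun e => hv0 (by
      have h1 := congrArg (fun z : K => (z : AddMonoid.End V) v0) e
      exact h1.symm)⟩⟩
    haveI : NoZeroDivisors K := ⟨fun {x y} hxy => by
      by_contra hne
      push Not at hne
      apply hne.2
      refine Subtype.ext (AddMonoidHom.ext fun v => ?_)
      exact hinjx x x.2 (fun e => hne.1 (Subtype.ext e)) _
        (congrArg (fun z : K => (z : AddMonoid.End V) v) hxy)⟩
    haveI : IsDomain K := NoZeroDivisors.to_isDomain K
    letI : Field K := (Finite.isField_of_domain K).toField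
    have hq0 : (q : K) = 0 := by
      refine Subtype.ext (AddMonoidHom.ext fun v => ?_)
      show ((q : K) : AddMonoid.End V) v = 0
      exact (C.exp v : _)
    haveI : CharP K q := by
      have := ringChar.charP K
      rwa [CharP.ringChar_of_prime_eq_zero hq hq0] at this
    -- V is a one-dimensional K-space
    have hcardV : Nat.card V = Nat.card K := by
      let ev : K →+ V :=
        { toFun := fun z => (z : AddMonoid.End V) v0
          map_zero' := rfl
          map_add' := fun a b => rfl }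
      have hinj : Function.Injective ev := by
        rw [injective_iff_map_eq_zero]
        intro z hz
        by_contra hz0
        exact hv0 (hinjx z z.2 (fun e => hz0 (Subtype.ext e)) v0 hz)
      refine (Nat.card_eq_of_bijective ev ⟨hinj, AddMonoidHom.range_eq_top.1 ?_⟩).symm
      refine (hirr _ ?_).resolve_left fun h => hv0 ?_
      · rintro _ ⟨z, rfl⟩
        exact ⟨⟨ρ c, hcK⟩ * z, rfl⟩
      · rw [← AddSubgroup.mem_bot, ← h]
        exact ⟨1, rfl⟩
    -- conjugation by t
    have hconj : ∀ z ∈ K, ρ t * z * ρ t⁻¹ ∈ K := by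
      intro z hz
      induction hz using Subring.closure_induction with
      | mem x hx =>
        rw [Set.mem_singleton_iff] at hx
        subst hx
        rw [← map_mul, ← map_mul, hrel, map_pow]
        exact pow_mem hcK r
      | zero => rw [mul_zero, zero_mul]; exact zero_mem _
      | one => rw [mul_one, ← map_mul, mul_inv_cancel, map_one]; exact one_mem _
      | add x y _ _ hx hy => rw [mul_add, add_mul]; exact add_mem hx hy
      | neg x _ hx => rw [mul_neg, neg_mul]; exact neg_mem hx
      | mul x y _ _ hx hy =>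
        rw [show ρ t * (x * y) * ρ t⁻¹ = (ρ t * x * ρ t⁻¹) * (ρ t * y * ρ t⁻¹) by
          simp only [mul_assoc]
          rw [← mul_assoc (ρ t⁻¹) (ρ t), ← map_mul, inv_mul_cancel, map_one, one_mul]]
        exact mul_mem hx hy
    have hti : ρ t * ρ t⁻¹ = 1 := by rw [← map_mul, mul_inv_cancel, map_one]
    have hit : ρ t⁻¹ * ρ t = 1 := by rw [← map_mul, inv_mul_cancel, map_one]
    let τ : K →+* K :=
      { toFun := fun z => ⟨ρ t * z * ρ t⁻¹, hconj _ z.2⟩
        map_one' := Subtype.ext (by
          show ρ t * 1 * ρ t⁻¹ = 1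
          rw [mul_one, hti])
        map_mul' := fun a b => Subtype.ext (by
          show ρ t * ((a : AddMonoid.End V) * b) * ρ t⁻¹ =
            (ρ t * a * ρ t⁻¹) * (ρ t * b * ρ t⁻¹)
          simp only [mul_assoc]
          rw [← mul_assoc (ρ t⁻¹) (ρ t), hit, one_mul])
        map_zero' := Subtype.ext (by
          show ρ t * 0 * ρ t⁻¹ = 0
          rw [mul_zero, zero_mul])
        map_add' := fun a b => Subtype.ext (by
          show ρ t * ((a : AddMonoid.End V) + b) * ρ t⁻¹ = ρ t * a * ρ t⁻¹ + ρ t * b * ρ t⁻¹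
          rw [mul_add, add_mul]) }
    set cK : K := ⟨ρ c, hcK⟩
    have hτc : τ cK = cK ^ r := Subtype.ext (by
      show ρ t * ρ c * ρ t⁻¹ = (ρ c) ^ r
      rw [← map_mul, ← map_mul, hrel, map_pow])
    letI : Algebra (ZMod q) K := ZMod.algebra K q
    let τa : K →ₐ[ZMod q] K :=
      { τ with
        commutes' := fun x =>
          RingHom.congr_fun (RingHom.ext_zmod (τ.comp (algebraMap (ZMod q) K)) (algebraMap (ZMod q) K)) x }
    obtain ⟨j, hj⟩ := (FiniteField.bijective_frobeniusAlgHom_pow (ZMod q) K).2 τa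
    have hcj : cK ^ (q ^ (j : ℕ)) = cK ^ r := by
      rw [← hτc]
      have h1 := DFunLike.congr_fun hj cK
      simp only [AlgHom.coe_pow, FiniteField.coe_frobeniusAlgHom, pow_iterate, ZMod.card] at h1
      exact h1
    have hmod : ∀ a b : ℕ, cK ^ a = cK ^ b → a ≡ b [MOD 2 ^ m] := fun a b e => by
      rw [← hco, ← pow_eq_pow_iff_modEq]
      apply hρinj
      rw [map_pow, map_pow]
      exact congrArg Subtype.val e
    have hmod' : ∀ a b : ℕ, a ≡ b [MOD 2 ^ m] → cK ^ a = cK ^ b := fun a b e => by
      refine Subtype.ext ?_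
      show (ρ c) ^ a = (ρ c) ^ b
      rw [← map_pow, ← map_pow, pow_eq_pow_iff_modEq.2 (hco ▸ e)]
    have hjodd : Odd (j : ℕ) := by
      have h1 := (hmod _ _ hcj).of_dvd (show 4 ∣ 2 ^ m from
        (pow_dvd_pow 2 hm : 2 ^ 2 ∣ 2 ^ m))
      rw [Nat.ModEq, hr4] at h1
      rw [← Nat.not_even_iff_odd]
      rintro ⟨i, hi⟩
      rw [hi, ← two_mul, pow_mul, Nat.pow_mod] at h1
      have h2 : q % 4 = 1 ∨ q % 4 = 3 := by
        have := hq.eq_two_or_odd
        omega
      have h3 : q ^ 2 % 4 = 1 := by
        rw [Nat.pow_mod]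
        rcases h2 with h2 | h2 <;> rw [h2]
      rw [h3, one_pow] at h1
      norm_num at h1
    have hper1 : cK ^ (q ^ (2 * (j : ℕ))) = cK := by
      rw [two_mul, pow_add, pow_mul, hcj, ← pow_mul, mul_comm, pow_mul, hcj, ← pow_mul]
      refine Subtype.ext ?_
      show (ρ c) ^ (r * r) = ρ c
      rw [← map_pow, hrr]
    have hper2 : cK ^ (q ^ (2 ^ m)) = cK := by
      conv_rhs => rw [← pow_one cK]
      refine hmod' _ _ ?_
      have hcop : Nat.Coprime q (2 ^ m) :=
        Nat.Coprime.pow_right m ((Nat.coprime_primes hq Nat.prime_two).2 hq2)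
      have h1 := Nat.ModEq.pow_totient hcop
      rw [Nat.totient_prime_pow Nat.prime_two (by omega)] at h1
      have h2 := h1.pow 2
      rw [← pow_mul, one_pow] at h2
      rwa [show 2 ^ (m - 1) * (2 - 1) * 2 = 2 ^ m by
        rw [show 2 - 1 = 1 from rfl, mul_one, ← pow_succ, Nat.sub_add_cancel (by omega)]] at h2
    have hgcd : Nat.gcd (2 * (j : ℕ)) (2 ^ m) = 2 := by
      conv_lhs => rw [show 2 ^ m = 2 * 2 ^ (m - 1) by rw [← pow_succ', Nat.sub_add_cancel (by omega)]]
      rw [Nat.gcd_mul_left, Nat.Coprime.gcd_eq_one (Nat.Coprime.pow_right _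
        (Nat.Coprime.symm (Nat.coprime_two_left.2 hjodd))), mul_one]
    have hper : cK ^ (q ^ 2) = cK := by
      have e1 : Function.IsPeriodicPt (fun x : K => x ^ q) (2 * (j : ℕ)) cK := by
        show (fun x : K => x ^ q)^[_] cK = cK
        rw [pow_iterate]; exact hper1
      have e2 : Function.IsPeriodicPt (fun x : K => x ^ q) (2 ^ m) cK := by
        show (fun x : K => x ^ q)^[_] cK = cK
        rw [pow_iterate]; exact hper2
      have e3 := e1.gcd e2
      rw [hgcd] at e3
      have e4 : (fun x : K => x ^ q)^[2] cK = cK := e3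
      rwa [pow_iterate] at e4
    have hall : ∀ z : K, z ^ (q ^ 2) = z := by
      have hz : ∀ z (hz : z ∈ K), (⟨z, hz⟩ : K) ^ (q ^ 2) = ⟨z, hz⟩ := by
        intro z hz
        induction hz using Subring.closure_induction with
        | mem x hx =>
          rw [Set.mem_singleton_iff] at hx
          subst hx
          exact hper
        | zero => exact zero_pow (pow_ne_zero 2 hq.ne_zero)
        | one => exact one_pow _
        | add x y hx hy h1 h2 =>
          show ((⟨x, hx⟩ : K) + ⟨y, hy⟩) ^ (q ^ 2) = ⟨x, hx⟩ + ⟨y, hy⟩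
          rw [add_pow_char_pow, h1, h2]
        | neg x hx h1 =>
          show (-(⟨x, hx⟩ : K)) ^ (q ^ 2) = -⟨x, hx⟩
          rw [Odd.neg_pow (Odd.pow (hq.odd_of_ne_two hq2)), h1]
        | mul x y hx hy h1 h2 =>
          show ((⟨x, hx⟩ : K) * ⟨y, hy⟩) ^ (q ^ 2) = ⟨x, hx⟩ * ⟨y, hy⟩
          rw [mul_pow, h1, h2]
      exact fun z => hz z z.2
    refine small C hq ?_
    haveI := Fintype.ofFinite K
    rw [hcardV, Nat.card_eq_fintype_card, ← Finset.card_univ]
    have h1 := Polynomial.card_le_degree_of_subset_roots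
      (p := (Polynomial.X ^ (q ^ 2) - Polynomial.X : Polynomial K)) (Z := Finset.univ) fun x _ => by
        rw [Polynomial.mem_roots (FiniteField.X_pow_card_pow_sub_X_ne_zero K (by omega) hq.one_lt)]
        simp [hall x]
    rwa [FiniteField.X_pow_card_pow_sub_X_natDegree_eq K (by omega) hq.one_lt] at h1

end Cfsg.Agent.H74OrbitTwo
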