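import Mathlib
import Cfsg.Agent.Lib.H74OrbitCyclic
import Cfsg.Agent.Lib.H74OrbitTwo
import Cfsg.Agent.Lib.PGroupsBasic
import Cfsg.Agent.Lib.PGroupsCyclic
import Cfsg.Agent.Lib.NormalFourGroup

/-!
If a finite group acts faithfully and coprimely on an abelian `q`-group and all orbits have
`p`-power size, then it is solvable.
-/

set_option autoImplicit false

namespace Cfsg.Agent.H74OrbitSolvable

open MulAction Cfsg.Agent.H74OrbitBasic Cfsg.Agent.H74OrbitBlocks

universe u

/-- A normal elementary abelian subgroup of order `p ^ 2` of a Sylow subgroup is impossible. -/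
theorem no_normal_sq {H V : Type u} [Group H] [Finite H] [AddCommGroup V] [Finite V]
    [DistribMulAction H V] {p q : ℕ} [hp : Fact p.Prime] (C : Crit H V p q) (P : Sylow p H)
    (E : Subgroup (P : Subgroup H)) [E.Normal] (hE : Nat.card E = p ^ 2)
    (hel : Cfsg.IsElementaryAbelian p E) : False := by
  have hne : E ≠ ⊥ := fun h => by
    rw [h, Subgroup.card_bot] at hE
    exact absurd hE.symm (Nat.one_lt_pow two_ne_zero hp.out.one_lt).ne'
  obtain ⟨⟨z, hz⟩, hz1⟩ :=
    Subgroup.ne_bot_iff_exists_ne_one.1 (PGroupsBasic.inf_center_ne_bot P.2 hne)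
  have hz1' : z ≠ 1 := fun h => hz1 (Subtype.ext h)
  have hzp : z ^ p = 1 := hel.2 z hz.1
  have hzcard : Nat.card (Subgroup.zpowers z) = p := by
    rw [Nat.card_zpowers]
    exact orderOf_eq_prime hzp hz1'
  have hle : Subgroup.zpowers z ≤ E := Subgroup.zpowers_le.2 hz.1
  obtain ⟨b, hbE, hbz⟩ : ∃ b ∈ E, b ∉ Subgroup.zpowers z := by
    by_contra hall
    push Not at hall
    rw [le_antisymm hall hle, hzcard] at hE
    nlinarith [hp.out.two_le]
  haveI : (Subgroup.zpowers z).Normal := ⟨fun x hx g => by
    have hx' : x ∈ Subgroup.center _ := (Subgroup.zpowers_le.2 hz.2) hx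
    rw [Subgroup.mem_center_iff.1 hx' g, mul_inv_cancel_right]
    exact hx⟩
  set π := QuotientGroup.mk' (Subgroup.zpowers z)
  have hπ : Function.Surjective π := QuotientGroup.mk'_surjective _
  haveI : (E.map π).Normal := Subgroup.Normal.map inferInstance _ hπ
  have hEb : Nat.card (E.map π) = p := by
    have h1 := Subgroup.card_mul_index ((Subgroup.zpowers z).subgroupOf E)
    rw [Nat.card_congr (Subgroup.subgroupOfEquivOfLe hle).toEquiv, hzcard, hE, sq] at h1
    rw [← Cfsg.Agent.HallSolvable.relIndex_eq_card_map]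
    exact Nat.eq_of_mul_eq_mul_left hp.out.pos h1
  have hcent : E.map π ≤ Subgroup.center _ := by
    have h1 := PGroupsBasic.inf_center_ne_bot (P.2.to_quotient (Subgroup.zpowers z))
      (N := E.map π) (fun h => hp.out.ne_one (by rw [← hEb, h, Subgroup.card_bot]))
    have h2 : E.map π ⊓ Subgroup.center _ = E.map π := by
      refine Subgroup.eq_of_le_of_card_ge inf_le_left ?_
      rcases (Nat.dvd_prime hp.out).1 (hEb ▸ Subgroup.card_dvd_of_le
        (inf_le_left : E.map π ⊓ Subgroup.center _ ≤ E.map π)) with h | h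
      · exact absurd (Subgroup.card_eq_one.1 h) h1
      · rw [h, hEb]
    exact h2 ▸ inf_le_right
  have hdvd : p ∣ Nat.card H := by
    refine dvd_trans ?_ (Subgroup.card_subgroup_dvd_card (P : Subgroup H))
    have h1 := Subgroup.card_subgroup_dvd_card (Subgroup.zpowers z)
    rwa [hzcard] at h1
  refine C.blocks hdvd P (z : H) (b : H) z.2 b.2 (fun h => hz1' (Subtype.ext h))
    (congrArg Subtype.val hzp) (congrArg Subtype.val (hel.2 b hbE)) ?_ ?_ ?_
  · rintro ⟨n, hn⟩
    exact hbz ⟨n, Subtype.ext hn⟩
  · intro y hy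
    exact congrArg Subtype.val (Subgroup.mem_center_iff.1 hz.2 ⟨y, hy⟩)
  · intro y hy
    have h1 : π (⟨y, hy⟩ * b * ⟨y, hy⟩⁻¹) = π b := by
      have h2 := Subgroup.mem_center_iff.1 (hcent (Subgroup.mem_map_of_mem π hbE)) (π ⟨y, hy⟩)
      rw [map_mul, map_mul, map_inv, h2, mul_inv_cancel_right]
    have h3 : ⟨y, hy⟩ * b * ⟨y, hy⟩⁻¹ * b⁻¹ ∈ Subgroup.zpowers z := by
      rw [← QuotientGroup.eq_one_iff]
      show π (_ * b⁻¹) = 1
      rw [map_mul, h1, map_inv, mul_inv_cancel]
    obtain ⟨k, hk⟩ := (isOfFinOrder_of_finite z).mem_powers_iff_mem_zpowers.2 h3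
    refine ⟨k, ?_⟩
    have h4 : (⟨y, hy⟩ * b * ⟨y, hy⟩⁻¹ : (P : Subgroup H)) = z ^ k * b := by
      rw [show z ^ k = _ from hk, inv_mul_cancel_right]
    exact congrArg Subtype.val h4

theorem two_rr (n : ℕ) (hn : 3 ≤ n) {H : Type u} [Group H] {c : H} (hc : orderOf c = 2 ^ n) :
    c ^ ((2 ^ (n - 1) - 1) * (2 ^ (n - 1) - 1)) = c := by
  conv_rhs => rw [← pow_one c]
  rw [pow_eq_pow_iff_modEq, hc]
  have ha : 1 ≤ 2 ^ (n - 1) := Nat.one_le_two_pow
  have h2 : 2 ^ n = 2 ^ (n - 1) * 2 := by rw [← pow_succ, Nat.sub_add_cancel (by omega)]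
  rw [← ZMod.natCast_eq_natCast_iff]
  push_cast [Nat.cast_sub ha]
  have e1 : ((2 : ZMod (2 ^ n)) ^ (n - 1)) * 2 = 0 := by
    have : ((2 ^ (n - 1) * 2 : ℕ) : ZMod (2 ^ n)) = 0 := by
      rw [← h2]
      exact ZMod.natCast_self _
    push_cast at this
    exact this
  have e2 : (2 : ZMod (2 ^ n)) ^ (n - 1) * 2 ^ (n - 1) = 0 := by
    have h3 : ((2 : ZMod (2 ^ n)) ^ (n - 1)) * 2 ^ (n - 1) = (2 : ZMod (2 ^ n)) ^ (n - 1) * 2 * 2 ^ (n - 2) := by
      rw [mul_assoc, ← pow_succ' (2 : ZMod (2 ^ n)), show n - 2 + 1 = n - 1 by omega]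
    rw [h3, e1, zero_mul]
  linear_combination e2 - e1

/-- The Sylow subgroup of a minimal configuration does not exist. -/
theorem no_crit {H V : Type u} [Group H] [Finite H] [AddCommGroup V] [Finite V]
    [DistribMulAction H V] {p q : ℕ} [hp : Fact p.Prime] (C : Crit H V p q) (hq : q.Prime) :
    False := by
  obtain ⟨P⟩ : Nonempty (Sylow p H) := inferInstance
  by_cases hcyc : IsCyclic (P : Subgroup H)
  · exact H74OrbitCyclic.cyclic C hq P
  by_cases hp2 : p = 2
  swap
  · obtain ⟨E, hE, hcard, hel⟩ := PGroupsCyclic.exists_normal_elementary_sq P.2 hp2 hcyc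
    exact no_normal_sq C P E hcard hel
  subst hp2
  obtain ⟨j, hj⟩ := IsPGroup.iff_card.1 P.2
  rcases Cfsg.NormalFourGroup.four_or_special P.2 with ⟨E, hE, hcard, hel⟩ | h | ⟨n, ⟨e⟩⟩ |
    ⟨n, ⟨e⟩⟩ | ⟨n, hn, hcard, x, y, hx, hy, hrel⟩
  · exact no_normal_sq C P E (by rw [hcard]; norm_num) hel
  · exact hcyc h
  · -- dihedral
    have h1 : 2 * n = 2 ^ j := by rw [← DihedralGroup.nat_card, ← Nat.card_congr e.toEquiv, hj]
    obtain ⟨i, -, hi⟩ := (Nat.dvd_prime_pow Nat.prime_two).1 (⟨2, by rw [← h1, mul_comm]⟩ : n ∣ 2 ^ j)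
    subst hi
    rcases Nat.lt_or_ge i 2 with hi2 | hi2
    · interval_cases i
      · haveI : Fact (Nat.Prime 2) := ⟨Nat.prime_two⟩
        exact hcyc (isCyclic_of_prime_card (p := 2)
          (by rw [Nat.card_congr e.toEquiv, DihedralGroup.nat_card]; rfl))
      · haveI : (⊤ : Subgroup (P : Subgroup H)).Normal := inferInstance
        have hc4 : Nat.card (⊤ : Subgroup (P : Subgroup H)) = 2 ^ 2 := by
          rw [Subgroup.card_top, Nat.card_congr e.toEquiv, DihedralGroup.nat_card]
          norm_num
        refine no_normal_sq C P ⊤ hc4 ?_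
        have hsq : ∀ a : (P : Subgroup H), a ^ 2 = 1 := by
          intro a
          refine e.injective ?_
          rw [map_pow, map_one]
          rcases e a with k | k
          · rw [sq, DihedralGroup.r_mul_r, DihedralGroup.one_def]
            congr 1
            revert k
            decide
          · rw [sq, DihedralGroup.sr_mul_self]
        refine ⟨⟨⟨fun a b => Subtype.ext ?_⟩⟩, fun a _ => hsq a⟩
        have hinv : ∀ a : (P : Subgroup H), a⁻¹ = a := fun a =>
          inv_eq_of_mul_eq_one_right (by rw [← sq]; exact hsq a)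
        show (a : (P : Subgroup H)) * b = b * a
        rw [← hinv ((a : (P : Subgroup H)) * b), mul_inv_rev, hinv, hinv]
    · haveI : NeZero (2 ^ i) := ⟨pow_ne_zero i two_ne_zero⟩
      set c := e.symm (DihedralGroup.r 1)
      set t := e.symm (DihedralGroup.sr 0)
      have hco : orderOf (c : H) = 2 ^ i := by
        rw [Subgroup.orderOf_coe, MulEquiv.orderOf_eq, DihedralGroup.orderOf_r_one]
      refine H74OrbitTwo.special C hq P c t c.2 t.2 i (2 ^ i - 1) hi2 hco
        (by rw [Nat.card_congr e.toEquiv, DihedralGroup.nat_card, pow_succ']) ?_ ?_ ?_ ?_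
      · rintro ⟨k, hk⟩
        have h2 : c ^ k = t := Subtype.ext hk
        have h3 := congrArg e h2
        simp only [c, t, map_zpow, MulEquiv.apply_symm_apply, DihedralGroup.r_zpow] at h3
        cases h3
      · have h2 : t * c * t⁻¹ = c ^ (2 ^ i - 1) := by
          refine e.injective ?_
          simp only [c, t, map_mul, map_inv, map_pow, MulEquiv.apply_symm_apply,
            DihedralGroup.inv_sr, DihedralGroup.sr_mul_r, DihedralGroup.sr_mul_sr,
            DihedralGroup.r_one_pow]
          rw [Nat.cast_sub Nat.one_le_two_pow, ZMod.natCast_self, Nat.cast_one]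
          simp
        simpa using congrArg Subtype.val h2
      · have h4 : 4 ∣ 2 ^ i := (pow_dvd_pow 2 hi2 : 2 ^ 2 ∣ 2 ^ i)
        have : 0 < 2 ^ i := Nat.two_pow_pos i
        omega
      · conv_rhs => rw [← pow_one (c : H)]
        rw [pow_eq_pow_iff_modEq, hco, ← ZMod.natCast_eq_natCast_iff]
        push_cast [Nat.cast_sub (Nat.one_le_two_pow (n := i))]
        rw [show ((2 : ZMod (2 ^ i)) ^ i) = 0 by exact_mod_cast ZMod.natCast_self (2 ^ i)]
        ring
  · -- quaternion
    have hn0 : n ≠ 0 := by
      rintro rfl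
      have h2 : Nat.card (P : Subgroup H) = Nat.card (DihedralGroup 0) :=
        (Nat.card_congr e.toEquiv).trans
          (Nat.card_congr QuaternionGroup.quaternionGroupZeroEquivDihedralGroupZero.toEquiv)
      rw [DihedralGroup.nat_card, hj] at h2
      exact (Nat.two_pow_pos j).ne' h2
    haveI : NeZero n := ⟨hn0⟩
    have h1 : 4 * n = 2 ^ j := by
      rw [← QuaternionGroup.card (n := n), ← Nat.card_eq_fintype_card, ← Nat.card_congr e.toEquiv, hj]
    obtain ⟨i, -, hi⟩ := (Nat.dvd_prime_pow Nat.prime_two).1 (⟨4, by rw [← h1, mul_comm]⟩ : n ∣ 2 ^ j)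
    subst hi
    rcases Nat.eq_zero_or_pos i with rfl | hi1
    · rw [pow_zero] at e
      haveI := QuaternionGroup.quaternionGroup_one_isCyclic
      exact hcyc (isCyclic_of_injective e.toMonoidHom e.injective)
    set c := e.symm (QuaternionGroup.a 1)
    set t := e.symm (QuaternionGroup.xa 0)
    have hco : orderOf (c : H) = 2 ^ (i + 1) := by
      rw [Subgroup.orderOf_coe, MulEquiv.orderOf_eq, QuaternionGroup.orderOf_a_one, pow_succ']
    refine H74OrbitTwo.special C hq P c t c.2 t.2 (i + 1) (2 ^ (i + 1) - 1) (by omega) hco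
      (by rw [hj, ← h1, pow_succ, pow_succ]; ring) ?_ ?_ ?_ ?_
    · intro hmem
      obtain ⟨k, hk⟩ := (isOfFinOrder_of_finite (c : H)).mem_powers_iff_mem_zpowers.2 hmem
      have h2 : c ^ k = t := Subtype.ext (by simpa using hk)
      have h3 := congrArg e h2
      simp only [c, t, map_pow, MulEquiv.apply_symm_apply, QuaternionGroup.a_one_pow] at h3
      cases h3
    · have h2 : t * c * t⁻¹ = c ^ (2 ^ (i + 1) - 1) := by
        rw [mul_inv_eq_iff_eq_mul]
        refine e.injective ?_
        simp only [c, t, map_mul, map_pow, MulEquiv.apply_symm_apply,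
          QuaternionGroup.a_one_pow, QuaternionGroup.xa_mul_a, QuaternionGroup.a_mul_xa]
        congr 1
        rw [Nat.cast_sub Nat.one_le_two_pow, Nat.cast_one,
          show ((2 ^ (i + 1) : ℕ) : ZMod (2 * 2 ^ i)) = 0 by rw [pow_succ']; exact ZMod.natCast_self _]
        ring
      simpa using congrArg Subtype.val h2
    · have h4 : 4 ∣ 2 ^ (i + 1) := (pow_dvd_pow 2 (by omega : 2 ≤ i + 1) : 2 ^ 2 ∣ 2 ^ (i + 1))
      have : 0 < 2 ^ (i + 1) := Nat.two_pow_pos _
      omega
    · conv_rhs => rw [← pow_one (c : H)]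
      rw [pow_eq_pow_iff_modEq, hco, ← ZMod.natCast_eq_natCast_iff]
      push_cast [Nat.cast_sub (Nat.one_le_two_pow (n := i + 1))]
      rw [show ((2 : ZMod (2 ^ (i + 1))) ^ (i + 1)) = 0 by
        exact_mod_cast ZMod.natCast_self (2 ^ (i + 1))]
      ring
  · -- quasidihedral
    have hco : orderOf (x : H) = 2 ^ n := by rw [Subgroup.orderOf_coe, hx]
    refine H74OrbitTwo.special C hq P x y x.2 y.2 n (2 ^ (n - 1) - 1) (by omega) hco hcard ?_ ?_ ?_
      (two_rr n hn hco)
    · rintro ⟨k, hk⟩
      have h2 : x ^ k = y := Subtype.ext hk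
      have h3 : y * x * y⁻¹ = x := by
        rw [← h2, mul_inv_eq_iff_eq_mul, ← zpow_one_add x k, ← zpow_add_one x k, add_comm]
      rw [h3] at hrel
      conv_lhs at hrel => rw [← pow_one x]
      rw [pow_eq_pow_iff_modEq, hx] at hrel
      have h4 : 4 ≤ 2 ^ (n - 1) := (pow_le_pow_right₀ (by norm_num) (show 2 ≤ n - 1 by omega) : 2 ^ 2 ≤ _)
      have h5 : 2 ^ n = 2 ^ (n - 1) * 2 := by rw [← pow_succ, Nat.sub_add_cancel (by omega)]
      rw [Nat.ModEq, Nat.mod_eq_of_lt (by omega), Nat.mod_eq_of_lt (by omega)] at hrel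
      omega
    · simpa using congrArg Subtype.val hrel
    · have h4 : 4 ∣ 2 ^ (n - 1) := (pow_dvd_pow 2 (show 2 ≤ n - 1 by omega) : 2 ^ 2 ∣ _)
      have : 0 < 2 ^ (n - 1) := Nat.two_pow_pos _
      omega

/-- The main induction. -/
theorem solvable_aux : ∀ (n : ℕ) (H V : Type u) [Group H] [Finite H] [AddCommGroup V] [Finite V]
    [DistribMulAction H V] (p q : ℕ), Nat.card H + Nat.card V = n → p.Prime → q.Prime →
    (∀ h : H, (∀ v : V, h • v = v) → h = 1) → (Nat.card H).Coprime q →
    (∀ v : V, ∃ i : ℕ, (q ^ i) • v = 0) → PPow H V p → Group.IsSolvable H := by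
  intro n
  induction n using Nat.strong_induction_on with
  | _ n ih =>
    intro H V _ _ _ _ _ p q hn hp hq hf hcop hV horb
    haveI : Fact p.Prime := ⟨hp⟩
    rcases subsingleton_or_nontrivial H with hsub | hnt
    · exact Group.isSolvable_of_comm fun a b => Subsingleton.elim _ _
    have hnormal : ∀ M : Subgroup H, M.Normal → M ≠ ⊤ → Group.IsSolvable M := by
      intro M hM hMt
      have hlt := Cfsg.Agent.HallSolvable.card_subgroup_lt hMt
      exact ih (Nat.card M + Nat.card V) (by omega) M V p q rfl hp hq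
        (fun m hm => Subtype.ext (hf m hm))
        (Nat.Coprime.coprime_dvd_left (Subgroup.card_subgroup_dvd_card M) hcop) hV
        (ppow_normal hp horb M)
    by_cases hperf : commutator H = ⊤
    swap
    · haveI := hnormal (commutator H) inferInstance hperf
      haveI : Group.IsSolvable (Abelianization H) := Group.isSolvable_of_comm mul_comm
      refine Group.isSolvable_of_ker_le_range (commutator H).subtype (Abelianization.of (G := H)) ?_
      rw [Abelianization.ker_of, Subgroup.range_subtype]
    exfalso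
    obtain ⟨g, hg⟩ := exists_ne (1 : H)
    -- proper invariant subgroups are centralised
    have hfix : ∀ W : AddSubgroup V, (∀ h : H, ∀ w ∈ W, h • w ∈ W) → W ≠ ⊤ →
        ∀ h : H, ∀ w ∈ W, h • w = w := by
      intro W hW hWt
      letI : DistribMulAction H W :=
        { smul := fun h w => ⟨h • (w : V), hW h w w.2⟩
          one_smul := fun w => Subtype.ext (one_smul H (w : V))
          mul_smul := fun a b w => Subtype.ext (mul_smul a b (w : V))
          smul_zero := fun h => Subtype.ext (smul_zero h)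
          smul_add := fun h a b => Subtype.ext (smul_add h (a : V) (b : V)) }
      set R := (MulAction.toPermHom H W).range
      letI : DistribMulAction R W :=
        { smul_zero := fun r => by
            obtain ⟨k, hk⟩ := r.2
            show (r : Equiv.Perm W) 0 = 0
            rw [← hk]; exact smul_zero k
          smul_add := fun r a b => by
            obtain ⟨k, hk⟩ := r.2
            show (r : Equiv.Perm W) (a + b) = (r : Equiv.Perm W) a + (r : Equiv.Perm W) b
            rw [← hk]; exact smul_add k a b }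
      have hdvd : Nat.card R ∣ Nat.card H := Subgroup.card_range_dvd _
      have hle : Nat.card R ≤ Nat.card H := Nat.le_of_dvd Nat.card_pos hdvd
      have hlt : Nat.card W < Nat.card V := by
        obtain ⟨v, hv⟩ : ∃ v : V, v ∉ W := by
          by_contra hall
          push Not at hall
          exact hWt ((AddSubgroup.eq_top_iff' W).2 hall)
        exact Finite.card_subtype_lt hv
      haveI : Group.IsSolvable R := ih (Nat.card R + Nat.card W) (by omega) R W p q rfl hp hq
        (fun r hr => Subtype.ext (Equiv.ext hr)) (Nat.Coprime.coprime_dvd_left hdvd hcop)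
        (fun w => (hV w).imp fun i hi => Subtype.ext hi)
        (ppow_range (fun w => by
          obtain ⟨a, ha⟩ := horb (w : V)
          refine ⟨a, ?_⟩
          rw [← ha]
          congr 1
          ext k
          exact Subtype.ext_iff))
      intro h w hw
      have h1 := hom_trivial hperf (MulAction.toPermHom H W).rangeRestrict h
      exact congrArg Subtype.val
        (DFunLike.congr_fun (congrArg Subtype.val h1) (⟨w, hw⟩ : W))
    have hinj : ∀ (n : ℕ) (v : V), n.Coprime q → n • v = 0 → v = 0 := by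
      intro n v hn hv
      obtain ⟨i, hi⟩ := hV v
      have h1 : addOrderOf v ∣ Nat.gcd n (q ^ i) :=
        Nat.dvd_gcd (addOrderOf_dvd_iff_nsmul_eq_zero.2 hv) (addOrderOf_dvd_iff_nsmul_eq_zero.2 hi)
      rw [Nat.Coprime.gcd_eq_one (Nat.Coprime.pow_right i hn), Nat.dvd_one] at h1
      exact AddMonoid.addOrderOf_eq_one_iff.1 h1
    obtain ⟨v1, hv1⟩ : ∃ v : V, v ≠ 0 := by
      by_contra hall
      push Not at hall
      exact hg (hf g fun v => by rw [hall v, smul_zero])
    have hirr : ∀ W : AddSubgroup V, (∀ h : H, ∀ w ∈ W, h • w ∈ W) → W = ⊥ ∨ W = ⊤ := by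
      intro W hW
      by_contra hne
      push Not at hne
      obtain ⟨w, hw, hw0⟩ : ∃ w ∈ W, w ≠ 0 := by
        by_contra hall
        push Not at hall
        exact hne.1 ((AddSubgroup.eq_bot_iff_forall W).2 hall)
      have hwfix : ∀ h : H, h • w = w := fun h => hfix W hW hne.2 h w hw
      haveI := Fintype.ofFinite H
      let e : V →+ V :=
        { toFun := fun v => ∑ h : H, h • v
          map_zero' := by simp
          map_add' := fun a b => by simp [smul_add, Finset.sum_add_distrib] }
      have hek : ∀ (k : H) v, e (k • v) = e v := fun k v =>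
        Fintype.sum_equiv (Equiv.mulRight k) _ _ fun h => (mul_smul h k v).symm
      have hefix : ∀ v, (∀ h : H, h • v = v) → e v = Nat.card H • v := fun v hv => by
        show ∑ h : H, h • v = _
        simp [hv, Nat.card_eq_fintype_card]
      have hkt : AddMonoidHom.ker e ≠ ⊤ := fun h => hw0 (hinj _ w hcop (by
        rw [← hefix w hwfix]
        exact AddMonoidHom.mem_ker.1 (h ▸ AddSubgroup.mem_top w)))
      have hker : AddMonoidHom.ker e = ⊥ := by
        refine (AddSubgroup.eq_bot_iff_forall _).2 fun v hv => hinj _ v hcop ?_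
        rw [← hefix v fun h => hfix _ (fun k a ha => by
          rw [AddMonoidHom.mem_ker] at ha ⊢
          rw [hek, ha]) hkt h v hv]
        exact hv
      refine hg (hf g fun v => ?_)
      exact (AddMonoidHom.ker_eq_bot_iff e).1 hker (hek g v)
    have hexp : ∀ v : V, q • v = 0 := by
      let f : V →+ V := nsmulAddMonoidHom q
      rcases hirr f.range (fun h w hw => by
        obtain ⟨v, rfl⟩ := hw
        exact ⟨h • v, ((DistribSMul.toAddMonoidHom V h).map_nsmul q v).symm⟩) with h | h
      · intro v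
        have h1 : f v ∈ f.range := ⟨v, rfl⟩
        rw [h, AddSubgroup.mem_bot] at h1
        exact h1
      · exfalso
        have hbij : Function.Injective f :=
          Finite.injective_iff_surjective.2 (AddMonoidHom.range_eq_top.1 h)
        have hall : ∀ i v, (q ^ i) • v = 0 → v = (0 : V) := by
          intro i
          induction i with
          | zero => intro v hv; simpa using hv
          | succ i ihh =>
            intro v hv
            refine hbij ?_
            rw [map_zero]
            refine ihh _ ?_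
            show q ^ i • (q • v) = 0
            rwa [← mul_nsmul, ← pow_succ']
        obtain ⟨i, hi⟩ := hV v1
        exact hv1 (hall i v1 hi)
    exact no_crit (p := p) (q := q)
      ⟨hperf, hirr, hf, hcop, hexp, horb, ⟨g, hg⟩, hnormal⟩ hq

/-- If all orbits of a faithful coprime action on an abelian `q`-group have `p`-power size, the
acting group is solvable. -/
theorem solvable {H V : Type u} [Group H] [Finite H] [AddCommGroup V] [Finite V]
    [DistribMulAction H V] {p q : ℕ} (hp : p.Prime) (hq : q.Prime)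
    (hf : ∀ h : H, (∀ v : V, h • v = v) → h = 1) (hcop : (Nat.card H).Coprime q)
    (hV : ∀ v : V, ∃ i : ℕ, (q ^ i) • v = 0) (horb : PPow H V p) : Group.IsSolvable H :=
  solvable_aux _ H V p q rfl hp hq hf hcop hV horb

end Cfsg.Agent.H74OrbitSolvable
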