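import Mathlib
import Cfsg.Prelude.Def_Solvable
import Cfsg.Agent.Lib.H74OrbitSolvable
import Cfsg.Agent.Lib.H74Kazarin
import Cfsg.Agent.Lib.ComponentsCores
import Cfsg.Agent.Lib.HallCore
import Cfsg.Agent.Lib.HallSolvable
import Cfsg.Agent.S4364

/-!
Groups in which every `q`-element has a class of prime-power size (`q`-Baer groups).
-/

set_option autoImplicit false

namespace Cfsg.Agent.H74QBaer

open MulAction Cfsg.Agent.H74OrbitBasic

universe u

/-- The hypothesis. -/
def Baer (G : Type u) [Group G] (q : ℕ) : Prop :=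
  ∀ x : G, (∃ k : ℕ, orderOf x = q ^ k) →
    ∃ (r : ℕ) (a : ℕ), r.Prime ∧ (Subgroup.centralizer ({x} : Set G)).index = r ^ a

theorem qel_of_pow {G : Type u} [Group G] {q : ℕ} [hq : Fact q.Prime] {x : G} {k : ℕ}
    (h : x ^ q ^ k = 1) : ∃ j, orderOf x = q ^ j := by
  obtain ⟨j, -, hj⟩ := (Nat.dvd_prime_pow hq.out).1 (orderOf_dvd_of_pow_eq_one h)
  exact ⟨j, hj⟩

theorem qel_of_mem {G : Type u} [Group G] {q : ℕ} [Fact q.Prime] {P : Subgroup G}
    (hP : IsPGroup q P) {x : G} (hx : x ∈ P) : ∃ j, orderOf x = q ^ j := by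
  obtain ⟨k, hk⟩ := hP ⟨x, hx⟩
  exact qel_of_pow (congrArg Subtype.val hk)

theorem isPGroup_zpowers {G : Type u} [Group G] [Finite G] {q : ℕ} [Fact q.Prime] {x : G}
    (hx : ∃ k, orderOf x = q ^ k) : IsPGroup q (Subgroup.zpowers x) := by
  obtain ⟨k, hk⟩ := hx
  exact IsPGroup.of_card (n := k) (by rw [Nat.card_zpowers, hk])

theorem baer_map {G : Type u} [Group G] [Finite G] {G' : Type u} [Group G'] {q : ℕ}
    [hq : Fact q.Prime] (f : G →* G') (hf : Function.Surjective f) (h : Baer G q) :
    Baer G' q := by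
  rintro y ⟨k, hk⟩
  obtain ⟨g, rfl⟩ := hf y
  obtain ⟨a, l, hl, hal⟩ := Nat.exists_eq_pow_mul_and_not_dvd (orderOf_pos g).ne' q hq.out.ne_one
  have hcop : Nat.Coprime (q ^ a) l := Nat.Coprime.pow_left a (hq.out.coprime_iff_not_dvd.2 hl)
  obtain ⟨n, hn1, hn2⟩ := Nat.chineseRemainder hcop 1 0
  have hl1 : (g ^ n) ^ q ^ a = 1 := by
    obtain ⟨c, hc⟩ := Nat.modEq_zero_iff_dvd.1 hn2
    rw [← pow_mul, hc, mul_comm, ← mul_assoc, ← hal, pow_mul, pow_orderOf_eq_one, one_pow]
  obtain ⟨r, b, hr, hb⟩ := h (g ^ n) (qel_of_pow hl1)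
  have hfn : f (g ^ n) = f g := by
    have hka : k ≤ a := by
      have h1 : q ^ k ∣ q ^ a * l := hal ▸ hk ▸ orderOf_map_dvd f g
      have h2 := (Nat.Coprime.pow_left k (hq.out.coprime_iff_not_dvd.2 hl)).dvd_of_dvd_mul_right h1
      exact (Nat.pow_dvd_pow_iff_le_right hq.out.one_lt).1 h2
    rw [map_pow]
    conv_rhs => rw [← pow_one (f g)]
    rw [pow_eq_pow_iff_modEq, hk]
    exact hn1.of_dvd (pow_dvd_pow q hka)
  obtain ⟨j, -, hj⟩ := (Nat.dvd_prime_pow hr).1 (hb ▸ H74Kazarin.index_map_dvd hf (g ^ n))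
  exact ⟨r, j, hr, hfn ▸ hj⟩

/-- If the class of a `q`-element has `q`-power size, the element lies in `O_q`. -/
theorem mem_pCore_of_qpow {G : Type u} [Group G] [Finite G] {q : ℕ} [hq : Fact q.Prime] (x : G)
    (hx : ∃ k, orderOf x = q ^ k) {a : ℕ}
    (ha : (Subgroup.centralizer ({x} : Set G)).index = q ^ a) :
    x ∈ Cfsg.pCore q G ∧ ∀ (R : Sylow q G) (g : G), ∃ r ∈ (R : Subgroup G),
      g * x * g⁻¹ = r * x * r⁻¹ := by
  set C := Subgroup.centralizer ({x} : Set G)
  have horb : PPow G (G ⧸ C) q := fun v => by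
    refine ⟨a, ?_⟩
    rw [index_stabilizer, orbit_eq_univ, Set.ncard_univ, ← Subgroup.index_eq_card, ha]
  have key : ∀ (R : Sylow q G) (g : G), ∃ r ∈ (R : Subgroup G),
      g * x * g⁻¹ = r * x * r⁻¹ := by
    intro R g
    obtain ⟨r, hr, hrg⟩ := orbit_eq horb R g ((1 : G) : G ⧸ C)
    refine ⟨r, hr, ?_⟩
    rw [Quotient.smul_mk, Quotient.smul_mk, smul_eq_mul, smul_eq_mul, mul_one, mul_one] at hrg
    have h1 := Subgroup.mem_centralizer_singleton_iff.1 (QuotientGroup.eq.1 hrg)
    calc g * x * g⁻¹ = r * ((r⁻¹ * g) * x) * g⁻¹ := by group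
      _ = r * (x * (r⁻¹ * g)) * g⁻¹ := by rw [h1]
      _ = r * x * r⁻¹ := by group
  refine ⟨?_, key⟩
  obtain ⟨R, hR⟩ := (isPGroup_zpowers hx).exists_le_sylow
  have hxR : x ∈ (R : Subgroup G) := hR (Subgroup.mem_zpowers x)
  have hle : Subgroup.normalClosure ({x} : Set G) ≤ R := by
    rw [Subgroup.normalClosure, Subgroup.closure_le]
    intro y hy
    rw [Group.mem_conjugatesOfSet_iff] at hy
    obtain ⟨z, hz, hzy⟩ := hy
    rw [Set.mem_singleton_iff] at hz
    subst hz
    obtain ⟨g, rfl⟩ := isConj_iff.1 hzy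
    obtain ⟨r, hr, hrg⟩ := key R g
    rw [hrg]
    exact mul_mem (mul_mem hr hxR) (inv_mem hr)
  haveI : (Subgroup.normalClosure ({x} : Set G)).Normal := Subgroup.normalClosure_normal
  exact ComponentsCores.le_pCore' (R.2.to_le hle) (Subgroup.subset_normalClosure (Set.mem_singleton x))

/-- If the class of a `q`-element has `r`-power size and `O_r = 1`, the element lies in `O_q`. -/
theorem mem_pCore_of_core {G : Type u} [Group G] [Finite G] {q r : ℕ} [hq : Fact q.Prime]
    [Fact r.Prime] (h0 : Cfsg.pCore r G = ⊥) (x : G) (hx : ∃ k, orderOf x = q ^ k) {a : ℕ}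
    (ha : (Subgroup.centralizer ({x} : Set G)).index = r ^ a) : x ∈ Cfsg.pCore q G := by
  have hcomm := S4364.commute_of_pCore_eq_bot r h0 x ha
  haveI : (Subgroup.normalClosure ({x} : Set G)).Normal := Subgroup.normalClosure_normal
  refine ComponentsCores.le_pCore' (N := Subgroup.normalClosure ({x} : Set G)) ?_
    (Subgroup.subset_normalClosure (Set.mem_singleton x))
  rintro ⟨y, hy⟩
  suffices ∀ y ∈ Subgroup.normalClosure ({x} : Set G), ∃ k, y ^ q ^ k = 1 by
    obtain ⟨k, hk⟩ := this y hy
    exact ⟨k, Subtype.ext hk⟩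
  intro y hy
  induction hy using Subgroup.closure_induction with
  | mem z hz =>
    rw [Group.mem_conjugatesOfSet_iff] at hz
    obtain ⟨w, hw, hwz⟩ := hz
    rw [Set.mem_singleton_iff] at hw
    subst hw
    obtain ⟨g, rfl⟩ := isConj_iff.1 hwz
    obtain ⟨k, hk⟩ := hx
    exact ⟨k, by rw [← hk, conj_pow, pow_orderOf_eq_one, mul_one, mul_inv_cancel]⟩
  | one => exact ⟨0, by simp⟩
  | mul u v hu hv h1 h2 =>
    obtain ⟨i, hi⟩ := h1
    obtain ⟨j, hj⟩ := h2
    refine ⟨i + j, ?_⟩
    rw [(show Commute u v from hcomm u hu v hv).mul_pow, pow_add, pow_mul, hi, one_pow, one_mul,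
      mul_comm, pow_mul, hj, one_pow]
  | inv u hu h1 =>
    obtain ⟨i, hi⟩ := h1
    exact ⟨i, by rw [inv_pow, hi, inv_one]⟩

/-- When `O_q' = 1`, all `q`-elements lie in `O_q`. -/
theorem qel_le_pCore {G : Type u} [Group G] [Finite G] {q : ℕ} [hq : Fact q.Prime]
    (hB : Baer G q) (h0 : Cfsg.pPrimeCore q G = ⊥) (x : G) (hx : ∃ k, orderOf x = q ^ k) :
    x ∈ Cfsg.pCore q G := by
  obtain ⟨r, a, hr, ha⟩ := hB x hx
  by_cases hrq : r = q
  · subst hrq
    exact (mem_pCore_of_qpow x hx ha).1
  · haveI : Fact r.Prime := ⟨hr⟩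
    refine mem_pCore_of_core (r := r) ?_ x hx ha
    rw [eq_bot_iff, ← h0]
    refine ComponentsCores.le_pPrimeCore' ?_
    obtain ⟨n, hn⟩ := IsPGroup.iff_card.1 (ComponentsCores.isPGroup_pCore r (G := G))
    rw [hn]
    exact Nat.Coprime.pow_left n ((Nat.coprime_primes hr hq.out).2 hrq)

theorem sylow_eq_pCore {G : Type u} [Group G] [Finite G] {q : ℕ} [hq : Fact q.Prime]
    (hB : Baer G q) (h0 : Cfsg.pPrimeCore q G = ⊥) (S : Sylow q G) :
    (S : Subgroup G) = Cfsg.pCore q G :=
  le_antisymm (fun x hx => qel_le_pCore hB h0 x (qel_of_mem S.2 hx))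
    (IsPGroup.le_sylow_of_normal (ComponentsCores.isPGroup_pCore q) S)

/-- Two subgroups of coprime index factorize the group. -/
theorem coprime_factor {H : Type u} [Group H] [Finite H] (A B : Subgroup H)
    (h : Nat.Coprime A.index B.index) (x : H) : ∃ a ∈ A, ∃ b ∈ B, x = a * b := by
  have h1 : A.index * B.index ∣ (A ⊓ B).index :=
    h.mul_dvd_of_dvd_of_dvd (Subgroup.index_dvd_of_le inf_le_left)
      (Subgroup.index_dvd_of_le inf_le_right)
  have h2 : (A ⊓ B).index = B.relIndex A * A.index := by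
    rw [← Subgroup.inf_relIndex_left, Subgroup.relIndex_mul_index inf_le_left]
  rw [h2, mul_comm A.index] at h1
  have h3 : B.index ≤ B.relIndex A :=
    Nat.le_of_dvd (Nat.pos_of_ne_zero Subgroup.index_ne_zero_of_finite)
      (Nat.dvd_of_mul_dvd_mul_right (Nat.pos_of_ne_zero Subgroup.index_ne_zero_of_finite) h1)
  have hstab : stabilizer A ((1 : H) : H ⧸ B) = B.subgroupOf A := by
    ext a
    rw [mem_stabilizer_iff, Subgroup.mem_subgroupOf]
    show ((((a : H) * 1 : H)) : H ⧸ B) = ((1 : H) : H ⧸ B) ↔ _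
    rw [mul_one, QuotientGroup.eq, mul_one, inv_mem_iff]
  have huniv : orbit A ((1 : H) : H ⧸ B) = Set.univ := by
    refine Set.eq_of_subset_of_ncard_le (Set.subset_univ _) ?_ (Set.toFinite _)
    rw [← index_stabilizer, hstab, Set.ncard_univ, ← Subgroup.index_eq_card]
    exact h3
  obtain ⟨a, ha⟩ := (huniv ▸ Set.mem_univ _ : (x : H ⧸ B) ∈ orbit A ((1 : H) : H ⧸ B))
  refine ⟨a, a.2, (a : H)⁻¹ * x, ?_, (mul_inv_cancel_left _ _).symm⟩
  have h4 : ((((a : H) * 1 : H)) : H ⧸ B) = (x : H ⧸ B) := ha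
  rwa [mul_one, QuotientGroup.eq] at h4

/-- In a coprime action, two vectors with orbits of coprime size, such that the orbit of the sum
also has size prime to the second, have the second one fixed. -/
theorem fixed_of_coprime {H V : Type u} [Group H] [Finite H] [AddCommGroup V]
    [DistribMulAction H V]
    (hinj : ∀ n : ℕ, n ∣ Nat.card H → ∀ v : V, n • v = 0 → v = 0) (x y : V)
    (h1 : Nat.Coprime (stabilizer H y).index (stabilizer H x).index)
    (h2 : Nat.Coprime (stabilizer H (x + y)).index (stabilizer H y).index) (h : H) :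
    h • y = y := by
  classical
  haveI := Fintype.ofFinite H
  let E : Subgroup H → V → V := fun K v => ∑ k : K, (k : H) • v
  have Eadd : ∀ K v w, E K (v + w) = E K v + E K w := fun K v w => by
    simp [E, smul_add, Finset.sum_add_distrib]
  have Ensmul : ∀ K (n : ℕ) v, E K (n • v) = n • E K v := fun K n v => by
    simp only [E]
    rw [Finset.smul_sum]
    exact Finset.sum_congr rfl fun k _ => (DistribSMul.toAddMonoidHom V (k : H)).map_nsmul n v
  have Esum : ∀ (K : Subgroup H) {ι : Type u} [Fintype ι] (f : ι → V),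
      E K (∑ i, f i) = ∑ i, E K (f i) := fun K ι _ f => by
    simp only [E, Finset.smul_sum]
    exact Finset.sum_comm
  have Efix : ∀ (K : Subgroup H) v, (∀ k ∈ K, k • v = v) → E K v = Nat.card K • v := fun K v hv => by
    simp only [E]
    rw [Finset.sum_congr rfl fun (k : K) _ => hv k k.2, Finset.sum_const, Finset.card_univ,
      Nat.card_eq_fintype_card]
  let T : V → V := fun v => ∑ g : H, g • v
  have Tinv : ∀ (g : H) v, g • T v = T v := fun g v => by
    simp only [T, Finset.smul_sum, ← mul_smul]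
    exact Equiv.sum_comp (Equiv.mulLeft g) fun k => k • v
  set N := Nat.card H with hN
  -- normalisation
  let Φ : V → V := fun v => N • v - T v
  have Φadd : ∀ v w, Φ (v + w) = Φ v + Φ w := fun v w => by
    simp only [Φ, T, nsmul_add, smul_add, Finset.sum_add_distrib]
    abel
  have Φstab : ∀ v (g : H), g • Φ v = Φ v ↔ g • v = v := fun v g => by
    have e1 : g • Φ v = N • (g • v) - T v := by
      simp only [Φ, smul_sub, Tinv]
      rw [show g • N • v = N • g • v from (DistribSMul.toAddMonoidHom V g).map_nsmul N v]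
    rw [e1]
    constructor
    · intro e
      have e2 : N • (g • v - v) = 0 := by
        rw [nsmul_sub, sub_eq_zero]
        exact sub_left_injective e
      exact sub_eq_zero.1 (hinj N dvd_rfl _ e2)
    · intro e
      rw [e]
  have ΦT : ∀ v, T (Φ v) = 0 := fun v => by
    have e1 : T (N • v) = N • T v := by
      simp only [T]
      rw [Finset.smul_sum]
      exact Finset.sum_congr rfl fun g _ => (DistribSMul.toAddMonoidHom V g).map_nsmul N v
    have e2 : T (T v) = N • T v := by
      show ∑ g : H, g • T v = N • T v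
      simp [Tinv, hN, Nat.card_eq_fintype_card]
    show ∑ g : H, g • (N • v - T v) = 0
    simp only [smul_sub, Finset.sum_sub_distrib]
    rw [show (∑ g : H, g • N • v) = T (N • v) from rfl,
      show (∑ g : H, g • T v) = T (T v) from rfl, e1, e2, sub_self]
  -- averaging over a subgroup complementing a stabiliser
  have lemA : ∀ (K : Subgroup H) v, T v = 0 →
      (∀ g : H, ∃ k ∈ K, ∃ s ∈ stabilizer H v, g = k * s) → ∀ g : H, E K (g • v) = 0 := by
    intro K v hT hfac
    have hc : ∀ g : H, E K (g • v) = E K v := fun g => by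
      obtain ⟨k, hk, s, hs, rfl⟩ := hfac g
      rw [mul_smul, mem_stabilizer_iff.1 hs]
      simp only [E, ← mul_smul]
      exact Equiv.sum_comp (Equiv.mulRight (⟨k, hk⟩ : K)) fun l : K => (l : H) • v
    intro g
    rw [hc g]
    refine hinj N dvd_rfl _ ?_
    have e1 : E K (T v) = N • E K v := by
      show E K (∑ g : H, g • v) = _
      rw [Esum K fun g : H => g • v]
      simp [hc, hN, Nat.card_eq_fintype_card]
    rw [← e1, hT]
    simp [E]
  set x' := Φ x
  set y' := Φ y
  set z' := Φ (x + y)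
  have hz' : z' = x' + y' := Φadd x y
  have hsx : stabilizer H x' = stabilizer H x := by
    ext g; exact Φstab x g
  have hsy : stabilizer H y' = stabilizer H y := by
    ext g; exact Φstab y g
  have hsz : stabilizer H z' = stabilizer H (x + y) := by
    ext g; exact Φstab (x + y) g
  set K := stabilizer H y'
  set L := stabilizer H z'
  have hKx : ∀ g : H, E K (g • x') = 0 := lemA K x' (ΦT x) fun g => by
    obtain ⟨a, ha, b, hb, e⟩ := coprime_factor K (stabilizer H x') (by rw [hsy, hsx]; exact h1) g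
    exact ⟨a, ha, b, hb, e⟩
  have hLy : E L y' = 0 := by
    have h3 := lemA L y' (ΦT y) (fun g => by
      obtain ⟨a, ha, b, hb, e⟩ := coprime_factor L K (by rw [hsy, hsz]; exact h2) g
      exact ⟨a, ha, b, hb, e⟩) 1
    rwa [one_smul] at h3
  have hz0 : E K z' = 0 := by
    refine hinj (Nat.card L) (Subgroup.card_subgroup_dvd_card L) _ ?_
    have e1 : E L x' = Nat.card L • z' := by
      rw [← Efix L z' fun k hk => hk]
      conv_rhs => rw [hz', Eadd, hLy, add_zero]
    rw [← Ensmul, ← e1]
    show E K (∑ l : L, (l : H) • x') = 0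
    rw [Esum K fun l : L => (l : H) • x']
    exact Finset.sum_eq_zero fun l _ => hKx l
  have hy0 : y' = 0 := by
    refine hinj (Nat.card K) (Subgroup.card_subgroup_dvd_card K) _ ?_
    rw [← Efix K y' fun k hk => hk]
    have h3 := hKx 1
    rw [one_smul] at h3
    rw [hz', Eadd, h3, zero_add] at hz0
    exact hz0
  refine (Φstab y h).1 ?_
  show h • y' = y'
  rw [hy0, smul_zero]

theorem index_centralizer_conj {G : Type u} [Group G] [Finite G] (g x : G) :
    (Subgroup.centralizer ({g * x * g⁻¹} : Set G)).index =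
      (Subgroup.centralizer ({x} : Set G)).index := by
  rw [← Cfsg.Agent.BrauerBlocksCentral.ncard_carrier, ← Cfsg.Agent.BrauerBlocksCentral.ncard_carrier]
  congr 2
  exact ConjClasses.mk_eq_mk_iff_isConj.2 (isConj_iff.2 ⟨g⁻¹, by group⟩)

section complement

variable {G : Type u} [Group G] {V H : Subgroup G}

/-- Conjugation of a complement on a normal subgroup, additively. -/
@[reducible] def conjAction (V H : Subgroup G) [V.Normal] : DistribMulAction H (Additive V) where
  smul h v := Additive.ofMul ⟨(h : G) * (v.toMul : G) * (h : G)⁻¹,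
    ‹V.Normal›.conj_mem _ v.toMul.2 h⟩
  one_smul v := congrArg Additive.ofMul (Subtype.ext
    (show ((1 : H) : G) * (v.toMul : G) * ((1 : H) : G)⁻¹ = (v.toMul : G) by simp))
  mul_smul a b v := congrArg Additive.ofMul (Subtype.ext (by
    show ((a * b : H) : G) * (v.toMul : G) * ((a * b : H) : G)⁻¹ =
      (a : G) * ((b : G) * (v.toMul : G) * (b : G)⁻¹) * (a : G)⁻¹
    push_cast
    group))
  smul_zero h := congrArg Additive.ofMul (Subtype.ext (by simp))
  smul_add h a b := congrArg Additive.ofMul (Subtype.ext (by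
    show (h : G) * ((a.toMul : G) * (b.toMul : G)) * (h : G)⁻¹ =
      ((h : G) * (a.toMul : G) * (h : G)⁻¹) * ((h : G) * (b.toMul : G) * (h : G)⁻¹)
    group))

theorem index_stab [Finite G] [V.Normal] (hVH : Subgroup.IsComplement' V H) (v : V)
    (hv : V ≤ Subgroup.centralizer ({(v : G)} : Set G)) :
    letI := conjAction V H
    (stabilizer H (Additive.ofMul v)).index = (Subgroup.centralizer ({(v : G)} : Set G)).index := by
  letI := conjAction V H
  set C := Subgroup.centralizer ({(v : G)} : Set G)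
  have h1 : stabilizer H (Additive.ofMul v) = C.subgroupOf H := by
    ext h
    rw [mem_stabilizer_iff, Subgroup.mem_subgroupOf, Subgroup.mem_centralizer_singleton_iff]
    constructor
    · intro e
      exact mul_inv_eq_iff_eq_mul.1 (congrArg (fun u : Additive V => (u.toMul : G)) e)
    · intro e
      exact congrArg Additive.ofMul (Subtype.ext (mul_inv_eq_iff_eq_mul.2 e))
  rw [h1]
  show C.relIndex H = C.index
  have e1 : C.relIndex H * H.index = H.relIndex C * C.index := by
    have a1 := Subgroup.relIndex_mul_index (inf_le_left : H ⊓ C ≤ H)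
    have a2 := Subgroup.relIndex_mul_index (inf_le_right : H ⊓ C ≤ C)
    rw [Subgroup.inf_relIndex_left] at a1
    rw [Subgroup.inf_relIndex_right] at a2
    rw [a1, a2]
  have e2 : H.relIndex V = Nat.card V := by
    rw [← Subgroup.inf_relIndex_right, (disjoint_iff.1 hVH.symm.disjoint), Subgroup.relIndex_bot_left]
  have e3 : H.index = Nat.card V := hVH.index_eq_card
  have e4 : H.relIndex C = H.index := by
    refine le_antisymm ?_ ?_
    · rw [← Subgroup.relIndex_top_right H]
      exact Subgroup.relIndex_le_of_le_right le_top (by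
        rw [Subgroup.relIndex_top_right]; exact Subgroup.index_ne_zero_of_finite)
    · rw [e3, ← e2]
      exact Subgroup.relIndex_le_of_le_right hv (by
        rw [Subgroup.relIndex]; exact Subgroup.index_ne_zero_of_finite)
  rw [e4, mul_comm H.index] at e1
  exact Nat.eq_of_mul_eq_mul_right (Nat.pos_of_ne_zero Subgroup.index_ne_zero_of_finite) e1

end complement

section abelianSylow

variable {G : Type u} [Group G] [Finite G] {q : ℕ} [hq : Fact q.Prime]

/-- In a group with a normal abelian Sylow subgroup: coprime class sizes force centrality. -/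
theorem central_of_coprime (S : Sylow q G) [hSn : (S : Subgroup G).Normal]
    (hSc : ∀ a ∈ (S : Subgroup G), ∀ b ∈ (S : Subgroup G), a * b = b * a) {x y : G}
    (hx : x ∈ (S : Subgroup G)) (hy : y ∈ (S : Subgroup G))
    (h1 : Nat.Coprime (Subgroup.centralizer ({y} : Set G)).index
      (Subgroup.centralizer ({x} : Set G)).index)
    (h2 : Nat.Coprime (Subgroup.centralizer ({x * y} : Set G)).index
      (Subgroup.centralizer ({y} : Set G)).index) (g : G) : g * y = y * g := by
  obtain ⟨H, hH⟩ := Subgroup.exists_right_complement'_of_coprime S.card_coprime_index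
  haveI : IsMulCommutative (S : Subgroup G) :=
    ⟨⟨fun a b => Subtype.ext (hSc a a.2 b b.2)⟩⟩
  letI : CommGroup (S : Subgroup G) :=
    { (inferInstance : Group (S : Subgroup G)) with
      mul_comm := fun a b => Subtype.ext (hSc a a.2 b b.2) }
  letI := conjAction (S : Subgroup G) H
  have hSC : ∀ v : (S : Subgroup G), (S : Subgroup G) ≤ Subgroup.centralizer ({(v : G)} : Set G) :=
    fun v a ha => Subgroup.mem_centralizer_singleton_iff.2 (hSc a ha v v.2)
  have hcop : (Nat.card H).Coprime q := by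
    rw [← hH.symm.index_eq_card]
    exact ((hq.out.coprime_iff_not_dvd).2 S.not_dvd_index).symm
  have hinj : ∀ n : ℕ, n ∣ Nat.card H → ∀ v : Additive (S : Subgroup G), n • v = 0 → v = 0 := by
    intro n hn v hv
    obtain ⟨i, hi⟩ := S.2 v.toMul
    have h3 := pow_gcd_eq_one.mpr ⟨(show v.toMul ^ n = 1 from hv), hi⟩
    rw [Nat.Coprime.gcd_eq_one (Nat.Coprime.pow_right i (Nat.Coprime.coprime_dvd_left hn hcop)),
      pow_one] at h3
    exact h3
  have hfix := fixed_of_coprime hinj (Additive.ofMul (⟨x, hx⟩ : (S : Subgroup G)))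
    (Additive.ofMul (⟨y, hy⟩ : (S : Subgroup G)))
    (by rw [index_stab hH _ (hSC _), index_stab hH _ (hSC _)]; exact h1)
    (by
      rw [← ofMul_mul, index_stab hH _ (hSC _), index_stab hH _ (hSC _)]
      exact h2)
  obtain ⟨⟨a, h⟩, rfl⟩ := hH.2 g
  have e1 : (h : G) * y = y * (h : G) :=
    mul_inv_eq_iff_eq_mul.1
      (congrArg (fun u : Additive (S : Subgroup G) => (u.toMul : G)) (hfix h))
  show (a : G) * h * y = y * (a * h)
  rw [mul_assoc, e1, ← mul_assoc, hSc a a.2 y hy, mul_assoc]

/-- In a group with `O_q' = 1`, a normal abelian Sylow `q`-subgroup all whose elements have classes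
of `p`-power size forces solvability. -/
theorem solvable_of_ppow (S : Sylow q G) [hSn : (S : Subgroup G).Normal]
    (hSc : ∀ a ∈ (S : Subgroup G), ∀ b ∈ (S : Subgroup G), a * b = b * a)
    (h0 : Cfsg.pPrimeCore q G = ⊥) {p : ℕ} (hp : p.Prime)
    (hall : ∀ a ∈ (S : Subgroup G), ∃ k, (Subgroup.centralizer ({a} : Set G)).index = p ^ k) :
    Group.IsSolvable G := by
  obtain ⟨H, hH⟩ := Subgroup.exists_right_complement'_of_coprime S.card_coprime_index
  letI : CommGroup (S : Subgroup G) :=
    { (inferInstance : Group (S : Subgroup G)) with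
      mul_comm := fun a b => Subtype.ext (hSc a a.2 b b.2) }
  letI := conjAction (S : Subgroup G) H
  have hcop : (Nat.card H).Coprime q := by
    rw [← hH.symm.index_eq_card]
    exact ((hq.out.coprime_iff_not_dvd).2 S.not_dvd_index).symm
  haveI : Group.IsSolvable H := by
    refine H74OrbitSolvable.solvable (V := Additive (S : Subgroup G)) hp hq.out ?_ hcop
      (fun v => (S.2 v.toMul).imp fun i hi => hi) (fun v => ?_)
    · intro h hh
      let K : Subgroup G := H ⊓ Subgroup.centralizer ((S : Subgroup G) : Set G)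
      have hcomm : ∀ k ∈ K, ∀ a ∈ (S : Subgroup G), a * k = k * a := fun k hk a ha =>
        Subgroup.mem_centralizer_iff.1 hk.2 a ha
      haveI : K.Normal := ⟨fun k hk g => by
        obtain ⟨⟨a, b⟩, rfl⟩ := hH.2 g
        have h1 : (b : G) * k * (b : G)⁻¹ ∈ K :=
          ⟨H.mul_mem (H.mul_mem b.2 hk.1) (H.inv_mem b.2),
            (inferInstance : (Subgroup.centralizer ((S : Subgroup G) : Set G)).Normal).conj_mem k
              hk.2 _⟩
        show (a : G) * b * k * ((a : G) * b)⁻¹ ∈ K
        have h2 : (a : G) * b * k * ((a : G) * b)⁻¹ = a * (b * k * (b : G)⁻¹) * (a : G)⁻¹ := by group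
        rw [h2, hcomm _ h1 a a.2, mul_inv_cancel_right]
        exact h1⟩
      have hK : K = ⊥ := by
        rw [eq_bot_iff, ← h0]
        exact ComponentsCores.le_pPrimeCore'
          (Nat.Coprime.coprime_dvd_left (Subgroup.card_dvd_of_le inf_le_left) hcop)
      have hhK : (h : G) ∈ K := by
        refine ⟨h.2, Subgroup.mem_centralizer_iff.2 fun a ha => ?_⟩
        have e1 := congrArg (fun u : Additive (S : Subgroup G) => (u.toMul : G))
          (hh (Additive.ofMul ⟨a, ha⟩))
        exact (mul_inv_eq_iff_eq_mul.1 e1).symm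
      rw [hK, Subgroup.mem_bot] at hhK
      exact Subtype.ext hhK
    · obtain ⟨k, hk⟩ := hall (v.toMul : G) v.toMul.2
      refine ⟨k, ?_⟩
      rw [show v = Additive.ofMul v.toMul from rfl, index_stab hH _ (fun a ha =>
        Subgroup.mem_centralizer_singleton_iff.2 (hSc a ha _ v.toMul.2))]
      exact hk
  haveI : Group.IsSolvable (S : Subgroup G) := Group.isSolvable_of_comm mul_comm
  haveI : Group.IsSolvable (G ⧸ (S : Subgroup G)) := by
    refine Group.isSolvable_of_surjective (f := (QuotientGroup.mk' (S : Subgroup G)).comp H.subtype) ?_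
    intro c
    obtain ⟨g, rfl⟩ := QuotientGroup.mk'_surjective _ c
    obtain ⟨⟨a, b⟩, rfl⟩ := hH.2 g
    refine ⟨b, ?_⟩
    show QuotientGroup.mk' _ (b : G) = QuotientGroup.mk' _ ((a : G) * b)
    rw [map_mul, show QuotientGroup.mk' (S : Subgroup G) (a : G) = 1 from
      (QuotientGroup.eq_one_iff _).2 a.2, one_mul]
  refine Group.isSolvable_of_ker_le_range (S : Subgroup G).subtype
    (QuotientGroup.mk' (S : Subgroup G)) ?_
  rw [QuotientGroup.ker_mk', Subgroup.range_subtype]

end abelianSylow

end Cfsg.Agent.H74QBaer
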