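import Mathlib
import Cfsg.Agent.Lib.QuadraticMain

/-!
No quadratic action: two braiding quadratic elements whose braid is an involution coincide, groups
isomorphic to `PSL₂(F)`, `|F|` odd, and groups with abelian Sylow 2-subgroups.
-/

set_option autoImplicit false

open scoped MatrixGroups commutatorElement

namespace Cfsg.Agent.H74Quadratic

/-- Two quadratic elements satisfying the braid relation whose braid is an involution coincide. -/
theorem braid_eq {R : Type*} [Ring R] (h2 : ∀ x : R, x + x = 0 → x = 0) {U W : R} (hU : U * U = 0)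
    (hW : W * W = 0) (hbr : (1 + U) * (1 + W) * (1 + U) = (1 + W) * (1 + U) * (1 + W))
    (hsq : ((1 + U) * (1 + W) * (1 + U)) * ((1 + U) * (1 + W) * (1 + U)) = 1) : U = W := by
  have hU' : ∀ x, U * (U * x) = 0 := fun x => by rw [← mul_assoc, hU, zero_mul]
  have hW' : ∀ x, W * (W * x) = 0 := fun x => by rw [← mul_assoc, hW, zero_mul]
  have hM : U + U * (W * U) = W + W * (U * W) := by
    have e1 : (1 + U) * (1 + W) * (1 + U) =
        (1 + U + W + U * W + W * U) + (U + U * (W * U)) := by
      simp only [add_mul, mul_add, one_mul, mul_one, mul_assoc, hU]; abel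
    have e2 : (1 + W) * (1 + U) * (1 + W) =
        (1 + U + W + U * W + W * U) + (W + W * (U * W)) := by
      simp only [add_mul, mul_add, one_mul, mul_one, mul_assoc, hW]; abel
    rw [e1, e2] at hbr
    exact add_left_cancel hbr
  have hi : U * W + U * (W * (U * W)) = 0 := by
    have h := congrArg (U * ·) hM
    simp only [mul_add, hU, hU', add_zero] at h
    exact h.symm
  have hi' : U * (W * (U * W)) = -(U * W) := eq_neg_of_add_eq_zero_right hi
  have hi2 : ∀ x, U * (W * (U * (W * x))) = -(U * (W * x)) := fun x => by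
    have := congrArg (· * x) hi'
    simpa only [mul_assoc, neg_mul] using this
  set w := (1 + U) * (1 + W) * (1 + U) with hw
  have e3 : U * W * w = U * (W * U) := by
    simp only [hw, add_mul, mul_add, one_mul, mul_one, mul_assoc, hU, hU', hW, hW', hi', hi2,
      mul_zero, add_zero, zero_add]
    abel
  have e4 : U * (W * U) * w = -(U * W) := by
    simp only [hw, add_mul, mul_add, one_mul, mul_one, mul_assoc, hU, hU', hW, hW', hi', hi2,
      mul_zero, add_zero, zero_add]
    abel
  have e5 : U * W = -(U * W) := by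
    calc U * W = U * W * (w * w) := by rw [hsq, mul_one]
      _ = U * (W * U) * w := by rw [← mul_assoc, e3]
      _ = -(U * W) := e4
  have e6 : U * W = 0 := h2 _ (eq_neg_iff_add_eq_zero.1 e5)
  have e7 : U * (W * U) = 0 := by rw [← mul_assoc, e6, zero_mul]
  have e8 : W * (U * W) = 0 := by rw [e6, mul_zero]
  rw [e7, e8, add_zero, add_zero] at hM
  exact hM

/-- A `p`-element of `SL(2,F)` modulo sign braids with another element, with braid squaring to `-1`. -/
theorem exists_braid {F : Type*} [Field F] (h2 : (2 : F) ≠ 0) {N : Matrix (Fin 2) (Fin 2) F}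
    (htr : N 0 0 + N 1 1 = 0) (hdet : N 0 0 * N 1 1 - N 0 1 * N 1 0 = 0) (hN : N ≠ 0) :
    ∃ u v : SL(2, F), u.1 = 1 + N ∧ u * v * u = v * u * v ∧ (u * v * u) * (u * v * u) = -1 ∧
      v ≠ u ∧ v ≠ -u := by
  have h11 : N 1 1 = -N 0 0 := by linear_combination htr
  rw [h11] at hdet
  have hu : (1 + N).det = 1 := by
    rw [Matrix.det_fin_two]
    simp only [Matrix.add_apply, Matrix.one_apply_eq, ne_eq, zero_ne_one, not_false_eq_true,
      Matrix.one_apply_ne, one_ne_zero, h11]
    linear_combination hdet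
  refine ⟨⟨1 + N, hu⟩, ?_⟩
  by_cases hb : N 0 1 = 0
  · have ha : N 0 0 = 0 := by
      rw [hb, zero_mul, sub_zero] at hdet
      simpa using hdet
    have hc : N 1 0 ≠ 0 := fun hc => hN (by
      ext i j; fin_cases i <;> fin_cases j <;> simp [ha, hb, hc, h11])
    refine ⟨⟨!![1, -(N 1 0)⁻¹; 0, 1], by simp [Matrix.det_fin_two]⟩, rfl, ?_, ?_, ?_, ?_⟩
    · apply Subtype.ext
      show (1 + N) * !![1, -(N 1 0)⁻¹; 0, 1] * (1 + N) = !![1, -(N 1 0)⁻¹; 0, 1] * (1 + N) * !![1, -(N 1 0)⁻¹; 0, 1]
      ext i j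
      fin_cases i <;> fin_cases j <;>
        simp [Matrix.mul_apply, Matrix.vecMul, dotProduct, Fin.sum_univ_two, ha, hb, h11, hc] <;>
        field_simp <;> ring
    · apply Subtype.ext
      show (1 + N) * !![1, -(N 1 0)⁻¹; 0, 1] * (1 + N) * ((1 + N) * !![1, -(N 1 0)⁻¹; 0, 1] * (1 + N)) = -1
      ext i j
      fin_cases i <;> fin_cases j <;>
        simp [Matrix.mul_apply, Matrix.vecMul, dotProduct, Fin.sum_univ_two, ha, hb, h11, hc] <;>
        field_simp <;> ring
    · intro h
      have := congrArg (fun g : SL(2, F) => g.1 1 0) h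
      simp at this
      exact hc this.symm
    · intro h
      have : (0 : F) = -((1 + N) 1 0) := congrArg (fun g : SL(2, F) => g.1 1 0) h
      simp at this
      exact hc this
  · refine ⟨⟨!![1, 0; -(N 0 1)⁻¹, 1], by simp [Matrix.det_fin_two]⟩, rfl, ?_, ?_, ?_, ?_⟩
    · have hc : N 1 0 = -(N 0 0 * N 0 0) / N 0 1 := by
        field_simp; linear_combination -hdet
      apply Subtype.ext
      show (1 + N) * !![1, 0; -(N 0 1)⁻¹, 1] * (1 + N) = !![1, 0; -(N 0 1)⁻¹, 1] * (1 + N) * !![1, 0; -(N 0 1)⁻¹, 1]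
      ext i j
      fin_cases i <;> fin_cases j <;>
        simp [Matrix.mul_apply, Matrix.vecMul, dotProduct, Fin.sum_univ_two, h11, hc] <;>
        field_simp <;> ring
    · have hc : N 1 0 = -(N 0 0 * N 0 0) / N 0 1 := by
        field_simp; linear_combination -hdet
      apply Subtype.ext
      show (1 + N) * !![1, 0; -(N 0 1)⁻¹, 1] * (1 + N) * ((1 + N) * !![1, 0; -(N 0 1)⁻¹, 1] * (1 + N)) = -1
      ext i j
      fin_cases i <;> fin_cases j <;>
        simp [Matrix.mul_apply, Matrix.vecMul, dotProduct, Fin.sum_univ_two, h11, hc] <;>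
        field_simp <;> ring
    · intro h
      have := congrArg (fun g : SL(2, F) => g.1 0 1) h
      simp at this
      exact hb this.symm
    · intro h
      have : (0 : F) = -((1 + N) 0 1) := congrArg (fun g : SL(2, F) => g.1 0 1) h
      simp at this
      exact hb this

variable {p : ℕ} [Fact p.Prime]

/-- No nontrivial quadratic element in a faithful module of `PSL(2,F)`, `|F| = pⁿ` odd. -/
theorem psl_quad {X : Type*} [Group X] [Finite X] {M : Type*} [AddCommGroup M] [Module (ZMod p) M]
    [Finite M] (ρ : X →* Module.End (ZMod p) M) (hρ : Function.Injective ρ)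
    {F : Type*} [Field F] [Fintype F] {n : ℕ} (hF : Fintype.card F = p ^ n)
    (hodd : Odd (Fintype.card F)) (e : X ≃* Matrix.ProjectiveSpecialLinearGroup (Fin 2) F)
    {x : X} (hx : (ρ x - 1) * (ρ x - 1) = 0) : x = 1 := by
  classical
  by_contra hx1
  have hn : n ≠ 0 := fun h => by
    have := Fintype.one_lt_card (α := F)
    rw [hF, h, pow_zero] at this
    exact lt_irrefl _ this
  haveI : CharP F p := charP_of_card_eq_prime_pow (f := n) hF
  have hp2 : p ≠ 2 := fun h => by
    rw [hF, h] at hodd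
    exact Nat.not_even_iff_odd.2 hodd ((Nat.even_pow).2 ⟨even_two, hn⟩)
  have h2F : (2 : F) ≠ 0 := fun h => by
    have hd : p ∣ 2 := (CharP.cast_eq_zero_iff F p 2).1 (by exact_mod_cast h)
    exact hp2 ((Nat.prime_dvd_prime_iff_eq Fact.out Nat.prime_two).1 hd)
  have hxp : x ^ p = 1 := QuadraticMain.pow_eq_one_of_quad ρ hρ hx
  obtain ⟨g, hg⟩ := QuotientGroup.mk_surjective (e x)
  have hker : ∀ y : SL(2, F), (y : Matrix.ProjectiveSpecialLinearGroup (Fin 2) F) = 1 ↔
      y = 1 ∨ y = -1 := by
    intro y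
    rw [QuotientGroup.eq_one_iff, Matrix.SpecialLinearGroup.mem_center_iff]
    constructor
    · rintro ⟨r, hr, hry⟩
      rw [Fintype.card_fin] at hr
      rcases sq_eq_one_iff.1 hr with rfl | rfl
      · left; exact Subtype.ext (by rw [← hry, map_one]; rfl)
      · right; exact Subtype.ext (by rw [← hry, map_neg, map_one]; rfl)
    · rintro (rfl | rfl)
      · exact ⟨1, by simp, by simp⟩
      · exact ⟨-1, by simp, by simp [← Matrix.diagonal_one, Matrix.diagonal_neg]⟩
  have hodd' : Odd p := (Fact.out : p.Prime).odd_of_ne_two hp2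
  obtain ⟨g', hg', hg'p⟩ : ∃ g' : SL(2, F),
      (g' : Matrix.ProjectiveSpecialLinearGroup (Fin 2) F) = e x ∧ g' ^ p = 1 := by
    have h1 : ((g ^ p : SL(2, F)) : Matrix.ProjectiveSpecialLinearGroup (Fin 2) F) = 1 := by
      rw [QuotientGroup.mk_pow, hg, ← map_pow, hxp, map_one]
    rcases (hker _).1 h1 with h | h
    · exact ⟨g, hg, h⟩
    · refine ⟨-g, ?_, by rw [hodd'.neg_pow, h, neg_neg]⟩
      rw [← hg, QuotientGroup.eq]
      have : (-g)⁻¹ * g = -1 := by
        rw [show (-g) = -1 * g by simp, mul_inv_rev, mul_assoc,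
          show ((-1 : SL(2, F))⁻¹) = -1 by
            apply inv_eq_of_mul_eq_one_right; simp]
        simp
      rw [this, ← QuotientGroup.eq_one_iff]
      exact (hker _).2 (Or.inr rfl)
  set N : Matrix (Fin 2) (Fin 2) F := g'.1 - 1 with hN
  haveI : CharP (Matrix (Fin 2) (Fin 2) F) p := Matrix.charP p
  have hNp : N ^ p = 0 := by
    have h := congrArg Subtype.val hg'p
    rw [hN, sub_pow_char_of_commute (p := p) (Commute.one_right _), one_pow, sub_eq_zero]
    simpa using h
  have hdet : N.det = 0 := by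
    have := congrArg Matrix.det hNp
    rw [Matrix.det_pow, Matrix.det_zero] at this
    exact pow_eq_zero_iff (Fact.out : p.Prime).ne_zero |>.1 this
  have hCH : N * N = (N 0 0 + N 1 1) • N := by
    rw [Matrix.det_fin_two] at hdet
    ext i j
    fin_cases i <;> fin_cases j <;>
      simp [Matrix.mul_apply, Fin.sum_univ_two] <;> first | linear_combination -hdet | ring
  have hN0 : N ≠ 0 := fun h => hx1 (e.injective (by
    have : g' = 1 := Subtype.ext (sub_eq_zero.1 h)
    rw [map_one, ← hg', this, QuotientGroup.mk_one]))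
  have htr : N 0 0 + N 1 1 = 0 := by
    by_contra ht
    have hk : ∀ k : ℕ, N ^ (k + 1) = (N 0 0 + N 1 1) ^ k • N := by
      intro k
      induction k with
      | zero => simp
      | succ k ih => rw [pow_succ, ih, smul_mul_assoc, hCH, smul_smul, ← pow_succ]
    obtain ⟨k, hk'⟩ := Nat.exists_eq_add_one.2 (Fact.out : p.Prime).pos
    rw [hk', hk] at hNp
    exact hN0 ((smul_eq_zero.1 hNp).resolve_left (pow_ne_zero _ ht))
  rw [Matrix.det_fin_two] at hdet
  obtain ⟨u, v, hu, hbr, hsq, hne1, hne2⟩ := exists_braid h2F htr hdet hN0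
  have hug : u = g' := Subtype.ext (by rw [hu, hN, add_sub_cancel])
  subst hug
  set y := e.symm (v : Matrix.ProjectiveSpecialLinearGroup (Fin 2) F) with hy
  have hxe : x = e.symm (u : Matrix.ProjectiveSpecialLinearGroup (Fin 2) F) := by
    rw [hg', e.symm_apply_apply]
  have hbr' : x * y * x = y * x * y := by
    rw [hxe, hy, ← map_mul, ← map_mul, ← map_mul, ← map_mul, ← QuotientGroup.mk_mul,
      ← QuotientGroup.mk_mul, hbr, QuotientGroup.mk_mul, QuotientGroup.mk_mul]
  have hsq' : (x * y * x) * (x * y * x) = 1 := by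
    rw [hxe, hy, ← map_mul, ← map_mul, ← map_mul, ← QuotientGroup.mk_mul, ← QuotientGroup.mk_mul,
      ← QuotientGroup.mk_mul, hsq, (hker _).2 (Or.inr rfl), map_one]
  have hconj : y = (x * y) * x * (x * y)⁻¹ := by
    rw [eq_mul_inv_iff_mul_eq, ← mul_assoc, ← hbr']
  have hy2 : (ρ y - 1) * (ρ y - 1) = 0 := by
    rw [hconj]; exact QuadraticMain.quad_conj ρ _ hx
  have hU := braid_eq (R := Module.End (ZMod p) M) (fun z hz => by
      have h2 : (2 : ZMod p) ≠ 0 := fun h => by
        have hd : p ∣ 2 := (CharP.cast_eq_zero_iff (ZMod p) p 2).1 (by exact_mod_cast h)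
        exact hp2 ((Nat.prime_dvd_prime_iff_eq Fact.out Nat.prime_two).1 hd)
      have : (2 : ZMod p) • z = 0 := by rw [two_smul]; exact hz
      exact (smul_eq_zero.1 this).resolve_left h2) hx hy2
    (by simp only [add_sub_cancel]; rw [← map_mul, ← map_mul, ← map_mul, ← map_mul, hbr'])
    (by simp only [add_sub_cancel]; rw [← map_mul, ← map_mul, ← map_mul, hsq', map_one])
  have hxy : x = y := hρ (sub_left_inj.1 hU)
  have h1 : ((u : SL(2, F)) : Matrix.ProjectiveSpecialLinearGroup (Fin 2) F) =
      (v : Matrix.ProjectiveSpecialLinearGroup (Fin 2) F) := by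
    rw [hxe, hy] at hxy
    exact e.symm.injective hxy
  rw [QuotientGroup.eq, ← QuotientGroup.eq_one_iff, hker] at h1
  rcases h1 with h | h
  · exact hne1 (inv_mul_eq_one.1 h).symm
  · exact hne2 (by rw [inv_mul_eq_iff_eq_mul.1 h]; simp)

end Cfsg.Agent.H74Quadratic
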