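import Cfsg.Agent.Lib.ReeInstance17

/-!
The Sylow 2-subgroups of `²G₂(q)` are abelian.
-/

set_option autoImplicit false
set_option maxRecDepth 20000

namespace Cfsg.Agent.H74ReeTwo

open Matrix Cfsg.Lie Cfsg.Agent.ChevalleyCert Cfsg.Agent.ChevalleyCore
open Cfsg.Agent.ReeSL2 Cfsg.Agent.ReeInstance17 Cfsg.Agent.ChevalleyTorus
open scoped MatrixGroups

variable {K : Type*} [Field K] [Fintype K] [CharP K 3] (X : Ctx K)

/-- The involution of the torus. -/
noncomputable def invol : GL chevG2.Idx K := X.tor (-1)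

theorem invol_sq : invol X * invol X = 1 := by
  rw [invol, ← map_mul, neg_mul_neg, mul_one, map_one]

theorem par_neg_one (i : Fin chevG2.rank) : X.par (-1) i = -1 := by
  show (if i.val = 0 then Units.map X.θ.toMonoidHom (-1) else -1) = (-1 : Kˣ)
  split_ifs with h
  · exact Units.ext (by simp)
  · rfl

theorem root_even : ∀ s ∈ ([8, 3, 10, 1] : List ℕ), s < chevG2.nroots ∧
    Even (∑ i : Fin chevG2.rank, chevG2.cartan i.val s) := by decide +kernel

theorem invol_commute_xg {s : ℕ} (h : s ∈ ([8, 3, 10, 1] : List ℕ)) (t : K) :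
    Commute (invol X) (xg c2 s t) := by
  obtain ⟨hs, hev⟩ := root_even s h
  have h1 : tchar chevG2 (X.par (-1)) s = 1 := by
    simp only [tchar, par_neg_one]
    have hzs : ∀ (S : Finset (Fin chevG2.rank)), ∏ i ∈ S, (-1 : Kˣ) ^ chevG2.cartan i.val s =
        (-1 : Kˣ) ^ ∑ i ∈ S, chevG2.cartan i.val s := by
      intro S
      induction S using Finset.induction_on with
      | empty => simp
      | insert a S ha ih => rw [Finset.prod_insert ha, Finset.sum_insert ha, ih, _root_.zpow_add]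
    rw [hzs, hev.neg_one_zpow]
  have h2 := torus_conj_xg c2 hs (X.par (-1)) t
  rw [h1, Units.val_one, one_mul, mul_inv_eq_iff_eq_mul] at h2
  exact h2

theorem invol_commute_psi (g : SL(2, K)) : Commute (invol X) (psi X.θ g) := by
  have key : ∀ A B : ℕ, A ∈ ([8, 3, 10, 1] : List ℕ) → B ∈ ([8, 3, 10, 1] : List ℕ) →
      Subgroup.closure (Set.range (fun t : K => xg c2 A t) ∪ Set.range fun t : K => xg c2 B t) ≤
        Subgroup.centralizer {invol X} := by
    intro A B hA hB
    rw [Subgroup.closure_le]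
    rintro _ (⟨t, rfl⟩ | ⟨t, rfl⟩) <;>
      rw [SetLike.mem_coe, Subgroup.mem_centralizer_singleton_iff]
    · exact (invol_commute_xg X hA t).eq.symm
    · exact (invol_commute_xg X hB t).eq.symm
  have h8 : phi8 X.θ g ∈ Subgroup.centralizer {invol X} := by
    refine key 8 3 (by simp) (by simp) ?_
    rw [← ChevalleySL2.range_phi rels8]; exact ⟨_, rfl⟩
  have h10 : phi10 g ∈ Subgroup.centralizer {invol X} := by
    refine key 10 1 (by simp) (by simp) ?_
    rw [← ChevalleySL2.range_phi rels10]; exact ⟨_, rfl⟩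
  exact (Subgroup.mem_centralizer_singleton_iff.1 (mul_mem h8 h10)).symm

theorem neg_one_mem_center : (-1 : SL(2, K)) ∈ Subgroup.center SL(2, K) :=
  Subgroup.mem_center_iff.2 fun g => by simp

theorem two_ne : (2 : K) ≠ 0 := fun h => by
  have := (CharP.cast_eq_zero_iff K 3 2).1 (by exact_mod_cast h)
  omega

theorem psi_neg (g : SL(2, K)) : psi X.θ (-g) = psi X.θ g := by
  rw [← neg_one_mul g, map_mul, show psi X.θ (-1 : SL(2, K)) = 1 from
    center_le_ker X.θ neg_one_mem_center, one_mul]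

theorem invol_ne_one : invol X ≠ 1 := by
  intro h
  have h1 : X.par (-1) = 1 := Ctx.torus_inj (by rw [map_one]; exact h)
  have h2 := congrFun h1 ⟨1, by decide⟩
  rw [par_neg_one] at h2
  have h3 : (-1 : K) = 1 := congrArg Units.val h2
  exact two_ne (K := K) (by linear_combination -h3)

/-- The second element of the four-group. -/
noncomputable def jel : SL(2, K) := ⟨!![1, 1; 1, -1], by
  rw [det_fin_two_of]
  linear_combination -(CharP.cast_eq_zero K 3 : ((3 : ℕ) : K) = 0)⟩

theorem ne_invol {g : SL(2, K)}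
    (hg : g * ChevalleySL2.upper 1 ≠ ChevalleySL2.upper 1 * g)
    (hg' : g * ChevalleySL2.upper 1 ≠ -(ChevalleySL2.upper 1 * g)) : invol X ≠ psi X.θ g := by
  intro h
  have hc := (invol_commute_psi X (ChevalleySL2.upper 1)).eq
  rw [h, ← map_mul, ← map_mul] at hc
  have hk : (ChevalleySL2.upper 1 * g)⁻¹ * (g * ChevalleySL2.upper 1) ∈ Subgroup.center SL(2, K) :=
    ker_psi X.θ two_ne (by rw [MonoidHom.mem_ker, map_mul, map_inv, hc, inv_mul_cancel])
  obtain ⟨r, hr, hrz⟩ := Matrix.SpecialLinearGroup.mem_center_iff.1 hk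
  rw [Fintype.card_fin] at hr
  rcases sq_eq_one_iff.1 hr with rfl | rfl
  · have : (ChevalleySL2.upper 1 * g)⁻¹ * (g * ChevalleySL2.upper 1) = 1 :=
      Subtype.ext (by rw [← hrz, map_one]; rfl)
    exact hg (inv_mul_eq_one.1 this).symm
  · have : (ChevalleySL2.upper 1 * g)⁻¹ * (g * ChevalleySL2.upper 1) = -1 :=
      Subtype.ext (by rw [← hrz, map_neg, map_one]; rfl)
    exact hg' (by rw [inv_mul_eq_iff_eq_mul.1 this]; simp)

theorem sylow_card_le {m : ℕ} (hK : Fintype.card K = 3 ^ (2 * m + 1))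
    (T : Sylow 2 ↥X.G1) :
    Nat.card T ∣ 8 ∧ (Odd (Nat.card ↥(chevG2.diagonalSubgroup K ⊓ X.G1)) → Nat.card T ∣ 4) := by
  haveI : Fact (Nat.Prime 2) := ⟨Nat.prime_two⟩
  obtain ⟨k, hk⟩ := T.isPGroup'.exists_card_eq
  have hq8 : Fintype.card K % 8 = 3 := by
    rw [hK, pow_succ, pow_mul, Nat.mul_mod, Nat.pow_mod]; norm_num
  have hd : Nat.card T ∣ Nat.card ↥X.G1 := Subgroup.card_subgroup_dvd_card _
  rw [hk] at hd ⊢
  have hq3 : (1 + Fintype.card K ^ 3) % 8 = 4 := by
    rw [Nat.add_mod, Nat.pow_mod, hq8]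
  obtain ⟨c, hc⟩ : ∃ c, 1 + Fintype.card K ^ 3 = 4 * c ∧ ¬ 2 ∣ c :=
    ⟨(1 + Fintype.card K ^ 3) / 4, by omega, by omega⟩
  have hqodd : ¬ 2 ∣ Fintype.card K ^ 3 := fun h => by
    have := Nat.prime_two.dvd_of_dvd_pow h; omega
  have hcop : ∀ {n : ℕ}, ¬ 2 ∣ n → (2 ^ k).Coprime n := fun hn =>
    Nat.Coprime.pow_left _ (Nat.prime_two.coprime_iff_not_dvd.2 hn)
  have main : ∀ {h : ℕ}, 2 ^ k ∣ h * Fintype.card K ^ 3 * (1 + Fintype.card K ^ 3) →
      2 ^ k ∣ h * 4 := by
    intro h hh
    rw [hc.1, ← mul_assoc] at hh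
    have h1 := (hcop hc.2).dvd_of_dvd_mul_right hh
    rw [mul_right_comm] at h1
    exact (hcop hqodd).dvd_of_dvd_mul_right h1
  constructor
  · have h1 := main (hd.trans X.card_G1_dvd)
    obtain ⟨d, hd', hdodd⟩ : ∃ d, Fintype.card K - 1 = 2 * d ∧ ¬ 2 ∣ d :=
      ⟨(Fintype.card K - 1) / 2, by omega, by omega⟩
    rw [hd', show 2 * d * 4 = 8 * d by ring] at h1
    exact (hcop hdodd).dvd_of_dvd_mul_right h1
  · intro ho
    rw [X.card_G1] at hd
    exact (hcop (fun h => Nat.not_even_iff_odd.2 ho (even_iff_two_dvd.2 h))).dvd_of_dvd_mul_left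
      (main hd)

theorem odd_H1 (ht : invol X ∉ X.G1) :
    Odd (Nat.card ↥(chevG2.diagonalSubgroup K ⊓ X.G1)) := by
  haveI : Fact (Nat.Prime 2) := ⟨Nat.prime_two⟩
  by_contra hodd
  obtain ⟨⟨h, hh⟩, hord⟩ := exists_prime_orderOf_dvd_card' 2
    (even_iff_two_dvd.1 (Nat.not_odd_iff_even.1 hodd))
  rw [Subgroup.orderOf_mk] at hord
  obtain ⟨c, rfl⟩ := X.H1_le hh
  have hpar : X.par c ^ 2 = 1 := Ctx.torus_inj (by
    rw [map_pow, map_one]; exact (orderOf_eq_iff (by norm_num)).1 hord |>.1)
  have hc : c ^ 2 = 1 := congrFun hpar ⟨1, by decide⟩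
  rcases sq_eq_one_iff.1 (show ((c : K)) ^ 2 = 1 by
    rw [← Units.val_pow_eq_pow_val, hc, Units.val_one]) with h1 | h1
  · rw [Units.ext (show (c : K) = (1 : Kˣ) from h1), map_one, orderOf_one] at hord
    exact absurd hord (by norm_num)
  · rw [Units.ext (show (c : K) = ((-1 : Kˣ) : K) by simpa using h1)] at hh
    exact ht hh.2

theorem sylow_abelian {m : ℕ} (hK : Fintype.card K = 3 ^ (2 * m + 1))
    (T : Sylow 2 ↥X.G1) : IsMulCommutative T := by
  haveI : Fact (Nat.Prime 2) := ⟨Nat.prime_two⟩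
  by_cases ht : invol X ∈ X.G1
  · -- an elementary abelian subgroup of order 8
    have hmem : ∀ g : SL(2, K), psi X.θ g ∈ X.G1 := fun g => range_le X.θ X.spec X.e_ne ⟨g, rfl⟩
    set t : ↥X.G1 := ⟨invol X, ht⟩ with htd
    set f : SL(2, K) →* ↥X.G1 := (psi X.θ).codRestrict _ hmem with hf
    set w : SL(2, K) := ChevalleySL2.wel with hw
    have h3 : (3 : K) = 0 := by exact_mod_cast CharP.cast_eq_zero K 3
    have h2 := two_ne (K := K)
    have hneg : ∀ g, f (-g) = f g := fun g => Subtype.ext (psi_neg X g)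
    have hw2 : w * w = -1 := by
      apply Subtype.ext
      show !![(0 : K), 1; -1, 0] * !![0, 1; -1, 0] = -1
      ext i j; fin_cases i <;> fin_cases j <;> simp
    have hj2 : jel * jel = (-1 : SL(2, K)) := by
      apply Subtype.ext
      show !![(1 : K), 1; 1, -1] * !![1, 1; 1, -1] = -1
      ext i j; fin_cases i <;> fin_cases j <;> simp <;> linear_combination h3
    have hjw : jel * w = -(w * jel) := by
      apply Subtype.ext
      show !![(1 : K), 1; 1, -1] * !![0, 1; -1, 0] = -(!![0, 1; -1, 0] * !![1, 1; 1, -1])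
      ext i j; fin_cases i <;> fin_cases j <;> simp
    have hc : f jel * f w = f w * f jel := by rw [← map_mul, ← map_mul, hjw, hneg]
    have ht1 : ∀ g, t * f g = f g * t := fun g => Subtype.ext (invol_commute_psi X g).eq
    have hsq : t * t = 1 ∧ f w * f w = 1 ∧ f jel * f jel = 1 := by
      refine ⟨Subtype.ext (invol_sq X), ?_, ?_⟩ <;>
        rw [← map_mul] <;> simp only [hw2, hj2, hneg, map_one]
    set A : Subgroup ↥X.G1 := Subgroup.closure {t, f w, f jel} with hA
    have hcomm : ∀ x ∈ ({t, f w, f jel} : Set ↥X.G1), ∀ y ∈ ({t, f w, f jel} : Set ↥X.G1),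
        x * y = y * x := by
      rintro x (rfl | rfl | rfl) y (rfl | rfl | rfl) <;>
        first | rfl | exact ht1 _ | exact (ht1 _).symm | exact hc | exact hc.symm
    haveI hAc : IsMulCommutative A := Subgroup.isMulCommutative_closure hcomm
    have hexp : ∀ x ∈ A, x * x = 1 := by
      intro x hx
      induction hx using Subgroup.closure_induction with
      | mem x hx => rcases hx with rfl | rfl | rfl <;> simp only [hsq]
      | one => simp
      | mul x y hx hy ihx ihy =>
        have hxy : y * x = x * y := congrArg Subtype.val (hAc.is_comm.comm (⟨y, hy⟩ : A) ⟨x, hx⟩)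
        calc x * y * (x * y) = x * (y * x) * y := by group
          _ = x * x * (y * y) := by rw [hxy]; group
          _ = 1 := by rw [ihx, ihy, one_mul]
      | inv x hx ih => rw [← _root_.mul_inv_rev, ih, inv_one]
    have hAp : IsPGroup 2 A := fun x => ⟨1, Subtype.ext (by
      rw [pow_one, SubmonoidClass.coe_pow, sq]; exact hexp _ x.2)⟩
    obtain ⟨T', hT'⟩ := hAp.exists_le_sylow
    have hd8 := (sylow_card_le X hK T').1
    have hAd : Nat.card A ∣ 8 := (Subgroup.card_dvd_of_le hT').trans hd8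
    -- five distinct elements
    have fw1 : f w ≠ 1 := fun h => by
      have := lower_zero_of_ker X.θ (congrArg Subtype.val h)
      simp [hw, ChevalleySL2.wel] at this
    have fj1 : f jel ≠ 1 := fun h => by
      have := lower_zero_of_ker X.θ (congrArg Subtype.val h)
      simp [jel] at this
    have fwj1 : f (w * jel) ≠ 1 := fun h => by
      have h0 : ((!![0, 1; -1, 0] : Matrix (Fin 2) (Fin 2) K) *
          (!![1, 1; 1, -1] : Matrix (Fin 2) (Fin 2) K) : Matrix (Fin 2) (Fin 2) K) 1 0 = 0 :=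
        lower_zero_of_ker X.θ (congrArg Subtype.val h)
      simp at h0
    have fwj : f w ≠ f jel := fun h => fwj1 (by rw [map_mul, ← h, hsq.2.1])
    have ht0 : t ≠ 1 := fun h => invol_ne_one X (congrArg Subtype.val h)
    have hu : (ChevalleySL2.upper (1 : K) : Matrix (Fin 2) (Fin 2) K) = !![1, 1; 0, 1] := rfl
    have htg : ∀ (g : SL(2, K)) (i j i' j' : Fin 2),
        (g * ChevalleySL2.upper 1).1 i j ≠ (ChevalleySL2.upper 1 * g).1 i j →
        (g * ChevalleySL2.upper 1).1 i' j' ≠ (-(ChevalleySL2.upper 1 * g)).1 i' j' → t ≠ f g := by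
      intro g i j i' j' h1 h1' h
      refine ne_invol X (g := g) (fun e => h1 ?_) (fun e => h1' ?_) (congrArg Subtype.val h)
      · exact congrArg (fun z : SL(2, K) => z.1 i j) e
      · exact congrArg (fun z : SL(2, K) => z.1 i' j') e
    have tw : t ≠ f w := htg w 0 0 0 1 (by simp only [Matrix.SpecialLinearGroup.coe_mul, Matrix.SpecialLinearGroup.coe_neg]; simp [hw, hu, ChevalleySL2.wel])
      (by simp only [Matrix.SpecialLinearGroup.coe_mul, Matrix.SpecialLinearGroup.coe_neg]; simp [hw, hu, ChevalleySL2.wel]; intro h; exact h2 (by linear_combination h))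
    have tj : t ≠ f jel := htg jel 0 0 0 1 (by
        simp only [Matrix.SpecialLinearGroup.coe_mul, Matrix.SpecialLinearGroup.coe_neg]; simp [jel, hu])
      (by simp only [Matrix.SpecialLinearGroup.coe_mul, Matrix.SpecialLinearGroup.coe_neg]; simp [jel, hu]; intro h; exact h2 (by linear_combination h))
    have hcard : 5 ≤ Nat.card A := by
      classical
      have hs : ({1, t, f w, f jel, f w * f jel} : Finset ↥X.G1).card = 5 := by
        have twj : t ≠ f w * f jel := by
          rw [← map_mul]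
          refine htg (w * jel) 1 1 1 0 ?_ ?_ <;>
            (simp only [Matrix.SpecialLinearGroup.coe_mul, Matrix.SpecialLinearGroup.coe_neg]; simp [hw, hu, jel, ChevalleySL2.wel]) <;>
            (intro h; exact h2 (by linear_combination -h))
        have w1 : f w ≠ f w * f jel := fun h => fj1 (mul_eq_left.1 h.symm)
        have j1 : f jel ≠ f w * f jel := fun h => fw1 (mul_eq_right.1 h.symm)
        have wj1' : f w * f jel ≠ 1 := by rwa [← map_mul]
        simp [Finset.card_insert_of_notMem, ht0.symm, fw1.symm, fj1.symm, fwj, tw, tj, twj,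
          w1, j1, wj1'.symm]
      rw [← hs, ← Nat.card_eq_finsetCard]
      refine Nat.card_mono (Set.toFinite _) (fun x hx => ?_)
      have ha : t ∈ A := Subgroup.subset_closure (by simp)
      have hb : f w ∈ A := Subgroup.subset_closure (by simp)
      have hc' : f jel ∈ A := Subgroup.subset_closure (by simp)
      simp at hx
      rcases hx with rfl | rfl | rfl | rfl | rfl
      exacts [one_mem A, ha, hb, hc', mul_mem hb hc']
    have hA8 : Nat.card A = 8 := by
      have := Nat.le_of_dvd (by norm_num) hAd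
      rcases (Nat.dvd_prime_pow Nat.prime_two).1 (show Nat.card A ∣ 2 ^ 3 from hAd) with ⟨i, hi, he⟩
      interval_cases i <;> omega
    have hAT : A = T' := Subgroup.eq_of_le_of_card_ge hT'
      (by rw [hA8]; exact Nat.le_of_dvd (by norm_num) hd8)
    obtain ⟨g, rfl⟩ := MulAction.exists_smul_eq ↥X.G1 T' T
    haveI hT'c : IsMulCommutative T' := hAT ▸ hAc
    let e := T'.equivSMul g
    refine ⟨⟨fun x y => e.symm.injective ?_⟩⟩
    rw [map_mul, map_mul, hT'c.is_comm.comm]
  · obtain ⟨k, hk⟩ := T.isPGroup'.exists_card_eq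
    have h4 := (sylow_card_le X hK T).2 (odd_H1 X ht)
    rw [hk, show 4 = 2 ^ 2 by rfl, Nat.pow_dvd_pow_iff_le_right (by norm_num)] at h4
    interval_cases k
    · haveI : Subsingleton T := (Nat.card_eq_one_iff_unique.1 hk).1
      exact ⟨⟨fun a b => Subsingleton.elim _ _⟩⟩
    · haveI : IsCyclic T := isCyclic_of_prime_card (p := 2) (by simpa using hk)
      exact ⟨⟨fun a b => IsCyclic.commGroup.mul_comm a b⟩⟩
    · exact ⟨⟨fun a b => (IsPGroup.commGroupOfCardEqPrimeSq hk).mul_comm a b⟩⟩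

end Cfsg.Agent.H74ReeTwo
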