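import Mathlib
import Cfsg.Agent.S4466
import Cfsg.Agent.S4456
import Cfsg.Agent.S0168
import Cfsg.Agent.Lib.CharInducedCorr
import Cfsg.Agent.Lib.CharProjDegree
import Cfsg.Agent.Lib.CharKernel
import Cfsg.Agent.Lib.TransferTate
import Cfsg.Agent.Lib.PGroupsBasic

/-!
Groups with at most three irreducible character degrees: definitions and solvability
when the two nonlinear degrees are coprime.
-/

set_option autoImplicit false
open Cfsg

namespace Cfsg.Agent.H74ThreeDeg

open Cfsg.Agent.CharBasic Cfsg.Agent.CharBasicOrth Cfsg.Agent.CharBasicDecomp Cfsg.Agent.CharBasicLinear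
open Cfsg.Agent.CharInduced
open scoped ComplexConjugate commutatorElement

universe u

/-- All degrees of irreducible characters lie in `{1, a, b}`. -/
def Deg3 (G : Type u) [Group G] (a b : ℕ) : Prop :=
  ∀ χ : G → ℂ, IsIrrCharacter G χ → χ 1 = 1 ∨ χ 1 = (a : ℂ) ∨ χ 1 = (b : ℂ)

variable {G : Type u} [Group G]

theorem Deg3.swap {a b : ℕ} (h : Deg3 G a b) : Deg3 G b a := fun χ hχ =>
  (h χ hχ).imp_right Or.symm

theorem Deg3.of_surjective {Q : Type u} [Group Q] {a b : ℕ} (h : Deg3 G a b) (f : G →* Q)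
    (hf : Function.Surjective f) : Deg3 Q a b := fun ψ hψ => by
  simpa using h (ψ ∘ f) (isIrrCharacter_comap f hf hψ)

variable [Finite G]

theorem Deg3.cases {a b : ℕ} (h : Deg3 G a b) {χ : G → ℂ} (hχ : IsIrrCharacter G χ) {n : ℕ}
    (hn : χ 1 = (n : ℂ)) : n = 1 ∨ n = a ∨ n = b := by
  rcases h χ hχ with e | e | e <;> rw [hn] at e
  · exact Or.inl (by exact_mod_cast e)
  · exact Or.inr (Or.inl (by exact_mod_cast e))
  · exact Or.inr (Or.inr (by exact_mod_cast e))

/-- A character not vanishing at one has an irreducible constituent. -/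
theorem exists_const [Fintype G] {f : G → ℂ} (hf : IsCharacter G f) (h1 : f 1 ≠ 0) :
    ∃ ξ : G → ℂ, IsIrrCharacter G ξ ∧ classInner f ξ ≠ 0 :=
  exists_constituent hf (fun h => h1 (by rw [h]; rfl))

/-- Some irreducible character lies over a given one of a subgroup. -/
theorem exists_over [Fintype G] (H : Subgroup G) [Fintype H] {θ : H → ℂ} (hθ : IsIrrCharacter H θ) :
    ∃ χ : G → ℂ, IsIrrCharacter G χ ∧ classInner (fun x : H => χ x) θ ≠ 0 := by
  have h1 : indFun H θ 1 ≠ 0 := by
    rw [ind_one_apply]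
    exact mul_ne_zero (Nat.cast_ne_zero.2 Subgroup.index_ne_zero_of_finite)
      (isIrrCharacter_apply_one_ne_zero hθ)
  obtain ⟨χ, hχ, hne⟩ := exists_const (isCharacter_ind H (isCharacter_of_isIrrCharacter hθ)) h1
  refine ⟨χ, hχ, fun h => hne ?_⟩
  rw [inner_ind_left H θ (isClassFunction_irr hχ), ← CharInduced.inner_conj_symm, h, map_zero]

/-- A linear constituent of a restriction is trivial where the character is. -/
theorem lin_eq_one (H : Subgroup G) [Fintype H] {f : G → ℂ} (hf : IsCharacter G f) (lam : H →* ℂˣ)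
    (hne : classInner (fun y : H => f y) (fun y => (lam y : ℂ)) ≠ 0) (x : H)
    (hx : f x = f 1) : lam x = 1 := by
  classical
  have htr : ∀ y : H, f ((x * y : H) : G) = f y := by
    intro y
    obtain ⟨n, ρ, rfl⟩ := hf
    have hx' : ρ (x : G) = LinearMap.id := by
      rw [Representation.char_one] at hx
      exact (character_eq_finrank_iff ρ _).1 hx
    simp only [Representation.character, Subgroup.coe_mul, map_mul, hx', Module.End.mul_eq_comp,
      LinearMap.id_comp]
  have key : classInner (fun y : H => f y) (fun y => (lam y : ℂ)) =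
      conj (lam x : ℂ) * classInner (fun y : H => f y) (fun y => (lam y : ℂ)) := by
    unfold Cfsg.classInner
    conv_lhs => rw [← Equiv.sum_comp (Equiv.mulLeft x)]
    rw [Finset.mul_sum, Finset.mul_sum, Finset.mul_sum]
    refine Finset.sum_congr rfl fun y _ => ?_
    simp only [Equiv.coe_mulLeft]
    rw [htr, map_mul, Units.val_mul, map_mul]
    ring
  have h1 : conj (lam x : ℂ) = 1 := mul_right_cancel₀ hne (by rw [one_mul]; exact key.symm)
  have h2 := congrArg conj h1
  rw [Complex.conj_conj, map_one] at h2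
  exact Units.ext h2

/-- A constituent of `F * φ` is a constituent of `ξ * φ` for some constituent `ξ` of `F`. -/
theorem const_mul [Fintype G] {F φ θ : G → ℂ} (hF : IsCharacter G F)
    (hne : classInner (F * φ) θ ≠ 0) :
    ∃ ξ : G → ℂ, IsIrrCharacter G ξ ∧ classInner F ξ ≠ 0 ∧ classInner (ξ * φ) θ ≠ 0 := by
  classical
  obtain ⟨m, hm, hsum⟩ := exists_mult hF
  have he : classInner (F * φ) θ =
      ∑ ψ : IrrCharacter G, (m ψ : ℂ) * classInner ((ψ : G → ℂ) * φ) θ := by
    conv_lhs => rw [hsum, Finset.sum_mul, CharBasicOrth.classInner_sum_left]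
    refine Finset.sum_congr rfl fun ψ _ => ?_
    rw [smul_mul_assoc, CharBasicOrth.classInner_smul_left]
  rw [he] at hne
  obtain ⟨ψ, -, hψ⟩ := Finset.exists_ne_zero_of_sum_ne_zero hne
  exact ⟨ψ, ψ.2, fun h => left_ne_zero_of_mul hψ (by rw [← hm, h]), right_ne_zero_of_mul hψ⟩

theorem classInner_mul_right [Fintype G] (a b c : G → ℂ) :
    classInner (a * b) c = classInner b (fun g => conj (a g) * c g) := by
  simp only [Cfsg.classInner, Pi.mul_apply, map_mul, Complex.conj_conj]
  congr 1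
  exact Finset.sum_congr rfl fun g _ => by ring

/-- Constituents of a product of characters of the two coprime degrees have equal degree. -/
theorem homogeneous [Fintype G] {a b : ℕ} (hdeg : Deg3 G a b) (ha : a ≠ 1) (hb : b ≠ 1)
    (hcop : a.Coprime b) {χ ψ : G → ℂ} (hχ : IsIrrCharacter G χ) (hψ : IsIrrCharacter G ψ)
    (hχ1 : χ 1 = (a : ℂ)) (hψ1 : ψ 1 = (b : ℂ)) :
    (∀ θ, IsIrrCharacter G θ → classInner (χ * ψ) θ ≠ 0 → θ 1 = (a : ℂ)) ∨
      ∀ θ, IsIrrCharacter G θ → classInner (χ * ψ) θ ≠ 0 → θ 1 = (b : ℂ) := by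
  classical
  have hab : a ≠ b := fun e => ha (Nat.eq_one_of_dvd_coprimes hcop dvd_rfl (e ▸ dvd_rfl))
  have ha0 : 0 < a := by
    obtain ⟨n, hn, hn'⟩ := isIrrCharacter_apply_one hχ
    rw [hχ1] at hn'; exact (Nat.cast_inj.1 hn') ▸ hn
  have hb0 : 0 < b := by
    obtain ⟨n, hn, hn'⟩ := isIrrCharacter_apply_one hψ
    rw [hψ1] at hn'; exact (Nat.cast_inj.1 hn') ▸ hn
  obtain ⟨m, hm, hsum⟩ := exists_mult
    (isCharacter_mul (isCharacter_of_isIrrCharacter hχ) (isCharacter_of_isIrrCharacter hψ))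
  have hnl : ∀ θ : IrrCharacter G, (θ : G → ℂ) 1 = 1 → m θ = 0 := by
    intro θ h1
    by_contra h0
    obtain ⟨lam, hlam⟩ := exists_hom_of_apply_one_eq_one (isCharacter_of_isIrrCharacter θ.2) h1
    have hirr : IsIrrCharacter G (fun g => conj (χ g) * (θ : G → ℂ) g) := by
      rw [hlam]; exact isIrrCharacter_mul_linear (isIrrCharacter_conj hχ) lam
    have he : classInner ψ (fun g => conj (χ g) * (θ : G → ℂ) g) ≠ 0 := by
      rw [← classInner_mul_right, hm]; exact_mod_cast h0
    refine hab ?_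
    by_contra hne
    refine he (classInner_irr_ne hψ hirr fun e => hne ?_)
    have e1 := congrFun e 1
    simp only [hψ1, hχ1, h1, map_natCast, mul_one] at e1
    exact_mod_cast e1.symm
  choose deg _ hd using fun θ : IrrCharacter G => isIrrCharacter_apply_one θ.2
  have htot : a * b = ∑ θ, m θ * deg θ := by
    have h := congrFun hsum 1
    simp only [Pi.mul_apply, Finset.sum_apply, Pi.smul_apply, smul_eq_mul, hd, hχ1, hψ1] at h
    exact_mod_cast h
  have hdv : ∀ θ, m θ ≠ 0 → deg θ = a ∨ deg θ = b := fun θ h0 =>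
    ((hdeg.cases θ.2 (hd θ)).resolve_left fun e => h0 (hnl θ (by rw [hd, e, Nat.cast_one])))
  set u := ∑ θ ∈ Finset.univ.filter (fun θ => deg θ = a), m θ with hu
  set v := ∑ θ ∈ Finset.univ.filter (fun θ => deg θ = b), m θ with hv
  have hsplit : a * b = u * a + v * b := by
    rw [htot, hu, hv, Finset.sum_mul, Finset.sum_mul]
    have hdisj : Disjoint (Finset.univ.filter fun θ => deg θ = a)
        (Finset.univ.filter fun θ => deg θ = b) :=
      Finset.disjoint_filter.2 fun θ _ h1 h2 => hab (h1.symm.trans h2)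
    rw [Finset.sum_congr rfl (fun θ hθ =>
        show m θ * a = m θ * deg θ by rw [(Finset.mem_filter.1 hθ).2]),
      Finset.sum_congr rfl (s₁ := Finset.univ.filter fun θ => deg θ = b) (fun θ hθ =>
        show m θ * b = m θ * deg θ by rw [(Finset.mem_filter.1 hθ).2]),
      ← Finset.sum_union hdisj]
    refine (Finset.sum_subset (Finset.subset_univ _) fun θ _ hθ => ?_).symm
    by_contra h0
    have := hdv θ (left_ne_zero_of_mul h0)
    simp only [Finset.mem_union, Finset.mem_filter, Finset.mem_univ, true_and] at hθ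
    exact hθ this
  have hdvd : a ∣ v := by
    refine hcop.dvd_of_dvd_mul_right ?_
    refine (Nat.dvd_add_right (dvd_mul_left a u)).1 (hsplit ▸ dvd_mul_right a b)
  obtain ⟨k, hk⟩ := hdvd
  have key : v = 0 ∨ u = 0 := by
    rcases Nat.eq_zero_or_pos k with rfl | hk0
    · exact Or.inl (by rw [hk, mul_zero])
    · right
      have h1 : a * b ≤ v * b := by
        rw [hk]; exact Nat.mul_le_mul (Nat.le_mul_of_pos_right a hk0) le_rfl
      have : u * a = 0 := by omega
      exact (mul_eq_zero.1 this).resolve_right ha0.ne'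
  refine key.imp (fun hz θ hθ hne => ?_) (fun hz θ hθ hne => ?_)
  all_goals
    have h0 : m ⟨θ, hθ⟩ ≠ 0 := fun h => hne (by
      have := hm ⟨θ, hθ⟩
      rw [h, Nat.cast_zero] at this
      exact this)
    have e : θ 1 = (deg ⟨θ, hθ⟩ : ℂ) := hd ⟨θ, hθ⟩
  · rcases hdv _ h0 with h | h
    · rw [e, h]
    · exact absurd ((Finset.sum_eq_zero_iff.1 hz) _ (Finset.mem_filter.2 ⟨Finset.mem_univ _, h⟩)) h0
  · rcases hdv _ h0 with h | h
    · exact absurd ((Finset.sum_eq_zero_iff.1 hz) _ (Finset.mem_filter.2 ⟨Finset.mem_univ _, h⟩)) h0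
    · rw [e, h]

/-- A product with a faithful character keeps the faithful degree. -/
theorem product_degree [Fintype G] {c d : ℕ} (hdeg : Deg3 G c d) (hc : c ≠ 1) (hd : d ≠ 1)
    (hcop : c.Coprime d) {φ : G → ℂ} (hφ : IsIrrCharacter G φ) (hφ1 : φ 1 = (c : ℂ))
    (hfaith : ∀ g : G, ‖φ g‖ = (c : ℝ) → g = 1) {χ : G → ℂ} (hχ : IsIrrCharacter G χ)
    (hχ1 : χ 1 = (d : ℂ)) :
    ∀ θ, IsIrrCharacter G θ → classInner (χ * φ) θ ≠ 0 → θ 1 = (c : ℂ) := by
  classical
  refine (homogeneous hdeg.swap hd hc hcop.symm hχ hφ hχ1 hφ1).resolve_left fun hgood => ?_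
  set φc : G → ℂ := fun g => conj (φ g) with hφc
  have hφcI : IsIrrCharacter G φc := isIrrCharacter_conj hφ
  have hφc1 : φc 1 = (c : ℂ) := by simp [hφc, hφ1]
  have step : ∀ (φ' : G → ℂ), IsIrrCharacter G φ' → φ' 1 = (c : ℂ) → ∀ ξ : G → ℂ, IsIrrCharacter G ξ →
      ξ 1 = (d : ℂ) → (∀ θ, IsIrrCharacter G θ → classInner (ξ * φ') θ ≠ 0 → θ 1 = (d : ℂ)) →
      ∀ θ, IsIrrCharacter G θ → classInner (ξ * φ') θ ≠ 0 → θ 1 = (d : ℂ) ∧
        ∀ η, IsIrrCharacter G η → classInner (θ * fun g => conj (φ' g)) η ≠ 0 → η 1 = (d : ℂ) := by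
    intro φ' hI h1 ξ hξ hξ1 hgood θ hθ hne
    have hθ1 := hgood θ hθ hne
    refine ⟨hθ1, ?_⟩
    refine ((homogeneous hdeg.swap hd hc hcop.symm hθ (isIrrCharacter_conj hI) hθ1
      (by simp [h1])).resolve_right fun hall => ?_)
    have hne' : classInner (θ * fun g => conj (φ' g)) ξ ≠ 0 := by
      intro h0
      refine hne ?_
      have : classInner (ξ * φ') θ = conj (classInner (θ * fun g => conj (φ' g)) ξ) := by
        simp only [Cfsg.classInner, Pi.mul_apply, map_mul, map_inv₀, map_natCast, map_sum,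
          Complex.conj_conj]
        congr 1
        exact Finset.sum_congr rfl fun g _ => by ring
      rw [this, h0, map_zero]
    have := hall ξ hξ hne'
    rw [hξ1, Nat.cast_inj] at this
    exact hd (Nat.eq_one_of_dvd_coprimes hcop (this ▸ dvd_rfl) dvd_rfl)
  have hΦ : IsCharacter G (φ * φc) :=
    isCharacter_mul (isCharacter_of_isIrrCharacter hφ) (isCharacter_of_isIrrCharacter hφcI)
  let F : ℕ → (G → ℂ) := fun n => χ * fun g => (φ * φc) g ^ n
  have hF : ∀ n, IsCharacter G (F n) := fun n =>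
    isCharacter_mul (isCharacter_of_isIrrCharacter hχ) (isCharacter_pow hΦ n)
  have inv : ∀ n, ∀ ξ, IsIrrCharacter G ξ → classInner (F n) ξ ≠ 0 → ξ 1 = (d : ℂ) ∧
      ∀ θ, IsIrrCharacter G θ → classInner (ξ * φ) θ ≠ 0 → θ 1 = (d : ℂ) := by
    intro n
    induction n with
    | zero =>
      intro ξ hξ hne
      have e : F 0 = χ := by funext g; simp [F]
      rw [e] at hne
      have : χ = ξ := by
        by_contra h; exact hne (classInner_irr_ne hχ hξ h)
      subst this
      exact ⟨hχ1, hgood⟩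
    | succ n ih =>
      intro η hη hne
      have e : F (n + 1) = (F n * φ) * φc := by funext g; simp [F, pow_succ]; ring
      rw [e] at hne
      obtain ⟨θ, hθ, hθne, hη'⟩ := const_mul
        (isCharacter_mul (hF n) (isCharacter_of_isIrrCharacter hφ)) hne
      obtain ⟨ξ, hξ, hξne, hθ'⟩ := const_mul (hF n) hθne
      obtain ⟨hξ1, hξg⟩ := ih ξ hξ hξne
      obtain ⟨hθ1, hθg⟩ := step φ hφ hφ1 ξ hξ hξ1 hξg θ hθ hθ'
      obtain ⟨hη1, hηg⟩ := step φc hφcI hφc1 θ hθ hθ1 hθg η hη hη'
      refine ⟨hη1, ?_⟩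
      have e2 : (fun g => conj (φc g)) = φ := funext fun g => Complex.conj_conj _
      rwa [e2] at hηg
  obtain ⟨N, ρ, hρ⟩ := hΦ
  have hinj : Function.Injective ρ := by
    intro x y hxy
    rw [← mul_inv_eq_one]
    apply hfaith
    have h1 : ρ (x * y⁻¹) = ρ 1 := by
      rw [map_mul, hxy, ← map_mul, mul_inv_cancel]
    have h2 : (φ * φc) (x * y⁻¹) = (φ * φc) 1 := by
      rw [← hρ]; simp only [Representation.character, h1]
    simp only [Pi.mul_apply, hφc, hφ1, Complex.mul_conj', map_natCast] at h2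
    have h3 : ‖φ (x * y⁻¹)‖ ^ 2 = (c : ℝ) * c := by exact_mod_cast h2
    exact (pow_left_inj₀ (norm_nonneg _) (Nat.cast_nonneg c) two_ne_zero).1 (by rw [h3, sq])
  obtain ⟨i, -, hi⟩ := S0168.result ρ hinj (fun g => conj (χ g)) (isIrrCharacter_conj hχ)
  rw [hρ] at hi
  have htriv : classInner (F i) (fun _ => 1) ≠ 0 := by
    intro h0
    refine hi ?_
    rw [← h0]
    simp only [Cfsg.classInner, F, Pi.mul_apply, map_one, mul_one, Complex.conj_conj]
    congr 1
    exact Finset.sum_congr rfl fun g _ => by ring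
  have := (inv i _ isIrrCharacter_one htriv).1
  exact hd (by exact_mod_cast this.symm)

/-- A group all of whose proper quotients are solvable with two coprime nonlinear degrees is solvable. -/
theorem solvable_of_coprime {a b : ℕ} (hdeg : Deg3 G a b) (ha : a ≠ 1) (hb : b ≠ 1)
    (hcop : a.Coprime b)
    (hquot : ∀ (R : Subgroup G) [R.Normal], R ≠ ⊥ → derivedSeries (G ⧸ R) 3 = ⊥) :
    Group.IsSolvable G := by
  classical
  have := Fintype.ofFinite G
  by_contra hns
  set N := derivedSeries G 3 with hN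
  have hN0 : N ≠ ⊥ := fun h => hns ⟨⟨3, h⟩⟩
  have hmin : ∀ R : Subgroup G, R.Normal → R ≠ ⊥ → N ≤ R := fun R hR hb' => by
    have h := map_derivedSeries_le_derivedSeries (QuotientGroup.mk' R) 3
    rw [hquot R hb', le_bot_iff, Subgroup.map_eq_bot_iff, QuotientGroup.ker_mk'] at h
    exact h
  haveI hNn : N.Normal := derivedSeries_normal G 3
  have hNperf : ⁅N, N⁆ = N := le_antisymm (Subgroup.commutator_le_self N) (hmin _ inferInstance
    fun h => hns ⟨⟨4, by rw [derivedSeries_succ]; exact h⟩⟩)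
  have hNG : N ≤ commutator G := by
    rw [← derivedSeries_one, hN]; exact derivedSeries_antitone G (by norm_num)
  -- faithful characters
  have hfaith : ∀ φ : G → ℂ, IsIrrCharacter G φ → ∀ c : ℕ, φ 1 = (c : ℂ) →
      (¬ ∀ x ∈ N, φ x = φ 1) → ∀ g : G, ‖φ g‖ = (c : ℝ) → g = 1 := by
    intro φ hφ c hc hker g hg
    obtain ⟨n, ρ, -, rfl⟩ := hφ
    have hk : (charKer ρ.character (isCharacter_of_rep ρ)) = ⊥ := by
      by_contra hne
      exact hker fun x hx => hmin _ (charKer_normal _ _) hne hx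
    have hinj : Function.Injective ρ := fun x y e => by
      have hm : x * y⁻¹ ∈ charKer ρ.character (isCharacter_of_rep ρ) := by
        rw [mem_charKer_rep, map_mul, e, ← map_mul, mul_inv_cancel, map_one]
      rw [hk, Subgroup.mem_bot, mul_inv_eq_one] at hm
      exact hm
    have hcr : (c : ℝ) = (Module.finrank ℂ (Fin n → ℂ) : ℝ) := by
      rw [Representation.char_one] at hc
      exact_mod_cast hc.symm
    obtain ⟨ω, hω⟩ := (norm_eq_finrank_iff ρ g).1 (hg.trans hcr)
    have hgc : g ∈ Subgroup.center G := Subgroup.mem_center_iff.2 fun h => hinj (by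
      rw [map_mul, map_mul, hω]
      ext v
      simp)
    by_contra hg1
    have hle := hmin _ inferInstance (fun h => hg1 (Subgroup.mem_bot.1 (h ▸ hgc)))
    apply hN0
    rw [← hNperf, Subgroup.commutator_eq_bot_iff_le_centralizer]
    exact fun x hx => Subgroup.mem_centralizer_iff.2 fun y _ => Subgroup.mem_center_iff.1 (hle hx) y
  have hlinker : ∀ φ : G → ℂ, IsIrrCharacter G φ → φ 1 = 1 → ∀ x ∈ N, φ x = φ 1 := by
    intro φ hφ h1 x hx
    obtain ⟨lam, rfl⟩ := exists_hom_of_apply_one_eq_one (isCharacter_of_isIrrCharacter hφ) h1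
    simp [MonoidHom.mem_ker.1 (Abelianization.commutator_subset_ker lam (hNG hx))]
  have hone : ∀ φ ψ : G → ℂ, IsIrrCharacter G φ → IsIrrCharacter G ψ → φ 1 = (a : ℂ) →
      ψ 1 = (b : ℂ) → (¬ ∀ x ∈ N, φ x = φ 1) → (¬ ∀ x ∈ N, ψ x = ψ 1) → False := by
    intro φ ψ hφ hψ h1 h2 k1 k2
    obtain ⟨θ, hθ, hne⟩ := exists_const (isCharacter_mul (isCharacter_of_isIrrCharacter hψ)
      (isCharacter_of_isIrrCharacter hφ)) (by
        rw [Pi.mul_apply]
        exact mul_ne_zero (isIrrCharacter_apply_one_ne_zero hψ) (isIrrCharacter_apply_one_ne_zero hφ))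
    have e1 := product_degree hdeg ha hb hcop hφ h1 (hfaith φ hφ a h1 k1) hψ h2 θ hθ hne
    have e2 := product_degree hdeg.swap hb ha hcop.symm hψ h2 (hfaith ψ hψ b h2 k2) hφ h1 θ hθ
      (by rwa [mul_comm] at hne)
    rw [e1, Nat.cast_inj] at e2
    exact ha (Nat.eq_one_of_dvd_coprimes hcop dvd_rfl (e2 ▸ dvd_rfl))
  -- all faithful characters have one degree `c`
  obtain ⟨c, d, hc, hcop', hD, hall⟩ : ∃ c d : ℕ, c ≠ 1 ∧ c.Coprime d ∧ Deg3 G c d ∧
      ∀ φ : G → ℂ, IsIrrCharacter G φ → (¬ ∀ x ∈ N, φ x = φ 1) → φ 1 = (c : ℂ) := by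
    by_cases hA : ∃ φ : G → ℂ, IsIrrCharacter G φ ∧ φ 1 = (a : ℂ) ∧ ¬ ∀ x ∈ N, φ x = φ 1
    · obtain ⟨φ, hφ, h1, k1⟩ := hA
      refine ⟨a, b, ha, hcop, hdeg, fun ψ hψ k2 => ?_⟩
      rcases hdeg ψ hψ with e | e | e
      · exact absurd (hlinker ψ hψ e) k2
      · exact e
      · exact (hone φ ψ hφ hψ h1 e k1 k2).elim
    · refine ⟨b, a, hb, hcop.symm, hdeg.swap, fun ψ hψ k2 => ?_⟩
      rcases hdeg ψ hψ with e | e | e
      · exact absurd (hlinker ψ hψ e) k2
      · exact absurd ⟨ψ, hψ, e, k2⟩ hA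
      · exact e
  -- no prime divisor of `c` divides the order of `N`
  have hp' : ∀ p : ℕ, p.Prime → p ∣ c → ¬ p ∣ Nat.card N := by
    intro p hp hpc hpN
    haveI : Fact p.Prime := ⟨hp⟩
    obtain ⟨P⟩ : Nonempty (Sylow p G) := inferInstance
    have hle : N ⊓ (P : Subgroup G) ≤ (frattini (P : Subgroup G)).map (P : Subgroup G).subtype := by
      rintro x ⟨hxN, hxP⟩
      refine ⟨⟨x, hxP⟩, PGroupsBasic.commutator_le_frattini P.isPGroup' ?_, rfl⟩
      have := Fintype.ofFinite (P : Subgroup G)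
      by_contra hxc
      let A := Abelianization (P : Subgroup G)
      obtain ⟨φ0, hφ0⟩ := CommGroup.exists_apply_ne_one_of_hasEnoughRootsOfUnity A ℂ
        (a := Abelianization.of (⟨x, hxP⟩ : (P : Subgroup G)))
        (fun h => hxc ((QuotientGroup.eq_one_iff _).1 h))
      set lam : (P : Subgroup G) →* ℂˣ := φ0.comp Abelianization.of with hlam
      apply hφ0
      show lam ⟨x, hxP⟩ = 1
      have hcharlin := isCharacter_linear lam
      have hi := isCharacter_ind (P : Subgroup G) hcharlin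
      obtain ⟨m, hm, hsum⟩ := exists_mult hi
      choose deg _ hdg using fun θ : IrrCharacter G => isIrrCharacter_apply_one θ.2
      have htot : (P : Subgroup G).index = ∑ θ, m θ * deg θ := by
        have h := congrFun hsum 1
        rw [ind_one_apply, map_one, Units.val_one, mul_one, Finset.sum_apply] at h
        simp only [Pi.smul_apply, smul_eq_mul, hdg] at h
        exact_mod_cast h
      obtain ⟨θ, hθm, hθp⟩ : ∃ θ, m θ ≠ 0 ∧ ¬ p ∣ deg θ := by
        by_contra hh
        push Not at hh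
        refine P.not_dvd_index (htot ▸ Finset.dvd_sum fun θ _ => ?_)
        by_cases h0 : m θ = 0
        · simp [h0]
        · exact (hh θ h0).mul_left _
      have hker : ∀ y ∈ N, (θ : G → ℂ) y = (θ : G → ℂ) 1 := by
        by_contra hk
        have := hall _ θ.2 hk
        rw [hdg, Nat.cast_inj] at this
        exact hθp (this ▸ hpc)
      refine lin_eq_one _ (isCharacter_of_isIrrCharacter θ.2) lam ?_ _ (hker x hxN)
      intro h0
      have := hm θ
      rw [inner_ind_left _ _ (isClassFunction_irr θ.2), ← CharInduced.inner_conj_symm, h0, map_zero]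
        at this
      exact hθm (by exact_mod_cast this.symm)
    obtain ⟨P1, C, hCn, hC⟩ := TransferTate.hasNormalPComplement_of_normal_inf_le_frattini P N hle
    have hP1 : Nontrivial (P1 : Subgroup N) :=
      (Subgroup.nontrivial_iff_ne_bot _).2 (P1.ne_bot_of_dvd_card hpN)
    haveI := hCn
    haveI : Group.IsNilpotent (P1 : Subgroup N) := P1.isPGroup'.isNilpotent
    have hsolv : Group.IsSolvable (N ⧸ C) :=
      Group.isSolvable_of_surjective (f := hC.symm.QuotientMulEquiv.symm.toMonoidHom)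
        (MulEquiv.surjective _)
    have hnt : Nontrivial (N ⧸ C) := hC.symm.QuotientMulEquiv.symm.toEquiv.symm.nontrivial
    have hperf : commutator (N ⧸ C) = ⊤ := by
      have h1 : commutator N = ⊤ := by
        apply Subgroup.map_injective N.subtype_injective
        rw [← MonoidHom.range_eq_map, Subgroup.range_subtype, Subgroup.map_subtype_commutator, hNperf]
      rw [_root_.commutator_def, ← Subgroup.map_top_of_surjective (QuotientGroup.mk' C)
        (QuotientGroup.mk'_surjective C), ← Subgroup.map_commutator, ← _root_.commutator_def, h1]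
    exact (IsSolvable.commutator_lt_top_of_nontrivial (G := N ⧸ C)).ne hperf
  have := Fintype.ofFinite N
  obtain ⟨θ, hθ⟩ : ∃ θ : IrrCharacter N, (θ : N → ℂ) 1 ≠ 1 := by
    by_contra hh
    push Not at hh
    apply hN0
    rw [← hNperf, Subgroup.commutator_eq_bot_iff_le_centralizer]
    exact fun x hx => Subgroup.mem_centralizer_iff.2 fun y hy =>
      congrArg Subtype.val (comm_of_forall_apply_one hh ⟨y, hy⟩ ⟨x, hx⟩)
  obtain ⟨χ, hχ, hne⟩ := exists_over N θ.2
  obtain ⟨k, e, he, hke, hkdvd⟩ := CharProjDegree.degree_dvd N hχ θ.2 hne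
  obtain ⟨e', -, he', hedvd⟩ := CharBasicInt.exists_apply_one_dvd_card θ.2
  have hee : e = e' := by exact_mod_cast he.symm.trans he'
  subst hee
  by_cases hk : ∀ x ∈ N, χ x = χ 1
  · apply hθ
    have hcl : (fun x : N => χ x) = fun _ => χ 1 := funext fun x => hk x x.2
    by_contra h1
    refine hne ?_
    rw [hcl, show (fun _ : N => χ 1) = χ 1 • (fun _ : N => (1 : ℂ)) by funext; simp,
      CharBasicOrth.classInner_smul_left,
      classInner_irr_ne isIrrCharacter_one θ.2 (fun e => h1 (by rw [← e])), mul_zero]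
  · have := hall χ hχ hk
    rw [hke, Nat.cast_inj] at this
    refine hθ ?_
    rw [he]
    by_contra hne1
    obtain ⟨p, hp, hpe⟩ := Nat.exists_prime_and_dvd (n := e) (fun h => hne1 (by rw [h, Nat.cast_one]))
    exact hp' p hp (this ▸ hpe.mul_right k) (hpe.trans hedvd)

end Cfsg.Agent.H74ThreeDeg
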