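import Mathlib
import Cfsg.Agent.S4811
import Cfsg.Agent.Lib.CharProjDegree
import Cfsg.Agent.Lib.CharInducedCorr
import Cfsg.Agent.Lib.TwoDegrees72
import Cfsg.Agent.Lib.H74ThreeDegBasic

/-!
The Frobenius factor case of the three degree theorem: the kernel has two degrees.
-/

set_option autoImplicit false
open Cfsg

namespace Cfsg.Agent.H74ThreeDeg

open Cfsg.Agent.CharBasic Cfsg.Agent.CharBasicOrth Cfsg.Agent.CharBasicDecomp Cfsg.Agent.CharBasicLinear
open Cfsg.Agent.CharInduced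
open Subgroup
open scoped ComplexConjugate commutatorElement

universe u

variable {G : Type u} [Group G]

/-- Conjugates of a linear character of a normal subgroup. -/
def linConj (N : Subgroup G) [N.Normal] (t : G) (lam : N →* ℂˣ) : N →* ℂˣ :=
  lam.comp (MulAut.conjNormal t).toMonoidHom

theorem linConj_apply (N : Subgroup G) [N.Normal] (t : G) (lam : N →* ℂˣ) (m : N) :
    linConj N t lam m = lam (MulAut.conjNormal t m) := rfl

theorem linConj_of_mem (N : Subgroup G) [N.Normal] {t : G} (ht : t ∈ N) (lam : N →* ℂˣ) :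
    linConj N t lam = lam := by
  refine MonoidHom.ext fun m => ?_
  rw [linConj_apply, show MulAut.conjNormal t m = (⟨t, ht⟩ : N) * m * (⟨t, ht⟩ : N)⁻¹ from
    Subtype.ext (by simp), map_mul, map_mul, map_inv, mul_comm (lam _) (lam m), mul_inv_cancel_right]

/-- The nontrivial linear characters of `N` over `K` have stabiliser `N`. -/
theorem stab_eq (N K : Subgroup G) [N.Normal] [K.Normal] (hKN : K < N)
    (hmin : ∀ R : Subgroup G, R.Normal → K ≤ R → R ≤ N → R = K ∨ R = N)
    (hcomm : ∀ a ∈ N, ∀ b ∈ N, ⁅a, b⁆ ∈ K) (hGN : ∀ a b : G, ⁅a, b⁆ ∈ N)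
    (hfpf : ∀ x : G, x ∉ N → ∃ n ∈ N, ⁅x, n⁆ ∉ K)
    (lam : N →* ℂˣ) (hlK : ∀ k : N, (k : G) ∈ K → lam k = 1) (hlam : lam ≠ 1) {t : G}
    (ht : linConj N t lam = lam) : t ∈ N := by
  classical
  let R : (N →* ℂˣ) → Subgroup G := fun lam =>
    { carrier := {x | ∃ hx : x ∈ N, ∀ y : G, lam (MulAut.conjNormal y ⟨x, hx⟩) = 1}
      one_mem' := ⟨one_mem N, fun y => by
        rw [show (⟨1, one_mem N⟩ : N) = 1 from rfl, map_one, map_one]⟩
      mul_mem' := fun {a b} ⟨ha, ha'⟩ ⟨hb, hb'⟩ => ⟨mul_mem ha hb, fun y => by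
        rw [show (⟨a * b, mul_mem ha hb⟩ : N) = ⟨a, ha⟩ * ⟨b, hb⟩ from rfl, map_mul, map_mul, ha', hb',
          mul_one]⟩
      inv_mem' := fun {a} ⟨ha, ha'⟩ => ⟨inv_mem ha, fun y => by
        rw [show (⟨a⁻¹, inv_mem ha⟩ : N) = (⟨a, ha⟩ : N)⁻¹ from rfl, map_inv, map_inv, ha', inv_one]⟩ }
  have hRn : (R lam).Normal := ⟨fun x ⟨hx, hx'⟩ g => ⟨‹N.Normal›.conj_mem x hx g, fun y => by
    have h := hx' (y * g)
    rw [map_mul, MulAut.mul_apply] at h
    exact h⟩⟩
  have hR : R lam = K := (hmin _ hRn (fun x hx => ⟨hKN.le hx, fun y => hlK _ (by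
      rw [MulAut.conjNormal_apply]; exact ‹K.Normal›.conj_mem x hx y)⟩) (fun x hx => hx.1)).resolve_right
      fun h => hlam (MonoidHom.ext fun u => by
        have hu : (u : G) ∈ R lam := by rw [h]; exact u.2
        obtain ⟨_, h'⟩ := hu
        have h'' := h' 1
        rwa [map_one, MulAut.one_apply] at h'')
  have hsub : ∀ {a b : N}, (a : G) * (b : G)⁻¹ ∈ K → lam a = lam b := by
    intro a b hab
    have := hlK (a * b⁻¹) hab
    rwa [map_mul, map_inv, mul_inv_eq_one] at this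
  by_contra htN
  obtain ⟨n, hn, hnK⟩ := hfpf t htN
  refine hnK (hR ▸ (show ⁅t, n⁆ ∈ R lam from ⟨hGN t n, fun y => ?_⟩))
  have e : (⟨⁅t, n⁆, hGN t n⟩ : N) = MulAut.conjNormal t ⟨n, hn⟩ * (⟨n, hn⟩ : N)⁻¹ :=
    Subtype.ext (by simp [commutatorElement_def])
  rw [e, map_mul, map_mul, map_inv, map_inv, mul_inv_eq_one]
  refine (hsub (b := MulAut.conjNormal t (MulAut.conjNormal y ⟨n, hn⟩)) ?_).trans
    (DFunLike.congr_fun ht _)
  simp only [MulAut.conjNormal_apply]
  have h3 := hcomm _ (hGN y t) _ (‹N.Normal›.conj_mem n hn (t * y))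
  have e3 : y * (t * n * t⁻¹) * y⁻¹ * (t * (y * n * y⁻¹) * t⁻¹)⁻¹ =
      ⁅⁅y, t⁆, t * y * n * (t * y)⁻¹⁆ := by
    simp only [commutatorElement_def]; group
  rwa [e3]

/-- If the Frobenius factor has index `a`, then the kernel has the two degrees `1` and `b`. -/
theorem frobenius_kernel_deg [Finite G] {a b : ℕ} (hdeg : Deg3 G a b) (ha : a ≠ 1)
    (hcop : a.Coprime b) (N K : Subgroup G) [N.Normal] [K.Normal]
    (hKN : K < N) (hmin : ∀ R : Subgroup G, R.Normal → K ≤ R → R ≤ N → R = K ∨ R = N)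
    (hcomm : ∀ x ∈ N, ∀ y ∈ N, ⁅x, y⁆ ∈ K) (hGN : ∀ x y : G, ⁅x, y⁆ ∈ N)
    (hfpf : ∀ x : G, x ∉ N → ∃ n ∈ N, ⁅x, n⁆ ∉ K) (hidx : N.index = a) :
    TwoDegrees72.Deg N b := by
  classical
  have := Fintype.ofFinite G
  have := Fintype.ofFinite N
  intro θ hθ
  obtain ⟨χ, hχ, hne⟩ := exists_over N hθ
  obtain ⟨k, d, hd, hχd, hk⟩ := CharProjDegree.degree_dvd N hχ hθ hne
  rw [hidx] at hk
  rcases hdeg.cases hχ hχd with e | e | e
  · left
    rw [hd, (mul_eq_one.1 e).1, Nat.cast_one]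
  swap
  · right
    have hk1 : k = 1 := Nat.eq_one_of_dvd_coprimes hcop hk (e ▸ dvd_mul_left k d)
    rw [hk1, mul_one] at e
    rw [hd, e]
  left
  by_contra hd1'
  have hda : d ∣ a := e ▸ dvd_mul_right d k
  have hd1 : d ≠ 1 := fun h => hd1' (by rw [hd, h, Nat.cast_one])
  -- the linear characters of `N` over `K`
  haveI : Finite (N →* ℂˣ) := Finite.of_equiv _ (CharBasicLinear.linearEquiv N).symm
  let A : Subgroup (N →* ℂˣ) :=
    { carrier := {lam | ∀ k : N, (k : G) ∈ K → lam k = 1}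
      one_mem' := fun _ _ => rfl
      mul_mem' := fun {u v} hu hv k hk => by rw [MonoidHom.mul_apply, hu k hk, hv k hk, one_mul]
      inv_mem' := fun {u} hu k hk => by rw [MonoidHom.inv_apply, hu k hk, inv_one] }
  have hAc : ∀ (t : G) (lam : N →* ℂˣ), lam ∈ A → linConj N t lam ∈ A := fun t lam hl k hk => hl _ (by
    show ((MulAut.conjNormal t k : N) : G) ∈ K
    rw [MulAut.conjNormal_apply]; exact ‹K.Normal›.conj_mem _ hk t)
  let S := {x : A // x ≠ 1}
  letI : MulAction G S :=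
    { smul := fun t x => ⟨⟨linConj N t⁻¹ (x.1 : N →* ℂˣ), hAc _ _ x.1.2⟩, fun h => x.2 (Subtype.ext
        (MonoidHom.ext fun m => by
          have h' := DFunLike.congr_fun (congrArg Subtype.val h) (MulAut.conjNormal t m)
          rw [linConj_apply, map_inv, MulAut.inv_apply_self] at h'
          exact h'))⟩
      one_smul := fun x => Subtype.ext (Subtype.ext (MonoidHom.ext fun m => by
        show linConj N (1 : G)⁻¹ (x.1 : N →* ℂˣ) m = _
        rw [linConj_apply, inv_one, map_one, MulAut.one_apply]))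
      mul_smul := fun s t x => Subtype.ext (Subtype.ext (MonoidHom.ext fun m => by
        show linConj N (s * t)⁻¹ (x.1 : N →* ℂˣ) m = linConj N s⁻¹ (linConj N t⁻¹ (x.1 : N →* ℂˣ)) m
        rw [linConj_apply, linConj_apply, linConj_apply, mul_inv_rev, map_mul, MulAut.mul_apply])) }
  have hstab : ∀ x : S, MulAction.stabilizer G x = N := by
    intro x
    refine le_antisymm (fun t ht => ?_) (fun t ht => ?_)
    · have h := congrArg (fun y : S => (y.1 : N →* ℂˣ)) (MulAction.mem_stabilizer_iff.1 ht)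
      exact inv_mem_iff.1 (stab_eq N K hKN hmin hcomm hGN hfpf _ x.1.2
        (fun h1 => x.2 (Subtype.ext h1)) h)
    · exact MulAction.mem_stabilizer_iff.2
        (Subtype.ext (Subtype.ext (linConj_of_mem N (inv_mem ht) _)))
  have hSdvd : a ∣ Nat.card S := by
    have := Fintype.ofFinite (Quotient (MulAction.orbitRel G S))
    rw [Nat.card_congr (MulAction.selfEquivSigmaOrbitsQuotientStabilizer G S), Nat.card_sigma]
    refine Finset.dvd_sum fun ω _ => ?_
    rw [show Nat.card (G ⧸ MulAction.stabilizer G ω.out) = (MulAction.stabilizer G ω.out).index from rfl,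
      hstab, hidx]
  obtain ⟨n, hn, hnK⟩ := SetLike.exists_of_lt hKN
  obtain ⟨lam0, hlam0, hlam0n⟩ := S4811.sep (K.subgroupOf N) (fun u v => hcomm u u.2 v v.2)
    (n := ⟨n, hn⟩) hnK
  have hA0 : lam0 ∈ A := fun k hk => hlam0 k hk
  haveI : Nonempty S := ⟨⟨⟨lam0, hA0⟩, fun h => hlam0n (by
    rw [show lam0 = 1 from congrArg Subtype.val h]; rfl)⟩⟩
  have hSpos : 0 < Nat.card S := Nat.card_pos
  have hAcard : Nat.card A = Nat.card S + 1 := by
    have := Fintype.ofFinite A
    have hpos : 0 < Fintype.card A := Fintype.card_pos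
    rw [Nat.card_eq_fintype_card, Nat.card_eq_fintype_card, Fintype.card_subtype_compl,
      Fintype.card_subtype_eq]
    omega
  -- `θ` is moved by nontrivial linear characters over `K`
  have hU : ∀ ν : N →* ℂˣ, ν ∈ A → (∀ m : N, θ m * (ν m : ℂ) = θ m) → ν = 1 := by
    intro ν hν hfix
    by_contra hne1
    have hker : ν.ker.index ≠ 1 := fun h => hne1 (MonoidHom.ext fun m =>
      MonoidHom.mem_ker.1 ((index_eq_one.1 h) ▸ mem_top m))
    have hq := Nat.minFac_prime hker
    haveI := Fact.mk hq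
    have hqd : ν.ker.index.minFac ∣ d := S4811.prime_dvd_of_vanish ν.ker hθ hd (fun m hm => by
      by_contra h0
      exact hm (MonoidHom.mem_ker.2 (Units.ext (mul_left_cancel₀ h0
        (by rw [Units.val_one, mul_one]; exact hfix m))))) hq (Nat.minFac_dvd _)
    obtain ⟨⟨_, m, rfl⟩, hy⟩ := exists_prime_orderOf_dvd_card' (G := ν.range) ν.ker.index.minFac
      (by rw [← Subgroup.index_ker]; exact Nat.minFac_dvd _)
    rw [← Subgroup.orderOf_coe] at hy
    have h1 : ν.ker.index.minFac ∣ Nat.card A := by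
      have h2 : orderOf (⟨ν, hν⟩ : A) ∣ Nat.card A := orderOf_dvd_natCard _
      rw [Subgroup.orderOf_mk] at h2
      refine dvd_trans ?_ h2
      have h3 : orderOf (ν m) ∣ orderOf ν :=
        orderOf_map_dvd (MonoidHom.eval m : (N →* ℂˣ) →* ℂˣ) ν
      exact hy ▸ h3
    rw [hAcard] at h1
    exact hq.not_dvd_one ((Nat.dvd_add_right ((hqd.trans hda).trans hSdvd)).1 h1)
  -- a twist of `θ` with inertia group `N`
  obtain ⟨lam, hl, hlT⟩ : ∃ lam ∈ A, inertia N (fun m => θ m * (lam m : ℂ)) = N := by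
    by_contra hh
    push Not at hh
    have hex : ∀ x : A, ∃ t : G, t ∈ inertia N (fun m => θ m * ((x : N →* ℂˣ) m : ℂ)) ∧ t ∉ N := by
      intro x
      by_contra h'
      push Not at h'
      exact hh _ x.2 (le_antisymm h'
        (le_inertia N (isClassFunction_irr (isIrrCharacter_mul_linear hθ _))))
    choose T hT hTN using hex
    let F : A → {c : G ⧸ N // c ≠ 1} := fun x =>
      ⟨((T x : G) : G ⧸ N), fun h => hTN x ((QuotientGroup.eq_one_iff _).1 h)⟩
    have hF : Function.Injective F := by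
      intro x y hxy
      have hxy' : ((T y : G) : G ⧸ N) = ((T x : G) : G ⧸ N) := (congrArg Subtype.val hxy).symm
      have hmem : T x ∈ inertia N (fun m => θ m * ((y : N →* ℂˣ) m : ℂ)) := by
        rw [show T x = T y * ((T y)⁻¹ * T x) by group]
        exact Subgroup.mul_mem _ (hT y)
          (le_inertia N (isClassFunction_irr (isIrrCharacter_mul_linear hθ _))
            (QuotientGroup.eq.1 hxy'))
      set t := T x with ht
      have hν1 := hU ((x : N →* ℂˣ) * (linConj N t (x : N →* ℂˣ))⁻¹ * linConj N t (y : N →* ℂˣ) *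
          (y : N →* ℂˣ)⁻¹) (A.mul_mem (A.mul_mem (A.mul_mem x.2 (A.inv_mem (hAc _ _ x.2)))
          (hAc _ _ y.2)) (A.inv_mem y.2)) (fun m => by
        have h1 := (mem_inertia_iff N).1 (hT x) m
        have h2 := (mem_inertia_iff N).1 hmem m
        rw [← ht] at h1
        simp only [MonoidHom.mul_apply, MonoidHom.inv_apply, linConj_apply, Units.val_mul,
          Units.val_inv_eq_inv_val]
        rw [show MulAut.conjNormal t m = (⟨t * m * t⁻¹, ‹N.Normal›.conj_mem (m : G) m.2 t⟩ : N) from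
          Subtype.ext (MulAut.conjNormal_apply t m)]
        generalize (⟨t * m * t⁻¹, _⟩ : N) = c at h1 h2 ⊢
        field_simp
        linear_combination ((y : N →* ℂˣ) c : ℂ) * (-h1) + ((x : N →* ℂˣ) c : ℂ) * h2)
      have hfix : linConj N t ((y : N →* ℂˣ) * (x : N →* ℂˣ)⁻¹) = (y : N →* ℂˣ) * (x : N →* ℂˣ)⁻¹ := by
        refine MonoidHom.ext fun m => ?_
        have h := DFunLike.congr_fun hν1 m
        simp only [MonoidHom.mul_apply, MonoidHom.inv_apply, linConj_apply, MonoidHom.one_apply] at h ⊢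
        rw [mul_inv_eq_one] at h
        rw [← h]
        apply mul_right_cancel (b := ((x : N →* ℂˣ) m))
        rw [mul_assoc, mul_assoc, mul_assoc, inv_mul_cancel, mul_one, mul_comm ((x : N →* ℂˣ) m) ]
        ac_rfl
      by_contra hne
      refine hTN x (stab_eq N K hKN hmin hcomm hGN hfpf _ (A.mul_mem y.2 (A.inv_mem x.2))
        (fun h => hne ?_) hfix)
      rw [mul_inv_eq_one] at h
      exact Subtype.ext h.symm
    have hle := Nat.card_le_card_of_injective F hF
    have hC : Nat.card {c : G ⧸ N // c ≠ 1} = a - 1 := by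
      have := Fintype.ofFinite (G ⧸ N)
      rw [Nat.card_eq_fintype_card, Fintype.card_subtype_compl, Fintype.card_subtype_eq,
        ← Nat.card_eq_fintype_card, show Nat.card (G ⧸ N) = N.index from rfl, hidx]
    rw [hAcard, hC] at hle
    have := Nat.le_of_dvd hSpos hSdvd
    omega
  have hφ : IsIrrCharacter N (fun m => θ m * (lam m : ℂ)) := isIrrCharacter_mul_linear hθ lam
  have h1 : IsIrrCharacter G (indFun N (fun m => θ m * (lam m : ℂ))) := isIrrCharacter_iff.2
    ⟨isCharacter_ind N (isCharacter_of_isIrrCharacter hφ), by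
      rw [classInner_ind_self N hφ, hlT, div_self (Nat.cast_ne_zero.2 Nat.card_pos.ne')]⟩
  have h2 : indFun N (fun m => θ m * (lam m : ℂ)) 1 = ((a * d : ℕ) : ℂ) := by
    rw [ind_one_apply, map_one, Units.val_one, mul_one, hd, hidx, Nat.cast_mul]
  have ha0 : 0 < a := hidx ▸ Nat.pos_of_ne_zero Subgroup.index_ne_zero_of_finite
  rcases hdeg.cases h1 h2 with h | h | h
  · exact ha (mul_eq_one.1 h).1
  · exact hd1 (Nat.eq_of_mul_eq_mul_left ha0 (h.trans (mul_one a).symm))
  · exact ha (Nat.eq_one_of_dvd_coprimes hcop dvd_rfl (h ▸ dvd_mul_right a d))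

end Cfsg.Agent.H74ThreeDeg
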