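import Mathlib
import Cfsg.Agent.S0858
import Cfsg.Agent.S0859
import Cfsg.Agent.Lib.CharInducedAbelianQuot
import Cfsg.Agent.Lib.PGroupsBasic

/-!
Tools for the three degree theorem: monomiality over an abelian normal subgroup with
`p`-group quotient, Taketa's step, and derived series bookkeeping.
-/

set_option autoImplicit false
open Cfsg

namespace Cfsg.Agent.H74ThreeDeg

open Cfsg.Agent.CharBasic Cfsg.Agent.CharBasicOrth Cfsg.Agent.CharBasicDecomp Cfsg.Agent.CharBasicLinear
open Cfsg.Agent.CharInduced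
open scoped ComplexConjugate commutatorElement

universe u

variable {G : Type u} [Group G]

theorem derivedSeries_two_eq_bot (h : ∀ a ∈ commutator G, ∀ b ∈ commutator G, a * b = b * a) :
    derivedSeries G 2 = ⊥ := by
  rw [derivedSeries_succ, derivedSeries_one, Subgroup.commutator_eq_bot_iff_le_centralizer]
  exact fun a ha => Subgroup.mem_centralizer_iff.2 fun b hb => h b hb a ha

theorem derivedSeries_le_map (H : Subgroup G) {m i : ℕ}
    (h : derivedSeries G m ≤ (derivedSeries H i).map H.subtype) (n : ℕ) :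
    derivedSeries G (m + n) ≤ (derivedSeries H (i + n)).map H.subtype := by
  induction n with
  | zero => exact h
  | succ n ih =>
    rw [← add_assoc, ← add_assoc, derivedSeries_succ, derivedSeries_succ, Subgroup.map_commutator]
    exact Subgroup.commutator_mono ih ih

theorem map_derivedSeries_one (H : Subgroup G) :
    (derivedSeries H 1).map H.subtype = ⁅H, H⁆ := by
  rw [derivedSeries_one, Subgroup.map_subtype_commutator]

/-- Chief factors over a normal subgroup with `p`-group quotient are not squares. -/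
theorem chief_not_square [Finite G] {p : ℕ} (hp : p.Prime) (N : Subgroup G) [N.Normal]
    (hP : IsPGroup p (G ⧸ N)) :
    ∀ (H K L : Subgroup G), N ≤ L → L < K → K ≤ H → (∀ h ∈ H, ∀ k ∈ K, h * k * h⁻¹ ∈ K) →
      (∀ h ∈ H, ∀ l ∈ L, h * l * h⁻¹ ∈ L) →
      (∀ M : Subgroup G, L ≤ M → M ≤ K → (∀ h ∈ H, ∀ m ∈ M, h * m * h⁻¹ ∈ M) → M = L ∨ M = K) →
      ¬ IsSquare (L.relIndex K) := by
  intro H K L hNL hLK hKH hK hL hmin
  haveI := Fact.mk hp
  haveI hLn : (L.subgroupOf H).Normal := ⟨fun l hl h => hL h h.2 l hl⟩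
  haveI hKn : (K.subgroupOf H).Normal := ⟨fun k hk h => hK h h.2 k hk⟩
  set π := QuotientGroup.mk' (L.subgroupOf H) with hπ
  have hQ : IsPGroup p (H ⧸ L.subgroupOf H) := by
    intro q
    obtain ⟨h, rfl⟩ := QuotientGroup.mk'_surjective _ q
    obtain ⟨i, hi⟩ := hP ((h : G) : G ⧸ N)
    refine ⟨i, ?_⟩
    rw [← map_pow]
    refine (QuotientGroup.eq_one_iff _).2 (hNL ((QuotientGroup.eq_one_iff _).1 ?_))
    simpa using hi
  haveI : ((K.subgroupOf H).map π).Normal := hKn.map _ (QuotientGroup.mk'_surjective _)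
  have hlt : (⊥ : Subgroup (H ⧸ L.subgroupOf H)) < (K.subgroupOf H).map π :=
    bot_lt_iff_ne_bot.2 fun h => hLK.not_ge fun k hk => by
      rw [Subgroup.map_eq_bot_iff, hπ, QuotientGroup.ker_mk'] at h
      exact h (show (⟨k, hKH hk⟩ : H) ∈ K.subgroupOf H from hk)
  obtain ⟨M', hM'n, -, hM'K, hM'c⟩ := PGroupsBasic.exists_normal_succ hQ hlt
  rw [Subgroup.card_bot, one_mul] at hM'c
  set M := (M'.comap π).map H.subtype with hM
  have hLM : L ≤ M := fun l hl => ⟨⟨l, hKH (hLK.le hl)⟩, by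
    show π _ ∈ M'
    rw [(QuotientGroup.eq_one_iff (⟨l, hKH (hLK.le hl)⟩ : H)).2 hl |> fun e => (show π _ = 1 from e)]
    exact one_mem _, rfl⟩
  have hcomapK : M'.comap π ≤ K.subgroupOf H := by
    refine (Subgroup.comap_mono hM'K).trans (le_of_eq ?_)
    rw [Subgroup.comap_map_eq, hπ, QuotientGroup.ker_mk', sup_eq_left]
    exact fun x hx => hLK.le hx
  have hMK : M ≤ K := by
    rintro x ⟨y, hy, rfl⟩
    exact hcomapK hy
  have hMinv : ∀ h ∈ H, ∀ m ∈ M, h * m * h⁻¹ ∈ M := by
    rintro h hh _ ⟨y, hy, rfl⟩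
    exact ⟨⟨h, hh⟩ * y * ⟨h, hh⟩⁻¹, (inferInstance : (M'.comap π).Normal).conj_mem y hy _, rfl⟩
  have hrel : L.relIndex K = p := by
    rcases hmin M hLM hMK hMinv with e | e
    · exfalso
      have : M' = ⊥ := by
        refine eq_bot_iff.2 fun q hq => ?_
        obtain ⟨h, rfl⟩ := QuotientGroup.mk'_surjective (L.subgroupOf H) q
        refine Subgroup.mem_bot.2 ((QuotientGroup.eq_one_iff h).2 ?_)
        show (h : G) ∈ L
        rw [← e]
        exact ⟨h, hq, rfl⟩
      rw [this, Subgroup.card_bot] at hM'c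
      exact hp.ne_one hM'c.symm
    · have e' : M' = (K.subgroupOf H).map π := by
        refine le_antisymm hM'K ?_
        rintro _ ⟨h, hh, rfl⟩
        have : (h : G) ∈ M := e.symm ▸ (hh : (h : G) ∈ K)
        obtain ⟨y, hy, hye⟩ := this
        rwa [Subtype.ext hye] at hy
      rw [← Subgroup.relIndex_subgroupOf (H := L) hKH, ← hM'c, e', ← Subgroup.relIndex_ker, hπ,
        QuotientGroup.ker_mk']
  rw [hrel]
  exact hp.prime.not_isSquare

/-- A group with an abelian normal subgroup of `p`-power index is monomial. -/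
theorem monomial_of_abelian_normal [Fintype G] {p : ℕ} (hp : p.Prime) (K : Subgroup G) [K.Normal]
    {j : ℕ} (hidx : K.index = p ^ j) (hab : ∀ a ∈ K, ∀ b ∈ K, a * b = b * a) :
    ∀ χ : G → ℂ, IsIrrCharacter G χ →
      ∃ (H : Subgroup G) (lam : H →* ℂˣ), χ = indFun H (fun h => (lam h : ℂ)) := by
  intro χ hχ
  haveI := Fact.mk hp
  have hP : IsPGroup p (G ⧸ K) := IsPGroup.of_card (n := j) (by rw [← Subgroup.index_eq_card, hidx])
  haveI : Group.IsNilpotent (G ⧸ K) := hP.isNilpotent
  haveI hKs : Group.IsSolvable K := ⟨⟨1, by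
    rw [derivedSeries_one, _root_.commutator_def, Subgroup.commutator_eq_bot_iff_le_centralizer]
    exact fun a _ => Subgroup.mem_centralizer_iff.2 fun b _ => Subtype.ext (hab b b.2 a a.2)⟩⟩
  haveI : Group.IsSolvable G := Group.isSolvable_of_ker_le_range K.subtype (QuotientGroup.mk' K)
    (by rw [QuotientGroup.ker_mk', Subgroup.range_subtype])
  obtain ⟨U, lam, hlam, h1, hind⟩ := S0859.result K
    (fun q _ P a _ b _ => Subtype.ext (hab a a.2 b b.2))
    (S0858.result K inferInstance (chief_not_square hp K hP)) χ hχ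
  obtain ⟨l, rfl⟩ := exists_hom_of_apply_one_eq_one hlam h1
  exact ⟨U, l, hind.symm⟩

/-- Taketa's step. -/
theorem taketa_step [Fintype G] (H : Subgroup G) (lam : H →* ℂˣ) {n : ℕ}
    (hn : indFun H (fun h => (lam h : ℂ)) 1 = (n : ℂ)) (D : Subgroup G) [D.Normal]
    (hlow : ∀ η : G → ℂ, IsIrrCharacter G η → ∀ j : ℕ, η 1 = (j : ℂ) → j < n →
      ∀ x ∈ D, η x = η 1) :
    ∀ g ∈ ⁅D, D⁆, indFun H (fun h => (lam h : ℂ)) g = indFun H (fun h => (lam h : ℂ)) 1 := by
  classical
  intro g hg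
  have hidx : H.index = n := by
    rw [ind_one_apply, map_one, Units.val_one, mul_one] at hn
    exact_mod_cast hn
  -- `D` lies in the normal core of `H`
  have hD : ∀ x ∈ D, x ∈ H := by
    intro x hx
    by_cases hH : H = ⊤
    · rw [hH]; exact Subgroup.mem_top x
    have hc := isCharacter_ind H (CharBasicDecomp.isCharacter_one (G := H))
    obtain ⟨m, hm, hsum⟩ := exists_mult hc
    have hm1 : m (trivIrr G) = 1 := by
      have h1 := hm (trivIrr G)
      have : Fintype H := Fintype.ofFinite H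
      rw [show ((trivIrr G : IrrCharacter G) : G → ℂ) = fun _ => (1 : ℂ) from rfl,
        inner_ind_left H _ (fun _ _ => rfl), classInner_irr_self isIrrCharacter_one] at h1
      exact_mod_cast h1.symm
    have hval : indFun H (fun _ => (1 : ℂ)) x = indFun H (fun _ => (1 : ℂ)) 1 := by
      rw [hsum, Finset.sum_apply, Finset.sum_apply]
      refine Finset.sum_congr rfl fun η _ => ?_
      simp only [Pi.smul_apply]
      by_cases hm0 : m η = 0
      · simp [hm0]
      by_cases hη : η = trivIrr G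
      · subst hη; rfl
      congr 1
      obtain ⟨j, hj, hj1⟩ := isIrrCharacter_apply_one η.2
      refine hlow η η.2 j hj1 ?_ x hx
      have h1 := congrFun hsum 1
      rw [ind_one_apply, mul_one, hidx, Finset.sum_apply] at h1
      choose deg hdeg0 hdeg using fun ξ : IrrCharacter G => isIrrCharacter_apply_one ξ.2
      simp only [Pi.smul_apply, smul_eq_mul, hdeg] at h1
      have h2 : n = ∑ ξ, m ξ * deg ξ := by exact_mod_cast h1
      have h3 : ∑ ξ ∈ ({η, trivIrr G} : Finset (IrrCharacter G)), m ξ * deg ξ ≤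
          ∑ ξ, m ξ * deg ξ := Finset.sum_le_sum_of_subset (Finset.subset_univ _)
      rw [Finset.sum_pair hη, hm1, ← h2] at h3
      have hdt : deg (trivIrr G) = 1 := by
        have := hdeg (trivIrr G)
        simp only [trivIrr] at this
        exact_mod_cast this.symm
      have hdj : deg η = j := by
        have := hdeg η
        rw [hj1] at this
        exact_mod_cast this.symm
      have h4 : j ≤ m η * deg η := hdj ▸ Nat.le_mul_of_pos_left _ (Nat.pos_of_ne_zero hm0)
      omega
    by_contra hxH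
    rw [indFun_apply, indFun_apply] at hval
    have hH0 := card_subgroup_ne_zero H
    have h2 := mul_left_cancel₀ (inv_ne_zero hH0) hval
    have hone : ∀ y : G, extendByZero H (fun _ => (1 : ℂ)) (y⁻¹ * 1 * y) = 1 := fun y => by
      rw [ext_zero_of_mem _ (by simp [H.one_mem])]
    rw [Finset.sum_congr rfl fun y _ => hone y] at h2
    have h3 : ∑ y : G, (extendByZero H (fun _ => (1 : ℂ)) (y⁻¹ * x * y)).re = ∑ _y : G, (1 : ℝ) := by
      rw [← Complex.re_sum, h2]; simp
    have hb : ∀ y ∈ (Finset.univ : Finset G),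
        (extendByZero H (fun _ => (1 : ℂ)) (y⁻¹ * x * y)).re ≤ 1 := by
      intro y _
      by_cases hy : y⁻¹ * x * y ∈ H
      · rw [ext_zero_of_mem _ hy]; simp
      · rw [ext_zero_of_not_mem _ hy]; simp
    have h4 := (Finset.sum_eq_sum_iff_of_le hb).1 h3 1 (Finset.mem_univ _)
    rw [ext_zero_of_not_mem _ (by simpa using hxH)] at h4
    simp at h4
  rw [ind_one_apply, map_one, Units.val_one, indFun_apply,
    Finset.sum_congr rfl (g := fun _ => (1 : ℂ)) (fun y _ => ?_), Finset.sum_const,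
    Finset.card_univ, ← Nat.card_eq_fintype_card, nsmul_eq_mul, ← H.card_mul_index, Nat.cast_mul,
    mul_assoc, inv_mul_cancel_left₀ (card_subgroup_ne_zero H)]
  have hy : y⁻¹ * g * y ∈ ⁅D, D⁆ := (inferInstance : (⁅D, D⁆ : Subgroup G).Normal).conj_mem' g hg y
  have key : ⁅D, D⁆ ≤ (MonoidHom.ker lam).map H.subtype := by
    rw [Subgroup.commutator_le]
    intro a ha b hb
    refine ⟨(⟨a, hD a ha⟩ : H) * ⟨b, hD b hb⟩ * (⟨a, hD a ha⟩ : H)⁻¹ * (⟨b, hD b hb⟩ : H)⁻¹, ?_, rfl⟩
    show lam ((⟨a, hD a ha⟩ : H) * ⟨b, hD b hb⟩ * (⟨a, hD a ha⟩ : H)⁻¹ * (⟨b, hD b hb⟩ : H)⁻¹) = 1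
    rw [map_mul, map_mul, map_mul, map_inv, map_inv, mul_comm (lam _) (lam _), mul_inv_cancel_right,
      mul_inv_cancel]
  obtain ⟨z, hz, hze⟩ := key hy
  rw [← hze, show H.subtype z = (z : G) from rfl, ext_zero_coe, MonoidHom.mem_ker.1 hz,
    Units.val_one]

/-- Taketa for monomial groups with three degrees. -/
theorem derivedSeries_three_of_monomial [Fintype G] {a b : ℕ} (hab : a < b)
    (hdeg : ∀ χ : G → ℂ, IsIrrCharacter G χ → χ 1 = 1 ∨ χ 1 = (a : ℂ) ∨ χ 1 = (b : ℂ))
    (hM : ∀ χ : G → ℂ, IsIrrCharacter G χ →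
      ∃ (H : Subgroup G) (lam : H →* ℂˣ), χ = indFun H (fun h => (lam h : ℂ))) :
    derivedSeries G 3 = ⊥ := by
  classical
  haveI hn1 : (derivedSeries G 1).Normal := derivedSeries_normal G 1
  haveI hn2 : (derivedSeries G 2).Normal := derivedSeries_normal G 2
  have h1 : ∀ χ : G → ℂ, IsIrrCharacter G χ → χ 1 = 1 → ∀ x ∈ derivedSeries G 1, χ x = χ 1 := by
    intro φ hφ h1 x hx
    obtain ⟨lam, rfl⟩ := exists_hom_of_apply_one_eq_one (isCharacter_of_isIrrCharacter hφ) h1
    rw [derivedSeries_one] at hx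
    simp [MonoidHom.mem_ker.1 (Abelianization.commutator_subset_ker lam hx)]
  have h2 : ∀ χ : G → ℂ, IsIrrCharacter G χ → χ 1 = (a : ℂ) →
      ∀ x ∈ derivedSeries G 2, χ x = χ 1 := by
    intro χ hχ ha x hx
    obtain ⟨H, lam, rfl⟩ := hM χ hχ
    rw [derivedSeries_succ] at hx
    refine taketa_step H lam ha _ (fun η hη j hj hlt => h1 η hη ?_) x hx
    rcases hdeg η hη with e | e | e
    · exact e
    · rw [hj, Nat.cast_inj] at e; omega
    · rw [hj, Nat.cast_inj] at e; omega
  refine (Subgroup.eq_bot_iff_forall _).2 fun g hg => ?_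
  rw [← isConj_one_left, isConj_iff_forall_irr]
  intro χ
  rcases hdeg χ χ.2 with e | e | e
  · exact h1 χ χ.2 e g (derivedSeries_antitone G (by norm_num) hg)
  · exact h2 χ χ.2 e g (derivedSeries_antitone G (by norm_num) hg)
  · obtain ⟨H, lam, hχ⟩ := hM χ χ.2
    rw [hχ] at e ⊢
    rw [derivedSeries_succ] at hg
    refine taketa_step H lam e _ (fun η hη j hj hlt x hx => ?_) g hg
    rcases hdeg η hη with e' | e' | e'
    · exact h1 η hη e' x (derivedSeries_antitone G (by norm_num) hx)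
    · exact h2 η hη e' x hx
    · rw [hj, Nat.cast_inj] at e'; omega

end Cfsg.Agent.H74ThreeDeg
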