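import Mathlib
import Cfsg.Agent.S4456
import Cfsg.Agent.S4466
import Cfsg.Agent.S4811
import Cfsg.Agent.Lib.CharGallagher
import Cfsg.Agent.Lib.CharProjDegree
import Cfsg.Agent.Lib.TwoDegrees72
import Cfsg.Agent.Lib.H74ThreeDegBasic
import Cfsg.Agent.Lib.H74ThreeDegTools
import Cfsg.Agent.Lib.H74ThreeDegFrob

/-!
A group with three irreducible character degrees has derived length at most three
(Isaacs, Theorem 12.15).
-/

set_option autoImplicit false
open Cfsg

namespace Cfsg.Agent.H74ThreeDeg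

open Cfsg.Agent.CharBasic Cfsg.Agent.CharBasicOrth Cfsg.Agent.CharBasicDecomp Cfsg.Agent.CharBasicLinear
open Cfsg.Agent.CharInduced
open scoped ComplexConjugate commutatorElement

universe u

variable {G : Type u} [Group G]

theorem three_of_two [Finite G] {m : ℕ} (h : TwoDegrees72.Deg G m) : derivedSeries G 3 = ⊥ :=
  eq_bot_iff.2 ((derivedSeries_antitone G (by norm_num : 2 ≤ 3)).trans
    (derivedSeries_two_eq_bot (TwoDegrees72.comm_commutator h)).le)

theorem le_ker_of_map_eq_bot (N : Subgroup G) [N.Normal] {n : ℕ} (h : derivedSeries (G ⧸ N) n = ⊥) :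
    derivedSeries G n ≤ N := by
  have h1 := map_derivedSeries_le_derivedSeries (QuotientGroup.mk' N) n
  rw [h, le_bot_iff, Subgroup.map_eq_bot_iff, QuotientGroup.ker_mk'] at h1
  exact h1

/-- The `p'`-part of `e * k`. -/
theorem ordCompl_eq {p e k j : ℕ} (hp : p.Prime) (he : ¬ p ∣ e) (hk : k ∣ p ^ j) :
    (e * k) / p ^ (e * k).factorization p = e := by
  obtain ⟨i, -, rfl⟩ := (Nat.dvd_prime_pow hp).1 hk
  have he0 : e ≠ 0 := fun h => he (h ▸ dvd_zero p)
  have hf : (e * p ^ i).factorization p = i := by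
    rw [Nat.factorization_mul he0 (pow_ne_zero _ hp.pos.ne'), Finsupp.add_apply,
      Nat.factorization_eq_zero_of_not_dvd he, hp.factorization_pow, Finsupp.single_eq_same, zero_add]
  rw [hf, Nat.mul_div_cancel _ (Nat.pow_pos hp.pos)]

/-- Both nonlinear degrees divisible by one prime. -/
theorem common_prime_case [Finite G] {a b p : ℕ} (hp : p.Prime) (hpa : p ∣ a) (hpb : p ∣ b)
    (hab : a ≠ b) (hdeg : Deg3 G a b) (hexa : ∃ χ : G → ℂ, IsIrrCharacter G χ ∧ χ 1 = (a : ℂ))
    (IH : ∀ K : Subgroup G, Nat.card K < Nat.card G → ∀ c d, Deg3 K c d → derivedSeries K 3 = ⊥) :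
    derivedSeries G 3 = ⊥ := by
  classical
  have := Fintype.ofFinite G
  haveI := Fact.mk hp
  obtain ⟨K, hKn, hKc, j, hj⟩ := S4456.result (G := G) p hp fun χ hχ => by
    obtain ⟨n, -, hn⟩ := isIrrCharacter_apply_one χ.2
    rw [S4466.charDegree_eq hn] at hχ ⊢
    rcases hdeg.cases χ.2 hn with rfl | rfl | rfl
    · exact absurd rfl hχ
    · exact hpa
    · exact hpb
  haveI := hKn
  have := Fintype.ofFinite K
  have hpK : ¬ p ∣ Nat.card K := fun h => hp.ne_one (Nat.eq_one_of_dvd_coprimes hKc h dvd_rfl)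
  set oc : ℕ → ℕ := fun n => n / p ^ n.factorization p with hoc
  have hoc1 : oc 1 = 1 := by simp [hoc]
  have hocm : ∀ {e k : ℕ}, ¬ p ∣ e → k ∣ p ^ j → oc (e * k) = e := fun he hk => ordCompl_eq hp he hk
  have hKdeg : Deg3 K (oc a) (oc b) := by
    intro θ hθ
    obtain ⟨χ, hχ, hne⟩ := exists_over K hθ
    obtain ⟨k, e, he, hχe, hk⟩ := CharProjDegree.degree_dvd K hχ hθ hne
    obtain ⟨e', -, he', hed⟩ := CharBasicInt.exists_apply_one_dvd_card hθ
    have hee : e = e' := by exact_mod_cast he.symm.trans he'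
    subst hee
    have hpe : ¬ p ∣ e := fun h => hpK (h.trans hed)
    rw [← hocm hpe (hj ▸ hk)] at he
    rcases hdeg.cases hχ hχe with h | h | h <;> rw [h] at he
    · exact Or.inl (by rw [he, hoc1, Nat.cast_one])
    · exact Or.inr (Or.inl he)
    · exact Or.inr (Or.inr he)
  set Q := G ⧸ (⁅K, K⁆ : Subgroup G) with hQdef
  set π := QuotientGroup.mk' (⁅K, K⁆ : Subgroup G) with hπ
  have hQdeg : ∀ ψ : G ⧸ (⁅K, K⁆ : Subgroup G) → ℂ, IsIrrCharacter _ ψ →
      ∃ n : ℕ, ψ 1 = (n : ℂ) ∧ oc n = 1 ∧ (n = 1 ∨ n = a ∨ n = b) := by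
    intro ψ hψ
    have := Fintype.ofFinite (G ⧸ (⁅K, K⁆ : Subgroup G))
    haveI : (K.map π).Normal := hKn.map π (QuotientGroup.mk'_surjective _)
    have := Fintype.ofFinite (K.map π)
    obtain ⟨θ, hθ, hne⟩ := exists_const
      (isCharacter_res (K.map π) (isCharacter_of_isIrrCharacter hψ))
      (by simpa using isIrrCharacter_apply_one_ne_zero hψ)
    obtain ⟨k, e, he, hψe, hk⟩ := CharProjDegree.degree_dvd (K.map π) hψ hθ hne
    have he1 : e = 1 := by
      have := apply_one_eq_one_of_comm (fun x y => Subtype.ext ?_) hθ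
      · rw [he] at this; exact_mod_cast this
      obtain ⟨u, hu, hu'⟩ := x.2
      obtain ⟨v, hv, hv'⟩ := y.2
      show (x : G ⧸ (⁅K, K⁆ : Subgroup G)) * y = y * x
      rw [← hu', ← hv', ← commutatorElement_eq_one_iff_mul_comm, ← map_commutatorElement]
      exact (QuotientGroup.eq_one_iff _).2 (Subgroup.commutator_mem_commutator hu hv)
    subst he1
    have hk' : k ∣ p ^ j := hk.trans (hj ▸ Subgroup.index_map_dvd K (QuotientGroup.mk'_surjective _))
    exact ⟨1 * k, hψe, hocm hp.not_dvd_one hk',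
      (hdeg.of_surjective π (QuotientGroup.mk'_surjective _)).cases hψ hψe⟩
  -- one reduced degree trivial
  have mixed : ∀ c d : ℕ, (∀ n, n = 1 ∨ n = a ∨ n = b → n = 1 ∨ n = c ∨ n = d) →
      oc c = 1 → oc d ≠ 1 → Deg3 K (oc c) (oc d) → derivedSeries G 3 = ⊥ := by
    intro c d hsub hc hd hK
    have hQ : TwoDegrees72.Deg (G ⧸ (⁅K, K⁆ : Subgroup G)) c := fun ψ hψ => by
      obtain ⟨n, hn, hn1, hn'⟩ := hQdeg ψ hψ
      rcases hsub n hn' with rfl | rfl | rfl
      · exact Or.inl (by rw [hn, Nat.cast_one])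
      · exact Or.inr hn
      · exact absurd hn1 hd
    have hK2 : TwoDegrees72.Deg K (oc d) := fun θ hθ => by
      rcases hK θ hθ with h | h | h
      · exact Or.inl h
      · exact Or.inl (by rw [h, hc, Nat.cast_one])
      · exact Or.inr h
    have h1 := le_ker_of_map_eq_bot _ (derivedSeries_two_eq_bot (TwoDegrees72.comm_commutator hQ))
    rw [← map_derivedSeries_one] at h1
    have h2 := derivedSeries_le_map K h1 1
    rw [derivedSeries_two_eq_bot (TwoDegrees72.comm_commutator hK2), Subgroup.map_bot] at h2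
    exact eq_bot_iff.2 h2
  by_cases ha1 : oc a = 1 <;> by_cases hb1 : oc b = 1
  · have hKab : ∀ x ∈ K, ∀ y ∈ K, x * y = y * x := fun x hx y hy => congrArg Subtype.val
      (comm_of_forall_apply_one (G := K) (fun θ => by
        rcases hKdeg θ θ.2 with h | h | h
        · exact h
        · rw [h, ha1, Nat.cast_one]
        · rw [h, hb1, Nat.cast_one]) ⟨x, hx⟩ ⟨y, hy⟩)
    have hM := monomial_of_abelian_normal hp K hj hKab
    rcases lt_or_gt_of_ne hab with h | h
    · exact derivedSeries_three_of_monomial h hdeg hM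
    · exact derivedSeries_three_of_monomial h hdeg.swap hM
  · exact mixed a b (fun n h => h) ha1 hb1 hKdeg
  · exact mixed b a (fun n h => h.imp_right Or.symm) hb1 ha1 hKdeg.swap
  · have hQab : ∀ x y : G ⧸ (⁅K, K⁆ : Subgroup G), x * y = y * x := comm_of_forall_apply_one fun ψ => by
      obtain ⟨n, hn, hn1, rfl | rfl | rfl⟩ := hQdeg ψ ψ.2
      · rw [hn, Nat.cast_one]
      · exact absurd hn1 ha1
      · exact absurd hn1 hb1
    have hlt : Nat.card K < Nat.card G := by
      refine lt_of_le_of_ne K.card_le_card_group fun h => hpK ?_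
      obtain ⟨χ, hχ, hχa⟩ := hexa
      obtain ⟨a', -, ha', had⟩ := CharBasicInt.exists_apply_one_dvd_card hχ
      rw [hχa, Nat.cast_inj] at ha'
      exact h ▸ (hpa.trans (ha' ▸ had))
    have h1 : derivedSeries G 1 ≤ ⁅K, K⁆ := by
      refine le_ker_of_map_eq_bot _ ?_
      rw [derivedSeries_one, _root_.commutator_def, Subgroup.commutator_eq_bot_iff_le_centralizer]
      exact fun x _ => Subgroup.mem_centralizer_iff.2 fun y _ => hQab y x
    rw [← map_derivedSeries_one] at h1
    have h2 := derivedSeries_le_map K h1 2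
    rw [IH K hlt _ _ hKdeg, Subgroup.map_bot] at h2
    exact eq_bot_iff.2 h2

/-- A nonabelian `p`-factor group is impossible when the degrees are coprime. -/
theorem no_pGroup_factor [Finite G] {a b : ℕ} (hdeg : Deg3 G a b) (ha : a ≠ 1) (hb : b ≠ 1)
    (hcop : a.Coprime b) (hexb : ∃ χ : G → ℂ, IsIrrCharacter G χ ∧ χ 1 = (b : ℂ))
    (K : Subgroup G) [K.Normal] {p : ℕ} (hp : p.Prime) (hP : IsPGroup p (G ⧸ K))
    {β0 : G ⧸ K → ℂ} (hβ0 : IsIrrCharacter (G ⧸ K) β0) (hβa : β0 1 = (a : ℂ)) : False := by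
  classical
  have := Fintype.ofFinite G
  have := Fintype.ofFinite K
  haveI := Fact.mk hp
  obtain ⟨j, hj⟩ := IsPGroup.iff_card.1 hP
  obtain ⟨a', -, ha', had⟩ := CharBasicInt.exists_apply_one_dvd_card hβ0
  rw [hβa, Nat.cast_inj] at ha'
  subst ha'
  have hpa : p ∣ a := by
    obtain ⟨i, -, rfl⟩ := (Nat.dvd_prime_pow hp).1 (hj ▸ had)
    exact dvd_pow_self p (fun h => ha (by rw [h, pow_zero]))
  obtain ⟨χ, hχ, hχb⟩ := hexb
  obtain ⟨θ, hθ, hθne⟩ := exists_const (isCharacter_res K (isCharacter_of_isIrrCharacter hχ))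
    (by simpa using isIrrCharacter_apply_one_ne_zero hχ)
  obtain ⟨k, d, hd, hχd, hk⟩ := CharProjDegree.degree_dvd K hχ hθ hθne
  rw [hχb, Nat.cast_inj] at hχd
  have hk1 : k = 1 := by
    obtain ⟨i, -, hi⟩ := (Nat.dvd_prime_pow hp).1 (show k ∣ p ^ j from hj ▸ hk)
    rcases Nat.eq_zero_or_pos i with rfl | hi0
    · rw [hi, pow_zero]
    · exact absurd (Nat.eq_one_of_dvd_coprimes hcop hpa
        (hχd ▸ Dvd.dvd.mul_left (hi ▸ dvd_pow_self p hi0.ne') d)) hp.ne_one
  rw [hk1, mul_one] at hχd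
  subst hχd
  have hres : ∀ n : K, χ n = θ n := congrFun (eq_of_constituent_of_apply_one_le
    (isCharacter_res K (isCharacter_of_isIrrCharacter hχ)) hθ hθne (by simp [hχb, hd]))
  have hβ : IsIrrCharacter G (β0 ∘ QuotientGroup.mk' K) :=
    isIrrCharacter_comap _ (QuotientGroup.mk'_surjective K) hβ0
  have hprod := ((CharGallagher.bijOn_one K hθ hχ hres).mapsTo (x := β0 ∘ QuotientGroup.mk' K)
    ⟨hβ, fun n => by
      show β0 _ = β0 _
      rw [show QuotientGroup.mk' K (n : G) = 1 from (QuotientGroup.eq_one_iff _).2 n.2, map_one]⟩).1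
  have h1 : (β0 ∘ QuotientGroup.mk' K * χ) 1 = ((a * b : ℕ) : ℂ) := by
    simp [hβa, hχb]
  rcases hdeg.cases hprod h1 with h | h | h
  · exact ha (mul_eq_one.1 h).1
  · refine ha (Nat.eq_one_of_dvd_coprimes hcop dvd_rfl ?_)
    rcases Nat.eq_zero_or_pos a with h0 | h0
    · subst h0; exact absurd (Nat.coprime_zero_left _ |>.1 hcop) hb
    · exact absurd (Nat.eq_of_mul_eq_mul_left h0 (h.trans (mul_one a).symm)) hb
  · exact ha (Nat.eq_one_of_dvd_coprimes hcop dvd_rfl (h ▸ dvd_mul_right a b))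

/-- The coprime case. -/
theorem coprime_case [Finite G] {a b : ℕ} (hdeg : Deg3 G a b) (ha : a ≠ 1) (hb : b ≠ 1)
    (hcop : a.Coprime b) (hexa : ∃ χ : G → ℂ, IsIrrCharacter G χ ∧ χ 1 = (a : ℂ))
    (hexb : ∃ χ : G → ℂ, IsIrrCharacter G χ ∧ χ 1 = (b : ℂ))
    (hquot : ∀ (R : Subgroup G) [R.Normal], R ≠ ⊥ → derivedSeries (G ⧸ R) 3 = ⊥) :
    derivedSeries G 3 = ⊥ := by
  classical
  have := Fintype.ofFinite G
  haveI := solvable_of_coprime hdeg ha hb hcop hquot
  have hab : ¬ ∀ x y : G, x * y = y * x := fun h => by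
    obtain ⟨χ, hχ, hχa⟩ := hexa
    exact ha (by exact_mod_cast hχa.symm.trans (apply_one_eq_one_of_comm h hχ))
  obtain ⟨K, hK, hKmax⟩ := Finset.exists_max_image
    (Finset.univ.filter fun K : Subgroup G => K.Normal ∧ ¬ ∀ x y : G, ⁅x, y⁆ ∈ K)
    (fun K => Nat.card K) ⟨⊥, Finset.mem_filter.2 ⟨Finset.mem_univ _, inferInstance, fun h => hab
      fun x y => commutatorElement_eq_one_iff_mul_comm.1 (Subgroup.mem_bot.1 (h x y))⟩⟩
  obtain ⟨-, hKn, hK⟩ := Finset.mem_filter.1 hK
  haveI := hKn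
  have hmemK : ∀ x y : G, ⁅QuotientGroup.mk' K x, QuotientGroup.mk' K y⁆ = 1 ↔ ⁅x, y⁆ ∈ K := fun x y => by
    rw [← map_commutatorElement]
    exact QuotientGroup.eq_one_iff _
  have hqnc : ¬ ∀ x y : G ⧸ K, x * y = y * x := fun h => hK fun x y =>
    (hmemK x y).1 (commutatorElement_eq_one_iff_mul_comm.2 (h _ _))
  have hqmax : ∀ R : Subgroup (G ⧸ K), R.Normal → R ≠ ⊥ → ∀ x y : G ⧸ K, ⁅x, y⁆ ∈ R := by
    intro R hR hbot x y
    obtain ⟨x, rfl⟩ := QuotientGroup.mk'_surjective K x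
    obtain ⟨y, rfl⟩ := QuotientGroup.mk'_surjective K y
    rw [← map_commutatorElement]
    by_contra hne
    have hle : K ≤ R.comap (QuotientGroup.mk' K) := fun k hk => by
      rw [Subgroup.mem_comap, (show QuotientGroup.mk' K k = 1 from (QuotientGroup.eq_one_iff k).2 hk)]
      exact one_mem R
    have heq := Subgroup.eq_of_le_of_card_ge hle (hKmax _ (Finset.mem_filter.2 ⟨Finset.mem_univ _,
      inferInstance, fun h => hne (h x y)⟩))
    refine hbot (eq_bot_iff.2 fun z hz => ?_)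
    obtain ⟨z, rfl⟩ := QuotientGroup.mk'_surjective K z
    exact Subgroup.mem_bot.2 ((QuotientGroup.eq_one_iff z).2 (heq ▸ hz))
  rcases S4811.minimal_quotient hqnc hqmax with ⟨p, hp, hP⟩ | ⟨hMb, hMt, hMmin, hMab, hMf⟩
  · exfalso
    obtain ⟨β0, hβ0⟩ : ∃ β0 : IrrCharacter (G ⧸ K), (β0 : G ⧸ K → ℂ) 1 ≠ 1 := by
      by_contra hh
      push Not at hh
      exact hqnc (comm_of_forall_apply_one hh)
    rcases hdeg.of_surjective _ (QuotientGroup.mk'_surjective K) _ β0.2 with h | h | h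
    · exact hβ0 h
    · exact no_pGroup_factor hdeg ha hb hcop hexb K hp hP β0.2 h
    · exact no_pGroup_factor hdeg.swap hb ha hcop.symm hexa K hp hP β0.2 h
  set N := (commutator (G ⧸ K)).comap (QuotientGroup.mk' K) with hN
  have hKN : K < N := lt_of_le_of_ne (fun k hk => by
    rw [hN, Subgroup.mem_comap, (show QuotientGroup.mk' K k = 1 from (QuotientGroup.eq_one_iff k).2 hk)]
    exact one_mem _) fun e => hMb (eq_bot_iff.2 fun y hy => by
      obtain ⟨y, rfl⟩ := QuotientGroup.mk'_surjective K y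
      exact Subgroup.mem_bot.2 ((QuotientGroup.eq_one_iff y).2 (e ▸ hy)))
  have hmin : ∀ R : Subgroup G, R.Normal → K ≤ R → R ≤ N → R = K ∨ R = N := fun R hR hKR hRN => by
    have hcm : (R.map (QuotientGroup.mk' K)).comap (QuotientGroup.mk' K) = R := by
      rw [Subgroup.comap_map_eq, QuotientGroup.ker_mk', sup_eq_left.2 hKR]
    rcases hMmin _ (hR.map _ (QuotientGroup.mk'_surjective K)) (Subgroup.map_le_iff_le_comap.2 hRN)
      with h | h
    · left; rw [← hcm, h, MonoidHom.comap_bot, QuotientGroup.ker_mk']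
    · right; rw [← hcm, h]
  have hcomm : ∀ x ∈ N, ∀ y ∈ N, ⁅x, y⁆ ∈ K := fun x hx y hy =>
    (hmemK x y).1 (commutatorElement_eq_one_iff_mul_comm.2 (hMab _ hx _ hy))
  have hGN : ∀ x y : G, ⁅x, y⁆ ∈ N := fun x y => by
    rw [hN, Subgroup.mem_comap, map_commutatorElement]
    exact Subgroup.commutator_mem_commutator (Subgroup.mem_top _) (Subgroup.mem_top _)
  have hfpf : ∀ x : G, x ∉ N → ∃ n ∈ N, ⁅x, n⁆ ∉ K := fun x hx => by
    obtain ⟨m, hm, hxm⟩ := hMf (QuotientGroup.mk' K x) hx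
    obtain ⟨n, rfl⟩ := QuotientGroup.mk'_surjective K m
    exact ⟨n, hm, fun h => hxm ((hmemK x n).2 h)⟩
  have hq1 : K.relIndex N ≠ 1 := fun h => hKN.not_ge (Subgroup.relIndex_eq_one.1 h)
  have hf1 : N.index ≠ 1 := fun h => hMt (by
    rw [← Subgroup.index_eq_one, ← Subgroup.index_comap_of_surjective _ (QuotientGroup.mk'_surjective K)]
    exact h)
  have hfcd : N.index ∈ Cfsg.charDegrees G := by
    have h1 : IsIrrCharacter N (fun _ : N => (1 : ℂ)) := by
      simpa using isIrrCharacter_linear (1 : N →* ℂˣ)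
    rcases S4811.induce_or_dvd N K hKN hmin hcomm hGN hfpf h1 (d := 1) Nat.cast_one.symm
      (fun _ _ => rfl) with h | h
    · exact absurd (h _ (Nat.minFac_prime hq1) (Nat.minFac_dvd _)) (Nat.minFac_prime hq1).not_dvd_one
    · simpa using h
  have hidx : N.index = a ∨ N.index = b := by
    obtain ⟨χ, hχ⟩ := hfcd
    obtain ⟨n, -, hn⟩ := isIrrCharacter_apply_one χ.2
    rw [S4466.charDegree_eq hn] at hχ
    exact hχ ▸ ((hdeg.cases χ.2 hn).resolve_left fun h => hf1 (hχ ▸ h))
  have h2N : derivedSeries N 2 = ⊥ := by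
    rcases hidx with h | h
    · exact derivedSeries_two_eq_bot (TwoDegrees72.comm_commutator
        (frobenius_kernel_deg hdeg ha hcop N K hKN hmin hcomm hGN hfpf h))
    · exact derivedSeries_two_eq_bot (TwoDegrees72.comm_commutator
        (frobenius_kernel_deg hdeg.swap hb hcop.symm N K hKN hmin hcomm hGN hfpf h))
  have h1 : derivedSeries G 1 ≤ (derivedSeries N 0).map N.subtype := by
    rw [derivedSeries_zero, ← MonoidHom.range_eq_map, Subgroup.range_subtype, derivedSeries_one,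
      _root_.commutator_def, Subgroup.commutator_le]
    exact fun x _ y _ => hGN x y
  have h2 := derivedSeries_le_map N h1 2
  rw [show 0 + 2 = 2 from rfl, h2N, Subgroup.map_bot] at h2
  exact eq_bot_iff.2 h2

/-- Groups with degrees in `{1, a, b}` have derived length at most three. -/
theorem derivedSeries_three_eq_bot : ∀ (n : ℕ) (G : Type u) [Group G] [Finite G], Nat.card G = n →
    ∀ a b : ℕ, Deg3 G a b → derivedSeries G 3 = ⊥ := by
  intro n
  induction n using Nat.strong_induction_on with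
  | _ n IH =>
    intro G _ _ hn a b hdeg
    classical
    have := Fintype.ofFinite G
    by_cases ha : a = 1
    · exact three_of_two (m := b) fun χ hχ => by
        rcases hdeg χ hχ with e | e | e
        · exact Or.inl e
        · exact Or.inl (by rw [e, ha, Nat.cast_one])
        · exact Or.inr e
    by_cases hb : b = 1
    · exact three_of_two (m := a) fun χ hχ => by
        rcases hdeg χ hχ with e | e | e
        · exact Or.inl e
        · exact Or.inr e
        · exact Or.inl (by rw [e, hb, Nat.cast_one])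
    by_cases hexa : ∃ χ : G → ℂ, IsIrrCharacter G χ ∧ χ 1 = (a : ℂ)
    swap
    · exact three_of_two (m := b) fun χ hχ => (hdeg χ hχ).imp_right fun h =>
        h.resolve_left fun e => hexa ⟨χ, hχ, e⟩
    by_cases hexb : ∃ χ : G → ℂ, IsIrrCharacter G χ ∧ χ 1 = (b : ℂ)
    swap
    · exact three_of_two (m := a) fun χ hχ => (hdeg χ hχ).imp_right fun h =>
        h.resolve_right fun e => hexb ⟨χ, hχ, e⟩
    by_cases hab : a = b
    · exact three_of_two (m := a) fun χ hχ => (hdeg χ hχ).imp_right fun h =>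
        h.elim id fun e => by rw [e, hab]
    by_cases hcop : a.Coprime b
    · refine coprime_case hdeg ha hb hcop hexa hexb fun R _ hR => IH _ ?_ _ rfl _ _
        (hdeg.of_surjective _ (QuotientGroup.mk'_surjective R))
      rw [← hn, Subgroup.card_eq_card_quotient_mul_card_subgroup R]
      exact lt_mul_of_one_lt_right Nat.card_pos (Subgroup.one_lt_card_iff_ne_bot R |>.2 hR)
    · obtain ⟨p, hp, hpa, hpb⟩ := Nat.Prime.not_coprime_iff_dvd.1 hcop
      exact common_prime_case hp hpa hpb hab hdeg hexa fun K hK c d hcd =>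
        IH _ (hn ▸ hK) K rfl c d hcd

end Cfsg.Agent.H74ThreeDeg
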