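import Mathlib

/-!
Numbers in the alternating group of degree five, and small counting tools for two classes of
involutions.
-/

set_option autoImplicit false

namespace Cfsg.Agent.HJPatternCount

local notation "A₅" => alternatingGroup (Fin 5)

set_option maxRecDepth 10000 in
theorem card_inv : (Finset.univ.filter fun c : A₅ => c * c = 1 ∧ c ≠ 1).card = 15 := by decide +kernel

set_option maxRecDepth 10000 in
theorem card_comm : ∀ c : A₅, c * c = 1 → c ≠ 1 →
    (Finset.univ.filter fun d : A₅ => d * d = 1 ∧ d ≠ 1 ∧ d * c = c * d).card = 3 := by decide +kernel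

set_option maxRecDepth 10000 in
theorem pow_thirty : ∀ c : A₅, c ^ 30 = 1 ∧ (c ^ 15 = 1 ↔ (c * c ≠ 1 ∨ c = 1)) := by decide +kernel

set_option maxRecDepth 10000 in
theorem card_pairs :
    ((Finset.univ.filter fun c : A₅ => c * c = 1 ∧ c ≠ 1).sigma fun c =>
      Finset.univ.filter fun d : A₅ => d * d = 1 ∧ ((c * d) * (c * d) ≠ 1 ∨ c * d = 1)).card = 195 := by
  decide +kernel

theorem odd_iff {B : Type*} [Group B] (e : B ≃* A₅) (c : B) :
    Odd (orderOf c) ↔ (c * c ≠ 1 ∨ c = 1) := by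
  have h1 : orderOf c = orderOf (e c) := (MulEquiv.orderOf_eq e c).symm
  rw [show c = 1 ↔ e c = 1 from (map_eq_one_iff e e.injective).symm,
    show c * c ≠ 1 ↔ e c * e c ≠ 1 by rw [← map_mul, ne_eq, ne_eq, map_eq_one_iff e e.injective],
    ← (pow_thirty (e c)).2, h1, ← orderOf_dvd_iff_pow_eq_one]
  constructor
  · intro hodd
    have h30 : orderOf (e c) ∣ 15 * 2 := orderOf_dvd_of_pow_eq_one (pow_thirty (e c)).1
    exact (Nat.coprime_two_right.2 hodd).dvd_of_dvd_mul_right h30
  · exact fun h => Odd.of_dvd_nat (by decide) h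

variable {G : Type*} [Group G]

/-- An involution in the group generated by a product of two involutions commutes with both. -/
theorem commute_of_mem_zpowers {u v x : G} (hu : u * u = 1) (hv : v * v = 1) (hx : x * x = 1)
    (h : x ∈ Subgroup.zpowers (u * v)) : Commute u x ∧ Commute v x := by
  obtain ⟨k, hk⟩ := Subgroup.mem_zpowers_iff.1 h
  have eu : u⁻¹ = u := inv_eq_of_mul_eq_one_right hu
  have ev : v⁻¹ = v := inv_eq_of_mul_eq_one_right hv
  have ex : x⁻¹ = x := inv_eq_of_mul_eq_one_right hx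
  have e1 : u * (u * v) * u⁻¹ = (u * v)⁻¹ := by
    rw [mul_inv_rev, eu, ev, ← mul_assoc, hu, one_mul]
  have h1 : Commute u x := by
    have h2 : u * x * u⁻¹ = x := by rw [← hk, ← conj_zpow, e1, inv_zpow, hk, ex]
    exact mul_inv_eq_iff_eq_mul.1 h2
  refine ⟨h1, ?_⟩
  have h3 : Commute (u * v) x := hk ▸ Commute.self_zpow (u * v) k
  have := h1.mul_left h3
  rwa [← mul_assoc, hu, one_mul] at this

theorem card_sup_of_disjoint [Finite G] {A B : Subgroup G} (h : A ≤ Subgroup.normalizer (B : Set G))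
    (hd : A ⊓ B = ⊥) : Nat.card ↥(A ⊔ B) = Nat.card A * Nat.card B := by
  rw [← Nat.card_prod]
  symm
  refine Nat.card_congr (Equiv.ofBijective (fun p => (⟨(p.1 : G) * p.2,
    mul_mem (Subgroup.mem_sup_left p.1.2) (Subgroup.mem_sup_right p.2.2)⟩ : ↥(A ⊔ B))) ⟨?_, ?_⟩)
  · rintro ⟨a, b⟩ ⟨a', b'⟩ e
    have e' : (a : G) * b = a' * b' := congrArg Subtype.val e
    have hab : (a' : G)⁻¹ * a = b' * (b : G)⁻¹ := by
      calc (a' : G)⁻¹ * a = (a' : G)⁻¹ * ((a : G) * b) * (b : G)⁻¹ := by group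
        _ = _ := by rw [e']; group
    have h1 : (a' : G)⁻¹ * a ∈ A ⊓ B :=
      ⟨A.mul_mem (A.inv_mem a'.2) a.2, hab ▸ B.mul_mem b'.2 (B.inv_mem b.2)⟩
    rw [hd, Subgroup.mem_bot] at h1
    have ha : a' = a := Subtype.ext (inv_mul_eq_one.1 h1)
    subst ha
    exact Prod.ext rfl (Subtype.ext (mul_left_cancel e'))
  · intro g
    have hg : (g : G) ∈ ((A ⊔ B : Subgroup G) : Set G) := g.2
    rw [Subgroup.coe_mul_of_left_le_normalizer_right A B h] at hg
    obtain ⟨a, ha, b, hb, e⟩ := Set.mem_mul.1 hg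
    exact ⟨(⟨a, ha⟩, ⟨b, hb⟩), Subtype.ext e⟩

/-- Conjugation preserves relative counts. -/
theorem card_conj_filter [Fintype G] [DecidableEq G] (P : G → Prop) [DecidablePred P]
    (hP : ∀ g y, P y → P (g * y * g⁻¹)) (g a : G) :
    (Finset.univ.filter fun b => P b ∧ b * (g * a * g⁻¹) = g * a * g⁻¹ * b).card =
      (Finset.univ.filter fun b => P b ∧ b * a = a * b).card := by
  refine Finset.card_bij' (fun b _ => g⁻¹ * b * g) (fun b _ => g * b * g⁻¹) ?_ ?_ ?_ ?_
  · intro b hb
    simp only [Finset.mem_filter, Finset.mem_univ, true_and] at hb ⊢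
    refine ⟨by simpa using hP g⁻¹ b hb.1, ?_⟩
    calc g⁻¹ * b * g * a = g⁻¹ * (b * (g * a * g⁻¹)) * g := by group
      _ = _ := by rw [hb.2]; group
  · intro b hb
    simp only [Finset.mem_filter, Finset.mem_univ, true_and] at hb ⊢
    refine ⟨hP g b hb.1, ?_⟩
    calc g * b * g⁻¹ * (g * a * g⁻¹) = g * (b * a) * g⁻¹ := by group
      _ = _ := by rw [hb.2]; group
  · intro b _; group
  · intro b _; group

end Cfsg.Agent.HJPatternCount
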