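import Mathlib

/-!
An extraspecial group of order 32 with an automorphism of order five has exactly ten involutions
outside its centre, and no two of them commute unless they differ by the central one.
-/

set_option autoImplicit false

namespace Cfsg.Agent.HJPatternExtraspecial

variable {G : Type*} [Group G]

/-- The hypotheses. -/
structure Ctx (Q : Subgroup G) (z e : G) : Prop where
  card : Nat.card Q = 32
  zQ : z ∈ Q
  zz : z * z = 1
  z1 : z ≠ 1
  zc : ∀ q ∈ Q, Commute q z
  sq : ∀ q ∈ Q, q * q = 1 ∨ q * q = z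
  comm : ∀ p ∈ Q, ∀ q ∈ Q, p * q * p⁻¹ * q⁻¹ = 1 ∨ p * q * p⁻¹ * q⁻¹ = z
  cen : ∀ q ∈ Q, (∀ p ∈ Q, Commute p q) → q = 1 ∨ q = z
  e5 : e ^ 5 = 1
  eQ : ∀ q ∈ Q, e * q * e⁻¹ ∈ Q
  ez : Commute e z
  enontriv : ∃ q ∈ Q, ¬ Commute e q

variable [Finite G] {Q : Subgroup G} {z e : G}

omit [Finite G] in
theorem two_mul_le_of_lt [Finite G] {A B : Subgroup G} (h : A < B) : 2 * Nat.card A ≤ Nat.card B := by
  obtain ⟨r, hr⟩ := Subgroup.card_dvd_of_le h.le
  have hr1 : r ≠ 1 := fun e => h.ne (Subgroup.eq_of_le_of_card_ge h.le (by rw [hr, e, mul_one]))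
  have hpos : 0 < Nat.card B := Nat.card_pos
  rw [hr] at hpos
  have hr2 : 2 ≤ r := by
    rcases Nat.eq_zero_or_pos r with e | e
    · rw [e, mul_zero] at hpos; omega
    · omega
  rw [hr, mul_comm]
  exact Nat.mul_le_mul_left _ hr2

/-- A subgroup of `Q` loses at most a factor two by centralising one element of `Q`. -/
theorem card_le_two_mul (h : Ctx Q z e) {X : Subgroup G} (hX : X ≤ Q) {y : G} (hy : y ∈ Q) :
    Nat.card X ≤ 2 * Nat.card ↥(X ⊓ Subgroup.centralizer ({y} : Set G)) := by
  classical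
  by_cases hall : ∀ p ∈ X, Commute p y
  · have e : X ⊓ Subgroup.centralizer ({y} : Set G) = X :=
      inf_eq_left.2 fun p hp => Subgroup.mem_centralizer_singleton_iff.2 (hall p hp).eq
    rw [e]; omega
  push Not at hall
  obtain ⟨p₀, hp₀, hpy⟩ := hall
  have key : ∀ p ∈ X, ¬ Commute p y → Commute (p₀⁻¹ * p) y := by
    intro p hp hne
    have hc : ∀ r ∈ X, ¬ Commute r y → r * y * r⁻¹ = z * y := fun r hr hne => by
      rcases h.comm r (hX hr) y hy with e | e
      · exact absurd (mul_inv_eq_iff_eq_mul.1 (mul_inv_eq_one.1 e)) hne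
      · exact mul_inv_eq_iff_eq_mul.1 e
    show p₀⁻¹ * p * y = y * (p₀⁻¹ * p)
    calc p₀⁻¹ * p * y = p₀⁻¹ * (p * y * p⁻¹) * p := by group
      _ = p₀⁻¹ * (p₀ * y * p₀⁻¹) * p := by rw [hc p hp hne, hc p₀ hp₀ hpy]
      _ = _ := by group
  let f : X → Bool × ↥(X ⊓ Subgroup.centralizer ({y} : Set G)) := fun p =>
    if hp : Commute (p : G) y then (true, ⟨p, p.2, Subgroup.mem_centralizer_singleton_iff.2 hp.eq⟩)
    else (false, ⟨p₀⁻¹ * p, X.mul_mem (X.inv_mem hp₀) p.2,
      Subgroup.mem_centralizer_singleton_iff.2 (key p p.2 hp).eq⟩)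
  have hf : Function.Injective f := by
    intro a b e
    simp only [f] at e
    split_ifs at e <;> simp only [Prod.mk.injEq, Subtype.mk.injEq, Bool.true_eq_false,
      Bool.false_eq_true, false_and, true_and] at e
    · exact Subtype.ext (congrArg (fun t : ↥(X ⊓ Subgroup.centralizer ({y} : Set G)) => (t : G)) e)
    · exact Subtype.ext (mul_left_cancel
        (congrArg (fun t : ↥(X ⊓ Subgroup.centralizer ({y} : Set G)) => (t : G)) e))
  have := Nat.card_le_card_of_injective f hf
  rwa [Nat.card_prod, Nat.card_eq_fintype_card (α := Bool), Fintype.card_bool] at this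

/-- The set of non-central involutions. -/
noncomputable def invs (Q : Subgroup G) (z : G) : Finset G :=
  (Set.toFinite {q : G | q ∈ Q ∧ q * q = 1 ∧ q ≠ 1 ∧ q ≠ z}).toFinset

theorem mem_invs {q : G} : q ∈ invs Q z ↔ q ∈ Q ∧ q * q = 1 ∧ q ≠ 1 ∧ q ≠ z :=
  Set.Finite.mem_toFinset _

/-- The automorphism fixes only the centre. -/
theorem fixed (h : Ctx Q z e) {q : G} (hq : q ∈ Q) (hc : Commute e q) : q = 1 ∨ q = z := by
  classical
  haveI : Fact (Nat.Prime 5) := ⟨by norm_num⟩
  haveI : Fact (Nat.Prime 2) := ⟨Nat.prime_two⟩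
  haveI := Fintype.ofFinite Q
  let f : Function.End Q := fun k => ⟨e * k * e⁻¹, h.eQ _ k.2⟩
  have hit : ∀ (n : ℕ) (k : Q), (((f ^ n) k : Q) : G) = e ^ n * k * (e ^ n)⁻¹ := by
    intro n
    induction n with
    | zero => intro k; simp only [pow_zero, one_mul, inv_one, mul_one]; rfl
    | succ n ih =>
      intro k
      rw [pow_succ']
      show e * (((f ^ n) k : Q) : G) * e⁻¹ = _
      rw [ih, pow_succ']
      group
  have hf : f ^ 5 ^ 1 = 1 := by
    funext k
    refine Subtype.ext ?_
    rw [pow_one, hit, h.e5, one_mul, inv_one, mul_one]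
    rfl
  have hm := Equiv.Perm.card_fixedPoints_modEq hf
  rw [← Nat.card_eq_fintype_card, ← Nat.card_eq_fintype_card, h.card] at hm
  set F := Q ⊓ Subgroup.centralizer ({e} : Set G) with hF
  have hcard : Nat.card f.fixedPoints = Nat.card F := Nat.card_congr
    { toFun := fun k => ⟨k.1, k.1.2, Subgroup.mem_centralizer_singleton_iff.2
        (mul_inv_eq_iff_eq_mul.1 (congrArg Subtype.val k.2 : e * (k.1 : G) * e⁻¹ = k.1)).symm⟩
      invFun := fun k => ⟨⟨k, k.2.1⟩, Subtype.ext (show e * (k : G) * e⁻¹ = k by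
        rw [← Subgroup.mem_centralizer_singleton_iff.1 k.2.2, mul_inv_cancel_right])⟩
      left_inv := fun _ => rfl
      right_inv := fun _ => rfl }
  rw [hcard] at hm
  have hzF : z ∈ F := ⟨h.zQ, Subgroup.mem_centralizer_singleton_iff.2 h.ez.eq.symm⟩
  have hd : Nat.card F ∣ 32 := h.card ▸ Subgroup.card_dvd_of_le inf_le_left
  have hne : Nat.card F ≠ 32 := by
    intro e32
    obtain ⟨p, hp, hpe⟩ := h.enontriv
    have : F = Q := Subgroup.eq_of_le_of_card_ge inf_le_left (by rw [e32, h.card])
    exact hpe (Subgroup.mem_centralizer_singleton_iff.1 ((this ▸ hp : p ∈ F).2)).symm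
  have h2 : Nat.card F = 2 := by
    have key : ∀ d ∈ Nat.divisors 32, d % 5 = 32 % 5 → d = 2 ∨ d = 32 := by decide
    exact (key _ (Nat.mem_divisors.2 ⟨hd, by norm_num⟩) hm.symm).resolve_right hne
  have hqF : q ∈ F := ⟨hq, Subgroup.mem_centralizer_singleton_iff.2 hc.eq.symm⟩
  have hle : Subgroup.zpowers z ≤ F := Subgroup.zpowers_le.2 hzF
  have ho : orderOf z = 2 := orderOf_eq_prime (by rw [pow_two]; exact h.zz) h.z1
  have heq := Subgroup.eq_of_le_of_card_ge hle (by rw [h2, Nat.card_zpowers, ho])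
  rw [← heq, Subgroup.mem_zpowers_iff] at hqF
  obtain ⟨k, rfl⟩ := hqF
  rw [← zpow_mod_orderOf, ho]
  rcases Int.emod_two_eq_zero_or_one k with hk | hk <;> simp [hk]

theorem ten_dvd (h : Ctx Q z e) : 10 ∣ (invs Q z).card := by
  classical
  have hmul : ∀ q ∈ invs Q z, q * z ∈ invs Q z := fun q hq => by
    obtain ⟨hqQ, hqq, hq1, hqz⟩ := mem_invs.1 hq
    refine mem_invs.2 ⟨Q.mul_mem hqQ h.zQ, ?_, fun e => hqz ?_, fun e => hq1 (mul_eq_right.1 e)⟩
    · rw [(h.zc q hqQ).symm.mul_mul_mul_comm, hqq, h.zz, one_mul]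
    · rw [eq_inv_of_mul_eq_one_left e, inv_eq_of_mul_eq_one_right h.zz]
  have hconj : ∀ q ∈ invs Q z, e * q * e⁻¹ ∈ invs Q z := fun q hq => by
    obtain ⟨hqQ, hqq, hq1, hqz⟩ := mem_invs.1 hq
    refine mem_invs.2 ⟨h.eQ q hqQ, ?_, fun e' => hq1 (conj_eq_one_iff.1 e'), fun e' => hqz ?_⟩
    · rw [show e * q * e⁻¹ * (e * q * e⁻¹) = e * (q * q) * e⁻¹ by group, hqq]; group
    · calc q = e⁻¹ * (e * q * e⁻¹) * e := by group
        _ = e⁻¹ * (z * e) := by rw [e', mul_assoc]
        _ = z := by rw [← h.ez.eq, inv_mul_cancel_left]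
  have h2 : 2 ∣ (invs Q z).card := by
    haveI : Fact (Nat.Prime 2) := ⟨Nat.prime_two⟩
    let f : Function.End (invs Q z) := fun q => ⟨q * z, hmul q q.2⟩
    have hf : f ^ 2 ^ 1 = 1 := by
      funext q
      exact Subtype.ext (by show (q : G) * z * z = q; rw [mul_assoc, h.zz, mul_one])
    have hm := Equiv.Perm.card_fixedPoints_modEq hf
    have h0 : Fintype.card f.fixedPoints = 0 := Fintype.card_eq_zero_iff.2
      ⟨fun q => h.z1 (mul_eq_left.1 (congrArg Subtype.val q.2 : (q.1 : G) * z = q.1))⟩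
    rw [h0, Fintype.card_coe] at hm
    exact Nat.modEq_zero_iff_dvd.1 hm
  have h5 : 5 ∣ (invs Q z).card := by
    haveI : Fact (Nat.Prime 5) := ⟨by norm_num⟩
    let f : Function.End (invs Q z) := fun q => ⟨e * q * e⁻¹, hconj q q.2⟩
    have hit : ∀ (n : ℕ) (k : invs Q z), (((f ^ n) k : invs Q z) : G) = e ^ n * k * (e ^ n)⁻¹ := by
      intro n
      induction n with
      | zero => intro k; simp only [pow_zero, one_mul, inv_one, mul_one]; rfl
      | succ n ih =>
        intro k
        rw [pow_succ']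
        show e * (((f ^ n) k : invs Q z) : G) * e⁻¹ = _
        rw [ih, pow_succ']
        group
    have hf : f ^ 5 ^ 1 = 1 := by
      funext k
      refine Subtype.ext ?_
      rw [pow_one, hit, h.e5, one_mul, inv_one, mul_one]
      rfl
    have hm := Equiv.Perm.card_fixedPoints_modEq hf
    have h0 : Fintype.card f.fixedPoints = 0 := Fintype.card_eq_zero_iff.2
      ⟨fun q => by
        obtain ⟨hqQ, -, hq1, hqz⟩ := mem_invs.1 q.1.2
        rcases fixed h hqQ (mul_inv_eq_iff_eq_mul.1
          (congrArg Subtype.val q.2 : e * (q.1 : G) * e⁻¹ = q.1)) with e' | e'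
        · exact hq1 e'
        · exact hqz e'⟩
    rw [h0, Fintype.card_coe] at hm
    exact Nat.modEq_zero_iff_dvd.1 hm
  omega

/-- Two commuting non-central involutions differ by the centre. -/
theorem eq_of_commute (h : Ctx Q z e) {u v : G} (hu : u ∈ invs Q z) (hvQ : v ∈ Q) (hvv : v * v = 1)
    (hc : Commute u v) : v = 1 ∨ v = z ∨ v = u ∨ v = u * z := by
  classical
  haveI := Fintype.ofFinite G
  by_contra hcon
  simp only [not_or] at hcon
  obtain ⟨hv1, hvz, hvu, hvuz⟩ := hcon
  obtain ⟨huQ, huu, hu1, huz⟩ := mem_invs.1 hu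
  let K : Subgroup G := Subgroup.closure {z, u, v}
  haveI hKc : IsMulCommutative K := Subgroup.isMulCommutative_closure (by
    intro a ha b hb
    simp only [Set.mem_insert_iff, Set.mem_singleton_iff] at ha hb
    rcases ha with rfl | rfl | rfl <;> rcases hb with rfl | rfl | rfl
    exacts [rfl, (h.zc _ huQ).eq.symm, (h.zc _ hvQ).eq.symm, (h.zc _ huQ).eq, rfl, hc.eq,
      (h.zc _ hvQ).eq, hc.eq.symm, rfl])
  have hzK : z ∈ K := Subgroup.subset_closure (by simp)
  have huK : u ∈ K := Subgroup.subset_closure (by simp)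
  have hvK : v ∈ K := Subgroup.subset_closure (by simp)
  have hKQ : K ≤ Q := (Subgroup.closure_le _).2 (by
    intro a ha
    simp only [Set.mem_insert_iff, Set.mem_singleton_iff] at ha
    rcases ha with rfl | rfl | rfl
    exacts [h.zQ, huQ, hvQ])
  have hK2 : ∀ a ∈ K, a * a = 1 := by
    intro a ha
    induction ha using Subgroup.closure_induction with
    | mem a ha =>
      simp only [Set.mem_insert_iff, Set.mem_singleton_iff] at ha
      rcases ha with rfl | rfl | rfl
      exacts [h.zz, huu, hvv]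
    | one => exact one_mul 1
    | mul a b ha hb iha ihb =>
      have hab : Commute b a := congrArg Subtype.val (hKc.is_comm.comm (⟨b, hb⟩ : K) ⟨a, ha⟩)
      rw [hab.mul_mul_mul_comm, iha, ihb, one_mul]
    | inv a ha iha => rw [← mul_inv_rev, iha, inv_one]
  have h8 : 8 ≤ Nat.card K := by
    have hzu : Commute u z := h.zc u huQ
    have eu : u⁻¹ = u := inv_eq_of_mul_eq_one_right huu
    have ez : z⁻¹ = z := inv_eq_of_mul_eq_one_right h.zz
    let K0 : Subgroup G :=
      { carrier := {g | g = 1 ∨ g = z ∨ g = u ∨ g = u * z}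
        one_mem' := Or.inl rfl
        mul_mem' := fun {a b} ha hb => by
          have c1 : z * u = u * z := hzu.eq.symm
          have c2 : u * (u * z) = z := by rw [← mul_assoc, huu, one_mul]
          have c3 : z * (u * z) = u := by rw [← mul_assoc, c1, mul_assoc, h.zz, mul_one]
          have c4 : u * z * u = z := by rw [mul_assoc, c1, c2]
          have c5 : u * z * z = u := by rw [mul_assoc, h.zz, mul_one]
          have c6 : u * z * (u * z) = 1 := by rw [mul_assoc, c3, huu]
          simp only [Set.mem_ofPred_eq] at ha hb ⊢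
          rcases ha with rfl | rfl | rfl | rfl <;> rcases hb with rfl | rfl | rfl | rfl <;>
            simp only [one_mul, mul_one, h.zz, huu, c1, c2, c3, c4, c5, c6, true_or, or_true]
        inv_mem' := fun {a} ha => by
          simp only [Set.mem_ofPred_eq] at ha ⊢
          rcases ha with rfl | rfl | rfl | rfl <;>
            simp only [inv_one, eu, ez, mul_inv_rev, hzu.eq.symm, true_or, or_true] }
    have hzK0 : z ∈ K0 := Or.inr (Or.inl rfl)
    have huK0 : u ∈ K0 := Or.inr (Or.inr (Or.inl rfl))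
    have h2 : Subgroup.zpowers z < K0 := by
      refine lt_of_le_of_ne (Subgroup.zpowers_le.2 hzK0) fun e' => ?_
      obtain ⟨k, hk⟩ := Subgroup.mem_zpowers_iff.1 (e'.ge huK0)
      rw [← zpow_mod_orderOf, orderOf_eq_prime (p := 2) (by rw [pow_two]; exact h.zz) h.z1] at hk
      rcases Int.emod_two_eq_zero_or_one k with h0 | h0 <;> simp [h0] at hk
      · exact hu1 hk.symm
      · exact huz hk.symm
    have hK0 : K0 < K := by
      refine lt_of_le_of_ne ?_ fun e' => ?_
      · intro g hg
        rcases (hg : g = 1 ∨ g = z ∨ g = u ∨ g = u * z) with e' | e' | e' | e' <;> rw [e']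
        exacts [K.one_mem, hzK, huK, K.mul_mem huK hzK]
      · rcases (e' ▸ hvK : v ∈ K0) with h' | h' | h' | h'
        exacts [hv1 h', hvz h', hvu h', hvuz h']
    have ha := two_mul_le_of_lt h2
    have hb := two_mul_le_of_lt hK0
    rw [Nat.card_zpowers, orderOf_eq_prime (p := 2) (by rw [pow_two]; exact h.zz) h.z1] at ha
    omega
  -- the subgroup is self-centralising
  have hself : ∀ g ∈ Q, (∀ a ∈ K, Commute a g) → g ∈ K := by
    intro g hg hgK
    by_contra hgn
    set A := Subgroup.closure (insert g (K : Set G)) with hA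
    haveI hAc : IsMulCommutative A := Subgroup.isMulCommutative_closure (by
      rintro a (rfl | ha) b (rfl | hb)
      · rfl
      · exact (hgK b hb).eq.symm
      · exact (hgK a ha).eq
      · exact congrArg Subtype.val (hKc.is_comm.comm (⟨a, ha⟩ : K) ⟨b, hb⟩))
    have hKA : K ≤ A := fun a ha => Subgroup.subset_closure (Or.inr ha)
    have hgA : g ∈ A := Subgroup.subset_closure (Or.inl rfl)
    have hAQ : A ≤ Q := (Subgroup.closure_le _).2 (Set.insert_subset hg hKQ)
    have h16 : 16 ≤ Nat.card A := by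
      have := two_mul_le_of_lt (lt_of_le_of_ne hKA fun e' => hgn (e' ▸ hgA))
      omega
    have hne : A ≠ Q := fun e' => by
      rcases h.cen u huQ (fun p hp => congrArg Subtype.val
        (hAc.is_comm.comm (⟨p, e' ▸ hp⟩ : A) ⟨u, hKA huK⟩)) with h' | h'
      · exact hu1 h'
      · exact huz h'
    obtain ⟨y, hyQ, hyA⟩ := SetLike.exists_of_lt (lt_of_le_of_ne hAQ hne)
    have hgen : Q ≤ Subgroup.closure (insert y (A : Set G)) := by
      set B := Subgroup.closure (insert y (A : Set G))
      have hBQ : B ≤ Q := (Subgroup.closure_le _).2 (Set.insert_subset hyQ hAQ)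
      have hAB : A ≤ B := fun a ha => Subgroup.subset_closure (Or.inr ha)
      have := two_mul_le_of_lt (lt_of_le_of_ne hAB fun e' =>
        hyA (e'.ge (Subgroup.subset_closure (Or.inl rfl))))
      refine (Subgroup.eq_of_le_of_card_ge hBQ ?_).ge
      rw [h.card]
      omega
    have hD := card_le_two_mul h hAQ hyQ
    have hsub : A ⊓ Subgroup.centralizer ({y} : Set G) ≤ Subgroup.zpowers z := by
      intro d hd
      have hdle : Subgroup.closure (insert y (A : Set G)) ≤ Subgroup.centralizer ({d} : Set G) := by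
        refine (Subgroup.closure_le _).2 (Set.insert_subset ?_ fun a ha => ?_)
        · exact Subgroup.mem_centralizer_singleton_iff.2 (Subgroup.mem_centralizer_singleton_iff.1 hd.2).symm
        · exact Subgroup.mem_centralizer_singleton_iff.2
            (congrArg Subtype.val (hAc.is_comm.comm (⟨a, ha⟩ : A) ⟨d, hd.1⟩))
      rcases h.cen d (hAQ hd.1) (fun p hp => Subgroup.mem_centralizer_singleton_iff.1 (hdle (hgen hp))) with e' | e'
      · rw [e']; exact one_mem _
      · rw [e']; exact Subgroup.mem_zpowers z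
    have h2 := Subgroup.card_le_of_le hsub
    rw [Nat.card_zpowers, orderOf_eq_prime (p := 2) (by rw [pow_two]; exact h.zz) h.z1] at h2
    omega
  have hKd : Nat.card K ∣ 32 := h.card ▸ Subgroup.card_dvd_of_le hKQ
  have hKne : Nat.card K ≠ 32 := fun e' => by
    have hKQ' : K = Q := Subgroup.eq_of_le_of_card_ge hKQ (by rw [e', h.card])
    rcases h.cen u huQ (fun p hp => congrArg Subtype.val
      (hKc.is_comm.comm (⟨p, hKQ' ▸ hp⟩ : K) ⟨u, huK⟩)) with h' | h'
    · exact hu1 h'
    · exact huz h'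
  have hK16 : Nat.card K ≠ 16 := fun e16 => by
    obtain ⟨y, hyQ, hyK⟩ := SetLike.exists_of_lt (lt_of_le_of_ne hKQ fun e' => hKne (by rw [e', h.card]))
    have hB : Q ≤ Subgroup.closure (insert y (K : Set G)) := by
      set B := Subgroup.closure (insert y (K : Set G))
      have hBQ : B ≤ Q := (Subgroup.closure_le _).2 (Set.insert_subset hyQ hKQ)
      have hKB : K ≤ B := fun a ha => Subgroup.subset_closure (Or.inr ha)
      have := two_mul_le_of_lt (lt_of_le_of_ne hKB fun e' =>
        hyK (e'.ge (Subgroup.subset_closure (Or.inl rfl))))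
      refine (Subgroup.eq_of_le_of_card_ge hBQ ?_).ge
      rw [h.card]
      omega
    have hD := card_le_two_mul h hKQ hyQ
    have hsub : K ⊓ Subgroup.centralizer ({y} : Set G) ≤ Subgroup.zpowers z := by
      intro d hd
      have hdle : Subgroup.closure (insert y (K : Set G)) ≤ Subgroup.centralizer ({d} : Set G) := by
        refine (Subgroup.closure_le _).2 (Set.insert_subset ?_ fun a ha => ?_)
        · exact Subgroup.mem_centralizer_singleton_iff.2 (Subgroup.mem_centralizer_singleton_iff.1 hd.2).symm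
        · exact Subgroup.mem_centralizer_singleton_iff.2
            (congrArg Subtype.val (hKc.is_comm.comm (⟨a, ha⟩ : K) ⟨d, hd.1⟩))
      rcases h.cen d (hKQ hd.1) (fun p hp => Subgroup.mem_centralizer_singleton_iff.1 (hdle (hB hp))) with e' | e'
      · rw [e']; exact one_mem _
      · rw [e']; exact Subgroup.mem_zpowers z
    have h2 := Subgroup.card_le_of_le hsub
    rw [Nat.card_zpowers, orderOf_eq_prime (p := 2) (by rw [pow_two]; exact h.zz) h.z1] at h2
    omega
  have hK8 : Nat.card K = 8 := by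
    have key : ∀ d ∈ Nat.divisors 32, 8 ≤ d → d = 8 ∨ d = 16 ∨ d = 32 := by decide
    rcases key _ (Nat.mem_divisors.2 ⟨hKd, by norm_num⟩) h8 with e' | e' | e'
    exacts [e', absurd e' hK16, absurd e' hKne]
  -- count
  set Ks := Finset.univ.filter (fun g : G => g ∈ K) with hKs
  set Os := Finset.univ.filter (fun g : G => g ∈ Q ∧ g ∉ K) with hOs
  set Si := Os.filter (fun g => g * g = 1) with hSi
  have hKsc : Ks.card = 8 := by rw [← hK8, Nat.card_eq_fintype_card, Fintype.card_subtype]
  have hQsc : (Finset.univ.filter (fun g : G => g ∈ Q)).card = 32 := by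
    rw [← h.card, Nat.card_eq_fintype_card, Fintype.card_subtype]
  have hOsc : Os.card = 24 := by
    have e' : Os = (Finset.univ.filter (fun g : G => g ∈ Q)) \ Ks := by ext g; simp [Os, Ks]
    rw [e', Finset.card_sdiff_of_subset (fun g => by simp only [Ks, Finset.mem_filter, Finset.mem_univ, true_and]; exact fun a => hKQ a),
      hQsc, hKsc]
  have hfib : ∀ g ∈ Os, (Ks.filter fun p => g * p * (g * p) = 1).card = 4 := by
    intro g hg
    obtain ⟨hgQ, hgK⟩ := (Finset.mem_filter.1 hg).2
    set C := K ⊓ Subgroup.centralizer ({g} : Set G)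
    have hC : Nat.card C = 4 := by
      have h1 := card_le_two_mul h hKQ hgQ
      have hd : Nat.card C ∣ 8 := hK8 ▸ Subgroup.card_dvd_of_le inf_le_left
      have hne : Nat.card C ≠ 8 := fun e' => hgK (hself g hgQ fun a ha =>
        Subgroup.mem_centralizer_singleton_iff.1
          (((Subgroup.eq_of_le_of_card_ge (inf_le_left : C ≤ K) (by rw [e', hK8])).ge ha).2))
      have key : ∀ d ∈ Nat.divisors 8, 4 ≤ d → d = 4 ∨ d = 8 := by decide
      exact (key _ (Nat.mem_divisors.2 ⟨hd, by norm_num⟩) (by change _ ≤ 2 * Nat.card C at h1; omega)).resolve_right hne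
    have hCs : (Ks.filter fun p => Commute p g).card = 4 := by
      rw [← hC, Nat.card_eq_fintype_card, Fintype.card_subtype]
      congr 1
      ext p
      rw [Finset.mem_filter, Finset.mem_filter, Finset.mem_filter]
      simp [C, Subgroup.mem_inf, Subgroup.mem_centralizer_singleton_iff, Commute, SemiconjBy]
    have hiff : ∀ p ∈ Ks, (g * p * (g * p) = 1 ↔ (Commute p g ↔ g * g = 1)) := by
      intro p hp
      have hpK := (Finset.mem_filter.1 hp).2
      have hpp := hK2 p hpK
      have e1 : g * p * (g * p) = g * g * (g⁻¹ * p * g * p) := by group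
      have hcp : g⁻¹ * p * g * p = if Commute p g then 1 else z := by
        have e2 : g⁻¹ * p * g * p = g⁻¹ * p * g⁻¹⁻¹ * p⁻¹ := by
          rw [inv_inv, inv_eq_of_mul_eq_one_right hpp]
        split_ifs with hpg
        · rw [mul_assoc g⁻¹ p g, hpg.eq, inv_mul_cancel_left, hpp]
        · rw [e2]
          refine (h.comm g⁻¹ (Q.inv_mem hgQ) p (hKQ hpK)).resolve_left fun e' => hpg ?_
          have := mul_inv_eq_iff_eq_mul.1 (mul_inv_eq_one.1 e')
          exact (show Commute g⁻¹ p from this).inv_left.symm |> fun t => by simpa using t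
      rw [e1, hcp]
      rcases h.sq g hgQ with e' | e' <;> rw [e'] <;> split_ifs with hpg
      · simp [hpg]
      · simp [hpg, h.z1]
      · simp [hpg, h.z1]
      · simp [hpg, h.zz, h.z1]
    rw [Finset.filter_congr hiff]
    by_cases hgg : g * g = 1
    · rw [← hCs]; congr 1; ext p; simp [hgg]
    · have := Finset.card_filter_add_card_filter_not (s := Ks) (fun p => Commute p g)
      rw [hCs, hKsc] at this
      have e' : (Ks.filter fun p => (Commute p g ↔ g * g = 1)) = Ks.filter fun p => ¬ Commute p g := by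
        ext p; simp [hgg]
      rw [e']; omega
  have hpairs : (Os.sigma fun g => Ks.filter fun p => g * p * (g * p) = 1).card = (Si ×ˢ Ks).card := by
    refine Finset.card_bij' (fun a _ => (a.1 * a.2, a.2)) (fun b _ => ⟨b.1 * b.2⁻¹, b.2⟩) ?_ ?_ ?_ ?_
    · rintro ⟨g, p⟩ hm
      simp only [Finset.mem_sigma, Finset.mem_filter, Finset.mem_univ, true_and, Os, Ks] at hm
      simp only [Finset.mem_product, Si, Os, Ks, Finset.mem_filter, Finset.mem_univ, true_and]
      exact ⟨⟨⟨Q.mul_mem hm.1.1 (hKQ hm.2.1), fun e' => hm.1.2 ((K.mul_mem_cancel_right hm.2.1).1 e')⟩,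
        hm.2.2⟩, hm.2.1⟩
    · rintro ⟨k, p⟩ hm
      simp only [Finset.mem_product, Si, Os, Ks, Finset.mem_filter, Finset.mem_univ, true_and] at hm
      simp only [Finset.mem_sigma, Finset.mem_filter, Finset.mem_univ, true_and, Os, Ks]
      refine ⟨⟨Q.mul_mem hm.1.1.1 (Q.inv_mem (hKQ hm.2)),
        fun e' => hm.1.1.2 ((K.mul_mem_cancel_right (K.inv_mem hm.2)).1 e')⟩, hm.2, ?_⟩
      rw [inv_mul_cancel_right]; exact hm.1.2
    · rintro ⟨g, p⟩ _; simp
    · rintro ⟨k, p⟩ _; simp
  rw [Finset.card_sigma, Finset.sum_congr rfl hfib, Finset.sum_const, smul_eq_mul, hOsc,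
    Finset.card_product, hKsc] at hpairs
  have htot : (invs Q z).card = Si.card + (Ks.filter fun g => g ≠ 1 ∧ g ≠ z).card := by
    rw [← Finset.card_union_of_disjoint]
    · congr 1
      ext g
      simp only [mem_invs, Si, Os, Ks, Finset.mem_union, Finset.mem_filter, Finset.mem_univ, true_and]
      constructor
      · rintro ⟨a, b, c, d⟩
        by_cases hgK : g ∈ K
        · exact Or.inr ⟨hgK, c, d⟩
        · exact Or.inl ⟨⟨a, hgK⟩, b⟩
      · rintro (⟨⟨a, b⟩, c⟩ | ⟨a, b, c⟩)
        · exact ⟨a, c, fun e' => b (e' ▸ K.one_mem), fun e' => b (e' ▸ hzK)⟩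
        · exact ⟨hKQ a, hK2 g a, b, c⟩
    · rw [Finset.disjoint_left]
      intro g hg hg'
      simp only [Si, Os, Ks, Finset.mem_filter, Finset.mem_univ, true_and] at hg hg'
      exact hg.1.2 hg'.1
  have h6 : (Ks.filter fun g => g ≠ 1 ∧ g ≠ z).card = 6 := by
    have e' : (Ks.filter fun g => g ≠ 1 ∧ g ≠ z) = Ks \ {1, z} := by ext g; simp
    rw [e', Finset.card_sdiff_of_subset (by
      intro g hg
      simp only [Finset.mem_insert, Finset.mem_singleton] at hg
      simp only [Ks, Finset.mem_filter, Finset.mem_univ, true_and]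
      rcases hg with rfl | rfl
      exacts [K.one_mem, hzK]), hKsc, Finset.card_pair h.z1.symm]
  have := ten_dvd h
  rw [htot, h6] at this
  omega

/-- There are exactly ten non-central involutions, if any. -/
theorem card_invs (h : Ctx Q z e) {u : G} (hu : u ∈ invs Q z) : (invs Q z).card = 10 := by
  classical
  haveI := Fintype.ofFinite G
  obtain ⟨huQ, huu, hu1, huz⟩ := mem_invs.1 hu
  obtain ⟨y, hyQ, hy⟩ : ∃ y ∈ Q, ¬ Commute y u := by
    by_contra hall
    push Not at hall
    rcases h.cen u huQ hall with e' | e'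
    exacts [hu1 e', huz e']
  set C := Q ⊓ Subgroup.centralizer ({u} : Set G)
  have hC : Nat.card C ≤ 16 := by
    have hd : Nat.card C ∣ 32 := h.card ▸ Subgroup.card_dvd_of_le inf_le_left
    have hne : Nat.card C ≠ 32 := fun e' => hy (Subgroup.mem_centralizer_singleton_iff.1
      ((Subgroup.eq_of_le_of_card_ge (inf_le_left : C ≤ Q) (by rw [e', h.card])).ge hyQ).2)
    have key : ∀ d ∈ Nat.divisors 32, d ≠ 32 → d ≤ 16 := by decide
    exact key _ (Nat.mem_divisors.2 ⟨hd, by norm_num⟩) hne
  have h1 : ((invs Q z).filter fun g => Commute g u) ⊆ {u, u * z} := by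
    intro g hg
    obtain ⟨hg1, hg2⟩ := Finset.mem_filter.1 hg
    obtain ⟨a, b, c, d⟩ := mem_invs.1 hg1
    rcases eq_of_commute h hu a b hg2.symm with e' | e' | e' | e'
    · exact absurd e' c
    · exact absurd e' d
    · simp [e']
    · simp [e']
  have h2 : ((invs Q z).filter fun g => ¬ Commute g u).card ≤ (Finset.univ.filter fun g : G => g ∈ C).card := by
    refine Finset.card_le_card_of_injOn (fun g => y⁻¹ * g) ?_ ((mul_right_injective _).injOn)
    intro g hg
    obtain ⟨hg1, hgu⟩ := Finset.mem_filter.1 (Finset.mem_coe.1 hg)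
    have hgQ := (mem_invs.1 hg1).1
    have hne : ∀ r ∈ Q, ¬ Commute r u → r * u * r⁻¹ = z * u := fun r hr hne => by
      rcases h.comm r hr u huQ with e' | e'
      · exact absurd (mul_inv_eq_iff_eq_mul.1 (mul_inv_eq_one.1 e')) hne
      · exact mul_inv_eq_iff_eq_mul.1 e'
    refine Finset.mem_coe.2 (Finset.mem_filter.2 ⟨Finset.mem_univ _, Q.mul_mem (Q.inv_mem hyQ) hgQ,
      Subgroup.mem_centralizer_singleton_iff.2 ?_⟩)
    calc y⁻¹ * g * u = y⁻¹ * (g * u * g⁻¹) * g := by group
      _ = y⁻¹ * (y * u * y⁻¹) * g := by rw [hne g hgQ hgu, hne y hyQ hy]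
      _ = _ := by group
  have h3 : (Finset.univ.filter fun g : G => g ∈ C).card = Nat.card C := by
    rw [Nat.card_eq_fintype_card, Fintype.card_subtype]
  have h4 := Finset.card_filter_add_card_filter_not (s := invs Q z) (fun g => Commute g u)
  have h5 : ((invs Q z).filter fun g => Commute g u).card ≤ 2 := (Finset.card_le_card h1).trans Finset.card_le_two
  have h6 := ten_dvd h
  have h7 : 0 < (invs Q z).card := Finset.card_pos.2 ⟨u, hu⟩
  omega

end Cfsg.Agent.HJPatternExtraspecial
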