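import Cfsg.Agent.Lib.HNAltTwelveData50

/-!
The relations of the three-cycles.
-/

set_option autoImplicit false
set_option maxRecDepth 100000
set_option maxHeartbeats 1000000

namespace Cfsg.Agent.HNAltTwelve50

open Cfsg.Agent.HNRepCore29 Cfsg.Agent.HNRepData29

theorem cube0 : sameWord gens2 [7, 7, 7, 5] [5] = true := by decide +kernel

theorem cube1 : sameWord gens2 [8, 8, 8, 5] [5] = true := by decide +kernel

theorem cube2 : sameWord gens2 [9, 9, 9, 5] [5] = true := by decide +kernel

theorem cube3 : sameWord gens2 [10, 10, 10, 5] [5] = true := by decide +kernel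

theorem cube4 : sameWord gens2 [11, 11, 11, 5] [5] = true := by decide +kernel

theorem cube5 : sameWord gens2 [12, 12, 12, 5] [5] = true := by decide +kernel

theorem cube6 : sameWord gens2 [13, 13, 13, 5] [5] = true := by decide +kernel

theorem cube7 : sameWord gens2 [14, 14, 14, 5] [5] = true := by decide +kernel

theorem cube8 : sameWord gens2 [15, 15, 15, 5] [5] = true := by decide +kernel

theorem cube9 : sameWord gens2 [16, 16, 16, 5] [5] = true := by decide +kernel

theorem pair0_1 : sameWord gens2 [7, 8, 7, 8, 5] [5] = true := by decide +kernel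

theorem pair0_2 : sameWord gens2 [7, 9, 7, 9, 5] [5] = true := by decide +kernel

theorem pair0_3 : sameWord gens2 [7, 10, 7, 10, 5] [5] = true := by decide +kernel

theorem pair0_4 : sameWord gens2 [7, 11, 7, 11, 5] [5] = true := by decide +kernel

theorem pair0_5 : sameWord gens2 [7, 12, 7, 12, 5] [5] = true := by decide +kernel

theorem pair0_6 : sameWord gens2 [7, 13, 7, 13, 5] [5] = true := by decide +kernel

theorem pair0_7 : sameWord gens2 [7, 14, 7, 14, 5] [5] = true := by decide +kernel

theorem pair0_8 : sameWord gens2 [7, 15, 7, 15, 5] [5] = true := by decide +kernel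

theorem pair0_9 : sameWord gens2 [7, 16, 7, 16, 5] [5] = true := by decide +kernel

theorem pair1_2 : sameWord gens2 [8, 9, 8, 9, 5] [5] = true := by decide +kernel

theorem pair1_3 : sameWord gens2 [8, 10, 8, 10, 5] [5] = true := by decide +kernel

theorem pair1_4 : sameWord gens2 [8, 11, 8, 11, 5] [5] = true := by decide +kernel

theorem pair1_5 : sameWord gens2 [8, 12, 8, 12, 5] [5] = true := by decide +kernel

theorem pair1_6 : sameWord gens2 [8, 13, 8, 13, 5] [5] = true := by decide +kernel

theorem pair1_7 : sameWord gens2 [8, 14, 8, 14, 5] [5] = true := by decide +kernel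

theorem pair1_8 : sameWord gens2 [8, 15, 8, 15, 5] [5] = true := by decide +kernel

theorem pair1_9 : sameWord gens2 [8, 16, 8, 16, 5] [5] = true := by decide +kernel

theorem pair2_3 : sameWord gens2 [9, 10, 9, 10, 5] [5] = true := by decide +kernel

theorem pair2_4 : sameWord gens2 [9, 11, 9, 11, 5] [5] = true := by decide +kernel

theorem pair2_5 : sameWord gens2 [9, 12, 9, 12, 5] [5] = true := by decide +kernel

theorem pair2_6 : sameWord gens2 [9, 13, 9, 13, 5] [5] = true := by decide +kernel

theorem pair2_7 : sameWord gens2 [9, 14, 9, 14, 5] [5] = true := by decide +kernel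

theorem pair2_8 : sameWord gens2 [9, 15, 9, 15, 5] [5] = true := by decide +kernel

theorem pair2_9 : sameWord gens2 [9, 16, 9, 16, 5] [5] = true := by decide +kernel

theorem pair3_4 : sameWord gens2 [10, 11, 10, 11, 5] [5] = true := by decide +kernel

theorem pair3_5 : sameWord gens2 [10, 12, 10, 12, 5] [5] = true := by decide +kernel

theorem pair3_6 : sameWord gens2 [10, 13, 10, 13, 5] [5] = true := by decide +kernel

theorem pair3_7 : sameWord gens2 [10, 14, 10, 14, 5] [5] = true := by decide +kernel

theorem pair3_8 : sameWord gens2 [10, 15, 10, 15, 5] [5] = true := by decide +kernel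

theorem pair3_9 : sameWord gens2 [10, 16, 10, 16, 5] [5] = true := by decide +kernel

theorem pair4_5 : sameWord gens2 [11, 12, 11, 12, 5] [5] = true := by decide +kernel

theorem pair4_6 : sameWord gens2 [11, 13, 11, 13, 5] [5] = true := by decide +kernel

theorem pair4_7 : sameWord gens2 [11, 14, 11, 14, 5] [5] = true := by decide +kernel

theorem pair4_8 : sameWord gens2 [11, 15, 11, 15, 5] [5] = true := by decide +kernel

theorem pair4_9 : sameWord gens2 [11, 16, 11, 16, 5] [5] = true := by decide +kernel

theorem pair5_6 : sameWord gens2 [12, 13, 12, 13, 5] [5] = true := by decide +kernel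

theorem pair5_7 : sameWord gens2 [12, 14, 12, 14, 5] [5] = true := by decide +kernel

theorem pair5_8 : sameWord gens2 [12, 15, 12, 15, 5] [5] = true := by decide +kernel

theorem pair5_9 : sameWord gens2 [12, 16, 12, 16, 5] [5] = true := by decide +kernel

theorem pair6_7 : sameWord gens2 [13, 14, 13, 14, 5] [5] = true := by decide +kernel

theorem pair6_8 : sameWord gens2 [13, 15, 13, 15, 5] [5] = true := by decide +kernel

theorem pair6_9 : sameWord gens2 [13, 16, 13, 16, 5] [5] = true := by decide +kernel

theorem pair7_8 : sameWord gens2 [14, 15, 14, 15, 5] [5] = true := by decide +kernel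

theorem pair7_9 : sameWord gens2 [14, 16, 14, 16, 5] [5] = true := by decide +kernel

theorem pair8_9 : sameWord gens2 [15, 16, 15, 16, 5] [5] = true := by decide +kernel

theorem rows_ok2 : (gens2.all rowsOk) = true := by decide +kernel

end Cfsg.Agent.HNAltTwelve50
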