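import Cfsg.Agent.Lib.HNAltTwelveData50

/-!
The matrices are the values of the words, second part.
-/

set_option autoImplicit false
set_option maxRecDepth 100000
set_option maxHeartbeats 1000000

namespace Cfsg.Agent.HNAltTwelve50

open Cfsg.Agent.HNRepCore29 Cfsg.Agent.HNRepData29

theorem word5 : sameWord gens2 (words.getD 5 [] ++ [5]) [12, 5] = true := by decide +kernel

theorem word6 : sameWord gens2 (words.getD 6 [] ++ [5]) [13, 5] = true := by decide +kernel

theorem word7 : sameWord gens2 (words.getD 7 [] ++ [5]) [14, 5] = true := by decide +kernel

theorem word8 : sameWord gens2 (words.getD 8 [] ++ [5]) [15, 5] = true := by decide +kernel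

theorem word9 : sameWord gens2 (words.getD 9 [] ++ [5]) [16, 5] = true := by decide +kernel

end Cfsg.Agent.HNAltTwelve50
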