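import Cfsg.Agent.Lib.HNAltTwelveWordsA50
import Cfsg.Agent.Lib.HNAltTwelveWordsB50
import Cfsg.Agent.Lib.HNAltTwelveRels50
import Cfsg.Agent.Lib.ShortPresCarmichael
import Cfsg.Prelude.Def_Sporadic

/-!
An alternating subgroup of degree twelve of the presented Harada-Norton group and the action on its cosets.
-/

set_option autoImplicit false
set_option maxRecDepth 100000

open Subgroup Equiv

namespace Cfsg.Agent.HNAltTwelve50

open Cfsg Cfsg.Agent.HNRep29 Cfsg.Agent.HNRepCore29 Cfsg.Agent.HNRepData29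

/-- the presented group -/
abbrev G0 : Type := Spor.HN

/-- the letters in the group -/
noncomputable def letterG : ℕ → G0
  | 0 => PresentedGroup.of Spor.HN.Gen.x
  | 1 => (PresentedGroup.of Spor.HN.Gen.x)⁻¹
  | 2 => PresentedGroup.of Spor.HN.Gen.y
  | 3 => (PresentedGroup.of Spor.HN.Gen.y)⁻¹
  | 4 => PresentedGroup.of Spor.HN.Gen.z
  | 5 => PresentedGroup.of Spor.HN.Gen.t
  | 6 => (PresentedGroup.of Spor.HN.Gen.t)⁻¹
  | _ => 1

theorem rho_letter : ∀ k, k < 7 → rho (letterG k) = U k := by
  intro k hk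
  interval_cases k <;>
    simp only [letterG, map_inv, rho, PresentedGroup.toGroup.of, gen, inv_x, inv_y, inv_t]

theorem rowOk2 (g : ℕ) (hg : g < 17) : rowsOk (gens2.getD g []) = true := by
  have hl : gens2.length = 17 := by decide +kernel
  rw [List.getD_eq_getElem?_getD, List.getElem?_eq_getElem (hl ▸ hg), Option.getD_some]
  exact List.all_eq_true.1 rows_ok2 _ (List.getElem_mem _)

/-- the ten elements -/
noncomputable def X (i : ℕ) : G0 := ((words.getD i []).map letterG).prod

/-- the matrices -/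
noncomputable def N (g : ℕ) : Matrix (Fin 133) (Fin 133) (ZMod 11) := sMat (gens2.getD g [])

theorem N_low {g : ℕ} (hg : g < 7) : N g = M g := by
  have hl : gens.length = 7 := by decide +kernel
  rw [N, M, gens2, List.getD_eq_getElem?_getD, List.getElem?_append_left (hl ▸ hg),
    List.getD_eq_getElem?_getD]

theorem N5 : N 5 * N 6 = 1 := by rw [N_low (by norm_num), N_low (by norm_num)]; exact t_mul.1

theorem cancel5 {A B : Matrix (Fin 133) (Fin 133) (ZMod 11)} (h : A * N 5 = B * N 5) : A = B := by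
  calc A = A * (N 5 * N 6) := by rw [N5, mul_one]
    _ = B * (N 5 * N 6) := by rw [← mul_assoc, h, mul_assoc]
    _ = B := by rw [N5, mul_one]

theorem words_lt : ((List.range 10).all fun i => (words.getD i []).all fun g => decide (g < 7)) = true := by
  decide +kernel

theorem rho_X {i : ℕ} (hi : i < 10) : (rho (X i) : Matrix (Fin 133) (Fin 133) (ZMod 11)) = N (7 + i) := by
  have hlt : ∀ g ∈ words.getD i [], g < 7 := fun g hg => of_decide_eq_true
    (List.all_eq_true.1 (List.all_eq_true.1 words_lt i (List.mem_range.2 hi)) g hg)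
  have h : sameWord gens2 (words.getD i [] ++ [5]) [7 + i, 5] = true := by
    interval_cases i <;> [exact word0; exact word1; exact word2; exact word3; exact word4; exact word5;
      exact word6; exact word7; exact word8; exact word9]
  have h1 := sameWord_sound
    (fun g hg => rowOk2 g (by
      rcases List.mem_append.mp hg with e | e
      · have := hlt g e; omega
      · rw [List.mem_singleton.mp e]; norm_num))
    (fun g hg => rowOk2 g (by simp only [List.mem_cons, List.not_mem_nil, or_false] at hg; omega)) h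
  rw [List.map_append, List.prod_append] at h1
  simp only [List.map_cons, List.map_nil, List.prod_cons, List.prod_nil, mul_one] at h1
  have h2 : ((words.getD i []).map N).prod * N 5 = N (7 + i) * N 5 := h1
  rw [← cancel5 h2, X, map_list_prod, List.map_map,
    ← Units.coeHom_apply, map_list_prod, List.map_map]
  refine congrArg List.prod (List.map_congr_left fun g hg => ?_)
  simp only [Function.comp_apply, Units.coeHom_apply]
  rw [rho_letter g (hlt g hg), coe_U (hlt g hg), N_low (hlt g hg)]

theorem prod_one (l : List ℕ) (hl : ∀ g ∈ l, g < 17) (h : sameWord gens2 (l ++ [5]) [5] = true) :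
    (l.map N).prod = 1 := by
  have h1 := sameWord_sound (fun g hg => rowOk2 g (by
      rcases List.mem_append.mp hg with e | e
      · exact hl g e
      · rw [List.mem_singleton.mp e]; norm_num))
    (fun g hg => rowOk2 g (by rw [List.mem_singleton.mp hg]; norm_num)) h
  rw [List.map_append, List.prod_append] at h1
  simp only [List.map_cons, List.map_nil, List.prod_cons, List.prod_nil, mul_one] at h1
  exact cancel5 (h1.trans (one_mul _).symm)

attribute [local irreducible] N

/-- the embedding of indices -/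
def emb (i : Fin 10) : Fin 12 := ⟨i.val + 2, by omega⟩

/-- the relations of the three-cycles -/
def crels : Set (FreeGroup (Fin 10)) :=
  (Set.range fun i => FreeGroup.of i * FreeGroup.of i * FreeGroup.of i) ∪
    {r | ∃ i j, i ≠ j ∧ r = FreeGroup.of i * FreeGroup.of j * (FreeGroup.of i * FreeGroup.of j)}

theorem cyc_rels : ∀ r ∈ crels,
    FreeGroup.lift (fun i : Fin 10 => ShortPresCarmichael.cyc (0 : Fin 12) 1 (emb i)) r = 1 := by
  have h3 : ∀ i : Fin 10, ShortPresCarmichael.cyc (0 : Fin 12) 1 (emb i) *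
      ShortPresCarmichael.cyc (0 : Fin 12) 1 (emb i) * ShortPresCarmichael.cyc (0 : Fin 12) 1 (emb i) = 1 := by
    decide +kernel
  have h2 : ∀ i j : Fin 10, i ≠ j → ShortPresCarmichael.cyc (0 : Fin 12) 1 (emb i) *
      ShortPresCarmichael.cyc (0 : Fin 12) 1 (emb j) * (ShortPresCarmichael.cyc (0 : Fin 12) 1 (emb i) *
      ShortPresCarmichael.cyc (0 : Fin 12) 1 (emb j)) = 1 := by
    decide +kernel
  rintro r (⟨i, rfl⟩ | ⟨i, j, hij, rfl⟩)
  · simpa only [map_mul, FreeGroup.lift_apply_of] using h3 i
  · simpa only [map_mul, FreeGroup.lift_apply_of] using h2 i j hij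

/-- to permutations -/
noncomputable def toPerm : PresentedGroup crels →* Perm (Fin 12) := PresentedGroup.toGroup cyc_rels

theorem cube_all : ∀ i : Fin 10, sameWord gens2 [7 + i.val, 7 + i.val, 7 + i.val, 5] [5] = true
  | ⟨0, _⟩ => cube0
  | ⟨1, _⟩ => cube1
  | ⟨2, _⟩ => cube2
  | ⟨3, _⟩ => cube3
  | ⟨4, _⟩ => cube4
  | ⟨5, _⟩ => cube5
  | ⟨6, _⟩ => cube6
  | ⟨7, _⟩ => cube7
  | ⟨8, _⟩ => cube8
  | ⟨9, _⟩ => cube9

theorem pair_all : ∀ i j : ℕ, i < j → j < 10 → sameWord gens2 [7 + i, 7 + j, 7 + i, 7 + j, 5] [5] = true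
  | 0, 1, _, _ => pair0_1
  | 0, 2, _, _ => pair0_2
  | 0, 3, _, _ => pair0_3
  | 0, 4, _, _ => pair0_4
  | 0, 5, _, _ => pair0_5
  | 0, 6, _, _ => pair0_6
  | 0, 7, _, _ => pair0_7
  | 0, 8, _, _ => pair0_8
  | 0, 9, _, _ => pair0_9
  | 1, 2, _, _ => pair1_2
  | 1, 3, _, _ => pair1_3
  | 1, 4, _, _ => pair1_4
  | 1, 5, _, _ => pair1_5
  | 1, 6, _, _ => pair1_6
  | 1, 7, _, _ => pair1_7
  | 1, 8, _, _ => pair1_8
  | 1, 9, _, _ => pair1_9
  | 2, 3, _, _ => pair2_3
  | 2, 4, _, _ => pair2_4
  | 2, 5, _, _ => pair2_5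
  | 2, 6, _, _ => pair2_6
  | 2, 7, _, _ => pair2_7
  | 2, 8, _, _ => pair2_8
  | 2, 9, _, _ => pair2_9
  | 3, 4, _, _ => pair3_4
  | 3, 5, _, _ => pair3_5
  | 3, 6, _, _ => pair3_6
  | 3, 7, _, _ => pair3_7
  | 3, 8, _, _ => pair3_8
  | 3, 9, _, _ => pair3_9
  | 4, 5, _, _ => pair4_5
  | 4, 6, _, _ => pair4_6
  | 4, 7, _, _ => pair4_7
  | 4, 8, _, _ => pair4_8
  | 4, 9, _, _ => pair4_9
  | 5, 6, _, _ => pair5_6
  | 5, 7, _, _ => pair5_7
  | 5, 8, _, _ => pair5_8
  | 5, 9, _, _ => pair5_9
  | 6, 7, _, _ => pair6_7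
  | 6, 8, _, _ => pair6_8
  | 6, 9, _, _ => pair6_9
  | 7, 8, _, _ => pair7_8
  | 7, 9, _, _ => pair7_9
  | 8, 9, _, _ => pair8_9
  | i, j + 10, _, h => absurd h (by omega)
  | i + 0, 0, h, _ => absurd h (by omega)
  | i + 1, 1, h, _ => absurd h (by omega)
  | i + 2, 2, h, _ => absurd h (by omega)
  | i + 3, 3, h, _ => absurd h (by omega)
  | i + 4, 4, h, _ => absurd h (by omega)
  | i + 5, 5, h, _ => absurd h (by omega)
  | i + 6, 6, h, _ => absurd h (by omega)
  | i + 7, 7, h, _ => absurd h (by omega)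
  | i + 8, 8, h, _ => absurd h (by omega)
  | i + 9, 9, h, _ => absurd h (by omega)

theorem hn_rels (hinj : Function.Injective rho) : ∀ r ∈ crels,
    FreeGroup.lift (fun i : Fin 10 => X i) r = 1 := by
  have c3 : ∀ i : Fin 10, X i * X i * X i = 1 := fun i => hinj (Units.ext (by
    rw [map_mul, map_mul, map_one, Units.val_mul, Units.val_mul, Units.val_one, rho_X i.isLt]
    have h := prod_one [7 + i.val, 7 + i.val, 7 + i.val]
      (fun g hg => by simp only [List.mem_cons, List.not_mem_nil, or_false] at hg; omega) (cube_all i)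
    simpa only [List.map_cons, List.map_nil, List.prod_cons, List.prod_nil, mul_one, mul_assoc] using h))
  have p2 : ∀ i j : Fin 10, i < j → X i * X j * (X i * X j) = 1 := fun i j hij => hinj (Units.ext (by
    rw [map_mul, map_mul, map_one, Units.val_mul, Units.val_mul, Units.val_one, rho_X i.isLt,
      rho_X j.isLt]
    have hp := pair_all i.val j.val hij j.isLt
    have h := prod_one [7 + i.val, 7 + j.val, 7 + i.val, 7 + j.val]
      (fun g hg => by simp only [List.mem_cons, List.not_mem_nil, or_false] at hg; omega) hp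
    simpa only [List.map_cons, List.map_nil, List.prod_cons, List.prod_nil, mul_one, mul_assoc] using h))
  rintro r (⟨i, rfl⟩ | ⟨i, j, hij, rfl⟩)
  · simpa only [map_mul, FreeGroup.lift_apply_of] using c3 i
  · simp only [map_mul, FreeGroup.lift_apply_of]
    rcases lt_or_gt_of_ne hij with h | h
    · exact p2 i j h
    · have e := mul_eq_one_comm.1 (show X j * (X i * X j * X i) = 1 by
        have := p2 j i h; simpa only [mul_assoc] using this)
      simpa only [mul_assoc] using e

theorem toPerm_injective : Function.Injective toPerm := by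
  rw [injective_iff_map_eq_one]
  intro g hg
  let y : Fin 12 → PresentedGroup crels := fun k =>
    if h : 2 ≤ k.val then PresentedGroup.of ⟨k.val - 2, by omega⟩ else 1
  have hy : ∀ i : Fin 10, y (emb i) = PresentedGroup.of i := by
    intro i
    simp only [y, emb]
    rw [dif_pos (by omega)]
    exact congrArg _ (Fin.ext (by simp))
  set s : Finset (Fin 12) := Finset.univ.image emb with hs
  have hmem : ∀ k ∈ s, ∃ i : Fin 10, k = emb i := fun k hk => by
    obtain ⟨i, -, rfl⟩ := Finset.mem_image.1 hk; exact ⟨i, rfl⟩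
  refine ShortPresCarmichael.eq_one_of_map (a := (0 : Fin 12)) (b := 1) (by decide) y toPerm s
    (by decide) (by decide) ?_ ?_ ?_ g ?_ hg
  · intro k hk; obtain ⟨i, rfl⟩ := hmem k hk; rw [hy, toPerm, PresentedGroup.toGroup.of]
  · intro k hk; obtain ⟨i, rfl⟩ := hmem k hk; rw [hy]
    exact PresentedGroup.one_of_mem (show FreeGroup.of i * FreeGroup.of i * FreeGroup.of i ∈ crels from
      Or.inl ⟨i, rfl⟩)
  · intro k hk l hl hkl
    obtain ⟨i, rfl⟩ := hmem k hk; obtain ⟨j, rfl⟩ := hmem l hl
    rw [hy, hy]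
    exact PresentedGroup.one_of_mem (show FreeGroup.of i * FreeGroup.of j *
      (FreeGroup.of i * FreeGroup.of j) ∈ crels from Or.inr ⟨i, j, fun e => hkl (e ▸ rfl), rfl⟩)
  · have : (⊤ : Subgroup (PresentedGroup crels)) ≤ Subgroup.closure (y '' (s : Set (Fin 12))) := by
      rw [← PresentedGroup.closure_range_of crels]
      refine Subgroup.closure_mono ?_
      rintro _ ⟨i, rfl⟩
      exact ⟨emb i, Finset.mem_image.2 ⟨i, Finset.mem_univ _, rfl⟩, hy i⟩
    exact this (Subgroup.mem_top g)

theorem range_toPerm : toPerm.range = alternatingGroup (Fin 12) := by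
  set s : Finset (Fin 12) := Finset.univ.image emb with hs
  apply le_antisymm
  · rintro _ ⟨g, rfl⟩
    induction g using PresentedGroup.induction_on with
    | _ z =>
      induction z using FreeGroup.induction_on with
      | C1 => exact one_mem _
      | of i =>
        show toPerm (PresentedGroup.of i) ∈ _
        rw [toPerm, PresentedGroup.toGroup.of, Equiv.Perm.mem_alternatingGroup]
        exact ShortPresCarmichael.sign_cyc (by decide) (by unfold emb; intro e; simp [Fin.ext_iff] at e)
      | inv_of i h => rw [map_inv, map_inv]; exact inv_mem h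
      | mul a b ha hb => rw [map_mul, map_mul]; exact mul_mem ha hb
  · intro p hp
    have := ShortPresCarmichael.mem_closure_cyc (a := (0 : Fin 12)) (b := 1) (by decide) s (by decide)
      (by decide) p (Equiv.Perm.mem_alternatingGroup.1 hp) (fun x hx => absurd (by revert x; decide) hx)
    refine (Subgroup.closure_le _).2 ?_ this
    rintro _ ⟨k, hk, rfl⟩
    obtain ⟨i, -, rfl⟩ := Finset.mem_image.1 hk
    exact ⟨PresentedGroup.of i, by rw [toPerm, PresentedGroup.toGroup.of]⟩

theorem rho_injective (h : Cfsg.IsHN G0) : Function.Injective rho := by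
  haveI := h.1
  rcases Subgroup.Normal.eq_bot_or_eq_top (MonoidHom.normal_ker rho) with e | e
  · exact (MonoidHom.ker_eq_bot_iff _).1 e
  · exfalso
    have h1 : rho (PresentedGroup.mk _ (Spor.HN.x ^ 2)) = 1 := by
      rw [← MonoidHom.mem_ker, e]; exact Subgroup.mem_top _
    rw [rho_mk, map_pow, FreeGroup.lift_apply_of] at h1
    exact sq_ne (k := 0) (by norm_num) (by norm_num) (by norm_num) HNRepCheck29.x_sq h1

theorem exists_alternating (h : Cfsg.IsHN G0) :
    ∃ K : Subgroup G0, Nonempty (K ≃* alternatingGroup (Fin 12)) := by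
  let e : PresentedGroup crels ≃* alternatingGroup (Fin 12) :=
    (MonoidHom.ofInjective toPerm_injective).trans (MulEquiv.subgroupCongr range_toPerm)
  let f : alternatingGroup (Fin 12) →* G0 :=
    (PresentedGroup.toGroup (hn_rels (rho_injective h))).comp e.symm.toMonoidHom
  haveI : IsSimpleGroup (alternatingGroup (Fin 12)) := alternatingGroup.isSimpleGroup (by simp)
  have hinj : Function.Injective f := by
    rcases Subgroup.Normal.eq_bot_or_eq_top (MonoidHom.normal_ker f) with e1 | e1
    · exact (MonoidHom.ker_eq_bot_iff _).1 e1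
    · exfalso
      have h1 : f (e (PresentedGroup.of 0)) = 1 := by
        rw [← MonoidHom.mem_ker, e1]; exact Subgroup.mem_top _
      have h2 : X 0 = 1 := by simpa [f] using h1
      have h3 : rho (X 0) = 1 := by rw [h2, map_one]
      have hw : X 0 = letterG 2 * letterG 2 := by
        have : words.getD 0 [] = [2, 2] := by decide +kernel
        rw [X, this]; simp
      rw [hw, map_mul, rho_letter 2 (by norm_num), ← sq] at h3
      exact sq_ne (k := 2) (by norm_num) (by norm_num) (by norm_num) HNRepCheck29.y_sq h3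
  exact ⟨f.range, ⟨(MonoidHom.ofInjective hinj).symm⟩⟩

theorem exists_action (h : Cfsg.IsHN G0) :
    ∃ H : Subgroup (Equiv.Perm (Fin 1140000)), Cfsg.IsHN H ∧ MulAction.IsPretransitive H (Fin 1140000) ∧
      Nonempty (MulAction.stabilizer H (0 : Fin 1140000) ≃* alternatingGroup (Fin 12)) := by
  obtain ⟨K, ⟨eK⟩⟩ := exists_alternating h
  haveI : IsSimpleGroup G0 := h.1
  haveI : Finite G0 := Nat.finite_of_card_ne_zero (by rw [h.2]; norm_num)
  haveI : Nontrivial G0 := IsSimpleGroup.toNontrivial
  have hK : Nat.card K = 239500800 := by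
    rw [Nat.card_congr eK.toEquiv, nat_card_alternatingGroup, Nat.card_fin]
    decide +kernel
  have hidx : Nat.card (G0 ⧸ K) = 1140000 := by
    have := Subgroup.card_eq_card_quotient_mul_card_subgroup K
    rw [h.2, hK] at this
    omega
  haveI : Finite (G0 ⧸ K) := Nat.finite_of_card_ne_zero (by rw [hidx]; norm_num)
  let e0 : G0 ⧸ K ≃ Fin 1140000 := (Finite.equivFin _).trans (finCongr hidx)
  let e : G0 ⧸ K ≃ Fin 1140000 := e0.trans (Equiv.swap (e0 ((1 : G0) : G0 ⧸ K)) 0)
  have he : e ((1 : G0) : G0 ⧸ K) = 0 := by simp [e]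
  let φ : G0 →* Equiv.Perm (Fin 1140000) :=
    e.permCongrHom.toMonoidHom.comp (MulAction.toPermHom G0 (G0 ⧸ K))
  have happ : ∀ (g : G0) (x : G0 ⧸ K), φ g (e x) = e (g • x) := fun g x => by
    simp [φ, Equiv.permCongr_apply, MulAction.toPerm_apply]
  have hinj : Function.Injective φ := by
    rcases Subgroup.Normal.eq_bot_or_eq_top (MonoidHom.normal_ker φ) with e1 | e1
    · exact (MonoidHom.ker_eq_bot_iff _).1 e1
    · exfalso
      have hall : ∀ g : G0, g ∈ K := fun g => by
        have h1 : φ g = 1 := by rw [← MonoidHom.mem_ker, e1]; exact Subgroup.mem_top _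
        have h2 := happ g ((1 : G0) : G0 ⧸ K)
        rw [h1, Equiv.Perm.one_apply, e.apply_eq_iff_eq, MulAction.Quotient.smul_coe, smul_eq_mul, mul_one,
          QuotientGroup.eq, inv_one, one_mul] at h2
        exact h2
      have : Nat.card K = Nat.card G0 := by
        rw [(Subgroup.eq_top_iff' K).2 hall, Subgroup.card_top]
      rw [hK, h.2] at this
      omega
  let ψ : G0 ≃* φ.range := MonoidHom.ofInjective hinj
  refine ⟨φ.range, ⟨?_, ?_⟩, ⟨fun a b => ?_⟩, ⟨?_⟩⟩
  · haveI : Nontrivial φ.range := ψ.symm.toEquiv.nontrivial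
    exact IsSimpleGroup.isSimpleGroup_of_surjective ψ.toMonoidHom ψ.surjective
  · rw [← Nat.card_congr ψ.toEquiv, h.2]
  · obtain ⟨g, hg⟩ := MulAction.exists_smul_eq G0 (e.symm a) (e.symm b)
    refine ⟨ψ g, ?_⟩
    show φ g a = b
    rw [← e.apply_symm_apply a, happ, hg, e.apply_symm_apply]
  · have hst : (MulAction.stabilizer φ.range (0 : Fin 1140000)).comap ψ.toMonoidHom = K := by
      ext g
      rw [Subgroup.mem_comap, MulAction.mem_stabilizer_iff]
      show φ g 0 = 0 ↔ g ∈ K
      rw [← he, happ, e.apply_eq_iff_eq, MulAction.Quotient.smul_coe, smul_eq_mul, mul_one,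
        QuotientGroup.eq, mul_one, inv_mem_iff]
    have hmap : K.map ψ.toMonoidHom = MulAction.stabilizer φ.range (0 : Fin 1140000) := by
      rw [← hst]
      exact Subgroup.map_comap_eq_self_of_surjective (f := ψ.toMonoidHom) ψ.surjective _
    exact ((MulEquiv.subgroupCongr hmap.symm).trans (ψ.subgroupMap K).symm).trans eK

end Cfsg.Agent.HNAltTwelve50
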