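import Cfsg.Agent.Lib.HNRep29

/-!
Ten words in the generators of the presented Harada-Norton group, and the matrices of these words.
-/

set_option autoImplicit false

namespace Cfsg.Agent.HNAltTwelve50

open Cfsg.Agent.HNRepCore29 Cfsg.Agent.HNRepData29

/-- data -/
def words : List (List ℕ) :=
  [[2, 2],
   [2, 0, 2, 0, 3, 3, 0, 3, 3, 0, 3, 0, 2, 0, 0, 4, 3, 3, 0, 4, 3, 3, 4, 1, 2, 1, 3, 1, 2, 1, 2, 2, 1, 2, 2, 1, 3, 1, 2, 2, 0, 2, 0, 3, 3, 0, 3, 3, 0, 3, 0, 2, 0, 3, 0, 4, 2, 2, 4, 1, 2, 2, 4, 1, 1, 3, 1, 2, 1, 2, 2, 1, 2, 2, 1, 3, 1, 3],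
   [3, 3, 0, 2, 0, 3, 3, 0, 3, 3, 0, 3, 0, 2, 0, 0, 4, 3, 3, 0, 4, 3, 3, 4, 1, 2, 1, 3, 1, 2, 1, 2, 2, 1, 2, 2, 1, 3, 1, 2, 2, 0, 2, 0, 3, 3, 0, 3, 3, 0, 3, 0, 2, 0, 3, 0, 4, 2, 2, 4, 1, 2, 2, 4, 1, 1, 3, 1, 2, 1, 2, 2, 1, 2, 2, 1, 3, 1, 2, 2],
   [0, 2, 0, 3, 3, 0, 3, 3, 0, 3, 0, 2, 0, 0, 2, 0, 2, 0, 2, 2, 4, 3, 3, 1, 3, 1, 3, 1, 1, 3, 1, 2, 1, 2, 2, 1, 2, 2, 1, 3, 1, 2, 2, 0, 2, 0, 3, 3, 0, 3, 3, 0, 3, 0, 2, 0, 0, 2, 0, 2, 0, 2, 2, 4, 3, 3, 1, 3, 1, 3, 1, 1, 3, 1, 2, 1, 2, 2, 1, 2, 2, 1, 3, 1],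
   [5, 0, 2, 0, 3, 3, 0, 3, 3, 0, 3, 0, 2, 0, 0, 2, 0, 2, 0, 2, 2, 4, 3, 3, 1, 3, 1, 3, 1, 1, 3, 1, 2, 1, 2, 2, 1, 2, 2, 1, 3, 1, 2, 2, 0, 2, 0, 3, 3, 0, 3, 3, 0, 3, 0, 2, 0, 0, 2, 0, 2, 0, 2, 2, 4, 3, 3, 1, 3, 1, 3, 1, 1, 3, 1, 2, 1, 2, 2, 1, 2, 2, 1, 3, 1, 6],
   [0, 2, 0, 3, 3, 0, 3, 3, 0, 3, 0, 2, 0, 5, 0, 2, 0, 2, 0, 2, 2, 4, 3, 3, 1, 3, 1, 3, 1, 1, 3, 1, 2, 1, 2, 2, 1, 2, 2, 1, 3, 1, 2, 2, 0, 2, 0, 3, 3, 0, 3, 3, 0, 3, 0, 2, 0, 0, 2, 0, 2, 0, 2, 2, 4, 3, 3, 1, 3, 1, 3, 1, 6, 1, 3, 1, 2, 1, 2, 2, 1, 2, 2, 1, 3, 1],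
   [5, 5, 0, 2, 0, 3, 3, 0, 3, 3, 0, 3, 0, 2, 0, 0, 2, 0, 2, 0, 2, 2, 4, 3, 3, 1, 3, 1, 3, 1, 1, 3, 1, 2, 1, 2, 2, 1, 2, 2, 1, 3, 1, 2, 2, 0, 2, 0, 3, 3, 0, 3, 3, 0, 3, 0, 2, 0, 0, 2, 0, 2, 0, 2, 2, 4, 3, 3, 1, 3, 1, 3, 1, 1, 3, 1, 2, 1, 2, 2, 1, 2, 2, 1, 3, 1, 6, 6],
   [0, 2, 0, 3, 3, 0, 3, 3, 0, 3, 0, 2, 0, 5, 5, 0, 2, 0, 2, 0, 2, 2, 4, 3, 3, 1, 3, 1, 3, 1, 1, 3, 1, 2, 1, 2, 2, 1, 2, 2, 1, 3, 1, 2, 2, 0, 2, 0, 3, 3, 0, 3, 3, 0, 3, 0, 2, 0, 0, 2, 0, 2, 0, 2, 2, 4, 3, 3, 1, 3, 1, 3, 1, 6, 6, 1, 3, 1, 2, 1, 2, 2, 1, 2, 2, 1, 3, 1],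
   [4, 2, 2, 4, 2, 2, 4, 2, 2, 4, 3, 0, 2, 0, 3, 3, 0, 3, 3, 0, 3, 0, 2, 0, 0, 4, 3, 3, 0, 4, 3, 3, 4, 1, 2, 1, 3, 1, 2, 1, 2, 2, 1, 2, 2, 1, 3, 1, 2, 2, 0, 2, 0, 3, 3, 0, 3, 3, 0, 3, 0, 2, 0, 3, 0, 4, 2, 2, 4, 1, 2, 2, 4, 1, 1, 3, 1, 2, 1, 2, 2, 1, 2, 2, 1, 3, 1, 2, 4, 3, 3, 4, 3, 3, 4, 3, 3, 4],
   [2, 4, 2, 2, 4, 2, 2, 4, 2, 2, 4, 2, 0, 2, 0, 3, 3, 0, 3, 3, 0, 3, 0, 2, 0, 0, 4, 3, 3, 0, 4, 3, 3, 4, 1, 2, 1, 3, 1, 2, 1, 2, 2, 1, 2, 2, 1, 3, 1, 2, 2, 0, 2, 0, 3, 3, 0, 3, 3, 0, 3, 0, 2, 0, 3, 0, 4, 2, 2, 4, 1, 2, 2, 4, 1, 1, 3, 1, 2, 1, 2, 2, 1, 2, 2, 1, 3, 1, 3, 4, 3, 3, 4, 3, 3, 4, 3, 3, 4, 3]]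

/-- data -/
def d0_0 : SMat := [
  [(0, 1)],
  [(6, 1)],
  [(2, 1)],
  [(1, 1)],
  [(11, 1)],
  [(10, 1)],
  [(3, 1)],
  [(16, 1)]]

/-- data -/
def d0_1 : SMat := [
  [(14, 1)],
  [(18, 1)],
  [(20, 1)],
  [(23, 1)],
  [(24, 1)],
  [(26, 1)],
  [(28, 1)],
  [(29, 1)]]

/-- data -/
def d0_2 : SMat := [
  [(31, 1)],
  [(33, 1)],
  [(35, 1)],
  [(36, 1)],
  [(5, 1)],
  [(38, 1)],
  [(40, 1)],
  [(4, 1)]]

/-- data -/
def d0_3 : SMat := [
  [(42, 1)],
  [(43, 1)],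
  [(44, 1)],
  [(46, 1)],
  [(8, 1)],
  [(49, 1)],
  [(22, 1)],
  [(7, 1)]]

/-- data -/
def d0_4 : SMat := [
  [(52, 1)],
  [(53, 1)],
  [(55, 1)],
  [(9, 1)],
  [(48, 1)],
  [(59, 1)],
  [(58, 1)],
  [(39, 1)]]

/-- data -/
def d0_5 : SMat := [
  [(30, 1)],
  [(63, 1)],
  [(12, 1)],
  [(66, 1)],
  [(13, 1)],
  [(68, 1)],
  [(60, 1)],
  [(37, 1)]]

/-- data -/
def d0_6 : SMat := [
  [(19, 1)],
  [(15, 1)],
  [(50, 1)],
  [(73, 1)],
  [(75, 1)],
  [(17, 1)],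
  [(0, 4), (2, 6), (3, 10), (4, 6), (5, 5), (7, 6), (8, 6), (9, 6), (10, 6), (11, 4), (12, 5), (13, 5), (14, 6), (15, 1), (16, 5), (17, 5), (18, 5), (19, 10), (20, 5), (21, 1), (22, 1), (23, 4), (24, 6), (25, 1), (26, 6), (27, 1), (28, 6), (29, 1), (31, 5), (32, 6), (33, 6), (34, 10), (35, 5), (36, 10), (41, 6), (42, 6), (44, 7), (45, 10), (46, 1), (47, 10), (49, 10), (51, 10), (52, 6), (53, 4), (55, 10), (59, 10), (61, 10), (62, 10), (63, 5), (64, 1), (65, 1), (66, 1), (67, 10), (68, 1), (70, 2), (72, 6), (75, 7), (76, 1)],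
  [(0, 1), (1, 1), (3, 4), (4, 10), (7, 1), (8, 10), (9, 9), (10, 8), (11, 4), (12, 1), (13, 2), (14, 10), (15, 8), (16, 2), (18, 10), (19, 1), (21, 9), (22, 7), (23, 3), (24, 10), (26, 9), (27, 10), (28, 9), (29, 9), (30, 10), (31, 2), (33, 9), (34, 2), (36, 2), (37, 10), (39, 1), (40, 9), (41, 9), (43, 1), (44, 7), (45, 2), (46, 10), (47, 3), (48, 10), (49, 2), (50, 1), (51, 2), (53, 3), (54, 10), (55, 1), (56, 10), (57, 10), (58, 10), (59, 2), (60, 2), (61, 1), (62, 2), (64, 8), (65, 9), (66, 10), (67, 3), (68, 8), (69, 10), (70, 7), (71, 8), (72, 10), (73, 10), (74, 10), (75, 7), (76, 8)]]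

/-- data -/
def d0_7 : SMat := [
  [(1, 1), (4, 1), (10, 10), (12, 1), (13, 10), (16, 1), (17, 1), (20, 10), (21, 10), (23, 1), (27, 1), (29, 10), (30, 10), (31, 1), (32, 10), (37, 1), (38, 10), (40, 10), (44, 10), (47, 1), (50, 1), (54, 10), (55, 1), (63, 10), (64, 10), (65, 10), (67, 1), (73, 1), (74, 1)],
  [(57, 1)],
  [(21, 1)],
  [(47, 1)],
  [(27, 1)],
  [(0, 4), (2, 6), (3, 8), (4, 6), (5, 5), (7, 5), (8, 6), (9, 7), (10, 7), (11, 3), (12, 5), (13, 4), (14, 7), (15, 2), (16, 5), (17, 5), (18, 6), (19, 10), (20, 5), (21, 1), (22, 3), (23, 3), (24, 6), (25, 1), (26, 7), (27, 1), (28, 7), (29, 2), (31, 4), (32, 5), (33, 7), (34, 9), (35, 5), (36, 9), (37, 1), (39, 10), (40, 1), (41, 7), (42, 6), (44, 8), (45, 9), (46, 1), (47, 9), (48, 1), (49, 10), (51, 10), (52, 6), (53, 3), (55, 10), (56, 1), (57, 1), (59, 9), (60, 10), (61, 10), (62, 9), (63, 5), (64, 2), (65, 2), (66, 1), (67, 9), (68, 2), (70, 3),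 (71, 1), (72, 6), (73, 1), (74, 1), (75, 9), (76, 2)],
  [(0, 6), (1, 10), (2, 5), (3, 2), (4, 4), (5, 5), (6, 1), (7, 6), (8, 5), (9, 4), (10, 5), (11, 8), (12, 6), (13, 7), (14, 4), (15, 9), (16, 6), (17, 5), (18, 6), (19, 1), (20, 6), (21, 10), (22, 8), (23, 7), (24, 5), (25, 10), (26, 4), (27, 10), (28, 5), (29, 10), (31, 6), (32, 7), (33, 4), (34, 2), (35, 5), (36, 1), (37, 10), (38, 1), (39, 1), (41, 5), (42, 5), (43, 1), (44, 4), (45, 2), (48, 10), (49, 1), (51, 1), (52, 5), (53, 8), (56, 10), (57, 10), (59, 2), (60, 1), (61, 1), (62, 2), (63, 7), (64, 10), (66, 10), (67, 1), (68, 9), (70, 8), (71, 10), (72, 4), (73, 9), (74, 10), (75, 3), (76, 10)],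
  [(72, 1)]]

/-- data -/
def d0_8 : SMat := [
  [(64, 1)],
  [(0, 1), (1, 1), (2, 10), (3, 3), (7, 1), (8, 10), (9, 10), (10, 9), (11, 3), (13, 1), (14, 10), (15, 9), (16, 1), (18, 10), (19, 1), (21, 10), (22, 8), (23, 2), (24, 10), (26, 9), (27, 10), (28, 9), (29, 10), (30, 10), (31, 1), (33, 10), (34, 2), (36, 2), (37, 10), (39, 1), (40, 9), (41, 10), (44, 8), (45, 1), (46, 10), (47, 2), (49, 1), (50, 1), (51, 1), (53, 2), (55, 1), (56, 10), (57, 10), (58, 10), (59, 1), (60, 1), (62, 1), (64, 9), (65, 9), (66, 10), (67, 2), (68, 9), (69, 10), (70, 8), (71, 9), (73, 10), (74, 10), (75, 8), (76, 9)],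
  [(25, 1)],
  [(74, 1)],
  [(0, 6), (1, 10), (2, 5), (3, 1), (4, 5), (5, 5), (6, 1), (7, 6), (8, 5), (9, 4), (10, 6), (11, 7), (12, 6), (13, 6), (14, 4), (15, 10), (16, 6), (17, 6), (18, 6), (19, 1), (20, 6), (21, 10), (22, 9), (23, 7), (24, 6), (25, 10), (26, 5), (27, 10), (28, 5), (29, 10), (31, 6), (32, 6), (33, 5), (34, 1), (35, 5), (36, 1), (39, 1), (41, 5), (42, 5), (43, 1), (44, 5), (45, 1), (51, 1), (52, 5), (53, 7), (59, 2), (61, 1), (62, 2), (63, 7), (64, 10), (68, 10), (70, 9), (72, 4), (73, 10), (75, 4)],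
  [(69, 1)],
  [(65, 1)],
  [(54, 1)]]

/-- data -/
def d0_9 : SMat := [
  [(41, 1)],
  [(0, 5), (2, 5), (3, 1), (4, 5), (5, 5), (7, 6), (8, 5), (9, 5), (10, 5), (11, 6), (12, 5), (13, 6), (14, 5), (15, 10), (16, 6), (17, 5), (18, 5), (20, 6), (22, 10), (23, 6), (24, 5), (26, 5), (28, 5), (31, 5), (32, 6), (33, 5), (34, 1), (35, 5), (37, 10), (38, 1), (39, 1), (40, 10), (41, 5), (42, 6), (44, 5), (52, 6), (53, 6), (56, 10), (57, 10), (60, 1), (63, 6), (70, 10), (71, 10), (72, 6), (73, 10), (74, 10), (75, 5)],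
  [(3, 10), (5, 1), (7, 10), (10, 1), (11, 10), (15, 1), (16, 10), (21, 1), (22, 1), (23, 10), (26, 1), (34, 10), (40, 1), (41, 1), (42, 10), (44, 1), (47, 10), (50, 10), (51, 10), (53, 10), (56, 1), (58, 1), (59, 10), (60, 10), (64, 1), (67, 10), (70, 1), (71, 1), (75, 1)],
  [(32, 1)],
  [(1, 1), (2, 1), (3, 10), (9, 1), (11, 10), (13, 10), (14, 1), (15, 1), (19, 10), (20, 10), (22, 1), (26, 1), (27, 1), (28, 1), (32, 10), (34, 10), (36, 10), (37, 1), (39, 10), (53, 10), (54, 10), (59, 10), (62, 10), (63, 10), (68, 1), (70, 1), (73, 1), (74, 1), (75, 1)],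
  [(77, 1)],
  [(78, 1)],
  [(80, 1)]]

/-- data -/
def d0_10 : SMat := [
  [(86, 1)],
  [(83, 1)],
  [(89, 1)],
  [(91, 1)],
  [(93, 1)],
  [(96, 1)],
  [(79, 1)],
  [(101, 1)]]

/-- data -/
def d0_11 : SMat := [
  [(103, 1)],
  [(94, 1)],
  [(77, 10), (78, 10), (79, 1), (80, 1), (81, 1), (85, 1), (86, 3), (87, 1), (88, 2), (89, 1), (91, 9), (92, 2), (93, 2), (94, 2), (95, 1), (96, 10), (97, 1), (98, 1), (99, 9), (100, 9), (101, 10), (103, 1), (104, 9)],
  [(81, 1)],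
  [(77, 5), (78, 5), (79, 5), (81, 6), (82, 6), (83, 6), (84, 6), (85, 5), (88, 6), (89, 6), (90, 6), (91, 6), (93, 6), (94, 6), (95, 6), (97, 6)],
  [(77, 1), (78, 1), (81, 10), (82, 10), (83, 10), (84, 10), (88, 10), (89, 10), (91, 10), (93, 10), (94, 10), (95, 10), (100, 1), (103, 10)],
  [(82, 1)],
  [(88, 1)]]

/-- data -/
def d0_12 : SMat := [
  [(98, 1)],
  [(77, 7), (78, 9), (79, 2), (80, 2), (81, 2), (82, 8), (83, 1), (85, 4), (86, 5), (87, 3), (88, 5), (90, 3), (91, 8), (92, 4), (93, 3), (94, 1), (95, 1), (96, 2), (98, 5), (99, 5), (100, 8), (101, 10), (102, 9), (103, 3), (104, 9)],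
  [(85, 1)],
  [(77, 10), (78, 10), (79, 1), (80, 1), (85, 1), (86, 2), (87, 1), (88, 1), (91, 10), (92, 1), (93, 1), (94, 1), (95, 1), (97, 1), (98, 1), (99, 10), (100, 10), (103, 1), (104, 10)],
  [(100, 1)],
  [(102, 10)],
  [(87, 10)],
  [(95, 1)]]

/-- data -/
def d0_13 : SMat := [
  [(77, 5), (78, 6), (79, 6), (81, 5), (82, 5), (83, 6), (84, 5), (85, 6), (88, 6), (89, 5), (90, 7), (91, 5), (93, 5), (94, 5), (95, 5), (96, 1), (97, 5), (99, 10)],
  [(110, 10)],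
  [(112, 10)],
  [(105, 10)],
  [(116, 1)],
  [(118, 10)],
  [(107, 1)],
  [(120, 10)]]

/-- data -/
def d0_14 : SMat := [
  [(115, 1)],
  [(119, 1)],
  [(128, 10)],
  [(106, 10)],
  [(122, 1)],
  [(132, 10)],
  [(126, 10)],
  [(105, 8), (106, 9), (107, 1), (108, 1), (109, 2), (110, 10), (111, 1), (113, 2), (114, 4), (115, 1), (116, 4), (117, 1), (118, 2), (119, 9), (120, 4), (121, 3), (122, 2), (123, 1), (125, 1), (126, 3), (127, 7), (128, 7), (129, 9), (131, 2), (132, 9)]]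

/-- data -/
def d0_15 : SMat := [
  [(129, 10)],
  [(105, 8), (106, 7), (107, 4), (108, 10), (109, 4), (110, 7), (111, 4), (112, 5), (113, 3), (114, 9), (115, 9), (116, 2), (117, 6), (118, 3), (119, 7), (120, 9), (121, 4), (122, 5), (123, 5), (124, 9), (125, 6), (126, 8), (127, 4), (128, 2), (129, 1), (130, 1), (131, 9), (132, 1)],
  [(108, 1)],
  [(123, 1)],
  [(105, 1), (106, 1), (109, 10), (110, 10), (111, 10), (112, 10), (116, 10), (117, 10), (119, 10), (121, 10), (122, 10), (123, 10), (128, 1), (131, 10)],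
  [(105, 3), (106, 4), (107, 7), (108, 1), (109, 7), (110, 4), (111, 6), (112, 5), (113, 8), (114, 4), (115, 2), (116, 9), (117, 6), (118, 7), (119, 3), (120, 3), (121, 8), (122, 7), (123, 6), (125, 6), (126, 3), (127, 7), (128, 9), (129, 10), (130, 10), (131, 2), (132, 9)],
  [(109, 1)],
  [(105, 8), (106, 7), (107, 4), (108, 10), (109, 4), (110, 6), (111, 4), (112, 5), (113, 4), (114, 8), (115, 10), (116, 2), (117, 4), (118, 4), (119, 7), (120, 8), (121, 3), (122, 4), (123, 4), (125, 5), (126, 8), (127, 3), (128, 3), (129, 1), (131, 9), (132, 2)]]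

/-- data -/
def d0_16 : SMat := [
  [(105, 6), (106, 6), (107, 5), (109, 6), (110, 7), (111, 5), (112, 6), (113, 4), (115, 10), (116, 5), (117, 7), (118, 4), (119, 6), (121, 6), (122, 7), (123, 6), (124, 9), (125, 6), (126, 10), (127, 1), (128, 10), (129, 10), (130, 1), (132, 10)],
  [(111, 1)],
  [(121, 10)],
  [(131, 1)],
  [(105, 10), (106, 10), (107, 1), (108, 1), (113, 1), (114, 1), (115, 1), (116, 1), (123, 1), (124, 1), (126, 1), (129, 1), (130, 10), (131, 1)]]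

/-- data -/
def d0 : SMat := d0_0 ++ d0_1 ++ d0_2 ++ d0_3 ++ d0_4 ++ d0_5 ++ d0_6 ++ d0_7 ++ d0_8 ++ d0_9 ++ d0_10 ++ d0_11 ++ d0_12 ++ d0_13 ++ d0_14 ++ d0_15 ++ d0_16

/-- data -/
def d1_0 : SMat := [
  [(0, 1)],
  [(7, 1)],
  [(0, 5), (2, 6), (4, 5), (5, 5), (6, 10), (7, 6), (8, 6), (9, 6), (10, 5), (11, 5), (12, 5), (13, 6), (14, 6), (16, 5), (17, 5), (18, 5), (19, 10), (20, 5), (23, 5), (24, 5), (26, 5), (28, 6), (29, 1), (30, 1), (31, 5), (32, 6), (33, 5), (35, 6), (37, 10), (39, 10), (41, 5), (42, 6), (44, 5), (48, 10), (52, 6), (53, 5), (55, 10), (56, 10), (60, 1), (61, 10), (62, 10), (63, 5), (67, 1), (70, 1), (71, 10), (72, 6), (75, 5)],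
  [(31, 1)],
  [(11, 1)],
  [(57, 1)],
  [(1, 1)],
  [(6, 1)]]

/-- data -/
def d1_1 : SMat := [
  [(0, 6), (1, 10), (2, 5), (3, 1), (4, 5), (5, 5), (6, 1), (7, 6), (8, 5), (9, 4), (10, 6), (11, 7), (12, 6), (13, 6), (14, 4), (15, 10), (16, 6), (17, 6), (18, 6), (19, 1), (20, 6), (21, 10), (22, 9), (23, 7), (24, 6), (25, 10), (26, 5), (27, 10), (28, 5), (29, 10), (31, 6), (32, 6), (33, 5), (34, 1), (35, 5), (36, 1), (39, 1), (41, 5), (42, 5), (43, 1), (44, 5), (45, 1), (51, 1), (52, 5), (53, 7), (59, 2), (61, 1), (62, 2), (63, 7), (64, 10), (68, 10), (70, 9), (72, 4), (73, 10), (75, 4)],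
  [(9, 1)],
  [(10, 1)],
  [(0, 5), (2, 5), (4, 6), (5, 5), (7, 6), (8, 5), (9, 5), (10, 5), (11, 6), (12, 6), (13, 5), (14, 5), (15, 10), (16, 6), (17, 6), (18, 5), (20, 5), (21, 10), (22, 10), (23, 6), (24, 6), (26, 5), (28, 5), (29, 10), (30, 10), (31, 6), (32, 5), (33, 6), (35, 5), (37, 1), (38, 10), (39, 1), (40, 10), (41, 5), (42, 6), (44, 5), (47, 1), (49, 10), (50, 1), (52, 5), (53, 6), (58, 10), (59, 1), (63, 5), (64, 10), (72, 5), (75, 5)],
  [(42, 1)],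
  [(44, 1)],
  [(8, 1)],
  [(0, 6), (1, 1), (2, 5), (3, 3), (4, 5), (5, 6), (7, 6), (8, 4), (9, 4), (10, 3), (11, 8), (12, 6), (13, 6), (14, 5), (15, 9), (16, 7), (17, 6), (18, 5), (19, 1), (20, 5), (21, 9), (22, 8), (23, 8), (24, 5), (26, 4), (28, 4), (29, 9), (30, 10), (31, 7), (32, 5), (33, 4), (34, 1), (35, 5), (36, 1), (39, 1), (40, 9), (41, 4), (42, 6), (43, 1), (44, 3), (45, 1), (46, 10), (47, 2), (49, 1), (50, 1), (51, 1), (52, 5), (53, 8), (54, 10), (55, 1), (56, 10), (57, 10), (58, 10), (59, 1), (60, 1), (61, 1), (62, 1), (63, 5), (64, 9), (65, 9), (66, 10), (67, 2), (68, 9), (69, 10), (70, 8), (71, 9), (72, 5), (74, 10), (75, 3), (76, 9)]]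

/-- data -/
def d1_2 : SMat := [
  [(3, 1)],
  [(59, 1)],
  [(35, 1)],
  [(0, 6), (1, 10), (2, 5), (3, 2), (4, 4), (5, 5), (6, 1), (7, 6), (8, 5), (9, 4), (10, 5), (11, 8), (12, 6), (13, 7), (14, 4), (15, 9), (16, 6), (17, 5), (18, 6), (19, 1), (20, 6), (21, 10), (22, 8), (23, 7), (24, 5), (25, 10), (26, 4), (27, 10), (28, 5), (29, 10), (31, 6), (32, 7), (33, 4), (34, 2), (35, 5), (36, 1), (37, 10), (38, 1), (39, 1), (41, 5), (42, 5), (43, 1), (44, 4), (45, 2), (48, 10), (49, 1), (51, 1), (52, 5), (53, 8), (56, 10), (57, 10), (59, 2), (60, 1), (61, 1), (62, 2), (63, 7), (64, 10), (66, 10), (67, 1), (68, 9), (70, 8), (71, 10), (72, 4), (73, 9), (74, 10), (75, 3), (76, 10)],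
  [(5, 1)],
  [(41, 1)],
  [(54, 1)],
  [(23, 1)]]

/-- data -/
def d1_3 : SMat := [
  [(12, 1)],
  [(25, 1)],
  [(0, 1), (3, 2), (4, 10), (6, 1), (8, 10), (9, 9), (10, 10), (11, 3), (12, 1), (13, 1), (14, 10), (15, 9), (16, 1), (19, 1), (21, 10), (22, 8), (23, 2), (25, 10), (26, 10), (27, 10), (28, 10), (29, 9), (30, 10), (31, 2), (33, 10), (34, 1), (36, 1), (39, 1), (41, 10), (42, 10), (43, 1), (44, 9), (45, 2), (47, 1), (48, 10), (49, 1), (51, 1), (52, 10), (53, 2), (54, 10), (55, 1), (57, 10), (59, 2), (60, 1), (61, 2), (62, 2), (63, 1), (64, 9), (65, 10), (66, 10), (67, 1), (68, 9), (70, 8), (71, 10), (72, 9), (73, 10), (75, 9), (76, 9)],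
  [(50, 1)],
  [(68, 1)],
  [(21, 1)],
  [(71, 1)],
  [(16, 1)]]

/-- data -/
def d1_4 : SMat := [
  [(75, 1)],
  [(0, 6), (1, 1), (2, 5), (3, 1), (4, 6), (5, 6), (7, 5), (8, 5), (9, 5), (10, 4), (11, 6), (12, 6), (13, 5), (14, 5), (16, 6), (17, 6), (18, 5), (19, 1), (20, 5), (21, 10), (22, 10), (23, 7), (24, 5), (26, 5), (28, 5), (29, 10), (30, 10), (31, 7), (32, 5), (33, 5), (35, 6), (36, 1), (38, 10), (40, 10), (41, 5), (42, 5), (44, 4), (46, 10), (47, 1), (49, 1), (50, 1), (52, 5), (53, 6), (54, 10), (55, 1), (63, 5), (64, 10), (65, 9), (67, 1), (68, 10), (69, 10), (70, 10), (72, 6), (73, 1), (75, 5), (76, 10)],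
  [(0, 1), (1, 1), (3, 4), (4, 10), (7, 1), (8, 10), (9, 9), (10, 8), (11, 4), (12, 1), (13, 2), (14, 10), (15, 8), (16, 2), (18, 10), (19, 1), (21, 9), (22, 7), (23, 3), (24, 10), (26, 9), (27, 10), (28, 9), (29, 9), (30, 10), (31, 2), (33, 9), (34, 2), (36, 2), (37, 10), (39, 1), (40, 9), (41, 9), (43, 1), (44, 7), (45, 2), (46, 10), (47, 3), (48, 10), (49, 2), (50, 1), (51, 2), (53, 3), (54, 10), (55, 1), (56, 10), (57, 10), (58, 10), (59, 2), (60, 2), (61, 1), (62, 2), (64, 8), (65, 9), (66, 10), (67, 3), (68, 8), (69, 10), (70, 7), (71, 8), (72, 10), (73, 10), (74, 10), (75, 7), (76, 8)],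
  [(69, 1)],
  [(6, 10), (8, 1), (9, 1), (11, 10), (12, 10), (14, 1), (15, 1), (16, 10), (19, 10), (21, 1), (22, 1), (23, 10), (29, 1), (30, 1), (31, 10), (35, 1), (37, 10), (39, 10), (43, 10), (52, 1), (53, 10), (54, 1), (59, 10), (61, 10), (62, 10), (64, 1), (68, 1), (70, 1), (72, 1)],
  [(51, 1)],
  [(15, 1)],
  [(43, 1)]]

/-- data -/
def d1_5 : SMat := [
  [(22, 1)],
  [(29, 1)],
  [(24, 1)],
  [(66, 1)],
  [(56, 1)],
  [(28, 1)],
  [(46, 1)],
  [(53, 1)]]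

/-- data -/
def d1_6 : SMat := [
  [(36, 1)],
  [(72, 1)],
  [(60, 1)],
  [(0, 4), (2, 6), (3, 8), (4, 6), (5, 5), (7, 5), (8, 6), (9, 7), (10, 7), (11, 3), (12, 5), (13, 4), (14, 7), (15, 2), (16, 5), (17, 5), (18, 6), (19, 10), (20, 5), (21, 1), (22, 3), (23, 3), (24, 6), (25, 1), (26, 7), (27, 1), (28, 7), (29, 2), (31, 4), (32, 5), (33, 7), (34, 9), (35, 5), (36, 9), (37, 1), (39, 10), (40, 1), (41, 7), (42, 6), (44, 8), (45, 9), (46, 1), (47, 9), (48, 1), (49, 10), (51, 10), (52, 6), (53, 3), (55, 10), (56, 1), (57, 1), (59, 9), (60, 10), (61, 10), (62, 9), (63, 5), (64, 2), (65, 2), (66, 1), (67, 9), (68, 2), (70, 3), (71, 1), (72, 6), (73, 1), (74, 1), (75, 9), (76, 2)],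
  [(32, 1)],
  [(73, 1)],
  [(40, 1)],
  [(67, 1)]]

/-- data -/
def d1_7 : SMat := [
  [(13, 1)],
  [(20, 1)],
  [(0, 10), (3, 8), (4, 1), (7, 10), (8, 1), (9, 2), (10, 1), (11, 8), (13, 9), (14, 1), (15, 2), (16, 10), (19, 10), (21, 1), (22, 3), (23, 9), (24, 1), (25, 1), (26, 2), (27, 1), (28, 1), (29, 1), (31, 10), (32, 10), (33, 2), (34, 9), (36, 10), (37, 1), (38, 10), (39, 10), (40, 1), (41, 1), (43, 10), (44, 2), (45, 9), (47, 10), (48, 1), (49, 10), (51, 10), (53, 9), (56, 1), (57, 1), (59, 9), (60, 10), (61, 10), (62, 9), (63, 10), (64, 2), (65, 1), (66, 1), (67, 9), (68, 2), (70, 3), (71, 2), (72, 1), (73, 2), (74, 1), (75, 3), (76, 2)],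
  [(61, 1)],
  [(27, 1)],
  [(17, 1)],
  [(19, 1)],
  [(58, 1)]]

/-- data -/
def d1_8 : SMat := [
  [(70, 1)],
  [(64, 1)],
  [(39, 1)],
  [(3, 10), (5, 1), (7, 10), (10, 1), (11, 10), (15, 1), (16, 10), (21, 1), (22, 1), (23, 10), (26, 1), (34, 10), (40, 1), (41, 1), (42, 10), (44, 1), (47, 10), (50, 10), (51, 10), (53, 10), (56, 1), (58, 1), (59, 10), (60, 10), (64, 1), (67, 10), (70, 1), (71, 1), (75, 1)],
  [(45, 1)],
  [(18, 1)],
  [(65, 1)],
  [(0, 4), (2, 6), (3, 10), (4, 6), (5, 5), (7, 6), (8, 6), (9, 6), (10, 6), (11, 4), (12, 5), (13, 5), (14, 6), (15, 1), (16, 5), (17, 5), (18, 5), (19, 10), (20, 5), (21, 1), (22, 1), (23, 4), (24, 6), (25, 1), (26, 6), (27, 1), (28, 6), (29, 1), (31, 5), (32, 6), (33, 6), (34, 10), (35, 5), (36, 10), (41, 6), (42, 6), (44, 7), (45, 10), (46, 1), (47, 10), (49, 10), (51, 10), (52, 6), (53, 4), (55, 10), (59, 10), (61, 10), (62, 10), (63, 5), (64, 1), (65, 1), (66,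 1), (67, 10), (68, 1), (70, 2), (72, 6), (75, 7), (76, 1)]]

/-- data -/
def d1_9 : SMat := [
  [(0, 10), (3, 10), (5, 10), (10, 1), (11, 10), (22, 1), (23, 10), (28, 1), (29, 1), (31, 10), (33, 1), (36, 10), (42, 1), (44, 1), (45, 10), (46, 1), (47, 10), (49, 10), (53, 10), (55, 10), (62, 10), (64, 1), (65, 1), (66, 1), (67, 10), (68, 1), (70, 1), (75, 1), (76, 1)],
  [(47, 1)],
  [(34, 1)],
  [(52, 1)],
  [(1, 10), (3, 9), (6, 10), (8, 1), (9, 1), (10, 1), (11, 9), (12, 10), (14, 1), (15, 1), (16, 10), (19, 10), (21, 1), (22, 2), (23, 9), (26, 1), (28, 1), (29, 1), (30, 1), (31, 10), (33, 1), (34, 10), (36, 10), (39, 10), (40, 1), (41, 1), (43, 10), (44, 2), (45, 10), (47, 10), (49, 10), (50, 10), (51, 10), (53, 10), (54, 1), (55, 10), (57, 1), (59, 10), (60, 10), (61, 10), (62, 10), (64, 1), (65, 1), (67, 10), (68, 1), (69, 1), (70, 2), (71, 1), (72, 1), (75, 1), (76, 1)],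
  [(77, 1)],
  [(77, 10), (79, 1), (82, 10), (83, 1), (85, 1), (87, 1), (88, 1), (89, 10), (90, 2), (91, 10), (93, 10), (94, 10), (95, 10), (96, 2), (97, 10), (98, 1), (99, 9)],
  [(100, 10)]]

/-- data -/
def d1_10 : SMat := [
  [(80, 1)],
  [(77, 8), (78, 7), (79, 4), (80, 10), (81, 4), (82, 7), (83, 5), (84, 6), (85, 3), (86, 7), (87, 9), (88, 2), (89, 5), (90, 4), (91, 8), (92, 8), (93, 3), (94, 4), (95, 5), (97, 5), (98, 8), (99, 4), (100, 2), (101, 1), (102, 1), (103, 9), (104, 2)],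
  [(82, 1)],
  [(81, 1)],
  [(77, 3), (78, 4), (79, 7), (80, 1), (81, 7), (82, 5), (83, 7), (84, 6), (85, 7), (86, 3), (87, 1), (88, 9), (89, 7), (90, 7), (91, 4), (92, 3), (93, 8), (94, 7), (95, 7), (97, 6), (98, 3), (99, 8), (100, 8), (101, 10), (103, 2), (104, 9)],
  [(98, 1)],
  [(79, 1)],
  [(97, 10)]]

/-- data -/
def d1_11 : SMat := [
  [(104, 10)],
  [(94, 1)],
  [(77, 10), (78, 10), (79, 1), (80, 1), (82, 10), (85, 1), (86, 2), (87, 1), (88, 2), (90, 1), (91, 10), (92, 2), (93, 1), (96, 1), (98, 2), (99, 9), (100, 10), (102, 10), (103, 1)],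
  [(77, 6), (78, 6), (79, 6), (81, 5), (82, 5), (83, 5), (84, 5), (85, 6), (88, 5), (89, 5), (90, 5), (91, 5), (93, 5), (94, 5), (95, 5), (97, 5)],
  [(91, 10)],
  [(87, 1)],
  [(77, 1), (78, 1), (79, 10), (80, 10), (85, 10), (86, 10), (87, 10), (88, 10), (95, 10), (96, 10), (98, 10), (101, 10), (102, 1), (103, 10)],
  [(77, 5), (78, 5), (79, 6), (81, 5), (82, 4), (83, 6), (84, 5), (85, 7), (87, 1), (88, 6), (89, 4), (90, 7), (91, 5), (93, 5), (94, 4), (95, 5), (96, 2), (97, 5), (98, 1), (99, 10), (100, 1), (101, 1), (102, 10), (104, 1)]]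

/-- data -/
def d1_12 : SMat := [
  [(77, 3), (78, 2), (79, 9), (80, 9), (81, 10), (82, 2), (85, 8), (86, 7), (87, 9), (88, 7), (90, 9), (91, 2), (92, 8), (93, 9), (95, 10), (96, 9), (98, 7), (99, 4), (100, 2), (102, 2), (103, 9), (104, 1)],
  [(93, 10)],
  [(99, 10)],
  [(85, 10)],
  [(86, 10)],
  [(84, 1)],
  [(77, 8), (78, 7), (79, 4), (80, 10), (81, 4), (82, 7), (83, 5), (84, 6), (85, 3), (86, 7), (87, 9), (88, 2), (89, 6), (90, 3), (91, 8), (92, 8), (93, 4), (94, 5), (95, 5), (96, 9), (97, 5), (98, 8), (99, 4), (100, 2), (101, 1), (102, 1), (103, 9), (104, 1)],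
  [(88, 1)]]

/-- data -/
def d1_13 : SMat := [
  [(103, 10)],
  [(108, 10)],
  [(112, 10)],
  [(122, 1)],
  [(110, 1)],
  [(126, 1)],
  [(105, 10)],
  [(105, 3), (106, 4), (107, 7), (108, 1), (109, 7), (110, 4), (111, 6), (112, 5), (113, 8), (114, 4), (115, 2), (116, 9), (117, 5), (118, 8), (119, 3), (120, 3), (121, 7), (122, 6), (123, 6), (124, 2), (125, 6), (126, 3), (127, 7), (128, 9), (129, 10), (130, 10), (131, 2), (132, 10)]]

/-- data -/
def d1_14 : SMat := [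
  [(105, 1), (107, 10), (110, 1), (111, 10), (113, 10), (115, 10), (116, 10), (117, 1), (118, 9), (119, 1), (121, 1), (122, 1), (123, 1), (124, 9), (125, 1), (126, 10), (127, 2)],
  [(105, 8), (106, 7), (107, 4), (108, 10), (109, 4), (110, 7), (111, 4), (112, 5), (113, 3), (114, 9), (115, 9), (116, 2), (117, 6), (118, 3), (119, 7), (120, 9), (121, 4), (122, 5), (123, 5), (124, 9), (125, 6), (126, 8), (127, 4), (128, 2), (129, 1), (130, 1), (131, 9), (132, 1)],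
  [(131, 1)],
  [(115, 1)],
  [(107, 1)],
  [(117, 1)],
  [(109, 10)],
  [(105, 3), (106, 2), (107, 9), (108, 9), (109, 10), (110, 2), (113, 8), (114, 7), (115, 9), (116, 7), (118, 9), (119, 2), (120, 8), (121, 9), (123, 10), (124, 9), (126, 7), (127, 4), (128, 2), (130, 2), (131, 9), (132, 1)]]

/-- data -/
def d1_15 : SMat := [
  [(105, 5), (106, 5), (107, 5), (109, 6), (110, 6), (111, 6), (112, 6), (113, 5), (116, 6), (117, 6), (118, 6), (119, 6), (121, 6), (122, 6), (123, 6), (125, 6)],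
  [(125, 10)],
  [(116, 1)],
  [(132, 10)],
  [(105, 1), (106, 1), (107, 10), (108, 10), (113, 10), (114, 9), (115, 10), (116, 10), (119, 1), (120, 10), (121, 10), (122, 10), (123, 10), (125, 10), (126, 10), (127, 1), (128, 1), (131, 10), (132, 1)],
  [(105, 2), (106, 1), (107, 10), (108, 10), (109, 10), (111, 10), (112, 10), (113, 10), (114, 9), (115, 10), (116, 8), (117, 10), (118, 10), (119, 1), (120, 9), (121, 9), (122, 10), (123, 10), (126, 9), (127, 2), (128, 2), (131, 9), (132, 2)],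
  [(118, 10)],
  [(105, 10), (106, 10), (107, 1), (108, 1), (110, 10), (113, 1), (114, 2), (115, 1), (116, 2), (118, 1), (119, 10), (120, 2), (121, 1), (124, 1), (126, 2), (127, 9), (128, 10), (130, 10), (131, 1)]]

/-- data -/
def d1_16 : SMat := [
  [(128, 1)],
  [(120, 10)],
  [(105, 3), (106, 2), (107, 10), (108, 10), (109, 9), (110, 1), (111, 10), (113, 9), (114, 7), (115, 10), (116, 7), (117, 10), (118, 9), (119, 2), (120, 7), (121, 8), (122, 9), (123, 10), (125, 10), (126, 8), (127, 4), (128, 4), (129, 2), (131, 9), (132, 2)],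
  [(105, 5), (106, 5), (107, 6), (109, 5), (110, 4), (111, 6), (112, 5), (113, 7), (115, 1), (116, 6), (117, 4), (118, 7), (119, 5), (121, 5), (122, 4), (123, 5), (124, 2), (125, 5), (126, 1), (127, 10), (128, 1), (129, 1), (130, 10), (132, 1)],
  [(105, 10), (106, 10), (107, 1), (108, 1), (113, 1), (114, 1), (115, 1), (116, 1), (123, 1), (124, 1), (126, 1), (129, 1), (130, 10), (131, 1)]]

/-- data -/
def d1 : SMat := d1_0 ++ d1_1 ++ d1_2 ++ d1_3 ++ d1_4 ++ d1_5 ++ d1_6 ++ d1_7 ++ d1_8 ++ d1_9 ++ d1_10 ++ d1_11 ++ d1_12 ++ d1_13 ++ d1_14 ++ d1_15 ++ d1_16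

/-- data -/
def d2_0 : SMat := [
  [(0, 5), (2, 6), (4, 5), (5, 5), (6, 10), (7, 6), (8, 6), (9, 6), (10, 5), (11, 5), (12, 5), (13, 6), (14, 6), (16, 5), (17, 5), (18, 5), (19, 10), (20, 5), (23, 5), (24, 5), (26, 5), (28, 6), (29, 1), (30, 1), (31, 5), (32, 6), (33, 5), (35, 6), (37, 10), (39, 10), (41, 5), (42, 6), (44, 5), (48, 10), (52, 6), (53, 5), (55, 10), (56, 10), (60, 1), (61, 10), (62, 10), (63, 5), (67, 1), (70, 1), (71, 10), (72, 6), (75, 5)],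
  [(23, 1)],
  [(2, 1)],
  [(11, 1)],
  [(3, 1)],
  [(20, 1)],
  [(1, 1)],
  [(7, 1)]]

/-- data -/
def d2_1 : SMat := [
  [(14, 1)],
  [(68, 1)],
  [(0, 1), (3, 2), (4, 10), (6, 1), (8, 10), (9, 9), (10, 10), (11, 3), (12, 1), (13, 1), (14, 10), (15, 9), (16, 1), (19, 1), (21, 10), (22, 8), (23, 2), (25, 10), (26, 10), (27, 10), (28, 10), (29, 9), (30, 10), (31, 2), (33, 10), (34, 1), (36, 1), (39, 1), (41, 10), (42, 10), (43, 1), (44, 9), (45, 2), (47, 1), (48, 10), (49, 1), (51, 1), (52, 10), (53, 2), (54, 10), (55, 1), (57, 10), (59, 2), (60, 1), (61, 2), (62, 2), (63, 1), (64, 9), (65, 10), (66, 10), (67, 1), (68, 9), (70, 8), (71, 10), (72, 9), (73, 10), (75, 9), (76, 9)],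
  [(4, 1)],
  [(73, 1)],
  [(57, 1)],
  [(69, 1)],
  [(38, 1)]]

/-- data -/
def d2_2 : SMat := [
  [(31, 1)],
  [(53, 1)],
  [(0, 6), (1, 10), (2, 5), (3, 1), (4, 5), (5, 5), (6, 1), (7, 6), (8, 5), (9, 4), (10, 6), (11, 7), (12, 6), (13, 6), (14, 4), (15, 10), (16, 6), (17, 6), (18, 6), (19, 1), (20, 6), (21, 10), (22, 9), (23, 7), (24, 6), (25, 10), (26, 5), (27, 10), (28, 5), (29, 10), (31, 6), (32, 6), (33, 5), (34, 1), (35, 5), (36, 1), (39, 1), (41, 5), (42, 5), (43, 1), (44, 5), (45, 1), (51, 1), (52, 5), (53, 7), (59, 2), (61, 1), (62, 2), (63, 7), (64, 10), (68, 10), (70, 9), (72, 4), (73, 10), (75, 4)],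
  [(19, 1)],
  [(56, 1)],
  [(52, 1)],
  [(0, 1), (1, 1), (2, 10), (3, 3), (7, 1), (8, 10), (9, 10), (10, 9), (11, 3), (13, 1), (14, 10), (15, 9), (16, 1), (18, 10), (19, 1), (21, 10), (22, 8), (23, 2), (24, 10), (26, 9), (27, 10), (28, 9), (29, 10), (30, 10), (31, 1), (33, 10), (34, 2), (36, 2), (37, 10), (39, 1), (40, 9), (41, 10), (44, 8), (45, 1), (46, 10), (47, 2), (49, 1), (50, 1), (51, 1), (53, 2), (55, 1), (56, 10), (57, 10), (58, 10), (59, 1), (60, 1), (62, 1), (64, 9), (65, 9), (66, 10), (67, 2), (68, 9), (69, 10), (70, 8), (71, 9), (73, 10), (74, 10), (75, 8), (76, 9)],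
  [(6, 1)]]

/-- data -/
def d2_3 : SMat := [
  [(0, 6), (1, 1), (2, 5), (3, 1), (4, 6), (5, 6), (7, 5), (8, 5), (9, 5), (10, 4), (11, 6), (12, 6), (13, 5), (14, 5), (16, 6), (17, 6), (18, 5), (19, 1), (20, 5), (21, 10), (22, 10), (23, 7), (24, 5), (26, 5), (28, 5), (29, 10), (30, 10), (31, 7), (32, 5), (33, 5), (35, 6), (36, 1), (38, 10), (40, 10), (41, 5), (42, 5), (44, 4), (46, 10), (47, 1), (49, 1), (50, 1), (52, 5), (53, 6), (54, 10), (55, 1), (63, 5), (64, 10), (65, 9), (67, 1), (68, 10), (69, 10), (70, 10), (72, 6), (73, 1), (75, 5), (76, 10)],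
  [(0, 6), (1, 10), (2, 5), (3, 2), (4, 4), (5, 5), (6, 1), (7, 6), (8, 5), (9, 4), (10, 5), (11, 8), (12, 6), (13, 7), (14, 4), (15, 9), (16, 6), (17, 5), (18, 6), (19, 1), (20, 6), (21, 10), (22, 8), (23, 7), (24, 5), (25, 10), (26, 4), (27, 10), (28, 5), (29, 10), (31, 6), (32, 7), (33, 4), (34, 2), (35, 5), (36, 1), (37, 10), (38, 1), (39, 1), (41, 5), (42, 5), (43, 1), (44, 4), (45, 2), (48, 10), (49, 1), (51, 1), (52, 5), (53, 8), (56, 10), (57, 10), (59, 2), (60, 1), (61, 1), (62, 2), (63, 7), (64, 10), (66, 10), (67, 1), (68, 9), (70, 8), (71, 10), (72, 4), (73, 9), (74, 10), (75, 3), (76, 10)],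
  [(26, 1)],
  [(60, 1)],
  [(28, 1)],
  [(0, 10), (3, 8), (4, 1), (7, 10), (8, 1), (9, 2), (10, 1), (11, 8), (13, 9), (14, 1), (15, 2), (16, 10), (19, 10), (21, 1), (22, 3), (23, 9), (24, 1), (25, 1), (26, 2), (27, 1), (28, 1), (29, 1), (31, 10), (32, 10), (33, 2), (34, 9), (36, 10), (37, 1), (38, 10), (39, 10), (40, 1), (41, 1), (43, 10), (44, 2), (45, 9), (47, 10), (48, 1), (49, 10), (51, 10), (53, 9), (56, 1), (57, 1), (59, 9), (60, 10), (61, 10), (62, 9), (63, 10), (64, 2), (65, 1), (66, 1), (67, 9), (68, 2), (70, 3), (71, 2), (72, 1), (73, 2), (74, 1), (75, 3), (76, 2)],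
  [(65, 1)],
  [(0, 5), (2, 5), (4, 6), (5, 5), (7, 6), (8, 5), (9, 5), (10, 5), (11, 6), (12, 6), (13, 5), (14, 5), (15, 10), (16, 6), (17, 6), (18, 5), (20, 5), (21, 10), (22, 10), (23, 6), (24, 6), (26, 5), (28, 5), (29, 10), (30, 10), (31, 6), (32, 5), (33, 6), (35, 5), (37, 1), (38, 10), (39, 1), (40, 10), (41, 5), (42, 6), (44, 5), (47, 1), (49, 10), (50, 1), (52, 5), (53, 6), (58, 10), (59, 1), (63, 5), (64, 10), (72, 5), (75, 5)]]

/-- data -/
def d2_4 : SMat := [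
  [(29, 1)],
  [(17, 1)],
  [(50, 1)],
  [(18, 1)],
  [(48, 1)],
  [(0, 4), (2, 6), (3, 8), (4, 6), (5, 5), (7, 5), (8, 6), (9, 7), (10, 7), (11, 3), (12, 5), (13, 4), (14, 7), (15, 2), (16, 5), (17, 5), (18, 6), (19, 10), (20, 5), (21, 1), (22, 3), (23, 3), (24, 6), (25, 1), (26, 7), (27, 1), (28, 7), (29, 2), (31, 4), (32, 5), (33, 7), (34, 9), (35, 5), (36, 9), (37, 1), (39, 10), (40, 1), (41, 7), (42, 6), (44, 8), (45, 9), (46, 1), (47, 9), (48, 1), (49, 10), (51, 10), (52, 6), (53, 3), (55, 10), (56, 1), (57, 1), (59, 9), (60, 10), (61, 10), (62, 9), (63, 5), (64, 2), (65, 2), (66, 1), (67, 9), (68, 2), (70, 3), (71, 1), (72, 6), (73, 1), (74, 1), (75, 9), (76, 2)],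
  [(0, 6), (1, 1), (2, 5), (3, 3), (4, 5), (5, 6), (7, 6), (8, 4), (9, 4), (10, 3), (11, 8), (12, 6), (13, 6), (14, 5), (15, 9), (16, 7), (17, 6), (18, 5), (19, 1), (20, 5), (21, 9), (22, 8), (23, 8), (24, 5), (26, 4), (28, 4), (29, 9), (30, 10), (31, 7), (32, 5), (33, 4), (34, 1), (35, 5), (36, 1), (39, 1), (40, 9), (41, 4), (42, 6), (43, 1), (44, 3), (45, 1), (46, 10), (47, 2), (49, 1), (50, 1), (51, 1), (52, 5), (53, 8), (54, 10), (55, 1), (56, 10), (57, 10), (58, 10), (59, 1), (60, 1), (61, 1), (62, 1), (63, 5), (64, 9), (65, 9), (66, 10), (67, 2), (68, 9), (69, 10), (70, 8), (71, 9), (72, 5), (74, 10), (75, 3), (76, 9)],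
  [(36, 1)]]

/-- data -/
def d2_5 : SMat := [
  [(22, 1)],
  [(72, 1)],
  [(59, 1)],
  [(6, 10), (8, 1), (9, 1), (11, 10), (12, 10), (14, 1), (15, 1), (16, 10), (19, 10), (21, 1), (22, 1), (23, 10), (29, 1), (30, 1), (31, 10), (35, 1), (37, 10), (39, 10), (43, 10), (52, 1), (53, 10), (54, 1), (59, 10), (61, 10), (62, 10), (64, 1), (68, 1), (70, 1), (72, 1)],
  [(13, 1)],
  [(9, 1)],
  [(67, 1)],
  [(24, 1)]]

/-- data -/
def d2_6 : SMat := [
  [(39, 1)],
  [(75, 1)],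
  [(0, 1), (1, 1), (3, 4), (4, 10), (7, 1), (8, 10), (9, 9), (10, 8), (11, 4), (12, 1), (13, 2), (14, 10), (15, 8), (16, 2), (18, 10), (19, 1), (21, 9), (22, 7), (23, 3), (24, 10), (26, 9), (27, 10), (28, 9), (29, 9), (30, 10), (31, 2), (33, 9), (34, 2), (36, 2), (37, 10), (39, 1), (40, 9), (41, 9), (43, 1), (44, 7), (45, 2), (46, 10), (47, 3), (48, 10), (49, 2), (50, 1), (51, 2), (53, 3), (54, 10), (55, 1), (56, 10), (57, 10), (58, 10), (59, 2), (60, 2), (61, 1), (62, 2), (64, 8), (65, 9), (66, 10), (67, 3), (68, 8), (69, 10), (70, 7), (71, 8), (72, 10), (73, 10), (74, 10), (75, 7), (76, 8)],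
  [(37, 1)],
  [(0, 10), (3, 10), (5, 10), (10, 1), (11, 10), (22, 1), (23, 10), (28, 1), (29, 1), (31, 10), (33, 1), (36, 10), (42, 1), (44, 1), (45, 10), (46, 1), (47, 10), (49, 10), (53, 10), (55, 10), (62, 10), (64, 1), (65, 1), (66, 1), (67, 10), (68, 1), (70, 1), (75, 1), (76, 1)],
  [(33, 1)],
  [(54, 1)],
  [(55, 1)]]

/-- data -/
def d2_7 : SMat := [
  [(5, 1)],
  [(44, 1)],
  [(49, 1)],
  [(0, 5), (2, 5), (3, 1), (4, 5), (5, 5), (7, 6), (8, 5), (9, 5), (10, 5), (11, 6), (12, 5), (13, 6), (14, 5), (15, 10), (16, 6), (17, 5), (18, 5), (20, 6), (22, 10), (23, 6), (24, 5), (26, 5), (28, 5), (31, 5), (32, 6), (33, 5), (34, 1), (35, 5), (37, 10), (38, 1), (39, 1), (40, 10), (41, 5), (42, 6), (44, 5), (52, 6), (53, 6), (56, 10), (57, 10), (60, 1), (63, 6), (70, 10), (71, 10), (72, 6), (73, 10), (74, 10), (75, 5)],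
  [(74, 1)],
  [(12, 1)],
  [(25, 1)],
  [(41, 1)]]

/-- data -/
def d2_8 : SMat := [
  [(0, 4), (2, 6), (3, 10), (4, 6), (5, 5), (7, 6), (8, 6), (9, 6), (10, 6), (11, 4), (12, 5), (13, 5), (14, 6), (15, 1), (16, 5), (17, 5), (18, 5), (19, 10), (20, 5), (21, 1), (22, 1), (23, 4), (24, 6), (25, 1), (26, 6), (27, 1), (28, 6), (29, 1), (31, 5), (32, 6), (33, 6), (34, 10), (35, 5), (36, 10), (41, 6), (42, 6), (44, 7), (45, 10), (46, 1), (47, 10), (49, 10), (51, 10), (52, 6), (53, 4), (55, 10), (59, 10), (61, 10), (62, 10), (63, 5), (64, 1), (65, 1), (66, 1), (67, 10), (68, 1), (70, 2), (72, 6), (75, 7), (76, 1)],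
  [(70, 1)],
  [(43, 1)],
  [(3, 10), (5, 1), (7, 10), (10, 1), (11, 10), (15, 1), (16, 10), (21, 1), (22, 1), (23, 10), (26, 1), (34, 10), (40, 1), (41, 1), (42, 10), (44, 1), (47, 10), (50, 10), (51, 10), (53, 10), (56, 1), (58, 1), (59, 10), (60, 10), (64, 1), (67, 10), (70, 1), (71, 1), (75, 1)],
  [(45, 1)],
  [(8, 1)],
  [(30, 1)],
  [(64, 1)]]

/-- data -/
def d2_9 : SMat := [
  [(63, 1)],
  [(61, 1)],
  [(27, 1)],
  [(58, 1)],
  [(0, 5), (1, 10), (2, 6), (3, 9), (4, 6), (5, 6), (6, 10), (7, 5), (8, 6), (9, 7), (10, 7), (11, 4), (12, 5), (13, 5), (14, 6), (15, 1), (16, 4), (17, 5), (18, 6), (19, 10), (20, 6), (21, 1), (22, 2), (23, 4), (24, 6), (26, 6), (28, 6), (29, 1), (30, 1), (31, 4), (32, 6), (33, 6), (34, 10), (35, 6), (36, 10), (39, 10), (40, 1), (41, 6), (42, 6), (43, 10), (44, 7), (45, 10), (47, 10), (49, 10), (50, 10), (51, 10), (52, 6), (53, 4), (54, 1), (55, 10), (57, 1), (59, 10), (60, 10),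 (61, 10), (62, 10), (63, 5), (64, 1), (65, 1), (67, 10), (68, 1), (69, 1), (70, 2), (71, 1), (72, 6), (75, 7), (76, 1)],
  [(77, 10), (79, 1), (82, 10), (83, 1), (85, 1), (87, 1), (88, 1), (89, 10), (90, 2), (91, 10), (93, 10), (94, 10), (95, 10), (96, 2), (97, 10), (98, 1), (99, 9)],
  [(78, 1)],
  [(86, 1)]]

/-- data -/
def d2_10 : SMat := [
  [(77, 3), (78, 2), (79, 9), (80, 9), (81, 10), (82, 2), (85, 8), (86, 7), (87, 9), (88, 7), (90, 9), (91, 2), (92, 8), (93, 9), (95, 10), (96, 9), (98, 7), (99, 4), (100, 2), (102, 2), (103, 9), (104, 1)],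
  [(83, 1)],
  [(77, 6), (78, 6), (79, 6), (81, 5), (82, 5), (83, 5), (84, 5), (85, 6), (88, 5), (89, 5), (90, 5), (91, 5), (93, 5), (94, 5), (95, 5), (97, 5)],
  [(77, 1), (78, 1), (79, 10), (80, 10), (85, 10), (86, 10), (87, 10), (88, 10), (95, 10), (96, 10), (98, 10), (101, 10), (102, 1), (103, 10)],
  [(101, 1)],
  [(100, 10)],
  [(99, 10)],
  [(77, 1), (78, 1), (79, 10), (80, 10), (81, 10), (85, 10), (86, 8), (87, 10), (88, 9), (89, 10), (91, 2), (92, 9), (93, 9), (94, 9), (95, 10), (96, 1), (97, 10), (98, 10), (99, 2), (100, 2), (101, 1), (103, 10), (104, 2)]]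

/-- data -/
def d2_11 : SMat := [
  [(77, 4), (78, 5), (79, 6), (80, 1), (81, 6), (82, 6), (83, 6), (84, 6), (85, 6), (86, 1), (87, 1), (88, 7), (89, 6), (90, 6), (91, 5), (92, 1), (93, 7), (94, 6), (95, 6), (97, 5), (98, 1), (99, 10), (100, 10), (103, 1), (104, 10)],
  [(77, 8), (78, 7), (79, 4), (80, 10), (81, 4), (82, 7), (83, 5), (84, 6), (85, 3), (86, 7), (87, 9), (88, 2), (89, 5), (90, 4), (91, 8), (92, 8), (93, 3), (94, 4), (95, 5), (97, 5), (98, 8), (99, 4), (100, 2), (101, 1), (102, 1), (103, 9), (104, 2)],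
  [(93, 10)],
  [(91, 1)],
  [(82, 10)],
  [(77, 3), (78, 4), (79, 7), (80, 1), (81, 7), (82, 4), (83, 6), (84, 5), (85, 8), (86, 4), (87, 2), (88, 9), (89, 5), (90, 8), (91, 3), (92, 3), (93, 7), (94, 6), (95, 6), (96, 2), (97, 6), (98, 3), (99, 7), (100, 9), (101, 10), (102, 10), (103, 2), (104, 10)],
  [(89, 1)],
  [(77, 9), (78, 10), (79, 2), (80, 1), (82, 9), (85, 2), (86, 2), (87, 2), (88, 2), (89, 10), (90, 2), (91, 9), (92, 1), (96, 2), (98, 2), (99, 8), (102, 9), (103, 1)]]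

/-- data -/
def d2_12 : SMat := [
  [(96, 1)],
  [(77, 1), (78, 1), (79, 10), (80, 10), (82, 1), (85, 10), (86, 10), (87, 10), (88, 10), (90, 10), (91, 1), (96, 10), (98, 10), (99, 2), (102, 1), (103, 10)],
  [(85, 1)],
  [(79, 10)],
  [(98, 10)],
  [(77, 3), (78, 4), (79, 7), (80, 1), (81, 7), (82, 5), (83, 7), (84, 6), (85, 7), (86, 3), (87, 1), (88, 9), (89, 7), (90, 7), (91, 4), (92, 3), (93, 8), (94, 7), (95, 7), (97, 6), (98, 3), (99, 8), (100, 8), (101, 10), (103, 2), (104, 9)],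
  [(77, 10), (78, 10), (81, 1), (82, 1), (83, 1), (84, 1), (88, 1), (89, 1), (91, 1), (93, 1), (94, 1), (95, 1), (100, 10), (103, 1)],
  [(88, 1)]]

/-- data -/
def d2_13 : SMat := [
  [(104, 1)],
  [(115, 10)],
  [(107, 10)],
  [(112, 1)],
  [(108, 1)],
  [(105, 8), (106, 7), (107, 4), (108, 10), (109, 4), (110, 7), (111, 5), (112, 6), (113, 3), (114, 7), (115, 9), (116, 2), (117, 5), (118, 4), (119, 8), (120, 8), (121, 3), (122, 4), (123, 5), (125, 5), (126, 8), (127, 4), (128, 2), (129, 1), (130, 1), (131, 9), (132, 2)],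
  [(105, 10)],
  [(111, 1)]]

/-- data -/
def d2_14 : SMat := [
  [(106, 10)],
  [(105, 8), (106, 9), (107, 1), (108, 1), (109, 2), (110, 10), (111, 1), (113, 2), (114, 4), (115, 1), (116, 4), (117, 1), (118, 2), (119, 9), (120, 4), (121, 3), (122, 2), (123, 1), (125, 1), (126, 3), (127, 7), (128, 7), (129, 9), (131, 2), (132, 9)],
  [(105, 5), (106, 5), (107, 6), (109, 5), (110, 4), (111, 6), (112, 5), (113, 7), (115, 1), (116, 6), (117, 4), (118, 7), (119, 5), (121, 5), (122, 4), (123, 5), (124, 2), (125, 5), (126, 1), (127, 10), (128, 1), (129, 1), (130, 10), (132, 1)],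
  [(110, 1)],
  [(122, 1)],
  [(105, 3), (106, 4), (107, 7), (108, 1), (109, 7), (110, 4), (111, 6), (112, 5), (113, 8), (114, 4), (115, 2), (116, 9), (117, 5), (118, 8), (119, 3), (120, 3), (121, 7), (122, 6), (123, 6), (124, 2), (125, 6), (126, 3), (127, 7), (128, 9), (129, 10), (130, 10), (131, 2), (132, 10)],
  [(105, 8), (106, 9), (107, 2), (108, 2), (109, 1), (110, 9), (113, 3), (114, 4), (115, 2), (116, 4), (118, 2), (119, 9), (120, 3), (121, 2), (123, 1), (124, 2), (126, 4), (127, 7), (128, 9), (130, 9), (131, 2), (132, 10)],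
  [(113, 1)]]

/-- data -/
def d2_15 : SMat := [
  [(129, 10)],
  [(105, 9), (106, 10), (107, 1), (108, 1), (109, 1), (111, 1), (112, 1), (113, 1), (114, 2), (115, 1), (116, 3), (117, 1), (118, 1), (119, 10), (120, 2), (121, 2), (122, 1), (123, 1), (126, 2), (127, 9), (128, 9), (131, 2), (132, 9)],
  [(105, 1), (107, 10), (110, 1), (111, 10), (113, 10), (115, 10), (116, 10), (117, 1), (118, 9), (119, 1), (121, 1), (122, 1), (123, 1), (124, 9), (125, 1), (126, 10), (127, 2)],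
  [(120, 10)],
  [(131, 1)],
  [(121, 10)],
  [(105, 8), (106, 7), (107, 4), (108, 10), (109, 4), (110, 7), (111, 4), (112, 5), (113, 3), (114, 9), (115, 9), (116, 2), (117, 6), (118, 3), (119, 7), (120, 9), (121, 4), (122, 5), (123, 5), (124, 9), (125, 6), (126, 8), (127, 4), (128, 2), (129, 1), (130, 1), (131, 9), (132, 1)],
  [(105, 10), (106, 10), (107, 1), (108, 1), (110, 10), (113, 1), (114, 2), (115, 1), (116, 2), (118, 1), (119, 10), (120, 2), (121, 1), (124, 1), (126, 2), (127, 9), (128, 10), (130, 10), (131, 1)]]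

/-- data -/
def d2_16 : SMat := [
  [(127, 1)],
  [(123, 1)],
  [(118, 1)],
  [(105, 1), (106, 1), (107, 10), (108, 10), (113, 10), (114, 9), (115, 10), (116, 10), (119, 1), (120, 10), (121, 10), (122, 10), (123, 10), (125, 10), (126, 10), (127, 1), (128, 1), (131, 10), (132, 1)],
  [(105, 5), (106, 5), (107, 5), (109, 6), (110, 6), (111, 6), (112, 6), (113, 5), (116, 6), (117, 6), (118, 6), (119, 6), (121, 6), (122, 6), (123, 6), (125, 6)]]

/-- data -/
def d2 : SMat := d2_0 ++ d2_1 ++ d2_2 ++ d2_3 ++ d2_4 ++ d2_5 ++ d2_6 ++ d2_7 ++ d2_8 ++ d2_9 ++ d2_10 ++ d2_11 ++ d2_12 ++ d2_13 ++ d2_14 ++ d2_15 ++ d2_16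

/-- data -/
def d3_0 : SMat := [
  [(4, 1)],
  [(0, 6), (1, 10), (2, 5), (4, 5), (5, 6), (7, 5), (8, 5), (9, 5), (10, 6), (11, 6), (12, 5), (13, 6), (14, 5), (16, 5), (17, 5), (18, 6), (19, 1), (20, 6), (23, 5), (24, 5), (26, 5), (27, 10), (28, 5), (31, 5), (32, 6), (33, 5), (35, 5), (38, 1), (40, 1), (41, 6), (42, 5), (44, 6), (47, 10), (50, 10), (52, 5), (53, 6), (54, 1), (60, 10), (62, 1), (63, 6), (66, 10), (68, 10), (70, 10), (72, 5), (73, 10), (74, 10), (75, 5)],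
  [(16, 1)],
  [(0, 5), (1, 10), (2, 6), (3, 7), (4, 6), (5, 6), (6, 10), (7, 4), (8, 7), (9, 8), (10, 8), (11, 1), (12, 4), (13, 4), (14, 7), (15, 3), (16, 3), (17, 5), (18, 6), (19, 9), (20, 6), (21, 3), (22, 5), (23, 2), (24, 6), (26, 8), (27, 1), (28, 7), (29, 2), (30, 2), (31, 3), (32, 5), (33, 7), (34, 9), (35, 6), (36, 9), (39, 9), (40, 2), (41, 7), (42, 5), (43, 9), (44, 9), (45, 9), (47, 9), (48, 1), (49, 10), (50, 9), (51, 9), (52, 6), (53, 2), (54, 1), (55, 10), (56, 1), (57, 1), (58, 1), (59, 8), (60, 9), (61, 10), (62, 9), (63, 5), (64, 3), (65, 2), (66, 1), (67, 8), (68, 3), (69, 1), (70, 4), (71, 3), (72, 7), (73, 1), (74, 1), (75, 9), (76, 2)],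
  [(11, 1)],
  [(20, 1)],
  [(1, 1)],
  [(7, 1)]]

/-- data -/
def d3_1 : SMat := [
  [(46, 1)],
  [(34, 1)],
  [(48, 1)],
  [(0, 1)],
  [(61, 1)],
  [(44, 1)],
  [(8, 1)],
  [(52, 1)]]

/-- data -/
def d3_2 : SMat := [
  [(31, 1)],
  [(24, 1)],
  [(55, 1)],
  [(5, 1)],
  [(19, 1)],
  [(29, 1)],
  [(1, 1), (2, 1), (3, 10), (9, 1), (11, 10), (13, 10), (14, 1), (15, 1), (19, 10), (20, 10), (22, 1), (26, 1), (27, 1), (28, 1), (32, 10), (34, 10), (36, 10), (37, 1), (39, 10), (53, 10), (54, 10), (59, 10), (62, 10), (63, 10), (68, 1), (70, 1), (73, 1), (74, 1), (75, 1)],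
  [(23, 1)]]

/-- data -/
def d3_3 : SMat := [
  [(51, 1)],
  [(13, 1)],
  [(66, 1)],
  [(60, 1)],
  [(27, 1)],
  [(41, 1)],
  [(76, 1)],
  [(2, 1)]]

/-- data -/
def d3_4 : SMat := [
  [(38, 1)],
  [(0, 5), (2, 5), (3, 1), (4, 5), (5, 5), (7, 6), (8, 5), (9, 5), (10, 5), (11, 6), (12, 5), (13, 6), (14, 5), (15, 10), (16, 6), (17, 5), (18, 5), (20, 6), (22, 10), (23, 6), (24, 5), (26, 5), (28, 5), (31, 5), (32, 6), (33, 5), (34, 1), (35, 5), (37, 10), (38, 1), (39, 1), (40, 10), (41, 5), (42, 6), (44, 5), (52, 6), (53, 6), (56, 10), (57, 10), (60, 1), (63, 6), (70, 10), (71, 10), (72, 6), (73, 10), (74, 10), (75, 5)],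
  [(0, 1), (1, 1), (3, 4), (4, 10), (7, 1), (8, 10), (9, 9), (10, 8), (11, 4), (12, 1), (13, 2), (14, 10), (15, 8), (16, 2), (18, 10), (19, 1), (21, 9), (22, 7), (23, 3), (24, 10), (26, 9), (27, 10), (28, 9), (29, 9), (30, 10), (31, 2), (33, 9), (34, 2), (36, 2), (37, 10), (39, 1), (40, 9), (41, 9), (43, 1), (44, 7), (45, 2), (46, 10), (47, 3), (48, 10), (49, 2), (50, 1), (51, 2), (53, 3), (54, 10), (55, 1), (56, 10), (57, 10), (58, 10), (59, 2), (60, 2), (61, 1), (62, 2), (64, 8), (65, 9), (66, 10), (67, 3), (68, 8), (69, 10), (70, 7), (71, 8), (72, 10), (73, 10), (74, 10), (75, 7), (76, 8)],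
  [(18, 1)],
  [(10, 1)],
  [(47, 1)],
  [(72, 1)],
  [(1, 1), (4, 1), (10, 10), (12, 1), (13, 10), (16, 1), (17, 1), (20, 10), (21, 10), (23, 1), (27, 1), (29, 10), (30, 10), (31, 1), (32, 10), (37, 1), (38, 10), (40, 10), (44, 10), (47, 1), (50, 1), (54, 10), (55, 1), (63, 10), (64, 10), (65, 10), (67, 1), (73, 1), (74, 1)]]

/-- data -/
def d3_5 : SMat := [
  [(22, 1)],
  [(21, 1)],
  [(53, 1)],
  [(26, 1)],
  [(25, 1)],
  [(68, 1)],
  [(14, 1)],
  [(59, 1)]]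

/-- data -/
def d3_6 : SMat := [
  [(36, 1)],
  [(58, 1)],
  [(45, 1)],
  [(17, 1)],
  [(63, 1)],
  [(0, 4), (2, 6), (3, 8), (4, 6), (5, 5), (7, 5), (8, 6), (9, 7), (10, 7), (11, 3), (12, 5), (13, 4), (14, 7), (15, 2), (16, 5), (17, 5), (18, 6), (19, 10), (20, 5), (21, 1), (22, 3), (23, 3), (24, 6), (25, 1), (26, 7), (27, 1), (28, 7), (29, 2), (31, 4), (32, 5), (33, 7), (34, 9), (35, 5), (36, 9), (37, 1), (39, 10), (40, 1), (41, 7), (42, 6), (44, 8), (45, 9), (46, 1), (47, 9), (48, 1), (49, 10), (51, 10), (52, 6), (53, 3), (55, 10), (56, 1), (57, 1), (59, 9), (60, 10), (61, 10), (62, 9), (63, 5), (64, 2), (65, 2), (66, 1), (67, 9), (68, 2), (70, 3), (71, 1), (72, 6), (73, 1), (74, 1), (75, 9), (76, 2)],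
  [(54, 1)],
  [(35, 1)]]

/-- data -/
def d3_7 : SMat := [
  [(56, 1)],
  [(62, 1)],
  [(75, 1)],
  [(37, 1)],
  [(28, 1)],
  [(73, 1)],
  [(0, 6), (1, 10), (2, 5), (3, 2), (4, 4), (5, 5), (6, 1), (7, 6), (8, 5), (9, 4), (10, 5), (11, 8), (12, 6), (13, 7), (14, 4), (15, 9), (16, 6), (17, 5), (18, 6), (19, 1), (20, 6), (21, 10), (22, 8), (23, 7), (24, 5), (25, 10), (26, 4), (27, 10), (28, 5), (29, 10), (31, 6), (32, 7), (33, 4), (34, 2), (35, 5), (36, 1), (37, 10), (38, 1), (39, 1), (41, 5), (42, 5), (43, 1), (44, 4), (45, 2), (48, 10), (49, 1), (51, 1), (52, 5), (53, 8), (56, 10), (57, 10), (59, 2), (60, 1), (61, 1), (62, 2), (63, 7), (64, 10), (66, 10), (67, 1), (68, 9), (70, 8), (71, 10), (72, 4), (73, 9), (74, 10), (75, 3), (76, 10)],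
  [(15, 1)]]

/-- data -/
def d3_8 : SMat := [
  [(64, 1)],
  [(0, 5), (1, 10), (2, 6), (3, 9), (4, 6), (5, 6), (6, 10), (7, 5), (8, 6), (9, 7), (10, 7), (11, 4), (12, 5), (13, 5), (14, 6), (15, 1), (16, 4), (17, 5), (18, 6), (19, 10), (20, 6), (21, 1), (22, 2), (23, 4), (24, 6), (26, 6), (28, 6), (29, 1), (30, 1), (31, 4), (32, 6), (33, 6), (34, 10), (35, 6), (36, 10), (39, 10), (40, 1), (41, 6), (42, 6), (43, 10), (44, 7), (45, 10), (47, 10), (49, 10), (50, 10), (51, 10), (52, 6), (53, 4), (54, 1), (55, 10), (57, 1), (59, 10), (60, 10), (61, 10), (62, 10), (63, 5), (64, 1), (65, 1), (67, 10), (68, 1), (69, 1), (70, 2), (71, 1), (72, 6), (75, 7), (76, 1)],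
  [(43, 1)],
  [(69, 1)],
  [(50, 1)],
  [(3, 10), (5, 1), (7, 10), (10, 1), (11, 10), (15, 1), (16, 10), (21, 1), (22, 1), (23, 10), (26, 1), (34, 10), (40, 1), (41, 1), (42, 10), (44, 1), (47, 10), (50, 10), (51, 10), (53, 10), (56, 1), (58, 1), (59, 10), (60, 10), (64, 1), (67, 10), (70, 1), (71, 1), (75, 1)],
  [(65, 1)],
  [(1, 10), (3, 9), (6, 10), (8, 1), (9, 1), (10, 1), (11, 9), (12, 10), (14, 1), (15, 1), (16, 10), (19, 10), (21, 1), (22, 2), (23, 9), (26, 1), (28, 1), (29, 1), (30, 1), (31, 10), (33, 1), (34, 10), (36, 10), (39, 10), (40, 1), (41, 1), (43, 10), (44, 2), (45, 10), (47, 10), (49, 10), (50, 10), (51, 10), (53, 10), (54, 1), (55, 10), (57, 1), (59, 10), (60, 10), (61, 10), (62, 10), (64, 1), (65, 1), (67, 10), (68, 1), (69, 1), (70, 2), (71, 1), (72, 1), (75, 1), (76, 1)]]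

/-- data -/
def d3_9 : SMat := [
  [(32, 1)],
  [(12, 1)],
  [(74, 1)],
  [(49, 1)],
  [(0, 1), (1, 10), (6, 1), (7, 10), (9, 10), (10, 1), (14, 10), (18, 1), (19, 1), (20, 1), (25, 10), (27, 10), (40, 1), (42, 10), (44, 1), (47, 10), (50, 10), (52, 10), (56, 1), (58, 1), (59, 1), (60, 10), (61, 1), (62, 1), (63, 1), (67, 10), (70, 10), (71, 1), (72, 10)],
  [(77, 6), (78, 1), (79, 1), (80, 9), (81, 1), (82, 8), (83, 5), (84, 1), (85, 3), (86, 3), (87, 2), (88, 1), (89, 4), (90, 5), (91, 1), (92, 7), (93, 6), (94, 6), (95, 8), (96, 8), (97, 6), (98, 2), (99, 7), (100, 2), (104, 2), (105, 5), (106, 2), (107, 9), (108, 8), (110, 2), (111, 5), (112, 10), (113, 2), (114, 9), (115, 8), (116, 10), (117, 3), (119, 9), (120, 5), (122, 7), (123, 3), (124, 6), (125, 10), (126, 9), (127, 7), (128, 6), (129, 3), (130, 7), (131, 1), (132, 3)],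
  [(77, 3), (78, 1), (79, 1), (80, 9), (81, 4), (82, 1), (83, 1), (84, 10), (85, 8), (86, 3), (87, 9), (88, 6), (89, 8), (90, 3), (91, 1), (92, 3), (93, 2), (94, 6), (95, 6), (96, 4), (97, 6), (98, 3), (99, 2), (100, 6), (101, 2), (102, 2), (103, 7), (104, 4), (105, 7), (106, 8), (107, 5), (108, 10), (109, 10), (110, 6), (111, 8), (113, 4), (114, 10), (115, 9), (116, 1), (117, 9), (118, 9), (119, 2), (120, 6), (121, 5), (122, 4), (123, 6), (124, 3), (125, 2), (126, 8), (127, 6), (128, 2), (129, 5), (130, 3), (131, 7), (132, 8)],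
  [(77, 2), (78, 8), (79, 7), (80, 6), (81, 3), (82, 8), (83, 1), (84, 1), (85, 5), (86, 6), (87, 4), (88, 7), (89, 10), (90, 5), (91, 6), (92, 6), (93, 3), (94, 1), (95, 1), (96, 4), (97, 10), (98, 6), (99, 3), (100, 3), (101, 9), (102, 9), (103, 4), (104, 9), (105, 4), (106, 10), (107, 7), (108, 4), (109, 1), (110, 4), (111, 10), (112, 8), (114, 10), (115, 8), (117, 8), (118, 9), (120, 8), (121, 5), (122, 1), (123, 1), (124, 6), (125, 1), (126, 8), (127, 8), (128, 9), (129, 7), (130, 7), (131, 2), (132, 7)]]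

/-- data -/
def d3_10 : SMat := [
  [(77, 7), (78, 5), (79, 6), (80, 1), (81, 8), (82, 5), (83, 5), (84, 1), (85, 4), (86, 10), (87, 7), (89, 8), (90, 8), (91, 7), (92, 1), (93, 4), (94, 6), (95, 8), (97, 8), (98, 1), (99, 1), (100, 8), (101, 4), (102, 4), (103, 5), (104, 6), (107, 4), (109, 7), (110, 3), (112, 7), (113, 8), (115, 8), (117, 3), (118, 4), (119, 7), (120, 7), (121, 7), (122, 7), (123, 7), (124, 8), (125, 7), (126, 4), (127, 3), (128, 6), (129, 2), (130, 7), (132, 4)],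
  [(77, 7), (78, 5), (79, 6), (81, 8), (82, 5), (83, 6), (84, 1), (85, 4), (86, 10), (87, 7), (89, 8), (90, 8), (91, 7), (92, 1), (93, 4), (94, 6), (95, 8), (97, 8), (98, 1), (99, 1), (100, 8), (101, 4), (102, 4), (103, 5), (104, 6), (107, 4), (109, 7), (110, 3), (112, 7), (113, 8), (115, 8), (117, 3), (118, 4), (119, 7), (120, 7), (121, 7), (122, 7), (123, 7), (124, 8), (125, 7), (126, 4), (127, 3), (128, 6), (129, 2), (130, 7), (132, 4)],
  [(77, 8), (78, 10), (79, 3), (80, 2), (81, 10), (82, 2), (83, 1), (84, 10), (85, 9), (86, 2), (87, 4), (88, 3), (89, 10), (90, 3), (91, 8), (92, 2), (93, 1), (94, 8), (95, 10), (96, 4), (97, 8), (98, 6), (99, 5), (101, 2), (102, 9), (103, 2), (105, 6), (106, 3), (107, 8), (108, 4), (109, 1), (110, 3), (111, 8), (113, 1), (114, 9), (115, 1), (116, 2), (117, 2), (118, 5), (119, 10), (120, 9), (121, 1), (122, 8), (123, 4), (124, 6), (126, 9), (127, 9), (128, 6), (129, 3), (130,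 7), (131, 1), (132, 10)],
  [(77, 1), (78, 10), (79, 8), (80, 7), (81, 1), (82, 10), (83, 5), (84, 10), (85, 10), (87, 9), (88, 10), (89, 10), (90, 3), (91, 1), (92, 2), (93, 1), (94, 1), (95, 8), (96, 9), (97, 1), (98, 9), (99, 7), (100, 9), (101, 7), (102, 4), (103, 9), (104, 9), (105, 9), (106, 9), (107, 4), (108, 2), (109, 9), (110, 7), (111, 9), (113, 2), (115, 4), (117, 9), (118, 4), (119, 7), (122, 7), (123, 7), (124, 6), (125, 9), (126, 6), (127, 5), (128, 4), (130, 7), (131, 2), (132, 2)],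
  [(77, 3), (78, 5), (79, 2), (80, 4), (81, 4), (82, 5), (83, 2), (84, 9), (85, 10), (86, 6), (87, 8), (88, 8), (89, 7), (90, 6), (91, 9), (92, 2), (95, 2), (96, 10), (97, 9), (98, 8), (99, 1), (100, 9), (101, 9), (102, 3), (103, 6), (104, 2), (105, 8), (106, 6), (107, 10), (108, 2), (109, 3), (110, 7), (111, 3), (112, 3), (113, 10), (114, 4), (115, 2), (116, 1), (117, 3), (118, 8), (119, 1), (121, 5), (122, 3), (123, 7), (124, 7), (125, 3), (127, 2), (128, 9), (130, 2), (131, 2), (132, 7)],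
  [(77, 10), (78, 8), (79, 1), (81, 10), (82, 8), (83, 1), (84, 10), (85, 5), (88, 1), (89, 10), (90, 3), (91, 10), (92, 2), (93, 10), (94, 8), (95, 10), (96, 6), (97, 10), (98, 2), (99, 9), (100, 7), (105, 7), (106, 7), (107, 4), (108, 2), (109, 4), (110, 2), (111, 2), (112, 2), (113, 2), (114, 4), (115, 4), (116, 2), (119, 9), (121, 2), (122, 2), (123, 4), (125, 9), (126, 2), (127, 9), (128, 9), (129, 2), (130, 7), (131, 2), (132, 9)],
  [(77, 8), (78, 10), (79, 10), (80, 2), (81, 1), (82, 6), (83, 10), (84, 10), (85, 5), (86, 6), (87, 4), (88, 3), (89, 8), (90, 3), (91, 10), (92, 2), (93, 10), (94, 10), (95, 10), (96, 4), (97, 10), (98, 4), (99, 3), (102, 7), (103, 2), (104, 9), (106, 8), (107, 3), (108, 1), (109, 10), (110, 8), (111, 8), (112, 2), (114, 4), (115, 5), (116, 8), (117, 9), (119, 4), (120, 9), (121, 3), (122, 2), (123, 6), (124, 5), (125, 2), (126, 6), (127, 1), (128, 6), (129, 7), (130, 3), (131,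 5), (132, 3)],
  [(77, 9), (78, 9), (79, 4), (80, 2), (85, 2), (86, 6), (87, 2), (88, 2), (91, 3), (92, 2), (93, 2), (95, 2), (97, 4), (98, 2), (99, 7), (101, 9), (102, 2), (103, 2), (104, 7), (106, 4), (107, 9), (108, 9), (110, 5), (111, 2), (112, 9), (113, 2), (115, 9), (116, 9), (117, 7), (118, 4), (119, 9), (121, 9), (122, 5), (123, 9), (124, 2), (125, 9), (126, 2), (127, 7), (128, 2), (129, 9)]]

/-- data -/
def d3_11 : SMat := [
  [(77, 9), (80, 2), (81, 2), (82, 6), (83, 2), (84, 4), (85, 9), (86, 2), (88, 6), (89, 6), (90, 7), (92, 4), (93, 8), (94, 6), (95, 4), (96, 3), (99, 2), (100, 5), (102, 4), (104, 1), (105, 5), (106, 3), (107, 8), (108, 9), (109, 8), (110, 3), (111, 8), (112, 8), (113, 4), (114, 5), (115, 9), (116, 2), (117, 8), (118, 8), (119, 3), (120, 5), (121, 2), (122, 8), (123, 8), (125, 3), (126, 1), (127, 6), (128, 6), (130, 4), (131, 5), (132, 6)],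
  [(77, 7), (78, 5), (79, 8), (80, 7), (81, 6), (82, 3), (83, 10), (84, 1), (85, 4), (86, 10), (87, 7), (89, 10), (90, 8), (91, 5), (92, 1), (93, 2), (94, 2), (95, 8), (96, 4), (97, 10), (98, 3), (99, 10), (100, 8), (101, 2), (102, 2), (103, 5), (104, 4), (105, 2), (106, 2), (108, 2), (112, 4), (114, 5), (115, 9), (116, 9), (118, 9), (119, 4), (120, 7), (121, 7), (122, 7), (123, 9), (124, 2), (125, 5), (126, 9), (128, 2), (129, 2), (130, 9)],
  [(77, 6), (78, 10), (79, 1), (81, 1), (82, 8), (83, 1), (84, 10), (85, 3), (87, 2), (88, 1), (89, 8), (90, 3), (91, 10), (92, 7), (93, 10), (94, 8), (95, 10), (96, 8), (97, 10), (98, 2), (99, 7), (100, 2), (102, 9), (103, 4), (104, 2), (105, 2), (106, 6), (107, 7), (108, 4), (109, 5), (110, 8), (111, 5), (112, 1), (113, 7), (114, 1), (115, 4), (116, 2), (117, 5), (118, 5), (119, 6), (120, 6), (121, 7), (122, 9), (123, 7), (124, 2), (125, 3), (126, 8), (127, 1), (128, 1),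 (129, 9), (130, 9), (131, 6), (132, 5)],
  [(77, 8), (78, 10), (79, 9), (80, 2), (81, 1), (82, 6), (83, 10), (84, 10), (85, 5), (86, 6), (87, 4), (88, 3), (89, 8), (90, 3), (92, 2), (93, 10), (94, 10), (95, 10), (96, 4), (97, 10), (98, 4), (99, 3), (102, 7), (103, 2), (104, 9), (106, 8), (107, 3), (108, 1), (109, 10), (110, 8), (111, 8), (112, 2), (114, 4), (115, 5), (116, 8), (117, 9), (119, 4), (120, 9), (121, 3), (122, 2), (123, 6), (124, 5), (125, 2), (126, 6), (127, 1), (128, 6), (129, 7), (130, 3), (131, 5), (132, 3)],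
  [(77, 7), (78, 3), (79, 8), (80, 7), (81, 8), (82, 8), (83, 8), (84, 8), (85, 8), (86, 3), (87, 7), (89, 8), (90, 8), (91, 1), (92, 7), (93, 4), (94, 8), (95, 8), (97, 1), (98, 3), (99, 8), (100, 6), (103, 5), (104, 8), (105, 9), (106, 7), (107, 4), (108, 7), (109, 4), (111, 1), (112, 3), (114, 6), (115, 3), (116, 7), (117, 3), (118, 2), (119, 2), (120, 8), (121, 4), (122, 6), (123, 8), (124, 9), (125, 6), (126, 10), (127, 7), (128, 10), (129, 6), (130, 4), (131, 7), (132, 6)],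
  [(77, 4), (78, 2), (79, 7), (80, 9), (81, 9), (82, 10), (83, 2), (84, 2), (85, 3), (86, 10), (87, 1), (88, 3), (89, 6), (90, 5), (91, 1), (92, 1), (93, 7), (94, 2), (95, 2), (96, 3), (97, 9), (98, 1), (99, 3), (100, 2), (101, 4), (102, 4), (103, 9), (104, 2), (105, 6), (106, 6), (107, 9), (108, 9), (109, 9), (110, 2), (111, 7), (113, 5), (114, 5), (115, 3), (116, 5), (117, 2), (118, 5), (119, 2), (120, 7), (121, 9), (122, 4), (124, 1), (125, 2), (126, 3), (127, 6), (128, 2), (129, 7), (130, 4), (131, 5), (132, 9)],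
  [(77, 4), (78, 10), (79, 1), (81, 3), (82, 1), (83, 3), (84, 1), (85, 1), (86, 4), (87, 2), (88, 5), (89, 1), (90, 5), (91, 6), (92, 6), (93, 5), (94, 7), (95, 10), (96, 9), (97, 1), (98, 4), (99, 1), (100, 5), (101, 5), (102, 2), (103, 2), (104, 7), (106, 6), (107, 7), (108, 6), (109, 3), (110, 10), (111, 5), (112, 3), (113, 7), (114, 10), (115, 6), (116, 4), (117, 1), (118, 7), (119, 10), (120, 8), (121, 7), (122, 3), (123, 3), (124, 4), (125, 10), (126, 10), (127, 1), (128, 3), (129, 2), (130, 5), (131, 10), (132, 7)],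
  [(77, 5), (78, 7), (79, 8), (80, 4), (81, 7), (82, 8), (83, 9), (84, 7), (85, 1), (86, 8), (87, 1), (88, 10), (89, 10), (90, 1), (91, 1), (92, 4), (93, 7), (94, 3), (95, 5), (96, 5), (98, 10), (99, 8), (100, 6), (101, 4), (102, 10), (103, 2), (104, 6), (105, 8), (106, 6), (107, 5), (108, 5), (109, 7), (110, 1), (112, 4), (113, 10), (114, 10), (115, 10), (116, 10), (117, 6), (118, 10), (119, 8), (120, 5), (121, 7), (122, 4), (124, 10), (126, 10), (127, 7), (130, 1), (131, 5)]]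

/-- data -/
def d3_12 : SMat := [
  [(77, 7), (78, 5), (79, 8), (80, 7), (81, 6), (82, 3), (83, 10), (84, 1), (85, 4), (86, 10), (87, 7), (89, 10), (90, 8), (91, 5), (92, 1), (93, 2), (94, 1), (95, 8), (96, 5), (97, 10), (98, 3), (99, 10), (100, 8), (101, 2), (102, 2), (103, 5), (104, 4), (105, 2), (106, 2), (108, 2), (112, 4), (114, 5), (115, 9), (116, 9), (118, 9), (119, 4), (120, 7), (121, 7), (122, 7), (123, 9), (124, 2), (125, 5), (126, 9), (128, 2), (129, 2), (130, 9)],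
  [(77, 3), (78, 10), (79, 1), (80, 9), (81, 10), (82, 5), (83, 1), (84, 1), (85, 6), (86, 5), (87, 7), (88, 6), (89, 3), (90, 8), (91, 3), (92, 3), (93, 10), (94, 1), (95, 3), (96, 7), (97, 10), (98, 5), (99, 6), (100, 2), (102, 4), (103, 9), (105, 4), (106, 2), (107, 7), (108, 9), (110, 4), (111, 9), (113, 7), (114, 7), (116, 5), (117, 2), (118, 7), (120, 9), (124, 7), (126, 7), (127, 2), (130, 4), (131, 7), (132, 7)],
  [(77, 8), (78, 10), (79, 3), (80, 2), (81, 10), (82, 1), (83, 1), (84, 10), (85, 10), (86, 2), (87, 4), (88, 3), (89, 10), (90, 3), (91, 8), (92, 2), (93, 1), (94, 8), (95, 10), (96, 4), (97, 8), (98, 6), (99, 5), (101, 2), (102, 9), (103, 2), (105, 6), (106, 3), (107, 8), (108, 4), (109, 1), (110, 3), (111, 8), (113, 1), (114, 9), (115, 1), (116, 2), (117, 2), (118, 5), (119, 10), (120, 9), (121, 1), (122, 8), (123, 4), (124, 6), (126, 9), (127, 9), (128, 6), (129, 3), (130, 7), (131, 1), (132,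 10)],
  [(77, 6), (78, 2), (79, 1), (80, 9), (82, 3), (84, 4), (85, 8), (86, 5), (87, 1), (88, 1), (89, 8), (90, 10), (91, 10), (92, 7), (93, 4), (94, 8), (95, 4), (96, 8), (97, 4), (98, 1), (99, 3), (100, 7), (101, 9), (102, 10), (103, 9), (104, 7), (105, 8), (106, 6), (108, 7), (109, 5), (111, 9), (112, 9), (113, 7), (114, 1), (115, 9), (116, 8), (117, 7), (118, 7), (119, 4), (120, 8), (121, 10), (122, 5), (123, 9), (124, 4), (125, 9), (126, 10), (127, 10), (128, 3), (129, 4), (130, 9), (131, 3), (132, 8)],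
  [(86, 9), (87, 2), (88, 9), (92, 2), (98, 9), (100, 9), (101, 2), (102, 9), (105, 8), (106, 4), (107, 7), (108, 9), (109, 7), (110, 10), (111, 2), (112, 6), (113, 10), (114, 8), (115, 5), (116, 1), (117, 4), (118, 5), (119, 10), (120, 10), (121, 5), (122, 2), (124, 5), (126, 1), (127, 1), (128, 4), (129, 2), (130, 8), (131, 7)],
  [(77, 8), (78, 6), (79, 7), (80, 7), (81, 5), (83, 5), (84, 5), (85, 7), (86, 1), (87, 5), (88, 10), (89, 5), (91, 4), (92, 1), (93, 1), (94, 5), (95, 5), (96, 2), (97, 9), (98, 1), (99, 8), (100, 1), (102, 2), (103, 3), (104, 8), (105, 2), (106, 2), (107, 7), (109, 9), (110, 4), (111, 9), (112, 9), (113, 9), (114, 5), (115, 9), (116, 9), (117, 9), (118, 9), (119, 6), (120, 7), (121, 9), (122, 9), (123, 9), (125, 9), (126, 7), (127, 6), (128, 2), (129, 4), (132, 6)],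
  [(77, 6), (78, 4), (80, 9), (81, 5), (83, 5), (84, 5), (85, 9), (87, 2), (88, 5), (89, 5), (91, 7), (92, 9), (93, 3), (94, 5), (95, 7), (96, 2), (97, 2), (98, 7), (99, 4), (100, 6), (101, 4), (102, 9), (103, 5), (104, 4), (105, 1), (106, 3), (107, 8), (108, 2), (109, 1), (110, 3), (111, 1), (112, 10), (113, 10), (114, 2), (115, 9), (116, 1), (117, 1), (118, 10), (119, 10), (121, 3), (122, 3), (123, 1), (124, 5), (125, 1), (126, 9), (127, 9), (128, 7), (129, 9), (130, 4), (131, 9), (132, 7)],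
  [(77, 10), (78, 6), (79, 3), (80, 5), (81, 9), (82, 6), (83, 9), (85, 1), (86, 1), (87, 1), (88, 10), (89, 2), (90, 3), (91, 6), (92, 7), (93, 9), (94, 2), (96, 1), (97, 2), (98, 10), (99, 10), (100, 9), (101, 7), (102, 8), (103, 7), (104, 2), (105, 2), (106, 9), (107, 7), (109, 2), (111, 9), (112, 9), (113, 9), (114, 8), (115, 7), (116, 2), (117, 6), (118, 5), (119, 9), (120, 8), (121, 6), (122, 6), (124, 3), (125, 6), (128, 3), (129, 7), (130, 4), (131, 9), (132, 7)]]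

/-- data -/
def d3_13 : SMat := [
  [(77, 5), (78, 9), (80, 2), (82, 9), (83, 4), (85, 4), (86, 4), (87, 2), (88, 8), (90, 8), (91, 9), (92, 4), (93, 2), (94, 7), (96, 6), (97, 9), (98, 4), (99, 3), (100, 7), (104, 9), (105, 7), (108, 2), (109, 2), (111, 2), (112, 9), (113, 4), (114, 1), (115, 2), (116, 10), (117, 2), (118, 2), (119, 5), (120, 1), (121, 10), (122, 6), (124, 5), (125, 2), (126, 6), (127, 3), (128, 3), (129, 5), (130, 2), (131, 2), (132, 3)],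
  [(77, 5), (78, 10), (79, 1), (80, 5), (81, 5), (82, 1), (83, 5), (84, 9), (85, 8), (86, 6), (87, 1), (88, 4), (89, 2), (90, 4), (91, 10), (92, 10), (93, 7), (94, 2), (95, 9), (96, 6), (98, 2), (99, 2), (100, 8), (102, 8), (103, 1), (105, 5), (106, 1), (107, 10), (108, 7), (109, 10), (110, 1), (111, 10), (112, 10), (113, 1), (114, 9), (115, 7), (116, 8), (117, 10), (118, 10), (119, 1), (120, 9), (121, 8), (122, 10), (123, 10), (125, 1), (127, 2), (128, 2), (130, 9), (131, 9), (132, 2)],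
  [(77, 10), (78, 8), (79, 10), (80, 2), (81, 3), (82, 1), (83, 3), (84, 5), (85, 1), (88, 3), (89, 3), (90, 1), (91, 10), (93, 3), (94, 1), (95, 10), (96, 9), (97, 10), (98, 2), (99, 7), (100, 7), (101, 9), (102, 9), (103, 4), (104, 9), (105, 6), (106, 10), (107, 8), (109, 5), (110, 1), (111, 10), (112, 3), (113, 1), (114, 4), (115, 2), (116, 5), (117, 3), (118, 1), (119, 1), (120, 2), (121, 5), (122, 5), (123, 3), (125, 1), (126, 2), (127, 7), (128, 7), (129, 9), (130, 9), (131, 4)],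
  [(77, 3), (78, 9), (79, 4), (80, 2), (81, 8), (82, 9), (83, 4), (84, 9), (85, 6), (86, 3), (87, 6), (88, 10), (89, 4), (90, 6), (91, 1), (92, 1), (93, 8), (94, 6), (95, 2), (96, 9), (98, 10), (99, 10), (100, 10), (101, 3), (102, 4), (103, 6), (104, 10), (105, 5), (106, 9), (107, 2), (108, 2), (109, 9), (110, 7), (112, 2), (113, 4), (114, 4), (115, 4), (116, 4), (117, 9), (118, 4), (119, 5), (120, 2), (121, 9), (122, 2), (124, 4), (126, 4), (127, 5), (130, 7), (131, 2)],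
  [(77, 4), (78, 2), (79, 5), (80, 4), (81, 5), (82, 1), (83, 3), (84, 5), (85, 3), (86, 8), (87, 4), (89, 5), (90, 1), (91, 1), (92, 8), (93, 9), (94, 7), (95, 5), (96, 2), (97, 1), (98, 8), (99, 5), (100, 3), (103, 10), (104, 7), (105, 7), (106, 5), (107, 6), (108, 5), (109, 10), (110, 5), (111, 10), (112, 1), (113, 4), (114, 5), (115, 5), (116, 6), (117, 10), (118, 10), (119, 3), (120, 5), (121, 6), (122, 8), (123, 6), (124, 9), (125, 10), (126, 3), (127, 4), (128, 4), (129, 9), (130, 4), (131, 5), (132, 4)],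
  [(77, 7), (78, 3), (79, 6), (80, 7), (81, 3), (82, 5), (83, 3), (84, 3), (85, 2), (86, 1), (87, 5), (88, 4), (89, 3), (90, 6), (91, 7), (92, 7), (93, 10), (94, 3), (95, 8), (96, 5), (97, 10), (98, 3), (99, 8), (100, 2), (101, 9), (102, 6), (103, 9), (104, 9), (105, 3), (106, 7), (107, 4), (108, 4), (109, 2), (110, 7), (111, 2), (112, 9), (113, 8), (114, 3), (115, 6), (116, 1), (117, 2), (118, 8), (119, 10), (120, 10), (121, 6), (122, 6), (123, 2), (124, 9), (125, 2), (126, 6), (127, 8), (128, 3), (129, 7), (130, 9), (131, 6), (132, 3)],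
  [(77, 1), (78, 9), (79, 6), (80, 2), (81, 4), (82, 10), (83, 4), (85, 10), (86, 10), (87, 10), (88, 3), (89, 7), (90, 5), (91, 10), (92, 8), (93, 4), (94, 7), (96, 10), (97, 7), (98, 3), (99, 2), (100, 5), (101, 9), (102, 5), (103, 8), (104, 7), (105, 1), (106, 10), (107, 3), (109, 1), (110, 5), (111, 10), (112, 10), (113, 10), (114, 4), (115, 9), (116, 1), (117, 3), (118, 8), (119, 10), (120, 4), (121, 3), (122, 3), (123, 5), (124, 7), (125, 3), (128, 7), (129, 9), (130, 2), (131, 4), (132, 9)],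
  [(77, 6), (78, 2), (79, 3), (80, 7), (81, 9), (82, 10), (83, 2), (84, 2), (85, 1), (86, 10), (87, 3), (88, 5), (89, 6), (90, 5), (91, 1), (92, 7), (93, 2), (94, 2), (95, 2), (96, 3), (97, 2), (98, 3), (99, 5), (102, 8), (103, 7), (104, 4), (106, 4), (107, 7), (108, 6), (109, 5), (110, 4), (111, 10), (112, 1), (114, 7), (115, 8), (116, 4), (117, 10), (119, 2), (120, 10), (121, 7), (122, 1), (123, 3), (124, 8), (125, 1), (126, 3), (127, 6), (128, 3), (129, 9), (130, 7), (131, 8), (132, 7)]]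

/-- data -/
def d3_14 : SMat := [
  [(77, 3), (78, 6), (79, 9), (80, 8), (81, 9), (82, 9), (83, 6), (84, 8), (85, 3), (86, 8), (87, 6), (89, 2), (90, 7), (91, 6), (92, 5), (93, 8), (94, 7), (96, 7), (97, 6), (98, 7), (99, 10), (100, 2), (101, 10), (102, 10), (103, 2), (104, 3), (106, 7), (107, 4), (108, 7), (109, 8), (110, 7), (111, 6), (112, 3), (113, 2), (114, 1), (115, 7), (116, 9), (117, 1), (118, 9), (119, 9), (120, 3), (121, 8), (122, 10), (123, 1), (124, 3), (125, 3), (126, 1), (127, 7), (128, 8), (129, 4), (130, 2), (131, 5), (132, 4)],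
  [(77, 7), (78, 7), (79, 6), (80, 7), (81, 8), (82, 1), (83, 3), (84, 1), (85, 4), (86, 10), (87, 7), (88, 6), (89, 8), (90, 1), (91, 3), (92, 3), (93, 4), (94, 8), (95, 8), (96, 2), (97, 8), (98, 3), (99, 6), (100, 4), (102, 4), (103, 7), (104, 4), (105, 5), (106, 7), (107, 10), (108, 7), (109, 8), (110, 1), (111, 1), (112, 1), (113, 6), (114, 10), (116, 4), (117, 4), (118, 10), (119, 1), (120, 3), (121, 4), (122, 4), (123, 8), (124, 4), (125, 8), (126, 7), (127, 6), (128, 8), (129, 4), (131, 7), (132, 4)],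
  [(77, 8), (78, 6), (79, 7), (80, 9), (81, 5), (82, 6), (83, 9), (84, 9), (85, 1), (86, 10), (87, 3), (88, 8), (89, 2), (90, 1), (91, 10), (92, 10), (93, 5), (94, 9), (95, 9), (96, 3), (97, 2), (98, 10), (99, 5), (100, 6), (101, 4), (102, 4), (103, 3), (104, 4), (105, 10), (106, 8), (107, 1), (108, 2), (109, 3), (110, 10), (111, 8), (112, 1), (113, 3), (114, 10), (115, 4), (116, 3), (117, 1), (118, 8), (119, 8), (120, 4), (121, 5), (122, 3), (123, 3), (124, 9), (125, 3), (126, 4), (127, 9), (128, 5), (129, 9), (130, 9), (131, 6), (132, 9)],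
  [(77, 10), (78, 1), (79, 10), (80, 2), (81, 10), (82, 5), (83, 1), (84, 1), (85, 10), (87, 7), (88, 10), (89, 3), (90, 8), (91, 1), (93, 10), (94, 1), (95, 1), (96, 7), (97, 3), (98, 9), (99, 4), (101, 2), (102, 2), (103, 2), (104, 9), (105, 2), (106, 9), (108, 9), (109, 9), (110, 2), (112, 9), (114, 9), (116, 9), (117, 7), (118, 2), (120, 9), (121, 7), (122, 9), (123, 9), (124, 6), (126, 9), (128, 4), (129, 4), (131, 9), (132, 2)],
  [(77, 6), (78, 4), (79, 5), (80, 6), (81, 3), (82, 8), (83, 1), (84, 10), (85, 9), (86, 1), (87, 8), (88, 9), (89, 10), (90, 3), (91, 2), (92, 8), (93, 3), (94, 3), (95, 5), (96, 2), (97, 3), (98, 8), (99, 1), (100, 7), (101, 7), (102, 7), (103, 4), (104, 7), (105, 6), (106, 4), (108, 7), (109, 9), (110, 4), (113, 5), (114, 3), (115, 7), (116, 7), (117, 4), (118, 7), (119, 4), (120, 5), (121, 7), (122, 9), (123, 9), (124, 7), (125, 9), (126, 5), (127, 8), (130, 4), (131, 7), (132,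 2)],
  [(77, 6), (78, 2), (79, 5), (80, 7), (81, 2), (82, 8), (83, 9), (84, 2), (85, 3), (86, 7), (87, 3), (88, 5), (89, 2), (90, 5), (91, 6), (92, 7), (93, 9), (94, 6), (95, 2), (96, 3), (97, 6), (98, 10), (99, 1), (101, 7), (102, 4), (103, 7), (105, 3), (106, 7), (107, 4), (108, 2), (109, 6), (110, 7), (111, 4), (113, 6), (114, 10), (115, 6), (116, 1), (117, 7), (118, 8), (119, 5), (120, 10), (121, 6), (122, 4), (123, 2), (124, 8), (126, 10), (127, 10), (128, 3), (129, 7), (130, 9), (131, 6), (132, 5)],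
  [(77, 10), (78, 3), (79, 10), (80, 9), (81, 3), (82, 3), (83, 10), (84, 1), (85, 6), (86, 2), (87, 7), (88, 1), (89, 7), (90, 8), (91, 1), (92, 4), (93, 5), (94, 5), (95, 10), (96, 1), (97, 1), (98, 7), (100, 7), (101, 7), (102, 4), (103, 2), (104, 5), (105, 9), (106, 5), (107, 4), (108, 5), (109, 1), (110, 9), (111, 1), (112, 1), (113, 4), (114, 10), (115, 5), (116, 9), (117, 1), (119, 7), (120, 1), (121, 6), (122, 1), (123, 10), (124, 3), (125, 1), (126, 1), (127, 3), (128, 6), (130, 4), (131, 5), (132, 2)],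
  [(77, 8), (78, 1), (79, 3), (80, 4), (81, 10), (82, 5), (83, 1), (84, 1), (85, 1), (86, 4), (88, 1), (89, 3), (90, 8), (91, 1), (93, 3), (94, 1), (95, 1), (96, 7), (97, 10), (99, 2), (100, 7), (101, 2), (102, 2), (103, 4), (104, 7), (105, 9), (106, 9), (107, 4), (108, 4), (109, 5), (110, 7), (111, 9), (113, 2), (114, 2), (115, 6), (116, 2), (117, 7), (118, 2), (119, 7), (120, 9), (121, 5), (122, 3), (124, 10), (125, 7), (126, 6), (127, 9), (128, 6), (129, 8), (130, 3), (131, 2), (132, 4)]]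

/-- data -/
def d3_15 : SMat := [
  [(77, 3), (78, 10), (79, 1), (80, 1), (81, 5), (82, 10), (84, 2), (85, 8), (86, 9), (87, 3), (89, 5), (90, 5), (91, 3), (92, 2), (93, 8), (94, 1), (95, 5), (97, 5), (98, 2), (99, 2), (100, 5), (101, 8), (102, 8), (103, 10), (104, 1), (107, 9), (109, 2), (110, 4), (112, 2), (113, 7), (115, 7), (117, 4), (118, 9), (119, 2), (120, 2), (121, 2), (122, 2), (123, 2), (124, 7), (125, 2), (126, 9), (127, 4), (128, 2), (129, 4), (130, 2), (132, 9)],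
  [(77, 2), (79, 5), (80, 7), (81, 2), (82, 4), (83, 9), (85, 7), (86, 9), (87, 5), (88, 7), (89, 6), (90, 7), (91, 2), (93, 2), (94, 4), (95, 9), (96, 5), (97, 2), (98, 9), (99, 4), (100, 7), (101, 7), (102, 4), (103, 7), (105, 2), (107, 9), (108, 9), (109, 9), (110, 7), (112, 9), (113, 2), (114, 7), (116, 9), (117, 7), (118, 2), (119, 9), (120, 9), (121, 5), (122, 9), (123, 9), (124, 4), (125, 2), (127, 9), (128, 2), (129, 7), (130, 9), (131, 9), (132, 4)],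
  [(78, 7), (79, 8), (80, 7), (81, 2), (82, 7), (83, 8), (84, 3), (86, 6), (87, 7), (88, 7), (89, 10), (90, 2), (91, 7), (92, 6), (93, 9), (94, 6), (95, 6), (96, 9), (97, 6), (98, 6), (99, 3), (100, 1), (101, 4), (102, 4), (103, 3), (104, 8), (105, 8), (106, 2), (107, 3), (110, 8), (111, 7), (113, 3), (114, 5), (115, 1), (116, 10), (117, 6), (118, 1), (119, 10), (120, 7), (121, 2), (122, 8), (123, 2), (124, 10), (125, 4), (126, 1), (127, 3), (129, 9), (130, 4), (131, 7), (132, 2)],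
  [(77, 4), (78, 4), (81, 3), (82, 7), (83, 7), (86, 5), (88, 3), (89, 3), (91, 2), (92, 5), (93, 5), (94, 1), (95, 7), (96, 6), (97, 5), (99, 6), (100, 10), (101, 6), (102, 5), (103, 7), (104, 6), (105, 10), (106, 1), (107, 8), (108, 9), (109, 3), (110, 5), (111, 1), (112, 1), (113, 8), (114, 9), (115, 7), (116, 8), (117, 5), (118, 6), (119, 3), (120, 7), (121, 3), (122, 5), (123, 10), (124, 3), (125, 3), (126, 7), (127, 4), (128, 9), (129, 9), (130, 4), (132, 5)],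
  [(77, 2), (78, 7), (79, 9), (81, 2), (82, 6), (83, 9), (84, 2), (88, 9), (89, 2), (90, 5), (91, 2), (92, 7), (93, 2), (94, 6), (95, 2), (96, 9), (97, 2), (98, 7), (99, 4), (100, 9), (105, 9), (106, 9), (107, 2), (108, 6), (109, 2), (110, 7), (111, 7), (112, 7), (113, 6), (114, 1), (115, 2), (116, 6), (119, 5), (120, 10), (121, 6), (122, 6), (123, 2), (125, 4), (126, 6), (127, 5), (128, 5), (129, 7), (130, 9), (131, 6), (132, 5)],
  [(78, 9), (79, 7), (80, 9), (81, 6), (82, 4), (83, 2), (84, 2), (87, 9), (88, 4), (89, 6), (90, 9), (92, 6), (93, 8), (94, 4), (96, 3), (98, 2), (99, 9), (100, 5), (101, 7), (102, 4), (103, 4), (104, 5), (105, 5), (106, 9), (107, 4), (108, 4), (110, 9), (111, 2), (112, 2), (113, 4), (114, 4), (115, 6), (116, 10), (117, 9), (118, 4), (119, 7), (120, 4), (121, 4), (122, 9), (123, 4), (124, 8), (125, 7), (126, 6), (127, 5), (128, 9), (129, 2), (130, 9), (131, 4), (132, 9)],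
  [(77, 8), (78, 1), (79, 5), (81, 1), (82, 6), (83, 1), (84, 10), (85, 7), (86, 4), (87, 4), (88, 9), (89, 8), (90, 7), (91, 6), (92, 4), (93, 1), (94, 8), (95, 10), (96, 4), (97, 8), (98, 6), (99, 10), (100, 7), (101, 9), (102, 9), (103, 4), (104, 9), (107, 9), (108, 9), (110, 4), (111, 4), (112, 2), (113, 9), (114, 5), (115, 7), (116, 7), (117, 2), (118, 2), (119, 6), (120, 7), (122, 2), (125, 9), (126, 5), (127, 2), (128, 9), (129, 7), (130, 2), (132, 2)],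
  [(77, 7), (78, 7), (81, 8), (82, 4), (83, 4), (86, 6), (88, 8), (89, 8), (91, 9), (92, 6), (93, 6), (94, 10), (95, 4), (96, 5), (97, 6), (99, 5), (100, 1), (101, 5), (102, 6), (103, 4), (104, 5), (106, 9), (107, 4), (108, 3), (109, 8), (110, 5), (111, 10), (112, 10), (113, 4), (114, 4), (115, 5), (116, 5), (117, 6), (118, 6), (119, 7), (120, 6), (121, 9), (122, 6), (123, 2), (124, 9), (125, 8), (126, 6), (127, 5), (128, 1), (129, 2), (130, 6), (131, 1), (132, 6)]]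

/-- data -/
def d3_16 : SMat := [
  [(77, 3), (78, 10), (79, 1), (80, 1), (81, 5), (82, 10), (84, 2), (85, 8), (86, 9), (87, 3), (89, 5), (90, 5), (91, 3), (92, 2), (93, 8), (94, 1), (95, 5), (97, 5), (98, 2), (99, 2), (100, 5), (101, 8), (102, 8), (103, 10), (104, 1), (107, 9), (109, 2), (110, 4), (112, 2), (113, 7), (115, 7), (117, 4), (118, 9), (119, 2), (120, 2), (121, 2), (122, 2), (123, 2), (124, 7), (125, 2), (126, 9), (127, 4), (128, 3), (129, 5), (130, 2), (132, 9)],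
  [(77, 8), (78, 2), (79, 7), (80, 9), (81, 9), (82, 2), (84, 2), (85, 3), (86, 1), (87, 5), (88, 3), (89, 2), (90, 5), (91, 8), (92, 7), (93, 9), (94, 9), (95, 7), (96, 5), (97, 9), (98, 5), (99, 8), (100, 4), (101, 9), (102, 2), (103, 5), (104, 4), (105, 5), (106, 5), (107, 2), (108, 6), (109, 4), (110, 9), (111, 4), (113, 6), (114, 10), (115, 2), (116, 10), (117, 4), (118, 2), (119, 9), (120, 10), (121, 10), (122, 8), (123, 8), (124, 9), (125, 4), (126, 8), (127, 3), (128, 3), (130, 9), (131, 6), (132, 7)],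
  [(77, 4), (78, 4), (79, 2), (81, 7), (82, 2), (83, 2), (86, 3), (88, 3), (89, 7), (91, 4), (92, 3), (93, 3), (94, 7), (95, 7), (96, 6), (97, 7), (98, 7), (99, 4), (100, 8), (101, 4), (103, 7), (104, 4), (105, 7), (106, 5), (107, 4), (108, 5), (109, 10), (110, 5), (111, 3), (112, 1), (113, 2), (114, 1), (115, 3), (116, 2), (117, 1), (118, 6), (119, 5), (120, 7), (121, 10), (122, 1), (123, 8), (124, 7), (125, 1), (126, 1), (127, 8), (128, 9), (129, 7), (130, 6), (131, 5), (132, 2)],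
  [(86, 7), (87, 4), (88, 7), (92, 5), (98, 7), (100, 6), (101, 4), (102, 7), (105, 1), (106, 3), (107, 8), (108, 7), (109, 8), (110, 6), (111, 10), (112, 8), (113, 1), (114, 3), (115, 9), (116, 6), (117, 4), (118, 3), (119, 5), (120, 7), (121, 4), (123, 6), (124, 8), (125, 6), (127, 4), (128, 8), (129, 4), (130, 7), (131, 3), (132, 10)],
  [(77, 3), (78, 10), (79, 5), (80, 3), (81, 1), (82, 6), (83, 9), (84, 2), (85, 8), (86, 9), (87, 3), (89, 9), (90, 5), (91, 10), (92, 2), (93, 4), (94, 3), (95, 5), (96, 9), (97, 9), (98, 6), (99, 9), (100, 5), (101, 4), (102, 4), (103, 10), (104, 8), (105, 10), (106, 10), (107, 6), (108, 5), (109, 5), (110, 5), (111, 5), (112, 3), (113, 6), (114, 9), (115, 7), (116, 1), (117, 5), (118, 1), (119, 3), (120, 2), (121, 7), (122, 7), (123, 1), (124, 5), (125, 3), (126, 7), (128, 5), (129, 5), (130, 6)]]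

/-- data -/
def d3 : SMat := d3_0 ++ d3_1 ++ d3_2 ++ d3_3 ++ d3_4 ++ d3_5 ++ d3_6 ++ d3_7 ++ d3_8 ++ d3_9 ++ d3_10 ++ d3_11 ++ d3_12 ++ d3_13 ++ d3_14 ++ d3_15 ++ d3_16

/-- data -/
def d4_0 : SMat := [
  [(0, 3), (2, 1), (3, 6), (4, 9), (5, 6), (6, 5), (7, 4), (8, 1), (9, 9), (10, 3), (11, 1), (12, 6), (14, 5), (15, 1), (16, 6), (17, 10), (18, 5), (19, 5), (20, 5), (21, 4), (22, 5), (23, 9), (24, 10), (25, 4), (26, 3), (27, 4), (28, 9), (29, 7), (30, 2), (31, 9), (32, 8), (34, 10), (35, 1), (36, 10), (37, 2), (39, 1), (41, 3), (42, 9), (45, 2), (47, 3), (48, 2), (49, 7), (51, 7), (52, 1), (53, 9), (54, 7), (55, 1), (56, 9), (57, 4), (58, 4), (59, 3), (60, 2), (61, 5), (63, 6), (64, 1), (65, 4), (66, 8), (67, 1), (68, 1), (69, 7), (71, 2), (72, 2), (73, 5), (75, 8), (76, 1), (77, 9), (78, 10), (79, 8), (80, 2), (81, 10), (82, 5), (83, 4), (84, 10), (85, 6), (86, 10), (87, 7), (88, 8), (90, 2), (91, 1), (92, 4),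 (93, 7), (94, 7), (95, 5), (96, 10), (97, 7), (98, 7), (99, 8), (100, 9), (104, 9), (105, 9), (106, 5), (107, 4), (108, 9), (109, 2), (110, 7), (111, 5), (112, 5), (113, 3), (114, 6), (115, 9), (116, 1), (117, 4), (118, 5), (119, 8), (120, 7), (121, 2), (122, 3), (123, 4), (125, 5), (126, 6), (127, 5), (128, 4), (129, 2), (130, 1), (131, 8), (132, 2)],
  [(0, 2), (1, 7), (2, 4), (3, 9), (4, 1), (5, 3), (6, 1), (7, 6), (8, 1), (9, 5), (10, 4), (11, 1), (12, 8), (13, 2), (14, 1), (15, 5), (17, 1), (18, 7), (19, 6), (20, 7), (21, 8), (22, 9), (23, 9), (24, 5), (25, 8), (26, 9), (27, 9), (28, 5), (29, 1), (31, 7), (32, 3), (33, 2), (34, 6), (35, 4), (36, 10), (37, 8), (38, 6), (39, 7), (40, 3), (41, 4), (42, 5), (43, 7), (44, 5), (45, 2), (46, 4), (47, 4), (48, 8), (49, 3), (50, 1), (51, 3), (52, 1), (53, 2), (54, 6), (55, 7), (56, 8), (57, 8), (58, 4), (59, 10), (60, 4), (61, 7), (62, 5), (63, 3), (64, 9), (65, 1),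 (66, 2), (67, 2), (68, 6), (70, 3), (71, 5), (72, 9), (73, 6), (74, 5), (75, 3), (76, 9), (78, 1), (79, 10), (80, 1), (81, 1), (82, 6), (83, 1), (84, 3), (85, 8), (87, 10), (88, 3), (89, 5), (90, 6), (91, 1), (92, 2), (93, 6), (94, 5), (95, 3), (96, 3), (98, 9), (99, 4), (100, 7), (102, 4), (103, 5), (104, 3), (105, 9), (106, 5), (107, 6), (108, 7), (109, 6), (111, 6), (112, 6), (113, 5), (114, 1), (115, 7), (116, 7), (117, 6), (118, 6), (119, 5), (120, 1), (121, 7), (122, 6), (123, 6), (125, 5), (127, 10), (128, 10), (130, 1), (131, 1), (132, 10)],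
  [(0, 9), (1, 4), (2, 6), (3, 7), (4, 10), (5, 2), (6, 5), (7, 1), (8, 7), (9, 1), (10, 2), (11, 9), (12, 10), (13, 8), (14, 5), (15, 4), (16, 9), (17, 6), (18, 2), (19, 5), (20, 6), (22, 4), (23, 2), (24, 10), (25, 8), (26, 10), (27, 4), (28, 5), (29, 3), (30, 9), (31, 6), (32, 1), (33, 3), (34, 3), (35, 8), (36, 7), (37, 9), (39, 5), (40, 3), (41, 6), (42, 2), (44, 9), (45, 6), (48, 9), (50, 4), (52, 5), (53, 2), (54, 3), (55, 1), (56, 5), (59, 7), (60, 6), (61, 5), (62, 4), (63, 2), (64, 4), (66, 8), (67, 9), (68, 4), (69, 3), (70, 10), (71, 1), (72, 9), (73, 1), (74, 7), (76, 4), (77, 10), (78, 1), (79, 8), (80, 2), (81, 9), (82, 1), (83, 8), (84, 1), (85, 1), (86, 8), (88, 3), (89, 5), (90, 4), (91, 1), (92, 8), (94, 7), (95, 7), (96, 3), (97, 7), (98, 8), (99, 2), (100, 5), (101, 9), (102, 9), (103, 4), (104, 7), (105, 8), (106, 5), (107, 7), (108, 7), (109, 7), (110, 4), (111, 9), (113, 3), (115, 6), (116,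 3), (117, 10), (118, 6), (119, 5), (120, 1), (121, 4), (122, 7), (123, 8), (124, 9), (125, 9), (126, 2), (128, 8), (129, 3), (130, 2), (131, 5), (132, 5)],
  [(0, 2), (1, 8), (2, 1), (3, 2), (4, 5), (5, 5), (6, 1), (7, 7), (8, 7), (9, 10), (10, 2), (11, 2), (12, 4), (13, 3), (14, 4), (15, 4), (16, 5), (17, 10), (18, 1), (19, 6), (20, 1), (22, 5), (23, 6), (24, 5), (25, 4), (26, 10), (27, 3), (29, 5), (30, 8), (32, 2), (33, 8), (34, 2), (35, 1), (36, 2), (37, 8), (39, 6), (40, 8), (41, 4), (42, 3), (43, 6), (44, 5), (45, 9), (46, 7), (47, 10), (48, 3), (49, 5), (50, 10), (51, 6), (52, 5), (53, 6), (54, 2), (55, 5), (56, 6), (57, 6), (58, 6), (59, 3), (60, 6), (61, 5), (62, 9), (63, 2), (64, 4), (65, 8), (66, 10), (67, 7), (68, 4), (69, 2), (70, 10), (71, 7), (72, 8), (73, 7), (74, 6), (75, 6), (76, 1), (77, 7), (78, 8), (79, 6), (80, 3), (81, 7), (83, 9), (84, 8), (85, 9), (86, 5), (87, 9), (88, 7), (89, 1), (90,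 9), (91, 4), (92, 2), (93, 7), (94, 4), (95, 1), (96, 2), (98, 7), (99, 1), (100, 6), (101, 4), (102, 1), (103, 1), (104, 6), (105, 3), (106, 10), (107, 7), (108, 1), (109, 10), (110, 9), (112, 6), (113, 2), (114, 2), (115, 2), (116, 2), (117, 10), (118, 2), (119, 8), (120, 1), (121, 10), (122, 6), (124, 2), (126, 2), (127, 8), (130, 9), (131, 1)],
  [(0, 5), (1, 8), (2, 5), (3, 10), (4, 8), (5, 9), (7, 9), (8, 5), (9, 9), (10, 1), (11, 3), (12, 6), (13, 5), (14, 9), (15, 7), (16, 6), (17, 2), (18, 5), (19, 10), (20, 9), (21, 7), (22, 7), (23, 6), (24, 2), (25, 4), (26, 2), (27, 4), (28, 2), (30, 7), (31, 2), (32, 9), (33, 6), (35, 9), (37, 4), (39, 4), (40, 10), (41, 9), (42, 10), (44, 5), (45, 3), (46, 7), (47, 8), (48, 4), (49, 4), (50, 8), (51, 4), (52, 2), (53, 6), (54, 3), (55, 10), (56, 7), (57, 7), (58, 7), (60, 4), (61, 4), (62, 3), (63, 9), (65, 7), (66, 4), (69, 3), (71, 7), (72, 6), (73, 8), (74, 7),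 (75, 6), (77, 10), (78, 7), (79, 2), (80, 10), (81, 4), (82, 9), (83, 4), (84, 7), (85, 1), (86, 7), (87, 7), (89, 8), (90, 1), (91, 10), (92, 7), (93, 4), (94, 5), (95, 6), (96, 8), (97, 6), (98, 6), (99, 6), (100, 2), (101, 1), (102, 1), (103, 9), (104, 1), (105, 2), (106, 6), (107, 1), (109, 9), (111, 6), (112, 8), (113, 5), (114, 9), (115, 10), (116, 9), (117, 10), (118, 5), (120, 10), (121, 9), (122, 9), (123, 10), (125, 5), (126, 10), (127, 2), (128, 7), (129, 1), (130, 1), (131, 4)],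
  [(1, 8), (2, 5), (3, 7), (4, 2), (5, 4), (6, 4), (7, 9), (8, 9), (9, 2), (10, 4), (11, 1), (12, 2), (13, 1), (14, 2), (15, 8), (16, 6), (17, 6), (18, 5), (20, 10), (22, 4), (23, 9), (24, 2), (25, 8), (26, 6), (27, 4), (28, 2), (29, 4), (30, 3), (31, 9), (32, 5), (33, 10), (34, 7), (35, 5), (36, 7), (37, 8), (39, 4), (40, 3), (41, 6), (42, 6), (44, 2), (45, 10), (46, 7), (48, 8), (50, 4), (52, 2), (53, 9), (54, 3), (55, 4), (57, 6), (59, 3), (62, 10), (63, 9), (64, 8), (66, 8), (67, 3), (68, 8), (69, 3), (70, 4), (72, 10), (73, 1), (75, 3), (76, 8), (78, 8), (79, 9), (80, 8), (81, 3), (82, 8), (83, 1), (84, 1), (85, 5), (87, 4), (88, 7), (89, 10), (90, 5), (91, 6), (92, 6), (93, 3), (94, 1), (95, 1), (96, 4), (97, 10), (98, 6), (99, 3), (100, 1), (101, 9), (102, 9), (103, 4), (104, 9), (105, 3), (106, 6), (107, 8), (108, 1), (109, 5), (110, 3), (111, 6), (112, 4), (113, 9), (114, 1), (115, 2), (116, 9), (117,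 4), (118, 10), (119, 2), (120, 2), (121, 6), (122, 5), (123, 5), (124, 3), (125, 5), (126, 2), (127, 6), (128, 1), (129, 10), (130, 10), (131, 10), (132, 10)],
  [(0, 3), (1, 2), (2, 7), (3, 2), (4, 4), (6, 6), (7, 7), (8, 7), (9, 4), (10, 3), (11, 3), (12, 4), (13, 10), (14, 4), (15, 8), (16, 4), (17, 4), (18, 7), (20, 7), (22, 8), (25, 8), (26, 4), (27, 8), (29, 4), (30, 7), (32, 3), (33, 8), (34, 3), (35, 7), (36, 7), (37, 8), (39, 6), (40, 7), (41, 4), (42, 8), (45, 10), (46, 7), (47, 4), (48, 8), (49, 4), (50, 3), (52, 4), (53, 7), (54, 3), (55, 4), (57, 4), (59, 10), (62, 10), (63, 3), (64, 4), (65, 7), (66, 4), (67, 7), (68, 4), (69, 7), (70, 4), (72, 1), (73, 5), (75, 5), (76, 4), (77, 7), (78, 3), (79, 6), (80, 8), (81, 9), (82, 6), (83, 9), (85, 4), (86, 4), (87, 4), (88, 2), (89, 2), (90, 3), (91, 6), (92, 7), (93, 9), (94, 2), (96, 4), (97, 2), (98, 2), (99, 10), (100, 1), (101, 10), (102, 5), (103,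 7), (104, 2), (105, 8), (106, 5), (107, 1), (109, 6), (110, 2), (111, 5), (112, 5), (113, 5), (114, 2), (115, 10), (116, 6), (117, 7), (118, 4), (119, 5), (120, 2), (121, 7), (122, 7), (123, 2), (124, 9), (125, 7), (128, 9), (129, 10), (130, 1), (131, 7), (132, 10)],
  [(0, 4), (1, 8), (2, 9), (3, 10), (4, 6), (5, 9), (6, 6), (7, 3), (8, 9), (9, 6), (10, 9), (11, 4), (12, 9), (13, 8), (14, 6), (15, 1), (16, 8), (17, 2), (18, 5), (19, 7), (20, 5), (21, 4), (22, 1), (23, 1), (24, 6), (25, 1), (26, 6), (27, 7), (28, 6), (29, 1), (30, 3), (31, 5), (32, 9), (33, 3), (34, 10), (35, 9), (36, 10), (37, 8), (40, 7), (41, 6), (42, 3), (44, 10), (45, 2), (46, 4), (47, 7), (48, 8), (49, 3), (50, 8), (51, 7), (52, 6), (53, 1), (54, 7), (55, 7), (58, 7), (59, 10), (61, 3), (62, 2), (63, 5), (64, 1), (65, 4), (66, 7), (67, 10), (68, 1), (69, 3), (70, 5), (72, 3), (73, 1), (76, 1), (77, 10), (78, 9), (79, 4), (80, 9), (81, 4),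 (82, 6), (83, 3), (84, 4), (85, 3), (86, 7), (87, 9), (88, 10), (89, 4), (90, 2), (91, 6), (92, 7), (93, 2), (94, 5), (95, 4), (96, 8), (97, 6), (98, 7), (99, 5), (100, 4), (103, 8), (104, 2), (105, 3), (106, 2), (107, 9), (108, 1), (109, 5), (110, 2), (111, 5), (112, 6), (113, 8), (114, 8), (115, 3), (116, 3), (117, 5), (118, 5), (119, 7), (120, 8), (121, 3), (122, 4), (123, 9), (124, 5), (125, 5), (126, 2), (127, 2), (128, 2), (129, 5), (130, 7), (131, 3), (132, 2)]]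

/-- data -/
def d4_1 : SMat := [
  [(0, 1), (1, 4), (2, 9), (3, 5), (4, 1), (5, 4), (6, 2), (7, 5), (8, 1), (9, 4), (10, 6), (12, 10), (13, 1), (14, 5), (15, 5), (16, 5), (17, 7), (18, 4), (19, 8), (20, 3), (21, 7), (22, 4), (23, 6), (24, 1), (25, 9), (27, 3), (30, 5), (31, 1), (32, 10), (33, 3), (34, 3), (35, 1), (36, 7), (37, 5), (39, 8), (40, 6), (41, 6), (42, 5), (43, 9), (44, 5), (47, 1), (48, 8), (49, 6), (50, 10), (51, 1), (52, 5), (53, 2), (55, 6), (56, 5), (57, 5), (58, 5), (59, 6), (60, 6), (61, 2), (62, 2), (63, 9), (64, 5), (65, 10), (66, 2), (67, 4), (68, 5), (69, 1), (70, 4), (71, 3), (72, 7), (74, 5), (76, 7), (77, 9), (78, 7), (79, 4), (81, 8), (82, 9), (83, 4), (84, 3), (86, 4), (87, 5), (88, 7), (89, 8), (90, 6), (92, 8), (93, 2), (94, 4), (95, 8), (97, 6), (98, 8), (99, 7), (100, 10), (101, 6), (102, 6), (103, 3), (104, 8), (107, 1), (109, 10), (110, 9), (112, 10), (113, 2), (115, 2), (117,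 9), (118, 1), (119, 10), (120, 10), (121, 10), (122, 10), (123, 10), (124, 2), (125, 10), (126, 1), (127, 9), (128, 9), (129, 10), (130, 10), (132, 1)],
  [(0, 5), (1, 4), (2, 5), (3, 1), (4, 5), (5, 5), (6, 4), (7, 2), (8, 1), (9, 6), (10, 1), (11, 10), (12, 6), (13, 6), (14, 5), (15, 3), (16, 10), (17, 9), (18, 4), (19, 8), (20, 9), (21, 3), (22, 6), (23, 10), (24, 9), (25, 4), (26, 1), (28, 9), (30, 3), (31, 6), (32, 6), (33, 9), (34, 3), (35, 5), (38, 8), (39, 8), (40, 10), (41, 9), (42, 10), (43, 1), (44, 1), (47, 4), (49, 8), (50, 8), (51, 8), (52, 2), (53, 3), (54, 3), (56, 3), (57, 3), (58, 7), (59, 4), (60, 8), (61, 4), (63, 2), (64, 7), (65, 7), (67, 4), (68, 9), (69, 3), (70, 6), (71, 5), (72, 2), (74, 3), (75, 9), (76, 7), (77, 8), (78, 10), (79, 5), (80, 2), (81, 8), (82, 7), (83, 1), (84, 8), (85, 2), (86, 2), (87, 6), (88, 3), (89, 8), (90, 5), (91, 6), (92, 2), (93, 10), (94, 4), (95, 8), (96,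 8), (97, 6), (98, 8), (99, 3), (100, 2), (101, 4), (102, 7), (103, 2), (104, 2), (105, 7), (106, 9), (107, 2), (108, 1), (109, 3), (110, 9), (111, 2), (113, 3), (114, 5), (115, 3), (116, 6), (117, 10), (118, 4), (119, 8), (120, 5), (121, 3), (122, 2), (123, 1), (124, 5), (126, 5), (127, 5), (128, 7), (129, 9), (130, 10), (131, 3), (132, 8)],
  [(0, 9), (1, 8), (2, 7), (3, 8), (4, 9), (6, 6), (7, 7), (8, 1), (9, 3), (10, 2), (11, 10), (12, 10), (13, 5), (14, 2), (15, 7), (16, 10), (17, 4), (18, 7), (19, 6), (20, 2), (21, 5), (22, 8), (23, 1), (24, 4), (25, 2), (26, 9), (27, 2), (28, 5), (29, 3), (30, 8), (31, 5), (32, 7), (33, 2), (34, 9), (35, 7), (36, 2), (37, 8), (39, 6), (40, 3), (41, 9), (42, 2), (43, 6), (44, 10), (47, 6), (48, 8), (49, 6), (50, 8), (51, 6), (52, 9), (53, 8), (54, 8), (55, 10), (57, 5), (59, 4), (60, 10), (61, 1), (63, 2), (64, 3), (65, 1), (66, 9), (67, 6), (68, 3), (69, 3), (70, 8), (72,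 7), (73, 6), (75, 4), (76, 3), (77, 1), (78, 8), (79, 3), (80, 6), (81, 5), (82, 6), (83, 6), (85, 1), (86, 4), (87, 5), (88, 4), (89, 5), (90, 7), (91, 10), (92, 6), (93, 10), (94, 3), (95, 5), (97, 7), (98, 6), (99, 7), (100, 3), (101, 6), (102, 6), (103, 1), (104, 10), (107, 1), (109, 10), (110, 9), (112, 10), (113, 2), (115, 2), (117, 9), (118, 1), (119, 10), (120, 10), (121, 10), (122, 10), (123, 10), (124, 2), (125, 10), (126, 1), (127, 9), (128, 3), (129, 4), (130, 10), (132, 1)],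
  [(0, 8), (1, 4), (2, 6), (3, 3), (4, 6), (5, 2), (6, 4), (7, 1), (8, 6), (9, 6), (10, 6), (11, 3), (12, 9), (13, 9), (14, 10), (15, 9), (16, 9), (17, 9), (18, 6), (20, 2), (21, 1), (22, 9), (24, 9), (25, 4), (26, 3), (27, 8), (28, 3), (29, 5), (30, 8), (31, 5), (32, 2), (33, 2), (34, 3), (35, 2), (36, 3), (37, 7), (38, 5), (39, 10), (40, 1), (41, 10), (42, 9), (43, 4), (44, 3), (45, 3), (46, 4), (47, 6), (48, 4), (49, 5), (50, 3), (51, 4), (52, 6), (53, 5), (54, 3), (56, 4), (58, 5), (59, 6), (61, 8), (62, 3), (63, 10), (64, 5), (66, 8), (67, 3), (68, 8), (69, 7), (70, 4), (71, 4), (72, 10), (73, 1), (74, 4), (76, 8), (77, 5), (79, 9), (80, 5), (81, 9), (82, 4), (83, 5), (84, 6), (85, 10), (86, 3), (87, 4), (88, 4), (90, 8), (92, 10), (93, 4), (94, 1), (95, 10), (96, 9), (97, 9), (98, 7), (99, 3), (100, 3), (101, 8), (102, 8), (103, 6), (104, 6), (105, 5), (106, 3), (107, 8), (108, 9), (109, 4), (110, 3), (111,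 9), (112, 1), (113, 7), (114, 6), (115, 9), (116, 5), (119, 4), (120, 7), (121, 9), (122, 10), (124, 8), (125, 1), (126, 1), (127, 8), (128, 4), (129, 2), (130, 1), (131, 8), (132, 2)],
  [(0, 1), (1, 4), (2, 9), (3, 7), (4, 2), (5, 9), (7, 5), (8, 9), (9, 2), (10, 9), (11, 5), (12, 7), (13, 1), (14, 2), (15, 4), (16, 2), (17, 2), (18, 9), (20, 9), (22, 4), (23, 9), (24, 7), (25, 4), (26, 2), (27, 4), (28, 2), (29, 4), (30, 3), (31, 9), (32, 9), (34, 7), (35, 9), (36, 3), (37, 9), (40, 7), (41, 2), (44, 2), (45, 10), (48, 4), (50, 4), (52, 2), (53, 9), (54, 7), (59, 7), (61, 5), (62, 3), (63, 9), (64, 4), (66, 4), (67, 3), (68, 4), (69, 7), (70, 4), (72, 6), (73, 2), (75, 3), (76, 4), (77, 3), (78, 5), (79, 9), (80, 2), (81, 1), (82, 2), (83, 1), (84, 1), (86, 7), (87, 5), (88, 8), (89, 1), (90, 9), (91, 10), (92, 2), (93, 3), (94, 1), (95, 6), (96, 5), (97, 7), (98, 4), (99, 7), (100, 1), (101, 3), (102, 6),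 (103, 10), (104, 3), (105, 2), (106, 9), (107, 2), (108, 5), (109, 9), (110, 9), (111, 9), (112, 2), (113, 9), (114, 3), (116, 5), (117, 9), (118, 9), (119, 6), (120, 9), (121, 5), (122, 5), (123, 9), (124, 8), (125, 9), (127, 10), (128, 8), (129, 4), (130, 7), (132, 8)],
  [(0, 3), (1, 8), (2, 6), (4, 4), (6, 4), (7, 7), (8, 3), (10, 7), (11, 7), (12, 8), (13, 9), (15, 4), (16, 4), (17, 4), (19, 4), (20, 7), (21, 7), (23, 4), (24, 4), (25, 4), (26, 10), (27, 8), (30, 3), (32, 7), (33, 4), (34, 3), (35, 7), (36, 7), (37, 8), (39, 4), (40, 3), (42, 8), (43, 4), (44, 1), (45, 3), (47, 4), (48, 8), (49, 4), (50, 4), (51, 4), (52, 4), (54, 3), (57, 6), (59, 7), (61, 4), (62, 3), (63, 7), (64, 4), (65, 7), (66, 4), (67, 7), (68, 4), (69, 3), (72, 4), (73, 1), (75, 1), (76, 4), (77, 10), (78, 6), (79, 1), (81, 10), (82, 8), (83, 1), (84, 10), (85, 7), (88, 1), (89, 10), (90, 3), (91, 10), (92, 2), (93, 10), (94, 8),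 (95, 10), (96, 8), (97, 10), (98, 7), (99, 9), (100, 5), (105, 10), (106, 10), (107, 1), (108, 10), (109, 1), (110, 2), (111, 2), (112, 2), (113, 10), (114, 9), (115, 1), (116, 10), (119, 1), (120, 8), (121, 10), (122, 10), (123, 1), (125, 9), (126, 10), (127, 1), (128, 1), (129, 2), (130, 10), (131, 10), (132, 1)],
  [(0, 1), (1, 8), (2, 8), (3, 3), (4, 6), (5, 9), (6, 4), (7, 5), (8, 10), (9, 6), (10, 9), (11, 1), (12, 6), (13, 8), (14, 1), (15, 8), (16, 2), (17, 2), (18, 9), (19, 7), (20, 9), (22, 8), (23, 9), (24, 6), (25, 8), (26, 6), (27, 8), (28, 1), (29, 4), (30, 3), (31, 9), (32, 5), (33, 10), (34, 3), (35, 9), (36, 3), (37, 1), (39, 7), (40, 7), (41, 2), (42, 10), (44, 2), (45, 10), (48, 4), (50, 8), (52, 2), (53, 5), (54, 3), (55, 4), (56, 4), (59, 3), (61, 4), (62, 10), (63, 5), (64, 8), (66, 8), (67, 3), (68, 8), (69, 2), (70, 8), (71, 4), (72, 6), (73, 5), (74, 4), (76, 8), (77, 3), (78, 10), (79,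 6), (80, 5), (81, 6), (82, 10), (83, 7), (84, 10), (85, 8), (86, 9), (87, 7), (88, 8), (89, 10), (90, 3), (91, 3), (92, 2), (93, 1), (94, 1), (95, 6), (96, 7), (97, 1), (98, 7), (99, 7), (100, 9), (101, 5), (102, 6), (103, 7), (104, 9), (105, 1), (106, 1), (107, 1), (108, 10), (109, 9), (110, 10), (111, 9), (113, 10), (114, 8), (115, 1), (116, 8), (117, 9), (118, 1), (119, 10), (120, 8), (121, 8), (122, 7), (123, 7), (124, 3), (125, 9), (128, 4), (130, 10), (131, 10), (132, 2)],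
  [(0, 7), (1, 9), (2, 3), (3, 6), (6, 4), (7, 4), (8, 9), (9, 6), (10, 1), (11, 9), (12, 1), (13, 3), (14, 7), (15, 7), (16, 2), (17, 1), (18, 3), (19, 1), (20, 10), (21, 5), (22, 1), (23, 10), (25, 4), (26, 10), (27, 1), (28, 10), (29, 3), (30, 2), (31, 5), (32, 10), (33, 3), (34, 4), (35, 10), (36, 4), (37, 1), (38, 1), (39, 5), (40, 1), (41, 6), (42, 5), (43, 5), (44, 9), (46, 10), (47, 2), (48, 8), (49, 2), (50, 9), (51, 1), (52, 8), (53, 6), (54, 9), (55, 1), (56, 10), (57, 10), (58, 10), (59, 8), (60, 1), (61, 5), (63, 4), (64, 2), (65, 9), (66, 7), (67, 5), (68, 6), (69, 2), (70, 1), (71, 2), (73, 5), (74, 3), (75, 10), (76, 6), (77, 3), (78, 7), (79, 9), (80, 1), (81, 2), (82, 2), (83, 3), (84, 8), (85, 10), (86, 6), (87, 7), (88, 3), (89, 1), (90, 9), (91, 7), (92, 5), (93, 2), (94, 2), (95, 9), (96, 8), (97, 3), (98, 7), (99, 5), (100, 6), (101, 1), (102, 10), (103, 5), (104, 1), (105, 8), (106, 9),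 (107, 2), (108, 2), (110, 9), (113, 2), (114, 4), (115, 2), (116, 4), (118, 3), (119, 9), (120, 3), (121, 2), (123, 1), (124, 2), (126, 3), (127, 7), (128, 9), (130, 10), (131, 2), (132, 10)]]

/-- data -/
def d4_2 : SMat := [
  [(0, 2), (1, 4), (3, 1), (4, 4), (5, 3), (9, 1), (10, 8), (11, 2), (13, 10), (14, 8), (15, 1), (16, 6), (18, 7), (19, 3), (20, 7), (21, 8), (22, 5), (23, 6), (24, 8), (25, 7), (26, 8), (27, 1), (28, 8), (29, 1), (31, 4), (33, 5), (34, 10), (35, 3), (36, 6), (37, 8), (40, 7), (41, 8), (42, 1), (44, 5), (45, 2), (46, 3), (47, 3), (48, 8), (49, 3), (50, 4), (51, 3), (52, 4), (53, 10), (54, 7), (55, 3), (59, 10), (61, 7), (62, 2), (63, 7), (64, 5), (65, 1), (66, 1), (67, 6), (68, 5), (69, 7), (70, 9), (71, 4), (72, 1), (73, 1), (75, 6), (76, 5), (77, 9), (78, 8), (79, 2), (80, 10), (81, 5), (82, 10), (83, 4), (84, 7), (86, 5), (87, 7), (89, 7), (90, 1), (92, 7), (93, 5), (94, 5), (95, 6),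 (96, 8), (97, 5), (98, 7), (99, 7), (100, 2), (101, 2), (102, 2), (103, 9), (104, 2), (105, 3), (106, 2), (107, 5), (108, 9), (109, 10), (110, 2), (113, 8), (114, 7), (115, 9), (116, 3), (117, 7), (118, 9), (119, 2), (120, 8), (121, 9), (122, 8), (123, 10), (124, 9), (125, 10), (126, 8), (127, 4), (128, 6), (130, 2), (131, 9), (132, 1)],
  [(0, 5), (2, 5), (3, 7), (4, 2), (5, 5), (6, 4), (7, 9), (8, 5), (9, 5), (10, 9), (11, 9), (12, 6), (13, 5), (14, 9), (16, 6), (17, 7), (18, 9), (19, 4), (20, 9), (21, 7), (23, 2), (24, 7), (25, 4), (26, 2), (27, 4), (28, 2), (30, 3), (31, 2), (32, 9), (34, 7), (35, 5), (36, 7), (37, 8), (39, 4), (40, 7), (41, 2), (42, 6), (43, 4), (44, 2), (45, 3), (48, 4), (50, 4), (51, 5), (52, 9), (53, 7), (54, 3), (59, 5), (61, 9), (62, 7), (63, 2), (66, 4), (67, 3), (69, 7), (70, 7), (72, 2), (73, 8), (75, 10), (76, 4), (77, 1), (78, 1), (79, 7), (80, 2), (81, 8), (82, 6), (83, 3), (84,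 6), (85, 10), (86, 6), (87, 2), (88, 7), (89, 8), (90, 2), (91, 7), (92, 4), (93, 10), (94, 8), (95, 8), (96, 8), (97, 8), (98, 4), (99, 10), (100, 9), (102, 9), (103, 2), (104, 9), (105, 10), (107, 8), (108, 4), (109, 7), (110, 3), (111, 3), (112, 3), (113, 1), (114, 1), (118, 10), (119, 3), (120, 8), (123, 7), (124, 7), (125, 7), (126, 4), (127, 2), (128, 3), (129, 7), (131, 4), (132, 7)],
  [(0, 4), (1, 9), (2, 6), (3, 9), (4, 10), (5, 6), (6, 2), (7, 5), (8, 10), (9, 1), (10, 1), (11, 6), (12, 1), (13, 4), (14, 1), (15, 6), (16, 1), (17, 5), (18, 7), (19, 9), (20, 1), (21, 2), (23, 10), (24, 9), (25, 2), (26, 7), (27, 2), (28, 10), (29, 6), (31, 4), (32, 1), (33, 7), (34, 9), (36, 9), (39, 2), (40, 7), (41, 10), (42, 7), (43, 6), (44, 3), (45, 5), (48, 8), (50, 4), (51, 6), (52, 7), (53, 10), (54, 6), (55, 6), (61, 2), (62, 7), (63, 7), (64, 6), (65, 4), (66, 8), (67, 3), (68, 6), (69, 7), (72, 5), (73, 6),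 (75, 9), (76, 8), (77, 1), (78, 8), (79, 5), (80, 5), (81, 3), (82, 6), (83, 9), (84, 2), (85, 10), (86, 2), (87, 3), (88, 4), (90, 5), (91, 10), (92, 6), (93, 8), (94, 8), (95, 7), (96, 4), (97, 9), (98, 8), (99, 7), (100, 1), (101, 4), (102, 4), (103, 1), (104, 6), (105, 8), (106, 8), (107, 7), (108, 2), (109, 2), (110, 2), (111, 2), (112, 3), (113, 7), (115, 1), (116, 3), (117, 2), (118, 5), (119, 3), (120, 10), (121, 1), (122, 1), (123, 3), (124, 2), (125, 4), (126, 1), (128, 4), (129, 2), (130, 9), (131, 9)],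
  [(0, 8), (1, 9), (2, 2), (3, 5), (5, 1), (6, 10), (7, 1), (8, 9), (9, 7), (10, 2), (11, 5), (12, 9), (13, 7), (14, 7), (15, 6), (16, 9), (17, 10), (18, 1), (19, 4), (20, 1), (21, 1), (22, 7), (23, 4), (24, 10), (25, 5), (26, 7), (27, 1), (28, 6), (29, 5), (30, 3), (31, 5), (33, 4), (34, 5), (35, 6), (36, 5), (37, 5), (38, 6), (39, 10), (40, 3), (41, 6), (42, 3), (43, 10), (44, 7), (45, 8), (47, 4), (48, 5), (49, 10), (50, 8), (51, 10), (52, 10), (53, 10), (54, 3), (56, 1), (57, 1), (59, 5), (60, 10), (61, 10), (62, 8), (64, 5), (65, 3), (66, 9), (67, 6), (68, 2), (69, 3), (70, 7), (71, 1), (72, 4), (73, 3), (74, 1), (75, 9), (76, 5), (77, 8), (78, 10), (79, 8), (80, 2), (81, 1), (82, 6), (83, 10), (84, 10), (85, 5), (86, 6), (87, 4), (88, 3), (89, 8), (90, 3), (91, 7), (92, 2), (93, 10), (94, 10), (95, 10), (96, 4), (97, 10), (98, 4), (99, 3), (102, 7), (103, 2), (104, 9), (105, 4), (108, 8), (109, 10), (111,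 8), (112, 3), (113, 7), (114, 7), (115, 3), (116, 3), (117, 8), (118, 7), (119, 5), (120, 4), (122, 3), (123, 4), (124, 3), (125, 3), (127, 5), (128, 8), (129, 5), (130, 4), (131, 3), (132, 4)],
  [(0, 8), (1, 4), (2, 9), (3, 2), (4, 6), (5, 10), (7, 9), (8, 2), (9, 10), (10, 6), (12, 2), (13, 8), (14, 6), (15, 5), (16, 9), (17, 2), (18, 9), (19, 2), (20, 4), (21, 8), (22, 9), (23, 8), (24, 6), (25, 8), (26, 10), (27, 1), (28, 3), (29, 1), (30, 7), (31, 1), (32, 9), (33, 3), (34, 10), (35, 9), (36, 10), (37, 8), (39, 7), (41, 10), (42, 10), (43, 7), (44, 3), (45, 2), (46, 4), (47, 3), (48, 8), (49, 7), (50, 4), (51, 3), (52, 6), (53, 8), (54, 2), (55, 7), (56, 10), (57, 4), (58, 4), (59, 6), (61, 7), (62, 2), (63, 5), (64, 5), (65, 8), (66, 1), (67, 6), (68, 5), (69, 7), (70, 9), (71, 8), (72, 3), (73, 5), (74, 8), (75, 8), (76, 5), (77, 8), (78, 10), (79, 8), (80, 2), (81, 1), (82, 6), (83, 10), (84, 10), (85,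 5), (86, 8), (87, 4), (88, 3), (89, 8), (90, 3), (91, 10), (92, 2), (93, 10), (94, 10), (95, 10), (96, 4), (97, 10), (98, 4), (99, 1), (102, 7), (103, 2), (104, 7), (106, 2), (107, 9), (108, 3), (109, 8), (110, 2), (112, 6), (114, 5), (115, 4), (116, 2), (117, 5), (119, 1), (120, 5), (121, 9), (122, 6), (123, 7), (124, 4), (125, 6), (126, 7), (127, 3), (128, 7), (129, 10), (130, 9), (131, 4), (132, 9)],
  [(0, 9), (1, 8), (2, 7), (3, 6), (5, 6), (6, 7), (8, 7), (9, 4), (10, 8), (11, 2), (13, 7), (14, 4), (15, 4), (18, 3), (20, 7), (21, 5), (22, 5), (23, 2), (25, 8), (27, 4), (28, 1), (29, 3), (30, 7), (31, 2), (33, 9), (34, 7), (35, 7), (36, 6), (38, 5), (40, 3), (41, 5), (42, 2), (44, 1), (45, 9), (46, 1), (47, 10), (48, 4), (49, 10), (50, 8), (52, 9), (53, 6), (54, 7), (55, 6), (56, 7), (57, 7), (58, 1), (59, 3), (60, 4), (61, 7), (62, 5), (63, 7), (64, 9), (65, 1), (66, 9), (67, 6), (68, 5), (69, 3), (70, 9),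 (71, 7), (72, 1), (73, 8), (74, 7), (75, 2), (76, 5), (77, 9), (78, 9), (79, 6), (80, 2), (85, 2), (86, 8), (87, 2), (88, 2), (91, 10), (92, 2), (93, 7), (95, 2), (97, 6), (98, 2), (99, 5), (101, 7), (102, 4), (103, 2), (104, 5), (105, 8), (106, 9), (107, 1), (108, 1), (109, 3), (111, 2), (112, 1), (113, 2), (114, 3), (115, 1), (116, 4), (117, 2), (118, 1), (119, 9), (120, 3), (121, 4), (122, 3), (123, 1), (124, 10), (125, 1), (126, 2), (127, 7), (128, 7), (129, 9), (131, 3), (132, 8)],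
  [(1, 9), (2, 5), (3, 5), (4, 9), (5, 9), (6, 4), (7, 8), (8, 6), (9, 5), (10, 4), (11, 3), (12, 2), (13, 9), (14, 9), (15, 5), (16, 1), (17, 9), (18, 3), (19, 8), (20, 3), (21, 1), (22, 1), (23, 7), (24, 3), (25, 4), (26, 10), (28, 3), (29, 9), (30, 8), (31, 4), (32, 7), (33, 7), (34, 6), (35, 5), (36, 2), (37, 4), (38, 8), (39, 4), (40, 7), (41, 7), (42, 6), (43, 4), (44, 2), (45, 9), (46, 5), (47, 8), (48, 4), (49, 10), (50, 10), (51, 10), (52, 9), (53, 1), (54, 7), (55, 6), (56, 1), (57, 1), (58, 5), (60, 6), (61, 4), (62, 7), (63, 7), (64, 10), (65, 6), (66, 5), (67, 1), (68, 1), (69, 8), (70, 2), (71, 2), (72, 2), (73, 4), (74, 3), (75, 5), (76, 10), (77, 6), (78, 10), (79, 1), (80, 4), (81, 3), (82, 7), (83, 3), (84, 5), (85, 10), (86, 4), (87, 2), (89, 7), (90, 8), (91, 10), (92, 6), (94, 7), (95, 5), (96, 3), (97, 10), (98, 2), (100, 3), (102, 4), (104, 8), (105, 7), (106, 10), (107, 1), (108, 3), (109,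 1), (110, 1), (111, 1), (112, 1), (114, 2), (115, 3), (116, 3), (117, 1), (118, 1), (119, 10), (120, 2), (121, 3), (122, 1), (123, 1), (125, 10), (126, 1), (127, 9), (128, 9), (130, 1), (131, 2), (132, 9)],
  [(0, 3), (1, 8), (2, 7), (3, 7), (4, 10), (5, 7), (6, 6), (8, 7), (9, 4), (10, 7), (11, 7), (12, 4), (13, 7), (14, 8), (15, 4), (16, 4), (17, 4), (18, 7), (20, 7), (21, 7), (22, 4), (23, 1), (24, 4), (25, 8), (27, 4), (29, 4), (30, 3), (31, 7), (32, 7), (33, 8), (34, 2), (35, 7), (36, 7), (37, 8), (40, 7), (42, 1), (45, 10), (47, 4), (48, 3), (50, 8), (51, 4), (52, 4), (54, 7), (58, 7), (59, 7), (62, 10), (63, 7), (64, 4), (66, 4), (67, 7), (68, 4), (69, 3), (70, 8), (71, 7), (72, 8), (73, 1), (75, 1), (76, 4), (78, 8), (79, 3), (80, 8), (81, 3), (82, 6), (83, 4), (84, 4), (85, 3), (86, 7), (87, 9), (88, 10), (89, 5), (90, 2), (91, 8), (92, 7), (93, 3), (94, 4), (95, 4), (96, 9), (97, 5), (98, 6), (99, 6),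 (100, 4), (101, 1), (102, 1), (103, 8), (104, 3), (105, 1), (106, 5), (108, 10), (109, 10), (110, 6), (112, 10), (114, 10), (115, 9), (116, 10), (117, 9), (118, 1), (120, 10), (121, 9), (122, 10), (123, 10), (124, 8), (126, 10), (128, 2), (129, 7), (131, 10), (132, 1)]]

/-- data -/
def d4_3 : SMat := [
  [(0, 5), (1, 1), (2, 1), (3, 7), (4, 10), (5, 6), (6, 4), (7, 8), (8, 1), (9, 9), (10, 1), (11, 1), (13, 4), (14, 5), (15, 1), (16, 2), (18, 5), (19, 5), (20, 5), (21, 3), (23, 10), (24, 3), (25, 4), (26, 2), (27, 4), (28, 9), (29, 7), (30, 6), (31, 10), (32, 5), (33, 6), (34, 10), (35, 2), (36, 4), (37, 8), (38, 10), (40, 10), (41, 2), (42, 3), (44, 9), (45, 6), (46, 10), (47, 5), (48, 8), (49, 8), (50, 1), (51, 8), (52, 5), (53, 9), (54, 6), (55, 8), (56, 4), (57, 4), (58, 4), (59, 3), (60, 3), (62, 10), (63, 5), (65, 2), (66, 8), (67, 7), (68, 7), (69, 6), (71, 1), (72, 3), (73, 2), (75, 7), (77, 8), (78,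 10), (79, 4), (80, 8), (81, 6), (82, 10), (83, 4), (84, 7), (85, 9), (86, 10), (87, 5), (88, 3), (89, 1), (90, 1), (91, 7), (92, 2), (93, 9), (94, 9), (95, 4), (97, 7), (98, 5), (99, 4), (100, 9), (101, 9), (102, 6), (103, 10), (104, 6), (105, 8), (106, 4), (107, 8), (108, 2), (109, 5), (110, 2), (111, 5), (112, 5), (113, 8), (114, 4), (115, 2), (116, 10), (117, 5), (118, 4), (119, 3), (120, 9), (121, 7), (122, 5), (124, 3), (125, 7), (126, 9), (127, 6), (128, 9), (130, 4), (131, 2), (132, 5)],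
  [(0, 6), (1, 5), (2, 4), (3, 4), (4, 2), (5, 4), (6, 10), (7, 10), (8, 8), (9, 2), (10, 8), (11, 7), (12, 7), (14, 2), (15, 3), (16, 3), (17, 1), (18, 10), (19, 6), (20, 3), (21, 5), (22, 8), (23, 5), (24, 1), (25, 10), (26, 6), (27, 9), (28, 1), (29, 9), (30, 7), (31, 9), (32, 9), (33, 10), (34, 4), (35, 4), (36, 2), (37, 9), (38, 6), (39, 6), (41, 1), (42, 1), (43, 5), (44, 6), (45, 4), (47, 7), (48, 9), (49, 6), (50, 4), (51, 6), (52, 8), (53, 4), (54, 7), (56, 5), (57, 5), (58, 4), (59, 1), (60, 6), (61, 10), (62, 4), (63, 2), (64, 2), (65, 4), (66, 9), (67, 9), (68, 10), (69, 7), (70, 8), (71, 5), (72, 6), (73, 7), (74, 5), (75, 8), (76, 2), (77, 8), (78, 10), (79, 3), (80, 2), (81, 10), (82, 9), (83, 1), (84, 10), (85, 8), (86, 2), (87, 4), (88, 3), (89, 10), (90, 3), (91, 8), (92, 2), (93, 1), (94, 8), (95, 10), (96, 4), (97, 8), (98, 6), (99, 5), (101, 2), (102, 9), (103, 2), (106, 7), (107, 4), (108,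 6), (109, 5), (110, 7), (111, 10), (112, 3), (113, 10), (114, 3), (115, 2), (116, 7), (117, 7), (119, 1), (120, 9), (121, 5), (122, 4), (123, 9), (124, 3), (125, 8), (126, 9), (127, 7), (128, 8), (129, 4), (130, 5), (131, 2), (132, 9)],
  [(0, 4), (1, 1), (2, 9), (3, 6), (4, 3), (5, 9), (6, 6), (7, 2), (8, 6), (10, 9), (11, 3), (12, 5), (13, 8), (14, 3), (15, 2), (16, 9), (17, 6), (18, 5), (19, 3), (20, 5), (21, 4), (22, 10), (23, 4), (24, 9), (25, 9), (27, 5), (28, 10), (29, 2), (30, 4), (32, 5), (33, 3), (34, 10), (35, 2), (36, 10), (37, 4), (39, 10), (40, 6), (41, 10), (43, 3), (44, 9), (45, 1), (46, 7), (48, 5), (49, 7), (50, 1), (51, 7), (52, 7), (53, 4), (54, 4), (55, 3), (56, 7), (57, 1), (58, 7), (59, 5), (60, 3), (61, 9), (62, 1), (63, 4), (64, 9), (65, 10), (68, 9), (69, 10), (70, 10), (72, 1), (73, 2), (74, 7), (75, 4), (76, 9), (77, 9), (78, 7), (79, 8), (80, 5), (81, 4), (82, 3), (83, 10), (84, 1),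 (85, 2), (86, 6), (87, 7), (88, 7), (89, 8), (90, 8), (91, 5), (92, 8), (93, 9), (94, 1), (95, 6), (96, 3), (97, 10), (98, 1), (99, 1), (100, 1), (101, 2), (102, 2), (103, 3), (104, 6), (105, 8), (106, 8), (107, 2), (108, 8), (109, 7), (110, 7), (111, 7), (112, 8), (113, 2), (114, 6), (115, 7), (116, 3), (117, 7), (118, 5), (119, 8), (120, 10), (121, 6), (122, 6), (123, 3), (124, 8), (125, 4), (126, 7), (128, 10), (129, 8), (130, 3), (131, 9)],
  [(0, 6), (1, 2), (2, 1), (3, 10), (4, 5), (5, 5), (6, 5), (7, 6), (8, 8), (9, 7), (10, 7), (12, 3), (13, 2), (14, 5), (15, 6), (16, 8), (17, 10), (18, 1), (19, 9), (20, 1), (21, 2), (22, 1), (23, 4), (24, 5), (25, 4), (26, 1), (27, 10), (28, 5), (29, 10), (30, 9), (31, 4), (32, 1), (33, 9), (34, 1), (35, 1), (36, 1), (37, 4), (39, 5), (40, 9), (41, 1), (42, 2), (43, 9), (44, 7), (45, 8), (46, 6), (47, 9), (48, 4), (49, 9), (50, 8), (51, 9), (52, 5), (53, 4), (54, 9),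 (55, 5), (57, 10), (59, 5), (60, 10), (61, 9), (62, 8), (63, 6), (64, 6), (65, 2), (66, 4), (67, 5), (68, 6), (69, 9), (70, 1), (71, 2), (72, 9), (73, 1), (75, 8), (76, 6), (77, 5), (78, 8), (79, 4), (80, 3), (81, 3), (82, 8), (83, 1), (84, 1), (85, 5), (86, 6), (87, 4), (88, 7), (89, 10), (90, 5), (91, 6), (92, 6), (93, 3), (94, 1), (95, 1), (96, 4), (97, 10), (98, 6), (99, 3), (100, 6), (101, 9), (102, 9), (103, 4), (104, 9), (105, 3), (106, 8), (107, 8), (108, 1), (109, 5), (110, 5), (111, 6), (112, 4), (113, 7), (114, 10), (116, 9), (117, 6), (118, 10), (119, 2), (120, 2), (121, 6), (122, 7), (123, 5), (124, 1), (125, 5), (127, 6), (128, 1), (129, 8), (130, 1), (131, 8), (132, 8)],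
  [(0, 3), (2, 7), (4, 7), (6, 4), (8, 2), (10, 7), (11, 4), (12, 4), (13, 7), (16, 4), (19, 4), (21, 7), (22, 7), (25, 4), (27, 10), (28, 5), (29, 4), (30, 7), (31, 7), (32, 4), (33, 4), (35, 3), (37, 4), (38, 8), (39, 4), (40, 7), (41, 4), (42, 8), (43, 4), (45, 7), (47, 7), (48, 4), (49, 4), (50, 4), (51, 4), (53, 8), (54, 7), (56, 7), (57, 7), (60, 4), (61, 4), (62, 7), (63, 4), (64, 4), (65, 10), (67, 7), (68, 6), (69, 7), (70, 7), (71, 7), (72, 4), (73, 4), (74, 7), (75, 8), (76, 4), (77, 5), (78, 9), (79, 3), (80, 4), (81, 2), (82, 1), (83, 9), (84, 9), (85, 10), (86, 10), (87, 8), (88, 6), (89, 5), (90, 6), (91, 4), (92, 4), (93, 9), (94, 9), (95, 9), (96, 8), (97, 9), (98, 8), (99, 8), (102, 3), (103, 4), (104, 9), (106, 2), (107, 9), (108, 3), (109, 8), (110, 2), (111, 6), (112, 6), (114, 10), (115, 4), (116, 2), (117, 5), (119, 1), (120, 5), (121, 9), (122, 6), (123, 7), (124, 4), (125, 6), (126, 7),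 (127, 3), (128, 7), (129, 10), (130, 9), (131, 4), (132, 9)],
  [(0, 4), (1, 1), (2, 5), (3, 8), (4, 7), (5, 9), (7, 8), (8, 6), (9, 4), (10, 2), (11, 6), (12, 6), (13, 10), (14, 3), (15, 7), (16, 9), (17, 6), (18, 5), (19, 3), (20, 9), (21, 9), (22, 3), (24, 3), (25, 9), (27, 5), (28, 10), (29, 6), (30, 10), (31, 1), (32, 5), (33, 1), (34, 5), (35, 9), (36, 10), (37, 9), (38, 6), (39, 3), (41, 4), (42, 10), (43, 10), (44, 7), (45, 8), (46, 7), (47, 7), (48, 9), (49, 4), (50, 1), (51, 3), (52, 2), (54, 3), (55, 8), (56, 1), (57, 1), (58, 7), (59, 5), (60, 10), (61, 10), (62, 8), (63, 4), (64, 2), (65, 4), (66, 5), (67, 9), (68, 6), (69, 10), (70, 3), (71, 9), (73, 7), (74, 1), (75, 2), (76, 6), (77, 7), (78, 3), (79, 4), (80, 7), (81, 8), (82, 4), (83, 3), (84, 3), (85, 9), (86, 2), (87, 6), (88, 9), (89, 9), (90, 2), (91, 8), (92, 6), (93, 4), (94, 3), (95, 3), (96, 10), (97, 3), (98, 6), (100, 4), (101, 6),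 (102, 6), (103, 7), (104, 4), (107, 1), (108, 1), (109, 9), (110, 10), (111, 10), (115, 1), (117, 10), (119, 10), (120, 10), (121, 9), (122, 9), (124, 2), (125, 10), (126, 1), (128, 2), (129, 2), (130, 9), (132, 1)],
  [(0, 6), (1, 4), (3, 1), (4, 8), (5, 7), (6, 7), (7, 10), (8, 8), (9, 9), (10, 5), (11, 8), (12, 3), (13, 2), (14, 1), (15, 6), (16, 10), (19, 10), (21, 9), (22, 2), (23, 5), (24, 8), (25, 8), (26, 9), (27, 1), (28, 5), (29, 2), (30, 9), (31, 6), (32, 7), (33, 9), (34, 2), (36, 2), (37, 4), (39, 10), (40, 8), (41, 1), (42, 8), (43, 10), (44, 6), (45, 5), (46, 4), (47, 6), (48, 1), (49, 3), (50, 7), (51, 10), (52, 8), (53, 5), (55, 3), (56, 8), (57, 8), (58, 8), (59, 9), (60, 10), (61, 3), (62, 5), (63, 7), (64, 6), (66, 5), (67, 5), (68, 6), (70, 3), (71, 4), (72, 9), (73, 9), (74, 8), (75, 7), (76, 8), (78, 4), (79, 2), (80, 6), (81, 6), (82, 1), (83, 10), (84, 6), (85, 8), (86, 1), (87, 7), (88,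 6), (89, 5), (90, 8), (91, 7), (92, 6), (93, 6), (95, 2), (96, 2), (97, 10), (98, 5), (100, 8), (101, 6), (102, 4), (103, 4), (104, 8), (105, 6), (106, 9), (107, 4), (108, 2), (109, 10), (110, 7), (112, 1), (113, 4), (114, 4), (115, 4), (116, 4), (117, 9), (118, 4), (119, 6), (120, 2), (121, 10), (122, 1), (124, 4), (126, 4), (127, 5), (130, 7), (131, 2)],
  [(0, 9), (1, 8), (2, 1), (4, 5), (5, 2), (6, 4), (8, 9), (9, 6), (10, 2), (11, 5), (12, 9), (13, 9), (14, 6), (15, 5), (16, 3), (17, 5), (18, 6), (19, 4), (20, 6), (21, 1), (22, 1), (23, 9), (24, 9), (25, 4), (26, 6), (27, 4), (28, 6), (29, 5), (30, 4), (32, 6), (33, 9), (35, 2), (36, 7), (37, 3), (38, 5), (39, 3), (40, 4), (41, 6), (42, 2), (43, 4), (44, 2), (45, 3), (47, 10), (48, 8), (49, 5), (50, 7), (51, 4), (52, 10), (53, 5), (54, 10), (55, 4), (57, 7), (58, 1), (59, 6), (60, 4), (61, 4), (62, 3), (63, 6), (64, 1), (66, 4), (67, 7), (68, 4), (69, 3),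 (70, 7), (71, 3), (72, 10), (73, 8), (75, 7), (76, 4), (77, 1), (78, 8), (79, 6), (80, 2), (82, 3), (83, 6), (84, 5), (85, 10), (86, 8), (87, 2), (88, 1), (89, 7), (90, 7), (91, 3), (92, 8), (93, 2), (94, 9), (95, 9), (96, 10), (97, 9), (98, 8), (99, 6), (100, 5), (101, 9), (102, 9), (103, 4), (104, 7), (105, 9), (106, 1), (107, 2), (108, 5), (110, 9), (111, 4), (113, 2), (114, 8), (115, 1), (116, 6), (117, 8), (118, 7), (119, 10), (120, 9), (121, 6), (122, 3), (123, 6), (124, 6), (125, 7), (126, 1), (127, 6), (129, 10), (130, 2), (131, 9), (132, 1)]]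

/-- data -/
def d4_4 : SMat := [
  [(0, 7), (1, 4), (2, 9), (3, 3), (4, 7), (5, 9), (7, 4), (8, 3), (9, 1), (10, 3), (11, 1), (12, 2), (13, 6), (14, 7), (15, 3), (16, 8), (17, 2), (18, 9), (19, 6), (20, 9), (21, 5), (22, 8), (23, 10), (24, 7), (25, 9), (26, 8), (27, 9), (28, 7), (29, 3), (30, 7), (32, 9), (33, 5), (34, 8), (35, 9), (36, 9), (37, 9), (39, 6), (40, 8), (41, 7), (42, 10), (43, 6), (44, 1), (47, 6), (48, 9), (49, 6), (50, 4), (51, 6), (52, 7), (53, 10), (54, 7), (56, 5), (57, 5), (59, 8), (60, 6), (61, 6), (62, 4), (63, 4), (64, 3), (65, 5), (66, 9), (67, 8), (68, 3), (69, 7), (70, 8), (71, 10), (72, 5), (73, 7), (74, 1), (75, 8), (76, 3), (77, 8), (78, 2), (79, 9), (81, 9), (82, 6), (83, 9), (84, 2), (85, 5), (87, 7), (88, 9), (89, 6), (90, 5), (91, 2), (92, 6), (93, 2), (94, 6), (95, 2), (96, 8), (97, 2), (98, 7), (99, 8), (100, 7), (101, 5), (102, 4), (103, 5), (104, 7), (105, 3), (106, 2), (107,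 10), (108, 10), (109, 9), (111, 9), (112, 10), (113, 10), (114, 8), (115, 10), (116, 7), (117, 9), (118, 9), (119, 2), (120, 8), (121, 7), (122, 8), (123, 10), (124, 1), (126, 9), (127, 4), (128, 4), (129, 2), (130, 10), (131, 8), (132, 3)],
  [(0, 3), (1, 9), (2, 2), (3, 9), (4, 4), (6, 7), (7, 7), (8, 6), (9, 3), (10, 5), (12, 1), (13, 3), (14, 3), (15, 7), (16, 1), (17, 5), (18, 2), (19, 1), (21, 3), (22, 6), (23, 5), (24, 10), (25, 8), (26, 3), (27, 4), (28, 10), (29, 7), (30, 2), (31, 8), (32, 7), (33, 1), (34, 4), (35, 7), (36, 8), (37, 4), (39, 1), (40, 1), (41, 3), (42, 8), (43, 7), (44, 2), (45, 6), (46, 6), (47, 1), (48, 8), (49, 1), (50, 5), (51, 7), (52, 4), (53, 9), (54, 6), (55, 1), (56, 10), (57, 10), (59, 10), (60, 8), (61, 7), (62, 6), (63, 7), (64, 7), (65, 5), (66, 8), (67, 4), (68, 7), (69, 2), (70, 6), (71, 10), (72, 6), (73, 1), (74, 6), (75, 4), (76, 3), (77, 6), (78, 4), (79, 5), (80, 9),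 (81, 7), (82, 9), (83, 4), (84, 4), (85, 8), (86, 2), (87, 4), (88, 8), (89, 1), (90, 10), (92, 4), (93, 5), (94, 4), (95, 4), (96, 6), (97, 7), (98, 4), (99, 4), (100, 2), (101, 8), (102, 8), (103, 9), (104, 2), (105, 3), (106, 1), (107, 3), (108, 5), (109, 9), (110, 10), (111, 5), (112, 2), (113, 6), (114, 6), (115, 2), (116, 6), (117, 8), (118, 6), (119, 10), (120, 1), (121, 9), (122, 10), (124, 9), (125, 4), (126, 2), (127, 7), (128, 2), (129, 3), (130, 1), (131, 10), (132, 7)],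
  [(0, 2), (1, 3), (2, 2), (3, 10), (4, 1), (5, 5), (6, 5), (7, 10), (8, 3), (9, 6), (10, 8), (11, 8), (12, 8), (14, 7), (15, 7), (16, 2), (17, 2), (18, 4), (19, 6), (20, 9), (21, 4), (22, 1), (24, 1), (25, 8), (26, 10), (27, 3), (28, 6), (29, 1), (30, 8), (31, 5), (32, 9), (33, 3), (34, 9), (35, 9), (36, 3), (37, 3), (39, 6), (40, 7), (41, 6), (42, 10), (43, 6), (44, 10), (45, 6), (46, 10), (47, 8), (48, 3), (49, 7), (50, 9), (51, 7), (52, 2), (53, 6), (54, 8), (55, 1), (56, 10), (57, 9), (58, 10), (59, 3), (61, 6), (62, 6), (63, 9), (64, 7), (65, 4), (66, 7), (67, 4), (68, 7), (69, 8), (70, 1), (71, 10), (72, 4), (74, 10), (75, 5), (76, 7), (77, 10), (79, 1), (81, 10), (82, 8), (83, 1), (84, 10), (85, 2), (88, 1), (89, 10), (90, 3), (91, 10), (92, 2), (93, 10), (94, 8), (95, 10), (96, 3), (97, 10), (98, 2), (99, 9), (100, 10), (105, 8), (106, 8), (107, 3), (108, 10), (109, 1), (110, 4), (111, 4), (112, 4), (113,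 10), (114, 9), (115, 3), (116, 10), (119, 1), (120, 6), (121, 10), (122, 10), (123, 3), (125, 9), (126, 10), (127, 1), (128, 1), (129, 4), (130, 10), (131, 10), (132, 1)],
  [(0, 2), (1, 1), (2, 7), (3, 4), (5, 7), (6, 4), (8, 3), (9, 6), (10, 10), (12, 4), (13, 3), (14, 4), (16, 1), (17, 4), (18, 8), (19, 4), (20, 3), (21, 7), (22, 7), (23, 4), (25, 4), (27, 8), (30, 10), (31, 4), (32, 3), (33, 8), (34, 7), (35, 2), (36, 7), (37, 8), (40, 10), (42, 8), (43, 4), (44, 7), (45, 3), (47, 8), (48, 8), (49, 4), (50, 1), (51, 4), (53, 4), (54, 10), (55, 4), (57, 7), (58, 7), (59, 7), (60, 4), (61, 4), (62, 3), (63, 7), (65, 7), (69, 9), (70, 7), (71, 3), (72, 8), (73, 1), (75, 8), (77, 4), (78, 1), (79, 10), (80, 9), (81, 3), (82, 3), (83, 3), (84, 1), (85, 10), (86, 2), (88, 3), (89, 6), (90, 5), (91, 6), (92, 6), (93, 5), (94, 9), (95, 8), (96, 7), (97, 1), (98, 2), (99, 1), (100, 5), (101, 3), (102, 4), (104, 7),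 (105, 6), (106, 9), (107, 4), (108, 3), (110, 10), (111, 2), (113, 4), (114, 4), (115, 3), (116, 6), (117, 9), (118, 4), (119, 10), (120, 2), (121, 1), (124, 4), (125, 10), (126, 4), (127, 7), (128, 9), (129, 2), (130, 8), (131, 4), (132, 10)],
  [(0, 6), (1, 8), (2, 4), (3, 2), (4, 4), (6, 8), (7, 3), (8, 6), (10, 10), (11, 10), (12, 5), (13, 6), (15, 4), (16, 1), (19, 4), (20, 3), (21, 3), (22, 1), (23, 6), (24, 4), (25, 1), (26, 1), (27, 5), (28, 1), (30, 6), (31, 4), (32, 7), (33, 1), (34, 2), (35, 6), (36, 1), (37, 2), (39, 4), (41, 8), (42, 1), (43, 1), (44, 5), (45, 2), (47, 3), (48, 9), (49, 7), (50, 4), (51, 3), (52, 3), (53, 7), (54, 2), (55, 7), (56, 4), (57, 4), (58, 4), (59, 7), (60, 7), (61, 8), (62, 10), (63, 10), (64, 4), (65, 8), (66, 8), (67, 10), (68, 4), (69, 7), (70, 1), (71, 4), (73, 9), (74, 4), (75, 10), (76, 1), (77, 7), (78, 5), (79, 6), (80, 10), (81, 8), (82, 5), (83, 2), (84, 1), (85,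 4), (86, 10), (87, 7), (89, 8), (90, 8), (91, 7), (92, 1), (93, 4), (94, 6), (95, 8), (97, 8), (98, 1), (99, 1), (100, 8), (101, 4), (102, 4), (103, 5), (104, 6), (105, 8), (106, 8), (107, 9), (109, 2), (110, 1), (111, 3), (112, 2), (113, 10), (115, 7), (116, 3), (117, 1), (118, 4), (119, 2), (120, 5), (121, 2), (122, 2), (123, 2), (124, 2), (125, 2), (126, 1), (127, 9), (128, 10), (129, 4), (130, 10), (132, 1)],
  [(0, 1), (1, 8), (2, 8), (3, 10), (4, 1), (5, 10), (7, 10), (8, 8), (9, 10), (10, 2), (11, 10), (12, 8), (13, 8), (14, 6), (16, 3), (17, 7), (18, 8), (19, 2), (20, 10), (21, 9), (22, 5), (24, 1), (25, 9), (26, 10), (27, 6), (28, 10), (29, 7), (30, 7), (31, 5), (32, 10), (33, 4), (34, 4), (35, 3), (36, 4), (37, 3), (39, 2), (40, 1), (41, 6), (42, 5), (43, 7), (44, 4), (46, 5), (47, 2), (48, 2), (49, 6), (50, 4), (51, 7), (52, 1), (53, 7), (54, 3), (55, 6), (56, 5), (57, 5), (58, 4), (59, 5), (60, 6),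 (61, 6), (62, 7), (63, 10), (65, 10), (66, 2), (67, 4), (69, 7), (70, 5), (71, 9), (72, 9), (73, 10), (74, 9), (75, 10), (76, 7), (77, 6), (78, 9), (79, 7), (80, 6), (81, 10), (82, 3), (83, 1), (84, 9), (85, 8), (86, 7), (87, 9), (88, 8), (89, 4), (90, 8), (91, 6), (92, 4), (93, 10), (94, 7), (95, 1), (96, 9), (97, 10), (98, 7), (99, 1), (100, 2), (101, 2), (102, 5), (103, 6), (105, 4), (106, 3), (107, 7), (108, 10), (109, 2), (110, 7), (111, 8), (112, 2), (113, 3), (114, 9), (115, 5), (116, 7), (117, 7), (118, 3), (119, 8), (120, 10), (121, 6), (122, 2), (123, 2), (124, 1), (125, 9), (126, 5), (128, 1), (129, 4), (130, 7), (131, 10), (132, 7)],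
  [(1, 2), (2, 3), (3, 3), (4, 7), (5, 4), (7, 4), (8, 9), (9, 6), (10, 4), (11, 2), (12, 1), (13, 7), (14, 7), (15, 3), (16, 6), (17, 1), (18, 3), (19, 1), (20, 10), (21, 6), (22, 8), (23, 3), (24, 7), (25, 4), (26, 6), (27, 8), (28, 6), (29, 9), (30, 2), (31, 9), (33, 10), (34, 8), (35, 3), (36, 8), (37, 8), (38, 1), (39, 1), (40, 8), (41, 2), (42, 5), (43, 1), (44, 8), (45, 4), (46, 6), (47, 10), (48, 8), (49, 5), (50, 2), (51, 5), (52, 7), (53, 10), (54, 9), (55, 5), (56, 10), (57, 6), (59, 8), (60, 5), (61, 5), (63, 10), (64, 9), (65, 5), (66, 3), (67, 2), (68, 2), (69, 2), (70, 8), (71, 5), (72, 5), (73, 5), (74, 10), (75, 2), (76, 9), (77, 8), (78, 4), (79, 9), (80, 10), (81, 2), (82, 7), (83, 2), (84, 2), (85, 9), (87, 6), (88, 8), (89, 2), (90, 4), (91, 2), (92, 6), (93, 7), (94, 2), (95, 2), (96, 7), (97, 8), (99, 4), (100, 7), (102, 10), (103, 4), (104, 1), (105, 6), (106, 6), (107, 6), (109, 5), (110,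 5), (111, 5), (112, 5), (113, 5), (115, 1), (116, 5), (117, 5), (118, 5), (119, 4), (120, 10), (121, 5), (122, 5), (123, 5), (125, 5), (126, 10), (128, 2), (129, 1)],
  [(0, 3), (1, 2), (2, 7), (3, 4), (4, 10), (5, 3), (7, 4), (8, 3), (10, 4), (12, 10), (13, 8), (16, 7), (17, 10), (18, 3), (20, 1), (21, 8), (22, 3), (23, 3), (25, 4), (26, 7), (27, 3), (29, 9), (30, 8), (31, 6), (32, 1), (33, 4), (34, 4), (35, 7), (36, 6), (37, 10), (38, 5), (39, 5), (41, 7), (42, 1), (43, 10), (44, 8), (45, 3), (47, 3), (48, 4), (49, 4), (50, 7), (51, 8), (52, 4), (53, 4), (54, 8), (55, 10), (56, 3), (57, 7), (58, 7), (60, 8), (62, 3), (63, 1), (64, 1), (65, 1), (66, 4), (67, 10), (68, 4), (69, 3), (70, 7), (71, 3), (72, 8), (73, 7), (74, 6), (75, 4), (76, 4), (77, 4), (78, 4), (79, 5), (80, 5), (81, 4), (82, 2), (83, 2), (85, 5), (86, 4), (87, 5), (88, 9), (89, 4), (91, 3), (92, 10), (93, 10), (94, 1), (95, 7), (96, 6), (97,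 10), (98, 5), (99, 1), (100, 10), (101, 6), (102, 5), (103, 7), (104, 1), (106, 6), (107, 4), (108, 10), (109, 7), (110, 8), (111, 6), (112, 6), (113, 4), (114, 10), (115, 9), (116, 4), (117, 8), (118, 3), (119, 7), (120, 4), (121, 7), (122, 8), (124, 7), (125, 7), (126, 9), (127, 2), (128, 10), (129, 10), (130, 2), (132, 3)]]

/-- data -/
def d4_5 : SMat := [
  [(0, 1), (2, 9), (3, 10), (4, 2), (5, 5), (6, 7), (7, 9), (8, 9), (9, 2), (10, 2), (11, 1), (12, 2), (13, 5), (14, 2), (15, 4), (16, 2), (17, 2), (18, 9), (20, 9), (22, 9), (23, 5), (24, 6), (25, 4), (26, 2), (27, 4), (28, 6), (29, 8), (30, 6), (31, 5), (32, 2), (33, 10), (34, 7), (35, 9), (36, 3), (37, 4), (39, 7), (40, 6), (41, 2), (42, 10), (44, 6), (45, 10), (46, 4), (47, 7), (48, 4), (49, 7), (52, 2), (53, 9), (54, 7), (55, 7), (57, 10), (62, 10), (63, 2), (64, 8), (65, 4), (66, 8), (67, 3), (68, 8), (69, 6), (70, 8), (72, 6), (73, 8), (75, 3), (76,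 8), (77, 1), (78, 8), (79, 1), (80, 3), (81, 9), (82, 6), (83, 9), (85, 10), (86, 10), (87, 10), (88, 2), (89, 2), (90, 3), (91, 6), (92, 7), (93, 9), (94, 2), (96, 10), (97, 2), (98, 8), (99, 10), (100, 7), (101, 5), (102, 10), (103, 7), (104, 2), (105, 6), (106, 5), (107, 3), (109, 6), (110, 4), (111, 5), (112, 5), (113, 5), (114, 2), (115, 10), (116, 6), (117, 7), (118, 4), (119, 5), (120, 2), (121, 7), (122, 7), (123, 4), (124, 9), (125, 7), (128, 9), (129, 10), (130, 1), (131, 9), (132, 10)],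
  [(0, 2), (1, 9), (2, 8), (4, 5), (5, 2), (7, 6), (8, 7), (10, 2), (11, 1), (12, 10), (13, 2), (14, 5), (15, 5), (16, 4), (17, 10), (18, 1), (19, 5), (20, 1), (21, 6), (23, 1), (24, 5), (25, 4), (27, 4), (29, 10), (30, 9), (32, 1), (33, 8), (34, 1), (35, 1), (36, 1), (37, 4), (39, 5), (40, 8), (41, 5), (42, 3), (43, 1), (44, 6), (45, 4), (46, 6), (47, 10), (48, 4), (49, 5), (50, 9), (51, 5), (52, 5), (53, 5), (54, 2), (55, 5), (56, 6), (57, 6), (58, 6), (59, 1), (60, 5), (61, 5), (62, 8), (63, 6), (64, 5), (65, 1), (66, 10), (67, 2), (68, 5), (69, 2), (71, 1), (72, 3), (73, 8), (74, 6), (75, 8), (76, 5), (77, 5), (80, 4), (81, 2), (82, 1), (83, 9), (84, 9), (85, 10), (86, 1), (87, 2), (88, 10), (89, 5), (90, 6), (91, 5), (92, 3), (93, 2), (94, 9), (95, 7), (96, 8), (97, 2), (98, 1), (99, 10), (100, 7), (102, 3), (103, 4), (105, 2), (106, 1), (107, 9), (108, 10), (110, 2), (111, 10), (113, 9), (114, 9), (115,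 8), (116, 8), (117, 1), (118, 9), (119, 3), (120, 10), (124, 9), (126, 9), (127, 4), (130, 2), (131, 9), (132, 1)],
  [(0, 6), (1, 4), (2, 9), (3, 4), (4, 6), (5, 8), (6, 7), (7, 5), (8, 9), (10, 3), (11, 2), (12, 2), (13, 7), (14, 7), (15, 2), (16, 2), (17, 1), (18, 9), (19, 6), (20, 9), (21, 5), (23, 10), (24, 7), (25, 9), (26, 7), (27, 9), (28, 7), (29, 3), (30, 7), (31, 10), (32, 5), (33, 4), (34, 9), (35, 8), (36, 8), (37, 8), (38, 1), (39, 7), (40, 7), (41, 7), (42, 5), (43, 7), (44, 1), (46, 1), (47, 5), (48, 2), (49, 6), (50, 4), (51, 6), (52, 7), (54, 7), (55, 10), (56, 4), (57, 4), (59, 9), (60, 7), (61, 6), (63, 5), (64, 3), (65, 6), (66, 9), (67, 8), (68, 7), (69, 7), (70, 7), (71, 4), (72, 4), (73, 5), (75, 7), (76, 3), (77, 1), (78, 6), (81, 2), (83, 2), (84, 5), (85, 8), (86, 5), (87, 5), (88, 5), (89, 8), (90, 8), (92, 5), (93, 2), (94, 8), (95, 5), (96, 5), (97, 8), (98, 2), (99, 3), (100, 6),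 (101, 3), (102, 3), (103, 5), (104, 3), (105, 8), (106, 1), (107, 6), (108, 3), (109, 10), (110, 6), (111, 8), (112, 9), (113, 4), (114, 7), (115, 8), (116, 5), (117, 7), (119, 3), (120, 2), (121, 8), (122, 5), (123, 1), (124, 6), (126, 9), (127, 8), (128, 7), (129, 8), (130, 6), (131, 2), (132, 10)],
  [(0, 1), (1, 1), (2, 9), (3, 3), (4, 6), (5, 9), (6, 8), (7, 4), (8, 8), (9, 5), (10, 5), (11, 9), (12, 3), (13, 1), (14, 5), (15, 7), (16, 3), (17, 2), (18, 1), (19, 1), (20, 5), (21, 10), (23, 6), (24, 9), (25, 8), (26, 1), (27, 8), (28, 6), (29, 7), (30, 2), (31, 10), (32, 5), (33, 10), (34, 3), (35, 8), (36, 3), (37, 9), (39, 8), (40, 3), (41, 6), (42, 10), (43, 7), (44, 2), (45, 6), (48, 4), (50, 8), (51, 7), (52, 1), (53, 6), (54, 9), (55, 7), (61, 8), (62, 3), (63, 1), (64, 7), (65, 7), (66, 9), (67, 7), (68, 7), (69, 3), (72, 2), (73, 5), (75, 7), (76, 4), (77, 7), (78, 5), (79, 8), (80, 7), (81, 6), (82,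 3), (83, 10), (84, 1), (85, 4), (86, 10), (87, 7), (89, 10), (90, 8), (91, 5), (92, 1), (93, 2), (94, 9), (95, 8), (96, 3), (97, 10), (98, 3), (99, 10), (100, 8), (101, 2), (102, 2), (103, 5), (104, 4), (105, 9), (106, 9), (107, 10), (108, 2), (109, 6), (110, 6), (111, 6), (112, 7), (113, 10), (114, 6), (115, 7), (116, 2), (117, 6), (118, 8), (119, 7), (120, 10), (121, 5), (122, 5), (123, 2), (124, 8), (125, 7), (126, 7), (128, 3), (129, 8), (130, 3), (131, 5), (132, 6)],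
  [(0, 2), (1, 7), (2, 1), (3, 8), (7, 6), (8, 8), (9, 5), (10, 1), (11, 4), (12, 8), (13, 7), (14, 5), (15, 2), (16, 7), (17, 4), (18, 8), (19, 10), (20, 7), (21, 8), (22, 3), (23, 6), (24, 1), (25, 3), (26, 6), (27, 9), (28, 2), (29, 1), (30, 4), (31, 3), (32, 7), (33, 5), (34, 5), (35, 7), (36, 5), (37, 5), (39, 10), (40, 5), (41, 1), (42, 8), (43, 4), (44, 5), (45, 2), (46, 8), (47, 6), (48, 4), (49, 7), (50, 7), (51, 3), (52, 4), (53, 2), (54, 10), (55, 3), (56, 7), (57, 1), (58, 1), (59, 6), (60, 3), (61, 4), (62, 2), (63, 7), (64, 2), (65, 9), (66, 5), (67, 9), (68, 2), (69, 4), (70, 3), (71, 9), (72, 8), (73, 2), (74, 5), (76, 2), (77, 5), (78, 9), (79, 4), (80, 4), (82, 2), (83, 2), (85, 9), (86, 4), (87, 6), (88, 6), (90, 4), (91, 7), (92, 4), (93, 4), (94, 9), (96, 4), (97, 7), (98, 10), (99, 1), (100, 9), (101, 2), (102, 9), (103, 4), (104, 9), (105, 7), (106, 9), (107, 2), (108, 1), (109, 3), (110,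 9), (111, 2), (113, 3), (114, 5), (115, 3), (116, 6), (117, 4), (118, 4), (119, 8), (120, 5), (121, 3), (122, 2), (123, 1), (126, 5), (127, 5), (128, 7), (129, 9), (130, 10), (131, 3), (132, 8)],
  [(0, 6), (1, 5), (3, 7), (4, 1), (5, 3), (6, 7), (7, 4), (8, 4), (9, 7), (10, 3), (11, 6), (12, 8), (13, 10), (14, 8), (15, 4), (16, 8), (17, 8), (18, 10), (19, 6), (20, 7), (21, 4), (22, 8), (24, 8), (25, 4), (26, 8), (27, 5), (28, 3), (29, 8), (30, 7), (32, 7), (33, 5), (34, 7), (35, 4), (36, 7), (38, 10), (39, 4), (40, 2), (42, 5), (43, 7), (45, 5), (47, 1), (48, 8), (50, 5), (51, 7), (52, 1), (53, 3), (54, 10), (59, 3), (60, 1), (61, 7), (62, 5), (63, 3), (64, 8), (66, 9), (67, 3), (68, 10), (69, 7), (70, 9), (72, 9), (73, 9), (74, 8), (75, 9), (76, 8), (77, 8), (78, 3), (79, 2), (80, 6), (81, 8), (82, 8), (83, 8), (84, 8), (85, 2), (86, 1), (87, 6), (88, 9), (89, 8), (90, 8), (91, 2), (92, 6), (93, 3), (94, 8),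 (95, 8), (97, 2), (98, 1), (99, 10), (100, 1), (103, 10), (104, 10), (105, 4), (106, 3), (107, 8), (108, 1), (109, 8), (110, 2), (111, 3), (112, 4), (113, 9), (114, 7), (115, 2), (116, 10), (117, 4), (118, 7), (120, 5), (121, 8), (122, 9), (123, 7), (124, 10), (125, 9), (126, 3), (127, 5), (128, 7), (129, 8), (130, 10), (131, 1), (132, 8)],
  [(0, 8), (1, 4), (2, 9), (3, 6), (4, 6), (5, 5), (6, 7), (7, 9), (8, 2), (9, 10), (10, 2), (12, 9), (13, 1), (14, 5), (15, 1), (16, 9), (17, 2), (18, 9), (19, 7), (20, 5), (21, 4), (22, 9), (23, 8), (24, 2), (25, 8), (26, 6), (27, 8), (28, 10), (29, 5), (31, 7), (32, 9), (33, 3), (34, 3), (35, 9), (36, 10), (37, 4), (39, 7), (40, 7), (41, 6), (42, 3), (43, 7), (44, 3), (45, 2), (46, 5), (47, 7), (48, 4), (49, 7), (50, 4), (51, 7), (52, 6), (53, 1), (55, 3), (57, 4), (59, 10), (60, 6), (61, 3), (62, 2), (63, 5), (64, 5), (65, 8), (66, 1), (67, 9), (68, 5), (69, 7), (70, 9),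 (72, 7), (73, 5), (76, 5), (77, 7), (78, 5), (79, 6), (80, 8), (81, 8), (82, 5), (83, 4), (84, 1), (85, 4), (86, 10), (87, 7), (89, 8), (90, 8), (91, 7), (92, 1), (93, 4), (94, 6), (95, 8), (97, 8), (98, 1), (99, 1), (100, 8), (101, 4), (102, 4), (103, 5), (104, 6), (105, 3), (106, 3), (107, 9), (109, 2), (110, 7), (111, 8), (112, 2), (113, 4), (115, 7), (116, 8), (117, 7), (118, 3), (119, 2), (120, 10), (121, 2), (122, 2), (123, 2), (124, 1), (125, 2), (126, 6), (127, 10), (128, 3), (129, 8), (130, 5), (132, 6)],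
  [(0, 7), (1, 9), (2, 3), (3, 8), (4, 8), (5, 4), (6, 7), (7, 3), (8, 3), (10, 5), (11, 7), (12, 8), (13, 6), (15, 8), (16, 8), (17, 8), (18, 10), (19, 1), (20, 10), (21, 10), (22, 7), (23, 5), (24, 8), (25, 8), (26, 7), (27, 8), (28, 7), (29, 7), (30, 6), (31, 5), (32, 3), (34, 7), (35, 4), (36, 8), (37, 5), (38, 10), (39, 7), (40, 2), (41, 7), (42, 4), (44, 2), (45, 10), (46, 10), (47, 6), (48, 4), (49, 5), (50, 9), (53, 5), (54, 2), (55, 1), (56, 7), (59, 4), (60, 4), (61, 7), (62, 6), (63, 10), (64, 7), (65, 5), (66, 8), (67, 1), (68, 3), (69, 2), (70, 7), (71, 7), (72, 9), (73, 7), (75, 8), (76, 3), (77, 2), (78, 2), (79, 3), (81, 9), (82, 3), (83, 3), (86, 7), (88, 7), (89, 9), (91, 2), (92, 7), (93, 7), (94, 9), (95, 9), (96, 5), (97, 9), (98, 9), (99, 2), (100, 4), (101, 2), (103, 9), (104, 2), (105, 1), (106, 9), (107, 8), (108, 4), (109, 6), (110, 4), (111, 10), (112, 9), (113, 5), (114, 7), (115, 1),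 (116, 7), (117, 7), (118, 9), (119, 4), (120, 5), (121, 6), (122, 9), (123, 5), (124, 5), (125, 7), (126, 9), (127, 1), (128, 8), (129, 5), (130, 7), (131, 6), (132, 3)]]

/-- data -/
def d4_6 : SMat := [
  [(0, 3), (1, 2), (3, 3), (5, 7), (6, 5), (8, 2), (9, 2), (10, 9), (11, 10), (12, 9), (13, 7), (14, 10), (15, 6), (16, 2), (17, 4), (18, 7), (19, 4), (20, 7), (21, 2), (22, 8), (23, 3), (25, 4), (26, 2), (27, 4), (28, 10), (29, 10), (30, 9), (31, 5), (33, 10), (34, 5), (35, 7), (36, 6), (39, 4), (40, 5), (41, 6), (42, 8), (43, 9), (44, 8), (45, 8), (47, 9), (48, 10), (49, 9), (50, 2), (51, 9), (52, 4), (53, 9), (54, 9), (55, 5), (56, 7), (57, 2), (59, 5), (60, 9), (61, 5), (62, 8), (64, 6), (65, 2), (66, 4), (67, 5), (68, 6), (69, 2), (70, 8), (71, 9), (72, 3), (73, 8), (74, 7), (75, 10), (76, 6), (77, 9), (78, 10), (80, 10), (81, 1), (82, 10), (83, 2), (84, 10), (85, 2), (86, 3), (87, 1), (88, 2), (89, 10),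 (90, 3), (91, 9), (92, 2), (93, 1), (94, 1), (96, 1), (97, 1), (98, 1), (99, 7), (100, 9), (101, 10), (102, 1), (103, 1), (104, 9), (105, 3), (106, 3), (107, 1), (108, 8), (109, 7), (110, 10), (111, 7), (113, 8), (114, 4), (115, 1), (116, 4), (117, 7), (118, 1), (119, 10), (120, 6), (121, 4), (122, 3), (123, 3), (124, 5), (125, 7), (126, 9), (127, 2), (128, 8), (130, 10), (131, 8), (132, 4)],
  [(0, 7), (1, 8), (2, 9), (3, 2), (4, 2), (5, 4), (6, 7), (7, 9), (8, 9), (9, 6), (10, 6), (11, 7), (12, 2), (13, 1), (14, 6), (15, 9), (16, 2), (17, 2), (18, 5), (19, 7), (20, 5), (22, 9), (23, 4), (24, 2), (25, 8), (26, 2), (27, 8), (28, 7), (29, 3), (30, 7), (31, 4), (32, 9), (34, 7), (35, 9), (36, 2), (37, 4), (40, 3), (41, 2), (42, 4), (44, 3), (45, 5), (46, 5), (47, 10), (48, 4), (50, 8), (52, 6), (53, 4), (54, 7), (55, 6), (56, 7), (58, 1), (59, 3), (60, 4), (61, 7), (62, 5), (63, 5), (64, 9), (65, 5), (66, 9), (67,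 6), (68, 9), (69, 3), (70, 2), (71, 7), (72, 4), (73, 1), (75, 9), (76, 9), (77, 9), (78, 9), (79, 2), (80, 7), (82, 4), (83, 4), (85, 7), (86, 9), (87, 2), (88, 2), (91, 4), (92, 2), (93, 7), (94, 7), (95, 2), (96, 6), (97, 7), (98, 2), (99, 4), (101, 6), (102, 4), (103, 2), (104, 4), (105, 3), (106, 4), (107, 7), (108, 1), (109, 6), (110, 3), (111, 6), (112, 5), (113, 8), (114, 3), (115, 2), (116, 9), (117, 4), (118, 8), (119, 4), (120, 3), (121, 7), (122, 5), (123, 6), (124, 3), (125, 5), (126, 4), (127, 7), (128, 9), (129, 10), (130, 9), (131, 1)],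
  [(1, 6), (2, 9), (3, 6), (4, 7), (5, 9), (7, 4), (8, 10), (9, 8), (10, 1), (11, 4), (12, 1), (13, 6), (14, 7), (15, 4), (17, 2), (18, 10), (19, 10), (20, 1), (21, 6), (22, 1), (23, 2), (24, 3), (25, 8), (26, 8), (27, 9), (28, 8), (29, 10), (30, 4), (31, 7), (32, 5), (33, 1), (34, 8), (35, 9), (36, 1), (37, 9), (39, 6), (40, 9), (41, 8), (42, 6), (43, 10), (44, 6), (45, 3), (46, 1), (47, 4), (48, 9), (49, 9), (50, 8), (51, 5), (52, 2), (53, 9), (54, 4), (55, 10), (56, 5), (57, 1), (58, 5), (59, 8), (60, 4), (61, 10), (63, 5), (65, 2), (66, 9), (69, 4), (70, 5), (71, 7), (73, 6), (74, 5), (75, 4), (86, 2), (87, 9), (88, 2), (92, 10), (98, 2), (100, 6), (101, 9), (102, 2), (105, 9), (106, 4), (107, 7), (108, 4), (109, 7), (110, 1), (111, 2), (112, 7), (113, 3), (114, 8), (115, 10), (116, 6), (118, 9), (119, 5), (120, 4), (122, 4), (123, 1), (124, 3), (125, 1), (127, 2), (128, 3), (129, 7), (130, 4), (131, 8), (132,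 4)],
  [(0, 10), (1, 8), (2, 9), (3, 1), (4, 2), (5, 4), (6, 4), (7, 9), (8, 5), (9, 3), (10, 10), (11, 10), (12, 5), (13, 7), (14, 3), (15, 5), (16, 10), (17, 6), (18, 9), (19, 10), (20, 9), (21, 8), (22, 6), (24, 7), (25, 5), (26, 7), (27, 9), (28, 7), (29, 6), (30, 3), (31, 7), (32, 5), (34, 6), (35, 4), (36, 1), (37, 2), (38, 1), (39, 4), (40, 3), (41, 3), (43, 4), (44, 4), (45, 8), (46, 1), (47, 9), (48, 9), (49, 10), (50, 8), (51, 4), (52, 3), (53, 7), (54, 10), (55, 10), (59, 5), (61, 3), (62, 8), (63, 9), (64, 6), (65, 6), (66, 9), (67, 1), (68, 10), (69, 3), (70, 6), (72, 7), (73, 6), (74, 4), (75, 10), (76, 10), (77, 2), (78, 10), (79, 7), (80, 8), (81, 3), (82, 4), (83, 1), (84, 1), (85, 9), (86, 7), (87, 8), (89, 3), (90, 10), (91, 2), (92, 1), (93, 2), (95, 9), (96, 7), (97, 9), (98, 10), (99, 1), (100, 10), (101, 9), (102, 2), (103, 2), (104, 10), (105, 5), (106, 9), (107, 7), (108, 4), (109, 8),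 (110, 3), (111, 2), (112, 2), (113, 5), (114, 4), (115, 9), (116, 10), (117, 3), (118, 7), (119, 4), (120, 4), (121, 1), (122, 3), (123, 1), (124, 3), (125, 4), (126, 9), (127, 2), (128, 1), (129, 5), (130, 6), (131, 4), (132, 1)],
  [(0, 2), (2, 7), (3, 6), (5, 6), (6, 4), (7, 7), (8, 3), (9, 7), (10, 1), (11, 10), (12, 8), (13, 3), (14, 7), (15, 1), (16, 8), (17, 4), (19, 8), (21, 8), (22, 1), (23, 3), (24, 4), (28, 1), (29, 1), (30, 3), (31, 10), (32, 1), (33, 9), (35, 7), (36, 6), (37, 8), (39, 4), (40, 7), (42, 9), (43, 4), (44, 1), (45, 2), (46, 1), (47, 10), (48, 4), (49, 10), (50, 4), (51, 4), (52, 1), (53, 3), (54, 3), (55, 10), (59, 4), (61, 8), (62, 6), (63, 5), (64, 1), (65, 1), (66, 5), (67, 2), (68, 1), (69, 7), (70, 8), (73, 8), (75, 3), (76, 5), (77, 6), (78, 7), (79, 10), (80, 5), (82, 10), (83, 7), (84, 6), (85, 5), (86, 9), (88, 6), (89, 10), (90, 7), (92, 10), (93, 10), (94, 5), (95, 5), (96,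 7), (97, 10), (98, 5), (99, 5), (101, 5), (102, 6), (104, 6), (105, 7), (106, 7), (107, 5), (108, 10), (109, 5), (110, 6), (111, 6), (112, 6), (113, 4), (114, 8), (116, 4), (117, 4), (118, 5), (119, 6), (120, 9), (121, 4), (122, 4), (123, 5), (124, 1), (125, 5), (126, 10), (127, 2), (128, 2), (129, 1), (131, 10), (132, 1)],
  [(0, 3), (1, 4), (2, 2), (3, 3), (4, 10), (5, 1), (7, 1), (8, 6), (9, 4), (10, 7), (11, 5), (12, 5), (13, 3), (14, 4), (15, 3), (16, 5), (17, 10), (18, 6), (19, 6), (20, 1), (21, 5), (22, 8), (23, 2), (24, 10), (25, 9), (26, 4), (27, 9), (28, 4), (29, 3), (30, 7), (31, 7), (32, 1), (33, 2), (34, 8), (35, 1), (36, 8), (37, 9), (39, 6), (40, 8), (41, 4), (42, 8), (43, 7), (44, 9), (46, 5), (47, 6), (48, 9), (49, 6), (50, 4), (51, 6), (52, 10), (53, 7), (54, 7), (55, 6), (56, 5), (57, 5), (59, 8), (60, 6), (61, 6), (62, 4), (63, 1), (64, 3), (65, 10), (66, 9), (67, 8), (68, 3), (69, 7), (70,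 8), (71, 5), (72, 7), (73, 7), (74, 1), (76, 3), (77, 3), (78, 1), (79, 5), (80, 3), (81, 10), (82, 9), (83, 10), (84, 10), (85, 5), (86, 4), (87, 1), (89, 10), (90, 2), (91, 6), (92, 4), (93, 2), (94, 10), (95, 10), (96, 6), (97, 7), (98, 4), (99, 1), (100, 2), (102, 2), (103, 6), (104, 5), (105, 7), (106, 5), (107, 2), (108, 9), (109, 6), (110, 7), (111, 6), (112, 6), (113, 6), (114, 8), (115, 5), (116, 2), (117, 6), (118, 6), (119, 2), (120, 1), (121, 4), (122, 6), (123, 6), (125, 8), (126, 1), (127, 3), (128, 6), (129, 6), (131, 7), (132, 3)],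
  [(0, 1), (1, 4), (2, 3), (3, 8), (4, 7), (5, 3), (6, 7), (7, 10), (8, 3), (9, 7), (10, 3), (11, 1), (12, 1), (14, 7), (15, 3), (16, 4), (17, 8), (18, 4), (19, 1), (20, 4), (21, 10), (22, 3), (23, 5), (24, 7), (25, 3), (26, 7), (27, 10), (28, 7), (29, 3), (30, 7), (31, 4), (32, 3), (34, 8), (35, 3), (36, 8), (37, 4), (40, 6), (41, 7), (44, 6), (45, 4), (46, 10), (47, 1), (48, 4), (49, 5), (50, 4), (51, 1), (52, 7), (53, 5), (54, 8), (55, 1), (58, 4), (59, 8), (61, 5), (62, 4), (63, 4), (64, 3), (65, 10), (66, 10), (67, 8), (68, 3), (69, 7), (70, 2), (73, 1), (75, 7), (76, 3), (77, 7), (78, 1), (79, 1), (80, 9), (81, 1), (82, 3), (83, 6), (84, 1), (85, 6), (86, 7), (87, 9), (88, 2), (89, 1), (91, 3), (92, 7), (93, 10), (94, 7), (95, 1), (96, 3), (97, 3), (98, 7), (99, 10), (100, 4), (103, 2), (104, 8), (105, 5), (106, 4), (107, 7), (108, 1), (109, 5), (110, 4), (111, 5), (112, 6), (113, 6), (114, 8), (115, 1),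 (116, 3), (117, 5), (118, 5), (119, 7), (120, 8), (121, 3), (122, 4), (123, 7), (124, 3), (125, 5), (127, 2), (128, 2), (129, 3), (130, 9), (131, 1), (132, 2)],
  [(0, 5), (1, 3), (2, 7), (3, 9), (4, 9), (5, 7), (6, 7), (7, 6), (8, 5), (9, 7), (10, 7), (12, 6), (13, 4), (14, 9), (15, 8), (16, 5), (18, 8), (19, 2), (21, 10), (22, 6), (23, 3), (24, 5), (25, 1), (26, 10), (27, 2), (28, 10), (30, 1), (31, 4), (33, 7), (34, 8), (35, 6), (36, 8), (37, 5), (39, 6), (40, 9), (41, 10), (42, 5), (43, 2), (44, 5), (45, 7), (46, 1), (48, 2), (49, 1), (50, 3), (51, 1), (52, 8), (53, 3), (54, 1), (55, 7), (56, 1), (57, 5), (58, 1), (59, 4), (60, 5), (61, 9), (62, 7), (63, 3), (64, 1), (65, 6), (66, 9), (67, 2), (68, 1), (69, 8), (70, 6), (72, 10), (73, 6), (74, 1), (75, 10), (76, 1), (77, 7), (78, 5), (79, 8), (80, 7), (81, 6), (82, 3), (83, 10), (84, 1), (85, 4), (86, 10), (87, 7), (89, 10), (90, 8), (91, 5), (92, 1), (93,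 2), (95, 8), (96, 1), (97, 10), (98, 3), (99, 10), (100, 8), (101, 2), (102, 2), (103, 5), (104, 4), (105, 6), (106, 6), (107, 9), (108, 4), (109, 2), (110, 2), (111, 2), (112, 8), (113, 9), (114, 8), (115, 3), (116, 5), (117, 2), (118, 5), (119, 8), (120, 5), (121, 7), (122, 7), (123, 5), (124, 9), (125, 10), (126, 3), (128, 9), (129, 9), (130, 2), (132, 5)]]

/-- data -/
def d4_7 : SMat := [
  [(0, 5), (1, 4), (2, 5), (3, 3), (4, 8), (5, 7), (6, 1), (7, 7), (8, 4), (10, 4), (11, 9), (12, 6), (13, 6), (14, 1), (15, 5), (17, 5), (18, 5), (19, 9), (20, 2), (21, 9), (22, 7), (24, 9), (25, 8), (26, 7), (27, 2), (28, 1), (30, 6), (31, 10), (32, 7), (33, 5), (34, 1), (35, 1), (36, 1), (37, 7), (38, 5), (39, 9), (40, 6), (41, 8), (43, 2), (45, 8), (46, 4), (47, 8), (48, 7), (49, 8), (50, 9), (51, 2), (52, 9), (53, 5), (54, 7), (55, 7), (57, 3), (58, 6), (59, 6), (60, 2), (61, 8), (62, 8), (63, 3), (64, 6), (65, 7),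 (66, 7), (67, 5), (68, 9), (69, 6), (70, 8), (71, 8), (72, 5), (73, 10), (74, 9), (76, 6), (77, 3), (78, 9), (79, 3), (80, 2), (82, 2), (84, 5), (85, 9), (86, 8), (87, 3), (88, 3), (89, 10), (90, 7), (91, 8), (92, 6), (93, 5), (94, 10), (95, 5), (96, 9), (97, 5), (98, 3), (99, 8), (100, 6), (101, 2), (102, 8), (103, 2), (104, 6), (105, 5), (106, 4), (107, 4), (108, 1), (109, 7), (110, 7), (111, 6), (112, 6), (113, 5), (114, 1), (115, 10), (116, 9), (117, 8), (118, 5), (119, 6), (120, 5), (121, 10), (122, 7), (123, 6), (124, 7), (125, 6), (126, 3), (127, 10), (128, 6), (129, 10), (130, 2), (131, 2), (132, 9)],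
  [(0, 7), (1, 1), (2, 7), (3, 5), (4, 7), (5, 7), (7, 4), (8, 3), (9, 3), (10, 6), (11, 1), (12, 8), (13, 4), (14, 7), (15, 10), (16, 1), (17, 4), (18, 3), (19, 4), (20, 6), (21, 10), (22, 1), (23, 1), (25, 4), (26, 3), (28, 3), (29, 7), (30, 3), (31, 4), (34, 8), (35, 7), (36, 4), (39, 8), (40, 6), (41, 3), (42, 1), (43, 4), (44, 1), (45, 4), (46, 7), (47, 5), (49, 8), (50, 1), (51, 1), (52, 4), (53, 5), (54, 3), (55, 4), (56, 3), (57, 8), (58, 3), (59, 8), (60, 5), (61, 4), (62, 6), (64, 3), (65, 3), (67, 8), (68, 3), (69, 3), (70, 6), (71, 6), (72, 4), (73, 4), (74, 3), (75, 3), (76, 3), (86, 4), (87, 9), (88, 4), (92, 9), (98, 4), (100, 4), (101, 9), (102, 2), (105, 7), (106, 8), (107, 3), (108, 8), (109, 3), (110, 3), (111, 5), (112, 4), (113, 5), (114, 4), (115, 9), (116, 1), (117, 1), (118, 7), (119, 10), (120, 7), (122, 9), (123, 2), (124, 5), (125, 2), (126, 10), (127, 4), (128, 6), (129, 3), (130, 9),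 (131, 7), (132, 7)],
  [(0, 2), (1, 8), (2, 7), (3, 8), (4, 5), (5, 7), (6, 4), (7, 6), (8, 8), (9, 9), (10, 4), (11, 8), (12, 8), (13, 1), (14, 1), (15, 2), (16, 7), (17, 4), (18, 7), (19, 3), (20, 7), (21, 9), (22, 10), (23, 2), (24, 5), (25, 9), (26, 2), (27, 5), (28, 1), (29, 1), (30, 10), (31, 3), (32, 6), (33, 10), (34, 5), (35, 7), (36, 6), (37, 9), (39, 3), (40, 4), (41, 1), (42, 8), (43, 3), (44, 9), (45, 1), (47, 3), (48, 5), (49, 4), (50, 1), (51, 3), (53, 2), (54, 3), (55, 4), (56, 1), (57, 8), (58, 1), (59, 9), (60, 3), (61, 3), (62, 1), (64, 2), (65, 8), (66, 5), (67, 5), (68, 2), (69, 3), (70, 10), (71, 9), (72, 5), (73, 3), (74, 1), (75, 5), (76, 6), (77, 5), (78, 9), (79, 7), (80, 10), (81, 9), (82, 4), (83, 9), (84, 9), (86, 3), (87, 4), (88, 1), (89, 9), (90, 7), (91, 10), (92, 5), (93, 8), (94, 9), (95, 7), (96, 4), (97, 8), (98, 9), (99, 2), (100, 6), (101, 5), (102, 7), (103, 5), (104, 5),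 (105, 3), (106, 4), (107, 7), (108, 1), (109, 6), (110, 4), (111, 6), (112, 5), (113, 8), (114, 4), (115, 2), (116, 9), (117, 6), (118, 8), (119, 2), (120, 3), (121, 7), (122, 7), (123, 6), (125, 6), (126, 2), (127, 7), (128, 9), (129, 10), (130, 10), (131, 2), (132, 9)],
  [(0, 8), (1, 8), (2, 1), (3, 5), (4, 5), (5, 1), (6, 4), (7, 6), (8, 1), (9, 1), (10, 8), (11, 6), (12, 9), (13, 2), (14, 5), (15, 10), (16, 3), (17, 10), (18, 1), (19, 4), (20, 6), (21, 7), (22, 6), (23, 10), (24, 5), (25, 8), (26, 1), (27, 4), (28, 5), (29, 4), (30, 3), (31, 5), (32, 6), (33, 9), (34, 1), (35, 1), (36, 7), (37, 4), (38, 5), (39, 5), (40, 9), (41, 5), (42, 8), (43, 4), (44, 1), (45, 3), (47, 5), (48, 4), (49, 4), (50, 8), (51, 4), (52, 10), (53, 10), (54, 3), (55, 4), (56, 6), (57, 6), (59, 1), (60, 5), (61, 5), (62, 3), (63, 6), (64, 4), (65, 7), (66, 4), (69, 3), (70, 6), (71, 2), (72, 3), (73, 7), (74, 6), (75, 2), (76,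 4), (77, 6), (78, 9), (79, 4), (80, 3), (82, 10), (83, 2), (84, 2), (85, 7), (86, 4), (87, 5), (88, 8), (90, 4), (91, 7), (92, 4), (93, 3), (94, 3), (95, 5), (96, 4), (97, 10), (98, 6), (99, 5), (100, 9), (101, 2), (102, 9), (103, 6), (104, 7), (105, 4), (106, 3), (108, 4), (109, 10), (110, 6), (111, 10), (112, 10), (113, 5), (114, 8), (115, 8), (116, 7), (117, 10), (119, 7), (120, 10), (121, 8), (122, 10), (123, 4), (124, 8), (125, 8), (126, 8), (127, 4), (128, 9), (129, 5), (130, 9), (132, 5)],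
  [(0, 7), (1, 8), (2, 7), (3, 8), (5, 7), (7, 10), (8, 3), (9, 7), (10, 10), (11, 4), (12, 4), (13, 7), (15, 7), (16, 8), (17, 4), (18, 7), (20, 3), (21, 3), (22, 3), (23, 8), (25, 4), (26, 7), (27, 5), (28, 6), (30, 3), (31, 4), (32, 7), (33, 4), (35, 7), (37, 4), (39, 4), (40, 10), (41, 7), (42, 8), (43, 4), (44, 3), (45, 7), (46, 7), (47, 8), (48, 4), (49, 4), (50, 8), (51, 8), (53, 8), (54, 10), (55, 4), (56, 3), (57, 7), (58, 7), (59, 4), (60, 3), (61, 4), (62, 7), (64, 7), (65, 3), (67, 4), (68, 7), (69, 3), (70, 3), (71, 3), (72, 4), (73, 8), (74, 6), (76, 7), (77, 8), (78, 10), (79, 6), (80, 2), (81, 1), (82, 6), (83, 10), (84, 10), (85, 5), (86, 6), (87, 4), (88, 3), (89, 8), (90, 3), (91, 9), (92, 2), (93, 10), (94, 10), (95, 10), (96, 4), (97, 10), (98, 4), (99, 3), (102, 7), (103, 2), (104, 9), (105, 7), (106, 3), (107, 8), (108, 2), (109, 2), (110, 3), (111, 9), (112, 6), (113, 4), (114, 3), (115,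 3), (117, 5), (118, 4), (119, 2), (120, 9), (121, 8), (122, 6), (123, 1), (124, 3), (125, 6), (126, 5), (127, 5), (128, 8), (129, 10), (130, 4), (131, 3), (132, 4)],
  [(0, 7), (1, 9), (2, 9), (3, 8), (4, 3), (5, 9), (6, 7), (7, 4), (8, 9), (9, 7), (10, 9), (11, 2), (12, 3), (13, 10), (14, 7), (15, 3), (16, 9), (17, 3), (18, 5), (19, 7), (20, 4), (21, 4), (22, 3), (24, 2), (25, 2), (26, 7), (27, 9), (28, 7), (29, 2), (30, 6), (31, 5), (32, 8), (34, 8), (35, 9), (36, 2), (37, 5), (38, 10), (39, 6), (40, 7), (41, 7), (42, 10), (44, 7), (45, 4), (47, 6), (48, 9), (50, 9), (51, 6), (52, 6), (53, 10), (54, 6), (55, 7), (56, 1), (57, 1), (59, 9), (60, 10), (61, 7), (63, 4), (64, 2), (65, 4), (66, 9), (67, 2), (68, 9), (69, 2), (70, 7), (71, 1), (72, 4), (73, 8), (74, 1), (75, 3), (76, 9), (77, 5), (78, 5), (79, 6), (80, 9), (82, 2), (83, 2), (85, 9), (86, 4), (87, 6), (88, 6), (91, 2), (92, 6), (93, 9), (94, 9), (95,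 6), (96, 8), (97, 9), (98, 6), (99, 2), (101, 8), (102, 5), (103, 6), (104, 2), (105, 1), (106, 9), (107, 2), (108, 9), (109, 6), (110, 3), (111, 4), (112, 7), (113, 10), (114, 6), (115, 6), (116, 8), (117, 2), (118, 8), (119, 7), (120, 4), (121, 4), (123, 4), (124, 8), (125, 9), (126, 10), (127, 10), (128, 5), (129, 2), (130, 7), (131, 10), (132, 7)],
  [(1, 5), (2, 5), (3, 3), (4, 2), (5, 3), (6, 5), (8, 10), (9, 1), (10, 3), (12, 8), (13, 6), (14, 8), (15, 8), (16, 8), (17, 7), (18, 8), (19, 9), (20, 9), (21, 6), (22, 3), (23, 5), (24, 7), (25, 9), (26, 8), (27, 5), (28, 6), (29, 3), (30, 3), (31, 4), (32, 10), (33, 10), (34, 3), (35, 10), (36, 2), (37, 2), (38, 5), (39, 6), (41, 7), (43, 5), (44, 6), (45, 9), (47, 7), (48, 3), (49, 1), (50, 4), (51, 5), (52, 3), (53, 4), (54, 1), (56, 10), (57, 10), (59, 7), (60, 8), (61, 5), (62, 9), (63, 3), (64, 3), (66, 10), (67, 8), (68, 4), (69, 3), (70, 10), (71, 10),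 (72, 6), (73, 1), (74, 1), (75, 8), (76, 3), (77, 10), (80, 1), (86, 2), (87, 1), (88, 2), (91, 10), (92, 1), (93, 1), (97, 10), (98, 2), (99, 9), (104, 9), (105, 10), (106, 5), (107, 6), (108, 10), (109, 6), (110, 4), (111, 10), (112, 4), (113, 5), (114, 3), (115, 9), (116, 4), (117, 4), (118, 1), (119, 2), (120, 1), (121, 6), (123, 7), (124, 4), (126, 8), (128, 9), (129, 8), (130, 1), (131, 8), (132, 8)],
  [(2, 5), (3, 3), (4, 3), (5, 9), (6, 4), (7, 4), (8, 10), (9, 4), (10, 7), (11, 1), (12, 2), (13, 10), (14, 3), (15, 4), (16, 8), (17, 2), (18, 9), (19, 10), (20, 2), (21, 5), (22, 4), (23, 10), (24, 7), (25, 9), (26, 1), (27, 5), (28, 7), (29, 9), (30, 7), (31, 4), (32, 8), (33, 5), (34, 8), (35, 5), (36, 2), (37, 9), (38, 10), (39, 10), (40, 1), (41, 1), (42, 6), (43, 10), (44, 5), (45, 4), (47, 2), (48, 9), (49, 6), (51, 6), (52, 3), (53, 3), (54, 7), (55, 7), (56, 5), (57, 5), (58, 5), (59, 1), (60, 2),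 (61, 10), (62, 8), (63, 2), (64, 3), (65, 9), (66, 9), (67, 4), (68, 10), (69, 7), (70, 4), (71, 10), (72, 1), (73, 3), (74, 1), (75, 3), (76, 3), (77, 3), (78, 9), (79, 4), (80, 6), (81, 6), (82, 7), (83, 2), (84, 7), (85, 8), (86, 5), (87, 6), (88, 1), (89, 6), (90, 9), (91, 3), (92, 3), (93, 5), (94, 1), (95, 8), (96, 3), (97, 8), (98, 10), (99, 1), (100, 8), (101, 7), (102, 4), (103, 4), (104, 8), (105, 7), (106, 6), (107, 4), (108, 10), (109, 6), (110, 7), (111, 5), (112, 5), (113, 4), (114, 10), (115, 9), (116, 3), (117, 7), (118, 4), (119, 7), (120, 10), (121, 5), (122, 7), (123, 5), (124, 8), (125, 7), (126, 9), (127, 2), (129, 10), (130, 1), (131, 10)]]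

/-- data -/
def d4_8 : SMat := [
  [(0, 8), (1, 7), (2, 3), (3, 8), (4, 2), (7, 3), (8, 3), (11, 8), (12, 7), (13, 8), (15, 3), (16, 7), (17, 7), (18, 4), (19, 1), (20, 5), (21, 7), (22, 7), (23, 4), (24, 7), (25, 7), (26, 7), (27, 6), (29, 8), (30, 8), (31, 10), (33, 4), (34, 8), (35, 4), (36, 4), (37, 7), (38, 1), (39, 7), (40, 4), (41, 3), (42, 8), (44, 7), (45, 6), (46, 10), (47, 4), (48, 8), (49, 1), (50, 7), (51, 5), (52, 7), (53, 5), (54, 4), (56, 7), (58, 7), (59, 8), (60, 4), (61, 1), (62, 3), (63, 1), (64, 9), (66, 7), (67, 7), (68, 7), (69, 3), (70, 1), (71, 7), (72, 4), (73, 4), (74, 10), (75, 7), (76, 7), (77, 3), (78, 9), (79, 2), (80, 8), (81, 8), (82, 5), (83, 6), (85, 3), (86, 6), (87, 2), (89, 2), (90, 1), (91, 4), (92, 4), (93, 9), (94, 8), (95, 3), (96, 6), (97, 7), (98, 10), (99, 8), (100, 3), (101, 5), (102, 4), (103, 9), (104, 9), (105, 3), (106, 5), (107, 9), (108, 3), (109, 6), (110,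 4), (111, 5), (112, 5), (113, 8), (114, 8), (115, 3), (116, 9), (117, 7), (118, 7), (120, 6), (121, 10), (122, 8), (123, 6), (125, 7), (126, 4), (127, 5), (128, 7), (129, 10), (130, 9), (131, 2), (132, 8)],
  [(0, 4), (1, 8), (2, 2), (3, 9), (4, 2), (5, 8), (6, 5), (7, 1), (8, 2), (9, 5), (10, 2), (11, 3), (12, 3), (14, 10), (15, 9), (16, 3), (17, 3), (18, 2), (20, 8), (21, 7), (22, 9), (23, 5), (24, 3), (25, 8), (26, 4), (27, 2), (28, 4), (29, 4), (30, 10), (31, 6), (32, 8), (34, 9), (35, 8), (36, 9), (37, 6), (38, 3), (39, 4), (40, 4), (41, 10), (42, 6), (43, 5), (44, 4), (45, 6), (46, 5), (47, 10), (48, 8), (49, 3), (50, 1), (51, 7), (52, 5), (53, 8), (54, 9), (56, 5), (58, 1), (59, 7), (61, 1), (62, 6), (63, 9), (64, 4), (66, 2), (67, 9), (68, 2), (69, 3), (70, 7), (71, 5), (72, 2), (73, 10), (74, 5), (75, 9), (76, 2), (77, 7), (78, 7), (79, 2), (80, 9), (82, 2), (83, 5), (84, 6), (85, 3), (86, 2), (87, 8),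 (88, 1), (89, 2), (90, 1), (91, 5), (92, 7), (93, 10), (94, 5), (95, 1), (96, 9), (98, 2), (99, 6), (100, 8), (101, 6), (102, 6), (103, 10), (104, 2), (105, 6), (106, 2), (107, 7), (108, 9), (109, 10), (110, 4), (111, 8), (112, 2), (113, 6), (114, 6), (115, 9), (116, 4), (117, 1), (118, 3), (119, 5), (120, 7), (121, 10), (123, 1), (124, 6), (125, 2), (126, 6), (127, 10), (128, 4), (129, 2), (130, 1), (131, 8), (132, 2)],
  [(0, 4), (1, 9), (2, 10), (3, 2), (4, 7), (5, 10), (6, 5), (7, 4), (8, 3), (9, 6), (10, 9), (11, 1), (12, 1), (14, 3), (15, 3), (16, 2), (17, 1), (18, 3), (19, 5), (20, 3), (21, 6), (22, 9), (23, 9), (24, 7), (25, 10), (26, 7), (27, 4), (28, 7), (29, 3), (30, 2), (31, 9), (32, 3), (34, 1), (35, 7), (36, 1), (37, 4), (40, 2), (41, 7), (43, 6), (44, 2), (45, 4), (47, 1), (48, 4), (49, 5), (50, 9), (51, 5), (52, 7), (53, 9), (54, 2), (55, 5), (57, 6), (58, 4), (59, 1), (60, 5), (61, 5), (62, 4),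 (63, 8), (64, 3), (65, 6), (66, 3), (67, 8), (68, 3), (69, 6), (70, 9), (71, 10), (73, 1), (75, 3), (76, 3), (77, 4), (78, 7), (79, 4), (80, 3), (81, 3), (82, 9), (83, 3), (84, 1), (85, 4), (86, 7), (87, 5), (88, 8), (89, 1), (90, 5), (91, 6), (92, 6), (93, 5), (94, 4), (95, 2), (96, 1), (97, 1), (98, 7), (99, 1), (100, 5), (101, 8), (102, 10), (103, 5), (104, 7), (105, 3), (106, 8), (107, 7), (108, 5), (109, 10), (110, 9), (111, 3), (112, 10), (113, 7), (114, 6), (115, 5), (116, 9), (117, 6), (118, 7), (119, 9), (120, 2), (122, 10), (123, 10), (124, 8), (125, 9), (126, 6), (127, 5), (128, 9), (129, 4), (130, 6), (131, 6), (132, 1)],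
  [(0, 9), (1, 4), (2, 2), (3, 2), (4, 9), (5, 7), (6, 7), (8, 6), (9, 3), (10, 7), (11, 10), (12, 5), (13, 9), (14, 10), (15, 3), (17, 9), (18, 2), (20, 6), (21, 6), (22, 3), (23, 7), (24, 5), (25, 8), (27, 4), (28, 10), (29, 2), (30, 1), (31, 8), (32, 6), (33, 2), (34, 2), (35, 6), (36, 7), (37, 10), (38, 1), (39, 2), (40, 9), (41, 4), (42, 1), (43, 7), (44, 4), (45, 6), (46, 7), (47, 5), (48, 8), (49, 1), (50, 2), (51, 6), (52, 3), (53, 7), (55, 7), (56, 8), (57, 4), (58, 6), (59, 8), (60, 6), (61, 3), (62, 6), (63, 2), (64, 10), (66, 8), (67, 1), (68, 8), (69, 2), (70, 2), (71, 5), (73, 1), (74, 6), (75, 1), (76, 8), (77, 4), (78, 4), (79, 5), (80, 5), (81, 4), (82, 2), (83, 2), (85, 5), (86, 6), (87, 5), (88, 9), (89, 4), (91, 1), (92, 1), (93, 1), (94, 3), (95, 7), (96, 4), (97, 1), (98, 5), (99, 10), (100, 8), (101, 4), (102, 7), (103, 7), (104, 10), (105, 4), (106, 5), (108, 3), (109, 9), (110, 6), (111,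 3), (112, 3), (114, 1), (115, 8), (116, 9), (117, 4), (118, 5), (121, 7), (122, 4), (123, 6), (124, 7), (125, 9), (126, 6), (127, 5), (128, 7), (129, 5), (130, 3), (131, 9), (132, 9)],
  [(0, 2), (1, 9), (3, 6), (4, 8), (6, 6), (7, 3), (8, 4), (9, 2), (10, 6), (11, 5), (12, 7), (13, 6), (14, 2), (15, 5), (16, 7), (17, 7), (18, 10), (19, 6), (20, 10), (21, 1), (22, 6), (23, 9), (24, 7), (25, 9), (26, 4), (27, 9), (28, 8), (29, 5), (30, 3), (31, 10), (32, 3), (33, 1), (34, 6), (35, 4), (36, 2), (37, 4), (39, 10), (40, 10), (41, 8), (42, 5), (43, 6), (44, 4), (45, 3), (47, 4), (48, 4), (50, 7), (51, 10), (52, 1), (53, 2), (54, 7), (56, 7), (58, 7), (59, 1), (60, 4), (61, 6), (62, 4), (63, 9), (64, 4), (66, 4), (67, 7), (68, 4), (69, 3), (70, 10), (71, 7), (72, 6), (73, 9), (74, 7), (75, 6), (76, 4), (86, 2), (87, 7), (88, 2), (92, 1), (98, 2), (100, 10), (101, 7), (102, 4), (105, 2), (106, 3), (107, 8), (108, 2),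 (109, 8), (110, 3), (111, 5), (112, 4), (113, 10), (114, 8), (115, 3), (117, 6), (118, 7), (120, 6), (121, 10), (122, 8), (123, 7), (125, 7), (126, 4), (127, 5), (128, 7), (129, 9), (130, 9), (131, 6), (132, 8)],
  [(0, 1), (1, 5), (2, 9), (3, 4), (4, 10), (5, 4), (7, 10), (8, 4), (9, 6), (11, 2), (12, 10), (13, 4), (14, 6), (15, 3), (17, 10), (18, 4), (20, 1), (21, 2), (22, 2), (23, 3), (24, 6), (25, 8), (26, 1), (27, 1), (28, 6), (30, 10), (31, 2), (32, 1), (33, 3), (34, 4), (35, 9), (36, 7), (37, 5), (38, 3), (40, 9), (41, 1), (42, 4), (43, 4), (44, 8), (45, 6), (47, 9), (48, 8), (49, 7), (50, 6), (51, 1), (52, 2), (53, 10), (54, 10), (55, 4), (56, 10), (57, 4), (58, 6), (59, 8), (60, 1), (62, 6), (63, 1), (64, 10), (65, 7), (66, 8), (67, 1), (68, 8), (69, 8), (70, 7), (71, 10), (72, 10), (73, 9), (74, 8), (75, 6), (76, 8), (77, 7), (78, 7), (79, 2), (80, 2), (81, 6), (82, 2), (83, 2), (85, 2), (87, 2), (88,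 8), (89, 6), (91, 4), (92, 9), (93, 9), (95, 4), (96, 4), (97, 9), (98, 2), (99, 2), (101, 4), (102, 7), (103, 4), (104, 2), (105, 6), (106, 7), (107, 3), (108, 9), (109, 7), (110, 9), (111, 6), (112, 6), (113, 3), (114, 8), (115, 8), (116, 2), (117, 8), (118, 2), (119, 8), (120, 7), (121, 6), (122, 8), (123, 6), (124, 6), (125, 7), (126, 7), (127, 4), (129, 10), (130, 3), (131, 10), (132, 8)],
  [(0, 10), (1, 4), (3, 2), (5, 7), (7, 7), (9, 8), (10, 4), (11, 2), (13, 10), (14, 8), (15, 5), (17, 4), (19, 3), (20, 7), (21, 4), (22, 5), (23, 10), (24, 4), (25, 8), (26, 7), (27, 8), (28, 7), (29, 1), (30, 6), (31, 3), (32, 7), (33, 1), (34, 10), (35, 7), (36, 10), (37, 8), (39, 7), (41, 8), (42, 8), (44, 1), (45, 6), (46, 4), (47, 3), (48, 8), (49, 7), (50, 4), (51, 7), (52, 4), (53, 10), (54, 7), (55, 3), (56, 4), (57, 4), (58, 4), (59, 10), (60, 7), (61, 7), (62, 6), (63, 7), (64, 1), (65, 9), (66, 8), (67, 10),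 (68, 1), (69, 7), (70, 4), (71, 4), (72, 1), (73, 5), (74, 4), (75, 2), (76, 1), (77, 7), (78, 4), (79, 10), (80, 10), (81, 2), (82, 1), (83, 2), (84, 10), (85, 4), (86, 7), (87, 7), (88, 9), (90, 4), (91, 7), (92, 2), (93, 2), (94, 8), (95, 3), (96, 2), (97, 3), (98, 1), (100, 1), (101, 6), (102, 7), (103, 4), (104, 6), (105, 4), (106, 6), (107, 3), (109, 7), (110, 9), (111, 6), (112, 8), (113, 5), (114, 9), (115, 10), (116, 7), (117, 8), (118, 5), (119, 9), (120, 10), (121, 7), (122, 7), (123, 8), (125, 5), (126, 10), (127, 2), (128, 9), (129, 1), (130, 1), (131, 2)],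
  [(0, 3), (1, 2), (2, 6), (3, 5), (4, 3), (5, 1), (6, 5), (7, 10), (8, 8), (9, 1), (10, 4), (11, 6), (12, 7), (13, 4), (14, 1), (15, 7), (16, 7), (17, 2), (18, 8), (19, 4), (20, 8), (21, 10), (22, 2), (23, 3), (24, 10), (25, 9), (26, 1), (27, 9), (28, 1), (29, 7), (30, 5), (31, 7), (32, 9), (33, 2), (34, 7), (35, 1), (37, 1), (38, 3), (39, 9), (40, 5), (41, 1), (42, 7), (43, 5), (44, 8), (45, 3), (46, 1), (47, 1), (48, 4), (50, 6), (51, 4), (52, 6), (53, 9), (54, 4), (55, 4), (57, 6), (58, 7), (59, 4), (60, 5), (61, 4), (62, 3), (63, 8), (64, 2), (65, 3), (66, 9), (69, 9), (71, 1), (72, 9), (73, 5), (75, 3), (77, 6), (78, 1), (79, 8), (80, 4), (81, 4), (82, 10), (83, 8), (84, 5), (85, 5), (86, 5), (87, 6), (88, 9), (89, 7), (91, 10), (92, 5), (93, 8), (96, 1), (98, 5), (99, 9), (100, 10), (101, 7), (102, 7), (103, 8), (104, 3), (105, 3), (107, 7), (108, 1), (109, 1), (110, 4), (111, 9), (113, 8), (114, 10), (115,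 6), (116, 8), (117, 4), (118, 6), (119, 5), (121, 3), (122, 6), (123, 2), (124, 4), (125, 3), (126, 7), (127, 6), (128, 9), (129, 9), (130, 2), (131, 10)]]

/-- data -/
def d4_9 : SMat := [
  [(0, 9), (1, 4), (2, 7), (3, 5), (4, 8), (5, 6), (6, 7), (7, 7), (9, 8), (10, 1), (11, 1), (13, 10), (14, 8), (15, 1), (17, 4), (18, 7), (19, 7), (20, 7), (21, 4), (22, 10), (23, 9), (24, 4), (25, 8), (26, 8), (27, 8), (28, 9), (29, 2), (30, 7), (31, 2), (32, 8), (33, 6), (34, 10), (35, 7), (36, 9), (37, 8), (38, 1), (39, 7), (40, 7), (41, 9), (42, 2), (43, 7), (44, 2), (45, 1), (46, 5), (47, 6), (48, 8), (49, 7), (50, 4), (51, 7), (52, 4), (53, 9), (54, 7), (55, 6), (56, 4), (57, 4), (59, 10), (60, 7), (61, 7), (62, 1), (63, 8), (64, 2), (65, 5), (66, 2), (67, 9), (68, 6), (69, 7), (70, 6), (71, 4), (72, 6), (73, 5), (75, 3), (76, 2), (77, 5), (78, 6), (79, 7), (82, 4), (84, 5), (85, 2), (86, 1), (87, 1), (88, 8), (89, 10),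 (90, 8), (91, 4), (92, 1), (94, 10), (95, 5), (96, 1), (97, 10), (98, 7), (99, 2), (100, 10), (101, 5), (102, 5), (103, 1), (104, 5), (105, 7), (106, 6), (107, 4), (108, 10), (109, 5), (110, 7), (111, 6), (112, 6), (113, 4), (114, 8), (115, 9), (116, 3), (117, 6), (118, 5), (119, 8), (120, 9), (121, 5), (122, 6), (123, 5), (124, 10), (125, 5), (126, 8), (127, 2), (129, 10), (130, 1), (131, 10), (132, 1)],
  [(0, 4), (1, 8), (2, 1), (3, 4), (4, 2), (5, 1), (7, 2), (8, 1), (9, 9), (10, 1), (11, 5), (12, 10), (13, 5), (14, 9), (15, 7), (16, 10), (17, 9), (18, 1), (20, 2), (22, 7), (23, 2), (24, 9), (25, 8), (26, 9), (27, 8), (28, 9), (29, 8), (30, 3), (31, 1), (32, 2), (33, 6), (34, 4), (35, 1), (36, 3), (37, 7), (38, 1), (39, 5), (40, 2), (41, 9), (42, 7), (44, 2), (45, 6), (46, 4), (47, 1), (48, 8), (49, 7), (50, 8), (51, 1), (52, 10), (53, 3), (54, 7), (56, 10), (57, 10), (59, 3), (60, 1), (61, 1), (62, 6), (63,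 2), (64, 8), (66, 8), (67, 3), (68, 1), (69, 3), (70, 7), (71, 10), (72, 7), (73, 5), (74, 10), (75, 3), (76, 1), (77, 1), (78, 4), (79, 7), (80, 8), (81, 10), (82, 10), (83, 2), (84, 10), (85, 7), (86, 5), (87, 8), (88, 7), (89, 10), (90, 1), (91, 2), (92, 8), (93, 7), (94, 7), (95, 10), (97, 9), (98, 6), (99, 3), (100, 5), (103, 6), (104, 5), (105, 1), (106, 6), (107, 5), (108, 9), (109, 6), (110, 1), (111, 8), (112, 3), (113, 10), (114, 7), (115, 2), (116, 4), (117, 10), (118, 4), (119, 1), (120, 3), (121, 8), (122, 3), (123, 7), (124, 7), (125, 3), (126, 7), (127, 6), (128, 2), (129, 6), (130, 9), (131, 9)],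
  [(0, 3), (1, 8), (2, 7), (3, 4), (4, 8), (5, 10), (6, 7), (7, 8), (9, 8), (10, 2), (11, 7), (12, 4), (13, 10), (14, 4), (15, 7), (16, 5), (17, 8), (18, 7), (19, 7), (20, 7), (21, 10), (23, 1), (24, 4), (25, 4), (26, 3), (27, 7), (28, 4), (29, 4), (30, 7), (31, 7), (32, 10), (33, 1), (34, 3), (36, 3), (37, 8), (38, 3), (39, 7), (40, 9), (41, 10), (42, 9), (43, 3), (44, 10), (45, 6), (46, 7), (47, 9), (48, 8), (50, 9), (51, 1), (52, 4), (53, 4), (54, 3), (55, 4), (56, 10), (58, 10), (59, 4), (60, 1), (62, 6), (63, 3), (64, 3), (65, 7), (66, 8), (67, 8), (68, 1), (69, 7), (70, 7), (71, 3), (72, 1), (73, 9), (74, 9), (75, 4), (76, 3), (77, 8), (78, 9), (79, 4), (80, 2), (82, 6), (84, 10), (85, 5), (86, 3), (87, 4), (88, 4), (89, 9), (90, 3), (91, 7), (92, 1), (93, 10), (94, 9), (95, 10), (96, 5), (97, 10), (98, 4), (99, 6), (100, 1), (101, 2), (102, 7), (103, 2), (104, 1), (105, 1), (106, 7), (107, 10), (108, 10),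 (109, 4), (110, 10), (111, 3), (112, 5), (114, 4), (115, 6), (116, 2), (117, 7), (120, 1), (121, 7), (122, 4), (123, 3), (124, 3), (125, 5), (126, 8), (127, 7), (128, 10), (129, 1), (130, 4), (131, 9), (132, 2)],
  [(0, 3), (1, 5), (2, 3), (3, 9), (5, 8), (6, 7), (7, 7), (8, 2), (9, 3), (10, 9), (11, 8), (12, 4), (13, 3), (15, 3), (16, 1), (17, 8), (18, 3), (19, 8), (20, 3), (21, 6), (22, 6), (23, 5), (25, 8), (26, 3), (27, 8), (28, 10), (29, 10), (30, 6), (31, 8), (32, 4), (33, 7), (34, 7), (35, 3), (37, 8), (39, 8), (40, 9), (41, 4), (42, 5), (43, 8), (44, 10), (45, 3), (46, 10), (47, 5), (48, 1), (49, 9), (50, 1), (51, 4), (52, 1), (53, 5), (54, 10), (55, 8), (56, 3), (57, 3), (58, 4), (59, 7), (60, 4), (61, 8), (62, 3), (63, 10), (64, 3), (65, 2), (66, 7), (67, 8), (68, 3), (69, 6), (70, 6), (71, 6), (72, 8), (73, 5), (74, 10), (75, 1), (76, 10), (77, 7), (78, 1), (79, 4), (80, 6), (81, 4), (82, 4), (83, 9),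 (84, 4), (85, 4), (86, 1), (87, 6), (88, 10), (89, 4), (90, 2), (91, 9), (92, 6), (93, 10), (94, 10), (95, 4), (97, 8), (98, 2), (99, 5), (100, 3), (103, 8), (104, 9), (105, 9), (106, 8), (107, 3), (108, 9), (109, 5), (110, 9), (111, 5), (112, 6), (113, 2), (114, 7), (115, 8), (116, 1), (117, 7), (118, 1), (119, 9), (120, 8), (121, 5), (122, 6), (123, 5), (124, 7), (125, 6), (126, 7), (127, 6), (128, 2), (129, 1), (130, 3), (131, 9)],
  [(0, 5), (1, 7), (2, 2), (3, 1), (4, 3), (5, 3), (6, 7), (7, 6), (8, 2), (9, 10), (10, 6), (12, 5), (13, 1), (15, 5), (16, 6), (17, 4), (18, 8), (19, 8), (20, 2), (21, 6), (22, 3), (23, 10), (24, 7), (25, 3), (26, 5), (27, 9), (28, 1), (29, 6), (30, 9), (31, 9), (32, 8), (33, 10), (34, 10), (35, 10), (36, 10), (37, 10), (38, 8), (39, 3), (40, 3), (41, 10), (42, 6), (43, 2), (44, 2), (45, 1), (47, 4), (48, 8), (49, 6), (50, 8), (51, 2), (52, 6), (53, 7), (54, 10), (55, 2), (56,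 5), (57, 5), (58, 5), (59, 7), (60, 8), (61, 7), (63, 3), (64, 10), (65, 2), (66, 4), (68, 1), (69, 1), (70, 5), (71, 3), (72, 9), (73, 3), (74, 6), (75, 5), (76, 1), (77, 2), (78, 6), (79, 5), (80, 4), (81, 3), (82, 6), (83, 3), (85, 8), (86, 9), (87, 6), (88, 1), (89, 10), (90, 8), (91, 5), (92, 8), (93, 6), (94, 2), (95, 1), (96, 5), (98, 9), (99, 10), (100, 5), (101, 9), (102, 7), (103, 5), (104, 7), (105, 1), (107, 4), (108, 1), (109, 5), (111, 1), (112, 7), (113, 3), (114, 7), (115, 2), (116, 6), (117, 7), (118, 10), (119, 5), (120, 10), (121, 9), (123, 4), (124, 2), (125, 7), (127, 10), (128, 9), (129, 3), (130, 6), (131, 2), (132, 6)],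
  [(0, 8), (2, 8), (3, 10), (4, 10), (5, 8), (6, 10), (7, 8), (8, 8), (9, 8), (10, 7), (11, 5), (13, 8), (14, 9), (15, 1), (16, 4), (17, 5), (18, 4), (19, 8), (20, 2), (21, 2), (22, 2), (23, 4), (24, 1), (25, 1), (26, 9), (27, 3), (28, 7), (29, 8), (30, 3), (31, 7), (32, 5), (33, 3), (35, 6), (38, 10), (40, 3), (41, 7), (42, 9), (43, 8), (44, 6), (45, 5), (46, 2), (48, 10), (49, 9), (50, 10), (51, 2), (52, 6), (53, 8), (54, 2), (55, 1), (57, 1), (58, 10), (59, 8), (60, 8), (61, 2), (62, 3), (63, 3), (64, 10), (65, 1), (66, 10), (67, 2), (69, 4), (70, 4), (71, 1), (72, 4), (73, 7), (74, 2), (75, 3), (78, 7), (79, 6), (80, 8), (81, 7), (82, 2), (83, 1), (84, 7), (85, 9), (87, 2), (88, 6), (89, 8), (91, 8), (92, 5), (93, 10), (94, 10), (95, 2), (96, 10), (97, 10), (98, 2), (99, 7), (100, 3), (104, 3), (105, 8), (106, 9), (107, 5), (108, 9), (109, 1), (110, 6), (111, 6), (112, 4), (113, 4), (114, 6), (115, 9), (116,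 2), (117, 3), (118, 8), (119, 7), (120, 7), (121, 1), (122, 2), (123, 3), (124, 2), (125, 4), (126, 6), (127, 3), (128, 4), (129, 2), (130, 1), (131, 8), (132, 2)],
  [(0, 7), (1, 9), (2, 9), (3, 4), (4, 9), (5, 5), (6, 10), (7, 5), (8, 8), (9, 7), (10, 8), (12, 9), (13, 9), (14, 3), (16, 3), (17, 7), (18, 8), (19, 2), (20, 4), (21, 10), (22, 8), (23, 1), (24, 1), (25, 5), (26, 5), (27, 9), (28, 3), (29, 10), (30, 5), (31, 4), (32, 5), (33, 7), (34, 3), (35, 3), (36, 7), (37, 2), (38, 4), (39, 9), (40, 7), (41, 4), (42, 7), (43, 8), (44, 10), (45, 3), (46, 8), (47, 7), (48, 6), (49, 1), (50, 8), (53, 6), (54, 4), (55, 6), (56, 2), (57, 3), (58, 1), (59, 6), (60, 6), (61, 2), (62, 1), (63, 3), (64, 3), (65, 3), (66, 5), (67, 9), (68, 4), (69, 6), (70, 10), (71, 7), (72, 10), (73, 9), (74, 4), (75, 3), (76, 4), (78, 8), (79, 6), (80, 8), (81, 7), (82, 8), (83, 6), (84, 4), (86, 10), (87, 7), (88, 8), (89, 2), (90,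 8), (91, 8), (92, 10), (93, 4), (94, 10), (95, 10), (96, 4), (97, 10), (98, 10), (99, 5), (100, 9), (101, 3), (102, 3), (103, 5), (104, 6), (105, 10), (106, 7), (107, 7), (108, 5), (109, 5), (110, 4), (111, 9), (113, 1), (114, 7), (115, 6), (116, 7), (117, 8), (118, 6), (119, 5), (120, 8), (122, 3), (123, 6), (125, 7), (127, 2), (128, 1), (129, 5), (130, 2), (131, 3), (132, 7)],
  [(0, 10), (1, 5), (2, 9), (3, 4), (4, 9), (5, 10), (6, 2), (7, 6), (8, 2), (9, 2), (10, 7), (11, 1), (12, 2), (13, 10), (14, 3), (15, 9), (17, 8), (18, 3), (19, 7), (20, 3), (21, 3), (22, 2), (23, 3), (24, 10), (25, 2), (26, 10), (28, 3), (30, 1), (31, 8), (32, 4), (33, 1), (34, 1), (35, 3), (36, 5), (37, 2), (38, 7), (39, 3), (41, 4), (42, 3), (43, 3), (44, 8), (45, 7), (46, 9), (47, 8), (48, 6), (49, 3), (50, 2), (51, 8), (52, 6), (53, 3), (54, 6), (55, 2), (56, 10), (57, 9), (58, 6), (59, 6), (60, 4), (61, 3), (62, 8), (63, 6), (64,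 10), (65, 8), (66, 2), (67, 1), (68, 10), (69, 1), (70, 5), (71, 7), (72, 8), (73, 9), (74, 10), (75, 7), (76, 10), (77, 4), (78, 1), (79, 4), (80, 8), (81, 10), (82, 1), (83, 7), (84, 7), (85, 2), (87, 6), (88, 5), (89, 4), (90, 2), (91, 9), (92, 9), (93, 10), (94, 7), (95, 7), (96, 6), (97, 4), (98, 9), (99, 10), (101, 8), (102, 8), (103, 6), (104, 8), (105, 9), (106, 4), (107, 2), (108, 10), (109, 7), (110, 9), (111, 4), (112, 8), (113, 1), (114, 1), (115, 9), (116, 1), (117, 8), (118, 9), (119, 10), (120, 9), (121, 6), (122, 7), (123, 7), (124, 6), (125, 7), (126, 9), (127, 7), (128, 8), (129, 1), (130, 1), (131, 3), (132, 1)]]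

/-- data -/
def d4_10 : SMat := [
  [(0, 5), (1, 5), (2, 4), (3, 1), (4, 7), (5, 10), (6, 3), (7, 4), (8, 3), (9, 8), (10, 5), (11, 10), (12, 3), (13, 6), (15, 6), (16, 10), (17, 5), (18, 6), (19, 10), (20, 2), (21, 10), (22, 7), (23, 10), (24, 9), (25, 7), (26, 9), (27, 5), (28, 10), (29, 9), (30, 3), (31, 4), (32, 2), (33, 4), (34, 2), (35, 10), (36, 2), (37, 8), (39, 10), (40, 8), (42, 2), (43, 5), (44, 1), (45, 9), (46, 6), (47, 9), (48, 3), (49, 9), (50, 7), (52, 8), (53, 3), (54, 5), (55, 8), (56, 4), (57, 2), (58, 9), (60, 2), (61, 10), (62, 10), (63, 4), (64, 7), (65, 7), (66, 6), (67, 5), (68, 7), (69, 4), (70, 7), (72, 8), (73, 2), (74, 4), (75, 2), (76, 8), (77, 8), (78, 6), (79, 5), (80, 10), (81, 8), (82, 7), (83, 7), (84, 2), (85, 2), (86, 7), (87, 6), (88, 9), (89, 8), (90, 7), (91, 9), (92, 10), (93, 3), (94, 5), (95, 8), (97, 7), (98, 10), (99, 4), (100, 9), (101, 5), (102, 5), (103, 4), (104,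 7), (107, 10), (109, 1), (110, 2), (112, 1), (113, 9), (115, 9), (117, 2), (118, 10), (119, 1), (120, 1), (121, 1), (122, 1), (123, 1), (124, 9), (125, 1), (126, 10), (127, 2), (128, 6), (129, 10), (130, 1), (132, 10)],
  [(0, 8), (1, 4), (2, 3), (3, 6), (4, 6), (5, 10), (7, 5), (8, 6), (9, 8), (10, 5), (12, 9), (13, 10), (14, 9), (15, 5), (16, 7), (17, 6), (18, 5), (19, 9), (20, 4), (21, 1), (22, 5), (23, 3), (24, 8), (25, 4), (26, 6), (27, 2), (28, 8), (29, 9), (30, 7), (32, 3), (33, 2), (34, 7), (35, 4), (36, 9), (37, 2), (39, 9), (40, 7), (41, 8), (42, 1), (43, 1), (44, 8), (45, 2), (46, 9), (47, 4), (48, 7), (50, 6), (51, 2), (52, 10), (53, 7), (54, 9), (55, 9), (56, 2), (58, 9), (59, 10), (60, 1), (61, 9), (63, 6), (64, 7), (65, 4), (66, 5), (67, 5), (68, 7), (69, 5), (70, 5), (71, 10), (73, 2), (74, 2), (75, 6), (76, 5), (77, 4), (78, 1), (79, 10), (81, 1), (83, 10), (84, 6), (85, 8), (86, 7), (87, 6),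 (88, 2), (89, 1), (90, 2), (91, 3), (92, 9), (93, 7), (94, 10), (95, 1), (97, 2), (98, 9), (99, 4), (101, 5), (102, 5), (103, 3), (104, 8), (107, 10), (109, 1), (110, 2), (112, 1), (113, 9), (115, 9), (117, 2), (118, 10), (119, 1), (120, 1), (121, 1), (122, 1), (123, 1), (124, 9), (125, 1), (126, 10), (127, 2), (128, 10), (129, 3), (130, 1), (132, 10)],
  [(0, 3), (1, 2), (3, 10), (4, 1), (6, 4), (7, 8), (9, 8), (10, 9), (11, 5), (12, 10), (13, 8), (14, 10), (15, 3), (16, 1), (17, 10), (18, 5), (19, 6), (20, 6), (21, 4), (22, 8), (23, 3), (25, 1), (26, 8), (27, 8), (28, 2), (29, 9), (30, 5), (32, 9), (33, 4), (34, 3), (35, 2), (36, 4), (37, 5), (38, 3), (39, 6), (40, 3), (41, 2), (42, 10), (43, 8), (44, 8), (45, 2), (46, 10), (47, 4), (48, 10), (49, 5), (50, 6), (51, 7), (52, 5), (53, 6), (54, 7), (55, 1), (56, 7), (57, 5), (58, 9), (59, 1), (60, 7), (61, 9), (62, 2), (63, 10), (64, 7), (65, 8), (66, 10), (67,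 4), (68, 5), (69, 5), (70, 8), (71, 4), (72, 4), (73, 5), (74, 6), (76, 7), (77, 1), (78, 4), (79, 9), (80, 3), (81, 5), (82, 6), (83, 7), (84, 5), (85, 6), (86, 3), (87, 5), (88, 10), (89, 5), (90, 9), (91, 2), (92, 3), (93, 8), (94, 3), (95, 5), (96, 4), (97, 2), (98, 8), (99, 3), (100, 10), (101, 2), (102, 9), (103, 3), (104, 10), (105, 4), (106, 2), (107, 9), (108, 10), (109, 8), (110, 2), (111, 9), (113, 8), (114, 6), (115, 8), (116, 5), (117, 3), (118, 7), (119, 3), (120, 6), (121, 8), (122, 9), (123, 10), (124, 9), (126, 6), (127, 6), (128, 4), (129, 2), (130, 1), (131, 8), (132, 3)],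
  [(0, 6), (1, 8), (2, 10), (3, 8), (4, 8), (5, 2), (6, 2), (7, 5), (9, 2), (10, 10), (11, 2), (12, 2), (13, 7), (14, 4), (15, 1), (16, 3), (19, 3), (20, 2), (21, 7), (22, 9), (23, 7), (24, 10), (25, 5), (26, 6), (27, 7), (28, 4), (30, 9), (32, 1), (33, 4), (34, 5), (36, 9), (37, 5), (38, 8), (39, 6), (40, 1), (41, 7), (42, 10), (43, 3), (44, 4), (45, 1), (46, 2), (47, 4), (48, 5), (50, 9), (51, 1), (52, 6), (53, 7), (54, 3), (55, 2), (56, 3), (57, 8), (58, 10), (59, 10), (60, 4), (62, 1), (63, 3), (64, 3), (65, 8), (66, 5), (67, 8), (68, 2), (69, 2), (70, 1), (73, 1), (74, 2), (75, 7), (76, 2), (77, 6), (78, 4), (79, 2), (80, 6), (81, 9), (82, 4), (83, 1), (84, 4), (85, 5), (86, 1), (87, 9), (88, 5), (89, 4), (90, 10), (91, 6), (92, 3), (93, 7), (94, 7), (95, 2), (96, 9), (97, 7), (98, 9), (99, 5), (100, 8), (101, 6), (102, 5), (103, 9), (104, 8), (105, 8), (106, 8), (107, 10), (108, 3), (109, 4), (110, 1), (111,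 4), (113, 3), (114, 7), (115, 10), (116, 7), (117, 4), (118, 10), (119, 1), (120, 7), (121, 7), (122, 8), (123, 8), (124, 6), (125, 4), (126, 2), (127, 9), (128, 3), (130, 1), (131, 3), (132, 7)],
  [(0, 10), (2, 4), (3, 7), (4, 10), (5, 2), (6, 1), (7, 5), (8, 5), (9, 1), (10, 2), (11, 2), (12, 10), (13, 9), (14, 6), (15, 1), (16, 5), (17, 9), (18, 5), (19, 5), (20, 7), (21, 8), (22, 3), (23, 7), (24, 1), (25, 2), (26, 1), (28, 6), (29, 5), (30, 10), (31, 1), (32, 7), (34, 9), (35, 9), (36, 8), (37, 1), (38, 7), (39, 6), (40, 4), (41, 2), (42, 9), (43, 6), (44, 4), (46, 7), (47, 7), (48, 2), (49, 9), (50, 6), (51, 1), (53, 4), (55, 8), (56, 6), (57, 5), (58, 6), (59, 10), (60, 1), (61, 6), (63, 1), (65, 10), (66, 3), (68, 4), (69, 9), (70, 3), (72, 3), (73, 8), (74, 10), (75, 2), (76, 4), (77, 9), (79, 6), (80, 3), (81, 8), (82, 9), (83, 8), (84, 3), (85, 5), (86, 1), (87, 8), (89, 9), (90, 2), (91, 7), (92,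 9), (93, 1), (94, 1), (95, 6), (96, 4), (97, 1), (98, 8), (99, 3), (100, 2), (102, 1), (103, 5), (104, 7), (105, 6), (106, 3), (107, 6), (108, 7), (109, 1), (110, 7), (111, 1), (112, 1), (113, 6), (114, 3), (115, 7), (116, 2), (117, 1), (118, 3), (119, 5), (120, 4), (121, 8), (122, 1), (124, 5), (125, 1), (126, 4), (127, 10), (128, 4), (130, 3), (131, 7), (132, 1)],
  [(0, 8), (1, 5), (2, 8), (3, 9), (4, 3), (5, 8), (6, 2), (8, 10), (9, 10), (10, 4), (11, 1), (12, 8), (13, 2), (14, 1), (15, 4), (16, 6), (17, 10), (18, 2), (19, 4), (20, 3), (21, 2), (22, 8), (23, 3), (24, 8), (25, 5), (26, 8), (28, 1), (29, 10), (30, 1), (31, 10), (32, 6), (33, 9), (34, 5), (35, 1), (36, 2), (37, 2), (39, 7), (40, 7), (41, 1), (42, 5), (43, 7), (44, 7), (45, 8), (46, 9), (47, 5), (48, 2), (49, 4), (50, 2), (51, 5), (52, 8), (53, 6), (54, 6), (55, 2), (56, 6), (57, 5), (58, 6), (59, 7), (60, 8), (61, 4), (62, 9), (63, 8), (64, 9),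 (65, 7), (66, 5), (67, 2), (68, 9), (69, 1), (71, 3), (72, 9), (73, 5), (74, 6), (75, 4), (76, 9), (77, 4), (78, 2), (79, 7), (81, 4), (82, 1), (83, 7), (84, 4), (85, 1), (88, 7), (89, 4), (90, 10), (91, 4), (92, 3), (93, 4), (94, 1), (95, 4), (96, 8), (97, 4), (98, 5), (99, 8), (100, 6), (105, 1), (106, 1), (107, 10), (108, 3), (109, 10), (110, 7), (111, 7), (112, 7), (113, 3), (114, 6), (115, 10), (116, 3), (119, 8), (120, 7), (121, 3), (122, 3), (123, 10), (125, 4), (126, 3), (127, 8), (128, 8), (129, 7), (130, 1), (131, 3), (132, 8)],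
  [(0, 4), (2, 10), (3, 8), (4, 9), (5, 4), (6, 1), (7, 5), (10, 2), (11, 9), (12, 1), (13, 10), (14, 1), (15, 10), (16, 2), (19, 4), (20, 2), (21, 2), (22, 2), (23, 7), (24, 10), (25, 2), (27, 3), (28, 2), (29, 6), (30, 10), (31, 5), (32, 1), (33, 10), (35, 7), (36, 6), (37, 2), (38, 4), (39, 2), (40, 9), (41, 1), (42, 8), (43, 2), (44, 4), (45, 6), (46, 4), (47, 5), (48, 2), (49, 8), (50, 1), (51, 7), (52, 4), (54, 1), (55, 7), (57, 9), (58, 10), (59, 5), (60, 6), (61, 2), (62, 6), (63, 2), (64, 5), (65, 8), (66, 3), (67, 6), (68, 6), (69, 10), (70, 2), (71, 8), (72, 1), (73, 1), (74, 2), (75, 6), (76, 5), (77, 1), (78, 4), (79, 5), (80, 3), (81, 7), (82, 9), (83, 4), (84, 4), (85, 2), (86, 8), (87, 6), (88, 10), (89, 1), (90, 10), (91, 4), (92, 3), (93, 4), (94, 4), (95, 4), (96, 6), (97, 4), (98, 6), (102, 5), (103, 3), (104, 9), (106, 9), (107, 2), (108, 8), (109, 3), (110, 9), (111, 3), (112, 5), (114, 8),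 (115, 7), (116, 9), (117, 6), (119, 10), (120, 6), (121, 2), (122, 5), (123, 4), (124, 7), (125, 5), (126, 4), (127, 8), (128, 4), (129, 1), (130, 2), (131, 7), (132, 2)],
  [(0, 6), (1, 4), (2, 6), (3, 7), (4, 9), (5, 6), (6, 1), (7, 2), (8, 6), (9, 7), (10, 3), (11, 4), (12, 1), (13, 10), (14, 8), (15, 6), (16, 6), (18, 7), (19, 2), (20, 1), (21, 7), (22, 3), (23, 6), (24, 10), (25, 2), (26, 6), (27, 7), (28, 7), (29, 3), (30, 6), (32, 1), (33, 4), (34, 4), (35, 7), (36, 1), (37, 9), (38, 3), (39, 1), (40, 1), (41, 7), (42, 10), (43, 2), (44, 5), (45, 7), (46, 9), (47, 4), (48, 2), (49, 3), (50, 5), (51, 7), (52, 2), (53, 6), (54, 7), (55, 8), (56, 6), (57, 5), (58, 9), (59, 5), (60, 7), (61, 2), (62, 3), (63, 2), (64, 10), (65, 8), (66, 1), (67, 1), (68, 10), (69, 5), (70, 3), (71, 4), (72, 5), (73, 5), (74, 6), (76, 10), (77, 8), (78, 8), (79, 5), (80, 3), (85, 3), (86, 8), (87, 3), (88, 3), (91, 1), (92,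 3), (93, 5), (95, 3), (97, 5), (98, 3), (99, 6), (101, 9), (102, 2), (103, 3), (104, 6), (105, 7), (106, 6), (107, 8), (108, 8), (109, 4), (110, 9), (111, 7), (112, 8), (113, 7), (114, 4), (115, 8), (116, 1), (117, 5), (118, 10), (119, 4), (120, 4), (121, 1), (122, 2), (123, 8), (124, 3), (125, 8), (126, 7), (127, 8), (128, 10), (129, 4), (131, 4), (132, 7)]]

/-- data -/
def d4_11 : SMat := [
  [(0, 4), (1, 4), (3, 5), (4, 7), (5, 10), (6, 3), (7, 7), (8, 3), (9, 5), (10, 5), (11, 2), (12, 6), (14, 8), (15, 3), (16, 9), (17, 8), (18, 5), (19, 2), (20, 5), (22, 5), (24, 8), (25, 8), (26, 4), (27, 1), (28, 6), (30, 4), (32, 6), (33, 4), (34, 6), (36, 6), (37, 9), (38, 1), (39, 2), (40, 7), (42, 7), (43, 4), (44, 1), (45, 8), (46, 4), (47, 9), (48, 7), (49, 9), (50, 7), (51, 6), (52, 9), (53, 2), (55, 7), (56, 3), (57, 2), (58, 8), (59, 7), (61, 8), (62, 1), (63, 7), (64, 8), (65, 7), (66, 6), (67, 3), (68, 4),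 (69, 4), (70, 5), (71, 9), (72, 10), (73, 5), (74, 10), (75, 9), (76, 8), (77, 4), (78, 6), (79, 5), (80, 2), (81, 8), (82, 3), (83, 8), (85, 2), (86, 2), (87, 10), (88, 1), (89, 3), (90, 10), (91, 6), (92, 5), (93, 5), (94, 3), (96, 10), (97, 6), (98, 10), (99, 4), (100, 3), (102, 6), (104, 9), (105, 5), (106, 5), (107, 6), (109, 6), (110, 8), (111, 6), (112, 6), (113, 7), (114, 1), (116, 7), (117, 6), (118, 6), (119, 5), (120, 1), (121, 7), (122, 6), (123, 6), (125, 5), (126, 2), (127, 10), (128, 10), (130, 10), (131, 1), (132, 10)],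
  [(0, 6), (1, 7), (2, 2), (3, 2), (4, 9), (5, 6), (7, 4), (8, 5), (9, 5), (10, 8), (11, 5), (13, 9), (14, 6), (15, 5), (16, 7), (17, 1), (18, 5), (19, 4), (20, 1), (21, 6), (22, 9), (24, 8), (25, 1), (26, 4), (28, 4), (29, 10), (30, 4), (31, 2), (32, 1), (33, 9), (34, 7), (35, 9), (36, 5), (37, 8), (38, 2), (39, 7), (40, 6), (41, 4), (42, 1), (43, 3), (44, 10), (45, 8), (46, 6), (47, 7), (48, 2), (49, 6), (50, 9), (51, 4), (52, 4), (54, 6), (55, 1), (56, 4), (57, 2), (58, 10), (59, 7), (60, 10), (61, 1), (62, 6), (63, 3), (64, 9), (65, 2), (66, 4), (67, 3), (68, 9), (69, 2), (70, 9), (71, 2), (72, 9), (73, 2), (74, 4), (75, 8), (76, 7), (77, 8), (78, 6), (79, 8), (80, 6), (81, 5), (82, 3), (83, 10), (84, 1), (85, 3), (86, 8), (87, 7), (88, 9), (89, 9), (90, 8), (91, 5), (92, 10), (95, 7), (96, 6), (97, 10), (98, 2), (100, 10), (101, 2), (102, 2), (103, 4), (104, 5), (105, 8), (106, 8), (107, 2), (108, 7), (109,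 6), (110, 6), (111, 6), (112, 5), (113, 2), (114, 9), (115, 8), (116, 3), (117, 6), (118, 6), (119, 5), (120, 1), (121, 7), (122, 7), (123, 3), (124, 7), (125, 7), (126, 8), (128, 10), (129, 7), (130, 4), (131, 8)],
  [(0, 2), (1, 7), (2, 2), (3, 9), (4, 7), (5, 9), (6, 10), (7, 8), (8, 9), (9, 10), (10, 1), (11, 5), (12, 2), (13, 10), (14, 8), (17, 3), (18, 8), (19, 4), (20, 6), (21, 4), (22, 3), (23, 4), (24, 5), (25, 6), (26, 10), (28, 8), (29, 8), (30, 9), (31, 3), (32, 6), (34, 1), (35, 8), (36, 9), (37, 7), (38, 1), (39, 7), (40, 8), (41, 4), (43, 8), (44, 7), (45, 10), (46, 1), (47, 10), (48, 6), (49, 8), (50, 6), (51, 7), (52, 5), (54, 4), (55, 10), (56, 9), (58, 1), (60, 10), (61, 8), (62, 6), (63, 4), (64, 9), (65, 3), (66, 10), (67, 2), (68, 2), (69, 9), (70, 3), (71, 1), (73, 4), (74, 2), (75, 10), (76, 9), (77, 5), (78, 10), (79, 1), (81, 1), (82, 8), (83, 1), (84, 10), (85, 3), (87, 2), (88, 1),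 (89, 8), (90, 3), (91, 10), (92, 6), (93, 10), (94, 8), (95, 10), (96, 9), (97, 10), (98, 2), (99, 7), (100, 2), (101, 9), (102, 9), (103, 5), (104, 2), (105, 4), (106, 3), (108, 10), (109, 8), (110, 10), (111, 8), (112, 9), (114, 8), (115, 10), (116, 6), (117, 8), (118, 8), (119, 3), (120, 6), (121, 4), (122, 7), (124, 3), (125, 1), (126, 9), (127, 6), (128, 6), (129, 4), (130, 8), (131, 6), (132, 5)],
  [(1, 6), (2, 4), (3, 4), (4, 8), (5, 9), (6, 4), (8, 4), (9, 1), (10, 7), (11, 5), (12, 7), (14, 3), (15, 2), (16, 9), (17, 3), (18, 8), (19, 1), (20, 10), (21, 10), (22, 3), (23, 5), (24, 1), (25, 10), (26, 1), (27, 4), (28, 4), (29, 4), (30, 1), (31, 10), (32, 1), (33, 2), (34, 7), (35, 9), (37, 10), (38, 10), (39, 6), (40, 10), (41, 5), (42, 2), (43, 6), (44, 6), (45, 3), (46, 5), (47, 2), (48, 10), (49, 10), (50, 10), (51, 3), (52, 8), (53, 4), (54, 3), (55, 6), (56, 7), (57, 5), (58, 9), (59, 4), (60, 7),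 (61, 6), (62, 3), (63, 3), (64, 2), (66, 9), (67, 9), (69, 1), (70, 3), (71, 3), (73, 3), (74, 6), (75, 2), (76, 2), (77, 8), (78, 10), (80, 2), (81, 1), (82, 6), (83, 10), (84, 10), (85, 5), (86, 7), (87, 4), (88, 3), (89, 8), (90, 3), (91, 9), (92, 2), (93, 10), (94, 10), (95, 10), (96, 4), (97, 10), (98, 4), (99, 2), (102, 7), (103, 2), (104, 8), (106, 9), (107, 2), (108, 8), (109, 3), (110, 9), (111, 7), (112, 5), (114, 4), (115, 7), (116, 9), (117, 6), (119, 10), (120, 6), (121, 2), (122, 5), (123, 4), (124, 7), (125, 5), (126, 4), (127, 8), (128, 4), (129, 1), (130, 2), (131, 7), (132, 2)],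
  [(0, 9), (1, 8), (2, 10), (4, 6), (5, 9), (6, 6), (7, 2), (8, 2), (9, 1), (11, 6), (12, 10), (13, 8), (14, 8), (15, 6), (16, 5), (19, 4), (20, 9), (22, 1), (23, 2), (24, 5), (25, 6), (26, 2), (27, 8), (29, 3), (30, 2), (31, 8), (32, 9), (33, 3), (34, 6), (35, 8), (36, 6), (37, 6), (38, 3), (39, 8), (40, 3), (41, 10), (42, 8), (43, 5), (44, 9), (45, 3), (46, 5), (47, 8), (48, 9), (49, 1), (50, 6), (52, 5), (53, 8), (54, 10), (55, 6), (56, 1), (57, 3), (58, 5), (59, 5), (60, 1), (61, 5), (62, 3), (63, 8), (64, 8), (65, 10), (66, 10), (67, 3), (68, 7), (69, 2), (70, 2), (72, 3), (74, 10), (75, 8), (76, 8), (77, 2), (78, 8), (79, 1), (80, 6), (81, 3), (82, 3), (83, 3), (84, 3), (85, 1), (86, 1), (87, 6), (88, 4), (89, 3), (90, 3), (91, 8), (92, 6), (93, 9), (94, 3), (95, 3), (97, 8), (98, 1), (99, 10), (100, 7), (103, 4), (104, 10), (105, 5), (106, 2), (107, 9), (108, 1), (109, 9), (110, 1), (112, 3), (113, 10),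 (115, 2), (117, 3), (118, 6), (119, 8), (120, 7), (121, 9), (122, 1), (123, 8), (124, 8), (125, 1), (126, 3), (127, 3), (128, 5), (129, 6), (130, 10), (131, 1), (132, 6)],
  [(0, 10), (1, 1), (2, 5), (3, 8), (5, 5), (6, 6), (7, 4), (10, 1), (11, 10), (12, 2), (13, 9), (14, 2), (15, 8), (16, 5), (17, 7), (18, 7), (19, 1), (20, 9), (21, 4), (22, 8), (23, 3), (24, 9), (25, 1), (26, 6), (27, 10), (28, 2), (29, 2), (30, 8), (31, 1), (32, 9), (33, 9), (34, 1), (35, 10), (36, 10), (37, 4), (38, 9), (39, 8), (40, 2), (42, 8), (43, 8), (44, 8), (45, 3), (46, 6), (47, 6), (48, 1), (50, 7), (51, 3), (52, 10), (53, 10), (54, 10), (55, 9), (56, 4), (57, 3), (58, 5), (59, 2), (60, 3), (61, 8), (62, 3), (64, 7), (65, 7), (66, 7), (67, 4), (69, 8), (70, 8), (71, 7), (72, 10), (73, 6), (74, 8), (75, 10), (77, 10), (78, 8), (79, 1), (80, 9), (81, 3), (82, 7), (83, 8), (84, 8), (85, 7), (86, 8), (87, 10), (88, 7), (89, 2), (90,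 9), (91, 9), (92, 10), (93, 1), (94, 8), (95, 8), (96, 1), (97, 1), (98, 10), (99, 6), (100, 2), (101, 5), (102, 5), (103, 9), (104, 2), (105, 2), (106, 2), (107, 8), (108, 8), (109, 4), (110, 3), (111, 1), (113, 9), (114, 9), (115, 6), (116, 9), (117, 3), (118, 9), (119, 3), (120, 1), (121, 4), (122, 6), (124, 3), (125, 3), (126, 6), (127, 2), (128, 7), (129, 5), (130, 6), (131, 9), (132, 8)],
  [(0, 5), (1, 1), (2, 7), (3, 2), (4, 6), (5, 4), (6, 2), (7, 8), (8, 3), (10, 4), (11, 8), (12, 7), (13, 9), (14, 5), (15, 4), (16, 9), (17, 2), (18, 7), (20, 3), (21, 7), (22, 4), (23, 9), (24, 4), (25, 1), (26, 3), (27, 7), (28, 1), (29, 7), (30, 5), (31, 10), (32, 3), (33, 9), (34, 2), (35, 2), (36, 2), (37, 1), (38, 8), (39, 3), (41, 5), (42, 1), (43, 7), (44, 2), (45, 5), (46, 2), (47, 8), (48, 9), (50, 2), (51, 1), (52, 4), (53, 6), (54, 10), (55, 2), (56, 6), (58, 6), (59, 3), (60, 1), (62, 5), (63, 5), (64, 6),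 (65, 4), (66, 8), (67, 5), (68, 5), (69, 9), (70, 7), (71, 6), (72, 6), (73, 4), (74, 5), (76, 5), (77, 6), (78, 3), (79, 8), (80, 1), (81, 10), (82, 6), (83, 10), (84, 7), (85, 8), (86, 7), (87, 4), (88, 3), (89, 9), (90, 2), (91, 9), (92, 9), (93, 2), (94, 4), (95, 5), (96, 9), (97, 7), (98, 7), (99, 7), (100, 2), (101, 3), (102, 2), (103, 4), (104, 5), (105, 8), (106, 3), (107, 4), (108, 6), (109, 1), (110, 2), (111, 8), (112, 1), (113, 4), (114, 5), (115, 6), (116, 2), (117, 5), (118, 4), (119, 2), (120, 9), (122, 1), (123, 1), (124, 3), (125, 2), (126, 5), (127, 6), (128, 2), (129, 7), (130, 5), (131, 5), (132, 1)],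
  [(0, 8), (1, 6), (2, 10), (3, 9), (4, 2), (5, 9), (6, 1), (7, 9), (9, 1), (10, 9), (12, 9), (13, 5), (14, 1), (15, 4), (16, 1), (17, 4), (19, 1), (20, 8), (21, 9), (22, 3), (24, 4), (25, 2), (26, 1), (27, 1), (28, 2), (29, 2), (30, 6), (31, 5), (32, 8), (33, 10), (34, 6), (37, 10), (38, 6), (39, 8), (40, 10), (41, 1), (42, 3), (43, 2), (45, 6), (46, 10), (47, 9), (48, 2), (49, 2), (50, 5), (51, 3), (52, 10), (54, 7), (56, 4), (57, 3), (58, 10), (59, 1), (60, 10), (61, 8), (62, 6), (63, 9), (64, 1), (66, 3), (67, 10), (68, 1), (69, 6), (70, 3), (71, 3), (72, 1), (73, 10), (74, 4), (75, 6), (76, 8), (77, 10), (78, 1), (79, 4), (80, 5), (82, 10), (83, 2), (85, 9), (86, 10), (87, 4), (88, 6), (89, 1), (90, 9), (91, 4), (92, 5), (94, 6), (95, 9), (96, 9), (97, 6), (98, 1), (99, 5), (100, 8), (101, 5), (102, 7), (103, 2), (104, 8), (105, 10), (106, 10), (107, 4), (108, 1), (109, 1), (110, 9), (112, 10), (113, 2),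 (114, 2), (115, 2), (116, 2), (117, 10), (118, 2), (119, 10), (120, 1), (121, 1), (122, 10), (124, 2), (126, 2), (127, 8), (130, 9), (131, 1)]]

/-- data -/
def d4_12 : SMat := [
  [(0, 1), (1, 2), (2, 2), (3, 5), (4, 8), (5, 8), (6, 3), (7, 2), (8, 9), (9, 5), (10, 7), (11, 3), (12, 9), (13, 3), (14, 10), (15, 5), (16, 6), (17, 4), (18, 2), (19, 3), (20, 9), (21, 4), (22, 3), (23, 5), (24, 4), (26, 6), (27, 7), (28, 9), (29, 8), (30, 6), (31, 6), (32, 9), (33, 2), (34, 1), (35, 10), (36, 3), (37, 2), (38, 9), (40, 10), (41, 9), (42, 7), (43, 7), (44, 5), (45, 4), (46, 1), (47, 8), (48, 9), (49, 4), (50, 4), (52, 9), (53, 5), (54, 8), (55, 2), (56, 3), (57, 1), (58, 7), (59, 4), (60, 3), (61, 8), (62, 5), (63, 1), (64, 4), (65, 1), (66, 5), (67, 8), (68, 4), (69, 7), (70, 3), (71, 5), (72, 2), (73, 3), (74, 3), (75, 5), (76, 5), (77, 4), (78, 1), (79, 1), (80, 6), (81, 10), (82, 10), (83, 4), (84, 7), (85, 7),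 (86, 6), (87, 5), (88, 2), (89, 5), (90, 1), (91, 2), (92, 9), (93, 5), (94, 7), (95, 2), (96, 3), (97, 4), (99, 3), (100, 10), (101, 3), (102, 3), (103, 3), (104, 5), (105, 8), (106, 8), (107, 6), (109, 2), (110, 2), (111, 2), (112, 1), (113, 6), (114, 2), (115, 1), (116, 3), (117, 2), (118, 6), (119, 1), (120, 1), (121, 3), (122, 3), (123, 3), (125, 7), (126, 1), (128, 3), (131, 8)],
  [(0, 3), (1, 3), (4, 4), (6, 9), (7, 7), (9, 7), (10, 2), (11, 7), (12, 3), (13, 2), (14, 6), (15, 10), (16, 3), (17, 5), (18, 9), (19, 1), (20, 8), (21, 2), (22, 2), (23, 2), (24, 3), (25, 6), (26, 7), (27, 8), (28, 6), (29, 8), (30, 10), (31, 5), (32, 8), (33, 1), (34, 2), (35, 9), (36, 2), (37, 9), (39, 8), (40, 10), (41, 6), (42, 10), (43, 8), (44, 9), (45, 10), (46, 1), (47, 7), (48, 6), (49, 8), (50, 6), (51, 10), (52, 3), (53, 6), (54, 8), (55, 9), (56, 1), (57, 3), (58, 1), (59, 4), (60, 7), (61, 8), (62, 10), (63, 7),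 (64, 9), (65, 3), (66, 6), (67, 2), (68, 9), (69, 9), (70, 2), (71, 4), (72, 10), (73, 3), (74, 1), (75, 7), (76, 2), (77, 3), (78, 9), (79, 2), (80, 9), (81, 10), (82, 5), (83, 1), (84, 1), (85, 6), (86, 5), (87, 5), (88, 6), (89, 3), (90, 8), (91, 3), (92, 2), (93, 10), (94, 1), (95, 4), (96, 7), (97, 10), (98, 5), (99, 6), (100, 2), (102, 4), (103, 9), (105, 6), (106, 3), (107, 5), (108, 8), (110, 6), (111, 8), (113, 5), (114, 5), (115, 4), (116, 2), (117, 3), (118, 5), (119, 7), (120, 8), (124, 5), (126, 5), (127, 10), (130, 6), (131, 5), (132, 1)],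
  [(0, 10), (1, 8), (2, 7), (3, 3), (4, 9), (5, 8), (6, 1), (7, 3), (8, 5), (9, 4), (10, 7), (11, 2), (12, 6), (13, 1), (14, 7), (15, 1), (16, 10), (17, 9), (18, 6), (19, 5), (20, 10), (21, 2), (22, 7), (23, 4), (24, 2), (25, 9), (26, 3), (27, 9), (28, 3), (29, 6), (30, 2), (31, 7), (32, 9), (33, 9), (34, 8), (35, 9), (36, 7), (37, 3), (38, 10), (39, 5), (40, 9), (41, 4), (42, 5), (43, 4), (44, 7), (45, 1), (46, 6), (47, 2), (49, 8), (50, 9), (51, 9), (52, 1), (53, 1), (54, 4), (55, 5), (56, 8), (57, 6), (58, 7), (59, 2), (60, 9), (62, 1), (64, 2), (65, 2), (66, 10), (67, 9), (68, 3), (69, 2), (70, 7), (72, 1), (73, 7), (74, 10), (75, 2), (76, 2), (77, 8), (78, 10), (79, 4), (80, 2), (81, 9), (82, 1), (83, 1), (84, 9), (85, 10), (86, 2), (87, 5), (88, 3), (89, 9), (90, 4), (91, 7), (92, 2), (94, 6), (95, 9), (96, 6), (97, 7), (98, 7), (99, 4), (100, 1), (101, 3), (102, 8), (103, 2), (104, 1), (105, 4), (106, 2),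 (107, 9), (108, 10), (109, 8), (110, 2), (111, 9), (113, 8), (114, 6), (115, 8), (116, 5), (117, 10), (118, 7), (119, 3), (120, 6), (121, 8), (122, 9), (123, 10), (124, 2), (126, 6), (127, 6), (128, 4), (129, 2), (130, 1), (131, 8), (132, 3)],
  [(0, 8), (1, 3), (2, 3), (3, 3), (4, 10), (5, 10), (6, 7), (7, 4), (8, 2), (9, 5), (10, 9), (11, 1), (12, 8), (13, 4), (14, 4), (16, 7), (17, 1), (18, 9), (19, 10), (20, 5), (21, 10), (22, 8), (23, 1), (24, 6), (25, 9), (26, 5), (27, 2), (28, 1), (29, 6), (30, 9), (31, 7), (32, 2), (33, 7), (34, 1), (35, 9), (36, 1), (37, 1), (38, 8), (39, 10), (40, 3), (41, 1), (42, 2), (43, 3), (44, 10), (45, 9), (46, 5), (48, 1), (49, 2), (50, 2), (51, 1), (52, 6), (53, 2), (54, 8), (55, 6), (56, 6), (57, 9), (58, 1), (60, 1), (61, 2), (62, 9), (63, 1), (64, 7), (65, 9), (66, 1), (67, 4), (68, 9), (69, 9), (70, 9), (71, 9), (72, 3), (73, 8), (74, 7), (75, 3), (76, 7), (77, 8), (78,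 3), (79, 9), (80, 8), (82, 7), (84, 5), (85, 4), (86, 3), (87, 9), (88, 9), (89, 10), (90, 7), (91, 2), (92, 6), (93, 5), (94, 10), (95, 5), (96, 4), (97, 5), (98, 9), (99, 9), (100, 6), (101, 8), (102, 2), (103, 8), (104, 6), (105, 7), (106, 4), (107, 2), (108, 1), (109, 7), (110, 9), (111, 6), (112, 6), (113, 3), (114, 10), (115, 8), (116, 9), (117, 10), (118, 3), (119, 8), (120, 7), (121, 1), (122, 7), (123, 6), (124, 3), (125, 6), (126, 3), (127, 1), (128, 4), (129, 10), (130, 4), (131, 2), (132, 9)],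
  [(0, 10), (1, 9), (2, 9), (3, 4), (4, 5), (5, 9), (6, 9), (7, 6), (8, 1), (10, 8), (11, 10), (12, 10), (13, 10), (14, 7), (15, 3), (16, 6), (17, 3), (18, 10), (19, 5), (20, 9), (21, 10), (22, 8), (23, 7), (24, 7), (25, 6), (26, 10), (27, 10), (28, 9), (29, 1), (30, 1), (31, 9), (32, 10), (33, 9), (34, 1), (35, 8), (36, 8), (37, 8), (38, 4), (39, 9), (40, 1), (41, 9), (42, 5), (43, 5), (44, 5), (45, 5), (46, 4), (47, 3), (48, 8), (49, 3), (50, 8), (51, 5), (52, 5), (55, 7), (57, 2), (58, 4), (59, 10), (60, 3), (61, 5), (62, 9), (63, 8), (64, 5), (65, 8), (66, 8), (67, 6), (68, 5), (69, 1), (70, 9), (71, 8), (72, 2), (73, 6), (75, 3), (76, 5), (86, 9), (87, 3), (88, 9), (92, 3), (98, 9), (100, 9), (101, 3), (102, 8), (105, 4), (106, 5), (107, 6), (109, 6), (110, 3), (111, 5), (112, 4), (113, 8), (114, 2), (115, 1), (116, 7), (117, 4), (118, 7), (119, 4), (120, 2), (121, 6), (122, 4), (123, 5), (124, 2), (125,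 5), (126, 2), (127, 9), (130, 9), (131, 8), (132, 1)],
  [(0, 1), (1, 8), (2, 2), (3, 9), (4, 6), (5, 2), (6, 1), (7, 5), (8, 10), (10, 8), (11, 3), (12, 2), (13, 2), (15, 6), (16, 2), (18, 4), (19, 6), (20, 5), (21, 4), (22, 1), (23, 5), (24, 7), (25, 2), (27, 1), (28, 1), (29, 9), (30, 2), (31, 10), (32, 4), (33, 9), (34, 4), (35, 4), (36, 4), (37, 2), (38, 10), (39, 6), (40, 1), (41, 1), (42, 3), (43, 6), (44, 6), (45, 10), (46, 6), (47, 10), (48, 2), (49, 6), (50, 9), (51, 7), (52, 7), (53, 4), (54, 3), (55, 5), (57, 5), (58, 10), (59, 5), (60, 7), (61, 6), (62, 6), (63, 6), (64, 8), (65, 6), (66, 3), (67, 3), (68, 8), (69, 2), (70, 1), (71, 5), (72, 7), (73, 9), (75, 6), (76, 8), (77, 2), (79, 3), (80, 8), (81, 9), (82, 3), (83, 9), (84, 9), (85, 3), (86, 1), (87, 6), (88, 4), (89, 9), (90, 8), (91, 8), (92, 10), (93, 4), (94, 9), (95, 9), (96, 5), (97, 3), (98, 1), (99, 5), (100, 4), (103, 3), (104, 10),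 (105, 5), (106, 5), (107, 3), (109, 6), (110, 8), (111, 6), (112, 6), (113, 6), (114, 9), (115, 8), (116, 6), (117, 6), (118, 6), (120, 1), (121, 6), (122, 6), (123, 6), (125, 6), (126, 1), (127, 2), (128, 7), (129, 10), (132, 2)],
  [(0, 7), (1, 2), (3, 1), (4, 9), (6, 5), (7, 2), (8, 1), (9, 6), (10, 8), (11, 5), (12, 7), (13, 5), (14, 10), (15, 8), (16, 4), (17, 1), (18, 10), (19, 3), (20, 9), (21, 10), (22, 5), (23, 4), (24, 4), (25, 10), (26, 1), (28, 10), (29, 5), (31, 7), (32, 8), (33, 3), (34, 9), (35, 10), (36, 5), (37, 6), (39, 3), (40, 1), (41, 10), (42, 10), (43, 3), (44, 7), (45, 9), (46, 1), (47, 2), (48, 10), (49, 4), (50, 1), (51, 2), (52, 7), (53, 4), (54, 9), (55, 5), (56, 2), (57, 8), (58, 2), (59, 3), (60, 2), (61, 3), (62, 2), (63, 3), (64, 7), (65, 8), (66, 10), (67, 4), (68, 7), (69, 10), (70, 5), (71, 10), (72, 6), (73, 4), (74, 2), (75, 10), (76, 7), (77, 10), (78, 8), (79, 8), (81, 9),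 (82, 3), (83, 9), (84, 9), (85, 6), (86, 5), (87, 5), (88, 3), (89, 9), (90, 8), (91, 9), (92, 2), (93, 9), (94, 9), (95, 1), (96, 5), (97, 8), (100, 5), (101, 5), (102, 6), (103, 6), (104, 5), (106, 3), (107, 8), (108, 3), (109, 7), (110, 3), (111, 7), (112, 4), (114, 10), (115, 4), (116, 3), (117, 7), (119, 8), (120, 7), (121, 10), (122, 10), (123, 7), (124, 9), (125, 7), (126, 4), (127, 1), (128, 5), (129, 8), (130, 10), (131, 4), (132, 5)],
  [(0, 5), (1, 5), (2, 6), (3, 1), (4, 8), (5, 5), (6, 5), (7, 7), (8, 5), (9, 5), (10, 6), (11, 10), (12, 6), (13, 4), (14, 7), (16, 4), (17, 4), (18, 10), (19, 3), (20, 8), (21, 6), (22, 6), (23, 4), (24, 10), (25, 9), (26, 9), (30, 2), (31, 1), (32, 9), (33, 4), (34, 9), (35, 7), (36, 9), (37, 5), (39, 3), (40, 4), (41, 10), (42, 4), (43, 4), (44, 7), (45, 8), (46, 10), (47, 1), (48, 1), (49, 3), (50, 6), (51, 5), (52, 10), (54, 2), (55, 1), (56, 2), (57, 5), (58, 2),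 (60, 2), (61, 7), (62, 8), (63, 3), (64, 2), (65, 8), (66, 2), (67, 9), (68, 2), (69, 2), (70, 5), (71, 9), (73, 8), (74, 2), (75, 6), (76, 2), (77, 3), (78, 8), (80, 3), (81, 8), (82, 9), (83, 8), (85, 8), (86, 8), (87, 8), (88, 7), (89, 3), (90, 10), (91, 9), (92, 5), (93, 8), (94, 3), (96, 8), (97, 3), (98, 5), (99, 4), (100, 9), (101, 6), (103, 5), (104, 3), (105, 5), (106, 6), (107, 10), (109, 5), (110, 9), (111, 6), (112, 6), (113, 6), (114, 9), (115, 1), (116, 5), (117, 4), (118, 7), (119, 6), (120, 9), (121, 4), (122, 4), (123, 9), (124, 2), (125, 4), (128, 2), (129, 1), (130, 10), (131, 4), (132, 1)]]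

/-- data -/
def d4_13 : SMat := [
  [(0, 2), (1, 6), (2, 3), (3, 2), (4, 7), (5, 7), (6, 7), (7, 10), (8, 6), (9, 9), (10, 2), (12, 8), (14, 4), (15, 8), (17, 9), (18, 3), (19, 3), (20, 2), (21, 10), (22, 3), (23, 1), (24, 2), (25, 1), (26, 6), (27, 2), (28, 1), (29, 2), (30, 9), (31, 6), (32, 1), (34, 8), (35, 5), (36, 8), (37, 9), (38, 8), (39, 9), (40, 10), (41, 5), (42, 5), (43, 5), (44, 10), (45, 1), (46, 4), (47, 4), (48, 2), (49, 2), (50, 5), (51, 1), (52, 2), (53, 9), (54, 10), (55, 7), (56, 5), (57, 6), (58, 1), (59, 3), (60, 3), (61, 6), (62, 2), (63, 8), (64, 7), (65, 5), (66, 1), (67, 4), (68, 6), (69, 9), (70, 5), (73, 9), (74, 4), (75, 3), (76, 7), (77, 8), (78, 2), (79, 6), (80, 3), (81, 6), (82, 3), (84, 6), (86, 6), (87, 3), (88, 6), (89, 6), (90, 5), (91, 3), (92, 6), (93, 9), (94, 1), (95, 6), (96, 8), (97, 3), (98, 6), (100, 5), (103, 1), (104, 10), (105, 3), (106, 2), (107, 9), (108, 3),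 (109, 5), (110, 2), (111, 5), (112, 6), (113, 8), (114, 8), (115, 3), (116, 3), (117, 5), (118, 5), (119, 7), (120, 8), (121, 3), (122, 4), (123, 9), (124, 5), (125, 5), (126, 2), (127, 2), (128, 2), (129, 5), (130, 7), (131, 3), (132, 2)],
  [(1, 2), (3, 8), (5, 8), (6, 3), (7, 10), (8, 10), (9, 8), (10, 8), (11, 1), (12, 5), (13, 8), (14, 4), (15, 2), (16, 2), (17, 2), (18, 5), (19, 5), (20, 4), (21, 3), (22, 1), (23, 7), (24, 2), (25, 4), (26, 4), (27, 3), (28, 9), (29, 4), (30, 1), (31, 7), (32, 6), (33, 4), (34, 3), (35, 10), (36, 4), (37, 8), (38, 3), (39, 3), (40, 7), (41, 4), (43, 10), (44, 8), (45, 9), (46, 2), (47, 2), (48, 1), (49, 3), (50, 8), (51, 6), (52, 6), (53, 1), (54, 3), (55, 9), (57, 8), (58, 2), (59, 5), (60, 7), (61, 10), (63, 9), (64, 6), (65, 2), (66, 7), (67, 5), (68, 4), (69, 1), (70, 9), (71, 8), (72, 10), (73, 5), (74, 9), (76, 6), (77, 6), (78, 8), (79, 3), (80, 2), (81, 2), (82,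 8), (83, 2), (84, 1), (85, 4), (86, 5), (87, 3), (88, 6), (90, 5), (91, 8), (92, 4), (93, 2), (95, 1), (96, 4), (98, 6), (99, 4), (100, 8), (102, 9), (104, 10), (105, 7), (106, 9), (107, 2), (108, 2), (109, 2), (110, 4), (111, 2), (112, 2), (113, 9), (114, 4), (115, 2), (116, 6), (117, 2), (118, 2), (119, 9), (120, 4), (121, 6), (122, 2), (123, 2), (125, 9), (127, 7), (128, 7), (130, 4), (131, 4), (132, 7)],
  [(0, 1), (1, 3), (2, 10), (3, 9), (4, 5), (5, 10), (6, 5), (7, 5), (8, 8), (9, 6), (10, 8), (11, 5), (12, 3), (13, 9), (15, 6), (16, 8), (17, 6), (18, 3), (19, 10), (20, 9), (21, 3), (22, 4), (23, 2), (24, 1), (25, 3), (26, 6), (27, 9), (28, 1), (29, 5), (30, 3), (31, 1), (33, 2), (34, 10), (35, 3), (36, 10), (37, 3), (39, 2), (40, 7), (42, 5), (44, 9), (45, 8), (46, 5), (47, 8), (48, 1), (50, 9), (51, 6), (52, 1), (53, 2), (54, 8), (55, 4), (56, 3), (58, 5), (59, 5), (60, 6), (62, 8), (63, 3), (64, 10),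 (65, 9), (66, 2), (67, 1), (68, 10), (69, 4), (70, 7), (71, 3), (72, 4), (73, 8), (74, 3), (75, 3), (76, 2), (77, 8), (78, 1), (80, 3), (81, 10), (83, 10), (84, 6), (85, 3), (86, 7), (87, 7), (88, 6), (89, 3), (90, 3), (91, 8), (92, 7), (93, 10), (94, 7), (95, 4), (96, 4), (97, 4), (98, 10), (99, 9), (100, 5), (101, 8), (102, 8), (103, 6), (104, 8), (105, 4), (106, 2), (109, 7), (110, 4), (111, 2), (112, 1), (113, 9), (114, 3), (115, 7), (116, 7), (118, 9), (119, 4), (120, 7), (121, 7), (122, 7), (125, 9), (126, 7), (127, 8), (128, 2), (129, 4), (130, 4), (131, 9)],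
  [(0, 9), (1, 3), (2, 3), (3, 2), (4, 6), (5, 5), (6, 10), (7, 7), (9, 7), (10, 5), (11, 1), (12, 7), (13, 7), (14, 7), (15, 9), (16, 10), (19, 10), (20, 8), (21, 4), (22, 9), (23, 2), (25, 6), (26, 7), (27, 7), (28, 5), (29, 4), (30, 8), (31, 8), (32, 9), (33, 2), (34, 4), (36, 2), (37, 3), (38, 2), (39, 10), (40, 3), (41, 7), (42, 2), (43, 7), (44, 9), (45, 5), (46, 4), (47, 6), (48, 4), (49, 6), (50, 10), (51, 4), (52, 2), (53, 2), (55, 1), (57, 3), (58, 2), (60, 4), (61, 8), (62, 5), (63, 6), (64, 6), (65, 9), (66, 2), (67, 5), (68, 6), (69, 3), (70, 1), (72, 6), (73, 4), (75, 2), (76, 8), (77, 3), (78, 1), (79, 9), (80, 10), (81, 9), (82, 2), (83, 10), (84, 1), (85, 8), (86, 6), (87, 8), (88, 7), (90, 8), (91, 4), (92, 7), (93, 9), (94, 10), (95, 3), (96, 10), (98, 7), (99, 5), (100, 3), (101, 2), (103, 9), (104, 3), (105, 6), (106, 4), (107, 1), (108, 7), (109, 4), (110, 8), (112, 2), (113, 3), (114, 3),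 (115, 3), (116, 3), (117, 4), (118, 3), (119, 1), (120, 7), (121, 4), (122, 2), (124, 3), (126, 3), (127, 1), (130, 8), (131, 7)],
  [(0, 3), (1, 7), (2, 10), (3, 4), (7, 2), (8, 8), (9, 6), (10, 7), (11, 8), (12, 3), (13, 10), (14, 2), (15, 4), (17, 4), (18, 8), (19, 7), (20, 5), (21, 10), (24, 7), (25, 5), (26, 8), (27, 9), (28, 4), (29, 8), (30, 5), (31, 6), (32, 4), (33, 1), (35, 5), (37, 5), (38, 2), (39, 5), (40, 10), (41, 5), (42, 5), (43, 4), (45, 1), (46, 3), (47, 10), (48, 6), (49, 5), (50, 4), (51, 1), (52, 7), (53, 2), (54, 2), (55, 8), (56, 4), (57, 7), (58, 4), (59, 7), (60, 9), (61, 7), (62, 4), (63, 1), (64, 1), (65, 6), (66, 6), (67, 10), (68, 9), (69, 5), (70, 8), (72, 1), (73, 7), (74, 1), (75, 2), (76, 1), (77, 9), (78, 6), (79, 6), (80, 10), (81, 6), (82, 7), (83, 3), (84, 6), (85, 3), (86, 9), (87, 10), (88, 1), (89, 6), (91, 7), (92, 9), (93, 5), (94, 9), (95, 6), (96, 7), (97, 7), (98,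 9), (99, 5), (100, 2), (103, 1), (104, 1), (105, 3), (106, 7), (107, 4), (108, 5), (109, 2), (110, 7), (111, 2), (112, 9), (113, 8), (114, 1), (115, 6), (116, 10), (117, 2), (118, 2), (119, 5), (120, 1), (121, 10), (122, 6), (123, 4), (124, 9), (125, 2), (126, 10), (127, 3), (128, 3), (129, 9), (130, 9), (131, 6), (132, 3)],
  [(1, 1), (3, 4), (4, 1), (6, 10), (7, 1), (8, 8), (9, 3), (10, 4), (11, 8), (12, 2), (13, 8), (14, 5), (15, 4), (16, 2), (17, 6), (18, 5), (19, 7), (20, 10), (21, 7), (22, 8), (23, 2), (24, 6), (25, 7), (26, 8), (28, 5), (29, 6), (32, 2), (34, 8), (35, 5), (36, 10), (37, 7), (39, 7), (40, 8), (41, 5), (42, 5), (43, 7), (44, 9), (45, 1), (46, 6), (47, 1), (48, 5), (49, 4), (50, 8), (51, 1), (52, 7), (53, 2), (54, 10), (55, 10), (56, 3), (57, 4), (58, 3), (59, 7), (60, 1), (62, 1), (63, 9), (64, 9), (65, 4), (66, 5), (67, 2), (68, 9), (69, 5), (70, 8), (71, 7), (72, 1), (73, 6), (74, 3), (75,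 4), (78, 1), (79, 3), (80, 1), (81, 5), (82, 8), (83, 5), (84, 5), (85, 4), (86, 6), (87, 5), (89, 5), (90, 3), (91, 4), (92, 1), (93, 6), (94, 5), (95, 10), (96, 5), (97, 2), (98, 2), (99, 9), (100, 3), (101, 4), (102, 6), (103, 8), (104, 4), (105, 2), (108, 8), (109, 10), (111, 10), (112, 1), (113, 9), (114, 6), (115, 10), (116, 7), (117, 10), (118, 9), (119, 4), (120, 9), (121, 8), (122, 8), (123, 10), (124, 3), (125, 10), (126, 10), (127, 6), (128, 4), (129, 2), (130, 10), (131, 10), (132, 4)],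
  [(0, 6), (2, 4), (3, 8), (4, 9), (5, 6), (6, 8), (7, 1), (8, 7), (9, 7), (10, 5), (11, 2), (12, 4), (13, 10), (14, 1), (16, 10), (17, 10), (18, 3), (19, 2), (20, 9), (21, 4), (22, 10), (23, 9), (24, 5), (25, 6), (26, 6), (28, 1), (29, 1), (30, 7), (31, 7), (32, 7), (34, 6), (35, 1), (36, 5), (37, 7), (39, 3), (40, 1), (41, 3), (43, 10), (44, 2), (45, 8), (46, 4), (47, 7), (48, 8), (49, 1), (50, 5), (51, 7), (52, 3), (53, 1), (54, 5), (55, 7), (56, 5), (57, 9), (58, 5), (59, 2), (60, 5), (61, 1), (62, 8), (63, 3), (64, 6), (65, 10), (66, 6), (67, 5), (68, 6), (69, 7), (70, 8), (71, 6), (73, 9), (74, 5), (75, 5), (76, 6), (77, 6), (78, 4), (79, 6), (80, 7), (81, 10), (82, 3), (83, 10), (85, 5), (86, 5), (87, 5), (88, 4), (89, 1), (90, 7), (91, 3), (92, 9), (93, 10), (94, 1), (96, 5), (97, 1), (98, 4), (99, 5), (100, 9), (101, 8), (102, 5), (103, 9), (104, 1), (105, 10), (106, 2), (109, 9), (110, 7), (111, 2),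 (112, 2), (113, 2), (114, 3), (115, 4), (116, 9), (117, 5), (118, 6), (119, 2), (120, 3), (121, 5), (122, 5), (123, 7), (124, 8), (125, 5), (128, 8), (129, 4), (130, 7), (131, 9), (132, 4)],
  [(0, 5), (1, 5), (2, 6), (3, 8), (4, 5), (6, 8), (7, 6), (8, 4), (9, 5), (10, 7), (11, 8), (12, 5), (13, 4), (15, 7), (17, 8), (18, 3), (20, 8), (21, 4), (22, 6), (23, 10), (24, 2), (25, 5), (26, 5), (29, 1), (30, 9), (31, 7), (34, 9), (36, 7), (37, 5), (38, 3), (39, 3), (40, 3), (41, 2), (42, 1), (43, 3), (44, 1), (46, 7), (47, 4), (48, 5), (49, 1), (50, 2), (52, 4), (53, 2), (54, 3), (55, 4), (56, 2), (57, 8), (58, 5), (59, 6), (61, 3), (63, 6), (64, 6), (66, 6), (67, 5), (68, 2), (69, 9), (70, 6), (71, 2), (72, 7), (73, 4), (74, 5), (75, 2), (76, 6), (77, 4), (78, 5), (79, 7), (80, 1), (81, 6), (82, 3), (83, 5), (84, 5), (85, 8), (86, 3), (87, 2), (88, 7), (89, 4), (90, 7), (91, 6), (92, 1), (93, 5), (94, 5), (95, 5),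 (96, 2), (97, 5), (98, 2), (99, 7), (102, 9), (103, 1), (104, 10), (105, 7), (106, 5), (107, 6), (108, 5), (109, 10), (110, 5), (111, 10), (112, 1), (113, 4), (114, 10), (115, 7), (116, 2), (117, 10), (118, 4), (119, 3), (120, 3), (121, 6), (122, 1), (123, 8), (124, 7), (125, 1), (126, 1), (127, 8), (128, 4), (129, 9), (130, 2), (131, 7), (132, 2)]]

/-- data -/
def d4_14 : SMat := [
  [(0, 6), (1, 3), (2, 2), (3, 9), (4, 3), (5, 1), (6, 8), (7, 4), (8, 2), (9, 2), (10, 7), (11, 4), (12, 2), (13, 2), (14, 7), (15, 3), (16, 3), (17, 5), (18, 10), (19, 1), (20, 3), (21, 5), (22, 5), (23, 2), (24, 4), (25, 5), (26, 6), (27, 1), (29, 1), (30, 8), (31, 1), (32, 1), (33, 9), (35, 6), (37, 1), (38, 10), (39, 1), (40, 7), (41, 10), (42, 7), (43, 2), (44, 5), (45, 5), (46, 7), (47, 2), (48, 8), (49, 8), (51, 3), (52, 6), (53, 10), (54, 4), (55, 4), (56, 10), (57, 2), (58, 7), (59, 1), (60, 3), (61, 2), (62, 8), (63, 10),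 (64, 7), (65, 2), (66, 9), (67, 8), (70, 1), (71, 1), (72, 2), (74, 7), (75, 7), (77, 3), (78, 1), (79, 9), (81, 9), (82, 3), (83, 7), (84, 10), (85, 7), (86, 2), (87, 8), (88, 7), (89, 4), (90, 6), (91, 1), (93, 1), (94, 2), (95, 1), (96, 5), (97, 3), (98, 7), (99, 6), (100, 1), (101, 1), (102, 1), (103, 9), (105, 6), (106, 3), (107, 8), (108, 8), (109, 6), (110, 3), (111, 4), (113, 1), (114, 9), (115, 8), (116, 9), (117, 4), (118, 3), (119, 10), (120, 5), (121, 1), (122, 8), (123, 4), (124, 4), (126, 3), (127, 9), (128, 6), (129, 3), (130, 7), (131, 1), (132, 3)],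
  [(0, 7), (1, 10), (2, 4), (3, 10), (4, 6), (5, 7), (6, 8), (8, 4), (9, 4), (10, 4), (11, 7), (12, 7), (13, 9), (14, 1), (15, 9), (16, 1), (17, 10), (18, 3), (19, 4), (20, 8), (21, 1), (22, 7), (23, 4), (24, 9), (25, 3), (26, 7), (27, 9), (28, 9), (29, 8), (30, 7), (32, 5), (33, 7), (34, 7), (35, 3), (36, 8), (37, 8), (39, 2), (40, 2), (41, 1), (42, 9), (43, 2), (44, 7), (45, 1), (46, 3), (47, 10), (48, 8), (49, 5), (50, 4), (51, 9), (52, 2), (53, 1), (54, 1), (56, 6), (57, 9), (58, 6), (59, 1), (60, 7), (61, 4), (62, 1), (63, 5), (64, 3), (65, 6), (66, 5), (67, 8), (68, 3), (69, 7), (70, 2), (71, 4), (72, 8), (73, 10), (74, 6), (75, 2), (76, 3), (77, 2), (78, 2), (79, 5), (80, 1), (81, 8), (82, 7), (83, 3), (84, 7), (85, 9), (86, 3), (87, 1), (88, 5), (89, 8), (91, 10), (92, 2), (93, 9), (94, 8), (95, 8), (96, 7), (97, 8), (98, 2), (99, 2), (100, 10), (102, 10), (103, 1), (104, 10), (105, 10), (106, 6), (107,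 10), (108, 2), (109, 3), (110, 1), (111, 1), (112, 1), (113, 1), (114, 6), (116, 5), (117, 5), (119, 1), (120, 4), (121, 5), (122, 5), (123, 3), (124, 9), (125, 3), (126, 2), (128, 7), (129, 9), (131, 2), (132, 9)],
  [(0, 8), (1, 6), (3, 7), (4, 1), (5, 10), (6, 4), (7, 9), (9, 2), (10, 10), (11, 10), (12, 9), (13, 7), (14, 8), (15, 8), (16, 4), (17, 4), (18, 7), (19, 10), (20, 3), (21, 4), (22, 8), (23, 5), (24, 9), (25, 6), (26, 10), (27, 2), (28, 8), (29, 2), (30, 9), (32, 5), (33, 4), (34, 7), (35, 7), (36, 5), (37, 6), (38, 2), (39, 2), (41, 6), (42, 9), (44, 6), (45, 9), (46, 7), (47, 7), (48, 5), (50, 5), (51, 7), (53, 5), (54, 5), (55, 4), (56, 2), (57, 8), (58, 4), (59, 1), (60, 3), (62, 6), (63, 9), (64, 6), (66, 6), (67, 5), (68, 6), (69, 9), (70, 10), (71, 2), (72, 6), (73, 6), (74, 2), (75, 10), (76, 6), (78, 4), (79, 10), (80, 4), (81, 7), (82, 4), (83, 6), (84, 6), (85, 8), (86, 3), (87, 2), (88,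 9), (89, 5), (90, 8), (91, 3), (92, 3), (93, 7), (94, 6), (95, 6), (96, 2), (97, 5), (98, 3), (99, 7), (100, 6), (101, 10), (102, 10), (103, 2), (104, 10), (106, 9), (108, 7), (109, 3), (110, 1), (111, 8), (112, 7), (113, 6), (114, 8), (115, 2), (116, 7), (117, 8), (118, 1), (119, 4), (120, 3), (121, 10), (122, 4), (123, 3), (124, 7), (125, 3), (126, 2), (128, 5), (129, 3), (130, 5), (131, 5), (132, 3)],
  [(0, 2), (1, 7), (2, 8), (3, 1), (4, 3), (7, 7), (8, 9), (9, 8), (10, 9), (11, 2), (13, 7), (14, 2), (15, 7), (16, 8), (17, 4), (18, 7), (19, 7), (20, 4), (22, 3), (23, 3), (24, 7), (25, 5), (26, 9), (27, 9), (28, 5), (29, 9), (30, 5), (31, 6), (32, 4), (33, 4), (35, 5), (36, 8), (37, 5), (38, 2), (39, 5), (40, 10), (41, 6), (42, 5), (43, 4), (44, 4), (45, 9), (46, 3), (47, 7), (48, 9), (49, 4), (50, 4), (51, 9), (52, 7), (53, 10), (54, 2), (55, 8), (56, 4), (57, 7), (58, 6), (59, 4), (60, 9), (61, 4), (62,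 1), (63, 1), (64, 4), (65, 7), (66, 6), (67, 7), (68, 1), (69, 5), (71, 2), (72, 4), (73, 7), (74, 1), (75, 7), (76, 4), (77, 9), (78, 5), (79, 6), (80, 7), (81, 6), (82, 4), (83, 9), (84, 9), (85, 6), (86, 4), (87, 5), (88, 10), (89, 1), (90, 3), (91, 5), (92, 4), (93, 6), (94, 9), (95, 9), (96, 5), (97, 1), (98, 1), (99, 2), (100, 7), (101, 3), (102, 3), (103, 7), (104, 4), (105, 7), (106, 9), (108, 4), (109, 4), (110, 2), (112, 4), (114, 4), (115, 10), (116, 4), (117, 8), (118, 7), (120, 4), (121, 8), (122, 4), (123, 4), (124, 5), (126, 4), (128, 3), (129, 9), (131, 4), (132, 7)],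
  [(0, 2), (1, 10), (2, 1), (4, 3), (5, 2), (6, 6), (7, 5), (10, 7), (11, 9), (13, 6), (14, 8), (16, 8), (17, 5), (18, 7), (19, 3), (20, 3), (21, 3), (22, 9), (23, 8), (24, 8), (25, 8), (26, 1), (28, 6), (29, 10), (30, 6), (31, 10), (33, 4), (34, 5), (35, 9), (36, 8), (37, 6), (38, 9), (41, 6), (42, 6), (44, 3), (45, 8), (46, 4), (47, 10), (48, 7), (49, 5), (50, 4), (51, 10), (52, 8), (53, 5), (54, 1), (55, 9), (56, 6), (57, 9), (58, 6), (60, 7), (61, 3), (62, 8), (63, 8), (64, 5), (65, 6), (66, 7), (67, 6), (68, 5), (69, 5), (70, 6), (71, 4), (72, 6), (73, 1), (74, 6), (75, 10), (76, 2), (77, 3), (79, 8), (80, 2), (81, 1), (82, 6), (83, 9), (84, 2), (85, 7), (86, 8), (87, 9), (88, 7), (89, 2), (90, 5), (91, 4), (92, 9), (93, 1), (94, 1), (95, 4), (96, 7), (97, 1), (98, 9), (99, 6), (100, 1), (101, 1), (102, 1), (103, 10), (104, 1), (105, 10), (106, 3), (107, 6), (108, 8), (109, 4), (110, 3), (113, 1), (114, 5),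 (115, 8), (116, 3), (117, 9), (118, 8), (119, 3), (120, 1), (121, 8), (122, 3), (123, 4), (124, 8), (125, 4), (126, 1), (127, 6), (128, 5), (130, 3), (131, 8), (132, 7)],
  [(0, 1), (1, 7), (2, 1), (3, 1), (4, 10), (6, 8), (7, 9), (9, 6), (10, 7), (11, 4), (12, 2), (13, 6), (14, 5), (15, 5), (16, 8), (17, 2), (18, 5), (19, 3), (20, 3), (22, 2), (24, 10), (25, 4), (26, 10), (27, 10), (28, 6), (29, 8), (30, 7), (31, 8), (32, 4), (33, 1), (34, 10), (35, 6), (36, 8), (37, 7), (38, 1), (39, 3), (40, 1), (41, 5), (42, 5), (43, 6), (45, 2), (46, 4), (47, 10), (48, 4), (49, 5), (50, 4), (52, 8), (54, 1), (55, 7), (56, 2), (57, 8), (58, 5), (59, 4), (61, 3), (62, 2), (64, 2), (65, 9), (66, 5), (67, 9), (68, 9), (69, 7), (70, 2), (71, 9), (72, 1), (73, 8), (74, 5), (75, 4), (76, 2), (77, 4), (78, 5), (79, 7), (80, 1), (81, 5), (82, 7), (83, 6), (84, 5), (85, 7), (86, 1), (87, 2), (88, 7), (89, 5), (90, 7), (91, 4), (92,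 1), (93, 6), (94, 4), (95, 5), (96, 2), (97, 4), (98, 3), (99, 8), (101, 1), (102, 10), (103, 1), (105, 1), (106, 10), (107, 1), (108, 2), (109, 8), (110, 10), (111, 6), (112, 8), (113, 3), (114, 4), (116, 8), (117, 10), (118, 10), (119, 8), (120, 9), (121, 8), (122, 1), (123, 10), (124, 7), (125, 3), (126, 9), (128, 4), (129, 2), (130, 9)],
  [(0, 9), (1, 3), (2, 3), (3, 4), (4, 4), (6, 6), (7, 5), (8, 2), (9, 2), (10, 5), (11, 10), (12, 9), (13, 9), (14, 6), (15, 1), (16, 10), (17, 3), (19, 4), (20, 3), (21, 5), (22, 1), (23, 3), (24, 7), (25, 3), (26, 2), (27, 9), (28, 8), (29, 7), (31, 4), (32, 3), (33, 9), (34, 4), (35, 9), (36, 7), (37, 6), (39, 10), (40, 1), (41, 10), (42, 9), (43, 10), (44, 8), (45, 3), (46, 4), (47, 4), (48, 3), (50, 6), (51, 7), (52, 4), (53, 2), (54, 8), (55, 7), (56, 7), (57, 1), (58, 7), (59, 10), (61, 10), (62, 5), (63, 7), (64, 3), (65, 8), (67, 8), (68, 1), (69, 5), (70, 1), (71,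 8), (72, 10), (73, 2), (74, 5), (75, 5), (76, 3), (77, 6), (78, 5), (79, 2), (80, 4), (81, 1), (82, 5), (83, 2), (84, 9), (85, 10), (86, 3), (87, 8), (88, 5), (89, 4), (90, 6), (91, 9), (92, 10), (93, 8), (94, 8), (95, 2), (96, 2), (97, 9), (98, 8), (99, 4), (100, 1), (101, 1), (102, 3), (103, 3), (104, 5), (106, 2), (107, 2), (109, 9), (110, 5), (111, 9), (112, 9), (113, 2), (116, 2), (117, 9), (118, 4), (119, 9), (120, 2), (121, 9), (122, 9), (123, 7), (124, 4), (125, 8), (126, 2), (127, 7), (130, 9), (132, 2)],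
  [(0, 7), (1, 9), (3, 4), (4, 1), (5, 2), (6, 10), (7, 10), (8, 8), (9, 8), (10, 7), (11, 2), (12, 4), (14, 5), (15, 3), (16, 10), (17, 5), (18, 10), (19, 9), (20, 2), (21, 5), (22, 8), (23, 4), (24, 9), (25, 5), (26, 3), (27, 6), (28, 5), (29, 6), (30, 3), (31, 10), (32, 2), (35, 7), (36, 1), (37, 9), (38, 10), (39, 2), (40, 2), (41, 5), (42, 6), (43, 7), (44, 7), (45, 6), (46, 4), (47, 3), (48, 5), (49, 6), (50, 8), (51, 6), (52, 5), (53, 4), (54, 2), (55, 9), (56, 5), (58, 1), (59, 1), (60, 10), (61, 7), (62, 6), (63, 10), (64, 7), (65, 5), (67, 4), (68, 7), (69, 3), (70, 8), (71, 9), (72, 7), (73, 8), (74, 5), (75, 10), (76, 9), (77, 10), (78, 9), (79, 1), (80, 10), (81, 2), (82, 1), (83, 9), (84, 9), (85, 5), (86, 6), (87, 7), (88, 5), (89, 5), (90, 6), (91, 2), (92, 7), (93, 1), (94, 9), (95, 9), (96, 8), (97, 2), (98, 7), (100, 1), (101, 7), (102, 7), (103, 10), (104, 1), (105, 6), (106, 5), (107, 7),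 (108, 8), (110, 5), (111, 9), (112, 1), (113, 4), (114, 4), (115, 2), (116, 4), (117, 4), (118, 4), (119, 5), (120, 7), (122, 5), (125, 2), (126, 2), (127, 8), (129, 7), (130, 6), (131, 6), (132, 9)]]

/-- data -/
def d4_15 : SMat := [
  [(0, 2), (1, 2), (2, 8), (3, 9), (4, 7), (5, 8), (6, 10), (7, 5), (8, 8), (9, 3), (10, 4), (11, 1), (12, 5), (13, 7), (15, 5), (16, 10), (17, 7), (18, 4), (19, 4), (21, 3), (22, 3), (24, 2), (25, 2), (26, 6), (27, 6), (29, 6), (30, 10), (31, 10), (32, 9), (33, 5), (34, 10), (35, 1), (36, 8), (37, 5), (39, 4), (40, 8), (41, 2), (42, 3), (43, 3), (45, 6), (46, 5), (47, 3), (48, 6), (50, 9), (51, 7), (52, 10), (54, 6), (55, 6), (56, 6), (58, 4), (59, 8), (60, 3), (61, 3), (62, 10), (63, 7), (64, 10), (66, 3), (67, 5), (68, 10), (69, 2), (70, 3), (71, 6), (73, 7), (74, 6), (75, 6), (76, 3), (77, 2), (78, 3), (79, 8), (80, 3), (81, 7), (82, 3), (83, 2), (84, 5), (85, 9), (86, 6), (87,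 2), (89, 7), (90, 7), (91, 2), (92, 5), (93, 9), (94, 8), (95, 7), (97, 7), (98, 5), (99, 5), (100, 7), (101, 9), (102, 9), (103, 3), (104, 8), (105, 8), (106, 8), (107, 1), (109, 10), (110, 6), (111, 3), (112, 10), (113, 5), (115, 2), (116, 3), (117, 6), (118, 7), (119, 10), (120, 2), (121, 10), (122, 10), (123, 10), (124, 8), (125, 10), (126, 4), (127, 3), (128, 7), (129, 9), (130, 7), (132, 4)],
  [(0, 8), (1, 1), (2, 4), (4, 8), (5, 5), (6, 7), (7, 8), (8, 1), (9, 9), (10, 2), (11, 8), (12, 9), (13, 7), (14, 6), (15, 9), (16, 9), (17, 2), (18, 9), (19, 7), (20, 6), (21, 4), (22, 1), (23, 2), (24, 2), (25, 7), (26, 9), (27, 8), (28, 3), (29, 2), (31, 8), (32, 9), (33, 3), (34, 3), (35, 1), (36, 3), (37, 4), (38, 9), (39, 10), (41, 6), (42, 3), (43, 7), (44, 9), (45, 5), (46, 2), (47, 3), (48, 2), (49, 5), (51, 1), (52, 2), (53, 2), (54, 10), (57, 6), (58, 1), (59, 10), (60, 4), (61, 5), (62, 5), (63, 3), (64,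 5), (66, 4), (67, 6), (68, 5), (69, 5), (70, 6), (71, 4), (72, 7), (73, 6), (75, 1), (76, 7), (77, 9), (78, 2), (79, 3), (80, 8), (81, 5), (82, 5), (83, 6), (84, 2), (85, 6), (87, 1), (88, 6), (89, 8), (90, 6), (91, 9), (92, 7), (93, 5), (94, 1), (95, 6), (96, 1), (97, 5), (99, 7), (100, 1), (101, 1), (102, 3), (103, 8), (105, 4), (106, 8), (107, 7), (108, 4), (109, 1), (110, 10), (111, 3), (112, 1), (113, 5), (114, 8), (115, 6), (116, 7), (117, 10), (118, 5), (119, 6), (120, 4), (121, 3), (122, 1), (123, 1), (124, 4), (125, 10), (126, 6), (127, 3), (128, 7), (129, 2), (130, 10), (131, 4), (132, 9)],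
  [(0, 10), (1, 7), (2, 5), (3, 6), (4, 1), (5, 3), (6, 8), (7, 9), (8, 7), (9, 4), (10, 5), (12, 4), (14, 1), (15, 1), (16, 9), (17, 10), (18, 8), (19, 9), (20, 5), (21, 7), (22, 8), (23, 5), (24, 6), (25, 1), (26, 7), (27, 4), (28, 1), (29, 1), (30, 4), (31, 2), (33, 3), (34, 1), (35, 8), (36, 4), (37, 8), (38, 8), (39, 5), (40, 10), (41, 2), (42, 2), (43, 2), (44, 6), (45, 5), (46, 10), (47, 6), (48, 5), (49, 6), (50, 4), (51, 3), (52, 3), (53, 8), (55, 1), (56, 6), (57, 9), (58, 3), (59, 1), (60, 7), (61, 9), (62, 8), (64, 3), (65, 2), (66, 1), (67, 1), (68, 7), (69, 7), (70, 4), (72, 9), (73, 7), (74, 3), (75, 7), (76, 7), (77, 10), (78, 8), (79, 10), (80, 1), (81, 4), (83, 10), (84, 1), (85, 1), (86, 4), (87, 1), (88, 2), (89, 2), (90, 8), (92, 4), (93, 5), (94, 3), (95, 3), (96, 8), (97, 3), (98, 4), (100, 8), (101, 10), (102, 10), (103, 2), (104, 9), (105, 1), (106, 7), (107, 10), (108, 6), (110, 1), (111,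 2), (113, 10), (114, 1), (115, 3), (116, 1), (117, 5), (118, 8), (119, 8), (120, 8), (121, 2), (122, 7), (123, 2), (124, 1), (125, 9), (126, 3), (127, 6), (129, 4), (130, 3), (131, 8), (132, 7)],
  [(0, 5), (1, 8), (2, 5), (3, 4), (4, 8), (5, 8), (6, 5), (7, 1), (8, 4), (9, 8), (10, 8), (12, 4), (13, 1), (14, 2), (15, 3), (16, 6), (17, 10), (18, 9), (19, 2), (20, 9), (21, 6), (22, 9), (23, 6), (24, 4), (25, 8), (26, 8), (27, 9), (28, 2), (29, 4), (30, 9), (31, 7), (32, 9), (33, 1), (34, 2), (35, 2), (36, 8), (37, 6), (38, 10), (39, 10), (40, 4), (41, 3), (43, 2), (44, 5), (45, 6), (46, 3), (47, 5), (48, 8), (49, 1), (50, 2), (51, 4), (52, 2), (53, 8), (54, 6), (55, 3), (56, 6), (57, 1), (58, 4), (59, 10), (60, 4), (61, 10), (62, 6), (63, 3), (64, 8), (66, 8), (67, 3), (68, 6), (69, 3), (70, 2), (71, 7), (72, 1), (73, 8), (74, 4), (75, 7), (76, 6), (77, 2), (78, 2), (79, 8), (80, 8), (81, 2), (82, 1), (83, 1),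 (85, 8), (86, 10), (87, 8), (88, 10), (89, 2), (91, 10), (92, 2), (93, 2), (94, 3), (95, 9), (96, 6), (97, 2), (98, 8), (99, 9), (100, 8), (101, 6), (102, 5), (103, 9), (104, 9), (105, 7), (106, 9), (107, 6), (108, 4), (109, 5), (110, 1), (111, 9), (112, 9), (113, 6), (114, 4), (115, 8), (116, 6), (117, 1), (118, 10), (119, 5), (120, 2), (121, 5), (122, 1), (123, 7), (124, 5), (125, 5), (126, 8), (127, 3), (128, 4), (129, 4), (130, 3), (132, 6)],
  [(0, 8), (2, 5), (3, 1), (4, 3), (5, 4), (6, 4), (7, 10), (8, 4), (10, 2), (11, 8), (12, 9), (13, 10), (14, 10), (15, 8), (16, 7), (17, 9), (18, 6), (19, 3), (20, 7), (21, 7), (22, 3), (23, 9), (24, 10), (25, 7), (26, 8), (27, 7), (28, 5), (29, 5), (30, 4), (31, 6), (32, 9), (33, 3), (34, 5), (35, 2), (36, 2), (37, 1), (39, 5), (40, 3), (41, 5), (42, 2), (43, 5), (44, 6), (45, 6), (46, 1), (48, 1), (49, 8), (50, 10), (51, 6), (52, 4), (53, 1), (55, 10), (56, 10), (57,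 5), (58, 10), (59, 9), (60, 6), (61, 3), (62, 3), (63, 3), (64, 4), (65, 3), (66, 2), (67, 7), (68, 4), (69, 4), (70, 5), (72, 8), (73, 3), (74, 10), (75, 9), (76, 4), (77, 5), (78, 3), (79, 6), (81, 5), (82, 4), (83, 6), (84, 5), (85, 9), (88, 6), (89, 5), (90, 7), (91, 5), (92, 1), (93, 5), (94, 4), (95, 5), (96, 4), (97, 5), (98, 1), (99, 10), (100, 8), (105, 3), (106, 3), (107, 8), (108, 6), (109, 7), (110, 2), (111, 2), (112, 2), (113, 6), (114, 1), (115, 8), (116, 6), (119, 5), (120, 4), (121, 6), (122, 6), (123, 8), (125, 10), (126, 6), (127, 5), (128, 5), (129, 2), (130, 4), (131, 6), (132, 5)],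
  [(0, 2), (1, 6), (2, 8), (3, 1), (4, 4), (5, 3), (6, 6), (7, 9), (8, 4), (9, 7), (10, 4), (11, 5), (12, 7), (13, 8), (14, 10), (15, 1), (16, 4), (17, 6), (18, 9), (19, 8), (20, 10), (21, 6), (22, 4), (24, 8), (25, 7), (26, 5), (27, 3), (28, 10), (29, 10), (30, 10), (31, 3), (32, 1), (33, 1), (34, 4), (35, 6), (36, 2), (37, 9), (40, 10), (46, 8), (47, 2), (48, 4), (49, 8), (50, 9), (51, 3), (52, 8), (53, 9), (54, 5), (55, 5), (56, 6), (58, 6), (59, 7), (60, 3), (61, 8), (63, 5), (64, 5), (65, 1), (66, 4), (67, 6), (68, 7), (69, 4), (70, 4), (71, 6), (72, 1), (73, 5), (74, 8), (75, 10), (76, 7), (77, 2), (78, 6), (79, 10), (80, 4), (81, 4), (82, 1), (83, 5), (84, 5), (85, 9), (86, 7), (87, 4), (88, 8), (89, 4), (90, 6), (91, 2), (92, 2), (93, 7), (94, 8), (95, 9), (96, 2), (97, 9), (98, 3), (99, 8), (100, 9), (101, 1), (102, 10), (103, 10), (104, 9), (105, 3), (106, 1), (107, 1), (108, 9), (109, 8), (110, 6),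 (111, 10), (112, 10), (113, 2), (114, 9), (116, 6), (117, 6), (118, 1), (119, 10), (120, 9), (121, 6), (122, 6), (123, 6), (124, 2), (125, 10), (128, 4), (129, 2), (130, 9), (131, 9), (132, 4)],
  [(0, 9), (1, 10), (2, 3), (4, 7), (5, 9), (6, 8), (7, 1), (8, 5), (9, 5), (11, 7), (12, 6), (13, 2), (14, 10), (15, 9), (17, 1), (18, 2), (19, 5), (20, 7), (21, 1), (22, 6), (23, 4), (24, 1), (25, 5), (26, 5), (28, 1), (29, 7), (30, 7), (31, 2), (32, 7), (33, 8), (34, 8), (36, 9), (37, 8), (38, 10), (39, 2), (40, 2), (41, 1), (42, 7), (43, 2), (44, 7), (45, 2), (46, 2), (48, 5), (49, 5), (50, 4), (51, 10), (52, 1), (53, 10), (54, 1), (55, 9), (56, 6), (57, 9), (58, 6), (59, 2), (60, 7), (61, 5), (62, 2), (63, 3), (64, 2), (65, 5), (66, 4), (67, 9), (68, 2), (69, 7), (70, 1), (71, 4), (72, 8), (73, 10), (74, 6), (76, 2), (77, 4), (78, 7), (79, 10), (82, 1), (84, 4), (85, 6), (86, 3), (87, 3), (88, 2), (89, 8), (90, 6),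 (91, 1), (92, 3), (94, 8), (95, 4), (96, 3), (97, 8), (98, 10), (99, 6), (100, 8), (101, 4), (102, 4), (103, 3), (104, 4), (105, 1), (106, 5), (107, 5), (108, 8), (109, 6), (110, 2), (111, 5), (112, 10), (113, 4), (114, 1), (115, 6), (117, 9), (118, 2), (119, 5), (120, 3), (121, 5), (122, 8), (123, 7), (124, 5), (126, 2), (127, 1), (128, 8), (129, 4), (130, 2), (131, 3), (132, 4)],
  [(0, 10), (1, 5), (2, 6), (3, 6), (4, 4), (5, 9), (6, 7), (7, 4), (8, 5), (9, 1), (10, 3), (12, 2), (13, 9), (14, 8), (15, 2), (16, 2), (17, 6), (18, 1), (19, 2), (21, 5), (22, 1), (23, 6), (24, 7), (25, 2), (26, 5), (28, 8), (29, 4), (30, 10), (33, 9), (34, 4), (35, 1), (36, 7), (37, 7), (38, 7), (39, 7), (41, 9), (42, 4), (43, 10), (44, 5), (45, 7), (46, 5), (47, 6), (48, 2), (49, 4), (50, 8), (51, 2), (52, 4), (53, 2), (54, 2), (56, 1), (57, 1), (58, 9), (60, 2), (61, 3), (62, 7), (63, 7), (64, 3), (65, 5), (66, 2), (67, 8), (69,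 6), (70, 9), (71, 9), (72, 8), (73, 4), (74, 9), (75, 5), (77, 9), (78, 9), (79, 3), (80, 3), (81, 9), (82, 10), (83, 10), (85, 3), (86, 5), (87, 3), (88, 1), (89, 9), (91, 8), (92, 2), (93, 2), (94, 1), (95, 2), (96, 1), (97, 2), (98, 3), (99, 9), (100, 10), (101, 1), (102, 10), (103, 2), (104, 9), (105, 4), (106, 8), (107, 5), (108, 4), (109, 8), (110, 4), (111, 10), (112, 10), (113, 5), (114, 6), (115, 6), (116, 7), (117, 6), (118, 7), (119, 6), (120, 2), (121, 10), (122, 6), (123, 3), (124, 10), (125, 8), (126, 8), (127, 3), (129, 2), (130, 5), (131, 2)]]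

/-- data -/
def d4_16 : SMat := [
  [(0, 2), (1, 3), (2, 2), (3, 9), (4, 10), (5, 6), (6, 10), (8, 10), (9, 3), (10, 1), (11, 5), (12, 10), (13, 6), (14, 3), (15, 9), (16, 7), (17, 3), (18, 8), (19, 7), (20, 7), (21, 10), (22, 3), (23, 4), (24, 6), (25, 10), (26, 7), (27, 4), (29, 8), (30, 9), (31, 1), (32, 5), (33, 4), (34, 4), (35, 8), (36, 3), (37, 3), (39, 7), (40, 5), (41, 2), (42, 6), (43, 4), (44, 7), (45, 3), (46, 4), (47, 3), (48, 10), (49, 4), (50, 9), (51, 10), (52, 2), (53, 7), (54, 4), (56, 3), (57, 7), (58, 5), (60, 7), (61, 8), (62, 6), (63, 2), (64, 2), (65, 3), (66, 9), (67, 2), (68, 2), (69, 2), (70, 3), (71, 3), (72, 2), (73, 8), (74, 3), (76, 5), (77, 2), (78, 3), (79, 8), (80, 10), (81, 7), (82, 3), (83, 6), (84, 5), (85, 9), (86, 6), (87, 2), (89, 7), (90, 7), (91, 2), (92, 5), (93, 9), (94, 8), (95, 7), (97, 7), (98, 5), (99, 5), (100, 7), (101, 9), (102, 9), (103, 3), (104, 8), (105, 3),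 (106, 3), (107, 1), (109, 10), (110, 1), (111, 8), (112, 10), (113, 10), (115, 2), (116, 8), (117, 1), (118, 6), (119, 10), (120, 7), (121, 10), (122, 10), (123, 10), (124, 7), (125, 10), (126, 9), (127, 4), (128, 4), (129, 6), (130, 2), (132, 9)],
  [(0, 3), (1, 8), (2, 5), (3, 4), (4, 10), (5, 5), (6, 4), (7, 6), (8, 7), (9, 8), (10, 5), (12, 4), (13, 10), (14, 3), (19, 1), (20, 5), (21, 3), (23, 8), (24, 4), (25, 8), (26, 7), (27, 2), (28, 3), (29, 2), (30, 7), (31, 9), (32, 7), (33, 2), (34, 4), (36, 8), (37, 10), (38, 9), (39, 3), (40, 10), (41, 3), (42, 5), (44, 3), (45, 5), (46, 5), (47, 8), (48, 9), (49, 9), (50, 5), (51, 6), (52, 4), (53, 9), (54, 3), (55, 4), (56, 3), (58, 3), (60, 8), (62, 5), (63, 1), (64, 5), (66, 8), (67, 6), (68, 8), (69, 8), (70, 2), (71, 3), (72, 2), (73, 10), (74, 6), (75, 6), (76, 8), (77, 7), (78, 5), (79, 3), (80, 8), (81, 6), (82, 5), (83, 9), (84, 5), (85, 4), (86, 10),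 (87, 9), (88, 4), (89, 5), (90, 7), (91, 7), (92, 1), (93, 6), (94, 6), (95, 3), (96, 9), (97, 6), (98, 9), (99, 9), (100, 10), (101, 8), (102, 3), (103, 9), (104, 10), (105, 6), (106, 6), (107, 7), (108, 5), (109, 9), (110, 4), (111, 9), (113, 5), (114, 3), (115, 7), (116, 3), (117, 9), (118, 7), (119, 4), (120, 4), (121, 3), (122, 7), (123, 7), (124, 9), (125, 9), (126, 1), (127, 10), (128, 4), (130, 4), (131, 5), (132, 2)],
  [(0, 3), (1, 5), (2, 8), (3, 2), (4, 7), (5, 3), (6, 6), (7, 4), (8, 8), (9, 8), (10, 6), (12, 3), (13, 8), (14, 3), (15, 7), (16, 9), (17, 8), (18, 3), (19, 4), (20, 9), (21, 3), (22, 3), (23, 4), (24, 2), (25, 4), (26, 8), (27, 9), (29, 5), (31, 3), (32, 9), (33, 2), (35, 6), (36, 1), (37, 4), (38, 10), (39, 1), (40, 5), (42, 3), (43, 1), (44, 7), (45, 7), (46, 4), (48, 4), (49, 4), (51, 7), (52, 1), (53, 4), (54, 6), (55, 10), (56, 5), (57, 10), (58, 5), (59, 8), (60, 7), (61, 1), (62,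 7), (63, 4), (64, 10), (65, 6), (66, 3), (67, 1), (68, 10), (70, 3), (71, 4), (72, 5), (73, 3), (74, 5), (75, 4), (76, 10), (77, 10), (78, 10), (79, 7), (81, 1), (82, 7), (83, 7), (86, 2), (88, 2), (89, 1), (91, 10), (92, 2), (93, 2), (94, 1), (95, 1), (96, 6), (97, 1), (98, 1), (99, 10), (100, 9), (101, 10), (103, 1), (104, 10), (105, 9), (106, 6), (107, 3), (108, 10), (109, 3), (110, 1), (111, 1), (112, 6), (114, 5), (115, 7), (116, 10), (117, 7), (118, 9), (119, 1), (120, 5), (121, 3), (122, 6), (123, 8), (124, 5), (125, 7), (126, 4), (127, 1), (128, 6), (129, 3), (130, 1), (131, 9), (132, 3)],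
  [(0, 8), (1, 10), (2, 5), (3, 8), (4, 4), (5, 5), (6, 5), (7, 7), (8, 5), (9, 2), (10, 8), (11, 4), (12, 6), (13, 8), (14, 10), (16, 3), (17, 9), (18, 10), (19, 2), (20, 6), (22, 5), (23, 6), (24, 1), (25, 5), (26, 10), (27, 8), (28, 7), (29, 6), (30, 7), (31, 1), (32, 10), (33, 6), (34, 3), (35, 2), (37, 2), (38, 2), (39, 5), (40, 7), (41, 7), (42, 3), (43, 2), (44, 9), (45, 2), (46, 3), (47, 5), (48, 2), (49, 5), (50, 4), (51, 2), (52, 4), (53, 9), (54, 4), (55, 8), (57, 2), (58, 2), (59, 8), (60, 5), (61, 2), (62, 4), (63, 4), (64, 8), (65, 6), (66, 2), (67, 3), (68, 8), (69, 7), (70, 9), (71, 6), (72, 7), (73, 4), (75, 1), (76, 8), (86, 1), (87, 10), (88, 1), (92, 2), (98, 1), (100, 6), (101, 10), (102, 1), (105, 6), (106, 8), (107, 3), (108, 2), (109, 3), (110, 1), (111, 5), (112, 3), (113, 1), (114, 4), (115, 4), (116, 7), (117, 5), (118, 3), (119, 4), (120, 2), (121, 5), (122, 7), (123, 1), (124, 7),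 (125, 1), (127, 3), (128, 7), (129, 9), (130, 2), (131, 4), (132, 3)],
  [(0, 8), (2, 4), (3, 1), (4, 4), (5, 6), (6, 10), (7, 4), (8, 3), (9, 1), (10, 10), (11, 7), (12, 10), (13, 7), (14, 5), (15, 2), (17, 4), (18, 4), (19, 3), (20, 3), (21, 5), (23, 4), (25, 1), (26, 10), (27, 9), (28, 10), (29, 6), (30, 1), (31, 7), (32, 3), (33, 2), (34, 3), (36, 7), (38, 7), (40, 3), (41, 10), (42, 4), (44, 3), (45, 4), (46, 6), (47, 1), (48, 5), (49, 9), (50, 7), (51, 3), (52, 2), (53, 4), (54, 8), (55, 5), (56, 10), (57, 4), (58, 8), (59, 2), (60, 10), (61, 3), (62, 8), (64, 3), (65, 2), (66, 6), (67, 1), (68, 3), (69, 4), (71, 3), (72, 6), (73, 4), (74, 10), (75, 8), (76, 7), (77, 2), (78, 3), (79, 7), (80, 2), (81, 8), (82, 4), (83, 6), (84, 5), (85, 9), (86, 6), (87, 2), (89, 6), (90, 7), (91, 3), (92, 5), (93, 10), (94, 4), (95, 7), (96, 1), (97, 6), (98, 4), (99, 6), (100, 7), (101, 10), (102, 10), (103, 3), (104,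 9), (105, 5), (106, 5), (107, 1), (109, 4), (110, 4), (111, 4), (112, 8), (113, 1), (114, 9), (115, 2), (116, 6), (117, 4), (118, 1), (119, 8), (120, 7), (123, 6), (124, 6), (125, 8), (126, 2), (128, 1), (129, 6), (130, 5), (131, 5), (132, 6)]]

/-- data -/
def d4 : SMat := d4_0 ++ d4_1 ++ d4_2 ++ d4_3 ++ d4_4 ++ d4_5 ++ d4_6 ++ d4_7 ++ d4_8 ++ d4_9 ++ d4_10 ++ d4_11 ++ d4_12 ++ d4_13 ++ d4_14 ++ d4_15 ++ d4_16

/-- data -/
def d5_0 : SMat := [
  [(0, 3), (2, 1), (3, 6), (4, 9), (5, 6), (6, 5), (7, 4), (8, 1), (9, 9), (10, 3), (11, 1), (12, 6), (14, 5), (15, 1), (16, 6), (17, 10), (18, 5), (19, 5), (20, 5), (21, 4), (22, 5), (23, 9), (24, 10), (25, 4), (26, 3), (27, 4), (28, 9), (29, 7), (30, 2), (31, 9), (32, 8), (34, 10), (35, 1), (36, 10), (37, 2), (39, 1), (41, 3), (42, 9), (45, 2), (47, 3), (48, 2), (49, 7), (51, 7), (52, 1), (53, 9), (54, 7), (55, 1), (56, 9), (57, 4), (58, 4), (59, 3), (60, 2), (61, 5),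 (63, 6), (64, 1), (65, 4), (66, 8), (67, 1), (68, 1), (69, 7), (71, 2), (72, 2), (73, 5), (75, 8), (76, 1), (77, 2), (78, 1), (79, 3), (80, 9), (81, 1), (82, 6), (83, 7), (84, 1), (85, 5), (86, 1), (87, 4), (88, 3), (90, 9), (91, 10), (92, 7), (93, 4), (94, 4), (95, 6), (96, 1), (97, 4), (98, 4), (99, 3), (100, 2), (104, 2), (105, 2), (106, 6), (107, 7), (108, 2), (109, 9), (110, 4), (111, 6), (112, 6), (113, 8), (114, 5), (115, 2), (116, 10), (117, 7), (118, 6), (119, 3), (120, 4), (121, 9), (122, 8), (123, 7), (125, 6), (126, 5), (127, 6), (128, 7), (129, 9), (130, 10), (131, 3), (132, 9)],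
  [(0, 2), (1, 7), (2, 4), (3, 9), (4, 1), (5, 3), (6, 1), (7, 6), (8, 1), (9, 5), (10, 4), (11, 1), (12, 8), (13, 2), (14, 1), (15, 5), (17, 1), (18, 7), (19, 6), (20, 7), (21, 8), (22, 9), (23, 9), (24, 5), (25, 8), (26, 9), (27, 9), (28, 5), (29, 1), (31, 7), (32, 3), (33, 2), (34, 6), (35, 4), (36, 10), (37, 8), (38, 6), (39, 7), (40, 3), (41, 4), (42, 5), (43, 7), (44, 5), (45, 2), (46, 4), (47, 4), (48, 8), (49, 3), (50, 1), (51, 3), (52, 1), (53, 2), (54, 6), (55, 7), (56, 8), (57, 8), (58, 4), (59, 10), (60, 4), (61, 7), (62, 5), (63, 3), (64, 9), (65, 1), (66, 2), (67, 2), (68, 6), (70, 3), (71, 5), (72, 9), (73, 6), (74, 5), (75, 3), (76, 9), (78, 10), (79, 1), (80, 10), (81, 10), (82, 5), (83, 10), (84, 8), (85, 3), (87, 1), (88, 8), (89, 6), (90, 5), (91, 10), (92, 9), (93, 5), (94, 6), (95, 8), (96, 8), (98, 2), (99, 7), (100, 4), (102, 7), (103, 6), (104, 8), (105, 2), (106, 6), (107, 5), (108, 4),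 (109, 5), (111, 5), (112, 5), (113, 6), (114, 10), (115, 4), (116, 4), (117, 5), (118, 5), (119, 6), (120, 10), (121, 4), (122, 5), (123, 5), (125, 6), (127, 1), (128, 1), (130, 10), (131, 10), (132, 1)],
  [(0, 9), (1, 4), (2, 6), (3, 7), (4, 10), (5, 2), (6, 5), (7, 1), (8, 7), (9, 1), (10, 2), (11, 9), (12, 10), (13, 8), (14, 5), (15, 4), (16, 9), (17, 6), (18, 2), (19, 5), (20, 6), (22, 4), (23, 2), (24, 10), (25, 8), (26, 10), (27, 4), (28, 5), (29, 3), (30, 9), (31, 6), (32, 1), (33, 3), (34, 3), (35, 8), (36, 7), (37, 9), (39, 5), (40, 3), (41, 6), (42, 2), (44, 9), (45, 6), (48, 9), (50, 4), (52, 5), (53, 2), (54, 3), (55, 1), (56, 5), (59, 7), (60, 6), (61, 5), (62, 4), (63, 2), (64, 4), (66, 8), (67, 9), (68, 4), (69, 3), (70, 10), (71, 1), (72, 9), (73, 1), (74, 7), (76, 4), (77, 1), (78, 10), (79, 3), (80, 9), (81, 2), (82, 10), (83, 3), (84, 10), (85, 10), (86, 3), (88, 8), (89, 6), (90, 7), (91,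 10), (92, 3), (94, 4), (95, 4), (96, 8), (97, 4), (98, 3), (99, 9), (100, 6), (101, 2), (102, 2), (103, 7), (104, 4), (105, 3), (106, 6), (107, 4), (108, 4), (109, 4), (110, 7), (111, 2), (113, 8), (115, 5), (116, 8), (117, 1), (118, 5), (119, 6), (120, 10), (121, 7), (122, 4), (123, 3), (124, 2), (125, 2), (126, 9), (128, 3), (129, 8), (130, 9), (131, 6), (132, 6)],
  [(0, 2), (1, 8), (2, 1), (3, 2), (4, 5), (5, 5), (6, 1), (7, 7), (8, 7), (9, 10), (10, 2), (11, 2), (12, 4), (13, 3), (14, 4), (15, 4), (16, 5), (17, 10), (18, 1), (19, 6), (20, 1), (22, 5), (23, 6), (24, 5), (25, 4), (26, 10), (27, 3), (29, 5), (30, 8), (32, 2), (33, 8), (34, 2), (35, 1), (36, 2), (37, 8), (39, 6), (40, 8), (41, 4), (42, 3), (43, 6), (44, 5), (45, 9), (46, 7), (47, 10), (48, 3), (49, 5), (50, 10), (51, 6), (52, 5), (53, 6), (54, 2), (55, 5), (56, 6), (57, 6), (58, 6), (59, 3), (60, 6), (61, 5), (62, 9), (63, 2), (64, 4), (65, 8),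 (66, 10), (67, 7), (68, 4), (69, 2), (70, 10), (71, 7), (72, 8), (73, 7), (74, 6), (75, 6), (76, 1), (77, 4), (78, 3), (79, 5), (80, 8), (81, 4), (83, 2), (84, 3), (85, 2), (86, 6), (87, 2), (88, 4), (89, 10), (90, 2), (91, 7), (92, 9), (93, 4), (94, 7), (95, 10), (96, 9), (98, 4), (99, 10), (100, 5), (101, 7), (102, 10), (103, 10), (104, 5), (105, 8), (106, 1), (107, 4), (108, 10), (109, 1), (110, 2), (112, 5), (113, 9), (114, 9), (115, 9), (116, 9), (117, 1), (118, 9), (119, 3), (120, 10), (121, 1), (122, 5), (124, 9), (126, 9), (127, 3), (130, 2), (131, 10)],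
  [(0, 5), (1, 8), (2, 5), (3, 10), (4, 8), (5, 9), (7, 9), (8, 5), (9, 9), (10, 1), (11, 3), (12, 6), (13, 5), (14, 9), (15, 7), (16, 6), (17, 2), (18, 5), (19, 10), (20, 9), (21, 7), (22, 7), (23, 6), (24, 2), (25, 4), (26, 2), (27, 4), (28, 2), (30, 7), (31, 2), (32, 9), (33, 6), (35, 9), (37, 4), (39, 4), (40, 10), (41, 9), (42, 10), (44, 5), (45, 3), (46, 7), (47, 8), (48, 4), (49, 4), (50, 8), (51, 4), (52, 2), (53, 6), (54, 3), (55, 10), (56, 7), (57, 7), (58, 7), (60, 4), (61, 4), (62, 3), (63, 9), (65, 7), (66, 4), (69, 3), (71, 7), (72, 6), (73, 8), (74, 7), (75, 6), (77, 1), (78, 4), (79, 9), (80, 1), (81, 7), (82, 2), (83, 7), (84, 4), (85, 10), (86, 4), (87, 4), (89, 3), (90, 10), (91, 1), (92, 4), (93, 7), (94, 6), (95, 5), (96, 3), (97, 5), (98, 5), (99, 5), (100, 9), (101, 10), (102, 10), (103, 2), (104, 10), (105, 9), (106, 5), (107, 10), (109, 2), (111, 5), (112, 3), (113, 6), (114, 2), (115,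 1), (116, 2), (117, 1), (118, 6), (120, 1), (121, 2), (122, 2), (123, 1), (125, 6), (126, 1), (127, 9), (128, 4), (129, 10), (130, 10), (131, 7)],
  [(1, 8), (2, 5), (3, 7), (4, 2), (5, 4), (6, 4), (7, 9), (8, 9), (9, 2), (10, 4), (11, 1), (12, 2), (13, 1), (14, 2), (15, 8), (16, 6), (17, 6), (18, 5), (20, 10), (22, 4), (23, 9), (24, 2), (25, 8), (26, 6), (27, 4), (28, 2), (29, 4), (30, 3), (31, 9), (32, 5), (33, 10), (34, 7), (35, 5), (36, 7), (37, 8), (39, 4), (40, 3), (41, 6), (42, 6), (44, 2), (45, 10), (46, 7), (48, 8), (50, 4), (52, 2), (53, 9), (54, 3), (55, 4), (57, 6), (59, 3), (62, 10), (63, 9), (64, 8), (66, 8), (67, 3), (68, 8), (69, 3), (70, 4), (72, 10), (73, 1), (75, 3), (76, 8), (78, 3), (79, 2), (80, 3), (81, 8), (82, 3), (83, 10), (84, 10), (85, 6), (87, 7), (88, 4), (89, 1), (90, 6), (91, 5), (92, 5), (93, 8), (94, 10), (95, 10), (96, 7), (97, 1), (98, 5), (99, 8), (100, 10), (101, 2), (102,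 2), (103, 7), (104, 2), (105, 8), (106, 5), (107, 3), (108, 10), (109, 6), (110, 8), (111, 5), (112, 7), (113, 2), (114, 10), (115, 9), (116, 2), (117, 7), (118, 1), (119, 9), (120, 9), (121, 5), (122, 6), (123, 6), (124, 8), (125, 6), (126, 9), (127, 5), (128, 10), (129, 1), (130, 1), (131, 1), (132, 1)],
  [(0, 3), (1, 2), (2, 7), (3, 2), (4, 4), (6, 6), (7, 7), (8, 7), (9, 4), (10, 3), (11, 3), (12, 4), (13, 10), (14, 4), (15, 8), (16, 4), (17, 4), (18, 7), (20, 7), (22, 8), (25, 8), (26, 4), (27, 8), (29, 4), (30, 7), (32, 3), (33, 8), (34, 3), (35, 7), (36, 7), (37, 8), (39, 6), (40, 7), (41, 4), (42, 8), (45, 10), (46, 7), (47, 4), (48, 8), (49, 4), (50, 3), (52, 4), (53, 7), (54, 3), (55, 4), (57, 4), (59, 10), (62, 10), (63, 3), (64, 4), (65, 7), (66, 4), (67, 7), (68, 4), (69, 7), (70, 4), (72, 1), (73, 5), (75, 5), (76, 4), (77, 4), (78, 8), (79, 5), (80, 3), (81, 2), (82, 5), (83, 2), (85, 7), (86,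 7), (87, 7), (88, 9), (89, 9), (90, 8), (91, 5), (92, 4), (93, 2), (94, 9), (96, 7), (97, 9), (98, 9), (99, 1), (100, 10), (101, 1), (102, 6), (103, 4), (104, 9), (105, 3), (106, 6), (107, 10), (109, 5), (110, 9), (111, 6), (112, 6), (113, 6), (114, 9), (115, 1), (116, 5), (117, 4), (118, 7), (119, 6), (120, 9), (121, 4), (122, 4), (123, 9), (124, 2), (125, 4), (128, 2), (129, 1), (130, 10), (131, 4), (132, 1)],
  [(0, 4), (1, 8), (2, 9), (3, 10), (4, 6), (5, 9), (6, 6), (7, 3), (8, 9), (9, 6), (10, 9), (11, 4), (12, 9), (13, 8), (14, 6), (15, 1), (16, 8), (17, 2), (18, 5), (19, 7), (20, 5), (21, 4), (22, 1), (23, 1), (24, 6), (25, 1), (26, 6), (27, 7), (28, 6), (29, 1), (30, 3), (31, 5), (32, 9), (33, 3), (34, 10), (35, 9), (36, 10), (37, 8), (40, 7), (41, 6), (42, 3), (44, 10), (45, 2), (46, 4), (47, 7), (48, 8), (49, 3), (50, 8), (51, 7), (52, 6), (53, 1), (54, 7), (55, 7), (58, 7), (59, 10), (61, 3), (62,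 2), (63, 5), (64, 1), (65, 4), (66, 7), (67, 10), (68, 1), (69, 3), (70, 5), (72, 3), (73, 1), (76, 1), (77, 1), (78, 2), (79, 7), (80, 2), (81, 7), (82, 5), (83, 8), (84, 7), (85, 8), (86, 4), (87, 2), (88, 1), (89, 7), (90, 9), (91, 5), (92, 4), (93, 9), (94, 6), (95, 7), (96, 3), (97, 5), (98, 4), (99, 6), (100, 7), (103, 3), (104, 9), (105, 8), (106, 9), (107, 2), (108, 10), (109, 6), (110, 9), (111, 6), (112, 5), (113, 3), (114, 3), (115, 8), (116, 8), (117, 6), (118, 6), (119, 4), (120, 3), (121, 8), (122, 7), (123, 2), (124, 6), (125, 6), (126, 9), (127, 9), (128, 9), (129, 6), (130, 4), (131, 8), (132, 9)]]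

/-- data -/
def d5_1 : SMat := [
  [(0, 1), (1, 4), (2, 9), (3, 5), (4, 1), (5, 4), (6, 2), (7, 5), (8, 1), (9, 4), (10, 6), (12, 10), (13, 1), (14, 5), (15, 5), (16, 5), (17, 7), (18, 4), (19, 8), (20, 3), (21, 7), (22, 4), (23, 6), (24, 1), (25, 9), (27, 3), (30, 5), (31, 1), (32, 10), (33, 3), (34, 3), (35, 1), (36, 7), (37, 5), (39, 8), (40, 6), (41, 6), (42, 5), (43, 9), (44, 5), (47, 1), (48, 8), (49, 6), (50, 10), (51, 1), (52, 5), (53, 2), (55, 6), (56, 5), (57, 5), (58, 5), (59, 6), (60, 6), (61, 2), (62, 2), (63, 9), (64, 5), (65, 10), (66, 2), (67, 4), (68, 5), (69, 1), (70, 4), (71, 3), (72, 7), (74, 5), (76, 7), (77, 2), (78, 4), (79, 7), (81, 3), (82, 2), (83, 7), (84, 8), (86, 7), (87, 6), (88, 4), (89, 3), (90, 5), (92, 3), (93, 9), (94, 7), (95, 3), (97, 5), (98, 3), (99, 4), (100, 1), (101, 5), (102, 5), (103, 8), (104, 3), (107, 10), (109, 1), (110, 2), (112, 1), (113, 9), (115, 9), (117, 2),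 (118, 10), (119, 1), (120, 1), (121, 1), (122, 1), (123, 1), (124, 9), (125, 1), (126, 10), (127, 2), (128, 2), (129, 1), (130, 1), (132, 10)],
  [(0, 5), (1, 4), (2, 5), (3, 1), (4, 5), (5, 5), (6, 4), (7, 2), (8, 1), (9, 6), (10, 1), (11, 10), (12, 6), (13, 6), (14, 5), (15, 3), (16, 10), (17, 9), (18, 4), (19, 8), (20, 9), (21, 3), (22, 6), (23, 10), (24, 9), (25, 4), (26, 1), (28, 9), (30, 3), (31, 6), (32, 6), (33, 9), (34, 3), (35, 5), (38, 8), (39, 8), (40, 10), (41, 9), (42, 10), (43, 1), (44, 1), (47, 4), (49, 8), (50, 8), (51, 8), (52, 2), (53, 3), (54, 3), (56, 3), (57, 3), (58, 7), (59, 4), (60, 8), (61, 4), (63, 2), (64, 7), (65, 7), (67, 4), (68, 9), (69, 3), (70, 6), (71, 5), (72, 2), (74, 3), (75, 9), (76, 7), (77, 3), (78, 1), (79, 6), (80, 9), (81, 3), (82, 4), (83, 10), (84, 3), (85, 9), (86, 9), (87, 5), (88, 8), (89, 3), (90, 6), (91, 5), (92, 9), (93, 1), (94, 7), (95, 3), (96, 3), (97, 5),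 (98, 3), (99, 8), (100, 9), (101, 7), (102, 4), (103, 9), (104, 9), (105, 4), (106, 2), (107, 9), (108, 10), (109, 8), (110, 2), (111, 9), (113, 8), (114, 6), (115, 8), (116, 5), (117, 1), (118, 7), (119, 3), (120, 6), (121, 8), (122, 9), (123, 10), (124, 6), (126, 6), (127, 6), (128, 4), (129, 2), (130, 1), (131, 8), (132, 3)],
  [(0, 9), (1, 8), (2, 7), (3, 8), (4, 9), (6, 6), (7, 7), (8, 1), (9, 3), (10, 2), (11, 10), (12, 10), (13, 5), (14, 2), (15, 7), (16, 10), (17, 4), (18, 7), (19, 6), (20, 2), (21, 5), (22, 8), (23, 1), (24, 4), (25, 2), (26, 9), (27, 2), (28, 5), (29, 3), (30, 8), (31, 5), (32, 7), (33, 2), (34, 9), (35, 7), (36, 2), (37, 8), (39, 6), (40, 3), (41, 9), (42, 2), (43, 6), (44, 10), (47, 6), (48, 8), (49, 6), (50, 8), (51, 6), (52, 9), (53, 8), (54, 8), (55, 10), (57, 5), (59, 4), (60, 10), (61, 1), (63, 2), (64, 3), (65, 1), (66, 9), (67, 6), (68, 3), (69, 3), (70, 8), (72, 7), (73, 6),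 (75, 4), (76, 3), (77, 10), (78, 3), (79, 8), (80, 5), (81, 6), (82, 5), (83, 5), (85, 10), (86, 7), (87, 6), (88, 7), (89, 6), (90, 4), (91, 1), (92, 5), (93, 1), (94, 8), (95, 6), (97, 4), (98, 5), (99, 4), (100, 8), (101, 5), (102, 5), (103, 10), (104, 1), (107, 10), (109, 1), (110, 2), (112, 1), (113, 9), (115, 9), (117, 2), (118, 10), (119, 1), (120, 1), (121, 1), (122, 1), (123, 1), (124, 9), (125, 1), (126, 10), (127, 2), (128, 8), (129, 7), (130, 1), (132, 10)],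
  [(0, 8), (1, 4), (2, 6), (3, 3), (4, 6), (5, 2), (6, 4), (7, 1), (8, 6), (9, 6), (10, 6), (11, 3), (12, 9), (13, 9), (14, 10), (15, 9), (16, 9), (17, 9), (18, 6), (20, 2), (21, 1), (22, 9), (24, 9), (25, 4), (26, 3), (27, 8), (28, 3), (29, 5), (30, 8), (31, 5), (32, 2), (33, 2), (34, 3), (35, 2), (36, 3), (37, 7), (38, 5), (39, 10), (40, 1), (41, 10), (42, 9), (43, 4), (44, 3), (45, 3), (46, 4), (47, 6), (48, 4), (49, 5), (50, 3), (51, 4), (52, 6), (53, 5), (54, 3), (56, 4), (58, 5), (59, 6), (61, 8), (62, 3), (63, 10), (64, 5), (66, 8), (67, 3), (68, 8), (69, 7), (70, 4), (71, 4), (72, 10), (73, 1), (74, 4), (76, 8), (77, 6), (79, 2), (80, 6), (81, 2), (82, 7), (83, 6), (84, 5), (85, 1), (86, 8), (87, 7), (88, 7), (90, 3), (92, 1), (93, 7), (94, 10), (95, 1), (96, 2), (97, 2), (98, 4), (99, 8), (100, 8), (101, 3), (102, 3), (103, 5), (104, 5), (105, 6), (106, 8), (107, 3), (108, 2), (109, 7), (110, 8), (111,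 2), (112, 10), (113, 4), (114, 5), (115, 2), (116, 6), (119, 7), (120, 4), (121, 2), (122, 1), (124, 3), (125, 10), (126, 10), (127, 3), (128, 7), (129, 9), (130, 10), (131, 3), (132, 9)],
  [(0, 1), (1, 4), (2, 9), (3, 7), (4, 2), (5, 9), (7, 5), (8, 9), (9, 2), (10, 9), (11, 5), (12, 7), (13, 1), (14, 2), (15, 4), (16, 2), (17, 2), (18, 9), (20, 9), (22, 4), (23, 9), (24, 7), (25, 4), (26, 2), (27, 4), (28, 2), (29, 4), (30, 3), (31, 9), (32, 9), (34, 7), (35, 9), (36, 3), (37, 9), (40, 7), (41, 2), (44, 2), (45, 10), (48, 4), (50, 4), (52, 2), (53, 9), (54, 7), (59, 7), (61, 5), (62, 3), (63, 9), (64, 4), (66, 4), (67, 3), (68, 4), (69, 7), (70, 4), (72, 6), (73, 2), (75, 3), (76, 4), (77, 8), (78, 6), (79, 2), (80, 9), (81, 10), (82, 9), (83, 10), (84, 10), (86, 4), (87, 6), (88, 3), (89, 10), (90, 2), (91, 1), (92, 9), (93, 8), (94, 10), (95, 5), (96, 6), (97, 4), (98, 7), (99, 4), (100, 10), (101, 8), (102,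 5), (103, 1), (104, 8), (105, 9), (106, 2), (107, 9), (108, 6), (109, 2), (110, 2), (111, 2), (112, 9), (113, 2), (114, 8), (116, 6), (117, 2), (118, 2), (119, 5), (120, 2), (121, 6), (122, 6), (123, 2), (124, 3), (125, 2), (127, 1), (128, 3), (129, 7), (130, 4), (132, 3)],
  [(0, 3), (1, 8), (2, 6), (4, 4), (6, 4), (7, 7), (8, 3), (10, 7), (11, 7), (12, 8), (13, 9), (15, 4), (16, 4), (17, 4), (19, 4), (20, 7), (21, 7), (23, 4), (24, 4), (25, 4), (26, 10), (27, 8), (30, 3), (32, 7), (33, 4), (34, 3), (35, 7), (36, 7), (37, 8), (39, 4), (40, 3), (42, 8), (43, 4), (44, 1), (45, 3), (47, 4), (48, 8), (49, 4), (50, 4), (51, 4), (52, 4), (54, 3), (57, 6), (59, 7), (61, 4), (62, 3), (63, 7), (64, 4), (65, 7), (66, 4), (67, 7), (68, 4), (69, 3), (72, 4), (73, 1), (75, 1), (76, 4), (77, 1), (78, 5), (79, 10), (81, 1), (82, 3), (83, 10), (84, 1), (85, 4), (88, 10), (89, 1), (90, 8), (91, 1), (92, 9), (93, 1), (94, 3),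 (95, 1), (96, 3), (97, 1), (98, 4), (99, 2), (100, 6), (105, 1), (106, 1), (107, 10), (108, 1), (109, 10), (110, 9), (111, 9), (112, 9), (113, 1), (114, 2), (115, 10), (116, 1), (119, 10), (120, 3), (121, 1), (122, 1), (123, 10), (125, 2), (126, 1), (127, 10), (128, 10), (129, 9), (130, 1), (131, 1), (132, 10)],
  [(0, 1), (1, 8), (2, 8), (3, 3), (4, 6), (5, 9), (6, 4), (7, 5), (8, 10), (9, 6), (10, 9), (11, 1), (12, 6), (13, 8), (14, 1), (15, 8), (16, 2), (17, 2), (18, 9), (19, 7), (20, 9), (22, 8), (23, 9), (24, 6), (25, 8), (26, 6), (27, 8), (28, 1), (29, 4), (30, 3), (31, 9), (32, 5), (33, 10), (34, 3), (35, 9), (36, 3), (37, 1), (39, 7), (40, 7), (41, 2), (42, 10), (44, 2), (45, 10), (48, 4), (50, 8), (52, 2), (53, 5), (54, 3), (55, 4), (56, 4), (59, 3), (61, 4), (62, 10), (63, 5), (64, 8), (66, 8), (67, 3), (68, 8), (69, 2), (70, 8), (71, 4), (72, 6), (73, 5), (74, 4), (76, 8), (77, 8), (78, 1), (79, 5),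 (80, 6), (81, 5), (82, 1), (83, 4), (84, 1), (85, 3), (86, 2), (87, 4), (88, 3), (89, 1), (90, 8), (91, 8), (92, 9), (93, 10), (94, 10), (95, 5), (96, 4), (97, 10), (98, 4), (99, 4), (100, 2), (101, 6), (102, 5), (103, 4), (104, 2), (105, 10), (106, 10), (107, 10), (108, 1), (109, 2), (110, 1), (111, 2), (113, 1), (114, 3), (115, 10), (116, 3), (117, 2), (118, 10), (119, 1), (120, 3), (121, 3), (122, 4), (123, 4), (124, 8), (125, 2), (128, 7), (130, 1), (131, 1), (132, 9)],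
  [(0, 7), (1, 9), (2, 3), (3, 6), (6, 4), (7, 4), (8, 9), (9, 6), (10, 1), (11, 9), (12, 1), (13, 3), (14, 7), (15, 7), (16, 2), (17, 1), (18, 3), (19, 1), (20, 10), (21, 5), (22, 1), (23, 10), (25, 4), (26, 10), (27, 1), (28, 10), (29, 3), (30, 2), (31, 5), (32, 10), (33, 3), (34, 4), (35, 10), (36, 4), (37, 1), (38, 1), (39, 5), (40, 1), (41, 6), (42, 5), (43, 5), (44, 9), (46, 10), (47, 2), (48, 8), (49, 2), (50, 9), (51, 1), (52, 8), (53, 6), (54, 9), (55, 1), (56, 10), (57, 10), (58, 10), (59, 8), (60, 1), (61, 5), (63, 4), (64, 2), (65, 9), (66, 7), (67, 5), (68, 6), (69, 2), (70, 1), (71, 2), (73, 5), (74, 3), (75, 10), (76, 6), (77, 8), (78, 4), (79, 2), (80, 10), (81, 9), (82, 9), (83, 8), (84, 3), (85, 1), (86, 5), (87, 4), (88, 8), (89, 10), (90, 2), (91, 4), (92, 6), (93, 9), (94, 9), (95, 2), (96, 3), (97, 8), (98, 4), (99, 6), (100, 5), (101, 10), (102, 1), (103, 6), (104, 10), (105, 3), (106, 2),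 (107, 9), (108, 9), (110, 2), (113, 9), (114, 7), (115, 9), (116, 7), (118, 8), (119, 2), (120, 8), (121, 9), (123, 10), (124, 9), (126, 8), (127, 4), (128, 2), (130, 1), (131, 9), (132, 1)]]

/-- data -/
def d5_2 : SMat := [
  [(0, 2), (1, 4), (3, 1), (4, 4), (5, 3), (9, 1), (10, 8), (11, 2), (13, 10), (14, 8), (15, 1), (16, 6), (18, 7), (19, 3), (20, 7), (21, 8), (22, 5), (23, 6), (24, 8), (25, 7), (26, 8), (27, 1), (28, 8), (29, 1), (31, 4), (33, 5), (34, 10), (35, 3), (36, 6), (37, 8), (40, 7), (41, 8), (42, 1), (44, 5), (45, 2), (46, 3), (47, 3), (48, 8), (49, 3), (50, 4), (51, 3), (52, 4), (53, 10), (54, 7), (55, 3), (59, 10), (61, 7), (62, 2), (63, 7), (64, 5), (65, 1), (66, 1), (67, 6), (68, 5), (69, 7), (70, 9), (71, 4), (72, 1), (73, 1), (75, 6), (76, 5), (77, 2), (78, 3), (79, 9), (80, 1), (81, 6), (82, 1), (83, 7), (84, 4), (86, 6), (87, 4), (89, 4), (90, 10), (92, 4), (93, 6), (94, 6), (95, 5), (96,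 3), (97, 6), (98, 4), (99, 4), (100, 9), (101, 9), (102, 9), (103, 2), (104, 9), (105, 8), (106, 9), (107, 6), (108, 2), (109, 1), (110, 9), (113, 3), (114, 4), (115, 2), (116, 8), (117, 4), (118, 2), (119, 9), (120, 3), (121, 2), (122, 3), (123, 1), (124, 2), (125, 1), (126, 3), (127, 7), (128, 5), (130, 9), (131, 2), (132, 10)],
  [(0, 5), (2, 5), (3, 7), (4, 2), (5, 5), (6, 4), (7, 9), (8, 5), (9, 5), (10, 9), (11, 9), (12, 6), (13, 5), (14, 9), (16, 6), (17, 7), (18, 9), (19, 4), (20, 9), (21, 7), (23, 2), (24, 7), (25, 4), (26, 2), (27, 4), (28, 2), (30, 3), (31, 2), (32, 9), (34, 7), (35, 5), (36, 7), (37, 8), (39, 4), (40, 7), (41, 2), (42, 6), (43, 4), (44, 2), (45, 3), (48, 4), (50, 4), (51, 5), (52, 9), (53, 7), (54, 3), (59, 5), (61, 9), (62, 7), (63, 2), (66, 4), (67, 3), (69, 7), (70, 7), (72, 2), (73, 8), (75, 10), (76, 4), (77, 10), (78, 10), (79, 4), (80, 9), (81, 3), (82, 5), (83, 8), (84, 5),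 (85, 1), (86, 5), (87, 9), (88, 4), (89, 3), (90, 9), (91, 4), (92, 7), (93, 1), (94, 3), (95, 3), (96, 3), (97, 3), (98, 7), (99, 1), (100, 2), (102, 2), (103, 9), (104, 2), (105, 1), (107, 3), (108, 7), (109, 4), (110, 8), (111, 8), (112, 8), (113, 10), (114, 10), (118, 1), (119, 8), (120, 3), (123, 4), (124, 4), (125, 4), (126, 7), (127, 9), (128, 8), (129, 4), (131, 7), (132, 4)],
  [(0, 4), (1, 9), (2, 6), (3, 9), (4, 10), (5, 6), (6, 2), (7, 5), (8, 10), (9, 1), (10, 1), (11, 6), (12, 1), (13, 4), (14, 1), (15, 6), (16, 1), (17, 5), (18, 7), (19, 9), (20, 1), (21, 2), (23, 10), (24, 9), (25, 2), (26, 7), (27, 2), (28, 10), (29, 6), (31, 4), (32, 1), (33, 7), (34, 9), (36, 9), (39, 2), (40, 7), (41, 10), (42, 7), (43, 6), (44, 3), (45, 5), (48, 8), (50, 4), (51, 6), (52, 7), (53, 10), (54, 6), (55, 6), (61, 2), (62, 7), (63, 7), (64, 6), (65, 4), (66, 8), (67, 3), (68, 6), (69, 7), (72, 5), (73, 6), (75,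 9), (76, 8), (77, 10), (78, 3), (79, 6), (80, 6), (81, 8), (82, 5), (83, 2), (84, 9), (85, 1), (86, 9), (87, 8), (88, 7), (90, 6), (91, 1), (92, 5), (93, 3), (94, 3), (95, 4), (96, 7), (97, 2), (98, 3), (99, 4), (100, 10), (101, 7), (102, 7), (103, 10), (104, 5), (105, 3), (106, 3), (107, 4), (108, 9), (109, 9), (110, 9), (111, 9), (112, 8), (113, 4), (115, 10), (116, 8), (117, 9), (118, 6), (119, 8), (120, 1), (121, 10), (122, 10), (123, 8), (124, 9), (125, 7), (126, 10), (128, 7), (129, 9), (130, 2), (131, 2)],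
  [(0, 8), (1, 9), (2, 2), (3, 5), (5, 1), (6, 10), (7, 1), (8, 9), (9, 7), (10, 2), (11, 5), (12, 9), (13, 7), (14, 7), (15, 6), (16, 9), (17, 10), (18, 1), (19, 4), (20, 1), (21, 1), (22, 7), (23, 4), (24, 10), (25, 5), (26, 7), (27, 1), (28, 6), (29, 5), (30, 3), (31, 5), (33, 4), (34, 5), (35, 6), (36, 5), (37, 5), (38, 6), (39, 10), (40, 3), (41, 6), (42, 3), (43, 10), (44, 7), (45, 8), (47, 4), (48, 5), (49, 10), (50, 8), (51, 10), (52, 10), (53, 10), (54, 3), (56, 1), (57, 1), (59, 5), (60, 10), (61, 10), (62, 8), (64, 5), (65, 3), (66, 9), (67, 6), (68, 2), (69, 3), (70, 7), (71, 1), (72, 4), (73, 3), (74, 1), (75, 9), (76, 5), (77, 3), (78, 1), (79, 3), (80, 9), (81, 10), (82, 5), (83, 1), (84, 1), (85, 6), (86, 5), (87, 7), (88, 8), (89, 3), (90, 8), (91, 4), (92, 9), (93, 1), (94, 1), (95, 1), (96, 7), (97, 1), (98, 7), (99, 8), (102, 4), (103, 9), (104, 2), (105, 7), (108, 3), (109, 1), (111, 3), (112,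 8), (113, 4), (114, 4), (115, 8), (116, 8), (117, 3), (118, 4), (119, 6), (120, 7), (122, 8), (123, 7), (124, 8), (125, 8), (127, 6), (128, 3), (129, 6), (130, 7), (131, 8), (132, 7)],
  [(0, 8), (1, 4), (2, 9), (3, 2), (4, 6), (5, 10), (7, 9), (8, 2), (9, 10), (10, 6), (12, 2), (13, 8), (14, 6), (15, 5), (16, 9), (17, 2), (18, 9), (19, 2), (20, 4), (21, 8), (22, 9), (23, 8), (24, 6), (25, 8), (26, 10), (27, 1), (28, 3), (29, 1), (30, 7), (31, 1), (32, 9), (33, 3), (34, 10), (35, 9), (36, 10), (37, 8), (39, 7), (41, 10), (42, 10), (43, 7), (44, 3), (45, 2), (46, 4), (47, 3), (48, 8), (49, 7), (50, 4), (51, 3), (52, 6), (53, 8), (54, 2), (55, 7), (56, 10), (57, 4), (58, 4), (59, 6), (61, 7), (62, 2), (63, 5), (64, 5), (65, 8), (66, 1), (67, 6), (68, 5), (69, 7), (70, 9), (71, 8), (72, 3), (73, 5), (74, 8), (75, 8), (76, 5), (77, 3), (78, 1), (79, 3), (80, 9), (81, 10), (82, 5), (83, 1), (84, 1), (85, 6), (86, 3),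 (87, 7), (88, 8), (89, 3), (90, 8), (91, 1), (92, 9), (93, 1), (94, 1), (95, 1), (96, 7), (97, 1), (98, 7), (99, 10), (102, 4), (103, 9), (104, 4), (106, 9), (107, 2), (108, 8), (109, 3), (110, 9), (112, 5), (114, 6), (115, 7), (116, 9), (117, 6), (119, 10), (120, 6), (121, 2), (122, 5), (123, 4), (124, 7), (125, 5), (126, 4), (127, 8), (128, 4), (129, 1), (130, 2), (131, 7), (132, 2)],
  [(0, 9), (1, 8), (2, 7), (3, 6), (5, 6), (6, 7), (8, 7), (9, 4), (10, 8), (11, 2), (13, 7), (14, 4), (15, 4), (18, 3), (20, 7), (21, 5), (22, 5), (23, 2), (25, 8), (27, 4), (28, 1), (29, 3), (30, 7), (31, 2), (33, 9), (34, 7), (35, 7), (36, 6), (38, 5), (40, 3), (41, 5), (42, 2), (44, 1), (45, 9), (46, 1), (47, 10), (48, 4), (49, 10), (50, 8), (52, 9), (53, 6), (54, 7), (55, 6), (56, 7), (57, 7), (58, 1), (59, 3), (60, 4), (61, 7), (62, 5), (63, 7), (64, 9), (65, 1), (66, 9), (67, 6), (68, 5), (69, 3), (70, 9), (71, 7), (72,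 1), (73, 8), (74, 7), (75, 2), (76, 5), (77, 2), (78, 2), (79, 5), (80, 9), (85, 9), (86, 3), (87, 9), (88, 9), (91, 1), (92, 9), (93, 4), (95, 9), (97, 5), (98, 9), (99, 6), (101, 4), (102, 7), (103, 9), (104, 6), (105, 3), (106, 2), (107, 10), (108, 10), (109, 8), (111, 9), (112, 10), (113, 9), (114, 8), (115, 10), (116, 7), (117, 9), (118, 10), (119, 2), (120, 8), (121, 7), (122, 8), (123, 10), (124, 1), (125, 10), (126, 9), (127, 4), (128, 4), (129, 2), (131, 8), (132, 3)],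
  [(1, 9), (2, 5), (3, 5), (4, 9), (5, 9), (6, 4), (7, 8), (8, 6), (9, 5), (10, 4), (11, 3), (12, 2), (13, 9), (14, 9), (15, 5), (16, 1), (17, 9), (18, 3), (19, 8), (20, 3), (21, 1), (22, 1), (23, 7), (24, 3), (25, 4), (26, 10), (28, 3), (29, 9), (30, 8), (31, 4), (32, 7), (33, 7), (34, 6), (35, 5), (36, 2), (37, 4), (38, 8), (39, 4), (40, 7), (41, 7), (42, 6), (43, 4), (44, 2), (45, 9), (46, 5), (47, 8), (48, 4), (49, 10), (50, 10), (51, 10), (52, 9), (53, 1), (54, 7), (55, 6), (56, 1), (57, 1), (58, 5), (60, 6), (61, 4), (62, 7), (63, 7), (64, 10), (65, 6), (66, 5), (67, 1), (68, 1), (69, 8), (70, 2), (71, 2), (72, 2), (73, 4), (74, 3), (75, 5), (76, 10), (77, 5), (78, 1), (79, 10), (80, 7), (81, 8), (82, 4), (83, 8), (84, 6), (85, 1), (86, 7), (87, 9), (89, 4), (90, 3), (91, 1), (92, 5), (94, 4), (95, 6), (96, 8), (97, 1), (98, 9), (100, 8), (102, 7), (104, 3), (105, 4), (106, 1), (107, 10), (108, 8), (109,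 10), (110, 10), (111, 10), (112, 10), (114, 9), (115, 8), (116, 8), (117, 10), (118, 10), (119, 1), (120, 9), (121, 8), (122, 10), (123, 10), (125, 1), (126, 10), (127, 2), (128, 2), (130, 10), (131, 9), (132, 2)],
  [(0, 3), (1, 8), (2, 7), (3, 7), (4, 10), (5, 7), (6, 6), (8, 7), (9, 4), (10, 7), (11, 7), (12, 4), (13, 7), (14, 8), (15, 4), (16, 4), (17, 4), (18, 7), (20, 7), (21, 7), (22, 4), (23, 1), (24, 4), (25, 8), (27, 4), (29, 4), (30, 3), (31, 7), (32, 7), (33, 8), (34, 2), (35, 7), (36, 7), (37, 8), (40, 7), (42, 1), (45, 10), (47, 4), (48, 3), (50, 8), (51, 4), (52, 4), (54, 7), (58, 7), (59, 7), (62, 10), (63, 7), (64, 4), (66, 4), (67, 7), (68, 4), (69, 3), (70, 8), (71, 7), (72, 8), (73, 1), (75, 1), (76, 4), (78, 3), (79, 8), (80, 3), (81, 8), (82, 5), (83, 7), (84, 7), (85, 8), (86, 4), (87, 2), (88, 1), (89, 6), (90, 9), (91, 3), (92, 4), (93, 8), (94, 7), (95, 7), (96, 2), (97, 6), (98, 5),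 (99, 5), (100, 7), (101, 10), (102, 10), (103, 3), (104, 8), (105, 10), (106, 6), (108, 1), (109, 1), (110, 5), (112, 1), (114, 1), (115, 2), (116, 1), (117, 2), (118, 10), (120, 1), (121, 2), (122, 1), (123, 1), (124, 3), (126, 1), (128, 9), (129, 4), (131, 1), (132, 10)]]

/-- data -/
def d5_3 : SMat := [
  [(0, 5), (1, 1), (2, 1), (3, 7), (4, 10), (5, 6), (6, 4), (7, 8), (8, 1), (9, 9), (10, 1), (11, 1), (13, 4), (14, 5), (15, 1), (16, 2), (18, 5), (19, 5), (20, 5), (21, 3), (23, 10), (24, 3), (25, 4), (26, 2), (27, 4), (28, 9), (29, 7), (30, 6), (31, 10), (32, 5), (33, 6), (34, 10), (35, 2), (36, 4), (37, 8), (38, 10), (40, 10), (41, 2), (42, 3), (44, 9), (45, 6), (46, 10), (47, 5), (48, 8), (49, 8), (50, 1), (51, 8), (52, 5), (53, 9), (54, 6), (55, 8), (56, 4), (57, 4), (58, 4), (59, 3), (60, 3), (62, 10), (63, 5), (65, 2), (66, 8), (67, 7), (68, 7), (69, 6), (71, 1), (72, 3), (73, 2), (75, 7), (77, 3), (78,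 1), (79, 7), (80, 3), (81, 5), (82, 1), (83, 7), (84, 4), (85, 2), (86, 1), (87, 6), (88, 8), (89, 10), (90, 10), (91, 4), (92, 9), (93, 2), (94, 2), (95, 7), (97, 4), (98, 6), (99, 7), (100, 2), (101, 2), (102, 5), (103, 1), (104, 5), (105, 3), (106, 7), (107, 3), (108, 9), (109, 6), (110, 9), (111, 6), (112, 6), (113, 3), (114, 7), (115, 9), (116, 1), (117, 6), (118, 7), (119, 8), (120, 2), (121, 4), (122, 6), (124, 8), (125, 4), (126, 2), (127, 5), (128, 2), (130, 7), (131, 9), (132, 6)],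
  [(0, 6), (1, 5), (2, 4), (3, 4), (4, 2), (5, 4), (6, 10), (7, 10), (8, 8), (9, 2), (10, 8), (11, 7), (12, 7), (14, 2), (15, 3), (16, 3), (17, 1), (18, 10), (19, 6), (20, 3), (21, 5), (22, 8), (23, 5), (24, 1), (25, 10), (26, 6), (27, 9), (28, 1), (29, 9), (30, 7), (31, 9), (32, 9), (33, 10), (34, 4), (35, 4), (36, 2), (37, 9), (38, 6), (39, 6), (41, 1), (42, 1), (43, 5), (44, 6), (45, 4), (47, 7), (48, 9), (49, 6), (50, 4), (51, 6), (52, 8), (53, 4), (54, 7), (56, 5), (57, 5), (58, 4), (59, 1), (60, 6), (61, 10), (62, 4), (63, 2), (64, 2), (65, 4), (66, 9), (67, 9), (68, 10), (69, 7), (70, 8), (71, 5), (72, 6), (73, 7), (74, 5), (75, 8), (76, 2), (77, 3), (78, 1), (79, 8), (80, 9), (81, 1), (82, 2), (83, 10), (84, 1), (85, 3), (86, 9), (87, 7), (88, 8), (89, 1), (90, 8), (91, 3), (92, 9), (93, 10), (94, 3), (95, 1), (96, 7), (97, 3), (98, 5), (99, 6), (101, 9), (102, 2), (103, 9), (106, 4), (107, 7), (108, 5),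 (109, 6), (110, 4), (111, 1), (112, 8), (113, 1), (114, 8), (115, 9), (116, 4), (117, 4), (119, 10), (120, 2), (121, 6), (122, 7), (123, 2), (124, 8), (125, 3), (126, 2), (127, 4), (128, 3), (129, 7), (130, 6), (131, 9), (132, 2)],
  [(0, 4), (1, 1), (2, 9), (3, 6), (4, 3), (5, 9), (6, 6), (7, 2), (8, 6), (10, 9), (11, 3), (12, 5), (13, 8), (14, 3), (15, 2), (16, 9), (17, 6), (18, 5), (19, 3), (20, 5), (21, 4), (22, 10), (23, 4), (24, 9), (25, 9), (27, 5), (28, 10), (29, 2), (30, 4), (32, 5), (33, 3), (34, 10), (35, 2), (36, 10), (37, 4), (39, 10), (40, 6), (41, 10), (43, 3), (44, 9), (45, 1), (46, 7), (48, 5), (49, 7), (50, 1), (51, 7), (52, 7), (53, 4), (54, 4), (55, 3), (56, 7), (57, 1), (58, 7), (59, 5), (60, 3), (61, 9), (62, 1), (63, 4), (64, 9), (65, 10), (68, 9), (69, 10), (70, 10), (72, 1), (73, 2), (74, 7), (75, 4), (76, 9), (77, 2), (78, 4), (79, 3), (80, 6), (81, 7), (82, 8), (83, 1), (84, 10), (85,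 9), (86, 5), (87, 4), (88, 4), (89, 3), (90, 3), (91, 6), (92, 3), (93, 2), (94, 10), (95, 5), (96, 8), (97, 1), (98, 10), (99, 10), (100, 10), (101, 9), (102, 9), (103, 8), (104, 5), (105, 3), (106, 3), (107, 9), (108, 3), (109, 4), (110, 4), (111, 4), (112, 3), (113, 9), (114, 5), (115, 4), (116, 8), (117, 4), (118, 6), (119, 3), (120, 1), (121, 5), (122, 5), (123, 8), (124, 3), (125, 7), (126, 4), (128, 1), (129, 3), (130, 8), (131, 2)],
  [(0, 6), (1, 2), (2, 1), (3, 10), (4, 5), (5, 5), (6, 5), (7, 6), (8, 8), (9, 7), (10, 7), (12, 3), (13, 2), (14, 5), (15, 6), (16, 8), (17, 10), (18, 1), (19, 9), (20, 1), (21, 2), (22, 1), (23, 4), (24, 5), (25, 4), (26, 1), (27, 10), (28, 5), (29, 10), (30, 9), (31, 4), (32, 1), (33, 9), (34, 1), (35, 1), (36, 1), (37, 4), (39, 5), (40, 9), (41, 1), (42, 2), (43, 9), (44, 7), (45, 8), (46, 6), (47, 9), (48, 4), (49, 9), (50, 8), (51, 9), (52, 5), (53, 4), (54, 9), (55,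 5), (57, 10), (59, 5), (60, 10), (61, 9), (62, 8), (63, 6), (64, 6), (65, 2), (66, 4), (67, 5), (68, 6), (69, 9), (70, 1), (71, 2), (72, 9), (73, 1), (75, 8), (76, 6), (77, 6), (78, 3), (79, 7), (80, 8), (81, 8), (82, 3), (83, 10), (84, 10), (85, 6), (86, 5), (87, 7), (88, 4), (89, 1), (90, 6), (91, 5), (92, 5), (93, 8), (94, 10), (95, 10), (96, 7), (97, 1), (98, 5), (99, 8), (100, 5), (101, 2), (102, 2), (103, 7), (104, 2), (105, 8), (106, 3), (107, 3), (108, 10), (109, 6), (110, 6), (111, 5), (112, 7), (113, 4), (114, 1), (116, 2), (117, 5), (118, 1), (119, 9), (120, 9), (121, 5), (122, 4), (123, 6), (124, 10), (125, 6), (127, 5), (128, 10), (129, 3), (130, 10), (131, 3), (132, 3)],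
  [(0, 3), (2, 7), (4, 7), (6, 4), (8, 2), (10, 7), (11, 4), (12, 4), (13, 7), (16, 4), (19, 4), (21, 7), (22, 7), (25, 4), (27, 10), (28, 5), (29, 4), (30, 7), (31, 7), (32, 4), (33, 4), (35, 3), (37, 4), (38, 8), (39, 4), (40, 7), (41, 4), (42, 8), (43, 4), (45, 7), (47, 7), (48, 4), (49, 4), (50, 4), (51, 4), (53, 8), (54, 7), (56, 7), (57, 7), (60, 4), (61, 4), (62, 7), (63, 4), (64, 4), (65, 10), (67, 7), (68, 6), (69, 7), (70, 7), (71, 7), (72, 4), (73, 4), (74, 7), (75, 8), (76, 4), (77, 6), (78, 2), (79, 8), (80, 7), (81, 9), (82, 10), (83, 2), (84, 2), (85, 1), (86, 1), (87, 3), (88, 5), (89, 6), (90, 5), (91, 7), (92, 7), (93, 2), (94, 2), (95, 2), (96, 3), (97, 2), (98, 3), (99, 3), (102, 8), (103, 7), (104, 2), (106, 9), (107, 2), (108, 8), (109, 3), (110, 9), (111, 5), (112, 5), (114, 1), (115, 7), (116, 9), (117, 6), (119, 10), (120, 6), (121, 2), (122, 5), (123, 4), (124, 7), (125, 5), (126, 4),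 (127, 8), (128, 4), (129, 1), (130, 2), (131, 7), (132, 2)],
  [(0, 4), (1, 1), (2, 5), (3, 8), (4, 7), (5, 9), (7, 8), (8, 6), (9, 4), (10, 2), (11, 6), (12, 6), (13, 10), (14, 3), (15, 7), (16, 9), (17, 6), (18, 5), (19, 3), (20, 9), (21, 9), (22, 3), (24, 3), (25, 9), (27, 5), (28, 10), (29, 6), (30, 10), (31, 1), (32, 5), (33, 1), (34, 5), (35, 9), (36, 10), (37, 9), (38, 6), (39, 3), (41, 4), (42, 10), (43, 10), (44, 7), (45, 8), (46, 7), (47, 7), (48, 9), (49, 4), (50, 1), (51, 3), (52, 2), (54, 3), (55, 8), (56, 1), (57, 1), (58, 7), (59, 5), (60, 10), (61, 10), (62, 8), (63, 4), (64, 2), (65, 4), (66, 5), (67, 9), (68, 6), (69, 10), (70, 3), (71, 9), (73, 7), (74, 1), (75, 2), (76, 6), (77, 4), (78, 8), (79, 7), (80, 4), (81, 3), (82, 7), (83, 8), (84, 8), (85, 2), (86, 9), (87, 5), (88, 2), (89, 2), (90, 9), (91, 3), (92, 5), (93, 7), (94, 8), (95, 8), (96, 1), (97, 8), (98, 5), (100, 7), (101, 5), (102,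 5), (103, 4), (104, 7), (107, 10), (108, 10), (109, 2), (110, 1), (111, 1), (115, 10), (117, 1), (119, 1), (120, 1), (121, 2), (122, 2), (124, 9), (125, 1), (126, 10), (128, 9), (129, 9), (130, 2), (132, 10)],
  [(0, 6), (1, 4), (3, 1), (4, 8), (5, 7), (6, 7), (7, 10), (8, 8), (9, 9), (10, 5), (11, 8), (12, 3), (13, 2), (14, 1), (15, 6), (16, 10), (19, 10), (21, 9), (22, 2), (23, 5), (24, 8), (25, 8), (26, 9), (27, 1), (28, 5), (29, 2), (30, 9), (31, 6), (32, 7), (33, 9), (34, 2), (36, 2), (37, 4), (39, 10), (40, 8), (41, 1), (42, 8), (43, 10), (44, 6), (45, 5), (46, 4), (47, 6), (48, 1), (49, 3), (50, 7), (51, 10), (52, 8), (53, 5), (55, 3), (56, 8), (57, 8), (58, 8), (59, 9), (60, 10), (61, 3), (62, 5), (63, 7), (64, 6), (66, 5), (67, 5), (68, 6), (70, 3), (71, 4), (72, 9), (73, 9), (74, 8), (75, 7), (76, 8), (78, 7), (79, 9), (80, 5), (81, 5), (82, 10), (83, 1), (84, 5), (85, 3), (86, 10), (87, 4), (88, 5),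 (89, 6), (90, 3), (91, 4), (92, 5), (93, 5), (95, 9), (96, 9), (97, 1), (98, 6), (100, 3), (101, 5), (102, 7), (103, 7), (104, 3), (105, 5), (106, 2), (107, 7), (108, 9), (109, 1), (110, 4), (112, 10), (113, 7), (114, 7), (115, 7), (116, 7), (117, 2), (118, 7), (119, 5), (120, 9), (121, 1), (122, 10), (124, 7), (126, 7), (127, 6), (130, 4), (131, 9)],
  [(0, 9), (1, 8), (2, 1), (4, 5), (5, 2), (6, 4), (8, 9), (9, 6), (10, 2), (11, 5), (12, 9), (13, 9), (14, 6), (15, 5), (16, 3), (17, 5), (18, 6), (19, 4), (20, 6), (21, 1), (22, 1), (23, 9), (24, 9), (25, 4), (26, 6), (27, 4), (28, 6), (29, 5), (30, 4), (32, 6), (33, 9), (35, 2), (36, 7), (37, 3), (38, 5), (39, 3), (40, 4), (41, 6), (42, 2), (43, 4), (44, 2), (45, 3), (47, 10), (48, 8), (49, 5), (50, 7), (51, 4), (52, 10), (53, 5), (54, 10), (55, 4), (57, 7), (58, 1), (59, 6), (60, 4), (61, 4), (62, 3), (63, 6), (64, 1), (66, 4), (67, 7), (68, 4), (69, 3), (70,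 7), (71, 3), (72, 10), (73, 8), (75, 7), (76, 4), (77, 10), (78, 3), (79, 5), (80, 9), (82, 8), (83, 5), (84, 6), (85, 1), (86, 3), (87, 9), (88, 10), (89, 4), (90, 4), (91, 8), (92, 3), (93, 9), (94, 2), (95, 2), (96, 1), (97, 2), (98, 3), (99, 5), (100, 6), (101, 2), (102, 2), (103, 7), (104, 4), (105, 2), (106, 10), (107, 9), (108, 6), (110, 2), (111, 7), (113, 9), (114, 3), (115, 10), (116, 5), (117, 3), (118, 4), (119, 1), (120, 2), (121, 5), (122, 8), (123, 5), (124, 5), (125, 4), (126, 10), (127, 5), (129, 1), (130, 9), (131, 2), (132, 10)]]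

/-- data -/
def d5_4 : SMat := [
  [(0, 7), (1, 4), (2, 9), (3, 3), (4, 7), (5, 9), (7, 4), (8, 3), (9, 1), (10, 3), (11, 1), (12, 2), (13, 6), (14, 7), (15, 3), (16, 8), (17, 2), (18, 9), (19, 6), (20, 9), (21, 5), (22, 8), (23, 10), (24, 7), (25, 9), (26, 8), (27, 9), (28, 7), (29, 3), (30, 7), (32, 9), (33, 5), (34, 8), (35, 9), (36, 9), (37, 9), (39, 6), (40, 8), (41, 7), (42, 10), (43, 6), (44, 1), (47, 6), (48, 9), (49, 6), (50, 4), (51, 6), (52, 7), (53, 10), (54, 7), (56, 5), (57, 5), (59, 8), (60, 6), (61, 6), (62, 4), (63, 4), (64, 3), (65, 5), (66, 9), (67, 8), (68, 3), (69, 7), (70, 8), (71, 10), (72, 5), (73, 7), (74, 1), (75, 8), (76, 3), (77, 3), (78, 9), (79, 2), (81, 2), (82, 5), (83, 2), (84, 9), (85, 6), (87, 4), (88, 2), (89, 5), (90, 6), (91, 9), (92, 5), (93, 9), (94, 5), (95, 9), (96, 3), (97, 9), (98, 4), (99, 3), (100, 4), (101, 6), (102, 7), (103, 6), (104, 4), (105, 8), (106, 9), (107,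 1), (108, 1), (109, 2), (111, 2), (112, 1), (113, 1), (114, 3), (115, 1), (116, 4), (117, 2), (118, 2), (119, 9), (120, 3), (121, 4), (122, 3), (123, 1), (124, 10), (126, 2), (127, 7), (128, 7), (129, 9), (130, 1), (131, 3), (132, 8)],
  [(0, 3), (1, 9), (2, 2), (3, 9), (4, 4), (6, 7), (7, 7), (8, 6), (9, 3), (10, 5), (12, 1), (13, 3), (14, 3), (15, 7), (16, 1), (17, 5), (18, 2), (19, 1), (21, 3), (22, 6), (23, 5), (24, 10), (25, 8), (26, 3), (27, 4), (28, 10), (29, 7), (30, 2), (31, 8), (32, 7), (33, 1), (34, 4), (35, 7), (36, 8), (37, 4), (39, 1), (40, 1), (41, 3), (42, 8), (43, 7), (44, 2), (45, 6), (46, 6), (47, 1), (48, 8), (49, 1), (50, 5), (51, 7), (52, 4), (53, 9), (54, 6), (55, 1), (56, 10), (57, 10), (59, 10), (60, 8), (61, 7), (62, 6), (63, 7), (64, 7), (65, 5), (66, 8), (67, 4), (68, 7), (69, 2), (70, 6), (71, 10), (72, 6), (73, 1), (74, 6), (75, 4), (76, 3), (77, 5), (78, 7), (79, 6), (80, 2), (81,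 4), (82, 2), (83, 7), (84, 7), (85, 3), (86, 9), (87, 7), (88, 3), (89, 10), (90, 1), (92, 7), (93, 6), (94, 7), (95, 7), (96, 5), (97, 4), (98, 7), (99, 7), (100, 9), (101, 3), (102, 3), (103, 2), (104, 9), (105, 8), (106, 10), (107, 8), (108, 6), (109, 2), (110, 1), (111, 6), (112, 9), (113, 5), (114, 5), (115, 9), (116, 5), (117, 3), (118, 5), (119, 1), (120, 10), (121, 2), (122, 1), (124, 2), (125, 7), (126, 9), (127, 4), (128, 9), (129, 8), (130, 10), (131, 1), (132, 4)],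
  [(0, 2), (1, 3), (2, 2), (3, 10), (4, 1), (5, 5), (6, 5), (7, 10), (8, 3), (9, 6), (10, 8), (11, 8), (12, 8), (14, 7), (15, 7), (16, 2), (17, 2), (18, 4), (19, 6), (20, 9), (21, 4), (22, 1), (24, 1), (25, 8), (26, 10), (27, 3), (28, 6), (29, 1), (30, 8), (31, 5), (32, 9), (33, 3), (34, 9), (35, 9), (36, 3), (37, 3), (39, 6), (40, 7), (41, 6), (42, 10), (43, 6), (44, 10), (45, 6), (46, 10), (47, 8), (48, 3), (49, 7), (50, 9), (51, 7), (52, 2), (53, 6), (54, 8), (55, 1), (56, 10), (57, 9), (58, 10), (59, 3), (61, 6), (62, 6), (63, 9), (64, 7), (65, 4), (66, 7), (67, 4), (68, 7), (69, 8), (70, 1), (71, 10), (72, 4), (74, 10), (75, 5), (76, 7), (77, 1), (79, 10), (81, 1), (82, 3), (83, 10), (84, 1), (85, 9), (88, 10), (89, 1), (90, 8), (91, 1), (92, 9), (93, 1), (94, 3), (95, 1), (96, 8), (97, 1), (98, 9), (99, 2), (100, 1), (105, 3), (106, 3), (107, 8), (108, 1), (109, 10), (110, 7), (111, 7), (112, 7), (113, 1),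 (114, 2), (115, 8), (116, 1), (119, 10), (120, 5), (121, 1), (122, 1), (123, 8), (125, 2), (126, 1), (127, 10), (128, 10), (129, 7), (130, 1), (131, 1), (132, 10)],
  [(0, 2), (1, 1), (2, 7), (3, 4), (5, 7), (6, 4), (8, 3), (9, 6), (10, 10), (12, 4), (13, 3), (14, 4), (16, 1), (17, 4), (18, 8), (19, 4), (20, 3), (21, 7), (22, 7), (23, 4), (25, 4), (27, 8), (30, 10), (31, 4), (32, 3), (33, 8), (34, 7), (35, 2), (36, 7), (37, 8), (40, 10), (42, 8), (43, 4), (44, 7), (45, 3), (47, 8), (48, 8), (49, 4), (50, 1), (51, 4), (53, 4), (54, 10), (55, 4), (57, 7), (58, 7), (59, 7), (60, 4), (61, 4), (62, 3), (63, 7), (65, 7), (69, 9), (70, 7), (71, 3), (72, 8), (73, 1), (75, 8), (77, 7), (78, 10), (79, 1), (80, 2), (81, 8), (82, 8), (83, 8), (84, 10), (85, 1), (86, 9), (88, 8), (89, 5), (90, 6), (91, 5), (92, 5), (93, 6), (94, 2), (95, 3), (96, 4), (97, 10), (98, 9), (99, 10), (100, 6), (101, 8), (102, 7), (104, 4), (105,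 5), (106, 2), (107, 7), (108, 8), (110, 1), (111, 9), (113, 7), (114, 7), (115, 8), (116, 5), (117, 2), (118, 7), (119, 1), (120, 9), (121, 10), (124, 7), (125, 1), (126, 7), (127, 4), (128, 2), (129, 9), (130, 3), (131, 7), (132, 1)],
  [(0, 6), (1, 8), (2, 4), (3, 2), (4, 4), (6, 8), (7, 3), (8, 6), (10, 10), (11, 10), (12, 5), (13, 6), (15, 4), (16, 1), (19, 4), (20, 3), (21, 3), (22, 1), (23, 6), (24, 4), (25, 1), (26, 1), (27, 5), (28, 1), (30, 6), (31, 4), (32, 7), (33, 1), (34, 2), (35, 6), (36, 1), (37, 2), (39, 4), (41, 8), (42, 1), (43, 1), (44, 5), (45, 2), (47, 3), (48, 9), (49, 7), (50, 4), (51, 3), (52, 3), (53, 7), (54, 2), (55, 7), (56, 4), (57, 4), (58, 4), (59, 7), (60, 7), (61, 8), (62, 10), (63, 10), (64, 4), (65, 8), (66, 8), (67, 10), (68, 4), (69, 7), (70, 1), (71, 4), (73, 9), (74, 4), (75, 10), (76, 1), (77, 4), (78, 6), (79, 5), (80, 1), (81, 3), (82, 6), (83, 9), (84, 10), (85, 7), (86,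 1), (87, 4), (89, 3), (90, 3), (91, 4), (92, 10), (93, 7), (94, 5), (95, 3), (97, 3), (98, 10), (99, 10), (100, 3), (101, 7), (102, 7), (103, 6), (104, 5), (105, 3), (106, 3), (107, 2), (109, 9), (110, 10), (111, 8), (112, 9), (113, 1), (115, 4), (116, 8), (117, 10), (118, 7), (119, 9), (120, 6), (121, 9), (122, 9), (123, 9), (124, 9), (125, 9), (126, 10), (127, 2), (128, 1), (129, 7), (130, 1), (132, 10)],
  [(0, 1), (1, 8), (2, 8), (3, 10), (4, 1), (5, 10), (7, 10), (8, 8), (9, 10), (10, 2), (11, 10), (12, 8), (13, 8), (14, 6), (16, 3), (17, 7), (18, 8), (19, 2), (20, 10), (21, 9), (22, 5), (24, 1), (25, 9), (26, 10), (27, 6), (28, 10), (29, 7), (30, 7), (31, 5), (32, 10), (33, 4), (34, 4), (35, 3), (36, 4), (37, 3), (39, 2), (40, 1), (41, 6), (42, 5), (43, 7), (44, 4), (46, 5), (47, 2), (48, 2), (49, 6), (50, 4), (51, 7), (52, 1), (53, 7), (54, 3), (55, 6), (56, 5), (57, 5), (58, 4), (59, 5), (60, 6), (61,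 6), (62, 7), (63, 10), (65, 10), (66, 2), (67, 4), (69, 7), (70, 5), (71, 9), (72, 9), (73, 10), (74, 9), (75, 10), (76, 7), (77, 5), (78, 2), (79, 4), (80, 5), (81, 1), (82, 8), (83, 10), (84, 2), (85, 3), (86, 4), (87, 2), (88, 3), (89, 7), (90, 3), (91, 5), (92, 7), (93, 1), (94, 4), (95, 10), (96, 2), (97, 1), (98, 4), (99, 10), (100, 9), (101, 9), (102, 6), (103, 5), (105, 7), (106, 8), (107, 4), (108, 1), (109, 9), (110, 4), (111, 3), (112, 9), (113, 8), (114, 2), (115, 6), (116, 4), (117, 4), (118, 8), (119, 3), (120, 1), (121, 5), (122, 9), (123, 9), (124, 10), (125, 2), (126, 6), (128, 10), (129, 7), (130, 4), (131, 1), (132, 4)],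
  [(1, 2), (2, 3), (3, 3), (4, 7), (5, 4), (7, 4), (8, 9), (9, 6), (10, 4), (11, 2), (12, 1), (13, 7), (14, 7), (15, 3), (16, 6), (17, 1), (18, 3), (19, 1), (20, 10), (21, 6), (22, 8), (23, 3), (24, 7), (25, 4), (26, 6), (27, 8), (28, 6), (29, 9), (30, 2), (31, 9), (33, 10), (34, 8), (35, 3), (36, 8), (37, 8), (38, 1), (39, 1), (40, 8), (41, 2), (42, 5), (43, 1), (44, 8), (45, 4), (46, 6), (47, 10), (48, 8), (49, 5), (50, 2), (51, 5), (52, 7), (53, 10), (54, 9), (55, 5), (56, 10), (57, 6), (59, 8), (60, 5), (61, 5), (63, 10), (64, 9), (65, 5), (66, 3), (67, 2), (68, 2), (69, 2), (70, 8), (71, 5), (72, 5), (73, 5), (74, 10), (75, 2), (76, 9), (77, 3), (78, 7), (79, 2), (80, 1), (81, 9), (82, 4), (83, 9), (84, 9), (85, 2), (87, 5), (88, 3), (89, 9), (90, 7), (91, 9), (92, 5), (93, 4), (94, 9), (95, 9), (96, 4), (97, 3), (99, 7), (100, 4), (102, 1), (103, 7), (104, 10), (105, 5), (106, 5), (107, 5), (109, 6), (110,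 6), (111, 6), (112, 6), (113, 6), (115, 10), (116, 6), (117, 6), (118, 6), (119, 7), (120, 1), (121, 6), (122, 6), (123, 6), (125, 6), (126, 1), (128, 9), (129, 10)],
  [(0, 3), (1, 2), (2, 7), (3, 4), (4, 10), (5, 3), (7, 4), (8, 3), (10, 4), (12, 10), (13, 8), (16, 7), (17, 10), (18, 3), (20, 1), (21, 8), (22, 3), (23, 3), (25, 4), (26, 7), (27, 3), (29, 9), (30, 8), (31, 6), (32, 1), (33, 4), (34, 4), (35, 7), (36, 6), (37, 10), (38, 5), (39, 5), (41, 7), (42, 1), (43, 10), (44, 8), (45, 3), (47, 3), (48, 4), (49, 4), (50, 7), (51, 8), (52, 4), (53, 4), (54, 8), (55, 10), (56, 3), (57, 7), (58, 7), (60, 8), (62, 3), (63, 1), (64, 1), (65, 1), (66, 4), (67, 10), (68, 4), (69, 3), (70, 7), (71, 3), (72, 8), (73, 7), (74, 6), (75, 4), (76, 4), (77, 7), (78, 7), (79, 6), (80, 6), (81, 7), (82, 9), (83, 9), (85, 6), (86, 7), (87, 6), (88, 2), (89, 7), (91, 8), (92, 1), (93, 1), (94, 10), (95, 4), (96, 5), (97, 1),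 (98, 6), (99, 10), (100, 1), (101, 5), (102, 6), (103, 4), (104, 10), (106, 5), (107, 7), (108, 1), (109, 4), (110, 3), (111, 5), (112, 5), (113, 7), (114, 1), (115, 2), (116, 7), (117, 3), (118, 8), (119, 4), (120, 7), (121, 4), (122, 3), (124, 4), (125, 4), (126, 2), (127, 9), (128, 1), (129, 1), (130, 9), (132, 8)]]

/-- data -/
def d5_5 : SMat := [
  [(0, 1), (2, 9), (3, 10), (4, 2), (5, 5), (6, 7), (7, 9), (8, 9), (9, 2), (10, 2), (11, 1), (12, 2), (13, 5), (14, 2), (15, 4), (16, 2), (17, 2), (18, 9), (20, 9), (22, 9), (23, 5), (24, 6), (25, 4), (26, 2), (27, 4), (28, 6), (29, 8), (30, 6), (31, 5), (32, 2), (33, 10), (34, 7), (35, 9), (36, 3), (37, 4), (39, 7), (40, 6), (41, 2), (42, 10), (44, 6), (45, 10), (46, 4), (47, 7), (48, 4), (49, 7), (52, 2), (53, 9), (54, 7), (55, 7), (57, 10), (62, 10), (63, 2), (64, 8), (65, 4), (66, 8), (67, 3), (68, 8), (69, 6), (70, 8), (72, 6), (73, 8), (75, 3), (76, 8), (77,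 10), (78, 3), (79, 10), (80, 8), (81, 2), (82, 5), (83, 2), (85, 1), (86, 1), (87, 1), (88, 9), (89, 9), (90, 8), (91, 5), (92, 4), (93, 2), (94, 9), (96, 1), (97, 9), (98, 3), (99, 1), (100, 4), (101, 6), (102, 1), (103, 4), (104, 9), (105, 5), (106, 6), (107, 8), (109, 5), (110, 7), (111, 6), (112, 6), (113, 6), (114, 9), (115, 1), (116, 5), (117, 4), (118, 7), (119, 6), (120, 9), (121, 4), (122, 4), (123, 7), (124, 2), (125, 4), (128, 2), (129, 1), (130, 10), (131, 2), (132, 1)],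
  [(0, 2), (1, 9), (2, 8), (4, 5), (5, 2), (7, 6), (8, 7), (10, 2), (11, 1), (12, 10), (13, 2), (14, 5), (15, 5), (16, 4), (17, 10), (18, 1), (19, 5), (20, 1), (21, 6), (23, 1), (24, 5), (25, 4), (27, 4), (29, 10), (30, 9), (32, 1), (33, 8), (34, 1), (35, 1), (36, 1), (37, 4), (39, 5), (40, 8), (41, 5), (42, 3), (43, 1), (44, 6), (45, 4), (46, 6), (47, 10), (48, 4), (49, 5), (50, 9), (51, 5), (52, 5), (53, 5), (54, 2), (55, 5), (56, 6), (57, 6), (58, 6), (59, 1), (60, 5), (61, 5), (62, 8), (63, 6), (64, 5), (65, 1), (66, 10), (67, 2), (68, 5), (69, 2), (71, 1), (72, 3), (73, 8), (74, 6), (75, 8), (76, 5), (77, 6), (80, 7), (81, 9), (82, 10), (83, 2), (84, 2), (85, 1), (86, 10), (87, 9), (88, 1), (89, 6), (90, 5), (91, 6), (92, 8), (93, 9), (94, 2), (95, 4), (96, 3), (97, 9), (98, 10), (99, 1), (100, 4), (102, 8), (103, 7), (105, 9), (106, 10), (107, 2), (108, 1), (110, 9), (111, 1), (113, 2), (114, 2), (115, 3),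 (116, 3), (117, 10), (118, 2), (119, 8), (120, 1), (124, 2), (126, 2), (127, 7), (130, 9), (131, 2), (132, 10)],
  [(0, 6), (1, 4), (2, 9), (3, 4), (4, 6), (5, 8), (6, 7), (7, 5), (8, 9), (10, 3), (11, 2), (12, 2), (13, 7), (14, 7), (15, 2), (16, 2), (17, 1), (18, 9), (19, 6), (20, 9), (21, 5), (23, 10), (24, 7), (25, 9), (26, 7), (27, 9), (28, 7), (29, 3), (30, 7), (31, 10), (32, 5), (33, 4), (34, 9), (35, 8), (36, 8), (37, 8), (38, 1), (39, 7), (40, 7), (41, 7), (42, 5), (43, 7), (44, 1), (46, 1), (47, 5), (48, 2), (49, 6), (50, 4), (51, 6), (52, 7), (54, 7), (55, 10), (56, 4), (57, 4), (59, 9), (60, 7), (61, 6), (63, 5), (64, 3), (65, 6), (66, 9), (67, 8), (68, 7), (69, 7), (70, 7), (71, 4), (72, 4), (73, 5), (75, 7), (76, 3), (77, 10), (78, 5), (81, 9), (83, 9), (84, 6), (85, 3), (86, 6), (87, 6), (88, 6), (89, 3), (90, 3), (92, 6), (93, 9), (94, 3), (95, 6), (96, 6), (97, 3), (98, 9), (99, 8), (100, 5), (101,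 8), (102, 8), (103, 6), (104, 8), (105, 3), (106, 10), (107, 5), (108, 8), (109, 1), (110, 5), (111, 3), (112, 2), (113, 7), (114, 4), (115, 3), (116, 6), (117, 4), (119, 8), (120, 9), (121, 3), (122, 6), (123, 10), (124, 5), (126, 2), (127, 3), (128, 4), (129, 3), (130, 5), (131, 9), (132, 1)],
  [(0, 1), (1, 1), (2, 9), (3, 3), (4, 6), (5, 9), (6, 8), (7, 4), (8, 8), (9, 5), (10, 5), (11, 9), (12, 3), (13, 1), (14, 5), (15, 7), (16, 3), (17, 2), (18, 1), (19, 1), (20, 5), (21, 10), (23, 6), (24, 9), (25, 8), (26, 1), (27, 8), (28, 6), (29, 7), (30, 2), (31, 10), (32, 5), (33, 10), (34, 3), (35, 8), (36, 3), (37, 9), (39, 8), (40, 3), (41, 6), (42, 10), (43, 7), (44, 2), (45, 6), (48, 4), (50, 8), (51, 7), (52, 1), (53, 6), (54, 9), (55, 7), (61, 8), (62, 3), (63, 1), (64, 7), (65, 7), (66, 9), (67, 7), (68, 7), (69, 3), (72, 2), (73, 5), (75, 7), (76, 4), (77, 4), (78, 6), (79, 3), (80, 4), (81, 5), (82, 8),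 (83, 1), (84, 10), (85, 7), (86, 1), (87, 4), (89, 1), (90, 3), (91, 6), (92, 10), (93, 9), (94, 2), (95, 3), (96, 8), (97, 1), (98, 8), (99, 1), (100, 3), (101, 9), (102, 9), (103, 6), (104, 7), (105, 2), (106, 2), (107, 1), (108, 9), (109, 5), (110, 5), (111, 5), (112, 4), (113, 1), (114, 5), (115, 4), (116, 9), (117, 5), (118, 3), (119, 4), (120, 1), (121, 6), (122, 6), (123, 9), (124, 3), (125, 4), (126, 4), (128, 8), (129, 3), (130, 8), (131, 6), (132, 5)],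
  [(0, 2), (1, 7), (2, 1), (3, 8), (7, 6), (8, 8), (9, 5), (10, 1), (11, 4), (12, 8), (13, 7), (14, 5), (15, 2), (16, 7), (17, 4), (18, 8), (19, 10), (20, 7), (21, 8), (22, 3), (23, 6), (24, 1), (25, 3), (26, 6), (27, 9), (28, 2), (29, 1), (30, 4), (31, 3), (32, 7), (33, 5), (34, 5), (35, 7), (36, 5), (37, 5), (39, 10), (40, 5), (41, 1), (42, 8), (43, 4), (44, 5), (45, 2), (46, 8), (47, 6), (48, 4), (49, 7), (50, 7), (51, 3), (52, 4), (53, 2), (54, 10), (55, 3), (56, 7), (57, 1), (58, 1), (59, 6), (60, 3), (61, 4), (62, 2), (63, 7), (64, 2), (65, 9), (66, 5), (67, 9), (68, 2), (69, 4), (70, 3), (71, 9), (72, 8), (73, 2), (74, 5), (76, 2), (77, 6), (78, 2), (79, 7), (80, 7), (82, 9), (83, 9), (85, 2), (86, 7), (87, 5), (88, 5), (90, 7), (91, 4), (92, 7), (93, 7), (94, 2), (96, 7), (97, 4), (98, 1), (99, 10), (100, 2), (101, 9), (102, 2), (103, 7), (104, 2), (105, 4), (106, 2), (107, 9), (108, 10), (109, 8), (110,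 2), (111, 9), (113, 8), (114, 6), (115, 8), (116, 5), (117, 7), (118, 7), (119, 3), (120, 6), (121, 8), (122, 9), (123, 10), (126, 6), (127, 6), (128, 4), (129, 2), (130, 1), (131, 8), (132, 3)],
  [(0, 6), (1, 5), (3, 7), (4, 1), (5, 3), (6, 7), (7, 4), (8, 4), (9, 7), (10, 3), (11, 6), (12, 8), (13, 10), (14, 8), (15, 4), (16, 8), (17, 8), (18, 10), (19, 6), (20, 7), (21, 4), (22, 8), (24, 8), (25, 4), (26, 8), (27, 5), (28, 3), (29, 8), (30, 7), (32, 7), (33, 5), (34, 7), (35, 4), (36, 7), (38, 10), (39, 4), (40, 2), (42, 5), (43, 7), (45, 5), (47, 1), (48, 8), (50, 5), (51, 7), (52, 1), (53, 3), (54, 10), (59, 3), (60, 1), (61, 7), (62, 5), (63, 3), (64, 8), (66, 9), (67, 3), (68, 10), (69, 7), (70, 9), (72, 9), (73, 9), (74, 8), (75, 9), (76, 8), (77, 3), (78, 8), (79, 9), (80, 5), (81, 3), (82, 3), (83, 3), (84, 3), (85, 9), (86, 10), (87, 5), (88, 2), (89, 3), (90, 3), (91, 9), (92, 5), (93, 8), (94, 3),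 (95, 3), (97, 9), (98, 10), (99, 1), (100, 10), (103, 1), (104, 1), (105, 7), (106, 8), (107, 3), (108, 10), (109, 3), (110, 9), (111, 8), (112, 7), (113, 2), (114, 4), (115, 9), (116, 1), (117, 7), (118, 4), (120, 6), (121, 3), (122, 2), (123, 4), (124, 1), (125, 2), (126, 8), (127, 6), (128, 4), (129, 3), (130, 1), (131, 10), (132, 3)],
  [(0, 8), (1, 4), (2, 9), (3, 6), (4, 6), (5, 5), (6, 7), (7, 9), (8, 2), (9, 10), (10, 2), (12, 9), (13, 1), (14, 5), (15, 1), (16, 9), (17, 2), (18, 9), (19, 7), (20, 5), (21, 4), (22, 9), (23, 8), (24, 2), (25, 8), (26, 6), (27, 8), (28, 10), (29, 5), (31, 7), (32, 9), (33, 3), (34, 3), (35, 9), (36, 10), (37, 4), (39, 7), (40, 7), (41, 6), (42, 3), (43, 7), (44, 3), (45, 2), (46, 5), (47, 7), (48, 4), (49, 7), (50, 4), (51, 7), (52, 6), (53, 1), (55, 3), (57, 4), (59, 10), (60, 6), (61, 3), (62, 2), (63, 5), (64, 5), (65, 8), (66, 1), (67, 9), (68, 5), (69, 7), (70, 9),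 (72, 7), (73, 5), (76, 5), (77, 4), (78, 6), (79, 5), (80, 3), (81, 3), (82, 6), (83, 7), (84, 10), (85, 7), (86, 1), (87, 4), (89, 3), (90, 3), (91, 4), (92, 10), (93, 7), (94, 5), (95, 3), (97, 3), (98, 10), (99, 10), (100, 3), (101, 7), (102, 7), (103, 6), (104, 5), (105, 8), (106, 8), (107, 2), (109, 9), (110, 4), (111, 3), (112, 9), (113, 7), (115, 4), (116, 3), (117, 4), (118, 8), (119, 9), (120, 1), (121, 9), (122, 9), (123, 9), (124, 10), (125, 9), (126, 5), (127, 1), (128, 8), (129, 3), (130, 6), (132, 5)],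
  [(0, 7), (1, 9), (2, 3), (3, 8), (4, 8), (5, 4), (6, 7), (7, 3), (8, 3), (10, 5), (11, 7), (12, 8), (13, 6), (15, 8), (16, 8), (17, 8), (18, 10), (19, 1), (20, 10), (21, 10), (22, 7), (23, 5), (24, 8), (25, 8), (26, 7), (27, 8), (28, 7), (29, 7), (30, 6), (31, 5), (32, 3), (34, 7), (35, 4), (36, 8), (37, 5), (38, 10), (39, 7), (40, 2), (41, 7), (42, 4), (44, 2), (45, 10), (46, 10), (47, 6), (48, 4), (49, 5), (50, 9), (53, 5), (54, 2), (55, 1), (56, 7), (59, 4), (60, 4), (61, 7), (62, 6), (63, 10), (64, 7), (65, 5), (66, 8), (67, 1), (68, 3), (69, 2), (70, 7), (71, 7), (72, 9), (73, 7), (75, 8), (76, 3), (77, 9), (78, 9), (79, 8), (81, 2), (82, 8), (83, 8), (86, 4), (88, 4), (89, 2), (91, 9), (92, 4), (93, 4), (94, 2), (95, 2), (96, 6), (97, 2), (98, 2), (99, 9), (100, 7), (101, 9), (103, 2), (104, 9), (105, 10), (106, 2), (107, 3), (108, 7), (109, 5), (110, 7), (111, 1), (112, 2), (113, 6), (114, 4), (115, 10),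 (116, 4), (117, 4), (118, 2), (119, 7), (120, 6), (121, 5), (122, 2), (123, 6), (124, 6), (125, 4), (126, 2), (127, 10), (128, 3), (129, 6), (130, 4), (131, 5), (132, 8)]]

/-- data -/
def d5_6 : SMat := [
  [(0, 3), (1, 2), (3, 3), (5, 7), (6, 5), (8, 2), (9, 2), (10, 9), (11, 10), (12, 9), (13, 7), (14, 10), (15, 6), (16, 2), (17, 4), (18, 7), (19, 4), (20, 7), (21, 2), (22, 8), (23, 3), (25, 4), (26, 2), (27, 4), (28, 10), (29, 10), (30, 9), (31, 5), (33, 10), (34, 5), (35, 7), (36, 6), (39, 4), (40, 5), (41, 6), (42, 8), (43, 9), (44, 8), (45, 8), (47, 9), (48, 10), (49, 9), (50, 2), (51, 9), (52, 4), (53, 9), (54, 9), (55, 5), (56, 7), (57, 2), (59, 5), (60, 9), (61, 5), (62, 8), (64, 6), (65, 2), (66, 4), (67, 5), (68, 6), (69, 2), (70, 8), (71, 9), (72, 3), (73, 8), (74, 7), (75, 10), (76, 6), (77, 2), (78, 1), (80, 1), (81, 10), (82, 1), (83, 9), (84, 1), (85, 9), (86, 8), (87, 10), (88, 9), (89, 1), (90,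 8), (91, 2), (92, 9), (93, 10), (94, 10), (96, 10), (97, 10), (98, 10), (99, 4), (100, 2), (101, 1), (102, 10), (103, 10), (104, 2), (105, 8), (106, 8), (107, 10), (108, 3), (109, 4), (110, 1), (111, 4), (113, 3), (114, 7), (115, 10), (116, 7), (117, 4), (118, 10), (119, 1), (120, 5), (121, 7), (122, 8), (123, 8), (124, 6), (125, 4), (126, 2), (127, 9), (128, 3), (130, 1), (131, 3), (132, 7)],
  [(0, 7), (1, 8), (2, 9), (3, 2), (4, 2), (5, 4), (6, 7), (7, 9), (8, 9), (9, 6), (10, 6), (11, 7), (12, 2), (13, 1), (14, 6), (15, 9), (16, 2), (17, 2), (18, 5), (19, 7), (20, 5), (22, 9), (23, 4), (24, 2), (25, 8), (26, 2), (27, 8), (28, 7), (29, 3), (30, 7), (31, 4), (32, 9), (34, 7), (35, 9), (36, 2), (37, 4), (40, 3), (41, 2), (42, 4), (44, 3), (45, 5), (46, 5), (47, 10), (48, 4), (50, 8), (52, 6), (53, 4), (54, 7), (55, 6), (56, 7), (58, 1), (59, 3), (60, 4), (61, 7), (62, 5), (63, 5), (64, 9), (65, 5), (66, 9), (67,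 6), (68, 9), (69, 3), (70, 2), (71, 7), (72, 4), (73, 1), (75, 9), (76, 9), (77, 2), (78, 2), (79, 9), (80, 4), (82, 7), (83, 7), (85, 4), (86, 2), (87, 9), (88, 9), (91, 7), (92, 9), (93, 4), (94, 4), (95, 9), (96, 5), (97, 4), (98, 9), (99, 7), (101, 5), (102, 7), (103, 9), (104, 7), (105, 8), (106, 7), (107, 4), (108, 10), (109, 5), (110, 8), (111, 5), (112, 6), (113, 3), (114, 8), (115, 9), (116, 2), (117, 7), (118, 3), (119, 7), (120, 8), (121, 4), (122, 6), (123, 5), (124, 8), (125, 6), (126, 7), (127, 4), (128, 2), (129, 1), (130, 2), (131, 10)],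
  [(1, 6), (2, 9), (3, 6), (4, 7), (5, 9), (7, 4), (8, 10), (9, 8), (10, 1), (11, 4), (12, 1), (13, 6), (14, 7), (15, 4), (17, 2), (18, 10), (19, 10), (20, 1), (21, 6), (22, 1), (23, 2), (24, 3), (25, 8), (26, 8), (27, 9), (28, 8), (29, 10), (30, 4), (31, 7), (32, 5), (33, 1), (34, 8), (35, 9), (36, 1), (37, 9), (39, 6), (40, 9), (41, 8), (42, 6), (43, 10), (44, 6), (45, 3), (46, 1), (47, 4), (48, 9), (49, 9), (50, 8), (51, 5), (52, 2), (53, 9), (54, 4), (55, 10), (56, 5), (57, 1), (58, 5), (59, 8), (60, 4), (61, 10), (63, 5), (65, 2), (66, 9), (69, 4), (70, 5), (71, 7), (73, 6), (74, 5), (75, 4), (86, 9), (87, 2), (88, 9), (92, 1), (98, 9), (100, 5), (101, 2), (102, 9), (105, 2), (106, 7), (107, 4), (108, 7), (109, 4), (110, 10), (111, 9), (112, 4), (113, 8), (114, 3), (115, 1), (116, 5), (118, 2), (119, 6), (120, 7), (122, 7), (123, 10), (124, 8), (125, 10), (127, 9), (128, 8), (129, 4), (130, 7), (131, 3),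 (132, 7)],
  [(0, 10), (1, 8), (2, 9), (3, 1), (4, 2), (5, 4), (6, 4), (7, 9), (8, 5), (9, 3), (10, 10), (11, 10), (12, 5), (13, 7), (14, 3), (15, 5), (16, 10), (17, 6), (18, 9), (19, 10), (20, 9), (21, 8), (22, 6), (24, 7), (25, 5), (26, 7), (27, 9), (28, 7), (29, 6), (30, 3), (31, 7), (32, 5), (34, 6), (35, 4), (36, 1), (37, 2), (38, 1), (39, 4), (40, 3), (41, 3), (43, 4), (44, 4), (45, 8), (46, 1), (47, 9), (48, 9), (49, 10), (50, 8), (51, 4), (52, 3), (53, 7), (54, 10), (55, 10), (59, 5), (61, 3), (62, 8), (63, 9), (64, 6), (65, 6), (66, 9), (67, 1), (68, 10), (69, 3), (70, 6), (72, 7), (73, 6), (74, 4), (75, 10), (76, 10), (77, 9), (78, 1), (79, 4), (80, 3), (81, 8), (82, 7), (83, 10), (84, 10), (85, 2), (86, 4), (87, 3), (89, 8), (90, 1), (91, 9), (92, 10), (93, 9), (95, 2), (96, 4), (97, 2), (98, 1), (99, 10), (100, 1), (101, 2), (102, 9), (103, 9), (104, 1), (105, 6), (106, 2), (107, 4), (108, 7), (109,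 3), (110, 8), (111, 9), (112, 9), (113, 6), (114, 7), (115, 2), (116, 1), (117, 8), (118, 4), (119, 7), (120, 7), (121, 10), (122, 8), (123, 10), (124, 8), (125, 7), (126, 2), (127, 9), (128, 10), (129, 6), (130, 5), (131, 7), (132, 10)],
  [(0, 2), (2, 7), (3, 6), (5, 6), (6, 4), (7, 7), (8, 3), (9, 7), (10, 1), (11, 10), (12, 8), (13, 3), (14, 7), (15, 1), (16, 8), (17, 4), (19, 8), (21, 8), (22, 1), (23, 3), (24, 4), (28, 1), (29, 1), (30, 3), (31, 10), (32, 1), (33, 9), (35, 7), (36, 6), (37, 8), (39, 4), (40, 7), (42, 9), (43, 4), (44, 1), (45, 2), (46, 1), (47, 10), (48, 4), (49, 10), (50, 4), (51, 4), (52, 1), (53, 3), (54, 3), (55, 10), (59, 4), (61, 8), (62, 6), (63, 5), (64, 1), (65, 1), (66, 5), (67, 2), (68, 1), (69, 7), (70, 8), (73, 8), (75, 3), (76, 5), (77, 5), (78, 4), (79, 1), (80, 6), (82, 1), (83, 4), (84, 5), (85, 6), (86, 2), (88, 5), (89, 1), (90, 4), (92, 1), (93, 1), (94, 6), (95, 6),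 (96, 4), (97, 1), (98, 6), (99, 6), (101, 6), (102, 5), (104, 5), (105, 4), (106, 4), (107, 6), (108, 1), (109, 6), (110, 5), (111, 5), (112, 5), (113, 7), (114, 3), (116, 7), (117, 7), (118, 6), (119, 5), (120, 2), (121, 7), (122, 7), (123, 6), (124, 10), (125, 6), (126, 1), (127, 9), (128, 9), (129, 10), (131, 1), (132, 10)],
  [(0, 3), (1, 4), (2, 2), (3, 3), (4, 10), (5, 1), (7, 1), (8, 6), (9, 4), (10, 7), (11, 5), (12, 5), (13, 3), (14, 4), (15, 3), (16, 5), (17, 10), (18, 6), (19, 6), (20, 1), (21, 5), (22, 8), (23, 2), (24, 10), (25, 9), (26, 4), (27, 9), (28, 4), (29, 3), (30, 7), (31, 7), (32, 1), (33, 2), (34, 8), (35, 1), (36, 8), (37, 9), (39, 6), (40, 8), (41, 4), (42, 8), (43, 7), (44, 9), (46, 5), (47, 6), (48, 9), (49, 6), (50, 4), (51, 6), (52, 10), (53, 7), (54, 7), (55, 6), (56, 5), (57, 5), (59, 8), (60, 6), (61, 6), (62, 4), (63, 1), (64, 3), (65, 10), (66, 9), (67, 8), (68, 3), (69, 7),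 (70, 8), (71, 5), (72, 7), (73, 7), (74, 1), (76, 3), (77, 8), (78, 10), (79, 6), (80, 8), (81, 1), (82, 2), (83, 1), (84, 1), (85, 6), (86, 7), (87, 10), (89, 1), (90, 9), (91, 5), (92, 7), (93, 9), (94, 1), (95, 1), (96, 5), (97, 4), (98, 7), (99, 10), (100, 9), (102, 9), (103, 5), (104, 6), (105, 4), (106, 6), (107, 9), (108, 2), (109, 5), (110, 4), (111, 5), (112, 5), (113, 5), (114, 3), (115, 6), (116, 9), (117, 5), (118, 5), (119, 9), (120, 10), (121, 7), (122, 5), (123, 5), (125, 3), (126, 10), (127, 8), (128, 5), (129, 5), (131, 4), (132, 8)],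
  [(0, 1), (1, 4), (2, 3), (3, 8), (4, 7), (5, 3), (6, 7), (7, 10), (8, 3), (9, 7), (10, 3), (11, 1), (12, 1), (14, 7), (15, 3), (16, 4), (17, 8), (18, 4), (19, 1), (20, 4), (21, 10), (22, 3), (23, 5), (24, 7), (25, 3), (26, 7), (27, 10), (28, 7), (29, 3), (30, 7), (31, 4), (32, 3), (34, 8), (35, 3), (36, 8), (37, 4), (40, 6), (41, 7), (44, 6), (45, 4), (46, 10), (47, 1), (48, 4), (49, 5), (50, 4), (51, 1), (52, 7), (53, 5), (54, 8), (55, 1), (58, 4), (59, 8), (61, 5), (62, 4), (63, 4), (64, 3), (65, 10), (66, 10), (67, 8), (68, 3), (69, 7), (70, 2), (73, 1), (75, 7), (76, 3), (77, 4), (78, 10), (79, 10), (80, 2), (81, 10), (82, 8), (83, 5), (84, 10), (85, 5), (86, 4), (87, 2), (88, 9), (89, 10), (91, 8), (92, 4), (93, 1), (94, 4), (95, 10), (96, 8), (97, 8), (98, 4), (99, 1), (100, 7), (103, 9), (104, 3), (105, 6), (106, 7), (107, 4), (108, 10), (109, 6), (110, 7), (111, 6), (112, 5), (113, 5), (114, 3), (115,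 10), (116, 8), (117, 6), (118, 6), (119, 4), (120, 3), (121, 8), (122, 7), (123, 4), (124, 8), (125, 6), (127, 9), (128, 9), (129, 8), (130, 2), (131, 10), (132, 9)],
  [(0, 5), (1, 3), (2, 7), (3, 9), (4, 9), (5, 7), (6, 7), (7, 6), (8, 5), (9, 7), (10, 7), (12, 6), (13, 4), (14, 9), (15, 8), (16, 5), (18, 8), (19, 2), (21, 10), (22, 6), (23, 3), (24, 5), (25, 1), (26, 10), (27, 2), (28, 10), (30, 1), (31, 4), (33, 7), (34, 8), (35, 6), (36, 8), (37, 5), (39, 6), (40, 9), (41, 10), (42, 5), (43, 2), (44, 5), (45, 7), (46, 1), (48, 2), (49, 1), (50, 3), (51, 1), (52, 8), (53, 3), (54, 1), (55, 7), (56, 1), (57, 5), (58, 1), (59, 4), (60, 5), (61, 9), (62, 7), (63, 3), (64, 1), (65, 6), (66, 9), (67, 2), (68, 1), (69, 8), (70, 6), (72, 10), (73, 6), (74, 1), (75, 10), (76, 1), (77, 4), (78, 6), (79, 3), (80, 4), (81, 5), (82, 8), (83, 1), (84, 10), (85, 7), (86, 1), (87, 4), (89, 1), (90, 3), (91, 6), (92, 10),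 (93, 9), (95, 3), (96, 10), (97, 1), (98, 8), (99, 1), (100, 3), (101, 9), (102, 9), (103, 6), (104, 7), (105, 5), (106, 5), (107, 2), (108, 7), (109, 9), (110, 9), (111, 9), (112, 3), (113, 2), (114, 3), (115, 8), (116, 6), (117, 9), (118, 6), (119, 3), (120, 6), (121, 4), (122, 4), (123, 6), (124, 2), (125, 1), (126, 8), (128, 2), (129, 2), (130, 9), (132, 6)]]

/-- data -/
def d5_7 : SMat := [
  [(0, 5), (1, 4), (2, 5), (3, 3), (4, 8), (5, 7), (6, 1), (7, 7), (8, 4), (10, 4), (11, 9), (12, 6), (13, 6), (14, 1), (15, 5), (17, 5), (18, 5), (19, 9), (20, 2), (21, 9), (22, 7), (24, 9), (25, 8), (26, 7), (27, 2), (28, 1), (30, 6), (31, 10), (32, 7), (33, 5), (34, 1), (35, 1), (36, 1), (37, 7), (38, 5), (39, 9), (40, 6), (41, 8), (43, 2), (45, 8), (46, 4), (47, 8), (48, 7), (49, 8), (50, 9), (51, 2), (52, 9), (53, 5), (54, 7), (55, 7), (57, 3), (58, 6), (59, 6), (60, 2), (61, 8), (62, 8), (63, 3), (64, 6), (65, 7),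 (66, 7), (67, 5), (68, 9), (69, 6), (70, 8), (71, 8), (72, 5), (73, 10), (74, 9), (76, 6), (77, 8), (78, 2), (79, 8), (80, 9), (82, 9), (84, 6), (85, 2), (86, 3), (87, 8), (88, 8), (89, 1), (90, 4), (91, 3), (92, 5), (93, 6), (94, 1), (95, 6), (96, 2), (97, 6), (98, 8), (99, 3), (100, 5), (101, 9), (102, 3), (103, 9), (104, 5), (105, 6), (106, 7), (107, 7), (108, 10), (109, 4), (110, 4), (111, 5), (112, 5), (113, 6), (114, 10), (115, 1), (116, 2), (117, 3), (118, 6), (119, 5), (120, 6), (121, 1), (122, 4), (123, 5), (124, 4), (125, 5), (126, 8), (127, 1), (128, 5), (129, 1), (130, 9), (131, 9), (132, 2)],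
  [(0, 7), (1, 1), (2, 7), (3, 5), (4, 7), (5, 7), (7, 4), (8, 3), (9, 3), (10, 6), (11, 1), (12, 8), (13, 4), (14, 7), (15, 10), (16, 1), (17, 4), (18, 3), (19, 4), (20, 6), (21, 10), (22, 1), (23, 1), (25, 4), (26, 3), (28, 3), (29, 7), (30, 3), (31, 4), (34, 8), (35, 7), (36, 4), (39, 8), (40, 6), (41, 3), (42, 1), (43, 4), (44, 1), (45, 4), (46, 7), (47, 5), (49, 8), (50, 1), (51, 1), (52, 4), (53, 5), (54, 3), (55, 4), (56, 3), (57, 8), (58, 3), (59, 8), (60, 5), (61, 4), (62, 6), (64, 3), (65, 3), (67, 8), (68, 3), (69, 3), (70, 6), (71, 6), (72, 4), (73, 4), (74, 3), (75, 3), (76, 3), (86, 7), (87, 2), (88, 7), (92, 2), (98, 7), (100, 7), (101, 2), (102, 9), (105, 4), (106, 3), (107, 8), (108, 3), (109, 8), (110, 8), (111, 6), (112, 7), (113, 6), (114, 7), (115, 2), (116, 10), (117, 10), (118, 4), (119, 1), (120, 4), (122, 2), (123, 9), (124, 6), (125, 9), (126, 1), (127, 7), (128, 5), (129, 8), (130, 2),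 (131, 4), (132, 4)],
  [(0, 2), (1, 8), (2, 7), (3, 8), (4, 5), (5, 7), (6, 4), (7, 6), (8, 8), (9, 9), (10, 4), (11, 8), (12, 8), (13, 1), (14, 1), (15, 2), (16, 7), (17, 4), (18, 7), (19, 3), (20, 7), (21, 9), (22, 10), (23, 2), (24, 5), (25, 9), (26, 2), (27, 5), (28, 1), (29, 1), (30, 10), (31, 3), (32, 6), (33, 10), (34, 5), (35, 7), (36, 6), (37, 9), (39, 3), (40, 4), (41, 1), (42, 8), (43, 3), (44, 9), (45, 1), (47, 3), (48, 5), (49, 4), (50, 1), (51, 3), (53, 2), (54, 3), (55, 4), (56, 1), (57, 8), (58, 1), (59, 9), (60, 3), (61, 3), (62, 1), (64, 2), (65, 8), (66, 5), (67, 5), (68, 2), (69, 3), (70, 10), (71, 9), (72, 5), (73, 3), (74, 1), (75, 5), (76, 6), (77, 6), (78, 2), (79, 4), (80, 1), (81, 2), (82, 7), (83, 2), (84, 2), (86, 8), (87, 7), (88, 10), (89, 2), (90, 4), (91, 1), (92, 6), (93, 3), (94, 2), (95, 4), (96, 7), (97, 3), (98, 2), (99, 9), (100, 5), (101, 6), (102, 4), (103, 6), (104, 6),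 (105, 8), (106, 7), (107, 4), (108, 10), (109, 5), (110, 7), (111, 5), (112, 6), (113, 3), (114, 7), (115, 9), (116, 2), (117, 5), (118, 3), (119, 9), (120, 8), (121, 4), (122, 4), (123, 5), (125, 5), (126, 9), (127, 4), (128, 2), (129, 1), (130, 1), (131, 9), (132, 2)],
  [(0, 8), (1, 8), (2, 1), (3, 5), (4, 5), (5, 1), (6, 4), (7, 6), (8, 1), (9, 1), (10, 8), (11, 6), (12, 9), (13, 2), (14, 5), (15, 10), (16, 3), (17, 10), (18, 1), (19, 4), (20, 6), (21, 7), (22, 6), (23, 10), (24, 5), (25, 8), (26, 1), (27, 4), (28, 5), (29, 4), (30, 3), (31, 5), (32, 6), (33, 9), (34, 1), (35, 1), (36, 7), (37, 4), (38, 5), (39, 5), (40, 9), (41, 5), (42, 8), (43, 4), (44, 1), (45, 3), (47, 5), (48, 4), (49, 4), (50, 8), (51, 4), (52, 10), (53, 10), (54, 3), (55, 4), (56, 6), (57, 6), (59, 1), (60, 5), (61, 5), (62, 3), (63, 6), (64, 4), (65, 7), (66, 4), (69, 3), (70, 6), (71, 2), (72, 3), (73, 7), (74, 6), (75, 2), (76,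 4), (77, 5), (78, 2), (79, 7), (80, 8), (82, 1), (83, 9), (84, 9), (85, 4), (86, 7), (87, 6), (88, 3), (90, 7), (91, 4), (92, 7), (93, 8), (94, 8), (95, 6), (96, 7), (97, 1), (98, 5), (99, 6), (100, 2), (101, 9), (102, 2), (103, 5), (104, 4), (105, 7), (106, 8), (108, 7), (109, 1), (110, 5), (111, 1), (112, 1), (113, 6), (114, 3), (115, 3), (116, 4), (117, 1), (119, 4), (120, 1), (121, 3), (122, 1), (123, 7), (124, 3), (125, 3), (126, 3), (127, 7), (128, 2), (129, 6), (130, 2), (132, 6)],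
  [(0, 7), (1, 8), (2, 7), (3, 8), (5, 7), (7, 10), (8, 3), (9, 7), (10, 10), (11, 4), (12, 4), (13, 7), (15, 7), (16, 8), (17, 4), (18, 7), (20, 3), (21, 3), (22, 3), (23, 8), (25, 4), (26, 7), (27, 5), (28, 6), (30, 3), (31, 4), (32, 7), (33, 4), (35, 7), (37, 4), (39, 4), (40, 10), (41, 7), (42, 8), (43, 4), (44, 3), (45, 7), (46, 7), (47, 8), (48, 4), (49, 4), (50, 8), (51, 8), (53, 8), (54, 10), (55, 4), (56, 3), (57, 7), (58, 7), (59, 4), (60, 3), (61, 4), (62, 7), (64, 7), (65, 3), (67, 4), (68, 7), (69, 3), (70, 3), (71, 3), (72, 4), (73, 8), (74, 6), (76, 7), (77, 3), (78, 1), (79, 5), (80, 9), (81, 10), (82, 5), (83, 1), (84, 1), (85, 6), (86, 5), (87, 7), (88, 8), (89, 3), (90, 8), (91, 2), (92, 9), (93, 1), (94, 1), (95, 1), (96, 7), (97, 1), (98, 7), (99, 8), (102, 4), (103, 9), (104, 2), (105, 4), (106, 8), (107, 3), (108, 9), (109, 9), (110, 8), (111, 2), (112, 5), (113, 7), (114, 8), (115, 8),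 (117, 6), (118, 7), (119, 9), (120, 2), (121, 3), (122, 5), (123, 10), (124, 8), (125, 5), (126, 6), (127, 6), (128, 3), (129, 1), (130, 7), (131, 8), (132, 7)],
  [(0, 7), (1, 9), (2, 9), (3, 8), (4, 3), (5, 9), (6, 7), (7, 4), (8, 9), (9, 7), (10, 9), (11, 2), (12, 3), (13, 10), (14, 7), (15, 3), (16, 9), (17, 3), (18, 5), (19, 7), (20, 4), (21, 4), (22, 3), (24, 2), (25, 2), (26, 7), (27, 9), (28, 7), (29, 2), (30, 6), (31, 5), (32, 8), (34, 8), (35, 9), (36, 2), (37, 5), (38, 10), (39, 6), (40, 7), (41, 7), (42, 10), (44, 7), (45, 4), (47, 6), (48, 9), (50, 9), (51, 6), (52, 6), (53, 10), (54, 6), (55, 7), (56, 1), (57, 1), (59, 9), (60, 10), (61, 7), (63, 4), (64, 2), (65, 4), (66, 9), (67, 2), (68, 9), (69, 2), (70, 7), (71, 1), (72, 4), (73, 8), (74, 1), (75, 3), (76, 9), (77, 6), (78, 6), (79, 5), (80, 2), (82, 9), (83, 9), (85, 2), (86, 7), (87, 5), (88, 5), (91, 9), (92, 5), (93, 2), (94, 2), (95, 5),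 (96, 3), (97, 2), (98, 5), (99, 9), (101, 3), (102, 6), (103, 5), (104, 9), (105, 10), (106, 2), (107, 9), (108, 2), (109, 5), (110, 8), (111, 7), (112, 4), (113, 1), (114, 5), (115, 5), (116, 3), (117, 9), (118, 3), (119, 4), (120, 7), (121, 7), (123, 7), (124, 3), (125, 2), (126, 1), (127, 1), (128, 6), (129, 9), (130, 4), (131, 1), (132, 4)],
  [(1, 5), (2, 5), (3, 3), (4, 2), (5, 3), (6, 5), (8, 10), (9, 1), (10, 3), (12, 8), (13, 6), (14, 8), (15, 8), (16, 8), (17, 7), (18, 8), (19, 9), (20, 9), (21, 6), (22, 3), (23, 5), (24, 7), (25, 9), (26, 8), (27, 5), (28, 6), (29, 3), (30, 3), (31, 4), (32, 10), (33, 10), (34, 3), (35, 10), (36, 2), (37, 2), (38, 5), (39, 6), (41, 7), (43, 5), (44, 6), (45, 9), (47, 7), (48, 3), (49, 1), (50, 4), (51, 5), (52, 3), (53, 4), (54, 1), (56, 10), (57, 10), (59, 7), (60, 8), (61, 5), (62, 9), (63, 3), (64, 3), (66, 10), (67, 8), (68, 4), (69, 3), (70, 10), (71, 10), (72,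 6), (73, 1), (74, 1), (75, 8), (76, 3), (77, 1), (80, 10), (86, 9), (87, 10), (88, 9), (91, 1), (92, 10), (93, 10), (97, 1), (98, 9), (99, 2), (104, 2), (105, 1), (106, 6), (107, 5), (108, 1), (109, 5), (110, 7), (111, 1), (112, 7), (113, 6), (114, 8), (115, 2), (116, 7), (117, 7), (118, 10), (119, 9), (120, 10), (121, 5), (123, 4), (124, 7), (126, 3), (128, 2), (129, 3), (130, 10), (131, 3), (132, 3)],
  [(2, 5), (3, 3), (4, 3), (5, 9), (6, 4), (7, 4), (8, 10), (9, 4), (10, 7), (11, 1), (12, 2), (13, 10), (14, 3), (15, 4), (16, 8), (17, 2), (18, 9), (19, 10), (20, 2), (21, 5), (22, 4), (23, 10), (24, 7), (25, 9), (26, 1), (27, 5), (28, 7), (29, 9), (30, 7), (31, 4), (32, 8), (33, 5), (34, 8), (35, 5), (36, 2), (37, 9), (38, 10), (39, 10), (40, 1), (41, 1), (42, 6), (43, 10), (44, 5), (45, 4), (47, 2), (48, 9), (49, 6), (51, 6), (52, 3), (53, 3), (54, 7), (55, 7), (56, 5), (57, 5), (58, 5), (59, 1), (60, 2), (61,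 10), (62, 8), (63, 2), (64, 3), (65, 9), (66, 9), (67, 4), (68, 10), (69, 7), (70, 4), (71, 10), (72, 1), (73, 3), (74, 1), (75, 3), (76, 3), (77, 8), (78, 2), (79, 7), (80, 5), (81, 5), (82, 4), (83, 9), (84, 4), (85, 3), (86, 6), (87, 5), (88, 10), (89, 5), (90, 2), (91, 8), (92, 8), (93, 6), (94, 10), (95, 3), (96, 8), (97, 3), (98, 1), (99, 10), (100, 3), (101, 4), (102, 7), (103, 7), (104, 3), (105, 4), (106, 5), (107, 7), (108, 1), (109, 5), (110, 4), (111, 6), (112, 6), (113, 7), (114, 1), (115, 2), (116, 8), (117, 4), (118, 7), (119, 4), (120, 1), (121, 6), (122, 4), (123, 6), (124, 3), (125, 4), (126, 2), (127, 9), (129, 1), (130, 10), (131, 1)]]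

/-- data -/
def d5_8 : SMat := [
  [(0, 8), (1, 7), (2, 3), (3, 8), (4, 2), (7, 3), (8, 3), (11, 8), (12, 7), (13, 8), (15, 3), (16, 7), (17, 7), (18, 4), (19, 1), (20, 5), (21, 7), (22, 7), (23, 4), (24, 7), (25, 7), (26, 7), (27, 6), (29, 8), (30, 8), (31, 10), (33, 4), (34, 8), (35, 4), (36, 4), (37, 7), (38, 1), (39, 7), (40, 4), (41, 3), (42, 8), (44, 7), (45, 6), (46, 10), (47, 4), (48, 8), (49, 1), (50, 7), (51, 5), (52, 7), (53, 5), (54, 4), (56, 7), (58, 7), (59, 8), (60, 4), (61, 1), (62, 3), (63, 1), (64, 9), (66, 7), (67, 7), (68, 7), (69, 3), (70, 1), (71, 7), (72, 4), (73, 4), (74, 10), (75, 7), (76, 7), (77, 8), (78, 2), (79, 9), (80, 3), (81, 3), (82, 6), (83, 5), (85, 8), (86, 5), (87, 9), (89, 9), (90, 10), (91, 7), (92, 7), (93, 2), (94, 3), (95, 8), (96, 5), (97, 4), (98, 1), (99, 3), (100, 8), (101, 6), (102, 7), (103, 2), (104, 2), (105, 8), (106, 6), (107, 2), (108, 8), (109, 5), (110,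 7), (111, 6), (112, 6), (113, 3), (114, 3), (115, 8), (116, 2), (117, 4), (118, 4), (120, 5), (121, 1), (122, 3), (123, 5), (125, 4), (126, 7), (127, 6), (128, 4), (129, 1), (130, 2), (131, 9), (132, 3)],
  [(0, 4), (1, 8), (2, 2), (3, 9), (4, 2), (5, 8), (6, 5), (7, 1), (8, 2), (9, 5), (10, 2), (11, 3), (12, 3), (14, 10), (15, 9), (16, 3), (17, 3), (18, 2), (20, 8), (21, 7), (22, 9), (23, 5), (24, 3), (25, 8), (26, 4), (27, 2), (28, 4), (29, 4), (30, 10), (31, 6), (32, 8), (34, 9), (35, 8), (36, 9), (37, 6), (38, 3), (39, 4), (40, 4), (41, 10), (42, 6), (43, 5), (44, 4), (45, 6), (46, 5), (47, 10), (48, 8), (49, 3), (50, 1), (51, 7), (52, 5), (53, 8), (54, 9), (56, 5), (58, 1), (59, 7), (61, 1), (62, 6), (63, 9), (64, 4), (66, 2), (67, 9), (68, 2), (69, 3), (70, 7), (71, 5), (72, 2), (73, 10), (74, 5), (75, 9), (76, 2), (77, 4), (78, 4), (79, 9), (80, 2), (82, 9), (83, 6), (84, 5), (85, 8), (86, 9), (87, 3),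 (88, 10), (89, 9), (90, 10), (91, 6), (92, 4), (93, 1), (94, 6), (95, 10), (96, 2), (98, 9), (99, 5), (100, 3), (101, 5), (102, 5), (103, 1), (104, 9), (105, 5), (106, 9), (107, 4), (108, 2), (109, 1), (110, 7), (111, 3), (112, 9), (113, 5), (114, 5), (115, 2), (116, 7), (117, 10), (118, 8), (119, 6), (120, 4), (121, 1), (123, 10), (124, 5), (125, 9), (126, 5), (127, 1), (128, 7), (129, 9), (130, 10), (131, 3), (132, 9)],
  [(0, 4), (1, 9), (2, 10), (3, 2), (4, 7), (5, 10), (6, 5), (7, 4), (8, 3), (9, 6), (10, 9), (11, 1), (12, 1), (14, 3), (15, 3), (16, 2), (17, 1), (18, 3), (19, 5), (20, 3), (21, 6), (22, 9), (23, 9), (24, 7), (25, 10), (26, 7), (27, 4), (28, 7), (29, 3), (30, 2), (31, 9), (32, 3), (34, 1), (35, 7), (36, 1), (37, 4), (40, 2), (41, 7), (43, 6), (44, 2), (45, 4), (47, 1), (48, 4), (49, 5), (50, 9), (51, 5), (52, 7), (53, 9), (54, 2), (55, 5), (57, 6), (58, 4), (59, 1), (60, 5), (61, 5), (62, 4),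 (63, 8), (64, 3), (65, 6), (66, 3), (67, 8), (68, 3), (69, 6), (70, 9), (71, 10), (73, 1), (75, 3), (76, 3), (77, 7), (78, 4), (79, 7), (80, 8), (81, 8), (82, 2), (83, 8), (84, 10), (85, 7), (86, 4), (87, 6), (88, 3), (89, 10), (90, 6), (91, 5), (92, 5), (93, 6), (94, 7), (95, 9), (96, 10), (97, 10), (98, 4), (99, 10), (100, 6), (101, 3), (102, 1), (103, 6), (104, 4), (105, 8), (106, 3), (107, 4), (108, 6), (109, 1), (110, 2), (111, 8), (112, 1), (113, 4), (114, 5), (115, 6), (116, 2), (117, 5), (118, 4), (119, 2), (120, 9), (122, 1), (123, 1), (124, 3), (125, 2), (126, 5), (127, 6), (128, 2), (129, 7), (130, 5), (131, 5), (132, 10)],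
  [(0, 9), (1, 4), (2, 2), (3, 2), (4, 9), (5, 7), (6, 7), (8, 6), (9, 3), (10, 7), (11, 10), (12, 5), (13, 9), (14, 10), (15, 3), (17, 9), (18, 2), (20, 6), (21, 6), (22, 3), (23, 7), (24, 5), (25, 8), (27, 4), (28, 10), (29, 2), (30, 1), (31, 8), (32, 6), (33, 2), (34, 2), (35, 6), (36, 7), (37, 10), (38, 1), (39, 2), (40, 9), (41, 4), (42, 1), (43, 7), (44, 4), (45, 6), (46, 7), (47, 5), (48, 8), (49, 1), (50, 2), (51, 6), (52, 3), (53, 7), (55, 7), (56, 8), (57, 4), (58, 6), (59, 8), (60, 6), (61, 3), (62, 6), (63, 2), (64, 10), (66, 8), (67, 1), (68, 8), (69, 2), (70, 2), (71, 5), (73, 1), (74, 6), (75, 1), (76, 8), (77, 7), (78, 7), (79, 6), (80, 6), (81, 7), (82, 9), (83, 9), (85, 6), (86, 5), (87, 6), (88, 2), (89, 7), (91, 10), (92, 10), (93, 10), (94, 8), (95, 4), (96, 7), (97, 10), (98, 6), (99, 1), (100, 3), (101, 7), (102, 4), (103, 4), (104, 1), (105, 7), (106, 6), (108, 8), (109, 2), (110, 5), (111,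 8), (112, 8), (114, 10), (115, 3), (116, 2), (117, 7), (118, 6), (121, 4), (122, 7), (123, 5), (124, 4), (125, 2), (126, 5), (127, 6), (128, 4), (129, 6), (130, 8), (131, 2), (132, 2)],
  [(0, 2), (1, 9), (3, 6), (4, 8), (6, 6), (7, 3), (8, 4), (9, 2), (10, 6), (11, 5), (12, 7), (13, 6), (14, 2), (15, 5), (16, 7), (17, 7), (18, 10), (19, 6), (20, 10), (21, 1), (22, 6), (23, 9), (24, 7), (25, 9), (26, 4), (27, 9), (28, 8), (29, 5), (30, 3), (31, 10), (32, 3), (33, 1), (34, 6), (35, 4), (36, 2), (37, 4), (39, 10), (40, 10), (41, 8), (42, 5), (43, 6), (44, 4), (45, 3), (47, 4), (48, 4), (50, 7), (51, 10), (52, 1), (53, 2), (54, 7), (56, 7), (58, 7), (59, 1), (60, 4), (61, 6), (62, 4), (63, 9), (64, 4), (66, 4), (67, 7), (68, 4), (69, 3), (70, 10), (71, 7), (72, 6), (73, 9), (74, 7), (75, 6), (76, 4), (86, 9), (87, 4), (88, 9), (92, 10), (98, 9), (100, 1), (101, 4), (102, 7), (105, 9), (106, 8), (107, 3), (108, 9),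 (109, 3), (110, 8), (111, 6), (112, 7), (113, 1), (114, 3), (115, 8), (117, 5), (118, 4), (120, 5), (121, 1), (122, 3), (123, 4), (125, 4), (126, 7), (127, 6), (128, 4), (129, 2), (130, 2), (131, 5), (132, 3)],
  [(0, 1), (1, 5), (2, 9), (3, 4), (4, 10), (5, 4), (7, 10), (8, 4), (9, 6), (11, 2), (12, 10), (13, 4), (14, 6), (15, 3), (17, 10), (18, 4), (20, 1), (21, 2), (22, 2), (23, 3), (24, 6), (25, 8), (26, 1), (27, 1), (28, 6), (30, 10), (31, 2), (32, 1), (33, 3), (34, 4), (35, 9), (36, 7), (37, 5), (38, 3), (40, 9), (41, 1), (42, 4), (43, 4), (44, 8), (45, 6), (47, 9), (48, 8), (49, 7), (50, 6), (51, 1), (52, 2), (53, 10), (54, 10), (55, 4), (56, 10), (57, 4), (58, 6), (59, 8), (60, 1), (62, 6), (63, 1), (64, 10), (65, 7), (66, 8), (67, 1), (68, 8), (69, 8), (70, 7), (71, 10), (72, 10), (73, 9), (74, 8), (75, 6), (76, 8), (77, 4), (78, 4), (79, 9), (80, 9), (81, 5), (82, 9), (83, 9), (85, 9), (87, 9), (88,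 3), (89, 5), (91, 7), (92, 2), (93, 2), (95, 7), (96, 7), (97, 2), (98, 9), (99, 9), (101, 7), (102, 4), (103, 7), (104, 9), (105, 5), (106, 4), (107, 8), (108, 2), (109, 4), (110, 2), (111, 5), (112, 5), (113, 8), (114, 3), (115, 3), (116, 9), (117, 3), (118, 9), (119, 3), (120, 4), (121, 5), (122, 3), (123, 5), (124, 5), (125, 4), (126, 4), (127, 7), (129, 1), (130, 8), (131, 1), (132, 3)],
  [(0, 10), (1, 4), (3, 2), (5, 7), (7, 7), (9, 8), (10, 4), (11, 2), (13, 10), (14, 8), (15, 5), (17, 4), (19, 3), (20, 7), (21, 4), (22, 5), (23, 10), (24, 4), (25, 8), (26, 7), (27, 8), (28, 7), (29, 1), (30, 6), (31, 3), (32, 7), (33, 1), (34, 10), (35, 7), (36, 10), (37, 8), (39, 7), (41, 8), (42, 8), (44, 1), (45, 6), (46, 4), (47, 3), (48, 8), (49, 7), (50, 4), (51, 7), (52, 4), (53, 10), (54, 7), (55, 3), (56, 4), (57, 4), (58, 4), (59, 10), (60, 7), (61, 7), (62, 6), (63, 7), (64, 1), (65, 9), (66, 8), (67, 10),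 (68, 1), (69, 7), (70, 4), (71, 4), (72, 1), (73, 5), (74, 4), (75, 2), (76, 1), (77, 4), (78, 7), (79, 1), (80, 1), (81, 9), (82, 10), (83, 9), (84, 1), (85, 7), (86, 4), (87, 4), (88, 2), (90, 7), (91, 4), (92, 9), (93, 9), (94, 3), (95, 8), (96, 9), (97, 8), (98, 10), (100, 10), (101, 5), (102, 4), (103, 7), (104, 5), (105, 7), (106, 5), (107, 8), (109, 4), (110, 2), (111, 5), (112, 3), (113, 6), (114, 2), (115, 1), (116, 4), (117, 3), (118, 6), (119, 2), (120, 1), (121, 4), (122, 4), (123, 3), (125, 6), (126, 1), (127, 9), (128, 2), (129, 10), (130, 10), (131, 9)],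
  [(0, 3), (1, 2), (2, 6), (3, 5), (4, 3), (5, 1), (6, 5), (7, 10), (8, 8), (9, 1), (10, 4), (11, 6), (12, 7), (13, 4), (14, 1), (15, 7), (16, 7), (17, 2), (18, 8), (19, 4), (20, 8), (21, 10), (22, 2), (23, 3), (24, 10), (25, 9), (26, 1), (27, 9), (28, 1), (29, 7), (30, 5), (31, 7), (32, 9), (33, 2), (34, 7), (35, 1), (37, 1), (38, 3), (39, 9), (40, 5), (41, 1), (42, 7), (43, 5), (44, 8), (45, 3), (46, 1), (47, 1), (48, 4), (50, 6), (51, 4), (52, 6), (53, 9), (54, 4), (55, 4), (57, 6), (58, 7), (59, 4), (60, 5), (61, 4), (62, 3), (63, 8), (64, 2), (65, 3), (66, 9), (69, 9), (71, 1), (72, 9), (73, 5), (75, 3), (77, 5), (78, 10), (79, 3), (80, 7), (81, 7), (82, 1), (83, 3), (84, 6), (85, 6), (86, 6), (87, 5), (88, 2), (89, 4), (91, 1), (92, 6), (93, 3), (96, 10), (98, 6), (99, 2), (100, 1), (101, 4), (102, 4), (103, 3), (104, 8), (105, 8), (107, 4), (108, 10), (109, 10), (110, 7), (111, 2), (113, 3), (114, 1), (115,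 5), (116, 3), (117, 7), (118, 5), (119, 6), (121, 8), (122, 5), (123, 9), (124, 7), (125, 8), (126, 4), (127, 5), (128, 2), (129, 2), (130, 9), (131, 1)]]

/-- data -/
def d5_9 : SMat := [
  [(0, 9), (1, 4), (2, 7), (3, 5), (4, 8), (5, 6), (6, 7), (7, 7), (9, 8), (10, 1), (11, 1), (13, 10), (14, 8), (15, 1), (17, 4), (18, 7), (19, 7), (20, 7), (21, 4), (22, 10), (23, 9), (24, 4), (25, 8), (26, 8), (27, 8), (28, 9), (29, 2), (30, 7), (31, 2), (32, 8), (33, 6), (34, 10), (35, 7), (36, 9), (37, 8), (38, 1), (39, 7), (40, 7), (41, 9), (42, 2), (43, 7), (44, 2), (45, 1), (46, 5), (47, 6), (48, 8), (49, 7), (50, 4), (51, 7), (52, 4), (53, 9), (54, 7), (55, 6), (56, 4), (57, 4), (59, 10), (60, 7), (61, 7), (62, 1), (63, 8), (64, 2), (65, 5), (66, 2), (67, 9), (68, 6), (69, 7), (70, 6), (71, 4), (72, 6), (73, 5), (75, 3), (76, 2), (77, 6), (78, 5), (79, 4), (82, 7), (84, 6), (85, 9), (86, 10), (87, 10), (88, 3), (89,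 1), (90, 3), (91, 7), (92, 10), (94, 1), (95, 6), (96, 10), (97, 1), (98, 4), (99, 9), (100, 1), (101, 6), (102, 6), (103, 10), (104, 6), (105, 4), (106, 5), (107, 7), (108, 1), (109, 6), (110, 4), (111, 5), (112, 5), (113, 7), (114, 3), (115, 2), (116, 8), (117, 5), (118, 6), (119, 3), (120, 2), (121, 6), (122, 5), (123, 6), (124, 1), (125, 6), (126, 3), (127, 9), (129, 1), (130, 10), (131, 1), (132, 10)],
  [(0, 4), (1, 8), (2, 1), (3, 4), (4, 2), (5, 1), (7, 2), (8, 1), (9, 9), (10, 1), (11, 5), (12, 10), (13, 5), (14, 9), (15, 7), (16, 10), (17, 9), (18, 1), (20, 2), (22, 7), (23, 2), (24, 9), (25, 8), (26, 9), (27, 8), (28, 9), (29, 8), (30, 3), (31, 1), (32, 2), (33, 6), (34, 4), (35, 1), (36, 3), (37, 7), (38, 1), (39, 5), (40, 2), (41, 9), (42, 7), (44, 2), (45, 6), (46, 4), (47, 1), (48, 8), (49, 7), (50, 8), (51, 1), (52, 10), (53, 3), (54, 7), (56, 10), (57, 10), (59, 3), (60, 1), (61, 1), (62, 6),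 (63, 2), (64, 8), (66, 8), (67, 3), (68, 1), (69, 3), (70, 7), (71, 10), (72, 7), (73, 5), (74, 10), (75, 3), (76, 1), (77, 10), (78, 7), (79, 4), (80, 3), (81, 1), (82, 1), (83, 9), (84, 1), (85, 4), (86, 6), (87, 3), (88, 4), (89, 1), (90, 10), (91, 9), (92, 3), (93, 4), (94, 4), (95, 1), (97, 2), (98, 5), (99, 8), (100, 6), (103, 5), (104, 6), (105, 10), (106, 5), (107, 6), (108, 2), (109, 5), (110, 10), (111, 3), (112, 8), (113, 1), (114, 4), (115, 9), (116, 7), (117, 1), (118, 7), (119, 10), (120, 8), (121, 3), (122, 8), (123, 4), (124, 4), (125, 8), (126, 4), (127, 5), (128, 9), (129, 5), (130, 2), (131, 2)],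
  [(0, 3), (1, 8), (2, 7), (3, 4), (4, 8), (5, 10), (6, 7), (7, 8), (9, 8), (10, 2), (11, 7), (12, 4), (13, 10), (14, 4), (15, 7), (16, 5), (17, 8), (18, 7), (19, 7), (20, 7), (21, 10), (23, 1), (24, 4), (25, 4), (26, 3), (27, 7), (28, 4), (29, 4), (30, 7), (31, 7), (32, 10), (33, 1), (34, 3), (36, 3), (37, 8), (38, 3), (39, 7), (40, 9), (41, 10), (42, 9), (43, 3), (44, 10), (45, 6), (46, 7), (47, 9), (48, 8), (50, 9), (51, 1), (52, 4), (53, 4), (54, 3), (55, 4), (56, 10), (58, 10), (59, 4), (60, 1), (62, 6), (63, 3), (64, 3), (65, 7), (66, 8), (67, 8), (68, 1), (69, 7), (70, 7), (71, 3), (72, 1), (73, 9), (74, 9), (75, 4), (76, 3), (77, 3), (78, 2), (79, 7), (80, 9), (82, 5), (84, 1), (85, 6), (86, 8), (87, 7), (88, 7), (89, 2), (90, 8), (91, 4), (92, 10), (93, 1), (94, 2), (95, 1), (96, 6), (97, 1), (98, 7), (99, 5), (100, 10), (101, 9), (102, 4), (103, 9), (104, 10), (105, 10), (106, 4), (107, 1), (108, 1),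 (109, 7), (110, 1), (111, 8), (112, 6), (114, 7), (115, 5), (116, 9), (117, 4), (120, 10), (121, 4), (122, 7), (123, 8), (124, 8), (125, 6), (126, 3), (127, 4), (128, 1), (129, 10), (130, 7), (131, 2), (132, 9)],
  [(0, 3), (1, 5), (2, 3), (3, 9), (5, 8), (6, 7), (7, 7), (8, 2), (9, 3), (10, 9), (11, 8), (12, 4), (13, 3), (15, 3), (16, 1), (17, 8), (18, 3), (19, 8), (20, 3), (21, 6), (22, 6), (23, 5), (25, 8), (26, 3), (27, 8), (28, 10), (29, 10), (30, 6), (31, 8), (32, 4), (33, 7), (34, 7), (35, 3), (37, 8), (39, 8), (40, 9), (41, 4), (42, 5), (43, 8), (44, 10), (45, 3), (46, 10), (47, 5), (48, 1), (49, 9), (50, 1), (51, 4), (52, 1), (53, 5), (54, 10), (55, 8), (56, 3), (57, 3), (58, 4), (59, 7), (60, 4), (61, 8), (62, 3), (63, 10), (64, 3), (65, 2), (66, 7), (67, 8), (68, 3), (69, 6), (70, 6), (71, 6), (72, 8), (73, 5), (74, 10), (75, 1), (76, 10), (77, 4), (78, 10), (79, 7), (80, 5), (81, 7), (82, 7), (83,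 2), (84, 7), (85, 7), (86, 10), (87, 5), (88, 1), (89, 7), (90, 9), (91, 2), (92, 5), (93, 1), (94, 1), (95, 7), (97, 3), (98, 9), (99, 6), (100, 8), (103, 3), (104, 2), (105, 2), (106, 3), (107, 8), (108, 2), (109, 6), (110, 2), (111, 6), (112, 5), (113, 9), (114, 4), (115, 3), (116, 10), (117, 4), (118, 10), (119, 2), (120, 3), (121, 6), (122, 5), (123, 6), (124, 4), (125, 5), (126, 4), (127, 5), (128, 9), (129, 10), (130, 8), (131, 2)],
  [(0, 5), (1, 7), (2, 2), (3, 1), (4, 3), (5, 3), (6, 7), (7, 6), (8, 2), (9, 10), (10, 6), (12, 5), (13, 1), (15, 5), (16, 6), (17, 4), (18, 8), (19, 8), (20, 2), (21, 6), (22, 3), (23, 10), (24, 7), (25, 3), (26, 5), (27, 9), (28, 1), (29, 6), (30, 9), (31, 9), (32, 8), (33, 10), (34, 10), (35, 10), (36, 10), (37, 10), (38, 8), (39, 3), (40, 3), (41, 10), (42, 6), (43, 2), (44, 2), (45, 1), (47, 4), (48, 8), (49, 6), (50, 8), (51, 2), (52, 6), (53, 7), (54, 10), (55, 2),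 (56, 5), (57, 5), (58, 5), (59, 7), (60, 8), (61, 7), (63, 3), (64, 10), (65, 2), (66, 4), (68, 1), (69, 1), (70, 5), (71, 3), (72, 9), (73, 3), (74, 6), (75, 5), (76, 1), (77, 9), (78, 5), (79, 6), (80, 7), (81, 8), (82, 5), (83, 8), (85, 3), (86, 2), (87, 5), (88, 10), (89, 1), (90, 3), (91, 6), (92, 3), (93, 5), (94, 9), (95, 10), (96, 6), (98, 2), (99, 1), (100, 6), (101, 2), (102, 4), (103, 6), (104, 4), (105, 10), (107, 7), (108, 10), (109, 6), (111, 10), (112, 4), (113, 8), (114, 4), (115, 9), (116, 5), (117, 4), (118, 1), (119, 6), (120, 1), (121, 2), (123, 7), (124, 9), (125, 4), (127, 1), (128, 2), (129, 8), (130, 5), (131, 9), (132, 5)],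
  [(0, 3), (2, 3), (3, 1), (4, 1), (5, 3), (6, 1), (7, 3), (8, 3), (9, 3), (10, 4), (11, 6), (13, 3), (14, 2), (15, 10), (16, 7), (17, 6), (18, 7), (19, 3), (20, 9), (21, 9), (22, 9), (23, 7), (24, 10), (25, 10), (26, 2), (27, 8), (28, 4), (29, 3), (30, 8), (31, 4), (32, 6), (33, 8), (35, 5), (38, 1), (40, 8), (41, 4), (42, 2), (43, 3), (44, 5), (45, 6), (46, 9), (48, 1), (49, 2), (50, 1), (51, 9), (52, 5), (53, 3), (54, 9), (55, 10), (57, 10), (58, 1), (59, 3), (60, 3), (61, 9), (62, 8), (63, 8), (64, 1), (65, 10), (66, 1), (67, 9), (69, 7), (70, 7), (71, 10), (72, 7), (73, 4), (74, 9), (75, 8), (78, 7), (79, 6), (80, 8), (81, 7), (82, 2), (83, 1), (84, 7), (85, 9), (87, 2), (88, 6), (89, 8), (91, 8), (92, 5), (93, 10), (94, 10), (95, 2), (96, 10), (97, 10), (98, 2), (99, 7), (100, 3), (104, 3), (105, 8), (106, 9), (107, 5), (108, 9), (109, 1), (110, 6), (111, 6), (112, 4), (113, 4), (114, 6), (115, 9), (116,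 2), (117, 3), (118, 8), (119, 7), (120, 7), (121, 1), (122, 2), (123, 3), (124, 2), (125, 4), (126, 6), (127, 3), (128, 4), (129, 2), (130, 1), (131, 8), (132, 2)],
  [(0, 4), (1, 2), (2, 2), (3, 7), (4, 2), (5, 6), (6, 1), (7, 6), (8, 3), (9, 4), (10, 3), (12, 2), (13, 2), (14, 8), (16, 8), (17, 4), (18, 3), (19, 9), (20, 7), (21, 1), (22, 3), (23, 10), (24, 10), (25, 6), (26, 6), (27, 2), (28, 8), (29, 1), (30, 6), (31, 7), (32, 6), (33, 4), (34, 8), (35, 8), (36, 4), (37, 9), (38, 7), (39, 2), (40, 4), (41, 7), (42, 4), (43, 3), (44, 1), (45, 8), (46, 3), (47, 4), (48, 5), (49, 10), (50, 3), (53, 5), (54, 7), (55, 5), (56, 9), (57, 8), (58, 10), (59, 5), (60, 5), (61, 9), (62, 10), (63, 8), (64, 8), (65, 8), (66, 6), (67, 2), (68, 7), (69, 5), (70, 1), (71, 4), (72, 1), (73, 2), (74, 7), (75, 8), (76, 7), (78, 8), (79, 6), (80, 8), (81, 7), (82, 8), (83, 6), (84, 4), (86, 10), (87, 7), (88, 8), (89, 2), (90,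 8), (91, 8), (92, 10), (93, 4), (94, 10), (95, 10), (96, 4), (97, 10), (98, 10), (99, 5), (100, 9), (101, 3), (102, 3), (103, 5), (104, 6), (105, 10), (106, 7), (107, 7), (108, 5), (109, 5), (110, 4), (111, 9), (113, 1), (114, 7), (115, 6), (116, 7), (117, 8), (118, 6), (119, 5), (120, 8), (122, 3), (123, 6), (125, 7), (127, 2), (128, 1), (129, 5), (130, 2), (131, 3), (132, 7)],
  [(0, 1), (1, 6), (2, 2), (3, 7), (4, 2), (5, 1), (6, 9), (7, 5), (8, 9), (9, 9), (10, 4), (11, 10), (12, 9), (13, 1), (14, 8), (15, 2), (17, 3), (18, 8), (19, 4), (20, 8), (21, 8), (22, 9), (23, 8), (24, 1), (25, 9), (26, 1), (28, 8), (30, 10), (31, 3), (32, 7), (33, 10), (34, 10), (35, 8), (36, 6), (37, 9), (38, 4), (39, 8), (41, 7), (42, 8), (43, 8), (44, 3), (45, 4), (46, 2), (47, 3), (48, 5), (49, 8), (50, 9), (51, 3), (52, 5), (53, 8), (54, 5), (55, 9), (56, 1), (57, 2), (58, 5), (59, 5), (60, 7), (61, 8), (62, 3), (63, 5), (64,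 1), (65, 3), (66, 9), (67, 10), (68, 1), (69, 10), (70, 6), (71, 4), (72, 3), (73, 2), (74, 1), (75, 4), (76, 1), (77, 4), (78, 1), (79, 4), (80, 8), (81, 10), (82, 1), (83, 7), (84, 7), (85, 2), (87, 6), (88, 5), (89, 4), (90, 2), (91, 9), (92, 9), (93, 10), (94, 7), (95, 7), (96, 6), (97, 4), (98, 9), (99, 10), (101, 8), (102, 8), (103, 6), (104, 8), (105, 9), (106, 4), (107, 2), (108, 10), (109, 7), (110, 9), (111, 4), (112, 8), (113, 1), (114, 1), (115, 9), (116, 1), (117, 8), (118, 9), (119, 10), (120, 9), (121, 6), (122, 7), (123, 7), (124, 6), (125, 7), (126, 9), (127, 7), (128, 8), (129, 1), (130, 1), (131, 3), (132, 1)]]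

/-- data -/
def d5_10 : SMat := [
  [(0, 6), (1, 6), (2, 7), (3, 10), (4, 4), (5, 1), (6, 8), (7, 7), (8, 8), (9, 3), (10, 6), (11, 1), (12, 8), (13, 5), (15, 5), (16, 1), (17, 6), (18, 5), (19, 1), (20, 9), (21, 1), (22, 4), (23, 1), (24, 2), (25, 4), (26, 2), (27, 6), (28, 1), (29, 2), (30, 8), (31, 7), (32, 9), (33, 7), (34, 9), (35, 1), (36, 9), (37, 3), (39, 1), (40, 3), (42, 9), (43, 6), (44, 10), (45, 2), (46, 5), (47, 2), (48, 8), (49, 2), (50, 4), (52, 3), (53, 8), (54, 6), (55, 3), (56, 7), (57, 9), (58, 2), (60, 9), (61, 1), (62, 1), (63, 7), (64, 4), (65, 4), (66, 5), (67, 6), (68, 4), (69, 7), (70, 4), (72, 3), (73, 9), (74, 7), (75, 9), (76, 3), (77, 8), (78, 6), (79, 5), (80, 10), (81, 8), (82, 7), (83, 7), (84, 2), (85, 2), (86, 7), (87, 6), (88, 9), (89, 8), (90, 7), (91, 9), (92, 10), (93, 3), (94, 5), (95, 8), (97, 7), (98, 10), (99, 4), (100, 9), (101, 5), (102, 5), (103, 4), (104, 7), (107,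 10), (109, 1), (110, 2), (112, 1), (113, 9), (115, 9), (117, 2), (118, 10), (119, 1), (120, 1), (121, 1), (122, 1), (123, 1), (124, 9), (125, 1), (126, 10), (127, 2), (128, 6), (129, 10), (130, 1), (132, 10)],
  [(0, 3), (1, 7), (2, 8), (3, 5), (4, 5), (5, 1), (7, 6), (8, 5), (9, 3), (10, 6), (12, 2), (13, 1), (14, 2), (15, 6), (16, 4), (17, 5), (18, 6), (19, 2), (20, 7), (21, 10), (22, 6), (23, 8), (24, 3), (25, 7), (26, 5), (27, 9), (28, 3), (29, 2), (30, 4), (32, 8), (33, 9), (34, 4), (35, 7), (36, 2), (37, 9), (39, 2), (40, 4), (41, 3), (42, 10), (43, 10), (44, 3), (45, 9), (46, 2), (47, 7), (48, 4), (50, 5), (51, 9), (52, 1), (53, 4), (54, 2), (55, 2), (56, 9), (58, 2), (59, 1), (60, 10), (61, 2), (63, 5), (64, 4), (65, 7), (66, 6), (67, 6), (68, 4), (69, 6), (70, 6), (71, 1), (73, 9), (74, 9), (75, 5), (76, 6), (77, 4), (78, 1), (79, 10), (81, 1), (83, 10), (84, 6), (85, 8), (86, 7), (87, 6), (88, 2), (89,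 1), (90, 2), (91, 3), (92, 9), (93, 7), (94, 10), (95, 1), (97, 2), (98, 9), (99, 4), (101, 5), (102, 5), (103, 3), (104, 8), (107, 10), (109, 1), (110, 2), (112, 1), (113, 9), (115, 9), (117, 2), (118, 10), (119, 1), (120, 1), (121, 1), (122, 1), (123, 1), (124, 9), (125, 1), (126, 10), (127, 2), (128, 10), (129, 3), (130, 1), (132, 10)],
  [(0, 8), (1, 9), (3, 1), (4, 10), (6, 7), (7, 3), (9, 3), (10, 2), (11, 6), (12, 1), (13, 3), (14, 1), (15, 8), (16, 10), (17, 1), (18, 6), (19, 5), (20, 5), (21, 7), (22, 3), (23, 8), (25, 10), (26, 3), (27, 3), (28, 9), (29, 2), (30, 6), (32, 2), (33, 7), (34, 8), (35, 9), (36, 7), (37, 6), (38, 8), (39, 5), (40, 8), (41, 9), (42, 1), (43, 3), (44, 3), (45, 9), (46, 1), (47, 7), (48, 1), (49, 6), (50, 5), (51, 4), (52, 6), (53, 5), (54, 4), (55, 10), (56, 4), (57, 6), (58, 2), (59, 10), (60, 4), (61, 2), (62, 9), (63, 1), (64, 4), (65, 3), (66, 1), (67, 7), (68, 6), (69,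 6), (70, 3), (71, 7), (72, 7), (73, 6), (74, 5), (76, 4), (77, 1), (78, 4), (79, 9), (80, 3), (81, 5), (82, 6), (83, 7), (84, 5), (85, 6), (86, 3), (87, 5), (88, 10), (89, 5), (90, 9), (91, 2), (92, 3), (93, 8), (94, 3), (95, 5), (96, 4), (97, 2), (98, 8), (99, 3), (100, 10), (101, 2), (102, 9), (103, 3), (104, 10), (105, 4), (106, 2), (107, 9), (108, 10), (109, 8), (110, 2), (111, 9), (113, 8), (114, 6), (115, 8), (116, 5), (117, 3), (118, 7), (119, 3), (120, 6), (121, 8), (122, 9), (123, 10), (124, 9), (126, 6), (127, 6), (128, 4), (129, 2), (130, 1), (131, 8), (132, 3)],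
  [(0, 5), (1, 3), (2, 1), (3, 3), (4, 3), (5, 9), (6, 9), (7, 6), (9, 9), (10, 1), (11, 9), (12, 9), (13, 4), (14, 7), (15, 10), (16, 8), (19, 8), (20, 9), (21, 4), (22, 2), (23, 4), (24, 1), (25, 6), (26, 5), (27, 4), (28, 7), (30, 2), (32, 10), (33, 7), (34, 6), (36, 2), (37, 6), (38, 3), (39, 5), (40, 10), (41, 4), (42, 1), (43, 8), (44, 7), (45, 10), (46, 9), (47, 7), (48, 6), (50, 2), (51, 10), (52, 5), (53, 4), (54, 8), (55, 9), (56, 8), (57, 3), (58, 1), (59, 1), (60, 7), (62, 10), (63, 8), (64, 8), (65, 3), (66, 6), (67, 3), (68, 9), (69, 9), (70, 10), (73, 10), (74, 9), (75, 4), (76, 9), (77, 6), (78, 4), (79, 2), (80, 6), (81, 9), (82, 4), (83, 1), (84, 4), (85, 5), (86, 1), (87, 9), (88, 5), (89, 4), (90, 10), (91, 6), (92, 3), (93, 7), (94, 7), (95, 2), (96, 9), (97, 7), (98, 9), (99, 5), (100, 8), (101, 6), (102, 5), (103, 9), (104, 8), (105, 8), (106, 8), (107, 10), (108, 3), (109, 4), (110, 1),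 (111, 4), (113, 3), (114, 7), (115, 10), (116, 7), (117, 4), (118, 10), (119, 1), (120, 7), (121, 7), (122, 8), (123, 8), (124, 6), (125, 4), (126, 2), (127, 9), (128, 3), (130, 1), (131, 3), (132, 7)],
  [(0, 1), (2, 7), (3, 4), (4, 1), (5, 9), (6, 10), (7, 6), (8, 6), (9, 10), (10, 9), (11, 9), (12, 1), (13, 2), (14, 5), (15, 10), (16, 6), (17, 2), (18, 6), (19, 6), (20, 4), (21, 3), (22, 8), (23, 4), (24, 10), (25, 9), (26, 10), (28, 5), (29, 6), (30, 1), (31, 10), (32, 4), (34, 2), (35, 2), (36, 3), (37, 10), (38, 4), (39, 5), (40, 7), (41, 9), (42, 2), (43, 5), (44, 7), (46, 4), (47, 4), (48, 9), (49, 2), (50, 5), (51, 10), (53, 7), (55, 3), (56, 5), (57, 6), (58, 5), (59, 1), (60, 10), (61, 5), (63, 10), (65, 1), (66, 8), (68, 7), (69, 2), (70, 8), (72, 8), (73, 3), (74, 1), (75, 9), (76, 7), (77, 9), (79, 6), (80, 3), (81, 8), (82, 9), (83, 8), (84, 3), (85, 5), (86, 1), (87, 8), (89, 9), (90, 2), (91,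 7), (92, 9), (93, 1), (94, 1), (95, 6), (96, 4), (97, 1), (98, 8), (99, 3), (100, 2), (102, 1), (103, 5), (104, 7), (105, 6), (106, 3), (107, 6), (108, 7), (109, 1), (110, 7), (111, 1), (112, 1), (113, 6), (114, 3), (115, 7), (116, 2), (117, 1), (118, 3), (119, 5), (120, 4), (121, 8), (122, 1), (124, 5), (125, 1), (126, 4), (127, 10), (128, 4), (130, 3), (131, 7), (132, 1)],
  [(0, 3), (1, 6), (2, 3), (3, 2), (4, 8), (5, 3), (6, 9), (8, 1), (9, 1), (10, 7), (11, 10), (12, 3), (13, 9), (14, 10), (15, 7), (16, 5), (17, 1), (18, 9), (19, 7), (20, 8), (21, 9), (22, 3), (23, 8), (24, 3), (25, 6), (26, 3), (28, 10), (29, 1), (30, 10), (31, 1), (32, 5), (33, 2), (34, 6), (35, 10), (36, 9), (37, 9), (39, 4), (40, 4), (41, 10), (42, 6), (43, 4), (44, 4), (45, 3), (46, 2), (47, 6), (48, 9), (49, 7), (50, 9), (51, 6), (52, 3), (53, 5), (54, 5), (55, 9), (56, 5), (57, 6), (58, 5), (59, 4), (60, 3), (61, 7), (62, 2), (63,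 3), (64, 2), (65, 4), (66, 6), (67, 9), (68, 2), (69, 10), (71, 8), (72, 2), (73, 6), (74, 5), (75, 7), (76, 2), (77, 4), (78, 2), (79, 7), (81, 4), (82, 1), (83, 7), (84, 4), (85, 1), (88, 7), (89, 4), (90, 10), (91, 4), (92, 3), (93, 4), (94, 1), (95, 4), (96, 8), (97, 4), (98, 5), (99, 8), (100, 6), (105, 1), (106, 1), (107, 10), (108, 3), (109, 10), (110, 7), (111, 7), (112, 7), (113, 3), (114, 6), (115, 10), (116, 3), (119, 8), (120, 7), (121, 3), (122, 3), (123, 10), (125, 4), (126, 3), (127, 8), (128, 8), (129, 7), (130, 1), (131, 3), (132, 8)],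
  [(0, 7), (2, 1), (3, 3), (4, 2), (5, 7), (6, 10), (7, 6), (10, 9), (11, 2), (12, 10), (13, 1), (14, 10), (15, 1), (16, 9), (19, 7), (20, 9), (21, 9), (22, 9), (23, 4), (24, 1), (25, 9), (27, 8), (28, 9), (29, 5), (30, 1), (31, 6), (32, 10), (33, 1), (35, 4), (36, 5), (37, 9), (38, 7), (39, 9), (40, 2), (41, 10), (42, 3), (43, 9), (44, 7), (45, 5), (46, 7), (47, 6), (48, 9), (49, 3), (50, 10), (51, 4), (52, 7), (54, 10), (55, 4), (57, 2), (58, 1), (59, 6), (60, 5), (61, 9), (62, 5), (63, 9), (64, 6), (65, 3), (66, 8), (67, 5), (68, 5), (69, 1), (70, 9), (71, 3), (72, 10), (73, 10), (74, 9), (75, 5), (76, 6), (77, 1), (78, 4), (79, 5), (80, 3), (81, 7), (82, 9), (83, 4), (84, 4), (85, 2), (86, 8), (87, 6), (88, 10), (89, 1), (90, 10), (91, 4), (92, 3), (93, 4), (94, 4), (95, 4), (96, 6), (97, 4), (98, 6), (102, 5), (103, 3), (104, 9), (106, 9), (107, 2), (108, 8), (109, 3), (110, 9), (111, 3), (112, 5), (114,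 8), (115, 7), (116, 9), (117, 6), (119, 10), (120, 6), (121, 2), (122, 5), (123, 4), (124, 7), (125, 5), (126, 4), (127, 8), (128, 4), (129, 1), (130, 2), (131, 7), (132, 2)],
  [(0, 5), (1, 7), (2, 5), (3, 4), (4, 2), (5, 5), (6, 10), (7, 9), (8, 5), (9, 4), (10, 8), (11, 7), (12, 10), (13, 1), (14, 3), (15, 5), (16, 5), (18, 4), (19, 9), (20, 10), (21, 4), (22, 8), (23, 5), (24, 1), (25, 9), (26, 5), (27, 4), (28, 4), (29, 8), (30, 5), (32, 10), (33, 7), (34, 7), (35, 4), (36, 10), (37, 2), (38, 8), (39, 10), (40, 10), (41, 4), (42, 1), (43, 9), (44, 6), (45, 4), (46, 2), (47, 7), (48, 9), (49, 8), (50, 6), (51, 4), (52, 9), (53, 5), (54, 4), (55, 3), (56, 5), (57, 6), (58, 2), (59, 6), (60, 4), (61, 9), (62, 8), (63, 9), (64, 1), (65, 3), (66, 10), (67, 10), (68, 1), (69, 6), (70, 8), (71, 7), (72, 6), (73, 6), (74, 5), (76, 1), (77, 8), (78, 8), (79, 5), (80, 3), (85, 3), (86, 8), (87, 3), (88, 3), (91, 1),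 (92, 3), (93, 5), (95, 3), (97, 5), (98, 3), (99, 6), (101, 9), (102, 2), (103, 3), (104, 6), (105, 7), (106, 6), (107, 8), (108, 8), (109, 4), (110, 9), (111, 7), (112, 8), (113, 7), (114, 4), (115, 8), (116, 1), (117, 5), (118, 10), (119, 4), (120, 4), (121, 1), (122, 2), (123, 8), (124, 3), (125, 8), (126, 7), (127, 8), (128, 10), (129, 4), (131, 4), (132, 7)]]

/-- data -/
def d5_11 : SMat := [
  [(0, 7), (1, 7), (3, 6), (4, 4), (5, 1), (6, 8), (7, 4), (8, 8), (9, 6), (10, 6), (11, 9), (12, 5), (14, 3), (15, 8), (16, 2), (17, 3), (18, 6), (19, 9), (20, 6), (22, 6), (24, 3), (25, 3), (26, 7), (27, 10), (28, 5), (30, 7), (32, 5), (33, 7), (34, 5), (36, 5), (37, 2), (38, 10), (39, 9), (40, 4), (42, 4), (43, 7), (44, 10), (45, 3), (46, 7), (47, 2), (48, 4), (49, 2), (50, 4), (51, 5), (52, 2), (53, 9), (55, 4), (56, 8), (57, 9), (58, 3), (59, 4), (61, 3), (62, 10), (63, 4), (64, 3), (65, 4), (66, 5), (67, 8), (68,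 7), (69, 7), (70, 6), (71, 2), (72, 1), (73, 6), (74, 1), (75, 2), (76, 3), (77, 4), (78, 6), (79, 5), (80, 2), (81, 8), (82, 3), (83, 8), (85, 2), (86, 2), (87, 10), (88, 1), (89, 3), (90, 10), (91, 6), (92, 5), (93, 5), (94, 3), (96, 10), (97, 6), (98, 10), (99, 4), (100, 3), (102, 6), (104, 9), (105, 5), (106, 5), (107, 6), (109, 6), (110, 8), (111, 6), (112, 6), (113, 7), (114, 1), (116, 7), (117, 6), (118, 6), (119, 5), (120, 1), (121, 7), (122, 6), (123, 6), (125, 5), (126, 2), (127, 10), (128, 10), (130, 10), (131, 1), (132, 10)],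
  [(0, 5), (1, 4), (2, 9), (3, 9), (4, 2), (5, 5), (7, 7), (8, 6), (9, 6), (10, 3), (11, 6), (13, 2), (14, 5), (15, 6), (16, 4), (17, 10), (18, 6), (19, 7), (20, 10), (21, 5), (22, 2), (24, 3), (25, 10), (26, 7), (28, 7), (29, 1), (30, 7), (31, 9), (32, 10), (33, 2), (34, 4), (35, 2), (36, 6), (37, 3), (38, 9), (39, 4), (40, 5), (41, 7), (42, 10), (43, 8), (44, 1), (45, 3), (46, 5), (47, 4), (48, 9), (49, 5), (50, 2), (51, 7), (52, 7), (54, 5), (55, 10), (56, 7), (57, 9), (58, 1), (59, 4), (60, 1), (61, 10), (62, 5), (63, 8), (64, 2), (65, 9), (66, 7), (67, 8), (68, 2), (69, 9), (70, 2), (71, 9), (72, 2), (73, 9), (74, 7), (75, 3), (76, 4), (77, 8), (78, 6), (79, 8), (80, 6), (81, 5), (82, 3), (83, 10), (84, 1), (85, 3), (86, 8), (87, 7), (88, 9), (89, 9), (90, 8), (91, 5), (92, 10), (95, 7), (96, 6), (97, 10), (98, 2), (100, 10), (101, 2), (102, 2), (103, 4), (104, 5), (105, 8), (106, 8), (107, 2), (108, 7),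 (109, 6), (110, 6), (111, 6), (112, 5), (113, 2), (114, 9), (115, 8), (116, 3), (117, 6), (118, 6), (119, 5), (120, 1), (121, 7), (122, 7), (123, 3), (124, 7), (125, 7), (126, 8), (128, 10), (129, 7), (130, 4), (131, 8)],
  [(0, 9), (1, 4), (2, 9), (3, 2), (4, 4), (5, 2), (6, 1), (7, 3), (8, 2), (9, 1), (10, 10), (11, 6), (12, 9), (13, 1), (14, 3), (17, 8), (18, 3), (19, 7), (20, 5), (21, 7), (22, 8), (23, 7), (24, 6), (25, 5), (26, 1), (28, 3), (29, 3), (30, 2), (31, 8), (32, 5), (34, 10), (35, 3), (36, 2), (37, 4), (38, 10), (39, 4), (40, 3), (41, 7), (43, 3), (44, 4), (45, 1), (46, 10), (47, 1), (48, 5), (49, 3), (50, 5), (51, 4), (52, 6), (54, 7), (55, 1), (56, 2), (58, 10), (60, 1), (61, 3), (62, 5), (63, 7), (64, 2), (65, 8), (66, 1), (67, 9), (68, 9), (69, 2), (70, 8), (71, 10), (73, 7), (74, 9), (75, 1), (76, 2), (77, 5), (78, 10), (79, 1), (81, 1), (82, 8), (83, 1), (84, 10), (85, 3), (87, 2), (88, 1),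 (89, 8), (90, 3), (91, 10), (92, 6), (93, 10), (94, 8), (95, 10), (96, 9), (97, 10), (98, 2), (99, 7), (100, 2), (101, 9), (102, 9), (103, 5), (104, 2), (105, 4), (106, 3), (108, 10), (109, 8), (110, 10), (111, 8), (112, 9), (114, 8), (115, 10), (116, 6), (117, 8), (118, 8), (119, 3), (120, 6), (121, 4), (122, 7), (124, 3), (125, 1), (126, 9), (127, 6), (128, 6), (129, 4), (130, 8), (131, 6), (132, 5)],
  [(1, 5), (2, 7), (3, 7), (4, 3), (5, 2), (6, 7), (8, 7), (9, 10), (10, 4), (11, 6), (12, 4), (14, 8), (15, 9), (16, 2), (17, 8), (18, 3), (19, 10), (20, 1), (21, 1), (22, 8), (23, 6), (24, 10), (25, 1), (26, 10), (27, 7), (28, 7), (29, 7), (30, 10), (31, 1), (32, 10), (33, 9), (34, 4), (35, 2), (37, 1), (38, 1), (39, 5), (40, 1), (41, 6), (42, 9), (43, 5), (44, 5), (45, 8), (46, 6), (47, 9), (48, 1), (49, 1), (50, 1), (51, 8), (52, 3), (53, 7), (54, 8), (55, 5), (56, 4), (57, 6), (58, 2), (59, 7), (60, 4), (61,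 5), (62, 8), (63, 8), (64, 9), (66, 2), (67, 2), (69, 10), (70, 8), (71, 8), (73, 8), (74, 5), (75, 9), (76, 9), (77, 8), (78, 10), (80, 2), (81, 1), (82, 6), (83, 10), (84, 10), (85, 5), (86, 7), (87, 4), (88, 3), (89, 8), (90, 3), (91, 9), (92, 2), (93, 10), (94, 10), (95, 10), (96, 4), (97, 10), (98, 4), (99, 2), (102, 7), (103, 2), (104, 8), (106, 9), (107, 2), (108, 8), (109, 3), (110, 9), (111, 7), (112, 5), (114, 4), (115, 7), (116, 9), (117, 6), (119, 10), (120, 6), (121, 2), (122, 5), (123, 4), (124, 7), (125, 5), (126, 4), (127, 8), (128, 4), (129, 1), (130, 2), (131, 7), (132, 2)],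
  [(0, 2), (1, 3), (2, 1), (4, 5), (5, 2), (6, 5), (7, 9), (8, 9), (9, 10), (11, 5), (12, 1), (13, 3), (14, 3), (15, 5), (16, 6), (19, 7), (20, 2), (22, 10), (23, 9), (24, 6), (25, 5), (26, 9), (27, 3), (29, 8), (30, 9), (31, 3), (32, 2), (33, 8), (34, 5), (35, 3), (36, 5), (37, 5), (38, 8), (39, 3), (40, 8), (41, 1), (42, 3), (43, 6), (44, 2), (45, 8), (46, 6), (47, 3), (48, 2), (49, 10), (50, 5), (52, 6), (53, 3), (54, 1), (55, 5), (56, 10), (57, 8), (58, 6), (59, 6), (60, 10), (61, 6), (62, 8), (63, 3), (64, 3), (65, 1), (66, 1), (67, 8), (68, 4), (69, 9), (70, 9), (72, 8), (74, 1), (75, 3), (76, 3), (77, 2), (78, 8), (79, 1), (80, 6), (81, 3), (82, 3), (83, 3), (84, 3), (85, 1), (86, 1), (87, 6), (88, 4), (89, 3), (90, 3), (91, 8), (92, 6), (93, 9), (94, 3), (95, 3), (97, 8), (98, 1), (99, 10), (100, 7), (103, 4), (104, 10), (105, 5), (106, 2), (107, 9), (108, 1), (109, 9), (110, 1), (112, 3), (113, 10), (115,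 2), (117, 3), (118, 6), (119, 8), (120, 7), (121, 9), (122, 1), (123, 8), (124, 8), (125, 1), (126, 3), (127, 3), (128, 5), (129, 6), (130, 10), (131, 1), (132, 6)],
  [(0, 1), (1, 10), (2, 6), (3, 3), (5, 6), (6, 5), (7, 7), (10, 10), (11, 1), (12, 9), (13, 2), (14, 9), (15, 3), (16, 6), (17, 4), (18, 4), (19, 10), (20, 2), (21, 7), (22, 3), (23, 8), (24, 2), (25, 10), (26, 5), (27, 1), (28, 9), (29, 9), (30, 3), (31, 10), (32, 2), (33, 2), (34, 10), (35, 1), (36, 1), (37, 7), (38, 2), (39, 3), (40, 9), (42, 3), (43, 3), (44, 3), (45, 8), (46, 5), (47, 5), (48, 10), (50, 4), (51, 8), (52, 1), (53, 1), (54, 1), (55, 2), (56, 7), (57, 8), (58, 6), (59, 9), (60, 8), (61, 3), (62, 8), (64, 4), (65, 4), (66, 4), (67, 7), (69, 3), (70, 3), (71, 4), (72, 1), (73, 5), (74, 3), (75, 1), (77, 10), (78, 8), (79, 1), (80, 9), (81, 3), (82, 7), (83, 8), (84, 8), (85, 7), (86, 8), (87, 10), (88, 7), (89, 2), (90, 9), (91,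 9), (92, 10), (93, 1), (94, 8), (95, 8), (96, 1), (97, 1), (98, 10), (99, 6), (100, 2), (101, 5), (102, 5), (103, 9), (104, 2), (105, 2), (106, 2), (107, 8), (108, 8), (109, 4), (110, 3), (111, 1), (113, 9), (114, 9), (115, 6), (116, 9), (117, 3), (118, 9), (119, 3), (120, 1), (121, 4), (122, 6), (124, 3), (125, 3), (126, 6), (127, 2), (128, 7), (129, 5), (130, 6), (131, 9), (132, 8)],
  [(0, 6), (1, 10), (2, 4), (3, 9), (4, 5), (5, 7), (6, 9), (7, 3), (8, 8), (10, 7), (11, 3), (12, 4), (13, 2), (14, 6), (15, 7), (16, 2), (17, 9), (18, 4), (20, 8), (21, 4), (22, 7), (23, 2), (24, 7), (25, 10), (26, 8), (27, 4), (28, 10), (29, 4), (30, 6), (31, 1), (32, 8), (33, 2), (34, 9), (35, 9), (36, 9), (37, 10), (38, 3), (39, 8), (41, 6), (42, 10), (43, 4), (44, 9), (45, 6), (46, 9), (47, 3), (48, 2), (50, 9), (51, 10), (52, 7), (53, 5), (54, 1), (55, 9), (56, 5), (58, 5), (59, 8), (60, 10), (62, 6), (63, 6), (64, 5), (65,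 7), (66, 3), (67, 6), (68, 6), (69, 2), (70, 4), (71, 5), (72, 5), (73, 7), (74, 6), (76, 6), (77, 6), (78, 3), (79, 8), (80, 1), (81, 10), (82, 6), (83, 10), (84, 7), (85, 8), (86, 7), (87, 4), (88, 3), (89, 9), (90, 2), (91, 9), (92, 9), (93, 2), (94, 4), (95, 5), (96, 9), (97, 7), (98, 7), (99, 7), (100, 2), (101, 3), (102, 2), (103, 4), (104, 5), (105, 8), (106, 3), (107, 4), (108, 6), (109, 1), (110, 2), (111, 8), (112, 1), (113, 4), (114, 5), (115, 6), (116, 2), (117, 5), (118, 4), (119, 2), (120, 9), (122, 1), (123, 1), (124, 3), (125, 2), (126, 5), (127, 6), (128, 2), (129, 7), (130, 5), (131, 5), (132, 1)],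
  [(0, 3), (1, 5), (2, 1), (3, 2), (4, 9), (5, 2), (6, 10), (7, 2), (9, 10), (10, 2), (12, 2), (13, 6), (14, 10), (15, 7), (16, 10), (17, 7), (19, 10), (20, 3), (21, 2), (22, 8), (24, 7), (25, 9), (26, 10), (27, 10), (28, 9), (29, 9), (30, 5), (31, 6), (32, 3), (33, 1), (34, 5), (37, 1), (38, 5), (39, 3), (40, 1), (41, 10), (42, 8), (43, 9), (45, 5), (46, 1), (47, 2), (48, 9), (49, 9), (50, 6), (51, 8), (52, 1), (54, 4), (56, 7), (57, 8), (58, 1), (59, 10), (60, 1), (61, 3), (62, 5), (63, 2), (64, 10), (66, 8), (67, 1), (68, 10), (69, 5), (70, 8), (71, 8), (72, 10), (73, 1), (74, 7), (75, 5), (76, 3), (77, 10), (78, 1), (79, 4), (80, 5), (82, 10), (83, 2), (85, 9), (86, 10), (87, 4), (88, 6), (89, 1), (90, 9), (91, 4), (92, 5), (94, 6), (95, 9), (96, 9), (97, 6), (98, 1), (99, 5), (100, 8), (101, 5), (102, 7), (103, 2), (104, 8), (105, 10), (106, 10), (107, 4), (108, 1), (109, 1), (110, 9), (112, 10), (113, 2),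 (114, 2), (115, 2), (116, 2), (117, 10), (118, 2), (119, 10), (120, 1), (121, 1), (122, 10), (124, 2), (126, 2), (127, 8), (130, 9), (131, 1)]]

/-- data -/
def d5_12 : SMat := [
  [(0, 10), (1, 9), (2, 9), (3, 6), (4, 3), (5, 3), (6, 8), (7, 9), (8, 2), (9, 6), (10, 4), (11, 8), (12, 2), (13, 8), (14, 1), (15, 6), (16, 5), (17, 7), (18, 9), (19, 8), (20, 2), (21, 7), (22, 8), (23, 6), (24, 7), (26, 5), (27, 4), (28, 2), (29, 3), (30, 5), (31, 5), (32, 2), (33, 9), (34, 10), (35, 1), (36, 8), (37, 9), (38, 2), (40, 1), (41, 2), (42, 4), (43, 4), (44, 6), (45, 7), (46, 10), (47, 3), (48, 2), (49, 7), (50, 7), (52, 2), (53, 6), (54, 3), (55, 9), (56, 8), (57, 10), (58, 4), (59, 7), (60, 8), (61, 3), (62, 6), (63, 10), (64, 7), (65, 10), (66, 6), (67, 3), (68, 7), (69, 4), (70, 8), (71, 6), (72, 9), (73, 8), (74, 8), (75, 6), (76, 6), (77, 4), (78, 1), (79, 1), (80, 6), (81, 10), (82, 10), (83, 4), (84, 7), (85,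 7), (86, 6), (87, 5), (88, 2), (89, 5), (90, 1), (91, 2), (92, 9), (93, 5), (94, 7), (95, 2), (96, 3), (97, 4), (99, 3), (100, 10), (101, 3), (102, 3), (103, 3), (104, 5), (105, 8), (106, 8), (107, 6), (109, 2), (110, 2), (111, 2), (112, 1), (113, 6), (114, 2), (115, 1), (116, 3), (117, 2), (118, 6), (119, 1), (120, 1), (121, 3), (122, 3), (123, 3), (125, 7), (126, 1), (128, 3), (131, 8)],
  [(0, 8), (1, 8), (4, 7), (6, 2), (7, 4), (9, 4), (10, 9), (11, 4), (12, 8), (13, 9), (14, 5), (15, 1), (16, 8), (17, 6), (18, 2), (19, 10), (20, 3), (21, 9), (22, 9), (23, 9), (24, 8), (25, 5), (26, 4), (27, 3), (28, 5), (29, 3), (30, 1), (31, 6), (32, 3), (33, 10), (34, 9), (35, 2), (36, 9), (37, 2), (39, 3), (40, 1), (41, 5), (42, 1), (43, 3), (44, 2), (45, 1), (46, 10), (47, 4), (48, 5), (49, 3), (50, 5), (51, 1), (52, 8), (53, 5), (54, 3), (55, 2), (56, 10), (57, 8), (58, 10), (59, 7), (60, 4), (61, 3), (62, 1), (63, 4),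 (64, 2), (65, 8), (66, 5), (67, 9), (68, 2), (69, 2), (70, 9), (71, 7), (72, 1), (73, 8), (74, 10), (75, 4), (76, 9), (77, 3), (78, 9), (79, 2), (80, 9), (81, 10), (82, 5), (83, 1), (84, 1), (85, 6), (86, 5), (87, 5), (88, 6), (89, 3), (90, 8), (91, 3), (92, 2), (93, 10), (94, 1), (95, 4), (96, 7), (97, 10), (98, 5), (99, 6), (100, 2), (102, 4), (103, 9), (105, 6), (106, 3), (107, 5), (108, 8), (110, 6), (111, 8), (113, 5), (114, 5), (115, 4), (116, 2), (117, 3), (118, 5), (119, 7), (120, 8), (124, 5), (126, 5), (127, 10), (130, 6), (131, 5), (132, 1)],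
  [(0, 1), (1, 3), (2, 4), (3, 8), (4, 2), (5, 3), (6, 10), (7, 8), (8, 6), (9, 7), (10, 4), (11, 9), (12, 5), (13, 10), (14, 4), (15, 10), (16, 1), (17, 2), (18, 5), (19, 6), (20, 1), (21, 9), (22, 4), (23, 7), (24, 9), (25, 2), (26, 8), (27, 2), (28, 8), (29, 5), (30, 9), (31, 4), (32, 2), (33, 2), (34, 3), (35, 2), (36, 4), (37, 8), (38, 1), (39, 6), (40, 2), (41, 7), (42, 6), (43, 7), (44, 4), (45, 10), (46, 5), (47, 9), (49, 3), (50, 2), (51, 2), (52, 10), (53, 10), (54, 7), (55, 6), (56, 3), (57, 5), (58, 4), (59, 9), (60, 2), (62, 10), (64, 9), (65, 9), (66, 1), (67, 2), (68, 8), (69, 9), (70, 4), (72, 10), (73, 4), (74, 1), (75, 9), (76, 9), (77, 8), (78, 10), (79, 4), (80, 2), (81, 9), (82, 1), (83, 1), (84, 9), (85, 10), (86, 2), (87, 5), (88, 3), (89, 9), (90, 4), (91, 7), (92, 2), (94, 6), (95, 9), (96, 6), (97, 7), (98, 7), (99, 4), (100, 1), (101, 3), (102, 8), (103, 2), (104, 1), (105, 4), (106,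 2), (107, 9), (108, 10), (109, 8), (110, 2), (111, 9), (113, 8), (114, 6), (115, 8), (116, 5), (117, 10), (118, 7), (119, 3), (120, 6), (121, 8), (122, 9), (123, 10), (124, 2), (126, 6), (127, 6), (128, 4), (129, 2), (130, 1), (131, 8), (132, 3)],
  [(0, 3), (1, 8), (2, 8), (3, 8), (4, 1), (5, 1), (6, 4), (7, 7), (8, 9), (9, 6), (10, 2), (11, 10), (12, 3), (13, 7), (14, 7), (16, 4), (17, 10), (18, 2), (19, 1), (20, 6), (21, 1), (22, 3), (23, 10), (24, 5), (25, 2), (26, 6), (27, 9), (28, 10), (29, 5), (30, 2), (31, 4), (32, 9), (33, 4), (34, 10), (35, 2), (36, 10), (37, 10), (38, 3), (39, 1), (40, 8), (41, 10), (42, 9), (43, 8), (44, 1), (45, 2), (46, 6), (48, 10), (49, 9), (50, 9), (51, 10), (52, 5), (53, 9), (54, 3), (55, 5), (56, 5), (57, 2), (58, 10), (60, 10), (61, 9), (62, 2), (63, 10), (64, 4), (65, 2), (66, 10), (67, 7), (68, 2), (69, 2), (70, 2), (71, 2), (72, 8), (73, 3), (74, 4), (75, 8), (76, 4), (77,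 8), (78, 3), (79, 9), (80, 8), (82, 7), (84, 5), (85, 4), (86, 3), (87, 9), (88, 9), (89, 10), (90, 7), (91, 2), (92, 6), (93, 5), (94, 10), (95, 5), (96, 4), (97, 5), (98, 9), (99, 9), (100, 6), (101, 8), (102, 2), (103, 8), (104, 6), (105, 7), (106, 4), (107, 2), (108, 1), (109, 7), (110, 9), (111, 6), (112, 6), (113, 3), (114, 10), (115, 8), (116, 9), (117, 10), (118, 3), (119, 8), (120, 7), (121, 1), (122, 7), (123, 6), (124, 3), (125, 6), (126, 3), (127, 1), (128, 4), (129, 10), (130, 4), (131, 2), (132, 9)],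
  [(0, 1), (1, 2), (2, 2), (3, 7), (4, 6), (5, 2), (6, 2), (7, 5), (8, 10), (10, 3), (11, 1), (12, 1), (13, 1), (14, 4), (15, 8), (16, 5), (17, 8), (18, 1), (19, 6), (20, 2), (21, 1), (22, 3), (23, 4), (24, 4), (25, 5), (26, 1), (27, 1), (28, 2), (29, 10), (30, 10), (31, 2), (32, 1), (33, 2), (34, 10), (35, 3), (36, 3), (37, 3), (38, 7), (39, 2), (40, 10), (41, 2), (42, 6), (43, 6), (44, 6), (45, 6), (46, 7), (47, 8), (48, 3), (49, 8), (50, 3), (51, 6), (52, 6), (55, 4), (57, 9), (58, 7), (59, 1), (60, 8), (61, 6), (62, 2), (63, 3), (64, 6), (65, 3), (66, 3), (67, 5), (68, 6), (69, 10), (70, 2), (71, 3), (72, 9), (73, 5), (75, 8), (76, 6), (86, 9), (87, 3), (88, 9), (92, 3), (98, 9), (100, 9), (101, 3), (102, 8), (105, 4), (106, 5), (107, 6), (109, 6), (110, 3), (111, 5), (112, 4), (113, 8), (114, 2), (115, 1), (116, 7), (117, 4), (118, 7), (119, 4), (120, 2), (121, 6), (122, 4), (123, 5), (124, 2), (125, 5),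 (126, 2), (127, 9), (130, 9), (131, 8), (132, 1)],
  [(0, 10), (1, 3), (2, 9), (3, 2), (4, 5), (5, 9), (6, 10), (7, 6), (8, 1), (10, 3), (11, 8), (12, 9), (13, 9), (15, 5), (16, 9), (18, 7), (19, 5), (20, 6), (21, 7), (22, 10), (23, 6), (24, 4), (25, 9), (27, 10), (28, 10), (29, 2), (30, 9), (31, 1), (32, 7), (33, 2), (34, 7), (35, 7), (36, 7), (37, 9), (38, 1), (39, 5), (40, 10), (41, 10), (42, 8), (43, 5), (44, 5), (45, 1), (46, 5), (47, 1), (48, 9), (49, 5), (50, 2), (51, 4), (52, 4), (53, 7), (54, 8), (55, 6), (57, 6), (58, 1), (59, 6), (60, 4), (61, 5), (62, 5), (63, 5), (64, 3), (65, 5), (66, 8), (67, 8), (68, 3), (69, 9), (70, 10), (71, 6), (72, 4), (73, 2), (75, 5), (76, 3), (77, 2), (79, 3), (80, 8), (81, 9), (82, 3), (83, 9), (84, 9), (85, 3), (86, 1), (87, 6), (88, 4), (89, 9), (90, 8), (91, 8), (92, 10), (93, 4), (94, 9), (95, 9), (96, 5), (97, 3), (98, 1), (99, 5), (100, 4), (103, 3), (104, 10), (105,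 5), (106, 5), (107, 3), (109, 6), (110, 8), (111, 6), (112, 6), (113, 6), (114, 9), (115, 8), (116, 6), (117, 6), (118, 6), (120, 1), (121, 6), (122, 6), (123, 6), (125, 6), (126, 1), (127, 2), (128, 7), (129, 10), (132, 2)],
  [(0, 4), (1, 9), (3, 10), (4, 2), (6, 6), (7, 9), (8, 10), (9, 5), (10, 3), (11, 6), (12, 4), (13, 6), (14, 1), (15, 3), (16, 7), (17, 10), (18, 1), (19, 8), (20, 2), (21, 1), (22, 6), (23, 7), (24, 7), (25, 1), (26, 10), (28, 1), (29, 6), (31, 4), (32, 3), (33, 8), (34, 2), (35, 1), (36, 6), (37, 5), (39, 8), (40, 10), (41, 1), (42, 1), (43, 8), (44, 4), (45, 2), (46, 10), (47, 9), (48, 1), (49, 7), (50, 10), (51, 9), (52, 4), (53, 7), (54, 2), (55, 6), (56, 9), (57, 3), (58, 9), (59, 8), (60, 9), (61, 8), (62, 9), (63, 8), (64, 4), (65, 3), (66, 1), (67, 7), (68, 4), (69, 1), (70, 6), (71, 1), (72, 5), (73, 7), (74, 9), (75, 1), (76, 4), (77, 10), (78, 8), (79, 8), (81, 9), (82, 3), (83,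 9), (84, 9), (85, 6), (86, 5), (87, 5), (88, 3), (89, 9), (90, 8), (91, 9), (92, 2), (93, 9), (94, 9), (95, 1), (96, 5), (97, 8), (100, 5), (101, 5), (102, 6), (103, 6), (104, 5), (106, 3), (107, 8), (108, 3), (109, 7), (110, 3), (111, 7), (112, 4), (114, 10), (115, 4), (116, 3), (117, 7), (119, 8), (120, 7), (121, 10), (122, 10), (123, 7), (124, 9), (125, 7), (126, 4), (127, 1), (128, 5), (129, 8), (130, 10), (131, 4), (132, 5)],
  [(0, 6), (1, 6), (2, 5), (3, 10), (4, 3), (5, 6), (6, 6), (7, 4), (8, 6), (9, 6), (10, 5), (11, 1), (12, 5), (13, 7), (14, 4), (16, 7), (17, 7), (18, 1), (19, 8), (20, 3), (21, 5), (22, 5), (23, 7), (24, 1), (25, 2), (26, 2), (30, 9), (31, 10), (32, 2), (33, 7), (34, 2), (35, 4), (36, 2), (37, 6), (39, 8), (40, 7), (41, 1), (42, 7), (43, 7), (44, 4), (45, 3), (46, 1), (47, 10), (48, 10), (49, 8), (50, 5), (51, 6), (52, 1), (54, 9), (55, 10), (56, 9), (57, 6), (58, 9), (60, 9), (61,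 4), (62, 3), (63, 8), (64, 9), (65, 3), (66, 9), (67, 2), (68, 9), (69, 9), (70, 6), (71, 2), (73, 3), (74, 9), (75, 5), (76, 9), (77, 3), (78, 8), (80, 3), (81, 8), (82, 9), (83, 8), (85, 8), (86, 8), (87, 8), (88, 7), (89, 3), (90, 10), (91, 9), (92, 5), (93, 8), (94, 3), (96, 8), (97, 3), (98, 5), (99, 4), (100, 9), (101, 6), (103, 5), (104, 3), (105, 5), (106, 6), (107, 10), (109, 5), (110, 9), (111, 6), (112, 6), (113, 6), (114, 9), (115, 1), (116, 5), (117, 4), (118, 7), (119, 6), (120, 9), (121, 4), (122, 4), (123, 9), (124, 2), (125, 4), (128, 2), (129, 1), (130, 10), (131, 4), (132, 1)]]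

/-- data -/
def d5_13 : SMat := [
  [(0, 9), (1, 5), (2, 8), (3, 9), (4, 4), (5, 4), (6, 4), (7, 1), (8, 5), (9, 2), (10, 9), (12, 3), (14, 7), (15, 3), (17, 2), (18, 8), (19, 8), (20, 9), (21, 1), (22, 8), (23, 10), (24, 9), (25, 10), (26, 5), (27, 9), (28, 10), (29, 9), (30, 2), (31, 5), (32, 10), (34, 3), (35, 6), (36, 3), (37, 2), (38, 3), (39, 2), (40, 1), (41, 6), (42, 6), (43, 6), (44, 1), (45, 10), (46, 7), (47, 7), (48, 9), (49, 9), (50, 6), (51, 10), (52, 9), (53, 2), (54, 1), (55, 4), (56, 6), (57, 5), (58, 10), (59, 8), (60, 8), (61, 5), (62, 9), (63, 3), (64, 4), (65, 6), (66, 10), (67, 7), (68, 5), (69, 2), (70, 6), (73, 2), (74, 7), (75, 8), (76, 4), (77, 8), (78, 2), (79, 6), (80, 3), (81, 6), (82, 3), (84, 6), (86, 6), (87, 3), (88, 6), (89, 6), (90, 5), (91, 3), (92, 6), (93, 9), (94, 1), (95, 6), (96, 8), (97, 3), (98, 6), (100, 5), (103, 1), (104, 10), (105, 3), (106, 2), (107, 9), (108, 3),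 (109, 5), (110, 2), (111, 5), (112, 6), (113, 8), (114, 8), (115, 3), (116, 3), (117, 5), (118, 5), (119, 7), (120, 8), (121, 3), (122, 4), (123, 9), (124, 5), (125, 5), (126, 2), (127, 2), (128, 2), (129, 5), (130, 7), (131, 3), (132, 2)],
  [(1, 9), (3, 3), (5, 3), (6, 8), (7, 1), (8, 1), (9, 3), (10, 3), (11, 10), (12, 6), (13, 3), (14, 7), (15, 9), (16, 9), (17, 9), (18, 6), (19, 6), (20, 7), (21, 8), (22, 10), (23, 4), (24, 9), (25, 7), (26, 7), (27, 8), (28, 2), (29, 7), (30, 10), (31, 4), (32, 5), (33, 7), (34, 8), (35, 1), (36, 7), (37, 3), (38, 8), (39, 8), (40, 4), (41, 7), (43, 1), (44, 3), (45, 2), (46, 9), (47, 9), (48, 10), (49, 8), (50, 3), (51, 5), (52, 5), (53, 10), (54, 8), (55, 2), (57, 3), (58, 9), (59, 6), (60, 4), (61, 1), (63, 2), (64, 5), (65, 9), (66, 4), (67, 6), (68, 7), (69, 10), (70, 2), (71, 3), (72, 1), (73, 6), (74, 2), (76, 5), (77, 6), (78, 8), (79, 3), (80, 2), (81, 2), (82,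 8), (83, 2), (84, 1), (85, 4), (86, 5), (87, 3), (88, 6), (90, 5), (91, 8), (92, 4), (93, 2), (95, 1), (96, 4), (98, 6), (99, 4), (100, 8), (102, 9), (104, 10), (105, 7), (106, 9), (107, 2), (108, 2), (109, 2), (110, 4), (111, 2), (112, 2), (113, 9), (114, 4), (115, 2), (116, 6), (117, 2), (118, 2), (119, 9), (120, 4), (121, 6), (122, 2), (123, 2), (125, 9), (127, 7), (128, 7), (130, 4), (131, 4), (132, 7)],
  [(0, 10), (1, 8), (2, 1), (3, 2), (4, 6), (5, 1), (6, 6), (7, 6), (8, 3), (9, 5), (10, 3), (11, 6), (12, 8), (13, 2), (15, 5), (16, 3), (17, 5), (18, 8), (19, 1), (20, 2), (21, 8), (22, 7), (23, 9), (24, 10), (25, 8), (26, 5), (27, 2), (28, 10), (29, 6), (30, 8), (31, 10), (33, 9), (34, 1), (35, 8), (36, 1), (37, 8), (39, 9), (40, 4), (42, 6), (44, 2), (45, 3), (46, 6), (47, 3), (48, 10), (50, 2), (51, 5), (52, 10), (53, 9), (54, 3), (55, 7), (56, 8), (58, 6), (59, 6), (60, 5), (62, 3), (63, 8), (64, 1),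 (65, 2), (66, 9), (67, 10), (68, 1), (69, 7), (70, 4), (71, 8), (72, 7), (73, 3), (74, 8), (75, 8), (76, 9), (77, 8), (78, 1), (80, 3), (81, 10), (83, 10), (84, 6), (85, 3), (86, 7), (87, 7), (88, 6), (89, 3), (90, 3), (91, 8), (92, 7), (93, 10), (94, 7), (95, 4), (96, 4), (97, 4), (98, 10), (99, 9), (100, 5), (101, 8), (102, 8), (103, 6), (104, 8), (105, 4), (106, 2), (109, 7), (110, 4), (111, 2), (112, 1), (113, 9), (114, 3), (115, 7), (116, 7), (118, 9), (119, 4), (120, 7), (121, 7), (122, 7), (125, 9), (126, 7), (127, 8), (128, 2), (129, 4), (130, 4), (131, 9)],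
  [(0, 2), (1, 8), (2, 8), (3, 9), (4, 5), (5, 6), (6, 1), (7, 4), (9, 4), (10, 6), (11, 10), (12, 4), (13, 4), (14, 4), (15, 2), (16, 1), (19, 1), (20, 3), (21, 7), (22, 2), (23, 9), (25, 5), (26, 4), (27, 4), (28, 6), (29, 7), (30, 3), (31, 3), (32, 2), (33, 9), (34, 7), (36, 9), (37, 8), (38, 9), (39, 1), (40, 8), (41, 4), (42, 9), (43, 4), (44, 2), (45, 6), (46, 7), (47, 5), (48, 7), (49, 5), (50, 1), (51, 7), (52, 9), (53, 9), (55, 10), (57, 8), (58, 9), (60, 7), (61, 3), (62, 6), (63, 5), (64, 5), (65, 2), (66, 9), (67, 6), (68, 5), (69, 8), (70, 10), (72, 5), (73, 7), (75, 9), (76, 3), (77, 3), (78, 1), (79, 9), (80, 10), (81, 9), (82, 2), (83, 10), (84, 1), (85, 8), (86, 6), (87, 8), (88, 7), (90, 8), (91, 4), (92, 7), (93, 9), (94, 10), (95, 3), (96, 10), (98, 7), (99, 5), (100, 3), (101, 2), (103, 9), (104, 3), (105, 6), (106, 4), (107, 1), (108, 7), (109, 4), (110, 8), (112, 2), (113, 3), (114, 3),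 (115, 3), (116, 3), (117, 4), (118, 3), (119, 1), (120, 7), (121, 4), (122, 2), (124, 3), (126, 3), (127, 1), (130, 8), (131, 7)],
  [(0, 8), (1, 4), (2, 1), (3, 7), (7, 9), (8, 3), (9, 5), (10, 4), (11, 3), (12, 8), (13, 1), (14, 9), (15, 7), (17, 7), (18, 3), (19, 4), (20, 6), (21, 1), (24, 4), (25, 6), (26, 3), (27, 2), (28, 7), (29, 3), (30, 6), (31, 5), (32, 7), (33, 10), (35, 6), (37, 6), (38, 9), (39, 6), (40, 1), (41, 6), (42, 6), (43, 7), (45, 10), (46, 8), (47, 1), (48, 5), (49, 6), (50, 7), (51, 10), (52, 4), (53, 9), (54, 9), (55, 3), (56, 7), (57, 4), (58, 7), (59, 4), (60, 2), (61, 4), (62, 7), (63, 10), (64, 10), (65, 5), (66, 5), (67, 1), (68, 2), (69, 6), (70, 3), (72, 10), (73, 4), (74, 10), (75, 9), (76, 10), (77, 9), (78, 6), (79, 6), (80, 10), (81, 6), (82, 7), (83, 3), (84, 6), (85, 3), (86, 9), (87, 10), (88, 1), (89, 6), (91, 7), (92, 9), (93, 5), (94, 9), (95, 6), (96, 7), (97, 7), (98,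 9), (99, 5), (100, 2), (103, 1), (104, 1), (105, 3), (106, 7), (107, 4), (108, 5), (109, 2), (110, 7), (111, 2), (112, 9), (113, 8), (114, 1), (115, 6), (116, 10), (117, 2), (118, 2), (119, 5), (120, 1), (121, 10), (122, 6), (123, 4), (124, 9), (125, 2), (126, 10), (127, 3), (128, 3), (129, 9), (130, 9), (131, 6), (132, 3)],
  [(1, 10), (3, 7), (4, 10), (6, 1), (7, 10), (8, 3), (9, 8), (10, 7), (11, 3), (12, 9), (13, 3), (14, 6), (15, 7), (16, 9), (17, 5), (18, 6), (19, 4), (20, 1), (21, 4), (22, 3), (23, 9), (24, 5), (25, 4), (26, 3), (28, 6), (29, 5), (32, 9), (34, 3), (35, 6), (36, 1), (37, 4), (39, 4), (40, 3), (41, 6), (42, 6), (43, 4), (44, 2), (45, 10), (46, 5), (47, 10), (48, 6), (49, 7), (50, 3), (51, 10), (52, 4), (53, 9), (54, 1), (55, 1), (56, 8), (57, 7), (58, 8), (59, 4), (60, 10), (62, 10), (63, 2), (64, 2), (65, 7), (66, 6), (67, 9), (68, 2), (69, 6), (70, 3), (71, 4), (72, 10), (73, 5), (74, 8),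 (75, 7), (78, 1), (79, 3), (80, 1), (81, 5), (82, 8), (83, 5), (84, 5), (85, 4), (86, 6), (87, 5), (89, 5), (90, 3), (91, 4), (92, 1), (93, 6), (94, 5), (95, 10), (96, 5), (97, 2), (98, 2), (99, 9), (100, 3), (101, 4), (102, 6), (103, 8), (104, 4), (105, 2), (108, 8), (109, 10), (111, 10), (112, 1), (113, 9), (114, 6), (115, 10), (116, 7), (117, 10), (118, 9), (119, 4), (120, 9), (121, 8), (122, 8), (123, 10), (124, 3), (125, 10), (126, 10), (127, 6), (128, 4), (129, 2), (130, 10), (131, 10), (132, 4)],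
  [(0, 5), (2, 7), (3, 3), (4, 2), (5, 5), (6, 3), (7, 10), (8, 4), (9, 4), (10, 6), (11, 9), (12, 7), (13, 1), (14, 10), (16, 1), (17, 1), (18, 8), (19, 9), (20, 2), (21, 7), (22, 1), (23, 2), (24, 6), (25, 5), (26, 5), (28, 10), (29, 10), (30, 4), (31, 4), (32, 4), (34, 5), (35, 10), (36, 6), (37, 4), (39, 8), (40, 10), (41, 8), (43, 1), (44, 9), (45, 3), (46, 7), (47, 4), (48, 3), (49, 10), (50, 6), (51, 4), (52, 8), (53, 10), (54, 6), (55, 4), (56, 6), (57, 2), (58, 6), (59, 9), (60, 6), (61, 10), (62, 3), (63, 8), (64, 5), (65, 1), (66, 5), (67, 6), (68, 5), (69, 4), (70, 3), (71, 5), (73, 2), (74, 6), (75, 6), (76, 5), (77, 6), (78, 4), (79, 6), (80, 7), (81, 10), (82, 3), (83, 10), (85, 5), (86, 5), (87, 5), (88, 4), (89, 1), (90, 7), (91, 3), (92, 9), (93, 10), (94, 1), (96, 5), (97, 1), (98, 4), (99, 5), (100, 9), (101, 8), (102, 5), (103, 9), (104, 1), (105, 10), (106, 2), (109, 9), (110, 7), (111, 2),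 (112, 2), (113, 2), (114, 3), (115, 4), (116, 9), (117, 5), (118, 6), (119, 2), (120, 3), (121, 5), (122, 5), (123, 7), (124, 8), (125, 5), (128, 8), (129, 4), (130, 7), (131, 9), (132, 4)],
  [(0, 6), (1, 6), (2, 5), (3, 3), (4, 6), (6, 3), (7, 5), (8, 7), (9, 6), (10, 4), (11, 3), (12, 6), (13, 7), (15, 4), (17, 3), (18, 8), (20, 3), (21, 7), (22, 5), (23, 1), (24, 9), (25, 6), (26, 6), (29, 10), (30, 2), (31, 4), (34, 2), (36, 4), (37, 6), (38, 8), (39, 8), (40, 8), (41, 9), (42, 10), (43, 8), (44, 10), (46, 4), (47, 7), (48, 6), (49, 10), (50, 9), (52, 7), (53, 9), (54, 8), (55, 7), (56, 9), (57, 3), (58, 6), (59, 5), (61, 8), (63, 5), (64, 5), (66, 5), (67, 6), (68, 9), (69, 2), (70, 5), (71, 9), (72, 4), (73, 7), (74, 6), (75, 9), (76, 5), (77, 4), (78, 5), (79, 7), (80, 1), (81, 6), (82, 3), (83, 5), (84, 5), (85, 8), (86, 3), (87, 2), (88, 7), (89, 4), (90, 7), (91, 6), (92, 1), (93, 5), (94, 5), (95,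 5), (96, 2), (97, 5), (98, 2), (99, 7), (102, 9), (103, 1), (104, 10), (105, 7), (106, 5), (107, 6), (108, 5), (109, 10), (110, 5), (111, 10), (112, 1), (113, 4), (114, 10), (115, 7), (116, 2), (117, 10), (118, 4), (119, 3), (120, 3), (121, 6), (122, 1), (123, 8), (124, 7), (125, 1), (126, 1), (127, 8), (128, 4), (129, 9), (130, 2), (131, 7), (132, 2)]]

/-- data -/
def d5_14 : SMat := [
  [(0, 5), (1, 8), (2, 9), (3, 2), (4, 8), (5, 10), (6, 3), (7, 7), (8, 9), (9, 9), (10, 4), (11, 7), (12, 9), (13, 9), (14, 4), (15, 8), (16, 8), (17, 6), (18, 1), (19, 10), (20, 8), (21, 6), (22, 6), (23, 9), (24, 7), (25, 6), (26, 5), (27, 10), (29, 10), (30, 3), (31, 10), (32, 10), (33, 2), (35, 5), (37, 10), (38, 1), (39, 10), (40, 4), (41, 1), (42, 4), (43, 9), (44, 6), (45, 6), (46, 4), (47, 9), (48, 3), (49, 3), (51, 8), (52, 5), (53, 1), (54, 7), (55, 7), (56, 1), (57, 9), (58, 4), (59, 10), (60, 8), (61, 9), (62, 3),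 (63, 1), (64, 4), (65, 9), (66, 2), (67, 3), (70, 10), (71, 10), (72, 9), (74, 4), (75, 4), (77, 3), (78, 1), (79, 9), (81, 9), (82, 3), (83, 7), (84, 10), (85, 7), (86, 2), (87, 8), (88, 7), (89, 4), (90, 6), (91, 1), (93, 1), (94, 2), (95, 1), (96, 5), (97, 3), (98, 7), (99, 6), (100, 1), (101, 1), (102, 1), (103, 9), (105, 6), (106, 3), (107, 8), (108, 8), (109, 6), (110, 3), (111, 4), (113, 1), (114, 9), (115, 8), (116, 9), (117, 4), (118, 3), (119, 10), (120, 5), (121, 1), (122, 8), (123, 4), (124, 4), (126, 3), (127, 9), (128, 6), (129, 3), (130, 7), (131, 1), (132, 3)],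
  [(0, 4), (1, 1), (2, 7), (3, 1), (4, 5), (5, 4), (6, 3), (8, 7), (9, 7), (10, 7), (11, 4), (12, 4), (13, 2), (14, 10), (15, 2), (16, 10), (17, 1), (18, 8), (19, 7), (20, 3), (21, 10), (22, 4), (23, 7), (24, 2), (25, 8), (26, 4), (27, 2), (28, 2), (29, 3), (30, 4), (32, 6), (33, 4), (34, 4), (35, 8), (36, 3), (37, 3), (39, 9), (40, 9), (41, 10), (42, 2), (43, 9), (44, 4), (45, 10), (46, 8), (47, 1), (48, 3), (49, 6), (50, 7), (51, 2), (52, 9), (53, 10), (54, 10), (56, 5), (57, 2), (58, 5), (59, 10), (60, 4), (61, 7), (62, 10), (63, 6), (64, 8), (65, 5), (66, 6), (67, 3), (68, 8), (69, 4), (70, 9), (71, 7), (72, 3), (73, 1), (74, 5), (75, 9), (76, 8), (77, 2), (78, 2), (79, 5), (80, 1), (81, 8), (82, 7), (83, 3), (84, 7), (85, 9), (86, 3), (87, 1), (88, 5), (89, 8), (91, 10), (92, 2), (93, 9), (94, 8), (95, 8), (96, 7), (97, 8), (98, 2), (99, 2), (100, 10), (102, 10), (103, 1), (104, 10), (105, 10), (106, 6),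 (107, 10), (108, 2), (109, 3), (110, 1), (111, 1), (112, 1), (113, 1), (114, 6), (116, 5), (117, 5), (119, 1), (120, 4), (121, 5), (122, 5), (123, 3), (124, 9), (125, 3), (126, 2), (128, 7), (129, 9), (131, 2), (132, 9)],
  [(0, 3), (1, 5), (3, 4), (4, 10), (5, 1), (6, 7), (7, 2), (9, 9), (10, 1), (11, 1), (12, 2), (13, 4), (14, 3), (15, 3), (16, 7), (17, 7), (18, 4), (19, 1), (20, 8), (21, 7), (22, 3), (23, 6), (24, 2), (25, 5), (26, 1), (27, 9), (28, 3), (29, 9), (30, 2), (32, 6), (33, 7), (34, 4), (35, 4), (36, 6), (37, 5), (38, 9), (39, 9), (41, 5), (42, 2), (44, 5), (45, 2), (46, 4), (47, 4), (48, 6), (50, 6), (51, 4), (53, 6), (54, 6), (55, 7), (56, 9), (57, 3), (58, 7), (59, 10), (60, 8), (62, 5), (63, 2), (64, 5), (66, 5), (67, 6), (68, 5), (69, 2), (70, 1), (71, 9), (72, 5), (73, 5), (74, 9), (75, 1), (76, 5), (78, 4), (79, 10), (80, 4), (81, 7), (82, 4), (83, 6), (84, 6), (85, 8), (86, 3), (87, 2), (88,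 9), (89, 5), (90, 8), (91, 3), (92, 3), (93, 7), (94, 6), (95, 6), (96, 2), (97, 5), (98, 3), (99, 7), (100, 6), (101, 10), (102, 10), (103, 2), (104, 10), (106, 9), (108, 7), (109, 3), (110, 1), (111, 8), (112, 7), (113, 6), (114, 8), (115, 2), (116, 7), (117, 8), (118, 1), (119, 4), (120, 3), (121, 10), (122, 4), (123, 3), (124, 7), (125, 3), (126, 2), (128, 5), (129, 3), (130, 5), (131, 5), (132, 3)],
  [(0, 9), (1, 4), (2, 3), (3, 10), (4, 8), (7, 4), (8, 2), (9, 3), (10, 2), (11, 9), (13, 4), (14, 9), (15, 4), (16, 3), (17, 7), (18, 4), (19, 4), (20, 7), (22, 8), (23, 8), (24, 4), (25, 6), (26, 2), (27, 2), (28, 6), (29, 2), (30, 6), (31, 5), (32, 7), (33, 7), (35, 6), (36, 3), (37, 6), (38, 9), (39, 6), (40, 1), (41, 5), (42, 6), (43, 7), (44, 7), (45, 2), (46, 8), (47, 4), (48, 2), (49, 7), (50, 7), (51, 2), (52, 4), (53, 1), (54, 9), (55, 3), (56, 7), (57, 4), (58, 5), (59, 7), (60, 2), (61, 7), (62, 10),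 (63, 10), (64, 7), (65, 4), (66, 5), (67, 4), (68, 10), (69, 6), (71, 9), (72, 7), (73, 4), (74, 10), (75, 4), (76, 7), (77, 9), (78, 5), (79, 6), (80, 7), (81, 6), (82, 4), (83, 9), (84, 9), (85, 6), (86, 4), (87, 5), (88, 10), (89, 1), (90, 3), (91, 5), (92, 4), (93, 6), (94, 9), (95, 9), (96, 5), (97, 1), (98, 1), (99, 2), (100, 7), (101, 3), (102, 3), (103, 7), (104, 4), (105, 7), (106, 9), (108, 4), (109, 4), (110, 2), (112, 4), (114, 4), (115, 10), (116, 4), (117, 8), (118, 7), (120, 4), (121, 8), (122, 4), (123, 4), (124, 5), (126, 4), (128, 3), (129, 9), (131, 4), (132, 7)],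
  [(0, 9), (1, 1), (2, 10), (4, 8), (5, 9), (6, 5), (7, 6), (10, 4), (11, 2), (13, 5), (14, 3), (16, 3), (17, 6), (18, 4), (19, 8), (20, 8), (21, 8), (22, 2), (23, 3), (24, 3), (25, 3), (26, 10), (28, 5), (29, 1), (30, 5), (31, 1), (33, 7), (34, 6), (35, 2), (36, 3), (37, 5), (38, 2), (41, 5), (42, 5), (44, 8), (45, 3), (46, 7), (47, 1), (48, 4), (49, 6), (50, 7), (51, 1), (52, 3), (53, 6), (54, 10), (55, 2), (56, 5), (57, 2), (58, 5), (60, 4), (61, 8), (62, 3), (63, 3), (64, 6), (65, 5), (66, 4), (67, 5), (68, 6), (69, 6), (70, 5), (71, 7), (72, 5), (73, 10), (74, 5), (75, 1), (76, 9), (77, 3), (79, 8), (80, 2), (81, 1), (82, 6), (83, 9), (84, 2), (85, 7), (86, 8), (87, 9), (88, 7), (89, 2), (90, 5), (91, 4), (92, 9), (93, 1), (94, 1), (95, 4), (96, 7), (97, 1), (98, 9), (99, 6), (100, 1), (101, 1), (102, 1), (103, 10), (104, 1), (105, 10), (106, 3), (107, 6), (108, 8), (109, 4), (110, 3), (113, 1), (114, 5),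 (115, 8), (116, 3), (117, 9), (118, 8), (119, 3), (120, 1), (121, 8), (122, 3), (123, 4), (124, 8), (125, 4), (126, 1), (127, 6), (128, 5), (130, 3), (131, 8), (132, 7)],
  [(0, 10), (1, 4), (2, 10), (3, 10), (4, 1), (6, 3), (7, 2), (9, 5), (10, 4), (11, 7), (12, 9), (13, 5), (14, 6), (15, 6), (16, 3), (17, 9), (18, 6), (19, 8), (20, 8), (22, 9), (24, 1), (25, 7), (26, 1), (27, 1), (28, 5), (29, 3), (30, 4), (31, 3), (32, 7), (33, 10), (34, 1), (35, 5), (36, 3), (37, 4), (38, 10), (39, 8), (40, 10), (41, 6), (42, 6), (43, 5), (45, 9), (46, 7), (47, 1), (48, 7), (49, 6), (50, 7), (52, 3), (54, 10), (55, 4), (56, 9), (57, 3), (58, 6), (59, 7), (61, 8), (62, 9), (64, 9), (65, 2), (66, 6), (67, 2), (68, 2), (69, 4), (70, 9), (71, 2), (72, 10), (73, 3), (74, 6), (75, 7), (76, 9), (77, 4), (78, 5), (79, 7), (80, 1), (81, 5), (82, 7), (83, 6), (84, 5), (85, 7), (86, 1), (87, 2), (88, 7), (89, 5), (90, 7), (91, 4), (92,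 1), (93, 6), (94, 4), (95, 5), (96, 2), (97, 4), (98, 3), (99, 8), (101, 1), (102, 10), (103, 1), (105, 1), (106, 10), (107, 1), (108, 2), (109, 8), (110, 10), (111, 6), (112, 8), (113, 3), (114, 4), (116, 8), (117, 10), (118, 10), (119, 8), (120, 9), (121, 8), (122, 1), (123, 10), (124, 7), (125, 3), (126, 9), (128, 4), (129, 2), (130, 9)],
  [(0, 2), (1, 8), (2, 8), (3, 7), (4, 7), (6, 5), (7, 6), (8, 9), (9, 9), (10, 6), (11, 1), (12, 2), (13, 2), (14, 5), (15, 10), (16, 1), (17, 8), (19, 7), (20, 8), (21, 6), (22, 10), (23, 8), (24, 4), (25, 8), (26, 9), (27, 2), (28, 3), (29, 4), (31, 7), (32, 8), (33, 2), (34, 7), (35, 2), (36, 4), (37, 5), (39, 1), (40, 10), (41, 1), (42, 2), (43, 1), (44, 3), (45, 8), (46, 7), (47, 7), (48, 8), (50, 5), (51, 4), (52, 7), (53, 9), (54, 3), (55, 4), (56, 4), (57, 10), (58, 4), (59, 1), (61, 1), (62, 6), (63, 4), (64, 8), (65, 3), (67, 3), (68, 10), (69, 6), (70, 10), (71,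 3), (72, 1), (73, 9), (74, 6), (75, 6), (76, 8), (77, 6), (78, 5), (79, 2), (80, 4), (81, 1), (82, 5), (83, 2), (84, 9), (85, 10), (86, 3), (87, 8), (88, 5), (89, 4), (90, 6), (91, 9), (92, 10), (93, 8), (94, 8), (95, 2), (96, 2), (97, 9), (98, 8), (99, 4), (100, 1), (101, 1), (102, 3), (103, 3), (104, 5), (106, 2), (107, 2), (109, 9), (110, 5), (111, 9), (112, 9), (113, 2), (116, 2), (117, 9), (118, 4), (119, 9), (120, 2), (121, 9), (122, 9), (123, 7), (124, 4), (125, 8), (126, 2), (127, 7), (130, 9), (132, 2)],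
  [(0, 4), (1, 2), (3, 7), (4, 10), (5, 9), (6, 1), (7, 1), (8, 3), (9, 3), (10, 4), (11, 9), (12, 7), (14, 6), (15, 8), (16, 1), (17, 6), (18, 1), (19, 2), (20, 9), (21, 6), (22, 3), (23, 7), (24, 2), (25, 6), (26, 8), (27, 5), (28, 6), (29, 5), (30, 8), (31, 1), (32, 9), (35, 4), (36, 10), (37, 2), (38, 1), (39, 9), (40, 9), (41, 6), (42, 5), (43, 4), (44, 4), (45, 5), (46, 7), (47, 8), (48, 6), (49, 5), (50, 3), (51, 5), (52, 6), (53, 7), (54, 9), (55, 2), (56, 6), (58, 10), (59, 10), (60, 1), (61, 4), (62, 5), (63, 1), (64, 4), (65, 6), (67, 7), (68, 4), (69, 8), (70, 3), (71, 2), (72, 4), (73, 3), (74, 6), (75, 1), (76, 2), (77, 10), (78, 9), (79, 1), (80, 10), (81, 2), (82, 1), (83, 9), (84, 9), (85, 5), (86, 6), (87, 7), (88, 5), (89, 5), (90, 6), (91, 2), (92, 7), (93, 1), (94, 9), (95, 9), (96, 8), (97, 2), (98, 7), (100, 1), (101, 7), (102, 7), (103, 10), (104, 1), (105, 6), (106, 5), (107, 7), (108,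 8), (110, 5), (111, 9), (112, 1), (113, 4), (114, 4), (115, 2), (116, 4), (117, 4), (118, 4), (119, 5), (120, 7), (122, 5), (125, 2), (126, 2), (127, 8), (129, 7), (130, 6), (131, 6), (132, 9)]]

/-- data -/
def d5_15 : SMat := [
  [(0, 9), (1, 9), (2, 3), (3, 2), (4, 4), (5, 3), (6, 1), (7, 6), (8, 3), (9, 8), (10, 7), (11, 10), (12, 6), (13, 4), (15, 6), (16, 1), (17, 4), (18, 7), (19, 7), (21, 8), (22, 8), (24, 9), (25, 9), (26, 5), (27, 5), (29, 5), (30, 1), (31, 1), (32, 2), (33, 6), (34, 1), (35, 10), (36, 3), (37, 6), (39, 7), (40, 3), (41, 9), (42, 8), (43, 8), (45, 5), (46, 6), (47, 8), (48, 5), (50, 2), (51, 4), (52, 1), (54, 5), (55, 5), (56, 5), (58, 7), (59, 3), (60, 8), (61, 8), (62, 1), (63, 4), (64, 1), (66, 8), (67, 6), (68, 1), (69, 9), (70, 8), (71, 5), (73, 4), (74, 5), (75, 5), (76, 8), (77, 2), (78, 3), (79, 8), (80, 3), (81, 7), (82, 3), (83, 2), (84, 5), (85, 9), (86, 6), (87, 2), (89,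 7), (90, 7), (91, 2), (92, 5), (93, 9), (94, 8), (95, 7), (97, 7), (98, 5), (99, 5), (100, 7), (101, 9), (102, 9), (103, 3), (104, 8), (105, 8), (106, 8), (107, 1), (109, 10), (110, 6), (111, 3), (112, 10), (113, 5), (115, 2), (116, 3), (117, 6), (118, 7), (119, 10), (120, 2), (121, 10), (122, 10), (123, 10), (124, 8), (125, 10), (126, 4), (127, 3), (128, 7), (129, 9), (130, 7), (132, 4)],
  [(0, 3), (1, 10), (2, 7), (4, 3), (5, 6), (6, 4), (7, 3), (8, 10), (9, 2), (10, 9), (11, 3), (12, 2), (13, 4), (14, 5), (15, 2), (16, 2), (17, 9), (18, 2), (19, 4), (20, 5), (21, 7), (22, 10), (23, 9), (24, 9), (25, 4), (26, 2), (27, 3), (28, 8), (29, 9), (31, 3), (32, 2), (33, 8), (34, 8), (35, 10), (36, 8), (37, 7), (38, 2), (39, 1), (41, 5), (42, 8), (43, 4), (44, 2), (45, 6), (46, 9), (47, 8), (48, 9), (49, 6), (51, 10), (52, 9), (53, 9), (54, 1), (57, 5), (58, 10), (59, 1), (60, 7), (61, 6), (62, 6), (63, 8), (64, 6),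 (66, 7), (67, 5), (68, 6), (69, 6), (70, 5), (71, 7), (72, 4), (73, 5), (75, 10), (76, 4), (77, 9), (78, 2), (79, 3), (80, 8), (81, 5), (82, 5), (83, 6), (84, 2), (85, 6), (87, 1), (88, 6), (89, 8), (90, 6), (91, 9), (92, 7), (93, 5), (94, 1), (95, 6), (96, 1), (97, 5), (99, 7), (100, 1), (101, 1), (102, 3), (103, 8), (105, 4), (106, 8), (107, 7), (108, 4), (109, 1), (110, 10), (111, 3), (112, 1), (113, 5), (114, 8), (115, 6), (116, 7), (117, 10), (118, 5), (119, 6), (120, 4), (121, 3), (122, 1), (123, 1), (124, 4), (125, 10), (126, 6), (127, 3), (128, 7), (129, 2), (130, 10), (131, 4), (132, 9)],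
  [(0, 1), (1, 4), (2, 6), (3, 5), (4, 10), (5, 8), (6, 3), (7, 2), (8, 4), (9, 7), (10, 6), (12, 7), (14, 10), (15, 10), (16, 2), (17, 1), (18, 3), (19, 2), (20, 6), (21, 4), (22, 3), (23, 6), (24, 5), (25, 10), (26, 4), (27, 7), (28, 10), (29, 10), (30, 7), (31, 9), (33, 8), (34, 10), (35, 3), (36, 7), (37, 3), (38, 3), (39, 6), (40, 1), (41, 9), (42, 9), (43, 9), (44, 5), (45, 6), (46, 1), (47, 5), (48, 6), (49, 5), (50, 7), (51, 8), (52, 8), (53, 3), (55, 10), (56, 5), (57, 2), (58, 8), (59, 10), (60, 4), (61, 2), (62, 3), (64, 8), (65, 9), (66, 10), (67, 10), (68, 4), (69, 4), (70, 7), (72, 2), (73, 4), (74, 8), (75, 4), (76, 4), (77, 10), (78, 8), (79, 10), (80, 1), (81, 4), (83, 10), (84, 1), (85, 1), (86, 4), (87, 1), (88, 2), (89, 2), (90, 8), (92, 4), (93, 5), (94, 3), (95, 3), (96, 8), (97, 3), (98, 4), (100, 8), (101, 10), (102, 10), (103, 2), (104, 9), (105, 1), (106, 7), (107, 10), (108, 6), (110,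 1), (111, 2), (113, 10), (114, 1), (115, 3), (116, 1), (117, 5), (118, 8), (119, 8), (120, 8), (121, 2), (122, 7), (123, 2), (124, 1), (125, 9), (126, 3), (127, 6), (129, 4), (130, 3), (131, 8), (132, 7)],
  [(0, 6), (1, 3), (2, 6), (3, 7), (4, 3), (5, 3), (6, 6), (7, 10), (8, 7), (9, 3), (10, 3), (12, 7), (13, 10), (14, 9), (15, 8), (16, 5), (17, 1), (18, 2), (19, 9), (20, 2), (21, 5), (22, 2), (23, 5), (24, 7), (25, 3), (26, 3), (27, 2), (28, 9), (29, 7), (30, 2), (31, 4), (32, 2), (33, 10), (34, 9), (35, 9), (36, 3), (37, 5), (38, 1), (39, 1), (40, 7), (41, 8), (43, 9), (44, 6), (45, 5), (46, 8), (47, 6), (48, 3), (49, 10), (50, 9), (51, 7), (52, 9), (53, 3), (54, 5), (55, 8), (56, 5), (57, 10), (58, 7), (59, 1), (60, 7), (61, 1), (62, 5), (63, 8), (64, 3), (66, 3), (67, 8), (68, 5), (69, 8), (70, 9), (71, 4), (72, 10), (73, 3), (74, 7), (75, 4), (76, 5), (77, 2), (78, 2), (79, 8), (80, 8), (81, 2), (82, 1),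 (83, 1), (85, 8), (86, 10), (87, 8), (88, 10), (89, 2), (91, 10), (92, 2), (93, 2), (94, 3), (95, 9), (96, 6), (97, 2), (98, 8), (99, 9), (100, 8), (101, 6), (102, 5), (103, 9), (104, 9), (105, 7), (106, 9), (107, 6), (108, 4), (109, 5), (110, 1), (111, 9), (112, 9), (113, 6), (114, 4), (115, 8), (116, 6), (117, 1), (118, 10), (119, 5), (120, 2), (121, 5), (122, 1), (123, 7), (124, 5), (125, 5), (126, 8), (127, 3), (128, 4), (129, 4), (130, 3), (132, 6)],
  [(0, 3), (2, 6), (3, 10), (4, 8), (5, 7), (6, 7), (7, 1), (8, 7), (10, 9), (11, 3), (12, 2), (13, 1), (14, 1), (15, 3), (16, 4), (17, 2), (18, 5), (19, 8), (20, 4), (21, 4), (22, 8), (23, 2), (24, 1), (25, 4), (26, 3), (27, 4), (28, 6), (29, 6), (30, 7), (31, 5), (32, 2), (33, 8), (34, 6), (35, 9), (36, 9), (37, 10), (39, 6), (40, 8), (41, 6), (42, 9), (43, 6), (44, 5), (45, 5), (46, 10), (48, 10), (49, 3), (50, 1), (51, 5), (52, 7), (53, 10), (55, 1), (56,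 1), (57, 6), (58, 1), (59, 2), (60, 5), (61, 8), (62, 8), (63, 8), (64, 7), (65, 8), (66, 9), (67, 4), (68, 7), (69, 7), (70, 6), (72, 3), (73, 8), (74, 1), (75, 2), (76, 7), (77, 5), (78, 3), (79, 6), (81, 5), (82, 4), (83, 6), (84, 5), (85, 9), (88, 6), (89, 5), (90, 7), (91, 5), (92, 1), (93, 5), (94, 4), (95, 5), (96, 4), (97, 5), (98, 1), (99, 10), (100, 8), (105, 3), (106, 3), (107, 8), (108, 6), (109, 7), (110, 2), (111, 2), (112, 2), (113, 6), (114, 1), (115, 8), (116, 6), (119, 5), (120, 4), (121, 6), (122, 6), (123, 8), (125, 10), (126, 6), (127, 5), (128, 5), (129, 2), (130, 4), (131, 6), (132, 5)],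
  [(0, 9), (1, 5), (2, 3), (3, 10), (4, 7), (5, 8), (6, 5), (7, 2), (8, 7), (9, 4), (10, 7), (11, 6), (12, 4), (13, 3), (14, 1), (15, 10), (16, 7), (17, 5), (18, 2), (19, 3), (20, 1), (21, 5), (22, 7), (24, 3), (25, 4), (26, 6), (27, 8), (28, 1), (29, 1), (30, 1), (31, 8), (32, 10), (33, 10), (34, 7), (35, 5), (36, 9), (37, 2), (40, 1), (46, 3), (47, 9), (48, 7), (49, 3), (50, 2), (51, 8), (52, 3), (53, 2), (54, 6), (55, 6), (56, 5), (58, 5), (59, 4), (60, 8), (61, 3), (63, 6), (64, 6), (65, 10), (66, 7), (67, 5), (68, 4), (69, 7), (70, 7), (71, 5), (72, 10), (73, 6), (74, 3), (75, 1), (76, 4), (77, 2), (78, 6), (79, 10), (80, 4), (81, 4), (82, 1), (83, 5), (84, 5), (85, 9), (86, 7), (87, 4), (88, 8), (89, 4), (90, 6), (91, 2), (92, 2), (93, 7), (94, 8), (95, 9), (96, 2), (97, 9), (98, 3), (99, 8), (100, 9), (101, 1), (102, 10), (103, 10), (104, 9), (105, 3), (106, 1), (107, 1), (108, 9), (109, 8), (110, 6), (111,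 10), (112, 10), (113, 2), (114, 9), (116, 6), (117, 6), (118, 1), (119, 10), (120, 9), (121, 6), (122, 6), (123, 6), (124, 2), (125, 10), (128, 4), (129, 2), (130, 9), (131, 9), (132, 4)],
  [(0, 2), (1, 1), (2, 8), (4, 4), (5, 2), (6, 3), (7, 10), (8, 6), (9, 6), (11, 4), (12, 5), (13, 9), (14, 1), (15, 2), (17, 10), (18, 9), (19, 6), (20, 4), (21, 10), (22, 5), (23, 7), (24, 10), (25, 6), (26, 6), (28, 10), (29, 4), (30, 4), (31, 9), (32, 4), (33, 3), (34, 3), (36, 2), (37, 3), (38, 1), (39, 9), (40, 9), (41, 10), (42, 4), (43, 9), (44, 4), (45, 9), (46, 9), (48, 6), (49, 6), (50, 7), (51, 1), (52, 10), (53, 1), (54, 10), (55, 2), (56, 5), (57, 2), (58, 5), (59, 9), (60, 4), (61, 6), (62, 9), (63, 8), (64, 9), (65, 6), (66, 7), (67, 2), (68, 9), (69, 4), (70, 10), (71, 7), (72, 3), (73, 1), (74, 5), (76, 9), (77, 4), (78, 7), (79, 10), (82, 1), (84, 4), (85, 6), (86, 3), (87, 3), (88, 2), (89, 8), (90, 6), (91,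 1), (92, 3), (94, 8), (95, 4), (96, 3), (97, 8), (98, 10), (99, 6), (100, 8), (101, 4), (102, 4), (103, 3), (104, 4), (105, 1), (106, 5), (107, 5), (108, 8), (109, 6), (110, 2), (111, 5), (112, 10), (113, 4), (114, 1), (115, 6), (117, 9), (118, 2), (119, 5), (120, 3), (121, 5), (122, 8), (123, 7), (124, 5), (126, 2), (127, 1), (128, 8), (129, 4), (130, 2), (131, 3), (132, 4)],
  [(0, 1), (1, 6), (2, 5), (3, 5), (4, 7), (5, 2), (6, 4), (7, 7), (8, 6), (9, 10), (10, 8), (12, 9), (13, 2), (14, 3), (15, 9), (16, 9), (17, 5), (18, 10), (19, 9), (21, 6), (22, 10), (23, 5), (24, 4), (25, 9), (26, 6), (28, 3), (29, 7), (30, 1), (33, 2), (34, 7), (35, 10), (36, 4), (37, 4), (38, 4), (39, 4), (41, 2), (42, 7), (43, 1), (44, 6), (45, 4), (46, 6), (47, 5), (48, 9), (49, 7), (50, 3), (51, 9), (52, 7), (53, 9), (54, 9), (56, 10), (57, 10), (58, 2), (60, 9), (61, 8), (62, 4), (63, 4), (64, 8), (65, 6), (66, 9), (67, 3), (69,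 5), (70, 2), (71, 2), (72, 3), (73, 7), (74, 2), (75, 6), (77, 9), (78, 9), (79, 3), (80, 3), (81, 9), (82, 10), (83, 10), (85, 3), (86, 5), (87, 3), (88, 1), (89, 9), (91, 8), (92, 2), (93, 2), (94, 1), (95, 2), (96, 1), (97, 2), (98, 3), (99, 9), (100, 10), (101, 1), (102, 10), (103, 2), (104, 9), (105, 4), (106, 8), (107, 5), (108, 4), (109, 8), (110, 4), (111, 10), (112, 10), (113, 5), (114, 6), (115, 6), (116, 7), (117, 6), (118, 7), (119, 6), (120, 2), (121, 10), (122, 6), (123, 3), (124, 10), (125, 8), (126, 8), (127, 3), (129, 2), (130, 5), (131, 2)]]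

/-- data -/
def d5_16 : SMat := [
  [(0, 9), (1, 8), (2, 9), (3, 2), (4, 1), (5, 5), (6, 1), (8, 1), (9, 8), (10, 10), (11, 6), (12, 1), (13, 5), (14, 8), (15, 2), (16, 4), (17, 8), (18, 3), (19, 4), (20, 4), (21, 1), (22, 8), (23, 7), (24, 5), (25, 1), (26, 4), (27, 7), (29, 3), (30, 2), (31, 10), (32, 6), (33, 7), (34, 7), (35, 3), (36, 8), (37, 8), (39, 4), (40, 6), (41, 9), (42, 5), (43, 7), (44, 4), (45, 8), (46, 7), (47, 8), (48, 1), (49, 7), (50, 2), (51, 1), (52, 9), (53, 4), (54, 7), (56, 8), (57, 4), (58, 6), (60, 4), (61, 3), (62, 5), (63, 9), (64, 9), (65, 8), (66, 2), (67, 9), (68, 9), (69, 9), (70, 8), (71, 8), (72, 9), (73, 3), (74, 8), (76, 6), (77, 2), (78, 3), (79, 8), (80, 10), (81, 7), (82, 3), (83, 6), (84, 5), (85, 9), (86, 6), (87, 2), (89, 7), (90, 7), (91, 2), (92, 5), (93, 9), (94, 8), (95, 7), (97, 7), (98, 5), (99, 5), (100, 7), (101, 9), (102, 9), (103, 3), (104, 8), (105, 3), (106,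 3), (107, 1), (109, 10), (110, 1), (111, 8), (112, 10), (113, 10), (115, 2), (116, 8), (117, 1), (118, 6), (119, 10), (120, 7), (121, 10), (122, 10), (123, 10), (124, 7), (125, 10), (126, 9), (127, 4), (128, 4), (129, 6), (130, 2), (132, 9)],
  [(0, 8), (1, 3), (2, 6), (3, 7), (4, 1), (5, 6), (6, 7), (7, 5), (8, 4), (9, 3), (10, 6), (12, 7), (13, 1), (14, 8), (19, 10), (20, 6), (21, 8), (23, 3), (24, 7), (25, 3), (26, 4), (27, 9), (28, 8), (29, 9), (30, 4), (31, 2), (32, 4), (33, 9), (34, 7), (36, 3), (37, 1), (38, 2), (39, 8), (40, 1), (41, 8), (42, 6), (44, 8), (45, 6), (46, 6), (47, 3), (48, 2), (49, 2), (50, 6), (51, 5), (52, 7), (53, 2), (54, 8), (55, 7), (56, 8), (58, 8), (60, 3), (62, 6), (63, 10), (64, 6), (66, 3), (67, 5), (68, 3), (69, 3), (70, 9), (71, 8), (72, 9), (73, 1), (74, 5), (75, 5), (76, 3), (77, 7), (78, 5), (79, 3), (80, 8), (81, 6), (82, 5), (83, 9), (84, 5), (85, 4), (86, 10), (87, 9),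 (88, 4), (89, 5), (90, 7), (91, 7), (92, 1), (93, 6), (94, 6), (95, 3), (96, 9), (97, 6), (98, 9), (99, 9), (100, 10), (101, 8), (102, 3), (103, 9), (104, 10), (105, 6), (106, 6), (107, 7), (108, 5), (109, 9), (110, 4), (111, 9), (113, 5), (114, 3), (115, 7), (116, 3), (117, 9), (118, 7), (119, 4), (120, 4), (121, 3), (122, 7), (123, 7), (124, 9), (125, 9), (126, 1), (127, 10), (128, 4), (130, 4), (131, 5), (132, 2)],
  [(0, 8), (1, 6), (2, 3), (3, 9), (4, 4), (5, 8), (6, 5), (7, 7), (8, 3), (9, 3), (10, 5), (12, 8), (13, 3), (14, 8), (15, 4), (16, 2), (17, 3), (18, 8), (19, 7), (20, 2), (21, 8), (22, 8), (23, 7), (24, 9), (25, 7), (26, 3), (27, 2), (29, 6), (31, 8), (32, 2), (33, 9), (35, 5), (36, 10), (37, 7), (38, 1), (39, 10), (40, 6), (42, 8), (43, 10), (44, 4), (45, 4), (46, 7), (48, 7), (49, 7), (51, 4), (52, 10), (53, 7), (54, 5), (55, 1), (56, 6), (57, 1), (58, 6), (59, 3), (60, 4), (61, 10), (62, 4),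 (63, 7), (64, 1), (65, 5), (66, 8), (67, 10), (68, 1), (70, 8), (71, 7), (72, 6), (73, 8), (74, 6), (75, 7), (76, 1), (77, 10), (78, 10), (79, 7), (81, 1), (82, 7), (83, 7), (86, 2), (88, 2), (89, 1), (91, 10), (92, 2), (93, 2), (94, 1), (95, 1), (96, 6), (97, 1), (98, 1), (99, 10), (100, 9), (101, 10), (103, 1), (104, 10), (105, 9), (106, 6), (107, 3), (108, 10), (109, 3), (110, 1), (111, 1), (112, 6), (114, 5), (115, 7), (116, 10), (117, 7), (118, 9), (119, 1), (120, 5), (121, 3), (122, 6), (123, 8), (124, 5), (125, 7), (126, 4), (127, 1), (128, 6), (129, 3), (130, 1), (131, 9), (132, 3)],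
  [(0, 3), (1, 1), (2, 6), (3, 3), (4, 7), (5, 6), (6, 6), (7, 4), (8, 6), (9, 9), (10, 3), (11, 7), (12, 5), (13, 3), (14, 1), (16, 8), (17, 2), (18, 1), (19, 9), (20, 5), (22, 6), (23, 5), (24, 10), (25, 6), (26, 1), (27, 3), (28, 4), (29, 5), (30, 4), (31, 10), (32, 1), (33, 5), (34, 8), (35, 9), (37, 9), (38, 9), (39, 6), (40, 4), (41, 4), (42, 8), (43, 9), (44, 2), (45, 9), (46, 8), (47, 6), (48, 9), (49, 6), (50, 7), (51, 9), (52, 7), (53, 2), (54, 7), (55, 3), (57, 9), (58, 9), (59, 3), (60, 6), (61, 9), (62, 7), (63, 7), (64, 3), (65, 5), (66, 9), (67, 8), (68, 3), (69, 4), (70, 2), (71, 5), (72, 4), (73, 7), (75, 10), (76, 3), (86, 1), (87, 10), (88, 1), (92, 2), (98, 1), (100, 6), (101, 10), (102, 1), (105, 6), (106, 8), (107, 3), (108, 2), (109, 3), (110, 1), (111, 5), (112, 3), (113, 1), (114, 4), (115, 4), (116, 7), (117, 5), (118, 3), (119, 4), (120, 2), (121, 5), (122, 7), (123, 1), (124, 7), (125,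 1), (127, 3), (128, 7), (129, 9), (130, 2), (131, 4), (132, 3)],
  [(0, 3), (2, 7), (3, 10), (4, 7), (5, 5), (6, 1), (7, 7), (8, 8), (9, 10), (10, 1), (11, 4), (12, 1), (13, 4), (14, 6), (15, 9), (17, 7), (18, 7), (19, 8), (20, 8), (21, 6), (23, 7), (25, 10), (26, 1), (27, 2), (28, 1), (29, 5), (30, 10), (31, 4), (32, 8), (33, 9), (34, 8), (36, 4), (38, 4), (40, 8), (41, 1), (42, 7), (44, 8), (45, 7), (46, 5), (47, 10), (48, 6), (49, 2), (50, 4), (51, 8), (52, 9), (53, 7), (54, 3), (55, 6), (56, 1), (57, 7), (58, 3), (59, 9), (60, 1), (61, 8), (62, 3), (64, 8), (65, 9), (66, 5), (67, 10), (68, 8), (69, 7), (71, 8), (72, 5), (73, 7), (74, 1), (75, 3), (76, 4), (77, 2), (78, 3), (79, 7), (80, 2), (81, 8), (82, 4), (83, 6), (84, 5), (85, 9), (86, 6), (87, 2), (89, 6), (90, 7), (91, 3), (92, 5), (93, 10), (94, 4), (95, 7), (96, 1), (97, 6), (98, 4), (99, 6), (100, 7), (101, 10), (102, 10), (103, 3), (104, 9), (105,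 5), (106, 5), (107, 1), (109, 4), (110, 4), (111, 4), (112, 8), (113, 1), (114, 9), (115, 2), (116, 6), (117, 4), (118, 1), (119, 8), (120, 7), (123, 6), (124, 6), (125, 8), (126, 2), (128, 1), (129, 6), (130, 5), (131, 5), (132, 6)]]

/-- data -/
def d5 : SMat := d5_0 ++ d5_1 ++ d5_2 ++ d5_3 ++ d5_4 ++ d5_5 ++ d5_6 ++ d5_7 ++ d5_8 ++ d5_9 ++ d5_10 ++ d5_11 ++ d5_12 ++ d5_13 ++ d5_14 ++ d5_15 ++ d5_16

/-- data -/
def d6_0 : SMat := [
  [(0, 10), (1, 1), (2, 1), (3, 4), (4, 5), (5, 2), (6, 1), (7, 9), (8, 1), (9, 5), (10, 5), (11, 6), (12, 3), (13, 1), (14, 9), (16, 3), (17, 10), (18, 8), (19, 1), (20, 8), (21, 7), (22, 7), (23, 10), (24, 10), (25, 8), (26, 6), (27, 8), (28, 5), (29, 10), (30, 2), (31, 10), (32, 5), (33, 10), (35, 1), (37, 5), (39, 5), (40, 10), (41, 6), (42, 6), (44, 9), (45, 7), (47, 8), (48, 5), (49, 4), (50, 1), (51, 4), (52, 2), (53, 10), (54, 3), (55, 5), (56, 8), (57, 7), (58, 7), (59,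 7), (60, 3), (61, 1), (62, 4), (63, 2), (65, 7), (66, 4), (67, 3), (69, 3), (70, 6), (71, 4), (72, 2), (73, 8), (75, 3), (77, 7), (78, 5), (80, 1), (81, 5), (82, 1), (83, 9), (84, 5), (85, 10), (86, 9), (87, 5), (89, 8), (90, 4), (91, 10), (92, 2), (93, 2), (94, 2), (95, 1), (96, 8), (97, 2), (98, 5), (99, 1), (100, 10), (104, 10), (105, 7), (106, 6), (108, 4), (109, 10), (111, 9), (112, 4), (113, 2), (114, 10), (115, 4), (116, 6), (117, 6), (118, 3), (119, 9), (120, 8), (121, 10), (122, 8), (123, 6), (124, 5), (125, 4), (126, 10), (127, 7), (128, 3), (129, 7), (130, 9), (131, 6), (132, 7)],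
  [(0, 10), (1, 5), (2, 4), (3, 1), (4, 8), (5, 10), (6, 5), (7, 7), (8, 7), (9, 4), (10, 9), (12, 1), (13, 10), (14, 8), (15, 7), (16, 9), (17, 8), (18, 6), (19, 10), (20, 6), (21, 3), (22, 3), (23, 4), (24, 4), (25, 4), (27, 9), (28, 4), (30, 10), (31, 1), (32, 10), (33, 8), (34, 4), (35, 4), (37, 4), (38, 10), (39, 4), (40, 1), (41, 10), (42, 5), (43, 4), (44, 9), (45, 7), (46, 7), (47, 2), (48, 4), (49, 8), (50, 6), (51, 8), (52, 8), (54, 9), (55, 4), (56, 3), (57, 3), (58, 7), (60, 2), (61, 4), (62, 9), (63, 10), (64, 3), (65, 10), (66, 5), (67, 8), (68, 1), (69, 10), (70, 4), (71, 6), (72, 1), (73, 2), (74, 1), (75, 8), (76, 3), (77, 8), (78, 10), (79, 1), (80, 2), (81, 2), (82, 3), (83, 2), (84, 3), (86, 3), (87, 1), (88, 6), (89, 4), (90, 10), (91, 10), (92, 4), (93, 6), (94, 4), (95, 3), (96, 7), (98, 2), (99, 10), (100, 6), (102, 2), (103, 3), (104, 4), (105, 7), (106, 1), (107, 10), (108, 5), (109,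 10), (110, 3), (111, 10), (112, 10), (113, 1), (114, 9), (115, 5), (116, 8), (117, 10), (118, 10), (119, 1), (120, 9), (121, 8), (122, 10), (123, 10), (125, 1), (127, 2), (128, 2), (130, 9), (131, 9), (132, 2)],
  [(0, 9), (1, 8), (2, 2), (3, 3), (4, 10), (5, 6), (6, 1), (7, 1), (9, 2), (10, 6), (11, 9), (12, 10), (13, 4), (14, 9), (15, 8), (16, 5), (17, 3), (18, 6), (19, 1), (20, 2), (22, 8), (23, 6), (24, 10), (25, 4), (26, 10), (27, 8), (28, 9), (29, 3), (30, 6), (31, 2), (32, 1), (33, 7), (34, 7), (35, 5), (36, 3), (37, 9), (39, 1), (40, 7), (41, 3), (42, 2), (44, 5), (45, 3), (48, 9), (50, 8), (52, 9), (53, 6), (54, 7), (55, 5), (56, 1), (59, 3), (60, 10), (61, 1), (63, 6), (64, 8), (66, 4), (67, 6), (68, 8), (69, 7), (70, 7), (71, 5), (72, 6), (73, 1), (74, 4), (76, 8), (77, 9), (78, 10), (80, 1), (81, 3), (82, 10), (84, 6), (85, 2), (86, 4), (87, 7), (88, 3), (89, 1), (90, 5), (91, 10), (92, 4), (93, 4),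 (94, 2), (95, 2), (96, 10), (97, 2), (98, 4), (99, 9), (100, 8), (101, 10), (102, 10), (103, 2), (104, 9), (106, 6), (107, 8), (108, 3), (109, 3), (110, 3), (111, 4), (114, 1), (115, 10), (116, 9), (117, 8), (118, 10), (119, 1), (120, 10), (121, 4), (122, 9), (123, 1), (124, 9), (125, 10), (126, 2), (127, 5), (128, 5), (129, 10), (130, 7), (131, 7), (132, 6)],
  [(0, 5), (1, 4), (2, 1), (3, 5), (4, 9), (5, 8), (6, 5), (7, 7), (9, 3), (10, 10), (11, 1), (13, 10), (14, 4), (15, 1), (16, 5), (17, 10), (18, 1), (19, 6), (20, 1), (21, 4), (22, 10), (23, 9), (24, 9), (25, 8), (26, 3), (27, 3), (28, 8), (29, 6), (30, 1), (31, 3), (32, 6), (33, 1), (34, 9), (35, 1), (36, 9), (37, 4), (39, 6), (40, 1), (41, 4), (42, 7), (43, 6), (44, 2), (45, 1), (46, 4), (47, 2), (48, 3), (49, 1), (50, 3), (51, 6), (52, 9), (53, 9), (54, 2), (55, 1), (56, 10), (57, 10), (58, 10), (59, 3), (60, 6), (61, 1), (62, 1), (63, 6), (64, 1), (65,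 2), (66, 7), (67, 10), (68, 1), (69, 2), (71, 8), (72, 1), (74, 10), (75, 3), (76, 10), (77, 6), (78, 8), (79, 6), (80, 3), (81, 9), (82, 1), (83, 10), (84, 8), (85, 9), (86, 7), (87, 9), (88, 8), (89, 3), (90, 9), (91, 3), (92, 4), (93, 9), (94, 6), (95, 9), (98, 8), (100, 3), (101, 2), (102, 3), (103, 2), (104, 3), (105, 8), (106, 2), (108, 9), (109, 2), (110, 4), (112, 7), (113, 7), (114, 7), (115, 7), (116, 7), (117, 2), (118, 7), (119, 6), (120, 9), (121, 2), (122, 7), (124, 7), (126, 7), (127, 6), (130, 4), (131, 9)],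
  [(0, 10), (1, 4), (3, 5), (4, 3), (5, 7), (7, 7), (9, 8), (10, 4), (11, 7), (13, 10), (14, 8), (15, 5), (17, 4), (19, 6), (20, 7), (21, 4), (22, 5), (23, 10), (24, 4), (25, 8), (26, 4), (27, 8), (28, 4), (29, 1), (30, 3), (31, 3), (32, 7), (33, 1), (34, 10), (35, 7), (36, 10), (37, 8), (39, 7), (41, 8), (42, 8), (44, 1), (45, 6), (46, 4), (47, 3), (48, 8), (49, 7), (50, 4), (51, 7), (52, 4), (53, 10), (54, 7), (55, 6), (56, 4), (57, 4), (58, 4), (59, 10), (60, 7), (61, 7), (62, 6), (63, 7), (64, 1), (65, 4), (66, 8), (67, 10), (68, 1), (69, 7), (70, 1), (71, 4), (72, 1), (73, 5), (74, 4), (75, 2), (76, 1), (77, 7), (78, 8), (79, 2), (80, 2), (81, 3), (82, 9), (83, 3), (84, 2), (85, 4), (86, 3), (87, 3), (88, 6), (90, 4), (91, 7), (92, 3), (93, 3), (94, 1), (95, 10), (96, 1), (97, 10), (98, 5), (99, 4), (100, 7), (101, 9), (102, 9), (103, 4), (104, 9), (105, 4), (106, 10), (107, 6), (109, 7), (110, 3), (111,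 10), (113, 1), (114, 4), (115, 2), (116, 7), (117, 5), (118, 1), (119, 3), (120, 2), (121, 7), (122, 7), (123, 5), (125, 1), (126, 2), (127, 7), (128, 5), (129, 9), (130, 9), (131, 6)],
  [(0, 9), (1, 4), (3, 3), (4, 4), (5, 6), (6, 7), (7, 7), (8, 7), (9, 4), (10, 6), (11, 3), (12, 4), (13, 3), (14, 4), (15, 4), (20, 1), (22, 8), (23, 7), (24, 4), (25, 4), (27, 8), (28, 4), (29, 8), (30, 7), (31, 7), (33, 8), (34, 3), (36, 3), (37, 4), (39, 7), (40, 7), (42, 1), (44, 4), (45, 10), (46, 4), (48, 4), (50, 8), (52, 4), (53, 7), (54, 7), (55, 7), (57, 10), (59, 7), (62, 10), (63, 7), (64, 4), (66, 4), (67, 7), (68, 4), (69, 7), (70, 8), (72, 8), (73, 1), (75, 5), (76, 4), (77, 7), (78, 4), (79, 3), (80, 8), (81, 7), (82, 4), (83, 6), (84, 6), (85, 8), (86, 1), (87, 2), (88, 9), (89, 5), (90, 8), (91, 3), (92, 3), (93, 7), (94, 6), (95, 6), (96, 2), (97, 5), (98, 3), (99, 7), (100, 2), (101, 10), (102, 10), (103,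 2), (104, 10), (105, 8), (106, 7), (107, 3), (108, 9), (109, 4), (110, 8), (111, 7), (112, 6), (113, 1), (114, 4), (115, 7), (116, 1), (117, 6), (118, 4), (119, 10), (120, 7), (121, 2), (122, 4), (123, 4), (124, 10), (125, 4), (126, 7), (127, 5), (128, 3), (129, 2), (130, 2), (131, 8), (132, 2)],
  [(0, 1), (1, 5), (2, 9), (3, 2), (4, 2), (5, 5), (6, 10), (7, 9), (8, 9), (9, 2), (10, 2), (11, 1), (12, 2), (13, 5), (14, 2), (15, 4), (16, 2), (17, 2), (18, 9), (20, 9), (22, 4), (23, 5), (24, 6), (25, 4), (26, 2), (27, 4), (28, 6), (29, 8), (30, 3), (31, 5), (32, 2), (33, 10), (34, 7), (35, 9), (36, 3), (37, 4), (39, 10), (40, 3), (41, 2), (42, 10), (44, 6), (45, 10), (46, 4), (47, 7), (48, 4), (49, 7), (50, 3), (52, 2), (53, 9), (54, 7), (55, 7), (57, 7), (62, 10), (63, 2), (64, 8), (65, 4), (66, 8), (67, 3), (68, 8), (69, 3), (70, 8), (72, 6), (73, 8), (75, 3), (76, 8), (77, 1), (78, 10), (80, 1), (81, 10), (82,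 3), (83, 10), (85, 10), (86, 10), (87, 10), (88, 9), (89, 1), (90, 7), (91, 3), (92, 9), (93, 10), (94, 1), (96, 10), (97, 1), (98, 9), (99, 5), (100, 3), (101, 2), (103, 9), (104, 1), (105, 4), (106, 1), (107, 6), (109, 10), (110, 4), (111, 1), (112, 1), (113, 1), (114, 7), (115, 2), (116, 10), (117, 8), (118, 3), (119, 1), (120, 7), (121, 8), (122, 8), (123, 4), (124, 4), (125, 8), (128, 4), (129, 2), (130, 9), (131, 5), (132, 2)],
  [(1, 4), (2, 7), (5, 7), (6, 10), (7, 8), (8, 7), (10, 7), (12, 8), (13, 7), (16, 3), (17, 4), (19, 4), (21, 7), (23, 4), (27, 10), (30, 7), (32, 7), (33, 4), (35, 7), (37, 4), (40, 3), (42, 4), (44, 7), (45, 7), (46, 7), (47, 4), (48, 4), (49, 8), (50, 4), (51, 4), (53, 4), (54, 3), (55, 4), (58, 4), (61, 8), (62, 7), (65, 7), (66, 10), (69, 7), (70, 7), (72, 4), (73, 1), (75, 8), (77, 1), (78, 3), (79, 9), (80, 10), (81, 9), (82, 10), (84, 9), (86, 9), (87, 10), (88, 9), (89,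 9), (90, 2), (91, 10), (92, 9), (93, 8), (94, 7), (95, 9), (96, 1), (97, 10), (98, 9), (100, 2), (103, 7), (104, 1), (105, 2), (106, 4), (107, 7), (108, 3), (109, 1), (110, 4), (111, 1), (112, 10), (113, 9), (114, 6), (115, 8), (116, 5), (117, 1), (118, 1), (119, 8), (120, 6), (121, 5), (122, 3), (123, 7), (124, 4), (125, 1), (126, 10), (127, 7), (128, 7), (129, 4), (130, 5), (131, 8), (132, 7)]]

/-- data -/
def d6_1 : SMat := [
  [(0, 5), (1, 8), (2, 5), (3, 3), (4, 8), (5, 4), (6, 3), (7, 2), (8, 7), (9, 6), (10, 8), (11, 10), (12, 4), (13, 5), (15, 3), (16, 3), (17, 7), (18, 4), (19, 2), (20, 10), (21, 5), (22, 5), (24, 8), (25, 9), (26, 10), (27, 10), (28, 10), (29, 2), (31, 6), (32, 3), (33, 2), (35, 7), (36, 7), (37, 2), (39, 2), (40, 5), (41, 9), (42, 5), (43, 7), (45, 8), (47, 9), (48, 4), (49, 10), (50, 7), (51, 9), (52, 4), (53, 4), (54, 10), (55, 10), (56, 1), (57, 1), (58, 1), (59, 8), (60, 10), (61,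 3), (63, 9), (64, 3), (65, 2), (66, 5), (67, 5), (68, 3), (69, 4), (70, 5), (71, 9), (72, 9), (73, 3), (74, 1), (75, 2), (76, 6), (77, 3), (78, 2), (79, 9), (81, 4), (82, 7), (83, 9), (85, 3), (86, 1), (87, 4), (88, 1), (89, 4), (90, 10), (91, 8), (92, 7), (93, 8), (94, 9), (95, 4), (97, 10), (98, 7), (99, 10), (100, 9), (101, 7), (102, 7), (103, 3), (104, 8), (107, 9), (109, 2), (110, 4), (112, 2), (113, 7), (115, 7), (117, 4), (118, 9), (119, 2), (120, 2), (121, 2), (122, 2), (123, 2), (124, 7), (125, 2), (126, 9), (127, 4), (128, 1), (129, 8), (130, 2), (132, 9)],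
  [(0, 10), (1, 8), (3, 9), (4, 1), (6, 7), (7, 3), (8, 4), (9, 6), (10, 4), (11, 5), (13, 9), (14, 1), (15, 9), (16, 7), (17, 8), (18, 6), (19, 3), (20, 7), (21, 8), (22, 6), (23, 6), (24, 8), (25, 8), (26, 5), (27, 1), (28, 8), (29, 1), (30, 7), (31, 10), (32, 10), (33, 9), (34, 1), (36, 10), (37, 1), (38, 3), (39, 3), (41, 8), (42, 8), (43, 10), (44, 5), (45, 9), (47, 7), (48, 1), (49, 3), (50, 4), (51, 3), (52, 4), (53, 2), (54, 7), (56, 8), (57, 8), (58, 4), (59, 6), (60, 3), (61, 7), (62, 9), (63, 3), (64, 5), (65, 4), (66, 1), (67, 6), (68, 8), (69, 7), (70, 6), (72, 5), (73, 2), (74, 8), (75, 10), (76, 5), (77, 4), (78, 5), (79, 1), (80, 1), (82, 8), (83, 6), (85, 9), (86, 1), (87, 7), (88, 7), (90, 1), (91, 10), (92, 1), (93, 1), (94, 5), (96, 1), (97, 10), (98, 8), (99, 3), (100, 5), (101, 6), (102, 5), (103, 1), (104, 5), (105, 8), (106, 4), (107, 7), (108, 9), (109, 5), (110, 4), (111, 7), (113, 5),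 (114, 1), (115, 5), (116, 10), (117, 8), (118, 3), (119, 6), (120, 1), (121, 5), (122, 7), (123, 9), (124, 4), (126, 1), (127, 1), (128, 8), (129, 4), (130, 2), (131, 5), (132, 6)],
  [(1, 4), (2, 9), (3, 1), (4, 3), (5, 5), (6, 10), (7, 9), (8, 10), (9, 4), (10, 4), (11, 9), (12, 1), (13, 4), (14, 10), (15, 6), (16, 1), (17, 2), (18, 9), (19, 10), (20, 8), (21, 1), (23, 3), (24, 2), (25, 5), (26, 3), (27, 5), (28, 7), (29, 10), (30, 8), (31, 10), (32, 9), (34, 6), (35, 9), (36, 2), (37, 4), (39, 10), (40, 7), (41, 3), (43, 10), (44, 8), (45, 8), (47, 10), (48, 4), (49, 10), (50, 4), (51, 10), (52, 3), (53, 7), (54, 8), (55, 6), (57, 1), (59, 5), (60, 6), (61, 9), (62, 8), (63, 8), (64, 10), (65, 5), (66, 9), (67, 9), (68, 10), (69, 7), (72, 1), (73, 2), (75, 5), (76, 10), (77, 5), (78, 10), (79, 1), (80, 2), (81, 2), (82, 5), (83, 5), (84, 9), (86, 1), (87, 4), (88, 10), (89, 2), (90, 7), (92, 2), (93, 6), (94,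 1), (95, 2), (97, 7), (98, 2), (99, 10), (100, 8), (101, 7), (102, 7), (103, 9), (104, 2), (107, 9), (109, 2), (110, 4), (112, 2), (113, 7), (115, 7), (117, 4), (118, 9), (119, 2), (120, 2), (121, 2), (122, 2), (123, 2), (124, 7), (125, 2), (126, 9), (127, 4), (128, 10), (129, 6), (130, 2), (132, 9)],
  [(0, 4), (1, 8), (2, 2), (3, 7), (4, 3), (5, 6), (6, 7), (7, 1), (8, 2), (9, 3), (10, 2), (11, 3), (12, 5), (13, 9), (14, 10), (15, 9), (16, 5), (17, 5), (18, 2), (20, 6), (21, 5), (22, 9), (23, 7), (24, 5), (25, 8), (26, 6), (27, 4), (28, 6), (29, 2), (30, 8), (31, 8), (32, 6), (33, 2), (34, 7), (35, 6), (36, 7), (37, 10), (38, 1), (39, 6), (40, 4), (41, 10), (42, 6), (43, 7), (44, 6), (45, 6), (46, 7), (47, 10), (48, 8), (49, 1), (50, 3), (51, 7), (52, 3), (53, 8), (54, 7), (56, 7), (58, 1), (59, 9), (61, 3), (62, 6), (63, 9), (64, 2), (66, 4), (67, 7), (68, 4), (69, 3), (70, 8), (71, 7), (73, 1), (74, 7), (76,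 4), (77, 3), (78, 10), (80, 5), (82, 1), (83, 9), (84, 7), (85, 3), (86, 1), (87, 7), (88, 8), (89, 7), (90, 2), (91, 10), (92, 10), (93, 3), (94, 10), (95, 9), (96, 4), (97, 6), (99, 8), (100, 2), (101, 7), (102, 7), (103, 8), (104, 6), (105, 9), (106, 2), (107, 9), (108, 4), (109, 3), (110, 2), (111, 7), (112, 6), (114, 10), (115, 4), (116, 4), (117, 8), (118, 6), (120, 8), (121, 1), (122, 10), (123, 8), (124, 1), (125, 6), (126, 1), (128, 3), (129, 7), (130, 9), (131, 6), (132, 7)],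
  [(0, 3), (1, 8), (2, 7), (3, 3), (4, 4), (5, 7), (8, 7), (9, 4), (10, 7), (11, 10), (12, 5), (13, 3), (14, 4), (15, 8), (16, 4), (17, 4), (18, 7), (20, 7), (22, 8), (23, 7), (24, 5), (25, 8), (26, 4), (27, 8), (28, 4), (29, 8), (30, 7), (31, 7), (32, 7), (33, 2), (34, 3), (35, 7), (36, 7), (37, 9), (40, 3), (41, 4), (42, 2), (44, 4), (45, 10), (48, 8), (50, 8), (52, 4), (53, 7), (54, 3), (59, 3), (61, 1), (62, 6), (63, 7), (64, 8), (66, 8), (67, 7), (68, 8), (69, 3), (70, 8), (72, 1), (73, 6), (75, 5), (76, 8), (77, 3), (78, 4), (79, 6), (80, 1), (81, 7), (82, 5), (83, 7), (84, 7), (85, 7), (86, 1), (88, 8), (89, 7), (90, 6), (91, 6), (92, 1), (93, 8), (94, 7), (95, 7), (97, 5), (98, 2), (99, 9), (100, 9), (101, 10), (103, 2), (104, 10), (105, 7), (106, 1), (107, 10), (109, 8), (110, 1), (111, 8), (112, 3), (113, 4), (114, 6), (115, 7), (116, 9), (117, 8), (118, 4), (119, 2), (120, 6), (121, 2), (122, 2), (123,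 8), (124, 8), (125, 8), (126, 7), (127, 10), (128, 1), (129, 6), (130, 9), (131, 7), (132, 1)],
  [(0, 1), (1, 4), (2, 4), (3, 10), (4, 2), (5, 5), (6, 7), (7, 9), (8, 2), (9, 6), (10, 9), (11, 8), (12, 9), (14, 6), (15, 8), (16, 2), (17, 2), (18, 5), (19, 7), (20, 9), (21, 4), (22, 1), (23, 1), (24, 2), (25, 8), (26, 1), (27, 4), (28, 6), (29, 1), (30, 7), (31, 5), (32, 9), (33, 3), (34, 7), (35, 9), (36, 3), (37, 4), (39, 7), (40, 7), (41, 6), (42, 10), (43, 7), (45, 6), (47, 7), (48, 4), (49, 7), (50, 8), (51, 7), (52, 2), (53, 5), (54, 7), (57, 10), (59, 3), (61, 7), (62, 6), (63, 9), (64, 8), (65, 4), (66, 8), (67, 3), (68, 8), (69, 7), (70, 1), (72, 3), (73, 1), (75, 7), (76, 8), (77, 5), (78, 10), (79, 6), (81, 5), (82, 4), (83, 6), (84, 5), (85, 2), (88, 6), (89, 5), (90, 7), (91, 5), (92, 1), (93, 5), (94, 4), (95, 5), (96, 8), (97, 5), (98, 10), (99, 10), (100, 4), (105, 2), (106, 2), (107, 9), (108,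 8), (109, 9), (110, 1), (111, 1), (112, 1), (113, 8), (114, 5), (115, 9), (116, 8), (119, 3), (120, 7), (121, 8), (122, 8), (123, 9), (125, 10), (126, 8), (127, 3), (128, 3), (129, 1), (130, 2), (131, 8), (132, 3)],
  [(0, 3), (1, 4), (2, 2), (3, 7), (5, 7), (6, 7), (8, 1), (10, 7), (11, 3), (13, 7), (14, 10), (15, 4), (16, 4), (17, 4), (18, 7), (19, 4), (20, 7), (22, 4), (23, 7), (25, 4), (27, 4), (28, 10), (29, 8), (30, 7), (31, 7), (33, 8), (34, 7), (35, 7), (36, 7), (39, 4), (40, 3), (41, 4), (42, 8), (44, 4), (45, 10), (48, 8), (50, 4), (52, 4), (54, 7), (55, 7), (56, 7), (59, 7), (61, 7), (62, 10), (64, 4), (66, 4), (67, 7), (68, 4), (69, 2), (70, 4), (71, 7), (72, 1), (73, 8), (74, 7), (75, 8), (76, 4), (78, 5), (79, 10), (80, 4), (81, 4), (82, 5), (83, 2), (84, 5), (86, 6), (87, 5), (89, 5), (90, 7), (92, 1), (93, 6), (94, 6), (95, 10), (96, 5), (97, 6), (98, 5), (99, 9), (100, 10), (101, 4), (102, 7),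 (103, 5), (104, 10), (105, 3), (106, 3), (107, 9), (108, 8), (109, 10), (110, 2), (111, 10), (113, 8), (114, 7), (115, 9), (116, 7), (117, 10), (118, 9), (119, 2), (120, 7), (121, 7), (122, 9), (123, 9), (124, 10), (125, 10), (126, 6), (127, 5), (128, 2), (130, 2), (131, 8), (132, 1)],
  [(1, 9), (2, 10), (4, 3), (5, 8), (6, 7), (7, 4), (8, 9), (9, 2), (11, 10), (12, 8), (13, 4), (14, 7), (15, 10), (16, 2), (17, 8), (18, 10), (19, 5), (20, 3), (21, 5), (22, 4), (23, 10), (24, 3), (25, 8), (26, 9), (28, 9), (29, 3), (30, 2), (31, 9), (32, 3), (33, 6), (34, 1), (35, 3), (36, 1), (38, 5), (39, 1), (40, 8), (41, 2), (42, 5), (43, 1), (44, 4), (45, 4), (46, 6), (47, 10), (48, 4), (49, 10), (50, 9), (51, 5), (52, 1), (53, 3), (54, 6), (55, 5), (56, 6), (57, 6), (58, 6), (59, 8), (60, 5), (61, 1), (62, 4), (63, 4), (64, 9), (65, 1), (66, 10), (67, 6), (68, 5), (69, 2), (70, 4), (71, 8), (72, 4), (73, 8), (74, 2), (75,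 5), (76, 5), (77, 9), (78, 4), (80, 9), (81, 6), (82, 6), (83, 9), (84, 2), (85, 3), (86, 8), (87, 5), (88, 4), (89, 3), (90, 5), (91, 9), (92, 10), (93, 1), (94, 1), (96, 2), (97, 4), (98, 5), (99, 9), (100, 1), (101, 3), (102, 8), (103, 4), (104, 8), (105, 4), (106, 7), (107, 9), (108, 1), (109, 3), (110, 8), (111, 3), (112, 3), (113, 9), (114, 2), (115, 1), (116, 10), (117, 3), (118, 1), (119, 2), (120, 4), (121, 4), (122, 3), (123, 1), (124, 6), (125, 3), (126, 4), (127, 4), (128, 10), (130, 8), (131, 1), (132, 2)]]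

/-- data -/
def d6_2 : SMat := [
  [(0, 2), (1, 8), (2, 5), (3, 3), (4, 2), (5, 2), (7, 5), (8, 5), (9, 5), (10, 8), (11, 2), (12, 6), (13, 5), (14, 9), (16, 5), (17, 6), (18, 9), (19, 8), (20, 9), (21, 3), (22, 7), (23, 10), (24, 9), (25, 10), (26, 9), (28, 9), (30, 10), (31, 7), (32, 5), (33, 2), (35, 2), (36, 4), (37, 4), (40, 3), (41, 9), (42, 6), (44, 1), (45, 7), (46, 2), (47, 8), (48, 4), (49, 8), (50, 8), (51, 8), (52, 2), (53, 6), (54, 3), (55, 8), (61, 4), (62, 7), (63, 9), (64, 7), (65, 10), (67, 4), (68, 7), (69, 3), (70, 3), (71, 7), (72, 6), (73, 1), (75, 2), (76, 7), (77, 6), (78, 8), (79, 5), (80, 8), (81, 4), (82, 4), (83, 6), (84, 5), (85, 4), (86, 8), (87, 9), (88, 4), (89, 5), (90, 7), (91, 7), (92, 9), (93, 4), (94, 4), (95, 2), (96, 1), (97, 4), (98, 9), (99, 1), (100, 1), (101, 1), (102, 1), (103, 10), (104, 1), (105, 5), (106, 7), (107, 9), (108, 4), (109, 2), (110, 7), (113, 6), (114,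 8), (115, 4), (116, 2), (117, 5), (118, 4), (119, 7), (120, 6), (121, 4), (122, 8), (123, 2), (124, 4), (125, 2), (126, 6), (127, 3), (128, 2), (130, 7), (131, 4), (132, 9)],
  [(0, 10), (1, 1), (3, 3), (4, 4), (6, 7), (7, 7), (9, 1), (10, 7), (11, 6), (13, 10), (14, 8), (15, 1), (17, 5), (18, 7), (19, 7), (20, 7), (21, 4), (22, 1), (23, 3), (24, 5), (25, 8), (26, 4), (27, 8), (28, 4), (29, 1), (30, 7), (31, 3), (32, 7), (33, 2), (34, 3), (36, 3), (37, 4), (39, 7), (40, 3), (41, 4), (42, 1), (43, 7), (44, 4), (45, 6), (48, 8), (50, 8), (51, 1), (52, 8), (53, 4), (54, 7), (61, 8), (62, 2), (63, 3), (64, 1), (66, 8), (67, 7), (68, 1), (69, 3), (70, 5), (72, 5), (73, 5), (75, 9), (76, 8), (77, 10), (78, 10), (79, 2), (80, 1), (82, 10), (84, 10), (85, 1), (86, 3), (87, 1), (88, 2), (90, 2), (91, 8), (92, 2), (93, 1), (96, 1), (98, 2), (99, 8), (100, 10), (102, 10), (103, 1), (104, 10), (105, 3), (106, 1), (107, 2),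 (108, 6), (109, 4), (110, 9), (111, 9), (112, 9), (113, 8), (114, 7), (116, 10), (117, 10), (118, 7), (119, 9), (120, 1), (121, 10), (122, 10), (123, 4), (124, 5), (125, 4), (126, 6), (127, 1), (128, 10), (129, 5), (131, 6), (132, 5)],
  [(0, 8), (1, 9), (2, 2), (3, 6), (4, 10), (5, 2), (6, 3), (7, 8), (8, 9), (9, 3), (10, 1), (12, 2), (13, 8), (14, 3), (15, 1), (16, 2), (17, 9), (19, 7), (20, 1), (21, 4), (22, 2), (23, 8), (24, 5), (25, 5), (26, 2), (27, 5), (28, 10), (29, 1), (30, 10), (31, 9), (32, 1), (33, 3), (34, 6), (35, 3), (36, 6), (37, 1), (39, 3), (40, 3), (41, 10), (42, 3), (43, 10), (44, 6), (45, 9), (48, 4), (50, 8), (51, 10), (52, 2), (53, 8), (54, 9), (55, 10), (59, 9), (61, 3), (62, 1), (64, 1), (65, 7), (66, 4), (67, 7), (68, 1), (69, 3), (70, 2), (73, 2), (75, 8), (76, 4), (77, 5), (78, 10), (79, 2), (80, 4), (81, 1), (82, 9), (83, 8), (84, 3), (85, 6), (86, 7), (87, 10), (88, 10), (89, 2),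 (90, 2), (91, 4), (92, 2), (93, 5), (94, 5), (95, 7), (96, 2), (97, 8), (98, 3), (99, 3), (100, 3), (101, 6), (102, 6), (103, 9), (104, 7), (105, 4), (106, 4), (107, 2), (108, 1), (109, 4), (110, 4), (111, 4), (112, 2), (113, 2), (114, 5), (115, 3), (116, 7), (117, 4), (118, 1), (119, 2), (120, 2), (121, 6), (122, 6), (123, 7), (124, 1), (125, 3), (126, 3), (128, 6), (129, 1), (130, 10), (131, 6)],
  [(0, 4), (1, 9), (2, 6), (3, 4), (4, 4), (5, 1), (6, 6), (7, 1), (8, 10), (9, 8), (10, 6), (12, 5), (13, 10), (14, 8), (15, 7), (16, 5), (17, 10), (18, 1), (19, 7), (20, 1), (21, 5), (22, 1), (23, 3), (24, 10), (25, 2), (26, 8), (27, 6), (28, 3), (29, 2), (30, 7), (31, 8), (32, 7), (33, 1), (34, 4), (35, 2), (36, 4), (37, 2), (38, 10), (39, 6), (40, 7), (41, 3), (42, 7), (43, 6), (44, 8), (47, 7), (48, 2), (49, 6), (50, 4), (51, 6), (52, 10), (53, 2), (54, 7), (56, 5), (57, 5), (59, 4), (60, 6), (61, 6), (63, 7),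 (64, 2), (65, 8), (66, 9), (67, 9), (69, 7), (70, 1), (71, 5), (72, 1), (74, 5), (75, 3), (76, 2), (77, 4), (78, 5), (80, 1), (81, 6), (82, 3), (83, 5), (84, 5), (85, 8), (86, 3), (87, 2), (88, 7), (89, 4), (90, 7), (91, 1), (92, 1), (93, 5), (94, 5), (95, 5), (96, 2), (97, 5), (98, 2), (99, 7), (102, 9), (103, 1), (104, 10), (105, 5), (106, 10), (107, 1), (108, 3), (109, 3), (110, 10), (111, 2), (112, 9), (113, 6), (114, 7), (115, 10), (117, 2), (118, 6), (119, 3), (120, 8), (121, 1), (122, 9), (123, 7), (124, 10), (125, 9), (126, 2), (127, 2), (128, 1), (129, 4), (130, 6), (131, 10), (132, 6)],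
  [(0, 7), (1, 8), (2, 7), (3, 8), (5, 1), (7, 7), (8, 3), (9, 7), (10, 10), (11, 4), (12, 4), (13, 7), (15, 7), (16, 8), (17, 4), (18, 7), (19, 3), (20, 6), (21, 3), (22, 3), (23, 8), (25, 4), (26, 7), (28, 3), (30, 3), (31, 4), (32, 7), (33, 4), (35, 7), (37, 4), (39, 4), (40, 10), (41, 7), (42, 8), (43, 4), (44, 3), (45, 7), (46, 7), (47, 8), (48, 4), (49, 4), (50, 8), (51, 8), (53, 8), (54, 2), (55, 4), (56, 6), (57, 7), (58, 7), (59, 4), (61, 4), (62, 7), (64, 7), (65, 3), (67, 4), (68, 7), (69, 3), (70, 3), (71, 3), (72, 4), (73, 8), (74, 3), (76, 7), (77, 4), (78, 5), (80, 1), (81, 6), (82, 3), (83, 5), (84, 5), (85, 8), (86, 8), (87, 2), (88, 7), (89, 4), (90, 7), (91, 5), (92, 1), (93, 5), (94, 5), (95, 5), (96, 2), (97, 5), (98, 2), (99, 2), (102, 9), (103, 1), (104, 5), (106, 7), (107, 4), (108, 5), (109, 6), (110, 7), (111, 3), (112, 10), (114, 7), (115, 3), (116, 7), (117, 1), (119, 9), (120, 1),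 (121, 4), (122, 10), (123, 8), (124, 3), (125, 10), (126, 8), (127, 5), (128, 8), (129, 2), (130, 4), (131, 3), (132, 4)],
  [(1, 4), (2, 9), (3, 9), (4, 6), (5, 4), (6, 4), (7, 5), (8, 9), (9, 2), (10, 3), (11, 7), (12, 6), (13, 8), (14, 2), (15, 8), (16, 6), (17, 6), (18, 2), (20, 9), (21, 1), (22, 2), (23, 8), (24, 6), (25, 4), (26, 6), (27, 8), (29, 10), (30, 3), (31, 8), (32, 5), (33, 4), (34, 3), (35, 9), (36, 9), (37, 1), (38, 1), (40, 7), (41, 7), (45, 5), (46, 5), (47, 6), (48, 8), (49, 6), (50, 4), (52, 3), (53, 4), (54, 3), (55, 10), (56, 4), (57, 4), (58, 5), (59, 7), (60, 7), (61, 4), (62, 9), (63, 9), (64, 9), (65, 5), (66, 9), (67, 9), (68, 2), (69, 7), (70, 9), (71, 4), (72, 6), (73, 5), (74, 4), (75, 1), (76, 2), (77, 10), (78, 10), (79, 7), (80, 1), (85, 1), (86, 8), (87, 1), (88, 1), (91, 8), (92, 1), (93, 10), (95, 1), (97, 7), (98, 1), (99, 4), (101, 5), (102, 6), (103, 1), (104, 4), (105,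 7), (106, 5), (107, 3), (108, 3), (109, 4), (110, 5), (111, 1), (112, 3), (113, 1), (114, 4), (115, 3), (116, 7), (117, 6), (118, 9), (119, 10), (120, 4), (121, 7), (122, 9), (123, 3), (124, 8), (125, 3), (126, 1), (127, 9), (128, 4), (129, 10), (131, 4), (132, 7)],
  [(0, 9), (1, 2), (3, 4), (4, 8), (5, 7), (6, 7), (7, 2), (8, 5), (9, 1), (10, 2), (12, 4), (13, 6), (14, 8), (15, 2), (16, 10), (17, 8), (18, 8), (19, 3), (20, 8), (21, 5), (22, 6), (23, 8), (24, 9), (25, 8), (26, 2), (27, 1), (28, 9), (29, 9), (30, 8), (31, 6), (32, 4), (33, 6), (34, 9), (36, 2), (37, 8), (38, 3), (39, 7), (40, 10), (41, 5), (42, 1), (43, 7), (45, 5), (46, 1), (47, 2), (48, 8), (49, 6), (50, 7), (51, 6), (52, 8), (53, 9), (54, 3), (55, 10), (56, 5), (57, 5), (58, 1), (59, 10), (60, 10), (61, 7), (62, 2), (63, 4), (64, 3), (65, 6), (66, 2), (67, 8), (68, 6), (69, 8), (71, 10), (72, 5), (73, 9), (74, 8), (75, 4), (76, 3), (77, 8),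 (78, 3), (79, 8), (80, 6), (81, 9), (83, 9), (84, 10), (85, 7), (86, 6), (87, 5), (88, 10), (90, 6), (91, 3), (92, 7), (93, 6), (95, 10), (96, 7), (97, 3), (98, 5), (99, 7), (100, 3), (102, 2), (104, 7), (105, 9), (106, 6), (107, 5), (108, 8), (109, 5), (111, 5), (112, 5), (113, 7), (114, 10), (115, 8), (116, 4), (117, 5), (118, 5), (119, 6), (120, 10), (121, 4), (122, 5), (123, 5), (125, 6), (126, 1), (127, 1), (128, 1), (130, 9), (131, 10), (132, 1)],
  [(0, 1), (1, 4), (2, 9), (3, 3), (4, 1), (5, 9), (6, 10), (7, 5), (8, 9), (9, 2), (10, 9), (11, 8), (12, 2), (13, 8), (14, 9), (15, 8), (16, 2), (17, 2), (18, 9), (20, 9), (21, 4), (22, 8), (23, 10), (24, 2), (25, 4), (26, 6), (27, 8), (28, 6), (29, 8), (30, 7), (31, 9), (32, 9), (33, 10), (34, 2), (35, 9), (36, 3), (37, 4), (40, 3), (41, 6), (42, 6), (44, 6), (45, 10), (47, 7), (48, 3), (50, 4), (51, 7), (52, 2), (53, 5), (54, 3), (58, 4), (59, 3), (62, 10),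 (63, 9), (64, 8), (66, 8), (67, 3), (68, 8), (69, 7), (70, 4), (71, 4), (72, 10), (73, 1), (75, 7), (76, 8), (77, 2), (78, 3), (79, 8), (80, 1), (81, 8), (82, 2), (83, 6), (84, 6), (85, 8), (86, 3), (87, 4), (89, 4), (90, 10), (91, 3), (92, 3), (93, 8), (94, 6), (95, 6), (96, 4), (97, 4), (98, 5), (99, 4), (100, 8), (101, 9), (102, 9), (103, 1), (104, 10), (105, 9), (106, 4), (108, 2), (109, 2), (110, 7), (112, 2), (114, 2), (115, 6), (116, 2), (117, 4), (118, 9), (120, 2), (121, 4), (122, 2), (123, 2), (124, 3), (126, 2), (128, 7), (129, 5), (131, 2), (132, 9)]]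

/-- data -/
def d6_3 : SMat := [
  [(0, 2), (1, 6), (2, 1), (3, 9), (4, 10), (5, 2), (6, 7), (7, 5), (8, 1), (9, 5), (10, 6), (11, 6), (12, 4), (13, 8), (14, 9), (16, 7), (17, 4), (18, 8), (19, 1), (20, 8), (21, 2), (22, 6), (23, 4), (24, 6), (25, 8), (26, 1), (27, 8), (28, 5), (29, 10), (30, 9), (31, 4), (32, 8), (33, 9), (35, 6), (36, 1), (37, 4), (38, 6), (40, 5), (41, 1), (42, 7), (44, 10), (45, 3), (46, 6), (47, 7), (48, 4), (49, 9), (50, 6), (51, 9), (52, 9), (53, 10), (54, 9), (55, 9), (56, 7), (57, 7), (58, 7), (59, 7), (60, 8), (62, 10), (63, 8), (64, 6), (65, 8), (66, 4), (67, 9), (68, 10), (69, 9), (70, 6), (71, 10), (72, 7), (73, 6), (75, 9), (76, 6), (77, 3), (78, 4), (79, 6), (80, 1), (81, 7), (82, 4), (83, 6), (84, 5), (85, 8), (86, 2), (87, 2), (88, 8), (89, 5), (90, 7), (91, 5), (92, 1), (93, 6), (94, 6), (95, 6), (96, 2), (97, 5), (98, 2), (99, 8), (100, 10), (101, 10), (102, 9), (103, 2), (105,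 4), (106, 9), (108, 1), (109, 1), (110, 2), (111, 1), (112, 1), (114, 2), (115, 1), (116, 1), (117, 1), (118, 5), (120, 6), (121, 2), (122, 1), (123, 8), (124, 10), (125, 6), (126, 6), (128, 10), (130, 6), (131, 1), (132, 4)],
  [(0, 6), (1, 2), (2, 4), (3, 5), (4, 2), (5, 4), (6, 6), (7, 3), (9, 2), (11, 4), (12, 7), (14, 2), (15, 10), (17, 8), (18, 3), (19, 10), (20, 10), (21, 1), (23, 2), (24, 8), (25, 3), (26, 9), (27, 9), (28, 8), (29, 9), (30, 3), (31, 9), (32, 9), (33, 6), (34, 5), (35, 4), (36, 2), (37, 9), (38, 10), (39, 10), (40, 10), (41, 8), (42, 9), (43, 5), (44, 9), (45, 4), (47, 4), (48, 9), (49, 10), (50, 8), (51, 10), (52, 1), (53, 8), (54, 3), (56, 1), (57, 1), (58, 7), (59, 8), (60, 10), (61, 6), (62, 4), (63, 5), (64, 5), (65, 7), (66, 9), (67, 6), (68, 3), (69, 3), (71, 1), (72, 10), (73, 7), (74, 1), (75, 4), (76, 5), (77, 4), (78, 5), (79, 7), (80, 1), (81, 5), (82, 2), (83, 6), (84, 5),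 (86, 1), (87, 2), (88, 7), (89, 5), (90, 7), (91, 4), (92, 1), (93, 6), (94, 4), (95, 5), (96, 2), (97, 4), (98, 3), (99, 8), (101, 1), (102, 10), (103, 1), (105, 2), (106, 7), (107, 4), (108, 7), (109, 2), (110, 7), (111, 6), (112, 1), (114, 4), (115, 1), (116, 3), (117, 7), (118, 9), (120, 6), (121, 2), (122, 4), (123, 8), (124, 10), (125, 10), (126, 6), (127, 9), (128, 1), (129, 6), (130, 4), (131, 1), (132, 10)],
  [(0, 5), (2, 7), (3, 3), (4, 9), (5, 7), (6, 10), (7, 3), (8, 5), (9, 7), (10, 2), (11, 5), (12, 6), (13, 1), (14, 9), (16, 2), (19, 2), (21, 2), (22, 9), (24, 8), (25, 9), (26, 7), (27, 2), (28, 2), (30, 1), (31, 4), (33, 10), (34, 5), (35, 3), (36, 5), (37, 8), (39, 6), (40, 4), (41, 2), (42, 2), (43, 2), (44, 3), (45, 7), (46, 4), (47, 5), (48, 2), (49, 9), (51, 9), (52, 5), (54, 1), (55, 2), (56, 4), (57, 5), (58, 4), (59, 4), (60, 2), (61, 1), (62, 7), (63, 6), (64, 4), (65, 1), (66, 1), (67,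 4), (68, 4), (70, 9), (71, 6), (72, 7), (73, 6), (74, 4), (75, 5), (76, 4), (77, 3), (78, 2), (79, 4), (80, 4), (81, 9), (82, 7), (83, 5), (84, 6), (85, 8), (86, 6), (87, 9), (88, 1), (90, 4), (91, 8), (92, 7), (93, 2), (94, 6), (95, 10), (96, 3), (97, 5), (98, 2), (99, 10), (100, 3), (101, 1), (102, 1), (103, 3), (104, 7), (105, 4), (106, 4), (107, 4), (108, 3), (109, 2), (110, 2), (111, 2), (113, 4), (114, 7), (115, 5), (116, 7), (117, 2), (118, 1), (120, 2), (121, 4), (122, 4), (123, 7), (124, 3), (125, 3), (126, 5), (128, 8), (129, 3), (130, 8), (131, 6)],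
  [(0, 1), (1, 5), (2, 1), (3, 1), (4, 9), (5, 8), (6, 1), (7, 2), (8, 5), (9, 1), (11, 2), (12, 6), (13, 5), (14, 9), (16, 7), (17, 10), (18, 1), (19, 8), (20, 1), (21, 3), (22, 10), (23, 10), (24, 9), (25, 8), (26, 2), (27, 7), (28, 9), (29, 7), (30, 6), (31, 10), (32, 1), (33, 6), (34, 4), (35, 1), (36, 4), (37, 8), (39, 1), (40, 6), (41, 2), (42, 2), (43, 8), (44, 1), (45, 7), (46, 10), (47, 8), (48, 8), (49, 8), (50, 4), (51, 8), (52, 9), (53, 10), (54, 6), (55, 1), (57, 6), (60, 2), (61, 8), (62, 7), (63, 2), (65, 3), (66, 8), (69, 6), (70, 10), (71, 3), (72, 6), (73, 1), (75, 2), (77, 5), (78, 4), (79, 5), (80, 10), (81, 7), (82, 4), (83, 6), (84, 6), (85, 8), (86, 3), (87, 2), (88, 9), (89, 5), (90, 8), (91, 3), (92, 3), (93, 7), (94, 6), (95, 6), (96, 2), (97, 5), (98, 3), (99, 7), (101, 10), (102, 10), (103, 2), (104, 10), (105, 8), (106, 1), (107, 3), (108, 9), (109, 4), (110, 2), (111, 7), (112, 6),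 (113, 7), (114, 10), (115, 2), (116, 1), (118, 4), (119, 10), (120, 7), (121, 2), (122, 9), (123, 4), (124, 5), (125, 4), (126, 2), (127, 5), (128, 3), (129, 8), (130, 7), (131, 3), (132, 8)],
  [(0, 1), (1, 1), (2, 9), (3, 10), (4, 10), (5, 5), (6, 7), (7, 5), (8, 8), (9, 6), (10, 9), (12, 2), (13, 8), (14, 6), (15, 1), (16, 2), (17, 6), (18, 5), (19, 7), (20, 5), (21, 4), (22, 5), (23, 5), (24, 6), (25, 8), (26, 6), (27, 7), (28, 7), (29, 8), (30, 3), (31, 9), (32, 1), (33, 3), (34, 10), (35, 2), (36, 10), (37, 8), (38, 3), (39, 7), (40, 3), (41, 2), (42, 10), (43, 7), (44, 6), (45, 2), (47, 4), (48, 8), (49, 7), (50, 8), (51, 7), (52, 6), (53, 8), (54, 3), (56, 4), (57, 4), (59, 10), (60, 7), (61, 7), (62, 2), (63, 1), (64, 8), (65, 6), (66, 1), (67, 3), (69, 3), (70, 5), (71, 4), (72, 3), (73, 9), (74, 4), (76, 8), (77, 2), (78, 8), (79, 6), (80, 6), (81, 3), (82, 7), (83, 8), (84, 8), (85, 4), (86, 2), (87,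 1), (88, 9), (89, 2), (90, 9), (91, 10), (92, 6), (93, 8), (94, 8), (95, 8), (96, 1), (97, 8), (98, 1), (99, 3), (102, 10), (103, 6), (104, 10), (106, 7), (107, 4), (108, 5), (109, 6), (110, 7), (111, 5), (112, 10), (114, 5), (115, 3), (116, 7), (117, 1), (119, 9), (120, 1), (121, 4), (122, 10), (123, 8), (124, 3), (125, 10), (126, 8), (127, 5), (128, 8), (129, 2), (130, 4), (131, 3), (132, 4)],
  [(0, 5), (3, 6), (4, 5), (5, 7), (7, 2), (8, 5), (9, 3), (10, 9), (11, 2), (13, 4), (14, 9), (15, 1), (16, 2), (19, 2), (20, 7), (21, 3), (22, 5), (23, 4), (24, 9), (25, 9), (26, 7), (27, 2), (28, 2), (29, 7), (31, 9), (33, 7), (34, 4), (35, 7), (36, 5), (37, 9), (38, 10), (39, 2), (40, 5), (41, 3), (42, 8), (43, 6), (46, 4), (47, 9), (48, 9), (49, 7), (51, 2), (52, 4), (53, 4), (54, 7), (55, 3), (56, 5), (57, 5), (58, 4), (59, 4), (60, 6), (61, 6), (63, 6), (65, 2), (66, 2), (68, 7), (70, 5), (71, 3), (72, 2), (73,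 7), (74, 5), (75, 2), (76, 7), (77, 4), (78, 9), (79, 7), (80, 5), (81, 2), (82, 1), (83, 9), (84, 9), (86, 7), (87, 2), (89, 5), (90, 6), (91, 7), (92, 2), (93, 7), (94, 9), (95, 9), (96, 8), (97, 4), (98, 2), (99, 5), (100, 6), (101, 7), (102, 7), (103, 5), (104, 6), (105, 6), (106, 6), (107, 3), (108, 3), (109, 10), (110, 8), (111, 2), (113, 5), (114, 5), (115, 8), (116, 5), (117, 8), (118, 5), (119, 8), (120, 2), (121, 10), (122, 5), (125, 8), (126, 8), (127, 6), (128, 1), (129, 6), (130, 5), (131, 5), (132, 3)],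
  [(0, 9), (1, 8), (2, 5), (3, 9), (4, 9), (5, 9), (6, 4), (7, 6), (8, 8), (9, 8), (11, 7), (12, 3), (13, 2), (14, 5), (15, 6), (16, 7), (17, 6), (18, 5), (19, 1), (20, 5), (21, 2), (22, 4), (24, 9), (25, 4), (26, 8), (28, 1), (29, 10), (30, 7), (31, 10), (32, 9), (33, 9), (34, 8), (35, 5), (36, 8), (37, 8), (39, 1), (40, 2), (41, 5), (42, 10), (43, 1), (45, 4), (46, 7), (47, 5), (49, 8), (50, 5), (51, 1), (52, 9), (54, 10), (55, 8), (56, 3), (57, 3), (58, 3), (59, 1), (60, 1), (61, 8), (62, 4), (63, 9), (64, 6), (65, 5), (66, 7), (67, 5), (68, 6), (69, 10), (70, 9), (71, 1), (72, 9), (73, 4), (74, 3), (75, 1), (76, 9), (77, 1), (78, 7), (80, 7), (81, 1), (82, 3), (83, 7), (84, 1), (85, 7), (86, 3), (87, 10), (88, 6), (89, 9), (90, 7), (91, 10), (92, 7), (93, 1), (94, 5), (95, 6), (96, 6), (97, 3), (98, 9), (99, 6), (100, 8), (101, 7), (102, 1), (103, 6), (104, 8), (105, 4), (106, 1), (107, 4), (108, 10), (109,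 2), (110, 2), (112, 9), (113, 9), (114, 9), (115, 9), (116, 9), (117, 1), (118, 9), (119, 4), (120, 10), (121, 2), (122, 9), (124, 9), (126, 9), (127, 3), (130, 2), (131, 10)],
  [(0, 9), (1, 4), (2, 1), (3, 10), (4, 9), (5, 6), (6, 7), (7, 7), (8, 10), (9, 3), (10, 6), (11, 7), (12, 5), (13, 9), (14, 3), (15, 2), (16, 6), (17, 9), (18, 2), (19, 7), (20, 2), (21, 5), (22, 6), (23, 4), (24, 5), (25, 8), (26, 3), (27, 8), (28, 3), (29, 2), (30, 1), (31, 7), (32, 2), (33, 6), (34, 10), (35, 6), (36, 3), (37, 3), (38, 1), (39, 2), (40, 1), (41, 3), (42, 2), (43, 7), (44, 7), (45, 6), (47, 6), (48, 4), (49, 1), (50, 10), (51, 7), (52, 10), (53, 8), (55, 7), (57, 4), (58, 5), (59, 9), (60, 7), (61, 7), (62, 6), (63, 2), (64, 6), (66, 8), (67, 3), (68, 8), (69, 7), (70, 5), (71, 8), (73, 5), (75, 4), (76, 8), (77, 2), (78, 1), (79, 7), (80, 1), (81, 7), (82, 3), (83, 7), (84, 4), (85, 9), (86, 4), (87, 1), (88, 10),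 (89, 5), (90, 10), (91, 3), (92, 4), (93, 8), (94, 6), (95, 6), (96, 2), (97, 6), (98, 4), (99, 6), (100, 8), (101, 10), (102, 10), (103, 2), (104, 9), (105, 1), (106, 9), (107, 10), (108, 9), (110, 1), (111, 6), (113, 10), (114, 6), (115, 1), (116, 5), (117, 3), (118, 3), (119, 10), (120, 4), (121, 7), (122, 10), (123, 7), (124, 5), (125, 5), (126, 1), (127, 4), (129, 2), (130, 7), (131, 4), (132, 9)]]

/-- data -/
def d6_4 : SMat := [
  [(0, 2), (1, 8), (2, 7), (4, 5), (5, 7), (7, 6), (8, 8), (9, 6), (10, 8), (11, 7), (12, 4), (13, 8), (14, 5), (15, 10), (16, 3), (17, 4), (18, 7), (19, 10), (20, 7), (21, 1), (23, 5), (24, 5), (25, 9), (26, 10), (27, 9), (28, 5), (29, 10), (30, 3), (31, 10), (32, 7), (33, 3), (34, 1), (35, 7), (36, 6), (37, 9), (39, 10), (40, 8), (41, 5), (42, 8), (43, 10), (44, 6), (45, 8), (47, 10), (48, 9), (49, 10), (50, 8), (51, 10), (52, 5), (53, 5), (54, 3), (56, 1), (57, 1), (59, 1),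 (60, 10), (61, 10), (62, 4), (63, 6), (64, 10), (65, 1), (66, 9), (67, 1), (68, 10), (69, 3), (71, 2), (72, 3), (73, 7), (74, 5), (75, 2), (76, 10), (77, 10), (78, 3), (79, 8), (81, 8), (82, 9), (83, 8), (84, 3), (85, 2), (87, 5), (88, 8), (89, 9), (90, 2), (91, 3), (92, 7), (93, 3), (94, 9), (95, 3), (96, 3), (97, 3), (98, 5), (99, 1), (100, 5), (101, 9), (102, 6), (103, 4), (104, 5), (105, 2), (106, 4), (107, 10), (108, 2), (109, 7), (110, 3), (111, 7), (112, 5), (113, 10), (114, 6), (115, 2), (117, 7), (118, 7), (119, 4), (120, 1), (121, 6), (122, 9), (123, 10), (124, 3), (125, 8), (126, 4), (127, 8), (128, 8), (129, 1), (130, 8), (131, 1), (132, 10)],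
  [(0, 1), (1, 9), (2, 8), (3, 2), (4, 2), (5, 5), (6, 4), (7, 9), (8, 4), (9, 8), (10, 10), (11, 10), (13, 1), (14, 8), (15, 10), (17, 7), (18, 8), (19, 5), (20, 5), (21, 2), (22, 5), (23, 1), (24, 1), (25, 4), (26, 8), (27, 8), (28, 1), (29, 10), (30, 2), (31, 3), (32, 9), (33, 6), (34, 1), (35, 9), (36, 8), (37, 8), (39, 5), (40, 8), (41, 8), (42, 10), (43, 4), (44, 3), (45, 3), (46, 10), (47, 5), (48, 4), (49, 5), (50, 2), (51, 4), (52, 2), (53, 8), (54, 9), (55, 5), (56, 6), (57, 6), (60, 9), (61, 4), (62, 3), (63, 9), (64, 10), (65, 5), (66, 4), (67, 1), (68, 10), (69, 2), (70, 5), (71, 6), (72, 7), (73, 1), (74, 10), (75, 9), (76, 3), (77, 7), (78, 6), (79, 4), (80, 10), (81, 5), (82, 8), (83, 6), (84, 6), (85, 3), (86, 7), (87, 8), (88, 3), (89, 7), (90, 4), (91, 9), (92, 8), (93, 4), (94, 6), (95, 6), (96, 9), (97, 5), (98, 8), (99, 4), (100, 1), (101, 1), (102, 1), (103, 10), (104, 1), (105, 1), (106,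 7), (107, 6), (109, 10), (110, 10), (111, 4), (112, 5), (113, 5), (114, 5), (115, 10), (116, 5), (117, 5), (118, 5), (119, 10), (120, 5), (121, 10), (122, 6), (124, 4), (125, 6), (126, 10), (128, 1), (129, 10), (131, 4), (132, 5)],
  [(0, 8), (1, 10), (2, 3), (3, 3), (4, 10), (6, 1), (7, 1), (8, 1), (9, 4), (10, 6), (11, 10), (12, 10), (13, 5), (14, 9), (15, 3), (17, 4), (18, 6), (19, 6), (20, 7), (22, 8), (23, 2), (24, 10), (25, 4), (27, 3), (28, 4), (29, 4), (30, 1), (31, 7), (32, 7), (33, 8), (34, 2), (35, 7), (36, 3), (37, 3), (39, 6), (40, 7), (41, 4), (42, 8), (43, 6), (44, 4), (45, 10), (46, 6), (47, 5), (48, 3), (50, 9), (52, 4), (53, 1), (54, 1), (55, 5), (56, 6), (57, 1), (58, 6), (59, 3), (60, 7), (61, 6), (62, 10), (63, 7), (64, 3), (66, 10), (67, 8), (68, 3), (69, 1), (70, 8), (71, 10), (72, 2), (73, 7), (74, 6), (75, 6), (76, 3), (77, 5), (78, 8), (79, 6), (81, 5), (82, 4), (83, 6), (84, 5), (85,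 4), (88, 6), (89, 5), (90, 7), (91, 5), (92, 1), (93, 5), (94, 4), (95, 5), (96, 10), (97, 5), (98, 1), (99, 10), (100, 2), (105, 8), (106, 8), (107, 3), (108, 8), (109, 9), (110, 6), (111, 6), (112, 6), (113, 8), (114, 5), (115, 3), (116, 8), (119, 3), (120, 2), (121, 8), (122, 8), (123, 3), (125, 10), (126, 8), (127, 3), (128, 3), (129, 6), (130, 2), (131, 8), (132, 3)],
  [(0, 7), (2, 9), (3, 6), (4, 6), (5, 9), (6, 7), (7, 5), (8, 2), (9, 5), (10, 6), (11, 4), (12, 2), (13, 1), (14, 2), (15, 1), (16, 5), (17, 2), (18, 3), (19, 7), (20, 2), (21, 4), (22, 5), (23, 1), (24, 6), (25, 8), (26, 6), (27, 4), (28, 6), (29, 1), (31, 1), (32, 2), (33, 10), (34, 3), (35, 8), (36, 3), (37, 4), (41, 6), (42, 10), (43, 7), (44, 10), (45, 6), (47, 3), (48, 4), (49, 7), (51, 7), (52, 6), (53, 1), (55, 7), (57, 4), (58, 4), (59, 3), (60, 7), (61, 7), (62, 6), (63, 9), (64, 1), (65, 4), (66, 1), (67, 10), (68, 1), (69, 6),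 (70, 5), (71, 8), (72, 10), (73, 1), (76, 1), (77, 2), (78, 10), (79, 1), (80, 6), (81, 7), (83, 7), (84, 6), (85, 1), (86, 8), (87, 7), (88, 3), (89, 4), (90, 8), (91, 3), (92, 3), (93, 8), (94, 3), (96, 5), (97, 6), (98, 8), (99, 6), (100, 8), (101, 3), (102, 6), (103, 7), (104, 9), (105, 8), (106, 7), (107, 5), (108, 10), (109, 3), (110, 5), (111, 4), (112, 3), (113, 5), (114, 8), (115, 10), (116, 1), (117, 2), (118, 5), (119, 5), (120, 7), (121, 1), (122, 3), (123, 3), (124, 2), (125, 5), (126, 8), (127, 3), (128, 4), (129, 1), (130, 1), (131, 8), (132, 2)],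
  [(0, 9), (1, 4), (2, 1), (3, 8), (4, 2), (5, 5), (6, 9), (7, 2), (8, 4), (12, 7), (13, 9), (15, 2), (17, 6), (18, 5), (19, 2), (20, 2), (21, 2), (22, 5), (23, 10), (24, 2), (26, 5), (27, 7), (28, 5), (29, 6), (30, 9), (31, 7), (32, 9), (33, 6), (34, 8), (35, 4), (36, 3), (37, 5), (39, 2), (40, 10), (41, 9), (42, 6), (43, 5), (44, 1), (45, 7), (47, 8), (48, 9), (49, 4), (50, 8), (51, 8), (52, 8), (53, 4), (54, 2), (55, 4), (56, 7), (57, 7), (58, 7), (59, 9), (60, 4), (61, 9), (62, 5), (63, 6), (64, 2), (65, 3), (66, 4), (68, 2), (69, 3), (70, 5), (71, 7), (72, 1), (73, 4), (74, 7), (75, 9), (77, 9), (78, 8), (79, 3), (80, 1), (81, 4), (82, 8), (83, 4), (84, 6), (85, 2), (86, 5), (87, 9), (89, 4), (90, 4), (91, 9), (92, 6), (93, 2), (94, 3), (95, 4), (97, 4), (98, 6), (99, 6), (100, 4), (101, 2), (102, 2), (103, 8), (104, 3), (105, 10), (106, 10), (107, 8), (109, 3), (110, 5), (111, 1), (112, 3), (113, 6), (115,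 5), (116, 1), (117, 5), (118, 10), (119, 3), (120, 4), (121, 3), (122, 3), (123, 3), (124, 7), (125, 3), (126, 9), (127, 4), (128, 2), (129, 6), (130, 2), (132, 9)],
  [(0, 5), (1, 4), (3, 4), (4, 8), (5, 3), (7, 3), (9, 5), (10, 1), (11, 1), (12, 1), (13, 9), (14, 9), (15, 2), (17, 7), (19, 3), (20, 3), (21, 8), (22, 3), (23, 1), (24, 8), (25, 9), (26, 5), (27, 1), (28, 5), (29, 6), (30, 3), (31, 2), (32, 3), (33, 7), (34, 5), (35, 10), (36, 5), (37, 10), (39, 3), (40, 4), (41, 9), (42, 5), (43, 4), (44, 6), (45, 8), (46, 1), (47, 3), (48, 5), (49, 10), (50, 8), (51, 4), (52, 8), (53, 5), (54, 7), (55, 10), (56, 1), (57, 1), (58, 7), (59, 10), (60, 10), (61, 10), (62, 1), (63, 3), (64, 2), (65, 2), (66, 5), (67, 5), (68, 2), (69, 3), (70, 3), (71, 8), (72, 1), (73, 9), (74, 8), (75, 8), (76, 6), (77, 8), (78, 7), (79, 4), (80, 9), (81, 5), (82, 9), (83, 6), (84, 7), (85, 2), (86, 7), (87, 8), (88, 2), (89, 7),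 (90, 2), (91, 8), (92, 8), (93, 5), (94, 6), (95, 6), (96, 8), (97, 5), (98, 7), (99, 5), (100, 1), (101, 1), (102, 2), (103, 9), (105, 10), (106, 1), (107, 1), (108, 2), (109, 3), (110, 7), (111, 10), (112, 3), (113, 6), (114, 4), (115, 9), (116, 1), (117, 7), (118, 6), (119, 5), (120, 2), (121, 9), (122, 3), (123, 3), (124, 3), (125, 8), (126, 9), (127, 6), (128, 9), (129, 6), (130, 9), (131, 2), (132, 5)],
  [(0, 7), (1, 5), (2, 10), (3, 3), (4, 7), (5, 4), (7, 4), (8, 9), (9, 2), (10, 8), (11, 6), (12, 8), (14, 7), (15, 3), (16, 9), (17, 8), (18, 10), (19, 5), (20, 3), (21, 10), (22, 8), (23, 6), (24, 7), (25, 8), (26, 2), (27, 4), (28, 2), (29, 2), (30, 2), (31, 5), (32, 8), (33, 10), (34, 8), (35, 10), (36, 8), (37, 4), (38, 5), (39, 5), (40, 1), (41, 6), (42, 5), (43, 5), (44, 5), (46, 10), (47, 2), (48, 4), (49, 1), (50, 5), (51, 1), (52, 7), (53, 10), (54, 6), (55, 1), (56, 6), (57, 10), (59, 8), (60,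 1), (61, 1), (62, 4), (63, 3), (64, 2), (65, 5), (66, 3), (67, 9), (68, 9), (69, 2), (70, 8), (71, 5), (72, 5), (73, 8), (74, 6), (75, 2), (76, 2), (77, 2), (78, 7), (79, 5), (80, 2), (81, 6), (82, 10), (83, 6), (84, 6), (85, 5), (87, 7), (88, 2), (89, 6), (90, 1), (91, 6), (92, 2), (93, 10), (94, 6), (95, 6), (96, 10), (97, 2), (99, 1), (100, 10), (102, 8), (103, 6), (104, 3), (105, 10), (106, 10), (107, 4), (109, 1), (110, 7), (111, 1), (112, 1), (113, 1), (114, 5), (115, 3), (116, 1), (117, 1), (118, 1), (119, 4), (120, 2), (121, 1), (122, 1), (123, 1), (125, 1), (126, 2), (127, 6), (128, 1), (129, 9), (132, 6)],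
  [(0, 1), (1, 9), (2, 9), (3, 6), (4, 1), (5, 2), (7, 1), (8, 2), (9, 6), (10, 7), (11, 4), (12, 1), (13, 2), (14, 6), (15, 1), (16, 4), (17, 1), (18, 2), (20, 10), (21, 9), (22, 9), (23, 7), (24, 6), (25, 8), (26, 10), (27, 3), (28, 6), (29, 9), (30, 8), (31, 4), (32, 10), (33, 3), (34, 6), (35, 9), (36, 9), (37, 7), (38, 1), (39, 1), (40, 5), (41, 10), (42, 6), (43, 6), (44, 4), (45, 6), (47, 2), (48, 8), (49, 7), (50, 10), (51, 3), (52, 2), (53, 1), (54, 8), (55, 6), (56, 8), (57, 4), (58, 4), (59, 10), (60, 3), (62, 6), (63, 10), (64, 6), (65, 5), (66, 8), (67, 5), (68, 8), (69, 7), (70, 5), (71, 8), (72, 10), (74, 10), (75, 4), (76, 8), (77, 1), (78, 1), (79, 9), (80, 9), (81, 2), (82, 1), (83, 1), (85, 9), (86, 7), (87, 9), (89, 2), (91, 3), (92, 9), (93, 9), (94, 10), (95, 10), (97, 9), (98, 9), (99, 2), (100, 1), (103, 10), (104, 2), (105, 3), (106, 10), (107, 3), (108, 2), (109, 8), (110, 6), (111, 10),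 (112, 10), (113, 3), (114, 2), (115, 4), (116, 3), (117, 6), (118, 5), (119, 8), (120, 6), (121, 8), (122, 6), (123, 3), (124, 8), (125, 8), (126, 4), (127, 7), (128, 2), (129, 2), (130, 7), (132, 8)]]

/-- data -/
def d6_5 : SMat := [
  [(0, 3), (1, 1), (2, 7), (4, 4), (6, 4), (7, 7), (8, 7), (9, 4), (10, 3), (11, 3), (12, 4), (13, 10), (14, 4), (15, 8), (16, 4), (17, 4), (18, 7), (20, 7), (22, 9), (25, 8), (26, 4), (27, 8), (29, 4), (30, 9), (32, 3), (33, 8), (34, 3), (35, 7), (36, 7), (37, 8), (39, 4), (40, 9), (41, 4), (42, 8), (45, 10), (46, 7), (47, 4), (48, 8), (49, 4), (50, 1), (52, 4), (53, 7), (54, 3), (55, 4), (57, 6), (59, 10), (62, 10), (63, 3), (64, 4), (65, 7), (66, 4), (67, 7), (68, 4), (69, 9), (70, 4), (72, 1), (73, 5), (75, 5), (76, 4), (77, 10), (78, 8), (79, 2), (80, 3), (81, 10), (82, 3), (83, 10), (85, 1), (86, 1), (87, 1), (88, 9), (89, 1), (90, 7), (91, 3), (92, 9), (93, 10), (94, 1),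 (96, 1), (97, 1), (99, 5), (100, 5), (101, 4), (102, 9), (103, 9), (104, 1), (105, 10), (106, 1), (109, 10), (110, 9), (111, 1), (112, 1), (113, 1), (114, 7), (115, 2), (116, 10), (117, 8), (118, 3), (119, 1), (120, 7), (121, 8), (122, 8), (123, 9), (124, 4), (125, 8), (128, 4), (129, 2), (130, 9), (131, 10), (132, 2)],
  [(0, 5), (1, 9), (2, 5), (3, 6), (4, 9), (5, 6), (7, 2), (9, 8), (10, 10), (11, 7), (12, 10), (13, 5), (14, 9), (15, 6), (17, 10), (18, 1), (19, 1), (20, 1), (21, 10), (22, 5), (23, 8), (24, 9), (25, 8), (26, 8), (27, 8), (28, 8), (29, 7), (30, 6), (31, 3), (32, 1), (33, 1), (34, 4), (35, 1), (36, 4), (37, 8), (39, 1), (40, 1), (41, 9), (42, 7), (43, 5), (44, 7), (46, 10), (47, 2), (48, 8), (49, 1), (50, 9), (51, 1), (52, 9), (53, 4), (54, 2), (55, 1), (56, 10), (57, 10), (58, 10), (59, 4), (60, 1), (61, 1), (62, 7), (63, 2), (64, 6), (65, 9), (66, 7), (67, 9), (68, 6), (69, 2), (70, 5), (71,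 9), (72, 7), (73, 5), (74, 10), (75, 2), (76, 6), (77, 2), (78, 9), (79, 2), (80, 6), (81, 3), (82, 7), (83, 8), (84, 8), (85, 4), (86, 7), (87, 10), (88, 4), (89, 2), (90, 9), (91, 2), (92, 8), (93, 3), (94, 8), (95, 7), (96, 1), (97, 3), (98, 7), (99, 4), (100, 5), (102, 10), (103, 6), (105, 6), (106, 3), (107, 5), (108, 8), (110, 6), (111, 8), (113, 5), (114, 5), (115, 7), (116, 2), (117, 3), (118, 5), (119, 4), (120, 8), (124, 5), (126, 5), (127, 7), (130, 6), (131, 5), (132, 9)],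
  [(0, 8), (1, 8), (2, 7), (3, 5), (5, 2), (6, 4), (8, 7), (9, 1), (10, 8), (11, 1), (12, 4), (13, 2), (14, 5), (15, 5), (16, 4), (17, 10), (18, 7), (19, 10), (20, 7), (21, 1), (22, 2), (23, 5), (24, 5), (25, 9), (26, 5), (27, 9), (28, 5), (29, 10), (30, 3), (31, 5), (33, 9), (34, 6), (35, 2), (36, 1), (37, 4), (38, 5), (39, 4), (40, 3), (41, 5), (42, 3), (43, 4), (44, 6), (45, 8), (46, 5), (47, 5), (48, 5), (49, 10), (50, 8), (51, 10), (52, 5), (53, 10), (54, 3), (55, 6), (56, 7), (57, 7), (59, 6), (60, 4), (61, 10), (62, 8), (64, 10), (65, 6), (66, 9), (67, 1), (68, 6), (69, 3), (70, 6), (71, 7), (72, 9), (73, 8), (75, 8), (76, 10), (77, 8), (78, 10), (79, 1), (81, 2), (82, 10), (83, 2), (84, 1), (85, 2), (86, 2), (87, 2), (88, 3), (90, 2), (91, 10), (92, 2), (93, 2), (95, 1), (96, 2), (98, 3), (99, 8), (100, 9), (101, 10), (102, 10), (103, 2), (104, 10), (105, 1), (106, 9), (108, 10), (109, 2), (110, 9), (111,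 1), (112, 8), (113, 6), (114, 3), (115, 3), (117, 3), (119, 10), (120, 10), (121, 8), (122, 9), (123, 7), (124, 2), (125, 9), (126, 8), (127, 3), (129, 5), (130, 7), (131, 3), (132, 6)],
  [(0, 3), (2, 7), (3, 7), (5, 7), (6, 9), (7, 6), (8, 2), (9, 6), (11, 1), (12, 9), (13, 3), (14, 6), (15, 10), (16, 9), (17, 4), (18, 4), (19, 5), (21, 6), (22, 6), (23, 5), (24, 8), (25, 4), (26, 10), (27, 4), (29, 10), (30, 2), (31, 1), (33, 8), (34, 7), (35, 2), (36, 7), (37, 9), (39, 9), (40, 7), (42, 8), (43, 4), (44, 4), (45, 3), (48, 8), (50, 4), (51, 4), (52, 10), (53, 5), (54, 6), (55, 4), (59, 5), (61, 9), (62, 1), (63, 4), (64, 10), (65, 4), (66, 9), (67, 3), (68, 10), (69, 7), (70, 6), (72, 10), (73, 8), (75, 1), (76, 8), (77, 9), (78, 8), (79, 4), (80, 9), (81, 3), (82, 7), (83, 5), (84, 6), (85, 2), (86, 5), (87, 9), (89, 5), (90, 4), (91, 8), (92, 6), (93, 1), (94, 2), (95, 4), (96, 3), (97, 5), (98, 7), (99,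 5), (100, 4), (101, 1), (102, 1), (103, 8), (104, 2), (107, 3), (108, 1), (109, 6), (110, 6), (111, 6), (112, 4), (113, 3), (114, 7), (115, 5), (117, 6), (118, 2), (119, 4), (120, 2), (121, 8), (122, 8), (124, 3), (125, 4), (126, 5), (128, 5), (129, 3), (130, 8), (131, 9), (132, 2)],
  [(0, 7), (1, 10), (2, 10), (3, 6), (4, 6), (5, 5), (7, 4), (8, 3), (9, 7), (10, 5), (11, 4), (12, 9), (13, 8), (14, 7), (16, 4), (17, 2), (18, 3), (19, 6), (20, 9), (21, 9), (22, 5), (23, 9), (25, 3), (26, 1), (27, 9), (28, 5), (29, 6), (30, 1), (31, 7), (32, 9), (33, 8), (34, 4), (35, 9), (36, 4), (37, 2), (39, 6), (40, 6), (42, 10), (43, 7), (44, 2), (45, 1), (46, 9), (47, 4), (48, 8), (49, 9), (50, 10), (51, 2), (52, 2), (53, 2), (55, 2), (56, 4), (57, 5), (58, 5), (59, 9), (60, 2), (61, 7), (62, 1), (63, 9), (65, 3), (66, 2), (69, 1), (70, 5), (71, 3), (72, 10), (73, 6), (74, 1), (75, 4), (77, 2), (78, 8), (79, 4), (80, 6),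 (81, 2), (82, 3), (83, 3), (84, 2), (85, 8), (86, 6), (87, 7), (88, 9), (89, 2), (90, 4), (91, 7), (92, 6), (93, 8), (94, 1), (95, 2), (96, 2), (97, 7), (98, 2), (99, 9), (100, 6), (101, 1), (102, 10), (103, 6), (104, 6), (105, 8), (106, 4), (107, 7), (108, 9), (109, 5), (110, 4), (111, 7), (113, 5), (114, 1), (115, 5), (116, 10), (117, 6), (118, 3), (119, 6), (120, 1), (121, 5), (122, 7), (123, 9), (124, 6), (126, 1), (127, 1), (128, 8), (129, 4), (130, 2), (131, 5), (132, 6)],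
  [(0, 6), (1, 2), (2, 8), (3, 3), (4, 8), (5, 10), (6, 4), (7, 4), (8, 4), (9, 7), (10, 10), (11, 6), (12, 1), (13, 2), (14, 1), (15, 8), (16, 1), (17, 1), (18, 3), (19, 10), (20, 6), (21, 7), (22, 4), (23, 8), (24, 1), (25, 8), (26, 1), (27, 2), (29, 4), (30, 3), (31, 8), (32, 6), (33, 5), (34, 3), (35, 4), (36, 3), (37, 1), (38, 6), (39, 7), (40, 2), (41, 3), (42, 5), (43, 4), (44, 3), (45, 9), (47, 5), (48, 4), (50, 2), (51, 4), (52, 8), (53, 10), (54, 5), (59, 7), (60, 5), (61, 4), (62, 9), (63, 10), (64, 4), (66, 9), (67, 7), (68, 3), (69, 3), (70, 9), (72, 1), (73, 10), (74, 9), (75, 2), (76, 4), (77, 2), (78, 9), (80, 7), (81, 2), (82, 2), (83, 2), (84, 2), (86, 3), (87, 7), (88, 5), (89, 2), (90, 2), (91, 6), (92, 7), (93, 9), (94, 2), (95, 2), (97, 6), (98, 3), (99, 8), (100, 9), (103, 2), (104, 8), (106, 8), (107, 3), (108, 9), (109, 3), (110, 10), (111, 3), (112, 6), (113, 1), (114, 7), (115, 7), (116,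 10), (117, 6), (119, 9), (120, 6), (121, 3), (122, 6), (123, 5), (124, 8), (125, 6), (126, 5), (127, 7), (128, 3), (129, 1), (130, 2), (131, 9), (132, 1)],
  [(0, 7), (1, 8), (2, 7), (3, 4), (6, 4), (7, 7), (8, 3), (9, 7), (10, 3), (11, 4), (12, 8), (13, 3), (14, 6), (16, 8), (17, 4), (18, 7), (19, 4), (21, 7), (22, 3), (23, 8), (24, 4), (25, 4), (27, 4), (28, 7), (29, 7), (30, 10), (31, 3), (32, 7), (33, 4), (34, 7), (35, 7), (37, 8), (39, 4), (40, 3), (42, 4), (43, 4), (44, 3), (45, 7), (46, 1), (47, 4), (48, 8), (49, 4), (50, 8), (51, 4), (53, 4), (54, 10), (55, 8), (57, 7), (60, 10), (61, 8), (62, 7), (64, 7), (65, 3), (67, 6), (68, 7), (69, 3), (70, 3), (73, 8), (75, 8), (76, 7), (77, 9), (78, 8), (79, 3), (80, 7), (81, 4), (82, 8), (83, 9), (84, 6), (85, 2), (86, 5), (87, 9), (89, 4), (90, 4), (91, 9), (92, 6), (93, 2), (94, 3), (95, 4), (97, 4), (98, 6), (99, 6), (100, 4), (101, 2), (102, 2), (103, 8),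 (104, 3), (105, 1), (106, 1), (107, 8), (109, 3), (110, 7), (111, 10), (112, 3), (113, 4), (115, 5), (116, 10), (117, 7), (118, 6), (119, 3), (120, 2), (121, 3), (122, 3), (123, 3), (124, 3), (125, 3), (126, 7), (127, 8), (128, 10), (129, 3), (130, 4), (132, 7)],
  [(1, 9), (2, 10), (3, 8), (4, 1), (5, 4), (6, 4), (7, 10), (8, 10), (9, 3), (10, 2), (12, 1), (13, 6), (14, 3), (15, 4), (16, 1), (17, 1), (18, 3), (19, 5), (20, 3), (21, 6), (22, 10), (23, 9), (24, 1), (25, 4), (26, 7), (27, 4), (28, 7), (29, 10), (30, 9), (31, 9), (32, 10), (33, 4), (34, 3), (35, 4), (36, 8), (37, 2), (38, 6), (39, 4), (40, 2), (41, 7), (44, 6), (45, 10), (46, 6), (47, 6), (48, 8), (49, 1), (50, 9), (52, 3), (53, 9), (54, 2), (55, 5), (56, 4), (59, 1), (60, 7), (61, 4), (62, 3), (63, 3), (64, 10), (65, 5), (66, 4), (67, 4), (68, 3), (69, 2), (70, 10), (71, 4), (72, 1), (73, 7), (75, 8), (76, 3), (77, 1), (78, 1), (79, 10), (81, 10),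 (82, 10), (83, 10), (86, 9), (88, 9), (89, 10), (91, 1), (92, 9), (93, 9), (94, 10), (95, 10), (97, 10), (98, 10), (99, 1), (100, 2), (101, 1), (103, 10), (104, 1), (105, 5), (106, 6), (107, 1), (108, 6), (110, 8), (111, 6), (112, 10), (113, 2), (114, 3), (115, 7), (116, 7), (117, 5), (118, 8), (119, 8), (120, 2), (122, 10), (123, 4), (124, 2), (125, 5), (126, 8), (127, 7), (128, 10), (130, 5), (132, 10)]]

/-- data -/
def d6_6 : SMat := [
  [(0, 1), (1, 5), (2, 5), (3, 8), (4, 6), (5, 9), (6, 1), (7, 5), (8, 8), (9, 9), (10, 1), (11, 6), (12, 3), (13, 8), (14, 1), (16, 10), (17, 2), (18, 9), (19, 7), (20, 9), (21, 3), (22, 3), (23, 3), (24, 6), (25, 8), (26, 9), (27, 8), (28, 1), (29, 7), (30, 6), (31, 6), (32, 5), (33, 2), (35, 9), (36, 5), (37, 1), (39, 7), (40, 10), (41, 5), (42, 10), (43, 8), (44, 8), (45, 7), (47, 8), (48, 7), (49, 8), (50, 5), (51, 8), (52, 2), (53, 2), (54, 6), (55, 1), (56, 4), (57, 3),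 (60, 8), (61, 1), (62, 7), (63, 5), (65, 3), (66, 8), (69, 2), (70, 3), (71, 7), (72, 9), (73, 5), (74, 4), (75, 3), (77, 2), (78, 5), (79, 8), (80, 2), (81, 6), (82, 5), (83, 4), (84, 5), (85, 9), (86, 4), (87, 3), (88, 9), (89, 5), (90, 7), (91, 2), (92, 1), (93, 6), (94, 6), (95, 8), (96, 3), (97, 6), (98, 3), (99, 9), (100, 10), (101, 2), (102, 9), (103, 3), (104, 10), (105, 8), (106, 8), (107, 9), (108, 3), (109, 5), (110, 2), (111, 5), (113, 3), (114, 8), (115, 9), (116, 8), (117, 5), (118, 9), (119, 2), (120, 2), (121, 8), (122, 10), (123, 10), (124, 4), (125, 5), (126, 1), (127, 10), (128, 1), (130, 2), (131, 3), (132, 6)],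
  [(0, 2), (1, 4), (2, 7), (3, 2), (4, 4), (5, 6), (6, 4), (7, 7), (8, 7), (10, 5), (11, 2), (12, 4), (13, 3), (15, 9), (16, 4), (17, 4), (19, 4), (22, 9), (23, 6), (24, 4), (25, 4), (26, 4), (27, 4), (28, 5), (29, 10), (30, 3), (31, 6), (32, 7), (33, 2), (34, 3), (35, 7), (36, 2), (37, 8), (40, 7), (41, 4), (42, 9), (44, 9), (45, 9), (46, 1), (47, 6), (48, 8), (50, 4), (53, 6), (54, 3), (55, 10), (56, 4), (58, 5), (59, 7), (60, 7), (61, 4), (62, 9), (64, 9), (65, 1), (66, 9), (67, 9), (68, 9), (69, 7), (70, 5), (71, 4), (72, 9), (73, 1), (76, 9), (77, 10), (78, 10), (79, 1), (80, 5), (82, 6), (83, 6), (85, 5), (86, 6), (87, 1), (88, 1), (91, 6), (92, 1), (93, 5), (94, 5), (95, 1), (96, 7), (97, 5), (98, 1), (99, 6), (101, 7), (102, 1), (103, 1), (104, 6), (106, 9), (107, 2), (108, 3), (109, 10), (111, 10), (112, 1), (114, 4), (115, 1), (116, 3), (117, 9), (119, 9), (120, 4), (121, 2), (122, 1), (123, 10), (124,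 10), (125, 1), (126, 2), (127, 9), (128, 10), (129, 8), (130, 10), (131, 9)],
  [(0, 9), (1, 5), (2, 7), (3, 2), (4, 5), (5, 7), (7, 6), (8, 1), (9, 10), (11, 9), (12, 10), (13, 8), (14, 5), (15, 4), (16, 5), (17, 4), (18, 1), (19, 6), (20, 4), (21, 6), (22, 2), (23, 7), (24, 9), (25, 4), (26, 10), (27, 9), (28, 10), (29, 3), (30, 1), (31, 8), (33, 7), (34, 1), (35, 7), (36, 8), (37, 9), (39, 10), (40, 2), (41, 10), (42, 1), (43, 6), (44, 2), (45, 10), (46, 5), (48, 9), (49, 1), (50, 4), (51, 5), (52, 4), (54, 1), (55, 6), (56, 1), (57, 5), (58, 1), (59, 1), (61, 6), (62, 8), (64, 8), (65, 10), (66, 9), (67, 3), (68, 8), (69, 1), (70, 9), (72, 2), (73, 2), (74, 1), (75, 6), (76, 8), (86, 1), (87, 10), (88, 1), (92, 9), (98, 1), (101, 10), (102, 1), (106, 7), (107, 4), (108, 6), (109, 4), (110, 8), (112, 4), (113, 9), (114, 1), (115, 2), (116, 6), (117, 10), (118, 5), (119, 5), (120, 6), (121, 10), (122, 5), (123,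 8), (124, 10), (125, 8), (127, 7), (128, 10), (129, 5), (130, 6), (131, 1), (132, 8)],
  [(0, 4), (1, 4), (2, 7), (3, 8), (4, 4), (5, 6), (6, 7), (7, 7), (9, 9), (10, 1), (11, 4), (12, 6), (13, 2), (14, 9), (15, 2), (16, 7), (18, 7), (19, 6), (20, 7), (21, 9), (22, 7), (23, 4), (24, 5), (25, 2), (26, 5), (27, 9), (28, 5), (29, 7), (30, 7), (31, 8), (33, 2), (34, 9), (35, 6), (36, 8), (37, 5), (38, 5), (39, 7), (40, 7), (41, 9), (42, 2), (43, 7), (44, 3), (46, 5), (47, 1), (48, 9), (49, 6), (50, 4), (51, 7), (52, 9), (53, 8), (55, 6), (59, 4), (61, 2), (63, 7), (64, 7), (65, 6), (66, 9), (67, 8), (68, 3), (69, 7), (70, 7), (72, 6), (73, 2), (74, 7), (75, 5), (76, 3), (77, 4), (78, 5), (79, 6), (80, 1), (81, 7), (82, 5), (83, 6), (84, 6), (85, 7), (86, 3), (87, 1), (88, 8), (89, 7), (90, 5), (91, 4), (92, 3), (93, 9), (94, 8), (95, 7), (96, 9), (97, 7), (98, 2), (99, 9), (100, 8), (101, 10), (102, 1), (103, 1),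 (104, 8), (105, 2), (106, 8), (107, 7), (108, 6), (109, 10), (110, 6), (111, 3), (112, 3), (113, 2), (114, 6), (115, 10), (116, 4), (117, 6), (118, 7), (119, 4), (120, 6), (121, 5), (122, 6), (123, 5), (124, 3), (125, 4), (126, 10), (127, 1), (128, 9), (129, 4), (130, 7), (131, 6), (132, 9)],
  [(0, 7), (1, 1), (2, 9), (3, 9), (4, 6), (5, 4), (6, 7), (7, 9), (8, 2), (9, 10), (10, 10), (11, 10), (12, 9), (13, 1), (14, 10), (15, 6), (16, 9), (17, 2), (18, 5), (19, 3), (20, 5), (21, 9), (22, 6), (23, 7), (24, 2), (25, 1), (26, 6), (27, 1), (29, 6), (30, 7), (32, 10), (33, 4), (34, 10), (35, 9), (36, 9), (37, 4), (39, 7), (40, 3), (41, 6), (42, 4), (43, 7), (45, 1), (46, 5), (47, 6), (48, 8), (49, 6), (50, 8), (51, 7), (53, 7), (54, 7), (55, 6), (59, 6), (61, 3), (62, 8), (63, 6), (64, 6), (65, 5), (66, 2), (67, 2), (68, 6), (69, 3), (70, 10), (72, 7), (73, 5), (75, 6), (76, 2), (77, 3), (78, 7), (80, 10), (81, 9),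 (82, 4), (83, 8), (84, 10), (85, 8), (86, 6), (87, 1), (88, 6), (89, 5), (90, 3), (91, 2), (92, 9), (93, 6), (94, 7), (95, 7), (97, 5), (99, 2), (100, 10), (101, 9), (102, 1), (103, 1), (104, 1), (105, 2), (106, 7), (107, 1), (108, 8), (109, 7), (110, 10), (111, 10), (112, 10), (113, 9), (114, 2), (116, 4), (117, 4), (118, 1), (119, 10), (120, 5), (121, 4), (122, 4), (123, 7), (124, 3), (125, 7), (126, 8), (127, 1), (128, 6), (129, 3), (131, 8), (132, 3)],
  [(0, 3), (1, 8), (2, 6), (4, 10), (5, 1), (7, 1), (8, 2), (10, 7), (11, 6), (12, 9), (13, 3), (15, 10), (16, 9), (17, 10), (18, 2), (19, 10), (20, 1), (21, 1), (23, 10), (24, 10), (25, 9), (27, 9), (29, 10), (30, 3), (32, 1), (33, 9), (34, 1), (35, 1), (36, 1), (37, 9), (39, 10), (40, 8), (42, 8), (43, 4), (44, 1), (45, 8), (46, 1), (47, 10), (48, 9), (49, 10), (50, 8), (51, 10), (52, 10), (54, 3), (55, 10), (56, 1), (57, 1), (59, 1), (60, 10), (61, 10), (62,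 4), (63, 1), (64, 10), (65, 2), (66, 9), (67, 1), (68, 10), (69, 3), (71, 1), (72, 3), (73, 7), (74, 5), (75, 7), (76, 10), (77, 8), (78, 7), (79, 4), (80, 10), (81, 4), (82, 6), (83, 4), (84, 4), (85, 4), (86, 8), (87, 9), (88, 2), (89, 4), (90, 5), (91, 7), (92, 8), (93, 3), (94, 4), (95, 4), (97, 5), (98, 8), (99, 3), (100, 3), (102, 1), (103, 9), (104, 2), (105, 8), (106, 3), (107, 2), (108, 6), (109, 8), (110, 4), (111, 8), (112, 8), (113, 8), (114, 10), (116, 9), (117, 8), (118, 8), (119, 4), (120, 5), (121, 3), (122, 8), (123, 8), (125, 2), (126, 5), (127, 1), (129, 7), (131, 1), (132, 1)],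
  [(0, 1), (1, 8), (2, 10), (3, 8), (4, 7), (5, 10), (6, 4), (7, 3), (8, 10), (9, 7), (10, 10), (11, 1), (12, 8), (13, 7), (14, 7), (15, 3), (16, 5), (17, 1), (18, 4), (19, 5), (20, 4), (21, 6), (22, 3), (23, 9), (24, 7), (25, 3), (26, 7), (27, 7), (28, 7), (29, 3), (30, 3), (31, 4), (32, 10), (33, 4), (34, 8), (35, 10), (36, 8), (37, 8), (40, 9), (41, 7), (42, 4), (44, 2), (46, 6), (47, 5), (48, 8), (49, 1), (50, 8), (51, 5), (52, 7), (53, 9), (54, 8), (55, 5), (58, 7), (59, 8), (61, 1), (63, 4), (64, 3), (65, 6), (66, 7), (67, 8), (68, 3), (69, 3), (70, 9), (72, 4), (73, 1), (75, 3), (76, 3), (78, 4), (79, 8), (80, 10), (81, 8), (82, 9), (83, 1), (84, 8), (85, 1), (86, 9), (87, 10), (88, 10), (89, 8), (90, 5), (91, 9), (92, 9), (93, 7), (94, 4), (95, 8), (96, 3), (97, 9), (98, 9), (99, 9), (100, 2), (103, 5), (104, 3), (105, 7), (106, 9), (107, 2), (108, 3), (109, 1), (110, 9), (111, 1), (112, 10), (113, 4),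 (114, 6), (115, 3), (116, 5), (117, 1), (118, 1), (119, 8), (120, 6), (121, 5), (122, 3), (123, 2), (124, 10), (125, 1), (126, 5), (127, 7), (128, 7), (129, 10), (130, 10), (131, 3), (132, 7)],
  [(0, 4), (1, 3), (2, 9), (3, 10), (4, 3), (5, 9), (6, 4), (7, 4), (8, 6), (10, 5), (11, 7), (12, 5), (13, 10), (14, 3), (17, 6), (18, 3), (19, 3), (20, 5), (21, 2), (22, 8), (23, 6), (24, 7), (26, 8), (27, 5), (28, 8), (29, 2), (30, 4), (32, 5), (33, 1), (34, 1), (35, 4), (36, 1), (37, 2), (39, 10), (40, 2), (41, 8), (42, 2), (43, 3), (44, 3), (45, 1), (46, 5), (47, 4), (48, 5), (49, 9), (50, 3), (51, 9), (52, 9), (53, 6), (54, 4), (55, 4), (56, 5), (57, 1), (58, 5), (59, 5), (60, 5), (61, 7), (62, 1), (63, 2), (64, 7), (65, 6), (66, 9), (67, 6), (68, 7), (69, 8), (70, 8), (71, 7), (72, 3), (73, 2), (74, 5), (76, 7), (77, 9), (78, 8), (79, 4), (80, 9), (81, 3), (82, 7), (83, 5), (84, 6), (85, 2), (86, 5), (87, 9), (89,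 5), (90, 4), (91, 8), (92, 6), (93, 1), (94, 7), (95, 4), (96, 9), (97, 5), (98, 7), (99, 5), (100, 4), (101, 1), (102, 1), (103, 8), (104, 2), (105, 10), (106, 10), (107, 7), (108, 6), (109, 4), (110, 4), (111, 4), (113, 7), (114, 1), (115, 8), (116, 1), (117, 4), (118, 1), (120, 4), (121, 8), (122, 8), (123, 1), (124, 4), (125, 5), (126, 8), (128, 4), (129, 4), (130, 7), (132, 9)]]

/-- data -/
def d6_7 : SMat := [
  [(0, 2), (1, 8), (2, 8), (3, 9), (6, 5), (7, 7), (8, 3), (9, 2), (10, 3), (12, 3), (13, 7), (14, 7), (16, 4), (17, 9), (18, 8), (19, 3), (20, 6), (21, 1), (22, 8), (23, 9), (24, 5), (25, 4), (26, 6), (27, 9), (28, 7), (29, 6), (30, 9), (31, 4), (32, 7), (33, 4), (34, 10), (35, 1), (36, 10), (37, 10), (38, 1), (39, 3), (40, 9), (42, 10), (43, 10), (44, 2), (45, 2), (46, 7), (47, 9), (48, 10), (49, 9), (50, 9), (51, 10), (52, 5), (53, 10), (54, 3), (55, 4), (57, 2), (58, 10), (60, 10), (61, 9), (62,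 2), (64, 5), (65, 9), (66, 10), (67, 6), (68, 7), (69, 9), (70, 2), (71, 7), (72, 4), (73, 2), (74, 1), (75, 9), (76, 5), (77, 3), (78, 10), (79, 4), (80, 1), (84, 4), (86, 8), (87, 4), (88, 4), (89, 8), (90, 10), (91, 7), (92, 7), (93, 4), (94, 8), (95, 4), (97, 4), (98, 4), (99, 2), (100, 7), (101, 1), (102, 7), (103, 1), (104, 7), (105, 6), (106, 3), (107, 9), (108, 9), (109, 8), (110, 2), (111, 10), (112, 10), (113, 7), (114, 4), (115, 8), (116, 4), (118, 7), (119, 4), (120, 6), (121, 7), (122, 8), (123, 10), (124, 9), (125, 10), (126, 5), (127, 7), (128, 5), (129, 2), (130, 1), (131, 7), (132, 4)],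
  [(0, 8), (2, 9), (3, 5), (4, 10), (5, 9), (7, 1), (8, 2), (9, 3), (10, 10), (11, 3), (12, 9), (14, 10), (15, 2), (16, 5), (17, 2), (18, 2), (19, 7), (20, 4), (21, 1), (22, 5), (23, 4), (24, 6), (25, 8), (26, 3), (27, 1), (28, 3), (29, 5), (30, 7), (31, 1), (32, 5), (33, 7), (34, 2), (35, 9), (36, 6), (37, 1), (39, 3), (40, 4), (41, 3), (42, 6), (43, 7), (44, 10), (45, 5), (46, 4), (47, 6), (48, 1), (49, 3), (51, 10), (52, 2), (54, 7), (55, 7), (56, 8), (57, 9), (58, 8), (59, 2), (60, 6), (61, 7), (62, 8), (63, 5), (64, 9), (65, 8), (66, 1), (67, 2), (68, 9), (69, 7), (70, 6), (71, 5), (72, 3), (73, 9), (74, 8), (75, 5), (76, 9), (86, 6), (87, 10), (88, 6), (92, 10), (98, 6), (100, 6), (101, 10), (102, 1), (106, 9), (107, 2), (108, 3), (109, 2), (110, 5), (111, 1), (112, 3), (113, 9), (114, 5), (115, 1), (116, 3), (117, 6), (118, 8), (119, 8), (120, 2), (121, 5), (122, 9), (123, 4), (124, 4), (125, 4), (126,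 10), (127, 9), (128, 5), (129, 8), (130, 4), (132, 3)],
  [(0, 7), (1, 4), (2, 9), (3, 6), (4, 7), (5, 9), (6, 7), (7, 4), (8, 3), (9, 9), (10, 7), (12, 9), (13, 2), (16, 4), (17, 2), (18, 9), (19, 2), (20, 9), (21, 3), (22, 9), (23, 2), (24, 7), (25, 9), (26, 5), (27, 2), (29, 6), (31, 7), (32, 4), (33, 9), (34, 4), (35, 9), (36, 9), (37, 9), (39, 2), (40, 1), (42, 10), (43, 2), (44, 9), (45, 7), (47, 2), (48, 2), (49, 7), (51, 2), (52, 6), (53, 2), (54, 7), (55, 7), (56, 5), (57, 9), (58, 5), (60, 2), (61, 2), (62, 7), (63, 5), (65, 9), (66, 2), (67, 4), (69, 7), (70, 9), (71, 3), (72, 8), (74, 5), (75, 5), (76, 7), (77, 10), (78, 5), (79, 10), (80, 8), (81, 5), (82, 1), (83, 5), (84, 5), (85, 5), (86, 9), (87, 1), (88, 3), (89, 5), (90, 10), (91, 8), (92, 10), (93, 2), (94, 5), (95, 4), (96, 1), (97, 2), (98, 5), (99, 6), (100, 7), (101, 4), (102, 10), (103, 4), (104, 4), (105, 3), (106, 6), (107, 5), (108,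 3), (109, 7), (110, 6), (111, 7), (112, 4), (113, 8), (114, 7), (115, 1), (117, 7), (118, 8), (120, 4), (121, 10), (122, 10), (123, 7), (124, 6), (125, 7), (126, 1), (127, 4), (128, 5), (129, 8), (130, 2), (131, 1), (132, 5)],
  [(0, 4), (1, 4), (2, 1), (4, 9), (5, 1), (6, 7), (7, 2), (8, 1), (9, 2), (10, 5), (11, 1), (12, 5), (13, 5), (14, 9), (15, 7), (16, 6), (17, 10), (18, 1), (19, 7), (20, 2), (21, 4), (23, 9), (24, 9), (25, 4), (26, 2), (27, 8), (28, 9), (29, 8), (30, 7), (31, 8), (32, 2), (33, 6), (34, 4), (35, 1), (36, 3), (37, 8), (38, 1), (39, 1), (40, 6), (41, 9), (42, 8), (43, 7), (44, 2), (45, 6), (47, 1), (48, 8), (49, 7), (50, 4), (51, 7), (52, 10), (53, 9), (54, 7), (55, 7), (56, 10), (57, 10), (59, 4), (60, 1), (61, 1), (62, 6), (63, 2), (64, 8), (65, 4), (66, 8), (67, 10), (68, 1), (69, 7), (71, 3), (72, 7), (74, 10), (75, 3), (76, 8), (77, 8), (78, 7), (79, 5), (80, 10), (81, 3), (82, 5), (83,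 4), (84, 4), (85, 4), (86, 8), (88, 2), (89, 3), (90, 5), (91, 6), (92, 8), (93, 2), (94, 2), (95, 3), (96, 2), (97, 5), (98, 9), (99, 2), (100, 4), (101, 1), (102, 10), (103, 9), (104, 3), (105, 7), (106, 9), (107, 10), (108, 6), (109, 3), (110, 8), (111, 3), (112, 3), (113, 3), (114, 1), (115, 1), (116, 4), (117, 3), (118, 10), (119, 6), (120, 2), (121, 9), (122, 3), (123, 7), (124, 1), (125, 2), (126, 1), (127, 8), (128, 10), (129, 4), (130, 6), (132, 4)],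
  [(0, 8), (1, 4), (2, 9), (3, 2), (4, 6), (5, 9), (8, 2), (9, 10), (10, 6), (12, 2), (13, 8), (14, 6), (15, 5), (16, 9), (17, 2), (18, 9), (20, 2), (21, 8), (22, 9), (23, 8), (24, 6), (25, 8), (26, 10), (27, 2), (28, 5), (29, 1), (30, 7), (31, 1), (32, 9), (33, 3), (34, 10), (35, 9), (36, 10), (37, 8), (39, 7), (41, 10), (42, 10), (43, 7), (44, 3), (45, 2), (46, 4), (47, 3), (48, 8), (49, 7), (50, 4), (51, 3), (52, 6), (53, 8), (55, 7), (56, 8), (57, 4), (58, 4), (59, 6), (60, 2), (61, 7), (62, 2), (63, 5), (64, 5), (65, 8), (66, 1), (67, 6), (68, 5), (69, 7), (70, 9), (71, 8), (72, 3), (73, 5), (74, 10), (75, 8), (76, 5), (77, 4), (78, 5), (79, 6), (80, 1), (81, 6), (82, 3), (83, 5), (84, 5), (85, 8), (86, 3), (87, 2), (88, 7), (89, 4), (90, 7), (91, 6), (92, 1), (93, 5), (94, 5), (95, 5), (96, 2), (97, 5), (98, 2), (99, 7), (102, 9), (103, 1), (104, 10), (105, 6), (108, 1), (109, 4), (111, 9), (112, 10), (113,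 5), (114, 10), (115, 10), (116, 10), (117, 1), (118, 5), (119, 2), (120, 6), (122, 10), (123, 6), (124, 10), (125, 10), (127, 2), (128, 1), (129, 2), (130, 6), (131, 10), (132, 6)],
  [(0, 2), (1, 9), (2, 7), (3, 1), (4, 9), (5, 7), (6, 4), (7, 6), (8, 7), (9, 5), (10, 7), (11, 1), (12, 9), (13, 4), (14, 5), (15, 10), (16, 8), (17, 9), (19, 4), (20, 6), (21, 7), (22, 10), (23, 10), (24, 4), (25, 5), (26, 5), (27, 9), (28, 5), (29, 5), (30, 9), (32, 2), (33, 2), (34, 1), (35, 7), (36, 2), (37, 2), (38, 6), (39, 10), (40, 3), (41, 5), (42, 8), (44, 5), (45, 4), (47, 10), (48, 9), (50, 9), (51, 10), (53, 5), (54, 9), (55, 4), (56, 5), (57, 5), (59, 6), (60, 6), (61, 4), (62, 8), (63, 6), (64, 5), (65, 7), (66, 9), (67, 2), (68, 9), (69, 2), (70, 6), (71, 5), (72, 9), (73, 1), (74, 5), (75, 1), (76, 9), (80, 10), (82, 1), (83, 1), (85, 10), (86, 10), (91, 1), (93, 10), (94, 10), (96, 1), (97, 10), (99, 1), (101, 1),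 (104, 1), (105, 5), (106, 6), (107, 5), (108, 10), (110, 10), (111, 6), (112, 5), (113, 6), (114, 4), (116, 5), (117, 5), (118, 1), (119, 1), (120, 10), (121, 10), (122, 4), (123, 6), (124, 8), (125, 10), (126, 6), (129, 1), (130, 5), (131, 6), (132, 1)],
  [(0, 7), (1, 6), (2, 2), (3, 3), (4, 6), (5, 10), (6, 1), (7, 8), (8, 3), (9, 1), (10, 10), (11, 3), (12, 1), (13, 2), (14, 5), (15, 8), (16, 1), (17, 7), (19, 8), (20, 5), (21, 10), (22, 7), (23, 9), (24, 7), (25, 2), (26, 5), (27, 6), (28, 2), (29, 3), (30, 7), (31, 4), (32, 10), (33, 10), (34, 3), (35, 3), (36, 9), (37, 9), (38, 1), (39, 6), (40, 10), (41, 7), (42, 4), (43, 1), (44, 2), (45, 1), (47, 4), (48, 3), (49, 5), (50, 8), (51, 1), (54, 4), (56, 6), (57, 6), (59, 10), (60, 9), (61, 1), (62, 1), (63, 6), (64, 3), (66, 7), (67, 8), (68, 1), (69, 7), (71, 6), (72, 3), (73, 5), (74, 9), (75, 1), (76, 3), (77, 10), (78, 8), (79, 3), (80, 9), (81, 3),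 (82, 3), (83, 3), (84, 3), (85, 3), (86, 7), (87, 9), (88, 10), (89, 3), (90, 3), (91, 5), (92, 9), (93, 1), (94, 3), (95, 3), (97, 5), (98, 7), (99, 4), (100, 5), (103, 6), (104, 4), (105, 4), (106, 2), (107, 9), (108, 4), (109, 9), (110, 4), (111, 4), (112, 6), (113, 2), (114, 8), (115, 8), (116, 6), (117, 6), (118, 7), (119, 3), (120, 7), (121, 9), (123, 5), (124, 4), (126, 1), (128, 8), (129, 1), (130, 7), (131, 10), (132, 1)],
  [(0, 9), (1, 1), (4, 9), (5, 7), (6, 7), (7, 6), (8, 1), (9, 3), (10, 4), (11, 7), (12, 4), (13, 4), (14, 9), (15, 4), (16, 3), (17, 4), (18, 7), (19, 6), (20, 3), (21, 1), (22, 4), (23, 5), (24, 5), (25, 9), (26, 6), (27, 2), (28, 5), (29, 9), (30, 3), (31, 6), (32, 2), (33, 3), (34, 1), (36, 2), (37, 9), (38, 6), (39, 6), (40, 4), (41, 6), (42, 1), (43, 6), (44, 2), (45, 4), (47, 3), (48, 9), (49, 10), (50, 1), (51, 10), (52, 9), (53, 1), (54, 3), (55, 4), (56, 1), (57, 1), (58,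 1), (59, 8), (60, 3), (61, 6), (63, 3), (64, 10), (65, 8), (66, 9), (67, 5), (68, 3), (69, 3), (70, 4), (71, 2), (72, 7), (74, 5), (75, 1), (76, 10), (77, 1), (78, 8), (79, 4), (80, 7), (81, 9), (82, 7), (83, 3), (84, 1), (85, 10), (86, 9), (87, 7), (88, 5), (89, 9), (90, 8), (91, 1), (92, 8), (94, 5), (95, 10), (96, 10), (97, 10), (98, 2), (99, 9), (100, 3), (101, 5), (102, 6), (103, 6), (104, 3), (105, 10), (106, 7), (107, 6), (108, 8), (109, 2), (111, 4), (112, 4), (113, 6), (114, 8), (115, 10), (116, 9), (118, 6), (119, 5), (120, 8), (121, 10), (123, 10), (124, 1), (125, 5), (126, 10), (127, 1), (128, 5), (129, 2), (130, 9), (131, 8), (132, 5)]]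

/-- data -/
def d6_8 : SMat := [
  [(0, 5), (1, 10), (2, 10), (3, 8), (4, 6), (5, 8), (7, 10), (8, 10), (9, 3), (10, 8), (11, 5), (12, 7), (13, 5), (14, 3), (15, 3), (16, 7), (17, 7), (18, 4), (19, 5), (20, 9), (21, 4), (22, 10), (23, 4), (24, 7), (25, 10), (26, 7), (27, 5), (28, 3), (29, 4), (30, 8), (31, 3), (32, 8), (34, 8), (35, 4), (36, 1), (37, 10), (38, 5), (39, 4), (40, 1), (42, 7), (44, 7), (45, 3), (46, 6), (47, 7), (48, 4), (49, 5), (50, 10), (51, 1), (52, 7), (53, 9), (54, 1), (56, 4), (58, 4), (59, 8), (60, 7), (61, 5), (62, 1), (63, 2), (64, 9), (66, 10), (67, 3), (68, 10), (69, 7), (70, 4), (71, 4), (73, 3), (74, 6), (75, 3), (76, 10), (77, 9), (78, 5), (79, 1), (80, 8), (81, 2), (82, 4), (83, 7), (85, 4), (86, 2), (87, 1), (88, 6), (89, 6), (90, 3), (91, 1), (92, 1), (93, 5), (94, 2), (95, 4), (96, 2), (97, 10), (98, 3), (99, 2), (100, 4), (101, 10), (102, 6), (104, 5), (105, 6), (106, 7), (107,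 3), (108, 4), (109, 4), (110, 9), (111, 1), (112, 1), (113, 5), (114, 9), (115, 4), (116, 8), (117, 2), (118, 2), (119, 7), (120, 8), (121, 6), (122, 5), (123, 4), (125, 2), (126, 7), (127, 3), (128, 4), (129, 8), (130, 10), (131, 6), (132, 7)],
  [(0, 8), (1, 4), (2, 6), (3, 6), (4, 1), (5, 5), (6, 1), (7, 1), (8, 6), (9, 9), (10, 6), (11, 3), (12, 6), (13, 1), (14, 10), (15, 9), (16, 6), (17, 6), (18, 6), (20, 5), (21, 4), (22, 9), (23, 8), (24, 6), (25, 4), (27, 5), (29, 8), (31, 2), (32, 5), (33, 10), (34, 6), (35, 5), (36, 6), (37, 1), (38, 8), (39, 7), (40, 1), (41, 10), (42, 9), (43, 1), (45, 3), (46, 1), (47, 6), (48, 4), (49, 8), (51, 4), (52, 9), (53, 5), (54, 6), (56, 1), (58, 5), (59, 3), (61, 5), (62, 3), (63, 10), (64, 8), (66, 5), (67, 6), (68, 5), (69, 7), (70, 6), (71, 1), (72, 2), (73, 9), (74, 1), (75, 8), (76, 5), (77, 6), (79, 10), (80, 4), (81, 5), (82, 7), (83, 9), (84, 7), (85, 2), (86,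 4), (87, 6), (88, 6), (89, 1), (90, 1), (91, 6), (92, 8), (93, 7), (94, 9), (95, 3), (96, 4), (98, 4), (99, 10), (100, 9), (101, 2), (102, 2), (103, 7), (104, 7), (105, 6), (106, 5), (107, 1), (108, 4), (109, 9), (110, 10), (111, 10), (112, 3), (113, 3), (114, 10), (115, 4), (116, 7), (117, 5), (118, 6), (119, 8), (120, 8), (121, 9), (122, 7), (123, 5), (124, 7), (125, 3), (126, 10), (127, 5), (128, 3), (129, 7), (130, 9), (131, 6), (132, 7)],
  [(0, 3), (1, 9), (2, 3), (3, 9), (4, 7), (5, 3), (6, 1), (7, 4), (8, 10), (9, 2), (10, 9), (11, 1), (12, 8), (13, 7), (15, 3), (16, 2), (17, 8), (18, 10), (19, 1), (20, 10), (21, 10), (22, 2), (23, 5), (24, 7), (25, 7), (26, 7), (27, 8), (28, 7), (29, 3), (30, 2), (31, 5), (32, 10), (33, 4), (34, 4), (35, 6), (36, 4), (37, 8), (40, 2), (41, 7), (42, 4), (43, 6), (44, 6), (47, 5), (48, 8), (49, 1), (50, 9), (51, 1), (52, 7), (53, 5), (54, 2), (55, 1), (57, 10), (58, 7),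 (59, 4), (60, 1), (61, 1), (64, 3), (65, 10), (66, 3), (67, 8), (68, 3), (69, 9), (70, 2), (71, 6), (72, 4), (73, 1), (75, 7), (76, 3), (77, 2), (78, 1), (79, 10), (80, 4), (81, 7), (82, 2), (83, 7), (84, 6), (85, 10), (86, 6), (87, 5), (88, 1), (89, 6), (90, 8), (91, 3), (92, 3), (93, 8), (94, 5), (95, 9), (96, 3), (97, 6), (98, 6), (99, 6), (100, 8), (101, 1), (102, 8), (103, 5), (104, 9), (105, 6), (106, 10), (107, 7), (108, 4), (109, 6), (110, 8), (111, 1), (112, 6), (113, 7), (114, 2), (115, 4), (116, 3), (118, 7), (119, 8), (120, 7), (121, 4), (122, 6), (123, 6), (124, 1), (125, 8), (126, 2), (127, 9), (128, 4), (129, 6), (130, 7), (131, 2), (132, 7)],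
  [(0, 9), (1, 8), (2, 6), (3, 2), (4, 5), (5, 7), (6, 4), (7, 7), (8, 2), (9, 6), (10, 7), (11, 7), (12, 9), (13, 9), (14, 10), (15, 10), (16, 8), (17, 5), (18, 6), (20, 2), (21, 6), (22, 10), (24, 9), (25, 4), (26, 4), (27, 8), (28, 10), (29, 5), (30, 4), (31, 5), (32, 2), (33, 2), (34, 2), (35, 2), (36, 3), (37, 7), (38, 5), (39, 3), (40, 2), (42, 8), (43, 4), (45, 3), (46, 4), (47, 5), (48, 4), (49, 5), (50, 9), (51, 10), (52, 6), (54, 10), (55, 4), (56, 9), (57, 7), (58, 6), (59, 1), (60, 10), (61, 8), (62, 3), (63, 6), (64, 3), (66, 4), (67, 8), (68, 4), (69, 2), (70, 5), (71, 1), (72, 10), (73, 1), (74, 10), (75, 5), (76, 4), (77, 1), (78, 1), (79, 9), (80, 9), (81, 2), (82, 1), (83, 1), (85, 9), (86, 1), (87, 9), (89, 2), (91, 9), (92, 3), (93, 3), (94, 4), (95, 10), (96, 6), (97, 3), (98, 9), (99, 8), (100, 7), (101, 6), (102, 5), (103, 10), (104, 8), (105, 5), (106, 3), (107, 1), (108, 10), (109, 5),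 (110, 6), (111, 9), (112, 9), (113, 1), (114, 5), (115, 3), (116, 7), (117, 1), (118, 5), (119, 10), (120, 7), (122, 1), (123, 8), (125, 5), (126, 9), (127, 2), (128, 9), (129, 4), (130, 8), (131, 6), (132, 10)],
  [(0, 10), (1, 9), (2, 8), (3, 9), (4, 1), (5, 8), (6, 10), (7, 10), (8, 4), (9, 2), (10, 7), (11, 1), (12, 7), (13, 6), (14, 2), (15, 2), (16, 7), (17, 7), (18, 3), (19, 10), (20, 3), (21, 5), (22, 7), (23, 9), (24, 7), (25, 9), (26, 5), (27, 9), (28, 1), (29, 2), (30, 7), (31, 3), (32, 10), (33, 9), (34, 9), (35, 4), (36, 2), (37, 8), (39, 6), (41, 1), (42, 5), (43, 10), (44, 5), (45, 6), (47, 7), (48, 8), (50, 10), (51, 6), (52, 8), (53, 5), (54, 3), (56, 4), (58, 4), (59, 8), (60, 7), (61, 10), (62, 4), (63, 9), (64, 8), (66, 8), (67, 3), (68, 8), (69, 7), (70, 3), (71, 4), (72, 10), (73, 10), (74, 4), (76, 8), (86, 1), (87, 5), (88, 1), (92, 3), (98, 1), (100, 8), (101, 5), (102, 6), (105, 2), (108,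 1), (110, 5), (111, 1), (112, 3), (113, 7), (114, 10), (115, 10), (116, 10), (117, 4), (118, 8), (119, 1), (120, 9), (121, 1), (122, 5), (123, 2), (124, 6), (125, 2), (126, 8), (127, 2), (128, 9), (129, 10), (130, 4), (131, 7), (132, 7)],
  [(0, 3), (1, 7), (2, 7), (3, 1), (4, 7), (5, 6), (7, 1), (8, 6), (10, 10), (11, 8), (12, 7), (15, 3), (16, 1), (17, 7), (18, 6), (20, 4), (21, 3), (22, 9), (23, 8), (25, 4), (26, 10), (29, 1), (31, 3), (32, 4), (33, 4), (34, 1), (35, 7), (36, 3), (37, 7), (38, 8), (40, 6), (41, 10), (42, 9), (43, 7), (44, 3), (45, 3), (47, 8), (48, 4), (49, 4), (50, 1), (51, 5), (52, 4), (53, 1), (55, 7), (56, 6), (57, 7), (58, 10), (59, 8), (60, 5), (62, 3), (63, 4), (64, 7), (65, 4), (66, 4), (67, 4), (68, 4), (69, 8), (70, 10), (71, 6), (72, 8), (73, 4), (74, 3), (75, 7), (76, 4), (77, 5), (78, 5), (79, 5), (80, 5), (81, 7), (82, 1), (83, 1), (85, 5), (86, 4), (87, 5), (88, 1), (89, 7),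 (91, 2), (92, 10), (93, 10), (95, 6), (96, 6), (97, 10), (98, 5), (99, 1), (101, 6), (102, 5), (103, 6), (104, 1), (105, 2), (107, 2), (108, 1), (109, 8), (110, 7), (111, 10), (112, 10), (113, 2), (115, 3), (116, 1), (117, 6), (118, 4), (119, 9), (120, 2), (121, 7), (122, 6), (123, 5), (124, 7), (125, 8), (126, 2), (127, 9), (128, 3), (129, 2), (130, 8), (131, 10), (132, 6)],
  [(0, 5), (1, 8), (2, 5), (3, 8), (4, 6), (5, 9), (7, 9), (8, 5), (9, 9), (10, 1), (11, 2), (12, 6), (13, 5), (14, 9), (15, 7), (16, 6), (17, 2), (18, 5), (19, 8), (20, 9), (21, 7), (22, 7), (23, 6), (24, 2), (25, 4), (26, 4), (27, 4), (28, 4), (30, 9), (31, 2), (32, 9), (33, 6), (35, 9), (37, 4), (39, 4), (40, 10), (41, 9), (42, 10), (44, 5), (45, 3), (46, 7), (47, 8), (48, 4), (49, 4), (50, 8), (51, 4), (52, 2), (53, 6), (54, 3), (55, 8), (56, 7), (57, 7), (58, 7), (60, 4), (61, 4), (62, 3), (63, 9), (65, 8), (66, 4), (69, 3), (70, 2),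 (71, 7), (72, 6), (73, 8), (74, 7), (75, 6), (77, 6), (78, 7), (79, 1), (80, 2), (81, 6), (82, 10), (83, 6), (84, 3), (85, 5), (86, 3), (87, 3), (88, 9), (89, 1), (90, 5), (91, 6), (92, 5), (93, 6), (94, 2), (95, 9), (96, 10), (97, 9), (98, 7), (99, 2), (100, 3), (101, 7), (103, 6), (104, 7), (105, 9), (106, 10), (109, 2), (110, 9), (111, 10), (113, 1), (114, 4), (115, 2), (116, 2), (118, 1), (119, 9), (120, 2), (121, 2), (122, 2), (125, 1), (126, 2), (127, 7), (128, 10), (129, 9), (130, 9), (131, 1)],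
  [(0, 3), (1, 5), (2, 2), (4, 6), (5, 1), (6, 1), (7, 9), (8, 5), (9, 2), (10, 9), (11, 1), (12, 2), (13, 8), (14, 2), (15, 5), (16, 2), (17, 1), (18, 5), (19, 7), (20, 5), (21, 1), (22, 4), (23, 5), (24, 10), (25, 9), (26, 2), (27, 9), (28, 2), (29, 5), (30, 10), (31, 1), (32, 10), (33, 2), (34, 3), (35, 1), (36, 10), (38, 8), (39, 8), (40, 10), (41, 2), (42, 3), (43, 1), (44, 6), (45, 6), (46, 5), (47, 10), (48, 8), (50, 1), (51, 7), (52, 3), (53, 4), (54, 5), (55, 7), (57, 10), (58, 4), (59, 6), (60, 1), (61, 7), (62, 6), (63, 5), (64, 4), (65, 8), (66, 9), (67, 10), (68, 1), (69, 6), (70, 1), (71, 9), (72, 6), (73, 8), (75, 8), (76, 1), (77, 9), (78, 9), (79, 1), (80, 6), (81, 6), (82, 4), (83, 1), (84, 4), (85, 2), (86, 2), (88, 8), (89, 5), (90, 9), (91, 4), (92, 2), (93, 1), (96, 7), (98, 2), (99, 8), (100, 4), (101, 5), (102, 5), (103, 1), (104, 10), (105, 2), (106, 8), (107, 8), (108, 1), (109, 1), (110,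 3), (111, 4), (113, 9), (114, 8), (115, 10), (116, 7), (117, 6), (118, 10), (119, 1), (120, 6), (122, 5), (123, 10), (125, 8), (127, 7), (128, 9), (129, 1), (130, 7), (131, 5), (132, 8)]]

/-- data -/
def d6_9 : SMat := [
  [(1, 8), (2, 9), (3, 10), (4, 9), (5, 4), (6, 4), (7, 9), (8, 5), (9, 9), (10, 10), (11, 8), (12, 6), (13, 5), (14, 9), (16, 6), (17, 2), (18, 9), (19, 4), (20, 9), (21, 7), (22, 8), (23, 1), (24, 2), (25, 4), (26, 9), (27, 4), (28, 3), (29, 5), (30, 3), (31, 8), (32, 3), (33, 7), (35, 9), (36, 6), (37, 4), (38, 5), (39, 4), (40, 3), (41, 3), (43, 4), (44, 10), (45, 2), (46, 1), (47, 10), (48, 4), (49, 4), (50, 8), (51, 4), (52, 2), (53, 1), (54, 3), (55, 10), (56, 7), (57, 7), (60, 4), (61, 4), (62, 2), (63, 3), (64, 5), (65, 1), (66, 5), (67, 6), (68, 1), (69, 3), (70, 1), (71, 7), (72, 7), (73, 8), (76, 5), (77, 7), (78, 10), (79, 2), (81, 8), (82, 9), (83, 8), (84, 1), (85, 9), (86, 3),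 (87, 3), (88, 5), (89, 5), (91, 9), (92, 3), (93, 8), (94, 5), (95, 1), (96, 3), (97, 5), (98, 10), (100, 8), (101, 4), (102, 4), (103, 3), (104, 4), (105, 6), (106, 2), (108, 2), (109, 9), (110, 5), (111, 1), (112, 7), (114, 6), (115, 4), (116, 2), (117, 7), (118, 3), (119, 3), (120, 4), (121, 9), (122, 7), (123, 9), (124, 7), (125, 4), (126, 6), (127, 2), (128, 6), (129, 8), (130, 9), (131, 7), (132, 9)],
  [(0, 8), (1, 4), (2, 1), (3, 1), (4, 1), (5, 1), (7, 6), (8, 1), (9, 5), (10, 1), (11, 2), (12, 10), (13, 2), (14, 5), (15, 10), (16, 10), (17, 5), (18, 1), (20, 6), (22, 10), (23, 6), (24, 5), (25, 4), (26, 5), (27, 4), (28, 5), (29, 4), (30, 7), (31, 1), (32, 6), (33, 9), (34, 1), (35, 1), (36, 7), (37, 10), (38, 5), (39, 1), (40, 2), (41, 5), (42, 3), (44, 1), (45, 3), (46, 7), (47, 5), (48, 4), (49, 4), (50, 4), (51, 5), (52, 10), (54, 3), (56, 6), (57, 6), (59, 7), (60, 5), (61, 5), (62, 3), (63, 6),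 (64, 4), (66, 4), (67, 7), (69, 7), (70, 10), (71, 6), (72, 3), (73, 8), (74, 6), (75, 2), (77, 6), (78, 5), (79, 6), (80, 1), (81, 5), (82, 5), (83, 4), (84, 5), (85, 6), (86, 2), (87, 1), (88, 6), (89, 5), (90, 6), (91, 4), (92, 1), (93, 6), (94, 6), (95, 5), (97, 7), (99, 10), (105, 4), (106, 8), (107, 3), (108, 10), (109, 8), (110, 4), (111, 2), (112, 9), (113, 7), (114, 9), (115, 5), (117, 3), (119, 4), (120, 3), (121, 2), (122, 9), (123, 4), (124, 9), (125, 9), (126, 9), (127, 3), (128, 1), (129, 7), (130, 6), (131, 10)],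
  [(0, 1), (1, 4), (2, 9), (3, 1), (4, 9), (6, 4), (7, 3), (8, 5), (9, 9), (10, 8), (11, 3), (12, 2), (13, 5), (14, 2), (15, 10), (16, 7), (17, 9), (18, 9), (19, 4), (20, 9), (21, 6), (22, 6), (23, 10), (24, 2), (25, 8), (26, 8), (27, 10), (28, 2), (29, 8), (30, 3), (31, 9), (32, 6), (33, 6), (34, 7), (35, 5), (36, 7), (37, 4), (38, 8), (39, 4), (40, 6), (41, 1), (42, 4), (43, 8), (44, 1), (45, 3), (46, 4), (47, 8), (48, 4), (50, 9), (51, 5), (52, 2), (53, 7), (54, 7), (55, 7), (56, 6), (58, 6), (59, 1), (60, 5), (62, 3), (63, 2), (64, 3), (65, 4), (66, 4), (67, 8), (69, 3), (70, 10), (71, 2), (72, 6), (73, 4), (74, 8), (75, 9), (76, 3), (77, 1), (78, 10), (79, 8), (80, 1), (82, 5), (84, 2), (85, 6), (86, 10), (87, 8), (88, 8), (89, 4), (90, 5), (91, 3), (92, 9), (93, 2), (94, 4), (95, 2), (96, 6), (97, 2), (98, 8), (99, 5), (100, 9), (101, 1), (102, 3), (103, 1), (104, 9), (105, 7), (106, 5), (107, 2), (108,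 4), (109, 6), (110, 4), (111, 8), (112, 2), (114, 6), (115, 9), (116, 3), (117, 3), (120, 7), (121, 5), (122, 6), (123, 8), (124, 10), (125, 2), (126, 1), (127, 5), (128, 4), (129, 7), (130, 6), (131, 8), (132, 3)],
  [(0, 4), (1, 2), (2, 10), (3, 8), (4, 3), (6, 4), (7, 1), (8, 5), (9, 5), (10, 3), (12, 5), (13, 4), (14, 3), (15, 8), (16, 3), (17, 1), (18, 10), (19, 9), (20, 10), (21, 4), (22, 10), (23, 4), (24, 3), (25, 4), (26, 5), (27, 4), (28, 9), (29, 1), (30, 9), (31, 6), (32, 4), (33, 2), (34, 9), (35, 10), (36, 5), (37, 4), (39, 9), (41, 10), (42, 5), (43, 9), (44, 3), (45, 1), (46, 6), (47, 7), (49, 3), (50, 6), (51, 2), (52, 8), (53, 4), (54, 5), (55, 9), (56, 2), (57, 2), (58, 7), (59, 9), (60, 2), (61, 9), (62, 1), (63, 3), (64, 8), (65, 8), (66, 10), (67, 3), (68, 8), (69, 9), (70, 10), (71, 4), (72, 7), (73, 8), (74, 6), (75, 9), (76, 1), (77, 1), (78, 5), (79, 4), (80, 7), (81, 10), (82, 10), (83,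 3), (84, 10), (85, 4), (86, 3), (87, 7), (88, 6), (89, 10), (90, 3), (91, 3), (92, 7), (93, 6), (94, 6), (95, 10), (97, 10), (98, 1), (99, 4), (100, 8), (103, 3), (104, 10), (105, 3), (106, 5), (107, 6), (108, 10), (109, 1), (110, 3), (111, 1), (112, 10), (113, 8), (114, 9), (115, 7), (116, 10), (117, 2), (118, 10), (119, 3), (120, 1), (121, 1), (122, 10), (123, 7), (124, 9), (125, 10), (126, 9), (127, 3), (128, 1), (129, 9), (130, 4), (131, 10)],
  [(0, 8), (1, 5), (2, 5), (3, 6), (5, 10), (7, 7), (8, 5), (9, 2), (10, 1), (11, 9), (12, 10), (13, 1), (14, 7), (16, 4), (17, 5), (19, 5), (20, 1), (21, 4), (22, 1), (23, 5), (24, 7), (25, 3), (26, 8), (27, 2), (28, 1), (29, 5), (33, 10), (34, 7), (35, 3), (36, 7), (37, 7), (38, 3), (39, 4), (40, 1), (41, 9), (42, 3), (43, 10), (45, 9), (47, 2), (48, 4), (49, 6), (50, 10), (51, 10), (52, 2), (53, 8), (54, 5), (55, 10), (56, 1), (57, 5), (58, 1), (59, 5), (60, 9), (63,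 6), (64, 1), (65, 8), (66, 8), (67, 5), (68, 4), (69, 8), (70, 4), (71, 2), (72, 5), (73, 4), (74, 10), (75, 4), (76, 4), (77, 8), (78, 5), (79, 6), (80, 8), (81, 10), (82, 5), (83, 10), (85, 5), (86, 3), (87, 4), (88, 2), (89, 2), (90, 5), (91, 7), (92, 5), (93, 9), (94, 1), (95, 9), (96, 6), (98, 3), (99, 9), (100, 2), (101, 10), (102, 3), (103, 6), (104, 3), (105, 7), (106, 2), (107, 4), (108, 7), (109, 2), (110, 9), (111, 7), (112, 5), (113, 10), (114, 5), (115, 3), (116, 7), (117, 5), (118, 4), (119, 2), (120, 4), (121, 8), (123, 6), (124, 3), (125, 5), (127, 4), (128, 8), (129, 10), (130, 9), (131, 3), (132, 9)],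
  [(0, 1), (1, 7), (2, 1), (3, 4), (4, 4), (5, 1), (6, 6), (7, 8), (8, 1), (9, 1), (11, 6), (14, 3), (15, 6), (16, 1), (17, 7), (18, 8), (19, 9), (22, 1), (23, 1), (24, 6), (25, 2), (26, 4), (27, 10), (28, 7), (29, 1), (30, 5), (31, 3), (32, 10), (34, 10), (35, 4), (36, 10), (37, 9), (38, 8), (39, 8), (40, 6), (41, 7), (42, 3), (43, 9), (44, 6), (45, 9), (46, 8), (47, 7), (48, 6), (49, 2), (50, 2), (51, 10), (52, 1), (55, 2), (56, 1), (57, 6), (58, 9), (59, 9), (60, 8), (62, 2), (63, 2), (64, 9), (65, 6), (66, 6), (67, 6), (68, 1), (69, 8), (70, 8), (71, 7), (72, 4), (73, 4), (74, 8), (75, 1), (76, 1), (77, 9), (78, 9), (79, 4), (80, 4), (81, 9), (83, 7), (84, 9), (86, 10), (87, 2), (88, 4), (89, 2), (90, 2), (91, 3), (92, 8), (93, 4), (94, 4), (96, 7), (97, 4), (98, 2), (99, 7), (100, 7), (104, 7), (105, 6), (106, 1), (107, 7), (108, 9), (109, 10), (110, 4), (111, 8), (112, 2), (113, 6), (114, 6), (115, 9), (116,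 4), (117, 1), (118, 3), (119, 5), (120, 7), (121, 10), (123, 1), (124, 6), (125, 2), (126, 6), (127, 10), (128, 4), (129, 2), (130, 1), (131, 8), (132, 2)],
  [(0, 6), (2, 10), (3, 8), (4, 7), (6, 6), (7, 3), (8, 7), (9, 4), (10, 10), (11, 8), (12, 2), (13, 8), (15, 4), (16, 2), (17, 8), (18, 5), (19, 3), (20, 1), (21, 2), (22, 8), (23, 10), (24, 1), (25, 1), (26, 8), (27, 5), (29, 5), (30, 1), (31, 1), (32, 5), (33, 5), (34, 8), (35, 3), (36, 10), (37, 5), (38, 10), (39, 1), (40, 9), (41, 3), (42, 2), (43, 9), (44, 1), (45, 5), (46, 3), (47, 7), (48, 4), (50, 6), (51, 6), (52, 9), (53, 1), (54, 7), (55, 7), (56, 8), (57, 2), (58, 5), (59, 5), (60, 1), (61, 3), (62, 9), (63, 7), (64, 9), (65, 10), (66, 1), (67, 6), (68, 1), (69, 4), (70, 4), (71, 6), (72, 4), (74, 4), (75, 5), (76, 1), (77, 10), (78, 3), (79, 4), (80, 4), (81, 8), (82, 3), (83, 4), (84, 2), (85, 1), (86, 5), (87, 10), (88, 5), (90, 6), (91, 3),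 (92, 5), (93, 1), (94, 4), (95, 4), (96, 4), (97, 4), (98, 5), (99, 6), (100, 10), (101, 7), (102, 7), (103, 8), (104, 3), (105, 3), (107, 7), (108, 1), (109, 1), (110, 4), (111, 9), (113, 8), (114, 10), (115, 6), (116, 9), (117, 4), (118, 6), (119, 5), (121, 3), (122, 6), (123, 2), (124, 4), (125, 3), (126, 7), (127, 6), (128, 9), (129, 9), (130, 2), (131, 10)],
  [(0, 2), (1, 10), (2, 10), (3, 7), (4, 5), (5, 2), (6, 8), (7, 8), (8, 1), (9, 1), (11, 9), (12, 1), (13, 4), (14, 6), (15, 1), (16, 7), (17, 5), (18, 6), (19, 4), (20, 7), (21, 2), (22, 8), (23, 6), (24, 10), (25, 8), (26, 2), (28, 6), (30, 5), (31, 5), (33, 7), (34, 5), (35, 6), (36, 7), (37, 8), (38, 9), (39, 2), (41, 9), (42, 6), (43, 2), (44, 5), (45, 6), (46, 3), (47, 9), (48, 10), (49, 2), (50, 5), (51, 9), (52, 8), (53, 6), (54, 1), (55, 8), (56, 6), (57, 1), (58, 4), (59, 1), (60, 7), (61, 2), (62, 9), (63, 8), (64, 6), (65, 9), (66, 8), (67,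 5), (68, 6), (69, 5), (70, 7), (71, 4), (72, 5), (73, 1), (74, 6), (76, 6), (77, 1), (78, 6), (79, 3), (80, 5), (81, 5), (82, 6), (83, 9), (84, 9), (85, 1), (86, 9), (87, 3), (88, 8), (89, 2), (90, 1), (91, 10), (92, 10), (93, 5), (94, 9), (95, 9), (96, 3), (97, 2), (98, 10), (99, 5), (100, 10), (101, 4), (102, 4), (103, 3), (104, 4), (106, 2), (108, 10), (109, 9), (111, 2), (112, 10), (113, 10), (114, 5), (115, 9), (116, 10), (117, 10), (118, 3), (119, 1), (120, 9), (121, 8), (122, 9), (123, 9), (124, 2), (125, 9), (126, 9), (128, 4), (129, 1), (130, 1), (131, 7), (132, 1)]]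

/-- data -/
def d6_10 : SMat := [
  [(0, 7), (1, 10), (2, 8), (3, 3), (4, 10), (5, 2), (7, 1), (8, 5), (10, 9), (11, 8), (12, 4), (13, 1), (15, 7), (16, 3), (17, 6), (18, 5), (19, 10), (20, 4), (21, 4), (22, 8), (23, 10), (24, 7), (25, 3), (26, 3), (27, 6), (28, 8), (29, 9), (30, 1), (31, 2), (32, 4), (33, 7), (34, 4), (35, 4), (36, 4), (37, 6), (39, 10), (40, 5), (42, 3), (43, 8), (44, 1), (45, 8), (46, 8), (47, 8), (48, 1), (49, 7), (50, 7), (51, 4), (52, 4), (53, 1), (54, 9), (55, 2), (56, 1), (57, 4), (58, 3), (59, 2), (61, 10), (63, 1), (64, 1), (65, 10), (67, 3), (68, 1), (69, 4), (70, 8), (71, 7), (72, 6), (73, 4), (74, 1), (75, 3), (76, 4), (77, 1), (78, 10), (79, 1), (80, 2), (81, 8), (82, 4), (83, 4), (84, 6), (85, 5), (86, 6), (87, 2), (88, 1), (89, 8), (90, 3), (91, 6), (92, 2), (93, 10), (94, 1), (95, 8), (97, 3), (98, 2), (99, 5), (100, 2), (101, 9), (102, 9), (107, 10), (109, 1), (110, 2), (112,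 1), (113, 9), (115, 9), (117, 2), (118, 10), (119, 1), (120, 1), (121, 1), (122, 1), (123, 1), (124, 9), (125, 1), (126, 10), (127, 2), (128, 2), (130, 1), (132, 10)],
  [(0, 1), (1, 7), (2, 10), (3, 10), (4, 1), (5, 8), (6, 1), (7, 10), (8, 9), (9, 5), (10, 2), (11, 7), (12, 4), (13, 9), (14, 10), (15, 3), (16, 10), (17, 4), (18, 7), (19, 7), (20, 5), (21, 10), (23, 8), (24, 9), (25, 4), (26, 9), (27, 7), (28, 6), (29, 8), (30, 3), (31, 6), (32, 2), (33, 5), (34, 10), (35, 4), (36, 6), (37, 8), (39, 7), (40, 1), (41, 6), (42, 5), (43, 6), (44, 3), (46, 3), (47, 7), (48, 3), (49, 3), (50, 4), (52, 5), (53, 10), (55, 6), (56, 5), (57, 8), (58, 3), (59, 10), (60, 8), (61, 7), (62, 4), (63, 2), (65, 10), (66, 7), (67, 4), (69, 7), (71, 3), (72, 10), (73, 4), (74, 5), (75, 6), (76, 4), (77, 3), (78, 7), (79, 4), (81, 6), (82, 2), (83, 4), (84, 4), (85, 2), (86, 6), (87, 2), (88, 10), (89, 6), (91, 9), (92, 8), (93,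 8), (94, 4), (95, 6), (98, 8), (99, 5), (100, 1), (101, 9), (102, 9), (103, 6), (104, 5), (107, 10), (109, 1), (110, 2), (112, 1), (113, 9), (115, 9), (117, 2), (118, 10), (119, 1), (120, 1), (121, 1), (122, 1), (123, 1), (124, 9), (125, 1), (126, 10), (127, 2), (128, 9), (129, 7), (130, 1), (132, 10)],
  [(0, 10), (3, 5), (4, 6), (6, 4), (7, 9), (9, 1), (10, 1), (11, 6), (12, 8), (13, 6), (14, 9), (15, 3), (16, 5), (17, 6), (18, 7), (19, 1), (20, 1), (21, 5), (22, 2), (23, 1), (24, 8), (25, 5), (26, 1), (27, 1), (28, 8), (29, 4), (30, 7), (31, 10), (33, 8), (34, 1), (35, 8), (36, 4), (37, 7), (38, 10), (39, 1), (40, 10), (41, 8), (42, 9), (43, 8), (44, 10), (45, 4), (46, 6), (47, 7), (48, 9), (49, 9), (50, 4), (51, 6), (52, 10), (54, 4), (55, 5), (56, 7), (57, 10), (58, 3), (59, 10), (60, 6), (62, 4), (63, 5), (64, 7), (65, 9), (66, 9), (67, 4), (69, 7), (70, 2), (71, 5), (72, 8), (73, 10), (74, 4), (75, 4),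 (76, 7), (77, 6), (78, 2), (80, 7), (81, 7), (83, 9), (84, 7), (85, 5), (86, 7), (87, 9), (88, 5), (89, 7), (92, 7), (93, 3), (94, 5), (95, 7), (96, 4), (98, 5), (99, 6), (100, 6), (101, 2), (102, 9), (103, 7), (104, 6), (105, 4), (106, 2), (107, 9), (108, 10), (109, 8), (110, 2), (111, 9), (113, 8), (114, 6), (115, 8), (116, 5), (117, 7), (118, 7), (119, 3), (120, 6), (121, 8), (122, 9), (123, 10), (124, 10), (126, 6), (127, 6), (128, 4), (129, 2), (130, 1), (131, 8), (132, 3)],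
  [(1, 9), (2, 2), (3, 6), (4, 2), (5, 1), (6, 8), (7, 5), (8, 5), (9, 1), (10, 10), (11, 9), (12, 1), (13, 5), (14, 9), (16, 6), (17, 4), (18, 7), (19, 2), (20, 4), (21, 4), (22, 9), (23, 5), (24, 10), (25, 7), (26, 3), (27, 1), (28, 9), (30, 6), (31, 4), (32, 1), (33, 6), (34, 4), (35, 7), (36, 6), (37, 7), (38, 1), (39, 1), (40, 3), (41, 8), (42, 4), (43, 2), (44, 6), (45, 8), (46, 5), (47, 7), (48, 7), (49, 3), (50, 3), (51, 8), (52, 8), (53, 5), (54, 2), (55, 8), (56, 8), (57, 9), (58, 6), (60, 7), (61, 3), (62, 8), (63, 9), (64, 8), (65, 9), (66, 7), (67, 3), (68, 5), (69, 8), (70, 8), (71, 6), (72, 4), (74, 5), (75, 3), (76, 5), (77, 4), (78, 2), (80, 2), (81, 8), (82, 2), (83, 7), (84, 2), (85, 7), (86, 5), (87, 9), (88, 7), (89, 2), (90, 5), (91, 4), (92, 7), (93, 9), (94, 9), (96, 9), (97, 9), (98, 9), (99, 8), (100, 4), (101, 2), (102, 9), (103, 9), (104, 4), (105, 4), (106, 4), (107, 10), (108, 7),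 (109, 8), (110, 1), (111, 8), (113, 7), (114, 4), (115, 10), (116, 4), (117, 8), (118, 10), (119, 1), (120, 4), (121, 4), (122, 5), (123, 5), (124, 2), (125, 8), (126, 6), (127, 5), (128, 6), (130, 1), (131, 7), (132, 3)],
  [(0, 4), (1, 8), (2, 6), (3, 9), (4, 7), (6, 5), (7, 6), (8, 9), (9, 7), (10, 4), (11, 3), (12, 4), (13, 2), (14, 3), (15, 8), (16, 3), (17, 10), (19, 9), (20, 8), (21, 4), (22, 8), (23, 10), (24, 4), (25, 8), (26, 7), (28, 3), (29, 2), (30, 9), (31, 9), (32, 8), (33, 2), (34, 9), (35, 2), (36, 6), (37, 5), (38, 9), (39, 1), (40, 10), (41, 1), (42, 2), (43, 1), (44, 1), (45, 8), (46, 7), (47, 9), (48, 8), (50, 7), (54, 3), (55, 6), (56, 4), (57, 10), (58, 4), (59, 3), (61, 1), (62, 8), (63, 4), (64, 6), (65, 1), (67, 5), (68, 8), (69, 6), (70, 8), (71, 3), (72, 1), (73, 9), (74, 6), (75, 4), (76, 8), (78, 2), (80, 10), (81, 2), (82, 3), (83, 10), (84, 1), (85, 7), (86, 3), (87, 8), (88, 1),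 (89, 6), (90, 8), (91, 10), (92, 4), (93, 5), (94, 5), (96, 2), (97, 2), (98, 8), (100, 7), (101, 8), (102, 4), (103, 1), (104, 5), (105, 1), (106, 5), (108, 3), (109, 3), (110, 6), (111, 3), (112, 3), (114, 6), (115, 3), (116, 3), (117, 3), (118, 4), (120, 7), (121, 6), (122, 3), (123, 2), (124, 8), (125, 3), (126, 7), (128, 8), (130, 7), (131, 3), (132, 1)],
  [(0, 1), (1, 10), (2, 1), (3, 1), (4, 2), (5, 1), (6, 8), (7, 8), (8, 8), (9, 8), (10, 7), (11, 3), (12, 1), (13, 8), (14, 5), (15, 7), (16, 10), (17, 6), (18, 8), (19, 5), (20, 2), (21, 10), (22, 3), (24, 9), (25, 7), (26, 1), (28, 5), (29, 8), (30, 5), (31, 6), (32, 1), (33, 3), (34, 7), (35, 5), (36, 8), (37, 8), (39, 4), (40, 9), (41, 5), (42, 7), (43, 4), (44, 7), (45, 9), (46, 3), (47, 10), (48, 8), (49, 5), (50, 5), (51, 10), (52, 9), (53, 10), (54, 1), (55, 8), (56, 4), (57, 10), (58, 4), (59, 4), (60, 9), (61, 5), (62, 1), (63, 9), (64, 3), (65,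 6), (66, 7), (67, 8), (68, 3), (69, 5), (70, 2), (71, 2), (72, 3), (73, 10), (74, 4), (75, 7), (76, 3), (77, 2), (79, 9), (81, 2), (82, 6), (83, 9), (84, 2), (85, 7), (88, 9), (89, 2), (90, 5), (91, 2), (92, 7), (93, 2), (94, 6), (95, 2), (96, 5), (97, 2), (98, 6), (99, 4), (100, 2), (105, 1), (106, 1), (107, 10), (108, 7), (109, 10), (110, 3), (111, 3), (112, 3), (113, 7), (114, 3), (115, 10), (116, 7), (119, 4), (120, 4), (121, 7), (122, 7), (123, 10), (125, 8), (126, 7), (127, 4), (128, 4), (129, 3), (130, 1), (131, 7), (132, 4)],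
  [(0, 8), (1, 8), (2, 2), (3, 10), (4, 5), (5, 8), (6, 5), (7, 5), (8, 5), (9, 5), (10, 5), (12, 9), (13, 4), (14, 10), (15, 4), (16, 3), (17, 4), (18, 7), (19, 6), (20, 4), (21, 9), (22, 7), (23, 9), (24, 10), (25, 8), (26, 5), (27, 10), (28, 2), (29, 5), (30, 9), (31, 10), (32, 1), (34, 2), (35, 8), (37, 8), (38, 10), (39, 10), (40, 4), (41, 10), (42, 8), (43, 10), (44, 2), (45, 3), (46, 8), (47, 3), (48, 8), (49, 8), (50, 2), (51, 6), (52, 1), (53, 8), (54, 6), (55, 3), (56, 9), (57, 1), (58, 6), (59, 9), (60, 3), (61, 10), (62, 3), (63, 6), (65, 5), (68, 3), (69, 9), (70, 7), (71, 7), (72, 7), (74, 5), (75, 7), (77, 6), (78, 2), (79, 7), (80, 7), (81, 9), (82, 10), (83, 2), (84, 2), (85, 1), (86, 5), (87, 3), (88, 5), (89, 6), (90, 5), (91, 2), (92, 7), (93, 2), (94, 2), (95, 2), (96, 3), (97, 2), (98, 3), (99, 10), (102, 8), (103, 7), (104, 9), (106, 9), (107, 2), (108, 8), (109, 3), (110, 9), (111, 4),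 (112, 5), (114, 1), (115, 7), (116, 9), (117, 6), (119, 10), (120, 6), (121, 2), (122, 5), (123, 4), (124, 7), (125, 5), (126, 4), (127, 8), (128, 4), (129, 1), (130, 2), (131, 7), (132, 2)],
  [(0, 7), (1, 7), (2, 7), (3, 6), (4, 9), (5, 7), (6, 5), (7, 2), (8, 7), (9, 10), (10, 5), (11, 1), (12, 2), (14, 4), (15, 2), (16, 9), (17, 8), (18, 1), (19, 10), (20, 8), (21, 4), (23, 9), (24, 3), (25, 8), (26, 7), (27, 9), (28, 1), (29, 9), (30, 10), (31, 8), (32, 8), (33, 10), (34, 4), (35, 1), (36, 5), (37, 6), (38, 10), (39, 7), (40, 3), (41, 1), (43, 10), (44, 2), (45, 6), (46, 3), (47, 7), (48, 8), (49, 2), (50, 1), (51, 6), (52, 2), (53, 9), (54, 4), (55, 3), (56, 4), (57, 10), (58, 3), (59, 9), (60, 6), (61, 10), (62, 4), (63, 2), (64, 6), (65, 9), (66, 5), (67, 5), (68, 6), (69, 7), (71, 5), (72, 2), (73, 10), (74, 4), (75, 6), (76, 6), (77, 4), (78, 4), (79, 9), (80, 7), (85, 7), (86, 5), (87, 7), (88, 7),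 (91, 4), (92, 7), (93, 6), (95, 7), (97, 9), (98, 7), (99, 2), (101, 9), (102, 2), (103, 7), (104, 2), (105, 4), (106, 3), (107, 4), (108, 4), (109, 7), (110, 5), (111, 3), (112, 4), (113, 3), (114, 7), (115, 4), (117, 8), (118, 10), (119, 8), (120, 7), (122, 1), (123, 4), (124, 7), (125, 4), (126, 3), (127, 5), (129, 8), (131, 7), (132, 4)]]

/-- data -/
def d6_11 : SMat := [
  [(0, 4), (1, 7), (2, 6), (3, 5), (4, 10), (5, 2), (6, 1), (8, 5), (9, 1), (10, 9), (11, 7), (13, 6), (14, 1), (15, 8), (17, 5), (18, 2), (19, 9), (20, 3), (21, 7), (22, 1), (23, 3), (24, 4), (25, 6), (26, 9), (27, 4), (28, 6), (29, 4), (30, 4), (32, 6), (33, 7), (34, 6), (35, 7), (36, 6), (37, 10), (38, 3), (39, 9), (40, 2), (42, 8), (43, 5), (44, 1), (45, 5), (46, 1), (47, 8), (48, 3), (49, 7), (50, 7), (51, 2), (52, 7), (53, 9), (54, 6), (55, 10), (56, 9), (57, 4), (60, 4), (61, 4), (62, 7), (64, 4), (65, 10), (67, 7), (68, 2), (69,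 4), (70, 1), (71, 1), (72, 1), (74, 7), (75, 1), (76, 4), (77, 6), (78, 8), (79, 3), (80, 2), (81, 10), (82, 2), (83, 10), (84, 6), (85, 7), (86, 2), (87, 6), (88, 3), (89, 2), (91, 8), (92, 9), (93, 4), (94, 2), (95, 6), (96, 5), (97, 8), (98, 6), (99, 1), (100, 6), (102, 3), (104, 8), (105, 9), (106, 10), (107, 1), (108, 1), (109, 1), (110, 7), (111, 1), (112, 1), (113, 2), (114, 2), (115, 1), (116, 3), (117, 1), (118, 1), (119, 10), (120, 2), (121, 3), (122, 1), (123, 1), (125, 10), (126, 3), (127, 9), (128, 9), (130, 10), (131, 2), (132, 9)],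
  [(0, 7), (1, 6), (2, 5), (3, 4), (4, 9), (5, 7), (6, 1), (7, 9), (8, 4), (9, 4), (10, 7), (11, 4), (12, 9), (13, 8), (14, 9), (15, 10), (16, 1), (18, 5), (19, 5), (20, 8), (21, 1), (22, 6), (23, 3), (24, 7), (25, 5), (28, 2), (29, 8), (30, 4), (31, 3), (32, 8), (33, 1), (34, 3), (35, 8), (36, 7), (37, 2), (38, 7), (39, 4), (40, 5), (41, 2), (42, 7), (43, 2), (44, 4), (45, 9), (46, 4), (47, 6), (48, 8), (49, 1), (50, 3), (51, 7), (52, 9), (53, 3), (54, 1), (55, 5), (56, 8), (58, 6), (59, 4), (60, 5), (61, 6), (62, 2), (63, 5), (64, 3), (66, 4), (67, 1), (68, 3), (69, 8), (70, 6), (71, 9), (72, 5), (74, 8), (75, 7), (76, 7), (77, 1), (78, 10), (79, 8), (80, 2), (81, 1), (82, 3), (83, 10), (84, 1), (85, 10), (87, 7), (88, 1), (89, 5), (90, 8), (91, 5), (92, 2), (93, 3), (94, 3), (95, 3), (96, 3), (97, 10), (98, 9), (99, 4), (100, 7), (101, 2), (102, 2), (104, 9), (105, 2), (106, 2), (107, 9), (108, 3), (109, 5),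 (110, 5), (111, 5), (112, 4), (113, 9), (114, 5), (115, 4), (116, 9), (117, 5), (118, 6), (119, 4), (120, 1), (121, 6), (122, 6), (123, 9), (124, 3), (125, 7), (126, 4), (129, 3), (130, 8), (131, 3)],
  [(0, 1), (1, 4), (2, 1), (5, 10), (6, 6), (7, 2), (8, 10), (9, 2), (10, 1), (12, 1), (13, 1), (14, 5), (15, 3), (16, 4), (17, 6), (18, 5), (19, 7), (20, 8), (21, 7), (22, 5), (23, 6), (24, 3), (25, 4), (26, 2), (28, 5), (29, 1), (30, 3), (31, 6), (32, 8), (33, 7), (34, 2), (35, 5), (36, 3), (37, 7), (38, 4), (39, 6), (40, 1), (41, 3), (42, 4), (43, 9), (44, 5), (45, 3), (46, 5), (47, 3), (48, 4), (49, 9), (50, 10), (51, 4), (52, 3), (53, 4), (54, 7), (55, 6), (56, 6), (57, 3), (58, 5), (59, 8), (60, 3), (61, 9), (62, 1), (64, 6), (65, 2), (66, 6), (67, 5), (68, 8), (69, 3), (70, 5), (71, 8), (72, 7), (73, 5), (74, 8), (75, 5), (76, 6), (77, 1), (78, 10), (79, 1), (81, 1), (82, 8), (83, 1), (84, 10), (85, 3), (87,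 2), (88, 1), (89, 8), (90, 3), (91, 10), (92, 2), (93, 10), (94, 8), (95, 10), (96, 2), (97, 10), (98, 2), (99, 7), (100, 2), (101, 1), (102, 9), (103, 9), (104, 2), (105, 6), (106, 5), (107, 2), (108, 10), (109, 6), (110, 8), (111, 6), (112, 7), (113, 2), (114, 8), (115, 10), (116, 4), (117, 6), (118, 6), (119, 5), (120, 2), (121, 9), (122, 5), (123, 2), (124, 7), (125, 3), (126, 9), (127, 10), (128, 10), (129, 8), (130, 4), (131, 2), (132, 9)],
  [(0, 7), (1, 2), (2, 6), (3, 10), (6, 4), (7, 1), (8, 6), (9, 7), (10, 10), (11, 2), (12, 5), (13, 9), (14, 4), (16, 2), (17, 1), (18, 10), (19, 10), (20, 7), (22, 8), (23, 3), (24, 4), (25, 9), (26, 7), (27, 10), (28, 8), (29, 10), (30, 5), (31, 2), (32, 3), (33, 9), (34, 3), (35, 2), (36, 5), (37, 9), (38, 8), (39, 1), (40, 8), (42, 1), (43, 1), (44, 8), (45, 7), (46, 1), (47, 3), (48, 9), (49, 3), (50, 6), (51, 7), (52, 2), (54, 2), (55, 10), (56, 7), (57, 10), (58,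 3), (59, 9), (60, 6), (61, 1), (62, 7), (64, 2), (65, 5), (66, 6), (67, 9), (68, 6), (69, 5), (70, 8), (71, 2), (72, 2), (73, 3), (74, 4), (75, 4), (76, 2), (77, 8), (78, 10), (79, 8), (80, 2), (81, 1), (82, 6), (83, 10), (84, 10), (85, 5), (87, 4), (88, 3), (89, 8), (90, 3), (91, 1), (92, 2), (93, 10), (94, 10), (95, 10), (96, 4), (97, 10), (98, 4), (99, 9), (102, 7), (103, 2), (104, 4), (106, 9), (107, 2), (108, 8), (109, 3), (110, 9), (112, 5), (114, 5), (115, 7), (116, 9), (117, 6), (119, 10), (120, 6), (121, 2), (122, 5), (123, 4), (124, 7), (125, 5), (126, 4), (127, 8), (128, 4), (129, 1), (130, 2), (131, 7), (132, 2)],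
  [(0, 10), (1, 4), (2, 2), (3, 3), (4, 8), (5, 10), (6, 4), (7, 4), (8, 1), (9, 9), (10, 1), (12, 2), (13, 5), (14, 5), (15, 1), (16, 6), (17, 7), (18, 4), (19, 7), (20, 7), (21, 8), (22, 2), (23, 7), (24, 3), (25, 4), (26, 1), (27, 1), (28, 4), (29, 10), (30, 5), (31, 8), (32, 7), (33, 6), (34, 4), (35, 5), (36, 4), (37, 4), (38, 10), (39, 9), (40, 10), (41, 1), (42, 5), (43, 10), (44, 4), (45, 2), (46, 7), (47, 4), (48, 3), (49, 8), (50, 7), (51, 3), (52, 3), (53, 5), (54, 5), (55, 4), (56, 5), (57, 2), (58, 7), (59, 10), (60, 6), (61, 10), (62, 2), (63, 2), (64, 6), (65, 3), (66, 6), (67, 5), (68, 3), (69, 5), (70, 5), (71, 8), (72, 6), (73, 3), (74, 9), (75, 2), (76, 6), (77, 4), (78, 6), (79, 6), (80, 2), (81, 5), (82, 5), (83, 5), (84, 5), (85, 6), (86, 4), (87, 2), (88, 9), (89, 5), (90, 5), (91, 3), (92, 2), (93, 7), (94, 5), (95, 5), (97, 3), (98, 4), (99, 7), (104, 7), (105, 7), (108, 1), (110, 10),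 (111, 5), (112, 1), (113, 1), (114, 8), (115, 2), (116, 2), (117, 1), (118, 4), (119, 2), (122, 7), (123, 10), (124, 4), (125, 7), (126, 3), (127, 10), (128, 1), (129, 2), (130, 10), (131, 1), (132, 2)],
  [(0, 9), (2, 4), (4, 5), (5, 4), (6, 10), (7, 8), (8, 10), (9, 10), (10, 7), (12, 8), (13, 7), (14, 7), (15, 7), (16, 8), (17, 9), (18, 1), (19, 9), (20, 9), (21, 3), (22, 1), (23, 4), (25, 5), (26, 5), (27, 8), (28, 7), (29, 4), (30, 3), (31, 3), (32, 9), (33, 2), (34, 7), (36, 1), (37, 4), (38, 4), (39, 7), (40, 4), (42, 4), (43, 7), (44, 7), (45, 6), (46, 4), (47, 5), (48, 5), (49, 6), (50, 10), (51, 6), (52, 3), (53, 2), (55, 9), (56, 9), (57, 4), (58, 1), (59, 1), (60, 6), (61, 7), (62, 6), (63, 6), (64, 5), (65, 3), (67, 6), (68, 7), (69, 3), (70, 1), (71, 2), (72, 5), (73, 3), (75, 1), (76, 7), (77, 1), (78, 10), (79, 10), (80, 9), (81, 1), (82, 6), (83, 10), (84, 10), (85, 1), (87, 2), (88, 1), (89,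 8), (90, 3), (91, 8), (92, 2), (93, 10), (94, 10), (95, 10), (96, 4), (97, 2), (98, 2), (99, 7), (100, 2), (101, 9), (102, 9), (103, 9), (104, 2), (105, 6), (106, 6), (107, 4), (108, 4), (109, 8), (110, 7), (111, 1), (113, 5), (114, 5), (115, 9), (116, 5), (117, 7), (118, 5), (119, 7), (120, 1), (121, 8), (122, 3), (124, 2), (125, 7), (126, 9), (127, 6), (128, 3), (129, 8), (130, 3), (131, 5), (132, 4)],
  [(0, 5), (2, 9), (3, 6), (4, 1), (5, 2), (6, 8), (7, 9), (8, 7), (9, 8), (10, 4), (11, 7), (12, 1), (13, 9), (14, 4), (15, 4), (16, 9), (17, 5), (18, 10), (19, 6), (20, 2), (21, 1), (22, 9), (23, 1), (24, 7), (25, 5), (26, 7), (27, 9), (28, 2), (29, 6), (30, 4), (31, 9), (32, 2), (35, 8), (37, 5), (38, 1), (39, 5), (40, 8), (41, 4), (42, 5), (43, 4), (44, 10), (45, 2), (46, 2), (47, 1), (48, 6), (49, 6), (50, 5), (52, 7), (53, 2), (56, 4), (57, 5), (58, 4), (59, 5), (61, 6), (62, 2), (63, 10), (64, 1), (65,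 4), (66, 3), (67, 10), (68, 9), (69, 6), (70, 8), (71, 9), (72, 4), (73, 7), (74, 1), (75, 2), (76, 9), (77, 3), (78, 8), (79, 3), (80, 5), (81, 5), (82, 4), (83, 5), (84, 9), (85, 3), (86, 8), (87, 1), (88, 6), (89, 8), (90, 1), (91, 10), (92, 10), (93, 1), (94, 3), (95, 7), (96, 9), (97, 9), (98, 8), (99, 9), (100, 1), (101, 6), (102, 2), (103, 1), (104, 8), (105, 3), (106, 5), (107, 9), (108, 2), (109, 3), (110, 4), (111, 6), (112, 3), (113, 9), (114, 1), (115, 2), (116, 7), (118, 9), (119, 4), (120, 9), (121, 2), (122, 3), (123, 3), (124, 6), (125, 4), (126, 1), (127, 10), (128, 2), (129, 3), (130, 9), (131, 1), (132, 1)],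
  [(0, 7), (1, 3), (2, 2), (3, 3), (4, 4), (5, 10), (6, 5), (7, 7), (8, 5), (9, 8), (10, 6), (11, 7), (12, 10), (13, 2), (14, 10), (15, 6), (17, 3), (18, 7), (19, 7), (20, 2), (21, 10), (22, 10), (23, 8), (24, 1), (25, 8), (26, 8), (27, 3), (28, 2), (29, 6), (30, 10), (31, 7), (32, 2), (35, 7), (36, 2), (37, 9), (38, 9), (39, 8), (40, 7), (41, 10), (42, 6), (43, 10), (44, 3), (45, 3), (46, 6), (47, 2), (48, 8), (49, 10), (50, 1), (51, 4), (52, 10), (53, 8), (54, 4), (55, 2), (56, 8), (57, 3), (58, 6), (59, 7), (60, 5), (61, 8), (62, 3), (63, 7), (64, 1), (65, 7), (67, 10), (68, 1), (69, 10), (70, 10), (71, 1), (72, 7), (73, 1), (74, 8), (75, 7), (76, 10), (77, 8), (78, 10), (79, 10), (80, 9), (81, 5), (82, 7), (83, 7), (84, 5), (85, 8), (86, 7), (87, 5), (88, 1), (89, 9), (90, 8), (91, 5), (92, 9), (93, 5), (94, 7), (95, 3), (96, 3), (97, 8), (98, 9), (99, 4), (100, 5), (101, 9), (102, 6), (103, 2), (104, 5),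 (105, 8), (106, 9), (107, 10), (108, 2), (109, 1), (110, 7), (112, 10), (113, 4), (114, 4), (115, 4), (116, 4), (117, 9), (118, 4), (119, 8), (120, 2), (121, 1), (122, 10), (124, 4), (126, 4), (127, 5), (130, 7), (131, 2)]]

/-- data -/
def d6_12 : SMat := [
  [(0, 5), (1, 4), (2, 5), (3, 6), (4, 6), (5, 3), (7, 2), (8, 3), (9, 1), (11, 4), (12, 6), (13, 2), (14, 8), (15, 7), (16, 1), (17, 10), (18, 6), (19, 5), (20, 9), (21, 2), (22, 5), (23, 1), (24, 5), (25, 2), (26, 4), (27, 9), (28, 4), (29, 9), (30, 7), (31, 9), (32, 9), (34, 8), (36, 4), (37, 8), (38, 4), (39, 6), (40, 4), (41, 4), (42, 1), (43, 4), (44, 6), (45, 10), (46, 9), (47, 2), (48, 6), (49, 9), (50, 1), (51, 8), (53, 1), (54, 4), (55, 1), (56, 5), (57, 8), (58, 7), (59, 8), (60, 7), (61, 7), (62, 2), (63, 9), (64, 5), (65, 4), (66, 4), (67, 10), (68, 5), (69, 10), (70, 5), (71, 5), (72, 4), (73, 4), (74, 5), (75, 5), (76, 8), (77, 3), (78, 7),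 (79, 6), (80, 2), (81, 4), (82, 5), (83, 2), (84, 9), (85, 8), (86, 1), (87, 8), (88, 10), (89, 7), (90, 6), (91, 1), (92, 8), (93, 6), (94, 9), (96, 6), (97, 2), (98, 10), (99, 8), (100, 7), (101, 7), (102, 7), (103, 6), (104, 9), (105, 2), (106, 2), (107, 5), (108, 10), (109, 9), (110, 9), (111, 9), (112, 8), (113, 5), (114, 1), (116, 9), (117, 9), (118, 6), (119, 8), (120, 1), (121, 10), (122, 10), (123, 9), (124, 10), (125, 7), (128, 7), (129, 10), (130, 1), (131, 3)],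
  [(0, 10), (1, 2), (3, 6), (4, 7), (6, 3), (7, 4), (9, 9), (10, 10), (11, 1), (12, 10), (13, 5), (14, 4), (16, 8), (17, 7), (18, 3), (20, 9), (21, 1), (22, 2), (23, 5), (24, 2), (25, 4), (26, 9), (27, 1), (28, 4), (29, 1), (30, 6), (31, 7), (32, 9), (33, 5), (34, 5), (35, 3), (36, 5), (37, 3), (39, 9), (40, 8), (41, 4), (42, 6), (43, 9), (44, 6), (45, 3), (46, 5), (47, 4), (48, 4), (49, 9), (50, 10), (51, 3), (52, 2), (53, 7), (54, 9), (55, 3), (56, 5), (57, 2), (58, 5), (59, 10), (60, 4), (61, 9), (62, 3), (63, 4), (64, 6), (65, 2), (66, 4), (67, 5), (68, 6), (69, 3), (70, 2), (71, 7), (72, 9), (73, 2), (74, 5), (75, 1), (76, 8), (77, 3), (78, 5), (79, 6), (80, 9), (81, 10), (82, 5), (83, 1), (84, 1), (85, 6), (86, 5), (87, 8), (88, 6), (89, 3), (90, 8), (91, 3), (92, 9), (93, 10), (94, 1), (95, 8), (96, 7), (97, 10), (98, 5), (99, 6), (100, 2), (102, 4), (103, 9), (105, 3), (106, 7), (107, 8), (108, 4), (110,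 3), (111, 4), (113, 8), (114, 8), (115, 7), (116, 1), (117, 7), (118, 8), (119, 4), (120, 4), (124, 8), (126, 8), (130, 3), (131, 8), (132, 1)],
  [(0, 4), (1, 9), (2, 5), (3, 8), (4, 3), (5, 8), (6, 5), (8, 9), (9, 5), (10, 9), (11, 4), (12, 2), (13, 2), (14, 6), (15, 7), (16, 6), (17, 10), (18, 3), (19, 9), (20, 7), (21, 9), (22, 9), (23, 1), (24, 7), (25, 6), (26, 2), (27, 4), (28, 4), (29, 5), (30, 8), (31, 4), (32, 4), (33, 6), (34, 7), (35, 2), (36, 3), (38, 8), (39, 9), (40, 4), (41, 7), (43, 6), (44, 10), (45, 1), (46, 4), (47, 4), (48, 1), (49, 8), (50, 3), (51, 2), (52, 4), (53, 2), (54, 5), (55, 7), (56, 10), (57, 2), (58, 7), (59, 3), (60, 2), (61, 7), (62, 1), (63, 1), (64, 1), (66, 9), (67, 10), (68, 4), (69, 8), (70, 9), (71, 2), (72, 5), (73, 5), (74, 6), (75, 3), (76, 1), (77, 8), (78, 10), (79, 8), (80, 2), (81, 5), (82, 1), (83, 1), (84, 5), (85, 10), (86, 2), (87, 9), (88, 3), (89, 5), (90,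 8), (91, 3), (92, 2), (93, 7), (94, 9), (95, 5), (96, 3), (97, 3), (100, 5), (101, 7), (102, 4), (103, 2), (104, 5), (105, 4), (106, 2), (107, 9), (108, 10), (109, 8), (110, 2), (111, 9), (113, 8), (114, 6), (115, 8), (116, 5), (118, 7), (119, 3), (120, 6), (121, 8), (122, 9), (123, 10), (124, 6), (126, 6), (127, 6), (128, 4), (129, 2), (130, 1), (131, 8), (132, 3)],
  [(0, 1), (1, 2), (2, 10), (3, 9), (4, 5), (5, 8), (6, 7), (7, 5), (8, 7), (9, 6), (11, 10), (12, 1), (13, 8), (14, 1), (15, 7), (16, 7), (17, 5), (18, 3), (19, 1), (20, 10), (21, 5), (22, 4), (23, 9), (24, 1), (25, 3), (26, 6), (27, 7), (28, 2), (29, 9), (30, 3), (31, 10), (33, 3), (34, 9), (35, 3), (36, 9), (37, 2), (38, 1), (39, 1), (40, 10), (41, 2), (42, 5), (43, 3), (44, 2), (45, 7), (46, 7), (47, 3), (48, 2), (50, 8), (51, 6), (52, 1), (53, 1), (54, 9), (55, 4), (58, 5), (59, 4), (60, 6), (62, 7), (63, 6), (64, 3), (66, 2), (67, 8), (68, 10),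 (69, 3), (70, 7), (71, 2), (72, 1), (73, 8), (74, 3), (75, 6), (76, 3), (77, 5), (78, 7), (79, 8), (80, 4), (82, 1), (84, 9), (85, 10), (86, 6), (87, 8), (88, 8), (89, 7), (90, 6), (91, 3), (92, 2), (93, 9), (94, 7), (95, 9), (96, 10), (97, 9), (98, 8), (100, 2), (101, 4), (102, 3), (103, 4), (104, 2), (106, 4), (107, 9), (108, 1), (109, 7), (110, 2), (111, 6), (112, 6), (113, 10), (114, 6), (115, 4), (116, 9), (117, 3), (118, 10), (119, 1), (121, 5), (122, 7), (123, 6), (124, 6), (125, 6), (126, 3), (127, 5), (129, 10), (130, 8), (131, 2), (132, 9)],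
  [(0, 2), (1, 7), (2, 10), (3, 4), (4, 5), (5, 10), (6, 3), (7, 6), (8, 9), (9, 6), (10, 3), (11, 1), (12, 2), (14, 2), (15, 3), (16, 9), (17, 6), (18, 1), (19, 10), (20, 7), (21, 5), (22, 1), (23, 1), (24, 10), (25, 4), (26, 3), (27, 8), (28, 9), (29, 4), (30, 2), (32, 10), (33, 1), (34, 1), (35, 5), (36, 10), (38, 2), (39, 1), (40, 4), (41, 9), (42, 6), (43, 10), (44, 3), (45, 8), (46, 4), (47, 1), (49, 3), (50, 2), (51, 8), (52, 3), (53, 3), (54, 8), (55, 7), (56, 2), (57, 10), (58, 4), (59, 4), (60, 1), (61, 10), (62, 10), (63, 2), (64, 8), (65, 8), (67, 3), (68, 8), (69, 2), (70, 4), (71, 10), (72, 3), (73, 9), (74, 2), (75, 9), (76, 8), (86, 9), (87, 7), (88, 9), (92, 7), (98, 9), (100, 9), (101, 7), (102, 4), (105, 3), (106, 4), (107, 7), (108, 1), (109, 7), (110, 3), (111, 5), (112, 4), (113, 9), (114, 5), (115, 2), (116, 9), (117, 5), (118, 7), (119, 2), (120, 4), (121, 8), (122, 6), (123, 6), (124,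 1), (125, 6), (126, 3), (127, 7), (128, 9), (129, 10), (130, 9), (131, 5), (132, 10)],
  [(0, 9), (1, 9), (2, 1), (3, 2), (4, 6), (5, 1), (6, 5), (7, 5), (8, 2), (9, 5), (10, 3), (11, 5), (12, 1), (13, 3), (14, 7), (15, 2), (16, 3), (17, 4), (18, 9), (19, 1), (20, 3), (21, 5), (22, 4), (23, 2), (25, 8), (26, 5), (27, 3), (28, 10), (29, 4), (30, 8), (31, 1), (33, 8), (34, 4), (35, 9), (36, 4), (37, 8), (38, 8), (39, 1), (40, 3), (41, 10), (42, 6), (43, 1), (44, 9), (45, 5), (46, 4), (47, 5), (48, 8), (49, 1), (50, 3), (51, 6), (53, 10), (54, 2), (55, 7), (56, 9), (57, 10), (58, 6), (59, 9), (60, 6), (61, 1), (62, 3), (63, 8), (64, 10), (65, 2), (67, 1), (68, 10), (69, 8), (70, 4), (71, 8), (72, 1), (73, 1), (74, 9), (75, 7), (76, 10), (78, 9), (79, 9), (80, 1), (81, 3), (82, 4), (83, 3), (84, 3), (85, 9), (86, 1), (87, 10), (88, 2), (89, 3), (90, 7), (91, 2), (92, 2), (93, 5), (94, 3), (95, 3), (96, 6), (97, 1),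 (98, 1), (99, 4), (100, 5), (102, 3), (103, 3), (104, 7), (105, 5), (106, 5), (107, 10), (109, 6), (110, 1), (111, 6), (112, 6), (113, 6), (114, 5), (115, 4), (116, 6), (117, 6), (118, 6), (119, 8), (120, 1), (121, 6), (122, 6), (123, 6), (125, 6), (126, 1), (127, 6), (128, 3), (129, 10), (132, 6)],
  [(0, 9), (1, 10), (3, 7), (4, 1), (6, 1), (7, 10), (8, 3), (9, 8), (10, 7), (11, 3), (12, 9), (13, 1), (14, 6), (15, 7), (16, 9), (17, 5), (18, 6), (19, 4), (20, 1), (21, 4), (22, 3), (23, 9), (24, 5), (25, 6), (26, 3), (28, 6), (29, 5), (30, 9), (32, 9), (34, 3), (35, 6), (36, 1), (37, 4), (39, 4), (40, 3), (41, 6), (42, 6), (43, 4), (44, 2), (45, 8), (46, 5), (47, 10), (48, 6), (49, 7), (50, 5), (51, 10), (52, 4), (53, 9), (54, 1), (55, 1), (56, 8), (57, 7), (58, 8), (59, 4), (60, 10), (61, 4), (62, 10), (63, 2), (64, 2), (65, 7), (66, 6), (67, 9), (68, 2), (69, 6), (70, 3), (71, 4), (72, 10), (73, 5), (74, 8),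 (75, 3), (76, 2), (77, 4), (78, 2), (79, 7), (80, 8), (81, 3), (82, 4), (83, 3), (84, 3), (85, 5), (86, 3), (87, 6), (88, 6), (89, 3), (90, 7), (91, 6), (92, 7), (94, 3), (95, 10), (96, 6), (97, 10), (98, 5), (99, 6), (100, 1), (101, 9), (102, 5), (103, 10), (104, 9), (105, 5), (106, 1), (107, 10), (108, 7), (109, 9), (110, 1), (111, 9), (112, 2), (113, 6), (115, 8), (116, 2), (117, 9), (118, 6), (119, 9), (120, 4), (121, 5), (122, 5), (123, 9), (124, 5), (125, 9), (126, 8), (128, 8), (129, 4), (130, 10), (131, 8), (132, 8)],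
  [(0, 4), (1, 10), (2, 7), (3, 8), (4, 6), (5, 4), (6, 7), (7, 4), (8, 4), (9, 4), (10, 4), (11, 6), (12, 7), (13, 2), (14, 1), (15, 8), (16, 2), (17, 10), (19, 2), (20, 6), (21, 1), (22, 10), (23, 2), (24, 3), (25, 6), (26, 6), (28, 3), (30, 8), (32, 9), (33, 10), (34, 6), (35, 1), (36, 6), (37, 7), (39, 2), (40, 2), (42, 2), (43, 5), (44, 9), (45, 9), (46, 6), (47, 8), (48, 5), (49, 2), (50, 4), (51, 10), (52, 3), (54, 10), (55, 5), (56, 5), (57, 10), (58, 5), (59, 3), (61, 4), (62, 9), (63, 5), (64, 5), (65, 9), (66, 8), (67, 6), (68, 5), (69, 8), (70, 7), (72, 8), (73, 9), (74, 5), (75, 4), (76, 5), (77, 8), (78, 5), (79, 10), (80, 6), (81, 4), (82, 10), (83, 4), (85, 3), (86, 3), (87, 3), (88, 6), (89, 7), (90, 5), (91, 10), (92, 8), (93, 4), (94, 7), (96, 3), (97, 7), (98, 7), (99, 2), (100, 9), (101, 2), (102, 1), (103, 8), (104, 7), (105, 5), (106, 6), (107, 3), (109, 5), (110, 2), (111, 6), (112, 6),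 (113, 6), (114, 9), (115, 1), (116, 5), (117, 4), (118, 7), (119, 6), (120, 9), (121, 4), (122, 4), (123, 2), (124, 2), (125, 4), (128, 2), (129, 1), (130, 10), (131, 8), (132, 1)]]

/-- data -/
def d6_13 : SMat := [
  [(0, 10), (1, 1), (2, 3), (3, 9), (4, 2), (5, 5), (6, 7), (7, 7), (8, 2), (9, 1), (10, 6), (11, 3), (12, 8), (13, 2), (14, 5), (15, 8), (16, 2), (17, 2), (18, 1), (19, 3), (20, 7), (21, 5), (22, 9), (23, 5), (24, 6), (25, 2), (26, 2), (27, 7), (28, 6), (29, 7), (30, 3), (31, 3), (32, 4), (33, 9), (34, 10), (35, 8), (36, 10), (37, 3), (38, 1), (39, 1), (40, 8), (41, 8), (42, 8), (43, 10), (44, 6), (45, 6), (46, 4), (47, 5), (48, 5), (50, 7), (51, 6), (52, 6), (53, 6), (54, 5), (55, 7), (56, 7), (57, 1), (58, 5), (59, 3), (60, 2), (61, 2), (62, 9), (64, 3), (65, 9), (66, 2), (67, 8), (69, 3), (70, 5), (71, 8), (72, 9), (74, 4), (75, 10), (76, 3), (77, 9), (78, 7), (79, 8), (80, 7), (81, 8), (82, 1),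 (83, 6), (84, 8), (85, 6), (86, 3), (87, 7), (88, 9), (89, 8), (90, 4), (91, 1), (92, 3), (93, 4), (94, 10), (95, 8), (96, 5), (97, 1), (98, 3), (99, 10), (100, 8), (103, 5), (104, 3), (105, 10), (106, 9), (107, 2), (108, 7), (109, 5), (110, 9), (111, 5), (112, 6), (113, 1), (114, 8), (115, 7), (116, 3), (117, 5), (118, 5), (119, 7), (120, 8), (121, 3), (122, 4), (123, 2), (124, 9), (125, 5), (126, 6), (127, 2), (128, 2), (129, 9), (130, 3), (131, 7), (132, 2)],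
  [(0, 7), (1, 7), (2, 4), (3, 8), (4, 2), (5, 8), (6, 2), (7, 5), (8, 1), (9, 5), (10, 8), (11, 2), (12, 9), (13, 4), (14, 9), (15, 5), (16, 5), (17, 7), (18, 2), (19, 4), (20, 5), (21, 6), (22, 4), (23, 10), (24, 1), (25, 5), (26, 3), (27, 6), (28, 1), (30, 7), (31, 1), (32, 1), (34, 5), (35, 7), (36, 8), (37, 4), (38, 10), (39, 8), (40, 10), (41, 10), (42, 10), (43, 6), (45, 9), (46, 1), (47, 10), (48, 6), (49, 8), (50, 8), (51, 10), (52, 3), (53, 5), (54, 9), (55, 10), (56, 5), (57, 3), (58, 1), (59, 4), (60, 2), (61, 6), (62, 5), (63, 3), (65, 6), (66, 1), (68, 4), (69, 7), (70, 5), (71, 8), (72, 8), (73, 3), (74, 9), (75, 3), (77, 8), (78, 9), (79, 2), (80, 1), (81, 1), (82, 8), (83, 1), (85, 3), (86, 3), (87, 2), (88, 3), (89, 10), (90, 4), (91, 9), (92, 2), (94, 10), (96, 4), (98, 4), (99, 6), (100, 10), (102, 9), (103, 5), (104, 1), (105, 1), (106, 7), (107, 4), (108, 6), (109, 4), (110, 6), (111, 4),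 (112, 4), (113, 7), (114, 8), (115, 6), (116, 1), (117, 4), (118, 4), (119, 7), (120, 8), (121, 1), (122, 4), (123, 4), (125, 7), (127, 3), (128, 3), (130, 8), (131, 8), (132, 3)],
  [(0, 9), (1, 1), (2, 2), (4, 6), (5, 2), (6, 9), (7, 2), (8, 6), (9, 10), (10, 7), (11, 2), (12, 5), (13, 6), (14, 8), (15, 6), (16, 3), (17, 8), (18, 7), (19, 7), (20, 8), (21, 4), (23, 9), (24, 10), (25, 2), (26, 10), (27, 4), (29, 1), (30, 1), (31, 7), (32, 4), (33, 5), (34, 4), (35, 7), (36, 4), (37, 2), (39, 6), (40, 8), (41, 8), (42, 3), (43, 10), (44, 2), (45, 7), (46, 10), (47, 7), (48, 6), (49, 10), (50, 2), (52, 10), (53, 9), (54, 10), (55, 6), (56, 3), (57, 1), (58, 10), (59, 5), (61, 10), (62, 7), (63, 6), (65, 5), (66, 9), (69, 5), (70, 10), (71, 4), (72, 1), (73, 2), (74, 3), (75, 1), (76, 10), (77, 9), (78, 6), (79, 6), (80, 7), (81, 5), (82, 5), (83, 5), (84, 8), (85, 2), (86, 4), (87, 4), (88, 9), (89, 1), (90, 2),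 (91, 9), (92, 4), (93, 5), (94, 9), (95, 2), (96, 8), (97, 2), (99, 4), (100, 8), (101, 4), (102, 4), (103, 3), (104, 4), (105, 10), (106, 4), (107, 2), (109, 1), (110, 6), (111, 4), (112, 7), (113, 7), (114, 6), (115, 3), (116, 1), (117, 9), (118, 7), (119, 6), (120, 3), (121, 1), (122, 1), (123, 9), (125, 7), (126, 3), (127, 5), (128, 6), (129, 8), (130, 8), (131, 5)],
  [(0, 6), (1, 9), (2, 8), (3, 9), (4, 9), (5, 4), (6, 5), (7, 9), (8, 9), (9, 7), (10, 9), (11, 9), (13, 7), (14, 4), (15, 10), (16, 7), (17, 5), (18, 6), (19, 2), (20, 4), (22, 5), (23, 6), (24, 8), (25, 3), (26, 7), (27, 9), (28, 8), (29, 9), (30, 5), (31, 10), (32, 7), (33, 8), (34, 10), (35, 6), (36, 4), (37, 4), (38, 6), (39, 2), (40, 6), (41, 4), (42, 2), (43, 3), (44, 5), (45, 4), (46, 5), (47, 8), (48, 7), (50, 4), (51, 1), (52, 3), (53, 6), (54, 1), (55, 1), (56, 3), (57, 5), (58, 9), (59, 5), (60, 1), (61, 6), (62, 4), (63, 5), (64,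 8), (65, 10), (67, 3), (68, 8), (69, 3), (70, 4), (71, 9), (72, 10), (73, 9), (74, 3), (76, 4), (77, 1), (81, 9), (82, 10), (83, 10), (86, 9), (88, 10), (89, 9), (91, 1), (92, 9), (93, 9), (94, 9), (95, 7), (96, 2), (98, 10), (99, 1), (100, 3), (101, 2), (102, 9), (103, 10), (104, 3), (105, 3), (106, 8), (107, 4), (108, 3), (109, 8), (110, 5), (112, 2), (113, 6), (114, 6), (115, 6), (116, 6), (117, 8), (118, 6), (119, 2), (120, 3), (121, 8), (122, 2), (124, 6), (126, 6), (127, 2), (130, 5), (131, 3)],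
  [(0, 10), (1, 7), (2, 8), (3, 1), (4, 1), (6, 8), (7, 5), (8, 1), (9, 5), (10, 7), (11, 5), (12, 10), (13, 5), (15, 8), (16, 8), (17, 5), (18, 9), (19, 3), (20, 7), (21, 9), (22, 4), (23, 8), (24, 7), (25, 10), (26, 1), (27, 4), (28, 7), (29, 1), (30, 10), (31, 1), (32, 4), (33, 6), (34, 8), (35, 10), (36, 8), (37, 10), (38, 7), (39, 7), (40, 8), (41, 10), (42, 10), (43, 4), (44, 3), (45, 2), (46, 2), (47, 6), (48, 2), (49, 7), (50, 5), (51, 2), (52, 7), (53, 4), (54, 8), (55, 9), (56, 5), (57, 7), (58, 5), (59, 3), (60, 3), (61, 3), (62, 1), (63, 2), (64, 6), (65, 4), (66, 2), (67, 5), (68, 7), (69, 10), (70, 5), (71, 1), (72, 6), (73, 7), (74, 6), (75, 1), (76, 6), (78, 4), (79, 8), (80, 10), (81, 8), (82, 9), (83, 1), (84, 8), (85, 1), (86, 9), (87, 10), (88, 10), (89, 8), (90, 5), (91, 9), (92, 9), (93, 7), (94, 4), (95, 8), (96, 3), (97, 9), (98, 9), (99, 9), (100, 2), (103, 5), (104, 1), (105, 4), (106,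 1), (107, 10), (108, 5), (109, 4), (110, 1), (111, 4), (112, 7), (113, 7), (114, 2), (115, 3), (116, 9), (117, 4), (118, 4), (119, 10), (120, 2), (121, 9), (122, 1), (123, 10), (124, 9), (125, 4), (127, 6), (128, 6), (129, 9), (130, 5), (131, 3), (132, 6)],
  [(1, 2), (3, 1), (4, 5), (6, 5), (7, 2), (8, 1), (9, 6), (10, 8), (11, 5), (12, 7), (13, 9), (14, 10), (15, 8), (16, 4), (17, 1), (18, 10), (19, 3), (20, 9), (21, 10), (22, 5), (23, 4), (24, 4), (25, 6), (26, 1), (28, 10), (29, 5), (30, 4), (31, 7), (32, 8), (33, 3), (34, 9), (35, 10), (36, 5), (37, 6), (39, 3), (40, 1), (41, 10), (42, 10), (43, 3), (44, 7), (45, 2), (46, 1), (47, 2), (48, 10), (49, 4), (50, 8), (51, 2), (52, 7), (53, 4), (54, 9), (55, 5), (56, 2), (57, 8), (58, 2), (59, 3), (60, 2), (61, 5), (62, 2), (63, 3), (64, 7), (65, 8), (66, 10), (67, 4), (68, 7), (69, 10), (70, 5), (71, 10), (72, 6), (73, 4), (74, 2), (75, 8), (76, 3), (77, 2), (78,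 3), (79, 5), (80, 1), (81, 10), (82, 6), (83, 10), (84, 10), (85, 6), (86, 10), (87, 9), (88, 9), (89, 10), (90, 5), (91, 9), (92, 1), (94, 10), (95, 8), (96, 9), (97, 4), (98, 2), (99, 9), (100, 7), (101, 8), (102, 2), (103, 4), (104, 8), (105, 5), (106, 10), (107, 1), (108, 7), (109, 8), (110, 10), (111, 8), (112, 3), (113, 6), (114, 8), (115, 9), (117, 8), (118, 6), (120, 1), (121, 2), (122, 2), (123, 8), (124, 10), (125, 8), (126, 9), (127, 1), (128, 1), (129, 6), (130, 7), (131, 9), (132, 1)],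
  [(0, 2), (1, 9), (2, 6), (3, 10), (4, 2), (5, 2), (6, 9), (7, 5), (8, 5), (9, 5), (10, 8), (11, 10), (12, 6), (13, 8), (14, 4), (15, 10), (16, 8), (17, 7), (19, 8), (20, 2), (21, 4), (22, 5), (23, 5), (24, 8), (25, 2), (26, 2), (28, 4), (29, 3), (30, 6), (31, 8), (32, 6), (33, 10), (34, 2), (35, 4), (36, 10), (37, 6), (40, 4), (43, 9), (44, 6), (46, 5), (47, 7), (48, 9), (49, 5), (50, 8), (51, 7), (52, 1), (53, 4), (54, 7), (55, 6), (56, 9), (57, 3), (58, 9), (59, 8), (61, 5), (63, 1), (64, 1), (65, 6), (66, 2), (67, 10), (68, 1), (69, 6), (70, 9), (72, 10), (73, 3), (74, 9), (75, 8), (76, 1), (77, 10), (78, 8), (79, 2), (80, 3), (81, 10), (82, 3), (83, 10), (85, 1), (86, 1), (87, 1), (89, 1), (90, 7), (91, 3), (92, 9), (93, 10), (94, 1), (96, 1), (97, 1), (99, 5), (100, 5), (101, 4), (102, 9), (103, 9), (104, 1), (105, 5), (106, 4), (107, 9), (109, 7), (110, 1), (111, 4), (112, 4), (113, 4), (114, 6), (115,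 8), (116, 7), (117, 10), (118, 1), (119, 4), (120, 6), (121, 10), (122, 10), (123, 1), (124, 5), (125, 10), (128, 5), (129, 8), (130, 3), (131, 5), (132, 8)],
  [(0, 4), (1, 1), (2, 7), (3, 1), (4, 5), (5, 9), (6, 9), (7, 6), (9, 3), (10, 8), (11, 4), (12, 4), (13, 9), (14, 6), (15, 6), (16, 7), (17, 6), (18, 5), (19, 2), (20, 4), (21, 3), (22, 1), (23, 4), (24, 3), (25, 10), (26, 3), (28, 6), (29, 3), (30, 1), (31, 3), (32, 3), (33, 4), (34, 2), (35, 6), (36, 6), (37, 10), (38, 10), (39, 1), (40, 9), (41, 1), (42, 10), (43, 1), (44, 7), (45, 10), (46, 4), (47, 9), (48, 10), (49, 5), (50, 10), (51, 10), (52, 10), (53, 3), (55, 7), (56, 9), (57, 10), (58, 8), (60, 10), (61, 1), (62, 10), (63, 6), (65, 9), (66, 2), (68, 9), (69, 1), (70, 1), (71, 7), (72, 2), (73, 8), (74, 8), (75, 2), (77, 4), (78, 5), (79, 8), (80, 1), (81, 6), (82, 3), (83, 5), (84, 5), (85, 8), (86, 3), (87, 2), (88, 7), (89, 4), (90, 7), (91,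 10), (92, 1), (93, 5), (94, 5), (95, 5), (96, 2), (97, 5), (98, 2), (99, 7), (102, 9), (103, 1), (104, 10), (105, 8), (106, 2), (107, 9), (108, 8), (109, 6), (110, 2), (111, 10), (112, 1), (113, 3), (114, 1), (115, 10), (116, 8), (117, 10), (118, 3), (120, 2), (121, 9), (122, 1), (123, 4), (124, 10), (125, 1), (126, 7), (127, 2), (128, 1), (129, 9), (130, 6), (131, 10), (132, 6)]]

/-- data -/
def d6_14 : SMat := [
  [(1, 5), (2, 1), (4, 6), (5, 9), (6, 9), (7, 3), (8, 1), (9, 1), (10, 5), (11, 5), (12, 1), (13, 6), (15, 8), (16, 9), (17, 3), (18, 10), (19, 5), (20, 6), (21, 7), (22, 2), (23, 6), (24, 6), (25, 10), (26, 3), (27, 3), (28, 2), (29, 3), (30, 9), (31, 1), (33, 5), (34, 5), (35, 8), (36, 5), (38, 8), (39, 5), (40, 1), (41, 10), (43, 8), (44, 6), (45, 1), (46, 4), (47, 2), (48, 9), (49, 3), (50, 3), (51, 5), (52, 10), (53, 7), (54, 4), (55, 7), (56, 3), (57, 5), (58, 4), (59, 5), (60, 5), (61, 8), (63,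 1), (64, 4), (65, 5), (66, 1), (67, 6), (68, 6), (69, 8), (71, 8), (72, 4), (73, 9), (74, 4), (75, 5), (76, 6), (77, 1), (78, 7), (79, 3), (80, 7), (81, 3), (82, 9), (83, 1), (84, 8), (85, 8), (86, 5), (88, 4), (89, 6), (90, 7), (91, 7), (92, 3), (93, 6), (95, 10), (96, 8), (97, 5), (98, 6), (100, 9), (101, 5), (102, 5), (103, 1), (104, 4), (105, 10), (106, 4), (107, 7), (108, 5), (109, 1), (110, 4), (111, 10), (112, 9), (113, 4), (114, 7), (115, 5), (116, 9), (117, 6), (118, 10), (119, 7), (120, 10), (122, 3), (123, 6), (124, 1), (125, 9), (126, 8), (127, 3), (128, 1), (129, 6), (130, 3), (131, 2), (132, 6)],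
  [(0, 5), (1, 6), (2, 6), (3, 6), (4, 3), (5, 5), (6, 9), (7, 2), (8, 6), (9, 6), (10, 5), (11, 5), (12, 5), (13, 5), (14, 4), (15, 3), (16, 4), (17, 7), (19, 4), (20, 10), (21, 5), (22, 6), (23, 3), (24, 10), (25, 3), (26, 5), (27, 4), (28, 5), (29, 1), (30, 6), (31, 10), (33, 8), (34, 6), (36, 9), (37, 9), (39, 8), (40, 7), (41, 4), (42, 5), (43, 8), (44, 8), (45, 2), (46, 2), (47, 6), (48, 9), (49, 7), (50, 5), (51, 3), (52, 9), (53, 4), (54, 5), (55, 8), (56, 1), (57, 3), (58, 1), (59, 5), (60, 7), (61, 4), (62, 2), (63, 8), (64, 2), (65, 4), (66, 10), (67, 9), (68, 2), (69, 6), (71, 4), (73, 6), (74, 1), (75, 9), (76, 2), (79, 3), (80, 1), (81, 10), (82, 9), (83, 1), (84, 9), (86, 3), (87, 1), (88, 3), (89, 10), (90, 5), (91, 5), (92, 2), (94, 10), (95, 10), (96, 3), (97, 10), (98, 2), (99, 6), (100, 10), (102, 10), (103, 1), (104, 10), (105, 6), (106, 9), (107, 10), (108, 6), (109, 7), (110, 1), (111, 1),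 (112, 1), (113, 5), (114, 7), (116, 2), (117, 2), (118, 8), (119, 1), (120, 1), (121, 2), (122, 2), (123, 7), (124, 5), (125, 7), (126, 6), (127, 7), (128, 10), (129, 5), (131, 6), (132, 5)],
  [(0, 7), (1, 4), (2, 5), (3, 9), (4, 10), (5, 2), (6, 7), (7, 9), (8, 5), (11, 4), (12, 10), (13, 1), (14, 3), (15, 9), (16, 2), (19, 10), (20, 6), (21, 3), (22, 7), (23, 6), (24, 8), (25, 2), (26, 1), (27, 6), (28, 3), (29, 6), (30, 1), (31, 9), (32, 2), (33, 10), (34, 7), (37, 2), (38, 7), (39, 9), (40, 10), (41, 7), (42, 7), (43, 2), (44, 5), (45, 4), (46, 4), (47, 8), (48, 10), (49, 2), (50, 9), (51, 8), (52, 4), (53, 6), (54, 7), (55, 7), (56, 9), (57, 10), (58, 5), (59, 6), (60, 9), (61, 2), (62, 5), (63, 9), (65, 9), (66, 2), (69, 1), (70, 3), (71, 7), (72, 6), (73, 3), (74, 9), (75, 10), (77, 7), (78, 4), (79, 3), (80, 8), (81, 7), (82, 4), (83, 6), (84, 6), (85, 8), (86, 3), (87, 2), (88, 9), (89, 5), (90, 8),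 (91, 3), (92, 3), (93, 7), (94, 6), (95, 6), (96, 2), (97, 5), (98, 3), (99, 7), (100, 2), (101, 10), (102, 10), (103, 2), (104, 10), (105, 8), (106, 6), (107, 3), (108, 3), (109, 3), (110, 6), (111, 8), (113, 8), (114, 3), (115, 8), (116, 6), (117, 9), (119, 5), (120, 6), (121, 6), (122, 1), (123, 3), (124, 2), (125, 3), (126, 8), (127, 5), (128, 5), (129, 10), (130, 6), (131, 8), (132, 10)],
  [(0, 7), (1, 7), (2, 1), (3, 2), (6, 8), (7, 7), (8, 4), (9, 1), (10, 3), (11, 7), (13, 6), (15, 7), (16, 9), (17, 5), (18, 6), (19, 3), (20, 4), (21, 1), (22, 3), (23, 7), (24, 7), (25, 10), (26, 4), (27, 4), (28, 10), (29, 4), (30, 10), (31, 1), (32, 4), (33, 5), (34, 8), (35, 10), (36, 9), (37, 10), (38, 7), (39, 7), (40, 8), (41, 2), (42, 10), (43, 4), (44, 5), (45, 3), (46, 2), (47, 7), (48, 1), (49, 4), (50, 5), (51, 3), (52, 7), (53, 5), (54, 8), (55, 9), (56, 5), (57, 7), (58, 1), (59, 4), (60, 3), (61, 4), (62,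 2), (63, 2), (64, 5), (65, 7), (66, 2), (67, 6), (68, 6), (69, 10), (70, 4), (71, 8), (72, 5), (73, 7), (74, 6), (75, 7), (76, 5), (77, 8), (80, 3), (82, 10), (83, 7), (84, 7), (86, 7), (87, 8), (88, 7), (89, 3), (90, 4), (92, 7), (94, 7), (95, 7), (96, 8), (97, 3), (99, 7), (100, 4), (101, 7), (102, 7), (103, 3), (104, 8), (105, 3), (106, 9), (108, 8), (109, 8), (110, 2), (112, 8), (114, 8), (115, 2), (116, 8), (117, 5), (118, 3), (120, 8), (121, 5), (122, 8), (123, 8), (124, 8), (126, 8), (128, 6), (129, 5), (131, 8), (132, 3)],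
  [(0, 1), (1, 6), (2, 9), (3, 9), (4, 6), (5, 1), (6, 2), (7, 6), (8, 6), (9, 6), (10, 2), (11, 9), (12, 5), (13, 8), (14, 4), (15, 10), (16, 3), (17, 3), (20, 6), (21, 1), (22, 2), (23, 3), (24, 5), (25, 9), (26, 9), (28, 8), (29, 8), (30, 3), (31, 8), (32, 7), (34, 10), (35, 7), (36, 9), (37, 2), (38, 4), (39, 1), (41, 8), (42, 8), (43, 1), (44, 8), (45, 10), (46, 5), (47, 6), (48, 6), (49, 7), (50, 5), (51, 6), (52, 5), (53, 4), (54, 5), (55, 1), (56, 1), (57, 3), (58, 1), (59, 1), (60, 7), (62, 10), (63, 5), (64, 9), (65, 4), (66, 6), (67, 2), (68, 9), (69, 10), (70, 3), (71, 4), (72, 7), (73, 2), (74, 1), (75, 1), (76, 10), (77, 5), (78, 9), (79, 6), (80, 6), (81, 3), (82, 1), (83, 7), (84, 4), (85, 5), (86, 8), (87, 9), (88, 5), (89, 4), (90, 10), (91, 6), (92, 9), (93, 3), (94, 3), (95, 10), (96, 3), (97, 3), (98, 9), (99, 10), (100, 1), (101, 1), (102, 1), (103, 10), (104, 1), (105, 9), (106, 6), (107,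 10), (108, 5), (109, 8), (110, 6), (113, 2), (114, 10), (115, 5), (116, 4), (117, 5), (118, 5), (119, 6), (120, 2), (121, 5), (122, 10), (123, 8), (124, 5), (125, 8), (126, 2), (127, 1), (128, 1), (130, 6), (131, 5), (132, 3)],
  [(0, 8), (1, 7), (2, 9), (4, 4), (5, 5), (6, 9), (7, 8), (8, 6), (9, 1), (10, 3), (11, 6), (12, 1), (13, 7), (14, 5), (15, 2), (16, 3), (17, 4), (18, 5), (20, 6), (21, 2), (22, 2), (23, 1), (24, 1), (25, 7), (26, 3), (27, 8), (28, 9), (29, 2), (30, 6), (31, 1), (32, 9), (33, 2), (34, 4), (35, 8), (36, 8), (37, 6), (38, 3), (40, 4), (41, 5), (42, 5), (43, 10), (44, 10), (45, 4), (46, 6), (47, 5), (48, 7), (49, 6), (50, 5), (51, 9), (52, 5), (53, 1), (54, 5), (55, 5), (56, 10), (58, 9), (59, 3), (60, 9), (62, 4), (63, 4), (65, 4), (68, 9), (69, 6), (70, 2), (71, 7), (72, 1), (74, 9), (75, 5), (77, 4), (78, 5), (79, 7), (80, 1), (81, 5), (83, 6), (84, 5), (85, 8), (86, 1), (87, 2), (88,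 7), (89, 5), (90, 7), (91, 4), (92, 1), (93, 6), (94, 4), (95, 5), (96, 2), (97, 4), (98, 3), (99, 8), (101, 1), (102, 10), (103, 1), (105, 7), (106, 1), (107, 10), (108, 2), (109, 2), (110, 1), (112, 6), (113, 1), (115, 7), (116, 9), (117, 1), (118, 4), (119, 10), (120, 1), (121, 2), (122, 10), (123, 8), (124, 10), (125, 5), (126, 1), (127, 8), (128, 1), (129, 6), (130, 9), (131, 7), (132, 4)],
  [(0, 6), (2, 8), (3, 3), (4, 10), (5, 2), (6, 1), (7, 5), (8, 5), (9, 5), (10, 6), (11, 9), (12, 6), (13, 9), (14, 10), (15, 5), (16, 1), (17, 5), (18, 5), (19, 1), (20, 7), (21, 1), (22, 7), (23, 3), (24, 1), (25, 2), (26, 5), (27, 4), (28, 6), (29, 9), (30, 3), (31, 8), (32, 7), (34, 5), (35, 9), (36, 4), (37, 1), (39, 6), (40, 4), (41, 2), (42, 9), (43, 6), (44, 8), (46, 7), (47, 3), (48, 2), (49, 9), (50, 2), (51, 10), (52, 2), (55, 4), (56, 6), (57, 5), (58, 6), (59, 6), (60, 1), (61, 6), (62, 7), (63, 1), (64,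 4), (65, 3), (66, 3), (67, 7), (68, 8), (69, 9), (70, 7), (72, 3), (73, 8), (74, 10), (75, 6), (76, 4), (78, 10), (79, 4), (80, 8), (81, 3), (82, 10), (83, 4), (84, 7), (85, 9), (86, 7), (87, 5), (89, 9), (90, 1), (91, 7), (92, 10), (93, 6), (94, 6), (95, 4), (96, 3), (97, 7), (98, 5), (99, 7), (100, 1), (101, 1), (102, 6), (103, 7), (104, 9), (105, 5), (107, 8), (108, 4), (109, 7), (110, 6), (111, 7), (112, 7), (113, 8), (114, 8), (115, 4), (116, 1), (117, 7), (118, 3), (119, 3), (120, 10), (122, 7), (123, 5), (124, 1), (125, 9), (126, 10), (127, 6), (128, 7), (130, 5), (131, 4), (132, 2)],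
  [(1, 3), (2, 9), (3, 5), (4, 3), (5, 5), (6, 5), (7, 8), (8, 10), (9, 10), (10, 5), (11, 2), (12, 1), (13, 10), (14, 8), (15, 1), (16, 7), (17, 7), (18, 3), (19, 10), (20, 10), (21, 3), (22, 1), (23, 2), (24, 1), (25, 10), (26, 4), (27, 5), (28, 8), (29, 5), (30, 3), (31, 2), (32, 10), (33, 1), (34, 1), (35, 4), (36, 1), (37, 9), (39, 1), (40, 3), (41, 8), (42, 4), (43, 3), (44, 9), (45, 8), (46, 5), (47, 9), (48, 10), (50, 8), (51, 8), (52, 2), (53, 2), (54, 8), (55, 2), (56, 5), (57, 6), (58, 6), (59, 9), (60, 10), (61, 3), (62, 8), (63, 8), (66, 4), (69, 3), (70, 1), (71, 2), (72, 2), (73, 7), (74, 5), (76, 7), (77, 8), (78, 7), (79, 3), (80, 10), (81, 4), (82, 2), (83, 7), (84, 7), (86, 3), (87, 4), (89, 10), (90, 1), (91, 3), (92, 4), (93, 3), (94, 7), (95, 7), (96, 5), (97, 4), (98, 4), (99, 10), (100, 1), (101, 3), (102, 3), (103, 10), (104, 1), (105, 4), (106, 6), (107, 9), (108, 7), (109, 4), (111,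 9), (112, 9), (113, 9), (114, 9), (115, 3), (116, 9), (117, 2), (118, 9), (120, 2), (121, 4), (122, 10), (124, 8), (125, 6), (126, 3), (128, 7), (129, 10), (130, 8), (131, 5), (132, 5)]]

/-- data -/
def d6_15 : SMat := [
  [(0, 1), (1, 8), (2, 7), (3, 8), (4, 2), (5, 7), (6, 3), (7, 1), (8, 7), (9, 2), (10, 10), (13, 9), (14, 9), (15, 5), (16, 8), (20, 4), (21, 6), (24, 3), (25, 10), (26, 1), (27, 6), (28, 9), (29, 6), (31, 10), (32, 8), (33, 5), (34, 2), (35, 1), (36, 7), (37, 9), (40, 2), (41, 5), (42, 7), (43, 8), (45, 10), (46, 10), (48, 1), (49, 9), (50, 1), (51, 2), (52, 4), (54, 4), (55, 1), (56, 3), (57, 2), (58, 7), (59, 2), (61, 8), (62, 1), (63, 8), (64, 2), (65, 2), (66, 2), (67, 8), (68, 2), (69, 10), (71, 5), (72, 10), (74, 3), (75, 3), (76, 4), (77, 2), (78, 3), (79, 8), (80, 2), (81, 7), (82, 3), (83, 9), (84, 5), (85, 9), (86, 6), (87, 2), (89, 7), (90, 7), (91, 2), (92, 5), (93, 9), (94, 8),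 (95, 7), (97, 7), (98, 5), (99, 5), (100, 7), (101, 9), (102, 9), (103, 3), (104, 8), (105, 6), (106, 6), (107, 3), (109, 8), (111, 5), (112, 8), (115, 6), (116, 5), (118, 2), (119, 8), (120, 2), (121, 8), (122, 8), (123, 8), (124, 5), (125, 8), (126, 8), (127, 6), (128, 3), (129, 5), (130, 3), (132, 8)],
  [(0, 8), (1, 2), (2, 6), (3, 2), (4, 10), (5, 9), (6, 6), (7, 7), (8, 7), (9, 8), (10, 5), (11, 1), (12, 1), (13, 2), (14, 6), (15, 10), (16, 9), (17, 6), (18, 5), (19, 3), (20, 3), (22, 4), (24, 9), (25, 6), (26, 8), (27, 1), (28, 7), (29, 3), (30, 4), (31, 4), (32, 2), (33, 6), (34, 7), (35, 4), (36, 7), (37, 7), (38, 4), (39, 2), (40, 7), (41, 6), (43, 3), (45, 4), (46, 10), (47, 1), (49, 7), (50, 7), (51, 2), (52, 9), (54, 9), (55, 8), (56, 3), (57, 4), (58, 6), (59, 2), (60, 1), (61, 7), (62, 4), (63, 1), (64, 5), (65, 6), (66, 7), (67, 6), (68, 5), (69, 10), (70, 10), (72, 8), (73, 4), (74, 3), (75, 2),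 (76, 1), (77, 1), (78, 9), (80, 5), (81, 5), (82, 4), (83, 6), (84, 9), (85, 7), (86, 1), (87, 2), (88, 7), (90, 7), (91, 1), (92, 4), (93, 5), (94, 8), (95, 6), (96, 2), (97, 5), (98, 1), (99, 2), (100, 1), (101, 1), (102, 6), (103, 5), (105, 9), (106, 6), (107, 2), (108, 8), (109, 3), (110, 1), (111, 5), (112, 3), (113, 7), (114, 5), (115, 10), (116, 2), (117, 1), (118, 7), (119, 4), (120, 8), (121, 9), (122, 3), (123, 3), (124, 4), (125, 8), (126, 10), (127, 10), (128, 3), (129, 6), (130, 7), (131, 8), (132, 5)],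
  [(1, 7), (2, 2), (3, 7), (4, 5), (5, 10), (6, 9), (7, 3), (8, 9), (9, 10), (10, 1), (11, 3), (12, 2), (13, 8), (14, 8), (15, 10), (16, 1), (17, 3), (18, 9), (19, 9), (20, 7), (22, 6), (23, 2), (24, 4), (25, 8), (26, 9), (27, 10), (28, 8), (30, 7), (31, 2), (32, 2), (33, 2), (35, 9), (36, 10), (37, 9), (38, 1), (39, 7), (40, 8), (41, 1), (43, 8), (44, 9), (45, 4), (47, 7), (48, 10), (49, 10), (50, 5), (51, 8), (52, 5), (53, 1), (54, 2), (56, 1), (57, 3), (58, 2), (59, 8), (60, 7), (61, 9), (62, 3), (63, 10), (64, 10), (65, 2), (66, 8), (68, 1), (69, 6), (70, 4), (71, 2), (72, 8), (73, 7), (74, 2), (75, 4), (76, 1), (77, 1), (78, 5), (79, 8), (80, 1), (81, 6), (82, 2), (83, 8), (84, 3), (85, 10), (86, 4), (87, 1), (89, 4), (90, 2), (91, 2), (92, 4), (93, 7), (94, 5), (95, 5), (96, 4), (97, 5), (98, 4), (99, 4), (100, 8), (101, 10), (102, 10), (103, 2), (104, 9), (106, 3), (108, 10), (111, 6), (114, 2), (115, 8),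 (116, 6), (117, 8), (118, 9), (119, 3), (120, 5), (121, 2), (122, 10), (123, 2), (124, 6), (125, 5), (126, 8), (127, 8), (129, 8), (130, 6), (131, 5), (132, 3)],
  [(0, 4), (1, 10), (2, 4), (3, 8), (4, 4), (5, 3), (6, 10), (8, 1), (9, 3), (10, 2), (11, 9), (13, 10), (14, 2), (15, 9), (17, 1), (19, 8), (20, 8), (22, 2), (24, 10), (25, 9), (26, 3), (27, 4), (28, 2), (29, 3), (30, 2), (31, 2), (32, 8), (33, 8), (35, 2), (36, 9), (37, 2), (38, 8), (39, 9), (40, 3), (41, 6), (42, 6), (43, 8), (45, 4), (46, 2), (48, 9), (49, 5), (50, 9), (51, 8), (52, 4), (53, 7), (55, 3), (56, 1), (57, 2), (58, 6), (59, 9), (60, 8), (61, 9), (62, 4), (63, 7), (64, 8), (65, 10), (66, 9), (67, 3), (68, 1), (69, 4), (70, 4), (71, 3), (72, 8), (73, 10), (74, 5), (75, 9), (76, 1), (77, 7), (78, 7), (79, 3), (80, 3), (81, 2), (82, 1), (83, 1), (85, 3), (86, 4), (87, 3), (88, 5), (89, 2), (92, 1), (93, 1), (94, 2), (95, 4), (96, 2), (97,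 1), (98, 3), (99, 10), (100, 9), (101, 2), (102, 9), (103, 4), (104, 10), (105, 5), (106, 7), (107, 1), (108, 8), (109, 10), (110, 2), (111, 7), (112, 7), (113, 1), (114, 8), (115, 5), (116, 1), (117, 2), (118, 9), (119, 10), (120, 6), (121, 10), (122, 2), (123, 5), (124, 10), (125, 10), (126, 5), (127, 6), (128, 8), (129, 8), (130, 6), (132, 3)],
  [(0, 2), (1, 9), (2, 4), (3, 4), (4, 10), (6, 7), (7, 8), (8, 1), (9, 10), (10, 1), (11, 5), (12, 6), (13, 6), (14, 3), (15, 8), (16, 7), (17, 9), (18, 1), (20, 1), (22, 1), (23, 2), (24, 5), (25, 6), (27, 9), (28, 9), (29, 3), (30, 7), (31, 2), (32, 8), (33, 1), (34, 2), (35, 2), (36, 3), (37, 8), (39, 7), (40, 7), (41, 9), (42, 2), (43, 7), (44, 8), (45, 7), (46, 7), (47, 1), (48, 8), (49, 5), (50, 3), (51, 7), (52, 10), (53, 1), (54, 2), (55, 4), (57, 1), (59, 9), (60, 7), (62, 8), (63, 7), (64, 3), (65, 6), (66, 1), (67, 8), (68, 3), (69, 7), (70, 8), (71, 10),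 (72, 6), (73, 5), (75, 10), (76, 3), (77, 5), (78, 10), (79, 6), (81, 5), (82, 4), (83, 6), (84, 5), (85, 2), (88, 6), (89, 5), (90, 7), (91, 5), (92, 1), (93, 5), (94, 4), (95, 5), (96, 8), (97, 5), (98, 1), (99, 10), (100, 4), (105, 10), (106, 10), (107, 1), (108, 6), (109, 3), (110, 6), (111, 6), (112, 6), (113, 6), (114, 1), (115, 1), (116, 6), (119, 5), (121, 6), (122, 6), (123, 1), (125, 3), (126, 6), (127, 5), (128, 5), (129, 6), (130, 8), (131, 6), (132, 5)],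
  [(0, 5), (2, 3), (3, 6), (4, 10), (5, 8), (6, 1), (7, 8), (9, 10), (10, 1), (11, 5), (13, 6), (14, 1), (15, 4), (16, 8), (17, 1), (18, 9), (20, 4), (21, 3), (22, 4), (23, 6), (24, 4), (25, 4), (26, 3), (27, 10), (28, 1), (29, 7), (30, 10), (31, 6), (33, 9), (34, 6), (35, 10), (36, 10), (39, 10), (40, 7), (41, 4), (42, 5), (43, 10), (44, 5), (45, 2), (46, 9), (47, 9), (48, 5), (50, 2), (51, 1), (52, 4), (53, 10), (55, 9), (56, 2), (57, 1), (58, 2), (59, 8), (60, 1), (62, 2), (63, 5), (64, 9), (65, 4), (66, 5), (67, 2), (68, 5), (69, 5), (70, 4), (71, 3), (72, 9), (73, 7), (74, 9), (75, 10), (76, 5), (77, 9), (78, 6), (79, 3), (80, 8), (81, 4), (82, 8), (83, 5), (84, 5), (85, 2), (86, 4), (87, 8), (88, 1), (89, 4), (90, 6), (91, 9), (92, 6), (94, 1), (95, 2), (96, 2), (97, 2), (98, 7), (99, 4), (100, 5), (101, 1), (102, 10), (103, 10), (104, 5), (105, 9), (106, 3), (107, 10), (108, 5), (109, 6), (110, 4), (111,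 8), (112, 8), (113, 8), (114, 5), (115, 7), (116, 7), (117, 4), (118, 10), (119, 1), (120, 5), (122, 4), (124, 9), (125, 1), (126, 7), (127, 4), (128, 8), (129, 2), (130, 9), (131, 5), (132, 8)],
  [(0, 6), (1, 6), (2, 8), (3, 9), (4, 1), (5, 6), (6, 9), (8, 4), (9, 4), (10, 8), (11, 10), (12, 7), (13, 2), (14, 3), (15, 3), (16, 6), (17, 8), (18, 2), (19, 7), (20, 1), (21, 5), (22, 3), (23, 8), (25, 10), (26, 4), (28, 10), (29, 9), (30, 6), (32, 1), (33, 6), (34, 9), (35, 6), (36, 1), (37, 9), (38, 8), (39, 8), (40, 7), (41, 10), (42, 4), (43, 8), (44, 3), (45, 5), (46, 10), (47, 9), (48, 10), (49, 7), (50, 5), (51, 6), (53, 6), (54, 5), (55, 1), (56, 1), (57, 3), (58, 1), (59, 8), (60, 7), (61, 7), (62, 5), (63, 7), (64, 10), (65, 1), (66, 7), (67, 1), (68, 10), (69, 6), (70, 8), (71, 4), (72, 6), (73, 6), (74, 1), (75, 8), (76, 10), (77, 3), (78, 9), (79, 4), (81, 5), (82, 7), (83, 5), (84, 2), (85, 7), (86,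 6), (87, 6), (88, 10), (89, 10), (90, 7), (91, 7), (92, 6), (93, 5), (94, 10), (95, 2), (96, 6), (97, 10), (98, 9), (100, 5), (101, 8), (102, 8), (103, 6), (104, 8), (105, 9), (106, 1), (107, 6), (109, 10), (110, 8), (111, 2), (112, 8), (113, 8), (114, 2), (115, 9), (116, 10), (117, 10), (118, 2), (119, 8), (120, 4), (121, 1), (122, 1), (123, 8), (124, 1), (125, 5), (127, 4), (129, 2), (130, 2), (131, 5), (132, 9)],
  [(0, 9), (1, 7), (2, 7), (3, 10), (4, 10), (5, 6), (6, 4), (7, 2), (8, 4), (9, 2), (10, 10), (11, 1), (12, 8), (13, 9), (14, 6), (15, 8), (17, 4), (18, 8), (19, 5), (20, 8), (21, 1), (22, 7), (23, 2), (24, 1), (25, 10), (26, 4), (28, 6), (29, 10), (31, 9), (32, 8), (34, 5), (35, 8), (36, 4), (37, 4), (38, 9), (39, 7), (41, 9), (42, 4), (43, 6), (44, 9), (45, 2), (46, 10), (47, 10), (48, 10), (50, 9), (51, 8), (52, 2), (54, 2), (55, 6), (57, 5), (58, 1), (59, 9), (60, 8), (61, 8), (62, 2), (63, 1),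 (64, 4), (65, 4), (66, 10), (67, 7), (68, 5), (69, 1), (70, 8), (71, 3), (72, 8), (73, 4), (74, 1), (75, 6), (76, 5), (77, 4), (78, 4), (79, 8), (80, 8), (81, 9), (82, 10), (83, 10), (85, 8), (86, 3), (87, 8), (88, 6), (89, 9), (91, 4), (92, 6), (93, 6), (94, 5), (95, 7), (96, 2), (97, 6), (98, 8), (99, 5), (100, 6), (101, 2), (102, 9), (103, 7), (104, 5), (105, 3), (107, 2), (108, 1), (109, 8), (110, 7), (111, 10), (112, 10), (113, 2), (115, 3), (116, 1), (117, 6), (118, 4), (119, 9), (120, 3), (121, 7), (122, 6), (124, 7), (125, 8), (126, 2), (127, 9), (128, 3), (129, 2), (130, 8), (131, 10), (132, 7)]]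

/-- data -/
def d6_16 : SMat := [
  [(0, 8), (2, 5), (4, 5), (5, 7), (6, 3), (7, 3), (8, 7), (9, 6), (10, 4), (11, 9), (12, 9), (13, 2), (14, 1), (15, 4), (16, 5), (17, 5), (18, 6), (19, 10), (20, 9), (21, 4), (22, 8), (23, 9), (24, 9), (26, 8), (27, 10), (28, 2), (29, 10), (30, 8), (31, 1), (32, 2), (33, 6), (34, 8), (35, 6), (36, 5), (37, 2), (39, 10), (40, 3), (41, 9), (42, 10), (44, 2), (45, 3), (46, 7), (47, 3), (50, 1), (51, 1), (52, 7), (53, 8), (54, 9), (55, 6), (56, 4), (58, 10), (59, 1), (60, 2), (61, 2), (62, 2), (63, 10), (64, 9), (65, 9), (66, 8), (67, 1), (68, 9), (69, 10), (70, 8), (71, 6), (72, 10), (73, 3), (74, 4), (75, 9), (76, 8), (77, 2), (78, 3), (79, 8), (80, 6), (81, 7), (82, 3), (83, 5), (84, 5), (85, 9), (86, 6), (87, 2), (89, 7), (90, 7), (91, 2), (92, 5), (93, 9), (94, 8), (95, 7), (97, 7), (98, 5), (99, 5), (100, 7), (101, 9), (102, 9), (103, 3), (104, 8), (105, 5), (106, 5), (107,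 3), (109, 8), (110, 10), (111, 6), (112, 8), (113, 1), (115, 6), (116, 6), (117, 10), (118, 4), (119, 8), (120, 3), (121, 8), (122, 8), (123, 8), (124, 7), (125, 8), (126, 9), (127, 4), (128, 1), (129, 3), (130, 2), (132, 9)],
  [(0, 8), (2, 4), (3, 9), (5, 4), (6, 7), (7, 6), (8, 10), (9, 2), (10, 2), (11, 10), (12, 1), (13, 3), (14, 5), (15, 9), (16, 7), (17, 5), (18, 6), (19, 5), (20, 5), (22, 7), (23, 8), (24, 10), (25, 9), (26, 10), (27, 7), (28, 5), (29, 6), (30, 5), (31, 10), (32, 1), (34, 7), (35, 6), (36, 9), (37, 5), (38, 4), (39, 1), (40, 7), (41, 5), (42, 1), (43, 2), (44, 3), (45, 1), (46, 9), (48, 1), (49, 6), (50, 9), (51, 4), (52, 10), (55, 7), (56, 2), (57, 9), (58, 2), (59, 2), (61, 2), (62, 1), (64, 8), (65, 9), (66, 9), (67, 3), (68, 7), (69, 9), (70, 3), (73, 6), (74, 1), (75, 5), (76, 7), (78, 5), (79, 10), (80, 4), (81, 6), (82, 5), (83, 2), (84, 5), (86, 6), (87, 5), (89, 5), (90, 7), (92,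 1), (93, 6), (94, 6), (95, 10), (96, 5), (97, 6), (98, 5), (99, 9), (100, 10), (101, 4), (102, 7), (103, 5), (104, 10), (105, 3), (106, 3), (107, 3), (108, 8), (109, 5), (110, 8), (111, 5), (113, 8), (114, 2), (115, 3), (116, 2), (117, 5), (118, 3), (119, 8), (121, 2), (122, 10), (123, 10), (124, 9), (125, 5), (128, 1), (130, 8), (131, 8), (132, 6)],
  [(0, 10), (1, 7), (2, 1), (3, 1), (4, 7), (5, 10), (6, 1), (7, 4), (8, 1), (9, 1), (10, 7), (11, 4), (12, 10), (13, 8), (14, 2), (15, 10), (17, 9), (18, 2), (19, 1), (20, 3), (21, 5), (22, 9), (23, 9), (24, 8), (25, 5), (26, 1), (27, 4), (28, 3), (29, 2), (30, 3), (31, 7), (32, 3), (34, 7), (35, 1), (36, 10), (37, 5), (38, 8), (39, 2), (40, 2), (41, 3), (42, 2), (43, 2), (44, 2), (45, 3), (46, 7), (47, 5), (48, 5), (49, 1), (50, 8), (51, 3), (52, 5), (53, 9), (54, 4), (55, 3), (56, 10), (57, 9), (58, 10), (60, 3), (61, 2), (62, 3), (63, 4), (64, 1), (65, 7), (66,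 2), (67, 10), (68, 1), (69, 3), (70, 9), (71, 8), (72, 10), (74, 10), (76, 1), (77, 10), (78, 10), (79, 3), (81, 1), (82, 3), (83, 3), (86, 2), (88, 2), (89, 1), (91, 10), (92, 2), (93, 2), (94, 1), (95, 1), (96, 2), (97, 1), (98, 1), (99, 10), (100, 9), (101, 10), (103, 1), (104, 10), (105, 3), (106, 3), (107, 6), (108, 6), (109, 2), (110, 2), (111, 7), (112, 2), (113, 6), (114, 4), (115, 6), (116, 8), (119, 2), (121, 2), (122, 2), (123, 8), (126, 6), (128, 4), (129, 4), (130, 5), (131, 8)],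
  [(0, 3), (1, 6), (2, 4), (3, 3), (4, 2), (5, 4), (6, 10), (7, 9), (8, 4), (9, 5), (10, 9), (11, 4), (12, 7), (14, 3), (15, 6), (16, 5), (17, 9), (18, 3), (19, 8), (20, 9), (21, 2), (22, 7), (23, 4), (25, 10), (26, 6), (27, 1), (28, 4), (29, 6), (30, 6), (31, 8), (33, 10), (34, 7), (35, 2), (36, 8), (38, 7), (39, 7), (40, 9), (41, 4), (42, 5), (43, 8), (44, 6), (45, 5), (46, 2), (47, 4), (49, 7), (50, 5), (51, 5), (52, 10), (53, 3), (54, 4), (55, 9), (56, 3), (57, 2), (58, 10), (59, 6), (60, 4), (61, 8), (62, 1), (63, 10), (64, 4), (65, 4), (67, 7), (68, 4), (69, 6), (70, 9), (71, 7), (72, 3), (73, 8), (74, 3), (75, 8), (76, 4), (86, 1), (87, 10), (88, 1), (92, 1), (98, 1), (100, 2), (101, 10), (102, 1), (105, 2), (106, 4), (107, 7), (108, 6), (109, 7), (110, 5), (111, 9), (112, 7), (113, 1), (114, 1), (115, 8), (116, 4), (117, 2), (118, 3), (119, 7), (120, 6), (121, 2), (122, 8), (123, 5), (124, 10), (125, 5),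 (127, 6), (128, 10), (129, 5), (130, 6), (131, 1), (132, 2)],
  [(0, 9), (1, 2), (2, 6), (3, 7), (4, 4), (5, 2), (6, 3), (7, 8), (8, 2), (9, 6), (10, 4), (11, 7), (12, 4), (13, 9), (14, 1), (15, 7), (17, 3), (18, 1), (19, 9), (20, 1), (22, 1), (23, 3), (24, 8), (25, 6), (26, 3), (27, 4), (28, 6), (29, 4), (30, 6), (31, 3), (32, 1), (33, 6), (34, 3), (35, 10), (36, 5), (37, 6), (38, 9), (39, 10), (40, 9), (41, 6), (42, 9), (43, 10), (44, 9), (45, 5), (46, 2), (47, 6), (48, 8), (49, 4), (50, 6), (51, 1), (52, 1), (53, 3), (54, 10), (55, 9), (56, 4), (57, 3), (58, 9), (59, 6), (60, 10), (61, 9), (62, 7), (63, 9), (64, 2), (65, 7), (67, 8), (68, 2), (69, 5), (70, 1), (71, 7), (72, 6), (73, 3), (74, 4), (75, 8), (76, 4), (77, 2), (78, 3), (79, 7), (80, 2), (81, 8), (82, 4), (83, 6), (84, 5), (85, 9), (86, 6), (87, 2), (89, 6), (90, 7), (91, 3), (92, 5), (93, 10), (95, 7), (97, 6), (98, 4), (99, 6), (100, 7), (101,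 10), (102, 10), (103, 3), (104, 9), (105, 9), (106, 9), (107, 5), (108, 4), (109, 7), (110, 7), (111, 7), (112, 4), (113, 5), (114, 9), (115, 6), (116, 2), (117, 7), (118, 1), (119, 4), (120, 3), (121, 10), (122, 10), (123, 2), (124, 3), (125, 4), (126, 6), (128, 2), (129, 3), (130, 8), (131, 1), (132, 10)]]

/-- data -/
def d6 : SMat := d6_0 ++ d6_1 ++ d6_2 ++ d6_3 ++ d6_4 ++ d6_5 ++ d6_6 ++ d6_7 ++ d6_8 ++ d6_9 ++ d6_10 ++ d6_11 ++ d6_12 ++ d6_13 ++ d6_14 ++ d6_15 ++ d6_16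

/-- data -/
def d7_0 : SMat := [
  [(0, 10), (1, 1), (2, 1), (3, 4), (4, 5), (5, 2), (6, 1), (7, 9), (8, 1), (9, 5), (10, 5), (11, 6), (12, 3), (13, 1), (14, 9), (16, 3), (17, 10), (18, 8), (19, 1), (20, 8), (21, 7), (22, 7), (23, 10), (24, 10), (25, 8), (26, 6), (27, 8), (28, 5), (29, 10), (30, 2), (31, 10), (32, 5), (33, 10), (35, 1), (37, 5), (39, 5), (40, 10), (41, 6), (42, 6), (44, 9), (45, 7), (47, 8), (48, 5), (49, 4), (50, 1), (51, 4), (52, 2), (53, 10), (54, 3), (55, 5), (56, 8), (57, 7), (58, 7), (59, 7), (60, 3), (61, 1), (62, 4), (63, 2), (65, 7), (66, 4), (67, 3), (69, 3), (70, 6), (71, 4), (72, 2), (73, 8), (75, 3), (77, 4), (78, 6), (80, 10), (81, 6), (82, 10), (83, 2), (84, 6), (85, 1), (86, 2), (87, 6), (89, 3), (90, 7), (91, 1), (92, 9), (93, 9), (94, 9), (95, 10), (96, 3), (97, 9), (98, 6), (99, 10), (100, 1), (104, 1), (105, 4), (106, 5), (108, 7), (109, 1), (111, 2), (112, 7), (113, 9), (114,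 1), (115, 7), (116, 5), (117, 5), (118, 8), (119, 2), (120, 3), (121, 1), (122, 3), (123, 5), (124, 6), (125, 7), (126, 1), (127, 4), (128, 8), (129, 4), (130, 2), (131, 5), (132, 4)],
  [(0, 10), (1, 5), (2, 4), (3, 1), (4, 8), (5, 10), (6, 5), (7, 7), (8, 7), (9, 4), (10, 9), (12, 1), (13, 10), (14, 8), (15, 7), (16, 9), (17, 8), (18, 6), (19, 10), (20, 6), (21, 3), (22, 3), (23, 4), (24, 4), (25, 4), (27, 9), (28, 4), (30, 10), (31, 1), (32, 10), (33, 8), (34, 4), (35, 4), (37, 4), (38, 10), (39, 4), (40, 1), (41, 10), (42, 5), (43, 4), (44, 9), (45, 7), (46, 7), (47, 2), (48, 4), (49, 8), (50, 6), (51, 8), (52, 8), (54, 9), (55, 4), (56, 3), (57, 3), (58, 7), (60, 2), (61, 4), (62, 9), (63, 10), (64, 3), (65, 10), (66, 5), (67, 8), (68, 1), (69, 10), (70, 4), (71, 6), (72, 1), (73, 2), (74, 1), (75, 8), (76, 3), (77, 3), (78, 1), (79, 10), (80, 9), (81, 9), (82, 8), (83, 9), (84, 8), (86, 8), (87, 10), (88,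 5), (89, 7), (90, 1), (91, 1), (92, 7), (93, 5), (94, 7), (95, 8), (96, 4), (98, 9), (99, 1), (100, 5), (102, 9), (103, 8), (104, 7), (105, 4), (106, 10), (107, 1), (108, 6), (109, 1), (110, 8), (111, 1), (112, 1), (113, 10), (114, 2), (115, 6), (116, 3), (117, 1), (118, 1), (119, 10), (120, 2), (121, 3), (122, 1), (123, 1), (125, 10), (127, 9), (128, 9), (130, 2), (131, 2), (132, 9)],
  [(0, 9), (1, 8), (2, 2), (3, 3), (4, 10), (5, 6), (6, 1), (7, 1), (9, 2), (10, 6), (11, 9), (12, 10), (13, 4), (14, 9), (15, 8), (16, 5), (17, 3), (18, 6), (19, 1), (20, 2), (22, 8), (23, 6), (24, 10), (25, 4), (26, 10), (27, 8), (28, 9), (29, 3), (30, 6), (31, 2), (32, 1), (33, 7), (34, 7), (35, 5), (36, 3), (37, 9), (39, 1), (40, 7), (41, 3), (42, 2), (44, 5), (45, 3), (48, 9), (50, 8), (52, 9), (53, 6), (54, 7), (55, 5), (56, 1), (59, 3), (60, 10), (61, 1), (63, 6), (64, 8), (66, 4), (67, 6), (68, 8), (69, 7), (70, 7), (71,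 5), (72, 6), (73, 1), (74, 4), (76, 8), (77, 2), (78, 1), (80, 10), (81, 8), (82, 1), (84, 5), (85, 9), (86, 7), (87, 4), (88, 8), (89, 10), (90, 6), (91, 1), (92, 7), (93, 7), (94, 9), (95, 9), (96, 1), (97, 9), (98, 7), (99, 2), (100, 3), (101, 1), (102, 1), (103, 9), (104, 2), (106, 5), (107, 3), (108, 8), (109, 8), (110, 8), (111, 7), (114, 10), (115, 1), (116, 2), (117, 3), (118, 1), (119, 10), (120, 1), (121, 7), (122, 2), (123, 10), (124, 2), (125, 1), (126, 9), (127, 6), (128, 6), (129, 1), (130, 4), (131, 4), (132, 5)],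
  [(0, 5), (1, 4), (2, 1), (3, 5), (4, 9), (5, 8), (6, 5), (7, 7), (9, 3), (10, 10), (11, 1), (13, 10), (14, 4), (15, 1), (16, 5), (17, 10), (18, 1), (19, 6), (20, 1), (21, 4), (22, 10), (23, 9), (24, 9), (25, 8), (26, 3), (27, 3), (28, 8), (29, 6), (30, 1), (31, 3), (32, 6), (33, 1), (34, 9), (35, 1), (36, 9), (37, 4), (39, 6), (40, 1), (41, 4), (42, 7), (43, 6), (44, 2), (45, 1), (46, 4), (47, 2), (48, 3), (49, 1), (50, 3), (51, 6), (52, 9), (53, 9), (54, 2), (55, 1), (56, 10), (57, 10), (58, 10), (59, 3), (60, 6), (61, 1), (62, 1), (63, 6), (64, 1), (65, 2), (66, 7), (67, 10), (68, 1), (69, 2), (71, 8), (72, 1), (74, 10), (75, 3), (76, 10), (77, 5), (78, 3), (79, 5), (80, 8), (81, 2), (82, 10), (83, 1), (84, 3), (85, 2), (86, 4), (87, 2), (88, 3), (89, 8), (90, 2), (91, 8), (92, 7), (93, 2), (94, 5), (95, 2), (98, 3), (100, 8), (101, 9), (102, 8), (103, 9), (104, 8), (105, 3), (106, 9), (108, 2), (109, 9),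 (110, 7), (112, 4), (113, 4), (114, 4), (115, 4), (116, 4), (117, 9), (118, 4), (119, 5), (120, 2), (121, 9), (122, 4), (124, 4), (126, 4), (127, 5), (130, 7), (131, 2)],
  [(0, 10), (1, 4), (3, 5), (4, 3), (5, 7), (7, 7), (9, 8), (10, 4), (11, 7), (13, 10), (14, 8), (15, 5), (17, 4), (19, 6), (20, 7), (21, 4), (22, 5), (23, 10), (24, 4), (25, 8), (26, 4), (27, 8), (28, 4), (29, 1), (30, 3), (31, 3), (32, 7), (33, 1), (34, 10), (35, 7), (36, 10), (37, 8), (39, 7), (41, 8), (42, 8), (44, 1), (45, 6), (46, 4), (47, 3), (48, 8), (49, 7), (50, 4), (51, 7), (52, 4), (53, 10), (54, 7), (55, 6), (56, 4), (57, 4), (58, 4), (59, 10), (60, 7), (61, 7), (62, 6), (63, 7), (64, 1), (65, 4), (66, 8), (67, 10), (68, 1), (69, 7), (70, 1), (71, 4), (72, 1), (73, 5), (74, 4), (75, 2), (76, 1), (77, 4), (78, 3), (79, 9), (80, 9), (81, 8), (82, 2), (83, 8), (84, 9), (85, 7), (86, 8), (87, 8), (88, 5), (90, 7), (91, 4), (92, 8), (93,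 8), (94, 10), (95, 1), (96, 10), (97, 1), (98, 6), (99, 7), (100, 4), (101, 2), (102, 2), (103, 7), (104, 2), (105, 7), (106, 1), (107, 5), (109, 4), (110, 8), (111, 1), (113, 10), (114, 7), (115, 9), (116, 4), (117, 6), (118, 10), (119, 8), (120, 9), (121, 4), (122, 4), (123, 6), (125, 10), (126, 9), (127, 4), (128, 6), (129, 2), (130, 2), (131, 5)],
  [(0, 9), (1, 4), (3, 3), (4, 4), (5, 6), (6, 7), (7, 7), (8, 7), (9, 4), (10, 6), (11, 3), (12, 4), (13, 3), (14, 4), (15, 4), (20, 1), (22, 8), (23, 7), (24, 4), (25, 4), (27, 8), (28, 4), (29, 8), (30, 7), (31, 7), (33, 8), (34, 3), (36, 3), (37, 4), (39, 7), (40, 7), (42, 1), (44, 4), (45, 10), (46, 4), (48, 4), (50, 8), (52, 4), (53, 7), (54, 7), (55, 7), (57, 10), (59, 7), (62, 10), (63, 7), (64, 4), (66, 4), (67, 7), (68, 4), (69, 7), (70, 8), (72, 8), (73, 1), (75, 5), (76, 4), (77, 4), (78, 7), (79, 8), (80, 3), (81, 4), (82, 7), (83, 5), (84, 5), (85,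 3), (86, 10), (87, 9), (88, 2), (89, 6), (90, 3), (91, 8), (92, 8), (93, 4), (94, 5), (95, 5), (96, 9), (97, 6), (98, 8), (99, 4), (100, 9), (101, 1), (102, 1), (103, 9), (104, 1), (105, 3), (106, 4), (107, 8), (108, 2), (109, 7), (110, 3), (111, 4), (112, 5), (113, 10), (114, 7), (115, 4), (116, 10), (117, 5), (118, 7), (119, 1), (120, 4), (121, 9), (122, 7), (123, 7), (124, 1), (125, 7), (126, 4), (127, 6), (128, 8), (129, 9), (130, 9), (131, 3), (132, 9)],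
  [(0, 1), (1, 5), (2, 9), (3, 2), (4, 2), (5, 5), (6, 10), (7, 9), (8, 9), (9, 2), (10, 2), (11, 1), (12, 2), (13, 5), (14, 2), (15, 4), (16, 2), (17, 2), (18, 9), (20, 9), (22, 4), (23, 5), (24, 6), (25, 4), (26, 2), (27, 4), (28, 6), (29, 8), (30, 3), (31, 5), (32, 2), (33, 10), (34, 7), (35, 9), (36, 3), (37, 4), (39, 10), (40, 3), (41, 2), (42, 10), (44, 6), (45, 10), (46, 4), (47, 7), (48, 4), (49, 7), (50, 3), (52, 2), (53, 9), (54, 7), (55, 7), (57, 7), (62, 10), (63, 2), (64, 8), (65, 4), (66, 8), (67, 3), (68, 8), (69, 3), (70, 8), (72, 6), (73, 8), (75, 3), (76, 8), (77, 10), (78, 1), (80, 10), (81, 1), (82, 8), (83, 1), (85, 1), (86, 1), (87, 1), (88, 2), (89, 10), (90, 4), (91, 8), (92, 2), (93, 1), (94, 10), (96, 1), (97, 10), (98, 2), (99, 6), (100, 8), (101, 9), (103, 2), (104, 10), (105, 7), (106, 10), (107, 5), (109, 1), (110, 7), (111, 10), (112, 10), (113, 10), (114, 4), (115, 9), (116, 1),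 (117, 3), (118, 8), (119, 10), (120, 4), (121, 3), (122, 3), (123, 7), (124, 7), (125, 3), (128, 7), (129, 9), (130, 2), (131, 6), (132, 9)],
  [(1, 4), (2, 7), (5, 7), (6, 10), (7, 8), (8, 7), (10, 7), (12, 8), (13, 7), (16, 3), (17, 4), (19, 4), (21, 7), (23, 4), (27, 10), (30, 7), (32, 7), (33, 4), (35, 7), (37, 4), (40, 3), (42, 4), (44, 7), (45, 7), (46, 7), (47, 4), (48, 4), (49, 8), (50, 4), (51, 4), (53, 4), (54, 3), (55, 4), (58, 4), (61, 8), (62, 7), (65, 7), (66, 10), (69, 7), (70, 7), (72, 4), (73, 1), (75, 8), (77, 10), (78, 8), (79, 2), (80, 1), (81, 2), (82, 1), (84, 2), (86, 2), (87, 1), (88, 2), (89, 2), (90, 9), (91, 1), (92, 2), (93, 3), (94, 4), (95, 2), (96, 10), (97, 1), (98, 2), (100, 9), (103, 4), (104, 10), (105, 9), (106, 7), (107, 4), (108, 8), (109, 10), (110, 7), (111, 10), (112, 1), (113, 2), (114, 5), (115, 3), (116, 6), (117, 10), (118, 10), (119, 3), (120, 5), (121, 6), (122, 8),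 (123, 4), (124, 7), (125, 10), (126, 1), (127, 4), (128, 4), (129, 7), (130, 6), (131, 3), (132, 4)]]

/-- data -/
def d7_1 : SMat := [
  [(0, 5), (1, 8), (2, 5), (3, 3), (4, 8), (5, 4), (6, 3), (7, 2), (8, 7), (9, 6), (10, 8), (11, 10), (12, 4), (13, 5), (15, 3), (16, 3), (17, 7), (18, 4), (19, 2), (20, 10), (21, 5), (22, 5), (24, 8), (25, 9), (26, 10), (27, 10), (28, 10), (29, 2), (31, 6), (32, 3), (33, 2), (35, 7), (36, 7), (37, 2), (39, 2), (40, 5), (41, 9), (42, 5), (43, 7), (45, 8), (47, 9), (48, 4), (49, 10), (50, 7), (51, 9), (52, 4), (53, 4), (54, 10), (55, 10), (56, 1), (57, 1), (58, 1), (59, 8), (60, 10), (61, 3), (63, 9), (64, 3), (65, 2), (66, 5), (67, 5), (68, 3), (69, 4), (70, 5), (71, 9), (72, 9), (73, 3), (74, 1), (75, 2), (76, 6), (77, 8), (78, 9), (79, 2), (81, 7), (82, 4), (83, 2), (85, 8), (86, 10), (87, 7), (88, 10), (89, 7), (90, 1), (91, 3), (92, 4), (93, 3), (94, 2), (95, 7), (97, 1),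 (98, 4), (99, 1), (100, 2), (101, 4), (102, 4), (103, 8), (104, 3), (107, 2), (109, 9), (110, 7), (112, 9), (113, 4), (115, 4), (117, 7), (118, 2), (119, 9), (120, 9), (121, 9), (122, 9), (123, 9), (124, 4), (125, 9), (126, 2), (127, 7), (128, 10), (129, 3), (130, 9), (132, 2)],
  [(0, 10), (1, 8), (3, 9), (4, 1), (6, 7), (7, 3), (8, 4), (9, 6), (10, 4), (11, 5), (13, 9), (14, 1), (15, 9), (16, 7), (17, 8), (18, 6), (19, 3), (20, 7), (21, 8), (22, 6), (23, 6), (24, 8), (25, 8), (26, 5), (27, 1), (28, 8), (29, 1), (30, 7), (31, 10), (32, 10), (33, 9), (34, 1), (36, 10), (37, 1), (38, 3), (39, 3), (41, 8), (42, 8), (43, 10), (44, 5), (45, 9), (47, 7), (48, 1), (49, 3), (50, 4), (51, 3), (52, 4), (53, 2), (54, 7), (56, 8), (57, 8), (58, 4), (59, 6), (60, 3), (61, 7), (62, 9), (63, 3), (64, 5), (65, 4), (66, 1), (67, 6), (68, 8), (69, 7), (70, 6), (72, 5), (73, 2), (74, 8), (75, 10), (76, 5), (77, 7), (78, 6), (79,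 10), (80, 10), (82, 3), (83, 5), (85, 2), (86, 10), (87, 4), (88, 4), (90, 10), (91, 1), (92, 10), (93, 10), (94, 6), (96, 10), (97, 1), (98, 3), (99, 8), (100, 6), (101, 5), (102, 6), (103, 10), (104, 6), (105, 3), (106, 7), (107, 4), (108, 2), (109, 6), (110, 7), (111, 4), (113, 6), (114, 10), (115, 6), (116, 1), (117, 3), (118, 8), (119, 5), (120, 10), (121, 6), (122, 4), (123, 2), (124, 7), (126, 10), (127, 10), (128, 3), (129, 7), (130, 9), (131, 6), (132, 5)],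
  [(1, 4), (2, 9), (3, 1), (4, 3), (5, 5), (6, 10), (7, 9), (8, 10), (9, 4), (10, 4), (11, 9), (12, 1), (13, 4), (14, 10), (15, 6), (16, 1), (17, 2), (18, 9), (19, 10), (20, 8), (21, 1), (23, 3), (24, 2), (25, 5), (26, 3), (27, 5), (28, 7), (29, 10), (30, 8), (31, 10), (32, 9), (34, 6), (35, 9), (36, 2), (37, 4), (39, 10), (40, 7), (41, 3), (43, 10), (44, 8), (45, 8), (47, 10), (48, 4), (49, 10), (50, 4), (51, 10), (52, 3), (53, 7), (54, 8), (55, 6), (57, 1), (59, 5), (60, 6), (61, 9), (62, 8), (63, 8), (64, 10), (65, 5), (66, 9), (67, 9), (68, 10), (69, 7), (72, 1), (73, 2), (75, 5), (76, 10), (77, 6), (78, 1), (79, 10), (80, 9), (81, 9), (82, 6), (83, 6), (84, 2), (86, 10), (87, 7), (88, 1), (89, 9), (90, 4), (92, 9), (93, 5), (94, 10), (95, 9), (97, 4), (98, 9), (99, 1), (100, 3), (101, 4), (102, 4), (103, 2), (104, 9), (107, 2), (109, 9), (110, 7), (112, 9), (113, 4), (115, 4), (117, 7), (118, 2), (119, 9),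 (120, 9), (121, 9), (122, 9), (123, 9), (124, 4), (125, 9), (126, 2), (127, 7), (128, 1), (129, 5), (130, 9), (132, 2)],
  [(0, 4), (1, 8), (2, 2), (3, 7), (4, 3), (5, 6), (6, 7), (7, 1), (8, 2), (9, 3), (10, 2), (11, 3), (12, 5), (13, 9), (14, 10), (15, 9), (16, 5), (17, 5), (18, 2), (20, 6), (21, 5), (22, 9), (23, 7), (24, 5), (25, 8), (26, 6), (27, 4), (28, 6), (29, 2), (30, 8), (31, 8), (32, 6), (33, 2), (34, 7), (35, 6), (36, 7), (37, 10), (38, 1), (39, 6), (40, 4), (41, 10), (42, 6), (43, 7), (44, 6), (45, 6), (46, 7), (47, 10), (48, 8), (49, 1), (50, 3), (51, 7), (52, 3), (53, 8), (54, 7), (56, 7), (58, 1), (59, 9), (61, 3), (62, 6), (63, 9), (64, 2), (66, 4), (67, 7), (68, 4), (69, 3), (70, 8), (71, 7), (73, 1), (74, 7), (76, 4), (77, 8), (78, 1), (80, 6), (82, 10), (83, 2), (84, 4), (85, 8), (86, 10), (87, 4), (88, 3), (89, 4), (90, 9), (91, 1), (92, 1), (93, 8), (94, 1), (95, 2), (96, 7), (97, 5), (99,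 3), (100, 9), (101, 4), (102, 4), (103, 3), (104, 5), (105, 2), (106, 9), (107, 2), (108, 7), (109, 8), (110, 9), (111, 4), (112, 5), (114, 1), (115, 7), (116, 7), (117, 3), (118, 5), (120, 3), (121, 10), (122, 1), (123, 3), (124, 10), (125, 5), (126, 10), (128, 8), (129, 4), (130, 2), (131, 5), (132, 4)],
  [(0, 3), (1, 8), (2, 7), (3, 3), (4, 4), (5, 7), (8, 7), (9, 4), (10, 7), (11, 10), (12, 5), (13, 3), (14, 4), (15, 8), (16, 4), (17, 4), (18, 7), (20, 7), (22, 8), (23, 7), (24, 5), (25, 8), (26, 4), (27, 8), (28, 4), (29, 8), (30, 7), (31, 7), (32, 7), (33, 2), (34, 3), (35, 7), (36, 7), (37, 9), (40, 3), (41, 4), (42, 2), (44, 4), (45, 10), (48, 8), (50, 8), (52, 4), (53, 7), (54, 3), (59, 3), (61, 1), (62, 6), (63, 7), (64, 8), (66, 8), (67, 7), (68, 8), (69, 3), (70, 8), (72, 1), (73, 6), (75, 5), (76, 8), (77, 8), (78, 7), (79, 5), (80, 10), (81, 4), (82, 6), (83, 4), (84, 4), (85, 4), (86, 10), (88,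 3), (89, 4), (90, 5), (91, 5), (92, 10), (93, 3), (94, 4), (95, 4), (97, 6), (98, 9), (99, 2), (100, 2), (101, 1), (103, 9), (104, 1), (105, 4), (106, 10), (107, 1), (109, 3), (110, 10), (111, 3), (112, 8), (113, 7), (114, 5), (115, 4), (116, 2), (117, 3), (118, 7), (119, 9), (120, 5), (121, 9), (122, 9), (123, 3), (124, 3), (125, 3), (126, 4), (127, 1), (128, 10), (129, 5), (130, 2), (131, 4), (132, 10)],
  [(0, 1), (1, 4), (2, 4), (3, 10), (4, 2), (5, 5), (6, 7), (7, 9), (8, 2), (9, 6), (10, 9), (11, 8), (12, 9), (14, 6), (15, 8), (16, 2), (17, 2), (18, 5), (19, 7), (20, 9), (21, 4), (22, 1), (23, 1), (24, 2), (25, 8), (26, 1), (27, 4), (28, 6), (29, 1), (30, 7), (31, 5), (32, 9), (33, 3), (34, 7), (35, 9), (36, 3), (37, 4), (39, 7), (40, 7), (41, 6), (42, 10), (43, 7), (45, 6), (47, 7), (48, 4), (49, 7), (50, 8), (51, 7), (52, 2), (53, 5), (54, 7), (57, 10), (59, 3), (61, 7), (62, 6), (63, 9), (64, 8), (65,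 4), (66, 8), (67, 3), (68, 8), (69, 7), (70, 1), (72, 3), (73, 1), (75, 7), (76, 8), (77, 6), (78, 1), (79, 5), (81, 6), (82, 7), (83, 5), (84, 6), (85, 9), (88, 5), (89, 6), (90, 4), (91, 6), (92, 10), (93, 6), (94, 7), (95, 6), (96, 3), (97, 6), (98, 1), (99, 1), (100, 7), (105, 9), (106, 9), (107, 2), (108, 3), (109, 2), (110, 10), (111, 10), (112, 10), (113, 3), (114, 6), (115, 2), (116, 3), (119, 8), (120, 4), (121, 3), (122, 3), (123, 2), (125, 1), (126, 3), (127, 8), (128, 8), (129, 10), (130, 9), (131, 3), (132, 8)],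
  [(0, 3), (1, 4), (2, 2), (3, 7), (5, 7), (6, 7), (8, 1), (10, 7), (11, 3), (13, 7), (14, 10), (15, 4), (16, 4), (17, 4), (18, 7), (19, 4), (20, 7), (22, 4), (23, 7), (25, 4), (27, 4), (28, 10), (29, 8), (30, 7), (31, 7), (33, 8), (34, 7), (35, 7), (36, 7), (39, 4), (40, 3), (41, 4), (42, 8), (44, 4), (45, 10), (48, 8), (50, 4), (52, 4), (54, 7), (55, 7), (56, 7), (59, 7), (61, 7), (62, 10), (64, 4), (66, 4), (67, 7), (68, 4), (69, 2), (70, 4), (71, 7), (72, 1), (73, 8), (74, 7), (75, 8), (76, 4), (78, 6), (79, 1), (80, 7), (81, 7), (82, 6), (83, 9), (84, 6), (86, 5), (87, 6), (89, 6), (90, 4), (92, 10), (93, 5), (94, 5), (95, 1), (96, 6), (97, 5), (98, 6), (99, 2), (100, 1), (101, 7), (102, 4), (103, 6), (104, 1), (105, 8), (106, 8), (107, 2), (108, 3), (109, 1), (110, 9), (111, 1), (113, 3), (114, 4), (115, 2), (116, 4), (117, 1), (118, 2), (119, 9), (120, 4), (121, 4), (122, 2), (123, 2), (124, 1), (125, 1),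 (126, 5), (127, 6), (128, 9), (130, 9), (131, 3), (132, 10)],
  [(1, 9), (2, 10), (4, 3), (5, 8), (6, 7), (7, 4), (8, 9), (9, 2), (11, 10), (12, 8), (13, 4), (14, 7), (15, 10), (16, 2), (17, 8), (18, 10), (19, 5), (20, 3), (21, 5), (22, 4), (23, 10), (24, 3), (25, 8), (26, 9), (28, 9), (29, 3), (30, 2), (31, 9), (32, 3), (33, 6), (34, 1), (35, 3), (36, 1), (38, 5), (39, 1), (40, 8), (41, 2), (42, 5), (43, 1), (44, 4), (45, 4), (46, 6), (47, 10), (48, 4), (49, 10), (50, 9), (51, 5), (52, 1), (53, 3), (54, 6), (55, 5), (56, 6), (57, 6), (58, 6), (59, 8), (60, 5), (61, 1), (62, 4), (63, 4), (64, 9), (65, 1), (66, 10), (67, 6), (68, 5), (69, 2), (70, 4), (71, 8), (72, 4), (73, 8), (74, 2), (75, 5), (76, 5), (77, 2), (78, 7), (80, 2), (81, 5), (82, 5), (83, 2), (84, 9), (85, 8), (86, 3), (87, 6), (88, 7), (89, 8), (90, 6), (91, 2), (92, 1), (93, 10), (94, 10), (96, 9), (97, 7), (98, 6), (99, 2), (100, 10), (101, 8),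 (102, 3), (103, 7), (104, 3), (105, 7), (106, 4), (107, 2), (108, 10), (109, 8), (110, 3), (111, 8), (112, 8), (113, 2), (114, 9), (115, 10), (116, 1), (117, 8), (118, 10), (119, 9), (120, 7), (121, 7), (122, 8), (123, 10), (124, 5), (125, 8), (126, 7), (127, 7), (128, 1), (130, 3), (131, 10), (132, 9)]]

/-- data -/
def d7_2 : SMat := [
  [(0, 2), (1, 8), (2, 5), (3, 3), (4, 2), (5, 2), (7, 5), (8, 5), (9, 5), (10, 8), (11, 2), (12, 6), (13, 5), (14, 9), (16, 5), (17, 6), (18, 9), (19, 8), (20, 9), (21, 3), (22, 7), (23, 10), (24, 9), (25, 10), (26, 9), (28, 9), (30, 10), (31, 7), (32, 5), (33, 2), (35, 2), (36, 4), (37, 4), (40, 3), (41, 9), (42, 6), (44, 1), (45, 7), (46, 2), (47, 8), (48, 4), (49, 8), (50, 8), (51, 8), (52, 2), (53, 6), (54, 3), (55, 8), (61, 4), (62, 7), (63, 9), (64, 7), (65, 10), (67, 4), (68, 7), (69, 3), (70, 3), (71, 7), (72, 6), (73, 1), (75, 2), (76, 7), (77, 5), (78, 3), (79, 6),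 (80, 3), (81, 7), (82, 7), (83, 5), (84, 6), (85, 7), (86, 3), (87, 2), (88, 7), (89, 6), (90, 4), (91, 4), (92, 2), (93, 7), (94, 7), (95, 9), (96, 10), (97, 7), (98, 2), (99, 10), (100, 10), (101, 10), (102, 10), (103, 1), (104, 10), (105, 6), (106, 4), (107, 2), (108, 7), (109, 9), (110, 4), (113, 5), (114, 3), (115, 7), (116, 9), (117, 6), (118, 7), (119, 4), (120, 5), (121, 7), (122, 3), (123, 9), (124, 7), (125, 9), (126, 5), (127, 8), (128, 9), (130, 4), (131, 7), (132, 2)],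
  [(0, 10), (1, 1), (3, 3), (4, 4), (6, 7), (7, 7), (9, 1), (10, 7), (11, 6), (13, 10), (14, 8), (15, 1), (17, 5), (18, 7), (19, 7), (20, 7), (21, 4), (22, 1), (23, 3), (24, 5), (25, 8), (26, 4), (27, 8), (28, 4), (29, 1), (30, 7), (31, 3), (32, 7), (33, 2), (34, 3), (36, 3), (37, 4), (39, 7), (40, 3), (41, 4), (42, 1), (43, 7), (44, 4), (45, 6), (48, 8), (50, 8), (51, 1), (52, 8), (53, 4), (54, 7), (61, 8), (62, 2), (63, 3), (64, 1), (66, 8), (67, 7), (68, 1), (69, 3), (70, 5), (72, 5), (73, 5), (75, 9), (76, 8), (77, 1), (78, 1), (79, 9), (80, 10), (82, 1), (84, 1), (85, 10), (86, 8), (87, 10), (88, 9), (90, 9), (91, 3), (92, 9), (93, 10), (96, 10), (98, 9), (99, 3), (100, 1), (102, 1), (103, 10), (104, 1), (105, 8), (106, 10), (107, 9), (108, 5), (109, 7), (110, 2), (111, 2), (112, 2), (113, 3), (114, 4), (116, 1), (117, 1), (118, 4), (119, 2), (120, 10), (121, 1), (122, 1), (123, 7), (124, 6), (125, 7), (126,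 5), (127, 10), (128, 1), (129, 6), (131, 5), (132, 6)],
  [(0, 8), (1, 9), (2, 2), (3, 6), (4, 10), (5, 2), (6, 3), (7, 8), (8, 9), (9, 3), (10, 1), (12, 2), (13, 8), (14, 3), (15, 1), (16, 2), (17, 9), (19, 7), (20, 1), (21, 4), (22, 2), (23, 8), (24, 5), (25, 5), (26, 2), (27, 5), (28, 10), (29, 1), (30, 10), (31, 9), (32, 1), (33, 3), (34, 6), (35, 3), (36, 6), (37, 1), (39, 3), (40, 3), (41, 10), (42, 3), (43, 10), (44, 6), (45, 9), (48, 4), (50, 8), (51, 10), (52, 2), (53, 8), (54, 9), (55, 10), (59, 9), (61, 3), (62, 1), (64, 1), (65, 7), (66, 4), (67, 7), (68, 1), (69, 3), (70, 2), (73, 2), (75, 8), (76, 4), (77, 6), (78, 1), (79, 9), (80, 7), (81, 10), (82, 2), (83, 3), (84, 8), (85, 5), (86, 4), (87, 1), (88, 1), (89, 9), (90, 9), (91, 7), (92, 9), (93, 6), (94, 6), (95, 4), (96, 9), (97, 3), (98, 8), (99, 8), (100, 8), (101, 5), (102, 5), (103, 2), (104, 4), (105, 7), (106, 7), (107, 9), (108, 10), (109,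 7), (110, 7), (111, 7), (112, 9), (113, 9), (114, 6), (115, 8), (116, 4), (117, 7), (118, 10), (119, 9), (120, 9), (121, 5), (122, 5), (123, 4), (124, 10), (125, 8), (126, 8), (128, 5), (129, 10), (130, 1), (131, 5)],
  [(0, 4), (1, 9), (2, 6), (3, 4), (4, 4), (5, 1), (6, 6), (7, 1), (8, 10), (9, 8), (10, 6), (12, 5), (13, 10), (14, 8), (15, 7), (16, 5), (17, 10), (18, 1), (19, 7), (20, 1), (21, 5), (22, 1), (23, 3), (24, 10), (25, 2), (26, 8), (27, 6), (28, 3), (29, 2), (30, 7), (31, 8), (32, 7), (33, 1), (34, 4), (35, 2), (36, 4), (37, 2), (38, 10), (39, 6), (40, 7), (41, 3), (42, 7), (43, 6), (44, 8), (47, 7), (48, 2), (49, 6), (50, 4), (51, 6), (52, 10), (53, 2), (54, 7), (56, 5), (57, 5), (59, 4), (60, 6), (61, 6), (63, 7), (64, 2), (65, 8), (66, 9), (67, 9), (69, 7), (70, 1), (71, 5), (72, 1), (74, 5), (75, 3), (76, 2), (77, 7), (78, 6), (80, 10), (81, 5), (82, 8), (83, 6), (84, 6), (85, 3), (86, 8), (87,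 9), (88, 4), (89, 7), (90, 4), (91, 10), (92, 10), (93, 6), (94, 6), (95, 6), (96, 9), (97, 6), (98, 9), (99, 4), (102, 2), (103, 10), (104, 1), (105, 6), (106, 1), (107, 10), (108, 8), (109, 8), (110, 1), (111, 9), (112, 2), (113, 5), (114, 4), (115, 1), (117, 9), (118, 5), (119, 8), (120, 3), (121, 10), (122, 2), (123, 4), (124, 1), (125, 2), (126, 9), (127, 9), (128, 10), (129, 7), (130, 5), (131, 1), (132, 5)],
  [(0, 7), (1, 8), (2, 7), (3, 8), (5, 1), (7, 7), (8, 3), (9, 7), (10, 10), (11, 4), (12, 4), (13, 7), (15, 7), (16, 8), (17, 4), (18, 7), (19, 3), (20, 6), (21, 3), (22, 3), (23, 8), (25, 4), (26, 7), (28, 3), (30, 3), (31, 4), (32, 7), (33, 4), (35, 7), (37, 4), (39, 4), (40, 10), (41, 7), (42, 8), (43, 4), (44, 3), (45, 7), (46, 7), (47, 8), (48, 4), (49, 4), (50, 8), (51, 8), (53, 8), (54, 2), (55, 4), (56, 6), (57, 7), (58, 7), (59, 4), (61, 4), (62, 7), (64, 7), (65, 3), (67, 4), (68, 7), (69,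 3), (70, 3), (71, 3), (72, 4), (73, 8), (74, 3), (76, 7), (77, 7), (78, 6), (80, 10), (81, 5), (82, 8), (83, 6), (84, 6), (85, 3), (86, 3), (87, 9), (88, 4), (89, 7), (90, 4), (91, 6), (92, 10), (93, 6), (94, 6), (95, 6), (96, 9), (97, 6), (98, 9), (99, 9), (102, 2), (103, 10), (104, 6), (106, 4), (107, 7), (108, 6), (109, 5), (110, 4), (111, 8), (112, 1), (114, 4), (115, 8), (116, 4), (117, 10), (119, 2), (120, 10), (121, 7), (122, 1), (123, 3), (124, 8), (125, 1), (126, 3), (127, 6), (128, 3), (129, 9), (130, 7), (131, 8), (132, 7)],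
  [(1, 4), (2, 9), (3, 9), (4, 6), (5, 4), (6, 4), (7, 5), (8, 9), (9, 2), (10, 3), (11, 7), (12, 6), (13, 8), (14, 2), (15, 8), (16, 6), (17, 6), (18, 2), (20, 9), (21, 1), (22, 2), (23, 8), (24, 6), (25, 4), (26, 6), (27, 8), (29, 10), (30, 3), (31, 8), (32, 5), (33, 4), (34, 3), (35, 9), (36, 9), (37, 1), (38, 1), (40, 7), (41, 7), (45, 5), (46, 5), (47, 6), (48, 8), (49, 6), (50, 4), (52, 3), (53, 4), (54, 3), (55, 10), (56, 4), (57, 4), (58, 5), (59, 7), (60, 7), (61, 4), (62, 9), (63, 9), (64, 9), (65, 5), (66, 9), (67, 9), (68, 2), (69, 7), (70, 9), (71, 4), (72, 6), (73, 5), (74, 4), (75, 1), (76, 2), (77, 1), (78, 1), (79, 4), (80, 10), (85, 10), (86, 3), (87, 10), (88, 10), (91, 3), (92, 10), (93, 1), (95, 10), (97, 4), (98, 10), (99, 7), (101, 6), (102, 5), (103, 10), (104, 7), (105, 4), (106, 6), (107, 8), (108, 8), (109, 7), (110, 6), (111, 10), (112, 8), (113, 10), (114, 7), (115, 8), (116, 4), (117,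 5), (118, 2), (119, 1), (120, 7), (121, 4), (122, 2), (123, 8), (124, 3), (125, 8), (126, 10), (127, 2), (128, 7), (129, 1), (131, 7), (132, 4)],
  [(0, 9), (1, 2), (3, 4), (4, 8), (5, 7), (6, 7), (7, 2), (8, 5), (9, 1), (10, 2), (12, 4), (13, 6), (14, 8), (15, 2), (16, 10), (17, 8), (18, 8), (19, 3), (20, 8), (21, 5), (22, 6), (23, 8), (24, 9), (25, 8), (26, 2), (27, 1), (28, 9), (29, 9), (30, 8), (31, 6), (32, 4), (33, 6), (34, 9), (36, 2), (37, 8), (38, 3), (39, 7), (40, 10), (41, 5), (42, 1), (43, 7), (45, 5), (46, 1), (47, 2), (48, 8), (49, 6), (50, 7), (51, 6), (52, 8), (53, 9), (54, 3), (55, 10), (56, 5), (57, 5), (58, 1), (59, 10), (60, 10), (61, 7), (62, 2), (63, 4), (64, 3), (65, 6), (66, 2), (67, 8), (68, 6), (69, 8), (71, 10), (72, 5), (73, 9), (74, 8), (75, 4), (76, 3), (77, 3), (78, 8), (79, 3), (80, 5), (81, 2), (83, 2), (84, 1), (85, 4), (86, 5), (87, 6), (88, 1), (90, 5), (91, 8), (92, 4), (93,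 5), (95, 1), (96, 4), (97, 8), (98, 6), (99, 4), (100, 8), (102, 9), (104, 4), (105, 2), (106, 5), (107, 6), (108, 3), (109, 6), (111, 6), (112, 6), (113, 4), (114, 1), (115, 3), (116, 7), (117, 6), (118, 6), (119, 5), (120, 1), (121, 7), (122, 6), (123, 6), (125, 5), (126, 10), (127, 10), (128, 10), (130, 2), (131, 1), (132, 10)],
  [(0, 1), (1, 4), (2, 9), (3, 3), (4, 1), (5, 9), (6, 10), (7, 5), (8, 9), (9, 2), (10, 9), (11, 8), (12, 2), (13, 8), (14, 9), (15, 8), (16, 2), (17, 2), (18, 9), (20, 9), (21, 4), (22, 8), (23, 10), (24, 2), (25, 4), (26, 6), (27, 8), (28, 6), (29, 8), (30, 7), (31, 9), (32, 9), (33, 10), (34, 2), (35, 9), (36, 3), (37, 4), (40, 3), (41, 6), (42, 6), (44, 6), (45, 10), (47, 7), (48, 3), (50, 4), (51, 7), (52, 2), (53, 5), (54, 3), (58, 4), (59, 3), (62, 10), (63, 9), (64, 8), (66, 8), (67, 3), (68, 8), (69, 7), (70, 4), (71, 4), (72, 10), (73, 1), (75, 7), (76, 8), (77, 9), (78,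 8), (79, 3), (80, 10), (81, 3), (82, 9), (83, 5), (84, 5), (85, 3), (86, 8), (87, 7), (89, 7), (90, 1), (91, 8), (92, 8), (93, 3), (94, 5), (95, 5), (96, 7), (97, 7), (98, 6), (99, 7), (100, 3), (101, 2), (102, 2), (103, 10), (104, 1), (105, 2), (106, 7), (108, 9), (109, 9), (110, 4), (112, 9), (114, 9), (115, 5), (116, 9), (117, 7), (118, 2), (120, 9), (121, 7), (122, 9), (123, 9), (124, 8), (126, 9), (128, 4), (129, 6), (131, 9), (132, 2)]]

/-- data -/
def d7_3 : SMat := [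
  [(0, 2), (1, 6), (2, 1), (3, 9), (4, 10), (5, 2), (6, 7), (7, 5), (8, 1), (9, 5), (10, 6), (11, 6), (12, 4), (13, 8), (14, 9), (16, 7), (17, 4), (18, 8), (19, 1), (20, 8), (21, 2), (22, 6), (23, 4), (24, 6), (25, 8), (26, 1), (27, 8), (28, 5), (29, 10), (30, 9), (31, 4), (32, 8), (33, 9), (35, 6), (36, 1), (37, 4), (38, 6), (40, 5), (41, 1), (42, 7), (44, 10), (45, 3), (46, 6), (47, 7), (48, 4), (49, 9), (50, 6), (51, 9), (52, 9), (53, 10), (54, 9), (55, 9), (56, 7), (57, 7), (58, 7), (59, 7), (60, 8), (62, 10), (63, 8), (64, 6), (65, 8), (66, 4), (67, 9), (68, 10), (69, 9), (70, 6), (71, 10), (72, 7), (73, 6), (75, 9), (76, 6), (77, 8), (78, 7), (79, 5), (80, 10), (81, 4), (82, 7), (83, 5), (84, 6), (85, 3), (86, 9), (87, 9), (88, 3), (89, 6), (90, 4), (91, 6), (92, 10), (93, 5), (94, 5), (95, 5), (96, 9), (97, 6), (98, 9), (99, 3), (100, 1), (101, 1), (102, 2), (103, 9), (105, 7), (106, 2), (108, 10), (109,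 10), (110, 9), (111, 10), (112, 10), (114, 9), (115, 10), (116, 10), (117, 10), (118, 6), (120, 5), (121, 9), (122, 10), (123, 3), (124, 1), (125, 5), (126, 5), (128, 1), (130, 5), (131, 10), (132, 7)],
  [(0, 6), (1, 2), (2, 4), (3, 5), (4, 2), (5, 4), (6, 6), (7, 3), (9, 2), (11, 4), (12, 7), (14, 2), (15, 10), (17, 8), (18, 3), (19, 10), (20, 10), (21, 1), (23, 2), (24, 8), (25, 3), (26, 9), (27, 9), (28, 8), (29, 9), (30, 3), (31, 9), (32, 9), (33, 6), (34, 5), (35, 4), (36, 2), (37, 9), (38, 10), (39, 10), (40, 10), (41, 8), (42, 9), (43, 5), (44, 9), (45, 4), (47, 4), (48, 9), (49, 10), (50, 8), (51, 10), (52, 1), (53, 8), (54, 3), (56, 1), (57, 1), (58, 7), (59, 8), (60, 10), (61, 6), (62, 4), (63, 5), (64, 5), (65, 7), (66, 9), (67, 6), (68, 3), (69, 3), (71, 1), (72, 10), (73, 7), (74, 1), (75, 4), (76, 5), (77, 7), (78, 6), (79, 4), (80, 10), (81, 6), (82, 9), (83, 5), (84, 6), (86, 10), (87, 9), (88,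 4), (89, 6), (90, 4), (91, 7), (92, 10), (93, 5), (94, 7), (95, 6), (96, 9), (97, 7), (98, 8), (99, 3), (101, 10), (102, 1), (103, 10), (105, 9), (106, 4), (107, 7), (108, 4), (109, 9), (110, 4), (111, 5), (112, 10), (114, 7), (115, 10), (116, 8), (117, 4), (118, 2), (120, 5), (121, 9), (122, 7), (123, 3), (124, 1), (125, 1), (126, 5), (127, 2), (128, 10), (129, 5), (130, 7), (131, 10), (132, 1)],
  [(0, 5), (2, 7), (3, 3), (4, 9), (5, 7), (6, 10), (7, 3), (8, 5), (9, 7), (10, 2), (11, 5), (12, 6), (13, 1), (14, 9), (16, 2), (19, 2), (21, 2), (22, 9), (24, 8), (25, 9), (26, 7), (27, 2), (28, 2), (30, 1), (31, 4), (33, 10), (34, 5), (35, 3), (36, 5), (37, 8), (39, 6), (40, 4), (41, 2), (42, 2), (43, 2), (44, 3), (45, 7), (46, 4), (47, 5), (48, 2), (49, 9), (51, 9), (52, 5), (54, 1), (55, 2), (56, 4), (57, 5), (58, 4), (59, 4), (60, 2), (61, 1), (62, 7), (63, 6), (64, 4), (65, 1), (66, 1), (67, 4), (68, 4), (70,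 9), (71, 6), (72, 7), (73, 6), (74, 4), (75, 5), (76, 4), (77, 8), (78, 9), (79, 7), (80, 7), (81, 2), (82, 4), (83, 6), (84, 5), (85, 3), (86, 5), (87, 2), (88, 10), (90, 7), (91, 3), (92, 4), (93, 9), (94, 5), (95, 1), (96, 8), (97, 6), (98, 9), (99, 1), (100, 8), (101, 10), (102, 10), (103, 8), (104, 4), (105, 7), (106, 7), (107, 7), (108, 8), (109, 9), (110, 9), (111, 9), (113, 7), (114, 4), (115, 6), (116, 4), (117, 9), (118, 10), (120, 9), (121, 7), (122, 7), (123, 4), (124, 8), (125, 8), (126, 6), (128, 3), (129, 8), (130, 3), (131, 5)],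
  [(0, 1), (1, 5), (2, 1), (3, 1), (4, 9), (5, 8), (6, 1), (7, 2), (8, 5), (9, 1), (11, 2), (12, 6), (13, 5), (14, 9), (16, 7), (17, 10), (18, 1), (19, 8), (20, 1), (21, 3), (22, 10), (23, 10), (24, 9), (25, 8), (26, 2), (27, 7), (28, 9), (29, 7), (30, 6), (31, 10), (32, 1), (33, 6), (34, 4), (35, 1), (36, 4), (37, 8), (39, 1), (40, 6), (41, 2), (42, 2), (43, 8), (44, 1), (45, 7), (46, 10), (47, 8), (48, 8), (49, 8), (50, 4), (51, 8), (52, 9), (53, 10), (54, 6), (55, 1), (57, 6), (60, 2), (61, 8), (62, 7), (63, 2), (65, 3), (66, 8), (69, 6), (70, 10), (71, 3), (72, 6), (73, 1), (75, 2), (77, 6), (78, 7), (79, 6), (80, 1), (81, 4), (82, 7), (83, 5), (84, 5), (85, 3), (86, 8), (87, 9), (88, 2), (89, 6), (90, 3), (91, 8), (92, 8), (93, 4), (94, 5), (95, 5), (96, 9), (97, 6), (98, 8), (99, 4), (101, 1), (102, 1), (103, 9), (104, 1), (105, 3), (106, 10), (107, 8), (108, 2), (109, 7), (110, 9), (111, 4), (112, 5), (113,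 4), (114, 1), (115, 9), (116, 10), (118, 7), (119, 1), (120, 4), (121, 9), (122, 2), (123, 7), (124, 6), (125, 7), (126, 9), (127, 6), (128, 8), (129, 3), (130, 4), (131, 8), (132, 3)],
  [(0, 1), (1, 1), (2, 9), (3, 10), (4, 10), (5, 5), (6, 7), (7, 5), (8, 8), (9, 6), (10, 9), (12, 2), (13, 8), (14, 6), (15, 1), (16, 2), (17, 6), (18, 5), (19, 7), (20, 5), (21, 4), (22, 5), (23, 5), (24, 6), (25, 8), (26, 6), (27, 7), (28, 7), (29, 8), (30, 3), (31, 9), (32, 1), (33, 3), (34, 10), (35, 2), (36, 10), (37, 8), (38, 3), (39, 7), (40, 3), (41, 2), (42, 10), (43, 7), (44, 6), (45, 2), (47, 4), (48, 8), (49, 7), (50, 8), (51, 7), (52, 6), (53, 8), (54, 3), (56, 4), (57, 4), (59, 10), (60, 7), (61, 7), (62, 2), (63, 1), (64, 8), (65, 6), (66, 1), (67, 3), (69, 3), (70, 5), (71, 4), (72, 3), (73, 9), (74, 4), (76, 8), (77, 9), (78, 3), (79, 5), (80, 5), (81, 8), (82, 4), (83, 3), (84, 3), (85, 7), (86, 9), (87, 10),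 (88, 2), (89, 9), (90, 2), (91, 1), (92, 5), (93, 3), (94, 3), (95, 3), (96, 10), (97, 3), (98, 10), (99, 8), (102, 1), (103, 5), (104, 1), (106, 4), (107, 7), (108, 6), (109, 5), (110, 4), (111, 6), (112, 1), (114, 6), (115, 8), (116, 4), (117, 10), (119, 2), (120, 10), (121, 7), (122, 1), (123, 3), (124, 8), (125, 1), (126, 3), (127, 6), (128, 3), (129, 9), (130, 7), (131, 8), (132, 7)],
  [(0, 5), (3, 6), (4, 5), (5, 7), (7, 2), (8, 5), (9, 3), (10, 9), (11, 2), (13, 4), (14, 9), (15, 1), (16, 2), (19, 2), (20, 7), (21, 3), (22, 5), (23, 4), (24, 9), (25, 9), (26, 7), (27, 2), (28, 2), (29, 7), (31, 9), (33, 7), (34, 4), (35, 7), (36, 5), (37, 9), (38, 10), (39, 2), (40, 5), (41, 3), (42, 8), (43, 6), (46, 4), (47, 9), (48, 9), (49, 7), (51, 2), (52, 4), (53, 4), (54, 7), (55, 3), (56, 5), (57, 5), (58, 4), (59, 4), (60, 6), (61, 6), (63, 6), (65, 2), (66, 2), (68, 7), (70, 5), (71, 3), (72, 2), (73, 7), (74,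 5), (75, 2), (76, 7), (77, 7), (78, 2), (79, 4), (80, 6), (81, 9), (82, 10), (83, 2), (84, 2), (86, 4), (87, 9), (89, 6), (90, 5), (91, 4), (92, 9), (93, 4), (94, 2), (95, 2), (96, 3), (97, 7), (98, 9), (99, 6), (100, 5), (101, 4), (102, 4), (103, 6), (104, 5), (105, 5), (106, 5), (107, 8), (108, 8), (109, 1), (110, 3), (111, 9), (113, 6), (114, 6), (115, 3), (116, 6), (117, 3), (118, 6), (119, 3), (120, 9), (121, 1), (122, 6), (125, 3), (126, 3), (127, 5), (128, 10), (129, 5), (130, 6), (131, 6), (132, 8)],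
  [(0, 9), (1, 8), (2, 5), (3, 9), (4, 9), (5, 9), (6, 4), (7, 6), (8, 8), (9, 8), (11, 7), (12, 3), (13, 2), (14, 5), (15, 6), (16, 7), (17, 6), (18, 5), (19, 1), (20, 5), (21, 2), (22, 4), (24, 9), (25, 4), (26, 8), (28, 1), (29, 10), (30, 7), (31, 10), (32, 9), (33, 9), (34, 8), (35, 5), (36, 8), (37, 8), (39, 1), (40, 2), (41, 5), (42, 10), (43, 1), (45, 4), (46, 7), (47, 5), (49, 8), (50, 5), (51, 1), (52, 9), (54, 10), (55, 8), (56, 3), (57, 3), (58, 3), (59, 1), (60, 1), (61, 8), (62, 4), (63, 9), (64, 6), (65, 5), (66, 7), (67, 5), (68, 6), (69, 10), (70, 9), (71, 1), (72, 9), (73, 4), (74, 3), (75, 1), (76, 9), (77, 10), (78, 4), (80, 4), (81, 10), (82, 8), (83, 4), (84, 10), (85, 4), (86, 8), (87, 1), (88, 5), (89, 2), (90, 4), (91, 1), (92, 4), (93, 10), (94, 6), (95, 5), (96, 5), (97, 8), (98, 2), (99, 5), (100, 3), (101, 4), (102, 10), (103, 5), (104, 3), (105, 7), (106, 10), (107, 7), (108, 1), (109,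 9), (110, 9), (112, 2), (113, 2), (114, 2), (115, 2), (116, 2), (117, 10), (118, 2), (119, 7), (120, 1), (121, 9), (122, 2), (124, 2), (126, 2), (127, 8), (130, 9), (131, 1)],
  [(0, 9), (1, 4), (2, 1), (3, 10), (4, 9), (5, 6), (6, 7), (7, 7), (8, 10), (9, 3), (10, 6), (11, 7), (12, 5), (13, 9), (14, 3), (15, 2), (16, 6), (17, 9), (18, 2), (19, 7), (20, 2), (21, 5), (22, 6), (23, 4), (24, 5), (25, 8), (26, 3), (27, 8), (28, 3), (29, 2), (30, 1), (31, 7), (32, 2), (33, 6), (34, 10), (35, 6), (36, 3), (37, 3), (38, 1), (39, 2), (40, 1), (41, 3), (42, 2), (43, 7), (44, 7), (45, 6), (47, 6), (48, 4), (49, 1), (50, 10), (51, 7), (52, 10), (53, 8), (55, 7), (57, 4), (58, 5), (59, 9), (60, 7), (61, 7), (62, 6), (63, 2), (64, 6), (66, 8), (67, 3), (68, 8), (69, 7), (70, 5), (71, 8), (73, 5), (75, 4), (76, 8), (77, 9), (78, 10), (79, 4), (80, 10), (81, 4), (82, 8), (83, 4), (84, 7), (85, 2), (86, 7), (87, 10), (88, 1),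 (89, 6), (90, 1), (91, 8), (92, 7), (93, 3), (94, 5), (95, 5), (96, 9), (97, 5), (98, 7), (99, 5), (100, 3), (101, 1), (102, 1), (103, 9), (104, 2), (105, 10), (106, 2), (107, 1), (108, 2), (110, 10), (111, 5), (113, 1), (114, 5), (115, 10), (116, 6), (117, 8), (118, 8), (119, 1), (120, 7), (121, 4), (122, 1), (123, 4), (124, 6), (125, 6), (126, 10), (127, 7), (129, 9), (130, 4), (131, 7), (132, 2)]]

/-- data -/
def d7_4 : SMat := [
  [(0, 2), (1, 8), (2, 7), (4, 5), (5, 7), (7, 6), (8, 8), (9, 6), (10, 8), (11, 7), (12, 4), (13, 8), (14, 5), (15, 10), (16, 3), (17, 4), (18, 7), (19, 10), (20, 7), (21, 1), (23, 5), (24, 5), (25, 9), (26, 10), (27, 9), (28, 5), (29, 10), (30, 3), (31, 10), (32, 7), (33, 3), (34, 1), (35, 7), (36, 6), (37, 9), (39, 10), (40, 8), (41, 5), (42, 8), (43, 10), (44, 6), (45, 8), (47, 10), (48, 9), (49, 10), (50, 8), (51, 10), (52, 5), (53, 5), (54, 3), (56, 1), (57, 1), (59, 1), (60,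 10), (61, 10), (62, 4), (63, 6), (64, 10), (65, 1), (66, 9), (67, 1), (68, 10), (69, 3), (71, 2), (72, 3), (73, 7), (74, 5), (75, 2), (76, 10), (77, 1), (78, 8), (79, 3), (81, 3), (82, 2), (83, 3), (84, 8), (85, 9), (87, 6), (88, 3), (89, 2), (90, 9), (91, 8), (92, 4), (93, 8), (94, 2), (95, 8), (96, 8), (97, 8), (98, 6), (99, 10), (100, 6), (101, 2), (102, 5), (103, 7), (104, 6), (105, 9), (106, 7), (107, 1), (108, 9), (109, 4), (110, 8), (111, 4), (112, 6), (113, 1), (114, 5), (115, 9), (117, 4), (118, 4), (119, 7), (120, 10), (121, 5), (122, 2), (123, 1), (124, 8), (125, 3), (126, 7), (127, 3), (128, 3), (129, 10), (130, 3), (131, 10), (132, 1)],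
  [(0, 1), (1, 9), (2, 8), (3, 2), (4, 2), (5, 5), (6, 4), (7, 9), (8, 4), (9, 8), (10, 10), (11, 10), (13, 1), (14, 8), (15, 10), (17, 7), (18, 8), (19, 5), (20, 5), (21, 2), (22, 5), (23, 1), (24, 1), (25, 4), (26, 8), (27, 8), (28, 1), (29, 10), (30, 2), (31, 3), (32, 9), (33, 6), (34, 1), (35, 9), (36, 8), (37, 8), (39, 5), (40, 8), (41, 8), (42, 10), (43, 4), (44, 3), (45, 3), (46, 10), (47, 5), (48, 4), (49, 5), (50, 2), (51, 4), (52, 2), (53, 8), (54, 9), (55, 5), (56, 6), (57, 6), (60, 9), (61, 4), (62, 3), (63, 9), (64, 10), (65, 5), (66, 4), (67, 1), (68, 10), (69, 2), (70, 5), (71, 6), (72, 7), (73, 1), (74, 10), (75, 9), (76, 3), (77, 4), (78, 5), (79, 7), (80, 1), (81, 6), (82, 3), (83, 5), (84, 5), (85, 8), (86, 4), (87, 3), (88, 8), (89, 4), (90, 7), (91, 2), (92, 3), (93, 7), (94, 5), (95, 5), (96, 2), (97, 6), (98, 3), (99, 7), (100, 10), (101, 10), (102, 10), (103, 1), (104, 10), (105, 10), (106,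 4), (107, 5), (109, 1), (110, 1), (111, 7), (112, 6), (113, 6), (114, 6), (115, 1), (116, 6), (117, 6), (118, 6), (119, 1), (120, 6), (121, 1), (122, 5), (124, 7), (125, 5), (126, 1), (128, 10), (129, 1), (131, 7), (132, 6)],
  [(0, 8), (1, 10), (2, 3), (3, 3), (4, 10), (6, 1), (7, 1), (8, 1), (9, 4), (10, 6), (11, 10), (12, 10), (13, 5), (14, 9), (15, 3), (17, 4), (18, 6), (19, 6), (20, 7), (22, 8), (23, 2), (24, 10), (25, 4), (27, 3), (28, 4), (29, 4), (30, 1), (31, 7), (32, 7), (33, 8), (34, 2), (35, 7), (36, 3), (37, 3), (39, 6), (40, 7), (41, 4), (42, 8), (43, 6), (44, 4), (45, 10), (46, 6), (47, 5), (48, 3), (50, 9), (52, 4), (53, 1), (54, 1), (55, 5), (56, 6), (57, 1), (58, 6), (59, 3), (60, 7), (61, 6), (62, 10), (63, 7), (64, 3), (66, 10), (67, 8), (68, 3), (69, 1), (70, 8), (71, 10), (72, 2), (73, 7), (74, 6), (75, 6), (76, 3), (77, 6), (78, 3), (79, 5), (81, 6), (82, 7), (83, 5), (84, 6), (85, 7), (88,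 5), (89, 6), (90, 4), (91, 6), (92, 10), (93, 6), (94, 7), (95, 6), (96, 1), (97, 6), (98, 10), (99, 1), (100, 9), (105, 3), (106, 3), (107, 8), (108, 3), (109, 2), (110, 5), (111, 5), (112, 5), (113, 3), (114, 6), (115, 8), (116, 3), (119, 8), (120, 9), (121, 3), (122, 3), (123, 8), (125, 1), (126, 3), (127, 8), (128, 8), (129, 5), (130, 9), (131, 3), (132, 8)],
  [(0, 7), (2, 9), (3, 6), (4, 6), (5, 9), (6, 7), (7, 5), (8, 2), (9, 5), (10, 6), (11, 4), (12, 2), (13, 1), (14, 2), (15, 1), (16, 5), (17, 2), (18, 3), (19, 7), (20, 2), (21, 4), (22, 5), (23, 1), (24, 6), (25, 8), (26, 6), (27, 4), (28, 6), (29, 1), (31, 1), (32, 2), (33, 10), (34, 3), (35, 8), (36, 3), (37, 4), (41, 6), (42, 10), (43, 7), (44, 10), (45, 6), (47, 3), (48, 4), (49, 7), (51, 7), (52, 6), (53, 1), (55, 7), (57, 4), (58, 4), (59, 3), (60, 7), (61, 7), (62, 6), (63, 9), (64, 1), (65, 4), (66, 1), (67, 10), (68, 1), (69, 6), (70, 5), (71,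 8), (72, 10), (73, 1), (76, 1), (77, 9), (78, 1), (79, 10), (80, 5), (81, 4), (83, 4), (84, 5), (85, 10), (86, 3), (87, 4), (88, 8), (89, 7), (90, 3), (91, 8), (92, 8), (93, 3), (94, 8), (96, 6), (97, 5), (98, 3), (99, 5), (100, 3), (101, 8), (102, 5), (103, 4), (104, 2), (105, 3), (106, 4), (107, 6), (108, 1), (109, 8), (110, 6), (111, 7), (112, 8), (113, 6), (114, 3), (115, 1), (116, 10), (117, 9), (118, 6), (119, 6), (120, 4), (121, 10), (122, 8), (123, 8), (124, 9), (125, 6), (126, 3), (127, 8), (128, 7), (129, 10), (130, 10), (131, 3), (132, 9)],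
  [(0, 9), (1, 4), (2, 1), (3, 8), (4, 2), (5, 5), (6, 9), (7, 2), (8, 4), (12, 7), (13, 9), (15, 2), (17, 6), (18, 5), (19, 2), (20, 2), (21, 2), (22, 5), (23, 10), (24, 2), (26, 5), (27, 7), (28, 5), (29, 6), (30, 9), (31, 7), (32, 9), (33, 6), (34, 8), (35, 4), (36, 3), (37, 5), (39, 2), (40, 10), (41, 9), (42, 6), (43, 5), (44, 1), (45, 7), (47, 8), (48, 9), (49, 4), (50, 8), (51, 8), (52, 8), (53, 4), (54, 2), (55, 4), (56, 7), (57, 7), (58, 7), (59, 9), (60, 4), (61, 9), (62, 5), (63, 6), (64, 2), (65, 3), (66, 4), (68, 2), (69, 3), (70, 5), (71, 7), (72, 1), (73, 4), (74, 7), (75, 9), (77, 2), (78, 3), (79, 8), (80, 10), (81, 7), (82, 3), (83, 7), (84, 5), (85, 9), (86, 6), (87, 2), (89, 7), (90, 7), (91, 2), (92, 5), (93, 9), (94, 8), (95, 7), (97, 7), (98, 5), (99, 5), (100, 7), (101, 9), (102, 9), (103, 3), (104, 8), (105, 1), (106, 1), (107, 3), (109, 8), (110, 6), (111, 10), (112, 8), (113, 5), (115,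 6), (116, 10), (117, 6), (118, 1), (119, 8), (120, 7), (121, 8), (122, 8), (123, 8), (124, 4), (125, 8), (126, 2), (127, 7), (128, 9), (129, 5), (130, 9), (132, 2)],
  [(0, 5), (1, 4), (3, 4), (4, 8), (5, 3), (7, 3), (9, 5), (10, 1), (11, 1), (12, 1), (13, 9), (14, 9), (15, 2), (17, 7), (19, 3), (20, 3), (21, 8), (22, 3), (23, 1), (24, 8), (25, 9), (26, 5), (27, 1), (28, 5), (29, 6), (30, 3), (31, 2), (32, 3), (33, 7), (34, 5), (35, 10), (36, 5), (37, 10), (39, 3), (40, 4), (41, 9), (42, 5), (43, 4), (44, 6), (45, 8), (46, 1), (47, 3), (48, 5), (49, 10), (50, 8), (51, 4), (52, 8), (53, 5), (54, 7), (55, 10), (56, 1), (57, 1), (58, 7), (59, 10), (60, 10), (61, 10), (62, 1), (63, 3), (64, 2), (65, 2), (66, 5), (67, 5), (68, 2), (69, 3), (70, 3), (71, 8), (72, 1), (73, 9), (74, 8), (75, 8), (76, 6), (77, 3), (78, 4), (79, 7), (80, 2), (81, 6), (82, 2), (83, 5), (84, 4), (85, 9), (86, 4), (87, 3), (88, 9), (89, 4),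 (90, 9), (91, 3), (92, 3), (93, 6), (94, 5), (95, 5), (96, 3), (97, 6), (98, 4), (99, 6), (100, 10), (101, 10), (102, 9), (103, 2), (105, 1), (106, 10), (107, 10), (108, 9), (109, 8), (110, 4), (111, 1), (112, 8), (113, 5), (114, 7), (115, 2), (116, 10), (117, 4), (118, 5), (119, 6), (120, 9), (121, 2), (122, 8), (123, 8), (124, 8), (125, 3), (126, 2), (127, 5), (128, 2), (129, 5), (130, 2), (131, 9), (132, 6)],
  [(0, 7), (1, 5), (2, 10), (3, 3), (4, 7), (5, 4), (7, 4), (8, 9), (9, 2), (10, 8), (11, 6), (12, 8), (14, 7), (15, 3), (16, 9), (17, 8), (18, 10), (19, 5), (20, 3), (21, 10), (22, 8), (23, 6), (24, 7), (25, 8), (26, 2), (27, 4), (28, 2), (29, 2), (30, 2), (31, 5), (32, 8), (33, 10), (34, 8), (35, 10), (36, 8), (37, 4), (38, 5), (39, 5), (40, 1), (41, 6), (42, 5), (43, 5), (44, 5), (46, 10), (47, 2), (48, 4), (49, 1), (50, 5), (51, 1), (52, 7), (53, 10), (54, 6), (55, 1), (56, 6), (57, 10), (59, 8), (60,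 1), (61, 1), (62, 4), (63, 3), (64, 2), (65, 5), (66, 3), (67, 9), (68, 9), (69, 2), (70, 8), (71, 5), (72, 5), (73, 8), (74, 6), (75, 2), (76, 2), (77, 9), (78, 4), (79, 6), (80, 9), (81, 5), (82, 1), (83, 5), (84, 5), (85, 6), (87, 4), (88, 9), (89, 5), (90, 10), (91, 5), (92, 9), (93, 1), (94, 5), (95, 5), (96, 1), (97, 9), (99, 10), (100, 1), (102, 3), (103, 5), (104, 8), (105, 1), (106, 1), (107, 7), (109, 10), (110, 4), (111, 10), (112, 10), (113, 10), (114, 6), (115, 8), (116, 10), (117, 10), (118, 10), (119, 7), (120, 9), (121, 10), (122, 10), (123, 10), (125, 10), (126, 9), (127, 5), (128, 10), (129, 2), (132, 5)],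
  [(0, 1), (1, 9), (2, 9), (3, 6), (4, 1), (5, 2), (7, 1), (8, 2), (9, 6), (10, 7), (11, 4), (12, 1), (13, 2), (14, 6), (15, 1), (16, 4), (17, 1), (18, 2), (20, 10), (21, 9), (22, 9), (23, 7), (24, 6), (25, 8), (26, 10), (27, 3), (28, 6), (29, 9), (30, 8), (31, 4), (32, 10), (33, 3), (34, 6), (35, 9), (36, 9), (37, 7), (38, 1), (39, 1), (40, 5), (41, 10), (42, 6), (43, 6), (44, 4), (45, 6), (47, 2), (48, 8), (49, 7), (50, 10), (51, 3), (52, 2), (53, 1), (54, 8), (55, 6), (56, 8), (57, 4), (58, 4), (59, 10), (60, 3), (62, 6), (63, 10), (64, 6), (65, 5), (66, 8), (67, 5), (68, 8), (69, 7), (70, 5), (71, 8), (72, 10), (74, 10), (75, 4), (76, 8), (77, 10), (78, 10), (79, 2), (80, 2), (81, 9), (82, 10), (83, 10), (85, 2), (86, 4), (87, 2), (89, 9), (91, 8), (92, 2), (93, 2), (94, 1), (95, 1), (97, 2), (98, 2), (99, 9), (100, 10), (103, 1), (104, 9), (105, 8), (106, 1), (107, 8), (108, 9), (109, 3), (110, 5), (111,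 1), (112, 1), (113, 8), (114, 9), (115, 7), (116, 8), (117, 5), (118, 6), (119, 3), (120, 5), (121, 3), (122, 5), (123, 8), (124, 3), (125, 3), (126, 7), (127, 4), (128, 9), (129, 9), (130, 4), (132, 3)]]

/-- data -/
def d7_5 : SMat := [
  [(0, 3), (1, 1), (2, 7), (4, 4), (6, 4), (7, 7), (8, 7), (9, 4), (10, 3), (11, 3), (12, 4), (13, 10), (14, 4), (15, 8), (16, 4), (17, 4), (18, 7), (20, 7), (22, 9), (25, 8), (26, 4), (27, 8), (29, 4), (30, 9), (32, 3), (33, 8), (34, 3), (35, 7), (36, 7), (37, 8), (39, 4), (40, 9), (41, 4), (42, 8), (45, 10), (46, 7), (47, 4), (48, 8), (49, 4), (50, 1), (52, 4), (53, 7), (54, 3), (55, 4), (57, 6), (59, 10), (62, 10), (63, 3), (64, 4), (65, 7), (66, 4), (67, 7), (68, 4), (69, 9), (70, 4), (72, 1), (73, 5), (75, 5), (76, 4), (77, 1), (78, 3), (79, 9), (80, 8), (81, 1), (82, 8), (83, 1), (85, 10), (86, 10), (87, 10), (88, 2), (89, 10), (90, 4), (91, 8), (92, 2), (93, 1), (94, 10),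 (96, 10), (97, 10), (99, 6), (100, 6), (101, 7), (102, 2), (103, 2), (104, 10), (105, 1), (106, 10), (109, 1), (110, 2), (111, 10), (112, 10), (113, 10), (114, 4), (115, 9), (116, 1), (117, 3), (118, 8), (119, 10), (120, 4), (121, 3), (122, 3), (123, 2), (124, 7), (125, 3), (128, 7), (129, 9), (130, 2), (131, 1), (132, 9)],
  [(0, 5), (1, 9), (2, 5), (3, 6), (4, 9), (5, 6), (7, 2), (9, 8), (10, 10), (11, 7), (12, 10), (13, 5), (14, 9), (15, 6), (17, 10), (18, 1), (19, 1), (20, 1), (21, 10), (22, 5), (23, 8), (24, 9), (25, 8), (26, 8), (27, 8), (28, 8), (29, 7), (30, 6), (31, 3), (32, 1), (33, 1), (34, 4), (35, 1), (36, 4), (37, 8), (39, 1), (40, 1), (41, 9), (42, 7), (43, 5), (44, 7), (46, 10), (47, 2), (48, 8), (49, 1), (50, 9), (51, 1), (52, 9), (53, 4), (54, 2), (55, 1), (56, 10), (57, 10), (58, 10), (59, 4), (60, 1), (61, 1), (62, 7), (63, 2), (64, 6), (65, 9), (66, 7), (67, 9), (68, 6), (69, 2), (70, 5),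 (71, 9), (72, 7), (73, 5), (74, 10), (75, 2), (76, 6), (77, 9), (78, 2), (79, 9), (80, 5), (81, 8), (82, 4), (83, 3), (84, 3), (85, 7), (86, 4), (87, 1), (88, 7), (89, 9), (90, 2), (91, 9), (92, 3), (93, 8), (94, 3), (95, 4), (96, 10), (97, 8), (98, 4), (99, 7), (100, 6), (102, 1), (103, 5), (105, 5), (106, 8), (107, 6), (108, 3), (110, 5), (111, 3), (113, 6), (114, 6), (115, 4), (116, 9), (117, 8), (118, 6), (119, 7), (120, 3), (124, 6), (126, 6), (127, 4), (130, 5), (131, 6), (132, 2)],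
  [(0, 8), (1, 8), (2, 7), (3, 5), (5, 2), (6, 4), (8, 7), (9, 1), (10, 8), (11, 1), (12, 4), (13, 2), (14, 5), (15, 5), (16, 4), (17, 10), (18, 7), (19, 10), (20, 7), (21, 1), (22, 2), (23, 5), (24, 5), (25, 9), (26, 5), (27, 9), (28, 5), (29, 10), (30, 3), (31, 5), (33, 9), (34, 6), (35, 2), (36, 1), (37, 4), (38, 5), (39, 4), (40, 3), (41, 5), (42, 3), (43, 4), (44, 6), (45, 8), (46, 5), (47, 5), (48, 5), (49, 10), (50, 8), (51, 10), (52, 5), (53, 10), (54, 3), (55, 6), (56, 7), (57, 7), (59, 6), (60, 4), (61, 10), (62, 8), (64, 10), (65, 6), (66, 9), (67, 1), (68, 6), (69, 3), (70, 6), (71, 7), (72, 9), (73, 8), (75, 8), (76, 10), (77, 3), (78, 1), (79, 10), (81, 9), (82, 1), (83, 9), (84, 10), (85, 9), (86, 9), (87, 9), (88, 8), (90, 9), (91, 1), (92, 9), (93, 9), (95, 10), (96, 9), (98, 8), (99, 3), (100, 2), (101, 1), (102, 1), (103, 9), (104, 1), (105, 10), (106, 2), (108, 1), (109, 9), (110, 2), (111,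 10), (112, 3), (113, 5), (114, 8), (115, 8), (117, 8), (119, 1), (120, 1), (121, 3), (122, 2), (123, 4), (124, 9), (125, 2), (126, 3), (127, 8), (129, 6), (130, 4), (131, 8), (132, 5)],
  [(0, 3), (2, 7), (3, 7), (5, 7), (6, 9), (7, 6), (8, 2), (9, 6), (11, 1), (12, 9), (13, 3), (14, 6), (15, 10), (16, 9), (17, 4), (18, 4), (19, 5), (21, 6), (22, 6), (23, 5), (24, 8), (25, 4), (26, 10), (27, 4), (29, 10), (30, 2), (31, 1), (33, 8), (34, 7), (35, 2), (36, 7), (37, 9), (39, 9), (40, 7), (42, 8), (43, 4), (44, 4), (45, 3), (48, 8), (50, 4), (51, 4), (52, 10), (53, 5), (54, 6), (55, 4), (59, 5), (61, 9), (62, 1), (63, 4), (64, 10), (65, 4), (66, 9), (67, 3), (68, 10), (69, 7), (70, 6), (72, 10), (73, 8), (75, 1), (76, 8), (77, 2), (78, 3), (79, 7), (80, 2), (81, 8), (82, 4), (83, 6), (84, 5), (85, 9), (86, 6), (87, 2), (89, 6), (90, 7), (91, 3), (92, 5), (93, 10), (94, 9), (95, 7), (96, 8), (97, 6), (98, 4), (99,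 6), (100, 7), (101, 10), (102, 10), (103, 3), (104, 9), (107, 8), (108, 10), (109, 5), (110, 5), (111, 5), (112, 7), (113, 8), (114, 4), (115, 6), (117, 5), (118, 9), (119, 7), (120, 9), (121, 3), (122, 3), (124, 8), (125, 7), (126, 6), (128, 6), (129, 8), (130, 3), (131, 2), (132, 9)],
  [(0, 7), (1, 10), (2, 10), (3, 6), (4, 6), (5, 5), (7, 4), (8, 3), (9, 7), (10, 5), (11, 4), (12, 9), (13, 8), (14, 7), (16, 4), (17, 2), (18, 3), (19, 6), (20, 9), (21, 9), (22, 5), (23, 9), (25, 3), (26, 1), (27, 9), (28, 5), (29, 6), (30, 1), (31, 7), (32, 9), (33, 8), (34, 4), (35, 9), (36, 4), (37, 2), (39, 6), (40, 6), (42, 10), (43, 7), (44, 2), (45, 1), (46, 9), (47, 4), (48, 8), (49, 9), (50, 10), (51, 2), (52, 2), (53, 2), (55, 2), (56, 4), (57, 5), (58, 5), (59, 9), (60, 2), (61, 7), (62, 1), (63, 9), (65, 3), (66, 2), (69, 1), (70, 5), (71, 3), (72, 10), (73, 6), (74, 1), (75, 4), (77, 9), (78, 3), (79, 7), (80, 5),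 (81, 9), (82, 8), (83, 8), (84, 9), (85, 3), (86, 5), (87, 4), (88, 2), (89, 9), (90, 7), (91, 4), (92, 5), (93, 3), (94, 10), (95, 9), (96, 9), (97, 4), (98, 9), (99, 2), (100, 5), (101, 10), (102, 1), (103, 5), (104, 5), (105, 3), (106, 7), (107, 4), (108, 2), (109, 6), (110, 7), (111, 4), (113, 6), (114, 10), (115, 6), (116, 1), (117, 5), (118, 8), (119, 5), (120, 10), (121, 6), (122, 4), (123, 2), (124, 5), (126, 10), (127, 10), (128, 3), (129, 7), (130, 9), (131, 6), (132, 5)],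
  [(0, 6), (1, 2), (2, 8), (3, 3), (4, 8), (5, 10), (6, 4), (7, 4), (8, 4), (9, 7), (10, 10), (11, 6), (12, 1), (13, 2), (14, 1), (15, 8), (16, 1), (17, 1), (18, 3), (19, 10), (20, 6), (21, 7), (22, 4), (23, 8), (24, 1), (25, 8), (26, 1), (27, 2), (29, 4), (30, 3), (31, 8), (32, 6), (33, 5), (34, 3), (35, 4), (36, 3), (37, 1), (38, 6), (39, 7), (40, 2), (41, 3), (42, 5), (43, 4), (44, 3), (45, 9), (47, 5), (48, 4), (50, 2), (51, 4), (52, 8), (53, 10), (54, 5), (59, 7), (60, 5), (61, 4), (62, 9), (63, 10), (64, 4), (66, 9), (67, 7), (68, 3), (69, 3), (70, 9), (72, 1), (73, 10), (74, 9), (75, 2), (76, 4), (77, 9), (78, 2), (80, 4), (81, 9), (82, 9), (83, 9), (84, 9), (86, 8), (87, 4), (88, 6), (89, 9), (90, 9), (91, 5), (92, 4), (93, 2), (94, 9), (95, 9), (97, 5), (98, 8), (99, 3), (100, 2), (103, 9), (104, 3), (106, 3), (107, 8), (108, 2), (109, 8), (110, 1), (111, 8), (112, 5), (113, 10), (114, 4), (115, 4), (116,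 1), (117, 5), (119, 2), (120, 5), (121, 8), (122, 5), (123, 6), (124, 3), (125, 5), (126, 6), (127, 4), (128, 8), (129, 10), (130, 9), (131, 2), (132, 10)],
  [(0, 7), (1, 8), (2, 7), (3, 4), (6, 4), (7, 7), (8, 3), (9, 7), (10, 3), (11, 4), (12, 8), (13, 3), (14, 6), (16, 8), (17, 4), (18, 7), (19, 4), (21, 7), (22, 3), (23, 8), (24, 4), (25, 4), (27, 4), (28, 7), (29, 7), (30, 10), (31, 3), (32, 7), (33, 4), (34, 7), (35, 7), (37, 8), (39, 4), (40, 3), (42, 4), (43, 4), (44, 3), (45, 7), (46, 1), (47, 4), (48, 8), (49, 4), (50, 8), (51, 4), (53, 4), (54, 10), (55, 8), (57, 7), (60, 10), (61, 8), (62, 7), (64, 7), (65, 3), (67, 6), (68, 7), (69, 3), (70, 3), (73, 8), (75, 8), (76, 7), (77, 2), (78, 3), (79, 8), (80, 4), (81, 7), (82, 3), (83, 2), (84, 5), (85, 9), (86, 6), (87, 2), (89, 7), (90, 7), (91, 2), (92, 5), (93, 9), (94, 8), (95, 7), (97, 7), (98, 5), (99, 5), (100, 7), (101, 9), (102, 9), (103, 3),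 (104, 8), (105, 10), (106, 10), (107, 3), (109, 8), (110, 4), (111, 1), (112, 8), (113, 7), (115, 6), (116, 1), (117, 4), (118, 5), (119, 8), (120, 9), (121, 8), (122, 8), (123, 8), (124, 8), (125, 8), (126, 4), (127, 3), (128, 1), (129, 8), (130, 7), (132, 4)],
  [(1, 9), (2, 10), (3, 8), (4, 1), (5, 4), (6, 4), (7, 10), (8, 10), (9, 3), (10, 2), (12, 1), (13, 6), (14, 3), (15, 4), (16, 1), (17, 1), (18, 3), (19, 5), (20, 3), (21, 6), (22, 10), (23, 9), (24, 1), (25, 4), (26, 7), (27, 4), (28, 7), (29, 10), (30, 9), (31, 9), (32, 10), (33, 4), (34, 3), (35, 4), (36, 8), (37, 2), (38, 6), (39, 4), (40, 2), (41, 7), (44, 6), (45, 10), (46, 6), (47, 6), (48, 8), (49, 1), (50, 9), (52, 3), (53, 9), (54, 2), (55, 5), (56, 4), (59, 1), (60, 7), (61, 4), (62, 3), (63, 3), (64, 10), (65, 5), (66, 4), (67, 4), (68, 3), (69, 2), (70, 10), (71, 4), (72, 1), (73, 7), (75, 8), (76, 3), (77, 10), (78, 10), (79, 1), (81, 1),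 (82, 1), (83, 1), (86, 2), (88, 2), (89, 1), (91, 10), (92, 2), (93, 2), (94, 1), (95, 1), (97, 1), (98, 1), (99, 10), (100, 9), (101, 10), (103, 1), (104, 10), (105, 6), (106, 5), (107, 10), (108, 5), (110, 3), (111, 5), (112, 1), (113, 9), (114, 8), (115, 4), (116, 4), (117, 6), (118, 3), (119, 3), (120, 9), (122, 1), (123, 7), (124, 9), (125, 6), (126, 3), (127, 4), (128, 1), (130, 6), (132, 1)]]

/-- data -/
def d7_6 : SMat := [
  [(0, 1), (1, 5), (2, 5), (3, 8), (4, 6), (5, 9), (6, 1), (7, 5), (8, 8), (9, 9), (10, 1), (11, 6), (12, 3), (13, 8), (14, 1), (16, 10), (17, 2), (18, 9), (19, 7), (20, 9), (21, 3), (22, 3), (23, 3), (24, 6), (25, 8), (26, 9), (27, 8), (28, 1), (29, 7), (30, 6), (31, 6), (32, 5), (33, 2), (35, 9), (36, 5), (37, 1), (39, 7), (40, 10), (41, 5), (42, 10), (43, 8), (44, 8), (45, 7), (47, 8), (48, 7), (49, 8), (50, 5), (51, 8), (52, 2), (53, 2), (54, 6), (55, 1), (56, 4), (57, 3), (60,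 8), (61, 1), (62, 7), (63, 5), (65, 3), (66, 8), (69, 2), (70, 3), (71, 7), (72, 9), (73, 5), (74, 4), (75, 3), (77, 9), (78, 6), (79, 3), (80, 9), (81, 5), (82, 6), (83, 7), (84, 6), (85, 2), (86, 7), (87, 8), (88, 2), (89, 6), (90, 4), (91, 9), (92, 10), (93, 5), (94, 5), (95, 3), (96, 8), (97, 5), (98, 8), (99, 2), (100, 1), (101, 9), (102, 2), (103, 8), (104, 1), (105, 3), (106, 3), (107, 2), (108, 8), (109, 6), (110, 9), (111, 6), (113, 8), (114, 3), (115, 2), (116, 3), (117, 6), (118, 2), (119, 9), (120, 9), (121, 3), (122, 1), (123, 1), (124, 7), (125, 6), (126, 10), (127, 1), (128, 10), (130, 9), (131, 8), (132, 5)],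
  [(0, 2), (1, 4), (2, 7), (3, 2), (4, 4), (5, 6), (6, 4), (7, 7), (8, 7), (10, 5), (11, 2), (12, 4), (13, 3), (15, 9), (16, 4), (17, 4), (19, 4), (22, 9), (23, 6), (24, 4), (25, 4), (26, 4), (27, 4), (28, 5), (29, 10), (30, 3), (31, 6), (32, 7), (33, 2), (34, 3), (35, 7), (36, 2), (37, 8), (40, 7), (41, 4), (42, 9), (44, 9), (45, 9), (46, 1), (47, 6), (48, 8), (50, 4), (53, 6), (54, 3), (55, 10), (56, 4), (58, 5), (59, 7), (60, 7), (61, 4), (62, 9), (64, 9), (65, 1), (66, 9), (67, 9), (68, 9), (69, 7), (70, 5), (71, 4), (72, 9), (73, 1), (76, 9), (77, 1), (78, 1), (79, 10), (80, 6), (82, 5), (83, 5), (85, 6), (86, 5), (87, 10), (88, 10), (91, 5), (92, 10), (93, 6), (94, 6), (95, 10), (96, 4), (97, 6), (98, 10), (99, 5), (101, 4), (102, 10), (103, 10), (104, 5), (106, 2), (107, 9), (108, 8), (109, 1), (111, 1), (112, 10), (114, 7), (115, 10), (116, 8), (117, 2), (119, 2), (120, 7), (121, 9), (122, 10), (123, 1),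 (124, 1), (125, 10), (126, 9), (127, 2), (128, 1), (129, 3), (130, 1), (131, 2)],
  [(0, 9), (1, 5), (2, 7), (3, 2), (4, 5), (5, 7), (7, 6), (8, 1), (9, 10), (11, 9), (12, 10), (13, 8), (14, 5), (15, 4), (16, 5), (17, 4), (18, 1), (19, 6), (20, 4), (21, 6), (22, 2), (23, 7), (24, 9), (25, 4), (26, 10), (27, 9), (28, 10), (29, 3), (30, 1), (31, 8), (33, 7), (34, 1), (35, 7), (36, 8), (37, 9), (39, 10), (40, 2), (41, 10), (42, 1), (43, 6), (44, 2), (45, 10), (46, 5), (48, 9), (49, 1), (50, 4), (51, 5), (52, 4), (54, 1), (55, 6), (56, 1), (57, 5), (58, 1), (59, 1), (61, 6), (62, 8), (64, 8), (65, 10), (66, 9), (67, 3), (68, 8), (69, 1), (70, 9), (72, 2), (73, 2), (74, 1), (75, 6), (76, 8), (86, 10), (87, 1), (88, 10), (92, 2), (98, 10), (101, 1), (102, 10), (106, 4), (107, 7), (108, 5), (109, 7), (110, 3), (112, 7), (113, 2), (114, 10), (115, 9), (116, 5), (117, 1), (118, 6), (119, 6), (120, 5), (121, 1), (122, 6),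 (123, 3), (124, 1), (125, 3), (127, 4), (128, 1), (129, 6), (130, 5), (131, 10), (132, 3)],
  [(0, 4), (1, 4), (2, 7), (3, 8), (4, 4), (5, 6), (6, 7), (7, 7), (9, 9), (10, 1), (11, 4), (12, 6), (13, 2), (14, 9), (15, 2), (16, 7), (18, 7), (19, 6), (20, 7), (21, 9), (22, 7), (23, 4), (24, 5), (25, 2), (26, 5), (27, 9), (28, 5), (29, 7), (30, 7), (31, 8), (33, 2), (34, 9), (35, 6), (36, 8), (37, 5), (38, 5), (39, 7), (40, 7), (41, 9), (42, 2), (43, 7), (44, 3), (46, 5), (47, 1), (48, 9), (49, 6), (50, 4), (51, 7), (52, 9), (53, 8), (55, 6), (59, 4), (61, 2), (63, 7), (64, 7), (65, 6), (66, 9), (67, 8), (68, 3), (69, 7), (70, 7), (72, 6), (73, 2), (74, 7), (75, 5), (76, 3), (77, 7), (78, 6), (79, 5), (80, 10), (81, 4), (82, 6), (83, 5), (84, 5), (85, 4), (86, 8), (87, 10), (88, 3), (89, 4), (90, 6), (91, 7), (92, 8), (93, 2), (94, 3), (95, 4), (96, 2), (97, 4), (98, 9), (99, 2), (100, 3), (101, 1), (102, 10), (103,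 10), (104, 3), (105, 9), (106, 3), (107, 4), (108, 5), (109, 1), (110, 5), (111, 8), (112, 8), (113, 9), (114, 5), (115, 1), (116, 7), (117, 5), (118, 4), (119, 7), (120, 5), (121, 6), (122, 5), (123, 6), (124, 8), (125, 7), (126, 1), (127, 10), (128, 2), (129, 7), (130, 4), (131, 5), (132, 2)],
  [(0, 7), (1, 1), (2, 9), (3, 9), (4, 6), (5, 4), (6, 7), (7, 9), (8, 2), (9, 10), (10, 10), (11, 10), (12, 9), (13, 1), (14, 10), (15, 6), (16, 9), (17, 2), (18, 5), (19, 3), (20, 5), (21, 9), (22, 6), (23, 7), (24, 2), (25, 1), (26, 6), (27, 1), (29, 6), (30, 7), (32, 10), (33, 4), (34, 10), (35, 9), (36, 9), (37, 4), (39, 7), (40, 3), (41, 6), (42, 4), (43, 7), (45, 1), (46, 5), (47, 6), (48, 8), (49, 6), (50, 8), (51, 7), (53, 7), (54, 7), (55, 6), (59, 6), (61, 3), (62, 8), (63, 6), (64, 6), (65, 5), (66, 2), (67, 2), (68, 6), (69, 3), (70, 10), (72, 7), (73, 5), (75, 6), (76, 2), (77, 8), (78, 4), (80, 1), (81,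 2), (82, 7), (83, 3), (84, 1), (85, 3), (86, 5), (87, 10), (88, 5), (89, 6), (90, 8), (91, 9), (92, 2), (93, 5), (94, 4), (95, 4), (97, 6), (99, 9), (100, 1), (101, 2), (102, 10), (103, 10), (104, 10), (105, 9), (106, 4), (107, 10), (108, 3), (109, 4), (110, 1), (111, 1), (112, 1), (113, 2), (114, 9), (116, 7), (117, 7), (118, 10), (119, 1), (120, 6), (121, 7), (122, 7), (123, 4), (124, 8), (125, 4), (126, 3), (127, 10), (128, 5), (129, 8), (131, 3), (132, 8)],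
  [(0, 3), (1, 8), (2, 6), (4, 10), (5, 1), (7, 1), (8, 2), (10, 7), (11, 6), (12, 9), (13, 3), (15, 10), (16, 9), (17, 10), (18, 2), (19, 10), (20, 1), (21, 1), (23, 10), (24, 10), (25, 9), (27, 9), (29, 10), (30, 3), (32, 1), (33, 9), (34, 1), (35, 1), (36, 1), (37, 9), (39, 10), (40, 8), (42, 8), (43, 4), (44, 1), (45, 8), (46, 1), (47, 10), (48, 9), (49, 10), (50, 8), (51, 10), (52, 10), (54, 3), (55, 10), (56, 1), (57, 1), (59, 1), (60, 10), (61, 10), (62, 4), (63, 1), (64, 10), (65, 2), (66, 9), (67, 1), (68, 10), (69, 3), (71, 1), (72, 3), (73, 7), (74, 5), (75, 7), (76, 10), (77, 3), (78, 4), (79, 7), (80, 1), (81, 7), (82, 5), (83, 7), (84, 7), (85, 7), (86, 3), (87, 2), (88, 9), (89, 7), (90, 6), (91, 4), (92, 3), (93, 8), (94, 7), (95, 7), (97, 6), (98, 3), (99, 8), (100, 8), (102, 10), (103, 2), (104, 9), (105, 3), (106, 8), (107, 9), (108, 5), (109, 3), (110, 7), (111, 3), (112, 3), (113, 3), (114,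 1), (116, 2), (117, 3), (118, 3), (119, 7), (120, 6), (121, 8), (122, 3), (123, 3), (125, 9), (126, 6), (127, 10), (129, 4), (131, 10), (132, 10)],
  [(0, 1), (1, 8), (2, 10), (3, 8), (4, 7), (5, 10), (6, 4), (7, 3), (8, 10), (9, 7), (10, 10), (11, 1), (12, 8), (13, 7), (14, 7), (15, 3), (16, 5), (17, 1), (18, 4), (19, 5), (20, 4), (21, 6), (22, 3), (23, 9), (24, 7), (25, 3), (26, 7), (27, 7), (28, 7), (29, 3), (30, 3), (31, 4), (32, 10), (33, 4), (34, 8), (35, 10), (36, 8), (37, 8), (40, 9), (41, 7), (42, 4), (44, 2), (46, 6), (47, 5), (48, 8), (49, 1), (50, 8), (51, 5), (52, 7), (53, 9), (54, 8), (55, 5), (58, 7), (59, 8), (61, 1), (63, 4), (64, 3), (65, 6), (66, 7), (67, 8), (68, 3), (69, 3), (70, 9), (72, 4), (73, 1), (75, 3), (76, 3), (78, 7), (79, 3), (80, 1), (81, 3), (82, 2), (83, 10), (84, 3), (85, 10), (86, 2), (87, 1), (88, 1), (89, 3), (90, 6), (91, 2), (92, 2), (93, 4), (94, 7), (95, 3), (96, 8),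 (97, 2), (98, 2), (99, 2), (100, 9), (103, 6), (104, 8), (105, 4), (106, 2), (107, 9), (108, 8), (109, 10), (110, 2), (111, 10), (112, 1), (113, 7), (114, 5), (115, 8), (116, 6), (117, 10), (118, 10), (119, 3), (120, 5), (121, 6), (122, 8), (123, 9), (124, 1), (125, 10), (126, 6), (127, 4), (128, 4), (129, 1), (130, 1), (131, 8), (132, 4)],
  [(0, 4), (1, 3), (2, 9), (3, 10), (4, 3), (5, 9), (6, 4), (7, 4), (8, 6), (10, 5), (11, 7), (12, 5), (13, 10), (14, 3), (17, 6), (18, 3), (19, 3), (20, 5), (21, 2), (22, 8), (23, 6), (24, 7), (26, 8), (27, 5), (28, 8), (29, 2), (30, 4), (32, 5), (33, 1), (34, 1), (35, 4), (36, 1), (37, 2), (39, 10), (40, 2), (41, 8), (42, 2), (43, 3), (44, 3), (45, 1), (46, 5), (47, 4), (48, 5), (49, 9), (50, 3), (51, 9), (52, 9), (53, 6), (54, 4), (55, 4), (56, 5), (57, 1), (58, 5), (59, 5), (60, 5), (61, 7), (62, 1), (63, 2), (64, 7), (65, 6), (66, 9), (67, 6), (68, 7), (69, 8), (70, 8),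 (71, 7), (72, 3), (73, 2), (74, 5), (76, 7), (77, 2), (78, 3), (79, 7), (80, 2), (81, 8), (82, 4), (83, 6), (84, 5), (85, 9), (86, 6), (87, 2), (89, 6), (90, 7), (91, 3), (92, 5), (93, 10), (94, 4), (95, 7), (96, 2), (97, 6), (98, 4), (99, 6), (100, 7), (101, 10), (102, 10), (103, 3), (104, 9), (105, 1), (106, 1), (107, 4), (108, 5), (109, 7), (110, 7), (111, 7), (113, 4), (114, 10), (115, 3), (116, 10), (117, 7), (118, 10), (120, 7), (121, 3), (122, 3), (123, 10), (124, 7), (125, 6), (126, 3), (128, 7), (129, 7), (130, 4), (132, 2)]]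

/-- data -/
def d7_7 : SMat := [
  [(0, 2), (1, 8), (2, 8), (3, 9), (6, 5), (7, 7), (8, 3), (9, 2), (10, 3), (12, 3), (13, 7), (14, 7), (16, 4), (17, 9), (18, 8), (19, 3), (20, 6), (21, 1), (22, 8), (23, 9), (24, 5), (25, 4), (26, 6), (27, 9), (28, 7), (29, 6), (30, 9), (31, 4), (32, 7), (33, 4), (34, 10), (35, 1), (36, 10), (37, 10), (38, 1), (39, 3), (40, 9), (42, 10), (43, 10), (44, 2), (45, 2), (46, 7), (47, 9), (48, 10), (49, 9), (50, 9), (51, 10), (52, 5), (53, 10), (54, 3), (55, 4), (57, 2), (58, 10), (60, 10), (61, 9), (62, 2), (64, 5), (65, 9), (66, 10), (67, 6), (68, 7), (69, 9), (70, 2), (71, 7), (72, 4), (73, 2), (74, 1), (75, 9), (76, 5), (77, 8), (78, 1), (79, 7), (80, 10), (84, 7), (86, 3), (87, 7), (88, 7), (89, 3), (90, 1), (91, 4), (92, 4), (93, 7), (94, 3), (95, 7), (97, 7), (98, 7), (99, 9), (100, 4), (101, 10), (102, 4), (103, 10), (104, 4), (105, 5), (106, 8), (107, 2), (108, 2), (109, 3),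 (110, 9), (111, 1), (112, 1), (113, 4), (114, 7), (115, 3), (116, 7), (118, 4), (119, 7), (120, 5), (121, 4), (122, 3), (123, 1), (124, 2), (125, 1), (126, 6), (127, 4), (128, 6), (129, 9), (130, 10), (131, 4), (132, 7)],
  [(0, 8), (2, 9), (3, 5), (4, 10), (5, 9), (7, 1), (8, 2), (9, 3), (10, 10), (11, 3), (12, 9), (14, 10), (15, 2), (16, 5), (17, 2), (18, 2), (19, 7), (20, 4), (21, 1), (22, 5), (23, 4), (24, 6), (25, 8), (26, 3), (27, 1), (28, 3), (29, 5), (30, 7), (31, 1), (32, 5), (33, 7), (34, 2), (35, 9), (36, 6), (37, 1), (39, 3), (40, 4), (41, 3), (42, 6), (43, 7), (44, 10), (45, 5), (46, 4), (47, 6), (48, 1), (49, 3), (51, 10), (52, 2), (54, 7), (55, 7), (56, 8), (57, 9), (58, 8), (59, 2), (60, 6), (61, 7), (62, 8), (63, 5), (64, 9), (65, 8), (66, 1), (67, 2), (68, 9), (69, 7), (70, 6), (71, 5), (72, 3), (73, 9), (74, 8), (75, 5), (76, 9), (86, 5), (87, 1), (88, 5), (92, 1), (98, 5), (100, 5), (101, 1),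 (102, 10), (106, 2), (107, 9), (108, 8), (109, 9), (110, 6), (111, 10), (112, 8), (113, 2), (114, 6), (115, 10), (116, 8), (117, 5), (118, 3), (119, 3), (120, 9), (121, 6), (122, 2), (123, 7), (124, 7), (125, 7), (126, 1), (127, 2), (128, 6), (129, 3), (130, 7), (132, 8)],
  [(0, 7), (1, 4), (2, 9), (3, 6), (4, 7), (5, 9), (6, 7), (7, 4), (8, 3), (9, 9), (10, 7), (12, 9), (13, 2), (16, 4), (17, 2), (18, 9), (19, 2), (20, 9), (21, 3), (22, 9), (23, 2), (24, 7), (25, 9), (26, 5), (27, 2), (29, 6), (31, 7), (32, 4), (33, 9), (34, 4), (35, 9), (36, 9), (37, 9), (39, 2), (40, 1), (42, 10), (43, 2), (44, 9), (45, 7), (47, 2), (48, 2), (49, 7), (51, 2), (52, 6), (53, 2), (54, 7), (55, 7), (56, 5), (57, 9), (58, 5), (60, 2), (61, 2), (62, 7), (63, 5), (65, 9), (66, 2), (67, 4), (69, 7), (70, 9), (71, 3), (72, 8), (74, 5), (75, 5), (76, 7), (77, 1), (78, 6), (79, 1), (80, 3), (81, 6), (82, 10), (83, 6), (84, 6), (85, 6),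 (86, 2), (87, 10), (88, 8), (89, 6), (90, 1), (91, 3), (92, 1), (93, 9), (94, 6), (95, 7), (96, 10), (97, 9), (98, 6), (99, 5), (100, 4), (101, 7), (102, 1), (103, 7), (104, 7), (105, 8), (106, 5), (107, 6), (108, 8), (109, 4), (110, 5), (111, 4), (112, 7), (113, 3), (114, 4), (115, 10), (117, 4), (118, 3), (120, 7), (121, 1), (122, 1), (123, 4), (124, 5), (125, 4), (126, 10), (127, 7), (128, 6), (129, 3), (130, 9), (131, 10), (132, 6)],
  [(0, 4), (1, 4), (2, 1), (4, 9), (5, 1), (6, 7), (7, 2), (8, 1), (9, 2), (10, 5), (11, 1), (12, 5), (13, 5), (14, 9), (15, 7), (16, 6), (17, 10), (18, 1), (19, 7), (20, 2), (21, 4), (23, 9), (24, 9), (25, 4), (26, 2), (27, 8), (28, 9), (29, 8), (30, 7), (31, 8), (32, 2), (33, 6), (34, 4), (35, 1), (36, 3), (37, 8), (38, 1), (39, 1), (40, 6), (41, 9), (42, 8), (43, 7), (44, 2), (45, 6), (47, 1), (48, 8), (49, 7), (50, 4), (51, 7), (52, 10), (53, 9), (54, 7), (55, 7), (56, 10),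 (57, 10), (59, 4), (60, 1), (61, 1), (62, 6), (63, 2), (64, 8), (65, 4), (66, 8), (67, 10), (68, 1), (69, 7), (71, 3), (72, 7), (74, 10), (75, 3), (76, 8), (77, 3), (78, 4), (79, 6), (80, 1), (81, 8), (82, 6), (83, 7), (84, 7), (85, 7), (86, 3), (88, 9), (89, 8), (90, 6), (91, 5), (92, 3), (93, 9), (94, 9), (95, 8), (96, 9), (97, 6), (98, 2), (99, 9), (100, 7), (101, 10), (102, 1), (103, 2), (104, 8), (105, 4), (106, 2), (107, 1), (108, 5), (109, 8), (110, 3), (111, 8), (112, 8), (113, 8), (114, 10), (115, 10), (116, 7), (117, 8), (118, 1), (119, 5), (120, 9), (121, 2), (122, 8), (123, 4), (124, 10), (125, 9), (126, 10), (127, 3), (128, 1), (129, 7), (130, 5), (132, 7)],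
  [(0, 8), (1, 4), (2, 9), (3, 2), (4, 6), (5, 9), (8, 2), (9, 10), (10, 6), (12, 2), (13, 8), (14, 6), (15, 5), (16, 9), (17, 2), (18, 9), (20, 2), (21, 8), (22, 9), (23, 8), (24, 6), (25, 8), (26, 10), (27, 2), (28, 5), (29, 1), (30, 7), (31, 1), (32, 9), (33, 3), (34, 10), (35, 9), (36, 10), (37, 8), (39, 7), (41, 10), (42, 10), (43, 7), (44, 3), (45, 2), (46, 4), (47, 3), (48, 8), (49, 7), (50, 4), (51, 3), (52, 6), (53, 8), (55, 7), (56, 8), (57, 4), (58, 4), (59, 6), (60, 2), (61, 7), (62, 2), (63, 5), (64, 5), (65, 8), (66, 1), (67, 6), (68, 5), (69, 7), (70, 9), (71, 8), (72, 3), (73, 5), (74, 10), (75, 8), (76, 5), (77, 7), (78, 6), (79, 5), (80, 10), (81, 5), (82, 8), (83, 6), (84, 6), (85, 3), (86, 8), (87, 9), (88, 4), (89, 7), (90, 4), (91, 5), (92, 10), (93, 6), (94, 6), (95, 6), (96, 9), (97, 6), (98, 9), (99, 4), (102, 2), (103, 10), (104, 1), (105, 5), (108, 10), (109, 7), (111, 2), (112, 1),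 (113, 6), (114, 1), (115, 1), (116, 1), (117, 10), (118, 6), (119, 9), (120, 5), (122, 1), (123, 5), (124, 1), (125, 1), (127, 9), (128, 10), (129, 9), (130, 5), (131, 1), (132, 5)],
  [(0, 2), (1, 9), (2, 7), (3, 1), (4, 9), (5, 7), (6, 4), (7, 6), (8, 7), (9, 5), (10, 7), (11, 1), (12, 9), (13, 4), (14, 5), (15, 10), (16, 8), (17, 9), (19, 4), (20, 6), (21, 7), (22, 10), (23, 10), (24, 4), (25, 5), (26, 5), (27, 9), (28, 5), (29, 5), (30, 9), (32, 2), (33, 2), (34, 1), (35, 7), (36, 2), (37, 2), (38, 6), (39, 10), (40, 3), (41, 5), (42, 8), (44, 5), (45, 4), (47, 10), (48, 9), (50, 9), (51, 10), (53, 5), (54, 9), (55, 4), (56, 5), (57, 5), (59, 6), (60, 6), (61, 4), (62, 8), (63, 6), (64, 5), (65, 7), (66, 9), (67, 2), (68, 9), (69, 2), (70, 6), (71, 5), (72, 9), (73, 1), (74, 5), (75, 1), (76, 9), (80, 1), (82, 10), (83, 10), (85, 1), (86, 1), (91, 10), (93, 1), (94, 1), (96, 10), (97, 1), (99, 10), (101, 10),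 (104, 10), (105, 6), (106, 5), (107, 6), (108, 1), (110, 1), (111, 5), (112, 6), (113, 5), (114, 7), (116, 6), (117, 6), (118, 10), (119, 10), (120, 1), (121, 1), (122, 7), (123, 5), (124, 3), (125, 1), (126, 5), (129, 10), (130, 6), (131, 5), (132, 10)],
  [(0, 7), (1, 6), (2, 2), (3, 3), (4, 6), (5, 10), (6, 1), (7, 8), (8, 3), (9, 1), (10, 10), (11, 3), (12, 1), (13, 2), (14, 5), (15, 8), (16, 1), (17, 7), (19, 8), (20, 5), (21, 10), (22, 7), (23, 9), (24, 7), (25, 2), (26, 5), (27, 6), (28, 2), (29, 3), (30, 7), (31, 4), (32, 10), (33, 10), (34, 3), (35, 3), (36, 9), (37, 9), (38, 1), (39, 6), (40, 10), (41, 7), (42, 4), (43, 1), (44, 2), (45, 1), (47, 4), (48, 3), (49, 5), (50, 8), (51, 1), (54, 4), (56, 6), (57, 6), (59, 10), (60, 9), (61, 1), (62, 1), (63, 6), (64, 3), (66, 7), (67, 8), (68, 1), (69, 7), (71, 6), (72, 3), (73, 5), (74, 9), (75, 1), (76, 3), (77, 1), (78, 3), (79, 8), (80, 2), (81, 8), (82,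 8), (83, 8), (84, 8), (85, 8), (86, 4), (87, 2), (88, 1), (89, 8), (90, 8), (91, 6), (92, 2), (93, 10), (94, 8), (95, 8), (97, 6), (98, 4), (99, 7), (100, 6), (103, 5), (104, 7), (105, 7), (106, 9), (107, 2), (108, 7), (109, 2), (110, 7), (111, 7), (112, 5), (113, 9), (114, 3), (115, 3), (116, 5), (117, 5), (118, 4), (119, 8), (120, 4), (121, 2), (123, 6), (124, 7), (126, 10), (128, 3), (129, 10), (130, 4), (131, 1), (132, 10)],
  [(0, 9), (1, 1), (4, 9), (5, 7), (6, 7), (7, 6), (8, 1), (9, 3), (10, 4), (11, 7), (12, 4), (13, 4), (14, 9), (15, 4), (16, 3), (17, 4), (18, 7), (19, 6), (20, 3), (21, 1), (22, 4), (23, 5), (24, 5), (25, 9), (26, 6), (27, 2), (28, 5), (29, 9), (30, 3), (31, 6), (32, 2), (33, 3), (34, 1), (36, 2), (37, 9), (38, 6), (39, 6), (40, 4), (41, 6), (42, 1), (43, 6), (44, 2), (45, 4), (47, 3), (48, 9), (49, 10), (50, 1), (51, 10), (52, 9), (53, 1), (54, 3), (55, 4), (56, 1), (57, 1), (58, 1),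 (59, 8), (60, 3), (61, 6), (63, 3), (64, 10), (65, 8), (66, 9), (67, 5), (68, 3), (69, 3), (70, 4), (71, 2), (72, 7), (74, 5), (75, 1), (76, 10), (77, 10), (78, 3), (79, 7), (80, 4), (81, 2), (82, 4), (83, 8), (84, 10), (85, 1), (86, 2), (87, 4), (88, 6), (89, 2), (90, 3), (91, 10), (92, 3), (94, 6), (95, 1), (96, 1), (97, 1), (98, 9), (99, 2), (100, 8), (101, 6), (102, 5), (103, 5), (104, 8), (105, 1), (106, 4), (107, 5), (108, 3), (109, 9), (111, 7), (112, 7), (113, 5), (114, 3), (115, 1), (116, 2), (118, 5), (119, 6), (120, 3), (121, 1), (123, 1), (124, 10), (125, 6), (126, 1), (127, 10), (128, 6), (129, 9), (130, 2), (131, 3), (132, 6)]]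

/-- data -/
def d7_8 : SMat := [
  [(0, 5), (1, 10), (2, 10), (3, 8), (4, 6), (5, 8), (7, 10), (8, 10), (9, 3), (10, 8), (11, 5), (12, 7), (13, 5), (14, 3), (15, 3), (16, 7), (17, 7), (18, 4), (19, 5), (20, 9), (21, 4), (22, 10), (23, 4), (24, 7), (25, 10), (26, 7), (27, 5), (28, 3), (29, 4), (30, 8), (31, 3), (32, 8), (34, 8), (35, 4), (36, 1), (37, 10), (38, 5), (39, 4), (40, 1), (42, 7), (44, 7), (45, 3), (46, 6), (47, 7), (48, 4), (49, 5), (50, 10), (51, 1), (52, 7), (53, 9), (54, 1), (56, 4), (58, 4), (59, 8), (60, 7), (61, 5), (62, 1), (63, 2), (64, 9), (66, 10), (67, 3), (68, 10), (69, 7), (70, 4), (71, 4), (73, 3), (74, 6), (75, 3), (76, 10), (77, 2), (78, 6), (79, 10), (80, 3), (81, 9), (82, 7), (83, 4), (85, 7), (86, 9), (87, 10), (88, 5), (89, 5), (90, 8), (91, 10), (92, 10), (93, 6), (94, 9), (95, 7), (96, 9), (97, 1), (98, 8), (99, 9), (100, 7), (101, 1), (102, 5), (104, 6), (105, 5), (106, 4), (107,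 8), (108, 7), (109, 7), (110, 2), (111, 10), (112, 10), (113, 6), (114, 2), (115, 7), (116, 3), (117, 9), (118, 9), (119, 4), (120, 3), (121, 5), (122, 6), (123, 7), (125, 9), (126, 4), (127, 8), (128, 7), (129, 3), (130, 1), (131, 5), (132, 4)],
  [(0, 8), (1, 4), (2, 6), (3, 6), (4, 1), (5, 5), (6, 1), (7, 1), (8, 6), (9, 9), (10, 6), (11, 3), (12, 6), (13, 1), (14, 10), (15, 9), (16, 6), (17, 6), (18, 6), (20, 5), (21, 4), (22, 9), (23, 8), (24, 6), (25, 4), (27, 5), (29, 8), (31, 2), (32, 5), (33, 10), (34, 6), (35, 5), (36, 6), (37, 1), (38, 8), (39, 7), (40, 1), (41, 10), (42, 9), (43, 1), (45, 3), (46, 1), (47, 6), (48, 4), (49, 8), (51, 4), (52, 9), (53, 5), (54, 6), (56, 1), (58, 5), (59, 3), (61, 5), (62, 3), (63, 10), (64, 8), (66, 5), (67, 6), (68, 5), (69, 7), (70, 6), (71, 1), (72, 2), (73, 9), (74, 1), (75, 8), (76, 5), (77, 5), (79, 1), (80, 7), (81, 6), (82, 4), (83, 2), (84, 4), (85, 9), (86,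 7), (87, 5), (88, 5), (89, 10), (90, 10), (91, 5), (92, 3), (93, 4), (94, 2), (95, 8), (96, 7), (98, 7), (99, 1), (100, 2), (101, 9), (102, 9), (103, 4), (104, 4), (105, 5), (106, 6), (107, 10), (108, 7), (109, 2), (110, 1), (111, 1), (112, 8), (113, 8), (114, 1), (115, 7), (116, 4), (117, 6), (118, 5), (119, 3), (120, 3), (121, 2), (122, 4), (123, 6), (124, 4), (125, 8), (126, 1), (127, 6), (128, 8), (129, 4), (130, 2), (131, 5), (132, 4)],
  [(0, 3), (1, 9), (2, 3), (3, 9), (4, 7), (5, 3), (6, 1), (7, 4), (8, 10), (9, 2), (10, 9), (11, 1), (12, 8), (13, 7), (15, 3), (16, 2), (17, 8), (18, 10), (19, 1), (20, 10), (21, 10), (22, 2), (23, 5), (24, 7), (25, 7), (26, 7), (27, 8), (28, 7), (29, 3), (30, 2), (31, 5), (32, 10), (33, 4), (34, 4), (35, 6), (36, 4), (37, 8), (40, 2), (41, 7), (42, 4), (43, 6), (44, 6), (47, 5), (48, 8), (49, 1), (50, 9), (51, 1), (52, 7), (53, 5), (54, 2), (55, 1), (57, 10), (58, 7), (59,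 4), (60, 1), (61, 1), (64, 3), (65, 10), (66, 3), (67, 8), (68, 3), (69, 9), (70, 2), (71, 6), (72, 4), (73, 1), (75, 7), (76, 3), (77, 9), (78, 10), (79, 1), (80, 7), (81, 4), (82, 9), (83, 4), (84, 5), (85, 1), (86, 5), (87, 6), (88, 10), (89, 5), (90, 3), (91, 8), (92, 8), (93, 3), (94, 6), (95, 2), (96, 8), (97, 5), (98, 5), (99, 5), (100, 3), (101, 10), (102, 3), (103, 6), (104, 2), (105, 5), (106, 1), (107, 4), (108, 7), (109, 5), (110, 3), (111, 10), (112, 5), (113, 4), (114, 9), (115, 7), (116, 8), (118, 4), (119, 3), (120, 4), (121, 7), (122, 5), (123, 5), (124, 10), (125, 3), (126, 9), (127, 2), (128, 7), (129, 5), (130, 4), (131, 9), (132, 4)],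
  [(0, 9), (1, 8), (2, 6), (3, 2), (4, 5), (5, 7), (6, 4), (7, 7), (8, 2), (9, 6), (10, 7), (11, 7), (12, 9), (13, 9), (14, 10), (15, 10), (16, 8), (17, 5), (18, 6), (20, 2), (21, 6), (22, 10), (24, 9), (25, 4), (26, 4), (27, 8), (28, 10), (29, 5), (30, 4), (31, 5), (32, 2), (33, 2), (34, 2), (35, 2), (36, 3), (37, 7), (38, 5), (39, 3), (40, 2), (42, 8), (43, 4), (45, 3), (46, 4), (47, 5), (48, 4), (49, 5), (50, 9), (51, 10), (52, 6), (54, 10), (55, 4), (56, 9), (57, 7), (58, 6), (59, 1), (60, 10), (61, 8), (62, 3), (63, 6), (64, 3), (66, 4), (67, 8), (68, 4), (69, 2), (70, 5), (71, 1), (72, 10), (73, 1), (74, 10), (75, 5), (76, 4), (77, 10), (78, 10), (79, 2), (80, 2), (81, 9), (82, 10), (83, 10), (85, 2), (86, 10), (87, 2), (89, 9), (91, 2), (92, 8), (93, 8), (94, 7), (95, 1), (96, 5), (97, 8), (98, 2), (99, 3), (100, 4), (101, 5), (102, 6), (103, 1), (104, 3), (105, 6), (106, 8), (107, 10), (108, 1), (109,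 6), (110, 5), (111, 2), (112, 2), (113, 10), (114, 6), (115, 8), (116, 4), (117, 10), (118, 6), (119, 1), (120, 4), (122, 10), (123, 3), (125, 6), (126, 2), (127, 9), (128, 2), (129, 7), (130, 3), (131, 5), (132, 1)],
  [(0, 10), (1, 9), (2, 8), (3, 9), (4, 1), (5, 8), (6, 10), (7, 10), (8, 4), (9, 2), (10, 7), (11, 1), (12, 7), (13, 6), (14, 2), (15, 2), (16, 7), (17, 7), (18, 3), (19, 10), (20, 3), (21, 5), (22, 7), (23, 9), (24, 7), (25, 9), (26, 5), (27, 9), (28, 1), (29, 2), (30, 7), (31, 3), (32, 10), (33, 9), (34, 9), (35, 4), (36, 2), (37, 8), (39, 6), (41, 1), (42, 5), (43, 10), (44, 5), (45, 6), (47, 7), (48, 8), (50, 10), (51, 6), (52, 8), (53, 5), (54, 3), (56, 4), (58, 4), (59, 8), (60, 7), (61, 10), (62, 4), (63, 9), (64, 8), (66, 8), (67, 3), (68, 8), (69, 7), (70, 3), (71, 4), (72, 10), (73, 10), (74, 4), (76, 8), (86, 10), (87, 6), (88, 10), (92, 8), (98, 10), (100, 3), (101, 6), (102, 5), (105,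 9), (108, 10), (110, 6), (111, 10), (112, 8), (113, 4), (114, 1), (115, 1), (116, 1), (117, 7), (118, 3), (119, 10), (120, 2), (121, 10), (122, 6), (123, 9), (124, 5), (125, 9), (126, 3), (127, 9), (128, 2), (129, 1), (130, 7), (131, 4), (132, 4)],
  [(0, 3), (1, 7), (2, 7), (3, 1), (4, 7), (5, 6), (7, 1), (8, 6), (10, 10), (11, 8), (12, 7), (15, 3), (16, 1), (17, 7), (18, 6), (20, 4), (21, 3), (22, 9), (23, 8), (25, 4), (26, 10), (29, 1), (31, 3), (32, 4), (33, 4), (34, 1), (35, 7), (36, 3), (37, 7), (38, 8), (40, 6), (41, 10), (42, 9), (43, 7), (44, 3), (45, 3), (47, 8), (48, 4), (49, 4), (50, 1), (51, 5), (52, 4), (53, 1), (55, 7), (56, 6), (57, 7), (58, 10), (59, 8), (60, 5), (62, 3), (63, 4), (64, 7), (65, 4), (66, 4), (67, 4), (68, 4), (69, 8), (70, 10), (71, 6), (72, 8), (73, 4), (74, 3), (75, 7), (76, 4), (77, 6), (78, 6), (79, 6), (80, 6), (81, 4), (82, 10), (83, 10), (85, 6), (86, 7), (87, 6), (88, 10),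 (89, 4), (91, 9), (92, 1), (93, 1), (95, 5), (96, 5), (97, 1), (98, 6), (99, 10), (101, 5), (102, 6), (103, 5), (104, 10), (105, 9), (107, 9), (108, 10), (109, 3), (110, 4), (111, 1), (112, 1), (113, 9), (115, 8), (116, 10), (117, 5), (118, 7), (119, 2), (120, 9), (121, 4), (122, 5), (123, 6), (124, 4), (125, 3), (126, 9), (127, 2), (128, 8), (129, 9), (130, 3), (131, 1), (132, 5)],
  [(0, 5), (1, 8), (2, 5), (3, 8), (4, 6), (5, 9), (7, 9), (8, 5), (9, 9), (10, 1), (11, 2), (12, 6), (13, 5), (14, 9), (15, 7), (16, 6), (17, 2), (18, 5), (19, 8), (20, 9), (21, 7), (22, 7), (23, 6), (24, 2), (25, 4), (26, 4), (27, 4), (28, 4), (30, 9), (31, 2), (32, 9), (33, 6), (35, 9), (37, 4), (39, 4), (40, 10), (41, 9), (42, 10), (44, 5), (45, 3), (46, 7), (47, 8), (48, 4), (49, 4), (50, 8), (51, 4), (52, 2), (53, 6), (54, 3), (55, 8), (56, 7), (57, 7), (58, 7), (60, 4), (61, 4), (62, 3), (63, 9), (65, 8), (66, 4), (69, 3), (70,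 2), (71, 7), (72, 6), (73, 8), (74, 7), (75, 6), (77, 5), (78, 4), (79, 10), (80, 9), (81, 5), (82, 1), (83, 5), (84, 8), (85, 6), (86, 8), (87, 8), (88, 2), (89, 10), (90, 6), (91, 5), (92, 6), (93, 5), (94, 9), (95, 2), (96, 1), (97, 2), (98, 4), (99, 9), (100, 8), (101, 4), (103, 5), (104, 4), (105, 2), (106, 1), (109, 9), (110, 2), (111, 1), (113, 10), (114, 7), (115, 9), (116, 9), (118, 10), (119, 2), (120, 9), (121, 9), (122, 9), (125, 10), (126, 9), (127, 4), (128, 1), (129, 2), (130, 2), (131, 10)],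
  [(0, 3), (1, 5), (2, 2), (4, 6), (5, 1), (6, 1), (7, 9), (8, 5), (9, 2), (10, 9), (11, 1), (12, 2), (13, 8), (14, 2), (15, 5), (16, 2), (17, 1), (18, 5), (19, 7), (20, 5), (21, 1), (22, 4), (23, 5), (24, 10), (25, 9), (26, 2), (27, 9), (28, 2), (29, 5), (30, 10), (31, 1), (32, 10), (33, 2), (34, 3), (35, 1), (36, 10), (38, 8), (39, 8), (40, 10), (41, 2), (42, 3), (43, 1), (44, 6), (45, 6), (46, 5), (47, 10), (48, 8), (50, 1), (51, 7), (52, 3), (53, 4), (54, 5), (55, 7), (57, 10), (58, 4), (59, 6), (60, 1), (61, 7), (62, 6), (63, 5), (64, 4), (65, 8), (66, 9), (67, 10), (68, 1), (69, 6), (70, 1), (71, 9), (72, 6), (73, 8), (75, 8), (76, 1), (77, 2), (78, 2), (79, 10), (80, 5), (81, 5), (82, 7), (83, 10), (84, 7), (85, 9), (86, 9), (88, 3), (89, 6), (90, 2), (91, 7), (92, 9), (93, 10), (96, 4), (98, 9), (99, 3), (100, 7), (101, 6), (102, 6), (103, 10), (104, 1), (105, 9), (106, 3), (107, 3), (108, 10), (109, 10),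 (110, 8), (111, 7), (113, 2), (114, 3), (115, 1), (116, 4), (117, 5), (118, 1), (119, 10), (120, 5), (122, 6), (123, 1), (125, 3), (127, 4), (128, 2), (129, 10), (130, 4), (131, 6), (132, 3)]]

/-- data -/
def d7_9 : SMat := [
  [(1, 8), (2, 9), (3, 10), (4, 9), (5, 4), (6, 4), (7, 9), (8, 5), (9, 9), (10, 10), (11, 8), (12, 6), (13, 5), (14, 9), (16, 6), (17, 2), (18, 9), (19, 4), (20, 9), (21, 7), (22, 8), (23, 1), (24, 2), (25, 4), (26, 9), (27, 4), (28, 3), (29, 5), (30, 3), (31, 8), (32, 3), (33, 7), (35, 9), (36, 6), (37, 4), (38, 5), (39, 4), (40, 3), (41, 3), (43, 4), (44, 10), (45, 2), (46, 1), (47, 10), (48, 4), (49, 4), (50, 8), (51, 4), (52, 2), (53, 1), (54, 3), (55, 10), (56, 7), (57, 7), (60, 4), (61, 4), (62, 2), (63, 3), (64, 5), (65, 1), (66, 5), (67, 6), (68, 1), (69, 3), (70, 1), (71, 7), (72, 7), (73, 8), (76, 5), (77, 4), (78, 1), (79, 9), (81, 3), (82, 2), (83, 3), (84, 10), (85, 2), (86,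 8), (87, 8), (88, 6), (89, 6), (91, 2), (92, 8), (93, 3), (94, 6), (95, 10), (96, 8), (97, 6), (98, 1), (100, 3), (101, 7), (102, 7), (103, 8), (104, 7), (105, 5), (106, 9), (108, 9), (109, 2), (110, 6), (111, 10), (112, 4), (114, 5), (115, 7), (116, 9), (117, 4), (118, 8), (119, 8), (120, 7), (121, 2), (122, 4), (123, 2), (124, 4), (125, 7), (126, 5), (127, 9), (128, 5), (129, 3), (130, 2), (131, 4), (132, 2)],
  [(0, 8), (1, 4), (2, 1), (3, 1), (4, 1), (5, 1), (7, 6), (8, 1), (9, 5), (10, 1), (11, 2), (12, 10), (13, 2), (14, 5), (15, 10), (16, 10), (17, 5), (18, 1), (20, 6), (22, 10), (23, 6), (24, 5), (25, 4), (26, 5), (27, 4), (28, 5), (29, 4), (30, 7), (31, 1), (32, 6), (33, 9), (34, 1), (35, 1), (36, 7), (37, 10), (38, 5), (39, 1), (40, 2), (41, 5), (42, 3), (44, 1), (45, 3), (46, 7), (47, 5), (48, 4), (49, 4), (50, 4), (51, 5), (52, 10), (54, 3), (56, 6), (57, 6), (59, 7), (60, 5), (61, 5), (62, 3), (63,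 6), (64, 4), (66, 4), (67, 7), (69, 7), (70, 10), (71, 6), (72, 3), (73, 8), (74, 6), (75, 2), (77, 5), (78, 6), (79, 5), (80, 10), (81, 6), (82, 6), (83, 7), (84, 6), (85, 5), (86, 9), (87, 10), (88, 5), (89, 6), (90, 5), (91, 7), (92, 10), (93, 5), (94, 5), (95, 6), (97, 4), (99, 1), (105, 7), (106, 3), (107, 8), (108, 1), (109, 3), (110, 7), (111, 9), (112, 2), (113, 4), (114, 2), (115, 6), (117, 8), (119, 7), (120, 8), (121, 9), (122, 2), (123, 7), (124, 2), (125, 2), (126, 2), (127, 8), (128, 10), (129, 4), (130, 5), (131, 1)],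
  [(0, 1), (1, 4), (2, 9), (3, 1), (4, 9), (6, 4), (7, 3), (8, 5), (9, 9), (10, 8), (11, 3), (12, 2), (13, 5), (14, 2), (15, 10), (16, 7), (17, 9), (18, 9), (19, 4), (20, 9), (21, 6), (22, 6), (23, 10), (24, 2), (25, 8), (26, 8), (27, 10), (28, 2), (29, 8), (30, 3), (31, 9), (32, 6), (33, 6), (34, 7), (35, 5), (36, 7), (37, 4), (38, 8), (39, 4), (40, 6), (41, 1), (42, 4), (43, 8), (44, 1), (45, 3), (46, 4), (47, 8), (48, 4), (50, 9), (51, 5), (52, 2), (53, 7), (54, 7), (55, 7), (56, 6), (58, 6), (59, 1), (60, 5), (62, 3), (63, 2), (64, 3), (65, 4), (66, 4), (67, 8), (69, 3), (70, 10), (71, 2), (72, 6), (73, 4), (74, 8), (75, 9), (76, 3), (77, 10), (78, 1), (79, 3), (80, 10), (82, 6), (84, 9), (85, 5), (86, 1), (87, 3), (88, 3), (89, 7), (90, 6), (91, 8), (92, 2), (93, 9), (94, 7), (95, 9), (96, 5), (97, 9), (98, 3), (99, 6), (100, 2), (101, 10), (102, 8), (103, 10), (104, 2), (105, 4), (106, 6), (107, 9), (108,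 7), (109, 5), (110, 7), (111, 3), (112, 9), (114, 5), (115, 2), (116, 8), (117, 8), (120, 4), (121, 6), (122, 5), (123, 3), (124, 1), (125, 9), (126, 10), (127, 6), (128, 7), (129, 4), (130, 5), (131, 3), (132, 8)],
  [(0, 4), (1, 2), (2, 10), (3, 8), (4, 3), (6, 4), (7, 1), (8, 5), (9, 5), (10, 3), (12, 5), (13, 4), (14, 3), (15, 8), (16, 3), (17, 1), (18, 10), (19, 9), (20, 10), (21, 4), (22, 10), (23, 4), (24, 3), (25, 4), (26, 5), (27, 4), (28, 9), (29, 1), (30, 9), (31, 6), (32, 4), (33, 2), (34, 9), (35, 10), (36, 5), (37, 4), (39, 9), (41, 10), (42, 5), (43, 9), (44, 3), (45, 1), (46, 6), (47, 7), (49, 3), (50, 6), (51, 2), (52, 8), (53, 4), (54, 5), (55, 9), (56, 2), (57, 2), (58, 7), (59, 9), (60, 2), (61, 9), (62, 1), (63, 3), (64, 8), (65, 8), (66, 10), (67, 3), (68, 8), (69, 9), (70, 10), (71, 4), (72, 7), (73, 8), (74, 6), (75, 9), (76, 1), (77, 10), (78, 6), (79, 7), (80, 4), (81, 1), (82, 1), (83,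 8), (84, 1), (85, 7), (86, 8), (87, 4), (88, 5), (89, 1), (90, 8), (91, 8), (92, 4), (93, 5), (94, 5), (95, 1), (97, 1), (98, 10), (99, 7), (100, 3), (103, 8), (104, 1), (105, 8), (106, 6), (107, 5), (108, 1), (109, 10), (110, 8), (111, 10), (112, 1), (113, 3), (114, 2), (115, 4), (116, 1), (117, 9), (118, 1), (119, 8), (120, 10), (121, 10), (122, 1), (123, 4), (124, 2), (125, 1), (126, 2), (127, 8), (128, 10), (129, 2), (130, 7), (131, 1)],
  [(0, 8), (1, 5), (2, 5), (3, 6), (5, 10), (7, 7), (8, 5), (9, 2), (10, 1), (11, 9), (12, 10), (13, 1), (14, 7), (16, 4), (17, 5), (19, 5), (20, 1), (21, 4), (22, 1), (23, 5), (24, 7), (25, 3), (26, 8), (27, 2), (28, 1), (29, 5), (33, 10), (34, 7), (35, 3), (36, 7), (37, 7), (38, 3), (39, 4), (40, 1), (41, 9), (42, 3), (43, 10), (45, 9), (47, 2), (48, 4), (49, 6), (50, 10), (51, 10), (52, 2), (53, 8), (54, 5), (55, 10), (56, 1), (57, 5), (58, 1), (59, 5), (60, 9), (63, 6),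 (64, 1), (65, 8), (66, 8), (67, 5), (68, 4), (69, 8), (70, 4), (71, 2), (72, 5), (73, 4), (74, 10), (75, 4), (76, 4), (77, 3), (78, 6), (79, 5), (80, 3), (81, 1), (82, 6), (83, 1), (85, 6), (86, 8), (87, 7), (88, 9), (89, 9), (90, 6), (91, 4), (92, 6), (93, 2), (94, 10), (95, 2), (96, 5), (98, 8), (99, 2), (100, 9), (101, 1), (102, 8), (103, 5), (104, 8), (105, 4), (106, 9), (107, 7), (108, 4), (109, 9), (110, 2), (111, 4), (112, 6), (113, 1), (114, 6), (115, 8), (116, 4), (117, 6), (118, 7), (119, 9), (120, 7), (121, 3), (123, 5), (124, 8), (125, 6), (127, 7), (128, 3), (129, 1), (130, 2), (131, 8), (132, 2)],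
  [(0, 10), (1, 4), (2, 10), (3, 7), (4, 7), (5, 10), (6, 5), (7, 3), (8, 10), (9, 10), (11, 5), (14, 8), (15, 5), (16, 10), (17, 4), (18, 3), (19, 2), (22, 10), (23, 10), (24, 5), (25, 9), (26, 7), (27, 1), (28, 4), (29, 10), (30, 6), (31, 8), (32, 1), (34, 1), (35, 7), (36, 1), (37, 2), (38, 3), (39, 3), (40, 5), (41, 4), (42, 8), (43, 2), (44, 5), (45, 2), (46, 3), (47, 4), (48, 5), (49, 9), (50, 9), (51, 1), (52, 10), (55, 9), (56, 10), (57, 5), (58, 2), (59, 2), (60, 3), (62, 9), (63, 9), (64, 2), (65, 5), (66, 5), (67, 5), (68, 10), (69, 3), (70, 3), (71, 4), (72, 7), (73, 7), (74, 3), (75, 10), (76, 10), (77, 9), (78, 9), (79, 4), (80, 4), (81, 9), (83, 7), (84, 9), (86, 10), (87, 2), (88, 4), (89, 2), (90, 2), (91, 3), (92, 8), (93, 4), (94, 4), (96, 7), (97, 4), (98, 2), (99, 7), (100, 7), (104, 7), (105, 6), (106, 1), (107, 7), (108, 9), (109, 10), (110, 4), (111, 8), (112, 2), (113, 6), (114, 6), (115,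 9), (116, 4), (117, 1), (118, 3), (119, 5), (120, 7), (121, 10), (123, 1), (124, 6), (125, 2), (126, 6), (127, 10), (128, 4), (129, 2), (130, 1), (131, 8), (132, 2)],
  [(0, 5), (2, 1), (3, 3), (4, 4), (6, 5), (7, 8), (8, 4), (9, 7), (10, 1), (11, 3), (12, 9), (13, 3), (15, 7), (16, 9), (17, 3), (18, 6), (19, 8), (20, 10), (21, 9), (22, 3), (23, 1), (24, 10), (25, 10), (26, 3), (27, 6), (29, 6), (30, 10), (31, 10), (32, 6), (33, 6), (34, 3), (35, 8), (36, 1), (37, 6), (38, 1), (39, 10), (40, 2), (41, 8), (42, 9), (43, 2), (44, 10), (45, 6), (46, 8), (47, 4), (48, 7), (50, 5), (51, 5), (52, 2), (53, 10), (54, 4), (55, 4), (56, 3), (57, 9), (58, 6), (59, 6), (60, 10), (61, 8), (62, 2), (63, 4), (64, 2), (65, 1), (66, 10), (67, 5), (68, 10), (69, 7), (70, 7), (71, 5), (72, 7), (74, 7), (75, 6), (76, 10), (77, 10), (78, 3), (79, 4), (80, 4), (81, 8), (82, 3), (83, 4), (84, 2), (85, 1), (86, 5), (87, 10), (88, 5),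 (90, 6), (91, 3), (92, 5), (93, 1), (94, 4), (95, 4), (96, 4), (97, 4), (98, 5), (99, 6), (100, 10), (101, 7), (102, 7), (103, 8), (104, 3), (105, 3), (107, 7), (108, 1), (109, 1), (110, 4), (111, 9), (113, 8), (114, 10), (115, 6), (116, 9), (117, 4), (118, 6), (119, 5), (121, 3), (122, 6), (123, 2), (124, 4), (125, 3), (126, 7), (127, 6), (128, 9), (129, 9), (130, 2), (131, 10)],
  [(0, 9), (1, 1), (2, 1), (3, 4), (4, 6), (5, 9), (6, 3), (7, 3), (8, 10), (9, 10), (11, 2), (12, 10), (13, 7), (14, 5), (15, 10), (16, 4), (17, 6), (18, 5), (19, 7), (20, 4), (21, 9), (22, 3), (23, 5), (24, 1), (25, 3), (26, 9), (28, 5), (30, 6), (31, 6), (33, 4), (34, 6), (35, 5), (36, 4), (37, 3), (38, 2), (39, 9), (41, 2), (42, 5), (43, 9), (44, 6), (45, 5), (46, 8), (47, 2), (48, 1), (49, 9), (50, 6), (51, 2), (52, 3), (53, 5), (54, 10), (55, 3), (56, 5), (57, 10), (58, 7), (59, 10), (60, 4), (61, 9), (62, 2), (63, 3), (64, 5),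 (65, 2), (66, 3), (67, 6), (68, 5), (69, 6), (70, 4), (71, 7), (72, 6), (73, 10), (74, 5), (76, 5), (77, 1), (78, 6), (79, 3), (80, 5), (81, 5), (82, 6), (83, 9), (84, 9), (85, 1), (86, 9), (87, 3), (88, 8), (89, 2), (90, 1), (91, 10), (92, 10), (93, 5), (94, 9), (95, 9), (96, 3), (97, 2), (98, 10), (99, 5), (100, 10), (101, 4), (102, 4), (103, 3), (104, 4), (106, 2), (108, 10), (109, 9), (111, 2), (112, 10), (113, 10), (114, 5), (115, 9), (116, 10), (117, 10), (118, 3), (119, 1), (120, 9), (121, 8), (122, 9), (123, 9), (124, 2), (125, 9), (126, 9), (128, 4), (129, 1), (130, 1), (131, 7), (132, 1)]]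

/-- data -/
def d7_10 : SMat := [
  [(0, 4), (1, 1), (2, 3), (3, 8), (4, 1), (5, 9), (7, 10), (8, 6), (10, 2), (11, 3), (12, 7), (13, 10), (15, 4), (16, 8), (17, 5), (18, 6), (19, 1), (20, 7), (21, 7), (22, 3), (23, 1), (24, 4), (25, 8), (26, 8), (27, 5), (28, 3), (29, 2), (30, 10), (31, 9), (32, 7), (33, 4), (34, 7), (35, 7), (36, 7), (37, 5), (39, 1), (40, 6), (42, 8), (43, 3), (44, 10), (45, 3), (46, 3), (47, 3), (48, 10), (49, 4), (50, 4), (51, 7), (52, 7), (53, 10), (54, 2), (55, 9), (56, 10), (57, 7), (58, 8), (59, 9), (61, 1), (63, 10), (64, 10), (65, 1), (67, 8), (68, 10), (69, 7), (70, 3), (71, 4), (72, 5), (73, 7), (74, 10), (75, 8), (76, 7), (77, 1), (78, 10), (79, 1), (80, 2), (81, 8), (82, 4), (83, 4), (84, 6), (85, 5), (86, 6), (87, 2), (88, 1), (89, 8), (90, 3), (91, 6), (92, 2), (93, 10), (94, 1), (95, 8), (97, 3), (98, 2), (99, 5), (100, 2), (101, 9), (102, 9), (107, 10), (109, 1), (110, 2),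 (112, 1), (113, 9), (115, 9), (117, 2), (118, 10), (119, 1), (120, 1), (121, 1), (122, 1), (123, 1), (124, 9), (125, 1), (126, 10), (127, 2), (128, 2), (130, 1), (132, 10)],
  [(0, 10), (1, 4), (2, 1), (3, 1), (4, 10), (5, 3), (6, 10), (7, 1), (8, 2), (9, 6), (10, 9), (11, 4), (12, 7), (13, 2), (14, 1), (15, 8), (16, 1), (17, 7), (18, 4), (19, 4), (20, 6), (21, 1), (23, 3), (24, 2), (25, 7), (26, 2), (27, 4), (28, 5), (29, 3), (30, 8), (31, 5), (32, 9), (33, 6), (34, 1), (35, 7), (36, 5), (37, 3), (39, 4), (40, 10), (41, 5), (42, 6), (43, 5), (44, 8), (46, 8), (47, 4), (48, 8), (49, 8), (50, 7), (52, 6), (53, 1), (55, 5), (56, 6), (57, 3), (58, 8), (59, 1), (60, 3), (61, 4), (62, 7), (63, 9), (65, 1), (66, 4), (67, 7), (69, 4), (71, 8), (72, 1), (73, 7), (74, 6), (75, 5), (76, 7), (77, 3), (78, 7), (79, 4), (81, 6), (82, 2), (83, 4), (84, 4), (85, 2), (86, 6), (87, 2), (88, 10), (89, 6), (91, 9), (92, 8), (93,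 8), (94, 4), (95, 6), (98, 8), (99, 5), (100, 1), (101, 9), (102, 9), (103, 6), (104, 5), (107, 10), (109, 1), (110, 2), (112, 1), (113, 9), (115, 9), (117, 2), (118, 10), (119, 1), (120, 1), (121, 1), (122, 1), (123, 1), (124, 9), (125, 1), (126, 10), (127, 2), (128, 9), (129, 7), (130, 1), (132, 10)],
  [(0, 1), (3, 6), (4, 5), (6, 7), (7, 2), (9, 10), (10, 10), (11, 5), (12, 3), (13, 5), (14, 2), (15, 8), (16, 6), (17, 5), (18, 4), (19, 10), (20, 10), (21, 6), (22, 9), (23, 10), (24, 3), (25, 6), (26, 10), (27, 10), (28, 3), (29, 7), (30, 4), (31, 1), (33, 3), (34, 10), (35, 3), (36, 7), (37, 4), (38, 1), (39, 10), (40, 1), (41, 3), (42, 2), (43, 3), (44, 1), (45, 7), (46, 5), (47, 4), (48, 2), (49, 2), (50, 7), (51, 5), (52, 1), (54, 7), (55, 6), (56, 4), (57, 1), (58, 8), (59, 1), (60, 5), (62, 7), (63, 6), (64, 4), (65, 2), (66, 2), (67, 7), (69, 4), (70, 9), (71, 6), (72, 3), (73, 1), (74, 7), (75, 7),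 (76, 4), (77, 6), (78, 2), (80, 7), (81, 7), (83, 9), (84, 7), (85, 5), (86, 7), (87, 9), (88, 5), (89, 7), (92, 7), (93, 3), (94, 5), (95, 7), (96, 4), (98, 5), (99, 6), (100, 6), (101, 2), (102, 9), (103, 7), (104, 6), (105, 4), (106, 2), (107, 9), (108, 10), (109, 8), (110, 2), (111, 9), (113, 8), (114, 6), (115, 8), (116, 5), (117, 7), (118, 7), (119, 3), (120, 6), (121, 8), (122, 9), (123, 10), (124, 10), (126, 6), (127, 6), (128, 4), (129, 2), (130, 1), (131, 8), (132, 3)],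
  [(1, 2), (2, 9), (3, 5), (4, 9), (5, 10), (6, 3), (7, 6), (8, 6), (9, 10), (10, 1), (11, 2), (12, 10), (13, 6), (14, 2), (16, 5), (17, 7), (18, 4), (19, 9), (20, 7), (21, 7), (22, 2), (23, 6), (24, 1), (25, 4), (26, 8), (27, 10), (28, 2), (30, 5), (31, 7), (32, 10), (33, 5), (34, 7), (35, 4), (36, 5), (37, 4), (38, 10), (39, 10), (40, 8), (41, 3), (42, 7), (43, 9), (44, 5), (45, 3), (46, 6), (47, 4), (48, 4), (49, 8), (50, 8), (51, 3), (52, 3), (53, 6), (54, 9), (55, 3), (56, 3), (57, 2), (58, 5), (60, 4), (61, 8), (62, 3), (63, 2), (64, 3), (65, 2), (66, 4), (67, 8), (68, 6), (69, 3), (70, 3), (71, 5), (72, 7), (74, 6), (75, 8), (76, 6), (77, 4), (78, 2), (80, 2), (81, 8), (82, 2), (83, 7), (84, 2), (85, 7), (86, 5), (87, 9), (88, 7), (89, 2), (90, 5), (91, 4), (92, 7), (93, 9), (94, 9), (96, 9), (97, 9), (98, 9), (99, 8), (100, 4), (101, 2), (102, 9), (103, 9), (104, 4), (105, 4), (106, 4), (107, 10), (108,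 7), (109, 8), (110, 1), (111, 8), (113, 7), (114, 4), (115, 10), (116, 4), (117, 8), (118, 10), (119, 1), (120, 4), (121, 4), (122, 5), (123, 5), (124, 2), (125, 8), (126, 6), (127, 5), (128, 6), (130, 1), (131, 7), (132, 3)],
  [(0, 7), (1, 3), (2, 5), (3, 2), (4, 4), (6, 6), (7, 5), (8, 2), (9, 4), (10, 7), (11, 8), (12, 7), (13, 9), (14, 8), (15, 3), (16, 8), (17, 1), (19, 2), (20, 3), (21, 7), (22, 3), (23, 1), (24, 7), (25, 3), (26, 4), (28, 8), (29, 9), (30, 2), (31, 2), (32, 3), (33, 9), (34, 2), (35, 9), (36, 5), (37, 6), (38, 2), (39, 10), (40, 1), (41, 10), (42, 9), (43, 10), (44, 10), (45, 3), (46, 4), (47, 2), (48, 3), (50, 4), (54, 8), (55, 5), (56, 7), (57, 1), (58, 7), (59, 8), (61, 10), (62, 3), (63, 7), (64, 5), (65, 10), (67, 6), (68, 3), (69, 5), (70, 3), (71, 8), (72, 10), (73, 2), (74, 5), (75, 7), (76, 3), (78, 2), (80, 10), (81, 2), (82, 3), (83, 10), (84, 1), (85, 7), (86, 3), (87, 8),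 (88, 1), (89, 6), (90, 8), (91, 10), (92, 4), (93, 5), (94, 5), (96, 2), (97, 2), (98, 8), (100, 7), (101, 8), (102, 4), (103, 1), (104, 5), (105, 1), (106, 5), (108, 3), (109, 3), (110, 6), (111, 3), (112, 3), (114, 6), (115, 3), (116, 3), (117, 3), (118, 4), (120, 7), (121, 6), (122, 3), (123, 2), (124, 8), (125, 3), (126, 7), (128, 8), (130, 7), (131, 3), (132, 1)],
  [(0, 10), (1, 1), (2, 10), (3, 10), (4, 9), (5, 10), (6, 3), (7, 3), (8, 3), (9, 3), (10, 4), (11, 8), (12, 10), (13, 3), (14, 6), (15, 4), (16, 1), (17, 5), (18, 3), (19, 6), (20, 9), (21, 1), (22, 8), (24, 2), (25, 4), (26, 10), (28, 6), (29, 3), (30, 6), (31, 5), (32, 10), (33, 8), (34, 4), (35, 6), (36, 3), (37, 3), (39, 7), (40, 2), (41, 6), (42, 4), (43, 7), (44, 4), (45, 2), (46, 8), (47, 1), (48, 3), (49, 6), (50, 6), (51, 1), (52, 2), (53, 1), (54, 10), (55, 3), (56, 7), (57, 1), (58, 7), (59, 7), (60, 2), (61, 6), (62, 10), (63, 2),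 (64, 8), (65, 5), (66, 4), (67, 3), (68, 8), (69, 6), (70, 9), (71, 9), (72, 8), (73, 1), (74, 7), (75, 4), (76, 8), (77, 2), (79, 9), (81, 2), (82, 6), (83, 9), (84, 2), (85, 7), (88, 9), (89, 2), (90, 5), (91, 2), (92, 7), (93, 2), (94, 6), (95, 2), (96, 5), (97, 2), (98, 6), (99, 4), (100, 2), (105, 1), (106, 1), (107, 10), (108, 7), (109, 10), (110, 3), (111, 3), (112, 3), (113, 7), (114, 3), (115, 10), (116, 7), (119, 4), (120, 4), (121, 7), (122, 7), (123, 10), (125, 8), (126, 7), (127, 4), (128, 4), (129, 3), (130, 1), (131, 7), (132, 4)],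
  [(0, 3), (1, 3), (2, 9), (3, 1), (4, 6), (5, 3), (6, 6), (7, 6), (8, 6), (9, 6), (10, 6), (12, 2), (13, 7), (14, 1), (15, 7), (16, 8), (17, 7), (18, 4), (19, 5), (20, 7), (21, 2), (22, 4), (23, 2), (24, 1), (25, 3), (26, 6), (27, 1), (28, 9), (29, 6), (30, 2), (31, 1), (32, 10), (34, 9), (35, 3), (37, 3), (38, 1), (39, 1), (40, 7), (41, 1), (42, 3), (43, 1), (44, 9), (45, 8), (46, 3), (47, 8), (48, 3), (49, 3), (50, 9), (51, 5), (52, 10), (53, 3), (54, 5), (55, 8), (56, 2), (57, 10), (58, 5), (59, 2), (60, 8), (61, 1), (62, 8), (63, 5), (65, 6), (68, 8), (69, 2), (70, 4), (71, 4), (72, 4), (74, 6), (75, 4), (77, 6), (78, 2), (79, 7), (80, 7), (81, 9), (82, 10), (83, 2), (84, 2), (85, 1), (86, 5), (87, 3), (88, 5), (89, 6), (90, 5), (91, 2), (92, 7), (93, 2), (94, 2), (95, 2), (96, 3), (97, 2), (98, 3), (99, 10), (102, 8), (103, 7), (104, 9), (106, 9), (107, 2), (108, 8), (109, 3), (110, 9), (111, 4), (112, 5),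 (114, 1), (115, 7), (116, 9), (117, 6), (119, 10), (120, 6), (121, 2), (122, 5), (123, 4), (124, 7), (125, 5), (126, 4), (127, 8), (128, 4), (129, 1), (130, 2), (131, 7), (132, 2)],
  [(0, 4), (1, 4), (2, 4), (3, 5), (4, 2), (5, 4), (6, 6), (7, 9), (8, 4), (9, 1), (10, 6), (11, 10), (12, 9), (14, 7), (15, 9), (16, 2), (17, 3), (18, 10), (19, 1), (20, 3), (21, 7), (23, 2), (24, 8), (25, 3), (26, 4), (27, 2), (28, 10), (29, 2), (30, 1), (31, 3), (32, 3), (33, 1), (34, 7), (35, 10), (36, 6), (37, 5), (38, 1), (39, 4), (40, 8), (41, 10), (43, 1), (44, 9), (45, 5), (46, 8), (47, 4), (48, 3), (49, 9), (50, 10), (51, 5), (52, 9), (53, 2), (54, 7), (55, 8), (56, 7), (57, 1), (58, 8), (59, 2), (60, 5), (61, 1), (62, 7), (63, 9), (64, 5), (65, 2), (66, 6), (67, 6), (68, 5), (69, 4), (71, 6), (72, 9), (73, 1), (74, 7), (75, 5), (76, 5), (77, 4), (78, 4), (79, 9), (80, 7), (85, 7), (86, 5), (87, 7), (88, 7), (91, 4), (92,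 7), (93, 6), (95, 7), (97, 9), (98, 7), (99, 2), (101, 9), (102, 2), (103, 7), (104, 2), (105, 4), (106, 3), (107, 4), (108, 4), (109, 7), (110, 5), (111, 3), (112, 4), (113, 3), (114, 7), (115, 4), (117, 8), (118, 10), (119, 8), (120, 7), (122, 1), (123, 4), (124, 7), (125, 4), (126, 3), (127, 5), (129, 8), (131, 7), (132, 4)]]

/-- data -/
def d7_11 : SMat := [
  [(0, 7), (1, 4), (2, 5), (3, 6), (4, 1), (5, 9), (6, 10), (8, 6), (9, 10), (10, 2), (11, 4), (13, 5), (14, 10), (15, 3), (17, 6), (18, 9), (19, 2), (20, 8), (21, 4), (22, 10), (23, 8), (24, 7), (25, 5), (26, 2), (27, 7), (28, 5), (29, 7), (30, 7), (32, 5), (33, 4), (34, 5), (35, 4), (36, 5), (37, 1), (38, 8), (39, 2), (40, 9), (42, 3), (43, 6), (44, 10), (45, 6), (46, 10), (47, 3), (48, 8), (49, 4), (50, 4), (51, 9), (52, 4), (53, 2), (54, 5), (55, 1), (56, 2), (57, 7), (60, 7), (61, 7), (62, 4), (64, 7), (65, 1), (67, 4), (68, 9), (69, 7), (70, 10),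 (71, 10), (72, 10), (74, 4), (75, 10), (76, 7), (77, 6), (78, 8), (79, 3), (80, 2), (81, 10), (82, 2), (83, 10), (84, 6), (85, 7), (86, 2), (87, 6), (88, 3), (89, 2), (91, 8), (92, 9), (93, 4), (94, 2), (95, 6), (96, 5), (97, 8), (98, 6), (99, 1), (100, 6), (102, 3), (104, 8), (105, 9), (106, 10), (107, 1), (108, 1), (109, 1), (110, 7), (111, 1), (112, 1), (113, 2), (114, 2), (115, 1), (116, 3), (117, 1), (118, 1), (119, 10), (120, 2), (121, 3), (122, 1), (123, 1), (125, 10), (126, 3), (127, 9), (128, 9), (130, 10), (131, 2), (132, 9)],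
  [(0, 4), (1, 5), (2, 6), (3, 7), (4, 2), (5, 4), (6, 10), (7, 2), (8, 7), (9, 7), (10, 4), (11, 7), (12, 2), (13, 3), (14, 2), (15, 1), (16, 10), (18, 6), (19, 6), (20, 3), (21, 10), (22, 5), (23, 8), (24, 4), (25, 6), (28, 9), (29, 3), (30, 7), (31, 8), (32, 3), (33, 10), (34, 8), (35, 3), (36, 4), (37, 9), (38, 4), (39, 7), (40, 6), (41, 9), (42, 4), (43, 9), (44, 7), (45, 2), (46, 7), (47, 5), (48, 3), (49, 10), (50, 8), (51, 4), (52, 2), (53, 8), (54, 10), (55, 6), (56, 3), (58, 5), (59, 7), (60, 6), (61, 5), (62, 9), (63, 6), (64, 8), (66, 7), (67, 10), (68, 8), (69, 3), (70, 5), (71, 2), (72, 6), (74, 3), (75, 4), (76, 4), (77, 1), (78, 10), (79, 8), (80, 2), (81, 1), (82, 3), (83, 10), (84, 1), (85, 10), (87, 7), (88, 1), (89, 5), (90, 8), (91, 5), (92, 2), (93, 3), (94, 3), (95, 3), (96, 3), (97, 10), (98, 9), (99, 4), (100, 7), (101, 2), (102, 2), (104, 9), (105, 2), (106, 2), (107, 9), (108, 3), (109,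 5), (110, 5), (111, 5), (112, 4), (113, 9), (114, 5), (115, 4), (116, 9), (117, 5), (118, 6), (119, 4), (120, 1), (121, 6), (122, 6), (123, 9), (124, 3), (125, 7), (126, 4), (129, 3), (130, 8), (131, 3)],
  [(0, 10), (1, 7), (2, 10), (5, 1), (6, 5), (7, 9), (8, 1), (9, 9), (10, 10), (12, 10), (13, 10), (14, 6), (15, 8), (16, 7), (17, 5), (18, 6), (19, 4), (20, 3), (21, 4), (22, 6), (23, 5), (24, 8), (25, 7), (26, 9), (28, 6), (29, 10), (30, 8), (31, 5), (32, 3), (33, 4), (34, 9), (35, 6), (36, 8), (37, 4), (38, 7), (39, 5), (40, 10), (41, 8), (42, 7), (43, 2), (44, 6), (45, 8), (46, 6), (47, 8), (48, 7), (49, 2), (50, 1), (51, 7), (52, 8), (53, 7), (54, 4), (55, 5), (56, 5), (57, 8), (58, 6), (59, 3), (60, 8), (61, 2), (62, 10), (64, 5), (65, 9), (66, 5), (67, 6), (68, 3), (69, 8), (70, 6), (71, 3), (72, 4), (73, 6), (74, 3), (75, 6), (76, 5), (77, 1), (78, 10), (79, 1), (81, 1), (82, 8), (83, 1), (84, 10), (85,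 3), (87, 2), (88, 1), (89, 8), (90, 3), (91, 10), (92, 2), (93, 10), (94, 8), (95, 10), (96, 2), (97, 10), (98, 2), (99, 7), (100, 2), (101, 1), (102, 9), (103, 9), (104, 2), (105, 6), (106, 5), (107, 2), (108, 10), (109, 6), (110, 8), (111, 6), (112, 7), (113, 2), (114, 8), (115, 10), (116, 4), (117, 6), (118, 6), (119, 5), (120, 2), (121, 9), (122, 5), (123, 2), (124, 7), (125, 3), (126, 9), (127, 10), (128, 10), (129, 8), (130, 4), (131, 2), (132, 9)],
  [(0, 4), (1, 9), (2, 5), (3, 1), (6, 7), (7, 10), (8, 5), (9, 4), (10, 1), (11, 9), (12, 6), (13, 2), (14, 7), (16, 9), (17, 10), (18, 1), (19, 1), (20, 4), (22, 3), (23, 8), (24, 7), (25, 2), (26, 4), (27, 1), (28, 3), (29, 1), (30, 6), (31, 9), (32, 8), (33, 2), (34, 8), (35, 9), (36, 6), (37, 2), (38, 3), (39, 10), (40, 3), (42, 10), (43, 10), (44, 3), (45, 4), (46, 10), (47, 8), (48, 2), (49, 8), (50, 5), (51, 4), (52, 9), (54, 9), (55, 1), (56, 4), (57,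 1), (58, 8), (59, 2), (60, 5), (61, 10), (62, 4), (64, 9), (65, 6), (66, 5), (67, 2), (68, 5), (69, 6), (70, 3), (71, 9), (72, 9), (73, 8), (74, 7), (75, 7), (76, 9), (77, 8), (78, 10), (79, 8), (80, 2), (81, 1), (82, 6), (83, 10), (84, 10), (85, 5), (87, 4), (88, 3), (89, 8), (90, 3), (91, 1), (92, 2), (93, 10), (94, 10), (95, 10), (96, 4), (97, 10), (98, 4), (99, 9), (102, 7), (103, 2), (104, 4), (106, 9), (107, 2), (108, 8), (109, 3), (110, 9), (112, 5), (114, 5), (115, 7), (116, 9), (117, 6), (119, 10), (120, 6), (121, 2), (122, 5), (123, 4), (124, 7), (125, 5), (126, 4), (127, 8), (128, 4), (129, 1), (130, 2), (131, 7), (132, 2)],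
  [(0, 1), (1, 7), (2, 9), (3, 8), (4, 3), (5, 1), (6, 7), (7, 7), (8, 10), (9, 2), (10, 10), (12, 9), (13, 6), (14, 6), (15, 10), (16, 5), (17, 4), (18, 7), (19, 4), (20, 4), (21, 3), (22, 9), (23, 4), (24, 8), (25, 7), (26, 10), (27, 10), (28, 7), (29, 1), (30, 6), (31, 3), (32, 4), (33, 5), (34, 7), (35, 6), (36, 7), (37, 7), (38, 1), (39, 2), (40, 1), (41, 10), (42, 6), (43, 1), (44, 7), (45, 9), (46, 4), (47, 7), (48, 8), (49, 3), (50, 4), (51, 8), (52, 8), (53, 6), (54, 6), (55, 7), (56, 6), (57, 9), (58, 4), (59, 1), (60, 5), (61, 1), (62, 9), (63, 9), (64, 5), (65, 8), (66, 5), (67, 6), (68, 8), (69, 6), (70, 6), (71, 3), (72, 5), (73, 8), (74, 2), (75, 9), (76, 5), (77, 4), (78, 6), (79, 6), (80, 2), (81, 5), (82, 5), (83, 5), (84, 5), (85, 6), (86, 4), (87, 2), (88, 9), (89, 5), (90, 5), (91, 3), (92, 2), (93, 7), (94, 5), (95, 5), (97, 3), (98, 4), (99, 7), (104, 7), (105, 7), (108, 1), (110, 10), (111,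 5), (112, 1), (113, 1), (114, 8), (115, 2), (116, 2), (117, 1), (118, 4), (119, 2), (122, 7), (123, 10), (124, 4), (125, 7), (126, 3), (127, 10), (128, 1), (129, 2), (130, 10), (131, 1), (132, 2)],
  [(0, 2), (2, 7), (4, 6), (5, 7), (6, 1), (7, 3), (8, 1), (9, 1), (10, 4), (12, 3), (13, 4), (14, 4), (15, 4), (16, 3), (17, 2), (18, 10), (19, 2), (20, 2), (21, 8), (22, 10), (23, 7), (25, 6), (26, 6), (27, 3), (28, 4), (29, 7), (30, 8), (31, 8), (32, 2), (33, 9), (34, 4), (36, 10), (37, 7), (38, 7), (39, 4), (40, 7), (42, 7), (43, 4), (44, 4), (45, 5), (46, 7), (47, 6), (48, 6), (49, 5), (50, 1), (51, 5), (52, 8), (53, 9), (55, 2), (56, 2), (57, 7), (58, 10), (59, 10), (60, 5), (61, 4), (62, 5), (63, 5), (64, 6), (65, 8), (67, 5), (68, 4), (69, 8), (70, 10), (71, 9), (72, 6), (73, 8), (75, 10), (76, 4), (77, 1), (78, 10), (79, 10), (80, 9), (81, 1), (82, 6), (83, 10), (84, 10), (85, 1), (87, 2), (88, 1), (89, 8),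 (90, 3), (91, 8), (92, 2), (93, 10), (94, 10), (95, 10), (96, 4), (97, 2), (98, 2), (99, 7), (100, 2), (101, 9), (102, 9), (103, 9), (104, 2), (105, 6), (106, 6), (107, 4), (108, 4), (109, 8), (110, 7), (111, 1), (113, 5), (114, 5), (115, 9), (116, 5), (117, 7), (118, 5), (119, 7), (120, 1), (121, 8), (122, 3), (124, 2), (125, 7), (126, 9), (127, 6), (128, 3), (129, 8), (130, 3), (131, 5), (132, 4)],
  [(0, 6), (2, 2), (3, 5), (4, 10), (5, 9), (6, 3), (7, 2), (8, 4), (9, 3), (10, 7), (11, 4), (12, 10), (13, 2), (14, 7), (15, 7), (16, 2), (17, 6), (18, 1), (19, 5), (20, 9), (21, 10), (22, 2), (23, 10), (24, 4), (25, 6), (26, 4), (27, 2), (28, 9), (29, 5), (30, 7), (31, 2), (32, 9), (35, 3), (37, 6), (38, 10), (39, 6), (40, 3), (41, 7), (42, 6), (43, 7), (44, 1), (45, 9), (46, 9), (47, 10), (48, 5), (49, 5), (50, 6), (52, 4), (53, 9), (56, 7), (57, 6), (58, 7), (59, 6), (61, 5), (62, 9), (63, 1), (64, 10), (65,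 7), (66, 8), (67, 1), (68, 2), (69, 5), (70, 3), (71, 2), (72, 7), (73, 4), (74, 10), (75, 9), (76, 2), (77, 3), (78, 8), (79, 3), (80, 5), (81, 5), (82, 4), (83, 5), (84, 9), (85, 3), (86, 8), (87, 1), (88, 6), (89, 8), (90, 1), (91, 10), (92, 10), (93, 1), (94, 3), (95, 7), (96, 9), (97, 9), (98, 8), (99, 9), (100, 1), (101, 6), (102, 2), (103, 1), (104, 8), (105, 3), (106, 5), (107, 9), (108, 2), (109, 3), (110, 4), (111, 6), (112, 3), (113, 9), (114, 1), (115, 2), (116, 7), (118, 9), (119, 4), (120, 9), (121, 2), (122, 3), (123, 3), (124, 6), (125, 4), (126, 1), (127, 10), (128, 2), (129, 3), (130, 9), (131, 1), (132, 1)],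
  [(0, 4), (1, 8), (2, 9), (3, 8), (4, 7), (5, 1), (6, 6), (7, 4), (8, 6), (9, 3), (10, 5), (11, 4), (12, 1), (13, 9), (14, 1), (15, 5), (17, 8), (18, 4), (19, 4), (20, 9), (21, 1), (22, 1), (23, 3), (24, 10), (25, 3), (26, 3), (27, 8), (28, 9), (29, 5), (30, 1), (31, 4), (32, 9), (35, 4), (36, 9), (37, 2), (38, 2), (39, 3), (40, 4), (41, 1), (42, 5), (43, 1), (44, 8), (45, 8), (46, 5), (47, 9), (48, 3), (49, 1), (50, 10), (51, 7), (52, 1), (53, 3), (54, 7), (55, 9), (56, 3), (57, 8), (58, 5), (59, 4), (60, 6), (61, 3), (62, 8), (63, 4), (64, 10), (65, 4), (67, 1), (68, 10), (69, 1), (70, 1), (71, 10), (72, 4), (73, 10), (74, 3), (75, 4), (76, 1), (77, 8), (78, 10), (79, 10), (80, 9), (81, 5), (82, 7), (83, 7), (84, 5), (85, 8), (86, 7), (87, 5), (88, 1), (89, 9), (90, 8), (91, 5), (92, 9), (93, 5), (94, 7), (95, 3), (96, 3), (97, 8), (98, 9), (99, 4), (100, 5), (101, 9), (102, 6), (103, 2), (104, 5), (105, 8),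 (106, 9), (107, 10), (108, 2), (109, 1), (110, 7), (112, 10), (113, 4), (114, 4), (115, 4), (116, 4), (117, 9), (118, 4), (119, 8), (120, 2), (121, 1), (122, 10), (124, 4), (126, 4), (127, 5), (130, 7), (131, 2)]]

/-- data -/
def d7_12 : SMat := [
  [(0, 6), (1, 7), (2, 6), (3, 5), (4, 5), (5, 8), (7, 9), (8, 8), (9, 10), (11, 7), (12, 5), (13, 9), (14, 3), (15, 4), (16, 10), (17, 1), (18, 5), (19, 6), (20, 2), (21, 9), (22, 6), (23, 10), (24, 6), (25, 9), (26, 7), (27, 2), (28, 7), (29, 2), (30, 4), (31, 2), (32, 2), (34, 3), (36, 7), (37, 3), (38, 7), (39, 5), (40, 7), (41, 7), (42, 10), (43, 7), (44, 5), (45, 1), (46, 2), (47, 9), (48, 5), (49, 2), (50, 10), (51, 3), (53, 10), (54, 7), (55, 10), (56, 6), (57, 3), (58, 4), (59, 3), (60, 4), (61, 4), (62, 9), (63, 2), (64, 6), (65, 7), (66, 7), (67, 1), (68, 6), (69, 1), (70, 6), (71, 6), (72, 7), (73, 7), (74, 6), (75, 6), (76, 3), (77, 3), (78, 7), (79, 6),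 (80, 2), (81, 4), (82, 5), (83, 2), (84, 9), (85, 8), (86, 1), (87, 8), (88, 10), (89, 7), (90, 6), (91, 1), (92, 8), (93, 6), (94, 9), (96, 6), (97, 2), (98, 10), (99, 8), (100, 7), (101, 7), (102, 7), (103, 6), (104, 9), (105, 2), (106, 2), (107, 5), (108, 10), (109, 9), (110, 9), (111, 9), (112, 8), (113, 5), (114, 1), (116, 9), (117, 9), (118, 6), (119, 8), (120, 1), (121, 10), (122, 10), (123, 9), (124, 10), (125, 7), (128, 7), (129, 10), (130, 1), (131, 3)],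
  [(0, 1), (1, 9), (3, 5), (4, 4), (6, 8), (7, 7), (9, 2), (10, 1), (11, 10), (12, 1), (13, 6), (14, 7), (16, 3), (17, 4), (18, 8), (20, 2), (21, 10), (22, 9), (23, 6), (24, 9), (25, 7), (26, 2), (27, 10), (28, 7), (29, 10), (30, 5), (31, 4), (32, 2), (33, 6), (34, 6), (35, 8), (36, 6), (37, 8), (39, 2), (40, 3), (41, 7), (42, 5), (43, 2), (44, 5), (45, 8), (46, 6), (47, 7), (48, 7), (49, 2), (50, 1), (51, 8), (52, 9), (53, 4), (54, 2), (55, 8), (56, 6), (57, 9), (58, 6), (59, 1), (60, 7), (61, 2), (62, 8), (63, 7), (64, 5), (65, 9), (66, 7), (67, 6), (68, 5), (69, 8), (70, 9), (71, 4), (72, 2), (73, 9), (74, 6), (75, 10), (76, 3), (77, 3), (78, 5), (79, 6), (80, 9), (81, 10), (82, 5), (83, 1), (84, 1), (85, 6), (86, 5), (87, 8), (88, 6), (89, 3), (90, 8), (91, 3), (92, 9), (93, 10), (94, 1), (95, 8), (96, 7), (97, 10), (98, 5), (99, 6), (100, 2), (102, 4), (103, 9), (105, 3), (106, 7), (107, 8), (108, 4), (110,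 3), (111, 4), (113, 8), (114, 8), (115, 7), (116, 1), (117, 7), (118, 8), (119, 4), (120, 4), (124, 8), (126, 8), (130, 3), (131, 8), (132, 1)],
  [(0, 7), (1, 2), (2, 6), (3, 3), (4, 8), (5, 3), (6, 6), (8, 2), (9, 6), (10, 2), (11, 7), (12, 9), (13, 9), (14, 5), (15, 4), (16, 5), (17, 1), (18, 8), (19, 2), (20, 4), (21, 2), (22, 2), (23, 10), (24, 4), (25, 5), (26, 9), (27, 7), (28, 7), (29, 6), (30, 3), (31, 7), (32, 7), (33, 5), (34, 4), (35, 9), (36, 8), (38, 3), (39, 2), (40, 7), (41, 4), (43, 5), (44, 1), (45, 10), (46, 7), (47, 7), (48, 10), (49, 3), (50, 8), (51, 9), (52, 7), (53, 9), (54, 6), (55, 4), (56, 1), (57, 9), (58, 4), (59, 8), (60, 9), (61, 4), (62, 10), (63, 10), (64, 10), (66, 2), (67, 1), (68, 7), (69, 3), (70, 2), (71, 9), (72, 6), (73, 6), (74, 5), (75, 8), (76, 10), (77, 8), (78, 10), (79, 8), (80, 2), (81, 5), (82, 1), (83, 1), (84, 5), (85, 10), (86, 2), (87, 9), (88, 3), (89, 5), (90,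 8), (91, 3), (92, 2), (93, 7), (94, 9), (95, 5), (96, 3), (97, 3), (100, 5), (101, 7), (102, 4), (103, 2), (104, 5), (105, 4), (106, 2), (107, 9), (108, 10), (109, 8), (110, 2), (111, 9), (113, 8), (114, 6), (115, 8), (116, 5), (118, 7), (119, 3), (120, 6), (121, 8), (122, 9), (123, 10), (124, 6), (126, 6), (127, 6), (128, 4), (129, 2), (130, 1), (131, 8), (132, 3)],
  [(0, 10), (1, 9), (2, 1), (3, 2), (4, 6), (5, 3), (6, 4), (7, 6), (8, 4), (9, 5), (11, 1), (12, 10), (13, 3), (14, 10), (15, 4), (16, 4), (17, 6), (18, 8), (19, 10), (20, 1), (21, 6), (22, 7), (23, 2), (24, 10), (25, 8), (26, 5), (27, 4), (28, 9), (29, 2), (30, 8), (31, 1), (33, 8), (34, 2), (35, 8), (36, 2), (37, 9), (38, 10), (39, 10), (40, 1), (41, 9), (42, 6), (43, 8), (44, 9), (45, 4), (46, 4), (47, 8), (48, 9), (50, 3), (51, 5), (52, 10), (53, 10), (54, 2), (55, 7), (58, 6), (59, 7), (60, 5), (62, 4), (63, 5), (64, 8), (66, 9), (67, 3), (68,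 1), (69, 8), (70, 4), (71, 9), (72, 10), (73, 3), (74, 8), (75, 5), (76, 8), (77, 5), (78, 7), (79, 8), (80, 4), (82, 1), (84, 9), (85, 10), (86, 6), (87, 8), (88, 8), (89, 7), (90, 6), (91, 3), (92, 2), (93, 9), (94, 7), (95, 9), (96, 10), (97, 9), (98, 8), (100, 2), (101, 4), (102, 3), (103, 4), (104, 2), (106, 4), (107, 9), (108, 1), (109, 7), (110, 2), (111, 6), (112, 6), (113, 10), (114, 6), (115, 4), (116, 9), (117, 3), (118, 10), (119, 1), (121, 5), (122, 7), (123, 6), (124, 6), (125, 6), (126, 3), (127, 5), (129, 10), (130, 8), (131, 2), (132, 9)],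
  [(0, 9), (1, 4), (2, 1), (3, 7), (4, 6), (5, 1), (6, 8), (7, 5), (8, 2), (9, 5), (10, 8), (11, 10), (12, 9), (14, 9), (15, 8), (16, 2), (17, 5), (18, 10), (19, 1), (20, 4), (21, 6), (22, 10), (23, 10), (24, 1), (25, 7), (26, 8), (27, 3), (28, 2), (29, 7), (30, 9), (32, 1), (33, 10), (34, 10), (35, 6), (36, 1), (38, 9), (39, 10), (40, 7), (41, 2), (42, 5), (43, 1), (44, 8), (45, 3), (46, 7), (47, 10), (49, 8), (50, 9), (51, 3), (52, 8), (53, 8), (54, 3), (55, 4), (56, 9), (57, 1), (58, 7), (59, 7), (60, 10), (61, 1), (62, 1), (63, 9), (64, 3), (65, 3), (67, 8), (68, 3), (69, 9), (70, 7), (71, 1), (72, 8), (73, 2), (74, 9), (75, 2), (76, 3), (86, 9), (87, 7), (88, 9), (92, 7), (98, 9), (100, 9), (101, 7), (102, 4), (105, 3), (106, 4), (107, 7), (108, 1), (109, 7), (110, 3), (111, 5), (112, 4), (113, 9), (114, 5), (115, 2), (116, 9), (117, 5), (118, 7), (119, 2), (120, 4), (121, 8), (122, 6), (123, 6), (124, 1),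 (125, 6), (126, 3), (127, 7), (128, 9), (129, 10), (130, 9), (131, 5), (132, 10)],
  [(0, 2), (1, 2), (2, 10), (3, 9), (4, 5), (5, 10), (6, 6), (7, 6), (8, 9), (9, 6), (10, 8), (11, 6), (12, 10), (13, 8), (14, 4), (15, 9), (16, 8), (17, 7), (18, 2), (19, 10), (20, 8), (21, 6), (22, 7), (23, 9), (25, 3), (26, 6), (27, 8), (28, 1), (29, 7), (30, 3), (31, 10), (33, 3), (34, 7), (35, 2), (36, 7), (37, 3), (38, 3), (39, 10), (40, 8), (41, 1), (42, 5), (43, 10), (44, 2), (45, 6), (46, 7), (47, 6), (48, 3), (49, 10), (50, 8), (51, 5), (53, 1), (54, 9), (55, 4), (56, 2), (57, 1), (58, 5), (59, 2), (60, 5), (61, 10), (62, 8), (63, 3), (64, 1), (65, 9), (67, 10), (68, 1), (69, 3), (70, 7), (71, 3), (72, 10), (73, 10), (74, 2), (75, 4), (76, 1), (78, 9), (79, 9), (80, 1), (81, 3), (82, 4), (83, 3), (84, 3), (85, 9), (86, 1), (87, 10), (88, 2), (89, 3), (90, 7), (91, 2), (92, 2), (93, 5), (94, 3), (95, 3), (96, 6), (97, 1),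 (98, 1), (99, 4), (100, 5), (102, 3), (103, 3), (104, 7), (105, 5), (106, 5), (107, 10), (109, 6), (110, 1), (111, 6), (112, 6), (113, 6), (114, 5), (115, 4), (116, 6), (117, 6), (118, 6), (119, 8), (120, 1), (121, 6), (122, 6), (123, 6), (125, 6), (126, 1), (127, 6), (128, 3), (129, 10), (132, 6)],
  [(0, 2), (1, 1), (3, 4), (4, 10), (6, 10), (7, 1), (8, 8), (9, 3), (10, 4), (11, 8), (12, 2), (13, 10), (14, 5), (15, 4), (16, 2), (17, 6), (18, 5), (19, 7), (20, 10), (21, 7), (22, 8), (23, 2), (24, 6), (25, 5), (26, 8), (28, 5), (29, 6), (30, 2), (32, 2), (34, 8), (35, 5), (36, 10), (37, 7), (39, 7), (40, 8), (41, 5), (42, 5), (43, 7), (44, 9), (45, 3), (46, 6), (47, 1), (48, 5), (49, 4), (50, 6), (51, 1), (52, 7), (53, 2), (54, 10), (55, 10), (56, 3), (57, 4), (58, 3), (59, 7), (60, 1), (61, 7), (62, 1), (63, 9), (64, 9), (65, 4), (66, 5), (67, 2), (68, 9), (69, 5), (70, 8), (71, 7), (72, 1), (73, 6), (74, 3),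 (75, 8), (76, 9), (77, 4), (78, 2), (79, 7), (80, 8), (81, 3), (82, 4), (83, 3), (84, 3), (85, 5), (86, 3), (87, 6), (88, 6), (89, 3), (90, 7), (91, 6), (92, 7), (94, 3), (95, 10), (96, 6), (97, 10), (98, 5), (99, 6), (100, 1), (101, 9), (102, 5), (103, 10), (104, 9), (105, 5), (106, 1), (107, 10), (108, 7), (109, 9), (110, 1), (111, 9), (112, 2), (113, 6), (115, 8), (116, 2), (117, 9), (118, 6), (119, 9), (120, 4), (121, 5), (122, 5), (123, 9), (124, 5), (125, 9), (126, 8), (128, 8), (129, 4), (130, 10), (131, 8), (132, 8)],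
  [(0, 7), (1, 1), (2, 4), (3, 3), (4, 5), (5, 7), (6, 4), (7, 7), (8, 7), (9, 7), (10, 7), (11, 5), (12, 4), (13, 9), (14, 10), (15, 3), (16, 9), (17, 1), (19, 9), (20, 5), (21, 10), (22, 1), (23, 9), (24, 8), (25, 5), (26, 5), (28, 8), (30, 3), (32, 2), (33, 1), (34, 5), (35, 10), (36, 5), (37, 4), (39, 9), (40, 9), (42, 9), (43, 6), (44, 2), (45, 2), (46, 5), (47, 3), (48, 6), (49, 9), (50, 7), (51, 1), (52, 8), (54, 1), (55, 6), (56, 6), (57, 1), (58, 6), (59, 8), (61, 7), (62, 2), (63, 6), (64, 6), (65, 2), (66, 3), (67, 5), (68, 6), (69, 3), (70, 4), (72, 3), (73, 2), (74, 6), (75, 7), (76, 6), (77, 8), (78, 5), (79, 10), (80, 6), (81, 4), (82, 10), (83, 4), (85, 3), (86, 3), (87, 3), (88, 6), (89, 7), (90, 5), (91, 10), (92, 8), (93, 4), (94, 7), (96, 3), (97, 7), (98, 7), (99, 2), (100, 9), (101, 2), (102, 1), (103, 8), (104, 7), (105, 5), (106, 6), (107, 3), (109, 5), (110, 2), (111, 6), (112, 6), (113,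 6), (114, 9), (115, 1), (116, 5), (117, 4), (118, 7), (119, 6), (120, 9), (121, 4), (122, 4), (123, 2), (124, 2), (125, 4), (128, 2), (129, 1), (130, 10), (131, 8), (132, 1)]]

/-- data -/
def d7_13 : SMat := [
  [(0, 1), (1, 10), (2, 8), (3, 2), (4, 9), (5, 6), (6, 4), (7, 4), (8, 9), (9, 10), (10, 5), (11, 8), (12, 3), (13, 9), (14, 6), (15, 3), (16, 9), (17, 9), (18, 10), (19, 8), (20, 4), (21, 6), (22, 2), (23, 6), (24, 5), (25, 9), (26, 9), (27, 4), (28, 5), (29, 4), (30, 8), (31, 8), (32, 7), (33, 2), (34, 1), (35, 3), (36, 1), (37, 8), (38, 10), (39, 10), (40, 3), (41, 3), (42, 3), (43, 1), (44, 5), (45, 5), (46, 7), (47, 6), (48, 6), (50, 4), (51, 5), (52, 5), (53, 5), (54, 6), (55, 4), (56, 4), (57, 10), (58, 6), (59, 8), (60, 9), (61, 9), (62, 2), (64, 8), (65, 2), (66, 9), (67, 3), (69, 8), (70, 6), (71, 3), (72, 2), (74, 7), (75, 1), (76, 8), (77, 9), (78, 7), (79, 8), (80, 7), (81, 8), (82, 1), (83,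 6), (84, 8), (85, 6), (86, 3), (87, 7), (88, 9), (89, 8), (90, 4), (91, 1), (92, 3), (93, 4), (94, 10), (95, 8), (96, 5), (97, 1), (98, 3), (99, 10), (100, 8), (103, 5), (104, 3), (105, 10), (106, 9), (107, 2), (108, 7), (109, 5), (110, 9), (111, 5), (112, 6), (113, 1), (114, 8), (115, 7), (116, 3), (117, 5), (118, 5), (119, 7), (120, 8), (121, 3), (122, 4), (123, 2), (124, 9), (125, 5), (126, 6), (127, 2), (128, 2), (129, 9), (130, 3), (131, 7), (132, 2)],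
  [(0, 4), (1, 4), (2, 7), (3, 3), (4, 9), (5, 3), (6, 9), (7, 6), (8, 10), (9, 6), (10, 3), (11, 9), (12, 2), (13, 7), (14, 2), (15, 6), (16, 6), (17, 4), (18, 9), (19, 7), (20, 6), (21, 5), (22, 7), (23, 1), (24, 10), (25, 6), (26, 8), (27, 5), (28, 10), (30, 4), (31, 10), (32, 10), (34, 6), (35, 4), (36, 3), (37, 7), (38, 1), (39, 3), (40, 1), (41, 1), (42, 1), (43, 5), (45, 2), (46, 10), (47, 1), (48, 5), (49, 3), (50, 3), (51, 1), (52, 8), (53, 6), (54, 2), (55, 1), (56, 6), (57, 8), (58, 10), (59, 7), (60, 9), (61, 5), (62, 6), (63, 8), (65, 5), (66, 10), (68, 7), (69, 4), (70, 6), (71, 3), (72, 3), (73, 8), (74, 2), (75, 8), (77, 8), (78, 9), (79, 2), (80, 1), (81, 1), (82, 8), (83, 1), (85, 3), (86, 3), (87, 2), (88, 3), (89, 10), (90, 4), (91, 9), (92, 2), (94, 10), (96, 4), (98, 4), (99, 6), (100, 10), (102, 9), (103, 5), (104, 1), (105, 1), (106, 7), (107, 4), (108, 6), (109, 4), (110, 6), (111, 4),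 (112, 4), (113, 7), (114, 8), (115, 6), (116, 1), (117, 4), (118, 4), (119, 7), (120, 8), (121, 1), (122, 4), (123, 4), (125, 7), (127, 3), (128, 3), (130, 8), (131, 8), (132, 3)],
  [(0, 2), (1, 10), (2, 9), (4, 5), (5, 9), (6, 2), (7, 9), (8, 5), (9, 1), (10, 4), (11, 9), (12, 6), (13, 5), (14, 3), (15, 5), (16, 8), (17, 3), (18, 4), (19, 4), (20, 3), (21, 7), (23, 2), (24, 1), (25, 9), (26, 1), (27, 7), (29, 10), (30, 10), (31, 4), (32, 7), (33, 6), (34, 7), (35, 4), (36, 7), (37, 9), (39, 5), (40, 3), (41, 3), (42, 8), (43, 1), (44, 9), (45, 4), (46, 1), (47, 4), (48, 5), (49, 1), (50, 9), (52, 1), (53, 2), (54, 1), (55, 5), (56, 8), (57, 10), (58, 1), (59, 6), (61, 1), (62, 4), (63, 5), (65, 6), (66, 2), (69, 6), (70, 1), (71, 7), (72, 10), (73, 9), (74, 8), (75, 10), (76, 1), (77, 9), (78, 6), (79, 6), (80, 7), (81, 5), (82, 5), (83, 5), (84, 8), (85, 2), (86, 4), (87, 4), (88, 9), (89, 1), (90, 2), (91,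 9), (92, 4), (93, 5), (94, 9), (95, 2), (96, 8), (97, 2), (99, 4), (100, 8), (101, 4), (102, 4), (103, 3), (104, 4), (105, 10), (106, 4), (107, 2), (109, 1), (110, 6), (111, 4), (112, 7), (113, 7), (114, 6), (115, 3), (116, 1), (117, 9), (118, 7), (119, 6), (120, 3), (121, 1), (122, 1), (123, 9), (125, 7), (126, 3), (127, 5), (128, 6), (129, 8), (130, 8), (131, 5)],
  [(0, 5), (1, 2), (2, 3), (3, 2), (4, 2), (5, 7), (6, 6), (7, 2), (8, 2), (9, 4), (10, 2), (11, 2), (13, 4), (14, 7), (15, 1), (16, 4), (17, 6), (18, 5), (19, 9), (20, 7), (22, 6), (23, 5), (24, 3), (25, 8), (26, 4), (27, 2), (28, 3), (29, 2), (30, 6), (31, 1), (32, 4), (33, 3), (34, 1), (35, 5), (36, 7), (37, 7), (38, 5), (39, 9), (40, 5), (41, 7), (42, 9), (43, 8), (44, 6), (45, 7), (46, 6), (47, 3), (48, 4), (50, 7), (51, 10), (52, 8), (53, 5), (54, 10), (55, 10), (56, 8), (57, 6), (58, 2), (59, 6), (60, 10), (61, 5), (62, 7), (63, 6), (64, 3),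 (65, 1), (67, 8), (68, 3), (69, 8), (70, 7), (71, 2), (72, 1), (73, 2), (74, 8), (76, 7), (77, 1), (81, 9), (82, 10), (83, 10), (86, 9), (88, 10), (89, 9), (91, 1), (92, 9), (93, 9), (94, 9), (95, 7), (96, 2), (98, 10), (99, 1), (100, 3), (101, 2), (102, 9), (103, 10), (104, 3), (105, 3), (106, 8), (107, 4), (108, 3), (109, 8), (110, 5), (112, 2), (113, 6), (114, 6), (115, 6), (116, 6), (117, 8), (118, 6), (119, 2), (120, 3), (121, 8), (122, 2), (124, 6), (126, 6), (127, 2), (130, 5), (131, 3)],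
  [(0, 1), (1, 4), (2, 3), (3, 10), (4, 10), (6, 3), (7, 6), (8, 10), (9, 6), (10, 4), (11, 6), (12, 1), (13, 6), (15, 3), (16, 3), (17, 6), (18, 2), (19, 8), (20, 4), (21, 2), (22, 7), (23, 3), (24, 4), (25, 1), (26, 10), (27, 7), (28, 4), (29, 10), (30, 1), (31, 10), (32, 7), (33, 5), (34, 3), (35, 1), (36, 3), (37, 1), (38, 4), (39, 4), (40, 3), (41, 1), (42, 1), (43, 7), (44, 8), (45, 9), (46, 9), (47, 5), (48, 9), (49, 4), (50, 6), (51, 9), (52, 4), (53, 7), (54, 3), (55, 2), (56, 6), (57, 4), (58, 6), (59, 8), (60, 8), (61, 8), (62, 10), (63, 9), (64, 5), (65, 7), (66, 9), (67, 6), (68, 4), (69, 1), (70, 6), (71, 10), (72, 5), (73, 4), (74, 5), (75, 10), (76, 5), (78, 4), (79, 8), (80, 10), (81, 8), (82, 9), (83, 1), (84, 8), (85, 1), (86, 9), (87, 10), (88, 10), (89, 8), (90, 5), (91, 9), (92, 9), (93, 7), (94, 4), (95, 8), (96, 3), (97, 9), (98, 9), (99, 9), (100, 2), (103, 5), (104, 1), (105, 4), (106,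 1), (107, 10), (108, 5), (109, 4), (110, 1), (111, 4), (112, 7), (113, 7), (114, 2), (115, 3), (116, 9), (117, 4), (118, 4), (119, 10), (120, 2), (121, 9), (122, 1), (123, 10), (124, 9), (125, 4), (127, 6), (128, 6), (129, 9), (130, 5), (131, 3), (132, 6)],
  [(1, 9), (3, 10), (4, 6), (6, 6), (7, 9), (8, 10), (9, 5), (10, 3), (11, 6), (12, 4), (13, 2), (14, 1), (15, 3), (16, 7), (17, 10), (18, 1), (19, 8), (20, 2), (21, 1), (22, 6), (23, 7), (24, 7), (25, 5), (26, 10), (28, 1), (29, 6), (30, 7), (31, 4), (32, 3), (33, 8), (34, 2), (35, 1), (36, 6), (37, 5), (39, 8), (40, 10), (41, 1), (42, 1), (43, 8), (44, 4), (45, 9), (46, 10), (47, 9), (48, 1), (49, 7), (50, 3), (51, 9), (52, 4), (53, 7), (54, 2), (55, 6), (56, 9), (57, 3), (58, 9), (59, 8), (60, 9), (61, 6), (62, 9), (63, 8), (64, 4), (65, 3), (66, 1), (67, 7), (68, 4), (69, 1), (70, 6), (71, 1), (72, 5), (73, 7), (74, 9), (75, 3), (76, 8), (77, 2), (78, 3),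 (79, 5), (80, 1), (81, 10), (82, 6), (83, 10), (84, 10), (85, 6), (86, 10), (87, 9), (88, 9), (89, 10), (90, 5), (91, 9), (92, 1), (94, 10), (95, 8), (96, 9), (97, 4), (98, 2), (99, 9), (100, 7), (101, 8), (102, 2), (103, 4), (104, 8), (105, 5), (106, 10), (107, 1), (108, 7), (109, 8), (110, 10), (111, 8), (112, 3), (113, 6), (114, 8), (115, 9), (117, 8), (118, 6), (120, 1), (121, 2), (122, 2), (123, 8), (124, 10), (125, 8), (126, 9), (127, 1), (128, 1), (129, 6), (130, 7), (131, 9), (132, 1)],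
  [(0, 9), (1, 2), (2, 5), (3, 1), (4, 9), (5, 9), (6, 2), (7, 6), (8, 6), (9, 6), (10, 3), (11, 1), (12, 5), (13, 3), (14, 7), (15, 1), (16, 3), (17, 4), (19, 3), (20, 9), (21, 7), (22, 6), (23, 6), (24, 3), (25, 9), (26, 9), (28, 7), (29, 8), (30, 5), (31, 3), (32, 5), (33, 1), (34, 9), (35, 7), (36, 1), (37, 5), (40, 7), (43, 2), (44, 5), (46, 6), (47, 4), (48, 2), (49, 6), (50, 3), (51, 4), (52, 10), (53, 7), (54, 4), (55, 5), (56, 2), (57, 8), (58, 2), (59, 3), (61, 6), (63, 10), (64, 10), (65, 5), (66, 9), (67, 1), (68, 10), (69, 5), (70, 2), (72, 1), (73, 8), (74, 2), (75, 3), (76, 10), (77, 10), (78, 8), (79, 2), (80, 3), (81, 10), (82, 3), (83, 10), (85, 1), (86, 1), (87, 1), (89, 1), (90, 7), (91, 3), (92, 9), (93, 10), (94, 1), (96, 1), (97, 1), (99, 5), (100, 5), (101, 4), (102, 9), (103, 9), (104, 1), (105, 5), (106, 4), (107, 9), (109, 7), (110, 1), (111, 4), (112, 4), (113, 4), (114, 6), (115, 8),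 (116, 7), (117, 10), (118, 1), (119, 4), (120, 6), (121, 10), (122, 10), (123, 1), (124, 5), (125, 10), (128, 5), (129, 8), (130, 3), (131, 5), (132, 8)],
  [(0, 7), (1, 10), (2, 4), (3, 10), (4, 6), (5, 2), (6, 2), (7, 5), (9, 8), (10, 3), (11, 7), (12, 7), (13, 2), (14, 5), (15, 5), (16, 4), (17, 5), (18, 6), (19, 9), (20, 7), (21, 8), (22, 10), (23, 7), (24, 8), (25, 1), (26, 8), (28, 5), (29, 8), (30, 10), (31, 8), (32, 8), (33, 7), (34, 9), (35, 5), (36, 5), (37, 1), (38, 1), (39, 10), (40, 2), (41, 10), (42, 1), (43, 10), (44, 4), (45, 1), (46, 7), (47, 2), (48, 1), (49, 6), (50, 1), (51, 1), (52, 1), (53, 8), (55, 4), (56, 2), (57, 1), (58, 3), (60, 1), (61, 10), (62, 1), (63, 5), (65, 2), (66, 9), (68, 2), (69, 10), (70, 10), (71, 4), (72, 9), (73, 3), (74, 3), (75, 9), (77, 4), (78, 5), (79, 8), (80, 1), (81, 6), (82, 3), (83, 5), (84, 5), (85, 8), (86, 3), (87, 2), (88, 7), (89, 4), (90, 7), (91, 10),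 (92, 1), (93, 5), (94, 5), (95, 5), (96, 2), (97, 5), (98, 2), (99, 7), (102, 9), (103, 1), (104, 10), (105, 8), (106, 2), (107, 9), (108, 8), (109, 6), (110, 2), (111, 10), (112, 1), (113, 3), (114, 1), (115, 10), (116, 8), (117, 10), (118, 3), (120, 2), (121, 9), (122, 1), (123, 4), (124, 10), (125, 1), (126, 7), (127, 2), (128, 1), (129, 9), (130, 6), (131, 10), (132, 6)]]

/-- data -/
def d7_14 : SMat := [
  [(1, 6), (2, 10), (4, 5), (5, 2), (6, 2), (7, 8), (8, 10), (9, 10), (10, 6), (11, 6), (12, 10), (13, 5), (15, 3), (16, 2), (17, 8), (18, 1), (19, 6), (20, 5), (21, 4), (22, 9), (23, 5), (24, 5), (25, 1), (26, 8), (27, 8), (28, 9), (29, 8), (30, 2), (31, 10), (33, 6), (34, 6), (35, 3), (36, 6), (38, 3), (39, 6), (40, 10), (41, 1), (43, 3), (44, 5), (45, 10), (46, 7), (47, 9), (48, 2), (49, 8), (50, 8), (51, 6), (52, 1), (53, 4), (54, 7), (55, 4), (56, 8), (57, 6), (58, 7), (59, 6), (60, 6), (61, 3), (63,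 10), (64, 7), (65, 6), (66, 10), (67, 5), (68, 5), (69, 3), (71, 3), (72, 7), (73, 2), (74, 7), (75, 6), (76, 5), (77, 1), (78, 7), (79, 3), (80, 7), (81, 3), (82, 9), (83, 1), (84, 8), (85, 8), (86, 5), (88, 4), (89, 6), (90, 7), (91, 7), (92, 3), (93, 6), (95, 10), (96, 8), (97, 5), (98, 6), (100, 9), (101, 5), (102, 5), (103, 1), (104, 4), (105, 10), (106, 4), (107, 7), (108, 5), (109, 1), (110, 4), (111, 10), (112, 9), (113, 4), (114, 7), (115, 5), (116, 9), (117, 6), (118, 10), (119, 7), (120, 10), (122, 3), (123, 6), (124, 1), (125, 9), (126, 8), (127, 3), (128, 1), (129, 6), (130, 3), (131, 2), (132, 6)],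
  [(0, 6), (1, 5), (2, 5), (3, 5), (4, 8), (5, 6), (6, 2), (7, 9), (8, 5), (9, 5), (10, 6), (11, 6), (12, 6), (13, 6), (14, 7), (15, 8), (16, 7), (17, 4), (19, 7), (20, 1), (21, 6), (22, 5), (23, 8), (24, 1), (25, 8), (26, 6), (27, 7), (28, 6), (29, 10), (30, 5), (31, 1), (33, 3), (34, 5), (36, 2), (37, 2), (39, 3), (40, 4), (41, 7), (42, 6), (43, 3), (44, 3), (45, 9), (46, 9), (47, 5), (48, 2), (49, 4), (50, 6), (51, 8), (52, 2), (53, 7), (54, 6), (55, 3), (56, 10), (57, 8), (58, 10), (59, 6), (60, 4), (61, 7), (62, 9), (63, 3), (64, 9), (65, 7), (66, 1), (67, 2), (68, 9), (69, 5), (71, 7), (73, 5), (74, 10), (75, 2), (76, 9), (79, 3), (80, 1), (81, 10), (82, 9), (83, 1), (84, 9), (86, 3), (87, 1), (88, 3), (89, 10), (90, 5), (91, 5), (92, 2), (94, 10), (95, 10), (96, 3), (97, 10), (98, 2), (99, 6), (100, 10), (102, 10), (103, 1), (104, 10), (105, 6), (106, 9), (107, 10), (108, 6), (109, 7), (110, 1), (111, 1),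 (112, 1), (113, 5), (114, 7), (116, 2), (117, 2), (118, 8), (119, 1), (120, 1), (121, 2), (122, 2), (123, 7), (124, 5), (125, 7), (126, 6), (127, 7), (128, 10), (129, 5), (131, 6), (132, 5)],
  [(0, 4), (1, 7), (2, 6), (3, 2), (4, 1), (5, 9), (6, 4), (7, 2), (8, 6), (11, 7), (12, 1), (13, 10), (14, 8), (15, 2), (16, 9), (19, 1), (20, 5), (21, 8), (22, 4), (23, 5), (24, 3), (25, 9), (26, 10), (27, 5), (28, 8), (29, 5), (30, 10), (31, 2), (32, 9), (33, 1), (34, 4), (37, 9), (38, 4), (39, 2), (40, 1), (41, 4), (42, 4), (43, 9), (44, 6), (45, 7), (46, 7), (47, 3), (48, 1), (49, 9), (50, 2), (51, 3), (52, 7), (53, 5), (54, 4), (55, 4), (56, 2), (57, 1), (58, 6), (59, 5), (60, 2), (61, 9), (62, 6), (63, 2), (65, 2), (66, 9), (69, 10), (70, 8), (71, 4), (72, 5), (73, 8), (74, 2), (75, 1), (77, 7), (78, 4), (79, 3), (80, 8), (81, 7), (82, 4), (83, 6), (84, 6), (85, 8), (86, 3), (87, 2), (88, 9), (89, 5), (90, 8), (91,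 3), (92, 3), (93, 7), (94, 6), (95, 6), (96, 2), (97, 5), (98, 3), (99, 7), (100, 2), (101, 10), (102, 10), (103, 2), (104, 10), (105, 8), (106, 6), (107, 3), (108, 3), (109, 3), (110, 6), (111, 8), (113, 8), (114, 3), (115, 8), (116, 6), (117, 9), (119, 5), (120, 6), (121, 6), (122, 1), (123, 3), (124, 2), (125, 3), (126, 8), (127, 5), (128, 5), (129, 10), (130, 6), (131, 8), (132, 10)],
  [(0, 4), (1, 4), (2, 10), (3, 9), (6, 3), (7, 4), (8, 7), (9, 10), (10, 8), (11, 4), (13, 5), (15, 4), (16, 2), (17, 6), (18, 5), (19, 8), (20, 7), (21, 10), (22, 8), (23, 4), (24, 4), (25, 1), (26, 7), (27, 7), (28, 1), (29, 7), (30, 1), (31, 10), (32, 7), (33, 6), (34, 3), (35, 1), (36, 2), (37, 1), (38, 4), (39, 4), (40, 3), (41, 9), (42, 1), (43, 7), (44, 6), (45, 8), (46, 9), (47, 4), (48, 10), (49, 7), (50, 6), (51, 8), (52, 4), (53, 6), (54, 3), (55, 2), (56, 6), (57, 4), (58, 10), (59, 7), (60, 8), (61, 7), (62, 9),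 (63, 9), (64, 6), (65, 4), (66, 9), (67, 5), (68, 5), (69, 1), (70, 7), (71, 3), (72, 6), (73, 4), (74, 5), (75, 4), (76, 6), (77, 8), (80, 3), (82, 10), (83, 7), (84, 7), (86, 7), (87, 8), (88, 7), (89, 3), (90, 4), (92, 7), (94, 7), (95, 7), (96, 8), (97, 3), (99, 7), (100, 4), (101, 7), (102, 7), (103, 3), (104, 8), (105, 3), (106, 9), (108, 8), (109, 8), (110, 2), (112, 8), (114, 8), (115, 2), (116, 8), (117, 5), (118, 3), (120, 8), (121, 5), (122, 8), (123, 8), (124, 8), (126, 8), (128, 6), (129, 5), (131, 8), (132, 3)],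
  [(0, 10), (1, 5), (2, 2), (3, 2), (4, 5), (5, 10), (6, 9), (7, 5), (8, 5), (9, 5), (10, 9), (11, 2), (12, 6), (13, 3), (14, 7), (15, 1), (16, 8), (17, 8), (20, 5), (21, 10), (22, 9), (23, 8), (24, 6), (25, 2), (26, 2), (28, 3), (29, 3), (30, 8), (31, 3), (32, 4), (34, 1), (35, 4), (36, 2), (37, 9), (38, 7), (39, 10), (41, 3), (42, 3), (43, 10), (44, 3), (45, 1), (46, 6), (47, 5), (48, 5), (49, 4), (50, 6), (51, 5), (52, 6), (53, 7), (54, 6), (55, 10), (56, 10), (57, 8), (58, 10), (59, 10), (60, 4), (62, 1), (63, 6), (64, 2), (65, 7), (66, 5), (67, 9), (68, 2), (69, 1), (70, 8), (71, 7), (72, 4), (73, 9), (74, 10), (75, 10), (76, 1), (77, 5), (78, 9), (79, 6), (80, 6), (81, 3), (82, 1), (83, 7), (84, 4), (85, 5), (86, 8), (87, 9), (88, 5), (89, 4), (90, 10), (91, 6), (92, 9), (93, 3), (94, 3), (95, 10), (96, 3), (97, 3), (98, 9), (99, 10), (100, 1), (101, 1), (102, 1), (103, 10), (104, 1), (105, 9), (106, 6),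 (107, 10), (108, 5), (109, 8), (110, 6), (113, 2), (114, 10), (115, 5), (116, 4), (117, 5), (118, 5), (119, 6), (120, 2), (121, 5), (122, 10), (123, 8), (124, 5), (125, 8), (126, 2), (127, 1), (128, 1), (130, 6), (131, 5), (132, 3)],
  [(0, 3), (1, 4), (2, 2), (4, 7), (5, 6), (6, 2), (7, 3), (8, 5), (9, 10), (10, 8), (11, 5), (12, 10), (13, 4), (14, 6), (15, 9), (16, 8), (17, 7), (18, 6), (20, 5), (21, 9), (22, 9), (23, 10), (24, 10), (25, 4), (26, 8), (27, 3), (28, 2), (29, 9), (30, 5), (31, 10), (32, 2), (33, 9), (34, 7), (35, 3), (36, 3), (37, 5), (38, 8), (40, 7), (41, 6), (42, 6), (43, 1), (44, 1), (45, 7), (46, 5), (47, 6), (48, 4), (49, 5), (50, 6), (51, 2), (52, 6), (53, 10), (54, 6), (55, 6), (56, 1), (58, 2), (59, 8), (60, 2), (62, 7), (63, 7), (65, 7), (68, 2), (69, 5), (70, 9), (71, 4), (72, 10), (74, 2), (75, 6), (77, 4), (78, 5), (79, 7), (80, 1), (81, 5), (83, 6), (84, 5), (85, 8), (86, 1), (87,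 2), (88, 7), (89, 5), (90, 7), (91, 4), (92, 1), (93, 6), (94, 4), (95, 5), (96, 2), (97, 4), (98, 3), (99, 8), (101, 1), (102, 10), (103, 1), (105, 7), (106, 1), (107, 10), (108, 2), (109, 2), (110, 1), (112, 6), (113, 1), (115, 7), (116, 9), (117, 1), (118, 4), (119, 10), (120, 1), (121, 2), (122, 10), (123, 8), (124, 10), (125, 5), (126, 1), (127, 8), (128, 1), (129, 6), (130, 9), (131, 7), (132, 4)],
  [(0, 5), (2, 3), (3, 8), (4, 1), (5, 9), (6, 10), (7, 6), (8, 6), (9, 6), (10, 5), (11, 2), (12, 5), (13, 2), (14, 1), (15, 6), (16, 10), (17, 6), (18, 6), (19, 10), (20, 4), (21, 10), (22, 4), (23, 8), (24, 10), (25, 9), (26, 6), (27, 7), (28, 5), (29, 2), (30, 8), (31, 3), (32, 4), (34, 6), (35, 2), (36, 7), (37, 10), (39, 5), (40, 7), (41, 9), (42, 2), (43, 5), (44, 3), (46, 4), (47, 8), (48, 9), (49, 2), (50, 9), (51, 1), (52, 9), (55, 7), (56, 5), (57, 6), (58, 5), (59, 5), (60, 10), (61, 5), (62, 4), (63,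 10), (64, 7), (65, 8), (66, 8), (67, 4), (68, 3), (69, 2), (70, 4), (72, 8), (73, 3), (74, 1), (75, 5), (76, 7), (78, 10), (79, 4), (80, 8), (81, 3), (82, 10), (83, 4), (84, 7), (85, 9), (86, 7), (87, 5), (89, 9), (90, 1), (91, 7), (92, 10), (93, 6), (94, 6), (95, 4), (96, 3), (97, 7), (98, 5), (99, 7), (100, 1), (101, 1), (102, 6), (103, 7), (104, 9), (105, 5), (107, 8), (108, 4), (109, 7), (110, 6), (111, 7), (112, 7), (113, 8), (114, 8), (115, 4), (116, 1), (117, 7), (118, 3), (119, 3), (120, 10), (122, 7), (123, 5), (124, 1), (125, 9), (126, 10), (127, 6), (128, 7), (130, 5), (131, 4), (132, 2)],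
  [(1, 8), (2, 2), (3, 6), (4, 8), (5, 6), (6, 6), (7, 3), (8, 1), (9, 1), (10, 6), (11, 9), (12, 10), (13, 1), (14, 3), (15, 10), (16, 4), (17, 4), (18, 8), (19, 1), (20, 1), (21, 8), (22, 10), (23, 9), (24, 10), (25, 1), (26, 7), (27, 6), (28, 3), (29, 6), (30, 8), (31, 9), (32, 1), (33, 10), (34, 10), (35, 7), (36, 10), (37, 2), (39, 10), (40, 8), (41, 3), (42, 7), (43, 8), (44, 2), (45, 3), (46, 6), (47, 2), (48, 1), (50, 3), (51, 3), (52, 9), (53, 9), (54, 3), (55, 9), (56, 6), (57, 5), (58, 5), (59, 2), (60, 1), (61, 8), (62, 3), (63, 3), (66, 7), (69, 8), (70, 10), (71, 9), (72, 9), (73, 4), (74, 6), (76, 4), (77, 8), (78, 7), (79, 3), (80, 10), (81, 4), (82, 2), (83, 7), (84, 7), (86, 3), (87, 4), (89, 10), (90, 1), (91, 3), (92, 4), (93, 3), (94, 7), (95, 7), (96, 5), (97, 4), (98, 4), (99, 10), (100, 1), (101, 3), (102, 3), (103, 10), (104, 1), (105, 4), (106, 6), (107, 9), (108, 7), (109, 4), (111,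 9), (112, 9), (113, 9), (114, 9), (115, 3), (116, 9), (117, 2), (118, 9), (120, 2), (121, 4), (122, 10), (124, 8), (125, 6), (126, 3), (128, 7), (129, 10), (130, 8), (131, 5), (132, 5)]]

/-- data -/
def d7_15 : SMat := [
  [(0, 10), (1, 3), (2, 4), (3, 3), (4, 9), (5, 4), (6, 8), (7, 10), (8, 4), (9, 9), (10, 1), (13, 2), (14, 2), (15, 6), (16, 3), (20, 7), (21, 5), (24, 8), (25, 1), (26, 10), (27, 5), (28, 2), (29, 5), (31, 1), (32, 3), (33, 6), (34, 9), (35, 10), (36, 4), (37, 2), (40, 9), (41, 6), (42, 4), (43, 3), (45, 1), (46, 1), (48, 10), (49, 2), (50, 10), (51, 9), (52, 7), (54, 7), (55, 10), (56, 8), (57, 9), (58, 4), (59, 9), (61, 3), (62, 10), (63, 3), (64, 9), (65, 9), (66, 9), (67, 3), (68, 9), (69, 1), (71, 6), (72, 1), (74, 8), (75, 8), (76, 7), (77, 2), (78, 3), (79, 8), (80, 2), (81, 7), (82, 3), (83, 9), (84, 5), (85, 9), (86, 6), (87, 2), (89, 7), (90, 7), (91, 2), (92, 5), (93, 9), (94, 8),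 (95, 7), (97, 7), (98, 5), (99, 5), (100, 7), (101, 9), (102, 9), (103, 3), (104, 8), (105, 6), (106, 6), (107, 3), (109, 8), (111, 5), (112, 8), (115, 6), (116, 5), (118, 2), (119, 8), (120, 2), (121, 8), (122, 8), (123, 8), (124, 5), (125, 8), (126, 8), (127, 6), (128, 3), (129, 5), (130, 3), (132, 8)],
  [(0, 3), (1, 9), (2, 5), (3, 9), (4, 1), (5, 2), (6, 5), (7, 4), (8, 4), (9, 3), (10, 6), (11, 10), (12, 10), (13, 9), (14, 5), (15, 1), (16, 2), (17, 5), (18, 6), (19, 8), (20, 8), (22, 7), (24, 2), (25, 5), (26, 3), (27, 10), (28, 4), (29, 8), (30, 7), (31, 7), (32, 9), (33, 5), (34, 4), (35, 7), (36, 4), (37, 4), (38, 7), (39, 9), (40, 4), (41, 5), (43, 8), (45, 7), (46, 1), (47, 10), (49, 4), (50, 4), (51, 9), (52, 2), (54, 2), (55, 3), (56, 8), (57, 7), (58, 5), (59, 9), (60, 10), (61, 4), (62, 7), (63, 10), (64, 6), (65, 5), (66, 4), (67, 5), (68, 6), (69, 1), (70, 1), (72, 3), (73, 7), (74, 8), (75,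 9), (76, 10), (77, 1), (78, 9), (80, 5), (81, 5), (82, 4), (83, 6), (84, 9), (85, 7), (86, 1), (87, 2), (88, 7), (90, 7), (91, 1), (92, 4), (93, 5), (94, 8), (95, 6), (96, 2), (97, 5), (98, 1), (99, 2), (100, 1), (101, 1), (102, 6), (103, 5), (105, 9), (106, 6), (107, 2), (108, 8), (109, 3), (110, 1), (111, 5), (112, 3), (113, 7), (114, 5), (115, 10), (116, 2), (117, 1), (118, 7), (119, 4), (120, 8), (121, 9), (122, 3), (123, 3), (124, 4), (125, 8), (126, 10), (127, 10), (128, 3), (129, 6), (130, 7), (131, 8), (132, 5)],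
  [(1, 4), (2, 9), (3, 4), (4, 6), (5, 1), (6, 2), (7, 8), (8, 2), (9, 1), (10, 10), (11, 8), (12, 9), (13, 3), (14, 3), (15, 1), (16, 10), (17, 8), (18, 2), (19, 2), (20, 4), (22, 5), (23, 9), (24, 7), (25, 3), (26, 2), (27, 1), (28, 3), (30, 4), (31, 9), (32, 9), (33, 9), (35, 2), (36, 1), (37, 2), (38, 10), (39, 4), (40, 3), (41, 10), (43, 3), (44, 2), (45, 7), (47, 4), (48, 1), (49, 1), (50, 6), (51, 3), (52, 6), (53, 10), (54, 9), (56, 10), (57, 8), (58, 9), (59, 3), (60, 4), (61, 2), (62, 8), (63, 1), (64, 1), (65, 9), (66, 3), (68, 10), (69, 5), (70, 7), (71, 9), (72, 3), (73, 4), (74, 9), (75, 7), (76, 10), (77, 1), (78, 5), (79, 8), (80, 1), (81, 6), (82, 2), (83, 8), (84, 3), (85, 10), (86, 4), (87, 1), (89, 4), (90, 2), (91, 2), (92, 4), (93, 7), (94, 5), (95, 5), (96, 4), (97, 5), (98, 4), (99, 4), (100, 8), (101, 10), (102, 10), (103, 2), (104, 9), (106, 3), (108, 10), (111, 6), (114, 2), (115, 8),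 (116, 6), (117, 8), (118, 9), (119, 3), (120, 5), (121, 2), (122, 10), (123, 2), (124, 6), (125, 5), (126, 8), (127, 8), (129, 8), (130, 6), (131, 5), (132, 3)],
  [(0, 7), (1, 1), (2, 7), (3, 3), (4, 7), (5, 8), (6, 1), (8, 10), (9, 8), (10, 9), (11, 2), (13, 1), (14, 9), (15, 2), (17, 10), (19, 3), (20, 3), (22, 9), (24, 1), (25, 2), (26, 8), (27, 7), (28, 9), (29, 8), (30, 9), (31, 9), (32, 3), (33, 3), (35, 9), (36, 2), (37, 9), (38, 3), (39, 2), (40, 8), (41, 5), (42, 5), (43, 3), (45, 7), (46, 9), (48, 2), (49, 6), (50, 2), (51, 3), (52, 7), (53, 4), (55, 8), (56, 10), (57, 9), (58, 5), (59, 2), (60, 3), (61, 2), (62, 7), (63, 4), (64, 3), (65, 1), (66, 2), (67, 8), (68, 10), (69, 7), (70, 7), (71, 8), (72, 3), (73, 1), (74, 6), (75, 2), (76, 10), (77, 7), (78, 7), (79, 3), (80, 3), (81, 2), (82, 1), (83, 1), (85, 3), (86, 4), (87, 3), (88, 5), (89, 2), (92, 1), (93, 1), (94, 2), (95, 4), (96, 2), (97, 1),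 (98, 3), (99, 10), (100, 9), (101, 2), (102, 9), (103, 4), (104, 10), (105, 5), (106, 7), (107, 1), (108, 8), (109, 10), (110, 2), (111, 7), (112, 7), (113, 1), (114, 8), (115, 5), (116, 1), (117, 2), (118, 9), (119, 10), (120, 6), (121, 10), (122, 2), (123, 5), (124, 10), (125, 10), (126, 5), (127, 6), (128, 8), (129, 8), (130, 6), (132, 3)],
  [(0, 9), (1, 2), (2, 7), (3, 7), (4, 1), (6, 4), (7, 3), (8, 10), (9, 1), (10, 10), (11, 6), (12, 5), (13, 5), (14, 8), (15, 3), (16, 4), (17, 2), (18, 10), (20, 10), (22, 10), (23, 9), (24, 6), (25, 5), (27, 2), (28, 2), (29, 8), (30, 4), (31, 9), (32, 3), (33, 10), (34, 9), (35, 9), (36, 8), (37, 3), (39, 4), (40, 4), (41, 2), (42, 9), (43, 4), (44, 3), (45, 4), (46, 4), (47, 10), (48, 3), (49, 6), (50, 8), (51, 4), (52, 1), (53, 10), (54, 9), (55, 7), (57, 10), (59, 2), (60, 4), (62, 3), (63, 4), (64, 8), (65, 5), (66, 10), (67, 3), (68, 8), (69, 4), (70, 3), (71, 1),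 (72, 5), (73, 6), (75, 1), (76, 8), (77, 5), (78, 10), (79, 6), (81, 5), (82, 4), (83, 6), (84, 5), (85, 2), (88, 6), (89, 5), (90, 7), (91, 5), (92, 1), (93, 5), (94, 4), (95, 5), (96, 8), (97, 5), (98, 1), (99, 10), (100, 4), (105, 10), (106, 10), (107, 1), (108, 6), (109, 3), (110, 6), (111, 6), (112, 6), (113, 6), (114, 1), (115, 1), (116, 6), (119, 5), (121, 6), (122, 6), (123, 1), (125, 3), (126, 6), (127, 5), (128, 5), (129, 6), (130, 8), (131, 6), (132, 5)],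
  [(0, 6), (2, 8), (3, 5), (4, 1), (5, 3), (6, 10), (7, 3), (9, 1), (10, 10), (11, 6), (13, 5), (14, 10), (15, 7), (16, 3), (17, 10), (18, 2), (20, 7), (21, 8), (22, 7), (23, 5), (24, 7), (25, 7), (26, 8), (27, 1), (28, 10), (29, 4), (30, 1), (31, 5), (33, 2), (34, 5), (35, 1), (36, 1), (39, 1), (40, 4), (41, 7), (42, 6), (43, 1), (44, 6), (45, 9), (46, 2), (47, 2), (48, 6), (50, 9), (51, 10), (52, 7), (53, 1), (55, 2), (56, 9), (57, 10), (58, 9), (59, 3), (60, 10), (62, 9), (63, 6), (64, 2), (65, 7), (66, 6), (67, 9), (68, 6), (69, 6), (70, 7), (71, 8), (72, 2), (73, 4), (74, 2), (75, 1), (76, 6), (77, 9), (78, 6), (79, 3), (80, 8), (81, 4), (82, 8), (83, 5), (84, 5), (85, 2), (86, 4), (87, 8), (88, 1), (89, 4), (90, 6), (91, 9), (92, 6), (94, 1), (95, 2), (96, 2), (97, 2), (98, 7), (99, 4), (100, 5), (101, 1), (102, 10), (103, 10), (104, 5), (105, 9), (106, 3), (107, 10), (108, 5), (109, 6), (110, 4), (111,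 8), (112, 8), (113, 8), (114, 5), (115, 7), (116, 7), (117, 4), (118, 10), (119, 1), (120, 5), (122, 4), (124, 9), (125, 1), (126, 7), (127, 4), (128, 8), (129, 2), (130, 9), (131, 5), (132, 8)],
  [(0, 5), (1, 5), (2, 3), (3, 2), (4, 10), (5, 5), (6, 2), (8, 7), (9, 7), (10, 3), (11, 1), (12, 4), (13, 9), (14, 8), (15, 8), (16, 5), (17, 3), (18, 9), (19, 4), (20, 10), (21, 6), (22, 8), (23, 3), (25, 1), (26, 7), (28, 1), (29, 2), (30, 5), (32, 10), (33, 5), (34, 2), (35, 5), (36, 10), (37, 2), (38, 3), (39, 3), (40, 4), (41, 1), (42, 7), (43, 3), (44, 8), (45, 6), (46, 1), (47, 2), (48, 1), (49, 4), (50, 6), (51, 5), (53, 5), (54, 6), (55, 10), (56, 10), (57, 8), (58, 10), (59, 3), (60, 4), (61, 4), (62, 6), (63, 4), (64, 1), (65, 10), (66, 4), (67, 10), (68, 1), (69, 5), (70, 3), (71, 7), (72, 5), (73, 5), (74, 10), (75, 3), (76, 1), (77, 3), (78, 9), (79, 4), (81, 5), (82, 7), (83, 5), (84, 2), (85, 7), (86,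 6), (87, 6), (88, 10), (89, 10), (90, 7), (91, 7), (92, 6), (93, 5), (94, 10), (95, 2), (96, 6), (97, 10), (98, 9), (100, 5), (101, 8), (102, 8), (103, 6), (104, 8), (105, 9), (106, 1), (107, 6), (109, 10), (110, 8), (111, 2), (112, 8), (113, 8), (114, 2), (115, 9), (116, 10), (117, 10), (118, 2), (119, 8), (120, 4), (121, 1), (122, 1), (123, 8), (124, 1), (125, 5), (127, 4), (129, 2), (130, 2), (131, 5), (132, 9)],
  [(0, 2), (1, 4), (2, 4), (3, 1), (4, 1), (5, 5), (6, 7), (7, 9), (8, 7), (9, 9), (10, 1), (11, 10), (12, 3), (13, 2), (14, 5), (15, 3), (17, 7), (18, 3), (19, 6), (20, 3), (21, 10), (22, 4), (23, 9), (24, 10), (25, 1), (26, 7), (28, 5), (29, 1), (31, 2), (32, 3), (34, 6), (35, 3), (36, 7), (37, 7), (38, 2), (39, 4), (41, 2), (42, 7), (43, 5), (44, 2), (45, 9), (46, 1), (47, 1), (48, 1), (50, 2), (51, 3), (52, 9), (54, 9), (55, 5), (57, 6), (58, 10), (59, 2), (60, 3), (61, 3), (62, 9), (63, 10), (64,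 7), (65, 7), (66, 1), (67, 4), (68, 6), (69, 10), (70, 3), (71, 8), (72, 3), (73, 7), (74, 10), (75, 5), (76, 6), (77, 4), (78, 4), (79, 8), (80, 8), (81, 9), (82, 10), (83, 10), (85, 8), (86, 3), (87, 8), (88, 6), (89, 9), (91, 4), (92, 6), (93, 6), (94, 5), (95, 7), (96, 2), (97, 6), (98, 8), (99, 5), (100, 6), (101, 2), (102, 9), (103, 7), (104, 5), (105, 3), (107, 2), (108, 1), (109, 8), (110, 7), (111, 10), (112, 10), (113, 2), (115, 3), (116, 1), (117, 6), (118, 4), (119, 9), (120, 3), (121, 7), (122, 6), (124, 7), (125, 8), (126, 2), (127, 9), (128, 3), (129, 2), (130, 8), (131, 10), (132, 7)]]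

/-- data -/
def d7_16 : SMat := [
  [(0, 3), (2, 6), (4, 6), (5, 4), (6, 8), (7, 8), (8, 4), (9, 5), (10, 7), (11, 2), (12, 2), (13, 9), (14, 10), (15, 7), (16, 6), (17, 6), (18, 5), (19, 1), (20, 2), (21, 7), (22, 3), (23, 2), (24, 2), (26, 3), (27, 1), (28, 9), (29, 1), (30, 3), (31, 10), (32, 9), (33, 5), (34, 3), (35, 5), (36, 6), (37, 9), (39, 1), (40, 8), (41, 2), (42, 1), (44, 9), (45, 8), (46, 4), (47, 8), (50, 10), (51, 10), (52, 4), (53, 3), (54, 2), (55, 5), (56, 7), (58, 1), (59, 10), (60, 9), (61, 9), (62, 9), (63, 1), (64, 2), (65, 2), (66, 3), (67, 10), (68, 2), (69, 1), (70, 3), (71, 5), (72, 1), (73, 8), (74, 7), (75, 2), (76, 3), (77, 2), (78, 3), (79, 8), (80, 6), (81, 7), (82, 3), (83, 5), (84, 5), (85, 9), (86, 6), (87, 2), (89, 7), (90, 7), (91, 2), (92, 5), (93, 9), (94, 8), (95, 7), (97, 7), (98, 5), (99, 5), (100, 7), (101, 9), (102, 9), (103, 3), (104, 8), (105, 5), (106, 5), (107, 3),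 (109, 8), (110, 10), (111, 6), (112, 8), (113, 1), (115, 6), (116, 6), (117, 10), (118, 4), (119, 8), (120, 3), (121, 8), (122, 8), (123, 8), (124, 7), (125, 8), (126, 9), (127, 4), (128, 1), (129, 3), (130, 2), (132, 9)],
  [(0, 3), (2, 7), (3, 2), (5, 7), (6, 4), (7, 5), (8, 1), (9, 9), (10, 9), (11, 1), (12, 10), (13, 8), (14, 6), (15, 2), (16, 4), (17, 6), (18, 5), (19, 6), (20, 6), (22, 4), (23, 3), (24, 1), (25, 2), (26, 1), (27, 4), (28, 6), (29, 5), (30, 6), (31, 1), (32, 10), (34, 4), (35, 5), (36, 2), (37, 6), (38, 7), (39, 10), (40, 4), (41, 6), (42, 10), (43, 9), (44, 8), (45, 10), (46, 2), (48, 10), (49, 5), (50, 2), (51, 7), (52, 1), (55, 4), (56, 9), (57, 2), (58, 9), (59, 9), (61, 9), (62, 10), (64, 3), (65, 2), (66, 2), (67, 8), (68, 4), (69, 2), (70, 8), (73, 5), (74, 10), (75, 6), (76, 4), (78, 5), (79, 10), (80, 4), (81, 6), (82, 5), (83, 2), (84, 5), (86, 6), (87, 5), (89, 5), (90, 7), (92,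 1), (93, 6), (94, 6), (95, 10), (96, 5), (97, 6), (98, 5), (99, 9), (100, 10), (101, 4), (102, 7), (103, 5), (104, 10), (105, 3), (106, 3), (107, 3), (108, 8), (109, 5), (110, 8), (111, 5), (113, 8), (114, 2), (115, 3), (116, 2), (117, 5), (118, 3), (119, 8), (121, 2), (122, 10), (123, 10), (124, 9), (125, 5), (128, 1), (130, 8), (131, 8), (132, 6)],
  [(0, 1), (1, 4), (2, 10), (3, 10), (4, 4), (5, 1), (6, 10), (7, 7), (8, 10), (9, 10), (10, 4), (11, 7), (12, 1), (13, 3), (14, 9), (15, 1), (17, 2), (18, 9), (19, 10), (20, 8), (21, 6), (22, 2), (23, 2), (24, 3), (25, 6), (26, 10), (27, 7), (28, 8), (29, 9), (30, 8), (31, 4), (32, 8), (34, 4), (35, 10), (36, 1), (37, 6), (38, 3), (39, 9), (40, 9), (41, 8), (42, 9), (43, 9), (44, 9), (45, 8), (46, 4), (47, 6), (48, 6), (49, 10), (50, 3), (51, 8), (52, 6), (53, 2), (54, 7), (55, 8), (56, 1), (57, 2), (58, 1), (60, 8), (61, 9), (62, 8), (63, 7), (64, 10), (65, 4),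 (66, 9), (67, 1), (68, 10), (69, 8), (70, 2), (71, 3), (72, 1), (74, 1), (76, 10), (77, 10), (78, 10), (79, 3), (81, 1), (82, 3), (83, 3), (86, 2), (88, 2), (89, 1), (91, 10), (92, 2), (93, 2), (94, 1), (95, 1), (96, 2), (97, 1), (98, 1), (99, 10), (100, 9), (101, 10), (103, 1), (104, 10), (105, 3), (106, 3), (107, 6), (108, 6), (109, 2), (110, 2), (111, 7), (112, 2), (113, 6), (114, 4), (115, 6), (116, 8), (119, 2), (121, 2), (122, 2), (123, 8), (126, 6), (128, 4), (129, 4), (130, 5), (131, 8)],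
  [(0, 8), (1, 5), (2, 7), (3, 8), (4, 9), (5, 7), (6, 1), (7, 2), (8, 7), (9, 6), (10, 2), (11, 7), (12, 4), (14, 8), (15, 5), (16, 6), (17, 2), (18, 8), (19, 3), (20, 2), (21, 9), (22, 4), (23, 7), (25, 1), (26, 5), (27, 10), (28, 7), (29, 5), (30, 5), (31, 3), (33, 1), (34, 4), (35, 9), (36, 3), (38, 4), (39, 4), (40, 2), (41, 7), (42, 6), (43, 3), (44, 5), (45, 6), (46, 9), (47, 7), (49, 4), (50, 6), (51, 6), (52, 1), (53, 8), (54, 7), (55, 2), (56, 8), (57, 9), (58, 1), (59, 5), (60, 7), (61, 3), (62, 10), (63, 1), (64, 7), (65, 7), (67, 4), (68, 7), (69, 5), (70, 2), (71, 4), (72, 8), (73, 3), (74, 8), (75, 3), (76, 7), (86, 1), (87, 10), (88, 1), (92, 1), (98, 1), (100, 2), (101, 10), (102, 1), (105, 2), (106, 4), (107, 7), (108, 6), (109, 7), (110, 5), (111, 9), (112, 7), (113, 1), (114, 1), (115, 8), (116, 4), (117, 2), (118, 3), (119, 7), (120, 6), (121, 2), (122, 8), (123, 5), (124, 10), (125, 5), (127,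 6), (128, 10), (129, 5), (130, 6), (131, 1), (132, 2)],
  [(0, 2), (1, 9), (2, 5), (3, 4), (4, 7), (5, 9), (6, 8), (7, 3), (8, 9), (9, 5), (10, 7), (11, 4), (12, 7), (13, 2), (14, 10), (15, 4), (17, 8), (18, 10), (19, 2), (20, 10), (22, 10), (23, 8), (24, 3), (25, 5), (26, 8), (27, 7), (28, 5), (29, 7), (30, 5), (31, 8), (32, 10), (33, 5), (34, 8), (35, 1), (36, 6), (37, 5), (38, 2), (39, 1), (40, 2), (41, 5), (42, 2), (43, 1), (44, 2), (45, 6), (46, 9), (47, 5), (48, 3), (49, 7), (50, 5), (51, 10), (52, 10), (53, 8), (54, 1), (55, 2), (56, 7), (57, 8), (58, 2), (59, 5), (60, 1), (61, 2), (62, 4), (63, 2), (64, 9), (65, 4), (67, 3), (68, 9), (69, 6), (70, 10), (71, 4), (72, 5), (73, 8), (74, 7), (75, 3), (76, 7), (77, 2), (78, 3), (79, 7), (80, 2), (81, 8), (82, 4), (83, 6), (84, 5), (85, 9), (86, 6), (87, 2), (89, 6), (90, 7), (91, 3), (92, 5), (93, 10), (95, 7), (97, 6), (98, 4), (99, 6), (100, 7), (101, 10),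 (102, 10), (103, 3), (104, 9), (105, 9), (106, 9), (107, 5), (108, 4), (109, 7), (110, 7), (111, 7), (112, 4), (113, 5), (114, 9), (115, 6), (116, 2), (117, 7), (118, 1), (119, 4), (120, 3), (121, 10), (122, 10), (123, 2), (124, 3), (125, 4), (126, 6), (128, 2), (129, 3), (130, 8), (131, 1), (132, 10)]]

/-- data -/
def d7 : SMat := d7_0 ++ d7_1 ++ d7_2 ++ d7_3 ++ d7_4 ++ d7_5 ++ d7_6 ++ d7_7 ++ d7_8 ++ d7_9 ++ d7_10 ++ d7_11 ++ d7_12 ++ d7_13 ++ d7_14 ++ d7_15 ++ d7_16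

/-- data -/
def d8_0 : SMat := [
  [(20, 1)],
  [(6, 1)],
  [(44, 1)],
  [(3, 1)],
  [(19, 1)],
  [(0, 1)],
  [(39, 1)],
  [(66, 1)]]

/-- data -/
def d8_1 : SMat := [
  [(0, 1), (1, 1), (2, 10), (3, 3), (7, 1), (8, 10), (9, 10), (10, 9), (11, 3), (13, 1), (14, 10), (15, 9), (16, 1), (18, 10), (19, 1), (21, 10), (22, 8), (23, 2), (24, 10), (26, 9), (27, 10), (28, 9), (29, 10), (30, 10), (31, 1), (33, 10), (34, 2), (36, 2), (37, 10), (39, 1), (40, 9), (41, 10), (44, 8), (45, 1), (46, 10), (47, 2), (49, 1), (50, 1), (51, 1), (53, 2), (55, 1), (56, 10), (57, 10), (58, 10), (59, 1), (60, 1), (62, 1), (64, 9), (65, 9), (66, 10), (67, 2), (68, 9), (69, 10), (70, 8), (71, 9), (73, 10), (74, 10), (75, 8), (76, 9)],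
  [(71, 1)],
  [(10, 1)],
  [(4, 1)],
  [(37, 1)],
  [(2, 1)],
  [(8, 1)],
  [(63, 1)]]

/-- data -/
def d8_2 : SMat := [
  [(25, 1)],
  [(51, 1)],
  [(54, 1)],
  [(11, 1)],
  [(5, 1)],
  [(58, 1)],
  [(40, 1)],
  [(48, 1)]]

/-- data -/
def d8_3 : SMat := [
  [(17, 1)],
  [(31, 1)],
  [(26, 1)],
  [(0, 5), (1, 10), (2, 6), (3, 9), (4, 6), (5, 6), (6, 10), (7, 5), (8, 6), (9, 7), (10, 7), (11, 4), (12, 5), (13, 5), (14, 6), (15, 1), (16, 4), (17, 5), (18, 6), (19, 10), (20, 6), (21, 1), (22, 2), (23, 4), (24, 6), (26, 6), (28, 6), (29, 1), (30, 1), (31, 4), (32, 6), (33, 6), (34, 10), (35, 6), (36, 10), (39, 10), (40, 1), (41, 6), (42, 6), (43, 10), (44, 7), (45, 10), (47, 10), (49, 10), (50, 10), (51, 10), (52, 6), (53, 4), (54, 1), (55, 10), (57, 1), (59, 10), (60, 10), (61, 10), (62, 10), (63, 5), (64, 1), (65, 1), (67, 10), (68, 1), (69, 1), (70, 2), (71, 1), (72, 6), (75, 7), (76, 1)],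
  [(65, 1)],
  [(32, 1)],
  [(30, 1)],
  [(16, 1)]]

/-- data -/
def d8_4 : SMat := [
  [(0, 10), (3, 8), (4, 1), (7, 10), (8, 1), (9, 2), (10, 1), (11, 8), (13, 9), (14, 1), (15, 2), (16, 10), (19, 10), (21, 1), (22, 3), (23, 9), (24, 1), (25, 1), (26, 2), (27, 1), (28, 1), (29, 1), (31, 10), (32, 10), (33, 2), (34, 9), (36, 10), (37, 1), (38, 10), (39, 10), (40, 1), (41, 1), (43, 10), (44, 2), (45, 9), (47, 10), (48, 1), (49, 10), (51, 10), (53, 9), (56, 1), (57, 1), (59, 9), (60, 10), (61, 10), (62, 9), (63, 10), (64, 2), (65, 1), (66, 1), (67, 9), (68, 2), (70, 3), (71, 2), (72, 1), (73, 2), (74, 1), (75, 3), (76, 2)],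
  [(12, 1)],
  [(1, 10), (3, 9), (6, 10), (8, 1), (9, 1), (10, 1), (11, 9), (12, 10), (14, 1), (15, 1), (16, 10), (19, 10), (21, 1), (22, 2), (23, 9), (26, 1), (28, 1), (29, 1), (30, 1), (31, 10), (33, 1), (34, 10), (36, 10), (39, 10), (40, 1), (41, 1), (43, 10), (44, 2), (45, 10), (47, 10), (49, 10), (50, 10), (51, 10), (53, 10), (54, 1), (55, 10), (57, 1), (59, 10), (60, 10), (61, 10), (62, 10), (64, 1), (65, 1), (67, 10), (68, 1), (69, 1), (70, 2), (71, 1), (72, 1), (75, 1), (76, 1)],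
  [(18, 1)],
  [(23, 1)],
  [(33, 1)],
  [(21, 1)],
  [(1, 1)]]

/-- data -/
def d8_5 : SMat := [
  [(69, 1)],
  [(0, 6), (1, 1), (2, 5), (3, 3), (4, 5), (5, 6), (7, 6), (8, 4), (9, 4), (10, 3), (11, 8), (12, 6), (13, 6), (14, 5), (15, 9), (16, 7), (17, 6), (18, 5), (19, 1), (20, 5), (21, 9), (22, 8), (23, 8), (24, 5), (26, 4), (28, 4), (29, 9), (30, 10), (31, 7), (32, 5), (33, 4), (34, 1), (35, 5), (36, 1), (39, 1), (40, 9), (41, 4), (42, 6), (43, 1), (44, 3), (45, 1), (46, 10), (47, 2), (49, 1), (50, 1), (51, 1), (52, 5), (53, 8), (54, 10), (55, 1), (56, 10), (57, 10), (58, 10), (59, 1), (60, 1), (61, 1), (62, 1), (63, 5), (64, 9), (65, 9), (66, 10), (67, 2), (68, 9), (69, 10), (70, 8), (71, 9), (72, 5), (74, 10), (75, 3), (76, 9)],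
  [(0, 5), (2, 5), (3, 1), (4, 5), (5, 5), (7, 6), (8, 5), (9, 5), (10, 5), (11, 6), (12, 5), (13, 6), (14, 5), (15, 10), (16, 6), (17, 5), (18, 5), (20, 6), (22, 10), (23, 6), (24, 5), (26, 5), (28, 5), (31, 5), (32, 6), (33, 5), (34, 1), (35, 5), (37, 10), (38, 1), (39, 1), (40, 10), (41, 5), (42, 6), (44, 5), (52, 6), (53, 6), (56, 10), (57, 10), (60, 1), (63, 6), (70, 10), (71, 10), (72, 6), (73, 10), (74, 10), (75, 5)],
  [(7, 1)],
  [(13, 1)],
  [(68, 1)],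
  [(46, 1)],
  [(73, 1)]]

/-- data -/
def d8_6 : SMat := [
  [(36, 1)],
  [(0, 10), (3, 10), (5, 10), (10, 1), (11, 10), (22, 1), (23, 10), (28, 1), (29, 1), (31, 10), (33, 1), (36, 10), (42, 1), (44, 1), (45, 10), (46, 1), (47, 10), (49, 10), (53, 10), (55, 10), (62, 10), (64, 1), (65, 1), (66, 1), (67, 10), (68, 1), (70, 1), (75, 1), (76, 1)],
  [(50, 1)],
  [(24, 1)],
  [(15, 1)],
  [(47, 1)],
  [(35, 1)],
  [(55, 1)]]

/-- data -/
def d8_7 : SMat := [
  [(0, 5), (1, 10), (2, 6), (3, 7), (4, 6), (5, 6), (6, 10), (7, 4), (8, 7), (9, 8), (10, 8), (11, 1), (12, 4), (13, 4), (14, 7), (15, 3), (16, 3), (17, 5), (18, 6), (19, 9), (20, 6), (21, 3), (22, 5), (23, 2), (24, 6), (26, 8), (27, 1), (28, 7), (29, 2), (30, 2), (31, 3), (32, 5), (33, 7), (34, 9), (35, 6), (36, 9), (39, 9), (40, 2), (41, 7), (42, 5), (43, 9), (44, 9), (45, 9), (47, 9), (48, 1), (49, 10), (50, 9), (51, 9), (52, 6), (53, 2), (54, 1), (55, 10),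 (56, 1), (57, 1), (58, 1), (59, 8), (60, 9), (61, 10), (62, 9), (63, 5), (64, 3), (65, 2), (66, 1), (67, 8), (68, 3), (69, 1), (70, 4), (71, 3), (72, 7), (73, 1), (74, 1), (75, 9), (76, 2)],
  [(57, 1)],
  [(38, 1)],
  [(42, 1)],
  [(27, 1)],
  [(0, 6), (1, 1), (2, 5), (3, 1), (4, 6), (5, 6), (7, 5), (8, 5), (9, 5), (10, 4), (11, 6), (12, 6), (13, 5), (14, 5), (16, 6), (17, 6), (18, 5), (19, 1), (20, 5), (21, 10), (22, 10), (23, 7), (24, 5), (26, 5), (28, 5), (29, 10), (30, 10), (31, 7), (32, 5), (33, 5), (35, 6), (36, 1), (38, 10), (40, 10), (41, 5), (42, 5), (44, 4), (46, 10), (47, 1), (49, 1), (50, 1), (52, 5), (53, 6), (54, 10), (55, 1), (63, 5), (64, 10), (65, 9), (67, 1), (68, 10), (69, 10), (70, 10), (72, 6), (73, 1), (75, 5), (76, 10)],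
  [(0, 6), (1, 10), (2, 5), (3, 2), (4, 4), (5, 5), (6, 1), (7, 6), (8, 5), (9, 4), (10, 5), (11, 8), (12, 6), (13, 7), (14, 4), (15, 9), (16, 6), (17, 5), (18, 6), (19, 1), (20, 6), (21, 10), (22, 8), (23, 7), (24, 5), (25, 10), (26, 4), (27, 10), (28, 5), (29, 10), (31, 6), (32, 7), (33, 4), (34, 2), (35, 5), (36, 1), (37, 10), (38, 1), (39, 1), (41, 5), (42, 5), (43, 1), (44, 4), (45, 2), (48, 10), (49, 1), (51, 1), (52, 5), (53, 8), (56, 10), (57, 10), (59, 2), (60, 1), (61, 1), (62, 2), (63, 7), (64, 10), (66, 10), (67, 1), (68, 9), (70, 8), (71, 10), (72, 4), (73, 9), (74, 10), (75, 3), (76, 10)],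
  [(52, 1)]]

/-- data -/
def d8_8 : SMat := [
  [(45, 1)],
  [(70, 1)],
  [(43, 1)],
  [(3, 10), (5, 1), (7, 10), (10, 1), (11, 10), (15, 1), (16, 10), (21, 1), (22, 1), (23, 10), (26, 1), (34, 10), (40, 1), (41, 1), (42, 10), (44, 1), (47, 10), (50, 10), (51, 10), (53, 10), (56, 1), (58, 1), (59, 10), (60, 10), (64, 1), (67, 10), (70, 1), (71, 1), (75, 1)],
  [(64, 1)],
  [(22, 1)],
  [(28, 1)],
  [(0, 4), (2, 6), (3, 10), (4, 6), (5, 5), (7, 6), (8, 6), (9, 6), (10, 6), (11, 4), (12, 5), (13, 5), (14, 6), (15, 1), (16, 5), (17, 5), (18, 5), (19, 10), (20, 5), (21, 1), (22, 1), (23, 4), (24, 6), (25, 1), (26, 6), (27, 1), (28, 6), (29, 1), (31, 5), (32, 6), (33, 6), (34, 10), (35, 5), (36, 10), (41, 6), (42, 6), (44, 7), (45, 10), (46, 1), (47, 10), (49, 10), (51, 10), (52, 6), (53, 4), (55, 10), (59, 10), (61, 10), (62, 10), (63, 5), (64, 1), (65, 1), (66, 1), (67, 10), (68, 1), (70, 2), (72, 6), (75, 7), (76,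 1)]]

/-- data -/
def d8_9 : SMat := [
  [(49, 1)],
  [(53, 1)],
  [(76, 1)],
  [(41, 1)],
  [(0, 1), (1, 10), (6, 1), (7, 10), (9, 10), (10, 1), (14, 10), (18, 1), (19, 1), (20, 1), (25, 10), (27, 10), (40, 1), (42, 10), (44, 1), (47, 10), (50, 10), (52, 10), (56, 1), (58, 1), (59, 1), (60, 10), (61, 1), (62, 1), (63, 1), (67, 10), (70, 10), (71, 1), (72, 10)],
  [(86, 10)],
  [(98, 10)],
  [(77, 10)]]

/-- data -/
def d8_10 : SMat := [
  [(80, 1)],
  [(77, 4), (78, 5), (79, 6), (80, 1), (81, 6), (82, 6), (83, 6), (84, 6), (85, 6), (86, 1), (87, 1), (88, 7), (89, 6), (90, 6), (91, 5), (92, 1), (93, 7), (94, 6), (95, 6), (97, 5), (98, 1), (99, 10), (100, 10), (103, 1), (104, 10)],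
  [(77, 5), (78, 5), (79, 6), (81, 5), (82, 4), (83, 6), (84, 5), (85, 7), (87, 1), (88, 6), (89, 4), (90, 7), (91, 5), (93, 5), (94, 4), (95, 5), (96, 2), (97, 5), (98, 1), (99, 10), (100, 1), (101, 1), (102, 10), (104, 1)],
  [(81, 1)],
  [(77, 4), (78, 2), (79, 9), (80, 9), (81, 9), (82, 3), (83, 10), (85, 7), (86, 6), (87, 8), (88, 6), (90, 8), (91, 3), (92, 7), (93, 8), (94, 10), (95, 10), (96, 9), (98, 6), (99, 6), (100, 3), (101, 1), (102, 2), (103, 8), (104, 2)],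
  [(78, 10)],
  [(79, 1)],
  [(102, 10)]]

/-- data -/
def d8_11 : SMat := [
  [(103, 1)],
  [(104, 10)],
  [(77, 8), (78, 7), (79, 4), (80, 10), (81, 4), (82, 7), (83, 5), (84, 6), (85, 3), (86, 7), (87, 9), (88, 2), (89, 6), (90, 3), (91, 8), (92, 8), (93, 4), (94, 5), (95, 5), (96, 9), (97, 5), (98, 8), (99, 4), (100, 2), (101, 1), (102, 1), (103, 9), (104, 1)],
  [(77, 9), (78, 10), (79, 2), (80, 1), (82, 9), (85, 2), (86, 2), (87, 2), (88, 2), (89, 10), (90, 2), (91, 9), (92, 1), (96, 2), (98, 2), (99, 8), (102, 9), (103, 1)],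
  [(77, 5), (78, 5), (79, 5), (81, 6), (82, 6), (83, 6), (84, 6), (85, 5), (88, 6), (89, 6), (90, 6), (91, 6), (93, 6), (94, 6), (95, 6), (97, 6)],
  [(90, 10)],
  [(89, 1)],
  [(95, 1)]]

/-- data -/
def d8_12 : SMat := [
  [(96, 1)],
  [(77, 8), (78, 7), (79, 4), (80, 10), (81, 4), (82, 6), (83, 4), (84, 5), (85, 4), (86, 8), (87, 10), (88, 2), (89, 4), (90, 4), (91, 7), (92, 8), (93, 3), (94, 4), (95, 4), (97, 5), (98, 8), (99, 3), (100, 3), (101, 1), (103, 9), (104, 2)],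
  [(85, 1)],
  [(77, 2), (78, 1), (79, 9), (80, 10), (82, 3), (84, 1), (85, 8), (86, 8), (87, 8), (88, 8), (89, 2), (90, 8), (91, 3), (92, 9), (94, 1), (96, 8), (98, 8), (99, 4), (102, 2), (103, 10)],
  [(100, 1)],
  [(87, 1)],
  [(101, 10)],
  [(77, 1), (78, 1), (79, 10), (80, 10), (85, 10), (86, 10), (87, 10), (88, 10), (95, 10), (96, 10), (98, 10), (101, 10), (102, 1), (103, 10)]]

/-- data -/
def d8_13 : SMat := [
  [(94, 10)],
  [(110, 10)],
  [(111, 10)],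
  [(107, 1)],
  [(105, 1), (106, 1), (107, 10), (108, 10), (113, 10), (114, 10), (115, 10), (116, 10), (123, 10), (124, 10), (126, 10), (129, 10), (130, 1), (131, 10)],
  [(121, 1)],
  [(123, 1)],
  [(112, 1)]]

/-- data -/
def d8_14 : SMat := [
  [(106, 10)],
  [(125, 10)],
  [(105, 6), (106, 5), (107, 5), (109, 6), (110, 6), (111, 5), (112, 6), (113, 5), (116, 5), (117, 6), (118, 4), (119, 6), (121, 6), (122, 6), (123, 6), (124, 10), (125, 6), (127, 1)],
  [(129, 1)],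
  [(117, 1)],
  [(122, 1)],
  [(113, 10)],
  [(109, 1)]]

/-- data -/
def d8_15 : SMat := [
  [(115, 10)],
  [(119, 1)],
  [(116, 1)],
  [(105, 10)],
  [(105, 10), (106, 10), (108, 1), (109, 1), (113, 1), (114, 2), (116, 2), (117, 1), (120, 2), (121, 2), (122, 2), (123, 1), (124, 10), (125, 1), (126, 1), (127, 10), (128, 9), (129, 10), (131, 1), (132, 10)],
  [(118, 1)],
  [(105, 9), (106, 10), (107, 2), (108, 1), (110, 8), (112, 10), (113, 3), (114, 3), (115, 3), (116, 3), (117, 9), (118, 3), (119, 8), (120, 2), (122, 10), (124, 3), (126, 3), (127, 7), (130, 9), (131, 1)],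
  [(105, 10), (106, 10), (107, 1), (108, 1), (110, 10), (113, 1), (114, 2), (115, 1), (116, 2), (118, 1), (119, 10), (120, 2), (121, 1), (124, 1), (126, 2), (127, 9), (128, 10), (130, 10), (131, 1)]]

/-- data -/
def d8_16 : SMat := [
  [(128, 1)],
  [(120, 10)],
  [(105, 3), (106, 4), (107, 7), (108, 1), (109, 7), (110, 4), (111, 6), (112, 5), (113, 8), (114, 4), (115, 2), (116, 9), (117, 6), (118, 7), (119, 3), (120, 3), (121, 8), (122, 7), (123, 6), (125, 6), (126, 3), (127, 7), (128, 9), (129, 10), (130, 10), (131, 2), (132, 9)],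
  [(131, 1)],
  [(108, 10)]]

/-- data -/
def d8 : SMat := d8_0 ++ d8_1 ++ d8_2 ++ d8_3 ++ d8_4 ++ d8_5 ++ d8_6 ++ d8_7 ++ d8_8 ++ d8_9 ++ d8_10 ++ d8_11 ++ d8_12 ++ d8_13 ++ d8_14 ++ d8_15 ++ d8_16

/-- data -/
def d9_0 : SMat := [
  [(18, 1)],
  [(6, 1)],
  [(8, 1)],
  [(3, 1)],
  [(55, 1)],
  [(20, 1)],
  [(50, 1)],
  [(27, 1)]]

/-- data -/
def d9_1 : SMat := [
  [(14, 1)],
  [(9, 1)],
  [(71, 1)],
  [(4, 1)],
  [(33, 1)],
  [(44, 1)],
  [(2, 1)],
  [(49, 1)]]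

/-- data -/
def d9_2 : SMat := [
  [(46, 1)],
  [(61, 1)],
  [(35, 1)],
  [(19, 1)],
  [(54, 1)],
  [(0, 10), (3, 10), (5, 10), (10, 1), (11, 10), (22, 1), (23, 10), (28, 1), (29, 1), (31, 10), (33, 1), (36, 10), (42, 1), (44, 1), (45, 10), (46, 1), (47, 10), (49, 10), (53, 10), (55, 10), (62, 10), (64, 1), (65, 1), (66, 1), (67, 10), (68, 1), (70, 1), (75, 1), (76, 1)],
  [(40, 1)],
  [(34, 1)]]

/-- data -/
def d9_3 : SMat := [
  [(47, 1)],
  [(25, 1)],
  [(65, 1)],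
  [(60, 1)],
  [(28, 1)],
  [(15, 1)],
  [(30, 1)],
  [(16, 1)]]

/-- data -/
def d9_4 : SMat := [
  [(72, 1)],
  [(37, 1)],
  [(0, 1), (1, 1), (3, 4), (4, 10), (7, 1), (8, 10), (9, 9), (10, 8), (11, 4), (12, 1), (13, 2), (14, 10), (15, 8), (16, 2), (18, 10), (19, 1), (21, 9), (22, 7), (23, 3), (24, 10), (26, 9), (27, 10), (28, 9), (29, 9), (30, 10), (31, 2), (33, 9), (34, 2), (36, 2), (37, 10), (39, 1), (40, 9), (41, 9), (43, 1), (44, 7), (45, 2), (46, 10), (47, 3), (48, 10), (49, 2), (50, 1), (51, 2), (53, 3), (54, 10), (55, 1), (56, 10), (57, 10), (58, 10), (59, 2), (60, 2), (61, 1), (62, 2), (64, 8), (65, 9), (66, 10), (67, 3), (68, 8), (69, 10), (70, 7), (71, 8), (72, 10), (73, 10), (74, 10), (75, 7), (76, 8)],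
  [(0, 1)],
  [(48, 1)],
  [(12, 1)],
  [(32, 1)],
  [(39, 1)]]

/-- data -/
def d9_5 : SMat := [
  [(57, 1)],
  [(75, 1)],
  [(0, 4), (2, 6), (3, 8), (4, 6), (5, 5), (7, 5), (8, 6), (9, 7), (10, 7), (11, 3), (12, 5), (13, 4), (14, 7), (15, 2), (16, 5), (17, 5), (18, 6), (19, 10), (20, 5), (21, 1), (22, 3), (23, 3), (24, 6), (25, 1), (26, 7), (27, 1), (28, 7), (29, 2), (31, 4), (32, 5), (33, 7), (34, 9), (35, 5), (36, 9), (37, 1), (39, 10), (40, 1), (41, 7), (42, 6), (44, 8), (45, 9), (46, 1), (47, 9), (48, 1), (49, 10), (51, 10), (52, 6), (53, 3), (55, 10), (56, 1), (57, 1), (59, 9), (60, 10), (61, 10), (62, 9), (63, 5), (64, 2), (65, 2), (66, 1), (67, 9), (68, 2), (70, 3), (71, 1), (72, 6), (73, 1), (74, 1), (75, 9), (76, 2)],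
  [(66, 1)],
  [(0, 1), (1, 1), (2, 10), (3, 3), (7, 1), (8, 10), (9, 10), (10, 9), (11, 3), (13, 1), (14, 10), (15, 9), (16, 1), (18, 10), (19, 1), (21, 10), (22, 8), (23, 2), (24, 10), (26, 9), (27, 10), (28, 9), (29, 10), (30, 10), (31, 1), (33, 10), (34, 2), (36, 2), (37, 10), (39, 1), (40, 9), (41, 10), (44, 8), (45, 1), (46, 10), (47, 2), (49, 1), (50, 1), (51, 1), (53, 2), (55, 1), (56, 10), (57, 10), (58, 10), (59, 1), (60, 1), (62, 1), (64, 9), (65, 9), (66, 10), (67, 2), (68, 9), (69, 10), (70, 8), (71, 9), (73, 10), (74, 10), (75, 8), (76, 9)],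
  [(0, 6), (1, 10), (2, 5), (4, 5), (5, 6), (7, 5), (8, 5), (9, 5), (10, 6), (11, 6), (12, 5), (13, 6), (14, 5), (16, 5), (17, 5), (18, 6), (19, 1), (20, 6), (23, 5), (24, 5), (26, 5), (27, 10), (28, 5), (31, 5), (32, 6), (33, 5), (35, 5), (38, 1), (40, 1), (41, 6), (42, 5), (44, 6), (47, 10), (50, 10), (52, 5), (53, 6), (54, 1), (60, 10), (62, 1), (63, 6), (66, 10), (68, 10), (70, 10), (72, 5), (73, 10), (74, 10), (75, 5)],
  [(31, 1)],
  [(0, 6), (1, 1), (2, 5), (3, 1), (4, 6), (5, 6), (7, 5), (8, 5), (9, 5), (10, 4), (11, 6), (12, 6), (13, 5), (14, 5), (16, 6), (17, 6), (18, 5), (19, 1), (20, 5), (21, 10), (22, 10), (23, 7), (24, 5), (26, 5), (28, 5), (29, 10), (30, 10), (31, 7), (32, 5), (33, 5), (35, 6), (36, 1), (38, 10), (40, 10), (41, 5), (42, 5), (44, 4), (46, 10), (47, 1), (49, 1), (50, 1), (52, 5), (53, 6), (54, 10), (55, 1), (63, 5), (64, 10), (65, 9), (67, 1), (68, 10), (69, 10), (70, 10), (72, 6),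 (73, 1), (75, 5), (76, 10)]]

/-- data -/
def d9_6 : SMat := [
  [(1, 10), (3, 9), (6, 10), (8, 1), (9, 1), (10, 1), (11, 9), (12, 10), (14, 1), (15, 1), (16, 10), (19, 10), (21, 1), (22, 2), (23, 9), (26, 1), (28, 1), (29, 1), (30, 1), (31, 10), (33, 1), (34, 10), (36, 10), (39, 10), (40, 1), (41, 1), (43, 10), (44, 2), (45, 10), (47, 10), (49, 10), (50, 10), (51, 10), (53, 10), (54, 1), (55, 10), (57, 1), (59, 10), (60, 10), (61, 10), (62, 10), (64, 1), (65, 1), (67, 10), (68, 1), (69, 1), (70, 2), (71, 1), (72, 1), (75, 1), (76, 1)],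
  [(29, 1)],
  [(1, 1)],
  [(0, 5), (2, 5), (3, 1), (4, 5), (5, 5), (7, 6), (8, 5), (9, 5), (10, 5), (11, 6), (12, 5), (13, 6), (14, 5), (15, 10), (16, 6), (17, 5), (18, 5), (20, 6), (22, 10), (23, 6), (24, 5), (26, 5), (28, 5), (31, 5), (32, 6), (33, 5), (34, 1), (35, 5), (37, 10), (38, 1), (39, 1), (40, 10), (41, 5), (42, 6), (44, 5), (52, 6), (53, 6), (56, 10), (57, 10), (60, 1), (63, 6), (70, 10), (71, 10), (72, 6), (73, 10), (74, 10), (75, 5)],
  [(21, 1)],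
  [(42, 1)],
  [(5, 1)],
  [(11, 1)]]

/-- data -/
def d9_7 : SMat := [
  [(56, 1)],
  [(22, 1)],
  [(63, 1)],
  [(17, 1)],
  [(7, 1)],
  [(59, 1)],
  [(1, 1), (2, 1), (3, 10), (9, 1), (11, 10), (13, 10), (14, 1), (15, 1), (19, 10), (20, 10), (22, 1), (26, 1), (27, 1), (28, 1), (32, 10), (34, 10), (36, 10), (37, 1), (39, 10), (53, 10), (54, 10), (59, 10), (62, 10), (63, 10), (68, 1), (70, 1), (73, 1), (74, 1), (75, 1)],
  [(0, 10), (3, 8), (4, 1), (7, 10), (8, 1), (9, 2), (10, 1), (11, 8), (13, 9), (14, 1), (15, 2), (16, 10), (19, 10), (21, 1), (22, 3), (23, 9), (24, 1), (25, 1), (26, 2), (27, 1), (28, 1), (29, 1), (31, 10), (32, 10), (33, 2), (34, 9), (36, 10), (37, 1), (38, 10), (39, 10), (40, 1), (41, 1), (43, 10), (44, 2), (45, 9), (47, 10), (48, 1), (49, 10), (51, 10), (53, 9), (56, 1), (57, 1), (59, 9), (60, 10), (61, 10), (62, 9), (63, 10), (64, 2), (65, 1), (66, 1), (67, 9), (68, 2), (70, 3), (71, 2),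 (72, 1), (73, 2), (74, 1), (75, 3), (76, 2)]]

/-- data -/
def d9_8 : SMat := [
  [(1, 1), (4, 1), (10, 10), (12, 1), (13, 10), (16, 1), (17, 1), (20, 10), (21, 10), (23, 1), (27, 1), (29, 10), (30, 10), (31, 1), (32, 10), (37, 1), (38, 10), (40, 10), (44, 10), (47, 1), (50, 1), (54, 10), (55, 1), (63, 10), (64, 10), (65, 10), (67, 1), (73, 1), (74, 1)],
  [(70, 1)],
  [(0, 5), (1, 10), (2, 6), (3, 9), (4, 6), (5, 6), (6, 10), (7, 5), (8, 6), (9, 7), (10, 7), (11, 4), (12, 5), (13, 5), (14, 6), (15, 1), (16, 4), (17, 5), (18, 6), (19, 10), (20, 6), (21, 1), (22, 2), (23, 4), (24, 6), (26, 6), (28, 6), (29, 1), (30, 1), (31, 4), (32, 6), (33, 6), (34, 10), (35, 6), (36, 10), (39, 10), (40, 1), (41, 6), (42, 6), (43, 10), (44, 7), (45, 10), (47, 10), (49, 10), (50, 10), (51, 10), (52, 6), (53, 4), (54, 1), (55, 10), (57, 1), (59, 10), (60, 10), (61, 10), (62, 10), (63, 5), (64, 1), (65, 1), (67, 10), (68, 1), (69,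 1), (70, 2), (71, 1), (72, 6), (75, 7), (76, 1)],
  [(0, 5), (2, 5), (4, 6), (5, 5), (7, 6), (8, 5), (9, 5), (10, 5), (11, 6), (12, 6), (13, 5), (14, 5), (15, 10), (16, 6), (17, 6), (18, 5), (20, 5), (21, 10), (22, 10), (23, 6), (24, 6), (26, 5), (28, 5), (29, 10), (30, 10), (31, 6), (32, 5), (33, 6), (35, 5), (37, 1), (38, 10), (39, 1), (40, 10), (41, 5), (42, 6), (44, 5), (47, 1), (49, 10), (50, 1), (52, 5), (53, 6), (58, 10), (59, 1), (63, 5), (64, 10), (72, 5), (75, 5)],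
  [(45, 1)],
  [(69, 1)],
  [(26, 1)],
  [(0, 4), (2, 6), (3, 10), (4, 6), (5, 5), (7, 6), (8, 6), (9, 6), (10, 6), (11, 4), (12, 5), (13, 5), (14, 6), (15, 1), (16, 5), (17, 5), (18, 5), (19, 10), (20, 5), (21, 1), (22, 1), (23, 4), (24, 6), (25, 1), (26, 6), (27, 1), (28, 6), (29, 1), (31, 5), (32, 6), (33, 6), (34, 10), (35, 5), (36, 10), (41, 6), (42, 6), (44, 7), (45, 10), (46, 1), (47, 10), (49, 10), (51, 10), (52, 6), (53, 4), (55, 10), (59, 10), (61, 10), (62, 10), (63, 5), (64, 1), (65, 1), (66, 1), (67, 10), (68, 1), (70, 2), (72, 6), (75, 7), (76, 1)]]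

/-- data -/
def d9_9 : SMat := [
  [(38, 1)],
  [(51, 1)],
  [(74, 1)],
  [(0, 6), (1, 1), (2, 5), (3, 3), (4, 5), (5, 6), (7, 6), (8, 4), (9, 4), (10, 3), (11, 8), (12, 6), (13, 6), (14, 5), (15, 9), (16, 7), (17, 6), (18, 5), (19, 1), (20, 5), (21, 9), (22, 8), (23, 8), (24, 5), (26, 4), (28, 4), (29, 9), (30, 10), (31, 7), (32, 5), (33, 4), (34, 1), (35, 5), (36, 1), (39, 1), (40, 9), (41, 4), (42, 6), (43, 1), (44, 3), (45, 1), (46, 10), (47, 2), (49, 1), (50, 1), (51, 1), (52, 5), (53, 8), (54, 10), (55, 1), (56, 10), (57, 10), (58, 10), (59, 1), (60, 1), (61, 1), (62, 1), (63, 5), (64, 9), (65, 9), (66, 10), (67, 2), (68, 9), (69, 10), (70, 8), (71, 9), (72, 5), (74, 10), (75, 3), (76, 9)],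
  [(0, 1), (1, 10), (6, 1), (7, 10), (9, 10), (10, 1), (14, 10), (18, 1), (19, 1), (20, 1), (25, 10), (27, 10), (40, 1), (42, 10), (44, 1), (47, 10), (50, 10), (52, 10), (56, 1), (58, 1), (59, 1), (60, 10), (61, 1), (62, 1), (63, 1), (67, 10), (70, 10), (71, 1), (72, 10)],
  [(89, 10)],
  [(81, 10)],
  [(86, 1)]]

/-- data -/
def d9_10 : SMat := [
  [(77, 5), (78, 5), (79, 6), (81, 5), (82, 4), (83, 6), (84, 5), (85, 7), (87, 1), (88, 6), (89, 4), (90, 7), (91, 5), (93, 5), (94, 4), (95, 5), (96, 2), (97, 5), (98, 1), (99, 10), (100, 1), (101, 1), (102, 10), (104, 1)],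
  [(83, 1)],
  [(82, 1)],
  [(78, 10)],
  [(77, 1), (78, 1), (81, 10), (82, 10), (83, 10), (84, 10), (88, 10), (89, 10), (91, 10), (93, 10), (94, 10), (95, 10), (100, 1), (103, 10)],
  [(98, 1)],
  [(104, 10)],
  [(77, 10), (78, 10), (80, 1), (81, 1), (85, 1), (86, 2), (88, 2), (89, 1), (92, 2), (93, 2), (94, 2), (95, 1), (96, 10), (97, 1), (98, 1), (99, 10), (100, 9), (101, 10), (103, 1), (104, 10)]]

/-- data -/
def d9_11 : SMat := [
  [(103, 1)],
  [(94, 1)],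
  [(77, 1), (78, 1), (79, 10), (80, 10), (82, 1), (85, 10), (86, 10), (87, 10), (88, 10), (90, 10), (91, 1), (96, 10), (98, 10), (99, 2), (102, 1), (103, 10)],
  [(91, 1)],
  [(77, 2), (78, 1), (79, 10), (80, 10), (81, 10), (83, 10), (84, 10), (85, 10), (86, 9), (87, 10), (88, 8), (89, 10), (90, 10), (91, 1), (92, 9), (93, 9), (94, 10), (95, 10), (98, 9), (99, 2), (100, 2), (103, 9), (104, 2)],
  [(84, 1)],
  [(77, 10)],
  [(95, 1)]]

/-- data -/
def d9_12 : SMat := [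
  [(77, 9), (78, 10), (79, 2), (80, 1), (82, 9), (85, 2), (86, 2), (87, 2), (88, 2), (89, 10), (90, 2), (91, 9), (92, 1), (96, 2), (98, 2), (99, 8), (102, 9), (103, 1)],
  [(77, 10), (78, 10), (79, 1), (80, 1), (82, 10), (85, 1), (86, 2), (87, 1), (88, 2), (90, 1), (91, 10), (92, 2), (93, 1), (96, 1), (98, 2), (99, 9), (100, 10), (102, 10), (103, 1)],
  [(77, 4), (78, 5), (79, 6), (80, 1), (81, 6), (82, 6), (83, 6), (84, 6), (85, 6), (86, 1), (87, 1), (88, 7), (89, 6), (90, 6), (91, 5), (92, 1), (93, 7), (94, 6), (95, 6), (97, 5), (98, 1), (99, 10), (100, 10), (103, 1), (104, 10)],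
  [(99, 1)],
  [(88, 10)],
  [(90, 10)],
  [(77, 7), (78, 9), (79, 2), (80, 2), (81, 2), (82, 8), (83, 1), (85, 4), (86, 5), (87, 3), (88, 5), (90, 3), (91, 8), (92, 4), (93, 3), (94, 1), (95, 1), (96, 2), (98, 5), (99, 5), (100, 8), (101, 10), (102, 9), (103, 3), (104, 9)],
  [(100, 10)]]

/-- data -/
def d9_13 : SMat := [
  [(79, 10)],
  [(110, 10)],
  [(105, 10), (106, 10), (109, 1), (110, 1), (111, 1), (112, 1), (116, 1), (117, 1), (119, 1), (121, 1), (122, 1), (123, 1), (128, 10), (131, 1)],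
  [(107, 1)],
  [(114, 1)],
  [(119, 1)],
  [(131, 1)],
  [(111, 1)]]

/-- data -/
def d9_14 : SMat := [
  [(106, 10)],
  [(105, 10), (106, 10), (107, 1), (108, 1), (110, 10), (113, 1), (114, 1), (115, 1), (116, 1), (118, 1), (119, 10), (124, 1), (126, 1), (127, 9), (130, 10), (131, 1)],
  [(105, 5), (106, 5), (107, 6), (109, 5), (110, 4), (111, 6), (112, 5), (113, 7), (115, 1), (116, 6), (117, 4), (118, 7), (119, 5), (121, 5), (122, 4), (123, 5), (124, 2), (125, 5), (126, 1), (127, 10), (128, 1), (129, 1), (130, 10), (132, 1)],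
  [(124, 1)],
  [(128, 10)],
  [(117, 1)],
  [(130, 1)],
  [(121, 1)]]

/-- data -/
def d9_15 : SMat := [
  [(129, 10)],
  [(109, 1)],
  [(116, 1)],
  [(123, 1)],
  [(105, 1), (106, 1), (107, 10), (108, 10), (113, 10), (114, 9), (115, 10), (116, 10), (119, 1), (120, 10), (121, 10), (122, 10), (123, 10), (125, 10), (126, 10), (127, 1), (128, 1), (131, 10), (132, 1)],
  [(105, 2), (106, 1), (107, 9), (108, 10), (110, 3), (112, 1), (113, 8), (114, 8), (115, 8), (116, 8), (117, 2), (118, 8), (119, 3), (120, 9), (122, 1), (124, 8), (126, 8), (127, 4), (130, 2), (131, 10)],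
  [(105, 9), (106, 10), (107, 1), (108, 1), (109, 1), (111, 1), (112, 1), (113, 1), (114, 2), (115, 1), (116, 3), (117, 1), (118, 1), (119, 10), (120, 2), (121, 2), (122, 1), (123, 1), (126, 2), (127, 9), (128, 9), (131, 2), (132, 9)],
  [(105, 10), (107, 1), (110, 10), (111, 1), (113, 1), (115, 1), (116, 1), (117, 10), (118, 2), (119, 10), (121, 10), (122, 10), (123, 10), (124, 2), (125, 10), (126, 1), (127, 9)]]

/-- data -/
def d9_16 : SMat := [
  [(122, 10)],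
  [(105, 10), (106, 10), (108, 1), (109, 1), (113, 1), (114, 2), (116, 2), (117, 1), (120, 2), (121, 2), (122, 2), (123, 1), (124, 10), (125, 1), (126, 1), (127, 10), (128, 9), (129, 10), (131, 1), (132, 10)],
  [(105, 8), (106, 9), (107, 2), (108, 2), (109, 1), (110, 9), (113, 3), (114, 4), (115, 2), (116, 4), (118, 2), (119, 9), (120, 3), (121, 2), (123, 1), (124, 2), (126, 4), (127, 7), (128, 9), (130, 9), (131, 2), (132, 10)],
  [(105, 10)],
  [(105, 10), (106, 10), (107, 1), (108, 1), (113, 1), (114, 1), (115, 1), (116, 1), (123, 1), (124, 1), (126, 1), (129, 1), (130, 10), (131, 1)]]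

/-- data -/
def d9 : SMat := d9_0 ++ d9_1 ++ d9_2 ++ d9_3 ++ d9_4 ++ d9_5 ++ d9_6 ++ d9_7 ++ d9_8 ++ d9_9 ++ d9_10 ++ d9_11 ++ d9_12 ++ d9_13 ++ d9_14 ++ d9_15 ++ d9_16

/-- the letters and the ten matrices -/
def gens2 : List SMat := gens ++ [d0, d1, d2, d3, d4, d5, d6, d7, d8, d9]

end Cfsg.Agent.HNAltTwelve50
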