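import Cfsg.Agent.Lib.HNAltTwelveData50

/-!
The matrices are the values of the words, first part.
-/

set_option autoImplicit false
set_option maxRecDepth 100000
set_option maxHeartbeats 1000000

namespace Cfsg.Agent.HNAltTwelve50

open Cfsg.Agent.HNRepCore29 Cfsg.Agent.HNRepData29

theorem word0 : sameWord gens2 (words.getD 0 [] ++ [5]) [7, 5] = true := by decide +kernel

theorem word1 : sameWord gens2 (words.getD 1 [] ++ [5]) [8, 5] = true := by decide +kernel

theorem word2 : sameWord gens2 (words.getD 2 [] ++ [5]) [9, 5] = true := by decide +kernel

theorem word3 : sameWord gens2 (words.getD 3 [] ++ [5]) [10, 5] = true := by decide +kernel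

theorem word4 : sameWord gens2 (words.getD 4 [] ++ [5]) [11, 5] = true := by decide +kernel

end Cfsg.Agent.HNAltTwelve50
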