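import Cfsg.Agent.Lib.HNData66

/-!
Kernel checks of the certificate, part B.
-/

set_option autoImplicit false
set_option maxRecDepth 100000
set_option Elab.async false

namespace Cfsg.Agent.HNWord66.HNData

open Cfsg.Agent.CosetCertCore Cfsg.Agent.CosetCertTable Cfsg.Agent.HNWord66

theorem just_ok_0 : allFrom (gdata.justOk) 25 0 = true := by decide +kernel

theorem just_ok_25 : allFrom (gdata.justOk) 25 25 = true := by decide +kernel

theorem just_ok_50 : allFrom (gdata.justOk) 25 50 = true := by decide +kernel

theorem just_ok_75 : allFrom (gdata.justOk) 25 75 = true := by decide +kernel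

theorem just_ok_100 : allFrom (gdata.justOk) 25 100 = true := by decide +kernel

theorem just_ok_125 : allFrom (gdata.justOk) 25 125 = true := by decide +kernel

theorem just_ok_150 : allFrom (gdata.justOk) 25 150 = true := by decide +kernel

theorem just_ok_175 : allFrom (gdata.justOk) 25 175 = true := by decide +kernel

theorem just_ok_200 : allFrom (gdata.justOk) 25 200 = true := by decide +kernel

theorem just_ok_225 : allFrom (gdata.justOk) 25 225 = true := by decide +kernel

theorem just_ok_250 : allFrom (gdata.justOk) 25 250 = true := by decide +kernel

theorem just_ok_275 : allFrom (gdata.justOk) 25 275 = true := by decide +kernel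

theorem just_ok_300 : allFrom (gdata.justOk) 25 300 = true := by decide +kernel

theorem just_ok_325 : allFrom (gdata.justOk) 25 325 = true := by decide +kernel

theorem just_ok_350 : allFrom (gdata.justOk) 25 350 = true := by decide +kernel

theorem just_ok_375 : allFrom (gdata.justOk) 25 375 = true := by decide +kernel

theorem just_ok_400 : allFrom (gdata.justOk) 25 400 = true := by decide +kernel

theorem just_ok_425 : allFrom (gdata.justOk) 25 425 = true := by decide +kernel

theorem just_ok_450 : allFrom (gdata.justOk) 25 450 = true := by decide +kernel

theorem just_ok_475 : allFrom (gdata.justOk) 25 475 = true := by decide +kernel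

theorem just_ok_500 : allFrom (gdata.justOk) 25 500 = true := by decide +kernel

theorem just_ok_525 : allFrom (gdata.justOk) 25 525 = true := by decide +kernel

theorem just_ok_550 : allFrom (gdata.justOk) 25 550 = true := by decide +kernel

theorem just_ok_575 : allFrom (gdata.justOk) 25 575 = true := by decide +kernel

theorem just_ok_600 : allFrom (gdata.justOk) 19 600 = true := by decide +kernel

end Cfsg.Agent.HNWord66.HNData
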