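import Cfsg.Agent.Lib.HNData66

/-!
Kernel checks of the certificate, part C.
-/

set_option autoImplicit false
set_option maxRecDepth 100000
set_option Elab.async false

namespace Cfsg.Agent.HNWord66.HNData

open Cfsg.Agent.CosetCertCore Cfsg.Agent.CosetCertTable Cfsg.Agent.HNWord66

theorem zt_ok_0 : allFrom (gdata.toMData.ztOk) 3 0 = true := by decide +kernel

theorem zt_ok_3 : allFrom (gdata.toMData.ztOk) 3 3 = true := by decide +kernel

theorem zt_ok_6 : allFrom (gdata.toMData.ztOk) 3 6 = true := by decide +kernel

theorem zt_ok_9 : allFrom (gdata.toMData.ztOk) 3 9 = true := by decide +kernel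

theorem zt_ok_12 : allFrom (gdata.toMData.ztOk) 3 12 = true := by decide +kernel

theorem zt_ok_15 : allFrom (gdata.toMData.ztOk) 3 15 = true := by decide +kernel

theorem zt_ok_18 : allFrom (gdata.toMData.ztOk) 3 18 = true := by decide +kernel

theorem zt_ok_21 : allFrom (gdata.toMData.ztOk) 3 21 = true := by decide +kernel

theorem zt_ok_24 : allFrom (gdata.toMData.ztOk) 3 24 = true := by decide +kernel

theorem zt_ok_27 : allFrom (gdata.toMData.ztOk) 3 27 = true := by decide +kernel

theorem zt_ok_30 : allFrom (gdata.toMData.ztOk) 3 30 = true := by decide +kernel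

end Cfsg.Agent.HNWord66.HNData
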