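import Cfsg.Agent.Lib.HNData66

/-!
Kernel checks of the certificate, part D.
-/

set_option autoImplicit false
set_option maxRecDepth 100000
set_option Elab.async false

namespace Cfsg.Agent.HNWord66.HNData

open Cfsg.Agent.CosetCertCore Cfsg.Agent.CosetCertTable Cfsg.Agent.HNWord66

theorem cov_ok_0 : allFrom (gdata.toMData.covOk) 1 0 = true := by decide +kernel

theorem cov_ok_1 : allFrom (gdata.toMData.covOk) 1 1 = true := by decide +kernel

theorem cov_ok_2 : allFrom (gdata.toMData.covOk) 1 2 = true := by decide +kernel

theorem cov_ok_3 : allFrom (gdata.toMData.covOk) 1 3 = true := by decide +kernel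

theorem cov_ok_4 : allFrom (gdata.toMData.covOk) 1 4 = true := by decide +kernel

theorem cov_ok_5 : allFrom (gdata.toMData.covOk) 1 5 = true := by decide +kernel

theorem cov_ok_6 : allFrom (gdata.toMData.covOk) 1 6 = true := by decide +kernel

theorem cov_ok_7 : allFrom (gdata.toMData.covOk) 1 7 = true := by decide +kernel

theorem cov_ok_8 : allFrom (gdata.toMData.covOk) 1 8 = true := by decide +kernel

theorem cov_ok_9 : allFrom (gdata.toMData.covOk) 1 9 = true := by decide +kernel

theorem cov_ok_10 : allFrom (gdata.toMData.covOk) 1 10 = true := by decide +kernel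

theorem cov_ok_11 : allFrom (gdata.toMData.covOk) 1 11 = true := by decide +kernel

theorem cov_ok_12 : allFrom (gdata.toMData.covOk) 1 12 = true := by decide +kernel

theorem cov_ok_13 : allFrom (gdata.toMData.covOk) 1 13 = true := by decide +kernel

theorem cov_ok_14 : allFrom (gdata.toMData.covOk) 1 14 = true := by decide +kernel

theorem cov_ok_15 : allFrom (gdata.toMData.covOk) 1 15 = true := by decide +kernel

theorem cov_ok_16 : allFrom (gdata.toMData.covOk) 1 16 = true := by decide +kernel

end Cfsg.Agent.HNWord66.HNData
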