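import Cfsg.Agent.Lib.HNData66

/-!
Kernel checks of the certificate, part E.
-/

set_option autoImplicit false
set_option maxRecDepth 100000
set_option Elab.async false

namespace Cfsg.Agent.HNWord66.HNData

open Cfsg.Agent.CosetCertCore Cfsg.Agent.CosetCertTable Cfsg.Agent.HNWord66

theorem cov_ok_17 : allFrom (gdata.toMData.covOk) 1 17 = true := by decide +kernel

theorem cov_ok_18 : allFrom (gdata.toMData.covOk) 1 18 = true := by decide +kernel

theorem cov_ok_19 : allFrom (gdata.toMData.covOk) 1 19 = true := by decide +kernel

theorem cov_ok_20 : allFrom (gdata.toMData.covOk) 1 20 = true := by decide +kernel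

theorem cov_ok_21 : allFrom (gdata.toMData.covOk) 1 21 = true := by decide +kernel

theorem cov_ok_22 : allFrom (gdata.toMData.covOk) 1 22 = true := by decide +kernel

theorem cov_ok_23 : allFrom (gdata.toMData.covOk) 1 23 = true := by decide +kernel

theorem cov_ok_24 : allFrom (gdata.toMData.covOk) 1 24 = true := by decide +kernel

theorem cov_ok_25 : allFrom (gdata.toMData.covOk) 1 25 = true := by decide +kernel

theorem cov_ok_26 : allFrom (gdata.toMData.covOk) 1 26 = true := by decide +kernel

theorem cov_ok_27 : allFrom (gdata.toMData.covOk) 1 27 = true := by decide +kernel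

theorem cov_ok_28 : allFrom (gdata.toMData.covOk) 1 28 = true := by decide +kernel

theorem cov_ok_29 : allFrom (gdata.toMData.covOk) 1 29 = true := by decide +kernel

theorem cov_ok_30 : allFrom (gdata.toMData.covOk) 1 30 = true := by decide +kernel

theorem cov_ok_31 : allFrom (gdata.toMData.covOk) 1 31 = true := by decide +kernel

theorem cov_ok_32 : allFrom (gdata.toMData.covOk) 1 32 = true := by decide +kernel

end Cfsg.Agent.HNWord66.HNData
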