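import Cfsg.Agent.Lib.HNData66

/-!
Kernel checks of the certificate, part F.
-/

set_option autoImplicit false
set_option maxRecDepth 100000
set_option Elab.async false

namespace Cfsg.Agent.HNWord66.HNData

open Cfsg.Agent.CosetCertCore Cfsg.Agent.CosetCertTable Cfsg.Agent.HNWord66

theorem wit_ok_0 : allFrom (gdata.toMData.toData.witOk) 3 0 = true := by decide +kernel

theorem wit_ok_3 : allFrom (gdata.toMData.toData.witOk) 3 3 = true := by decide +kernel

theorem wit_ok_6 : allFrom (gdata.toMData.toData.witOk) 3 6 = true := by decide +kernel

theorem wit_ok_9 : allFrom (gdata.toMData.toData.witOk) 3 9 = true := by decide +kernel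

theorem wit_ok_12 : allFrom (gdata.toMData.toData.witOk) 3 12 = true := by decide +kernel

theorem wit_ok_15 : allFrom (gdata.toMData.toData.witOk) 3 15 = true := by decide +kernel

theorem wit_ok_18 : allFrom (gdata.toMData.toData.witOk) 3 18 = true := by decide +kernel

theorem wit_ok_21 : allFrom (gdata.toMData.toData.witOk) 3 21 = true := by decide +kernel

theorem wit_ok_24 : allFrom (gdata.toMData.toData.witOk) 3 24 = true := by decide +kernel

theorem wit_ok_27 : allFrom (gdata.toMData.toData.witOk) 3 27 = true := by decide +kernel

theorem wit_ok_30 : allFrom (gdata.toMData.toData.witOk) 3 30 = true := by decide +kernel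

theorem stab_ok_0 : allFrom (gdata.toMData.toData.stabOk) 3 0 = true := by decide +kernel

theorem stab_ok_3 : allFrom (gdata.toMData.toData.stabOk) 3 3 = true := by decide +kernel

theorem stab_ok_6 : allFrom (gdata.toMData.toData.stabOk) 3 6 = true := by decide +kernel

theorem stab_ok_9 : allFrom (gdata.toMData.toData.stabOk) 3 9 = true := by decide +kernel

theorem stab_ok_12 : allFrom (gdata.toMData.toData.stabOk) 3 12 = true := by decide +kernel

theorem stab_ok_15 : allFrom (gdata.toMData.toData.stabOk) 3 15 = true := by decide +kernel

theorem stab_ok_18 : allFrom (gdata.toMData.toData.stabOk) 3 18 = true := by decide +kernel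

theorem stab_ok_21 : allFrom (gdata.toMData.toData.stabOk) 3 21 = true := by decide +kernel

theorem stab_ok_24 : allFrom (gdata.toMData.toData.stabOk) 3 24 = true := by decide +kernel

theorem stab_ok_27 : allFrom (gdata.toMData.toData.stabOk) 3 27 = true := by decide +kernel

theorem stab_ok_30 : allFrom (gdata.toMData.toData.stabOk) 3 30 = true := by decide +kernel

theorem loop_ok_0 : allFrom (gdata.toMData.toData.loopOk) 11 0 = true := by decide +kernel

theorem loop_ok_11 : allFrom (gdata.toMData.toData.loopOk) 11 11 = true := by decide +kernel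

theorem loop_ok_22 : allFrom (gdata.toMData.toData.loopOk) 11 22 = true := by decide +kernel

theorem hIdx_ok_0 : allFrom (gdata.toMData.hIdxOk) 50 0 = true := by decide +kernel

theorem hIdx_ok_50 : allFrom (gdata.toMData.hIdxOk) 50 50 = true := by decide +kernel

theorem hIdx_ok_100 : allFrom (gdata.toMData.hIdxOk) 50 100 = true := by decide +kernel

theorem hIdx_ok_150 : allFrom (gdata.toMData.hIdxOk) 50 150 = true := by decide +kernel

theorem hIdx_ok_200 : allFrom (gdata.toMData.hIdxOk) 50 200 = true := by decide +kernel

theorem hIdx_ok_250 : allFrom (gdata.toMData.hIdxOk) 50 250 = true := by decide +kernel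

theorem hIdx_ok_300 : allFrom (gdata.toMData.hIdxOk) 50 300 = true := by decide +kernel

theorem hIdx_ok_350 : allFrom (gdata.toMData.hIdxOk) 50 350 = true := by decide +kernel

theorem hIdx_ok_400 : allFrom (gdata.toMData.hIdxOk) 50 400 = true := by decide +kernel

theorem hIdx_ok_450 : allFrom (gdata.toMData.hIdxOk) 50 450 = true := by decide +kernel

theorem hIdx_ok_500 : allFrom (gdata.toMData.hIdxOk) 50 500 = true := by decide +kernel

theorem hIdx_ok_550 : allFrom (gdata.toMData.hIdxOk) 50 550 = true := by decide +kernel

theorem hIdx_ok_600 : allFrom (gdata.toMData.hIdxOk) 19 600 = true := by decide +kernel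

theorem cmp_ok_0 : allFrom (gdata.toMData.cmpOk) 3 0 = true := by decide +kernel

theorem cmp_ok_3 : allFrom (gdata.toMData.cmpOk) 3 3 = true := by decide +kernel

theorem cmp_ok_6 : allFrom (gdata.toMData.cmpOk) 3 6 = true := by decide +kernel

theorem cmp_ok_9 : allFrom (gdata.toMData.cmpOk) 3 9 = true := by decide +kernel

theorem cmp_ok_12 : allFrom (gdata.toMData.cmpOk) 3 12 = true := by decide +kernel

theorem cmp_ok_15 : allFrom (gdata.toMData.cmpOk) 3 15 = true := by decide +kernel

theorem cmp_ok_18 : allFrom (gdata.toMData.cmpOk) 3 18 = true := by decide +kernel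

theorem cmp_ok_21 : allFrom (gdata.toMData.cmpOk) 3 21 = true := by decide +kernel

theorem cmp_ok_24 : allFrom (gdata.toMData.cmpOk) 3 24 = true := by decide +kernel

theorem cmp_ok_27 : allFrom (gdata.toMData.cmpOk) 3 27 = true := by decide +kernel

theorem cmp_ok_30 : allFrom (gdata.toMData.cmpOk) 3 30 = true := by decide +kernel

theorem compat_ok_0 : allFrom (gdata.toMData.compatOk) 3 0 = true := by decide +kernel

theorem compat_ok_3 : allFrom (gdata.toMData.compatOk) 3 3 = true := by decide +kernel

theorem compat_ok_6 : allFrom (gdata.toMData.compatOk) 3 6 = true := by decide +kernel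

theorem compat_ok_9 : allFrom (gdata.toMData.compatOk) 3 9 = true := by decide +kernel

theorem compat_ok_12 : allFrom (gdata.toMData.compatOk) 3 12 = true := by decide +kernel

theorem compat_ok_15 : allFrom (gdata.toMData.compatOk) 3 15 = true := by decide +kernel

theorem compat_ok_18 : allFrom (gdata.toMData.compatOk) 3 18 = true := by decide +kernel

theorem compat_ok_21 : allFrom (gdata.toMData.compatOk) 3 21 = true := by decide +kernel

theorem compat_ok_24 : allFrom (gdata.toMData.compatOk) 3 24 = true := by decide +kernel

theorem compat_ok_27 : allFrom (gdata.toMData.compatOk) 3 27 = true := by decide +kernel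

theorem compat_ok_30 : allFrom (gdata.toMData.compatOk) 3 30 = true := by decide +kernel

theorem tFact_ok_0 : allFrom (gdata.toMData.tFactOk) 100 0 = true := by decide +kernel

theorem tFact_ok_100 : allFrom (gdata.toMData.tFactOk) 100 100 = true := by decide +kernel

theorem tFact_ok_200 : allFrom (gdata.toMData.tFactOk) 100 200 = true := by decide +kernel

theorem tFact_ok_300 : allFrom (gdata.toMData.tFactOk) 100 300 = true := by decide +kernel

theorem tFact_ok_400 : allFrom (gdata.toMData.tFactOk) 100 400 = true := by decide +kernel

theorem tFact_ok_500 : allFrom (gdata.toMData.tFactOk) 100 500 = true := by decide +kernel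

theorem tFact_ok_600 : allFrom (gdata.toMData.tFactOk) 19 600 = true := by decide +kernel

theorem tgo_ok_0 : allFrom (gdata.tgoOk) 11 0 = true := by decide +kernel

theorem tgo_ok_11 : allFrom (gdata.tgoOk) 11 11 = true := by decide +kernel

theorem tgo_ok_22 : allFrom (gdata.tgoOk) 11 22 = true := by decide +kernel

end Cfsg.Agent.HNWord66.HNData
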