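import Cfsg.Agent.Lib.HNCosets66
import Mathlib.GroupTheory.Index

/-!
The presented Harada-Norton group acts on the model: the index of the subgroup generated by the first three
generators, the order of the group, and the maximality of that subgroup.
-/

set_option autoImplicit false
set_option linter.style.haveILetI false

namespace Cfsg.Agent.HNWord66

open Cfsg Cfsg.Spor
open Cfsg.Agent.CosetCertCore Cfsg.Agent.CosetCertTable Cfsg.Agent.HNTwoHSGroup66

open HNTwoHSEmbed66 (q rels_HN)

namespace GData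

variable {D : GData} (hD : D.Checks)
include hD

/-- The images of the four generators on the model. -/
noncomputable def gimM : HN.Gen → Equiv.Perm D.Mod
  | .x => MulAction.toPermHom P3 D.Mod gA
  | .y => MulAction.toPermHom P3 D.Mod gB
  | .z => MulAction.toPermHom P3 D.Mod gC
  | .t => (MData.tauM hD.model)⁻¹

theorem gimM_rels : ∀ r ∈ coxRelators HN.edges ∪ {r | r ∈ HN.extra},
    FreeGroup.lift (gimM hD) r = 1 := by
  set A := MulAction.toPermHom P3 D.Mod gA with hA
  set B := MulAction.toPermHom P3 D.Mod gB with hB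
  set C := MulAction.toPermHom P3 D.Mod gC with hC
  set T := MData.tauM hD.model with hT
  have hAi : ∀ p, A⁻¹ p = gA⁻¹ • p := fun p => by rw [hA, ← map_inv]; rfl
  have hBi : ∀ p, B⁻¹ p = gB⁻¹ • p := fun p => by rw [hB, ← map_inv]; rfl
  have h5 : T ^ 5 = 1 := (MData.SM hD.model).five
  have hTi : T⁻¹ = T ^ 4 := inv_eq_of_mul_eq_one_right (by rw [← pow_succ']; exact h5)
  have ha : T * A⁻¹ = A⁻¹ * T ^ 2 := Equiv.ext fun p => by
    rw [Equiv.Perm.mul_apply, Equiv.Perm.mul_apply, hAi, hAi]
    exact (MData.SM hD.model).moveA p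
  have hb : T * B⁻¹ = B⁻¹ * T := Equiv.ext fun p => by
    rw [Equiv.Perm.mul_apply, Equiv.Perm.mul_apply, hBi, hBi]
    exact (MData.SM hD.model).moveB p
  have r11 : T⁻¹ ^ 5 = 1 := by rw [inv_pow, h5, inv_one]
  have r12 : A⁻¹ * T⁻¹ * A * T⁻¹ ^ 2 = 1 := by
    have e : T ^ 2 * A⁻¹ = A⁻¹ * T⁻¹ := by
      rw [hTi, show T ^ 4 = T ^ 2 * T ^ 2 from (pow_add T 2 2), sq, mul_assoc, ha, ← mul_assoc, ha,
        sq, mul_assoc]
    rw [← e, inv_pow]
    group
  have r13 : T⁻¹⁻¹ * B⁻¹ * T⁻¹ * B = 1 := by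
    rw [inv_inv, hb, mul_assoc (B⁻¹), mul_inv_cancel, mul_one, inv_mul_cancel]
  have r14 : (C * T⁻¹) ^ 3 = 1 := by
    have hz : C⁻¹ = C := by rw [hC, ← map_inv, gC_inv]
    have e : (T * C) ^ 3 = 1 := Equiv.ext fun p => by
      have h := MData.braid hD.model p
      have e4 : (val [4])⁻¹ = gC := by simp [val_cons, val_nil, gl, gC_inv]
      simp only [ztR, Space.ract, Space.tact, Space.pw, e4, pow_one] at h
      rw [pow_succ, pow_succ, pow_one]
      exact h
    rw [← inv_inj, inv_one, ← inv_pow, mul_inv_rev, inv_inv, hz]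
    exact e
  have h := rels_gen
  have m1 := congrArg (MulAction.toPermHom P3 D.Mod) h.r1
  have m2 := congrArg (MulAction.toPermHom P3 D.Mod) h.r2
  have m3 := congrArg (MulAction.toPermHom P3 D.Mod) h.r3
  have m4 := congrArg (MulAction.toPermHom P3 D.Mod) h.r4
  have m5 := congrArg (MulAction.toPermHom P3 D.Mod) h.r5
  have m6 := congrArg (MulAction.toPermHom P3 D.Mod) h.r6
  have m7 := congrArg (MulAction.toPermHom P3 D.Mod) h.r7
  have m8 := congrArg (MulAction.toPermHom P3 D.Mod) h.r8
  have m9 := congrArg (MulAction.toPermHom P3 D.Mod) h.r9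
  have m10 := congrArg (MulAction.toPermHom P3 D.Mod) h.r10
  simp only [map_mul, map_pow, map_inv, map_one, ← hA, ← hB, ← hC] at m1 m2 m3 m4 m5 m6 m7 m8 m9 m10
  rintro r (⟨u, hu, -⟩ | hr)
  · simp [coxNodes, HN.edges] at hu
  · revert r
    show ∀ r ∈ HN.extra, FreeGroup.lift (gimM hD) r = 1
    simp only [HN.extra, List.forall_mem_cons, map_mul, map_pow, map_inv, FreeGroup.lift_apply_of,
      gimM, List.not_mem_nil, false_implies, implies_true, and_true, ← hA, ← hB, ← hC, ← hT]
    exact ⟨m1, m2, m3, m4, m5, m6, m7, m8, m9, m10, r11, r12, r13, r14⟩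

/-- The action on the model. -/
noncomputable def act : HN →* Equiv.Perm D.Mod := PresentedGroup.toGroup (gimM_rels hD)

theorem act_phi (g : P3) (p : D.Mod) : act hD (phi g) p = g • p := by
  have h : (act hD).comp phi = MulAction.toPermHom P3 D.Mod := by
    refine PresentedGroup.ext fun a => ?_
    cases a
    · exact (congrArg _ phi_A).trans (PresentedGroup.toGroup.of (gimM_rels hD))
    · exact (congrArg _ phi_B).trans (PresentedGroup.toGroup.of (gimM_rels hD))
    · exact (congrArg _ phi_C).trans (PresentedGroup.toGroup.of (gimM_rels hD))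
  rw [← MonoidHom.comp_apply, h]
  rfl

theorem act_t (p : D.Mod) : act hD (q HN.t)⁻¹ p = MData.tauM hD.model p := by
  rw [map_inv, show act hD (q HN.t) = (MData.tauM hD.model)⁻¹ from
    PresentedGroup.toGroup.of (gimM_rels hD), inv_inv]

theorem reach_all : ∀ j < D.n, ∃ g : HN, act hD g (D.vX 0) = D.vX j := by
  intro j
  induction j using Nat.strong_induction_on with
  | _ j ih =>
    intro hj
    rcases Nat.eq_zero_or_pos j with rfl | hpos
    · exact ⟨1, by rw [map_one]; rfl⟩
    have h := hD.model.reachNodes j hj hpos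
    simp only [MData.reachOk, force_eq, Bool.and_eq_true, Nat.blt_eq] at h
    obtain ⟨hm, h⟩ := h
    have hf := MData.hFM hD.model _ hm
    generalize D.fact (D.reach.getD j D.nf) = f at h hf
    cases f with
    | h i w b =>
      simp only [Bool.and_eq_true, Nat.blt_eq, Nat.beq_eq] at h
      obtain ⟨hi, rfl⟩ := h
      obtain ⟨g, hg⟩ := ih i hi (hi.trans hj)
      refine ⟨phi (val (dec w))⁻¹ * g, ?_⟩
      rw [map_mul, Equiv.Perm.mul_apply, hg, act_phi]
      exact hf
    | t i e b l =>
      simp only [Bool.and_eq_true, Nat.blt_eq, Nat.beq_eq] at h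
      obtain ⟨hi, rfl⟩ := h
      obtain ⟨g, hg⟩ := ih i hi (hi.trans hj)
      refine ⟨phi (val (dec l)) * (q HN.t)⁻¹ ^ e * g, ?_⟩
      have ht : ∀ n p, act hD ((q HN.t)⁻¹ ^ n) p = (MData.tauM hD.model ^ n) p := fun n p => by
        rw [map_pow, show act hD (q HN.t)⁻¹ = MData.tauM hD.model from Equiv.ext (act_t hD)]
      rw [map_mul, map_mul, Equiv.Perm.mul_apply, Equiv.Perm.mul_apply, hg, ht, act_phi,
        show (MData.tauM hD.model ^ e) (D.vX i) = Space.pw (dec l) (D.vX b) from hf, Space.pw,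
        smul_inv_smul]

theorem transitive (p : D.Mod) : ∃ g : HN, act hD g (D.vX 0) = p := by
  obtain ⟨⟨i, l⟩, hi, -, rfl⟩ := MData.exists_rep hD.model p
  obtain ⟨g, hg⟩ := reach_all hD i hi
  exact ⟨phi (val l)⁻¹ * g, by rw [map_mul, Equiv.Perm.mul_apply, hg, act_phi]; rfl⟩

theorem size_zero : D.K 0 = ⊤ ∧ D.size.getD 0 0 = 1 := by
  have h := hD.model.kUp 0 (by norm_num)
  simp only [MData.kUpOk, show Nat.beq 0 0 = true from rfl, cond_true, Bool.and_eq_true,
    Nat.beq_eq] at h
  refine ⟨?_, h.2⟩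
  rw [MData.K]
  show sub (D.kg.getD 0 []) = ⊤
  rw [MData.eqList_eq h.1, sub_allGens]

theorem kof_zero : D.kof 0 = 0 := Fin.ext hD.model.node0

theorem fix_vX (g : P3) : g • D.vX 0 = D.vX 0 := by
  have key : ∀ p : D.Mod, p.1 = 0 → g • p = p := by
    rintro ⟨k, c⟩ (rfl : k = 0)
    induction c using QuotientGroup.induction_on with
    | H h =>
      show (⟨0, QuotientGroup.mk (g * h)⟩ : D.Mod) = ⟨0, QuotientGroup.mk h⟩
      refine congrArg (Sigma.mk 0) (QuotientGroup.eq.mpr ?_)
      rw [(size_zero hD).1]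
      exact Subgroup.mem_top _
  exact key _ (kof_zero hD)

theorem orbit_data : HXYZ.index = 1539000 ∧
    ∀ g : HN, act hD g (D.vX 0) = D.vX 0 → g ∈ HXYZ := by
  haveI : Finite D.Mod := MData.finite_Mod hD.model
  haveI := finite_of_checks hD
  letI : MulAction HN D.Mod := MulAction.compHom D.Mod (act hD)
  have hsurj : Function.Surjective fun g : HN => g • D.vX 0 := transitive hD
  have hsub : HXYZ ≤ MulAction.stabilizer HN (D.vX 0) := by
    rw [← range_phi]
    rintro _ ⟨g, rfl⟩
    exact (act_phi hD g _).trans (fix_vX hD g)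
  have hM := MData.card_Mod hD.model
  have hst : (MulAction.stabilizer HN (D.vX 0)).index = Nat.card D.Mod := by
    rw [Subgroup.index_eq_card]
    refine Nat.card_congr ((MulAction.orbitEquivQuotientStabilizer HN (D.vX 0)).symm.trans
      ((Equiv.setCongr ?_).trans (Equiv.Set.univ D.Mod)))
    exact Set.eq_univ_of_forall fun p => by
      obtain ⟨g, hg⟩ := hsurj p
      exact ⟨g, hg⟩
  have hle : HXYZ.index ≤ 1539000 := by
    rw [Subgroup.index_eq_card]; exact (cos_le hD).2
  have hd := Subgroup.index_dvd_of_le hsub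
  have hne : HXYZ.index ≠ 0 := Subgroup.index_ne_zero_of_finite
  have he := Nat.le_of_dvd (Nat.pos_of_ne_zero hne) hd
  rw [hst] at he
  refine ⟨by omega, fun g hg => ?_⟩
  have heq : HXYZ = MulAction.stabilizer HN (D.vX 0) := by
    refine le_antisymm hsub ?_
    rw [← Subgroup.relIndex_eq_one]
    have h := Subgroup.relIndex_mul_index hsub
    rw [hst, show Nat.card D.Mod = HXYZ.index by omega] at h
    exact (Nat.mul_eq_right hne).mp h
  rw [heq]
  exact hg

theorem index_eq : HXYZ.index = 1539000 := (orbit_data hD).1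

theorem card_Mod_eq : Nat.card D.Mod = 1539000 := by
  haveI : Finite D.Mod := MData.finite_Mod hD.model
  haveI := finite_of_checks hD
  refine le_antisymm ?_ (MData.card_Mod hD.model)
  rw [← index_eq hD, Subgroup.index_eq_card]
  let f : Cos → D.Mod := Quotient.lift (fun g : HN => act hD g (D.vX 0)) fun a b hab => by
    obtain ⟨c, hc⟩ := (range_phi ▸ QuotientGroup.leftRel_apply.mp hab : a⁻¹ * b ∈ phi.range)
    rw [show b = a * phi c by rw [hc]; group, map_mul, Equiv.Perm.mul_apply, act_phi, fix_vX hD]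
  exact Nat.card_le_card_of_surjective f fun p => by
    obtain ⟨g, hg⟩ := transitive hD p
    exact ⟨QuotientGroup.mk g, hg⟩

theorem eq_one_of_fix {g : P3} (hg : ∀ p : D.Mod, g • p = p) : g = 1 := by
  have hT := hD.model.base.faithful
  refine hT.inj g fun i => ?_
  have h := hD.model.reachBase
  simp only [MData.reachBaseOk, allFrom_iff, Nat.beq_eq] at h
  have hw := h i (Nat.zero_le _) (by omega)
  generalize dec (D.reachBase.getD i 0) = w at hw
  have hb : (Tabs.pi hT.ok (val w))⁻¹ (⟨0, by norm_num⟩ : Fin 1408) = Tabs.bpt i := by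
    refine Fin.ext ((Tabs.run_val hT.ok w _).trans ?_)
    rw [hw]
    fin_cases i <;> rfl
  have hK : ∀ x ∈ D.K 1, Tabs.pi hT.ok x ⟨0, by norm_num⟩ = ⟨0, by norm_num⟩ := by
    intro x hx
    rw [MData.K, sub] at hx
    refine Subgroup.closure_induction (p := fun x _ => Tabs.pi hT.ok x _ = _) ?_ ?_ ?_ ?_ hx
    · rintro x ⟨n, hn, rfl⟩
      have hf := hD.model.fix1
      simp only [MData.fixOk, List.all_eq_true, Nat.beq_eq] at hf
      have e : (Tabs.pi hT.ok (val (dec n)))⁻¹ (⟨0, by norm_num⟩ : Fin 1408) = ⟨0, by norm_num⟩ :=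
        Fin.ext ((Tabs.run_val hT.ok _ _).trans (hf n hn))
      conv_lhs => rw [← e]
      exact Equiv.apply_symm_apply _ _
    · rw [map_one]; rfl
    · intro a b _ _ ha hb
      rw [map_mul, Equiv.Perm.mul_apply, hb, ha]
    · intro a _ ha
      rw [map_inv]
      conv_lhs => rw [← ha]
      exact Equiv.symm_apply_apply _ _
  have hmem : val w * g * (val w)⁻¹ ∈ D.K 1 := by
    have := hg ⟨1, QuotientGroup.mk (val w)⁻¹⟩
    have e : (QuotientGroup.mk (g * (val w)⁻¹) : P3 ⧸ D.K 1) = QuotientGroup.mk (val w)⁻¹ :=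
      eq_of_heq (Sigma.mk.inj_iff.mp this).2
    have e2 := QuotientGroup.eq.mp e.symm
    rwa [inv_inv, ← mul_assoc] at e2
  have e3 := hK _ hmem
  rw [map_mul, map_mul, map_inv, Equiv.Perm.mul_apply, Equiv.Perm.mul_apply, hb] at e3
  have e4 : Tabs.pi hT.ok g (Tabs.bpt i) = Tabs.bpt i := by
    conv_rhs => rw [← hb, ← e3]
    exact (Equiv.symm_apply_apply _ _).symm
  conv_lhs => rw [← e4]
  exact Equiv.symm_apply_apply _ _

theorem phi_injective : Function.Injective phi := by
  rw [← MonoidHom.ker_eq_bot_iff, eq_bot_iff]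
  intro g hg
  rw [Subgroup.mem_bot]
  refine eq_one_of_fix hD fun p => ?_
  rw [← act_phi hD, MonoidHom.mem_ker.mp hg, map_one]
  rfl

theorem card_HN : Nat.card HN = 273030912000000 := by
  rw [← Subgroup.card_mul_index HXYZ, index_eq hD, ← range_phi,
    Nat.card_congr (MonoidHom.ofInjective (phi_injective hD)).toEquiv.symm, MData.card_P3 hD.model]

theorem core_eq : HXYZ.normalCore = ⊥ := by
  rw [eq_bot_iff]
  intro x hx
  obtain ⟨g, rfl⟩ := (range_phi.symm ▸ Subgroup.normalCore_le _ hx : x ∈ phi.range)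
  rw [Subgroup.mem_bot, eq_one_of_fix hD (g := g) ?_, map_one]
  intro p
  obtain ⟨h, rfl⟩ := transitive hD p
  have h1 : h⁻¹ * phi g * h ∈ HXYZ :=
    Subgroup.normalCore_le _ (by
      have := (Subgroup.normalCore_normal HXYZ).conj_mem _ hx h⁻¹
      rwa [inv_inv] at this)
  obtain ⟨c, hc⟩ := (range_phi.symm ▸ h1 : h⁻¹ * phi g * h ∈ phi.range)
  rw [← act_phi hD, ← Equiv.Perm.mul_apply, ← map_mul, show phi g * h = h * phi c by rw [hc]; group,
    map_mul, Equiv.Perm.mul_apply, act_phi, fix_vX hD]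

theorem size_exact (k : Fin 9) : (D.K k).index = D.size.getD k 0 := by
  haveI := finite_P3' hD.model.base.faithful.ok
  have h := card_Mod_eq hD
  rw [Nat.card_sigma, ← hD.model.sizeSum] at h
  simp only [← Subgroup.index_eq_card] at h
  exact ((Finset.sum_eq_sum_iff_of_le fun i _ => MData.size_le_index hD.model i).mp h.symm k
    (Finset.mem_univ k)).symm

theorem coatom : IsCoatom HXYZ := by
  haveI : Finite D.Mod := MData.finite_Mod hD.model
  haveI := finite_P3' hD.model.base.faithful.ok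
  haveI := finite_of_checks hD
  classical
  refine ⟨fun h => ?_, fun L hL => ?_⟩
  · have := index_eq hD
    rw [h, Subgroup.index_top] at this
    omega
  letI : MulAction HN D.Mod := MulAction.compHom D.Mod (act hD)
  have hp : ∀ g : P3, ∀ p : D.Mod, phi g • p = g • p := fun g p => act_phi hD g p
  have hstab : MulAction.stabilizer HN (D.vX 0) = HXYZ := by
    refine le_antisymm (fun g hg => (orbit_data hD).2 g hg) ?_
    rw [← range_phi]
    rintro _ ⟨g, rfl⟩
    exact (hp g _).trans (fix_vX hD g)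
  -- the orbit of the larger subgroup is a union of suborbits
  let B : Set D.Mod := MulAction.orbit L (D.vX 0)
  let I : Finset (Fin 9) := Finset.univ.filter fun k => ∃ p ∈ B, p.1 = k
  have hB : ∀ p : D.Mod, p ∈ B ↔ p.1 ∈ I := by
    intro p
    simp only [I, Finset.mem_filter, Finset.mem_univ, true_and]
    refine ⟨fun h => ⟨p, h, rfl⟩, ?_⟩
    rintro ⟨⟨k, c'⟩, ⟨l, hl⟩, e⟩
    obtain ⟨k', c⟩ := p
    change k = k' at e
    subst e
    induction c using QuotientGroup.induction_on with
    | H a =>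
      induction c' using QuotientGroup.induction_on with
      | H b =>
        refine ⟨⟨phi (a * b⁻¹), hL.le (range_phi ▸ ⟨_, rfl⟩)⟩ * l, ?_⟩
        show _ • D.vX 0 = _
        rw [mul_smul, show l • D.vX 0 = _ from hl]
        show phi (a * b⁻¹) • (⟨k, QuotientGroup.mk b⟩ : D.Mod) = ⟨k, QuotientGroup.mk a⟩
        rw [hp]
        show (⟨k, QuotientGroup.mk (a * b⁻¹ * b)⟩ : D.Mod) = _
        rw [inv_mul_cancel_right]
  have hcard : Nat.card B = ∑ k ∈ I, D.size.getD k 0 := by
    rw [Nat.card_congr (Equiv.subtypeEquivRight (p := (· ∈ B)) (q := fun p : D.Mod => p.1 ∈ I) hB),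
      Nat.card_congr (Equiv.subtypeSigmaEquiv _ (fun k : Fin 9 => k ∈ I) : _ ≃ _), Nat.card_sigma,
      Finset.sum_coe_sort I (fun k => Nat.card (P3 ⧸ D.K k))]
    exact Finset.sum_congr rfl fun k _ => by rw [← Subgroup.index_eq_card, size_exact hD]
  have hrel : Nat.card B = HXYZ.relIndex L := by
    rw [← hstab, Subgroup.relIndex, Subgroup.index_eq_card]
    refine (Nat.card_congr (MulAction.orbitEquivQuotientStabilizer L (D.vX 0))).trans ?_
    congr 2
  have h0 : (0 : Fin 9) ∈ I :=
    Finset.mem_filter.mpr ⟨Finset.mem_univ _, D.vX 0, MulAction.mem_orbit_self _, kof_zero hD⟩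
  have hdvd : (∑ k ∈ I, D.size.getD k 0) ∣ 1539000 := by
    rw [← hcard, hrel, ← index_eq hD, ← Subgroup.relIndex_mul_index hL.le]
    exact Dvd.intro _ rfl
  rcases hD.model.blocks I h0 hdvd with h | h
  · exfalso
    rw [h, Finset.sum_singleton, hrel, show ((0 : Fin 9) : Nat) = 0 from rfl, (size_zero hD).2,
      Subgroup.relIndex_eq_one] at hcard
    exact hL.not_ge hcard
  · rw [h, hD.model.sizeSum, hrel] at hcard
    have := Subgroup.relIndex_mul_index hL.le
    rw [hcard, index_eq hD] at this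
    exact Subgroup.index_eq_one.mp ((Nat.mul_eq_left (by norm_num)).mp this)

end GData

end Cfsg.Agent.HNWord66
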