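import Cfsg.Agent.Lib.HNCheckA66
import Cfsg.Agent.Lib.HNCheckB66
import Cfsg.Agent.Lib.HNCheckC66
import Cfsg.Agent.Lib.HNCheckD66
import Cfsg.Agent.Lib.HNCheckE66
import Cfsg.Agent.Lib.HNCheckF66
import Cfsg.Agent.Lib.HNIndex66

/-!
The certificate passes.
-/

set_option autoImplicit false
set_option maxRecDepth 100000
set_option Elab.async false

namespace Cfsg.Agent.HNWord66.HNData

open Cfsg.Agent.CosetCertCore Cfsg.Agent.CosetCertTable Cfsg.Agent.HNWord66

theorem pts_ok : ∀ i < 1408, (tabs.ptOk relWords) i = true := by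
  intro i hi
  by_cases h0 : i < 176
  · exact (allFrom_iff _ _ _).mp pts_ok_0 i (by omega) (by omega)
  by_cases h176 : i < 352
  · exact (allFrom_iff _ _ _).mp pts_ok_176 i (by omega) (by omega)
  by_cases h352 : i < 528
  · exact (allFrom_iff _ _ _).mp pts_ok_352 i (by omega) (by omega)
  by_cases h528 : i < 704
  · exact (allFrom_iff _ _ _).mp pts_ok_528 i (by omega) (by omega)
  by_cases h704 : i < 880
  · exact (allFrom_iff _ _ _).mp pts_ok_704 i (by omega) (by omega)
  by_cases h880 : i < 1056
  · exact (allFrom_iff _ _ _).mp pts_ok_880 i (by omega) (by omega)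
  by_cases h1056 : i < 1232
  · exact (allFrom_iff _ _ _).mp pts_ok_1056 i (by omega) (by omega)
  by_cases h1232 : i < 1408
  · exact (allFrom_iff _ _ _).mp pts_ok_1232 i (by omega) (by omega)
  exfalso
  omega

theorem kUp_ok : ∀ i < 9, (gdata.toMData.kUpOk) i = true := by
  intro i hi
  by_cases h0 : i < 1
  · exact (allFrom_iff _ _ _).mp kUp_ok_0 i (by omega) (by omega)
  by_cases h1 : i < 2
  · exact (allFrom_iff _ _ _).mp kUp_ok_1 i (by omega) (by omega)
  by_cases h2 : i < 3
  · exact (allFrom_iff _ _ _).mp kUp_ok_2 i (by omega) (by omega)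
  by_cases h3 : i < 4
  · exact (allFrom_iff _ _ _).mp kUp_ok_3 i (by omega) (by omega)
  by_cases h4 : i < 5
  · exact (allFrom_iff _ _ _).mp kUp_ok_4 i (by omega) (by omega)
  by_cases h5 : i < 6
  · exact (allFrom_iff _ _ _).mp kUp_ok_5 i (by omega) (by omega)
  by_cases h6 : i < 7
  · exact (allFrom_iff _ _ _).mp kUp_ok_6 i (by omega) (by omega)
  by_cases h7 : i < 8
  · exact (allFrom_iff _ _ _).mp kUp_ok_7 i (by omega) (by omega)
  by_cases h8 : i < 9
  · exact (allFrom_iff _ _ _).mp kUp_ok_8 i (by omega) (by omega)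
  exfalso
  omega

theorem just_ok : ∀ i < 619, (gdata.justOk) i = true := by
  intro i hi
  by_cases h0 : i < 25
  · exact (allFrom_iff _ _ _).mp just_ok_0 i (by omega) (by omega)
  by_cases h25 : i < 50
  · exact (allFrom_iff _ _ _).mp just_ok_25 i (by omega) (by omega)
  by_cases h50 : i < 75
  · exact (allFrom_iff _ _ _).mp just_ok_50 i (by omega) (by omega)
  by_cases h75 : i < 100
  · exact (allFrom_iff _ _ _).mp just_ok_75 i (by omega) (by omega)
  by_cases h100 : i < 125
  · exact (allFrom_iff _ _ _).mp just_ok_100 i (by omega) (by omega)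
  by_cases h125 : i < 150
  · exact (allFrom_iff _ _ _).mp just_ok_125 i (by omega) (by omega)
  by_cases h150 : i < 175
  · exact (allFrom_iff _ _ _).mp just_ok_150 i (by omega) (by omega)
  by_cases h175 : i < 200
  · exact (allFrom_iff _ _ _).mp just_ok_175 i (by omega) (by omega)
  by_cases h200 : i < 225
  · exact (allFrom_iff _ _ _).mp just_ok_200 i (by omega) (by omega)
  by_cases h225 : i < 250
  · exact (allFrom_iff _ _ _).mp just_ok_225 i (by omega) (by omega)
  by_cases h250 : i < 275
  · exact (allFrom_iff _ _ _).mp just_ok_250 i (by omega) (by omega)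
  by_cases h275 : i < 300
  · exact (allFrom_iff _ _ _).mp just_ok_275 i (by omega) (by omega)
  by_cases h300 : i < 325
  · exact (allFrom_iff _ _ _).mp just_ok_300 i (by omega) (by omega)
  by_cases h325 : i < 350
  · exact (allFrom_iff _ _ _).mp just_ok_325 i (by omega) (by omega)
  by_cases h350 : i < 375
  · exact (allFrom_iff _ _ _).mp just_ok_350 i (by omega) (by omega)
  by_cases h375 : i < 400
  · exact (allFrom_iff _ _ _).mp just_ok_375 i (by omega) (by omega)
  by_cases h400 : i < 425
  · exact (allFrom_iff _ _ _).mp just_ok_400 i (by omega) (by omega)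
  by_cases h425 : i < 450
  · exact (allFrom_iff _ _ _).mp just_ok_425 i (by omega) (by omega)
  by_cases h450 : i < 475
  · exact (allFrom_iff _ _ _).mp just_ok_450 i (by omega) (by omega)
  by_cases h475 : i < 500
  · exact (allFrom_iff _ _ _).mp just_ok_475 i (by omega) (by omega)
  by_cases h500 : i < 525
  · exact (allFrom_iff _ _ _).mp just_ok_500 i (by omega) (by omega)
  by_cases h525 : i < 550
  · exact (allFrom_iff _ _ _).mp just_ok_525 i (by omega) (by omega)
  by_cases h550 : i < 575
  · exact (allFrom_iff _ _ _).mp just_ok_550 i (by omega) (by omega)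
  by_cases h575 : i < 600
  · exact (allFrom_iff _ _ _).mp just_ok_575 i (by omega) (by omega)
  by_cases h600 : i < 619
  · exact (allFrom_iff _ _ _).mp just_ok_600 i (by omega) (by omega)
  exfalso
  omega

theorem zt_ok : ∀ i < 33, (gdata.toMData.ztOk) i = true := by
  intro i hi
  by_cases h0 : i < 3
  · exact (allFrom_iff _ _ _).mp zt_ok_0 i (by omega) (by omega)
  by_cases h3 : i < 6
  · exact (allFrom_iff _ _ _).mp zt_ok_3 i (by omega) (by omega)
  by_cases h6 : i < 9
  · exact (allFrom_iff _ _ _).mp zt_ok_6 i (by omega) (by omega)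
  by_cases h9 : i < 12
  · exact (allFrom_iff _ _ _).mp zt_ok_9 i (by omega) (by omega)
  by_cases h12 : i < 15
  · exact (allFrom_iff _ _ _).mp zt_ok_12 i (by omega) (by omega)
  by_cases h15 : i < 18
  · exact (allFrom_iff _ _ _).mp zt_ok_15 i (by omega) (by omega)
  by_cases h18 : i < 21
  · exact (allFrom_iff _ _ _).mp zt_ok_18 i (by omega) (by omega)
  by_cases h21 : i < 24
  · exact (allFrom_iff _ _ _).mp zt_ok_21 i (by omega) (by omega)
  by_cases h24 : i < 27
  · exact (allFrom_iff _ _ _).mp zt_ok_24 i (by omega) (by omega)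
  by_cases h27 : i < 30
  · exact (allFrom_iff _ _ _).mp zt_ok_27 i (by omega) (by omega)
  by_cases h30 : i < 33
  · exact (allFrom_iff _ _ _).mp zt_ok_30 i (by omega) (by omega)
  exfalso
  omega

theorem cov_ok : ∀ i < 33, (gdata.toMData.covOk) i = true := by
  intro i hi
  by_cases h0 : i < 1
  · exact (allFrom_iff _ _ _).mp cov_ok_0 i (by omega) (by omega)
  by_cases h1 : i < 2
  · exact (allFrom_iff _ _ _).mp cov_ok_1 i (by omega) (by omega)
  by_cases h2 : i < 3
  · exact (allFrom_iff _ _ _).mp cov_ok_2 i (by omega) (by omega)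
  by_cases h3 : i < 4
  · exact (allFrom_iff _ _ _).mp cov_ok_3 i (by omega) (by omega)
  by_cases h4 : i < 5
  · exact (allFrom_iff _ _ _).mp cov_ok_4 i (by omega) (by omega)
  by_cases h5 : i < 6
  · exact (allFrom_iff _ _ _).mp cov_ok_5 i (by omega) (by omega)
  by_cases h6 : i < 7
  · exact (allFrom_iff _ _ _).mp cov_ok_6 i (by omega) (by omega)
  by_cases h7 : i < 8
  · exact (allFrom_iff _ _ _).mp cov_ok_7 i (by omega) (by omega)
  by_cases h8 : i < 9
  · exact (allFrom_iff _ _ _).mp cov_ok_8 i (by omega) (by omega)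
  by_cases h9 : i < 10
  · exact (allFrom_iff _ _ _).mp cov_ok_9 i (by omega) (by omega)
  by_cases h10 : i < 11
  · exact (allFrom_iff _ _ _).mp cov_ok_10 i (by omega) (by omega)
  by_cases h11 : i < 12
  · exact (allFrom_iff _ _ _).mp cov_ok_11 i (by omega) (by omega)
  by_cases h12 : i < 13
  · exact (allFrom_iff _ _ _).mp cov_ok_12 i (by omega) (by omega)
  by_cases h13 : i < 14
  · exact (allFrom_iff _ _ _).mp cov_ok_13 i (by omega) (by omega)
  by_cases h14 : i < 15
  · exact (allFrom_iff _ _ _).mp cov_ok_14 i (by omega) (by omega)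
  by_cases h15 : i < 16
  · exact (allFrom_iff _ _ _).mp cov_ok_15 i (by omega) (by omega)
  by_cases h16 : i < 17
  · exact (allFrom_iff _ _ _).mp cov_ok_16 i (by omega) (by omega)
  by_cases h17 : i < 18
  · exact (allFrom_iff _ _ _).mp cov_ok_17 i (by omega) (by omega)
  by_cases h18 : i < 19
  · exact (allFrom_iff _ _ _).mp cov_ok_18 i (by omega) (by omega)
  by_cases h19 : i < 20
  · exact (allFrom_iff _ _ _).mp cov_ok_19 i (by omega) (by omega)
  by_cases h20 : i < 21
  · exact (allFrom_iff _ _ _).mp cov_ok_20 i (by omega) (by omega)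
  by_cases h21 : i < 22
  · exact (allFrom_iff _ _ _).mp cov_ok_21 i (by omega) (by omega)
  by_cases h22 : i < 23
  · exact (allFrom_iff _ _ _).mp cov_ok_22 i (by omega) (by omega)
  by_cases h23 : i < 24
  · exact (allFrom_iff _ _ _).mp cov_ok_23 i (by omega) (by omega)
  by_cases h24 : i < 25
  · exact (allFrom_iff _ _ _).mp cov_ok_24 i (by omega) (by omega)
  by_cases h25 : i < 26
  · exact (allFrom_iff _ _ _).mp cov_ok_25 i (by omega) (by omega)
  by_cases h26 : i < 27
  · exact (allFrom_iff _ _ _).mp cov_ok_26 i (by omega) (by omega)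
  by_cases h27 : i < 28
  · exact (allFrom_iff _ _ _).mp cov_ok_27 i (by omega) (by omega)
  by_cases h28 : i < 29
  · exact (allFrom_iff _ _ _).mp cov_ok_28 i (by omega) (by omega)
  by_cases h29 : i < 30
  · exact (allFrom_iff _ _ _).mp cov_ok_29 i (by omega) (by omega)
  by_cases h30 : i < 31
  · exact (allFrom_iff _ _ _).mp cov_ok_30 i (by omega) (by omega)
  by_cases h31 : i < 32
  · exact (allFrom_iff _ _ _).mp cov_ok_31 i (by omega) (by omega)
  by_cases h32 : i < 33
  · exact (allFrom_iff _ _ _).mp cov_ok_32 i (by omega) (by omega)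
  exfalso
  omega

theorem wit_ok : ∀ i < 33, (gdata.toMData.toData.witOk) i = true := by
  intro i hi
  by_cases h0 : i < 3
  · exact (allFrom_iff _ _ _).mp wit_ok_0 i (by omega) (by omega)
  by_cases h3 : i < 6
  · exact (allFrom_iff _ _ _).mp wit_ok_3 i (by omega) (by omega)
  by_cases h6 : i < 9
  · exact (allFrom_iff _ _ _).mp wit_ok_6 i (by omega) (by omega)
  by_cases h9 : i < 12
  · exact (allFrom_iff _ _ _).mp wit_ok_9 i (by omega) (by omega)
  by_cases h12 : i < 15
  · exact (allFrom_iff _ _ _).mp wit_ok_12 i (by omega) (by omega)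
  by_cases h15 : i < 18
  · exact (allFrom_iff _ _ _).mp wit_ok_15 i (by omega) (by omega)
  by_cases h18 : i < 21
  · exact (allFrom_iff _ _ _).mp wit_ok_18 i (by omega) (by omega)
  by_cases h21 : i < 24
  · exact (allFrom_iff _ _ _).mp wit_ok_21 i (by omega) (by omega)
  by_cases h24 : i < 27
  · exact (allFrom_iff _ _ _).mp wit_ok_24 i (by omega) (by omega)
  by_cases h27 : i < 30
  · exact (allFrom_iff _ _ _).mp wit_ok_27 i (by omega) (by omega)
  by_cases h30 : i < 33
  · exact (allFrom_iff _ _ _).mp wit_ok_30 i (by omega) (by omega)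
  exfalso
  omega

theorem stab_ok : ∀ i < 33, (gdata.toMData.toData.stabOk) i = true := by
  intro i hi
  by_cases h0 : i < 3
  · exact (allFrom_iff _ _ _).mp stab_ok_0 i (by omega) (by omega)
  by_cases h3 : i < 6
  · exact (allFrom_iff _ _ _).mp stab_ok_3 i (by omega) (by omega)
  by_cases h6 : i < 9
  · exact (allFrom_iff _ _ _).mp stab_ok_6 i (by omega) (by omega)
  by_cases h9 : i < 12
  · exact (allFrom_iff _ _ _).mp stab_ok_9 i (by omega) (by omega)
  by_cases h12 : i < 15
  · exact (allFrom_iff _ _ _).mp stab_ok_12 i (by omega) (by omega)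
  by_cases h15 : i < 18
  · exact (allFrom_iff _ _ _).mp stab_ok_15 i (by omega) (by omega)
  by_cases h18 : i < 21
  · exact (allFrom_iff _ _ _).mp stab_ok_18 i (by omega) (by omega)
  by_cases h21 : i < 24
  · exact (allFrom_iff _ _ _).mp stab_ok_21 i (by omega) (by omega)
  by_cases h24 : i < 27
  · exact (allFrom_iff _ _ _).mp stab_ok_24 i (by omega) (by omega)
  by_cases h27 : i < 30
  · exact (allFrom_iff _ _ _).mp stab_ok_27 i (by omega) (by omega)
  by_cases h30 : i < 33
  · exact (allFrom_iff _ _ _).mp stab_ok_30 i (by omega) (by omega)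
  exfalso
  omega

theorem loop_ok : ∀ i < 33, (gdata.toMData.toData.loopOk) i = true := by
  intro i hi
  by_cases h0 : i < 11
  · exact (allFrom_iff _ _ _).mp loop_ok_0 i (by omega) (by omega)
  by_cases h11 : i < 22
  · exact (allFrom_iff _ _ _).mp loop_ok_11 i (by omega) (by omega)
  by_cases h22 : i < 33
  · exact (allFrom_iff _ _ _).mp loop_ok_22 i (by omega) (by omega)
  exfalso
  omega

theorem hIdx_ok : ∀ i < 619, (gdata.toMData.hIdxOk) i = true := by
  intro i hi
  by_cases h0 : i < 50
  · exact (allFrom_iff _ _ _).mp hIdx_ok_0 i (by omega) (by omega)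
  by_cases h50 : i < 100
  · exact (allFrom_iff _ _ _).mp hIdx_ok_50 i (by omega) (by omega)
  by_cases h100 : i < 150
  · exact (allFrom_iff _ _ _).mp hIdx_ok_100 i (by omega) (by omega)
  by_cases h150 : i < 200
  · exact (allFrom_iff _ _ _).mp hIdx_ok_150 i (by omega) (by omega)
  by_cases h200 : i < 250
  · exact (allFrom_iff _ _ _).mp hIdx_ok_200 i (by omega) (by omega)
  by_cases h250 : i < 300
  · exact (allFrom_iff _ _ _).mp hIdx_ok_250 i (by omega) (by omega)
  by_cases h300 : i < 350
  · exact (allFrom_iff _ _ _).mp hIdx_ok_300 i (by omega) (by omega)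
  by_cases h350 : i < 400
  · exact (allFrom_iff _ _ _).mp hIdx_ok_350 i (by omega) (by omega)
  by_cases h400 : i < 450
  · exact (allFrom_iff _ _ _).mp hIdx_ok_400 i (by omega) (by omega)
  by_cases h450 : i < 500
  · exact (allFrom_iff _ _ _).mp hIdx_ok_450 i (by omega) (by omega)
  by_cases h500 : i < 550
  · exact (allFrom_iff _ _ _).mp hIdx_ok_500 i (by omega) (by omega)
  by_cases h550 : i < 600
  · exact (allFrom_iff _ _ _).mp hIdx_ok_550 i (by omega) (by omega)
  by_cases h600 : i < 619
  · exact (allFrom_iff _ _ _).mp hIdx_ok_600 i (by omega) (by omega)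
  exfalso
  omega

theorem cmp_ok : ∀ i < 33, (gdata.toMData.cmpOk) i = true := by
  intro i hi
  by_cases h0 : i < 3
  · exact (allFrom_iff _ _ _).mp cmp_ok_0 i (by omega) (by omega)
  by_cases h3 : i < 6
  · exact (allFrom_iff _ _ _).mp cmp_ok_3 i (by omega) (by omega)
  by_cases h6 : i < 9
  · exact (allFrom_iff _ _ _).mp cmp_ok_6 i (by omega) (by omega)
  by_cases h9 : i < 12
  · exact (allFrom_iff _ _ _).mp cmp_ok_9 i (by omega) (by omega)
  by_cases h12 : i < 15
  · exact (allFrom_iff _ _ _).mp cmp_ok_12 i (by omega) (by omega)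
  by_cases h15 : i < 18
  · exact (allFrom_iff _ _ _).mp cmp_ok_15 i (by omega) (by omega)
  by_cases h18 : i < 21
  · exact (allFrom_iff _ _ _).mp cmp_ok_18 i (by omega) (by omega)
  by_cases h21 : i < 24
  · exact (allFrom_iff _ _ _).mp cmp_ok_21 i (by omega) (by omega)
  by_cases h24 : i < 27
  · exact (allFrom_iff _ _ _).mp cmp_ok_24 i (by omega) (by omega)
  by_cases h27 : i < 30
  · exact (allFrom_iff _ _ _).mp cmp_ok_27 i (by omega) (by omega)
  by_cases h30 : i < 33
  · exact (allFrom_iff _ _ _).mp cmp_ok_30 i (by omega) (by omega)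
  exfalso
  omega

theorem compat_ok : ∀ i < 33, (gdata.toMData.compatOk) i = true := by
  intro i hi
  by_cases h0 : i < 3
  · exact (allFrom_iff _ _ _).mp compat_ok_0 i (by omega) (by omega)
  by_cases h3 : i < 6
  · exact (allFrom_iff _ _ _).mp compat_ok_3 i (by omega) (by omega)
  by_cases h6 : i < 9
  · exact (allFrom_iff _ _ _).mp compat_ok_6 i (by omega) (by omega)
  by_cases h9 : i < 12
  · exact (allFrom_iff _ _ _).mp compat_ok_9 i (by omega) (by omega)
  by_cases h12 : i < 15
  · exact (allFrom_iff _ _ _).mp compat_ok_12 i (by omega) (by omega)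
  by_cases h15 : i < 18
  · exact (allFrom_iff _ _ _).mp compat_ok_15 i (by omega) (by omega)
  by_cases h18 : i < 21
  · exact (allFrom_iff _ _ _).mp compat_ok_18 i (by omega) (by omega)
  by_cases h21 : i < 24
  · exact (allFrom_iff _ _ _).mp compat_ok_21 i (by omega) (by omega)
  by_cases h24 : i < 27
  · exact (allFrom_iff _ _ _).mp compat_ok_24 i (by omega) (by omega)
  by_cases h27 : i < 30
  · exact (allFrom_iff _ _ _).mp compat_ok_27 i (by omega) (by omega)
  by_cases h30 : i < 33
  · exact (allFrom_iff _ _ _).mp compat_ok_30 i (by omega) (by omega)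
  exfalso
  omega

theorem tFact_ok : ∀ i < 619, (gdata.toMData.tFactOk) i = true := by
  intro i hi
  by_cases h0 : i < 100
  · exact (allFrom_iff _ _ _).mp tFact_ok_0 i (by omega) (by omega)
  by_cases h100 : i < 200
  · exact (allFrom_iff _ _ _).mp tFact_ok_100 i (by omega) (by omega)
  by_cases h200 : i < 300
  · exact (allFrom_iff _ _ _).mp tFact_ok_200 i (by omega) (by omega)
  by_cases h300 : i < 400
  · exact (allFrom_iff _ _ _).mp tFact_ok_300 i (by omega) (by omega)
  by_cases h400 : i < 500
  · exact (allFrom_iff _ _ _).mp tFact_ok_400 i (by omega) (by omega)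
  by_cases h500 : i < 600
  · exact (allFrom_iff _ _ _).mp tFact_ok_500 i (by omega) (by omega)
  by_cases h600 : i < 619
  · exact (allFrom_iff _ _ _).mp tFact_ok_600 i (by omega) (by omega)
  exfalso
  omega

theorem tgo_ok : ∀ i < 33, (gdata.tgoOk) i = true := by
  intro i hi
  by_cases h0 : i < 11
  · exact (allFrom_iff _ _ _).mp tgo_ok_0 i (by omega) (by omega)
  by_cases h11 : i < 22
  · exact (allFrom_iff _ _ _).mp tgo_ok_11 i (by omega) (by omega)
  by_cases h22 : i < 33
  · exact (allFrom_iff _ _ _).mp tgo_ok_22 i (by omega) (by omega)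
  exfalso
  omega

theorem tabs_ok : tabs.Ok := ⟨pts_ok⟩

theorem tabs_faithful : tabs.Faithful :=
  faithful_of_chain tabs_ok (gens := pGens) (by decide +kernel) chain_ok (by decide +kernel) (by decide +kernel)

theorem data_checks : gdata.toMData.toData.Checks where
  faithful := tabs_faithful
  lUp := lUp_ok
  lUpTop := by decide +kernel
  lUpSize := by decide +kernel
  levM := levM_ok
  levMTop := by decide +kernel
  levMReps := by decide +kernel
  push := by decide +kernel
  loops := loop_ok
  stab := stab_ok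
  wit := wit_ok
  total := by decide +kernel

theorem model_checks : gdata.toMData.Checks where
  base := data_checks
  npos := by decide +kernel
  pChain := chain_ok
  pChainProd := by decide +kernel
  hIdx := hIdx_ok
  baseNode := by decide +kernel
  node0 := by decide +kernel
  kUp := kUp_ok
  sizeSum := by decide +kernel
  cmp := cmp_ok
  compatAll := compat_ok
  lab := by decide +kernel
  tFact := tFact_ok
  m0 := by decide +kernel
  levM0 := levM0_ok
  levM0Top := by decide +kernel
  zt := zt_ok
  cover := cov_ok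
  reachNodes := by decide +kernel
  reachBase := by decide +kernel
  fix1 := by decide +kernel
  blocks := by decide +kernel

theorem gdata_checks : gdata.Checks where
  model := model_checks
  just := just_ok
  tgo := tgo_ok

end Cfsg.Agent.HNWord66.HNData
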