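import Cfsg.Agent.Lib.HNCertKData66

/-! Enumeration of the first two generators among the three: edges. -/

set_option autoImplicit false
set_option maxRecDepth 100000
set_option Elab.async false

namespace Cfsg.Agent.HNCertKP66

open Cfsg.Agent.CosetCertCore Cfsg.Agent.CosetCertTable Cfsg.Agent.CosetCertFlip66
open Cfsg.Agent.HNCertKData66

theorem points0 : allFrom (edgesOk cert 24933 table) 256 0 = true := by decide +kernel

theorem points1 : allFrom (edgesOk cert 24933 table) 96 256 = true := by decide +kernel

end Cfsg.Agent.HNCertKP66
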