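import Cfsg.Agent.Lib.HNCertKC0_66
import Cfsg.Agent.Lib.HNCertKC1_66
import Cfsg.Agent.Lib.HNCertKC2_66
import Cfsg.Agent.Lib.HNCertKP66

/-! Enumeration of the first two generators among the three. -/

set_option autoImplicit false
set_option maxRecDepth 100000
set_option Elab.async false

namespace Cfsg.Agent.HNCertK66

open Cfsg.Agent.CosetCertCore Cfsg.Agent.CosetCertTable Cfsg.Agent.CosetCertFlip66
open Cfsg.Agent.HNCertKData66

/-- The facts hold up to `n`. -/
def Valid (n : Nat) : Prop :=
  ∀ {G X : Type} [Group G] [MulAction G X] (g : Nat → G) (base : X),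
    CosetCertFlip66.Ctx g base cert → AllValid g (nodeVal g base cert) cert n

theorem Valid.step {lo n : Nat} (h : Valid lo) (L : List Nat)
    (hn : (Nat.beq (lo + L.length) n && CosetCertFlip66.checkList cert L lo) = true) : Valid n := by
  rw [Bool.and_eq_true, Nat.beq_eq] at hn
  intro G X _ _ g base hC
  exact hn.1 ▸ CosetCertFlip66.checkList_sound g base hC L lo (h g base hC) hn.2

theorem valid0 : Valid 0 := fun _ _ _ _ h => absurd h (Nat.not_lt_zero _)

theorem valid1 : Valid 256 := valid0.step HNCertKC0_66.just0 HNCertKC0_66.check0

theorem valid2 : Valid 512 := valid1.step HNCertKC0_66.just1 HNCertKC0_66.check1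

theorem valid3 : Valid 768 := valid2.step HNCertKC0_66.just2 HNCertKC0_66.check2

theorem valid4 : Valid 1024 := valid3.step HNCertKC0_66.just3 HNCertKC0_66.check3

theorem valid5 : Valid 1280 := valid4.step HNCertKC0_66.just4 HNCertKC0_66.check4

theorem valid6 : Valid 1536 := valid5.step HNCertKC0_66.just5 HNCertKC0_66.check5

theorem valid7 : Valid 1792 := valid6.step HNCertKC0_66.just6 HNCertKC0_66.check6

theorem valid8 : Valid 2048 := valid7.step HNCertKC0_66.just7 HNCertKC0_66.check7

theorem valid9 : Valid 2304 := valid8.step HNCertKC0_66.just8 HNCertKC0_66.check8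

theorem valid10 : Valid 2560 := valid9.step HNCertKC0_66.just9 HNCertKC0_66.check9

theorem valid11 : Valid 2816 := valid10.step HNCertKC0_66.just10 HNCertKC0_66.check10

theorem valid12 : Valid 3072 := valid11.step HNCertKC0_66.just11 HNCertKC0_66.check11

theorem valid13 : Valid 3328 := valid12.step HNCertKC0_66.just12 HNCertKC0_66.check12

theorem valid14 : Valid 3584 := valid13.step HNCertKC0_66.just13 HNCertKC0_66.check13

theorem valid15 : Valid 3840 := valid14.step HNCertKC0_66.just14 HNCertKC0_66.check14

theorem valid16 : Valid 4096 := valid15.step HNCertKC0_66.just15 HNCertKC0_66.check15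

theorem valid17 : Valid 4352 := valid16.step HNCertKC0_66.just16 HNCertKC0_66.check16

theorem valid18 : Valid 4608 := valid17.step HNCertKC0_66.just17 HNCertKC0_66.check17

theorem valid19 : Valid 4864 := valid18.step HNCertKC0_66.just18 HNCertKC0_66.check18

theorem valid20 : Valid 5120 := valid19.step HNCertKC0_66.just19 HNCertKC0_66.check19

theorem valid21 : Valid 5376 := valid20.step HNCertKC0_66.just20 HNCertKC0_66.check20

theorem valid22 : Valid 5632 := valid21.step HNCertKC0_66.just21 HNCertKC0_66.check21

theorem valid23 : Valid 5888 := valid22.step HNCertKC0_66.just22 HNCertKC0_66.check22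

theorem valid24 : Valid 6144 := valid23.step HNCertKC0_66.just23 HNCertKC0_66.check23

theorem valid25 : Valid 6400 := valid24.step HNCertKC0_66.just24 HNCertKC0_66.check24

theorem valid26 : Valid 6656 := valid25.step HNCertKC0_66.just25 HNCertKC0_66.check25

theorem valid27 : Valid 6912 := valid26.step HNCertKC0_66.just26 HNCertKC0_66.check26

theorem valid28 : Valid 7168 := valid27.step HNCertKC0_66.just27 HNCertKC0_66.check27

theorem valid29 : Valid 7424 := valid28.step HNCertKC0_66.just28 HNCertKC0_66.check28

theorem valid30 : Valid 7680 := valid29.step HNCertKC0_66.just29 HNCertKC0_66.check29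

theorem valid31 : Valid 7936 := valid30.step HNCertKC0_66.just30 HNCertKC0_66.check30

theorem valid32 : Valid 8192 := valid31.step HNCertKC0_66.just31 HNCertKC0_66.check31

theorem valid33 : Valid 8448 := valid32.step HNCertKC0_66.just32 HNCertKC0_66.check32

theorem valid34 : Valid 8704 := valid33.step HNCertKC0_66.just33 HNCertKC0_66.check33

theorem valid35 : Valid 8960 := valid34.step HNCertKC0_66.just34 HNCertKC0_66.check34

theorem valid36 : Valid 9216 := valid35.step HNCertKC0_66.just35 HNCertKC0_66.check35

theorem valid37 : Valid 9472 := valid36.step HNCertKC0_66.just36 HNCertKC0_66.check36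

theorem valid38 : Valid 9728 := valid37.step HNCertKC0_66.just37 HNCertKC0_66.check37

theorem valid39 : Valid 9984 := valid38.step HNCertKC0_66.just38 HNCertKC0_66.check38

theorem valid40 : Valid 10240 := valid39.step HNCertKC0_66.just39 HNCertKC0_66.check39

theorem valid41 : Valid 10496 := valid40.step HNCertKC1_66.just40 HNCertKC1_66.check40

theorem valid42 : Valid 10752 := valid41.step HNCertKC1_66.just41 HNCertKC1_66.check41

theorem valid43 : Valid 11008 := valid42.step HNCertKC1_66.just42 HNCertKC1_66.check42

theorem valid44 : Valid 11264 := valid43.step HNCertKC1_66.just43 HNCertKC1_66.check43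

theorem valid45 : Valid 11520 := valid44.step HNCertKC1_66.just44 HNCertKC1_66.check44

theorem valid46 : Valid 11776 := valid45.step HNCertKC1_66.just45 HNCertKC1_66.check45

theorem valid47 : Valid 12032 := valid46.step HNCertKC1_66.just46 HNCertKC1_66.check46

theorem valid48 : Valid 12288 := valid47.step HNCertKC1_66.just47 HNCertKC1_66.check47

theorem valid49 : Valid 12544 := valid48.step HNCertKC1_66.just48 HNCertKC1_66.check48

theorem valid50 : Valid 12800 := valid49.step HNCertKC1_66.just49 HNCertKC1_66.check49

theorem valid51 : Valid 13056 := valid50.step HNCertKC1_66.just50 HNCertKC1_66.check50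

theorem valid52 : Valid 13312 := valid51.step HNCertKC1_66.just51 HNCertKC1_66.check51

theorem valid53 : Valid 13568 := valid52.step HNCertKC1_66.just52 HNCertKC1_66.check52

theorem valid54 : Valid 13824 := valid53.step HNCertKC1_66.just53 HNCertKC1_66.check53

theorem valid55 : Valid 14080 := valid54.step HNCertKC1_66.just54 HNCertKC1_66.check54

theorem valid56 : Valid 14336 := valid55.step HNCertKC1_66.just55 HNCertKC1_66.check55

theorem valid57 : Valid 14592 := valid56.step HNCertKC1_66.just56 HNCertKC1_66.check56

theorem valid58 : Valid 14848 := valid57.step HNCertKC1_66.just57 HNCertKC1_66.check57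

theorem valid59 : Valid 15104 := valid58.step HNCertKC1_66.just58 HNCertKC1_66.check58

theorem valid60 : Valid 15360 := valid59.step HNCertKC1_66.just59 HNCertKC1_66.check59

theorem valid61 : Valid 15616 := valid60.step HNCertKC1_66.just60 HNCertKC1_66.check60

theorem valid62 : Valid 15872 := valid61.step HNCertKC1_66.just61 HNCertKC1_66.check61

theorem valid63 : Valid 16128 := valid62.step HNCertKC1_66.just62 HNCertKC1_66.check62

theorem valid64 : Valid 16384 := valid63.step HNCertKC1_66.just63 HNCertKC1_66.check63

theorem valid65 : Valid 16640 := valid64.step HNCertKC1_66.just64 HNCertKC1_66.check64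

theorem valid66 : Valid 16896 := valid65.step HNCertKC1_66.just65 HNCertKC1_66.check65

theorem valid67 : Valid 17152 := valid66.step HNCertKC1_66.just66 HNCertKC1_66.check66

theorem valid68 : Valid 17408 := valid67.step HNCertKC1_66.just67 HNCertKC1_66.check67

theorem valid69 : Valid 17664 := valid68.step HNCertKC1_66.just68 HNCertKC1_66.check68

theorem valid70 : Valid 17920 := valid69.step HNCertKC1_66.just69 HNCertKC1_66.check69

theorem valid71 : Valid 18176 := valid70.step HNCertKC1_66.just70 HNCertKC1_66.check70

theorem valid72 : Valid 18432 := valid71.step HNCertKC1_66.just71 HNCertKC1_66.check71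

theorem valid73 : Valid 18688 := valid72.step HNCertKC1_66.just72 HNCertKC1_66.check72

theorem valid74 : Valid 18944 := valid73.step HNCertKC1_66.just73 HNCertKC1_66.check73

theorem valid75 : Valid 19200 := valid74.step HNCertKC1_66.just74 HNCertKC1_66.check74

theorem valid76 : Valid 19456 := valid75.step HNCertKC1_66.just75 HNCertKC1_66.check75

theorem valid77 : Valid 19712 := valid76.step HNCertKC1_66.just76 HNCertKC1_66.check76

theorem valid78 : Valid 19968 := valid77.step HNCertKC1_66.just77 HNCertKC1_66.check77

theorem valid79 : Valid 20224 := valid78.step HNCertKC1_66.just78 HNCertKC1_66.check78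

theorem valid80 : Valid 20480 := valid79.step HNCertKC1_66.just79 HNCertKC1_66.check79

theorem valid81 : Valid 20736 := valid80.step HNCertKC2_66.just80 HNCertKC2_66.check80

theorem valid82 : Valid 20992 := valid81.step HNCertKC2_66.just81 HNCertKC2_66.check81

theorem valid83 : Valid 21248 := valid82.step HNCertKC2_66.just82 HNCertKC2_66.check82

theorem valid84 : Valid 21504 := valid83.step HNCertKC2_66.just83 HNCertKC2_66.check83

theorem valid85 : Valid 21760 := valid84.step HNCertKC2_66.just84 HNCertKC2_66.check84

theorem valid86 : Valid 22016 := valid85.step HNCertKC2_66.just85 HNCertKC2_66.check85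

theorem valid87 : Valid 22272 := valid86.step HNCertKC2_66.just86 HNCertKC2_66.check86

theorem valid88 : Valid 22528 := valid87.step HNCertKC2_66.just87 HNCertKC2_66.check87

theorem valid89 : Valid 22784 := valid88.step HNCertKC2_66.just88 HNCertKC2_66.check88

theorem valid90 : Valid 23040 := valid89.step HNCertKC2_66.just89 HNCertKC2_66.check89

theorem valid91 : Valid 23296 := valid90.step HNCertKC2_66.just90 HNCertKC2_66.check90

theorem valid92 : Valid 23552 := valid91.step HNCertKC2_66.just91 HNCertKC2_66.check91

theorem valid93 : Valid 23808 := valid92.step HNCertKC2_66.just92 HNCertKC2_66.check92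

theorem valid94 : Valid 24064 := valid93.step HNCertKC2_66.just93 HNCertKC2_66.check93

theorem valid95 : Valid 24320 := valid94.step HNCertKC2_66.just94 HNCertKC2_66.check94

theorem valid96 : Valid 24576 := valid95.step HNCertKC2_66.just95 HNCertKC2_66.check95

theorem valid97 : Valid 24832 := valid96.step HNCertKC2_66.just96 HNCertKC2_66.check96

theorem valid98 : Valid 24933 := valid97.step HNCertKC2_66.just97 HNCertKC2_66.check97

theorem points0 : AllBelow (edgesOk cert 24933 table) 0 := AllBelow.zero _

theorem points1 : AllBelow (edgesOk cert 24933 table) 256 := AllBelow.step points0 256 HNCertKP66.points0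

theorem points2 : AllBelow (edgesOk cert 24933 table) 352 := AllBelow.step points1 96 HNCertKP66.points1

/-- The certificate is checked. -/
theorem closed : Closed cert 24933 table where
  npos := by decide +kernel
  node0 := by decide +kernel
  flipClosed := by decide +kernel
  edges := points2
  facts := fun g base h => valid98 g base h

end Cfsg.Agent.HNCertK66
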