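import Cfsg.Agent.Lib.HNCertQC0_66
import Cfsg.Agent.Lib.HNCertQC1_66
import Cfsg.Agent.Lib.HNCertQC2_66
import Cfsg.Agent.Lib.HNCertQC3_66
import Cfsg.Agent.Lib.HNCertQC4_66
import Cfsg.Agent.Lib.HNCertQC5_66
import Cfsg.Agent.Lib.HNCertQC6_66
import Cfsg.Agent.Lib.HNCertQC7_66
import Cfsg.Agent.Lib.HNCertQC8_66
import Cfsg.Agent.Lib.HNCertQC9_66
import Cfsg.Agent.Lib.HNCertQC10_66
import Cfsg.Agent.Lib.HNCertQC11_66
import Cfsg.Agent.Lib.HNCertQP66

/-! Enumeration of the small subgroup among the first two generators. -/

set_option autoImplicit false
set_option maxRecDepth 100000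
set_option Elab.async false

namespace Cfsg.Agent.HNCertQ66

open Cfsg.Agent.CosetCertCore Cfsg.Agent.CosetCertTable Cfsg.Agent.CosetCertFlip66
open Cfsg.Agent.HNCertQData66

/-- The facts hold up to `n`. -/
def Valid (n : Nat) : Prop :=
  ∀ {G X : Type} [Group G] [MulAction G X] (g : Nat → G) (base : X),
    CosetCertFlip66.Ctx g base cert → AllValid g (nodeVal g base cert) cert n

theorem Valid.step {lo n : Nat} (h : Valid lo) (L : List Nat)
    (hn : (Nat.beq (lo + L.length) n && CosetCertFlip66.checkList cert L lo) = true) : Valid n := by
  rw [Bool.and_eq_true, Nat.beq_eq] at hn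
  intro G X _ _ g base hC
  exact hn.1 ▸ CosetCertFlip66.checkList_sound g base hC L lo (h g base hC) hn.2

theorem valid0 : Valid 0 := fun _ _ _ _ h => absurd h (Nat.not_lt_zero _)

theorem valid1 : Valid 256 := valid0.step HNCertQC0_66.just0 HNCertQC0_66.check0

theorem valid2 : Valid 512 := valid1.step HNCertQC0_66.just1 HNCertQC0_66.check1

theorem valid3 : Valid 768 := valid2.step HNCertQC0_66.just2 HNCertQC0_66.check2

theorem valid4 : Valid 1024 := valid3.step HNCertQC0_66.just3 HNCertQC0_66.check3

theorem valid5 : Valid 1280 := valid4.step HNCertQC0_66.just4 HNCertQC0_66.check4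

theorem valid6 : Valid 1536 := valid5.step HNCertQC0_66.just5 HNCertQC0_66.check5

theorem valid7 : Valid 1792 := valid6.step HNCertQC0_66.just6 HNCertQC0_66.check6

theorem valid8 : Valid 2048 := valid7.step HNCertQC0_66.just7 HNCertQC0_66.check7

theorem valid9 : Valid 2304 := valid8.step HNCertQC0_66.just8 HNCertQC0_66.check8

theorem valid10 : Valid 2560 := valid9.step HNCertQC0_66.just9 HNCertQC0_66.check9

theorem valid11 : Valid 2816 := valid10.step HNCertQC0_66.just10 HNCertQC0_66.check10

theorem valid12 : Valid 3072 := valid11.step HNCertQC0_66.just11 HNCertQC0_66.check11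

theorem valid13 : Valid 3328 := valid12.step HNCertQC0_66.just12 HNCertQC0_66.check12

theorem valid14 : Valid 3584 := valid13.step HNCertQC0_66.just13 HNCertQC0_66.check13

theorem valid15 : Valid 3840 := valid14.step HNCertQC0_66.just14 HNCertQC0_66.check14

theorem valid16 : Valid 4096 := valid15.step HNCertQC0_66.just15 HNCertQC0_66.check15

theorem valid17 : Valid 4352 := valid16.step HNCertQC0_66.just16 HNCertQC0_66.check16

theorem valid18 : Valid 4608 := valid17.step HNCertQC0_66.just17 HNCertQC0_66.check17

theorem valid19 : Valid 4864 := valid18.step HNCertQC0_66.just18 HNCertQC0_66.check18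

theorem valid20 : Valid 5120 := valid19.step HNCertQC0_66.just19 HNCertQC0_66.check19

theorem valid21 : Valid 5376 := valid20.step HNCertQC0_66.just20 HNCertQC0_66.check20

theorem valid22 : Valid 5632 := valid21.step HNCertQC0_66.just21 HNCertQC0_66.check21

theorem valid23 : Valid 5888 := valid22.step HNCertQC0_66.just22 HNCertQC0_66.check22

theorem valid24 : Valid 6144 := valid23.step HNCertQC0_66.just23 HNCertQC0_66.check23

theorem valid25 : Valid 6400 := valid24.step HNCertQC0_66.just24 HNCertQC0_66.check24

theorem valid26 : Valid 6656 := valid25.step HNCertQC0_66.just25 HNCertQC0_66.check25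

theorem valid27 : Valid 6912 := valid26.step HNCertQC0_66.just26 HNCertQC0_66.check26

theorem valid28 : Valid 7168 := valid27.step HNCertQC0_66.just27 HNCertQC0_66.check27

theorem valid29 : Valid 7424 := valid28.step HNCertQC0_66.just28 HNCertQC0_66.check28

theorem valid30 : Valid 7680 := valid29.step HNCertQC0_66.just29 HNCertQC0_66.check29

theorem valid31 : Valid 7936 := valid30.step HNCertQC0_66.just30 HNCertQC0_66.check30

theorem valid32 : Valid 8192 := valid31.step HNCertQC0_66.just31 HNCertQC0_66.check31

theorem valid33 : Valid 8448 := valid32.step HNCertQC0_66.just32 HNCertQC0_66.check32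

theorem valid34 : Valid 8704 := valid33.step HNCertQC0_66.just33 HNCertQC0_66.check33

theorem valid35 : Valid 8960 := valid34.step HNCertQC0_66.just34 HNCertQC0_66.check34

theorem valid36 : Valid 9216 := valid35.step HNCertQC0_66.just35 HNCertQC0_66.check35

theorem valid37 : Valid 9472 := valid36.step HNCertQC0_66.just36 HNCertQC0_66.check36

theorem valid38 : Valid 9728 := valid37.step HNCertQC0_66.just37 HNCertQC0_66.check37

theorem valid39 : Valid 9984 := valid38.step HNCertQC0_66.just38 HNCertQC0_66.check38

theorem valid40 : Valid 10240 := valid39.step HNCertQC0_66.just39 HNCertQC0_66.check39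

theorem valid41 : Valid 10496 := valid40.step HNCertQC1_66.just40 HNCertQC1_66.check40

theorem valid42 : Valid 10752 := valid41.step HNCertQC1_66.just41 HNCertQC1_66.check41

theorem valid43 : Valid 11008 := valid42.step HNCertQC1_66.just42 HNCertQC1_66.check42

theorem valid44 : Valid 11264 := valid43.step HNCertQC1_66.just43 HNCertQC1_66.check43

theorem valid45 : Valid 11520 := valid44.step HNCertQC1_66.just44 HNCertQC1_66.check44

theorem valid46 : Valid 11776 := valid45.step HNCertQC1_66.just45 HNCertQC1_66.check45

theorem valid47 : Valid 12032 := valid46.step HNCertQC1_66.just46 HNCertQC1_66.check46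

theorem valid48 : Valid 12288 := valid47.step HNCertQC1_66.just47 HNCertQC1_66.check47

theorem valid49 : Valid 12544 := valid48.step HNCertQC1_66.just48 HNCertQC1_66.check48

theorem valid50 : Valid 12800 := valid49.step HNCertQC1_66.just49 HNCertQC1_66.check49

theorem valid51 : Valid 13056 := valid50.step HNCertQC1_66.just50 HNCertQC1_66.check50

theorem valid52 : Valid 13312 := valid51.step HNCertQC1_66.just51 HNCertQC1_66.check51

theorem valid53 : Valid 13568 := valid52.step HNCertQC1_66.just52 HNCertQC1_66.check52

theorem valid54 : Valid 13824 := valid53.step HNCertQC1_66.just53 HNCertQC1_66.check53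

theorem valid55 : Valid 14080 := valid54.step HNCertQC1_66.just54 HNCertQC1_66.check54

theorem valid56 : Valid 14336 := valid55.step HNCertQC1_66.just55 HNCertQC1_66.check55

theorem valid57 : Valid 14592 := valid56.step HNCertQC1_66.just56 HNCertQC1_66.check56

theorem valid58 : Valid 14848 := valid57.step HNCertQC1_66.just57 HNCertQC1_66.check57

theorem valid59 : Valid 15104 := valid58.step HNCertQC1_66.just58 HNCertQC1_66.check58

theorem valid60 : Valid 15360 := valid59.step HNCertQC1_66.just59 HNCertQC1_66.check59

theorem valid61 : Valid 15616 := valid60.step HNCertQC1_66.just60 HNCertQC1_66.check60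

theorem valid62 : Valid 15872 := valid61.step HNCertQC1_66.just61 HNCertQC1_66.check61

theorem valid63 : Valid 16128 := valid62.step HNCertQC1_66.just62 HNCertQC1_66.check62

theorem valid64 : Valid 16384 := valid63.step HNCertQC1_66.just63 HNCertQC1_66.check63

theorem valid65 : Valid 16640 := valid64.step HNCertQC1_66.just64 HNCertQC1_66.check64

theorem valid66 : Valid 16896 := valid65.step HNCertQC1_66.just65 HNCertQC1_66.check65

theorem valid67 : Valid 17152 := valid66.step HNCertQC1_66.just66 HNCertQC1_66.check66

theorem valid68 : Valid 17408 := valid67.step HNCertQC1_66.just67 HNCertQC1_66.check67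

theorem valid69 : Valid 17664 := valid68.step HNCertQC1_66.just68 HNCertQC1_66.check68

theorem valid70 : Valid 17920 := valid69.step HNCertQC1_66.just69 HNCertQC1_66.check69

theorem valid71 : Valid 18176 := valid70.step HNCertQC1_66.just70 HNCertQC1_66.check70

theorem valid72 : Valid 18432 := valid71.step HNCertQC1_66.just71 HNCertQC1_66.check71

theorem valid73 : Valid 18688 := valid72.step HNCertQC1_66.just72 HNCertQC1_66.check72

theorem valid74 : Valid 18944 := valid73.step HNCertQC1_66.just73 HNCertQC1_66.check73

theorem valid75 : Valid 19200 := valid74.step HNCertQC1_66.just74 HNCertQC1_66.check74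

theorem valid76 : Valid 19456 := valid75.step HNCertQC1_66.just75 HNCertQC1_66.check75

theorem valid77 : Valid 19712 := valid76.step HNCertQC1_66.just76 HNCertQC1_66.check76

theorem valid78 : Valid 19968 := valid77.step HNCertQC1_66.just77 HNCertQC1_66.check77

theorem valid79 : Valid 20224 := valid78.step HNCertQC1_66.just78 HNCertQC1_66.check78

theorem valid80 : Valid 20480 := valid79.step HNCertQC1_66.just79 HNCertQC1_66.check79

theorem valid81 : Valid 20736 := valid80.step HNCertQC2_66.just80 HNCertQC2_66.check80

theorem valid82 : Valid 20992 := valid81.step HNCertQC2_66.just81 HNCertQC2_66.check81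

theorem valid83 : Valid 21248 := valid82.step HNCertQC2_66.just82 HNCertQC2_66.check82

theorem valid84 : Valid 21504 := valid83.step HNCertQC2_66.just83 HNCertQC2_66.check83

theorem valid85 : Valid 21760 := valid84.step HNCertQC2_66.just84 HNCertQC2_66.check84

theorem valid86 : Valid 22016 := valid85.step HNCertQC2_66.just85 HNCertQC2_66.check85

theorem valid87 : Valid 22272 := valid86.step HNCertQC2_66.just86 HNCertQC2_66.check86

theorem valid88 : Valid 22528 := valid87.step HNCertQC2_66.just87 HNCertQC2_66.check87

theorem valid89 : Valid 22784 := valid88.step HNCertQC2_66.just88 HNCertQC2_66.check88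

theorem valid90 : Valid 23040 := valid89.step HNCertQC2_66.just89 HNCertQC2_66.check89

theorem valid91 : Valid 23296 := valid90.step HNCertQC2_66.just90 HNCertQC2_66.check90

theorem valid92 : Valid 23552 := valid91.step HNCertQC2_66.just91 HNCertQC2_66.check91

theorem valid93 : Valid 23808 := valid92.step HNCertQC2_66.just92 HNCertQC2_66.check92

theorem valid94 : Valid 24064 := valid93.step HNCertQC2_66.just93 HNCertQC2_66.check93

theorem valid95 : Valid 24320 := valid94.step HNCertQC2_66.just94 HNCertQC2_66.check94

theorem valid96 : Valid 24576 := valid95.step HNCertQC2_66.just95 HNCertQC2_66.check95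

theorem valid97 : Valid 24832 := valid96.step HNCertQC2_66.just96 HNCertQC2_66.check96

theorem valid98 : Valid 25088 := valid97.step HNCertQC2_66.just97 HNCertQC2_66.check97

theorem valid99 : Valid 25344 := valid98.step HNCertQC2_66.just98 HNCertQC2_66.check98

theorem valid100 : Valid 25600 := valid99.step HNCertQC2_66.just99 HNCertQC2_66.check99

theorem valid101 : Valid 25856 := valid100.step HNCertQC2_66.just100 HNCertQC2_66.check100

theorem valid102 : Valid 26112 := valid101.step HNCertQC2_66.just101 HNCertQC2_66.check101

theorem valid103 : Valid 26368 := valid102.step HNCertQC2_66.just102 HNCertQC2_66.check102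

theorem valid104 : Valid 26624 := valid103.step HNCertQC2_66.just103 HNCertQC2_66.check103

theorem valid105 : Valid 26880 := valid104.step HNCertQC2_66.just104 HNCertQC2_66.check104

theorem valid106 : Valid 27136 := valid105.step HNCertQC2_66.just105 HNCertQC2_66.check105

theorem valid107 : Valid 27392 := valid106.step HNCertQC2_66.just106 HNCertQC2_66.check106

theorem valid108 : Valid 27648 := valid107.step HNCertQC2_66.just107 HNCertQC2_66.check107

theorem valid109 : Valid 27904 := valid108.step HNCertQC2_66.just108 HNCertQC2_66.check108

theorem valid110 : Valid 28160 := valid109.step HNCertQC2_66.just109 HNCertQC2_66.check109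

theorem valid111 : Valid 28416 := valid110.step HNCertQC2_66.just110 HNCertQC2_66.check110

theorem valid112 : Valid 28672 := valid111.step HNCertQC2_66.just111 HNCertQC2_66.check111

theorem valid113 : Valid 28928 := valid112.step HNCertQC2_66.just112 HNCertQC2_66.check112

theorem valid114 : Valid 29184 := valid113.step HNCertQC2_66.just113 HNCertQC2_66.check113

theorem valid115 : Valid 29440 := valid114.step HNCertQC2_66.just114 HNCertQC2_66.check114

theorem valid116 : Valid 29696 := valid115.step HNCertQC2_66.just115 HNCertQC2_66.check115

theorem valid117 : Valid 29952 := valid116.step HNCertQC2_66.just116 HNCertQC2_66.check116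

theorem valid118 : Valid 30208 := valid117.step HNCertQC2_66.just117 HNCertQC2_66.check117

theorem valid119 : Valid 30464 := valid118.step HNCertQC2_66.just118 HNCertQC2_66.check118

theorem valid120 : Valid 30720 := valid119.step HNCertQC2_66.just119 HNCertQC2_66.check119

theorem valid121 : Valid 30976 := valid120.step HNCertQC3_66.just120 HNCertQC3_66.check120

theorem valid122 : Valid 31232 := valid121.step HNCertQC3_66.just121 HNCertQC3_66.check121

theorem valid123 : Valid 31488 := valid122.step HNCertQC3_66.just122 HNCertQC3_66.check122

theorem valid124 : Valid 31744 := valid123.step HNCertQC3_66.just123 HNCertQC3_66.check123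

theorem valid125 : Valid 32000 := valid124.step HNCertQC3_66.just124 HNCertQC3_66.check124

theorem valid126 : Valid 32256 := valid125.step HNCertQC3_66.just125 HNCertQC3_66.check125

theorem valid127 : Valid 32512 := valid126.step HNCertQC3_66.just126 HNCertQC3_66.check126

theorem valid128 : Valid 32768 := valid127.step HNCertQC3_66.just127 HNCertQC3_66.check127

theorem valid129 : Valid 33024 := valid128.step HNCertQC3_66.just128 HNCertQC3_66.check128

theorem valid130 : Valid 33280 := valid129.step HNCertQC3_66.just129 HNCertQC3_66.check129

theorem valid131 : Valid 33536 := valid130.step HNCertQC3_66.just130 HNCertQC3_66.check130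

theorem valid132 : Valid 33792 := valid131.step HNCertQC3_66.just131 HNCertQC3_66.check131

theorem valid133 : Valid 34048 := valid132.step HNCertQC3_66.just132 HNCertQC3_66.check132

theorem valid134 : Valid 34304 := valid133.step HNCertQC3_66.just133 HNCertQC3_66.check133

theorem valid135 : Valid 34560 := valid134.step HNCertQC3_66.just134 HNCertQC3_66.check134

theorem valid136 : Valid 34816 := valid135.step HNCertQC3_66.just135 HNCertQC3_66.check135

theorem valid137 : Valid 35072 := valid136.step HNCertQC3_66.just136 HNCertQC3_66.check136

theorem valid138 : Valid 35328 := valid137.step HNCertQC3_66.just137 HNCertQC3_66.check137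

theorem valid139 : Valid 35584 := valid138.step HNCertQC3_66.just138 HNCertQC3_66.check138

theorem valid140 : Valid 35840 := valid139.step HNCertQC3_66.just139 HNCertQC3_66.check139

theorem valid141 : Valid 36096 := valid140.step HNCertQC3_66.just140 HNCertQC3_66.check140

theorem valid142 : Valid 36352 := valid141.step HNCertQC3_66.just141 HNCertQC3_66.check141

theorem valid143 : Valid 36608 := valid142.step HNCertQC3_66.just142 HNCertQC3_66.check142

theorem valid144 : Valid 36864 := valid143.step HNCertQC3_66.just143 HNCertQC3_66.check143

theorem valid145 : Valid 37120 := valid144.step HNCertQC3_66.just144 HNCertQC3_66.check144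

theorem valid146 : Valid 37376 := valid145.step HNCertQC3_66.just145 HNCertQC3_66.check145

theorem valid147 : Valid 37632 := valid146.step HNCertQC3_66.just146 HNCertQC3_66.check146

theorem valid148 : Valid 37888 := valid147.step HNCertQC3_66.just147 HNCertQC3_66.check147

theorem valid149 : Valid 38144 := valid148.step HNCertQC3_66.just148 HNCertQC3_66.check148

theorem valid150 : Valid 38400 := valid149.step HNCertQC3_66.just149 HNCertQC3_66.check149

theorem valid151 : Valid 38656 := valid150.step HNCertQC3_66.just150 HNCertQC3_66.check150

theorem valid152 : Valid 38912 := valid151.step HNCertQC3_66.just151 HNCertQC3_66.check151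

theorem valid153 : Valid 39168 := valid152.step HNCertQC3_66.just152 HNCertQC3_66.check152

theorem valid154 : Valid 39424 := valid153.step HNCertQC3_66.just153 HNCertQC3_66.check153

theorem valid155 : Valid 39680 := valid154.step HNCertQC3_66.just154 HNCertQC3_66.check154

theorem valid156 : Valid 39936 := valid155.step HNCertQC3_66.just155 HNCertQC3_66.check155

theorem valid157 : Valid 40192 := valid156.step HNCertQC3_66.just156 HNCertQC3_66.check156

theorem valid158 : Valid 40448 := valid157.step HNCertQC3_66.just157 HNCertQC3_66.check157

theorem valid159 : Valid 40704 := valid158.step HNCertQC3_66.just158 HNCertQC3_66.check158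

theorem valid160 : Valid 40960 := valid159.step HNCertQC3_66.just159 HNCertQC3_66.check159

theorem valid161 : Valid 41216 := valid160.step HNCertQC4_66.just160 HNCertQC4_66.check160

theorem valid162 : Valid 41472 := valid161.step HNCertQC4_66.just161 HNCertQC4_66.check161

theorem valid163 : Valid 41728 := valid162.step HNCertQC4_66.just162 HNCertQC4_66.check162

theorem valid164 : Valid 41984 := valid163.step HNCertQC4_66.just163 HNCertQC4_66.check163

theorem valid165 : Valid 42240 := valid164.step HNCertQC4_66.just164 HNCertQC4_66.check164

theorem valid166 : Valid 42496 := valid165.step HNCertQC4_66.just165 HNCertQC4_66.check165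

theorem valid167 : Valid 42752 := valid166.step HNCertQC4_66.just166 HNCertQC4_66.check166

theorem valid168 : Valid 43008 := valid167.step HNCertQC4_66.just167 HNCertQC4_66.check167

theorem valid169 : Valid 43264 := valid168.step HNCertQC4_66.just168 HNCertQC4_66.check168

theorem valid170 : Valid 43520 := valid169.step HNCertQC4_66.just169 HNCertQC4_66.check169

theorem valid171 : Valid 43776 := valid170.step HNCertQC4_66.just170 HNCertQC4_66.check170

theorem valid172 : Valid 44032 := valid171.step HNCertQC4_66.just171 HNCertQC4_66.check171

theorem valid173 : Valid 44288 := valid172.step HNCertQC4_66.just172 HNCertQC4_66.check172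

theorem valid174 : Valid 44544 := valid173.step HNCertQC4_66.just173 HNCertQC4_66.check173

theorem valid175 : Valid 44800 := valid174.step HNCertQC4_66.just174 HNCertQC4_66.check174

theorem valid176 : Valid 45056 := valid175.step HNCertQC4_66.just175 HNCertQC4_66.check175

theorem valid177 : Valid 45312 := valid176.step HNCertQC4_66.just176 HNCertQC4_66.check176

theorem valid178 : Valid 45568 := valid177.step HNCertQC4_66.just177 HNCertQC4_66.check177

theorem valid179 : Valid 45824 := valid178.step HNCertQC4_66.just178 HNCertQC4_66.check178

theorem valid180 : Valid 46080 := valid179.step HNCertQC4_66.just179 HNCertQC4_66.check179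

theorem valid181 : Valid 46336 := valid180.step HNCertQC4_66.just180 HNCertQC4_66.check180

theorem valid182 : Valid 46592 := valid181.step HNCertQC4_66.just181 HNCertQC4_66.check181

theorem valid183 : Valid 46848 := valid182.step HNCertQC4_66.just182 HNCertQC4_66.check182

theorem valid184 : Valid 47104 := valid183.step HNCertQC4_66.just183 HNCertQC4_66.check183

theorem valid185 : Valid 47360 := valid184.step HNCertQC4_66.just184 HNCertQC4_66.check184

theorem valid186 : Valid 47616 := valid185.step HNCertQC4_66.just185 HNCertQC4_66.check185

theorem valid187 : Valid 47872 := valid186.step HNCertQC4_66.just186 HNCertQC4_66.check186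

theorem valid188 : Valid 48128 := valid187.step HNCertQC4_66.just187 HNCertQC4_66.check187

theorem valid189 : Valid 48384 := valid188.step HNCertQC4_66.just188 HNCertQC4_66.check188

theorem valid190 : Valid 48640 := valid189.step HNCertQC4_66.just189 HNCertQC4_66.check189

theorem valid191 : Valid 48896 := valid190.step HNCertQC4_66.just190 HNCertQC4_66.check190

theorem valid192 : Valid 49152 := valid191.step HNCertQC4_66.just191 HNCertQC4_66.check191

theorem valid193 : Valid 49408 := valid192.step HNCertQC4_66.just192 HNCertQC4_66.check192

theorem valid194 : Valid 49664 := valid193.step HNCertQC4_66.just193 HNCertQC4_66.check193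

theorem valid195 : Valid 49920 := valid194.step HNCertQC4_66.just194 HNCertQC4_66.check194

theorem valid196 : Valid 50176 := valid195.step HNCertQC4_66.just195 HNCertQC4_66.check195

theorem valid197 : Valid 50432 := valid196.step HNCertQC4_66.just196 HNCertQC4_66.check196

theorem valid198 : Valid 50688 := valid197.step HNCertQC4_66.just197 HNCertQC4_66.check197

theorem valid199 : Valid 50944 := valid198.step HNCertQC4_66.just198 HNCertQC4_66.check198

theorem valid200 : Valid 51200 := valid199.step HNCertQC4_66.just199 HNCertQC4_66.check199

theorem valid201 : Valid 51456 := valid200.step HNCertQC5_66.just200 HNCertQC5_66.check200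

theorem valid202 : Valid 51712 := valid201.step HNCertQC5_66.just201 HNCertQC5_66.check201

theorem valid203 : Valid 51968 := valid202.step HNCertQC5_66.just202 HNCertQC5_66.check202

theorem valid204 : Valid 52224 := valid203.step HNCertQC5_66.just203 HNCertQC5_66.check203

theorem valid205 : Valid 52480 := valid204.step HNCertQC5_66.just204 HNCertQC5_66.check204

theorem valid206 : Valid 52736 := valid205.step HNCertQC5_66.just205 HNCertQC5_66.check205

theorem valid207 : Valid 52992 := valid206.step HNCertQC5_66.just206 HNCertQC5_66.check206

theorem valid208 : Valid 53248 := valid207.step HNCertQC5_66.just207 HNCertQC5_66.check207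

theorem valid209 : Valid 53504 := valid208.step HNCertQC5_66.just208 HNCertQC5_66.check208

theorem valid210 : Valid 53760 := valid209.step HNCertQC5_66.just209 HNCertQC5_66.check209

theorem valid211 : Valid 54016 := valid210.step HNCertQC5_66.just210 HNCertQC5_66.check210

theorem valid212 : Valid 54272 := valid211.step HNCertQC5_66.just211 HNCertQC5_66.check211

theorem valid213 : Valid 54528 := valid212.step HNCertQC5_66.just212 HNCertQC5_66.check212

theorem valid214 : Valid 54784 := valid213.step HNCertQC5_66.just213 HNCertQC5_66.check213

theorem valid215 : Valid 55040 := valid214.step HNCertQC5_66.just214 HNCertQC5_66.check214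

theorem valid216 : Valid 55296 := valid215.step HNCertQC5_66.just215 HNCertQC5_66.check215

theorem valid217 : Valid 55552 := valid216.step HNCertQC5_66.just216 HNCertQC5_66.check216

theorem valid218 : Valid 55808 := valid217.step HNCertQC5_66.just217 HNCertQC5_66.check217

theorem valid219 : Valid 56064 := valid218.step HNCertQC5_66.just218 HNCertQC5_66.check218

theorem valid220 : Valid 56320 := valid219.step HNCertQC5_66.just219 HNCertQC5_66.check219

theorem valid221 : Valid 56576 := valid220.step HNCertQC5_66.just220 HNCertQC5_66.check220

theorem valid222 : Valid 56832 := valid221.step HNCertQC5_66.just221 HNCertQC5_66.check221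

theorem valid223 : Valid 57088 := valid222.step HNCertQC5_66.just222 HNCertQC5_66.check222

theorem valid224 : Valid 57344 := valid223.step HNCertQC5_66.just223 HNCertQC5_66.check223

theorem valid225 : Valid 57600 := valid224.step HNCertQC5_66.just224 HNCertQC5_66.check224

theorem valid226 : Valid 57856 := valid225.step HNCertQC5_66.just225 HNCertQC5_66.check225

theorem valid227 : Valid 58112 := valid226.step HNCertQC5_66.just226 HNCertQC5_66.check226

theorem valid228 : Valid 58368 := valid227.step HNCertQC5_66.just227 HNCertQC5_66.check227

theorem valid229 : Valid 58624 := valid228.step HNCertQC5_66.just228 HNCertQC5_66.check228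

theorem valid230 : Valid 58880 := valid229.step HNCertQC5_66.just229 HNCertQC5_66.check229

theorem valid231 : Valid 59136 := valid230.step HNCertQC5_66.just230 HNCertQC5_66.check230

theorem valid232 : Valid 59392 := valid231.step HNCertQC5_66.just231 HNCertQC5_66.check231

theorem valid233 : Valid 59648 := valid232.step HNCertQC5_66.just232 HNCertQC5_66.check232

theorem valid234 : Valid 59904 := valid233.step HNCertQC5_66.just233 HNCertQC5_66.check233

theorem valid235 : Valid 60160 := valid234.step HNCertQC5_66.just234 HNCertQC5_66.check234

theorem valid236 : Valid 60416 := valid235.step HNCertQC5_66.just235 HNCertQC5_66.check235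

theorem valid237 : Valid 60672 := valid236.step HNCertQC5_66.just236 HNCertQC5_66.check236

theorem valid238 : Valid 60928 := valid237.step HNCertQC5_66.just237 HNCertQC5_66.check237

theorem valid239 : Valid 61184 := valid238.step HNCertQC5_66.just238 HNCertQC5_66.check238

theorem valid240 : Valid 61440 := valid239.step HNCertQC5_66.just239 HNCertQC5_66.check239

theorem valid241 : Valid 61696 := valid240.step HNCertQC6_66.just240 HNCertQC6_66.check240

theorem valid242 : Valid 61952 := valid241.step HNCertQC6_66.just241 HNCertQC6_66.check241

theorem valid243 : Valid 62208 := valid242.step HNCertQC6_66.just242 HNCertQC6_66.check242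

theorem valid244 : Valid 62464 := valid243.step HNCertQC6_66.just243 HNCertQC6_66.check243

theorem valid245 : Valid 62720 := valid244.step HNCertQC6_66.just244 HNCertQC6_66.check244

theorem valid246 : Valid 62976 := valid245.step HNCertQC6_66.just245 HNCertQC6_66.check245

theorem valid247 : Valid 63232 := valid246.step HNCertQC6_66.just246 HNCertQC6_66.check246

theorem valid248 : Valid 63488 := valid247.step HNCertQC6_66.just247 HNCertQC6_66.check247

theorem valid249 : Valid 63744 := valid248.step HNCertQC6_66.just248 HNCertQC6_66.check248

theorem valid250 : Valid 64000 := valid249.step HNCertQC6_66.just249 HNCertQC6_66.check249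

theorem valid251 : Valid 64256 := valid250.step HNCertQC6_66.just250 HNCertQC6_66.check250

theorem valid252 : Valid 64512 := valid251.step HNCertQC6_66.just251 HNCertQC6_66.check251

theorem valid253 : Valid 64768 := valid252.step HNCertQC6_66.just252 HNCertQC6_66.check252

theorem valid254 : Valid 65024 := valid253.step HNCertQC6_66.just253 HNCertQC6_66.check253

theorem valid255 : Valid 65280 := valid254.step HNCertQC6_66.just254 HNCertQC6_66.check254

theorem valid256 : Valid 65536 := valid255.step HNCertQC6_66.just255 HNCertQC6_66.check255

theorem valid257 : Valid 65792 := valid256.step HNCertQC6_66.just256 HNCertQC6_66.check256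

theorem valid258 : Valid 66048 := valid257.step HNCertQC6_66.just257 HNCertQC6_66.check257

theorem valid259 : Valid 66304 := valid258.step HNCertQC6_66.just258 HNCertQC6_66.check258

theorem valid260 : Valid 66560 := valid259.step HNCertQC6_66.just259 HNCertQC6_66.check259

theorem valid261 : Valid 66816 := valid260.step HNCertQC6_66.just260 HNCertQC6_66.check260

theorem valid262 : Valid 67072 := valid261.step HNCertQC6_66.just261 HNCertQC6_66.check261

theorem valid263 : Valid 67328 := valid262.step HNCertQC6_66.just262 HNCertQC6_66.check262

theorem valid264 : Valid 67584 := valid263.step HNCertQC6_66.just263 HNCertQC6_66.check263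

theorem valid265 : Valid 67840 := valid264.step HNCertQC6_66.just264 HNCertQC6_66.check264

theorem valid266 : Valid 68096 := valid265.step HNCertQC6_66.just265 HNCertQC6_66.check265

theorem valid267 : Valid 68352 := valid266.step HNCertQC6_66.just266 HNCertQC6_66.check266

theorem valid268 : Valid 68608 := valid267.step HNCertQC6_66.just267 HNCertQC6_66.check267

theorem valid269 : Valid 68864 := valid268.step HNCertQC6_66.just268 HNCertQC6_66.check268

theorem valid270 : Valid 69120 := valid269.step HNCertQC6_66.just269 HNCertQC6_66.check269

theorem valid271 : Valid 69376 := valid270.step HNCertQC6_66.just270 HNCertQC6_66.check270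

theorem valid272 : Valid 69632 := valid271.step HNCertQC6_66.just271 HNCertQC6_66.check271

theorem valid273 : Valid 69888 := valid272.step HNCertQC6_66.just272 HNCertQC6_66.check272

theorem valid274 : Valid 70144 := valid273.step HNCertQC6_66.just273 HNCertQC6_66.check273

theorem valid275 : Valid 70400 := valid274.step HNCertQC6_66.just274 HNCertQC6_66.check274

theorem valid276 : Valid 70656 := valid275.step HNCertQC6_66.just275 HNCertQC6_66.check275

theorem valid277 : Valid 70912 := valid276.step HNCertQC6_66.just276 HNCertQC6_66.check276

theorem valid278 : Valid 71168 := valid277.step HNCertQC6_66.just277 HNCertQC6_66.check277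

theorem valid279 : Valid 71424 := valid278.step HNCertQC6_66.just278 HNCertQC6_66.check278

theorem valid280 : Valid 71680 := valid279.step HNCertQC6_66.just279 HNCertQC6_66.check279

theorem valid281 : Valid 71936 := valid280.step HNCertQC7_66.just280 HNCertQC7_66.check280

theorem valid282 : Valid 72192 := valid281.step HNCertQC7_66.just281 HNCertQC7_66.check281

theorem valid283 : Valid 72448 := valid282.step HNCertQC7_66.just282 HNCertQC7_66.check282

theorem valid284 : Valid 72704 := valid283.step HNCertQC7_66.just283 HNCertQC7_66.check283

theorem valid285 : Valid 72960 := valid284.step HNCertQC7_66.just284 HNCertQC7_66.check284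

theorem valid286 : Valid 73216 := valid285.step HNCertQC7_66.just285 HNCertQC7_66.check285

theorem valid287 : Valid 73472 := valid286.step HNCertQC7_66.just286 HNCertQC7_66.check286

theorem valid288 : Valid 73728 := valid287.step HNCertQC7_66.just287 HNCertQC7_66.check287

theorem valid289 : Valid 73984 := valid288.step HNCertQC7_66.just288 HNCertQC7_66.check288

theorem valid290 : Valid 74240 := valid289.step HNCertQC7_66.just289 HNCertQC7_66.check289

theorem valid291 : Valid 74496 := valid290.step HNCertQC7_66.just290 HNCertQC7_66.check290

theorem valid292 : Valid 74752 := valid291.step HNCertQC7_66.just291 HNCertQC7_66.check291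

theorem valid293 : Valid 75008 := valid292.step HNCertQC7_66.just292 HNCertQC7_66.check292

theorem valid294 : Valid 75264 := valid293.step HNCertQC7_66.just293 HNCertQC7_66.check293

theorem valid295 : Valid 75520 := valid294.step HNCertQC7_66.just294 HNCertQC7_66.check294

theorem valid296 : Valid 75776 := valid295.step HNCertQC7_66.just295 HNCertQC7_66.check295

theorem valid297 : Valid 76032 := valid296.step HNCertQC7_66.just296 HNCertQC7_66.check296

theorem valid298 : Valid 76288 := valid297.step HNCertQC7_66.just297 HNCertQC7_66.check297

theorem valid299 : Valid 76544 := valid298.step HNCertQC7_66.just298 HNCertQC7_66.check298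

theorem valid300 : Valid 76800 := valid299.step HNCertQC7_66.just299 HNCertQC7_66.check299

theorem valid301 : Valid 77056 := valid300.step HNCertQC7_66.just300 HNCertQC7_66.check300

theorem valid302 : Valid 77312 := valid301.step HNCertQC7_66.just301 HNCertQC7_66.check301

theorem valid303 : Valid 77568 := valid302.step HNCertQC7_66.just302 HNCertQC7_66.check302

theorem valid304 : Valid 77824 := valid303.step HNCertQC7_66.just303 HNCertQC7_66.check303

theorem valid305 : Valid 78080 := valid304.step HNCertQC7_66.just304 HNCertQC7_66.check304

theorem valid306 : Valid 78336 := valid305.step HNCertQC7_66.just305 HNCertQC7_66.check305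

theorem valid307 : Valid 78592 := valid306.step HNCertQC7_66.just306 HNCertQC7_66.check306

theorem valid308 : Valid 78848 := valid307.step HNCertQC7_66.just307 HNCertQC7_66.check307

theorem valid309 : Valid 79104 := valid308.step HNCertQC7_66.just308 HNCertQC7_66.check308

theorem valid310 : Valid 79360 := valid309.step HNCertQC7_66.just309 HNCertQC7_66.check309

theorem valid311 : Valid 79616 := valid310.step HNCertQC7_66.just310 HNCertQC7_66.check310

theorem valid312 : Valid 79872 := valid311.step HNCertQC7_66.just311 HNCertQC7_66.check311

theorem valid313 : Valid 80128 := valid312.step HNCertQC7_66.just312 HNCertQC7_66.check312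

theorem valid314 : Valid 80384 := valid313.step HNCertQC7_66.just313 HNCertQC7_66.check313

theorem valid315 : Valid 80640 := valid314.step HNCertQC7_66.just314 HNCertQC7_66.check314

theorem valid316 : Valid 80896 := valid315.step HNCertQC7_66.just315 HNCertQC7_66.check315

theorem valid317 : Valid 81152 := valid316.step HNCertQC7_66.just316 HNCertQC7_66.check316

theorem valid318 : Valid 81408 := valid317.step HNCertQC7_66.just317 HNCertQC7_66.check317

theorem valid319 : Valid 81664 := valid318.step HNCertQC7_66.just318 HNCertQC7_66.check318

theorem valid320 : Valid 81920 := valid319.step HNCertQC7_66.just319 HNCertQC7_66.check319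

theorem valid321 : Valid 82176 := valid320.step HNCertQC8_66.just320 HNCertQC8_66.check320

theorem valid322 : Valid 82432 := valid321.step HNCertQC8_66.just321 HNCertQC8_66.check321

theorem valid323 : Valid 82688 := valid322.step HNCertQC8_66.just322 HNCertQC8_66.check322

theorem valid324 : Valid 82944 := valid323.step HNCertQC8_66.just323 HNCertQC8_66.check323

theorem valid325 : Valid 83200 := valid324.step HNCertQC8_66.just324 HNCertQC8_66.check324

theorem valid326 : Valid 83456 := valid325.step HNCertQC8_66.just325 HNCertQC8_66.check325

theorem valid327 : Valid 83712 := valid326.step HNCertQC8_66.just326 HNCertQC8_66.check326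

theorem valid328 : Valid 83968 := valid327.step HNCertQC8_66.just327 HNCertQC8_66.check327

theorem valid329 : Valid 84224 := valid328.step HNCertQC8_66.just328 HNCertQC8_66.check328

theorem valid330 : Valid 84480 := valid329.step HNCertQC8_66.just329 HNCertQC8_66.check329

theorem valid331 : Valid 84736 := valid330.step HNCertQC8_66.just330 HNCertQC8_66.check330

theorem valid332 : Valid 84992 := valid331.step HNCertQC8_66.just331 HNCertQC8_66.check331

theorem valid333 : Valid 85248 := valid332.step HNCertQC8_66.just332 HNCertQC8_66.check332

theorem valid334 : Valid 85504 := valid333.step HNCertQC8_66.just333 HNCertQC8_66.check333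

theorem valid335 : Valid 85760 := valid334.step HNCertQC8_66.just334 HNCertQC8_66.check334

theorem valid336 : Valid 86016 := valid335.step HNCertQC8_66.just335 HNCertQC8_66.check335

theorem valid337 : Valid 86272 := valid336.step HNCertQC8_66.just336 HNCertQC8_66.check336

theorem valid338 : Valid 86528 := valid337.step HNCertQC8_66.just337 HNCertQC8_66.check337

theorem valid339 : Valid 86784 := valid338.step HNCertQC8_66.just338 HNCertQC8_66.check338

theorem valid340 : Valid 87040 := valid339.step HNCertQC8_66.just339 HNCertQC8_66.check339

theorem valid341 : Valid 87296 := valid340.step HNCertQC8_66.just340 HNCertQC8_66.check340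

theorem valid342 : Valid 87552 := valid341.step HNCertQC8_66.just341 HNCertQC8_66.check341

theorem valid343 : Valid 87808 := valid342.step HNCertQC8_66.just342 HNCertQC8_66.check342

theorem valid344 : Valid 88064 := valid343.step HNCertQC8_66.just343 HNCertQC8_66.check343

theorem valid345 : Valid 88320 := valid344.step HNCertQC8_66.just344 HNCertQC8_66.check344

theorem valid346 : Valid 88576 := valid345.step HNCertQC8_66.just345 HNCertQC8_66.check345

theorem valid347 : Valid 88832 := valid346.step HNCertQC8_66.just346 HNCertQC8_66.check346

theorem valid348 : Valid 89088 := valid347.step HNCertQC8_66.just347 HNCertQC8_66.check347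

theorem valid349 : Valid 89344 := valid348.step HNCertQC8_66.just348 HNCertQC8_66.check348

theorem valid350 : Valid 89600 := valid349.step HNCertQC8_66.just349 HNCertQC8_66.check349

theorem valid351 : Valid 89856 := valid350.step HNCertQC8_66.just350 HNCertQC8_66.check350

theorem valid352 : Valid 90112 := valid351.step HNCertQC8_66.just351 HNCertQC8_66.check351

theorem valid353 : Valid 90368 := valid352.step HNCertQC8_66.just352 HNCertQC8_66.check352

theorem valid354 : Valid 90624 := valid353.step HNCertQC8_66.just353 HNCertQC8_66.check353

theorem valid355 : Valid 90880 := valid354.step HNCertQC8_66.just354 HNCertQC8_66.check354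

theorem valid356 : Valid 91136 := valid355.step HNCertQC8_66.just355 HNCertQC8_66.check355

theorem valid357 : Valid 91392 := valid356.step HNCertQC8_66.just356 HNCertQC8_66.check356

theorem valid358 : Valid 91648 := valid357.step HNCertQC8_66.just357 HNCertQC8_66.check357

theorem valid359 : Valid 91904 := valid358.step HNCertQC8_66.just358 HNCertQC8_66.check358

theorem valid360 : Valid 92160 := valid359.step HNCertQC8_66.just359 HNCertQC8_66.check359

theorem valid361 : Valid 92416 := valid360.step HNCertQC9_66.just360 HNCertQC9_66.check360

theorem valid362 : Valid 92672 := valid361.step HNCertQC9_66.just361 HNCertQC9_66.check361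

theorem valid363 : Valid 92928 := valid362.step HNCertQC9_66.just362 HNCertQC9_66.check362

theorem valid364 : Valid 93184 := valid363.step HNCertQC9_66.just363 HNCertQC9_66.check363

theorem valid365 : Valid 93440 := valid364.step HNCertQC9_66.just364 HNCertQC9_66.check364

theorem valid366 : Valid 93696 := valid365.step HNCertQC9_66.just365 HNCertQC9_66.check365

theorem valid367 : Valid 93952 := valid366.step HNCertQC9_66.just366 HNCertQC9_66.check366

theorem valid368 : Valid 94208 := valid367.step HNCertQC9_66.just367 HNCertQC9_66.check367

theorem valid369 : Valid 94464 := valid368.step HNCertQC9_66.just368 HNCertQC9_66.check368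

theorem valid370 : Valid 94720 := valid369.step HNCertQC9_66.just369 HNCertQC9_66.check369

theorem valid371 : Valid 94976 := valid370.step HNCertQC9_66.just370 HNCertQC9_66.check370

theorem valid372 : Valid 95232 := valid371.step HNCertQC9_66.just371 HNCertQC9_66.check371

theorem valid373 : Valid 95488 := valid372.step HNCertQC9_66.just372 HNCertQC9_66.check372

theorem valid374 : Valid 95744 := valid373.step HNCertQC9_66.just373 HNCertQC9_66.check373

theorem valid375 : Valid 96000 := valid374.step HNCertQC9_66.just374 HNCertQC9_66.check374

theorem valid376 : Valid 96256 := valid375.step HNCertQC9_66.just375 HNCertQC9_66.check375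

theorem valid377 : Valid 96512 := valid376.step HNCertQC9_66.just376 HNCertQC9_66.check376

theorem valid378 : Valid 96768 := valid377.step HNCertQC9_66.just377 HNCertQC9_66.check377

theorem valid379 : Valid 97024 := valid378.step HNCertQC9_66.just378 HNCertQC9_66.check378

theorem valid380 : Valid 97280 := valid379.step HNCertQC9_66.just379 HNCertQC9_66.check379

theorem valid381 : Valid 97536 := valid380.step HNCertQC9_66.just380 HNCertQC9_66.check380

theorem valid382 : Valid 97792 := valid381.step HNCertQC9_66.just381 HNCertQC9_66.check381

theorem valid383 : Valid 98048 := valid382.step HNCertQC9_66.just382 HNCertQC9_66.check382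

theorem valid384 : Valid 98304 := valid383.step HNCertQC9_66.just383 HNCertQC9_66.check383

theorem valid385 : Valid 98560 := valid384.step HNCertQC9_66.just384 HNCertQC9_66.check384

theorem valid386 : Valid 98816 := valid385.step HNCertQC9_66.just385 HNCertQC9_66.check385

theorem valid387 : Valid 99072 := valid386.step HNCertQC9_66.just386 HNCertQC9_66.check386

theorem valid388 : Valid 99328 := valid387.step HNCertQC9_66.just387 HNCertQC9_66.check387

theorem valid389 : Valid 99584 := valid388.step HNCertQC9_66.just388 HNCertQC9_66.check388

theorem valid390 : Valid 99840 := valid389.step HNCertQC9_66.just389 HNCertQC9_66.check389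

theorem valid391 : Valid 100096 := valid390.step HNCertQC9_66.just390 HNCertQC9_66.check390

theorem valid392 : Valid 100352 := valid391.step HNCertQC9_66.just391 HNCertQC9_66.check391

theorem valid393 : Valid 100608 := valid392.step HNCertQC9_66.just392 HNCertQC9_66.check392

theorem valid394 : Valid 100864 := valid393.step HNCertQC9_66.just393 HNCertQC9_66.check393

theorem valid395 : Valid 101120 := valid394.step HNCertQC9_66.just394 HNCertQC9_66.check394

theorem valid396 : Valid 101376 := valid395.step HNCertQC9_66.just395 HNCertQC9_66.check395

theorem valid397 : Valid 101632 := valid396.step HNCertQC9_66.just396 HNCertQC9_66.check396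

theorem valid398 : Valid 101888 := valid397.step HNCertQC9_66.just397 HNCertQC9_66.check397

theorem valid399 : Valid 102144 := valid398.step HNCertQC9_66.just398 HNCertQC9_66.check398

theorem valid400 : Valid 102400 := valid399.step HNCertQC9_66.just399 HNCertQC9_66.check399

theorem valid401 : Valid 102656 := valid400.step HNCertQC10_66.just400 HNCertQC10_66.check400

theorem valid402 : Valid 102912 := valid401.step HNCertQC10_66.just401 HNCertQC10_66.check401

theorem valid403 : Valid 103168 := valid402.step HNCertQC10_66.just402 HNCertQC10_66.check402

theorem valid404 : Valid 103424 := valid403.step HNCertQC10_66.just403 HNCertQC10_66.check403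

theorem valid405 : Valid 103680 := valid404.step HNCertQC10_66.just404 HNCertQC10_66.check404

theorem valid406 : Valid 103936 := valid405.step HNCertQC10_66.just405 HNCertQC10_66.check405

theorem valid407 : Valid 104192 := valid406.step HNCertQC10_66.just406 HNCertQC10_66.check406

theorem valid408 : Valid 104448 := valid407.step HNCertQC10_66.just407 HNCertQC10_66.check407

theorem valid409 : Valid 104704 := valid408.step HNCertQC10_66.just408 HNCertQC10_66.check408

theorem valid410 : Valid 104960 := valid409.step HNCertQC10_66.just409 HNCertQC10_66.check409

theorem valid411 : Valid 105216 := valid410.step HNCertQC10_66.just410 HNCertQC10_66.check410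

theorem valid412 : Valid 105472 := valid411.step HNCertQC10_66.just411 HNCertQC10_66.check411

theorem valid413 : Valid 105728 := valid412.step HNCertQC10_66.just412 HNCertQC10_66.check412

theorem valid414 : Valid 105984 := valid413.step HNCertQC10_66.just413 HNCertQC10_66.check413

theorem valid415 : Valid 106240 := valid414.step HNCertQC10_66.just414 HNCertQC10_66.check414

theorem valid416 : Valid 106496 := valid415.step HNCertQC10_66.just415 HNCertQC10_66.check415

theorem valid417 : Valid 106752 := valid416.step HNCertQC10_66.just416 HNCertQC10_66.check416

theorem valid418 : Valid 107008 := valid417.step HNCertQC10_66.just417 HNCertQC10_66.check417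

theorem valid419 : Valid 107264 := valid418.step HNCertQC10_66.just418 HNCertQC10_66.check418

theorem valid420 : Valid 107520 := valid419.step HNCertQC10_66.just419 HNCertQC10_66.check419

theorem valid421 : Valid 107776 := valid420.step HNCertQC10_66.just420 HNCertQC10_66.check420

theorem valid422 : Valid 108032 := valid421.step HNCertQC10_66.just421 HNCertQC10_66.check421

theorem valid423 : Valid 108288 := valid422.step HNCertQC10_66.just422 HNCertQC10_66.check422

theorem valid424 : Valid 108544 := valid423.step HNCertQC10_66.just423 HNCertQC10_66.check423

theorem valid425 : Valid 108800 := valid424.step HNCertQC10_66.just424 HNCertQC10_66.check424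

theorem valid426 : Valid 109056 := valid425.step HNCertQC10_66.just425 HNCertQC10_66.check425

theorem valid427 : Valid 109312 := valid426.step HNCertQC10_66.just426 HNCertQC10_66.check426

theorem valid428 : Valid 109568 := valid427.step HNCertQC10_66.just427 HNCertQC10_66.check427

theorem valid429 : Valid 109824 := valid428.step HNCertQC10_66.just428 HNCertQC10_66.check428

theorem valid430 : Valid 110080 := valid429.step HNCertQC10_66.just429 HNCertQC10_66.check429

theorem valid431 : Valid 110336 := valid430.step HNCertQC10_66.just430 HNCertQC10_66.check430

theorem valid432 : Valid 110592 := valid431.step HNCertQC10_66.just431 HNCertQC10_66.check431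

theorem valid433 : Valid 110848 := valid432.step HNCertQC10_66.just432 HNCertQC10_66.check432

theorem valid434 : Valid 111104 := valid433.step HNCertQC10_66.just433 HNCertQC10_66.check433

theorem valid435 : Valid 111360 := valid434.step HNCertQC10_66.just434 HNCertQC10_66.check434

theorem valid436 : Valid 111616 := valid435.step HNCertQC10_66.just435 HNCertQC10_66.check435

theorem valid437 : Valid 111872 := valid436.step HNCertQC10_66.just436 HNCertQC10_66.check436

theorem valid438 : Valid 112128 := valid437.step HNCertQC10_66.just437 HNCertQC10_66.check437

theorem valid439 : Valid 112384 := valid438.step HNCertQC10_66.just438 HNCertQC10_66.check438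

theorem valid440 : Valid 112640 := valid439.step HNCertQC10_66.just439 HNCertQC10_66.check439

theorem valid441 : Valid 112896 := valid440.step HNCertQC11_66.just440 HNCertQC11_66.check440

theorem valid442 : Valid 113152 := valid441.step HNCertQC11_66.just441 HNCertQC11_66.check441

theorem valid443 : Valid 113408 := valid442.step HNCertQC11_66.just442 HNCertQC11_66.check442

theorem valid444 : Valid 113664 := valid443.step HNCertQC11_66.just443 HNCertQC11_66.check443

theorem valid445 : Valid 113920 := valid444.step HNCertQC11_66.just444 HNCertQC11_66.check444

theorem valid446 : Valid 114176 := valid445.step HNCertQC11_66.just445 HNCertQC11_66.check445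

theorem valid447 : Valid 114432 := valid446.step HNCertQC11_66.just446 HNCertQC11_66.check446

theorem valid448 : Valid 114688 := valid447.step HNCertQC11_66.just447 HNCertQC11_66.check447

theorem valid449 : Valid 114944 := valid448.step HNCertQC11_66.just448 HNCertQC11_66.check448

theorem valid450 : Valid 115200 := valid449.step HNCertQC11_66.just449 HNCertQC11_66.check449

theorem valid451 : Valid 115456 := valid450.step HNCertQC11_66.just450 HNCertQC11_66.check450

theorem valid452 : Valid 115712 := valid451.step HNCertQC11_66.just451 HNCertQC11_66.check451

theorem valid453 : Valid 115968 := valid452.step HNCertQC11_66.just452 HNCertQC11_66.check452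

theorem valid454 : Valid 116224 := valid453.step HNCertQC11_66.just453 HNCertQC11_66.check453

theorem valid455 : Valid 116306 := valid454.step HNCertQC11_66.just454 HNCertQC11_66.check454

theorem points0 : AllBelow (edgesOk cert 116306 table) 0 := AllBelow.zero _

theorem points1 : AllBelow (edgesOk cert 116306 table) 256 := AllBelow.step points0 256 HNCertQP66.points0

theorem points2 : AllBelow (edgesOk cert 116306 table) 512 := AllBelow.step points1 256 HNCertQP66.points1

theorem points3 : AllBelow (edgesOk cert 116306 table) 768 := AllBelow.step points2 256 HNCertQP66.points2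

theorem points4 : AllBelow (edgesOk cert 116306 table) 1024 := AllBelow.step points3 256 HNCertQP66.points3

theorem points5 : AllBelow (edgesOk cert 116306 table) 1280 := AllBelow.step points4 256 HNCertQP66.points4

theorem points6 : AllBelow (edgesOk cert 116306 table) 1536 := AllBelow.step points5 256 HNCertQP66.points5

theorem points7 : AllBelow (edgesOk cert 116306 table) 1792 := AllBelow.step points6 256 HNCertQP66.points6

theorem points8 : AllBelow (edgesOk cert 116306 table) 2048 := AllBelow.step points7 256 HNCertQP66.points7

theorem points9 : AllBelow (edgesOk cert 116306 table) 2304 := AllBelow.step points8 256 HNCertQP66.points8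

theorem points10 : AllBelow (edgesOk cert 116306 table) 2560 := AllBelow.step points9 256 HNCertQP66.points9

theorem points11 : AllBelow (edgesOk cert 116306 table) 2816 := AllBelow.step points10 256 HNCertQP66.points10

theorem points12 : AllBelow (edgesOk cert 116306 table) 3072 := AllBelow.step points11 256 HNCertQP66.points11

theorem points13 : AllBelow (edgesOk cert 116306 table) 3328 := AllBelow.step points12 256 HNCertQP66.points12

theorem points14 : AllBelow (edgesOk cert 116306 table) 3584 := AllBelow.step points13 256 HNCertQP66.points13

theorem points15 : AllBelow (edgesOk cert 116306 table) 3840 := AllBelow.step points14 256 HNCertQP66.points14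

theorem points16 : AllBelow (edgesOk cert 116306 table) 4096 := AllBelow.step points15 256 HNCertQP66.points15

theorem points17 : AllBelow (edgesOk cert 116306 table) 4352 := AllBelow.step points16 256 HNCertQP66.points16

theorem points18 : AllBelow (edgesOk cert 116306 table) 4608 := AllBelow.step points17 256 HNCertQP66.points17

theorem points19 : AllBelow (edgesOk cert 116306 table) 4864 := AllBelow.step points18 256 HNCertQP66.points18

theorem points20 : AllBelow (edgesOk cert 116306 table) 5120 := AllBelow.step points19 256 HNCertQP66.points19

theorem points21 : AllBelow (edgesOk cert 116306 table) 5376 := AllBelow.step points20 256 HNCertQP66.points20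

theorem points22 : AllBelow (edgesOk cert 116306 table) 5632 := AllBelow.step points21 256 HNCertQP66.points21

theorem points23 : AllBelow (edgesOk cert 116306 table) 5888 := AllBelow.step points22 256 HNCertQP66.points22

theorem points24 : AllBelow (edgesOk cert 116306 table) 6144 := AllBelow.step points23 256 HNCertQP66.points23

theorem points25 : AllBelow (edgesOk cert 116306 table) 6300 := AllBelow.step points24 156 HNCertQP66.points24

/-- The certificate is checked. -/
theorem closed : Closed cert 116306 table where
  npos := by decide +kernel
  node0 := by decide +kernel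
  flipClosed := by decide +kernel
  edges := points25
  facts := fun g base h => valid455 g base h

end Cfsg.Agent.HNCertQ66
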