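import Cfsg.Agent.Lib.HNWord66

/-!
Orders of subgroups from chains of witnesses, and upper bounds from closed coset tables.
-/

set_option autoImplicit false
set_option linter.style.haveILetI false

namespace Cfsg.Agent.HNWord66

open Cfsg.Agent.CosetCertCore Cfsg.Agent.CosetCertTable Cfsg.Agent.HNTwoHSGroup66

/-- The word of a list of packed generators selected by packed indices (eight bits, one added). -/
noncomputable def gword (gens : List Nat) (k : Nat) : List Nat :=
  Nat.rec (motive := fun _ => Nat → List Nat) (fun _ => [])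
    (fun _ ih n => cond (Nat.beq n 0) []
      (force (Nat.land n 255 - 1) fun a => force (nth gens a 0) fun w =>
        force (Nat.shiftRight n 8) fun m => dec w ++ ih m)) 512 k

/-- The subgroup generated by packed words. -/
noncomputable def sub (gens : List Nat) : Subgroup P3 :=
  Subgroup.closure {g | ∃ n ∈ gens, g = val (dec n)}

theorem val_dec_zero : val (dec 0) = 1 := rfl

theorem gen_mem (gens : List Nat) {n : Nat} (h : n ∈ gens) : val (dec n) ∈ sub gens :=
  Subgroup.subset_closure ⟨n, h, rfl⟩

theorem getD_mem_sub (gens : List Nat) (i : Nat) : val (dec (gens.getD i 0)) ∈ sub gens := by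
  by_cases h : i < gens.length
  · rw [List.getD_eq_getElem _ _ h]
    exact gen_mem gens (List.getElem_mem h)
  · rw [List.getD_eq_default _ _ (by omega), val_dec_zero]
    exact one_mem _

theorem gword_mem (gens : List Nat) (k : Nat) : val (gword gens k) ∈ sub gens := by
  unfold gword
  generalize (512 : Nat) = fuel
  induction fuel generalizing k with
  | zero => exact one_mem _
  | succ n ih =>
    simp only [force_eq, nth_eq] at ih ⊢
    show val (cond (Nat.beq k 0) [] _) ∈ _
    cases Nat.beq k 0
    · simp only [cond_false, val_append]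
      exact mul_mem (getD_mem_sub gens _) (ih _)
    · exact one_mem _

theorem sub_nil : sub [] = ⊥ := by
  rw [sub, Subgroup.closure_eq_bot_iff]
  rintro g ⟨n, hn, -⟩
  simp at hn

/-- One level of witnesses: the point and the index words of the elements moving it. -/
abbrev Level := Nat × List Nat

/-- Check the witnesses of one level. -/
noncomputable def levelOk (T : Tabs) (gens fixed : List Nat) (b : Nat) (els : List Nat) : Nat → Bool :=
  List.rec (motive := fun _ => Nat → Bool) (fun _ => true)
    (fun e _ ih lo => force (T.run (gword gens e) b) fun p =>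
      Nat.ble lo p && fixed.all (fun f => Nat.beq (T.run (gword gens e) f) f) && force (p + 1) ih) els

/-- Check a chain. -/
noncomputable def chainOk (T : Tabs) (gens : List Nat) : List Level → List Nat → Bool :=
  fun L => List.rec (motive := fun _ => List Nat → Bool) (fun _ => true)
    (fun l _ ih fixed => Nat.blt l.1 1408 && levelOk T gens fixed l.1 l.2 0 && ih (l.1 :: fixed)) L

theorem levelOk_cons (T : Tabs) (gens fixed : List Nat) (b e : Nat) (els : List Nat) (lo : Nat) :
    levelOk T gens fixed b (e :: els) lo =
      (Nat.ble lo (T.run (gword gens e) b) &&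
        fixed.all (fun f => Nat.beq (T.run (gword gens e) f) f) &&
        levelOk T gens fixed b els (T.run (gword gens e) b + 1)) := by
  simp only [levelOk, force_eq]

theorem levelOk_spec (T : Tabs) (gens fixed : List Nat) (b : Nat) :
    ∀ (els : List Nat) (lo : Nat), levelOk T gens fixed b els lo = true →
      (els.map fun e => T.run (gword gens e) b).Pairwise (· < ·) ∧
      (∀ e ∈ els, lo ≤ T.run (gword gens e) b ∧ ∀ f ∈ fixed, T.run (gword gens e) f = f) := by
  intro els
  induction els with
  | nil => intro lo _; simp
  | cons e els ih =>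
    intro lo h
    rw [levelOk_cons] at h
    simp only [Bool.and_eq_true, Nat.ble_eq, List.all_eq_true, Nat.beq_eq] at h
    obtain ⟨h1, h2⟩ := ih _ h.2
    refine ⟨?_, ?_⟩
    · rw [List.map_cons, List.pairwise_cons]
      refine ⟨fun y hy => ?_, h1⟩
      obtain ⟨e', he', rfl⟩ := List.mem_map.mp hy
      exact (h2 e' he').1
    · intro e' he'
      rcases List.mem_cons.mp he' with rfl | he'
      · exact ⟨h.1.1, h.1.2⟩
      · exact ⟨by have := (h2 e' he').1; omega, (h2 e' he').2⟩

section

variable {T : Tabs} (hT : T.Ok)
include hT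

/-- Elements fixing the listed points. -/
noncomputable def fixSub (fixed : List Nat) : Subgroup P3 where
  carrier := {g | ∀ p : Fin 1408, (p : Nat) ∈ fixed → (Tabs.pi hT g)⁻¹ p = p}
  one_mem' := fun p _ => by rw [map_one, inv_one]; rfl
  mul_mem' := fun {a b} ha hb p hp => by
    rw [map_mul, mul_inv_rev, Equiv.Perm.mul_apply, ha p hp, hb p hp]
  inv_mem' := fun {a} ha p hp => by
    rw [map_inv, inv_inv]
    conv_lhs => rw [← ha p hp]
    exact Equiv.apply_symm_apply _ _

theorem finite_P3' : Finite P3 := HNTwoHSGroup66.finite_P3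

/-- The chain bound. -/
theorem chain_card (gens : List Nat) :
    ∀ (L : List Level) (fixed : List Nat), chainOk T gens L fixed = true →
      (L.map fun l => l.2.length).prod *
        Nat.card (sub gens ⊓ fixSub hT ((L.map Prod.fst).reverse ++ fixed) : Subgroup P3) ≤
      Nat.card (sub gens ⊓ fixSub hT fixed : Subgroup P3) := by
  haveI := finite_P3' hT
  intro L
  induction L with
  | nil => intro fixed _; simp
  | cons l L ih =>
    intro fixed h
    obtain ⟨b, els⟩ := l
    have h' : Nat.blt b 1408 = true ∧ levelOk T gens fixed b els 0 = true ∧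
        chainOk T gens L (b :: fixed) = true := by
      have := h
      simp only [chainOk, Bool.and_eq_true] at this
      exact ⟨this.1.1, this.1.2, this.2⟩
    obtain ⟨hb, hl, hr⟩ := h'
    rw [Nat.blt_eq] at hb
    obtain ⟨hpw, hels⟩ := levelOk_spec T gens fixed b els 0 hl
    have hw : ∀ i : Fin els.length,
        val (gword gens els[i]) ∈ (sub gens ⊓ fixSub hT fixed : Subgroup P3) := fun i => by
      refine ⟨gword_mem gens _, fun p hp => Fin.ext ?_⟩
      rw [Tabs.run_val]
      exact (hels _ (List.getElem_mem i.2)).2 p hp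
    let f : Fin els.length × (sub gens ⊓ fixSub hT (b :: fixed) : Subgroup P3) →
        (sub gens ⊓ fixSub hT fixed : Subgroup P3) := fun x =>
      ⟨(x.2 : P3) * val (gword gens els[x.1]),
        mul_mem ⟨x.2.2.1, fun p hp => x.2.2.2 p (List.mem_cons_of_mem _ hp)⟩ (hw x.1)⟩
    have hf : Function.Injective f := by
      rintro ⟨i, s⟩ ⟨j, t⟩ e
      have e' : (s : P3) * val (gword gens els[i]) = (t : P3) * val (gword gens els[j]) :=
        congrArg Subtype.val e
      have hs : ∀ (u : (sub gens ⊓ fixSub hT (b :: fixed) : Subgroup P3)) (w : P3),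
          (Tabs.pi hT ((u : P3) * w))⁻¹ ⟨b, hb⟩ = (Tabs.pi hT w)⁻¹ ⟨b, hb⟩ := fun u w => by
        rw [map_mul, mul_inv_rev, Equiv.Perm.mul_apply, u.2.2 ⟨b, hb⟩ (List.mem_cons_self ..)]
      have e2 := congrArg (fun g => (((Tabs.pi hT g)⁻¹ ⟨b, hb⟩ : Fin 1408) : Nat)) e'
      simp only [hs, Tabs.run_val] at e2
      have hij : i = j := by
        by_contra hne
        rw [List.pairwise_iff_getElem] at hpw
        rcases lt_or_gt_of_ne (fun hh => hne (Fin.ext hh)) with hlt | hlt
        · have := hpw i j (by simp) (by simp) hlt
          simp at this e2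
          omega
        · have := hpw j i (by simp) (by simp) hlt
          simp at this e2
          omega
      subst hij
      exact Prod.ext rfl (Subtype.ext (mul_right_cancel e'))
    have hc := Nat.card_le_card_of_injective f hf
    rw [Nat.card_prod, Nat.card_fin] at hc
    have := ih (b :: fixed) hr
    simp only [List.map_cons, List.prod_cons, List.reverse_cons, List.append_assoc,
      List.singleton_append]
    calc _ = els.length * ((L.map fun l => l.2.length).prod * _) := by rw [mul_assoc]
      _ ≤ els.length * _ := Nat.mul_le_mul_left _ this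
      _ ≤ _ := hc

/-- The product of the chain bounds the order from below. -/
theorem card_sub_ge (gens : List Nat) {L : List Level} (h : chainOk T gens L [] = true) :
    (L.map fun l => l.2.length).prod ≤ Nat.card (sub gens) := by
  haveI := finite_P3' hT
  refine le_trans ?_ ((chain_card hT gens L [] h).trans (Subgroup.card_le_of_le inf_le_left))
  exact Nat.le_mul_of_pos_right _ Nat.card_pos

end

/-- One level of a closed coset table. -/
structure Lev where
  gens : List Nat
  reps : List Nat
  tab : List Nat

/-- The check of one entry. -/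
noncomputable def entOk (T : Tabs) (l : Lev) (below : List Nat) (a g : Nat) : Bool :=
  force (nth l.tab (a * l.gens.length + g) 0) fun e =>
  force (Nat.land e 65535) fun b =>
  Nat.blt b l.reps.length &&
    Nat.beq (T.code (dec (nth l.reps a 0) ++ dec (nth l.gens g 0)))
      (T.code (gword below (Nat.shiftRight e 16) ++ dec (nth l.reps b 0)))

/-- The check of one level. -/
noncomputable def levOk (T : Tabs) (l : Lev) (below : List Nat) : Bool :=
  Nat.blt 0 l.reps.length && Nat.beq (l.reps.getD 0 1) 0 &&
    allFrom (fun a => allFrom (entOk T l below a) l.gens.length 0) l.reps.length 0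

/-- The generators below a level. -/
noncomputable def below (L : List Lev) : List Nat :=
  List.rec (motive := fun _ => List Nat) [] (fun l _ _ => l.gens) L

/-- The check of a descending list of tables. -/
noncomputable def upOk (T : Tabs) (L : List Lev) : Bool :=
  List.rec (motive := fun _ => Bool) true (fun l r ih => levOk T l (below r) && ih) L

/-- The table is faithful on the base. -/
structure Tabs.Faithful (T : Tabs) : Prop where
  ok : T.Ok
  inj : ∀ g : P3, (∀ i, (Tabs.pi ok g)⁻¹ (Tabs.bpt i) = Tabs.bpt i) → g = 1

/-- The generators of the whole group. -/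
def allGens : List Nat := [1, 3, 5]

theorem sub_allGens : sub allGens = ⊤ := by
  rw [eq_top_iff, ← closure_gen]
  apply Subgroup.closure_mono
  rintro g (rfl | rfl | rfl)
  · exact ⟨1, by simp [allGens], by rw [show dec 1 = [0] by decide +kernel]; simp [val, gl]⟩
  · exact ⟨3, by simp [allGens], by rw [show dec 3 = [2] by decide +kernel]; simp [val, gl]⟩
  · exact ⟨5, by simp [allGens], by rw [show dec 5 = [4] by decide +kernel]; simp [val, gl]⟩

theorem sub_top {gens : List Nat} (hg : ∀ n ∈ allGens, n ∈ gens) : sub gens = ⊤ := by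
  rw [eq_top_iff, ← sub_allGens]
  exact Subgroup.closure_mono fun g ⟨n, hn, e⟩ => ⟨n, hg n hn, e⟩

theorem faithful_of_chain {T : Tabs} (hT : T.Ok) {gens : List Nat} (hg : ∀ n ∈ allGens, n ∈ gens)
    {L : List Level} (h : chainOk T gens L [] = true) (hp : L.map Prod.fst = [0, 2, 7, 8, 15])
    (hc : 177408000 ≤ (L.map fun l => l.2.length).prod) : T.Faithful := by
  refine ⟨hT, fun g hfix => ?_⟩
  haveI := finite_P3' hT
  have h1 := (chain_card hT gens L [] h).trans
    ((Subgroup.card_le_of_le inf_le_left).trans (Subgroup.card_le_card_group _))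
  have h2 := card_P3_le
  have h3 : Nat.card (sub gens ⊓ fixSub hT ((L.map Prod.fst).reverse ++ []) : Subgroup P3) ≤ 1 := by
    by_contra hne
    have := Nat.mul_le_mul_left (L.map fun l => l.2.length).prod (Nat.lt_of_not_le hne)
    omega
  have hmem : g ∈ (sub gens ⊓ fixSub hT ((L.map Prod.fst).reverse ++ []) : Subgroup P3) := by
    refine ⟨by rw [sub_top hg]; exact Subgroup.mem_top g, fun p hp' => ?_⟩
    rw [hp] at hp'
    simp at hp'
    rcases hp' with e | e | e | e | e
    all_goals first
      | (rw [show p = Tabs.bpt 4 from Fin.ext (by simp_all; rfl)]; exact hfix 4)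
      | (rw [show p = Tabs.bpt 3 from Fin.ext (by simp_all; rfl)]; exact hfix 3)
      | (rw [show p = Tabs.bpt 2 from Fin.ext (by simp_all; rfl)]; exact hfix 2)
      | (rw [show p = Tabs.bpt 1 from Fin.ext (by simp_all; rfl)]; exact hfix 1)
      | (rw [show p = Tabs.bpt 0 from Fin.ext (by simp_all; rfl)]; exact hfix 0)
  rw [Subgroup.eq_bot_of_card_le _ h3, Subgroup.mem_bot] at hmem
  exact hmem

namespace Tabs.Faithful

variable {T : Tabs} (hT : T.Faithful)
include hT

/-- Equal codes mean equal elements. -/
theorem val_eq {v w : List Nat} (h : T.code v = T.code w) : val v = val w := by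
  rw [← mul_inv_eq_one]
  refine hT.inj _ fun i => ?_
  rw [map_mul, map_inv, mul_inv_rev, inv_inv, Equiv.Perm.mul_apply,
    (Tabs.code_eq_iff hT.ok v w).mp h i]
  exact Equiv.apply_symm_apply _ _

theorem code_iff {v w : List Nat} : T.code v = T.code w ↔ val v = val w :=
  ⟨hT.val_eq, fun h => (Tabs.code_eq_iff hT.ok v w).mpr fun i => by rw [h]⟩

/-- One level: every element is a small element times a representative. -/
theorem cover {l : Lev} {bl : List Nat} (h : levOk T l bl = true) {k : P3} (hk : k ∈ sub l.gens) :
    ∃ a < l.reps.length, ∃ s ∈ sub bl, k = s * val (dec (l.reps.getD a 0)) := by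
  haveI := finite_P3' hT.ok
  simp only [levOk, Bool.and_eq_true, Nat.blt_eq, Nat.beq_eq, allFrom_iff] at h
  obtain ⟨⟨hpos, h0⟩, htab⟩ := h
  let U : Set P3 := {k | ∃ a < l.reps.length, ∃ s ∈ sub bl, k = s * val (dec (l.reps.getD a 0))}
  have hstep : ∀ n ∈ l.gens, ∀ u ∈ U, u * val (dec n) ∈ U := by
    intro n hn u hu
    obtain ⟨g, hg, rfl⟩ := List.mem_iff_getElem.mp hn
    obtain ⟨a, ha, s, hs, rfl⟩ := hu
    have h1 := htab a (Nat.zero_le a) (by omega) g (Nat.zero_le g) (by omega)
    simp only [entOk, force_eq, nth_eq, Bool.and_eq_true, Nat.blt_eq, Nat.beq_eq] at h1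
    have h2 := hT.val_eq h1.2
    rw [val_append, val_append, List.getD_eq_getElem _ _ hg] at h2
    exact ⟨_, h1.1, _, mul_mem hs (gword_mem bl _), by rw [mul_assoc, h2, ← mul_assoc]⟩
  have hinv : ∀ n ∈ l.gens, ∀ u ∈ U, u * (val (dec n))⁻¹ ∈ U := by
    intro n hn u hu
    have hb : Set.BijOn (fun u : P3 => u * val (dec n)) U U :=
      (Set.toFinite U).injOn_iff_bijOn_of_mapsTo (fun u hu => hstep n hn u hu) |>.mp
        (mul_left_injective _).injOn
    obtain ⟨v, hv, e⟩ := hb.surjOn hu
    rw [← e]
    simpa using hv
  have hone : (1 : P3) ∈ U := by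
    refine ⟨0, hpos, 1, one_mem _, ?_⟩
    rw [List.getD_eq_getElem _ _ hpos] at h0
    rw [List.getD_eq_getElem _ _ hpos, h0, val_dec_zero, one_mul]
  refine Subgroup.closure_induction_right (p := fun x _ => x ∈ U) hone ?_ ?_ hk
  · rintro x - y ⟨n, hn, rfl⟩ hx
    exact hstep n hn x hx
  · rintro x - y ⟨n, hn, rfl⟩ hx
    exact hinv n hn x hx

theorem card_le_lev {l : Lev} {bl : List Nat} (h : levOk T l bl = true) :
    Nat.card (sub l.gens) ≤ l.reps.length * Nat.card (sub bl) := by
  haveI := finite_P3' hT.ok
  classical
  let r : sub l.gens → Fin l.reps.length × sub bl := fun k =>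
    (⟨_, (hT.cover h k.2).choose_spec.1⟩, ⟨_, (hT.cover h k.2).choose_spec.2.choose_spec.1⟩)
  have hr : Function.Injective r := by
    intro x y e
    apply Subtype.ext
    rw [(hT.cover h x.2).choose_spec.2.choose_spec.2, (hT.cover h y.2).choose_spec.2.choose_spec.2]
    have e1 := congrArg (fun z => (z.1 : Nat)) e
    have e2 := congrArg (fun z => (z.2 : P3)) e
    simp only [r] at e1 e2
    rw [e2]
    simp only [e1]
  have := Nat.card_le_card_of_injective r hr
  rwa [Nat.card_prod, Nat.card_fin] at this

/-- A descending list of tables bounds the order from above. -/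
theorem card_le_up : ∀ {L : List Lev}, upOk T L = true →
    Nat.card (sub (below L)) ≤ (L.map fun l => l.reps.length).prod
  | [], _ => by
    show Nat.card (sub []) ≤ _
    rw [sub_nil]
    simp
  | l :: L, h => by
    have h' : levOk T l (below L) = true ∧ upOk T L = true := by
      simpa [upOk, below] using h
    rw [List.map_cons, List.prod_cons]
    exact (hT.card_le_lev h'.1).trans (Nat.mul_le_mul_left _ (card_le_up h'.2))

end Tabs.Faithful

end Cfsg.Agent.HNWord66
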