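import Cfsg.Agent.Lib.HNData66

/-!
Kernel checks of the certificate, part A.
-/

set_option autoImplicit false
set_option maxRecDepth 100000
set_option Elab.async false

namespace Cfsg.Agent.HNWord66.HNData

open Cfsg.Agent.CosetCertCore Cfsg.Agent.CosetCertTable Cfsg.Agent.HNWord66

theorem pts_ok_0 : allFrom (tabs.ptOk relWords) 176 0 = true := by decide +kernel

theorem pts_ok_176 : allFrom (tabs.ptOk relWords) 176 176 = true := by decide +kernel

theorem pts_ok_352 : allFrom (tabs.ptOk relWords) 176 352 = true := by decide +kernel

theorem pts_ok_528 : allFrom (tabs.ptOk relWords) 176 528 = true := by decide +kernel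

theorem pts_ok_704 : allFrom (tabs.ptOk relWords) 176 704 = true := by decide +kernel

theorem pts_ok_880 : allFrom (tabs.ptOk relWords) 176 880 = true := by decide +kernel

theorem pts_ok_1056 : allFrom (tabs.ptOk relWords) 176 1056 = true := by decide +kernel

theorem pts_ok_1232 : allFrom (tabs.ptOk relWords) 176 1232 = true := by decide +kernel

theorem chain_ok : chainOk tabs pGens pChain [] = true := by decide +kernel

theorem lUp_ok : upOk tabs gdata.toMData.toData.lUp = true := by decide +kernel

theorem levM_ok : levOk tabs gdata.toMData.toData.levM gdata.toMData.toData.mGens = true := by decide +kernel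

theorem levM0_ok : levOk tabs gdata.toMData.levM0 gdata.toMData.m0Gens = true := by decide +kernel

theorem kUp_ok_0 : allFrom (gdata.toMData.kUpOk) 1 0 = true := by decide +kernel

theorem kUp_ok_1 : allFrom (gdata.toMData.kUpOk) 1 1 = true := by decide +kernel

theorem kUp_ok_2 : allFrom (gdata.toMData.kUpOk) 1 2 = true := by decide +kernel

theorem kUp_ok_3 : allFrom (gdata.toMData.kUpOk) 1 3 = true := by decide +kernel

theorem kUp_ok_4 : allFrom (gdata.toMData.kUpOk) 1 4 = true := by decide +kernel

theorem kUp_ok_5 : allFrom (gdata.toMData.kUpOk) 1 5 = true := by decide +kernel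

theorem kUp_ok_6 : allFrom (gdata.toMData.kUpOk) 1 6 = true := by decide +kernel

theorem kUp_ok_7 : allFrom (gdata.toMData.kUpOk) 1 7 = true := by decide +kernel

theorem kUp_ok_8 : allFrom (gdata.toMData.kUpOk) 1 8 = true := by decide +kernel

end Cfsg.Agent.HNWord66.HNData
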