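import Cfsg.Agent.Lib.HNTwoHSGroup66
import Cfsg.Prelude.Def_Spor_HN

/-!
The subgroup of the presented Harada-Norton group generated by the first three generators.
-/

set_option autoImplicit false

namespace Cfsg.Agent.HNTwoHSEmbed66

open Cfsg Cfsg.Spor Cfsg.Agent.HNTwoHSRels66

/-- The quotient map. -/
abbrev q : FreeGroup HN.Gen →* HN :=
  PresentedGroup.mk (coxRelators HN.edges ∪ {r | r ∈ HN.extra})

theorem rels_HN : Rels (q HN.x) (q HN.y) (q HN.z) := by
  have h : ∀ r ∈ HN.extra, q r = 1 := fun r hr => PresentedGroup.one_of_mem (Or.inr hr)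
  simp only [HN.extra, List.forall_mem_cons, map_mul, map_pow, map_inv, List.not_mem_nil,
    false_implies, implies_true, and_true] at h
  obtain ⟨a, b, c, d, e, f, g, i, j, k, -⟩ := h
  exact ⟨a, b, c, d, e, f, g, i, j, k⟩

/-- The double cover inside, given a map of the presented group in which two squares survive. -/
theorem exists_in {R : Type*} [Monoid R] (f : HN →* R) (hx : f (q (HN.x ^ 2)) ≠ 1)
    (hy : f (q (HN.y ^ 2)) ≠ 1) :
    ∃ K : Subgroup ((Subgroup.closure ({HN.x, HN.y, HN.z} : Set (FreeGroup HN.Gen))).map q),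
      K.Normal ∧ K.index = 2 ∧ IsNonsplitDoubleCover K Spor.HS := by
  let S := Subgroup.closure ({HN.x, HN.y, HN.z} : Set (FreeGroup HN.Gen))
  let x' : S.map q := ⟨q HN.x, Subgroup.mem_map_of_mem q (Subgroup.subset_closure (by simp))⟩
  let y' : S.map q := ⟨q HN.y, Subgroup.mem_map_of_mem q (Subgroup.subset_closure (by simp))⟩
  let z' : S.map q := ⟨q HN.z, Subgroup.mem_map_of_mem q (Subgroup.subset_closure (by simp))⟩
  have h0 := rels_HN
  have h : Rels x' y' z' :=
    ⟨Subtype.ext h0.r1, Subtype.ext h0.r2, Subtype.ext h0.r3, Subtype.ext h0.r4, Subtype.ext h0.r5,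
      Subtype.ext h0.r6, Subtype.ext h0.r7, Subtype.ext h0.r8, Subtype.ext h0.r9, Subtype.ext h0.r10⟩
  have hgen : Subgroup.closure ({x', y', z'} : Set (S.map q)) = ⊤ := by
    have e : S.map q = Subgroup.closure {q HN.x, q HN.y, q HN.z} := by
      rw [MonoidHom.map_closure]; simp [Set.image_insert_eq]
    apply Subgroup.map_injective (S.map q).subtype_injective
    rw [MonoidHom.map_closure, ← MonoidHom.range_eq_map, Subgroup.range_subtype]
    exact Eq.trans (by simp [Set.image_insert_eq, x', y', z']) e.symm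
  refine HNTwoHSGroup66.exists_cover h hgen (f.comp (S.map q).subtype) ?_ ?_
  · rw [MonoidHom.comp_apply, Subgroup.coe_subtype, Subgroup.coe_pow]
    rw [map_pow q] at hx
    exact hx
  · rw [MonoidHom.comp_apply, Subgroup.coe_subtype, Subgroup.coe_pow]
    rw [map_pow q] at hy
    exact hy

end Cfsg.Agent.HNTwoHSEmbed66
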