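import Cfsg.Agent.Lib.HNModel66
import Cfsg.Agent.Lib.HNTwoHSEmbed66

/-!
The coset space of the subgroup generated by the first three generators of the presented Harada-Norton
group: the compressed enumeration bounds it from above and the model bounds it from below.
-/

set_option autoImplicit false
set_option linter.style.haveILetI false

namespace Cfsg.Agent.HNWord66

open Cfsg Cfsg.Spor
open Cfsg.Agent.CosetCertCore Cfsg.Agent.CosetCertTable Cfsg.Agent.HNTwoHSGroup66

open HNTwoHSEmbed66 (q rels_HN)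

/-- The images of the three generators. -/
noncomputable def genHN : Gen3 → HN
  | .a => q HN.x
  | .b => q HN.y
  | .c => q HN.z

theorem genHN_rels : ∀ r ∈ ({r | r ∈ rels3} : Set (FreeGroup Gen3)), FreeGroup.lift genHN r = 1 := by
  show ∀ r ∈ rels3, FreeGroup.lift genHN r = 1
  have h := rels_HN
  simp only [rels3, List.forall_mem_cons, map_mul, map_pow, map_inv, FreeGroup.lift_apply_of, genHN,
    List.not_mem_nil, false_implies, implies_true, and_true]
  exact ⟨h.r1, h.r2, h.r3, h.r4, h.r5, h.r6, h.r7, h.r8, h.r9, h.r10⟩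

/-- The map of the double cover into the presented group. -/
noncomputable def phi : P3 →* HN := PresentedGroup.toGroup genHN_rels

theorem phi_A : phi gA = q HN.x := PresentedGroup.toGroup.of genHN_rels
theorem phi_B : phi gB = q HN.y := PresentedGroup.toGroup.of genHN_rels
theorem phi_C : phi gC = q HN.z := PresentedGroup.toGroup.of genHN_rels

/-- The subgroup generated by the first three generators. -/
abbrev HXYZ : Subgroup HN :=
  (Subgroup.closure ({HN.x, HN.y, HN.z} : Set (FreeGroup HN.Gen))).map q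

theorem range_phi : phi.range = HXYZ := by
  rw [MonoidHom.range_eq_map, ← closure_gen, MonoidHom.map_closure, HXYZ, MonoidHom.map_closure]
  simp [Set.image_insert_eq, phi_A, phi_B, phi_C]

theorem gen_top : Subgroup.closure ({q HN.x, q HN.y, q HN.z, q HN.t} : Set HN) = ⊤ := by
  rw [eq_top_iff, ← PresentedGroup.closure_range_of]
  apply Subgroup.closure_mono
  rintro _ ⟨g, rfl⟩
  cases g
  · exact Or.inl rfl
  · exact Or.inr (Or.inl rfl)
  · exact Or.inr (Or.inr (Or.inl rfl))
  · exact Or.inr (Or.inr (Or.inr rfl))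

theorem t_five : (q HN.t) ^ 5 = 1 := by
  rw [← map_pow]
  exact PresentedGroup.one_of_mem (Or.inr (by simp [HN.extra]))

theorem t_conj : (q HN.x)⁻¹ * q HN.t * q HN.x * (q HN.t) ^ 2 = 1 := by
  have h : q (HN.x⁻¹ * HN.t * HN.x * HN.t ^ 2) = 1 :=
    PresentedGroup.one_of_mem (Or.inr (by simp [HN.extra]))
  simpa using h

theorem t_comm : q HN.t * q HN.y = q HN.y * q HN.t := by
  have h : q (HN.t⁻¹ * HN.y⁻¹ * HN.t * HN.y) = 1 :=
    PresentedGroup.one_of_mem (Or.inr (by simp [HN.extra]))
  simp only [map_mul, map_inv] at h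
  calc q HN.t * q HN.y = q HN.y * q HN.t * ((q HN.t)⁻¹ * (q HN.y)⁻¹ * q HN.t * q HN.y) := by group
    _ = q HN.y * q HN.t := by rw [h, mul_one]

theorem zt_cube : (q HN.z * q HN.t) ^ 3 = 1 := by
  rw [← map_mul, ← map_pow]
  exact PresentedGroup.one_of_mem (Or.inr (by simp [HN.extra]))

/-- The cosets. -/
abbrev Cos : Type := HN ⧸ HXYZ

noncomputable instance : MulAction P3 Cos := MulAction.compHom Cos phi

theorem smul_cos (g : P3) (p : Cos) : g • p = phi g • p := rfl

/-- The base coset. -/
noncomputable def bCos : Cos := QuotientGroup.mk 1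

theorem fix_bCos (g : P3) : g • bCos = bCos := by
  rw [smul_cos, bCos, MulAction.Quotient.smul_mk, smul_eq_mul, mul_one]
  exact QuotientGroup.eq.mpr (by
    rw [mul_one]; exact inv_mem (range_phi ▸ ⟨g, rfl⟩))

/-- The element of order five on the cosets. -/
noncomputable def tauC : Equiv.Perm Cos := MulAction.toPerm (q HN.t)⁻¹

theorem tauC_pow (n : Nat) (p : Cos) : (tauC ^ n) p = ((q HN.t)⁻¹ ^ n) • p := by
  rw [show tauC = MulAction.toPermHom HN Cos (q HN.t)⁻¹ from rfl, ← map_pow]
  rfl

/-- How a fact is justified. -/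
inductive GJ : Type
  | base : GJ
  | dfn : GJ
  | walk (J : Just) : GJ

/-- All data. -/
structure GData extends MData where
  just : List (List GJ)
  tidf : List Nat

namespace GData

variable (D : GData)

/-- The justification of one fact. -/
noncomputable def justOk (m : Nat) : Bool :=
  match look D.just m .base, D.fact m with
  | .base, .h i _ j => Nat.beq i 0 && Nat.beq j 0
  | .base, .t _ _ _ _ => false
  | .dfn, .h i _ j => Nat.blt i j && Nat.beq (D.reach.getD j D.nf) m
  | .dfn, .t i _ j _ => Nat.blt i j && Nat.beq (D.reach.getD j D.nf) m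
  | .walk J, f => justFOk D.T ruleList D.fact m f J

/-- The powers are realised by facts. -/
noncomputable def tgoOk (i : Nat) : Bool :=
  allFrom (fun e => force (D.tidf.getD (4 * i + e - 1) D.nf) fun m =>
    Nat.blt m D.nf &&
    match D.fact m with
    | .h _ _ _ => false
    | .t a f j l => Nat.beq a i && Nat.beq (f % 5) e && Nat.blt j D.n && isL (dec l)) 4 1

/-- The finite checks. -/
structure Checks : Prop where
  model : D.toMData.Checks
  just : ∀ m < D.nf, D.justOk m = true
  tgo : ∀ i < D.n, D.tgoOk i = true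

/-- The nodes among the cosets. -/
noncomputable def vG (j : Nat) : Cos :=
  match D.fact (D.reach.getD j D.nf) with
  | .h i w _ => if _ : i < j then Space.pw (dec w) (vG i) else bCos
  | .t i e _ l => if _ : i < j then Space.pw (winv (dec l)) ((tauC ^ e) (vG i)) else bCos
termination_by j

/-- The cosets as a space. -/
noncomputable def SG : Space Cos where
  tau := tauC
  five := Equiv.ext fun p => by
    rw [tauC_pow, inv_pow, t_five, inv_one, one_smul]; rfl
  moveA p := by
    rw [tauC_pow]
    show (q HN.t)⁻¹ • (phi gA⁻¹ • p) = phi gA⁻¹ • ((q HN.t)⁻¹ ^ 2 • p)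
    rw [smul_smul, smul_smul, map_inv, phi_A]
    congr 1
    have h5 : (q HN.t) ^ 4 * q HN.t = 1 := by rw [← pow_succ]; exact t_five
    have h2 : (q HN.x)⁻¹ * q HN.t * q HN.x = ((q HN.t) ^ 2)⁻¹ := eq_inv_of_mul_eq_one_left t_conj
    have h3 : (q HN.x)⁻¹ * (q HN.t) ^ 2 * q HN.x = q HN.t := by
      have e : ((q HN.x)⁻¹ * q HN.t * q HN.x) ^ 2 = ((q HN.t) ^ 4)⁻¹ := by
        rw [h2, inv_pow, ← pow_mul]
      rw [eq_inv_of_mul_eq_one_left h5, inv_inv, sq] at e
      refine Eq.trans ?_ e
      rw [sq]
      group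
    calc (q HN.t)⁻¹ * (q HN.x)⁻¹
        = ((q HN.x)⁻¹ * (q HN.t) ^ 2 * q HN.x)⁻¹ * (q HN.x)⁻¹ := by rw [h3]
      _ = (q HN.x)⁻¹ * ((q HN.t)⁻¹) ^ 2 := by group
  moveB p := by
    show (q HN.t)⁻¹ • (phi gB⁻¹ • p) = phi gB⁻¹ • ((q HN.t)⁻¹ • p)
    rw [smul_smul, smul_smul, map_inv, phi_B, ← mul_inv_rev, ← mul_inv_rev, t_comm]
  v := D.vG

theorem braidG (p : Cos) : D.SG.ract ztR p = p := by
  have e4 : (val [4])⁻¹ = gC := by simp [val_cons, val_nil, gl, gC_inv]
  show D.SG.tau.1 _ = p
  simp only [Space.pw, e4, SG, Space.tact, pow_one, smul_cos, phi_C]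
  show (q HN.t)⁻¹ • q HN.z • (q HN.t)⁻¹ • q HN.z • (q HN.t)⁻¹ • q HN.z • p = p
  have hz : q HN.z = (q HN.z)⁻¹ := by
    have := congrArg phi gC_inv
    rw [map_inv, phi_C] at this
    exact this.symm
  simp only [smul_smul, ← mul_assoc]
  have e : (q HN.t)⁻¹ * q HN.z * (q HN.t)⁻¹ * q HN.z * (q HN.t)⁻¹ * q HN.z = 1 := by
    rw [← inv_inj, inv_one, ← zt_cube]
    conv_lhs => rw [hz]
    simp [pow_succ, mul_assoc]
  rw [e, one_smul]

variable {D} (hD : D.Checks)
include hD

theorem hFG : ∀ m < D.nf, D.SG.FV (D.fact m) := by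
  intro m
  induction m using Nat.strong_induction_on with
  | _ m ih =>
    intro hm
    have h := hD.just m hm
    have hv : ∀ j, D.SG.v j = D.vG j := fun _ => rfl
    unfold justOk at h
    cases hJ : look D.just m .base with
    | walk J =>
      rw [hJ] at h
      cases hf : D.fact m <;> rw [hf] at h <;>
        exact D.SG.justFOk_sound hD.model.base.faithful (D.SG.ract_ruleList D.braidG)
          (fun n hn => ih n hn (hn.trans hm)) h
    | base =>
      rw [hJ] at h
      cases hf : D.fact m with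
      | t => rw [hf] at h; simp at h
      | h i w j =>
        rw [hf] at h
        simp only [Bool.and_eq_true, Nat.beq_eq] at h
        obtain ⟨rfl, rfl⟩ := h
        have e : D.vG 0 = bCos := by
          rw [vG]
          split <;> simp
        show Space.pw (dec w) (D.vG 0) = D.vG 0
        rw [e]
        exact fix_bCos _
    | dfn =>
      rw [hJ] at h
      cases hf : D.fact m with
      | h i w j =>
        rw [hf] at h
        simp only [Bool.and_eq_true, Nat.blt_eq, Nat.beq_eq] at h
        show Space.pw (dec w) (D.vG i) = D.vG j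
        conv_rhs => rw [vG, h.2, hf]
        simp only [h.1, dite_true]
      | t i e j l =>
        rw [hf] at h
        simp only [Bool.and_eq_true, Nat.blt_eq, Nat.beq_eq] at h
        show (tauC ^ e) (D.vG i) = Space.pw (dec l) (D.vG j)
        conv_rhs => rw [vG, h.2, hf]
        simp only [h.1, dite_true]
        rw [Space.pw, Space.pw, val_winv, inv_inv, inv_smul_smul]

theorem hFGh : ∀ m < D.nf, D.SG.FV (D.toData.hFact m) := by
  intro m hm
  have h := hFG hD m hm
  rw [Data.hFact]
  generalize D.fact m = f at h ⊢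
  cases f with
  | h i w j => exact h
  | t i e j l => exact Space.pw_nil _

theorem U_tau {p : Cos} (hp : p ∈ Data.U D.toData D.SG) : tauC p ∈ Data.U D.toData D.SG := by
  obtain ⟨i, hi, l, hl, rfl⟩ := hp
  have e := D.SG.tau_pw hl 1 (D.SG.v i)
  rw [pow_one, one_mul] at e
  show D.SG.tau _ ∈ _
  rw [e, D.SG.tpow_mod]
  rcases Nat.eq_zero_or_pos (exW l % 5) with h0 | h0
  · rw [h0, pow_zero]
    exact ⟨i, hi, l, hl, rfl⟩
  · have h := hD.tgo i hi
    simp only [tgoOk, allFrom_iff, force_eq, Bool.and_eq_true, Nat.blt_eq] at h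
    obtain ⟨hm, h'⟩ := h (exW l % 5) h0 (by have := Nat.mod_lt (exW l) (show 5 > 0 by norm_num); omega)
    have hf := hFG hD _ hm
    generalize D.fact (D.tidf.getD (4 * i + exW l % 5 - 1) D.nf) = f at h' hf
    cases f with
    | h => simp at h'
    | t a g j w =>
      simp only [Bool.and_eq_true, Nat.blt_eq, Nat.beq_eq] at h'
      obtain ⟨⟨⟨rfl, hg⟩, hj⟩, hw⟩ := h'
      refine ⟨j, hj, dec w ++ l, isL_append hw hl, ?_⟩
      rw [Space.pw_append, ← (show (D.SG.tau ^ g) (D.SG.v a) = Space.pw (dec w) (D.SG.v j) from hf),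
        D.SG.tpow_congr (a := g) (b := exW l % 5) (by rw [hg, Nat.mod_mod])]

theorem bCos_mem : bCos ∈ Data.U D.toData D.SG := by
  refine ⟨0, hD.model.npos, [], rfl, ?_⟩
  rw [Space.pw_nil]
  show bCos = D.vG 0
  rw [vG]
  split <;> simp

theorem mem_UG (p : Cos) : p ∈ Data.U D.toData D.SG := by
  obtain ⟨g, rfl⟩ := QuotientGroup.mk_surjective p
  have hb : (QuotientGroup.mk g : Cos) = g • bCos := by
    rw [bCos, MulAction.Quotient.smul_mk, smul_eq_mul, mul_one]
  rw [hb]
  have hz : ∀ u ∈ Data.U D.toData D.SG, q HN.z • u ∈ Data.U D.toData D.SG := fun u hu => by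
    have := Data.U_z hD.model.base D.SG (hFGh hD) hu
    simpa [Space.pw, val_cons, val_nil, gl, gC_inv, smul_cos, phi_C] using this
  have hl : ∀ a < 4, ∀ u ∈ Data.U D.toData D.SG, phi (gl a)⁻¹ • u ∈ Data.U D.toData D.SG :=
    fun a ha u hu => by
      have := Data.U_letter D.SG (a := [a]) (by simp [isL, Nat.blt_eq, ha]) hu
      simpa [Space.pw, val_cons, val_nil, smul_cos] using this
  have ht : ∀ n, ∀ u ∈ Data.U D.toData D.SG, (tauC ^ n) u ∈ Data.U D.toData D.SG := fun n => by
    induction n with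
    | zero => exact fun u hu => hu
    | succ n ih => exact fun u hu => by rw [pow_succ', Equiv.Perm.mul_apply]; exact U_tau hD (ih u hu)
  refine Subgroup.closure_induction_left (p := fun x _ => x • bCos ∈ Data.U D.toData D.SG) ?_ ?_ ?_
    (gen_top ▸ Subgroup.mem_top g : g ∈ Subgroup.closure ({q HN.x, q HN.y, q HN.z, q HN.t} : Set HN))
  · rw [one_smul]; exact bCos_mem hD
  · rintro x hx y - hy
    rw [mul_smul]
    rcases hx with rfl | rfl | rfl | rfl
    · simpa [gl, phi_A] using hl 1 (by norm_num) _ hy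
    · simpa [gl, phi_B] using hl 3 (by norm_num) _ hy
    · exact hz _ hy
    · have := ht 4 _ hy
      rw [tauC_pow, inv_pow, show ((q HN.t) ^ 4)⁻¹ = q HN.t from
        inv_eq_of_mul_eq_one_right (by rw [← pow_succ]; exact t_five)] at this
      exact this
  · rintro x hx y - hy
    rw [mul_smul]
    rcases hx with rfl | rfl | rfl | rfl
    · simpa [gl, phi_A] using hl 0 (by norm_num) _ hy
    · simpa [gl, phi_B] using hl 2 (by norm_num) _ hy
    · have e : (q HN.z)⁻¹ = q HN.z := by rw [← phi_C, ← map_inv, gC_inv]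
      rw [e]; exact hz _ hy
    · have := ht 1 _ hy
      rw [tauC_pow, pow_one] at this
      exact this

theorem cos_le : Finite Cos ∧ Nat.card Cos ≤ 1539000 :=
  Data.card_le hD.model.base D.SG (hFGh hD) (mem_UG hD)

theorem finite_of_checks : Finite HN := by
  haveI := finite_P3' hD.model.base.faithful.ok
  haveI : Finite Cos := (cos_le hD).1
  haveI : Finite HXYZ := by
    rw [← range_phi]
    exact Finite.of_surjective phi.rangeRestrict phi.rangeRestrict_surjective
  exact Finite.of_equiv _ (Subgroup.groupEquivQuotientProdSubgroup (s := HXYZ)).symm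

end GData

end Cfsg.Agent.HNWord66
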