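import Cfsg.Agent.Lib.HNCert66

/-!
Consequences for the presented Harada-Norton group.
-/

set_option autoImplicit false

namespace Cfsg.Agent.HNMain66

open Cfsg Cfsg.Spor
open Cfsg.Agent.HNWord66 Cfsg.Agent.HNTwoHSGroup66

/-- The presented group is finite. -/
theorem finite_HN : Finite HN := GData.finite_of_checks HNData.gdata_checks

/-- The index of the subgroup generated by the first three generators. -/
theorem index_HXYZ : HXYZ.index = 1539000 := GData.index_eq HNData.gdata_checks

/-- The order of the presented group. -/
theorem card_HN : Nat.card HN = 273030912000000 := GData.card_HN HNData.gdata_checks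

/-- That subgroup is maximal. -/
theorem isCoatom_HXYZ : IsCoatom HXYZ := GData.coatom HNData.gdata_checks

/-- That subgroup contains no nontrivial normal subgroup. -/
theorem normalCore_HXYZ : HXYZ.normalCore = ⊥ := GData.core_eq HNData.gdata_checks

/-- The double cover embeds. -/
theorem phi_injective : Function.Injective phi := GData.phi_injective HNData.gdata_checks

/-- Its image. -/
theorem phi_range : phi.range = HXYZ := range_phi

end Cfsg.Agent.HNMain66
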