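import Cfsg.Agent.Lib.HNSpace66
import Mathlib.Algebra.Group.Action.Sigma

/-!
The model set: nine coset spaces of the double cover of HS:2, with a permutation of order five.
-/

set_option autoImplicit false
set_option linter.style.haveILetI false

namespace Cfsg.Agent.HNWord66

open Cfsg.Agent.CosetCertCore Cfsg.Agent.CosetCertTable Cfsg.Agent.HNTwoHSGroup66

/-- The route of the braid relation. -/
def ztR : List Tok := [.w [4], .t 1, .w [4], .t 1, .w [4], .t 1]

/-- Exponent lists with sum divisible by five. -/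
def sumRules : List (List Nat) :=
  [[1, 4], [2, 3], [3, 2], [4, 1], [1, 1, 3], [1, 2, 2], [1, 3, 1], [2, 1, 2], [2, 2, 1], [2, 4, 4],
    [3, 1, 1], [3, 3, 4], [3, 4, 3], [4, 2, 4], [4, 3, 3], [4, 4, 2]]

/-- The relations used in the derivation, as routes. -/
def ruleList : List (List Tok) :=
  [[]] ++ sumRules.map (fun l => l.map Tok.t) ++ (List.range 6).map fun k => ztR.drop k ++ ztR.take k

namespace Space

variable {X : Type} [MulAction P3 X] (S : Space X)

theorem ract_sum (l : List Nat) (p : X) : S.ract (l.map Tok.t) p = (S.tau ^ l.sum) p := by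
  induction l generalizing p with
  | nil => simp [ract]
  | cons a l ih =>
    show S.ract (l.map Tok.t) ((S.tau ^ a) p) = _
    rw [ih, ← Equiv.Perm.mul_apply, ← pow_add, List.sum_cons, add_comm]

theorem ract_ruleList (hzt : ∀ p, S.ract ztR p = p) : ∀ r ∈ ruleList, ∀ p, S.ract r p = p := by
  intro r hr p
  simp only [ruleList, List.mem_append, List.mem_singleton, List.mem_map, List.mem_range] at hr
  rcases hr with (rfl | ⟨l, hl, rfl⟩) | ⟨k, -, rfl⟩
  · rfl
  · rw [S.ract_sum, S.tpow_congr (b := 0) ?_, pow_zero]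
    · rfl
    · have : ∀ l ∈ sumRules, l.sum % 5 = 0 % 5 := by decide
      exact this l hl
  · rw [S.ract_append]
    conv_lhs => rw [← S.ract_ract_invR (ztR.take k) p]
    rw [← S.ract_append (ztR.take k), List.take_append_drop, hzt]
    exact S.ract_ract_invR _ _

end Space

/-- The data of the model. -/
structure MData extends Data where
  size : List Nat
  kg : List (List Nat)
  kUp : List (List Lev)
  comp : List Nat
  tree : List Nat
  baseNode : List Nat
  hIdx : List (List Nat)
  tn : List (List Nat)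
  tl : List (List Nat)
  cmpIdx : List (List Nat)
  compat : List (List Nat)
  labs : List (Nat × Nat)
  pChainGens : List Nat
  pChain : List Level
  m0Gens : List Nat
  levM0 : Lev
  cov : List (List (Nat × Nat × Nat))
  zts : List (List (Nat × List Ins × Nat))
  reach : List Nat
  reachBase : List Nat

namespace MData

variable (D : MData)

/-- The suborbit of a node. -/
def kof (i : Nat) : Fin 9 := ⟨D.comp.getD i 0 % 9, Nat.mod_lt _ (by norm_num)⟩

/-- The stabiliser of one suborbit. -/
noncomputable def K (k : Fin 9) : Subgroup P3 := sub (D.kg.getD k [])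

/-- The model set. -/
abbrev Mod : Type := Σ k : Fin 9, P3 ⧸ D.K k

/-- The nodes of the model. -/
noncomputable def vX (i : Nat) : D.Mod := ⟨D.kof i, QuotientGroup.mk (val (dec (D.tree.getD i 0)))⁻¹⟩

/-- The space with no element of order five. -/
noncomputable def S0 : Space D.Mod where
  tau := 1
  five := one_pow _
  moveA p := rfl
  moveB p := rfl
  v := D.vX

/-- A fact without the element of order five holds. -/
noncomputable def hIdxOk (m : Nat) : Bool :=
  match D.toData.hFact m with
  | .h i w j => Nat.beq (D.kof i) (D.kof j) &&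
      Nat.beq (D.T.code (dec (D.tree.getD i 0) ++ dec w ++ winv (dec (D.tree.getD j 0))))
        (D.T.code (gword (D.kg.getD (D.kof i) []) (look D.hIdx m 0)))
  | .t _ _ _ _ => false

/-- The base node of one suborbit. -/
noncomputable def baseOk (k : Nat) : Bool :=
  force (D.baseNode.getD k D.n) fun b =>
    Nat.blt b D.n && Nat.beq (D.kof b) k && Nat.beq (D.T.code (dec (D.tree.getD b 0))) (D.T.code [])

/-- Decidable equality of lists of numbers. -/
noncomputable def eqList : List Nat → List Nat → Bool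
  | [], [] => true
  | a :: r, b :: s => Nat.beq a b && eqList r s
  | _, _ => false

/-- The bound for one suborbit. -/
noncomputable def kUpOk (k : Nat) : Bool :=
  cond (Nat.beq k 0) (eqList (D.kg.getD k []) allGens && Nat.beq (D.size.getD k 0) 1)
    (upOk D.T (D.kUp.getD k []) && eqList (below (D.kUp.getD k [])) (D.kg.getD k []) &&
      Nat.beq (((D.kUp.getD k []).map fun l => l.reps.length).prod * D.size.getD k 0) 177408000)

/-- The node of a power. -/
noncomputable def node (i e : Nat) : Nat := look D.tn (5 * i + e) D.n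

/-- The word of a power. -/
noncomputable def lw (i e : Nat) : List Nat := dec (look D.tl (5 * i + e) 0)

/-- The table of the powers is composable. -/
noncomputable def cmpOk (i : Nat) : Bool :=
  Nat.beq (D.node i 0) i && Nat.beq (D.T.code (D.lw i 0)) (D.T.code []) &&
  allFrom (fun a =>
    Nat.blt (D.node i a) D.n && isL (D.lw i a) &&
    allFrom (fun b =>
      force (b * exW (D.lw i a) % 5) fun c => force ((a + b) % 5) fun s =>
        Nat.beq (D.node (D.node i a) c) (D.node i s) &&
        Nat.beq (D.T.code (D.lw (D.node i a) c ++ D.lw i a ++ winv (D.lw i s)))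
          (D.T.code (gword (D.loops.getD (D.node i s) []) (look D.cmpIdx (25 * i + 5 * a + b) 0))))
      5 0) 5 0

/-- The table of the powers respects one stabiliser. -/
noncomputable def compatOk (i : Nat) : Bool :=
  allFrom (fun g => force ((D.loops.getD i []).getD g 0) fun w =>
    allFrom (fun e => force (e * exW (dec w) % 5) fun f =>
      Nat.beq (D.node i f) (D.node i e) &&
      Nat.beq (D.T.code (D.lw i f ++ dec w ++ winv (D.lw i e)))
        (D.T.code (gword (D.loops.getD (D.node i e) []) ((D.compat.getD i []).getD (5 * g + e) 0))))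
      5 0) (D.loops.getD i []).length 0

/-- A point of the orbit of size four and its label. -/
noncomputable def labFind (p : Nat) : List (Nat × Nat) → Nat
  | [] => 0
  | (q, e) :: r => cond (Nat.beq q p) e (labFind p r)

/-- The labels follow the twist. -/
noncomputable def labOk : Bool :=
  Nat.beq (labFind 0 D.labs) 1 &&
  D.labs.all fun qe => Nat.beq (labFind qe.1 D.labs) qe.2 && allFrom (fun a =>
    (D.labs.any fun rf => Nat.beq rf.1 (D.T.img a qe.1)) &&
      Nat.beq (labFind (D.T.img a qe.1) D.labs) (qe.2 * ex1 a % 5)) 4 0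

/-- One fact about the element of order five holds. -/
noncomputable def tFactOk (m : Nat) : Bool :=
  match D.fact m with
  | .h _ _ _ => true
  | .t i e j l => Nat.blt e 5 && Nat.blt i D.n && Nat.beq (D.node i e) j &&
      Nat.beq (D.T.code (D.lw i e)) (D.T.code (dec l))

/-- The elements commuting with the third generator and the element of order five. -/
noncomputable def m0Ok : Bool :=
  D.m0Gens.all fun n => isL (dec n) && Nat.beq (exW (dec n)) 1 &&
    Nat.beq (D.T.code (dec n ++ [4])) (D.T.code ([4] ++ dec n))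

/-- One state of the braid relation. -/
noncomputable def ztOk (i : Nat) : Bool :=
  (D.zts.getD i []).all fun st =>
    walkF D.T D.fact D.nf st.2.1 i (dec st.1) fun a w p =>
      Nat.beq a i && sameRoute D.T p ztR &&
      Nat.beq (D.T.code (w ++ winv (dec st.1))) (D.T.code (gword (D.loops.getD i []) st.2.2))

/-- One cover witness. -/
noncomputable def covChk (i : Nat) (t : Nat × Nat × Nat) (rep : Nat) : Bool :=
  match t with
  | (a, s, m) => Nat.blt a (D.zts.getD i []).length &&
      Nat.beq (D.T.code (winv (dec rep)))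
        (D.T.code (gword (D.loops.getD i []) s ++ dec ((D.zts.getD i []).getD a (0, [], 0)).1 ++
          gword D.m0Gens m))

/-- The cover witnesses at one node. -/
noncomputable def covOk (i : Nat) : Bool := all2 (D.covChk i) (D.cov.getD i []) D.levM0.reps

/-- A node is reached by an earlier fact. -/
noncomputable def reachOk (j : Nat) : Bool :=
  force (D.reach.getD j D.nf) fun m => Nat.blt m D.nf &&
    match D.fact m with
    | .h i _ b => Nat.blt i j && Nat.beq b j
    | .t i _ b _ => Nat.blt i j && Nat.beq b j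

/-- The base of the table is reached from its first point. -/
noncomputable def reachBaseOk : Bool :=
  allFrom (fun k => Nat.beq (D.T.run (dec (D.reachBase.getD k 0)) 0) ([0, 2, 7, 8, 15].getD k 0)) 5 0

/-- The stabiliser of the second suborbit fixes the first point. -/
noncomputable def fixOk : Bool := (D.kg.getD 1 []).all fun n => Nat.beq (D.T.run (dec n) 0) 0

/-- The finite checks. -/
structure Checks : Prop where
  base : D.toData.Checks
  npos : 0 < D.n
  pChain : chainOk D.T D.pChainGens D.pChain [] = true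
  pChainProd : (D.pChain.map fun l => l.2.length).prod = 177408000
  hIdx : ∀ m < D.nf, D.hIdxOk m = true
  baseNode : ∀ k < 9, D.baseOk k = true
  node0 : (D.kof 0 : Nat) = 0
  kUp : ∀ k < 9, D.kUpOk k = true
  sizeSum : ∑ k : Fin 9, D.size.getD k 0 = 1539000
  cmp : ∀ i < D.n, D.cmpOk i = true
  compatAll : ∀ i < D.n, D.compatOk i = true
  lab : D.labOk = true
  tFact : ∀ m < D.nf, D.tFactOk m = true
  m0 : D.m0Ok = true
  levM0 : levOk D.T D.levM0 D.m0Gens = true
  levM0Top : D.levM0.gens = lGens
  zt : ∀ i < D.n, D.ztOk i = true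
  cover : ∀ i < D.n, D.covOk i = true
  reachNodes : ∀ j < D.n, 0 < j → D.reachOk j = true
  reachBase : D.reachBaseOk = true
  fix1 : D.fixOk = true
  blocks : ∀ I : Finset (Fin 9), 0 ∈ I → (∑ k ∈ I, D.size.getD k 0) ∣ 1539000 →
    I = {0} ∨ I = Finset.univ

theorem exW_append (a b : List Nat) : exW (a ++ b) % 5 = exW a * exW b % 5 := by
  induction a with
  | nil => rw [List.nil_append, exW_nil, one_mul]
  | cons c a ih =>
    rw [List.cons_append, exW_cons, exW_cons, Nat.mod_mod, Nat.mul_mod, ih, ← Nat.mul_mod,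
      Nat.mod_mul_mod, mul_assoc]

variable {D} (hD : D.Checks)
include hD

omit hD in
theorem eqList_eq : ∀ {a b : List Nat}, eqList a b = true → a = b
  | [], [], _ => rfl
  | x :: r, y :: s, h => by
    simp only [eqList, Bool.and_eq_true, Nat.beq_eq] at h
    rw [h.1, eqList_eq h.2]

theorem card_P3 : Nat.card P3 = 177408000 := by
  haveI := finite_P3' hD.base.faithful.ok
  refine le_antisymm card_P3_le ?_
  rw [← hD.pChainProd]
  exact (card_sub_ge hD.base.faithful.ok _ hD.pChain).trans (Subgroup.card_le_card_group _)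

theorem size_le_index (k : Fin 9) : D.size.getD k 0 ≤ (D.K k).index := by
  haveI := finite_P3' hD.base.faithful.ok
  have h := hD.kUp k k.2
  have hle : Nat.card (D.K k) * D.size.getD k 0 ≤ 177408000 := by
    unfold kUpOk at h
    cases hk : Nat.beq k 0
    · simp only [hk, cond_false, Bool.and_eq_true, Nat.beq_eq] at h
      rw [K, ← eqList_eq h.1.2, ← h.2]
      exact Nat.mul_le_mul_right _ (hD.base.faithful.card_le_up h.1.1)
    · simp only [hk, cond_true, Bool.and_eq_true, Nat.beq_eq] at h
      rw [h.2, mul_one, K, eqList_eq h.1, sub_allGens, Subgroup.card_top]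
      exact card_P3_le
  rw [← card_P3 hD, ← (D.K k).card_mul_index] at hle
  exact Nat.le_of_mul_le_mul_left hle Nat.card_pos

theorem finite_Mod : Finite D.Mod := by
  haveI := finite_P3' hD.base.faithful.ok
  unfold Mod
  infer_instance

theorem card_Mod : 1539000 ≤ Nat.card D.Mod := by
  haveI := finite_P3' hD.base.faithful.ok
  unfold Mod
  rw [Nat.card_sigma, ← hD.sizeSum]
  exact Finset.sum_le_sum fun k _ => by rw [← Subgroup.index_eq_card]; exact size_le_index hD k

omit hD in
theorem pw_mk (w : List Nat) (k : Fin 9) (g : P3) :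
    Space.pw w (⟨k, QuotientGroup.mk g⟩ : D.Mod) = ⟨k, QuotientGroup.mk ((val w)⁻¹ * g)⟩ := rfl

theorem hF0 : ∀ m < D.nf, (D.S0).FV (D.toData.hFact m) := by
  intro m hm
  have h := hD.hIdx m hm
  unfold hIdxOk at h
  generalize D.toData.hFact m = f at h ⊢
  cases f with
  | t => simp at h
  | h i w j =>
    simp only [Bool.and_eq_true, Nat.beq_eq] at h
    have hk : D.kof i = D.kof j := Fin.ext h.1
    have e := hD.base.faithful.val_eq h.2
    simp only [val_append, val_winv] at e
    show Space.pw (dec w) (D.vX i) = D.vX j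
    rw [vX, vX, pw_mk, ← hk]
    refine congrArg (fun q => (⟨D.kof i, q⟩ : D.Mod)) (QuotientGroup.eq.mpr ?_)
    rw [show ∀ a b c : P3, (b⁻¹ * a⁻¹)⁻¹ * c⁻¹ = a * b * c⁻¹ from fun a b c => by group, e]
    exact gword_mem _ _

omit hD in
theorem exists_word (g : P3) : ∃ w : List Nat, val w = g := by
  have h : g ∈ Subgroup.closure ({gA, gB, gC} : Set P3) := closure_gen ▸ Subgroup.mem_top g
  refine Subgroup.closure_induction (p := fun x _ => ∃ w, val w = x) ?_ ?_ ?_ ?_ h
  · rintro x (rfl | rfl | rfl)
    exacts [⟨[0], by simp [val, gl]⟩, ⟨[2], by simp [val, gl]⟩, ⟨[4], by simp [val, gl]⟩]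
  · exact ⟨[], rfl⟩
  · rintro x y - - ⟨u, rfl⟩ ⟨v, rfl⟩
    exact ⟨u ++ v, val_append u v⟩
  · rintro x - ⟨u, rfl⟩
    exact ⟨winv u, val_winv u⟩

theorem U_pw {S : Space D.Mod} (hF : ∀ n < D.nf, S.FV (D.toData.hFact n))
    (w : List Nat) {p : D.Mod} (hp : p ∈ Data.U D.toData S) : Space.pw w p ∈ Data.U D.toData S := by
  induction w generalizing p with
  | nil => rwa [Space.pw_nil]
  | cons a w ih =>
    rw [show a :: w = [a] ++ w from rfl, Space.pw_append]
    refine ih ?_
    rcases Nat.lt_or_ge a 4 with h | h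
    · exact Data.U_letter S (by simp [isL, Nat.blt_eq, h]) hp
    · rcases Nat.lt_or_ge a 5 with h5 | h5
      · obtain rfl : a = 4 := by omega
        exact Data.U_z hD.base S hF hp
      · obtain ⟨n, rfl⟩ := Nat.exists_eq_add_of_le h5
        rw [show Space.pw [5 + n] p = p by
          rw [Space.pw, show val [5 + n] = 1 by rw [val_cons, val_nil, mul_one, Nat.add_comm]; rfl,
            inv_one, one_smul]]
        exact hp

theorem mem_U (p : D.Mod) : p ∈ Data.U D.toData D.S0 := by
  obtain ⟨k, q⟩ := p
  obtain ⟨g, rfl⟩ := QuotientGroup.mk_surjective q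
  obtain ⟨w, hw⟩ := exists_word g⁻¹
  have h := hD.baseNode k k.2
  simp only [baseOk, force_eq, Bool.and_eq_true, Nat.blt_eq, Nat.beq_eq] at h
  have hb : D.S0.v (D.baseNode.getD k D.n) ∈ Data.U D.toData D.S0 :=
    ⟨_, h.1.1, [], rfl, (Space.pw_nil _).symm⟩
  have h' := U_pw hD (hF0 hD) w hb
  have e : Space.pw w (D.S0.v (D.baseNode.getD k D.n)) = (⟨k, QuotientGroup.mk g⟩ : D.Mod) := by
    show Space.pw w (D.vX (D.baseNode.getD k D.n)) = _
    rw [vX, pw_mk, hw, inv_inv, hD.base.faithful.val_eq h.2, val_nil, inv_one, mul_one,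
      show D.kof (D.baseNode.getD k D.n) = k from Fin.ext h.1.2]
  rwa [e] at h'

/-- Points are named by a node and a word. -/
theorem exists_rep (p : D.Mod) : ∃ x : Nat × List Nat,
    x.1 < D.n ∧ isL x.2 = true ∧ p = Space.pw x.2 (D.vX x.1) := by
  obtain ⟨i, hi, l, hl, h⟩ := mem_U hD p
  exact ⟨(i, l), hi, hl, h⟩

theorem loop_fix {i : Nat} (hi : i < D.n) {g : P3} (hg : g ∈ sub (D.loops.getD i [])) :
    g • D.vX i = D.vX i := Data.loop_fix hD.base D.S0 (hF0 hD) hi hg

/-- The parametrisation is exact. -/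
theorem rep_unique {i i' : Nat} (hi : i < D.n) (hi' : i' < D.n) {l l' : List Nat} (hl : isL l = true)
    (hl' : isL l' = true) (h : Space.pw l (D.vX i) = Space.pw l' (D.vX i')) :
    i = i' ∧ val l * (val l')⁻¹ ∈ sub (D.loops.getD i []) := by
  have hinj := Data.exact_of_card hD.base D.S0 (hF0 hD) (mem_U hD) (card_Mod hD)
  have e := @hinj ⟨⟨i, hi⟩, Quotient.mk'' ⟨(val l)⁻¹, inv_mem (val_mem_lGens hl)⟩⟩
    ⟨⟨i', hi'⟩, Quotient.mk'' ⟨(val l')⁻¹, inv_mem (val_mem_lGens hl')⟩⟩ h
  obtain ⟨e1, e2⟩ := Sigma.mk.inj_iff.mp e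
  obtain rfl : i = i' := congrArg Fin.val e1
  refine ⟨rfl, ?_⟩
  have e3 := eq_of_heq e2
  rw [Quotient.eq'', QuotientGroup.leftRel_apply, Subgroup.mem_subgroupOf] at e3
  simpa [Data.loopW] using e3

omit hD in
/-- The image of a named point under a power. -/
noncomputable def out (D : MData) (n i : Nat) (l : List Nat) : D.Mod :=
  Space.pw (D.lw i (n * exW l % 5) ++ l) (D.vX (D.node i (n * exW l % 5)))

theorem lab_run {w : List Nat} (hw : isL w = true) :
    ∀ {q e : Nat}, (q, e) ∈ D.labs →
      ∃ f, (D.T.run w q, f) ∈ D.labs ∧ f % 5 = e * exW w % 5 := by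
  induction w with
  | nil => intro q e h; exact ⟨e, h, by rw [exW_nil, mul_one]⟩
  | cons a w ih =>
    intro q e h
    simp only [isL, List.all_cons, Bool.and_eq_true, Nat.blt_eq] at hw
    have hlab := hD.lab
    simp only [labOk, Bool.and_eq_true, List.all_eq_true, allFrom_iff, Nat.beq_eq,
      List.any_eq_true] at hlab
    obtain ⟨⟨r, f⟩, hrf, e1⟩ := ((hlab.2 _ h).2 a (Nat.zero_le a) (by simpa using hw.1)).1
    have e2 := ((hlab.2 _ h).2 a (Nat.zero_le a) (by simpa using hw.1)).2
    simp only at e1 e2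
    rw [← e1, (hlab.2 _ hrf).1] at e2
    simp only at e2
    obtain ⟨f', h1, h2⟩ := ih (by simpa [isL] using hw.2) hrf
    refine ⟨f', by rw [Tabs.run_cons, ← e1]; exact h1, ?_⟩
    rw [h2, e2, exW_cons, Nat.mod_mul_mod, Nat.mul_mod_mod, mul_assoc]

theorem exW_congr {u v : List Nat} (hu : isL u = true) (hv : isL v = true) (h : val u = val v) :
    exW u % 5 = exW v % 5 := by
  have hlab := hD.lab
  simp only [labOk, Bool.and_eq_true, List.all_eq_true, Nat.beq_eq] at hlab
  have hf : ∀ {q f}, (q, f) ∈ D.labs → labFind q D.labs = f := fun h => (hlab.2 _ h).1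
  have hmem : (0, 1) ∈ D.labs := by
    have h1 := hlab.1
    clear hlab hf
    generalize D.labs = L at h1 ⊢
    induction L with
    | nil => simp [labFind] at h1
    | cons a r ih =>
      obtain ⟨q, e⟩ := a
      unfold labFind at h1
      cases hq : Nat.beq q 0
      · rw [hq, cond_false] at h1
        exact List.mem_cons_of_mem _ (ih h1)
      · rw [hq, cond_true] at h1
        rw [Nat.beq_eq] at hq
        subst hq; subst h1
        exact List.mem_cons_self ..
  obtain ⟨f, hf1, hf2⟩ := lab_run hD hu hmem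
  obtain ⟨g, hg1, hg2⟩ := lab_run hD hv hmem
  have hr : D.T.run u 0 = D.T.run v 0 := by
    have hok := hD.base.faithful.ok
    rw [← Tabs.run_val hok u (⟨0, by norm_num⟩ : Fin 1408), ← Tabs.run_val hok v (⟨0, by norm_num⟩ : Fin 1408), h]
  rw [hr] at hf1
  rw [← one_mul (exW u), ← hf2, ← hf hf1, hf hg1, hg2, one_mul]

theorem cmp_data {i : Nat} (hi : i < D.n) :
    D.node i 0 = i ∧ val (D.lw i 0) = 1 ∧ ∀ a < 5, D.node i a < D.n ∧ isL (D.lw i a) = true ∧
      ∀ b < 5, D.node (D.node i a) (b * exW (D.lw i a) % 5) = D.node i ((a + b) % 5) ∧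
        val (D.lw (D.node i a) (b * exW (D.lw i a) % 5) ++ D.lw i a ++ winv (D.lw i ((a + b) % 5))) ∈
          sub (D.loops.getD (D.node i ((a + b) % 5)) []) := by
  have h := hD.cmp i hi
  simp only [cmpOk, force_eq, Bool.and_eq_true, Nat.beq_eq, Nat.blt_eq, allFrom_iff] at h
  refine ⟨h.1.1, by rw [hD.base.faithful.val_eq h.1.2, val_nil], fun a ha => ?_⟩
  obtain ⟨⟨h1, h2⟩, h3⟩ := h.2 a (Nat.zero_le a) (by omega)
  refine ⟨h1, h2, fun b hb => ?_⟩
  obtain ⟨h4, h5⟩ := h3 b (Nat.zero_le b) (by omega)
  refine ⟨h4, ?_⟩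
  rw [hD.base.faithful.val_eq h5]
  exact gword_mem _ _

theorem pw_absorb {j : Nat} (hj : j < D.n) {a b : List Nat}
    (h : val a * (val b)⁻¹ ∈ sub (D.loops.getD j [])) :
    Space.pw a (D.vX j) = Space.pw b (D.vX j) := by
  have e := loop_fix hD hj (inv_mem h)
  rw [mul_inv_rev, inv_inv, mul_smul] at e
  rw [Space.pw, Space.pw, ← smul_left_cancel_iff (val b), smul_inv_smul]
  exact e

theorem out_congr {n i : Nat} (hi : i < D.n) {l l' : List Nat} (hl : isL l = true) (hl' : isL l' = true)
    (h : val l * (val l')⁻¹ ∈ sub (D.loops.getD i [])) : out D n i l = out D n i l' := by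
  have hv : ∀ {u v : List Nat}, isL u = true → isL v = true → val u = val v →
      out D n i u = out D n i v := by
    intro u v hu hv e
    have he : n * exW u % 5 = n * exW v % 5 := by rw [Nat.mul_mod, exW_congr hD hu hv e, ← Nat.mul_mod]
    simp only [out, Space.pw, val_append, he, e]
  have key : ∀ g ∈ sub (D.loops.getD i []), ∃ s, isL s = true ∧ val s = g ∧
      ∀ u, isL u = true → out D n i (s ++ u) = out D n i u := by
    intro g hg
    refine Subgroup.closure_induction (p := fun x _ => ∃ s, isL s = true ∧ val s = x ∧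
      ∀ u, isL u = true → out D n i (s ++ u) = out D n i u) ?_ ?_ ?_ ?_ hg
    · rintro x ⟨w, hw, rfl⟩
      have hwL : isL (dec w) = true := by
        have := hD.base.loops i hi
        simp only [Data.loopOk, Data.loopW] at this
        obtain ⟨hlen, this⟩ := all2_spec 0 0 this
        obtain ⟨r, hr, rfl⟩ := List.mem_iff_getElem.mp hw
        have := this r (hlen ▸ hr)
        rw [List.getD_eq_getElem _ _ hr] at this
        simp only [Bool.and_eq_true] at this
        exact this.1.1
      refine ⟨dec w, hwL, rfl, fun u hu => ?_⟩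
      obtain ⟨k, hk, rfl⟩ := List.mem_iff_getElem.mp hw
      have hc := hD.compatAll i hi
      simp only [compatOk, force_eq, Bool.and_eq_true, Nat.beq_eq, allFrom_iff] at hc
      obtain ⟨h1, h2⟩ := hc k (Nat.zero_le k) (by omega) (n * exW u % 5) (Nat.zero_le _)
        (by have := Nat.mod_lt (n * exW u) (show 5 > 0 by norm_num); omega)
      rw [List.getD_eq_getElem _ _ hk] at h1 h2
      have he : n * exW (dec (D.loops.getD i [])[k] ++ u) % 5 =
          n * exW u % 5 * exW (dec (D.loops.getD i [])[k]) % 5 := by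
        rw [Nat.mul_mod, exW_append, ← Nat.mul_mod, Nat.mod_mul_mod]
        congr 1
        ring
      rw [out, out, he, h1, ← List.append_assoc]
      obtain ⟨-, -, ha⟩ := cmp_data hD hi
      rw [Space.pw_append (D.lw i _ ++ _) u, Space.pw_append (D.lw i (n * exW u % 5)) u]
      congr 1
      refine pw_absorb hD (ha _ (Nat.mod_lt _ (by norm_num))).1 ?_
      rw [← val_winv, ← val_append, hD.base.faithful.val_eq h2]
      exact gword_mem _ _
    · exact ⟨[], rfl, rfl, fun u _ => rfl⟩
    · rintro x y - - ⟨s, hs, rfl, h1⟩ ⟨t, ht, rfl, h2⟩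
      exact ⟨s ++ t, isL_append hs ht, val_append s t, fun u hu => by
        rw [List.append_assoc, h1 _ (isL_append ht hu), h2 u hu]⟩
    · rintro x - ⟨s, hs, rfl, h1⟩
      refine ⟨winv s, isL_winv hs, val_winv s, fun u hu => ?_⟩
      rw [← h1 _ (isL_append (isL_winv hs) hu)]
      exact hv (isL_append hs (isL_append (isL_winv hs) hu)) hu
        (by rw [val_append, val_append, val_winv, mul_inv_cancel_left])
  obtain ⟨s, hs, e, hfix⟩ := key _ h
  rw [← hfix l' hl']
  exact hv hl (isL_append hs hl') (by rw [val_append, e, inv_mul_cancel_right])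

/-- The element of order five on the model. -/
noncomputable def tau0 (p : D.Mod) : D.Mod :=
  out D 1 (exists_rep hD p).choose.1 (exists_rep hD p).choose.2

theorem tau0_pw {i : Nat} (hi : i < D.n) {l : List Nat} (hl : isL l = true) :
    tau0 hD (Space.pw l (D.vX i)) = out D 1 i l := by
  unfold tau0
  have hs := (exists_rep hD (Space.pw l (D.vX i))).choose_spec
  generalize (exists_rep hD (Space.pw l (D.vX i))).choose = x at hs ⊢
  obtain ⟨a, m⟩ := x
  obtain ⟨h1, h2, h3⟩ := hs
  obtain ⟨e, hmem⟩ := rep_unique hD h1 hi h2 hl h3.symm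
  change a = i at e
  subst e
  exact out_congr hD h1 h2 hl hmem

theorem out_zero {i : Nat} (hi : i < D.n) (l : List Nat) : out D 0 i l = Space.pw l (D.vX i) := by
  obtain ⟨h1, h2, -⟩ := cmp_data hD hi
  rw [out, Nat.zero_mul, Nat.zero_mod, h1, Space.pw_append]
  congr 1
  rw [Space.pw, h2, inv_one, one_smul]

theorem tau0_out {n i : Nat} (hi : i < D.n) {l : List Nat} (hl : isL l = true) :
    tau0 hD (out D n i l) = out D (n + 1) i l := by
  obtain ⟨-, -, ha⟩ := cmp_data hD hi
  obtain ⟨hj, hjl, hb⟩ := ha (n * exW l % 5) (Nat.mod_lt _ (by norm_num))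
  rw [out, tau0_pw hD hj (isL_append hjl hl), out, out, one_mul]
  obtain ⟨h4, h5⟩ := hb (exW l % 5) (Nat.mod_lt _ (by norm_num))
  have e1 : exW (D.lw i (n * exW l % 5) ++ l) % 5 = exW l % 5 * exW (D.lw i (n * exW l % 5)) % 5 := by
    rw [exW_append, Nat.mod_mul_mod, mul_comm]
  have e2 : (n + 1) * exW l % 5 = (n * exW l % 5 + exW l % 5) % 5 := by
    rw [Nat.add_mul, one_mul, Nat.add_mod]
  rw [e1, e2, h4, ← List.append_assoc, Space.pw_append _ l, Space.pw_append _ l]
  congr 1
  refine pw_absorb hD ?_ ?_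
  · exact (ha _ (Nat.mod_lt _ (by norm_num))).1
  · rwa [← val_winv, ← val_append]

theorem tau0_iter {i : Nat} (hi : i < D.n) {l : List Nat} (hl : isL l = true) (n : Nat) :
    (tau0 hD)^[n] (Space.pw l (D.vX i)) = out D n i l := by
  induction n with
  | zero => exact (out_zero hD hi l).symm
  | succ n ih => rw [Function.iterate_succ_apply', ih, tau0_out hD hi hl]

theorem tau0_five (p : D.Mod) : (tau0 hD)^[5] p = p := by
  obtain ⟨⟨i, l⟩, hi, hl, rfl⟩ := exists_rep hD p
  rw [tau0_iter hD hi hl]
  rw [out, show 5 * exW l % 5 = 0 * exW l % 5 by omega]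
  exact out_zero hD hi l

/-- The permutation of order five. -/
noncomputable def tauM : Equiv.Perm D.Mod where
  toFun := tau0 hD
  invFun := (tau0 hD)^[4]
  left_inv p := by rw [← Function.iterate_succ_apply]; exact tau0_five hD p
  right_inv p := by rw [← Function.iterate_succ_apply' (tau0 hD) 4]; exact tau0_five hD p

theorem tauM_pow (n : Nat) (p : D.Mod) : (tauM hD ^ n) p = (tau0 hD)^[n] p := by
  induction n generalizing p with
  | zero => rfl
  | succ n ih =>
    rw [pow_succ', Equiv.Perm.mul_apply, ih, Function.iterate_succ_apply']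
    rfl

theorem move_letter {a : Nat} (ha : a < 4) (p : D.Mod) :
    tauM hD (Space.pw [a] p) = Space.pw [a] ((tauM hD ^ ex1 a) p) := by
  obtain ⟨⟨i, l⟩, hi, hl, rfl⟩ := exists_rep hD p
  have hla : isL (l ++ [a]) = true := isL_append hl (by simp [isL, Nat.blt_eq, ha])
  rw [← Space.pw_append, tauM_pow hD, tau0_iter hD hi hl]
  show tau0 hD _ = _
  rw [tau0_pw hD hi hla, out, out, ← Space.pw_append, List.append_assoc]
  have hex : exW (l ++ [a]) % 5 = ex1 a * exW l % 5 := by
    rw [exW_append, exW_cons, exW_nil, mul_one, Nat.mul_mod_mod, mul_comm]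
  rw [one_mul, hex]

/-- The model as a space. -/
noncomputable def SM : Space D.Mod where
  tau := tauM hD
  five := Equiv.ext fun p => (tauM_pow hD 5 p).trans (tau0_five hD p)
  moveA p := by
    have h := move_letter hD (a := 0) (by norm_num) p
    simpa [Space.pw, val_cons, val_nil, gl, show ex1 0 = 2 from rfl] using h
  moveB p := by
    have h := move_letter hD (a := 2) (by norm_num) p
    simpa [Space.pw, val_cons, val_nil, gl, show ex1 2 = 1 from rfl] using h
  v := D.vX

theorem hFM : ∀ m < D.nf, (SM hD).FV (D.fact m) := by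
  intro m hm
  have ht := hD.tFact m hm
  have hh := hF0 hD m hm
  simp only [Data.hFact] at hh
  simp only [tFactOk] at ht
  generalize D.fact m = f at hh ht ⊢
  cases f with
  | h i w j => exact hh
  | t i e j l =>
    simp only [Bool.and_eq_true, Nat.blt_eq, Nat.beq_eq] at ht
    obtain ⟨⟨⟨he, hi⟩, hj⟩, hc⟩ := ht
    show (tauM hD ^ e) (D.vX i) = Space.pw (dec l) (D.vX j)
    conv_lhs => rw [← Space.pw_nil (D.vX i)]
    rw [tauM_pow hD, tau0_iter hD hi rfl, out, exW_nil, mul_one, Nat.mod_eq_of_lt he, hj,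
      List.append_nil, Space.pw_congr hD.base.faithful hc]

/-- The braid relation holds. -/
theorem braid (p : D.Mod) : (SM hD).ract ztR p = p := by
  obtain ⟨⟨i, l⟩, hi, hl, rfl⟩ := exists_rep hD p
  have hk : (val l)⁻¹ ∈ sub D.levM0.gens := by rw [hD.levM0Top]; exact inv_mem (val_mem_lGens hl)
  obtain ⟨r, hr, s, hs, hks⟩ := hD.base.faithful.cover hD.levM0 hk
  have hc := (all2_spec (0, 0, 0) 0 (hD.cover i hi)).2 r hr
  simp only [covChk] at hc
  generalize (D.cov.getD i []).getD r (0, 0, 0) = t at hc
  obtain ⟨a, si, mi⟩ := t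
  simp only [Bool.and_eq_true, Nat.blt_eq, Nat.beq_eq] at hc
  obtain ⟨ha, hcode⟩ := hc
  have hz := hD.zt i hi
  simp only [ztOk, List.all_eq_true] at hz
  have hst := hz _ (List.getElem_mem ha)
  rw [List.getD_eq_getElem _ _ ha] at hcode
  generalize (D.zts.getD i [])[a] = st at hst hcode
  obtain ⟨j, w, q, hk2, hq⟩ := (SM hD).walkF_sound hD.base.faithful (hFM hD) _ _ _ _ hst
  simp only [Bool.and_eq_true, Nat.beq_eq] at hk2
  obtain ⟨⟨rfl, hroute⟩, hw⟩ := hk2
  rw [(SM hD).sameRoute_sound hD.base.faithful hroute] at hq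
  have hfix : (SM hD).ract ztR (Space.pw (dec st.1) (D.vX j)) = Space.pw (dec st.1) (D.vX j) := by
    refine hq.trans (pw_absorb hD hi ?_)
    rw [← val_winv, ← val_append, hD.base.faithful.val_eq hw]
    exact gword_mem _ _
  let C : Subgroup P3 :=
    { carrier := {g | g * gC = gC * g ∧ ∀ x : D.Mod, tauM hD (g • x) = g • tauM hD x}
      one_mem' := ⟨by simp, fun x => by simp⟩
      mul_mem' := fun {u v} hu hv => ⟨by rw [mul_assoc, hv.1, ← mul_assoc, hu.1, mul_assoc],
        fun x => by rw [mul_smul, hu.2, hv.2, mul_smul]⟩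
      inv_mem' := fun {u} hu => ⟨by rw [inv_mul_eq_iff_eq_mul, ← mul_assoc, hu.1, mul_inv_cancel_right],
        fun x => by
          have h := hu.2 (u⁻¹ • x)
          rw [smul_inv_smul] at h
          rw [h, inv_smul_smul]⟩ }
  have hC : sub D.m0Gens ≤ C := by
    rw [sub, Subgroup.closure_le]
    rintro g ⟨n, hn, rfl⟩
    have h := hD.m0
    simp only [m0Ok, List.all_eq_true, Bool.and_eq_true, Nat.beq_eq] at h
    obtain ⟨⟨hL, he⟩, hcz⟩ := h n hn
    refine ⟨by simpa [val_append, val_cons, val_nil, gl] using hD.base.faithful.val_eq hcz, fun x => ?_⟩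
    have := (SM hD).tau_pw (isL_winv hL) 1 x
    simp only [Space.pw, val_winv, inv_inv, pow_one, one_mul] at this
    have h1 := exW_congr hD (isL_append hL (isL_winv hL)) (v := []) rfl
      (by rw [val_append, val_winv, mul_inv_cancel, val_nil])
    rw [exW_append, he, one_mul, exW_nil] at h1
    rw [(SM hD).tpow_congr (b := 1) h1, pow_one] at this
    exact this
  have hcomm : ∀ g ∈ C, ∀ x, (SM hD).ract ztR (g • x) = g • (SM hD).ract ztR x := by
    intro g hg x
    have hzc : ∀ y : D.Mod, Space.pw [4] (g • y) = g • Space.pw [4] y := fun y => by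
      have e4 : (val [4])⁻¹ = gC := by simp [val_cons, val_nil, gl, gC_inv]
      rw [Space.pw, Space.pw, e4, smul_smul, smul_smul, hg.1]
    have htc : ∀ y : D.Mod, ((SM hD).tau ^ 1) (g • y) = g • ((SM hD).tau ^ 1) y := fun y => by
      rw [pow_one]; exact hg.2 y
    simp only [ztR, Space.ract, Space.tact, hzc, htc]
  have e : Space.pw l (D.vX j) =
      (s * (val (gword D.m0Gens mi))⁻¹) • Space.pw (dec st.1) (D.vX j) := by
    have e1 := hD.base.faithful.val_eq hcode
    simp only [val_append, val_winv] at e1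
    rw [Space.pw, Space.pw, hks, mul_smul, mul_smul, ← inv_inv (val (dec (D.levM0.reps.getD r 0))), e1,
      mul_inv_rev, mul_inv_rev, mul_smul, mul_smul,
      loop_fix hD hi (inv_mem (gword_mem _ si))]
  show (SM hD).ract ztR (Space.pw l (D.vX j)) = Space.pw l (D.vX j)
  rw [e, hcomm _ (mul_mem (hC hs) (inv_mem (hC (gword_mem _ mi)))), hfix]

end MData

end Cfsg.Agent.HNWord66
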