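import Cfsg.Agent.Lib.HNRepCheck29
import Cfsg.Prelude.Def_Spor_HN

/-!
The 133-dimensional representation of the presented Harada–Norton group over the field with eleven elements.
-/

set_option autoImplicit false

namespace Cfsg.Agent.HNRep29

open Cfsg.Agent.HNRepCore29 Cfsg.Agent.HNRepData29 Cfsg.Agent.HNRepCheck29

/-- The unit group of the matrices. -/
abbrev GL133 : Type := (Matrix (Fin 133) (Fin 133) (ZMod 11))ˣ

/-- The matrix of a letter. -/
noncomputable def M (k : ℕ) : Matrix (Fin 133) (Fin 133) (ZMod 11) := sMat (gens.getD k [])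

theorem ok {k : ℕ} (hk : k < 7) : rowsOk (gens.getD k []) = true := gens_ok k (List.mem_range.2 hk)

theorem t_mul : M 5 * M 6 = 1 ∧ M 6 * M 5 = 1 := by
  constructor
  · simpa [M] using wordIsOne_sound (gens := gens) (w := [5, 6])
      (fun g hg => ok ((by decide : ∀ g ∈ [5, 6], g < 7) g hg)) tpair0
  · simpa [M] using wordIsOne_sound (gens := gens) (w := [6, 5])
      (fun g hg => ok ((by decide : ∀ g ∈ [6, 5], g < 7) g hg)) tpair1

theorem prod_one {w : List ℕ} (hw : ∀ g ∈ w, g < 7) (h : sameWord gens (w ++ [5]) [5] = true) :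
    (w.map M).prod = 1 :=
  prod_one_of_pad (fun g hg => ok (hw g hg)) (ok (by norm_num)) t_mul.1 h

theorem x_mul : M 0 * M 1 = 1 ∧ M 1 * M 0 = 1 :=
  ⟨by simpa using prod_one (w := [0, 1]) (by decide) pair0, by simpa using prod_one (w := [1, 0]) (by decide) pair1⟩

theorem y_mul : M 2 * M 3 = 1 ∧ M 3 * M 2 = 1 :=
  ⟨by simpa using prod_one (w := [2, 3]) (by decide) pair2, by simpa using prod_one (w := [3, 2]) (by decide) pair3⟩

theorem z_mul : M 4 * M 4 = 1 := by simpa using prod_one (w := [4, 4]) (by decide) rel7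

/-- The letters as units. -/
noncomputable def U : ℕ → GL133
  | 0 => ⟨M 0, M 1, x_mul.1, x_mul.2⟩
  | 1 => ⟨M 1, M 0, x_mul.2, x_mul.1⟩
  | 2 => ⟨M 2, M 3, y_mul.1, y_mul.2⟩
  | 3 => ⟨M 3, M 2, y_mul.2, y_mul.1⟩
  | 4 => ⟨M 4, M 4, z_mul, z_mul⟩
  | 5 => ⟨M 5, M 6, t_mul.1, t_mul.2⟩
  | 6 => ⟨M 6, M 5, t_mul.2, t_mul.1⟩
  | _ => 1

theorem coe_U : ∀ {k : ℕ}, k < 7 → (U k : Matrix (Fin 133) (Fin 133) (ZMod 11)) = M k := by
  intro k hk
  interval_cases k <;> rfl

theorem prod_U {w : List ℕ} (hw : ∀ g ∈ w, g < 7) (h : sameWord gens (w ++ [5]) [5] = true) :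
    (w.map U).prod = 1 := by
  refine Units.ext ?_
  rw [← Units.coeHom_apply, map_list_prod, List.map_map, Units.val_one, ← prod_one hw h]
  exact congrArg List.prod (List.map_congr_left fun g hg => coe_U (hw g hg))

/-- The images of the generators. -/
noncomputable def gen : Spor.HN.Gen → GL133
  | .x => U 0
  | .y => U 2
  | .z => U 4
  | .t => U 5

theorem inv_x : (U 0)⁻¹ = U 1 := inv_eq_of_mul_eq_one_right (Units.ext x_mul.1)
theorem inv_y : (U 2)⁻¹ = U 3 := inv_eq_of_mul_eq_one_right (Units.ext y_mul.1)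
theorem inv_z : (U 4)⁻¹ = U 4 := inv_eq_of_mul_eq_one_right (Units.ext z_mul)
theorem inv_t : (U 5)⁻¹ = U 6 := inv_eq_of_mul_eq_one_right (Units.ext t_mul.1)

theorem relators : ∀ r ∈ Spor.coxRelators Spor.HN.edges ∪ {r | r ∈ Spor.HN.extra},
    FreeGroup.lift gen r = 1 := by
  rintro r (⟨a, ha, -⟩ | hr)
  · simp [Spor.coxNodes, Spor.HN.edges] at ha
  simp only [Set.mem_ofPred_eq, Spor.HN.extra, List.mem_cons, List.not_mem_nil, or_false] at hr
  rcases hr with rfl | rfl | rfl | rfl | rfl | rfl | rfl | rfl | rfl | rfl | rfl | rfl | rfl | rfl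
  · have h := prod_U (w := [2, 2, 2, 2, 2, 2]) (by decide) rel1
    simp only [List.map_cons, List.map_nil, List.prod_cons, List.prod_nil, mul_one] at h
    simpa only [map_mul, map_pow, map_inv, FreeGroup.lift_apply_of, gen, mul_inv_rev, inv_x, inv_y, inv_z, inv_t, pow_succ, pow_zero, one_mul, mul_assoc, inv_inv] using h
  · have h := prod_U (w := [0, 0, 2, 0, 0, 3]) (by decide) rel2
    simp only [List.map_cons, List.map_nil, List.prod_cons, List.prod_nil, mul_one] at h
    simpa only [map_mul, map_pow, map_inv, FreeGroup.lift_apply_of, gen, mul_inv_rev, inv_x, inv_y, inv_z, inv_t, pow_succ, pow_zero, one_mul, mul_assoc, inv_inv] using h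
  · have h := prod_U (w := [1, 3, 0, 2, 1, 3, 0, 2, 1, 3, 0, 2]) (by decide) rel3
    simp only [List.map_cons, List.map_nil, List.prod_cons, List.prod_nil, mul_one] at h
    simpa only [map_mul, map_pow, map_inv, FreeGroup.lift_apply_of, gen, mul_inv_rev, inv_x, inv_y, inv_z, inv_t, pow_succ, pow_zero, one_mul, mul_assoc, inv_inv] using h
  · have h := prod_U (w := [1, 2, 2, 0, 2, 2, 2, 1, 2, 2, 0, 2, 2, 2, 1, 2, 2, 0, 2, 2, 2]) (by decide) rel4
    simp only [List.map_cons, List.map_nil, List.prod_cons, List.prod_nil, mul_one] at h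
    simpa only [map_mul, map_pow, map_inv, FreeGroup.lift_apply_of, gen, mul_inv_rev, inv_x, inv_y, inv_z, inv_t, pow_succ, pow_zero, one_mul, mul_assoc, inv_inv] using h
  · have h := prod_U (w := [0, 2, 0, 2, 0, 2, 0, 2, 0, 2, 0, 2, 0, 2, 0, 2]) (by decide) rel5
    simp only [List.map_cons, List.map_nil, List.prod_cons, List.prod_nil, mul_one] at h
    simpa only [map_mul, map_pow, map_inv, FreeGroup.lift_apply_of, gen, mul_inv_rev, inv_x, inv_y, inv_z, inv_t, pow_succ, pow_zero, one_mul, mul_assoc, inv_inv] using h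
  · have h := prod_U (w := [0, 2, 0, 2, 2, 2, 0, 2, 0, 2, 2, 2, 0, 2, 0, 2, 2, 2, 0, 2, 0, 2, 2, 2]) (by decide) rel6
    simp only [List.map_cons, List.map_nil, List.prod_cons, List.prod_nil, mul_one] at h
    simpa only [map_mul, map_pow, map_inv, FreeGroup.lift_apply_of, gen, mul_inv_rev, inv_x, inv_y, inv_z, inv_t, pow_succ, pow_zero, one_mul, mul_assoc, inv_inv] using h
  · have h := prod_U (w := [4, 4]) (by decide) rel7
    simp only [List.map_cons, List.map_nil, List.prod_cons, List.prod_nil, mul_one] at h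
    simpa only [map_mul, map_pow, map_inv, FreeGroup.lift_apply_of, gen, mul_inv_rev, inv_x, inv_y, inv_z, inv_t, pow_succ, pow_zero, one_mul, mul_assoc, inv_inv] using h
  · have h := prod_U (w := [4, 0, 4, 0]) (by decide) rel8
    simp only [List.map_cons, List.map_nil, List.prod_cons, List.prod_nil, mul_one] at h
    simpa only [map_mul, map_pow, map_inv, FreeGroup.lift_apply_of, gen, mul_inv_rev, inv_x, inv_y, inv_z, inv_t, pow_succ, pow_zero, one_mul, mul_assoc, inv_inv] using h
  · have h := prod_U (w := [4, 2, 1, 3, 3, 1, 3, 1, 3, 4, 2, 0, 2, 0, 2, 2, 0, 3, 1, 1]) (by decide) rel9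
    simp only [List.map_cons, List.map_nil, List.prod_cons, List.prod_nil, mul_one] at h
    simpa only [map_mul, map_pow, map_inv, FreeGroup.lift_apply_of, gen, mul_inv_rev, inv_x, inv_y, inv_z, inv_t, pow_succ, pow_zero, one_mul, mul_assoc, inv_inv] using h
  · have h := prod_U (w := [4, 3, 1, 3, 1, 3, 3, 3, 4, 2, 2, 2, 0, 2, 0, 2, 0, 3, 1, 3, 1, 3, 3, 3, 4, 2, 2, 2, 0, 2, 0, 2, 0, 3, 1, 3, 1, 3, 3, 3, 4, 2, 2, 2, 0, 2, 0, 2, 0]) (by decide) rel10
    simp only [List.map_cons, List.map_nil, List.prod_cons, List.prod_nil, mul_one] at h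
    simpa only [map_mul, map_pow, map_inv, FreeGroup.lift_apply_of, gen, mul_inv_rev, inv_x, inv_y, inv_z, inv_t, pow_succ, pow_zero, one_mul, mul_assoc, inv_inv] using h
  · have h := prod_U (w := [5, 5, 5, 5, 5]) (by decide) rel11
    simp only [List.map_cons, List.map_nil, List.prod_cons, List.prod_nil, mul_one] at h
    simpa only [map_mul, map_pow, map_inv, FreeGroup.lift_apply_of, gen, mul_inv_rev, inv_x, inv_y, inv_z, inv_t, pow_succ, pow_zero, one_mul, mul_assoc, inv_inv] using h
  · have h := prod_U (w := [1, 5, 0, 5, 5]) (by decide) rel12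
    simp only [List.map_cons, List.map_nil, List.prod_cons, List.prod_nil, mul_one] at h
    simpa only [map_mul, map_pow, map_inv, FreeGroup.lift_apply_of, gen, mul_inv_rev, inv_x, inv_y, inv_z, inv_t, pow_succ, pow_zero, one_mul, mul_assoc, inv_inv] using h
  · have h := prod_U (w := [6, 3, 5, 2]) (by decide) rel13
    simp only [List.map_cons, List.map_nil, List.prod_cons, List.prod_nil, mul_one] at h
    simpa only [map_mul, map_pow, map_inv, FreeGroup.lift_apply_of, gen, mul_inv_rev, inv_x, inv_y, inv_z, inv_t, pow_succ, pow_zero, one_mul, mul_assoc, inv_inv] using h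
  · have h := prod_U (w := [4, 5, 4, 5, 4, 5]) (by decide) rel14
    simp only [List.map_cons, List.map_nil, List.prod_cons, List.prod_nil, mul_one] at h
    simpa only [map_mul, map_pow, map_inv, FreeGroup.lift_apply_of, gen, mul_inv_rev, inv_x, inv_y, inv_z, inv_t, pow_succ, pow_zero, one_mul, mul_assoc, inv_inv] using h

/-- The representation. -/
noncomputable def rho : Spor.HN →* GL133 := PresentedGroup.toGroup relators

theorem rho_mk (w : FreeGroup Spor.HN.Gen) :
    rho (PresentedGroup.mk (Spor.coxRelators Spor.HN.edges ∪ {r | r ∈ Spor.HN.extra}) w) =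
      FreeGroup.lift gen w := rfl

theorem sq_ne {k : ℕ} (hk : k < 7) {i j : ℕ} (hi : i < 133) (hj : j < 133)
    (h : notOne gens [k, k] i j = true) : U k ^ 2 ≠ 1 := fun e => by
  have := notOne_sound hi hj (fun g hg => ok (by simp at hg; omega)) h
  apply this
  have e' := congrArg Units.val e
  simpa [pow_two, coe_U hk, M] using e'

/-- In the presented Harada–Norton group the squares of `x` and `y` are not trivial: a representation
separates them from one. -/
theorem exists_rep : ∃ (R : Type) (_ : Monoid R) (ρ : Spor.HN →* R),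
    ρ (PresentedGroup.mk (Spor.coxRelators Spor.HN.edges ∪ {r | r ∈ Spor.HN.extra}) (Spor.HN.x ^ 2)) ≠ 1 ∧
    ρ (PresentedGroup.mk (Spor.coxRelators Spor.HN.edges ∪ {r | r ∈ Spor.HN.extra}) (Spor.HN.y ^ 2)) ≠ 1 := by
  refine ⟨GL133, inferInstance, rho, ?_, ?_⟩
  · rw [rho_mk, map_pow, FreeGroup.lift_apply_of]
    exact sq_ne (by norm_num) (by norm_num) (by norm_num) x_sq
  · rw [rho_mk, map_pow, FreeGroup.lift_apply_of]
    exact sq_ne (by norm_num) (by norm_num) (by norm_num) y_sq

end Cfsg.Agent.HNRep29
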