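import Cfsg.Agent.Lib.HSMultBound
import Cfsg.Agent.Lib.HSMultFiveData

/-!
Checks of the certificate for the prime 5 in the multiplier of the second pair stabiliser.
-/

set_option autoImplicit false
set_option maxRecDepth 100000

namespace Cfsg.Agent.HSMultFive

open Cfsg Cfsg.Agent.HSPerm Cfsg.Agent.HSMultBound Cfsg.Agent.SplitVoltageCert
  Cfsg.Agent.HSMultFiveData Cfsg.Agent.J2Mult76Bound

theorem cert_core : cert.Core where
  hm := by decide +kernel
  hn := by decide +kernel
  hN := by decide +kernel
  hnpow := by decide +kernel
  hK := by decide +kernel
  table := by decide +kernel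
  tree := by decide +kernel
  rel := by decide +kernel
  edge := by decide +kernel

theorem tabs_check : tabsOK words gensX invsX cert.n = true := by decide +kernel

theorem gens_check : gensOK cert gensX invsX ords = true := by decide +kernel

theorem inj_check : injOK cert.N keyT posT srtT = true := by decide +kernel

theorem act_check : actOK cert gensX keyT = true := by decide +kernel

theorem fin_check : cert.finOK = true := by decide +kernel

/-- Characters of the kernel of a stem extension with values killed by 5 are trivial. -/
theorem bound {Γ : Type} [Group Γ] [Finite Γ] (σ : Γ →* Hp) (hσ : Cfsg.IsStemExtension σ)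
    {A : Type*} [CommGroup A] (hA : ∀ a : A, a ^ 5 = 1) (χ : σ.ker →* A) : ∀ z : σ.ker, χ z = 1 :=
  bound_tuples cert cert_core rfl words gensX invsX ords keyT posT srtT tabs_check gens_check
    inj_check act_check (by decide +kernel) fin_check σ hσ hA χ

end Cfsg.Agent.HSMultFive
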