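import Cfsg.Agent.Lib.HSMultStab
import Cfsg.Agent.Lib.HSMultTwoData

/-!
Characters with values killed by four of the kernel of a stem extension of the second pair stabiliser:
voltages on the 352 halves.
-/

set_option autoImplicit false
set_option maxRecDepth 100000

open scoped Pointwise

namespace Cfsg.Agent.HSMultTwo

open Cfsg Cfsg.Agent.HSPerm Cfsg.Agent.HSMultBound Cfsg.Agent.HSMultStab Cfsg.Agent.SplitVoltage
open Cfsg.Agent.SplitVoltageCert Cfsg.Agent.HSMultTwoData
open Cfsg.Agent.HSMultStabData (half)
open Cfsg.Agent.LeechCert (force force_eq)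
open Cfsg.Agent.J2Mult76Bound (injOK inj_of_injOK)

theorem cert_core : cert.Core where
  hm := by decide +kernel
  hn := by decide +kernel
  hN := by decide +kernel
  hnpow := by decide +kernel
  hK := by decide +kernel
  table := by decide +kernel
  tree := by decide +kernel
  rel := by decide +kernel
  edge := by decide +kernel

theorem tabs_check : tabsOK words gensX invsX cert.n = true := by decide +kernel

theorem gens_check : gensOK cert gensX invsX ords = true := by decide +kernel

theorem inj_check : injOK cert.N keyT posT srtT = true := by decide +kernel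

theorem fin_check : cert.finCyc k0 2 cs = true := by decide +kernel

/-- the check of the action on halves -/
noncomputable def actOK : Bool :=
  (List.range cert.N).all fun c => force (SplitVoltageCert.get keyT c) fun a => Nat.blt a (2 ^ 100) &&
    (List.range cert.n).all fun i => force (SplitVoltageCert.get keyT (cert.nxF i c)) fun b =>
      keyMap (gensX.getD i []) a b

theorem act_check : actOK = true := by decide +kernel

theorem key_zero : SplitVoltageCert.get keyT 0 = half := by decide +kernel

/-- the objects -/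
noncomputable def obj (c : ℕ) : Finset (Fin 100) := setOf (SplitVoltageCert.get keyT c)

theorem key_lt {c : ℕ} (hc : c < cert.N) : SplitVoltageCert.get keyT c < 2 ^ 100 := by
  have h := act_check
  simp only [actOK, List.all_eq_true, List.mem_range, force_eq, Bool.and_eq_true, Nat.blt_eq] at h
  exact (h c hc).1

theorem obj_inj : ∀ c < cert.N, ∀ d < cert.N, obj c = obj d → c = d := fun c hc d hd e =>
  inj_of_injOK inj_check hc hd (setOf_inj (key_lt hc) (key_lt hd) e)

theorem obj_act : ∀ i < cert.n, ∀ c < cert.N,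
    cert.nxF i c < cert.N ∧ gensE words i • obj c = obj (cert.nxF i c) := by
  intro i hi c hc
  have h := act_check
  simp only [actOK, List.all_eq_true, List.mem_range, force_eq, Bool.and_eq_true] at h
  exact ⟨(Cert.nxF_lt cert_core hi hc).1, smul_setOf (tab_rep tabs_check hi) ((h c hc).2 i hi)⟩

/-- the second generator as a word in the other two -/
def yWord : List ℕ :=
  [2, 2, 2, 2, 0, 0, 0, 0, 0, 0, 0, 0, 0, 0, 2, 2, 2, 2, 2, 2, 2, 2, 0, 2, 2, 2, 2, 0, 0, 2, 0, 2,
    2, 2, 2, 0, 0, 0, 0, 0, 0, 0, 0, 0, 0, 2, 2, 0, 2, 2, 2, 2, 2, 2, 2, 2, 0, 0]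

theorem words_eq : words.getD 0 [] = [0] ∧ words.getD 1 [] = [2] ∧ cert.n = 2 := by decide +kernel

theorem yWord_ok : ∀ i : Fin 100,
    wordF (yWord.map fun a => if a = 0 then 0 else 2) i = wordF [1] i := by decide +kernel

theorem closure_two : Subgroup.closure (gensE words '' Set.Iio cert.n) = ⊤ := by
  obtain ⟨w0, w1, hn⟩ := words_eq
  set L := Subgroup.closure (gensE words '' Set.Iio cert.n)
  have h0 : wordE [0] ∈ L := Subgroup.subset_closure ⟨0, by rw [hn]; exact Nat.zero_lt_two, by rw [gensE, w0]⟩
  have h2 : wordE [2] ∈ L := Subgroup.subset_closure ⟨1, by rw [hn]; exact Nat.one_lt_two, by rw [gensE, w1]⟩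
  have hprod : ∀ l : List (Fin 3), (∀ k ∈ l, wordE [k] ∈ L) → wordE l ∈ L := by
    intro l
    induction l with
    | nil =>
      intro _
      rw [show wordE [] = 1 from Subtype.ext (by simp [wordE])]
      exact L.one_mem
    | cons k l ih =>
      intro h
      rw [show wordE (k :: l) = wordE [k] * wordE l from Subtype.ext (by simp [wordE])]
      exact L.mul_mem (h k List.mem_cons_self) (ih fun q hq => h q (List.mem_cons_of_mem _ hq))
  have h1 : wordE [1] ∈ L := by
    rw [show wordE [1] = wordE (yWord.map fun a => if a = 0 then 0 else 2) from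
      Subtype.ext (eq_of_rep (wordE_rep _) (wordE_rep _) fun i hi => (yWord_ok ⟨i, hi⟩).symm)]
    refine hprod _ fun k hk => ?_
    obtain ⟨a, -, rfl⟩ := List.mem_map.1 hk
    split_ifs
    exacts [h0, h2]
  rw [eq_top_iff]
  intro g _
  obtain ⟨g', hg'⟩ := g.2
  have hmem : g' ∈ Subgroup.closure ({gx, gy, gz} : Set Gr) := closure_gens ▸ Subgroup.mem_top g'
  have hle : Subgroup.closure ({gx, gy, gz} : Set Gr) ≤ L.comap ρ.rangeRestrict := by
    rw [Subgroup.closure_le]
    rintro a (rfl | rfl | rfl)
    · rw [SetLike.mem_coe, Subgroup.mem_comap,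
        show ρ.rangeRestrict gx = wordE [0] from Subtype.ext (by simp [wordE, gen])]
      exact h0
    · rw [SetLike.mem_coe, Subgroup.mem_comap,
        show ρ.rangeRestrict gy = wordE [1] from Subtype.ext (by simp [wordE, gen])]
      exact h1
    · rw [SetLike.mem_coe, Subgroup.mem_comap,
        show ρ.rangeRestrict gz = wordE [2] from Subtype.ext (by simp [wordE, gen])]
      exact h2
  have := hle hmem
  rwa [Subgroup.mem_comap, show ρ.rangeRestrict g' = g from Subtype.ext hg'] at this

theorem orbit_eq : MulAction.orbit Hp (obj 0) = obj '' Set.Iio cert.N := by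
  refine Set.Subset.antisymm ?_ ?_
  · rintro _ ⟨g, rfl⟩
    have hg : g ∈ Subgroup.closure (gensE words '' Set.Iio cert.n) := closure_two ▸ Subgroup.mem_top g
    rw [← Subgroup.mem_toSubmonoid, Subgroup.closure_toSubmonoid_of_finite] at hg
    have key : ∀ c < cert.N, g • obj c ∈ obj '' Set.Iio cert.N := by
      induction hg using Submonoid.closure_induction with
      | mem y hy =>
        obtain ⟨i, hi, rfl⟩ := hy
        exact fun c hc => ⟨_, (obj_act i hi c hc).1, (obj_act i hi c hc).2.symm⟩
      | one => exact fun c hc => ⟨c, hc, (one_smul Hp (obj c)).symm⟩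
      | mul a b _ _ ha hb =>
        intro c hc
        obtain ⟨d, hd, e⟩ := hb c hc
        rw [mul_smul, ← e]
        exact ha d hd
    exact key 0 cert_core.hN
  · rintro _ ⟨c, hc, rfl⟩
    induction c using Nat.strong_induction_on with
    | _ c ih =>
      rcases Nat.eq_zero_or_pos c with rfl | h0
      · exact MulAction.mem_orbit_self _
      · obtain ⟨h1, h2, h3⟩ := Cert.parF_spec cert_core hc h0
        have := ih _ h1 (h1.trans hc)
        rw [← h3, ← (obj_act _ h2 _ (h1.trans hc)).2]
        exact MulAction.mem_orbit_of_mem_orbit _ this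

theorem card_K : Nat.card K = 126000 := by
  have h1 : (MulAction.stabilizer Hp (obj 0)).index = 352 := by
    rw [MulAction.index_stabilizer, orbit_eq, Set.InjOn.ncard_image]
    · rw [← Finset.coe_Iio, Set.ncard_coe_finset, Nat.card_Iio]; rfl
    · exact fun a ha b hb => obj_inj a ha b hb
  have h2 := Subgroup.card_mul_index (MulAction.stabilizer Hp (obj 0))
  rw [h1, card_Hp, obj, key_zero] at h2
  show Nat.card ↥(MulAction.stabilizer Hp (setOf half)) = 126000
  omega

/-- Characters with values killed by four. -/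
theorem bound {Γ : Type} [Group Γ] [Finite Γ] (σ : Γ →* Hp) (hσ : Cfsg.IsStemExtension σ)
    {A : Type} [CommGroup A] (hA : ∀ a : A, a ^ 4 = 1) (χ : σ.ker →* A) :
    ∃ u : A, u ^ 2 = 1 ∧ ∀ z : σ.ker, χ z ∈ Subgroup.zpowers u := by
  obtain ⟨hord, hrel⟩ := gens_spec cert cert_core words gensX invsX ords tabs_check gens_check
  have hstab : MulAction.stabilizer Hp (obj 0) = K := by rw [obj, key_zero]
  obtain ⟨u, hu, U, hall, hU⟩ := voltage_main (m := 4) cert.n cert.N cert_core.hN (gensE words) cert.nxF
    cert.pvF obj cert.parF cert.rels cert.npow closure_two obj_inj obj_act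
    (fun i hi c hc => (Cert.nxF_lt cert_core hi hc).2)
    (fun c hc h0 => Cert.parF_spec cert_core hc h0)
    (fun l hl => ⟨(Cert.rel_spec cert_core hl).1, hrel l hl⟩)
    (fun r hr => by
      have hr' : r < cert.n := hr
      refine ⟨_, r, (hord r hr').2.2, ?_, (hord r hr').1⟩
      rw [← (hord r hr').1]; exact pow_orderOf_eq_one _)
    (fun i hi => by rw [(hord i hi).1]; exact (hord i hi).2.1)
    σ hσ.1 hσ.2.1 hA χ
    (fun σH hsH hcH χH => by
      let e : MulAction.stabilizer Hp (obj 0) ≃* K := MulEquiv.subgroupCongr hstab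
      have hk : (e.toMonoidHom.comp σH).ker = σH.ker := by
        ext x; simp [MonoidHom.mem_ker]
      obtain ⟨ψ, hψ⟩ := extend_four card_K (e.toMonoidHom.comp σH) (e.surjective.comp hsH) (hk ▸ hcH) hA
        (χH.comp (MulEquiv.subgroupCongr hk).toMonoidHom)
      exact ⟨ψ, fun z => (hψ ⟨z.1, by rw [hk]; exact z.2⟩).trans (congrArg χH (Subtype.ext rfl))⟩)
    2
    (Cert.solution_cyc cert_core fin_check (A := Additive A)
      (fun a => Additive.toMul.injective (by rw [toMul_nsmul, toMul_zero]; exact hA a.toMul)))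
  refine ⟨u, hu, fun z => hU z ?_⟩
  have hsup : U ⊔ σ.ker = ⊤ := by
    rw [eq_top_iff]
    intro g _
    obtain ⟨w, hw⟩ := hall g
    rw [show g = g * (w : Γ)⁻¹ * w by group]
    exact Subgroup.mul_mem_sup hw w.2
  exact SchurMultiplierBasic.commutator_le_of_sup_center U σ.ker hσ.2.1 hsup (hσ.2.2 z.2)

end Cfsg.Agent.HSMultTwo
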