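import Cfsg.Agent.Lib.HNTwoHSEmbed66
import Cfsg.Agent.Lib.HNRep29
import Cfsg.Agent.Lib.HSMult
import Cfsg.Prelude.Def_KGroupFacts

/-!
The multiplier of the presented Harada–Norton group is trivial, given that the group is finite: the four
generators lift to elements satisfying the defining relations.
-/

set_option autoImplicit false
set_option linter.style.haveILetI false

namespace Cfsg.Agent.HNMult52

open Cfsg Cfsg.Agent.HNTwoHSRels66 Cfsg.Agent.HNTwoHSGroup66 Cfsg.Agent.HSPerm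
open scoped commutatorElement

theorem conj_pow_inv {M : Type*} [Group M] (u v : M) (n : ℕ) : (u⁻¹ * v * u) ^ n = u⁻¹ * v ^ n * u := by
  induction n with
  | zero => simp
  | succ n ih => rw [pow_succ, ih, pow_succ]; group

section Lift

variable {P E G S : Type} [Group P] [Group E] [Group G] [Group S] [Finite E]

/-- A perfect subgroup whose central quotient admits no larger stem extension lifts. -/
theorem perfect_lift (σ : E →* G) (hs : Function.Surjective σ) (hc : σ.ker ≤ Subgroup.center E)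
    (f : P →* G) (hf : Function.Injective f) (K : Subgroup P) (τ : K →* S) (hτ : Function.Surjective τ)
    (hτc : τ.ker ≤ Subgroup.center K) (hK : ⁅K, K⁆ = K)
    (hbd : ∀ (Γ : Type) [Group Γ] [Finite Γ] (φ : Γ →* S), IsStemExtension φ →
      Nat.card φ.ker ≤ Nat.card τ.ker) :
    ∃ D : Subgroup E, D.map σ = K.map f ∧ (∀ d ∈ D, σ d = 1 → d = 1) ∧
      ∀ e : E, (∀ k ∈ K, σ e * f k * (σ e)⁻¹ ∈ K.map f) → ∀ d ∈ D, e * d * e⁻¹ ∈ D := by
  obtain ⟨Kh, hKh⟩ : ∃ Kh, Kh = (K.map f).comap σ := ⟨_, rfl⟩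
  obtain ⟨D, hDdef⟩ : ∃ D, D = ⁅Kh, Kh⁆ := ⟨_, rfl⟩
  have hmap : D.map σ = K.map f := by
    rw [hDdef, Subgroup.map_commutator, hKh, Subgroup.map_comap_eq_self_of_surjective hs,
      ← Subgroup.map_commutator, hK]
  have hA : ∀ a ∈ σ.ker, ∀ g : E, Commute a g := fun a ha g =>
    (Subgroup.mem_center_iff.mp (hc ha) g).symm
  have hsplit : ∀ g ∈ Kh, ∃ d ∈ D, ∃ a ∈ σ.ker, g = d * a := by
    intro g hg
    have hg' : σ g ∈ D.map σ := by rw [hmap]; rw [hKh] at hg; exact hg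
    obtain ⟨d, hd, hdg⟩ := hg'
    exact ⟨d, hd, d⁻¹ * g, by rw [MonoidHom.mem_ker, map_mul, map_inv, hdg, inv_mul_cancel],
      (mul_inv_cancel_left d g).symm⟩
  have hperf : commutator D = ⊤ := by
    apply Subgroup.map_injective D.subtype_injective
    rw [Subgroup.map_subtype_commutator, ← MonoidHom.range_eq_map, Subgroup.range_subtype]
    refine le_antisymm (Subgroup.commutator_le_self D) ?_
    conv_lhs => rw [hDdef]
    rw [Subgroup.commutator_le]
    intro g hg g' hg'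
    obtain ⟨d, hd, a, ha, rfl⟩ := hsplit g hg
    obtain ⟨d', hd', a', ha', rfl⟩ := hsplit g' hg'
    have e1 : ⁅d * a, d' * a'⁆ = ⁅d, d'⁆ := by
      simp only [commutatorElement_def, mul_inv_rev]
      have h1 : ∀ u, a * u = u * a := fun u => (hA a ha u).eq
      have h2 : ∀ u, a' * u = u * a' := fun u => (hA a' ha' u).eq
      calc d * a * (d' * a') * (a⁻¹ * d⁻¹) * (a'⁻¹ * d'⁻¹)
          = d * (a * (d' * a')) * (a⁻¹ * d⁻¹) * (a'⁻¹ * d'⁻¹) := by group
        _ = d * d' * (a' * d⁻¹) * (a'⁻¹ * d'⁻¹) := by rw [h1]; group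
        _ = d * d' * d⁻¹ * d'⁻¹ := by rw [h2]; group
    rw [e1]
    exact Subgroup.commutator_mem_commutator hd hd'
  let κ : D →* K.map f := (σ.comp D.subtype).codRestrict _ fun d =>
    hmap ▸ Subgroup.mem_map_of_mem σ d.2
  let ι := Subgroup.equivMapOfInjective K f hf
  let ρ : D →* K := ι.symm.toMonoidHom.comp κ
  have hρs : Function.Surjective ρ := by
    refine ι.symm.surjective.comp ?_
    rintro ⟨g, hg⟩
    rw [← hmap] at hg
    obtain ⟨d, hd, hdg⟩ := hg
    exact ⟨⟨d, hd⟩, Subtype.ext hdg⟩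
  have hρ1 : ∀ d : D, ρ d = 1 → σ (d : E) = 1 := by
    intro d hd
    have h := congrArg ι hd
    rw [map_one, show ι (ρ d) = κ d from ι.apply_symm_apply _] at h
    exact congrArg Subtype.val h
  let φ : D →* S := τ.comp ρ
  have hstem : IsStemExtension φ := by
    refine ⟨hτ.comp hρs, fun z hz => ?_, by rw [hperf]; exact le_top⟩
    have hcen : ∀ w : D, σ ((z * w * z⁻¹ * w⁻¹ : D) : E) = 1 := fun w => hρ1 _ (by
      rw [map_mul, map_mul, map_mul, map_inv, map_inv,
        ← Subgroup.mem_center_iff.mp (hτc (show ρ z ∈ τ.ker from hz)) (ρ w)]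
      group)
    let χ : D →* σ.ker :=
      { toFun := fun w => ⟨(z : E) * w * (z : E)⁻¹ * (w : E)⁻¹, hcen w⟩
        map_one' := Subtype.ext (by simp)
        map_mul' := fun w w' => Subtype.ext (by
          have h := (hA _ (hcen w') (w : E)⁻¹).eq
          simp only [Subgroup.coe_mul, Subgroup.coe_inv] at h ⊢
          calc (z : E) * (w * w') * (z : E)⁻¹ * ((w : E) * w')⁻¹
              = z * w * (z : E)⁻¹ * ((z * w' * (z : E)⁻¹ * (w' : E)⁻¹) * (w : E)⁻¹) := by group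
            _ = z * w * (z : E)⁻¹ * (w : E)⁻¹ * (z * w' * (z : E)⁻¹ * (w' : E)⁻¹) := by
              rw [h]; group) }
    letI : CommGroup σ.ker :=
      { (inferInstance : Group σ.ker) with mul_comm := fun a b => Subtype.ext (hA a a.2 b).eq }
    rw [Subgroup.mem_center_iff]
    intro w
    have hw : χ w = 1 := Abelianization.commutator_subset_ker χ (hperf ▸ Subgroup.mem_top w)
    have hw' : (z : E) * w * (z : E)⁻¹ * (w : E)⁻¹ = 1 := congrArg Subtype.val hw
    rw [mul_inv_eq_one, mul_inv_eq_iff_eq_mul] at hw'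
    exact Subtype.ext hw'.symm
  have hbij : Function.Injective ρ := by
    rw [injective_iff_map_eq_one]
    intro d hd
    let r : φ.ker → τ.ker := fun u => ⟨ρ u, u.2⟩
    have hr : Function.Surjective r := by
      rintro ⟨k, hk⟩
      obtain ⟨u, rfl⟩ := hρs k
      exact ⟨⟨u, hk⟩, rfl⟩
    haveI : Finite K := Finite.of_surjective ρ hρs
    have he := ((Nat.bijective_iff_surjective_and_card r).mpr ⟨hr, le_antisymm (hbd D φ hstem)
      (Nat.card_le_card_of_surjective r hr)⟩).1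
    have := he (a₁ := ⟨d, by rw [MonoidHom.mem_ker, MonoidHom.comp_apply, hd, map_one]⟩) (a₂ := 1)
      (Subtype.ext (by show ρ d = ρ 1; rw [hd, map_one]))
    exact congrArg Subtype.val this
  refine ⟨D, hmap, fun d hd h1 => ?_, fun e he d hd => ?_⟩
  · refine congrArg Subtype.val (hbij (a₁ := (⟨d, hd⟩ : D)) (a₂ := 1) ?_)
    rw [map_one]
    show ι.symm (κ ⟨d, hd⟩) = 1
    rw [show κ ⟨d, hd⟩ = 1 from Subtype.ext h1, map_one]
  · have hle : Kh.map (MulAut.conj e).toMonoidHom ≤ Kh := by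
      rintro _ ⟨g, hg, rfl⟩
      rw [hKh] at hg ⊢
      obtain ⟨k, hk, hkg⟩ := hg
      show σ (e * g * e⁻¹) ∈ K.map f
      rw [map_mul, map_mul, map_inv, ← hkg]
      exact he k hk
    have h := Subgroup.mem_map_of_mem (MulAut.conj e).toMonoidHom hd
    rw [hDdef, Subgroup.map_commutator] at h
    rw [hDdef]
    exact Subgroup.commutator_mono hle hle h

/-- A lifted subgroup of index two and an involution outside it give a lift of the whole group. -/
theorem exists_section (σ : E →* G) (f : P →* G) (hf : Function.Injective f) (K : Subgroup P)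
    (hK : K.index = 2) (D : Subgroup E) (hD : D.map σ = K.map f)
    (hD1 : ∀ d ∈ D, σ d = 1 → d = 1) {c : P} (hc : c ∉ K) {e : E} (he : σ e = f c) (he2 : e * e = 1)
    (hn : ∀ d ∈ D, e * d * e⁻¹ ∈ D) :
    ∃ s : P →* E, σ.comp s = f ∧ s c = e ∧ ∀ k ∈ K, s k ∈ D := by
  have hei : e⁻¹ = e := inv_eq_of_mul_eq_one_right he2
  rw [hei] at hn
  let M : Subgroup E :=
    { carrier := {g | g ∈ D ∨ g * e ∈ D}
      one_mem' := Or.inl D.one_mem
      mul_mem' := by
        rintro a b (ha | ha) (hb | hb)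
        · exact Or.inl (mul_mem ha hb)
        · right; rw [mul_assoc]; exact mul_mem ha hb
        · right
          rw [show a * b * e = a * e * (e * b * e) by
            rw [show a * e * (e * b * e) = a * (e * e) * b * e by group, he2, mul_one]]
          exact mul_mem ha (hn b hb)
        · left
          rw [show a * b = a * e * (e * (b * e) * e) by
            rw [show a * e * (e * (b * e) * e) = a * (e * e) * b * (e * e) by group, he2, mul_one,
              mul_one]]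
          exact mul_mem ha (hn _ hb)
      inv_mem' := by
        rintro a (ha | ha)
        · exact Or.inl (inv_mem ha)
        · right
          rw [show a⁻¹ * e = e * (a * e)⁻¹ * e by
            rw [mul_inv_rev, ← mul_assoc, mul_inv_cancel, one_mul]]
          exact hn _ (inv_mem ha) }
  let ρ : M →* G := σ.comp M.subtype
  have hρ : Function.Injective ρ := by
    rw [injective_iff_map_eq_one]
    rintro ⟨g, hg | hg⟩ (h : σ g = 1)
    · exact Subtype.ext (hD1 g hg h)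
    · exfalso
      have := Subgroup.mem_map_of_mem σ hg
      rw [hD, map_mul, h, one_mul, he] at this
      obtain ⟨k, hk, hkc⟩ := this
      exact hc (hf hkc ▸ hk)
  have hKD : ∀ k ∈ K, ∃ d ∈ D, σ d = f k := fun k hk =>
    Subgroup.mem_map.mp (hD ▸ Subgroup.mem_map_of_mem f hk)
  have hmem : ∀ p, f p ∈ ρ.range := by
    intro p
    by_cases hp : p ∈ K
    · obtain ⟨d, hd, h⟩ := hKD p hp
      exact ⟨⟨d, Or.inl hd⟩, h⟩
    · have hpc : p * c ∈ K := (Subgroup.mul_mem_iff_of_index_two hK).mpr (by tauto)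
      obtain ⟨d, hd, h⟩ := hKD _ hpc
      refine ⟨⟨d * e, Or.inr (by rwa [mul_assoc, he2, mul_one])⟩, ?_⟩
      show σ (d * e) = f p
      have hc2 : f c * f c = 1 := by rw [← he, ← map_mul, he2, map_one]
      rw [map_mul, h, he, map_mul, mul_assoc, hc2, mul_one]
  let s : P →* E :=
    M.subtype.comp ((MonoidHom.ofInjective hρ).symm.toMonoidHom.comp (f.codRestrict ρ.range hmem))
  have hs : ∀ p, σ (s p) = f p := fun p => by
    have h := congrArg Subtype.val
      ((MonoidHom.ofInjective hρ).apply_symm_apply (⟨f p, hmem p⟩ : ρ.range))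
    exact h
  have huniq : ∀ (p : P) (g : E) (hg : g ∈ M), σ g = f p → s p = g := fun p g hg h =>
    congrArg Subtype.val (hρ (a₁ := (⟨s p, SetLike.coe_mem _⟩ : M)) (a₂ := ⟨g, hg⟩) ((hs p).trans h.symm))
  refine ⟨s, MonoidHom.ext hs, huniq c e (Or.inr (by rw [he2]; exact D.one_mem)) he, fun k hk => ?_⟩
  obtain ⟨d, hd, h⟩ := hKD k hk
  rw [huniq k d (Or.inl hd) h]
  exact hd

end Lift

section Double

variable {R : Type*} [Monoid R] (ψ : P3 →* R) (hd : ψ d ≠ 1)
include ψ hd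

omit ψ hd in
theorem gC_notMem : gC ∉ sub := fun h => Pz_not_mem (by rw [mem_sub, π_C] at h; exact h)

theorem gB_mem : gB ∈ sub := by
  have hi := index_sub ψ hd
  have h2 : ∀ g : P3, g ^ 2 ∈ sub := fun g => by rw [sq]; exact Subgroup.mul_self_mem_of_index_two hi g
  have hw : gA⁻¹ * gB ^ 2 * gA * gB ^ 3 ∈ sub := by
    have e : gA⁻¹ * gB ^ 2 * gA * gB ^ 3 =
        (gA⁻¹ * gB ^ 2 * gA * gB ^ 3) ^ 3 * ((gA⁻¹ * gB ^ 2 * gA * gB ^ 3) ^ 2)⁻¹ := by group
    rw [e, rels_gen.r4, one_mul]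
    exact inv_mem (h2 _)
  have h3 : gB ^ 3 ∈ sub :=
    (Subgroup.mul_mem_cancel_left _ (mul_mem (mul_mem (inv_mem gA_mem) (h2 gB)) gA_mem)).mp hw
  have e : gB = gB ^ 3 * (gB ^ 2)⁻¹ := by group
  rw [e]
  exact mul_mem h3 (inv_mem (h2 gB))

theorem ker_toHS_le : toHS.ker ≤ Subgroup.center sub := (center_sub ψ hd).ge

theorem card_ker_toHS : Nat.card toHS.ker = 2 := center_sub ψ hd ▸ (cover ψ hd).1

theorem perfect_sub : ⁅sub, sub⁆ = sub := by
  have hL : commutator sub = ⊤ := by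
    have hm : (commutator sub).map toHS = ⊤ := by
      rw [commutator_def, Subgroup.map_commutator, Subgroup.map_top_of_surjective _ toHS_surjective,
        ← commutator_def, HSMultCover.perfect_Hp]
    rw [Subgroup.eq_top_iff']
    intro g
    obtain ⟨l, hl, hlg⟩ := (hm ▸ Subgroup.mem_top (toHS g) : toHS g ∈ (commutator sub).map toHS)
    have hk : l⁻¹ * g ∈ Subgroup.center sub := ker_toHS_le ψ hd (by
      rw [MonoidHom.mem_ker, map_mul, map_inv, hlg, inv_mul_cancel])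
    by_contra hne
    have hz : l⁻¹ * g ∉ commutator sub := fun h => hne (by
      have := mul_mem hl h
      rwa [mul_inv_cancel_left] at this)
    haveI : Finite (Subgroup.center sub) := Nat.finite_of_card_ne_zero (by rw [(cover ψ hd).1]; norm_num)
    have hdisj : ∀ z ∈ Subgroup.center sub, z ∈ commutator sub → z = 1 := fun z hzc hzl => by
      by_contra hz1
      obtain ⟨u, v, huv, huniv⟩ := Nat.card_eq_two_iff.mp (cover ψ hd).1
      have h1 : (⟨z, hzc⟩ : Subgroup.center sub) = ⟨l⁻¹ * g, hk⟩ := by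
        have ha := Set.eq_univ_iff_forall.mp huniv ⟨z, hzc⟩
        have hb := Set.eq_univ_iff_forall.mp huniv ⟨l⁻¹ * g, hk⟩
        have ho := Set.eq_univ_iff_forall.mp huniv 1
        have n1 : (⟨z, hzc⟩ : Subgroup.center sub) ≠ 1 := fun e => hz1 (congrArg Subtype.val e)
        have n2 : (⟨l⁻¹ * g, hk⟩ : Subgroup.center sub) ≠ 1 := fun e =>
          hz (by rw [show l⁻¹ * g = 1 from congrArg Subtype.val e]; exact one_mem _)
        simp only [Set.mem_insert_iff, Set.mem_singleton_iff] at ha hb ho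
        grind
      exact hz (by rw [← show z = l⁻¹ * g from congrArg Subtype.val h1]; exact hzl)
    refine (cover ψ hd).2.2 (commutator sub) (Subgroup.isComplement'_of_disjoint_and_mul_eq_univ
      (Subgroup.disjoint_def.mpr fun {z} hzc hzl => hdisj z hzc hzl) ?_)
    rw [Set.eq_univ_iff_forall]
    intro w
    obtain ⟨m, hm', hmw⟩ := (hm ▸ Subgroup.mem_top (toHS w) : toHS w ∈ (commutator sub).map toHS)
    have hc' : m⁻¹ * w ∈ Subgroup.center sub := ker_toHS_le ψ hd (by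
      rw [MonoidHom.mem_ker, map_mul, map_inv, hmw, inv_mul_cancel])
    refine ⟨m⁻¹ * w, hc', m, hm', ?_⟩
    show m⁻¹ * w * m = w
    rw [← Subgroup.mem_center_iff.mp hc' m, mul_inv_cancel_left]
  have := congrArg (Subgroup.map sub.subtype) hL
  rwa [Subgroup.map_subtype_commutator, ← MonoidHom.range_eq_map, Subgroup.range_subtype] at this

omit ψ hd in
theorem stem_le (Γ : Type) [Group Γ] [Finite Γ] (φ : Γ →* Hp) (hφ : IsStemExtension φ) :
    Nat.card φ.ker ≤ 2 := by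
  obtain ⟨π, hπ⟩ := HSMult.exists_onto hφ
  have := Nat.card_le_card_of_surjective π hπ
  rwa [Nat.card_congr Multiplicative.toAdd, Nat.card_zmod] at this

end Double

/-- The quotient map. -/
abbrev q : FreeGroup Spor.HN.Gen →* Spor.HN := HNTwoHSEmbed66.q

/-- The images of the three generators. -/
def im3 : Gen3 → Spor.HN
  | .a => q Spor.HN.x
  | .b => q Spor.HN.y
  | .c => q Spor.HN.z

theorem im3_rels : ∀ r ∈ ({r | r ∈ rels3} : Set (FreeGroup Gen3)), FreeGroup.lift im3 r = 1 := by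
  show ∀ r ∈ rels3, FreeGroup.lift im3 r = 1
  have h := HNTwoHSEmbed66.rels_HN
  simp only [rels3, List.forall_mem_cons, map_mul, map_pow, map_inv, FreeGroup.lift_apply_of, im3,
    List.not_mem_nil, false_implies, implies_true, and_true]
  exact ⟨h.r1, h.r2, h.r3, h.r4, h.r5, h.r6, h.r7, h.r8, h.r9, h.r10⟩

/-- The map from the double cover. -/
noncomputable def inc : P3 →* Spor.HN := PresentedGroup.toGroup im3_rels

theorem inc_A : inc gA = q Spor.HN.x := PresentedGroup.toGroup.of im3_rels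
theorem inc_B : inc gB = q Spor.HN.y := PresentedGroup.toGroup.of im3_rels
theorem inc_C : inc gC = q Spor.HN.z := PresentedGroup.toGroup.of im3_rels

section Stem

variable {E : Type} [Group E] [Finite E] (σ : E →* Spor.HN) (hσ : IsStemExtension σ)
include hσ

/-- Every finite stem extension is trivial. -/
theorem ker_eq_bot : σ.ker = ⊥ := by
  obtain ⟨hs, hc, hder⟩ := hσ
  have hA : ∀ a ∈ σ.ker, ∀ g : E, Commute a g := fun a ha g =>
    (Subgroup.mem_center_iff.mp (hc ha) g).symm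
  obtain ⟨R, _, ρ0, hx, hy⟩ := HNRep29.exists_rep
  let ψ : P3 →* R := ρ0.comp inc
  have hd : ψ d ≠ 1 := by
    rw [MonoidHom.comp_apply, d, map_pow, inc_A, ← map_pow q]; exact hx
  have hb : ψ (gB ^ 2) ≠ 1 := by
    rw [MonoidHom.comp_apply, map_pow, inc_B, ← map_pow q]; exact hy
  have hinj : Function.Injective inc := by
    rw [← MonoidHom.ker_eq_bot_iff]
    exact eq_bot_of_normal ψ hd hb inferInstance fun g hg => by
      rw [MonoidHom.comp_apply, MonoidHom.mem_ker.mp hg, map_one]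
  obtain ⟨D, hD, hD1, hDn⟩ := perfect_lift σ hs hc inc hinj sub toHS toHS_surjective
    (ker_toHS_le ψ hd) (perfect_sub ψ hd) fun Γ _ _ φ hφ =>
      (stem_le Γ φ hφ).trans (card_ker_toHS ψ hd).ge
  have hDeq : ∀ u ∈ D, ∀ v ∈ D, σ u = σ v → u = v := fun u hu v hv h =>
    inv_mul_eq_one.mp (hD1 _ (mul_mem (inv_mem hu) hv) (by rw [map_mul, map_inv, h, inv_mul_cancel]))
  have hlift : ∀ k ∈ sub, ∃ w ∈ D, σ w = inc k := fun k hk =>
    Subgroup.mem_map.mp (hD ▸ Subgroup.mem_map_of_mem inc hk)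
  obtain ⟨X, hXD, hX⟩ := hlift gA gA_mem
  obtain ⟨Y, hYD, hY⟩ := hlift gB (gB_mem ψ hd)
  rw [inc_A] at hX
  rw [inc_B] at hY
  have hR : ∀ r ∈ Spor.HN.extra, q r = 1 := fun r hr => PresentedGroup.one_of_mem (Or.inr hr)
  simp only [Spor.HN.extra, List.forall_mem_cons, map_mul, map_pow, map_inv, List.not_mem_nil,
    false_implies, implies_true, and_true] at hR
  obtain ⟨-, -, -, -, -, -, -, -, -, -, hr5, hrx, hry, hrz⟩ := hR
  obtain ⟨T, hT, hT5, hTX⟩ : ∃ T, σ T = q Spor.HN.t ∧ T ^ 5 = 1 ∧ X⁻¹ * T * X * T ^ 2 = 1 := by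
    obtain ⟨t0, ht0⟩ := hs (q Spor.HN.t)
    obtain ⟨a, ha'⟩ : ∃ a, a = t0 ^ 5 := ⟨_, rfl⟩
    obtain ⟨c, hc'⟩ : ∃ c, c = X⁻¹ * t0 * X * t0 ^ 2 := ⟨_, rfl⟩
    have ha : a ∈ σ.ker := by rw [MonoidHom.mem_ker, ha', map_pow, ht0, hr5]
    have hck : c ∈ σ.ker := by
      rw [MonoidHom.mem_ker, hc', map_mul, map_mul, map_mul, map_inv, map_pow, hX, ht0, hrx]
    have hc5 : c ^ 5 = a ^ 3 := by
      have h1 : X⁻¹ * t0 * X = c * (t0 ^ 2)⁻¹ := by rw [hc', mul_inv_cancel_right]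
      have h2 := congrArg (fun g => g ^ 5) h1
      simp only [(hA c hck _).mul_pow] at h2
      rw [conj_pow_inv, ← ha', mul_assoc, (hA a ha X).eq,
        inv_mul_cancel_left, show ((t0 ^ 2)⁻¹) ^ 5 = ((t0 ^ 5) ^ 2)⁻¹ by group, ← ha',
        eq_mul_inv_iff_mul_eq] at h2
      rw [← h2]; group
    obtain ⟨b, hb'⟩ : ∃ b, b = a * (c ^ 2)⁻¹ := ⟨_, rfl⟩
    have hbk : b ∈ σ.ker := hb' ▸ mul_mem ha (inv_mem (pow_mem hck 2))
    have hbn : ∀ n : ℕ, b ^ n = a ^ n * (c ^ (2 * n))⁻¹ := fun n => by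
      rw [hb', (hA a ha _).mul_pow, inv_pow, ← pow_mul]
    refine ⟨t0 * b, by rw [map_mul, ht0, MonoidHom.mem_ker.mp hbk, mul_one], ?_, ?_⟩
    · rw [(hA b hbk t0).symm.mul_pow, ← ha', hbn, show c ^ (2 * 5) = a ^ 6 by
        rw [show 2 * 5 = 5 * 2 by norm_num, pow_mul, hc5, ← pow_mul]]
      group
    · rw [(hA b hbk t0).symm.mul_pow, show X⁻¹ * (t0 * b) * X * (t0 ^ 2 * b ^ 2) =
          X⁻¹ * t0 * (b * (X * t0 ^ 2)) * b ^ 2 by group, (hA b hbk _).eq,
        show X⁻¹ * t0 * (X * t0 ^ 2 * b) * b ^ 2 = c * b ^ 3 by rw [hc']; group, hbn,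
        show 2 * 3 = 5 + 1 by norm_num, pow_succ c 5, mul_inv_rev, hc5, ← mul_assoc,
        (hA c hck _).eq, mul_assoc _ c, mul_inv_cancel_left, mul_inv_cancel]
  have hTY : T⁻¹ * Y⁻¹ * T * Y = 1 := by
    obtain ⟨c, hc'⟩ : ∃ c, c = T⁻¹ * Y⁻¹ * T * Y := ⟨_, rfl⟩
    have hck : c ∈ σ.ker := by
      rw [MonoidHom.mem_ker, hc', map_mul, map_mul, map_mul, map_inv, map_inv, hT, hY, hry]
    have hn : ∀ n : ℕ, (Y ^ n)⁻¹ * T * Y ^ n = T * c ^ n := by
      intro n
      induction n with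
      | zero => simp
      | succ n ih =>
        rw [pow_succ, show (Y ^ n * Y)⁻¹ * T * (Y ^ n * Y) = Y⁻¹ * ((Y ^ n)⁻¹ * T * Y ^ n) * Y by group,
          ih, show Y⁻¹ * (T * c ^ n) * Y = Y⁻¹ * T * (c ^ n * Y) by group,
          (hA _ (pow_mem hck n) Y).eq, show Y⁻¹ * T * (Y * c ^ n) = T * c * c ^ n by rw [hc']; group,
          pow_succ', mul_assoc]
    have h1 : c ^ 5 = 1 := by
      have h2 := hn 1
      rw [pow_one, pow_one] at h2
      have h3 := congrArg (fun g => g ^ 5) h2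
      simp only [(hA c hck T).symm.mul_pow, hT5, one_mul] at h3
      rw [← h3, conj_pow_inv, hT5]
      group
    have hY6 : Y ^ 6 = 1 := hD1 _ (pow_mem hYD 6) (by
      rw [map_pow, hY]; exact HNTwoHSEmbed66.rels_HN.r1)
    have h6 := hn 6
    rw [hY6, inv_one, one_mul, mul_one, left_eq_mul, pow_succ c 5, h1, one_mul] at h6
    rw [← hc', h6]
  obtain ⟨e, he, he2, heT⟩ :
      ∃ e, σ e = q Spor.HN.z ∧ e * e = 1 ∧ (e * T) ^ 3 = 1 := by
    obtain ⟨e0, he0⟩ := hs (q Spor.HN.z)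
    obtain ⟨α, hα'⟩ : ∃ α, α = e0 * e0 := ⟨_, rfl⟩
    obtain ⟨a, ha'⟩ : ∃ a, a = (e0 * T) ^ 3 := ⟨_, rfl⟩
    have hα : α ∈ σ.ker := by
      rw [MonoidHom.mem_ker, hα', map_mul, he0, ← sq]; exact HNTwoHSEmbed66.rels_HN.r7
    have ha : a ∈ σ.ker := by rw [MonoidHom.mem_ker, ha', map_pow, map_mul, he0, hT, hrz]
    have hnorm : ∀ k ∈ sub, σ e0 * inc k * (σ e0)⁻¹ ∈ sub.map inc := fun k hk => by
      rw [he0, ← inc_C, ← map_inv inc, ← map_mul inc, ← map_mul inc]
      exact Subgroup.mem_map_of_mem inc ((normal_sub ψ hd).conj_mem k hk gC)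
    have hX2 : e0 * X ^ 2 * e0⁻¹ = X ^ 2 := hDeq _ (hDn e0 hnorm _ (pow_mem hXD 2)) _ (pow_mem hXD 2) (by
      rw [map_mul, map_mul, map_inv, map_pow, he0, hX, ← inc_A, ← inc_C, ← map_pow, ← map_mul, ← map_inv,
        ← map_mul, show gA ^ 2 = d from rfl, d_comm gC, mul_inv_cancel_right])
    have hTX2 : (X ^ 2)⁻¹ * T * X ^ 2 = T⁻¹ := by
      have h1 : X⁻¹ * T * X = (T ^ 2)⁻¹ := eq_inv_of_mul_eq_one_left hTX
      calc (X ^ 2)⁻¹ * T * X ^ 2 = X⁻¹ * (X⁻¹ * T * X) * X := by simp only [sq]; group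
        _ = ((X⁻¹ * T * X) ^ 2)⁻¹ := by rw [conj_pow_inv, h1]; group
        _ = T ^ 5 * T⁻¹ := by rw [h1]; group
        _ = T⁻¹ := by rw [hT5, one_mul]
    have h2 : a ^ 2 = α ^ 3 := by
      have hconj : (X ^ 2)⁻¹ * e0 * X ^ 2 = e0 := by
        rw [mul_inv_eq_iff_eq_mul] at hX2
        rw [mul_assoc, hX2, inv_mul_cancel_left]
      have h3 : (e0 * T⁻¹) ^ 3 = a := by
        rw [← hTX2]
        calc (e0 * ((X ^ 2)⁻¹ * T * X ^ 2)) ^ 3
            = ((X ^ 2)⁻¹ * e0 * X ^ 2 * ((X ^ 2)⁻¹ * T * X ^ 2)) ^ 3 := by rw [hconj]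
          _ = (X ^ 2)⁻¹ * ((e0 * T) ^ 3 * X ^ 2) := by
            rw [show (X ^ 2)⁻¹ * e0 * X ^ 2 * ((X ^ 2)⁻¹ * T * X ^ 2) = (X ^ 2)⁻¹ * (e0 * T) * X ^ 2 by group,
              conj_pow_inv, mul_assoc]
          _ = a := by rw [← ha', (hA a ha _).eq, inv_mul_cancel_left]
      have h4 : (T * e0 * α⁻¹) ^ 3 = a⁻¹ := by
        rw [← h3, hα', show T * e0 * (e0 * e0)⁻¹ = (e0 * T⁻¹)⁻¹ by group, inv_pow]
      rw [(hA _ (inv_mem hα) _).symm.mul_pow, show (T * e0) ^ 3 = e0⁻¹ * ((e0 * T) ^ 3 * e0) by rw [← mul_assoc, ← conj_pow_inv]; group,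
        ← ha', (hA a ha _).eq, inv_mul_cancel_left, inv_pow, mul_inv_eq_iff_eq_mul,
        eq_inv_mul_iff_mul_eq, ← sq] at h4
      exact h4
    obtain ⟨b, hb'⟩ : ∃ b, b = α * a⁻¹ := ⟨_, rfl⟩
    have hbk : b ∈ σ.ker := hb' ▸ mul_mem hα (inv_mem ha)
    refine ⟨e0 * b, by rw [map_mul, he0, MonoidHom.mem_ker.mp hbk, mul_one], ?_, ?_⟩
    · rw [← sq, (hA b hbk e0).symm.mul_pow, sq e0, ← hα', hb', (hA α hα _).mul_pow, inv_pow,
        ← mul_assoc, ← pow_succ', h2, mul_inv_cancel]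
    · rw [mul_assoc, (hA b hbk T).eq, ← mul_assoc, (hA b hbk _).symm.mul_pow, ← ha', hb',
        (hA α hα _).mul_pow, ← h2, inv_pow]
      group
  have hnorm : ∀ k ∈ sub, σ e * inc k * (σ e)⁻¹ ∈ sub.map inc := fun k hk => by
    rw [he, ← inc_C, ← map_inv inc, ← map_mul inc, ← map_mul inc]
    exact Subgroup.mem_map_of_mem inc ((normal_sub ψ hd).conj_mem k hk gC)
  obtain ⟨s, hs1, hsC, hsD⟩ := exists_section σ inc hinj sub (index_sub ψ hd) D hD hD1 gC_notMem
    (he.trans inc_C.symm) he2 (hDn e hnorm)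
  have hsA : s gA = X := hDeq _ (hsD _ gA_mem) _ hXD (by
    rw [hX, ← inc_A]; exact DFunLike.congr_fun hs1 gA)
  have hsB : s gB = Y := hDeq _ (hsD _ (gB_mem ψ hd)) _ hYD (by
    rw [hY, ← inc_B]; exact DFunLike.congr_fun hs1 gB)
  have h10 := rels_gen.map s
  rw [hsA, hsB, hsC] at h10
  let im : Spor.HN.Gen → E := fun g => match g with | .x => X | .y => Y | .z => e | .t => T
  have hrel : ∀ r ∈ Spor.coxRelators Spor.HN.edges ∪ {r | r ∈ Spor.HN.extra},
      FreeGroup.lift im r = 1 := by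
    rintro r (⟨a, ha, -⟩ | hr)
    · simp [Spor.coxNodes, Spor.HN.edges] at ha
    revert hr
    show r ∈ Spor.HN.extra → FreeGroup.lift im r = 1
    revert r
    simp only [Spor.HN.extra, List.forall_mem_cons, map_mul, map_pow, map_inv, FreeGroup.lift_apply_of,
      im, List.not_mem_nil, false_implies, implies_true, and_true]
    exact ⟨h10.r1, h10.r2, h10.r3, h10.r4, h10.r5, h10.r6, h10.r7, h10.r8, h10.r9, h10.r10, hT5, hTX,
      hTY, heT⟩
  let S : Spor.HN →* E := PresentedGroup.toGroup hrel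
  have hid : ∀ g, σ (S g) = g := by
    have : σ.comp S = MonoidHom.id Spor.HN := by
      refine PresentedGroup.ext fun g => ?_
      show σ (S (PresentedGroup.of g)) = PresentedGroup.of g
      rw [show S (PresentedGroup.of g) = im g from PresentedGroup.toGroup.of hrel]
      cases g
      exacts [hX, hY, he, hT]
    exact fun g => DFunLike.congr_fun this g
  rw [Subgroup.eq_bot_iff_forall]
  intro a ha
  have hle : commutator E ≤ S.range := by
    rw [commutator_def, Subgroup.commutator_le]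
    intro u _ v _
    have hu : (S (σ u))⁻¹ * u ∈ σ.ker := by rw [MonoidHom.mem_ker, map_mul, map_inv, hid, inv_mul_cancel]
    have hv : (S (σ v))⁻¹ * v ∈ σ.ker := by rw [MonoidHom.mem_ker, map_mul, map_inv, hid, inv_mul_cancel]
    refine ⟨⁅σ u, σ v⁆, ?_⟩
    rw [map_commutatorElement]
    generalize S (σ u) = u' at hu ⊢
    generalize S (σ v) = v' at hv ⊢
    obtain ⟨p, hp⟩ : ∃ p, p = u'⁻¹ * u := ⟨_, rfl⟩
    obtain ⟨w, hw⟩ : ∃ w, w = v'⁻¹ * v := ⟨_, rfl⟩
    rw [show u = u' * p by rw [hp]; group, show v = v' * w by rw [hw]; group]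
    rw [← hp] at hu
    rw [← hw] at hv
    simp only [commutatorElement_def, mul_inv_rev]
    calc u' * v' * u'⁻¹ * v'⁻¹ = u' * v' * (u'⁻¹ * w) * (w⁻¹ * v'⁻¹) := by group
      _ = u' * v' * (w * u'⁻¹) * (w⁻¹ * v'⁻¹) := by rw [(hA w hv _).eq]
      _ = u' * (v' * w * p) * (p⁻¹ * u'⁻¹) * (w⁻¹ * v'⁻¹) := by group
      _ = u' * p * (v' * w) * (p⁻¹ * u'⁻¹) * (w⁻¹ * v'⁻¹) := by rw [← (hA p hu _).eq]; group
  obtain ⟨g, rfl⟩ := hle (hder ha)
  rw [← MonoidHom.mem_ker.mp ha, hid] at *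
  simp_all

end Stem

/-- The multiplier is trivial once the group is finite. -/
theorem multiplier [Finite Spor.HN] : HasCyclicSchurMultiplier Spor.HN 1 := by
  refine ⟨⟨Spor.HN, inferInstance, inferInstance, MonoidHom.id _, ⟨Function.surjective_id, ?_, ?_⟩, ?_⟩,
    fun Γ _ _ σ hσ => ⟨1, ?_⟩⟩
  · rw [MonoidHom.ker_id]; exact bot_le
  · rw [MonoidHom.ker_id]; exact bot_le
  · rw [MonoidHom.ker_id]
    exact ⟨MulEquiv.ofUnique⟩
  · haveI : Subsingleton σ.ker := by rw [ker_eq_bot σ hσ]; infer_instance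
    exact fun z => ⟨1, Subsingleton.elim _ _⟩

end Cfsg.Agent.HNMult52
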