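import Cfsg.Agent.Lib.HNTwoHSEmbed66
import Cfsg.Agent.Lib.HNRep29
import Cfsg.Prelude.Def_Sporadic

/-!
Simplicity of the presented Harada-Norton group from the maximality of the subgroup generated by the
first three generators, the triviality of its core, and the order.
-/

set_option autoImplicit false
set_option linter.style.haveILetI false

namespace Cfsg.Agent.HNSimple63

open Cfsg Cfsg.Spor Cfsg.Agent.HNTwoHSRels66 Cfsg.Agent.HNTwoHSEmbed66 Cfsg.Agent.HNTwoHSPerm66
open Cfsg.Agent.HSPerm Cfsg.Agent.HNTwoHSGroup66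

/-- The subgroup generated by the first three generators. -/
abbrev H : Subgroup HN := (Subgroup.closure ({HN.x, HN.y, HN.z} : Set (FreeGroup HN.Gen))).map q

/-- Every abelian image of the presented group is trivial. -/
theorem abelian_image {A : Type*} [CommGroup A] (f : HN →* A) (g : HN) : f g = 1 := by
  have h : ∀ r ∈ HN.extra, (f.comp q) r = 1 := fun r hr => by
    rw [MonoidHom.comp_apply, q, PresentedGroup.one_of_mem (Or.inr hr), map_one]
  simp only [HN.extra, List.forall_mem_cons, map_mul, map_pow, map_inv, List.not_mem_nil,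
    false_implies, implies_true, and_true, MonoidHom.comp_apply] at h
  obtain ⟨r1, r2, -, r4, r5, -, r7, r8, -, r10, r11, r12, -, r14⟩ := h
  set a := f (q HN.x) with hadef
  set b := f (q HN.y) with hbdef
  set c := f (q HN.z) with hcdef
  set e := f (q HN.t) with hedef
  have ha2 : a ^ 2 = 1 := by
    rw [mul_pow, r7, one_mul] at r8
    exact r8
  have h4 : a⁻¹ * b ^ 2 * a * b ^ 3 = b ^ 5 := by
    rw [mul_comm a⁻¹ (b ^ 2), inv_mul_cancel_right, ← pow_add]
  rw [h4, ← pow_mul] at r4
  have hb3 : b ^ 3 = 1 := by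
    rw [show 5 * 3 = 6 * 2 + 3 from rfl, pow_add, pow_mul, r1, one_pow, one_mul] at r4
    exact r4
  have hb8 : b ^ 8 = 1 := by
    rw [mul_pow, show 8 = 2 * 4 from rfl, pow_mul a, ha2, one_pow, one_mul] at r5
    exact r5
  have hb : b = 1 := by
    rw [show 8 = 3 * 2 + 2 from rfl, pow_add, pow_mul, hb3, one_pow, one_mul] at hb8
    rw [show 3 = 2 + 1 from rfl, pow_add, hb8, one_mul, pow_one] at hb3
    exact hb3
  have ha : a = 1 := by
    rw [hb] at r10
    simp only [one_pow, one_mul, mul_one] at r10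
    rw [mul_comm (a * a)⁻¹ c, inv_mul_cancel_right, mul_pow] at r10
    have h3 : c * c ^ 3 = 1 := by
      rw [← pow_succ', show 3 + 1 = 2 * 2 from rfl, pow_mul, r7, one_pow]
    rw [← mul_assoc, h3, one_mul, pow_succ, ha2, one_mul] at r10
    exact r10
  have he : e = 1 := by
    rw [ha, inv_one, one_mul, mul_one, ← pow_succ'] at r12
    rw [show 5 = (2 + 1) + 2 from rfl, pow_add, r12, one_mul] at r11
    rw [pow_succ, r11, one_mul] at r12
    exact r12
  have hc : c = 1 := by
    rw [he, mul_one, pow_succ, r7, one_mul] at r14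
    exact r14
  have hg : f = 1 := by
    refine PresentedGroup.ext fun v => ?_
    cases v
    exacts [ha, hb, hc, he]
  rw [hg]; rfl

theorem commutator_eq_top : commutator HN = ⊤ := by
  rw [eq_top_iff]
  intro g _
  have h := abelian_image (Abelianization.of : HN →* Abelianization HN) g
  rwa [← MonoidHom.mem_ker, Abelianization.ker_of] at h

/-- The natural map of the universal group. -/
def gen3 : Gen3 → HN
  | .a => q HN.x
  | .b => q HN.y
  | .c => q HN.z

theorem gen3_rels : ∀ r ∈ ({r | r ∈ rels3} : Set (FreeGroup Gen3)), FreeGroup.lift gen3 r = 1 := by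
  show ∀ r ∈ rels3, FreeGroup.lift gen3 r = 1
  have h := rels_HN
  simp only [rels3, List.forall_mem_cons, map_mul, map_pow, map_inv, FreeGroup.lift_apply_of, gen3,
    List.not_mem_nil, false_implies, implies_true, and_true]
  exact ⟨h.r1, h.r2, h.r3, h.r4, h.r5, h.r6, h.r7, h.r8, h.r9, h.r10⟩

/-- The map of the universal group onto the subgroup. -/
def toH : P3 →* HN := PresentedGroup.toGroup gen3_rels

theorem d_not_one : d ≠ 1 := by
  obtain ⟨R, _, ρ, hx, -⟩ := HNRep29.exists_rep
  intro h
  apply hx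
  have h1 : toH gA = q HN.x := PresentedGroup.toGroup.of gen3_rels
  rw [map_pow q, ← h1, ← map_pow toH]
  change ρ (toH d) = 1
  rw [h, map_one, map_one]

/-- The kernel of the action on one hundred points is central. -/
theorem ker_central {k : P3} (hk : π k = 1) (g : P3) : g * k = k * g := by
  rcases (card_data (MonoidHom.id P3) d_not_one).2 k hk with h | h
  · rw [h, mul_one, one_mul]
  · rw [h]; exact d_comm g

theorem index_Hp : (Hp.subgroupOf π.range).index = 2 := by
  have h1 := index_sub (MonoidHom.id P3) d_not_one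
  rw [sub, Subgroup.index_comap] at h1
  exact h1

theorem normal_Hp : (Hp.subgroupOf π.range).Normal := Subgroup.normal_of_index_eq_two index_Hp

/-- A perfect quotient of the universal group is trivial. -/
theorem perfect_image {Q : Type*} [Group Q] (f : P3 →* Q) (hf : Function.Surjective f)
    (hQ : commutator Q = ⊤) (w : Q) : w = 1 := by
  have hzero : ∀ {A : Type} [CommGroup A] (s : Q →* A) (v : Q), s v = 1 := fun {A} _ s v => by
    have h : commutator Q ≤ s.ker := Abelianization.commutator_subset_ker s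
    exact MonoidHom.mem_ker.mp (h (hQ ▸ Subgroup.mem_top v))
  -- some element of the kernel lies outside the subgroup of index two
  have hm : ∃ m, f m = 1 ∧ π m ∉ Hp := by
    by_contra hcon
    push Not at hcon
    have hle : f.ker ≤ (Equiv.Perm.sign.comp π).ker := fun m hm =>
      HSMultCover.sign_eq_one (π m) (hcon m hm)
    let s : Q →* ℤˣ := f.liftOfSurjective hf ⟨Equiv.Perm.sign.comp π, hle⟩
    have hs : s (f gC) = Equiv.Perm.sign (π gC) :=
      f.liftOfRightInverse_comp_apply _ (Function.rightInverse_surjInv hf) _ _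
    rw [hzero s (f gC), π_C, sign_Pz] at hs
    exact absurd hs (by decide)
  obtain ⟨m, hm, hmH⟩ := hm
  haveI := simple_Hp
  let Im : Subgroup Hp := (f.ker.map π).subgroupOf Hp
  have hImN : Im.Normal := ⟨by
    rintro ⟨n, hn'⟩ ⟨k, hk, hkn⟩ ⟨h, hh⟩
    obtain ⟨g, hg⟩ := Hp_le hh
    refine ⟨g * k * g⁻¹, (MonoidHom.normal_ker f).conj_mem k hk g, ?_⟩
    rw [map_mul, map_mul, map_inv, hg, hkn]
    rfl⟩
  rcases Subgroup.Normal.eq_bot_or_eq_top hImN with h | h
  · refine absurd ?_ hmH
    rw [show π m = 1 from centralizer_Hp fun a ha => ?_]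
    · exact one_mem _
    obtain ⟨g, rfl⟩ := Hp_le ha
    have h1 : π (g * m * g⁻¹ * m⁻¹) ∈ f.ker.map π :=
      Subgroup.mem_map_of_mem π (mul_mem ((MonoidHom.normal_ker f).conj_mem m hm g) (inv_mem hm))
    have h2 : π (g * m * g⁻¹ * m⁻¹) ∈ Hp := by
      have hg' : (⟨π g, ⟨g, rfl⟩⟩ : π.range) ∈ Hp.subgroupOf π.range := ha
      have hc := normal_Hp.conj_mem _ (inv_mem hg') ⟨π m, ⟨m, rfl⟩⟩
      have := mul_mem ha (show π m * (π g)⁻¹ * (π m)⁻¹ ∈ Hp from hc)
      rw [map_mul, map_mul, map_mul, map_inv, map_inv]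
      rwa [← mul_assoc, ← mul_assoc] at this
    have h3 : (⟨_, h2⟩ : Hp) ∈ Im := h1
    rw [h, Subgroup.mem_bot] at h3
    have h4 : π (g * m * g⁻¹ * m⁻¹) = 1 := congrArg Subtype.val h3
    rw [map_mul, map_mul, map_mul, map_inv, map_inv, mul_inv_eq_one, mul_inv_eq_iff_eq_mul] at h4
    exact h4
  · -- the kernel covers the simple group, so the quotient is generated by a central image and `f m`
    have hsub : ∀ g, π g ∈ Hp → ∀ v, f g * v = v * f g := by
      intro g hg v
      have : (⟨π g, hg⟩ : Hp) ∈ Im := h ▸ Subgroup.mem_top _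
      obtain ⟨k, hk, hkg⟩ := this
      have hz : π (k⁻¹ * g) = 1 := by rw [map_mul, map_inv, hkg]; exact inv_mul_cancel _
      obtain ⟨u, rfl⟩ := hf v
      have hcm := congrArg f (ker_central hz u)
      rw [map_mul f, map_mul f (k⁻¹ * g), map_mul f k⁻¹, map_inv, MonoidHom.mem_ker.mp hk, inv_one,
        one_mul] at hcm
      exact hcm.symm
    have hall : ∀ u v : Q, u * v = v * u := by
      intro u v
      obtain ⟨g, rfl⟩ := hf u
      by_cases hg : π g ∈ Hp
      · exact hsub g hg v
      · have h1 : π (g * m) ∈ Hp := by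
          rw [map_mul]
          have := (Subgroup.mul_mem_iff_of_index_two index_Hp (a := ⟨π g, ⟨g, rfl⟩⟩)
            (b := ⟨π m, ⟨m, rfl⟩⟩)).mpr ⟨fun h => absurd h hg, fun h => absurd h hmH⟩
          exact this
        have h2 := hsub _ h1 v
        rwa [map_mul, hm, mul_one] at h2
    have hbot : commutator Q = ⊥ := by
      rw [commutator_eq_bot_iff_center_eq_top, eq_top_iff]
      exact fun u _ => Subgroup.mem_center_iff.mpr fun v => hall v u
    have : w ∈ (⊥ : Subgroup Q) := hbot ▸ hQ.symm ▸ Subgroup.mem_top w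
    exact this

theorem H_le_range : H ≤ toH.range := by
  rw [H, MonoidHom.map_closure, Subgroup.closure_le]
  rintro _ ⟨w, rfl | rfl | rfl, rfl⟩
  exacts [⟨gA, PresentedGroup.toGroup.of gen3_rels⟩, ⟨gB, PresentedGroup.toGroup.of gen3_rels⟩,
    ⟨gC, PresentedGroup.toGroup.of gen3_rels⟩]

theorem normal_eq_bot_or_top (hmax : IsCoatom H) (hcore : H.normalCore = ⊥) (N : Subgroup HN)
    (hN : N.Normal) : N = ⊥ ∨ N = ⊤ := by
  by_cases hNH : N ≤ H
  · left
    exact le_bot_iff.mp (hcore ▸ Subgroup.normal_le_normalCore.mpr hNH)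
  right
  have hsup : H ⊔ N = ⊤ := hmax.2 _ (lt_of_le_not_ge le_sup_left fun h => hNH (le_sup_right.trans h))
  let f : P3 →* HN ⧸ N := (QuotientGroup.mk' N).comp toH
  have hf : Function.Surjective f := by
    intro v
    obtain ⟨g, rfl⟩ := QuotientGroup.mk'_surjective N v
    have hg : g ∈ ((H ⊔ N : Subgroup HN) : Set HN) := by rw [hsup]; exact Subgroup.mem_top g
    rw [Subgroup.mul_normal] at hg
    obtain ⟨a, ha, n, hn, rfl⟩ := hg
    obtain ⟨u, rfl⟩ := H_le_range ha
    refine ⟨u, ?_⟩
    show QuotientGroup.mk' N (toH u) = QuotientGroup.mk' N (toH u * n)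
    rw [map_mul, QuotientGroup.mk'_apply N n, (QuotientGroup.eq_one_iff n).mpr hn, mul_one]
  have hperf : commutator (HN ⧸ N) = ⊤ := by
    rw [commutator_def, ← Subgroup.map_top_of_surjective _ (QuotientGroup.mk'_surjective N),
      ← Subgroup.map_commutator, ← commutator_def, commutator_eq_top]
  rw [eq_top_iff]
  intro g _
  exact (QuotientGroup.eq_one_iff g).mp (perfect_image f hf hperf _)

theorem isSimpleGroup [Nontrivial HN] (hmax : IsCoatom H) (hcore : H.normalCore = ⊥) :
    IsSimpleGroup HN :=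
  ⟨fun N hN => normal_eq_bot_or_top hmax hcore N hN⟩

/-- The presented group is the Harada-Norton group, given its order and the facts about the subgroup. -/
theorem isHN_of_data (hf : Finite HN) (hcard : Nat.card HN = 273030912000000) (_hidx : H.index = 1539000)
    (hmax : IsCoatom H) (hcore : H.normalCore = ⊥) : IsHN HN := by
  haveI : Nontrivial HN := Finite.one_lt_card_iff_nontrivial.mp (by rw [hcard]; norm_num)
  exact ⟨isSimpleGroup hmax hcore, hcard⟩

end Cfsg.Agent.HNSimple63
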