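import Cfsg.Agent.Lib.HNOutPerm16
import Cfsg.Agent.Lib.HNSimple63

/-!
Changing the three generators of the double cover by the central involution; the elements with the same
action on one hundred points as the generators; recognition of a map from three elements.
-/

set_option autoImplicit false
set_option maxRecDepth 100000

namespace Cfsg.Agent.HNOut16

open Cfsg.Agent.HNTwoHSRels66 Cfsg.Agent.HNTwoHSGroup66 Cfsg.Agent.HNOutData16

/-- Signs. -/
abbrev S2 : Type := Multiplicative (ZMod 2)

/-- Multiplying by a power of the central involution. -/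
noncomputable def shift : P3 × S2 →* P3 where
  toFun p := p.1 * if p.2 = 1 then 1 else d
  map_one' := by simp
  map_mul' := by
    rintro ⟨a, s⟩ ⟨b, t⟩
    have hs : ∀ v : S2, v = 1 ∨ v = Multiplicative.ofAdd 1 := by decide
    have h1 : (Multiplicative.ofAdd 1 : S2) ≠ 1 := by decide
    have h2 : (Multiplicative.ofAdd 1 : S2) * Multiplicative.ofAdd 1 = 1 := by decide
    rcases hs s with rfl | rfl <;> rcases hs t with rfl | rfl <;>
      simp only [Prod.mk_mul_mk, one_mul, mul_one, h1, h2, if_true, if_false]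
    · simp only [mul_assoc]
    · rw [mul_assoc a d b, ← d_comm b, mul_assoc]
    · rw [show a * d * (b * d) = a * (d * b) * d by group, ← d_comm b,
        show a * (b * d) * d = a * b * (d * d) by group, d_sq, mul_one]

theorem shift_fst (p : P3) : shift (p, 1) = p := by simp [shift]

theorem shift_d (p : P3) : shift (p, Multiplicative.ofAdd 1) = p * d := by
  simp only [shift, MonoidHom.coe_mk, OneHom.coe_mk, show (Multiplicative.ofAdd 1 : S2) ≠ 1 by decide, if_false]

theorem exists_shift {a b : P3} (h : a = b ∨ a = b * d) : ∃ s : S2, a = shift (b, s) := by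
  rcases h with h | h
  · exact ⟨1, by rw [shift_fst, h]⟩
  · exact ⟨Multiplicative.ofAdd 1, by rw [shift_d, h]⟩

/-- A twist satisfying the relations does not move the first two generators. -/
theorem twist_signs {a b c : S2} (h : Rels (shift (gA, a)) (shift (gB, b)) (shift (gC, c))) : a = 1 ∧ b = 1 := by
  have key : ∀ s : S2, shift ((1 : P3), s) = 1 → s = 1 := by
    intro s hs
    by_contra hne
    simp only [shift, MonoidHom.coe_mk, OneHom.coe_mk, hne, if_false, one_mul] at hs
    exact HNSimple63.d_not_one hs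
  have h4 := h.r4
  have h10 := h.r10
  simp only [← map_mul, ← map_pow, ← map_inv, Prod.inv_mk, Prod.mk_mul_mk, Prod.pow_mk] at h4 h10
  rw [rels_gen.r4] at h4
  rw [rels_gen.r10] at h10
  have d4 : ∀ a b : S2, (a⁻¹ * b ^ 2 * a * b ^ 3) ^ 3 = 1 → b = 1 := by decide
  have d10 : ∀ a b c : S2, c * (((b ^ 3 * a * b * a * b)⁻¹ * c * (b ^ 3 * a * b * a * b)) * a) ^ 3 = 1 → a = 1 := by
    decide
  exact ⟨d10 a b c (key _ h10), d4 a b (key _ h4)⟩

/-- The relations hold with the third generator twisted. -/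
theorem twist_rels : Rels gA gB (gC * d) := by
  have e : Rels ((1 : S2)) 1 (Multiplicative.ofAdd 1) := by constructor <;> decide
  have h : Rels (shift (gA, 1)) (shift (gB, 1)) (shift (gC, Multiplicative.ofAdd 1)) := by
    constructor <;>
      simp only [← map_mul, ← map_pow, ← map_inv, Prod.inv_mk, Prod.mk_mul_mk, Prod.pow_mk]
    · rw [rels_gen.r1, e.r1]; exact map_one shift
    · rw [rels_gen.r2, e.r2]; exact map_one shift
    · rw [rels_gen.r3, e.r3]; exact map_one shift
    · rw [rels_gen.r4, e.r4]; exact map_one shift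
    · rw [rels_gen.r5, e.r5]; exact map_one shift
    · rw [rels_gen.r6, e.r6]; exact map_one shift
    · rw [rels_gen.r7, e.r7]; exact map_one shift
    · rw [rels_gen.r8, e.r8]; exact map_one shift
    · rw [rels_gen.r9, e.r9]; exact map_one shift
    · rw [rels_gen.r10, e.r10]; exact map_one shift
  rwa [shift_fst, shift_fst, shift_d] at h

/-! ### three elements determine the action -/

open HNOutPerm16 in
/-- The codes: the element of order seven, its inverse, and the two involutions. -/
noncomputable def CE : ℕ → P3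
  | 0 => g
  | 1 => g⁻¹
  | 2 => u
  | _ => c

/-- The value of a code. -/
noncomputable def code (l : List ℕ) : P3 := (l.map CE).prod

/-- The table of a letter of a code. -/
def ceTab (a i : ℕ) : ℕ :=
  if a = 0 then HNOutPerm16.ev gP i else if a = 1 then HNOutPerm16.iterG 6 i else
    if a = 2 then HNOutPerm16.ev uP i else HNOutPerm16.ev cP i

/-- The table of a code. -/
def runC (l : List ℕ) (i : ℕ) : ℕ := l.foldr ceTab i

theorem g_inv_tab : ∀ i : Fin 100, HNOutPerm16.ev gP (HNOutPerm16.iterG 6 i) = i := by decide +kernel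

theorem π_CE : ∀ (a : ℕ) (i : Fin 100), (π (CE a) i : ℕ) = ceTab a i
  | 0, i => HNOutPerm16.π_g i
  | 1, i => by
    have e : π (CE 1) i = (π HNOutPerm16.g ^ 6) i := by
      show π HNOutPerm16.g⁻¹ i = _
      rw [map_inv, Equiv.Perm.inv_eq_iff_eq]
      refine Fin.ext ?_
      rw [HNOutPerm16.π_g, HNOutPerm16.π_g_pow, g_inv_tab]
    rw [e, HNOutPerm16.π_g_pow]
    rfl
  | 2, i => HNOutPerm16.π_u i
  | n + 3, i => HNOutPerm16.π_c i

theorem π_code : ∀ (l : List ℕ) (i : Fin 100), (π (code l) i : ℕ) = runC l i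
  | [], i => by simp [code, runC]
  | a :: l, i => by
    rw [code, List.map_cons, List.prod_cons, map_mul, Equiv.Perm.mul_apply, π_CE, ← code, π_code l i]
    rfl

theorem codeX_tab : ∀ i : Fin 100, runC codeX i = HNOutPerm16.ev (letters.getD 0 0) i := by decide +kernel
theorem codeY_tab : ∀ i : Fin 100, runC codeY i = HNOutPerm16.ev (letters.getD 2 0) i := by decide +kernel
theorem codeZ_tab : ∀ i : Fin 100, runC codeZ i = HNOutPerm16.ev (letters.getD 4 0) i := by decide +kernel

theorem π_of_tab {l : List ℕ} {a : ℕ} (ha : a < 5)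
    (hl : ∀ i : Fin 100, runC l i = HNOutPerm16.ev (letters.getD a 0) i) : π (code l) = π (HNOutPerm16.E a) :=
  Equiv.ext fun i => Fin.ext (by rw [π_code, hl, HNOutPerm16.π_E, if_pos ha])

/-- A map agreeing on the three elements agrees on the generators. -/
theorem agree_gens (ψ : P3 →* P3) (hπ : ∀ a b, π a = π b → π (ψ a) = π (ψ b))
    (h : π (ψ HNOutPerm16.g) = π HNOutPerm16.g ∧ π (ψ HNOutPerm16.u) = π HNOutPerm16.u ∧
      π (ψ HNOutPerm16.c) = π HNOutPerm16.c) :
    π (ψ gA) = π gA ∧ π (ψ gB) = π gB ∧ π (ψ gC) = π gC := by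
  have hCE : ∀ a, π (ψ (CE a)) = π (CE a)
    | 0 => h.1
    | 1 => by
      show π (ψ HNOutPerm16.g⁻¹) = π HNOutPerm16.g⁻¹
      rw [map_inv ψ, map_inv, h.1, map_inv]
    | 2 => h.2.1
    | n + 3 => h.2.2
  have hcode : ∀ l, π (ψ (code l)) = π (code l) := by
    intro l
    induction l with
    | nil => simp [code]
    | cons a l ih =>
      rw [code, List.map_cons, List.prod_cons, map_mul ψ, map_mul, map_mul, hCE, ← code, ih]
  have key : ∀ {l : List ℕ} {a : ℕ}, a < 5 →
      (∀ i : Fin 100, runC l i = HNOutPerm16.ev (letters.getD a 0) i) →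
      π (ψ (HNOutPerm16.E a)) = π (HNOutPerm16.E a) := fun {l a} ha hl => by
    rw [hπ _ _ (π_of_tab ha hl).symm, hcode, π_of_tab ha hl]
  exact ⟨key (a := 0) (by norm_num) codeX_tab, key (a := 2) (by norm_num) codeY_tab,
    key (a := 4) (by norm_num) codeZ_tab⟩

theorem powFix_u : HNOutPerm16.powFix (fun i => HNOutPerm16.ev uP (HNOutPerm16.ev cP i)) 3 = true := by
  decide +kernel
theorem powFix_g : HNOutPerm16.powFix (fun i => HNOutPerm16.ev gP (HNOutPerm16.ev cP i)) 20 = true := by
  decide +kernel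
theorem powFix_gu : HNOutPerm16.powFix
    (fun i => HNOutPerm16.ev gP (HNOutPerm16.ev uP (HNOutPerm16.ev cP i))) 12 = true := by
  decide +kernel

theorem pow_one_of_powFix {σ : Equiv.Perm (Fin 100)} {f : ℕ → ℕ} (hf : ∀ i : Fin 100, (σ i : ℕ) = f i)
    {n : ℕ} (h : HNOutPerm16.powFix f n = true) : σ ^ n = 1 := by
  simp only [HNOutPerm16.powFix, List.all_eq_true, List.mem_range, Nat.beq_eq] at h
  have e : ∀ m (i : Fin 100), ((σ ^ m) i : ℕ) = f^[m] i := by
    intro m i
    induction m with
    | zero => rfl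
    | succ m ih => rw [pow_succ', Equiv.Perm.mul_apply, hf, Function.iterate_succ_apply', ih]
  exact Equiv.ext fun i => Fin.ext (by rw [e, h i i.2]; rfl)

open HNOutPerm16 in
theorem orders : π ((u * c) ^ 3) = 1 ∧ π ((g * c) ^ 20) = 1 ∧ π ((g * u * c) ^ 12) = 1 := by
  refine ⟨?_, ?_, ?_⟩ <;> rw [map_pow]
  · exact pow_one_of_powFix (fun i => by rw [map_mul, Equiv.Perm.mul_apply, π_u, π_c]) powFix_u
  · exact pow_one_of_powFix (fun i => by rw [map_mul, Equiv.Perm.mul_apply, π_g, π_c]) powFix_g
  · exact pow_one_of_powFix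
      (fun i => by rw [map_mul, map_mul, Equiv.Perm.mul_apply, Equiv.Perm.mul_apply, π_g, π_u, π_c]) powFix_gu

theorem gC_inv : gC⁻¹ = gC := inv_eq_of_mul_eq_one_right (by rw [← sq]; exact rels_gen.r7)

/-- The conjugate involution. -/
theorem c_eq : HNOutPerm16.c = gC * HNOutPerm16.u * gC⁻¹ := by
  rw [gC_inv]
  simp only [HNOutPerm16.c, HNOutPerm16.u, HNOutPerm16.el, cW, uW, List.map_cons, List.map_nil, List.prod_cons,
    List.prod_nil, HNOutPerm16.E, mul_one, mul_assoc]

end Cfsg.Agent.HNOut16
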