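import Cfsg.Agent.Lib.HNOutCent16
import Cfsg.Agent.Lib.HNOutTwist16
import Cfsg.Prelude.Def_KGroupFacts

/-!
The outer automorphism group of the presented Harada–Norton group has order two, given its order, the
maximality of the subgroup of the first three generators, and simplicity.
-/

set_option autoImplicit false
set_option linter.style.haveILetI false

namespace Cfsg.Agent.HNOut16

open Cfsg Cfsg.Agent.HNTwoHSRels66 Cfsg.Agent.HNTwoHSGroup66 Cfsg.Agent.HNTwoHSEmbed66 Cfsg.Agent.HNRep29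
open Cfsg.Agent.HNSimple63 (toH gen3_rels)

local notation "G" => Spor.HN

theorem comm_X_D : Commute X D := by rw [← toH_A]; exact comm_toH_D gA
theorem comm_Y_D : Commute Y D := by rw [← toH_B]; exact comm_toH_D gB
theorem comm_Z_D : Commute Z D := by rw [← toH_C]; exact comm_toH_D gC

/-- Two maps agreeing on the generators are equal. -/
theorem ext_gens {M : Type} [Group M] {f g : G →* M} (hX : f X = g X) (hY : f Y = g Y) (hZ : f Z = g Z)
    (hT : f T = g T) : f = g :=
  by
  apply PresentedGroup.ext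
  intro v
  cases v
  exacts [hX, hY, hZ, hT]

theorem aut_ext {f g : MulAut G} (hX : f X = g X) (hY : f Y = g Y) (hZ : f Z = g Z) (hT : f T = g T) :
    f = g := by
  have := ext_gens (f := f.toMonoidHom) (g := g.toMonoidHom) hX hY hZ hT
  exact MulEquiv.toMonoidHom_injective this

theorem conj_D_fix {s : G} (hs : Commute s D) : MulAut.conj D s = s := by
  rw [MulAut.conj_apply, ← hs.eq, mul_inv_cancel_right]

theorem conj_D_T : MulAut.conj D T = T ^ 4 := by
  rw [MulAut.conj_apply, D_inv, DTD]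
  exact inv_eq_of_mul_eq_one_right (by rw [← pow_succ']; exact rel_t5)

section

variable (h : Hyp)
include h

/-- The images of the generators under the outer automorphism. -/
noncomputable def altGen : Spor.HN.Gen → G
  | .x => X
  | .y => Y
  | .z => Z * D
  | .t => T ^ 2

omit h in
theorem rels_twist : Rels X Y (Z * D) := by
  have e := twist_rels
  have hA := toH_A
  have hB := toH_B
  have hC : toH (gC * d) = Z * D := by rw [map_mul toH, toH_C, toH_d]
  constructor <;> simp only [← hA, ← hB, ← hC, ← map_mul toH, ← map_pow toH, ← map_inv toH]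
  · rw [e.r1, map_one]
  · rw [e.r2, map_one]
  · rw [e.r3, map_one]
  · rw [e.r4, map_one]
  · rw [e.r5, map_one]
  · rw [e.r6, map_one]
  · rw [e.r7, map_one]
  · rw [e.r8, map_one]
  · rw [e.r9, map_one]
  · rw [e.r10, map_one]

theorem alt_rels : ∀ r ∈ Spor.coxRelators Spor.HN.edges ∪ {r | r ∈ Spor.HN.extra},
    FreeGroup.lift altGen r = 1 := by
  rintro r (⟨a, ha, -⟩ | hr)
  · simp [Spor.coxNodes, Spor.HN.edges] at ha
  revert r
  show ∀ r ∈ Spor.HN.extra, FreeGroup.lift altGen r = 1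
  simp only [Spor.HN.extra, List.forall_mem_cons, map_mul, map_pow, map_inv, FreeGroup.lift_apply_of, altGen,
    List.not_mem_nil, false_implies, implies_true, and_true]
  have e := rels_twist
  refine ⟨e.r1, e.r2, e.r3, e.r4, e.r5, e.r6, e.r7, e.r8, e.r9, e.r10, ?_, ?_, ?_, rel_zdt (inj h)⟩
  · rw [← pow_mul, mul_comm, pow_mul, rel_t5, one_pow]
  · have e1 : X⁻¹ * T ^ 2 * X = (X⁻¹ * T * X) ^ 2 := by
      rw [show X⁻¹ * T * X = MulAut.conj X⁻¹ T by simp, ← map_pow]
      simp
    rw [e1, conj_XT, ← pow_mul, ← pow_mul, ← pow_add, show 3 * 2 + 2 * 2 = 5 * 2 from rfl, pow_mul, rel_t5,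
      one_pow]
  · rw [mul_assoc ((T ^ 2)⁻¹ * Y⁻¹), (comm_TY.pow_left 2).eq]
    group

/-- The endomorphism. -/
noncomputable def alphaHom : G →* G := PresentedGroup.toGroup (alt_rels h)

theorem alphaHom_gens :
    alphaHom h X = X ∧ alphaHom h Y = Y ∧ alphaHom h Z = Z * D ∧ alphaHom h T = T ^ 2 :=
  ⟨PresentedGroup.toGroup.of (alt_rels h), PresentedGroup.toGroup.of (alt_rels h),
    PresentedGroup.toGroup.of (alt_rels h), PresentedGroup.toGroup.of (alt_rels h)⟩

theorem alphaHom_D : alphaHom h D = D := by rw [D, map_pow, (alphaHom_gens h).1]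

theorem alphaHom_sq : (alphaHom h).comp (alphaHom h) = (MulAut.conj D).toMonoidHom := by
  obtain ⟨hX, hY, hZ, hT⟩ := alphaHom_gens h
  apply ext_gens <;> simp only [MonoidHom.comp_apply, MulEquiv.coe_toMonoidHom]
  · rw [hX, hX, conj_D_fix comm_X_D]
  · rw [hY, hY, conj_D_fix comm_Y_D]
  · rw [hZ, map_mul, hZ, alphaHom_D, mul_assoc, D_sq, mul_one, conj_D_fix comm_Z_D]
  · rw [hT, map_pow, hT, conj_D_T, ← pow_mul]

theorem alphaHom_comm (s : G) : alphaHom h (MulAut.conj D s) = MulAut.conj D (alphaHom h s) := by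
  simp only [MulAut.conj_apply, map_mul, map_inv, alphaHom_D]

theorem alpha_alpha (s : G) : alphaHom h (alphaHom h s) = MulAut.conj D s :=
  DFunLike.congr_fun (alphaHom_sq h) s

omit h in
theorem conj_D_twice (s : G) : MulAut.conj D (MulAut.conj D s) = s := by
  rw [← MulAut.mul_apply, ← map_mul, D_sq, map_one]; rfl

/-- The outer automorphism. -/
noncomputable def alpha : MulAut G where
  toFun := alphaHom h
  invFun s := MulAut.conj D (alphaHom h s)
  left_inv s := by
    show MulAut.conj D (alphaHom h (alphaHom h s)) = s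
    rw [alpha_alpha, conj_D_twice]
  right_inv s := by
    show alphaHom h (MulAut.conj D (alphaHom h s)) = s
    rw [alphaHom_comm, alpha_alpha, conj_D_twice]
  map_mul' := map_mul _

theorem alpha_gens : alpha h X = X ∧ alpha h Y = Y ∧ alpha h Z = Z * D ∧ alpha h T = T ^ 2 :=
  alphaHom_gens h

/-- The automorphism is not inner. -/
theorem alpha_outer (s : G) : MulAut.conj s ≠ alpha h := fun e => by
  obtain ⟨hX, hY, hZ, -⟩ := alpha_gens h
  rw [← e, MulAut.conj_apply, mul_inv_eq_iff_eq_mul] at hX hY hZ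
  obtain ⟨p, rfl⟩ := cent_D h (s := s) (by
    rw [D]
    exact (show Commute s X from hX).pow_right 2)
  have cA : Commute (π p) (π gA) :=
    (show Commute p gA from toH_inj (by rw [map_mul toH, map_mul toH, toH_A]; exact hX)).map π
  have cB : Commute (π p) (π gB) :=
    (show Commute p gB from toH_inj (by rw [map_mul toH, map_mul toH, toH_B]; exact hY)).map π
  have cC : Commute (π p) (π gC) := by
    have h1 : p * gC = gC * d * p := toH_inj (by
      rw [map_mul toH, map_mul toH, map_mul toH, toH_C, toH_d]; exact hZ)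
    have h2 := congrArg π h1
    rw [map_mul, map_mul, map_mul, π_d, mul_one] at h2
    exact h2
  have hp : π p = 1 := by
    refine HNTwoHSPerm66.centralizer_Hp fun a ha => ?_
    obtain ⟨w, rfl⟩ := Hp_le ha
    have hw : w ∈ Subgroup.closure ({gA, gB, gC} : Set P3) := by rw [closure_gen]; exact Subgroup.mem_top _
    clear ha
    have : Commute (π p) (π w) := by
      induction hw using Subgroup.closure_induction with
      | mem x hx => rcases hx with rfl | rfl | rfl <;> assumption
      | one => rw [map_one]; exact Commute.one_right _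
      | mul x y _ _ hx hy => rw [map_mul]; exact hx.mul_right hy
      | inv x _ hx => rw [map_inv]; exact hx.inv_right
    exact this.eq.symm
  have hcz : Commute (toH p) Z := by
    rcases (card_data (MonoidHom.id P3) HNSimple63.d_not_one).2 p hp with e1 | e1 <;> rw [e1]
    · rw [map_one toH]; exact Commute.one_left _
    · rw [toH_d]; exact comm_Z_D.symm
  rw [hcz.eq] at hZ
  have h3 : Z = Z * D := mul_right_cancel hZ
  exact d_ne_P3 (toH_inj (by rw [toH_d, map_one]; exact left_eq_mul.mp h3))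

/-- Inner, or inner times the outer one. -/
def Good (φ : MulAut G) : Prop := ∃ c : G, φ = MulAut.conj c ∨ φ = MulAut.conj c * alpha h

theorem good_of_conj {φ : MulAut G} (a : G) (hg : Good h (MulAut.conj a * φ)) : Good h φ := by
  obtain ⟨c, hc | hc⟩ := hg
  · exact ⟨a⁻¹ * c, Or.inl (by rw [map_mul, map_inv, ← hc, inv_mul_cancel_left])⟩
  · exact ⟨a⁻¹ * c, Or.inr (by rw [map_mul, map_inv, mul_assoc, ← hc, inv_mul_cancel_left])⟩

omit h in
theorem T_pow_five (i : ℕ) : (T ^ i) ^ 5 = 1 := by rw [← pow_mul, mul_comm, pow_mul, rel_t5, one_pow]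

/-- The last step. -/
theorem good_XYZ {φ : MulAut G} (hX : φ X = X) (hY : φ Y = Y) (hZ : φ Z = Z ∨ φ Z = Z * D) : Good h φ := by
  have hD : φ D = D := by rw [D, map_pow, hX]
  have cY : Commute (φ T) Y := by
    have := comm_TY.map φ.toMonoidHom
    simpa [hY] using this
  have cXY : Commute (φ T) (X⁻¹ * Y * X) := by
    have := comm_TXY.map φ.toMonoidHom
    simpa [hX, hY] using this
  have h5 : φ T ^ 5 = 1 := by rw [← map_pow, rel_t5, map_one]
  have hinv : D * φ T * D = (φ T)⁻¹ := by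
    have := congrArg φ DTD
    rwa [map_mul, map_mul, map_inv, hD] at this
  obtain ⟨i, hi, hti⟩ := five_cases h (comm_Gw cY cXY) h5 hinv
  have hne : φ T ≠ 1 := fun e => T_ne (φ.map_eq_one_iff.mp e)
  have hi0 : i ≠ 0 := by
    rintro rfl
    rcases hti with e | e <;> simp at e <;> exact T_ne e
  have hti' : φ T = T ^ i := by
    rcases hti with e | e
    · exact e
    · exfalso
      obtain ⟨j, hj⟩ : ∃ j, i * j % 5 = 1 := by interval_cases i <;> first | omega | exact ⟨1, rfl⟩ | exact ⟨3, rfl⟩ | exact ⟨2, rfl⟩ | exact ⟨4, rfl⟩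
      have hTj : (T ^ i) ^ j = T := by
        rw [← pow_mul, ← Nat.div_add_mod (i * j) 5, hj, pow_succ, pow_mul, rel_t5, one_pow, one_mul]
      have c1 := cY.pow_left j
      rw [e, conj_pow, hTj, inv_eq_of_mul_eq_one_right (u_sq' h)] at c1
      apply ne_utu
      rw [c1.eq, mul_inv_cancel_right, mul_inv_cancel]
  have hzt : (φ Z * T ^ i) ^ 3 = 1 := by
    rw [← hti', ← map_mul, ← map_pow, rel_zt, map_one]
  obtain ⟨aX, aY, aZ, aT⟩ := alpha_gens h
  rcases hZ with e | e <;> rw [e] at hzt <;> interval_cases i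
  · exact absurd rfl hi0
  · refine ⟨1, Or.inl ?_⟩
    rw [map_one]
    exact aut_ext hX hY e (by rw [hti', pow_one]; rfl)
  · exact absurd hzt ne_zt2
  · exact absurd hzt ne_zt3
  · exact ⟨D, Or.inl (aut_ext (by rw [hX, conj_D_fix comm_X_D]) (by rw [hY, conj_D_fix comm_Y_D])
      (by rw [e, conj_D_fix comm_Z_D]) (by rw [hti', conj_D_T]))⟩
  · exact absurd rfl hi0
  · exact absurd (by rwa [pow_one] at hzt) ne_zdt1
  · refine ⟨1, Or.inr ?_⟩
    rw [map_one, one_mul]
    exact aut_ext (hX.trans aX.symm) (hY.trans aY.symm) (e.trans aZ.symm) (hti'.trans aT.symm)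
  · refine ⟨D, Or.inr (aut_ext ?_ ?_ ?_ ?_)⟩ <;> rw [MulAut.mul_apply]
    · rw [hX, aX, conj_D_fix comm_X_D]
    · rw [hY, aY, conj_D_fix comm_Y_D]
    · rw [e, aZ, conj_D_fix (comm_Z_D.mul_left (Commute.refl D))]
    · rw [hti', aT, map_pow, conj_D_T, ← pow_mul, show 4 * 2 = 5 + 3 from rfl, pow_add, rel_t5, one_mul]
  · exact absurd hzt ne_zdt4

/-- The map induced on the universal group. -/
theorem exists_psi {φ : MulAut G} (hD : φ D = D) : ∃ ψ : P3 →* P3, ∀ p, toH (ψ p) = φ (toH p) := by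
  have hex : ∀ p, ∃ p', toH p' = φ (toH p) := fun p => cent_D h (by
    have := (comm_toH_D p).map φ.toMonoidHom
    simpa [hD] using this)
  choose f hf using hex
  exact ⟨MonoidHom.mk' f fun a b => toH_inj (by rw [map_mul toH, hf, hf, hf, map_mul toH, map_mul]), hf⟩

omit h in
theorem psi_ker {φ : MulAut G} {ψ : P3 →* P3} (hD : φ D = D) (hψ : ∀ p, toH (ψ p) = φ (toH p)) {a b : P3}
    (e : π a = π b) : π (ψ a) = π (ψ b) := by
  have hd : ψ d = d := toH_inj (by rw [hψ, toH_d, hD])
  rcases π_eq_iff e with e1 | e1 <;> rw [e1]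
  rw [map_mul, map_mul, hd, π_d, mul_one]

theorem good_of_fix {φ : MulAut G} (hG : φ Gw = Gw) (hD : φ D = D) : Good h φ := by
  haveI := h.fin
  -- the other involution
  have hU : φ Uw = Uw ∨ φ Uw = Uw * D := by
    have c1 : Commute (φ Uw) Gw := by
      have := (gu' h).symm.map φ.toMonoidHom
      simpa [hG] using this
    have c2 : Commute (φ Uw) D := by
      have := (toH_u ▸ comm_toH_D HNOutPerm16.u : Commute Uw D).map φ.toMonoidHom
      simpa [hD] using this
    have hsq : φ Uw * φ Uw = 1 := by rw [← map_mul, u_sq' h, map_one]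
    have cUD : Commute Uw D := toH_u ▸ comm_toH_D HNOutPerm16.u
    have cGD : Commute Gw D := toH_g ▸ comm_toH_D HNOutPerm16.g
    have key : ∀ (i : ℕ) (v : G), φ Uw = Gw ^ i * v → Commute Gw v → v * v = 1 → φ Uw = v := by
      intro i v e c hv
      have h2 : (Gw ^ i) ^ 2 = 1 := by
        rw [e] at hsq
        rwa [← sq, (c.pow_left i).mul_pow, sq v, hv, mul_one] at hsq
      rw [e, pow_eq_one_of_sq h h2, one_mul]
    obtain ⟨i, e | e | e | e⟩ := cent_GD h c1 c2
    · exfalso
      have e1 := key i 1 (by rw [e, mul_one]) (Commute.one_right _) (mul_one 1)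
      have e2 : Uw = 1 := φ.map_eq_one_iff.mp e1
      exact π_u_ne (by rw [toH_inj (show toH HNOutPerm16.u = toH 1 by rw [toH_u, e2, map_one]), map_one])
    · exfalso
      have e1 := key i D e cGD D_sq
      rw [← hD] at e1
      exact π_u_ne (by rw [toH_inj (show toH HNOutPerm16.u = toH d by rw [toH_u, toH_d, φ.injective e1]), π_d])
    · exact Or.inl (key i Uw e (gu' h) (u_sq' h))
    · refine Or.inr (key i (Uw * D) e ((gu' h).mul_right cGD) ?_)
      rw [← sq, cUD.mul_pow, sq, sq, u_sq' h, D_sq, mul_one]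
  obtain ⟨ψ, hψ⟩ := exists_psi h hD
  have hψg : π (ψ HNOutPerm16.g) = π HNOutPerm16.g := by
    rw [toH_inj ((hψ _).trans (by rw [toH_g, hG] : φ (toH HNOutPerm16.g) = toH HNOutPerm16.g))]
  have hψu : π (ψ HNOutPerm16.u) = π HNOutPerm16.u := by
    rcases hU with e | e
    · rw [toH_inj ((hψ _).trans (by rw [toH_u, e] : φ (toH HNOutPerm16.u) = toH HNOutPerm16.u))]
    · rw [toH_inj ((hψ _).trans
        (by rw [map_mul toH, toH_u, toH_d, e] : φ (toH HNOutPerm16.u) = toH (HNOutPerm16.u * d))), map_mul,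
        π_d, mul_one]
  have hconj : π (ψ HNOutPerm16.c) = π (ψ gC * HNOutPerm16.u * (ψ gC)⁻¹) := by
    rw [c_eq, map_mul ψ, map_mul ψ, map_inv ψ, map_mul, map_mul, hψu, ← map_mul, ← map_mul]
  have hord : ∀ {w : P3} {n : ℕ}, π (w ^ n) = 1 → π (ψ w) ^ n = 1 := fun {w n} e => by
    rw [← map_pow, ← map_pow ψ, psi_ker hD hψ (e.trans (map_one π).symm), map_one, map_one]
  obtain ⟨o3, o20, o12⟩ := orders
  obtain ⟨k, -, hk⟩ := HNOutPerm16.sel_cases (h := ψ gC)
    (by have := hord o3; rwa [map_mul ψ, map_mul, hψu, hconj] at this)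
    (by have := hord o20; rwa [map_mul ψ, map_mul, hψg, hconj] at this)
    (by have := hord o12; rwa [map_mul ψ, map_mul ψ, map_mul, map_mul, hψg, hψu, hconj] at this)
  rw [← hconj] at hk
  set m : P3 := HNOutPerm16.g ^ (k % 7) * (if k < 7 then 1 else HNOutPerm16.u) with hm
  have cgu : Commute HNOutPerm16.g HNOutPerm16.u :=
    toH_inj (by rw [map_mul toH, map_mul toH, toH_g, toH_u]; exact (gu' h).eq)
  have cmg : Commute m HNOutPerm16.g := by
    refine ((Commute.refl _).pow_left _).mul_left ?_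
    split
    · exact Commute.one_left _
    · exact cgu.symm
  have cmu : Commute m HNOutPerm16.u := by
    refine (cgu.pow_left _).mul_left ?_
    split
    · exact Commute.one_left _
    · exact Commute.refl _
  refine good_of_conj h (toH m)⁻¹ ?_
  set φ' := MulAut.conj (toH m)⁻¹ * φ with hφ'
  have hD' : φ' D = D := by
    rw [hφ', MulAut.mul_apply, hD, MulAut.conj_apply, inv_inv, mul_assoc, ← (comm_toH_D m).eq, inv_mul_cancel_left]
  let ψ' : P3 →* P3 := (MulAut.conj m⁻¹).toMonoidHom.comp ψ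
  have hψ'eq : ∀ p, ψ' p = m⁻¹ * ψ p * m := fun p => by simp [ψ']
  have hψ' : ∀ p, toH (ψ' p) = φ' (toH p) := fun p => by
    rw [hψ'eq, map_mul toH, map_mul toH, map_inv toH, hψ, hφ', MulAut.mul_apply, MulAut.conj_apply, inv_inv]
  have agree := agree_gens ψ' (fun a b e => psi_ker hD' hψ' e) ⟨?_, ?_, ?_⟩
  rotate_left
  · rw [hψ'eq, map_mul, map_mul, map_inv, hψg, mul_assoc, ← (cmg.map π).eq, inv_mul_cancel_left]
  · rw [hψ'eq, map_mul, map_mul, map_inv, hψu, mul_assoc, ← (cmu.map π).eq, inv_mul_cancel_left]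
  · rw [hψ'eq, map_mul, map_mul, map_inv, mul_assoc, hk, inv_mul_cancel_left]
  obtain ⟨sA, eA⟩ := exists_shift (π_eq_iff agree.1)
  obtain ⟨sB, eB⟩ := exists_shift (π_eq_iff agree.2.1)
  obtain ⟨sC, eC⟩ := exists_shift (π_eq_iff agree.2.2)
  obtain ⟨rfl, rfl⟩ : sA = 1 ∧ sB = 1 := by
    refine twist_signs (a := sA) (b := sB) (c := sC) ?_
    rw [← eA, ← eB, ← eC]
    have e := rels_gen
    constructor <;> simp only [← map_mul ψ', ← map_pow ψ', ← map_inv ψ']
    · rw [e.r1, map_one]
    · rw [e.r2, map_one]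
    · rw [e.r3, map_one]
    · rw [e.r4, map_one]
    · rw [e.r5, map_one]
    · rw [e.r6, map_one]
    · rw [e.r7, map_one]
    · rw [e.r8, map_one]
    · rw [e.r9, map_one]
    · rw [e.r10, map_one]
  rw [shift_fst] at eA eB
  refine good_XYZ h ?_ ?_ ?_
  · rw [← toH_A, ← hψ', eA]
  · rw [← toH_B, ← hψ', eB]
  · rcases π_eq_iff agree.2.2 with e | e
    · left; rw [← toH_C, ← hψ', e]
    · right; rw [← toH_C, ← hψ', e, map_mul toH, toH_d]

theorem good_of_G {φ : MulAut G} (hG : φ Gw = Gw) : Good h φ := by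
  have cD : Commute (φ D) Gw := by
    have := (toH_g ▸ comm_toH_D HNOutPerm16.g : Commute Gw D).symm.map φ.toMonoidHom
    simpa [hG] using this
  obtain ⟨c, hc, hcD⟩ := involution_conj h cD (by rw [← map_mul, D_sq, map_one]) (fun e =>
    d_ne_P3 (toH_inj (by rw [toH_d, map_one]; exact φ.map_eq_one_iff.mp e)))
  refine good_of_conj h c (good_of_fix h ?_ ?_)
  · rw [MulAut.mul_apply, hG, MulAut.conj_apply, hc.eq, mul_inv_cancel_right]
  · rw [MulAut.mul_apply, MulAut.conj_apply, hcD]

theorem good_all (φ : MulAut G) : Good h φ := by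
  haveI := h.fin
  haveI : Fact (Nat.Prime 7) := ⟨by norm_num⟩
  have ho := order_G h
  have hfac : 7 ^ (Nat.card G).factorization 7 = 7 := by
    have : (Nat.card G).factorization 7 = 1 := by
      rw [h.card, show (273030912000000 : ℕ) = 7 * 39004416000000 by norm_num,
        Nat.factorization_mul (by norm_num) (by norm_num), Finsupp.add_apply,
        (Nat.prime_iff.mpr (Nat.Prime.prime (by norm_num : Nat.Prime 7))).factorization_self,
        Nat.factorization_eq_zero_of_not_dvd (by norm_num)]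
    rw [this, pow_one]
  let P : Sylow 7 G := Sylow.ofCard (Subgroup.zpowers Gw) (by rw [Nat.card_zpowers, ho, hfac])
  let Q : Sylow 7 G := Sylow.ofCard (Subgroup.zpowers (φ Gw))
    (by rw [Nat.card_zpowers, MulEquiv.orderOf_eq φ, ho, hfac])
  obtain ⟨c, hc⟩ := MulAction.exists_smul_eq G Q P
  have hmem : MulAut.conj c (φ Gw) ∈ Subgroup.zpowers Gw := by
    have e : ((c • Q : Sylow 7 G) : Subgroup G) = Subgroup.zpowers Gw := by rw [hc]; rfl
    rw [← e, Sylow.coe_subgroup_smul, ← MulAut.smul_def]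
    exact Subgroup.smul_mem_pointwise_smul _ _ _ (Subgroup.mem_zpowers _)
  obtain ⟨i, hi⟩ := (mem_powers_iff_mem_zpowers (x := Gw)).mpr hmem
  simp only at hi
  have hi0 : i % 7 ≠ 0 := fun e => by
    have h1 : MulAut.conj c (φ Gw) = 1 := by
      rw [← hi, ← Nat.div_add_mod i 7, e, add_zero, pow_mul, g7' h, one_pow]
    exact Gw_ne (φ.map_eq_one_iff.mp ((MulAut.conj c).map_eq_one_iff.mp h1))
  obtain ⟨m, hm⟩ : ∃ m, i * 3 ^ m % 7 = 1 := by
    have key : ∀ r < 7, r ≠ 0 → ∃ m < 6, r * 3 ^ m % 7 = 1 := by decide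
    obtain ⟨m, -, hm⟩ := key (i % 7) (Nat.mod_lt _ (by norm_num)) hi0
    exact ⟨m, (Nat.mod_mul_mod _ _ _).symm.trans hm⟩
  have hN : ∀ m, MulAut.conj (Nw ^ m) Gw = Gw ^ 3 ^ m := by
    intro m
    induction m with
    | zero => simp
    | succ m ih =>
      rw [pow_succ Nw, map_mul, MulAut.mul_apply, MulAut.conj_apply Nw, conj_N (inj h), map_pow, ih, ← pow_mul,
        pow_succ]
  refine good_of_conj h (Nw ^ m * c) (good_of_G h ?_)
  rw [MulAut.mul_apply, map_mul, MulAut.mul_apply, ← hi, map_pow, hN, ← pow_mul, mul_comm,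
    ← Nat.div_add_mod (i * 3 ^ m) 7, hm, pow_succ, pow_mul, g7' h, one_pow, one_mul]

/-- The outer automorphism group has order two. -/
theorem out_card : Nat.card (Out G) = 2 := by
  rw [Nat.card_eq_two_iff]
  refine ⟨1, QuotientGroup.mk (alpha h), fun e => ?_, ?_⟩
  · obtain ⟨s, hs⟩ := (QuotientGroup.eq_one_iff _).mp e.symm
    exact alpha_outer h s hs
  · rw [Set.eq_univ_iff_forall]
    intro v
    obtain ⟨φ, rfl⟩ := QuotientGroup.mk_surjective v
    obtain ⟨c, hc | hc⟩ := good_all h φ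
    · exact Or.inl ((QuotientGroup.eq_one_iff _).mpr ⟨c, hc.symm⟩)
    · refine Or.inr ?_
      rw [hc, QuotientGroup.mk_mul, (QuotientGroup.eq_one_iff (MulAut.conj c)).mpr (MonoidHom.mem_range.mpr ⟨c, rfl⟩), one_mul]
      rfl

end

end Cfsg.Agent.HNOut16
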