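import Cfsg.Agent.Lib.HNOutChk16

/-!
The group of the first three generators of the Harada–Norton presentation on one hundred points: the
centraliser of an element of order seven, and the conjugates of an involution commuting with it.
-/

set_option autoImplicit false
set_option maxRecDepth 100000

namespace Cfsg.Agent.HNOutPerm16

open Cfsg.Agent.HNTwoHSPerm66 Cfsg.Agent.HNTwoHSGroup66 Cfsg.Agent.HNOutData16

/-- The letters. -/
noncomputable def E : ℕ → P3
  | 0 => gA
  | 1 => gA⁻¹
  | 2 => gB
  | 3 => gB⁻¹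
  | 4 => gC
  | _ => 1

/-- The value of a word. -/
noncomputable def el (w : List ℕ) : P3 := (w.map E).prod

theorem π_E : ∀ (a : ℕ) (i : Fin 100),
    (π (E a) i : ℕ) = if a < 5 then ev (letters.getD a 0) i else i
  | 0, i => by simp only [E, π_A]; exact (tab_x i).symm
  | 1, i => by simp only [E, map_inv, π_A]; exact (tab_xi i).symm
  | 2, i => by simp only [E, π_B]; exact (tab_y i).symm
  | 3, i => by simp only [E, map_inv, π_B]; exact (tab_yi i).symm
  | 4, i => by simp only [E, π_C]; exact (tab_z i).symm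
  | n + 5, i => by simp [E]

theorem π_el : ∀ (w : List ℕ) (i : Fin 100), (π (el w) i : ℕ) = runW w i
  | [], i => by simp [el, runW]
  | a :: w, i => by
    have h := π_el w i
    rw [el, List.map_cons, List.prod_cons, map_mul, Equiv.Perm.mul_apply, π_E]
    show _ = if a < 5 then ev _ (runW w i) else runW w i
    rw [← h]
    rfl

/-- The element of order seven. -/
noncomputable def g : P3 := el gW
/-- The involution commuting with it. -/
noncomputable def u : P3 := el uW
/-- Its conjugate. -/
noncomputable def c : P3 := el cW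

theorem π_g (i : Fin 100) : (π g i : ℕ) = ev gP i := (π_el gW i).trans (g_tab i)
theorem π_u (i : Fin 100) : (π u i : ℕ) = ev uP i := (π_el uW i).trans (u_tab i)
theorem π_c (i : Fin 100) : (π c i : ℕ) = ev cP i := (π_el cW i).trans (c_tab i)

theorem π_g_pow : ∀ (m : ℕ) (i : Fin 100), ((π g ^ m) i : ℕ) = iterG m i
  | 0, i => by simp [iterG]
  | m + 1, i => by
    rw [pow_succ', Equiv.Perm.mul_apply, π_g, π_g_pow m i]
    rfl

theorem adj_stable {p : ℕ} (h : adjStable p = true) {σ : Equiv.Perm (Fin 100)}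
    (hσ : ∀ i, (σ i : ℕ) = ev p i) (a b : Fin 100) : adj (σ a) (σ b) = adj a b := by
  simp only [adjStable, List.all_eq_true, List.mem_range, beq_iff_eq] at h
  rw [hσ, hσ]
  exact h a a.2 b b.2

theorem π_adj (h : P3) : ∀ a b : Fin 100, adj (π h a) (π h b) = adj a b := by
  have hm : h ∈ Subgroup.closure ({gA, gB, gC} : Set P3) := by rw [closure_gen]; exact Subgroup.mem_top _
  induction hm using Subgroup.closure_induction with
  | mem x hx =>
    rcases hx with rfl | rfl | rfl
    · exact adj_stable stable_x fun i => by simpa [E] using π_E 0 i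
    · exact adj_stable stable_y fun i => by simpa [E] using π_E 2 i
    · exact adj_stable stable_z fun i => by simpa [E] using π_E 4 i
  | one => intro a b; simp
  | mul x y _ _ hx hy => intro a b; simp [hx, hy]
  | inv x _ hx =>
    intro a b
    have := hx ((π x)⁻¹ a) ((π x)⁻¹ b)
    simpa [map_inv] using this.symm

section

variable {q : Equiv.Perm (Fin 100)}

/-- The image of a point as a natural number. -/
def img (q : Equiv.Perm (Fin 100)) (i : ℕ) : ℕ := if h : i < 100 then (q ⟨i, h⟩ : ℕ) else i

theorem img_fin (i : Fin 100) : img q i = q i := by simp [img]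

theorem img_iterG (hg : ∀ i, q (π g i) = π g (q i)) (m : ℕ) (i : Fin 100) :
    img q (iterG m i) = iterG m (q i) := by
  rw [← π_g_pow, img_fin, ← π_g_pow]
  congr 1
  induction m with
  | zero => rfl
  | succ m ih => rw [pow_succ', Equiv.Perm.mul_apply, hg, ih, Equiv.Perm.mul_apply]

theorem img_orbG (hg : ∀ i, q (π g i) = π g (q i)) (p : Fin 100) :
    (orbG p).map (img q) = orbG (q p) := by
  simp only [orbG, List.map_map]
  exact List.map_congr_left fun m _ => img_iterG hg m p

theorem img_fix (hg : ∀ i, q (π g i) = π g (q i)) :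
    [11, 22].map (img q) ∈ ([[11, 22], [22, 11]] : List (List ℕ)) := by
  have hfix : ∀ i : Fin 100, ev gP i = i → (q i : ℕ) = 11 ∨ (q i : ℕ) = 22 := by
    intro i hi
    apply fix_check
    have h1 : π g i = i := Fin.ext (by rw [π_g]; exact hi)
    rw [← π_g, ← hg, h1]
  have a := hfix ⟨11, by norm_num⟩ fix_eleven.1
  have b := hfix ⟨22, by norm_num⟩ fix_eleven.2
  have ne : (q ⟨11, by norm_num⟩ : ℕ) ≠ q ⟨22, by norm_num⟩ := by
    intro h
    have := congrArg Fin.val (q.injective (Fin.ext h))
    simp at this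
  simp only [List.map_cons, List.map_nil, img, show (11 : ℕ) < 100 by norm_num,
    show (22 : ℕ) < 100 by norm_num, dite_true]
  rcases a with a | a <;> rcases b with b | b <;> simp_all

theorem img_getD (k : ℕ) (hk : k < 16) :
    (baseS.map (img q)).getD k 0 = (q ⟨baseS.getD k 0, base_lt k hk⟩ : ℕ) := by
  have hl : k < baseS.length := by rw [base_len]; exact hk
  rw [List.getD_eq_getElem _ _ (by rw [List.length_map]; exact hl), List.getElem_map]
  have e : baseS.getD k 0 = baseS[k] := List.getD_eq_getElem _ _ hl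
  rw [← e]
  exact img_fin (q := q) ⟨baseS.getD k 0, base_lt k hk⟩

theorem samePat_img (ha : ∀ a b, adj (q a) (q b) = adj a b) (r : Fin 100) :
    samePat baseS (baseS.map (img q)) r (q r) = true := by
  simp only [samePat, List.all_eq_true, List.mem_range, beq_iff_eq]
  intro k hk
  rw [img_getD k hk, ha]

theorem sameAdj_img (ha : ∀ a b, adj (q a) (q b) = adj a b) {n : ℕ} (hn : n ≤ 16) :
    sameAdj baseS (baseS.map (img q)) n = true := by
  simp only [sameAdj, List.all_eq_true, List.mem_range, beq_iff_eq]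
  intro k hk l hl
  rw [img_getD k (hk.trans_le hn), img_getD l (hl.trans_le hn), ha]

/-- The centraliser of the element of order seven among the automorphisms of the graph. -/
theorem cent_cases (hg : ∀ i, q (π g i) = π g (q i)) (ha : ∀ a b, adj (q a) (q b) = adj a b) :
    ∃ k < 14, ∀ j < 16, img q (baseS.getD j 0) = moveGU k (baseS.getD j 0) := by
  have h1 : (base1 : ℕ) < 100 := by decide
  have h2 : (base2 : ℕ) < 100 := by decide
  have hT : baseS.map (img q) = [11, 22].map (img q) ++ orbG (q ⟨base1, h1⟩) ++ orbG (q ⟨base2, h2⟩) := by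
    rw [baseS, List.map_append, List.map_append, ← img_orbG hg, ← img_orbG hg]
  have hc := cent_check
  simp only [centOK, List.all_eq_true] at hc
  have hc1 := hc _ (img_fix hg) _ (List.mem_range.2 (q ⟨base1, h1⟩).2)
  have h9 : sameAdj baseS ([11, 22].map (img q) ++ orbG (q ⟨base1, h1⟩)) 9 = true := by
    have := sameAdj_img ha (n := 9) (by norm_num)
    rw [hT] at this
    simp only [sameAdj, List.all_eq_true, List.mem_range, beq_iff_eq] at this ⊢
    intro k hk l hl
    have e : ∀ j < 9, ([11, 22].map (img q) ++ orbG (q ⟨base1, h1⟩) ++ orbG (q ⟨base2, h2⟩)).getD j 0 =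
        ([11, 22].map (img q) ++ orbG (q ⟨base1, h1⟩)).getD j 0 := fun j hj =>
      List.getD_append _ _ _ _ (by simpa [orbG] using hj)
    rw [← e k hk, ← e l hl]
    exact this k hk l hl
  rw [h9, Bool.not_true, Bool.false_or, List.all_eq_true] at hc1
  have hc2 := hc1 _ (List.mem_range.2 (q ⟨base2, h2⟩).2)
  rw [← hT, sameAdj_img ha le_rfl, Bool.not_true, Bool.false_or, candOK, Bool.or_eq_true] at hc2
  rcases hc2 with h | h
  · simp only [List.any_eq_true, List.mem_range, beq_iff_eq] at h
    obtain ⟨k, hk, he⟩ := h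
    refine ⟨k, hk, fun j hj => ?_⟩
    have hl : j < baseS.length := by rw [base_len]; exact hj
    have := congrArg (fun L => L.getD j 0) he
    simpa [List.getD_eq_getElem _ _, hl] using this.symm
  · simp only [List.any_eq_true, List.all_eq_true, List.mem_range, Bool.not_eq_true'] at h
    obtain ⟨r, hr, hh⟩ := h
    have := hh _ (q ⟨r, hr⟩).2
    rw [samePat_img ha ⟨r, hr⟩] at this
    exact absurd this (by simp)

theorem eq_one_of_fix_base (ha : ∀ a b, adj (q a) (q b) = adj a b)
    (hfix : ∀ j < 16, img q (baseS.getD j 0) = baseS.getD j 0) : q = 1 := by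
  have hS : baseS.map (img q) = baseS := by
    apply List.ext_getElem (by simp)
    intro j hj hj'
    have h := hfix j (by rw [← base_len]; exact hj')
    rw [List.getD_eq_getElem _ _ hj'] at h
    rw [List.getElem_map]
    exact h
  ext r
  have h := samePat_img ha r
  rw [hS] at h
  have hs := sep_check
  unfold sepOK at hs
  rw [List.all_eq_true] at hs
  have h1 := hs r.1 (List.mem_range.2 r.2)
  rw [List.all_eq_true] at h1
  have h2 := h1 (q r).1 (List.mem_range.2 (q r).2)
  rw [h, Bool.not_true, Bool.false_or, beq_iff_eq] at h2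
  exact congrArg Fin.val (Fin.ext h2.symm)

end

theorem moveGU_eq (k : ℕ) (i : Fin 100) :
    (π (g ^ (k % 7) * (if k < 7 then 1 else u)) i : ℕ) = moveGU k i := by
  rw [map_mul, map_pow, Equiv.Perm.mul_apply, π_g_pow, moveGU]
  split
  · simp
  · rw [π_u]

/-- Elements commuting with the element of order seven in the image. -/
theorem π_cent (h : P3) (hc : π h * π g = π g * π h) :
    ∃ k < 14, π h = π (g ^ (k % 7) * (if k < 7 then 1 else u)) := by
  have hg : ∀ i, π h (π g i) = π g (π h i) := fun i => Equiv.Perm.congr_fun hc i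
  obtain ⟨k, hk, hkS⟩ := cent_cases hg (π_adj h)
  refine ⟨k, hk, ?_⟩
  set m := g ^ (k % 7) * (if k < 7 then 1 else u) with hm
  have h1 : π (m⁻¹ * h) = 1 := eq_one_of_fix_base (π_adj _) fun j hj => by
    have h2 := img_fin (q := π (m⁻¹ * h)) ⟨baseS.getD j 0, base_lt j hj⟩
    have h3 := hkS j hj
    have h4 : img (π h) (baseS.getD j 0) = (π h ⟨baseS.getD j 0, base_lt j hj⟩ : ℕ) :=
      img_fin (q := π h) ⟨_, base_lt j hj⟩
    have h5 : π h ⟨baseS.getD j 0, base_lt j hj⟩ = π m ⟨baseS.getD j 0, base_lt j hj⟩ :=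
      Fin.ext (by rw [← h4, h3, hm, moveGU_eq])
    rw [show img (π (m⁻¹ * h)) (baseS.getD j 0) = _ from h2, map_mul, Equiv.Perm.mul_apply, h5, map_inv]
    simp
  rwa [map_mul, map_inv, inv_mul_eq_one, eq_comm] at h1

/-! ### the conjugates of the involution -/

/-- Realised by a member of the class. -/
def InCls (σ : Equiv.Perm (Fin 100)) : Prop :=
  ∃ e ∈ cls, ∀ i : Fin 100, (σ i : ℕ) = ev e.1 i

theorem inCls_step {σ : Equiv.Perm (Fin 100)} (hσ : InCls σ) {a : ℕ} (ha : a < 3) :
    InCls (π (E (2 * a)) * σ * (π (E (2 * a)))⁻¹) := by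
  obtain ⟨e, he, hs⟩ := hσ
  have hc := cls_check
  simp only [clsOK, List.all_eq_true, List.mem_range, Bool.and_eq_true, Nat.blt_eq, Nat.beq_eq] at hc
  obtain ⟨hlt, hev⟩ := hc e he a ha
  refine ⟨cls.getD (e.2.getD a 0) (0, []), ?_, fun i => ?_⟩
  · rw [List.getD_eq_getElem _ _ hlt]; exact List.getElem_mem hlt
  · set s := π (E (2 * a)) with hsdef
    have hE : ∀ j : Fin 100, (s j : ℕ) = ev (letters.getD (2 * a) 0) j := fun j => by
      rw [hsdef, π_E, if_pos (by omega)]
    have h1 := hev (s⁻¹ i : Fin 100) (s⁻¹ i).2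
    rw [← hE, show s (s⁻¹ i) = i from s.apply_symm_apply i, ← hs, ← hE] at h1
    rw [h1]
    rfl

theorem inCls_conj (h : P3) : ∀ σ, InCls σ → InCls (π h * σ * (π h)⁻¹) := by
  have hm : h ∈ Submonoid.closure ({gA, gB, gC} : Set P3) := by
    rw [← Subgroup.closure_toSubmonoid_of_finite]
    show h ∈ Subgroup.closure _
    rw [closure_gen]; exact Subgroup.mem_top _
  induction hm using Submonoid.closure_induction with
  | mem x hx =>
    intro σ hσ
    rcases hx with rfl | rfl | rfl
    · simpa [E] using inCls_step hσ (a := 0) (by norm_num)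
    · simpa [E] using inCls_step hσ (a := 1) (by norm_num)
    · simpa [E] using inCls_step hσ (a := 2) (by norm_num)
  | one => intro σ hσ; simpa using hσ
  | mul x y _ _ hx hy =>
    intro σ hσ
    simpa [mul_assoc, mul_inv_rev] using hx _ (hy _ hσ)

theorem inCls_u (h : P3) : InCls (π (h * u * h⁻¹)) := by
  rw [map_mul, map_mul, map_inv]
  refine inCls_conj h _ ⟨cls.getD uIdx (0, []), ?_, fun i => ?_⟩
  · rw [List.getD_eq_getElem _ _ cls_u.1]; exact List.getElem_mem cls_u.1
  · have := cls_u.2
    simp only [List.all_eq_true, List.mem_range, Nat.beq_eq] at this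
    rw [π_u, this i i.2]

theorem powFix_of {σ : Equiv.Perm (Fin 100)} {f : ℕ → ℕ} (hf : ∀ i : Fin 100, (σ i : ℕ) = f i) {n : ℕ}
    (h : σ ^ n = 1) : powFix f n = true := by
  simp only [powFix, List.all_eq_true, List.mem_range, Nat.beq_eq]
  intro i hi
  have e : ∀ m, ((σ ^ m) ⟨i, hi⟩ : ℕ) = f^[m] i := by
    intro m
    induction m with
    | zero => rfl
    | succ m ih => rw [pow_succ', Equiv.Perm.mul_apply, hf, Function.iterate_succ_apply', ih]
  have := e n
  rw [h] at this
  exact this.symm
  

/-- A conjugate of the involution with the three orders is a conjugate under the centraliser. -/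
theorem sel_cases {h : P3} (h3 : (π u * π (h * u * h⁻¹)) ^ 3 = 1) (h20 : (π g * π (h * u * h⁻¹)) ^ 20 = 1)
    (h12 : (π g * π u * π (h * u * h⁻¹)) ^ 12 = 1) :
    ∃ k < 14, π (h * u * h⁻¹) * π (g ^ (k % 7) * (if k < 7 then 1 else u)) =
      π (g ^ (k % 7) * (if k < 7 then 1 else u)) * π c := by
  obtain ⟨e, he, hs⟩ := inCls_u h
  have hc := sel_check
  simp only [selOK, List.all_eq_true] at hc
  have hc' := hc e he
  rw [powFix_of (fun i => by rw [Equiv.Perm.mul_apply, π_u, hs]) h3,
    powFix_of (fun i => by rw [Equiv.Perm.mul_apply, π_g, hs]) h20,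
    powFix_of (fun i => by rw [Equiv.Perm.mul_apply, Equiv.Perm.mul_apply, π_g, π_u, hs]) h12] at hc'
  simp only [Bool.and_self, Bool.not_true, Bool.false_or, List.any_eq_true, List.all_eq_true,
    List.mem_range, Nat.beq_eq] at hc'
  obtain ⟨k, hk, hev⟩ := hc'
  refine ⟨k, hk, Equiv.ext fun i => Fin.ext ?_⟩
  rw [Equiv.Perm.mul_apply, Equiv.Perm.mul_apply, hs, moveGU_eq, moveGU_eq, π_c]
  exact hev i i.2

end Cfsg.Agent.HNOutPerm16
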