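import Cfsg.Agent.Lib.HNOutRepChk16
import Cfsg.Agent.Lib.HNSimple63
import Cfsg.Agent.Lib.HNOutPerm16

/-!
Word identities in the presented Harada–Norton group, read from its matrices, and the map of the universal
group of the first three generators into it.
-/

set_option autoImplicit false

namespace Cfsg.Agent.HNOut16

open Cfsg Cfsg.Agent.HNTwoHSGroup66 Cfsg.Agent.HNTwoHSEmbed66 Cfsg.Agent.HNRep29
  Cfsg.Agent.HNRepCore29 Cfsg.Agent.HNRepData29 Cfsg.Agent.HNOutData16 Cfsg.Agent.HNOutRepChk16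
open Cfsg.Agent.HNSimple63 (toH gen3_rels)

local notation "G" => Spor.HN

/-- first generator -/
noncomputable def X : G := q Spor.HN.x
/-- second generator -/
noncomputable def Y : G := q Spor.HN.y
/-- third generator -/
noncomputable def Z : G := q Spor.HN.z
/-- fourth generator -/
noncomputable def T : G := q Spor.HN.t

/-- The letters. -/
noncomputable def L : ℕ → G
  | 0 => X
  | 1 => X⁻¹
  | 2 => Y
  | 3 => Y⁻¹
  | 4 => Z
  | 5 => T
  | 6 => T⁻¹
  | _ => 1

/-- The value of a word. -/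
noncomputable def W (w : List ℕ) : G := (w.map L).prod

theorem W_nil : W [] = 1 := rfl
theorem W_cons (a : ℕ) (w : List ℕ) : W (a :: w) = L a * W w := List.prod_cons ..
theorem W_append (v w : List ℕ) : W (v ++ w) = W v * W w := by
  rw [W, List.map_append, List.prod_append]; rfl

/-- The inverse word. -/
def invW (w : List ℕ) : List ℕ :=
  (w.map fun a => [1, 0, 3, 2, 4, 6, 5].getD a 7).reverse

theorem Z_sq : Z * Z = 1 := by
  have h : q (Spor.HN.z ^ 2) = 1 := PresentedGroup.one_of_mem (Or.inr (by simp [Spor.HN.extra]))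
  rw [map_pow, sq] at h
  exact h

theorem L_inv : ∀ a, L ([1, 0, 3, 2, 4, 6, 5].getD a 7) = (L a)⁻¹
  | 0 | 2 | 5 => rfl
  | 1 | 3 | 6 => (inv_inv _).symm
  | 4 => (inv_eq_of_mul_eq_one_right Z_sq).symm
  | n + 7 => inv_one.symm

theorem W_invW (w : List ℕ) : W (invW w) = (W w)⁻¹ := by
  induction w with
  | nil => exact inv_one.symm
  | cons a w ih =>
    rw [W_cons, mul_inv_rev, ← ih, invW, List.map_cons, List.reverse_cons, W_append, W_cons, W_nil, mul_one,
      L_inv]
    rfl

theorem W_single (a : ℕ) : W [a] = L a := by rw [W_cons, W_nil, mul_one]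

theorem rho_q (w : FreeGroup Spor.HN.Gen) : rho (q w) = FreeGroup.lift gen w := rho_mk w

theorem rho_L : ∀ k, rho (L k) = U k
  | 0 => (rho_q _).trans (FreeGroup.lift_apply_of ..)
  | 1 => by rw [L, map_inv, X, rho_q, FreeGroup.lift_apply_of]; exact inv_x
  | 2 => (rho_q _).trans (FreeGroup.lift_apply_of ..)
  | 3 => by rw [L, map_inv, Y, rho_q, FreeGroup.lift_apply_of]; exact inv_y
  | 4 => (rho_q _).trans (FreeGroup.lift_apply_of ..)
  | 5 => (rho_q _).trans (FreeGroup.lift_apply_of ..)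
  | 6 => by rw [L, map_inv, T, rho_q, FreeGroup.lift_apply_of]; exact inv_t
  | n + 7 => map_one rho

theorem rho_W (w : List ℕ) : rho (W w) = (w.map U).prod := by
  rw [W, map_list_prod, List.map_map]
  exact congrArg List.prod (List.map_congr_left fun k _ => rho_L k)

theorem W_one (hinj : Function.Injective rho) {v : List ℕ} (h : sameWord gens v [5] = true) (w : List ℕ)
    (e : v = w ++ [5]) (hw : ∀ g ∈ w, g < 7) : W w = 1 :=
  hinj (by rw [rho_W, map_one]; exact prod_U hw (e ▸ h))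

theorem W_ne {w : List ℕ} {i j : ℕ} (hw : ∀ g ∈ w, g < 7) (hi : i < 133) (hj : j < 133)
    (h : notOne gens w i j = true) : W w ≠ 1 := fun e => by
  apply notOne_sound hi hj (fun g hg => ok (hw g hg)) h
  have e1 : (w.map U).prod = 1 := by rw [← rho_W, e, map_one]
  have e2 := congrArg Units.val e1
  rw [← Units.coeHom_apply, map_list_prod, List.map_map, Units.val_one] at e2
  rw [← e2]
  exact congrArg List.prod (List.map_congr_left fun g hg => (coe_U (hw g hg)).symm)

theorem toH_A : toH gA = X := PresentedGroup.toGroup.of gen3_rels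
theorem toH_B : toH gB = Y := PresentedGroup.toGroup.of gen3_rels
theorem toH_C : toH gC = Z := PresentedGroup.toGroup.of gen3_rels

theorem toH_E : ∀ k, k < 5 → toH (HNOutPerm16.E k) = L k := by
  intro k hk
  interval_cases k
  · exact toH_A
  · exact (map_inv toH _).trans (congrArg (·⁻¹) toH_A)
  · exact toH_B
  · exact (map_inv toH _).trans (congrArg (·⁻¹) toH_B)
  · exact toH_C

theorem toH_el {w : List ℕ} (hw : ∀ k ∈ w, k < 5) : toH (HNOutPerm16.el w) = W w := by
  rw [HNOutPerm16.el, W, map_list_prod, List.map_map]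
  exact congrArg List.prod (List.map_congr_left fun k hk => toH_E k (hw k hk))

theorem X_sq_ne : X ^ 2 ≠ 1 := fun h => by
  obtain ⟨hx, -⟩ : rho (X ^ 2) ≠ 1 ∧ True := ⟨by
    rw [map_pow, show X = L 0 from rfl, rho_L]
    exact sq_ne (by norm_num) (by norm_num) (by norm_num) HNRepCheck29.x_sq, trivial⟩
  exact hx (by rw [h, map_one])

theorem toH_inj : Function.Injective toH := by
  have hd : (rho.comp toH) d ≠ 1 := by
    rw [MonoidHom.comp_apply, d, map_pow toH, toH_A, map_pow, show X = L 0 from rfl, rho_L]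
    exact sq_ne (by norm_num) (by norm_num) (by norm_num) HNRepCheck29.x_sq
  have hb : (rho.comp toH) (gB ^ 2) ≠ 1 := by
    rw [MonoidHom.comp_apply, map_pow toH, toH_B, map_pow, show Y = L 2 from rfl, rho_L]
    exact sq_ne (by norm_num) (by norm_num) (by norm_num) HNRepCheck29.y_sq
  rw [← MonoidHom.ker_eq_bot_iff]
  exact eq_bot_of_normal (rho.comp toH) hd hb inferInstance fun a ha => by
    rw [MonoidHom.comp_apply, MonoidHom.mem_ker.mp ha, map_one]

theorem d_ne_P3 : d ≠ 1 := HNSimple63.d_not_one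

theorem π_eq_iff {a b : P3} (h : π a = π b) : a = b ∨ a = b * d := by
  have h1 : π (b⁻¹ * a) = 1 := by rw [map_mul, map_inv, h, inv_mul_cancel]
  rcases (card_data (MonoidHom.id P3) HNSimple63.d_not_one).2 _ h1 with h2 | h2
  · exact Or.inl (inv_mul_eq_one.mp h2).symm
  · exact Or.inr (by rw [← h2, mul_inv_cancel_left])

/-! ### the elements -/

/-- The central involution of the double cover. -/
noncomputable def D : G := X ^ 2
/-- The element of order seven. -/
noncomputable def Gw : G := W gW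
/-- The involution commuting with it. -/
noncomputable def Uw : G := W uW
/-- The normalising element. -/
noncomputable def Nw : G := W nW
/-- The conjugate involution. -/
noncomputable def Cw : G := W cW

/-- Conjugates the central involution to the commuting involution. -/
def wdWord : List ℕ := [6, 6, 0, 2, 4, 3, 0, 5]
/-- Conjugates the central involution to the product. -/
def wdWord' : List ℕ := [6, 0, 2, 4, 3, 0, 5, 5]
/-- The value. -/
noncomputable def Wd : G := W wdWord
/-- The value. -/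
noncomputable def Wd' : G := W wdWord'

theorem W_two : W [0, 0] = D := by rw [D, sq, W_cons, W_single]; rfl

theorem W_zdt2 : W [4, 0, 0, 5, 5] = Z * D * T ^ 2 := by
  rw [D, sq, sq, W_cons, W_cons, W_cons, W_cons, W_single]
  simp only [L, mul_assoc]

theorem toH_d : toH d = D := by rw [d, map_pow, toH_A]; rfl
theorem toH_g : toH HNOutPerm16.g = Gw := toH_el (by decide)
theorem toH_u : toH HNOutPerm16.u = Uw := toH_el (by decide)
theorem toH_c : toH HNOutPerm16.c = Cw := toH_el (by decide)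

theorem D_sq : D * D = 1 := by rw [← toH_d, ← map_mul, d_sq, map_one]

theorem rel_t5 : T ^ 5 = 1 := by
  have h : q (Spor.HN.t ^ 5) = 1 := PresentedGroup.one_of_mem (Or.inr (by simp [Spor.HN.extra]))
  rwa [map_pow] at h

theorem rel_tx : X⁻¹ * T * X * T ^ 2 = 1 := by
  have h : q ((Spor.HN.x⁻¹ * Spor.HN.t * Spor.HN.x) * (Spor.HN.t ^ 2)) = 1 :=
    PresentedGroup.one_of_mem (Or.inr (by simp [Spor.HN.extra]))
  simp only [map_mul, map_inv, map_pow] at h
  exact h

theorem rel_ty : T⁻¹ * Y⁻¹ * T * Y = 1 := by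
  have h : q (Spor.HN.t⁻¹ * Spor.HN.y⁻¹ * Spor.HN.t * Spor.HN.y) = 1 :=
    PresentedGroup.one_of_mem (Or.inr (by simp [Spor.HN.extra]))
  simp only [map_mul, map_inv] at h
  exact h

theorem rel_zt : (Z * T) ^ 3 = 1 := by
  have h : q ((Spor.HN.z * Spor.HN.t) ^ 3) = 1 := PresentedGroup.one_of_mem (Or.inr (by simp [Spor.HN.extra]))
  simp only [map_mul, map_pow] at h
  exact h

theorem comm_TY : Commute T Y := by
  have h := rel_ty
  have : Y * T = T * Y := by
    calc Y * T = Y * T * (T⁻¹ * Y⁻¹ * T * Y) := by rw [h, mul_one]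
      _ = T * Y := by group
  exact this.symm

theorem conj_XT : X⁻¹ * T * X = T ^ 3 := by
  have h : X⁻¹ * T * X = (T ^ 2)⁻¹ := eq_inv_of_mul_eq_one_left rel_tx
  rw [h, inv_eq_iff_mul_eq_one, ← pow_add]
  exact rel_t5

theorem conj_DT : D⁻¹ * T * D = T⁻¹ := by
  have h : X⁻¹ * T * X = MulAut.conj X⁻¹ T := by simp
  have h3 : X⁻¹ * T ^ 3 * X = (X⁻¹ * T * X) ^ 3 := by rw [h, ← map_pow]; simp
  calc D⁻¹ * T * D = X⁻¹ * (X⁻¹ * T * X) * X := by rw [D, sq, mul_inv_rev]; simp only [mul_assoc]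
    _ = (T ^ 3) ^ 3 := by rw [conj_XT, h3, conj_XT]
    _ = T⁻¹ := by
      rw [← pow_mul, eq_inv_iff_mul_eq_one, ← pow_succ, show 3 * 3 + 1 = 5 * 2 from rfl, pow_mul,
        rel_t5, one_pow]

theorem comm_TXY : Commute T (X⁻¹ * Y * X) := by
  have h : Commute (MulAut.conj X⁻¹ T) (MulAut.conj X⁻¹ Y) := comm_TY.map (MulAut.conj X⁻¹).toMonoidHom
  have h1 : Commute (X⁻¹ * T * X) (X⁻¹ * Y * X) := by
    simpa [MulAut.conj_apply] using h
  rw [conj_XT] at h1
  have h2 := h1.pow_left 2
  rw [← pow_mul, show 3 * 2 = 5 + 1 from rfl, pow_succ, rel_t5, one_mul] at h2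
  exact h2

theorem Gw_eq : Gw = Y * Y * (X⁻¹ * Y * X) * Y * (X⁻¹ * Y * X)⁻¹ := by
  simp only [Gw, W, gW, List.map_cons, List.map_nil, List.prod_cons, List.prod_nil, L, mul_one]
  group

/-- An element commuting with `Y` and with its conjugate under `X` commutes with the element of order seven. -/
theorem comm_Gw {s : G} (h1 : Commute s Y) (h2 : Commute s (X⁻¹ * Y * X)) : Commute s Gw := by
  rw [Gw_eq]
  exact (((h1.mul_right h1).mul_right h2).mul_right h1).mul_right h2.inv_right

theorem comm_TG : Commute T Gw := comm_Gw comm_TY comm_TXY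

section

variable (hinj : Function.Injective rho)
include hinj

theorem u_sq_eq : Uw * Uw = 1 := by
  rw [Uw, ← W_append]
  exact W_one hinj u_sq _ rfl (by decide)

theorem g_pow_seven : Gw ^ 7 = 1 := by
  have h := W_one hinj g7 (gW ++ gW ++ gW ++ gW ++ gW ++ gW ++ gW) rfl (by decide)
  simp only [W_append] at h
  simpa [Gw, pow_succ] using h

theorem comm_GU : Commute Gw Uw := by
  have h := W_one hinj gu (gW ++ uW ++ invW gW ++ invW uW) rfl (by decide)
  rw [W_append, W_append, W_append, W_invW, W_invW] at h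
  have h' : Gw * Uw * Gw⁻¹ * Uw⁻¹ = 1 := h
  show Gw * Uw = Uw * Gw
  rwa [mul_inv_eq_one, mul_inv_eq_iff_eq_mul] at h'

theorem conj_N : Nw * Gw * Nw⁻¹ = Gw ^ 3 := by
  have h := W_one hinj ngn (nW ++ gW ++ invW nW ++ invW gW ++ invW gW ++ invW gW) rfl (by decide)
  rw [W_append, W_append, W_append, W_append, W_append, W_invW, W_invW] at h
  have h' : Nw * Gw * Nw⁻¹ * Gw⁻¹ * Gw⁻¹ * Gw⁻¹ = 1 := h
  rw [mul_inv_eq_one, mul_inv_eq_iff_eq_mul, mul_inv_eq_iff_eq_mul] at h'
  rw [h', pow_succ, pow_succ, pow_one]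

theorem conj_DU : Wd * D * Wd⁻¹ = Uw := by
  have h := W_one hinj wdw (wdWord ++ [0, 0] ++ invW wdWord ++ invW uW) rfl (by decide)
  rw [W_append, W_append, W_append, W_invW, W_invW, W_two] at h
  exact mul_inv_eq_one.mp h

theorem conj_DUD : Wd' * D * Wd'⁻¹ = D * Uw := by
  have h := W_one hinj wdw2 (wdWord' ++ [0, 0] ++ invW wdWord' ++ invW uW ++ invW [0, 0]) rfl (by decide)
  rw [W_append, W_append, W_append, W_append, W_invW, W_invW, W_invW, W_two] at h
  rw [mul_inv_eq_one, mul_inv_eq_iff_eq_mul] at h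
  exact h

theorem rel_zdt : (Z * D * T ^ 2) ^ 3 = 1 := by
  have h := W_one hinj zdt ([4, 0, 0, 5, 5] ++ [4, 0, 0, 5, 5] ++ [4, 0, 0, 5, 5]) rfl (by decide)
  rw [W_append, W_append, W_zdt2] at h
  rw [pow_succ, pow_succ, pow_one]
  exact h

omit hinj in
theorem ne_utu : Uw * T * Uw * Y * (Uw * T * Uw)⁻¹ * Y⁻¹ ≠ 1 := by
  have h := W_ne (w := [0, 2, 4, 3, 0, 5, 0, 2, 4, 3, 0, 2, 1, 2, 4, 3, 1, 6, 1, 2, 4, 3, 1, 3])
    (by decide) (by norm_num) (by norm_num) utu_y
  rw [show ([0, 2, 4, 3, 0, 5, 0, 2, 4, 3, 0, 2, 1, 2, 4, 3, 1, 6, 1, 2, 4, 3, 1, 3] : List ℕ) =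
    uW ++ [5] ++ uW ++ [2] ++ invW (uW ++ [5] ++ uW) ++ [3] from rfl] at h
  simp only [W_append, W_invW, W_single, L] at h
  exact h

omit hinj in
theorem ne_zt2 : (Z * T ^ 2) ^ 3 ≠ 1 := by
  have h := W_ne (w := [4, 5, 5, 4, 5, 5, 4, 5, 5]) (by decide) (by norm_num) (by norm_num) zt2
  simp only [W_cons, W_nil, L, mul_one] at h
  simpa only [pow_succ, pow_zero, one_mul, mul_assoc] using h

omit hinj in
theorem ne_zt3 : (Z * T ^ 3) ^ 3 ≠ 1 := by
  have h := W_ne (w := [4, 5, 5, 5, 4, 5, 5, 5, 4, 5, 5, 5]) (by decide) (by norm_num) (by norm_num) zt3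
  simp only [W_cons, W_nil, L, mul_one] at h
  simpa only [pow_succ, pow_zero, one_mul, mul_assoc] using h

omit hinj in
theorem ne_zdt1 : (Z * D * T) ^ 3 ≠ 1 := by
  have h := W_ne (w := [4, 0, 0, 5, 4, 0, 0, 5, 4, 0, 0, 5]) (by decide) (by norm_num) (by norm_num) zdt1
  simp only [W_cons, W_nil, L, mul_one] at h
  simpa only [D, pow_succ, pow_zero, one_mul, mul_assoc] using h

omit hinj in
theorem ne_zdt4 : (Z * D * T ^ 4) ^ 3 ≠ 1 := by
  have h := W_ne (w := [4, 0, 0, 5, 5, 5, 5, 4, 0, 0, 5, 5, 5, 5, 4, 0, 0, 5, 5, 5, 5]) (by decide)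
    (by norm_num) (by norm_num) zdt4
  simp only [W_cons, W_nil, L, mul_one] at h
  simpa only [D, pow_succ, pow_zero, one_mul, mul_assoc] using h

omit hinj in
theorem T_ne : T ≠ 1 := by
  have h := W_ne (w := [5]) (by decide) (by norm_num) (by norm_num) t_ne
  simp only [W_cons, W_nil, L, mul_one] at h
  exact h

end

end Cfsg.Agent.HNOut16
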