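import Mathlib.GroupTheory.SpecificGroups.Alternating

/-! In the alternating group on five points the elements of order five inverted by an involution are the powers
of one of them and of its conjugate under the centraliser of the involution. -/

set_option autoImplicit false
set_option maxRecDepth 100000

namespace Cfsg.Agent.HNOutFive16

/-- Composition of tables. -/
def mulL (a b : List ℕ) : List ℕ := b.map fun x => a.getD x 0

/-- The identity table. -/
def idL : List ℕ := [0, 1, 2, 3, 4]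

/-- Powers of a table. -/
def powL (a : List ℕ) : ℕ → List ℕ
  | 0 => idL
  | n + 1 => mulL a (powL a n)

/-- The even tables. -/
def P5 : List (List ℕ) := [[0, 1, 2, 3, 4], [0, 1, 3, 4, 2], [0, 1, 4, 2, 3], [0, 2, 1, 4, 3], [0, 2, 3, 1, 4], [0, 2, 4, 3, 1], [0, 3, 1, 2, 4], [0, 3, 2, 4, 1], [0, 3, 4, 1, 2], [0, 4, 1, 3, 2], [0, 4, 2, 1, 3], [0, 4, 3, 2, 1], [1, 0, 2, 4, 3], [1, 0, 3, 2, 4], [1, 0, 4, 3, 2], [1, 2, 0, 3, 4], [1, 2, 3, 4, 0], [1, 2, 4, 0, 3], [1, 3, 0, 4, 2], [1, 3, 2, 0, 4], [1, 3, 4, 2, 0], [1, 4, 0, 2, 3], [1, 4, 2, 3, 0], [1, 4, 3, 0, 2], [2, 0, 1, 3, 4], [2, 0, 3, 4, 1], [2, 0, 4, 1, 3], [2, 1, 0, 4, 3], [2, 1, 3, 0, 4], [2, 1, 4, 3, 0], [2, 3, 0, 1, 4], [2, 3, 1, 4, 0], [2, 3, 4, 0, 1], [2, 4, 0, 3, 1], [2, 4, 1, 0, 3], [2, 4, 3, 1, 0], [3, 0, 1, 4, 2], [3, 0, 2, 1, 4], [3, 0, 4, 2, 1], [3, 1, 0, 2, 4], [3, 1, 2, 4, 0], [3, 1, 4, 0, 2], [3, 2, 0, 4, 1], [3, 2, 1, 0, 4], [3, 2, 4, 1, 0], [3, 4, 0, 1, 2],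 [3, 4, 1, 2, 0], [3, 4, 2, 0, 1], [4, 0, 1, 2, 3], [4, 0, 2, 3, 1], [4, 0, 3, 1, 2], [4, 1, 0, 3, 2], [4, 1, 2, 0, 3], [4, 1, 3, 2, 0], [4, 2, 0, 1, 3], [4, 2, 1, 3, 0], [4, 2, 3, 0, 1], [4, 3, 0, 2, 1], [4, 3, 1, 0, 2], [4, 3, 2, 1, 0]]

/-- The check. -/
def fiveOK : Bool :=
  P5.all fun e => !(mulL e e == idL && !(e == idL)) || P5.all fun t =>
    !(mulL t (mulL e (mulL t e)) == idL && powL t 5 == idL && !(t == idL)) || P5.all fun v =>
      !(mulL v e == mulL e v && !(v == idL) && !(v == e)) || P5.all fun r =>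
        !(mulL r (mulL e (mulL r e)) == idL && powL r 5 == idL) || (List.range 5).any fun i =>
          r == powL t i || mulL r v == mulL v (powL t i)

theorem five_check : fiveOK = true := by decide +kernel

/-- The table of a permutation. -/
def tab (p : Equiv.Perm (Fin 5)) : List ℕ := (List.finRange 5).map fun i => (p i : ℕ)

theorem tab_mem : ∀ p : Equiv.Perm (Fin 5), Equiv.Perm.sign p = 1 → tab p ∈ P5 := by decide +kernel

theorem tab_mul (p q : Equiv.Perm (Fin 5)) : tab (p * q) = mulL (tab p) (tab q) := by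
  simp [tab, mulL, List.map_map, List.getD_eq_getElem?_getD]

theorem tab_one : tab 1 = idL := by decide

theorem tab_inj {p q : Equiv.Perm (Fin 5)} (h : tab p = tab q) : p = q := by
  ext i
  have := congrArg (fun l => l.getD i.1 0) h
  simpa [tab, List.getD_eq_getElem?_getD] using this

theorem tab_pow (p : Equiv.Perm (Fin 5)) : ∀ n, tab (p ^ n) = powL (tab p) n
  | 0 => tab_one
  | n + 1 => by rw [pow_succ', tab_mul, tab_pow p n, powL]

theorem five_cases {e t v r : ↥(alternatingGroup (Fin 5))} (he : e * e = 1) (he1 : e ≠ 1)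
    (ht : t ^ 5 = 1) (ht1 : t ≠ 1) (het : e * t * e = t⁻¹) (hv : v * e = e * v) (hv1 : v ≠ 1) (hve : v ≠ e)
    (hr : r ^ 5 = 1) (her : e * r * e = r⁻¹) :
    ∃ i < 5, r = t ^ i ∨ r = v * t ^ i * v⁻¹ := by
  have mem : ∀ a : ↥(alternatingGroup (Fin 5)), tab a.1 ∈ P5 := fun a => tab_mem a.1 a.2
  have k : ∀ {a b : ↥(alternatingGroup (Fin 5))}, (tab a.1 == tab b.1) = true ↔ a = b := fun {a b} =>
    ⟨fun h => Subtype.ext (tab_inj (beq_iff_eq.mp h)), fun h => by rw [h]; exact beq_self_eq_true _⟩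
  have T1 : idL = tab ((1 : ↥(alternatingGroup (Fin 5))).1) := tab_one.symm
  have M : ∀ a b : ↥(alternatingGroup (Fin 5)), mulL (tab a.1) (tab b.1) = tab (a * b).1 :=
    fun a b => (tab_mul a.1 b.1).symm
  have W : ∀ (a : ↥(alternatingGroup (Fin 5))) (n : ℕ), powL (tab a.1) n = tab (a ^ n).1 :=
    fun a n => (tab_pow a.1 n).symm
  have F : ∀ {a b : ↥(alternatingGroup (Fin 5))}, a ≠ b → (tab a.1 == tab b.1) = false :=
    fun hab => Bool.eq_false_iff.mpr (mt k.mp hab)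
  have h := five_check
  simp only [fiveOK, List.all_eq_true] at h
  have h1 := h _ (mem e)
  rw [T1, M, k.mpr he, F he1] at h1
  simp only [Bool.not_false, Bool.and_self, Bool.not_true, Bool.false_or, List.all_eq_true] at h1
  have h2 := h1 _ (mem t)
  have e2 : t * (e * (t * e)) = 1 := by
    rw [show t * (e * (t * e)) = t * (e * t * e) by group, het, mul_inv_cancel]
  rw [M t e, M e, M t, k.mpr e2, W, k.mpr ht, F ht1] at h2
  simp only [Bool.not_false, Bool.and_self, Bool.not_true, Bool.false_or, List.all_eq_true] at h2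
  have h3 := h2 _ (mem v)
  rw [M, M, k.mpr hv, F hv1, F hve] at h3
  simp only [Bool.not_false, Bool.and_self, Bool.not_true, Bool.false_or, List.all_eq_true] at h3
  have h4 := h3 _ (mem r)
  have e4 : r * (e * (r * e)) = 1 := by
    rw [show r * (e * (r * e)) = r * (e * r * e) by group, her, mul_inv_cancel]
  rw [M r e, M e, M r, k.mpr e4, W, k.mpr hr] at h4
  simp only [Bool.and_self, Bool.not_true, Bool.false_or, List.any_eq_true, List.mem_range, Bool.or_eq_true] at h4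
  obtain ⟨i, hi, h5⟩ := h4
  rw [W, M, M, k, k] at h5
  exact ⟨i, hi, h5.imp id fun h6 => eq_mul_inv_of_mul_eq h6⟩

end Cfsg.Agent.HNOutFive16
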