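import Cfsg.Agent.Lib.HNOutBase16
import Cfsg.Agent.Lib.HNOutFive16
import Cfsg.Agent.Lib.KleinSelfCent

/-!
The centraliser of an element of order seven in the Harada–Norton group is the product of that element with
the alternating group on five points.
-/

set_option autoImplicit false
set_option linter.style.haveILetI false

namespace Cfsg.Agent.HNOut16

open Cfsg Cfsg.Agent.HNTwoHSGroup66 Cfsg.Agent.HNTwoHSEmbed66 Cfsg.Agent.HNRep29
open Cfsg.Agent.HNSimple63 (toH H H_le_range)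

local notation "G" => Spor.HN

/-- The structural facts about the presented group that are used. -/
structure Hyp : Prop where
  fin : Finite G
  card : Nat.card G = 273030912000000
  coatom : IsCoatom H
  simple : IsSimpleGroup G

variable (h : Hyp)
include h

theorem inj : Function.Injective rho := by
  haveI := h.simple
  rcases Subgroup.Normal.eq_bot_or_eq_top (MonoidHom.normal_ker rho) with e | e
  · exact (MonoidHom.ker_eq_bot_iff rho).mp e
  · exfalso
    have h1 : rho (X ^ 2) = 1 := MonoidHom.mem_ker.mp (e ▸ Subgroup.mem_top _)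
    rw [map_pow, show X = L 0 from rfl, rho_L] at h1
    exact sq_ne (by norm_num) (by norm_num) (by norm_num) HNRepCheck29.x_sq h1

theorem u_sq' : Uw * Uw = 1 := u_sq_eq (inj h)
theorem g7' : Gw ^ 7 = 1 := g_pow_seven (inj h)
theorem gu' : Commute Gw Uw := comm_GU (inj h)

omit h in
theorem toH_mem_H (p : P3) : toH p ∈ H := by
  have hp : p ∈ Subgroup.closure ({gA, gB, gC} : Set P3) := by rw [closure_gen]; exact Subgroup.mem_top _
  induction hp using Subgroup.closure_induction with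
  | mem x hx =>
    rcases hx with rfl | rfl | rfl
    · rw [toH_A]; exact Subgroup.mem_map_of_mem q (Subgroup.subset_closure (by simp))
    · rw [toH_B]; exact Subgroup.mem_map_of_mem q (Subgroup.subset_closure (by simp))
    · rw [toH_C]; exact Subgroup.mem_map_of_mem q (Subgroup.subset_closure (by simp))
  | one => rw [map_one]; exact one_mem _
  | mul x y _ _ hx hy => rw [map_mul]; exact mul_mem hx hy
  | inv x _ hx => rw [map_inv]; exact inv_mem hx

omit h in
theorem comm_toH_D (p : P3) : Commute (toH p) D := by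
  rw [← toH_d, Commute, SemiconjBy, ← map_mul, ← map_mul, d_comm]

omit h in
theorem D_inv : D⁻¹ = D := inv_eq_of_mul_eq_one_right D_sq

omit h in
theorem DTD : D * T * D = T⁻¹ := by
  have := conj_DT
  rwa [D_inv] at this

omit h in
theorem not_comm_DT : ¬ Commute D T := fun hc => by
  have h1 := DTD
  rw [hc.eq, mul_assoc, D_sq, mul_one] at h1
  apply T_ne
  have h2 : T ^ 2 = 1 := by
    rw [sq]
    exact eq_inv_iff_mul_eq_one.mp h1
  have := rel_t5
  rw [show 5 = 2 * 2 + 1 from rfl, pow_succ, pow_mul, h2, one_pow, one_mul] at this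
  exact this

theorem cent_D {s : G} (hs : Commute s D) : ∃ p : P3, toH p = s := by
  have hle : H ≤ Subgroup.centralizer ({D} : Set G) := fun a ha => by
    obtain ⟨p, rfl⟩ := H_le_range ha
    exact Subgroup.mem_centralizer_singleton_iff.mpr (comm_toH_D p).eq
  rcases hle.eq_or_lt with e | e
  · exact H_le_range (e ▸ Subgroup.mem_centralizer_singleton_iff.mpr hs.eq)
  · exfalso
    have hT : T ∈ Subgroup.centralizer ({D} : Set G) := h.coatom.2 _ e ▸ Subgroup.mem_top T
    exact not_comm_DT (Subgroup.mem_centralizer_singleton_iff.mp hT).symm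

omit h in
theorem Gw_ne : Gw ≠ 1 := fun e => by
  have h1 : HNOutPerm16.g = 1 := toH_inj (by rw [toH_g, e, map_one])
  have h2 := HNOutPerm16.π_g ⟨0, by norm_num⟩
  rw [h1, map_one, Equiv.Perm.one_apply] at h2
  rcases HNOutPerm16.fix_check ⟨0, by norm_num⟩ h2.symm with h3 | h3 <;> exact absurd h3 (by norm_num)

omit h in
theorem π_u_ne : π HNOutPerm16.u ≠ 1 := fun e => by
  obtain ⟨i, hi⟩ : ∃ i : Fin 100, HNOutPerm16.ev HNOutData16.uP i ≠ i := by decide +kernel
  have h2 := HNOutPerm16.π_u i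
  rw [e, Equiv.Perm.one_apply] at h2
  exact hi h2.symm

theorem order_G : orderOf Gw = 7 := orderOf_eq_prime (hp := ⟨by norm_num⟩) (g7' h) Gw_ne

theorem pow_eq_one_of_sq {i : ℕ} (hi : (Gw ^ i) ^ 2 = 1) : Gw ^ i = 1 := by
  have h7 : (Gw ^ i) ^ 7 = 1 := by rw [← pow_mul, mul_comm, pow_mul, g7' h, one_pow]
  have := pow_gcd_eq_one.mpr ⟨hi, h7⟩
  simpa using this

/-- The centraliser of the element of order seven in the centraliser of the involution. -/
theorem cent_GD {s : G} (hg : Commute s Gw) (hd : Commute s D) :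
    ∃ i : ℕ, s = Gw ^ i ∨ s = Gw ^ i * D ∨ s = Gw ^ i * Uw ∨ s = Gw ^ i * (Uw * D) := by
  obtain ⟨p, rfl⟩ := cent_D h hd
  have hp : p * HNOutPerm16.g = HNOutPerm16.g * p := toH_inj (by rw [map_mul, map_mul, toH_g, hg.eq])
  obtain ⟨k, -, hk⟩ := HNOutPerm16.π_cent p (by rw [← map_mul, hp, map_mul])
  refine ⟨k % 7, ?_⟩
  rcases π_eq_iff hk with e | e <;> by_cases hk7 : k < 7 <;> simp only [hk7, if_true, if_false] at e
  · exact Or.inl (by rw [e, mul_one, map_pow, toH_g])
  · exact Or.inr (Or.inr (Or.inl (by rw [e, map_mul, map_pow, toH_g, toH_u])))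
  · exact Or.inr (Or.inl (by rw [e, mul_one, map_mul, map_pow, toH_g, toH_d]))
  · exact Or.inr (Or.inr (Or.inr (by rw [e, mul_assoc, map_mul, map_mul, map_pow, toH_g, toH_u, toH_d])))

/-- The centraliser. -/
noncomputable abbrev C : Subgroup G := Subgroup.centralizer ({Gw} : Set G)

omit h in
theorem mem_C {s : G} : s ∈ C ↔ Commute s Gw := Subgroup.mem_centralizer_singleton_iff

omit h in
theorem D_mem : D ∈ C := mem_C.mpr (toH_g ▸ (comm_toH_D HNOutPerm16.g).symm)

omit h in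
theorem T_mem : T ∈ C := mem_C.mpr comm_TG

theorem U_mem : Uw ∈ C := mem_C.mpr (gu' h).symm

omit h in
theorem Wd_eq : Wd = T⁻¹ * T⁻¹ * Uw * T ∧ Wd' = T⁻¹ * Uw * T * T := by
  constructor <;>
    simp only [Wd, Wd', Uw, W, wdWord, wdWord', HNOutData16.uW, List.map_cons, List.map_nil, List.prod_cons,
      List.prod_nil, L, mul_one, mul_assoc]

theorem Wd_mem : Wd ∈ C ∧ Wd' ∈ C := by
  have hT := T_mem
  have hU := U_mem h
  rw [Wd_eq.1, Wd_eq.2]
  exact ⟨mul_mem (mul_mem (mul_mem (inv_mem hT) (inv_mem hT)) hU) hT,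
    mul_mem (mul_mem (mul_mem (inv_mem hT) hU) hT) hT⟩

omit h in
/-- The element of order seven inside its centraliser. -/
noncomputable def gC' : C := ⟨Gw, mem_C.mpr (Commute.refl Gw)⟩

omit h in
/-- The central subgroup of order seven. -/
noncomputable def K : Subgroup C := Subgroup.zpowers gC'

omit h in
instance normal_K : K.Normal := ⟨fun n hn a => by
  obtain ⟨i, rfl⟩ := Subgroup.mem_zpowers_iff.mp hn
  have hc : Commute a (gC' ^ i) :=
    (show Commute a gC' from Subtype.ext (mem_C.mp a.2).eq).zpow_right i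
  rw [hc.eq, mul_inv_cancel_right]
  exact Subgroup.mem_zpowers_iff.mpr ⟨i, rfl⟩⟩

omit h in
/-- The quotient. -/
abbrev A : Type := C ⧸ K

omit h in
/-- The quotient map. -/
noncomputable def mk : C →* A := QuotientGroup.mk' K

theorem mem_K {a : C} (ha : a ∈ K) : ∃ i : ℕ, (a : G) = Gw ^ i := by
  haveI := h.fin
  obtain ⟨i, hi⟩ := (mem_powers_iff_mem_zpowers (x := gC') (y := a)).mpr ha
  exact ⟨i, by rw [← hi]; rfl⟩

omit h in
theorem pow_mem_K {a : C} (i : ℕ) (ha : (a : G) = Gw ^ i) : a ∈ K := by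
  rw [show a = gC' ^ i from Subtype.ext ha]
  exact pow_mem (Subgroup.mem_zpowers _) i

theorem mk_eq {a b : C} (e : mk a = mk b) : ∃ i : ℕ, (b : G) = (a : G) * Gw ^ i := by
  obtain ⟨i, hi⟩ := mem_K h (QuotientGroup.eq.mp e)
  exact ⟨i, by rw [← hi, Subgroup.coe_mul, Subgroup.coe_inv, mul_inv_cancel_left]⟩

omit h in
theorem mk_gC : mk gC' = 1 := (QuotientGroup.eq_one_iff _).mpr (Subgroup.mem_zpowers _)

omit h in
theorem mk_of_eq {a b : C} (i : ℕ) (e : (a : G) = Gw ^ i * (b : G)) : mk a = mk b := by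
  rw [show a = gC' ^ i * b from Subtype.ext e, map_mul, map_pow, mk_gC, one_pow, one_mul]

/-- Lifts of exponents prime to seven are unique. -/
theorem eq_of_mk {a b : C} {n : ℕ} (hn : Nat.Coprime n 7) (ha : (a : G) ^ n = 1) (hb : (b : G) ^ n = 1)
    (e : mk a = mk b) : (a : G) = b := by
  obtain ⟨i, hi⟩ := mk_eq h e
  have hc : Commute (a : G) (Gw ^ i) := (mem_C.mp a.2).pow_right i
  rw [hi, hc.mul_pow, ha, one_mul] at hb
  have h7 : (Gw ^ i) ^ 7 = 1 := by rw [← pow_mul, mul_comm, pow_mul, g7' h, one_pow]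
  have := pow_gcd_eq_one.mpr ⟨hb, h7⟩
  rw [hn, pow_one] at this
  rw [hi, this, mul_one]

/-- Every element of order two of the quotient lifts. -/
theorem lift_two {x : A} (hx : x ^ 2 = 1) : ∃ s : C, mk s = x ∧ (s : G) * s = 1 := by
  obtain ⟨a, rfl⟩ := QuotientGroup.mk'_surjective K x
  obtain ⟨i, hi⟩ := mem_K h (show a ^ 2 ∈ K from (QuotientGroup.eq_one_iff _).mp ((map_pow mk a 2).trans hx))
  refine ⟨a ^ 7, ?_, ?_⟩
  · rw [map_pow, show 7 = 2 * 3 + 1 from rfl, pow_succ, pow_mul, show mk a ^ 2 = 1 from hx, one_pow, one_mul]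
    rfl
  · rw [Subgroup.coe_pow, ← sq, ← pow_mul, mul_comm, pow_mul, ← Subgroup.coe_pow, hi, ← pow_mul, mul_comm,
      pow_mul, g7' h, one_pow]

/-- The image of the central involution. -/
noncomputable def dA : A := mk ⟨D, D_mem⟩

/-- The image of the other involution. -/
noncomputable def uA : A := mk ⟨Uw, U_mem h⟩

omit h in
theorem dA_sq : dA * dA = 1 := by
  rw [dA, ← map_mul, show (⟨D, D_mem⟩ : C) * ⟨D, D_mem⟩ = 1 from Subtype.ext D_sq, map_one]

theorem uA_sq : uA h * uA h = 1 := by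
  rw [uA, ← map_mul, show (⟨Uw, U_mem h⟩ : C) * ⟨Uw, U_mem h⟩ = 1 from Subtype.ext (u_sq' h), map_one]

theorem dA_ne : dA ≠ 1 := fun e => by
  have := eq_of_mk h (n := 2) (by norm_num) (by rw [sq]; exact D_sq) (one_pow _) (e.trans (map_one mk).symm)
  exact d_ne_P3 (toH_inj (by rw [toH_d, map_one]; exact this))

theorem uA_ne : uA h ≠ 1 := fun e => by
  have := eq_of_mk h (n := 2) (by norm_num) (by rw [sq]; exact u_sq' h) (one_pow _) (e.trans (map_one mk).symm)
  exact π_u_ne (by rw [toH_inj (show toH HNOutPerm16.u = toH 1 by rw [toH_u, map_one]; exact this), map_one])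

theorem uA_ne_dA : uA h ≠ dA := fun e => by
  have := eq_of_mk h (n := 2) (by norm_num) (by rw [sq]; exact u_sq' h) (by rw [sq]; exact D_sq) e
  exact π_u_ne (by rw [toH_inj (show toH HNOutPerm16.u = toH d by rw [toH_u, toH_d]; exact this), π_d])

theorem comm_dA_uA : Commute dA (uA h) := by
  rw [dA, uA]
  refine (show Commute (⟨D, D_mem⟩ : C) ⟨Uw, U_mem h⟩ from Subtype.ext ?_).map mk
  show D * Uw = Uw * D
  rw [← toH_u]
  exact (comm_toH_D _).symm.eq

theorem hcent (x : A) (hx : Commute x dA) : x = 1 ∨ x = dA ∨ x = uA h ∨ x = dA * uA h := by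
  obtain ⟨a, rfl⟩ := QuotientGroup.mk'_surjective K x
  have e : mk ⟨D, D_mem⟩ = mk (a * ⟨D, D_mem⟩ * a⁻¹) := by
    rw [map_mul, map_mul, map_inv]
    exact eq_mul_inv_of_mul_eq hx.eq.symm
  have h2 : ((a : G) * D * (a : G)⁻¹) ^ 2 = 1 := by
    rw [conj_pow, sq, D_sq, mul_one, mul_inv_cancel]
  have hD : D = (a : G) * D * (a : G)⁻¹ := eq_of_mk h (n := 2) (by norm_num) (by rw [sq]; exact D_sq) h2 e
  have hc : Commute (a : G) D := (eq_mul_inv_iff_mul_eq.mp hD).symm
  obtain ⟨i, e1 | e1 | e1 | e1⟩ := cent_GD h (mem_C.mp a.2) hc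
  · exact Or.inl ((QuotientGroup.eq_one_iff a).mpr (pow_mem_K i e1))
  · exact Or.inr (Or.inl (mk_of_eq i e1))
  · exact Or.inr (Or.inr (Or.inl (mk_of_eq (b := ⟨Uw, U_mem h⟩) i e1)))
  · refine Or.inr (Or.inr (Or.inr ?_))
    rw [(comm_dA_uA h).eq, uA, dA, ← map_mul]
    exact mk_of_eq i e1

theorem conj_uA : IsConj dA (uA h) ∧ IsConj dA (dA * uA h) := by
  constructor
  · refine isConj_iff.mpr ⟨mk ⟨Wd, (Wd_mem h).1⟩, ?_⟩
    rw [dA, uA, ← map_inv, ← map_mul, ← map_mul]
    exact congrArg mk (Subtype.ext (conj_DU (inj h)))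
  · refine isConj_iff.mpr ⟨mk ⟨Wd', (Wd_mem h).2⟩, ?_⟩
    rw [dA, uA, ← map_inv, ← map_mul, ← map_mul, ← map_mul]
    exact congrArg mk (Subtype.ext (conj_DUD (inj h)))

theorem conj_of_comm {x : A} (hx : x * x = 1) (hx1 : x ≠ 1) (hc : Commute x dA) : IsConj dA x := by
  rcases hcent h x hc with e | e | e | e
  · exact absurd e hx1
  · rw [e]
  · rw [e]; exact (conj_uA h).1
  · rw [e]; exact (conj_uA h).2

theorem one_class {x : A} (hx : x * x = 1) (hx1 : x ≠ 1) : IsConj dA x := by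
  haveI := h.fin
  have hxi : x⁻¹ = x := inv_eq_of_mul_eq_one_right hx
  have hdi : dA⁻¹ = dA := inv_eq_of_mul_eq_one_right dA_sq
  set r := x * dA with hr
  have hri : r⁻¹ = dA * x := by rw [hr, mul_inv_rev, hxi, hdi]
  have hdr : dA * r * dA⁻¹ = r⁻¹ := by rw [hri, hdi, hr, mul_assoc, mul_assoc, dA_sq, mul_one]
  rcases Nat.even_or_odd' (orderOf r) with ⟨k, hk | hk⟩
  · have hk0 : 0 < k := by
      have := orderOf_pos r
      omega
    have hw2 : r ^ k * r ^ k = 1 := by rw [← pow_add, ← two_mul, ← hk, pow_orderOf_eq_one]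
    have hw1 : r ^ k ≠ 1 := pow_ne_one_of_lt_orderOf hk0.ne' (by omega)
    have hwd : Commute (r ^ k) dA := by
      have e : dA * r ^ k * dA⁻¹ = r ^ k := by
        rw [← conj_pow, hdr, inv_pow, inv_eq_of_mul_eq_one_right hw2]
      exact (mul_inv_eq_iff_eq_mul.mp e).symm
    have hwx : Commute (r ^ k) x := by
      have e1 : Commute (r ^ k) r := (Commute.refl r).pow_left k
      have e2 := e1.mul_right hwd
      rwa [hr, mul_assoc, dA_sq, mul_one] at e2
    obtain ⟨c, hcc⟩ := isConj_iff.mp (conj_of_comm h hw2 hw1 hwd)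
    have hy : IsConj dA (c⁻¹ * x * c) := by
      refine conj_of_comm h ?_ ?_ ?_
      · rw [show c⁻¹ * x * c * (c⁻¹ * x * c) = c⁻¹ * (x * x) * c by group, hx, mul_one, inv_mul_cancel]
      · intro e
        apply hx1
        rw [show x = c * (c⁻¹ * x * c) * c⁻¹ by group, e, mul_one, mul_inv_cancel]
      · rw [← hcc] at hwx
        have := hwx.map (MulAut.conj c⁻¹).toMonoidHom
        simpa [MulAut.conj_apply, mul_assoc] using this.symm
    exact hy.trans (isConj_iff.mpr ⟨c, by group⟩)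
  · refine isConj_iff.mpr ⟨dA * r ^ k, ?_⟩
    have e : dA * r ^ k * dA⁻¹ = (r ^ k)⁻¹ := by rw [← conj_pow, hdr, inv_pow]
    have e2 : r ^ k * dA = dA * (r ^ k)⁻¹ := by
      rw [← e, hdi]
      simp only [← mul_assoc, dA_sq, one_mul]
    calc dA * r ^ k * dA * (dA * r ^ k)⁻¹ = dA * (r ^ k * dA) * (r ^ k)⁻¹ * dA⁻¹ := by group
      _ = (r ^ k)⁻¹ * (r ^ k)⁻¹ * dA⁻¹ := by rw [e2]; simp only [← mul_assoc, dA_sq, one_mul]
      _ = r * dA⁻¹ := by
        congr 1
        rw [← mul_inv_rev, ← pow_add]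
        apply inv_eq_of_mul_eq_one_right
        rw [← pow_succ, ← two_mul, ← hk, pow_orderOf_eq_one]
      _ = x := by rw [hr, mul_inv_cancel_right]

theorem not_eight_dvd : ¬ 8 ∣ Nat.card A := by
  intro h8
  haveI := h.fin
  haveI : Fact (Nat.Prime 2) := ⟨Nat.prime_two⟩
  obtain ⟨P, hP⟩ := Sylow.exists_subgroup_card_pow_prime 2 (n := 3) (by simpa using h8)
  have hPg : IsPGroup 2 P := IsPGroup.of_card hP
  haveI : Nontrivial P := by
    rw [← Finite.one_lt_card_iff_nontrivial, hP]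
    norm_num
  haveI := hPg.center_nontrivial
  obtain ⟨n, hn⟩ := (hPg.to_subgroup (Subgroup.center P)).exists_card_eq
  obtain ⟨z, hz⟩ : ∃ z : Subgroup.center P, orderOf z = 2 := exists_prime_orderOf_dvd_card' 2 (by
    rcases n with _ | n
    · have := Finite.one_lt_card (α := Subgroup.center P)
      rw [hn] at this
      simp at this
    · exact ⟨2 ^ n, by rw [hn, pow_succ']⟩)
  have hz2 : ((z : P) : A) * ((z : P) : A) = 1 := by
    have := congrArg (fun v : Subgroup.center P => ((v : P) : A)) (pow_orderOf_eq_one z)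
    rw [hz] at this
    simpa [sq] using this
  have hz1 : ((z : P) : A) ≠ 1 := fun e => by
    have : z = 1 := Subtype.ext (Subtype.ext e)
    rw [this, orderOf_one] at hz
    norm_num at hz
  obtain ⟨c, hc⟩ := isConj_iff.mp (one_class h hz2 hz1)
  have hmem : ∀ p : P, c⁻¹ * (p : A) * c ∈ ({1, dA, uA h, dA * uA h} : Set A) := fun p => by
    have hp : Commute (p : A) ((z : P) : A) :=
      congrArg Subtype.val (Subgroup.mem_center_iff.mp z.2 p)
    rw [← hc] at hp
    have h4 := hp.map (MulAut.conj c⁻¹).toMonoidHom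
    have h5 : Commute (c⁻¹ * (p : A) * c) dA := by simpa [MulAut.conj_apply, mul_assoc] using h4
    simpa using hcent h _ h5
  have hle := Nat.card_le_card_of_injective
    (fun p : P => (⟨c⁻¹ * (p : A) * c, hmem p⟩ : ({1, dA, uA h, dA * uA h} : Set A)))
    (fun a b hab => by simpa using congrArg Subtype.val hab)
  have h4 : Nat.card ({1, dA, uA h, dA * uA h} : Set A) ≤ 4 := by
    rw [Nat.card_coe_set_eq]
    refine (Set.ncard_insert_le _ _).trans (Nat.add_le_add_right ((Set.ncard_insert_le _ _).trans ?_) 1)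
    refine Nat.add_le_add_right ((Set.ncard_insert_le _ _).trans ?_) 1
    rw [Set.ncard_singleton]
  rw [hP] at hle
  exact absurd (hle.trans h4) (by norm_num)

omit h in
theorem T_pow_ne {i : ℕ} : T ^ (5 * i + 1) ≠ 1 := by
  rw [pow_succ, pow_mul, rel_t5, one_pow, one_mul]; exact T_ne

/-- The image of the fourth generator. -/
noncomputable def tA : A := mk ⟨T, T_mem⟩

omit h in
theorem tA_five : tA ^ 5 = 1 := by
  rw [tA, ← map_pow, show (⟨T, T_mem⟩ : C) ^ 5 = 1 from Subtype.ext rel_t5, map_one]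

theorem tA_ne : tA ≠ 1 := fun e => by
  have := eq_of_mk h (n := 5) (by norm_num) rel_t5 (one_pow _) (e.trans (map_one mk).symm)
  exact T_ne this

theorem iso_A5 : Nonempty (A ≃* ↥(alternatingGroup (Fin 5))) := by
  haveI := h.fin
  haveI : Fact (Nat.Prime 2) := ⟨Nat.prime_two⟩
  have o : ∀ x : A, orderOf x = 2 ↔ x * x = 1 ∧ x ≠ 1 := fun x => by
    rw [orderOf_eq_prime_iff, sq]
  rcases KleinSelfCent.card_twelve_or_alternating ((o _).mpr ⟨dA_sq, dA_ne h⟩)
    ((o _).mpr ⟨uA_sq h, uA_ne h⟩) (comm_dA_uA h) (uA_ne_dA h) (fun c hc => hcent h c hc)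
    (fun a b ha hb => (one_class h ((o a).mp ha).1 ((o a).mp ha).2).symm.trans
      (one_class h ((o b).mp hb).1 ((o b).mp hb).2))
    (not_eight_dvd h) with e | ⟨-, e⟩
  · exfalso
    have h5 : orderOf tA = 5 := orderOf_eq_prime (hp := ⟨by norm_num⟩) tA_five (tA_ne h)
    have := orderOf_dvd_natCard tA
    rw [h5, e] at this
    norm_num at this
  · exact e

/-- An involution commuting with the element of order seven is conjugate there to the central one. -/
theorem involution_conj {s : G} (hs : Commute s Gw) (hs2 : s * s = 1) (hs1 : s ≠ 1) :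
    ∃ c, Commute c Gw ∧ c * s * c⁻¹ = D := by
  have h1 : mk ⟨s, mem_C.mpr hs⟩ ≠ 1 := fun e =>
    hs1 (eq_of_mk h (n := 2) (by norm_num) (by rw [sq]; exact hs2) (one_pow _) (e.trans (map_one mk).symm))
  have h2 : mk ⟨s, mem_C.mpr hs⟩ * mk ⟨s, mem_C.mpr hs⟩ = 1 := by
    rw [← map_mul, show (⟨s, mem_C.mpr hs⟩ : C) * ⟨s, mem_C.mpr hs⟩ = 1 from Subtype.ext hs2, map_one]
  obtain ⟨c, hc⟩ := isConj_iff.mp (one_class h h2 h1)
  obtain ⟨a, rfl⟩ := QuotientGroup.mk'_surjective K c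
  have e : mk (a⁻¹ * ⟨s, mem_C.mpr hs⟩ * a) = mk ⟨D, D_mem⟩ := by
    rw [map_mul, map_mul, map_inv]
    show (mk a)⁻¹ * _ * mk a = dA
    rw [← hc]
    simp [mul_assoc, mk]
  refine ⟨(a : G)⁻¹, (mem_C.mp a.2).inv_left, ?_⟩
  refine eq_of_mk h (n := 2) (a := a⁻¹ * ⟨s, mem_C.mpr hs⟩ * a⁻¹⁻¹) (b := ⟨D, D_mem⟩) (by norm_num) ?_
    (by rw [sq]; exact D_sq)
    (by rw [inv_inv]; exact e)
  show ((a : G)⁻¹ * s * (a : G)⁻¹⁻¹) ^ 2 = 1
  rw [conj_pow, sq, hs2, mul_one, mul_inv_cancel]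

/-- The elements of order five inverted by the central involution. -/
theorem five_cases {s : G} (hs : Commute s Gw) (h5 : s ^ 5 = 1) (hinv : D * s * D = s⁻¹) :
    ∃ i < 5, s = T ^ i ∨ s = Uw * T ^ i * Uw⁻¹ := by
  obtain ⟨e⟩ := iso_A5 h
  set sC : C := ⟨s, mem_C.mpr hs⟩ with hsC
  have hr5 : mk sC ^ 5 = 1 := by rw [← map_pow, show sC ^ 5 = 1 from Subtype.ext h5, map_one]
  have het : dA * tA * dA = tA⁻¹ := by
    rw [dA, tA, ← map_mul, ← map_mul, ← map_inv]
    exact congrArg mk (Subtype.ext DTD)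
  have her : dA * mk sC * dA = (mk sC)⁻¹ := by
    rw [dA, ← map_mul, ← map_mul, ← map_inv]
    exact congrArg mk (Subtype.ext hinv)
  have f : ∀ {x : A}, x ≠ 1 → e x ≠ 1 := fun hx hh => hx (e.map_eq_one_iff.mp hh)
  obtain ⟨i, hi, hh⟩ := HNOutFive16.five_cases (e := e dA) (t := e tA) (v := e (uA h)) (r := e (mk sC))
    (by rw [← map_mul, dA_sq, map_one]) (f (dA_ne h)) (by rw [← map_pow, tA_five, map_one]) (f (tA_ne h))
    (by rw [← map_mul, ← map_mul, het, map_inv]) (by rw [← map_mul, ← map_mul, (comm_dA_uA h).eq])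
    (f (uA_ne h)) (fun hh => uA_ne_dA h (e.injective hh)) (by rw [← map_pow, hr5, map_one])
    (by rw [← map_mul, ← map_mul, her, map_inv])
  refine ⟨i, hi, ?_⟩
  have hTi : (T ^ i) ^ 5 = 1 := by rw [← pow_mul, mul_comm, pow_mul, rel_t5, one_pow]
  rcases hh with hh | hh
  · left
    rw [← map_pow] at hh
    exact eq_of_mk h (a := sC) (b := ⟨T, T_mem⟩ ^ i) (n := 5) (by norm_num) h5 hTi
      ((e.injective hh).trans (map_pow mk _ i).symm)
  · right
    rw [← map_pow, ← map_inv, ← map_mul, ← map_mul] at hh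
    refine eq_of_mk h (a := sC) (b := ⟨Uw, U_mem h⟩ * ⟨T, T_mem⟩ ^ i * ⟨Uw, U_mem h⟩⁻¹) (n := 5)
      (by norm_num) h5 ?_ ((e.injective hh).trans ?_)
    · show (Uw * T ^ i * Uw⁻¹) ^ 5 = 1
      rw [conj_pow, hTi, mul_one, mul_inv_cancel]
    · rw [map_mul, map_mul, map_inv, map_pow]; rfl

end Cfsg.Agent.HNOut16
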