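import Cfsg.Agent.Lib.HNTwoHSGroup66
import Cfsg.Agent.Lib.HNOutData16

/-!
Kernel checks on the hundred points for the centraliser of an element of order seven.
-/

set_option autoImplicit false
set_option maxRecDepth 100000

namespace Cfsg.Agent.HNOutPerm16

open Cfsg.Agent.HNTwoHSPerm66 Cfsg.Agent.HNTwoHSGroup66 Cfsg.Agent.HNOutData16

/-- Entry of a packed table. -/
def ev (p i : ℕ) : ℕ := (p >>> (7 * i)) % 128

/-- The table of a word. -/
def runW (w : List ℕ) (i : ℕ) : ℕ :=
  w.foldr (fun a i => if a < 5 then ev (letters.getD a 0) i else i) i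

theorem tab_x : ∀ i : Fin 100, ev (letters.getD 0 0) i = (at' tx i : ℕ) := by decide +kernel
theorem tab_xi : ∀ i : Fin 100, ev (letters.getD 1 0) i = (at' txi i : ℕ) := by decide +kernel
theorem tab_y : ∀ i : Fin 100, ev (letters.getD 2 0) i = (at' ty i : ℕ) := by decide +kernel
theorem tab_yi : ∀ i : Fin 100, ev (letters.getD 3 0) i = (at' tyi i : ℕ) := by decide +kernel
theorem tab_z : ∀ i : Fin 100, ev (letters.getD 4 0) i = (at' tz i : ℕ) := by decide +kernel

theorem g_tab : ∀ i : Fin 100, runW gW i = ev gP i := by decide +kernel
theorem u_tab : ∀ i : Fin 100, runW uW i = ev uP i := by decide +kernel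
theorem c_tab : ∀ i : Fin 100, runW cW i = ev cP i := by decide +kernel

/-- Iterates of the element of order seven. -/
def iterG : ℕ → ℕ → ℕ
  | 0, i => i
  | m + 1, i => ev gP (iterG m i)

/-- Adjacency. -/
def adj (a b : ℕ) : Bool := Nat.testBit (masks.getD a 0) b

/-- The check that a table preserves adjacency. -/
def adjStable (p : ℕ) : Bool :=
  (List.range 100).all fun a => (List.range 100).all fun b => adj (ev p a) (ev p b) == adj a b

theorem stable_x : adjStable (letters.getD 0 0) = true := by decide +kernel
theorem stable_y : adjStable (letters.getD 2 0) = true := by decide +kernel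
theorem stable_z : adjStable (letters.getD 4 0) = true := by decide +kernel

/-- An orbit. -/
def orbG (p : ℕ) : List ℕ := (List.range 7).map fun m => iterG m p

/-- The base. -/
def baseS : List ℕ := [11, 22] ++ orbG base1 ++ orbG base2

/-- Equal adjacency inside two lists. -/
def sameAdj (S T : List ℕ) (n : ℕ) : Bool :=
  (List.range n).all fun k => (List.range n).all fun l =>
    adj (S.getD k 0) (S.getD l 0) == adj (T.getD k 0) (T.getD l 0)

/-- Equal patterns. -/
def samePat (S T : List ℕ) (r r' : ℕ) : Bool :=
  (List.range 16).all fun k => adj (S.getD k 0) r == adj (T.getD k 0) r'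

/-- The fourteen known elements. -/
def moveGU (k i : ℕ) : ℕ := iterG (k % 7) (if k < 7 then i else ev uP i)

/-- One candidate. -/
def candOK (T : List ℕ) : Bool :=
  (List.range 14).any (fun k => baseS.map (moveGU k) == T) ||
    (List.range 100).any fun r => (List.range 100).all fun r' => !(samePat baseS T r r')

/-- All candidates. -/
def centOK : Bool :=
  [[11, 22], [22, 11]].all fun f => (List.range 100).all fun p =>
    !(sameAdj baseS (f ++ orbG p) 9) || (List.range 100).all fun q =>
      !(sameAdj baseS (f ++ orbG p ++ orbG q) 16) || candOK (f ++ orbG p ++ orbG q)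

theorem cent_check : centOK = true := by decide +kernel

theorem fix_check : ∀ i : Fin 100, ev gP i = i → (i : ℕ) = 11 ∨ (i : ℕ) = 22 := by decide +kernel

theorem fix_eleven : ev gP 11 = 11 ∧ ev gP 22 = 22 := by decide +kernel

/-- Patterns separate points. -/
def sepOK : Bool :=
  (List.range 100).all fun r => (List.range 100).all fun r' => !(samePat baseS baseS r r') || r == r'

theorem sep_check : sepOK = true := by decide +kernel

theorem base_lt : ∀ k < 16, baseS.getD k 0 < 100 := by decide +kernel

theorem base_len : baseS.length = 16 := by decide +kernel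

/-- Conjugation table check. -/
def clsOK : Bool :=
  cls.all fun e => (List.range 3).all fun a =>
    Nat.blt (e.2.getD a 0) cls.length && (List.range 100).all fun i =>
      Nat.beq (ev (cls.getD (e.2.getD a 0) (0, [])).1 (ev (letters.getD (2 * a) 0) i))
        (ev (letters.getD (2 * a) 0) (ev e.1 i))

theorem cls_check : clsOK = true := by decide +kernel

theorem cls_u : uIdx < cls.length ∧ (List.range 100).all
    (fun i => Nat.beq (ev (cls.getD uIdx (0, [])).1 i) (ev uP i)) = true := by decide +kernel

/-- A power fixes all points. -/
def powFix (f : ℕ → ℕ) (n : ℕ) : Bool := (List.range 100).all fun i => Nat.beq (f^[n] i) i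

/-- The members of the class with the three orders. -/
def selOK : Bool :=
  cls.all fun e =>
    !(powFix (fun i => ev uP (ev e.1 i)) 3 && powFix (fun i => ev gP (ev e.1 i)) 20 &&
      powFix (fun i => ev gP (ev uP (ev e.1 i))) 12) ||
    (List.range 14).any fun k => (List.range 100).all fun i =>
      Nat.beq (ev e.1 (moveGU k i)) (moveGU k (ev cP i))

theorem sel_check : selOK = true := by decide +kernel

end Cfsg.Agent.HNOutPerm16
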