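import Cfsg.Agent.Lib.HNRepData29

/-! Certificate: further words in the matrices of the Harada–Norton group that are, or are not, the identity. -/

set_option autoImplicit false
set_option maxHeartbeats 4000000

namespace Cfsg.Agent.HNOutRepChk16

open Cfsg.Agent.HNRepCore29 Cfsg.Agent.HNRepData29

theorem u_sq : sameWord gens [0, 2, 4, 3, 0, 0, 2, 4, 3, 0, 5] [5] = true := by
  decide +kernel

theorem gu : sameWord gens [2, 2, 1, 2, 0, 2, 1, 3, 0, 0, 2, 4, 3, 0, 1, 2, 0, 3, 1, 3, 0, 3, 3, 1, 2, 4, 3, 1, 5] [5] = true := by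
  decide +kernel

theorem g7 : sameWord gens [2, 2, 1, 2, 0, 2, 1, 3, 0, 2, 2, 1, 2, 0, 2, 1, 3, 0, 2, 2, 1, 2, 0, 2, 1, 3, 0, 2, 2, 1, 2, 0, 2, 1, 3, 0, 2, 2, 1, 2, 0, 2, 1, 3, 0, 2, 2, 1, 2, 0, 2, 1, 3, 0, 2, 2, 1, 2, 0, 2, 1, 3, 0, 5] [5] = true := by
  decide +kernel

theorem ngn : sameWord gens [2, 2, 2, 0, 2, 2, 0, 2, 0, 2, 2, 2, 1, 2, 0, 2, 1, 3, 0, 3, 1, 3, 1, 3, 3, 1, 3, 3, 3, 1, 2, 0, 3, 1, 3, 0, 3, 3, 1, 2, 0, 3, 1, 3, 0, 3, 3, 1, 2, 0, 3, 1, 3, 0, 3, 3, 5] [5] = true := by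
  decide +kernel

theorem wdw : sameWord gens [6, 6, 0, 2, 4, 3, 0, 5, 0, 0, 6, 1, 2, 4, 3, 1, 5, 5, 1, 2, 4, 3, 1, 5] [5] = true := by
  decide +kernel

theorem wdw2 : sameWord gens [6, 0, 2, 4, 3, 0, 5, 5, 0, 0, 6, 6, 1, 2, 4, 3, 1, 5, 1, 2, 4, 3, 1, 1, 1, 5] [5] = true := by
  decide +kernel

theorem zdt : sameWord gens [4, 0, 0, 5, 5, 4, 0, 0, 5, 5, 4, 0, 0, 5, 5, 5] [5] = true := by
  decide +kernel

theorem utu_y : notOne gens [0, 2, 4, 3, 0, 5, 0, 2, 4, 3, 0, 2, 1, 2, 4, 3, 1, 6, 1, 2, 4, 3, 1, 3] 0 0 = true := by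
  decide +kernel

theorem zt2 : notOne gens [4, 5, 5, 4, 5, 5, 4, 5, 5] 0 1 = true := by
  decide +kernel

theorem zt3 : notOne gens [4, 5, 5, 5, 4, 5, 5, 5, 4, 5, 5, 5] 0 1 = true := by
  decide +kernel

theorem zdt1 : notOne gens [4, 0, 0, 5, 4, 0, 0, 5, 4, 0, 0, 5] 0 0 = true := by
  decide +kernel

theorem zdt4 : notOne gens [4, 0, 0, 5, 5, 5, 5, 4, 0, 0, 5, 5, 5, 5, 4, 0, 0, 5, 5, 5, 5] 0 0 = true := by
  decide +kernel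

theorem t_ne : notOne gens [5] 0 0 = true := by
  decide +kernel

end Cfsg.Agent.HNOutRepChk16
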