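import Cfsg.Agent.Lib.HNRepData29

/-! Certificate: the relators of the Harada–Norton group hold for the 133 x 133 matrices. Each is evaluated on
the dense matrix of `t` in place of the identity, which the kernel handles much faster. -/

set_option autoImplicit false
set_option maxHeartbeats 4000000

namespace Cfsg.Agent.HNRepCheck29

open Cfsg.Agent.HNRepCore29 Cfsg.Agent.HNRepData29

theorem rel1 : sameWord gens [2, 2, 2, 2, 2, 2, 5] [5] = true := by
  decide +kernel

theorem rel2 : sameWord gens [0, 0, 2, 0, 0, 3, 5] [5] = true := by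
  decide +kernel

theorem rel3 : sameWord gens [1, 3, 0, 2, 1, 3, 0, 2, 1, 3, 0, 2, 5] [5] = true := by
  decide +kernel

theorem rel4 : sameWord gens [1, 2, 2, 0, 2, 2, 2, 1, 2, 2, 0, 2, 2, 2, 1, 2, 2, 0, 2, 2, 2, 5] [5] = true := by
  decide +kernel

theorem rel5 : sameWord gens [0, 2, 0, 2, 0, 2, 0, 2, 0, 2, 0, 2, 0, 2, 0, 2, 5] [5] = true := by
  decide +kernel

theorem rel6 : sameWord gens [0, 2, 0, 2, 2, 2, 0, 2, 0, 2, 2, 2, 0, 2, 0, 2, 2, 2, 0, 2, 0, 2, 2, 2, 5] [5] = true := by
  decide +kernel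

theorem rel7 : sameWord gens [4, 4, 5] [5] = true := by
  decide +kernel

theorem rel8 : sameWord gens [4, 0, 4, 0, 5] [5] = true := by
  decide +kernel

theorem rel9 : sameWord gens [4, 2, 1, 3, 3, 1, 3, 1, 3, 4, 2, 0, 2, 0, 2, 2, 0, 3, 1, 1, 5] [5] = true := by
  decide +kernel

theorem rel10 : sameWord gens [4, 3, 1, 3, 1, 3, 3, 3, 4, 2, 2, 2, 0, 2, 0, 2, 0, 3, 1, 3, 1, 3, 3, 3, 4, 2, 2, 2, 0, 2, 0, 2, 0, 3, 1, 3, 1, 3, 3, 3, 4, 2, 2, 2, 0, 2, 0, 2, 0, 5] [5] = true := by
  decide +kernel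

theorem rel11 : sameWord gens [5, 5, 5, 5, 5, 5] [5] = true := by
  decide +kernel

theorem rel12 : sameWord gens [1, 5, 0, 5, 5, 5] [5] = true := by
  decide +kernel

theorem rel13 : sameWord gens [6, 3, 5, 2, 5] [5] = true := by
  decide +kernel

theorem rel14 : sameWord gens [4, 5, 4, 5, 4, 5, 5] [5] = true := by
  decide +kernel

theorem pair0 : sameWord gens [0, 1, 5] [5] = true := by
  decide +kernel

theorem pair1 : sameWord gens [1, 0, 5] [5] = true := by
  decide +kernel

theorem pair2 : sameWord gens [2, 3, 5] [5] = true := by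
  decide +kernel

theorem pair3 : sameWord gens [3, 2, 5] [5] = true := by
  decide +kernel

theorem tpair0 : wordIsOne gens [5, 6] = true := by
  decide +kernel

theorem tpair1 : wordIsOne gens [6, 5] = true := by
  decide +kernel

theorem x_sq : notOne gens [0, 0] 77 77 = true := by
  decide +kernel

theorem y_sq : notOne gens [2, 2] 1 1 = true := by
  decide +kernel

end Cfsg.Agent.HNRepCheck29
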