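import Cfsg.Agent.Lib.HNWalk66

/-!
The compressed coset space: orbits of the subgroup of the first two generators, closed under the third
generator and the element of order five.
-/

set_option autoImplicit false
set_option linter.style.haveILetI false

namespace Cfsg.Agent.HNWord66

open Cfsg.Agent.CosetCertCore Cfsg.Agent.CosetCertTable Cfsg.Agent.HNTwoHSGroup66

/-- Forget the facts about the element of order five. -/
def hOnly : Fact → Fact
  | .h i w j => .h i w j
  | .t _ _ _ _ => .h 0 0 0

/-- The generators of the subgroup of the first two generators. -/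
def lGens : List Nat := [1, 3]

theorem dec_lGens : dec 1 = [0] ∧ dec 3 = [2] := by decide +kernel

theorem isL_append {a b : List Nat} (ha : isL a = true) (hb : isL b = true) : isL (a ++ b) = true := by
  simp only [isL, List.all_append, Bool.and_eq_true] at *
  exact ⟨ha, hb⟩

theorem il_lt {a : Nat} (ha : a < 4) : il a < 4 := by
  match a, ha with
  | 0, _ => decide
  | 1, _ => decide
  | 2, _ => decide
  | 3, _ => decide

theorem isL_winv {a : List Nat} (ha : isL a = true) : isL (winv a) = true := by
  simp only [isL, winv, List.all_map, List.all_reverse, List.all_eq_true, Function.comp_apply,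
    Nat.blt_eq] at *
  exact fun x hx => il_lt (ha x hx)

theorem val_mem_lGens : ∀ {w : List Nat}, isL w = true → val w ∈ sub lGens
  | [], _ => one_mem _
  | a :: w, h => by
    simp only [isL, List.all_cons, Bool.and_eq_true, Nat.blt_eq] at h
    rw [val_cons]
    refine mul_mem ?_ (val_mem_lGens (by simpa [isL] using h.2))
    have h1 : gA ∈ sub lGens := by
      have := gen_mem lGens (n := 1) (by simp [lGens])
      rwa [dec_lGens.1, val_cons, val_nil, mul_one] at this
    have h3 : gB ∈ sub lGens := by
      have := gen_mem lGens (n := 3) (by simp [lGens])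
      rwa [dec_lGens.2, val_cons, val_nil, mul_one] at this
    match a, h.1 with
    | 0, _ => exact h1
    | 1, _ => exact inv_mem h1
    | 2, _ => exact h3
    | 3, _ => exact inv_mem h3

theorem exists_word_of_mem {gens : List Nat} (hg : gens.all (fun n => isL (dec n)) = true) {g : P3}
    (h : g ∈ sub gens) : ∃ w, isL w = true ∧ val w = g := by
  refine Subgroup.closure_induction (p := fun x _ => ∃ w, isL w = true ∧ val w = x) ?_ ?_ ?_ ?_ h
  · rintro x ⟨n, hn, rfl⟩
    exact ⟨dec n, List.all_eq_true.mp hg n hn, rfl⟩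
  · exact ⟨[], rfl, rfl⟩
  · rintro x y - - ⟨u, hu, rfl⟩ ⟨v, hv, rfl⟩
    exact ⟨u ++ v, isL_append hu hv, val_append u v⟩
  · rintro x - ⟨u, hu, rfl⟩
    exact ⟨winv u, isL_winv hu, val_winv u⟩

theorem lGens_isL : lGens.all (fun n => isL (dec n)) = true := by decide +kernel

/-- The certificate data. -/
structure Data where
  T : Tabs
  n : Nat
  fc : List (List Fact)
  nf : Nat
  lfid : List (List Nat)
  loops : List (List Nat)
  osz : List Nat
  schain : List (List Level)
  lUp : List Lev
  levM : Lev
  mGens : List Nat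
  mImg : List Nat
  wit : List (List (List Ins × Nat × Nat))

namespace Data

variable (D : Data)

/-- A fact. -/
noncomputable def fact (m : Nat) : Fact := look D.fc m (.h 0 0 0)

/-- A fact without the element of order five. -/
noncomputable def hFact (m : Nat) : Fact := hOnly (D.fact m)

/-- The loop words of a node. -/
def loopW (i : Nat) : List Nat := D.loops.getD i []

/-- Each loop word is the word of a loop fact. -/
noncomputable def loopOk (i : Nat) : Bool :=
  all2 (fun w m => isL (dec w) && Nat.blt m D.nf &&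
    match D.hFact m with
    | .h a u b => Nat.beq a i && Nat.beq b i && Nat.beq u w
    | .t _ _ _ _ => false) (D.loopW i) (D.lfid.getD i [])

/-- The lower bound for one stabiliser. -/
noncomputable def stabOk (i : Nat) : Bool :=
  chainOk D.T (D.loopW i) (D.schain.getD i []) [] &&
    Nat.beq (((D.schain.getD i []).map fun l => l.2.length).prod * D.osz.getD i 0) 504000

/-- One witness at node `i`. -/
noncomputable def witChk (i : Nat) (t : List Ins × Nat × Nat) (rep : Nat) : Bool :=
  match t with
  | (ins, j, l) => Nat.blt j D.n && isL (dec l) &&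
      walkF D.T D.hFact D.nf ins i (winv (dec rep)) fun a w p =>
        Nat.beq a j && Nat.beq (D.T.code w) (D.T.code (dec l)) && sameRoute D.T p [.w [4]]

/-- The witnesses at one node. -/
noncomputable def witOk (i : Nat) : Bool := all2 (D.witChk i) (D.wit.getD i []) D.levM.reps

/-- The third generator moves through the stabiliser of a point. -/
noncomputable def pushOk : Bool :=
  allFrom (fun k => isL (dec (D.mImg.getD k 0)) &&
    Nat.beq (D.T.code (dec (D.mGens.getD k 0) ++ [4]))
      (D.T.code ([4] ++ dec (D.mImg.getD k 0)))) D.mGens.length 0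

/-- The finite checks. -/
structure Checks : Prop where
  faithful : D.T.Faithful
  lUp : upOk D.T D.lUp = true
  lUpTop : below D.lUp = lGens
  lUpSize : (D.lUp.map fun l => l.reps.length).prod = 504000
  levM : levOk D.T D.levM D.mGens = true
  levMTop : D.levM.gens = lGens
  levMReps : D.levM.reps.all (fun r => isL (dec r)) = true
  push : D.pushOk = true
  loops : ∀ i < D.n, D.loopOk i = true
  stab : ∀ i < D.n, D.stabOk i = true
  wit : ∀ i < D.n, D.witOk i = true
  total : ((List.range D.n).map fun i => D.osz.getD i 0).sum = 1539000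

theorem sum_osz : ((List.range D.n).map fun i => D.osz.getD i 0).sum = ∑ i : Fin D.n, D.osz.getD i 0 := by
  rw [Fin.sum_univ_eq_sum_range (fun i => D.osz.getD i 0) D.n]
  rfl

variable {D} (hD : D.Checks)
include hD

theorem card_L_le : Nat.card (sub lGens) ≤ 504000 := by
  have h := hD.faithful.card_le_up hD.lUp
  rw [hD.lUpTop, hD.lUpSize] at h
  exact h

theorem loop_mem_L (i : Nat) (hi : i < D.n) : sub (D.loopW i) ≤ sub lGens := by
  rw [sub, Subgroup.closure_le]
  rintro g ⟨w, hw, rfl⟩
  have h := hD.loops i hi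
  simp only [loopOk] at h
  obtain ⟨hlen, h⟩ := all2_spec 0 0 h
  obtain ⟨r, hr, rfl⟩ := List.mem_iff_getElem.mp hw
  have h := h r (hlen ▸ hr)
  rw [List.getD_eq_getElem _ _ hr] at h
  simp only [Bool.and_eq_true] at h
  exact val_mem_lGens h.1.1

/-- The number of cosets of one stabiliser. -/
theorem index_le (i : Nat) (hi : i < D.n) :
    ((sub (D.loopW i)).subgroupOf (sub lGens)).index ≤ D.osz.getD i 0 := by
  haveI := finite_P3' hD.faithful.ok
  have h := hD.stab i hi
  simp only [stabOk, Bool.and_eq_true, Nat.beq_eq] at h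
  have hlow := card_sub_ge hD.faithful.ok _ h.1
  have hmul := ((sub (D.loopW i)).subgroupOf (sub lGens)).card_mul_index
  rw [Nat.card_congr (Subgroup.subgroupOfEquivOfLe (loop_mem_L hD i hi)).toEquiv] at hmul
  have hL := (card_L_le hD)
  by_contra hlt
  rw [Nat.not_le] at hlt
  have h2 := Nat.mul_le_mul hlow (Nat.succ_le_of_lt hlt)
  rw [Nat.mul_succ, hmul, h.2] at h2
  have hpos : 0 < ((D.schain.getD i []).map fun l => l.2.length).prod := by
    rcases Nat.eq_zero_or_pos ((D.schain.getD i []).map fun l => l.2.length).prod with h0 | h0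
    · rw [h0, zero_mul] at h
      exact absurd h.2 (by norm_num)
    · exact h0
  omega

section

variable {X : Type} [MulAction P3 X] (S : Space X)
  (hF : ∀ n < D.nf, S.FV (D.hFact n))
include hF

theorem loop_fix {i : Nat} (hi : i < D.n) {g : P3} (hg : g ∈ sub (D.loopW i)) : g • S.v i = S.v i := by
  have h := hD.loops i hi
  simp only [loopOk] at h
  obtain ⟨hlen, h⟩ := all2_spec 0 0 h
  have hle : sub (D.loopW i) ≤ MulAction.stabilizer P3 (S.v i) := by
    rw [sub, Subgroup.closure_le]
    rintro g ⟨w, hw, rfl⟩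
    obtain ⟨r, hr, rfl⟩ := List.mem_iff_getElem.mp hw
    have h' := h r (hlen ▸ hr)
    rw [List.getD_eq_getElem _ _ hr] at h'
    simp only [Bool.and_eq_true, Nat.blt_eq] at h'
    obtain ⟨⟨-, hm'⟩, hm⟩ := h'
    have hv := hF _ hm'
    generalize D.hFact _ = f at hv hm
    cases f with
    | t => simp at hm
    | h a u b =>
      simp only [Bool.and_eq_true, Nat.beq_eq] at hm
      obtain ⟨⟨rfl, rfl⟩, rfl⟩ := hm
      rw [SetLike.mem_coe, MulAction.mem_stabilizer_iff]
      exact (inv_smul_eq_iff.mp hv).symm
  exact hle hg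

omit hF

/-- The union of the orbits of the nodes. -/
def U (D : Data) (S : Space X) : Set X :=
  {p | ∃ i, i < D.n ∧ ∃ l, isL l = true ∧ p = Space.pw l (S.v i)}

omit hD in
theorem U_letter {a : List Nat} (ha : isL a = true) {p : X} (hp : p ∈ U D S) :
    Space.pw a p ∈ U D S := by
  obtain ⟨i, hi, l, hl, rfl⟩ := hp
  exact ⟨i, hi, l ++ a, isL_append hl ha, (Space.pw_append l a _).symm⟩

include hF

/-- The union is closed under the third generator. -/
theorem U_z {p : X} (hp : p ∈ U D S) : Space.pw [4] p ∈ U D S := by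
  obtain ⟨i, hi, l, hl, rfl⟩ := hp
  have hk : (val l)⁻¹ ∈ sub D.levM.gens := by rw [hD.levMTop]; exact inv_mem (val_mem_lGens hl)
  obtain ⟨c, hc, s, hs, hks⟩ := hD.faithful.cover hD.levM hk
  have hpush : ∀ m ∈ sub D.mGens, ∃ w, isL w = true ∧ m * gC = gC * val w := by
    intro m hm
    have hpu := hD.push
    simp only [pushOk, allFrom_iff, Bool.and_eq_true, Nat.beq_eq] at hpu
    refine Subgroup.closure_induction (p := fun x _ => ∃ w, isL w = true ∧ x * gC = gC * val w)
      ?_ ?_ ?_ ?_ hm
    · rintro x ⟨n, hn, rfl⟩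
      obtain ⟨k, hk', rfl⟩ := List.mem_iff_getElem.mp hn
      have := hpu k (Nat.zero_le k) (by omega)
      refine ⟨_, this.1, ?_⟩
      have e := hD.faithful.val_eq this.2
      rw [List.getD_eq_getElem _ _ hk'] at e
      simpa [val_append, val_cons, val_nil, gl] using e
    · exact ⟨[], rfl, by rw [one_mul, val_nil, mul_one]⟩
    · rintro x y - - ⟨u, hu, e1⟩ ⟨v, hv, e2⟩
      exact ⟨u ++ v, isL_append hu hv,
        by rw [val_append, mul_assoc, e2, ← mul_assoc, e1, mul_assoc]⟩
    · rintro x - ⟨u, hu, e1⟩
      refine ⟨winv u, isL_winv hu, ?_⟩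
      rw [val_winv, inv_mul_eq_iff_eq_mul, ← mul_assoc, e1, mul_assoc, mul_inv_cancel, mul_one]
  obtain ⟨w, hw, hsw⟩ := hpush s⁻¹ (inv_mem hs)
  have hwt := (all2_spec ([], D.n, 0) 0 (hD.wit i hi)).2 c hc
  simp only [witChk] at hwt
  generalize (D.wit.getD i []).getD c ([], D.n, 0) = t at hwt
  obtain ⟨ins, j, m⟩ := t
  simp only [Bool.and_eq_true, Nat.blt_eq] at hwt
  obtain ⟨⟨hj, hm⟩, hwalk⟩ := hwt
  obtain ⟨a, v, r, hk2, hr⟩ := S.walkF_sound hD.faithful hF _ _ _ _ hwalk
  simp only [Bool.and_eq_true, Nat.beq_eq] at hk2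
  obtain ⟨⟨rfl, hcode⟩, hroute⟩ := hk2
  rw [S.sameRoute_sound hD.faithful hroute, Space.pw_congr hD.faithful hcode] at hr
  refine ⟨a, hj, dec m ++ w, isL_append hm hw, ?_⟩
  have e : val l = (val (dec (D.levM.reps.getD c 0)))⁻¹ * s⁻¹ := by
    rw [← mul_inv_rev, ← hks, inv_inv]
  have e4 : val [4] = gC := by simp [val_cons, val_nil, gl]
  rw [Space.pw_append, ← hr]
  show Space.pw [4] (Space.pw l (S.v i)) = Space.pw w (Space.pw [4] (Space.pw _ (S.v i)))
  simp only [Space.pw, val_winv, smul_smul, ← mul_inv_rev]
  rw [e, e4]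
  congr 2
  simp only [mul_assoc]
  rw [hsw]

/-- The map from the cosets of the stabilisers. -/
noncomputable def orbitMap (x : Σ i : Fin D.n, (sub lGens) ⧸ (sub (D.loopW i)).subgroupOf (sub lGens)) : X :=
  Quotient.liftOn' x.2 (fun g : sub lGens => (g : P3) • S.v x.1) fun a b hab => by
    rw [QuotientGroup.leftRel_apply] at hab
    have h := loop_fix hD S hF x.1.2 (Subgroup.mem_subgroupOf.mp hab)
    rw [Subgroup.coe_mul, Subgroup.coe_inv, mul_smul, inv_smul_eq_iff] at h
    exact h.symm

theorem range_orbitMap : Set.range (orbitMap hD S hF) = U D S := by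
  ext p
  constructor
  · rintro ⟨⟨i, q⟩, rfl⟩
    induction q using Quotient.inductionOn' with
    | h g =>
      obtain ⟨w, hw, hval⟩ := exists_word_of_mem lGens_isL g.2
      refine ⟨i, i.2, winv w, isL_winv hw, ?_⟩
      show (g : P3) • S.v i = _
      rw [Space.pw, val_winv, inv_inv, hval]
  · rintro ⟨i, hi, l, hl, rfl⟩
    exact ⟨⟨⟨i, hi⟩, Quotient.mk'' ⟨(val l)⁻¹, inv_mem (val_mem_lGens hl)⟩⟩, rfl⟩

theorem card_le (hU : ∀ p : X, p ∈ U D S) : Finite X ∧ Nat.card X ≤ 1539000 := by
  haveI := finite_P3' hD.faithful.ok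
  have hsurj : Function.Surjective (orbitMap hD S hF) := fun p => by
    have := hU p
    rw [← range_orbitMap hD S hF] at this
    exact this
  refine ⟨Finite.of_surjective _ hsurj, (Nat.card_le_card_of_surjective _ hsurj).trans ?_⟩
  rw [Nat.card_sigma, ← hD.total, sum_osz]
  exact Finset.sum_le_sum fun i _ => by
    rw [← Subgroup.index_eq_card]
    exact index_le hD i i.2

/-- When the set is full and large enough, the parametrisation is exact. -/
theorem exact_of_card (hU : ∀ p : X, p ∈ U D S) (hc : 1539000 ≤ Nat.card X) :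
    Function.Injective (orbitMap hD S hF) := by
  haveI := finite_P3' hD.faithful.ok
  obtain ⟨hfin, -⟩ := card_le hD S hF hU
  have hsurj : Function.Surjective (orbitMap hD S hF) := fun p => by
    have := hU p
    rw [← range_orbitMap hD S hF] at this
    exact this
  have hle : Nat.card (Σ i : Fin D.n, (sub lGens) ⧸ (sub (D.loopW i)).subgroupOf (sub lGens)) ≤
      Nat.card X := by
    refine le_trans ?_ hc
    rw [Nat.card_sigma, ← hD.total, sum_osz]
    exact Finset.sum_le_sum fun i _ => by
      rw [← Subgroup.index_eq_card]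
      exact index_le hD i i.2
  exact (hsurj.bijective_of_nat_card_le hle).injective

end

end Data

end Cfsg.Agent.HNWord66
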