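import Cfsg.Agent.Lib.HNTwoHSQ66

/-!
The order bound for groups satisfying the relations of the first three generators.
-/

set_option autoImplicit false
set_option linter.style.haveILetI false

namespace Cfsg.Agent.HNTwoHSBound66

open Cfsg.Agent.CosetCertCore Cfsg.Agent.CosetCertTable Cfsg.Agent.CosetCertFlip66
  Cfsg.Agent.HNTwoHSRels66 Cfsg.Agent.HNTwoHSQ66

/-- The ninth relation's word. -/
def w9 : List Nat := [3, 0, 2, 2, 0, 2, 0, 2]

/-- The derived commuting word. -/
def g1 : List Nat := [2, 0, 3, 0, 2]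

/-- Blocks commuting with the third generator. -/
def blk : Bool → List Nat
  | false => [0]
  | true => w9

/-- The commuting word in blocks. -/
def g1b : List Nat :=
  ([true, false, true, true, true, false, true, true, false, true, true, true, false, true].map blk).flatten

/-- The central word. -/
def cw : List Nat :=
  ([true, false, true, false, true, false, true, false, true, false, true, false, true, false].map blk).flatten

/-- The base relators with three generators. -/
def kWords : List (List Nat) :=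
  baseWords ++ [[0, 1, 0, 1], [3, 0, 2, 2, 0, 2, 0, 2, 1, 3, 0, 3, 0, 3, 3, 0, 2, 1],
    [0, 2, 0, 2, 0, 2, 2, 2, 1, 3, 3, 3, 0, 3, 0, 3, 0, 2, 0, 2, 0, 2, 2, 2, 1, 3, 3, 3, 0, 3, 0, 3,
      0, 2, 0, 2, 0, 2, 2, 2, 1, 3, 3, 3, 0, 3, 0, 3, 1],
    [2, 0, 3, 0, 2, 1, 3, 0, 2, 0, 3, 1]]

/-- The data. -/
structure KData where
  dQ : QData
  cK : Cert
  mK : Nat
  tK : Table
  closedK : Closed cK mK tK
  nK : tK.NG = 4
  relsK : ∀ {K : Type} [Group K] {g : Nat → K}, Inv g →
    (∀ w ∈ kWords, vr g w = 1) → ∀ w ∈ cK.rels, vr g w = 1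
  sgensK : cK.sgens = [[0], [2]]
  wit : List Nat
  okC3 : dQ.trivOk wit (cw ++ cw ++ cw) = true
  okCX : dQ.trivOk wit ([0] ++ cw ++ [0] ++ cw) = true
  okCY : dQ.trivOk wit ([3] ++ cw ++ [2] ++ winv cw) = true
  okG1 : dQ.trivOk wit (g1 ++ winv g1b) = true
  cwLt : cw.all (fun x => Nat.blt x 4) = true

theorem vr_gv_noz {K : Type*} [Group K] (X Z Y : K) (w : List Nat) (hw : 1 ∉ w) :
    vr (gv X Z Y) w = vr (gv X 1 Y) w := by
  induction w with
  | nil => rfl
  | cons a w ih =>
    simp only [List.mem_cons, not_or] at hw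
    rw [vr_cons, vr_cons, ih hw.2]
    congr 1
    match a, hw.1 with
    | 0, _ => rfl
    | 1, h => exact absurd rfl h
    | 2, _ => rfl
    | 3, _ => rfl
    | n + 4, _ => rfl

theorem blocks_mem {K : Type*} [Group K] {X Z Y : K} (S : Subgroup K) (hX : X ∈ S)
    (h9 : vr (gv X 1 Y) w9 ∈ S) (l : List Bool) : vr (gv X 1 Y) (l.map blk).flatten ∈ S := by
  induction l with
  | nil => exact one_mem S
  | cons b l ih =>
    rw [List.map_cons, List.flatten_cons, vr_append]
    refine mul_mem ih ?_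
    cases b
    · simpa [blk, vr, gv] using hX
    · exact h9

namespace KData

variable (d : KData)

theorem card_bar {K : Type} [Group K] {X Y Z : K} (h : Rels X Y Z) (hX : X ^ 2 = 1)
    (hgen : Subgroup.closure ({X, Y, Z} : Set K) = ⊤) :
    Finite K ∧ Nat.card K ≤ d.tK.N * (d.dQ.countLeast cw * d.dQ.tH.N) := by
  have hX' : X * X = 1 := by rw [← sq, hX]
  have hxi : X⁻¹ = X := inv_eq_of_mul_eq_one_right hX'
  have hzi : Z⁻¹ = Z := z_inv h
  have hq : QRels X Y := ⟨hX, h.r1, h.r3, h.r4, h.r5, h.r6⟩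
  have hinv : Inv (gv X Z Y) := gv_inv hX' (by rw [← sq, h.r7])
  -- the commuting subgroup
  have hcx : X * Z = Z * X := by
    have h8 : Z * X * (Z * X) = 1 := by rw [← sq, h.r8]
    calc X * Z = Z * X * ((Z * X) * (Z * X))⁻¹ * 1 * (Z * X * (X * Z)) := by
          rw [← mul_inv_cancel (1 : K)]
          group
      _ = Z * X := by
          rw [h8, inv_one, mul_one, mul_one, show Z * X * (X * Z) = Z * (X * X) * Z by group, hX',
            mul_one, ← sq, h.r7, mul_one]
  have hc9 : vr (gv X 1 Y) w9 * Z = Z * vr (gv X 1 Y) w9 := by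
    have e : vr (gv X 1 Y) w9 = Y * X * Y * X * Y ^ 2 * X * Y⁻¹ := by
      simp [w9, vr, gv, sq, mul_assoc]
    have h9 := h.r9
    rw [hX, inv_one, mul_one, ← e] at h9
    generalize vr (gv X 1 Y) w9 = a at h9 ⊢
    calc a * Z = (a * Z) * (Z⁻¹ * a⁻¹ * Z * a) := by rw [h9, mul_one]
      _ = Z * a := by group
  have hcomm : ∀ l : List Bool, vr (gv X 1 Y) (l.map blk).flatten * Z =
      Z * vr (gv X 1 Y) (l.map blk).flatten := fun l =>
    Subgroup.mem_centralizer_singleton_iff.mp
      (blocks_mem (Z := Z) (Subgroup.centralizer {Z})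
        (Subgroup.mem_centralizer_singleton_iff.mpr hcx)
        (Subgroup.mem_centralizer_singleton_iff.mpr hc9) l)
  -- the central word is trivial
  have hc : vr (gv X 1 Y) cw = 1 := by
    have h3 := d.dQ.eq_one_of_trivOk hq d.okC3
    have hcX := d.dQ.eq_one_of_trivOk hq d.okCX
    have hcY := d.dQ.eq_one_of_trivOk hq d.okCY
    have hcZ := hcomm [true, false, true, false, true, false, true, false, true, false, true, false, true, false]
    rw [← cw] at hcZ
    simp only [vr_append, vr_winv (gv_inv hX' (one_mul 1))] at h3 hcX hcY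
    simp only [show vr (gv X 1 Y) [0] = X from by simp [vr, gv],
      show vr (gv X 1 Y) [2] = Y from by simp [vr, gv],
      show vr (gv X 1 Y) [3] = Y⁻¹ from by simp [vr, gv]] at hcX hcY
    generalize vr (gv X 1 Y) cw = c at h3 hcX hcY hcZ ⊢
    have a1 : MulAut.conj X c = c⁻¹ := by
      rw [MulAut.conj_apply, hxi, eq_inv_iff_mul_eq_one, mul_eq_one_comm, ← mul_assoc]
      simpa [mul_assoc] using hcX
    have a2 : MulAut.conj Y c = c := by
      rw [MulAut.conj_apply]
      have := inv_mul_eq_one.mp hcY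
      rw [← mul_assoc] at this
      exact this.symm
    have a3 : MulAut.conj Z c = c := by
      rw [MulAut.conj_apply, mul_inv_eq_iff_eq_mul]; exact hcZ.symm
    have b1 : (MulAut.conj X)⁻¹ c = c⁻¹ := by rw [← map_inv, hxi]; exact a1
    have b2 : (MulAut.conj Y)⁻¹ c = c := by
      rw [← map_inv, MulAut.conj_apply, inv_inv]
      calc Y⁻¹ * c * Y = Y⁻¹ * (MulAut.conj Y c) * Y := by rw [a2]
        _ = c := by rw [MulAut.conj_apply]; group
    have h5 := congrArg (fun g => MulAut.conj g c) h.r10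
    simp only [pow_succ, pow_zero, one_mul, mul_inv_rev, map_mul, map_inv (MulAut.conj : K →* MulAut K),
      map_one, MulAut.mul_apply, MulAut.one_apply, a1, a2, a3, b1, b2, map_inv, inv_inv] at h5
    calc c = c * (c * c⁻¹) := by rw [mul_inv_cancel, mul_one]
      _ = c * c * c⁻¹ := by group
      _ = c * c * c := by rw [h5]
      _ = 1 := by rw [mul_assoc]; exact h3
  -- the derived relator
  have hg1 : vr (gv X 1 Y) g1 = vr (gv X 1 Y) g1b := d.dQ.eq_of_trivOk hq d.okG1
  have hkw : ∀ w ∈ kWords, vr (gv X Z Y) w = 1 := by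
    intro w hw
    rcases List.mem_append.mp hw with hw | hw
    · have : 1 ∉ w := by
        revert w
        decide
      rw [vr_gv_noz _ _ _ _ this]
      exact base_one hq w hw
    simp only [List.mem_cons, List.not_mem_nil, or_false] at hw
    rcases hw with rfl | rfl | rfl | rfl
    · have h8 : Z * X * (Z * X) = 1 := by rw [← sq, h.r8]
      simpa [vr, gv, mul_assoc] using h8
    · simpa [vr, gv, pow_succ, mul_assoc, hxi, hzi, hX'] using h.r9
    · simpa [vr, gv, pow_succ, mul_assoc, hxi, hzi] using h.r10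
    · have hz := hcomm [true, false, true, true, true, false, true, true, false, true, true, true, false, true]
      rw [← g1b, ← hg1] at hz
      have e : vr (gv X Z Y) [2, 0, 3, 0, 2, 1, 3, 0, 2, 0, 3, 1] =
          Z * (vr (gv X 1 Y) g1)⁻¹ * Z * vr (gv X 1 Y) g1 := by
        simp [g1, vr, gv, mul_assoc, hxi]
      rw [e, mul_assoc, ← hz, show ∀ a : K, Z * a⁻¹ * (a * Z) = Z * Z from fun a => by group, ← sq,
        h.r7]
  -- the subgroup of the first two generators
  let S : Subgroup K := Subgroup.closure {X, Y}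
  let X' : S := ⟨X, Subgroup.subset_closure (by simp)⟩
  let Y' : S := ⟨Y, Subgroup.subset_closure (by simp)⟩
  have hq' : QRels X' Y' :=
    ⟨Subtype.ext hq.r0, Subtype.ext hq.r1, Subtype.ext hq.r3, Subtype.ext hq.r4, Subtype.ext hq.r5,
      Subtype.ext hq.r6⟩
  have hgenS : Subgroup.closure ({X', Y'} : Set S) = ⊤ := by
    refine eq_top_iff.mpr ((Subgroup.closure_closure_coe_preimage (k := ({X, Y} : Set K))).symm.le.trans
      (Subgroup.closure_mono ?_))
    rintro g (hg | hg)
    · exact Or.inl (Subtype.ext hg)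
    · exact Or.inr (Subtype.ext hg)
  have hc' : vr (gv X' 1 Y') cw = 1 := by
    apply Subtype.ext
    change S.subtype (vr (gv X' 1 Y') cw) = 1
    rw [vr_map, ← hc]
    congr 1
    funext n
    rw [gv_map]; rfl
  obtain ⟨hfS, hS⟩ := d.dQ.card_le hq' cw d.cwLt hc' hgenS
  have hs : ∀ w ∈ d.cK.sgens, vr (gv X Z Y) w ∈ S := by
    rw [d.sgensK]
    simp only [List.mem_cons, List.not_mem_nil, or_false, forall_eq_or_imp, forall_eq]
    exact ⟨Subgroup.subset_closure (by simp [vr, gv]), Subgroup.subset_closure (by simp [vr, gv])⟩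
  have hgen' : Subgroup.closure {g | ∃ x, x < d.tK.NG ∧ g = gv X Z Y x} = ⊤ := by
    rw [eq_top_iff, ← hgen]
    apply Subgroup.closure_mono
    rintro g (rfl | rfl | rfl)
    · exact ⟨0, by rw [d.nK]; norm_num, rfl⟩
    · exact ⟨2, by rw [d.nK]; norm_num, rfl⟩
    · exact ⟨1, by rw [d.nK]; norm_num, rfl⟩
  obtain ⟨hfQ, hQ⟩ := cosets_le d.closedK (gv X Z Y) S hinv (d.relsK hinv hkw) hs hgen'
  haveI := hfS
  haveI := hfQ
  refine ⟨Finite.of_equiv _ (Subgroup.groupEquivQuotientProdSubgroup (s := S)).symm, ?_⟩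
  rw [Subgroup.card_eq_card_quotient_mul_card_subgroup S]
  exact Nat.mul_le_mul hQ hS

/-- The order bound. -/
theorem card_le {K : Type} [Group K] {x y z : K} (h : Rels x y z)
    (hgen : Subgroup.closure ({x, y, z} : Set K) = ⊤) :
    Finite K ∧ Nat.card K ≤ 2 * (d.tK.N * (d.dQ.countLeast cw * d.dQ.tH.N)) := by
  have hc := sq_central h hgen
  let N : Subgroup K := Subgroup.zpowers (x ^ 2)
  haveI : N.Normal := ⟨fun n hn g => by
    rwa [Subgroup.mem_center_iff.mp (Subgroup.zpowers_le.mpr hc hn) g, mul_inv_cancel_right]⟩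
  have hN : Finite N ∧ Nat.card N ≤ 2 := by
    have h2 : (x ^ 2) ^ 2 = 1 := by rw [sq (x ^ 2)]; exact sq_sq h
    have hd : orderOf (x ^ 2) ∣ 2 := orderOf_dvd_of_pow_eq_one h2
    have hpos : 0 < orderOf (x ^ 2) := Nat.pos_of_dvd_of_pos hd (by norm_num)
    haveI : Finite N := Nat.finite_of_card_ne_zero (by rw [Nat.card_zpowers]; omega)
    exact ⟨inferInstance, by rw [Nat.card_zpowers]; exact Nat.le_of_dvd (by norm_num) hd⟩
  have hX : (QuotientGroup.mk' N x) ^ 2 = 1 := by
    rw [← map_pow, QuotientGroup.mk'_apply, QuotientGroup.eq_one_iff]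
    exact Subgroup.mem_zpowers _
  have hgen' : Subgroup.closure
      ({QuotientGroup.mk' N x, QuotientGroup.mk' N y, QuotientGroup.mk' N z} : Set (K ⧸ N)) = ⊤ := by
    rw [show ({QuotientGroup.mk' N x, QuotientGroup.mk' N y, QuotientGroup.mk' N z} : Set (K ⧸ N)) =
        QuotientGroup.mk' N '' {x, y, z} by simp [Set.image_insert_eq],
      ← MonoidHom.map_closure, hgen, Subgroup.map_top_of_surjective _ (QuotientGroup.mk'_surjective N)]
  obtain ⟨hf, hb⟩ := d.card_bar (h.map (QuotientGroup.mk' N)) hX hgen'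
  haveI := hf
  haveI := hN.1
  refine ⟨Finite.of_equiv _ (Subgroup.groupEquivQuotientProdSubgroup (s := N)).symm, ?_⟩
  rw [Subgroup.card_eq_card_quotient_mul_card_subgroup N, mul_comm]
  exact Nat.mul_le_mul hN.2 hb

end KData

end Cfsg.Agent.HNTwoHSBound66
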