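import Cfsg.Agent.Lib.HNTwoHSBound66
import Cfsg.Agent.Lib.HNCertH66
import Cfsg.Agent.Lib.HNCertQ66
import Cfsg.Agent.Lib.HNCertK66

/-! The certificates assembled. -/

set_option autoImplicit false
set_option maxRecDepth 100000
set_option Elab.async false

namespace Cfsg.Agent.HNTwoHSData66

open Cfsg.Agent.CosetCertCore Cfsg.Agent.CosetCertTable Cfsg.Agent.CosetCertFlip66
  Cfsg.Agent.HNTwoHSRels66 Cfsg.Agent.HNTwoHSQ66 Cfsg.Agent.HNTwoHSBound66

/-- Words of the small group. -/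
def tree : List (List Nat) :=
  [[], [0], [2], [3], [0, 2], [0, 3], [2, 0], [2, 2], [3, 0], [3, 3], [0, 2, 0], [0, 2, 2], [0, 3, 0], [0, 3, 3], [2, 0, 2], [2, 0, 3], [2, 2, 0], [2, 2, 2], [3, 0, 2], [3, 0, 3], [3, 3, 0], [0, 2, 0, 2], [0, 2, 0, 3], [0, 2, 2, 0], [0, 2, 2, 2], [0, 3, 0, 2], [0, 3, 0, 3], [0, 3, 3, 0], [2, 0, 2, 2], [2, 0, 3, 0], [2, 0, 3, 3], [2, 2, 0, 2], [2, 2, 0, 3], [2, 2, 2, 0], [3, 0, 2, 0], [3, 0, 2, 2], [3, 0, 3, 3], [3, 3, 0, 2], [3, 3, 0, 3], [0, 2, 0, 2, 2], [0, 2, 0, 3, 0], [0, 2, 0, 3, 3], [0, 2, 2, 0, 3], [0, 2, 2, 2, 0], [0, 3, 0, 2, 0], [0, 3, 0, 2, 2], [0, 3, 0, 3, 3], [0, 3, 3, 0, 2], [2, 0, 2, 2, 2], [2, 0, 3, 0, 2], [2, 0, 3, 0, 3], [2, 0, 3, 3, 0], [2, 2, 0, 3, 0], [2, 2, 0, 3, 3], [2, 2, 2, 0, 2], [2, 2, 2, 0, 3], [3, 0, 2, 0, 2], [3, 0, 2, 0, 3], [3, 0, 2, 2, 0], [3, 0, 2, 2, 2], [3, 3, 0, 2, 0], [3, 3, 0, 2, 2], [0, 2, 0, 2, 2, 2], [0, 2, 0, 3, 0, 2], [0, 2, 0, 3, 3, 0], [0, 2, 2, 0, 3, 0], [0,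 2, 2, 2, 0, 2], [0, 2, 2, 2, 0, 3], [0, 3, 0, 2, 0, 3], [0, 3, 0, 2, 2, 0], [0, 3, 0, 2, 2, 2], [0, 3, 3, 0, 2, 0], [2, 0, 2, 2, 2, 0], [2, 0, 3, 0, 2, 0], [2, 0, 3, 0, 2, 2], [2, 0, 3, 3, 0, 2], [2, 2, 0, 3, 0, 2], [2, 2, 0, 3, 0, 3], [2, 2, 2, 0, 3, 0], [3, 0, 2, 0, 3, 0], [3, 0, 2, 0, 3, 3], [3, 0, 2, 2, 2, 0], [3, 3, 0, 2, 0, 3], [0, 2, 0, 2, 2, 2, 0], [0, 2, 0, 3, 0, 2, 0], [0, 2, 0, 3, 3, 0, 2], [0, 2, 2, 0, 3, 0, 2], [0, 2, 2, 0, 3, 0, 3], [0, 2, 2, 2, 0, 3, 0], [0, 3, 0, 2, 0, 3, 0], [0, 3, 0, 2, 2, 2, 0], [0, 3, 3, 0, 2, 0, 3], [2, 0, 2, 2, 2, 0, 2], [2, 0, 2, 2, 2, 0, 3], [2, 0, 3, 0, 2, 0, 3], [2, 0, 3, 0, 2, 2, 0], [2, 0, 3, 3, 0, 2, 0], [2, 2, 0, 3, 0, 2, 2], [3, 0, 2, 0, 3, 0, 2], [3, 0, 2, 0, 3, 3, 0], [3, 0, 2, 2, 2, 0, 2], [3, 0, 2, 2, 2, 0, 3], [3, 3, 0, 2, 0, 3, 3], [0, 2, 0, 2, 2, 2, 0, 3], [0, 2, 0, 3, 0, 2, 0, 3], [0, 2, 0, 3, 3, 0, 2, 0], [0, 2, 2, 0, 3, 0, 2, 2], [0, 3, 0, 2, 0, 3, 0, 2], [0, 3, 0, 2, 2, 2, 0,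 2], [0, 3, 3, 0, 2, 0, 3, 3], [2, 0, 2, 2, 2, 0, 3, 0], [2, 0, 3, 0, 2, 0, 3, 0], [2, 0, 3, 3, 0, 2, 0, 3], [3, 0, 2, 0, 3, 0, 2, 0], [0, 2, 0, 2, 2, 2, 0, 3, 0], [0, 2, 0, 3, 0, 2, 0, 3, 0], [0, 2, 0, 3, 3, 0, 2, 0, 3], [0, 3, 0, 2, 0, 3, 0, 2, 0], [2, 0, 3, 0, 2, 0, 3, 0, 2], [0, 2, 0, 3, 0, 2, 0, 3, 0, 2]]

/-- Separating points. -/
def wit : List Nat :=
  [0, 2, 1, 1, 1, 1, 1, 1, 1, 1, 1, 1, 1, 1, 1, 1, 1, 4, 1, 1, 1, 1, 1, 1, 2, 1, 1, 1, 1, 1, 1, 1, 1, 2, 1, 1, 1, 1, 1, 1, 1, 1, 1, 2, 1, 1, 1, 1, 1, 1, 1, 1, 1, 1, 1, 1, 1, 1, 1, 1, 1, 1, 1, 1, 1, 1, 1, 1, 1, 1, 1, 1, 1, 1, 1, 2, 1, 1, 1, 1, 1, 1, 1, 1, 1, 2, 1, 1, 1, 1, 1, 1, 1, 1, 1, 1, 2, 1, 1, 1, 1, 1, 1, 1, 1, 2, 1, 1, 1, 1, 1, 1, 1, 1, 1, 1, 1, 1, 2, 2]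

theorem perm0 : allFrom (permOk HNCertQData66.table) 256 0 = true := by decide +kernel

theorem perm1 : allFrom (permOk HNCertQData66.table) 256 256 = true := by decide +kernel

theorem perm2 : allFrom (permOk HNCertQData66.table) 256 512 = true := by decide +kernel

theorem perm3 : allFrom (permOk HNCertQData66.table) 256 768 = true := by decide +kernel

theorem perm4 : allFrom (permOk HNCertQData66.table) 256 1024 = true := by decide +kernel

theorem perm5 : allFrom (permOk HNCertQData66.table) 256 1280 = true := by decide +kernel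

theorem perm6 : allFrom (permOk HNCertQData66.table) 256 1536 = true := by decide +kernel

theorem perm7 : allFrom (permOk HNCertQData66.table) 256 1792 = true := by decide +kernel

theorem perm8 : allFrom (permOk HNCertQData66.table) 256 2048 = true := by decide +kernel

theorem perm9 : allFrom (permOk HNCertQData66.table) 256 2304 = true := by decide +kernel

theorem perm10 : allFrom (permOk HNCertQData66.table) 256 2560 = true := by decide +kernel

theorem perm11 : allFrom (permOk HNCertQData66.table) 256 2816 = true := by decide +kernel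

theorem perm12 : allFrom (permOk HNCertQData66.table) 256 3072 = true := by decide +kernel

theorem perm13 : allFrom (permOk HNCertQData66.table) 256 3328 = true := by decide +kernel

theorem perm14 : allFrom (permOk HNCertQData66.table) 256 3584 = true := by decide +kernel

theorem perm15 : allFrom (permOk HNCertQData66.table) 256 3840 = true := by decide +kernel

theorem perm16 : allFrom (permOk HNCertQData66.table) 256 4096 = true := by decide +kernel

theorem perm17 : allFrom (permOk HNCertQData66.table) 256 4352 = true := by decide +kernel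

theorem perm18 : allFrom (permOk HNCertQData66.table) 256 4608 = true := by decide +kernel

theorem perm19 : allFrom (permOk HNCertQData66.table) 256 4864 = true := by decide +kernel

theorem perm20 : allFrom (permOk HNCertQData66.table) 256 5120 = true := by decide +kernel

theorem perm21 : allFrom (permOk HNCertQData66.table) 256 5376 = true := by decide +kernel

theorem perm22 : allFrom (permOk HNCertQData66.table) 256 5632 = true := by decide +kernel

theorem perm23 : allFrom (permOk HNCertQData66.table) 256 5888 = true := by decide +kernel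

theorem perm24 : allFrom (permOk HNCertQData66.table) 156 6144 = true := by decide +kernel

theorem perm_all : AllBelow (permOk HNCertQData66.table) 6300 :=
  (((((((((((((((((((((((((AllBelow.zero _).step 256 perm0).step 256 perm1).step 256 perm2).step 256 perm3).step 256 perm4).step 256 perm5).step 256 perm6).step 256 perm7).step 256 perm8).step 256 perm9).step 256 perm10).step 256 perm11).step 256 perm12).step 256 perm13).step 256 perm14).step 256 perm15).step 256 perm16).step 256 perm17).step 256 perm18).step 256 perm19).step 256 perm20).step 256 perm21).step 256 perm22).step 256 perm23).step 156 perm24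

theorem relsQ_mem : HNCertQData66.cert.rels.all
    (fun w => decide (w ∈ variants ([1] :: baseWords))) = true := by decide +kernel

theorem relsK_mem : HNCertKData66.cert.rels.all (fun w => decide (w ∈ variants kWords)) = true := by
  decide +kernel

theorem tree_check : allFrom (fun i => (tree.getD i []).all (fun x => Nat.blt x 4) &&
    Nat.beq (HNCertHData66.table.run (tree.getD i []) 0) i) 120 0 = true := by decide +kernel

/-- The data of the first two generators. -/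
noncomputable def dQ : QData where
  cQ := HNCertQData66.cert
  mQ := 116306
  tQ := HNCertQData66.table
  cH := HNCertHData66.cert
  mH := 305
  tH := HNCertHData66.table
  closedQ := HNCertQ66.closed
  closedH := HNCertH66.closed
  nQ := rfl
  nH := rfl
  relsQ := by
    intro Q _ X Y h
    refine variants_one (gv_inv (by rw [← sq, h.r0]) (one_mul 1)) ?_ relsQ_mem
    intro w hw
    rcases List.mem_cons.mp hw with rfl | hw
    · simp [vr, gv]
    · exact base_one h w hw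
  sgensQ := rfl
  relsH := rfl
  sgensH := rfl
  tree := tree
  tree_zero := rfl
  tree_ok := fun i hi => by
    have h := (allFrom_iff _ _ _).mp tree_check i (Nat.zero_le i) (by rw [Nat.zero_add]; exact hi)
    rw [Bool.and_eq_true, Nat.beq_eq] at h
    exact h
  perm_ok := perm_all

theorem okC3 : dQ.trivOk wit (cw ++ cw ++ cw) = true := by decide +kernel

theorem okCX : dQ.trivOk wit ([0] ++ cw ++ [0] ++ cw) = true := by decide +kernel

theorem okCY : dQ.trivOk wit ([3] ++ cw ++ [2] ++ winv cw) = true := by decide +kernel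

theorem okG1 : dQ.trivOk wit (g1 ++ winv g1b) = true := by decide +kernel

theorem count_eq : dQ.countLeast cw = 2100 := by decide +kernel

/-- The data of the three generators. -/
noncomputable def dK : KData where
  dQ := dQ
  cK := HNCertKData66.cert
  mK := 24933
  tK := HNCertKData66.table
  closedK := HNCertK66.closed
  nK := rfl
  relsK := fun hg h => variants_one hg h relsK_mem
  sgensK := rfl
  wit := wit
  okC3 := okC3
  okCX := okCX
  okCY := okCY
  okG1 := okG1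
  cwLt := by decide +kernel

/-- Groups with the relations of the three generators have order at most 177408000. -/
theorem card_le {K : Type} [Group K] {x y z : K} (h : Rels x y z)
    (hgen : Subgroup.closure ({x, y, z} : Set K) = ⊤) : Finite K ∧ Nat.card K ≤ 177408000 := by
  obtain ⟨h1, h2⟩ := dK.card_le h hgen
  refine ⟨h1, h2.trans ?_⟩
  show 2 * (352 * (dQ.countLeast cw * 120)) ≤ _
  rw [count_eq]

end Cfsg.Agent.HNTwoHSData66
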