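import Cfsg.Agent.Lib.HSMultCover

/-!
The permutations on one hundred points of the three generators of the Harada-Norton presentation.
-/

set_option autoImplicit false
set_option maxRecDepth 100000

namespace Cfsg.Agent.HNTwoHSPerm66

open Cfsg.Agent.HSPerm

/-- first table -/
def tx : List ℕ := [6, 64, 58, 37, 59, 55, 0, 41, 77, 48, 67, 19, 13, 12, 56, 68, 73, 47, 74, 11, 32, 25, 51, 52, 35, 21, 31, 88, 78, 98, 49, 26, 20, 94, 84, 24, 66, 3, 85, 69, 80, 7, 50, 76, 93, 83, 71, 17, 9, 30, 42, 22, 23, 63, 79, 5, 14, 95, 2, 4, 97, 62, 61, 53, 1, 92, 36, 10, 15, 39, 86, 46, 90, 16, 18, 87, 43, 8, 28, 54, 40, 99, 91, 45, 34, 38, 70, 75, 27, 96, 72, 82, 65, 44, 33, 57, 89, 60, 29, 81]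
/-- its inverse -/
def txi : List ℕ := [6, 64, 58, 37, 59, 55, 0, 41, 77, 48, 67, 19, 13, 12, 56, 68, 73, 47, 74, 11, 32, 25, 51, 52, 35, 21, 31, 88, 78, 98, 49, 26, 20, 94, 84, 24, 66, 3, 85, 69, 80, 7, 50, 76, 93, 83, 71, 17, 9, 30, 42, 22, 23, 63, 79, 5, 14, 95, 2, 4, 97, 62, 61, 53, 1, 92, 36, 10, 15, 39, 86, 46, 90, 16, 18, 87, 43, 8, 28, 54, 40, 99, 91, 45, 34, 38, 70, 75, 27, 96, 72, 82, 65, 44, 33, 57, 89, 60, 29, 81]
/-- second table -/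
def ty : List ℕ := [7, 55, 3, 24, 64, 4, 22, 0, 31, 14, 76, 63, 6, 50, 62, 30, 66, 23, 32, 74, 52, 51, 12, 28, 9, 78, 91, 21, 13, 96, 38, 35, 68, 58, 85, 1, 33, 90, 15, 86, 57, 19, 82, 83, 11, 75, 40, 98, 8, 18, 72, 44, 41, 88, 93, 48, 87, 46, 61, 59, 73, 60, 2, 27, 5, 94, 70, 84, 10, 81, 16, 20, 17, 36, 71, 45, 49, 97, 54, 79, 95, 34, 25, 37, 53, 29, 39, 67, 56, 92, 47, 77, 99, 42, 26, 80, 69, 65, 43, 89]
/-- its inverse -/
def tyi : List ℕ := [7, 35, 62, 2, 5, 64, 12, 0, 48, 24, 68, 44, 22, 28, 9, 38, 70, 72, 49, 41, 71, 27, 6, 17, 3, 82, 94, 63, 23, 85, 15, 8, 18, 36, 81, 31, 73, 83, 30, 86, 46, 52, 93, 98, 51, 75, 57, 90, 55, 76, 13, 21, 20, 84, 78, 1, 88, 40, 33, 59, 61, 58, 14, 11, 4, 97, 16, 87, 32, 96, 66, 74, 50, 60, 19, 45, 10, 91, 25, 79, 95, 69, 42, 43, 67, 34, 39, 56, 53, 99, 37, 26, 89, 54, 65, 80, 29, 77, 47, 92]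
/-- third table -/
def tz : List ℕ := [6, 5, 15, 3, 4, 1, 0, 7, 17, 9, 10, 19, 13, 12, 14, 2, 16, 8, 20, 11, 18, 21, 51, 52, 24, 25, 53, 90, 78, 80, 62, 63, 74, 94, 95, 35, 36, 37, 85, 69, 98, 41, 42, 43, 93, 87, 71, 77, 48, 61, 50, 22, 23, 26, 79, 64, 56, 84, 68, 59, 97, 49, 30, 31, 55, 92, 66, 67, 58, 39, 86, 46, 88, 73, 32, 83, 76, 47, 28, 54, 29, 81, 82, 75, 57, 38, 70, 45, 72, 89, 27, 91, 65, 44, 33, 34, 96, 60, 40, 99]

/-- An entry of a table. -/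
def at' (t : List ℕ) (i : Fin 100) : Fin 100 := ⟨t.getD i 0 % 100, Nat.mod_lt _ (by norm_num)⟩

/-- The first permutation. -/
def Px : Equiv.Perm (Fin 100) := ⟨at' tx, at' txi, by decide +kernel, by decide +kernel⟩
/-- The second permutation. -/
def Py : Equiv.Perm (Fin 100) := ⟨at' ty, at' tyi, by decide +kernel, by decide +kernel⟩
/-- The third permutation. -/
def Pz : Equiv.Perm (Fin 100) := ⟨at' tz, at' tz, by decide +kernel, by decide +kernel⟩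

/-- The letters of the words. -/
def letter : ℕ → Equiv.Perm (Fin 100)
  | 0 => Px⁻¹
  | 2 => Py⁻¹
  | 3 => Py
  | 4 => Pz
  | _ => 1

/-- A table entry through a letter. -/
def letterF : ℕ → Fin 100 → Fin 100
  | 0, i => at' txi i
  | 2, i => at' tyi i
  | 3, i => at' ty i
  | 4, i => at' tz i
  | _, i => i

/-- The table of a word. -/
def wordG : List ℕ → Fin 100 → Fin 100
  | [], i => i
  | a :: l, i => letterF a (wordG l i)

theorem letter_apply : ∀ (a : ℕ) (i : Fin 100), letter a i = letterF a i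
  | 0, _ => rfl
  | 1, _ => rfl
  | 2, _ => rfl
  | 3, _ => rfl
  | 4, _ => rfl
  | _ + 5, _ => rfl

theorem word_apply : ∀ (l : List ℕ) (i : Fin 100), (l.map letter).prod i = wordG l i
  | [], _ => rfl
  | a :: l, i => by
    rw [List.map_cons, List.prod_cons, Equiv.Perm.mul_apply, word_apply l, letter_apply]
    rfl

/-- The word of the first generator of the sporadic group. -/
def wx : List ℕ := [3, 0, 3, 0, 2, 2, 0, 3, 3, 4, 3, 0, 2, 0, 2, 2, 2, 4, 2, 2, 2]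
/-- The word of the second generator of the sporadic group. -/
def wy : List ℕ := [0, 3, 4, 3, 4, 3, 4, 3, 3, 4, 0, 3, 0, 3, 3, 4, 2, 4, 2]
/-- The word of the third generator of the sporadic group. -/
def wz : List ℕ := [0, 3, 3, 0, 2, 0, 2, 2, 2, 4, 3, 0, 2, 0, 2, 4, 0, 2, 2, 0, 2, 0]

theorem wx_table : ∀ i : Fin 100, (wordG wx i : ℕ) = genF 0 i := by decide +kernel

theorem wy_table : ∀ i : Fin 100, (wordG wy i : ℕ) = genF 1 i := by decide +kernel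

theorem wz_table : ∀ i : Fin 100, (wordG wz i : ℕ) = genF 2 i := by decide +kernel

/-- The word giving the first permutation. -/
def xWord : List (Fin 3) := [1, 0, 0, 2, 2, 0, 1, 0, 2, 0, 2, 2, 2, 0, 0, 2, 2, 1, 1]

theorem xWord_table : ∀ i : Fin 100, wordF xWord i = (at' tx i : ℕ) := by decide +kernel

theorem Px_mem : Px ∈ Hp := by
  have h : Px = (wordE xWord : Equiv.Perm (Fin 100)) := Equiv.ext fun i => Fin.ext (by
    rw [wordE_rep xWord i, xWord_table i]; rfl)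
  rw [h]
  exact (wordE xWord).2

/-- The transpositions of the third permutation. -/
def swaps : List (Fin 100 × Fin 100) := [(0, 6), (1, 5), (2, 15), (8, 17), (11, 19), (12, 13), (18, 20), (22, 51), (23, 52), (26, 53), (27, 90), (28, 78), (29, 80), (30, 62), (31, 63), (32, 74), (33, 94), (34, 95), (38, 85), (39, 69), (40, 98), (44, 93), (45, 87), (46, 71), (47, 77), (49, 61), (54, 79), (55, 64), (57, 84), (58, 68), (60, 97), (65, 92), (70, 86), (72, 88), (75, 83)]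

/-- A product of transpositions on points. -/
def swapsF : List (Fin 100 × Fin 100) → Fin 100 → Fin 100
  | [], i => i
  | p :: l, i => if swapsF l i = p.1 then p.2 else if swapsF l i = p.2 then p.1 else swapsF l i

theorem swaps_apply : ∀ (l : List (Fin 100 × Fin 100)) (i : Fin 100),
    (l.map fun p => Equiv.swap p.1 p.2).prod i = swapsF l i
  | [], _ => rfl
  | p :: l, i => by
    rw [List.map_cons, List.prod_cons, Equiv.Perm.mul_apply, swaps_apply l, Equiv.swap_apply_def]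
    rfl

theorem swaps_table : ∀ i : Fin 100, swapsF swaps i = at' tz i := by decide +kernel

theorem swaps_ne : ∀ p ∈ swaps, p.1 ≠ p.2 := by decide +kernel

theorem sign_Pz : Equiv.Perm.sign Pz = -1 := by
  have e : Pz = (swaps.map fun p => Equiv.swap p.1 p.2).prod := Equiv.ext fun i => by
    rw [swaps_apply, swaps_table]; rfl
  have h : ∀ g ∈ swaps.map (fun p => Equiv.swap p.1 p.2), g.IsSwap := by
    intro g hg
    obtain ⟨p, hp, rfl⟩ := List.mem_map.mp hg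
    exact ⟨p.1, p.2, swaps_ne p hp, rfl⟩
  rw [e, Equiv.Perm.sign_prod_list_swap h, List.length_map, show swaps.length = 35 from rfl]
  decide

/-- Paths from the lone fixed point. -/
def paths : List (List (Fin 3)) := [[2, 2], [0, 2, 2], [1, 0, 0, 2, 2], [0, 0, 2, 2], [2, 2, 2], [0, 1, 0, 0, 2, 2], [0, 0, 2, 1, 0, 0, 2], [0, 0, 0, 2, 2], [0, 1, 0, 2, 2], [0, 2, 2, 2], [1, 0, 2, 2, 2], [1, 1, 0, 0, 2, 2], [0, 2, 0, 2, 2, 2], [2, 0, 0, 2], [0, 2, 1, 0, 0, 2], [1, 0, 2, 2], [0, 0, 0, 2, 2, 2], [2, 0, 2, 2, 2], [2, 1, 0, 0, 2], [0, 0, 2, 2, 2], [2, 2, 2, 0, 2], [0, 1, 0, 2, 2, 2], [0, 2, 2, 1, 0, 0, 2], [0, 2, 0, 2], [0, 2, 2, 0, 0, 2], [2, 0, 1, 0, 2, 2], [1, 0, 0, 2], [2, 0, 0, 0, 2, 2], [2, 0, 2, 2], [0, 1, 0, 2, 0, 2], [1, 0, 2, 0, 0, 0, 2], [2, 1, 0, 2, 2], [2, 2, 0, 0, 2], [1, 0, 0, 2, 0, 2], [2, 2, 1, 0, 0, 2], [0, 2, 1, 0, 2, 2], [0, 0, 2, 0, 2, 2], [2, 0, 2],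 [0, 2, 0, 2, 2], [0, 1, 1, 0, 2, 0, 2], [2, 0, 0, 0, 2], [1, 0, 2, 0, 2], [1, 1, 0, 0, 2, 0, 2], [0, 2, 1, 0, 2], [0, 2, 2, 2, 2, 0, 2], [2, 2, 0, 2, 1, 0, 2], [1, 0, 2, 2, 0, 0, 2], [2, 2, 1, 0, 2], [1, 0, 2, 0, 2, 2], [0, 2, 0, 0, 2, 2, 2], [0, 0, 1, 0, 2, 0, 2], [0, 0, 2, 0, 2], [0, 2, 0, 0, 0, 2], [2, 0, 0, 2, 0, 2, 2], [1, 1, 1, 0, 2, 0, 2], [2, 0, 2, 1, 0, 2], [2, 0, 1, 0, 2], [0, 0, 0, 2, 0, 2, 2], [2, 2, 2, 0, 0, 2, 2], [1, 0, 2, 0, 0, 2, 2], [1, 1, 0, 2, 0, 2], [2], [0, 2, 2, 2, 2], [0, 2, 2, 0, 0, 2, 2], [2, 0, 2, 1, 0, 0, 2], [2, 0, 0, 2, 2, 2], [2, 2, 0, 2], [2, 2, 2, 2, 0, 2], [0, 2, 1, 1, 0, 0, 2, 2], [2, 0, 2, 2, 0, 2, 2], [2, 0, 1, 0, 0, 2], [2, 0, 2, 0, 2, 2], [0, 2, 0, 0, 2, 2], [2, 1, 0, 2], [0, 2, 0, 0, 2, 1, 0, 2], [1, 0, 2, 1, 0, 2], [0, 0, 2], [0, 0, 1, 0, 2], [2, 2, 1, 0, 2, 2], [0, 0, 2, 1, 0, 2], [2, 1, 1, 0, 0, 2, 2], [2, 2, 0, 2, 2], [2,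 2, 2, 2], [2, 1, 0, 0, 2, 2], [1, 0, 2, 2, 0, 2, 2], [2, 0, 0, 2, 1, 0, 2], [2, 2, 0, 0, 2, 2], [0, 2, 0, 1, 0, 0, 2], [0, 0, 0, 2], [2, 2, 1, 0, 0, 2, 2], [2, 2, 0, 0, 0, 2, 2], [0, 1, 0, 0, 2], [0, 2], [2, 0, 2, 2, 2, 2], [2, 0, 0, 2, 2], [1, 0, 2], [2, 0, 2, 0, 2, 2, 2], [0, 1, 0, 2], [0, 2, 2, 0, 2, 2], []]

theorem paths_table : ∀ i : Fin 100, wordF (paths.getD i []) 99 = i := by decide +kernel

theorem lone_fixed : ∀ i : Fin 100, genF 0 i = i → (i : ℕ) = 99 := by decide +kernel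

theorem lone_is_fixed : genF 0 99 = 99 := by decide +kernel

/-- Only the identity commutes with the sporadic group. -/
theorem centralizer_Hp {s : Equiv.Perm (Fin 100)} (hs : ∀ g ∈ Hp, g * s = s * g) : s = 1 := by
  have h0 : s ⟨99, by norm_num⟩ = ⟨99, by norm_num⟩ := by
    apply Fin.ext
    apply lone_fixed
    have e := congrArg (fun p : Equiv.Perm (Fin 100) => (p ⟨99, by norm_num⟩ : ℕ))
      (hs (ρ (gen 0)) ⟨gen 0, rfl⟩)
    simp only [Equiv.Perm.mul_apply, gen_rep 0 _] at e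
    have e2 : ρ (gen 0) ⟨99, by norm_num⟩ = ⟨99, by norm_num⟩ :=
      Fin.ext (by rw [gen_rep 0 _]; exact lone_is_fixed)
    rw [e2] at e
    exact e
  refine Equiv.ext fun i => ?_
  have hi : (wordE (paths.getD i []) : Equiv.Perm (Fin 100)) ⟨99, by norm_num⟩ = i :=
    Fin.ext (by rw [wordE_rep _ _]; exact paths_table i)
  rw [Equiv.Perm.one_apply]
  conv_lhs => rw [← hi, ← Equiv.Perm.mul_apply, ← hs _ (wordE (paths.getD i [])).2,
    Equiv.Perm.mul_apply, h0, hi]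

end Cfsg.Agent.HNTwoHSPerm66
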