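import Cfsg.Agent.Lib.HNTwoHSData66
import Cfsg.Agent.Lib.HNTwoHSPerm66
import Cfsg.Prelude.Def_SporadicB

/-!
A group generated by three elements with the relations of the first three generators of the Harada-Norton
presentation, in which the squares of the first two generators survive, is a double cover of the
automorphism group of the Higman-Sims group.
-/

set_option autoImplicit false
set_option maxRecDepth 100000
set_option linter.style.haveILetI false

namespace Cfsg.Agent.HNTwoHSGroup66

open Cfsg Cfsg.Agent.HNTwoHSRels66 Cfsg.Agent.HNTwoHSPerm66 Cfsg.Agent.HSPerm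

/-- Three generators. -/
inductive Gen3
  | a
  | b
  | c
  deriving DecidableEq

/-- The ten relators. -/
def rels3 : List (FreeGroup Gen3) :=
  let x := FreeGroup.of Gen3.a
  let y := FreeGroup.of Gen3.b
  let z := FreeGroup.of Gen3.c
  [y ^ 6, x ^ 2 * y * x ^ 2 * y⁻¹, (x⁻¹ * y⁻¹ * x * y) ^ 3, (x⁻¹ * y ^ 2 * x * y ^ 3) ^ 3, (x * y) ^ 8,
    (x * y * x * y ^ 3) ^ 4, z ^ 2, (z * x) ^ 2,
    (z⁻¹ * (y * x * y * x * y ^ 2 * x * y⁻¹)⁻¹ * z * (y * x * y * x * y ^ 2 * x * y⁻¹)) * (x ^ 2)⁻¹,
    z * (((y ^ 3 * x * y * x * y)⁻¹ * z * (y ^ 3 * x * y * x * y)) * x) ^ 3]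

/-- The universal group. -/
abbrev P3 : Type := PresentedGroup {r : FreeGroup Gen3 | r ∈ rels3}

/-- first generator -/
def gA : P3 := PresentedGroup.of Gen3.a
/-- second generator -/
def gB : P3 := PresentedGroup.of Gen3.b
/-- third generator -/
def gC : P3 := PresentedGroup.of Gen3.c

theorem rels_gen : Rels gA gB gC := by
  have h : ∀ r ∈ rels3, PresentedGroup.mk {r : FreeGroup Gen3 | r ∈ rels3} r = 1 :=
    fun r hr => PresentedGroup.one_of_mem hr
  simp only [rels3, List.forall_mem_cons, map_mul, map_pow, map_inv, List.not_mem_nil,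
    false_implies, implies_true, and_true] at h
  obtain ⟨a, b, c, d, e, f, g, i, j, k⟩ := h
  exact ⟨a, b, c, d, e, f, g, i, j, k⟩

theorem closure_gen : Subgroup.closure ({gA, gB, gC} : Set P3) = ⊤ := by
  rw [eq_top_iff, ← PresentedGroup.closure_range_of]
  apply Subgroup.closure_mono
  rintro _ ⟨g, rfl⟩
  cases g <;> simp [gA, gB, gC]

theorem perm_rels : Rels Px Py Pz where
  r1 := Equiv.ext (by decide +kernel)
  r2 := Equiv.ext (by decide +kernel)
  r3 := Equiv.ext (by decide +kernel)
  r4 := Equiv.ext (by decide +kernel)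
  r5 := Equiv.ext (by decide +kernel)
  r6 := Equiv.ext (by decide +kernel)
  r7 := Equiv.ext (by decide +kernel)
  r8 := Equiv.ext (by decide +kernel)
  r9 := Equiv.ext (by decide +kernel)
  r10 := Equiv.ext (by decide +kernel)

/-- The images of the generators. -/
def img : Gen3 → Equiv.Perm (Fin 100)
  | .a => Px
  | .b => Py
  | .c => Pz

theorem img_rels : ∀ r ∈ ({r | r ∈ rels3} : Set (FreeGroup Gen3)), FreeGroup.lift img r = 1 := by
  show ∀ r ∈ rels3, FreeGroup.lift img r = 1
  have h := perm_rels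
  simp only [rels3, List.forall_mem_cons, map_mul, map_pow, map_inv, FreeGroup.lift_apply_of, img,
    List.not_mem_nil, false_implies, implies_true, and_true]
  exact ⟨h.r1, h.r2, h.r3, h.r4, h.r5, h.r6, h.r7, h.r8, h.r9, h.r10⟩

/-- The action on one hundred points. -/
noncomputable def π : P3 →* Equiv.Perm (Fin 100) := PresentedGroup.toGroup img_rels

theorem π_A : π gA = Px := PresentedGroup.toGroup.of img_rels
theorem π_B : π gB = Py := PresentedGroup.toGroup.of img_rels
theorem π_C : π gC = Pz := PresentedGroup.toGroup.of img_rels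

theorem word_mem_range (l : List ℕ) : (l.map letter).prod ∈ π.range := by
  refine Subgroup.list_prod_mem _ fun g hg => ?_
  obtain ⟨n, -, rfl⟩ := List.mem_map.mp hg
  match n with
  | 0 => exact inv_mem ⟨gA, π_A⟩
  | 1 => exact one_mem _
  | 2 => exact inv_mem ⟨gB, π_B⟩
  | 3 => exact ⟨gB, π_B⟩
  | 4 => exact ⟨gC, π_C⟩
  | n + 5 => exact one_mem _

theorem ρ_word {k : Fin 3} {l : List ℕ} (h : ∀ i : Fin 100, (wordG l i : ℕ) = genF k i) :
    ρ (gen k) = (l.map letter).prod :=
  Equiv.ext fun i => Fin.ext (by rw [gen_rep k i, word_apply, h i])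

theorem Hp_le : Hp ≤ π.range := by
  have h : Subgroup.closure ({gx, gy, gz} : Set Gr) ≤ π.range.comap ρ := by
    rw [Subgroup.closure_le]
    rintro a (rfl | rfl | rfl)
    · show ρ (gen 0) ∈ π.range
      rw [ρ_word wx_table]; exact word_mem_range wx
    · show ρ (gen 1) ∈ π.range
      rw [ρ_word wy_table]; exact word_mem_range wy
    · show ρ (gen 2) ∈ π.range
      rw [ρ_word wz_table]; exact word_mem_range wz
  rw [closure_gens] at h
  rintro _ ⟨g, rfl⟩
  exact h (Subgroup.mem_top g)

theorem Pz_not_mem : Pz ∉ Hp := fun h => by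
  have := HSMultCover.sign_eq_one Pz h
  rw [sign_Pz] at this
  exact absurd this (by decide)

instance finite_P3 : Finite P3 := (HNTwoHSData66.card_le rels_gen closure_gen).1

theorem card_P3_le : Nat.card P3 ≤ 177408000 := (HNTwoHSData66.card_le rels_gen closure_gen).2

theorem card_range_ge : 88704000 ≤ Nat.card π.range := by
  have h1 : Nat.card Hp * (Hp.subgroupOf π.range).index = Nat.card π.range := by
    rw [← Nat.card_congr (Subgroup.subgroupOfEquivOfLe Hp_le).toEquiv]
    exact (Hp.subgroupOf π.range).card_mul_index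
  have h2 : (Hp.subgroupOf π.range).index ≠ 1 := by
    intro h
    rw [Subgroup.index_eq_one, Subgroup.subgroupOf_eq_top] at h
    exact Pz_not_mem (h ⟨gC, π_C⟩)
  have h3 : (Hp.subgroupOf π.range).index ≠ 0 := Subgroup.index_ne_zero_of_finite
  rw [card_Hp] at h1
  omega

/-- The square of the first generator. -/
def d : P3 := gA ^ 2

theorem π_d : π d = 1 := by
  rw [d, map_pow, π_A]
  exact Equiv.ext (by decide +kernel)

theorem d_sq : d * d = 1 := sq_sq rels_gen

theorem d_central : d ∈ Subgroup.center P3 := sq_central rels_gen closure_gen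

theorem d_comm (g : P3) : g * d = d * g := Subgroup.mem_center_iff.mp d_central g

section

variable {R : Type*} [Monoid R] (ψ : P3 →* R) (hd : ψ d ≠ 1) (hb : ψ (gB ^ 2) ≠ 1)
include ψ hd

theorem d_ne : d ≠ 1 := fun h => hd (by rw [h, map_one])

theorem card_data : Nat.card π.range = 88704000 ∧ ∀ g, π g = 1 → g = 1 ∨ g = d := by
  have h1 : Nat.card π.ker * Nat.card π.range = Nat.card P3 := by
    rw [← π.ker.card_mul_index, Subgroup.index_ker]
  have hmem : d ∈ π.ker := π_d
  have h2 : 2 ≤ Nat.card π.ker := by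
    have hdd : d ≠ 1 := d_ne ψ hd
    have := Nat.card_le_card_of_injective (fun b : Bool => if b then (⟨d, hmem⟩ : π.ker) else 1) (by
      intro a b hab
      cases a <;> cases b <;> simp_all [Subtype.ext_iff, hdd.symm])
    simpa using this
  have h3 := card_P3_le
  have h4 := card_range_ge
  have hk : Nat.card π.ker = 2 := by nlinarith
  refine ⟨by nlinarith, fun g hg => ?_⟩
  by_contra hne
  rw [not_or] at hne
  haveI := Fintype.ofFinite π.ker
  haveI := Classical.decEq π.ker
  have hdd : d ≠ 1 := d_ne ψ hd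
  have := Finset.card_le_univ ({1, ⟨d, hmem⟩, ⟨g, hg⟩} : Finset π.ker)
  rw [Finset.card_insert_of_notMem (by simp [Subtype.ext_iff, hdd.symm, Ne.symm hne.1]),
    Finset.card_insert_of_notMem (by simp [Subtype.ext_iff, Ne.symm hne.2]), Finset.card_singleton,
    ← Nat.card_eq_fintype_card, hk] at this
  omega

/-- The subgroup of index two. -/
noncomputable def sub : Subgroup P3 := Hp.comap π

omit ψ hd in
theorem mem_sub {g : P3} : g ∈ sub ↔ π g ∈ Hp := Iff.rfl

theorem index_sub : sub.index = 2 := by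
  have h1 := (Hp.subgroupOf π.range).card_mul_index
  rw [Nat.card_congr (Subgroup.subgroupOfEquivOfLe Hp_le).toEquiv, card_Hp, (card_data ψ hd).1] at h1
  rw [sub, Subgroup.index_comap]
  show (Hp.subgroupOf π.range).index = 2
  omega

theorem normal_sub : sub.Normal := Subgroup.normal_of_index_eq_two (index_sub ψ hd)

omit ψ hd in
/-- The map onto the sporadic group. -/
noncomputable def toHS : sub →* Hp where
  toFun g := ⟨π (g : P3), g.2⟩
  map_one' := Subtype.ext (map_one π)
  map_mul' a b := Subtype.ext (map_mul π (a : P3) (b : P3))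

omit ψ hd in
theorem toHS_surjective : Function.Surjective toHS := by
  rintro ⟨h, hh⟩
  obtain ⟨g, hg⟩ := Hp_le hh
  exact ⟨⟨g, by rw [mem_sub, hg]; exact hh⟩, Subtype.ext hg⟩

omit ψ hd in
theorem d_mem : d ∈ sub := by rw [mem_sub, π_d]; exact one_mem _

omit ψ hd in
theorem gA_mem : gA ∈ sub := by rw [mem_sub, π_A]; exact Px_mem

theorem center_sub : Subgroup.center sub = toHS.ker := by
  apply le_antisymm
  · intro g hg
    haveI := simple_Hp
    have hc : toHS g ∈ Subgroup.center Hp := by
      rw [Subgroup.mem_center_iff]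
      intro h
      obtain ⟨a, rfl⟩ := toHS_surjective h
      rw [← map_mul, ← map_mul, Subgroup.mem_center_iff.mp hg a]
    rcases Subgroup.Normal.eq_bot_or_eq_top (inferInstance : (Subgroup.center Hp).Normal) with h | h
    · rw [h, Subgroup.mem_bot] at hc
      exact hc
    · exfalso
      have hcom : commutator Hp = ⊥ := by
        rw [commutator_eq_bot_iff_center_eq_top]; exact h
      rw [HSMultCover.perfect_Hp] at hcom
      have h2 := congrArg (fun H : Subgroup Hp => Nat.card H) hcom
      simp only [Subgroup.card_top, Subgroup.card_bot, card_Hp] at h2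
      omega
  · intro g hg
    rw [Subgroup.mem_center_iff]
    intro a
    have h1 : π g = 1 := congrArg Subtype.val (MonoidHom.mem_ker.mp hg)
    rcases (card_data ψ hd).2 _ h1 with h | h
    · rw [show g = 1 from Subtype.ext h, mul_one, one_mul]
    · exact Subtype.ext (by rw [Subgroup.coe_mul, Subgroup.coe_mul, h]; exact d_comm _)

theorem cover : IsNonsplitDoubleCover sub Spor.HS := by
  have hdd : d ≠ 1 := d_ne ψ hd
  have hmem : (⟨d, d_mem⟩ : sub) ∈ Subgroup.center sub := by
    rw [center_sub ψ hd]; exact Subtype.ext π_d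
  have hcard : Nat.card (Subgroup.center sub) = 2 := by
    rw [Nat.card_eq_two_iff]
    refine ⟨1, ⟨_, hmem⟩, fun h => hdd (congrArg (fun q : Subgroup.center sub => ((q : sub) : P3)) h).symm, ?_⟩
    rw [Set.eq_univ_iff_forall]
    intro q
    have h1 : π ((q : sub) : P3) = 1 := by
      have h2 : (q : sub) ∈ toHS.ker := center_sub ψ hd ▸ q.2
      exact congrArg Subtype.val (MonoidHom.mem_ker.mp h2)
    rcases (card_data ψ hd).2 _ h1 with h | h
    · exact Or.inl (Subtype.ext (Subtype.ext h))
    · exact Or.inr (Subtype.ext (Subtype.ext h))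
  refine ⟨hcard, ⟨((QuotientGroup.quotientMulEquivOfEq (center_sub ψ hd)).trans
    (QuotientGroup.quotientKerEquivOfSurjective toHS toHS_surjective)).trans toHp.symm⟩, fun L hL => ?_⟩
  have hidx : L.index = 2 := by rw [hL.index_eq_card, hcard]
  have hA := Subgroup.mul_self_mem_of_index_two hidx (⟨gA, gA_mem⟩ : sub)
  have he : (⟨gA, gA_mem⟩ : sub) * ⟨gA, gA_mem⟩ = ⟨d, d_mem⟩ := Subtype.ext (sq gA).symm
  rw [he] at hA
  exact hdd (congrArg Subtype.val (Subgroup.disjoint_def.mp hL.disjoint hmem hA))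

include hb in
theorem eq_bot_of_normal {M : Subgroup P3} (hn : M.Normal) (hM : ∀ g ∈ M, ψ g = 1) : M = ⊥ := by
  have hdM : d ∉ M := fun h => hd (hM d h)
  haveI := simple_Hp
  let Im : Subgroup Hp := (M.map π).subgroupOf Hp
  have hImN : Im.Normal := ⟨by
    rintro ⟨n, hn'⟩ ⟨m, hm, hmn⟩ ⟨h, hh⟩
    obtain ⟨g, hg⟩ := Hp_le hh
    refine ⟨g * m * g⁻¹, hn.conj_mem m hm g, ?_⟩
    rw [map_mul, map_mul, map_inv, hg, hmn]
    rfl⟩
  rcases Subgroup.Normal.eq_bot_or_eq_top hImN with h | h
  · refine (Subgroup.eq_bot_iff_forall M).mpr fun m hm => ?_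
    have hzero : ∀ a ∈ Hp, a ∈ M.map π → a = 1 := fun a ha ha' => by
      have : (⟨a, ha⟩ : Hp) ∈ Im := ha'
      rw [h, Subgroup.mem_bot] at this
      exact congrArg Subtype.val this
    have hs : π m = 1 := by
      refine centralizer_Hp fun a ha => ?_
      obtain ⟨g, rfl⟩ := Hp_le ha
      have h1 : π (g * m * g⁻¹ * m⁻¹) ∈ M.map π :=
        Subgroup.mem_map_of_mem π (mul_mem (hn.conj_mem m hm g) (inv_mem hm))
      have hS := normal_sub ψ hd
      have h2 : π (g * m * g⁻¹ * m⁻¹) ∈ Hp := by
        have hg : g ∈ sub := ha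
        have : g * (m * g⁻¹ * m⁻¹) ∈ sub := mul_mem hg (hS.conj_mem _ (inv_mem hg) m)
        rw [show g * m * g⁻¹ * m⁻¹ = g * (m * g⁻¹ * m⁻¹) by group]
        exact this
      have h3 := hzero _ h2 h1
      rw [map_mul, map_mul, map_mul, map_inv, map_inv, mul_inv_eq_one, mul_inv_eq_iff_eq_mul] at h3
      exact h3
    rcases (card_data ψ hd).2 m hs with h' | h'
    · exact h'
    · exact absurd (h' ▸ hm) hdM
  · exfalso
    have hy : π (gB ^ 2) ∈ Hp := by
      rw [sq]
      exact Subgroup.mul_self_mem_of_index_two (index_sub ψ hd) gB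
    have : (⟨π (gB ^ 2), hy⟩ : Hp) ∈ Im := h ▸ Subgroup.mem_top _
    obtain ⟨m, hm, hme⟩ := this
    have h1 : π (m⁻¹ * gB ^ 2) = 1 := by
      rw [map_mul, map_inv, hme]; exact inv_mul_cancel _
    rcases (card_data ψ hd).2 _ h1 with h' | h'
    · rw [inv_mul_eq_one] at h'
      exact hb (by rw [← h', hM m hm])
    · rw [inv_mul_eq_iff_eq_mul] at h'
      have h6 : (m * d) ^ 3 = 1 := by
        rw [← h', ← pow_mul]
        exact rels_gen.r1
      have hd3 : d ^ 3 = d := by rw [pow_succ, sq, d_sq, one_mul]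
      rw [(Commute.mul_pow (d_comm m)), hd3, mul_eq_one_iff_inv_eq] at h6
      exact hdM (h6 ▸ inv_mem (pow_mem hm 3))

end

theorem cover_congr {H H' K : Type*} [Group H] [Group H'] [Group K] (e : H ≃* H')
    (h : IsNonsplitDoubleCover H K) : IsNonsplitDoubleCover H' K := by
  obtain ⟨h1, ⟨h2⟩, h3⟩ := h
  have hc : (Subgroup.center H).map e.toMonoidHom = Subgroup.center H' := by
    ext g
    rw [Subgroup.mem_map]
    constructor
    · rintro ⟨a, ha, rfl⟩
      rw [Subgroup.mem_center_iff]
      intro b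
      obtain ⟨b, rfl⟩ := e.surjective b
      show e b * e a = e a * e b
      rw [← map_mul, ← map_mul, Subgroup.mem_center_iff.mp ha b]
    · intro hg
      refine ⟨e.symm g, ?_, e.apply_symm_apply g⟩
      rw [Subgroup.mem_center_iff]
      intro b
      apply e.injective
      rw [map_mul, map_mul, e.apply_symm_apply, Subgroup.mem_center_iff.mp hg]
  refine ⟨?_, ⟨(QuotientGroup.congr _ _ e hc).symm.trans h2⟩, fun L hL => ?_⟩
  · rw [← hc, Nat.card_congr (Subgroup.equivMapOfInjective _ _ e.injective).toEquiv.symm, h1]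
  · refine h3 (L.comap e.toMonoidHom) ?_
    rw [Subgroup.isComplement'_comm]
    rw [Subgroup.isComplement'_comm] at hL
    haveI : Finite (Subgroup.center H) := Nat.finite_of_card_ne_zero (by rw [h1]; norm_num)
    refine Subgroup.isComplement'_of_disjoint_and_mul_eq_univ ?_ ?_
    · rw [Subgroup.disjoint_def]
      intro a ha hb
      have := Subgroup.disjoint_def.mp hL.disjoint (show e a ∈ L from ha)
        (hc ▸ Subgroup.mem_map_of_mem e.toMonoidHom hb)
      exact e.injective (this.trans (map_one e).symm)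
    · rw [Set.eq_univ_iff_forall]
      intro a
      obtain ⟨⟨l, z⟩, hlz⟩ := hL.2 (e a)
      obtain ⟨z', hz', hze⟩ := Subgroup.mem_map.mp (hc.symm ▸ z.2 : (z : H') ∈ (Subgroup.center H).map e.toMonoidHom)
      refine ⟨a * z'⁻¹, ?_, z', hz', inv_mul_cancel_right a z'⟩
      show e (a * z'⁻¹) ∈ L
      rw [map_mul, map_inv, show e a = l * z from hlz.symm, show (e z' : H') = z from hze,
        mul_inv_cancel_right]
      exact l.2

/-- The result. -/
theorem exists_cover {N : Type*} [Group N] {x y z : N} (h : Rels x y z)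
    (hgen : Subgroup.closure ({x, y, z} : Set N) = ⊤) {R : Type*} [Monoid R] (f : N →* R)
    (hx : f (x ^ 2) ≠ 1) (hy : f (y ^ 2) ≠ 1) :
    ∃ K : Subgroup N, K.Normal ∧ K.index = 2 ∧ IsNonsplitDoubleCover K Spor.HS := by
  let im : Gen3 → N := fun g => match g with | .a => x | .b => y | .c => z
  have hr : ∀ r ∈ ({r | r ∈ rels3} : Set (FreeGroup Gen3)), FreeGroup.lift im r = 1 := by
    show ∀ r ∈ rels3, FreeGroup.lift im r = 1
    simp only [rels3, List.forall_mem_cons, map_mul, map_pow, map_inv, FreeGroup.lift_apply_of, im,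
      List.not_mem_nil, false_implies, implies_true, and_true]
    exact ⟨h.r1, h.r2, h.r3, h.r4, h.r5, h.r6, h.r7, h.r8, h.r9, h.r10⟩
  let φ : P3 →* N := PresentedGroup.toGroup hr
  have hA : φ gA = x := PresentedGroup.toGroup.of hr
  have hB : φ gB = y := PresentedGroup.toGroup.of hr
  have hC : φ gC = z := PresentedGroup.toGroup.of hr
  have hd : (f.comp φ) d ≠ 1 := by rw [MonoidHom.comp_apply, d, map_pow, hA]; exact hx
  have hb : (f.comp φ) (gB ^ 2) ≠ 1 := by rw [MonoidHom.comp_apply, map_pow, hB]; exact hy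
  have hsurj : Function.Surjective φ := by
    rw [← MonoidHom.range_eq_top, eq_top_iff, ← hgen, Subgroup.closure_le]
    rintro g (rfl | rfl | rfl)
    exacts [⟨gA, hA⟩, ⟨gB, hB⟩, ⟨gC, hC⟩]
  have hinj : Function.Injective φ := by
    rw [← MonoidHom.ker_eq_bot_iff]
    exact eq_bot_of_normal (f.comp φ) hd hb inferInstance fun g hg => by
      rw [MonoidHom.comp_apply, MonoidHom.mem_ker.mp hg, map_one]
  refine ⟨sub.map φ, (normal_sub (f.comp φ) hd).map φ hsurj, ?_,
    cover_congr (Subgroup.equivMapOfInjective sub φ hinj) (cover (f.comp φ) hd)⟩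
  rw [← index_sub (f.comp φ) hd]
  exact Subgroup.index_map_of_bijective ⟨hinj, hsurj⟩ sub

end Cfsg.Agent.HNTwoHSGroup66
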