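import Cfsg.Agent.Lib.HNTwoHSRels66

/-!
The group of the first two generators modulo the central involution: word equalities and order bound
from a pair of coset enumeration certificates.
-/

set_option autoImplicit false

namespace Cfsg.Agent.HNTwoHSQ66

open Cfsg.Agent.CosetCertCore Cfsg.Agent.CosetCertTable Cfsg.Agent.CosetCertFlip66
  Cfsg.Agent.HNTwoHSRels66

/-- The base relator words. -/
def baseWords : List (List Nat) :=
  [[0, 0], [2, 2, 2, 2, 2, 2],
    [2, 0, 2, 0, 2, 0, 2, 0, 2, 0, 2, 0, 2, 0, 2, 0],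
    [3, 0, 2, 0, 3, 0, 2, 0, 3, 0, 2, 0],
    [2, 2, 2, 0, 2, 2, 0, 2, 2, 2, 0, 2, 2, 0, 2, 2, 2, 0, 2, 2, 0],
    [2, 2, 2, 0, 2, 0, 2, 2, 2, 0, 2, 0, 2, 2, 2, 0, 2, 0, 2, 2, 2, 0, 2, 0]]

/-- The relators of the small group. -/
def smallWords : List (List Nat) :=
  [[1], [2, 2, 2, 2, 2, 2], [2, 2, 0, 2, 2, 0, 2, 2, 0], [2, 0, 2, 0, 2, 0, 2, 0]]

theorem comm_alt {Q : Type*} [Group Q] {X Y : Q} (hx : X⁻¹ = X) :
    (X⁻¹ * Y⁻¹ * X * Y) ^ 3 = 1 ↔ (X * Y * X * Y⁻¹) ^ 3 = 1 := by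
  have e : X * Y * X * Y⁻¹ = Y * (X⁻¹ * Y⁻¹ * X * Y)⁻¹ * Y⁻¹ := by
    rw [mul_inv_rev, mul_inv_rev, mul_inv_rev, inv_inv, inv_inv, hx]; group
  rw [e, conj_pow, conj_eq_one_iff, inv_pow, inv_eq_one]

theorem base_one {Q : Type*} [Group Q] {X Y : Q} (h : QRels X Y) :
    ∀ w ∈ baseWords, vr (gv X 1 Y) w = 1 := by
  have hx : X⁻¹ = X := inv_eq_of_mul_eq_one_right (by rw [← sq, h.r0])
  intro w hw
  simp only [baseWords, List.mem_cons, List.not_mem_nil, or_false] at hw
  rcases hw with rfl | rfl | rfl | rfl | rfl | rfl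
  · simpa [vr, gv, pow_succ, mul_assoc] using h.r0
  · simpa [vr, gv, pow_succ, mul_assoc] using h.r1
  · simpa [vr, gv, pow_succ, mul_assoc, hx] using h.r5
  · simpa [vr, gv, pow_succ, mul_assoc, hx] using (comm_alt hx).mp h.r3
  · simpa [vr, gv, pow_succ, mul_assoc, hx] using h.r4
  · simpa [vr, gv, pow_succ, mul_assoc, hx] using h.r6

theorem rels_of_base {Q : Type*} [Group Q] {X Y : Q}
    (h : ∀ w ∈ baseWords, vr (gv X 1 Y) w = 1) : QRels X Y := by
  have h0 := h [0, 0] (by simp [baseWords])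
  have hx : X⁻¹ = X := inv_eq_of_mul_eq_one_right (by simpa [vr, gv] using h0)
  constructor
  · simpa [vr, gv, pow_succ, mul_assoc] using h0
  · simpa [vr, gv, pow_succ, mul_assoc] using h [2, 2, 2, 2, 2, 2] (by simp [baseWords])
  · refine (comm_alt hx).mpr ?_
    simpa [vr, gv, pow_succ, mul_assoc, hx] using
      h [3, 0, 2, 0, 3, 0, 2, 0, 3, 0, 2, 0] (by simp [baseWords])
  · simpa [vr, gv, pow_succ, mul_assoc, hx] using
      h [2, 2, 2, 0, 2, 2, 0, 2, 2, 2, 0, 2, 2, 0, 2, 2, 2, 0, 2, 2, 0] (by simp [baseWords])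
  · simpa [vr, gv, pow_succ, mul_assoc, hx] using
      h [2, 0, 2, 0, 2, 0, 2, 0, 2, 0, 2, 0, 2, 0, 2, 0] (by simp [baseWords])
  · simpa [vr, gv, pow_succ, mul_assoc, hx] using
      h [2, 2, 2, 0, 2, 0, 2, 2, 2, 0, 2, 0, 2, 2, 2, 0, 2, 0, 2, 2, 2, 0, 2, 0] (by simp [baseWords])

theorem tail_eq {Q : Type*} [Group Q] (a b : Q) (n : ℕ) (h : (a * b) ^ (n + 1) = 1) :
    b * (a * b) ^ n * a = 1 := by
  rw [pow_succ] at h
  rw [show b * (a * b) ^ n * a = b * ((a * b) ^ n * (a * b)) * b⁻¹ by group, h, mul_one,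
    mul_inv_cancel]

theorem small_one {Q : Type*} [Group Q] {X Y : Q} (h : QRels X Y) :
    ∀ w ∈ smallWords, vr (gv (X * Y ^ 3 * X) 1 Y) w = 1 := by
  have hx : X⁻¹ = X := inv_eq_of_mul_eq_one_right (by rw [← sq, h.r0])
  intro w hw
  simp only [smallWords, List.mem_cons, List.not_mem_nil, or_false] at hw
  rcases hw with rfl | rfl | rfl | rfl
  · simp [vr, gv]
  · simpa [vr, gv, pow_succ, mul_assoc] using h.r1
  · show _ = (1 : Q)
    have h4 : (X * Y ^ 2 * (X * Y ^ 3)) ^ (2 + 1) = 1 := by simpa [hx, mul_assoc] using h.r4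
    rw [← tail_eq (X * Y ^ 2) (X * Y ^ 3) 2 h4]
    simp [vr, gv, pow_succ, mul_assoc]
  · show _ = (1 : Q)
    have h6 : (X * Y * (X * Y ^ 3)) ^ (3 + 1) = 1 := by simpa [mul_assoc] using h.r6
    rw [← tail_eq (X * Y) (X * Y ^ 3) 3 h6]
    simp [vr, gv, pow_succ, mul_assoc]

/-- Letters of the small group as words. -/
def subst : Nat → List Nat
  | 0 => [0, 2, 2, 2, 0]
  | 2 => [2]
  | 3 => [3]
  | _ => []

theorem vr_subst {Q : Type*} [Group Q] (X Y : Q) (w : List Nat) :
    vr (gv X 1 Y) (w.flatMap subst) = vr (gv (X * Y ^ 3 * X) 1 Y) w := by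
  induction w with
  | nil => rfl
  | cons a w ih =>
    rw [List.flatMap_cons, vr_append, ih, vr_cons]
    congr 1
    match a with
    | 0 => simp [subst, vr, gv, pow_succ, mul_assoc]
    | 1 => simp [subst, vr, gv]
    | 2 => simp [subst, vr, gv]
    | 3 => simp [subst, vr, gv]
    | n + 4 => simp [subst, vr, gv]

/-- Check of a point of the big table: letters invert, the second letter fixes, relators fix. -/
noncomputable def permOk (D : Table) (i : Nat) : Bool :=
  Nat.blt (D.img 0 i) D.N && Nat.beq (D.img 0 (D.img 0 i)) i && Nat.beq (D.img 1 i) i &&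
    Nat.blt (D.img 2 i) D.N && Nat.beq (D.img 3 (D.img 2 i)) i &&
    Nat.blt (D.img 3 i) D.N && Nat.beq (D.img 2 (D.img 3 i)) i && relsOk baseWords D i

/-- The data. -/
structure QData where
  cQ : Cert
  mQ : Nat
  tQ : Table
  cH : Cert
  mH : Nat
  tH : Table
  closedQ : Closed cQ mQ tQ
  closedH : Closed cH mH tH
  nQ : tQ.NG = 4
  nH : tH.NG = 4
  relsQ : ∀ {Q : Type} [Group Q] {X Y : Q}, QRels X Y → ∀ w ∈ cQ.rels, vr (gv X 1 Y) w = 1
  sgensQ : cQ.sgens = [[2], [0, 2, 2, 2, 0]]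
  relsH : cH.rels = smallWords
  sgensH : cH.sgens = []
  tree : List (List Nat)
  tree_zero : tree.getD 0 [] = []
  tree_ok : ∀ i < tH.N,
    (tree.getD i []).all (fun x => Nat.blt x 4) = true ∧ tH.run (tree.getD i []) 0 = i
  perm_ok : ∀ i < tQ.N, permOk tQ i = true

namespace QData

variable (d : QData)

theorem perm_data {i : Nat} (hi : i < d.tQ.N) :
    d.tQ.img 0 i < d.tQ.N ∧ d.tQ.img 0 (d.tQ.img 0 i) = i ∧ d.tQ.img 1 i = i ∧
      d.tQ.img 2 i < d.tQ.N ∧ d.tQ.img 3 (d.tQ.img 2 i) = i ∧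
      d.tQ.img 3 i < d.tQ.N ∧ d.tQ.img 2 (d.tQ.img 3 i) = i ∧
      ∀ w ∈ baseWords, d.tQ.run w i = i := by
  have h := d.perm_ok i hi
  simp only [permOk, Bool.and_eq_true, Nat.blt_eq, Nat.beq_eq, relsOk_iff] at h
  obtain ⟨⟨⟨⟨⟨⟨⟨a, b⟩, c⟩, e⟩, f⟩, g⟩, k⟩, l⟩ := h
  exact ⟨a, b, c, e, f, g, k, l⟩

/-- The first permutation. -/
noncomputable def px : Equiv.Perm (Fin d.tQ.N) where
  toFun i := ⟨d.tQ.img 0 i, (d.perm_data i.2).1⟩
  invFun i := ⟨d.tQ.img 0 i, (d.perm_data i.2).1⟩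
  left_inv i := Fin.ext (d.perm_data i.2).2.1
  right_inv i := Fin.ext (d.perm_data i.2).2.1

/-- The second permutation. -/
noncomputable def py : Equiv.Perm (Fin d.tQ.N) where
  toFun i := ⟨d.tQ.img 2 i, (d.perm_data i.2).2.2.2.1⟩
  invFun i := ⟨d.tQ.img 3 i, (d.perm_data i.2).2.2.2.2.2.1⟩
  left_inv i := Fin.ext (d.perm_data i.2).2.2.2.2.1
  right_inv i := Fin.ext (d.perm_data i.2).2.2.2.2.2.2.1

theorem perm_run (w : List Nat) (hw : ∀ x ∈ w, x < 4) (i : Fin d.tQ.N) :
    ((vr (gv d.px 1 d.py) w i : Fin d.tQ.N) : Nat) = d.tQ.run w i := by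
  induction w generalizing i with
  | nil => rfl
  | cons a w ih =>
    rw [vr_cons, Equiv.Perm.mul_apply, Table.run_cons,
      ih (fun x hx => hw x (List.mem_cons_of_mem _ hx))]
    congr 1
    have ha := hw a (List.mem_cons_self ..)
    match a, ha with
    | 0, _ => rfl
    | 1, _ => exact ((d.perm_data i.2).2.2.1).symm
    | 2, _ => rfl
    | 3, _ => rfl

theorem perm_rels : QRels d.px d.py := by
  refine rels_of_base fun w hw => Equiv.ext fun i => Fin.ext ?_
  have hlt : ∀ w ∈ baseWords, ∀ x ∈ w, x < 4 := by decide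
  rw [d.perm_run w (hlt w hw)]
  exact (d.perm_data i.2).2.2.2.2.2.2.2 w hw

variable {Q : Type} [Group Q] {X Y : Q} (h : QRels X Y)

/-- The subgroup of the small group. -/
def small (X Y : Q) : Subgroup Q := Subgroup.closure {Y, X * Y ^ 3 * X}

include h in
theorem small_word (k : Q) (hk : k ∈ small X Y) :
    ∃ i < d.tH.N, k = vr (gv X 1 Y) ((d.tree.getD i []).flatMap subst) := by
  let s : small X Y := ⟨X * Y ^ 3 * X, Subgroup.subset_closure (by simp)⟩
  let y : small X Y := ⟨Y, Subgroup.subset_closure (by simp)⟩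
  have hs : (s : Q) * s = 1 := by
    have hx : X * X = 1 := by rw [← sq, h.r0]
    show X * Y ^ 3 * X * (X * Y ^ 3 * X) = 1
    rw [show X * Y ^ 3 * X * (X * Y ^ 3 * X) = X * (Y ^ 3 * (X * X) * Y ^ 3) * X by group, hx,
      mul_one, ← pow_add, h.r1, mul_one, hx]
  have hinv : Inv (gv s 1 y) := gv_inv (Subtype.ext hs) (by simp)
  have hrels : ∀ w ∈ d.cH.rels, vr (gv s 1 y) w = 1 := by
    intro w hw
    apply Subtype.ext
    change (small X Y).subtype (vr (gv s 1 y) w) = 1
    rw [vr_map]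
    have e : (fun n => (small X Y).subtype (gv s 1 y n)) = gv (X * Y ^ 3 * X) 1 Y := funext fun n => by
      rw [gv_map]; rfl
    rw [e]
    exact small_one h w (d.relsH ▸ hw)
  have hgen : Subgroup.closure {g | ∃ x, x < d.tH.NG ∧ g = gv s 1 y x} = ⊤ := by
    refine eq_top_iff.mpr ((Subgroup.closure_closure_coe_preimage
      (k := ({Y, X * Y ^ 3 * X} : Set Q))).symm.le.trans (Subgroup.closure_mono ?_))
    intro g hg
    rcases hg with hg | hg
    · exact ⟨2, by rw [d.nH]; norm_num, Subtype.ext hg⟩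
    · exact ⟨0, by rw [d.nH]; norm_num, Subtype.ext hg⟩
  have hs' : ∀ w ∈ d.cH.sgens, vr (gv s 1 y) w ∈ (⊥ : Subgroup (small X Y)) := by
    rw [d.sgensH]; simp
  obtain ⟨i, hi, hp⟩ := pt_surjective d.closedH (gv s 1 y) ⊥ hinv hrels hs' hgen
    ((⟨k, hk⟩ : small X Y) : small X Y ⧸ (⊥ : Subgroup (small X Y)))
  refine ⟨i, hi, ?_⟩
  obtain ⟨hl, hrun⟩ := d.tree_ok i hi
  have hlt : ∀ x ∈ d.tree.getD i [], x < d.tH.NG := fun x hx => by
    rw [d.nH]
    simpa [Nat.blt_eq] using List.all_eq_true.mp hl x hx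
  have h2 := (pt_run d.closedH (gv s 1 y) ⊥ hinv hrels hs' _ hlt d.closedH.npos).2
  rw [hrun, pt_zero d.closedH, hp] at h2
  change ((vr (gv s 1 y) (d.tree.getD i []) * 1 : small X Y) : small X Y ⧸ (⊥ : Subgroup (small X Y))) = _ at h2
  rw [mul_one, QuotientGroup.eq, Subgroup.mem_bot, inv_mul_eq_one] at h2
  have h3 := congrArg Subtype.val h2
  rw [vr_subst]
  refine h3.symm.trans ?_
  change (small X Y).subtype _ = _
  rw [vr_map]
  congr 1
  funext n
  rw [gv_map]; rfl

include h in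
theorem finite_small : Finite (small X Y) ∧ Nat.card (small X Y) ≤ d.tH.N := by
  have hsurj : Function.Surjective (fun i : Fin d.tH.N =>
      (⟨vr (gv X 1 Y) ((d.tree.getD i []).flatMap subst), by
        rw [vr_subst]
        refine Subgroup.list_prod_mem _ fun g hg => ?_
        obtain ⟨n, -, rfl⟩ := List.mem_map.mp hg
        match n with
        | 0 => exact Subgroup.subset_closure (by simp [gv])
        | 1 => exact one_mem _
        | 2 => exact Subgroup.subset_closure (by simp [gv])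
        | 3 => exact inv_mem (Subgroup.subset_closure (by simp))
        | n + 4 => exact one_mem _⟩ : small X Y)) := by
    rintro ⟨k, hk⟩
    obtain ⟨i, hi, hk'⟩ := d.small_word h k hk
    exact ⟨⟨i, hi⟩, Subtype.ext hk'.symm⟩
  exact ⟨Finite.of_surjective _ hsurj,
    (Nat.card_le_card_of_surjective _ hsurj).trans_eq (Nat.card_fin _)⟩

include h in
theorem ctx_big : Inv (gv X 1 Y) ∧ (∀ w ∈ d.cQ.rels, vr (gv X 1 Y) w = 1) ∧
    ∀ w ∈ d.cQ.sgens, vr (gv X 1 Y) w ∈ small X Y := by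
  refine ⟨gv_inv (by rw [← sq, h.r0]) (one_mul 1), d.relsQ h, fun w hw => ?_⟩
  rw [d.sgensQ] at hw
  simp only [List.mem_cons, List.not_mem_nil, or_false] at hw
  rcases hw with rfl | rfl
  · exact Subgroup.subset_closure (by simp [vr, gv])
  · exact Subgroup.subset_closure (by simp [vr, gv, pow_succ, mul_assoc])

/-- A word which is trivial by the table is trivial. -/
noncomputable def trivOk (wit : List Nat) (W : List Nat) : Bool :=
  W.all (fun x => Nat.blt x 4) && Nat.beq (d.tQ.run W 0) 0 &&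
    allFrom (fun j => force (wit.getD j 0) fun i =>
      Nat.beq j 0 || (Nat.blt i d.tQ.N && Nat.beq (d.tQ.run W i) i &&
        !(Nat.beq (d.tQ.run ((d.tree.getD j []).flatMap subst) i) i))) d.tH.N 0

include h in
theorem eq_one_of_trivOk {wit W : List Nat} (hW : d.trivOk wit W = true) :
    vr (gv X 1 Y) W = 1 := by
  simp only [trivOk, Bool.and_eq_true, List.all_eq_true, Nat.blt_eq, Nat.beq_eq] at hW
  obtain ⟨⟨hlt, h0⟩, hall⟩ := hW
  -- work in a product with the permutation group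
  let X' : Q × Equiv.Perm (Fin d.tQ.N) := (X, d.px)
  let Y' : Q × Equiv.Perm (Fin d.tQ.N) := (Y, d.py)
  have hp := d.perm_rels
  have h' : QRels X' Y' :=
    ⟨Prod.ext h.r0 hp.r0, Prod.ext h.r1 hp.r1, Prod.ext h.r3 hp.r3, Prod.ext h.r4 hp.r4,
      Prod.ext h.r5 hp.r5, Prod.ext h.r6 hp.r6⟩
  obtain ⟨hi, hr, hs⟩ := d.ctx_big h'
  have hlt' : ∀ x ∈ W, x < d.tQ.NG := fun x hx => by rw [d.nQ]; exact hlt x hx
  have hmem := mem_of_run d.closedQ _ (small X' Y') hi hr hs hlt' h0
  obtain ⟨j, hj, hjW⟩ := d.small_word h' _ hmem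
  have hfst : ∀ u, (vr (gv X' 1 Y') u).1 = vr (gv X 1 Y) u := fun u => by
    rw [← MonoidHom.coe_fst, vr_map]
    congr 1
    funext n
    rw [gv_map]; rfl
  have hsnd : ∀ u, (vr (gv X' 1 Y') u).2 = vr (gv d.px 1 d.py) u := fun u => by
    rw [← MonoidHom.coe_snd, vr_map]
    congr 1
    funext n
    rw [gv_map]; rfl
  rcases Nat.eq_zero_or_pos j with rfl | hpos
  · rw [d.tree_zero] at hjW
    rw [← hfst, hjW]
    simp [vr]
  · exfalso
    have hc := (allFrom_iff _ _ _).mp hall j (Nat.zero_le j) (by omega)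
    simp only [force_eq, Bool.or_eq_true, Nat.beq_eq, Bool.and_eq_true, Nat.blt_eq,
      Bool.not_eq_true', ← Bool.not_eq_true] at hc
    rcases hc with hc | ⟨⟨hiN, hfix⟩, hmove⟩
    · omega
    · apply hmove
      have e := congrArg (fun g => ((g.2 : Equiv.Perm (Fin d.tQ.N)) ⟨_, hiN⟩ : Nat)) hjW
      simp only [hsnd] at e
      have hl2 : ∀ x ∈ (d.tree.getD j []).flatMap subst, x < 4 := by
        intro x hx
        obtain ⟨a, -, hx⟩ := List.mem_flatMap.mp hx
        match a, hx with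
        | 0, hx => simp [subst] at hx; omega
        | 1, hx => simp [subst] at hx
        | 2, hx => simp [subst] at hx; omega
        | 3, hx => simp [subst] at hx; omega
        | n + 4, hx => simp [subst] at hx
      rw [d.perm_run _ hlt, d.perm_run _ hl2, hfix] at e
      exact e.symm

include h in
theorem eq_of_trivOk {wit v w : List Nat} (hW : d.trivOk wit (v ++ winv w) = true) :
    vr (gv X 1 Y) v = vr (gv X 1 Y) w := by
  have h1 := d.eq_one_of_trivOk h hW
  rw [vr_append, vr_winv (gv_inv (by rw [← sq, h.r0]) (one_mul 1)), inv_mul_eq_one] at h1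
  exact h1.symm

/-- Points which are least in their orbit under a word. -/
noncomputable def least (cw : List Nat) (i : Nat) : Bool :=
  force (d.tQ.run cw i) fun a => Nat.ble i a && Nat.ble i (d.tQ.run cw a)

/-- The number of least points. -/
noncomputable def countLeast (cw : List Nat) : Nat :=
  Nat.rec 0 (fun i ih => force ih fun k => cond (d.least cw i) (k + 1) k) d.tQ.N

theorem card_least (cw : List Nat) :
    Nat.card {i : Fin d.tQ.N // d.least cw i = true} = d.countLeast cw := by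
  rw [Nat.card_eq_fintype_card, Fintype.card_subtype]
  unfold countLeast
  generalize d.tQ.N = n
  have e : (Finset.univ.filter fun x : Fin n => d.least cw x = true).card =
      ((Finset.range n).filter fun x => d.least cw x = true).card := by
    refine Finset.card_bij (fun x _ => (x : ℕ)) ?_ (fun a _ b _ hab => Fin.ext hab) ?_
    · intro x hx
      simp_all [x.2]
    · intro x hx
      simp only [Finset.mem_filter, Finset.mem_range] at hx
      exact ⟨⟨x, hx.1⟩, by simp [hx.2], rfl⟩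
  rw [e]
  clear e
  induction n with
  | zero => rfl
  | succ n ih =>
    rw [Finset.range_add_one, Finset.filter_insert]
    simp only [force_eq] at ih ⊢
    cases hl : d.least cw n <;> simp [← ih]

include h in
/-- Order bound when a word of the table is trivial. -/
theorem card_le (cw : List Nat) (hlt : cw.all (fun x => Nat.blt x 4) = true)
    (hc : vr (gv X 1 Y) cw = 1) (hgen : Subgroup.closure ({X, Y} : Set Q) = ⊤) :
    Finite Q ∧ Nat.card Q ≤ d.countLeast cw * d.tH.N := by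
  obtain ⟨hi, hr, hs⟩ := d.ctx_big h
  have hlt' : ∀ x ∈ cw, x < d.tQ.NG := fun x hx => by
    rw [d.nQ]; simpa [Nat.blt_eq] using List.all_eq_true.mp hlt x hx
  have hgen' : Subgroup.closure {g | ∃ x, x < d.tQ.NG ∧ g = gv X 1 Y x} = ⊤ := by
    rw [eq_top_iff, ← hgen]
    apply Subgroup.closure_mono
    rintro g (rfl | rfl)
    · exact ⟨0, by rw [d.nQ]; norm_num, rfl⟩
    · exact ⟨2, by rw [d.nQ]; norm_num, rfl⟩
  have hstep : ∀ i < d.tQ.N, d.tQ.run cw i < d.tQ.N ∧
      pt (gv X 1 Y) (small X Y) d.cQ d.tQ i = pt (gv X 1 Y) (small X Y) d.cQ d.tQ (d.tQ.run cw i) := by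
    intro i hin
    obtain ⟨a, b⟩ := pt_run d.closedQ _ (small X Y) hi hr hs cw hlt' hin
    rw [hc, one_smul] at b
    exact ⟨a, b⟩
  have hall : ∀ i < d.tQ.N, ∃ j : {j : Fin d.tQ.N // d.least cw j = true},
      pt (gv X 1 Y) (small X Y) d.cQ d.tQ i = pt (gv X 1 Y) (small X Y) d.cQ d.tQ j.1 := by
    intro i
    induction i using Nat.strong_induction_on with
    | _ i ih =>
      intro hin
      cases hl : d.least cw i with
      | true => exact ⟨⟨⟨i, hin⟩, hl⟩, rfl⟩
      | false =>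
        obtain ⟨ha, hb⟩ := hstep i hin
        obtain ⟨ha2, hb2⟩ := hstep _ ha
        simp only [least, force_eq, Bool.and_eq_false_iff] at hl
        simp only [← Bool.not_eq_true, Nat.ble_eq, Nat.not_le] at hl
        rcases hl with hl | hl
        · obtain ⟨j, hj⟩ := ih _ hl ha
          exact ⟨j, hb.trans hj⟩
        · obtain ⟨j, hj⟩ := ih _ hl ha2
          exact ⟨j, hb.trans (hb2.trans hj)⟩
  have hsurj : Function.Surjective (fun j : {j : Fin d.tQ.N // d.least cw j = true} =>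
      pt (gv X 1 Y) (small X Y) d.cQ d.tQ j.1) := fun q => by
    obtain ⟨i, hin, hq⟩ := pt_surjective d.closedQ _ (small X Y) hi hr hs hgen' q
    obtain ⟨j, hj⟩ := hall i hin
    exact ⟨j, hj.symm.trans hq⟩
  haveI : Finite (Q ⧸ small X Y) := Finite.of_surjective _ hsurj
  haveI := (d.finite_small h).1
  haveI : Finite Q := Finite.of_equiv _ (Subgroup.groupEquivQuotientProdSubgroup (s := small X Y)).symm
  refine ⟨inferInstance, ?_⟩
  rw [Subgroup.card_eq_card_quotient_mul_card_subgroup (small X Y)]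
  exact Nat.mul_le_mul ((Nat.card_le_card_of_surjective _ hsurj).trans_eq (d.card_least cw))
    (d.finite_small h).2

end QData

end Cfsg.Agent.HNTwoHSQ66
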