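import Cfsg.Agent.Lib.CosetCertFlip66

/-!
The relations among the first three generators of the Harada-Norton presentation.
-/

set_option autoImplicit false

namespace Cfsg.Agent.HNTwoHSRels66

open Cfsg.Agent.CosetCertFlip66

/-- The ten relations of the three generators. -/
structure Rels {K : Type*} [Group K] (x y z : K) : Prop where
  r1 : y ^ 6 = 1
  r2 : x ^ 2 * y * x ^ 2 * y⁻¹ = 1
  r3 : (x⁻¹ * y⁻¹ * x * y) ^ 3 = 1
  r4 : (x⁻¹ * y ^ 2 * x * y ^ 3) ^ 3 = 1
  r5 : (x * y) ^ 8 = 1
  r6 : (x * y * x * y ^ 3) ^ 4 = 1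
  r7 : z ^ 2 = 1
  r8 : (z * x) ^ 2 = 1
  r9 : (z⁻¹ * (y * x * y * x * y ^ 2 * x * y⁻¹)⁻¹ * z * (y * x * y * x * y ^ 2 * x * y⁻¹)) * (x ^ 2)⁻¹ = 1
  r10 : z * (((y ^ 3 * x * y * x * y)⁻¹ * z * (y ^ 3 * x * y * x * y)) * x) ^ 3 = 1

theorem Rels.map {K L : Type*} [Group K] [Group L] {x y z : K} (h : Rels x y z) (f : K →* L) :
    Rels (f x) (f y) (f z) where
  r1 := by simpa using congrArg f h.r1
  r2 := by simpa using congrArg f h.r2
  r3 := by simpa using congrArg f h.r3
  r4 := by simpa using congrArg f h.r4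
  r5 := by simpa using congrArg f h.r5
  r6 := by simpa using congrArg f h.r6
  r7 := by simpa using congrArg f h.r7
  r8 := by simpa using congrArg f h.r8
  r9 := by simpa using congrArg f h.r9
  r10 := by simpa using congrArg f h.r10

section

variable {K : Type*} [Group K] {x y z : K} (h : Rels x y z)
include h

theorem conj_y_sq : MulAut.conj y (x ^ 2) = (x ^ 2)⁻¹ := by
  rw [MulAut.conj_apply, eq_inv_iff_mul_eq_one]
  have h2 := h.r2
  rw [show y * x ^ 2 * y⁻¹ * x ^ 2 = (x ^ 2)⁻¹ * (x ^ 2 * y * x ^ 2 * y⁻¹) * x ^ 2 by group, h2]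
  group

theorem z_inv : z⁻¹ = z := inv_eq_of_mul_eq_one_right (by rw [← sq, h.r7])

theorem conj_z_x : MulAut.conj z x = x⁻¹ := by
  rw [MulAut.conj_apply, z_inv h]
  refine eq_inv_of_mul_eq_one_left ?_
  simpa [sq, mul_assoc] using h.r8

/-- The square of the first generator has order at most two. -/
theorem sq_sq : x ^ 2 * x ^ 2 = 1 := by
  have hy := conj_y_sq h
  have hx : MulAut.conj x (x ^ 2) = x ^ 2 := by
    rw [MulAut.conj_apply]; group
  have hxi : MulAut.conj x⁻¹ (x ^ 2) = x ^ 2 := by
    rw [MulAut.conj_apply]; group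
  have h4 := h.r4
  generalize x ^ 2 = a at hx hxi hy ⊢
  have h5 := congrArg (fun g => MulAut.conj g a) h4
  simp only [pow_succ, pow_zero, one_mul, map_mul, MulAut.mul_apply, map_one, MulAut.one_apply,
    hx, hxi, hy, map_inv (MulAut.conj x), map_inv (MulAut.conj y), inv_inv] at h5
  have h6 : a⁻¹ = a := by
    rw [map_inv] at hxi
    simpa only [map_inv, hx, hxi, hy, inv_inv] using h5
  rw [← mul_inv_cancel a, h6]

theorem inv_sq : (x ^ 2)⁻¹ = x ^ 2 := inv_eq_of_mul_eq_one_right (sq_sq h)

theorem sq_central (hgen : Subgroup.closure ({x, y, z} : Set K) = ⊤) :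
    x ^ 2 ∈ Subgroup.center K := by
  rw [Subgroup.mem_center_iff]
  intro g
  have hy : MulAut.conj y (x ^ 2) = x ^ 2 := (conj_y_sq h).trans (inv_sq h)
  have hz : MulAut.conj z (x ^ 2) = x ^ 2 := by
    rw [map_pow, conj_z_x h, inv_pow, inv_sq h]
  have hle : Subgroup.closure ({x, y, z} : Set K) ≤ Subgroup.centralizer {x ^ 2} := by
    rw [Subgroup.closure_le]
    intro a ha
    rw [SetLike.mem_coe, Subgroup.mem_centralizer_singleton_iff]
    rcases ha with rfl | rfl | rfl
    · group
    · rw [MulAut.conj_apply, mul_inv_eq_iff_eq_mul] at hy; exact hy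
    · rw [MulAut.conj_apply, mul_inv_eq_iff_eq_mul] at hz; exact hz
  exact Subgroup.mem_centralizer_singleton_iff.mp (hle (hgen ▸ Subgroup.mem_top g))

end

/-- The relations of the first two generators modulo the central involution. -/
structure QRels {Q : Type*} [Group Q] (x y : Q) : Prop where
  r0 : x ^ 2 = 1
  r1 : y ^ 6 = 1
  r3 : (x⁻¹ * y⁻¹ * x * y) ^ 3 = 1
  r4 : (x⁻¹ * y ^ 2 * x * y ^ 3) ^ 3 = 1
  r5 : (x * y) ^ 8 = 1
  r6 : (x * y * x * y ^ 3) ^ 4 = 1

theorem QRels.map {K L : Type*} [Group K] [Group L] {x y : K} (h : QRels x y) (f : K →* L) :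
    QRels (f x) (f y) where
  r0 := by simpa using congrArg f h.r0
  r1 := by simpa using congrArg f h.r1
  r3 := by simpa using congrArg f h.r3
  r4 := by simpa using congrArg f h.r4
  r5 := by simpa using congrArg f h.r5
  r6 := by simpa using congrArg f h.r6

/-- The letters: `x`, `z`, `y`, and the inverse of `y`. -/
def gv {K : Type*} [Group K] (x z y : K) : Nat → K
  | 0 => x
  | 1 => z
  | 2 => y
  | 3 => y⁻¹
  | _ => 1

theorem gv_inv {K : Type*} [Group K] {x z y : K} (hx : x * x = 1) (hz : z * z = 1) :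
    Inv (gv x z y) := by
  intro n
  match n with
  | 0 => exact (inv_eq_of_mul_eq_one_right hx).symm
  | 1 => exact (inv_eq_of_mul_eq_one_right hz).symm
  | 2 => rfl
  | 3 => exact (inv_inv y).symm
  | n + 4 =>
    have a : Nat.beq (n + 4) 2 = false := by rw [← Bool.not_eq_true, Nat.beq_eq]; omega
    have b : Nat.beq (n + 4) 3 = false := by rw [← Bool.not_eq_true, Nat.beq_eq]; omega
    simp [flp, a, b, gv]

theorem gv_map {K L : Type*} [Group K] [Group L] (f : K →* L) (x z y : K) (n : Nat) :
    f (gv x z y n) = gv (f x) (f z) (f y) n := by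
  match n with
  | 0 => rfl
  | 1 => rfl
  | 2 => rfl
  | 3 => exact map_inv f y
  | _ + 4 => exact map_one f

theorem vr_map {K L : Type*} [Group K] [Group L] (f : K →* L) (g : Nat → K) (w : List Nat) :
    f (vr g w) = vr (fun n => f (g n)) w := by
  simp [vr, map_list_prod, List.map_map, Function.comp_def]

/-- The inverse word. -/
noncomputable def winv (w : List Nat) : List Nat := w.reverse.map flp

theorem vr_winv {K : Type*} [Group K] {g : Nat → K} (hg : Inv g) (w : List Nat) :
    vr g (winv w) = (vr g w)⁻¹ := by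
  induction w with
  | nil => simp [winv, vr]
  | cons a w ih =>
    have e : winv (a :: w) = winv w ++ [flp a] := by simp [winv]
    rw [e, vr_append, ih, vr_cons g a w, mul_inv_rev]
    simp [vr, hg a]

theorem rot {K : Type*} [Group K] {g : Nat → K} {v w : List Nat} (h : vr g (v ++ w) = 1) :
    vr g (w ++ v) = 1 := by
  rw [vr_append] at h ⊢
  exact mul_eq_one_comm.mp h

theorem inv_one' {K : Type*} [Group K] {g : Nat → K} (hg : Inv g) {w : List Nat} (h : vr g w = 1) :
    vr g (winv w) = 1 := by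
  rw [vr_winv hg, h, inv_one]

/-- All rotations of the words and of their inverses. -/
noncomputable def variants (ws : List (List Nat)) : List (List Nat) :=
  ws.flatMap fun b => (List.range (b.length + 1)).flatMap fun k =>
    [b.drop k ++ b.take k, (winv b).drop k ++ (winv b).take k]

theorem variants_one {K : Type*} [Group K] {g : Nat → K} (hg : Inv g) {ws : List (List Nat)}
    (h : ∀ w ∈ ws, vr g w = 1) {rels : List (List Nat)}
    (hr : rels.all (fun w => decide (w ∈ variants ws)) = true) : ∀ w ∈ rels, vr g w = 1 := by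
  intro w hw
  have hm := List.all_eq_true.mp hr w hw
  rw [decide_eq_true_eq] at hm
  simp only [variants, List.mem_flatMap, List.mem_range, List.mem_cons, List.not_mem_nil, or_false] at hm
  obtain ⟨b, hb, k, -, rfl | rfl⟩ := hm
  · exact rot (by rw [List.take_append_drop]; exact h b hb)
  · exact rot (by rw [List.take_append_drop]; exact inv_one' hg (h b hb))

end Cfsg.Agent.HNTwoHSRels66
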