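import Cfsg.Agent.Lib.HNChain66

/-!
Walks in a set with an action of the double cover and a permutation of order five normalised by the
subgroup of the first two generators, along a list of checked facts.
-/

set_option autoImplicit false
set_option linter.style.haveILetI false

namespace Cfsg.Agent.HNWord66

open Cfsg.Agent.CosetCertCore Cfsg.Agent.CosetCertTable Cfsg.Agent.HNTwoHSGroup66

/-- A fact: a word moves node `i` to node `j`, or a power of the fifth order element does so up to a
word. -/
inductive Fact : Type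
  | h (i w j : Nat) : Fact
  | t (i e j l : Nat) : Fact

/-- An instruction of a walk. -/
inductive Ins : Type
  | fwd (n : Nat) : Ins
  | bwd (n : Nat) : Ins
  | mul (w : Nat) : Ins
  | tp (e l n : Nat) : Ins

/-- A token of a route. -/
inductive Tok : Type
  | w (u : List Nat) : Tok
  | t (e : Nat) : Tok

/-- The exponent by which a letter twists the element of order five. -/
noncomputable def ex1 (a : Nat) : Nat :=
  cond (Nat.beq a 0) 2 (cond (Nat.beq a 1) 3 1)

/-- The exponent by which a word twists the element of order five. -/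
noncomputable def exW (w : List Nat) : Nat :=
  List.rec (motive := fun _ => Nat) 1 (fun a _ ih => force ih fun e => ex1 a * e % 5) w

theorem exW_nil : exW [] = 1 := rfl

theorem exW_cons (a : Nat) (w : List Nat) : exW (a :: w) = ex1 a * exW w % 5 := by
  simp only [exW, force_eq]

/-- Words in the first two generators. -/
noncomputable def isL (w : List Nat) : Bool := w.all fun a => Nat.blt a 4

/-- Normal form of a route: a word and pairs of a power and a word. -/
def norm : List Tok → List Nat × List (Nat × List Nat)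
  | [] => ([], [])
  | .w u :: r => (u ++ (norm r).1, (norm r).2)
  | .t e :: r => ([], (e, (norm r).1) :: (norm r).2)

/-- The inverse route. -/
def invR : List Tok → List Tok
  | [] => []
  | .w u :: r => invR r ++ [.w (winv u)]
  | .t e :: r => invR r ++ [.t (5 - e % 5)]

variable (T : Tabs)

/-- Compare normal forms. -/
noncomputable def sameTail : List (Nat × List Nat) → List (Nat × List Nat) → Bool
  | [], [] => true
  | (a, u) :: r, (b, w) :: s => Nat.beq (a % 5) (b % 5) && Nat.beq (T.code u) (T.code w) && sameTail r s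
  | _, _ => false

/-- Compare routes. -/
noncomputable def sameRoute (r s : List Tok) : Bool :=
  Nat.beq (T.code (norm r).1) (T.code (norm s).1) && sameTail T (norm r).2 (norm s).2

/-- Follow the instructions. -/
noncomputable def walkF (F : Nat → Fact) (bound : Nat) :
    List Ins → Nat → List Nat → (Nat → List Nat → List Tok → Bool) → Bool
  | [], i, w, k => k i w []
  | .fwd n :: r, i, w, k => Nat.blt n bound &&
      match F n with
      | .h a h b => Nat.beq a i && walkF F bound r b (winv (dec h) ++ w) k
      | .t _ _ _ _ => false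
  | .bwd n :: r, i, w, k => Nat.blt n bound &&
      match F n with
      | .h a h b => Nat.beq b i && walkF F bound r a (dec h ++ w) k
      | .t _ _ _ _ => false
  | .mul u :: r, i, w, k => walkF F bound r i (w ++ dec u) fun j v p => k j v (.w (dec u) :: p)
  | .tp e l n :: r, i, w, k => Nat.blt n bound &&
      match F n with
      | .h _ _ _ => false
      | .t a f b m => Nat.beq a i && isL (dec l) && Nat.beq (T.code (dec l)) (T.code w) &&
          Nat.beq (f % 5) (e * exW (dec l) % 5) &&
          walkF F bound r b (dec m ++ dec l) fun j v p => k j v (.t e :: p)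

/-- The justification of a fact: two walks from a common start around one relation. -/
structure Just where
  start : Nat
  word : Nat
  insA : List Ins
  kind : Nat
  tok : Nat
  la : Nat
  insB : List Ins
  rule : Nat

/-- The check of one justification against the stated fact. -/
noncomputable def justFOk (rules : List (List Tok)) (F : Nat → Fact) (bound : Nat) (f : Fact) (J : Just) :
    Bool :=
  Nat.blt J.rule rules.length &&
  walkF T F bound J.insA J.start (dec J.word) fun iA wA pA =>
  walkF T F bound J.insB J.start (dec J.word) fun iB wB pB =>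
  match f, J.kind with
  | .h i w j, 0 => Nat.beq i iA && Nat.beq j iB && Nat.beq (T.code (dec w)) (T.code (wA ++ winv wB)) &&
      sameRoute T (pA ++ invR pB) (rules.getD J.rule [])
  | .h i w j, 1 => Nat.beq i iA && Nat.beq j iB &&
      Nat.beq (T.code (dec w)) (T.code (wA ++ dec J.tok ++ winv wB)) &&
      sameRoute T (pA ++ .w (dec J.tok) :: invR pB) (rules.getD J.rule [])
  | .t i e j l, 2 => Nat.beq i iA && Nat.beq j iB && isL (dec J.la) &&
      Nat.beq (T.code (dec J.la)) (T.code wA) && Nat.beq (e % 5) (J.tok * exW (dec J.la) % 5) &&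
      Nat.beq (T.code (dec l)) (T.code (wB ++ winv (dec J.la))) &&
      sameRoute T (pA ++ .t J.tok :: invR pB) (rules.getD J.rule [])
  | _, _ => false

/-- An action to walk in. -/
structure Space (X : Type) [MulAction P3 X] where
  tau : Equiv.Perm X
  five : tau ^ 5 = 1
  moveA : ∀ p : X, tau (gA⁻¹ • p) = gA⁻¹ • (tau ^ 2) p
  moveB : ∀ p : X, tau (gB⁻¹ • p) = gB⁻¹ • tau p
  v : Nat → X

namespace Space

variable {X : Type} [MulAction P3 X] (S : Space X)

/-- A point moved by a word from the right. -/
def pw (w : List Nat) (p : X) : X := (val w)⁻¹ • p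

theorem pw_nil (p : X) : pw [] p = p := by rw [pw, val_nil, inv_one, one_smul]

theorem pw_append (a b : List Nat) (p : X) : pw (a ++ b) p = pw b (pw a p) := by
  rw [pw, pw, pw, val_append, mul_inv_rev, mul_smul]

theorem pw_winv (a : List Nat) (p : X) : pw (winv a) (pw a p) = p := by
  rw [pw, pw, val_winv, inv_inv, smul_smul, mul_inv_cancel, one_smul]

theorem tpow_mod (n : Nat) : S.tau ^ n = S.tau ^ (n % 5) := pow_eq_pow_mod n S.five

theorem tpow_congr {a b : Nat} (h : a % 5 = b % 5) : S.tau ^ a = S.tau ^ b := by
  rw [S.tpow_mod a, h, ← S.tpow_mod b]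

theorem tau_letter {a : Nat} (ha : a < 4) (p : X) :
    S.tau ((gl a)⁻¹ • p) = (gl a)⁻¹ • (S.tau ^ ex1 a) p := by
  match a, ha with
  | 0, _ => exact S.moveA p
  | 2, _ => exact (S.moveB p).trans (by rw [show ex1 2 = 1 from rfl, pow_one]; rfl)
  | 1, _ =>
    show S.tau ((gA⁻¹)⁻¹ • p) = (gA⁻¹)⁻¹ • (S.tau ^ 3) p
    rw [inv_inv]
    have h : ∀ q, gA⁻¹ • (S.tau ^ 2) q = S.tau (gA⁻¹ • q) := fun q => (S.moveA q).symm
    have h1 := h (gA • p)
    rw [inv_smul_smul] at h1
    have h2 : (S.tau ^ 2) (gA • p) = gA • S.tau p := by rw [← h1, smul_inv_smul]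
    have h3 : (S.tau ^ 2) ((S.tau ^ 2) (gA • p)) = gA • (S.tau ^ 2) p := by
      rw [h2]
      have h4 := h (gA • S.tau p)
      rw [inv_smul_smul] at h4
      calc (S.tau ^ 2) (gA • S.tau p) = gA • (gA⁻¹ • (S.tau ^ 2) (gA • S.tau p)) := by
            rw [smul_inv_smul]
        _ = gA • S.tau (S.tau p) := by rw [h4]
        _ = gA • (S.tau ^ 2) p := rfl
    have h5 := h (gA • (S.tau ^ 2) p)
    rw [inv_smul_smul] at h5
    have e6 : (S.tau ^ 2) (gA • (S.tau ^ 2) p) = gA • (S.tau ^ 3) p := by
      calc _ = gA • (gA⁻¹ • (S.tau ^ 2) (gA • (S.tau ^ 2) p)) := by rw [smul_inv_smul]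
        _ = gA • S.tau ((S.tau ^ 2) p) := by rw [h5]
        _ = gA • (S.tau ^ 3) p := rfl
    rw [← e6, ← h3]
    have : S.tau = S.tau ^ 2 * (S.tau ^ 2 * S.tau ^ 2) := by
      rw [← pow_add, ← pow_add]
      conv_lhs => rw [← pow_one S.tau]
      exact S.tpow_congr rfl
    conv_lhs => rw [this]
    rfl
  | 3, _ =>
    show S.tau ((gB⁻¹)⁻¹ • p) = (gB⁻¹)⁻¹ • (S.tau ^ 1) p
    rw [inv_inv, pow_one]
    have h := S.moveB (gB • p)
    rw [inv_smul_smul] at h
    rw [h, smul_inv_smul]

theorem tau_pow_letter {a : Nat} (ha : a < 4) (e : Nat) (p : X) :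
    (S.tau ^ e) ((gl a)⁻¹ • p) = (gl a)⁻¹ • (S.tau ^ (e * ex1 a)) p := by
  induction e generalizing p with
  | zero => simp
  | succ n ih =>
    rw [pow_succ, Equiv.Perm.mul_apply, S.tau_letter ha, ih, ← Equiv.Perm.mul_apply, ← pow_add,
      Nat.succ_mul]

/-- Words in the first two generators twist the element of order five. -/
theorem tau_pw {w : List Nat} (hw : isL w = true) (e : Nat) (p : X) :
    (S.tau ^ e) (pw w p) = pw w ((S.tau ^ (e * exW w)) p) := by
  induction w generalizing e p with
  | nil => rw [pw_nil, pw_nil, exW_nil, mul_one]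
  | cons a w ih =>
    simp only [isL, List.all_cons, Bool.and_eq_true, Nat.blt_eq] at hw
    have e1 : ∀ q : X, pw (a :: w) q = pw w ((gl a)⁻¹ • q) := fun q => by
      simp only [pw, val_cons, mul_inv_rev, mul_smul]
    rw [e1, e1, ih (by simpa [isL] using hw.2), S.tau_pow_letter hw.1, exW_cons]
    congr 2
    rw [S.tpow_congr (a := e * (ex1 a * exW w % 5)) (b := e * exW w * ex1 a)
      (by rw [Nat.mul_mod_mod, mul_assoc, mul_comm (exW w)])]

/-- The meaning of a token. -/
def tact : Tok → X → X
  | .w u, p => pw u p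
  | .t e, p => (S.tau ^ e) p

/-- The meaning of a route. -/
def ract : List Tok → X → X
  | [], p => p
  | a :: r, p => ract r (S.tact a p)

theorem ract_append (r s : List Tok) (p : X) : S.ract (r ++ s) p = S.ract s (S.ract r p) := by
  induction r generalizing p with
  | nil => rfl
  | cons a r ih => exact ih _

theorem ract_invR (r : List Tok) (p : X) : S.ract (invR r) (S.ract r p) = p := by
  induction r generalizing p with
  | nil => rfl
  | cons a r ih =>
    cases a with
    | w u =>
      rw [invR, ract_append]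
      simp only [ract]
      rw [ih]
      exact pw_winv u p
    | t e =>
      rw [invR, ract_append]
      simp only [ract]
      rw [ih]
      show (S.tau ^ (5 - e % 5)) ((S.tau ^ e) p) = p
      rw [← Equiv.Perm.mul_apply, ← pow_add, S.tpow_congr (b := 0) (by omega), pow_zero]
      rfl

theorem ract_ract_invR (r : List Tok) (p : X) : S.ract r (S.ract (invR r) p) = p := by
  induction r generalizing p with
  | nil => rfl
  | cons a r ih =>
    cases a with
    | w u =>
      rw [invR, ract_append]
      simp only [ract, tact]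
      rw [pw, pw, val_winv, inv_inv, inv_smul_smul, ih]
    | t e =>
      rw [invR, ract_append]
      simp only [ract, tact]
      rw [← Equiv.Perm.mul_apply, ← pow_add, S.tpow_congr (b := 0) (by omega), pow_zero,
        Equiv.Perm.one_apply, ih]

/-- The meaning of a normal form. -/
def nact : List (Nat × List Nat) → X → X
  | [], p => p
  | (e, u) :: r, p => nact r (pw u ((S.tau ^ e) p))

theorem ract_norm (r : List Tok) (p : X) : S.ract r p = S.nact (norm r).2 (pw (norm r).1 p) := by
  induction r generalizing p with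
  | nil => simp [norm, ract, nact, pw_nil]
  | cons a r ih =>
    cases a with
    | w u => rw [ract, ih, norm, pw_append]; rfl
    | t e => rw [ract, ih, norm, pw_nil]; rfl

/-- A valid fact. -/
def FV : Fact → Prop
  | .h i w j => pw (dec w) (S.v i) = S.v j
  | .t i e j l => (S.tau ^ e) (S.v i) = pw (dec l) (S.v j)

variable {T} (hT : T.Faithful)
include hT

theorem pw_congr {a b : List Nat} (h : T.code a = T.code b) (p : X) : pw a p = pw b p := by
  rw [pw, pw, hT.val_eq h]

theorem sameTail_sound : ∀ {r s : List (Nat × List Nat)}, sameTail T r s = true →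
    ∀ p, S.nact r p = S.nact s p
  | [], [], _, _ => rfl
  | (a, u) :: r, (b, w) :: s, h, p => by
    simp only [sameTail, Bool.and_eq_true, Nat.beq_eq] at h
    rw [nact, nact, sameTail_sound h.2, S.tpow_congr h.1.1, pw_congr hT h.1.2]

theorem sameRoute_sound {r s : List Tok} (h : sameRoute T r s = true) (p : X) :
    S.ract r p = S.ract s p := by
  simp only [sameRoute, Bool.and_eq_true, Nat.beq_eq] at h
  rw [S.ract_norm, S.ract_norm, S.sameTail_sound hT h.2, pw_congr hT h.1]

theorem walkF_sound {F : Nat → Fact} {bound : Nat}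
    (hF : ∀ n < bound, S.FV (F n)) :
    ∀ (ins : List Ins) (i : Nat) (w : List Nat) (k : Nat → List Nat → List Tok → Bool),
      walkF T F bound ins i w k = true →
      ∃ j v p, k j v p = true ∧ S.ract p (pw w (S.v i)) = pw v (S.v j) := by
  intro ins
  induction ins with
  | nil => intro i w k h; exact ⟨i, w, [], h, rfl⟩
  | cons a ins ih =>
    intro i w k h
    cases a with
    | fwd n =>
      simp only [walkF, Bool.and_eq_true, Nat.blt_eq] at h
      obtain ⟨hn, h⟩ := h
      have hv := hF n hn
      generalize F n = f at hv h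
      cases f with
      | t => simp at h
      | h a u b =>
        simp only [Bool.and_eq_true, Nat.beq_eq] at h
        obtain ⟨rfl, h⟩ := h
        obtain ⟨j, v, p, hk, hp⟩ := ih _ _ _ h
        refine ⟨j, v, p, hk, ?_⟩
        rwa [pw_append, ← (show pw (dec u) (S.v a) = S.v b from hv), pw_winv] at hp
    | bwd n =>
      simp only [walkF, Bool.and_eq_true, Nat.blt_eq] at h
      obtain ⟨hn, h⟩ := h
      have hv := hF n hn
      generalize F n = f at hv h
      cases f with
      | t => simp at h
      | h a u b =>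
        simp only [Bool.and_eq_true, Nat.beq_eq] at h
        obtain ⟨rfl, h⟩ := h
        obtain ⟨j, v, p, hk, hp⟩ := ih _ _ _ h
        refine ⟨j, v, p, hk, ?_⟩
        rwa [pw_append, show pw (dec u) (S.v a) = S.v b from hv] at hp
    | mul u =>
      simp only [walkF] at h
      obtain ⟨j, v, p, hk, hp⟩ := ih _ _ _ h
      refine ⟨j, v, _, hk, ?_⟩
      rw [pw_append] at hp
      exact hp
    | tp e l n =>
      simp only [walkF, Bool.and_eq_true, Nat.blt_eq] at h
      obtain ⟨hn, h⟩ := h
      have hv := hF n hn
      generalize F n = f at hv h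
      cases f with
      | h => simp at h
      | t a g b m =>
        simp only [Bool.and_eq_true, Nat.beq_eq] at h
        obtain ⟨⟨⟨⟨rfl, hl⟩, hc⟩, he⟩, h⟩ := h
        obtain ⟨j, v, p, hk, hp⟩ := ih _ _ _ h
        refine ⟨j, v, _, hk, ?_⟩
        show S.ract p ((S.tau ^ e) (pw w (S.v a))) = _
        rw [← pw_congr hT hc, S.tau_pw hl, ← S.tpow_congr (a := g) (by omega),
          show (S.tau ^ g) (S.v a) = pw (dec m) (S.v b) from hv, ← pw_append]
        exact hp

theorem justFOk_sound {rules : List (List Tok)} (hR : ∀ r ∈ rules, ∀ p, S.ract r p = p)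
    {F : Nat → Fact} {bound : Nat} (hF : ∀ n < bound, S.FV (F n))
    {f : Fact} {J : Just} (h : justFOk T rules F bound f J = true) : S.FV f := by
  simp only [justFOk, Bool.and_eq_true, Nat.blt_eq] at h
  obtain ⟨hr, h⟩ := h
  obtain ⟨iA, wA, pA, h, hA⟩ := S.walkF_sound hT hF _ _ _ _ h
  obtain ⟨iB, wB, pB, h, hB⟩ := S.walkF_sound hT hF _ _ _ _ h
  have hrule : ∀ p, S.ract (rules.getD J.rule []) p = p := by
    rw [List.getD_eq_getElem _ _ hr]
    exact hR _ (List.getElem_mem hr)
  have key : ∀ (mid : List Tok) {r : List Tok}, sameRoute T r (rules.getD J.rule []) = true →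
      r = pA ++ (mid ++ invR pB) → S.ract mid (pw wA (S.v iA)) = pw wB (S.v iB) := by
    intro mid r hs hr'
    have e := (S.sameRoute_sound hT hs (pw (dec J.word) (S.v J.start))).trans (hrule _)
    rw [hr', ract_append, hA, ract_append] at e
    have e2 := congrArg (S.ract pB) e
    rw [hB] at e2
    rwa [S.ract_ract_invR] at e2
  split at h
  · simp only [Bool.and_eq_true, Nat.beq_eq] at h
    obtain ⟨⟨⟨rfl, rfl⟩, hc⟩, hs⟩ := h
    show pw _ _ = _
    rw [pw_congr hT hc, pw_append, show pw wA (S.v _) = pw wB (S.v _) from key [] hs rfl, pw_winv]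
  · simp only [Bool.and_eq_true, Nat.beq_eq] at h
    obtain ⟨⟨⟨rfl, rfl⟩, hc⟩, hs⟩ := h
    show pw _ _ = _
    rw [pw_congr hT hc, pw_append, pw_append,
      show pw (dec J.tok) (pw wA (S.v _)) = pw wB (S.v _) from key [.w (dec J.tok)] hs rfl, pw_winv]
  · simp only [Bool.and_eq_true, Nat.beq_eq] at h
    obtain ⟨⟨⟨⟨⟨⟨rfl, rfl⟩, hl⟩, hla⟩, he⟩, hc⟩, hs⟩ := h
    show _ = pw _ _
    have e : (S.tau ^ J.tok) (pw wA (S.v _)) = pw wB (S.v _) := key [.t J.tok] hs rfl
    rw [← pw_congr hT hla, S.tau_pw hl] at e
    rw [pw_congr hT hc, pw_append, ← e, pw_winv]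
    exact DFunLike.congr_fun (S.tpow_congr (by omega)) _
  · simp at h

end Space

end Cfsg.Agent.HNWord66
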