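import Cfsg.Agent.Lib.HNCosets66

/-!
Data: witnesses for the third generator.
-/

set_option autoImplicit false
set_option maxRecDepth 100000
set_option Elab.async false

namespace Cfsg.Agent.HNWord66.HNData

open Cfsg.Agent.HNWord66

/-- Witnesses at one node. -/
noncomputable def wit0 : List (List Ins × Nat × Nat) :=
  [([.mul 5, .fwd 2], 0, 0), ([.bwd 1, .mul 5, .fwd 2], 0, 0), ([.bwd 0, .bwd 1, .mul 5, .fwd 2], 0, 0), ([.bwd 1, .bwd 1, .mul 5, .fwd 2], 0, 0), ([.bwd 1, .bwd 0, .bwd 1, .mul 5, .fwd 2], 0, 0), ([.bwd 0, .bwd 1, .bwd 1, .mul 5, .fwd 2], 0, 0), ([.bwd 1, .bwd 1, .bwd 1, .mul 5, .fwd 2], 0, 0), ([.bwd 1, .bwd 1, .bwd 0, .bwd 1, .mul 5, .fwd 2], 0, 0), ([.bwd 1, .bwd 0, .bwd 1, .bwd 1, .mul 5, .fwd 2], 0, 0), ([.bwd 0, .bwd 1, .bwd 1, .bwd 1, .mul 5, .fwd 2], 0, 0), ([.bwd 1, .bwd 1, .bwd 1, .bwd 1, .mul 5, .fwd 2],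 0, 0), ([.bwd 0, .bwd 1, .bwd 1, .bwd 0, .bwd 1, .mul 5, .fwd 2], 0, 0), ([.bwd 0, .bwd 1, .bwd 0, .bwd 1, .bwd 1, .mul 5, .fwd 2], 0, 0), ([.bwd 1, .bwd 1, .bwd 0, .bwd 1, .bwd 1, .mul 5, .fwd 2], 0, 0), ([.bwd 1, .bwd 0, .bwd 1, .bwd 1, .bwd 1, .mul 5, .fwd 2], 0, 0), ([.bwd 0, .bwd 1, .bwd 1, .bwd 1, .bwd 1, .mul 5, .fwd 2], 0, 0), ([.bwd 1, .bwd 0, .bwd 1, .bwd 0, .bwd 1, .bwd 1, .mul 5, .fwd 2], 0, 0), ([.bwd 0, .bwd 1, .bwd 1, .bwd 0, .bwd 1, .bwd 1, .mul 5, .fwd 2], 0, 0), ([.bwd 1, .bwd 1, .bwd 1, .bwd 0, .bwd 1, .bwd 1, .mul 5, .fwd 2], 0, 0), ([.bwd 0, .bwd 1, .bwd 0, .bwd 1, .bwd 1, .bwd 1, .mul 5, .fwd 2], 0, 0), ([.bwd 1, .bwd 1, .bwd 0, .bwd 1, .bwd 1, .bwd 1, .mul 5, .fwd 2], 0, 0), ([.bwd 1, .bwd 0, .bwd 1, .bwd 1, .bwd 1, .bwd 1, .mul 5, .fwd 2], 0, 0), ([.bwd 0, .bwd 1, .bwd 0, .bwd 1, .bwd 0, .bwd 1, .bwd 1, .mul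 5, .fwd 2], 0, 0), ([.bwd 1, .bwd 1, .bwd 0, .bwd 1, .bwd 0, .bwd 1, .bwd 1, .mul 5, .fwd 2], 0, 0), ([.bwd 0, .bwd 1, .bwd 1, .bwd 1, .bwd 0, .bwd 1, .bwd 1, .mul 5, .fwd 2], 0, 0), ([.bwd 1, .bwd 0, .bwd 1, .bwd 0, .bwd 1, .bwd 1, .bwd 1, .mul 5, .fwd 2], 0, 0), ([.bwd 0, .bwd 1, .bwd 1, .bwd 0, .bwd 1, .bwd 1, .bwd 1, .mul 5, .fwd 2], 0, 0), ([.bwd 1, .bwd 0, .bwd 1, .bwd 0, .bwd 1, .bwd 0, .bwd 1, .bwd 1, .mul 5, .fwd 2], 0, 0), ([.bwd 1, .bwd 0, .bwd 1, .bwd 1, .bwd 1, .bwd 0, .bwd 1, .bwd 1, .mul 5, .fwd 2], 0, 0), ([.bwd 0, .bwd 1, .bwd 0, .bwd 1, .bwd 0, .bwd 1, .bwd 1, .bwd 1, .mul 5, .fwd 2], 0, 0), ([.bwd 1, .bwd 1, .bwd 0, .bwd 1, .bwd 0, .bwd 1, .bwd 1, .bwd 1, .mul 5, .fwd 2], 0, 0), ([.bwd 1, .bwd 0, .bwd 1, .bwd 1, .bwd 0, .bwd 1, .bwd 1, .bwd 1, .mul 5, .fwd 2], 0, 0), ([.bwd 0, .bwd 1, .bwd 0, .bwd 1, .bwd 1, .bwd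 1, .bwd 0, .bwd 1, .bwd 1, .mul 5, .fwd 2], 0, 0), ([.bwd 1, .bwd 1, .bwd 0, .bwd 1, .bwd 1, .bwd 1, .bwd 0, .bwd 1, .bwd 1, .mul 5, .fwd 2], 0, 0), ([.bwd 0, .bwd 1, .bwd 1, .bwd 0, .bwd 1, .bwd 0, .bwd 1, .bwd 1, .bwd 1, .mul 5, .fwd 2], 0, 0), ([.bwd 1, .bwd 1, .bwd 1, .bwd 0, .bwd 1, .bwd 0, .bwd 1, .bwd 1, .bwd 1, .mul 5, .fwd 2], 0, 0), ([.bwd 0, .bwd 1, .bwd 0, .bwd 1, .bwd 1, .bwd 0, .bwd 1, .bwd 1, .bwd 1, .mul 5, .fwd 2], 0, 0), ([.bwd 1, .bwd 1, .bwd 0, .bwd 1, .bwd 1, .bwd 0, .bwd 1, .bwd 1, .bwd 1, .mul 5, .fwd 2], 0, 0), ([.bwd 1, .bwd 0, .bwd 1, .bwd 0, .bwd 1, .bwd 1, .bwd 1, .bwd 0, .bwd 1, .bwd 1, .mul 5, .fwd 2], 0, 0), ([.bwd 1, .bwd 0, .bwd 1, .bwd 1, .bwd 0, .bwd 1, .bwd 0, .bwd 1, .bwd 1, .bwd 1, .mul 5, .fwd 2], 0, 0), ([.bwd 1, .bwd 0, .bwd 1, .bwd 0, .bwd 1, .bwd 1, .bwd 0, .bwd 1, .bwd 1, .bwd 1, .mul 5,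 .fwd 2], 0, 0), ([.bwd 0, .bwd 1, .bwd 0, .bwd 1, .bwd 0, .bwd 1, .bwd 1, .bwd 1, .bwd 0, .bwd 1, .bwd 1, .mul 5, .fwd 2], 0, 0), ([.bwd 0, .bwd 1, .bwd 0, .bwd 1, .bwd 1, .bwd 0, .bwd 1, .bwd 0, .bwd 1, .bwd 1, .bwd 1, .mul 5, .fwd 2], 0, 0), ([.bwd 1, .bwd 1, .bwd 0, .bwd 1, .bwd 1, .bwd 0, .bwd 1, .bwd 0, .bwd 1, .bwd 1, .bwd 1, .mul 5, .fwd 2], 0, 0), ([.bwd 1, .bwd 0, .bwd 1, .bwd 0, .bwd 1, .bwd 1, .bwd 0, .bwd 1, .bwd 0, .bwd 1, .bwd 1, .bwd 1, .mul 5, .fwd 2], 0, 0), ([.bwd 1, .bwd 1, .bwd 1, .bwd 0, .bwd 1, .bwd 1, .bwd 0, .bwd 1, .bwd 0, .bwd 1, .bwd 1, .bwd 1, .mul 5, .fwd 2], 0, 0), ([.bwd 0, .bwd 1, .bwd 0, .bwd 1, .bwd 0, .bwd 1, .bwd 1, .bwd 0, .bwd 1, .bwd 0, .bwd 1, .bwd 1, .bwd 1, .mul 5, .fwd 2], 0, 0), ([.bwd 1, .bwd 1, .bwd 0, .bwd 1, .bwd 0, .bwd 1, .bwd 1, .bwd 0, .bwd 1, .bwd 0, .bwd 1, .bwd 1, .bwd 1, .mul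 5, .fwd 2], 0, 0), ([.bwd 1, .bwd 1, .bwd 1, .bwd 1, .bwd 0, .bwd 1, .bwd 1, .bwd 0, .bwd 1, .bwd 0, .bwd 1, .bwd 1, .bwd 1, .mul 5, .fwd 2], 0, 0), ([.bwd 1, .bwd 0, .bwd 1, .bwd 0, .bwd 1, .bwd 0, .bwd 1, .bwd 1, .bwd 0, .bwd 1, .bwd 0, .bwd 1, .bwd 1, .bwd 1, .mul 5, .fwd 2], 0, 0)]

/-- Witnesses at one node. -/
noncomputable def wit1 : List (List Ins × Nat × Nat) :=
  [([.mul 5, .fwd 13], 2, 0), ([.bwd 5, .mul 5, .fwd 13], 2, 0), ([.bwd 6, .mul 5, .fwd 13], 2, 1), ([.bwd 5, .bwd 5, .mul 5, .fwd 13], 2, 0), ([.bwd 6, .bwd 5, .mul 5, .fwd 13], 2, 0x1142cb), ([.bwd 6, .bwd 6, .mul 5, .fwd 13], 2, 1), ([.bwd 5, .bwd 5, .bwd 5, .mul 5, .fwd 13], 2, 0), ([.bwd 5, .bwd 6, .bwd 5, .mul 5, .fwd 13], 2, 0x1142cb), ([.bwd 5, .bwd 6, .bwd 6, .mul 5, .fwd 13], 2, 1), ([.bwd 6, .bwd 6, .bwd 6, .mul 5, .fwd 13], 2, 1), ([.bwd 5, .bwd 5, .bwd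 5, .bwd 5, .mul 5, .fwd 13], 2, 0), ([.bwd 6, .bwd 6, .bwd 5, .mul 5, .fwd 13], 2, 9), ([.bwd 6, .bwd 5, .bwd 5, .mul 5, .fwd 13], 2, 9), ([.bwd 5, .bwd 5, .bwd 6, .bwd 6, .mul 5, .fwd 13], 2, 1), ([.bwd 5, .bwd 6, .bwd 6, .bwd 6, .mul 5, .fwd 13], 2, 1), ([.bwd 6, .bwd 6, .bwd 6, .bwd 6, .mul 5, .fwd 13], 2, 1), ([.bwd 5, .bwd 6, .bwd 5, .bwd 5, .mul 5, .fwd 13], 2, 9), ([.bwd 6, .bwd 6, .bwd 5, .bwd 5, .mul 5, .fwd 13], 2, 9), ([.bwd 5, .bwd 5, .bwd 5, .bwd 6, .bwd 6, .mul 5, .fwd 13], 2, 1), ([.bwd 6, .bwd 5, .bwd 5, .bwd 5, .mul 5, .fwd 13], 2, 9), ([.bwd 5, .bwd 5, .bwd 6, .bwd 6, .bwd 6, .mul 5, .fwd 13], 2, 1), ([.bwd 6, .bwd 5, .bwd 5, .bwd 5, .bwd 5, .mul 5, .fwd 13], 2, 0xd330c), ([.bwd 6, .bwd 5, .bwd 6, .bwd 6, .mul 5, .fwd 13], 2, 2), ([.bwd 5, .bwd 5, .bwd 6, .bwd 5, .bwd 5, .mul 5, .fwd 13], 2, 9), ([.bwd 6, .bwd 6,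 .bwd 6, .bwd 5, .bwd 5, .mul 5, .fwd 13], 2, 9), ([.bwd 5, .bwd 6, .bwd 5, .bwd 5, .bwd 5, .mul 5, .fwd 13], 2, 9), ([.bwd 6, .bwd 6, .bwd 5, .bwd 5, .bwd 5, .mul 5, .fwd 13], 2, 9), ([.bwd 5, .bwd 6, .bwd 5, .bwd 6, .bwd 6, .mul 5, .fwd 13], 2, 2), ([.bwd 5, .bwd 6, .bwd 6, .bwd 6, .bwd 5, .bwd 5, .mul 5, .fwd 13], 2, 9), ([.bwd 6, .bwd 5, .bwd 6, .bwd 6, .bwd 6, .mul 5, .fwd 13], 2, 2), ([.bwd 5, .bwd 5, .bwd 6, .bwd 5, .bwd 5, .bwd 5, .mul 5, .fwd 13], 2, 9), ([.bwd 5, .bwd 6, .bwd 6, .bwd 5, .bwd 5, .bwd 5, .mul 5, .fwd 13], 2, 9), ([.bwd 6, .bwd 5, .bwd 5, .bwd 5, .bwd 6, .bwd 6, .mul 5, .fwd 13], 2, 2), ([.bwd 5, .bwd 5, .bwd 6, .bwd 6, .bwd 6, .bwd 5, .bwd 5, .mul 5, .fwd 13], 2, 9), ([.bwd 6, .bwd 6, .bwd 5, .bwd 6, .bwd 6, .bwd 6, .mul 5, .fwd 13], 2, 2), ([.bwd 5, .bwd 5, .bwd 5, .bwd 6, .bwd 5, .bwd 5, .bwd 5, .mul 5, .fwd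 13], 2, 9), ([.bwd 6, .bwd 5, .bwd 5, .bwd 6, .bwd 6, .bwd 6, .mul 5, .fwd 13], 2, 2), ([.bwd 5, .bwd 5, .bwd 6, .bwd 6, .bwd 5, .bwd 5, .bwd 5, .mul 5, .fwd 13], 2, 9), ([.bwd 5, .bwd 6, .bwd 5, .bwd 5, .bwd 5, .bwd 6, .bwd 6, .mul 5, .fwd 13], 2, 2), ([.bwd 5, .bwd 6, .bwd 6, .bwd 5, .bwd 6, .bwd 6, .bwd 6, .mul 5, .fwd 13], 2, 2), ([.bwd 5, .bwd 6, .bwd 5, .bwd 5, .bwd 6, .bwd 6, .bwd 6, .mul 5, .fwd 13], 2, 2), ([.bwd 6, .bwd 5, .bwd 6, .bwd 6, .bwd 6, .bwd 5, .bwd 5, .mul 5, .fwd 13], 2, 0), ([.bwd 6, .bwd 5, .bwd 5, .bwd 6, .bwd 5, .bwd 5, .bwd 5, .mul 5, .fwd 13], 2, 0), ([.bwd 6, .bwd 6, .bwd 5, .bwd 5, .bwd 6, .bwd 5, .bwd 5, .bwd 5, .mul 5, .fwd 13], 2, 0x42d990b), ([.bwd 5, .bwd 6, .bwd 5, .bwd 5, .bwd 6, .bwd 5, .bwd 5, .bwd 5, .mul 5, .fwd 13], 2, 0), ([.bwd 5, .bwd 6, .bwd 6, .bwd 5, .bwd 5, .bwd 6, .bwd 5, .bwd 5, .bwd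 5, .mul 5, .fwd 13], 2, 0x42d990b), ([.bwd 6, .bwd 5, .bwd 6, .bwd 6, .bwd 5, .bwd 6, .bwd 6, .bwd 6, .mul 5, .fwd 13], 2, 1), ([.bwd 5, .bwd 5, .bwd 6, .bwd 5, .bwd 5, .bwd 6, .bwd 5, .bwd 5, .bwd 5, .mul 5, .fwd 13], 2, 0), ([.bwd 6, .bwd 6, .bwd 5, .bwd 6, .bwd 6, .bwd 5, .bwd 6, .bwd 6, .bwd 6, .mul 5, .fwd 13], 2, 0x190c30c2d965b), ([.bwd 6, .bwd 5, .bwd 6, .bwd 5, .bwd 5, .bwd 6, .bwd 5, .bwd 5, .bwd 5, .mul 5, .fwd 13], 2, 0x1142cb)]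

/-- Witnesses at one node. -/
noncomputable def wit2 : List (List Ins × Nat × Nat) :=
  [([.mul 5, .fwd 18], 1, 0), ([.mul 5, .fwd 39], 5, 0), ([.bwd 14, .bwd 16, .bwd 14, .bwd 14, .bwd 16, .mul 5, .fwd 39], 5, 0x6d36cb6cc30b2cb), ([.bwd 14, .bwd 14, .bwd 14, .bwd 15, .mul 5, .fwd 39], 5, 0x6d366190c30b), ([.bwd 15, .bwd 14, .bwd 14, .mul 5, .fwd 44], 5, 0xa16cc3216cb2d9661), ([.bwd 16, .bwd 14, .mul 5, .fwd 39], 5, 0x89b2cb), ([.bwd 14, .bwd 15, .bwd 15, .bwd 16, .bwd 14, .mul 5, .fwd 39], 5, 0x44d96cc85b659), ([.bwd 15, .bwd 16, .mul 5, .fwd 39], 5, 0x89b659), ([.bwd 15, .bwd 16, .bwd 14, .mul 5, .fwd 39], 5, 0x2452166430b2cb), ([.bwd 15, .bwd 15, .bwd 16, .bwd 14, .mul 5, .fwd 39], 5, 0x352190b659861), ([.bwd 16, .bwd 14, .bwd 16, .mul 5, .fwd 39], 5, 0x36996cb65965b), ([.bwd 14, .bwd 16, .bwd 15, .bwd 14, .bwd 14, .mul 5, .fwd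 39], 5, 0x190b6616cc32165b2d9), ([.bwd 14, .bwd 16, .mul 5, .fwd 39], 5, 0x91430c2cb65965b), ([.bwd 15, .bwd 15, .bwd 16, .mul 5, .fwd 39], 5, 0x2432185b2d9), ([.bwd 15, .bwd 15, .bwd 15, .bwd 16, .mul 5, .fwd 39], 5, 0x32d986190c2cb2d9), ([.bwd 16, .bwd 15, .bwd 14, .bwd 14, .mul 5, .fwd 39], 5, 0xda6cc85b2cc861), ([.bwd 15, .mul 5, .fwd 39], 5, 0x90c30c2d965b), ([.bwd 14, .bwd 15, .mul 5, .fwd 39], 5, 0x243218616d965b), ([.bwd 14, .mul 5, .fwd 39], 5, 0x485b30b2cb), ([.bwd 15, .bwd 14, .bwd 14, .mul 5, .fwd 39], 5, 0x489b65b659661861), ([.bwd 14, .bwd 14, .bwd 15, .bwd 16, .bwd 14, .mul 5, .fwd 39], 5, 0xcc85b32190c), ([.bwd 14, .mul 5, .fwd 44], 5, 0x10b65b3216cb2d985b), ([.bwd 16, .bwd 15, .bwd 16, .mul 5, .fwd 39], 5, 2), ([.bwd 16, .mul 5, .fwd 39], 5, 0x6596d965b30b), ([.bwd 16, .bwd 14, .bwd 14, .bwd 16, .mul 5, .fwd 39],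 5, 0x34d98642d990c30b), ([.mul 5, .fwd 44], 5, 0x185b2d990b30c321), ([.bwd 14, .bwd 14, .bwd 14, .bwd 16, .mul 5, .fwd 39], 5, 0x44db2d96cb), ([.bwd 14, .bwd 15, .bwd 16, .bwd 14, .mul 5, .fwd 39], 5, 0xc30c85b32190b), ([.bwd 14, .bwd 15, .bwd 14, .bwd 14, .mul 5, .fwd 39], 5, 0x1a6d965b30c8616cb), ([.bwd 14, .bwd 14, .mul 5, .fwd 44], 5, 0x226cc86190c2d96cb), ([.bwd 16, .bwd 15, .bwd 15, .bwd 16, .mul 5, .fwd 39], 5, 0x265b6596cc85b2d9), ([.bwd 14, .bwd 16, .bwd 14, .mul 5, .fwd 39], 5, 0x196d965b30b65b), ([.bwd 16, .bwd 15, .bwd 16, .bwd 14, .mul 5, .fwd 39], 5, 0x12190b66430b2cb), ([.bwd 14, .bwd 14, .bwd 16, .mul 5, .fwd 39], 5, 0x1b4d966432185b659), ([.bwd 14, .bwd 14, .bwd 14, .mul 5, .fwd 39], 5, 0x132db2cc85b), ([.bwd 16, .bwd 14, .bwd 14, .bwd 14, .bwd 16, .mul 5, .fwd 39], 5, 0x196d965b30c864), ([.bwd 14, .bwd 14, .bwd 15,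 .mul 5, .fwd 39], 5, 0xcb65b6642cc30c), ([.bwd 15, .bwd 15, .bwd 14, .bwd 14, .mul 5, .fwd 39], 5, 0x36642d965990b), ([.bwd 14, .bwd 14, .bwd 15, .bwd 14, .bwd 14, .mul 5, .fwd 39], 5, 0x34d96618596cb2cb), ([.bwd 15, .bwd 14, .bwd 14, .bwd 14, .mul 5, .fwd 39], 5, 0x1b4d9864321), ([.bwd 15, .bwd 14, .bwd 16, .mul 5, .fwd 39], 5, 0x190b66430c2cb), ([.bwd 16, .bwd 14, .bwd 15, .mul 5, .fwd 39], 5, 0x1216d96d965b), ([.bwd 14, .bwd 15, .bwd 14, .bwd 14, .bwd 14, .mul 5, .fwd 39], 5, 0x226cb6642d96cc), ([.bwd 15, .bwd 15, .mul 5, .fwd 44], 5, 0x16cb65990b2db2d9861), ([.bwd 14, .bwd 14, .mul 5, .fwd 39], 5, 0x2290b30c2d9659861), ([.bwd 15, .mul 5, .fwd 44], 5, 0x69b30c8642d9659), ([.bwd 14, .bwd 16, .bwd 15, .bwd 15, .bwd 16, .mul 5, .fwd 39], 5, 0x286190b6596cc861659), ([.bwd 15, .bwd 14, .bwd 14, .bwd 14, .bwd 16, .mul 5, .fwd 39], 5,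 0xa186430b664), ([.bwd 15, .bwd 16, .bwd 14, .bwd 14, .bwd 16, .mul 5, .fwd 39], 5, 0x198616cb65b321), ([.bwd 16, .mul 5, .fwd 44], 5, 0x9990b65990b30c30b)]

/-- Witnesses at one node. -/
noncomputable def wit3 : List (List Ins × Nat × Nat) :=
  [([.mul 5, .fwd 27], 3, 1), ([.mul 5, .fwd 50], 6, 0), ([.bwd 21, .bwd 22, .bwd 20, .bwd 21, .bwd 21, .bwd 20, .mul 5, .fwd 50], 6, 0x8a185965b65b664), ([.bwd 20, .bwd 21, .bwd 21, .bwd 20, .mul 5, .fwd 50], 6, 0x285b65b32190b), ([.mul 5, .fwd 56], 7, 0), ([.bwd 22, .bwd 20, .bwd 21, .bwd 20, .mul 5, .fwd 50], 6, 0x1142cb), ([.bwd 22, .bwd 21, .bwd 21, .bwd 22, .bwd 20, .mul 5, .fwd 50], 6, 0xd32d990c30c2cb659), ([.bwd 21, .mul 5, .fwd 50], 6, 0x216d96cb2cb), ([.bwd 21, .bwd 22, .bwd 20, .bwd 20, .bwd 20, .mul 5, .fwd 50], 6, 0x2452166430b2cb), ([.bwd 21, .bwd 21, .bwd 22, .bwd 20, .mul 5,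 .fwd 50], 6, 0x91366190b2d96cb), ([.bwd 20, .bwd 21, .mul 5, .fwd 50], 6, 0x136642cc861), ([.bwd 22, .bwd 21, .bwd 21, .bwd 20, .mul 5, .fwd 50], 6, 0x596cc32185b2cc861), ([.bwd 20, .bwd 20, .bwd 20, .bwd 21, .bwd 20, .mul 5, .fwd 50], 6, 0x89966185b65b661), ([.bwd 22, .bwd 21, .bwd 20, .bwd 20, .bwd 21, .bwd 20, .mul 5, .fwd 50], 6, 0x50b6cb30c2cb), ([.bwd 22, .bwd 20, .bwd 21, .mul 5, .fwd 50], 6, 0xd32cb), ([.bwd 21, .bwd 21, .bwd 21, .bwd 20, .mul 5, .fwd 50], 6, 0x1485b32185b2cb), ([.bwd 21, .bwd 21, .bwd 20, .mul 5, .fwd 50], 6, 0x1228642d96cc2cb65b), ([.bwd 22, .bwd 20, .mul 5, .fwd 50], 6, 0x48a42cb65b), ([.bwd 20, .bwd 20, .bwd 20, .mul 5, .fwd 50], 6, 0x485b30b2cb), ([.bwd 21, .bwd 22, .bwd 20, .mul 5, .fwd 50], 6, 0x1b6642cc86165b), ([.bwd 20, .bwd 22, .bwd 20, .bwd 20, .bwd 20, .mul 5, .fwd 50], 6, 0x44cc86165b30b), ([.bwd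 21, .mul 5, .fwd 56], 7, 0x1b521661861), ([.bwd 20, .bwd 22, .bwd 20, .bwd 21, .bwd 20, .mul 5, .fwd 50], 6, 0x12186430b2d985b), ([.bwd 21, .bwd 20, .mul 5, .fwd 50], 6, 0x12285b65b65b), ([.bwd 22, .bwd 20, .bwd 21, .bwd 21, .bwd 20, .mul 5, .fwd 50], 6, 0x26cc30b2d9861), ([.bwd 20, .bwd 21, .mul 5, .fwd 56], 7, 0x190b6616cb), ([.bwd 20, .bwd 21, .bwd 20, .mul 5, .fwd 50], 6, 0xb2d96cb30c), ([.bwd 20, .bwd 20, .bwd 22, .bwd 20, .bwd 20, .bwd 20, .mul 5, .fwd 50], 6, 0x86185965b65b664), ([.bwd 21, .bwd 21, .bwd 20, .bwd 20, .bwd 20, .mul 5, .fwd 50], 6, 0x30b66190c30c85b2cb), ([.bwd 21, .bwd 21, .mul 5, .fwd 56], 7, 0x91366165b321661), ([.bwd 20, .bwd 21, .bwd 21, .bwd 22, .bwd 20, .bwd 20, .mul 5, .fwd 50], 6, 0x2166185b659), ([.bwd 21, .bwd 20, .bwd 22, .bwd 20, .bwd 20, .mul 5, .fwd 50], 6, 0xd42d965b321661), ([.bwd 22, .bwd 21,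 .bwd 22, .bwd 20, .mul 5, .fwd 50], 6, 0x30c2d96618596cc859), ([.bwd 20, .bwd 20, .bwd 21, .bwd 20, .mul 5, .fwd 50], 6, 0x26598616596cc), ([.bwd 20, .mul 5, .fwd 50], 6, 0x132db2cc85b), ([.bwd 22, .bwd 20, .bwd 20, .bwd 20, .mul 5, .fwd 50], 6, 0x1b4d986432185b30c), ([.bwd 20, .bwd 20, .bwd 21, .bwd 21, .bwd 20, .mul 5, .fwd 50], 6, 0x10c8642d965b30b), ([.bwd 20, .bwd 21, .bwd 22, .bwd 20, .mul 5, .fwd 50], 6, 0x36a42d96596d9861), ([.bwd 21, .bwd 20, .bwd 20, .bwd 21, .bwd 20, .mul 5, .fwd 50], 6, 0x1a65b2cc85b), ([.bwd 21, .bwd 22, .bwd 20, .bwd 20, .mul 5, .fwd 50], 6, 0xda86430c8596cb321), ([.bwd 20, .bwd 22, .bwd 20, .bwd 20, .mul 5, .fwd 50], 6, 0x44cc86165b2cc859), ([.bwd 22, .bwd 20, .bwd 20, .mul 5, .fwd 50], 6, 0x2cb2db2d966185b), ([.bwd 20, .bwd 21, .bwd 22, .bwd 20, .bwd 20, .mul 5, .fwd 50], 6, 0x185b65b2cb2d96cb), ([.bwd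 21, .bwd 20, .bwd 20, .bwd 21, .mul 5, .fwd 56], 7, 0x10b6596cb659), ([.bwd 20, .bwd 20, .mul 5, .fwd 50], 6, 0x2290b30c2d9659861), ([.bwd 20, .bwd 20, .bwd 21, .mul 5, .fwd 56], 7, 0x6da8642cb2cc321), ([.bwd 21, .bwd 21, .bwd 22, .bwd 20, .bwd 20, .mul 5, .fwd 50], 6, 0x1485965b65b659), ([.bwd 21, .bwd 20, .bwd 20, .bwd 20, .mul 5, .fwd 50], 6, 0xd96cc32190c2d96cc), ([.bwd 20, .bwd 21, .bwd 20, .bwd 20, .bwd 20, .mul 5, .fwd 50], 6, 0xc8616d990b321), ([.bwd 22, .bwd 21, .bwd 21, .mul 5, .fwd 56], 7, 0x90b66165b321661)]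

/-- Witnesses at one node. -/
noncomputable def wit4 : List (List Ins × Nat × Nat) :=
  [([.mul 5, .fwd 32], 4, 9), ([.mul 5, .fwd 65], 8, 0), ([.bwd 30, .bwd 31, .bwd 29, .bwd 30, .bwd 30, .bwd 29, .mul 5, .fwd 65], 8, 0x8a185965b65b664), ([.bwd 29, .bwd 30, .bwd 30, .bwd 29, .mul 5, .fwd 65], 8, 0x285b65b32190b), ([.mul 5, .fwd 146], 4, 0x598642cb65b), ([.bwd 31, .bwd 29, .bwd 30, .bwd 29, .mul 5, .fwd 65], 8, 0x1142cb), ([.bwd 31, .bwd 30, .bwd 30, .bwd 31, .bwd 29, .mul 5, .fwd 65], 8, 0xd32d990c30c2cb659), ([.bwd 30, .mul 5, .fwd 65], 8, 0x216d96cb2cb), ([.bwd 30, .bwd 31, .bwd 29, .bwd 29, .bwd 29, .mul 5, .fwd 65], 8, 0x2452166430b2cb), ([.bwd 30, .bwd 30, .bwd 31, .bwd 29, .mul 5, .fwd 65], 8, 0x91366190b2d96cb), ([.bwd 29, .bwd 30, .mul 5, .fwd 65], 8, 0x136642cc861), ([.bwd 31, .bwd 30, .bwd 30, .bwd 29, .mul 5, .fwd 65],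 8, 0x596cc32185b2cc861), ([.bwd 29, .bwd 29, .bwd 29, .bwd 30, .bwd 29, .mul 5, .fwd 65], 8, 0x89966185b65b661), ([.bwd 31, .bwd 30, .bwd 29, .bwd 29, .bwd 30, .bwd 29, .mul 5, .fwd 65], 8, 0x50b6cb30c2cb), ([.bwd 31, .bwd 29, .bwd 30, .mul 5, .fwd 65], 8, 0xd32cb), ([.bwd 30, .bwd 30, .bwd 30, .bwd 29, .mul 5, .fwd 65], 8, 0x1485b32185b2cb), ([.bwd 30, .bwd 30, .bwd 29, .mul 5, .fwd 65], 8, 0x1228642d96cc2cb65b), ([.bwd 31, .bwd 29, .mul 5, .fwd 65], 8, 0x48a42cb65b), ([.bwd 29, .bwd 29, .bwd 29, .mul 5, .fwd 65], 8, 0x485b30b2cb), ([.bwd 30, .bwd 31, .bwd 29, .mul 5, .fwd 65], 8, 0x1b6642cc86165b), ([.bwd 29, .bwd 31, .bwd 29, .bwd 29, .bwd 29, .mul 5, .fwd 65], 8, 0x44cc86165b30b), ([.bwd 30, .mul 5, .fwd 146], 4, 0xda86430c2db2d965b), ([.bwd 29, .bwd 31, .bwd 29, .bwd 30, .bwd 29, .mul 5, .fwd 65], 8, 0x12186430b2d985b), ([.bwd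 30, .bwd 29, .mul 5, .fwd 65], 8, 0x12285b65b65b), ([.bwd 31, .bwd 29, .bwd 30, .bwd 30, .bwd 29, .mul 5, .fwd 65], 8, 0x26cc30b2d9861), ([.bwd 29, .bwd 30, .mul 5, .fwd 146], 4, 0x4d985966190c861), ([.bwd 29, .bwd 30, .bwd 29, .mul 5, .fwd 65], 8, 0xb2d96cb30c), ([.bwd 29, .bwd 29, .bwd 31, .bwd 29, .bwd 29, .bwd 29, .mul 5, .fwd 65], 8, 0x86185965b65b664), ([.bwd 30, .bwd 30, .bwd 29, .bwd 29, .bwd 29, .mul 5, .fwd 65], 8, 0x30b66190c30c85b2cb), ([.bwd 30, .bwd 30, .mul 5, .fwd 146], 4, 0x9142cb2db2cc), ([.bwd 29, .bwd 30, .bwd 30, .bwd 31, .bwd 29, .bwd 29, .mul 5, .fwd 65], 8, 0x2166185b659), ([.bwd 30, .bwd 29, .bwd 31, .bwd 29, .bwd 29, .mul 5, .fwd 65], 8, 0xd42d965b321661), ([.bwd 31, .bwd 30, .bwd 31, .bwd 29, .mul 5, .fwd 65], 8, 0x30c2d96618596cc859), ([.bwd 29, .bwd 29, .bwd 30, .bwd 29, .mul 5, .fwd 65], 8, 0x26598616596cc),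 ([.bwd 29, .mul 5, .fwd 65], 8, 0x132db2cc85b), ([.bwd 31, .bwd 29, .bwd 29, .bwd 29, .mul 5, .fwd 65], 8, 0x1b4d986432185b30c), ([.bwd 29, .bwd 29, .bwd 30, .bwd 30, .bwd 29, .mul 5, .fwd 65], 8, 0x10c8642d965b30b), ([.bwd 29, .bwd 30, .bwd 31, .bwd 29, .mul 5, .fwd 65], 8, 0x36a42d96596d9861), ([.bwd 30, .bwd 29, .bwd 29, .bwd 30, .bwd 29, .mul 5, .fwd 65], 8, 0x1a65b2cc85b), ([.bwd 30, .bwd 31, .bwd 29, .bwd 29, .mul 5, .fwd 65], 8, 0xda86430c8596cb321), ([.bwd 29, .bwd 31, .bwd 29, .bwd 29, .mul 5, .fwd 65], 8, 0x44cc86165b2cc859), ([.bwd 31, .bwd 29, .bwd 29, .mul 5, .fwd 65], 8, 0x2cb2db2d966185b), ([.bwd 29, .bwd 30, .bwd 31, .bwd 29, .bwd 29, .mul 5, .fwd 65], 8, 0x185b65b2cb2d96cb), ([.bwd 30, .bwd 29, .bwd 29, .bwd 30, .mul 5, .fwd 146], 4, 0xb65b2d98642d965b), ([.bwd 29, .bwd 29, .mul 5, .fwd 65], 8, 0x2290b30c2d9659861),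 ([.bwd 29, .bwd 29, .bwd 30, .mul 5, .fwd 146], 4, 0x216d990b32190b2d9), ([.bwd 30, .bwd 30, .bwd 31, .bwd 29, .bwd 29, .mul 5, .fwd 65], 8, 0x1485965b65b659), ([.bwd 30, .bwd 29, .bwd 29, .bwd 29, .mul 5, .fwd 65], 8, 0xd96cc32190c2d96cc), ([.bwd 29, .bwd 30, .bwd 29, .bwd 29, .bwd 29, .mul 5, .fwd 65], 8, 0xc8616d990b321), ([.bwd 31, .bwd 30, .bwd 30, .mul 5, .fwd 146], 4, 0x90c2cb2db2cc)]

/-- Witnesses at one node. -/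
noncomputable def wit5 : List (List Ins × Nat × Nat) :=
  [([.mul 5, .fwd 43], 2, 4), ([.mul 5, .fwd 81], 10, 0), ([.bwd 41, .bwd 40, .bwd 49, .mul 5, .fwd 43], 2, 0x52190b6642db), ([.bwd 40, .bwd 49, .bwd 41, .mul 5, .fwd 81], 10, 0x1b5216cb6642cc30c), ([.bwd 42, .bwd 49, .bwd 42, .mul 5, .fwd 81], 10, 0x486430b65b66430c), ([.bwd 41, .bwd 41, .bwd 40, .bwd 42, .mul 5, .fwd 81], 10, 0xda6598642db2d9), ([.bwd 41, .bwd 42, .bwd 40, .bwd 41, .mul 5, .fwd 81], 10, 0x6cb6596cb30c859), ([.bwd 49, .bwd 40, .bwd 49, .mul 5, .fwd 43], 2, 0x330b659864), ([.bwd 41, .bwd 40, .bwd 42, .mul 5, .fwd 81], 10, 0x1b2db2db2db2d9), ([.bwd 40, .bwd 42, .bwd 49, .mul 5, .fwd 81], 10, 0x16d96d985b30c864), ([.bwd 49, .bwd 40, .bwd 41, .mul 5, .fwd 81], 10, 0x32cb66430c85b2cc859), ([.mul 5, .fwd 45], 2, 0x486165986190c861), ([.bwd 40, .bwd 41, .mul 5, .fwd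 81], 10, 0x42cb30c2d9), ([.bwd 40, .bwd 41, .bwd 42, .bwd 40, .mul 5, .fwd 81], 10, 0x6598642cc30c861), ([.bwd 41, .bwd 42, .mul 5, .fwd 81], 10, 0xd32cb), ([.bwd 41, .bwd 49, .mul 5, .fwd 43], 2, 0x242d986432185b2db), ([.bwd 41, .bwd 49, .bwd 41, .bwd 49, .mul 5, .fwd 43], 2, 0x32cb2d9659), ([.bwd 40, .mul 5, .fwd 81], 10, 0x243218616d965b), ([.bwd 41, .bwd 49, .bwd 41, .mul 5, .fwd 81], 10, 0x44d990c32185b2cb6cb), ([.bwd 41, .bwd 41, .bwd 40, .bwd 49, .mul 5, .fwd 43], 2, 0x332185b30b6cc2cb), ([.bwd 40, .bwd 42, .bwd 40, .bwd 41, .mul 5, .fwd 81], 10, 0x285b2cb65990b), ([.bwd 41, .bwd 49, .bwd 42, .mul 5, .fwd 81], 10, 0xd430c8596cb2d990b), ([.bwd 49, .bwd 41, .bwd 49, .mul 5, .fwd 43], 2, 0x2d96cb65b32190b), ([.bwd 42, .bwd 41, .bwd 40, .mul 5, .fwd 81], 10, 0x6596d965b30b), ([.bwd 49, .mul 5, .fwd 81], 10, 0x85b65b30b2cb659),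 ([.bwd 49, .bwd 42, .bwd 40, .mul 5, .fwd 81], 10, 0x11365b2cc30b2d9659), ([.bwd 42, .bwd 49, .mul 5, .fwd 81], 10, 0x10b66430c2db321664), ([.bwd 42, .bwd 40, .bwd 42, .mul 5, .fwd 81], 10, 0xda8596cb664), ([.bwd 40, .bwd 42, .mul 5, .fwd 81], 10, 0x36a190c2d990c321), ([.bwd 49, .bwd 40, .bwd 49, .bwd 42, .mul 5, .fwd 81], 10, 0x366185b2cb659), ([.bwd 42, .bwd 40, .bwd 41, .mul 5, .fwd 81], 10, 0x290b6616596cb6cc), ([.bwd 49, .bwd 49, .mul 5, .fwd 43], 2, 0x52165b664321861), ([.bwd 41, .bwd 40, .mul 5, .fwd 81], 10, 0x90c85b3218642cb), ([.bwd 49, .bwd 41, .bwd 40, .mul 5, .fwd 81], 10, 0x32cb6cb6616596cc), ([.bwd 41, .bwd 49, .bwd 40, .mul 5, .fwd 81], 10, 0xa190c), ([.bwd 49, .bwd 40, .mul 5, .fwd 81], 10, 0x2cc8596cb2db30c), ([.bwd 42, .bwd 49, .bwd 49, .mul 5, .fwd 43], 2, 0x1216cc2db2cc30b), ([.bwd 49, .bwd 41, .mul 5, .fwd 81],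 10, 0xcc8596cc2d9859), ([.bwd 49, .mul 5, .fwd 43], 2, 0x10c30c861659661), ([.bwd 40, .bwd 49, .mul 5, .fwd 43], 2, 0x6d985b30c8616cc861), ([.bwd 41, .bwd 42, .bwd 40, .mul 5, .fwd 81], 10, 0x30c3216596cb), ([.bwd 41, .mul 5, .fwd 81], 10, 0x6cb2cc86190c2d9), ([.bwd 41, .bwd 41, .mul 5, .fwd 81], 10, 0x185b65b2cb2d96cb), ([.bwd 49, .mul 5, .fwd 45], 2, 0x10c2d96cb66190b664), ([.bwd 42, .mul 5, .fwd 81], 10, 0x65965b2db321661), ([.bwd 40, .bwd 49, .bwd 42, .mul 5, .fwd 81], 10, 0x42cc85b2cb), ([.bwd 41, .bwd 41, .bwd 49, .mul 5, .fwd 43], 2, 0x616cb2d9661859659), ([.bwd 42, .bwd 40, .mul 5, .fwd 81], 10, 0x10b6642d966430b664), ([.bwd 40, .bwd 41, .bwd 42, .mul 5, .fwd 81], 10, 0xcb6cb32165b659), ([.bwd 49, .bwd 42, .mul 5, .fwd 81], 10, 0x350b2cb30c8616cc)]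

/-- Witnesses at one node. -/
noncomputable def wit6 : List (List Ins × Nat × Nat) :=
  [([.mul 5, .fwd 53], 3, 4), ([.mul 5, .fwd 106], 13, 0), ([.bwd 52, .bwd 52, .bwd 51, .bwd 52, .bwd 51, .mul 5, .fwd 55], 6, 0x1a6642cc85b661864), ([.bwd 51, .bwd 52, .bwd 51, .bwd 52, .bwd 51, .mul 5, .fwd 106], 13, 0x6616cb30c85b2cb), ([.bwd 52, .bwd 51, .bwd 52, .bwd 51, .mul 5, .fwd 109], 13, 0x6186430b6616d9), ([.bwd 51, .bwd 52, .bwd 51, .bwd 52, .mul 5, .fwd 106], 13, 0x36618596cb2d9859), ([.bwd 52, .bwd 52, .bwd 51, .bwd 52, .bwd 51, .bwd 52, .bwd 52, .mul 5, .fwd 106], 13, 0x48996d9864321), ([.bwd 51, .bwd 52, .mul 5, .fwd 63], 6, 0x86190b2d965b30b), ([.bwd 52, .bwd 52, .bwd 51, .bwd 52, .bwd 52, .mul 5, .fwd 106], 13, 0x18616d986165b661), ([.bwd 51, .bwd 52, .bwd 52, .bwd 51, .bwd 52, .bwd 51, .bwd 52, .bwd 52, .mul 5, .fwd 106], 13,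 0x91485b3218642cb), ([.bwd 51, .bwd 52, .bwd 52, .bwd 51, .bwd 52, .bwd 51, .bwd 52, .bwd 51, .mul 5, .fwd 106], 13, 0x1b30c2d9), ([.mul 5, .fwd 61], 7, 0x286185b2cb65990c), ([.bwd 52, .bwd 52, .bwd 51, .bwd 52, .bwd 51, .bwd 52, .bwd 51, .mul 5, .fwd 106], 13, 0x42cb30c2d9), ([.bwd 52, .bwd 52, .bwd 51, .bwd 52, .mul 5, .fwd 106], 13, 0x285b2cb65b661), ([.bwd 52, .mul 5, .fwd 106], 13, 0xd3659861659), ([.bwd 51, .mul 5, .fwd 55], 6, 0x50c30b6cc2d9864), ([.mul 5, .fwd 63], 6, 0xd332190b6cb30c), ([.bwd 52, .bwd 51, .bwd 52, .bwd 52, .bwd 51, .bwd 52, .mul 5, .fwd 106], 13, 0x48616d990c2d9), ([.bwd 52, .bwd 51, .bwd 52, .mul 5, .fwd 106], 13, 0xd332186430b65b), ([.mul 5, .fwd 55], 6, 0x1b65b2cc8596d96cb), ([.bwd 52, .bwd 51, .bwd 52, .bwd 51, .mul 5, .fwd 106], 13, 0x285b2cb65990b), ([.bwd 52, .bwd 51, .mul 5, .fwd 109], 13, 0x50c85990b2d9864321),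 ([.bwd 52, .mul 5, .fwd 63], 6, 0x26642cc30c859), ([.bwd 51, .mul 5, .fwd 106], 13, 0x6596d965b30b), ([.bwd 52, .bwd 51, .bwd 52, .bwd 51, .bwd 52, .bwd 52, .mul 5, .fwd 106], 13, 0xc30b65990b2d9659), ([.mul 5, .fwd 109], 13, 0x185b2d990b30c321), ([.bwd 52, .bwd 51, .mul 5, .fwd 106], 13, 0x6a16d986165b659), ([.bwd 52, .bwd 51, .bwd 52, .bwd 52, .bwd 51, .bwd 52, .bwd 51, .bwd 52, .bwd 52, .mul 5, .fwd 106], 13, 0xda8596cb664), ([.bwd 51, .bwd 52, .mul 5, .fwd 106], 13, 0x36a190c2d990c321), ([.bwd 51, .bwd 52, .bwd 51, .mul 5, .fwd 109], 13, 0x8a190c2cb2d96cc), ([.bwd 51, .bwd 52, .bwd 52, .bwd 51, .bwd 52, .mul 5, .fwd 106], 13, 0x290b6616596cb6cc), ([.bwd 52, .bwd 52, .mul 5, .fwd 63], 6, 0xa4321861659), ([.bwd 52, .bwd 51, .bwd 52, .bwd 51, .bwd 52, .bwd 51, .mul 5, .fwd 106], 13, 0xcc2db32165b659), ([.bwd 52, .bwd 52, .bwd 51,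 .bwd 52, .bwd 52, .bwd 51, .bwd 52, .mul 5, .fwd 106], 13, 0x6a18616d990b321), ([.bwd 51, .bwd 52, .bwd 51, .bwd 52, .bwd 52, .bwd 51, .bwd 52, .bwd 51, .bwd 52, .bwd 51, .mul 5, .fwd 106], 13, 0x9966430b2cc30b), ([.bwd 51, .bwd 52, .bwd 51, .mul 5, .fwd 106], 13, 0x26cc85b2cb2db2cb), ([.bwd 51, .bwd 52, .bwd 52, .mul 5, .fwd 63], 6, 0x32db2db30c2d9), ([.bwd 52, .bwd 51, .bwd 52, .bwd 52, .mul 5, .fwd 106], 13, 0xa42d990c2d9659), ([.bwd 51, .bwd 52, .bwd 51, .mul 5, .fwd 55], 6, 0x90b6596618596cc), ([.bwd 52, .bwd 51, .bwd 52, .bwd 51, .mul 5, .fwd 55], 6, 0x1142cb32185b30b2d9), ([.bwd 51, .bwd 52, .bwd 51, .bwd 52, .bwd 52, .mul 5, .fwd 106], 13, 0x30c3216596cb), ([.bwd 51, .bwd 52, .bwd 51, .bwd 52, .bwd 52, .bwd 51, .bwd 52, .mul 5, .fwd 106], 13, 0x6cb2cc86190c2d9), ([.bwd 52, .bwd 52, .mul 5, .fwd 106], 13, 0x185b30c2cb659),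 ([.mul 5, .fwd 54], 6, 0xb66190b2cb6cb), ([.bwd 52, .bwd 51, .bwd 52, .bwd 52, .bwd 51, .bwd 52, .bwd 51, .bwd 52, .bwd 51, .mul 5, .fwd 106], 13, 0x65965b2db321661), ([.bwd 52, .bwd 52, .bwd 51, .bwd 52, .bwd 51, .mul 5, .fwd 109], 13, 0x91365b2cb30c2cb), ([.bwd 52, .bwd 51, .mul 5, .fwd 55], 6, 0x4d96642cc8642d9), ([.bwd 52, .bwd 52, .bwd 51, .mul 5, .fwd 106], 13, 0x10b6642d966430b664), ([.bwd 51, .bwd 52, .bwd 52, .mul 5, .fwd 106], 13, 0xcb6cb32165b659), ([.bwd 51, .mul 5, .fwd 109], 13, 0x9990b65990b30c30b)]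

/-- Witnesses at one node. -/
noncomputable def wit7 : List (List Ins × Nat × Nat) :=
  [([.mul 5, .fwd 59], 3, 276), ([.bwd 57, .bwd 57, .bwd 58, .bwd 57, .bwd 57, .bwd 57, .bwd 58, .mul 5, .fwd 119], 13, 0x216cc85b2cb2d9), ([.bwd 57, .bwd 58, .bwd 57, .bwd 58, .bwd 57, .bwd 57, .mul 5, .fwd 119], 13, 0x32cb6cb6cc), ([.bwd 57, .bwd 58, .bwd 57, .bwd 57, .mul 5, .fwd 119], 13, 0x12190b66430c2d9), ([.mul 5, .fwd 64], 7, 0xb66165b2d9859), ([.bwd 57, .bwd 57, .bwd 58, .bwd 57, .bwd 58, .bwd 57, .bwd 57, .bwd 57, .mul 5, .fwd 119], 13, 0x90c32190c30c859), ([.bwd 57, .bwd 58, .bwd 57, .mul 5, .fwd 60], 7, 0x6a43216d9661859), ([.bwd 57, .bwd 57, .bwd 57, .bwd 58, .bwd 57, .bwd 58, .bwd 57, .bwd 57, .bwd 57, .mul 5, .fwd 119], 13, 0x4321859), ([.bwd 57, .bwd 58, .bwd 57, .bwd 58, .bwd 57, .bwd 57, .bwd 57, .mul 5, .fwd 119], 13, 0x85b30b2cb6cb2cb),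 ([.bwd 57, .bwd 57, .bwd 58, .bwd 57, .mul 5, .fwd 60], 7, 0xa18616cb661659), ([.bwd 58, .bwd 57, .bwd 58, .bwd 57, .bwd 57, .bwd 57, .bwd 58, .mul 5, .fwd 119], 13, 0x9b30c2cb), ([.bwd 57, .bwd 57, .bwd 58, .bwd 57, .bwd 58, .bwd 57, .mul 5, .fwd 119], 13, 0xb66432190b321859), ([.bwd 57, .bwd 58, .bwd 57, .bwd 57, .bwd 57, .bwd 58, .mul 5, .fwd 119], 13, 0x142cb30c2cb), ([.mul 5, .fwd 119], 13, 0x1486430c861), ([.bwd 57, .bwd 58, .bwd 57, .bwd 57, .bwd 57, .mul 5, .fwd 119], 13, 0x50b), ([.bwd 58, .bwd 57, .bwd 57, .bwd 58, .mul 5, .fwd 119], 13, 0x16cb2db2d985b30b), ([.bwd 57, .bwd 58, .bwd 57, .bwd 57, .bwd 58, .mul 5, .fwd 119], 13, 0x165b2d990c), ([.bwd 57, .bwd 58, .bwd 57, .bwd 58, .bwd 57, .mul 5, .fwd 119], 13, 0x44db30b66430b65b), ([.bwd 58, .bwd 57, .bwd 57, .bwd 58, .bwd 57, .bwd 58, .bwd 57, .bwd 57, .bwd 57, .mul 5,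 .fwd 119], 13, 0x1a65b32185b65b), ([.bwd 57, .bwd 57, .bwd 58, .mul 5, .fwd 119], 13, 0xa432190b65b30b), ([.bwd 58, .bwd 57, .bwd 58, .bwd 57, .bwd 57, .mul 5, .fwd 119], 13, 0x36cc2d96618642cb), ([.bwd 57, .mul 5, .fwd 62], 6, 0x1b6998616cb65b321), ([.bwd 57, .bwd 58, .bwd 57, .bwd 58, .bwd 57, .bwd 57, .bwd 57, .bwd 58, .mul 5, .fwd 119], 13, 0x10c85b65b30c85b), ([.bwd 58, .bwd 57, .bwd 57, .bwd 58, .bwd 57, .bwd 57, .bwd 57, .bwd 58, .mul 5, .fwd 119], 13, 0x148596d985b2cb), ([.bwd 57, .bwd 57, .bwd 57, .mul 5, .fwd 119], 13, 0x50c86432190b65b), ([.bwd 58, .bwd 57, .bwd 57, .bwd 57, .mul 5, .fwd 62], 6, 0x26596cb32166430b), ([.bwd 58, .bwd 57, .bwd 57, .mul 5, .fwd 119], 13, 0x6d96d98642cb), ([.bwd 57, .bwd 58, .mul 5, .fwd 119], 13, 0x450c2cb65b2d96d9), ([.bwd 58, .bwd 57, .bwd 58, .bwd 57, .bwd 57, .bwd 57, .mul 5, .fwd 119],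 13, 0x365b2cb659861859), ([.bwd 57, .bwd 57, .mul 5, .fwd 62], 6, 0x1b4cb6cb6616cb), ([.bwd 58, .mul 5, .fwd 119], 13, 0x28643218642d9), ([.bwd 57, .mul 5, .fwd 119], 13, 0xb6642db2cc), ([.bwd 57, .bwd 57, .bwd 57, .bwd 58, .bwd 57, .bwd 58, .bwd 57, .mul 5, .fwd 119], 13, 0x44d965b2db), ([.bwd 58, .bwd 57, .bwd 57, .bwd 57, .mul 5, .fwd 119], 13, 0x34cc3218642d9), ([.bwd 58, .bwd 57, .bwd 58, .bwd 57, .mul 5, .fwd 119], 13, 0x165b30b661), ([.bwd 57, .bwd 57, .mul 5, .fwd 119], 13, 0xd966430c2cb2d96cb), ([.bwd 58, .bwd 57, .mul 5, .fwd 119], 13, 0x2185b), ([.bwd 57, .bwd 57, .bwd 57, .bwd 58, .mul 5, .fwd 119], 13, 0x26cb66190c859), ([.bwd 57, .bwd 57, .bwd 57, .bwd 58, .bwd 57, .bwd 58, .bwd 57, .bwd 57, .bwd 57, .bwd 58, .mul 5, .fwd 119], 13, 0x1a6cc2d9861659), ([.bwd 57, .bwd 57, .bwd 57, .bwd 58, .bwd 57, .mul 5, .fwd 60], 7,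 0x6d332165b659664), ([.bwd 58, .bwd 57, .bwd 57, .bwd 57, .bwd 58, .mul 5, .fwd 119], 13, 0x6a430b2cb6cb2cb), ([.bwd 58, .bwd 57, .bwd 58, .bwd 57, .bwd 58, .bwd 57, .mul 5, .fwd 119], 13, 0x132d96cb65b2cb2d9), ([.bwd 57, .mul 5, .fwd 60], 7, 0x36cc30b2d96cb), ([.mul 5, .fwd 62], 6, 0x216cc85b2cb2d96d9), ([.bwd 57, .bwd 58, .bwd 57, .mul 5, .fwd 119], 13, 0x18643216d9659), ([.bwd 57, .bwd 58, .bwd 57, .bwd 57, .bwd 57, .mul 5, .fwd 62], 6, 0x430c85b321864321), ([.bwd 57, .bwd 57, .bwd 58, .bwd 57, .bwd 58, .bwd 57, .bwd 57, .bwd 57, .bwd 58, .mul 5, .fwd 119], 13, 0x44cc8643216cc), ([.mul 5, .fwd 60], 7, 0x36d4321864), ([.bwd 58, .bwd 57, .mul 5, .fwd 60], 7, 0x36cc3216d96cb), ([.bwd 57, .bwd 57, .bwd 57, .mul 5, .fwd 62], 6, 0x50b6cc2cb2d96cc)]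

/-- Witnesses at one node. -/
noncomputable def wit8 : List (List Ins × Nat × Nat) :=
  [([.mul 5, .fwd 69], 4, 4), ([.bwd 66, .bwd 68, .bwd 149, .mul 5, .fwd 147], 8, 0x290b32190b30c2d9), ([.mul 5, .fwd 71], 8, 0x1b2cb30c30b65990b), ([.bwd 68, .bwd 66, .mul 5, .fwd 147], 8, 0x32d965b30b2d9859), ([.bwd 149, .bwd 68, .bwd 68, .mul 5, .fwd 71], 8, 0xa190b65b3218596cb), ([.bwd 149, .bwd 149, .bwd 68, .mul 5, .fwd 147], 8, 0x485b3216cb321), ([.bwd 66, .bwd 68, .bwd 66, .bwd 68, .mul 5, .fwd 147], 8, 0x165b659861859664), ([.mul 5, .fwd 145], 8, 0x1142d96cb2db30c), ([.bwd 66, .bwd 149, .bwd 68, .mul 5, .fwd 147], 8, 0x6d98596cc859861), ([.bwd 68, .bwd 66, .bwd 68, .mul 5, .fwd 147], 8, 0x1990c30b2cc861859), ([.mul 5, .fwd 147], 8, 0x48642d9659), ([.bwd 149, .mul 5, .fwd 69], 4, 0xcc8596cb32185b2db), ([.bwd 66, .mul 5, .fwd 147], 8, 0x2165b6642d9659),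 ([.bwd 149, .bwd 68, .bwd 68, .mul 5, .fwd 147], 8, 0xcb65b3216cb659664), ([.bwd 66, .bwd 149, .bwd 66, .bwd 68, .mul 5, .fwd 147], 8, 0x26cc30b2d9661859), ([.bwd 149, .bwd 66, .bwd 149, .mul 5, .fwd 71], 8, 0x1216cb30c85b2cb659), ([.bwd 149, .mul 5, .fwd 145], 8, 0xc30b2cb65990c), ([.bwd 66, .bwd 68, .bwd 68, .mul 5, .fwd 147], 8, 0xd32db32190b30c2cb), ([.bwd 68, .bwd 149, .bwd 66, .bwd 68, .mul 5, .fwd 147], 8, 0x216cb2d9861859), ([.bwd 68, .bwd 66, .bwd 68, .mul 5, .fwd 71], 8, 0x5b2cc30b2d98642d9), ([.bwd 66, .bwd 68, .bwd 66, .mul 5, .fwd 147], 8, 0x6190c2d985966430b), ([.bwd 149, .mul 5, .fwd 71], 8, 0x10c30b6cc2d9864), ([.bwd 66, .mul 5, .fwd 145], 8, 0x10b2cb6cc8616cc), ([.bwd 68, .bwd 149, .mul 5, .fwd 147], 8, 0x185b32190b30c2cb), ([.bwd 149, .bwd 66, .bwd 149, .bwd 68, .mul 5, .fwd 147], 8, 0xa185965b30c859), ([.bwd 68,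 .bwd 149, .mul 5, .fwd 71], 8, 0x65990c8642d9661), ([.bwd 68, .bwd 68, .bwd 149, .mul 5, .fwd 147], 8, 0xc85b2cb2db2cb659), ([.bwd 149, .bwd 66, .bwd 149, .bwd 66, .mul 5, .fwd 147], 8, 0x485990b6cc2d9859), ([.bwd 149, .bwd 66, .bwd 68, .mul 5, .fwd 147], 8, 0x5966190c2d96cc2db), ([.bwd 66, .bwd 149, .mul 5, .fwd 71], 8, 0x69990c85990b6cc), ([.bwd 66, .bwd 149, .bwd 68, .bwd 68, .mul 5, .fwd 147], 8, 0xd985b30c864), ([.bwd 68, .bwd 66, .mul 5, .fwd 145], 8, 0x36cc86430b661), ([.bwd 149, .bwd 68, .mul 5, .fwd 147], 8, 0x4cb65990c2d96cb), ([.bwd 149, .bwd 66, .bwd 68, .bwd 66, .mul 5, .fwd 147], 8, 0x6186430c859659), ([.bwd 66, .bwd 68, .mul 5, .fwd 147], 8, 0xc3216cc86185b664), ([.bwd 149, .bwd 149, .mul 5, .fwd 147], 8, 0x2286190b2d965b30c), ([.bwd 149, .bwd 149, .mul 5, .fwd 145], 8, 0x6da85b2cc85b), ([.bwd 68, .bwd 149, .bwd 66,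 .mul 5, .fwd 147], 8, 0xb6616598642cb65b), ([.bwd 68, .mul 5, .fwd 71], 8, 0x90b6cc2d9659864), ([.bwd 68, .bwd 68, .mul 5, .fwd 71], 8, 0x265966185b2d96cc), ([.bwd 66, .bwd 68, .bwd 149, .bwd 66, .mul 5, .fwd 147], 8, 0x26cb2cb30c2d9), ([.bwd 68, .bwd 68, .mul 5, .fwd 147], 8, 0x11432185b66165b), ([.bwd 66, .bwd 149, .bwd 66, .mul 5, .fwd 147], 8, 0x1a65b65b2cb661659), ([.mul 5, .fwd 70], 8, 0x1148618642d965b2db), ([.bwd 68, .mul 5, .fwd 147], 8, 0x596cc30b2d98642db), ([.bwd 68, .bwd 149, .bwd 68, .bwd 68, .mul 5, .fwd 71], 8, 0x2430b66165b321861), ([.bwd 66, .bwd 68, .mul 5, .fwd 71], 8, 0xdb50c321659864), ([.bwd 149, .mul 5, .fwd 147], 8, 0x6a185965b2cc859), ([.bwd 149, .bwd 66, .mul 5, .fwd 147], 8, 0x366430c85b661), ([.bwd 149, .bwd 68, .mul 5, .fwd 71], 8, 0x190c32185b2cc)]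

/-- Witnesses at one node. -/
noncomputable def wit9 : List (List Ins × Nat × Nat) :=
  [([.mul 5, .fwd 97], 11, 0x34cb30c2db2db2d9), ([.bwd 74, .bwd 73, .mul 5, .fwd 139], 14, 0x6642cb6596cc861861), ([.mul 5, .fwd 185], 16, 0), ([.bwd 75, .bwd 77, .bwd 74, .mul 5, .fwd 185], 16, 0x2cb2d96642d9), ([.bwd 74, .bwd 77, .bwd 73, .mul 5, .fwd 185], 16, 0x2cb65b6642cc861), ([.bwd 77, .bwd 75, .mul 5, .fwd 185], 16, 0x85b2d96642cc861), ([.bwd 77, .bwd 74, .mul 5, .fwd 185], 16, 0x2430c32190c321), ([.mul 5, .fwd 78], 9, 0x8a4), ([.bwd 73, .bwd 74, .mul 5, .fwd 185], 16, 0x44cb30c2d9), ([.bwd 75, .bwd 77, .bwd 75, .mul 5, .fwd 185], 16, 0x369b30b6cb321), ([.bwd 74, .mul 5, .fwd 139], 14, 0x36a185b661859664), ([.bwd 73, .bwd 77, .mul 5, .fwd 97], 11, 0x85b6616cc321861), ([.bwd 74, .bwd 73, .bwd 75, .mul 5, .fwd 185], 16, 0x1b2db2db2db2d9),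 ([.bwd 73, .mul 5, .fwd 185], 16, 0x245218616d965b), ([.bwd 74, .bwd 74, .bwd 73, .mul 5, .fwd 139], 14, 0x44cb2d986430b659), ([.bwd 75, .bwd 74, .bwd 74, .mul 5, .fwd 185], 16, 0x1b30c2d9), ([.bwd 77, .mul 5, .fwd 97], 11, 0x861861), ([.bwd 73, .bwd 75, .bwd 77, .mul 5, .fwd 185], 16, 0x42cc86190b659861), ([.bwd 74, .bwd 74, .bwd 73, .mul 5, .fwd 185], 16, 0x1430b65990b2d9659), ([.bwd 74, .bwd 75, .mul 5, .fwd 185], 16, 0xd32cb), ([.bwd 74, .bwd 77, .mul 5, .fwd 185], 16, 0x1226598642cb), ([.bwd 74, .bwd 77, .bwd 73, .bwd 74, .mul 5, .fwd 185], 16, 0xb2cc30c85b321), ([.bwd 74, .bwd 77, .mul 5, .fwd 97], 11, 0x6a16cb65b3216cc), ([.bwd 75, .bwd 73, .bwd 75, .mul 5, .fwd 185], 16, 0x90b6cb6cb2d9), ([.bwd 77, .bwd 74, .bwd 75, .mul 5, .fwd 185], 16, 0x8a165986190b), ([.bwd 77, .bwd 75, .bwd 74, .bwd 73, .mul 5, .fwd 185], 16, 0xd330c85990b6cb),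 ([.bwd 73, .bwd 75, .bwd 73, .bwd 74, .mul 5, .fwd 185], 16, 0x285b2cb65990b), ([.bwd 75, .bwd 74, .bwd 73, .mul 5, .fwd 185], 16, 9), ([.bwd 74, .bwd 73, .mul 5, .fwd 185], 16, 0x91485b3218642cb), ([.bwd 77, .bwd 73, .mul 5, .fwd 185], 16, 0x4cb30c861659), ([.bwd 73, .bwd 74, .bwd 74, .mul 5, .fwd 185], 16, 0x5966430b2cc30b), ([.bwd 73, .bwd 74, .bwd 77, .mul 5, .fwd 97], 11, 0x36996cb65965b), ([.bwd 73, .bwd 75, .mul 5, .fwd 185], 16, 0x36a190c2d990c321), ([.bwd 73, .bwd 74, .bwd 73, .mul 5, .fwd 185], 16, 0xd96cb3218616596cb), ([.bwd 75, .bwd 73, .bwd 74, .mul 5, .fwd 185], 16, 0x290b6616596cb6cc), ([.bwd 77, .mul 5, .fwd 185], 16, 0x91365b2d98596cc), ([.bwd 77, .bwd 73, .bwd 77, .mul 5, .fwd 97], 11, 0x244d96cb2cc30b), ([.bwd 75, .bwd 77, .mul 5, .fwd 185], 16, 0x1a85b3218642cc), ([.bwd 74, .mul 5, .fwd 185], 16, 0x6d32cc86190c2d9),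 ([.bwd 74, .bwd 74, .mul 5, .fwd 185], 16, 0x285b65b2cb2d96cb), ([.bwd 74, .bwd 77, .bwd 74, .mul 5, .fwd 185], 16, 0x34cb66430c85b30b), ([.mul 5, .fwd 139], 14, 0x4cc30c2db321664), ([.bwd 73, .mul 5, .fwd 139], 14, 0xd96cc85b2cb6cb), ([.mul 5, .fwd 159], 9, 0x9990b2d9861859664), ([.bwd 74, .bwd 74, .mul 5, .fwd 139], 14, 0x1985b6642cb6cb), ([.bwd 74, .bwd 74, .bwd 77, .bwd 73, .mul 5, .fwd 185], 16, 0x350b66430c85b2cb), ([.bwd 75, .mul 5, .fwd 185], 16, 0x65965b2db321661), ([.bwd 73, .bwd 74, .bwd 75, .mul 5, .fwd 185], 16, 0x430c85b2cb661), ([.bwd 75, .bwd 73, .mul 5, .fwd 185], 16, 0xa432186430b2cb), ([.bwd 77, .bwd 73, .bwd 74, .mul 5, .fwd 185], 16, 0x6cc85990c)]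

/-- Witnesses at one node. -/
noncomputable def wit10 : List (List Ins × Nat × Nat) :=
  [([.mul 5, .fwd 85], 5, 4), ([.bwd 84, .bwd 83, .bwd 82, .bwd 92, .bwd 92, .mul 5, .fwd 85], 5, 0x6cb65966190b2cb), ([.bwd 83, .bwd 82, .bwd 92, .bwd 92, .mul 5, .fwd 85], 5, 0xa190b2d96642db), ([.bwd 92, .bwd 84, .bwd 92, .bwd 82, .bwd 92, .mul 5, .fwd 85], 5, 0x50b6cc2d9861), ([.bwd 92, .bwd 92, .bwd 92, .bwd 84, .bwd 92, .mul 5, .fwd 85], 5, 0x332166185b661861), ([.bwd 83, .bwd 84, .bwd 92, .bwd 92, .bwd 92, .mul 5, .fwd 85], 5, 0x369966430b6cb), ([.bwd 82, .bwd 92, .bwd 92, .bwd 92, .mul 5, .fwd 85], 5, 0x90b6cc2cb2d990c2cb), ([.bwd 92, .bwd 92, .bwd 82, .bwd 92, .mul 5, .fwd 85], 5, 0x50c2db2cb659864), ([.bwd 92, .bwd 84, .bwd 92, .mul 5, .fwd 85], 5, 0x1b2cb32186430b), ([.bwd 82, .bwd 84, .bwd 92, .bwd 92, .bwd 92, .mul 5, .fwd 85], 5,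 0x1132cb66190c2d9), ([.bwd 92, .bwd 84, .bwd 92, .bwd 92, .bwd 92, .mul 5, .fwd 85], 5, 0x89965b3216cb), ([.bwd 83, .bwd 92, .bwd 92, .bwd 82, .bwd 92, .mul 5, .fwd 85], 5, 0x32cc85965b2d9659), ([.bwd 84, .bwd 92, .bwd 92, .bwd 84, .bwd 92, .mul 5, .fwd 85], 5, 0x86430c), ([.bwd 84, .bwd 92, .bwd 82, .bwd 92, .bwd 84, .bwd 92, .mul 5, .fwd 85], 5, 0x1966185b65b65b), ([.bwd 92, .bwd 92, .mul 5, .fwd 85], 5, 0x165990b2d990b), ([.bwd 92, .bwd 82, .bwd 92, .bwd 84, .bwd 92, .mul 5, .fwd 85], 5, 0x132cb6cb2d990b664), ([.bwd 84, .bwd 92, .bwd 82, .bwd 92, .mul 5, .fwd 85], 5, 0x216d985b32185b321), ([.bwd 83, .bwd 92, .bwd 92, .bwd 92, .mul 5, .fwd 85], 5, 0x1b4cb6cb2cb659), ([.bwd 83, .bwd 92, .bwd 92, .bwd 84, .bwd 92, .mul 5, .fwd 85], 5, 0xb65b2cc85b2cb2db), ([.bwd 82, .bwd 92, .bwd 83, .bwd 82, .bwd 92, .mul 5, .fwd 85], 5, 0x6cc8596cc30c),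 ([.bwd 82, .bwd 92, .bwd 84, .bwd 92, .mul 5, .fwd 85], 5, 0x148642cb6cc2cb659), ([.bwd 83, .bwd 92, .mul 5, .fwd 85], 5, 0x1b3216cb2cb664), ([.bwd 84, .bwd 92, .bwd 92, .mul 5, .fwd 85], 5, 0x165990c2d985b2cc), ([.bwd 83, .bwd 82, .bwd 92, .bwd 82, .bwd 92, .mul 5, .fwd 85], 5, 0x6cc8596cb2cc), ([.bwd 92, .bwd 82, .bwd 92, .mul 5, .fwd 85], 5, 0x5965b2cc8596d9), ([.bwd 82, .bwd 92, .mul 5, .fwd 85], 5, 0x10c8642db2cc), ([.bwd 83, .bwd 92, .bwd 84, .bwd 92, .bwd 92, .mul 5, .fwd 85], 5, 0x616596cc321861), ([.bwd 92, .bwd 82, .bwd 92, .bwd 92, .mul 5, .fwd 85], 5, 0x6596d9864), ([.bwd 83, .bwd 92, .bwd 84, .bwd 92, .mul 5, .fwd 85], 5, 0x196cb6cc8596d9), ([.bwd 92, .mul 5, .fwd 85], 5, 0x6d430b6cb659661), ([.bwd 82, .bwd 92, .bwd 82, .bwd 92, .mul 5, .fwd 85], 5, 0x9b3216cb2d9), ([.bwd 82, .bwd 84, .bwd 92, .bwd 92, .mul 5, .fwd 85],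 5, 0x196cb65b30c8596cb), ([.bwd 82, .bwd 92, .bwd 84, .bwd 92, .bwd 92, .mul 5, .fwd 85], 5, 0x2285b65b65b659), ([.bwd 83, .bwd 92, .bwd 82, .bwd 92, .mul 5, .fwd 85], 5, 0x165b2d990b664), ([.bwd 84, .bwd 92, .bwd 92, .bwd 82, .bwd 92, .mul 5, .fwd 85], 5, 0x42cc86190b659864), ([.bwd 92, .bwd 92, .bwd 84, .bwd 92, .mul 5, .fwd 85], 5, 0x69b2d9661859659), ([.bwd 84, .bwd 92, .bwd 84, .bwd 92, .mul 5, .fwd 85], 5, 0x1a65b65b2cc30b), ([.bwd 83, .bwd 82, .bwd 92, .bwd 84, .bwd 92, .mul 5, .fwd 85], 5, 0x86190c2d990c), ([.bwd 92, .bwd 83, .bwd 82, .bwd 92, .mul 5, .fwd 85], 5, 0x89b32186430b65b661), ([.bwd 92, .bwd 92, .bwd 84, .bwd 92, .bwd 82, .bwd 92, .mul 5, .fwd 85], 5, 0x216cc3216cb2cc), ([.bwd 92, .bwd 84, .bwd 92, .bwd 92, .mul 5, .fwd 85], 5, 0xc3216618596d9), ([.bwd 82, .bwd 92, .bwd 92, .mul 5, .fwd 85], 5, 0x432165b3216cb),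 ([.bwd 92, .bwd 84, .bwd 92, .bwd 84, .bwd 92, .mul 5, .fwd 85], 5, 0x32db2cc30b), ([.bwd 84, .bwd 92, .mul 5, .fwd 85], 5, 0x42db2d96cb661), ([.bwd 83, .bwd 92, .bwd 83, .bwd 82, .bwd 92, .mul 5, .fwd 85], 5, 0x1142db321), ([.bwd 83, .bwd 82, .bwd 92, .mul 5, .fwd 85], 5, 0x5990c2cb6596cb), ([.bwd 83, .bwd 92, .bwd 92, .mul 5, .fwd 85], 5, 0x11330c30b2cc), ([.bwd 92, .bwd 92, .bwd 92, .mul 5, .fwd 85], 5, 0x26cb65990c2d9), ([.bwd 84, .bwd 92, .bwd 92, .bwd 92, .mul 5, .fwd 85], 5, 0x42d96cb32165b321), ([.bwd 83, .bwd 92, .bwd 92, .bwd 92, .bwd 84, .bwd 92, .mul 5, .fwd 85], 5, 0x1990c3216cb2cc)]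

/-- Witnesses at one node. -/
noncomputable def wit11 : List (List Ins × Nat × Nat) :=
  [([.mul 5, .fwd 96], 9, 0x369b65b661859659), ([.mul 5, .fwd 211], 18, 0), ([.bwd 95, .bwd 167, .bwd 95, .bwd 94, .mul 5, .fwd 194], 16, 0x2290c2d990c2d990c), ([.bwd 95, .bwd 167, .bwd 94, .bwd 95, .mul 5, .fwd 211], 18, 0x1142db2cb659861), ([.bwd 167, .bwd 167, .mul 5, .fwd 194], 16, 0x32185b30b6cc2cb), ([.bwd 167, .bwd 95, .bwd 94, .mul 5, .fwd 211], 18, 0x12290c864321), ([.bwd 94, .bwd 95, .bwd 167, .bwd 94, .mul 5, .fwd 211], 18, 0x4cb2db30c8616cc), ([.bwd 94, .bwd 95, .mul 5, .fwd 166], 11, 0x30c85965b321), ([.bwd 94, .bwd 167, .bwd 95, .mul 5, .fwd 211], 18, 0x89b65b66185b), ([.bwd 95, .bwd 167, .bwd 94, .mul 5, .fwd 211], 18, 0xc8642cb65990c), ([.bwd 167, .bwd 94, .bwd 95, .bwd 94, .mul 5, .fwd 211], 18, 0x6d96d96d96d96d96d9), ([.bwd 167,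 .mul 5, .fwd 96], 9, 0x42d98642d965b321861), ([.bwd 167, .bwd 94, .bwd 95, .mul 5, .fwd 211], 18, 0x6596cc30c2db30c), ([.bwd 95, .bwd 95, .bwd 94, .bwd 95, .mul 5, .fwd 211], 18, 0x285b2cb65b661), ([.bwd 95, .mul 5, .fwd 211], 18, 0xd3659861659), ([.bwd 94, .bwd 167, .bwd 94, .mul 5, .fwd 194], 16, 0x4cb66185965b65b), ([.mul 5, .fwd 166], 11, 0x32d96642cb65b30b), ([.bwd 167, .bwd 167, .bwd 94, .bwd 95, .mul 5, .fwd 211], 18, 0x48616d990c2d9), ([.bwd 95, .bwd 94, .bwd 95, .mul 5, .fwd 211], 18, 0xd332186430b65b), ([.bwd 167, .bwd 94, .mul 5, .fwd 194], 16, 0x265b3218642cc30c), ([.bwd 167, .bwd 167, .bwd 167, .mul 5, .fwd 211], 18, 0x34cc8616598642cb), ([.bwd 95, .bwd 94, .mul 5, .fwd 194], 16, 0x10c2d96cb2d9661), ([.bwd 95, .mul 5, .fwd 166], 11, 0x1a6cb3216d9661), ([.bwd 94, .mul 5, .fwd 211], 18, 0x6596d965b30b), ([.bwd 167, .bwd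 95, .bwd 167, .bwd 94, .mul 5, .fwd 211], 18, 0x34d98642d990c30b), ([.mul 5, .fwd 194], 16, 0x69990c85990b6cc), ([.bwd 95, .bwd 94, .mul 5, .fwd 211], 18, 0x6a16d986165b659), ([.bwd 167, .bwd 94, .bwd 167, .bwd 94, .mul 5, .fwd 211], 18, 0xda8596cb664), ([.bwd 94, .bwd 95, .mul 5, .fwd 211], 18, 0x36a190c2d990c321), ([.bwd 94, .bwd 95, .bwd 94, .mul 5, .fwd 194], 16, 0x1986430b65b664), ([.bwd 167, .bwd 95, .bwd 95, .mul 5, .fwd 211], 18, 0x366432186165b659), ([.bwd 167, .mul 5, .fwd 166], 11, 0x36cb6cb30c2cb), ([.bwd 167, .bwd 95, .mul 5, .fwd 211], 18, 0x6a430b65b66430b), ([.bwd 94, .bwd 167, .bwd 95, .bwd 167, .bwd 94, .mul 5, .fwd 211], 18, 0x1b4d966432185b659), ([.bwd 167, .bwd 94, .mul 5, .fwd 211], 18, 0x2452186430b2cb), ([.bwd 94, .bwd 95, .bwd 94, .mul 5, .fwd 211], 18, 0x26cc85b2cb2db2cb), ([.bwd 94, .bwd 167, .mul 5, .fwd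 166], 11, 0x36cb30c30b661), ([.bwd 167, .bwd 167, .mul 5, .fwd 211], 18, 0xa42d990c2d9659), ([.bwd 94, .bwd 167, .mul 5, .fwd 194], 16, 0xdb30c8616596cb2db), ([.bwd 167, .bwd 95, .bwd 94, .mul 5, .fwd 194], 16, 0x190c2d990c30b2db), ([.bwd 94, .bwd 167, .bwd 167, .mul 5, .fwd 211], 18, 0x30c3216596cb), ([.bwd 95, .bwd 94, .bwd 167, .bwd 94, .mul 5, .fwd 211], 18, 0xcb6cc30c2cb), ([.bwd 95, .bwd 95, .mul 5, .fwd 211], 18, 0x185b30c2cb659), ([.mul 5, .fwd 169], 11, 0x8a16cb6cc2cb321), ([.bwd 94, .bwd 167, .bwd 94, .mul 5, .fwd 211], 18, 0x226642cb6cb6616cb), ([.bwd 95, .bwd 167, .bwd 167, .mul 5, .fwd 194], 16, 0x1b4d96cc32185b30c), ([.bwd 167, .mul 5, .fwd 194], 16, 0x2d990c30c85b2cb659), ([.bwd 167, .mul 5, .fwd 211], 18, 0x2286190b66430b664), ([.bwd 94, .bwd 95, .bwd 95, .mul 5, .fwd 211], 18, 0xcb6cb32165b659), ([.bwd 94, .mul 5,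 .fwd 194], 16, 0x196cc8642d9859664)]

/-- Witnesses at one node. -/
noncomputable def wit12 : List (List Ins × Nat × Nat) :=
  [([.mul 5, .fwd 102], 12, 9), ([.mul 5, .fwd 239], 19, 0), ([.mul 5, .fwd 245], 20, 0), ([.bwd 100, .bwd 101, .bwd 100, .bwd 101, .bwd 100, .mul 5, .fwd 239], 19, 0x6616cb30c85b2cb), ([.mul 5, .fwd 289], 22, 0), ([.bwd 100, .bwd 101, .bwd 100, .bwd 101, .mul 5, .fwd 239], 19, 0x36618596cb2d9859), ([.bwd 101, .bwd 101, .bwd 100, .bwd 101, .bwd 100, .bwd 101, .bwd 101, .mul 5, .fwd 239], 19, 0x48996d9864321), ([.mul 5, .fwd 272], 21, 0x2290c), ([.bwd 101, .bwd 101, .bwd 100, .bwd 101, .bwd 101, .mul 5, .fwd 239], 19, 0x18616d986165b661), ([.bwd 100, .bwd 101, .bwd 101, .bwd 100, .bwd 101, .bwd 100, .bwd 101, .bwd 101, .mul 5, .fwd 239], 19, 0x91485b3218642cb), ([.bwd 100, .bwd 101, .bwd 101, .bwd 100, .bwd 101,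 .bwd 100, .bwd 101, .bwd 100, .mul 5, .fwd 239], 19, 0x1b30c2d9), ([.mul 5, .fwd 176], 15, 0x132db32190b30c2d9), ([.bwd 101, .bwd 101, .bwd 100, .bwd 101, .bwd 100, .bwd 101, .bwd 100, .mul 5, .fwd 239], 19, 0x42cb30c2d9), ([.bwd 101, .bwd 101, .bwd 100, .bwd 101, .mul 5, .fwd 239], 19, 0x285b2cb65b661), ([.bwd 101, .mul 5, .fwd 239], 19, 0xd3659861659), ([.bwd 100, .bwd 101, .bwd 100, .bwd 101, .mul 5, .fwd 245], 20, 0x30c2cb659659), ([.bwd 101, .bwd 101, .bwd 100, .mul 5, .fwd 272], 21, 0x1986190b66430b659), ([.bwd 101, .bwd 100, .bwd 101, .bwd 101, .bwd 100, .bwd 101, .mul 5, .fwd 239], 19, 0x48616d990c2d9), ([.bwd 101, .bwd 100, .bwd 101, .mul 5, .fwd 239], 19, 0xd332186430b65b), ([.bwd 101, .bwd 100, .bwd 101, .mul 5, .fwd 245], 20, 0xd42d96d990c2cb), ([.bwd 101, .bwd 100, .bwd 101, .bwd 100, .mul 5, .fwd 239], 19, 0x285b2cb65990b),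 ([.bwd 100, .bwd 101, .bwd 101, .mul 5, .fwd 289], 22, 0x5216596cb664), ([.bwd 100, .mul 5, .fwd 272], 21, 0x42cc), ([.bwd 100, .mul 5, .fwd 239], 19, 0x6596d965b30b), ([.bwd 101, .bwd 100, .bwd 101, .bwd 100, .bwd 101, .bwd 101, .mul 5, .fwd 239], 19, 0xc30b65990b2d9659), ([.bwd 101, .bwd 100, .bwd 101, .bwd 101, .mul 5, .fwd 289], 22, 0xd330c861659), ([.bwd 101, .bwd 100, .mul 5, .fwd 239], 19, 0x6a16d986165b659), ([.bwd 101, .bwd 100, .bwd 101, .bwd 101, .bwd 100, .bwd 101, .bwd 100, .bwd 101, .bwd 101, .mul 5, .fwd 239], 19, 0xda8596cb664), ([.bwd 100, .bwd 101, .mul 5, .fwd 239], 19, 0x36a190c2d990c321), ([.bwd 101, .bwd 101, .mul 5, .fwd 289], 22, 0xc32190c861), ([.bwd 100, .bwd 101, .bwd 101, .bwd 100, .bwd 101, .mul 5, .fwd 239], 19, 0x290b6616596cb6cc), ([.bwd 101, .bwd 100, .mul 5, .fwd 272], 21, 0x4cb2d986190c), ([.bwd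 101, .bwd 100, .bwd 101, .bwd 100, .bwd 101, .bwd 100, .mul 5, .fwd 239], 19, 0xcc2db32165b659), ([.bwd 101, .bwd 101, .bwd 100, .bwd 101, .bwd 101, .bwd 100, .bwd 101, .mul 5, .fwd 239], 19, 0x6a18616d990b321), ([.bwd 100, .bwd 101, .bwd 100, .bwd 101, .bwd 101, .bwd 100, .bwd 101, .bwd 100, .bwd 101, .bwd 100, .mul 5, .fwd 239], 19, 0x9966430b2cc30b), ([.bwd 100, .bwd 101, .bwd 100, .mul 5, .fwd 239], 19, 0x26cc85b2cb2db2cb), ([.bwd 100, .bwd 101, .bwd 100, .mul 5, .fwd 272], 21, 0x2430c2cb65b664), ([.bwd 101, .bwd 100, .bwd 101, .bwd 101, .mul 5, .fwd 239], 19, 0xa42d990c2d9659), ([.bwd 101, .mul 5, .fwd 245], 20, 0x6d32cc86190c2d9), ([.bwd 101, .bwd 101, .mul 5, .fwd 245], 20, 0x285b65b2cb2d96cb), ([.bwd 100, .bwd 101, .bwd 100, .bwd 101, .bwd 101, .mul 5, .fwd 239], 19, 0x30c3216596cb), ([.bwd 100, .bwd 101, .bwd 100, .bwd 101,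 .bwd 101, .bwd 100, .bwd 101, .mul 5, .fwd 239], 19, 0x6cb2cc86190c2d9), ([.bwd 101, .bwd 101, .mul 5, .fwd 239], 19, 0x185b30c2cb659), ([.mul 5, .fwd 170], 12, 0x6a190c30c85b321), ([.bwd 101, .bwd 100, .bwd 101, .bwd 101, .bwd 100, .bwd 101, .bwd 100, .bwd 101, .bwd 100, .mul 5, .fwd 239], 19, 0x65965b2db321661), ([.bwd 101, .mul 5, .fwd 289], 22, 0x430c8596cc85b), ([.bwd 100, .bwd 101, .mul 5, .fwd 245], 20, 0x659659861659), ([.bwd 101, .bwd 101, .bwd 100, .mul 5, .fwd 239], 19, 0x10b6642d966430b664), ([.bwd 100, .bwd 101, .bwd 101, .mul 5, .fwd 239], 19, 0xcb6cb32165b659), ([.bwd 100, .bwd 101, .bwd 100, .bwd 101, .bwd 101, .mul 5, .fwd 289], 22, 0x196cc2d9859659)]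

/-- Witnesses at one node. -/
noncomputable def wit13 : List (List Ins × Nat × Nat) :=
  [([.mul 5, .fwd 108], 6, 4), ([.mul 5, .fwd 120], 13, 0x1b6a190b6642db), ([.bwd 134, .mul 5, .fwd 108], 6, 0x165990c2cb2db), ([.bwd 107, .bwd 134, .mul 5, .fwd 116], 13, 0x5965b66190b2d9), ([.mul 5, .fwd 117], 13, 0x8a1861659), ([.bwd 133, .mul 5, .fwd 116], 13, 0x26cb65b2cb30c30b), ([.bwd 107, .mul 5, .fwd 116], 13, 0x32d9859659), ([.mul 5, .fwd 124], 7, 0xdb30b2d9861859), ([.bwd 133, .bwd 133, .mul 5, .fwd 117], 13, 0x1b4d985b2d985b), ([.bwd 134, .bwd 133, .mul 5, .fwd 116], 13, 0x132db2d985b2cc), ([.bwd 133, .bwd 133, .bwd 107, .mul 5, .fwd 120], 13, 0x1b6a42d96642db), ([.mul 5, .fwd 110], 6, 0x6430b65b2db), ([.bwd 133, .bwd 133, .mul 5, .fwd 116], 13, 0x486190b6cb2d9659), ([.bwd 107, .bwd 133, .mul 5, .fwd 116], 13, 0x2285b65b2d9), ([.bwd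 107, .bwd 133, .bwd 107, .mul 5, .fwd 120], 13, 0x6cb32165b661659), ([.bwd 134, .mul 5, .fwd 124], 7, 0x1b4d965b3216cb321), ([.bwd 133, .bwd 133, .mul 5, .fwd 108], 6, 0x4d96cb65b2cc321), ([.bwd 134, .mul 5, .fwd 116], 13, 0x6a430b2d990c859), ([.bwd 107, .bwd 133, .bwd 107, .mul 5, .fwd 116], 13, 0x5986185b2cc30b2cb), ([.bwd 134, .bwd 107, .bwd 133, .mul 5, .fwd 108], 6, 0x48642d990c859659), ([.bwd 134, .mul 5, .fwd 117], 13, 0x86432166185b), ([.bwd 134, .bwd 107, .bwd 133, .mul 5, .fwd 116], 13, 0x369965b2d9661), ([.bwd 107, .bwd 133, .mul 5, .fwd 108], 6, 0x6596d9659661), ([.bwd 107, .bwd 133, .mul 5, .fwd 117], 13, 0x226d96596cb30c), ([.bwd 107, .bwd 134, .mul 5, .fwd 120], 13, 0x265b32190b30c30b), ([.bwd 133, .bwd 133, .bwd 133, .mul 5, .fwd 116], 13, 0x5965b2cc30c2db), ([.bwd 107, .bwd 133, .bwd 133, .mul 5, .fwd 116], 13, 0x1b2cb65990b32185b),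 ([.bwd 133, .bwd 134, .bwd 133, .mul 5, .fwd 116], 13, 0x290c2cb6cb), ([.bwd 134, .bwd 107, .mul 5, .fwd 120], 13, 0x9b65986190b65b30c), ([.bwd 133, .bwd 133, .bwd 107, .mul 5, .fwd 116], 13, 0x36d48596cc8616cb), ([.bwd 134, .mul 5, .fwd 120], 13, 0x12285b30b6cb30c321), ([.bwd 133, .mul 5, .fwd 108], 6, 0x36596d98616cb), ([.bwd 134, .bwd 107, .mul 5, .fwd 116], 13, 0x26cc32185b321859), ([.bwd 133, .mul 5, .fwd 117], 13, 0x6cb2db2db30b), ([.bwd 133, .bwd 107, .mul 5, .fwd 116], 13, 0x36a432190b2db321), ([.bwd 133, .bwd 134, .bwd 107, .mul 5, .fwd 116], 13, 0x34db2cc8596cc2d9), ([.bwd 107, .bwd 133, .bwd 133, .mul 5, .fwd 108], 6, 0x190b66430b659), ([.bwd 134, .bwd 133, .bwd 107, .mul 5, .fwd 120], 13, 0x6a430b6596cb32165b), ([.bwd 133, .bwd 134, .mul 5, .fwd 108], 6, 0x1216cc8616d9), ([.bwd 134, .bwd 133, .mul 5, .fwd 108], 6, 0x86430b2cc30b2d9),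 ([.bwd 107, .bwd 134, .bwd 107, .mul 5, .fwd 116], 13, 0x2186432185b2cc), ([.bwd 133, .bwd 107, .mul 5, .fwd 120], 13, 0x596598616596cc859), ([.mul 5, .fwd 122], 13, 0x2430c8616cb32190c), ([.bwd 134, .mul 5, .fwd 110], 6, 0x1142cb2d96d9659661), ([.bwd 107, .mul 5, .fwd 120], 13, 0x1b4cc3218642cb659), ([.bwd 133, .bwd 134, .mul 5, .fwd 116], 13, 0x6cc8616cc2db30b), ([.bwd 107, .bwd 134, .mul 5, .fwd 108], 6, 0xd486190b6596cb321), ([.mul 5, .fwd 116], 13, 0x2190c85b6596d9), ([.bwd 134, .bwd 133, .bwd 107, .mul 5, .fwd 116], 13, 0x11486165b32186185b), ([.bwd 133, .bwd 134, .bwd 107, .mul 5, .fwd 120], 13, 0x6cc2d96cc321859659)]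

/-- Witnesses at one node. -/
noncomputable def wit14 : List (List Ins × Nat × Nat) :=
  [([.mul 5, .fwd 141], 9, 0xcc86165b30b2cb659), ([.bwd 150, .bwd 150, .bwd 136, .bwd 150, .mul 5, .fwd 224], 18, 0x2cc30b2cc30c2cb), ([.bwd 138, .bwd 150, .mul 5, .fwd 191], 16, 0x44cb30c8616cc861), ([.bwd 136, .mul 5, .fwd 224], 18, 0x35216cc8616cc2d9), ([.mul 5, .fwd 191], 16, 0xa16cc32185b2cc864), ([.bwd 138, .mul 5, .fwd 224], 18, 0x332165b65b30b6cb), ([.bwd 138, .bwd 136, .bwd 150, .mul 5, .fwd 224], 18, 0x6165990c2d985b2cc), ([.mul 5, .fwd 143], 14, 0x2190c30c85b32190b), ([.bwd 136, .bwd 138, .bwd 136, .mul 5, .fwd 224], 18, 0x8a165986190b2d9), ([.bwd 150, .bwd 138, .bwd 138, .mul 5, .fwd 224], 18, 0x89b2cc8596d9659864), ([.bwd 138, .bwd 150, .bwd 150, .mul 5, .fwd 224], 18, 0x5986165b3218642cc), ([.bwd 150, .mul 5, .fwd 141], 9, 0x6432165b30b2d9),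 ([.bwd 138, .bwd 138, .bwd 136, .mul 5, .fwd 224], 18, 0x12286165966190c321), ([.bwd 138, .bwd 136, .bwd 138, .mul 5, .fwd 224], 18, 0x2290b30c2cb6cc2cb), ([.bwd 150, .bwd 136, .bwd 138, .mul 5, .fwd 224], 18, 0x6186430b2cc30c2cb), ([.bwd 150, .bwd 138, .bwd 138, .mul 5, .fwd 191], 16, 0x1132db2cb2d990c321), ([.bwd 150, .mul 5, .fwd 143], 14, 0x2452185b30c861), ([.bwd 138, .bwd 138, .bwd 150, .mul 5, .fwd 224], 18, 0x89b2cc321864), ([.bwd 136, .bwd 138, .mul 5, .fwd 224], 18, 0x1365b30b6cb), ([.bwd 138, .bwd 150, .bwd 138, .mul 5, .fwd 191], 16, 0xcb66190b66430c2db), ([.mul 5, .fwd 224], 18, 0x365b6616596cb2db), ([.bwd 136, .bwd 138, .bwd 138, .mul 5, .fwd 191], 16, 0xd96cc85b321859), ([.bwd 136, .mul 5, .fwd 143], 14, 0x4cb65990b6cc2cb), ([.bwd 150, .bwd 150, .bwd 136, .bwd 150, .bwd 136, .mul 5, .fwd 224], 18, 0x430c8596cc85b2d9),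 ([.bwd 136, .bwd 150, .mul 5, .fwd 224], 18, 0x28642cb65b664), ([.bwd 138, .bwd 136, .bwd 138, .bwd 138, .mul 5, .fwd 191], 16, 0x1b4cb661659661861), ([.bwd 136, .bwd 138, .bwd 138, .mul 5, .fwd 224], 18, 0x1b50c85b659664), ([.bwd 138, .bwd 150, .bwd 138, .bwd 138, .mul 5, .fwd 224], 18, 0x216cb65b30b2d9861), ([.bwd 150, .bwd 136, .bwd 150, .bwd 136, .mul 5, .fwd 224], 18, 0x2cb30c86185b65b), ([.bwd 138, .bwd 138, .mul 5, .fwd 191], 16, 0x12290c85b321859), ([.bwd 138, .bwd 150, .mul 5, .fwd 224], 18, 0x6190c864321659), ([.bwd 138, .bwd 136, .mul 5, .fwd 143], 14, 0xd36598642d985b), ([.bwd 138, .bwd 136, .mul 5, .fwd 224], 18, 0x450c30b2d96d9), ([.bwd 150, .mul 5, .fwd 224], 18, 0x242cb30c3216d965b), ([.bwd 136, .bwd 150, .bwd 136, .mul 5, .fwd 224], 18, 0x5966190b321659), ([.bwd 138, .bwd 138, .mul 5, .fwd 224], 18, 0x32db30c85b),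 ([.bwd 150, .bwd 150, .mul 5, .fwd 143], 14, 0x48596d986190c), ([.bwd 150, .bwd 136, .bwd 150, .mul 5, .fwd 224], 18, 0x44cb2d990b65b30c859), ([.bwd 136, .bwd 150, .bwd 138, .mul 5, .fwd 191], 16, 0x196cc2cb32185b30b), ([.bwd 150, .mul 5, .fwd 191], 16, 0xdb30c30b2cb6cb2cc), ([.bwd 150, .bwd 138, .bwd 150, .mul 5, .fwd 224], 18, 0x1b4db30c2cb30c), ([.bwd 150, .bwd 150, .mul 5, .fwd 224], 18, 0x69990b30c3216d9), ([.bwd 138, .bwd 150, .bwd 136, .bwd 138, .mul 5, .fwd 224], 18, 0x16596cb321661859), ([.mul 5, .fwd 144], 14, 0xdb30c864), ([.bwd 150, .bwd 136, .mul 5, .fwd 224], 18, 0x69966190c85b321), ([.bwd 138, .mul 5, .fwd 191], 16, 0x44db2d96596cb6cb), ([.bwd 150, .bwd 138, .mul 5, .fwd 191], 16, 0x2166430b66165990c2d9), ([.bwd 138, .bwd 136, .bwd 138, .bwd 138, .mul 5, .fwd 224], 18, 0x369b2d990c30b2d9), ([.bwd 138, .bwd 136, .bwd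 138, .bwd 136, .mul 5, .fwd 224], 18, 0x43218642cb), ([.bwd 150, .bwd 136, .bwd 150, .bwd 138, .mul 5, .fwd 191], 16, 0x6a18596cb321861)]

/-- Witnesses at one node. -/
noncomputable def wit15 : List (List Ins × Nat × Nat) :=
  [([.mul 5, .fwd 178], 12, 0xc30b6616596d965b), ([.mul 5, .fwd 255], 20, 0xd42d986165966190c), ([.mul 5, .fwd 318], 24, 0), ([.bwd 175, .bwd 172, .bwd 175, .mul 5, .fwd 318], 24, 0xd96598642db2d9), ([.bwd 175, .bwd 174, .bwd 174, .mul 5, .fwd 255], 20, 0x30c2cb2d96642cc), ([.bwd 174, .bwd 174, .bwd 172, .bwd 175, .mul 5, .fwd 318], 24, 0x10c2db2cb659861), ([.bwd 175, .bwd 172, .bwd 174, .bwd 172, .mul 5, .fwd 318], 24, 0xc8642cb65990c), ([.bwd 175, .mul 5, .fwd 178], 12, 0x218596cb321661861), ([.bwd 174, .bwd 172, .bwd 175, .mul 5, .fwd 318], 24, 0x6596cc30c2db30c), ([.bwd 174, .bwd 175, .bwd 175, .mul 5, .fwd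 318], 24, 0x6cb6596cb30c859), ([.bwd 175, .bwd 172, .bwd 175, .mul 5, .fwd 255], 20, 0x196cb3216cb2cb664), ([.mul 5, .fwd 283], 21, 0xd36cc30b6cb65b), ([.bwd 175, .mul 5, .fwd 318], 24, 0x50c86165b661), ([.bwd 175, .bwd 172, .mul 5, .fwd 318], 24, 0xc2d96cb30c2d9), ([.bwd 174, .bwd 172, .bwd 174, .mul 5, .fwd 255], 20, 0x5b2cb2db2d985b30c), ([.bwd 174, .bwd 172, .bwd 175, .bwd 172, .mul 5, .fwd 318], 24, 0x6da6d96d96d96d96d9), ([.bwd 172, .mul 5, .fwd 283], 21, 0x32cb6cb2d985b2cb), ([.bwd 172, .bwd 175, .bwd 174, .mul 5, .fwd 318], 24, 0x242d985b661), ([.bwd 175, .bwd 175, .mul 5, .fwd 318], 24, 0x32d98642d990c30b), ([.bwd 174, .mul 5, .fwd 318], 24, 0xd3659861659), ([.bwd 174, .bwd 172, .mul 5, .fwd 318], 24, 0x6616d986165b659), ([.bwd 175, .mul 5, .fwd 255], 20, 0x290b65990b30c), ([.bwd 175, .mul 5, .fwd 283], 21, 0x1966432166430b2d9),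 ([.bwd 175, .bwd 174, .bwd 174, .mul 5, .fwd 318], 24, 0x196d990c2cb), ([.bwd 174, .bwd 172, .bwd 174, .mul 5, .fwd 318], 24, 0xd332186430b65b), ([.bwd 172, .bwd 175, .mul 5, .fwd 255], 20, 0x36596cc321864), ([.bwd 174, .bwd 172, .bwd 174, .bwd 172, .mul 5, .fwd 318], 24, 0x285b2cb65990b), ([.bwd 172, .mul 5, .fwd 318], 24, 9), ([.bwd 172, .bwd 175, .mul 5, .fwd 318], 24, 0x148642cb65990c), ([.bwd 174, .bwd 175, .mul 5, .fwd 255], 20, 0x6cb66165b2d96cc), ([.bwd 175, .bwd 175, .bwd 172, .mul 5, .fwd 318], 24, 0x1b66185b2cc30b2cb), ([.bwd 175, .bwd 175, .mul 5, .fwd 283], 21, 0x1a90b2d96cb65b), ([.bwd 172, .bwd 174, .mul 5, .fwd 318], 24, 0x36a190c2d990c321), ([.bwd 172, .bwd 174, .bwd 172, .mul 5, .fwd 318], 24, 0xd96cb3218616596cb), ([.bwd 175, .bwd 174, .mul 5, .fwd 318], 24, 0x2285b30c85b30b6cc), ([.bwd 174, .bwd 175, .bwd 172,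 .mul 5, .fwd 318], 24, 0x50c8616598642d9659), ([.bwd 174, .bwd 172, .mul 5, .fwd 283], 21, 0x10c85b65b30c), ([.bwd 175, .bwd 175, .bwd 174, .mul 5, .fwd 318], 24, 0x350b6598642cc), ([.bwd 172, .bwd 175, .bwd 172, .mul 5, .fwd 318], 24, 0xcb6cc861659), ([.bwd 174, .bwd 174, .mul 5, .fwd 318], 24, 0x285b30c2cb659), ([.bwd 174, .bwd 174, .bwd 175, .mul 5, .fwd 318], 24, 0x9132d965b30c321), ([.bwd 174, .mul 5, .fwd 255], 20, 0x1985b6596cc321864), ([.bwd 174, .bwd 174, .mul 5, .fwd 255], 20, 0x6cb2d986430b2d9), ([.mul 5, .fwd 184], 15, 0xdb2d990b6cb), ([.bwd 172, .bwd 174, .mul 5, .fwd 255], 20, 0x1332165b30c30b2cc), ([.bwd 174, .bwd 175, .bwd 174, .bwd 174, .mul 5, .fwd 255], 20, 0x1a85b2d966430b2cc), ([.bwd 172, .bwd 175, .bwd 175, .bwd 172, .mul 5, .fwd 318], 24, 0x2290b30c2d9659861), ([.bwd 174, .bwd 175, .mul 5, .fwd 318], 24, 0x265b30b66190b661),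 ([.bwd 174, .bwd 174, .bwd 172, .mul 5, .fwd 318], 24, 0xa432186430b2cb), ([.bwd 175, .bwd 174, .mul 5, .fwd 255], 20, 0xda6642cc8642d9)]

/-- Witnesses at one node. -/
noncomputable def wit16 : List (List Ins × Nat × Nat) :=
  [([.mul 5, .fwd 188], 9, 34), ([.mul 5, .fwd 225], 18, 0x2cc3216cb2cb30c2d9), ([.bwd 187, .mul 5, .fwd 225], 18, 0x10c8618642cb659), ([.bwd 187, .mul 5, .fwd 197], 16, 0x1226cc85b2cb6cb), ([.mul 5, .fwd 193], 16, 0x48a430b65b664), ([.mul 5, .fwd 197], 16, 0xa16cb2d9861), ([.bwd 187, .mul 5, .fwd 195], 16, 0x2450c8596cb2d9), ([.bwd 187, .bwd 186, .bwd 187, .mul 5, .fwd 198], 16, 0x365b2cb6cc2d9864), ([.bwd 186, .bwd 187, .bwd 186, .bwd 187, .mul 5, .fwd 225], 18, 0xcc2cb2d98642d9), ([.bwd 186, .bwd 187, .bwd 186, .bwd 187, .mul 5, .fwd 195], 16, 0x6a190b2db30b2d9), ([.mul 5, .fwd 189], 14, 0x8a190c2d990c2d9),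 ([.bwd 187, .bwd 186, .mul 5, .fwd 196], 16, 0x2285b2d96cb2cb), ([.mul 5, .fwd 196], 16, 0x2d985b321), ([.bwd 186, .mul 5, .fwd 197], 16, 0x1985b2cc30c85b2d9), ([.bwd 186, .bwd 187, .bwd 186, .bwd 187, .bwd 186, .mul 5, .fwd 221], 18, 0x642cb6cb2cc), ([.bwd 187, .bwd 186, .mul 5, .fwd 197], 16, 0x26cb2cc32190c), ([.bwd 187, .bwd 186, .bwd 187, .bwd 186, .mul 5, .fwd 225], 18, 0x285b2cb6cb659), ([.bwd 186, .bwd 187, .mul 5, .fwd 197], 16, 0x2d96cb6642d9), ([.bwd 187, .mul 5, .fwd 198], 16, 0x1330c30b6cc8616d9), ([.bwd 187, .mul 5, .fwd 221], 18, 0x132db2db30c), ([.bwd 187, .bwd 186, .bwd 187, .mul 5, .fwd 225], 18, 0x6190b65966430c), ([.bwd 187, .mul 5, .fwd 217], 18, 0x285b30b66190c30b2d9), ([.bwd 186, .bwd 187, .bwd 186, .bwd 187, .mul 5, .fwd 221], 18, 0x48616d96cc), ([.bwd 187, .bwd 186, .mul 5, .fwd 221], 18, 0x9132db2db2cc),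 ([.bwd 186, .bwd 187, .bwd 186, .mul 5, .fwd 225], 18, 0x91365b30c85b30b), ([.mul 5, .fwd 217], 18, 0x2d96642cc8596cc321), ([.bwd 186, .mul 5, .fwd 196], 16, 0xd42db321859664), ([.bwd 186, .bwd 187, .mul 5, .fwd 196], 16, 0x489990b6cc2d9859), ([.mul 5, .fwd 221], 18, 0x10b2db2cb6596d9), ([.bwd 186, .mul 5, .fwd 217], 18, 0x2290c2d96642cc30b), ([.bwd 187, .bwd 186, .mul 5, .fwd 225], 18, 0x216642cc8642cb661), ([.bwd 187, .bwd 186, .bwd 187, .mul 5, .fwd 221], 18, 0x1485b65b2cb), ([.mul 5, .fwd 198], 16, 0x34d965b3216cb2db), ([.bwd 186, .bwd 187, .bwd 186, .mul 5, .fwd 221], 18, 0xb66430b6cb30c), ([.bwd 186, .bwd 187, .mul 5, .fwd 198], 16, 0x1966190b6596cc2d9), ([.bwd 187, .mul 5, .fwd 196], 16, 0xd36616cb321664), ([.bwd 186, .bwd 187, .bwd 186, .bwd 187, .bwd 186, .mul 5, .fwd 225], 18, 0xd990b66430b6cb), ([.bwd 186, .mul 5, .fwd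 221], 18, 0xb659661859), ([.bwd 186, .bwd 187, .mul 5, .fwd 221], 18, 0x3659659861859), ([.mul 5, .fwd 192], 11, 0x16cb32190c85b), ([.bwd 186, .mul 5, .fwd 198], 16, 0x1148618643216cc), ([.bwd 187, .bwd 186, .bwd 187, .bwd 186, .mul 5, .fwd 221], 18, 0x69b2cc85b65b2cb), ([.mul 5, .fwd 195], 16, 0x16cb66165b30b661), ([.bwd 187, .bwd 186, .mul 5, .fwd 217], 18, 0x1226cb2d98596cc2cb), ([.bwd 186, .mul 5, .fwd 225], 18, 0x30c2cb2cc30b2cb664), ([.bwd 186, .bwd 187, .mul 5, .fwd 217], 18, 0x1b6996cb30c2cb661), ([.bwd 186, .bwd 187, .mul 5, .fwd 225], 18, 0x6d42d966430b), ([.bwd 186, .bwd 187, .mul 5, .fwd 195], 16, 0x165b2d98642cb659), ([.bwd 187, .bwd 186, .bwd 187, .mul 5, .fwd 195], 16, 0x1b4cc8596d96cb), ([.mul 5, .fwd 190], 16, 0x4d990c30c8616cb)]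

/-- Witnesses at one node. -/
noncomputable def wit17 : List (List Ins × Nat × Nat) :=
  [([.mul 5, .fwd 308], 23, 0x228642d96596cb6cb), ([.bwd 201, .bwd 206, .bwd 201, .bwd 206, .mul 5, .fwd 308], 23, 0x34d985b2d985b661), ([.bwd 203, .bwd 201, .bwd 206, .bwd 201, .bwd 206, .mul 5, .fwd 308], 23, 0x8a165b30b2d9859), ([.bwd 203, .bwd 206, .bwd 201, .bwd 203, .bwd 201, .mul 5, .fwd 364], 25, 0x90b66430b6cb2cb), ([.bwd 206, .bwd 201, .bwd 203, .bwd 201, .bwd 203, .bwd 206, .mul 5, .fwd 308], 23, 0xd990b65b), ([.bwd 206, .bwd 201, .bwd 203, .bwd 201, .mul 5, .fwd 364], 25, 0xa190c85990c), ([.bwd 201, .bwd 203, .bwd 201, .bwd 206, .bwd 201, .mul 5, .fwd 364], 25, 0x1990c32190c30c), ([.bwd 206, .bwd 201, .bwd 206, .bwd 201, .mul 5, .fwd 364], 25, 0x226cc30b2cb661861), ([.bwd 201, .bwd 206, .bwd 203, .bwd 206, .mul 5, .fwd 308], 23, 0x190c321659664),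 ([.bwd 206, .bwd 201, .mul 5, .fwd 364], 25, 0xd42db321661), ([.bwd 206, .bwd 201, .bwd 203, .bwd 206, .mul 5, .fwd 308], 23, 0x6d48642cb659861), ([.bwd 206, .bwd 203, .bwd 201, .mul 5, .fwd 364], 25, 0x244cc85b6618642db), ([.bwd 206, .bwd 201, .bwd 206, .bwd 203, .mul 5, .fwd 364], 25, 0xb2cc8616cc3216d9), ([.bwd 201, .bwd 206, .bwd 201, .bwd 203, .bwd 201, .mul 5, .fwd 364], 25, 0x242db2cc85b2cb2d9), ([.bwd 203, .bwd 201, .bwd 203, .bwd 206, .mul 5, .fwd 308], 23, 0x1b52165b30b), ([.bwd 203, .bwd 201, .bwd 206, .bwd 201, .bwd 203, .bwd 201, .mul 5, .fwd 364], 25, 0x699861659), ([.bwd 201, .bwd 206, .bwd 201, .bwd 203, .bwd 201, .bwd 206, .mul 5, .fwd 308], 23, 0xcb6cb2d986430b6cb), ([.bwd 206, .bwd 203, .bwd 206, .bwd 203, .mul 5, .fwd 364], 25, 0x6da6cc2d9661864), ([.bwd 203, .bwd 206, .bwd 203, .mul 5, .fwd 364], 25, 0x26cb2cc30c2cb2cc),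 ([.bwd 201, .bwd 206, .mul 5, .fwd 308], 23, 0x1226598642cb30c30b), ([.bwd 206, .bwd 203, .bwd 206, .mul 5, .fwd 308], 23, 0x11365b2cb2d96d9861), ([.bwd 203, .bwd 201, .mul 5, .fwd 364], 25, 0x6185b30c85b30b), ([.bwd 201, .bwd 203, .bwd 206, .mul 5, .fwd 308], 23, 0xdb2cc30b2d966430c), ([.bwd 203, .bwd 201, .bwd 203, .bwd 201, .bwd 206, .mul 5, .fwd 308], 23, 0xb6596cc30c859), ([.bwd 201, .bwd 203, .bwd 206, .bwd 201, .bwd 206, .mul 5, .fwd 308], 23, 0x332190b2d96cb321), ([.bwd 201, .mul 5, .fwd 364], 25, 0x89b3216cb65b321), ([.bwd 203, .bwd 206, .bwd 203, .bwd 201, .mul 5, .fwd 364], 25, 0x6d42db2cb65b30c), ([.bwd 206, .bwd 203, .bwd 201, .bwd 206, .bwd 201, .mul 5, .fwd 364], 25, 0xa190c86190b2cb), ([.bwd 203, .bwd 201, .bwd 206, .mul 5, .fwd 308], 23, 0x10c86430c3216d965b), ([.mul 5, .fwd 364], 25, 0x216d985b32185b), ([.bwd 203,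 .bwd 206, .bwd 201, .bwd 206, .mul 5, .fwd 308], 23, 0xb2cc30b2d965b), ([.bwd 203, .bwd 206, .mul 5, .fwd 308], 23, 0x45216596cc8618596d9), ([.bwd 206, .bwd 203, .mul 5, .fwd 364], 25, 0x6996cc86190b30c), ([.bwd 201, .bwd 203, .bwd 201, .bwd 203, .bwd 201, .bwd 206, .mul 5, .fwd 308], 23, 0x996618596d96d9659), ([.bwd 201, .bwd 203, .bwd 206, .bwd 203, .mul 5, .fwd 364], 25, 0x36a42d96642cb659), ([.bwd 203, .bwd 206, .bwd 201, .bwd 206, .bwd 203, .mul 5, .fwd 364], 25, 0x85b30c861659861), ([.bwd 206, .bwd 201, .bwd 203, .bwd 201, .bwd 206, .mul 5, .fwd 308], 23, 0x18596cb6cc), ([.bwd 201, .bwd 203, .bwd 201, .bwd 206, .mul 5, .fwd 308], 23, 0x8643216cc861659), ([.bwd 206, .mul 5, .fwd 308], 23, 0x6d366190c2cb2db), ([.bwd 206, .bwd 203, .bwd 201, .bwd 206, .mul 5, .fwd 308], 23, 0x34d96cb65965b2db), ([.bwd 201, .bwd 206, .bwd 203, .mul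 5, .fwd 364], 25, 0x89b6596598642d9), ([.bwd 201, .bwd 203, .bwd 201, .bwd 203, .bwd 206, .mul 5, .fwd 308], 23, 0x36996cc8618596d9), ([.bwd 206, .bwd 203, .bwd 206, .bwd 201, .bwd 203, .bwd 201, .mul 5, .fwd 364], 25, 0xb2cb65990b6cb), ([.bwd 203, .mul 5, .fwd 364], 25, 0x8642cc85b2cb), ([.bwd 206, .bwd 201, .bwd 206, .mul 5, .fwd 308], 23, 0xa190c30b2db2d9), ([.bwd 201, .bwd 203, .bwd 201, .mul 5, .fwd 364], 25, 0x1132cb664321859), ([.bwd 203, .bwd 206, .bwd 203, .bwd 206, .mul 5, .fwd 308], 23, 0x8a42cb6596cc861864), ([.bwd 203, .bwd 201, .bwd 206, .bwd 201, .mul 5, .fwd 364], 25, 0x8a190c2cb321861), ([.bwd 201, .bwd 206, .bwd 201, .mul 5, .fwd 364], 25, 0xcb6cb321661), ([.bwd 206, .bwd 203, .bwd 201, .bwd 203, .bwd 201, .bwd 206, .mul 5, .fwd 308], 23, 0x6cb32190b6cb2cc)]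

/-- Witnesses at one node. -/
noncomputable def wit18 : List (List Ins × Nat × Nat) :=
  [([.mul 5, .fwd 214], 11, 4), ([.bwd 212, .mul 5, .fwd 227], 18, 0x10b2cb65986190c), ([.mul 5, .fwd 226], 16, 0x86190b65b30b2d9), ([.bwd 238, .bwd 213, .mul 5, .fwd 229], 16, 0x1485990c2d96cb659), ([.mul 5, .fwd 220], 18, 276), ([.bwd 238, .mul 5, .fwd 226], 16, 0x485b65b30c), ([.bwd 212, .mul 5, .fwd 219], 18, 0x65b30b659), ([.bwd 213, .mul 5, .fwd 223], 14, 0x10b2d986430c85b2cb), ([.bwd 238, .bwd 212, .mul 5, .fwd 233], 18, 0x190c861864321659), ([.bwd 213, .bwd 212, .mul 5, .fwd 219], 18, 0x8996cc2d965b), ([.bwd 213, .mul 5, .fwd 215], 16, 0x1a6cb2db2d965b2cc), ([.mul 5, .fwd 215], 16, 0xd366165b30c30b), ([.bwd 238, .bwd 212, .mul 5, .fwd 228], 18, 0xcb2cb6cb2d985b), ([.bwd 238, .bwd 212, .mul 5, .fwd 226], 16, 0x242db2cc85b2cc859), ([.bwd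 212, .mul 5, .fwd 234], 18, 0x26cb30c32165b2cc), ([.mul 5, .fwd 223], 14, 0x4db30c3216cc8616cb), ([.bwd 238, .bwd 212, .mul 5, .fwd 229], 16, 0x69b661859659861), ([.bwd 213, .bwd 238, .mul 5, .fwd 229], 16, 0x6430b2cb), ([.bwd 212, .mul 5, .fwd 229], 16, 0xa165b65b2cb2d9), ([.bwd 213, .bwd 212, .mul 5, .fwd 229], 16, 0x26cc32186190b659661), ([.bwd 238, .mul 5, .fwd 233], 18, 0x226cb30c32185b), ([.mul 5, .fwd 228], 18, 0x6a42d990c321861), ([.bwd 213, .bwd 238, .mul 5, .fwd 226], 16, 0x2452190b32190c), ([.bwd 212, .mul 5, .fwd 233], 18, 0xda86165966190b), ([.bwd 213, .bwd 212, .mul 5, .fwd 234], 18, 0x369b6596598616cb), ([.bwd 238, .bwd 212, .mul 5, .fwd 230], 18, 0x366430c30b661), ([.bwd 238, .mul 5, .fwd 228], 18, 0x6d985b2d9859664), ([.bwd 212, .mul 5, .fwd 230], 18, 0x485990b6cc2d9859), ([.bwd 213, .bwd 212, .mul 5, .fwd 227], 18,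 0x165b65965b3216cb), ([.bwd 238, .mul 5, .fwd 230], 18, 0x1965990b2d96cb6cc), ([.bwd 213, .mul 5, .fwd 234], 18, 0x265b3216cb321664), ([.bwd 238, .bwd 213, .mul 5, .fwd 226], 16, 0x48596cb32185b2db), ([.bwd 213, .mul 5, .fwd 226], 16, 0x2cb6cc2d9659864), ([.mul 5, .fwd 233], 18, 0x242d96cc8642cb), ([.mul 5, .fwd 229], 16, 0x1366190b30c2d9661), ([.mul 5, .fwd 230], 18, 0xcb6616cb321664), ([.bwd 238, .mul 5, .fwd 229], 16, 0x42db2cb66190b661), ([.bwd 213, .mul 5, .fwd 227], 18, 0x86432165b2cb661), ([.bwd 213, .mul 5, .fwd 229], 16, 0x42cb30c8616cb6616d9), ([.bwd 238, .mul 5, .fwd 214], 11, 0x50c2d98596cb661), ([.bwd 213, .bwd 212, .mul 5, .fwd 226], 16, 0x10c2cb6cc30c859), ([.mul 5, .fwd 234], 18, 0x6d990b2d990c85b), ([.mul 5, .fwd 222], 18, 0x166190c85b2cc), ([.bwd 238, .bwd 213, .mul 5, .fwd 215], 16, 0x6cb2cc321859659), ([.mul 5,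 .fwd 227], 18, 0xa430c8616cb), ([.bwd 212, .mul 5, .fwd 228], 18, 0xcb2d990b659861), ([.bwd 212, .mul 5, .fwd 226], 16, 0x350c2d96cc2db), ([.mul 5, .fwd 219], 18, 0x36996cb659661), ([.bwd 213, .mul 5, .fwd 219], 18, 0x996cc2d96cb659), ([.bwd 238, .mul 5, .fwd 215], 16, 0x190b65990c321859)]

/-- Witnesses at one node. -/
noncomputable def wit19 : List (List Ins × Nat × Nat) :=
  [([.mul 5, .fwd 241], 12, 4), ([.mul 5, .fwd 480], 29, 0), ([.mul 5, .fwd 243], 19, 0xb2d96cc321661864), ([.mul 5, .fwd 335], 24, 0x1486190c2cb661), ([.mul 5, .fwd 268], 19, 0x285965b30c86430c), ([.mul 5, .fwd 340], 24, 0x1228596d96cc), ([.bwd 240, .mul 5, .fwd 269], 19, 0x2190c2cb664), ([.mul 5, .fwd 263], 20, 0x1486190c859659), ([.mul 5, .fwd 494], 29, 0x16cb65966190b2d9), ([.mul 5, .fwd 270], 19, 0x352166185b2d990b), ([.mul 5, .fwd 259], 20, 0x196642cc861),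 ([.mul 5, .fwd 302], 22, 0x6996cb66190c30c), ([.bwd 240, .mul 5, .fwd 286], 19, 0xd32cb6cb2d985b), ([.bwd 240, .mul 5, .fwd 340], 24, 0x245218616cb321659), ([.mul 5, .fwd 501], 29, 0x6d96d985b30b659), ([.mul 5, .fwd 262], 20, 0x6596cb30c2cb664), ([.bwd 240, .mul 5, .fwd 264], 19, 0xc2d965b659659), ([.bwd 240, .mul 5, .fwd 335], 24, 0x290b2db30c85b), ([.mul 5, .fwd 342], 24, 0x6cb66430c2cb6cb2d9), ([.mul 5, .fwd 244], 19, 0x16cc86190b6cc2cb659), ([.bwd 240, .mul 5, .fwd 494], 29, 0x1218596d96cb2cb30c), ([.bwd 240, .mul 5, .fwd 488], 29, 0xb2db32190b30c2db), ([.mul 5, .fwd 266], 19, 0x6d365b2cc30c85b), ([.mul 5, .fwd 515], 29, 0x285965986430b659), ([.mul 5, .fwd 509], 29, 0x290c30b2d9861859), ([.mul 5, .fwd 487], 29, 0x286185b30c86165b), ([.mul 5, .fwd 286], 19, 0x6da85b2d9859664), ([.bwd 240, .mul 5, .fwd 271], 19, 0x485990c86185b),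 ([.mul 5, .fwd 523], 29, 0xa430b6cc2cb321), ([.bwd 240, .mul 5, .fwd 487], 29, 0x2cc3216cc85b659), ([.bwd 240, .mul 5, .fwd 509], 29, 0x10c8642d990c30c864), ([.bwd 240, .mul 5, .fwd 266], 19, 0x69990c861864), ([.bwd 240, .mul 5, .fwd 341], 24, 0x4cb6596cc2cb2d9), ([.bwd 240, .mul 5, .fwd 515], 29, 0x44cc8596cc85b2d9859), ([.bwd 240, .mul 5, .fwd 342], 24, 0x998642d96cc3216d9), ([.mul 5, .fwd 271], 19, 0x90b65b30c864), ([.mul 5, .fwd 264], 19, 0x30c2db2d9659661), ([.bwd 240, .mul 5, .fwd 523], 29, 0x1b4cb65990b2cb65b), ([.bwd 240, .mul 5, .fwd 244], 19, 0x16d965b3216cb2db), ([.mul 5, .fwd 279], 21, 0x9b3218618596cb), ([.mul 5, .fwd 341], 24, 0x352185b2cc30b659), ([.bwd 240, .mul 5, .fwd 501], 29, 0x34cc85b2cb6cc321), ([.mul 5, .fwd 261], 19, 0x1990b30c2d96cb661), ([.mul 5, .fwd 242], 19, 0x1148618642d965b2db), ([.bwd 240, .mul 5, .fwd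 480], 29, 0x2290b30c2d9659861), ([.mul 5, .fwd 488], 29, 0xd485b661), ([.bwd 240, .mul 5, .fwd 243], 19, 0x2290b661659864), ([.mul 5, .fwd 269], 19, 0x32190c2cb2d9861), ([.bwd 240, .mul 5, .fwd 270], 19, 0x6d486190b2cb), ([.mul 5, .fwd 334], 24, 0x2d990c30c8616cb)]

/-- Witnesses at one node. -/
noncomputable def wit20 : List (List Ins × Nat × Nat) :=
  [([.mul 5, .fwd 250], 12, 34), ([.mul 5, .fwd 491], 29, 0x1b4d96cb661659), ([.mul 5, .fwd 265], 19, 0x1990c32185b30c85b), ([.mul 5, .fwd 541], 29, 0x136cb65966430b659), ([.mul 5, .fwd 251], 20, 0xa42cc85b661864), ([.bwd 247, .bwd 246, .bwd 247, .bwd 246, .mul 5, .fwd 491], 29, 0xdb4d965b3216cb2cc), ([.bwd 247, .bwd 246, .mul 5, .fwd 256], 20, 0x286430b65986165b), ([.mul 5, .fwd 260], 19, 0x10b65966185b), ([.bwd 246, .bwd 247, .mul 5, .fwd 541], 29, 0x4cb30c2d9661859), ([.bwd 246, .bwd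 247, .bwd 246, .mul 5, .fwd 256], 20, 0xd990c3216cb2cb664), ([.bwd 247, .bwd 246, .mul 5, .fwd 257], 19, 0x1a66185b), ([.mul 5, .fwd 296], 22, 0xcb6cc8616596cb), ([.bwd 246, .bwd 247, .bwd 246, .mul 5, .fwd 257], 19, 0x330c2d9), ([.bwd 247, .bwd 246, .bwd 247, .mul 5, .fwd 491], 29, 0x4d966186432190b), ([.bwd 246, .bwd 247, .bwd 246, .bwd 247, .bwd 246, .mul 5, .fwd 541], 29, 0xcb65990c2d9859), ([.bwd 247, .bwd 246, .bwd 247, .mul 5, .fwd 265], 19, 0x185b30c85b32185b), ([.bwd 247, .bwd 246, .bwd 247, .mul 5, .fwd 260], 19, 0x265b2cc8642cc861), ([.bwd 246, .bwd 247, .bwd 246, .mul 5, .fwd 541], 29, 0x148616cc2db2cb), ([.bwd 246, .bwd 247, .bwd 246, .bwd 247, .bwd 246, .mul 5, .fwd 491], 29, 0x52185b2d990b659), ([.bwd 246, .bwd 247, .bwd 246, .bwd 247, .mul 5, .fwd 265], 19, 0x42cb6cb2cc30b2d9), ([.bwd 246, .mul 5, .fwd 541], 29, 0xdb2cb6642d966430c),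 ([.bwd 247, .bwd 246, .mul 5, .fwd 325], 24, 0x32d98642cb659861), ([.bwd 246, .mul 5, .fwd 260], 19, 0x244cb30c2d9), ([.bwd 246, .mul 5, .fwd 491], 29, 0x86185b6596cc85b), ([.bwd 247, .mul 5, .fwd 491], 29, 0xb30c30b2cc321861), ([.mul 5, .fwd 325], 24, 0x365b30c85b659), ([.mul 5, .fwd 257], 19, 0x618596cb2db30b), ([.bwd 247, .mul 5, .fwd 257], 19, 0x2265b2d96cb30c), ([.bwd 247, .bwd 246, .bwd 247, .bwd 246, .mul 5, .fwd 541], 29, 0x3216cb66165b2cc864), ([.bwd 246, .bwd 247, .bwd 246, .mul 5, .fwd 325], 24, 0x69b6616596cc86165b), ([.bwd 246, .bwd 247, .bwd 246, .bwd 247, .mul 5, .fwd 491], 29, 0x2d98642cb6642db), ([.bwd 246, .bwd 247, .mul 5, .fwd 260], 19, 0xdb2cc86430c321), ([.bwd 247, .mul 5, .fwd 541], 29, 0x34cb6cc2d98642d9), ([.bwd 246, .bwd 247, .mul 5, .fwd 491], 29, 0x132cb6642d966430c), ([.bwd 247, .bwd 246, .mul 5, .fwd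 491], 29, 0x1b2d990c2d9864321), ([.bwd 246, .mul 5, .fwd 257], 19, 0xb65b2cb6cc30b6cc), ([.bwd 247, .mul 5, .fwd 260], 19, 0x244cb30c85b65b), ([.bwd 247, .bwd 246, .bwd 247, .mul 5, .fwd 541], 29, 0x330c30b2cc30c85b), ([.bwd 247, .mul 5, .fwd 265], 19, 0x1966430c2cb661861), ([.mul 5, .fwd 258], 15, 0x50c2cb30c8616cc), ([.bwd 246, .bwd 247, .bwd 246, .bwd 247, .mul 5, .fwd 541], 29, 0x2d9661859), ([.bwd 247, .bwd 246, .mul 5, .fwd 541], 29, 0x12185b65b2cb2d9), ([.bwd 246, .mul 5, .fwd 256], 20, 0x6d965b32190b30c), ([.mul 5, .fwd 253], 20, 0x913659659864), ([.bwd 246, .bwd 247, .bwd 246, .mul 5, .fwd 491], 29, 0xcc8596cc85986165b), ([.bwd 247, .bwd 246, .bwd 247, .bwd 246, .mul 5, .fwd 325], 24, 0xd330c859), ([.bwd 246, .bwd 247, .mul 5, .fwd 265], 19, 0x48a42cb65986190c859), ([.bwd 247, .bwd 246, .bwd 247, .bwd 246, .mul 5, .fwd 256],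 20, 0x2450c2d96cc2d9861), ([.mul 5, .fwd 256], 20, 0x26d96cc86190b30c), ([.bwd 246, .mul 5, .fwd 325], 24, 0x12290c85b2cb661)]

/-- Witnesses at one node. -/
noncomputable def wit21 : List (List Ins × Nat × Nat) :=
  [([.mul 5, .fwd 276], 12, 0x44d985965b321861), ([.bwd 287, .mul 5, .fwd 276], 12, 0x90c30b2d96cb65b), ([.mul 5, .fwd 284], 15, 0x265b65b65b65b), ([.bwd 273, .bwd 274, .mul 5, .fwd 333], 24, 0x36596cb65b2d9664), ([.bwd 274, .mul 5, .fwd 280], 19, 0x1965b2d9664321664), ([.bwd 287, .bwd 274, .bwd 274, .mul 5, .fwd 280], 19, 0x65b3218642cc30c), ([.bwd 287, .bwd 273, .mul 5, .fwd 533], 29, 0xdb4d965b30b2cc861), ([.bwd 273, .bwd 287, .mul 5, .fwd 280], 19, 0x6185965b66190c), ([.bwd 274, .mul 5, .fwd 489], 29, 0x244d96596cb6cc321), ([.bwd 273, .mul 5, .fwd 489], 29, 0x89990b2d96cc859), ([.bwd 273, .bwd 273, .bwd 274, .mul 5,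 .fwd 533], 29, 0x34cc3216cc861861), ([.bwd 287, .mul 5, .fwd 333], 24, 0x290b30c2cb664), ([.bwd 274, .bwd 274, .bwd 273, .mul 5, .fwd 533], 29, 0x5986165b2cc30b), ([.bwd 287, .bwd 274, .mul 5, .fwd 489], 29, 0x1216cb32190b2db), ([.bwd 273, .bwd 274, .bwd 274, .mul 5, .fwd 489], 29, 0xc3216cb30c2cb659), ([.bwd 274, .bwd 274, .mul 5, .fwd 489], 29, 0x50b65b2d9661864), ([.mul 5, .fwd 533], 29, 0x4cc85b2cb2d9), ([.bwd 274, .bwd 274, .mul 5, .fwd 533], 29, 0x1366432185b2d9), ([.bwd 287, .bwd 273, .mul 5, .fwd 489], 29, 0x26cb2d990c30b6cc), ([.bwd 287, .mul 5, .fwd 533], 29, 0x52165b2d9859), ([.bwd 273, .mul 5, .fwd 333], 24, 0x86185b30c8616d9), ([.bwd 274, .bwd 274, .mul 5, .fwd 280], 19, 0x2450c85b321864), ([.mul 5, .fwd 489], 29, 0xda86165966186165b), ([.bwd 273, .mul 5, .fwd 282], 21, 0x9136cb2cc), ([.bwd 274, .mul 5, .fwd 533], 29,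 0x35216596cb2d9), ([.mul 5, .fwd 280], 19, 0x596642cc85b661864), ([.bwd 287, .bwd 274, .bwd 273, .mul 5, .fwd 280], 19, 0xdb4cb30c3216cb), ([.mul 5, .fwd 282], 21, 0x3218642d9659), ([.bwd 274, .bwd 273, .mul 5, .fwd 533], 29, 0xcb2cc8616cb664321), ([.bwd 274, .bwd 273, .mul 5, .fwd 280], 19, 0x8a185b30c8616d9), ([.bwd 287, .mul 5, .fwd 280], 19, 0x5986430b6616d990b), ([.bwd 273, .bwd 274, .bwd 274, .bwd 273, .mul 5, .fwd 533], 29, 0x2cc30c2d965b321), ([.bwd 287, .mul 5, .fwd 489], 29, 0x996598642d96596cb), ([.bwd 273, .bwd 274, .mul 5, .fwd 489], 29, 0x1432165b2d96596cb), ([.bwd 287, .bwd 273, .mul 5, .fwd 333], 24, 0x1a65b2d986432185b), ([.bwd 273, .bwd 274, .mul 5, .fwd 533], 29, 0x1226cb65b2d9861), ([.bwd 273, .bwd 287, .bwd 273, .mul 5, .fwd 489], 29, 0x6cc86165b), ([.bwd 287, .bwd 273, .mul 5, .fwd 282], 21, 0x196d985b30c864),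 ([.bwd 287, .bwd 274, .bwd 273, .mul 5, .fwd 533], 29, 0x91332185965b659), ([.bwd 274, .bwd 273, .bwd 273, .mul 5, .fwd 489], 29, 0x36d36598616cb), ([.bwd 287, .mul 5, .fwd 282], 21, 0x1216cc85b2cb659), ([.bwd 273, .bwd 273, .mul 5, .fwd 489], 29, 0x34cc8618596cb), ([.bwd 273, .mul 5, .fwd 533], 29, 0x136616cb30c32165b), ([.bwd 273, .mul 5, .fwd 280], 19, 0x143216cb2d9661), ([.bwd 274, .mul 5, .fwd 333], 24, 0x89990b32165b2cb664), ([.mul 5, .fwd 288], 21, 0x369990c2db2d9), ([.bwd 287, .bwd 274, .mul 5, .fwd 280], 19, 0x26618596cc30b2d9), ([.mul 5, .fwd 333], 24, 0x16cc86190b30c), ([.bwd 287, .bwd 273, .mul 5, .fwd 280], 19, 0x44cb30c859661861659), ([.bwd 274, .bwd 274, .bwd 273, .mul 5, .fwd 280], 19, 0x5965b2cb6cb2cc)]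

/-- Witnesses at one node. -/
noncomputable def wit22 : List (List Ins × Nat × Nat) :=
  [([.mul 5, .fwd 294], 12, 0x34cb32190b659659), ([.bwd 300, .bwd 290, .mul 5, .fwd 521], 29, 0x1b6616cb659661), ([.bwd 291, .bwd 300, .mul 5, .fwd 303], 19, 0x21861), ([.bwd 291, .bwd 300, .bwd 290, .mul 5, .fwd 521], 29, 0x485b321861859), ([.mul 5, .fwd 299], 22, 276), ([.bwd 300, .mul 5, .fwd 303], 19, 0xda6cc2d96cb), ([.bwd 290, .mul 5, .fwd 301], 22, 0x16d965b321), ([.bwd 300, .bwd 290, .bwd 291, .bwd 290, .mul 5, .fwd 521], 29, 0x6cb3218596cb2cb), ([.bwd 291, .bwd 300, .bwd 291, .mul 5, .fwd 521], 29, 0x44cc861859), ([.bwd 291, .bwd 290, .mul 5, .fwd 301], 22, 0xdb50c861), ([.bwd 300, .mul 5, .fwd 326], 24, 0xda86190c8596cb659), ([.bwd 290, .bwd 291, .mul 5, .fwd 521], 29, 0x618643216d965b), ([.mul 5, .fwd 326], 24, 0xb30c2cb6cc864), ([.bwd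 291, .bwd 300, .bwd 291, .bwd 290, .mul 5, .fwd 521], 29, 0x90c8598616d9861), ([.bwd 300, .bwd 290, .bwd 291, .mul 5, .fwd 303], 19, 0xb2cb6cb2d985b), ([.mul 5, .fwd 521], 29, 0x899661859659), ([.bwd 291, .bwd 300, .bwd 291, .mul 5, .fwd 303], 19, 0x91432190c30c), ([.bwd 290, .mul 5, .fwd 521], 29, 0x136618642d965b321), ([.mul 5, .fwd 295], 20, 0x196cb30c2d9), ([.bwd 290, .bwd 291, .bwd 290, .bwd 291, .mul 5, .fwd 326], 24, 0x44d96cc2d9), ([.bwd 291, .mul 5, .fwd 326], 24, 0x1a6cc2d96d990c2d9), ([.bwd 291, .bwd 290, .bwd 291, .mul 5, .fwd 303], 19, 0x196cc32165b2cb661), ([.bwd 290, .bwd 291, .bwd 290, .mul 5, .fwd 521], 29, 0xda90b65b2d9864), ([.bwd 291, .bwd 300, .mul 5, .fwd 326], 24, 0xa190c85b3216d9), ([.bwd 300, .bwd 290, .bwd 291, .mul 5, .fwd 326], 24, 0x861659864321659), ([.bwd 300, .mul 5, .fwd 295], 20, 0x2452165b2cb661),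 ([.bwd 300, .bwd 291, .mul 5, .fwd 521], 29, 0x2450b2db2cc30b), ([.bwd 291, .mul 5, .fwd 521], 29, 0x36a190c86430c), ([.bwd 300, .bwd 291, .mul 5, .fwd 303], 19, 0x1b4db30b66430c), ([.bwd 290, .bwd 291, .bwd 290, .bwd 291, .mul 5, .fwd 303], 19, 0x65b2d990b664321), ([.bwd 290, .bwd 291, .mul 5, .fwd 326], 24, 0x10b6cc86185b2cc), ([.bwd 291, .bwd 300, .bwd 291, .mul 5, .fwd 326], 24, 0x6996cc85b32185b), ([.bwd 300, .bwd 291, .bwd 300, .mul 5, .fwd 521], 29, 0x9b30b6cb6cb6cb), ([.bwd 291, .bwd 290, .bwd 291, .mul 5, .fwd 521], 29, 0x2190c30b6596d9), ([.bwd 300, .bwd 291, .bwd 300, .bwd 291, .mul 5, .fwd 521], 29, 0x6643216d9), ([.bwd 300, .bwd 290, .bwd 291, .mul 5, .fwd 521], 29, 0x2cb32185965b2cb), ([.bwd 300, .mul 5, .fwd 521], 29, 0x44cc8596cb6cb2cb), ([.bwd 291, .bwd 290, .mul 5, .fwd 521], 29, 0x11430c85b2cb65b659), ([.bwd 290,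 .bwd 291, .bwd 290, .bwd 291, .mul 5, .fwd 521], 29, 0x1a90c2db321664), ([.bwd 291, .bwd 300, .mul 5, .fwd 301], 22, 0xa165b2cc85b661), ([.bwd 300, .bwd 291, .bwd 290, .mul 5, .fwd 521], 29, 0xcb6cc861859), ([.bwd 291, .bwd 290, .bwd 291, .mul 5, .fwd 326], 24, 0x244d98596cc2d9), ([.bwd 300, .mul 5, .fwd 301], 22, 0x6430b66430c2db), ([.bwd 290, .bwd 291, .mul 5, .fwd 303], 19, 0xa16cc3216cb2d96d9), ([.bwd 291, .bwd 300, .mul 5, .fwd 521], 29, 0x216d985965b2cb), ([.bwd 291, .mul 5, .fwd 303], 19, 0xcc861859661), ([.bwd 300, .bwd 291, .mul 5, .fwd 326], 24, 0xb6596d986190b65b), ([.bwd 300, .mul 5, .fwd 294], 12, 0x998642cb6596cc86190b), ([.mul 5, .fwd 301], 22, 0x1b6a18596d990c), ([.mul 5, .fwd 303], 19, 0x3321864321)]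

/-- Witnesses at one node. -/
noncomputable def wit23 : List (List Ins × Nat × Nat) :=
  [([.mul 5, .fwd 311], 23, 0xcb6616cb2db2db), ([.mul 5, .fwd 394], 27, 0x6cb66190c30b), ([.bwd 305, .mul 5, .fwd 317], 23, 0x6cc8616cb3216642cb), ([.bwd 306, .mul 5, .fwd 429], 27, 0x2d965b3218616d9), ([.bwd 306, .bwd 306, .mul 5, .fwd 398], 27, 0x6d32d985b2db), ([.bwd 306, .bwd 306, .mul 5, .fwd 431], 27, 0x85b30c8616cb32190b), ([.bwd 305, .mul 5, .fwd 431], 27, 0x86430c32165b2cc), ([.mul 5, .fwd 356], 25, 0x1b2cb2d96d965b2cb), ([.bwd 306, .bwd 306, .mul 5, .fwd 429], 27, 0x642cc8643216cc861), ([.bwd 305, .mul 5, .fwd 429], 27, 0x196cb65990b2d9661), ([.mul 5, .fwd 309], 17, 0xc86190c2cb2cc30c), ([.mul 5, .fwd 351], 25, 0xd96643216cc2cb664), ([.bwd 305, .mul 5, .fwd 398], 27, 0xcb6cc859861659), ([.bwd 305, .bwd 306, .bwd 306, .mul 5, .fwd 431],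 27, 0x1a8616cb6616d9), ([.bwd 305, .bwd 306, .mul 5, .fwd 394], 27, 0x1b6616cc32185b2db), ([.bwd 306, .bwd 306, .mul 5, .fwd 317], 23, 0x44cb30c8596cb2d9859), ([.bwd 305, .bwd 306, .mul 5, .fwd 311], 23, 0x44cc8642cc85b), ([.bwd 305, .bwd 306, .mul 5, .fwd 429], 27, 0x1332185b2cc30c), ([.bwd 305, .bwd 306, .bwd 306, .mul 5, .fwd 412], 27, 0xa16cb65990b2cb), ([.bwd 305, .bwd 306, .mul 5, .fwd 317], 23, 0x48a165990b30c2db), ([.bwd 305, .bwd 306, .bwd 306, .mul 5, .fwd 429], 27, 0x2d986430b2cb321), ([.bwd 306, .mul 5, .fwd 431], 27, 0xd33216d986190b), ([.bwd 306, .bwd 306, .mul 5, .fwd 311], 23, 0x330b2cb6cc), ([.bwd 306, .bwd 305, .mul 5, .fwd 431], 27, 0x6cb6616d965b2db), ([.bwd 305, .bwd 306, .bwd 305, .mul 5, .fwd 429], 27, 0x16cb661861), ([.bwd 306, .bwd 306, .bwd 305, .mul 5, .fwd 429], 27, 0xa43218616596d9), ([.mul 5, .fwd 398],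 27, 0x85b6616596d9659), ([.bwd 306, .mul 5, .fwd 398], 27, 0x11486190b6642d9), ([.bwd 306, .bwd 306, .bwd 306, .mul 5, .fwd 431], 27, 0x4cb66190b6596d9), ([.bwd 306, .bwd 306, .bwd 306, .mul 5, .fwd 429], 27, 0x89b65990b2d9664321), ([.bwd 306, .bwd 305, .mul 5, .fwd 429], 27, 0x1b50b65990b3216d9), ([.bwd 305, .bwd 306, .bwd 306, .mul 5, .fwd 311], 23, 0xb32190c2cb321), ([.bwd 305, .bwd 306, .mul 5, .fwd 412], 27, 0x48616d990c321859), ([.bwd 305, .bwd 306, .bwd 305, .mul 5, .fwd 431], 27, 0x34d96cc8598616d9), ([.bwd 306, .bwd 306, .mul 5, .fwd 412], 27, 0x1216cc2d98642cb664), ([.bwd 305, .bwd 306, .mul 5, .fwd 398], 27, 0x4db3218596cc), ([.bwd 306, .mul 5, .fwd 311], 23, 0x352190b30c2cb), ([.bwd 306, .bwd 306, .bwd 305, .mul 5, .fwd 431], 27, 0x48a190c2cb2d96cb), ([.bwd 306, .mul 5, .fwd 317], 23, 0x48a16d985965b32185b), ([.mul 5,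 .fwd 362], 25, 0xd330c8616cc321659), ([.bwd 306, .mul 5, .fwd 412], 27, 0xcb2db30b), ([.bwd 306, .mul 5, .fwd 394], 27, 0x244cb6596cc32185b), ([.bwd 306, .bwd 306, .mul 5, .fwd 394], 27, 0x69965b2db321661), ([.mul 5, .fwd 353], 25, 0x12186430b65990b), ([.bwd 305, .mul 5, .fwd 394], 27, 0x1136642d966430b664), ([.bwd 305, .bwd 306, .mul 5, .fwd 431], 27, 0x34d98596618596cb), ([.mul 5, .fwd 317], 23, 0x2450b2cc30c2db), ([.mul 5, .fwd 431], 27, 0x44db2cc8642cc), ([.mul 5, .fwd 429], 27, 0x8642db30b65b30c), ([.mul 5, .fwd 412], 27, 0x132cc3216642cb)]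

/-- Witnesses at one node. -/
noncomputable def wit24 : List (List Ins × Nat × Nat) :=
  [([.mul 5, .fwd 323], 15, 0x12166432166185b), ([.bwd 320, .bwd 319, .mul 5, .fwd 514], 29, 0xda85966190c2d9659), ([.bwd 319, .mul 5, .fwd 345], 19, 0x6cb65965b32185b30b), ([.bwd 320, .mul 5, .fwd 332], 19, 0x1486190c2cb661), ([.mul 5, .fwd 337], 24, 0x33218642cc30c), ([.bwd 320, .bwd 319, .mul 5, .fwd 344], 19, 0x216642cb2d965b), ([.bwd 320, .bwd 319, .mul 5, .fwd 336], 24, 0x26cb30c2d9664), ([.bwd 319, .mul 5, .fwd 327], 22, 0x2430b6cb66165b), ([.bwd 319, .mul 5, .fwd 536], 29, 0x185b2cb30c30b2db), ([.bwd 319, .mul 5, .fwd 336], 24, 0x50b6616d985965b), ([.bwd 319, .mul 5, .fwd 324], 20, 0x1b6642cb65986185b), ([.mul 5, .fwd 324], 20, 0x91486165b2cb2d9), ([.bwd 319, .mul 5, .fwd 346], 24, 0x4d96cc2d9859), ([.mul 5, .fwd 344], 19, 0x6d966185965b2db),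 ([.bwd 320, .mul 5, .fwd 484], 29, 0x5218596cb321861), ([.mul 5, .fwd 327], 22, 0x1366190b6cb6616cb), ([.mul 5, .fwd 332], 19, 0x12190c2d9), ([.bwd 319, .mul 5, .fwd 332], 19, 0x290b2db30c85b), ([.mul 5, .fwd 339], 19, 0x52166185b2cc), ([.bwd 320, .mul 5, .fwd 339], 19, 0x34d96d985965b2cc), ([.mul 5, .fwd 536], 29, 0x44cb6cc), ([.bwd 320, .mul 5, .fwd 502], 29, 0xd42d96cb321), ([.bwd 319, .mul 5, .fwd 344], 19, 0x643216cb6cc), ([.mul 5, .fwd 503], 29, 0x4d990b66430b), ([.mul 5, .fwd 484], 29, 0x366430c8598616cb), ([.mul 5, .fwd 538], 29, 0xd430c8642cb6596cc), ([.mul 5, .fwd 346], 24, 0x2166432186165b321), ([.mul 5, .fwd 343], 24, 0x26618642d9859), ([.bwd 319, .mul 5, .fwd 514], 29, 0x1b69b2cb66430b2cb), ([.bwd 319, .mul 5, .fwd 538], 29, 0x1b52190b2d965b), ([.bwd 320, .bwd 319, .mul 5, .fwd 484], 29, 0x42cb66190c2d985b), ([.bwd 320,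 .mul 5, .fwd 344], 19, 0x190b6cb6cb), ([.bwd 320, .bwd 319, .mul 5, .fwd 345], 19, 0x132d966430b65b2d9), ([.bwd 320, .mul 5, .fwd 503], 29, 0x330b6cc2cb2d96d9), ([.bwd 320, .bwd 319, .mul 5, .fwd 339], 19, 0x2290c85b2cb2d9661), ([.bwd 320, .mul 5, .fwd 343], 24, 0x90b65b30c864), ([.bwd 320, .bwd 319, .mul 5, .fwd 332], 19, 0x6a16cc2cb30c), ([.bwd 320, .mul 5, .fwd 514], 29, 0x36a430b2cc32165b), ([.bwd 319, .mul 5, .fwd 339], 19, 0x9b3216cb65b30b2d9), ([.mul 5, .fwd 338], 21, 0xb2d965986430b659), ([.mul 5, .fwd 345], 19, 0x9b2cb2cc30b659), ([.bwd 319, .mul 5, .fwd 484], 29, 0x2450b2cb66430c85b), ([.mul 5, .fwd 329], 24, 0x10c8618642d965b321), ([.mul 5, .fwd 331], 19, 0x8a42d965b321859), ([.mul 5, .fwd 514], 29, 0x1a6cb2cc30c2cb30c), ([.mul 5, .fwd 502], 29, 0x8a18596cb6642d9), ([.bwd 320, .mul 5, .fwd 345], 19, 0x36cb2cb30c30b2d9),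 ([.mul 5, .fwd 336], 24, 0xd96598642d965b2cb), ([.bwd 320, .mul 5, .fwd 336], 24, 0x2190c2cb66430c85b), ([.bwd 319, .mul 5, .fwd 331], 19, 0x1b32185b2cc85990b)]

/-- Witnesses at one node. -/
noncomputable def wit25 : List (List Ins × Nat × Nat) :=
  [([.mul 5, .fwd 350], 23, 0x350b6596cc86165b), ([.bwd 349, .bwd 348, .bwd 349, .bwd 348, .mul 5, .fwd 401], 27, 0x32cb2d990c861), ([.bwd 348, .bwd 349, .bwd 348, .mul 5, .fwd 401], 27, 0x6cb65986165b30b), ([.mul 5, .fwd 366], 25, 0x2432165b), ([.mul 5, .fwd 365], 17, 0x5b30b6cc2cb2d9), ([.bwd 349, .mul 5, .fwd 366], 25, 0x44d96cb2cb6cb), ([.mul 5, .fwd 421], 27, 0x11430b6cc2cb2d9659), ([.bwd 349, .bwd 348, .bwd 349, .bwd 348, .mul 5, .fwd 367], 25, 0xb2d985966430b2cb), ([.mul 5, .fwd 401], 27, 0x596cb66165b30c), ([.bwd 348, .bwd 349, .bwd 348, .mul 5, .fwd 421], 27, 0x9b6596cc86185b),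 ([.mul 5, .fwd 361], 23, 0x6430b65990b3216d9), ([.bwd 349, .bwd 348, .bwd 349, .mul 5, .fwd 407], 27, 0x450c8596cc85b2cc85b), ([.bwd 349, .mul 5, .fwd 407], 27, 0x28616d986190b661), ([.bwd 348, .bwd 349, .mul 5, .fwd 366], 25, 0x190c86430b65b2cb), ([.bwd 348, .bwd 349, .bwd 348, .bwd 349, .bwd 348, .mul 5, .fwd 400], 27, 0x1136cb2d990b664), ([.bwd 349, .bwd 348, .bwd 349, .mul 5, .fwd 366], 25, 0x4d965b66185b), ([.bwd 348, .bwd 349, .mul 5, .fwd 401], 27, 0x244d96cb6616d96d9), ([.bwd 348, .mul 5, .fwd 366], 25, 0x244db2cc30b2cb), ([.bwd 349, .bwd 348, .mul 5, .fwd 367], 25, 0x5990c2d96642cc859), ([.bwd 349, .mul 5, .fwd 400], 27, 0x2165b65965b), ([.bwd 348, .mul 5, .fwd 401], 27, 0x486430b6cc), ([.bwd 349, .mul 5, .fwd 422], 27, 0x142d96d96642cb664), ([.bwd 348, .bwd 349, .bwd 348, .bwd 349, .mul 5, .fwd 400], 27, 0x9142d966190c321),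 ([.bwd 349, .bwd 348, .mul 5, .fwd 400], 27, 0xd985b6642cc861659), ([.bwd 349, .bwd 348, .bwd 349, .mul 5, .fwd 401], 27, 0x1142cb2d96cc85b), ([.mul 5, .fwd 422], 27, 0x2285965b2cc85990b), ([.bwd 348, .bwd 349, .mul 5, .fwd 407], 27, 0xa18642d965b32185b), ([.bwd 348, .mul 5, .fwd 407], 27, 0xa42d990c30c), ([.mul 5, .fwd 400], 27, 0x485b6616d96cb), ([.bwd 348, .mul 5, .fwd 422], 27, 0x242cc8642cb65990b), ([.bwd 348, .bwd 349, .bwd 348, .bwd 349, .mul 5, .fwd 401], 27, 0x350b2cb6cb30c), ([.bwd 349, .bwd 348, .bwd 349, .mul 5, .fwd 400], 27, 0x1a6598642db2d9), ([.bwd 348, .mul 5, .fwd 367], 25, 0x430c32190b2d96cc), ([.bwd 348, .bwd 349, .bwd 348, .mul 5, .fwd 400], 27, 0x1b69b65b664), ([.bwd 348, .bwd 349, .bwd 348, .mul 5, .fwd 367], 25, 0x996cb32165b2cb661), ([.mul 5, .fwd 407], 27, 0xda6cb32185b30b661), ([.bwd 349, .mul 5, .fwd 401],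 27, 0x11365966190c321), ([.bwd 348, .mul 5, .fwd 400], 27, 0x2cb6cb30c321861), ([.bwd 348, .bwd 349, .mul 5, .fwd 400], 27, 0x14321661864321), ([.mul 5, .fwd 354], 23, 0x26cb2cc30c2d9664), ([.mul 5, .fwd 367], 25, 0x65b2db30c861861), ([.bwd 349, .bwd 348, .bwd 349, .bwd 348, .mul 5, .fwd 400], 27, 0x1226cb65965b), ([.bwd 349, .mul 5, .fwd 421], 27, 0x36d432186185b), ([.bwd 349, .bwd 348, .mul 5, .fwd 422], 27, 0x85986165b2cb664), ([.bwd 348, .bwd 349, .bwd 348, .bwd 349, .bwd 348, .mul 5, .fwd 401], 27, 0x196cb66430c321), ([.bwd 348, .bwd 349, .mul 5, .fwd 422], 27, 0x26cc8616cc3216cb661), ([.bwd 349, .bwd 348, .mul 5, .fwd 401], 27, 0x596cc3218642d9), ([.bwd 348, .mul 5, .fwd 421], 27, 0x2265b30c2cb661659), ([.bwd 349, .bwd 348, .mul 5, .fwd 421], 27, 0xcc32190b65990b), ([.mul 5, .fwd 358], 23, 0x12290b66430c85b)]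

/-- Witnesses at one node. -/
noncomputable def wit26 : List (List Ins × Nat × Nat) :=
  [([.mul 5, .fwd 440], 28, 0xcb6616cb2db2db), ([.bwd 372, .bwd 370, .mul 5, .fwd 453], 28, 0x859664), ([.mul 5, .fwd 388], 26, 0x12285966190b30c2d9), ([.bwd 370, .mul 5, .fwd 453], 28, 0x48596cc86190b2db), ([.mul 5, .fwd 387], 26, 0x89b2cb30c2db), ([.bwd 372, .mul 5, .fwd 452], 28, 0x1485965b2d9659), ([.mul 5, .fwd 384], 26, 0x4db2cc30c85b2cb321), ([.mul 5, .fwd 382], 26, 0x30b66432165b321859), ([.bwd 372, .mul 5, .fwd 444], 28, 0x226598642d96642d9), ([.bwd 370, .mul 5, .fwd 385], 26, 0x9965b2cc30c), ([.mul 5, .fwd 373], 26, 0x6c9), ([.mul 5, .fwd 383], 26, 0x85b2cb30c2d9), ([.mul 5, .fwd 571], 31, 0), ([.bwd 372, .bwd 370, .mul 5, .fwd 452], 28, 0xa432190b2d990b65b), ([.bwd 370, .mul 5, .fwd 452], 28, 0x4db2d96cb), ([.mul 5, .fwd 470], 28, 0x6190c30c85b2cb30c),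 ([.bwd 370, .mul 5, .fwd 375], 26, 0x616d986190c30b), ([.mul 5, .fwd 453], 28, 0x16618596cb3216cb), ([.bwd 370, .mul 5, .fwd 391], 26, 0x8a42d990c2d9), ([.bwd 370, .mul 5, .fwd 390], 26, 0x1a90c85b30b2cc), ([.bwd 372, .bwd 370, .mul 5, .fwd 444], 28, 0x148618642db), ([.bwd 370, .mul 5, .fwd 444], 28, 0x485b65b2cc8596cb), ([.mul 5, .fwd 376], 26, 0x198596cb2cb6642d9), ([.bwd 370, .mul 5, .fwd 446], 28, 0x26d96cb659664), ([.bwd 372, .mul 5, .fwd 376], 26, 0x148596cc2cb), ([.bwd 372, .mul 5, .fwd 446], 28, 0x36596618616d990c), ([.bwd 370, .mul 5, .fwd 571], 31, 0xcc2db321661861), ([.bwd 372, .mul 5, .fwd 571], 31, 0x1986430c30b65b2cc), ([.bwd 372, .mul 5, .fwd 375], 26, 0x16cb6cb6cb30c2cb), ([.bwd 372, .bwd 370, .mul 5, .fwd 446], 28, 0x216cc32186165990b), ([.bwd 372, .bwd 370, .mul 5, .fwd 376], 26, 0x186185b2d9659), ([.bwd 370, .mul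 5, .fwd 376], 26, 0xd48596cc321661859), ([.mul 5, .fwd 389], 26, 0x11365b2cb661861), ([.mul 5, .fwd 446], 28, 0x485990c8598616cb), ([.mul 5, .fwd 391], 26, 0x6a42cc30b65b2d9), ([.bwd 372, .bwd 370, .mul 5, .fwd 571], 31, 0x6d366190c30b), ([.mul 5, .fwd 375], 26, 0xcc30b6cb65b), ([.bwd 372, .bwd 370, .mul 5, .fwd 375], 26, 0xd96cb2d990c32185b), ([.mul 5, .fwd 390], 26, 0x65b2d965b321), ([.mul 5, .fwd 386], 26, 0xdb30c85b65b), ([.bwd 370, .mul 5, .fwd 389], 26, 0x36d32d9861659664), ([.mul 5, .fwd 452], 28, 0x32d966185965b659), ([.bwd 372, .mul 5, .fwd 440], 28, 0x5216cb65b30b2cb), ([.bwd 372, .mul 5, .fwd 470], 28, 0x85b2cc8642d9661), ([.bwd 372, .mul 5, .fwd 453], 28, 0x34db2cc30b2d9661), ([.mul 5, .fwd 444], 28, 0x6598616d9661861), ([.bwd 370, .mul 5, .fwd 388], 26, 0x1b6a185b66185b), ([.bwd 370, .mul 5, .fwd 384], 26, 0x6d330c2d96642cc861),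 ([.mul 5, .fwd 385], 26, 0xcb2db2cb2d990c), ([.bwd 372, .mul 5, .fwd 382], 26, 0x52185b2d96cc30b)]

/-- Witnesses at one node. -/
noncomputable def wit27 : List (List Ins × Nat × Nat) :=
  [([.mul 5, .fwd 396], 23, 0x42cb2d96642db), ([.mul 5, .fwd 409], 27, 0x2450c861659861859), ([.bwd 393, .mul 5, .fwd 437], 27, 0xa43216cb32165b2db), ([.mul 5, .fwd 399], 25, 0xb65b65b), ([.mul 5, .fwd 411], 27, 0x65b2d990c859861), ([.mul 5, .fwd 402], 25, 0x190b6616d965b30b), ([.mul 5, .fwd 414], 27, 0x16d986430c2cb6cc), ([.mul 5, .fwd 408], 25, 0x34cb6642d9664321), ([.mul 5, .fwd 415], 27, 0xd365b6596d9), ([.mul 5, .fwd 417], 27, 0x330b66186165b2cb), ([.mul 5, .fwd 413], 23, 0x9142d965b65b2cc), ([.mul 5, .fwd 406], 27, 0x996d986190c859), ([.bwd 393, .mul 5, .fwd 424], 27, 0x3216d965b2cc861), ([.bwd 393, .mul 5, .fwd 402], 25, 0xda6cc2db2db30b),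 ([.mul 5, .fwd 410], 27, 0x10b6596cb30c85b321), ([.mul 5, .fwd 397], 23, 0x430b2d985b321), ([.mul 5, .fwd 433], 27, 0xc2d985b2d985b659), ([.bwd 393, .mul 5, .fwd 399], 25, 0x91365b2cb6cc30c), ([.bwd 393, .mul 5, .fwd 428], 23, 0x6642cb66432165b30c), ([.bwd 393, .mul 5, .fwd 436], 27, 0x4d96642cb6643216d9), ([.bwd 393, .mul 5, .fwd 415], 27, 0x914861859661859), ([.mul 5, .fwd 434], 27, 0x1218616596cc30b2d9), ([.bwd 393, .mul 5, .fwd 432], 27, 0x26cc30c859659), ([.bwd 393, .mul 5, .fwd 416], 27, 0x34d9861859), ([.mul 5, .fwd 426], 27, 0x6598618596cb2cc), ([.bwd 393, .mul 5, .fwd 435], 27, 0x24521661864), ([.mul 5, .fwd 424], 27, 0x643216cb30c861), ([.mul 5, .fwd 425], 27, 0x30b65990b321861), ([.mul 5, .fwd 427], 27, 0x330b66190b659661), ([.mul 5, .fwd 435], 27, 0x2186432165b30c85b), ([.bwd 393, .mul 5, .fwd 426], 27, 0x8616d9859661861),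 ([.mul 5, .fwd 432], 27, 0x1136596d96cb2cc), ([.bwd 393, .mul 5, .fwd 430], 23, 0x26cc2d990c30b2d9), ([.mul 5, .fwd 416], 27, 0x33216d96618642d9), ([.mul 5, .fwd 428], 23, 0x642d9859661), ([.bwd 393, .mul 5, .fwd 425], 27, 0xa42db2d98642db), ([.bwd 393, .mul 5, .fwd 433], 27, 0x2266432190b2d990c), ([.bwd 393, .mul 5, .fwd 427], 27, 0x16cc3216cb), ([.mul 5, .fwd 436], 27, 0xcc8616cb6642d9664), ([.mul 5, .fwd 420], 25, 0x1985966186165b), ([.mul 5, .fwd 430], 23, 0xd990b2d985b30c), ([.bwd 393, .mul 5, .fwd 410], 27, 0x3216cb2cc86165b), ([.mul 5, .fwd 418], 27, 0x1b66190c859), ([.mul 5, .fwd 419], 27, 0x244db30c2cb661), ([.bwd 393, .mul 5, .fwd 409], 27, 0x6996cb66190b), ([.bwd 393, .mul 5, .fwd 434], 27, 0x1485b2cb661861659), ([.mul 5, .fwd 437], 27, 0x5b65986165b2cc859), ([.bwd 393, .mul 5, .fwd 414], 27, 0x32cc8643216cb661), ([.bwd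 393, .mul 5, .fwd 417], 27, 0x32d986165b2cb), ([.mul 5, .fwd 423], 25, 0x2430b2db321)]

/-- Witnesses at one node. -/
noncomputable def wit28 : List (List Ins × Nat × Nat) :=
  [([.mul 5, .fwd 441], 26, 0xcb6616cb2db2db), ([.mul 5, .fwd 577], 31, 0xb6642d965990b30c), ([.mul 5, .fwd 475], 28, 0x4cc30c85b321861859), ([.bwd 479, .mul 5, .fwd 454], 26, 0x4cc3216cb30c2cb), ([.bwd 479, .mul 5, .fwd 457], 28, 0x9b30c30b6cc30b), ([.mul 5, .fwd 455], 26, 0x36596cb66190c2cb), ([.bwd 479, .mul 5, .fwd 445], 26, 0x50c86190b6cb), ([.mul 5, .fwd 451], 28, 0x16cc85b2cc8642d9), ([.mul 5, .fwd 464], 28, 0x5965b66165b30b), ([.bwd 479, .bwd 439, .mul 5, .fwd 443], 26, 0x190c3216cb30c321), ([.mul 5, .fwd 462], 28, 0xcc2d9861659), ([.bwd 479, .mul 5, .fwd 441], 26, 0x10b6cb30c2cb), ([.bwd 439, .mul 5, .fwd 454], 26, 0x36616cc32185b664), ([.bwd 439, .mul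 5, .fwd 455], 26, 0x36a42cc8596cb), ([.bwd 479, .bwd 439, .mul 5, .fwd 577], 31, 0x85b2d966185b659), ([.mul 5, .fwd 457], 28, 0x4d9), ([.mul 5, .fwd 466], 28, 0xd33218596cb2db), ([.bwd 479, .bwd 439, .mul 5, .fwd 454], 26, 0x10c2cb66432190b2d9), ([.mul 5, .fwd 474], 28, 0x16cb321864), ([.bwd 479, .mul 5, .fwd 477], 28, 0x226cb659861659861), ([.bwd 439, .mul 5, .fwd 464], 28, 0x66165b30b2d9664), ([.mul 5, .fwd 477], 28, 0xa18596cc2cb2cc321), ([.mul 5, .fwd 465], 28, 0x242d965b66165b), ([.mul 5, .fwd 467], 28, 0x6430c85b65b), ([.bwd 439, .mul 5, .fwd 445], 26, 0x1965b3216cb2db2cb), ([.bwd 479, .bwd 439, .mul 5, .fwd 475], 28, 0x1985965b2cb661), ([.mul 5, .fwd 454], 26, 0x1366190c30b6cb659), ([.bwd 479, .mul 5, .fwd 455], 26, 0x42cb3216642cb664), ([.mul 5, .fwd 443], 26, 0xa16d985b30b2d9661), ([.bwd 479, .mul 5, .fwd 475], 28, 0x69990b30c2cb661859),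 ([.mul 5, .fwd 445], 26, 0x136616cb2d9), ([.bwd 439, .mul 5, .fwd 465], 28, 0x5216d9659861), ([.mul 5, .fwd 473], 28, 0x12285b65990c), ([.bwd 439, .mul 5, .fwd 467], 28, 0x90b6642d9664), ([.bwd 439, .mul 5, .fwd 474], 28, 0xa16d990c30c85b2cb), ([.bwd 479, .bwd 439, .mul 5, .fwd 455], 26, 0x32cb2d986190b), ([.bwd 439, .mul 5, .fwd 466], 28, 0x2d96d986165b), ([.bwd 439, .mul 5, .fwd 443], 26, 0x196cc2d9861859), ([.bwd 479, .bwd 439, .mul 5, .fwd 477], 28, 0xd366190b66430c), ([.mul 5, .fwd 469], 26, 0x90b66430c2cb2d9), ([.bwd 439, .mul 5, .fwd 473], 28, 0x85990b6cb32165b), ([.bwd 479, .mul 5, .fwd 577], 31, 0x133216cb2cb6cb2cc), ([.mul 5, .fwd 468], 28, 0xdb50c861), ([.mul 5, .fwd 471], 28, 0x1148618642d965b2db), ([.bwd 439, .mul 5, .fwd 577], 31, 0x6cb2db2db30b), ([.bwd 439, .mul 5, .fwd 477], 28, 0x6642cb65990b65b), ([.bwd 439, .mul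 5, .fwd 475], 28, 0x1485b6596cc321), ([.bwd 479, .bwd 439, .mul 5, .fwd 445], 26, 0xc8596cb30c2d9), ([.bwd 479, .mul 5, .fwd 443], 26, 0x1986190b2d990c), ([.bwd 479, .mul 5, .fwd 469], 26, 0x42d96cc86190b2d9)]

/-- Witnesses at one node. -/
noncomputable def wit29 : List (List Ins × Nat × Nat) :=
  [([.mul 5, .fwd 481], 19, 4), ([.mul 5, .fwd 495], 24, 0x24521659661861), ([.bwd 549, .mul 5, .fwd 497], 19, 0x12290b32165b), ([.bwd 549, .mul 5, .fwd 496], 19, 0xcc30b6cb2cc), ([.bwd 549, .mul 5, .fwd 506], 29, 0x9965b2cc30b2d9), ([.mul 5, .fwd 486], 24, 0x2265986190c), ([.mul 5, .fwd 497], 19, 0x1430c2d96cc30b), ([.bwd 549, .mul 5, .fwd 518], 22, 0x196cb6616d96cb), ([.mul 5, .fwd 520], 24, 0xd485b66165b2cb), ([.bwd 549, .mul 5, .fwd 517], 29, 0x90c2cb30c85990b), ([.bwd 549, .mul 5, .fwd 511], 29, 0x89b30b66190b2cb), ([.mul 5, .fwd 519],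 19, 0x1228642d9661864), ([.mul 5, .fwd 537], 24, 0x4cb6598642d9659), ([.mul 5, .fwd 522], 29, 0x148616d9659), ([.bwd 549, .mul 5, .fwd 512], 29, 0x136cb2cc30c85b2d9), ([.mul 5, .fwd 518], 22, 0x12290b2d96642cb65b), ([.mul 5, .fwd 500], 19, 0x1148616596cb2cc), ([.mul 5, .fwd 485], 29, 0x1a8596cb2db30c), ([.mul 5, .fwd 510], 29, 0x69b30c8598616cb), ([.mul 5, .fwd 492], 19, 0xa430b65966185b2cc), ([.mul 5, .fwd 506], 29, 0x44d96cc2cb30c2cb), ([.mul 5, .fwd 516], 19, 0x44d96d990c3216cb), ([.mul 5, .fwd 525], 21, 0x52166430b6cc2cb), ([.mul 5, .fwd 545], 29, 0x121864), ([.mul 5, .fwd 512], 29, 0x5986430b659664), ([.mul 5, .fwd 482], 20, 0xda90c2db30b2cb661), ([.bwd 549, .mul 5, .fwd 481], 19, 0x1b30c2cb661859659), ([.bwd 549, .mul 5, .fwd 492], 19, 0x16cb32186165b661), ([.bwd 549, .mul 5, .fwd 490], 19, 0xda90c30b2db), ([.mul 5, .fwd 530],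 29, 0x290b65990c8616cb), ([.mul 5, .fwd 511], 29, 0xc85b2cb2db2d9864), ([.bwd 549, .mul 5, .fwd 516], 19, 0x26cc85b2cb65990c), ([.mul 5, .fwd 517], 29, 0x28642db30c8596d9), ([.mul 5, .fwd 504], 24, 0x2cc86430b6cb2d9), ([.mul 5, .fwd 543], 29, 0x8a18642cb6596cc), ([.bwd 549, .mul 5, .fwd 510], 29, 0xb6cc2db), ([.bwd 549, .mul 5, .fwd 483], 20, 0x4d986430c85b2cb), ([.mul 5, .fwd 547], 24, 0xdb4db2cc30c85b321), ([.mul 5, .fwd 505], 21, 0x65b2cc85965b2cb), ([.bwd 549, .mul 5, .fwd 482], 20, 0x16cc8642d96596d9), ([.bwd 549, .mul 5, .fwd 500], 19, 0x148642d96598616cb), ([.bwd 549, .mul 5, .fwd 519], 19, 0x485990b2d96cc85b), ([.mul 5, .fwd 508], 29, 0x4db2cb65990c864), ([.mul 5, .fwd 490], 19, 0x330b2d96596cc864), ([.bwd 549, .mul 5, .fwd 547], 24, 0x12185b661659861), ([.bwd 549, .mul 5, .fwd 522], 29, 0x5b30b66190c861861), ([.mul 5, .fwd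 496], 19, 0x1430c8616596cb6cb), ([.mul 5, .fwd 483], 20, 0x44d9664321859661), ([.bwd 549, .mul 5, .fwd 485], 29, 0x48a430b65990b2d9), ([.bwd 549, .mul 5, .fwd 495], 24, 0x9142d9661)]

/-- Witnesses at one node. -/
noncomputable def wit30 : List (List Ins × Nat × Nat) :=
  [([.mul 5, .fwd 558], 30, 0x8a16d986185b2cb), ([.mul 5, .fwd 560], 30, 265), ([.bwd 557, .mul 5, .fwd 558], 30, 0x6a1859664), ([.bwd 557, .bwd 556, .bwd 555, .mul 5, .fwd 561], 30, 0x2290b66430b66430b), ([.bwd 555, .mul 5, .fwd 561], 30, 0x1148596cc86190b321), ([.bwd 557, .mul 5, .fwd 565], 30, 0x12265b3216cc), ([.bwd 555, .bwd 570, .mul 5, .fwd 566], 30, 0x10c30b2cb30c861), ([.mul 5, .fwd 565], 30, 0x32d966190b659), ([.bwd 557, .bwd 555, .bwd 555, .mul 5, .fwd 566], 30, 0x11430b2cb30c861), ([.bwd 555, .bwd 556, .mul 5, .fwd 566], 30, 0x290c85b321), ([.bwd 570, .bwd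 555, .bwd 555, .mul 5, .fwd 566], 30, 0x6185965b), ([.bwd 557, .bwd 556, .bwd 556, .mul 5, .fwd 561], 30, 0x1b69b2cc8596cc), ([.bwd 570, .bwd 555, .mul 5, .fwd 566], 30, 0x596cb2d9859), ([.bwd 556, .bwd 555, .mul 5, .fwd 566], 30, 0x12186430b2cb65b), ([.bwd 555, .bwd 557, .mul 5, .fwd 566], 30, 0xa185965b), ([.mul 5, .fwd 566], 30, 0x5b2d990b65990b), ([.bwd 570, .mul 5, .fwd 566], 30, 0x10b6596618642db), ([.bwd 570, .bwd 557, .bwd 555, .mul 5, .fwd 566], 30, 0x4d9659861859664), ([.bwd 555, .mul 5, .fwd 566], 30, 0x330c32185b659), ([.bwd 570, .bwd 556, .bwd 556, .mul 5, .fwd 566], 30, 0x50b66190b6596cb6cb), ([.bwd 557, .bwd 556, .mul 5, .fwd 561], 30, 0x36d48616cb6cb), ([.bwd 556, .bwd 555, .mul 5, .fwd 561], 30, 0x3218642d990c2db), ([.bwd 556, .bwd 556, .bwd 555, .mul 5, .fwd 566], 30, 0x1148616cb664321), ([.mul 5, .fwd 603], 32,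 0xcb2db2cb), ([.bwd 555, .bwd 570, .bwd 556, .mul 5, .fwd 566], 30, 0x6643216618642db), ([.bwd 556, .mul 5, .fwd 561], 30, 0x430b65b30c86165b), ([.bwd 555, .bwd 555, .mul 5, .fwd 565], 30, 0x48a190b2d96cc), ([.bwd 555, .mul 5, .fwd 603], 32, 0x6432165b2d966430c), ([.bwd 570, .bwd 557, .mul 5, .fwd 566], 30, 0x226cb30c321659664), ([.bwd 555, .bwd 555, .mul 5, .fwd 561], 30, 0x50b2cb30c8616cb661), ([.bwd 556, .mul 5, .fwd 565], 30, 0x596cb2d990c321), ([.bwd 570, .bwd 556, .bwd 555, .mul 5, .fwd 566], 30, 0x1136cc32165b2cc30b), ([.bwd 557, .bwd 555, .mul 5, .fwd 566], 30, 0x10b66190c2d98642d9), ([.bwd 555, .bwd 555, .mul 5, .fwd 566], 30, 0x65b2cc3216d9659), ([.bwd 555, .bwd 557, .mul 5, .fwd 561], 30, 0x186430b6598616d9), ([.bwd 555, .bwd 570, .bwd 555, .mul 5, .fwd 566], 30, 0xd485b2cc85b2d9859), ([.bwd 556, .mul 5, .fwd 566], 30,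 0x996d990b65965b), ([.bwd 557, .mul 5, .fwd 603], 32, 0x32db2cc30b2d990b), ([.bwd 555, .bwd 555, .bwd 570, .mul 5, .fwd 566], 30, 0x3216596d985965b), ([.bwd 557, .mul 5, .fwd 566], 30, 0xcc85b2cc85b2d9859), ([.bwd 557, .bwd 555, .mul 5, .fwd 603], 32, 0x32d96cb30c2cb30c), ([.bwd 556, .bwd 556, .mul 5, .fwd 566], 30, 0x290b6cb6cb2cc30b), ([.bwd 570, .bwd 556, .mul 5, .fwd 566], 30, 0x85b661659), ([.mul 5, .fwd 561], 30, 0x6da90b6596d9659), ([.bwd 557, .bwd 555, .mul 5, .fwd 561], 30, 0x1b6a190b6cb), ([.mul 5, .fwd 568], 30, 0x1142cb2db2cb65b), ([.bwd 556, .bwd 555, .mul 5, .fwd 565], 30, 0x8a430c2cb321859), ([.bwd 557, .mul 5, .fwd 561], 30, 0x26d965b2db), ([.bwd 555, .mul 5, .fwd 565], 30, 0x450c8616cb321), ([.bwd 556, .bwd 556, .mul 5, .fwd 561], 30, 0x1226d98616d9)]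

/-- Witnesses at one node. -/
noncomputable def wit31 : List (List Ins × Nat × Nat) :=
  [([.mul 5, .fwd 573], 26, 0x290c321661861), ([.bwd 601, .bwd 601, .bwd 601, .bwd 601, .bwd 601, .bwd 601, .bwd 601, .bwd 601, .bwd 601, .bwd 601, .bwd 601, .bwd 601, .bwd 601, .bwd 601, .bwd 601, .mul 5, .fwd 582], 28, 0x8642d965b2cb), ([.bwd 601, .bwd 601, .bwd 601, .bwd 601, .bwd 601, .bwd 601, .bwd 601, .bwd 601, .mul 5, .fwd 582], 28, 0x142cb6cc2cb30c), ([.bwd 601, .bwd 601, .bwd 601, .bwd 601, .bwd 601, .bwd 601, .bwd 601, .bwd 601, .bwd 601, .bwd 601, .bwd 601, .bwd 601, .bwd 601, .bwd 601, .bwd 601, .bwd 601, .bwd 601, .bwd 601, .mul 5, .fwd 573], 26, 0x1a6cb3216d96cb), ([.bwd 601, .bwd 601, .bwd 601, .bwd 601, .bwd 601, .bwd 601, .bwd 601, .bwd 601, .bwd 601, .bwd 601, .bwd 601, .bwd 601, .mul 5, .fwd 582], 28, 0x69965b65986190c), ([.bwd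 601, .bwd 601, .bwd 601, .mul 5, .fwd 592], 31, 0x228596618643216d9), ([.mul 5, .fwd 592], 31, 0x44cc85986165b), ([.bwd 601, .bwd 601, .bwd 601, .bwd 601, .bwd 601, .mul 5, .fwd 573], 26, 0x86430b6596cb), ([.bwd 601, .bwd 601, .bwd 601, .bwd 601, .bwd 601, .bwd 601, .bwd 601, .bwd 601, .bwd 601, .bwd 601, .bwd 601, .bwd 601, .bwd 601, .bwd 601, .mul 5, .fwd 573], 26, 0x2190b2d990b30c2cb), ([.bwd 601, .bwd 601, .bwd 601, .bwd 601, .bwd 601, .bwd 601, .bwd 601, .bwd 601, .bwd 601, .bwd 601, .bwd 601, .bwd 601, .bwd 601, .mul 5, .fwd 573], 26, 0x2185966190c2d9659), ([.bwd 601, .bwd 601, .bwd 601, .bwd 601, .bwd 601, .bwd 601, .bwd 601, .bwd 601, .bwd 601, .bwd 601, .bwd 601, .bwd 601, .bwd 601, .bwd 601, .bwd 601, .bwd 601, .bwd 601, .bwd 601, .mul 5, .fwd 582], 28, 0x36cc2db2cb65b30c), ([.bwd 601, .bwd 601, .bwd 601, .bwd 601, .bwd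 601, .bwd 601, .bwd 601, .bwd 601, .bwd 601, .bwd 601, .bwd 601, .bwd 601, .bwd 601, .bwd 601, .bwd 601, .mul 5, .fwd 573], 26, 0x42db30c30b), ([.bwd 601, .bwd 601, .bwd 601, .bwd 601, .mul 5, .fwd 586], 31, 0xc86432166430b), ([.bwd 601, .bwd 601, .mul 5, .fwd 582], 28, 0x36cc8616cc2d9659), ([.bwd 601, .mul 5, .fwd 573], 26, 0x136cc8642d990c2cb), ([.bwd 601, .bwd 601, .bwd 601, .bwd 601, .bwd 601, .bwd 601, .bwd 601, .bwd 601, .bwd 601, .bwd 601, .bwd 601, .mul 5, .fwd 573], 26, 0x430c2db32186165b), ([.bwd 601, .bwd 601, .bwd 601, .bwd 601, .bwd 601, .bwd 601, .bwd 601, .bwd 601, .bwd 601, .bwd 601, .mul 5, .fwd 573], 26, 0x190c30b2cb661861), ([.bwd 601, .bwd 601, .bwd 601, .bwd 601, .bwd 601, .bwd 601, .bwd 601, .bwd 601, .bwd 601, .bwd 601, .bwd 601, .bwd 601, .bwd 601, .bwd 601, .bwd 601, .bwd 601, .bwd 601, .mul 5, .fwd 573],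 26, 0x89990b6cc30c85b2cb), ([.bwd 601, .bwd 601, .bwd 601, .bwd 601, .bwd 601, .bwd 601, .bwd 601, .bwd 601, .mul 5, .fwd 573], 26, 0x1a8616d965b), ([.bwd 601, .bwd 601, .bwd 601, .bwd 601, .bwd 601, .bwd 601, .bwd 601, .bwd 601, .bwd 601, .bwd 601, .bwd 601, .bwd 601, .bwd 601, .bwd 601, .mul 5, .fwd 582], 28, 0x1b69b32190c8642d9), ([.bwd 601, .bwd 601, .bwd 601, .bwd 601, .bwd 601, .bwd 601, .bwd 601, .bwd 601, .bwd 601, .bwd 601, .bwd 601, .bwd 601, .bwd 601, .bwd 601, .bwd 601, .bwd 601, .mul 5, .fwd 582], 28, 0x8996cc3216cb321), ([.bwd 601, .bwd 601, .bwd 601, .bwd 601, .bwd 601, .bwd 601, .bwd 601, .bwd 601, .bwd 601, .bwd 601, .bwd 601, .bwd 601, .bwd 601, .bwd 601, .bwd 601, .bwd 601, .bwd 601, .bwd 601, .bwd 601, .mul 5, .fwd 582], 28, 0x1226d985b2d9861859), ([.bwd 601, .bwd 601, .mul 5, .fwd 586], 31, 0x486190c8596cb), ([.bwd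 601, .bwd 601, .bwd 601, .bwd 601, .bwd 601, .bwd 601, .bwd 601, .bwd 601, .bwd 601, .bwd 601, .bwd 601, .bwd 601, .mul 5, .fwd 573], 26, 0x1a6cb6cc2d96cc), ([.bwd 601, .mul 5, .fwd 582], 28, 0x48a16598642cb65b), ([.bwd 601, .bwd 601, .bwd 601, .bwd 601, .mul 5, .fwd 573], 26, 0x6642cc30c2d985b), ([.bwd 601, .bwd 601, .bwd 601, .mul 5, .fwd 573], 26, 0x2290b2d96cb321), ([.bwd 601, .bwd 601, .bwd 601, .bwd 601, .bwd 601, .bwd 601, .bwd 601, .bwd 601, .bwd 601, .mul 5, .fwd 582], 28, 0x36d330c321659661), ([.bwd 601, .bwd 601, .bwd 601, .bwd 601, .bwd 601, .bwd 601, .bwd 601, .mul 5, .fwd 573], 26, 0x10c2d96cb3216642d9), ([.bwd 601, .bwd 601, .bwd 601, .bwd 601, .bwd 601, .bwd 601, .bwd 601, .bwd 601, .bwd 601, .bwd 601, .bwd 601, .bwd 601, .bwd 601, .mul 5, .fwd 582], 28, 0x10b2db30b2cb664), ([.bwd 601, .bwd 601, .bwd 601, .mul 5, .fwd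 582], 28, 0x1226618596cb321861), ([.bwd 601, .bwd 601, .bwd 601, .mul 5, .fwd 586], 31, 0xcc8616cb32190b664), ([.bwd 601, .bwd 601, .bwd 601, .bwd 601, .bwd 601, .bwd 601, .mul 5, .fwd 573], 26, 0x3664321659661), ([.bwd 601, .bwd 601, .mul 5, .fwd 592], 31, 0xb2d986430b6616d9), ([.bwd 601, .mul 5, .fwd 592], 31, 0x2cc30b65b30b2d9861), ([.bwd 601, .bwd 601, .bwd 601, .bwd 601, .bwd 601, .bwd 601, .bwd 601, .bwd 601, .bwd 601, .bwd 601, .bwd 601, .mul 5, .fwd 582], 28, 0x24521661861659861), ([.bwd 601, .bwd 601, .bwd 601, .bwd 601, .mul 5, .fwd 592], 31, 0x6cc8616596d9661), ([.bwd 601, .mul 5, .fwd 586], 31, 0xd36596cc2cb661), ([.bwd 601, .bwd 601, .bwd 601, .bwd 601, .bwd 601, .mul 5, .fwd 582], 28, 0x132d96cc32165b2cb), ([.bwd 601, .bwd 601, .bwd 601, .bwd 601, .bwd 601, .bwd 601, .bwd 601, .bwd 601, .bwd 601, .bwd 601, .bwd 601,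 .bwd 601, .bwd 601, .bwd 601, .bwd 601, .bwd 601, .bwd 601, .bwd 601, .bwd 601, .mul 5, .fwd 573], 26, 0x642d96cc30c), ([.bwd 601, .bwd 601, .bwd 601, .bwd 601, .bwd 601, .bwd 601, .mul 5, .fwd 582], 28, 0x185b2d96cc85b2cb2d9), ([.bwd 601, .bwd 601, .bwd 601, .bwd 601, .bwd 601, .bwd 601, .bwd 601, .bwd 601, .bwd 601, .bwd 601, .bwd 601, .bwd 601, .bwd 601, .bwd 601, .bwd 601, .bwd 601, .bwd 601, .mul 5, .fwd 582], 28, 0x216cb32165b2db2cc), ([.bwd 601, .bwd 601, .bwd 601, .bwd 601, .mul 5, .fwd 582], 28, 0x190c2cb2d965b659), ([.mul 5, .fwd 586], 31, 0x6a432186165b2cc30c), ([.bwd 601, .bwd 601, .bwd 601, .bwd 601, .bwd 601, .bwd 601, .bwd 601, .bwd 601, .bwd 601, .mul 5, .fwd 573], 26, 0x450b659864321), ([.bwd 601, .bwd 601, .bwd 601, .bwd 601, .bwd 601, .bwd 601, .bwd 601, .bwd 601, .bwd 601, .bwd 601, .bwd 601, .bwd 601, .bwd 601,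 .bwd 601, .bwd 601, .bwd 601, .mul 5, .fwd 573], 26, 0x50c2cb2d986430b661), ([.bwd 601, .bwd 601, .bwd 601, .bwd 601, .bwd 601, .bwd 601, .bwd 601, .mul 5, .fwd 582], 28, 0x16d96598642cc), ([.mul 5, .fwd 582], 28, 0xb2cb32165b2d9864), ([.bwd 601, .bwd 601, .mul 5, .fwd 573], 26, 0x430c30b6596cb), ([.bwd 601, .bwd 601, .bwd 601, .bwd 601, .bwd 601, .bwd 601, .bwd 601, .bwd 601, .bwd 601, .bwd 601, .mul 5, .fwd 582], 28, 0x8616596d965b2cb)]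

/-- Witnesses at one node. -/
noncomputable def wit32 : List (List Ins × Nat × Nat) :=
  [([.mul 5, .fwd 609], 30, 0x1b4cb65990b65990b), ([.bwd 617, .bwd 607, .bwd 617, .bwd 617, .bwd 607, .bwd 617, .mul 5, .fwd 609], 30, 0x10c30c2cb65990c30b), ([.bwd 617, .bwd 604, .bwd 617, .bwd 617, .bwd 607, .bwd 617, .mul 5, .fwd 609], 30, 0x1a90b2d990b659659), ([.bwd 604, .bwd 617, .bwd 617, .bwd 607, .bwd 617, .mul 5, .fwd 609], 30, 0x4d990c859659864), ([.bwd 607, .bwd 617, .mul 5, .fwd 609], 30, 0x228642cb6596cc2cb), ([.bwd 617, .bwd 617, .bwd 604, .bwd 617, .mul 5, .fwd 609], 30, 0xd42d96d96596cc861), ([.bwd 607, .bwd 617, .mul 5, .fwd 618], 32, 0x36996cb32190c2db), ([.bwd 607, .bwd 617, .bwd 617, .bwd 607, .bwd 617, .mul 5, .fwd 609], 30, 0x286430b6596cc861), ([.bwd 617, .bwd 607, .bwd 617, .mul 5, .fwd 609], 30, 0xcb65b65965b2cc), ([.bwd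 607, .bwd 617, .bwd 607, .bwd 617, .mul 5, .fwd 609], 30, 0xd36cb2db30c), ([.bwd 607, .bwd 606, .bwd 617, .bwd 607, .bwd 617, .mul 5, .fwd 609], 30, 0x2190b3216cb30c2cb659), ([.bwd 617, .bwd 617, .bwd 607, .bwd 617, .mul 5, .fwd 609], 30, 0xd990b66430c85b661), ([.bwd 606, .bwd 617, .bwd 604, .bwd 617, .mul 5, .fwd 609], 30, 0x242cb30c8616596cb), ([.bwd 607, .bwd 606, .bwd 617, .bwd 617, .mul 5, .fwd 609], 30, 0x9965b6616596cc861), ([.bwd 617, .bwd 604, .bwd 617, .mul 5, .fwd 609], 30, 0x10b6cc32190b30c), ([.bwd 607, .bwd 606, .bwd 617, .mul 5, .fwd 618], 32, 0x50c85b2cb30c2cb), ([.bwd 606, .bwd 604, .bwd 617, .bwd 604, .bwd 617, .mul 5, .fwd 609], 30, 0x6cb2cc30b6cb32165b), ([.bwd 617, .bwd 604, .bwd 617, .bwd 604, .bwd 617, .mul 5, .fwd 609], 30, 0x48642d965990c2d9), ([.bwd 606, .bwd 617, .bwd 617, .mul 5, .fwd 609], 30, 0x486190c2d990c2d9),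 ([.bwd 606, .bwd 617, .bwd 607, .bwd 617, .mul 5, .fwd 609], 30, 0x2d98596cc30b2cb), ([.bwd 606, .bwd 617, .bwd 606, .bwd 604, .bwd 617, .mul 5, .fwd 609], 30, 0xda90c859659864), ([.bwd 604, .bwd 617, .mul 5, .fwd 609], 30, 0x2450c85966186165b), ([.bwd 606, .bwd 604, .bwd 617, .bwd 617, .mul 5, .fwd 609], 30, 0xb6596cc861), ([.bwd 617, .bwd 617, .bwd 617, .mul 5, .fwd 609], 30, 0x4cb2d990c30b2db321), ([.bwd 617, .mul 5, .fwd 618], 32, 0x452165b2cc30c2d9), ([.bwd 606, .bwd 617, .mul 5, .fwd 609], 30, 0x2430c2db2cb), ([.bwd 617, .bwd 606, .bwd 604, .bwd 617, .mul 5, .fwd 609], 30, 0xa42d990c85b659), ([.bwd 604, .bwd 617, .bwd 604, .bwd 617, .mul 5, .fwd 618], 32, 0x48a16cc32190b), ([.bwd 604, .bwd 617, .mul 5, .fwd 618], 32, 0xa186432165b2cb664), ([.bwd 617, .mul 5, .fwd 609], 30, 0x218596598616d965b), ([.bwd 604, .bwd 617, .bwd 617,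 .bwd 604, .bwd 617, .mul 5, .fwd 609], 30, 0x186430b66190c2db), ([.bwd 606, .bwd 604, .bwd 617, .bwd 607, .bwd 617, .mul 5, .fwd 609], 30, 0x30b66165b321859), ([.bwd 604, .bwd 617, .bwd 607, .bwd 617, .mul 5, .fwd 609], 30, 0x2430c2db2cc), ([.bwd 604, .bwd 617, .bwd 604, .bwd 617, .mul 5, .fwd 609], 30, 0x89966190c85b), ([.bwd 617, .bwd 607, .bwd 606, .bwd 617, .mul 5, .fwd 609], 30, 0x2166430c2cb661859), ([.bwd 604, .bwd 617, .bwd 617, .mul 5, .fwd 609], 30, 0x18596cc86165b65b), ([.bwd 606, .bwd 604, .bwd 617, .mul 5, .fwd 618], 32, 0x330c2db30c321659), ([.bwd 617, .bwd 604, .bwd 617, .mul 5, .fwd 618], 32, 0x36cc8642cb66190c), ([.bwd 617, .bwd 617, .mul 5, .fwd 609], 30, 0xda90c85b2cb30c), ([.bwd 607, .bwd 617, .bwd 604, .bwd 617, .mul 5, .fwd 609], 30, 0x66185b659), ([.bwd 617, .bwd 607, .bwd 617, .mul 5, .fwd 618], 32, 0x1485b2cc30b2d9661),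 ([.bwd 606, .bwd 617, .mul 5, .fwd 618], 32, 0x10c30c2d96618642cb), ([.bwd 607, .bwd 617, .bwd 617, .mul 5, .fwd 609], 30, 0x44cc30b6cc30c85b), ([.bwd 606, .bwd 604, .bwd 617, .mul 5, .fwd 609], 30, 0x66165b2db321), ([.bwd 604, .bwd 617, .bwd 607, .bwd 606, .bwd 617, .mul 5, .fwd 609], 30, 0x10b66430b2d96cb), ([.mul 5, .fwd 618], 32, 0x6a16598642d96642d9), ([.bwd 617, .bwd 607, .bwd 617, .bwd 617, .mul 5, .fwd 609], 30, 0x285b65b2cb30c30b), ([.bwd 617, .bwd 604, .bwd 617, .bwd 617, .mul 5, .fwd 609], 30, 0x50b2cb65b2cc864), ([.bwd 607, .bwd 617, .bwd 607, .bwd 606, .bwd 617, .mul 5, .fwd 609], 30, 0x2cb6616d96cb), ([.bwd 607, .bwd 606, .bwd 617, .mul 5, .fwd 609], 30, 0x28642db30c864)]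

/-- Witnesses. -/
noncomputable def wit : List (List (List Ins × Nat × Nat)) :=
  [wit0, wit1, wit2, wit3, wit4, wit5, wit6, wit7, wit8, wit9, wit10, wit11, wit12, wit13, wit14, wit15, wit16, wit17, wit18, wit19, wit20, wit21, wit22, wit23, wit24, wit25, wit26, wit27, wit28, wit29, wit30, wit31, wit32]

end Cfsg.Agent.HNWord66.HNData
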