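import Cfsg.Agent.Lib.HNTwoHSGroup66

/-!
Words in the three generators of the double cover of HS:2, evaluated in a table of permutations.

Letters: `0` is the first generator, `1` its inverse, `2` the second, `3` its inverse, `4` the third.
Packed words hold one letter plus one in each three bits.
-/

set_option autoImplicit false

namespace Cfsg.Agent.HNWord66

open Cfsg.Agent.CosetCertCore Cfsg.Agent.CosetCertTable Cfsg.Agent.HNTwoHSGroup66

/-- The inverse letter. -/
def il : Nat → Nat
  | 0 => 1
  | 1 => 0
  | 2 => 3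
  | 3 => 2
  | n => n

/-- The value of a letter. -/
def gl : Nat → P3
  | 0 => gA
  | 1 => gA⁻¹
  | 2 => gB
  | 3 => gB⁻¹
  | 4 => gC
  | _ => 1

/-- The value of a word. -/
def val (w : List Nat) : P3 := (w.map gl).prod

theorem val_nil : val [] = 1 := rfl

theorem val_cons (a : Nat) (w : List Nat) : val (a :: w) = gl a * val w := by
  simp [val]

theorem val_append (v w : List Nat) : val (v ++ w) = val v * val w := by
  simp [val]

theorem gC_inv : gC⁻¹ = gC := HNTwoHSRels66.z_inv rels_gen

theorem gl_il (a : Nat) : gl (il a) = (gl a)⁻¹ := by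
  match a with
  | 0 => rfl
  | 1 => exact (inv_inv _).symm
  | 2 => rfl
  | 3 => exact (inv_inv _).symm
  | 4 => exact gC_inv.symm
  | n + 5 => exact inv_one.symm

/-- The inverse word. -/
def winv (w : List Nat) : List Nat := w.reverse.map il

theorem val_winv (w : List Nat) : val (winv w) = (val w)⁻¹ := by
  induction w with
  | nil => simp [winv, val]
  | cons a w ih =>
    rw [winv, List.reverse_cons, List.map_append, val_append]
    change val (winv w) * val [il a] = _
    rw [ih, val_cons a w, mul_inv_rev, val_cons, val_nil, mul_one, gl_il]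

/-- Unpack a word, at most `fuel` letters. -/
noncomputable def decN (fuel : Nat) : Nat → List Nat :=
  Nat.rec (motive := fun _ => Nat → List Nat) (fun _ => [])
    (fun _ ih n => cond (Nat.beq n 0) []
      (force (Nat.land n 7 - 1) fun a => force (Nat.shiftRight n 3) fun m => a :: ih m)) fuel

/-- Unpack a word. -/
noncomputable def dec (n : Nat) : List Nat := decN 4096 n

/-- Concatenation of packed words. -/
noncomputable def decs (l : List Nat) : List Nat := l.flatMap dec

/-- An entry of a list (kernel evaluation aid). -/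
noncomputable def nth {α : Type} (l : List α) (n : Nat) (d : α) : α :=
  List.rec (motive := fun _ => Nat → α) (fun _ => d)
    (fun a _ ih n => cond (Nat.beq n 0) a (ih (n - 1))) l n

theorem nth_eq {α : Type} (l : List α) (n : Nat) (d : α) : nth l n d = l.getD n d := by
  induction l generalizing n with
  | nil => rfl
  | cons a l ih =>
    cases n with
    | zero => rfl
    | succ n =>
      show nth l (n + 1 - 1) d = _
      rw [Nat.add_sub_cancel, ih]
      rfl

/-- An entry of a list cut into blocks of twenty-five. -/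
noncomputable def look {α : Type} (c : List (List α)) (m : Nat) (d : α) : α :=
  nth (nth c (m / 25) []) (m % 25) d

/-- A check of two lists entry by entry. -/
noncomputable def all2 {α β : Type} (f : α → β → Bool) (a : List α) : List β → Bool :=
  List.rec (motive := fun _ => List β → Bool)
    (fun l => List.rec (motive := fun _ => Bool) true (fun _ _ _ => false) l)
    (fun x _ ih l => List.rec (motive := fun _ => Bool) false (fun y m _ => f x y && ih m) l) a

theorem all2_spec {α β : Type} {f : α → β → Bool} (d : α) (e : β) :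
    ∀ {a : List α} {b : List β}, all2 f a b = true →
      a.length = b.length ∧ ∀ r < b.length, f (a.getD r d) (b.getD r e) = true
  | [], [], _ => ⟨rfl, fun r h => absurd h (by simp)⟩
  | x :: a, y :: b, h => by
    have h' : f x y = true ∧ all2 f a b = true := by simpa [all2] using h
    obtain ⟨h1, h2⟩ := all2_spec d e h'.2
    refine ⟨by simp [h1], fun r hr => ?_⟩
    cases r with
    | zero => exact h'.1
    | succ r => exact h2 r (by simpa using hr)

/-- The permutation tables of the letters. -/
structure Tabs where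
  t : List Nat

/-- Image of a point under a letter. -/
noncomputable def Tabs.img (T : Tabs) (a p : Nat) : Nat :=
  cond (Nat.blt a 5) (Nat.land (Nat.shiftRight (T.t.getD a 0) (11 * p)) 2047) p

/-- Image of a point under a word, letters applied from left to right. -/
noncomputable def Tabs.run (T : Tabs) (w : List Nat) : Nat → Nat :=
  List.rec (motive := fun _ => Nat → Nat) (fun p => p)
    (fun a _ ih p => force (T.img a p) ih) w

theorem Tabs.run_nil (T : Tabs) (p : Nat) : T.run [] p = p := rfl

theorem Tabs.run_cons (T : Tabs) (a : Nat) (w : List Nat) (p : Nat) :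
    T.run (a :: w) p = T.run w (T.img a p) := by
  simp only [Tabs.run, force_eq]

theorem Tabs.run_append (T : Tabs) (v w : List Nat) (p : Nat) :
    T.run (v ++ w) p = T.run w (T.run v p) := by
  induction v generalizing p with
  | nil => rfl
  | cons a v ih => rw [List.cons_append, run_cons, run_cons, ih]

/-- The five base points move together. -/
noncomputable def Tabs.step (T : Tabs) (a s : Nat) : Nat :=
  (fun n => Nat.land (Nat.shiftRight n (11 * Nat.land s 2047)) 2047 +
    (Nat.shiftLeft (Nat.land (Nat.shiftRight n (11 * Nat.land (Nat.shiftRight s 11) 2047)) 2047) 11 +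
    (Nat.shiftLeft (Nat.land (Nat.shiftRight n (11 * Nat.land (Nat.shiftRight s 22) 2047)) 2047) 22 +
    (Nat.shiftLeft (Nat.land (Nat.shiftRight n (11 * Nat.land (Nat.shiftRight s 33) 2047)) 2047) 33 +
    Nat.shiftLeft (Nat.land (Nat.shiftRight n (11 * Nat.land (Nat.shiftRight s 44) 2047)) 2047) 44))))
    (T.t.getD a 0)

/-- Follow a word. -/
noncomputable def Tabs.steps (T : Tabs) (w : List Nat) : Nat → Nat :=
  List.rec (motive := fun _ => Nat → Nat) (fun s => s)
    (fun a _ ih s => force (cond (Nat.blt a 5) (T.step a s) s) ih) w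

theorem Tabs.steps_nil (T : Tabs) (s : Nat) : T.steps [] s = s := rfl

theorem Tabs.steps_cons (T : Tabs) (a : Nat) (w : List Nat) (s : Nat) :
    T.steps (a :: w) s = T.steps w (cond (Nat.blt a 5) (T.step a s) s) := by
  simp only [Tabs.steps, force_eq]

/-- Pack five points. -/
def pack (p : Fin 5 → Nat) : Nat :=
  p 0 + 2048 * (p 1 + 2048 * (p 2 + 2048 * (p 3 + 2048 * p 4)))

theorem pack_inj {p q : Fin 5 → Nat} (hp : ∀ i, p i < 2048) (hq : ∀ i, q i < 2048)
    (h : pack p = pack q) : p = q := by
  have a0 := hp 0; have a1 := hp 1; have a2 := hp 2; have a3 := hp 3; have a4 := hp 4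
  have b0 := hq 0; have b1 := hq 1; have b2 := hq 2; have b3 := hq 3; have b4 := hq 4
  simp only [pack] at h
  have e0 : p 0 = q 0 := by omega
  have e1 : p 1 = q 1 := by omega
  have e2 : p 2 = q 2 := by omega
  have e3 : p 3 = q 3 := by omega
  have e4 : p 4 = q 4 := by omega
  funext i
  fin_cases i <;> assumption

theorem Tabs.step_pack (T : Tabs) {a : Nat} (ha : a < 5) {p : Fin 5 → Nat}
    (hp : ∀ i, p i < 2048) : T.step a (pack p) = pack (fun i => T.img a (p i)) := by
  have a0 := hp 0; have a1 := hp 1; have a2 := hp 2; have a3 := hp 3; have a4 := hp 4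
  have e : ∀ q, T.img a q = Nat.land (Nat.shiftRight (T.t.getD a 0) (11 * q)) 2047 := fun q => by
    rw [Tabs.img, show Nat.blt a 5 = true from Nat.blt_eq.mpr ha]
    rfl
  have hland : ∀ n, Nat.land n 2047 = n % 2048 := fun n => Nat.and_two_pow_sub_one_eq_mod n 11
  have hsh : ∀ n k, Nat.shiftRight n k = n / 2 ^ k := fun n k => Nat.shiftRight_eq_div_pow n k
  have hl : ∀ n k, Nat.shiftLeft n k = n * 2 ^ k := fun n k => Nat.shiftLeft_eq n k
  have f0 : pack p % 2048 = p 0 := by rw [pack]; omega
  have f1 : pack p / 2 ^ 11 % 2048 = p 1 := by rw [pack]; omega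
  have f2 : pack p / 2 ^ 22 % 2048 = p 2 := by rw [pack]; omega
  have f3 : pack p / 2 ^ 33 % 2048 = p 3 := by rw [pack]; omega
  have f4 : pack p / 2 ^ 44 % 2048 = p 4 := by rw [pack]; omega
  have e' : ∀ q, T.t.getD a 0 / 2 ^ (11 * q) % 2048 = T.img a q := fun q => by
    rw [e, hland, hsh]
  unfold Tabs.step
  generalize pack p = s at f0 f1 f2 f3 f4 ⊢
  beta_reduce
  rw [hland s, hsh s 11, hsh s 22, hsh s 33, hsh s 44]
  simp only [hland, hsh, hl]
  rw [f0, f1, f2, f3, f4, e', e', e', e', e', pack]
  ring

/-- The first base point is `0`. -/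
def basePt : Fin 5 → Nat
  | 0 => 0
  | 1 => 2
  | 2 => 7
  | 3 => 8
  | 4 => 15

/-- The code of a word: the images of the base. -/
noncomputable def Tabs.code (T : Tabs) (w : List Nat) : Nat := T.steps w (pack basePt)

/-- Check one point: letters invert and relators fix. -/
noncomputable def Tabs.ptOk (T : Tabs) (rels : List (List Nat)) (p : Nat) : Bool :=
  allFrom (fun a => Nat.blt (T.img a p) 1408 && Nat.beq (T.img (il a) (T.img a p)) p) 5 0 &&
    rels.all fun w => Nat.beq (T.run w p) p

/-- The relators as words. -/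
def relWords : List (List Nat) :=
  [[2, 2, 2, 2, 2, 2], [0, 0, 2, 0, 0, 3],
    [1, 3, 0, 2, 1, 3, 0, 2, 1, 3, 0, 2],
    [1, 2, 2, 0, 2, 2, 2, 1, 2, 2, 0, 2, 2, 2, 1, 2, 2, 0, 2, 2, 2],
    [0, 2, 0, 2, 0, 2, 0, 2, 0, 2, 0, 2, 0, 2, 0, 2],
    [0, 2, 0, 2, 2, 2, 0, 2, 0, 2, 2, 2, 0, 2, 0, 2, 2, 2, 0, 2, 0, 2, 2, 2],
    [4, 4], [4, 0, 4, 0],
    [4, 2, 1, 3, 3, 1, 3, 1, 3, 4, 2, 0, 2, 0, 2, 2, 0, 3, 1, 1],
    [4, 3, 1, 3, 1, 3, 3, 3, 4, 2, 2, 2, 0, 2, 0, 2, 0, 3, 1, 3, 1, 3, 3, 3, 4, 2, 2, 2, 0, 2, 0, 2, 0,
      3, 1, 3, 1, 3, 3, 3, 4, 2, 2, 2, 0, 2, 0, 2, 0]]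

/-- The table data pass. -/
structure Tabs.Ok (T : Tabs) : Prop where
  pts : ∀ p < 1408, T.ptOk relWords p = true

namespace Tabs

variable {T : Tabs} (hT : T.Ok)
include hT

theorem img_lt {a p : Nat} (ha : a < 5) (hp : p < 1408) : T.img a p < 1408 := by
  have h := hT.pts p hp
  simp only [ptOk, Bool.and_eq_true, allFrom_iff] at h
  have := h.1 a (Nat.zero_le a) (by omega)
  simp only [Bool.and_eq_true, Nat.blt_eq] at this
  exact this.1

theorem img_il {a p : Nat} (ha : a < 5) (hp : p < 1408) : T.img (il a) (T.img a p) = p := by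
  have h := hT.pts p hp
  simp only [ptOk, Bool.and_eq_true, allFrom_iff] at h
  have := h.1 a (Nat.zero_le a) (by omega)
  simp only [Bool.and_eq_true, Nat.beq_eq] at this
  exact this.2

theorem run_rel {p : Nat} (hp : p < 1408) {w : List Nat} (hw : w ∈ relWords) : T.run w p = p := by
  have h := hT.pts p hp
  simp only [ptOk, Bool.and_eq_true, List.all_eq_true, Nat.beq_eq] at h
  exact h.2 w hw

/-- The right action of a letter, seen as a left action. -/
noncomputable def perm (a : Nat) (ha : a < 5) : Equiv.Perm (Fin 1408) where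
  toFun p := ⟨T.img (il a) p, img_lt hT (by
    rcases a with _ | _ | _ | _ | _ | n <;> simp_all [il]) p.2⟩
  invFun p := ⟨T.img a p, img_lt hT ha p.2⟩
  left_inv p := Fin.ext (by
    have h2 : il a < 5 := by rcases a with _ | _ | _ | _ | _ | n <;> simp_all [il]
    have e : il (il a) = a := by rcases a with _ | _ | _ | _ | _ | n <;> simp_all [il]
    have := img_il hT h2 p.2
    rw [e] at this
    exact this)
  right_inv p := Fin.ext (img_il hT ha p.2)

/-- The permutation of any letter. -/
noncomputable def pl (a : Nat) : Equiv.Perm (Fin 1408) := if h : a < 5 then perm hT a h else 1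

theorem pl_il (a : Nat) : pl hT (il a) = (pl hT a)⁻¹ := by
  rcases a with _ | _ | _ | _ | _ | n <;> simp only [il, pl, Nat.reduceLT, dite_true]
  · exact Equiv.ext fun p => Fin.ext rfl
  · exact Equiv.ext fun p => Fin.ext rfl
  · exact Equiv.ext fun p => Fin.ext rfl
  · exact Equiv.ext fun p => Fin.ext rfl
  · exact Equiv.ext fun p => Fin.ext rfl
  · rw [dif_neg (by omega), inv_one]

theorem run_pl (w : List Nat) (p : Fin 1408) :
    ((((w.map (pl hT)).prod)⁻¹ p : Fin 1408) : Nat) = T.run w p := by
  induction w generalizing p with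
  | nil => simp [run_nil]
  | cons a w ih =>
    rw [List.map_cons, List.prod_cons, mul_inv_rev, Equiv.Perm.mul_apply, ih, run_cons]
    congr 1
    by_cases h : a < 5
    · rw [pl, dif_pos h]; rfl
    · rw [pl, dif_neg h, inv_one, img, show Nat.blt a 5 = false by
        rw [← Bool.not_eq_true, Nat.blt_eq]; exact h]
      rfl

theorem prod_rel {w : List Nat} (hw : w ∈ relWords) : (w.map (pl hT)).prod = 1 := by
  rw [← inv_eq_one]
  exact Equiv.ext fun p => Fin.ext ((run_pl hT w p).trans (run_rel hT p.2 hw))

/-- The images of the generators. -/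
noncomputable def gim : Gen3 → Equiv.Perm (Fin 1408)
  | .a => pl hT 0
  | .b => pl hT 2
  | .c => pl hT 4

theorem gim_rels : ∀ r ∈ ({r | r ∈ rels3} : Set (FreeGroup Gen3)), FreeGroup.lift (gim hT) r = 1 := by
  show ∀ r ∈ rels3, FreeGroup.lift (gim hT) r = 1
  have i0 : pl hT 1 = (pl hT 0)⁻¹ := pl_il hT 0
  have i2 : pl hT 3 = (pl hT 2)⁻¹ := pl_il hT 2
  have i4 : pl hT 4 = (pl hT 4)⁻¹ := pl_il hT 4
  have h := fun w (hw : w ∈ relWords) => prod_rel hT hw
  simp only [relWords, List.forall_mem_cons, List.map_cons, List.map_nil, List.prod_cons,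
    List.prod_nil, mul_one, i0, i2, List.not_mem_nil, false_implies, implies_true, and_true] at h
  obtain ⟨a, b, c, d, e, f, g, i, j, k⟩ := h
  simp only [rels3, List.forall_mem_cons, map_mul, map_pow, map_inv, FreeGroup.lift_apply_of, gim,
    List.not_mem_nil, false_implies, implies_true, and_true, pow_succ, pow_zero, one_mul,
    mul_inv_rev, inv_inv, mul_assoc, ← i4]
  exact ⟨a, b, c, d, e, f, g, i, j, k⟩

/-- The action on the points. -/
noncomputable def pi : P3 →* Equiv.Perm (Fin 1408) := PresentedGroup.toGroup (gim_rels hT)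

theorem pi_gl (a : Nat) : pi hT (gl a) = pl hT a := by
  have h0 : pi hT gA = pl hT 0 := PresentedGroup.toGroup.of (gim_rels hT)
  have h2 : pi hT gB = pl hT 2 := PresentedGroup.toGroup.of (gim_rels hT)
  have h4 : pi hT gC = pl hT 4 := PresentedGroup.toGroup.of (gim_rels hT)
  rcases a with _ | _ | _ | _ | _ | n
  · exact h0
  · exact (map_inv _ _).trans ((congrArg _ h0).trans (pl_il hT 0).symm)
  · exact h2
  · exact (map_inv _ _).trans ((congrArg _ h2).trans (pl_il hT 2).symm)
  · exact h4
  · show pi hT 1 = _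
    rw [map_one, pl, dif_neg (by omega)]

theorem pi_val (w : List Nat) : pi hT (val w) = (w.map (pl hT)).prod := by
  rw [val, map_list_prod, List.map_map]
  congr 1
  exact List.map_congr_left fun a _ => pi_gl hT a

theorem run_val (w : List Nat) (p : Fin 1408) :
    (((pi hT (val w))⁻¹ p : Fin 1408) : Nat) = T.run w p := by
  rw [pi_val, run_pl]

/-- The base points. -/
def bpt (i : Fin 5) : Fin 1408 := ⟨basePt i, by fin_cases i <;> decide⟩

theorem steps_pack (w : List Nat) : ∀ (p : Fin 5 → Nat), (∀ i, p i < 1408) →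
    T.steps w (pack p) = pack (fun i => T.run w (p i)) := by
  induction w with
  | nil => intro p _; rfl
  | cons a w ih =>
    intro p hp
    rw [steps_cons]
    simp only [run_cons]
    by_cases h : a < 5
    · rw [show Nat.blt a 5 = true from Nat.blt_eq.mpr h, cond_true,
        T.step_pack h fun i => (hp i).trans (by norm_num), ih _ fun i => img_lt hT h (hp i)]
    · have e : Nat.blt a 5 = false := by rw [← Bool.not_eq_true, Nat.blt_eq]; exact h
      simp only [img, e, cond_false]
      exact ih p hp

theorem code_eq_iff (v w : List Nat) :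
    T.code v = T.code w ↔ ∀ i, (pi hT (val v))⁻¹ (bpt i) = (pi hT (val w))⁻¹ (bpt i) := by
  have hb : ∀ i : Fin 5, basePt i < 1408 := fun i => (bpt i).2
  have hl : ∀ (u : List Nat) (i : Fin 5), T.run u (basePt i) < 2048 := fun u i => by
    show T.run u ((bpt i : Fin 1408) : Nat) < 2048
    rw [← run_val hT u (bpt i)]
    exact lt_trans (Fin.is_lt _) (by norm_num)
  rw [code, code, steps_pack hT v _ hb, steps_pack hT w _ hb]
  constructor
  · intro h i
    exact Fin.ext (by rw [run_val, run_val]; exact congrFun (pack_inj (hl v) (hl w) h) i)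
  · intro h
    exact congrArg pack (funext fun i => by
      have := congrArg Fin.val (h i)
      rwa [run_val, run_val] at this)

end Tabs

end Cfsg.Agent.HNWord66
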