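import Cfsg.Agent.Lib.HSCoreData28
import Cfsg.Agent.Lib.HallCore

/-!
The two-core of the involution centraliser inside the sixty-four point model, and the completion of
an outside involution to a full frame.
-/

set_option autoImplicit false
set_option maxRecDepth 100000
set_option linter.unusedVariables false

namespace Cfsg.Agent.HSCore28

open Subgroup HSModel28

section
variable {G : Type*} [Group G] {t : G} {H R Cy E V M : Subgroup G} {c v2 v3 a b : G}
variable (F : HSFrame28.RFrame t M R Cy c v2 v3 a b)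
include F

/-- an element of `R` in the group -/
abbrev elG (c v3 a b : G) (e : RI) : G :=
  el c (v3 ^ 2) (b * v3 ^ 2 * b⁻¹) (HSFrame28.wB a b) (HSFrame28.wA a b) e

theorem c_mem : c ∈ M := by
  rw [F.gen]; exact subset_closure (by simp)

theorem v2_mem : v2 ∈ M := by
  rw [F.gen]; exact subset_closure (by simp)

theorem v3_mem : v3 ∈ M := by
  rw [F.gen]; exact subset_closure (by simp)

theorem act_q1 (h : v3 ^ 2 ∈ M) : act F.toMFrame ⟨v3 ^ 2, h⟩ = trans (0, 0, 2) := by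
  refine act_trans F.toMFrame _ _ ?_
  show v3 ^ 2 = vA c v2 v3 (0, 0, 2)
  simp [vA, show (2 : ZMod 4).val = 2 from rfl]

theorem act_v2sq (h : v2 ^ 2 ∈ M) : act F.toMFrame ⟨v2 ^ 2, h⟩ = trans (0, 2, 0) := by
  refine act_trans F.toMFrame _ _ ?_
  show v2 ^ 2 = vA c v2 v3 (0, 2, 0)
  simp [vA, show (2 : ZMod 4).val = 2 from rfl]

theorem act_t (h : t ∈ M) : act F.toMFrame ⟨t, h⟩ = trans (2, 0, 0) := by
  refine act_trans F.toMFrame _ _ ?_
  show t = vA c v2 v3 (2, 0, 0)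
  simp [vA, show (2 : ZMod 4).val = 2 from rfl, F.c_sq]

theorem t_mem : t ∈ M := by
  rw [← F.c_sq]; exact pow_mem (c_mem F) _

theorem act_q2 (h : b * v3 ^ 2 * b⁻¹ ∈ M) :
    act F.toMFrame ⟨_, h⟩ = trans (2, 2, 0) := by
  have hb := mem_b F.toMFrame
  have hq := pow_mem (v3_mem F) 2
  have : (⟨_, h⟩ : M) = ⟨b, hb⟩ * ⟨v3 ^ 2, hq⟩ * (⟨b, hb⟩ : M)⁻¹ := Subtype.ext rfl
  rw [this, map_mul, map_mul, map_inv, act_b F.toMFrame, act_q1 F]
  decide +kernel

theorem el_mem (e : RI) : elG c v3 a b e ∈ M := by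
  obtain ⟨h1, h2, h3, h4⟩ := mem_words F.toMFrame
  have hc := c_mem F; have h5 := v3_mem F; have hb := mem_b F.toMFrame
  exact mul_mem (mul_mem (mul_mem (mul_mem (pow_mem hc _) (pow_mem (pow_mem h5 _) _))
    (pow_mem (mul_mem (mul_mem hb (pow_mem h5 _)) (inv_mem hb)) _)) (pow_mem h2 _)) (pow_mem h1 _)

theorem act_el (e : RI) : act F.toMFrame ⟨_, el_mem F e⟩ = enc e := by
  obtain ⟨h1, h2, h3, h4⟩ := mem_words F.toMFrame
  have hb := mem_b F.toMFrame
  have hq : v3 ^ 2 ∈ M := pow_mem (v3_mem F) 2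
  have hq2 : b * v3 ^ 2 * b⁻¹ ∈ M := mul_mem (mul_mem hb hq) (inv_mem hb)
  have : (⟨_, el_mem F e⟩ : M) =
      el ⟨c, c_mem F⟩ ⟨_, hq⟩ ⟨_, hq2⟩ ⟨_, h2⟩ ⟨_, h1⟩ e := by
    refine Subtype.ext ?_
    change elG c v3 a b e = M.subtype
      (el ⟨c, c_mem F⟩ ⟨_, hq⟩ ⟨_, hq2⟩ ⟨_, h2⟩ ⟨_, h1⟩ e)
    rw [el_map]
    rfl
  rw [this, el_map, act_c F.toMFrame, act_q1 F, act_q2 F, act_wA F.toMFrame, act_wB F.toMFrame]
  rfl

/-- Every element of `R` has coordinates. -/
theorem R_coords {r : G} (hr : r ∈ R) : ∃ e, r = elG c v3 a b e := by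
  obtain ⟨h1, h2, h3, h4⟩ := mem_words F.toMFrame
  rw [F.two_core] at hr
  have step : ∀ y ∈ ({c, v2 ^ 2, v3 ^ 2, HSFrame28.wA a b, HSFrame28.wB a b} : Set G), ∀ e : RI,
      (∃ e', y * elG c v3 a b e = elG c v3 a b e') ∧
        ∃ e', y⁻¹ * elG c v3 a b e = elG c v3 a b e' := by
    intro y hy e
    have key : ∀ {g : G} (hg : g ∈ M) {σ : Equiv.Perm Vec}, σ ∈ rGens →
        act F.toMFrame ⟨g, hg⟩ = σ → ∃ e', g * elG c v3 a b e = elG c v3 a b e' := by
      intro g hg σ hσ hga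
      obtain ⟨e', he⟩ := rGens_closed σ hσ e
      refine ⟨e', eq_of_act F.toMFrame (g := ⟨g, hg⟩ * ⟨_, el_mem F e⟩) (h := ⟨_, el_mem F e'⟩) ?_⟩
      rw [map_mul, hga, act_el F, act_el F, he]
    have kinv : ∀ {g : G} (hg : g ∈ M) {σ : Equiv.Perm Vec}, σ⁻¹ ∈ rGens →
        act F.toMFrame ⟨g, hg⟩ = σ → ∃ e', g⁻¹ * elG c v3 a b e = elG c v3 a b e' := fun hg σ hσ hga =>
      key (inv_mem hg) hσ (by
        have : (⟨_, inv_mem hg⟩ : M) = (⟨_, hg⟩ : M)⁻¹ := Subtype.ext rfl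
        rw [this, map_inv, hga])
    rcases hy with h | h | h | h | h <;> subst y
    · exact ⟨key (c_mem F) (by simp [rGens]) (act_c F.toMFrame _),
        kinv (c_mem F) (σ := trans (1, 0, 0))
          (by rw [show (trans (1, 0, 0))⁻¹ = trans (3, 0, 0) by decide +kernel]; simp [rGens])
          (act_c F.toMFrame _)⟩
    · have hm := pow_mem (v2_mem F) 2
      exact ⟨key hm (by simp [rGens]) (act_v2sq F _), kinv hm (σ := trans (0, 2, 0))
        (by rw [show (trans (0, 2, 0))⁻¹ = trans (0, 2, 0) by decide +kernel]; simp [rGens])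
        (act_v2sq F _)⟩
    · have hm := pow_mem (v3_mem F) 2
      exact ⟨key hm (by simp [rGens]) (act_q1 F _), kinv hm (σ := trans (0, 0, 2))
        (by rw [show (trans (0, 0, 2))⁻¹ = trans (0, 0, 2) by decide +kernel]; simp [rGens])
        (act_q1 F _)⟩
    · exact ⟨key h1 (by simp [rGens]) (act_wA F.toMFrame _),
        kinv h1 (σ := PA) (by simp [rGens]) (act_wA F.toMFrame _)⟩
    · exact ⟨key h2 (by simp [rGens]) (act_wB F.toMFrame _),
        kinv h2 (σ := PB) (by simp [rGens]) (act_wB F.toMFrame _)⟩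
  induction hr using closure_induction_left with
  | one => exact ⟨(0, 0, 0, 0, 0), by simp [el]⟩
  | mul_left y hy z _ ih => obtain ⟨e, rfl⟩ := ih; exact (step y hy e).1
  | inv_mul_cancel y hy z _ ih => obtain ⟨e, rfl⟩ := ih; exact (step y hy e).2

theorem R_le_M : R ≤ M := fun r hr => by
  obtain ⟨e, rfl⟩ := R_coords F hr
  exact el_mem F e

end

end Cfsg.Agent.HSCore28
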