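import Cfsg.Agent.Lib.HSModel28

/-!
Computations on sixty-four points for the two-core of the involution centraliser.
-/

set_option autoImplicit false
set_option maxRecDepth 100000
set_option linter.unusedVariables false

namespace Cfsg.Agent.HSCore28

open Subgroup HSModel28

/-- first involution of the complement of the four group -/
abbrev PA : Equiv.Perm Vec := HSFrame28.wA linA linB
/-- second involution -/
abbrev PB : Equiv.Perm Vec := HSFrame28.wB linA linB
/-- the inverting transposition -/
abbrev PS : Equiv.Perm Vec := HSFrame28.s0 linA linB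
/-- the second transposition -/
abbrev P3 : Equiv.Perm Vec := HSFrame28.s3 (trans (0, 0, 1)) linA linB

/-- coordinates on the two-core `R` -/
abbrev RI := Fin 4 × Fin 2 × Fin 2 × Fin 2 × Fin 2

/-- an element of `R` from its coordinates -/
def el {K : Type*} [Group K] (c q1 q2 w1 w2 : K) (e : RI) : K :=
  c ^ e.1.val * q1 ^ e.2.1.val * q2 ^ e.2.2.1.val * w1 ^ e.2.2.2.1.val * w2 ^ e.2.2.2.2.val

theorem el_map {K L : Type*} [Group K] [Group L] (f : K →* L) (c q1 q2 w1 w2 : K) (e : RI) :
    f (el c q1 q2 w1 w2 e) = el (f c) (f q1) (f q2) (f w1) (f w2) e := by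
  simp [el, map_mul, map_pow]

theorem el_conj {K : Type*} [Group K] (g c q1 q2 w1 w2 : K) (e : RI) :
    g * el c q1 q2 w1 w2 e * g⁻¹ =
      el (g * c * g⁻¹) (g * q1 * g⁻¹) (g * q2 * g⁻¹) (g * w1 * g⁻¹) (g * w2 * g⁻¹) e := by
  simp only [el, conj_pow]
  group

/-- coordinates in the point model -/
def enc (e : RI) : Equiv.Perm Vec :=
  el (trans (1, 0, 0)) (trans (0, 0, 2)) (trans (2, 2, 0)) PB PA e

/-- the image of an element under the outside involution -/
def encU (e : RI) : Equiv.Perm Vec :=
  el (trans (3, 0, 0)) PB PA (trans (0, 0, 2)) (trans (2, 2, 0)) e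

/-- the generators of `R` in the model -/
def rGens : List (Equiv.Perm Vec) :=
  [trans (1, 0, 0), trans (0, 2, 0), trans (0, 0, 2), PA, PB,
    trans (3, 0, 0), trans (0, 2, 0), trans (0, 0, 2), PA⁻¹, PB⁻¹]

theorem rGens_closed : ∀ g ∈ rGens, ∀ e : RI, ∃ e' : RI, g * enc e = enc e' := by decide +kernel

end Cfsg.Agent.HSCore28
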