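import Cfsg.Agent.Lib.HSCoreData28

/-!
Computations on sixty-four points used to complete an outside involution to a full frame.
-/

set_option autoImplicit false
set_option maxRecDepth 100000
set_option linter.unusedVariables false
set_option synthInstance.maxSize 1000
set_option synthInstance.maxHeartbeats 200000

namespace Cfsg.Agent.HSCore28

open HSModel28

/-- the conjugate by the three-element -/
abbrev cB (σ : Equiv.Perm Vec) : Equiv.Perm Vec := linB * σ * linB⁻¹

theorem cand_data : ∀ e : RI, enc e * enc e = 1 →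
    (e.2.2.2.1 = 0 ∧ e.2.2.2.2 = 0 ∧ (e.1.val = 0 ∨ e.1.val = 2)) ∨
    (enc e * cB (enc e) * cB (cB (enc e)) = 1 →
      (trans (0, 0, 2) * cB (enc e) * trans (0, 0, 2) * cB (enc e) = 1 ∨
        trans (0, 0, 2) * cB (enc e) * trans (0, 0, 2) * cB (enc e) = trans (2, 0, 0)) ∧
        (trans (0, 0, 2) * cB (enc e) * trans (0, 0, 2) * cB (enc e) =
            enc e * trans (2, 2, 0) * enc e * trans (2, 2, 0) →
          enc e = PB ∨ enc e = trans (2, 0, 2) * PB)) := by decide +kernel

theorem s0_data : PS * PS = 1 ∧ PS * trans (1, 0, 0) * PS⁻¹ = trans (3, 0, 0) ∧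
    PS * trans (0, 0, 2) = trans (0, 0, 2) * PS ∧ PS * PB = PB * PS ∧
    PS * linB = linB⁻¹ * PS ∧ PS * linB⁻¹ = linB * PS := by decide +kernel

theorem s3_data : P3 * P3 = 1 ∧ P3 * PS = PS * P3 ∧
    P3 * trans (1, 0, 0) * P3⁻¹ = trans (3, 0, 0) ∧
    P3 * trans (2, 0, 0) = trans (2, 0, 0) * P3 := by decide +kernel

theorem prod_data : trans (0, 2, 0) = trans (2, 0, 0) * trans (2, 2, 0) ∧
    PA = cB PB ∧ cB (cB (trans (0, 0, 2))) * trans (2, 2, 0) = trans (0, 0, 2) ∧
    trans (0, 0, 2) * trans (0, 0, 2) = 1 ∧ PB * PB = 1 := by decide +kernel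

/-- all coordinates -/
def allRI : List RI :=
  (List.finRange 4).flatMap fun i => (List.finRange 2).flatMap fun j => (List.finRange 2).flatMap
    fun k => (List.finRange 2).flatMap fun l => (List.finRange 2).map fun m => (i, j, k, l, m)

/-- the coordinates of the image under the outside involution -/
def uE (e : RI) : RI := (allRI.find? fun e' => decide (enc e' = encU e)).getD (0, 0, 0, 0, 0)

/-- the coordinates of the image under the second transposition -/
def wE (e : RI) : RI :=
  (allRI.find? fun e' => decide (enc e' = P3 * enc e * P3⁻¹)).getD (0, 0, 0, 0, 0)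

theorem uE_ok : ∀ e : RI, enc (uE e) = encU e := by decide +kernel

theorem wE_ok : ∀ e : RI, enc (wE e) = P3 * enc e * P3⁻¹ := by decide +kernel

/-- coordinates of generators of `R` -/
def basisRI : List RI := [(1, 0, 0, 0, 0), (0, 1, 0, 0, 0), (0, 0, 1, 0, 0), (0, 0, 0, 1, 0),
  (0, 0, 0, 0, 1)]

theorem cycle_data : ∀ e ∈ basisRI, wE (uE (wE (uE (wE (uE e))))) = e := by decide +kernel

theorem cent_words : ∀ w ∈ words, linW w (2, 0, 0) = (2, 0, 0) → linW w (0, 2, 0) = (0, 2, 0) →
    linW w (0, 0, 2) = (0, 0, 2) → linW w = 1 := by decide +kernel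

theorem cent_trans2 : ∀ x : Vec, trans x * PB = PB * trans x → trans x * PA = PA * trans x →
    x.2.1 = 0 ∧ x.2.2 = 0 := by decide +kernel

/-- the twisted involution of the complement -/
abbrev A' : Equiv.Perm Vec := trans (0, 2, 0) * linA

theorem twist_data : A' * A' = 1 ∧ (A' * linB) ^ 7 = 1 ∧
    (A' * linB⁻¹ * A' * linB) ^ 4 = 1 ∧
    A' * trans (1, 0, 0) * A'⁻¹ = trans (0, 0, 1) ∧
    A' * trans (0, 1, 0) * A'⁻¹ = (trans (0, 1, 0))⁻¹ ∧
    A' * trans (0, 0, 1) * A'⁻¹ = trans (1, 0, 0) ∧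
    HSFrame28.wA A' linB = trans (0, 2, 0) * PA ∧
    HSFrame28.wB A' linB = trans (2, 0, 2) * PB ∧
    HSFrame28.s0 A' linB = trans (2, 0, 0) * PS := by decide +kernel

end Cfsg.Agent.HSCore28
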