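import Mathlib
import Cfsg.Prelude.Def_Solvable
import Cfsg.Prelude.Def_CaseTheorems
import Cfsg.Prelude.Def_Transfer

/-!
Frames for the two-local recognition of the Higman–Sims group: generators of the normaliser of the
eight-group and an involution of the involution centraliser outside it.
-/

set_option autoImplicit false

namespace Cfsg.Agent.HSFrame28

open Subgroup

variable {G : Type*} [Group G]

/-- an involution in the unipotent part of the point stabiliser of the complement -/
def wA (a b : G) : G := a * b⁻¹ * a * b⁻¹ * a * b * a * b * a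
/-- its translate under the three-element -/
def wB (a b : G) : G := b⁻¹ * wA a b * b
/-- the transposition of the complement inverting the three-element -/
def s0 (a b : G) : G := a * b * a * b * a * b⁻¹ * a * b * a * b * a * b⁻¹
/-- a transposition commuting with `s0` modulo the two-core -/
def s3 (v3 a b : G) : G := v3 * (b⁻¹ * a * b * a * b⁻¹ * a * b)

/-- Generators `c, v2, v3` of the abelian two-core of `M` and `a, b` of a complement of type
`L₃(2)`, with the action given by fixed matrices over `ℤ/4`. -/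
structure MFrame (t : G) (M : Subgroup G) (c v2 v3 a b : G) : Prop where
  core : (Cfsg.pCore 2 M).map M.subtype = closure {c, v2, v3}
  gen : M = closure {c, v2, v3, a, b}
  disj : closure {a, b} ⊓ closure {c, v2, v3} = ⊥
  card_core : Nat.card (closure ({c, v2, v3} : Set G)) = 64
  card_compl : Nat.card (closure ({a, b} : Set G)) = 168
  c_sq : c ^ 2 = t
  c_four : c ^ 4 = 1
  v2_four : v2 ^ 4 = 1
  v3_four : v3 ^ 4 = 1
  comm_c_v2 : Commute c v2
  comm_c_v3 : Commute c v3
  comm_v2_v3 : Commute v2 v3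
  a_two : a ^ 2 = 1
  b_three : b ^ 3 = 1
  ab_seven : (a * b) ^ 7 = 1
  comm_four : (a * b⁻¹ * a * b) ^ 4 = 1
  a_c : a * c * a⁻¹ = v3
  a_v2 : a * v2 * a⁻¹ = v2⁻¹
  a_v3 : a * v3 * a⁻¹ = c
  b_c : b * c * b⁻¹ = c
  b_v2 : b * v2 * b⁻¹ = v2⁻¹ * v3
  b_v3 : b * v3 * b⁻¹ = c * v2⁻¹

/-- The position of the two-core `R` of the involution centraliser. -/
structure RFrame (t : G) (M R Cy : Subgroup G) (c v2 v3 a b : G) : Prop
    extends MFrame t M c v2 v3 a b where
  cy : Cy = zpowers c
  two_core : R = closure {c, v2 ^ 2, v3 ^ 2, wA a b, wB a b}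
  mem_inf : ∀ g : G, g ∈ M → (g * t = t * g ↔
    g ∈ closure ({c, v2, v3, b, wA a b, s0 a b} : Set G))

/-- An involution of the centraliser of `t` centralising `b` and inverting `c`, outside `M`. -/
structure UBase (t : G) (M : Subgroup G) (c b u : G) : Prop where
  u_t : u * t = t * u
  not_mem : u ∉ M
  u_two : u ^ 2 = 1
  u_b : u * b = b * u
  u_c : u * c * u⁻¹ = c⁻¹

/-- The complete frame. -/
structure UFrame (t : G) (M R Cy : Subgroup G) (c v2 v3 a b u : G) : Prop
    extends RFrame t M R Cy c v2 v3 a b, UBase t M c b u where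
  u_v3 : u * v3 ^ 2 * u⁻¹ = wB a b
  u_s0 : (s0 a b * u) ^ 2 = 1
  u_s3 : (s3 v3 a b * u) ^ 3 = 1

/-- The hypotheses of the recognition theorem. -/
structure Setting (t : G) (H R Cy E V M : Subgroup G) : Prop where
  ht : orderOf t = 2
  hH : H = centralizer ({t} : Set G)
  hR : R = (Cfsg.pCore 2 H).map H.subtype
  hCy : IsCyclic Cy
  hCycard : Nat.card Cy = 4
  hCyle : Cy ≤ R ⊓ centralizer (R : Set G)
  hEle : E ≤ R
  hEex : Cfsg.IsExtraspecial 2 E
  hEcard : Nat.card E = 32
  hprod : Cy ⊔ E = R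
  hmeet : Cy ⊓ E = E ⊓ centralizer (E : Set G)
  hH5 : Nonempty (H ⧸ Cfsg.pCore 2 H ≃* Equiv.Perm (Fin 5))
  hVcomm : IsMulCommutative V
  hVexp : ∀ v ∈ V, v ^ 2 = 1
  hVcard : Nat.card V = 8
  hVR : V ≤ R
  hM : M = normalizer (V : Set G)
  hcore : Nonempty (Cfsg.pCore 2 M ≃* Multiplicative (ZMod 4 × ZMod 4 × ZMod 4))
  hquot : Nonempty (M ⧸ Cfsg.pCore 2 M ≃* GL (Fin 3) (ZMod 2))

end Cfsg.Agent.HSFrame28
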