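import Cfsg.Agent.Lib.HSFrame28

/-!
A frame of the two-local subgroup acts faithfully on the sixty-four elements of its abelian two-core
by affine maps with fixed matrices.
-/

set_option autoImplicit false
set_option maxRecDepth 100000
set_option linter.unusedVariables false

namespace Cfsg.Agent.HSModel28

open Subgroup

/-- points -/
abbrev Vec := ZMod 4 × ZMod 4 × ZMod 4

/-- translation -/
def trans (x : Vec) : Equiv.Perm Vec :=
  ⟨fun v => x + v, fun v => -x + v, fun v => by simp, fun v => by simp⟩

/-- the matrix of `a` -/
def linA : Equiv.Perm Vec :=
  ⟨fun v => (v.2.2, -v.2.1, v.1), fun v => (v.2.2, -v.2.1, v.1),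
    fun v => by simp, fun v => by simp⟩

/-- the matrix of `b` -/
def linB : Equiv.Perm Vec :=
  ⟨fun v => (v.1 + v.2.2, -v.2.1 - v.2.2, v.2.1),
    fun v => (v.1 + v.2.1 + v.2.2, v.2.2, -v.2.1 - v.2.2),
    fun v => by ext <;> simp <;> ring, fun v => by ext <;> simp <;> ring⟩

variable {G : Type*} [Group G] {t : G} {M : Subgroup G} {c v2 v3 a b : G}

/-- the element of the core with given coordinates -/
def vA (c v2 v3 : G) (x : Vec) : G := c ^ x.1.val * v2 ^ x.2.1.val * v3 ^ x.2.2.val

theorem pw_add {g : G} (h : g ^ 4 = 1) (i j : ZMod 4) :
    g ^ (i + j).val = g ^ i.val * g ^ j.val := by
  rw [ZMod.val_add, ← pow_add]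
  exact (pow_eq_pow_mod _ h).symm

theorem pw_neg {g : G} (h : g ^ 4 = 1) (i : ZMod 4) : g ^ (-i).val = (g ^ i.val)⁻¹ :=
  eq_inv_of_mul_eq_one_left (by rw [← pw_add h, neg_add_cancel, ZMod.val_zero, pow_zero])

section
variable (F : HSFrame28.MFrame t M c v2 v3 a b)
include F

local notation "W" => vA c v2 v3

theorem W_zero : W 0 = 1 := by simp [vA]

theorem W_add (x y : Vec) : W (x + y) = W x * W y := by
  simp only [vA, Prod.fst_add, Prod.snd_add, pw_add F.c_four, pw_add F.v2_four, pw_add F.v3_four]
  have h1 : Commute (c ^ y.1.val) (v2 ^ x.2.1.val) := F.comm_c_v2.pow_pow _ _
  have h2 : Commute (c ^ y.1.val) (v3 ^ x.2.2.val) := F.comm_c_v3.pow_pow _ _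
  have h3 : Commute (v2 ^ y.2.1.val) (v3 ^ x.2.2.val) := F.comm_v2_v3.pow_pow _ _
  calc c ^ x.1.val * c ^ y.1.val * (v2 ^ x.2.1.val * v2 ^ y.2.1.val) *
        (v3 ^ x.2.2.val * v3 ^ y.2.2.val)
      = c ^ x.1.val * (c ^ y.1.val * v2 ^ x.2.1.val) * (v2 ^ y.2.1.val * v3 ^ x.2.2.val) *
          v3 ^ y.2.2.val := by group
    _ = c ^ x.1.val * (v2 ^ x.2.1.val * c ^ y.1.val) * (v3 ^ x.2.2.val * v2 ^ y.2.1.val) *
          v3 ^ y.2.2.val := by rw [h1.eq, h3.eq]
    _ = c ^ x.1.val * v2 ^ x.2.1.val * (c ^ y.1.val * v3 ^ x.2.2.val) * v2 ^ y.2.1.val *
          v3 ^ y.2.2.val := by group
    _ = c ^ x.1.val * v2 ^ x.2.1.val * (v3 ^ x.2.2.val * c ^ y.1.val) * v2 ^ y.2.1.val *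
          v3 ^ y.2.2.val := by rw [h2.eq]
    _ = _ := by group

theorem W_neg (x : Vec) : W (-x) = (W x)⁻¹ :=
  eq_inv_of_mul_eq_one_left (by rw [← W_add F, neg_add_cancel, W_zero F])

theorem W_single : W (1, 0, 0) = c ∧ W (0, 1, 0) = v2 ∧ W (0, 0, 1) = v3 := by
  refine ⟨?_, ?_, ?_⟩ <;> simp [vA, ZMod.val_one, ZMod.val_zero, show (1 : ZMod 4).val = 1 from rfl]

theorem mem_core {g : G} : g ∈ closure ({c, v2, v3} : Set G) ↔ ∃ x, W x = g := by
  constructor
  · intro h
    induction h using closure_induction with
    | mem y hy =>
      rcases hy with rfl | rfl | rfl
      · exact ⟨_, (W_single F).1⟩
      · exact ⟨_, (W_single F).2.1⟩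
      · exact ⟨_, (W_single F).2.2⟩
    | one => exact ⟨0, W_zero F⟩
    | mul y z _ _ hy hz =>
      obtain ⟨i, rfl⟩ := hy; obtain ⟨j, rfl⟩ := hz
      exact ⟨i + j, W_add F i j⟩
    | inv y _ hy => obtain ⟨i, rfl⟩ := hy; exact ⟨-i, W_neg F i⟩
  · rintro ⟨x, rfl⟩
    exact mul_mem (mul_mem (pow_mem (subset_closure (by simp)) _)
      (pow_mem (subset_closure (by simp)) _)) (pow_mem (subset_closure (by simp)) _)

theorem W_inj : Function.Injective (W) := by
  let f : Vec → (closure ({c, v2, v3} : Set G) : Subgroup G) :=
    fun x => ⟨W x, (mem_core F).2 ⟨x, rfl⟩⟩
  have hs : Function.Surjective f := fun g => by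
    obtain ⟨x, hx⟩ := (mem_core F).1 g.2
    exact ⟨x, Subtype.ext hx⟩
  haveI : Finite (closure ({c, v2, v3} : Set G) : Subgroup G) :=
    Nat.finite_of_card_ne_zero (by rw [F.card_core]; decide)
  have hb : Function.Bijective f := hs.bijective_of_nat_card_le (by
    rw [F.card_core, Nat.card_eq_fintype_card]; decide)
  intro x y h
  exact hb.1 (Subtype.ext h)

theorem W_nsmul (n : ℕ) (x : Vec) : W (n • x) = W x ^ n := by
  induction n with
  | zero => simp [W_zero F]
  | succ n ih => rw [succ_nsmul, pow_succ, W_add F, ih]

theorem conj_of {g : G} {f : Vec → Vec} (h1 : g * c * g⁻¹ = W (f (1, 0, 0)))
    (h2 : g * v2 * g⁻¹ = W (f (0, 1, 0))) (h3 : g * v3 * g⁻¹ = W (f (0, 0, 1)))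
    (hf : ∀ x, x.1.val • f (1, 0, 0) + x.2.1.val • f (0, 1, 0) + x.2.2.val • f (0, 0, 1) = f x)
    (x : Vec) : g * W x = W (f x) * g := by
  rw [← hf x, W_add F, W_add F, W_nsmul F, W_nsmul F, W_nsmul F, ← h1, ← h2, ← h3]
  simp only [vA, conj_pow]
  group

theorem conj_a (x : Vec) : a * W x = W (linA x) * a := by
  obtain ⟨e1, e2, e3⟩ := W_single F
  refine conj_of F ?_ ?_ ?_ (by decide +kernel) x
  · rw [F.a_c, show linA (1, 0, 0) = (0, 0, 1) by decide, e3]
  · rw [F.a_v2, show linA (0, 1, 0) = -((0, 1, 0) : Vec) by decide, W_neg F, e2]
  · rw [F.a_v3, show linA (0, 0, 1) = (1, 0, 0) by decide, e1]

theorem conj_b (x : Vec) : b * W x = W (linB x) * b := by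
  obtain ⟨e1, e2, e3⟩ := W_single F
  refine conj_of F ?_ ?_ ?_ (by decide +kernel) x
  · rw [F.b_c, show linB (1, 0, 0) = (1, 0, 0) by decide, e1]
  · rw [F.b_v2, show linB (0, 1, 0) = -((0, 1, 0) : Vec) + (0, 0, 1) by decide, W_add F,
      W_neg F, e2, e3]
  · rw [F.b_v3, show linB (0, 0, 1) = ((1, 0, 0) : Vec) + -(0, 1, 0) by decide, W_add F,
      W_neg F, e2, e1]

theorem compl_conj {l : G} (hl : l ∈ closure ({a, b} : Set G)) : ∃ f : Vec → Vec, ∀ x, l * W x = W (f x) * l := by
  induction hl using closure_induction_left with
  | one => exact ⟨id, fun x => by simp⟩
  | mul_left y hy z _ ih =>
    obtain ⟨f, hf⟩ := ih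
    rcases hy with rfl | rfl
    · exact ⟨linA ∘ f, fun x => by rw [mul_assoc, hf, ← mul_assoc, conj_a F, mul_assoc]; rfl⟩
    · exact ⟨linB ∘ f, fun x => by rw [mul_assoc, hf, ← mul_assoc, conj_b F, mul_assoc]; rfl⟩
  | inv_mul_cancel y hy z _ ih =>
    obtain ⟨f, hf⟩ := ih
    rcases hy with rfl | rfl
    · refine ⟨linA ∘ f, fun x => ?_⟩
      rw [inv_eq_of_mul_eq_one_right (show y * y = 1 by rw [← sq]; exact F.a_two), mul_assoc, hf,
        ← mul_assoc, conj_a F, mul_assoc]
      rfl
    · refine ⟨linB ∘ linB ∘ f, fun x => ?_⟩
      rw [inv_eq_of_mul_eq_one_right (show y * (y * y) = 1 by rw [← mul_assoc, ← pow_three']; exact F.b_three)]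
      simp only [mul_assoc, Function.comp_apply, hf]
      rw [← mul_assoc y (W (f x)), conj_b F, mul_assoc, ← mul_assoc y, conj_b F, mul_assoc]

theorem decomp {g : G} (hg : g ∈ M) : ∃ x l, l ∈ closure ({a, b} : Set G) ∧ g = W x * l := by
  rw [F.gen] at hg
  have hgen : ∀ y ∈ ({c, v2, v3, a, b} : Set G), ∀ (x : Vec) (l : G), l ∈ closure ({a, b} : Set G) →
      (∃ x' l', l' ∈ closure ({a, b} : Set G) ∧ y * (W x * l) = W x' * l') ∧
        ∃ x' l', l' ∈ closure ({a, b} : Set G) ∧ y⁻¹ * (W x * l) = W x' * l' := by
    intro y hy x l hl
    have core : ∀ z, W z = y → (∃ x' l', l' ∈ closure ({a, b} : Set G) ∧ y * (W x * l) = W x' * l') ∧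
        ∃ x' l', l' ∈ closure ({a, b} : Set G) ∧ y⁻¹ * (W x * l) = W x' * l' := fun z hz =>
      ⟨⟨z + x, l, hl, by rw [W_add F, hz, mul_assoc]⟩,
        ⟨-z + x, l, hl, by rw [W_add F, W_neg F, hz, mul_assoc]⟩⟩
    rcases hy with e | e | e | e | e
    · exact core _ ((W_single F).1.trans e.symm)
    · exact core _ ((W_single F).2.1.trans e.symm)
    · exact core _ ((W_single F).2.2.trans e.symm)
    · rw [e]
      clear core e y
      have hy' : a ∈ closure ({a, b} : Set G) := subset_closure (by simp)
      have hi : a⁻¹ = a :=
        inv_eq_of_mul_eq_one_right (by rw [← sq]; exact F.a_two)
      have h : ∃ x' l', l' ∈ closure ({a, b} : Set G) ∧ a * (W x * l) = W x' * l' :=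
        ⟨linA x, a * l, mul_mem hy' hl, by rw [← mul_assoc, conj_a F, mul_assoc]⟩
      exact ⟨h, by rw [hi]; exact h⟩
    · rw [e]
      clear core e y
      have hy' : b ∈ closure ({a, b} : Set G) := subset_closure (by simp)
      have hi : b⁻¹ = b * b :=
        inv_eq_of_mul_eq_one_right (by rw [← mul_assoc, ← pow_three']; exact F.b_three)
      refine ⟨⟨linB x, b * l, mul_mem hy' hl, by rw [← mul_assoc, conj_b F, mul_assoc]⟩,
        linB (linB x), b * (b * l), mul_mem hy' (mul_mem hy' hl), ?_⟩
      rw [hi, mul_assoc, ← mul_assoc b (W x), conj_b F, mul_assoc, ← mul_assoc b, conj_b F,
        mul_assoc]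
  induction hg using closure_induction_left with
  | one => exact ⟨0, 1, one_mem _, by rw [W_zero F, one_mul]⟩
  | mul_left y hy z _ ih =>
    obtain ⟨x, l, hl, rfl⟩ := ih
    exact (hgen y hy x l hl).1
  | inv_mul_cancel y hy z _ ih =>
    obtain ⟨x, l, hl, rfl⟩ := ih
    exact (hgen y hy x l hl).2

theorem W_mem (x : Vec) : W x ∈ M := by
  rw [F.gen]
  exact closure_mono (by intro y hy; rcases hy with rfl | rfl | rfl <;> simp)
    ((mem_core F).2 ⟨x, rfl⟩)

theorem compl_le : closure ({a, b} : Set G) ≤ M := by
  rw [F.gen]
  exact closure_mono (by intro y hy; rcases hy with rfl | rfl <;> simp)

theorem decomp_unique {x y : Vec} {l m : G} (hl : l ∈ closure ({a, b} : Set G)) (hm : m ∈ closure ({a, b} : Set G))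
    (h : W x * l = W y * m) : x = y ∧ l = m := by
  have h1 : (W y)⁻¹ * W x = m * l⁻¹ := by
    calc (W y)⁻¹ * W x = (W y)⁻¹ * (W x * l) * l⁻¹ := by group
      _ = m * l⁻¹ := by rw [h]; group
  have h2 : (W y)⁻¹ * W x ∈ closure ({a, b} : Set G) ⊓ closure ({c, v2, v3} : Set G) :=
    Subgroup.mem_inf.2 ⟨by rw [h1]; exact mul_mem hm (inv_mem hl),
      mul_mem (inv_mem ((mem_core F).2 ⟨y, rfl⟩)) ((mem_core F).2 ⟨x, rfl⟩)⟩
  rw [F.disj, mem_bot] at h2
  have hx : x = y := W_inj F (inv_mul_eq_one.1 h2).symm
  subst hx
  exact ⟨rfl, mul_left_cancel h⟩

theorem act_exists (g : M) (x : Vec) : ∃ y l, l ∈ closure ({a, b} : Set G) ∧ (g : G) * W x = W y * l :=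
  decomp F (mul_mem g.2 (W_mem F x))

/-- the affine action as a map -/
noncomputable def actFun (g : M) (x : Vec) : Vec := (act_exists F g x).choose

theorem actFun_spec {g : M} {x y : Vec} {l : G} (hl : l ∈ closure ({a, b} : Set G)) (h : (g : G) * W x = W y * l) :
    actFun F g x = y := by
  obtain ⟨l', hl', h'⟩ := (act_exists F g x).choose_spec
  exact (decomp_unique F hl' hl (h'.symm.trans h)).1

theorem actFun_one (x : Vec) : actFun F 1 x = x :=
  actFun_spec F (one_mem _) (by simp)

theorem actFun_mul (g h : M) (x : Vec) : actFun F (g * h) x = actFun F g (actFun F h x) := by
  obtain ⟨l, hl, e1⟩ := (act_exists F h x).choose_spec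
  obtain ⟨m, hm, e2⟩ := (act_exists F g (actFun F h x)).choose_spec
  refine actFun_spec F (mul_mem hm hl) ?_
  rw [Subgroup.coe_mul, mul_assoc, e1, ← mul_assoc]
  show (g : G) * W (actFun F h x) * l = _
  rw [e2, mul_assoc]
  rfl

/-- the affine action on the sixty-four points -/
noncomputable def act : M →* Equiv.Perm Vec where
  toFun g := ⟨actFun F g, actFun F g⁻¹,
    fun x => by rw [← actFun_mul, inv_mul_cancel, actFun_one],
    fun x => by rw [← actFun_mul, mul_inv_cancel, actFun_one]⟩
  map_one' := Equiv.ext (actFun_one F)
  map_mul' g h := Equiv.ext (actFun_mul F g h)

theorem act_apply {g : M} {x y : Vec} {l : G} (hl : l ∈ closure ({a, b} : Set G)) (h : (g : G) * W x = W y * l) :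
    act F g x = y := actFun_spec F hl h

theorem act_trans (g : M) (z : Vec) (h : (g : G) = W z) : act F g = trans z :=
  Equiv.ext fun x => act_apply F (one_mem _) (by
    rw [h, mul_one]; exact (W_add F z x).symm)

theorem act_W (z : Vec) : act F ⟨W z, W_mem F z⟩ = trans z := act_trans F _ z rfl

theorem act_c (h : c ∈ M) : act F ⟨c, h⟩ = trans (1, 0, 0) :=
  act_trans F _ _ (W_single F).1.symm

theorem act_v2 (h : v2 ∈ M) : act F ⟨v2, h⟩ = trans (0, 1, 0) :=
  act_trans F _ _ (W_single F).2.1.symm

theorem act_v3 (h : v3 ∈ M) : act F ⟨v3, h⟩ = trans (0, 0, 1) :=
  act_trans F _ _ (W_single F).2.2.symm

theorem act_a (h : a ∈ M) : act F ⟨a, h⟩ = linA :=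
  Equiv.ext fun x => act_apply F (subset_closure (by simp)) (conj_a F x)

theorem act_b (h : b ∈ M) : act F ⟨b, h⟩ = linB :=
  Equiv.ext fun x => act_apply F (subset_closure (by simp)) (conj_b F x)

end

/-- a word in the two matrices -/
def linW : List Bool → Equiv.Perm Vec
  | [] => 1
  | e :: w => (if e then linA else linB) * linW w

/-- one word for each element of the group generated by the two matrices -/
def words : List (List Bool) :=
  [
    [],
    [true],
    [false],
    [false, false],
    [true, false],
    [true, false, false],
    [false, true],
    [false, false, true],
    [true, false, true],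
    [true, false, false, true],
    [false, true, false],
    [false, true, false, false],
    [false, false, true, false],
    [false, false, true, false, false],
    [true, false, true, false],
    [true, false, true, false, false],
    [true, false, false, true, false],
    [true, false, false, true, false, false],
    [false, true, false, true],
    [false, true, false, false, true],
    [false, false, true, false, true],
    [false, false, true, false, false, true],
    [true, false, true, false, true],
    [true, false, true, false, false, true],
    [true, false, false, true, false, true],
    [true, false, false, true, false, false, true],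
    [false, true, false, true, false],
    [false, true, false, true, false, false],
    [false, true, false, false, true, false],
    [false, true, false, false, true, false, false],
    [false, false, true, false, true, false],
    [false, false, true, false, true, false, false],
    [false, false, true, false, false, true, false],
    [false, false, true, false, false, true, false, false],
    [true, false, true, false, true, false],
    [true, false, true, false, true, false, false],
    [true, false, true, false, false, true, false],
    [true, false, true, false, false, true, false, false],
    [true, false, false, true, false, true, false],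
    [true, false, false, true, false, true, false, false],
    [true, false, false, true, false, false, true, false],
    [true, false, false, true, false, false, true, false, false],
    [false, true, false, true, false, true],
    [false, true, false, true, false, false, true],
    [false, true, false, false, true, false, true],
    [false, true, false, false, true, false, false, true],
    [false, false, true, false, true, false, true],
    [false, false, true, false, true, false, false, true],
    [false, false, true, false, false, true, false, true],
    [false, false, true, false, false, true, false, false, true],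
    [true, false, true, false, true, false, true],
    [true, false, true, false, true, false, false, true],
    [true, false, true, false, false, true, false, true],
    [true, false, true, false, false, true, false, false, true],
    [true, false, false, true, false, true, false, true],
    [true, false, false, true, false, true, false, false, true],
    [true, false, false, true, false, false, true, false, true],
    [true, false, false, true, false, false, true, false, false, true],
    [false, true, false, true, false, true, false, false],
    [false, true, false, true, false, false, true, false],
    [false, true, false, true, false, false, true, false, false],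
    [false, true, false, false, true, false, true, false],
    [false, true, false, false, true, false, true, false, false],
    [false, true, false, false, true, false, false, true, false],
    [false, true, false, false, true, false, false, true, false, false],
    [false, false, true, false, true, false, true, false],
    [false, false, true, false, true, false, true, false, false],
    [false, false, true, false, true, false, false, true, false],
    [false, false, true, false, true, false, false, true, false, false],
    [false, false, true, false, false, true, false, true, false],
    [false, false, true, false, false, true, false, true, false, false],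
    [false, false, true, false, false, true, false, false, true, false],
    [true, false, true, false, true, false, false, true, false],
    [true, false, true, false, true, false, false, true, false, false],
    [true, false, true, false, false, true, false, true, false],
    [true, false, true, false, false, true, false, true, false, false],
    [true, false, true, false, false, true, false, false, true, false],
    [true, false, true, false, false, true, false, false, true, false, false],
    [true, false, false, true, false, true, false, true, false],
    [true, false, false, true, false, true, false, true, false, false],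
    [true, false, false, true, false, true, false, false, true, false],
    [true, false, false, true, false, true, false, false, true, false, false],
    [true, false, false, true, false, false, true, false, true, false],
    [true, false, false, true, false, false, true, false, true, false, false],
    [false, true, false, true, false, true, false, false, true],
    [false, true, false, true, false, false, true, false, true],
    [false, true, false, true, false, false, true, false, false, true],
    [false, true, false, false, true, false, true, false, true],
    [false, true, false, false, true, false, false, true, false, true],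
    [false, false, true, false, true, false, true, false, false, true],
    [false, false, true, false, true, false, false, true, false, false, true],
    [false, false, true, false, false, true, false, true, false, true],
    [false, false, true, false, false, true, false, true, false, false, true],
    [false, false, true, false, false, true, false, false, true, false, true],
    [true, false, true, false, true, false, false, true, false, true],
    [true, false, true, false, true, false, false, true, false, false, true],
    [true, false, true, false, false, true, false, true, false, true],
    [true, false, true, false, false, true, false, false, true, false, true],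
    [true, false, false, true, false, true, false, true, false, false, true],
    [true, false, false, true, false, true, false, false, true, false, false, true],
    [true, false, false, true, false, false, true, false, true, false, true],
    [true, false, false, true, false, false, true, false, true, false, false, true],
    [false, true, false, true, false, true, false, false, true, false],
    [false, true, false, true, false, true, false, false, true, false, false],
    [false, true, false, true, false, false, true, false, true, false],
    [false, true, false, true, false, false, true, false, false, true, false],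
    [false, true, false, true, false, false, true, false, false, true, false, false],
    [false, true, false, false, true, false, true, false, true, false],
    [false, true, false, false, true, false, true, false, true, false, false],
    [false, true, false, false, true, false, false, true, false, true, false],
    [false, true, false, false, true, false, false, true, false, true, false, false],
    [false, false, true, false, true, false, true, false, false, true, false],
    [false, false, true, false, true, false, true, false, false, true, false, false],
    [false, false, true, false, true, false, false, true, false, false, true, false],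
    [false, false, true, false, true, false, false, true, false, false, true, false, false],
    [false, false, true, false, false, true, false, true, false, true, false],
    [false, false, true, false, false, true, false, true, false, true, false, false],
    [false, false, true, false, false, true, false, false, true, false, true, false],
    [false, false, true, false, false, true, false, false, true, false, true, false, false],
    [true, false, true, false, true, false, false, true, false, true, false],
    [true, false, true, false, true, false, false, true, false, false, true, false],
    [true, false, true, false, true, false, false, true, false, false, true, false, false],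
    [true, false, true, false, false, true, false, true, false, true, false],
    [true, false, true, false, false, true, false, true, false, true, false, false],
    [true, false, true, false, false, true, false, false, true, false, true, false],
    [true, false, true, false, false, true, false, false, true, false, true, false, false],
    [true, false, false, true, false, true, false, true, false, false, true, false],
    [true, false, false, true, false, true, false, true, false, false, true, false, false],
    [true, false, false, true, false, true, false, false, true, false, false, true, false],
    [true, false, false, true, false, true, false, false, true, false, false, true, false, false],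
    [true, false, false, true, false, false, true, false, true, false, true, false],
    [true, false, false, true, false, false, true, false, true, false, true, false, false],
    [false, true, false, true, false, true, false, false, true, false, true],
    [false, true, false, true, false, true, false, false, true, false, false, true],
    [false, true, false, true, false, false, true, false, true, false, true],
    [false, true, false, true, false, false, true, false, false, true, false, true],
    [false, true, false, false, true, false, true, false, true, false, false, true],
    [false, true, false, false, true, false, false, true, false, true, false, true],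
    [false, true, false, false, true, false, false, true, false, true, false, false, true],
    [false, false, true, false, true, false, true, false, false, true, false, true],
    [false, false, true, false, true, false, true, false, false, true, false, false, true],
    [false, false, true, false, true, false, false, true, false, false, true, false, true],
    [false, false, true, false, false, true, false, true, false, true, false, false, true],
    [false, false, true, false, false, true, false, false, true, false, true, false, true],
    [false, false, true, false, false, true, false, false, true, false, true, false, false, true],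
    [true, false, true, false, true, false, false, true, false, true, false, true],
    [true, false, true, false, true, false, false, true, false, false, true, false, true],
    [true, false, true, false, false, true, false, true, false, true, false, false, true],
    [true, false, true, false, false, true, false, false, true, false, true, false, true],
    [true, false, true, false, false, true, false, false, true, false, true, false, false, true],
    [true, false, false, true, false, true, false, true, false, false, true, false, true],
    [true, false, false, true, false, true, false, true, false, false, true, false, false, true],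
    [true, false, false, true, false, true, false, false, true, false, false, true, false, true],
    [true, false, false, true, false, false, true, false, true, false, true, false, false, true],
    [false, true, false, true, false, true, false, false, true, false, true, false],
    [false, true, false, true, false, true, false, false, true, false, false, true, false, false],
    [false, true, false, true, false, false, true, false, true, false, true, false],
    [false, true, false, true, false, false, true, false, true, false, true, false, false],
    [false, true, false, true, false, false, true, false, false, true, false, true, false],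
    [false, true, false, false, true, false, true, false, true, false, false, true, false],
    [false, true, false, false, true, false, false, true, false, true, false, true, false, false],
    [false, false, true, false, true, false, true, false, false, true, false, true, false],
    [false, false, true, false, true, false, true, false, false, true, false, false, true, false],
    [false, false, true, false, true, false, false, true, false, false, true, false, true, false, false],
    [false, false, true, false, false, true, false, true, false, true, false, false, true, false, false],
    [false, false, true, false, false, true, false, false, true, false, true, false, true, false],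
    [true, false, true, false, true, false, false, true, false, true, false, true, false],
    [true, false, true, false, true, false, false, true, false, true, false, true, false, false]]

theorem words_nodup : (words.map fun w =>
    (linW w (1, 0, 0), linW w (0, 1, 0), linW w (0, 0, 1))).Nodup := by decide +kernel

theorem words_length : words.length = 168 := by decide +kernel

section
variable (F : HSFrame28.MFrame t M c v2 v3 a b)
include F

theorem index_inj (i k : Fin words.length) (e : linW words[i.1] = linW words[k.1]) : i = k := by
  have hn := words_nodup
  rw [List.nodup_iff_injective_getElem] at hn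
  have := @hn ⟨i.1, by simp⟩ ⟨k.1, by simp⟩ (by simp only [List.getElem_map]; rw [e])
  exact Fin.ext (congrArg Fin.val this)

/-- The complement corresponds bijectively to the list of words. -/
theorem exists_index : ∃ f : Fin words.length → (closure ({a, b} : Set G) : Subgroup G),
    Function.Bijective f ∧
      ∀ i, act F (Subgroup.inclusion (compl_le F) (f i)) = linW words[i.1] := by
  let incl : (closure ({a, b} : Set G) : Subgroup G) →* M := Subgroup.inclusion (compl_le F)
  haveI : Finite (closure ({a, b} : Set G) : Subgroup G) :=
    Nat.finite_of_card_ne_zero (by rw [F.card_compl]; decide)
  have hreach : ∀ w : List Bool, ∃ l, act F (incl l) = linW w := by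
    intro w
    induction w with
    | nil => exact ⟨1, by simp [linW]⟩
    | cons e w ih =>
      obtain ⟨l, hl⟩ := ih
      cases e
      · refine ⟨⟨b, subset_closure (by simp)⟩ * l, ?_⟩
        rw [map_mul, map_mul, hl]
        exact congrArg (· * linW w) (act_b F _)
      · refine ⟨⟨a, subset_closure (by simp)⟩ * l, ?_⟩
        rw [map_mul, map_mul, hl]
        exact congrArg (· * linW w) (act_a F _)
  choose pick hpick using hreach
  let f : Fin words.length → (closure ({a, b} : Set G) : Subgroup G) := fun i => pick words[i.1]
  have hf : Function.Injective f := fun i k h =>
    index_inj F i k (by rw [← hpick, ← hpick]; exact congrArg _ (congrArg incl h))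
  have hbij : Function.Bijective f := hf.bijective_of_nat_card_le (by
    rw [F.card_compl, Nat.card_fin, words_length])
  exact ⟨f, hbij, fun i => hpick _⟩

/-- Every element of the complement acts as one of the listed words. -/
theorem compl_act {l : G} (hl : l ∈ closure ({a, b} : Set G)) (h : l ∈ M) :
    ∃ w ∈ words, act F ⟨l, h⟩ = linW w := by
  obtain ⟨f, hf, hfa⟩ := exists_index F
  obtain ⟨i, hi⟩ := hf.2 ⟨l, hl⟩
  refine ⟨_, List.getElem_mem i.2, ?_⟩
  rw [← hfa i, hi]
  rfl

theorem act_injective : Function.Injective (act F) := by
  obtain ⟨f, hbij, hpick⟩ := exists_index F
  refine (injective_iff_map_eq_one _).2 fun g hg => ?_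
  obtain ⟨x, l, hl, hgx⟩ := decomp F g.2
  have hx : x = 0 := by
    have := act_apply F (g := g) (x := 0) (y := x) hl (by rw [W_zero F, mul_one, hgx])
    rw [hg] at this
    simpa using this.symm
  obtain ⟨i, hi⟩ := hbij.2 ⟨l, hl⟩
  have hgl : g = Subgroup.inclusion (compl_le F) (f i) := Subtype.ext (by
    rw [hgx, hx, W_zero F, one_mul, hi]; rfl)
  obtain ⟨k, hk⟩ := hbij.2 1
  have hik : i = k := index_inj F i k (by
    rw [← hpick, ← hpick]
    rw [← hgl, hk, hg, map_one, map_one])
  rw [hgl, hik, hk, map_one]

theorem mem_a : a ∈ M := compl_le F (subset_closure (by simp))

theorem mem_b : b ∈ M := compl_le F (subset_closure (by simp))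

/-- Equality in `M` is decided on the sixty-four points. -/
theorem eq_of_act {g h : M} (e : act F g = act F h) : (g : G) = h :=
  congrArg Subtype.val (act_injective F e)

theorem act_wA (h : HSFrame28.wA a b ∈ M) :
    act F ⟨_, h⟩ = HSFrame28.wA linA linB := by
  have : (⟨_, h⟩ : M) = HSFrame28.wA (⟨a, mem_a F⟩ : M) ⟨b, mem_b F⟩ := Subtype.ext rfl
  rw [this]
  simp only [HSFrame28.wA, map_mul, map_inv, act_a F, act_b F]

theorem act_wB (h : HSFrame28.wB a b ∈ M) :
    act F ⟨_, h⟩ = HSFrame28.wB linA linB := by
  have : (⟨_, h⟩ : M) = HSFrame28.wB (⟨a, mem_a F⟩ : M) ⟨b, mem_b F⟩ := Subtype.ext rfl
  rw [this]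
  simp only [HSFrame28.wB, HSFrame28.wA, map_mul, map_inv, act_a F, act_b F]

theorem act_s0 (h : HSFrame28.s0 a b ∈ M) :
    act F ⟨_, h⟩ = HSFrame28.s0 linA linB := by
  have : (⟨_, h⟩ : M) = HSFrame28.s0 (⟨a, mem_a F⟩ : M) ⟨b, mem_b F⟩ := Subtype.ext rfl
  rw [this]
  simp only [HSFrame28.s0, map_mul, map_inv, act_a F, act_b F]

theorem act_s3 (h : HSFrame28.s3 v3 a b ∈ M) :
    act F ⟨_, h⟩ = HSFrame28.s3 (trans (0, 0, 1)) linA linB := by
  have hv : v3 ∈ M := by have := W_mem F (0, 0, 1); rwa [(W_single F).2.2] at this
  have : (⟨_, h⟩ : M) = HSFrame28.s3 (⟨v3, hv⟩ : M) ⟨a, mem_a F⟩ ⟨b, mem_b F⟩ := Subtype.ext rfl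
  rw [this]
  simp only [HSFrame28.s3, map_mul, map_inv, act_a F, act_b F, act_v3 F]

theorem mem_words : HSFrame28.wA a b ∈ M ∧ HSFrame28.wB a b ∈ M ∧ HSFrame28.s0 a b ∈ M ∧
    HSFrame28.s3 v3 a b ∈ M := by
  have ha := mem_a F; have hb := mem_b F
  have hv : v3 ∈ M := by have := W_mem F (0, 0, 1); rwa [(W_single F).2.2] at this
  refine ⟨?_, ?_, ?_, ?_⟩ <;>
    simp only [HSFrame28.wA, HSFrame28.wB, HSFrame28.s0, HSFrame28.s3] <;>
    (repeat' first | apply mul_mem | apply inv_mem | assumption)

example : HSFrame28.s0 linA linB * HSFrame28.wB linA linB =
    HSFrame28.wB linA linB * HSFrame28.s0 linA linB := by decide +kernel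

end

end Cfsg.Agent.HSModel28
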