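import Cfsg.Agent.Lib.J2Simple
import Cfsg.Agent.Lib.J2OutData76
import Cfsg.Prelude.Def_KGroupFacts

/-!
The outer automorphism group of `J2` has order two.
-/

set_option autoImplicit false
set_option maxRecDepth 100000

namespace Cfsg.Agent.J2Out76

open Cfsg.Agent.J2ChainDefs Cfsg.Agent.J2ChainData Cfsg.Agent.J2OrderData Cfsg.Agent.J2OrderDefs
  Cfsg.Agent.J2Lines Cfsg.Agent.J2Group Cfsg.Agent.J2Chain Cfsg.Agent.J2Spectrum
  Cfsg.Agent.J2Simple Cfsg.Agent.J2OutData76

/-- `f` computes the permutation `σ`. -/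
def RepF (f : ℕ → ℕ) (σ : Equiv.Perm (Fin 315)) : Prop := ∀ i : Fin 315, (σ i : ℕ) = f i

theorem repF_iter {f : ℕ → ℕ} {σ : lineGroup} (h : RepF f σ) :
    ∀ m, RepF (iter f m) ((σ ^ m : lineGroup) : Equiv.Perm (Fin 315)) := by
  intro m
  induction m with
  | zero => exact fun i => rfl
  | succ m ih =>
    intro i
    rw [pow_succ', Subgroup.coe_mul, Equiv.Perm.mul_apply, h, ih]
    rfl

theorem repF_one : RepF id 1 := fun _ => rfl

theorem eq_of_base {f g : ℕ → ℕ} {σ τ : lineGroup} (hσ : RepF f σ) (hτ : RepF g τ)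
    (h : baseEq f g = true) : σ = τ := by
  simp only [baseEq, Bool.and_eq_true] at h
  have key : ∀ i : Fin 315, f i = g i → (τ.1)⁻¹ (σ.1 i) = i := by
    intro i hi
    rw [Equiv.Perm.inv_eq_iff_eq]
    exact Fin.ext ((hσ i).trans (hi.trans (hτ i).symm))
  have := eq_one_of_fix (σ := (τ.1)⁻¹ * σ.1) (lineGroup.mul_mem (lineGroup.inv_mem τ.2) σ.2)
    (key 0 (Nat.eq_of_beq_eq_true h.1.1)) (key 106 (Nat.eq_of_beq_eq_true h.1.2))
    (key 1 (Nat.eq_of_beq_eq_true h.2))
  exact Subtype.ext (inv_mul_eq_one.1 this).symm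

theorem baseEq_of_eq {f g : ℕ → ℕ} {σ : lineGroup} (hσ : RepF f σ) (hτ : RepF g σ) :
    baseEq f g = true := by
  simp only [baseEq, Bool.and_eq_true]
  have key : ∀ i : Fin 315, Nat.beq (f i) (g i) = true := fun i => by
    rw [← hσ i, ← hτ i]; exact Nat.beq_refl _
  exact ⟨⟨key 0, key 106⟩, key 1⟩

/-- A factorised element. -/
noncomputable def el (x : Fin 315) (a : Fin 160) (b : Fin 12) : lineGroup :=
  ⟨T x * (A a * B b), mul_mem (T_mem x) (stab0_le (mul_mem (A_mem a) (B_mem b)))⟩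

theorem el_rep (x : Fin 315) (a : Fin 160) (b : Fin 12) :
    RepF (fun i => ev x a b i) (el x a b) := fun i => by
  show ((T x * (A a * B b)) i : ℕ) = _
  rw [Equiv.Perm.mul_apply, Equiv.Perm.mul_apply, T_rep, A_rep, B_rep]
  rfl

/-- A reflection as an element. -/
noncomputable def ref (k : Fin 315) : lineGroup := ⟨lineRefl k, lineRefl_mem k⟩

theorem conj_ref (g : lineGroup) (k : Fin 315) : g * ref k * g⁻¹ = ref (g.1 k) :=
  Subtype.ext (lineRefl_conj g.2 k)

theorem ref_rep_zero : RepF (at9 (gp 0)) (ref 0) := fun i => by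
  show (lineRefl 0 i : ℕ) = _
  rw [lineRefl_zero]
  exact rep_gperm 0 i

theorem ref_ne_one : ref 0 ≠ 1 := by
  intro h
  have h' := congrArg Subtype.val h
  have := lineGroup_simple
  have hne : gperm 0 ≠ 1 := fun h0 => by
    obtain ⟨p, hp⟩ := not_comm
    exact hp (by rw [h0]; rfl)
  exact hne (lineRefl_zero.symm.trans h')

/-- Recognition of a reflection from its action. -/
theorem ref_rep {f : ℕ → ℕ} {σ : Equiv.Perm (Fin 315)} (hσ : RepF f σ) (j : Fin 315)
    (h : ∀ i : Fin 315, f (at9 (t1 j) i) = at9 (t1 j) (at9 (gp 0) i)) : σ = lineRefl j := by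
  have hj : lineRefl j = T j * gperm 0 * (T j)⁻¹ := by
    rw [← lineRefl_zero, lineRefl_conj (T_mem j), T_zero]
  rw [hj, eq_mul_inv_iff_mul_eq]
  refine Equiv.ext fun i => Fin.ext ?_
  rw [Equiv.Perm.mul_apply, Equiv.Perm.mul_apply, hσ, T_rep, T_rep, rep_gperm 0 i]
  exact h i

/-- The element of order seven. -/
noncomputable def X : lineGroup := el 187 96 9

/-- The normalising element. -/
noncomputable def Y : lineGroup := el 71 71 11

theorem X_rep : RepF xf X := el_rep 187 96 9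

theorem Y_rep : RepF yf Y := el_rep 71 71 11

theorem X_pow_seven : X ^ 7 = 1 :=
  eq_of_base (repF_iter X_rep 7) repF_one x_ok.1

theorem X_ne_one : X ≠ 1 := fun h => by
  have h1 := X_rep 0
  rw [h] at h1
  have h2 := x_ok.2
  rw [show xf 0 = 0 from h1.symm, Nat.beq_refl] at h2
  exact Bool.noConfusion h2

theorem X_order : orderOf X = 7 := by
  have : Fact (Nat.Prime 7) := ⟨by norm_num⟩
  exact orderOf_eq_prime X_pow_seven X_ne_one

theorem Y_conj : Y * X * Y⁻¹ = X ^ 3 := by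
  rw [mul_inv_eq_iff_eq_mul]
  refine eq_of_base (f := fun i => yf (xf i)) (g := fun i => iter xf 3 (yf i)) (fun i => ?_) (fun i => ?_) y_ok
  · show (Y.1 (X.1 i) : ℕ) = _
    rw [Y_rep, X_rep]
  · show ((X ^ 3).1 (Y.1 i) : ℕ) = _
    rw [repF_iter X_rep 3 (Y.1 i), Y_rep]

theorem ref_mem_closure (k : Fin 315) : ref k ∈ Subgroup.closure ({X, ref 0} : Set lineGroup) := by
  have key : ∀ d, ∀ k : Fin 315, depth.getD k 0 = d →
      ref k ∈ Subgroup.closure ({X, ref 0} : Set lineGroup) := by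
    intro d
    induction d using Nat.strong_induction_on with
    | _ d ih =>
      intro k hd
      have hX : X ∈ Subgroup.closure ({X, ref 0} : Set lineGroup) :=
        Subgroup.subset_closure (Set.mem_insert _ _)
      have hR : ref 0 ∈ Subgroup.closure ({X, ref 0} : Set lineGroup) :=
        Subgroup.subset_closure (Set.mem_insert_of_mem _ rfl)
      have h := List.all_eq_true.mp depth_ok.2 k (List.mem_range.mpr k.2)
      simp only [Bool.or_eq_true, Bool.and_eq_true, Nat.blt_eq] at h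
      rcases h with h0 | ⟨⟨hp, hlt⟩, hc⟩
      · rw [show k = 0 from Fin.ext (Nat.eq_of_beq_eq_true h0)]
        exact hR
      have hpm := ih _ (hd ▸ hlt) ⟨_, hp⟩ rfl
      rcases hc with ⟨-, he⟩ | ⟨-, he⟩
      · have e : (ref 0).1 ⟨_, hp⟩ = k := Fin.ext ((ref_rep_zero _).trans (Nat.eq_of_beq_eq_true he))
        rw [← e, ← conj_ref]
        exact Subgroup.mul_mem _ (Subgroup.mul_mem _ hR hpm) (Subgroup.inv_mem _ hR)
      · have e : X.1 ⟨_, hp⟩ = k := Fin.ext ((X_rep _).trans (Nat.eq_of_beq_eq_true he))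
        rw [← e, ← conj_ref]
        exact Subgroup.mul_mem _ (Subgroup.mul_mem _ hX hpm) (Subgroup.inv_mem _ hX)
  exact key _ k rfl

theorem closure_gens : Subgroup.closure ({X, ref 0} : Set lineGroup) = ⊤ := by
  set K := Subgroup.closure ({X, ref 0} : Set lineGroup)
  have hle : lineGroup ≤ K.map lineGroup.subtype := by
    refine (Subgroup.closure_le _).2 ?_
    rintro _ ⟨g, rfl⟩
    exact ⟨ref (gfin g), ref_mem_closure _, lineRefl_gfin g⟩
  rw [eq_top_iff]
  intro y _
  obtain ⟨z, hz, he⟩ := hle y.2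
  rwa [show y = z from Subtype.ext he.symm]

theorem aut_ext {φ ψ : MulAut lineGroup} (h1 : φ X = ψ X) (h2 : φ (ref 0) = ψ (ref 0)) : φ = ψ := by
  have := MonoidHom.eq_of_eqOn_dense (f := φ.toMonoidHom) (g := ψ.toMonoidHom) closure_gens (by
    rintro y (rfl | rfl)
    · exact h1
    · exact h2)
  exact MulEquiv.ext fun y => DFunLike.congr_fun this y

theorem el_surj (σ : lineGroup) : ∃ x a b, σ = el x a b := by
  obtain ⟨x, h, hh, he⟩ := factor σ.2
  obtain ⟨a, b, rfl⟩ := stab0_eq hh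
  exact ⟨x, a, b, Subtype.ext he⟩

theorem pow_four_sq {σ : lineGroup} (h4 : σ ^ 4 = 1) (h2 : σ ^ 2 ≠ 1) : ∃ j, σ ^ 2 = ref j := by
  obtain ⟨k, a, b, h, hh, he⟩ := exists_conj σ.2
  set f := el (sfin k) a b
  set g : lineGroup := ⟨h, hh⟩
  have hσ : σ = g * f * g⁻¹ := Subtype.ext he
  have hf : RepF (fun i => ev (srep k) a b i) f := el_rep (sfin k) a b
  have hc : ∀ m, σ ^ m = g * f ^ m * g⁻¹ := fun m => by rw [hσ, conj_pow]
  have hf4 : f ^ 4 = 1 := by
    have := hc 4
    rw [h4, eq_comm, conj_eq_one_iff] at this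
    exact this
  have hf2 : f ^ 2 ≠ 1 := fun e => h2 (by rw [hc, e]; group)
  have hck := List.all_eq_true.mp sq_ok k (List.mem_range.mpr k.2)
  have hab := List.all_eq_true.mp (List.all_eq_true.mp hck a (List.mem_range.mpr a.2)) b
    (List.mem_range.mpr b.2)
  simp only [Bool.or_eq_true, Bool.and_eq_true, Bool.not_eq_true', Nat.blt_eq] at hab
  rcases hab with (hab | hab) | ⟨hj, hb⟩
  · exact absurd (baseEq_of_eq (σ := f ^ 4) (repF_iter hf 4) (by rw [hf4]; exact repF_one))
      (by simp only [ev] at *; rw [hab]; simp)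
  · exact absurd (eq_of_base (σ := f ^ 2) (τ := 1) (repF_iter hf 2) repF_one hab) hf2
  · set j : Fin 315 := ⟨_, hj⟩
    have key : f ^ 2 * el j 0 0 = el j 0 0 * ref 0 := by
      refine eq_of_base (f := fun i => iter (fun i => ev (srep k) a b i) 2 (at9 (t1 j) i))
        (g := fun i => at9 (t1 j) (at9 (gp 0) i)) (fun i => ?_) (fun i => ?_) hb
      · show ((f ^ 2).1 ((T j * (A 0 * B 0)) i) : ℕ) = _
        rw [repF_iter hf 2, A_zero, B_zero, mul_one, mul_one, T_rep]
      · show ((T j * (A 0 * B 0)) ((ref 0).1 i) : ℕ) = _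
        rw [A_zero, B_zero, mul_one, mul_one, T_rep, ref_rep_zero]
    refine ⟨g.1 j, ?_⟩
    have hz : (el j 0 0).1 0 = j := by
      show (T j * (A 0 * B 0)) 0 = j
      rw [A_zero, B_zero, mul_one, mul_one, T_zero]
    have hj2 : f ^ 2 = ref j := by
      rw [eq_mul_inv_iff_mul_eq.2 key, conj_ref, hz]
    rw [hc, hj2, conj_ref]

theorem aut_ref (φ : MulAut lineGroup) : ∃ j, φ (ref 0) = ref j := by
  set w := el (sfin 0) 1 6
  have hw : RepF wf w := el_rep (sfin 0) 1 6
  have h2 : w ^ 2 = ref 0 := eq_of_base (repF_iter hw 2) ref_rep_zero w_ok.1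
  have h4 : w ^ 4 = 1 := eq_of_base (repF_iter hw 4) repF_one w_ok.2
  rw [← h2, map_pow]
  refine pow_four_sq (by rw [← map_pow, h4, map_one]) ?_
  rw [← map_pow, h2]
  exact fun h => ref_ne_one (φ.injective (h.trans (map_one φ).symm))

theorem aut_X (φ : MulAut lineGroup) : ∃ g : lineGroup, φ X = g * X * g⁻¹ := by
  have h7 : Fact (Nat.Prime 7) := ⟨by norm_num⟩
  have hfac : (Nat.card lineGroup).factorization 7 = 1 := by
    rw [card_lineGroup, show (604800 : ℕ) = 7 ^ 1 * 86400 from rfl,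
      Nat.factorization_mul (by norm_num) (by norm_num), Finsupp.coe_add, Pi.add_apply,
      Nat.Prime.factorization_pow (by norm_num), Finsupp.single_eq_same,
      Nat.factorization_eq_zero_of_not_dvd (by norm_num : ¬ 7 ∣ 86400)]
  have hc : ∀ z : lineGroup, orderOf z = 7 → Nat.card (Subgroup.zpowers z) = 7 ^ (Nat.card lineGroup).factorization 7 :=
    fun z hz => by rw [hfac, Nat.card_zpowers, hz, pow_one]
  obtain ⟨g, hg⟩ := MulAction.exists_smul_eq lineGroup (Sylow.ofCard _ (hc X X_order))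
    (Sylow.ofCard _ (hc (φ X) (by rw [MulEquiv.orderOf_eq, X_order])))
  have hmem : φ X ∈ (g • Sylow.ofCard _ (hc X X_order) : Sylow 7 lineGroup) := by
    rw [hg]
    exact Subgroup.mem_zpowers _
  obtain ⟨y, hy, hye⟩ := hmem
  obtain ⟨i, rfl⟩ : ∃ i : ℕ, X ^ i = y := by
    have h0 : y ∈ Subgroup.zpowers X := hy
    rw [mem_zpowers_iff_mem_range_orderOf, Finset.mem_image] at h0
    obtain ⟨i, -, hi⟩ := h0
    exact ⟨i, hi⟩
  change g * X ^ i * g⁻¹ = φ X at hye
  have hi : i % 7 ≠ 0 := by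
    intro h
    have h1 : X ^ i = 1 := by rw [← Nat.div_add_mod i 7, h, add_zero, pow_mul, X_pow_seven, one_pow]
    have h2 : φ X = 1 := by rw [← hye, h1, mul_one, mul_inv_cancel]
    exact X_ne_one (φ.injective (h2.trans (map_one φ).symm))
  obtain ⟨e, he⟩ : ∃ e : ℕ, i % 7 = 3 ^ e % 7 := by
    have : i % 7 < 7 := Nat.mod_lt _ (by norm_num)
    rcases (show i % 7 = 1 ∨ i % 7 = 2 ∨ i % 7 = 3 ∨ i % 7 = 4 ∨ i % 7 = 5 ∨ i % 7 = 6 by omega) with
      h | h | h | h | h | h
    · exact ⟨0, h⟩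
    · exact ⟨2, h⟩
    · exact ⟨1, h⟩
    · exact ⟨4, h⟩
    · exact ⟨5, h⟩
    · exact ⟨3, h⟩
  have hpow : ∀ e : ℕ, Y ^ e * X * (Y ^ e)⁻¹ = X ^ 3 ^ e := by
    intro e
    induction e with
    | zero => simp
    | succ e ih =>
      rw [pow_succ', mul_inv_rev, show Y * Y ^ e * X * ((Y ^ e)⁻¹ * Y⁻¹) =
        Y * (Y ^ e * X * (Y ^ e)⁻¹) * Y⁻¹ by group, ih, ← conj_pow, Y_conj, ← pow_mul, ← pow_succ']
  refine ⟨g * Y ^ e, ?_⟩
  have hXi : X ^ i = X ^ 3 ^ e := by
    rw [pow_eq_pow_iff_modEq, X_order]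
    exact he
  rw [← hye, hXi, ← hpow]
  group

/-- Evaluation of separating words. -/
theorem word_rep {R : ℕ} {r : lineGroup} (hr : RepF (at9 R) r) :
    ∀ es : List ℕ, RepF (wordFn R es) (es.map fun e => X ^ e * r).prod := by
  intro es
  induction es with
  | nil => exact fun i => rfl
  | cons e es ih =>
    intro i
    rw [List.map_cons, List.prod_cons]
    show ((X ^ e).1 (r.1 ((es.map fun e => X ^ e * r).prod.1 i)) : ℕ) = _
    rw [repF_iter X_rep e, hr, ih]
    rfl

theorem star_lt : star < 315 := by decide +kernel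

/-- The exceptional line. -/
def starF : Fin 315 := ⟨star, star_lt⟩

theorem aut_normal_form (φ : MulAut lineGroup) : ∃ g : lineGroup,
    (MulAut.conj g * φ) X = X ∧
      ((MulAut.conj g * φ) (ref 0) = ref 0 ∨ (MulAut.conj g * φ) (ref 0) = ref starF) := by
  obtain ⟨g, hg⟩ := aut_X φ
  obtain ⟨j, hj⟩ := aut_ref (MulAut.conj g⁻¹ * φ)
  have hX : (MulAut.conj g⁻¹ * φ) X = X := by
    rw [MulAut.mul_apply, hg, MulAut.conj_apply]
    group
  obtain ⟨e, -, hje⟩ := List.any_eq_true.mp (List.all_eq_true.mp orbit_ok j (List.mem_range.mpr j.2))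
  obtain ⟨c, hcm, hce⟩ := List.any_eq_true.mp hje
  simp only [Bool.and_eq_true, Nat.blt_eq] at hce
  obtain ⟨hc, hce⟩ := hce
  obtain ⟨t, ht, htc⟩ := List.getElem_of_mem hcm
  rw [cand_length] at ht
  let cF : Fin 315 := ⟨c, hc⟩
  have hXj : (X ^ e).1 cF = j := Fin.ext ((repF_iter X_rep e cF).trans (Nat.eq_of_beq_eq_true hce))
  set ψ := MulAut.conj ((X ^ e)⁻¹ * g⁻¹) * φ
  have hψ : ∀ y, ψ y = (X ^ e)⁻¹ * (MulAut.conj g⁻¹ * φ) y * ((X ^ e)⁻¹)⁻¹ := fun y => by
    show (X ^ e)⁻¹ * g⁻¹ * φ y * ((X ^ e)⁻¹ * g⁻¹)⁻¹ =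
      (X ^ e)⁻¹ * (g⁻¹ * φ y * g⁻¹⁻¹) * ((X ^ e)⁻¹)⁻¹
    group
  have hψX : ψ X = X := by
    rw [hψ, hX, inv_inv, mul_assoc, (Commute.self_pow X e).eq, inv_mul_cancel_left]
  have hψr : ψ (ref 0) = ref cF := by
    rw [hψ, hj, conj_ref]
    congr 1
    rw [← hXj]
    simp
  refine ⟨(X ^ e)⁻¹ * g⁻¹, hψX, ?_⟩
  show ψ (ref 0) = ref 0 ∨ ψ (ref 0) = ref starF
  have hR : RepF (at9 (candPerm.getD t 0)) (ref cF) := by
    have h := List.all_eq_true.mp candPerm_ok t (List.mem_range.mpr ht)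
    intro i
    obtain ⟨k, rfl⟩ : ∃ k, T cF k = i := ⟨(T cF).symm i, (T cF).apply_symm_apply i⟩
    have hk := List.all_eq_true.mp h k (List.mem_range.mpr k.2)
    rw [List.getD_eq_getElem cand 0 (by rw [cand_length]; exact ht), htc] at hk
    have hrefl : lineRefl cF (T cF k) = T cF (gperm 0 k) := by
      have h0 := lineRefl_conj (T_mem cF) 0
      rw [T_zero, lineRefl_zero, mul_inv_eq_iff_eq_mul] at h0
      exact (congrArg (fun f : Equiv.Perm (Fin 315) => f k) h0).symm
    show (lineRefl cF (T cF k) : ℕ) = _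
    rw [hrefl, T_rep, T_rep, rep_gperm 0 k]
    exact (Nat.eq_of_beq_eq_true hk).symm
  have h := List.all_eq_true.mp tests_cand t (List.mem_range.mpr ht)
  rw [List.getD_eq_getElem cand 0 (by rw [cand_length]; exact ht), htc] at h
  simp only [Bool.or_eq_true] at h
  rcases h with (h | h) | h
  · left
    rw [hψr, show cF = 0 from Fin.ext (Nat.eq_of_beq_eq_true h)]
  · right
    rw [hψr, show cF = starF from Fin.ext (Nat.eq_of_beq_eq_true h)]
  · exfalso
    obtain ⟨em, hem, hb⟩ := List.any_eq_true.mp h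
    have h0 := List.all_eq_true.mp tests_zero em hem
    have h1 : ((em.1.map fun e => X ^ e * ref 0).prod) ^ em.2 = 1 :=
      eq_of_base (repF_iter (word_rep ref_rep_zero em.1) em.2) repF_one h0
    have h2 := congrArg ψ h1
    rw [map_pow, map_one, map_list_prod, List.map_map] at h2
    have h3 : (ψ ∘ fun e => X ^ e * ref 0) = fun e => X ^ e * ref cF := by
      funext e
      simp [Function.comp, hψX, hψr]
    rw [h3] at h2
    have h4 := baseEq_of_eq (repF_iter (word_rep hR em.1) em.2) (by rw [h2]; exact repF_one)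
    rw [h4] at hb
    exact Bool.noConfusion hb

/-- The outer permutation. -/
def tau : Equiv.Perm (Fin 315) where
  toFun i := ⟨at9 tauP i, by
    have := List.all_eq_true.mp tau_inverse i (List.mem_range.mpr i.2)
    simp only [Bool.and_eq_true, Nat.blt_eq] at this
    exact this.1.1.1⟩
  invFun i := ⟨at9 tauI i, by
    have := List.all_eq_true.mp tau_inverse i (List.mem_range.mpr i.2)
    simp only [Bool.and_eq_true, Nat.blt_eq] at this
    exact this.1.1.2⟩
  left_inv i := by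
    have := List.all_eq_true.mp tau_inverse i (List.mem_range.mpr i.2)
    simp only [Bool.and_eq_true, Nat.blt_eq] at this
    exact Fin.ext (Nat.eq_of_beq_eq_true this.2)
  right_inv i := by
    have := List.all_eq_true.mp tau_inverse i (List.mem_range.mpr i.2)
    simp only [Bool.and_eq_true, Nat.blt_eq] at this
    exact Fin.ext (Nat.eq_of_beq_eq_true this.1.2)

theorem tau_normalizes : lineGroup.map (MulAut.conj tau).toMonoidHom = lineGroup := by
  have hle : lineGroup.map (MulAut.conj tau).toMonoidHom ≤ lineGroup := by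
    rw [Subgroup.map_le_iff_le_comap]
    refine (Subgroup.closure_le _).2 ?_
    rintro _ ⟨g, rfl⟩
    have h := List.all_eq_true.mp tau_gens g (List.mem_range.mpr g.2)
    simp only [Bool.and_eq_true, Nat.blt_eq] at h
    obtain ⟨⟨⟨h1, h2⟩, h3⟩, h4⟩ := h
    show tau * gperm g * tau⁻¹ ∈ lineGroup
    have e : tau * gperm g * tau⁻¹ = (el ⟨_, h1⟩ ⟨_, h2⟩ ⟨_, h3⟩).1 := by
      refine Equiv.ext fun i => Fin.ext ?_
      rw [el_rep]
      exact Nat.eq_of_beq_eq_true (List.all_eq_true.mp h4 i (List.mem_range.mpr i.2))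
    rw [e]
    exact SetLike.coe_mem _
  refine Subgroup.eq_of_le_of_card_ge hle ?_
  rw [Subgroup.card_map_of_injective (MulAut.conj tau).injective]

/-- The outer automorphism. -/
noncomputable def alpha : MulAut lineGroup :=
  ((MulAut.conj tau).subgroupMap lineGroup).trans (MulEquiv.subgroupCongr tau_normalizes)

theorem alpha_coe (y : lineGroup) : (alpha y).1 = tau * y.1 * tau⁻¹ := rfl

theorem alpha_X : alpha X = X := by
  apply Subtype.ext
  rw [alpha_coe, mul_inv_eq_iff_eq_mul]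
  refine Equiv.ext fun i => Fin.ext ?_
  show at9 tauP (X.1 i : ℕ) = (X.1 (tau i) : ℕ)
  rw [X_rep, X_rep]
  exact Nat.eq_of_beq_eq_true (List.all_eq_true.mp tau_x i (List.mem_range.mpr i.2))

theorem alpha_ref : alpha (ref 0) = ref starF := by
  apply Subtype.ext
  rw [alpha_coe]
  show tau * lineRefl 0 * tau⁻¹ = lineRefl starF
  rw [lineRefl_zero]
  refine ref_rep (f := fun i => at9 tauP (at9 (gp 0) (at9 tauI i))) (fun i => rfl) starF fun i => ?_
  exact Nat.eq_of_beq_eq_true (List.all_eq_true.mp tau_refl i (List.mem_range.mpr i.2))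

theorem tau_not_inner : tau ∉ lineGroup := by
  intro hmem
  obtain ⟨x, a, b, he⟩ := el_surj ⟨tau, hmem⟩
  have he' : tau = (el x a b).1 := congrArg Subtype.val he
  have hx : x = starF := by
    have h0 : (el x a b).1 0 = x := by
      show (T x * (A a * B b)) 0 = x
      rw [Equiv.Perm.mul_apply, stab0_fix (mul_mem (A_mem a) (B_mem b)), T_zero]
    rw [← h0, ← he']
    exact Fin.ext (Nat.eq_of_beq_eq_true tau_zero)
  subst hx
  have h := List.all_eq_true.mp (List.all_eq_true.mp tau_not_mem a (List.mem_range.mpr a.2)) b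
    (List.mem_range.mpr b.2)
  obtain ⟨i, hi, hne⟩ := List.any_eq_true.mp h
  rw [List.mem_range] at hi
  have hv := el_rep starF a b ⟨i, hi⟩
  rw [← he'] at hv
  rw [show at9 tauP i = ev star a b i from hv, Nat.beq_refl] at hne
  exact Bool.noConfusion hne

theorem centralizer_trivial {σ : Equiv.Perm (Fin 315)} (h : ∀ y ∈ lineGroup, σ * y = y * σ) : σ = 1 := by
  have h0 : σ 0 = 0 := by
    have hfix : ∀ j : Fin 2, S j (σ 0) = σ 0 := fun j => by
      have := congrArg (fun f : Equiv.Perm (Fin 315) => f 0) (h _ (S_mem j))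
      simp only [Equiv.Perm.mul_apply] at this
      rw [stab0_fix (Subgroup.subset_closure ⟨j, rfl⟩ : S j ∈ stab0)] at this
      exact this.symm
    have hb := List.all_eq_true.mp fixed_ok (σ 0) (List.mem_range.mpr (σ 0).2)
    simp only [Bool.or_eq_true, Bool.not_eq_true'] at hb
    rcases hb with (hb | hb) | hb
    · exact Fin.ext (Nat.eq_of_beq_eq_true hb)
    · have := (S_rep 0 (σ 0)).symm.trans (congrArg Fin.val (hfix 0))
      rw [show at9 (sp 0) (σ 0) = (σ 0 : ℕ) from this, Nat.beq_refl] at hb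
      exact Bool.noConfusion hb
    · have := (S_rep 1 (σ 0)).symm.trans (congrArg Fin.val (hfix 1))
      rw [show at9 (sp 1) (σ 0) = (σ 0 : ℕ) from this, Nat.beq_refl] at hb
      exact Bool.noConfusion hb
  refine Equiv.ext fun x => ?_
  have := congrArg (fun f : Equiv.Perm (Fin 315) => f 0) (h _ (T_mem x))
  simp only [Equiv.Perm.mul_apply, T_zero, h0] at this
  exact this

theorem alpha_not_inner : alpha ∉ Cfsg.Inn lineGroup := by
  rintro ⟨g, hg⟩
  apply tau_not_inner
  have hc : g.1⁻¹ * tau = 1 := centralizer_trivial fun y hy => by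
    have h1 := congrArg Subtype.val (DFunLike.congr_fun hg ⟨y, hy⟩)
    rw [alpha_coe, MulAut.conj_apply] at h1
    simp only [Subgroup.coe_mul, Subgroup.coe_inv] at h1
    calc g.1⁻¹ * tau * y = g.1⁻¹ * (tau * y * tau⁻¹) * tau := by group
      _ = g.1⁻¹ * (g.1 * y * g.1⁻¹) * tau := by rw [h1]
      _ = y * (g.1⁻¹ * tau) := by group
  rw [inv_mul_eq_one] at hc
  exact hc ▸ g.2

theorem card_out_lineGroup : Nat.card (Cfsg.Out lineGroup) = 2 := by
  rw [Nat.card_eq_two_iff]
  refine ⟨QuotientGroup.mk 1, QuotientGroup.mk alpha, fun h => ?_, ?_⟩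
  · rw [QuotientGroup.eq, inv_one, one_mul] at h
    exact alpha_not_inner h
  · refine Set.eq_univ_of_forall fun q => ?_
    obtain ⟨φ, rfl⟩ := QuotientGroup.mk_surjective q
    obtain ⟨g, hX, h⟩ := aut_normal_form φ
    have hq : (QuotientGroup.mk φ : Cfsg.Out lineGroup) = QuotientGroup.mk (MulAut.conj g * φ) := by
      have h1 : (QuotientGroup.mk (MulAut.conj g) : Cfsg.Out lineGroup) = 1 :=
        (QuotientGroup.eq_one_iff _).2 ⟨g, rfl⟩
      rw [QuotientGroup.mk_mul, h1, one_mul]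
    rcases h with h | h
    · left
      rw [hq, aut_ext (ψ := 1) hX h]
    · right
      rw [Set.mem_singleton_iff, hq, aut_ext (ψ := alpha) (hX.trans alpha_X.symm) (h.trans alpha_ref.symm)]

/-- Outer automorphism groups of isomorphic groups. -/
theorem out_congr {G H : Type*} [Group G] [Group H] (e : G ≃* H) :
    Nat.card (Cfsg.Out G) = Nat.card (Cfsg.Out H) := by
  let e' : MulAut G ≃* MulAut H :=
    { toFun := fun φ => e.symm.trans (φ.trans e)
      invFun := fun φ => e.trans (φ.trans e.symm)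
      left_inv := fun φ => MulEquiv.ext fun x => by simp
      right_inv := fun φ => MulEquiv.ext fun x => by simp
      map_mul' := fun φ ψ => MulEquiv.ext fun x => by simp }
  refine Nat.card_congr (QuotientGroup.congr _ _ e' ?_).toEquiv
  apply le_antisymm
  · rintro _ ⟨_, ⟨g, rfl⟩, rfl⟩
    exact ⟨e g, MulEquiv.ext fun x => by simp [e']⟩
  · rintro _ ⟨h, rfl⟩
    exact ⟨MulAut.conj (e.symm h), ⟨e.symm h, rfl⟩, MulEquiv.ext fun x => by simp [e']⟩

theorem card_out : Nat.card (Cfsg.Out Cfsg.Spor.J2) = 2 :=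
  (out_congr toLineGroup).trans card_out_lineGroup

end Cfsg.Agent.J2Out76
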