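import Cfsg.Agent.Lib.HSPerm
import Cfsg.Agent.Lib.J2Mult76Bound

/-!
Checks for voltage certificates in the permutation group on one hundred points, and the bound they
give when the points of the certificate are short tuples.
-/

set_option autoImplicit false
set_option maxRecDepth 100000

namespace Cfsg.Agent.HSMultBound

open Cfsg Cfsg.Agent.HSPerm Cfsg.Agent.SplitVoltage Cfsg.Agent.SplitVoltageCert
open Cfsg.Agent.LeechCert (force force_eq)
open Cfsg.Agent.J2Mult76Bound (bound_sub injOK inj_of_injOK)

/-- the entry of a table -/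
def lk (t : List ℕ) (j : ℕ) : ℕ := t.getD j 0

/-- the elements of a list of words -/
noncomputable def gensE (W : List (List (Fin 3))) (i : ℕ) : Hp := wordE (W.getD i [])

/-- the tables of the elements and of their inverses -/
def tabsOK (W : List (List (Fin 3))) (T Y : List (List ℕ)) (n : ℕ) : Bool :=
  (List.range n).all fun i => (List.range 100).all fun j =>
    Nat.beq (wordF (W.getD i []) j) (lk (T.getD i []) j) &&
      force (lk (Y.getD i []) j) (fun k => Nat.blt k 100 && Nat.beq (lk (T.getD i []) k) j)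

theorem tab_rep {W : List (List (Fin 3))} {T Y : List (List ℕ)} {n : ℕ} (h : tabsOK W T Y n = true)
    {i : ℕ} (hi : i < n) : RepF (lk (T.getD i [])) (gensE W i : Equiv.Perm (Fin 100)) := by
  intro j
  simp only [tabsOK, List.all_eq_true, List.mem_range, Bool.and_eq_true] at h
  rw [← Nat.eq_of_beq_eq_true (h i hi j j.2).1]
  exact wordE_rep _ j

theorem inv_rep {W : List (List (Fin 3))} {T Y : List (List ℕ)} {n : ℕ} (h : tabsOK W T Y n = true)
    {i : ℕ} (hi : i < n) : RepF (lk (Y.getD i [])) (((gensE W i)⁻¹ : Hp) : Equiv.Perm (Fin 100)) := by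
  intro j
  have hr := tab_rep h hi
  simp only [tabsOK, List.all_eq_true, List.mem_range, Bool.and_eq_true, force_eq, Nat.blt_eq] at h
  obtain ⟨h1, h2⟩ := (h i hi j j.2).2
  have e : (gensE W i : Equiv.Perm (Fin 100)) ⟨_, h1⟩ = j :=
    Fin.ext ((hr _).trans (Nat.eq_of_beq_eq_true h2))
  rw [Subgroup.coe_inv, Equiv.Perm.inv_eq_iff_eq.2 e.symm]

/-- the table of a word -/
def wfun (T Y : List (List ℕ)) : List (ℕ × Bool) → ℕ → ℕ
  | [], j => j
  | (i, b) :: l, j => force (lk ((if b then T else Y).getD i []) j) (wfun T Y l)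

theorem wfun_rep {W : List (List (Fin 3))} {T Y : List (List ℕ)} {n : ℕ} (h : tabsOK W T Y n = true) :
    ∀ l : List (ℕ × Bool), (∀ t ∈ l, t.1 < n) →
      RepF (wfun T Y l) ((wprod (gensE W) l : Hp) : Equiv.Perm (Fin 100))
  | [], _ => fun _ => rfl
  | (i, b) :: l, hl => by
    have hi : i < n := hl (i, b) List.mem_cons_self
    have h1 := wfun_rep h l fun t ht => hl t (List.mem_cons_of_mem _ ht)
    intro j
    simp only [wfun, wprod, force_eq]
    cases b
    · exact repF_mul h1 (inv_rep h hi) j
    · exact repF_mul h1 (tab_rep h hi) j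

/-- a table power -/
def itF (t : List ℕ) : ℕ → ℕ → ℕ
  | 0, j => j
  | k + 1, j => force (lk t j) (itF t k)

theorem itF_rep {W : List (List (Fin 3))} {T Y : List (List ℕ)} {n : ℕ} (h : tabsOK W T Y n = true)
    {i : ℕ} (hi : i < n) :
    ∀ k, RepF (itF (T.getD i []) k) ((gensE W i ^ k : Hp) : Equiv.Perm (Fin 100))
  | 0 => fun _ => rfl
  | k + 1 => by
    intro j
    simp only [itF, force_eq, pow_succ]
    exact repF_mul (itF_rep h hi k) (tab_rep h hi) j

/-- the check of orders and relations -/
def gensOK (C : Cert) (T Y : List (List ℕ)) (ords : List ℕ) : Bool :=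
  (List.range C.n).all (fun i =>
    decide (0 < ords.getD i 0) && decide (Nat.gcd (ords.getD i 0) C.m = 1) &&
    (C.rels.getD i [] == List.replicate (ords.getD i 0) (i, true)) &&
    (List.range (ords.getD i 0)).all fun k => Nat.beq k 0 ||
      (List.range 100).any fun j => !Nat.beq (itF (T.getD i []) k j) j) &&
  C.rels.all fun l => (List.range 100).all fun j => Nat.beq (wfun T Y l j) j

theorem gens_spec (C : Cert) (h : C.Core) (W : List (List (Fin 3))) (T Y : List (List ℕ))
    (ords : List ℕ) (ht : tabsOK W T Y C.n = true) (hchk : gensOK C T Y ords = true) :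
    (∀ i < C.n, orderOf (gensE W i) = ords.getD i 0 ∧ Nat.Coprime (ords.getD i 0) C.m ∧
      C.rels.getD i [] = List.replicate (ords.getD i 0) (i, true)) ∧
    ∀ l ∈ C.rels, wprod (gensE W) l = 1 := by
  simp only [gensOK, Bool.and_eq_true, List.all_eq_true, List.mem_range, decide_eq_true_eq,
    beq_iff_eq, Bool.or_eq_true, List.any_eq_true, Bool.not_eq_true'] at hchk
  obtain ⟨hg, hr⟩ := hchk
  have hrel : ∀ l ∈ C.rels, wprod (gensE W) l = 1 := fun l hl =>
    Subtype.ext (eq_of_rep (wfun_rep ht l (Cert.rel_spec h hl).1) repF_one fun j hj =>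
      Nat.eq_of_beq_eq_true (hr l hl j hj))
  refine ⟨fun i hi => ⟨?_, (hg i hi).1.1.2, (hg i hi).1.2⟩, hrel⟩
  have hl : C.rels.getD i [] ∈ C.rels := by
    have hlen : i < C.rels.length := by
      by_contra hlt
      have := (hg i hi).1.2
      rw [List.getD_eq_default _ _ (not_lt.1 hlt)] at this
      have h0 := congrArg List.length this
      simp only [List.length_nil, List.length_replicate] at h0
      have := (hg i hi).1.1.1
      omega
    rw [List.getD_eq_getElem (hn := hlen)]
    exact List.getElem_mem _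
  have h1 := hrel _ hl
  rw [(hg i hi).1.2, wprod_replicate] at h1
  rw [orderOf_eq_iff (hg i hi).1.1.1]
  refine ⟨h1, fun k hk hk0 he => ?_⟩
  rcases (hg i hi).2 k hk with h0 | ⟨j, hj, h0⟩
  · exact hk0.ne' (Nat.eq_of_beq_eq_true h0)
  · have := itF_rep ht hi k ⟨j, hj⟩
    rw [he] at this
    exact Bool.false_ne_true (h0.symm.trans (by rw [← this]; exact Nat.beq_refl j))

/-! ### tuples -/

/-- a triple from a key -/
def tup (k : ℕ) : Fin 3 → Fin 100
  | 0 => ⟨k / 10000 % 100, Nat.mod_lt _ (by norm_num)⟩
  | 1 => ⟨k / 100 % 100, Nat.mod_lt _ (by norm_num)⟩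
  | 2 => ⟨k % 100, Nat.mod_lt _ (by norm_num)⟩

/-- the check of the action on triples -/
noncomputable def actOK (C : Cert) (T : List (List ℕ)) (key : Tr) : Bool :=
  (List.range C.N).all fun c => force (SplitVoltageCert.get key c) fun a => Nat.blt a 1000000 &&
    (List.range C.n).all fun i => force (SplitVoltageCert.get key (C.nxF i c)) fun b =>
      Nat.beq (lk (T.getD i []) (a / 10000 % 100)) (b / 10000 % 100) &&
      Nat.beq (lk (T.getD i []) (a / 100 % 100)) (b / 100 % 100) &&
      Nat.beq (lk (T.getD i []) (a % 100)) (b % 100)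

/-- The bound from a certificate on triples. -/
theorem bound_tuples (C : Cert) (h : C.Core) (hnp : C.npow = C.n) (W : List (List (Fin 3)))
    (T Y : List (List ℕ)) (ords : List ℕ) (key pos srt : Tr) (ht : tabsOK W T Y C.n = true)
    (hg : gensOK C T Y ords = true) (hi : injOK C.N key pos srt = true)
    (ha : actOK C T key = true) (hcop : Nat.Coprime (44352000 / C.N) C.m) (hfin : C.finOK = true)
    {Γ : Type} [Group Γ] [Finite Γ] (σ : Γ →* Hp) (hσ : Cfsg.IsStemExtension σ)
    {A : Type*} [CommGroup A] (hA : ∀ a : A, a ^ C.m = 1) (χ : σ.ker →* A) :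
    ∀ z : σ.ker, χ z = 1 := by
  simp only [actOK, List.all_eq_true, List.mem_range, force_eq, Bool.and_eq_true, Nat.blt_eq] at ha
  obtain ⟨hord, hrel⟩ := gens_spec C h W T Y ords ht hg
  obtain ⟨u, hu, hχ⟩ := bound_sub C h hnp (gensE W) ords hord hrel
    (fun c => tup (SplitVoltageCert.get key c))
    (fun c hc d hd e => by
      refine inj_of_injOK hi hc hd ?_
      have e0 : SplitVoltageCert.get key c / 10000 % 100 = SplitVoltageCert.get key d / 10000 % 100 :=
        congrArg (fun f : Fin 3 → Fin 100 => (f 0 : ℕ)) e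
      have e1 : SplitVoltageCert.get key c / 100 % 100 = SplitVoltageCert.get key d / 100 % 100 :=
        congrArg (fun f : Fin 3 → Fin 100 => (f 1 : ℕ)) e
      have e2 : SplitVoltageCert.get key c % 100 = SplitVoltageCert.get key d % 100 :=
        congrArg (fun f : Fin 3 → Fin 100 => (f 2 : ℕ)) e
      have := (ha c hc).1
      have := (ha d hd).1
      omega)
    (fun i hi c hc => by
      obtain ⟨-, h2⟩ := ha c hc
      obtain ⟨⟨p0, p1⟩, p2⟩ := h2 i hi
      funext k
      have hr := tab_rep ht hi
      fin_cases k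
      · exact Fin.ext ((hr _).trans (Nat.eq_of_beq_eq_true p0))
      · exact Fin.ext ((hr _).trans (Nat.eq_of_beq_eq_true p1))
      · exact Fin.ext ((hr _).trans (Nat.eq_of_beq_eq_true p2)))
    (by rw [card_Hp]; exact hcop) hA 1
    (fun v e htree heq hpow => ⟨0, smul_zero _, fun i hi c hc => by
      rw [Cert.solution_zero ⟨h, hfin⟩ (A := Additive A)
        (fun a => Additive.toMul.injective (by rw [toMul_nsmul, toMul_zero]; exact hA a.toMul))
        v e htree heq hpow i hi c hc]
      exact zero_mem _⟩) σ hσ χ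
  intro z
  obtain ⟨j, hj⟩ := Subgroup.mem_zpowers_iff.1 (hχ z)
  rw [pow_one] at hu; rw [← hj]
  rw [hu, one_zpow]

end Cfsg.Agent.HSMultBound
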