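import Cfsg.Agent.Lib.HSPerm
import Cfsg.Agent.Lib.AltPullbackCover

/-!
A stem extension of the second pair stabiliser with kernel of order two: an involution moves all the
hundred points, so it is a product of fifty transpositions.
-/

set_option autoImplicit false
set_option maxRecDepth 100000

namespace Cfsg.Agent.HSMultCover

open scoped commutatorElement
open Cfsg Cfsg.Agent.HSPerm Cfsg.Agent.HSPermData Cfsg.Agent.AltPullbackCover

theorem sign_eq_one (g : Equiv.Perm (Fin 100)) (hg : g ∈ Hp) : Equiv.Perm.sign g = 1 := by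
  haveI := simple_Hp
  let s : Hp →* ℤˣ := Equiv.Perm.sign.comp Hp.subtype
  rcases Subgroup.Normal.eq_bot_or_eq_top (inferInstance : s.ker.Normal) with h | h
  · exfalso
    have hle : Nat.card Hp ≤ Nat.card ℤˣ :=
      Nat.card_le_card_of_injective s (s.ker_eq_bot_iff.1 h)
    rw [card_Hp, Nat.card_eq_fintype_card, Fintype.card_units_int] at hle
    norm_num at hle
  · exact MonoidHom.mem_ker.1 (show (⟨g, hg⟩ : Hp) ∈ s.ker from h ▸ Subgroup.mem_top _)

theorem perfect_Hp : commutator Hp = ⊤ := by
  haveI := simple_Hp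
  refine (Subgroup.Normal.eq_bot_or_eq_top inferInstance).resolve_left fun h => ?_
  have hcom : ∀ a b : Hp, a * b = b * a := fun a b => by
    have hc : ⁅a, b⁆ ∈ commutator Hp :=
      Subgroup.commutator_mem_commutator (Subgroup.mem_top a) (Subgroup.mem_top b)
    rw [h, Subgroup.mem_bot, commutatorElement_eq_one_iff_mul_comm] at hc
    exact hc
  obtain ⟨g, hg⟩ := exists_prime_orderOf_dvd_card' (G := Hp) 2 (by rw [card_Hp]; norm_num)
  have hn : (Subgroup.zpowers g).Normal := ⟨fun a ha b => by rwa [hcom b a, mul_inv_cancel_right]⟩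
  rcases hn.eq_bot_or_eq_top with h | h
  · rw [Subgroup.zpowers_eq_bot] at h
    rw [h, orderOf_one] at hg
    norm_num at hg
  · have hc := Nat.card_zpowers g
    rw [h, Subgroup.card_top, card_Hp, hg] at hc
    norm_num at hc

/-- the word of the involution -/
def invWord : List (Fin 3) := (List.replicate 5 ([2] ++ List.replicate 10 0 ++ [2, 0])).flatten

/-- pairwise check of the blocks -/
def blocksOK : List (Fin 100 × Fin 100 × Fin 100 × Fin 100) → Bool
  | [] => true
  | q :: l => decide (okQ q) && l.all (fun r => decide (apartQ q r)) && blocksOK l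

theorem blocksOK_spec : ∀ {l : List (Fin 100 × Fin 100 × Fin 100 × Fin 100)}, blocksOK l = true →
    (∀ q ∈ l, okQ q) ∧ l.Pairwise apartQ
  | [], _ => ⟨fun _ hq => absurd hq (List.not_mem_nil), List.Pairwise.nil⟩
  | q :: l, h => by
    simp only [blocksOK, Bool.and_eq_true, decide_eq_true_eq, List.all_eq_true] at h
    obtain ⟨h1, h2⟩ := blocksOK_spec h.2
    exact ⟨List.forall_mem_cons.2 ⟨h.1.1, h1⟩, List.pairwise_cons.2 ⟨h.1.2, h2⟩⟩

theorem quads_ok : (∀ q ∈ quads, okQ q) ∧ quads.Pairwise apartQ :=
  blocksOK_spec (by decide +kernel)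

theorem quads_odd : Odd quads.length := ⟨12, rfl⟩

/-- a transposition on numbers -/
def swF (a b i : ℕ) : ℕ := bif Nat.beq i a then b else bif Nat.beq i b then a else i

/-- the product of the blocks on numbers -/
def quadF : List (Fin 100 × Fin 100 × Fin 100 × Fin 100) → ℕ → ℕ
  | [], i => i
  | q :: l, i => LeechCert.force (LeechCert.force (quadF l i) (swF q.2.2.1 q.2.2.2)) (swF q.1 q.2.1)

theorem swF_spec (a b i : Fin 100) : ((Equiv.swap a b i : Fin 100) : ℕ) = swF a b i := by
  have e : ∀ x y : Fin 100, Nat.beq x y = decide (x = y) := fun x y => by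
    by_cases h : x = y
    · subst h; simp
    · rw [decide_eq_false h]
      exact Bool.eq_false_iff.2 fun hb => h (Fin.ext (Nat.eq_of_beq_eq_true hb))
  rw [Equiv.swap_apply_def, swF, e, e]
  by_cases h1 : i = a
  · simp [h1]
  · by_cases h2 : i = b
    · subst h2; simp [h1]
    · simp [h1, h2]

theorem quadF_spec : ∀ (l : List (Fin 100 × Fin 100 × Fin 100 × Fin 100)) (i : Fin 100),
    (((l.map permQ).prod i : Fin 100) : ℕ) = quadF l i
  | [], i => by simp [quadF]
  | q :: l, i => by
    rw [List.map_cons, List.prod_cons, Equiv.Perm.mul_apply, permQ, Equiv.Perm.mul_apply, swF_spec,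
      swF_spec, quadF_spec l, quadF, LeechCert.force_eq, LeechCert.force_eq]

theorem invWord_table : ∀ i : Fin 100, wordF invWord i = pt2.getD i 0 ∧
    pt2.getD (pt2.getD i 0) 0 = i ∧ quadF quads i = pt2.getD i 0 := by
  decide +kernel

theorem wordE_inv : wordE invWord * wordE invWord = 1 := by
  refine Subtype.ext (eq_of_rep (repF_mul (wordE_rep _) (wordE_rep _)) repF_one fun i hi => ?_)
  have h1 := invWord_table ⟨i, hi⟩
  have h2 : (wordF invWord i : ℕ) < 100 := by
    rw [← wordE_rep invWord ⟨i, hi⟩]; exact Fin.isLt _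
  have h3 := (invWord_table ⟨_, h2⟩).1
  show wordF invWord (wordF invWord i) = i
  exact h3.trans ((congrArg (fun a => pt2.getD a 0) h1.1).trans h1.2.1)

/-- The double cover. -/
theorem cover_Hp : ∃ (Γ : Type) (_ : Group Γ) (_ : Finite Γ) (σ : Γ →* Hp),
    Cfsg.IsStemExtension σ ∧ Nonempty (σ.ker ≃* Multiplicative (ZMod 2)) :=
  AltPullbackCover.exists_cover Hp sign_eq_one perfect_Hp (wordE invWord) wordE_inv quads quads_ok.1
    quads_ok.2 quads_odd (Equiv.ext fun i => Fin.ext (by
      rw [quadF_spec, (invWord_table i).2.2, ← (invWord_table i).1]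
      exact wordE_rep invWord i))

end Cfsg.Agent.HSMultCover
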