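import Cfsg.Agent.Lib.CenSplitStable50

/-!
Data for the stabiliser of a half: two generators of odd order, a polycyclic chain of a Sylow
2-subgroup, and the invariance of its classes under conjugations.
-/

set_option autoImplicit false

namespace Cfsg.Agent.HSMultStabData

open Cfsg.Agent.CenSplitStable50

/-- the half -/
def half : ℕ := 159748402752865635057808583679

/-- the generators as products of the three generators -/
def gWords : List (List (Fin 3)) :=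
  [[2, 0, 2, 0, 0, 0, 0, 0, 0, 0, 0, 0, 0, 2, 1, 0, 1, 1, 1, 1, 0, 2, 2, 0,
    2, 2, 2, 2, 0, 0, 0, 0, 0, 0, 0, 0, 0, 0],
   [2, 1, 1, 0, 0, 0, 0, 0, 0, 0, 0, 0, 0, 2, 2, 2, 2, 1, 0, 2, 1, 1, 1, 1,
    2, 0, 2, 2, 2, 2, 2, 2, 2, 2, 1, 0]]

/-- their tables -/
def gTab : List (List ℕ) :=
  [[25, 29, 30, 67, 4, 75, 3, 82, 90, 55, 15, 78, 95, 13, 96, 92, 33, 19, 8, 63, 74, 54, 62, 27,
    34, 26, 0, 41, 42, 46, 32, 80, 2, 43, 47, 56, 36, 69, 99, 39, 48, 23, 50, 16, 44, 45, 1, 24,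
    85, 38, 28, 11, 65, 53, 77, 79, 68, 89, 37, 5, 87, 57, 83, 17, 64, 71, 31, 6, 35, 58, 73, 52,
    93, 84, 94, 59, 12, 21, 51, 9, 66, 60, 97, 22, 70, 40, 86, 81, 14, 61, 18, 72, 10, 91, 20, 76,
    88, 7, 98, 49],
   [32, 13, 67, 68, 6, 25, 41, 11, 48, 64, 37, 55, 12, 59, 73, 74, 77, 56, 0, 19, 47, 58, 2, 46,
    94, 90, 26, 79, 3, 63, 97, 86, 18, 10, 76, 27, 29, 33, 96, 70, 40, 4, 30, 43, 17, 92, 51, 88,
    82, 34, 85, 23, 16, 24, 84, 7, 44, 57, 91, 1, 14, 45, 62, 36, 83, 39, 66, 22, 28, 99, 65, 80,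
    31, 60, 87, 50, 49, 52, 78, 35, 95, 69, 8, 9, 89, 75, 72, 15, 20, 54, 5, 21, 61, 93, 53, 71,
    98, 42, 38, 81]]

/-- their orders -/
def gOrd : List ℕ := [3, 3]

/-- the chain as products of the two generators -/
def yWords : List (List ℕ) :=
  [[0, 1, 0, 1, 0, 1, 1, 0, 1, 0, 1, 0, 0, 1, 0, 1, 0, 1, 1, 0],
   [1, 0, 1, 0, 1, 0, 1, 0, 1, 0],
   [0, 0, 1, 1, 0, 0, 1, 1],
   [1, 0, 1, 0, 1, 0, 1, 0]]

/-- the conjugating elements as products of the two generators -/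
def xWords : List (List ℕ) :=
  [[0, 0, 1, 0, 0, 1, 0, 1, 0, 0, 1, 0, 0, 1, 0, 0, 1, 1, 0, 0, 1, 1, 0, 0],
   [0, 1, 0, 1, 0, 1, 1, 0, 1, 1, 0, 1, 1, 0, 0, 1, 1, 0, 1, 1, 0, 1, 0],
   [0, 0, 1, 0, 0, 1, 0, 1, 0, 0, 1, 0, 0, 1, 0, 0, 1, 1, 0, 0, 1, 1, 0, 0],
   [1, 1, 0, 1, 1, 0, 1, 0, 1, 0, 0, 1, 0, 0]]

/-- the certificate -/
def cert : Cert :=
  { n := 4, fuel := 40,
    rels := [([0, 0], []),
      ([1, 0], [0, 1, 2, 3]),
      ([1, 1], [2, 3]),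
      ([2, 0], [0, 2, 3]),
      ([2, 1], [1, 2]),
      ([2, 2], [3]),
      ([3, 0], [0, 3]),
      ([3, 1], [1, 3]),
      ([3, 2], [2, 3]),
      ([3, 3], [])],
    pairs := [(0, [3], [3]),
      (0, [2], [0, 1]),
      (0, [0, 1], [0, 1, 2]),
      (1, [3], [3]),
      (1, [2], [0, 1, 2]),
      (1, [0, 1], [0, 1, 3]),
      (2, [3], [3]),
      (2, [2], [0, 1]),
      (2, [0, 1], [0, 1, 2]),
      (3, [0], [3]),
      (3, [3], [0, 2, 3])],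
    eqs := [.A [1] 0,
      .A [2] 0,
      .A [1] 1,
      .A [2] 1,
      .A [3] 1,
      .A [1] 2,
      .B [1, 1] [0],
      .B [2, 2] [0],
      .B [4, 4] [3],
      .B [7, 7] [6],
      .B [9, 9] []],
    forms := [360, 576, 760, 128, 256, 144, 1943, 1592, 8623, 66455, 513],
    lam := [0, 0, 10, 8],
    combos := [[0, 2, 4, 5, 10], [], [0, 1, 3, 6, 7, 10], [], [3, 5], [1, 2, 5], [0, 1, 2, 4, 5], [3], [4], [0, 2, 4, 5]] }

end Cfsg.Agent.HSMultStabData
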