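import Cfsg.Agent.Lib.HSMultBound
import Cfsg.Agent.Lib.HSMultStabData

/-!
The stabiliser of a set of fifty points: characters with values killed by four of the kernel of a
central extension extend, because its classes with values modulo two vanish and it has no quotient of
order two.
-/

set_option autoImplicit false
set_option maxRecDepth 100000

open scoped Pointwise

namespace Cfsg.Agent.HSMultStab

open Cfsg Cfsg.Agent.HSPerm Cfsg.Agent.HSMultBound Cfsg.Agent.HSMultStabData Cfsg.Agent.SplitVoltage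
open Cfsg.Agent.LeechCert (force force_eq)
open Cfsg.Agent.CenSplitStable50 (P P_cons P_nil censplit_of_cert card_chain)

/-- the set of a key -/
def setOf (k : ℕ) : Finset (Fin 100) := Finset.univ.filter fun i => k.testBit i

theorem mem_setOf {k : ℕ} {i : Fin 100} : i ∈ setOf k ↔ k.testBit i = true := by simp [setOf]

/-- a table maps one key to another -/
def keyMap (t : List ℕ) (a b : ℕ) : Bool :=
  (List.range 100).all fun j => force (lk t j) fun k => a.testBit j == b.testBit k

theorem smul_setOf {σ : Hp} {t : List ℕ} (hr : RepF (lk t) (σ : Equiv.Perm (Fin 100))) {a b : ℕ}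
    (h : keyMap t a b = true) : σ • setOf a = setOf b := by
  simp only [keyMap, List.all_eq_true, List.mem_range, force_eq, beq_iff_eq] at h
  ext j
  rw [← Finset.inv_smul_mem_iff, mem_setOf, mem_setOf]
  have e : σ • (σ⁻¹ • j) = j := smul_inv_smul σ j
  have h1 := h _ (σ⁻¹ • j).isLt
  rw [← hr (σ⁻¹ • j), show ((σ : Equiv.Perm (Fin 100)) (σ⁻¹ • j) : Fin 100) = j from e] at h1
  rw [h1]

theorem setOf_inj {a b : ℕ} (ha : a < 2 ^ 100) (hb : b < 2 ^ 100) (h : setOf a = setOf b) : a = b := by
  refine Nat.eq_of_testBit_eq fun i => ?_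
  by_cases hi : i < 100
  · have := Finset.ext_iff.1 h ⟨i, hi⟩
    rw [mem_setOf, mem_setOf] at this
    exact Bool.eq_iff_iff.2 this
  · rw [Nat.testBit_lt_two_pow (ha.trans_le (Nat.pow_le_pow_right (by norm_num) (not_lt.1 hi))),
      Nat.testBit_lt_two_pow (hb.trans_le (Nat.pow_le_pow_right (by norm_num) (not_lt.1 hi)))]

/-- the stabiliser of the half -/
noncomputable abbrev K : Subgroup Hp := MulAction.stabilizer Hp (setOf half)

/-- the check of the two generators -/
def gOK : Bool :=
  (List.range 2).all fun i => keyMap (gTab.getD i []) half half &&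
    decide (0 < gOrd.getD i 0) && decide (gOrd.getD i 0 % 2 = 1) &&
    (List.range 100).all fun j =>
      Nat.beq (wordF (gWords.getD i []) j) (lk (gTab.getD i []) j) &&
      Nat.beq (itF (gTab.getD i []) (gOrd.getD i 0) j) j

theorem gOK_ok : gOK = true := by decide +kernel

theorem g_rep {i : ℕ} (hi : i < 2) :
    RepF (lk (gTab.getD i [])) (gensE gWords i : Equiv.Perm (Fin 100)) := by
  intro j
  have h := gOK_ok
  simp only [gOK, List.all_eq_true, List.mem_range, Bool.and_eq_true] at h
  rw [← Nat.eq_of_beq_eq_true ((h i hi).2 j j.2).1]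
  exact wordE_rep _ j

theorem g_mem {i : ℕ} (hi : i < 2) : gensE gWords i ∈ K := by
  have h := gOK_ok
  simp only [gOK, List.all_eq_true, List.mem_range, Bool.and_eq_true] at h
  exact MulAction.mem_stabilizer_iff.2 (smul_setOf (g_rep hi) (h i hi).1.1.1)

/-- a generator -/
noncomputable def gK (i : ℕ) : K := if h : i < 2 then ⟨gensE gWords i, g_mem h⟩ else 1

/-- the table of a generator -/
def gF (i j : ℕ) : ℕ := bif decide (i < 2) then lk (gTab.getD i []) j else j

theorem gK_rep (i : ℕ) : RepF (gF i) ((gK i : Hp) : Equiv.Perm (Fin 100)) := by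
  intro j
  unfold gK gF
  by_cases h : i < 2
  · rw [dif_pos h, decide_eq_true h]; exact g_rep h j
  · rw [dif_neg h, decide_eq_false h]; rfl

theorem gK_pow_ord (i : ℕ) : ∃ o, Odd o ∧ gK i ^ o = 1 := by
  by_cases hi : i < 2
  · have h := gOK_ok
    simp only [gOK, List.all_eq_true, List.mem_range, Bool.and_eq_true, decide_eq_true_eq] at h
    refine ⟨gOrd.getD i 0, Nat.odd_iff.2 (h i hi).1.2, Subtype.ext ?_⟩
    simp only [gK, dif_pos hi, SubgroupClass.coe_pow, OneMemClass.coe_one]
    have key : ∀ k, RepF (itF (gTab.getD i []) k) ((gensE gWords i ^ k : Hp) : Equiv.Perm (Fin 100)) := by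
      intro k
      induction k with
      | zero => exact fun _ => rfl
      | succ k ih =>
        intro j
        simp only [itF, force_eq, pow_succ]
        exact repF_mul ih (g_rep hi) j
    exact Subtype.ext (eq_of_rep (key _) repF_one fun j hj =>
      Nat.eq_of_beq_eq_true ((h i hi).2 j hj).2)
  · exact ⟨1, odd_one, by unfold gK; rw [dif_neg hi, one_pow]⟩

/-- the element of a product of generators -/
noncomputable def kE (l : List ℕ) : K := (l.map gK).prod

/-- its table -/
def kF : List ℕ → ℕ → ℕ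
  | [], j => j
  | i :: l, j => force (kF l j) (gF i)

theorem kE_rep : ∀ l : List ℕ, RepF (kF l) ((kE l : Hp) : Equiv.Perm (Fin 100))
  | [] => fun _ => rfl
  | i :: l => by
    intro j
    simp only [kF, force_eq, kE, List.map_cons, List.prod_cons]
    exact repF_mul (gK_rep i) (kE_rep l) j

/-- a chain element -/
noncomputable def yK (a : ℕ) : K := kE (yWords.getD a [])

/-- a conjugating element -/
noncomputable def xK (a : ℕ) : K := kE (xWords.getD a [])

/-- the table of a product of chain elements -/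
def yF : List ℕ → ℕ → ℕ
  | [], j => j
  | a :: l, j => force (yF l j) (kF (yWords.getD a []))

theorem yF_rep : ∀ l : List ℕ, RepF (yF l) (((P yK l : K) : Hp) : Equiv.Perm (Fin 100))
  | [] => fun _ => rfl
  | a :: l => by
    intro j
    rw [P_cons]
    simp only [yF, force_eq]
    exact repF_mul (kE_rep _) (yF_rep l) j

/-- the equations of the certificate -/
def relsOK : Bool :=
  ((List.range cert.rels.length).all fun r => (List.range 100).all fun j =>
    Nat.beq (yF (cert.rels.getD r ([], [])).1 j) (yF (cert.rels.getD r ([], [])).2 j)) &&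
  (List.range cert.pairs.length).all fun k => (List.range 100).all fun j =>
    let p := cert.pairs.getD k (0, [], [])
    Nat.beq (force (yF p.2.1 j) (kF (xWords.getD p.1 []))) (force (kF (xWords.getD p.1 []) j) (yF p.2.2))

theorem relsOK_ok : relsOK = true := by decide +kernel

/-- the words of normal forms -/
def nfW (i : ℕ) : List ℕ := (List.range 4).filter fun a => i.testBit a

theorem nf_distinct : ((List.range 16).map fun i => (List.range 100).map (yF (nfW i))).Nodup := by
  decide +kernel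

theorem hrel : ∀ r < cert.rels.length,
    P yK (cert.rels.getD r ([], [])).1 = P yK (cert.rels.getD r ([], [])).2 := by
  intro r hr
  have h := relsOK_ok
  simp only [relsOK, List.all_eq_true, List.mem_range, Bool.and_eq_true] at h
  exact Subtype.ext (Subtype.ext (eq_of_rep (yF_rep _) (yF_rep _) fun j hj =>
    Nat.eq_of_beq_eq_true (h.1 r hr j hj)))

theorem hpair : ∀ k < cert.pairs.length,
    xK (cert.pairs.getD k (0, [], [])).1 * P yK (cert.pairs.getD k (0, [], [])).2.1 =
      P yK (cert.pairs.getD k (0, [], [])).2.2 * xK (cert.pairs.getD k (0, [], [])).1 := by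
  intro k hk
  have h := relsOK_ok
  simp only [relsOK, List.all_eq_true, List.mem_range, Bool.and_eq_true, force_eq] at h
  exact Subtype.ext (Subtype.ext (eq_of_rep (repF_mul (kE_rep _) (yF_rep _))
    (repF_mul (yF_rep _) (kE_rep _)) fun j hj => Nat.eq_of_beq_eq_true (h.2 k hk j hj)))

/-- the Sylow 2-subgroup -/
noncomputable def S : Subgroup K := Subgroup.closure (yK '' Set.Iio cert.n)

theorem shape_ok : cert.shapeOK = true := by decide +kernel

theorem comb_ok : cert.combOK = true := by decide +kernel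

theorem card_S : Nat.card S = 16 := by
  refine le_antisymm ((card_chain cert shape_ok yK hrel).trans (by decide +kernel)) ?_
  have hmem : ∀ i, P yK (nfW i) ∈ S := fun i => Subgroup.list_prod_mem _ fun y hy => by
    obtain ⟨a, ha, rfl⟩ := List.mem_map.1 hy
    rw [nfW, List.mem_filter, List.mem_range] at ha
    exact Subgroup.subset_closure ⟨a, (show a < cert.n from ha.1), rfl⟩
  let f : Fin 16 → S := fun i => ⟨P yK (nfW i), hmem i⟩
  have hf : Function.Injective f := by
    intro a b e
    have e' : P yK (nfW a) = P yK (nfW b) := congrArg Subtype.val e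
    have h1 : (List.range 100).map (yF (nfW a)) = (List.range 100).map (yF (nfW b)) :=
      List.map_congr_left fun j hj => by
        rw [List.mem_range] at hj
        rw [← yF_rep (nfW a) ⟨j, hj⟩, e', yF_rep (nfW b) ⟨j, hj⟩]
    have hd := List.inj_on_of_nodup_map nf_distinct (List.mem_range.2 a.2) (List.mem_range.2 b.2) h1
    exact Fin.ext hd
  have := Nat.card_le_card_of_injective f hf
  rwa [Nat.card_eq_fintype_card, Fintype.card_fin] at this

variable (hK : Nat.card K = 126000)

include hK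

theorem index_S : S.index = 7875 := by
  have h := S.card_mul_index
  rw [card_S, hK] at h
  omega

theorem censplit_two : CenSplit 2 K :=
  censplit_of_cert cert shape_ok comb_ok yK xK hrel hpair
    (by rw [show cert.n = 4 from rfl]; exact card_S.ge)
    (by
      show Odd S.index
      rw [index_S hK]; decide)

/-- maps to commutative 2-groups are trivial -/
theorem hom_trivial {Q : Type*} [CommGroup Q] (e : ℕ) (hQ : ∀ q : Q, q ^ 2 ^ e = 1) (f : K →* Q)
    (g : K) : f g = 1 := by
  have hg : ∀ i, f (gK i) = 1 := fun i => by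
    obtain ⟨o, ho, h1⟩ := gK_pow_ord i
    rw [← orderOf_eq_one_iff]
    refine Nat.eq_one_of_dvd_coprimes (Nat.Coprime.pow_left e ((Nat.coprime_two_left).2 ho))
      (orderOf_dvd_of_pow_eq_one (hQ _)) (orderOf_dvd_of_pow_eq_one ?_)
    rw [← map_pow, h1, map_one]
  have hS : S ≤ f.ker := by
    rw [S, Subgroup.closure_le]
    rintro _ ⟨a, -, rfl⟩
    show f (yK a) = 1
    rw [yK, kE, map_list_prod, List.map_map]
    refine List.prod_eq_one fun q hq => ?_
    obtain ⟨i, -, rfl⟩ := List.mem_map.1 hq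
    exact hg i
  rw [← orderOf_eq_one_iff]
  refine Nat.eq_one_of_dvd_coprimes (Nat.Coprime.pow_left e ((Nat.coprime_two_left).2 ?_ : Nat.Coprime 2 7875))
    (orderOf_dvd_of_pow_eq_one (hQ _)) ?_
  · decide
  · have h1 : orderOf (f g) ∣ Nat.card f.range :=
      (Subgroup.orderOf_coe (⟨f g, g, rfl⟩ : f.range)).symm ▸ orderOf_dvd_natCard _
    rw [← Subgroup.index_ker] at h1
    exact index_S hK ▸ h1.trans (Subgroup.index_dvd_of_le hS)

/-- Characters with values killed by four extend. -/
theorem extend_four {Γ : Type} [Group Γ] [Finite Γ] (σ : Γ →* K) (hs : Function.Surjective σ)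
    (hc : σ.ker ≤ Subgroup.center Γ) {A : Type*} [CommGroup A] (hA : ∀ a : A, a ^ 4 = 1)
    (χ : σ.ker →* A) : ∃ ψ : Γ →* A, ∀ z : σ.ker, ψ z = χ z := by
  classical
  obtain ⟨a, b, hb, hN⟩ := Nat.exists_eq_two_pow_mul_odd (n := Nat.card Γ) Nat.card_pos.ne'
  -- the map to the 2-part of the largest abelian quotient
  let f : Γ →* Abelianization Γ := (powMonoidHom b).comp Abelianization.of
  have hf2 : ∀ g, f g ^ 2 ^ a = 1 := fun g => by
    show (Abelianization.of g ^ b) ^ 2 ^ a = 1
    rw [← pow_mul, ← map_pow, mul_comm, ← hN, pow_card_eq_one', map_one]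
  let M := f.ker
  -- the image of the kernel is the whole image
  have hfk : ∀ g, ∃ z : σ.ker, f z = f g := by
    haveI : (σ.ker.map f).Normal := inferInstance
    let q : Γ →* Abelianization Γ ⧸ σ.ker.map f := (QuotientGroup.mk' _).comp f
    have hq : σ.ker ≤ q.ker := fun z hz => by
      rw [MonoidHom.mem_ker, MonoidHom.comp_apply, QuotientGroup.mk'_apply, QuotientGroup.eq_one_iff]
      exact ⟨z, hz, rfl⟩
    let qb : K →* q.range :=
      MonoidHom.liftOfSurjective σ hs ⟨q.rangeRestrict, fun z hz => Subtype.ext (hq hz)⟩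
    intro g
    have h1 : qb (σ g) = q.rangeRestrict g := MonoidHom.liftOfRightInverse_comp_apply _ _ _ _ _
    have h2 : qb (σ g) = 1 := hom_trivial hK a (fun x => Subtype.ext (by
      obtain ⟨y, hy⟩ := x.2
      rw [SubgroupClass.coe_pow, ← hy, MonoidHom.comp_apply, ← map_pow, hf2, map_one]; rfl)) qb _
    rw [h1] at h2
    have h3 : q g = 1 := congrArg Subtype.val h2
    rw [MonoidHom.comp_apply, QuotientGroup.mk'_apply, QuotientGroup.eq_one_iff] at h3
    obtain ⟨z, hz, e⟩ := h3
    exact ⟨⟨z, hz⟩, e⟩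
  choose zf hzf using hfk
  have hMg : ∀ g, g * ((zf g : Γ))⁻¹ ∈ M := fun g => by
    rw [MonoidHom.mem_ker, map_mul, map_inv, hzf, mul_inv_cancel]
  -- the extension by the part of the kernel inside
  let τ : M →* K := σ.comp M.subtype
  have hτs : Function.Surjective τ := fun k => by
    obtain ⟨g, rfl⟩ := hs k
    exact ⟨⟨_, hMg g⟩, by
      show σ (g * ((zf g : Γ))⁻¹) = σ g
      rw [map_mul, map_inv, MonoidHom.mem_ker.1 (zf g).2, inv_one, mul_one]⟩
  have hτc : τ.ker ≤ Subgroup.center M := fun w hw => Subgroup.mem_center_iff.2 fun x =>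
    Subtype.ext (Subgroup.mem_center_iff.1 (hc (MonoidHom.mem_ker.2 (MonoidHom.mem_ker.1 hw))) x)
  -- characters of order two of it vanish
  have hodd : ∀ w : τ.ker, Odd (orderOf w) := by
    intro w
    by_contra hev
    rw [Nat.not_odd_iff_even, even_iff_two_dvd] at hev
    have hdvd : 2 ∣ Nat.card τ.ker := hev.trans (orderOf_dvd_natCard w)
    obtain ⟨N, hN2⟩ := trivial_multiplier.exists_index_eq_prime (p := 2) hτc hdvd
    haveI : N.Normal := Subgroup.normal_of_index_eq_two hN2
    have hcardq : Nat.card (τ.ker ⧸ N) = 2 := hN2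
    haveI : IsCyclic (τ.ker ⧸ N) := isCyclic_of_prime_card hcardq
    let e : τ.ker ⧸ N ≃* Multiplicative (ZMod 2) :=
      mulEquivOfCyclicCardEq (by rw [hcardq]; exact (Nat.card_zmod 2).symm)
    obtain ⟨ψ, hψ⟩ := censplit_two hK M τ hτs hτc (e.toMonoidHom.comp (QuotientGroup.mk' N))
    -- the extension of that character extends to a map killing `M`
    have hMn : ∀ (g : Γ) (m : M), g * (m : Γ) * g⁻¹ ∈ M := fun g m =>
      (inferInstance : M.Normal).conj_mem _ m.2 g
    have hinv : ∀ (g : Γ) (m : M), ψ ⟨_, hMn g m⟩ = ψ m := fun g m => by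
      have e1 : (⟨_, hMn g m⟩ : M) = ⟨_, hMg g⟩ * m * (⟨_, hMg g⟩ : M)⁻¹ := Subtype.ext (by
        show g * (m : Γ) * g⁻¹ = g * ((zf g : Γ))⁻¹ * (m : Γ) * (g * ((zf g : Γ))⁻¹)⁻¹
        rw [mul_inv_rev, inv_inv]
        rw [mul_assoc g _ (m : Γ), ← Subgroup.mem_center_iff.1 (inv_mem (hc (zf g).2)) (m : Γ)]
        group)
      rw [e1, map_mul, map_mul, map_inv, mul_comm (ψ _), mul_inv_cancel_right]
    let U : Subgroup Γ := ψ.ker.map M.subtype
    haveI : U.Normal := ⟨by
      rintro _ ⟨m, hm, rfl⟩ g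
      exact ⟨⟨_, hMn g m⟩, (hinv g m).trans hm, rfl⟩⟩
    have hUM : U ≤ M := Subgroup.map_subtype_le _
    have hU2 : ∀ m : M, (m : Γ) * m ∈ U := fun m => ⟨m * m, by
      have : ∀ x : Multiplicative (ZMod 2), x * x = 1 := by decide
      show ψ (m * m) = 1
      rw [map_mul, this], rfl⟩
    have hUc : ∀ x y : Γ, x * y * x⁻¹ * y⁻¹ ∈ U := by
      intro x y
      set mx : M := ⟨_, hMg x⟩
      set my : M := ⟨_, hMg y⟩
      refine ⟨mx * my * mx⁻¹ * my⁻¹, by
        show ψ _ = 1
        rw [map_mul, map_mul, map_mul, map_inv, map_inv, mul_comm (ψ mx), mul_inv_cancel_right,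
          mul_inv_cancel], ?_⟩
      show x * (zf x : Γ)⁻¹ * (y * (zf y : Γ)⁻¹) * (x * (zf x : Γ)⁻¹)⁻¹ * (y * (zf y : Γ)⁻¹)⁻¹ = _
      have cx : ∀ g : Γ, Commute ((zf x : Γ)⁻¹) g :=
        fun g => (Subgroup.mem_center_iff.1 (inv_mem (hc (zf x).2)) g).symm
      have cy : ∀ g : Γ, Commute ((zf y : Γ)⁻¹) g :=
        fun g => (Subgroup.mem_center_iff.1 (inv_mem (hc (zf y).2)) g).symm
      calc x * (zf x : Γ)⁻¹ * (y * (zf y : Γ)⁻¹) * (x * (zf x : Γ)⁻¹)⁻¹ * (y * (zf y : Γ)⁻¹)⁻¹
          = x * ((zf x : Γ)⁻¹ * (y * (zf y : Γ)⁻¹) * ((zf x : Γ)⁻¹)⁻¹) * x⁻¹ *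
              (y * (zf y : Γ)⁻¹)⁻¹ := by group
        _ = x * (y * (zf y : Γ)⁻¹) * x⁻¹ * (y * (zf y : Γ)⁻¹)⁻¹ := by
            rw [(cx _).eq, mul_inv_cancel_right]
        _ = x * y * ((zf y : Γ)⁻¹ * x⁻¹ * ((zf y : Γ)⁻¹)⁻¹) * y⁻¹ := by group
        _ = x * y * x⁻¹ * y⁻¹ := by rw [(cy _).eq, mul_inv_cancel_right]
    -- so the derived subgroup and a 2-power of everything lie below
    have hcomm : commutator Γ ≤ U := by
      rw [commutator_def, Subgroup.commutator_le]
      intro x _ y _
      exact hUc x y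
    have hMU : M ≤ U := by
      intro m hm
      have hm' : Abelianization.of (m ^ b) = 1 := by
        rw [map_pow]; exact hm
      rw [← MonoidHom.mem_ker, Abelianization.ker_of] at hm'
      have h1 : m ^ b ∈ U := hcomm hm'
      have h2 : m * m ∈ U := hU2 ⟨m, hm⟩
      obtain ⟨k, hk⟩ := hb
      rw [hk, pow_succ, pow_mul, pow_two] at h1
      exact (U.mul_mem_cancel_left (U.pow_mem h2 k)).1 h1
    obtain ⟨z, hz⟩ := e.surjective (Multiplicative.ofAdd (1 : ZMod 2))
    obtain ⟨w', rfl⟩ := QuotientGroup.mk'_surjective N z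
    obtain ⟨m, hm, hme⟩ := hMU (w' : M).2
    have h1 := hψ w'
    rw [← Subtype.ext (a1 := m) hme, MonoidHom.mem_ker.1 hm] at h1
    exact absurd (h1.trans hz) (by decide)
  -- so the character kills the inner part
  have hχM : ∀ z : σ.ker, (z : Γ) ∈ M → χ z = 1 := by
    intro z hz
    have h1 := hodd ⟨⟨(z : Γ), hz⟩, MonoidHom.mem_ker.1 z.2⟩
    rw [← orderOf_eq_one_iff]
    refine Nat.eq_one_of_dvd_coprimes
      (Nat.Coprime.pow_left 2 ((Nat.coprime_two_left).2 h1) : Nat.Coprime (2 ^ 2) _)
      (orderOf_dvd_of_pow_eq_one (hA _)) (orderOf_dvd_of_pow_eq_one ?_)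
    rw [← map_pow]
    have h2 := pow_orderOf_eq_one (⟨⟨(z : Γ), hz⟩, MonoidHom.mem_ker.1 z.2⟩ : τ.ker)
    have h3 := congrArg (fun v : τ.ker => ((v : M) : Γ)) h2
    simp only [SubgroupClass.coe_pow, OneMemClass.coe_one] at h3
    rw [show z ^ _ = (1 : σ.ker) from Subtype.ext (by rw [SubgroupClass.coe_pow]; exact h3), map_one]
  refine ⟨MonoidHom.mk' (fun g => χ (zf g)) fun g h => ?_, fun z => ?_⟩
  · rw [← map_mul, ← mul_inv_eq_one, ← map_inv, ← map_mul]
    refine hχM _ ?_
    rw [MonoidHom.mem_ker]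
    simp only [Subgroup.coe_mul, Subgroup.coe_inv, map_mul, map_inv, hzf]
    rw [mul_inv_cancel]
  · show χ (zf (z : Γ)) = χ z
    rw [← mul_inv_eq_one, ← map_inv, ← map_mul]
    refine hχM _ ?_
    rw [MonoidHom.mem_ker, Subgroup.coe_mul, Subgroup.coe_inv, map_mul, map_inv, hzf, mul_inv_cancel]

end Cfsg.Agent.HSMultStab
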