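import Cfsg.Agent.Lib.LeechOutHS
import Cfsg.Agent.Lib.HSPermData

/-!
The stabiliser of the second pair acting on one hundred minimal vectors, and the resulting group of
permutations.
-/

set_option autoImplicit false
set_option maxRecDepth 100000

open scoped Pointwise

namespace Cfsg.Agent.HSPerm

open Cfsg Cfsg.Agent.GolayBasic Cfsg.Agent.LeechBasic Cfsg.Agent.LeechAut Cfsg.Agent.LeechOrbit
open Cfsg.Agent.LeechCert Cfsg.Agent.LeechOutTool Cfsg.Agent.LeechOutData Cfsg.Agent.LeechOutGenData
open Cfsg.Agent.LeechOutPair (S)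
open Cfsg.Agent.HSPermData
open Cfsg.Agent.LeechXi (isL isL_iff)

/-- the code of a point -/
def code (i : Fin 100) : ℕ := codes.getD i 0

theorem code_isL : ∀ i, isL (vec (code i)) = true := by decide +kernel

theorem code_norm : ∀ i, sqNorm (vec (code i)) = 32 := by decide +kernel

/-- the points -/
def pnt (i : Fin 100) : leechLattice := ofCode (code i) (code_isL i)

theorem code_sep : ∀ i j : Fin 100,
    ((List.range 24).all fun k => dig (code i) k == dig (code j) k) = true → i = j := by decide +kernel

theorem pnt_inj {i j : Fin 100} (h : pnt i = pnt j) : i = j := by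
  refine code_sep i j (List.all_eq_true.2 fun k hk => ?_)
  have h1 := congrFun (congrArg Subtype.val h) (pt k)
  have h2 : vec (code i) (pt k) = vec (code j) (pt k) := h1
  rw [vec_pt _ (List.mem_range.1 hk), vec_pt _ (List.mem_range.1 hk)] at h2
  simp [h2]

/-- A word moves the points as a table says. -/
noncomputable def actOK (w : List Step) (p : List ℕ) : Bool :=
  wordValid w && (List.range 100).all fun i =>
    applyWord w (codes.getD i 0) == codes.getD (p.getD i 0 % 100) 0

/-- the entry of a table -/
def img (p : List ℕ) (i : Fin 100) : Fin 100 := ⟨p.getD i 0 % 100, Nat.mod_lt _ (by norm_num)⟩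

theorem El_pnt {w : List Step} {p : List ℕ} (h : actOK w p = true) (i : Fin 100) :
    El w • pnt i = pnt (img p i) := by
  simp only [actOK, Bool.and_eq_true, List.all_eq_true, beq_iff_eq, List.mem_range] at h
  apply Subtype.ext
  rw [El_smul h.1 (pnt i) (code i) (by
    show sqNorm (vec (code i)) ≤ 80
    rw [code_norm]; norm_num) rfl]
  show vec (applyWord w (code i)) = vec (code (img p i))
  exact congrArg vec (h.2 i i.2)

theorem act_x : actOK w11 px = true := by decide +kernel

theorem act_y : actOK wU py = true := by decide +kernel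

theorem act_z : actOK zHS pz = true := by decide +kernel

/-- the joint stabiliser -/
abbrev Gr : Subgroup Co0 := S Spor.leechU'

/-- the first generator -/
noncomputable def gx : Gr := ⟨_, LeechOutHS.hx⟩
/-- the second generator -/
noncomputable def gy : Gr := ⟨_, LeechOutHS.hy⟩
/-- the third generator -/
noncomputable def gz : Gr := ⟨_, LeechOutHS.hz⟩

theorem finite_Gr : Finite Gr := by
  haveI := LeechOrder.finite_Co0
  infer_instance

instance : Finite Gr := finite_Gr

theorem closure_gens : Subgroup.closure ({gx, gy, gz} : Set Gr) = ⊤ := by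
  haveI := LeechOrder.finite_Co0
  haveI := LeechOutHS.simple_S
  exact LeechOutPair.closure_top (w := Spor.leechU') LeechOutHS.hx LeechOutHS.hy LeechOutHS.hz
    (wzi := zHSi) (by decide +kernel) (l := liftHS)
    (by decide +kernel) (count := 10) (scripts := scriptsHS) (by decide +kernel) ⟨_, LeechOutHS.card_S⟩
    (by rw [LeechOutHS.card_S]; norm_num)

theorem exists_img (g : Gr) (i : Fin 100) : ∃ j, (g : Co0) • pnt i = pnt j := by
  let M : Submonoid Gr :=
    { carrier := {g | ∀ i, ∃ j, (g : Co0) • pnt i = pnt j}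
      one_mem' := fun i => ⟨i, one_smul _ _⟩
      mul_mem' := fun {a b} ha hb i => by
        obtain ⟨j, hj⟩ := hb i
        obtain ⟨k, hk⟩ := ha j
        exact ⟨k, by rw [Subgroup.coe_mul, mul_smul, hj, hk]⟩ }
  have h : g ∈ Subgroup.closure ({gx, gy, gz} : Set Gr) := closure_gens ▸ Subgroup.mem_top g
  rw [← Subgroup.mem_toSubmonoid, Subgroup.closure_toSubmonoid_of_finite] at h
  refine (Submonoid.closure_le (S := M)).2 ?_ h i
  rintro a (rfl | rfl | rfl)
  exacts [fun i => ⟨_, El_pnt act_x i⟩, fun i => ⟨_, El_pnt act_y i⟩, fun i => ⟨_, El_pnt act_z i⟩]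

/-- the image of a point -/
noncomputable def moved (g : Gr) (i : Fin 100) : Fin 100 := (exists_img g i).choose

theorem moved_spec (g : Gr) (i : Fin 100) : (g : Co0) • pnt i = pnt (moved g i) :=
  (exists_img g i).choose_spec

theorem moved_eq {g : Gr} {i j : Fin 100} (h : (g : Co0) • pnt i = pnt j) : moved g i = j :=
  pnt_inj ((moved_spec g i).symm.trans h)

theorem moved_mul (g k : Gr) (i : Fin 100) : moved (g * k) i = moved g (moved k i) :=
  moved_eq (by rw [Subgroup.coe_mul, mul_smul, moved_spec k, moved_spec g])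

theorem moved_one (i : Fin 100) : moved 1 i = i := moved_eq (one_smul _ _)

/-- the action -/
noncomputable def ρ : Gr →* Equiv.Perm (Fin 100) where
  toFun g :=
    { toFun := moved g
      invFun := moved g⁻¹
      left_inv := fun i => by rw [← moved_mul, inv_mul_cancel, moved_one]
      right_inv := fun i => by rw [← moved_mul, mul_inv_cancel, moved_one] }
  map_one' := Equiv.ext moved_one
  map_mul' g k := Equiv.ext (moved_mul g k)

theorem ρ_apply {g : Gr} {i j : Fin 100} (h : (g : Co0) • pnt i = pnt j) : ρ g i = j := moved_eq h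

theorem ρ_gx : ∀ i, ρ gx i = img px i := fun i => ρ_apply (El_pnt act_x i)

theorem ρ_gy : ∀ i, ρ gy i = img py i := fun i => ρ_apply (El_pnt act_y i)

theorem ρ_gz : ∀ i, ρ gz i = img pz i := fun i => ρ_apply (El_pnt act_z i)

theorem px_moves : ∃ i, img px i ≠ i := by decide +kernel

theorem ρ_injective : Function.Injective ρ := by
  haveI := LeechOutHS.simple_S
  rw [← MonoidHom.ker_eq_bot_iff]
  refine (Subgroup.Normal.eq_bot_or_eq_top inferInstance).resolve_right fun h => ?_
  obtain ⟨i, hi⟩ := px_moves
  refine hi ((ρ_gx i).symm.trans ?_)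
  rw [show ρ gx = 1 from MonoidHom.mem_ker.1 (h ▸ Subgroup.mem_top gx)]
  rfl

/-- the permutation group -/
noncomputable abbrev Hp : Subgroup (Equiv.Perm (Fin 100)) := ρ.range

/-- the isomorphism from the sporadic group -/
noncomputable def toHp : Spor.HS ≃* Hp :=
  ((LeechCertOrders.infStabEquiv₂ Spor.leechV Spor.leechU').symm.trans (MonoidHom.ofInjective ρ_injective) :)

theorem card_Hp : Nat.card Hp = 44352000 := by
  rw [← Nat.card_congr toHp.toEquiv, LeechCertOrders.card_HS]

theorem simple_Hp : IsSimpleGroup Hp :=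
  haveI := LeechOutHS.simple_S
  MulEquiv.isSimpleGroup (MonoidHom.ofInjective ρ_injective).symm

/-! ### elements given by tables -/

/-- A table describes a permutation. -/
def RepF (f : ℕ → ℕ) (σ : Equiv.Perm (Fin 100)) : Prop := ∀ i, (σ i : ℕ) = f i

theorem repF_one : RepF id 1 := fun _ => rfl

theorem repF_mul {f g : ℕ → ℕ} {σ τ : Equiv.Perm (Fin 100)} (hσ : RepF f σ) (hτ : RepF g τ) :
    RepF (fun i => f (g i)) (σ * τ) := fun i => by
  rw [Equiv.Perm.mul_apply, hσ, hτ]

theorem eq_of_rep {f g : ℕ → ℕ} {σ τ : Equiv.Perm (Fin 100)} (hσ : RepF f σ) (hτ : RepF g τ)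
    (h : ∀ i < 100, f i = g i) : σ = τ :=
  Equiv.ext fun i => Fin.ext (by rw [hσ, hτ, h i i.2])

/-- the table of a generator -/
def genF : Fin 3 → ℕ → ℕ
  | 0, i => px.getD i 0 % 100
  | 1, i => py.getD i 0 % 100
  | 2, i => pz.getD i 0 % 100

/-- a generator -/
noncomputable def gen : Fin 3 → Gr
  | 0 => gx
  | 1 => gy
  | 2 => gz

theorem gen_rep : ∀ k, RepF (genF k) (ρ (gen k)) := fun k => by
  fin_cases k
  · exact fun i => congrArg Fin.val (ρ_gx i)
  · exact fun i => congrArg Fin.val (ρ_gy i)
  · exact fun i => congrArg Fin.val (ρ_gz i)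

/-- the table of a positive word -/
def wordF : List (Fin 3) → ℕ → ℕ
  | [], i => i
  | k :: l, i => force (wordF l i) (genF k)

/-- the element of a positive word -/
noncomputable def wordE (l : List (Fin 3)) : Hp := ⟨ρ (l.map gen).prod, _, rfl⟩

theorem wordE_rep : ∀ l, RepF (wordF l) (wordE l : Equiv.Perm (Fin 100))
  | [] => fun i => by simp [wordE, wordF]
  | k :: l => by
    have h := repF_mul (gen_rep k) (wordE_rep l)
    intro i
    simp only [wordE, List.map_cons, List.prod_cons, map_mul, wordF, force_eq] at h ⊢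
    exact h i

end Cfsg.Agent.HSPerm
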