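/-!
Relators for the two-local presentation of the Higman–Sims group: letters `0 = a`, `1 = u`,
`2 = c * s₀`, `6 = b`, `7 = b⁻¹`; the cosets of the subgroup of `0, 2, 6` number `4125`.
-/

set_option autoImplicit false

namespace Cfsg.Agent.HSPresent28

/-- relators -/
def rels : List (List Nat) :=
  [
   [6,6,6],
   [0,6,0,6,0,6,0,6,0,6,0,6,0,6],
   [0,7,0,6,0,7,0,6,0,7,0,6,0,7,0,6],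
   [2,0,6,0,6,0,7,0,6,0,6,0,7,2,0,6,0,6,0,7,0,6,0,6,0,7,2,0,6,0,6,0,7,0,6,0,6,0,7,2,0,6,0,6,0,7,0,6,0,6,0,7],
   [6,2,0,6,0,6,0,7,0,6,0,6,0,7,0,7,0,7,0,6,0,7,0,7,0,2],
   [2,0,6,0,6,0,7,0,6,0,6,0,7,0,2,0,6,0,6,0,7,0,6,0,6,0,7,0,6,0,7,0,7,0,6,0,7,0,7,0,2,0,6,0,7,0,7,0,6,0,7,0,7,0,2,0],
   [2,0,6,0,6,0,7,0,6,0,6,6,0,7,0,7,0,6,0,7,0,7,0,2,7,0,7,0,6,0,7,0,7,0,2,6,0,2,0,6,0,6,0,7,0,6,0,6,0,7,0,7],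
   [6,0,6,0,7,0,7,0,6,0,7,0,7,0,2,0,7,2,0,6,0,6,0,7,0,6,0,6,0,7,0,2,0,6,0,6,0,7,0,6,0,6,0,7,0,6,0,7,0,7,0,6,0,7,0,7,0,2,6,0,2,0,6,0,6,0,7,0,6,0,6,0,7,0,7,0,6,0,7,0,7,0,6,0,7,0,7,0,2,0],
   [0,6,0,6,0,7,0,7,0,6,0,7,0,7,0,2,0,7,2,0,6,0,6,0,7,0,6,0,6,0,7,0,6,0,6,0,7,0,7,0,6,0,7,0,7,0,2,0,7,2,0,6,0,6,0,7,0,6,0,6,0,7],
   [6,0,6,0,7,0,7,0,6,0,7,0,7,0,2,0,7,2,0,6,0,6,0,7,0,6,0,6,0,7,7,0,6,0,7,0,7,0,6,0,7,0,7,0,2,0,6,0,6,0,7,0,7,0,6,0,7,0,7,0,2,0,7,2,0,6,0,6,0,7,0,6,0,6,0],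
   [1,6,1,7],
   [1,2,0,6,0,6,0,7,0,6,0,6,0,7,1,2,0,6,0,6,0,7,0,6,0,6,0,7],
   [1,0,2,0,6,0,6,0,7,0,6,0,6,0,7,2,0,6,0,6,0,7,0,6,0,6,0,7,0,1,7,0,7,0,7,0,6,0,6,0,6],
   [0,6,0,6,0,7,0,6,0,6,0,7,1,0,6,0,6,0,7,0,6,0,6,0,7,1],
   [0,2,0,6,0,6,0,7,0,6,0,6,0,7,0,7,0,6,0,7,0,6,1,0,2,0,6,0,6,0,7,0,6,0,6,0,7,0,7,0,6,0,7,0,6,1,0,2,0,6,0,6,0,7,0,6,0,6,0,7,0,7,0,6,0,7,0,6,1],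
   [0,1,0,1,0,1,0,1,0,1,0,1,0,1,0,1],
   [0,2,0,6,0,6,0,7,0,6,0,6,0,7,1,0,2,0,6,0,6,0,7,0,6,0,6,0,7,1,0,2,0,6,0,6,0,7,0,6,0,6,0,7,1,0,2,0,6,0,6,0,7,0,6,0,6,0,7,1,0,2,0,6,0,6,0,7,0,6,0,6,0,7,1,0,2,0,6,0,6,0,7,0,6,0,6,0,7,1]]

/-- names of the relators, in order -/
def relNames : List String :=
  ["b3", "ab7", "comm4", "c4", "bc", "comm_c_v3", "comm_c_v2", "comm_v2_v3", "a_v2", "b_v2", "u_b", "u_c", "u_v3", "u_s0", "u_s3", "au8", "acu6"]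

end Cfsg.Agent.HSPresent28
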