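import Cfsg.Agent.Lib.HSCoreData28

/-!
Computations on sixty-four points for the extra relations of the Higman–Sims frame.
-/

set_option autoImplicit false
set_option maxRecDepth 100000
set_option synthInstance.maxSize 4000
set_option synthInstance.maxHeartbeats 200000

namespace Cfsg.Agent.HSRecog27Extra

open HSModel28
open Cfsg.Agent.HSCore28 (PA PB PS P3 RI enc)

/-- coordinates on the elementary subgroup of order sixteen -/
abbrev XI := Fin 2 × Fin 2 × Fin 2 × Fin 2

/-- an element of the elementary subgroup from its coordinates -/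
def xel {K : Type*} [Group K] (x1 x2 x3 x4 : K) (e : XI) : K :=
  x1 ^ e.1.val * x2 ^ e.2.1.val * x3 ^ e.2.2.1.val * x4 ^ e.2.2.2.val

theorem xel_map {K L : Type*} [Group K] [Group L] (f : K →* L) (x1 x2 x3 x4 : K) (e : XI) :
    f (xel x1 x2 x3 x4 e) = xel (f x1) (f x2) (f x3) (f x4) e := by
  simp [xel, map_mul, map_pow]

theorem xel_conj {K : Type*} [Group K] (g x1 x2 x3 x4 : K) (e : XI) :
    g * xel x1 x2 x3 x4 e * g⁻¹ =
      xel (g * x1 * g⁻¹) (g * x2 * g⁻¹) (g * x3 * g⁻¹) (g * x4 * g⁻¹) e := by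
  simp only [xel, conj_pow]
  group

/-- the elementary subgroup in the model -/
def encX (e : XI) : Equiv.Perm Vec := xel (trans (2, 0, 0)) (trans (0, 0, 2)) PB PS e

/-- its image under the element of order six -/
def encZ (e : XI) : Equiv.Perm Vec :=
  xel (trans (0, 0, 2)) PS (trans (2, 0, 0)) (trans (0, 0, 2) * PB) e

theorem x_sq : ∀ e : XI, encX e * encX e = 1 := by decide +kernel

theorem z_fixed : ∀ e : XI, encZ e = encX e → encX e = 1 := by decide +kernel

theorem a_conj : linA * trans (2, 0, 0) * linA⁻¹ = trans (0, 0, 2) ∧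
    linA * trans (0, 0, 2) * linA⁻¹ = trans (2, 0, 0) ∧ linA * PB * linA⁻¹ = PS ∧
    linA * PS * linA⁻¹ = PB := by decide +kernel

theorem c_conj : trans (1, 0, 0) * trans (2, 0, 0) * (trans (1, 0, 0))⁻¹ = trans (2, 0, 0) ∧
    trans (1, 0, 0) * trans (0, 0, 2) * (trans (1, 0, 0))⁻¹ = trans (0, 0, 2) ∧
    trans (1, 0, 0) * PB * (trans (1, 0, 0))⁻¹ = PB ∧
    trans (1, 0, 0) * PS * (trans (1, 0, 0))⁻¹ = trans (2, 0, 0) * PS ∧ PS * PS = 1 := by
  decide +kernel

theorem cent_X : ∀ i : Fin words.length, linW words[i.1] (2, 0, 0) = (2, 0, 0) →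
    linW words[i.1] (0, 0, 2) = (0, 0, 2) → ∀ x : Vec,
      trans x * linW words[i.1] * PB = PB * (trans x * linW words[i.1]) →
      trans x * linW words[i.1] * PS = PS * (trans x * linW words[i.1]) →
      ∃ e : XI, encX e = trans x * linW words[i.1] := by decide +kernel

theorem fix_count :
    Fintype.card {i : Fin words.length // linW words[i.1] (2, 0, 0) = (2, 0, 0)} = 24 := by
  decide +kernel

theorem fix_comm : ∀ i : Fin words.length, linW words[i.1] (2, 0, 0) = (2, 0, 0) →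
    linW words[i.1] * trans (2, 0, 0) = trans (2, 0, 0) * linW words[i.1] := by decide +kernel

theorem trans_comm : ∀ x : Vec, trans x * trans (2, 0, 0) = trans (2, 0, 0) * trans x := by
  decide +kernel

theorem enc_inj : ∀ e e' : RI, enc e = enc e' → e = e' := by decide +kernel

/-- the four coset representatives inside `M` -/
def ksP : Fin 4 → Equiv.Perm Vec := ![1, P3, linB * P3, linB * linB * P3]

/-- the image of the eight-group under the outside involution -/
def encV (e : Fin 2 × Fin 2 × Fin 2) : Equiv.Perm Vec :=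
  trans (2, 0, 0) ^ e.1.val * (trans (2, 0, 0) * PA) ^ e.2.1.val * PB ^ e.2.2.val

theorem ks_sep : ∀ p q : Fin 4, p ≠ q →
    (∀ e, encV e ≠ (ksP p)⁻¹ * ksP q * PA * ((ksP p)⁻¹ * ksP q)⁻¹) ∨
      (∀ e, encV e ≠ (ksP p)⁻¹ * ksP q * PB * ((ksP p)⁻¹ * ksP q)⁻¹) := by
  decide +kernel

theorem v2_data : trans (0, 2, 0) = trans (2, 0, 0) * trans (2, 2, 0) ∧
    PA = linB * PB * linB⁻¹ ∧ trans (2, 2, 0) = linB * trans (0, 0, 2) * linB⁻¹ ∧
    P3 * trans (2, 0, 0) = trans (2, 0, 0) * P3 ∧ PS * trans (2, 0, 0) = trans (2, 0, 0) * PS := by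
  decide +kernel

theorem q1_not : ∀ i : Fin 2, trans (2, 0, 0) ^ i.val ≠ trans (0, 0, 2) := by decide +kernel

theorem wVec_sq : ∀ (i j k : Fin 2), trans (2, 0, 0) ^ i.val * (trans (2, 0, 0) * PA) ^ j.val * PB ^ k.val =
    encV (i, j, k) := fun _ _ _ => rfl

theorem uV_inter : ∀ (e : Fin 2 × Fin 2 × Fin 2) (x : Vec), encV e = trans x →
    e.2.1 = 0 ∧ e.2.2 = 0 := by decide +kernel

end Cfsg.Agent.HSRecog27Extra
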