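import Cfsg.Agent.Lib.HSUFrame28
import Cfsg.Agent.Lib.HSRecog27ExtraData

/-!
For S3346: the two extra relations of a complete frame, and the centralizer of `t`.
-/

set_option autoImplicit false
set_option maxRecDepth 100000
set_option linter.style.haveILetI false
set_option linter.unusedSectionVars false

namespace Cfsg.Agent.HSRecog27Extra

open Subgroup HSModel28
open Cfsg.Agent.HSCore28 (PA PB PS P3 RI enc elG act_el el_mem R_coords)
open Cfsg.Agent.HSUFrame28 (mem_H conj_R V_coords V_mem V_comb W_special conj_comp)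
open Cfsg.Agent.HSFrame28 (wA wB s0 s3)

variable {G : Type*} [Group G] [Finite G] {t : G} {H R Cy E V M : Subgroup G} {c v2 v3 a b u : G}

local notation "W" => vA c v2 v3

theorem conj_cycle {g x y : G} (h : g * x * g⁻¹ = y) {n : G} (hn : Commute n x) (hgn : Commute n g) :
    Commute n y := by
  rw [← h]
  exact (hgn.mul_right hn).mul_right hgn.inv_right

theorem conj_triple {g x y z x' y' z' : G} (hx : g * x * g⁻¹ = x') (hy : g * y * g⁻¹ = y')
    (hz : g * z * g⁻¹ = z') (i j k : ℕ) :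
    g * (x ^ i * y ^ j * z ^ k) * g⁻¹ = x' ^ i * y' ^ j * z' ^ k := by
  subst hx hy hz
  simp only [conj_pow]
  group

section MFrame

variable (F : HSFrame28.MFrame t M c v2 v3 a b)
include F

theorem word_fix (w : List Bool) (x z : Vec) (e : trans x * linW w * trans z = trans z * (trans x * linW w)) :
    linW w z = z := by
  have h := Equiv.congr_fun e (0, 0, 0)
  simp only [Equiv.Perm.mul_apply, HSUFrame28.linW_zero] at h
  have e0 : (HSModel28.trans z : Vec → Vec) (0, 0, 0) = z := add_zero z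
  have e2 : (HSModel28.trans x : Vec → Vec) (0, 0, 0) = x := add_zero x
  rw [e0, e2] at h
  have e1 : (HSModel28.trans x : Vec → Vec) (linW w z) = x + linW w z := rfl
  have e3 : (HSModel28.trans z : Vec → Vec) x = z + x := rfl
  rw [e1, e3, add_comm z] at h
  exact add_left_cancel h

theorem exists_normal_form (g : M) :
    ∃ (x : Vec) (i : Fin words.length), act F g = trans x * linW words[i.1] := by
  obtain ⟨x, l, hl, hgx⟩ := decomp F g.2
  obtain ⟨f, hf, hfa⟩ := exists_index F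
  obtain ⟨i, hi⟩ := hf.2 ⟨l, hl⟩
  refine ⟨x, i, ?_⟩
  rw [← hfa i, ← act_W F x, ← map_mul]
  refine congrArg _ (Subtype.ext ?_)
  rw [hgx, hi]
  rfl

/-- The elements of `M` commuting with `t` are `1536` in number. -/
theorem card_cent_M : Nat.card {g : M // (g : G) * t = t * g} = 1536 := by
  obtain ⟨e1, e2, e3⟩ := W_special F
  have ht : t ∈ M := e1 ▸ W_mem F (2, 0, 0)
  have hact : act F ⟨t, ht⟩ = trans (2, 0, 0) := act_trans F _ _ e1.symm
  obtain ⟨f, hf, hfa⟩ := exists_index F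
  let Φ : Vec × {i : Fin words.length // linW words[i.1] (2, 0, 0) = (2, 0, 0)} →
      {g : M // (g : G) * t = t * g} := fun p =>
    ⟨⟨W p.1, W_mem F p.1⟩ * Subgroup.inclusion (compl_le F) (f p.2.1), by
      have h : (⟨W p.1, W_mem F p.1⟩ * Subgroup.inclusion (compl_le F) (f p.2.1)) * ⟨t, ht⟩ =
          ⟨t, ht⟩ * (⟨W p.1, W_mem F p.1⟩ * Subgroup.inclusion (compl_le F) (f p.2.1)) := by
        refine act_injective F ?_
        simp only [map_mul, hfa, act_W, hact]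
        rw [mul_assoc, fix_comm _ p.2.2, ← mul_assoc, trans_comm, mul_assoc]
      exact congrArg Subtype.val h⟩
  have hinj : Function.Injective Φ := by
    intro p q h
    have h' : W p.1 * ((f p.2.1 : _) : G) = W q.1 * ((f q.2.1 : _) : G) :=
      congrArg (fun g : {g : M // (g : G) * t = t * g} => ((g.1 : M) : G)) h
    obtain ⟨hx, hl⟩ := decomp_unique F (f p.2.1).2 (f q.2.1).2 h'
    exact Prod.ext hx (Subtype.ext (hf.1 (Subtype.ext hl)))
  have hsurj : Function.Surjective Φ := by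
    rintro ⟨g, hg⟩
    obtain ⟨x, i, hxi⟩ := exists_normal_form F g
    have hfix : linW words[i.1] (2, 0, 0) = (2, 0, 0) := by
      refine word_fix F _ x _ ?_
      rw [← hxi, ← hact, ← map_mul, ← map_mul]
      exact congrArg _ (Subtype.ext hg)
    refine ⟨(x, ⟨i, hfix⟩), Subtype.ext (act_injective F ?_)⟩
    rw [map_mul, hfa, act_W, hxi]
  rw [← Nat.card_congr (Equiv.ofBijective Φ ⟨hinj, hsurj⟩), Nat.card_eq_fintype_card,
    Fintype.card_prod, fix_count]
  decide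

end MFrame

section Frame

variable (S : HSFrame28.Setting t H R Cy E V M) (F : HSFrame28.UFrame t M R Cy c v2 v3 a b u)
include S F

theorem u_mem_H : u ∈ H := (mem_H S).2 F.u_t

theorem u_inv : u⁻¹ = u := inv_eq_of_mul_eq_one_right (by rw [← sq]; exact F.u_two)

theorem b_mem_H : b ∈ H := by
  rw [mem_H S, ← F.c_sq]
  have h : Commute b c := mul_inv_eq_iff_eq_mul.1 F.b_c
  exact (h.pow_right 2).eq

theorem t_mem : t ∈ M := HSCore28.t_mem F.toRFrame

theorem q1_mem : v3 ^ 2 ∈ M := pow_mem (HSCore28.v3_mem F.toRFrame) 2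

theorem s3_mem_H : s3 v3 a b ∈ H := by
  obtain ⟨-, -, -, m4⟩ := mem_words F.toMFrame
  rw [mem_H S]
  exact eq_of_act F.toMFrame (g := ⟨_, m4⟩ * ⟨t, t_mem S F⟩) (h := ⟨t, t_mem S F⟩ * ⟨_, m4⟩) (by
    rw [map_mul, map_mul, act_s3, HSCore28.act_t F.toRFrame]; exact v2_data.2.2.2.1)

theorem card_R : Nat.card R = 64 := by
  have hcR : c ∈ R := by rw [F.two_core]; exact subset_closure (by simp)
  have hqR : v3 ^ 2 ∈ R := by rw [F.two_core]; exact subset_closure (by simp)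
  have hwA : wA a b ∈ R := by rw [F.two_core]; exact subset_closure (by simp)
  have hwB : wB a b ∈ R := by rw [F.two_core]; exact subset_closure (by simp)
  have hmem : ∀ e : RI, elG c v3 a b e ∈ R := fun e =>
    mul_mem (mul_mem (mul_mem (mul_mem (pow_mem hcR _) (pow_mem hqR _))
      (pow_mem (conj_R S (b_mem_H S F) hqR) _)) (pow_mem hwB _)) (pow_mem hwA _)
  let f : RI → R := fun e => ⟨_, hmem e⟩
  have hf : Function.Bijective f := by
    refine ⟨fun e e' h => enc_inj e e' ?_, fun r => ?_⟩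
    · rw [← act_el F.toRFrame, ← act_el F.toRFrame]
      exact congrArg _ (Subtype.ext (congrArg (fun x : R => (x : G)) h :))
    · obtain ⟨e, he⟩ := R_coords F.toRFrame r.2
      exact ⟨e, Subtype.ext he.symm⟩
  rw [← Nat.card_congr (Equiv.ofBijective f hf), Nat.card_eq_fintype_card]
  rfl

theorem card_H : Nat.card H = 7680 := by
  obtain ⟨e⟩ := S.hH5
  have h := (Cfsg.pCore 2 H).card_eq_card_quotient_mul_card_subgroup
  rw [Nat.card_congr e.toEquiv, show Nat.card (Equiv.Perm (Fin 5)) = 120 by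
    rw [Nat.card_eq_fintype_card, Fintype.card_perm, Fintype.card_fin]; rfl] at h
  have hR := card_R S F
  rw [S.hR, card_map_of_injective H.subtype_injective] at hR
  rw [h, hR]

/-- The image of `V` under `u`. -/
theorem conj_V {y : G} (hy : y ∈ V) :
    ∃ (e : Fin 2 × Fin 2 × Fin 2) (h : u * y * u⁻¹ ∈ M),
      act F.toMFrame ⟨_, h⟩ = encV e ∧ (e.2.1 = 0 → e.2.2 = 0 → u * y * u⁻¹ = t ^ e.1.val) := by
  have F' := F.toMFrame
  obtain ⟨e1, e2, e3⟩ := W_special F'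
  obtain ⟨x, hx, rfl⟩ := V_coords S F' hy
  obtain ⟨i, j, k, rfl⟩ := V_comb x hx
  obtain ⟨m1, m2, -, -⟩ := mem_words F'
  have hb := mem_b F'
  have hq2 : b * v3 ^ 2 * b⁻¹ ∈ M := mul_mem (mul_mem hb (q1_mem S F)) (inv_mem hb)
  have hut : u * t * u⁻¹ = t := by rw [F.u_t, mul_inv_cancel_right]
  have hv2 : v2 ^ 2 = t * (b * v3 ^ 2 * b⁻¹) :=
    eq_of_act F' (g := ⟨_, pow_mem (HSCore28.v2_mem F.toRFrame) 2⟩) (h := ⟨t, t_mem S F⟩ * ⟨_, hq2⟩) (by
      rw [map_mul, HSCore28.act_v2sq F.toRFrame, HSCore28.act_t F.toRFrame,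
        HSCore28.act_q2 F.toRFrame]
      exact v2_data.1)
  have huq2 : u * (b * v3 ^ 2 * b⁻¹) * u⁻¹ = wA a b := by
    calc u * (b * v3 ^ 2 * b⁻¹) * u⁻¹ = (u * b) * v3 ^ 2 * (u * b)⁻¹ := by group
      _ = b * (u * v3 ^ 2 * u⁻¹) * b⁻¹ := by rw [F.u_b]; group
      _ = wA a b := by rw [F.u_v3]; exact (HSUFrame28.wA_eq F.toRFrame).symm
  have heq : u * W (i.val • ((2, 0, 0) : Vec) + j.val • ((0, 2, 0) : Vec) + k.val • ((0, 0, 2) : Vec)) * u⁻¹ =
      t ^ i.val * (t * wA a b) ^ j.val * wB a b ^ k.val := by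
    rw [W_add F', W_add F', W_nsmul F', W_nsmul F', W_nsmul F', e1, e2, e3]
    exact conj_triple hut (by rw [hv2, ← conj_mul, hut, huq2]) F.u_v3 _ _ _
  have hm : t ^ i.val * (t * wA a b) ^ j.val * wB a b ^ k.val ∈ M :=
    mul_mem (mul_mem (pow_mem (t_mem S F) _) (pow_mem (mul_mem (t_mem S F) m1) _)) (pow_mem m2 _)
  refine ⟨(i, j, k), by rw [heq]; exact hm, ?_, fun hj hk => ?_⟩
  · rw [show (⟨_, by rw [heq]; exact hm⟩ : M) =
      (⟨t, t_mem S F⟩ : M) ^ i.val * (⟨t, t_mem S F⟩ * ⟨_, m1⟩) ^ j.val * (⟨_, m2⟩ : M) ^ k.val from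
      Subtype.ext (heq.trans (by simp)), map_mul, map_mul, map_pow, map_pow, map_pow, map_mul,
      HSCore28.act_t F.toRFrame, act_wA, act_wB]
    rfl
  · simp only at hj hk
    rw [heq, hj, hk, Fin.val_zero, pow_zero, pow_zero, mul_one, mul_one]

theorem norm_V {m v : G} (hm : m ∈ M) (hv : v ∈ V) : m * v * m⁻¹ ∈ V := by
  rw [S.hM, mem_normalizer_iff] at hm
  exact (hm v).1 hv

theorem q1_V : v3 ^ 2 ∈ V := by
  rw [← (W_special F.toMFrame).2.2]
  exact V_mem S F.toMFrame (by decide)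

theorem q2_V : b * v3 ^ 2 * b⁻¹ ∈ V := norm_V S F (mem_b F.toMFrame) (q1_V S F)

/-- `H` consists of `M ∩ H` and one double coset. -/
theorem double_coset {h : G} (hh : h ∈ H) :
    h ∈ M ∨ ∃ k m, k ∈ M ∧ k * t = t * k ∧ m ∈ M ∧ m * t = t * m ∧ h = k * u * m := by
  have F' := F.toMFrame
  obtain ⟨m1, m2, m3, m4⟩ := mem_words F'
  have hb := mem_b F'
  have hbH := b_mem_H S F
  have hs3H := s3_mem_H S F
  obtain ⟨ks, hks⟩ : ∃ ks : Fin 4 → G, ks = ![1, s3 v3 a b, b * s3 v3 a b, b * b * s3 v3 a b] := ⟨_, rfl⟩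
  have hksM : ∀ p, ks p ∈ M := by
    intro p; rw [hks]; fin_cases p <;> simp [hb, m4, mul_mem, one_mem]
  have hksH : ∀ p, ks p ∈ H := by
    intro p; rw [hks]; fin_cases p <;> simp [hbH, hs3H, mul_mem, one_mem]
  have hksa : ∀ p, act F' ⟨ks p, hksM p⟩ = ksP p := by
    intro p
    fin_cases p
    · show act F' ⟨ks 0, hksM 0⟩ = ksP 0
      rw [show (⟨_, hksM 0⟩ : M) = 1 from Subtype.ext (by simp [hks]), map_one]; rfl
    · show act F' ⟨ks 1, hksM 1⟩ = ksP 1
      rw [show (⟨_, hksM 1⟩ : M) = ⟨_, m4⟩ from Subtype.ext (by simp [hks]), act_s3]; rfl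
    · show act F' ⟨ks 2, hksM 2⟩ = ksP 2
      rw [show (⟨_, hksM 2⟩ : M) = ⟨b, hb⟩ * ⟨_, m4⟩ from Subtype.ext (by simp [hks]), map_mul,
        act_b, act_s3]
      rfl
    · show act F' ⟨ks 3, hksM 3⟩ = ksP 3
      rw [show (⟨_, hksM 3⟩ : M) = ⟨b, hb⟩ * ⟨b, hb⟩ * ⟨_, m4⟩ from Subtype.ext (by simp [hks]),
        map_mul, map_mul, act_b, act_s3]
      rfl
  obtain ⟨K, hK⟩ : ∃ K : Subgroup H, K = M.subgroupOf H := ⟨_, rfl⟩
  have hcardK : Nat.card K = 1536 := by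
    rw [← card_cent_M F', hK]
    exact Nat.card_congr ⟨fun g => ⟨⟨((g : H) : G), mem_subgroupOf.1 g.2⟩, (mem_H S).1 (g : H).2⟩,
      fun g => ⟨⟨((g.1 : M) : G), (mem_H S).2 g.2⟩, mem_subgroupOf.2 (g.1 : M).2⟩,
      fun g => rfl, fun g => rfl⟩
  have hidx : K.index = 5 := by
    have h := K.card_mul_index
    rw [hcardK, card_H S F] at h
    omega
  let f : Option (Fin 4) → H ⧸ K := fun o => o.elim (QuotientGroup.mk 1)
    (fun p => QuotientGroup.mk (⟨ks p, hksH p⟩ * ⟨u, u_mem_H S F⟩))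
  have hinj : Function.Injective f := by
    intro o o' he
    rcases o with _ | p <;> rcases o' with _ | q
    · rfl
    · exfalso
      have h := QuotientGroup.eq.1 he
      rw [inv_one, one_mul, hK, mem_subgroupOf] at h
      refine F.not_mem ?_
      have := mul_mem (inv_mem (hksM q)) h
      simpa using this
    · exfalso
      have h := inv_mem (QuotientGroup.eq.1 he)
      rw [mul_one, inv_inv, hK, mem_subgroupOf] at h
      refine F.not_mem ?_
      have := mul_mem (inv_mem (hksM p)) h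
      simpa using this
    · have h := QuotientGroup.eq.1 he
      rw [hK, mem_subgroupOf] at h
      by_contra hne
      obtain ⟨j, hj⟩ : ∃ j, j = (ks p)⁻¹ * ks q := ⟨_, rfl⟩
      have hjM : j ∈ M := hj ▸ mul_mem (inv_mem (hksM p)) (hksM q)
      have hm : u⁻¹ * j * u ∈ M := by
        rw [hj]
        simpa [mul_assoc] using h
      have key : ∀ {v w : G}, v ∈ V → u * v * u⁻¹ = w → ∀ {σ : Equiv.Perm Vec} (hw : w ∈ M),
          act F' ⟨w, hw⟩ = σ → ∃ e, encV e = (ksP p)⁻¹ * ksP q * σ * ((ksP p)⁻¹ * ksP q)⁻¹ := by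
        intro v w hv hvw σ hw hσ
        have hy := norm_V S F hm hv
        obtain ⟨e, he, hae, -⟩ := conj_V S F hy
        refine ⟨e, hae.symm.trans ?_⟩
        rw [← hksa p, ← hksa q, ← hσ]
        simp only [← map_inv, ← map_mul]
        refine congrArg _ (Subtype.ext ?_)
        show u * (u⁻¹ * j * u * v * (u⁻¹ * j * u)⁻¹) * u⁻¹ = _
        simp only [Subgroup.coe_mul, Subgroup.coe_inv]
        rw [← hvw, hj]
        group
      rcases ks_sep p q (fun e => hne (by rw [e])) with hs | hs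
      · obtain ⟨e, he⟩ := key (q2_V S F) (σ := PA) (w := wA a b) (by
          calc u * (b * v3 ^ 2 * b⁻¹) * u⁻¹ = (u * b) * v3 ^ 2 * (u * b)⁻¹ := by group
            _ = b * (u * v3 ^ 2 * u⁻¹) * b⁻¹ := by rw [F.u_b]; group
            _ = wA a b := by rw [F.u_v3]; exact (HSUFrame28.wA_eq F.toRFrame).symm) m1 (act_wA F' _)
        exact hs e he
      · obtain ⟨e, he⟩ := key (q1_V S F) (σ := PB) F.u_v3 m2 (act_wB F' _)
        exact hs e he
  have hbij := hinj.bijective_of_nat_card_le (by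
    rw [← Subgroup.index_eq_card, hidx]; simp)
  obtain ⟨o, ho⟩ := hbij.2 (QuotientGroup.mk ⟨h, hh⟩)
  rcases o with _ | p
  · left
    have h' := QuotientGroup.eq.1 (ho : (QuotientGroup.mk (1 : H) : H ⧸ K) = _)
    rw [inv_one, one_mul, hK, mem_subgroupOf] at h'
    exact h'
  · right
    have h' := QuotientGroup.eq.1
      (ho : (QuotientGroup.mk (⟨ks p, hksH p⟩ * ⟨u, u_mem_H S F⟩ : H) : H ⧸ K) = _)
    rw [hK, mem_subgroupOf] at h'
    refine ⟨ks p, (ks p * u)⁻¹ * h, hksM p, (mem_H S).1 (hksH p), h', ?_, by group⟩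
    exact (mem_H S).1 (mul_mem (inv_mem (mul_mem (hksH p) (u_mem_H S F))) hh)

/-- The centralizer of `t` and `v3²` lies in `M`. -/
theorem cent_q1_le {g : G} (hgt : g * t = t * g) (hg : g * v3 ^ 2 = v3 ^ 2 * g) : g ∈ M := by
  rcases double_coset S F ((mem_H S).2 hgt) with h | ⟨k, m, hk, hkt, hm, -, rfl⟩
  · exact h
  exfalso
  have F' := F.toMFrame
  obtain ⟨e, he, hae, het⟩ := conj_V S F (norm_V S F hm (q1_V S F))
  have hconj : u * (m * v3 ^ 2 * m⁻¹) * u⁻¹ = k⁻¹ * v3 ^ 2 * k := by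
    calc u * (m * v3 ^ 2 * m⁻¹) * u⁻¹ = k⁻¹ * ((k * u * m) * v3 ^ 2) * (k * u * m)⁻¹ * k := by group
      _ = k⁻¹ * v3 ^ 2 * k := by rw [hg]; group
  have hV : k⁻¹ * v3 ^ 2 * k ∈ V := by
    have h := norm_V S F (inv_mem hk) (q1_V S F)
    rwa [inv_inv] at h
  obtain ⟨x, -, hxV⟩ := V_coords S F' hV
  have htr : act F' ⟨_, he⟩ = trans x := act_trans F' _ _ (hconj.trans hxV.symm)
  obtain ⟨h1, h2⟩ := uV_inter e x (hae.symm.trans htr)
  have h3 := het h1 h2
  rw [hconj] at h3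
  have h4 : v3 ^ 2 = t ^ e.1.val := by
    have hc : Commute k (t ^ e.1.val) := Commute.pow_right hkt _
    calc v3 ^ 2 = k * (k⁻¹ * v3 ^ 2 * k) * k⁻¹ := by group
      _ = t ^ e.1.val := by rw [h3, hc.eq, mul_inv_cancel_right]
  refine q1_not e.1 ?_
  rw [← HSCore28.act_t F.toRFrame (t_mem S F), ← HSCore28.act_q1 F.toRFrame (q1_mem S F), ← map_pow]
  exact congrArg _ (Subtype.ext h4.symm)

/-- The elementary subgroup of order sixteen is self-centralizing. -/
theorem cent_xel {g : G} (h1 : Commute g t) (h2 : Commute g (v3 ^ 2)) (h3 : Commute g (wB a b))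
    (h4 : Commute g (s0 a b)) : ∃ e : XI, g = xel t (v3 ^ 2) (wB a b) (s0 a b) e := by
  have F' := F.toMFrame
  have hg : g ∈ M := cent_q1_le S F h1.eq h2.eq
  obtain ⟨-, m2, m3, -⟩ := mem_words F'
  obtain ⟨x, i, hxi⟩ := exists_normal_form F' ⟨g, hg⟩
  have key : ∀ {y : G} (hy : y ∈ M) {σ : Equiv.Perm Vec}, Commute g y → act F' ⟨y, hy⟩ = σ →
      trans x * linW words[i.1] * σ = σ * (trans x * linW words[i.1]) := by
    intro y hy σ hc hσ
    rw [← hxi, ← hσ, ← map_mul, ← map_mul]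
    exact congrArg _ (Subtype.ext hc.eq)
  obtain ⟨e, he⟩ := cent_X i (word_fix F' _ x _ (key (t_mem S F) h1 (HSCore28.act_t F.toRFrame _)))
    (word_fix F' _ x _ (key (q1_mem S F) h2 (HSCore28.act_q1 F.toRFrame _))) x
    (key m2 h3 (act_wB F' _)) (key m3 h4 (act_s0 F' _))
  refine ⟨e, ?_⟩
  have h : (⟨g, hg⟩ : M) = xel ⟨t, t_mem S F⟩ ⟨_, q1_mem S F⟩ ⟨_, m2⟩ ⟨_, m3⟩ e := by
    refine act_injective F' ?_
    rw [hxi, ← he, xel_map, HSCore28.act_t F.toRFrame, HSCore28.act_q1 F.toRFrame, act_wB, act_s0]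
    rfl
  have h' := congrArg M.subtype h
  rwa [xel_map] at h'

theorem xel_sq (e : XI) : xel t (v3 ^ 2) (wB a b) (s0 a b) e * xel t (v3 ^ 2) (wB a b) (s0 a b) e = 1 := by
  have F' := F.toMFrame
  obtain ⟨-, m2, m3, -⟩ := mem_words F'
  have h : (xel ⟨t, t_mem S F⟩ ⟨_, q1_mem S F⟩ ⟨_, m2⟩ ⟨_, m3⟩ e : M) *
      xel ⟨t, t_mem S F⟩ ⟨_, q1_mem S F⟩ ⟨_, m2⟩ ⟨_, m3⟩ e = 1 := by
    refine act_injective F' ?_
    rw [map_mul, map_one, xel_map, HSCore28.act_t F.toRFrame, HSCore28.act_q1 F.toRFrame, act_wB,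
      act_s0]
    exact x_sq e
  have h' := congrArg M.subtype h
  rwa [map_mul, xel_map, map_one] at h'

/-- The actions of `a`, `c`, `u` on the generators. -/
theorem actions :
    (a * t * a⁻¹ = v3 ^ 2 ∧ a * v3 ^ 2 * a⁻¹ = t ∧ a * wB a b * a⁻¹ = s0 a b ∧
      a * s0 a b * a⁻¹ = wB a b) ∧
    (c * t * c⁻¹ = t ∧ c * v3 ^ 2 * c⁻¹ = v3 ^ 2 ∧ c * wB a b * c⁻¹ = wB a b ∧
      c * s0 a b * c⁻¹ = t * s0 a b) ∧
    (u * t * u⁻¹ = t ∧ u * v3 ^ 2 * u⁻¹ = wB a b ∧ u * wB a b * u⁻¹ = v3 ^ 2 ∧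
      u * s0 a b * u⁻¹ = s0 a b) := by
  have F' := F.toMFrame
  obtain ⟨-, m2, m3, -⟩ := mem_words F'
  have ha := mem_a F'
  have hc := HSCore28.c_mem F.toRFrame
  have A := HSCore28.act_t F.toRFrame (t_mem S F)
  have B := HSCore28.act_q1 F.toRFrame (q1_mem S F)
  have key : ∀ {g y z : G} (hg : g ∈ M) (hy : y ∈ M) (hz : z ∈ M),
      act F' ⟨g, hg⟩ * act F' ⟨y, hy⟩ * (act F' ⟨g, hg⟩)⁻¹ = act F' ⟨z, hz⟩ → g * y * g⁻¹ = z :=
    fun hg hy hz e => eq_of_act F' (g := ⟨_, hg⟩ * ⟨_, hy⟩ * (⟨_, hg⟩ : M)⁻¹) (h := ⟨_, hz⟩)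
      (by rw [map_mul, map_mul, map_inv]; exact e)
  obtain ⟨a1, a2, a3, a4⟩ := a_conj
  obtain ⟨c1, c2, c3, c4, c5⟩ := c_conj
  have hui := u_inv S F
  have hs02 : s0 a b * s0 a b = 1 := eq_of_act F' (g := ⟨_, m3⟩ * ⟨_, m3⟩) (h := 1)
    (by rw [map_mul, map_one, act_s0]; exact c5)
  refine ⟨⟨?_, ?_, ?_, ?_⟩, ⟨?_, ?_, ?_, ?_⟩, ⟨?_, F.u_v3, ?_, ?_⟩⟩
  · exact key ha (t_mem S F) (q1_mem S F) (by rw [act_a, A, B]; exact a1)
  · exact key ha (q1_mem S F) (t_mem S F) (by rw [act_a, A, B]; exact a2)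
  · exact key ha m2 m3 (by rw [act_a, act_wB, act_s0]; exact a3)
  · exact key ha m3 m2 (by rw [act_a, act_wB, act_s0]; exact a4)
  · exact key hc (t_mem S F) (t_mem S F) (by rw [act_c, A]; exact c1)
  · exact key hc (q1_mem S F) (q1_mem S F) (by rw [act_c, B]; exact c2)
  · exact key hc m2 m2 (by rw [act_c, act_wB]; exact c3)
  · refine key hc m3 (mul_mem (t_mem S F) m3) ?_
    rw [show (⟨_, mul_mem (t_mem S F) m3⟩ : M) = ⟨t, t_mem S F⟩ * ⟨_, m3⟩ from Subtype.ext rfl,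
      map_mul, act_c, act_s0, A]
    exact c4
  · rw [F.u_t, mul_inv_cancel_right]
  · rw [← F.u_v3, hui]
    calc u * (u * v3 ^ 2 * u) * u = (u * u) * v3 ^ 2 * (u * u) := by group
      _ = v3 ^ 2 := by rw [← sq, F.u_two, one_mul, mul_one]
  · have h := F.u_s0
    rw [sq, show s0 a b * u * (s0 a b * u) = s0 a b * (u * s0 a b * u) by group] at h
    rw [hui, ← inv_eq_of_mul_eq_one_right h, inv_eq_of_mul_eq_one_right hs02]

/-- The two extra relations. -/
theorem extra_rels : (a * u) ^ 8 = 1 ∧ (a * c * u) ^ 6 = 1 := by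
  obtain ⟨⟨a1, a2, a3, a4⟩, ⟨c1, c2, c3, c4⟩, ⟨u1, u2, u3, u4⟩⟩ := actions S F
  refine ⟨?_, ?_⟩
  · have y1 : a * u * t * (a * u)⁻¹ = v3 ^ 2 := conj_comp u1 a1
    have y2 : a * u * v3 ^ 2 * (a * u)⁻¹ = s0 a b := conj_comp u2 a3
    have y3 : a * u * s0 a b * (a * u)⁻¹ = wB a b := conj_comp u4 a4
    have y4 : a * u * wB a b * (a * u)⁻¹ = t := conj_comp u3 a2
    generalize hy : a * u = y at y1 y2 y3 y4 ⊢
    have k1 : Commute (y ^ 4) t := by
      have h : y ^ 4 * t * (y ^ 4)⁻¹ = t := by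
        calc y ^ 4 * t * (y ^ 4)⁻¹ = y * (y * (y * (y * t * y⁻¹) * y⁻¹) * y⁻¹) * y⁻¹ := by
              simp only [pow_succ, pow_zero, one_mul, mul_inv_rev, mul_assoc]
          _ = t := by rw [y1, y2, y3, y4]
      exact mul_inv_eq_iff_eq_mul.1 h
    have hc : Commute (y ^ 4) y := Commute.pow_self y 4
    have k2 := conj_cycle y1 k1 hc
    have k3 := conj_cycle y2 k2 hc
    have k4 := conj_cycle y3 k3 hc
    obtain ⟨e, he⟩ := cent_xel S F k1 k2 k4 k3
    rw [show y ^ 8 = y ^ 4 * y ^ 4 by group, he]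
    exact xel_sq S F e
  · have z1 : a * c * u * t * (a * c * u)⁻¹ = v3 ^ 2 := conj_comp u1 (conj_comp c1 a1)
    have z2 : a * c * u * v3 ^ 2 * (a * c * u)⁻¹ = s0 a b := conj_comp u2 (conj_comp c3 a3)
    have z3 : a * c * u * wB a b * (a * c * u)⁻¹ = t := conj_comp u3 (conj_comp c2 a2)
    have z4 : a * c * u * s0 a b * (a * c * u)⁻¹ = v3 ^ 2 * wB a b := by
      refine conj_comp u4 (conj_comp c4 ?_)
      rw [← conj_mul, a1, a4]
    generalize hz : a * c * u = z at z1 z2 z3 z4 ⊢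
    have F' := F.toMFrame
    obtain ⟨-, m2, m3, -⟩ := mem_words F'
    have z5 : z * (v3 ^ 2 * wB a b) * z⁻¹ = s0 a b * t := by rw [← conj_mul, z2, z3]
    have z6 : z * (s0 a b * t) * z⁻¹ = wB a b := by
      rw [← conj_mul, z4, z1]
      have h : (⟨_, q1_mem S F⟩ : M) * ⟨_, m2⟩ * ⟨_, q1_mem S F⟩ = ⟨_, m2⟩ := by
        refine act_injective F' ?_
        rw [map_mul, map_mul, HSCore28.act_q1 F.toRFrame, act_wB]
        decide +kernel
      exact congrArg Subtype.val h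
    have k1 : Commute (z ^ 6) t := by
      have h : z ^ 6 * t * (z ^ 6)⁻¹ = t := by
        calc z ^ 6 * t * (z ^ 6)⁻¹ =
            z * (z * (z * (z * (z * (z * t * z⁻¹) * z⁻¹) * z⁻¹) * z⁻¹) * z⁻¹) * z⁻¹ := by
              simp only [pow_succ, pow_zero, one_mul, mul_inv_rev, mul_assoc]
          _ = t := by rw [z1, z2, z4, z5, z6, z3]
      exact mul_inv_eq_iff_eq_mul.1 h
    have hc : Commute (z ^ 6) z := Commute.pow_self z 6
    have k2 := conj_cycle z1 k1 hc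
    have k3 := conj_cycle z2 k2 hc
    have k4 := conj_cycle z6 (conj_cycle z5 (conj_cycle z4 k3 hc) hc) hc
    obtain ⟨e, he⟩ := cent_xel S F k1 k2 k4 k3
    have hfix : z * xel t (v3 ^ 2) (wB a b) (s0 a b) e * z⁻¹ = xel t (v3 ^ 2) (wB a b) (s0 a b) e := by
      rw [← he, hc.symm.eq, mul_inv_cancel_right]
    rw [xel_conj, z1, z2, z3, z4] at hfix
    have hM : (xel ⟨_, q1_mem S F⟩ ⟨_, m3⟩ ⟨t, t_mem S F⟩ (⟨_, q1_mem S F⟩ * ⟨_, m2⟩) e : M) =
        xel ⟨t, t_mem S F⟩ ⟨_, q1_mem S F⟩ ⟨_, m2⟩ ⟨_, m3⟩ e := by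
      apply M.subtype_injective
      rw [xel_map, xel_map]
      exact hfix
    have h := congrArg (act F') hM
    rw [xel_map, xel_map, map_mul, HSCore28.act_t F.toRFrame, HSCore28.act_q1 F.toRFrame, act_wB,
      act_s0] at h
    have h1 : (xel ⟨t, t_mem S F⟩ ⟨_, q1_mem S F⟩ ⟨_, m2⟩ ⟨_, m3⟩ e : M) = 1 := by
      refine act_injective F' ?_
      rw [map_one, xel_map, HSCore28.act_t F.toRFrame, HSCore28.act_q1 F.toRFrame, act_wB, act_s0]
      exact z_fixed e h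
    have h2 := congrArg M.subtype h1
    rw [xel_map, map_one] at h2
    rw [he]
    exact h2

/-- The centralizer of `t` lies in the subgroup generated by the frame. -/
theorem cent_le : centralizer ({t} : Set G) ≤ closure ({c, v2, v3, a, b, u} : Set G) := by
  intro h hh
  rw [← S.hH] at hh
  have hM : M ≤ closure ({c, v2, v3, a, b, u} : Set G) := by
    rw [F.gen]
    exact closure_mono (by intro x hx; simp only [Set.mem_insert_iff, Set.mem_singleton_iff] at hx ⊢; tauto)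
  rcases double_coset S F hh with h1 | ⟨k, m, hk, -, hm, -, rfl⟩
  · exact hM h1
  · exact mul_mem (mul_mem (hM hk) (subset_closure (by simp))) (hM hm)

theorem card_cent : Nat.card (centralizer ({t} : Set G)) = 7680 := by
  rw [← S.hH]
  exact card_H S F

end Frame

end Cfsg.Agent.HSRecog27Extra
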