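import Cfsg.Agent.Lib.HSModel28
import Cfsg.Agent.Lib.HallCore

/-!
For S3346: the centralizer of `t` has an involution outside `M` centralizing `b` and inverting `c`.
-/

set_option autoImplicit false
set_option maxRecDepth 100000
set_option synthInstance.maxSize 4000
set_option synthInstance.maxHeartbeats 200000
set_option linter.style.haveILetI false

namespace Cfsg.Agent.HSRecog27UBase

open Subgroup
open Cfsg.Agent.HSModel28 (Vec trans linA linB linW words act eq_of_act)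
open Cfsg.Agent.HSFrame28 (wA wB s0)

/-- the five generators of the two-core on the sixty-four points -/
def genP : Fin 5 → Equiv.Perm Vec :=
  ![trans (1, 0, 0), trans (0, 2, 0), trans (0, 0, 2), wA linA linB, wB linA linB]

/-- the sixty-four elements of the two-core -/
def Rp (i : Fin 64) : Equiv.Perm Vec :=
  genP 0 ^ (i.val % 4) * genP 1 ^ (i.val / 4 % 2) * genP 2 ^ (i.val / 8 % 2) *
    genP 3 ^ (i.val / 16 % 2) * genP 4 ^ (i.val / 32)

theorem Rp_closed : ∀ (j : Fin 5) (i : Fin 64),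
    (∃ k, genP j * Rp i = Rp k) ∧ ∃ k, (genP j)⁻¹ * Rp i = Rp k := by
  decide +kernel

theorem Rp_inj : ∀ i k : Fin 64, Rp i = Rp k → i = k := by decide +kernel

theorem Rp_zero : Rp 0 = 1 := by decide +kernel

theorem Rp_center : ∀ i : Fin 64, (∀ j : Fin 5, genP j * Rp i = Rp i * genP j) →
    Rp i * Rp i = genP 0 * genP 0 → Rp i = genP 0 ∨ Rp i = (genP 0)⁻¹ := by decide +kernel

theorem count_not_dvd :
    ¬ 3 ∣ Fintype.card {i : Fin 64 // s0 linA linB * Rp i * (s0 linA linB * Rp i) = 1} := by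
  decide +kernel

theorem s0_facts : s0 linA linB * s0 linA linB = 1 ∧
    s0 linA linB * genP 0 * (s0 linA linB)⁻¹ = (genP 0)⁻¹ := by decide +kernel

theorem linB_ne : linB ≠ 1 := by decide +kernel

theorem words_comm : ∀ i : Fin words.length, linW words[i.1] * linB = linB * linW words[i.1] →
    linW words[i.1] * trans (1, 0, 0) = trans (1, 0, 0) * linW words[i.1] := by decide +kernel

theorem perm_five_swap : ∀ s : Equiv.Perm (Fin 5), s ^ 3 = 1 → s ≠ 1 →
    ∃ x : Equiv.Perm (Fin 5), Equiv.Perm.sign x = -1 ∧ x * x = 1 ∧ x * s = s * x := by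
  decide +kernel

theorem perm_five_conj : ∀ x : Equiv.Perm (Fin 5), Equiv.Perm.sign x = -1 → x * x = 1 →
    ∃ g : Equiv.Perm (Fin 5), g * x * g⁻¹ = Equiv.swap 0 1 := by
  decide +kernel

theorem range_eq : ∀ p ∈ closure (Set.range genP), ∃ i, Rp i = p := by
  intro p hp
  induction hp using closure_induction_left with
  | one => exact ⟨0, Rp_zero⟩
  | mul_left y hy z _ ih =>
    obtain ⟨j, rfl⟩ := hy
    obtain ⟨i, rfl⟩ := ih
    obtain ⟨k, hk⟩ := (Rp_closed j i).1
    exact ⟨k, hk.symm⟩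
  | inv_mul_cancel y hy z _ ih =>
    obtain ⟨j, rfl⟩ := hy
    obtain ⟨i, rfl⟩ := ih
    obtain ⟨k, hk⟩ := (Rp_closed j i).2
    exact ⟨k, hk.symm⟩

theorem Rp_mem (i : Fin 64) : Rp i ∈ closure (Set.range genP) := by
  have h : ∀ j, genP j ∈ closure (Set.range genP) := fun j => subset_closure ⟨j, rfl⟩
  exact mul_mem (mul_mem (mul_mem (mul_mem (pow_mem (h 0) _) (pow_mem (h 1) _)) (pow_mem (h 2) _))
    (pow_mem (h 3) _)) (pow_mem (h 4) _)

variable {G : Type*} [Group G] {t : G} {M R Cy : Subgroup G} {c v2 v3 a b : G}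

section Frame

variable (F : HSFrame28.MFrame t M c v2 v3 a b)
include F

theorem mem_cvv : c ∈ M ∧ v2 ∈ M ∧ v3 ∈ M := by
  obtain ⟨e1, e2, e3⟩ := HSModel28.W_single F
  refine ⟨?_, ?_, ?_⟩
  · simpa only [e1] using HSModel28.W_mem F (1, 0, 0)
  · simpa only [e2] using HSModel28.W_mem F (0, 1, 0)
  · simpa only [e3] using HSModel28.W_mem F (0, 0, 1)

/-- an element of the complement commuting with `b` centralizes `c` -/
theorem compl_comm {l : G} (hl : l ∈ closure ({a, b} : Set G)) (hlb : l * b = b * l) : l * c = c * l := by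
  obtain ⟨incl, hincl⟩ : ∃ incl : (closure ({a, b} : Set G) : Subgroup G) →* M,
      incl = Subgroup.inclusion (HSModel28.compl_le F) := ⟨_, rfl⟩
  haveI : Finite (closure ({a, b} : Set G) : Subgroup G) :=
    Nat.finite_of_card_ne_zero (by rw [F.card_compl]; decide)
  have hreach : ∀ w : List Bool, ∃ l, act F (incl l) = linW w := by
    intro w
    induction w with
    | nil => exact ⟨1, by simp [linW]⟩
    | cons e w ih =>
      obtain ⟨l, hl⟩ := ih
      cases e
      · refine ⟨⟨b, subset_closure (by simp)⟩ * l, ?_⟩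
        rw [map_mul, map_mul, hl, hincl]
        exact congrArg (· * linW w) (HSModel28.act_b F _)
      · refine ⟨⟨a, subset_closure (by simp)⟩ * l, ?_⟩
        rw [map_mul, map_mul, hl, hincl]
        exact congrArg (· * linW w) (HSModel28.act_a F _)
  choose pick hpick using hreach
  have hf : Function.Injective fun i : Fin words.length => pick words[i.1] := by
    intro i k h
    have e : linW words[i.1] = linW words[k.1] := by rw [← hpick, ← hpick]; exact congrArg _ (congrArg incl h)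
    have hn := HSModel28.words_nodup
    rw [List.nodup_iff_injective_getElem] at hn
    have := @hn ⟨i.1, by simp⟩ ⟨k.1, by simp⟩ (by simp only [List.getElem_map]; rw [e])
    exact Fin.ext (congrArg Fin.val this)
  obtain ⟨i, hi⟩ := (hf.bijective_of_nat_card_le (by
    rw [F.card_compl, Nat.card_fin, HSModel28.words_length])).2 ⟨l, hl⟩
  simp only at hi
  have hw : act F (incl ⟨l, hl⟩) = linW words[i.1] := by rw [← hi, hpick]
  have hb := HSModel28.mem_b F
  have hc := (mem_cvv F).1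
  have hbl : incl ⟨l, hl⟩ * ⟨b, hb⟩ = ⟨b, hb⟩ * incl ⟨l, hl⟩ := by
    rw [hincl]; exact Subtype.ext hlb
  have h1 : linW words[i.1] * linB = linB * linW words[i.1] := by
    rw [← hw, ← HSModel28.act_b F hb, ← map_mul, ← map_mul, hbl]
  have h2 := eq_of_act F (g := incl ⟨l, hl⟩ * ⟨c, hc⟩) (h := ⟨c, hc⟩ * incl ⟨l, hl⟩)
    (by rw [map_mul, map_mul, hw, HSModel28.act_c F]; exact words_comm i h1)
  rw [hincl] at h2
  exact h2

theorem not_mem_M {u : G} (hb : u * b = b * u) (hc : u * c * u⁻¹ = c⁻¹) : u ∉ M := by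
  intro hu
  obtain ⟨x, l, hl, rfl⟩ := HSModel28.decomp F hu
  have hbm : b ∈ closure ({a, b} : Set G) := subset_closure (by simp)
  have he : HSModel28.vA c v2 v3 x * (l * b) = HSModel28.vA c v2 v3 (linB x) * (b * l) := by
    rw [← mul_assoc, hb, ← mul_assoc b, HSModel28.conj_b F, mul_assoc]
  have hlb := (HSModel28.decomp_unique F (mul_mem hl hbm) (mul_mem hbm hl) he).2
  have hlc := compl_comm F hl hlb
  have hxc : HSModel28.vA c v2 v3 x * c = c * HSModel28.vA c v2 v3 x := by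
    conv_lhs => rw [← (HSModel28.W_single F).1]
    conv_rhs => rw [← (HSModel28.W_single F).1]
    simp only [(HSModel28.W_single F).1]
    have h : HSModel28.vA c v2 v3 x * HSModel28.vA c v2 v3 (1, 0, 0) =
        HSModel28.vA c v2 v3 (1, 0, 0) * HSModel28.vA c v2 v3 x := by
      rw [← HSModel28.W_add F, ← HSModel28.W_add F, add_comm]
    rwa [(HSModel28.W_single F).1] at h
  rw [mul_assoc _ l c, hlc, ← mul_assoc _ c l, hxc, mul_assoc c, mul_inv_cancel_right] at hc
  have h2 : c * c = 1 := mul_eq_one_iff_eq_inv.2 hc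
  have h := HSModel28.W_inj F (show HSModel28.vA c v2 v3 (2, 0, 0) = HSModel28.vA c v2 v3 0 by
    rw [show ((2, 0, 0) : Vec) = (1, 0, 0) + (1, 0, 0) from rfl, HSModel28.W_add F,
      (HSModel28.W_single F).1, h2, HSModel28.W_zero F])
  exact absurd h (by decide)

/-- the five generators inside `M` -/
def genM : Fin 5 → M :=
  ![⟨c, (mem_cvv F).1⟩, ⟨v2 ^ 2, pow_mem (mem_cvv F).2.1 2⟩, ⟨v3 ^ 2, pow_mem (mem_cvv F).2.2 2⟩,
    ⟨wA a b, (HSModel28.mem_words F).1⟩, ⟨wB a b, (HSModel28.mem_words F).2.1⟩]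

theorem act_genM : ∀ j, act F (genM F j) = genP j := by
  intro j
  fin_cases j
  · exact HSModel28.act_c F (mem_cvv F).1
  · show act F (⟨v2, (mem_cvv F).2.1⟩ ^ 2) = trans (0, 2, 0)
    rw [map_pow, HSModel28.act_v2 F]
    decide +kernel
  · show act F (⟨v3, (mem_cvv F).2.2⟩ ^ 2) = trans (0, 0, 2)
    rw [map_pow, HSModel28.act_v3 F]
    decide +kernel
  · exact HSModel28.act_wA F (HSModel28.mem_words F).1
  · exact HSModel28.act_wB F (HSModel28.mem_words F).2.1

end Frame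

theorem two_core_map (F : HSFrame28.RFrame t M R Cy c v2 v3 a b) :
    R = (closure (Set.range (genM F.toMFrame))).map M.subtype := by
  refine F.two_core.trans ?_
  rw [MonoidHom.map_closure, ← Set.range_comp]
  congr 1
  ext x
  simp [Fin.exists_fin_succ, genM, eq_comm]

theorem mem_R_iff (F : HSFrame28.RFrame t M R Cy c v2 v3 a b) (g : M) :
    (g : G) ∈ R ↔ ∃ i, act F.toMFrame g = Rp i := by
  have hmap : (closure (Set.range (genM F.toMFrame))).map (act F.toMFrame) = closure (Set.range genP) := by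
    rw [MonoidHom.map_closure, ← Set.range_comp]
    congr 2
    exact funext (act_genM F.toMFrame)
  rw [SetLike.ext_iff.1 (two_core_map F) (g : G)]
  constructor
  · rintro ⟨g', hg', he⟩
    obtain rfl : g' = g := Subtype.ext he
    obtain ⟨i, hi⟩ := range_eq _ (hmap ▸ mem_map_of_mem (act F.toMFrame) hg')
    exact ⟨i, hi.symm⟩
  · rintro ⟨i, hi⟩
    have h : act F.toMFrame g ∈ (closure (Set.range (genM F.toMFrame))).map (act F.toMFrame) := by
      rw [hmap, hi]; exact Rp_mem i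
    obtain ⟨g', hg', he⟩ := h
    exact ⟨g', hg', congrArg Subtype.val (HSModel28.act_injective F.toMFrame he)⟩

theorem R_le_M (F : HSFrame28.RFrame t M R Cy c v2 v3 a b) : R ≤ M := by
  rw [two_core_map F]
  exact map_subtype_le _

theorem exists_uBase [Finite G] {H E V : Subgroup G} (S : HSFrame28.Setting t H R Cy E V M)
    (F : HSFrame28.RFrame t M R Cy c v2 v3 a b) : ∃ u, HSFrame28.UBase t M c b u := by
  haveI : Fact (Nat.Prime 2) := ⟨Nat.prime_two⟩
  haveI : Fact (Nat.Prime 3) := ⟨Nat.prime_three⟩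
  have F' := F.toMFrame
  obtain ⟨e⟩ := S.hH5
  obtain ⟨π, hπdef⟩ : ∃ π : H →* Equiv.Perm (Fin 5),
      π = e.toMonoidHom.comp (QuotientGroup.mk' (Cfsg.pCore 2 H)) := ⟨_, rfl⟩
  have hπs : Function.Surjective π := by
    rw [hπdef]; exact e.surjective.comp (QuotientGroup.mk'_surjective _)
  have hker : ∀ h : H, π h = 1 ↔ (h : G) ∈ R := by
    intro h
    rw [hπdef, MonoidHom.comp_apply, MulEquiv.coe_toMonoidHom, MulEquiv.map_eq_one_iff,
      QuotientGroup.mk'_apply, QuotientGroup.eq_one_iff, S.hR]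
    exact ⟨fun hh => mem_map_of_mem _ hh, fun ⟨h', hh', he⟩ => Subtype.ext he ▸ hh'⟩
  have hmemH : ∀ g : G, g ∈ H ↔ g * t = t * g := fun g => by
    rw [S.hH, mem_centralizer_singleton_iff]
  have hcR : c ∈ R := by rw [F.two_core]; exact subset_closure (by simp)
  have hcC : c ∈ centralizer (R : Set G) :=
    (S.hCyle (by rw [F.cy]; exact mem_zpowers c)).2
  have hRM := R_le_M F
  have hRH : R ≤ H := by rw [S.hR]; exact map_subtype_le _
  have hc_ne : c⁻¹ ≠ c := by
    intro he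
    have h2 : c * c = 1 := mul_eq_one_iff_eq_inv.2 he.symm
    have h := HSModel28.W_inj F' (show HSModel28.vA c v2 v3 (2, 0, 0) = HSModel28.vA c v2 v3 0 by
      rw [show ((2, 0, 0) : Vec) = (1, 0, 0) + (1, 0, 0) from rfl, HSModel28.W_add F',
        (HSModel28.W_single F').1, h2, HSModel28.W_zero F'])
    exact absurd h (by decide)
  -- the centralizer of `t` fixes or inverts `c`
  have hconj : ∀ h ∈ H, h * c * h⁻¹ = c ∨ h * c * h⁻¹ = c⁻¹ := by
    intro h hh
    have hconjR : ∀ y ∈ R, ∀ k ∈ H, k * y * k⁻¹ ∈ R := by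
      intro y hy k hk
      have h1 : π (⟨k, hk⟩ * ⟨y, hRH hy⟩ * ⟨k, hk⟩⁻¹) = 1 := by
        rw [map_mul, map_mul, map_inv, (hker ⟨y, hRH hy⟩).2 hy, mul_one, mul_inv_cancel]
      exact (hker _).1 h1
    have hdR : h * c * h⁻¹ ∈ R := hconjR c hcR h hh
    have hcen : ∀ y ∈ R, y * (h * c * h⁻¹) = h * c * h⁻¹ * y := by
      intro y hy
      have h1 := hconjR y hy h⁻¹ (inv_mem hh)
      rw [inv_inv] at h1
      calc y * (h * c * h⁻¹) = h * ((h⁻¹ * y * h) * c) * h⁻¹ := by group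
        _ = h * (c * (h⁻¹ * y * h)) * h⁻¹ := by rw [mem_centralizer_iff.1 hcC _ h1]
        _ = h * c * h⁻¹ * y := by group
    obtain ⟨i, hi⟩ := (mem_R_iff F ⟨_, hRM hdR⟩).1 hdR
    have hsq : (h * c * h⁻¹) * (h * c * h⁻¹) = c * c := by
      rw [show h * c * h⁻¹ * (h * c * h⁻¹) = h * (c * c) * h⁻¹ by group, ← pow_two, F.c_sq,
        (hmemH h).1 hh, mul_inv_cancel_right]
    have hcomm : ∀ j : Fin 5, genP j * Rp i = Rp i * genP j := by
      intro j
      rw [← act_genM F.toMFrame j, ← hi, ← map_mul, ← map_mul]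
      refine congrArg _ (Subtype.ext (hcen _ ?_))
      exact (SetLike.ext_iff.1 (two_core_map F) _).2 (mem_map_of_mem _ (subset_closure ⟨j, rfl⟩))
    have hc0 : act F.toMFrame ⟨c, hRM hcR⟩ = genP 0 := HSModel28.act_c F.toMFrame (hRM hcR)
    have hs : Rp i * Rp i = genP 0 * genP 0 := by
      rw [← hi, ← hc0, ← map_mul, ← map_mul]
      exact congrArg _ (Subtype.ext hsq)
    rcases Rp_center i hcomm hs with h1 | h1
    · exact Or.inl (eq_of_act F.toMFrame (hi.trans (h1.trans hc0.symm)))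
    · refine Or.inr (eq_of_act F.toMFrame (g := ⟨_, hRM hdR⟩) (h := ⟨c, hRM hcR⟩⁻¹) ?_)
      rw [map_inv, hc0, hi, h1]
  -- the sign
  obtain ⟨χ, hχ⟩ : ∃ χ : H →* ℤˣ, ∀ h : H, χ h = 1 ↔ (h : G) * c * (h : G)⁻¹ = c := by
    classical
    let f : H → ℤˣ := fun h => if (h : G) * c * (h : G)⁻¹ = c then 1 else -1
    refine ⟨MonoidHom.mk' f fun x y => ?_, fun h => ?_⟩
    · have key : (↑(x * y) : G) * c * (↑(x * y) : G)⁻¹ = (x : G) * ((y : G) * c * (y : G)⁻¹) * (x : G)⁻¹ := by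
        rw [Subgroup.coe_mul]; group
      have kinv : (x : G) * c⁻¹ * (x : G)⁻¹ = ((x : G) * c * (x : G)⁻¹)⁻¹ := by group
      rcases hconj x x.2 with hx | hx <;> rcases hconj y y.2 with hy | hy <;>
        simp only [f, key, hx, hy, kinv, inv_inv, hc_ne, if_true, if_false] <;> decide
    · show f h = 1 ↔ _
      by_cases hh : (h : G) * c * (h : G)⁻¹ = c <;> simp [f, hh]
  have hs0M := (HSModel28.mem_words F').2.2.1
  have hs0c : s0 a b * c * (s0 a b)⁻¹ = c⁻¹ :=
    eq_of_act F.toMFrame (g := ⟨s0 a b, hs0M⟩ * ⟨c, hRM hcR⟩ * ⟨s0 a b, hs0M⟩⁻¹)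
      (h := ⟨c, hRM hcR⟩⁻¹) (by
        rw [map_mul, map_mul, map_inv, map_inv, HSModel28.act_s0 F.toMFrame hs0M,
          HSModel28.act_c F.toMFrame]
        exact s0_facts.2)
  have hs02 : s0 a b * s0 a b = 1 :=
    eq_of_act F.toMFrame (g := ⟨s0 a b, hs0M⟩ * ⟨s0 a b, hs0M⟩) (h := 1)
      (by rw [map_mul, map_one, HSModel28.act_s0 F.toMFrame hs0M]; exact s0_facts.1)
  have hs0H : s0 a b ∈ H := by
    rw [hmemH]
    have h : s0 a b * t * (s0 a b)⁻¹ = t := by
      calc s0 a b * t * (s0 a b)⁻¹ = (s0 a b * c * (s0 a b)⁻¹) * (s0 a b * c * (s0 a b)⁻¹) := by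
            rw [← F.c_sq, pow_two]; group
        _ = (c ^ 4)⁻¹ * c ^ 2 := by rw [hs0c]; group
        _ = t := by rw [F.c_four, inv_one, one_mul, F.c_sq]
    exact mul_inv_eq_iff_eq_mul.1 h
  have hsign : ∀ h : H, Equiv.Perm.sign (π h) = χ h := by
    have hle : π.ker ≤ χ.ker := fun h hh => by
      rw [MonoidHom.mem_ker] at hh ⊢
      rw [hχ]
      exact mul_inv_eq_iff_eq_mul.2 (mem_centralizer_iff.1 hcC _ ((hker h).1 hh))
    obtain ⟨ψ, hψ⟩ : ∃ ψ : Equiv.Perm (Fin 5) →* ℤˣ, ∀ h, ψ (π h) = χ h :=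
      ⟨π.liftOfSurjective hπs ⟨χ, hle⟩, fun h => π.liftOfRightInverse_comp_apply _ _ _ _⟩
    have hψs : Function.Surjective ψ := by
      intro z
      rcases Int.units_eq_one_or z with rfl | rfl
      · exact ⟨1, map_one ψ⟩
      · refine ⟨π ⟨s0 a b, hs0H⟩, ?_⟩
        rw [hψ]
        refine (Int.units_eq_one_or _).resolve_left fun h1 => hc_ne ?_
        have := (hχ _).1 h1
        exact hs0c ▸ this
    have := Equiv.Perm.eq_sign_of_surjective_hom hψs
    intro h
    rw [← hψ, this]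
  have hinv : ∀ h : H, Equiv.Perm.sign (π h) = -1 → (h : G) * c * (h : G)⁻¹ = c⁻¹ := by
    intro h hh
    refine (hconj h h.2).resolve_left fun he => ?_
    rw [hsign, (hχ h).2 he] at hh
    exact absurd hh (by decide)
  -- the three-cycle
  have hbH : b ∈ H := by
    rw [hmemH, ← F.c_sq]
    have h : Commute b c := mul_inv_eq_iff_eq_mul.1 F.b_c
    exact (h.pow_right 2).eq
  have hb1 : b ≠ 1 := fun h => linB_ne (by
    rw [← HSModel28.act_b F.toMFrame (HSModel28.mem_b F'),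
      show (⟨b, HSModel28.mem_b F'⟩ : M) = 1 from Subtype.ext h, map_one])
  have hσ3 : π ⟨b, hbH⟩ ^ 3 = 1 := by
    rw [← map_pow, show (⟨b, hbH⟩ : H) ^ 3 = 1 from Subtype.ext F.b_three, map_one]
  have hσ1 : π ⟨b, hbH⟩ ≠ 1 := by
    intro h
    have hbR := (hker ⟨b, hbH⟩).1 h
    rw [S.hR] at hbR
    obtain ⟨x, hx, hxb⟩ := hbR
    obtain ⟨k, hk⟩ := (HallCore.isPGroup_pCore 2 H) ⟨x, hx⟩
    have hk' : b ^ 2 ^ k = 1 := by
      rw [← (show (x : G) = b from hxb)]
      exact congrArg (fun w : Cfsg.pCore 2 H => ((w : H) : G)) hk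
    refine hb1 (orderOf_eq_one_iff.1 (Nat.eq_one_of_dvd_coprimes
      (Nat.Coprime.pow_right k (by norm_num : Nat.Coprime 3 2))
      (orderOf_dvd_of_pow_eq_one F.b_three) (orderOf_dvd_of_pow_eq_one hk')))
  obtain ⟨τ, hτs, hτ2, hτσ⟩ := perm_five_swap _ hσ3 hσ1
  have hs0sign : Equiv.Perm.sign (π ⟨s0 a b, hs0H⟩) = -1 := by
    rw [hsign]
    refine (Int.units_eq_one_or _).resolve_left fun h1 => hc_ne ?_
    exact hs0c ▸ (hχ _).1 h1
  have hs0sq : π ⟨s0 a b, hs0H⟩ * π ⟨s0 a b, hs0H⟩ = 1 := by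
    rw [← map_mul, show (⟨s0 a b, hs0H⟩ * ⟨s0 a b, hs0H⟩ : H) = 1 from Subtype.ext hs02, map_one]
  obtain ⟨g1, hg1⟩ := perm_five_conj _ hs0sign hs0sq
  obtain ⟨g2, hg2⟩ := perm_five_conj τ hτs hτ2
  obtain ⟨g, hg⟩ := hπs (g2⁻¹ * g1)
  have hgτ : π g * π ⟨s0 a b, hs0H⟩ * (π g)⁻¹ = τ := by
    rw [hg, show g2⁻¹ * g1 * π ⟨s0 a b, hs0H⟩ * (g2⁻¹ * g1)⁻¹ =
      g2⁻¹ * (g1 * π ⟨s0 a b, hs0H⟩ * g1⁻¹) * g2 by group, hg1, ← hg2]
    group
  -- counting the involutions over the transposition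
  let X : Type _ := {x : H // π x = τ ∧ x * x = 1}
  have hcard : ¬ 3 ∣ Nat.card X := by
    let P := fun i : Fin 64 => s0 linA linB * Rp i * (s0 linA linB * Rp i) = 1
    have hex : ∀ i : Fin 64, ∃ r : M, act F.toMFrame r = Rp i ∧ (r : G) ∈ R := by
      intro i
      have h : Rp i ∈ (closure (Set.range (genM F.toMFrame))).map (act F.toMFrame) := by
        rw [MonoidHom.map_closure, ← Set.range_comp,
          show (act F.toMFrame) ∘ genM F.toMFrame = genP from funext (act_genM F.toMFrame)]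
        exact Rp_mem i
      obtain ⟨r, hr, he⟩ := h
      exact ⟨r, he, (SetLike.ext_iff.1 (two_core_map F) _).2 (mem_map_of_mem _ hr)⟩
    choose r hr hrR using hex
    let f : {i // P i} → X := fun i =>
      ⟨g * (⟨s0 a b, hs0H⟩ * ⟨(r i.1 : G), hRH (hrR i.1)⟩) * g⁻¹, by
        rw [map_mul, map_mul, map_mul, map_inv, (hker ⟨(r i.1 : G), hRH (hrR i.1)⟩).2 (hrR i.1),
          mul_one, hgτ], by
        have h2 : (⟨s0 a b, hs0M⟩ * r i.1) * (⟨s0 a b, hs0M⟩ * r i.1) = (1 : M) :=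
          HSModel28.act_injective F.toMFrame (by
            rw [map_mul, map_mul, map_one, HSModel28.act_s0 F.toMFrame hs0M, hr]; exact i.2)
        have h3 : (⟨s0 a b, hs0H⟩ * ⟨(r i.1 : G), hRH (hrR i.1)⟩) *
            (⟨s0 a b, hs0H⟩ * ⟨(r i.1 : G), hRH (hrR i.1)⟩) = (1 : H) :=
          Subtype.ext (congrArg Subtype.val h2 :)
        calc _ = g * ((⟨s0 a b, hs0H⟩ * ⟨(r i.1 : G), hRH (hrR i.1)⟩) *
              (⟨s0 a b, hs0H⟩ * ⟨(r i.1 : G), hRH (hrR i.1)⟩)) * g⁻¹ := by group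
          _ = 1 := by rw [h3, mul_one, mul_inv_cancel]⟩
    have hfi : Function.Injective f := by
      intro i k h
      have h1 := congrArg Subtype.val h
      simp only [f, mul_left_inj, mul_right_inj] at h1
      have h2 : r i.1 = r k.1 := Subtype.ext (congrArg Subtype.val h1 :)
      exact Subtype.ext (Rp_inj _ _ (by rw [← hr, ← hr, h2]))
    have hfs : Function.Surjective f := by
      rintro ⟨x, hxτ, hx2⟩
      obtain ⟨y, hy⟩ : ∃ y : H, y = (⟨s0 a b, hs0H⟩ : H)⁻¹ * (g⁻¹ * x * g) := ⟨_, rfl⟩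
      have hyR : (y : G) ∈ R := (hker y).1 (by
        rw [hy, map_mul, map_inv, map_mul, map_mul, map_inv, hxτ, ← hgτ]
        group)
      obtain ⟨i, hi⟩ := (mem_R_iff F ⟨(y : G), hRM hyR⟩).1 hyR
      have hri : r i = ⟨(y : G), hRM hyR⟩ := HSModel28.act_injective F.toMFrame ((hr i).trans hi.symm)
      have hsy : (⟨s0 a b, hs0H⟩ : H) * y = g⁻¹ * x * g := by rw [hy, mul_inv_cancel_left]
      have hP : P i := by
        show _ = (1 : Equiv.Perm Vec)
        rw [← hi, ← HSModel28.act_s0 F.toMFrame hs0M, ← map_mul, ← map_mul,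
          ← map_one (act F.toMFrame)]
        refine congrArg _ (Subtype.ext ?_)
        have h4 : ((⟨s0 a b, hs0H⟩ : H) * y) * (⟨s0 a b, hs0H⟩ * y) = 1 := by
          rw [hsy]
          calc g⁻¹ * x * g * (g⁻¹ * x * g) = g⁻¹ * (x * x) * g := by group
            _ = 1 := by rw [hx2, mul_one, inv_mul_cancel]
        exact (congrArg (fun w : H => (w : G)) h4 :)
      refine ⟨⟨i, hP⟩, Subtype.ext ?_⟩
      show g * (⟨s0 a b, hs0H⟩ * ⟨(r i : G), hRH (hrR i)⟩) * g⁻¹ = x
      rw [show (⟨(r i : G), hRH (hrR i)⟩ : H) = y from Subtype.ext ((congrArg (fun w : M => (w : G)) hri :)), hsy]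
      group
    rw [← Nat.card_congr (Equiv.ofBijective f ⟨hfi, hfs⟩), Nat.card_eq_fintype_card]
    exact count_not_dvd
  -- a fixed point of `b`
  let B : Subgroup H := zpowers ⟨b, hbH⟩
  have hB : IsPGroup 3 B := by
    have hord : orderOf (⟨b, hbH⟩ : H) = 3 :=
      orderOf_eq_prime (Subtype.ext F.b_three) (fun h => hb1 (congrArg Subtype.val h))
    exact IsPGroup.of_card (n := 1) (by rw [Nat.card_zpowers, hord, pow_one])
  have hBτ : ∀ k : B, π (k : H) * τ * (π (k : H))⁻¹ = τ := by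
    rintro ⟨_, i, rfl⟩
    have hc1 : Commute (π ⟨b, hbH⟩ ^ i) τ := (show Commute (π ⟨b, hbH⟩) τ from hτσ.symm).zpow_left i
    show π ((⟨b, hbH⟩ : H) ^ i) * τ * (π ((⟨b, hbH⟩ : H) ^ i))⁻¹ = τ
    rw [map_zpow, hc1.eq, mul_inv_cancel_right]
  letI : MulAction B X :=
    { smul := fun k x => ⟨(k : H) * x.1 * (k : H)⁻¹, by rw [map_mul, map_mul, map_inv, x.2.1, hBτ], by
        calc _ = (k : H) * (x.1 * x.1) * (k : H)⁻¹ := by group
          _ = 1 := by rw [x.2.2, mul_one, mul_inv_cancel]⟩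
      one_smul := fun x => Subtype.ext (by show (1 : H) * x.1 * (1 : H)⁻¹ = x.1; group)
      mul_smul := fun k l x => Subtype.ext (by
        show ((k * l : B) : H) * x.1 * ((k * l : B) : H)⁻¹ = (k : H) * ((l : H) * x.1 * (l : H)⁻¹) * (k : H)⁻¹
        rw [Subgroup.coe_mul]; group) }
  obtain ⟨x, hx⟩ := hB.nonempty_fixed_point_of_prime_not_dvd_card X hcard
  have hxb : (x.1 : G) * b = b * x.1 := by
    have h := congrArg (fun w : X => ((w.1 : H) : G))
      (MulAction.mem_fixedPoints.1 hx ⟨⟨b, hbH⟩, mem_zpowers _⟩)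
    change b * (x.1 : G) * b⁻¹ = (x.1 : G) at h
    exact (mul_inv_eq_iff_eq_mul.1 h).symm
  have hxc := hinv x.1 (by rw [x.2.1]; exact hτs)
  refine ⟨x.1, ⟨(hmemH _).1 x.1.2, not_mem_M F' hxb hxc, ?_, hxb, hxc⟩⟩
  rw [pow_two]
  exact congrArg Subtype.val x.2.2

end Cfsg.Agent.HSRecog27UBase
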