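import Cfsg.Agent.Lib.HSRecog28CertDefs

/-!
Kernel computations with the involutions of the Higman–Sims permutation group.
-/

set_option autoImplicit false
set_option maxRecDepth 100000

namespace Cfsg.Agent.HSRecog28Cert

open Cfsg.Agent.HSRecog28Code Cfsg.Agent.HSRecog28Data

theorem tL_ok : (decide tL.Nodup && tL.length == 64 && tL.contains tC && tL.contains uC &&
    tG.all fun g => comp g tC == comp tC g && comp g uC == comp uC g) = true := by decide +kernel

theorem tL_closed : (tL.all fun x => tG.all fun g =>
    let y := comp g x
    tL.contains y &&
      (bit maskA y == (bit maskA g == bit maskA x)) &&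
      (bit maskB y == (bit maskB g == bit maskB x))) = true := by decide +kernel

theorem tL_centre : (tL.all fun x => x == idc || x == tC || x == uC || x == comp tC uC ||
    tG.any fun g => comp g x != comp x g) = true := by decide +kernel

theorem pair_ok : (comp (tL.getD aPos idc) (tL.getD bPos idc) ==
    comp tC (comp (tL.getD bPos idc) (tL.getD aPos idc))) = true := by decide +kernel

theorem masks_ok : (bit maskA idc && bit maskB idc && bit maskA uC && !bit maskB uC &&
    tG.any (fun g => !bit maskA g) && tG.any (fun g => !bit maskB g)) = true := by decide +kernel

theorem tL_inv : (tL.all fun x => x == idc || comp x x != idc ||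
    (((bit maskA x && bit maskB x) || accU.contains x) &&
      (!bit maskA x || x == uC || accT.contains x || accT.contains (comp x uC)))) = true := by
  decide +kernel

end Cfsg.Agent.HSRecog28Cert
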