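import Cfsg.Agent.Lib.HSRecog28CertDefs

/-!
Kernel computations with the involutions of the Higman–Sims permutation group.
-/

set_option autoImplicit false
set_option maxRecDepth 100000

namespace Cfsg.Agent.HSRecog28Cert

open Cfsg.Agent.HSRecog28Code Cfsg.Agent.HSRecog28Data

theorem sL_inv : (sL.all fun x => x == idc || comp x x != idc ||
    accT.contains x || accU.contains x) = true := by decide +kernel

end Cfsg.Agent.HSRecog28Cert
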