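import Cfsg.Agent.Lib.HSRecog28CertA
import Cfsg.Agent.Lib.HSRecog28CertB
import Cfsg.Agent.Lib.HSRecog28CertC
import Cfsg.Agent.Lib.HSRecog28CertD

/-!
All kernel computations with the involutions of the Higman–Sims permutation group.
-/
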