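import Cfsg.Agent.Lib.HSRecog28CertDefs

/-!
Kernel computations with the involutions of the Higman–Sims permutation group.
-/

set_option autoImplicit false
set_option maxRecDepth 100000

namespace Cfsg.Agent.HSRecog28Cert

open Cfsg.Agent.HSRecog28Code Cfsg.Agent.HSRecog28Data

theorem cI_ok : ((List.range cG.length).all fun j =>
    comp (cG.getD j idc) (cI.getD j idc) == idc && comp (cG.getD j idc) tC == comp tC (cG.getD j idc)) =
    true := by
  decide +kernel

theorem t_ok : (tC != idc && comp tC tC == idc && uC != idc && comp uC uC == idc &&
    comp tC uC == comp uC tC) = true := by decide +kernel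

theorem roots_ok : ((List.range rT.length).all fun i =>
      let g := wc (rT.getD i [])
      comp g (pw g (rTN.getD i 0)) == idc) &&
    ((List.range rU.length).all fun i =>
      let g := wc (rU.getD i [])
      comp g (pw g (rUN.getD i 0)) == idc) = true := by
  decide +kernel

theorem uL_ok : (decide uL.Nodup && uL.length == 120) = true := by decide +kernel

theorem second_ok : (let b := accT.getD cPos idc
    let w := wc wW
    decide (cPos < accT.length) && comp b uC == comp uC b && comp w uC == comp uC w &&
      comp w b == comp b w && b != idc && w != idc && comp w (comp w w) == idc) = true := by decide +kernel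

theorem nine_ok : (let a := wc (nineW.getD 0 [])
    let b := wc (nineW.getD 1 [])
    comp a uC == comp uC a && comp b uC == comp uC b && comp a b == comp b a && a != idc &&
      b != idc && comp a (comp a a) == idc && comp b (comp b b) == idc && b != a &&
      b != comp a a) = true := by decide +kernel

end Cfsg.Agent.HSRecog28Cert
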