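import Mathlib

/-!
Data: words and scripts for the involutions of the Higman–Sims permutation group.
-/

set_option autoImplicit false

namespace Cfsg.Agent.HSRecog28Data

/-- word of the central involution -/
def tW : List (Fin 3) := [0, 0, 1, 1, 0, 0, 0, 2, 1, 0, 0, 1, 1, 0, 0, 0, 2, 1, 0, 0, 1, 1, 0, 0,
    0, 2, 1, 0, 0, 1, 1, 0, 0, 0, 2, 1, 0, 0, 1, 1, 0, 0, 0, 2, 1]

/-- generators of its centraliser -/
def cW : List (List (Fin 3)) := [[2, 0, 0, 1, 2, 0, 1, 1, 0, 1, 2, 1, 0],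
   [0, 0, 0, 0, 0, 0, 2, 1, 1, 1]]

/-- word of the second involution -/
def uW : List (Fin 3) := [0, 0, 0, 0, 0, 0, 2, 1, 1, 1, 2, 0, 0, 1, 2, 0, 1, 1, 0, 1, 2, 1, 0, 0,
    0, 0, 0, 0, 0, 2, 1, 1, 1, 2, 0, 0, 1, 2, 0, 1, 1, 0, 1, 2, 1, 0, 2, 0, 0, 1, 2, 0, 1, 1, 0, 1,
    2, 1, 0, 2, 0, 0, 1, 2, 0, 1, 1, 0, 1, 2, 1, 0]

/-- the orbit of the second involution under the centraliser -/
def uS : List (ℕ × ℕ) := [(0, 0), (1, 0), (0, 1), (1, 1), (0, 2), (1, 2), (1, 3), (0, 4), (1, 4),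
    (0, 5),
   (0, 6), (1, 6), (0, 7), (1, 7), (0, 8), (1, 8), (1, 9), (0, 10), (1, 10), (0, 11),
   (1, 11), (0, 12), (0, 13), (1, 13), (0, 15), (1, 15), (0, 16), (1, 16), (0, 17), (1, 17),
   (0, 18), (1, 18), (0, 19), (1, 19), (0, 20), (1, 20), (0, 21), (0, 22), (1, 22), (0, 23),
   (1, 23), (1, 24), (1, 25), (0, 26), (1, 26), (1, 27), (1, 28), (1, 29), (0, 30), (0, 31),
   (1, 31), (0, 32), (1, 32), (0, 33), (1, 34), (0, 35), (0, 36), (1, 36), (0, 37), (1, 37),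
   (0, 38), (1, 38), (0, 40), (0, 41), (1, 41), (1, 42), (0, 43), (1, 43), (0, 44), (1, 45),
   (0, 46), (0, 47), (1, 47), (0, 48), (0, 49), (1, 50), (0, 51), (1, 51), (1, 52), (1, 53),
   (0, 54), (1, 54), (1, 56), (1, 57), (1, 58), (1, 59), (0, 60), (1, 60), (1, 61), (0, 62),
   (1, 62), (1, 63), (0, 66), (0, 67), (1, 68), (0, 72), (0, 74), (1, 75), (1, 76), (1, 78),
   (0, 79), (0, 80), (0, 84), (1, 86), (0, 87), (1, 88), (0, 89), (1, 90), (0, 92), (1, 94),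
   (0, 96), (0, 98), (1, 98), (0, 100), (1, 101), (0, 103), (1, 105), (0, 109), (0, 111)]

/-- connectors of the roots, first class -/
def rT : List (List (Fin 3)) := [[],
   [0, 2, 0, 0, 0, 2, 0, 1, 1, 2, 1, 1, 2, 2, 2, 1, 1, 1, 2, 0, 2, 2],
   [0, 0, 0, 2, 2, 0, 0, 0, 2, 2, 2, 2, 2, 2, 1]]

/-- connectors of the roots, second class -/
def rU : List (List (Fin 3)) := [[],
   [1, 2, 0, 1]]

/-- script, first class -/
def sT : List (ℕ × ℕ) := [(0, 1), (1, 1), (0, 2), (1, 2), (0, 3), (1, 3), (0, 4), (1, 4), (0, 5),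
    (0, 6),
   (1, 6), (0, 7), (1, 7), (0, 8), (1, 8), (0, 9), (1, 9), (0, 10), (1, 10), (1, 11),
   (0, 12), (0, 13), (0, 14), (1, 14), (0, 15), (1, 15), (0, 16), (1, 16), (1, 17), (0, 18),
   (1, 18), (1, 19), (0, 20), (1, 20), (0, 21), (1, 21), (0, 22), (1, 22), (0, 23), (1, 23),
   (0, 24), (0, 25), (0, 26), (1, 26), (0, 27), (1, 27), (1, 28), (0, 29), (1, 29), (1, 30),
   (1, 31), (0, 32), (1, 32), (0, 33), (0, 35), (0, 36), (1, 37), (0, 38), (0, 39), (0, 41),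
   (1, 41), (0, 42), (1, 42), (0, 43), (1, 43), (1, 44), (0, 45), (1, 45), (0, 47), (0, 48),
   (1, 48), (0, 49), (1, 49), (1, 50), (0, 51), (1, 52), (0, 53), (0, 54), (1, 54), (0, 55),
   (1, 55), (0, 57), (1, 57), (1, 58), (0, 61), (1, 62), (0, 63), (1, 63), (1, 65), (1, 67),
   (1, 70), (0, 72), (0, 74), (0, 76), (0, 77), (1, 77), (0, 86), (0, 87), (0, 88), (1, 94),
   (0, 95), (0, 96), (0, 97), (0, 99), (1, 100), (0, 102), (0, 103), (1, 106)]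

/-- script, second class -/
def sU : List (ℕ × ℕ) := [(0, 0), (1, 0), (0, 1), (1, 1), (0, 2), (1, 2), (0, 3), (1, 3), (0, 4),
    (1, 4),
   (0, 5), (1, 5), (1, 6), (0, 7), (1, 7), (0, 8), (0, 9), (1, 9), (0, 10), (1, 10),
   (1, 11), (0, 12), (1, 12), (0, 13), (1, 13), (0, 14), (1, 14), (0, 15), (1, 15), (1, 16),
   (0, 17), (1, 17), (0, 18), (1, 18), (0, 19), (0, 20), (1, 20), (0, 21), (1, 21), (1, 22),
   (0, 23), (1, 23), (0, 24), (1, 24), (0, 25), (1, 25), (0, 26), (1, 26), (0, 27), (1, 27),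
   (0, 29), (1, 29), (0, 30), (1, 30), (0, 31), (1, 31), (0, 32), (1, 32), (0, 33), (1, 33),
   (0, 34), (1, 34), (0, 35), (0, 36), (1, 36), (0, 37), (0, 38), (0, 39), (1, 39), (0, 42),
   (1, 42), (0, 43), (1, 43), (0, 44), (1, 45), (0, 46), (1, 46), (0, 49), (0, 50), (1, 50),
   (1, 51), (1, 52), (0, 53), (1, 53), (1, 54), (1, 55), (1, 56), (0, 57), (0, 58), (1, 58),
   (0, 59), (1, 59), (0, 60), (1, 61), (0, 62), (0, 63), (1, 63), (0, 64), (1, 64), (0, 65),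
   (1, 65), (1, 67), (0, 68), (1, 68), (1, 69), (0, 70), (1, 71), (0, 72), (1, 72), (0, 73),
   (1, 74), (0, 76), (0, 77), (0, 78), (1, 78), (0, 79), (0, 80), (0, 81), (1, 81), (1, 82),
   (0, 83), (1, 83), (0, 84), (1, 85), (0, 86), (0, 87), (1, 87), (0, 88), (0, 89), (1, 90),
   (0, 91), (1, 91), (1, 92), (1, 93), (0, 94), (1, 94), (1, 96), (1, 97), (1, 98), (1, 99),
   (0, 100), (1, 100), (1, 101), (0, 102), (1, 102), (0, 103), (0, 105), (0, 106), (1, 107), (0,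
    108),
   (1, 108), (1, 110), (0, 111), (1, 111), (0, 112), (0, 113), (1, 113), (0, 114), (1, 114), (0,
    115),
   (0, 117), (1, 117), (1, 118), (0, 121), (0, 122), (1, 123), (0, 127), (0, 129), (1, 130), (1,
    131),
   (1, 133), (0, 134), (0, 135), (0, 139), (1, 141), (0, 142), (1, 143), (0, 144), (1, 145), (0,
    147),
   (0, 148), (1, 148), (0, 150), (0, 158), (1, 159), (0, 163), (1, 163), (0, 164), (1, 166), (0,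
    168),
   (0, 170), (1, 170), (0, 172), (1, 173), (0, 175), (1, 177), (0, 189), (0, 191)]

/-- generators of the common centraliser -/
def tgW : List (List (Fin 3)) := [[0, 0, 0, 0, 0, 0, 2, 1, 1, 1, 0, 0, 0, 0, 0, 0, 2, 1, 1, 1, 2,
    0, 0, 1, 2, 0, 1, 1, 0, 1, 2, 1, 0, 0, 0, 0, 0, 0, 0, 2, 1, 1, 1, 2, 0, 0, 1, 2, 0, 1, 1, 0, 1,
    2, 1, 0, 2, 0, 0, 1, 2, 0, 1, 1, 0, 1, 2, 1, 0, 0, 0, 0, 0, 0, 0, 2, 1, 1, 1, 2, 0, 0, 1, 2, 0,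
    1, 1, 0, 1, 2, 1, 0, 2, 0, 0, 1, 2, 0, 1, 1, 0, 1, 2, 1, 0, 0, 0, 0, 0, 0, 0, 2, 1, 1, 1, 0, 0,
    0, 0, 0, 0, 2, 1, 1, 1],
   [0, 0, 0, 0, 0, 0, 2, 1, 1, 1, 0, 0, 0, 0, 0, 0, 2, 1, 1, 1, 2, 0, 0, 1, 2, 0, 1, 1, 0, 1, 2, 1,
    0, 2, 0, 0, 1, 2, 0, 1, 1, 0, 1, 2, 1, 0, 0, 0, 0, 0, 0, 0, 2, 1, 1, 1, 2, 0, 0, 1, 2, 0, 1, 1,
    0, 1, 2, 1, 0, 2, 0, 0, 1, 2, 0, 1, 1, 0, 1, 2, 1, 0, 0, 0, 0, 0, 0, 0, 2, 1, 1, 1, 2, 0, 0, 1,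
    2, 0, 1, 1, 0, 1, 2, 1, 0, 0, 0, 0, 0, 0, 0, 2, 1, 1, 1, 0, 0, 0, 0, 0, 0, 2, 1, 1, 1],
   [0, 0, 0, 0, 0, 0, 2, 1, 1, 1, 0, 0, 0, 0, 0, 0, 2, 1, 1, 1, 0, 0, 0, 0, 0, 0, 2, 1, 1, 1, 0, 0,
    0, 0, 0, 0, 2, 1, 1, 1, 2, 0, 0, 1, 2, 0, 1, 1, 0, 1, 2, 1, 0, 2, 0, 0, 1, 2, 0, 1, 1, 0, 1, 2,
    1, 0, 0, 0, 0, 0, 0, 0, 2, 1, 1, 1, 2, 0, 0, 1, 2, 0, 1, 1, 0, 1, 2, 1, 0, 2, 0, 0, 1, 2, 0, 1,
    1, 0, 1, 2, 1, 0, 0, 0, 0, 0, 0, 0, 2, 1, 1, 1, 2, 0, 0, 1, 2, 0, 1, 1, 0, 1, 2, 1, 0, 0, 0, 0,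
    0, 0, 0, 2, 1, 1, 1, 0, 0, 0, 0, 0, 0, 2, 1, 1, 1, 0, 0, 0, 0, 0, 0, 2, 1, 1, 1],
   [0, 0, 0, 0, 0, 0, 2, 1, 1, 1, 0, 0, 0, 0, 0, 0, 2, 1, 1, 1, 2, 0, 0, 1, 2, 0, 1, 1, 0, 1, 2, 1,
    0, 2, 0, 0, 1, 2, 0, 1, 1, 0, 1, 2, 1, 0, 0, 0, 0, 0, 0, 0, 2, 1, 1, 1, 2, 0, 0, 1, 2, 0, 1, 1,
    0, 1, 2, 1, 0, 2, 0, 0, 1, 2, 0, 1, 1, 0, 1, 2, 1, 0, 0, 0, 0, 0, 0, 0, 2, 1, 1, 1, 0, 0, 0, 0,
    0, 0, 2, 1, 1, 1, 0, 0, 0, 0, 0, 0, 2, 1, 1, 1, 0, 0, 0, 0, 0, 0, 2, 1, 1, 1, 2, 0, 0, 1, 2, 0,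
    1, 1, 0, 1, 2, 1, 0, 2, 0, 0, 1, 2, 0, 1, 1, 0, 1, 2, 1, 0]]

/-- script of the common centraliser -/
def tS : List (ℕ × ℕ) := [(0, 0), (1, 0), (2, 0), (3, 0), (0, 1), (1, 1), (2, 1), (3, 1), (2, 2),
    (3, 2),
   (0, 3), (1, 3), (2, 3), (3, 3), (0, 4), (1, 4), (2, 4), (3, 4), (0, 5), (1, 5),
   (2, 5), (3, 5), (2, 6), (3, 6), (0, 7), (1, 7), (2, 7), (3, 7), (0, 8), (1, 8),
   (2, 8), (3, 8), (2, 9), (3, 9), (2, 10), (3, 10), (3, 11), (3, 12), (3, 13), (3, 14),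
   (1, 15), (1, 19), (2, 19), (2, 20), (0, 21), (1, 21), (3, 21), (0, 22), (1, 22), (2, 23),
   (3, 23), (2, 24), (3, 24), (3, 26), (3, 27), (1, 29), (0, 37), (1, 37), (2, 42), (1, 43),
   (3, 43), (3, 44), (1, 48)]

/-- generators of a Sylow subgroup -/
def sgW : List (List (Fin 3)) := [[0, 0, 0, 0, 0, 0, 2, 1, 1, 1, 0, 0, 0, 0, 0, 0, 2, 1, 1, 1, 2,
    0, 0, 1, 2, 0, 1, 1, 0, 1, 2, 1, 0, 0, 0, 0, 0, 0, 0, 2, 1, 1, 1, 2, 0, 0, 1, 2, 0, 1, 1, 0, 1,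
    2, 1, 0, 2, 0, 0, 1, 2, 0, 1, 1, 0, 1, 2, 1, 0, 2, 0, 0, 1, 2, 0, 1, 1, 0, 1, 2, 1, 0, 0, 0, 0,
    0, 0, 0, 2, 1, 1, 1],
   [0, 0, 0, 0, 0, 0, 2, 1, 1, 1, 2, 0, 0, 1, 2, 0, 1, 1, 0, 1, 2, 1, 0, 2, 0, 0, 1, 2, 0, 1, 1, 0,
    1, 2, 1, 0, 2, 0, 0, 1, 2, 0, 1, 1, 0, 1, 2, 1, 0, 0, 0, 0, 0, 0, 0, 2, 1, 1, 1, 0, 0, 0, 0, 0,
    0, 2, 1, 1, 1, 0, 0, 0, 0, 0, 0, 2, 1, 1, 1, 2, 0, 0, 1, 2, 0, 1, 1, 0, 1, 2, 1, 0],
   [0, 0, 0, 0, 0, 0, 2, 1, 1, 1, 2, 0, 0, 1, 2, 0, 1, 1, 0, 1, 2, 1, 0, 0, 0, 0, 0, 0, 0, 2, 1, 1,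
    1, 2, 0, 0, 1, 2, 0, 1, 1, 0, 1, 2, 1, 0, 2, 0, 0, 1, 2, 0, 1, 1, 0, 1, 2, 1, 0, 0, 0, 0, 0, 0,
    0, 2, 1, 1, 1, 2, 0, 0, 1, 2, 0, 1, 1, 0, 1, 2, 1, 0, 2, 0, 0, 1, 2, 0, 1, 1, 0, 1, 2, 1, 0]]

/-- script of the Sylow subgroup -/
def sS : List (ℕ × ℕ) := [(0, 0), (1, 0), (2, 0), (0, 1), (1, 1), (2, 1), (0, 2), (1, 2), (2, 2),
    (0, 3),
   (1, 3), (2, 3), (0, 4), (1, 4), (2, 4), (0, 5), (1, 5), (2, 5), (0, 6), (1, 6),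
   (2, 6), (1, 7), (2, 7), (1, 8), (2, 8), (0, 9), (1, 9), (2, 9), (0, 10), (1, 10),
   (2, 10), (0, 11), (1, 11), (2, 11), (0, 12), (1, 12), (2, 12), (0, 13), (1, 13), (2, 13),
   (0, 14), (2, 14), (0, 15), (1, 15), (2, 15), (1, 16), (2, 16), (1, 17), (2, 17), (0, 18),
   (1, 18), (2, 18), (0, 19), (1, 19), (2, 19), (0, 20), (1, 20), (2, 20), (0, 21), (1, 21),
   (2, 21), (1, 22), (2, 22), (0, 23), (1, 23), (2, 23), (2, 24), (0, 25), (1, 25), (2, 25),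
   (0, 26), (1, 26), (2, 26), (0, 27), (1, 27), (2, 27), (0, 28), (1, 28), (2, 28), (0, 29),
   (1, 29), (2, 29), (0, 30), (1, 30), (2, 30), (0, 31), (1, 31), (2, 31), (1, 32), (1, 33),
   (2, 33), (0, 34), (1, 34), (2, 34), (2, 35), (0, 37), (1, 37), (2, 37), (0, 38), (1, 38),
   (2, 38), (0, 39), (2, 39), (0, 40), (1, 40), (2, 40), (1, 41), (2, 41), (0, 42), (1, 42),
   (2, 42), (0, 43), (1, 43), (2, 43), (0, 44), (1, 44), (2, 44), (0, 45), (1, 45), (2, 45),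
   (1, 46), (2, 46), (0, 47), (1, 47), (2, 47), (2, 48), (0, 49), (1, 49), (2, 49), (0, 50),
   (2, 50), (0, 51), (1, 51), (2, 51), (0, 52), (1, 52), (2, 52), (0, 53), (1, 53), (2, 53),
   (0, 54), (1, 54), (2, 54), (1, 55), (2, 55), (1, 56), (1, 57), (0, 58), (1, 58), (2, 58),
   (2, 59), (0, 61), (1, 61), (2, 61), (1, 62), (2, 62), (0, 63), (2, 63), (0, 64), (1, 64),
   (2, 64), (0, 65), (1, 65), (2, 65), (1, 66), (0, 67), (1, 67), (2, 67), (1, 68), (2, 68),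
   (0, 69), (2, 69), (1, 70), (2, 70), (0, 71), (1, 71), (2, 71), (2, 72), (0, 73), (1, 73),
   (1, 75), (0, 76), (2, 76), (2, 77), (0, 79), (1, 79), (2, 79), (1, 80), (2, 80), (0, 81),
   (2, 81), (0, 82), (1, 82), (2, 82), (1, 83), (2, 83), (2, 84), (0, 85), (1, 85), (2, 85),
   (1, 86), (2, 86), (0, 87), (2, 87), (2, 88), (1, 89), (2, 89), (2, 90), (2, 91), (1, 92),
   (0, 93), (2, 94), (0, 95), (2, 96), (0, 98), (1, 98), (1, 99), (2, 99), (0, 100), (2, 100),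
   (0, 101), (1, 101), (2, 101), (1, 102), (2, 102), (0, 103), (1, 103), (2, 103), (0, 104), (1,
    104),
   (2, 104), (0, 105), (1, 105), (2, 105), (1, 106), (2, 106), (2, 107), (0, 108), (1, 108), (2,
    108),
   (0, 109), (2, 109), (0, 110), (1, 110), (0, 111), (2, 111), (0, 112), (1, 112), (0, 113), (1,
    113),
   (2, 113), (1, 114), (1, 115), (1, 116), (0, 117), (1, 117), (2, 118), (1, 120), (2, 120), (1,
    121),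
   (2, 121), (0, 122), (2, 122), (0, 123), (1, 123), (2, 123), (0, 124), (1, 124), (2, 124), (1,
    125),
   (0, 126), (1, 126), (2, 126), (1, 127), (0, 128), (2, 128), (1, 129), (0, 130), (1, 130), (2,
    130),
   (0, 131), (1, 131), (1, 133), (0, 134), (2, 134), (2, 135), (1, 137), (2, 137), (1, 138), (2,
    138),
   (2, 139), (1, 140), (2, 140), (1, 141), (2, 141), (2, 142), (0, 143), (1, 143), (2, 143), (0,
    144),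
   (2, 144), (2, 145), (1, 146), (2, 146), (2, 147), (1, 148), (0, 149), (2, 150), (0, 151), (2,
    152),
   (0, 154), (1, 154), (2, 155), (0, 156), (2, 156), (0, 157), (2, 157), (1, 158), (2, 158), (0,
    159),
   (1, 159), (2, 159), (1, 160), (2, 160), (2, 161), (0, 164), (1, 164), (1, 166), (2, 166), (0,
    167),
   (2, 167), (2, 168), (2, 169), (0, 170), (1, 170), (0, 172), (2, 175), (0, 176), (2, 176), (0,
    177),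
   (2, 177), (0, 178), (1, 178), (1, 179), (2, 179), (0, 180), (1, 182), (0, 184), (2, 185), (0,
    187),
   (0, 189), (0, 191), (0, 194), (2, 195), (1, 197), (2, 199), (0, 200), (1, 200), (2, 201), (1,
    202),
   (2, 202), (1, 203), (0, 205), (1, 205), (1, 206), (0, 207), (1, 208), (1, 209), (0, 212), (0,
    217),
   (2, 217), (0, 218), (1, 219), (2, 219), (0, 220), (1, 220), (1, 221), (2, 221), (0, 222), (2,
    222),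
   (2, 223), (2, 224), (0, 225), (2, 225), (0, 226), (2, 226), (0, 227), (1, 227), (0, 228), (0,
    229),
   (1, 229), (0, 230), (1, 230), (2, 230), (1, 231), (1, 232), (1, 233), (0, 234), (1, 234), (2,
    236),
   (0, 237), (2, 237), (1, 238), (2, 238), (1, 239), (2, 239), (1, 240), (0, 241), (1, 241), (1,
    242),
   (1, 244), (2, 245), (1, 246), (2, 246), (1, 247), (2, 247), (2, 248), (1, 249), (2, 249), (2,
    250),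
   (1, 251), (0, 252), (2, 252), (1, 253), (2, 253), (2, 254), (1, 255), (0, 256), (0, 257), (2,
    260),
   (0, 261), (2, 261), (0, 262), (2, 262), (1, 263), (0, 264), (1, 264), (2, 264), (1, 265), (2,
    265),
   (2, 266), (0, 269), (1, 269), (2, 271), (0, 272), (2, 272), (2, 274), (0, 276), (2, 278), (0,
    279),
   (2, 279), (0, 280), (2, 281), (0, 282), (0, 286), (0, 288), (0, 291), (0, 293), (2, 298), (0,
    299),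
   (1, 300), (1, 303), (0, 308), (2, 313), (1, 315), (2, 316), (2, 319), (1, 322), (1, 326), (0,
    329),
   (1, 329), (1, 336), (1, 346), (1, 359), (0, 360), (2, 369), (1, 370), (2, 370), (1, 371), (1,
    372),
   (2, 373), (0, 374), (2, 375), (0, 376), (1, 379), (0, 380), (2, 382), (1, 383), (2, 383), (1,
    384),
   (1, 385), (1, 388), (2, 389), (1, 390), (2, 391), (1, 394), (2, 395), (0, 401), (1, 403), (2,
    403),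
   (0, 406), (2, 408), (0, 410), (1, 424), (2, 430), (2, 433), (1, 438), (1, 444), (0, 478), (0,
    479),
   (1, 482)]

/-- positions of the derived subgroup -/
def dPos : List ℕ := [0, 18, 5, 13]

/-- positions of a pair with commutator the central involution -/
def aPos : ℕ := 1

/-- the second of the pair -/
def bPos : ℕ := 3

/-- mask of the first subgroup of index two -/
def maskA : ℕ := 576456354257436641

/-- mask of the second subgroup of index two -/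
def maskB : ℕ := 4828652502485792317

/-- position of the further conjugate -/
def cPos : ℕ := 110

/-- an element of order three centralising it and the second involution -/
def wW : List (Fin 3) := [1, 2, 2, 0, 1, 0, 2, 0, 0, 2, 1, 1, 2, 1, 2, 2, 2, 1, 2, 1, 2, 2, 0, 1,
    0, 2, 0, 0, 2, 1, 1, 2, 1, 2, 2, 2, 1, 2, 1, 2, 2, 0, 1, 0, 2, 0, 0, 2, 1, 1, 2, 1, 2, 2, 2, 1,
    2, 1, 2, 2, 2, 0, 0, 2, 1, 1, 1, 2, 2, 1, 1, 0, 2, 0, 1, 1, 2, 2, 0, 1, 0, 2, 0, 0, 2, 1, 1, 2,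
    1, 2, 2, 2, 1, 2, 1, 2, 2, 2, 0, 0, 2, 1, 1, 1, 2, 2, 1, 1, 0, 2, 0, 1]

/-- two commuting elements of order three centralising the second involution -/
def nineW : List (List (Fin 3)) := [[1, 2, 2, 0, 1, 0, 2, 0, 0, 2, 1, 1, 2, 1, 2, 2, 2, 1, 2, 1, 2,
    2, 0, 1, 0, 2, 0, 0, 2, 1, 1, 2, 1, 2, 2, 2, 1, 2, 1, 2, 2, 0, 1, 0, 2, 0, 0, 2, 1, 1, 2, 1, 2,
    2, 2, 1, 2, 1, 2, 2, 2, 0, 0, 2, 1, 1, 1, 2, 2, 1, 1, 0, 2, 0, 1, 1, 2, 2, 0, 1, 0, 2, 0, 0, 2,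
    1, 1, 2, 1, 2, 2, 2, 1, 2, 1, 2, 2, 2, 0, 0, 2, 1, 1, 1, 2, 2, 1, 1, 0, 2, 0, 1],
   [1, 2, 2, 2, 0, 0, 2, 1, 1, 1, 2, 2, 1, 1, 0, 2, 0, 1, 1, 2, 2, 0, 1, 0, 2, 0, 0, 2, 1, 1, 2, 1,
    2, 2, 2, 1, 2, 1, 2, 2, 2, 0, 0, 2, 1, 1, 1, 2, 2, 1, 1, 0, 2, 0, 1, 1, 2, 2, 2, 0, 0, 2, 1, 1,
    1, 2, 2, 1, 1, 0, 2, 0, 1, 1, 2, 2, 0, 1, 0, 2, 0, 0, 2, 1, 1, 2, 1, 2, 2, 2, 1, 2, 0, 0, 1, 2,
    1, 0, 1, 0, 0, 1, 2, 0, 1, 2, 1, 2, 2, 0, 1, 2, 1, 1, 0, 0, 0, 1, 0, 2, 1, 2, 2, 2, 0, 0, 2, 1,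
    1, 1, 2, 2, 1, 1, 0, 2, 0, 1, 0, 0, 1, 2, 1, 0, 1, 0, 0, 1, 2, 0, 1, 2, 1, 2, 2, 0, 1, 2, 1, 1,
    0, 0, 0, 1, 0, 2]]

/-- one less than the orders of the generators of the centraliser -/
def cN : List ℕ := [5, 9]

/-- one less than the orders of the connectors, first class -/
def rTN : List ℕ := [0, 6, 6]

/-- one less than the orders of the connectors, second class -/
def rUN : List ℕ := [0, 9]

end Cfsg.Agent.HSRecog28Data
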