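import Cfsg.Agent.Lib.HSRecog28Code
import Cfsg.Agent.Lib.HSRecog28Data

/-!
Definitions for the computations with the involutions of the Higman–Sims permutation group.
-/

set_option autoImplicit false
set_option maxRecDepth 100000

namespace Cfsg.Agent.HSRecog28Cert

open Cfsg.Agent.HSRecog28Code Cfsg.Agent.HSRecog28Data
open Cfsg.Agent.LeechCert (force)

/-- code of the central involution -/
def tC : ℕ := wc tW
/-- code of the second involution -/
def uC : ℕ := wc uW
/-- codes of the generators of the centraliser -/
def cG : List ℕ := cW.map wc
/-- the code of a power -/
def pw (P : ℕ) : ℕ → ℕ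
  | 0 => idc
  | n + 1 => force P fun P => comp P (pw P n)
/-- codes of the inverses of the generators -/
def cI : List ℕ := (List.range cW.length).map fun j => pw (cG.getD j idc) (cN.getD j 0)
/-- a conjugate by a connector -/
def cn (c : ℕ) (w : List (Fin 3)) (n : ℕ) : ℕ := force (wc w) fun g => comp (comp g c) (pw g n)
/-- the roots, first class -/
def rootT : List ℕ := (List.range rT.length).map fun i => cn tC (rT.getD i []) (rTN.getD i 0)
/-- the roots, second class -/
def rootU : List ℕ := (List.range rU.length).map fun i => cn uC (rU.getD i []) (rUN.getD i 0)
/-- conjugation by a generator of the centraliser -/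
def cj (j x : ℕ) : ℕ := comp (comp (cG.getD j idc) x) (cI.getD j idc)
/-- the orbit of the second involution -/
def uL : List ℕ := build cj (List.range cG.length) uS [uC]
/-- involutions of the first class -/
def accT : List ℕ := build cj (List.range cG.length) sT rootT
/-- involutions of the second class -/
def accU : List ℕ := build cj (List.range cG.length) sU rootU
/-- codes of the generators of the common centraliser -/
def tG : List ℕ := tgW.map wc
/-- the common centraliser -/
def tL : List ℕ := build comp tG tS [idc]
/-- codes of the generators of the Sylow subgroup -/
def sG : List ℕ := sgW.map wc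
/-- the Sylow subgroup -/
def sL : List ℕ := build comp sG sS [idc]
/-- a bit of a mask -/
def bit (m P : ℕ) : Bool := m.testBit (tL.idxOf P)

end Cfsg.Agent.HSRecog28Cert
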