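import Cfsg.Agent.Lib.HSPerm

/-!
Permutations of a hundred points encoded as natural numbers, idc byte a point.
-/

set_option autoImplicit false

namespace Cfsg.Agent.HSRecog28Code

open Cfsg.Agent.LeechCert (force force_eq)
open Cfsg.Agent.HSPerm (Hp genF gen gen_rep wordE ρ)

/-- the `i`-th byte -/
def dig (P i : ℕ) : ℕ := (P >>> (8 * i)) % 256

/-- the number with given bytes -/
def pack : List ℕ → ℕ
  | [] => 0
  | a :: l => force a fun a => force (pack l) fun r => r * 256 + a

theorem dig_pack : ∀ (l : List ℕ) (i : ℕ), (∀ a ∈ l, a < 256) → (h : i < l.length) →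
    dig (pack l) i = l[i]
  | a :: l, 0, hl, _ => by
    have ha := hl a List.mem_cons_self
    simp only [pack, force_eq, dig, Nat.mul_zero, Nat.shiftRight_zero, List.getElem_cons_zero]
    omega
  | a :: l, i + 1, hl, h => by
    have ha := hl a List.mem_cons_self
    have := dig_pack l i (fun x hx => hl x (List.mem_cons_of_mem _ hx)) (by simpa using h)
    simp only [pack, force_eq, dig, List.getElem_cons_succ] at this ⊢
    rw [← this, show 8 * (i + 1) = 8 + 8 * i by ring, Nat.shiftRight_add]
    congr 2
    rw [Nat.shiftRight_eq_div_pow]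
    omega

/-- the code of a table -/
def mk (f : ℕ → ℕ) : ℕ := pack ((List.range 100).map f)

theorem dig_mk {f : ℕ → ℕ} (hf : ∀ i < 100, f i < 256) {i : ℕ} (hi : i < 100) :
    dig (mk f) i = f i := by
  rw [mk, dig_pack _ _ (by simpa using hf) (by simpa using hi)]
  simp

theorem mk_congr {f g : ℕ → ℕ} (h : ∀ i < 100, f i = g i) : mk f = mk g := by
  unfold mk
  exact congrArg pack (List.map_congr_left fun i hi => h i (List.mem_range.1 hi))

/-- composition of codes -/
def comp (P Q : ℕ) : ℕ := force P fun P => force Q fun Q => mk fun i => dig P (dig Q i)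

/-- the code of a permutation -/
def code (σ : Equiv.Perm (Fin 100)) : ℕ :=
  mk fun i => if h : i < 100 then (σ ⟨i, h⟩ : ℕ) else 0

theorem dig_code (σ : Equiv.Perm (Fin 100)) (i : Fin 100) : dig (code σ) i = σ i := by
  unfold code
  rw [dig_mk (fun j hj => by rw [dif_pos hj]; omega) i.2]
  simp

theorem code_inj : Function.Injective code := fun σ τ h =>
  Equiv.ext fun i => Fin.ext (by rw [← dig_code σ i, h, dig_code])

theorem code_mul (σ τ : Equiv.Perm (Fin 100)) : code (σ * τ) = comp (code σ) (code τ) := by
  rw [comp, force_eq, force_eq]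
  show code (σ * τ) = _
  unfold code
  refine mk_congr fun i hi => ?_
  rw [dif_pos hi]
  have h1 := dig_code τ ⟨i, hi⟩
  have h2 := dig_code σ (τ ⟨i, hi⟩)
  unfold code at h1 h2
  rw [h1, h2]
  rfl

/-- the code of the identity -/
def idc : ℕ := mk fun i => i

theorem code_one : code 1 = idc := mk_congr fun i hi => by rw [dif_pos hi]; rfl

/-- the code of an element of the group -/
noncomputable def cd (g : Hp) : ℕ := code g.1

theorem cd_mul (g h : Hp) : cd (g * h) = comp (cd g) (cd h) := code_mul _ _

theorem cd_one : cd 1 = idc := code_one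

theorem cd_inj : Function.Injective cd := fun _ _ h => Subtype.ext (code_inj h)

/-- the code of a word -/
def wc : List (Fin 3) → ℕ
  | [] => idc
  | k :: l => comp (mk (genF k)) (wc l)

theorem cd_wordE : ∀ l, cd (wordE l) = wc l
  | [] => by
    rw [wc, ← cd_one]
    exact congrArg cd (Subtype.ext (by simp [wordE]))
  | k :: l => by
    have e : wordE (k :: l) = wordE [k] * wordE l := Subtype.ext (by simp [wordE])
    rw [e, cd_mul, cd_wordE l, wc]
    have key : cd (wordE [k]) = mk (genF k) := by
      unfold cd code
      refine mk_congr fun i hi => ?_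
      rw [dif_pos hi]
      simpa [wordE] using gen_rep k ⟨i, hi⟩
    rw [key]

/-- grow a list along a script -/
def build (f : ℕ → ℕ → ℕ) (gs : List ℕ) : List (ℕ × ℕ) → List ℕ → List ℕ
  | [], acc => acc
  | (j, k) :: s, acc => force (f (gs.getD j idc) (acc.getD k idc)) fun v => build f gs s (acc ++ [v])

theorem build_mem {p : ℕ → Prop} {f : ℕ → ℕ → ℕ} {gs : List ℕ} (hd : p idc)
    (hf : ∀ j x, p x → p (f (gs.getD j idc) x)) :
    ∀ (s : List (ℕ × ℕ)) (acc : List ℕ), (∀ x ∈ acc, p x) → ∀ x ∈ build f gs s acc, p x
  | [], acc, hacc => hacc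
  | (j, k) :: s, acc, hacc => by
    simp only [build, force_eq]
    refine build_mem hd hf s _ fun x hx => ?_
    rcases List.mem_append.1 hx with h | h
    · exact hacc x h
    · rw [List.mem_singleton] at h
      subst h
      refine hf _ _ ?_
      rw [List.getD_eq_getElem?_getD]
      cases hk : acc[k]? with
      | none => exact hd
      | some y => exact hacc y (List.mem_of_getElem? hk)

end Cfsg.Agent.HSRecog28Code
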