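import Cfsg.Agent.Lib.HSRecog28Pair
import Cfsg.Agent.Lib.HSRecog28Cert

/-!
A subgroup of Higman–Sims type containing the centraliser of its central involution is the whole
group.
-/

set_option autoImplicit false
set_option maxRecDepth 100000
set_option linter.style.haveILetI false

namespace Cfsg.Agent.HSRecog28Model

open Subgroup
open Cfsg.Agent.HSPerm (Hp wordE card_Hp toHp)
open Cfsg.Agent.HSRecog28Code Cfsg.Agent.HSRecog28Data Cfsg.Agent.HSRecog28Cert
open Cfsg.Agent.HSRecog28 (mem_cent order_two_of mul_self_of ne_one_of order_conj)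
open Cfsg.Agent.LeechCert (force force_eq)

attribute [local irreducible] comp idc pack HSRecog28Code.mk wc dig

/-- the central involution -/
noncomputable def tP : Hp := wordE tW
/-- the second involution -/
noncomputable def uP : Hp := wordE uW

theorem cd_tP : cd tP = tC := cd_wordE _
theorem cd_uP : cd uP = uC := cd_wordE _

theorem eq_of_cd {g h : Hp} {P : ℕ} (hg : cd g = P) (hh : cd h = P) : g = h :=
  cd_inj (hg.trans hh.symm)

theorem comm_of {g h : Hp} {P Q : ℕ} (hg : cd g = P) (hh : cd h = Q) (e : comp P Q = comp Q P) :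
    g * h = h * g := cd_inj (by rw [cd_mul, cd_mul, hg, hh, e])

theorem cd_pow : ∀ (g : Hp) (n : ℕ), cd (g ^ n) = pw (cd g) n
  | g, 0 => by rw [pow_zero, cd_one, pw]
  | g, n + 1 => by rw [pow_succ', cd_mul, cd_pow g n, pw, force_eq]

theorem facts_t : orderOf tP = 2 ∧ orderOf uP = 2 ∧ tP * uP = uP * tP := by
  have h := t_ok
  simp only [Bool.and_eq_true, bne_iff_ne, beq_iff_eq] at h
  obtain ⟨⟨⟨⟨h1, h2⟩, h3⟩, h4⟩, h5⟩ := h
  refine ⟨order_two_of (cd_inj ?_) ?_, order_two_of (cd_inj ?_) ?_, comm_of cd_tP cd_uP h5⟩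
  · rw [cd_mul, cd_one, cd_tP, h2]
  · exact fun e => h1 (by rw [← cd_tP, e, cd_one])
  · rw [cd_mul, cd_one, cd_uP, h4]
  · exact fun e => h3 (by rw [← cd_uP, e, cd_one])

/-- being the code of a conjugate by an element of `A` -/
def Cls (A : Subgroup Hp) (x : Hp) (P : ℕ) : Prop := P = idc ∨ ∃ g ∈ A, cd (g * x * g⁻¹) = P

/-- a generator of the centraliser -/
noncomputable def cE (j : ℕ) : Hp := if j < cW.length then wordE (cW.getD j []) else 1

theorem cE_spec (j : ℕ) :
    cE j ∈ centralizer ({tP} : Set Hp) ∧ cd (cE j) = cG.getD j idc ∧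
      cd (cE j)⁻¹ = cI.getD j idc := by
  unfold cE
  split_ifs with hj
  · have hg : cd (wordE (cW.getD j [])) = cG.getD j idc := by
      rw [cd_wordE, cG, List.getD_eq_getElem _ _ hj,
        List.getD_eq_getElem _ _ (by rw [List.length_map]; exact hj), List.getElem_map]
    have hi : cI.getD j idc = pw (cG.getD j idc) (cN.getD j 0) := by
      rw [cI, List.getD_eq_getElem _ _ (by simpa using hj), List.getElem_map, List.getElem_range]
    have h := cI_ok
    simp only [List.all_eq_true, List.mem_range, Bool.and_eq_true, beq_iff_eq] at h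
    obtain ⟨h1, h2⟩ := h j (by rw [cG, List.length_map]; exact hj)
    refine ⟨mem_cent.mpr (comm_of hg cd_tP h2), hg, ?_⟩
    have : wordE (cW.getD j []) * wordE (cW.getD j []) ^ cN.getD j 0 = 1 :=
      cd_inj (by rw [cd_mul, cd_one, cd_pow, hg, ← hi, h1])
    rw [inv_eq_of_mul_eq_one_right this, cd_pow, hg, hi]
  · have h1 : cG.getD j idc = idc :=
      List.getD_eq_default _ _ (by rw [cG, List.length_map]; omega)
    have h2 : cI.getD j idc = idc :=
      List.getD_eq_default _ _ (by rw [cI, List.length_map, List.length_range]; omega)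
    exact ⟨one_mem _, by rw [cd_one, h1], by rw [inv_one, cd_one, h2]⟩

theorem cls_cj {A : Subgroup Hp} (hA : centralizer ({tP} : Set Hp) ≤ A) {x : Hp} (j P : ℕ)
    (h : Cls A x P) : Cls A x (cj j P) := by
  obtain ⟨hc, hg, hi⟩ := cE_spec j
  rcases h with h | ⟨g, hgA, h⟩
  · left
    rw [h, cj, ← hg, ← hi, ← cd_one, ← cd_mul, ← cd_mul, mul_one, mul_inv_cancel]
  · right
    refine ⟨cE j * g, A.mul_mem (hA hc) hgA, ?_⟩
    rw [cj, ← hg, ← hi, ← h, ← cd_mul, ← cd_mul]
    refine congrArg cd ?_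
    group

theorem cls_build {A : Subgroup Hp} (hA : centralizer ({tP} : Set Hp) ≤ A) {x : Hp}
    (s : List (ℕ × ℕ)) (acc : List ℕ) (hacc : ∀ P ∈ acc, Cls A x P) :
    ∀ P ∈ build cj (List.range cG.length) s acc, Cls A x P :=
  build_mem (Or.inl rfl) (fun j P hP => cls_cj hA _ P hP) s acc hacc

theorem cls_root {x : Hp} {c : ℕ} (hx : cd x = c) (w : List (Fin 3)) (n : ℕ)
    (h : comp (wc w) (pw (wc w) n) = idc) : Cls ⊤ x (cn c w n) := by
  right
  refine ⟨wordE w, mem_top _, ?_⟩
  have h1 : (wordE w)⁻¹ = wordE w ^ n :=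
    inv_eq_of_mul_eq_one_right (cd_inj (by rw [cd_mul, cd_one, cd_pow, cd_wordE, h]))
  rw [cn, force_eq, h1, cd_mul, cd_mul, cd_pow, cd_wordE, hx]

theorem cls_accT : ∀ P ∈ accT, Cls ⊤ tP P := by
  refine cls_build le_top _ _ fun P hP => ?_
  simp only [rootT, List.mem_map, List.mem_range] at hP
  obtain ⟨i, hi, rfl⟩ := hP
  have h := roots_ok
  simp only [Bool.and_eq_true, List.all_eq_true, List.mem_range, beq_iff_eq, decide_eq_true_eq] at h
  exact cls_root cd_tP _ _ (h.1 i hi)

theorem cls_accU : ∀ P ∈ accU, Cls ⊤ uP P := by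
  refine cls_build le_top _ _ fun P hP => ?_
  simp only [rootU, List.mem_map, List.mem_range] at hP
  obtain ⟨i, hi, rfl⟩ := hP
  have h := roots_ok
  simp only [Bool.and_eq_true, List.all_eq_true, List.mem_range, beq_iff_eq, decide_eq_true_eq] at h
  exact cls_root cd_uP _ _ (h.2 i hi)

/-- An element whose code is listed among the conjugates of `x` is conjugate to `x`. -/
theorem of_cls {A : Subgroup Hp} {x y : Hp} (hy : y ≠ 1) (h : Cls A x (cd y)) :
    ∃ g ∈ A, g * x * g⁻¹ = y := by
  rcases h with h | ⟨g, hg, h⟩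
  · exact absurd (cd_inj (h.trans cd_one.symm)) hy
  · exact ⟨g, hg, cd_inj h⟩

/-- The subgroup given by a closed list. -/
noncomputable def listSub (L gs : List ℕ) (S : List (ℕ × ℕ)) (ws : List (List (Fin 3)))
    (hgs : gs = ws.map wc) (hL : L = build comp gs S [idc]) (h1 : idc ∈ L)
    (hc : ∀ x ∈ L, ∀ g ∈ gs, comp g x ∈ L) : Subgroup Hp :=
  let M : Submonoid Hp :=
    { carrier := {g | cd g ∈ L}
      one_mem' := by show cd 1 ∈ L; rw [cd_one]; exact h1
      mul_mem' := by
        intro a b ha hb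
        show cd (a * b) ∈ L
        have key : ∀ P ∈ L, ∃ g : Hp, cd g = P ∧ ∀ h : Hp, cd h ∈ L → cd (g * h) ∈ L := by
          rw [hL]
          refine build_mem (p := fun P => ∃ g : Hp, cd g = P ∧
            ∀ h : Hp, cd h ∈ build comp gs S [idc] → cd (g * h) ∈ build comp gs S [idc])
            ⟨1, cd_one, fun h hh => by rwa [one_mul]⟩ (fun j P hP => ?_) S [idc] (fun P hP => ?_)
          · obtain ⟨g, hg, hgL⟩ := hP
            by_cases hj : j < gs.length
            · have hjw : j < ws.length := by simpa [hgs] using hj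
              refine ⟨wordE ws[j] * g, ?_, fun h hh => ?_⟩
              · rw [cd_mul, cd_wordE, hg, List.getD_eq_getElem _ _ hj]
                simp [hgs]
              · rw [mul_assoc, cd_mul, cd_wordE, ← hL]
                refine hc _ (hL ▸ hgL h hh) _ ?_
                rw [hgs]
                exact List.mem_map.2 ⟨_, List.getElem_mem hjw, rfl⟩
            · rw [List.getD_eq_default _ _ (by omega)]
              exact ⟨g, by rw [← cd_one, ← hg, ← cd_mul, one_mul], hgL⟩
          · rw [List.mem_singleton] at hP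
            exact ⟨1, cd_one.trans hP.symm, fun h hh => by rwa [one_mul]⟩
        obtain ⟨g, hg, hgL⟩ := key _ ha
        rw [cd_inj hg] at hgL
        exact hgL b hb }
  { M with
    inv_mem' := by
      intro a ha
      obtain ⟨n, hn⟩ : ∃ n : ℕ, a⁻¹ = a ^ n :=
        ⟨orderOf a - 1, (eq_inv_of_mul_eq_one_left (by
          rw [← pow_succ, Nat.sub_add_cancel (orderOf_pos a), pow_orderOf_eq_one])).symm⟩
      show a⁻¹ ∈ M
      rw [hn]
      exact M.pow_mem ha n }

theorem listed {gs : List ℕ} {ws : List (List (Fin 3))} (hgs : gs = ws.map wc)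
    (S : List (ℕ × ℕ)) : ∀ P ∈ build comp gs S [idc], ∃ g : Hp, cd g = P := by
  refine build_mem ⟨1, cd_one⟩ (fun j P hP => ?_) S [idc] (fun P hP => ?_)
  · obtain ⟨g, hg⟩ := hP
    by_cases hj : j < gs.length
    · refine ⟨wordE (ws.getD j []) * g, ?_⟩
      have hjw : j < ws.length := by simpa [hgs] using hj
      rw [cd_mul, cd_wordE, hg, List.getD_eq_getElem _ _ hj, List.getD_eq_getElem _ _ hjw]
      simp [hgs]
    · rw [List.getD_eq_default _ _ (by omega)]
      exact ⟨g, by rw [← cd_one, ← hg, ← cd_mul, one_mul]⟩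
  · rw [List.mem_singleton] at hP
    exact ⟨1, cd_one.trans hP.symm⟩

theorem card_list {L : List ℕ} (hn : L.Nodup) (hl : ∀ P ∈ L, ∃ g : Hp, cd g = P) :
    Nat.card {g : Hp // cd g ∈ L} = L.length := by
  let f : {g : Hp // cd g ∈ L} → {P : ℕ // P ∈ L.toFinset} :=
    fun g => ⟨cd g.1, List.mem_toFinset.2 g.2⟩
  have hf : Function.Bijective f := ⟨fun a b h => Subtype.ext (cd_inj (congrArg Subtype.val h)),
    fun P => by
      obtain ⟨g, hg⟩ := hl P.1 (List.mem_toFinset.1 P.2)
      exact ⟨⟨g, by rw [hg]; exact List.mem_toFinset.1 P.2⟩, Subtype.ext hg⟩⟩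
  rw [Nat.card_congr (Equiv.ofBijective f hf), Nat.card_eq_fintype_card, Fintype.card_coe,
    List.toFinset_card_of_nodup hn]

theorem mem_build {f : ℕ → ℕ → ℕ} {gs : List ℕ} :
    ∀ (s : List (ℕ × ℕ)) (acc : List ℕ) {P : ℕ}, P ∈ acc → P ∈ build f gs s acc
  | [], _, _, h => h
  | (j, k) :: s, acc, P, h => by
    simp only [build, force_eq]
    exact mem_build s _ (List.mem_append_left _ h)

theorem one_mem_tL : idc ∈ tL := mem_build _ _ (List.mem_singleton_self _)

theorem tL_step {x : ℕ} (hx : x ∈ tL) {g : ℕ} (hg : g ∈ tG) :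
    comp g x ∈ tL ∧ bit maskA (comp g x) = (bit maskA g == bit maskA x) ∧
      bit maskB (comp g x) = (bit maskB g == bit maskB x) := by
  have h := tL_closed
  simp only [List.all_eq_true, Bool.and_eq_true, beq_iff_eq, List.contains_iff_mem] at h
  obtain ⟨⟨h1, h2⟩, h3⟩ := h x hx g hg
  exact ⟨h1, h2, h3⟩

/-- the common centraliser of the two involutions, as a list subgroup -/
noncomputable def tSub : Subgroup Hp :=
  listSub tL tG tS tgW rfl rfl one_mem_tL fun _ hx _ hg => (tL_step hx hg).1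

theorem mem_tSub {g : Hp} : g ∈ tSub ↔ cd g ∈ tL := Iff.rfl

theorem card_tSub : Nat.card tSub = 64 := by
  have h := tL_ok
  simp only [Bool.and_eq_true, decide_eq_true_eq, beq_iff_eq] at h
  obtain ⟨⟨⟨⟨hn, hlen⟩, -⟩, -⟩, -⟩ := h
  exact (card_list hn (listed (ws := tgW) rfl tS)).trans hlen

theorem tP_mem : tP ∈ tSub ∧ uP ∈ tSub := by
  have h := tL_ok
  simp only [Bool.and_eq_true, decide_eq_true_eq, beq_iff_eq, List.contains_iff_mem] at h
  obtain ⟨⟨⟨⟨-, -⟩, ht⟩, hu⟩, -⟩ := h
  exact ⟨mem_tSub.2 (by rw [cd_tP]; exact ht), mem_tSub.2 (by rw [cd_uP]; exact hu)⟩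

/-- the common centraliser -/
noncomputable abbrev cP : Subgroup Hp := centralizer ({tP, uP} : Set Hp)

theorem tSub_le : tSub ≤ cP := by
  intro g hg
  have key : ∀ P ∈ tL, ∃ h : Hp, cd h = P ∧ h ∈ cP := by
    have ht := tL_ok
    simp only [Bool.and_eq_true, List.all_eq_true, beq_iff_eq] at ht
    obtain ⟨-, hgens⟩ := ht
    refine build_mem ⟨1, cd_one, one_mem _⟩ (fun j P hP => ?_) tS [idc] fun P hP => ?_
    · obtain ⟨h, hh, hc⟩ := hP
      by_cases hj : j < tG.length
      · have hjw : j < tgW.length := by simpa [tG] using hj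
        have hcd : cd (wordE tgW[j]) = tG[j]'hj := by rw [cd_wordE]; simp [tG]
        obtain ⟨h1, h2⟩ := hgens _ (List.getElem_mem hj)
        refine ⟨wordE tgW[j] * h, by rw [cd_mul, hh, hcd, List.getD_eq_getElem _ _ hj],
          cP.mul_mem ?_ hc⟩
        exact HSRecog28.Local.memT.mpr ⟨comm_of hcd cd_tP h1, comm_of hcd cd_uP h2⟩
      · rw [List.getD_eq_default _ _ (by omega)]
        exact ⟨h, by rw [← cd_one, ← hh, ← cd_mul, one_mul], hc⟩
    · rw [List.mem_singleton] at hP
      exact ⟨1, cd_one.trans hP.symm, one_mem _⟩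
  obtain ⟨h, hh, hc⟩ := key _ hg
  exact cd_inj hh ▸ hc

/-- the centraliser of the central involution -/
noncomputable abbrev hH : Subgroup Hp := centralizer ({tP} : Set Hp)

theorem cP_eq (hC : Nat.card hH = 7680) : cP = tSub := by
  refine (eq_of_le_of_card_ge tSub_le ?_).symm
  let D : Subgroup hH := (centralizer ({uP} : Set Hp)).subgroupOf hH
  have hD : Nat.card D = Nat.card cP := by
    refine Nat.card_congr
      ⟨fun x => ⟨x.1.1, HSRecog28.Local.memT.mpr ⟨mem_cent.mp x.1.2, mem_cent.mp x.2⟩⟩,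
        fun x => ⟨⟨x.1, mem_cent.mpr (HSRecog28.Local.memT.mp x.2).1⟩,
          mem_cent.mpr (HSRecog28.Local.memT.mp x.2).2⟩, fun _ => rfl, fun _ => rfl⟩
  let f : hH ⧸ D → Hp := fun q => (q.out : Hp) * uP * (q.out : Hp)⁻¹
  have hf : ∀ c : hH, f c = (c : Hp) * uP * (c : Hp)⁻¹ := by
    intro c
    obtain ⟨e, he⟩ := QuotientGroup.mk_out_eq_mul D c
    have h1 := mem_cent.mp e.2
    simp only [f, he, Subgroup.coe_mul]
    rw [mul_inv_rev, mul_assoc ((c : Hp)), show ((e : hH) : Hp) * uP = uP * ((e : hH) : Hp) from h1]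
    group
  have hu := uL_ok
  simp only [Bool.and_eq_true, decide_eq_true_eq, beq_iff_eq] at hu
  have hcl : ∀ P ∈ uL, Cls hH uP P := cls_build le_rfl _ _ fun P hP => by
    rw [List.mem_singleton] at hP
    exact Or.inr ⟨1, one_mem _, by rw [one_mul, inv_one, mul_one, cd_uP, hP]⟩
  have hsurj : ∀ P ∈ uL, P = idc ∨ ∃ q : hH ⧸ D, cd (f q) = P := by
    intro P hP
    rcases hcl P hP with h | ⟨g, hg, h⟩
    · exact Or.inl h
    · exact Or.inr ⟨(⟨g, hg⟩ : hH), by rw [hf]; exact h⟩
  classical
  haveI : Fintype (hH ⧸ D) := Fintype.ofFinite _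
  have hle : uL.toFinset ⊆ insert idc (Finset.univ.image fun q => cd (f q)) := by
    intro P hP
    rcases hsurj P (List.mem_toFinset.1 hP) with h | ⟨q, hq⟩
    · exact Finset.mem_insert.2 (Or.inl h)
    · exact Finset.mem_insert_of_mem (Finset.mem_image.2 ⟨q, Finset.mem_univ _, hq⟩)
  have hcard := (Finset.card_le_card hle).trans ((Finset.card_insert_le _ _).trans
    (Nat.succ_le_succ Finset.card_image_le))
  rw [List.toFinset_card_of_nodup hu.1, hu.2, Finset.card_univ, ← Nat.card_eq_fintype_card,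
    ← Subgroup.index] at hcard
  have hmul := D.index_mul_card
  rw [hC, hD] at hmul
  rw [card_tSub]
  have h64 : Nat.card tSub ∣ Nat.card cP := Subgroup.card_dvd_of_le tSub_le
  rw [card_tSub] at h64
  obtain ⟨k, hk⟩ := h64
  rw [hk] at hmul ⊢
  have : 119 * (64 * k) ≤ 7680 := by rw [← hmul]; exact Nat.mul_le_mul_right _ (by omega)
  omega

theorem bit_mul (m : ℕ) (hm : m = maskA ∨ m = maskB) {x y : Hp} (hx : x ∈ tSub) (hy : y ∈ tSub) :
    bit m (cd (x * y)) = (bit m (cd x) == bit m (cd y)) := by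
  have h1 : bit m idc = true := by
    have h := masks_ok
    simp only [Bool.and_eq_true] at h
    rcases hm with rfl | rfl
    exacts [h.1.1.1.1.1, h.1.1.1.1.2]
  have key : ∀ P ∈ tL, ∃ g : Hp, cd g = P ∧ ∀ y : Hp, cd y ∈ tL →
      cd (g * y) ∈ tL ∧ bit m (cd (g * y)) = (bit m (cd g) == bit m (cd y)) := by
    refine build_mem ⟨1, cd_one, fun y hy => ⟨by rwa [one_mul], by rw [one_mul, cd_one, h1]; simp⟩⟩
      (fun j P hP => ?_) tS [idc] fun P hP => ?_
    · obtain ⟨g, hg, hgy⟩ := hP
      by_cases hj : j < tG.length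
      · have hjw : j < tgW.length := by simpa [tG] using hj
        have hcd : cd (wordE tgW[j]) = tG[j]'hj := by rw [cd_wordE]; simp [tG]
        refine ⟨wordE tgW[j] * g, by rw [cd_mul, hg, hcd, List.getD_eq_getElem _ _ hj],
          fun y hy => ?_⟩
        obtain ⟨h2, h3⟩ := hgy y hy
        have hgt : cd g ∈ tL := by
          have := (hgy 1 (by rw [cd_one]; exact one_mem_tL)).1
          rwa [mul_one] at this
        have s1 := tL_step h2 (List.getElem_mem hj)
        have s2 := tL_step hgt (List.getElem_mem hj)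
        rw [mul_assoc, cd_mul, cd_mul (wordE tgW[j]) g, hcd]
        refine ⟨s1.1, ?_⟩
        rcases hm with rfl | rfl
        · rw [s1.2.1, s2.2.1, h3]; cases bit maskA tG[j] <;> cases bit maskA (cd g) <;>
            cases bit maskA (cd y) <;> rfl
        · rw [s1.2.2, s2.2.2, h3]; cases bit maskB tG[j] <;> cases bit maskB (cd g) <;>
            cases bit maskB (cd y) <;> rfl
      · rw [List.getD_eq_default _ _ (by omega)]
        exact ⟨g, by rw [← cd_one, ← hg, ← cd_mul, one_mul], hgy⟩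
    · rw [List.mem_singleton] at hP
      exact ⟨1, cd_one.trans hP.symm, fun y hy => ⟨by rwa [one_mul],
        by rw [one_mul, cd_one, h1]; simp⟩⟩
  obtain ⟨g, hg, hgy⟩ := key _ hx
  cases cd_inj hg
  exact (hgy y hy).2

/-- a subgroup of index two of the common centraliser -/
noncomputable def half (m : ℕ) (hm : m = maskA ∨ m = maskB) : Subgroup Hp where
  carrier := {g | g ∈ tSub ∧ bit m (cd g) = true}
  one_mem' := ⟨one_mem _, by
    have h := masks_ok
    simp only [Bool.and_eq_true] at h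
    rw [cd_one]
    rcases hm with rfl | rfl
    exacts [h.1.1.1.1.1, h.1.1.1.1.2]⟩
  mul_mem' := fun {a b} ha hb => ⟨tSub.mul_mem ha.1 hb.1, by
    rw [bit_mul m hm ha.1 hb.1, ha.2, hb.2]; rfl⟩
  inv_mem' := fun {a} ha => ⟨tSub.inv_mem ha.1, by
    have h := bit_mul m hm (tSub.inv_mem ha.1) ha.1
    rw [inv_mul_cancel, ha.2] at h
    have h1 := masks_ok
    simp only [Bool.and_eq_true] at h1
    rw [cd_one, show bit m idc = true by rcases hm with rfl | rfl
                                         exacts [h1.1.1.1.1.1, h1.1.1.1.1.2]] at h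
    simpa using h.symm⟩

theorem half_index (m : ℕ) (hm : m = maskA ∨ m = maskB) :
    ((half m hm).subgroupOf tSub).index = 2 := by
  obtain ⟨g, hg, hgb⟩ : ∃ g : tSub, cd (g : Hp) ∈ tG ∧ bit m (cd (g : Hp)) = false := by
    have h := masks_ok
    simp only [Bool.and_eq_true, List.any_eq_true, Bool.not_eq_true'] at h
    obtain ⟨P, hP, hb⟩ : ∃ P ∈ tG, bit m P = false := by
      rcases hm with rfl | rfl
      exacts [h.1.2, h.2]
    obtain ⟨w, -, rfl⟩ := List.mem_map.1 hP
    have hmem : cd (wordE w) ∈ tL := by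
      have := (tL_step one_mem_tL hP).1
      rwa [← cd_wordE, ← cd_one, ← cd_mul, mul_one] at this
    exact ⟨⟨wordE w, mem_tSub.2 hmem⟩, by rw [cd_wordE]; exact hP, by rw [cd_wordE]; exact hb⟩
  rw [index_eq_two_iff]
  refine ⟨g, fun b => ?_⟩
  have hb := bit_mul m hm b.2 g.2
  have hx : ∀ x : tSub, x ∈ (half m hm).subgroupOf tSub ↔ bit m (cd (x : Hp)) = true := fun x =>
    mem_subgroupOf.trans (and_iff_right x.2)
  rw [hx, hx, Subgroup.coe_mul, hb, hgb]
  cases bit m (cd (b : Hp)) <;> simp [Xor]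

theorem classes_model {x : Hp} (hx : orderOf x = 2) :
    (∃ g, g * tP * g⁻¹ = x) ∨ (∃ g, g * uP * g⁻¹ = x) := by
  haveI : Fact (Nat.Prime 2) := ⟨Nat.prime_two⟩
  have hs := sL_ok
  simp only [Bool.and_eq_true, beq_iff_eq, List.contains_iff_mem] at hs
  have hc : ∀ P ∈ sL, ∀ g ∈ sG, comp g P ∈ sL := by
    have h := sL_closed
    simpa only [List.all_eq_true, List.contains_iff_mem] using h
  let S : Subgroup Hp := listSub sL sG sS sgW rfl rfl hs.2 hc
  have hS : Nat.card S = 2 ^ 9 :=
    (card_list sL_nodup (listed (ws := sgW) rfl sS)).trans hs.1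
  obtain ⟨P, hP⟩ := (IsPGroup.of_card hS).exists_le_sylow
  have hPS : (P : Subgroup Hp) = S := by
    refine (eq_of_le_of_card_ge hP ?_).symm
    rw [P.card_eq_multiplicity, card_Hp, hS]
    refine Nat.pow_le_pow_right (by norm_num) ?_
    rw [show (44352000 : ℕ) = 2 ^ 9 * 86625 by norm_num, Nat.factorization_mul (by norm_num)
      (by norm_num), Finsupp.add_apply, Nat.Prime.factorization_pow Nat.prime_two,
      Finsupp.single_eq_same, Nat.factorization_eq_zero_of_not_dvd (by norm_num : ¬ 2 ∣ 86625)]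
  obtain ⟨Q, hQ⟩ : ∃ Q : Sylow 2 Hp, Subgroup.zpowers x ≤ Q :=
    (IsPGroup.of_card (p := 2) (n := 1) (by rw [Nat.card_zpowers, hx, pow_one])).exists_le_sylow
  obtain ⟨g, hg⟩ := MulAction.exists_smul_eq Hp Q P
  have hmem : g * x * g⁻¹ ∈ S := by
    rw [← hPS, ← hg, Sylow.coe_subgroup_smul]
    exact ⟨x, hQ (mem_zpowers x), rfl⟩
  have hgx : orderOf (g * x * g⁻¹) = 2 := by rw [order_conj, hx]
  have hinv := sL_inv
  simp only [List.all_eq_true, Bool.or_eq_true, beq_iff_eq, bne_iff_ne,
    List.contains_iff_mem] at hinv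
  rcases hinv _ hmem with ((h | h) | h) | h
  · exact absurd (cd_inj (h.trans cd_one.symm)) (ne_one_of hgx)
  · exact absurd (by rw [← cd_mul, mul_self_of hgx, cd_one]) h
  · obtain ⟨k, -, hk⟩ := of_cls (ne_one_of hgx) (cls_accT _ h)
    exact Or.inl ⟨g⁻¹ * k, by
      calc g⁻¹ * k * tP * (g⁻¹ * k)⁻¹ = g⁻¹ * (k * tP * k⁻¹) * g := by group
        _ = x := by rw [hk]; group⟩
  · obtain ⟨k, -, hk⟩ := of_cls (ne_one_of hgx) (cls_accU _ h)
    exact Or.inr ⟨g⁻¹ * k, by
      calc g⁻¹ * k * uP * (g⁻¹ * k)⁻¹ = g⁻¹ * (k * uP * k⁻¹) * g := by group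
        _ = x := by rw [hk]; group⟩

/-- The centraliser of the second involution does not have order 7680. -/
theorem card_cent_u : Nat.card (centralizer ({uP} : Set Hp)) ≠ 7680 := by
  intro hc
  haveI : Fact (Nat.Prime 3) := ⟨Nat.prime_three⟩
  have h := nine_ok
  simp only [Bool.and_eq_true, beq_iff_eq, bne_iff_ne] at h
  obtain ⟨⟨⟨⟨⟨⟨⟨⟨ha, hb⟩, hab⟩, ha1⟩, hb1⟩, ha3⟩, hb3⟩, hba⟩, hba2⟩ := h
  let K := centralizer ({uP} : Set Hp)
  let a : K := ⟨wordE (nineW.getD 0 []), mem_cent.mpr (comm_of (cd_wordE _) cd_uP ha)⟩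
  let b : K := ⟨wordE (nineW.getD 1 []), mem_cent.mpr (comm_of (cd_wordE _) cd_uP hb)⟩
  have hcm : Commute a b := Subtype.ext (comm_of (cd_wordE _) (cd_wordE _) hab)
  have hea : a ^ 3 = 1 := Subtype.ext (cd_inj (by
    simp only [SubmonoidClass.coe_pow, OneMemClass.coe_one, pow_succ', pow_zero, mul_one,
      Subgroup.coe_mul, a]
    rw [cd_mul, cd_mul, cd_one, cd_wordE, ha3]))
  have heb : b ^ 3 = 1 := Subtype.ext (cd_inj (by
    simp only [SubmonoidClass.coe_pow, OneMemClass.coe_one, pow_succ', pow_zero, mul_one,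
      Subgroup.coe_mul, b]
    rw [cd_mul, cd_mul, cd_one, cd_wordE, hb3]))
  have hP : IsPGroup 3 (Subgroup.closure ({a, b} : Set K)) := by
    have hle : ∀ x ∈ Subgroup.closure ({a, b} : Set K), x ^ 3 = 1 := by
      haveI : IsMulCommutative (Subgroup.closure ({a, b} : Set K)) :=
        Subgroup.isMulCommutative_closure (by
          rintro x (rfl | rfl) y (rfl | rfl)
          exacts [rfl, hcm, hcm.symm, rfl])
      intro x hx
      induction hx using Subgroup.closure_induction with
      | mem y hy =>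
        rcases hy with rfl | rfl
        exacts [hea, heb]
      | one => exact one_pow _
      | mul y z hy hz h1 h2 =>
        have : Commute y z :=
          congrArg Subtype.val (mul_comm' (⟨y, hy⟩ : Subgroup.closure ({a, b} : Set K)) ⟨z, hz⟩)
        rw [this.mul_pow, h1, h2, one_mul]
      | inv y _ h1 => rw [inv_pow, h1, inv_one]
    exact fun x => ⟨1, Subtype.ext (by simpa using hle x x.2)⟩
  obtain ⟨P, hPle⟩ := hP.exists_le_sylow
  have hcard : Nat.card (P : Subgroup K) = 3 := by
    rw [P.card_eq_multiplicity, hc, show (7680 : ℕ) = 3 * 2560 by norm_num,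
      Nat.factorization_mul (by norm_num) (by norm_num), Finsupp.add_apply,
      Nat.Prime.factorization Nat.prime_three, Finsupp.single_eq_same,
      Nat.factorization_eq_zero_of_not_dvd (by norm_num : ¬ 3 ∣ 2560)]
    rfl
  have haP : a ∈ (P : Subgroup K) := hPle (Subgroup.subset_closure (Or.inl rfl))
  have hbP : b ∈ (P : Subgroup K) := hPle (Subgroup.subset_closure (Or.inr rfl))
  have hane : a ≠ 1 := fun e => ha1 (by
    rw [← cd_wordE]; exact (congrArg (fun x : K => cd (x : Hp)) e).trans cd_one)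
  have hoa : orderOf a = 3 := orderOf_eq_prime hea hane
  have hz : Subgroup.zpowers a = (P : Subgroup K) :=
    eq_of_le_of_card_ge (Subgroup.zpowers_le.mpr haP) (by rw [Nat.card_zpowers, hoa, hcard])
  rw [← hz, ← mem_powers_iff_mem_zpowers, (isOfFinOrder_of_finite a).mem_powers_iff_mem_range_orderOf,
    hoa] at hbP
  simp only [Finset.mem_image, Finset.mem_range] at hbP
  obtain ⟨k, hk, hkb⟩ := hbP
  have hcd := congrArg (fun x : K => cd (x : Hp)) hkb
  interval_cases k
  · exact hb1 (((cd_wordE _).symm.trans hcd.symm).trans cd_one)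
  · rw [pow_one] at hcd
    exact hba (((cd_wordE _).symm.trans hcd.symm).trans (cd_wordE _))
  · refine hba2 ?_
    simp only [SubmonoidClass.coe_pow, pow_two, Subgroup.coe_mul, a, b] at hcd
    rw [cd_mul, cd_wordE, cd_wordE] at hcd
    exact hcd.symm

theorem not_conj_model (hC : Nat.card hH = 7680) (g : Hp) : g * tP * g⁻¹ ≠ uP := by
  intro h
  refine card_cent_u ?_
  have he : centralizer ({uP} : Set Hp) = hH.map (MulAut.conj g).toMonoidHom := by
    ext x
    simp only [mem_map, MulEquiv.coe_toMonoidHom, MulAut.conj_apply, mem_cent, ← h]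
    constructor
    · intro hx
      refine ⟨g⁻¹ * x * g, ?_, by group⟩
      have := congrArg (fun y => g⁻¹ * y * g) hx
      simpa [mul_assoc] using this
    · rintro ⟨y, hy, rfl⟩
      calc g * y * g⁻¹ * (g * tP * g⁻¹) = g * (y * tP) * g⁻¹ := by group
        _ = g * (tP * y) * g⁻¹ := by rw [hy]
        _ = g * tP * g⁻¹ * (g * y * g⁻¹) := by group
  rw [he, card_map_of_injective (MulAut.conj g).injective, hC]

universe u

/-- **A subgroup of Higman–Sims type containing the centraliser of the involution is everything.** -/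
theorem eq_top_of_iso {G : Type u} [Group G] [Finite G] (G0 : Subgroup G) (e : G0 ≃* Hp) {t : G}
    (ht : orderOf t = 2) (hcent : centralizer ({t} : Set G) ≤ G0)
    (hcard : Nat.card (centralizer ({t} : Set G)) = 7680) : G0 = ⊤ := by
  have htG : t ∈ G0 := hcent (mem_cent.mpr rfl)
  set f : Hp →* G := G0.subtype.comp e.symm.toMonoidHom with hf
  have hfinj : Function.Injective f := G0.subtype_injective.comp e.symm.injective
  have hfrange : ∀ x ∈ G0, ∃ p, f p = x := fun x hx => ⟨e ⟨x, hx⟩, by simp [hf]⟩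
  have hfmem : ∀ p, f p ∈ G0 := fun p => (e.symm p).2
  set τ : Hp := e ⟨t, htG⟩ with hτ
  have hfτ : f τ = t := by simp [hf, hτ]
  have hoτ : orderOf τ = 2 := by rw [← orderOf_injective f hfinj, hfτ, ht]
  have hcardc : ∀ x : Hp, f x = t → Nat.card (centralizer ({x} : Set Hp)) = 7680 := by
    intro x hx
    have he : (centralizer ({x} : Set Hp)).map f = centralizer ({t} : Set G) := by
      ext y
      simp only [mem_map, mem_cent]
      constructor
      · rintro ⟨p, hp, rfl⟩
        rw [← hx, ← map_mul, hp, map_mul]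
      · intro hy
        obtain ⟨p, rfl⟩ := hfrange y (hcent (mem_cent.mpr hy))
        exact ⟨p, hfinj (by rw [map_mul, map_mul, hx]; exact hy), rfl⟩
    rw [← card_map_of_injective hfinj, he, hcard]
  obtain ⟨g, hg⟩ : ∃ g, g * tP * g⁻¹ = τ := by
    rcases classes_model hoτ with h | ⟨g, hg⟩
    · exact h
    · refine absurd ?_ card_cent_u
      have h1 := hcardc τ hfτ
      have he : centralizer ({τ} : Set Hp) =
          (centralizer ({uP} : Set Hp)).map (MulAut.conj g).toMonoidHom := by
        ext x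
        simp only [mem_map, MulEquiv.coe_toMonoidHom, MulAut.conj_apply, mem_cent, ← hg]
        constructor
        · intro hx
          refine ⟨g⁻¹ * x * g, ?_, by group⟩
          have := congrArg (fun y => g⁻¹ * y * g) hx
          simpa [mul_assoc] using this
        · rintro ⟨y, hy, rfl⟩
          calc g * y * g⁻¹ * (g * uP * g⁻¹) = g * (y * uP) * g⁻¹ := by group
            _ = g * (uP * y) * g⁻¹ := by rw [hy]
            _ = g * uP * g⁻¹ * (g * y * g⁻¹) := by group
      rwa [he, card_map_of_injective (MulAut.conj g).injective] at h1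
  set F : Hp →* G := f.comp (MulAut.conj g).toMonoidHom with hF
  have hFinj : Function.Injective F := hfinj.comp (MulAut.conj g).injective
  have hFmem : ∀ p, F p ∈ G0 := fun p => hfmem _
  have hFrange : ∀ x ∈ G0, ∃ p, F p = x := fun x hx => by
    obtain ⟨p, rfl⟩ := hfrange x hx
    exact ⟨g⁻¹ * p * g, congrArg f (by simp [mul_assoc])⟩
  have hFt : F tP = t := by
    rw [← hfτ, ← hg]; rfl
  have hC : Nat.card hH = 7680 := by
    have he : hH.map F = centralizer ({t} : Set G) := by
      ext y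
      simp only [mem_map, mem_cent]
      constructor
      · rintro ⟨p, hp, rfl⟩
        rw [← hFt, ← map_mul, hp, map_mul]
      · intro hy
        obtain ⟨p, rfl⟩ := hFrange y (hcent (mem_cent.mpr hy))
        exact ⟨p, hFinj (by rw [map_mul, map_mul, hFt]; exact hy), rfl⟩
    rw [← card_map_of_injective hFinj, he, hcard]
  have hT : centralizer ({t, F uP} : Set G) = tSub.map F := by
    rw [← cP_eq hC]
    ext y
    simp only [mem_map, HSRecog28.Local.memT]
    constructor
    · rintro ⟨h1, h2⟩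
      obtain ⟨p, rfl⟩ := hFrange y (hcent (mem_cent.mpr h1))
      exact ⟨p, ⟨hFinj (by rw [map_mul, map_mul, hFt]; exact h1),
        hFinj (by rw [map_mul, map_mul]; exact h2)⟩, rfl⟩
    · rintro ⟨p, ⟨h1, h2⟩, rfl⟩
      exact ⟨by rw [← hFt, ← map_mul, h1, map_mul], by rw [← map_mul, h2, map_mul]⟩
  obtain ⟨hot, hou, hcomm⟩ := facts_t
  have hA : ∀ x ∈ tSub, (∃ k ∈ G0, k * t * k⁻¹ = F x) →
      bit maskA (cd x) = true ∧ bit maskB (cd x) = true := by
    rintro x hx ⟨k, hk, hkx⟩
    obtain ⟨p, rfl⟩ := hFrange k hk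
    rw [← hFt, ← map_inv, ← map_mul, ← map_mul] at hkx
    have hp := hFinj hkx
    have hx2 : orderOf x = 2 := by rw [← hp, order_conj, hot]
    have h := tL_inv
    simp only [List.all_eq_true, Bool.or_eq_true, Bool.and_eq_true, beq_iff_eq, bne_iff_ne,
      List.contains_iff_mem] at h
    rcases h (cd x) hx with (h1 | h1) | ⟨h1, -⟩
    · exact absurd (cd_inj (h1.trans cd_one.symm)) (ne_one_of hx2)
    · exact absurd (by rw [← cd_mul, mul_self_of hx2, cd_one]) h1
    · rcases h1 with h1 | h1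
      · exact h1
      · obtain ⟨q, -, hq⟩ := of_cls (ne_one_of hx2) (cls_accU _ h1)
        refine absurd ?_ (not_conj_model hC (q⁻¹ * p))
        calc q⁻¹ * p * tP * (q⁻¹ * p)⁻¹ = q⁻¹ * (p * tP * p⁻¹) * q := by group
          _ = uP := by rw [hp, ← hq]; group
  have hmasks := masks_ok
  simp only [Bool.and_eq_true, Bool.not_eq_true'] at hmasks
  obtain ⟨⟨⟨⟨⟨-, -⟩, huA⟩, huB⟩, -⟩, -⟩ := hmasks
  let ε : centralizer ({t, F uP} : Set G) ≃* tSub :=
    (MulEquiv.subgroupCongr hT).trans (tSub.equivMapOfInjective F hFinj).symm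
  have hε : ∀ x, F (ε x : Hp) = (x : G) := fun x =>
    congrArg Subtype.val ((tSub.equivMapOfInjective F hFinj).apply_symm_apply
      ((MulEquiv.subgroupCongr hT) x))
  have hεu : ∀ x : centralizer ({t, F uP} : Set G), (x : G) = F uP → (ε x : Hp) = uP := fun x hx =>
    hFinj ((hε x).trans hx)
  refine HSRecog28.Local.eq_top (G0 := G0) (t := t) (u := F uP) ?_
  refine
    { ot := ht
      ou := by rw [orderOf_injective F hFinj, hou]
      cent := hcent
      big := by rw [hcard]; norm_num
      classes := ?_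
      ucomm := by rw [← hFt, ← map_mul, hcomm, map_mul]
      cardT := by rw [hT, card_map_of_injective hFinj, card_tSub]
      derived := ?_
      centre := ?_
      exists_a := ?_
      exists_b := ?_
      second := ?_ }
  · intro x hx hox
    obtain ⟨p, rfl⟩ := hFrange x hx
    rw [orderOf_injective F hFinj] at hox
    rcases classes_model hox with ⟨k, hk⟩ | ⟨k, hk⟩
    · exact Or.inl ⟨F k, hFmem k, by rw [← hFt, ← map_inv, ← map_mul, ← map_mul, hk]⟩
    · exact Or.inr ⟨F k, hFmem k, by rw [← map_inv, ← map_mul, ← map_mul, hk]⟩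
  · rw [hT, ← map_commutator, ← hFt]
    refine mem_map_of_mem F ?_
    have h := pair_ok
    simp only [beq_iff_eq] at h
    have hget : ∀ i, ∃ q ∈ tSub, cd q = tL.getD i idc := by
      intro i
      have hmem : tL.getD i idc ∈ tL := by
        rw [List.getD_eq_getElem?_getD]
        cases hi : tL[i]? with
        | none => exact one_mem_tL
        | some y => exact List.mem_of_getElem? hi
      obtain ⟨q, hq⟩ := listed (ws := tgW) rfl tS _ hmem
      exact ⟨q, mem_tSub.2 (hq ▸ hmem), hq⟩
    obtain ⟨a, ha, hca⟩ := hget aPos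
    obtain ⟨b, hb, hcb⟩ := hget bPos
    rw [← hca, ← hcb, ← cd_tP, ← cd_mul, ← cd_mul, ← cd_mul] at h
    have htab : tP = a * b * a⁻¹ * b⁻¹ := by
      rw [cd_inj h]; group
    rw [htab, ← commutatorElement_def]
    exact commutator_mem_commutator ha hb
  · intro z hz hcz
    rw [hT, ← map_commutator] at hz
    obtain ⟨p, hp, rfl⟩ := hz
    have hle : ⁅tSub, tSub⁆ ≤ half maskB (Or.inr rfl) := commutator_le.2 fun a ha b hb => by
      refine ⟨by rw [commutatorElement_def]; exact tSub.mul_mem (tSub.mul_mem (tSub.mul_mem ha hb)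
        (tSub.inv_mem ha)) (tSub.inv_mem hb), ?_⟩
      have hi : ∀ x ∈ tSub, bit maskB (cd x⁻¹) = bit maskB (cd x) := by
        intro x hx
        have h := bit_mul maskB (Or.inr rfl) (tSub.inv_mem hx) hx
        have h1 : bit maskB (cd (1 : Hp)) = true := (half maskB (Or.inr rfl)).one_mem.2
        rw [inv_mul_cancel, h1] at h
        simpa using h.symm
      rw [commutatorElement_def, bit_mul _ (Or.inr rfl) (tSub.mul_mem (tSub.mul_mem ha hb)
        (tSub.inv_mem ha)) (tSub.inv_mem hb), bit_mul _ (Or.inr rfl) (tSub.mul_mem ha hb)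
        (tSub.inv_mem ha), bit_mul _ (Or.inr rfl) ha hb, hi a ha, hi b hb]
      cases bit maskB (cd a) <;> cases bit maskB (cd b) <;> rfl
    obtain ⟨hpT, hpB⟩ := hle hp
    have hcp : ∀ q ∈ tSub, p * q = q * p := fun q hq => hFinj (by
      rw [map_mul, map_mul]
      exact hcz (F q) (by rw [hT]; exact mem_map_of_mem F hq))
    have h := tL_centre
    simp only [List.all_eq_true, Bool.or_eq_true, List.any_eq_true, beq_iff_eq,
      bne_iff_ne] at h
    rcases h (cd p) hpT with (((h1 | h1) | h1) | h1) | ⟨P, hP, hne⟩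
    · exact Or.inl (by rw [cd_inj (h1.trans cd_one.symm), map_one])
    · exact Or.inr (by rw [cd_inj (h1.trans cd_tP.symm), hFt])
    · rw [h1, huB] at hpB; exact Bool.noConfusion hpB
    · rw [← cd_tP, ← cd_uP, ← cd_mul] at h1
      rw [h1] at hpB
      rw [bit_mul maskB (Or.inr rfl) tP_mem.1 tP_mem.2, cd_uP, huB,
        (hA tP tP_mem.1 ⟨1, one_mem _, by rw [hFt]; simp⟩).2] at hpB
      exact Bool.noConfusion hpB
    · obtain ⟨q, -, rfl⟩ := List.mem_map.1 hP
      refine absurd ?_ hne
      have hq : wordE q ∈ tSub := by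
        have := (tL_step one_mem_tL hP).1
        rw [← cd_wordE, ← cd_one, ← cd_mul, mul_one] at this
        exact mem_tSub.2 this
      rw [← cd_wordE, ← cd_mul, ← cd_mul, hcp _ hq]
  · refine ⟨((half maskA (Or.inl rfl)).subgroupOf tSub).comap ε.toMonoidHom, ?_, ?_, ?_, ?_⟩
    · rw [index_comap_of_surjective _ ε.surjective, half_index]
    · intro x hx
      refine ⟨(ε x).2, ?_⟩
      show bit maskA (cd (ε x : Hp)) = true
      rw [hεu x hx, cd_uP]; exact huA
    · intro x hx
      exact ⟨(ε x).2, (hA _ (ε x).2 (by rw [hε]; exact hx)).1⟩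
    · rintro x ⟨hxT, hxA⟩ hox hne
      simp only [MulEquiv.coe_toMonoidHom] at hxA hxT
      have hox' : orderOf (ε x : Hp) = 2 := by rw [← orderOf_injective F hFinj, hε, hox]
      have h := tL_inv
      simp only [List.all_eq_true, Bool.or_eq_true, Bool.and_eq_true, Bool.not_eq_true',
        beq_iff_eq, bne_iff_ne, List.contains_iff_mem] at h
      rcases h (cd (ε x : Hp)) hxT with (h1 | h1) | ⟨-, h1⟩
      · exact absurd (cd_inj (h1.trans cd_one.symm)) (ne_one_of hox')
      · exact absurd (by rw [← cd_mul, mul_self_of hox', cd_one]) h1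
      rcases h1 with ((h1 | h1) | h1) | h1
      · exact Bool.noConfusion ((show bit maskA (cd (ε x : Hp)) = true from hxA).symm.trans h1)
      · refine absurd ?_ hne
        rw [← hε, cd_inj (h1.trans cd_uP.symm)]
      · obtain ⟨q, -, hq⟩ := of_cls (ne_one_of hox') (cls_accT _ h1)
        refine Or.inl ⟨F q, hFmem q, ?_⟩
        have := congrArg F hq
        rwa [map_mul, map_mul, map_inv, hFt, hε] at this
      · rw [← cd_uP, ← cd_mul] at h1
        have hne1 : (ε x : Hp) * uP ≠ 1 := fun e0 => hne (by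
          rw [← hε, eq_inv_of_mul_eq_one_left e0, HSRecog28.inv_of hou])
        obtain ⟨q, -, hq⟩ := of_cls hne1 (cls_accT _ h1)
        refine Or.inr ⟨F q, hFmem q, ?_⟩
        have := congrArg F hq
        rwa [map_mul, map_mul, map_inv, hFt, map_mul, hε] at this
  · refine ⟨((half maskB (Or.inr rfl)).subgroupOf tSub).comap ε.toMonoidHom, ?_, ?_, ?_⟩
    · rw [index_comap_of_surjective _ ε.surjective, half_index]
    · intro x hx hmem
      have := hmem.2
      simp only [MulEquiv.coe_toMonoidHom, Subgroup.coe_subtype] at this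
      rw [hεu x hx, cd_uP, huB] at this
      exact Bool.noConfusion this
    · intro x hx
      exact ⟨(ε x).2, (hA _ (ε x).2 (by rw [hε]; exact hx)).2⟩
  · have h := second_ok
    simp only [Bool.and_eq_true, decide_eq_true_eq, beq_iff_eq, bne_iff_ne] at h
    obtain ⟨⟨⟨⟨⟨⟨hlt, hbu⟩, hwu⟩, hwb⟩, hb1⟩, hw1⟩, hw3⟩ := h
    have hmem : accT.getD cPos idc ∈ accT := by
      rw [List.getD_eq_getElem _ _ hlt]; exact List.getElem_mem hlt
    rcases cls_accT _ hmem with h1 | ⟨q, -, hq⟩
    · exact absurd h1 hb1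
    · refine ⟨F (q * tP * q⁻¹), F (wordE wW), ⟨F q, hFmem q, by
        rw [← hFt, ← map_inv, ← map_mul, ← map_mul]⟩, ?_, ?_, ?_, ?_⟩
      · rw [← map_mul, ← map_mul, comm_of hq cd_uP hbu]
      · rw [orderOf_injective F hFinj]
        refine orderOf_eq_prime (cd_inj ?_) fun e0 => hw1 ?_
        · rw [pow_succ', pow_two, cd_mul, cd_mul, cd_wordE, cd_one, hw3]
        · rw [← cd_wordE, e0, cd_one]
      · rw [← map_mul, ← map_mul, comm_of (cd_wordE _) cd_uP hwu]
      · rw [← map_mul, ← map_mul, comm_of (cd_wordE _) hq hwb]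

end Cfsg.Agent.HSRecog28Model
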