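import Mathlib
import Cfsg.Agent.Lib.TransferThompson

/-!
A subgroup containing the centraliser of an involution of Higman–Sims type is the whole group:
the pair argument for two non-conjugate involutions, the second centraliser being controlled by
two transfers.
-/

set_option autoImplicit false
set_option linter.style.haveILetI false

namespace Cfsg.Agent.HSRecog28

open Subgroup

universe u

variable {G : Type u} [Group G]

/-- `i` fixes exactly one coset of `K0`. -/
def Pin (K0 : Subgroup G) (i : G) : Prop := ∀ g : G, g * i * g⁻¹ ∈ K0 → g ∈ K0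

theorem order_two_of {x : G} (h : x * x = 1) (h1 : x ≠ 1) : orderOf x = 2 :=
  orderOf_eq_prime (by rw [pow_two]; exact h) h1

theorem mul_self_of {x : G} (h : orderOf x = 2) : x * x = 1 := by
  rw [← pow_two, ← h, pow_orderOf_eq_one]

theorem ne_one_of {x : G} (h : orderOf x = 2) : x ≠ 1 := by
  rintro rfl; simp at h

theorem inv_of {x : G} (h : orderOf x = 2) : x⁻¹ = x :=
  inv_eq_of_mul_eq_one_right (mul_self_of h)

theorem order_conj (g x : G) : orderOf (g * x * g⁻¹) = orderOf x :=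
  (MulAut.conj g).orderOf_eq x

/-- Two non-conjugate involutions generate a dihedral group with a central involution. -/
theorem exists_mid [Finite G] (N : Subgroup G) {a b : G} (ha : orderOf a = 2) (hb : orderOf b = 2)
    (haN : a ∈ N) (hbN : b ∈ N) (hab : ∀ g : G, g * a * g⁻¹ ≠ b) :
    ∃ i ∈ N, orderOf i = 2 ∧ i * a = a * i ∧ i * b = b * i := by
  have hainv := inv_of ha
  have hbinv := inv_of hb
  set d := a * b with hd
  have hda : a * d * a⁻¹ = d⁻¹ := by
    rw [hd, mul_inv_rev, hainv, hbinv]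
    simp only [mul_assoc]
    rw [← mul_assoc a a, mul_self_of ha, one_mul]
  have hdb : b * d * b⁻¹ = d⁻¹ := by
    rw [hd, mul_inv_rev, hainv, hbinv]
    simp only [mul_assoc]
    rw [mul_self_of hb, mul_one]
  have key : ∀ (x : G) (k : ℕ), x * d * x⁻¹ = d⁻¹ → x * d ^ k * x⁻¹ = (d ^ k)⁻¹ := by
    intro x k hx
    rw [← conj_pow, hx, inv_pow]
  rcases Nat.even_or_odd (orderOf d) with ⟨k, hk⟩ | ⟨k, hk⟩
  · have hpos := orderOf_pos d
    have h2 : d ^ k * d ^ k = 1 := by rw [← pow_add, ← hk, pow_orderOf_eq_one]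
    have h1 : d ^ k ≠ 1 := fun h => by
      have := orderOf_le_of_pow_eq_one (by omega) h
      omega
    have hi : (d ^ k)⁻¹ = d ^ k := inv_eq_of_mul_eq_one_right h2
    refine ⟨d ^ k, N.pow_mem (N.mul_mem haN hbN) k, order_two_of h2 h1, ?_, ?_⟩
    · have := key a k hda
      rw [hi, mul_inv_eq_iff_eq_mul] at this
      exact this.symm
    · have := key b k hdb
      rw [hi, mul_inv_eq_iff_eq_mul] at this
      exact this.symm
  · refine absurd ?_ (hab (d ^ k))
    have h1 : d ^ k * d ^ (k + 1) = 1 := by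
      rw [← pow_add, show k + (k + 1) = orderOf d by omega, pow_orderOf_eq_one]
    have h2 : a * (d ^ k)⁻¹ = d ^ k * a := by
      have := key a k hda
      rw [mul_inv_eq_iff_eq_mul] at this
      calc a * (d ^ k)⁻¹ = a * ((d ^ k)⁻¹ * a) * a⁻¹ := by group
        _ = a * (a * d ^ k) * a⁻¹ := by rw [this]
        _ = d ^ k * a := by rw [← mul_assoc a a, mul_self_of ha, one_mul, hainv]
    rw [mul_assoc, h2, ← mul_assoc, ← pow_add]
    have h3 : d ^ (k + 1) = (d ^ k)⁻¹ := (inv_eq_of_mul_eq_one_right h1).symm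
    have h4 : d ^ (k + k) * d = 1 := by
      rw [← pow_succ, show k + k + 1 = orderOf d by omega, pow_orderOf_eq_one]
    rw [show d ^ (k + k) = d⁻¹ from eq_inv_of_mul_eq_one_left h4, hd, mul_inv_rev, hainv, hbinv,
      mul_assoc, mul_self_of ha, mul_one]

/-- **Pair lemma.** -/
theorem eq_top_of_pair [Finite G] (K0 N : Subgroup G) [hN : N.Normal] {a b : G}
    (ha : orderOf a = 2) (hb : orderOf b = 2) (haK : a ∈ K0) (hbK : b ∈ K0)
    (haN : a ∈ N) (hbN : b ∈ N) (hab : ∀ g : G, g * a * g⁻¹ ≠ b)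
    (hP : ∀ i ∈ K0, i ∈ N → orderOf i = 2 → Pin K0 i) : K0 = ⊤ := by
  rw [eq_top_iff']
  intro g
  have ha' : orderOf (g * a * g⁻¹) = 2 := by rw [order_conj, ha]
  obtain ⟨i, hiN, hi, hia, hib⟩ := exists_mid N ha' hb (hN.conj_mem a haN g) hbN
    (fun x hx => hab (x * g) (by rw [← hx]; group))
  have hiK : i ∈ K0 := hP b hbK hbN hb i (by rw [hib, mul_inv_cancel_right]; exact hbK)
  have : g * a * g⁻¹ ∈ K0 := by
    refine hP i hiK hiN hi _ ?_
    rw [← hia, mul_inv_cancel_right]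
    exact hiK
  exact hP a haK haN ha g this

/-- A character of a Sylow subgroup transferred to an involution. -/
theorem transfer_involution {K : Type u} [Group K] [Finite K] (P : Sylow 2 K)
    (M : Subgroup (P : Subgroup K)) (hM : M.index = 2) :
    ∃ N : Subgroup K, N.Normal ∧
      (∀ x : K, orderOf x = 2 →
        (∀ g : K, ∀ h : g⁻¹ * x * g ∈ (P : Subgroup K), (⟨_, h⟩ : (P : Subgroup K)) ∈ M) → x ∈ N) ∧
      (∀ x : K, orderOf x = 2 →
        (∀ g : K, ∀ h : g⁻¹ * x * g ∈ (P : Subgroup K), (⟨_, h⟩ : (P : Subgroup K)) ∉ M) → x ∉ N) := by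
  haveI : M.Normal := normal_of_index_eq_two hM
  haveI : Fact (Nat.Prime 2) := ⟨Nat.prime_two⟩
  haveI : IsCyclic ((P : Subgroup K) ⧸ M) := isCyclic_of_prime_card (p := 2) hM
  letI : CommGroup ((P : Subgroup K) ⧸ M) := IsCyclic.commGroup
  let ϕ : (P : Subgroup K) →* (P : Subgroup K) ⧸ M := QuotientGroup.mk' M
  have hpow : ∀ x : K, orderOf x = 2 → ∀ (g : K) (k : ℕ), 2 ∣ k →
      ∀ h : g⁻¹ * x ^ k * g ∈ (P : Subgroup K), ϕ ⟨_, h⟩ = 1 := by
    intro x hx g k hk h
    have h1 : x ^ k = 1 := orderOf_dvd_iff_pow_eq_one.mp (hx.symm ▸ hk)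
    have e : (⟨_, h⟩ : (P : Subgroup K)) = 1 := by
      apply Subtype.ext
      simp [h1]
    rw [e, map_one]
  refine ⟨(MonoidHom.transfer ϕ).ker, inferInstance, fun x hx hin => ?_, fun x hx hout => ?_⟩
  · obtain ⟨n, -, hV⟩ := TransferThompson.transfer_eq_pow_fixed ϕ (p := 2) (e := 1)
      (by rw [hx, pow_one]) 1 (hpow x hx) (fun g h => (QuotientGroup.eq_one_iff _).mpr (hin g h))
    rw [MonoidHom.mem_ker, hV, one_pow]
  · obtain ⟨c, hc⟩ := index_eq_two_iff.mp hM
    have hcM : c ∉ M := fun h => by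
      have := hc 1
      simp [M.one_mem, h] at this
    have hval : ∀ (g : K) (h : g⁻¹ * x * g ∈ (P : Subgroup K)), ϕ ⟨_, h⟩ = ϕ c := by
      intro g h
      refine QuotientGroup.eq.mpr ((mul_mem_iff_of_index_two hM).mpr ?_)
      rw [inv_mem_iff]
      exact iff_of_false (hout g h) hcM
    obtain ⟨n, hn, hV⟩ := TransferThompson.transfer_eq_pow_fixed ϕ (p := 2) (e := 1)
      (by rw [hx, pow_one]) (ϕ c) (hpow x hx) hval
    rw [MonoidHom.mem_ker, hV]
    intro h
    have hodd : n % 2 = 1 := by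
      have h1 := P.not_dvd_index
      rw [Nat.dvd_iff_mod_eq_zero] at h1
      have h2 : n % 2 = (P : Subgroup K).index % 2 := hn
      omega
    have hsq : ϕ c ^ 2 = 1 := by
      have h5 := pow_card_eq_one' (G := (P : Subgroup K) ⧸ M) (x := ϕ c)
      rwa [show Nat.card ((P : Subgroup K) ⧸ M) = 2 from hM] at h5
    rw [← Nat.div_add_mod n 2, hodd, pow_add, pow_mul, hsq, one_pow, one_mul, pow_one] at h
    exact hcM ((QuotientGroup.eq_one_iff _).mp h)

/-- The local facts of the configuration. -/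
structure Local (G0 : Subgroup G) (t u : G) : Prop where
  ot : orderOf t = 2
  ou : orderOf u = 2
  cent : centralizer ({t} : Set G) ≤ G0
  big : 128 ∣ Nat.card (centralizer ({t} : Set G))
  classes : ∀ x ∈ G0, orderOf x = 2 →
    (∃ g ∈ G0, g * t * g⁻¹ = x) ∨ (∃ g ∈ G0, g * u * g⁻¹ = x)
  ucomm : t * u = u * t
  cardT : Nat.card (centralizer ({t, u} : Set G)) = 64
  derived : t ∈ ⁅centralizer ({t, u} : Set G), centralizer ({t, u} : Set G)⁆
  centre : ∀ z ∈ ⁅centralizer ({t, u} : Set G), centralizer ({t, u} : Set G)⁆,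
    (∀ x ∈ centralizer ({t, u} : Set G), z * x = x * z) → z = 1 ∨ z = t
  exists_a : ∃ M : Subgroup (centralizer ({t, u} : Set G)), M.index = 2 ∧
    (∀ x : centralizer ({t, u} : Set G), (x : G) = u → x ∈ M) ∧
    (∀ x : centralizer ({t, u} : Set G), (∃ g ∈ G0, g * t * g⁻¹ = (x : G)) → x ∈ M) ∧
    (∀ x ∈ M, orderOf (x : G) = 2 → (x : G) ≠ u →
      (∃ g ∈ G0, g * t * g⁻¹ = (x : G)) ∨ (∃ g ∈ G0, g * t * g⁻¹ = (x : G) * u))
  exists_b : ∃ M : Subgroup (centralizer ({t, u} : Set G)), M.index = 2 ∧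
    (∀ x : centralizer ({t, u} : Set G), (x : G) = u → x ∉ M) ∧
    (∀ x : centralizer ({t, u} : Set G), (∃ g ∈ G0, g * t * g⁻¹ = (x : G)) → x ∈ M)
  second : ∃ b w : G, (∃ g ∈ G0, g * t * g⁻¹ = b) ∧ b * u = u * b ∧ orderOf w = 3 ∧
    w * u = u * w ∧ w * b = b * w

variable {G0 : Subgroup G} {t u : G}

theorem Local.memT {t u : G} {x : G} :
    x ∈ centralizer ({t, u} : Set G) ↔ x * t = t * x ∧ x * u = u * x := by
  simp only [mem_centralizer_iff, Set.mem_insert_iff, Set.mem_singleton_iff, forall_eq_or_imp,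
    forall_eq]
  exact and_congr eq_comm eq_comm

theorem mem_cent {a x : G} : x ∈ centralizer ({a} : Set G) ↔ x * a = a * x := by
  simp [mem_centralizer_singleton_iff, eq_comm]

theorem Local.T_le_K : centralizer ({t, u} : Set G) ≤ centralizer ({u} : Set G) := fun _ hx =>
  mem_cent.mpr (Local.memT.mp hx).2

theorem Local.T_le_H : centralizer ({t, u} : Set G) ≤ centralizer ({t} : Set G) := fun _ hx =>
  mem_cent.mpr (Local.memT.mp hx).1

/-- The centraliser of both is a Sylow subgroup of the centraliser of the second involution. -/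
theorem Local.sylow [Finite G] (L : Local G0 t u) :
    ∃ P : Sylow 2 (centralizer ({u} : Set G)),
      (P : Subgroup (centralizer ({u} : Set G))) =
        (centralizer ({t, u} : Set G)).subgroupOf (centralizer ({u} : Set G)) := by
  haveI : Fact (Nat.Prime 2) := ⟨Nat.prime_two⟩
  set K := centralizer ({u} : Set G) with hK
  set T := centralizer ({t, u} : Set G) with hT
  have hcard : Nat.card (T.subgroupOf K) = 2 ^ 6 := by
    rw [Nat.card_congr (subgroupOfEquivOfLe Local.T_le_K).toEquiv]; exact L.cardT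
  have hp : IsPGroup 2 (T.subgroupOf K) := IsPGroup.of_card hcard
  obtain ⟨P, hP⟩ := hp.exists_le_sylow
  refine ⟨P, le_antisymm ?_ hP⟩
  by_contra hne
  have hlt : (T.subgroupOf K).subgroupOf P < ⊤ :=
    lt_top_iff_ne_top.mpr fun h => hne (subgroupOf_eq_top.mp h)
  haveI := P.isPGroup'.isNilpotent
  have hgrow := normalizerCondition_of_isNilpotent (G := (P : Subgroup K)) _ hlt
  obtain ⟨g, hgN, hgT⟩ := SetLike.exists_of_lt hgrow
  apply hgT
  rw [mem_subgroupOf, mem_subgroupOf]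
  have hgK : ((g : K) : G) * u = u * ((g : K) : G) := mem_cent.mp (g : K).2
  set γ : G := ((g : K) : G) with hγ
  have hnorm : ∀ x ∈ T, γ * x * γ⁻¹ ∈ T := by
    intro x hx
    have hxP : (⟨x, Local.T_le_K hx⟩ : K) ∈ (P : Subgroup K) := hP (mem_subgroupOf.mpr hx)
    have := (mem_normalizer_iff.mp hgN ⟨_, hxP⟩).mp (by rw [mem_subgroupOf, mem_subgroupOf]; exact hx)
    rw [mem_subgroupOf, mem_subgroupOf] at this
    simpa [hγ] using this
  have hmap : T.map (MulAut.conj γ).toMonoidHom = T := by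
    refine eq_of_le_of_card_ge ?_ ?_
    · rintro _ ⟨x, hx, rfl⟩; exact hnorm x hx
    · rw [card_map_of_injective (MulAut.conj γ).injective]
  have hz : γ * t * γ⁻¹ ∈ ⁅T, T⁆ := by
    have := mem_map_of_mem (MulAut.conj γ).toMonoidHom L.derived
    rw [map_commutator, hmap] at this
    exact this
  have htT : t ∈ T := Local.memT.mpr ⟨rfl, L.ucomm⟩
  have hcen : ∀ x ∈ T, (γ * t * γ⁻¹) * x = x * (γ * t * γ⁻¹) := by
    intro x hx
    rw [← hmap] at hx
    obtain ⟨y, hy, rfl⟩ := hx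
    have := (Local.memT.mp hy).1
    simp only [MulEquiv.coe_toMonoidHom, MulAut.conj_apply]
    calc γ * t * γ⁻¹ * (γ * y * γ⁻¹) = γ * (t * y) * γ⁻¹ := by group
      _ = γ * (y * t) * γ⁻¹ := by rw [this]
      _ = γ * y * γ⁻¹ * (γ * t * γ⁻¹) := by group
  rcases L.centre _ hz hcen with h | h
  · exact absurd (conj_eq_one_iff.mp h) (ne_one_of L.ot)
  · exact Local.memT.mpr ⟨mul_inv_eq_iff_eq_mul.mp h, hgK⟩

theorem Local.not_conj [Finite G] (L : Local G0 t u) (g : G) : g * t * g⁻¹ ≠ u := by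
  intro h
  haveI : Fact (Nat.Prime 2) := ⟨Nat.prime_two⟩
  obtain ⟨P, hP⟩ := L.sylow
  have hc : Nat.card (centralizer ({u} : Set G)) = Nat.card (centralizer ({t} : Set G)) := by
    have he : centralizer ({u} : Set G) =
        (centralizer ({t} : Set G)).map (MulAut.conj g).toMonoidHom := by
      ext x
      simp only [mem_map, MulEquiv.coe_toMonoidHom, MulAut.conj_apply, mem_cent, ← h]
      constructor
      · intro hx
        refine ⟨g⁻¹ * x * g, ?_, by group⟩
        have := congrArg (fun y => g⁻¹ * y * g) hx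
        simpa [mul_assoc] using this
      · rintro ⟨y, hy, rfl⟩
        calc g * y * g⁻¹ * (g * t * g⁻¹) = g * (y * t) * g⁻¹ := by group
          _ = g * (t * y) * g⁻¹ := by rw [hy]
          _ = g * t * g⁻¹ * (g * y * g⁻¹) := by group
    rw [he, card_map_of_injective (MulAut.conj g).injective]
  have h1 := P.card_eq_multiplicity
  rw [hP, Nat.card_congr (subgroupOfEquivOfLe Local.T_le_K).toEquiv, L.cardT, hc] at h1
  have h2 : (2 : ℕ) ^ 7 ∣ Nat.card (centralizer ({t} : Set G)) := L.big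
  rw [Nat.prime_two.pow_dvd_iff_le_factorization Nat.card_pos.ne'] at h2
  have h3 := Nat.pow_le_pow_right (show 0 < 2 by norm_num) h2
  omega

theorem Local.conj_G0 [Finite G] (L : Local G0 t u) {x : G} (hx : x ∈ G0) {g : G}
    (h : g * t * g⁻¹ = x) : ∃ k ∈ G0, k * t * k⁻¹ = x := by
  rcases L.classes x hx (by rw [← h, order_conj, L.ot]) with h1 | ⟨k, -, hk⟩
  · exact h1
  · exact absurd (by rw [← hk] at h; calc k⁻¹ * g * t * (k⁻¹ * g)⁻¹ = k⁻¹ * (g * t * g⁻¹) * k := by group
        _ = u := by rw [h]; group) (L.not_conj (k⁻¹ * g))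

/-- Conjugates of the first involution fix one coset. -/
theorem Local.pin_t [Finite G] (L : Local G0 t u) {x : G} (hx : x ∈ G0) {g : G}
    (h : g * t * g⁻¹ = x) : Pin G0 x := by
  intro y hy
  obtain ⟨k, hk, hkt⟩ := L.conj_G0 hx h
  have hy' : (y * k) * t * (y * k)⁻¹ ∈ G0 := by
    convert hy using 1; rw [← hkt]; group
  obtain ⟨m, hm, hmt⟩ := L.conj_G0 hy' rfl
  have hc : m⁻¹ * (y * k) ∈ centralizer ({t} : Set G) := by
    rw [mem_cent, ← mul_inv_eq_iff_eq_mul]
    calc m⁻¹ * (y * k) * t * (m⁻¹ * (y * k))⁻¹ = m⁻¹ * ((y * k) * t * (y * k)⁻¹) * m := by group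
      _ = t := by rw [← hmt]; group
  have := G0.mul_mem (G0.mul_mem hm (L.cent hc)) (G0.inv_mem hk)
  convert this using 1
  group

/-- The centraliser of the second involution lies in the subgroup. -/
theorem Local.cent_u [Finite G] (L : Local G0 t u) : centralizer ({u} : Set G) ≤ G0 := by
  haveI : Fact (Nat.Prime 2) := ⟨Nat.prime_two⟩
  set K := centralizer ({u} : Set G) with hK
  set T := centralizer ({t, u} : Set G) with hT
  obtain ⟨P, hP⟩ := L.sylow
  have hTG : T ≤ G0 := Local.T_le_H.trans L.cent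
  have huT : u ∈ T := Local.memT.mpr ⟨L.ucomm.symm, rfl⟩
  let eP : (P : Subgroup K) ≃* T :=
    (MulEquiv.subgroupCongr hP).trans (subgroupOfEquivOfLe Local.T_le_K)
  have ePv : ∀ x : (P : Subgroup K), ((eP x : T) : G) = ((x : K) : G) := fun _ => rfl
  obtain ⟨Ma, hMa, hua, hAa, hbad⟩ := L.exists_a
  obtain ⟨Mb, hMb, hub, hAb⟩ := L.exists_b
  obtain ⟨Na, hNan, hNin, hNout⟩ := transfer_involution P (Ma.comap eP.toMonoidHom)
    (by rw [index_comap_of_surjective _ eP.surjective, hMa])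
  obtain ⟨Nb, hNbn, hNbin, hNbout⟩ := transfer_involution P (Mb.comap eP.toMonoidHom)
    (by rw [index_comap_of_surjective _ eP.surjective, hMb])
  obtain ⟨b, w, ⟨gb, hgb, hb⟩, hbu, how, hwu, hwb⟩ := L.second
  have huK : u ∈ K := mem_cent.mpr rfl
  have htK : t ∈ K := mem_cent.mpr L.ucomm
  have hbK : b ∈ K := mem_cent.mpr hbu
  have htG : t ∈ G0 := L.cent (mem_cent.mpr rfl)
  have hbG : b ∈ G0 := hb ▸ G0.mul_mem (G0.mul_mem hgb htG) (G0.inv_mem hgb)
  have oK : ∀ x : K, orderOf (x : G) = orderOf x := fun x => Subgroup.orderOf_coe x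
  have hinN : ∀ x : K, (∃ g : G, g * t * g⁻¹ = (x : G)) → x ∈ Na ⊓ Nb := by
    rintro x ⟨g, hg⟩
    have hx : orderOf x = 2 := by rw [← oK, ← hg, order_conj, L.ot]
    have hcl : ∀ (k : K) (h : k⁻¹ * x * k ∈ (P : Subgroup K)),
        ∃ m ∈ G0, m * t * m⁻¹ = ((eP ⟨_, h⟩ : T) : G) := by
      intro k h
      refine L.conj_G0 (hTG (eP ⟨_, h⟩).2) (g := (k : G)⁻¹ * g) ?_
      rw [ePv]
      simp only [Subgroup.coe_mul, Subgroup.coe_inv, ← hg]
      group
    exact ⟨hNin x hx fun k h => hAa _ (hcl k h), hNbin x hx fun k h => hAb _ (hcl k h)⟩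
  have key : G0.subgroupOf K = ⊤ := by
    haveI := hNan
    haveI := hNbn
    refine eq_top_of_pair (G0.subgroupOf K) (Na ⊓ Nb) (a := ⟨t, htK⟩) (b := ⟨b, hbK⟩)
      (by rw [← oK]; exact L.ot) (by rw [← oK]; show orderOf b = 2; rw [← hb, order_conj, L.ot])
      (mem_subgroupOf.mpr htG) (mem_subgroupOf.mpr hbG)
      (hinN _ ⟨1, by simp⟩) (hinN _ ⟨gb, hb⟩) ?_ ?_
    · intro k hk
      have hk' : (k : G) * t * (k : G)⁻¹ = b := congrArg Subtype.val hk
      have hmem : (k : G)⁻¹ * w * k ∈ T := by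
        have hku : (k : G) * u = u * k := mem_cent.mp k.2
        have hku' : u * (k : G)⁻¹ = (k : G)⁻¹ * u := by
          rw [eq_inv_mul_iff_mul_eq, ← mul_assoc, hku, mul_inv_cancel_right]
        refine Local.memT.mpr ⟨?_, ?_⟩
        · rw [← hk'] at hwb
          have := congrArg (fun y => (k : G)⁻¹ * y * k) hwb
          simpa [mul_assoc] using this
        · rw [mul_assoc, hku, ← mul_assoc, mul_assoc _ w u, hwu, ← mul_assoc, ← hku',
            mul_assoc u, mul_assoc u]
      have h3 : orderOf (⟨_, hmem⟩ : T) = 3 := by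
        rw [← Subgroup.orderOf_coe]
        show orderOf ((k : G)⁻¹ * w * k) = 3
        rw [← how]; simpa using order_conj (k : G)⁻¹ w
      have h4 := orderOf_dvd_natCard (⟨_, hmem⟩ : T)
      rw [h3, L.cardT] at h4
      norm_num at h4
    · intro i hiG hiN hi
      have hiG' : (i : G) ∈ G0 := mem_subgroupOf.mp hiG
      intro y hy
      have hy' : (y : G) * i * (y : G)⁻¹ ∈ G0 := by simpa [mem_subgroupOf] using hy
      rw [mem_subgroupOf]
      by_cases h1 : ∃ g : G, g * t * g⁻¹ = (i : G)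
      · obtain ⟨g, hg⟩ := h1
        exact L.pin_t hiG' hg _ hy'
      by_cases h2 : ∃ g : G, g * t * g⁻¹ = (i : G) * u
      · obtain ⟨g, hg⟩ := h2
        refine L.pin_t (G0.mul_mem hiG' (hTG huT)) hg _ ?_
        have hyu : (y : G) * u = u * y := mem_cent.mp y.2
        have := G0.mul_mem hy' (hTG huT)
        convert this using 1
        rw [mul_assoc _ (y : G)⁻¹ u, show (y : G)⁻¹ * u = u * (y : G)⁻¹ by
          rw [inv_mul_eq_iff_eq_mul, ← mul_assoc, hyu, mul_inv_cancel_right]]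
        group
      exfalso
      by_cases hiu : (i : G) = u
      · refine hNbout i hi (fun k h => hub (eP ⟨_, h⟩) ?_) hiN.2
        rw [ePv]
        simp only [Subgroup.coe_mul, Subgroup.coe_inv, hiu]
        rw [mul_assoc, ← mem_cent.mp k.2, inv_mul_cancel_left]
      refine hNout i hi (fun k h hM => ?_) hiN.1
      have hku : (k : G) * u = u * k := mem_cent.mp k.2
      have hv : ((eP ⟨_, h⟩ : T) : G) = (k : G)⁻¹ * i * k := by
        rw [ePv]; rfl
      have hne : ((eP ⟨_, h⟩ : T) : G) ≠ u := fun he => hiu <| by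
        rw [hv] at he
        calc (i : G) = k * ((k : G)⁻¹ * i * k) * (k : G)⁻¹ := by group
          _ = u := by rw [he, hku, mul_inv_cancel_right]
      rcases hbad (eP ⟨_, h⟩) hM
          (by rw [hv]; simpa using (order_conj (k : G)⁻¹ i).trans ((oK i).trans hi)) hne
        with ⟨g, -, hg⟩ | ⟨g, -, hg⟩
      · refine h1 ⟨k * g, ?_⟩
        rw [hv] at hg
        calc (k : G) * g * t * (k * g)⁻¹ = k * (g * t * g⁻¹) * (k : G)⁻¹ := by group
          _ = i := by rw [hg]; group
      · refine h2 ⟨k * g, ?_⟩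
        rw [hv] at hg
        calc (k : G) * g * t * (k * g)⁻¹ = k * (g * t * g⁻¹) * (k : G)⁻¹ := by group
          _ = i * (k * u * (k : G)⁻¹) := by rw [hg]; group
          _ = i * u := by rw [hku, mul_inv_cancel_right]
  exact subgroupOf_eq_top.mp key

/-- **The subgroup is the whole group.** -/
theorem Local.eq_top [Finite G] (L : Local G0 t u) : G0 = ⊤ := by
  have htG : t ∈ G0 := L.cent (mem_cent.mpr rfl)
  have huG : u ∈ G0 := L.cent (mem_cent.mpr L.ucomm.symm)
  refine eq_top_of_pair G0 ⊤ L.ot L.ou htG huG trivial trivial L.not_conj ?_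
  intro i hiG _ hi
  rcases L.classes i hiG hi with ⟨g, -, hg⟩ | ⟨k, hk, hki⟩
  · exact L.pin_t hiG hg
  intro y hy
  have hy' : (y * k) * u * (y * k)⁻¹ ∈ G0 := by convert hy using 1; rw [← hki]; group
  rcases L.classes _ hy' (by rw [order_conj, L.ou]) with ⟨m, -, hmt⟩ | ⟨m, hm, hmu⟩
  · refine absurd ?_ (L.not_conj ((y * k)⁻¹ * m))
    calc (y * k)⁻¹ * m * t * ((y * k)⁻¹ * m)⁻¹ = (y * k)⁻¹ * (m * t * m⁻¹) * (y * k) := by group
      _ = u := by rw [hmt]; group
  · have hc : m⁻¹ * (y * k) ∈ centralizer ({u} : Set G) := by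
      rw [mem_cent, ← mul_inv_eq_iff_eq_mul]
      calc m⁻¹ * (y * k) * u * (m⁻¹ * (y * k))⁻¹ = m⁻¹ * ((y * k) * u * (y * k)⁻¹) * m := by group
        _ = u := by rw [← hmu]; group
    have := G0.mul_mem (G0.mul_mem hm (L.cent_u hc)) (G0.inv_mem hk)
    convert this using 1
    group

end Cfsg.Agent.HSRecog28
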