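import Cfsg.Agent.Lib.HSRecog47LC0
import Cfsg.Agent.Lib.HSRecog47LP

/-! A coset enumeration in the (2,3,7;4) group over the trivial subgroup.
The data only feeds a checker; nothing here is assumed. -/

set_option autoImplicit false
set_option maxRecDepth 100000

namespace Cfsg.Agent.HSRecog47L

open Cfsg.Agent.CosetCertCore Cfsg.Agent.CosetCertTable Cfsg.Agent.CosetCertDir90
open Cfsg.Agent.HSRecog47LData

universe u

/-- Every fact holds. -/
theorem valid : HSRecog47Closed.Valid.{u} cert 1092 := by
  have h := HSRecog47Closed.Valid.zero.{u} cert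
  replace h := HSRecog47LC0.block h
  exact h

/-- The closed table bounds the number of cosets by 168. -/
theorem cosets_le {G : Type u} [Group G] (g : Nat → G) (H : Subgroup G)
    (hinv : CosetCertDir90.Inv g) (hrels : ∀ w ∈ relWords, (w.reverse.map g).prod = 1)
    (hs : ∀ w ∈ subWords, (w.reverse.map g).prod ∈ H)
    (hgen : Subgroup.closure {y | ∃ x, x < 8 ∧ y = g x} = ⊤) :
    Finite (G ⧸ H) ∧ Nat.card (G ⧸ H) ≤ 168 :=
  HSRecog47Closed.cosets_le valid HSRecog47LP.edges (by decide +kernel) (by decide +kernel)
    (by decide +kernel : ∀ x < 8, flp x < 8) g H hinv hrels hs hgen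

end Cfsg.Agent.HSRecog47L
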