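import Cfsg.Agent.Lib.HSRecog47K
import Cfsg.Agent.Lib.HSRecog47L
import Cfsg.Agent.Lib.HSPresent28

/-!
The two enumerations used in the recognition of the Higman–Sims group: an index at most `4125`,
and at most `168` elements in a group with the relations of `PSL(2, 7)`.
-/

set_option autoImplicit false

namespace Cfsg.Agent.HSRecog47Cert

open Cfsg.Agent.CosetCertCore

universe u

variable {G : Type u} [Group G]

/-- The letters: `0`, `1`, `2`, `6`, the inverse `7` of `6`, and trivial letters otherwise. -/
def letters (g : Nat → G) (x : Nat) : G :=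
  if x = 7 then (g 6)⁻¹ else if x = 0 ∨ x = 1 ∨ x = 2 ∨ x = 6 then g x else 1

theorem letters_inv (g : Nat → G) (h0 : g 0 * g 0 = 1) (h1 : g 1 * g 1 = 1)
    (h2 : g 2 * g 2 = 1) : CosetCertDir90.Inv (letters g) := by
  intro x
  by_cases h6 : x = 6
  · subst h6
    simp [letters, show CosetCertDir90.flp 6 = 7 from rfl]
  by_cases h7 : x = 7
  · subst h7
    simp [letters, show CosetCertDir90.flp 7 = 6 from rfl]
  have hf : CosetCertDir90.flp x = x := by
    have a : Nat.beq x 6 = false := by rw [← Bool.not_eq_true, Nat.beq_eq]; exact h6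
    have b : Nat.beq x 7 = false := by rw [← Bool.not_eq_true, Nat.beq_eq]; exact h7
    simp only [CosetCertDir90.flp, a, b, cond_false]
  rw [hf, eq_inv_iff_mul_eq_one]
  unfold letters
  rw [if_neg h7]
  split
  · rename_i h
    rcases h with rfl | rfl | rfl | h
    · exact h0
    · exact h1
    · exact h2
    · exact absurd h h6
  · exact one_mul _

theorem letters_map (g : Nat → G) (h7 : g 7 = (g 6)⁻¹) (w : List Nat)
    (hw : ∀ x ∈ w, x = 0 ∨ x = 1 ∨ x = 2 ∨ x = 6 ∨ x = 7) :
    w.map (letters g) = w.map g := by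
  refine List.map_congr_left fun x hx => ?_
  rcases hw x hx with rfl | rfl | rfl | rfl | rfl <;> simp [letters, h7]

theorem letters_cases (g : Nat → G) (x : Nat) :
    letters g x = 1 ∨ letters g x ∈ ({g 0, g 1, g 2, g 6} : Set G) ∨
      (letters g x)⁻¹ ∈ ({g 0, g 1, g 2, g 6} : Set G) := by
  unfold letters
  split
  · exact Or.inr (Or.inr (by simp))
  · split
    · rename_i h
      rcases h with rfl | rfl | rfl | rfl <;> simp
    · exact Or.inl rfl

theorem letters_mem (g : Nat → G) (x : Nat) :
    letters g x ∈ Subgroup.closure ({g 0, g 1, g 2, g 6} : Set G) := by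
  rcases letters_cases g x with h | h | h
  · rw [h]; exact one_mem _
  · exact Subgroup.subset_closure h
  · exact inv_mem_iff.mp (Subgroup.subset_closure h)

theorem relWords_spec : ∀ w ∈ HSRecog47KData.relWords,
    w = [3] ∨ w = [4] ∨ w = [5] ∨ w.reverse ∈ HSPresent28.rels := by
  decide +kernel

theorem rels_letters : ∀ w ∈ HSPresent28.rels, ∀ x ∈ w,
    x = 0 ∨ x = 1 ∨ x = 2 ∨ x = 6 ∨ x = 7 := by
  decide +kernel

/-- The index of the subgroup generated by the letters `0`, `2`, `6`, as a relative index. -/
theorem relIndex_ne_zero_and_le (g : Nat → G) (h0 : g 0 * g 0 = 1) (h1 : g 1 * g 1 = 1)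
    (h2 : g 2 * g 2 = 1) (h7 : g 7 = (g 6)⁻¹) (hrels : ∀ w ∈ HSPresent28.rels, val g w = 1) :
    (Subgroup.closure ({g 0, g 2, g 6} : Set G)).relIndex
        (Subgroup.closure ({g 0, g 1, g 2, g 6} : Set G)) ≠ 0 ∧
      (Subgroup.closure ({g 0, g 2, g 6} : Set G)).relIndex
        (Subgroup.closure ({g 0, g 1, g 2, g 6} : Set G)) ≤ 4125 := by
  set K := Subgroup.closure ({g 0, g 1, g 2, g 6} : Set G) with hK
  set S := Subgroup.closure ({g 0, g 2, g 6} : Set G) with hS
  let h : Nat → K := fun x => ⟨letters g x, letters_mem g x⟩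
  have hinv : CosetCertDir90.Inv h := fun x => Subtype.ext (letters_inv g h0 h1 h2 x)
  have hval : ∀ w : List Nat, (((w.map h).prod : K) : G) = (w.map (letters g)).prod := fun w => by
    rw [SubmonoidClass.coe_list_prod, List.map_map]
    rfl
  have hr : ∀ w ∈ HSRecog47KData.relWords, (w.reverse.map h).prod = 1 := by
    intro w hw
    apply Subtype.ext
    rw [hval]
    rcases relWords_spec w hw with rfl | rfl | rfl | hmem
    · simp [letters]
    · simp [letters]
    · simp [letters]
    · rw [letters_map g h7 _ (rels_letters _ hmem)]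
      exact hrels _ hmem
  have hs : ∀ w ∈ HSRecog47KData.subWords, (w.reverse.map h).prod ∈ S.subgroupOf K := by
    intro w hw
    rw [Subgroup.mem_subgroupOf, hval]
    simp only [HSRecog47KData.subWords, List.mem_cons, List.not_mem_nil, or_false] at hw
    rcases hw with rfl | rfl | rfl <;>
      exact Subgroup.subset_closure (by simp [letters])
  have hgen : Subgroup.closure {y | ∃ x, x < 8 ∧ y = h x} = ⊤ := by
    rw [eq_top_iff]
    rintro ⟨k, hk⟩ -
    induction hk using Subgroup.closure_induction with
    | mem k hk =>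
      have : ∀ x, (x = 0 ∨ x = 1 ∨ x = 2 ∨ x = 6) → k = g x →
          (⟨k, Subgroup.subset_closure hk⟩ : K) ∈
            Subgroup.closure {y | ∃ x, x < 8 ∧ y = h x} := by
        intro x hx hkx
        refine Subgroup.subset_closure ⟨x, by omega, Subtype.ext ?_⟩
        show k = letters g x
        rw [hkx, letters, if_neg (by omega), if_pos hx]
      have hk' := hk
      simp only [Set.mem_insert_iff, Set.mem_singleton_iff] at hk'
      rcases hk' with e | e | e | e
      · exact this 0 (by simp) e
      · exact this 1 (by simp) e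
      · exact this 2 (by simp) e
      · exact this 6 (by simp) e
    | one => exact Subgroup.one_mem _
    | mul a b _ _ ha hb => exact Subgroup.mul_mem _ ha hb
    | inv a _ ha => exact Subgroup.inv_mem _ ha
  obtain ⟨hfin, hcard⟩ := HSRecog47K.cosets_le h (S.subgroupOf K) hinv hr hs hgen
  exact ⟨Subgroup.index_ne_zero_of_finite, hcard⟩

/-- The index is at most `4125`. -/
theorem index_le [Finite G] (g : Nat → G) (h0 : g 0 * g 0 = 1) (h1 : g 1 * g 1 = 1)
    (h2 : g 2 * g 2 = 1) (h7 : g 7 = (g 6)⁻¹) (hrels : ∀ w ∈ HSPresent28.rels, val g w = 1) :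
    Nat.card (Subgroup.closure ({g 0, g 1, g 2, g 6} : Set G)) ≤
      4125 * Nat.card (Subgroup.closure ({g 0, g 2, g 6} : Set G)) := by
  have hle : Subgroup.closure ({g 0, g 2, g 6} : Set G) ≤
      Subgroup.closure ({g 0, g 1, g 2, g 6} : Set G) :=
    Subgroup.closure_mono fun y hy => by
      simp only [Set.mem_insert_iff, Set.mem_singleton_iff] at hy ⊢
      tauto
  have hi := (relIndex_ne_zero_and_le g h0 h1 h2 h7 hrels).2
  have he := ((Subgroup.closure ({g 0, g 2, g 6} : Set G)).subgroupOf
    (Subgroup.closure ({g 0, g 1, g 2, g 6} : Set G))).index_mul_card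
  rw [Nat.card_congr (Subgroup.subgroupOfEquivOfLe hle).toEquiv] at he
  rw [← he]
  exact Nat.mul_le_mul_right _ hi

/-- A group generated by `a`, `b` with the relations of `PSL(2, 7)` has at most `168` elements. -/
theorem card_L (a b : G) (ha : a ^ 2 = 1) (hb : b ^ 3 = 1) (hab : (a * b) ^ 7 = 1)
    (hc : (a * b⁻¹ * a * b) ^ 4 = 1) :
    Finite (Subgroup.closure ({a, b} : Set G)) ∧
      Nat.card (Subgroup.closure ({a, b} : Set G)) ≤ 168 := by
  set K := Subgroup.closure ({a, b} : Set G) with hK
  let A : K := ⟨a, Subgroup.subset_closure (by simp)⟩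
  let B : K := ⟨b, Subgroup.subset_closure (by simp)⟩
  let h : Nat → K := fun x => if x = 0 then A else if x = 6 then B else if x = 7 then B⁻¹ else 1
  have hA : A * A = 1 := Subtype.ext (by simpa [pow_two] using ha)
  have hB : B ^ 3 = 1 := Subtype.ext (by simpa using hb)
  have hAB : (A * B) ^ 7 = 1 := Subtype.ext (by simpa [A, B] using hab)
  have hC : (A * B⁻¹ * A * B) ^ 4 = 1 := Subtype.ext (by simpa [A, B] using hc)
  have e0 : h 0 = A := rfl
  have e6 : h 6 = B := rfl
  have e7 : h 7 = B⁻¹ := rfl
  have e1 : ∀ x, x ≠ 0 → x ≠ 6 → x ≠ 7 → h x = 1 := fun x p q r => by simp [h, p, q, r]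
  have hinv : CosetCertDir90.Inv h := by
    intro x
    by_cases p : x = 6
    · subst p; rw [show CosetCertDir90.flp 6 = 7 from rfl, e6, e7]
    by_cases q : x = 7
    · subst q; rw [show CosetCertDir90.flp 7 = 6 from rfl, e6, e7, inv_inv]
    have hf : CosetCertDir90.flp x = x := by
      have u : Nat.beq x 6 = false := by rw [← Bool.not_eq_true, Nat.beq_eq]; exact p
      have v : Nat.beq x 7 = false := by rw [← Bool.not_eq_true, Nat.beq_eq]; exact q
      simp only [CosetCertDir90.flp, u, v, cond_false]
    rw [hf, eq_inv_iff_mul_eq_one]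
    by_cases r : x = 0
    · subst r; exact hA
    · rw [e1 x r p q, one_mul]
  have hr : ∀ w ∈ HSRecog47LData.relWords, (w.reverse.map h).prod = 1 := by
    intro w hw
    simp only [HSRecog47LData.relWords, List.mem_cons, List.not_mem_nil, or_false] at hw
    rcases hw with rfl | rfl | rfl | rfl | rfl | rfl | rfl | rfl
    all_goals simp only [List.reverse_cons, List.reverse_nil, List.nil_append, List.cons_append,
      List.map_cons, List.map_nil, List.prod_cons, List.prod_nil, e0, e6, e7, mul_one]
    · exact e1 3 (by decide) (by decide) (by decide)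
    · exact e1 4 (by decide) (by decide) (by decide)
    · exact e1 5 (by decide) (by decide) (by decide)
    · exact e1 1 (by decide) (by decide) (by decide)
    · exact e1 2 (by decide) (by decide) (by decide)
    · simpa [pow_succ, mul_assoc] using hB
    · simpa [pow_succ, mul_assoc] using hAB
    · simpa [pow_succ, mul_assoc] using hC
  have hgen : Subgroup.closure {y | ∃ x, x < 8 ∧ y = h x} = ⊤ := by
    rw [eq_top_iff]
    rintro ⟨k, hk⟩ -
    induction hk using Subgroup.closure_induction with
    | mem k hk =>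
      have hk' := hk
      simp only [Set.mem_insert_iff, Set.mem_singleton_iff] at hk'
      rcases hk' with e | e
      · exact Subgroup.subset_closure ⟨0, by decide, Subtype.ext e⟩
      · exact Subgroup.subset_closure ⟨6, by decide, Subtype.ext e⟩
    | one => exact Subgroup.one_mem _
    | mul a b _ _ ha hb => exact Subgroup.mul_mem _ ha hb
    | inv a _ ha => exact Subgroup.inv_mem _ ha
  obtain ⟨hfin, hcard⟩ := HSRecog47L.cosets_le h ⊥ hinv hr
    (fun w hw => by simp [HSRecog47LData.subWords] at hw) hgen
  have e : K ⧸ (⊥ : Subgroup K) ≃ K := QuotientGroup.quotientBot.toEquiv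
  exact ⟨Finite.of_equiv _ e, (Nat.card_congr e).symm.trans_le hcard⟩

end Cfsg.Agent.HSRecog47Cert
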