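import Cfsg.Agent.Lib.CosetCertDir90

/-!
A bound on an index from a closed table, letters `6` and `7` being inverse to each other and the
other letters involutions.
-/

set_option autoImplicit false

namespace Cfsg.Agent.HSRecog47Closed

open Cfsg.Agent.CosetCertCore Cfsg.Agent.CosetCertTable Cfsg.Agent.CosetCertDir90

universe u

/-- The facts hold up to `n`. -/
structure Valid (C : Cert) (n : Nat) : Prop where
  sound : ∀ {G X : Type u} [Group G] [MulAction G X] (g : Nat → G) (base : X),
    CosetCertDir90.Ctx g base C → AllValid g (nodeVal g base C) C n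

theorem Valid.zero (C : Cert) : Valid.{u} C 0 :=
  ⟨fun _ _ _ _ h => absurd h (Nat.not_lt_zero _)⟩

/-- Consecutive chunks compose. -/
theorem Valid.step {C : Cert} {lo n : Nat} (h : Valid.{u} C lo) (L : List Nat)
    (hn : (Nat.beq (lo + L.length) n && CosetCertDir90.checkList C L lo) = true) :
    Valid.{u} C n := by
  rw [Bool.and_eq_true, Nat.beq_eq] at hn
  refine ⟨fun g base hC => ?_⟩
  exact hn.1 ▸ CosetCertDir90.checkList_sound g base hC L lo (h.sound g base hC) hn.2

variable {C : Cert} {M : Nat} {D : Table}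

/-- A closed table bounds the number of cosets. -/
theorem cosets_le (hV : Valid.{u} C M) (hE : AllBelow (CosetCertDir90.edgesOk C M D) D.N)
    (hN : 0 < D.N) (h0 : D.node 0 = 0) (hflp : ∀ x < D.NG, flp x < D.NG)
    {G : Type u} [Group G] (g : Nat → G) (H : Subgroup G) (hinv : CosetCertDir90.Inv g)
    (hrels : ∀ w ∈ C.rels, (w.reverse.map g).prod = 1)
    (hs : ∀ w ∈ C.sgens, (w.reverse.map g).prod ∈ H)
    (hgen : Subgroup.closure {y | ∃ x, x < D.NG ∧ y = g x} = ⊤) :
    Finite (G ⧸ H) ∧ Nat.card (G ⧸ H) ≤ D.N := by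
  have hctx : CosetCertDir90.Ctx g ((1 : G) : G ⧸ H) C := by
    refine ⟨hinv, fun w hw a => ?_, fun w hw => ?_⟩
    · rw [CosetCertDir90.act_eq, hrels w hw, one_smul]
    · rw [CosetCertDir90.act_eq]
      show (((w.reverse.map g).prod * 1 : G) : G ⧸ H) = _
      rw [mul_one, eq_comm, QuotientGroup.eq, inv_one, one_mul]
      exact hs w hw
  set v := nodeVal g ((1 : G) : G ⧸ H) C with hv
  have hM := hV.sound g _ hctx
  have hstep : ∀ x < D.NG, ∀ i : Fin D.N, ∃ j : Fin D.N,
      g x • v (D.node i) = v (D.node j) := by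
    intro x hx i
    obtain ⟨h1, h2⟩ := node_edge g hinv v hM hE i.2 hx
    exact ⟨⟨_, h1⟩, h2.symm⟩
  have hcl : ∀ k : G, ∀ i : Fin D.N, ∃ j : Fin D.N, k • v (D.node i) = v (D.node j) := by
    intro k
    have hk : k ∈ Subgroup.closure {y | ∃ x, x < D.NG ∧ y = g x} := hgen ▸ Subgroup.mem_top k
    induction hk using Subgroup.closure_induction'' with
    | mem y hy =>
      obtain ⟨x, hx, rfl⟩ := hy
      exact hstep x hx
    | inv_mem y hy =>
      obtain ⟨x, hx, rfl⟩ := hy
      rw [← hinv x]
      exact hstep _ (hflp x hx)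
    | one => intro i; exact ⟨i, one_smul _ _⟩
    | mul a b _ _ ha hb =>
      intro i
      obtain ⟨j, hj⟩ := hb i
      obtain ⟨l, hl⟩ := ha j
      exact ⟨l, by rw [mul_smul, hj, hl]⟩
  have hsurj : Function.Surjective (fun i : Fin D.N => v (D.node i)) := by
    intro q
    induction q using QuotientGroup.induction_on with
    | H k =>
      obtain ⟨j, hj⟩ := hcl k ⟨0, hN⟩
      refine ⟨j, hj.symm.trans ?_⟩
      rw [h0, hv, nodeVal_zero]
      show ((k * 1 : G) : G ⧸ H) = _
      rw [mul_one]
  exact ⟨Finite.of_surjective _ hsurj,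
    (Nat.card_le_card_of_surjective _ hsurj).trans_eq (Nat.card_fin _)⟩

end Cfsg.Agent.HSRecog47Closed
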