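import Cfsg.Agent.Lib.HSRecog47MData

/-! A coset enumeration in the normaliser of the eight-group over a complement.
The data only feeds a checker; nothing here is assumed. -/

set_option autoImplicit false
set_option maxRecDepth 100000
set_option Elab.async false

namespace Cfsg.Agent.HSRecog47MP

open Cfsg.Agent.CosetCertCore Cfsg.Agent.CosetCertTable Cfsg.Agent.CosetCertDir90
open Cfsg.Agent.HSRecog47MData

theorem points0 : allFrom (CosetCertDir90.edgesOk cert 875 table) 64 0 = true := by
  decide +kernel

/-- All edges are witnessed. -/
theorem edges : AllBelow (CosetCertDir90.edgesOk cert 875 table) 64 := by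
  have h : AllBelow (CosetCertDir90.edgesOk cert 875 table) 0 := AllBelow.zero _
  replace h := h.step _ points0
  exact h

end Cfsg.Agent.HSRecog47MP
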