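/-!
Words between the generators of the Higman–Sims permutation group and the letters of the
two-local presentation: `a, u, e = c * s₀, b` as words in the three generators, and back.
-/

set_option autoImplicit false

namespace Cfsg.Agent.HSPresent28

/-- words in the three generators for the letters `0, 1, 2, 6` -/
def hpWords : List (List (Fin 3)) :=
  [
   [0,0,0,0,0,0,2,1,1,1,0,0,0,0,0,0,2,1,1,1,2,0,0,1,2,0,1,1,0,1,2,1,0,1,0,2,2,0,0,0,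
    2,1,0,1,1,2,2,0,2,2,0,0,1,2,0,1,1,0,1,2,1,0,0,0,0,0,0,0,2,1,1,1,0,0,0,0,0,0,2,1,
    1,1,0,0,0,0,0,0,2,1,1,1,2,0,0,1,2,0,1,1,0,1,2,1,0,0,0,0,0,0,0,2,1,1,1,2,0,0,1,2,
    0,1,1,0,1,2,1,0,0,0,0,0,0,0,2,1,1,1,0,0,0,0,0,0,2,1,1,1,2,0,0,1,2,0,1,1,0,1,2,1,
    0,2,0,0,1,2,0,1,1,0,1,2,1,0,2,0,0,1,2,0,1,1,0,1,2,1,0,1,0,2,2,0,0,0,2,1,0,1,1,2,
    2,0,2],
   [0,0,0,0,0,0,2,1,1,1,2,0,0,1,2,0,1,1,0,1,2,1,0,2,0,0,1,2,0,1,1,0,1,2,1,0,2,0,0,1,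
    2,0,1,1,0,1,2,1,0,0,0,0,0,0,0,2,1,1,1,2,0,0,1,2,0,1,1,0,1,2,1,0,2,0,0,1,2,0,1,1,
    0,1,2,1,0,2,0,0,1,2,0,1,1,0,1,2,1,0,0,0,0,0,0,0,2,1,1,1,2,0,0,1,2,0,1,1,0,1,2,1,
    0,2,0,0,1,2,0,1,1,0,1,2,1,0,2,0,0,1,2,0,1,1,0,1,2,1,0],
   [0,0,0,0,0,0,2,1,1,1,2,0,0,1,2,0,1,1,0,1,2,1,0,0,0,0,0,0,0,2,1,1,1],
   [0,0,0,0,0,0,2,1,1,1,0,0,0,0,0,0,2,1,1,1,2,0,0,1,2,0,1,1,0,1,2,1,0,0,0,0,0,0,0,2,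
    1,1,1,2,0,0,1,2,0,1,1,0,1,2,1,0,0,0,0,0,0,0,2,1,1,1,0,0,0,0,0,0,2,1,1,1,0,0,0,0,
    0,0,2,1,1,1,2,0,0,1,2,0,1,1,0,1,2,1,0,0,0,0,0,0,0,2,1,1,1,2,0,0,1,2,0,1,1,0,1,2,
    1,0,0,0,0,0,0,0,2,1,1,1]]

/-- the three generators as words in the letters -/
def backWords : List (List Nat) :=
  [[2,1,0,7,1,0,6,0,6,1,2,0,6,1,0,2,0,6],[7,2,0,7,1,0,7,1,0,1,2,1,0,7,1,0,7,1,0,6],[2,0,7,0,6,1,0,7,0,1,2,0,1,2,0,6,2,0,2]]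

end Cfsg.Agent.HSPresent28
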