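import Cfsg.Agent.Lib.HSRecog47Cert
import Cfsg.Agent.Lib.HSRecog47M
import Cfsg.Agent.Lib.HSRecog28Code
import Cfsg.Agent.Lib.HSWords28

/-!
A group generated by letters satisfying the relators of the two-local presentation is a copy of
the Higman–Sims permutation group.
-/

set_option autoImplicit false
set_option maxRecDepth 100000

namespace Cfsg.Agent.HSRecog47Iso

open Cfsg.Agent.CosetCertCore (val val_nil val_cons)
open Cfsg.Agent.HSPerm (Hp wordE card_Hp simple_Hp)
open Cfsg.Agent.HSRecog28Code (cd cd_inj cd_mul cd_one cd_wordE idc comp wc)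

universe u

variable {G : Type u} [Group G]

theorem mRels_spec : ∀ w ∈ HSRecog47MData.relWords,
    w = [1] ∨ w = [3] ∨ w = [4] ∨ w = [5] ∨
      (w.reverse ∈ HSPresent28.rels ∧ ∀ x ∈ w.reverse, x = 0 ∨ x = 2 ∨ x = 6 ∨ x = 7) := by
  decide +kernel

/-- The subgroup of the letters `0`, `2`, `6` has at most `10752` elements. -/
theorem small_le [Finite G] (g : Nat → G) (h0 : g 0 * g 0 = 1) (h2 : g 2 * g 2 = 1)
    (h7 : g 7 = (g 6)⁻¹) (hrels : ∀ w ∈ HSPresent28.rels, val g w = 1) :
    Nat.card (Subgroup.closure ({g 0, g 2, g 6} : Set G)) ≤ 10752 := by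
  let g' : Nat → G := fun x => if x = 1 then 1 else g x
  set K := Subgroup.closure ({g 0, g 2, g 6} : Set G) with hK
  set L := Subgroup.closure ({g 0, g 6} : Set G) with hL
  have e0 : g' 0 = g 0 := rfl
  have e1 : g' 1 = 1 := rfl
  have e2 : g' 2 = g 2 := rfl
  have e6 : g' 6 = g 6 := rfl
  have e7 : g' 7 = g 7 := rfl
  have hmemK : ∀ x, HSRecog47Cert.letters g' x ∈ K := by
    intro x
    rcases HSRecog47Cert.letters_cases g' x with h | h | h
    · rw [h]; exact one_mem _
    · simp only [Set.mem_insert_iff, Set.mem_singleton_iff, e0, e1, e2, e6] at h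
      rcases h with h | h | h | h <;> rw [h]
      exacts [Subgroup.subset_closure (by simp), one_mem _, Subgroup.subset_closure (by simp),
        Subgroup.subset_closure (by simp)]
    · simp only [Set.mem_insert_iff, Set.mem_singleton_iff, e0, e1, e2, e6] at h
      refine inv_mem_iff.mp ?_
      rcases h with h | h | h | h <;> rw [h]
      exacts [Subgroup.subset_closure (by simp), one_mem _, Subgroup.subset_closure (by simp),
        Subgroup.subset_closure (by simp)]
  let h : Nat → K := fun x => ⟨HSRecog47Cert.letters g' x, hmemK x⟩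
  have hinv : CosetCertDir90.Inv h := fun x => Subtype.ext
    (HSRecog47Cert.letters_inv g' (by rw [e0, h0]) (by rw [e1, mul_one]) (by rw [e2, h2]) x)
  have hval : ∀ w : List Nat, (((w.map h).prod : K) : G) = (w.map (HSRecog47Cert.letters g')).prod :=
    fun w => by
      rw [SubmonoidClass.coe_list_prod, List.map_map]
      rfl
  have hr : ∀ w ∈ HSRecog47MData.relWords, (w.reverse.map h).prod = 1 := by
    intro w hw
    apply Subtype.ext
    rw [hval]
    rcases mRels_spec w hw with rfl | rfl | rfl | rfl | ⟨hmem, hlet⟩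
    · simp [HSRecog47Cert.letters, e1]
    · simp [HSRecog47Cert.letters]
    · simp [HSRecog47Cert.letters]
    · simp [HSRecog47Cert.letters]
    · rw [HSRecog47Cert.letters_map g' (by rw [e7, e6, h7]) _ (fun x hx => by
        rcases hlet x hx with rfl | rfl | rfl | rfl <;> simp),
        List.map_congr_left (g := g) (fun x hx => by
          rcases hlet x hx with rfl | rfl | rfl | rfl <;> rfl)]
      exact hrels _ hmem
  have hs : ∀ w ∈ HSRecog47MData.subWords, (w.reverse.map h).prod ∈ L.subgroupOf K := by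
    intro w hw
    rw [Subgroup.mem_subgroupOf, hval]
    simp only [HSRecog47MData.subWords, List.mem_cons, List.not_mem_nil, or_false] at hw
    rcases hw with rfl | rfl <;>
      exact Subgroup.subset_closure (by simp [HSRecog47Cert.letters, e0, e6])
  have hgen : Subgroup.closure {y | ∃ x, x < 8 ∧ y = h x} = ⊤ := by
    rw [eq_top_iff]
    rintro ⟨k, hk⟩ -
    induction hk using Subgroup.closure_induction with
    | mem k hk =>
      have hk' := hk
      simp only [Set.mem_insert_iff, Set.mem_singleton_iff] at hk'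
      rcases hk' with e | e | e
      · exact Subgroup.subset_closure ⟨0, by decide, Subtype.ext (e.trans e0.symm)⟩
      · exact Subgroup.subset_closure ⟨2, by decide, Subtype.ext (e.trans e2.symm)⟩
      · exact Subgroup.subset_closure ⟨6, by decide, Subtype.ext (e.trans e6.symm)⟩
    | one => exact Subgroup.one_mem _
    | mul a b _ _ ha hb => exact Subgroup.mul_mem _ ha hb
    | inv a _ ha => exact Subgroup.inv_mem _ ha
  obtain ⟨-, hcard⟩ := HSRecog47M.cosets_le h (L.subgroupOf K) hinv hr hs hgen
  have hle : L ≤ K := Subgroup.closure_mono fun y hy => by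
    simp only [Set.mem_insert_iff, Set.mem_singleton_iff] at hy ⊢
    tauto
  have hb3 : g 6 ^ 3 = 1 := by
    simpa [val, pow_succ, mul_assoc] using hrels [6, 6, 6] (by decide)
  have hab : (g 0 * g 6) ^ 7 = 1 := by
    simpa [val, pow_succ, mul_assoc] using
      hrels [0,6,0,6,0,6,0,6,0,6,0,6,0,6] (by decide)
  have hcomm : (g 0 * (g 6)⁻¹ * g 0 * g 6) ^ 4 = 1 := by
    simpa [val, pow_succ, mul_assoc, h7] using
      hrels [0,7,0,6,0,7,0,6,0,7,0,6,0,7,0,6] (by decide)
  have hL168 : Nat.card L ≤ 168 :=
    (HSRecog47Cert.card_L (g 0) (g 6) (by rw [pow_two, h0]) hb3 hab hcomm).2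
  have he := (L.subgroupOf K).index_mul_card
  rw [Nat.card_congr (Subgroup.subgroupOfEquivOfLe hle).toEquiv] at he
  rw [← he]
  exact (Nat.mul_le_mul hcard hL168).trans (by norm_num)

/-- The codes of the model letters. -/
def pc : Nat → ℕ
  | 0 => 0x63624e52584f565559545b5f575d5c5a536051505e612523283037481636333b402a1c433f1f3d264438393a494631274524354a29171d2118422f4b343c4d324c222c193e1e2d411b1a202b2e471209131503010e0f0d0c0b05140708060a0211041000
  | 1 => 0x22021528312a172d2f0042411426450e481f4925400b1a2c2e015153122755091c59584f11231021041d1e181b20292b190d5f035b4b5c4c345e35604656500f3e633c3652393a43374d33385d0c61570a473f3d245432164e1344070805063b30624a5a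
  | 2 => 0x25171201333803554f0d201d28525c390b560e225b371a0506232416002b343b292a31353d143f024419545e4e1840455f1541211c13270a464243572d1f63494a503059260f582f0c4d3a366248323e2e6110111e515a1b532c0407084b4c095d3c6047
  | 6 => 0x3d622a0f155f5d354b3647594808054e5126140945234d5c343757495813063f27124255250e3b3c635a4a32393a4c5b383361302e2b292d2f312c240a0744165410211d560100461e1a180d17285e531c4150040c0b19603e43111f524f402203021b20
  | 7 => 0x3b62310c5e155d4c343a5847491f40231407531106544d355b394857591c4f250a411205440b633c3d3637334a5a5c4b32382a302b2f2c292e612d1643523f284e042100081b2013011a0d1917245f5146420922603e180f0e2750562645551003021e1d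
  | _ => 0x636261605f5e5d5c5b5a595857565554535251504f4e4d4c4b4a494847464544434241403f3e3d3c3b3a393837363534333231302f2e2d2c2b2a292827262524232221201f1e1d1c1b1a191817161514131211100f0e0d0c0b0a09080706050403020100

/-- The model letters as words in the three generators. -/
def hw : Nat → List (Fin 3)
  | 0 => HSPresent28.hpWords.getD 0 []
  | 1 => HSPresent28.hpWords.getD 1 []
  | 2 => HSPresent28.hpWords.getD 2 []
  | 6 => HSPresent28.hpWords.getD 3 []
  | 7 => HSPresent28.hpWords.getD 3 [] ++ HSPresent28.hpWords.getD 3 []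
  | _ => []

/-- The model letters. -/
noncomputable def hbar (x : Nat) : Hp := wordE (hw x)

/-- The code of a word in the letters. -/
def vc : List Nat → ℕ
  | [] => idc
  | x :: r => comp (pc x) (vc r)

theorem pc_ok : ∀ x ∈ [0, 1, 2, 6, 7], wc (hw x) = pc x := by
  decide +kernel

theorem rels_ok : ∀ w ∈ HSPresent28.rels, vc w = idc := by
  decide +kernel

theorem invol_ok : ∀ w ∈ [[0, 0], [1, 1], [2, 2], [7, 6]], vc w = idc := by
  decide +kernel

theorem back_ok : ∀ k : Fin 3, vc (HSPresent28.backWords.getD k []) = wc [k] ∧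
    ∀ x ∈ HSPresent28.backWords.getD k [], x ∈ [0, 1, 2, 6, 7] := by
  decide +kernel

theorem nontrivial_ok : pc 0 ≠ idc := by
  decide +kernel

theorem cd_val : ∀ w : List Nat, (∀ x ∈ w, x ∈ [0, 1, 2, 6, 7]) → cd (val hbar w) = vc w
  | [], _ => cd_one
  | x :: r, h => by
    rw [val_cons, cd_mul, cd_val r fun y hy => h y (List.mem_cons_of_mem _ hy)]
    show comp (cd (wordE (hw x))) _ = comp (pc x) _
    rw [cd_wordE, pc_ok x (h x (List.mem_cons_self ..))]

theorem rels_letters' : ∀ w ∈ HSPresent28.rels, ∀ x ∈ w, x ∈ [0, 1, 2, 6, 7] := by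
  decide +kernel

theorem hbar_rels : ∀ w ∈ HSPresent28.rels, val hbar w = 1 := fun w hw => cd_inj (by
  rw [cd_val w (rels_letters' w hw), rels_ok w hw, cd_one])

theorem hbar_pair {x y : Nat} (h : [x, y] ∈ [[0, 0], [1, 1], [2, 2], [7, 6]]) :
    hbar x * hbar y = 1 := by
  have hl : ∀ w ∈ ([[0, 0], [1, 1], [2, 2], [7, 6]] : List (List Nat)),
      ∀ z ∈ w, z ∈ [0, 1, 2, 6, 7] := by decide
  have := cd_val [x, y] (hl _ h)
  rw [invol_ok _ h] at this
  simpa [val] using cd_inj (this.trans cd_one.symm)

theorem hbar_onto (p : Hp) :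
    p ∈ Subgroup.closure ({hbar 0, hbar 1, hbar 2, hbar 6} : Set Hp) := by
  set S := Subgroup.closure ({hbar 0, hbar 1, hbar 2, hbar 6} : Set Hp) with hS
  have hlet : ∀ x ∈ [0, 1, 2, 6, 7], hbar x ∈ S := by
    intro x hx
    simp only [List.mem_cons, List.not_mem_nil, or_false] at hx
    rcases hx with rfl | rfl | rfl | rfl | rfl
    iterate 4 exact Subgroup.subset_closure (by simp)
    rw [eq_inv_of_mul_eq_one_left (hbar_pair (x := 7) (y := 6) (by simp))]
    exact inv_mem (Subgroup.subset_closure (by simp))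
  have hgen : ∀ k : Fin 3, wordE [k] ∈ S := by
    intro k
    have e : val hbar (HSPresent28.backWords.getD k []) = wordE [k] := cd_inj (by
      rw [cd_val _ (back_ok k).2, (back_ok k).1, cd_wordE])
    rw [← e]
    refine list_prod_mem ?_
    intro y hy
    obtain ⟨x, hx, rfl⟩ := List.mem_map.1 hy
    exact hlet x ((back_ok k).2 x hx)
  obtain ⟨q, q', rfl⟩ := p
  have hq : q' ∈ Subgroup.closure ({HSPerm.gx, HSPerm.gy, HSPerm.gz} : Set HSPerm.Gr) :=
    HSPerm.closure_gens ▸ Subgroup.mem_top q'
  induction hq using Subgroup.closure_induction with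
  | mem y hy =>
    have hk : ∀ k : Fin 3, (⟨HSPerm.ρ (HSPerm.gen k), _, rfl⟩ : Hp) ∈ S := fun k => by
      have := hgen k
      simpa [wordE] using this
    rcases hy with rfl | rfl | rfl
    exacts [hk 0, hk 1, hk 2]
  | one =>
    convert S.one_mem using 1
    exact Subtype.ext (map_one _)
  | mul a b _ _ ha hb =>
    convert S.mul_mem ha hb using 1
    exact Subtype.ext (map_mul _ _ _)
  | inv a _ ha =>
    convert S.inv_mem ha using 1
    exact Subtype.ext (map_inv _ _)

/-- **Letters satisfying the relators generate a copy of the Higman–Sims group.** -/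
theorem iso_of_rels [Finite G] (g : Nat → G) (h0 : g 0 * g 0 = 1) (h1 : g 1 * g 1 = 1)
    (h2 : g 2 * g 2 = 1) (h7 : g 7 = (g 6)⁻¹) (hrels : ∀ w ∈ HSPresent28.rels, val g w = 1)
    (hne : g 0 ≠ 1) :
    Nonempty ((Subgroup.closure ({g 0, g 1, g 2, g 6} : Set G) : Subgroup G) ≃* Hp) := by
  let gb : Nat → G × Hp := fun x => (g x, hbar x)
  have hv : ∀ w, val gb w = (val g w, val hbar w) := by
    intro w
    induction w with
    | nil => rfl
    | cons x r ih => rw [val_cons, val_cons, val_cons, ih]; rfl
  have b0 : gb 0 * gb 0 = 1 := Prod.ext h0 (hbar_pair (by simp))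
  have b1 : gb 1 * gb 1 = 1 := Prod.ext h1 (hbar_pair (by simp))
  have b2 : gb 2 * gb 2 = 1 := Prod.ext h2 (hbar_pair (by simp))
  have b7 : gb 7 = (gb 6)⁻¹ :=
    Prod.ext h7 (eq_inv_of_mul_eq_one_left (hbar_pair (x := 7) (y := 6) (by simp)))
  have brels : ∀ w ∈ HSPresent28.rels, val gb w = 1 := fun w hw => by
    rw [hv, hrels w hw, hbar_rels w hw]; rfl
  set K2 := Subgroup.closure ({gb 0, gb 1, gb 2, gb 6} : Set (G × Hp)) with hK2
  have hle : Nat.card K2 ≤ Nat.card Hp := by
    rw [card_Hp]
    refine (HSRecog47Cert.index_le gb b0 b1 b2 b7 brels).trans ?_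
    calc 4125 * _ ≤ 4125 * 10752 := Nat.mul_le_mul_left _ (small_le gb b0 b2 b7 brels)
      _ = 44352000 := by norm_num
  set π : K2 →* Hp := (MonoidHom.snd G Hp).comp K2.subtype with hπ
  have hsurj : Function.Surjective π := by
    rw [← MonoidHom.range_eq_top, hπ, MonoidHom.range_comp, Subgroup.range_subtype, hK2,
      MonoidHom.map_closure, eq_top_iff]
    intro p _
    have := hbar_onto p
    simpa [Set.image_insert_eq, gb] using this
  have hbij : Function.Bijective π :=
    (Nat.bijective_iff_surjective_and_card π).2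
      ⟨hsurj, le_antisymm hle (Nat.card_le_card_of_surjective π hsurj)⟩
  let e : K2 ≃* Hp := MulEquiv.ofBijective π hbij
  let ψ : Hp →* G := ((MonoidHom.fst G Hp).comp K2.subtype).comp e.symm.toMonoidHom
  have hrange : ψ.range = Subgroup.closure ({g 0, g 1, g 2, g 6} : Set G) := by
    show (((MonoidHom.fst G Hp).comp K2.subtype).comp e.symm.toMonoidHom).range = _
    rw [MonoidHom.range_comp, MonoidHom.range_eq_top_of_surjective e.symm.toMonoidHom e.symm.surjective,
      ← MonoidHom.range_eq_map, MonoidHom.range_comp, Subgroup.range_subtype, hK2,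
      MonoidHom.map_closure]
    simp [Set.image_insert_eq, gb]
  have hinj : Function.Injective ψ := by
    have := simple_Hp
    rw [← MonoidHom.ker_eq_bot_iff]
    refine (Subgroup.Normal.eq_bot_or_eq_top inferInstance).resolve_right fun hk => hne ?_
    have hm : g 0 ∈ ψ.range := hrange ▸ Subgroup.subset_closure (by simp)
    obtain ⟨p, hp⟩ := hm
    rw [← hp]
    exact MonoidHom.mem_ker.1 (hk ▸ Subgroup.mem_top p)
  exact ⟨((MonoidHom.ofInjective hinj).trans (MulEquiv.subgroupCongr hrange)).symm⟩

end Cfsg.Agent.HSRecog47Iso
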