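import Cfsg.Agent.Lib.HSRecog47KData

/-! A coset enumeration in the two-local presentation of the Higman-Sims group.
The data only feeds a checker; nothing here is assumed. -/

set_option autoImplicit false
set_option maxRecDepth 100000
set_option Elab.async false

namespace Cfsg.Agent.HSRecog47KP

open Cfsg.Agent.CosetCertCore Cfsg.Agent.CosetCertTable Cfsg.Agent.CosetCertDir90
open Cfsg.Agent.HSRecog47KData

theorem points0 : allFrom (CosetCertDir90.edgesOk cert 70486 table) 128 0 = true := by
  decide +kernel

theorem points1 : allFrom (CosetCertDir90.edgesOk cert 70486 table) 128 128 = true := by
  decide +kernel

theorem points2 : allFrom (CosetCertDir90.edgesOk cert 70486 table) 128 256 = true := by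
  decide +kernel

theorem points3 : allFrom (CosetCertDir90.edgesOk cert 70486 table) 128 384 = true := by
  decide +kernel

theorem points4 : allFrom (CosetCertDir90.edgesOk cert 70486 table) 128 512 = true := by
  decide +kernel

theorem points5 : allFrom (CosetCertDir90.edgesOk cert 70486 table) 128 640 = true := by
  decide +kernel

theorem points6 : allFrom (CosetCertDir90.edgesOk cert 70486 table) 128 768 = true := by
  decide +kernel

theorem points7 : allFrom (CosetCertDir90.edgesOk cert 70486 table) 128 896 = true := by
  decide +kernel

theorem points8 : allFrom (CosetCertDir90.edgesOk cert 70486 table) 128 1024 = true := by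
  decide +kernel

theorem points9 : allFrom (CosetCertDir90.edgesOk cert 70486 table) 128 1152 = true := by
  decide +kernel

theorem points10 : allFrom (CosetCertDir90.edgesOk cert 70486 table) 128 1280 = true := by
  decide +kernel

theorem points11 : allFrom (CosetCertDir90.edgesOk cert 70486 table) 128 1408 = true := by
  decide +kernel

theorem points12 : allFrom (CosetCertDir90.edgesOk cert 70486 table) 128 1536 = true := by
  decide +kernel

theorem points13 : allFrom (CosetCertDir90.edgesOk cert 70486 table) 128 1664 = true := by
  decide +kernel

theorem points14 : allFrom (CosetCertDir90.edgesOk cert 70486 table) 128 1792 = true := by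
  decide +kernel

theorem points15 : allFrom (CosetCertDir90.edgesOk cert 70486 table) 128 1920 = true := by
  decide +kernel

theorem points16 : allFrom (CosetCertDir90.edgesOk cert 70486 table) 128 2048 = true := by
  decide +kernel

theorem points17 : allFrom (CosetCertDir90.edgesOk cert 70486 table) 128 2176 = true := by
  decide +kernel

theorem points18 : allFrom (CosetCertDir90.edgesOk cert 70486 table) 128 2304 = true := by
  decide +kernel

theorem points19 : allFrom (CosetCertDir90.edgesOk cert 70486 table) 128 2432 = true := by
  decide +kernel

theorem points20 : allFrom (CosetCertDir90.edgesOk cert 70486 table) 128 2560 = true := by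
  decide +kernel

theorem points21 : allFrom (CosetCertDir90.edgesOk cert 70486 table) 128 2688 = true := by
  decide +kernel

theorem points22 : allFrom (CosetCertDir90.edgesOk cert 70486 table) 128 2816 = true := by
  decide +kernel

theorem points23 : allFrom (CosetCertDir90.edgesOk cert 70486 table) 128 2944 = true := by
  decide +kernel

theorem points24 : allFrom (CosetCertDir90.edgesOk cert 70486 table) 128 3072 = true := by
  decide +kernel

theorem points25 : allFrom (CosetCertDir90.edgesOk cert 70486 table) 128 3200 = true := by
  decide +kernel

theorem points26 : allFrom (CosetCertDir90.edgesOk cert 70486 table) 128 3328 = true := by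
  decide +kernel

theorem points27 : allFrom (CosetCertDir90.edgesOk cert 70486 table) 128 3456 = true := by
  decide +kernel

theorem points28 : allFrom (CosetCertDir90.edgesOk cert 70486 table) 128 3584 = true := by
  decide +kernel

theorem points29 : allFrom (CosetCertDir90.edgesOk cert 70486 table) 128 3712 = true := by
  decide +kernel

theorem points30 : allFrom (CosetCertDir90.edgesOk cert 70486 table) 128 3840 = true := by
  decide +kernel

theorem points31 : allFrom (CosetCertDir90.edgesOk cert 70486 table) 128 3968 = true := by
  decide +kernel

theorem points32 : allFrom (CosetCertDir90.edgesOk cert 70486 table) 29 4096 = true := by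
  decide +kernel

/-- All edges are witnessed. -/
theorem edges : AllBelow (CosetCertDir90.edgesOk cert 70486 table) 4125 := by
  have h : AllBelow (CosetCertDir90.edgesOk cert 70486 table) 0 := AllBelow.zero _
  replace h := h.step _ points0
  replace h := h.step _ points1
  replace h := h.step _ points2
  replace h := h.step _ points3
  replace h := h.step _ points4
  replace h := h.step _ points5
  replace h := h.step _ points6
  replace h := h.step _ points7
  replace h := h.step _ points8
  replace h := h.step _ points9
  replace h := h.step _ points10
  replace h := h.step _ points11
  replace h := h.step _ points12
  replace h := h.step _ points13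
  replace h := h.step _ points14
  replace h := h.step _ points15
  replace h := h.step _ points16
  replace h := h.step _ points17
  replace h := h.step _ points18
  replace h := h.step _ points19
  replace h := h.step _ points20
  replace h := h.step _ points21
  replace h := h.step _ points22
  replace h := h.step _ points23
  replace h := h.step _ points24
  replace h := h.step _ points25
  replace h := h.step _ points26
  replace h := h.step _ points27
  replace h := h.step _ points28
  replace h := h.step _ points29
  replace h := h.step _ points30
  replace h := h.step _ points31
  replace h := h.step _ points32
  exact h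

end Cfsg.Agent.HSRecog47KP
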