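import Mathlib

/-!
A group generated by `a, b` with `a² = b³ = (a b)⁷ = (a b⁻¹ a b)⁴ = 1` has at most 168 elements: the 168 words
below are closed under right multiplication by the generators, by a checked list of deductions.
-/

set_option autoImplicit false
set_option maxRecDepth 100000

namespace Cfsg.Agent.HSRecog71Pres

/-- words for the elements -/
def words : List (List ℕ) :=
  [
   [], [0], [1], [2], [0,1], [0,2], [1,0], [2,0], [0,1,0], [0,2,0], [1,0,1], [1,0,2], [2,0,1],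
   [2,0,2], [0,1,0,1], [0,1,0,2], [0,2,0,1], [0,2,0,2], [1,0,1,0], [1,0,2,0], [2,0,1,0], [2,0,2,0],
   [0,1,0,1,0], [0,1,0,2,0], [0,2,0,1,0], [0,2,0,2,0], [1,0,1,0,1], [1,0,1,0,2], [1,0,2,0,1],
   [1,0,2,0,2], [2,0,1,0,1], [2,0,1,0,2], [2,0,2,0,1], [2,0,2,0,2], [0,1,0,1,0,1], [0,1,0,1,0,2],
   [0,1,0,2,0,1], [0,1,0,2,0,2], [0,2,0,1,0,1], [0,2,0,1,0,2], [0,2,0,2,0,1], [0,2,0,2,0,2],
   [1,0,1,0,1,0], [1,0,1,0,2,0], [1,0,2,0,1,0], [1,0,2,0,2,0], [2,0,1,0,1,0], [2,0,1,0,2,0],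
   [2,0,2,0,1,0], [2,0,2,0,2,0], [0,1,0,1,0,1,0], [0,1,0,1,0,2,0], [0,1,0,2,0,1,0],
   [0,1,0,2,0,2,0], [0,2,0,1,0,1,0], [0,2,0,1,0,2,0], [0,2,0,2,0,1,0], [0,2,0,2,0,2,0],
   [1,0,1,0,1,0,2], [1,0,1,0,2,0,1], [1,0,1,0,2,0,2], [1,0,2,0,1,0,1], [1,0,2,0,1,0,2],
   [1,0,2,0,2,0,1], [1,0,2,0,2,0,2], [2,0,1,0,1,0,1], [2,0,1,0,1,0,2], [2,0,1,0,2,0,1],
   [2,0,1,0,2,0,2], [2,0,2,0,1,0,1], [2,0,2,0,1,0,2], [2,0,2,0,2,0,1], [0,1,0,1,0,2,0,1],
   [0,1,0,1,0,2,0,2], [0,1,0,2,0,1,0,1], [0,1,0,2,0,1,0,2], [0,1,0,2,0,2,0,1], [0,1,0,2,0,2,0,2],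
   [0,2,0,1,0,1,0,1], [0,2,0,1,0,1,0,2], [0,2,0,1,0,2,0,1], [0,2,0,1,0,2,0,2], [0,2,0,2,0,1,0,1],
   [0,2,0,2,0,1,0,2], [1,0,1,0,1,0,2,0], [1,0,1,0,2,0,1,0], [1,0,1,0,2,0,2,0], [1,0,2,0,1,0,1,0],
   [1,0,2,0,2,0,1,0], [2,0,1,0,1,0,2,0], [2,0,1,0,2,0,2,0], [2,0,2,0,1,0,1,0], [2,0,2,0,1,0,2,0],
   [2,0,2,0,2,0,1,0], [0,1,0,1,0,2,0,1,0], [0,1,0,1,0,2,0,2,0], [0,1,0,2,0,1,0,1,0],
   [0,1,0,2,0,2,0,1,0], [0,2,0,1,0,1,0,2,0], [0,2,0,1,0,2,0,2,0], [0,2,0,2,0,1,0,1,0],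
   [0,2,0,2,0,1,0,2,0], [1,0,1,0,1,0,2,0,1], [1,0,1,0,1,0,2,0,2], [1,0,1,0,2,0,1,0,1],
   [1,0,1,0,2,0,2,0,1], [1,0,1,0,2,0,2,0,2], [1,0,2,0,1,0,1,0,1], [1,0,2,0,1,0,1,0,2],
   [1,0,2,0,2,0,1,0,1], [1,0,2,0,2,0,1,0,2], [2,0,1,0,1,0,2,0,1], [2,0,1,0,1,0,2,0,2],
   [2,0,1,0,2,0,2,0,1], [2,0,1,0,2,0,2,0,2], [2,0,2,0,1,0,1,0,1], [2,0,2,0,1,0,1,0,2],
   [2,0,2,0,2,0,1,0,1], [2,0,2,0,2,0,1,0,2], [0,1,0,1,0,2,0,1,0,1], [0,1,0,1,0,2,0,2,0,1],
   [0,1,0,1,0,2,0,2,0,2], [0,1,0,2,0,1,0,1,0,1], [0,1,0,2,0,1,0,1,0,2], [0,1,0,2,0,2,0,1,0,1],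
   [0,1,0,2,0,2,0,1,0,2], [0,2,0,1,0,1,0,2,0,1], [0,2,0,1,0,1,0,2,0,2], [0,2,0,1,0,2,0,2,0,1],
   [0,2,0,1,0,2,0,2,0,2], [0,2,0,2,0,1,0,1,0,1], [0,2,0,2,0,1,0,1,0,2], [1,0,1,0,1,0,2,0,1,0],
   [1,0,1,0,1,0,2,0,2,0], [1,0,1,0,2,0,1,0,1,0], [1,0,1,0,2,0,2,0,1,0], [1,0,2,0,1,0,1,0,2,0],
   [1,0,2,0,2,0,1,0,1,0], [1,0,2,0,2,0,1,0,2,0], [2,0,1,0,1,0,2,0,1,0], [2,0,1,0,1,0,2,0,2,0],
   [2,0,1,0,2,0,2,0,1,0], [2,0,2,0,1,0,1,0,2,0], [2,0,2,0,2,0,1,0,1,0], [2,0,2,0,2,0,1,0,2,0],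
   [0,1,0,1,0,2,0,1,0,1,0], [0,1,0,1,0,2,0,2,0,1,0], [0,1,0,2,0,1,0,1,0,2,0],
   [0,1,0,2,0,2,0,1,0,1,0], [0,1,0,2,0,2,0,1,0,2,0], [0,2,0,1,0,1,0,2,0,1,0],
   [0,2,0,1,0,1,0,2,0,2,0], [0,2,0,1,0,2,0,2,0,1,0], [0,2,0,2,0,1,0,1,0,2,0],
   [1,0,1,0,1,0,2,0,1,0,1], [1,0,1,0,1,0,2,0,2,0,2], [1,0,1,0,2,0,1,0,1,0,1],
   [1,0,1,0,2,0,1,0,1,0,2], [1,0,1,0,2,0,2,0,1,0,1], [1,0,2,0,1,0,1,0,2,0,1],
   [1,0,2,0,2,0,1,0,1,0,2], [2,0,1,0,1,0,2,0,1,0,1], [2,0,1,0,1,0,2,0,2,0,1],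
   [2,0,1,0,2,0,2,0,1,0,2], [2,0,2,0,1,0,1,0,2,0,2], [2,0,2,0,2,0,1,0,1,0,1],
   [0,1,0,1,0,2,0,1,0,1,0,1], [0,1,0,1,0,2,0,1,0,1,0,2]]

/-- the tree of the words: `words j = words i ++ [x]` -/
def tree : List (ℕ × ℕ × ℕ) :=
  [
   (0,0,1), (0,1,2), (0,2,3), (1,1,4), (1,2,5), (2,0,6), (3,0,7), (4,0,8), (5,0,9), (6,1,10),
   (6,2,11), (7,1,12), (7,2,13), (8,1,14), (8,2,15), (9,1,16), (9,2,17), (10,0,18), (11,0,19),
   (12,0,20), (13,0,21), (14,0,22), (15,0,23), (16,0,24), (17,0,25), (18,1,26), (18,2,27),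
   (19,1,28), (19,2,29), (20,1,30), (20,2,31), (21,1,32), (21,2,33), (22,1,34), (22,2,35),
   (23,1,36), (23,2,37), (24,1,38), (24,2,39), (25,1,40), (25,2,41), (26,0,42), (27,0,43),
   (28,0,44), (29,0,45), (30,0,46), (31,0,47), (32,0,48), (33,0,49), (34,0,50), (35,0,51),
   (36,0,52), (37,0,53), (38,0,54), (39,0,55), (40,0,56), (41,0,57), (42,2,58), (43,1,59),
   (43,2,60), (44,1,61), (44,2,62), (45,1,63), (45,2,64), (46,1,65), (46,2,66), (47,1,67),
   (47,2,68), (48,1,69), (48,2,70), (49,1,71), (51,1,72), (51,2,73), (52,1,74), (52,2,75),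
   (53,1,76), (53,2,77), (54,1,78), (54,2,79), (55,1,80), (55,2,81), (56,1,82), (56,2,83),
   (58,0,84), (59,0,85), (60,0,86), (61,0,87), (63,0,88), (66,0,89), (68,0,90), (69,0,91),
   (70,0,92), (71,0,93), (72,0,94), (73,0,95), (74,0,96), (76,0,97), (79,0,98), (81,0,99),
   (82,0,100), (83,0,101), (84,1,102), (84,2,103), (85,1,104), (86,1,105), (86,2,106), (87,1,107),
   (87,2,108), (88,1,109), (88,2,110), (89,1,111), (89,2,112), (90,1,113), (90,2,114), (91,1,115),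
   (91,2,116), (93,1,117), (93,2,118), (94,1,119), (95,1,120), (95,2,121), (96,1,122), (96,2,123),
   (97,1,124), (97,2,125), (98,1,126), (98,2,127), (99,1,128), (99,2,129), (100,1,130),
   (100,2,131), (102,0,132), (103,0,133), (104,0,134), (105,0,135), (108,0,136), (109,0,137),
   (110,0,138), (111,0,139), (112,0,140), (113,0,141), (116,0,142), (117,0,143), (118,0,144),
   (119,0,145), (120,0,146), (123,0,147), (124,0,148), (125,0,149), (126,0,150), (127,0,151),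
   (128,0,152), (131,0,153), (132,1,154), (133,2,155), (134,1,156), (134,2,157), (135,1,158),
   (136,1,159), (137,2,160), (139,1,161), (140,1,162), (141,2,163), (142,2,164), (143,1,165),
   (145,1,166), (145,2,167)]

/-- rotations of the relators -/
def rots : List (List ℕ) :=
  [
   [0,1,0,1,0,1,0,1,0,1,0,1,0,1], [1,0,1,0,1,0,1,0,1,0,1,0,1,0], [0,2,0,1,0,2,0,1,0,2,0,1,0,2,0,1],
   [2,0,1,0,2,0,1,0,2,0,1,0,2,0,1,0], [0,1,0,2,0,1,0,2,0,1,0,2,0,1,0,2],
   [1,0,2,0,1,0,2,0,1,0,2,0,1,0,2,0], [0,0], [1,1,1], [2,1], [1,2]]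

/-- deductions: start and rotation -/
def steps : List (ℕ × ℕ) :=
  [
   (3,7), (5,7), (11,7), (13,7), (15,7), (17,7), (27,7), (29,7), (31,7), (33,7), (35,7), (37,7),
   (39,7), (41,7), (49,0), (50,7), (57,0), (58,7), (60,7), (62,5), (62,7), (64,1), (64,7), (66,7),
   (67,3), (68,7), (70,7), (73,7), (75,7), (77,1), (77,7), (79,7), (81,7), (83,7), (85,2), (92,7),
   (94,2), (101,7), (103,7), (106,1), (106,7), (108,7), (110,7), (112,7), (114,1), (114,7),
   (116,7), (118,7), (121,1), (121,7), (123,7), (125,7), (127,7), (129,1), (129,7), (131,7),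
   (132,2), (133,4), (135,2), (136,0), (138,7), (139,2), (140,0), (142,4), (143,2), (144,7),
   (147,0), (148,7), (149,7), (151,0), (152,7), (153,7), (154,5), (155,1), (155,2), (157,1),
   (157,7), (158,5), (159,1), (160,5), (160,7), (161,1), (163,0), (164,0), (166,4)]
/-- the inverse letter -/
def inv : ℕ → ℕ
  | 0 => 0
  | 1 => 2
  | _ => 1

/-- an edge and its reverse -/
def both (e : ℕ × ℕ × ℕ) : List (ℕ × ℕ × ℕ) := [e, (e.2.2, inv e.2.1, e.1)]

/-- look up an edge -/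
def look (K : List (ℕ × ℕ × ℕ)) (i x : ℕ) : Option ℕ :=
  (K.find? fun e => e.1 == i && e.2.1 == x).map fun e => e.2.2

/-- follow a word -/
def walk (K : List (ℕ × ℕ × ℕ)) : List ℕ → ℕ → Option ℕ
  | [], i => some i
  | x :: r, i => (look K i x).bind (walk K r)

/-- the edge closing a relator -/
def deduce (K : List (ℕ × ℕ × ℕ)) (s : ℕ × ℕ) : List (ℕ × ℕ × ℕ) :=
  let r := rots.getD s.2 [0, 0]
  match walk K r.dropLast s.1 with
  | some k => both (k, r.getLastD 0, s.1) ++ K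
  | none => K

/-- all edges -/
def edges : List (ℕ × ℕ × ℕ) := steps.foldl deduce (tree.flatMap both)

theorem tree_ok : (tree.all fun e => words.getD e.2.2 [] == words.getD e.1 [] ++ [e.2.1]) = true := by
  decide +kernel

theorem edges_ok :
    ((List.range 168).all fun i => (List.range 3).all fun x =>
      (look edges i x).any fun j => decide (j < 168)) = true := by
  decide +kernel

variable {G : Type*} [Group G] {a b : G}

/-- the letters -/
def g (a b : G) : ℕ → G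
  | 0 => a
  | 1 => b
  | _ => b⁻¹

/-- the value of a word -/
def val (a b : G) (w : List ℕ) : G := (w.map (g a b)).prod

/-- the elements -/
def p (a b : G) (i : ℕ) : G := val a b (words.getD i [])

/-- the meaning of an edge -/
def Ok (a b : G) (e : ℕ × ℕ × ℕ) : Prop := p a b e.1 * g a b e.2.1 = p a b e.2.2

theorem g_inv (ha : a * a = 1) (x : ℕ) : g a b (inv x) = (g a b x)⁻¹ := by
  match x with
  | 0 => exact (inv_eq_of_mul_eq_one_right ha).symm
  | 1 => rfl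
  | n + 2 => simp [inv, g]

theorem ok_both (ha : a * a = 1) {e : ℕ × ℕ × ℕ} (h : Ok a b e) : ∀ f ∈ both e, Ok a b f := by
  intro f hf
  simp only [both, List.mem_cons, List.not_mem_nil, or_false] at hf
  rcases hf with rfl | rfl
  · exact h
  · simp only [Ok] at h ⊢
    rw [g_inv ha, ← h, mul_inv_cancel_right]

theorem look_ok {K : List (ℕ × ℕ × ℕ)} (hK : ∀ e ∈ K, Ok a b e) {i x j : ℕ}
    (h : look K i x = some j) : p a b i * g a b x = p a b j := by
  simp only [look, Option.map_eq_some_iff] at h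
  obtain ⟨e, he, rfl⟩ := h
  have h1 := List.find?_some he
  simp only [Bool.and_eq_true, beq_iff_eq] at h1
  rw [← h1.1, ← h1.2]
  exact hK e (List.mem_of_find?_eq_some he)

theorem walk_ok {K : List (ℕ × ℕ × ℕ)} (hK : ∀ e ∈ K, Ok a b e) :
    ∀ (r : List ℕ) (i k : ℕ), walk K r i = some k → p a b i * val a b r = p a b k
  | [], i, k, h => by
    simp only [walk, Option.some.injEq] at h
    simp [val, h]
  | x :: r, i, k, h => by
    simp only [walk, Option.bind_eq_some_iff] at h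
    obtain ⟨j, hj, hk⟩ := h
    rw [← walk_ok hK r j k hk, ← look_ok hK hj]
    simp [val, mul_assoc]

variable (ha : a ^ 2 = 1) (hb : b ^ 3 = 1) (hab : (a * b) ^ 7 = 1)
  (hc : (a * b⁻¹ * a * b) ^ 4 = 1)

include ha hb hab hc

theorem rots_ok : ∀ r ∈ rots, val a b r = 1 := by
  have conj1 : ∀ x y : G, ∀ n : ℕ, (x * y) ^ n = 1 → (y * x) ^ n = 1 := by
    intro x y n h
    rw [show y * x = x⁻¹ * (x * y) * x⁻¹⁻¹ by group, conj_pow, h]
    group
  have h2 : (b * a) ^ 7 = 1 := conj1 _ _ _ hab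
  have c1 : (b⁻¹ * a * b * a) ^ 4 = 1 := by
    have := conj1 a (b⁻¹ * a * b) 4 (by rw [← hc]; group)
    rw [← this]
  have c2 : (a * b * a * b⁻¹) ^ 4 = 1 := by
    have := conj1 b⁻¹ (a * b * a) 4 (by rw [← c1]; group)
    rw [← this]
  have c3 : (b * a * b⁻¹ * a) ^ 4 = 1 := by
    have := conj1 a (b * a * b⁻¹) 4 (by rw [← c2]; group)
    rw [← this]
  intro r hr
  simp only [rots, List.mem_cons, List.not_mem_nil, or_false] at hr
  rcases hr with rfl | rfl | rfl | rfl | rfl | rfl | rfl | rfl | rfl | rfl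
  all_goals
    simp only [val, g, List.map_cons, List.map_nil, List.prod_cons, List.prod_nil, mul_one]
  · rw [← hab]; simp [pow_succ, mul_assoc]
  · rw [← h2]; simp [pow_succ, mul_assoc]
  · rw [← hc]; simp [pow_succ, mul_assoc]
  · rw [← c1]; simp [pow_succ, mul_assoc]
  · rw [← c2]; simp [pow_succ, mul_assoc]
  · rw [← c3]; simp [pow_succ, mul_assoc]
  · rw [← ha, sq]
  · rw [← hb]; simp [pow_succ, mul_assoc]
  · simp
  · simp

theorem edges_sound : ∀ e ∈ edges, Ok a b e := by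
  have ha' : a * a = 1 := by rw [← sq, ha]
  have h0 : ∀ e ∈ tree.flatMap both, Ok a b e := by
    intro e he
    obtain ⟨f, hf, he⟩ := List.mem_flatMap.1 he
    refine ok_both ha' ?_ e he
    have h := (List.all_eq_true.1 tree_ok) f hf
    rw [beq_iff_eq] at h
    simp only [Ok, p]
    rw [h]
    simp [val]
  have key : ∀ (l : List (ℕ × ℕ)) (K : List (ℕ × ℕ × ℕ)),
      (∀ e ∈ K, Ok a b e) → ∀ e ∈ l.foldl deduce K, Ok a b e := by
    intro l
    induction l with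
    | nil => exact fun K hK => hK
    | cons s l ih =>
      intro K hK
      refine ih _ ?_
      intro e he
      simp only [deduce] at he
      have hr : val a b (rots.getD s.2 [0, 0]) = 1 := by
        rcases Nat.lt_or_ge s.2 rots.length with h | h
        · rw [List.getD_eq_getElem _ _ h]
          exact rots_ok ha hb hab hc _ (List.getElem_mem h)
        · rw [List.getD_eq_default _ _ h]
          simp [val, g, ha']
      generalize hR : rots.getD s.2 [0, 0] = R at he hr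
      cases hw : walk K R.dropLast s.1 with
      | none => rw [hw] at he; exact hK e he
      | some k =>
        rw [hw] at he
        rcases List.mem_append.1 he with he | he
        · refine ok_both ha' ?_ e he
          show p a b k * g a b (R.getLastD 0) = p a b s.1
          rw [← walk_ok hK _ _ _ hw, mul_assoc]
          by_cases hne : R = []
          · exfalso
            rcases Nat.lt_or_ge s.2 rots.length with h | h
            · rw [List.getD_eq_getElem _ _ h] at hR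
              have := List.getElem_mem h
              rw [hR, hne] at this
              exact absurd this (by decide)
            · rw [List.getD_eq_default _ _ h, hne] at hR
              simp at hR
          · have e1 : val a b R.dropLast * g a b (R.getLastD 0) = val a b R := by
              conv_rhs => rw [← List.dropLast_append_getLast hne]
              simp [val, List.getLastD_eq_getLast?, List.getLast?_eq_some_getLast hne]
            rw [e1, hr, mul_one]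
        · exact hK e he
  exact key steps _ h0

theorem card_le : Finite (Subgroup.closure ({a, b} : Set G)) ∧
    Nat.card (Subgroup.closure ({a, b} : Set G)) ≤ 168 := by
  have hs := edges_sound ha hb hab hc
  have step : ∀ i < 168, ∀ x < 3, ∃ j < 168, p a b i * g a b x = p a b j := by
    intro i hi x hx
    have h := List.all_eq_true.1 ((List.all_eq_true.1 edges_ok) i (List.mem_range.2 hi)) x
      (List.mem_range.2 hx)
    cases hl : look edges i x with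
    | none => rw [hl] at h; simp at h
    | some j =>
      rw [hl] at h
      exact ⟨j, by simpa using h, look_ok hs hl⟩
  have hmem : ∀ y ∈ Subgroup.closure ({a, b} : Set G), ∃ j < 168, p a b j = y := by
    intro y hy
    induction hy using Subgroup.closure_induction_right with
    | one => exact ⟨0, by norm_num, rfl⟩
    | mul_right u _ z hz ih =>
      obtain ⟨i, hi, rfl⟩ := ih
      rcases hz with rfl | rfl
      · obtain ⟨j, hj, h⟩ := step i hi 0 (by norm_num); exact ⟨j, hj, h.symm⟩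
      · obtain ⟨j, hj, h⟩ := step i hi 1 (by norm_num); exact ⟨j, hj, h.symm⟩
    | mul_inv_cancel u _ z hz ih =>
      obtain ⟨i, hi, rfl⟩ := ih
      rcases hz with rfl | rfl
      · obtain ⟨j, hj, h⟩ := step i hi 0 (by norm_num)
        refine ⟨j, hj, ?_⟩
        rw [inv_eq_of_mul_eq_one_right (show z * z = 1 by rw [← sq, ha])]
        exact h.symm
      · obtain ⟨j, hj, h⟩ := step i hi 2 (by norm_num); exact ⟨j, hj, h.symm⟩
  choose f hf1 hf2 using hmem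
  have hinj : Function.Injective
      (fun y : Subgroup.closure ({a, b} : Set G) => (⟨f y.1 y.2, hf1 _ y.2⟩ : Fin 168)) := by
    intro u v huv
    simp only [Fin.mk.injEq] at huv
    exact Subtype.ext (by rw [← hf2 _ u.2, ← hf2 _ v.2, huv])
  have := Finite.of_injective _ hinj
  exact ⟨inferInstance, (Nat.card_le_card_of_injective _ hinj).trans_eq (Nat.card_fin 168)⟩

end Cfsg.Agent.HSRecog71Pres

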