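import Cfsg.Agent.Lib.HSRecog71MLift
import Cfsg.Agent.Lib.HSRecog71Pres

/-!
Every setting of the Higman–Sims recognition has a frame of the eight-group normaliser.
-/

set_option autoImplicit false
set_option linter.unusedSectionVars false
set_option linter.style.haveILetI false
set_option synthInstance.maxSize 4096
set_option synthInstance.maxHeartbeats 200000
set_option maxRecDepth 100000

namespace Cfsg.Agent.HSRecog71MFrame

open Subgroup
open Cfsg.Agent.HSRecog71MModel Cfsg.Agent.HSRecog71MSetup Cfsg.Agent.HSRecog71MLift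
open HSModel28 (Vec linA linB)

/-- the image of a word -/
def wordT : List ℕ → M2
  | [] => I2
  | x :: r => comp (match x with | 0 => A0 | 1 => B0 | _ => comp B0 B0) (wordT r)

theorem words_nodup : (HSRecog71Pres.words.map wordT).Nodup ∧
    (HSRecog71Pres.words.map wordT).length = 168 ∧
    (∀ T ∈ HSRecog71Pres.words.map wordT, Inj T) := by
  decide +kernel

theorem words_all (T : M2) (hT : Inj T) : ∃ w ∈ HSRecog71Pres.words, wordT w = T := by
  classical
  have h : (HSRecog71Pres.words.map wordT).toFinset = Finset.univ.filter Inj := by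
    refine Finset.eq_of_subset_of_card_le (fun U hU => ?_) ?_
    · exact Finset.mem_filter.2 ⟨Finset.mem_univ _, words_nodup.2.2 U (List.mem_toFinset.1 hU)⟩
    · rw [List.toFinset_card_of_nodup words_nodup.1, words_nodup.2.1, ← Fintype.card_subtype,
        card_inj]
  have := (Finset.ext_iff.1 h T).2 (Finset.mem_filter.2 ⟨Finset.mem_univ _, hT⟩)
  exact List.mem_map.1 (List.mem_toFinset.1 this)

theorem lin_eq :
    (∀ v, lin3 (linA (1, 0, 0)) (linA (0, 1, 0)) (linA (0, 0, 1)) v = linA v) ∧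
      ∀ v, lin3 (linB (1, 0, 0)) (linB (0, 1, 0)) (linB (0, 0, 1)) v = linB v := by
  decide +kernel

theorem lin_basis : linA (1, 0, 0) = (0, 0, 1) ∧ linA (0, 1, 0) = -((0, 1, 0) : Vec) ∧
    linA (0, 0, 1) = (1, 0, 0) ∧ linB (1, 0, 0) = (1, 0, 0) ∧
    linB (0, 1, 0) = -((0, 1, 0) : Vec) + (0, 0, 1) ∧
    linB (0, 0, 1) = ((1, 0, 0) : Vec) + -(0, 1, 0) := by
  decide +kernel

theorem lin3_basis (x y z : Vec) :
    lin3 x y z (1, 0, 0) = x ∧ lin3 x y z (0, 1, 0) = y ∧ lin3 x y z (0, 0, 1) = z := by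
  simp [lin3]

theorem vec_split (v : Vec) :
    v = v.1.val • (1, 0, 0) + v.2.1.val • (0, 1, 0) + v.2.2.val • (0, 0, 1) := by
  ext <;> simp

theorem four_zero : ∀ v : Vec, v + v + (v + v) = 0 := by decide +kernel

theorem v2_cases : ∀ u : V2, u = 0 ∨ u = f1 ∨ u = f2 ∨ u = f3 ∨ u = f1 + f2 ∨ u = f1 + f3 ∨
    u = f2 + f3 ∨ u = f1 + f2 + f3 := by decide +kernel

theorem red_up_up : red 0 = 0 ∧ up 0 = 0 ∧ red (1, 0, 0) = f1 ∧ red (0, 1, 0) = f2 ∧
    red (0, 0, 1) = f3 := by decide +kernel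

theorem mat_facts : ap A0 f1 = f3 ∧ ap A0 f2 = f2 ∧ ap B0 f1 = f1 ∧ ap B0 f3 = (1, 1, 0) ∧
    ap B0 f2 = (0, 1, 1) ∧ comp (comp Z0 Z0) (comp Z0 Z0) = I2 ∧
    (fun T => comp (comp A0 B0) T)^[7] I2 = I2 := by decide +kernel

variable {G : Type*} [Group G] [Finite G] {t : G} {H R Cy E V M : Subgroup G}

/-- coordinates on the two-core adapted to coordinates on the eight-group -/
structure IsW (M : Subgroup G) (κ : V2 → G) (W : Vec → G) : Prop extends IsCoord M W where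
  two : ∀ v, W (v + v) = κ (red v)

section W

variable {W : Vec → G} (hW : IsCoord M W)
include hW

theorem W_zero : W 0 = 1 := by simpa using (hW.add 0 0).symm

theorem W_neg (v : Vec) : W (-v) = (W v)⁻¹ :=
  eq_inv_of_mul_eq_one_left (by rw [← hW.add, neg_add_cancel, W_zero hW])

theorem W_nsmul (n : ℕ) (v : Vec) : W (n • v) = W v ^ n := by
  induction n with
  | zero => simp [W_zero hW]
  | succ n ih => rw [succ_nsmul, pow_succ, hW.add, ih]

theorem conj_lin {g : G} {x y z : Vec} (h1 : g * W (1, 0, 0) * g⁻¹ = W x)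
    (h2 : g * W (0, 1, 0) * g⁻¹ = W y) (h3 : g * W (0, 0, 1) * g⁻¹ = W z) (v : Vec) :
    g * W v * g⁻¹ = W (lin3 x y z v) := by
  have hz : ∀ (i : ZMod 4) (w : Vec), i.val • w = i • w := fun i w => by
    conv_rhs => rw [← ZMod.natCast_zmod_val i]
    rw [Nat.cast_smul_eq_nsmul]
  conv_lhs => rw [vec_split v, hW.add, hW.add, W_nsmul hW, W_nsmul hW, W_nsmul hW]
  rw [lin3, ← hz, ← hz, ← hz, hW.add, hW.add, W_nsmul hW, W_nsmul hW, W_nsmul hW, ← h1, ← h2,
    ← h3, conj_pow, conj_pow, conj_pow]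
  group

end W

variable {κ : V2 → G}

theorem exists_half_in {ι : Vec → G} (S : HSFrame28.Setting t H R Cy E V M) (hι : IsCoord M ι)
    (K : IsVCoord V κ) (u : V2) : ∃ p, ι (p + p) = κ u := by
  obtain ⟨v, hv⟩ := (hι.mem _).1 (V_le_core S ((K.mem _).2 ⟨u, rfl⟩))
  have h2 : v + v = 0 := hι.inj (by
    rw [hι.add, hv, W_zero hι, ← sq, S.hVexp _ ((K.mem _).2 ⟨u, rfl⟩)])
  obtain ⟨w, hw⟩ := exists_half v h2
  exact ⟨up w, by rw [hw, hv]⟩

theorem exists_W {ι : Vec → G} (hι : IsCoord M ι) (K : IsVCoord V κ) {p q r : Vec}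
    (hp : ι (p + p) = κ f1) (hq : ι (q + q) = κ f2) (hr : ι (r + r) = κ f3) :
    ∃ W, IsW M κ W ∧ W (1, 0, 0) = ι p ∧ W (0, 1, 0) = ι q ∧ W (0, 0, 1) = ι r := by
  let W : Vec → G := fun v => ι (lin3 p q r v)
  have hadd : ∀ x y, W (x + y) = W x * W y := fun x y => by simp only [W, lin3_add, hι.add]
  obtain ⟨e1, e2, e3⟩ := lin3_basis p q r
  have htwo : ∀ v, W (v + v) = κ (red v) := by
    intro v
    rw [two_red v]
    have gadd : ∀ u w : V2, W (up (u + w) + up (u + w)) = W (up u + up u) * W (up w + up w) :=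
      fun u w => by rw [two_up_add, hadd]
    have g1 : W (up f1 + up f1) = κ f1 := by
      rw [← red_up_up.2.2.1, ← two_red, red_up_up.2.2.1, ← hp]
      simp only [W, lin3_add, e1]
    have g2 : W (up f2 + up f2) = κ f2 := by
      rw [← red_up_up.2.2.2.1, ← two_red, red_up_up.2.2.2.1, ← hq]
      simp only [W, lin3_add, e2]
    have g3 : W (up f3 + up f3) = κ f3 := by
      rw [← red_up_up.2.2.2.2, ← two_red, red_up_up.2.2.2.2, ← hr]
      simp only [W, lin3_add, e3]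
    have g0 : W (up 0 + up 0) = κ 0 := by
      rw [red_up_up.2.1, kappa_zero K, add_zero]
      simp [W, lin3, W_zero hι]
    rcases v2_cases (red v) with h | h | h | h | h | h | h | h <;> rw [h] <;>
      simp only [gadd, K.add, g0, g1, g2, g3]
  have hinj : Function.Injective W := by
    intro x y h
    have hd : W (x - y) = 1 := by
      have := hadd (x - y) y
      rw [sub_add_cancel, h] at this
      exact right_eq_mul.1 this
    have h2 := htwo (x - y)
    rw [hadd, hd, one_mul, ← kappa_zero K] at h2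
    have h3 : red (x - y) = 0 := (K.inj h2).symm
    obtain ⟨w, hw⟩ := parity_split (x - y)
    rw [h3, red_up_up.2.1, zero_add] at hw
    rw [hw, htwo, red_up, ← kappa_zero K] at hd
    rw [K.inj hd, red_up_up.2.1, add_zero] at hw
    exact sub_eq_zero.1 hw
  have hbij : Function.Bijective (lin3 p q r) :=
    (Finite.injective_iff_bijective).1 fun x y h => hinj (congrArg ι h)
  refine ⟨W, ⟨⟨hadd, hinj, fun g => ?_⟩, htwo⟩, congrArg ι e1, congrArg ι e2, congrArg ι e3⟩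
  rw [hι.mem]
  constructor
  · rintro ⟨u, rfl⟩
    obtain ⟨v, rfl⟩ := hbij.2 u
    exact ⟨v, rfl⟩
  · rintro ⟨v, rfl⟩
    exact ⟨_, rfl⟩

/-- lifts of the generators with the required action -/
structure Pre (V M : Subgroup G) (κ : V2 → G) (W : Vec → G) (a b : G) : Prop where
  hK : IsVCoord V κ
  hW : IsW M κ W
  ha : a ∈ M
  hb : b ∈ M
  repA : Rep κ a A0
  repB : Rep κ b B0
  a2 : a * a = 1
  b3 : b * b * b = 1
  ca : ∀ v, a * W v * a⁻¹ = W (linA v)
  cb : ∀ v, b * W v * b⁻¹ = W (linB v)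

theorem exists_pre (S : HSFrame28.Setting t H R Cy E V M) :
    ∃ κ W a b, κ f1 = t ∧ Pre V M κ W a b := by
  obtain ⟨ι, hι⟩ := exists_coord S
  obtain ⟨κ, K, h1⟩ := exists_vcoord S
  obtain ⟨a, ha, ha2, hA⟩ := exists_involution K h1 S
  obtain ⟨g, hg, hgB⟩ := rep_surj K S inj_B0
  -- the element of order three
  have hg3 : g * g * g ∈ (Cfsg.pCore 2 M).map M.subtype := by
    refine rep_core K S (mul_mem (mul_mem hg hg) hg) ?_
    intro x
    rw [rep_mul K (rep_mul K hgB hgB) hgB x, ap_id]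
    have := congrArg (fun T => ap T x) B0_pow.1
    simp only [ap_comp, ap_id] at this ⊢
    rw [this]
  obtain ⟨b, hb, hb3, hB⟩ : ∃ b ∈ M, b * b * b = 1 ∧ Rep κ b B0 := by
    refine ⟨g * g * g * g, mul_mem (mul_mem (mul_mem hg hg) hg) hg, ?_, ?_⟩
    · obtain ⟨v, hv⟩ := (hι.mem _).1 hg3
      calc g * g * g * g * (g * g * g * g) * (g * g * g * g)
          = (g * g * g) * (g * g * g) * ((g * g * g) * (g * g * g)) := by group
        _ = 1 := by rw [← hv, ← hι.add, ← hι.add, four_zero, W_zero hι]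
    · intro x
      rw [rep_mul K (core_rep K S hg3) hgB x, ap_comp, ap_id]
  -- roots
  obtain ⟨p, hp⟩ := exists_half_in S hι K f1
  obtain ⟨q, hq⟩ := (hι.mem _).1 (core_conj S hb ((hι.mem _).2 ⟨p, rfl⟩))
  obtain ⟨r, hr⟩ := (hι.mem _).1 (core_conj S hb ((hι.mem _).2 ⟨q, rfl⟩))
  have hq2 : ι (q + q) = κ f1 := by
    rw [hι.add, hq, show b * ι p * b⁻¹ * (b * ι p * b⁻¹) = b * (ι p * ι p) * b⁻¹ by group,
      ← hι.add, hp, hB, mat_facts.2.2.1]
  have hr2 : ι (r + r) = κ f1 := by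
    rw [hι.add, hr, show b * ι q * b⁻¹ * (b * ι q * b⁻¹) = b * (ι q * ι q) * b⁻¹ by group,
      ← hι.add, hq2, hB, mat_facts.2.2.1]
  have hp' : ι ((p + q + r) + (p + q + r)) = κ f1 := by
    rw [show (p + q + r) + (p + q + r) = (p + p) + (q + q) + (r + r) by abel, hι.add, hι.add, hp,
      hq2, hr2, ← K.add, ← K.add]
    exact congrArg κ (by decide)
  have hcb : b * ι (p + q + r) * b⁻¹ = ι (p + q + r) := by
    have hr' : b * ι r * b⁻¹ = ι p := by
      rw [hr, hq]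
      calc b * (b * (b * ι p * b⁻¹) * b⁻¹) * b⁻¹ = (b * b * b) * ι p * (b * b * b)⁻¹ := by group
        _ = ι p := by rw [hb3]; group
    calc b * ι (p + q + r) * b⁻¹
        = b * (ι p * ι q * ι r) * b⁻¹ := by rw [hι.add, hι.add]
      _ = (b * ι p * b⁻¹) * (b * ι q * b⁻¹) * (b * ι r * b⁻¹) := by group
      _ = ι (q + r + p) := by rw [← hq, ← hr, hr', hι.add, hι.add]
      _ = ι (p + q + r) := by rw [show q + r + p = p + q + r by abel]
  obtain ⟨s, hs⟩ := (hι.mem _).1 (core_conj S ha ((hι.mem _).2 ⟨p + q + r, rfl⟩))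
  have hs2 : ι (s + s) = κ f3 := by
    rw [hι.add, hs, show a * ι (p + q + r) * a⁻¹ * (a * ι (p + q + r) * a⁻¹) =
        a * (ι (p + q + r) * ι (p + q + r)) * a⁻¹ by group, ← hι.add, hp', hA, mat_facts.1]
  obtain ⟨m, hm⟩ := exists_half_in S hι K f2
  obtain ⟨W, hW, w1, w2, w3⟩ := exists_W hι K hp' hm hs2
  have hWI := hW.toIsCoord
  have ea1 : a * W (1, 0, 0) * a⁻¹ = W (0, 0, 1) := by rw [w1, w3, hs]
  have ea3 : a * W (0, 0, 1) * a⁻¹ = W (1, 0, 0) := by
    rw [w1, w3, hs]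
    calc a * (a * ι (p + q + r) * a⁻¹) * a⁻¹ = (a * a) * ι (p + q + r) * (a * a)⁻¹ := by group
      _ = _ := by rw [ha2]; group
  have eb1 : b * W (1, 0, 0) * b⁻¹ = W (1, 0, 0) := by rw [w1, hcb]
  obtain ⟨x, hx⟩ := (hWI.mem _).1 (core_conj S ha ((hWI.mem _).2 ⟨(0, 1, 0), rfl⟩))
  obtain ⟨y, hy⟩ := (hWI.mem _).1 (core_conj S hb ((hWI.mem _).2 ⟨(0, 0, 1), rfl⟩))
  obtain ⟨z, hz⟩ := (hWI.mem _).1 (core_conj S hb ((hWI.mem _).2 ⟨(0, 1, 0), rfl⟩))
  have parity : ∀ (g' : G) (T : M2) (v w : Vec), Rep κ g' T → W w = g' * W v * g'⁻¹ →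
      red w = ap T (red v) := by
    intro g' T v w hT he
    apply K.inj
    rw [← hW.two, ← hT (red v), ← hW.two, hWI.add, hWI.add, he]
    group
  have px : red x = f2 := by rw [parity a A0 _ _ hA hx, red_up_up.2.2.2.1, mat_facts.2.1]
  have py : red y = (1, 1, 0) := by rw [parity b B0 _ _ hB hy, red_up_up.2.2.2.2, mat_facts.2.2.2.1]
  have pz : red z = (0, 1, 1) := by
    rw [parity b B0 _ _ hB hz, red_up_up.2.2.2.1, mat_facts.2.2.2.2.1]
  have cA := conj_lin hWI ea1 hx.symm ea3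
  have cB := conj_lin hWI eb1 hz.symm hy.symm
  obtain ⟨pu, au, bu, by'⟩ := uprop_of_red px py pz (by
    intro e _
    refine ⟨hWI.inj ?_, hWI.inj ?_, hWI.inj ?_⟩
    · rw [← cA, ← cA]
      calc a * (a * W e * a⁻¹) * a⁻¹ = (a * a) * W e * (a * a)⁻¹ := by group
        _ = _ := by rw [ha2]; group
    · rw [← cB, ← cB, ← cB]
      calc b * (b * (b * W e * b⁻¹) * b⁻¹) * b⁻¹ = (b * b * b) * W e * (b * b * b)⁻¹ := by group
        _ = _ := by rw [hb3]; group
    · have hn : ∀ n : ℕ, Rep κ ((a * b) ^ n) ((fun T => comp (comp A0 B0) T)^[n] I2) ∧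
          (a * b) ^ n * W e * ((a * b) ^ n)⁻¹ =
            W ((fun w => lin3 (0, 0, 1) x (1, 0, 0) (lin3 (1, 0, 0) z y w))^[n] e) := by
        intro n
        induction n with
        | zero => exact ⟨by simpa using rep_one K, by simp⟩
        | succ n ih =>
          rw [Function.iterate_succ_apply', Function.iterate_succ_apply', pow_succ']
          refine ⟨rep_mul K (rep_mul K hA hB) ih.1, ?_⟩
          rw [← cA, ← cB, ← ih.2]
          generalize (a * b) ^ n = Q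
          group
      obtain ⟨hrep, hconj⟩ := hn 7
      rw [mat_facts.2.2.2.2.2.2] at hrep
      obtain ⟨l, hl⟩ := (hWI.mem _).1 (rep_core K S (pow_mem (mul_mem ha hb) 7) hrep)
      rw [← hconj, ← hl, ← hWI.add, add_comm, hWI.add, mul_inv_cancel_right])
  -- replace the second root
  obtain ⟨m', hm'⟩ := (hι.mem _).1 ((hWI.mem _).2 ⟨newU y, rfl⟩)
  have hm2 : ι (m' + m') = κ f2 := by rw [hι.add, hm', ← hWI.add, hW.two, pu]
  obtain ⟨W', hW', w1', w2', w3'⟩ := exists_W hι K hp' hm2 hs2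
  have hWI' := hW'.toIsCoord
  have f_1 : W' (1, 0, 0) = W (1, 0, 0) := w1'.trans w1.symm
  have f_2 : W' (0, 1, 0) = W (newU y) := w2'.trans hm'
  have f_3 : W' (0, 0, 1) = W (0, 0, 1) := w3'.trans w3.symm
  obtain ⟨l1, l2, l3, l4, l5, l6⟩ := lin_basis
  refine ⟨κ, W', a, b, h1, K, hW', ha, hb, hA, hB, ha2, hb3, fun v => ?_, fun v => ?_⟩
  · rw [← lin_eq.1 v]
    refine conj_lin hWI' ?_ ?_ ?_ v
    · rw [l1, f_1, f_3, ea1]
    · rw [l2, W_neg hWI', f_2, cA, au, W_neg hWI]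
    · rw [l3, f_1, f_3, ea3]
  · rw [← lin_eq.2 v]
    refine conj_lin hWI' ?_ ?_ ?_ v
    · rw [l4, f_1, eb1]
    · rw [l5, hWI'.add, W_neg hWI', f_2, f_3, cB, bu, hWI.add, W_neg hWI]
    · rw [l6, hWI'.add, W_neg hWI', f_2, f_3, f_1, ← hy]
      conv_lhs => rw [by']
      rw [hWI.add, W_neg hWI]

section Pre

variable {W : Vec → G} {a b : G} (P : Pre V M κ W a b)
  (S : HSFrame28.Setting t H R Cy E V M)
include P S

theorem comm_W (u v : Vec) : W u * W v = W v * W u := by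
  rw [← P.hW.add, ← P.hW.add, add_comm]

theorem rep_ab_pow (n : ℕ) : Rep κ ((a * b) ^ n) ((fun T => comp (comp A0 B0) T)^[n] I2) := by
  induction n with
  | zero => simpa using rep_one P.hK
  | succ n ih =>
    rw [Function.iterate_succ_apply', pow_succ']
    exact rep_mul P.hK (rep_mul P.hK P.repA P.repB) ih

theorem ab_seven : (a * b) ^ 7 = 1 := by
  have h := rep_ab_pow P S 7
  rw [mat_facts.2.2.2.2.2.2] at h
  obtain ⟨l, hl⟩ := (P.hW.mem _).1 (rep_core P.hK S (pow_mem (mul_mem P.ha P.hb) 7) h)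
  have h2 : W (linA (linB l)) = W l := by
    rw [← P.ca, ← P.cb, hl]
    calc a * (b * (a * b) ^ 7 * b⁻¹) * a⁻¹ = (a * b) * (a * b) ^ 7 * (a * b)⁻¹ := by group
      _ = _ := by rw [← pow_succ', pow_succ, mul_inv_cancel_right]
  rw [← hl, fix_seven l (P.hW.inj h2), W_zero P.hW.toIsCoord]

theorem binv : b⁻¹ = b * b := inv_eq_of_mul_eq_one_right (by rw [← mul_assoc, P.b3])

theorem cbb (v : Vec) : W (linB (linB v)) = b⁻¹ * W v * b := by
  rw [← P.cb, ← P.cb]
  calc b * (b * W v * b⁻¹) * b⁻¹ = (b * b) * W v * (b * b)⁻¹ := by group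
    _ = b⁻¹ * W v * b := by rw [← binv P S, inv_inv]

theorem cZ (v : Vec) : (a * b⁻¹ * a * b) * W v * (a * b⁻¹ * a * b)⁻¹ = W (linZ v) := by
  unfold linZ
  rw [← P.ca, cbb P S, ← P.ca, ← P.cb]
  group

theorem rep_Z : Rep κ (a * b⁻¹ * a * b) Z0 := by
  have h := rep_mul P.hK P.repA
    (rep_mul P.hK (rep_mul P.hK P.repB P.repB) (rep_mul P.hK P.repA P.repB))
  rw [binv P S, show a * (b * b) * a * b = a * (b * b * (a * b)) by group]
  exact h

theorem pow_four (d : Vec) :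
    (W d * (a * b⁻¹ * a * b)) ^ 4 = W (sumZ d) * (a * b⁻¹ * a * b) ^ 4 := by
  rw [show (W d * (a * b⁻¹ * a * b)) ^ 4 =
      W d * (W d * 1) ^ 0 * ((a * b⁻¹ * a * b) * W d * (a * b⁻¹ * a * b)⁻¹) *
        ((a * b⁻¹ * a * b) * ((a * b⁻¹ * a * b) * W d * (a * b⁻¹ * a * b)⁻¹) *
          (a * b⁻¹ * a * b)⁻¹) *
        ((a * b⁻¹ * a * b) * ((a * b⁻¹ * a * b) * ((a * b⁻¹ * a * b) * W d *
          (a * b⁻¹ * a * b)⁻¹) * (a * b⁻¹ * a * b)⁻¹) * (a * b⁻¹ * a * b)⁻¹) *
        (a * b⁻¹ * a * b) ^ 4 by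
    simp only [pow_succ, pow_zero, one_mul, mul_one]; group]
  rw [pow_zero, mul_one, cZ P S, cZ P S, cZ P S, ← P.hW.add, ← P.hW.add, ← P.hW.add]
  rfl

theorem four_cases (h1 : κ f1 = t) :
    (a * b⁻¹ * a * b) ^ 4 = 1 ∨ (a * b⁻¹ * a * b) ^ 4 = W (2, 0, 2) := by
  have hWI := P.hW.toIsCoord
  set Z := a * b⁻¹ * a * b with hZ
  have hZM : Z ∈ M := mul_mem (mul_mem (mul_mem P.ha (inv_mem P.hb)) P.ha) P.hb
  have hr4 : Rep κ (Z ^ 4) I2 := by
    rw [← mat_facts.2.2.2.2.2.1]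
    rw [show Z ^ 4 = Z * Z * (Z * Z) by simp only [pow_succ, pow_zero, one_mul, mul_assoc]]
    exact rep_mul P.hK (rep_mul P.hK (rep_Z P S) (rep_Z P S))
      (rep_mul P.hK (rep_Z P S) (rep_Z P S))
  obtain ⟨k, hk⟩ := (hWI.mem _).1 (rep_core P.hK S (pow_mem hZM 4) hr4)
  have hfix : linZ k = k := hWI.inj (by
    rw [← cZ P S, hk, ← hZ, ← pow_succ', pow_succ, mul_inv_cancel_right])
  obtain ⟨z, hz, hz8, hzZ⟩ := exists_four P.hK h1 S
  have hrep : Rep κ (z * Z⁻¹) I2 := by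
    intro x
    rw [ap_id]
    obtain ⟨y, rfl⟩ : ∃ y, ap Z0 y = x := ⟨ap (comp Z0 (comp Z0 Z0)) x, by
      have := congrArg (fun T => ap T x) mat_facts.2.2.2.2.2.1
      simp only [ap_comp, ap_id] at this ⊢
      exact this⟩
    calc z * Z⁻¹ * κ (ap Z0 y) * (z * Z⁻¹)⁻¹
        = z * (Z⁻¹ * κ (ap Z0 y) * Z) * z⁻¹ := by group
      _ = κ (ap Z0 y) := by
        rw [← rep_Z P S y, ← hZ,
          show Z⁻¹ * (Z * κ y * Z⁻¹) * Z = κ y by group, hzZ y, rep_Z P S y]
  obtain ⟨d, hd⟩ := (hWI.mem _).1 (rep_core P.hK S (mul_mem hz (inv_mem hZM)) hrep)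
  have hsum : (k + sumZ d) + (k + sumZ d) = 0 := hWI.inj (by
    rw [hWI.add, W_zero hWI, add_comm k, hWI.add, hk, ← pow_four P S d, ← hZ, hd,
      inv_mul_cancel_right, ← pow_add, hz8])
  rcases fix_four k hfix d hsum with rfl | rfl
  · left; rw [← hk, W_zero hWI]
  · right; exact hk.symm

theorem move : Pre V M κ W (W (0, 1, 0) * a) b ∧
    ((a * b⁻¹ * a * b) ^ 4 = W (2, 0, 2) →
      (W (0, 1, 0) * a * b⁻¹ * (W (0, 1, 0) * a) * b) ^ 4 = 1) := by
  have hWI := P.hW.toIsCoord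
  have hcore := (hWI.mem (W (0, 1, 0))).2 ⟨_, rfl⟩
  refine ⟨⟨P.hK, P.hW, mul_mem (core_le_M S hcore) P.ha, P.hb, ?_, P.repB, ?_, P.b3,
    fun v => ?_, P.cb⟩, fun hk => ?_⟩
  · intro x
    rw [rep_mul P.hK (core_rep P.hK S hcore) P.repA x, ap_comp, ap_id]
  · calc W (0, 1, 0) * a * (W (0, 1, 0) * a)
        = W (0, 1, 0) * (a * W (0, 1, 0) * a⁻¹) * (a * a) := by group
      _ = 1 := by rw [P.ca, lin_basis.2.1, P.a2, mul_one, W_neg hWI, mul_inv_cancel]
  · calc W (0, 1, 0) * a * W v * (W (0, 1, 0) * a)⁻¹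
        = W (0, 1, 0) * (a * W v * a⁻¹) * (W (0, 1, 0))⁻¹ := by group
      _ = W (linA v) := by rw [P.ca, comm_W P S, mul_inv_cancel_right]
  · have e : W (0, 1, 0) * a * b⁻¹ * (W (0, 1, 0) * a) * b =
        W ((0, 1, 0) + linA (linB (linB (0, 1, 0)))) * (a * b⁻¹ * a * b) := by
      rw [hWI.add, ← P.ca, cbb P S]
      group
    rw [e, pow_four P S, hk, ← hWI.add, move_four, W_zero hWI]

theorem frame (h1 : κ f1 = t) (h4 : (a * b⁻¹ * a * b) ^ 4 = 1) :
    HSFrame28.MFrame t M (W (1, 0, 0)) (W (0, 1, 0)) (W (0, 0, 1)) a b := by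
  have hWI := P.hW.toIsCoord
  have h7 := ab_seven P S
  have hb3 : b ^ 3 = 1 := by rw [pow_succ, pow_two, P.b3]
  have ha2 : a ^ 2 = 1 := by rw [sq, P.a2]
  obtain ⟨hfin, hle⟩ := HSRecog71Pres.card_le ha2 hb3 h7 h4
  have hLM : closure ({a, b} : Set G) ≤ M := (closure_le M).2 (by
    intro x hx
    rcases hx with rfl | rfl
    · exact P.ha
    · exact P.hb)
  have hword : ∀ w : List ℕ, HSRecog71Pres.val a b w ∈ closure ({a, b} : Set G) ∧
      Rep κ (HSRecog71Pres.val a b w) (wordT w) := by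
    intro w
    induction w with
    | nil => exact ⟨one_mem _, rep_one P.hK⟩
    | cons x w ih =>
      have hx : HSRecog71Pres.val a b (x :: w) =
          HSRecog71Pres.g a b x * HSRecog71Pres.val a b w := by simp [HSRecog71Pres.val]
      rw [hx]
      match x with
      | 0 => exact ⟨mul_mem (subset_closure (by simp [HSRecog71Pres.g])) ih.1,
          rep_mul P.hK P.repA ih.2⟩
      | 1 => exact ⟨mul_mem (subset_closure (by simp [HSRecog71Pres.g])) ih.1,
          rep_mul P.hK P.repB ih.2⟩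
      | n + 2 =>
        refine ⟨mul_mem (inv_mem (subset_closure (by simp))) ih.1, rep_mul P.hK ?_ ih.2⟩
        show Rep κ b⁻¹ _
        rw [binv P S]
        exact rep_mul P.hK P.repB P.repB
  have hsur : ∀ T, Inj T → ∃ l ∈ closure ({a, b} : Set G), Rep κ l T := fun T hT => by
    obtain ⟨w, -, rfl⟩ := words_all T hT
    exact ⟨_, hword w⟩
  have hC : ∀ v, W v ∈ closure ({W (1, 0, 0), W (0, 1, 0), W (0, 0, 1)} : Set G) := by
    intro v
    rw [vec_split v, hWI.add, hWI.add, W_nsmul hWI, W_nsmul hWI, W_nsmul hWI]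
    exact mul_mem (mul_mem (pow_mem (subset_closure (by simp)) _)
      (pow_mem (subset_closure (by simp)) _)) (pow_mem (subset_closure (by simp)) _)
  have hcore : (Cfsg.pCore 2 M).map M.subtype =
      closure {W (1, 0, 0), W (0, 1, 0), W (0, 0, 1)} := by
    refine le_antisymm (fun g hg => ?_) ((closure_le _).2 ?_)
    · obtain ⟨v, rfl⟩ := (hWI.mem g).1 hg
      exact hC v
    · intro g hg
      rcases hg with rfl | rfl | rfl <;> exact (hWI.mem _).2 ⟨_, rfl⟩
  -- the complement maps bijectively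
  have hrep : ∀ l : closure ({a, b} : Set G), ∃ T : {T : M2 // Inj T}, Rep κ (l : G) T.1 := fun l => by
    obtain ⟨T, h, h'⟩ := exists_rep P.hK S (hLM l.2)
    exact ⟨⟨T, h⟩, h'⟩
  choose f hf using hrep
  have hfs : Function.Surjective f := fun T => by
    obtain ⟨l, hl, hlT⟩ := hsur T.1 T.2
    exact ⟨⟨l, hl⟩, Subtype.ext (rep_unique P.hK (hf ⟨l, hl⟩) hlT)⟩
  have hc168 : Nat.card {T : M2 // Inj T} = 168 := by rw [Nat.card_eq_fintype_card, card_inj]
  have hfb : Function.Bijective f := hfs.bijective_of_nat_card_le (by rw [hc168]; exact hle)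
  have hw1 : (W (1, 0, 0)) ^ 2 = t := by
    rw [sq, ← hWI.add, P.hW.two, red_up_up.2.2.1, h1]
  have hfour : ∀ v, W v ^ 4 = 1 := fun v => by
    rw [show W v ^ 4 = W v * W v * (W v * W v) by simp only [pow_succ, pow_zero, one_mul, mul_assoc], ← hWI.add, ← hWI.add, four_zero,
      W_zero hWI]
  obtain ⟨l1, l2, l3, l4, l5, l6⟩ := lin_basis
  refine
    { core := hcore
      gen := ?_
      disj := ?_
      card_core := ?_
      card_compl := by rw [Nat.card_congr (Equiv.ofBijective f hfb), hc168]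
      c_sq := hw1
      c_four := hfour _
      v2_four := hfour _
      v3_four := hfour _
      comm_c_v2 := comm_W P S _ _
      comm_c_v3 := comm_W P S _ _
      comm_v2_v3 := comm_W P S _ _
      a_two := ha2
      b_three := hb3
      ab_seven := h7
      comm_four := h4
      a_c := by rw [P.ca, l1]
      a_v2 := by rw [P.ca, l2, W_neg hWI]
      a_v3 := by rw [P.ca, l3]
      b_c := by rw [P.cb, l4]
      b_v2 := by rw [P.cb, l5, hWI.add, W_neg hWI]
      b_v3 := by rw [P.cb, l6, hWI.add, W_neg hWI] }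
  · refine le_antisymm (fun g hg => ?_) ((closure_le M).2 ?_)
    · obtain ⟨T, hT, hgT⟩ := exists_rep P.hK S hg
      obtain ⟨l, hl, hlT⟩ := hsur T hT
      have hr : Rep κ (g * l⁻¹) I2 := by
        intro x
        rw [ap_id]
        obtain ⟨y, rfl⟩ : ∃ y, ap T y = x := by
          refine Finite.surjective_of_injective (fun v w h => sub_eq_zero.1 (hT _ ?_)) x
          have h2 := ap_add T (v - w) w
          rw [sub_add_cancel, h] at h2
          exact right_eq_add.1 h2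
        calc g * l⁻¹ * κ (ap T y) * (g * l⁻¹)⁻¹ = g * (l⁻¹ * κ (ap T y) * l) * g⁻¹ := by group
          _ = κ (ap T y) := by
            rw [← hlT y, show l⁻¹ * (l * κ y * l⁻¹) * l = κ y by group, hgT y, hlT y]
      obtain ⟨v, hv⟩ := (hWI.mem _).1 (rep_core P.hK S (mul_mem hg (inv_mem (hLM hl))) hr)
      have e : g = W v * l := by rw [hv, inv_mul_cancel_right]
      rw [e]
      refine mul_mem (closure_mono ?_ (hC v)) (closure_mono ?_ hl)
      · intro y hy; rcases hy with rfl | rfl | rfl <;> simp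
      · intro y hy; rcases hy with rfl | rfl <;> simp
    · intro g hg
      rcases hg with rfl | rfl | rfl | rfl | rfl
      · exact core_le_M S ((hWI.mem _).2 ⟨_, rfl⟩)
      · exact core_le_M S ((hWI.mem _).2 ⟨_, rfl⟩)
      · exact core_le_M S ((hWI.mem _).2 ⟨_, rfl⟩)
      · exact P.ha
      · exact P.hb
  · rw [← hcore, Subgroup.eq_bot_iff_forall]
    rintro g ⟨hg1, hg2⟩
    have h : f ⟨g, hg1⟩ = f ⟨1, one_mem _⟩ := Subtype.ext
      ((rep_unique P.hK (hf ⟨g, hg1⟩) (core_rep P.hK S hg2)).trans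
        (rep_unique P.hK (rep_one P.hK) (hf ⟨1, one_mem _⟩)))
    exact congrArg Subtype.val (hfb.1 h)
  · rw [← hcore]
    have e : Nat.card Vec = 64 := by rw [Nat.card_eq_fintype_card]; rfl
    rw [← e]
    exact (Nat.card_congr (Equiv.ofBijective
      (fun v => (⟨W v, (hWI.mem _).2 ⟨v, rfl⟩⟩ : ((Cfsg.pCore 2 M).map M.subtype : Subgroup G)))
      ⟨fun u v h => hWI.inj (congrArg Subtype.val h), fun g => by
        obtain ⟨v, hv⟩ := (hWI.mem _).1 g.2
        exact ⟨v, Subtype.ext hv⟩⟩)).symm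

end Pre

/-- A setting has a frame of the eight-group normaliser. -/
theorem exists_mFrame (S : HSFrame28.Setting t H R Cy E V M) :
    ∃ c v2 v3 a b, HSFrame28.MFrame t M c v2 v3 a b := by
  obtain ⟨κ, W, a, b, h1, P⟩ := exists_pre S
  rcases four_cases P S h1 with h | h
  · exact ⟨_, _, _, _, _, frame P S h1 h⟩
  · exact ⟨_, _, _, _, _, frame (move P S).1 S h1 ((move P S).2 h)⟩

end Cfsg.Agent.HSRecog71MFrame
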