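import Cfsg.Agent.Lib.HSRecog71MSetup

/-!
The action of the eight-group normaliser on the eight-group, lifts of an involution and of an element of order four
of eighth power one.
-/

set_option autoImplicit false
set_option linter.unusedSectionVars false
set_option linter.style.haveILetI false
set_option synthInstance.maxSize 4096
set_option synthInstance.maxHeartbeats 200000
set_option maxRecDepth 100000

namespace Cfsg.Agent.HSRecog71MLift

open Subgroup
open Cfsg.Agent.HSRecog71MModel Cfsg.Agent.HSRecog71MSetup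
open HSModel28 (Vec)

variable {G : Type*} [Group G] [Finite G] {t : G} {H R Cy E V M : Subgroup G}

/-- `g` acts on the coordinates as `T` -/
def Rep (κ : V2 → G) (g : G) (T : M2) : Prop := ∀ x, g * κ x * g⁻¹ = κ (ap T x)

section coord

variable {κ : V2 → G} (K : IsVCoord V κ)
include K

theorem kappa_zero : κ 0 = 1 := by simpa using (K.add 0 0).symm

theorem rep_one : Rep κ (1 : G) I2 := fun x => by simp [ap_id]

theorem rep_mul {g h : G} {T U : M2} (hg : Rep κ g T) (hh : Rep κ h U) :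
    Rep κ (g * h) (comp T U) := fun x => by
  rw [ap_comp, ← hg, ← hh]; group

theorem rep_unique {g : G} {T U : M2} (hg : Rep κ g T) (hh : Rep κ g U) : T = U :=
  ext_ap fun x => K.inj ((hg x).symm.trans (hh x))

theorem rep_conj_of {g z : G} {T U Z : M2} (hU : Inj U) (hg : Rep κ g U) (hz : Rep κ z T)
    (he : comp U T = comp Z U) : Rep κ (g * z * g⁻¹) Z := by
  have hs : Function.Surjective (ap U) := by
    refine Finite.surjective_of_injective fun v w h => sub_eq_zero.1 (hU _ ?_)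
    have h2 := ap_add U (v - w) w
    rw [sub_add_cancel, h] at h2
    exact right_eq_add.1 h2
  intro x
  obtain ⟨y, rfl⟩ := hs x
  rw [← ap_comp Z U y, ← he, ← rep_mul K hg hz y, ← hg y]
  group

variable (S : HSFrame28.Setting t H R Cy E V M)
include S

theorem exists_rep {g : G} (hg : g ∈ M) : ∃ T, Inj T ∧ Rep κ g T := by
  have h : ∀ x, ∃ y, κ y = g * κ x * g⁻¹ := fun x =>
    (K.mem _).1 (conj_V S hg ((K.mem _).2 ⟨x, rfl⟩))
  choose f hf using h
  let ψ : V2 →+ V2 := AddMonoidHom.mk' f fun x y => K.inj (by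
    rw [K.add, hf, hf, hf, K.add]; group)
  have hlin : ∀ x, f x = ap (f f1, f f2, f f3) x := by
    intro x
    have hx : x = x.1 • f1 + x.2.1 • f2 + x.2.2 • f3 := by simp [f1, f2, f3]
    show ψ x = ap (ψ f1, ψ f2, ψ f3) x
    conv_lhs => rw [hx]
    rw [map_add, map_add, ZMod.map_smul, ZMod.map_smul, ZMod.map_smul]
    rfl
  have hr : Rep κ g (f f1, f f2, f f3) := fun x => by rw [← hlin, hf]
  refine ⟨_, fun v hv => ?_, hr⟩
  have := hr v
  rw [hv, kappa_zero K, mul_inv_eq_one, mul_eq_left, ← kappa_zero K] at this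
  exact K.inj this

theorem rep_core {g : G} (hg : g ∈ M) (h : Rep κ g I2) :
    g ∈ (Cfsg.pCore 2 M).map M.subtype := by
  refine centralizer_V S hg fun v hv => ?_
  obtain ⟨x, rfl⟩ := (K.mem v).1 hv
  have := h x
  rw [ap_id] at this
  exact mul_inv_eq_iff_eq_mul.1 this

theorem core_rep {g : G} (hg : g ∈ (Cfsg.pCore 2 M).map M.subtype) : Rep κ g I2 := by
  intro x
  obtain ⟨ι, hι⟩ := exists_coord S
  obtain ⟨u, rfl⟩ := (hι.mem g).1 hg
  obtain ⟨w, hw⟩ := (hι.mem _).1 (V_le_core S ((K.mem _).2 ⟨x, rfl⟩))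
  rw [ap_id, ← hw, ← hι.add, add_comm, hι.add, mul_inv_cancel_right]

theorem rep_surj {U : M2} (hU : Inj U) : ∃ g ∈ M, Rep κ g U := by
  have h : ∀ q : M ⧸ Cfsg.pCore 2 M, ∃ T : {T : M2 // Inj T}, Rep κ ((q.out : M) : G) T.1 :=
    fun q => by
      obtain ⟨T, h1, h2⟩ := exists_rep K S (q.out : M).2
      exact ⟨⟨T, h1⟩, h2⟩
  choose f hf using h
  have hinj : Function.Injective f := by
    intro p q hpq
    have hp := hf p
    have hq := hf q
    rw [hpq] at hp
    have h1 : Rep κ (((p.out : M) : G)⁻¹ * (q.out : M)) I2 := by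
      intro x
      rw [ap_id]
      have a1 := hp x
      have a2 := hq x
      rw [← a1] at a2
      calc _ = ((p.out : M) : G)⁻¹ * (((q.out : M) : G) * κ x * ((q.out : M) : G)⁻¹) *
            (p.out : M) := by group
        _ = κ x := by rw [a2]; group
    have h2 := rep_core K S (mul_mem (inv_mem (p.out : M).2) (q.out : M).2) h1
    obtain ⟨y, hy, he⟩ := h2
    have : (p.out : M)⁻¹ * q.out ∈ Cfsg.pCore 2 M := by
      have e : y = (p.out : M)⁻¹ * q.out := Subtype.ext he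
      rw [← e]; exact hy
    rw [← QuotientGroup.out_eq' p, ← QuotientGroup.out_eq' q]
    exact QuotientGroup.eq.2 this
  have hcard : Nat.card {T : M2 // Inj T} ≤ Nat.card (M ⧸ Cfsg.pCore 2 M) := by
    obtain ⟨e⟩ := S.hquot
    haveI : Fact (Nat.Prime 2) := ⟨Nat.prime_two⟩
    rw [Nat.card_eq_fintype_card, card_inj, Nat.card_congr e.toEquiv, Matrix.card_GL_field]
    simp [Fin.prod_univ_three, ZMod.card]
  obtain ⟨q, hq⟩ := (hinj.bijective_of_nat_card_le hcard).2 ⟨U, hU⟩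
  exact ⟨_, (q.out : M).2, by simpa [hq] using hf q⟩

theorem card_reps (p : M2 → Prop) [DecidablePred p] :
    Nat.card {g : G // g ∈ M ∧ ∃ T, Rep κ g T ∧ p T} =
      Fintype.card {T : M2 // Inj T ∧ p T} * 64 := by
  obtain ⟨ι, hι⟩ := exists_coord S
  have h : ∀ T : {T : M2 // Inj T ∧ p T}, ∃ g, g ∈ M ∧ Rep κ g T.1 := fun T =>
    rep_surj K S T.2.1
  choose γ hγ1 hγ2 using h
  have hr : ∀ (T : {T : M2 // Inj T ∧ p T}) (v : Vec), Rep κ (γ T * ι v) T.1 := fun T v => by
    have h2 := rep_mul K (hγ2 T) (core_rep K S ((hι.mem _).2 ⟨v, rfl⟩))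
    intro x
    rw [h2 x, ap_comp, ap_id]
  let F : {T : M2 // Inj T ∧ p T} × Vec → {g : G // g ∈ M ∧ ∃ T, Rep κ g T ∧ p T} := fun q =>
    ⟨γ q.1 * ι q.2, mul_mem (hγ1 _) (core_le_M S ((hι.mem _).2 ⟨_, rfl⟩)), q.1.1, hr _ _, q.1.2.2⟩
  have hF : Function.Bijective F := by
    constructor
    · rintro ⟨T, v⟩ ⟨U, w⟩ h
      have h' : γ T * ι v = γ U * ι w := congrArg Subtype.val h
      have e : T = U := Subtype.ext (rep_unique K (hr T v) (h' ▸ hr U w))
      subst e
      rw [hι.inj (mul_left_cancel h')]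
    · rintro ⟨g, hg, T, hT, hp⟩
      obtain ⟨T', hT', hT''⟩ := exists_rep K S hg
      obtain rfl := rep_unique K hT hT''
      have h1 : Rep κ ((γ ⟨T, hT', hp⟩)⁻¹ * g) I2 := by
        intro x
        rw [ap_id]
        have a1 := hγ2 ⟨T, hT', hp⟩ x
        have a2 := hT x
        simp only at a1
        calc _ = (γ ⟨T, hT', hp⟩)⁻¹ * (g * κ x * g⁻¹) * γ ⟨T, hT', hp⟩ := by group
          _ = κ x := by rw [a2, ← a1]; group
      obtain ⟨v, hv⟩ := (hι.mem _).1 (rep_core K S (mul_mem (inv_mem (hγ1 _)) hg) h1)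
      exact ⟨(⟨T, hT', hp⟩, v), Subtype.ext (by simp [F, hv])⟩
  rw [← Nat.card_congr (Equiv.ofBijective F hF), Nat.card_prod, Nat.card_eq_fintype_card,
    Nat.card_eq_fintype_card (α := Vec)]
  rfl

end coord

/-- the permutation with centraliser of order eight -/
def opp : Equiv.Perm (Fin 5) := Equiv.swap 0 2 * Equiv.swap 1 3

theorem card_sq_centralizer :
    Fintype.card {g : Equiv.Perm (Fin 5) // g * opp = opp * g} = 8 ∧
      Fintype.card {g : Equiv.Perm (Fin 5) // g * opp = opp * g ∧ g * g = 1} = 6 := by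
  decide +kernel

theorem six_involutions (P : Subgroup (Equiv.Perm (Fin 5))) (hP : Nat.card P = 8) :
    6 ≤ Nat.card {g : Equiv.Perm (Fin 5) // g ∈ P ∧ g * g = 1} := by
  haveI : Fact (Nat.Prime 2) := ⟨Nat.prime_two⟩
  let D : Subgroup (Equiv.Perm (Fin 5)) := centralizer {opp}
  have hD : Nat.card D = 8 := by
    rw [← card_sq_centralizer.1, ← Nat.card_eq_fintype_card]
    exact Nat.card_congr (Equiv.subtypeEquivRight fun g => mem_centralizer_singleton_iff)
  have h5 : (Nat.card (Equiv.Perm (Fin 5))).factorization 2 = 3 := by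
    rw [Nat.card_perm, Nat.card_fin]
    have : Nat.factorial 5 = 2 ^ 3 * 15 := by decide
    rw [this, Nat.factorization_mul (by norm_num) (by norm_num), Finsupp.add_apply,
      Nat.Prime.factorization_pow Nat.prime_two, Finsupp.single_eq_same,
      Nat.factorization_eq_zero_of_not_dvd (by norm_num)]
  obtain ⟨g, hg⟩ := MulAction.exists_smul_eq (Equiv.Perm (Fin 5))
    (Sylow.ofCard D (by rw [hD, h5]; rfl)) (Sylow.ofCard P (by rw [hP, h5]; rfl))
  have hmem : ∀ x, x ∈ D → g * x * g⁻¹ ∈ P := by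
    intro x hx
    have h2 : g * x * g⁻¹ ∈ ((g • Sylow.ofCard D (by rw [hD, h5]; rfl) : Sylow 2 _) :
        Subgroup (Equiv.Perm (Fin 5))) := by
      rw [Sylow.coe_subgroup_smul]
      exact ⟨x, hx, rfl⟩
    rw [hg] at h2
    exact h2
  rw [← card_sq_centralizer.2, ← Nat.card_eq_fintype_card]
  refine Nat.card_le_card_of_injective
    (fun x => ⟨g * x.1 * g⁻¹, hmem _ (mem_centralizer_singleton_iff.2 x.2.1), ?_⟩) ?_
  · calc g * x.1 * g⁻¹ * (g * x.1 * g⁻¹) = g * (x.1 * x.1) * g⁻¹ := by group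
      _ = 1 := by rw [x.2.2]; group
  · intro x y h
    exact Subtype.ext (mul_left_cancel (mul_right_cancel (congrArg Subtype.val h)))

section frame

variable {κ : V2 → G} (K : IsVCoord V κ) (h1 : κ f1 = t)
  (S : HSFrame28.Setting t H R Cy E V M)
include K h1 S

theorem stab_iff {g : G} {T : M2} (hT : Rep κ g T) : g ∈ H ↔ T.1 = f1 := by
  rw [mem_H S, ← mul_inv_eq_iff_eq_mul]
  constructor
  · intro h
    have h2 := hT f1
    rw [h1, h, ← h1, (ap_basis T).1] at h2
    exact (K.inj h2).symm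
  · intro h
    have h2 := hT f1
    rw [(ap_basis T).1, h, h1] at h2
    exact h2

theorem R_image {r : G} (hr : r ∈ R) {T : M2} (hT : Rep κ r T) : comp T T = I2 := by
  refine rep_unique K (rep_mul K hT hT) ?_
  rcases R_sq S hr with h | h <;> rw [h]
  · exact rep_one K
  · exact core_rep K S (V_le_core S (t_mem_V S))

theorem R_images_comm {r s : G} (hr : r ∈ R) (hs : s ∈ R) {T U : M2} (hT : Rep κ r T)
    (hU : Rep κ s U) : comp T U = comp U T := by
  refine rep_unique K (rep_mul K hT hU) ?_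
  rcases R_comm S hr hs with h | h
  · rw [mul_inv_eq_iff_eq_mul.1 h]
    exact rep_mul K hU hT
  · rw [mul_inv_eq_iff_eq_mul.1 h]
    have h2 := rep_mul K (rep_mul K (core_rep K S (V_le_core S (t_mem_V S))) hU) hT
    intro x
    rw [h2 x, ap_comp, ap_comp, ap_id, ← ap_comp]

theorem R_inE {r : G} (hr : r ∈ R) {T : M2} (hT : Rep κ r T) : InE T := by
  by_contra hne
  obtain ⟨T', hi, hT'⟩ := exists_rep K S (R_le_M S hr)
  obtain rfl := rep_unique K hT hT'
  obtain ⟨U, hU, hU1, hU2, hne2⟩ := not_inE_conj T hi ((stab_iff K h1 S hT).1 (R_le_H S hr)) hne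
    (R_image K h1 S hr hT)
  obtain ⟨g, hg, hgU⟩ := rep_surj K S hU
  have hgH : g ∈ H := (stab_iff K h1 S hgU).2 hU1
  have hc : Rep κ (g * r * g⁻¹) (comp U (comp T U)) := by
    refine rep_conj_of K hU hgU hT (ext_ap fun x => ?_)
    have hx := congrArg (fun W => ap W x) hU2
    simp only [ap_comp, ap_id] at hx
    simp only [ap_comp, hx]
  exact hne2 (R_images_comm K h1 S (R_normal S hgH hr) hr hc hT)

theorem exists_outer : ∃ r ∈ R, ∃ T, Rep κ r T ∧ T ≠ I2 := by
  obtain ⟨ι, hι⟩ := exists_coord S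
  obtain ⟨x, hx, y, hy, hne⟩ := R_not_comm S
  by_contra h
  push Not at h
  have hcore : ∀ r ∈ R, r ∈ (Cfsg.pCore 2 M).map M.subtype := fun r hr => by
    obtain ⟨T, -, hT⟩ := exists_rep K S (R_le_M S hr)
    exact rep_core K S (R_le_M S hr) (h r hr T hT ▸ hT)
  obtain ⟨u, rfl⟩ := (hι.mem x).1 (hcore x hx)
  obtain ⟨v, rfl⟩ := (hι.mem y).1 (hcore y hy)
  exact hne (by rw [← hι.add, add_comm, hι.add])

theorem exists_involution : ∃ r ∈ M, r * r = 1 ∧ Rep κ r A0 := by
  obtain ⟨r, hr, T, hT, hne⟩ := exists_outer K h1 S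
  obtain ⟨T', hi, hT'⟩ := exists_rep K S (R_le_M S hr)
  obtain rfl := rep_unique K hT hT'
  obtain ⟨c0, hc0, hct, -⟩ := exists_root S
  have hc0R : c0 ∈ R := (S.hCyle hc0).1
  have hc0A : Rep κ c0 I2 := core_rep K S
    (centralizer_V S (R_le_M S hc0R) fun v hv => (cy_comm S hc0 (S.hVR hv)).symm)
  obtain ⟨s, hs, hs2, hsT⟩ : ∃ s ∈ R, s * s = 1 ∧ Rep κ s T := by
    rcases R_sq S hr with h | h
    · exact ⟨r, hr, h, hT⟩
    · refine ⟨r * c0, mul_mem hr hc0R, ?_, ?_⟩
      · calc r * c0 * (r * c0) = r * (c0 * r) * c0 := by group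
          _ = (r * r) * (c0 * c0) := by rw [← cy_comm S hc0 hr]; group
          _ = 1 := by rw [h, hct, t_sq S]
      · intro x
        rw [rep_mul K hT hc0A x, ap_comp, ap_id]
  obtain ⟨U, hU, he⟩ := inv_conj T hi (R_image K h1 S hr hT) hne
  obtain ⟨g, hg, hgU⟩ := rep_surj K S hU
  refine ⟨g * s * g⁻¹, mul_mem (mul_mem hg (R_le_M S hs)) (inv_mem hg), ?_,
    rep_conj_of K hU hgU hsT he⟩
  calc g * s * g⁻¹ * (g * s * g⁻¹) = g * (s * s) * g⁻¹ := by group
    _ = 1 := by rw [hs2]; group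

theorem exists_outside : ∃ x ∈ M, x ∈ H ∧ x * x ∈ R ∧ ∃ T, Rep κ x T ∧ ¬InE T := by
  haveI : Fact (Nat.Prime 2) := ⟨Nat.prime_two⟩
  obtain ⟨f⟩ := S.hH5
  let π : H →* Equiv.Perm (Fin 5) := f.toMonoidHom.comp (QuotientGroup.mk' _)
  have hker : ∀ g : H, π g = 1 ↔ (g : G) ∈ R := by
    intro g
    simp only [π, MonoidHom.comp_apply, MulEquiv.coe_toMonoidHom, EmbeddingLike.map_eq_one_iff,
      QuotientGroup.mk'_apply, QuotientGroup.eq_one_iff]
    rw [mem_R S]
    exact ⟨fun h => ⟨g.2, h⟩, fun ⟨_, h⟩ => h⟩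
  have hcard : ∀ (L : Subgroup G) (hL : L ≤ H), R ≤ L →
      Nat.card L = Nat.card (π.comp (Subgroup.inclusion hL)).range * 64 := by
    intro L hL hRL
    rw [Subgroup.card_eq_card_quotient_mul_card_subgroup (π.comp (Subgroup.inclusion hL)).ker,
      Nat.card_congr (QuotientGroup.quotientKerEquivRange _).toEquiv]
    congr 1
    rw [← card_R S]
    refine Nat.card_congr ⟨fun x => ⟨x.1.1, (hker _).1 x.2⟩,
      fun r => ⟨⟨r.1, hRL r.2⟩, (hker _).2 r.2⟩, fun x => rfl, fun r => rfl⟩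
  let P : Subgroup G := M ⊓ H
  have hP : Nat.card P = 24 * 64 := by
    rw [← card_stab, ← card_reps K S fun T => T.1 = f1]
    refine Nat.card_congr (Equiv.subtypeEquivRight fun g => ⟨fun h => ?_, fun h => ?_⟩)
    · obtain ⟨T, -, hT⟩ := exists_rep K S h.1
      exact ⟨h.1, T, hT, (stab_iff K h1 S hT).1 h.2⟩
    · obtain ⟨hg, T, hT, hT1⟩ := h
      exact ⟨hg, (stab_iff K h1 S hT).2 hT1⟩
  let Q : Subgroup G :=
    { carrier := {g | g ∈ M ∧ ∃ T, Rep κ g T ∧ InE T}
      one_mem' := ⟨one_mem _, I2, rep_one K, inE_closed.1⟩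
      mul_mem' := by
        rintro a b ⟨ha, T, hT, hT'⟩ ⟨hb, U, hU, hU'⟩
        exact ⟨mul_mem ha hb, _, rep_mul K hT hU, (inE_closed.2 T hT').2 U hU'⟩
      inv_mem' := by
        rintro a ⟨ha, T, hT, hT'⟩
        refine ⟨inv_mem ha, T, fun x => ?_, hT'⟩
        have h := hT (ap T x)
        rw [← ap_comp, (inE_closed.2 T hT').1, ap_id] at h
        calc _ = a⁻¹ * κ x * a := by group
          _ = a⁻¹ * (a * κ (ap T x) * a⁻¹) * a := by rw [h]
          _ = κ (ap T x) := by group }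
  have hQH : Q ≤ H := fun g ⟨hg, T, hT, hT'⟩ => (stab_iff K h1 S hT).2 hT'.1
  have hRQ : R ≤ Q := fun r hr => by
    obtain ⟨T, -, hT⟩ := exists_rep K S (R_le_M S hr)
    exact ⟨R_le_M S hr, T, hT, R_inE K h1 S hr hT⟩
  have hQ : Nat.card Q = 4 * 64 := by
    rw [← card_inE, ← card_reps K S InE]
    rfl
  have hPH : P ≤ H := inf_le_right
  have h24 : Nat.card (π.comp (Subgroup.inclusion hPH)).range = 24 := by
    have h := hcard P hPH (le_inf (R_le_M S) (R_le_H S))
    rw [hP] at h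
    omega
  have h4 : Nat.card (π.comp (Subgroup.inclusion hQH)).range = 4 := by
    have h := hcard Q hQH hRQ
    rw [hQ] at h
    omega
  obtain ⟨S8, hS8⟩ := Sylow.exists_subgroup_card_pow_prime
    (G := (π.comp (Subgroup.inclusion hPH)).range) 2 (n := 3) (by rw [h24]; norm_num)
  have hS8' : Nat.card (S8.map (Subgroup.subtype _)) = 8 := by
    rw [Subgroup.card_map_of_injective Subtype.val_injective, hS8]; norm_num
  obtain ⟨σ, hσ, hσ2, hσQ⟩ : ∃ σ ∈ S8.map (Subgroup.subtype _), σ * σ = 1 ∧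
      σ ∉ (π.comp (Subgroup.inclusion hQH)).range := by
    by_contra h
    push Not at h
    have h2 := (six_involutions _ hS8').trans
      (Nat.card_le_card_of_injective
        (β := (π.comp (Subgroup.inclusion hQH)).range) (fun g => ⟨g.1, h g.1 g.2.1 g.2.2⟩)
        fun a b e => Subtype.ext (Subtype.mk_eq_mk.1 e))
    rw [h4] at h2
    norm_num at h2
  obtain ⟨⟨σ', hσ'⟩, -, rfl⟩ := hσ
  obtain ⟨x, rfl⟩ := hσ'
  obtain ⟨T, -, hT⟩ := exists_rep K S x.2.1
  refine ⟨x, x.2.1, x.2.2, ?_, T, hT, fun hTE => hσQ ⟨⟨x, x.2.1, T, hT, hTE⟩, rfl⟩⟩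
  refine (hker ((Subgroup.inclusion hPH x) * Subgroup.inclusion hPH x)).1 ?_
  rw [map_mul]
  exact hσ2

theorem exists_four : ∃ z ∈ M, z ^ 8 = 1 ∧ Rep κ z Z0 := by
  have key : ∃ z ∈ M, z * z ∈ R ∧ ∃ T, Rep κ z T ∧ Inj T ∧ comp T T ≠ I2 ∧
      comp (comp T T) (comp T T) = I2 := by
    obtain ⟨x, hx, hxH, hxR, T, hT, hTE⟩ := exists_outside K h1 S
    obtain ⟨T', hi, hT'⟩ := exists_rep K S hx
    obtain rfl := rep_unique K hT hT'
    have hT1 := (stab_iff K h1 S hT).1 hxH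
    by_cases hsq : comp T T = I2
    · obtain ⟨r, hr, e, he, hene⟩ := exists_outer K h1 S
      obtain ⟨U, hU, hU1, hU2, hne⟩ := inE_four T hi hT1 hTE hsq e (R_inE K h1 S hr he) hene
      obtain ⟨g, hg, hgU⟩ := rep_surj K S hU
      have hgH : g ∈ H := (stab_iff K h1 S hgU).2 hU1
      have hr' := R_normal S hgH hr
      have hc : Rep κ (g * r * g⁻¹) (comp U (comp e U)) := by
        refine rep_conj_of K hU hgU he (ext_ap fun y => ?_)
        have hy := congrArg (fun W => ap W y) hU2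
        simp only [ap_comp, ap_id] at hy
        simp only [ap_comp, hy]
      have hzz : x * (g * r * g⁻¹) * (x * (g * r * g⁻¹)) ∈ R := by
        have e1 : x * (g * r * g⁻¹) * (x * (g * r * g⁻¹)) =
            (x * (g * r * g⁻¹) * x⁻¹) * (x * x) * (g * r * g⁻¹) := by group
        rw [e1]
        exact mul_mem (mul_mem (R_normal S hxH hr') hxR) hr'
      have hzM : x * (g * r * g⁻¹) ∈ M := mul_mem hx (R_le_M S hr')
      obtain ⟨T2, hi2, hT2⟩ := exists_rep K S hzM
      obtain rfl := rep_unique K hT2 (rep_mul K hT hc)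
      exact ⟨_, hzM, hzz, _, hT2, hi2, hne,
        R_image K h1 S hzz (rep_mul K hT2 hT2)⟩
    · exact ⟨x, hx, hxR, T, hT, hi, hsq, R_image K h1 S hxR (rep_mul K hT hT)⟩
  obtain ⟨z, hz, hzR, T, hT, hi, hne, h4⟩ := key
  have hz8 : z ^ 8 = 1 := by
    have h := R_sq S hzR
    rw [show z ^ 8 = (z * z * (z * z)) * (z * z * (z * z)) by simp only [pow_succ, pow_zero, one_mul, mul_assoc]]
    rcases h with h | h <;> rw [h]
    · rw [one_mul]
    · exact t_sq S
  obtain ⟨U, hU, he⟩ := four_conj T hi hne h4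
  obtain ⟨g, hg, hgU⟩ := rep_surj K S hU
  exact ⟨g * z * g⁻¹, mul_mem (mul_mem hg hz) (inv_mem hg), by rw [conj_pow, hz8]; group,
    rep_conj_of K hU hgU hT he⟩

end frame

theorem exists_vcoord (S : HSFrame28.Setting t H R Cy E V M) :
    ∃ κ, IsVCoord V κ ∧ κ f1 = t := by
  obtain ⟨ι, hι⟩ := exists_coord S
  have K := vcoord_of S hι
  obtain ⟨x, hx⟩ := (K.mem t).1 (t_mem_V S)
  have hx0 : x ≠ 0 := fun h => t_ne S (by rw [← hx, h]; exact kappa_zero K)
  obtain ⟨U, hU, rfl⟩ := exists_first x hx0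
  have hinj : Function.Injective (ap U) := fun v w h => sub_eq_zero.1 (hU _ (by
    have h2 := ap_add U (v - w) w
    rw [sub_add_cancel, h] at h2
    exact right_eq_add.1 h2))
  refine ⟨fun y => ι (up (ap U y) + up (ap U y)),
    ⟨fun v w => ?_, fun v w h => hinj (K.inj h), fun g => ?_⟩, ?_⟩
  · simp only [ap_add, ← hι.add, two_up_add]
  · rw [K.mem]
    constructor
    · rintro ⟨y, rfl⟩
      obtain ⟨w, rfl⟩ := Finite.surjective_of_injective hinj y
      exact ⟨w, rfl⟩
    · rintro ⟨y, rfl⟩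
      exact ⟨_, rfl⟩
  · simp only [(ap_basis U).1]
    exact hx

end Cfsg.Agent.HSRecog71MLift
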