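import Cfsg.Agent.Lib.HSModel28

/-!
Finite computations for the frame of the eight-group normaliser: linear maps of `(ℤ/2)³` as triples of images and
the two matrices over `ℤ/4`.
-/

set_option autoImplicit false
set_option maxRecDepth 100000
set_option synthInstance.maxSize 4096
set_option synthInstance.maxHeartbeats 200000

namespace Cfsg.Agent.HSRecog71MModel

open HSModel28 (Vec)

/-- vectors of the eight-group -/
abbrev V2 := ZMod 2 × ZMod 2 × ZMod 2
/-- linear maps as images of the basis -/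
abbrev M2 := V2 × V2 × V2

/-- first basis vector -/
abbrev f1 : V2 := (1, 0, 0)
/-- second basis vector -/
abbrev f2 : V2 := (0, 1, 0)
/-- third basis vector -/
abbrev f3 : V2 := (0, 0, 1)

/-- apply a triple -/
def ap (T : M2) (v : V2) : V2 := v.1 • T.1 + v.2.1 • T.2.1 + v.2.2 • T.2.2
/-- compose triples -/
def comp (T U : M2) : M2 := (ap T U.1, ap T U.2.1, ap T U.2.2)
/-- identity -/
def I2 : M2 := (f1, f2, f3)
/-- image of `a` -/
def A0 : M2 := (f3, f2, f1)
/-- image of `b` -/
def B0 : M2 := (f1, (0, 1, 1), (1, 1, 0))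
/-- image of `a b⁻¹ a b` -/
def Z0 : M2 := comp A0 (comp (comp B0 B0) (comp A0 B0))
/-- invertible -/
def Inj (T : M2) : Prop := ∀ v, ap T v = 0 → v = 0
/-- transvections with centre the first vector -/
def InE (T : M2) : Prop :=
  T.1 = f1 ∧ (T.2.1 = f2 ∨ T.2.1 = f2 + f1) ∧ (T.2.2 = f3 ∨ T.2.2 = f3 + f1)

instance : DecidablePred Inj := fun T => by unfold Inj; infer_instance
instance : DecidablePred InE := fun T => by unfold InE; infer_instance

theorem ap_comp (T U : M2) (v : V2) : ap (comp T U) v = ap T (ap U v) := by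
  ext <;> simp [ap, comp] <;> ring

theorem ap_add (T : M2) (v w : V2) : ap T (v + w) = ap T v + ap T w := by
  ext <;> simp [ap] <;> ring

theorem ap_id : ∀ v, ap I2 v = v := by decide +kernel

theorem ap_basis (T : M2) : ap T f1 = T.1 ∧ ap T f2 = T.2.1 ∧ ap T f3 = T.2.2 := by
  simp [ap, f1, f2, f3]

theorem ext_ap {T U : M2} (h : ∀ v, ap T v = ap U v) : T = U := by
  obtain ⟨a, b, c⟩ := ap_basis T
  obtain ⟨a', b', c'⟩ := ap_basis U
  exact Prod.ext (by rw [← a, ← a', h]) (Prod.ext (by rw [← b, ← b', h]) (by rw [← c, ← c', h]))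

theorem card_inj : Fintype.card {T : M2 // Inj T} = 168 := by decide +kernel

theorem card_stab : Fintype.card {T : M2 // Inj T ∧ T.1 = f1} = 24 := by decide +kernel

theorem card_inE : Fintype.card {T : M2 // Inj T ∧ InE T} = 4 := by decide +kernel

theorem inj_A0 : Inj A0 := by decide +kernel

theorem inj_B0 : Inj B0 := by decide +kernel

theorem inE_closed : InE I2 ∧ ∀ T, InE T → comp T T = I2 ∧ ∀ U, InE U → InE (comp T U) := by
  decide +kernel

theorem exists_first : ∀ v : V2, v ≠ 0 → ∃ U, Inj U ∧ U.1 = v := by decide +kernel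

theorem B0_pow : comp B0 (comp B0 B0) = I2 ∧ comp A0 A0 = I2 := by decide +kernel

theorem inv_conj : ∀ T, Inj T → comp T T = I2 → T ≠ I2 →
    ∃ U, Inj U ∧ comp U T = comp A0 U := by
  decide +kernel

theorem four_conj : ∀ T, Inj T → comp T T ≠ I2 → comp (comp T T) (comp T T) = I2 →
    ∃ U, Inj U ∧ comp U T = comp Z0 U := by
  decide +kernel

theorem not_inE_conj : ∀ T, Inj T → T.1 = f1 → ¬InE T → comp T T = I2 →
    ∃ U, Inj U ∧ U.1 = f1 ∧ comp U U = I2 ∧
      comp (comp U (comp T U)) T ≠ comp T (comp U (comp T U)) := by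
  decide +kernel

theorem inE_four : ∀ T, Inj T → T.1 = f1 → ¬InE T → comp T T = I2 → ∀ e, InE e → e ≠ I2 →
    ∃ U, Inj U ∧ U.1 = f1 ∧ comp U U = I2 ∧
      comp (comp T (comp U (comp e U))) (comp T (comp U (comp e U))) ≠ I2 := by
  decide +kernel

theorem stab_four : ∀ T, Inj T → T.1 = f1 → InE (comp T T) →
    comp (comp T T) (comp T T) = I2 := by
  decide +kernel

/-- reduction -/
def red (v : Vec) : V2 := ((v.1.val : ZMod 2), (v.2.1.val : ZMod 2), (v.2.2.val : ZMod 2))
/-- section of reduction -/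
def up (v : V2) : Vec := ((v.1.val : ZMod 4), (v.2.1.val : ZMod 4), (v.2.2.val : ZMod 4))
/-- the map with given images of the basis -/
def lin3 (x y z : Vec) (v : Vec) : Vec := v.1 • x + v.2.1 • y + v.2.2 • z

theorem lin3_add (x y z v w : Vec) : lin3 x y z (v + w) = lin3 x y z v + lin3 x y z w := by
  ext <;> simp [lin3] <;> ring

theorem two_red : ∀ v : Vec, v + v = up (red v) + up (red v) := by decide +kernel

theorem two_up_add : ∀ v w : V2, up (v + w) + up (v + w) = (up v + up v) + (up w + up w) := by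
  decide +kernel

theorem two_up_eq : ∀ v : V2, up v + up v = 0 → v = 0 := by decide +kernel

theorem red_up : ∀ v : V2, red (up v) = v := by decide +kernel

theorem exists_half : ∀ v : Vec, v + v = 0 → ∃ w : V2, up w + up w = v := by decide +kernel

/-- the change of second root -/
def newU (y : Vec) : Vec := (1, 0, 0) - y

/-- condition for the new root -/
def UProp (x y z : Vec) : Prop :=
  (∀ e ∈ ([(1, 0, 0), (0, 1, 0), (0, 0, 1)] : List Vec),
    lin3 (0, 0, 1) x (1, 0, 0) (lin3 (0, 0, 1) x (1, 0, 0) e) = e ∧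
    lin3 (1, 0, 0) z y (lin3 (1, 0, 0) z y (lin3 (1, 0, 0) z y e)) = e ∧
    (fun w => lin3 (0, 0, 1) x (1, 0, 0) (lin3 (1, 0, 0) z y w))^[7] e = e) →
  red (newU y) = f2 ∧
  lin3 (0, 0, 1) x (1, 0, 0) (newU y) = -newU y ∧
  lin3 (1, 0, 0) z y (newU y) = -newU y + (0, 0, 1) ∧
  y = (1, 0, 0) + -newU y

instance (x y z : Vec) : Decidable (UProp x y z) := by unfold UProp; infer_instance

theorem uprop_all : ∀ p q r : V2, UProp (up f2 + (up p + up p)) (up (1, 1, 0) + (up q + up q))
    (up (0, 1, 1) + (up r + up r)) := by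
  decide +kernel

theorem parity_split : ∀ v : Vec, ∃ p : V2, v = up (red v) + (up p + up p) := by decide +kernel

theorem uprop_of_red {x y z : Vec} (hx : red x = f2) (hy : red y = (1, 1, 0))
    (hz : red z = (0, 1, 1)) : UProp x y z := by
  obtain ⟨p, hp⟩ := parity_split x
  obtain ⟨q, hq⟩ := parity_split y
  obtain ⟨r, hr⟩ := parity_split z
  rw [hp, hq, hr, hx, hy, hz]
  exact uprop_all p q r

/-- the action of `a b⁻¹ a b` on the core -/
def linZ (v : Vec) : Vec :=
  HSModel28.linA (HSModel28.linB (HSModel28.linB (HSModel28.linA (HSModel28.linB v))))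

/-- sum over the powers of `a b⁻¹ a b` -/
def sumZ (v : Vec) : Vec := v + linZ v + linZ (linZ v) + linZ (linZ (linZ v))

theorem fix_seven : ∀ l : Vec, HSModel28.linA (HSModel28.linB l) = l → l = 0 := by decide +kernel

theorem fix_four : ∀ k : Vec, linZ k = k → ∀ v : Vec, (k + sumZ v) + (k + sumZ v) = 0 →
    k = 0 ∨ k = (2, 0, 2) := by
  decide +kernel

theorem move_four :
    sumZ ((0, 1, 0) + HSModel28.linA (HSModel28.linB (HSModel28.linB (0, 1, 0)))) + (2, 0, 2)
      = 0 := by
  decide +kernel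

end Cfsg.Agent.HSRecog71MModel
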