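import Cfsg.Agent.Lib.HSFrame28
import Cfsg.Agent.Lib.HSRecog71MModel
import Cfsg.Agent.Lib.LocGroup56
import Cfsg.Agent.Lib.PSLSimple

/-!
Structure of the two-cores of the involution centraliser and of the eight-group normaliser.
-/

set_option autoImplicit false
set_option linter.unusedSectionVars false
set_option linter.style.haveILetI false

namespace Cfsg.Agent.HSRecog71MSetup

open Subgroup
open scoped commutatorElement
open Cfsg.Agent.HSRecog71MModel
open HSModel28 (Vec)

theorem zmod_two_one : ∀ c : ZMod 2, c ≠ 0 → c = 1 := by decide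

variable {G : Type*} [Group G] [Finite G] {t : G} {H R Cy E V M : Subgroup G}
  (S : HSFrame28.Setting t H R Cy E V M)

include S

theorem t_sq : t * t = 1 := by
  have := pow_orderOf_eq_one t
  rwa [S.ht, sq] at this

theorem t_ne : t ≠ 1 := by
  intro h
  have := S.ht
  simp [h] at this

theorem mem_H {g : G} : g ∈ H ↔ g * t = t * g := by
  rw [S.hH, mem_centralizer_singleton_iff]

theorem mem_R {g : G} : g ∈ R ↔ ∃ h : g ∈ H, (⟨g, h⟩ : H) ∈ Cfsg.pCore 2 H := by
  rw [S.hR]
  constructor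
  · rintro ⟨y, hy, rfl⟩
    exact ⟨y.2, hy⟩
  · rintro ⟨h, hy⟩
    exact ⟨_, hy, rfl⟩

theorem R_le_H : R ≤ H := fun g hg => ((mem_R S).1 hg).1

theorem R_normal {g r : G} (hg : g ∈ H) (hr : r ∈ R) : g * r * g⁻¹ ∈ R := by
  obtain ⟨h, hr'⟩ := (mem_R S).1 hr
  exact (mem_R S).2 ⟨mul_mem (mul_mem hg h) (inv_mem hg),
    Subgroup.Normal.conj_mem inferInstance _ hr' ⟨g, hg⟩⟩

theorem t_mem_R : t ∈ R := by
  have htH : t ∈ H := (mem_H S).2 rfl
  refine (mem_R S).2 ⟨htH, ?_⟩
  have hc : (⟨t, htH⟩ : H) ∈ center H :=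
    mem_center_iff.2 fun g => Subtype.ext ((mem_H S).1 g.2)
  have hn : (zpowers (⟨t, htH⟩ : H)).Normal := by
    refine ⟨fun x hx g => ?_⟩
    have := (zpowers_le.2 hc) hx
    rw [mem_center_iff.1 this g, mul_inv_cancel_right]
    exact hx
  refine LocGroup56.le_pCore hn ?_ (mem_zpowers _)
  refine IsPGroup.of_card (n := 1) ?_
  rw [Nat.card_zpowers, ← Subgroup.orderOf_coe, S.ht, pow_one]

theorem cy_comm {y r : G} (hy : y ∈ Cy) (hr : r ∈ R) : r * y = y * r :=
  mem_centralizer_iff.1 (S.hCyle hy).2 r hr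

theorem exists_prod {r : G} (hr : r ∈ R) : ∃ y ∈ Cy, ∃ e ∈ E, r = y * e := by
  rw [← S.hprod] at hr
  rw [← SetLike.mem_coe, Subgroup.coe_mul_of_left_le_normalizer_right Cy E ?_] at hr
  · obtain ⟨y, hy, e, he, rfl⟩ := Set.mem_mul.1 hr
    exact ⟨y, hy, e, he, rfl⟩
  · intro y hy
    rw [mem_normalizer_iff]
    intro h
    constructor <;> intro hh
    · rw [← cy_comm S hy (S.hEle hh), mul_inv_cancel_right]
      exact hh
    · have e1 : h = y * h * y⁻¹ := by
        have h2 := cy_comm S hy (S.hEle hh)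
        calc h = y⁻¹ * ((y * h * y⁻¹) * y) := by group
          _ = y⁻¹ * (y * (y * h * y⁻¹)) := by rw [h2]
          _ = y * h * y⁻¹ := by group
      rw [e1]
      exact hh

theorem centralizing {x : G} (hx : x ∈ R) (hc : ∀ r ∈ R, r * x = x * r) : x ∈ Cy := by
  obtain ⟨y, hy, e, he, rfl⟩ := exists_prod S hx
  have h2 : e ∈ E ⊓ centralizer (E : Set G) := by
    refine ⟨he, mem_centralizer_iff.2 fun r hr => ?_⟩
    have h1 := hc r (S.hEle hr)
    rw [← mul_assoc, cy_comm S hy (S.hEle hr), mul_assoc, mul_assoc] at h1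
    exact mul_left_cancel h1
  rw [← S.hmeet] at h2
  exact mul_mem hy h2.1

theorem exists_root : ∃ c0 ∈ Cy, c0 * c0 = t ∧ ∀ y ∈ Cy, y ∈ ({1, c0, t, t * c0} : Set G) := by
  have htc : t ∈ Cy := centralizing S (t_mem_R S) fun r hr => (mem_H S).1 (R_le_H S hr)
  obtain ⟨g, hg⟩ := S.hCy.exists_generator
  have ho : orderOf (g : G) = 4 := by
    rw [Subgroup.orderOf_coe, orderOf_eq_card_of_forall_mem_zpowers hg, S.hCycard]
  obtain ⟨k, hk, hkt⟩ : ∃ k < 4, (g : G) ^ k = t := by
    obtain ⟨k, hk⟩ := (mem_powers_iff_mem_zpowers (x := g)).2 (hg ⟨t, htc⟩)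
    refine ⟨k % 4, Nat.mod_lt _ (by norm_num), ?_⟩
    rw [← ho, pow_mod_orderOf]
    exact congrArg Subtype.val hk
  have h4 : (g : G) ^ 4 = 1 := ho ▸ pow_orderOf_eq_one _
  have hk2 : k = 2 := by
    have h := t_sq S
    rw [← hkt, ← pow_add] at h
    have := orderOf_dvd_of_pow_eq_one h
    rw [ho] at this
    have : k ≠ 0 := fun h0 => t_ne S (by rw [← hkt, h0, pow_zero])
    omega
  subst hk2
  refine ⟨g, g.2, by rw [← sq, hkt], fun y hy => ?_⟩
  obtain ⟨j, hj⟩ := (mem_powers_iff_mem_zpowers (x := g)).2 (hg ⟨y, hy⟩)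
  have hy' : (g : G) ^ (j % 4) = y := by
    rw [← ho, pow_mod_orderOf]; exact congrArg Subtype.val hj
  have : j % 4 < 4 := Nat.mod_lt _ (by norm_num)
  simp only [Set.mem_insert_iff, Set.mem_singleton_iff]
  interval_cases j % 4
  · left; rw [← hy', pow_zero]
  · right; left; rw [← hy', pow_one]
  · right; right; left; rw [← hy', hkt]
  · right; right; right; rw [← hy', pow_succ, hkt]

theorem center_E {e : G} (he : e ∈ E) :
    (⟨e, he⟩ : E) ∈ center E ↔ e ∈ Cy := by
  rw [mem_center_iff]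
  constructor
  · intro h
    have : e ∈ E ⊓ centralizer (E : Set G) :=
      ⟨he, mem_centralizer_iff.2 fun r hr => congrArg Subtype.val (h ⟨r, hr⟩)⟩
    rw [← S.hmeet] at this
    exact this.1
  · intro h g
    exact Subtype.ext (cy_comm S h (S.hEle g.2))

theorem t_mem_E : t ∈ E ∧ ∀ y ∈ Cy, y ∈ E → y = 1 ∨ y = t := by
  obtain ⟨c0, hc0, hct, hall⟩ := exists_root S
  have h2 : Nat.card (center E) = 2 := S.hEex.2
  obtain ⟨z, hz, hz1⟩ : ∃ z ∈ center E, z ≠ 1 := by
    by_contra h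
    push Not at h
    have : center E = ⊥ := (Subgroup.eq_bot_iff_forall _).2 h
    rw [this] at h2
    simp at h2
  have hzz : z * z = 1 := by
    have := pow_card_eq_one' (x := (⟨z, hz⟩ : center E))
    rw [h2] at this
    simpa [sq] using congrArg Subtype.val this
  have hzC : (z : G) ∈ Cy := (center_E S z.2).1 hz
  have hc0o : c0 * c0 ≠ 1 := hct ▸ t_ne S
  have hzt : (z : G) = t := by
    have hz' : (z : G) * z = 1 := congrArg Subtype.val hzz
    rcases hall _ hzC with h | h | h | h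
    · exact absurd (Subtype.ext h) hz1
    · rw [h] at hz'; exact absurd hz' hc0o
    · exact h
    · rw [h] at hz'
      have this : c0 * c0 = 1 := by
        have hc0t : c0 * t = t * c0 := (mem_H S).1 (R_le_H S (S.hCyle hc0).1)
        calc c0 * c0 = (t * t) * (c0 * c0) := by rw [t_sq S, one_mul]
          _ = t * (c0 * t) * c0 := by rw [hc0t]; group
          _ = t * c0 * (t * c0) := by group
          _ = 1 := hz'
      exact absurd this hc0o
  refine ⟨hzt ▸ z.2, fun y hy hyE => ?_⟩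
  by_cases h1 : y = 1
  · exact Or.inl h1
  · right
    have hyc := (center_E S hyE).2 hy
    have := Nat.card_eq_two_iff' (1 : center E) |>.1 h2
    have e := this.unique (y₁ := ⟨⟨y, hyE⟩, hyc⟩) (y₂ := ⟨z, hz⟩)
      (fun h => h1 (congrArg (fun w : center E => ((w : E) : G)) h))
      (fun h => hz1 (congrArg Subtype.val h))
    rw [← hzt]
    exact congrArg (fun w : center E => ((w : E) : G)) e

theorem E_comm {x y : G} (hx : x ∈ E) (hy : y ∈ E) :
    x * y * x⁻¹ = y ∨ x * y * x⁻¹ = t * y := by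
  have hm : ⁅(⟨x, hx⟩ : E), (⟨y, hy⟩ : E)⁆ ∈ center E := by
    rw [← S.hEex.1.2.2]
    exact commutator_mem_commutator (mem_top _) (mem_top _)
  have hC : x * y * x⁻¹ * y⁻¹ ∈ Cy := by
    have := (center_E S _).1 hm
    simpa [commutatorElement_def] using this
  rcases (t_mem_E S).2 _ hC (mul_mem (mul_mem (mul_mem hx hy) (inv_mem hx)) (inv_mem hy)) with h | h
  · left; rw [mul_inv_eq_one.1 h]
  · right; rw [← h, inv_mul_cancel_right]

theorem R_comm {x y : G} (hx : x ∈ R) (hy : y ∈ R) :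
    x * y * x⁻¹ = y ∨ x * y * x⁻¹ = t * y := by
  obtain ⟨p, hp, e, he, rfl⟩ := exists_prod S hx
  obtain ⟨q, hq, f, hf, rfl⟩ := exists_prod S hy
  have key : p * e * (q * f) * (p * e)⁻¹ = q * (e * f * e⁻¹) := by
    have h1 : e * q = q * e := cy_comm S hq (S.hEle he)
    have h2 : p * (q * (e * f * e⁻¹)) = q * (e * f * e⁻¹) * p :=
      (cy_comm S hp (mul_mem (S.hCyle hq).1
        (S.hEle (mul_mem (mul_mem he hf) (inv_mem he))))).symm
    calc p * e * (q * f) * (p * e)⁻¹ = p * ((e * q) * f * e⁻¹) * p⁻¹ := by group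
      _ = p * (q * (e * f * e⁻¹)) * p⁻¹ := by rw [h1]; group
      _ = q * (e * f * e⁻¹) := by rw [h2, mul_inv_cancel_right]
  rw [key]
  rcases E_comm S he hf with h | h
  · left; rw [h]
  · right
    rw [h, ← mul_assoc, ← mul_assoc, ((mem_H S).1 (R_le_H S (S.hCyle hq).1))]

theorem E_sq {e : G} (he : e ∈ E) : e * e = 1 ∨ e * e = t := by
  refine (t_mem_E S).2 _ ?_ (mul_mem he he)
  refine (center_E S (mul_mem he he)).1 ?_
  rw [mem_center_iff]
  intro g
  apply Subtype.ext
  show (g : G) * (e * e) = e * e * g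
  have te : e * t = t * e := (mem_H S).1 (R_le_H S (S.hEle he))
  rcases E_comm S he g.2 with h | h
  · rw [mul_inv_eq_iff_eq_mul] at h
    rw [← mul_assoc, ← h, mul_assoc, ← h, mul_assoc]
  · rw [mul_inv_eq_iff_eq_mul] at h
    symm
    calc e * e * (g : G) = e * (e * g) := mul_assoc ..
      _ = (e * t) * (g * e) := by rw [h]; group
      _ = t * (e * g) * e := by rw [te]; group
      _ = (t * t) * (g * (e * e)) := by rw [h]; group
      _ = (g : G) * (e * e) := by rw [t_sq S, one_mul]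

theorem R_sq {x : G} (hx : x ∈ R) : x * x = 1 ∨ x * x = t := by
  obtain ⟨c0, hc0, hct, hall⟩ := exists_root S
  obtain ⟨p, hp, e, he, rfl⟩ := exists_prod S hx
  have hpp : p * p = 1 ∨ p * p = t := by
    have hc0t : c0 * t = t * c0 := (mem_H S).1 (R_le_H S (S.hCyle hc0).1)
    rcases hall p hp with h | h | h | h <;> rw [h]
    · left; rw [one_mul]
    · right; exact hct
    · left; exact t_sq S
    · right
      calc t * c0 * (t * c0) = t * (c0 * t) * c0 := by group
        _ = (t * t) * (c0 * c0) := by rw [hc0t]; group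
        _ = t := by rw [t_sq S, hct, one_mul]
  have : p * e * (p * e) = (p * p) * (e * e) := by
    calc p * e * (p * e) = p * (e * p) * e := by group
      _ = _ := by rw [cy_comm S hp (S.hEle he)]; group
  rw [this]
  rcases hpp with h | h <;> rcases E_sq S he with h' | h' <;> rw [h, h'] <;> simp [t_sq S]

theorem card_R : Nat.card R = 64 := by
  obtain ⟨c0, hc0, hct, hall⟩ := exists_root S
  have hc0R : c0 ∈ R := (S.hCyle hc0).1
  have hc0E : c0 ∉ E := fun h => by
    rcases (t_mem_E S).2 c0 hc0 h with h' | h'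
    · exact t_ne S (by rw [← hct, h', one_mul])
    · exact t_ne S (by rw [← hct, h', t_sq S])
  have hdv : Nat.card E ∣ Nat.card R := Subgroup.card_dvd_of_le S.hEle
  have hlt : Nat.card E < Nat.card R := by
    rcases lt_or_eq_of_le (Nat.le_of_dvd Nat.card_pos hdv) with h | h
    · exact h
    · exact absurd ((Subgroup.eq_of_le_of_card_ge S.hEle h.ge).symm ▸ hc0R) hc0E
  have hle : Nat.card R ≤ Nat.card (E ⊕ E) := by
    refine Nat.card_le_card_of_surjective
      (Sum.elim (fun e : E => (⟨e.1, S.hEle e.2⟩ : R))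
        (fun e : E => (⟨c0 * e.1, mul_mem hc0R (S.hEle e.2)⟩ : R))) ?_
    intro r
    obtain ⟨p, hp, e, he, hr⟩ := exists_prod S r.2
    have htE := (t_mem_E S).1
    rcases hall p hp with h | h | h | h
    · exact ⟨Sum.inl ⟨e, he⟩, Subtype.ext (by simp [hr, h])⟩
    · exact ⟨Sum.inr ⟨e, he⟩, Subtype.ext (by simp [hr, h])⟩
    · exact ⟨Sum.inl ⟨t * e, mul_mem htE he⟩, Subtype.ext (by simp [hr, h])⟩
    · refine ⟨Sum.inr ⟨t * e, mul_mem htE he⟩, Subtype.ext ?_⟩
      show c0 * (t * e) = (r : G)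
      rw [hr, h, ← mul_assoc, (mem_H S).1 (R_le_H S hc0R)]
  rw [Nat.card_sum, S.hEcard] at hle
  rw [S.hEcard] at hdv hlt
  obtain ⟨k, hk⟩ := hdv
  omega

theorem R_not_comm : ∃ x ∈ R, ∃ y ∈ R, x * y ≠ y * x := by
  by_contra h
  push Not at h
  have : R ≤ Cy := fun x hx => centralizing S hx fun r hr => h r hr x hx
  have := Subgroup.card_le_of_le this
  rw [card_R S, S.hCycard] at this
  norm_num at this

theorem comm_V {v w : G} (hv : v ∈ V) (hw : w ∈ V) : v * w = w * v :=
  congrArg Subtype.val (S.hVcomm.is_comm.comm ⟨v, hv⟩ ⟨w, hw⟩)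

theorem t_mem_V : t ∈ V := by
  by_contra htV
  obtain ⟨c0, hc0, hct, hall⟩ := exists_root S
  have hVC : ∀ v ∈ V, v ∈ Cy → v = 1 := by
    intro v hv hvC
    have h2 : v * v = 1 := by rw [← sq]; exact S.hVexp v hv
    rcases hall v hvC with h | h | h | h
    · exact h
    · rw [h, hct] at h2; exact absurd h2 (t_ne S)
    · exact absurd (h ▸ hv) htV
    · rw [h] at h2
      have hc0t : c0 * t = t * c0 := (mem_H S).1 (R_le_H S (S.hCyle hc0).1)
      rw [show t * c0 * (t * c0) = t * (c0 * t) * c0 by group, hc0t, ← mul_assoc, t_sq S,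
        one_mul, hct] at h2
      exact absurd h2 (t_ne S)
  -- the abelian subgroup
  let D : Subgroup G :=
    { carrier := {g | ∃ v ∈ V, ∃ y ∈ Cy, g = v * y}
      one_mem' := ⟨1, one_mem _, 1, one_mem _, (mul_one _).symm⟩
      mul_mem' := by
        rintro _ _ ⟨v, hv, y, hy, rfl⟩ ⟨w, hw, z, hz, rfl⟩
        refine ⟨v * w, mul_mem hv hw, y * z, mul_mem hy hz, ?_⟩
        calc v * y * (w * z) = v * (y * w) * z := by group
          _ = _ := by rw [← cy_comm S hy (S.hVR hw)]; group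
      inv_mem' := by
        rintro _ ⟨v, hv, y, hy, rfl⟩
        refine ⟨v⁻¹, inv_mem hv, y⁻¹, inv_mem hy, ?_⟩
        rw [mul_inv_rev]
        exact (cy_comm S (inv_mem hy) (inv_mem (S.hVR hv))).symm }
  have hDR : D ≤ R := by
    rintro _ ⟨v, hv, y, hy, rfl⟩; exact mul_mem (S.hVR hv) (S.hCyle hy).1
  have hDc : ∀ d ∈ D, ∀ e ∈ D, d * e = e * d := by
    rintro _ ⟨v, hv, y, hy, rfl⟩ _ ⟨w, hw, z, hz, rfl⟩
    have a1 := cy_comm S hy (S.hVR hw)
    have a2 := cy_comm S hz (S.hVR hv)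
    have a3 : y * z = z * y := (cy_comm S hy (S.hCyle hz).1).symm
    calc v * y * (w * z) = v * (y * w) * z := by group
      _ = (v * w) * (y * z) := by rw [← a1]; group
      _ = (w * v) * (z * y) := by rw [comm_V S hv hw, a3]
      _ = w * (v * z) * y := by group
      _ = _ := by rw [a2]; group
  have hD32 : 32 ≤ Nat.card D := by
    have hinj : Function.Injective (fun p : V × Cy => (⟨p.1.1 * p.2.1, p.1.1, p.1.2, p.2.1, p.2.2, rfl⟩ : D)) := by
      intro p q h
      have h' : p.1.1 * p.2.1 = q.1.1 * q.2.1 := congrArg Subtype.val h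
      have h1 : q.1.1⁻¹ * p.1.1 = q.2.1 * p.2.1⁻¹ := by
        rw [eq_mul_inv_iff_mul_eq, mul_assoc, h', inv_mul_cancel_left]
      have h2 := hVC _ (mul_mem (inv_mem q.1.2) p.1.2) (h1 ▸ mul_mem q.2.2 (inv_mem p.2.2))
      have e1 : q.1.1 = p.1.1 := inv_mul_eq_one.1 h2
      refine Prod.ext (Subtype.ext e1.symm) (Subtype.ext ?_)
      rw [e1] at h'
      exact mul_left_cancel h'
    have := Nat.card_le_card_of_injective _ hinj
    rwa [Nat.card_prod, S.hVcard, S.hCycard] at this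
  obtain ⟨x, hxR, hxD⟩ : ∃ x ∈ R, x ∉ D := by
    obtain ⟨x, hx, y, hy, hne⟩ := R_not_comm S
    by_contra h
    push Not at h
    exact hne (hDc x (h x hx) y (h y hy))
  have htop : D ⊔ zpowers x = R := by
    have hle : D ⊔ zpowers x ≤ R := sup_le hDR (zpowers_le.2 hxR)
    refine Subgroup.eq_of_le_of_card_ge hle ?_
    have hdv := Subgroup.card_dvd_of_le hle
    have hlt : Nat.card D < Nat.card (D ⊔ zpowers x : Subgroup G) := by
      rcases lt_or_eq_of_le (Subgroup.card_le_of_le (le_sup_left : D ≤ D ⊔ zpowers x)) with h | h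
      · exact h
      · refine absurd ?_ hxD
        rw [Subgroup.eq_of_le_of_card_ge le_sup_left h.ge]
        exact le_sup_right (α := Subgroup G) (mem_zpowers x)
    rw [card_R S] at hdv ⊢
    obtain ⟨k, hk⟩ := hdv
    rcases k with _ | _ | k
    · simp at hk
    · omega
    · nlinarith
  have hcent : ∀ d ∈ D, d * x = x * d → d ∈ Cy := by
    intro d hd hdx
    refine centralizing S (hDR hd) fun r hr => ?_
    have hle : D ⊔ zpowers x ≤ centralizer ({d} : Set G) :=
      sup_le (fun e he => mem_centralizer_singleton_iff.2 (hDc e he d hd))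
        (zpowers_le.2 (mem_centralizer_singleton_iff.2 hdx.symm))
    rw [htop] at hle
    exact mem_centralizer_singleton_iff.1 (hle hr)
  have hmemD : ∀ v ∈ V, v ∈ D := fun v hv => ⟨v, hv, 1, one_mem _, (mul_one v).symm⟩
  have hconj : ∀ v ∈ V, v ≠ 1 → v * x * v⁻¹ = t * x := by
    intro v hv h1
    rcases R_comm S (S.hVR hv) hxR with h | h
    · exact absurd (hVC v hv (hcent v (hmemD v hv) (mul_inv_eq_iff_eq_mul.1 h))) h1
    · exact h
  have hsub : ∀ v ∈ V, ∀ w ∈ V, v ≠ 1 → w ≠ 1 → v = w := by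
    intro v hv w hw hv1 hw1
    have h := (hconj v hv hv1).trans (hconj w hw hw1).symm
    have hc : (w⁻¹ * v) * x = x * (w⁻¹ * v) := by
      calc (w⁻¹ * v) * x = w⁻¹ * (v * x * v⁻¹) * v := by group
        _ = x * (w⁻¹ * v) := by rw [h]; group
    exact (inv_mul_eq_one.1 (hVC _ (mul_mem (inv_mem hw) hv)
      (hcent _ (hmemD _ (mul_mem (inv_mem hw) hv)) hc))).symm
  have : Nat.card V ≤ 2 := by
    classical
    refine (Nat.card_le_card_of_injective (fun v : V => decide ((v : G) = 1)) ?_).trans_eq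
      (by simp)
    intro v w h
    apply Subtype.ext
    by_cases hv : (v : G) = 1
    · by_cases hw : (w : G) = 1
      · rw [hv, hw]
      · simp [hv, hw] at h
    · by_cases hw : (w : G) = 1
      · simp [hv, hw] at h
      · exact hsub _ v.2 _ w.2 hv hw
  rw [S.hVcard] at this
  norm_num at this

theorem mem_M {g : G} : g ∈ M ↔ ∀ v, v ∈ V ↔ g * v * g⁻¹ ∈ V := by
  rw [S.hM, mem_normalizer_iff]

theorem conj_V {g v : G} (hg : g ∈ M) (hv : v ∈ V) : g * v * g⁻¹ ∈ V := ((mem_M S).1 hg v).1 hv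

theorem R_le_M : R ≤ M := by
  intro r hr
  have hconj : ∀ r ∈ R, ∀ v ∈ V, r * v * r⁻¹ ∈ V := by
    intro r hr v hv
    rcases R_comm S hr (S.hVR hv) with h | h <;> rw [h]
    · exact hv
    · exact mul_mem (t_mem_V S) hv
  rw [mem_M S]
  intro v
  constructor
  · exact hconj r hr v
  · intro h
    have := hconj r⁻¹ (inv_mem hr) _ h
    rw [show r⁻¹ * (r * v * r⁻¹) * r⁻¹⁻¹ = v by group] at this
    exact this

theorem card_M : Nat.card M = 64 * 168 := by
  obtain ⟨e⟩ := S.hcore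
  obtain ⟨f⟩ := S.hquot
  rw [Subgroup.card_eq_card_quotient_mul_card_subgroup (Cfsg.pCore 2 M), Nat.card_congr f.toEquiv,
    Nat.card_congr e.toEquiv]
  haveI : Fact (Nat.Prime 2) := ⟨Nat.prime_two⟩
  rw [Matrix.card_GL_field, Fintype.card_congr (Equiv.refl _)]
  simp [Fin.prod_univ_three, Nat.card_eq_fintype_card, Fintype.card_prod, ZMod.card]

theorem simple_quot : IsSimpleGroup (M ⧸ Cfsg.pCore 2 M) := by
  haveI : Fact (Nat.Prime 2) := ⟨Nat.prime_two⟩
  obtain ⟨f⟩ := S.hquot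
  have hcen : Subgroup.center (Matrix.SpecialLinearGroup (Fin 3) (ZMod 2)) = ⊥ := by
    rw [← Subgroup.card_eq_one, PSLCard.card_center_SL, Nat.card_zmod]; rfl
  haveI : IsSimpleGroup (Matrix.ProjectiveSpecialLinearGroup (Fin 3) (ZMod 2)) :=
    PSLSimple.isSimpleGroup_PSL_fin' (by norm_num) (by norm_num)
  haveI : IsSimpleGroup (Matrix.SpecialLinearGroup (Fin 3) (ZMod 2)) :=
    ((QuotientGroup.quotientMulEquivOfEq hcen).trans QuotientGroup.quotientBot).symm.isSimpleGroup
  have hbij : Function.Bijective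
      (Matrix.SpecialLinearGroup.toGL : Matrix.SpecialLinearGroup (Fin 3) (ZMod 2) → _) := by
    refine ⟨Matrix.SpecialLinearGroup.toGL_injective, fun g => ?_⟩
    exact ⟨⟨g.1, zmod_two_one _ (Matrix.det_ne_zero_of_left_inverse (B := g⁻¹.1) (by simp))⟩, Units.ext rfl⟩
  exact (f.trans (MulEquiv.ofBijective _ hbij).symm).isSimpleGroup

/-- coordinates on the two-core of `M` -/
structure IsCoord (M : Subgroup G) (ι : Vec → G) : Prop where
  add : ∀ x y, ι (x + y) = ι x * ι y
  inj : Function.Injective ι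
  mem : ∀ g, g ∈ (Cfsg.pCore 2 M).map M.subtype ↔ ∃ x, ι x = g

theorem exists_coord : ∃ ι, IsCoord M ι := by
  obtain ⟨e⟩ := S.hcore
  refine ⟨fun x => ((e.symm (Multiplicative.ofAdd x) : M) : G), fun x y => ?_, ?_, fun g => ?_⟩
  · simp [ofAdd_add]
  · intro x y h
    have h' := e.symm.injective (Subtype.ext (Subtype.ext h))
    simpa using h'
  · constructor
    · rintro ⟨y, hy, rfl⟩
      exact ⟨Multiplicative.toAdd (e ⟨y, hy⟩), by simp⟩
    · rintro ⟨x, rfl⟩
      exact ⟨_, (e.symm (Multiplicative.ofAdd x)).2, rfl⟩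

theorem core_le_M : (Cfsg.pCore 2 M).map M.subtype ≤ M := Subgroup.map_subtype_le _

theorem core_conj {g x : G} (hg : g ∈ M) (hx : x ∈ (Cfsg.pCore 2 M).map M.subtype) :
    g * x * g⁻¹ ∈ (Cfsg.pCore 2 M).map M.subtype := by
  obtain ⟨y, hy, rfl⟩ := hx
  exact ⟨⟨g, hg⟩ * y * ⟨g, hg⟩⁻¹, Subgroup.Normal.conj_mem inferInstance _ hy _, rfl⟩

theorem V_le_core : V ≤ (Cfsg.pCore 2 M).map M.subtype := by
  have hVM : V ≤ M := fun v hv => by
    rw [S.hM]; exact Subgroup.le_normalizer hv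
  have hn : (V.subgroupOf M).Normal :=
    ⟨fun x hx g => conj_V S g.2 hx⟩
  have hp : IsPGroup 2 (V.subgroupOf M) := fun x =>
    ⟨1, Subtype.ext (Subtype.ext (by simpa using S.hVexp _ x.2))⟩
  intro v hv
  exact ⟨⟨v, hVM hv⟩, LocGroup56.le_pCore hn hp hv, rfl⟩

/-- coordinates on the eight-group -/
structure IsVCoord (V : Subgroup G) (κ : V2 → G) : Prop where
  add : ∀ x y, κ (x + y) = κ x * κ y
  inj : Function.Injective κ
  mem : ∀ g, g ∈ V ↔ ∃ x, κ x = g

theorem vcoord_of {ι : Vec → G} (hι : IsCoord M ι) :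
    IsVCoord V fun x => ι (up x + up x) := by
  have hinj : Function.Injective fun x => ι (up x + up x) := by
    intro x y h
    have h2 := hι.inj h
    have : up (x - y) + up (x - y) = 0 := by
      have h3 := two_up_add (x - y) y
      rw [sub_add_cancel, h2] at h3
      exact right_eq_add.1 h3
    exact sub_eq_zero.1 (two_up_eq _ this)
  refine ⟨fun x y => by rw [← hι.add, two_up_add], hinj, ?_⟩
  have hfw : ∀ g ∈ V, ∃ x, ι (up x + up x) = g := by
    intro g hg
    obtain ⟨v, rfl⟩ := (hι.mem g).1 (V_le_core S hg)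
    have h2 : v + v = 0 := by
      apply hι.inj
      have h0 : ι 0 = 1 := by simpa using (hι.add 0 0).symm
      rw [hι.add, h0, ← sq, S.hVexp _ hg]
    obtain ⟨w, rfl⟩ := exists_half v h2
    exact ⟨w, rfl⟩
  choose f hf using hfw
  have hb : Function.Bijective (fun g : V => f g.1 g.2) := by
    refine Function.Injective.bijective_of_nat_card_le (fun g h e => ?_) ?_
    · exact Subtype.ext (by rw [← hf g.1 g.2, ← hf h.1 h.2, e])
    · rw [S.hVcard, Nat.card_eq_fintype_card]; rfl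
  intro g
  constructor
  · exact fun hg => ⟨_, hf g hg⟩
  · rintro ⟨x, rfl⟩
    obtain ⟨v, hv⟩ := hb.2 x
    simp only at hv
    rw [← hv, hf]
    exact v.2

theorem card_H_not_seven : ¬7 ∣ Nat.card H := by
  obtain ⟨f⟩ := S.hH5
  haveI : Fact (Nat.Prime 2) := ⟨Nat.prime_two⟩
  obtain ⟨n, hn⟩ := IsPGroup.iff_card.1 (LocGroup56.pCore_isPGroup 2 H)
  rw [Subgroup.card_eq_card_quotient_mul_card_subgroup (Cfsg.pCore 2 H), Nat.card_congr f.toEquiv,
    Nat.card_perm, Nat.card_fin, hn]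
  intro h
  rcases (Nat.Prime.dvd_mul (by norm_num : Nat.Prime 7)).1 h with h | h
  · norm_num [Nat.factorial] at h
  · have := (Nat.Prime.dvd_of_dvd_pow (by norm_num : Nat.Prime 7) h)
    norm_num at this

theorem centralizer_V {g : G} (hg : g ∈ M) (hc : ∀ v ∈ V, g * v = v * g) :
    g ∈ (Cfsg.pCore 2 M).map M.subtype := by
  let K : Subgroup M := (centralizer (V : Set G)).subgroupOf M
  haveI hK : K.Normal := by
    refine ⟨fun x hx y => ?_⟩
    simp only [K, mem_subgroupOf, mem_centralizer_iff] at hx ⊢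
    intro v hv
    have hv' : (y : G)⁻¹ * v * y ∈ V := by
      simpa using conj_V S (inv_mem y.2) hv
    have h := hx _ hv'
    show v * ((y : G) * x * (y : G)⁻¹) = (y : G) * x * (y : G)⁻¹ * v
    calc v * ((y : G) * x * (y : G)⁻¹)
        = y * ((y : G)⁻¹ * v * y * x) * (y : G)⁻¹ := by group
      _ = _ := by rw [h]; group
  have hle : Cfsg.pCore 2 M ≤ K := by
    intro x hx
    simp only [K, mem_subgroupOf, mem_centralizer_iff]
    intro v hv
    obtain ⟨y, hy, rfl⟩ := V_le_core S hv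
    obtain ⟨e⟩ := S.hcore
    have : (⟨y, hy⟩ : Cfsg.pCore 2 M) * ⟨x, hx⟩ = ⟨x, hx⟩ * ⟨y, hy⟩ :=
      e.injective (by rw [map_mul, map_mul, mul_comm])
    exact congrArg (fun z : Cfsg.pCore 2 M => ((z : M) : G)) this
  haveI := simple_quot S
  haveI : (K.map (QuotientGroup.mk' (Cfsg.pCore 2 M))).Normal :=
    hK.map _ (QuotientGroup.mk'_surjective _)
  rcases IsSimpleGroup.eq_bot_or_eq_top_of_normal
    (K.map (QuotientGroup.mk' (Cfsg.pCore 2 M))) inferInstance with h | h
  · have hgK : (⟨g, hg⟩ : M) ∈ K := by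
      simp only [K, mem_subgroupOf, mem_centralizer_iff]
      exact fun v hv => (hc v hv).symm
    have := Subgroup.mem_map_of_mem (QuotientGroup.mk' (Cfsg.pCore 2 M)) hgK
    rw [h, Subgroup.mem_bot, QuotientGroup.mk'_apply, QuotientGroup.eq_one_iff] at this
    exact ⟨_, this, rfl⟩
  · exfalso
    have hKtop : K = ⊤ := by
      have := congrArg (Subgroup.comap (QuotientGroup.mk' (Cfsg.pCore 2 M))) h
      rwa [Subgroup.comap_map_eq, Subgroup.comap_top, QuotientGroup.ker_mk',
        sup_eq_left.2 hle] at this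
    have hMH : M ≤ H := fun x hx => by
      have : (⟨x, hx⟩ : M) ∈ K := hKtop ▸ mem_top _
      simp only [K, mem_subgroupOf, mem_centralizer_iff] at this
      exact (mem_H S).2 (this t (t_mem_V S)).symm
    refine card_H_not_seven S (dvd_trans ?_ (Subgroup.card_dvd_of_le hMH))
    rw [card_M S]
    norm_num

end Cfsg.Agent.HSRecog71MSetup
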