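import Mathlib

/-!
A coded model of `(ℤ/4)³ : L₃(2)`: a vector is a number below 64, a matrix is given by its three
columns, an element is `v + 64 P`.
-/

set_option autoImplicit false
set_option maxRecDepth 100000

namespace Cfsg.Agent.HSRecog81

/-- sum of two coded vectors -/
def vadd (n m : Nat) : Nat :=
  (n % 4 + m % 4) % 4 + 4 * ((n / 4 % 4 + m / 4 % 4) % 4) + 16 * ((n / 16 % 4 + m / 16 % 4) % 4)

/-- multiple of a coded vector -/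
def vsm (k n : Nat) : Nat :=
  (k * (n % 4)) % 4 + 4 * ((k * (n / 4 % 4)) % 4) + 16 * ((k * (n / 16 % 4)) % 4)

/-- the first column -/
def col0 (P : Nat) : Nat := P % 64
/-- the second column -/
def col1 (P : Nat) : Nat := P / 64 % 64
/-- the third column -/
def col2 (P : Nat) : Nat := P / 4096

/-- matrix times vector -/
def app (P n : Nat) : Nat :=
  vadd (vadd (vsm (n % 4) (col0 P)) (vsm (n / 4 % 4) (col1 P))) (vsm (n / 16 % 4) (col2 P))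

/-- product of matrices -/
def mulP (P Q : Nat) : Nat := app P (col0 Q) + 64 * app P (col1 Q) + 4096 * app P (col2 Q)

/-- product of elements -/
def mulX (x y : Nat) : Nat :=
  vadd (x % 64) (app (x / 64) (y % 64)) + 64 * mulP (x / 64) (y / 64)

/-- the identity matrix -/
def idP : Nat := 1 + 64 * 4 + 4096 * 16
/-- the code of a vector as an element -/
def vecX (n : Nat) : Nat := n + 64 * idP
/-- the matrix of `a` -/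
def aP : Nat := 16 + 64 * 12 + 4096 * 1
/-- the matrix of `b` -/
def bP : Nat := 1 + 64 * 28 + 4096 * 13

/-- words in `a, b` for the elements of the complement -/
def words168 : List (List Nat) :=
  [[], [0], [1], [0, 1], [1, 0], [1, 1], [0, 1, 0], [0, 1, 1], [1, 0, 1], [1, 1, 0], [0, 1, 0, 1
  ], [0, 1, 1, 0], [1, 0, 1, 0], [1, 0, 1, 1], [1, 1, 0, 1], [0, 1, 0, 1, 0], [0, 1, 0, 1, 1
  ], [0, 1, 1, 0, 1], [1, 0, 1, 0, 1], [1, 0, 1, 1, 0], [1, 1, 0, 1, 0], [1, 1, 0, 1, 1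
  ], [0, 1, 0, 1, 0, 1], [0, 1, 0, 1, 1, 0], [0, 1, 1, 0, 1, 0], [0, 1, 1, 0, 1, 1
  ], [1, 0, 1, 0, 1, 0], [1, 0, 1, 0, 1, 1], [1, 0, 1, 1, 0, 1], [1, 1, 0, 1, 0, 1
  ], [1, 1, 0, 1, 1, 0], [0, 1, 0, 1, 0, 1, 0], [0, 1, 0, 1, 0, 1, 1], [0, 1, 0, 1, 1, 0, 1
  ], [0, 1, 1, 0, 1, 0, 1], [0, 1, 1, 0, 1, 1, 0], [1, 0, 1, 0, 1, 0, 1], [1, 0, 1, 0, 1, 1, 0
  ], [1, 0, 1, 1, 0, 1, 0], [1, 0, 1, 1, 0, 1, 1], [1, 1, 0, 1, 0, 1, 0], [1, 1, 0, 1, 0, 1, 1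
  ], [1, 1, 0, 1, 1, 0, 1], [0, 1, 0, 1, 0, 1, 0, 1], [0, 1, 0, 1, 0, 1, 1, 0
  ], [0, 1, 0, 1, 1, 0, 1, 0], [0, 1, 0, 1, 1, 0, 1, 1], [0, 1, 1, 0, 1, 0, 1, 0
  ], [0, 1, 1, 0, 1, 0, 1, 1], [0, 1, 1, 0, 1, 1, 0, 1], [1, 0, 1, 0, 1, 0, 1, 0
  ], [1, 0, 1, 0, 1, 0, 1, 1], [1, 0, 1, 0, 1, 1, 0, 1], [1, 0, 1, 1, 0, 1, 0, 1
  ], [1, 0, 1, 1, 0, 1, 1, 0], [1, 1, 0, 1, 0, 1, 0, 1], [1, 1, 0, 1, 0, 1, 1, 0
  ], [1, 1, 0, 1, 1, 0, 1, 0], [1, 1, 0, 1, 1, 0, 1, 1], [0, 1, 0, 1, 0, 1, 0, 1, 1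
  ], [0, 1, 0, 1, 0, 1, 1, 0, 1], [0, 1, 0, 1, 1, 0, 1, 0, 1], [0, 1, 0, 1, 1, 0, 1, 1, 0
  ], [0, 1, 1, 0, 1, 0, 1, 0, 1], [0, 1, 1, 0, 1, 0, 1, 1, 0], [0, 1, 1, 0, 1, 1, 0, 1, 0
  ], [1, 0, 1, 0, 1, 0, 1, 1, 0], [1, 0, 1, 0, 1, 1, 0, 1, 0], [1, 0, 1, 0, 1, 1, 0, 1, 1
  ], [1, 0, 1, 1, 0, 1, 0, 1, 0], [1, 0, 1, 1, 0, 1, 0, 1, 1], [1, 0, 1, 1, 0, 1, 1, 0, 1
  ], [1, 1, 0, 1, 0, 1, 0, 1, 0], [1, 1, 0, 1, 0, 1, 0, 1, 1], [1, 1, 0, 1, 0, 1, 1, 0, 1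
  ], [1, 1, 0, 1, 1, 0, 1, 0, 1], [0, 1, 0, 1, 0, 1, 0, 1, 1, 0], [0, 1, 0, 1, 0, 1, 1, 0, 1, 0
  ], [0, 1, 0, 1, 0, 1, 1, 0, 1, 1], [0, 1, 0, 1, 1, 0, 1, 0, 1, 0], [0, 1, 0, 1, 1, 0, 1, 0, 1, 1
  ], [0, 1, 0, 1, 1, 0, 1, 1, 0, 1], [0, 1, 1, 0, 1, 0, 1, 0, 1, 0], [0, 1, 1, 0, 1, 0, 1, 0, 1, 1
  ], [0, 1, 1, 0, 1, 0, 1, 1, 0, 1], [0, 1, 1, 0, 1, 1, 0, 1, 0, 1], [1, 0, 1, 0, 1, 0, 1, 1, 0, 1
  ], [1, 0, 1, 0, 1, 1, 0, 1, 0, 1], [1, 0, 1, 0, 1, 1, 0, 1, 1, 0], [1, 0, 1, 1, 0, 1, 0, 1, 0, 1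
  ], [1, 0, 1, 1, 0, 1, 1, 0, 1, 0], [1, 1, 0, 1, 0, 1, 0, 1, 1, 0], [1, 1, 0, 1, 0, 1, 1, 0, 1, 1
  ], [1, 1, 0, 1, 1, 0, 1, 0, 1, 0], [1, 1, 0, 1, 1, 0, 1, 0, 1, 1
  ], [0, 1, 0, 1, 0, 1, 0, 1, 1, 0, 1], [0, 1, 0, 1, 0, 1, 1, 0, 1, 0, 1
  ], [0, 1, 0, 1, 0, 1, 1, 0, 1, 1, 0], [0, 1, 0, 1, 1, 0, 1, 0, 1, 0, 1
  ], [0, 1, 0, 1, 1, 0, 1, 1, 0, 1, 0], [0, 1, 1, 0, 1, 0, 1, 0, 1, 1, 0
  ], [0, 1, 1, 0, 1, 0, 1, 1, 0, 1, 1], [0, 1, 1, 0, 1, 1, 0, 1, 0, 1, 0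
  ], [0, 1, 1, 0, 1, 1, 0, 1, 0, 1, 1], [1, 0, 1, 0, 1, 0, 1, 1, 0, 1, 0
  ], [1, 0, 1, 0, 1, 0, 1, 1, 0, 1, 1], [1, 0, 1, 0, 1, 1, 0, 1, 0, 1, 0
  ], [1, 0, 1, 0, 1, 1, 0, 1, 0, 1, 1], [1, 0, 1, 0, 1, 1, 0, 1, 1, 0, 1
  ], [1, 0, 1, 1, 0, 1, 0, 1, 0, 1, 0], [1, 0, 1, 1, 0, 1, 0, 1, 0, 1, 1
  ], [1, 0, 1, 1, 0, 1, 1, 0, 1, 0, 1], [1, 1, 0, 1, 0, 1, 0, 1, 1, 0, 1
  ], [1, 1, 0, 1, 0, 1, 1, 0, 1, 1, 0], [1, 1, 0, 1, 1, 0, 1, 0, 1, 0, 1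
  ], [0, 1, 0, 1, 0, 1, 0, 1, 1, 0, 1, 0], [0, 1, 0, 1, 0, 1, 0, 1, 1, 0, 1, 1
  ], [0, 1, 0, 1, 0, 1, 1, 0, 1, 0, 1, 0], [0, 1, 0, 1, 0, 1, 1, 0, 1, 0, 1, 1
  ], [0, 1, 0, 1, 0, 1, 1, 0, 1, 1, 0, 1], [0, 1, 0, 1, 1, 0, 1, 0, 1, 0, 1, 0
  ], [0, 1, 0, 1, 1, 0, 1, 0, 1, 0, 1, 1], [0, 1, 0, 1, 1, 0, 1, 1, 0, 1, 0, 1
  ], [0, 1, 1, 0, 1, 0, 1, 0, 1, 1, 0, 1], [0, 1, 1, 0, 1, 0, 1, 1, 0, 1, 1, 0
  ], [0, 1, 1, 0, 1, 1, 0, 1, 0, 1, 0, 1], [1, 0, 1, 0, 1, 0, 1, 1, 0, 1, 0, 1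
  ], [1, 0, 1, 0, 1, 0, 1, 1, 0, 1, 1, 0], [1, 0, 1, 0, 1, 1, 0, 1, 0, 1, 0, 1
  ], [1, 0, 1, 0, 1, 1, 0, 1, 1, 0, 1, 0], [1, 0, 1, 1, 0, 1, 0, 1, 0, 1, 1, 0
  ], [1, 0, 1, 1, 0, 1, 1, 0, 1, 0, 1, 0], [1, 0, 1, 1, 0, 1, 1, 0, 1, 0, 1, 1
  ], [1, 1, 0, 1, 0, 1, 0, 1, 1, 0, 1, 0], [1, 1, 0, 1, 0, 1, 0, 1, 1, 0, 1, 1
  ], [1, 1, 0, 1, 0, 1, 1, 0, 1, 1, 0, 1], [1, 1, 0, 1, 1, 0, 1, 0, 1, 0, 1, 0
  ], [1, 1, 0, 1, 1, 0, 1, 0, 1, 0, 1, 1], [0, 1, 0, 1, 0, 1, 0, 1, 1, 0, 1, 0, 1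
  ], [0, 1, 0, 1, 0, 1, 0, 1, 1, 0, 1, 1, 0], [0, 1, 0, 1, 0, 1, 1, 0, 1, 0, 1, 0, 1
  ], [0, 1, 0, 1, 0, 1, 1, 0, 1, 1, 0, 1, 0], [0, 1, 0, 1, 1, 0, 1, 0, 1, 0, 1, 1, 0
  ], [0, 1, 0, 1, 1, 0, 1, 1, 0, 1, 0, 1, 0], [0, 1, 0, 1, 1, 0, 1, 1, 0, 1, 0, 1, 1
  ], [0, 1, 1, 0, 1, 0, 1, 0, 1, 1, 0, 1, 0], [0, 1, 1, 0, 1, 0, 1, 0, 1, 1, 0, 1, 1
  ], [0, 1, 1, 0, 1, 0, 1, 1, 0, 1, 1, 0, 1], [0, 1, 1, 0, 1, 1, 0, 1, 0, 1, 0, 1, 0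
  ], [0, 1, 1, 0, 1, 1, 0, 1, 0, 1, 0, 1, 1], [1, 0, 1, 0, 1, 0, 1, 1, 0, 1, 0, 1, 0
  ], [1, 0, 1, 0, 1, 0, 1, 1, 0, 1, 0, 1, 1], [1, 0, 1, 0, 1, 1, 0, 1, 0, 1, 0, 1, 0
  ], [1, 0, 1, 0, 1, 1, 0, 1, 0, 1, 0, 1, 1], [1, 0, 1, 0, 1, 1, 0, 1, 1, 0, 1, 0, 1
  ], [1, 0, 1, 1, 0, 1, 0, 1, 0, 1, 1, 0, 1], [1, 1, 0, 1, 0, 1, 0, 1, 1, 0, 1, 0, 1
  ], [1, 1, 0, 1, 0, 1, 0, 1, 1, 0, 1, 1, 0], [1, 1, 0, 1, 0, 1, 1, 0, 1, 1, 0, 1, 0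
  ], [1, 1, 0, 1, 1, 0, 1, 0, 1, 0, 1, 1, 0], [0, 1, 0, 1, 0, 1, 0, 1, 1, 0, 1, 0, 1, 1
  ], [0, 1, 0, 1, 0, 1, 1, 0, 1, 1, 0, 1, 0, 1], [0, 1, 0, 1, 1, 0, 1, 0, 1, 0, 1, 1, 0, 1
  ], [0, 1, 1, 0, 1, 0, 1, 0, 1, 1, 0, 1, 1, 0], [0, 1, 1, 0, 1, 0, 1, 1, 0, 1, 1, 0, 1, 0
  ], [0, 1, 1, 0, 1, 1, 0, 1, 0, 1, 0, 1, 1, 0], [1, 0, 1, 1, 0, 1, 0, 1, 0, 1, 1, 0, 1, 0
  ], [0, 1, 0, 1, 1, 0, 1, 0, 1, 0, 1, 1, 0, 1, 0]]

/-- words in `b, wA, s0` for the point stabiliser -/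
def words24 : List (List Nat) :=
  [[], [0], [1], [2], [0, 0], [0, 1], [0, 2], [1, 0], [1, 2], [2, 0], [2, 1], [0, 0, 1], [0, 1, 0
  ], [0, 1, 2], [0, 2, 1], [1, 0, 0], [1, 0, 1], [1, 0, 2], [1, 2, 0], [1, 2, 1], [2, 1, 0
  ], [2, 1, 2], [0, 0, 1, 0], [0, 0, 1, 2]]

/-- the elementary subgroups of order eight of the second candidate, with five conjugators -/
def wTable : List (List Nat × List Nat) :=
  [([4210752, 4210754, 4210784, 4210786, 12775513, 12775515, 12775545, 12775547], [0, 1, 5, 6, 7]),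
  ([4210752, 4210754, 6713468, 6713470, 12775504, 12775506, 15523909, 15523911], [0, 1, 2, 3, 4]),
  ([4210752, 4210754, 6713437, 6713439, 12775504, 12775506, 15523940, 15523942], [0, 1, 2, 3, 4]),
  ([4210752, 4210754, 4210760, 4210762, 15523940, 15523942, 15523948, 15523950], [0, 1, 2, 3, 6]),
  ([4210752, 4210754, 4210760, 4210762, 15523909, 15523911, 15523917, 15523919], [0, 1, 2, 3, 6]),
  ([4210752, 4210754, 4210792, 4210794, 6713437, 6713439, 6713461, 6713463], [0, 1, 2, 3, 5]),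
  ([4210752, 4210754, 6713428, 6713430, 12775536, 12775538, 15523917, 15523919], [0, 1, 2, 3, 4]),
  ([4210752, 4210754, 6713468, 6713470, 12775545, 12775547, 15523948, 15523950], [0, 1, 2, 3, 4]),
  ([4210752, 4210754, 4210784, 4210786, 12775504, 12775506, 12775536, 12775538], [0, 1, 5, 6, 7]),
  ([4210752, 4210754, 4210792, 4210794, 6713428, 6713430, 6713468, 6713470], [0, 1, 2, 3, 5]),
  ([4210752, 4210754, 4210760, 4210762, 4210784, 4210786, 4210792, 4210794], []),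
  ([4210752, 4210754, 6713437, 6713439, 12775545, 12775547, 15523917, 15523919], [0, 1, 2, 3, 4]),
  ([4210752, 4210754, 6713461, 6713463, 12775536, 12775538, 15523948, 15523950], [0, 1, 2, 3, 4]),
  ([4210752, 4210754, 6713428, 6713430, 12775513, 12775515, 15523940, 15523942], [0, 1, 2, 3, 4]),
  ([4210752, 4210754, 6713461, 6713463, 12775513, 12775515, 15523909, 15523911], [0, 1, 2, 3, 4])]

/-- value of a word in coded generators -/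
def cdw (g : Nat → Nat) : List Nat → Nat
  | [] => vecX 0
  | i :: w => mulX (g i) (cdw g w)

/-- the coded generators `a, b` -/
def gAB : Nat → Nat
  | 0 => 64 * aP
  | _ => 64 * bP

/-- coded `b⁻¹` -/
def biX : Nat := mulX (64 * bP) (64 * bP)
/-- coded `wA` -/
def wAX : Nat :=
  mulX (mulX (mulX (mulX (mulX (mulX (mulX (mulX (64 * aP) biX) (64 * aP)) biX) (64 * aP))
    (64 * bP)) (64 * aP)) (64 * bP)) (64 * aP)
/-- coded `wB` -/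
def wBX : Nat := mulX (mulX biX wAX) (64 * bP)
/-- coded `s0` -/
def s0X : Nat :=
  mulX (mulX (mulX (mulX (mulX (mulX (mulX (mulX (mulX (mulX (mulX (64 * aP) (64 * bP)) (64 * aP))
    (64 * bP)) (64 * aP)) biX) (64 * aP)) (64 * bP)) (64 * aP)) (64 * bP)) (64 * aP)) biX

/-- the coded generators `b, wA, s0` -/
def gK : Nat → Nat
  | 0 => 64 * bP
  | 1 => wAX
  | _ => s0X

/-- the matrices of the complement -/
def mats168 : List Nat := words168.map fun w => cdw gAB w / 64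
/-- the matrices of the point stabiliser -/
def mats24 : List Nat := words24.map fun w => cdw gK w / 64

/-- the vectors of `R ∩ A` -/
def a16 : List Nat := (List.range 64).filter fun v => v / 4 % 2 == 0 && v / 16 % 2 == 0
/-- the vectors of `V` -/
def vV : List Nat := (List.range 64).filter fun v => v % 2 == 0 && v / 4 % 2 == 0 && v / 16 % 2 == 0

/-- translates of the four matrices of `R` -/
def rList (reps : List Nat) : List Nat := reps.flatMap fun r => a16.map fun q => mulX (vecX q) r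

/-- the elements `v2 * wA`, its conjugate by `b⁻¹`, and their product -/
def reps1 : List Nat :=
  let r1 := mulX (vecX 4) wAX
  let r2 := mulX (mulX biX r1) (64 * bP)
  [vecX 0, r1, r2, mulX r1 r2]

/-- the conjugators and their inverses -/
def conjX : List (Nat × Nat) :=
  [(vecX 0, vecX 0), (mulX (vecX 4) s0X, mulX s0X (vecX 12)), (vecX 16, vecX 48),
   (mulX s0X (vecX 4), mulX (vecX 12) s0X), (vecX 4, vecX 12), (64 * bP, biX), (biX, 64 * bP),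
   (mulX (vecX 4) biX, mulX (64 * bP) (vecX 12))]

/-- image of a coded element under the `i`-th conjugator -/
def imgX (i x : Nat) : Nat :=
  mulX (mulX (conjX.getD i (0, 0)).1 x) (conjX.getD i (0, 0)).2

/-- the eight products of `t, r, q` -/
def eight (r q : Nat) : List Nat :=
  let T := vecX 2
  [vecX 0, T, r, q, mulX T r, mulX T q, mulX r q, mulX T (mulX r q)]

/-- membership of all elements -/
def subL (l m : List Nat) : Bool := l.all fun x => m.contains x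

/-- a row of the table gives five different conjugates -/
def rowOk (row : List Nat × List Nat) : Bool :=
  subL row.1 (vV.map vecX) ||
    (row.2.length == 5 && row.2.all (fun i => decide (i < 8)) &&
      decide (row.2.Pairwise fun i j => subL (row.1.map (imgX i)) (row.1.map (imgX j)) = false))

/-- every pair of commuting involutions generating, with `t`, a group of order eight is listed -/
def pairOk (r q : Nat) : Bool :=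
  !(mulX r r == vecX 0 && mulX q q == vecX 0 && mulX r q == mulX q r) ||
    (eight r q).Nodup == false ||
    wTable.any fun row => subL row.1 (eight r q) && subL (eight r q) row.1

theorem mats168_ok : mats168.Nodup ∧ mats168.length = 168 ∧
    (words168.all fun w => cdw gAB w % 64 == 0) = true := by decide +kernel

theorem mats24_ok : mats24.Nodup ∧ mats24.length = 24 ∧
    (words24.all fun w => cdw gK w % 64 == 0) = true := by decide +kernel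

theorem stab_ok : (mats168.all fun P => !(app P 2 == 2) || mats24.contains P) = true := by
  decide +kernel

theorem gens_stab :
    ([vecX 1, vecX 4, vecX 16, 64 * bP, wAX, s0X].all
      fun x => mulX x (vecX 2) == mulX (vecX 2) x) = true := by decide +kernel

theorem image_ok : (mats24.all fun P =>
    !(mulP P P == idP && mulP (mulP P (mulP (mulP bP P) (mulP bP bP)))
        (mulP P (mulP (mulP bP P) (mulP bP bP))) == idP) ||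
      [idP, wAX / 64, wBX / 64, mulP (wAX / 64) (wBX / 64)].contains P) = true := by decide +kernel

theorem kernel_ok : ((List.range 64).all fun v =>
    !(mulX (vecX v) (vecX v) == vecX 0 || mulX (vecX v) (vecX v) == vecX 2) ||
      a16.contains v) = true := by decide +kernel

theorem even_ok : ((List.range 64).all fun v =>
    !(mulX (vecX v) (vecX v) == vecX 0) || vV.contains v) = true := by decide +kernel

theorem shift_ok : ((List.range 64).all fun v =>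
    let x := v + 64 * (wAX / 64)
    !(mulX x x == vecX 0 || mulX x x == vecX 2) ||
      a16.any fun q => vadd q v == 0 || vadd q v == 4) = true := by decide +kernel

theorem cy_ok : ((rList [vecX 0, wAX, wBX, mulX wAX wBX]).all fun x =>
    !(mulX x x == vecX 2 && mulX x wAX == mulX wAX x && mulX x wBX == mulX wBX x &&
        mulX x (vecX 8) == mulX (vecX 8) x && mulX x (vecX 32) == mulX (vecX 32) x) ||
      x == vecX 1 || x == vecX 3) = true := by decide +kernel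

theorem small_ok : a16.length = 16 ∧ vV.length = 8 ∧ wAX % 64 = 0 ∧ wBX % 64 = 0 ∧ s0X % 64 = 0 ∧
    mulX wAX wAX = vecX 0 := by decide +kernel

theorem table_ok : wTable.all rowOk = true := by decide +kernel

theorem pairs_ok :
    ((rList reps1).all fun r => (rList reps1).all fun q => pairOk r q) = true := by decide +kernel

end Cfsg.Agent.HSRecog81
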