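import Cfsg.Agent.Lib.HSFrame28
import Cfsg.Agent.Lib.HSRecog81Code

/-!
Elements of `M = A : L₃(2)` in a frame are determined by their codes.
-/

set_option autoImplicit false
set_option linter.style.haveILetI false

namespace Cfsg.Agent.HSRecog81

open Subgroup
open Cfsg.Agent.HSFrame28

variable {G : Type*} [Group G]

/-- the core element of a coded vector -/
def ev (c v2 v3 : G) (n : Nat) : G := c ^ (n % 4) * v2 ^ (n / 4 % 4) * v3 ^ (n / 16 % 4)

/-- `g = e(v) l` with `l` in the complement acting by the matrix `P`, coded by `x = v + 64 P` -/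
def Rep (c v2 v3 a b : G) (g : G) (x : Nat) : Prop :=
  ∃ l ∈ closure ({a, b} : Set G), g = ev c v2 v3 (x % 64) * l ∧
    l * c * l⁻¹ = ev c v2 v3 (col0 (x / 64)) ∧ l * v2 * l⁻¹ = ev c v2 v3 (col1 (x / 64)) ∧
    l * v3 * l⁻¹ = ev c v2 v3 (col2 (x / 64)) ∧ col2 (x / 64) < 64

theorem digits {x y z : Nat} (hx : x < 4) (hy : y < 4) (hz : z < 4) :
    (x + 4 * y + 16 * z) % 4 = x ∧ (x + 4 * y + 16 * z) / 4 % 4 = y ∧
      (x + 4 * y + 16 * z) / 16 % 4 = z := by
  omega

theorem vadd_lt (n m : Nat) : vadd n m < 64 := by unfold vadd; omega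

theorem app_lt (P n : Nat) : app P n < 64 := vadd_lt _ _

theorem cdw_lt (g : Nat → Nat) (hg : ∀ i, g i / 64 / 4096 < 64) :
    ∀ w, cdw g w / 64 / 4096 < 64
  | [] => by simp [cdw, vecX, idP]
  | i :: w => by
      have h1 := vadd_lt (g i % 64) (app (g i / 64) (cdw g w % 64))
      have h2 := app_lt (g i / 64) (col0 (cdw g w / 64))
      have h3 := app_lt (g i / 64) (col1 (cdw g w / 64))
      have h4 := app_lt (g i / 64) (col2 (cdw g w / 64))
      simp only [cdw, mulX, mulP]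
      omega

variable [Finite G] {t : G} {M : Subgroup G} {c v2 v3 a b : G} (F : MFrame t M c v2 v3 a b)
include F

local notation "e" => ev c v2 v3
local notation "Rp" => Rep c v2 v3 a b

theorem pow_mod4 {g : G} (hg : g ^ 4 = 1) (n : Nat) : g ^ (n % 4) = g ^ n := by
  conv_rhs => rw [← Nat.div_add_mod n 4, pow_add, pow_mul, hg, one_pow, one_mul]

theorem ev_add (n m : Nat) : e (vadd n m) = e n * e m := by
  have h1 : Commute c v2 := F.comm_c_v2
  have h2 : Commute c v3 := F.comm_c_v3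
  have h3 : Commute v2 v3 := F.comm_v2_v3
  obtain ⟨d0, d1, d2⟩ : vadd n m % 4 = (n % 4 + m % 4) % 4 ∧
      vadd n m / 4 % 4 = (n / 4 % 4 + m / 4 % 4) % 4 ∧
      vadd n m / 16 % 4 = (n / 16 % 4 + m / 16 % 4) % 4 :=
    digits (Nat.mod_lt _ (by norm_num)) (Nat.mod_lt _ (by norm_num)) (Nat.mod_lt _ (by norm_num))
  simp only [ev, d0, d1, d2, pow_mod4 F F.c_four (n % 4 + m % 4),
    pow_mod4 F F.v2_four (n / 4 % 4 + m / 4 % 4), pow_mod4 F F.v3_four (n / 16 % 4 + m / 16 % 4),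
    pow_add]
  generalize n % 4 = i, m % 4 = i', n / 4 % 4 = j, m / 4 % 4 = j', n / 16 % 4 = k, m / 16 % 4 = k'
  have a1 : Commute (v3 ^ k) (c ^ i' * v2 ^ j') :=
    ((h2.pow_pow i' k).symm).mul_right (h3.pow_pow j' k).symm
  have a2 : Commute (v2 ^ j) (c ^ i') := (h1.pow_pow i' j).symm
  calc c ^ i * c ^ i' * (v2 ^ j * v2 ^ j') * (v3 ^ k * v3 ^ k')
      = c ^ i * (c ^ i' * v2 ^ j) * v2 ^ j' * v3 ^ k * v3 ^ k' := by group
    _ = c ^ i * (v2 ^ j * c ^ i') * v2 ^ j' * v3 ^ k * v3 ^ k' := by rw [a2.eq]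
    _ = c ^ i * v2 ^ j * ((c ^ i' * v2 ^ j') * v3 ^ k) * v3 ^ k' := by group
    _ = c ^ i * v2 ^ j * (v3 ^ k * (c ^ i' * v2 ^ j')) * v3 ^ k' := by rw [← a1.eq]
    _ = _ := by group

theorem ev_vsm (k n : Nat) : e (vsm k n) = e n ^ k := by
  obtain ⟨d0, d1, d2⟩ : vsm k n % 4 = (k * (n % 4)) % 4 ∧
      vsm k n / 4 % 4 = (k * (n / 4 % 4)) % 4 ∧ vsm k n / 16 % 4 = (k * (n / 16 % 4)) % 4 :=
    digits (Nat.mod_lt _ (by norm_num)) (Nat.mod_lt _ (by norm_num)) (Nat.mod_lt _ (by norm_num))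
  have h1 : Commute c v2 := F.comm_c_v2
  have h2 : Commute c v3 := F.comm_c_v3
  have h3 : Commute v2 v3 := F.comm_v2_v3
  simp only [ev, d0, d1, d2]
  rw [pow_mod4 F F.c_four (k * (n % 4)), pow_mod4 F F.v2_four (k * (n / 4 % 4)),
    pow_mod4 F F.v3_four (k * (n / 16 % 4))]
  rw [((h2.pow_pow _ _).mul_left (h3.pow_pow _ _)).mul_pow, (h1.pow_pow _ _).mul_pow, ← pow_mul,
    ← pow_mul, ← pow_mul, mul_comm (n % 4), mul_comm (n / 4 % 4), mul_comm (n / 16 % 4)]

theorem ev_zero : e 0 = 1 := by simp [ev]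
theorem ev_one : e 1 = c := by simp [ev]
theorem ev_four : e 4 = v2 := by simp [ev]
theorem ev_sixteen : e 16 = v3 := by simp [ev]

theorem ev_mem (n : Nat) : e n ∈ closure ({c, v2, v3} : Set G) :=
  mul_mem (mul_mem (pow_mem (subset_closure (by simp)) _) (pow_mem (subset_closure (by simp)) _))
    (pow_mem (subset_closure (by simp)) _)

theorem ev_surj {g : G} (hg : g ∈ closure ({c, v2, v3} : Set G)) : ∃ n < 64, e n = g := by
  induction hg using closure_induction with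
  | mem x hx =>
      rcases hx with rfl | rfl | rfl
      · exact ⟨1, by norm_num, ev_one F⟩
      · exact ⟨4, by norm_num, ev_four F⟩
      · exact ⟨16, by norm_num, ev_sixteen F⟩
  | one => exact ⟨0, by norm_num, ev_zero F⟩
  | mul x y _ _ hx hy =>
      obtain ⟨n, -, rfl⟩ := hx
      obtain ⟨m, -, rfl⟩ := hy
      exact ⟨vadd n m, vadd_lt n m, ev_add F n m⟩
  | inv x _ hx =>
      obtain ⟨n, -, rfl⟩ := hx
      refine ⟨vsm 3 n, by unfold vsm; omega, ?_⟩
      rw [ev_vsm F]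
      refine eq_inv_of_mul_eq_one_left ?_
      rw [← pow_succ, ← ev_vsm F, show vsm (3 + 1) n = 0 by unfold vsm; omega, ev_zero F]

theorem ev_inj {n m : Nat} (hn : n < 64) (hm : m < 64) (h : e n = e m) : n = m := by
  have hs : Function.Surjective
      (fun i : Fin 64 => (⟨e i, ev_mem F i⟩ : closure ({c, v2, v3} : Set G))) := fun g => by
    obtain ⟨i, hi, he⟩ := ev_surj F g.2
    exact ⟨⟨i, hi⟩, Subtype.ext he⟩
  have hb : Function.Bijective
      (fun i : Fin 64 => (⟨e i, ev_mem F i⟩ : closure ({c, v2, v3} : Set G))) :=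
    (Nat.bijective_iff_surjective_and_card _).2 ⟨hs, by rw [F.card_core, Nat.card_fin]⟩
  exact congrArg Fin.val (hb.1 (a₁ := ⟨n, hn⟩) (a₂ := ⟨m, hm⟩) (Subtype.ext h))

theorem conj_ev {l : G} {P : Nat} (h0 : l * c * l⁻¹ = e (col0 P)) (h1 : l * v2 * l⁻¹ = e (col1 P))
    (h2 : l * v3 * l⁻¹ = e (col2 P)) (n : Nat) : l * e n * l⁻¹ = e (app P n) := by
  rw [app, ev_add F, ev_add F, ev_vsm F, ev_vsm F, ev_vsm F, ← h0, ← h1, ← h2, conj_pow, conj_pow,
    conj_pow]
  simp only [ev]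
  group

theorem rep_mul {g h : G} {x y : Nat} (hg : Rp g x) (hh : Rp h y) : Rp (g * h) (mulX x y) := by
  obtain ⟨l, hl, rfl, a0, a1, a2, -⟩ := hg
  obtain ⟨k, hk, rfl, b0, b1, b2, -⟩ := hh
  have hv := vadd_lt (x % 64) (app (x / 64) (y % 64))
  have d0 : mulX x y % 64 = vadd (x % 64) (app (x / 64) (y % 64)) := by unfold mulX; omega
  have dP : mulX x y / 64 = mulP (x / 64) (y / 64) := by unfold mulX; omega
  have p0 := app_lt (x / 64) (col0 (y / 64))
  have p1 := app_lt (x / 64) (col1 (y / 64))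
  have p2 := app_lt (x / 64) (col2 (y / 64))
  have e0 : col0 (mulP (x / 64) (y / 64)) = app (x / 64) (col0 (y / 64)) := by
    unfold mulP; rw [col0]; omega
  have e1 : col1 (mulP (x / 64) (y / 64)) = app (x / 64) (col1 (y / 64)) := by
    unfold mulP; rw [col1]; omega
  have e2 : col2 (mulP (x / 64) (y / 64)) = app (x / 64) (col2 (y / 64)) := by
    unfold mulP; rw [col2]; omega
  refine ⟨l * k, mul_mem hl hk, ?_, ?_, ?_, ?_, ?_⟩
  · rw [d0, ev_add F, ← conj_ev F a0 a1 a2]; group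
  · rw [dP, e0, ← conj_ev F a0 a1 a2, ← b0]; group
  · rw [dP, e1, ← conj_ev F a0 a1 a2, ← b1]; group
  · rw [dP, e2, ← conj_ev F a0 a1 a2, ← b2]; group
  · rw [dP, e2]; exact p2

theorem rep_vec (n : Nat) (hn : n < 64) : Rp (e n) (vecX n) := by
  have h0 : vecX n % 64 = n := by unfold vecX idP; omega
  have hP : vecX n / 64 = idP := by unfold vecX idP; omega
  refine ⟨1, one_mem _, by rw [h0, mul_one], ?_⟩
  rw [hP]
  refine ⟨?_, ?_, ?_, by decide⟩
  · rw [show col0 idP = 1 by decide, ev_one F]; group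
  · rw [show col1 idP = 4 by decide, ev_four F]; group
  · rw [show col2 idP = 16 by decide, ev_sixteen F]; group

theorem rep_one : Rp (1 : G) (vecX 0) := ev_zero F ▸ rep_vec F 0 (by norm_num)

theorem rep_t : Rp t (vecX 2) := by
  have h : e 2 = t := by simp [ev, F.c_sq]
  exact h ▸ rep_vec F 2 (by norm_num)

theorem rep_a : Rp a (64 * aP) := by
  have h0 : 64 * aP % 64 = 0 := by decide
  refine ⟨a, subset_closure (by simp), by rw [h0, ev_zero F, one_mul], ?_⟩
  rw [show 64 * aP / 64 = aP by decide, show col0 aP = 16 by decide, show col1 aP = 12 by decide,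
    show col2 aP = 1 by decide, ev_one F, ev_sixteen F, F.a_c, F.a_v2, F.a_v3]
  refine ⟨rfl, ?_, rfl, by decide⟩
  simp only [ev]
  norm_num
  exact inv_eq_of_mul_eq_one_left (by rw [← pow_succ]; exact F.v2_four)

theorem rep_b : Rp b (64 * bP) := by
  have h0 : 64 * bP % 64 = 0 := by decide
  refine ⟨b, subset_closure (by simp), by rw [h0, ev_zero F, one_mul], ?_⟩
  rw [show 64 * bP / 64 = bP by decide, show col0 bP = 1 by decide, show col1 bP = 28 by decide,
    show col2 bP = 13 by decide, ev_one F, F.b_c, F.b_v2, F.b_v3]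
  have h3 : v2⁻¹ = v2 ^ 3 := inv_eq_of_mul_eq_one_left (by rw [← pow_succ]; exact F.v2_four)
  refine ⟨rfl, ?_, ?_, by decide⟩ <;> simp [ev, h3]

theorem rep_bi : Rp b⁻¹ biX := by
  have h : b⁻¹ = b * b := inv_eq_of_mul_eq_one_left (by rw [← pow_two, ← pow_succ]; exact F.b_three)
  rw [h]
  exact rep_mul F (rep_b F) (rep_b F)

theorem rep_wA : Rp (wA a b) wAX := by
  have A := rep_a F
  have B := rep_b F
  have Bi := rep_bi F
  exact rep_mul F (rep_mul F (rep_mul F (rep_mul F (rep_mul F (rep_mul F (rep_mul F (rep_mul F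
    A Bi) A) Bi) A) B) A) B) A

theorem rep_wB : Rp (wB a b) wBX := rep_mul F (rep_mul F (rep_bi F) (rep_wA F)) (rep_b F)

theorem rep_s0 : Rp (s0 a b) s0X := by
  have A := rep_a F
  have B := rep_b F
  have Bi := rep_bi F
  exact rep_mul F (rep_mul F (rep_mul F (rep_mul F (rep_mul F (rep_mul F (rep_mul F (rep_mul F
    (rep_mul F (rep_mul F (rep_mul F A B) A) B) A) Bi) A) B) A) B) A) Bi

/-- the value of a word -/
def evw (g : Nat → G) : List Nat → G
  | [] => 1
  | i :: w => g i * evw g w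

omit F in
theorem evw_mem {S : Subgroup G} {g : Nat → G} (hg : ∀ i, g i ∈ S) : ∀ w, evw g w ∈ S
  | [] => one_mem S
  | i :: w => mul_mem (hg i) (evw_mem hg w)

theorem rep_evw {g : Nat → G} {gx : Nat → Nat} (hg : ∀ i, Rp (g i) (gx i)) :
    ∀ w, Rp (evw g w) (cdw gx w)
  | [] => rep_one F
  | i :: w => rep_mul F (hg i) (rep_evw hg w)

theorem col_lt {P : Nat} : col0 P < 64 ∧ col1 P < 64 := by unfold col0 col1; omega

theorem code_unique {g : G} {x y : Nat} (hx : Rp g x) (hy : Rp g y) : x = y := by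
  obtain ⟨l, hl, rfl, a0, a1, a2, a3⟩ := hx
  obtain ⟨k, hk, h, b0, b1, b2, b3⟩ := hy
  have hmem : (e (y % 64))⁻¹ * e (x % 64) ∈
      closure ({a, b} : Set G) ⊓ closure ({c, v2, v3} : Set G) := by
    refine Subgroup.mem_inf.2 ⟨?_, mul_mem (inv_mem (ev_mem F _)) (ev_mem F _)⟩
    have : (e (y % 64))⁻¹ * e (x % 64) = k * l⁻¹ := by
      rw [eq_mul_inv_iff_mul_eq, mul_assoc, h, inv_mul_cancel_left]
    rw [this]
    exact mul_mem hk (inv_mem hl)
  rw [F.disj, mem_bot] at hmem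
  have hv : e (x % 64) = e (y % 64) := (eq_inv_of_mul_eq_one_right hmem).trans (inv_inv _)
  rw [hv] at h
  obtain rfl := mul_left_cancel h
  have hc := col_lt F (P := x / 64)
  have hc' := col_lt F (P := y / 64)
  have q0 := ev_inj F hc.1 hc'.1 (a0.symm.trans b0)
  have q1 := ev_inj F hc.2 hc'.2 (a1.symm.trans b1)
  have q2 := ev_inj F a3 b3 (a2.symm.trans b2)
  have qv := ev_inj F (Nat.mod_lt x (by norm_num)) (Nat.mod_lt y (by norm_num)) hv
  unfold col0 col1 col2 at *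
  omega

/-- the generators `a, b` -/
def gABe (a b : G) : Nat → G
  | 0 => a
  | _ => b

theorem rep_gAB : ∀ i, Rp (gABe a b i) (gAB i)
  | 0 => rep_a F
  | _ + 1 => rep_b F

theorem compl_words {l : G} (hl : l ∈ closure ({a, b} : Set G)) :
    ∃ w ∈ words168, l = evw (gABe a b) w := by
  classical
  obtain ⟨hnd, hlen, -⟩ := mats168_ok
  have hmem : ∀ w, evw (gABe a b) w ∈ closure ({a, b} : Set G) := fun w => by
    refine evw_mem (fun i => ?_) w
    match i with
    | 0 => exact subset_closure (by simp [gABe])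
    | _ + 1 => exact subset_closure (by simp [gABe])
  have hlen' : words168.length = 168 := by rw [← List.length_map]; exact hlen
  let f : Fin 168 → closure ({a, b} : Set G) := fun i =>
    ⟨evw (gABe a b) (words168[i.val]'(hlen'.symm ▸ i.2)), hmem _⟩
  have hf : Function.Injective f := fun i j h => by
    have h1 := code_unique F (rep_evw F (rep_gAB F) (words168[i.val]'(hlen'.symm ▸ i.2)))
      (by
        have h2 : evw (gABe a b) (words168[i.val]'(hlen'.symm ▸ i.2)) =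
          evw (gABe a b) (words168[j.val]'(hlen'.symm ▸ j.2)) := congrArg Subtype.val h
        rw [h2]
        exact rep_evw F (rep_gAB F) _)
    apply Fin.ext
    refine (hnd.getElem_inj_iff (i := i.val) (j := j.val) (hi := hlen.symm ▸ i.2)
      (hj := hlen.symm ▸ j.2)).1 ?_
    simp only [mats168, List.getElem_map, h1]
  obtain ⟨i, hi⟩ := ((Nat.bijective_iff_injective_and_card f).2
    ⟨hf, by rw [F.card_compl, Nat.card_fin]⟩).2 ⟨l, hl⟩
  exact ⟨_, List.getElem_mem _, (congrArg Subtype.val hi).symm⟩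

theorem rep_fun {g h : G} {x : Nat} (hg : Rp g x) (hh : Rp h x) : g = h := by
  obtain ⟨l, hl, rfl, a0, a1, a2, a3⟩ := hg
  obtain ⟨k, hk, rfl, b0, b1, b2, -⟩ := hh
  suffices l = k by rw [this]
  obtain ⟨hnd, -, h0⟩ := mats168_ok
  have key : ∀ m ∈ closure ({a, b} : Set G), m * c * m⁻¹ = e (col0 (x / 64)) →
      m * v2 * m⁻¹ = e (col1 (x / 64)) → m * v3 * m⁻¹ = e (col2 (x / 64)) →
      ∃ w ∈ words168, m = evw (gABe a b) w ∧ cdw gAB w / 64 = x / 64 := by
    intro m hm m0 m1 m2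
    obtain ⟨w, hw, rfl⟩ := compl_words F hm
    have hz : cdw gAB w % 64 = 0 := by simpa using (List.all_eq_true.1 h0) w hw
    have hRm : Rp (evw (gABe a b) w) (64 * (x / 64)) := by
      refine ⟨_, hm, ?_⟩
      rw [show 64 * (x / 64) % 64 = 0 by omega, show 64 * (x / 64) / 64 = x / 64 by omega,
        ev_zero F, one_mul]
      exact ⟨rfl, m0, m1, m2, a3⟩
    have := code_unique F (rep_evw F (rep_gAB F) w) hRm
    exact ⟨w, hw, rfl, by omega⟩
  obtain ⟨w, hw, rfl, hwx⟩ := key l hl a0 a1 a2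
  obtain ⟨w', hw', rfl, hwx'⟩ := key k hk b0 b1 b2
  rw [List.inj_on_of_nodup_map hnd hw hw' (hwx.trans hwx'.symm)]

/-- every element of `M` has a code with matrix among the 168 -/
theorem rep_exists {g : G} (hg : g ∈ M) : ∃ x, Rp g x ∧ x / 64 ∈ mats168 := by
  have hM : ∀ g ∈ M, ∃ x, Rp g x := by
    intro g hg
    rw [F.gen, ← mem_toSubmonoid, closure_toSubmonoid_of_finite] at hg
    induction hg using Submonoid.closure_induction with
    | mem y hy =>
        rcases hy with rfl | rfl | rfl | rfl | rfl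
        · exact ⟨_, ev_one F ▸ rep_vec F 1 (by norm_num)⟩
        · exact ⟨_, ev_four F ▸ rep_vec F 4 (by norm_num)⟩
        · exact ⟨_, ev_sixteen F ▸ rep_vec F 16 (by norm_num)⟩
        · exact ⟨_, rep_a F⟩
        · exact ⟨_, rep_b F⟩
    | one => exact ⟨_, rep_one F⟩
    | mul p q _ _ hp hq =>
        obtain ⟨x, hx⟩ := hp
        obtain ⟨y, hy⟩ := hq
        exact ⟨_, rep_mul F hx hy⟩
  obtain ⟨x, hx⟩ := hM g hg
  obtain ⟨l, hl, hgl, a0, a1, a2, a3⟩ := hx
  refine ⟨x, ⟨l, hl, hgl, a0, a1, a2, a3⟩, ?_⟩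
  obtain ⟨w, hw, hlw⟩ := compl_words F hl
  have h0 : cdw gAB w % 64 = 0 := by simpa using (List.all_eq_true.1 mats168_ok.2.2) w hw
  have hR : Rp l (64 * (x / 64)) := by
    refine ⟨l, hl, ?_⟩
    rw [show 64 * (x / 64) % 64 = 0 by omega, show 64 * (x / 64) / 64 = x / 64 by omega,
      ev_zero F, one_mul]
    exact ⟨rfl, a0, a1, a2, a3⟩
  have := code_unique F (hlw ▸ rep_evw F (rep_gAB F) w) hR
  exact List.mem_map.2 ⟨w, hw, by omega⟩

end Cfsg.Agent.HSRecog81
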