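import Cfsg.Agent.Lib.HSRecog81Model
import Cfsg.Agent.Lib.ComponentsCores

/-!
The position of the two-core of the involution centraliser inside `M = A : L₃(2)`: of the two
possibilities compatible with the squares, one gives the eight-group too many conjugates.
-/

set_option autoImplicit false
set_option linter.style.haveILetI false

namespace Cfsg.Agent.HSRecog81

open Subgroup
open Cfsg.Agent.HSFrame28

variable {G : Type*} [Group G] [Finite G] {t : G} {H R Cy E V M : Subgroup G}

omit [Finite G] in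
/-- In a commutative group of exponent two the eight products of three independent elements are
distinct. -/
theorem eight_nodup {W : Type*} [CommGroup W] (sq : ∀ x : W, x * x = 1) {u r q : W} (hu : u ≠ 1)
    (hr : r ≠ 1) (hru : r ≠ u) (hq : q ≠ 1) (hqu : q ≠ u) (hqr : q ≠ r) (hqur : q ≠ u * r) :
    [1, u, r, q, u * r, u * q, r * q, u * (r * q)].Nodup := by
  have sq' : ∀ x z : W, x * (x * z) = z := fun x z => by rw [← mul_assoc, sq, one_mul]
  have ne : ∀ x y : W, x * y ≠ 1 → x ≠ y := fun x y h h' => h (h' ▸ sq y)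
  have e1 : u * r ≠ 1 := fun h => hru (by rw [← sq' u r, h, mul_one])
  have e2 : u * q ≠ 1 := fun h => hqu (by rw [← sq' u q, h, mul_one])
  have e3 : r * q ≠ 1 := fun h => hqr (by rw [← sq' r q, h, mul_one])
  have e4 : u * (r * q) ≠ 1 := fun h => hqur (by
    rw [← sq' r q, show r * q = u by rw [← sq' u (r * q), h, mul_one], mul_comm])
  simp only [List.nodup_cons, List.mem_cons, List.not_mem_nil, or_false, not_or,
    List.nodup_nil, and_true, not_false_eq_true]
  repeat' constructor
  all_goals apply ne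
  all_goals simp_all [mul_comm, mul_left_comm, mul_assoc]

/-- the conjugate of a subgroup -/
def cj (g : G) (K : Subgroup G) : Subgroup G := K.map (MulAut.conj g).toMonoidHom

omit [Finite G] in
theorem cj_cj (g h : G) (K : Subgroup G) : cj g (cj h K) = cj (g * h) K := by
  rw [cj, cj, cj, map_map]
  congr 1
  ext x
  simp [mul_assoc]

omit [Finite G] in
theorem mem_cj {g x : G} {K : Subgroup G} : x ∈ cj g K ↔ g⁻¹ * x * g ∈ K := by
  constructor
  · rintro ⟨y, hy, rfl⟩
    simpa [mul_assoc] using hy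
  · exact fun h => ⟨_, h, by simp [mul_assoc]⟩

omit [Finite G] in
theorem cj_normalizer {g : G} {K : Subgroup G} :
    g ∈ normalizer (K : Set G) ↔ cj g K = K := by
  constructor
  · intro h
    ext x
    rw [mem_cj]
    have := (mem_normalizer_iff.1 (inv_mem h)) x
    simpa using this.symm
  · intro h
    rw [mem_normalizer_iff]
    intro x
    conv_rhs => rw [← h]
    rw [mem_cj]
    simp [mul_assoc]

omit [Finite G] in
theorem cj_inj {g : G} {K L : Subgroup G} (h : cj g K = cj g L) : K = L := by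
  ext x
  have := SetLike.ext_iff.1 h (g * x * g⁻¹)
  simpa [mem_cj, mul_assoc] using this

open Classical in
/-- The second candidate for the two-core gives the eight-group too many conjugates. -/
theorem no_second {c v2 v3 a b : G} (F : MFrame t M c v2 v3 a b) (hM : M = normalizer (V : Set G))
    (hV8 : Nat.card V = 8) (hV2 : ∀ v ∈ V, v ^ 2 = 1) (hVc : IsMulCommutative V)
    (hVR : V ≤ R) (htV : t ∈ V) (ht1 : t ≠ 1)
    (hVmem : ∀ n ∈ vV, ev c v2 v3 n ∈ V) (hRn : ∀ g ∈ H, ∀ r ∈ R, g * r * g⁻¹ ∈ R)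
    (hHt : ∀ g ∈ H, g * t = t * g)
    (hlist : ∀ r ∈ R, ∃ x ∈ rList reps1, Rep c v2 v3 a b r x)
    (hgen : ({c, v2, v3, b, s0 a b} : Set G) ⊆ ↑(H ⊓ M))
    (hHcard : Nat.card H ≤ 7680) (hMH : 1536 ≤ Nat.card (H ⊓ M : Subgroup G))
    (hout : ∃ g ∈ H, g ∉ M) : False := by
  haveI : Fintype H := Fintype.ofFinite H
  set C : Finset (Subgroup G) := Finset.univ.image fun h : H => cj (h : G) V with hC
  have hC5 : C.card ≤ 5 := by
    have h := Finset.mul_card_image_le_card (f := fun h : H => cj (h : G) V) Finset.univ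
      (Nat.card (H ⊓ M : Subgroup G)) fun K hK => by
        obtain ⟨h0, -, rfl⟩ := Finset.mem_image.1 hK
        haveI : Fintype (H ⊓ M : Subgroup G) := Fintype.ofFinite _
        rw [Nat.card_eq_fintype_card, ← Finset.card_univ]
        refine Finset.card_le_card_of_injOn
          (fun m => h0 * ⟨m.1, (mem_inf.1 m.2).1⟩) ?_ ?_
        · intro m _
          refine Finset.mem_filter.2 ⟨Finset.mem_univ _, ?_⟩
          show cj ((h0 : G) * m) V = _
          rw [← cj_cj]
          exact congrArg (cj _) (cj_normalizer.1 (hM.le (mem_inf.1 m.2).2))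
        · intro p _ q _ hpq
          have h' := congrArg Subtype.val hpq
          exact Subtype.ext (mul_left_cancel h')
    rw [Finset.card_univ, ← Nat.card_eq_fintype_card, ← hC] at h
    nlinarith
  obtain ⟨g, hgH, hgM⟩ := hout
  set W := cj g V with hW
  have hWV : W ≠ V := fun h => hgM (hM ▸ cj_normalizer.2 h)
  have hWR : W ≤ R := by
    rintro _ ⟨v, hv, rfl⟩
    exact hRn g hgH v (hVR hv)
  have htW : t ∈ W := ⟨t, htV, by
    show g * t * g⁻¹ = t
    rw [hHt g hgH, mul_inv_cancel_right]⟩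
  have hW2 : ∀ w : W, w * w = 1 := by
    rintro ⟨_, v, hv, rfl⟩
    apply Subtype.ext
    simp only [Subgroup.coe_mul, OneMemClass.coe_one, ← map_mul]
    rw [← pow_two, hV2 v hv, map_one]
  have hW8 : Nat.card W = 8 := by
    rw [← hV8]
    exact (Nat.card_congr (V.equivMapOfInjective _ (MulEquiv.injective _)).toEquiv).symm
  haveI : IsMulCommutative V := hVc
  haveI : IsMulCommutative W := by unfold W cj; infer_instance
  letI : CommGroup W := { (inferInstance : Group W) with mul_comm := fun x y => mul_comm' x y }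
  haveI : Fintype W := Fintype.ofFinite W
  set u : W := ⟨t, htW⟩
  have hu : u ≠ 1 := fun h => ht1 (congrArg Subtype.val h)
  have hlt : ∀ s : Finset W, s.card < 8 → ∃ w, w ∉ s := fun s hs => by
    obtain ⟨w, -, hw⟩ := Finset.exists_mem_notMem_of_card_lt_card (s := s) (t := Finset.univ)
      (by rw [Finset.card_univ, ← Nat.card_eq_fintype_card, hW8]; exact hs)
    exact ⟨w, hw⟩
  obtain ⟨r, hr⟩ := hlt {1, u} (Finset.card_le_two.trans_lt (by norm_num))
  obtain ⟨q, hq⟩ := hlt {1, u, r, u * r} (Finset.card_le_four.trans_lt (by norm_num))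
  simp only [Finset.mem_insert, Finset.mem_singleton, not_or] at hr hq
  have hnd := eight_nodup hW2 hu hr.1 hr.2 hq.1 hq.2.1 hq.2.2.1 hq.2.2.2
  have hall : ∀ w : W, w ∈ [1, u, r, q, u * r, u * q, r * q, u * (r * q)] := fun w => by
    have h := Finset.eq_univ_of_card _ ((List.toFinset_card_of_nodup hnd).trans
      (show 8 = Fintype.card W by rw [← Nat.card_eq_fintype_card, hW8]))
    exact List.mem_toFinset.1 (h ▸ Finset.mem_univ w)
  obtain ⟨xr, hxrl, hxr⟩ := hlist r (hWR r.2)
  obtain ⟨xq, hxql, hxq⟩ := hlist q (hWR q.2)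
  have code : ∀ {g : G} {x y : Nat}, Rep c v2 v3 a b g x → Rep c v2 v3 a b g y → x = y :=
    fun hx hy => code_unique F hx hy
  have h8 : List.Forall₂ (fun (w : W) x => Rep c v2 v3 a b (w : G) x)
      [1, u, r, q, u * r, u * q, r * q, u * (r * q)] (eight xr xq) := by
    have T := rep_t F
    exact .cons (rep_one F) (.cons T (.cons hxr (.cons hxq (.cons (rep_mul F T hxr)
      (.cons (rep_mul F T hxq) (.cons (rep_mul F hxr hxq)
        (.cons (rep_mul F T (rep_mul F hxr hxq)) .nil)))))))
  have hnd8 : (eight xr xq).Nodup := by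
    rw [List.nodup_iff_pairwise_ne, List.pairwise_iff_getElem] at hnd ⊢
    revert h8
    generalize eight xr xq = E8
    intro h8
    obtain ⟨hlen, hget⟩ := List.forall₂_iff_get.1 h8
    intro i j hi hj hij he
    refine hnd i j (hlen ▸ hi) (hlen ▸ hj) hij (Subtype.ext ?_)
    have h1 := hget i (hlen ▸ hi) hi
    have h2 := hget j (hlen ▸ hj) hj
    simp only [List.get_eq_getElem] at h1 h2
    rw [← he] at h2
    exact rep_fun F h1 h2
  have sqx : ∀ {w : W} {x : Nat}, Rep c v2 v3 a b (w : G) x → mulX x x = vecX 0 := fun {w x} hx =>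
    code (rep_mul F hx hx) (by
      rw [← Subgroup.coe_mul, hW2 w]
      exact rep_one F)
  have hcomm : mulX xr xq = mulX xq xr :=
    code (rep_mul F hxr hxq) (by
      rw [← Subgroup.coe_mul, mul_comm r q, Subgroup.coe_mul]
      exact rep_mul F hxq hxr)
  have hp := (List.all_eq_true.1 ((List.all_eq_true.1 pairs_ok) _ hxrl)) _ hxql
  obtain ⟨row, hrow, h1, h2⟩ : ∃ row ∈ wTable, subL row.1 (eight xr xq) = true ∧
      subL (eight xr xq) row.1 = true := by
    simpa [pairOk, sqx hxr, sqx hxq, hcomm, hnd8] using hp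
  simp only [subL, List.all_eq_true, List.contains_iff_mem] at h1 h2
  revert h8 h1 h2
  generalize eight xr xq = E8
  intro h8 h1 h2
  have hin : ∀ x ∈ row.1, ∃ w : W, Rep c v2 v3 a b (w : G) x := by
    intro x hx
    obtain ⟨i, hi, rfl⟩ := List.mem_iff_getElem.1 (h1 x hx)
    obtain ⟨hlen, hget⟩ := List.forall₂_iff_get.1 h8
    exact ⟨_, hget i (hlen ▸ hi) hi⟩
  have hout' : ∀ w : W, ∃ x ∈ row.1, Rep c v2 v3 a b (w : G) x := by
    intro w
    obtain ⟨i, hi, rfl⟩ := List.mem_iff_getElem.1 (hall w)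
    obtain ⟨hlen, hget⟩ := List.forall₂_iff_get.1 h8
    exact ⟨_, h2 _ (List.getElem_mem (hlen ▸ hi)), hget i hi (hlen ▸ hi)⟩
  have hok := List.all_eq_true.1 table_ok row hrow
  simp only [rowOk, Bool.or_eq_true, Bool.and_eq_true, beq_iff_eq, decide_eq_true_eq,
    List.all_eq_true] at hok
  rcases hok with hok | ⟨⟨hlen5, hlt8⟩, hpw⟩
  · simp only [subL, List.all_eq_true, List.contains_iff_mem, List.mem_map] at hok
    refine hWV (Subgroup.eq_of_le_of_card_ge (fun w hw => ?_) (by rw [hV8, hW8]))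
    obtain ⟨x, hx, hxw⟩ := hout' ⟨w, hw⟩
    obtain ⟨n, hn, rfl⟩ := hok x hx
    have hnl : n < 64 := List.mem_range.1 (List.mem_of_mem_filter hn)
    have h : w = ev c v2 v3 n := rep_fun F hxw (rep_vec F n hnl)
    exact h ▸ hVmem n hn
  have hev : ∀ n, ev c v2 v3 n ∈ H ⊓ M := fun n =>
    mul_mem (mul_mem (pow_mem (hgen (by simp)) _) (pow_mem (hgen (by simp)) _))
      (pow_mem (hgen (by simp)) _)
  have hb : b ∈ H ⊓ M := hgen (by simp)
  have hs : s0 a b ∈ H ⊓ M := hgen (by simp)
  have hκ : ∀ i < 8, ∃ k : G, k ∈ H ⊓ M ∧ Rep c v2 v3 a b k (conjX.getD i (0, 0)).1 ∧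
      Rep c v2 v3 a b k⁻¹ (conjX.getD i (0, 0)).2 := by
    have inv : ∀ {k k' : G} {p q : Nat}, Rep c v2 v3 a b k p → Rep c v2 v3 a b k' q →
        mulX p q = vecX 0 → k ∈ H ⊓ M →
        ∃ k : G, k ∈ H ⊓ M ∧ Rep c v2 v3 a b k p ∧ Rep c v2 v3 a b k⁻¹ q := by
      intro k k' p q hk hk' hpq hkm
      refine ⟨k, hkm, hk, ?_⟩
      have h : k * k' = 1 := rep_fun F (hpq ▸ rep_mul F hk hk') (rep_one F)
      rwa [inv_eq_of_mul_eq_one_right h]
    have B := rep_b F
    have Bi := rep_bi F
    have S0 := rep_s0 F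
    intro i hi
    interval_cases i
    · exact inv (rep_one F) (rep_one F) (by decide +kernel) (one_mem _)
    · exact inv (rep_mul F (rep_vec F 4 (by norm_num)) S0)
        (rep_mul F S0 (rep_vec F 12 (by norm_num))) (by decide +kernel) (mul_mem (hev 4) hs)
    · exact inv (rep_vec F 16 (by norm_num)) (rep_vec F 48 (by norm_num)) (by decide +kernel)
        (hev 16)
    · exact inv (rep_mul F S0 (rep_vec F 4 (by norm_num)))
        (rep_mul F (rep_vec F 12 (by norm_num)) S0) (by decide +kernel) (mul_mem hs (hev 4))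
    · exact inv (rep_vec F 4 (by norm_num)) (rep_vec F 12 (by norm_num)) (by decide +kernel) (hev 4)
    · exact inv B Bi (by decide +kernel) hb
    · exact inv Bi B (by decide +kernel) (inv_mem hb)
    · exact inv (rep_mul F (rep_vec F 4 (by norm_num)) Bi)
        (rep_mul F B (rep_vec F 12 (by norm_num))) (by decide +kernel)
        (mul_mem (hev 4) (inv_mem hb))
  choose! κ hκm hκp hκi using hκ
  have himg : ∀ i < 8, ∀ {w : G} {x : Nat}, Rep c v2 v3 a b w x →
      Rep c v2 v3 a b (κ i * w * (κ i)⁻¹) (imgX i x) :=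
    fun i hi w x hx => rep_mul F (rep_mul F (hκp i hi) hx) (hκi i hi)
  set L : List (Subgroup G) := row.2.map fun i => cj (κ i) W with hL
  have hLnd : L.Nodup := by
    rw [hL, List.nodup_iff_pairwise_ne, List.pairwise_map]
    refine hpw.imp_of_mem fun {i j} hi hj hij he => ?_
    have hi8 : i < 8 := hlt8 i hi
    have hj8 : j < 8 := hlt8 j hj
    have : subL (row.1.map (imgX i)) (row.1.map (imgX j)) = true := by
      simp only [subL, List.all_eq_true, List.contains_iff_mem, List.mem_map]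
      rintro _ ⟨x, hx, rfl⟩
      obtain ⟨w, hw⟩ := hin x hx
      obtain ⟨w', hw', hwe⟩ := (he ▸ (⟨w, w.2, rfl⟩ : κ i * w * (κ i)⁻¹ ∈ cj (κ i) W) :
        κ i * w * (κ i)⁻¹ ∈ cj (κ j) W)
      obtain ⟨x', hx', hx'w⟩ := hout' ⟨w', hw'⟩
      have hwe' : κ j * w' * (κ j)⁻¹ = κ i * w * (κ i)⁻¹ := hwe
      exact ⟨x', hx', code (hwe' ▸ himg j hj8 hx'w) (himg i hi8 hw)⟩
    rw [this] at hij
    exact Bool.noConfusion hij
  have hVL : V ∉ L := by
    intro h
    obtain ⟨i, hi, he⟩ := List.mem_map.1 h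
    have hk := cj_normalizer.1 (hM ▸ (mem_inf.1 (hκm i (hlt8 i hi))).2 :
      κ i ∈ normalizer (V : Set G))
    exact hWV (cj_inj (he.trans hk.symm))
  have hsub : (V :: L).toFinset ⊆ C := by
    intro K hK
    rcases List.mem_cons.1 (List.mem_toFinset.1 hK) with rfl | hK
    · exact Finset.mem_image.2 ⟨1, Finset.mem_univ _, cj_normalizer.1 (one_mem _)⟩
    · obtain ⟨i, hi, rfl⟩ := List.mem_map.1 hK
      exact Finset.mem_image.2 ⟨⟨κ i * g, mul_mem (mem_inf.1 (hκm i (hlt8 i hi))).1 hgH⟩,
        Finset.mem_univ _, (cj_cj _ _ _).symm⟩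
  have := (Finset.card_le_card hsub).trans hC5
  rw [List.toFinset_card_of_nodup (List.nodup_cons.2 ⟨hVL, hLnd⟩), List.length_cons, hL,
    List.length_map, hlen5] at this
  omega

/-- Elementary facts on the two-core of the centraliser. -/
theorem core_facts (S : Setting t H R Cy E V M) :
    (∀ r ∈ R, r * r = 1 ∨ r * r = t) ∧ t ∈ R ∧ 64 ≤ Nat.card R ∧
      ∃ y ∈ R, Cy = zpowers y ∧ y * y = t ∧ ∀ r ∈ R, Commute y r := by
  classical
  obtain ⟨y, hy⟩ := isCyclic_iff_exists_zpowers_eq_top.1 S.hCy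
  have hCy : Cy = zpowers (y : G) := by
    ext g
    constructor
    · intro hg
      have h0 : (⟨g, hg⟩ : Cy) ∈ zpowers y := hy ▸ mem_top _
      obtain ⟨i, hi⟩ := h0
      exact ⟨i, congrArg Subtype.val hi⟩
    · rintro ⟨i, rfl⟩
      exact zpow_mem y.2 i
  have hy4 : orderOf (y : G) = 4 := by
    rw [← Nat.card_zpowers, ← hCy, S.hCycard]
  have hyR : (y : G) ∈ R := (mem_inf.1 (S.hCyle y.2)).1
  have hyc : ∀ r ∈ R, Commute (y : G) r := fun r hr =>
    (mem_centralizer_iff.1 (mem_inf.1 (S.hCyle y.2)).2 r hr).symm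
  -- the centre of `E`
  set Z := center E
  have hZc : Nat.card Z = 2 := S.hEex.2
  have hZE : ∀ e : E, (e : G) ∈ Cy → e ∈ Z := by
    intro e he
    refine Subgroup.mem_center_iff.2 fun f => Subtype.ext ?_
    have h : (e : G) ∈ E ⊓ centralizer (E : Set G) := S.hmeet ▸ mem_inf.2 ⟨he, e.2⟩
    exact mem_centralizer_iff.1 (mem_inf.1 h).2 f f.2
  have hZy : ∀ e : E, e ∈ Z → (e : G) = 1 ∨ (e : G) = (y : G) * y := by
    intro e he
    have h : (e : G) ∈ Cy ⊓ E := by
      rw [S.hmeet]
      exact mem_inf.2 ⟨e.2, mem_centralizer_iff.2 fun f hf =>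
        congrArg Subtype.val (Subgroup.mem_center_iff.1 he ⟨f, hf⟩)⟩
    have he2 : (e : G) * e = 1 := by
      have h1 : (⟨e, he⟩ : Z) ^ Nat.card Z = 1 := pow_card_eq_one'
      rw [hZc, pow_two] at h1
      exact congrArg (fun z : Z => ((z : E) : G)) h1
    obtain ⟨n, hn⟩ := mem_powers_iff_mem_zpowers.2 (hCy ▸ (mem_inf.1 h).1 : (e : G) ∈ zpowers (y : G))
    simp only at hn
    rw [← hn, ← pow_add, ← orderOf_dvd_iff_pow_eq_one, hy4] at he2
    obtain ⟨j, rfl⟩ : 2 ∣ n := by omega
    rw [← hn]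
    rcases Nat.even_or_odd j with ⟨i, rfl⟩ | ⟨i, rfl⟩
    · left
      rw [show 2 * (i + i) = 4 * i by omega, pow_mul, ← hy4, pow_orderOf_eq_one, one_pow]
    · right
      rw [show 2 * (2 * i + 1) = 4 * i + 2 by omega, pow_add, pow_mul, ← hy4, pow_orderOf_eq_one,
        one_pow, one_mul, pow_two]
  have hder : ∀ e f : E, e * f * e⁻¹ * f⁻¹ ∈ Z := fun e f => by
    rw [show Z = _root_.commutator E from S.hEex.1.2.2.symm, ← commutatorElement_def,
      _root_.commutator_def]
    exact commutator_mem_commutator (mem_top _) (mem_top _)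
  have hsqZ : ∀ e : E, e * e ∈ Z := by
    intro e
    refine Subgroup.mem_center_iff.2 fun f => ?_
    set k := e * f * e⁻¹ * f⁻¹ with hk
    have hkc := Subgroup.mem_center_iff.1 (hder e f)
    have hk2 : k * k = 1 := by
      have h1 : (⟨k, hder e f⟩ : Z) ^ Nat.card Z = 1 := pow_card_eq_one'
      rw [hZc, pow_two] at h1
      exact congrArg Subtype.val h1
    have h2 : e * f = k * f * e := by rw [hk]; group
    symm
    calc e * e * f = e * (e * f) := mul_assoc _ _ _
      _ = e * k * f * e := by rw [h2]; simp only [mul_assoc]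
      _ = k * (e * f) * e := by rw [hkc e]; simp only [hk, mul_assoc]
      _ = k * k * f * e * e := by rw [h2]; simp only [mul_assoc]
      _ = f * (e * e) := by rw [hk2, one_mul, mul_assoc]
  -- every element of `R` is `y^n e`
  have hdec : ∀ r ∈ R, ∃ n : ℕ, ∃ e : E, r = (y : G) ^ n * e := by
    intro r hr
    rw [← S.hprod, ← SetLike.mem_coe, coe_mul_of_left_le_normalizer_right Cy E] at hr
    · obtain ⟨p, hp, q, hq, rfl⟩ := Set.mem_mul.1 hr
      obtain ⟨n, hn⟩ := mem_powers_iff_mem_zpowers.2 (hCy ▸ hp : p ∈ zpowers (y : G))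
      exact ⟨n, ⟨q, hq⟩, by rw [← hn]⟩
    · intro p hp
      exact (centralizer_le (S.hEle)).trans (centralizer_le_normalizer _) (mem_inf.1 (S.hCyle hp)).2
  have hyy : (y : G) * y ≠ 1 := by
    rw [← pow_two]
    exact pow_ne_one_of_lt_orderOf (by norm_num) (by rw [hy4]; norm_num)
  have hyy4 : ((y : G) * y) * ((y : G) * y) = 1 := by
    rw [← pow_two (y : G), ← pow_add, show 2 + 2 = 4 from rfl, ← hy4, pow_orderOf_eq_one]
  have hsq : ∀ r ∈ R, r * r = 1 ∨ r * r = (y : G) * y := by
    intro r hr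
    obtain ⟨n, e, rfl⟩ := hdec r hr
    have hc : Commute ((y : G) ^ n) e := (hyc e (S.hEle e.2)).pow_left n
    rw [hc.symm.mul_mul_mul_comm, ← pow_add, ← two_mul, pow_mul, pow_two (y : G)]
    have h1 : ((y : G) * y) ^ n = 1 ∨ ((y : G) * y) ^ n = (y : G) * y := by
      rcases Nat.even_or_odd n with ⟨i, rfl⟩ | ⟨i, rfl⟩
      · left; rw [← two_mul, pow_mul, pow_two, hyy4, one_pow]
      · right; rw [pow_succ, pow_mul, pow_two, hyy4, one_pow, one_mul]
    rcases h1 with h1 | h1 <;> rcases hZy _ (hsqZ e) with h2 | h2 <;>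
      rw [Subgroup.coe_mul] at h2 <;> rw [h1, h2]
    · left; rw [one_mul]
    · right; rw [one_mul]
    · right; rw [mul_one]
    · left; exact hyy4
  have htR : t ∈ R := by
    rw [S.hR]
    have htH : t ∈ H := by rw [S.hH]; exact mem_centralizer_singleton_iff.2 rfl
    haveI : (zpowers (⟨t, htH⟩ : H)).Normal := ⟨fun n hn g => by
      obtain ⟨i, rfl⟩ := hn
      have hc : Commute (g : G) t := mem_centralizer_singleton_iff.1 (S.hH ▸ g.2)
      have : g * (⟨t, htH⟩ : H) ^ i * g⁻¹ = (⟨t, htH⟩ : H) ^ i := by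
        apply Subtype.ext
        simp only [Subgroup.coe_mul, SubgroupClass.coe_zpow, InvMemClass.coe_inv]
        rw [(hc.zpow_right i).eq, mul_inv_cancel_right]
      exact this ▸ ⟨i, rfl⟩⟩
    refine ⟨⟨t, htH⟩, ComponentsCores.le_pCore' (p := 2) ?_ (mem_zpowers _), rfl⟩
    refine IsPGroup.of_card (n := 1) ?_
    rw [Nat.card_zpowers, pow_one, ← S.ht]
    exact (Subgroup.orderOf_mk t htH)
  have hyt : (y : G) * y = t := by
    obtain ⟨n, e, hne⟩ := hdec t htR
    have hcomm : ∀ f : E, Commute t (f : G) := fun f => by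
      have : (f : G) ∈ H := by
        have h := S.hEle f.2
        rw [S.hR] at h
        exact map_subtype_le _ h
      exact (mem_centralizer_singleton_iff.1 (S.hH ▸ this) : (f : G) * t = t * f).symm
    have heZ : e ∈ Z := Subgroup.mem_center_iff.2 fun f => by
      have h1 : Commute ((y : G) ^ n) f := (hyc f (S.hEle f.2)).pow_left n
      have h2 : Commute (f : G) e := by
        have := ((hcomm f).symm.mul_right (Commute.refl _ |>.mul_right (Commute.refl _)))
        have h3 : (e : G) = ((y : G) ^ n)⁻¹ * t := by rw [hne, inv_mul_cancel_left]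
        rw [h3]
        exact h1.symm.inv_right.mul_right (hcomm f).symm
      exact Subtype.ext h2.eq
    have hts : t * t = 1 := by rw [← pow_two, ← S.ht, pow_orderOf_eq_one]
    have ht1 : t ≠ 1 := fun h => by
      have := S.ht
      rw [h, orderOf_one] at this
      norm_num at this
    obtain ⟨i, hi⟩ : ∃ i : ℕ, t = (y : G) ^ i := by
      rcases hZy e heZ with h | h <;> rw [hne, h]
      · exact ⟨n, mul_one _⟩
      · exact ⟨n + 2, by rw [pow_add, pow_two]⟩
    rw [hi, ← pow_add, ← orderOf_dvd_iff_pow_eq_one, hy4] at hts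
    obtain ⟨j, rfl⟩ : 2 ∣ i := by omega
    rw [pow_mul, pow_two] at hi
    rcases Nat.even_or_odd j with ⟨k, rfl⟩ | ⟨k, rfl⟩
    · exact absurd (hi.trans (by rw [← two_mul, pow_mul, pow_two, hyy4, one_pow])) ht1
    · rw [hi, pow_succ, pow_mul, pow_two ((y : G) * y), hyy4, one_pow, one_mul]
  refine ⟨hyt ▸ hsq, htR, ?_, y, hyR, hCy, hyt, hyc⟩
  let f : Bool × E → R := fun p => ⟨(if p.1 then (y : G) else 1) * p.2, by
    refine mul_mem ?_ (S.hEle p.2.2)
    split
    · exact hyR
    · exact one_mem R⟩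
  have hyE : (y : G) ∉ E := fun h => by
    rcases hZy ⟨y, h⟩ (hZE ⟨y, h⟩ y.2) with h1 | h1 <;> simp only at h1
    · exact hyy (by rw [h1, one_mul])
    · exact hyy (by
        have h2 : (y : G) = 1 := mul_eq_left.1 h1.symm
        rw [h2, one_mul])
  have hf : Function.Injective f := by
    rintro ⟨i, p⟩ ⟨j, q⟩ h
    have h1 := congrArg Subtype.val h
    simp only [f] at h1
    cases i <;> cases j <;> simp only [Bool.false_eq_true, if_false, if_true, one_mul] at h1
    · rw [Subtype.ext h1]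
    · exact absurd (by rw [eq_mul_inv_of_mul_eq h1.symm]; exact mul_mem p.2 (inv_mem q.2)) hyE
    · exact absurd (by rw [eq_mul_inv_of_mul_eq h1]; exact mul_mem q.2 (inv_mem p.2)) hyE
    · rw [Subtype.ext (mul_left_cancel h1)]
  have := Nat.card_le_card_of_injective f hf
  rw [Nat.card_prod, S.hEcard] at this
  simpa using this

/-- The two-core in the frame. -/
theorem rFrame_of_mFrame {c v2 v3 a b : G} (S : Setting t H R Cy E V M)
    (F : MFrame t M c v2 v3 a b) : ∃ a', RFrame t M R Cy c v2 v3 a' b := by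
  classical
  obtain ⟨hRsq, htR, hRcard, y, hyR, hCy, hyt, hyc⟩ := core_facts S
  refine ⟨a, ?_⟩
  let Rp := Rep c v2 v3 a b
  have code : ∀ {g : G} {x y : Nat}, Rp g x → Rp g y → x = y := fun hx hy => code_unique F hx hy
  have elt : ∀ {g h : G} {x : Nat}, Rp g x → Rp h x → g = h := fun hg hh => rep_fun F hg hh
  have T := rep_t F
  have ht2 : t * t = 1 := by rw [← pow_two, ← S.ht, pow_orderOf_eq_one]
  have hcM : c ∈ M := by rw [F.gen]; exact subset_closure (by simp)
  have hbM : b ∈ M := by rw [F.gen]; exact subset_closure (by simp)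
  have hAM : ∀ n, ev c v2 v3 n ∈ M := fun n => by
    rw [F.gen]
    exact (Subgroup.closure_mono (by
      intro x hx
      rcases hx with rfl | rfl | rfl <;> simp)) (ev_mem F n)
  have hLM : closure ({a, b} : Set G) ≤ M := by
    rw [F.gen]
    exact Subgroup.closure_mono (by intro x hx; rcases hx with rfl | rfl <;> simp)
  -- centraliser of `t` in `M`
  set K0 : Subgroup G := closure ({c, v2, v3, b, wA a b, s0 a b} : Set G) with hK0
  have hK0t : ∀ g ∈ K0, g * t = t * g ∧ g ∈ M := by
    intro g hg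
    induction hg using closure_induction with
    | mem x hx =>
        have hall := List.all_eq_true.1 gens_stab
        have key : ∀ {x : G} {n : Nat}, Rp x n → n ∈ [vecX 1, vecX 4, vecX 16, 64 * bP, wAX, s0X] →
            x * t = t * x := fun hx hn =>
          elt (rep_mul F hx T) ((beq_iff_eq.1 (hall _ hn)).symm ▸ rep_mul F T hx)
        have hwM : wA a b ∈ M ∧ s0 a b ∈ M := by
          have ha : a ∈ M := hLM (subset_closure (by simp))
          unfold wA s0
          constructor <;> (repeat' apply mul_mem) <;> first | exact ha | exact hbM | exact inv_mem hbM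
        rcases hx with rfl | rfl | rfl | rfl | rfl | rfl
        · exact ⟨key (ev_one F ▸ rep_vec F 1 (by norm_num)) (by simp), hcM⟩
        · exact ⟨key (ev_four F ▸ rep_vec F 4 (by norm_num)) (by simp), ev_four F ▸ hAM 4⟩
        · exact ⟨key (ev_sixteen F ▸ rep_vec F 16 (by norm_num)) (by simp), ev_sixteen F ▸ hAM 16⟩
        · exact ⟨key (rep_b F) (by simp), hbM⟩
        · exact ⟨key (rep_wA F) (by simp), hwM.1⟩
        · exact ⟨key (rep_s0 F) (by simp), hwM.2⟩
    | one => exact ⟨by rw [one_mul, mul_one], one_mem M⟩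
    | mul p q _ _ hp hq => exact ⟨(Commute.mul_left hp.1 hq.1).eq, mul_mem hp.2 hq.2⟩
    | inv p _ hp => exact ⟨(Commute.inv_left hp.1).eq, inv_mem hp.2⟩
  have hevK : ∀ n, ev c v2 v3 n ∈ K0 := fun n =>
    (Subgroup.closure_mono (by intro x hx; rcases hx with rfl | rfl | rfl <;> simp)) (ev_mem F n)
  let gKe : Nat → G := fun i => match i with
    | 0 => b
    | 1 => wA a b
    | _ => s0 a b
  have repK : ∀ i, Rp (gKe i) (gK i) := fun i => match i with
    | 0 => rep_b F
    | 1 => rep_wA F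
    | _ + 2 => rep_s0 F
  have gKmem : ∀ i, gKe i ∈ K0 := fun i => match i with
    | 0 => subset_closure (by simp [gKe])
    | 1 => subset_closure (by simp [gKe])
    | _ + 2 => subset_closure (by simp [gKe])
  -- codes of the centraliser
  have hcode : ∀ g ∈ M, g * t = t * g → ∃ x, Rp g x ∧ x / 64 ∈ mats24 ∧ g ∈ K0 := by
    intro g hg hgt
    obtain ⟨x, ⟨l, hl, hgl, a0, a1, a2, a3⟩, hP⟩ := rep_exists F hg
    have hlt : l * t * l⁻¹ = t := by
      have h1 : Commute (ev c v2 v3 (x % 64)) t := (hK0t _ (hevK _)).1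
      have h2 : Commute l t := by
        have : l = (ev c v2 v3 (x % 64))⁻¹ * g := by rw [hgl, inv_mul_cancel_left]
        rw [this]
        exact h1.inv_left.mul_left hgt
      rw [h2.eq, mul_inv_cancel_right]
    have h2e : ev c v2 v3 2 = t := by simp [ev, F.c_sq]
    have happ : app (x / 64) 2 = 2 := by
      rw [← h2e, conj_ev F a0 a1 a2] at hlt
      exact ev_inj F (app_lt _ _) (by norm_num) hlt
    have hmem : x / 64 ∈ mats24 := by
      have := (List.all_eq_true.1 stab_ok) _ hP
      simpa [happ] using this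
    refine ⟨x, ⟨l, hl, hgl, a0, a1, a2, a3⟩, hmem, ?_⟩
    obtain ⟨w, hw, hwx⟩ := List.mem_map.1 hmem
    have h0 : cdw gK w % 64 = 0 := by simpa using (List.all_eq_true.1 mats24_ok.2.2) w hw
    have hx : mulX (vecX (x % 64)) (cdw gK w) = x := by
      refine code (rep_mul F (rep_vec F _ (Nat.mod_lt _ (by norm_num)))
        (rep_evw F repK w)) ⟨l, hl, ?_, a0, a1, a2, a3⟩
      have hl' : l = evw gKe w := elt (x := cdw gK w)
        ⟨l, hl, by rw [h0, ev_zero F, one_mul], by rw [hwx]; exact a0, by rw [hwx]; exact a1,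
          by rw [hwx]; exact a2, by rw [hwx]; exact a3⟩ (rep_evw F repK w)
      rw [← hl']
    have : g = ev c v2 v3 (x % 64) * evw gKe w := by
      refine elt (x := x) ⟨l, hl, hgl, a0, a1, a2, a3⟩ ?_
      have h := rep_mul F (rep_vec F _ (Nat.mod_lt x (by norm_num))) (rep_evw F repK w)
      rwa [hx] at h
    rw [this]
    exact mul_mem (hevK _) (evw_mem gKmem w)
  -- `V` and `R`
  set A := closure ({c, v2, v3} : Set G) with hA
  have hvV : ∀ v ∈ V, ∃ n ∈ vV, ev c v2 v3 n = v := by
    intro v hv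
    have hle : V ≤ M := S.hM ▸ le_normalizer
    haveI : (V.subgroupOf M).Normal := by
      have h := S.hM
      subst h
      exact normal_in_normalizer
    have hvA : v ∈ A := by
      rw [hA, ← F.core]
      refine ⟨⟨v, hle hv⟩, ComponentsCores.le_pCore' (p := 2) ?_ (mem_subgroupOf.2 hv), rfl⟩
      intro q
      exact ⟨1, Subtype.ext (Subtype.ext (by simpa using S.hVexp _ q.2))⟩
    obtain ⟨n, hn, rfl⟩ := ev_surj F hvA
    refine ⟨n, ?_, rfl⟩
    have h := (List.all_eq_true.1 even_ok) n (List.mem_range.2 hn)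
    have hz : mulX (vecX n) (vecX n) = vecX 0 := by
      refine code (rep_mul F (rep_vec F n hn) (rep_vec F n hn)) ?_
      rw [← pow_two, S.hVexp _ hv]
      exact rep_one F
    simpa [hz] using h
  have hVmem : ∀ n ∈ vV, ev c v2 v3 n ∈ V := by
    choose f hf hfe using fun v : V => hvV v v.2
    have hinj : Function.Injective (fun v : V => (⟨f v, by simpa using hf v⟩ : {n // n ∈ vV})) :=
      fun p q h => Subtype.ext (by rw [← hfe p, ← hfe q, show f p = f q from congrArg Subtype.val h])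
    have hcard : Nat.card {n // n ∈ vV} ≤ Nat.card V := by
      rw [S.hVcard]
      have h8 := small_ok.2.1
      calc Nat.card {n // n ∈ vV} = vV.toFinset.card := by
            rw [Nat.card_congr (Equiv.subtypeEquivRight (fun n => (List.mem_toFinset).symm)),
              Nat.card_eq_fintype_card, Fintype.card_coe]
        _ ≤ vV.length := List.toFinset_card_le _
        _ = 8 := h8
    haveI : Finite {n // n ∈ vV} := by
      exact Set.Finite.to_subtype (List.finite_toSet vV)
    intro n hn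
    obtain ⟨v, hv⟩ := (hinj.bijective_of_nat_card_le hcard).2 ⟨n, hn⟩
    have : f v = n := congrArg Subtype.val hv
    rw [← this, hfe]
    exact v.2
  have htV : t ∈ V := by
    have := hVmem 2 (by decide)
    simpa [ev, F.c_sq] using this
  have hRH : R ≤ H := by rw [S.hR]; exact map_subtype_le _
  have hRt : ∀ r ∈ R, r * t = t * r := fun r hr =>
    mem_centralizer_singleton_iff.1 (S.hH ▸ hRH hr)
  have hRM : R ≤ M := by
    intro r hr
    have hcon : ∀ r ∈ R, ∀ v ∈ V, r * v * r⁻¹ ∈ V := by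
      intro r hr v hv
      have hvR := S.hVR hv
      have e : r * v * r⁻¹ = r * r * (r⁻¹ * v * (r⁻¹ * v)) * (v * v)⁻¹ * v := by group
      rw [e]
      have sq : ∀ q ∈ R, q * q ∈ V := fun q hq => by
        rcases hRsq q hq with h | h <;> rw [h]
        exacts [one_mem V, htV]
      exact mul_mem (mul_mem (mul_mem (sq r hr) (sq _ (mul_mem (inv_mem hr) hvR)))
        (inv_mem (sq v hvR))) hv
    rw [S.hM, mem_normalizer_iff]
    refine fun v => ⟨hcon r hr v, fun h => ?_⟩
    have := hcon r⁻¹ (inv_mem hr) _ h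
    simpa [mul_assoc] using this
  have hRn : ∀ g ∈ H, ∀ r ∈ R, g * r * g⁻¹ ∈ R := by
    intro g hg r hr
    rw [S.hR] at hr ⊢
    obtain ⟨q, hq, rfl⟩ := hr
    exact ⟨⟨g, hg⟩ * q * ⟨g, hg⟩⁻¹, Normal.conj_mem inferInstance q hq _, rfl⟩
  have hKH : K0 ≤ H := fun g hg => by
    rw [S.hH]; exact mem_centralizer_singleton_iff.2 (hK0t g hg).1
  have repSq : ∀ {r : G} {x : Nat}, r ∈ R → Rp r x →
      mulX x x = vecX 0 ∨ mulX x x = vecX 2 := by
    intro r x hr hx
    rcases hRsq r hr with h | h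
    · exact Or.inl (code (rep_mul F hx hx) (h ▸ rep_one F))
    · exact Or.inr (code (rep_mul F hx hx) (h ▸ T))
  have sqP : ∀ {x : Nat}, mulX x x = vecX 0 ∨ mulX x x = vecX 2 → mulP (x / 64) (x / 64) = idP := by
    intro x h
    have h1 : mulX x x / 64 = mulP (x / 64) (x / 64) := by
      have := vadd_lt (x % 64) (app (x / 64) (x % 64))
      unfold mulX; omega
    rcases h with h | h <;> rw [← h1, h] <;> decide
  set P4 := [idP, wAX / 64, wBX / 64, mulP (wAX / 64) (wBX / 64)] with hP4
  have hR4 : ∀ r ∈ R, ∃ x, Rp r x ∧ x / 64 ∈ P4 := by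
    intro r hr
    obtain ⟨x, hx, hm, -⟩ := hcode r (hRM hr) (hRt r hr)
    refine ⟨x, hx, ?_⟩
    have hb : b ∈ K0 := subset_closure (by simp)
    have hq : r * (b * r * b⁻¹) ∈ R := mul_mem hr (hRn b (hKH hb) r hr)
    have hqx := rep_mul F hx (rep_mul F (rep_mul F (rep_b F) hx) (rep_bi F))
    have h1 := sqP (repSq hr hx)
    have h2 := sqP (repSq hq hqx)
    have dP : ∀ p q : Nat, mulX p q / 64 = mulP (p / 64) (q / 64) := fun p q => by
      have := vadd_lt (p % 64) (app (p / 64) (q % 64))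
      unfold mulX; omega
    have hbi : biX / 64 = mulP bP bP := by decide
    have hb64 : 64 * bP / 64 = bP := by decide
    simp only [dP, hbi, hb64] at h2
    have := (List.all_eq_true.1 image_ok) _ hm
    simpa [h1, h2, hP4] using this
  -- the kernel of the image
  have a16lt : ∀ q ∈ a16, q < 64 := fun q hq => List.mem_range.1 (List.mem_of_mem_filter hq)
  have hfib : ∀ {r r' : G} {x x' : Nat}, r ∈ R → r' ∈ R → Rp r x → Rp r' x' → x / 64 = x' / 64 →
      ∃ q ∈ a16, r' = ev c v2 v3 q * r ∧ ev c v2 v3 q ∈ R := by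
    intro r r' x x' hr hr' hx hx' hP
    obtain ⟨l, hl, rfl, a0, a1, a2, a3⟩ := hx
    obtain ⟨l', hl', rfl, b0, b1, b2, b3⟩ := hx'
    have hll : l = l' := by
      refine elt (x := 64 * (x / 64)) ⟨l, hl, ?_⟩ ⟨l', hl', ?_⟩ <;>
        rw [show 64 * (x / 64) % 64 = 0 by omega, show 64 * (x / 64) / 64 = x / 64 by omega,
          ev_zero F, one_mul]
      · exact ⟨rfl, a0, a1, a2, a3⟩
      · rw [hP]; exact ⟨rfl, b0, b1, b2, b3⟩
    subst hll
    obtain ⟨q, hq, hqe⟩ := ev_surj F
      (mul_mem (ev_mem F (x' % 64)) (inv_mem (ev_mem F (x % 64))))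
    have hqR : ev c v2 v3 q ∈ R := by
      have h := mul_mem hr' (inv_mem hr)
      rw [hqe]
      simpa [mul_assoc] using h
    refine ⟨q, ?_, by rw [hqe]; group, hqR⟩
    have hR2 := repSq hqR (rep_vec F q hq)
    have := (List.all_eq_true.1 kernel_ok) q (List.mem_range.2 hq)
    rcases hR2 with h | h <;> simpa [h] using this
  -- all of `a16` and all four matrices occur
  haveI : Fintype R := Fintype.ofFinite R
  choose cx hcx hcxP using fun r : R => hR4 r r.2
  set Q : Finset Nat := a16.toFinset.filter fun q => ev c v2 v3 q ∈ R with hQ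
  have hQle : Q.card ≤ 16 :=
    (Finset.card_filter_le _ _).trans ((List.toFinset_card_le _).trans small_ok.1.le)
  have hP4card : ∀ s : Finset Nat, s ⊆ P4.toFinset → s.card ≤ 4 := fun s hs =>
    (Finset.card_le_card hs).trans ((List.toFinset_card_le _).trans (by simp [hP4]))
  have himg : (Finset.univ.image fun r : R => cx r / 64) ⊆ P4.toFinset := by
    intro P hP
    obtain ⟨r, -, rfl⟩ := Finset.mem_image.1 hP
    exact List.mem_toFinset.2 (hcxP r)
  have hbound : Fintype.card R ≤ Q.card * (Finset.univ.image fun r : R => cx r / 64).card := by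
    rw [← Finset.card_univ]
    refine Finset.card_le_mul_card_image _ _ fun P hP => ?_
    obtain ⟨r0, -, hr0⟩ := Finset.mem_image.1 hP
    rw [← Finset.card_map ⟨Subtype.val, Subtype.val_injective⟩]
    refine (Finset.card_le_card (t := Q.image fun q => ev c v2 v3 q * (r0 : G)) ?_).trans
      Finset.card_image_le
    intro g hg
    obtain ⟨r, hr, rfl⟩ := Finset.mem_map.1 hg
    obtain ⟨q, hq, hqr, hqR⟩ := hfib r0.2 r.2 (hcx r0) (hcx r)
      (hr0.trans (Finset.mem_filter.1 hr).2.symm)
    exact Finset.mem_image.2 ⟨q, Finset.mem_filter.2 ⟨List.mem_toFinset.2 hq, hqR⟩, hqr.symm⟩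
  rw [← Nat.card_eq_fintype_card] at hbound
  have h64 := hRcard.trans hbound
  have himg4 := hP4card _ himg
  have hR64 : Nat.card R ≤ 64 := hbound.trans (Nat.mul_le_mul hQle himg4)
  have hQ16 : ∀ q ∈ a16, ev c v2 v3 q ∈ R := by
    have hQe : Q = a16.toFinset := Finset.eq_of_subset_of_card_le (Finset.filter_subset _ _)
      (((List.toFinset_card_le _).trans small_ok.1.le).trans (by nlinarith))
    intro q hq
    exact (Finset.mem_filter.1 (show q ∈ Q by rw [hQe]; exact List.mem_toFinset.2 hq)).2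
  have hall4 : ∀ P ∈ P4, ∃ r ∈ R, ∃ x, Rp r x ∧ x / 64 = P := by
    have h : (Finset.univ.image fun r : R => cx r / 64) = P4.toFinset :=
      Finset.eq_of_subset_of_card_le himg
        (((List.toFinset_card_le _).trans (by simp [hP4] : _ ≤ 4)).trans (by nlinarith))
    intro P hP
    obtain ⟨r, -, hrP⟩ := Finset.mem_image.1 (h ▸ List.mem_toFinset.2 hP :
      P ∈ Finset.univ.image fun r : R => cx r / 64)
    exact ⟨r, r.2, _, hcx r, hrP⟩
  obtain ⟨r0, hr0, hw⟩ : ∃ r ∈ R, Rp r wAX ∨ Rp r (mulX (vecX 4) wAX) := by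
    obtain ⟨r, hr, x, hx, hxP⟩ := hall4 (wAX / 64) (by simp [hP4])
    have hs := (List.all_eq_true.1 shift_ok) (x % 64)
      (List.mem_range.2 (Nat.mod_lt x (by norm_num)))
    rw [show x % 64 + 64 * (wAX / 64) = x by omega] at hs
    obtain ⟨q, hq, hq04⟩ : ∃ q ∈ a16, vadd q (x % 64) = 0 ∨ vadd q (x % 64) = 4 := by
      rcases repSq hr hx with h | h <;> simpa [h] using hs
    refine ⟨ev c v2 v3 q * r, mul_mem (hQ16 q hq) hr, ?_⟩
    obtain ⟨l, hl, hxl, a0, a1, a2, a3⟩ := hx
    have hnew : Rp (ev c v2 v3 q * r) (vadd q (x % 64) + 64 * (x / 64)) := by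
      have := vadd_lt q (x % 64)
      refine ⟨l, hl, ?_⟩
      rw [show (vadd q (x % 64) + 64 * (x / 64)) % 64 = vadd q (x % 64) by omega,
        show (vadd q (x % 64) + 64 * (x / 64)) / 64 = x / 64 by omega, ev_add F, hxl, mul_assoc]
      exact ⟨rfl, a0, a1, a2, a3⟩
    rw [hxP] at hnew
    have h4 : mulX (vecX 4) wAX = 4 + 64 * (wAX / 64) ∧ 0 + 64 * (wAX / 64) = wAX := by
      decide +kernel
    rcases hq04 with h | h <;> rw [h] at hnew
    · exact Or.inl (h4.2 ▸ hnew)
    · exact Or.inr (h4.1 ▸ hnew)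
  have hlist : ∀ reps : List Nat, reps.map (· / 64) = P4 → (∀ m ∈ reps, ∃ g ∈ R, Rp g m) →
      ∀ r ∈ R, ∃ x ∈ rList reps, Rp r x ∧ ∃ q ∈ a16, ∃ m ∈ reps, ∃ g ∈ R,
        Rp g m ∧ r = ev c v2 v3 q * g := by
    intro reps hmap hreps r hr
    obtain ⟨x, hx, hxP⟩ := hR4 r hr
    obtain ⟨m, hm, hmP⟩ := List.mem_map.1 (hmap ▸ hxP : x / 64 ∈ reps.map (· / 64))
    obtain ⟨g, hg, hgm⟩ := hreps m hm
    obtain ⟨q, hq, hrq, -⟩ := hfib hg hr hgm hx hmP
    refine ⟨mulX (vecX q) m, List.mem_flatMap.2 ⟨m, hm, List.mem_map.2 ⟨q, hq, rfl⟩⟩, ?_,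
      q, hq, m, hm, g, hg, hgm, hrq⟩
    rw [hrq]
    exact rep_mul F (rep_vec F q (a16lt q hq)) hgm
  have hbK : b ∈ K0 := subset_closure (by simp)
  have hconjb : ∀ r ∈ R, b⁻¹ * r * b ∈ R := fun r hr => by
    simpa using hRn b⁻¹ (hKH (inv_mem hbK)) r hr
  have hR1 : Rp (1 : G) (vecX 0) := rep_one F
  rcases hw with hw | hw
  · have hwA : r0 = wA a b := elt hw (rep_wA F)
    subst hwA
    have hwB : wB a b ∈ R := hconjb _ hr0
    set reps := [vecX 0, wAX, wBX, mulX wAX wBX]
    have hreps : ∀ m ∈ reps, ∃ g ∈ closure ({c, v2 ^ 2, v3 ^ 2, wA a b, wB a b} : Set G),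
        g ∈ R ∧ Rp g m := by
      intro m hm
      simp only [reps, List.mem_cons, List.not_mem_nil, or_false] at hm
      rcases hm with rfl | rfl | rfl | rfl
      · exact ⟨1, one_mem _, one_mem R, hR1⟩
      · exact ⟨_, subset_closure (by simp), hr0, rep_wA F⟩
      · exact ⟨_, subset_closure (by simp), hwB, rep_wB F⟩
      · exact ⟨_, mul_mem (subset_closure (by simp)) (subset_closure (by simp)),
          mul_mem hr0 hwB, rep_mul F (rep_wA F) (rep_wB F)⟩
    have hl := hlist reps (by decide +kernel)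
      (fun m hm => by obtain ⟨g, -, hg⟩ := hreps m hm; exact ⟨g, hg⟩)
    have he8 : ev c v2 v3 8 = v2 ^ 2 := by simp [ev]
    have he32 : ev c v2 v3 32 = v3 ^ 2 := by simp [ev]
    have hRgen : R = closure ({c, v2 ^ 2, v3 ^ 2, wA a b, wB a b} : Set G) := by
      refine le_antisymm (fun r hr => ?_) ((closure_le R).2 ?_)
      · obtain ⟨-, -, -, q, hq, m, hm, g, -, hgm, rfl⟩ := hl r hr
        obtain ⟨g', hg', -, hg'm⟩ := hreps m hm
        refine mul_mem ?_ (elt hg'm hgm ▸ hg')
        have hev2 : ∀ n, n / 4 % 2 = 0 → n / 16 % 2 = 0 → ev c v2 v3 n ∈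
            closure ({c, v2 ^ 2, v3 ^ 2, wA a b, wB a b} : Set G) := fun n h1 h2 => by
          rw [ev, show n / 4 % 4 = 2 * (n / 4 % 4 / 2) by omega,
            show n / 16 % 4 = 2 * (n / 16 % 4 / 2) by omega, pow_mul, pow_mul]
          exact mul_mem (mul_mem (pow_mem (subset_closure (by simp)) _)
            (pow_mem (subset_closure (by simp)) _)) (pow_mem (subset_closure (by simp)) _)
        have h := List.of_mem_filter hq
        simp only [Bool.and_eq_true, beq_iff_eq] at h
        exact hev2 q h.1 h.2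
      · intro x hx
        rcases hx with rfl | rfl | rfl | rfl | rfl
        · exact ev_one F ▸ hQ16 1 (by decide)
        · exact he8 ▸ hQ16 8 (by decide)
        · exact he32 ▸ hQ16 32 (by decide)
        · exact hr0
        · exact hwB
    refine ⟨F, ?_, hRgen, fun g hg => ⟨fun h => ?_, fun h => (hK0t g h).1⟩⟩
    · obtain ⟨x, hxl, hx, -⟩ := hl y hyR
      have h := (List.all_eq_true.1 cy_ok) x hxl
      have c0 : mulX x x = vecX 2 := code (rep_mul F hx hx) (hyt ▸ T)
      have cc : ∀ {g : G} {z : Nat}, g ∈ R → Rp g z → mulX x z = mulX z x := fun hg hz =>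
        code (rep_mul F hx hz) ((hyc _ hg).eq ▸ rep_mul F hz hx)
      have c1 := cc hr0 (rep_wA F)
      have c2 := cc hwB (rep_wB F)
      have c3 := cc (hQ16 8 (by decide)) (rep_vec F 8 (by norm_num))
      have c4 := cc (hQ16 32 (by decide)) (rep_vec F 32 (by norm_num))
      have hx13 : x = vecX 1 ∨ x = vecX 3 := by simpa [c0, c1, c2, c3, c4] using h
      rcases hx13 with rfl | rfl
      · rw [hCy, elt hx (rep_vec F 1 (by norm_num)), ev_one F]
      · have h3 : ev c v2 v3 3 = c⁻¹ := by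
          rw [eq_inv_iff_mul_eq_one]
          simp [ev, ← pow_succ, F.c_four]
        rw [hCy, elt hx (rep_vec F 3 (by norm_num)), h3, zpowers_inv]
    · obtain ⟨-, -, -, hgK⟩ := hcode g hg h
      exact hgK
  · exfalso
    have hr2 := hconjb r0 hr0
    have h2 := rep_mul F (rep_mul F (rep_bi F) hw) (rep_b F)
    have hl : ∀ r ∈ R, ∃ x ∈ rList reps1, Rp r x := fun r hr => by
      obtain ⟨x, hxl, hx, -⟩ := hlist reps1 (by decide +kernel) (fun m hm => by
        simp only [reps1, List.mem_cons, List.not_mem_nil, or_false] at hm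
        rcases hm with rfl | rfl | rfl | rfl
        · exact ⟨1, one_mem R, hR1⟩
        · exact ⟨_, hr0, hw⟩
        · exact ⟨_, hr2, h2⟩
        · exact ⟨_, mul_mem hr0 hr2, rep_mul F hw h2⟩) r hr
      exact ⟨x, hxl, hx⟩
    have hHcard : Nat.card H = 120 * Nat.card R := by
      obtain ⟨φ⟩ := S.hH5
      rw [Subgroup.card_eq_card_quotient_mul_card_subgroup (Cfsg.pCore 2 H),
        Nat.card_congr φ.toEquiv, Nat.card_perm, Nat.card_fin, S.hR,
        Nat.card_congr ((Cfsg.pCore 2 H).equivMapOfInjective _ H.subtype_injective).toEquiv]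
      rfl
    have hKHM : K0 ≤ H ⊓ M := fun g hg => mem_inf.2 ⟨hKH hg, (hK0t g hg).2⟩
    have hMH : 1536 ≤ Nat.card (H ⊓ M : Subgroup G) := by
      obtain ⟨hnd, hlen, h0⟩ := mats24_ok
      have hlen' : words24.length = 24 := by rw [← List.length_map]; exact hlen
      let f : Fin 64 × Fin 24 → (H ⊓ M : Subgroup G) := fun p =>
        ⟨ev c v2 v3 p.1 * evw gKe (words24[p.2.val]'(hlen'.symm ▸ p.2.2)),
          hKHM (mul_mem (hevK _) (evw_mem gKmem _))⟩
      have hf : Function.Injective f := by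
        have hrep : ∀ p : Fin 64 × Fin 24, Rp (f p : G)
            (p.1.val + 64 * (mats24[p.2.val]'(hlen.symm ▸ p.2.2))) := by
          intro p
          obtain ⟨l, hl, hwl, a0, a1, a2, a3⟩ :=
            rep_evw F repK (words24[p.2.val]'(hlen'.symm ▸ p.2.2))
          rw [show cdw gK (words24[p.2.val]'(hlen'.symm ▸ p.2.2)) % 64 = 0 by
            simpa using (List.all_eq_true.1 h0) _ (List.getElem_mem (hlen'.symm ▸ p.2.2)),
            ev_zero F, one_mul] at hwl
          refine ⟨l, hl, ?_⟩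
          simp only [f, mats24, List.getElem_map]
          have := p.1.2
          generalize hP : cdw gK (words24[p.2.val]'(hlen'.symm ▸ p.2.2)) / 64 = P at *
          rw [show (p.1.val + 64 * P) % 64 = p.1.val by omega,
            show (p.1.val + 64 * P) / 64 = P by omega, hwl]
          exact ⟨rfl, a0, a1, a2, a3⟩
        intro p p' h
        have hc := code (hrep p) (congrArg Subtype.val h ▸ hrep p')
        have := p.1.2
        have := p'.1.2
        refine Prod.ext (Fin.ext (by omega)) (Fin.ext (hnd.getElem_inj_iff.1 (by omega)))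
      simpa using Nat.card_le_card_of_injective f hf
    have hout : ∃ g ∈ H, g ∉ M := by
      by_contra hno
      push Not at hno
      choose xh hxh hxP _ using fun g : H => hcode g (hno g g.2)
        (mem_centralizer_singleton_iff.1 (S.hH ▸ g.2))
      have hle := Nat.card_le_card_of_injective
        (fun g : H => ((⟨xh g % 64, Nat.mod_lt _ (by norm_num)⟩, ⟨xh g / 64, hxP g⟩) :
          Fin 64 × {P // P ∈ mats24}))
        fun g g' h => by
          simp only [Prod.mk.injEq, Fin.mk.injEq, Subtype.mk.injEq] at h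
          exact Subtype.ext (elt (hxh g) ((show xh g' = xh g by omega) ▸ hxh g'))
      have h24 : Nat.card {P // P ∈ mats24} ≤ 24 := by
        rw [Nat.card_congr (Equiv.subtypeEquivRight fun P => List.mem_toFinset.symm),
          Nat.card_eq_fintype_card, Fintype.card_coe]
        exact (List.toFinset_card_le _).trans mats24_ok.2.1.le
      rw [Nat.card_prod, Nat.card_fin, hHcard] at hle
      nlinarith
    refine no_second F S.hM S.hVcard S.hVexp S.hVcomm S.hVR htV ?_ hVmem hRn
      (fun g hg => mem_centralizer_singleton_iff.1 (S.hH ▸ hg)) hl ?_ (by omega) hMH hout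
    · intro h
      have := S.ht
      rw [h, orderOf_one] at this
      norm_num at this
    · intro x hx
      refine hKHM (subset_closure ?_)
      rcases hx with rfl | rfl | rfl | rfl | rfl <;> simp

end Cfsg.Agent.HSRecog81
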