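import Cfsg.Agent.Lib.HSRels28
import Cfsg.Agent.Lib.HSRecog71MFrame
import Cfsg.Agent.Lib.HSRecog81RFrame
import Cfsg.Agent.Lib.HSRecog27Extra
import Cfsg.Agent.Lib.HSRecog27UBase
import Cfsg.Agent.Lib.HSRecog28Model
import Cfsg.Agent.Lib.HSRecog47Iso
import Cfsg.Prelude.Def_Spor_Conway

/-!
Recognition of the Higman–Sims group from an involution centraliser and a two-local subgroup.
-/

set_option autoImplicit false
set_option linter.unusedVariables false

namespace Cfsg.Agent.HSRecogFinal28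

open Subgroup

universe u

theorem isoHS {G : Type u} [Group G] [Finite G] {t : G} {H R Cy E V M : Subgroup G}
    (S : HSFrame28.Setting t H R Cy E V M) : Cfsg.Spor.IsoHS G := by
  obtain ⟨c, v2, v3, a, b, FM⟩ := HSRecog71MFrame.exists_mFrame S
  obtain ⟨a1, FR⟩ := HSRecog81.rFrame_of_mFrame S FM
  obtain ⟨w, U⟩ := HSRecog27UBase.exists_uBase S FR
  obtain ⟨a2, u2, F⟩ := HSUFrame28.exists_uFrame S FR U
  obtain ⟨h8, h6⟩ := HSRecog27Extra.extra_rels S F
  have F' := F.toMFrame
  have hrels := HSRels28.rels_hold F h8 h6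
  set g := HSRels28.gU c a2 b u2 with hg
  have g0 : g 0 = a2 := rfl
  have g1 : g 1 = u2 := rfl
  have g2 : g 2 = c * HSFrame28.s0 a2 b := rfl
  have g6 : g 6 = b := rfl
  have g7 : g 7 = (g 6)⁻¹ := rfl
  obtain ⟨-, -, mS, -⟩ := HSModel28.mem_words F'
  have hc := HSCore28.c_mem F.toRFrame
  have i0 : g 0 * g 0 = 1 := by rw [g0, ← sq]; exact F'.a_two
  have i1 : g 1 * g 1 = 1 := by rw [g1, ← sq]; exact F.u_two
  have i2 : g 2 * g 2 = 1 := by
    rw [g2]
    exact congrArg Subtype.val (HSModel28.act_injective F' (by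
      rw [map_mul, map_mul, HSModel28.act_c F' hc, HSModel28.act_s0 F' mS, map_one]
      decide +kernel) : (⟨c, hc⟩ * ⟨_, mS⟩ : M) * (⟨c, hc⟩ * ⟨_, mS⟩) = 1)
  have hne : g 0 ≠ 1 := by
    intro h
    rw [g0] at h
    have e := HSModel28.act_a F' (HSModel28.mem_a F')
    rw [show (⟨a2, HSModel28.mem_a F'⟩ : M) = 1 from Subtype.ext h, map_one] at e
    exact absurd (Equiv.congr_fun e (1, 0, 0)) (by decide +kernel)
  obtain ⟨e⟩ := HSRecog47Iso.iso_of_rels g i0 i1 i2 g7 hrels hne
  set G0 := closure ({g 0, g 1, g 2, g 6} : Set G) with hG0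
  have hle : closure ({c, v2, v3, a2, b, u2} : Set G) ≤ G0 := by
    have ha : a2 ∈ G0 := subset_closure (by simp [g0])
    have hu : u2 ∈ G0 := subset_closure (by simp [g1])
    have hb : b ∈ G0 := subset_closure (by simp [g6])
    have hs : HSFrame28.s0 a2 b ∈ G0 := by
      unfold HSFrame28.s0
      repeat' first | apply mul_mem | apply inv_mem | assumption
    have hcG : c ∈ G0 := by
      have := mul_mem (subset_closure (by simp [g2]) : c * HSFrame28.s0 a2 b ∈ G0) (inv_mem hs)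
      simpa using this
    have h3 : v3 ∈ G0 := by
      rw [← F'.a_c]; exact mul_mem (mul_mem ha hcG) (inv_mem ha)
    have h2 : v2 ∈ G0 := by
      have e2 : v2 = (b * v3 * b⁻¹)⁻¹ * c := by
        rw [F'.b_v3, mul_inv_rev, inv_inv, mul_assoc, inv_mul_cancel, mul_one]
      rw [e2]
      exact mul_mem (inv_mem (mul_mem (mul_mem hb h3) (inv_mem hb))) hcG
    rw [closure_le]
    rintro y (rfl | rfl | rfl | rfl | rfl | rfl)
    exacts [hcG, h2, h3, ha, hb, hu]
  have hcent := (HSRecog27Extra.cent_le S F).trans hle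
  have htop := HSRecog28Model.eq_top_of_iso G0 e S.ht hcent (HSRecog27Extra.card_cent S F)
  exact ⟨(topEquiv.symm.trans ((MulEquiv.subgroupCongr htop).symm.trans
    (e.trans HSPerm.toHp.symm)))⟩

end Cfsg.Agent.HSRecogFinal28
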