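import Cfsg.Agent.Lib.HSUFrame28
import Cfsg.Agent.Lib.HSPresent28
import Cfsg.Agent.Lib.CosetCertCore

/-!
The relators of the two-local presentation hold for the letters of a complete frame.
-/

set_option autoImplicit false
set_option maxRecDepth 100000
set_option linter.unusedVariables false

namespace Cfsg.Agent.HSRels28

open Subgroup HSModel28 HSCore28
open CosetCertCore (val)

variable {G : Type*} [Group G]

/-- the letters -/
def gU (c a b u : G) : ℕ → G := fun x =>
  if x = 0 then a else if x = 1 then u else if x = 2 then c * HSFrame28.s0 a b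
  else if x = 6 then b else if x = 7 then b⁻¹ else 1

/-- the letters inside `M` in the point model -/
def pP : ℕ → Equiv.Perm Vec := fun x =>
  if x = 0 then linA else if x = 2 then HSModel28.trans (1, 0, 0) * PS
  else if x = 6 then linB else if x = 7 then linB⁻¹ else 1

/-- a relator segment with value `c` -/
def wC : List ℕ := [2,0,6,0,6,0,7,0,6,0,6,0,7]
/-- a relator segment with value `v3²` -/
def wQ : List ℕ := [0,2,0,6,0,6,0,7,0,6,0,6,0,7,2,0,6,0,6,0,7,0,6,0,6,0,7,0]
/-- a relator segment with value `wB` -/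
def wW : List ℕ := [7,0,7,0,7,0,6,0,6,0,6]
/-- a relator segment with value `s0` -/
def wS : List ℕ := [0,6,0,6,0,7,0,6,0,6,0,7]
/-- a relator segment with value `s3` -/
def wT : List ℕ := [0,2,0,6,0,6,0,7,0,6,0,6,0,7,0,7,0,6,0,7,0,6]
/-- a relator segment with value `a c` -/
def wAC : List ℕ := [0,2,0,6,0,6,0,7,0,6,0,6,0,7]

/-- a relator made of equal segments -/
def rep (w : List ℕ) : ℕ → List ℕ
  | 0 => []
  | n + 1 => w ++ [1] ++ rep w n

theorem rels_data :
    (∀ w ∈ HSPresent28.rels.take 10, (∀ x ∈ w, x ≠ 1) ∧ val pP w = 1) ∧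
    HSPresent28.rels.drop 10 = [[1, 6, 1, 7], [1] ++ wC ++ [1] ++ wC, [1] ++ wQ ++ [1] ++ wW,
      rep wS 2, rep wT 3, rep [0] 8, rep wAC 6] := by decide +kernel

theorem seg_data : (∀ x ∈ wC ++ wQ ++ wW ++ wS ++ wT ++ wAC, x ≠ 1) ∧
    val pP wC = HSModel28.trans (1, 0, 0) ∧ val pP wQ = HSModel28.trans (0, 0, 2) ∧
    val pP wW = PB ∧ val pP wS = PS ∧ val pP wT = P3 ∧
    val pP wAC = linA * HSModel28.trans (1, 0, 0) := by decide +kernel

theorem val_app (g : ℕ → G) (v w : List ℕ) : val g (v ++ w) = val g v * val g w := by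
  simp [val]

theorem val_rep (g : ℕ → G) (w : List ℕ) : ∀ n, val g (rep w n) = (val g w * g 1) ^ n
  | 0 => by simp [rep, val]
  | n + 1 => by rw [rep, val_app, val_app, val_rep g w n, pow_succ']; simp [val, mul_assoc]

section
variable {t : G} {M R Cy : Subgroup G} {c v2 v3 a b u : G}
variable (F : HSFrame28.UFrame t M R Cy c v2 v3 a b u)
include F

theorem seg_val (w : List ℕ) (hw : ∀ x ∈ w, x ≠ 1) :
    ∃ h : val (gU c a b u) w ∈ M, act F.toMFrame ⟨_, h⟩ = val pP w := by
  have F' := F.toMFrame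
  obtain ⟨-, -, mS, -⟩ := mem_words F'
  induction w with
  | nil =>
    refine ⟨one_mem M, ?_⟩
    show act F' 1 = 1
    exact map_one _
  | cons x w ih =>
    obtain ⟨h, hh⟩ := ih fun y hy => hw y (List.mem_cons_of_mem _ hy)
    have hx : ∃ k : gU c a b u x ∈ M, act F' ⟨_, k⟩ = pP x := by
      have h1 : x ≠ 1 := hw x List.mem_cons_self
      unfold gU pP
      rw [if_neg h1]
      split_ifs with p0 p2 p6 p7
      · exact ⟨mem_a F', act_a F' _⟩
      · refine ⟨mul_mem (c_mem F.toRFrame) mS, ?_⟩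
        rw [show (⟨c * HSFrame28.s0 a b, mul_mem (c_mem F.toRFrame) mS⟩ : M) =
          ⟨c, c_mem F.toRFrame⟩ * ⟨_, mS⟩ from rfl, map_mul, act_c F', act_s0 F']
      · exact ⟨mem_b F', act_b F' _⟩
      · refine ⟨inv_mem (mem_b F'), ?_⟩
        rw [show (⟨b⁻¹, inv_mem (mem_b F')⟩ : M) = (⟨b, mem_b F'⟩ : M)⁻¹ from rfl, map_inv, act_b F']
      · exact ⟨one_mem M, map_one (act F')⟩
    obtain ⟨k, hk⟩ := hx
    have e : val (gU c a b u) (x :: w) = gU c a b u x * val (gU c a b u) w := by simp [val]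
    refine ⟨by rw [e]; exact mul_mem k h, ?_⟩
    rw [show val pP (x :: w) = pP x * val pP w by simp [val], ← hk, ← hh, ← map_mul]
    exact congrArg _ (Subtype.ext e)

theorem seg_eq {w : List ℕ} (hw : ∀ x ∈ w, x ≠ 1) {g : G} (hg : g ∈ M)
    (h : val pP w = act F.toMFrame ⟨g, hg⟩) : val (gU c a b u) w = g := by
  obtain ⟨k, hk⟩ := seg_val F w hw
  exact eq_of_act F.toMFrame (g := ⟨_, k⟩) (h := ⟨g, hg⟩) (hk.trans h)

/-- All relators hold. -/
theorem rels_hold (h8 : (a * u) ^ 8 = 1) (h6 : (a * c * u) ^ 6 = 1) :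
    ∀ w ∈ HSPresent28.rels, val (gU c a b u) w = 1 := by
  have F' := F.toMFrame
  obtain ⟨hM, hU⟩ := rels_data
  obtain ⟨hne, dC, dQ, dW, dS, dT, dA⟩ := seg_data
  simp only [List.mem_append] at hne
  obtain ⟨-, mB, mS, mT⟩ := mem_words F'
  have hc := c_mem F.toRFrame
  have hq := pow_mem (v3_mem F.toRFrame) 2
  have eC : val (gU c a b u) wC = c :=
    seg_eq F (fun x hx => hne x (by tauto)) hc (by rw [dC, act_c F'])
  have eQ : val (gU c a b u) wQ = v3 ^ 2 :=
    seg_eq F (fun x hx => hne x (by tauto)) hq (by rw [dQ, act_q1 F.toRFrame])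
  have eW : val (gU c a b u) wW = HSFrame28.wB a b :=
    seg_eq F (fun x hx => hne x (by tauto)) mB (by rw [dW, act_wB F'])
  have eS : val (gU c a b u) wS = HSFrame28.s0 a b :=
    seg_eq F (fun x hx => hne x (by tauto)) mS (by rw [dS, act_s0 F'])
  have eT : val (gU c a b u) wT = HSFrame28.s3 v3 a b :=
    seg_eq F (fun x hx => hne x (by tauto)) mT (by rw [dT, act_s3 F'])
  have eA : val (gU c a b u) wAC = a * c := by
    refine seg_eq F (fun x hx => hne x (by tauto)) (mul_mem (mem_a F') hc) ?_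
    rw [show (⟨a * c, mul_mem (mem_a F') hc⟩ : M) = ⟨a, mem_a F'⟩ * ⟨c, hc⟩ from rfl, map_mul,
      act_a F', act_c F', dA]
  have e1 : gU c a b u 1 = u := rfl
  have hui : u⁻¹ = u := inv_eq_of_mul_eq_one_right (by rw [← sq]; exact F.u_two)
  intro w hw
  rw [← List.take_append_drop 10 HSPresent28.rels, List.mem_append] at hw
  rcases hw with hw | hw
  · obtain ⟨hn, hv⟩ := hM w hw
    exact seg_eq F hn (one_mem M) (by rw [hv]; exact (map_one _).symm)
  · rw [hU] at hw
    simp only [List.mem_cons, List.not_mem_nil, or_false] at hw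
    rcases hw with rfl | rfl | rfl | rfl | rfl | rfl | rfl
    · show val (gU c a b u) [1, 6, 1, 7] = 1
      simp only [val, List.map_cons, List.map_nil, List.prod_cons, List.prod_nil, mul_one]
      show u * (b * (u * b⁻¹)) = 1
      calc u * (b * (u * b⁻¹)) = u * (b * u) * b⁻¹ := by group
        _ = u * (u * b) * b⁻¹ := by rw [F.u_b]
        _ = u ^ 2 := by rw [sq]; group
        _ = 1 := F.u_two
    · rw [val_app, val_app, val_app, eC, show val (gU c a b u) [1] = u by simp [val, e1]]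
      calc u * c * u * c = (u * c * u⁻¹) * c := by rw [hui]
        _ = 1 := by rw [F.u_c, inv_mul_cancel]
    · rw [val_app, val_app, val_app, eQ, eW, show val (gU c a b u) [1] = u by simp [val, e1]]
      have h4 : v3 ^ 2 * v3 ^ 2 = 1 := by rw [← pow_add]; exact F.v3_four
      calc u * v3 ^ 2 * u * HSFrame28.wB a b
          = (u * v3 ^ 2 * u⁻¹) * (u * v3 ^ 2 * u⁻¹) := by rw [← F.u_v3, hui]
        _ = 1 := by rw [conj_mul, h4]; group
    · rw [val_rep, eS, e1]; exact F.u_s0
    · rw [val_rep, eT, e1]; exact F.u_s3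
    · rw [val_rep, show val (gU c a b u) [0] = a by simp [val, gU], e1]; exact h8
    · rw [val_rep, eA, e1]; exact h6

end

end Cfsg.Agent.HSRels28
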