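import Cfsg.Agent.Lib.HSCore28
import Cfsg.Agent.Lib.HSCoreData28b
import Cfsg.Agent.Lib.HSRecog71Pres

/-!
An outside involution centralising the three-element and inverting the centre of `R` is completed
to a frame with exact relations.
-/

set_option autoImplicit false
set_option maxRecDepth 100000
set_option linter.unusedVariables false
set_option linter.style.haveILetI false

namespace Cfsg.Agent.HSUFrame28

open Subgroup HSModel28 HSCore28

variable {G : Type*} [Group G] {t : G} {H R Cy E V M : Subgroup G} {c v2 v3 a b : G}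

theorem conj_pair {g x y z w : G} (h1 : g * x * g⁻¹ = y) (h2 : g * z * g⁻¹ = w) :
    g * (x * z) * g⁻¹ = y * w := by rw [← h1, ← h2]; group

theorem conj_comp {g h x y z : G} (h1 : h * x * h⁻¹ = y) (h2 : g * y * g⁻¹ = z) :
    g * h * x * (g * h)⁻¹ = z := by rw [← h2, ← h1]; group

theorem comm_of_conj {g x : G} (h : g * x * g⁻¹ = x) : g * x = x * g := by
  calc g * x = g * x * g⁻¹ * g := by group
    _ = x * g := by rw [h]

theorem mem_H (S : HSFrame28.Setting t H R Cy E V M) {g : G} : g ∈ H ↔ g * t = t * g := by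
  rw [S.hH, mem_centralizer_singleton_iff]

theorem R_le_H (S : HSFrame28.Setting t H R Cy E V M) : R ≤ H := by
  rw [S.hR]; exact map_subtype_le _

theorem conj_R (S : HSFrame28.Setting t H R Cy E V M) {h r : G} (hh : h ∈ H) (hr : r ∈ R) :
    h * r * h⁻¹ ∈ R := by
  rw [S.hR] at hr ⊢
  obtain ⟨x, hx, rfl⟩ := hr
  exact ⟨⟨h, hh⟩ * x * (⟨h, hh⟩ : H)⁻¹, (HallCore.pCore_normal 2 H).conj_mem _ hx _, rfl⟩

local notation "W" => vA c v2 v3

theorem V_coords (S : HSFrame28.Setting t H R Cy E V M) (F : HSFrame28.MFrame t M c v2 v3 a b)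
    {v : G} (hv : v ∈ V) : ∃ x : Vec, x + x = 0 ∧ W x = v := by
  have hle : V ≤ M := by rw [S.hM]; exact le_normalizer
  haveI : (V.subgroupOf M).Normal := by
    rw [normal_subgroupOf_iff_le_normalizer hle, S.hM]
  have hp : IsPGroup 2 (V.subgroupOf M) := fun g => ⟨1, Subtype.ext (Subtype.ext (by
    simpa using S.hVexp _ g.2))⟩
  have hm : v ∈ (Cfsg.pCore 2 M).map M.subtype :=
    ⟨⟨v, hle hv⟩, HallCore.le_pCore (N := V.subgroupOf M) hp hv, rfl⟩
  rw [F.core] at hm
  obtain ⟨x, hx⟩ := (mem_core F).1 hm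
  refine ⟨x, W_inj F ?_, hx⟩
  rw [W_add F, W_zero F, hx, ← sq, S.hVexp v hv]

theorem V_mem (S : HSFrame28.Setting t H R Cy E V M) (F : HSFrame28.MFrame t M c v2 v3 a b)
    {x : Vec} (hx : x + x = 0) : W x ∈ V := by
  let f : V → {y : Vec // y + y = 0} := fun v =>
    ⟨(V_coords S F v.2).choose, (V_coords S F v.2).choose_spec.1⟩
  have hf : Function.Injective f := fun v w h => Subtype.ext (by
    rw [← (V_coords S F v.2).choose_spec.2, ← (V_coords S F w.2).choose_spec.2]
    exact congrArg _ (congrArg Subtype.val h))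
  haveI : Finite V := Nat.finite_of_card_ne_zero (by rw [S.hVcard]; decide)
  have hb := hf.bijective_of_nat_card_le (by rw [S.hVcard, Nat.card_eq_fintype_card]; decide +kernel)
  obtain ⟨v, hv⟩ := hb.2 ⟨x, hx⟩
  have := (V_coords S F v.2).choose_spec.2
  rw [show (V_coords S F v.2).choose = x from congrArg Subtype.val hv] at this
  rw [this]; exact v.2

theorem V_comb : ∀ x : Vec, x + x = 0 → ∃ i j k : Fin 2,
    x = i.val • ((2, 0, 0) : Vec) + j.val • ((0, 2, 0) : Vec) + k.val • ((0, 0, 2) : Vec) := by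
  decide +kernel

theorem W_special (F : HSFrame28.MFrame t M c v2 v3 a b) :
    W (2, 0, 0) = t ∧ W (0, 2, 0) = v2 ^ 2 ∧ W (0, 0, 2) = v3 ^ 2 := by
  refine ⟨?_, ?_, ?_⟩ <;> simp [vA, show (2 : ZMod 4).val = 2 from rfl, F.c_sq]

theorem mem_M_of (S : HSFrame28.Setting t H R Cy E V M) (F : HSFrame28.MFrame t M c v2 v3 a b)
    {g : G} (h1 : g * t = t * g) (h2 : g * v2 ^ 2 = v2 ^ 2 * g)
    (h3 : g * v3 ^ 2 = v3 ^ 2 * g) : g ∈ M := by
  obtain ⟨e1, e2, e3⟩ := W_special F
  have key : ∀ v ∈ V, Commute g v := by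
    intro v hv
    obtain ⟨x, hx, rfl⟩ := V_coords S F hv
    obtain ⟨i, j, k, rfl⟩ := V_comb x hx
    simp only [W_add F, W_nsmul F, e1, e2, e3]
    exact ((Commute.pow_right h1 _).mul_right (Commute.pow_right h2 _)).mul_right
      (Commute.pow_right h3 _)
  rw [S.hM, mem_normalizer_iff]
  intro v
  constructor
  · intro hv; rwa [(key v hv).eq, mul_inv_cancel_right]
  · intro hv
    have := (key _ hv).eq
    have e : g * v * g⁻¹ = v := by
      calc g * v * g⁻¹ = g⁻¹ * (g * (g * v * g⁻¹)) := by group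
        _ = g⁻¹ * (g * v * g⁻¹ * g) := by rw [this]
        _ = v := by group
    rwa [e] at hv

theorem linW_zero : ∀ w : List Bool, linW w (0, 0, 0) = (0, 0, 0)
  | [] => rfl
  | e :: w => by
    show (if e then linA else linB) (linW w (0, 0, 0)) = _
    rw [linW_zero w]; cases e <;> rfl

section
variable (F : HSFrame28.RFrame t M R Cy c v2 v3 a b)
include F

theorem wA_eq : HSFrame28.wA a b = b * HSFrame28.wB a b * b⁻¹ := by
  unfold HSFrame28.wB; group

theorem cent_R (S : HSFrame28.Setting t H R Cy E V M) {g : G} (hc : g * c = c * g)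
    (h1 : g * v3 ^ 2 = v3 ^ 2 * g) (h2 : Commute g (b * v3 ^ 2 * b⁻¹))
    (hB : g * HSFrame28.wB a b = HSFrame28.wB a b * g)
    (hA : g * HSFrame28.wA a b = HSFrame28.wA a b * g) : ∃ n : ℕ, g = c ^ n := by
  have F' := F.toMFrame
  have hq : v3 ^ 2 ∈ M := pow_mem (v3_mem F) 2
  have hq2 : b * v3 ^ 2 * b⁻¹ ∈ M :=
    mul_mem (mul_mem (mem_b F') hq) (inv_mem (mem_b F'))
  have hv2 : v2 ^ 2 = t * (b * v3 ^ 2 * b⁻¹) :=
    eq_of_act F' (g := ⟨_, pow_mem (v2_mem F) 2⟩) (h := ⟨t, t_mem F⟩ * ⟨_, hq2⟩) (by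
      rw [map_mul, act_v2sq F, act_t F, act_q2 F]; exact prod_data.1)
  have ht : Commute g t := by rw [← F.c_sq]; exact Commute.pow_right hc _
  have hv : g * v2 ^ 2 = v2 ^ 2 * g := by rw [hv2]; exact (ht.mul_right h2).eq
  have hg : g ∈ M := mem_M_of S F' ht hv h1
  obtain ⟨x, l, hl, hgx⟩ := decomp F' hg
  have hlM : l ∈ M := compl_le F' hl
  obtain ⟨w, hw, hwl⟩ := compl_act F' hl hlM
  have hact : act F' ⟨g, hg⟩ = trans x * linW w := by
    rw [← hwl, ← act_W F' x, ← map_mul]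
    exact congrArg _ (Subtype.ext hgx)
  have comm : ∀ {y : G} (hy : y ∈ M) {σ : Equiv.Perm Vec}, g * y = y * g →
      act F' ⟨y, hy⟩ = σ → act F' ⟨g, hg⟩ * σ = σ * act F' ⟨g, hg⟩ := by
    intro y hy σ e h
    rw [← h, ← map_mul, ← map_mul]
    exact congrArg _ (Subtype.ext e)
  have fixv : ∀ z : Vec, act F' ⟨g, hg⟩ * trans z = trans z * act F' ⟨g, hg⟩ →
      linW w z = z := by
    intro z e
    have := Equiv.congr_fun e (0, 0, 0)
    simp only [hact, Equiv.Perm.mul_apply] at this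
    have e0 : (HSModel28.trans z : Vec → Vec) (0, 0, 0) = z := add_zero z
    rw [e0, linW_zero] at this
    have e1 : (HSModel28.trans x : Vec → Vec) (linW w z) = x + linW w z := rfl
    have e2 : (HSModel28.trans z : Vec → Vec) ((HSModel28.trans x : Vec → Vec) (0, 0, 0)) = z + (x + 0) := rfl
    rw [e1, e2, add_zero, add_comm z] at this
    exact add_left_cancel this
  have hw1 : linW w = 1 := cent_words w hw (fixv _ (comm (t_mem F) ht.eq (act_t F _)))
    (fixv _ (comm (pow_mem (v2_mem F) 2) hv (act_v2sq F _)))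
    (fixv _ (comm hq h1 (act_q1 F _)))
  rw [hw1, mul_one] at hact
  obtain ⟨m1, m2, -, -⟩ := mem_words F'
  have kA := comm m1 hA (act_wA F' _)
  have kB := comm m2 hB (act_wB F' _)
  rw [hact] at kA kB
  obtain ⟨z1, z2⟩ := cent_trans2 x kB kA
  refine ⟨x.1.val, eq_of_act F' (g := ⟨g, hg⟩) (h := ⟨_, pow_mem (c_mem F) _⟩) ?_⟩
  rw [hact]
  refine (act_trans F' _ x ?_).symm
  show c ^ x.1.val = W x
  simp [vA, z1, z2]

theorem conj_q1_cases (S : HSFrame28.Setting t H R Cy E V M) {u : G}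
    (U : HSFrame28.UBase t M c b u) :
    u * v3 ^ 2 * u⁻¹ = HSFrame28.wB a b ∨
      u * v3 ^ 2 * u⁻¹ = W (2, 0, 2) * HSFrame28.wB a b := by
  have F' := F.toMFrame
  obtain ⟨e1, e2, e3⟩ := W_special F'
  have hu : u ∈ H := (mem_H S).2 U.u_t
  have hui : u⁻¹ = u := inv_eq_of_mul_eq_one_right (by rw [← sq]; exact U.u_two)
  have hq : v3 ^ 2 ∈ M := pow_mem (v3_mem F) 2
  have hqR : v3 ^ 2 ∈ R := by rw [F.two_core]; exact subset_closure (by simp)
  have hrR := conj_R S hu hqR
  set r := u * v3 ^ 2 * u⁻¹ with hr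
  have hb := mem_b F'
  have hrM : r ∈ M := R_le_M F hrR
  obtain ⟨e, he⟩ := R_coords F hrR
  have hae : act F' ⟨r, hrM⟩ = enc e := by
    rw [← act_el F e]; exact congrArg _ (Subtype.ext he)
  have hq2 : v3 ^ 2 * v3 ^ 2 = 1 := by rw [← pow_add]; exact F.v3_four
  have hr2 : r * r = 1 := by
    calc r * r = u * (v3 ^ 2 * v3 ^ 2) * u⁻¹ := by rw [hr]; group
      _ = 1 := by rw [hq2]; group
  have hbr : u * (b * v3 ^ 2 * b⁻¹) * u⁻¹ = b * r * b⁻¹ := by
    have hub' : u * b⁻¹ = b⁻¹ * u := (Commute.inv_right U.u_b : _)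
    calc u * (b * v3 ^ 2 * b⁻¹) * u⁻¹ = (u * b) * v3 ^ 2 * (u * b)⁻¹ := by group
      _ = _ := by rw [U.u_b, hr]; group
  have hee : enc e * enc e = 1 := by
    rw [← hae, ← map_mul, ← map_one (act F')]
    exact congrArg _ (Subtype.ext hr2)
  rcases cand_data e hee with ⟨z1, z2, z3⟩ | hcand
  · exfalso
    refine U.not_mem ?_
    have hrW : ∃ x : Vec, x + x = 0 ∧ r = W x := by
      refine ⟨(((e.1.val : ZMod 4) + 2 * (e.2.2.1.val : ZMod 4), 2 * (e.2.2.1.val : ZMod 4),
        2 * (e.2.1.val : ZMod 4)) : Vec), ?_, ?_⟩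
      · revert z1 z2 z3
        generalize e = e'
        revert e'
        decide +kernel
      · refine eq_of_act F' (g := ⟨r, hrM⟩) (h := ⟨_, W_mem F' _⟩) ?_
        rw [hae, act_W]
        revert z1 z2 z3
        generalize e = e'
        revert e'
        decide +kernel
    obtain ⟨x, hx, hrx⟩ := hrW
    have hrV : r ∈ V := hrx ▸ V_mem S F' hx
    have hbV : ∀ v ∈ V, b * v * b⁻¹ ∈ V := fun v hv => by
      have := hb; rw [S.hM, mem_normalizer_iff] at this; exact (this v).1 hv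
    have htV : t ∈ V := by rw [← e1]; exact V_mem S F' (by decide)
    have hconj : ∀ v ∈ V, u * v * u⁻¹ ∈ V := by
      intro v hv
      obtain ⟨y, hy, rfl⟩ := V_coords S F' hv
      obtain ⟨i, j, k, rfl⟩ := V_comb y hy
      rw [W_add F', W_add F', W_nsmul F', W_nsmul F', W_nsmul F', e1, e2, e3]
      have ht' : u * t * u⁻¹ ∈ V := by
        rw [U.u_t, mul_inv_cancel_right]; exact htV
      have hv2' : u * v2 ^ 2 * u⁻¹ ∈ V := by
        have : v2 ^ 2 = t * (b * v3 ^ 2 * b⁻¹) :=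
          eq_of_act F' (g := ⟨_, pow_mem (v2_mem F) 2⟩)
            (h := ⟨t, t_mem F⟩ * ⟨_, mul_mem (mul_mem hb hq) (inv_mem hb)⟩) (by
              rw [map_mul, act_v2sq F, act_t F, act_q2 F]; exact prod_data.1)
        rw [this, ← conj_mul, hbr]
        exact mul_mem ht' (hbV r hrV)
      have hp : ∀ g : G, u * g * u⁻¹ ∈ V → ∀ n : ℕ, u * g ^ n * u⁻¹ ∈ V := fun g hg n => by
        rw [← conj_pow]; exact pow_mem hg n
      rw [← conj_mul, ← conj_mul]
      exact mul_mem (mul_mem (hp _ ht' _) (hp _ hv2' _)) (hp _ hrV _)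
    rw [S.hM, mem_normalizer_iff]
    intro v
    refine ⟨hconj v, fun hv => ?_⟩
    have := hconj _ hv
    rw [hui] at this
    rwa [show u * (u * v * u) * u = (u * u) * v * (u * u) by group, ← sq, U.u_two, one_mul,
      mul_one] at this
  · have hbrM : b * r * b⁻¹ ∈ M := mul_mem (mul_mem hb hrM) (inv_mem hb)
    have hab : act F' ⟨_, hbrM⟩ = cB (enc e) := by
      show _ = linB * enc e * linB⁻¹
      rw [← hae, ← act_b F' hb]
      simp only [← map_inv, ← map_mul]
      rfl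
    have hbbM : b * (b * r * b⁻¹) * b⁻¹ ∈ M := mul_mem (mul_mem hb hbrM) (inv_mem hb)
    have habb : act F' ⟨_, hbbM⟩ = cB (cB (enc e)) := by
      show _ = linB * cB (enc e) * linB⁻¹
      rw [← hab, ← act_b F' hb]
      simp only [← map_inv, ← map_mul]
      rfl
    have hQ2 : b * v3 ^ 2 * b⁻¹ ∈ M := mul_mem (mul_mem hb hq) (inv_mem hb)
    have hprod : enc e * cB (enc e) * cB (cB (enc e)) = 1 := by
      have e0 : v3 ^ 2 * (b * v3 ^ 2 * b⁻¹) * (b * (b * v3 ^ 2 * b⁻¹) * b⁻¹) = 1 :=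
        eq_of_act F' (g := ⟨_, hq⟩ * ⟨_, hQ2⟩ * (⟨b, hb⟩ * ⟨_, hQ2⟩ * (⟨b, hb⟩ : M)⁻¹)) (h := 1)
          (by rw [map_mul, map_mul, map_mul, map_mul, map_inv, act_q1 F, act_q2 F, act_b F',
            map_one]; decide +kernel)
      have e1' : r * (b * r * b⁻¹) * (b * (b * r * b⁻¹) * b⁻¹) = 1 := by
        have hub : u * b * u⁻¹ = b := by rw [U.u_b, mul_inv_cancel_right]
        have hubi : u * b⁻¹ * u⁻¹ = b⁻¹ := by rw [← conj_inv, hub]
        calc r * (b * r * b⁻¹) * (b * (b * r * b⁻¹) * b⁻¹)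
            = u * (v3 ^ 2 * (b * v3 ^ 2 * b⁻¹) * (b * (b * v3 ^ 2 * b⁻¹) * b⁻¹)) * u⁻¹ := by
              simp only [← conj_mul, hub, hubi, hbr, ← hr]
          _ = 1 := by rw [e0]; group
      rw [← habb, ← hab, ← hae, ← map_mul, ← map_mul, ← map_one (act F')]
      exact congrArg _ (Subtype.ext e1')
    obtain ⟨hK, hKe⟩ := hcand hprod
    have htM := t_mem F
    have hKM : v3 ^ 2 * (b * r * b⁻¹) * v3 ^ 2 * (b * r * b⁻¹) ∈ M :=
      mul_mem (mul_mem (mul_mem hq hbrM) hq) hbrM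
    have hKact : act F' ⟨_, hKM⟩ =
        HSModel28.trans (0, 0, 2) * cB (enc e) * HSModel28.trans (0, 0, 2) * cB (enc e) := by
      rw [← hab, ← act_q1 F hq]
      simp only [← map_mul]
      rfl
    have hKfix : u * (v3 ^ 2 * (b * r * b⁻¹) * v3 ^ 2 * (b * r * b⁻¹)) * u⁻¹ =
        v3 ^ 2 * (b * r * b⁻¹) * v3 ^ 2 * (b * r * b⁻¹) := by
      rcases hK with hK | hK
      · rw [show v3 ^ 2 * (b * r * b⁻¹) * v3 ^ 2 * (b * r * b⁻¹) = 1 from
          eq_of_act F' (g := ⟨_, hKM⟩) (h := 1) (by rw [hKact, map_one, hK])]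
        group
      · rw [show v3 ^ 2 * (b * r * b⁻¹) * v3 ^ 2 * (b * r * b⁻¹) = t from
          eq_of_act F' (g := ⟨_, hKM⟩) (h := ⟨t, htM⟩) (by rw [hKact, act_t F, hK]),
          U.u_t, mul_inv_cancel_right]
    have hur : u * (b * r * b⁻¹) * u⁻¹ = b * v3 ^ 2 * b⁻¹ := by
      rw [← hbr, hui]
      calc u * (u * (b * v3 ^ 2 * b⁻¹) * u) * u = (u * u) * (b * v3 ^ 2 * b⁻¹) * (u * u) := by group
        _ = _ := by rw [← sq, U.u_two, one_mul, mul_one]
    have hK2 : u * (v3 ^ 2 * (b * r * b⁻¹) * v3 ^ 2 * (b * r * b⁻¹)) * u⁻¹ =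
        r * (b * v3 ^ 2 * b⁻¹) * r * (b * v3 ^ 2 * b⁻¹) :=
      conj_pair (conj_pair (conj_pair hr.symm hur) hr.symm) hur
    have hKeq : HSModel28.trans (0, 0, 2) * cB (enc e) * HSModel28.trans (0, 0, 2) * cB (enc e) =
        enc e * HSModel28.trans (2, 2, 0) * enc e * HSModel28.trans (2, 2, 0) := by
      rw [← hKact, ← hae, ← act_q2 F hQ2]
      simp only [← map_mul]
      exact congrArg _ (Subtype.ext (hKfix.symm.trans hK2))
    obtain ⟨-, m2, -, -⟩ := mem_words F'
    rcases hKe hKeq with h | h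
    · left
      exact eq_of_act F' (g := ⟨r, hrM⟩) (h := ⟨_, m2⟩) (by rw [hae, act_wB, h])
    · right
      exact eq_of_act F' (g := ⟨r, hrM⟩) (h := ⟨_, W_mem F' (2, 0, 2)⟩ * ⟨_, m2⟩)
        (by rw [hae, map_mul, act_wB, act_W, h])

end

theorem linA_shift : ∀ x : Vec, linA * HSModel28.trans x = HSModel28.trans (linA x) * linA := by
  decide +kernel

theorem linB_shift : ∀ x : Vec, linB * HSModel28.trans x = HSModel28.trans (linB x) * linB := by
  decide +kernel

theorem trans_add (x y : Vec) :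
    HSModel28.trans x * HSModel28.trans y = HSModel28.trans (x + y) :=
  Equiv.ext fun v => (add_assoc x y v).symm

section
variable (F : HSFrame28.RFrame t M R Cy c v2 v3 a b)
include F

theorem twist_frame : HSFrame28.RFrame t M R Cy c v2 v3 (v2 ^ 2 * a) b ∧
    HSFrame28.wB (v2 ^ 2 * a) b = W (2, 0, 2) * HSFrame28.wB a b := by
  have F' := F.toMFrame
  obtain ⟨d1, d2, d3, d4, d5, d6, dA, dB, dS⟩ := twist_data
  obtain ⟨m1, m2, m3, -⟩ := mem_words F'
  obtain ⟨-, e2, -⟩ := W_special F'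
  have hv := pow_mem (v2_mem F) 2
  have ha := mem_a F'
  have hb := mem_b F'
  have ha' : v2 ^ 2 * a ∈ M := mul_mem hv ha
  let A₁ : M := ⟨v2 ^ 2 * a, ha'⟩
  let B₁ : M := ⟨b, hb⟩
  have hA : act F' A₁ = A' := by
    rw [show A₁ = ⟨_, hv⟩ * ⟨a, ha⟩ from rfl, map_mul, act_v2sq F, act_a F']
  have hB : act F' B₁ = linB := act_b F' hb
  have p1 : A₁ * A₁ = 1 := act_injective F' (by rw [map_mul, hA, map_one]; exact d1)
  have p2 : (A₁ * B₁) ^ 7 = 1 := act_injective F' (by rw [map_pow, map_mul, hA, hB, map_one]; exact d2)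
  have p3 : (A₁ * B₁⁻¹ * A₁ * B₁) ^ 4 = 1 := act_injective F' (by
    rw [map_pow, map_mul, map_mul, map_mul, map_inv, hA, hB, map_one]; exact d3)
  have pc : A₁ * ⟨c, c_mem F⟩ * A₁⁻¹ = ⟨v3, v3_mem F⟩ := act_injective F' (by
    rw [map_mul, map_mul, map_inv, hA, act_c F', act_v3 F']; exact d4)
  have p4 : A₁ * ⟨v2, v2_mem F⟩ * A₁⁻¹ = (⟨v2, v2_mem F⟩ : M)⁻¹ := act_injective F' (by
    rw [map_mul, map_mul, map_inv, hA, map_inv, act_v2 F']; exact d5)
  have p5 : A₁ * ⟨v3, v3_mem F⟩ * A₁⁻¹ = ⟨c, c_mem F⟩ := act_injective F' (by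
    rw [map_mul, map_mul, map_inv, hA, act_c F', act_v3 F']; exact d6)
  have hwA : HSFrame28.wA (v2 ^ 2 * a) b = v2 ^ 2 * HSFrame28.wA a b := by
    have : HSFrame28.wA A₁ B₁ = ⟨_, hv⟩ * ⟨_, m1⟩ := act_injective F' (by
      rw [map_mul (act F') ⟨_, hv⟩, act_v2sq F, act_wA F']
      simp only [HSFrame28.wA, map_mul, map_inv, hA, hB]
      exact dA)
    exact congrArg Subtype.val this
  have hwB : HSFrame28.wB (v2 ^ 2 * a) b = W (2, 0, 2) * HSFrame28.wB a b := by
    have : HSFrame28.wB A₁ B₁ = ⟨_, W_mem F' (2, 0, 2)⟩ * ⟨_, m2⟩ := act_injective F' (by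
      rw [map_mul (act F') ⟨_, W_mem F' _⟩, act_W F', act_wB F']
      simp only [HSFrame28.wA, HSFrame28.wB, map_mul, map_inv, hA, hB]
      exact dB)
    exact congrArg Subtype.val this
  have hs0 : HSFrame28.s0 (v2 ^ 2 * a) b = t * HSFrame28.s0 a b := by
    have : HSFrame28.s0 A₁ B₁ = ⟨_, t_mem F⟩ * ⟨_, m3⟩ := act_injective F' (by
      rw [map_mul (act F') ⟨_, t_mem F⟩, act_t F, act_s0 F']
      simp only [HSFrame28.s0, map_mul, map_inv, hA, hB]
      exact dS)
    exact congrArg Subtype.val this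
  have hW202 : W (2, 0, 2) = t * v3 ^ 2 := by
    rw [show ((2, 0, 2) : Vec) = (2, 0, 0) + (0, 0, 2) by decide, W_add F',
      (W_special F').1, (W_special F').2.2]
  have hgen : M = closure ({c, v2, v3, v2 ^ 2 * a, b} : Set G) := by
    refine le_antisymm ?_ ?_
    · conv_lhs => rw [F.gen]
      rw [closure_le]
      have h1 : v2 ∈ closure ({c, v2, v3, v2 ^ 2 * a, b} : Set G) := subset_closure (by simp)
      have h2 : v2 ^ 2 * a ∈ closure ({c, v2, v3, v2 ^ 2 * a, b} : Set G) :=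
        subset_closure (by simp)
      have h3 : a ∈ closure ({c, v2, v3, v2 ^ 2 * a, b} : Set G) := by
        simpa using mul_mem (inv_mem (pow_mem h1 2)) h2
      intro y hy
      simp only [Set.mem_insert_iff, Set.mem_singleton_iff] at hy
      rcases hy with e | e | e | e | e <;> rw [e]
      exacts [subset_closure (by simp), h1, subset_closure (by simp), h3, subset_closure (by simp)]
    · rw [closure_le]
      rintro y (rfl | rfl | rfl | rfl | rfl)
      exacts [c_mem F, v2_mem F, v3_mem F, ha', hb]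
  -- the new complement
  obtain ⟨hfin, hle168⟩ := HSRecog71Pres.card_le (a := v2 ^ 2 * a) (b := b)
    (by rw [← sq] at p1; exact congrArg Subtype.val p1) (by exact F.b_three)
    (congrArg Subtype.val p2) (congrArg Subtype.val p3)
  have hsub : closure ({v2 ^ 2 * a, b} : Set G) ≤ M := by
    rw [closure_le]; rintro y (rfl | rfl); exacts [ha', hb]
  let incl : (closure ({v2 ^ 2 * a, b} : Set G) : Subgroup G) →* M := Subgroup.inclusion hsub
  have hreach : ∀ w : List Bool, ∃ l x, act F' (incl l) = HSModel28.trans x * linW w := by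
    intro w
    induction w with
    | nil => exact ⟨1, 0, by rw [map_one, map_one, linW, mul_one]; exact Equiv.ext fun v => (zero_add v).symm⟩
    | cons e w ih =>
      obtain ⟨l, x, hl⟩ := ih
      cases e
      · refine ⟨⟨b, subset_closure (by simp)⟩ * l, linB x, ?_⟩
        rw [map_mul, map_mul, hl, show incl ⟨b, _⟩ = B₁ from rfl, hB, ← mul_assoc, linB_shift,
          mul_assoc]
        rfl
      · refine ⟨⟨v2 ^ 2 * a, subset_closure (by simp)⟩ * l, (0, 2, 0) + linA x, ?_⟩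
        rw [map_mul, map_mul, hl, show incl ⟨v2 ^ 2 * a, _⟩ = A₁ from rfl, hA, ← trans_add]
        show HSModel28.trans (0, 2, 0) * linA * (HSModel28.trans x * linW w) = _
        rw [mul_assoc (HSModel28.trans (0, 2, 0)), ← mul_assoc linA, linA_shift, mul_assoc,
          mul_assoc]
        rfl
  choose pick px hpick using hreach
  let f : Fin words.length → (closure ({v2 ^ 2 * a, b} : Set G) : Subgroup G) :=
    fun i => pick words[i.1]
  have hlin : ∀ i k : Fin words.length, ∀ x y : Vec,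
      HSModel28.trans x * linW words[i.1] = HSModel28.trans y * linW words[k.1] → i = k ∧ x = y := by
    intro i k x y e
    have h0 := Equiv.congr_fun e (0, 0, 0)
    simp only [Equiv.Perm.mul_apply, linW_zero] at h0
    have hxy : x = y := by
      have h0' : x + (0, 0, 0) = y + (0, 0, 0) := h0
      exact add_right_cancel h0'
    subst hxy
    exact ⟨index_inj F' i k (mul_left_cancel e), rfl⟩
  have hf : Function.Injective f := fun i k h =>
    (hlin i k _ _ (by rw [← hpick, ← hpick]; exact congrArg _ (congrArg incl h))).1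
  haveI := hfin
  have hbij : Function.Bijective f := hf.bijective_of_nat_card_le (by
    rw [Nat.card_fin, words_length]; exact hle168)
  refine ⟨{
    toMFrame := {
      core := F.core
      gen := hgen
      disj := ?_
      card_core := F.card_core
      card_compl := by rw [← Nat.card_eq_of_bijective f hbij, Nat.card_fin, words_length]
      c_sq := F.c_sq
      c_four := F.c_four
      v2_four := F.v2_four
      v3_four := F.v3_four
      comm_c_v2 := F.comm_c_v2
      comm_c_v3 := F.comm_c_v3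
      comm_v2_v3 := F.comm_v2_v3
      a_two := by rw [← sq] at p1; exact congrArg Subtype.val p1
      b_three := F.b_three
      ab_seven := congrArg Subtype.val p2
      comm_four := congrArg Subtype.val p3
      a_c := congrArg Subtype.val pc
      a_v2 := congrArg Subtype.val p4
      a_v3 := congrArg Subtype.val p5
      b_c := F.b_c
      b_v2 := F.b_v2
      b_v3 := F.b_v3 }
    cy := F.cy
    two_core := ?_
    mem_inf := fun g hg => ?_ }, hwB⟩
  · rw [eq_bot_iff]
    rintro g ⟨hg1, hg2⟩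
    obtain ⟨z, hz⟩ := (mem_core F').1 hg2
    obtain ⟨i, hi⟩ := hbij.2 ⟨g, hg1⟩
    obtain ⟨k, hk⟩ := hbij.2 1
    have hgM : g ∈ M := hsub hg1
    have hi' : incl (f i) = ⟨g, hgM⟩ := by rw [hi]; rfl
    have ez : act F' ⟨g, hgM⟩ = HSModel28.trans z := act_trans F' _ z hz.symm
    have hk1 : HSModel28.trans (px words[k.1]) * linW words[k.1] = 1 := by
      rw [← hpick]; show act F' (incl (f k)) = 1; rw [hk, map_one, map_one]
    have hi1 : HSModel28.trans (px words[i.1]) * linW words[i.1] = HSModel28.trans z := by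
      rw [← hpick]; show act F' (incl (f i)) = _; rw [hi', ez]
    have : HSModel28.trans (z + px words[k.1]) * linW words[k.1] =
        HSModel28.trans (px words[i.1]) * linW words[i.1] := by
      rw [← trans_add, mul_assoc, hk1, mul_one, hi1]
    obtain ⟨hki, -⟩ := hlin _ _ _ _ this
    rw [mem_bot]
    have := hi
    rw [← hki, hk] at this
    exact (congrArg Subtype.val this).symm
  · rw [hwA, hwB, F.two_core, hW202]
    set a1 := HSFrame28.wA a b
    set b1 := HSFrame28.wB a b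
    refine le_antisymm ((closure_le _).2 ?_) ((closure_le _).2 ?_)
    · have hc : c ∈ closure ({c, v2 ^ 2, v3 ^ 2, v2 ^ 2 * a1, t * v3 ^ 2 * b1} : Set G) :=
        subset_closure (by simp)
      have h2 : v2 ^ 2 ∈ closure ({c, v2 ^ 2, v3 ^ 2, v2 ^ 2 * a1, t * v3 ^ 2 * b1} : Set G) :=
        subset_closure (by simp)
      have h3 : v3 ^ 2 ∈ closure ({c, v2 ^ 2, v3 ^ 2, v2 ^ 2 * a1, t * v3 ^ 2 * b1} : Set G) :=
        subset_closure (by simp)
      have h4 : v2 ^ 2 * a1 ∈ closure ({c, v2 ^ 2, v3 ^ 2, v2 ^ 2 * a1, t * v3 ^ 2 * b1} : Set G) :=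
        subset_closure (by simp)
      have h5 : t * v3 ^ 2 * b1 ∈
          closure ({c, v2 ^ 2, v3 ^ 2, v2 ^ 2 * a1, t * v3 ^ 2 * b1} : Set G) :=
        subset_closure (by simp)
      rintro y (rfl | rfl | rfl | rfl | rfl)
      · exact hc
      · exact h2
      · exact h3
      · simpa using mul_mem (inv_mem h2) h4
      · have ht := pow_mem hc 2
        rw [F.c_sq] at ht
        simpa [mul_assoc] using mul_mem (inv_mem (mul_mem ht h3)) h5
    · have hc : c ∈ closure ({c, v2 ^ 2, v3 ^ 2, a1, b1} : Set G) := subset_closure (by simp)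
      have ht := pow_mem hc 2
      rw [F.c_sq] at ht
      have h2 : v2 ^ 2 ∈ closure ({c, v2 ^ 2, v3 ^ 2, a1, b1} : Set G) := subset_closure (by simp)
      have h3 : v3 ^ 2 ∈ closure ({c, v2 ^ 2, v3 ^ 2, a1, b1} : Set G) := subset_closure (by simp)
      rintro y (rfl | rfl | rfl | rfl | rfl)
      · exact hc
      · exact h2
      · exact h3
      · exact mul_mem h2 (subset_closure (by simp))
      · exact mul_mem (mul_mem ht h3) (subset_closure (by simp))
  · rw [F.mem_inf g hg, hwA, hs0]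
    set a1 := HSFrame28.wA a b
    set s1 := HSFrame28.s0 a b
    suffices h : closure ({c, v2, v3, b, a1, s1} : Set G) =
        closure ({c, v2, v3, b, v2 ^ 2 * a1, t * s1} : Set G) by rw [h]
    refine le_antisymm ((closure_le _).2 ?_) ((closure_le _).2 ?_)
    · have h2 : v2 ∈ closure ({c, v2, v3, b, v2 ^ 2 * a1, t * s1} : Set G) := subset_closure (by simp)
      have hc : c ∈ closure ({c, v2, v3, b, v2 ^ 2 * a1, t * s1} : Set G) := subset_closure (by simp)
      have ht := pow_mem hc 2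
      rw [F.c_sq] at ht
      have h4 : v2 ^ 2 * a1 ∈ closure ({c, v2, v3, b, v2 ^ 2 * a1, t * s1} : Set G) :=
        subset_closure (by simp)
      have h5 : t * s1 ∈ closure ({c, v2, v3, b, v2 ^ 2 * a1, t * s1} : Set G) :=
        subset_closure (by simp)
      rintro y (rfl | rfl | rfl | rfl | rfl | rfl)
      · exact hc
      · exact h2
      · exact subset_closure (by simp)
      · exact subset_closure (by simp)
      · simpa using mul_mem (inv_mem (pow_mem h2 2)) h4
      · simpa using mul_mem (inv_mem ht) h5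
    · have h2 : v2 ∈ closure ({c, v2, v3, b, a1, s1} : Set G) := subset_closure (by simp)
      have hc : c ∈ closure ({c, v2, v3, b, a1, s1} : Set G) := subset_closure (by simp)
      have ht := pow_mem hc 2
      rw [F.c_sq] at ht
      rintro y (rfl | rfl | rfl | rfl | rfl | rfl)
      · exact hc
      · exact h2
      · exact subset_closure (by simp)
      · exact subset_closure (by simp)
      · exact mul_mem (pow_mem h2 2) (subset_closure (by simp))
      · exact mul_mem ht (subset_closure (by simp))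

end

section
variable (S : HSFrame28.Setting t H R Cy E V M) (F : HSFrame28.RFrame t M R Cy c v2 v3 a b)
include S F

/-- A correctly placed involution has exact relations after translation by an element of `⟨c⟩`. -/
theorem complete {u : G} (U : HSFrame28.UBase t M c b u)
    (hr : u * v3 ^ 2 * u⁻¹ = HSFrame28.wB a b) :
    ∃ u', HSFrame28.UFrame t M R Cy c v2 v3 a b u' := by
  have F' := F.toMFrame
  have hui : u⁻¹ = u := inv_eq_of_mul_eq_one_right (by rw [← sq]; exact U.u_two)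
  obtain ⟨mA, mB, mS, m3⟩ := mem_words F'
  obtain ⟨s1, s2, s3', s4, s5, s6⟩ := s0_data
  obtain ⟨t1, t2, t3, t4⟩ := s3_data
  have hb := mem_b F'
  have hq := pow_mem (v3_mem F) 2
  -- identities in M
  let S₁ : M := ⟨_, mS⟩
  let T₁ : M := ⟨_, m3⟩
  let C₁ : M := ⟨c, c_mem F⟩
  have aS : act F' S₁ = PS := act_s0 F' mS
  have aT : act F' T₁ = P3 := act_s3 F' m3
  have aC : act F' C₁ = HSModel28.trans (1, 0, 0) := act_c F' _
  set σ := HSFrame28.s0 a b with hσ
  set τ := HSFrame28.s3 v3 a b with hτ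
  have hss : σ * σ = 1 := congrArg Subtype.val
    (act_injective F' (by rw [map_mul, map_one, aS]; exact s1) : S₁ * S₁ = 1)
  have htt : τ * τ = 1 := congrArg Subtype.val
    (act_injective F' (by rw [map_mul, map_one, aT]; exact t1) : T₁ * T₁ = 1)
  have hst : τ * σ = σ * τ := congrArg Subtype.val
    (act_injective F' (by rw [map_mul, map_mul, aT, aS]; exact t2) : T₁ * S₁ = S₁ * T₁)
  have hc3 : c⁻¹ = c ^ 3 := inv_eq_of_mul_eq_one_right (by rw [← pow_succ']; exact F.c_four)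
  have a300 : act F' (C₁ ^ 3) = HSModel28.trans (3, 0, 0) := by
    rw [map_pow, aC]; decide +kernel
  have hsc : σ * c * σ⁻¹ = c⁻¹ := by
    rw [hc3]
    exact congrArg Subtype.val
      (act_injective F' (by rw [map_mul, map_mul, map_inv, aS, aC, a300]; exact s2) :
        S₁ * C₁ * S₁⁻¹ = C₁ ^ 3)
  have htc : τ * c * τ⁻¹ = c⁻¹ := by
    rw [hc3]
    exact congrArg Subtype.val
      (act_injective F' (by rw [map_mul, map_mul, map_inv, aT, aC, a300]; exact t3) :
        T₁ * C₁ * T₁⁻¹ = C₁ ^ 3)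
  have hsq : σ * v3 ^ 2 = v3 ^ 2 * σ := congrArg Subtype.val
    (act_injective F' (by rw [map_mul, map_mul, aS, act_q1 F]; exact s3') :
      S₁ * ⟨_, hq⟩ = ⟨_, hq⟩ * S₁)
  have hsB : σ * HSFrame28.wB a b = HSFrame28.wB a b * σ := congrArg Subtype.val
    (act_injective F' (by rw [map_mul, map_mul, aS, act_wB F']; exact s4) :
      S₁ * ⟨_, mB⟩ = ⟨_, mB⟩ * S₁)
  have hsb : σ * b = b⁻¹ * σ := congrArg Subtype.val
    (act_injective F' (by rw [map_mul, map_mul, map_inv, aS, act_b F']; exact s5) :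
      S₁ * ⟨b, hb⟩ = (⟨b, hb⟩ : M)⁻¹ * S₁)
  have hwA : HSFrame28.wA a b = b * HSFrame28.wB a b * b⁻¹ := wA_eq F
  -- action of u
  have Uc := U.u_c
  have Ub : u * b * u⁻¹ = b := by rw [U.u_b, mul_inv_cancel_right]
  have Ubi : u * b⁻¹ * u⁻¹ = b⁻¹ := by rw [← conj_inv, Ub]
  have Uw1 : u * HSFrame28.wB a b * u⁻¹ = v3 ^ 2 := by
    rw [← hr, hui]
    calc u * (u * v3 ^ 2 * u) * u = (u * u) * v3 ^ 2 * (u * u) := by group
      _ = _ := by rw [← sq, U.u_two, one_mul, mul_one]
  have Uq2 : u * (b * v3 ^ 2 * b⁻¹) * u⁻¹ = HSFrame28.wA a b := by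
    rw [hwA]; exact conj_pair (conj_pair Ub hr) Ubi
  have Uw2 : u * HSFrame28.wA a b * u⁻¹ = b * v3 ^ 2 * b⁻¹ := by
    rw [hwA]; exact conj_pair (conj_pair Ub Uw1) Ubi
  have Ue : ∀ e : RI, u * elG c v3 a b e * u⁻¹ = elG c v3 a b (uE e) := by
    intro e
    show u * el c (v3 ^ 2) (b * v3 ^ 2 * b⁻¹) _ _ e * u⁻¹ = _
    rw [el_conj, Uc, hr, Uq2, Uw1, Uw2, hc3]
    have hq2 : b * v3 ^ 2 * b⁻¹ ∈ M := mul_mem (mul_mem hb hq) (inv_mem hb)
    have : el (C₁ ^ 3) ⟨_, mB⟩ ⟨_, mA⟩ ⟨_, hq⟩ ⟨_, hq2⟩ e = (⟨_, el_mem F (uE e)⟩ : M) :=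
      act_injective F' (by
        rw [el_map, act_el F, uE_ok, a300, act_wB F', act_wA F', act_q1 F, act_q2 F]; rfl)
    have h2 := congrArg M.subtype this
    rw [el_map] at h2
    exact h2
  have Te : ∀ e : RI, τ * elG c v3 a b e * τ⁻¹ = elG c v3 a b (wE e) := fun e =>
    congrArg Subtype.val
      (act_injective F' (by rw [map_mul, map_mul, map_inv, aT, act_el F, act_el F, wE_ok]) :
        T₁ * ⟨_, el_mem F e⟩ * T₁⁻¹ = ⟨_, el_mem F (wE e)⟩)
  have Qe : ∀ e : RI, (τ * u) * elG c v3 a b e * (τ * u)⁻¹ = elG c v3 a b (wE (uE e)) :=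
    fun e => conj_comp (Ue e) (Te _)
  -- the braid element
  have hg : ∀ e ∈ basisRI, Commute ((τ * u) ^ 3) (elG c v3 a b e) := by
    intro e he
    refine comm_of_conj ?_
    have h3 : (τ * u) ^ 3 = (τ * u) * ((τ * u) * (τ * u)) := by rw [pow_succ, pow_two, mul_assoc]
    rw [h3]
    refine (conj_comp (conj_comp (Qe e) (Qe _)) (Qe _)).trans ?_
    rw [cycle_data e he]
  have hb0 : ∀ {i : Fin 4} {j k l m : Fin 2} {x : G}, (i, j, k, l, m) ∈ basisRI →
      elG c v3 a b (i, j, k, l, m) = x → Commute ((τ * u) ^ 3) x := fun h e => e ▸ hg _ h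
  obtain ⟨n, hn⟩ := cent_R F S (g := (τ * u) ^ 3)
    (hb0 (i := 1) (j := 0) (k := 0) (l := 0) (m := 0) (by simp [basisRI]) (by simp [el])).eq
    (hb0 (i := 0) (j := 1) (k := 0) (l := 0) (m := 0) (by simp [basisRI]) (by simp [el])).eq
    (hb0 (i := 0) (j := 0) (k := 1) (l := 0) (m := 0) (by simp [basisRI]) (by simp [el]))
    (hb0 (i := 0) (j := 0) (k := 0) (l := 1) (m := 0) (by simp [basisRI]) (by simp [el])).eq
    (hb0 (i := 0) (j := 0) (k := 0) (l := 0) (m := 1) (by simp [basisRI]) (by simp [el])).eq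
  -- translation of u
  have hqc : Commute (τ * u) c := comm_of_conj (conj_comp Uc (by rw [← conj_inv, htc, inv_inv]))
  set v := u * c ^ n with hv
  have hcn : ∀ {x : G}, Commute c x → c ^ n * x * (c ^ n)⁻¹ = x := fun h => by
    rw [(h.pow_left n).eq, mul_inv_cancel_right]
  have hvc : v * c * v⁻¹ = c⁻¹ := conj_comp (hcn (Commute.refl c)) Uc
  have hv2 : v ^ 2 = 1 := by
    have e : u * c ^ n * u⁻¹ = (c ^ n)⁻¹ := by rw [← conj_pow, Uc, inv_pow]
    rw [sq, hv]
    calc u * c ^ n * (u * c ^ n) = (u * c ^ n * u⁻¹) * (u * u) * c ^ n := by group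
      _ = 1 := by rw [e, ← sq, U.u_two, mul_one, inv_mul_cancel]
  have hvi : v⁻¹ = v := inv_eq_of_mul_eq_one_right (by rw [← sq]; exact hv2)
  have hcb : Commute c b := (comm_of_conj F.b_c).symm
  have hvb : v * b * v⁻¹ = b := conj_comp (hcn hcb) Ub
  have hv3 : v * v3 ^ 2 * v⁻¹ = HSFrame28.wB a b :=
    conj_comp (hcn (F.comm_c_v3.pow_right 2)) hr
  have hvw : v * HSFrame28.wB a b * v⁻¹ = v3 ^ 2 := by
    rw [← hv3, hvi]
    calc v * (v * v3 ^ 2 * v) * v = (v * v) * v3 ^ 2 * (v * v) := by group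
      _ = _ := by rw [← sq, hv2, one_mul, mul_one]
  have hbraid : (τ * v) ^ 3 = 1 := by
    rw [hv, ← mul_assoc, (hqc.pow_right n).mul_pow, hn, ← pow_mul, ← pow_add,
      show n + n * 3 = 4 * n by ring, pow_mul, F.c_four, one_pow]
  -- the commutator with the first transposition
  have hsi : σ⁻¹ = σ := inv_eq_of_mul_eq_one_right hss
  have hkc : (σ * v) * c * (σ * v)⁻¹ = c := conj_comp hvc (by rw [← conj_inv, hsc, inv_inv])
  have hsq' : σ * v3 ^ 2 * σ⁻¹ = v3 ^ 2 := by rw [hsq, mul_inv_cancel_right]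
  have hsB' : σ * HSFrame28.wB a b * σ⁻¹ = HSFrame28.wB a b := by rw [hsB, mul_inv_cancel_right]
  have hsb' : σ * b * σ⁻¹ = b⁻¹ := by rw [hsb, mul_inv_cancel_right]
  have kb : (σ * v) * b * (σ * v)⁻¹ = b⁻¹ := conj_comp hvb hsb'
  have kbi : (σ * v) * b⁻¹ * (σ * v)⁻¹ = b := by rw [← conj_inv, kb, inv_inv]
  have k1 : (σ * v) * v3 ^ 2 * (σ * v)⁻¹ = HSFrame28.wB a b := conj_comp hv3 hsB'
  have k2 : (σ * v) * HSFrame28.wB a b * (σ * v)⁻¹ = v3 ^ 2 := conj_comp hvw hsq'
  have K : ∀ {x y : G}, (σ * v) * x * (σ * v)⁻¹ = y → (σ * v) * y * (σ * v)⁻¹ = x →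
      Commute ((σ * v) * (σ * v)) x := fun h1 h2 => comm_of_conj (conj_comp h1 h2)
  have Kb := K kb kbi
  have KB := K k2 k1
  have K1 := K k1 k2
  obtain ⟨j, hj⟩ := cent_R F S (g := (σ * v) * (σ * v)) (K hkc hkc).eq K1.eq
    ((Kb.mul_right K1).mul_right Kb.inv_right) KB.eq
    (by rw [hwA]; exact ((Kb.mul_right KB).mul_right Kb.inv_right).eq)
  set z := c ^ j with hz
  have hvσ : v * σ * v⁻¹ = σ * z := by
    calc v * σ * v⁻¹ = σ⁻¹ * ((σ * v) * (σ * v)) := by rw [hvi]; group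
      _ = σ * z := by rw [hj, hsi]
  have hzc : ∀ {g : G}, g * c * g⁻¹ = c⁻¹ → g * z * g⁻¹ = z⁻¹ := fun h => by
    rw [hz, ← conj_pow, h, inv_pow]
  have hts : τ * σ * τ⁻¹ = σ := by rw [hst, mul_inv_cancel_right]
  have Qσ : (τ * v) * σ * (τ * v)⁻¹ = σ * z⁻¹ := conj_comp hvσ (conj_pair hts (hzc htc))
  have hti : τ⁻¹ = τ := inv_eq_of_mul_eq_one_right htt
  have h6 : τ * v * τ * v * τ * v = 1 := by
    rw [show (τ * v) ^ 3 = τ * v * τ * v * τ * v by simp only [pow_succ, pow_zero, one_mul, mul_assoc]] at hbraid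
    exact hbraid
  have Qτ : (τ * v) * τ * (τ * v)⁻¹ = v := by
    rw [mul_inv_rev, hvi, hti]
    simp only [← mul_assoc]
    calc τ * v * τ * v * τ = v⁻¹ := eq_inv_of_mul_eq_one_left h6
      _ = v := hvi
  have e1 : σ * z⁻¹ * v = v * (σ * z⁻¹) := by
    have := congrArg (fun x => (τ * v) * x * (τ * v)⁻¹) hst
    simp only [← conj_mul] at this
    rw [Qσ, Qτ] at this
    exact this.symm
  have e2 : v * (σ * z⁻¹) * v⁻¹ = σ * z * z :=
    conj_pair hvσ (by rw [← conj_inv, hzc hvc, inv_inv])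
  have e3 : σ * z * z = σ * z⁻¹ := by rw [← e2, ← e1, mul_inv_cancel_right]
  have hz3 : z * z * z = 1 := by
    have e4 : z * z = z⁻¹ := mul_left_cancel (a := σ) (by rw [← mul_assoc]; exact e3)
    rw [e4, inv_mul_cancel]
  have hz4 : z ^ 4 = 1 := by rw [hz, ← pow_mul, mul_comm, pow_mul, F.c_four, one_pow]
  have hz1 : z = 1 := by
    calc z = (z * z * z)⁻¹ * z ^ 4 := by group
      _ = 1 := by rw [hz3, hz4, inv_one, one_mul]
  refine ⟨v, {
    toRFrame := F
    u_t := ?_
    not_mem := fun h => U.not_mem ?_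
    u_two := hv2
    u_b := comm_of_conj hvb
    u_c := hvc
    u_v3 := hv3
    u_s0 := ?_
    u_s3 := hbraid }⟩
  · have h2 : Commute (c ^ n) t := by
      rw [← F.c_sq]; exact (Commute.refl c).pow_pow n 2
    exact (Commute.mul_left (U.u_t : Commute u t) h2).eq
  · have := mul_mem h (inv_mem (pow_mem (c_mem F) n))
    rwa [hv, mul_inv_cancel_right] at this
  · rw [sq, hj]; exact hz1

/-- Every outside involution of the centraliser yields a complete frame. -/
theorem exists_uFrame {u : G} (U : HSFrame28.UBase t M c b u) :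
    ∃ a' u', HSFrame28.UFrame t M R Cy c v2 v3 a' b u' := by
  rcases conj_q1_cases F S U with h | h
  · obtain ⟨u', hu⟩ := complete S F U h
    exact ⟨a, u', hu⟩
  · obtain ⟨F2, h2⟩ := twist_frame F
    obtain ⟨u', hu⟩ := complete S F2 U (h.trans h2.symm)
    exact ⟨_, u', hu⟩

end

end Cfsg.Agent.HSUFrame28
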