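import Mathlib
import Cfsg.Prelude.Def_CaseTheorems
import Cfsg.Agent.Lib.PGroupsBasic
import Cfsg.Agent.Lib.PGroupsCyclic

/-!
Half-transitive linear `p`-groups (Passman): stabilisers, averaging projections, the
imprimitive case and the count for groups with a cyclic subgroup of index two.
-/

set_option autoImplicit false

open Cfsg

namespace Cfsg.Agent.HalfTransitive65

/-- `q ^ d - 1` a power of two. -/
theorem fermat_case {q d m : ℕ} (hq : q.Prime) (h2 : q ≠ 2) (hd : 1 ≤ d) (h : q ^ d = 2 ^ m + 1) :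
    d = 1 ∨ (q = 3 ∧ d = 2) := by
  have hq3 : 3 ≤ q := by have := hq.two_le; omega
  rcases Nat.even_or_odd d with ⟨e, rfl⟩ | hodd
  · have hx : 3 ≤ q ^ e := le_trans hq3 (Nat.le_self_pow (by omega) q)
    obtain ⟨y, hy⟩ : ∃ y, q ^ e = y + 1 := ⟨q ^ e - 1, by omega⟩
    rw [pow_add, hy] at h
    have hprod : y * (y + 2) = 2 ^ m := by nlinarith
    obtain ⟨i, -, hi⟩ := (Nat.dvd_prime_pow Nat.prime_two).1 (Dvd.intro _ hprod)
    obtain ⟨j, -, hj⟩ := (Nat.dvd_prime_pow Nat.prime_two).1 (Dvd.intro_left _ hprod)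
    have hy2 : y = 2 := by
      rcases i with _ | _ | i
      · simp at hi; omega
      · simpa using hi
      · exfalso
        have h4 : 4 ∣ y := ⟨2 ^ i, by rw [hi]; ring⟩
        rcases j with _ | _ | j
        · simp at hj
        · simp at hj; omega
        · have h4' : 4 ∣ y + 2 := ⟨2 ^ j, by rw [hj]; ring⟩
          omega
    have hqe : q ^ e = 3 := by omega
    have he : e = 1 := by
      by_contra hne
      have h1 : q ^ 2 ≤ q ^ e := Nat.pow_le_pow_right hq.pos (by
        rcases e with _ | _ | e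
        · simp at hqe
        · exact absurd rfl hne
        · omega)
      nlinarith
    subst he
    exact Or.inr ⟨by simpa using hqe, rfl⟩
  · left
    have hgs : (∑ i ∈ Finset.range d, q ^ i) * (q - 1) = 2 ^ m := by
      have := geom_sum_mul_add (q - 1) d
      rw [show q - 1 + 1 = q by omega] at this
      omega
    have hoddsum : Odd (∑ i ∈ Finset.range d, q ^ i) := by
      rw [Finset.odd_sum_iff_odd_card_odd]
      rwa [Finset.filter_true_of_mem (fun i _ => (hq.odd_of_ne_two h2).pow), Finset.card_range]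
    obtain ⟨i, -, hi⟩ := (Nat.dvd_prime_pow Nat.prime_two).1 (Dvd.intro _ hgs)
    have hi0 : i = 0 := by
      by_contra hne
      rw [hi, Nat.odd_pow_iff hne] at hoddsum
      exact absurd hoddsum (by decide)
    rw [hi0, pow_zero] at hi
    by_contra hne
    have hsub : Finset.range 2 ⊆ Finset.range d := Finset.range_subset_range.2 (by omega)
    have := Finset.sum_le_sum_of_subset (f := fun i => q ^ i) hsub
    simp [Finset.sum_range_succ, hi] at this
    omega

/-- `q ^ d + 1` a power of two. -/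
theorem mersenne_case {q d m : ℕ} (hq : q.Prime) (h2 : q ≠ 2) (hd : 1 ≤ d) (h : q ^ d + 1 = 2 ^ m) :
    d = 1 := by
  have hqo : Odd q := hq.odd_of_ne_two h2
  rcases Nat.even_or_odd d with ⟨e, rfl⟩ | hodd
  · exfalso
    obtain ⟨c, hc⟩ := hqo.pow (n := e)
    rw [pow_add, hc] at h
    have h4 : (2 * c + 1) * (2 * c + 1) + 1 = 4 * (c * c + c) + 2 := by ring
    rcases m with _ | _ | m
    · simp at h
    · simp at h
      have : c = 0 := by nlinarith
      subst this
      have : 3 ≤ q ^ e := le_trans (by have := hq.two_le; omega) (Nat.le_self_pow (by omega) q)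
      omega
    · rw [h4, pow_succ, pow_succ] at h
      omega
  · have hdvd : (q : ℤ) + 1 ∣ (q : ℤ) ^ d + 1 := by
      have := hodd.add_dvd_pow_add_pow (q : ℤ) 1
      simpa using this
    have hdvd' : q + 1 ∣ q ^ d + 1 := by exact_mod_cast hdvd
    obtain ⟨i, -, hi⟩ := (Nat.dvd_prime_pow Nat.prime_two).1 (h ▸ hdvd')
    -- compare 2-parts: the alternating sum is odd
    have key : ∀ k : ℕ, ∃ c : ℕ, Odd c ∧ q ^ (2 * k + 1) + 1 = (q + 1) * c := by
      intro k
      induction k with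
      | zero => exact ⟨1, odd_one, by ring⟩
      | succ k ih =>
        obtain ⟨c, hc, hck⟩ := ih
        obtain ⟨q', rfl⟩ : ∃ q', q = q' + 1 := ⟨q - 1, by have := hq.two_le; omega⟩
        refine ⟨(q' + 1) ^ 2 * c - q', ?_, ?_⟩
        · have hle : q' ≤ (q' + 1) ^ 2 * c := le_trans (by nlinarith)
            (Nat.le_mul_of_pos_right _ hc.pos)
          rw [Nat.odd_sub hle]
          constructor
          · intro _
            obtain ⟨u, hu⟩ := hqo
            exact ⟨u, by omega⟩
          · intro _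
            exact (hqo.pow).mul hc
        · have hle : q' ≤ (q' + 1) ^ 2 * c := le_trans (by nlinarith)
            (Nat.le_mul_of_pos_right _ hc.pos)
          zify [hle] at hck ⊢
          rw [show 2 * (k + 1) + 1 = (2 * k + 1) + 2 by ring, pow_add]
          linear_combination ((q' : ℤ) + 1) ^ 2 * hck
    obtain ⟨k, hk⟩ := hodd
    obtain ⟨c, hc, hck⟩ := key k
    rw [← hk, h] at hck
    obtain ⟨j, -, hj⟩ := (Nat.dvd_prime_pow Nat.prime_two).1 (Dvd.intro_left _ hck.symm)
    have hj0 : j = 0 := by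
      by_contra hne
      rw [hj, Nat.odd_pow_iff hne] at hc
      exact absurd hc (by decide)
    rw [hj, hj0, pow_zero, mul_one, ← h] at hck
    exact Nat.pow_right_injective hq.two_le (by simpa using (by omega : q ^ d = q))

variable {q : ℕ} [Fact q.Prime] {V : Type*} [AddCommGroup V] [Module (ZMod q) V]
variable {G : Type*} [Group G] (ρ : G →* (V ≃ₗ[ZMod q] V))

/-- the point stabiliser -/
def stab (v : V) : Subgroup G where
  carrier := {g | ρ g v = v}
  one_mem' := by simp
  mul_mem' := fun {a b} (ha : ρ a v = v) (hb : ρ b v = v) => by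
    show ρ (a * b) v = v
    rw [map_mul, LinearEquiv.mul_apply, hb, ha]
  inv_mem' := fun {a} (ha : ρ a v = v) => by
    show ρ a⁻¹ v = v
    conv_lhs => rw [← ha]
    rw [← LinearEquiv.mul_apply, ← map_mul, inv_mul_cancel, map_one]
    rfl

theorem mem_stab {v : V} {g : G} : g ∈ stab ρ v ↔ ρ g v = v := Iff.rfl

theorem ap (g h : G) (v : V) : ρ g (ρ h v) = ρ (g * h) v := by
  rw [map_mul, LinearEquiv.mul_apply]

theorem ap_one (v : V) : ρ 1 v = v := by simp

theorem stab_card_eq [Finite G]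
    (hhalf : ∀ v w : V, v ≠ 0 → w ≠ 0 →
      Nat.card {u : V | ∃ g : G, ρ g v = u} = Nat.card {u : V | ∃ g : G, ρ g w = u})
    {v w : V} (hv : v ≠ 0) (hw : w ≠ 0) : Nat.card (stab ρ v) = Nat.card (stab ρ w) := by
  letI : MulAction G V := MulAction.compHom V ρ
  have key : ∀ x : V, Nat.card {u : V | ∃ g : G, ρ g x = u} * Nat.card (stab ρ x) = Nat.card G := by
    intro x
    have e1 : {u : V | ∃ g : G, ρ g x = u} = MulAction.orbit G x := rfl
    have e2 : stab ρ x = MulAction.stabilizer G x := rfl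
    rw [e1, e2, Nat.card_congr (MulAction.orbitEquivQuotientStabilizer G x)]
    exact (Subgroup.index_mul_card _)
  have h1 := key v
  have h2 := key w
  have hpos : 0 < Nat.card {u : V | ∃ g : G, ρ g v = u} := by
    rcases Nat.eq_zero_or_pos (Nat.card {u : V | ∃ g : G, ρ g v = u}) with h0 | h0
    · rw [h0, zero_mul] at h1
      exact absurd h1.symm Nat.card_pos.ne'
    · exact h0
  rw [← hhalf v w hv hw] at h2
  exact Nat.eq_of_mul_eq_mul_left hpos (h1.trans h2.symm)

/-- the averaging projection of an element of order dividing `p` -/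
def avg (p : ℕ) (u : G) (v : V) : V := (p : ZMod q)⁻¹ • ∑ k ∈ Finset.range p, ρ (u ^ k) v

variable {p : ℕ} [hp : Fact p.Prime]

theorem natCast_ne_zero (hpq : p ≠ q) : (p : ZMod q) ≠ 0 := by
  rw [Ne, ZMod.natCast_eq_zero_iff]
  intro h
  exact hpq ((Nat.prime_dvd_prime_iff_eq (Fact.out : q.Prime) hp.out).1 h).symm

theorem avg_fixed (hpq : p ≠ q) {u : G} {v : V} (h : ρ u v = v) : avg ρ p u v = v := by
  unfold avg
  have hk : ∀ k : ℕ, ρ (u ^ k) v = v := fun k => (Subgroup.pow_mem (stab ρ v) h k : _)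
  simp only [hk, Finset.sum_const, Finset.card_range, ← Nat.cast_smul_eq_nsmul (ZMod q), smul_smul,
    inv_mul_cancel₀ (natCast_ne_zero hpq), one_smul]

theorem avg_mem {u : G} (hu : u ^ p = 1) (v : V) : ρ u (avg ρ p u v) = avg ρ p u v := by
  unfold avg
  rw [map_smul, map_sum]
  congr 1
  simp only [ap, ← pow_succ']
  rw [← Finset.sum_congr rfl (fun k _ => rfl)]
  have h1 := Finset.sum_range_succ' (fun k => ρ (u ^ k) v) p
  have h2 := Finset.sum_range_succ (fun k => ρ (u ^ k) v) p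
  simp only [pow_zero, hu, ap_one] at h1 h2
  rw [h1] at h2
  exact add_right_cancel h2

theorem avg_conj (g u : G) (v : V) : ρ g (avg ρ p u v) = avg ρ p (g * u * g⁻¹) (ρ g v) := by
  unfold avg
  rw [map_smul, map_sum]
  congr 1
  refine Finset.sum_congr rfl fun k _ => ?_
  rw [ap, ap, conj_pow]
  congr 2
  group

/-- powers of `z` indexed by `ZMod p` -/
def zz (z : G) (i : ZMod p) : G := z ^ i.val

theorem zz_add {z : G} (hz : z ^ p = 1) (i j : ZMod p) : zz z (i + j) = zz z i * zz z j := by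
  unfold zz
  rw [← pow_add, ZMod.val_add, ← pow_mod_orderOf z, ← pow_mod_orderOf z (i.val + j.val),
    Nat.mod_mod_of_dvd _ (orderOf_dvd_of_pow_eq_one hz)]

theorem zz_zero (z : G) : zz z (0 : ZMod p) = 1 := by simp [zz]

theorem zz_pow {z : G} (hz : z ^ p = 1) (i : ZMod p) (k : ℕ) : zz z i ^ k = zz z (k • i) := by
  induction k with
  | zero => simp [zz_zero]
  | succ k ih => rw [pow_succ, ih, succ_nsmul, zz_add hz]

theorem zz_pow_p {z : G} (hz : z ^ p = 1) (i : ZMod p) : zz z i ^ p = 1 := by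
  unfold zz
  rw [← pow_mul, mul_comm, pow_mul, hz, one_pow]

theorem zz_ne_one {z : G} (hz : orderOf z = p) {i : ZMod p} (hi : i ≠ 0) : zz z i ≠ 1 := by
  intro h
  have hd := orderOf_dvd_of_pow_eq_one h
  rw [hz] at hd
  exact hi ((ZMod.val_eq_zero i).1 (Nat.eq_zero_of_dvd_of_lt hd (ZMod.val_lt i)))

theorem fixed_of_zz {z : G} (hz : orderOf z = p) {i : ZMod p} (hi : i ≠ 0) {v : V}
    (h : ρ (zz z i) v = v) : ρ z v = v := by
  have hpz : z ^ p = 1 := hz ▸ pow_orderOf_eq_one z
  have hzi : zz z (1 : ZMod p) = z := by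
    unfold zz
    rw [ZMod.val_one, pow_one]
  have h2 := Subgroup.pow_mem (stab ρ v) h ((i⁻¹ : ZMod p).val)
  rw [zz_pow hpz, nsmul_eq_mul, ZMod.natCast_zmod_val, inv_mul_cancel₀ hi, hzi] at h2
  exact h2

/-- the members `e z^i` -/
def uu (e z : G) (i : ZMod p) : G := e * zz z i

theorem sum_avg (hpq : p ≠ q) {e z : G} (hc : Commute e z) (hz : orderOf z = p)
    (hfree : ∀ v : V, ρ z v = v → v = 0) (v : V) : ∑ i : ZMod p, avg ρ p (uu e z i) v = v := by
  have hpz : z ^ p = 1 := hz ▸ pow_orderOf_eq_one z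
  unfold avg
  rw [← Finset.smul_sum, Finset.sum_comm]
  have hterm : ∀ k ∈ Finset.range p, k ≠ 0 →
      ∑ i : ZMod p, ρ (uu e z i ^ k) v = 0 := by
    intro k hk hk0
    have hkp : (k : ZMod p) ≠ 0 := by
      rw [Ne, ZMod.natCast_eq_zero_iff]
      exact fun h => hk0 (Nat.eq_zero_of_dvd_of_lt h (Finset.mem_range.1 hk))
    have e1 : ∀ i : ZMod p, uu e z i ^ k = e ^ k * zz z (k • i) := fun i => by
      have hci : Commute e (zz z i) := hc.pow_right _
      rw [uu, hci.mul_pow, zz_pow hpz]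
    simp only [e1, ← ap]
    rw [← map_sum]
    set w := ∑ i : ZMod p, ρ (zz z (k • i)) v with hw
    have hw0 : w = 0 := by
      refine hfree _ (fixed_of_zz ρ hz hkp ?_)
      rw [hw, map_sum]
      simp only [ap, ← zz_add hpz]
      refine (Fintype.sum_equiv (Equiv.addRight (1 : ZMod p)) _ _ fun i => ?_)
      simp [nsmul_eq_mul, mul_add, add_comm]
    rw [hw0, map_zero]
  rw [Finset.sum_eq_single_of_mem 0 (Finset.mem_range.2 hp.out.pos) hterm]
  simp only [pow_zero, ap_one, Finset.sum_const, Finset.card_univ, ZMod.card,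
    ← Nat.cast_smul_eq_nsmul (ZMod q), smul_smul, inv_mul_cancel₀ (natCast_ne_zero hpq), one_smul]

/-- A central element with a nonzero fixed vector acts trivially, if no stabiliser is trivial. -/
theorem central_free [Finite G] (hpq : p ≠ q) (hρ : Function.Injective ρ)
    (hhalf : ∀ v w : V, v ≠ 0 → w ≠ 0 → Nat.card (stab ρ v) = Nat.card (stab ρ w))
    (hs : ∀ v : V, v ≠ 0 → stab ρ v ≠ ⊥)
    {z : G} (hz : orderOf z = p) (hzc : ∀ g : G, g * z = z * g) (v : V) (hv : ρ z v = v) : v = 0 := by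
  by_contra hv0
  have hpz : z ^ p = 1 := hz ▸ pow_orderOf_eq_one z
  -- a vector killed by the projection
  obtain ⟨u, hu0, huA⟩ : ∃ u : V, u ≠ 0 ∧ avg ρ p z u = 0 := by
    have hz1 : ρ z ≠ 1 := fun h => by
      have := hρ (h.trans (map_one ρ).symm)
      rw [this, orderOf_one] at hz
      exact hp.out.one_lt.ne hz
    obtain ⟨x, hx⟩ : ∃ x : V, ρ z x ≠ x := by
      by_contra h
      push Not at h
      exact hz1 (LinearEquiv.ext fun x => h x)
    refine ⟨x - avg ρ p z x, fun h => hx ?_, ?_⟩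
    · rw [sub_eq_zero.1 h]
      exact avg_mem ρ hpz x
    · have h1 := avg_fixed ρ hpq (avg_mem ρ hpz x)
      have h2 : avg ρ p z (x - avg ρ p z x) = avg ρ p z x - avg ρ p z (avg ρ p z x) := by
        unfold avg
        simp only [map_sub, Finset.sum_sub_distrib, smul_sub]
      rw [h2, h1, sub_self]
  -- stabilisers of w in the fixed space and u in the kernel agree
  have hsame : ∀ w u : V, ρ z w = w → avg ρ p z u = 0 → w ≠ 0 → u ≠ 0 → stab ρ w = stab ρ u := by
    intro w u hw hu hw0 hu0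
    have hsum0 : w + u ≠ 0 := by
      intro h
      have : u = -w := by rw [eq_neg_iff_add_eq_zero, add_comm, h]
      rw [this] at hu
      have h2 : avg ρ p z (-w) = -avg ρ p z w := by
        unfold avg
        simp only [map_neg, Finset.sum_neg_distrib, smul_neg]
      rw [h2, avg_fixed ρ hpq hw, neg_eq_zero] at hu
      exact hw0 hu
    have hle : ∀ g ∈ stab ρ (w + u), g ∈ stab ρ w ∧ g ∈ stab ρ u := by
      intro g hg
      rw [mem_stab] at hg
      have hgz : g * z * g⁻¹ = z := by rw [hzc g, mul_inv_cancel_right]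
      have hadd : ∀ a b : V, avg ρ p z (a + b) = avg ρ p z a + avg ρ p z b := fun a b => by
        unfold avg
        simp only [map_add, Finset.sum_add_distrib, smul_add]
      have h1 : avg ρ p z (ρ g (w + u)) = w := by
        rw [hg, hadd, hu, avg_fixed ρ hpq hw, add_zero]
      have h2 : avg ρ p z (ρ g (w + u)) = ρ g w := by
        have := avg_conj ρ (p := p) g z (w + u)
        rw [hgz] at this
        rw [← this, hadd, hu, avg_fixed ρ hpq hw, add_zero]
      have hgw : ρ g w = w := h2.symm.trans h1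
      refine ⟨hgw, ?_⟩
      rw [map_add, hgw] at hg
      exact add_left_cancel hg
    have e1 : stab ρ (w + u) = stab ρ w :=
      Subgroup.eq_of_le_of_card_ge (fun g hg => (hle g hg).1) (hhalf _ _ hw0 hsum0).le
    have e2 : stab ρ (w + u) = stab ρ u :=
      Subgroup.eq_of_le_of_card_ge (fun g hg => (hle g hg).2) (hhalf _ _ hu0 hsum0).le
    exact e1.symm.trans e2
  apply hs v hv0
  rw [eq_bot_iff]
  intro g hg
  rw [Subgroup.mem_bot]
  apply hρ
  rw [map_one]
  refine LinearEquiv.ext fun x => ?_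
  show ρ g x = x
  have hsplit : x = avg ρ p z x + (x - avg ρ p z x) := by abel
  have hA : ∀ w : V, ρ z w = w → ρ g w = w := by
    intro w hw
    by_cases hw0 : w = 0
    · rw [hw0, map_zero]
    · have : g ∈ stab ρ w := by
        rw [hsame w u hw huA hw0 hu0, ← hsame v u hv huA hv0 hu0]; exact hg
      exact this
  have hB : ∀ u : V, avg ρ p z u = 0 → ρ g u = u := by
    intro u hu
    by_cases hu0 : u = 0
    · rw [hu0, map_zero]
    · have : g ∈ stab ρ u := by rw [← hsame v u hv hu hv0 hu0]; exact hg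
      exact this
  conv_lhs => rw [hsplit]
  rw [map_add, hA _ (avg_mem ρ hpz x), hB _ ?_]
  · exact hsplit.symm
  · have h1 := avg_fixed ρ hpq (avg_mem ρ hpz x)
    have h2 : avg ρ p z (x - avg ρ p z x) = avg ρ p z x - avg ρ p z (avg ρ p z x) := by
      unfold avg
      simp only [map_sub, Finset.sum_sub_distrib, smul_sub]
    rw [h2, h1, sub_self]

/-! ### the imprimitive case -/

section Blocks

variable (e z : G)

/-- the component -/
def comp (i : ZMod p) : Submodule (ZMod q) V where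
  carrier := {v | ρ (uu e z i) v = v}
  zero_mem' := map_zero _
  add_mem' := fun {a b} (ha : _ = a) (hb : _ = b) => by
    show ρ _ (a + b) = a + b
    rw [map_add, ha, hb]
  smul_mem' := fun c {a} (ha : _ = a) => by
    show ρ _ (c • a) = c • a
    rw [map_smul, ha]

/-- data of a normal subgroup `⟨e, z⟩` of order `p ^ 2` -/
structure BlockData (e z : G) (c : G → ZMod p) : Prop where
  hpq : p ≠ q
  inj : Function.Injective ρ
  half : ∀ v w : V, v ≠ 0 → w ≠ 0 → Nat.card (stab ρ v) = Nat.card (stab ρ w)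
  nontriv : ∀ v : V, v ≠ 0 → stab ρ v ≠ ⊥
  ordz : orderOf z = p
  cent : ∀ g : G, g * z = z * g
  pe : e ^ p = 1
  notmem : e ∉ Subgroup.zpowers z
  free : ∀ v : V, ρ z v = v → v = 0
  shift : ∀ g : G, g * e * g⁻¹ = e * zz z (c g)

variable {ρ} {e z} {c : G → ZMod p}

namespace BlockData

variable (D : BlockData ρ e z c)
include D

theorem pz : z ^ p = 1 := D.ordz ▸ pow_orderOf_eq_one z

theorem comm (i : ZMod p) : Commute e (zz z i) := by
  have : Commute e z := D.cent e
  exact this.pow_right _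

theorem upow (i : ZMod p) : uu e z i ^ p = 1 := by
  rw [uu, (D.comm i).mul_pow, D.pe, zz_pow_p D.pz, one_mul]

theorem proj_mem (i : ZMod p) (v : V) : avg ρ p (uu e z i) v ∈ comp ρ e z i :=
  avg_mem ρ (D.upow i) v

theorem sum_proj (v : V) : ∑ i : ZMod p, avg ρ p (uu e z i) v = v :=
  sum_avg ρ D.hpq (D.cent e) D.ordz D.free v

theorem indep {i j : ZMod p} (hij : i ≠ j) {v : V} (hi : v ∈ comp ρ e z i) (hj : v ∈ comp ρ e z j) :
    v = 0 := by
  refine D.free v (fixed_of_zz ρ D.ordz (sub_ne_zero.2 (Ne.symm hij)) ?_)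
  have h1 : uu e z j = uu e z i * zz z (j - i) := by
    rw [uu, uu, mul_assoc, ← zz_add D.pz, add_sub_cancel]
  have h2 : ρ (zz z (j - i)) v = v := by
    have hcm : uu e z i * zz z (j - i) = zz z (j - i) * uu e z i := by
      have := D.cent (uu e z i)
      exact ((show Commute (uu e z i) z from this).pow_right _).eq
    have hi' : ρ (uu e z i) v = v := hi
    have hj' : ρ (uu e z j) v = v := hj
    rw [h1, hcm, ← ap, hi'] at hj'
    exact hj'
  exact h2

theorem proj_self {i : ZMod p} {v : V} (hi : v ∈ comp ρ e z i) : avg ρ p (uu e z i) v = v :=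
  avg_fixed ρ D.hpq hi

theorem proj_other {i j : ZMod p} (hij : i ≠ j) {v : V} (hi : v ∈ comp ρ e z i) :
    avg ρ p (uu e z j) v = 0 := by
  refine D.indep hij ?_ (D.proj_mem j v)
  have hc : uu e z i * uu e z j * (uu e z i)⁻¹ = uu e z j := by
    have h1 : Commute (uu e z i) (uu e z j) := by
      refine Commute.mul_left (Commute.mul_right (Commute.refl e) (D.comm j)) ?_
      exact Commute.mul_right (D.comm i).symm ((Commute.refl z).pow_pow _ _)
    rw [h1.eq, mul_inv_cancel_right]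
  show ρ (uu e z i) (avg ρ p (uu e z j) v) = _
  rw [avg_conj, hc, show ρ (uu e z i) v = v from hi]

theorem conj_u (g : G) (i : ZMod p) : g * uu e z i * g⁻¹ = uu e z (c g + i) := by
  have hgz : g * zz z i * g⁻¹ = zz z i := by
    have := ((show Commute g z from D.cent g).pow_right i.val).eq
    show g * z ^ i.val * g⁻¹ = z ^ i.val
    rw [this, mul_inv_cancel_right]
  calc g * uu e z i * g⁻¹ = (g * e * g⁻¹) * (g * zz z i * g⁻¹) := by rw [uu]; group
    _ = uu e z (c g + i) := by rw [D.shift, hgz, uu, zz_add D.pz, mul_assoc]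

theorem map_comp (g : G) {i : ZMod p} {v : V} (hi : v ∈ comp ρ e z i) :
    ρ g v ∈ comp ρ e z (c g + i) := by
  show ρ (uu e z (c g + i)) (ρ g v) = ρ g v
  rw [← D.conj_u g i, ap, inv_mul_cancel_right, ← ap, show ρ (uu e z i) v = v from hi]

theorem c_add (g h : G) : c (g * h) = c g + c h := by
  have h1 := D.conj_u g (c h)
  rw [uu, ← D.shift] at h1
  have h2 : g * h * e * (g * h)⁻¹ = uu e z (c g + c h) := by rw [← h1]; group
  rw [D.shift, uu] at h2
  have h3 : zz z (c (g * h)) = zz z (c g + c h) := mul_left_cancel h2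
  by_contra hne
  apply zz_ne_one D.ordz (sub_ne_zero.2 hne)
  have h4 : zz z (c (g * h) - (c g + c h)) * zz z (c g + c h) = zz z (c (g * h)) := by
    rw [← zz_add D.pz, sub_add_cancel]
  rw [h3] at h4
  exact mul_eq_right.1 h4 

theorem c_zero_of_fix {g : G} {i : ZMod p} {a : V} (hai : a ∈ comp ρ e z i) (ha : a ≠ 0)
    (hg : ρ g a = a) : c g = 0 := by
  by_contra hne
  have h1 := D.map_comp g hai
  rw [hg] at h1
  exact ha (D.indep (by simpa using hne) h1 hai)

theorem fix_pair {i j : ZMod p} (hij : i ≠ j) {a b : V} (hai : a ∈ comp ρ e z i)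
    (hbj : b ∈ comp ρ e z j) (ha : a ≠ 0) (hb : b ≠ 0) {g : G} (hg : ρ g (a + b) = a + b) :
    (c g = 0 ∧ ρ g a = a ∧ ρ g b = b) ∨
      (c g + i = j ∧ c g + j = i ∧ ρ g a = b ∧ ρ g b = a) := by
  have hga := D.map_comp g hai
  have hgb := D.map_comp g hbj
  have hadd : ∀ (u : G) (x y : V), avg ρ p u (x + y) = avg ρ p u x + avg ρ p u y := fun u x y => by
    unfold avg
    simp only [map_add, Finset.sum_add_distrib, smul_add]
  have hI : avg ρ p (uu e z i) (ρ g a) + avg ρ p (uu e z i) (ρ g b) = a := by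
    rw [← hadd, ← map_add, hg, hadd, D.proj_self hai, D.proj_other hij.symm hbj, add_zero]
  have hJ : avg ρ p (uu e z j) (ρ g a) + avg ρ p (uu e z j) (ρ g b) = b := by
    rw [← hadd, ← map_add, hg, hadd, D.proj_self hbj, D.proj_other hij hai, zero_add]
  by_cases h0 : c g = 0
  · left
    rw [h0, zero_add] at hga hgb
    rw [D.proj_self hga, D.proj_other hij.symm hgb, add_zero] at hI
    refine ⟨h0, hI, ?_⟩
    rw [map_add, hI] at hg
    exact add_left_cancel hg
  · right
    have hne : c g + i ≠ i := by simpa using h0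
    have hne' : c g + j ≠ j := by simpa using h0
    rw [D.proj_other hne hga, zero_add] at hI
    rw [D.proj_other hne' hgb, add_zero] at hJ
    have e1 : c g + j = i := by
      by_contra h
      rw [D.proj_other h hgb] at hI
      exact ha hI.symm
    have e2 : c g + i = j := by
      by_contra h
      rw [D.proj_other h hga] at hJ
      exact hb hJ.symm
    rw [e1] at hgb
    rw [e2] at hga
    rw [D.proj_self hgb] at hI
    rw [D.proj_self hga] at hJ
    exact ⟨e2, e1, hJ, hI⟩

theorem exists_ne [Nontrivial V] (i : ZMod p) : ∃ j, j ≠ i ∧ ∃ b ∈ comp ρ e z j, b ≠ 0 := by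
  by_contra hcon
  push Not at hcon
  have hu1 : uu e z i = 1 := by
    apply D.inj
    rw [map_one]
    refine LinearEquiv.ext fun x => ?_
    show ρ (uu e z i) x = x
    have hx : x = avg ρ p (uu e z i) x := by
      conv_lhs => rw [← D.sum_proj x]
      exact Finset.sum_eq_single i (fun j _ hj => hcon j hj _ (D.proj_mem j x))
        (fun h => absurd (Finset.mem_univ i) h)
    rw [hx]
    exact D.proj_mem i x
  apply D.notmem
  rw [uu, mul_eq_one_iff_eq_inv] at hu1
  rw [hu1]
  exact inv_mem (Subgroup.npow_mem_zpowers _ _)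

/-- Some element moves the components. -/
theorem exists_linked [Finite G] [Nontrivial V] :
    ∃ (g : G) (i j : ZMod p), i ≠ j ∧ c g + i = j ∧ c g + j = i := by
  by_contra hcon
  push Not at hcon
  have hpair : ∀ i j : ZMod p, i ≠ j → ∀ a ∈ comp ρ e z i, a ≠ 0 → ∀ b ∈ comp ρ e z j, b ≠ 0 →
      stab ρ a = stab ρ b := by
    intro i j hij a ha ha0 b hb hb0
    have hab : a + b ≠ 0 := by
      intro h
      apply ha0
      refine D.indep hij ha ?_
      rw [add_eq_zero_iff_eq_neg.1 h]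
      exact Submodule.neg_mem _ hb
    have hle : ∀ g ∈ stab ρ (a + b), g ∈ stab ρ a ∧ g ∈ stab ρ b := by
      intro g hg
      rcases D.fix_pair hij ha hb ha0 hb0 hg with ⟨-, h1, h2⟩ | ⟨h1, h2, -, -⟩
      · exact ⟨h1, h2⟩
      · exact absurd h2 (hcon g i j hij h1)
    have e1 : stab ρ (a + b) = stab ρ a :=
      Subgroup.eq_of_le_of_card_ge (fun g hg => (hle g hg).1) (D.half _ _ ha0 hab).le
    have e2 : stab ρ (a + b) = stab ρ b :=
      Subgroup.eq_of_le_of_card_ge (fun g hg => (hle g hg).2) (D.half _ _ hb0 hab).le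
    exact e1.symm.trans e2
  obtain ⟨j0, -, a0, ha0m, ha00⟩ := D.exists_ne (0 : ZMod p)
  obtain ⟨j1, hj1, b1, hb1m, hb10⟩ := D.exists_ne j0
  apply D.nontriv a0 ha00
  rw [eq_bot_iff]
  intro g hg
  rw [Subgroup.mem_bot]
  apply D.inj
  rw [map_one]
  refine LinearEquiv.ext fun x => ?_
  show ρ g x = x
  have hfix : ∀ (k : ZMod p) (y : V), y ∈ comp ρ e z k → ρ g y = y := by
    intro k y hy
    by_cases hy0 : y = 0
    · rw [hy0, map_zero]
    · have : g ∈ stab ρ y := by
        by_cases hk : k = j0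
        · subst hk
          rw [hpair k j1 hj1.symm y hy hy0 b1 hb1m hb10,
            ← hpair k j1 hj1.symm a0 ha0m ha00 b1 hb1m hb10]
          exact hg
        · rw [← hpair j0 k (Ne.symm hk) a0 ha0m ha00 y hy hy0]
          exact hg
      exact this
  conv_lhs => rw [← D.sum_proj x]
  rw [map_sum]
  conv_rhs => rw [← D.sum_proj x]
  exact Finset.sum_congr rfl fun k _ => hfix k _ (D.proj_mem k x)

end BlockData

end Blocks

section TwoBlocks

variable {ρ} {e z : G}

theorem zmod2_cases : ∀ k : ZMod 2, k = 0 ∨ k = 1 := by decide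

theorem imprimitive [Finite G] [Finite V] [Nontrivial V] (hG : IsPGroup 2 G) {c : G → ZMod 2}
    (D : BlockData (p := 2) ρ e z c) :
    (Nat.card V = 81 ∧ q = 3) ∨ (Nat.card V = q ^ 2 ∧ (∃ m : ℕ, q = 2 ^ m + 1) ∧
      ∃ e' : V ≃ₗ[ZMod q] (Fin 2 → ZMod q), ∀ f : (Fin 2 → ZMod q) ≃ₗ[ZMod q] (Fin 2 → ZMod q),
        (∃ g : G, f = e'.symm.trans ((ρ g).trans e')) ↔
        ∃ a s : ZMod q, a ≠ 0 ∧ (s = 1 ∨ s = -1) ∧
          ((∀ v, f v = ![a * v 0, s * a⁻¹ * v 1]) ∨ (∀ v, f v = ![s * a⁻¹ * v 1, a * v 0]))) := by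
  classical
  have hq2 : q ≠ 2 := fun h => D.hpq h.symm
  have hqp : q.Prime := Fact.out
  have h01 : (0 : ZMod 2) ≠ 1 := by decide
  obtain ⟨g0, i0, j0, hij0, hg0a, -⟩ := D.exists_linked
  have hg0 : c g0 = 1 := by
    rcases zmod2_cases (c g0) with h | h
    · rw [h, zero_add] at hg0a; exact absurd hg0a hij0
    · exact h
  set A := comp ρ e z (0 : ZMod 2) with hA
  set B := comp ρ e z (1 : ZMod 2) with hB
  have hmapA : ∀ v ∈ A, ρ g0 v ∈ B := fun v hv => by
    have := D.map_comp g0 hv; rwa [hg0, add_zero] at this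
  have hmapB : ∀ v ∈ B, ρ g0 v ∈ A := fun v hv => by
    have := D.map_comp g0 hv
    rwa [hg0, show (1 : ZMod 2) + 1 = 0 from by decide] at this
  have hsum : ∀ x : V, avg ρ 2 (uu e z (0 : ZMod 2)) x + avg ρ 2 (uu e z (1 : ZMod 2)) x = x := fun x => by
    have := D.sum_proj x
    rwa [show (Finset.univ : Finset (ZMod 2)) = {0, 1} from rfl, Finset.sum_pair h01] at this
  have hfixall : ∀ g : G, (∀ v ∈ A, ρ g v = v) → (∀ v ∈ B, ρ g v = v) → g = 1 := by
    intro g hga hgb
    apply D.inj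
    rw [map_one]
    refine LinearEquiv.ext fun x => ?_
    show ρ g x = x
    conv_lhs => rw [← hsum x]
    rw [map_add, hga _ (D.proj_mem _ x), hgb _ (D.proj_mem _ x), hsum]
  have hcard : Nat.card A = Nat.card B := by
    apply le_antisymm
    · exact Nat.card_le_card_of_injective (fun v : A => (⟨ρ g0 v, hmapA v v.2⟩ : B))
        fun a b h => Subtype.ext ((ρ g0).injective (congrArg Subtype.val h))
    · exact Nat.card_le_card_of_injective (fun v : B => (⟨ρ g0 v, hmapB v v.2⟩ : A))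
        fun a b h => Subtype.ext ((ρ g0).injective (congrArg Subtype.val h))
  have hV : Nat.card V = Nat.card A * Nat.card B := by
    rw [← Nat.card_prod]
    refine (Nat.card_eq_of_bijective (fun ab : A × B => (ab.1 : V) + ab.2) ⟨?_, fun x =>
      ⟨(⟨_, D.proj_mem _ x⟩, ⟨_, D.proj_mem _ x⟩), hsum x⟩⟩).symm
    rintro ⟨⟨a, ha⟩, ⟨b, hb⟩⟩ ⟨⟨a', ha'⟩, ⟨b', hb'⟩⟩ h
    simp only at h
    have h' : a - a' = b' - b := by rw [sub_eq_sub_iff_add_eq_add, h, add_comm]
    have h0 : a - a' = 0 := D.indep h01 (sub_mem ha ha') (h' ▸ sub_mem hb' hb)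
    have h1 : a = a' := sub_eq_zero.1 h0
    subst h1
    simpa using h
  -- the stabiliser of the two components
  let N : Subgroup G :=
    { carrier := {g | c g = 0}
      one_mem' := by
        have := D.c_add 1 1
        simpa using this
      mul_mem' := fun {a b} (ha : c a = 0) (hb : c b = 0) => by
        show c (a * b) = 0
        rw [D.c_add, ha, hb, add_zero]
      inv_mem' := fun {a} (ha : c a = 0) => by
        show c a⁻¹ = 0
        have h1 := D.c_add a⁻¹ a
        rw [inv_mul_cancel, ha, add_zero] at h1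
        have h2 := D.c_add 1 1
        rw [one_mul] at h2
        rw [← h1]
        simpa using h2 }
  let X := {v : V // v ∈ A ∧ v ≠ 0}
  letI : MulAction N X :=
    { smul := fun g v => ⟨ρ (g : G) v.1, by
        have := D.map_comp (g : G) v.2.1
        rwa [show c (g : G) = 0 from g.2, zero_add] at this, fun h => v.2.2 ((ρ (g : G)).map_eq_zero_iff.1 h)⟩
      one_smul := fun v => Subtype.ext (ap_one ρ v.1)
      mul_smul := fun g h v => Subtype.ext (ap ρ (g : G) (h : G) v.1).symm }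
  obtain ⟨aX⟩ : Nonempty X := by
    obtain ⟨j, hj, b, hb, hb0⟩ := D.exists_ne (1 : ZMod 2)
    rcases zmod2_cases j with rfl | rfl
    · exact ⟨⟨b, hb, hb0⟩⟩
    · exact absurd rfl hj
  set s := Nat.card (stab ρ aX.1) with hs
  have hstX : ∀ x : X, Nat.card (MulAction.stabilizer N x) = s := by
    intro x
    rw [hs, D.half _ _ aX.2.2 x.2.2]
    refine Nat.card_congr
      { toFun := fun g => ⟨(g.1 : G), congrArg Subtype.val g.2⟩
        invFun := fun g => ⟨⟨g.1, D.c_zero_of_fix x.2.1 x.2.2 g.2⟩, Subtype.ext g.2⟩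
        left_inv := fun g => rfl
        right_inv := fun g => rfl }
  set n0 := Nat.card (MulAction.orbit N aX) with hn0
  have horb : ∀ x : X, Nat.card (MulAction.orbit N x) = n0 := by
    intro x
    have key : ∀ y : X, Nat.card (MulAction.orbit N y) * s = Nat.card N := fun y => by
      rw [← hstX y, Nat.card_congr (MulAction.orbitEquivQuotientStabilizer N y)]
      exact Subgroup.index_mul_card _
    exact Nat.eq_of_mul_eq_mul_right Nat.card_pos ((key x).trans (key aX).symm)
  have hn0pow : ∃ m, n0 = 2 ^ m := (hG.to_subgroup N).card_orbit aX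
  obtain ⟨m, hm⟩ := hn0pow
  have hXcard : Nat.card X + 1 = Nat.card A := by
    have h1 : Nat.card X = Nat.card {v : A // v ≠ 0} := Nat.card_congr
      { toFun := fun v => ⟨⟨v.1, v.2.1⟩, fun h => v.2.2 (congrArg Subtype.val h)⟩
        invFun := fun v => ⟨v.1.1, v.1.2, fun h => v.2 (Subtype.ext h)⟩
        left_inv := fun v => rfl
        right_inv := fun v => rfl }
    rw [h1]
    haveI := Fintype.ofFinite A
    rw [Nat.card_eq_fintype_card, Nat.card_eq_fintype_card, Fintype.card_subtype_compl,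
      Fintype.card_subtype_eq]
    have := Fintype.card_pos (α := A)
    omega
  have hdvd : n0 ∣ Nat.card X := by
    haveI := Fintype.ofFinite (MulAction.orbitRel.Quotient N X)
    rw [Nat.card_congr (MulAction.selfEquivSigmaOrbits N X), Nat.card_sigma]
    exact Finset.dvd_sum fun ω _ => (horb _).symm ▸ dvd_rfl
  -- the unlinked vectors
  have hequal : ∀ a ∈ A, a ≠ 0 → ∀ b ∈ B, b ≠ 0 → (¬ ∃ g : G, c g = 1 ∧ ρ g a = b) →
      stab ρ a = stab ρ b := by
    intro a ha ha0 b hb hb0 hno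
    have hab : a + b ≠ 0 := by
      intro h
      apply ha0
      refine D.indep h01 ha ?_
      rw [add_eq_zero_iff_eq_neg.1 h]
      exact Submodule.neg_mem _ hb
    have hle : ∀ g ∈ stab ρ (a + b), g ∈ stab ρ a ∧ g ∈ stab ρ b := by
      intro g hg
      rcases D.fix_pair h01 ha hb ha0 hb0 hg with ⟨-, h1, h2⟩ | ⟨h1, -, h3, -⟩
      · exact ⟨h1, h2⟩
      · exact absurd ⟨g, by simpa using h1, h3⟩ hno
    have e1 : stab ρ (a + b) = stab ρ a :=
      Subgroup.eq_of_le_of_card_ge (fun g hg => (hle g hg).1) (D.half _ _ ha0 hab).le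
    have e2 : stab ρ (a + b) = stab ρ b :=
      Subgroup.eq_of_le_of_card_ge (fun g hg => (hle g hg).2) (D.half _ _ hb0 hab).le
    exact e1.symm.trans e2
  let R : V → Set V := fun a => {b | b ∈ B ∧ b ≠ 0 ∧ ¬ ∃ g : G, c g = 1 ∧ ρ g a = b}
  have hspanfix : ∀ a ∈ A, a ≠ 0 → B ≤ Submodule.span (ZMod q) (R a) →
      ∀ g ∈ stab ρ a, ∀ v ∈ B, ρ g v = v := by
    intro a ha ha0 hspan g hg v hv
    suffices h : ∀ w ∈ Submodule.span (ZMod q) (R a), ρ g w = w from h v (hspan hv)
    intro w hw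
    induction hw using Submodule.span_induction with
    | mem y hy =>
      have : g ∈ stab ρ y := by rw [← hequal a ha ha0 y hy.1 hy.2.1 hy.2.2]; exact hg
      exact this
    | zero => exact map_zero _
    | add x y _ _ hx hy => rw [map_add, hx, hy]
    | smul t x _ hx => rw [map_smul, hx]
  obtain ⟨d, hd⟩ : ∃ d, Nat.card A = q ^ d :=
    ⟨Module.finrank (ZMod q) A, by rw [Module.natCard_eq_pow_finrank (K := ZMod q), Nat.card_zmod]⟩
  have hbig : n0 = Nat.card X := by
    -- some component vector has a small unlinked set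
    obtain ⟨a, ha, ha0, hnspan⟩ : ∃ a ∈ A, a ≠ 0 ∧ ¬ B ≤ Submodule.span (ZMod q) (R a) := by
      by_contra hcon
      push Not at hcon
      have hsp := hcon aX.1 aX.2.1 aX.2.2
      -- a vector of B
      have hbB : ∃ b ∈ R aX.1, b ≠ 0 := by
        by_contra hR
        push Not at hR
        have hempty : Submodule.span (ZMod q) (R aX.1) = ⊥ := by
          rw [Submodule.span_eq_bot]
          exact hR
        rw [hempty, le_bot_iff] at hsp
        have : ρ g0 aX.1 ∈ (⊥ : Submodule (ZMod q) V) := hsp ▸ hmapA _ aX.2.1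
        rw [Submodule.mem_bot, LinearEquiv.map_eq_zero_iff] at this
        exact aX.2.2 this
      obtain ⟨b, hbR, hb0⟩ := hbB
      apply D.nontriv _ hb0
      rw [eq_bot_iff]
      intro g hg
      rw [Subgroup.mem_bot]
      have hK := hequal aX.1 aX.2.1 aX.2.2 b hbR.1 hb0 hbR.2.2
      refine hfixall g (fun v hv => ?_) (hspanfix _ aX.2.1 aX.2.2 hsp g (hK ▸ hg))
      by_cases hv0 : v = 0
      · rw [hv0, map_zero]
      · have hle : stab ρ v ≤ stab ρ b := fun h hh =>
          hspanfix v hv hv0 (hcon v hv hv0) h hh b hbR.1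
        have heq := Subgroup.eq_of_le_of_card_ge hle (D.half _ _ hb0 hv0).le
        have : g ∈ stab ρ v := heq ▸ hg
        exact this
    set W := B ⊓ Submodule.span (ZMod q) (R a) with hW
    have hWlt : W < B := lt_of_le_not_ge inf_le_left fun h => hnspan (le_inf_iff.1 h).2
    obtain ⟨dB, hdB⟩ : ∃ dB, Nat.card B = q ^ dB :=
      ⟨Module.finrank (ZMod q) B, by rw [Module.natCard_eq_pow_finrank (K := ZMod q), Nat.card_zmod]⟩
    obtain ⟨dW, hdW⟩ : ∃ dW, Nat.card W = q ^ dW :=
      ⟨Module.finrank (ZMod q) W, by rw [Module.natCard_eq_pow_finrank (K := ZMod q), Nat.card_zmod]⟩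
    have hcardlt : Nat.card W < Nat.card B :=
      Set.ncard_lt_ncard (SetLike.coe_ssubset_coe.2 hWlt)
    have hWq : q * Nat.card W ≤ Nat.card B := by
      rw [hdW, hdB, ← pow_succ']
      refine Nat.pow_le_pow_right hqp.pos ?_
      rw [hdW, hdB] at hcardlt
      exact (Nat.pow_lt_pow_iff_right hqp.one_lt).1 hcardlt
    -- linked vectors
    have hlink : ((B : Set V) \ (W : Set V)).ncard ≤ n0 := by
      rw [← horb ⟨a, ha, ha0⟩, ← Nat.card_coe_set_eq]
      refine Nat.card_le_card_of_surjective (fun x : MulAction.orbit N (⟨a, ha, ha0⟩ : X) =>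
        if h : ρ g0 x.1.1 ∈ ((B : Set V) \ (W : Set V)) then
          (⟨_, h⟩ : ↥((B : Set V) \ (W : Set V)))
        else Classical.choice (by
          obtain ⟨w, hwB, hwW⟩ := SetLike.exists_of_lt hWlt
          exact ⟨⟨w, hwB, hwW⟩⟩)) ?_
      rintro ⟨b, hbB, hbW⟩
      have hb0 : b ≠ 0 := fun h => hbW (by rw [h]; exact W.zero_mem)
      obtain ⟨g, hg1, hga⟩ : ∃ g : G, c g = 1 ∧ ρ g a = b := by
        by_contra hno
        exact hbW ⟨hbB, Submodule.subset_span ⟨hbB, hb0, hno⟩⟩
      have hmem : g0⁻¹ * g ∈ N := by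
        show c (g0⁻¹ * g) = 0
        have h1 := D.c_add g0 (g0⁻¹ * g)
        rw [mul_inv_cancel_left, hg0, hg1] at h1
        simpa using h1.symm
      refine ⟨⟨(⟨g0⁻¹ * g, hmem⟩ : N) • (⟨a, ha, ha0⟩ : X), MulAction.mem_orbit _ _⟩, ?_⟩
      have e1 : ρ g0 ((⟨g0⁻¹ * g, hmem⟩ : N) • (⟨a, ha, ha0⟩ : X)).1 = b := by
        show ρ g0 (ρ (g0⁻¹ * g) a) = b
        rw [ap, mul_inv_cancel_left, hga]
      show dite _ _ _ = _
      rw [dif_pos (by rw [e1]; exact ⟨hbB, hbW⟩)]
      exact Subtype.ext e1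
    have hdiff : ((B : Set V) \ (W : Set V)).ncard = Nat.card B - Nat.card W := by
      rw [Set.ncard_sdiff (SetLike.coe_subset_coe.2 inf_le_left)]
      rfl
    rw [hdiff] at hlink
    have hq3 : 3 ≤ q := by have := hqp.two_le; omega
    obtain ⟨t, ht⟩ := hdvd
    have hXpos : 0 < Nat.card X := haveI : Nonempty X := ⟨aX⟩; Nat.card_pos
    have ht0 : t ≠ 0 := by rintro rfl; rw [mul_zero] at ht; omega
    have h3W : 3 * Nat.card W ≤ Nat.card B := le_trans (Nat.mul_le_mul_right _ hq3) hWq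
    have ht1 : t = 1 := by
      by_contra ht1
      have : n0 * 2 ≤ n0 * t := Nat.mul_le_mul_left _ (by omega)
      omega
    rw [ht, ht1, mul_one]
  have hqd : q ^ d = 2 ^ m + 1 := by rw [← hd, ← hXcard, ← hbig, hm]
  have hd1 : 1 ≤ d := by
    rcases d with _ | d
    · simp at hqd
    · omega
  rcases fermat_case hqp hq2 hd1 hqd with rfl | ⟨h3, rfl⟩
  swap
  · left
    refine ⟨?_, h3⟩
    rw [hV, ← hcard, hd, h3]; rfl
  right
  rw [pow_one] at hd hqd
  have hcV : Nat.card V = q ^ 2 := by rw [hV, ← hcard, hd, sq]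
  refine ⟨hcV, ⟨m, hqd⟩, ?_⟩
  have hscal : ∀ (C : Submodule (ZMod q) V), Nat.card C = q → ∀ a ∈ C, a ≠ 0 → ∀ v ∈ C,
      ∃ t : ZMod q, t • a = v := by
    intro C hC a ha ha0 v hv
    have hinj : Function.Injective (fun t : ZMod q => (⟨t • a, C.smul_mem t ha⟩ : C)) := fun x y h =>
      smul_left_injective (ZMod q) ha0 (congrArg Subtype.val h)
    have hb := hinj.bijective_of_nat_card_le (le_of_eq (by rw [hC, Nat.card_zmod]))
    obtain ⟨t, ht⟩ := hb.2 ⟨v, hv⟩
    exact ⟨t, congrArg Subtype.val ht⟩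
  obtain ⟨a, ha, ha0⟩ := aX
  set b := ρ g0 a with hbdef
  have hb : b ∈ B := hmapA a ha
  have hb0 : b ≠ 0 := fun h => ha0 ((ρ g0).map_eq_zero_iff.1 h)
  have hBq : Nat.card B = q := by rw [← hcard, hd]
  have hswap : ∀ t : ZMod q, t ≠ 0 → ∃ g : G, ρ g a = t • b ∧ ρ g b = t⁻¹ • a ∧
      ∀ g' : G, ρ g' (a + t • b) = a + t • b → g' = 1 ∨ g' = g := by
    intro t ht
    have htb : t • b ∈ B := B.smul_mem t hb
    have htb0 : t • b ≠ 0 := smul_ne_zero ht hb0
    have hboth : ∀ g : G, ρ g a = a → ρ g (t • b) = t • b → g = 1 := by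
      intro g h1 h2
      refine hfixall g (fun v hv => ?_) (fun v hv => ?_)
      · obtain ⟨u, rfl⟩ := hscal A hd a ha ha0 v hv
        rw [map_smul, h1]
      · obtain ⟨u, rfl⟩ := hscal B hBq _ htb htb0 v hv
        rw [map_smul, h2]
    have hab : a + t • b ≠ 0 := by
      intro h
      apply ha0
      refine D.indep h01 ha ?_
      rw [add_eq_zero_iff_eq_neg.1 h]
      exact Submodule.neg_mem _ htb
    obtain ⟨g, hg, hg1⟩ : ∃ g ∈ stab ρ (a + t • b), g ≠ 1 :=
      (Subgroup.bot_or_exists_ne_one _).resolve_left (D.nontriv _ hab)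
    rcases D.fix_pair h01 ha htb ha0 htb0 hg with ⟨-, h1, h2⟩ | ⟨-, -, h3, h4⟩
    · exact absurd (hboth g h1 h2) hg1
    refine ⟨g, h3, ?_, fun g' hg' => ?_⟩
    · rw [map_smul] at h4
      rw [← h4, smul_smul, inv_mul_cancel₀ ht, one_smul]
    · rcases D.fix_pair h01 ha htb ha0 htb0 hg' with ⟨-, h1, h2⟩ | ⟨-, -, h5, h6⟩
      · exact Or.inl (hboth g' h1 h2)
      · refine Or.inr (inv_mul_eq_one.1 (hboth (g⁻¹ * g') ?_ ?_)).symm
        · rw [← ap, h5, ← h3, ap, inv_mul_cancel, ap_one]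
        · rw [← ap, h6, ← h4, ap, inv_mul_cancel, ap_one]
  obtain ⟨κ, hκm, hκ1⟩ : ∃ κ ∈ stab ρ a, κ ≠ 1 :=
    (Subgroup.bot_or_exists_ne_one _).resolve_left (D.nontriv _ ha0)
  obtain ⟨G1, hG1a, hG1b, hG1u⟩ := hswap 1 one_ne_zero
  have hcard2 : ∀ g ∈ stab ρ a, g = 1 ∨ g = κ := by
    have h2 : Nat.card (stab ρ (a + (1 : ZMod q) • b)) ≤ 2 := by
      have hsub : (stab ρ (a + (1 : ZMod q) • b) : Set G) ⊆ {1, G1} := fun g hg => by
        rcases hG1u g hg with h | h <;> simp [h]
      calc Nat.card (stab ρ (a + (1 : ZMod q) • b)) = (stab ρ (a + (1 : ZMod q) • b) : Set G).ncard := rfl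
        _ ≤ ({1, G1} : Set G).ncard := Set.ncard_le_ncard hsub
        _ ≤ 2 := by
          refine le_trans (Set.ncard_insert_le _ _) ?_
          simp
    have hab : a + (1 : ZMod q) • b ≠ 0 := by
      intro h
      apply ha0
      refine D.indep h01 ha ?_
      rw [add_eq_zero_iff_eq_neg.1 h]
      exact Submodule.neg_mem _ (B.smul_mem _ hb)
    rw [D.half _ _ hab ha0] at h2
    intro g hg
    by_contra hcon
    push Not at hcon
    have hsub : ({1, κ, g} : Set G) ⊆ (stab ρ a : Set G) := by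
      intro x hx
      simp only [Set.mem_insert_iff, Set.mem_singleton_iff] at hx
      rcases hx with rfl | rfl | rfl
      · exact one_mem _
      · exact hκm
      · exact hg
    have := Set.ncard_le_ncard hsub
    rw [Set.ncard_eq_three.2 ⟨1, κ, g, hκ1.symm, hcon.1.symm, hcon.2.symm, rfl⟩] at this
    have h2' : (stab ρ a : Set G).ncard ≤ 2 := h2
    omega
  have hκa : ρ κ a = a := hκm
  have hκb : ρ κ b = (-1 : ZMod q) • b := by
    have hc0 := D.c_zero_of_fix ha ha0 hκa
    have hκB : ρ κ b ∈ B := by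
      have := D.map_comp κ hb; rwa [hc0, zero_add] at this
    obtain ⟨β, hβ⟩ := hscal B hBq b hb hb0 _ hκB
    have hsq : κ * κ = 1 := by
      rcases hcard2 _ (mul_mem hκm hκm) with h | h
      · exact h
      · exact absurd (mul_eq_right.1 h) hκ1
    have h2 : (β * β) • b = (1 : ZMod q) • b := by
      rw [← smul_smul, hβ, ← map_smul, hβ, ap, hsq, ap_one, one_smul]
    rcases mul_self_eq_one_iff.1 (smul_left_injective (ZMod q) hb0 h2) with h | h
    · exfalso
      apply hκ1
      rw [h, one_smul] at hβ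
      refine hfixall κ (fun v hv => ?_) (fun v hv => ?_)
      · obtain ⟨u, rfl⟩ := hscal A hd a ha ha0 v hv
        rw [map_smul, hκa]
      · obtain ⟨u, rfl⟩ := hscal B hBq b hb hb0 v hv
        rw [map_smul, ← hβ]
    · rw [← hβ, h]
  let L : (Fin 2 → ZMod q) →ₗ[ZMod q] V :=
    { toFun := fun w => w 0 • a + w 1 • b
      map_add' := fun x y => by simp only [Pi.add_apply, add_smul]; abel
      map_smul' := fun t x => by simp [mul_smul, smul_add] }
  have hLinj : Function.Injective L := by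
    refine (injective_iff_map_eq_zero L).2 fun w hw => ?_
    have hw' : w 0 • a + w 1 • b = 0 := hw
    have h0 : w 0 • a = 0 := by
      refine D.indep h01 (A.smul_mem _ ha) ?_
      rw [add_eq_zero_iff_eq_neg.1 hw']
      exact Submodule.neg_mem _ (B.smul_mem _ hb)
    rw [h0, zero_add] at hw'
    have e0 : w 0 = 0 := (smul_eq_zero.1 h0).resolve_right ha0
    have e1 : w 1 = 0 := (smul_eq_zero.1 hw').resolve_right hb0
    funext i
    fin_cases i <;> assumption
  have hLbij : Function.Bijective L := hLinj.bijective_of_nat_card_le (le_of_eq (by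
    rw [hcV, Nat.card_fun, Nat.card_zmod, Nat.card_eq_fintype_card, Fintype.card_fin]))
  set E := (LinearEquiv.ofBijective L hLbij).symm with hE
  refine ⟨E, fun f => ?_⟩
  have key : ∀ (g : G) (w : Fin 2 → ZMod q) (x y : ZMod q),
      w 0 • ρ g a + w 1 • ρ g b = x • a + y • b → E.symm.trans ((ρ g).trans E) w = ![x, y] := by
    intro g w x y h
    show E (ρ g (E.symm w)) = _
    apply E.symm.injective
    rw [E.symm_apply_apply]
    show ρ g (w 0 • a + w 1 • b) = (![x, y] : Fin 2 → ZMod q) 0 • a + (![x, y] : Fin 2 → ZMod q) 1 • b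
    rw [map_add, map_smul, map_smul, h]
    simp
  constructor
  · rintro ⟨g, rfl⟩
    rcases zmod2_cases (c g) with hc | hc
    · have hga : ρ g a ∈ A := by have := D.map_comp g ha; rwa [hc, zero_add] at this
      obtain ⟨α, hα⟩ := hscal A hd a ha ha0 _ hga
      have hα0 : α ≠ 0 := by
        rintro rfl
        rw [zero_smul] at hα
        exact ha0 ((ρ g).map_eq_zero_iff.1 hα.symm)
      obtain ⟨Gt, hGa, hGb, -⟩ := hswap α⁻¹ (inv_ne_zero hα0)
      have hDa : ρ (Gt * G1) a = α • a := by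
        rw [← ap, hG1a, one_smul, hGb, inv_inv]
      have hDb : ρ (Gt * G1) b = α⁻¹ • b := by
        rw [← ap, hG1b, inv_one, one_smul, hGa]
      have hfix : ρ ((Gt * G1)⁻¹ * g) a = a := by
        rw [← ap, ← hα, ← hDa, ap, inv_mul_cancel, ap_one]
      have hgeq : g = (Gt * G1) * ((Gt * G1)⁻¹ * g) := (mul_inv_cancel_left _ _).symm
      rcases hcard2 _ hfix with h | h <;> rw [h] at hgeq
      · refine ⟨α, 1, hα0, Or.inl rfl, Or.inl fun w => key g w _ _ ?_⟩
        rw [← hα, hgeq, mul_one, hDb, smul_smul, smul_smul]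
        congr 2 <;> ring
      · refine ⟨α, -1, hα0, Or.inr rfl, Or.inl fun w => key g w _ _ ?_⟩
        rw [← hα, hgeq, ← ap ρ (Gt * G1) κ b, hκb, map_smul, hDb, smul_smul, smul_smul, smul_smul]
        congr 2 <;> ring
    · have hga : ρ g a ∈ B := by have := D.map_comp g ha; rwa [hc, add_zero] at this
      obtain ⟨α, hα⟩ := hscal B hBq b hb hb0 _ hga
      have hα0 : α ≠ 0 := by
        rintro rfl
        rw [zero_smul] at hα
        exact ha0 ((ρ g).map_eq_zero_iff.1 hα.symm)
      obtain ⟨Gt, hGa, hGb, -⟩ := hswap α hα0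
      have hfix : ρ (Gt⁻¹ * g) a = a := by
        rw [← ap, ← hα, ← hGa, ap, inv_mul_cancel, ap_one]
      have hgeq : g = Gt * (Gt⁻¹ * g) := (mul_inv_cancel_left _ _).symm
      rcases hcard2 _ hfix with h | h <;> rw [h] at hgeq
      · refine ⟨α, 1, hα0, Or.inl rfl, Or.inr fun w => key g w _ _ ?_⟩
        rw [← hα, hgeq, mul_one, hGb, smul_smul, smul_smul, add_comm]
        congr 2 <;> ring
      · refine ⟨α, -1, hα0, Or.inr rfl, Or.inr fun w => key g w _ _ ?_⟩
        rw [← hα, hgeq, ← ap ρ Gt κ b, hκb, map_smul, hGb, smul_smul, smul_smul, smul_smul, add_comm]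
        congr 2 <;> ring
  · rintro ⟨α, s', hα0, hs', hf⟩
    obtain ⟨Gt, hGa, hGb, -⟩ := hswap α⁻¹ (inv_ne_zero hα0)
    obtain ⟨Gu, hUa, hUb, -⟩ := hswap α hα0
    have hDa : ρ (Gt * G1) a = α • a := by rw [← ap, hG1a, one_smul, hGb, inv_inv]
    have hDb : ρ (Gt * G1) b = α⁻¹ • b := by rw [← ap, hG1b, inv_one, one_smul, hGa]
    rcases hf with hf | hf <;> rcases hs' with rfl | rfl
    · refine ⟨Gt * G1, LinearEquiv.ext fun w => ?_⟩
      rw [hf w]
      refine (key _ w _ _ ?_).symm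
      rw [hDa, hDb, smul_smul, smul_smul]
      congr 2 <;> ring
    · refine ⟨Gt * G1 * κ, LinearEquiv.ext fun w => ?_⟩
      rw [hf w]
      refine (key _ w _ _ ?_).symm
      rw [← ap ρ _ κ a, ← ap ρ _ κ b, hκa, hκb, map_smul, hDa, hDb, smul_smul, smul_smul, smul_smul]
      congr 2 <;> ring
    · refine ⟨Gu, LinearEquiv.ext fun w => ?_⟩
      rw [hf w]
      refine (key _ w _ _ ?_).symm
      rw [hUa, hUb, smul_smul, smul_smul, add_comm]
      congr 2 <;> ring
    · refine ⟨Gu * κ, LinearEquiv.ext fun w => ?_⟩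
      rw [hf w]
      refine (key _ w _ _ ?_).symm
      rw [← ap ρ _ κ a, ← ap ρ _ κ b, hκa, hκb, map_smul, hUa, hUb, smul_smul, smul_smul, smul_smul,
        add_comm]
      congr 2 <;> ring

end TwoBlocks

/-! ### cyclic subgroup of index two -/

theorem count_involutions [Finite G] [Finite V] [Nontrivial V] (hpq : (2 : ℕ) ≠ q)
    (hρ : Function.Injective ρ)
    (hhalf : ∀ v w : V, v ≠ 0 → w ≠ 0 → Nat.card (stab ρ v) = Nat.card (stab ρ w))
    (hs : ∀ v : V, v ≠ 0 → stab ρ v ≠ ⊥)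
    (hG : IsPGroup 2 G) (a : G) (hidx : (Subgroup.zpowers a).index = 2)
    (b : G) (hb : b ∈ Subgroup.zpowers a) (hb2 : b * b ≠ 1)
    (hinv : ∀ t : G, t ∉ Subgroup.zpowers a → t * t = 1 → t * b * t⁻¹ = b⁻¹) :
    ∃ d : ℕ, 1 ≤ d ∧ Nat.card V = q ^ (2 * d) ∧
      Nat.card {t : G // t ∉ Subgroup.zpowers a ∧ t * t = 1} = q ^ d + 1 := by
  classical
  have hqp : q.Prime := Fact.out
  haveI hAn : (Subgroup.zpowers a).Normal := Subgroup.normal_of_index_eq_two hidx
  have htwo : (2 : ZMod q) ≠ 0 := by exact_mod_cast natCast_ne_zero (p := 2) hpq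
  -- the cyclic subgroup acts freely
  have hfree : ∀ x ∈ Subgroup.zpowers a, ∀ v : V, v ≠ 0 → ρ x v = v → x = 1 := by
    intro x hx v hv hxv
    by_contra hx1
    have hne : Subgroup.zpowers a ⊓ stab ρ v ≠ ⊥ := fun h => hx1 (by
      have : x ∈ Subgroup.zpowers a ⊓ stab ρ v := ⟨hx, hxv⟩
      rwa [h, Subgroup.mem_bot] at this)
    obtain ⟨t, ht, hto⟩ :=
      PGroupsBasic.exists_orderOf_eq_of_ne_bot (p := 2) (hG.to_subgroup _) hne
    have htc : ∀ g : G, g * t = t * g := by
      intro g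
      have h1 : g * t * g⁻¹ ∈ Subgroup.zpowers a := hAn.conj_mem t ht.1 g
      have h2 : Subgroup.zpowers (g * t * g⁻¹) = Subgroup.zpowers t :=
        PGroupsCyclic.eq_of_card_eq_of_isCyclic (A := Subgroup.zpowers a) inferInstance
          (Subgroup.zpowers_le.2 h1) (Subgroup.zpowers_le.2 ht.1) (by
            rw [Nat.card_zpowers, Nat.card_zpowers]
            exact orderOf_injective (MulAut.conj g).toMonoidHom (MulAut.conj g).injective t)
      have h3 : g * t * g⁻¹ ∈ Subgroup.zpowers t := h2 ▸ Subgroup.mem_zpowers _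
      obtain ⟨k, hk⟩ := Subgroup.mem_zpowers_iff.1 h3
      have ht2 : t ^ (2 : ℤ) = 1 := by
        rw [zpow_ofNat, ← hto, pow_orderOf_eq_one]
      rcases Int.even_or_odd k with ⟨l, rfl⟩ | ⟨l, rfl⟩
      · rw [← two_mul, zpow_mul, ht2, one_zpow, eq_comm, conj_eq_one_iff] at hk
        rw [hk, orderOf_one] at hto
        omega
      · rw [zpow_add, zpow_mul, ht2, one_zpow, one_mul, zpow_one] at hk
        exact mul_inv_eq_iff_eq_mul.1 hk.symm
    exact hv (central_free ρ (p := 2) hpq hρ hhalf hs hto htc v ht.2)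
  let T := {t : G // t ∉ Subgroup.zpowers a ∧ t * t = 1}
  have huniq : ∀ v : V, v ≠ 0 → ∃ t : T, ρ t.1 v = v ∧ ∀ u : T, ρ u.1 v = v → u = t := by
    intro v hv
    obtain ⟨t, ht, ht1⟩ := (Subgroup.bot_or_exists_ne_one _).resolve_left (hs v hv)
    have htA : t ∉ Subgroup.zpowers a := fun h => ht1 (hfree t h v hv ht)
    have ht2 : t * t = 1 := by
      have h2 : t * t ∈ Subgroup.zpowers a := by
        by_contra h
        have := (Subgroup.mul_mem_iff_of_index_two hidx (a := t) (b := t)).2 Iff.rfl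
        exact h this
      exact hfree _ h2 v hv (mul_mem ht ht : t * t ∈ stab ρ v)
    refine ⟨⟨t, htA, ht2⟩, ht, fun u hu => Subtype.ext ?_⟩
    have h2 : u.1⁻¹ * t ∈ Subgroup.zpowers a := by
      rw [Subgroup.mul_mem_iff_of_index_two hidx, inv_mem_iff]
      exact iff_of_false u.2.1 htA
    have h3 := hfree _ h2 v hv (mul_mem (inv_mem (show u.1 ∈ stab ρ v from hu)) ht : u.1⁻¹ * t ∈ stab ρ v)
    exact inv_mul_eq_one.1 h3
  -- fixed spaces
  let F : T → Set V := fun t => {v | ρ t.1 v = v}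
  let F' : T → Set V := fun t => {v | ρ t.1 v = -v}
  let d0 : V → V := fun v => ρ b v - ρ b⁻¹ v
  have hd0 : Function.Injective d0 := by
    intro v w h
    have h' : d0 (v - w) = 0 := by
      show ρ b (v - w) - ρ b⁻¹ (v - w) = 0
      have h1 : ρ b v - ρ b⁻¹ v = ρ b w - ρ b⁻¹ w := h
      rw [map_sub, map_sub, sub_sub_sub_comm, h1, sub_self]
    by_contra hne
    apply hb2
    refine hfree _ (mul_mem hb hb) (v - w) (sub_ne_zero.2 hne) ?_
    rw [← ap, sub_eq_zero.1 h', ap, mul_inv_cancel, ap_one]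
  have hanti : ∀ (t : T) (v : V), ρ t.1 (d0 v) = -d0 (ρ t.1 v) := by
    intro t v
    have h1 : t.1 * b = b⁻¹ * t.1 := mul_inv_eq_iff_eq_mul.1 (hinv t.1 t.2.1 t.2.2)
    have h2 : t.1 * b⁻¹ = b * t.1 := by
      have := congrArg (fun x => b * x * b⁻¹) h1
      simp only [mul_assoc, mul_inv_cancel_left, mul_inv_cancel, mul_one] at this
      exact this.symm
    show ρ t.1 (ρ b v - ρ b⁻¹ v) = -(ρ b (ρ t.1 v) - ρ b⁻¹ (ρ t.1 v))
    rw [map_sub, ap, ap, ap, ap, h1, h2, neg_sub]
  have hFF : ∀ t : T, Nat.card (F t) = Nat.card (F' t) := by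
    intro t
    apply le_antisymm
    · exact Nat.card_le_card_of_injective
        (fun v : F t => (⟨d0 v.1, by
          show ρ t.1 (d0 v.1) = -d0 v.1
          rw [hanti, show ρ t.1 v.1 = v.1 from v.2]⟩ : F' t))
        fun x y h => Subtype.ext (hd0 (congrArg Subtype.val h))
    · exact Nat.card_le_card_of_injective
        (fun v : F' t => (⟨d0 v.1, by
          show ρ t.1 (d0 v.1) = d0 v.1
          have hneg : d0 (-v.1) = -d0 v.1 := by
            show ρ b (-v.1) - ρ b⁻¹ (-v.1) = -(ρ b v.1 - ρ b⁻¹ v.1)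
            rw [map_neg, map_neg]; abel
          rw [hanti, show ρ t.1 v.1 = -v.1 from v.2, hneg, neg_neg]⟩ : F t))
        fun x y h => Subtype.ext (hd0 (congrArg Subtype.val h))
  have hsq : ∀ t : T, Nat.card V = Nat.card (F t) * Nat.card (F t) := by
    intro t
    nth_rw 2 [hFF t]
    rw [← Nat.card_prod]
    have htt : ∀ v : V, ρ t.1 (ρ t.1 v) = v := fun v => by rw [ap, t.2.2, ap_one]
    refine Nat.card_congr
      { toFun := fun v => (⟨(2 : ZMod q)⁻¹ • (v + ρ t.1 v), ?_⟩, ⟨(2 : ZMod q)⁻¹ • (v - ρ t.1 v), ?_⟩)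
        invFun := fun x => x.1.1 + x.2.1
        left_inv := fun v => ?_
        right_inv := fun x => ?_ }
    · show ρ t.1 _ = _
      rw [map_smul, map_add, htt, add_comm]
    · show ρ t.1 _ = -_
      rw [map_smul, map_sub, htt, ← smul_neg, neg_sub]
    · show (2 : ZMod q)⁻¹ • (v + ρ t.1 v) + (2 : ZMod q)⁻¹ • (v - ρ t.1 v) = v
      rw [← smul_add, show v + ρ t.1 v + (v - ρ t.1 v) = (2 : ZMod q) • v by rw [two_smul]; abel,
        smul_smul, inv_mul_cancel₀ htwo, one_smul]
    · obtain ⟨⟨x, hx⟩, ⟨y, hy⟩⟩ := x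
      have hx' : ρ t.1 x = x := hx
      have hy' : ρ t.1 y = -y := hy
      refine Prod.ext (Subtype.ext ?_) (Subtype.ext ?_)
      · show (2 : ZMod q)⁻¹ • (x + y + ρ t.1 (x + y)) = x
        rw [map_add, hx', hy', show x + y + (x + -y) = (2 : ZMod q) • x by rw [two_smul]; abel,
          smul_smul, inv_mul_cancel₀ htwo, one_smul]
      · show (2 : ZMod q)⁻¹ • (x + y - ρ t.1 (x + y)) = y
        rw [map_add, hx', hy', show x + y - (x + -y) = (2 : ZMod q) • y by rw [two_smul]; abel,
          smul_smul, inv_mul_cancel₀ htwo, one_smul]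
  obtain ⟨v0, hv0⟩ := exists_ne (0 : V)
  obtain ⟨t0, ht0, -⟩ := huniq v0 hv0
  obtain ⟨S, hS⟩ : ∃ S, Nat.card (F t0) = S := ⟨_, rfl⟩
  have hSall : ∀ t : T, Nat.card (F t) = S := fun t =>
    Nat.mul_self_inj.1 (by rw [← hsq t, hsq t0, hS])
  let Fm : Submodule (ZMod q) V := LinearMap.eqLocus (ρ t0.1).toLinearMap LinearMap.id
  obtain ⟨d, hd⟩ : ∃ d, S = q ^ d := ⟨Module.finrank (ZMod q) Fm, by
    rw [← hS, show Nat.card (F t0) = Nat.card Fm from rfl,
      Module.natCard_eq_pow_finrank (K := ZMod q), Nat.card_zmod]⟩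
  have hd1 : 1 ≤ d := by
    by_contra h
    have hS1 : S = 1 := by rw [hd, show d = 0 by omega, pow_zero]
    have h1 := hsq t0
    rw [hS, hS1] at h1
    have := Finite.one_lt_card (α := V)
    omega
  refine ⟨d, hd1, by rw [hsq t0, hS, hd, two_mul, pow_add], ?_⟩
  -- count the nonzero vectors
  let Φ : (Σ t : T, {v : V // v ∈ F t ∧ v ≠ 0}) → {v : V // v ≠ 0} := fun x => ⟨x.2.1, x.2.2.2⟩
  have hbij : Function.Bijective Φ := by
    refine ⟨?_, fun v => ?_⟩
    · rintro ⟨t, v, hv, hv0⟩ ⟨u, w, hw, hw0⟩ h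
      have hvw : v = w := congrArg Subtype.val h
      subst hvw
      obtain ⟨t', -, ht'⟩ := huniq v hv0
      obtain rfl : t = u := (ht' t hv).trans (ht' u hw).symm
      rfl
    · obtain ⟨t, ht, -⟩ := huniq v.1 v.2
      exact ⟨⟨t, v.1, ht, v.2⟩, rfl⟩
  haveI := Fintype.ofFinite T
  haveI := Fintype.ofFinite V
  have hone : ∀ t : T, Nat.card {v : V // v ∈ F t ∧ v ≠ 0} + 1 = S := by
    intro t
    rw [← hSall t, Nat.card_coe_set_eq]
    have h1 : Nat.card {v : V // v ∈ F t ∧ v ≠ 0} = (F t \ {0}).ncard := rfl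
    rw [h1, Set.ncard_sdiff_singleton_add_one (show (0 : V) ∈ F t from map_zero _)]
  have hnz : Nat.card {v : V // v ≠ 0} + 1 = S * S := by
    rw [← hS, ← hsq t0, Nat.card_eq_fintype_card, Nat.card_eq_fintype_card,
      Fintype.card_subtype_compl, Fintype.card_subtype_eq]
    have := Fintype.card_pos (α := V)
    omega
  rw [← Nat.card_congr (Equiv.ofBijective Φ hbij), Nat.card_sigma] at hnz
  have hk : ∀ t : T, Nat.card {v : V // v ∈ F t ∧ v ≠ 0} = S - 1 := fun t => by
    have := hone t; omega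
  simp only [hk, Finset.sum_const, Finset.card_univ, smul_eq_mul, ← Nat.card_eq_fintype_card] at hnz
  show Nat.card T = q ^ d + 1
  rw [← hd]
  have hS2 : 2 ≤ S := hd ▸ le_trans hqp.two_le (Nat.le_self_pow (by omega) q)
  obtain ⟨S', rfl⟩ : ∃ S', S = S' + 1 := ⟨S - 1, by omega⟩
  simp only [Nat.add_sub_cancel] at hnz
  apply Nat.eq_of_mul_eq_mul_right (show 0 < S' by omega)
  nlinarith

end Cfsg.Agent.HalfTransitive65
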