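import Mathlib
import Cfsg.Agent.Lib.GrLie99Assoc
import Cfsg.Agent.Lib.GrLie99Fpf
import Cfsg.Agent.Lib.HallAlperinPowers
import Cfsg.Agent.S3779

/-!
# Automorphisms of prime order with few fixed points

Fixed points in quotients and invariant sections, the Higman bound for Lie rings whose fixed points
have bounded exponent, and the derived length of powerful groups with such an automorphism.
-/

set_option autoImplicit false

namespace Cfsg.Agent.HallAlperinFixed

open scoped TensorProduct commutatorElement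
open Cfsg.Agent.GrLie99Assoc (Gr ι Sec lc grMap)
open Cfsg.Agent.GrLie99Kreknin (Fam Closed)
open Cfsg.Agent.GrLie99Higman (lcs)
open Cfsg.Agent.GrLie99Fpf (Ext CR Phi eig prj)

attribute [local instance] LieAlgebra.ExtendScalars.instLieRing
  LieAlgebra.ExtendScalars.instLieAlgebra

section Group

variable {G : Type*} [Group G] [Finite G]

/-- Fixed points in an invariant quotient are at most as many. -/
theorem card_fixed_quotient_le (φ : MulAut G) (N : Subgroup G) [N.Normal] (ψ : MulAut (G ⧸ N))
    (hψ : ∀ x : G, ψ x = φ x) :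
    Nat.card {q : G ⧸ N // ψ q = q} ≤ Nat.card {g : G // φ g = g} := by
  classical
  set C := (φ : G →* G).eqLocus (MonoidHom.id G)
  set T := ((ψ : (G ⧸ N) →* G ⧸ N).eqLocus (MonoidHom.id _)).comap (QuotientGroup.mk' N)
  have hT : ∀ x : T, (x : G)⁻¹ * φ x ∈ N := fun x => by
    rw [← QuotientGroup.eq]
    exact (x.2 : ψ (x : G) = ((x : G) : G ⧸ N)).symm.trans (hψ x)
  have hmap : T.map (QuotientGroup.mk' N) = (ψ : (G ⧸ N) →* G ⧸ N).eqLocus (MonoidHom.id _) :=
    Subgroup.map_comap_eq_self_of_surjective (QuotientGroup.mk'_surjective N) _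
  let d : T → N := fun x => ⟨_, hT x⟩
  -- the fibres of `x ↦ x⁻¹ φ x` are cosets of the fixed points
  have hle : Nat.card T ≤ Nat.card N * Nat.card C := by
    choose s hs using fun y : Set.range d => y.2
    let e : T → ↥N × ↥C := fun x =>
      (d x, ⟨(x : G) * (s ⟨d x, x, rfl⟩ : G)⁻¹, by
        show φ _ = _
        have h : (s ⟨d x, x, rfl⟩ : G)⁻¹ * φ (s ⟨d x, x, rfl⟩ : G) = (x : G)⁻¹ * φ x :=
          congrArg Subtype.val (hs ⟨d x, x, rfl⟩)
        rw [map_mul, map_inv, show φ (x : G) = x * ((x : G)⁻¹ * φ x) by group, ← h]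
        simp only [MonoidHom.id_apply]
        group⟩)
    rw [← Nat.card_prod]
    refine Nat.card_le_card_of_injective e fun x y hxy => ?_
    simp only [e, Prod.mk.injEq, Subtype.mk.injEq] at hxy
    have hss : s ⟨d x, x, rfl⟩ = s ⟨d y, y, rfl⟩ := congrArg s (Subtype.ext hxy.1)
    exact Subtype.ext (mul_right_cancel (hss ▸ hxy.2))
  have hN : N ≤ T := fun x hx => by
    show ψ (x : G ⧸ N) = (x : G ⧸ N)
    rw [(QuotientGroup.eq_one_iff x).mpr hx, map_one]
  have hcard : Nat.card T = Nat.card N * Nat.card (T.map (QuotientGroup.mk' N)) := by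
    have h := Subgroup.card_eq_card_quotient_mul_card_subgroup (N.subgroupOf T)
    rw [Nat.card_congr (Subgroup.subgroupOfEquivOfLe hN).toEquiv] at h
    rw [h, mul_comm]
    congr 1
    have hk : ((QuotientGroup.mk' N).comp T.subtype).ker = N.subgroupOf T := by
      rw [← MonoidHom.comap_ker, QuotientGroup.ker_mk']
      rfl
    rw [← hk, Nat.card_congr (QuotientGroup.quotientKerEquivRange _).toEquiv, MonoidHom.range_comp,
      Subgroup.range_subtype]
  rw [hcard, hmap] at hle
  exact Nat.le_of_mul_le_mul_left hle Nat.card_pos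

/-- Fixed points in an invariant subgroup. -/
theorem card_fixed_restrict_le (φ : MulAut G) (H : Subgroup G) (ψ : MulAut H)
    (hψ : ∀ x : H, (ψ x : G) = φ x) :
    Nat.card {q : H // ψ q = q} ≤ Nat.card {g : G // φ g = g} :=
  Nat.card_le_card_of_injective (fun q => ⟨(q.1 : G), by rw [← hψ, q.2]⟩) fun a b h =>
    Subtype.ext (Subtype.ext (congrArg Subtype.val h :))

/-- An elementary abelian group with an automorphism of order `p` and few fixed points. -/
theorem card_le_of_elementary {p n : ℕ} [Fact p.Prime] {V : Type*} [CommGroup V] [Finite V]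
    (hexp : ∀ v : V, v ^ p = 1) (α : MulAut V) (hα : α ^ p = 1)
    (hfix : Nat.card {v : V // α v = v} ≤ p ^ n) : Nat.card V ≤ (p ^ n) ^ p := by
  let A : AddMonoid.End (Additive V) := MonoidHom.toAdditive α.toMonoidHom
  let f : AddMonoid.End (Additive V) := A - 1
  have hp0 : (p : AddMonoid.End (Additive V)) = 0 := by
    refine AddMonoidHom.ext fun v => ?_
    refine (AddMonoid.End.natCast_apply p v).trans ?_
    exact hexp (Additive.toMul v)
  have hiter : ∀ (k : ℕ) (v : Additive V), (A ^ k) v = Additive.ofMul ((α ^ k) v.toMul) := by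
    intro k
    induction k with
    | zero => exact fun v => rfl
    | succ k ih =>
      intro v
      rw [pow_succ', pow_succ']
      show A ((A ^ k) v) = _
      rw [ih]
      rfl
  have hfp : f ^ p = 0 := by
    obtain ⟨r, hr⟩ := (Commute.one_right f).exists_add_pow_prime_eq (Fact.out : p.Prime)
    rw [show f + 1 = A from sub_add_cancel _ _, one_pow, hp0, zero_mul, zero_mul, zero_mul,
      add_zero] at hr
    have hA : A ^ p = 1 := by
      refine AddMonoidHom.ext fun v => ?_
      refine (hiter p v).trans ?_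
      rw [hα]
      rfl
    rw [hA] at hr
    exact left_eq_add.mp (hr.trans (add_comm _ _))
  have hker : Nat.card (f : Additive V →+ Additive V).ker ≤ p ^ n := by
    refine le_trans ?_ hfix
    refine Nat.card_le_card_of_injective
      (fun v => ⟨Additive.toMul v.1, ?_⟩) fun a b h => ?_
    · have h : A v.1 - v.1 = 0 := v.2
      exact congrArg Additive.toMul (sub_eq_zero.mp h)
    · exact Subtype.ext (congrArg Subtype.val h :)
  have hstep : ∀ k : ℕ, Nat.card ((f ^ k : AddMonoid.End (Additive V)) :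
      Additive V →+ Additive V).ker ≤ (p ^ n) ^ k := by
    intro k
    induction k with
    | zero =>
      rw [pow_zero, pow_zero, show ((1 : AddMonoid.End (Additive V)) :
        Additive V →+ Additive V).ker = ⊥ from (AddMonoidHom.ker_eq_bot_iff _).mpr fun a b h => h,
        AddSubgroup.card_bot]
    | succ k ih =>
      set K := ((f ^ (k + 1) : AddMonoid.End (Additive V)) : Additive V →+ Additive V).ker
      let g : K →+ ((f ^ k : AddMonoid.End (Additive V)) : Additive V →+ Additive V).ker :=
        ((f : Additive V →+ Additive V).comp K.subtype).codRestrict _ fun v => by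
          show (f ^ k) (f v) = 0
          have hv : (f ^ (k + 1)) (v : Additive V) = 0 := v.2
          rwa [pow_succ] at hv
      rw [← AddSubgroup.index_mul_card g.ker, pow_succ]
      refine Nat.mul_le_mul ?_ ?_
      · rw [AddSubgroup.index_ker]
        exact (AddSubgroup.card_le_card_addGroup _).trans ih
      · refine le_trans (Nat.card_le_card_of_injective
          (fun v => (⟨(v.1 : Additive V), congrArg Subtype.val (v.2 : g v.1 = 0)⟩ :
            (f : Additive V →+ Additive V).ker)) fun a b h => ?_) hker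
        exact Subtype.ext (Subtype.ext (congrArg Subtype.val h :))
  have h := hstep p
  rw [hfp, show ((0 : AddMonoid.End (Additive V)) : Additive V →+ Additive V).ker = ⊤ from
    AddMonoidHom.ker_zero, AddSubgroup.card_top] at h
  exact h

/-- Exponent dividing `p ^ 2`. -/
theorem card_le_of_exp_sq {p n : ℕ} [Fact p.Prime] {V : Type*} [CommGroup V] [Finite V]
    (hexp : ∀ v : V, v ^ p ^ 2 = 1) (α : MulAut V) (hα : α ^ p = 1)
    (hfix : Nat.card {v : V // α v = v} ≤ p ^ n) :
    Nat.card V ≤ (p ^ n) ^ p * (p ^ n) ^ p := by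
  set f := powMonoidHom p (α := V)
  have hres : ∀ (H : Subgroup V), H.map (α : V →* V) = H → (∀ v ∈ H, v ^ p = 1) →
      Nat.card H ≤ (p ^ n) ^ p := by
    intro H hH hHp
    let β : MulAut H := (α.subgroupMap H).trans (MulEquiv.subgroupCongr hH)
    have hβ : ∀ x : H, (β x : V) = α x := fun x => rfl
    have hβp : β ^ p = 1 := by
      have : ∀ (k : ℕ) (x : H), ((β ^ k) x : V) = (α ^ k) x := by
        intro k
        induction k with
        | zero => exact fun x => rfl
        | succ k ih =>
          intro x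
          rw [pow_succ', pow_succ', MulAut.mul_apply, MulAut.mul_apply, hβ, ih]
      exact MulEquiv.ext fun x => Subtype.ext (by rw [this, hα]; rfl)
    exact card_le_of_elementary (fun v => Subtype.ext (hHp v v.2)) β hβp
      ((card_fixed_restrict_le α H β hβ).trans hfix)
  have hk : f.ker.map (α : V →* V) = f.ker := by
    refine Subgroup.eq_of_le_of_card_ge ?_
      (Subgroup.card_map_of_injective (f := (α : V →* V)) α.injective).ge
    rintro _ ⟨v, hv, rfl⟩
    simp only [SetLike.mem_coe, MonoidHom.mem_ker, f, powMonoidHom_apply] at hv ⊢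
    rw [← map_pow, hv, map_one]
  have hr : f.range.map (α : V →* V) = f.range := by
    refine Subgroup.eq_of_le_of_card_ge ?_
      (Subgroup.card_map_of_injective (f := (α : V →* V)) α.injective).ge
    rintro _ ⟨_, ⟨v, rfl⟩, rfl⟩
    exact ⟨α v, (map_pow α v p).symm⟩
  rw [← Subgroup.index_mul_card f.ker, Subgroup.index_ker]
  refine Nat.mul_le_mul (hres _ hr ?_) (hres _ hk fun v hv => hv)
  rintro _ ⟨v, rfl⟩
  simp only [f, powMonoidHom_apply, ← pow_mul, ← pow_two, hexp]

end Group

universe u

/-- Higman's bound when the fixed points have bounded exponent. -/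
theorem higman_torsion {p : ℕ} [Fact p.Prime] {M : Type u} [LieRing M] (φ : M →+ M)
    (hφ : ∀ a b, φ ⁅a, b⁆ = ⁅φ a, φ b⁆) (hp : ∀ m, φ^[p] m = m) {n : ℕ}
    (hfix : ∀ m, φ m = m → (p ^ n : ℤ) • m = 0) {N : ℕ}
    (hN : ∀ (Λ : Type u) [LieRing Λ] (A : Fam p Λ), Closed A → A 0 = ⊥ → iSupIndep A →
      ∀ i, lcs A N i = ⊥)
    {m : M} (hm : m ∈ GrLie99Fpf.C M N) : (p ^ ((n + 2) * (N + 1)) : ℤ) • m = 0 := by
  classical
  have hsmul : ∀ (k : ℕ) (x : Ext p M), ((p ^ k : ℤ)) • x = ((p : CR p) ^ k) • x := by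
    intro k x
    rw [← Int.cast_smul_eq_zsmul (CR p)]
    push_cast
    rfl
  -- the fixed component is killed by `p ^ (n + 1)`
  have h0 : ∀ x ∈ eig (p := p) φ 0, (p ^ (n + 1) : ℤ) • x = 0 := by
    intro x hx
    have hpr : ∀ y : Ext p M, (p ^ n : ℤ) • prj φ (0 : ZMod p) y = 0 := by
      intro y
      induction y using TensorProduct.induction_on with
      | zero => simp
      | add a b ha hb => rw [map_add, smul_add, ha, hb, add_zero]
      | tmul r b =>
        have hs : φ (∑ i ∈ Finset.range p, φ^[i] b) = ∑ i ∈ Finset.range p, φ^[i] b := by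
          rw [map_sum]
          have e := (Finset.sum_range_succ' (fun i => φ^[i] b) p).symm.trans
            (Finset.sum_range_succ (fun i => φ^[i] b) p)
          simp only [hp, Function.iterate_zero_apply, Function.iterate_succ_apply'] at e
          exact add_right_cancel e
        simp only [GrLie99Fpf.prj_apply, zero_mul, neg_zero, GrLie99Fpf.chi_zero, one_smul,
          GrLie99Fpf.Phi_pow_tmul]
        rw [GrLie99Fpf.sum_val (fun i => r ⊗ₜ[ℤ] (φ^[i] b)), ← TensorProduct.tmul_sum,
          ← TensorProduct.tmul_smul, hfix _ hs, TensorProduct.tmul_zero]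
    have e := GrLie99Fpf.prj_eig φ hx (0 : ZMod p)
    rw [sub_zero, if_pos rfl] at e
    rw [pow_succ, mul_smul, show ((p : ℤ) • x) = (p : CR p) • x by
      rw [← Int.cast_smul_eq_zsmul (CR p)]; push_cast; rfl, ← e, hpr]
  -- separate the degrees
  let Λ' := AddMonoidAlgebra ℤ (ZMod p) ⊗[ℤ] Ext p M
  let σ : ZMod p → Ext p M →+ Λ' := fun i =>
    (TensorProduct.mk ℤ (AddMonoidAlgebra ℤ (ZMod p)) (Ext p M)
      (AddMonoidAlgebra.single i 1)).toAddMonoidHom
  have hσlie : ∀ i j x y, ⁅σ i x, σ j y⁆ = σ (i + j) ⁅x, y⁆ := by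
    intro i j x y
    refine (LieAlgebra.ExtendScalars.bracket_tmul ℤ (AddMonoidAlgebra ℤ (ZMod p)) (Ext p M)
      (Ext p M) _ _ x y).trans ?_
    rw [AddMonoidAlgebra.single_mul_single, one_mul]
    rfl
  let coord : ZMod p → Λ' →+ Ext p M := fun i =>
    (TensorProduct.lift ((LinearMap.lsmul ℤ (Ext p M)).comp
      ((Finsupp.applyAddHom i).comp (AddMonoidAlgebra.coeffAddEquiv).toAddMonoidHom :
        AddMonoidAlgebra ℤ (ZMod p) →+ ℤ).toIntLinearMap)).toAddMonoidHom
  have hcoord : ∀ i j x, coord i (σ j x) = if j = i then x else 0 := by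
    intro i j x
    show (AddMonoidAlgebra.single j (1 : ℤ)).coeff i • x = _
    rw [AddMonoidAlgebra.coeff_single_apply]
    split_ifs <;> simp
  set s : ℤ := (p ^ (n + 1) : ℤ) with hs
  let B : Fam p Λ' := fun i => ((eig (p := p) φ i).map ((σ i).comp (zsmulAddGroupHom s)))
  have hB : Closed B := by
    rintro i j _ ⟨a, ha, rfl⟩ _ ⟨b, hb, rfl⟩
    refine ⟨⁅a, s • b⁆, GrLie99Fpf.eig_closed φ hφ i j a ha _ (AddSubgroup.zsmul_mem _ hb s), ?_⟩
    simp only [AddMonoidHom.coe_comp, Function.comp_apply, zsmulAddGroupHom_apply, hσlie,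
      zsmul_lie]
  have hB0 : B 0 = ⊥ := by
    refine (AddSubgroup.eq_bot_iff_forall _).2 ?_
    rintro _ ⟨a, ha, rfl⟩
    show σ 0 (s • a) = 0
    rw [show s • a = 0 from h0 a ha, map_zero]
  have hBi : iSupIndep B := by
    intro i
    rw [disjoint_iff, AddSubgroup.eq_bot_iff_forall]
    rintro z ⟨⟨a, -, rfl⟩, hz⟩
    have hle : (⨆ (j) (_ : j ≠ i), B j) ≤ (coord i).ker := by
      refine iSup₂_le fun j hji => ?_
      rintro _ ⟨b, -, rfl⟩
      rw [AddMonoidHom.mem_ker, AddMonoidHom.coe_comp, Function.comp_apply, hcoord, if_neg hji]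
    have h := hle hz
    rw [AddMonoidHom.mem_ker, AddMonoidHom.coe_comp, Function.comp_apply, hcoord, if_pos rfl] at h
    rw [AddMonoidHom.coe_comp, Function.comp_apply, h, map_zero]
  have hlcs : ∀ (k : ℕ) (i : ZMod p), ∀ a ∈ lcs (eig (p := p) φ) k i,
      σ i (s ^ (k + 1) • a) ∈ lcs B k i := by
    intro k
    induction k with
    | zero =>
      intro i a ha
      exact ⟨a, ha, by simp⟩
    | succ k ih =>
      intro i a ha
      rw [lcs] at ha
      induction ha using AddSubgroup.closure_induction with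
      | mem x hx =>
        obtain ⟨u, v, a, b, ha, hb, rfl, rfl⟩ := hx
        rw [show σ (u + v) (s ^ (k + 1 + 1) • ⁅a, b⁆) =
          ⁅σ u (s ^ (k + 1) • a), σ v (s • b)⁆ by
            rw [hσlie, zsmul_lie, lie_zsmul, smul_smul, ← pow_succ]]
        exact GrLie99Higman.lcs_lie B (ih u a ha) ⟨b, hb, rfl⟩
      | zero => simp
      | add x y _ _ hx hy => rw [smul_add, map_add]; exact add_mem hx hy
      | neg x _ hx => rw [smul_neg, map_neg]; exact neg_mem hx
  have hkill : ∀ i, ∀ a ∈ lcs (eig (p := p) φ) N i, s ^ (N + 1) • a = 0 := by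
    intro i a ha
    have h := hlcs N i a ha
    rw [hN Λ' B hB hB0 hBi i, AddSubgroup.mem_bot] at h
    have := congrArg (coord i) h
    rwa [hcoord, if_pos rfl, map_zero] at this
  -- the extension map
  have hmem : ∀ (k : ℕ) (x : M), x ∈ GrLie99Fpf.C M k →
      (p ^ (k + 1) : ℤ) • ((1 : CR p) ⊗ₜ[ℤ] x) ∈ ⨆ i : ZMod p, lcs (eig φ) k i := by
    have hbase : ∀ x : M, (p : ℤ) • ((1 : CR p) ⊗ₜ[ℤ] x) ∈ ⨆ i : ZMod p, lcs (eig φ) 0 i := by
      intro x
      rw [show ((p : ℤ) • ((1 : CR p) ⊗ₜ[ℤ] x : Ext p M)) = (p : CR p) • ((1 : CR p) ⊗ₜ[ℤ] x) by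
        rw [← Int.cast_smul_eq_zsmul (CR p)]; push_cast; rfl, ← GrLie99Fpf.sum_prj φ]
      exact AddSubgroup.sum_mem _ fun i _ =>
        AddSubgroup.mem_iSup_of_mem i (GrLie99Fpf.prj_mem φ hp i _)
    intro k
    induction k with
    | zero => intro x _; simpa using hbase x
    | succ k ih =>
      intro x hx
      induction hx using AddSubgroup.closure_induction with
      | mem y hy =>
        obtain ⟨a, b, ha, rfl⟩ := hy
        have e : (p ^ (k + 1 + 1) : ℤ) • ((1 : CR p) ⊗ₜ[ℤ] ⁅a, b⁆ : Ext p M) =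
            ⁅(p ^ (k + 1) : ℤ) • ((1 : CR p) ⊗ₜ[ℤ] a : Ext p M),
              (p : ℤ) • ((1 : CR p) ⊗ₜ[ℤ] b : Ext p M)⁆ := by
          rw [zsmul_lie, lie_zsmul, GrLie99Fpf.tmul_lie, mul_one, smul_smul, ← pow_succ]
        have ha' := ih a ha
        have hb := hbase b
        rw [AddSubgroup.iSup_eq_closure] at ha' hb
        rw [e]
        refine GrLie99Kreknin.lie_mem_closure ?_ ha' hb
        intro u hu v hv
        obtain ⟨i, hu⟩ := Set.mem_iUnion.1 hu
        obtain ⟨j, hv⟩ := Set.mem_iUnion.1 hv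
        exact AddSubgroup.mem_iSup_of_mem (i + j) (GrLie99Higman.lcs_lie _ hu hv)
      | zero => simp
      | add a b _ _ ha hb => rw [TensorProduct.tmul_add, smul_add]; exact add_mem ha hb
      | neg a _ ha => rw [TensorProduct.tmul_neg, smul_neg]; exact neg_mem ha
  have hle : (⨆ i : ZMod p, lcs (eig φ) N i) ≤ (zsmulAddGroupHom (s ^ (N + 1))).ker :=
    iSup_le fun i a ha => hkill i a ha
  have h := hle (hmem N m hm)
  rw [AddMonoidHom.mem_ker, zsmulAddGroupHom_apply, smul_smul, hs, ← pow_mul, ← pow_add,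
    show (n + 1) * (N + 1) + (N + 1) = (n + 2) * (N + 1) by ring, ← TensorProduct.tmul_smul] at h
  obtain ⟨c, hc⟩ := GrLie99Fpf.exists_coord (p := p)
  have := congrArg (TensorProduct.lift ((LinearMap.lsmul ℤ M).comp c)) h
  rwa [TensorProduct.lift.tmul, map_zero, LinearMap.comp_apply, hc, LinearMap.lsmul_apply,
    one_smul] at this

/-- The Higman bound. -/
abbrev hb (p : ℕ) : ℕ := GrLie99Higman.bound p (2 ^ (p - 1) - 1)

theorem hb_spec (p : ℕ) [Fact p.Prime] : ∀ (Λ : Type u) [LieRing Λ] (A : Fam p Λ), Closed A →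
    A 0 = ⊥ → iSupIndep A → ∀ i, lcs A (hb p) i = ⊥ := fun Λ _ A hA h0 hi i =>
  le_bot_iff.mp ((GrLie99Higman.lcs_eq_bot hA h0 hi _ i).trans
    (GrLie99Kreknin.series_eq_bot hA h0 i).le)

/-- The exponent in the Higman step. -/
abbrev hk (p n : ℕ) : ℕ := (n + 2) * (hb p + 1)

/-- In a `p`-group with an automorphism of order `p` and few fixed points a deep lower central
factor has bounded exponent. -/
theorem pow_mem_lc {p n : ℕ} [Fact p.Prime] {X : Type u} [Group X] [Finite X] (hX : IsPGroup p X)
    (φ : MulAut X) (hφ : φ ^ p = 1) (hfix : Nat.card {x : X // φ x = x} ≤ p ^ n)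
    {x : X} (hx : x ∈ lc X (hb p)) : x ^ p ^ hk p n ∈ lc X (hb p + 1) := by
  classical
  have hpow : ∀ (k j : ℕ) (y : X) (hy : y ∈ lc X j),
      k • ι j y hy = ι j (y ^ k) (pow_mem hy k) := by
    intro k j y hy
    induction k with
    | zero =>
      rw [zero_smul]
      exact ((GrLie99Assoc.ι_congr rfl (pow_zero y) _ (one_mem _)).trans
        (GrLie99Assoc.ι_one _)).symm
    | succ k ih =>
      rw [succ_nsmul, ih, ← GrLie99Assoc.ι_mul (pow_mem hy k) hy]
      exact GrLie99Assoc.ι_congr rfl (pow_succ y k).symm _ _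
  have hiter : ∀ m : Gr X, (grMap φ)^[p] m = m := by
    intro m
    induction m using GrLie99Assoc.gr_induction with
    | h0 => exact iterate_map_zero _ _
    | h2 a b ha hb => rw [iterate_map_add, ha, hb]
    | h1 j y hy =>
      have e : φ^[p] y = y := by rw [← Cfsg.Agent.S3779.mulAut_pow_apply, hφ]; rfl
      rw [Cfsg.Agent.S3779.grMap_iterate φ p hy (by rwa [e])]
      exact GrLie99Assoc.ι_congr rfl e _ _
  have key : ∀ (z : Gr X) (j : ℕ),
      DirectSum.of (fun j => Additive (Sec X j)) j ((grMap φ z) j) =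
        grMap φ (DirectSum.of (fun j => Additive (Sec X j)) j (z j)) := by
    intro z j
    induction z using GrLie99Assoc.gr_induction with
    | h0 => simp only [map_zero, DirectSum.zero_apply]
    | h2 a b ha hb => simp only [map_add, DirectSum.add_apply, ha, hb]
    | h1 k y hy =>
      rw [GrLie99Assoc.grMap_ι]
      rcases eq_or_ne k j with rfl | h
      · rw [ι, ι, DirectSum.of_eq_same, DirectSum.of_eq_same]
        exact (GrLie99Assoc.grMap_ι φ hy).symm
      · simp only [ι, DirectSum.of_eq_of_ne _ _ _ h.symm, map_zero]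
  have hfixed : ∀ m : Gr X, grMap φ m = m → (p ^ n : ℤ) • m = 0 := by
    intro m hm
    refine DFinsupp.ext fun j => ?_
    obtain ⟨y, hy, e⟩ := GrLie99Assoc.exists_cls (m j)
    have h1 := key m j
    rw [hm, e, ← ι, GrLie99Assoc.grMap_ι] at h1
    change ι j y hy = ι j (φ y) (GrLie99Assoc.map_mem_lc φ hy) at h1
    have hyk : y⁻¹ * φ y ∈ lc X (j + 1) := by
      refine GrLie99Assoc.mem_of_ι_eq_zero
        (mul_mem (inv_mem hy) (GrLie99Assoc.map_mem_lc φ hy)) ?_
      rw [GrLie99Assoc.ι_mul (inv_mem hy) (GrLie99Assoc.map_mem_lc φ hy), ← h1,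
        ← GrLie99Assoc.ι_mul (inv_mem hy) hy,
        GrLie99Assoc.ι_congr rfl (inv_mul_cancel y) _ (one_mem _), GrLie99Assoc.ι_one]
    have hmap : (lc X (j + 1)).map (φ : X →* X) = lc X (j + 1) := by
      rw [Subgroup.map_lowerCentralSeries, Subgroup.map_top_of_surjective _ φ.surjective]
    set ψ : MulAut (X ⧸ lc X (j + 1)) := QuotientGroup.congr _ _ φ hmap
    have hle : Nat.card {q : X ⧸ lc X (j + 1) // ψ q = q} ≤ p ^ n :=
      (card_fixed_quotient_le φ _ ψ fun x => rfl).trans hfix
    obtain ⟨t, ht⟩ := ((hX.to_quotient _).to_subgroup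
      ((ψ : _ →* X ⧸ lc X (j + 1)).eqLocus (MonoidHom.id _))).exists_card_eq
    have htn : t ≤ n := (Nat.pow_le_pow_iff_right (Fact.out : p.Prime).one_lt).mp
      (ht.symm.le.trans hle)
    have hyp : y ^ p ^ n ∈ lc X (j + 1) := by
      rw [← QuotientGroup.eq_one_iff, QuotientGroup.mk_pow]
      have hq : (y : X ⧸ lc X (j + 1)) ∈
          (ψ : _ →* X ⧸ lc X (j + 1)).eqLocus (MonoidHom.id _) :=
        (QuotientGroup.eq.mpr hyk).symm
      exact orderOf_dvd_iff_pow_eq_one.mp ((Subgroup.orderOf_dvd_natCard _ hq).trans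
        (ht ▸ pow_dvd_pow p htn))
    rw [show ((p ^ n : ℤ)) = ((p ^ n : ℕ) : ℤ) by push_cast; rfl, natCast_zsmul,
      DFinsupp.smul_apply, DirectSum.zero_apply, e]
    have h0 := (hpow (p ^ n) j y hy).trans (GrLie99Assoc.ι_eq_zero _ hyp)
    rw [ι, ← map_nsmul] at h0
    exact DirectSum.of_injective j (h0.trans (map_zero _).symm)
  have hC := higman_torsion (M := Gr X) (grMap φ) (GrLie99Assoc.grMap_lie φ) hiter hfixed
    (hb_spec p) (Cfsg.Agent.S3779.ι_mem_C (hb p) x hx)
  rw [show ((p : ℤ) ^ hk p n) = ((p ^ hk p n : ℕ) : ℤ) by push_cast; rfl, natCast_zsmul,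
    hpow] at hC
  exact GrLie99Assoc.mem_of_ι_eq_zero (pow_mem hx _) hC

open Cfsg.Agent.HallAlperinPowers in
/-- A powerful group with an automorphism of order `p` and few fixed points has bounded derived
length. -/
theorem derivedSeries_powerful {p n : ℕ} [Fact p.Prime] {G : Type u} [Group G] [Finite G]
    (hG : IsPGroup p G) (hT : Emb p (⊤ : Subgroup G)) (φ : MulAut G) (hφ : φ ^ p = 1)
    (hfix : Nat.card {x : G // φ x = x} ≤ p ^ n) :
    derivedSeries G (hb p + (hb p + 2) * hk p n) = ⊥ := by
  set N := hb p with hNdef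
  set K := hk p n with hKdef
  set T := (⊤ : Subgroup G).lowerCentralSeries N with hTdef
  set X := (P p)^[K] (⊤ : Subgroup G) with hXdef
  have hXmap : X.map (φ : G →* G) = X := by
    rw [hXdef, map_iterate_P, Subgroup.map_top_of_surjective _ φ.surjective]
  let ψ : MulAut X := (φ.subgroupMap X).trans (MulEquiv.subgroupCongr hXmap)
  have hψ : ∀ x : X, (ψ x : G) = φ x := fun x => rfl
  have hψp : ψ ^ p = 1 := by
    have : ∀ (k : ℕ) (x : X), ((ψ ^ k) x : G) = (φ ^ k) x := by
      intro k
      induction k with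
      | zero => exact fun x => rfl
      | succ k ih =>
        intro x
        rw [pow_succ', pow_succ', MulAut.mul_apply, MulAut.mul_apply, hψ, ih]
    exact MulEquiv.ext fun x => Subtype.ext (by rw [this, hφ]; rfl)
  have hstep : ∀ x ∈ X.lowerCentralSeries N, x ^ p ^ K ∈ X.lowerCentralSeries (N + 1) := by
    intro x hx
    rw [← Subgroup.top_subtype_lowerCentralSeries] at hx ⊢
    obtain ⟨y, hy, rfl⟩ := hx
    exact ⟨y ^ p ^ K, pow_mem_lc (hG.to_subgroup X) ψ hψp
      ((card_fixed_restrict_le φ X ψ hψ).trans hfix) hy, map_pow X.subtype y _⟩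
  rw [hXdef, lcs_iterate hG hT, lcs_iterate hG hT] at hstep
  set S := (P p)^[(N + 1) * K] T
  set Y := (P p)^[(N + 1 + 1) * K] ((⊤ : Subgroup G).lowerCentralSeries (N + 1))
  have hTE : Emb p T := emb_lcs hG hT N
  have hYn : Y.Normal := (Emb.iterate hG hT (emb_lcs hG hT (N + 1)) _).1
  -- the factor is abelian of exponent dividing `p ^ K`
  have hSS : ∀ a ∈ S, ∀ b ∈ S, Commute (a : G ⧸ Y) (b : G ⧸ Y) := by
    intro a ha b hb
    rw [← commutatorElement_eq_one_iff_commute]
    refine (map_commutatorElement (QuotientGroup.mk' Y) a b).symm.trans ?_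
    rw [QuotientGroup.mk'_apply, QuotientGroup.eq_one_iff]
    have hb' : b ∈ (P p)^[K] (⊤ : Subgroup G) := by
      have : (N + 1) * K = K + N * K := by ring
      simp only [S, this, Function.iterate_add_apply] at hb
      exact iterate_mono le_top K hb
    have := Subgroup.commutator_mem_commutator ha hb'
    rw [show S = (P p)^[(N + 1) * K] T from rfl, comm_iterate hG hT hTE hT, ← add_one_mul] at this
    exact this
  have hiter : ∀ i ≤ K, ∀ x ∈ (P p)^[i] S, (x : G ⧸ Y) ^ p ^ (K - i) = 1 := by
    intro i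
    induction i with
    | zero =>
      intro _ x hx
      rw [Nat.sub_zero, ← QuotientGroup.mk_pow, QuotientGroup.eq_one_iff]
      exact hstep x hx
    | succ i ih =>
      intro hi x hx
      rw [Function.iterate_succ_apply'] at hx
      have hsub : ∀ z ∈ P p ((P p)^[i] S), z ∈ S := fun z hz =>
        iterate_le S (i + 1) (by rwa [Function.iterate_succ_apply'])
      induction hx using Subgroup.closure_induction with
      | mem z hz =>
        obtain ⟨w, hw, rfl⟩ := hz
        show ((w ^ p : G) : G ⧸ Y) ^ _ = 1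
        rw [QuotientGroup.mk_pow, ← pow_mul, ← pow_succ',
          show K - (i + 1) + 1 = K - i by omega]
        exact ih (by omega) w hw
      | one => rw [QuotientGroup.mk_one, one_pow]
      | mul a b ha hb iha ihb =>
        rw [QuotientGroup.mk_mul, (hSS a (hsub a ha) b (hsub b hb)).mul_pow, iha, ihb, mul_one]
      | inv a _ iha => rw [QuotientGroup.mk_inv, inv_pow, iha, inv_one]
  have hPK : (P p)^[K] S ≤ Y := fun x hx => by
    have := hiter K le_rfl x hx
    rwa [Nat.sub_self, pow_zero, pow_one, QuotientGroup.eq_one_iff] at this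
  set e := (N + 2) * K with hedef
  have he : (P p)^[e] T = ⊥ := by
    have h1 : (P p)^[e] T ≤ Y := by
      refine le_of_eq_of_le ?_ hPK
      rw [← Function.iterate_add_apply]
      congr 1
      rw [hedef]; ring
    have h2 : Y ≤ (P p)^[e + 2] T := by
      show _ ≤ _
      simp only [Y, show (N + 1 + 1) * K = e from rfl]
      rw [Function.iterate_add_apply]
      exact iterate_mono hTE.2 e
    have := (Emb.iterate hG hT hTE e).1
    have hb2 : (P p)^[e] T ≤ ⊥ := by
      refine le_of_absorb hG ?_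
      refine (h1.trans h2).trans ?_
      rw [Function.iterate_succ_apply', Function.iterate_succ_apply']
      exact (P_le _).trans le_sup_right
    exact le_bot_iff.mp hb2
  have hder : ∀ i, derivedSeries G (N + i) ≤ (P p)^[i] T := by
    intro i
    induction i with
    | zero =>
      have : ∀ j, derivedSeries G j ≤ (⊤ : Subgroup G).lowerCentralSeries j := by
        intro j
        induction j with
        | zero => simp
        | succ j ihj =>
          rw [derivedSeries_succ, Subgroup.lowerCentralSeries_succ]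
          exact Subgroup.commutator_mono ihj le_top
      exact this N
    | succ i ih =>
      rw [← Nat.add_assoc, derivedSeries_succ, Function.iterate_succ_apply']
      refine (Subgroup.commutator_mono ih le_top).trans ?_
      exact (Emb.iterate hG hT hTE i).2.trans (P_mono (P_le _))
  exact le_bot_iff.mp ((hder e).trans he.le)

end Cfsg.Agent.HallAlperinFixed
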