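import Mathlib
import Cfsg.Agent.Lib.HallAlperinFixed
import Cfsg.Agent.Lib.PGroupsBasic

/-!
# Alperin: derived length of a p-group with an automorphism of order p with few fixed points
-/

set_option autoImplicit false

namespace Cfsg.Agent.HallAlperinPGroup

open Cfsg.Agent.HallAlperinPowers Cfsg.Agent.HallAlperinFixed
open scoped commutatorElement

section Derived

variable {X : Type*} [Group X]

/-- A solvable group of order at most `B` has derived length at most `B`. -/
theorem derivedSeries_eq_bot_of_card_le [Finite X] [Group.IsSolvable X] {B : ℕ}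
    (h : Nat.card X ≤ B) : derivedSeries X B = ⊥ := by
  have key : ∀ j, derivedSeries X j = ⊥ ∨ Nat.card (derivedSeries X j) + j ≤ Nat.card X := by
    intro j
    induction j with
    | zero => exact Or.inr (by simp [Subgroup.card_top])
    | succ j ih =>
      rcases ih with ih | ih
      · exact Or.inl (le_bot_iff.mp (by rw [derivedSeries_succ, ih]; exact Subgroup.commutator_le_left _ _))
      by_cases hb : derivedSeries X j = ⊥
      · exact Or.inl (le_bot_iff.mp (by rw [derivedSeries_succ, hb]; exact Subgroup.commutator_le_left _ _))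
      right
      have hlt : derivedSeries X (j + 1) < derivedSeries X j := by
        rw [derivedSeries_succ]
        exact Group.IsSolvable.commutator_lt_of_ne_bot hb
      have hc : Nat.card (derivedSeries X (j + 1)) < Nat.card (derivedSeries X j) := by
        refine lt_of_le_of_ne (Nat.le_of_dvd Nat.card_pos (Subgroup.card_dvd_of_le hlt.le))
          fun e => hlt.ne (Subgroup.eq_of_le_of_card_ge hlt.le e.ge)
      omega
  rcases key B with h' | h'
  · exact h'
  · have : Nat.card (derivedSeries X B) = 0 := by omega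
    exact absurd this Nat.card_pos.ne'

/-- Derived length adds along a series. -/
theorem derivedSeries_add_le {H : Subgroup X} {j : ℕ} (h : derivedSeries X j ≤ H) :
    ∀ k, derivedSeries X (j + k) ≤ (derivedSeries H k).map H.subtype
  | 0 => by
    rw [derivedSeries_zero, ← MonoidHom.range_eq_map, Subgroup.range_subtype]
    exact h
  | k + 1 => by
    rw [← Nat.add_assoc, derivedSeries_succ, derivedSeries_succ, Subgroup.map_commutator]
    exact Subgroup.commutator_mono (derivedSeries_add_le h k) (derivedSeries_add_le h k)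

theorem derivedSeries_add {H : Subgroup X} {j k : ℕ} (h : derivedSeries X j ≤ H)
    (hk : derivedSeries H k = ⊥) : derivedSeries X (j + k) = ⊥ :=
  le_bot_iff.mp ((derivedSeries_add_le h k).trans (by rw [hk, Subgroup.map_bot]))

theorem derivedSeries_anti {j k : ℕ} (h : j ≤ k) : derivedSeries X k ≤ derivedSeries X j := by
  induction h with
  | refl => exact le_rfl
  | step _ ih =>
    refine le_trans ?_ ih
    rw [derivedSeries_succ]
    have := derivedSeries_normal (G := X)
    exact Subgroup.commutator_le_right _ _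

/-- An injective image reflects derived series. -/
theorem derivedSeries_eq_bot_of_injective {Y : Type*} [Group Y] (f : X →* Y)
    (hf : Function.Injective f) {k : ℕ} (h : derivedSeries Y k = ⊥) : derivedSeries X k = ⊥ :=
  (Subgroup.map_eq_bot_iff_of_injective _ hf).mp
    (le_bot_iff.mp ((map_derivedSeries_le_derivedSeries f k).trans h.le))

end Derived

/-- Bound for the order of an invariant elementary section. -/
abbrev secBound (p n : ℕ) : ℕ := (p ^ n) ^ p

/-- Derived length of the quotient by the sectionwise centralizer. -/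
abbrev actBound (p n : ℕ) : ℕ := (secBound p n * secBound p n).factorial

/-- The bound for `p`-groups. -/
abbrev pGroupBound (p n : ℕ) : ℕ := actBound p n + (hb p + (hb p + 2) * hk p n)

variable {p n : ℕ} [Fact p.Prime] {Γ : Type*} [Group Γ] [Finite Γ]

theorem card_fixed_conj_le {R H : Subgroup Γ} [R.Normal] [H.Normal] (hHR : H ≤ R) (a : Γ) :
    Nat.card {x : H // MulAut.conjNormal a x = x} ≤
      Nat.card {x : R // MulAut.conjNormal a x = x} := by
  have key : ∀ x : {x : H // MulAut.conjNormal a x = x},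
      MulAut.conjNormal a (⟨(x.1 : Γ), hHR x.1.2⟩ : R) = ⟨(x.1 : Γ), hHR x.1.2⟩ := fun x =>
    Subtype.ext (by
      rw [MulAut.conjNormal_apply]
      exact (MulAut.conjNormal_apply a x.1).symm.trans (congrArg Subtype.val x.2))
  refine Nat.card_le_card_of_injective (fun x => ⟨_, key x⟩) fun x y h => ?_
  have h' : (x.1 : Γ) = y.1 := congrArg (fun z : {x : R // MulAut.conjNormal a x = x} => (z.1 : Γ)) h
  exact Subtype.ext (Subtype.ext h')

/-- Invariant abelian sections of exponent dividing `p ^ 2` are small. -/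
theorem card_section_le (hΓ : IsPGroup p Γ) {R : Subgroup Γ} [R.Normal] {a : Γ} (ha : a ^ p = 1)
    (hfix : Nat.card {x : R // MulAut.conjNormal a x = x} ≤ p ^ n) {K H : Subgroup Γ} [K.Normal]
    [H.Normal] (hHR : H ≤ R) (hab : ⁅H, H⁆ ≤ K) (hexp : ∀ x ∈ H, x ^ p ^ 2 ∈ K) :
    Nat.card (H.map (QuotientGroup.mk' K)) ≤ secBound p n * secBound p n := by
  set N := K.subgroupOf H
  let _ : CommGroup (↥H ⧸ N) := { (inferInstance : Group (↥H ⧸ N)) with
    mul_comm := fun u v => by
      obtain ⟨u, rfl⟩ := QuotientGroup.mk_surjective u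
      obtain ⟨v, rfl⟩ := QuotientGroup.mk_surjective v
      rw [← QuotientGroup.mk_mul, ← QuotientGroup.mk_mul, QuotientGroup.eq,
        Subgroup.mem_subgroupOf]
      have : (((u : Γ) * v)⁻¹ * ((v : Γ) * u)) = ⁅(v : Γ)⁻¹, (u : Γ)⁻¹⁆ := by
        simp only [commutatorElement_def]; group
      push_cast
      rw [this]
      exact hab (Subgroup.commutator_mem_commutator (inv_mem v.2) (inv_mem u.2)) }
  set φ : MulAut H := MulAut.conjNormal a
  have hmap : N.map (φ : H →* H) = N := by
    refine Subgroup.eq_of_le_of_card_ge ?_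
      (Subgroup.card_map_of_injective (f := (φ : H →* H)) φ.injective).ge
    rintro _ ⟨x, hx, rfl⟩
    show ((φ x : H) : Γ) ∈ K
    rw [MulAut.conjNormal_apply]
    exact (inferInstance : K.Normal).conj_mem _ hx a
  set ψ : MulAut (↥H ⧸ N) := QuotientGroup.congr N N φ hmap
  have hψ : ∀ x : H, ψ x = φ x := fun x => rfl
  have hψp : ψ ^ p = 1 := by
    have hk : ∀ (k : ℕ) (x : H),
        (ψ ^ k) (x : ↥H ⧸ N) = (((MulAut.conjNormal (a ^ k)) x : H) : ↥H ⧸ N) := by
      intro k
      induction k with
      | zero => intro x; rw [pow_zero, pow_zero, map_one]; rfl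
      | succ k ih => intro x; rw [pow_succ', pow_succ', MulAut.mul_apply, ih, map_mul]; rfl
    refine MulEquiv.ext fun q => ?_
    obtain ⟨x, rfl⟩ := QuotientGroup.mk_surjective q
    rw [hk, ha, map_one]
    rfl
  have hfixH : Nat.card {x : H // φ x = x} ≤ p ^ n := (card_fixed_conj_le hHR a).trans hfix
  have h := card_le_of_exp_sq (p := p) (n := n) (V := ↥H ⧸ N) (fun v => by
    obtain ⟨v, rfl⟩ := QuotientGroup.mk_surjective v
    rw [← QuotientGroup.mk_pow, QuotientGroup.eq_one_iff, Subgroup.mem_subgroupOf]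
    exact hexp v v.2) ψ hψp ((card_fixed_quotient_le φ N ψ hψ).trans hfixH)
  refine le_trans (le_of_eq ?_) h
  have hk : ((QuotientGroup.mk' K).comp H.subtype).ker = N := by
    rw [← MonoidHom.comap_ker, QuotientGroup.ker_mk']; rfl
  rw [← hk, Nat.card_congr (QuotientGroup.quotientKerEquivRange _).toEquiv, MonoidHom.range_comp,
    Subgroup.range_subtype]

/-- A deep derived subgroup centralizes all these sections. -/
theorem comm_section_le (hΓ : IsPGroup p Γ) {R : Subgroup Γ} [R.Normal] {a : Γ} (ha : a ^ p = 1)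
    (hfix : Nat.card {x : R // MulAut.conjNormal a x = x} ≤ p ^ n) {K H : Subgroup Γ} [K.Normal]
    [H.Normal] (hHR : H ≤ R) (hab : ⁅H, H⁆ ≤ K) (hexp : ∀ x ∈ H, x ^ p ^ 2 ∈ K) :
    ⁅(derivedSeries R (actBound p n)).map R.subtype, H⁆ ≤ K := by
  set Hb := H.map (QuotientGroup.mk' K)
  have hHbn : Hb.Normal := Subgroup.Normal.map inferInstance _ (QuotientGroup.mk'_surjective K)
  set ρ : R →* MulAut Hb :=
    ((MulAut.conjNormal : (Γ ⧸ K) →* MulAut Hb).comp (QuotientGroup.mk' K)).comp R.subtype
  have : Group.IsNilpotent R := (hΓ.to_subgroup R).isNilpotent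
  have hsolv : Group.IsSolvable ρ.range := Group.isSolvable_of_surjective ρ.rangeRestrict_surjective
  have hcard : Nat.card ρ.range ≤ actBound p n := by
    refine (Subgroup.card_le_card_group _).trans ?_
    refine (Nat.card_le_card_of_injective (fun f : MulAut Hb => f.toEquiv) fun f g h =>
      MulEquiv.ext fun x => congrFun (congrArg (fun e : Equiv.Perm Hb => (e : Hb → Hb)) h) x).trans ?_
    rw [Nat.card_perm]
    exact Nat.factorial_le (card_section_le hΓ ha hfix hHR hab hexp)
  have hbot := derivedSeries_eq_bot_of_card_le hcard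
  rw [Subgroup.commutator_le]
  rintro _ ⟨w, hw, rfl⟩ h hh
  have hw1 : ρ w = 1 := by
    have := map_derivedSeries_le_derivedSeries ρ.rangeRestrict (actBound p n)
      (Subgroup.mem_map_of_mem _ hw)
    rw [hbot, Subgroup.mem_bot] at this
    exact congrArg Subtype.val this
  have h2 := congrArg Subtype.val
    (DFunLike.congr_fun hw1 (⟨QuotientGroup.mk' K h, h, hh, rfl⟩ : Hb))
  simp only [ρ, MonoidHom.comp_apply, MulAut.conjNormal_apply, MulAut.one_apply] at h2
  rw [← QuotientGroup.eq_one_iff, ← QuotientGroup.mk'_apply, map_commutatorElement,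
    commutatorElement_def, h2, mul_inv_cancel]

/-- The deep derived subgroup is powerful. -/
theorem commutator_le_PP (hΓ : IsPGroup p Γ) {R : Subgroup Γ} [R.Normal] {a : Γ} (ha : a ^ p = 1)
    (hfix : Nat.card {x : R // MulAut.conjNormal a x = x} ≤ p ^ n) (W : Subgroup Γ) [W.Normal]
    (hW : W = (derivedSeries R (actBound p n)).map R.subtype) :
    ⁅W, W⁆ ≤ P p (P p W) := by
  classical
  have hWR : W ≤ R := hW ▸ Subgroup.map_subtype_le _
  have hPW : (P p W).Normal := normal_P W
  set K0 := P p (P p W) with hK0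
  have hK0n : K0.Normal := normal_P _
  have hK0W : K0 ≤ W := (P_le _).trans (P_le _)
  obtain ⟨A, hA⟩ := (Set.toFinite {A : Subgroup Γ | A.Normal ∧ K0 ≤ A ∧ A ≤ W ∧ ⁅A, A⁆ ≤ K0}
    ).exists_maximal ⟨K0, hK0n, le_rfl, hK0W, Subgroup.commutator_le_left _ _⟩
  obtain ⟨hAn, hK0A, hAW, hAA⟩ := hA.1
  have hWA : ⁅W, A⁆ ≤ K0 := by
    rw [hW]
    refine comm_section_le hΓ ha hfix (hAW.trans hWR) hAA fun x hx => ?_
    rw [pow_two, pow_mul]
    exact pow_mem_P (pow_mem_P (hAW hx))
  rcases eq_or_lt_of_le hAW with rfl | hlt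
  · exact hAA
  exfalso
  set Wb := W.map (QuotientGroup.mk' A)
  have hWbn : Wb.Normal := Subgroup.Normal.map inferInstance _ (QuotientGroup.mk'_surjective A)
  have hne : Wb ≠ ⊥ := by
    intro e
    rw [Subgroup.map_eq_bot_iff, QuotientGroup.ker_mk'] at e
    exact hlt.not_ge e
  obtain ⟨⟨z, hzW, hzc⟩, hz1⟩ := Subgroup.ne_bot_iff_exists_ne_one.mp
    (Cfsg.Agent.PGroupsBasic.inf_center_ne_bot (hΓ.to_quotient A) hne)
  obtain ⟨z, hz, rfl⟩ := hzW
  have hzc' : QuotientGroup.mk' A z ∈ Subgroup.center (Γ ⧸ A) := hzc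
  set A' := A ⊔ Subgroup.zpowers z
  have hA'n : A'.Normal := by
    have : A' = (Subgroup.zpowers (QuotientGroup.mk' A z)).comap (QuotientGroup.mk' A) := by
      rw [← MonoidHom.map_zpowers, Subgroup.comap_map_eq, QuotientGroup.ker_mk', sup_comm]
    rw [this]
    have : (Subgroup.zpowers (QuotientGroup.mk' A z)).Normal := ⟨fun u hu g => by
      obtain ⟨i, rfl⟩ := hu
      rw [← Subgroup.mem_center_iff.mp (zpow_mem hzc' i) g |>.symm, mul_inv_cancel_right]
      exact zpow_mem (Subgroup.mem_zpowers _) i⟩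
    infer_instance
  have hA'W : A' ≤ W := sup_le hAW (Subgroup.zpowers_le.mpr hz)
  have hA'A' : ⁅A', A'⁆ ≤ K0 := by
    set q := QuotientGroup.mk' K0
    have hker : ∀ S : Subgroup Γ, S.map q = ⊥ ↔ S ≤ K0 := fun S => by
      rw [Subgroup.map_eq_bot_iff, QuotientGroup.ker_mk']
    rw [← hker, Subgroup.map_commutator, Subgroup.commutator_eq_bot_iff_le_centralizer]
    have hc : ∀ S : Subgroup Γ, S ≤ W → A.map q ≤ Subgroup.centralizer (S.map q : Set (Γ ⧸ K0)) :=
      fun S hS => by
        rw [← Subgroup.commutator_eq_bot_iff_le_centralizer, ← Subgroup.map_commutator, hker,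
          Subgroup.commutator_comm]
        exact (Subgroup.commutator_mono hS le_rfl).trans hWA
    rw [Subgroup.map_sup]
    refine sup_le ((hc A' hA'W).trans (le_of_eq (by rw [Subgroup.map_sup]))) ?_
    rw [MonoidHom.map_zpowers, Subgroup.zpowers_le, Subgroup.mem_centralizer_iff]
    intro y hy
    have hy' : y ∈ Subgroup.centralizer ({q z} : Set (Γ ⧸ K0)) := by
      refine (sup_le ?_ ?_ : A.map q ⊔ Subgroup.zpowers (q z) ≤ _) hy
      · intro u hu
        rw [Subgroup.mem_centralizer_singleton_iff]
        exact (Subgroup.mem_centralizer_iff.mp (hc W le_rfl hu) (q z)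
          (Subgroup.mem_map_of_mem q hz)).symm
      · rw [Subgroup.zpowers_le, Subgroup.mem_centralizer_singleton_iff]
    exact Subgroup.mem_centralizer_singleton_iff.mp hy'
  have hA'A : A' ≤ A := hA.2 ⟨hA'n, hK0A.trans le_sup_left, hA'W, hA'A'⟩ le_sup_left
  exact hz1 (Subtype.ext ((QuotientGroup.eq_one_iff z).mpr
    (hA'A (Subgroup.mem_sup_right (Subgroup.mem_zpowers z)))))

/-- The bound inside a finite `p`-group. -/
theorem derivedSeries_eq_bot_of_conj (hΓ : IsPGroup p Γ) (R : Subgroup Γ) [R.Normal] {a : Γ}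
    (ha : a ^ p = 1) (hfix : Nat.card {x : R // MulAut.conjNormal a x = x} ≤ p ^ n) :
    derivedSeries R (pGroupBound p n) = ⊥ := by
  set W := (derivedSeries R (actBound p n)).map R.subtype with hW
  have hWn : W.Normal := inferInstance
  have hWR : W ≤ R := Subgroup.map_subtype_le _
  have hEmb : Emb p (⊤ : Subgroup W) := by
    refine ⟨inferInstance, ?_⟩
    rw [← Subgroup.map_le_map_iff_of_injective W.subtype_injective, Subgroup.map_commutator,
      map_P, map_P, ← MonoidHom.range_eq_map, Subgroup.range_subtype]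
    exact commutator_le_PP hΓ ha hfix W hW
  have hbot := derivedSeries_powerful (n := n) (hΓ.to_subgroup W) hEmb (MulAut.conjNormal a)
    (by rw [← map_pow, ha, map_one]) ((card_fixed_conj_le hWR a).trans hfix)
  refine derivedSeries_add (le_refl (derivedSeries R (actBound p n))) ?_
  refine derivedSeries_eq_bot_of_injective
    ((R.subtype.comp (derivedSeries R (actBound p n)).subtype).codRestrict W fun x =>
      Subgroup.mem_map_of_mem _ x.2) ?_ hbot
  exact fun x y h => Subtype.ext (Subtype.ext (congrArg Subtype.val h :))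

/-- Alperin: a `p`-group with an automorphism of order dividing `p` with at most `p ^ n` fixed
points has bounded derived length. -/
theorem derivedSeries_eq_bot {R : Type*} [Group R] [Finite R] (hR : IsPGroup p R) (α : MulAut R)
    (hα : α ^ p = 1) (hfix : Nat.card {x : R // α x = x} ≤ p ^ n) :
    derivedSeries R (pGroupBound p n) = ⊥ := by
  set Z := Subgroup.zpowers α
  set θ : Z →* MulAut R := Z.subtype
  have : Finite (R ⋊[θ] Z) := Finite.of_equiv _ SemidirectProduct.equivProd.symm
  obtain ⟨k, hk⟩ := hR.exists_card_eq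
  obtain ⟨j, -, hj⟩ := (Nat.dvd_prime_pow (Fact.out : p.Prime)).mp
    (show orderOf α ∣ p ^ 1 by rw [pow_one]; exact orderOf_dvd_of_pow_eq_one hα)
  have hΓ : IsPGroup p (R ⋊[θ] Z) := IsPGroup.of_card (n := k + j) (by
    rw [SemidirectProduct.card, Nat.card_zpowers, hk, hj, pow_add])
  set Rg := (SemidirectProduct.inl : R →* R ⋊[θ] Z).range
  have hRn : Rg.Normal := by
    rw [show Rg = (SemidirectProduct.rightHom : R ⋊[θ] Z →* Z).ker from
      SemidirectProduct.range_inl_eq_ker_rightHom]
    infer_instance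
  set a : R ⋊[θ] Z := SemidirectProduct.inr (⟨α, Subgroup.mem_zpowers α⟩ : Z) with ha
  have hap : a ^ p = 1 := by
    rw [ha, ← map_pow, show (⟨α, Subgroup.mem_zpowers α⟩ : Z) ^ p = 1 from Subtype.ext hα, map_one]
  have hconj : ∀ x : R, a * SemidirectProduct.inl x * a⁻¹ = SemidirectProduct.inl (α x) := by
    intro x
    rw [ha, ← map_inv]
    exact (SemidirectProduct.inl_aut _ _).symm
  have hfix' : Nat.card {x : Rg // MulAut.conjNormal a x = x} ≤ p ^ n := by
    refine le_trans ?_ hfix
    refine Nat.card_le_card_of_surjective (fun x : {x : R // α x = x} =>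
      (⟨⟨SemidirectProduct.inl x.1, x.1, rfl⟩, Subtype.ext (by
        rw [MulAut.conjNormal_apply]
        exact (hconj x.1).trans (congrArg _ x.2))⟩ : {x : Rg // MulAut.conjNormal a x = x})) ?_
    rintro ⟨⟨_, r, rfl⟩, hr⟩
    refine ⟨⟨r, (SemidirectProduct.inl_injective (φ := θ)) ?_⟩, rfl⟩
    rw [← hconj]
    have := congrArg Subtype.val hr
    rwa [MulAut.conjNormal_apply] at this
  exact derivedSeries_eq_bot_of_injective (MonoidHom.ofInjective
    SemidirectProduct.inl_injective).toMonoidHom (MulEquiv.injective _)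
    (derivedSeries_eq_bot_of_conj hΓ Rg hap hfix')

end Cfsg.Agent.HallAlperinPGroup
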