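import Mathlib
import Cfsg.Agent.Lib.HallSolvable
import Cfsg.Agent.Lib.CharInducedBurnside

/-!
Wielandt's three-subgroup solvability criterion and Hall's converse theorem.
-/

set_option autoImplicit false

namespace Cfsg.Agent.HallConverse80

open Subgroup

universe u

variable {G : Type u} [Group G] [Finite G]

/-- Subgroups of coprime index: the group is their product. -/
theorem exists_mul_of_coprime_index {A B : Subgroup G} (h : A.index.Coprime B.index) (g : G) :
    ∃ b ∈ B, ∃ a ∈ A, g = b * a := by
  have h1 : A.relIndex B * B.index = (A ⊓ B).index := by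
    rw [← inf_relIndex_right, relIndex_mul_index inf_le_right]
  have h2 : A.index ∣ A.relIndex B * B.index := h1 ▸ index_dvd_of_le inf_le_left
  have h3 : A.index ∣ A.relIndex B := h.dvd_of_dvd_mul_right h2
  have hpos : 0 < A.relIndex B :=
    Nat.pos_of_ne_zero (index_ne_zero_of_finite (H := A.subgroupOf B))
  have h4 : A.relIndex B = A.index := by
    refine le_antisymm ?_ (Nat.le_of_dvd hpos h3)
    refine Nat.le_of_mul_le_mul_right (c := B.index) ?_ (Nat.pos_of_ne_zero index_ne_zero_of_finite)
    rw [h1]
    exact index_inf_le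
  let f : B ⧸ A.subgroupOf B → G ⧸ A := Quotient.map' Subtype.val (fun x y hxy => by
    rw [QuotientGroup.leftRel_apply] at hxy ⊢
    exact hxy)
  have hf : Function.Injective f := by
    intro x y
    induction x using QuotientGroup.induction_on with | _ x =>
    induction y using QuotientGroup.induction_on with | _ y =>
    intro hxy
    exact QuotientGroup.eq.2 (show (x : G)⁻¹ * y ∈ A from QuotientGroup.eq.1 hxy)
  have hbij := hf.bijective_of_nat_card_le (le_of_eq (h4.symm : A.index = A.relIndex B))
  obtain ⟨x, hx⟩ := hbij.2 (g : G ⧸ A)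
  induction x using QuotientGroup.induction_on with | _ x =>
  exact ⟨x, x.2, (x : G)⁻¹ * g, QuotientGroup.eq.1 hx, by simp⟩

/-- A solvable subgroup contributes a nontrivial solvable normal subgroup of the group. -/
theorem exists_normal_solvable {A B : Subgroup G} (hB : Group.IsSolvable B)
    (hcop : A.index.Coprime B.index) {M : Subgroup A} [hM : M.Normal] (hM0 : M ≠ ⊥) {p : ℕ}
    [Fact p.Prime] (hpM : IsPGroup p M) (hp : ¬ p ∣ B.index) :
    ∃ N : Subgroup G, N.Normal ∧ N ≠ ⊥ ∧ Group.IsSolvable N := by
  set M' := M.map A.subtype with hM'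
  obtain ⟨Q, hQ⟩ := (hpM.map A.subtype).exists_le_sylow
  obtain ⟨QB⟩ : Nonempty (Sylow p B) := inferInstance
  have hQB : ¬ p ∣ ((QB : Subgroup B).map B.subtype).index := by
    rw [Subgroup.index_map_subtype]
    intro hdvd
    rcases (Fact.out : p.Prime).dvd_mul.1 hdvd with h | h
    · exact Sylow.not_dvd_index QB h
    · exact hp h
  let Q' : Sylow p G := (QB.2.map B.subtype).toSylow hQB
  obtain ⟨g, hg⟩ := MulAction.exists_smul_eq G Q Q'
  have hnorm : ∀ a ∈ A, ∀ x ∈ M', a * x * a⁻¹ ∈ M' := by
    rintro a ha _ ⟨x, hx, rfl⟩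
    exact ⟨⟨a, ha⟩ * x * ⟨a, ha⟩⁻¹, hM.conj_mem x hx _, by simp⟩
  have hgM : ∀ x ∈ M', g * x * g⁻¹ ∈ B := by
    intro x hx
    have h1 : g * x * g⁻¹ ∈ ((g • Q : Sylow p G) : Subgroup G) :=
      Subgroup.smul_mem_pointwise_smul x (MulAut.conj g) (Q : Subgroup G) (hQ hx)
    rw [hg] at h1
    obtain ⟨y, -, hy⟩ := (show g * x * g⁻¹ ∈ (QB : Subgroup B).map B.subtype from h1)
    exact hy ▸ y.2
  have hMB : ∀ x ∈ M', x ∈ B := by
    intro x hx
    obtain ⟨b, hb, a, ha, rfl⟩ := exists_mul_of_coprime_index hcop g
    have h1 := hgM _ (hnorm a⁻¹ (inv_mem ha) x hx)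
    have h2 : b * a * (a⁻¹ * x * a⁻¹⁻¹) * (b * a)⁻¹ = b * x * b⁻¹ := by group
    rw [h2] at h1
    have := mul_mem (mul_mem (inv_mem hb) h1) hb
    simpa [mul_assoc] using this
  let N := Subgroup.normalClosure (M' : Set G)
  have hN : N ≤ B := by
    refine (Subgroup.closure_le B).2 ?_
    intro y hy
    rw [Group.mem_conjugatesOfSet_iff] at hy
    obtain ⟨x, hx, hxy⟩ := hy
    obtain ⟨c, rfl⟩ := isConj_iff.1 hxy
    obtain ⟨b, hb, a, ha, rfl⟩ := exists_mul_of_coprime_index hcop c
    have h2 : b * a * x * (b * a)⁻¹ = b * (a * x * a⁻¹) * b⁻¹ := by group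
    rw [h2]
    exact mul_mem (mul_mem hb (hMB _ (hnorm a ha x hx))) (inv_mem hb)
  refine ⟨N, Subgroup.normalClosure_normal, fun h => hM0 ?_, ?_⟩
  · have h1 : M' = ⊥ := eq_bot_iff.2 (h ▸ Subgroup.le_normalClosure)
    exact (Subgroup.map_eq_bot_iff_of_injective M A.subtype_injective).1 h1
  · exact Group.isSolvable_of_isSolvable_injective (f := Subgroup.inclusion hN) (Subgroup.inclusion_injective hN)

/-- Wielandt: three solvable subgroups with pairwise coprime indices force solvability. -/
theorem isSolvable_of_three_aux : ∀ (n : ℕ) (G : Type u) [Group G] [Finite G], Nat.card G = n →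
    ∀ A B C : Subgroup G, Group.IsSolvable A → Group.IsSolvable B → Group.IsSolvable C →
    A.index.Coprime B.index → A.index.Coprime C.index → B.index.Coprime C.index →
    Group.IsSolvable G := by
  intro n
  induction n using Nat.strong_induction_on with
  | _ n ih =>
    intro G _ _ hn A B C hA hB hC hAB hAC hBC
    by_cases hA0 : A = ⊥
    · have h1 : B.index ∣ A.index := by rw [hA0, Subgroup.index_bot]; exact B.index_dvd_card
      have h2 : B = ⊤ := Subgroup.index_eq_one.1 (Nat.eq_one_of_dvd_coprimes hAB h1 dvd_rfl)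
      rw [h2] at hB
      exact Group.isSolvable_of_surjective (f := (Subgroup.topEquiv : (⊤ : Subgroup G) ≃* G).toMonoidHom)
        (MulEquiv.surjective _)
    haveI : Nontrivial A := (Subgroup.nontrivial_iff_ne_bot A).2 hA0
    obtain ⟨M, hM⟩ := Cfsg.Agent.HallSolvable.exists_minNormal (G := A)
    haveI := hM.normal
    obtain ⟨p, hp, -, hpM⟩ := hM.exists_prime
    haveI := Fact.mk hp
    obtain ⟨N, hNn, hN0, hNs⟩ : ∃ N : Subgroup G, N.Normal ∧ N ≠ ⊥ ∧ Group.IsSolvable N := by
      by_cases hpB : p ∣ B.index
      · refine exists_normal_solvable hC hAC hM.ne_bot hpM fun hpC => ?_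
        exact hp.one_lt.ne' (Nat.eq_one_of_dvd_coprimes hBC hpB hpC)
      · exact exists_normal_solvable hB hAB hM.ne_bot hpM hpB
    haveI := hNn
    let π := QuotientGroup.mk' N
    have hs : ∀ K : Subgroup G, Group.IsSolvable K → Group.IsSolvable (K.map π) := fun K hK =>
      Group.isSolvable_of_surjective (f := π.subgroupMap K) (π.subgroupMap_surjective K)
    have hd : ∀ K : Subgroup G, (K.map π).index ∣ K.index := fun K =>
      Subgroup.index_map_dvd K (QuotientGroup.mk'_surjective N)
    have hQ : Group.IsSolvable (G ⧸ N) := ih (Nat.card (G ⧸ N))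
      (hn ▸ Cfsg.Agent.HallSolvable.card_quotient_lt hN0) (G ⧸ N) rfl _ _ _
      (hs A hA) (hs B hB) (hs C hC)
      (Nat.Coprime.coprime_dvd_left (hd A) (hAB.coprime_dvd_right (hd B)))
      (Nat.Coprime.coprime_dvd_left (hd A) (hAC.coprime_dvd_right (hd C)))
      (Nat.Coprime.coprime_dvd_left (hd B) (hBC.coprime_dvd_right (hd C)))
    exact Group.isSolvable_of_ker_le_range N.subtype π (by simp [π])

/-- Hall: a finite group with a `p`-complement for every prime is solvable. -/
theorem isSolvable_of_complements_aux : ∀ (n : ℕ) (G : Type u) [Group G] [Finite G],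
    Nat.card G = n →
    (∀ p : ℕ, p.Prime → ∃ H : Subgroup G, H.index = p ^ (Nat.card G).factorization p) →
    Group.IsSolvable G := by
  intro n
  induction n using Nat.strong_induction_on with
  | _ n ih =>
    intro G _ _ hn hc
    classical
    by_cases h2 : (Nat.card G).primeFactors.card ≤ 2
    · have key : ∀ s : Finset ℕ, s.card ≤ 2 → (∀ q ∈ s, q.Prime) →
          (Nat.card G).primeFactors ⊆ s → Group.IsSolvable G := by
        intro s hs hsp hsub
        have hG0 : Nat.card G ≠ 0 := Nat.card_pos.ne'
        have hprod : Nat.card G = ∏ q ∈ s, q ^ (Nat.card G).factorization q := by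
          refine (Nat.prod_factorization_pow_eq_self hG0).symm.trans ?_
          refine Finset.prod_subset (by rwa [Nat.support_factorization]) (fun q _ hq => ?_)
          simp [Finsupp.notMem_support_iff.1 hq]
        rcases Nat.eq_zero_or_pos s.card with h0 | hpos
        · rw [Finset.card_eq_zero.1 h0, Finset.prod_empty] at hprod
          haveI : Subsingleton G := (Nat.card_eq_one_iff_unique.1 hprod).1
          exact Cfsg.Agent.CharInduced.solvable_of_card_two_primes 2 3 0 0 Nat.prime_two
            Nat.prime_three (by simpa using hprod)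
        rcases (show s.card = 1 ∨ s.card = 2 by omega) with h1 | h1
        · obtain ⟨q, rfl⟩ := Finset.card_eq_one.1 h1
          exact Cfsg.Agent.CharInduced.solvable_of_card_two_primes q q
            ((Nat.card G).factorization q) 0 (hsp q (by simp)) (hsp q (by simp))
            (by rw [pow_zero, mul_one]; simpa using hprod)
        · obtain ⟨q, r, hqr, rfl⟩ := Finset.card_eq_two.1 h1
          exact Cfsg.Agent.CharInduced.solvable_of_card_two_primes q r
            ((Nat.card G).factorization q) ((Nat.card G).factorization r)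
            (hsp q (by simp)) (hsp r (by simp)) (by rwa [Finset.prod_pair hqr] at hprod)
      exact key _ h2 (fun q hq => Nat.prime_of_mem_primeFactors hq) Finset.Subset.rfl
    push Not at h2
    obtain ⟨a, b, c, ha, hb, hcm, hab, hac, hbc⟩ := Finset.two_lt_card_iff.1 h2
    have hsol : ∀ q ∈ (Nat.card G).primeFactors, ∀ H : Subgroup G,
        H.index = q ^ (Nat.card G).factorization q → Group.IsSolvable H := by
      intro q hq H hH
      obtain ⟨hqp, hqd, hG0⟩ := Nat.mem_primeFactors.1 hq
      have hcard : Nat.card H * q ^ (Nat.card G).factorization q = Nat.card G :=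
        hH ▸ H.card_mul_index
      have hpos : 0 < (Nat.card G).factorization q := hqp.factorization_pos_of_dvd hG0 hqd
      have hlt : Nat.card H < n := by
        rw [← hn]
        refine lt_of_lt_of_eq ?_ hcard
        exact lt_mul_of_one_lt_right Nat.card_pos (Nat.one_lt_pow hpos.ne' hqp.one_lt)
      refine ih _ hlt H rfl fun p hp => ?_
      have hfac : (Nat.card G).factorization p =
          (Nat.card H).factorization p + if p = q then (Nat.card G).factorization q else 0 := by
        conv_lhs => rw [← hcard]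
        rw [Nat.factorization_mul Nat.card_pos.ne' (pow_ne_zero _ hqp.ne_zero), Finsupp.add_apply,
          hqp.factorization_pow, Finsupp.single_apply]
        congr 1
        exact if_congr eq_comm rfl rfl
      by_cases hpq : p = q
      · refine ⟨⊤, ?_⟩
        rw [if_pos hpq, hpq] at hfac
        rw [hpq, show (Nat.card H).factorization q = 0 by omega, Subgroup.index_top, pow_zero]
      · rw [if_neg hpq, add_zero] at hfac
        obtain ⟨K, hK⟩ := hc p hp
        refine ⟨K.subgroupOf H, ?_⟩
        rw [← hfac, ← hK]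
        have h1 : K.relIndex H * H.index = (K ⊓ H).index := by
          rw [← inf_relIndex_right, relIndex_mul_index inf_le_right]
        have hcop : K.index.Coprime H.index := by
          rw [hK, hH]; exact Nat.Coprime.pow _ _ ((Nat.coprime_primes hp hqp).2 hpq)
        have h3 : K.index ∣ K.relIndex H :=
          hcop.dvd_of_dvd_mul_right (h1 ▸ index_dvd_of_le inf_le_left)
        refine le_antisymm ?_ (Nat.le_of_dvd
          (Nat.pos_of_ne_zero (index_ne_zero_of_finite (H := K.subgroupOf H))) h3)
        refine Nat.le_of_mul_le_mul_right (c := H.index) ?_ (Nat.pos_of_ne_zero index_ne_zero_of_finite)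
        show K.relIndex H * H.index ≤ _
        rw [h1]
        exact index_inf_le
    obtain ⟨A, hA⟩ := hc a (Nat.prime_of_mem_primeFactors ha)
    obtain ⟨B, hB⟩ := hc b (Nat.prime_of_mem_primeFactors hb)
    obtain ⟨C, hC⟩ := hc c (Nat.prime_of_mem_primeFactors hcm)
    have hcp : ∀ q r : ℕ, q ∈ (Nat.card G).primeFactors → r ∈ (Nat.card G).primeFactors → q ≠ r →
        ∀ i j : ℕ, (q ^ i).Coprime (r ^ j) := fun q r hq hr hne i j =>
      Nat.Coprime.pow _ _ ((Nat.coprime_primes (Nat.prime_of_mem_primeFactors hq)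
        (Nat.prime_of_mem_primeFactors hr)).2 hne)
    exact isSolvable_of_three_aux _ G rfl A B C (hsol a ha A hA) (hsol b hb B hB) (hsol c hcm C hC)
      (by rw [hA, hB]; exact hcp a b ha hb hab _ _) (by rw [hA, hC]; exact hcp a c ha hcm hac _ _)
      (by rw [hB, hC]; exact hcp b c hb hcm hbc _ _)

/-- Hall: a finite group with a `p`-complement for every prime is solvable. -/
theorem isSolvable_of_complements
    (hc : ∀ p : ℕ, p.Prime → ∃ H : Subgroup G, H.index = p ^ (Nat.card G).factorization p) :
    Group.IsSolvable G :=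
  isSolvable_of_complements_aux _ G rfl hc

/-- If every nontrivial subgroup has, for each prime dividing its order, a proper subgroup of
`p`-power index, the group is solvable. -/
theorem isSolvable_of_hereditary
    (h : ∀ H : Subgroup G, H ≠ ⊥ → ∀ p : ℕ, p.Prime → p ∣ Nat.card H →
      ∃ K : Subgroup H, K ≠ ⊤ ∧ ∃ k : ℕ, K.index = p ^ k) :
    Group.IsSolvable G := by
  refine isSolvable_of_complements fun p hp => ?_
  haveI := Fact.mk hp
  obtain ⟨H, hH⟩ := (Set.toFinite {H : Subgroup G | ∃ k, H.index = p ^ k}).exists_minimal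
    ⟨⊤, 0, by simp⟩
  obtain ⟨k, hk⟩ := hH.1
  have hnd : ¬ p ∣ Nat.card H := by
    intro hd
    have hHb : H ≠ ⊥ := by
      intro hb
      rw [hb, Subgroup.card_bot] at hd
      exact hp.not_dvd_one hd
    obtain ⟨K, hKt, j, hj⟩ := h H hHb p hp hd
    have hmem : K.map H.subtype ∈ {H : Subgroup G | ∃ k, H.index = p ^ k} :=
      ⟨j + k, by rw [Subgroup.index_map_subtype, hj, hk, pow_add]⟩
    have hge := hH.le_of_le hmem (Subgroup.map_subtype_le K)
    refine hKt ((Subgroup.eq_top_iff' K).2 fun x => ?_)
    obtain ⟨y, hy, hyx⟩ := hge x.2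
    exact (Subtype.ext hyx : y = x) ▸ hy
  refine ⟨H, ?_⟩
  have := H.card_mul_index
  rw [hk] at this
  rw [hk, ← this, Nat.factorization_mul Nat.card_pos.ne' (pow_ne_zero _ hp.ne_zero),
    Finsupp.add_apply, hp.factorization_pow, Finsupp.single_eq_same,
    Nat.factorization_eq_zero_of_not_dvd hnd, zero_add]

end Cfsg.Agent.HallConverse80
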