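import Mathlib
import Cfsg.Agent.Lib.CoprimeAction
import Cfsg.Agent.Lib.CoprimeGen
import Cfsg.Agent.Lib.HallCore

/-!
# Derived subgroup under an elementary abelian group of automorphisms of order `q ^ 3`

If the centralizers of the nontrivial elements have derived subgroups of order at most `m` then the
derived subgroup has order bounded in terms of `q` and `m`.
-/

set_option autoImplicit false

namespace Cfsg.Agent.HallFixedDerived

open Cfsg.Agent.HallCore
open scoped commutatorElement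

section Aux

variable {X : Type*} [Group X] [Finite X]

/-- A group generated by given subgroups modulo its derived subgroup. -/
theorem card_le_of_iSup_eq_top {ι : Type*} [Fintype ι] (f : ι → Subgroup X) (h : ⨆ i, f i = ⊤) :
    Nat.card X ≤ Nat.card (commutator X) * ∏ i, Nat.card (f i) := by
  classical
  have key : ∀ s : Finset ι, Nat.card ↥(commutator X ⊔ ⨆ i ∈ s, f i) ≤
      Nat.card (commutator X) * ∏ i ∈ s, Nat.card (f i) := by
    intro s
    induction s using Finset.induction with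
    | empty => simp
    | @insert i s his ih =>
      have hn : (commutator X ⊔ ⨆ j ∈ s, f j).Normal := ⟨fun x hx g => by
        have hc : ⁅g, x⁆ ∈ commutator X :=
          Subgroup.commutator_mem_commutator (Subgroup.mem_top g) (Subgroup.mem_top x)
        rw [show g * x * g⁻¹ = ⁅g, x⁆ * x by rw [commutatorElement_def]; group]
        exact mul_mem (Subgroup.mem_sup_left hc) hx⟩
      rw [Finset.prod_insert his, Finset.iSup_insert, sup_left_comm, mul_left_comm]
      exact (Nat.le_of_dvd (Nat.mul_pos Nat.card_pos Nat.card_pos) (card_sup_dvd _ _)).trans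
        (Nat.mul_le_mul_left _ ih)
  have := key Finset.univ
  simpa [h] using this

/-- Schur: a bound for the derived subgroup from the index of the centre. -/
theorem card_commutator_le {I : ℕ} (h : (Subgroup.center X).index ≤ I) :
    Nat.card (commutator X) ≤ ∑ i ∈ Finset.range (I * I + 1), Subgroup.cardCommutatorBound i := by
  classical
  have hle : Nat.card (commutatorSet X) ≤ I * I := by
    refine le_trans ?_ (Nat.mul_le_mul h h)
    rw [Subgroup.index, ← Nat.card_prod]
    choose a b hab using fun c : commutatorSet X => c.2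
    refine Nat.card_le_card_of_injective
      (fun c => ((a c : X ⧸ Subgroup.center X), (b c : X ⧸ Subgroup.center X))) fun c d hcd => ?_
    simp only [Prod.mk.injEq, QuotientGroup.eq, Subgroup.mem_center_iff] at hcd
    obtain ⟨hz, hw⟩ := hcd
    have key : ∀ (x y z : X), (∀ g, g * z = z * g) → ⁅x * z, y⁆ = ⁅x, y⁆ := by
      intro x y z hz'
      simp only [commutatorElement_def, mul_inv_rev]
      rw [show x * z * y * (z⁻¹ * x⁻¹) * y⁻¹ = x * (z * y) * (z⁻¹ * x⁻¹) * y⁻¹ by group, ← hz' y]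
      group
    refine Subtype.ext ?_
    rw [← hab c, ← hab d, show a d = a c * ((a c)⁻¹ * a d) by group,
      show b d = b c * ((b c)⁻¹ * b d) by group, key _ _ _ hz]
    rw [← commutatorElement_inv (b c * _) (a c), key _ _ _ hw, commutatorElement_inv]
  refine (Subgroup.card_commutator_le_of_finite_commutatorSet X).trans ?_
  exact Finset.single_le_sum (f := fun i => Subgroup.cardCommutatorBound i)
    (fun i _ => Nat.zero_le _) (Finset.mem_range.mpr (Nat.lt_succ_of_le hle))

end Aux

section Elementary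

variable {A : Type*} [CommGroup A] [Finite A] {q : ℕ} [Fact q.Prime]

theorem card_zpowers_of_ne_one (hexp : ∀ a : A, a ^ q = 1) {a : A} (ha : a ≠ 1) :
    Nat.card (Subgroup.zpowers a) = q := by
  rw [Nat.card_zpowers, orderOf_eq_prime (hexp a) ha]

theorem not_isCyclic_of_sq_le (hexp : ∀ a : A, a ^ q = 1) {E : Subgroup A}
    (h : q ^ 2 ≤ Nat.card E) : ¬ IsCyclic E := by
  intro hc
  obtain ⟨g, hg⟩ := IsCyclic.exists_ofOrder_eq_natCard (α := E)
  have h1 : orderOf g ≤ q :=
    Nat.le_of_dvd (Fact.out : q.Prime).pos (orderOf_dvd_of_pow_eq_one (Subtype.ext (hexp g)))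
  have h2 : q < q ^ 2 := by
    rw [pow_two]; exact Nat.lt_mul_self_iff.mpr (Fact.out : q.Prime).one_lt
  omega

theorem sq_le_card_sup (hexp : ∀ a : A, a ^ q = 1) {a b : A} (ha : a ≠ 1)
    (hb : b ∉ Subgroup.zpowers a) :
    q ^ 2 ≤ Nat.card ↥(Subgroup.zpowers a ⊔ Subgroup.zpowers b) := by
  have hb1 : b ≠ 1 := fun h => hb (h ▸ one_mem _)
  have hd : Disjoint (Subgroup.zpowers a) (Subgroup.zpowers b) := by
    rw [disjoint_iff]
    by_contra hne
    have hdvd : Nat.card ↥(Subgroup.zpowers a ⊓ Subgroup.zpowers b) ∣ q :=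
      card_zpowers_of_ne_one hexp hb1 ▸ Subgroup.card_dvd_of_le inf_le_right
    rcases (Nat.dvd_prime Fact.out).mp hdvd with h | h
    · exact hne (Subgroup.card_eq_one.mp h)
    · have := Subgroup.eq_of_le_of_card_ge (inf_le_right : Subgroup.zpowers a ⊓ _ ≤ Subgroup.zpowers b)
        (by rw [h, card_zpowers_of_ne_one hexp hb1])
      exact hb (inf_eq_right.mp this (Subgroup.mem_zpowers b))
  calc q ^ 2 = Nat.card (Subgroup.zpowers a × Subgroup.zpowers b) := by
        rw [Nat.card_prod, card_zpowers_of_ne_one hexp ha, card_zpowers_of_ne_one hexp hb1, pow_two]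
    _ ≤ _ := Nat.card_le_card_of_injective
        (fun g => (⟨g.1.1 * g.2.1, mul_mem (Subgroup.mem_sup_left g.1.2)
          (Subgroup.mem_sup_right g.2.2)⟩ : ↥(Subgroup.zpowers a ⊔ Subgroup.zpowers b)))
        fun g h e => Subgroup.mul_injective_of_disjoint hd (congrArg Subtype.val e)

/-- An element avoids some noncyclic subgroup. -/
theorem exists_avoid (hexp : ∀ a : A, a ^ q = 1) (hcard : Nat.card A = q ^ 3) {a : A} (ha : a ≠ 1) :
    ∃ E : Subgroup A, q ^ 2 ≤ Nat.card E ∧ a ∉ E := by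
  have hq := (Fact.out : q.Prime)
  have hsup : ∀ x y : A, x ≠ 1 → y ≠ 1 →
      Nat.card ↥(Subgroup.zpowers x ⊔ Subgroup.zpowers y) ≤ q ^ 2 := fun x y hx hy =>
    (Nat.le_of_dvd (Nat.mul_pos Nat.card_pos Nat.card_pos) (card_sup_dvd _ _)).trans
      (le_of_eq (by rw [card_zpowers_of_ne_one hexp hx, card_zpowers_of_ne_one hexp hy, pow_two]))
  have hne : ∀ S : Subgroup A, Nat.card S ≤ q ^ 2 → ∃ b, b ∉ S := by
    intro S hS
    by_contra hall
    push Not at hall
    rw [(Subgroup.eq_top_iff' S).mpr hall, Subgroup.card_top, hcard] at hS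
    have := Nat.pow_lt_pow_right hq.one_lt (show 2 < 3 by norm_num)
    omega
  obtain ⟨b, hb⟩ := hne (Subgroup.zpowers a) (by
    rw [card_zpowers_of_ne_one hexp ha]; exact Nat.le_self_pow (by norm_num) q)
  have hb1 : b ≠ 1 := fun h => hb (h ▸ one_mem _)
  obtain ⟨c, hc⟩ := hne _ (hsup a b ha hb1)
  have hc1 : c ≠ 1 := fun h => hc (h ▸ one_mem _)
  refine ⟨Subgroup.zpowers b ⊔ Subgroup.zpowers c,
    sq_le_card_sup hexp hb1 (fun h => hc (Subgroup.mem_sup_right h)), fun hmem => hc ?_⟩
  rw [Subgroup.eq_of_le_of_card_ge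
    (sup_le (Subgroup.zpowers_le.mpr hmem) le_sup_left :
      Subgroup.zpowers a ⊔ Subgroup.zpowers b ≤ Subgroup.zpowers b ⊔ Subgroup.zpowers c)
    ((hsup b c hb1 hc1).trans (sq_le_card_sup hexp ha hb))]
  exact Subgroup.mem_sup_right (Subgroup.mem_zpowers c)

/-- Two subgroups of order at least `q ^ 2` meet. -/
theorem exists_common (hcard : Nat.card A = q ^ 3) {S T : Subgroup A} (hS : q ^ 2 ≤ Nat.card S)
    (hT : q ^ 2 ≤ Nat.card T) : ∃ a, a ∈ S ∧ a ∈ T ∧ a ≠ 1 := by
  by_contra h
  push Not at h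
  have hd : Disjoint S T := disjoint_iff.mpr ((Subgroup.eq_bot_iff_forall _).mpr fun x hx =>
    h x hx.1 hx.2)
  have h1 := Nat.card_le_card_of_injective _ (Subgroup.mul_injective_of_disjoint hd)
  rw [Nat.card_prod, hcard] at h1
  have h2 := Nat.mul_le_mul hS hT
  have := Nat.pow_lt_pow_right (Fact.out : q.Prime).one_lt (show 3 < 2 + 2 by norm_num)
  rw [pow_add] at this
  omega

end Elementary

variable {Γ : Type*} [Group Γ] [Finite Γ]

theorem le_normalizer_commutator {A K : Subgroup Γ} (hAK : A ≤ Subgroup.normalizer (K : Set Γ)) :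
    A ≤ Subgroup.normalizer ((⁅K, K⁆ : Subgroup Γ) : Set Γ) := by
  refine CoprimeAction.le_normalizer_of_conj_mem fun a ha x hx => ?_
  have h : ⁅K, K⁆.map (MulAut.conj a).toMonoidHom ≤ ⁅K, K⁆ := by
    rw [Subgroup.map_commutator]
    have hK : K.map (MulAut.conj a).toMonoidHom ≤ K := by
      rintro _ ⟨k, hk, rfl⟩
      exact CoprimeAction.conj_mem (hAK ha) hk
    exact Subgroup.commutator_mono hK hK
  exact h ⟨x, hx, rfl⟩

theorem le_normalizer_inf_centralizer {A G : Subgroup Γ} [IsMulCommutative A]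
    (hAG : A ≤ Subgroup.normalizer (G : Set Γ)) {a : Γ} (ha : a ∈ A) :
    A ≤ Subgroup.normalizer ((G ⊓ Subgroup.centralizer {a} : Subgroup Γ) : Set Γ) := by
  refine CoprimeAction.le_normalizer_inf hAG (CoprimeAction.le_normalizer_of_conj_mem
    fun b hb x hx => ?_)
  rw [Subgroup.mem_centralizer_singleton_iff] at hx ⊢
  have hab : Commute a b := setLike_mul_comm ha hb
  exact ((hab.mul_right hx.symm).mul_right hab.inv_right).symm.eq

/-- An invariant abelian factor is bounded by the factors of the centralizers. -/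
theorem relIndex_le_prod_abelian {A : Subgroup Γ} [IsMulCommutative A] [Fintype A]
    [DecidableEq Γ] (hA : ¬ IsCyclic A) {P : Subgroup Γ}
    (hAP : A ≤ Subgroup.normalizer (P : Set Γ)) (hcop : (Nat.card A).Coprime (Nat.card P))
    {J : Subgroup Γ} (hJP : J ≤ P) (hPP : ⁅P, P⁆ ≤ J) :
    J.relIndex P ≤
      ∏ a : A, if (a : Γ) = 1 then 1 else J.relIndex (P ⊓ Subgroup.centralizer {(a : Γ)}) := by
  classical
  have hJn : (J.subgroupOf P).Normal := ⟨fun x hx g => by
    rw [Subgroup.mem_subgroupOf]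
    have hc : ⁅(g : Γ), (x : Γ)⁆ ∈ J := hPP (Subgroup.commutator_mem_commutator g.2 x.2)
    have := mul_mem hc (Subgroup.mem_subgroupOf.mp hx)
    push_cast
    rwa [show ⁅(g : Γ), (x : Γ)⁆ * x = g * x * (g : Γ)⁻¹ by
      rw [commutatorElement_def]; group] at this⟩
  let f : A → Subgroup (↥P ⧸ J.subgroupOf P) := fun a => if (a : Γ) = 1 then ⊥ else
    ((P ⊓ Subgroup.centralizer {(a : Γ)}).subgroupOf P).map (QuotientGroup.mk' _)
  have hsup : ⨆ a, f a = ⊤ := by
    rw [eq_top_iff]
    intro x _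
    obtain ⟨y, rfl⟩ := QuotientGroup.mk'_surjective _ x
    have hy : (y : Γ) ∈ ⨆ a ∈ {a : Γ | a ∈ A ∧ a ≠ 1}, P ⊓ Subgroup.centralizer {a} := by
      rw [CoprimeGen.iSup_centralizer_eq hA hAP hcop]; exact y.2
    have hle : (⨆ a ∈ {a : Γ | a ∈ A ∧ a ≠ 1}, P ⊓ Subgroup.centralizer {a}) ≤
        ((⨆ a, f a).comap (QuotientGroup.mk' _)).map P.subtype := by
      refine iSup₂_le fun a ha z hz => ⟨⟨z, hz.1⟩, ?_, rfl⟩
      refine (le_iSup f ⟨a, ha.1⟩) ?_
      simp only [f, if_neg ha.2]
      exact Subgroup.mem_map_of_mem _ (Subgroup.mem_subgroupOf.mpr hz)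
    obtain ⟨w, hw, e⟩ := hle hy
    exact Subtype.ext e ▸ hw
  have h := card_le_of_iSup_eq_top f hsup
  have hc : commutator (↥P ⧸ J.subgroupOf P) = ⊥ := by
    rw [commutator_def, ← Subgroup.map_top_of_surjective _
      (QuotientGroup.mk'_surjective (J.subgroupOf P)), ← Subgroup.map_commutator,
      Subgroup.map_eq_bot_iff, QuotientGroup.ker_mk',
      ← Subgroup.map_le_map_iff_of_injective P.subtype_injective, Subgroup.map_commutator,
      ← MonoidHom.range_eq_map, Subgroup.range_subtype, Subgroup.map_subgroupOf_eq_of_le hJP]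
    exact hPP
  rw [hc, Subgroup.card_bot, one_mul] at h
  refine h.trans (le_of_eq (Finset.prod_congr rfl fun a _ => ?_))
  simp only [f]
  split_ifs with ha
  · exact Subgroup.card_bot
  · rw [← Subgroup.relIndex_ker, QuotientGroup.ker_mk']
    exact Subgroup.relIndex_subgroupOf inf_le_left

/-- An invariant section of a solvable group is bounded by the sections of the centralizers. -/
theorem relIndex_le_prod {A : Subgroup Γ} [IsMulCommutative A] [Fintype A] [DecidableEq Γ]
    (hA : ¬ IsCyclic A) : ∀ (n : ℕ) (P : Subgroup Γ), Nat.card P ≤ n → Group.IsSolvable P →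
      A ≤ Subgroup.normalizer (P : Set Γ) → (Nat.card A).Coprime (Nat.card P) →
      ∀ J : Subgroup Γ, J ≤ P → A ≤ Subgroup.normalizer (J : Set Γ) →
        P ≤ Subgroup.normalizer (J : Set Γ) →
      J.relIndex P ≤
        ∏ a : A, if (a : Γ) = 1 then 1 else J.relIndex (P ⊓ Subgroup.centralizer {(a : Γ)}) := by
  classical
  intro n
  induction n using Nat.strong_induction_on with
  | _ n ih =>
  intro P hn hsol hAP hcop J hJP hAJ hPJ
  set M := J ⊔ ⁅P, P⁆ with hM
  have hMP : M ≤ P := sup_le hJP (Subgroup.commutator_le_self P)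
  have hMA : A ≤ Subgroup.normalizer (M : Set Γ) :=
    le_trans (le_inf hAJ (le_normalizer_commutator hAP)) (Subgroup.normalizer_inf_normalizer_le_normalizer_sup _ _)
  rcases eq_or_ne M J with hMJ | hMJ
  · exact relIndex_le_prod_abelian hA hAP hcop hJP (le_sup_right.trans hMJ.le)
  -- the derived subgroup does not cover `P` modulo `J`
  have hMne : M ≠ P := by
    intro e
    have hJn : (J.subgroupOf P).Normal :=
      (Subgroup.normal_subgroupOf_iff_le_normalizer hJP).mpr hPJ
    have htop : commutator (↥P ⧸ J.subgroupOf P) = ⊤ := by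
      refine le_antisymm le_top fun x _ => ?_
      obtain ⟨y, rfl⟩ := QuotientGroup.mk'_surjective _ x
      rw [commutator_def, ← Subgroup.map_top_of_surjective _
        (QuotientGroup.mk'_surjective (J.subgroupOf P)), ← Subgroup.map_commutator]
      have hy : (y : Γ) ∈ M := (le_of_eq e.symm) y.2
      have h2 : M.subgroupOf P ≤ J.subgroupOf P ⊔ ⁅(⊤ : Subgroup P), (⊤ : Subgroup P)⁆ := by
        rw [← Subgroup.map_le_map_iff_of_injective P.subtype_injective, Subgroup.map_sup,
          Subgroup.map_subgroupOf_eq_of_le hMP, Subgroup.map_subgroupOf_eq_of_le hJP,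
          Subgroup.map_commutator, ← MonoidHom.range_eq_map, Subgroup.range_subtype]
      obtain ⟨j, hj, c, hc, rfl⟩ := Subgroup.mem_sup_of_normal_left.mp (h2 hy)
      refine ⟨c, hc, ?_⟩
      rw [map_mul, QuotientGroup.mk'_apply, QuotientGroup.mk'_apply,
        (QuotientGroup.eq_one_iff j).mpr hj, one_mul]
    have hnt : Nontrivial (↥P ⧸ J.subgroupOf P) := by
      rw [← Finite.one_lt_card_iff_nontrivial]
      have : Nat.card (↥P ⧸ J.subgroupOf P) ≠ 1 := fun h =>
        hMJ (le_antisymm (hMP.trans (Subgroup.relIndex_eq_one.mp h)) le_sup_left)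
      have := Nat.card_pos (α := ↥P ⧸ J.subgroupOf P)
      omega
    exact (Group.IsSolvable.commutator_lt_top_of_nontrivial (↥P ⧸ J.subgroupOf P)).ne htop
  have hlt : Nat.card M < n := lt_of_lt_of_le (lt_of_le_of_ne
    (Nat.le_of_dvd Nat.card_pos (Subgroup.card_dvd_of_le hMP))
    fun e => hMne (Subgroup.eq_of_le_of_card_ge hMP e.ge)) hn
  have h1 := relIndex_le_prod_abelian hA hAP hcop hMP le_sup_right
  have h2 := ih _ hlt M le_rfl (CoprimeAction.isSolvable_of_le hMP) hMA
    (CoprimeAction.coprime_of_le_right hMP hcop) J le_sup_left hAJ (hMP.trans hPJ)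
  rw [← Subgroup.relIndex_mul_relIndex J M P le_sup_left hMP]
  refine (Nat.mul_le_mul h2 h1).trans ?_
  rw [← Finset.prod_mul_distrib]
  refine Finset.prod_le_prod' fun a _ => ?_
  split_ifs
  · simp
  · refine le_of_eq ?_
    set C := Subgroup.centralizer {(a : Γ)}
    rw [← Subgroup.inf_relIndex_right M (P ⊓ C), show M ⊓ (P ⊓ C) = M ⊓ C by
        rw [← inf_assoc, inf_eq_left.mpr hMP],
      ← Subgroup.inf_relIndex_right J (P ⊓ C), ← Subgroup.inf_relIndex_right J (M ⊓ C),
      show J ⊓ (P ⊓ C) = J ⊓ (M ⊓ C) by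
        rw [← inf_assoc, ← inf_assoc, inf_eq_left.mpr hJP,
          inf_eq_left.mpr (le_sup_left : J ≤ M)]]
    exact Subgroup.relIndex_mul_relIndex _ _ _ inf_le_right (inf_le_inf_right C hMP)

/-- The bound for the index of the centralizer of the derived subgroup. -/
def indexBound (q m : ℕ) : ℕ := ((m * (m ^ (q ^ 3 * m)) ^ (q ^ 3)) ^ (q ^ 3)).factorial

/-- The bound for the derived subgroup. -/
def derivedBound (q m : ℕ) : ℕ :=
  (∑ i ∈ Finset.range (indexBound q m * indexBound q m + 1), Subgroup.cardCommutatorBound i) *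
    m ^ (q ^ 3 * m)

/-- The subgroup form of the theorem. -/
theorem card_commutator_le_derivedBound {q m : ℕ} [Fact q.Prime] (G A : Subgroup Γ)
    [IsMulCommutative A] (hAG : A ≤ Subgroup.normalizer (G : Set Γ)) (hA : Nat.card A = q ^ 3)
    (hexp : ∀ a : A, a ^ q = 1) (hq : ¬ q ∣ Nat.card G)
    (hm : ∀ a ∈ A, a ≠ 1 →
      Nat.card ↥⁅G ⊓ Subgroup.centralizer {a}, G ⊓ Subgroup.centralizer {a}⁆ ≤ m) :
    Nat.card ↥⁅G, G⁆ ≤ derivedBound q m := by
  classical
  let _ : Fintype Γ := Fintype.ofFinite Γ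
  let _ : CommGroup A := { (inferInstance : Group A) with mul_comm := fun a b => Subtype.ext (setLike_mul_comm a.2 b.2) }
  have hqp : q.Prime := Fact.out
  have hcop : (Nat.card A).Coprime (Nat.card G) := hA ▸ (hqp.coprime_iff_not_dvd.mpr hq).pow_left 3
  set C : Γ → Subgroup Γ := fun a => G ⊓ Subgroup.centralizer {a} with hC
  set CS : Subgroup A → Subgroup Γ :=
    fun S => G ⊓ Subgroup.centralizer ((S.map A.subtype : Subgroup Γ) : Set Γ) with hCS
  have hAC : ∀ a ∈ A, A ≤ Subgroup.normalizer (C a : Set Γ) := fun a ha =>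
    le_normalizer_inf_centralizer hAG ha
  have hCSle : ∀ (S : Subgroup A), ∀ a ∈ S, CS S ≤ C (a : Γ) := fun S a ha z hz =>
    ⟨hz.1, Subgroup.mem_centralizer_singleton_iff.mpr
      ((Subgroup.mem_centralizer_iff.mp hz.2) (a : Γ) ⟨a, ha, rfl⟩).symm⟩
  have hm1 : 1 ≤ m := by
    have : Nontrivial A := Finite.one_lt_card_iff_nontrivial.mp
      (by rw [hA]; exact Nat.one_lt_pow (by norm_num) hqp.one_lt)
    obtain ⟨⟨a, ha⟩, ha1⟩ := exists_ne (1 : A)
    exact Nat.card_pos.trans_le (hm a ha fun e => ha1 (Subtype.ext e))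
  -- generation inside an invariant subgroup of a centralizer
  have hgen : ∀ a ∈ A, a ≠ 1 → ∀ K : Subgroup Γ, K ≤ C a →
      A ≤ Subgroup.normalizer (K : Set Γ) →
      K ≤ ⨆ (e : A) (_ : ∃ h : a ∈ A, q ^ 2 ≤ Nat.card ↥(Subgroup.zpowers (⟨a, h⟩ : A) ⊔ Subgroup.zpowers e)),
        ⨆ h : a ∈ A, K ⊓ CS (Subgroup.zpowers (⟨a, h⟩ : A) ⊔ Subgroup.zpowers e) := by
    intro a ha ha1 K hK hAK
    obtain ⟨E, hE, haE⟩ := exists_avoid hexp hA (a := (⟨a, ha⟩ : A))
      fun e => ha1 (congrArg Subtype.val e)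
    set E' := E.map A.subtype
    have hEA : E' ≤ A := Subgroup.map_subtype_le E
    have : IsMulCommutative E' := ⟨⟨fun x y => Subtype.ext (setLike_mul_comm (hEA x.2) (hEA y.2))⟩⟩
    have hnc : ¬ IsCyclic E' := fun h => not_isCyclic_of_sq_le hexp hE
      ((Subgroup.equivMapOfInjective E A.subtype A.subtype_injective).isCyclic.mpr h)
    have hcopE : (Nat.card E').Coprime (Nat.card K) :=
      CoprimeAction.coprime_of_le_left hEA
        (CoprimeAction.coprime_of_le_right (hK.trans inf_le_left) hcop)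
    conv_lhs => rw [← CoprimeGen.iSup_centralizer_eq hnc (hEA.trans hAK) hcopE]
    refine iSup₂_le fun e he => ?_
    obtain ⟨⟨e', he', rfl⟩, he1⟩ := he
    have hS : q ^ 2 ≤ Nat.card ↥(Subgroup.zpowers (⟨a, ha⟩ : A) ⊔ Subgroup.zpowers e') := by
      refine sq_le_card_sup hexp (fun h => ha1 (congrArg Subtype.val h)) fun hmem => haE ?_
      have he'1 : e' ≠ 1 := fun h => he1 (by rw [h]; rfl)
      have heq : Subgroup.zpowers e' = Subgroup.zpowers (⟨a, ha⟩ : A) :=
        Subgroup.eq_of_le_of_card_ge (Subgroup.zpowers_le.mpr hmem) (by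
          rw [card_zpowers_of_ne_one hexp he'1,
            card_zpowers_of_ne_one hexp fun h => ha1 (congrArg Subtype.val h)])
      exact Subgroup.zpowers_le.mpr he' (heq ▸ Subgroup.mem_zpowers _)
    refine le_trans ?_ (le_iSup₂_of_le e' ⟨ha, hS⟩ (le_iSup_of_le ha le_rfl))
    refine fun z hz => ⟨hz.1, (hK hz.1).1, ?_⟩
    have hle : ((Subgroup.zpowers (⟨a, ha⟩ : A) ⊔ Subgroup.zpowers e').map A.subtype) ≤
        Subgroup.centralizer {z} := by
      rw [Subgroup.map_sup, MonoidHom.map_zpowers, MonoidHom.map_zpowers]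
      refine sup_le (Subgroup.zpowers_le.mpr ?_) (Subgroup.zpowers_le.mpr ?_) <;>
        rw [Subgroup.mem_centralizer_singleton_iff]
      · exact (Subgroup.mem_centralizer_singleton_iff.mp (hK hz.1).2).symm
      · exact (Subgroup.mem_centralizer_singleton_iff.mp hz.2).symm
    exact Subgroup.mem_centralizer_iff.mpr fun s hs =>
      Subgroup.mem_centralizer_singleton_iff.mp (hle hs)
  -- the generators of the derived subgroup
  set T0 : Set Γ := {z | ∃ a ∈ A, a ≠ 1 ∧ z ∈ ⁅C a, C a⁆ ∧
    ∃ S : Subgroup A, q ^ 2 ≤ Nat.card S ∧ z ∈ CS S} with hT0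
  set H := Subgroup.closure T0 with hH
  have hD : ∀ a ∈ A, a ≠ 1 → ⁅C a, C a⁆ ≤ H := by
    intro a ha ha1
    refine (hgen a ha ha1 _ (Subgroup.commutator_le_self _)
      (le_normalizer_commutator (hAC a ha))).trans ?_
    exact iSup₂_le fun e he => iSup_le fun h z hz =>
      Subgroup.subset_closure ⟨a, ha, ha1, hz.1, _, he.choose_spec, hz.2⟩
  have hpair : ∀ S S' : Subgroup A, q ^ 2 ≤ Nat.card S → q ^ 2 ≤ Nat.card S' →
      ∃ a ∈ A, a ≠ 1 ∧ CS S ≤ C a ∧ CS S' ≤ C a := by
    intro S S' h h'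
    obtain ⟨a, h1, h2, h3⟩ := exists_common hA h h'
    exact ⟨a, a.2, fun e => h3 (Subtype.ext e), hCSle S a h1, hCSle S' a h2⟩
  set X : Set Γ := {y | ∃ S : Subgroup A, q ^ 2 ≤ Nat.card S ∧ y ∈ CS S} with hX
  have hnc : ¬ IsCyclic A := by
    intro h
    exact not_isCyclic_of_sq_le hexp (E := (⊤ : Subgroup A))
      (by rw [Subgroup.card_top, hA]; exact Nat.pow_le_pow_right hqp.pos (by norm_num))
      (Subgroup.topEquiv.isCyclic.mpr h)
  have hGX : G ≤ Subgroup.closure X := by
    conv_lhs => rw [← CoprimeGen.iSup_centralizer_eq hnc hAG hcop]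
    refine iSup₂_le fun a ha => ?_
    refine (hgen a ha.1 ha.2 _ le_rfl (hAC a ha.1)).trans ?_
    exact iSup₂_le fun e he => iSup_le fun h z hz => Subgroup.subset_closure ⟨_, he.choose_spec, hz.2⟩
  have hT0X : ∀ z ∈ T0, z ∈ X := fun z hz => by
    obtain ⟨a, -, -, -, hS⟩ := hz
    exact hS
  have hXX : ∀ x ∈ X, ∀ y ∈ X, ⁅x, y⁆ ∈ H := by
    rintro x ⟨S, hS, hx⟩ y ⟨S', hS', hy⟩
    obtain ⟨a, ha, ha1, h1, h2⟩ := hpair S S' hS hS'
    exact hD a ha ha1 (Subgroup.commutator_mem_commutator (h1 hx) (h2 hy))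
  have hXinv : ∀ x ∈ X, x⁻¹ ∈ X := fun x ⟨S, hS, hx⟩ => ⟨S, hS, inv_mem hx⟩
  have hXnorm : ∀ y ∈ X, y ∈ Subgroup.normalizer (H : Set Γ) := by
    have hone : ∀ y ∈ X, ∀ h ∈ H, y * h * y⁻¹ ∈ H := by
      intro y hy h hh
      induction hh using Subgroup.closure_induction with
      | mem z hz =>
        have hc := hXX y hy z (hT0X z hz)
        rw [show y * z * y⁻¹ = ⁅y, z⁆ * z by rw [commutatorElement_def]; group]
        exact mul_mem hc (Subgroup.subset_closure hz)
      | one => simp
      | mul a b _ _ iha ihb =>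
        rw [show y * (a * b) * y⁻¹ = (y * a * y⁻¹) * (y * b * y⁻¹) by group]
        exact mul_mem iha ihb
      | inv a _ iha =>
        rw [show y * a⁻¹ * y⁻¹ = (y * a * y⁻¹)⁻¹ by group]
        exact inv_mem iha
    intro y hy
    rw [Subgroup.mem_normalizer_iff]
    refine fun h => ⟨hone y hy h, fun hh => ?_⟩
    have := hone y⁻¹ (hXinv y hy) _ hh
    simpa [mul_assoc] using this
  have hGn : G ≤ Subgroup.normalizer (H : Set Γ) :=
    hGX.trans ((Subgroup.closure_le _).mpr fun y hy => hXnorm y hy)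
  have hGG : ⁅G, G⁆ ≤ H := by
    set N := Subgroup.normalizer (H : Set Γ) with hN
    let gX : Set N := {y | (y : Γ) ∈ X}
    have hmem : ∀ g ∈ Subgroup.closure X, ∃ y ∈ Subgroup.closure gX, (y : Γ) = g := by
      intro g hg
      have h : (Subgroup.closure gX).map N.subtype = Subgroup.closure X := by
        rw [MonoidHom.map_closure]
        congr 1
        ext z
        exact ⟨fun ⟨y, hy, e⟩ => e ▸ hy, fun hz => ⟨⟨z, hXnorm z hz⟩, hz, rfl⟩⟩
      rw [← h] at hg
      obtain ⟨y, hy, e⟩ := hg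
      exact ⟨y, hy, e⟩
    have hcomm : ∀ u ∈ Subgroup.closure gX, ∀ v ∈ Subgroup.closure gX,
        Commute (QuotientGroup.mk' (H.subgroupOf N) u) (QuotientGroup.mk' (H.subgroupOf N) v) := by
      intro u hu v hv
      induction hu, hv using Subgroup.closure_induction₂ with
      | mem x y hx hy =>
        rw [← commutatorElement_eq_one_iff_commute, ← map_commutatorElement,
          QuotientGroup.mk'_apply, QuotientGroup.eq_one_iff, Subgroup.mem_subgroupOf]
        exact hXX _ hx _ hy
      | one_left x _ => rw [map_one]; exact Commute.one_left _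
      | one_right x _ => rw [map_one]; exact Commute.one_right _
      | mul_left x y z _ _ _ h1 h2 => rw [map_mul]; exact h1.mul_left h2
      | mul_right x y z _ _ _ h1 h2 => rw [map_mul]; exact h1.mul_right h2
      | inv_left x y _ _ h => rw [map_inv]; exact h.inv_left
      | inv_right x y _ _ h => rw [map_inv]; exact h.inv_right
    rw [Subgroup.commutator_le]
    intro g hg g' hg'
    obtain ⟨u, hu, rfl⟩ := hmem g (hGX hg)
    obtain ⟨v, hv, rfl⟩ := hmem g' (hGX hg')
    have := commutatorElement_eq_one_iff_commute.mpr (hcomm u hu v hv)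
    rw [← map_commutatorElement, QuotientGroup.mk'_apply, QuotientGroup.eq_one_iff] at this
    exact this
  have hHG : H ≤ G := by
    rw [hH, Subgroup.closure_le]
    rintro z ⟨a, -, -, hz, -⟩
    exact (Subgroup.commutator_le_self _ hz).1
  -- size of the generating set
  have hT0card : Nat.card T0 ≤ q ^ 3 * m := by
    choose fa hfa hfa1 hfz hfS using fun z : T0 => z.2
    have h1 : Nat.card T0 ≤ Nat.card (Σ a : {a : A // (a : Γ) ≠ 1},
        ↥⁅C ((a.1 : A) : Γ), C ((a.1 : A) : Γ)⁆) := by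
      refine Nat.card_le_card_of_injective
        (fun z => ⟨⟨⟨fa z, hfa z⟩, hfa1 z⟩, ⟨(z : Γ), hfz z⟩⟩) fun x y e => ?_
      have := congrArg (fun s : (Σ a : {a : A // (a : Γ) ≠ 1},
        ↥⁅C ((a.1 : A) : Γ), C ((a.1 : A) : Γ)⁆) => (s.2 : Γ)) e
      exact Subtype.ext this
    refine h1.trans ?_
    rw [Nat.card_sigma]
    refine (Finset.sum_le_card_nsmul _ _ m fun a _ => hm _ a.1.2 a.2).trans ?_
    rw [smul_eq_mul]
    refine Nat.mul_le_mul_right _ ?_
    rw [Finset.card_univ, ← Nat.card_eq_fintype_card, ← hA]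
    exact Nat.card_le_card_of_injective Subtype.val Subtype.val_injective
  -- the centralizer of `H` has small index
  set K := G ⊓ Subgroup.centralizer (H : Set Γ) with hK
  have hKline : ∀ S : Subgroup A, q ^ 2 ≤ Nat.card S →
      K.relIndex (CS S) ≤ m ^ (q ^ 3 * m) := by
    intro S hS
    have h1 : ∀ z : T0, ∃ a ∈ A, a ≠ 1 ∧ (z : Γ) ∈ C a ∧ CS S ≤ C a := by
      intro z
      obtain ⟨S', hS', hz⟩ := hT0X z z.2
      obtain ⟨a, ha, ha1, e1, e2⟩ := hpair S' S hS' hS
      exact ⟨a, ha, ha1, e1 hz, e2⟩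
    choose b hb hb1 hbz hbS using h1
    let cf : CS S → ((z : T0) → ↥⁅C (b z), C (b z)⁆) := fun y z =>
      ⟨⁅(y : Γ), (z : Γ)⁆, Subgroup.commutator_mem_commutator (hbS z y.2) (hbz z)⟩
    let N := K.subgroupOf (CS S)
    have hcf : ∀ y y' : CS S, cf y = cf y' → y⁻¹ * y' ∈ N := by
      intro y y' e
      rw [Subgroup.mem_subgroupOf]
      refine Subgroup.mem_inf.mpr ⟨mul_mem (inv_mem y.2.1) y'.2.1, ?_⟩
      have hle : H ≤ Subgroup.centralizer {((y⁻¹ * y' : CS S) : Γ)} := by
        rw [hH, Subgroup.closure_le]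
        intro z hz
        rw [SetLike.mem_coe, Subgroup.mem_centralizer_singleton_iff]
        have h : ⁅(y : Γ), z⁆ = ⁅(y' : Γ), z⁆ := congrArg Subtype.val (congrFun e ⟨z, hz⟩)
        rw [commutatorElement_def, commutatorElement_def, mul_left_inj] at h
        push_cast
        calc z * ((y : Γ)⁻¹ * y') = (y : Γ)⁻¹ * ((y : Γ) * z * (y : Γ)⁻¹) * y' := by group
          _ = (y : Γ)⁻¹ * y' * z := by rw [h]; group
      rw [Subgroup.mem_centralizer_iff]
      exact fun z hz => Subgroup.mem_centralizer_singleton_iff.mp (hle hz)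
    have h2 : K.relIndex (CS S) ≤ Nat.card ((z : T0) → ↥⁅C (b z), C (b z)⁆) := by
      rw [Subgroup.relIndex, Subgroup.index]
      refine Nat.card_le_card_of_injective (fun c => cf c.out) fun c c' e => ?_
      rw [← c.out_eq, ← c'.out_eq]
      exact QuotientGroup.eq.mpr (hcf _ _ e)
    refine h2.trans ?_
    rw [Nat.card_pi]
    refine (Finset.prod_le_pow_card _ _ m fun z _ => hm _ (hb z) (hb1 z)).trans ?_
    rw [Finset.card_univ, ← Nat.card_eq_fintype_card]
    exact Nat.pow_le_pow_right hm1 hT0card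
  have hKconj : ∀ g ∈ G, ∀ x ∈ K, g * x * g⁻¹ ∈ K := by
    intro g hg x hx
    refine Subgroup.mem_inf.mpr ⟨mul_mem (mul_mem hg hx.1) (inv_mem hg), ?_⟩
    rw [Subgroup.mem_centralizer_iff]
    intro h hh
    have hh' : g⁻¹ * h * g ∈ H :=
      (Subgroup.mem_normalizer_iff.mp (hGn hg) _).mpr (by simpa [mul_assoc] using hh)
    have := (Subgroup.mem_centralizer_iff.mp hx.2) _ hh'
    calc h * (g * x * g⁻¹) = g * ((g⁻¹ * h * g) * x) * g⁻¹ := by group
      _ = g * (x * (g⁻¹ * h * g)) * g⁻¹ := by rw [this]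
      _ = g * x * g⁻¹ * h := by group
  have hGK : G ≤ Subgroup.normalizer (K : Set Γ) :=
    CoprimeAction.le_normalizer_of_conj_mem hKconj
  have hAH : A ≤ Subgroup.normalizer (H : Set Γ) := by
    have hHeq : H = ⁅G, G⁆ := le_antisymm (by
      rw [hH, Subgroup.closure_le]
      rintro z ⟨a, ha, ha1, hz, -⟩
      exact Subgroup.commutator_mono inf_le_left inf_le_left hz) hGG
    rw [hHeq]
    exact le_normalizer_commutator hAG
  have hAK : A ≤ Subgroup.normalizer (K : Set Γ) := by
    refine CoprimeAction.le_normalizer_of_conj_mem fun a ha x hx =>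
      Subgroup.mem_inf.mpr ⟨CoprimeAction.conj_mem (hAG ha) hx.1, ?_⟩
    rw [Subgroup.mem_centralizer_iff]
    intro h hh
    have hh' : a⁻¹ * h * a ∈ H :=
      (Subgroup.mem_normalizer_iff.mp (hAH ha) _).mpr (by simpa [mul_assoc] using hh)
    have := (Subgroup.mem_centralizer_iff.mp hx.2) _ hh'
    calc h * (a * x * a⁻¹) = a * ((a⁻¹ * h * a) * x) * a⁻¹ := by group
      _ = a * (x * (a⁻¹ * h * a)) * a⁻¹ := by rw [this]
      _ = a * x * a⁻¹ * h := by group
  set M' := m * (m ^ (q ^ 3 * m)) ^ (q ^ 3) with hM'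
  have hM'1 : 1 ≤ M' := Nat.one_le_iff_ne_zero.mpr (mul_ne_zero (by omega)
    (pow_ne_zero _ (pow_ne_zero _ (by omega))))
  have hKC : ∀ a ∈ A, a ≠ 1 → K.relIndex (C a) ≤ M' := by
    intro a ha ha1
    have hN : (K.subgroupOf (C a)).Normal := ⟨fun x hx g => by
      rw [Subgroup.mem_subgroupOf] at hx ⊢
      exact hKconj g g.2.1 x hx⟩
    let f : A → Subgroup (↥(C a) ⧸ K.subgroupOf (C a)) := fun e =>
      if q ^ 2 ≤ Nat.card ↥(Subgroup.zpowers (⟨a, ha⟩ : A) ⊔ Subgroup.zpowers e) then
        ((C a ⊓ CS (Subgroup.zpowers (⟨a, ha⟩ : A) ⊔ Subgroup.zpowers e)).subgroupOf (C a)).map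
          (QuotientGroup.mk' _)
      else ⊥
    have hsup : ⨆ e, f e = ⊤ := by
      rw [eq_top_iff]
      intro x _
      obtain ⟨y, rfl⟩ := QuotientGroup.mk'_surjective _ x
      have hy := hgen a ha ha1 (C a) le_rfl (hAC a ha) y.2
      have hle : (⨆ (e : A) (_ : ∃ h : a ∈ A,
          q ^ 2 ≤ Nat.card ↥(Subgroup.zpowers (⟨a, h⟩ : A) ⊔ Subgroup.zpowers e)),
          ⨆ h : a ∈ A, C a ⊓ CS (Subgroup.zpowers (⟨a, h⟩ : A) ⊔ Subgroup.zpowers e)) ≤
          ((⨆ e, f e).comap (QuotientGroup.mk' _)).map (C a).subtype := by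
        refine iSup₂_le fun e he => iSup_le fun h z hz => ⟨⟨z, hz.1⟩, ?_, rfl⟩
        refine (le_iSup f e) ?_
        simp only [f, if_pos he.choose_spec]
        exact Subgroup.mem_map_of_mem _ (Subgroup.mem_subgroupOf.mpr hz)
      obtain ⟨w, hw, e⟩ := hle hy
      exact Subtype.ext e ▸ hw
    have h := card_le_of_iSup_eq_top f hsup
    have hder : Nat.card (commutator (↥(C a) ⧸ K.subgroupOf (C a))) ≤ m := by
      rw [commutator_def, ← Subgroup.map_top_of_surjective _
        (QuotientGroup.mk'_surjective (K.subgroupOf (C a))), ← Subgroup.map_commutator]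
      refine le_trans (Nat.le_of_dvd Nat.card_pos (Subgroup.card_map_dvd _ _)) (le_trans ?_ (hm a ha ha1))
      rw [← Subgroup.card_map_of_injective (C a).subtype_injective, Subgroup.map_commutator,
        ← MonoidHom.range_eq_map, Subgroup.range_subtype]
    refine h.trans (Nat.mul_le_mul hder ?_)
    refine (Finset.prod_le_pow_card _ _ (m ^ (q ^ 3 * m)) fun e _ => ?_).trans
      (le_of_eq (by rw [Finset.card_univ, ← Nat.card_eq_fintype_card, hA]))
    simp only [f]
    split_ifs with he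
    · rw [← Subgroup.relIndex_ker, QuotientGroup.ker_mk', Subgroup.relIndex_subgroupOf inf_le_left]
      exact le_trans (Subgroup.relIndex_le_of_le_right inf_le_right Subgroup.index_ne_zero_of_finite)
        (hKline _ he)
    · rw [Subgroup.card_bot]; exact Nat.one_le_pow _ _ hm1
  have hidx : K.relIndex G ∣ indexBound q m := by
    refine (Nat.dvd_iff_prime_pow_dvd_dvd _ _).mpr fun p k hp hpk => ?_
    have : Fact p.Prime := ⟨hp⟩
    refine Nat.dvd_factorial (pow_pos hp.pos k) ?_
    have : IsMulCommutative A := inferInstance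
    obtain ⟨P, hP⟩ := CoprimeAction.exists_invariant_sylow hAG hcop (Or.inl inferInstance) p
    set P' := (P : Subgroup G).map G.subtype with hP'
    have hP'G : P' ≤ G := Subgroup.map_subtype_le _
    have hP'p : IsPGroup p P' := P.isPGroup'.map _
    have hsolP : Group.IsSolvable P' := by
      have := hP'p.isNilpotent
      infer_instance
    have hJn : P' ≤ Subgroup.normalizer ((P' ⊓ K : Subgroup Γ) : Set Γ) :=
      (le_inf Subgroup.le_normalizer (hP'G.trans hGK)).trans Subgroup.inf_normalizer_le_normalizer_inf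
    have hJA : A ≤ Subgroup.normalizer ((P' ⊓ K : Subgroup Γ) : Set Γ) :=
      CoprimeAction.le_normalizer_inf hP hAK
    have hb := relIndex_le_prod hnc (Nat.card P') P' le_rfl hsolP hP
      (CoprimeAction.coprime_of_le_right hP'G hcop) (P' ⊓ K) inf_le_left hJA hJn
    have hb' : (P' ⊓ K).relIndex P' ≤ M' ^ (q ^ 3) := by
      refine hb.trans ((Finset.prod_le_pow_card _ _ M' fun a _ => ?_).trans
        (le_of_eq (by rw [Finset.card_univ, ← Nat.card_eq_fintype_card, hA])))
      split_ifs with ha1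
      · exact hM'1
      · refine le_trans ?_ (hKC _ a.2 ha1)
        rw [← Subgroup.inf_relIndex_right, show P' ⊓ K ⊓ (P' ⊓ Subgroup.centralizer {(a : Γ)}) =
            K ⊓ (P' ⊓ Subgroup.centralizer {(a : Γ)}) by rw [inf_comm P' K, inf_assoc, ← inf_assoc P' P',
              inf_idem], Subgroup.inf_relIndex_right]
        exact Subgroup.relIndex_le_of_le_right (inf_le_inf_right _ hP'G)
          Subgroup.index_ne_zero_of_finite
    refine le_trans ?_ hb'
    -- compare the `p`-parts
    have hKG : K ≤ G := inf_le_left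
    have h1 := card_mul_relIndex hKG
    have h2 := card_mul_relIndex (inf_le_left : P' ⊓ K ≤ P')
    have hP'c : Nat.card P' = p ^ (Nat.card G).factorization p := by
      rw [hP', Subgroup.card_map_of_injective G.subtype_injective, P.card_eq_multiplicity]
    obtain ⟨j, hj⟩ := (hP'p.to_le (inf_le_left : P' ⊓ K ≤ P')).exists_card_eq
    have hjle : j ≤ (Nat.card K).factorization p :=
      (hp.pow_dvd_iff_le_factorization Nat.card_pos.ne').mp
        (hj ▸ Subgroup.card_dvd_of_le inf_le_right)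
    have hkle : k ≤ (K.relIndex G).factorization p :=
      (hp.pow_dvd_iff_le_factorization Subgroup.index_ne_zero_of_finite).mp hpk
    have hsum : (Nat.card G).factorization p =
        (Nat.card K).factorization p + (K.relIndex G).factorization p := by
      have hr : K.relIndex G ≠ 0 := Subgroup.index_ne_zero_of_finite
      rw [← h1, Nat.factorization_mul Nat.card_pos.ne' hr]
      rfl
    rw [hP'c, hj] at h2
    refine Nat.le_of_mul_le_mul_left ?_ (pow_pos hp.pos j)
    rw [h2, ← pow_add]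
    exact Nat.pow_le_pow_right hp.pos (by omega)
  have hI : (Subgroup.center H).index ≤ indexBound q m := by
    have h1 : K.subgroupOf H ≤ Subgroup.center H := fun x hx =>
      Subgroup.mem_center_iff.mpr fun y => Subtype.ext
        (Subgroup.mem_centralizer_iff.mp (Subgroup.mem_subgroupOf.mp hx).2 (y : Γ) y.2)
    refine (Nat.le_of_dvd (Nat.pos_of_ne_zero Subgroup.index_ne_zero_of_finite)
      (Subgroup.index_dvd_of_le h1)).trans ?_
    refine (Subgroup.relIndex_le_of_le_right hHG Subgroup.index_ne_zero_of_finite).trans ?_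
    exact Nat.le_of_dvd (Nat.factorial_pos _) hidx
  refine (Nat.le_of_dvd Nat.card_pos (Subgroup.card_dvd_of_le hGG)).trans ?_
  let g : T0 → Subgroup H := fun z => Subgroup.zpowers ⟨(z : Γ), Subgroup.subset_closure z.2⟩
  have hg : ⨆ z, g z = ⊤ := by
    rw [eq_top_iff, ← Subgroup.map_le_map_iff_of_injective H.subtype_injective,
      ← MonoidHom.range_eq_map, Subgroup.range_subtype, Subgroup.map_iSup]
    conv_lhs => rw [hH]
    rw [Subgroup.closure_le]
    intro z hz
    exact (le_iSup (fun z => (g z).map H.subtype) ⟨z, hz⟩) ⟨_, Subgroup.mem_zpowers _, rfl⟩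
  refine (card_le_of_iSup_eq_top g hg).trans (Nat.mul_le_mul (card_commutator_le hI) ?_)
  refine (Finset.prod_le_pow_card _ _ m fun z _ => ?_).trans ?_
  · obtain ⟨a, ha, ha1, hz, -⟩ := z.2
    rw [Nat.card_zpowers, ← Subgroup.orderOf_coe]
    exact (Nat.le_of_dvd Nat.card_pos (Subgroup.orderOf_dvd_natCard _ hz)).trans (hm a ha ha1)
  · rw [Finset.card_univ, ← Nat.card_eq_fintype_card]
    exact Nat.pow_le_pow_right hm1 hT0card

end Cfsg.Agent.HallFixedDerived
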