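import Cfsg.Agent.Lib.HallSolvable

/-!
# Elements of order four with cubic minimal polynomial over two elements
-/

set_option autoImplicit false

namespace Cfsg.Agent.HallHigman

open Subgroup

variable {V : Type*} [AddCommGroup V] [Module (ZMod 2) V]

/-- Two transvection involutions whose product has odd order move each other's centre. -/
theorem cross_of_odd {s₁ s₂ : V ≃ₗ[ZMod 2] V} {a b : V}
    (h₁ : ∀ v, s₁ v = v ∨ s₁ v = v + a) (h₂ : ∀ v, s₂ v = v ∨ s₂ v = v + b)
    (h₁a : s₁ a = a) (h₂b : s₂ b = b) (hodd : Odd (orderOf (s₁ * s₂))) (hne : s₁ * s₂ ≠ 1) :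
    s₁ b = b + a := by
  refine (h₁ b).resolve_left fun hb => hne ?_
  have two : ∀ v : V, v + v = 0 := fun v => ZModModule.add_self v
  have hwb : s₁ (s₂ b) = b := by rw [h₂b, hb]
  have hw2 : ∀ v, ∃ z, s₁ (s₂ (s₁ (s₂ v))) = v + z ∧ s₁ (s₂ z) = z := by
    intro v
    obtain ⟨δ, hδ, hδb⟩ : ∃ δ, s₂ v = v + δ ∧ (δ = 0 ∨ δ = b) := (h₂ v).elim
      (fun h => ⟨0, by rw [h, add_zero], Or.inl rfl⟩) fun h => ⟨b, h, Or.inr rfl⟩
    obtain ⟨ε, hε, hεa⟩ : ∃ ε, s₁ v = v + ε ∧ (ε = 0 ∨ ε = a) := (h₁ v).elim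
      (fun h => ⟨0, by rw [h, add_zero], Or.inl rfl⟩) fun h => ⟨a, h, Or.inr rfl⟩
    have hδw : s₁ δ = δ ∧ s₁ (s₂ δ) = δ := by rcases hδb with rfl | rfl <;> simp [hb, h₂b]
    have hεw : ∃ γ, s₁ (s₂ ε) = ε + γ ∧ s₁ (s₂ γ) = γ := by
      rcases hεa with rfl | rfl
      · exact ⟨0, by simp, by simp⟩
      · rcases h₂ ε with h | h
        · exact ⟨0, by rw [h, h₁a, add_zero], by simp⟩
        · exact ⟨b, by rw [h, map_add, h₁a, hb], hwb⟩
    obtain ⟨γ, hγ, hγw⟩ := hεw
    refine ⟨γ, ?_, hγw⟩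
    have hv : s₁ (s₂ v) = v + ε + δ := by rw [hδ, map_add, hε, hδw.1]
    rw [hv, map_add, map_add, map_add, map_add, hv, hγ, hδw.2]
    linear_combination (norm := abel) two ε + two δ
  have h4 : (s₁ * s₂) ^ 4 = 1 := LinearEquiv.ext fun v => by
    obtain ⟨z, hz, hzw⟩ := hw2 v
    simp only [pow_succ, pow_zero, one_mul, LinearEquiv.mul_apply]
    rw [hz, map_add, map_add, map_add, map_add, hz, hzw, hzw, add_assoc, two, add_zero]
    rfl
  have hcop : (4 : ℕ).Coprime (orderOf (s₁ * s₂)) := by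
    rw [show (4 : ℕ) = 2 ^ 2 from rfl]
    exact ((Nat.Prime.coprime_iff_not_dvd Nat.prime_two).mpr hodd.not_two_dvd_nat).pow_left 2
  exact orderOf_eq_one_iff.mp
    (Nat.eq_one_of_dvd_coprimes hcop (orderOf_dvd_of_pow_eq_one h4) dvd_rfl)

/-- A solvable linear group over two elements without normal `2`-subgroups has no element of
order four with cubic minimal polynomial whose square is a transvection. -/
theorem four_le_card_range [Finite V] (S : Subgroup (V ≃ₗ[ZMod 2] V))
    (hS : Group.IsSolvable ↥S) (hO2 : Cfsg.pCore 2 ↥S = ⊥)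
    (P : V ≃ₗ[ZMod 2] V) (hPS : P ∈ S) (hP4 : orderOf P = 4)
    (hcub : ((P : V →ₗ[ZMod 2] V) - LinearMap.id) ^ 3 = 0) :
    4 ≤ Nat.card ↥(LinearMap.range (((P : V →ₗ[ZMod 2] V) - LinearMap.id) ^ 2)) := by
  classical
  have : Finite (V ≃ₗ[ZMod 2] V) := Finite.of_injective _ DFunLike.coe_injective
  have two : ∀ v : V, v + v = 0 := fun v => ZModModule.add_self v
  set N : Module.End (ZMod 2) V := (P : V →ₗ[ZMod 2] V) - LinearMap.id with hN
  have hN1 : ∀ v, N v = P v + v := fun v => by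
    rw [hN, LinearMap.sub_apply, LinearMap.id_apply, ZModModule.sub_eq_add]
    rfl
  have hN2 : ∀ v, (N ^ 2) v = P (P v) + v := fun v => by
    rw [pow_two, Module.End.mul_apply, hN1, hN1, map_add]
    linear_combination (norm := abel) two (P v)
  by_contra hlt
  set t : V ≃ₗ[ZMod 2] V := P * P with ht
  have ht1 : t ≠ 1 := fun h => by
    have := Nat.le_of_dvd (by decide) (orderOf_dvd_of_pow_eq_one (x := P) (n := 2) (by
      rw [pow_two, ← ht, h]))
    omega
  have htt : t * t = 1 := by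
    rw [ht, ← pow_two, ← pow_two, ← pow_mul, show 2 * 2 = orderOf P from hP4.symm]
    exact pow_orderOf_eq_one P
  obtain ⟨v₀, hv₀⟩ : ∃ v, (N ^ 2) v ≠ 0 := by
    by_contra h
    push Not at h
    refine ht1 (LinearEquiv.ext fun v => ?_)
    have := h v
    rw [hN2] at this
    show P (P v) = v
    linear_combination (norm := abel) this - two v
  set a := (N ^ 2) v₀ with hadef
  have hmem : ∀ v, (N ^ 2) v = 0 ∨ (N ^ 2) v = a := fun v => by
    by_contra hv
    push Not at hv
    refine hlt ?_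
    set w : LinearMap.range (N ^ 2) := ⟨(N ^ 2) v, LinearMap.mem_range_self _ _⟩
    set a' : LinearMap.range (N ^ 2) := ⟨a, LinearMap.mem_range_self _ _⟩
    let f : ZMod 2 × ZMod 2 →ₗ[ZMod 2] LinearMap.range (N ^ 2) :=
      (LinearMap.toSpanSingleton (ZMod 2) _ a').coprod (LinearMap.toSpanSingleton (ZMod 2) _ w)
    have hf : Function.Injective f := by
      rw [injective_iff_map_eq_zero]
      rintro ⟨i, k⟩ hik
      have h1 : i • a + k • (N ^ 2) v = 0 := congrArg Subtype.val hik
      have h2 : ∀ r : ZMod 2, r = 0 ∨ r = 1 := by decide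
      rcases h2 i with rfl | rfl <;> rcases h2 k with rfl | rfl <;>
        simp only [zero_smul, one_smul, zero_add, add_zero] at h1 <;> try rfl
      · exact absurd h1 hv.1
      · exact absurd h1 hv₀
      · exact absurd (by linear_combination (norm := abel) h1 - two a) hv.2
    have := Nat.card_le_card_of_injective f hf
    rwa [Nat.card_prod, Nat.card_zmod] at this
  have htv : ∀ v, t v = v ∨ t v = v + a := fun v => by
    have h1 : t v = v + (N ^ 2) v := by
      rw [hN2]
      show P (P v) = _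
      linear_combination (norm := abel) -two v
    rcases hmem v with h | h
    · exact Or.inl (by rw [h1, h, add_zero])
    · exact Or.inr (by rw [h1, h])
  have hPa : P a = a := by
    have h1 : N a = 0 := by
      rw [hadef, ← Module.End.mul_apply, ← pow_succ']
      exact LinearMap.congr_fun hcub v₀
    rw [hN1] at h1
    linear_combination (norm := abel) h1 - two a
  have hta : t a = a := by
    show P (P a) = a
    rw [hPa, hPa]
  -- the odd order normal subgroup moved by `t`
  set Q := Cfsg.pPrimeCore 2 S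
  have := Cfsg.Agent.HallCore.pPrimeCore_normal 2 S
  have htS : t ∈ S := mul_mem hPS hPS
  have hC : Subgroup.centralizer (Q : Set S) ≤ Q := by
    have h1 := HallSolvable.centralizer_piCore_le (G := S) (π := ({2} : Set ℕ)ᶜ)
      (HallSolvable.isPiSeparable_of_solvable _)
      (by rw [compl_compl, ← HallCore.pCore_eq_piCore, hO2])
    rwa [← HallCore.pPrimeCore_eq_piCore] at h1
  have hodd : ∀ g : S, g ∈ Q → Odd (orderOf (g : V ≃ₗ[ZMod 2] V)) := fun g hg => by
    have h1 : orderOf g ∣ Nat.card Q := by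
      rw [← Subgroup.orderOf_mk (H := Q) g hg]
      exact orderOf_dvd_natCard _
    rw [Subgroup.orderOf_coe]
    exact (Nat.odd_iff.mpr (Nat.two_dvd_ne_zero.mp
      (HallCore.not_dvd_card_pPrimeCore 2 S))).of_dvd_nat h1
  obtain ⟨y, hyQ, hy⟩ : ∃ y ∈ Q, (⟨t, htS⟩ : S) * y ≠ y * ⟨t, htS⟩ := by
    by_contra h
    push Not at h
    have h1 := hodd _ (hC (mem_centralizer_iff.mpr fun y hy => (h y hy).symm))
    refine ht1 (orderOf_eq_one_iff.mp ?_)
    have h2 : orderOf t ∣ 2 := orderOf_dvd_of_pow_eq_one (by rw [pow_two, htt])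
    rcases (Nat.dvd_prime Nat.prime_two).mp h2 with h3 | h3
    · exact h3
    · rw [show ((⟨t, htS⟩ : S) : V ≃ₗ[ZMod 2] V) = t from rfl, h3] at h1
      exact absurd h1 (by decide)
  set e : V ≃ₗ[ZMod 2] V := (y : V ≃ₗ[ZMod 2] V) with he
  set b := e a
  set s := e * t * e⁻¹ with hs
  set c := P b
  set s' := P * s * P⁻¹ with hs'
  have hse : ∀ v, s (e v) = e (t v) := fun v => by
    show (e * t * e⁻¹ * e) v = (e * t) v
    rw [inv_mul_cancel_right]
  have hse' : ∀ v, s' (P v) = P (s v) := fun v => by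
    show (P * s * P⁻¹ * P) v = (P * s) v
    rw [inv_mul_cancel_right]
  have hsv : ∀ v, s v = v ∨ s v = v + b := fun v => by
    obtain ⟨u, rfl⟩ := e.surjective v
    rw [hse]
    exact (htv u).imp (fun h => by rw [h]) fun h => by rw [h, map_add]
  have hs'v : ∀ v, s' v = v ∨ s' v = v + c := fun v => by
    obtain ⟨u, rfl⟩ := P.surjective v
    rw [hse']
    exact (hsv u).imp (fun h => by rw [h]) fun h => by rw [h, map_add]
  have hsb : s b = b := by rw [hse, hta]
  have hs'c : s' c = c := by rw [hse', hsb]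
  have hss : s⁻¹ = s := inv_eq_of_mul_eq_one_right (by
    rw [hs, show e * t * e⁻¹ * (e * t * e⁻¹) = e * (t * t) * e⁻¹ by group, htt, mul_one,
      mul_inv_cancel])
  have htinv : t⁻¹ = t := inv_eq_of_mul_eq_one_right htt
  have hs's' : s'⁻¹ = s' := inv_eq_of_mul_eq_one_right (by
    rw [hs', show P * s * P⁻¹ * (P * s * P⁻¹) = P * (s * s) * P⁻¹ by group,
      mul_eq_one_iff_eq_inv.mpr hss.symm, mul_one, mul_inv_cancel])
  have hPt : P * t = t * P := by rw [ht, mul_assoc]
  have hts' : t * s' = P * (t * s) * P⁻¹ := by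
    rw [hs', ← mul_assoc, ← mul_assoc, ← mul_assoc P t s, hPt]
  have hw : ∃ g : S, g ∈ Q ∧ (g : V ≃ₗ[ZMod 2] V) = t * s := by
    refine ⟨⟨t, htS⟩ * y * (⟨t, htS⟩ : S)⁻¹ * y⁻¹,
      mul_mem ((inferInstance : Q.Normal).conj_mem y hyQ _) (inv_mem hyQ), ?_⟩
    push_cast
    rw [htinv, hs, he]
    group
  obtain ⟨g, hgQ, hg⟩ := hw
  set g' : S := ⟨P, hPS⟩ * g * (⟨P, hPS⟩ : S)⁻¹ with hg'def
  have hg'Q : g' ∈ Q := (inferInstance : Q.Normal).conj_mem g hgQ _
  have hg' : (g' : V ≃ₗ[ZMod 2] V) = t * s' := by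
    rw [hts', hg'def]
    push_cast
    rw [hg]
  have hts : t * s ≠ 1 := fun h => by
    have h1 : t = s := by rw [← hss]; exact eq_inv_of_mul_eq_one_left h
    refine hy (Subtype.ext ?_)
    show t * e = e * t
    calc t * e = s * e := by rw [← h1]
      _ = e * t := by rw [hs, inv_mul_cancel_right]
  have hwodd : Odd (orderOf (t * s)) := hg ▸ hodd g hgQ
  have hw'odd : Odd (orderOf (t * s')) := hg' ▸ hodd g' hg'Q
  have hts'1 : t * s' ≠ 1 := fun h => hts (conj_eq_one_iff.mp (hts'.symm.trans h))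
  have hss'odd : Odd (orderOf (s * s')) := by
    have h1 := hodd (g⁻¹ * g') (mul_mem (inv_mem hgQ) hg'Q)
    push_cast at h1
    rwa [hg, hg', mul_inv_rev, hss, htinv, mul_assoc, ← mul_assoc t t s', htt, one_mul] at h1
  have hss'1 : s * s' ≠ 1 := fun h => by
    have h1 : s' = s := by rw [← hss]; exact eq_inv_of_mul_eq_one_right h
    have h2 : t * s = s * t := by
      have h3 : P * s = s * P := by
        calc P * s = P * s * P⁻¹ * P := by rw [inv_mul_cancel_right]
          _ = s * P := by rw [← hs', h1]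
      exact ((show Commute P s from h3).mul_left h3).eq
    refine hts (orderOf_eq_one_iff.mp ?_)
    have h4 : (t * s) ^ 2 = 1 := by
      rw [pow_two]
      nth_rewrite 2 [h2]
      rw [mul_assoc, ← mul_assoc s s t, mul_eq_one_iff_eq_inv.mpr hss.symm, one_mul, htt]
    exact Nat.eq_one_of_dvd_coprimes (a := 2) (b := orderOf (t * s))
      ((Nat.Prime.coprime_iff_not_dvd Nat.prime_two).mpr hwodd.not_two_dvd_nat)
      (orderOf_dvd_of_pow_eq_one h4) dvd_rfl
  have rev : ∀ {p q : V ≃ₗ[ZMod 2] V}, p⁻¹ = p → q⁻¹ = q → Odd (orderOf (p * q)) → p * q ≠ 1 →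
      Odd (orderOf (q * p)) ∧ q * p ≠ 1 := fun {p q} hp hq h h' => by
    have h1 : q * p = (p * q)⁻¹ := by rw [mul_inv_rev, hp, hq]
    rw [h1, orderOf_inv]
    exact ⟨h, inv_ne_one.mpr h'⟩
  have htb := cross_of_odd htv hsv hta hsb hwodd hts
  have htc := cross_of_odd htv hs'v hta hs'c hw'odd hts'1
  obtain ⟨r1, r1'⟩ := rev htinv hss hwodd hts
  have hsa := cross_of_odd hsv htv hsb hta r1 r1'
  obtain ⟨r2, r2'⟩ := rev htinv hs's' hw'odd hts'1
  have hs'a := cross_of_odd hs'v htv hs'c hta r2 r2'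
  have hsc := cross_of_odd hsv hs'v hsb hs'c hss'odd hss'1
  obtain ⟨r3, r3'⟩ := rev hss hs's' hss'odd hss'1
  have hs'b := cross_of_odd hs'v hsv hs'c hsb r3 r3'
  set z : V ≃ₗ[ZMod 2] V := (t * s) * (t * s') with hz
  set u := a + b + c with hu
  have hza : z a = a + u := by
    rw [hu]
    simp only [hz, LinearEquiv.mul_apply, map_add, hs'a, hta, htc, hsc, hsb, htb, hsa]
    linear_combination (norm := abel) two b + two a + two a
  have htu : t u = u := by
    rw [hu, map_add, map_add, hta, htb, htc]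
    linear_combination (norm := abel) two a
  have hsu : s u = u := by
    rw [hu, map_add, map_add, hsa, hsb, hsc]
    linear_combination (norm := abel) two b
  have hs'u : s' u = u := by
    rw [hu, map_add, map_add, hs'a, hs'b, hs'c]
    linear_combination (norm := abel) two c
  have hzu : z u = u := by simp only [hz, LinearEquiv.mul_apply, hs'u, htu, hsu]
  have hz2 : (z * z) a = a := by
    rw [LinearEquiv.mul_apply, hza, map_add, hza, hzu, add_assoc, two, add_zero]
  obtain ⟨j, hj⟩ : Odd (orderOf z) := by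
    have h1 := hodd (g * g') (mul_mem hgQ hg'Q)
    push_cast at h1
    rwa [hg, hg'] at h1
  have hzfix : z a = a := by
    have h1 : (z * z) ^ (j + 1) = z := by
      rw [← pow_two, ← pow_mul, show 2 * (j + 1) = (2 * j + 1) + 1 by ring, pow_succ, ← hj,
        pow_orderOf_eq_one, one_mul]
    have h2 : ∀ k : ℕ, ((z * z) ^ k) a = a := fun k => by
      induction k with
      | zero => rw [pow_zero]; rfl
      | succ k ih => rw [pow_succ, LinearEquiv.mul_apply, hz2, ih]
    rw [← h1]
    exact h2 _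
  rw [hza, hu] at hzfix
  have hc : c = a + b := by linear_combination (norm := abel) hzfix - two a - two b
  have hPc : P c = b := by
    rw [hc, map_add, hPa]
    show a + c = b
    rw [hc]
    linear_combination (norm := abel) two a
  have htbb : t b = b := hPc
  rw [htb] at htbb
  exact hv₀ (by linear_combination (norm := abel) htbb)

end Cfsg.Agent.HallHigman
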