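import Mathlib
import Cfsg.Agent.Lib.HallHigmanRep

/-!
# Theorem B of Hall and Higman, sharp degree bound in characteristic `p`

On a `q`-subgroup of class two with `[Q, x₀] = Q` the degree of the minimal polynomial of an element
of order `p ^ e` is at least `p ^ (e - a) * (p ^ a - 1)` for some `a` with `p ^ a - 1` a power of
`q`. The new ingredient: an endomorphism commuting with `x` is a scalar plus a sum over the powers
of `x`.
-/

set_option autoImplicit false
set_option linter.style.haveILetI false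

namespace Cfsg.Agent.HallHigmanDegree

open Module
open scoped commutatorElement
open Cfsg.Agent.HallHigman

universe u v

section core

variable {K W : Type*} [Field K] [AddCommGroup W] [Module K W]

/-- Fixed endomorphisms for a semiregular basis. -/
theorem fixed_decomp {ι : Type*} [Finite ι] (o : ι) (b : Basis ι K (Module.End K W))
    (X : Module.End K W) (m : ℕ) (hm : 2 ≤ m) (hXm : X ^ m = 1)
    (π : Equiv.Perm ι) (hπm : π ^ m = 1) (hπo : π o = o)
    (hfree : ∀ i, i ≠ o → ∀ k, 0 < k → k < m → (π ^ k) i ≠ i)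
    (a : ι → K) (hconj : ∀ i, X * b i = a i • (b (π i) * X))
    {f : Module.End K W} (hf : f * X = X * f) :
    ∃ (c : K) (g : Module.End K W), f = c • b o + ∑ k ∈ Finset.range m, X ^ k * g * X ^ (m - k) := by
  classical
  have : Fintype ι := Fintype.ofFinite ι
  have hcoord : ∀ i, b.repr f (π i) = a i * b.repr f i := by
    intro i
    have h1 : X * f = (∑ j, (b.repr f j * a j) • b (π j)) * X := by
      conv_lhs => rw [← b.sum_repr f]
      rw [Finset.mul_sum, Finset.sum_mul]
      refine Finset.sum_congr rfl fun j _ => ?_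
      rw [mul_smul_comm, hconj, smul_smul, smul_mul_assoc]
    rw [← hf] at h1
    have h2 : f = ∑ j, (b.repr f j * a j) • b (π j) := by
      have hu : IsUnit X := (isUnit_pow_iff (by omega : m ≠ 0)).mp (hXm ▸ isUnit_one)
      exact hu.mul_right_cancel h1
    rw [← Equiv.sum_comp π.symm] at h2
    simp only [Equiv.apply_symm_apply] at h2
    conv_lhs => rw [h2, b.repr_sum_self]
    rw [Equiv.symm_apply_apply, mul_comm]
  have horb : ∀ k ≤ m, ∀ i, X ^ k * (b.repr f i • b i) * X ^ (m - k) =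
      b.repr f ((π ^ k) i) • b ((π ^ k) i) := by
    intro k
    induction k with
    | zero => intro _ i; simp [hXm]
    | succ k ih =>
      intro hk i
      have h3 : X * (b.repr f i • b i) = (b.repr f (π i) • b (π i)) * X := by
        rw [mul_smul_comm, hconj, smul_smul, hcoord, mul_comm, smul_mul_assoc]
      calc X ^ (k + 1) * (b.repr f i • b i) * X ^ (m - (k + 1))
          = X ^ k * (X * (b.repr f i • b i)) * X ^ (m - (k + 1)) := by
            rw [pow_succ]; simp only [mul_assoc]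
        _ = X ^ k * (b.repr f (π i) • b (π i)) * X ^ (m - k) := by
            rw [h3, show m - k = m - (k + 1) + 1 by omega, pow_succ']; simp only [mul_assoc]
        _ = _ := by rw [ih (by omega), pow_succ, Equiv.Perm.mul_apply]
  -- orbit representatives
  let e := Fintype.equivFin ι
  let R : Finset ι := Finset.univ.filter fun i => i ≠ o ∧ ∀ k, e i ≤ e ((π ^ k) i)
  have hπne : ∀ i, i ≠ o → ∀ k : ℕ, (π ^ k) i ≠ o := by
    intro i hi k h
    refine hi ((π ^ k).injective ?_)
    rw [h]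
    clear h
    induction k with
    | zero => rfl
    | succ k ih => rw [pow_succ, Equiv.Perm.mul_apply, hπo, ← ih]
  have hmod : ∀ k i, (π ^ k) i = (π ^ (k % m)) i := by
    intro k i
    conv_lhs => rw [← Nat.mod_add_div k m, pow_add, pow_mul, hπm, one_pow, mul_one]
  have hrep : ∀ i, i ≠ o → ∃ k < m, (π ^ k) i ∈ R := by
    intro i hi
    obtain ⟨k, hk, hmin⟩ := Finset.exists_min_image (Finset.range m) (fun k => e ((π ^ k) i))
      ⟨0, Finset.mem_range.mpr (by omega)⟩
    refine ⟨k, Finset.mem_range.mp hk, Finset.mem_filter.mpr ⟨Finset.mem_univ _, hπne i hi k,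
      fun l => ?_⟩⟩
    have := hmin ((l + k) % m) (Finset.mem_range.mpr (Nat.mod_lt _ (by omega)))
    rw [← hmod, pow_add, Equiv.Perm.mul_apply] at this
    exact this
  have hinj : ∀ r ∈ R, ∀ r' ∈ R, ∀ k < m, ∀ l < m, (π ^ k) r = (π ^ l) r' → r = r' ∧ k = l := by
    intro r hr r' hr' k hk l hl h
    obtain ⟨-, hro, hrmin⟩ := Finset.mem_filter.mp hr
    obtain ⟨-, hr'o, hr'min⟩ := Finset.mem_filter.mp hr'
    have h1 : (π ^ (m - l + k)) r = r' := by
      rw [pow_add, Equiv.Perm.mul_apply, h, ← Equiv.Perm.mul_apply, ← pow_add,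
        Nat.sub_add_cancel hl.le, hπm, Equiv.Perm.one_apply]
    have h2 : (π ^ (m - k + l)) r' = r := by
      rw [pow_add, Equiv.Perm.mul_apply, ← h, ← Equiv.Perm.mul_apply, ← pow_add,
        Nat.sub_add_cancel hk.le, hπm, Equiv.Perm.one_apply]
    have heq : r = r' := e.injective (le_antisymm (h1 ▸ hrmin _) (h2 ▸ hr'min _))
    refine ⟨heq, ?_⟩
    subst heq
    rcases lt_trichotomy k l with hkl | hkl | hkl
    · refine absurd ?_ (hfree r hro (l - k) (by omega) (by omega))
      refine (π ^ k).injective ?_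
      rw [← Equiv.Perm.mul_apply, ← pow_add, Nat.add_sub_cancel' hkl.le, h]
    · exact hkl
    · refine absurd ?_ (hfree r hro (k - l) (by omega) (by omega))
      refine (π ^ l).injective ?_
      rw [← Equiv.Perm.mul_apply, ← pow_add, Nat.add_sub_cancel' hkl.le, h]
  refine ⟨b.repr f o, ∑ i ∈ R, b.repr f i • b i, ?_⟩
  have h1 : (Finset.range m ×ˢ R).image (fun x => (π ^ x.1) x.2) = Finset.univ.erase o := by
    refine Finset.Subset.antisymm ?_ ?_
    · intro i hi
      obtain ⟨⟨k, r⟩, hkr, rfl⟩ := Finset.mem_image.mp hi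
      obtain ⟨-, hr⟩ := Finset.mem_product.mp hkr
      exact Finset.mem_erase.mpr ⟨hπne r (Finset.mem_filter.mp hr).2.1 k, Finset.mem_univ _⟩
    · intro i hi
      obtain ⟨k, hk, hkR⟩ := hrep i (Finset.mem_erase.mp hi).1
      refine Finset.mem_image.mpr ⟨((m - k) % m, (π ^ k) i), Finset.mem_product.mpr
        ⟨Finset.mem_range.mpr (Nat.mod_lt _ (by omega)), hkR⟩, ?_⟩
      rw [← hmod, ← Equiv.Perm.mul_apply, ← pow_add, Nat.sub_add_cancel hk.le, hπm,
        Equiv.Perm.one_apply]
  conv_lhs => rw [← b.sum_repr f, ← Finset.add_sum_erase _ _ (Finset.mem_univ o), ← h1]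
  congr 1
  rw [Finset.sum_image, Finset.sum_product]
  · refine Finset.sum_congr rfl fun k hk => ?_
    rw [Finset.mul_sum, Finset.sum_mul]
    exact Finset.sum_congr rfl fun i _ => (horb k (Finset.mem_range.mp hk).le i).symm
  · rintro ⟨k, r⟩ hkr ⟨l, r'⟩ hlr h
    simp only [Finset.coe_product, Set.mem_prod, Finset.mem_coe, Finset.mem_range] at hkr hlr
    obtain ⟨h1, h2⟩ := hinj r hkr.2 r' hlr.2 k hkr.1 l hlr.1 h
    rw [h1, h2]

variable {Q : Type*} [Group Q] (r : Q →* Module.End K W)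
variable {X : Module.End K W} {α : MulAut Q}
variable [Finite Q]

/-- An endomorphism commuting with `X` is a scalar plus a sum over the powers of `X`. -/
theorem core_comm [IsAlgClosed K] [FiniteDimensional K W] [Nontrivial W]
    (m : ℕ) (hm : 2 ≤ m) (hXm : X ^ m = 1) (hαm : α ^ m = 1)
    (hint : ∀ u, X * r u = r (α u) * X) (hQK : (Nat.card Q : K) ≠ 0)
    (hirr : ∀ U : Submodule K W, (∀ u, ∀ w ∈ U, r u w ∈ U) → (∀ w ∈ U, X w ∈ U) → U = ⊥ ∨ U = ⊤)
    (hcomm : ∀ u v : Q, ⁅u, v⁆ ∈ scal r) (hnd : ∀ u : Q, u ∉ scal r → ∃ v : Q, r ⁅v, u⁆ ≠ 1)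
    (hfpf : ∀ k, 0 < k → k < m → ∀ u, (α ^ k) u * u⁻¹ ∈ scal r → u ∈ scal r)
    {f : Module.End K W} (hf : f * X = X * f) :
    ∃ (c : K) (g : Module.End K W), f = c • 1 + ∑ k ∈ Finset.range m, X ^ k * g * X ^ (m - k) := by
  classical
  have : Fintype Q := Fintype.ofFinite Q
  have hcast : ((Fintype.card Q : ℕ) : K) ≠ 0 := by rwa [← Nat.card_eq_fintype_card]
  have hXu : IsUnit X := (isUnit_pow_iff (by omega : m ≠ 0)).mp (hXm ▸ isUnit_one)
  have hru : ∀ u, r u * r u⁻¹ = 1 := fun u => by rw [← map_mul, mul_inv_cancel, map_one]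
  have hr0 : ∀ u, r u ≠ 0 := fun u h => by
    have := hru u
    rw [h, zero_mul] at this
    exact zero_ne_one this
  have hsc : ∀ {c d : K}, c • (1 : Module.End K W) = d • 1 → c = d := fun {c d} h =>
    smul_left_injective K (one_ne_zero (α := Module.End K W)) h
  -- averaging over conjugates
  have havg : ∀ g, g ∉ scal r → ∑ u, r (u * g * u⁻¹) = 0 := by
    intro g hg
    choose β hβ using fun u => hcomm u g
    have hconj : ∀ u, r (u * g * u⁻¹) = β u • r g := by
      intro u
      rw [show u * g * u⁻¹ = ⁅u, g⁆ * g by simp [commutatorElement_def], map_mul, hβ,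
        smul_one_mul]
    let f : Q →* K :=
      { toFun := β
        map_one' := hsc (by rw [← hβ, commutatorElement_one_left, map_one, one_smul])
        map_mul' := fun u w => by
          refine smul_left_injective K (hr0 g) ?_
          show β (u * w) • r g = (β u * β w) • r g
          rw [← hconj, show u * w * g * (u * w)⁻¹ = u * (w * g * w⁻¹) * u⁻¹ by group, map_mul,
            map_mul, hconj, mul_smul_comm, smul_mul_assoc, ← map_mul, ← map_mul, hconj, smul_smul,
            mul_comm] }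
    have hf : f ≠ 1 := by
      intro h
      obtain ⟨u, hu⟩ := hnd g hg
      refine hu ?_
      rw [hβ, show β u = 1 from DFunLike.congr_fun h u, one_smul]
    rw [Finset.sum_congr rfl fun u _ => hconj u, ← Finset.sum_smul]
    have := sum_hom_units_eq_zero f hf
    rw [show ∑ u, β u = ∑ u, f u from rfl, this, zero_smul]
  have havg' : ∀ g, g ∈ scal r → ∑ u, r (u * g * u⁻¹) = Fintype.card Q • r g := by
    intro g hg
    rw [Finset.sum_congr rfl fun u _ => r_conj_of_scal r hg, Finset.sum_const, Finset.card_univ]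
  -- the intertwiners
  let Y : ℕ → Module.End K W := fun k => ∑ u, r (u * (α ^ k) u⁻¹)
  let S : ℕ → Module.End K W := fun k => Y k * X ^ k
  have hS : ∀ k, S k = ∑ u, r u * X ^ k * r u⁻¹ := by
    intro k
    simp only [S, Y, Finset.sum_mul]
    refine Finset.sum_congr rfl fun u _ => ?_
    rw [mul_assoc, pow_intertwine r hint, ← mul_assoc, ← map_mul]
  have hSQ : ∀ k v, r v * S k = S k * r v := by
    intro k v
    rw [hS, Finset.mul_sum, Finset.sum_mul]
    refine Eq.trans (Finset.sum_congr rfl fun u _ => ?_)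
      (Equiv.sum_comp (Equiv.mulLeft v) fun u => r u * X ^ k * r u⁻¹ * r v)
    rw [Equiv.coe_mulLeft, mul_inv_rev, map_mul, map_mul]
    simp only [mul_assoc]
    rw [← map_mul r v⁻¹ v, inv_mul_cancel, map_one, mul_one]
  have hSX : ∀ k, X * S k = S k * X := by
    intro k
    rw [hS, Finset.mul_sum, Finset.sum_mul]
    refine Eq.trans (Finset.sum_congr rfl fun u _ => ?_)
      (Equiv.sum_comp α.toEquiv fun u => r u * X ^ k * r u⁻¹ * X)
    show X * (r u * X ^ k * r u⁻¹) = r (α u) * X ^ k * r (α u)⁻¹ * X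
    rw [← map_inv, ← mul_assoc, ← mul_assoc, hint]
    simp only [mul_assoc]
    rw [← hint, ← mul_assoc X, ← pow_succ', pow_succ, mul_assoc]
  have hSS : S 1 * S (m - 1) =
      (Fintype.card Q * (Finset.univ.filter fun t => t ∈ scal r).card : ℕ) •
        (1 : Module.End K W) := by
    rw [hS, hS, Finset.sum_mul]
    simp only [Finset.mul_sum]
    have h1 : ∀ u, ∑ w, r u * X ^ 1 * r u⁻¹ * (r w * X ^ (m - 1) * r w⁻¹) =
        ∑ t, r (u * ((α ^ 1) t * t⁻¹) * u⁻¹) := by
      intro u
      refine Eq.trans ((Equiv.sum_comp (Equiv.mulLeft u) _).symm) ?_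
      refine Finset.sum_congr rfl fun t _ => ?_
      rw [Equiv.coe_mulLeft, mul_inv_rev, map_mul, map_mul]
      calc r u * X ^ 1 * r u⁻¹ * (r u * r t * X ^ (m - 1) * (r t⁻¹ * r u⁻¹))
          = r u * (X ^ 1 * (r u⁻¹ * r u) * r t) * X ^ (m - 1) * (r t⁻¹ * r u⁻¹) := by
            simp only [mul_assoc]
        _ = r u * r ((α ^ 1) t) * (X ^ 1 * X ^ (m - 1)) * (r t⁻¹ * r u⁻¹) := by
            rw [← map_mul r u⁻¹ u, inv_mul_cancel, map_one, mul_one, pow_intertwine r hint]
            simp only [mul_assoc]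
        _ = _ := by
            rw [← pow_add, show 1 + (m - 1) = m by omega, hXm, mul_one, map_mul, map_mul, map_mul]
            simp only [mul_assoc]
    rw [Finset.sum_congr rfl fun u _ => h1 u, Finset.sum_comm,
      ← Finset.sum_filter_add_sum_filter_not Finset.univ fun t => t ∈ scal r]
    have hz : ∑ t ∈ Finset.univ.filter (fun t => t ∉ scal r),
        ∑ u, r (u * ((α ^ 1) t * t⁻¹) * u⁻¹) = 0 := by
      refine Finset.sum_eq_zero fun t ht => havg _ fun h => ?_
      exact (Finset.mem_filter.mp ht).2 (hfpf 1 one_pos (by omega) t h)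
    rw [hz, add_zero, mul_comm, mul_smul]
    rw [Finset.sum_congr rfl (g := fun _ => Fintype.card Q • (1 : Module.End K W)) ?_,
      Finset.sum_const]
    intro t ht
    obtain ⟨c, hc⟩ := (Finset.mem_filter.mp ht).2
    have hα : r (α t) = c • 1 := by
      refine hXu.mul_right_cancel ?_
      rw [← hint, hc, mul_smul_comm, mul_one, smul_one_mul]
    have hg : r ((α ^ 1) t * t⁻¹) = 1 := by
      rw [pow_one, map_mul, hα, ← hc, hru]
    rw [havg' _ ⟨1, by rw [hg, one_smul]⟩, hg]
  -- `S (m - 1)` is a non-zero scalar, so `X` lies in the span of `Q`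
  obtain ⟨s, hs⟩ : ∃ s : K, S (m - 1) = s • 1 := by
    obtain ⟨s, hs⟩ := Module.End.exists_eigenvalue (S (m - 1))
    refine ⟨s, ?_⟩
    have hinv : ∀ f : Module.End K W, f * S (m - 1) = S (m - 1) * f →
        ∀ w ∈ Module.End.eigenspace (S (m - 1)) s, f w ∈ Module.End.eigenspace (S (m - 1)) s := by
      intro f hf w hw
      rw [Module.End.mem_eigenspace_iff] at hw ⊢
      rw [← Module.End.mul_apply, ← hf, Module.End.mul_apply, hw, map_smul]
    rcases hirr _ (fun u => hinv _ (hSQ _ u)) (hinv _ (hSX _)) with h | h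
    · exact absurd h hs
    · refine LinearMap.ext fun w => ?_
      exact Module.End.mem_eigenspace_iff.mp (h ▸ Submodule.mem_top)
  have hs0 : s ≠ 0 := by
    intro h0
    rw [hs, h0, zero_smul, mul_zero, ← Nat.cast_smul_eq_nsmul K, eq_comm, smul_eq_zero] at hSS
    refine hSS.elim (fun h => ?_) one_ne_zero
    rw [Nat.cast_mul, mul_eq_zero] at h
    refine h.elim hcast fun h' => hcast ?_
    have hd : (Finset.univ.filter fun t => t ∈ scal r).card ∣ Fintype.card Q := by
      rw [← Fintype.card_subtype, ← Nat.card_eq_fintype_card, ← Nat.card_eq_fintype_card]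
      exact (scal r).card_subgroup_dvd_card
    obtain ⟨d, hd⟩ := hd
    rw [hd, Nat.cast_mul, h', zero_mul]
  have hXeq : X = s⁻¹ • Y (m - 1) := by
    have h1 : Y (m - 1) = s • X := by
      calc Y (m - 1) = Y (m - 1) * (X ^ (m - 1) * X) := by
            rw [← pow_succ, show m - 1 + 1 = m by omega, hXm, mul_one]
        _ = s • X := by rw [← mul_assoc]; show S (m - 1) * X = _; rw [hs, smul_one_mul]
    rw [h1, smul_smul, inv_mul_cancel₀ hs0, one_smul]
  -- basis indexed by `Q / scal`
  let bf : Q ⧸ scal r → Module.End K W := fun i => r i.out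
  have hout : ∀ u : Q, ∃ c : K, r u = c • bf (u : Q ⧸ scal r) := by
    intro u
    obtain ⟨⟨c, a, ha⟩, hc⟩ := QuotientGroup.mk_out_eq_mul (scal r) u
    refine ⟨a⁻¹, ?_⟩
    have h1 : bf (u : Q ⧸ scal r) = a • r u := by
      show r (u : Q ⧸ scal r).out = _
      rw [hc, map_mul, ha, mul_smul_comm, mul_one]
    have ha0 : a ≠ 0 := fun h => hr0 c (by rw [ha, h, zero_smul])
    rw [h1, smul_smul, inv_mul_cancel₀ ha0, one_smul]
  have hindep : LinearIndependent K bf := by
    rw [Fintype.linearIndependent_iff]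
    intro g hg j
    have h1 : ∑ i, g i • ∑ u, r (u * (i.out * (Quotient.out j)⁻¹) * u⁻¹) = 0 := by
      simp only [Finset.smul_sum]
      rw [Finset.sum_comm]
      refine Finset.sum_eq_zero fun u _ => ?_
      calc ∑ i, g i • r (u * (i.out * (Quotient.out j)⁻¹) * u⁻¹)
          = r u * (∑ i, g i • bf i) * (r (Quotient.out j)⁻¹ * r u⁻¹) := by
            rw [Finset.mul_sum, Finset.sum_mul]
            refine Finset.sum_congr rfl fun i _ => ?_
            simp only [bf, map_mul, mul_smul_comm, smul_mul_assoc, mul_assoc]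
        _ = 0 := by rw [hg, mul_zero, zero_mul]
    rw [Finset.sum_eq_single j] at h1
    · rw [mul_inv_cancel, havg' _ (scal r).one_mem, map_one, ← Nat.cast_smul_eq_nsmul K,
        smul_smul, smul_eq_zero] at h1
      exact (mul_eq_zero.mp (h1.resolve_right one_ne_zero)).resolve_right hcast
    · intro i _ hij
      rw [havg, smul_zero]
      intro hmem
      refine hij ?_
      rw [← QuotientGroup.out_eq' i, ← QuotientGroup.out_eq' j, ← div_eq_one, ← QuotientGroup.mk_div,
        QuotientGroup.eq_one_iff, div_eq_mul_inv]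
      exact hmem
    · exact fun h => absurd (Finset.mem_univ j) h
  have hspan : ⊤ ≤ Submodule.span K (Set.range bf) := by
    have hA : Algebra.adjoin K (Set.range r) = ⊤ := by
      refine adjoin_eq_top_of_irreducible _ fun U hU => hirr U (fun u w hw => hU _ ⟨u, rfl⟩ w hw) ?_
      intro w hw
      rw [hXeq, LinearMap.smul_apply, LinearMap.sum_apply]
      exact U.smul_mem _ (U.sum_mem fun u _ => hU _ ⟨_, rfl⟩ w hw)
    rw [← Algebra.top_toSubmodule, ← hA, Algebra.adjoin_eq_span, Submodule.span_le]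
    have hcl : Submonoid.closure (Set.range r) ≤ MonoidHom.mrange r :=
      Submonoid.closure_le.mpr (Set.range_subset_iff.mpr fun u => ⟨u, rfl⟩)
    intro f hf
    obtain ⟨u, rfl⟩ := hcl hf
    obtain ⟨c, hc⟩ := hout u
    rw [SetLike.mem_coe, hc]
    exact Submodule.smul_mem _ _ (Submodule.subset_span ⟨_, rfl⟩)
  let b := Basis.mk hindep hspan
  have hα : (scal r).map α.toMonoidHom = scal r := by
    refine Subgroup.eq_of_le_of_card_ge ?_ (le_of_eq ?_)
    · rintro _ ⟨t, ⟨c, hc⟩, rfl⟩
      refine ⟨c, hXu.mul_right_cancel ?_⟩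
      show r (α t) * X = _
      rw [← hint, hc, mul_smul_comm, mul_one, smul_one_mul]
    · exact (Subgroup.card_map_of_injective (f := α.toMonoidHom) α.injective).symm
  let π : Equiv.Perm (Q ⧸ scal r) := (QuotientGroup.congr _ _ α hα).toEquiv
  have hπk : ∀ k (u : Q), (π ^ k) (u : Q ⧸ scal r) = (((α ^ k) u : Q) : Q ⧸ scal r) := by
    intro k
    induction k with
    | zero => intro u; rfl
    | succ k ih =>
      intro u
      rw [pow_succ, pow_succ, Equiv.Perm.mul_apply, MulAut.mul_apply]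
      exact ih (α u)
  suffices hres : ∃ (c : K) (g : Module.End K W),
      f = c • b ((1 : Q) : Q ⧸ scal r) + ∑ k ∈ Finset.range m, X ^ k * g * X ^ (m - k) by
    obtain ⟨c, g, hcg⟩ := hres
    obtain ⟨d, hd⟩ : ((1 : Q) : Q ⧸ scal r).out ∈ scal r :=
      (QuotientGroup.eq_one_iff _).mp (QuotientGroup.out_eq' _)
    refine ⟨c * d, g, hcg.trans ?_⟩
    rw [Basis.mk_apply]
    show c • r (((1 : Q) : Q ⧸ scal r).out) + _ = _
    rw [hd, smul_smul]
  refine fixed_decomp ((1 : Q) : Q ⧸ scal r) b X m hm hXm π ?_ ?_ ?_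
    (fun i => (hout (α i.out)).choose) ?_ hf
  · refine Equiv.ext fun i => ?_
    obtain ⟨u, rfl⟩ := QuotientGroup.mk_surjective i
    rw [hπk, hαm]
    rfl
  · have := hπk 1 1
    rwa [pow_one, pow_one, map_one] at this
  · intro i hi k hk0 hkm h
    obtain ⟨u, rfl⟩ := QuotientGroup.mk_surjective i
    rw [hπk, ← div_eq_one, ← QuotientGroup.mk_div, QuotientGroup.eq_one_iff, div_eq_mul_inv] at h
    exact hi ((QuotientGroup.eq_one_iff u).mpr (hfpf k hk0 hkm u h))
  · intro i
    have hπi : π i = ((α i.out : Q) : Q ⧸ scal r) := by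
      have := hπk 1 i.out
      rwa [pow_one, pow_one, QuotientGroup.out_eq'] at this
    rw [Basis.mk_apply, Basis.mk_apply, hπi]
    show X * r i.out = _
    rw [hint]
    exact (congrArg (fun f => f * X) (hout (α i.out)).choose_spec).trans (smul_mul_assoc _ _ _)

end core

section degree

variable {K : Type*} [Field K] {p : ℕ} [Fact p.Prime] [CharP K p]

open Polynomial in
theorem geom_eq_pow (e : ℕ) :
    ∑ i ∈ Finset.range (p ^ e), (Polynomial.X : K[X]) ^ i = (Polynomial.X - 1) ^ (p ^ e - 1) := by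
  have hne : (Polynomial.X - 1 : K[X]) ≠ 0 := by simpa using Polynomial.X_sub_C_ne_zero (1 : K)
  have hm : 0 < p ^ e := pow_pos (Fact.out : p.Prime).pos e
  refine mul_right_cancel₀ hne ?_
  rw [geom_sum_mul, ← pow_succ, Nat.sub_add_cancel hm, sub_pow_char_pow, one_pow]

open Polynomial in
theorem mul_smul_geom (n : ℕ) :
    ((Polynomial.X : K[X]) - 1) * ∑ i ∈ Finset.range n, (i : K[X]) * Polynomial.X ^ i =
      (n : K[X]) * Polynomial.X ^ n - Polynomial.X * ∑ i ∈ Finset.range n, Polynomial.X ^ i := by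
  induction n with
  | zero => simp
  | succ n ih =>
    rw [Finset.sum_range_succ, Finset.sum_range_succ, mul_add, ih, Nat.cast_succ]
    ring

open Polynomial in
theorem smul_geom_eq {e : ℕ} (he : 1 ≤ e) :
    ∑ i ∈ Finset.range (p ^ e), (i : K[X]) * Polynomial.X ^ i =
      - (Polynomial.X * (Polynomial.X - 1) ^ (p ^ e - 2)) := by
  have hne : (Polynomial.X - 1 : K[X]) ≠ 0 := by simpa using Polynomial.X_sub_C_ne_zero (1 : K)
  have hm : 2 ≤ p ^ e := (Fact.out : p.Prime).two_le.trans (Nat.le_self_pow (by omega) p)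
  have h0 : ((p ^ e : ℕ) : K[X]) = 0 := by
    rw [Nat.cast_pow, CharP.cast_eq_zero, zero_pow (by omega)]
  refine mul_left_cancel₀ hne ?_
  rw [mul_smul_geom, h0, geom_eq_pow, show p ^ e - 1 = p ^ e - 2 + 1 by omega, pow_succ]
  ring

variable {W : Type*} [AddCommGroup W] [Module K W] {X : Module.End K W}

theorem pow_eq_zero_of_pow_eq_one {e : ℕ} (h : X ^ p ^ e = 1) : (X - 1) ^ p ^ e = 0 := by
  have := congrArg (Polynomial.aeval X)
    (sub_pow_char_pow (Polynomial.X : Polynomial K) (1 : Polynomial K) e (p := p))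
  simpa [h] using this

theorem sum_pow_eq (e : ℕ) : ∑ i ∈ Finset.range (p ^ e), X ^ i = (X - 1) ^ (p ^ e - 1) := by
  have := congrArg (Polynomial.aeval X) (geom_eq_pow (K := K) (p := p) e)
  simpa using this

/-- The degree is at least `p ^ e - 1` when every element commuting with `X` is a scalar plus a sum
over the powers of `X`. -/
theorem not_pow_eq_zero [Nontrivial W] {e : ℕ} (he : 1 ≤ e) (hX1 : X ≠ 1)
    (hdec : ∀ f : Module.End K W, f * X = X * f →
      ∃ (c : K) (g : Module.End K W),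
        f = c • 1 + ∑ k ∈ Finset.range (p ^ e), X ^ k * g * X ^ (p ^ e - k)) :
    (X - 1) ^ (p ^ e - 2) ≠ 0 := by
  intro hY
  set m := p ^ e with hmdef
  have hm : 2 ≤ m := (Fact.out : p.Prime).two_le.trans (Nat.le_self_pow (by omega) p)
  set Y := X - 1 with hYdef
  have hN : ∑ i ∈ Finset.range m, X ^ i = 0 := by
    rw [hmdef, sum_pow_eq, show p ^ e - 1 = m - 2 + 1 by omega, pow_succ, hY, zero_mul]
  obtain ⟨c, g, hcg⟩ := hdec Y (by rw [hYdef, sub_mul, mul_sub, one_mul, mul_one])
  have hH : ∀ k : ℕ, ∃ H : Module.End K W, X ^ k = 1 + k • Y + Y * Y * H := by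
    intro k
    induction k with
    | zero => exact ⟨0, by simp⟩
    | succ k ih =>
      obtain ⟨H, hH⟩ := ih
      refine ⟨k • 1 + H + Y * H, ?_⟩
      have hcH : Y * (Y * Y * H) = Y * Y * (Y * H) := by simp only [mul_assoc]
      have hX' : X = 1 + Y := by rw [hYdef, add_sub_cancel]
      rw [pow_succ', hH]
      nth_rw 1 [hX']
      simp only [add_mul, mul_add, one_mul, mul_one, hcH, mul_smul_comm, smul_add,
        succ_nsmul]
      abel
  choose H hH using hH
  have hR : ∀ (F : ℕ → Module.End K W), (∀ i, Commute X (F i)) →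
      ∑ i ∈ Finset.range m, F i * X ^ (m - i) =
        X * ∑ i ∈ Finset.range m, F (m - 1 - i) * X ^ i := by
    intro F hF
    rw [Finset.mul_sum, ← Finset.sum_range_reflect]
    refine Finset.sum_congr rfl fun i hi => ?_
    have hi := Finset.mem_range.mp hi
    rw [show m - (m - 1 - i) = i + 1 by omega, pow_succ', ← mul_assoc, ← mul_assoc, (hF _).eq]
  have hS : ∑ i ∈ Finset.range m, (i : Module.End K W) * X ^ i = 0 := by
    have := congrArg (Polynomial.aeval X) (smul_geom_eq (K := K) (p := p) he)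
    simp only [map_sum, map_mul, map_natCast, map_pow, map_neg, map_sub, map_one,
      Polynomial.aeval_X] at this
    rw [hmdef, this, ← hmdef, ← hYdef, hY, mul_zero, neg_zero]
  have hA : ∑ i ∈ Finset.range m, X ^ (m - i) = 0 := by
    have := hR (fun _ => 1) fun i => Commute.one_right X
    simp only [one_mul] at this
    rw [this, hN, mul_zero]
  have hB : ∑ i ∈ Finset.range m, (i : Module.End K W) * X ^ (m - i) = 0 := by
    have h1 : ∑ i ∈ Finset.range m, (i : Module.End K W) * X ^ (m - i) +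
        ∑ i ∈ Finset.range m, ((m - i : ℕ) : Module.End K W) * X ^ (m - i) = 0 := by
      rw [← Finset.sum_add_distrib]
      rw [Finset.sum_congr rfl (g := fun i => (m : Module.End K W) * X ^ (m - i)) fun i hi => by
        rw [← add_mul, ← Nat.cast_add, Nat.add_sub_cancel' (Finset.mem_range.mp hi).le],
        ← Finset.mul_sum, hA, mul_zero]
    have h2 : ∑ i ∈ Finset.range m, ((m - i : ℕ) : Module.End K W) * X ^ (m - i) = 0 := by
      rw [hR (fun i => ((m - i : ℕ) : Module.End K W)) fun i => (Nat.cast_commute (m - i) X).symm]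
      rw [Finset.sum_congr rfl (g := fun i : ℕ => (i : Module.End K W) * X ^ i + X ^ i) fun i hi => by
        rw [show m - (m - 1 - i) = i + 1 by have := Finset.mem_range.mp hi; omega, Nat.cast_succ,
          add_mul, one_mul], Finset.sum_add_distrib, hS, hN, add_zero, mul_zero]
    rwa [h2, add_zero] at h1
  obtain ⟨Z, hZ⟩ : ∃ Z, ∑ k ∈ Finset.range m, X ^ k * g * X ^ (m - k) = Y * Y * Z := by
    refine ⟨∑ k ∈ Finset.range m, H k * g * X ^ (m - k), ?_⟩
    have h1 : ∑ k ∈ Finset.range m, X ^ k * g * X ^ (m - k) =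
        g * ∑ k ∈ Finset.range m, X ^ (m - k) +
          Y * g * ∑ k ∈ Finset.range m, (k : Module.End K W) * X ^ (m - k) +
          Y * Y * ∑ k ∈ Finset.range m, H k * g * X ^ (m - k) := by
      simp only [Finset.mul_sum, ← Finset.sum_add_distrib]
      refine Finset.sum_congr rfl fun k _ => ?_
      rw [hH k]
      simp only [add_mul, one_mul, nsmul_eq_mul, mul_assoc]
      congr 2
      rw [← mul_assoc, (Nat.cast_commute k Y).eq, mul_assoc, ← mul_assoc (k : Module.End K W),
        (Nat.cast_commute k g).eq]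
      simp only [mul_assoc]
    rw [h1, hA, hB, mul_zero, mul_zero, zero_add, zero_add]
  rw [hZ] at hcg
  -- the scalar vanishes
  have hnil : Y ^ m = 0 := by
    rw [show m = m - 2 + 2 by omega, pow_add, hY, zero_mul]
  have hc : c = 0 := by
    by_contra hc
    have h1 : Y * (1 - Y * Z) = c • 1 := by
      rw [mul_sub, mul_one, ← mul_assoc, sub_eq_iff_eq_add]
      exact hcg
    have h2 : (Y ^ (m - 1) * Y) * (1 - Y * Z) = c • Y ^ (m - 1) := by
      rw [mul_assoc, h1, mul_smul_comm, mul_one]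
    rw [← pow_succ, Nat.sub_add_cancel (by omega : 1 ≤ m), hnil, zero_mul, eq_comm, smul_eq_zero]
      at h2
    have h3 := h2.resolve_left hc
    -- descend to `Y ^ 0`
    have : ∀ k, k ≤ m - 1 → Y ^ (m - 1 - k) = 0 := by
      intro k
      induction k with
      | zero => exact fun _ => h3
      | succ k ihk =>
        intro hk
        have h4 : (Y ^ (m - 1 - (k + 1)) * Y) * (1 - Y * Z) = c • Y ^ (m - 1 - (k + 1)) := by
          rw [mul_assoc, h1, mul_smul_comm, mul_one]
        rw [← pow_succ, show m - 1 - (k + 1) + 1 = m - 1 - k by omega, ihk (by omega), zero_mul,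
          eq_comm, smul_eq_zero] at h4
        exact h4.resolve_left hc
    have := this (m - 1) le_rfl
    rw [Nat.sub_self, pow_zero] at this
    exact one_ne_zero this
  rw [hc, zero_smul, zero_add] at hcg
  have hY0 : ∀ k, k ≤ m - 1 → Y ^ (m - k) = 0 := by
    intro k
    induction k with
    | zero => exact fun _ => by simpa using hnil
    | succ k ihk =>
      intro hk
      have h0 := ihk (by omega)
      calc Y ^ (m - (k + 1)) = Y ^ (m - (k + 2)) * Y := by
            rw [← pow_succ, show m - (k + 2) + 1 = m - (k + 1) by omega]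
        _ = Y ^ (m - (k + 2)) * (Y * Y * Z) := by rw [← hcg]
        _ = (Y ^ (m - (k + 2)) * (Y * Y)) * Z := by rw [← mul_assoc]
        _ = 0 := by
            rw [← pow_two, ← pow_add, show m - (k + 2) + 2 = m - k by omega, h0, zero_mul]
  have := hY0 (m - 1) le_rfl
  rw [show m - (m - 1) = 1 by omega, pow_one] at this
  exact hX1 (sub_eq_zero.mp this)

end degree

section main

variable {K G W : Type*} [Field K] [Group G] [Finite G] [AddCommGroup W] [Module K W]
variable {p q e : ℕ} {ρ : Representation K G W} {x : G} {Q : Subgroup G}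

/-- The scalar case. -/
theorem scalar_case [IsAlgClosed K] [FiniteDimensional K W] [Fact p.Prime] [CharP K p]
    (h : HHData p q e ρ x Q) (hfaith : Function.Injective ρ)
    (hirr : ∀ U : Submodule K W, (∀ u ∈ Q, ∀ w ∈ U, ρ u w ∈ U) → (∀ w ∈ U, ρ x w ∈ U) →
      U = ⊥ ∨ U = ⊤)
    (hscal : ∀ a ∈ ctr Q, ∃ c : K, ρ a = c • 1) {r₀ : ℕ} (hr₀ : (ρ x - 1) ^ r₀ = 0) :
    ∃ j, 0 < j ∧ p ^ e - 1 = q ^ j ∧ p ^ e - 1 ≤ r₀ := by
  have hqf := Fact.mk h.hq
  have : Nontrivial W := by
    obtain ⟨u, _, hu⟩ := h.hnt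
    rcases subsingleton_or_nontrivial W with hs | hs
    · exact absurd (Subsingleton.elim _ _) hu
    · exact hs
  let r : Q →* Module.End K W := ρ.comp Q.subtype
  let α : MulAut Q := Subgroup.normalizerMonoidHom Q ⟨x, h.hxQ⟩
  have hαk : ∀ (k : ℕ) (u : Q), (((α ^ k) u : Q) : G) = x ^ k * u * (x ^ k)⁻¹ := by
    intro k u
    rw [← map_pow]
    rfl
  have hmemA : ∀ u : Q, u ∈ scal r → (u : G) ∈ ctr Q := by
    rintro u ⟨c, hc⟩
    refine ⟨u.2, Subgroup.mem_centralizer_iff.mpr fun y _ => hfaith ?_⟩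
    change ρ (u : G) = c • 1 at hc
    rw [map_mul, map_mul, hc, mul_smul_comm, mul_one, smul_one_mul]
  have h2m : 2 ≤ p ^ e := h.hp.two_le.trans (Nat.le_self_pow (by have := h.he; omega) p)
  obtain ⟨h1, h2, -⟩ := core r (X := ρ x) (α := α) (p ^ e) h2m
    (by rw [← map_pow, h.hxe, map_one])
    (MulEquiv.ext fun u => Subtype.ext (by rw [hαk, h.hxe]; simp))
    (fun u => by
      show ρ x * ρ u = ρ (x * u * x⁻¹) * ρ x
      rw [← map_mul, ← map_mul, inv_mul_cancel_right])
    (h.card_ne_zero le_rfl) (fun U h1 h2 => hirr U (fun u hu => h1 ⟨u, hu⟩) h2)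
    (fun u w => hscal _ (h.comm_le_ctr (Subgroup.commutator_mem_commutator u.2 w.2)))
    (fun u hu => by
      by_contra hall
      push Not at hall
      refine hu (hscal _ ⟨u.2, Subgroup.mem_centralizer_iff.mpr fun y hy => ?_⟩)
      exact commutatorElement_eq_one_iff_mul_comm.mp
        (hfaith ((hall ⟨y, hy⟩).trans (map_one ρ).symm)))
    (fun k hk0 hk u hu => by
      refine hscal _ (h.mem_ctr_of_fixed hfaith u.2 ?_)
      have h1 := hmemA _ hu
      rw [Subgroup.coe_mul, Subgroup.coe_inv, hαk] at h1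
      obtain ⟨l, hl⟩ := exists_pow_eq_top_power h.hp h.hxe hk0 hk
      rw [← hl]
      clear hl
      induction l with
      | zero => simp
      | succ l ihl =>
        have h2 : (x ^ k) ^ (l + 1) * u * ((x ^ k) ^ (l + 1))⁻¹ * (u : G)⁻¹ =
            (x ^ k) * ((x ^ k) ^ l * u * ((x ^ k) ^ l)⁻¹ * (u : G)⁻¹) *
              (x ^ k)⁻¹ * (x ^ k * u * (x ^ k)⁻¹ * (u : G)⁻¹) := by
          rw [pow_succ']; group
        show (x ^ k) ^ (l + 1) * (u : G) * ((x ^ k) ^ (l + 1))⁻¹ * (u : G)⁻¹ ∈ ctr Q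
        rw [h2]
        exact (ctr Q).mul_mem
          (Cfsg.Agent.CoprimeAction.conj_mem (pow_mem h.x_mem_normalizer_ctr k) ihl) h1)
    h.hN
  have hX1 : ρ x ≠ 1 := by
    intro hx1
    obtain ⟨u, hu, hu1⟩ := h.hnt
    have hx' : x = 1 := hfaith (hx1.trans (map_one ρ).symm)
    have hQ1 : Q = ⊥ := by
      rw [← h.hgen, hx', one_pow, Subgroup.zpowers_one_eq_bot, Subgroup.commutator_bot_right]
    rw [hQ1, Subgroup.mem_bot] at hu
    exact hu1 (by rw [hu, map_one])
  have hdeg := not_pow_eq_zero h.he hX1 fun f hf =>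
    core_comm r (X := ρ x) (α := α) (p ^ e) h2m
    (by rw [← map_pow, h.hxe, map_one])
    (MulEquiv.ext fun u => Subtype.ext (by rw [hαk, h.hxe]; simp))
    (fun u => by
      show ρ x * ρ u = ρ (x * u * x⁻¹) * ρ x
      rw [← map_mul, ← map_mul, inv_mul_cancel_right])
    (h.card_ne_zero le_rfl) (fun U h1 h2 => hirr U (fun u hu => h1 ⟨u, hu⟩) h2)
    (fun u w => hscal _ (h.comm_le_ctr (Subgroup.commutator_mem_commutator u.2 w.2)))
    (fun u hu => by
      by_contra hall
      push Not at hall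
      refine hu (hscal _ ⟨u.2, Subgroup.mem_centralizer_iff.mpr fun y hy => ?_⟩)
      exact commutatorElement_eq_one_iff_mul_comm.mp
        (hfaith ((hall ⟨y, hy⟩).trans (map_one ρ).symm)))
    (fun k hk0 hk u hu => by
      refine hscal _ (h.mem_ctr_of_fixed hfaith u.2 ?_)
      have h1 := hmemA _ hu
      rw [Subgroup.coe_mul, Subgroup.coe_inv, hαk] at h1
      obtain ⟨l, hl⟩ := exists_pow_eq_top_power h.hp h.hxe hk0 hk
      rw [← hl]
      clear hl
      induction l with
      | zero => simp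
      | succ l ihl =>
        have h2 : (x ^ k) ^ (l + 1) * u * ((x ^ k) ^ (l + 1))⁻¹ * (u : G)⁻¹ =
            (x ^ k) * ((x ^ k) ^ l * u * ((x ^ k) ^ l)⁻¹ * (u : G)⁻¹) *
              (x ^ k)⁻¹ * (x ^ k * u * (x ^ k)⁻¹ * (u : G)⁻¹) := by
          rw [pow_succ']; group
        show (x ^ k) ^ (l + 1) * (u : G) * ((x ^ k) ^ (l + 1))⁻¹ * (u : G)⁻¹ ∈ ctr Q
        rw [h2]
        exact (ctr Q).mul_mem
          (Cfsg.Agent.CoprimeAction.conj_mem (pow_mem h.x_mem_normalizer_ctr k) ihl) h1)
    hf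
  have hD : finrank K W = p ^ e - 1 := by
    have hnil : IsNilpotent (ρ x - 1) := ⟨_, hr₀⟩
    have hY : (ρ x - 1) ^ finrank K W = 0 := by
      have := LinearMap.aeval_self_charpoly (ρ x - 1)
      rwa [IsNilpotent.charpoly_eq_X_pow_finrank hnil, map_pow, Polynomial.aeval_X] at this
    by_contra hne
    exact hdeg (pow_eq_zero_of_le (by omega) hY)
  have hr1 : p ^ e - 1 ≤ r₀ := by
    by_contra hlt
    exact hdeg (pow_eq_zero_of_le (by omega) hr₀)
  obtain ⟨k, hk⟩ := IsPGroup.iff_card.mp h.hQ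
  obtain ⟨i, -, hij⟩ := (Nat.dvd_prime_pow h.hq).mp (hk ▸ (scal r).index_dvd_card)
  obtain ⟨j, -, hDj⟩ := (Nat.dvd_prime_pow h.hq).mp
    ((dvd_pow_self (finrank K W) two_ne_zero).trans ((h1.symm.trans hij).dvd))
  refine ⟨j, Nat.pos_of_ne_zero fun hj0 => h.not_comm hfaith ?_, hD.symm.trans hDj, hr1⟩
  rw [hj0, pow_zero] at hDj
  rw [hDj, one_pow, Subgroup.index_eq_one] at h1
  exact ⟨⟨fun a b => Subtype.ext
    (Subgroup.mem_centralizer_iff.mp (hmemA b (h1 ▸ Subgroup.mem_top b)).2 _ a.2)⟩⟩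


/-- Descent to an eigenspace of a non-scalar central element, with the degree inequality. -/
theorem exists_descent' [IsAlgClosed K] [FiniteDimensional K W] [Fact p.Prime] [CharP K p]
    (h : HHData p q e ρ x Q) (hfaith : Function.Injective ρ)
    (hirr : ∀ U : Submodule K W, (∀ u ∈ Q, ∀ w ∈ U, ρ u w ∈ U) → (∀ w ∈ U, ρ x w ∈ U) →
      U = ⊥ ∨ U = ⊤)
    {a0 : G} (ha0A : a0 ∈ ctr Q) (ha0 : ∀ c : K, ρ a0 ≠ c • 1) {r₀ : ℕ}
    (hr₀ : (ρ x - 1) ^ r₀ = 0) :
    ∃ (U : Submodule K W) (f : ℕ), U ≠ ⊤ ∧ f < e ∧ (∀ u ∈ Q, ∀ w ∈ U, ρ u w ∈ U) ∧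
      (∀ w ∈ U, ρ (x ^ p ^ f) w ∈ U) ∧ (∃ u ∈ Q, ∃ w ∈ U, ρ u w ≠ w) ∧
      ∀ w ∈ U, ((ρ (x ^ p ^ f) - 1) ^ (r₀ / p ^ f)) w = 0 := by
  classical
  obtain ⟨U, f₁, hUtop, hf₁, hUQ, -, hUnt, -, l, -, hmemW, hinv⟩ :=
    h.exists_descent hfaith hirr ha0A ha0
  let A : Subgroup G := ctr Q
  have hAn := h.x_mem_normalizer_ctr
  let cA : ℕ → ↥A → ↥A := fun k a =>
    ⟨x ^ k * a * (x ^ k)⁻¹, Cfsg.Agent.CoprimeAction.conj_mem (pow_mem hAn k) a.2⟩
  let P : ℕ → Prop := fun f => ∀ a : ↥A, l (cA (p ^ f) a) = l a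
  have hP : ∃ f, P f := ⟨f₁, fun a => hinv a (cA (p ^ f₁) a) rfl⟩
  set f := Nat.find hP with hfdef
  have hPf : P f := Nat.find_spec hP
  have hfe : f < e := lt_of_le_of_lt (Nat.find_min' hP fun a => hinv a (cA (p ^ f₁) a) rfl) hf₁
  have hpf : 0 < p ^ f := pow_pos h.hp.pos f
  set x' := x ^ p ^ f with hx'
  have hUx : ∀ w ∈ U, ρ x' w ∈ U := by
    intro w hw
    rw [hmemW] at hw ⊢
    intro a
    let b : ↥A := ⟨x'⁻¹ * a * x', Cfsg.Agent.CoprimeAction.conj_mem' (pow_mem hAn _) a.2⟩
    have hab : cA (p ^ f) b = a := Subtype.ext (show x' * (x'⁻¹ * a * x') * x'⁻¹ = a by group)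
    have h1 : (a : G) * x' = x' * b := by show (a : G) * x' = x' * (x'⁻¹ * a * x'); group
    rw [← Module.End.mul_apply, ← map_mul, h1, map_mul, Module.End.mul_apply, hw, map_smul,
      ← hPf b, hab]
  refine ⟨U, f, hUtop, hfe, hUQ, hUx, hUnt, ?_⟩
  -- powers of `x` below `p ^ f` move `l`
  have hmove : ∀ i, 0 < i → i < p ^ f → ∃ a : ↥A, l (cA i a) ≠ l a := by
    intro i hi0 hif
    by_contra hall
    push Not at hall
    obtain ⟨v, u, hu, rfl⟩ := Nat.exists_eq_pow_mul_and_not_dvd hi0.ne' p h.hp.ne_one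
    have hvf : v < f := by
      refine (Nat.pow_lt_pow_iff_right h.hp.one_lt).1 (lt_of_le_of_lt ?_ hif)
      exact Nat.le_mul_of_pos_right _ (Nat.pos_of_ne_zero fun h0 => hu (h0 ▸ dvd_zero p))
    refine Nat.find_min hP hvf ?_
    have hiter : ∀ s : ℕ, ∀ a : ↥A, l (cA (p ^ v * u * s) a) = l a := by
      intro s
      induction s with
      | zero => intro a; exact congrArg l (Subtype.ext (by simp [cA]))
      | succ s ih =>
        intro a
        have e1 : cA (p ^ v * u * (s + 1)) a = cA (p ^ v * u * s) (cA (p ^ v * u) a) :=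
          Subtype.ext (by
            show x ^ (p ^ v * u * (s + 1)) * (a : G) * (x ^ (p ^ v * u * (s + 1)))⁻¹ =
              x ^ (p ^ v * u * s) * (x ^ (p ^ v * u) * a * (x ^ (p ^ v * u))⁻¹) *
                (x ^ (p ^ v * u * s))⁻¹
            rw [mul_add_one, pow_add]; group)
        rw [e1, ih, hall]
    have hcop : u.Coprime (orderOf (x ^ p ^ v)) := by
      have hd : orderOf (x ^ p ^ v) ∣ p ^ e :=
        orderOf_dvd_of_pow_eq_one (by rw [← pow_mul, mul_comm, pow_mul, h.hxe, one_pow])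
      exact (((h.hp.coprime_iff_not_dvd).2 hu).symm.pow_right e).coprime_dvd_right hd
    obtain ⟨s, hs⟩ := exists_pow_eq_self_of_coprime hcop
    intro a
    have e2 : cA (p ^ v) a = cA (p ^ v * u * s) a := Subtype.ext (by
      show x ^ p ^ v * (a : G) * (x ^ p ^ v)⁻¹ = x ^ (p ^ v * u * s) * a * (x ^ (p ^ v * u * s))⁻¹
      rw [pow_mul, pow_mul, hs])
    rw [e2, hiter]
  intro w hw
  have hwl := (hmemW w).mp hw
  have : Fintype A := Fintype.ofFinite A
  let T : Module.End K W := ∑ a : A, l a⁻¹ • ρ a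
  have hT : ∀ i, 0 < i → i < p ^ f → T (ρ (x ^ i) w) = 0 := by
    intro i hi0 hif
    obtain ⟨b, hb⟩ := hmove i hi0 hif
    set c := cA i b
    have h2 : ∑ a : A, l a⁻¹ • ρ a (ρ c (ρ (x ^ i) w)) = l c • T (ρ (x ^ i) w) := by
      simp only [T, LinearMap.sum_apply, LinearMap.smul_apply, Finset.smul_sum]
      refine Eq.trans (Finset.sum_congr rfl fun a _ => ?_)
        (Equiv.sum_comp (Equiv.mulRight c) fun a => l c • l a⁻¹ • ρ a (ρ (x ^ i) w))
      rw [Equiv.coe_mulRight, ← Module.End.mul_apply (ρ a), ← map_mul, smul_smul, ← map_mul]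
      congr 1
      rw [mul_inv_rev, mul_inv_cancel_left]
    have h3 : ρ c (ρ (x ^ i) w) = l b • ρ (x ^ i) w := by
      rw [← Module.End.mul_apply, ← map_mul, show (c : G) * x ^ i = x ^ i * b by
        show x ^ i * (b : G) * (x ^ i)⁻¹ * x ^ i = _; rw [inv_mul_cancel_right],
        map_mul, Module.End.mul_apply, hwl, map_smul]
    simp only [h3, map_smul] at h2
    have h4 : ∑ a : A, l a⁻¹ • l b • ρ a (ρ (x ^ i) w) = l b • T (ρ (x ^ i) w) := by
      simp only [T, LinearMap.sum_apply, LinearMap.smul_apply, Finset.smul_sum]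
      exact Finset.sum_congr rfl fun a _ => smul_comm _ _ _
    rw [h4, ← sub_eq_zero, ← sub_smul, smul_eq_zero, sub_eq_zero] at h2
    exact h2.resolve_left (Ne.symm hb)
  have hT0 : T w = Fintype.card A • w := by
    simp only [T, LinearMap.sum_apply, LinearMap.smul_apply]
    rw [Finset.sum_congr rfl (g := fun _ => w) fun a _ => by
      rw [hwl a, smul_smul, ← map_mul, inv_mul_cancel, map_one, one_smul],
      Finset.sum_const, Finset.card_univ]
  have hTX : Commute T (ρ x') := by
    simp only [T, Commute, SemiconjBy, Finset.sum_mul, Finset.mul_sum]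
    let φ : ↥A ≃ ↥A :=
      { toFun := cA (p ^ f)
        invFun := fun a => ⟨x'⁻¹ * a * x', Cfsg.Agent.CoprimeAction.conj_mem' (pow_mem hAn _) a.2⟩
        left_inv := fun a => Subtype.ext (show x'⁻¹ * (x' * a * x'⁻¹) * x' = a by group)
        right_inv := fun a => Subtype.ext (show x' * (x'⁻¹ * a * x') * x'⁻¹ = a by group) }
    refine (Equiv.sum_comp φ _).symm.trans (Finset.sum_congr rfl fun a _ => ?_)
    have hl : l (φ a)⁻¹ = l a⁻¹ := by
      rw [← hPf a⁻¹]
      exact congrArg l (Subtype.ext (show (x' * a * x'⁻¹)⁻¹ = x' * (a : G)⁻¹ * x'⁻¹ by group))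
    rw [hl, smul_mul_assoc, mul_smul_comm, ← map_mul, ← map_mul]
    congr 2
    show x' * (a : G) * x'⁻¹ * x' = x' * a
    rw [inv_mul_cancel_right]
  -- the identity of polynomials
  set k := r₀ / p ^ f with hk
  have hle : r₀ ≤ p ^ f * k + (p ^ f - 1) := by
    have h1 := Nat.div_add_mod r₀ (p ^ f)
    have h2 := Nat.mod_lt r₀ hpf
    rw [← hk] at h1
    omega
  have hid : (ρ x' - 1) ^ k * ∑ i ∈ Finset.range (p ^ f), ρ x ^ i = 0 := by
    rw [sum_pow_eq, hx', map_pow,
      show ρ x ^ p ^ f - 1 = (ρ x - 1) ^ p ^ f by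
        have := congrArg (Polynomial.aeval (ρ x))
          (sub_pow_char_pow (Polynomial.X : Polynomial K) (1 : Polynomial K) f (p := p))
        simpa using this.symm,
      ← pow_mul, ← pow_add]
    exact pow_eq_zero_of_le hle hr₀
  have h0 : ((ρ x' - 1) ^ k) (T (∑ i ∈ Finset.range (p ^ f), ρ (x ^ i) w)) = 0 := by
    rw [← Module.End.mul_apply, ← ((hTX.sub_right (Commute.one_right T)).pow_right k).eq,
      Module.End.mul_apply]
    have := LinearMap.congr_fun hid w
    simp only [Module.End.mul_apply, LinearMap.sum_apply, ← map_pow, LinearMap.zero_apply] at this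
    rw [this, map_zero]
  rw [map_sum, Finset.sum_eq_single 0 (fun i hi hi0 => hT i (Nat.pos_of_ne_zero hi0)
    (Finset.mem_range.mp hi)) (fun h' => absurd (Finset.mem_range.mpr hpf) h'), pow_zero, map_one,
    Module.End.one_apply, hT0, map_nsmul, ← Nat.cast_smul_eq_nsmul K, smul_eq_zero] at h0
  refine h0.resolve_left ?_
  rw [← Nat.card_eq_fintype_card]
  exact h.card_ne_zero inf_le_left

end main

/-- The conclusion of the sharp bound. -/
def Sharp (p q e r : ℕ) : Prop :=
  ∃ a j, 1 ≤ a ∧ a ≤ e ∧ 0 < j ∧ p ^ a - 1 = q ^ j ∧ p ^ (e - a) * (p ^ a - 1) ≤ r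

theorem sharp_aux {K : Type*} [Field K] [IsAlgClosed K] {p q : ℕ} [Fact p.Prime] [CharP K p]
    (n : ℕ) :
    ∀ (G : Type u) [Group G] [Finite G] (W : Type v) [AddCommGroup W] [Module K W]
      [FiniteDimensional K W] (ρ : Representation K G W) (x : G) (Q : Subgroup G) (e r : ℕ),
      finrank K W ≤ n → HHData p q e ρ x Q → r < p ^ e → (ρ x - 1) ^ r = 0 → Sharp p q e r := by
  induction n with
  | zero =>
    intro G _ _ W _ _ _ ρ x Q e r hn h
    obtain ⟨u, -, hu⟩ := h.hnt
    have : Subsingleton W := Module.finrank_zero_iff.mp (Nat.le_zero.mp hn)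
    exact absurd (Subsingleton.elim _ _) hu
  | succ n ih =>
    intro G _ _ W _ _ _ ρ x Q e r hn h hre hr
    have hqf := Fact.mk h.hq
    have hsum : ∀ {W' : Type v} [AddCommGroup W'] [Module K W'] {T : Module.End K W'} {e' r' : ℕ},
        r' < p ^ e' → (T - 1) ^ r' = 0 → ∑ k ∈ Finset.range (p ^ e'), T ^ k = 0 := by
      intro W' _ _ T e' r' h1 h2
      rw [sum_pow_eq]
      exact pow_eq_zero_of_le (by omega) h2
    by_cases hirr : ∀ U : Submodule K W, (∀ u ∈ Q, ∀ w ∈ U, ρ u w ∈ U) →
        (∀ w ∈ U, ρ x w ∈ U) → U = ⊥ ∨ U = ⊤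
    swap
    · push Not at hirr
      obtain ⟨U, hUQ, hUx, hU0, hU1⟩ := hirr
      set H := preserving ρ U
      let x' : H := ⟨x, hUx⟩
      have hx' : H.subtype x' = x ^ p ^ 0 := by rw [pow_zero, pow_one]; rfl
      have hQr : Q ≤ H.subtype.range := fun u hu => ⟨⟨u, hUQ u hu⟩, rfl⟩
      have hdim := U.finrank_quotient_add_finrank
      have hUpos : 0 < finrank K U := by
        rw [Nat.pos_iff_ne_zero]
        exact fun h0 => hU0 (Submodule.finrank_eq_zero.mp h0)
      have hUlt : finrank K U < finrank K W := Submodule.finrank_lt hU1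
      have hsub : ∀ k, ((subRep ρ U x' - 1) ^ k : Module.End K U) =
          ((ρ x - 1) ^ k).restrict (p := U) (q := U) (fun w hw => by
            induction k with
            | zero => simpa using hw
            | succ k ihk =>
              rw [pow_succ', Module.End.mul_apply]
              exact U.sub_mem (hUx _ ihk) ihk) := by
        intro k
        induction k with
        | zero => exact LinearMap.ext fun w => rfl
        | succ k ihk =>
          refine LinearMap.ext fun w => Subtype.ext ?_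
          rw [pow_succ', Module.End.mul_apply, ihk]
          show ρ x _ - _ = ((ρ x - 1) ^ (k + 1)) (w : W)
          rw [pow_succ', Module.End.mul_apply]
          rfl
      have hsubr : (subRep ρ U x' - 1) ^ r = 0 := by
        rw [hsub]
        refine LinearMap.ext fun w => Subtype.ext ?_
        show ((ρ x - 1) ^ r) (w : W) = 0
        rw [hr, LinearMap.zero_apply]
      have hquo : ∀ (k : ℕ) (w : W), ((quotRep ρ U x' - 1) ^ k) (Submodule.Quotient.mk w) =
          Submodule.Quotient.mk (((ρ x - 1) ^ k) w) := by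
        intro k
        induction k with
        | zero => intro w; rfl
        | succ k ihk =>
          intro w
          rw [pow_succ', Module.End.mul_apply, ihk, pow_succ', Module.End.mul_apply]
          rfl
      have hquor : (quotRep ρ U x' - 1) ^ r = 0 := by
        refine Submodule.linearMap_qext _ (LinearMap.ext fun w => ?_)
        show ((quotRep ρ U x' - 1) ^ r) (Submodule.Quotient.mk w) = 0
        rw [hquo, hr, LinearMap.zero_apply, Submodule.Quotient.mk_zero]
      by_cases hs : ∃ u : H, (u : G) ∈ Q ∧ subRep ρ U u ≠ 1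
      · exact ih H U (subRep ρ U) x' _ (e - 0) r (by omega)
          (h.pullback H.subtype_injective (subRep ρ U) h.he hx' hQr (hsum hre hsubr) hs) hre hsubr
      · by_cases hq' : ∃ u : H, (u : G) ∈ Q ∧ quotRep ρ U u ≠ 1
        · exact ih H (W ⧸ U) (quotRep ρ U) x' _ (e - 0) r (by omega)
            (h.pullback H.subtype_injective (quotRep ρ U) h.he hx' hQr (hsum hre hquor) hq') hre hquor
        · push Not at hs hq'
          obtain ⟨u, hu, hu1⟩ := h.hnt
          obtain ⟨j, hj⟩ := h.hQ ⟨u, hu⟩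
          have hj' : u ^ q ^ j = 1 := congrArg Subtype.val hj
          refine absurd (eq_one_of_unipotent (n := q ^ j) ?_ ?_ U ?_ ?_) hu1
          · rw [Nat.cast_pow]; exact pow_ne_zero _ h.hqK
          · rw [← map_pow, hj', map_one]
          · intro w hw
            exact congrArg Subtype.val (LinearMap.congr_fun (hs ⟨u, hUQ u hu⟩ hu) ⟨w, hw⟩)
          · intro w
            exact (Submodule.Quotient.eq U).mp
              (LinearMap.congr_fun (hq' ⟨u, hUQ u hu⟩ hu) (Submodule.Quotient.mk w))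
    let π := QuotientGroup.mk' ρ.ker
    have h' := h.map_mk
    have hfaith : Function.Injective (imageRep ρ) := imageRep_injective ρ
    have hr' : (imageRep ρ (π x) - 1) ^ r = 0 := by rw [imageRep_mk]; exact hr
    have hirr' : ∀ U : Submodule K W, (∀ u ∈ Q.map π, ∀ w ∈ U, imageRep ρ u w ∈ U) →
        (∀ w ∈ U, imageRep ρ (π x) w ∈ U) → U = ⊥ ∨ U = ⊤ :=
      fun U h1 h2 => hirr U (fun u hu => h1 (π u) ⟨u, hu, rfl⟩) h2
    by_cases hscal : ∀ a ∈ ctr (Q.map π), ∃ c : K, imageRep ρ a = c • 1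
    · obtain ⟨j, hj, hD, hle⟩ := scalar_case h' hfaith hirr' hscal hr'
      exact ⟨e, j, h.he, le_rfl, hj, hD, by rwa [Nat.sub_self, pow_zero, one_mul]⟩
    push Not at hscal
    obtain ⟨a0, ha0A, ha0⟩ := hscal
    obtain ⟨U, f, hUtop, hfe, hUQ, hUx, hUnt, hUk⟩ :=
      exists_descent' h' hfaith hirr' ha0A ha0 hr'
    set H := preserving (imageRep ρ) U
    let x' : H := ⟨π x ^ p ^ f, hUx⟩
    have hlt : finrank K U < finrank K W := Submodule.finrank_lt hUtop
    have hk : r / p ^ f < p ^ (e - f) := by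
      rw [Nat.div_lt_iff_lt_mul (pow_pos (Fact.out : p.Prime).pos f), ← pow_add,
        Nat.sub_add_cancel hfe.le]
      exact hre
    have hsubk : (subRep (imageRep ρ) U x' - 1) ^ (r / p ^ f) = 0 := by
      have key : ∀ (k : ℕ) (w : U), ((((subRep (imageRep ρ) U x' - 1) ^ k) w : U) : W) =
          ((imageRep ρ (π x ^ p ^ f) - 1) ^ k) (w : W) := by
        intro k
        induction k with
        | zero => intro w; rfl
        | succ k ihk =>
          intro w
          rw [pow_succ', Module.End.mul_apply, pow_succ', Module.End.mul_apply, ← ihk]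
          rfl
      refine LinearMap.ext fun w => Subtype.ext ?_
      rw [key, hUk (w : W) w.2]
      rfl
    obtain ⟨u, hu, w, hw, hne⟩ := hUnt
    obtain ⟨a, j, ha1, ha2, hj, hD, hle⟩ := ih H U (subRep _ U) x' _ (e - f) (r / p ^ f) (by omega)
      (h'.pullback H.subtype_injective (subRep _ U) hfe (x' := x') rfl
        (fun v hv => ⟨⟨v, hUQ v hv⟩, rfl⟩) (hsum hk hsubk)
        ⟨⟨u, hUQ u hu⟩, hu, fun hf => hne
          (congrArg Subtype.val (LinearMap.congr_fun hf ⟨w, hw⟩))⟩) hk hsubk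
    refine ⟨a, j, ha1, ha2.trans (Nat.sub_le _ _), hj, hD, ?_⟩
    rw [show e - a = f + (e - f - a) by omega, pow_add, mul_assoc]
    exact (Nat.mul_le_mul_left _ hle).trans (Nat.mul_div_le r (p ^ f))

end Cfsg.Agent.HallHigmanDegree
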