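import Mathlib

/-!
# Two transvections

Over the prime field two transvections generate a `p`-group or reach `-1` on their plane.
-/

set_option autoImplicit false

namespace Cfsg.Agent.HallHigman

variable {p : ℕ} [hp : Fact p.Prime] {M : Type*} [AddCommGroup M] [Module (ZMod p) M]
  {A B : Module.End (ZMod p) M} {v₁ v₂ : M} {f g : M →ₗ[ZMod p] ZMod p}


theorem transvection_pow (hA : ∀ v, A v = v + f v • v₁) (hf : f v₁ = 0) (n : ℕ) (v : M) :
    (A ^ n) v = v + ((n : ZMod p) * f v) • v₁ := by
  induction n with
  | zero => simp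
  | succ n ih =>
    rw [pow_succ', Module.End.mul_apply, ih, hA, map_add, map_smul, hf, smul_zero, add_zero,
      Nat.cast_succ, add_mul, one_mul, add_smul, add_assoc]

/-- An action by additive endomorphisms as linear maps over the prime field. -/
noncomputable def endHom {G : Type*} [Group G] {N : Type*} [AddCommGroup N] [Module (ZMod p) N]
    (ψ : G →* AddMonoid.End N) : G →* Module.End (ZMod p) N where
  toFun g := AddMonoidHom.toZModLinearMap p (ψ g)
  map_one' := LinearMap.ext fun v => by
    show (ψ 1) v = v
    rw [map_one]; rfl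
  map_mul' a b := LinearMap.ext fun v => by
    show (ψ (a * b)) v = (ψ a) ((ψ b) v)
    rw [map_mul]; rfl


theorem endHom_apply {G : Type*} [Group G] {N : Type*} [AddCommGroup N] [Module (ZMod p) N]
    (ψ : G →* AddMonoid.End N) (g : G) (v : N) : endHom (p := p) ψ g v = ψ g v := rfl

/-- Two transvections give a unipotent quotient or an element inverting the centre of the first. -/
theorem two_transvections (hA : ∀ v, A v = v + f v • v₁) (hB : ∀ v, B v = v + g v • v₂)
    (hf : f v₁ = 0) (hg : g v₂ = 0) :
    (∀ A' : Module.End (ZMod p) M, A' * A = 1 → (B * A' - 1) ^ 3 = 0) ∨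
      ∃ i j : ℕ, Commute ((A ^ i * B ^ j * A ^ i) ^ 2) A ∧
        ((A ^ i * B ^ j * A ^ i) ^ 2) v₁ = -v₁ := by
  by_cases hcd : f v₂ = 0 ∨ g v₁ = 0
  · refine Or.inl fun A' hA' => LinearMap.ext fun v => ?_
    have hA'v : ∀ v, A' v = v - f v • v₁ := fun v => by
      have h := LinearMap.congr_fun hA' (v - f v • v₁)
      rw [Module.End.mul_apply, hA, map_sub, map_smul, hf, smul_zero, sub_zero, sub_add_cancel] at h
      exact h
    have hT : ∀ v, (B * A' - 1) v = g v • v₂ - f v • (v₁ + g v₁ • v₂) := fun v => by
      rw [LinearMap.sub_apply, Module.End.mul_apply, Module.End.one_apply, hA'v, hB, map_sub,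
        map_smul, smul_eq_mul]
      module
    rw [pow_succ, pow_two, Module.End.mul_apply, Module.End.mul_apply, hT v, LinearMap.zero_apply]
    rcases hcd with h | h <;>
      simp [hT, hf, hg, h, map_sub, map_add, map_smul]
  · push Not at hcd
    obtain ⟨i, hi⟩ := ZMod.natCast_zmod_surjective (f v₂)⁻¹
    obtain ⟨j, hj⟩ := ZMod.natCast_zmod_surjective (-(g v₁)⁻¹)
    have hic : (i : ZMod p) * f v₂ = 1 := by rw [hi]; exact inv_mul_cancel₀ hcd.1
    have hjd : (j : ZMod p) * g v₁ = -1 := by rw [hj, neg_mul, inv_mul_cancel₀ hcd.2]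
    have h0 : ∀ v, (A ^ i * B ^ j * A ^ i) v = v + ((i : ZMod p) * f v + j * g v) • v₁ +
        ((j : ZMod p) * g v - i * f v) • v₂ := by
      intro v
      rw [Module.End.mul_apply, Module.End.mul_apply, transvection_pow hA hf i v,
        transvection_pow hB hg, transvection_pow hA hf]
      simp only [map_add, map_smul, smul_eq_mul, hf]
      rw [show (j : ZMod p) * (g v + (i : ZMod p) * f v * g v₁) = j * g v - i * f v by
        linear_combination ((i : ZMod p) * f v) * hjd,
        show (i : ZMod p) * (f v + (i : ZMod p) * f v * 0 + ((j : ZMod p) * g v - i * f v) * f v₂) =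
          j * g v by linear_combination ((j : ZMod p) * g v - i * f v) * hic]
      module
    have h2 : ∀ v, ((A ^ i * B ^ j * A ^ i) ^ 2) v =
        v + (2 * ((j : ZMod p) * g v)) • v₁ - (2 * ((i : ZMod p) * f v)) • v₂ := by
      intro v
      rw [pow_two, Module.End.mul_apply, h0 v, h0]
      simp only [map_add, map_sub, map_smul, smul_eq_mul, hf, hg]
      rw [show (i : ZMod p) * (f v + ((i : ZMod p) * f v + j * g v) * 0 +
            ((j : ZMod p) * g v - i * f v) * f v₂) + (j : ZMod p) * (g v +
            ((i : ZMod p) * f v + j * g v) * g v₁ + ((j : ZMod p) * g v - i * f v) * 0) =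
          (j : ZMod p) * g v - i * f v by
        linear_combination ((j : ZMod p) * g v - i * f v) * hic +
          ((i : ZMod p) * f v + j * g v) * hjd,
        show (j : ZMod p) * (g v + ((i : ZMod p) * f v + j * g v) * g v₁ +
            ((j : ZMod p) * g v - i * f v) * 0) - (i : ZMod p) * (f v +
            ((i : ZMod p) * f v + j * g v) * 0 + ((j : ZMod p) * g v - i * f v) * f v₂) =
          -((j : ZMod p) * g v) - i * f v by
        linear_combination ((i : ZMod p) * f v + j * g v) * hjd -
          ((j : ZMod p) * g v - i * f v) * hic]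
      module
    refine Or.inr ⟨i, j, LinearMap.ext fun v => ?_, ?_⟩
    · rw [Module.End.mul_apply, Module.End.mul_apply, hA, hA, map_add, map_smul, h2 v₁, h2 v, hjd, hf]
      simp only [map_add, map_sub, map_smul, smul_eq_mul, hf]
      rw [show f v + 2 * ((j : ZMod p) * g v) * 0 - 2 * ((i : ZMod p) * f v) * f v₂ = -f v by
        linear_combination (-(2 : ZMod p) * f v) * hic]
      module
    · rw [h2, hjd, hf]
      module

end Cfsg.Agent.HallHigman
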