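import Mathlib
import Cfsg.Prelude
import Cfsg.Agent.Lib.CoprimeAction
import Cfsg.Agent.Lib.QuadraticMain
import Cfsg.Agent.Lib.HallHigmanExponent
import Cfsg.Agent.Lib.HallHigmanTransvection

/-!
# Derived length and p-length

For odd `p` the last non-trivial derived subgroup of a Sylow `p`-subgroup lies in `O_p(H)` when
`O_{p'}(H) = 1`.
-/

set_option autoImplicit false

namespace Cfsg.Agent.HallHigman

open Module
open scoped commutatorElement

/-- Endomorphisms over the prime field, read over its algebraic closure. -/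
theorem exists_endRing {M : Type*} [AddCommGroup M] [Finite M] {l : ℕ} [Fact l.Prime]
    [Module (ZMod l) M] :
    ∃ (n : ℕ) (Φ : Module.End (ZMod l) M →+*
        Module.End (AlgebraicClosure (ZMod l)) (Fin n → AlgebraicClosure (ZMod l))),
      Function.Injective Φ := by
  classical
  let F := AlgebraicClosure (ZMod l)
  let bV := Module.finBasis (ZMod l) M
  let n := Module.finrank (ZMod l) M
  let Φ : Module.End (ZMod l) M →+* Module.End F (Fin n → F) :=
    (((Matrix.toLinAlgEquiv' (R := F) (n := Fin n)).toRingEquiv.toRingHom).comp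
      (algebraMap (ZMod l) F).mapMatrix).comp (LinearMap.toMatrixAlgEquiv bV).toRingEquiv.toRingHom
  refine ⟨n, Φ, fun A B h => ?_⟩
  have h1 := (Matrix.toLinAlgEquiv' (R := F) (n := Fin n)).injective h
  exact (LinearMap.toMatrixAlgEquiv bV).injective
    (Matrix.map_injective (algebraMap (ZMod l) F).injective h1)

variable {G : Type*} [Group G] [Finite G]

omit [Finite G] in
theorem le_normalizer_commutator_of_le {P A B : Subgroup G}
    (hA : P ≤ Subgroup.normalizer (A : Set G)) (hB : P ≤ Subgroup.normalizer (B : Set G)) :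
    P ≤ Subgroup.normalizer (⁅A, B⁆ : Subgroup G) := fun b hb => by
  rw [Subgroup.mem_normalizer_iff_map_conj_eq, Subgroup.map_commutator,
    Subgroup.mem_normalizer_iff_map_conj_eq.mp (hA hb),
    Subgroup.mem_normalizer_iff_map_conj_eq.mp (hB hb)]

/-- A minimal `P`-invariant subgroup not centralised by an element `a` central in `P`. -/
theorem exists_class_two_central {q : ℕ} [Fact q.Prime] {Q P : Subgroup G} (hQ : IsPGroup q Q)
    (hPQ : P ≤ Subgroup.normalizer (Q : Set G)) {a : G} (ha : a ∈ P)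
    (hac : ∀ b ∈ P, b * a = a * b) (hcop : (orderOf a).Coprime q)
    (hnc : ¬ Q ≤ Subgroup.centralizer {a}) :
    ∃ Q₁ : Subgroup G, Q₁ ≤ Q ∧ P ≤ Subgroup.normalizer (Q₁ : Set G) ∧ ⁅⁅Q₁, Q₁⁆, Q₁⁆ = ⊥ ∧
      ⁅Q₁, Subgroup.zpowers a⁆ = Q₁ ∧ ¬ Q₁ ≤ Subgroup.centralizer {a} := by
  classical
  let S : ℕ → Prop := fun d => ∃ U : Subgroup G, Nat.card U = d ∧ U ≤ Q ∧
    P ≤ Subgroup.normalizer (U : Set G) ∧ ¬ U ≤ Subgroup.centralizer {a}
  have hS : ∃ d, S d := ⟨_, Q, rfl, le_rfl, hPQ, hnc⟩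
  obtain ⟨U, hUd, hUQ, hPU, hU⟩ := Nat.find_spec hS
  have hmin : ∀ W : Subgroup G, W ≤ U → P ≤ Subgroup.normalizer (W : Set G) →
      ¬ W ≤ Subgroup.centralizer {a} → W = U := fun W hWU hPW hW =>
    Subgroup.eq_of_le_of_card_ge hWU (hUd ▸ Nat.find_min' hS ⟨W, rfl, hWU.trans hUQ, hPW, hW⟩)
  set X := Subgroup.zpowers a
  have hcent : ∀ {W : Subgroup G}, W ≤ Subgroup.centralizer {a} ↔
      W ≤ Subgroup.centralizer (X : Set G) := by
    intro W
    rw [← Subgroup.centralizer_closure, ← Subgroup.zpowers_eq_closure]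
  have hXU : X ≤ Subgroup.normalizer (U : Set G) := Subgroup.zpowers_le.mpr (hPU ha)
  have hPX : P ≤ Subgroup.normalizer (X : Set G) := fun b hb => by
    rw [Subgroup.mem_normalizer_iff_map_conj_eq, MonoidHom.map_zpowers]
    congr 1
    show b * a * b⁻¹ = a
    rw [hac b hb, mul_inv_cancel_right]
  have hcopU : (Nat.card X).Coprime (Nat.card U) := by
    obtain ⟨k, hk⟩ := IsPGroup.iff_card.mp (hQ.to_le hUQ)
    rw [Nat.card_zpowers, hk]
    exact hcop.pow_right k
  have hsol : Group.IsSolvable X ∨ Group.IsSolvable U :=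
    Or.inl (Cfsg.Agent.CoprimeAction.isSolvable_zpowers a)
  have hLU : ⁅U, X⁆ = U := by
    refine hmin _ (Cfsg.Agent.CoprimeAction.commutator_le_self_of_le_normalizer hXU)
      (le_normalizer_commutator_of_le hPU hPX) fun h => hU ?_
    rw [hcent] at h ⊢
    rw [Subgroup.le_centralizer_iff]
    exact Cfsg.Agent.CoprimeAction.le_centralizer_of_commutator_commutator_eq_bot hXU hcopU
      hsol (Subgroup.commutator_eq_bot_iff_le_centralizer.mpr h)
  refine ⟨U, hUQ, hPU, ?_, hLU, hU⟩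
  have hU0 : U ≠ ⊥ := fun h => hU (h ▸ bot_le)
  have hUnil : Group.IsNilpotent U := (hQ.to_le hUQ).isNilpotent
  have hder : ⁅U, U⁆ ≤ U := U.commutator_le_self
  have hlt : ⁅U, U⁆ ≠ U := by
    intro h
    have : Nontrivial U := (Subgroup.nontrivial_iff_ne_bot U).mpr hU0
    have hsolU : Group.IsSolvable U := inferInstance
    refine (Group.IsSolvable.commutator_lt_top_of_nontrivial (G := U)).ne ?_
    apply Subgroup.map_injective U.subtype_injective
    rw [commutator_def, Subgroup.map_commutator, ← MonoidHom.range_eq_map, Subgroup.range_subtype]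
    exact h
  have hc : ⁅U, U⁆ ≤ Subgroup.centralizer {a} := by
    by_contra hno
    exact hlt (hmin _ hder (le_normalizer_commutator_of_le hPU hPU) hno)
  rw [hcent] at hc
  have h1 : ⁅⁅X, ⁅U, U⁆⁆, U⁆ = ⊥ := by
    rw [Subgroup.commutator_comm X, Subgroup.commutator_eq_bot_iff_le_centralizer.mpr hc,
      Subgroup.commutator_bot_left]
  have h2 : ⁅⁅⁅U, U⁆, U⁆, X⁆ = ⊥ := by
    refine eq_bot_iff.mpr ((Subgroup.commutator_mono ?_ le_rfl).trans
      (le_of_eq (Subgroup.commutator_eq_bot_iff_le_centralizer.mpr hc)))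
    exact Subgroup.commutator_mono hder le_rfl
  have h3 := Subgroup.commutator_commutator_eq_bot_of_rotate h1 h2
  rw [hLU, Subgroup.commutator_comm] at h3
  exact h3

variable {F W : Type*} [Field F] [AddCommGroup W] [Module F W]

/-- The elements fixing a subspace pointwise. -/
def fixer (ρ : Representation F G W) (U : Submodule F W) : Subgroup G where
  carrier := {g | ∀ w ∈ U, ρ g w = w}
  one_mem' := fun w _ => by rw [map_one]; rfl
  mul_mem' := fun {g h} hg hh w hw => by
    rw [map_mul, Module.End.mul_apply, hh w hw, hg w hw]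
  inv_mem' := fun {g} hg w hw => by
    conv_lhs => rw [← hg w hw]
    rw [← Module.End.mul_apply, ← map_mul, inv_mul_cancel, map_one]
    rfl

omit [Finite G] in
theorem mem_fixer {ρ : Representation F G W} {U : Submodule F W} {g : G} :
    g ∈ fixer ρ U ↔ ∀ w ∈ U, ρ g w = w := Iff.rfl

/-- At `p = 3` a central commutator of `B` acting quadratically on `V` centralises the `2`-group. -/
theorem false_of_central_commutator [IsAlgClosed F] [FiniteDimensional F W] (h3 : (3 : F) = 0)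
    (ρ : Representation F G W) (hρ : Function.Injective ρ) {Q B : Subgroup G} {a : G}
    (ha3 : a ^ 3 = 1) (haB : a ∈ ⁅B, B⁆) (hB : IsPGroup 3 B)
    (hBQ : B ≤ Subgroup.normalizer (Q : Set G)) (hac : ∀ b ∈ B, b * a = a * b)
    (hQ : IsPGroup 2 Q) (hcl : ⁅⁅Q, Q⁆, Q⁆ = ⊥) (hgen : ⁅Q, Subgroup.zpowers a⁆ = Q)
    (hnt : ¬ Q ≤ Subgroup.centralizer {a}) (hquad : (ρ a - 1) * (ρ a - 1) = 0)
    (hmix : ∀ b ∈ B, (ρ a - 1) * ((ρ b - 1) * (ρ b - 1)) = 0) : False := by
  classical
  have : Fintype Q := Fintype.ofFinite Q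
  have h2F : (2 : F) ≠ 0 := fun h => one_ne_zero (show (1 : F) = 0 by linear_combination h3 - h)
  have haQ : a ∈ Subgroup.normalizer (Q : Set G) := hBQ (B.commutator_le_self haB)
  let S : Module.End F W := ∑ u : Q, ρ (u : G)
  have hSu : ∀ u ∈ Q, S * ρ u = S := fun u hu => by
    show (∑ v : Q, ρ (v : G)) * ρ u = _
    rw [Finset.sum_mul]
    refine Fintype.sum_equiv (Equiv.mulRight ⟨u, hu⟩) _ _ fun v => ?_
    rw [← map_mul]
    rfl
  have hSc : ∀ g ∈ Subgroup.normalizer (Q : Set G), ρ g * S = S * ρ g := fun g hg => by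
    show ρ g * (∑ v : Q, ρ (v : G)) = (∑ v : Q, ρ (v : G)) * ρ g
    rw [Finset.mul_sum, Finset.sum_mul]
    refine Fintype.sum_equiv (Subgroup.normalizerMonoidHom Q ⟨g, hg⟩).toEquiv _ _ fun v => ?_
    show ρ g * ρ (v : G) = ρ (g * v * g⁻¹) * ρ g
    rw [← map_mul, ← map_mul, inv_mul_cancel_right]
  have hcard : (Nat.card Q : F) ≠ 0 := by
    obtain ⟨k, hk⟩ := IsPGroup.iff_card.mp hQ
    rw [hk, Nat.cast_pow]
    exact pow_ne_zero _ h2F
  have hfree : ∀ w, S w = 0 → (∀ u ∈ Q, ρ u w = w) → w = 0 := fun w hw hfix => by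
    have : S w = (Nat.card Q : F) • w := by
      show (∑ v : Q, ρ (v : G)) w = _
      rw [LinearMap.sum_apply, Finset.sum_congr rfl fun (v : Q) _ => hfix v v.2, Finset.sum_const,
        Finset.card_univ, ← Nat.card_eq_fintype_card, Nat.cast_smul_eq_nsmul]
    rw [this, smul_eq_zero] at hw
    exact hw.resolve_left hcard
  -- a minimal invariant subspace without fixed points of `Q`
  let P : ℕ → Prop := fun n => ∃ U : Submodule F W, U ≠ ⊥ ∧ finrank F U = n ∧
    (∀ u ∈ Q, ∀ w ∈ U, ρ u w ∈ U) ∧ (∀ w ∈ U, ρ a w ∈ U) ∧ ∀ w ∈ U, S w = 0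
  have hP : ∃ n, P n := by
    refine ⟨_, LinearMap.ker S, fun h0 => hnt fun u hu => ?_, rfl, fun u hu w hw => ?_,
      fun w hw => ?_, fun w hw => hw⟩
    · rw [show u = 1 from hρ (LinearMap.ext fun w => ?_)]
      · exact one_mem _
      have h4 : ρ u w - w ∈ LinearMap.ker S := by
        rw [LinearMap.mem_ker, map_sub, ← Module.End.mul_apply, hSu u hu, sub_self]
      rw [h0, Submodule.mem_bot, sub_eq_zero] at h4
      rw [h4, map_one]
      rfl
    · rw [LinearMap.mem_ker] at hw ⊢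
      rw [← Module.End.mul_apply, hSu u hu, hw]
    · rw [LinearMap.mem_ker] at hw ⊢
      rw [← Module.End.mul_apply, ← hSc a haQ, Module.End.mul_apply, hw, map_zero]
  obtain ⟨U, hU0, hUd, hUQ, hUa, hUS⟩ := Nat.find_spec hP
  have hmin : ∀ Y : Submodule F W, Y ≤ U → (∀ u ∈ Q, ∀ w ∈ Y, ρ u w ∈ Y) →
      (∀ w ∈ Y, ρ a w ∈ Y) → Y = ⊥ ∨ Y = U := by
    intro Y hY h1 h2
    by_cases hY0 : Y = ⊥
    · exact Or.inl hY0
    refine Or.inr (Submodule.eq_of_le_of_finrank_le hY ?_)
    exact hUd ▸ Nat.find_min' hP ⟨Y, hY0, rfl, h1, h2, fun w hw => hUS w (hY hw)⟩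
  set H := Q ⊔ Subgroup.zpowers a
  have hQH : Q ≤ H := le_sup_left
  have hUH : ∀ g : H, ∀ w ∈ U, ρ (g : G) w ∈ U := fun g =>
    (sup_le hUQ (Subgroup.zpowers_le.mpr hUa) : H ≤ preserving ρ U) g.2
  let σ : Representation F H U :=
    { toFun := fun g => (ρ (g : G)).restrict (hUH g)
      map_one' := LinearMap.ext fun w => Subtype.ext (by simp)
      map_mul' := fun g g' => LinearMap.ext fun w => Subtype.ext (by simp) }
  let a' : H := ⟨a, Subgroup.mem_sup_right (Subgroup.mem_zpowers a)⟩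
  set Q' := Q.subgroupOf H with hQ'
  have hmapQ : Q'.map H.subtype = Q := Subgroup.map_subgroupOf_eq_of_le hQH
  have hσ1 : ∀ g : H, σ g = 1 ↔ (g : G) ∈ fixer ρ U := fun g =>
    ⟨fun h w hw => congrArg Subtype.val (LinearMap.congr_fun h ⟨w, hw⟩),
      fun h => LinearMap.ext fun w => Subtype.ext (h w w.2)⟩
  have hσnt : ∃ u ∈ Q', σ u ≠ 1 := by
    by_contra hall
    push Not at hall
    obtain ⟨w, hw, hw0⟩ := (Submodule.ne_bot_iff U).mp hU0
    exact hw0 (hfree w (hUS w hw) fun u hu =>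
      (hσ1 ⟨u, hQH hu⟩).mp (hall ⟨u, hQH hu⟩ hu) w hw)
  have hsum : ∑ k ∈ Finset.range (3 ^ 1), σ a' ^ k = 0 := by
    refine LinearMap.ext fun w => Subtype.ext ?_
    rw [pow_one, Finset.sum_range_succ, Finset.sum_range_succ, Finset.sum_range_one]
    have h4 := LinearMap.congr_fun hquad (w : W)
    simp only [Module.End.mul_apply, LinearMap.sub_apply, Module.End.one_apply, map_sub,
      LinearMap.zero_apply] at h4
    simp only [pow_zero, pow_one, pow_two, LinearMap.add_apply, Module.End.one_apply,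
      Module.End.mul_apply, LinearMap.zero_apply, Submodule.coe_add, ZeroMemClass.coe_zero]
    show (w : W) + ρ a w + ρ a (ρ a w) = 0
    have h5 : (3 : F) • ρ a (w : W) = 0 := by rw [h3, zero_smul]
    linear_combination (norm := module) h4 + h5
  have hdat : HHData 3 2 1 σ a' Q' := by
    refine ⟨Nat.prime_three, Nat.prime_two, by norm_num, by exact_mod_cast h2F, le_rfl,
      Subtype.ext (by simpa using ha3), ?_, hQ.comap_subtype, ?_, ?_, hsum, hσnt⟩
    · rw [Subgroup.mem_normalizer_iff]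
      exact fun g => Subgroup.mem_normalizer_iff.mp haQ (g : G)
    · apply Subgroup.map_injective H.subtype_injective
      rw [Subgroup.map_commutator, Subgroup.map_commutator, hmapQ, hcl, Subgroup.map_bot]
    · apply Subgroup.map_injective H.subtype_injective
      rw [Subgroup.map_commutator, hmapQ, MonoidHom.map_zpowers, map_pow, Nat.sub_self, pow_zero,
        pow_one]
      exact hgen
  let π := QuotientGroup.mk' σ.ker
  have hπσ : ∀ g : H, π g = 1 ↔ (g : G) ∈ fixer ρ U := fun g =>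
    (QuotientGroup.eq_one_iff g).trans (hσ1 g)
  have hdat' := hdat.map_mk
  have hinj := imageRep_injective σ
  have hirr : ∀ Y : Submodule F U, (∀ u ∈ Q', ∀ w ∈ Y, σ u w ∈ Y) → (∀ w ∈ Y, σ a' w ∈ Y) →
      Y = ⊥ ∨ Y = ⊤ := by
    intro Y hYQ hYa
    rcases hmin (Y.map U.subtype) (Submodule.map_subtype_le U Y)
      (by rintro u hu _ ⟨w, hw, rfl⟩; exact ⟨_, hYQ ⟨u, hQH hu⟩ hu w hw, rfl⟩)
      (by rintro _ ⟨w, hw, rfl⟩; exact ⟨_, hYa w hw, rfl⟩) with h | h
    · exact Or.inl (Submodule.map_injective_of_injective U.subtype_injective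
        (h.trans (Submodule.map_bot _).symm))
    · exact Or.inr (Submodule.map_injective_of_injective U.subtype_injective
        (h.trans (Submodule.map_subtype_top U).symm))
  have hscal : ∀ c ∈ ctr (Q'.map π), ∃ l : F, imageRep σ c = l • 1 := by
    intro c hc
    have : Nontrivial U := Submodule.nontrivial_iff_ne_bot.mpr hU0
    obtain ⟨l, hl⟩ := Module.End.exists_eigenvalue (imageRep σ c)
    refine ⟨l, LinearMap.ext fun w => ?_⟩
    have hx0 := hdat'.x0_comm_ctr hinj hc
    rw [Nat.sub_self, pow_zero, pow_one] at hx0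
    have hinv : ∀ g : H, Commute c (π g) → ∀ w ∈ Module.End.eigenspace (imageRep σ c) l,
        σ g w ∈ Module.End.eigenspace (imageRep σ c) l := fun g hg w hw => by
      rw [Module.End.mem_eigenspace_iff] at hw ⊢
      rw [← imageRep_mk σ g, ← Module.End.mul_apply, ← map_mul, hg.eq, map_mul,
        Module.End.mul_apply, hw, map_smul]
    rcases hirr _ (fun u hu => hinv u (Subgroup.mem_centralizer_iff.mp hc.2 _ ⟨u, hu, rfl⟩).symm)
      (hinv a' (by first | exact hx0 | exact hx0.symm)) with h | h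
    · exact absurd h hl
    · exact Module.End.mem_eigenspace_iff.mp (h ▸ Submodule.mem_top)
  obtain ⟨j, hj, hlt, -, hcardQ⟩ := hdat'.exceptional_of_scalar hinj
    (fun Y h1 h2 => hirr Y (fun u hu => h1 (π u) ⟨u, hu, rfl⟩) h2) hscal
  obtain rfl : j = 1 := by
    by_contra hj1
    have : 2 ^ 2 ≤ 2 ^ j := Nat.pow_le_pow_right two_pos (by omega)
    norm_num at hlt this
    omega
  -- `B` normalises the kernel
  set R := Q ⊓ fixer ρ U with hR
  have hRn : ∀ g ∈ H, g ∈ Subgroup.normalizer (R : Set G) := by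
    have h1 : H ≤ Subgroup.normalizer (R : Set G) := by
      refine Cfsg.Agent.CoprimeAction.le_normalizer_of_conj_mem fun g hg u hu => ⟨?_, fun w hw => ?_⟩
      · exact Cfsg.Agent.CoprimeAction.conj_mem
          ((sup_le Subgroup.le_normalizer (Subgroup.zpowers_le.mpr haQ) : H ≤ _) hg) hu.1
      · rw [map_mul, map_mul, Module.End.mul_apply, Module.End.mul_apply,
          hu.2 _ (hUH ⟨g⁻¹, H.inv_mem hg⟩ w hw), ← Module.End.mul_apply, ← map_mul, mul_inv_cancel,
          map_one]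
        rfl
    exact fun g hg => h1 hg
  have hBR : B ≤ Subgroup.normalizer (R : Set G) := by
    intro b hb
    by_contra hbad
    have hb2 : b ^ 2 ∉ Subgroup.normalizer (R : Set G) := fun h => hbad (by
      obtain ⟨i, hi⟩ := IsPGroup.iff_orderOf.mp hB ⟨b, hb⟩
      rw [← Subgroup.orderOf_coe] at hi
      change orderOf b = 3 ^ i at hi
      obtain ⟨r, hr⟩ := (show Odd (3 ^ i) from (by decide : Odd 3).pow)
      rw [show b = (b ^ 2) ^ (r + 1) by
        rw [← pow_mul, show 2 * (r + 1) = 3 ^ i + 1 by omega, pow_succ, ← hi, pow_orderOf_eq_one,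
          one_mul]]
      exact pow_mem h _)
    have hbQ : ∀ i : ℕ, b ^ i ∈ Subgroup.normalizer (Q : Set G) := fun i => pow_mem (hBQ hb) i
    let Ui : ℕ → Submodule F W := fun i => U.map (ρ (b ^ i))
    have hbca : ∀ i : ℕ, Commute (b ^ i) a := fun i => Commute.pow_left (hac b hb) i
    have hUiH : ∀ (i : ℕ) (g : G), (b ^ i)⁻¹ * g * b ^ i ∈ H → ∀ w ∈ Ui i, ρ g w ∈ Ui i := by
      rintro i g hg _ ⟨w, hw, rfl⟩
      refine ⟨ρ ((b ^ i)⁻¹ * g * b ^ i) w, hUH ⟨_, hg⟩ w hw, ?_⟩
      rw [← Module.End.mul_apply, ← map_mul, ← Module.End.mul_apply, ← map_mul]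
      congr 2
      group
    have hQi : ∀ (i : ℕ) (u : G), u ∈ Q → (b ^ i)⁻¹ * u * b ^ i ∈ Q := fun i u hu => by
      simpa using Cfsg.Agent.CoprimeAction.conj_mem (inv_mem (hbQ i)) hu
    have hai : ∀ i : ℕ, (b ^ i)⁻¹ * a * b ^ i ∈ H := fun i => by
      rw [mul_assoc, ← (hbca i).eq, inv_mul_cancel_left]
      exact a'.2
    have hfixi : ∀ (i : ℕ) (u : G), u ∈ Q →
        (u ∈ fixer ρ (Ui i) ↔ (b ^ i)⁻¹ * u * b ^ i ∈ fixer ρ U) := by
      intro i u _
      constructor
      · intro h w hw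
        rw [map_mul, map_mul, Module.End.mul_apply, Module.End.mul_apply, h _ ⟨w, hw, rfl⟩,
          ← Module.End.mul_apply, ← map_mul, inv_mul_cancel, map_one]
        rfl
      · rintro h _ ⟨w, hw, rfl⟩
        rw [← Module.End.mul_apply, ← map_mul,
          show u * b ^ i = b ^ i * ((b ^ i)⁻¹ * u * b ^ i) by group, map_mul, Module.End.mul_apply,
          h w hw]
    have hirri : ∀ (i : ℕ) (Y : Submodule F W), Y ≤ Ui i → (∀ u ∈ Q, ∀ w ∈ Y, ρ u w ∈ Y) →
        (∀ w ∈ Y, ρ a w ∈ Y) → Y = ⊥ ∨ Y = Ui i := by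
      intro i Y hY hYQ hYa
      have hb1 : ρ (b ^ i) * ρ (b ^ i)⁻¹ = 1 := by rw [← map_mul, mul_inv_cancel, map_one]
      have hb1' : ρ (b ^ i)⁻¹ * ρ (b ^ i) = 1 := by rw [← map_mul, inv_mul_cancel, map_one]
      have hY' : (Y.map (ρ (b ^ i)⁻¹)).map (ρ (b ^ i)) = Y := by
        rw [← Submodule.map_comp, ← Module.End.mul_eq_comp, hb1]
        exact Submodule.map_id Y
      have m1 : Y.map (ρ (b ^ i)⁻¹) ≤ U := by
        rintro _ ⟨w, hw, rfl⟩
        obtain ⟨w', hw', rfl⟩ := hY hw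
        rw [← Module.End.mul_apply, hb1']
        exact hw'
      have m2 : ∀ u ∈ Q, ∀ w ∈ Y.map (ρ (b ^ i)⁻¹), ρ u w ∈ Y.map (ρ (b ^ i)⁻¹) := by
        rintro u hu _ ⟨w, hw, rfl⟩
        refine ⟨ρ (b ^ i * u * (b ^ i)⁻¹) w, hYQ _ (Cfsg.Agent.CoprimeAction.conj_mem (hbQ i) hu) w hw, ?_⟩
        rw [← Module.End.mul_apply, ← map_mul, ← Module.End.mul_apply, ← map_mul]
        congr 2
        group
      have m3 : ∀ w ∈ Y.map (ρ (b ^ i)⁻¹), ρ a w ∈ Y.map (ρ (b ^ i)⁻¹) := by
        rintro _ ⟨w, hw, rfl⟩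
        refine ⟨ρ a w, hYa w hw, ?_⟩
        rw [← Module.End.mul_apply, ← map_mul, ← Module.End.mul_apply, ← map_mul,
          ((hbca i).inv_left).eq]
      rcases hmin (Y.map (ρ (b ^ i)⁻¹)) m1 m2 m3 with h | h
      · exact Or.inl (by rw [← hY', h, Submodule.map_bot])
      · exact Or.inr (by rw [← hY', h])
    have hne : ∀ i j : ℕ, b ^ j * (b ^ i)⁻¹ ∉ Subgroup.normalizer (R : Set G) →
        ¬ ∀ u ∈ Q, u ∈ fixer ρ (Ui i) → u ∈ fixer ρ (Ui j) := by
      intro i j hg hall
      refine hg ?_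
      rw [show b ^ j * (b ^ i)⁻¹ = (b ^ i)⁻¹ * b ^ j from
        ((Commute.refl b).pow_pow j i).inv_right.eq]
      have hle : R.map (MulAut.conj (b ^ i)).toMonoidHom ≤ R.map (MulAut.conj (b ^ j)).toMonoidHom := by
        rintro _ ⟨u, hu, rfl⟩
        have huQ : b ^ i * u * (b ^ i)⁻¹ ∈ Q := Cfsg.Agent.CoprimeAction.conj_mem (hbQ i) hu.1
        have h4 := (hfixi j _ huQ).mp (hall _ huQ ((hfixi i _ huQ).mpr
          (by rw [show (b ^ i)⁻¹ * (b ^ i * u * (b ^ i)⁻¹) * b ^ i = u by group]; exact hu.2)))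
        exact ⟨_, ⟨hQi j _ huQ, h4⟩, by
          show b ^ j * ((b ^ j)⁻¹ * (b ^ i * u * (b ^ i)⁻¹) * b ^ j) * (b ^ j)⁻¹ =
            b ^ i * u * (b ^ i)⁻¹
          group⟩
      have heq := Subgroup.eq_of_le_of_card_ge hle (le_of_eq (by
        rw [Subgroup.card_map_of_injective (f := (MulAut.conj (b ^ j)).toMonoidHom) (MulEquiv.injective _),
          Subgroup.card_map_of_injective (f := (MulAut.conj (b ^ i)).toMonoidHom) (MulEquiv.injective _)]))
      have h5 := congrArg (fun T => Subgroup.map (MulAut.conj (b ^ i)⁻¹).toMonoidHom T) heq.symm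
      simp only [Subgroup.map_map] at h5
      rw [Subgroup.mem_normalizer_iff_map_conj_eq]
      convert h5 using 1
      · refine congrArg (fun f => Subgroup.map f R) (MonoidHom.ext fun x => ?_)
        simp only [MonoidHom.comp_apply, MulEquiv.coe_toMonoidHom, MonoidHom.coe_coe, MulAut.conj_apply]
        group
      · refine (Subgroup.map_id R).symm.trans
          (congrArg (fun f => Subgroup.map f R) (MonoidHom.ext fun x => ?_))
        simp only [MonoidHom.comp_apply, MulEquiv.coe_toMonoidHom, MulAut.conj_apply, MonoidHom.id_apply]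
        group
    have hne12 := hne 1 2 (by rw [pow_one, pow_two, mul_inv_cancel_right]; exact hbad)
    have hne01 := hne 0 1 (by rw [pow_zero, inv_one, mul_one, pow_one]; exact hbad)
    have hne02 := hne 0 2 (by rw [pow_zero, inv_one, mul_one]; exact hb2)
    have hU0i : Ui 0 = U := by
      show U.map (ρ (b ^ 0)) = U
      rw [pow_zero, map_one]
      exact Submodule.map_id U
    have hinvi : ∀ i, (∀ u ∈ Q, ∀ w ∈ Ui i, ρ u w ∈ Ui i) ∧ ∀ w ∈ Ui i, ρ a w ∈ Ui i := fun i =>
      ⟨fun u hu => hUiH i u (hQH (hQi i u hu)), hUiH i a (hai i)⟩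
    have hdisj : Ui 1 ⊓ Ui 2 = ⊥ := by
      rcases hirri 1 (Ui 1 ⊓ Ui 2) inf_le_left
        (fun u hu w hw => ⟨(hinvi 1).1 u hu w hw.1, (hinvi 2).1 u hu w hw.2⟩)
        (fun w hw => ⟨(hinvi 1).2 w hw.1, (hinvi 2).2 w hw.2⟩) with h | h
      · exact h
      rcases hirri 2 (Ui 1 ⊓ Ui 2) inf_le_right
        (fun u hu w hw => ⟨(hinvi 1).1 u hu w hw.1, (hinvi 2).1 u hu w hw.2⟩)
        (fun w hw => ⟨(hinvi 1).2 w hw.1, (hinvi 2).2 w hw.2⟩) with h' | h'
      · exact h'
      · exact absurd (fun u _ hu => h'.symm.trans h ▸ hu) hne12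
    have hzero : ∀ i, (¬ ∀ u ∈ Q, u ∈ fixer ρ (Ui 0) → u ∈ fixer ρ (Ui i)) →
        ∀ w ∈ Ui i, (∀ u ∈ R, ρ u w = w) → w = 0 := by
      intro i hi w hw hwR
      let Y : Submodule F W :=
        { carrier := {v | v ∈ Ui i ∧ ∀ u ∈ R, ρ u v = v}
          add_mem' := fun {x y} hx hy => ⟨(Ui i).add_mem hx.1 hy.1, fun u hu => by
            rw [map_add, hx.2 u hu, hy.2 u hu]⟩
          zero_mem' := ⟨(Ui i).zero_mem, fun u _ => map_zero _⟩
          smul_mem' := fun c x hx => ⟨(Ui i).smul_mem c hx.1, fun u hu => by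
            rw [map_smul, hx.2 u hu]⟩ }
      have hinvY : ∀ g ∈ H, (∀ v ∈ Ui i, ρ g v ∈ Ui i) → ∀ v ∈ Y, ρ g v ∈ Y := by
        intro g hg hgi v hv
        refine ⟨hgi v hv.1, fun u hu => ?_⟩
        have h6 : g⁻¹ * u * g ∈ R := by
          simpa using Cfsg.Agent.CoprimeAction.conj_mem (inv_mem (hRn g hg)) hu
        rw [← Module.End.mul_apply, ← map_mul, show u * g = g * (g⁻¹ * u * g) by group, map_mul,
          Module.End.mul_apply, hv.2 _ h6]
      rcases hirri i Y (fun v hv => hv.1) (fun u hu => hinvY u (hQH hu) ((hinvi i).1 u hu))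
        (hinvY a a'.2 (hinvi i).2) with h | h
      · exact (Submodule.mem_bot F).mp (h ▸ (⟨hw, hwR⟩ : w ∈ Y))
      · refine absurd (fun u hu hu0 v hv => ?_) hi
        rw [hU0i] at hu0
        exact (h.symm ▸ hv : v ∈ Y).2 u ⟨hu, hu0⟩
    -- `a` acts trivially on `U`
    have ha1 : σ a' = 1 := (hσ1 a').mpr fun w hw => by
      have hz := LinearMap.congr_fun (hmix b hb) w
      simp only [Module.End.mul_apply, LinearMap.sub_apply, Module.End.one_apply, map_sub,
        LinearMap.zero_apply] at hz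
      set v1 := ρ a (ρ b w) - ρ b w with hv1
      set v2 := ρ a (ρ b (ρ b w)) - ρ b (ρ b w) with hv2
      have hv1m : v1 ∈ Ui 1 := by
        have : ρ b w ∈ Ui 1 := ⟨w, hw, by rw [pow_one]⟩
        exact (Ui 1).sub_mem ((hinvi 1).2 _ this) this
      have hv2m : v2 ∈ Ui 2 := by
        have : ρ b (ρ b w) ∈ Ui 2 := ⟨w, hw, by rw [pow_two, map_mul]; rfl⟩
        exact (Ui 2).sub_mem ((hinvi 2).2 _ this) this
      set v0 := ρ a w - w with hv0
      have hv0U : v0 ∈ U := U.sub_mem (hUa w hw) hw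
      have hv0e : v0 = (2 : F) • v1 + -v2 := by
        rw [hv0, hv1, hv2]
        linear_combination (norm := module) hz
      have hkey : (2 : F) • v1 = 0 ∧ v2 = 0 := by
        have hc : ∀ u ∈ R, ρ u ((2 : F) • v1) = (2 : F) • v1 ∧ ρ u v2 = v2 := by
          intro u hu
          have h7 : ρ u v0 = v0 := hu.2 v0 hv0U
          rw [hv0e, map_add, map_neg] at h7
          have h8 : ρ u ((2 : F) • v1) - (2 : F) • v1 ∈ Ui 1 ⊓ Ui 2 := by
            refine ⟨(Ui 1).sub_mem ((hinvi 1).1 u hu.1 _ ((Ui 1).smul_mem _ hv1m))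
              ((Ui 1).smul_mem _ hv1m), ?_⟩
            rw [show ρ u ((2 : F) • v1) - (2 : F) • v1 = ρ u v2 - v2 by
              linear_combination (norm := module) h7]
            exact (Ui 2).sub_mem ((hinvi 2).1 u hu.1 _ hv2m) hv2m
          rw [hdisj, Submodule.mem_bot, sub_eq_zero] at h8
          refine ⟨h8, ?_⟩
          rw [h8, add_right_inj, neg_inj] at h7
          exact h7
        exact ⟨hzero 1 hne01 _ ((Ui 1).smul_mem _ hv1m) fun u hu => (hc u hu).1,
          hzero 2 hne02 _ hv2m fun u hu => (hc u hu).2⟩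
      rw [hkey.1, hkey.2, neg_zero, add_zero, hv0, sub_eq_zero] at hv0e
      exact hv0e
    obtain ⟨u, hu, hu1⟩ := hσnt
    refine hu1 ((QuotientGroup.eq_one_iff u).mp (?_ : π u = 1))
    have h9 : Q'.map π = ⊥ := by
      rw [← hdat'.hgen, show π a' = 1 from (QuotientGroup.eq_one_iff a').mpr ha1, one_pow,
        Subgroup.zpowers_one_eq_bot, Subgroup.commutator_bot_right]
    exact (Subgroup.mem_bot).mp (h9 ▸ Subgroup.mem_map_of_mem π hu)
  -- the quotient of order four
  let g : Q →* Q'.map π :=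
    (π.subgroupMap Q').comp ((Subgroup.inclusion hQH).codRestrict Q' fun u => u.2)
  have hgs : Function.Surjective g := by
    rintro ⟨_, v, hv, rfl⟩
    exact ⟨⟨v, hv⟩, rfl⟩
  have hCn : ((ctr (Q'.map π)).subgroupOf (Q'.map π)).Normal := ⟨fun c hc y => by
    have h1 := Subgroup.mem_centralizer_iff.mp (Subgroup.mem_subgroupOf.mp hc).2 y y.2
    rw [show y * c * y⁻¹ = c from Subtype.ext (by simp [h1])]
    exact hc⟩
  set C₂ := ((ctr (Q'.map π)).subgroupOf (Q'.map π)).comap g with hC₂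
  have : C₂.Normal := hCn.comap g
  have hidx : C₂.index = 4 := by
    rw [hC₂, Subgroup.index_comap_of_surjective _ hgs]
    have h1 := Subgroup.card_mul_index ((ctr (Q'.map π)).subgroupOf (Q'.map π))
    rw [Nat.card_congr (Subgroup.subgroupOfEquivOfLe inf_le_left).toEquiv, hcardQ,
      mul_comm ((2 ^ 1) ^ 2)] at h1
    have := Nat.eq_of_mul_eq_mul_left Nat.card_pos h1
    simpa using this
  have hmemC : ∀ u : Q, u ∈ C₂ ↔ ∀ y : Q, ⁅(y : G), (u : G)⁆ ∈ R := by
    intro u
    have key : ∀ y : Q, ((g y : Q'.map π) : H ⧸ σ.ker) * g u = g u * g y ↔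
        ⁅(y : G), (u : G)⁆ ∈ R := fun y => by
      rw [← commutatorElement_eq_one_iff_mul_comm]
      show ⁅π _, π _⁆ = 1 ↔ _
      rw [← map_commutatorElement, hπσ]
      exact ⟨fun h => ⟨Q.commutator_le_self (Subgroup.commutator_mem_commutator y.2 u.2), h⟩,
        fun h => h.2⟩
    constructor
    · exact fun hu y => (key y).mp (Subgroup.mem_centralizer_iff.mp hu.2 _ (g y).2)
    · refine fun h => ⟨(g u).2, Subgroup.mem_centralizer_iff.mpr ?_⟩
      rintro z hz
      obtain ⟨y, hy⟩ := hgs ⟨z, hz⟩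
      rw [show z = ((g y : Q'.map π) : H ⧸ σ.ker) from (congrArg Subtype.val hy).symm]
      exact (key y).mpr (h y)
  let α : B →* MulAut Q := (Subgroup.normalizerMonoidHom Q).comp (Subgroup.inclusion hBQ)
  have hα : ∀ (b : B) (u : Q), ((α b u : Q) : G) = b * u * (b : G)⁻¹ := fun b u => rfl
  have hmapC : ∀ b : B, C₂.map (α b).toMonoidHom = C₂ := fun b => by
    refine Subgroup.eq_of_le_of_card_ge ?_ (le_of_eq
      (Subgroup.card_map_of_injective (f := (α b).toMonoidHom) (α b).injective).symm)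
    rintro _ ⟨u, hu, rfl⟩
    refine (hmemC _).mpr fun y => ?_
    show ⁅(y : G), ((α b u : Q) : G)⁆ ∈ R
    rw [hα, show (y : G) = b * ((b : G)⁻¹ * y * b) * (b : G)⁻¹ by group,
      show ⁅(b : G) * ((b : G)⁻¹ * y * b) * (b : G)⁻¹, (b : G) * u * (b : G)⁻¹⁆ =
        b * ⁅(b : G)⁻¹ * y * b, (u : G)⁆ * (b : G)⁻¹ from
        (map_commutatorElement (MulAut.conj (b : G)).toMonoidHom _ _).symm]
    refine Cfsg.Agent.CoprimeAction.conj_mem (hBR b.2) ((hmemC u).mp hu ⟨_, ?_⟩)
    simpa using Cfsg.Agent.CoprimeAction.conj_mem (inv_mem (hBQ b.2)) y.2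
  let f : B →* MulAut (Q ⧸ C₂) :=
    { toFun := fun b => QuotientGroup.congr C₂ C₂ (α b) (hmapC b)
      map_one' := MulEquiv.ext fun z => by
        obtain ⟨u, rfl⟩ := QuotientGroup.mk_surjective z
        show ((α 1 u : Q) : Q ⧸ C₂) = _
        rw [map_one]; rfl
      map_mul' := fun b c => MulEquiv.ext fun z => by
        obtain ⟨u, rfl⟩ := QuotientGroup.mk_surjective z
        show ((α (b * c) u : Q) : Q ⧸ C₂) = ((α b (α c u) : Q) : Q ⧸ C₂)
        rw [map_mul]; rfl }
  have hrange : ∀ x y : B, f x * f y = f y * f x := by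
    let θ : MulAut (Q ⧸ C₂) →* Equiv.Perm {z : Q ⧸ C₂ // z ≠ 1} :=
      { toFun := fun s => s.toEquiv.subtypeEquiv fun z => (map_eq_one_iff s s.injective).not.symm
        map_one' := Equiv.ext fun z => Subtype.ext rfl
        map_mul' := fun s s' => Equiv.ext fun z => Subtype.ext rfl }
    have hθ : Function.Injective θ := by
      intro s s' h
      refine MulEquiv.ext fun z => ?_
      by_cases hz : z = 1
      · rw [hz, map_one, map_one]
      · exact congrArg Subtype.val (Equiv.congr_fun h ⟨z, hz⟩)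
    have hc6 : Nat.card (MulAut (Q ⧸ C₂)) ≤ 6 := by
      have : Fintype (Q ⧸ C₂) := Fintype.ofFinite _
      refine (Nat.card_le_card_of_injective θ hθ).trans_eq ?_
      rw [Nat.card_perm, Nat.card_eq_fintype_card, Fintype.card_subtype_compl,
        Fintype.card_subtype_eq, ← Nat.card_eq_fintype_card, ← Subgroup.index_eq_card, hidx]
      rfl
    have : Fact (Nat.Prime 3) := ⟨Nat.prime_three⟩
    obtain ⟨k, hk⟩ := IsPGroup.iff_card.mp
      (hB.of_surjective f.rangeRestrict f.rangeRestrict_surjective)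
    have h6 : Nat.card f.range ≤ 6 := (Subgroup.card_le_card_group _).trans hc6
    intro x y
    suffices hcomm : ∀ s t : f.range, s * t = t * s by
      exact congrArg Subtype.val (hcomm ⟨f x, x, rfl⟩ ⟨f y, y, rfl⟩)
    rcases k with _ | _ | k
    · rw [pow_zero, Subgroup.card_eq_one] at hk
      intro s t
      refine Subtype.ext ?_
      have hs : (s : MulAut (Q ⧸ C₂)) = 1 := Subgroup.mem_bot.mp (hk ▸ s.2)
      have ht : (t : MulAut (Q ⧸ C₂)) = 1 := Subgroup.mem_bot.mp (hk ▸ t.2)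
      rw [Subgroup.coe_mul, Subgroup.coe_mul, hs, ht]
    · have : IsCyclic f.range := isCyclic_of_prime_card (p := 3) (by simpa using hk)
      let _ : CommGroup f.range := IsCyclic.commGroup
      exact mul_comm
    · exfalso
      have : 3 ^ 2 ≤ 3 ^ (k + 1 + 1) := Nat.pow_le_pow_right (by norm_num) (by omega)
      omega
  have hker : commutator B ≤ f.ker := by
    rw [commutator_def, Subgroup.commutator_le]
    intro x _ y _
    rw [MonoidHom.mem_ker, map_commutatorElement, commutatorElement_eq_one_iff_mul_comm]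
    exact hrange x y
  obtain ⟨aB, haB', haBe⟩ : a ∈ (commutator B).map B.subtype := by
    rw [commutator_def, Subgroup.map_commutator, ← MonoidHom.range_eq_map, Subgroup.range_subtype]
    exact haB
  refine hdat'.not_comm hinj ?_
  have hle : Q'.map π ≤ ctr (Q'.map π) := by
    conv_lhs => rw [← hdat'.hgen, Nat.sub_self, pow_zero, pow_one]
    rw [Subgroup.commutator_le]
    intro y hy z hz
    obtain ⟨u, hu⟩ := hgs ⟨y, hy⟩
    obtain ⟨i, rfl⟩ := mem_powers_iff_mem_zpowers.2 hz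
    have h1 : (((f aB ^ i) (u : Q ⧸ C₂)) : Q ⧸ C₂) = u := by
      rw [hker haB', one_pow]; rfl
    rw [← map_pow] at h1
    have h2 : (α (aB ^ i) u)⁻¹ * u ∈ C₂ := QuotientGroup.eq.mp h1
    have h3 : u * (α (aB ^ i) u)⁻¹ ∈ C₂ := Subgroup.Normal.mem_comm inferInstance h2
    have h4 : ((g (u * (α (aB ^ i) u)⁻¹) : Q'.map π) : H ⧸ σ.ker) ∈ ctr (Q'.map π) := h3
    convert h4 using 1
    rw [show y = ((g u : Q'.map π) : H ⧸ σ.ker) from (congrArg Subtype.val hu).symm]
    show ⁅π _, π a' ^ i⁆ = π _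
    rw [← map_pow, ← map_commutatorElement]
    congr 1
    refine Subtype.ext ?_
    show ⁅(u : G), a ^ i⁆ = (u : G) * ((α (aB ^ i) u : Q) : G)⁻¹
    rw [hα, SubgroupClass.coe_pow, show (aB : G) = a from haBe, commutatorElement_def]
    group
  exact ⟨⟨fun x y => Subtype.ext (Subgroup.mem_centralizer_iff.mp (hle y.2).2 _ x.2)⟩⟩

/-- An abelian commutator subgroup of a normal subgroup of a Sylow `p`-subgroup lies in `O_p`. -/
theorem commutator_le_pCore {p : ℕ} [Fact p.Prime] (hp2 : p ≠ 2) (hG : Cfsg.IsPSolvable p G)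
    (hbot : Cfsg.pPrimeCore p G = ⊥) (P : Sylow p G) {A B : Subgroup G} (hA : A = ⁅B, B⁆)
    (hBP : B ≤ (P : Subgroup G)) (hPB : (P : Subgroup G) ≤ Subgroup.normalizer (B : Set G))
    (hAc : ∀ x ∈ A, ∀ y ∈ A, x * y = y * x) : A ≤ Cfsg.pCore p G := by
  classical
  have hp : p.Prime := Fact.out
  set O := Cfsg.pCore p G
  have hOn : O.Normal := Cfsg.Agent.HallCore.pCore_normal p G
  have hOP : O ≤ (P : Subgroup G) := Cfsg.Agent.HallCore.pCore_le_sylow P
  have hAB : A ≤ B := hA ▸ B.commutator_le_self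
  have hPA : (P : Subgroup G) ≤ Subgroup.normalizer (A : Set G) := by
    rw [hA]; exact le_normalizer_commutator_of_le hPB hPB
  by_contra hle
  let θ : G →* G ⧸ O := QuotientGroup.mk' O
  set Pb := (P : Subgroup G).map θ
  -- an element of `A` outside `O`, central modulo `O`
  have hAbP : A.map θ ≤ Pb := Subgroup.map_mono (hAB.trans hBP)
  set Ab := (A.map θ).subgroupOf Pb
  have hAbn : Ab.Normal := Subgroup.normal_subgroupOf_of_le_normalizer
    ((Subgroup.map_mono hPA).trans (Subgroup.le_normalizer_map θ))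
  have hAb1 : Ab ≠ ⊥ := by
    rw [Ne, Subgroup.subgroupOf_eq_bot]
    intro h
    refine hle fun x hx => (QuotientGroup.eq_one_iff x).mp (Subgroup.mem_bot.mp ?_)
    exact disjoint_iff_inf_le.mp h ⟨Subgroup.mem_map_of_mem θ hx, hAbP (Subgroup.mem_map_of_mem θ hx)⟩
  have hPbp : IsPGroup p Pb := P.2.map θ
  let _ : MulAction Pb Ab := MulAction.compHom Ab (MulAut.conjNormal (H := Ab))
  obtain ⟨c, hcfix, hc1⟩ := hPbp.exists_fixed_point_of_prime_dvd_card_of_fixed_point Ab (by
      obtain ⟨k, hk⟩ := IsPGroup.iff_card.mp (hPbp.to_subgroup Ab)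
      rw [hk]
      refine dvd_pow_self p fun h => hAb1 ?_
      rw [h, pow_zero, Subgroup.card_eq_one] at hk
      exact hk) (a := 1) (fun g => map_one (MulAut.conjNormal g))
  obtain ⟨a, haA, hae⟩ : ((c : Pb) : G ⧸ O) ∈ A.map θ := c.2
  have haO : a ∉ O := fun h => hc1 (Subtype.ext (Subtype.ext (by
    show (1 : G ⧸ O) = ((c : Pb) : G ⧸ O)
    rw [← hae]
    exact ((QuotientGroup.eq_one_iff a).mpr h).symm)))
  have hac : ∀ y ∈ Pb, y * θ a = θ a * y := by
    intro y hy
    have h1 : MulAut.conjNormal (H := Ab) (⟨y, hy⟩ : Pb) c = c := hcfix ⟨y, hy⟩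
    have h2 := congrArg Subtype.val (congrArg Subtype.val h1)
    rw [MulAut.conjNormal_apply, Subgroup.coe_mul, Subgroup.coe_mul, Subgroup.coe_inv, ← hae,
      mul_inv_eq_iff_eq_mul] at h2
    exact h2
  -- the linear relations
  obtain ⟨φ, hφ, hφc⟩ := exists_frattini_action hG hbot
  have hOp : IsPGroup p O := Cfsg.Agent.HallCore.isPGroup_pCore p G
  have hel := (Cfsg.Agent.PGroupsBasic.quotient_frattini_elementary hOp).2
  let _ : CommGroup (↥O ⧸ frattini ↥O) :=
    { (inferInstance : Group (↥O ⧸ frattini ↥O)) with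
      mul_comm := frattini_quotient_comm O hOp }
  let _ : Module (ZMod p) (Additive (↥O ⧸ frattini ↥O)) :=
    AddCommGroup.zmodModule (n := p) fun v =>
      show v.toMul ^ p = 1 from hel v.toMul
  let ψ₀ : G ⧸ O →* AddMonoid.End (Additive (↥O ⧸ frattini ↥O)) :=
    { toFun := fun g => MonoidHom.toAdditive (φ g).toMonoidHom
      map_one' := by rw [map_one]; rfl
      map_mul' := fun a b => by rw [map_mul]; rfl }
  let L : G ⧸ O →* Module.End (ZMod p) (Additive (↥O ⧸ frattini ↥O)) := endHom (p := p) ψ₀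
  have hLinj : Function.Injective L := fun g h hgh => hφ (MulEquiv.ext fun v =>
    Additive.ofMul.injective (LinearMap.congr_fun hgh (Additive.ofMul v)))
  let π : O → Additive (↥O ⧸ frattini ↥O) := fun o => Additive.ofMul ((o : ↥O ⧸ frattini ↥O))
  have hcoO : ∀ (g : G) (o : O), ⁅g, (o : G)⁆ ∈ O := fun g o => by
    rw [commutatorElement_def]
    exact O.mul_mem (hOn.conj_mem _ o.2 g) (O.inv_mem o.2)
  have hcomm : ∀ (g : G) (o : O), (L (θ g) - 1) (π o) = π ⟨⁅g, (o : G)⁆, hcoO g o⟩ := by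
    intro g o
    rw [LinearMap.sub_apply, Module.End.one_apply, sub_eq_iff_eq_add]
    show Additive.ofMul (φ (g : G ⧸ O) ((o : O) : ↥O ⧸ frattini ↥O)) = _
    rw [hφc]
    refine congrArg Additive.ofMul ?_
    show _ = (((⟨⁅g, (o : G)⁆, hcoO g o⟩ : O)) : ↥O ⧸ frattini ↥O) * (o : ↥O ⧸ frattini ↥O)
    rw [← QuotientGroup.mk_mul]
    congr 1
    refine Subtype.ext ?_
    rw [MulAut.conjNormal_apply, Subgroup.coe_mul]
    show g * (o : G) * g⁻¹ = ⁅g, (o : G)⁆ * o
    rw [commutatorElement_def, inv_mul_cancel_right]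
  have hmemA : ∀ g ∈ A, ∀ o ∈ O, ⁅g, o⁆ ∈ A := fun g hg o ho => by
    rw [commutatorElement_def, mul_assoc g, mul_assoc g]
    exact A.mul_mem hg (Cfsg.Agent.CoprimeAction.conj_mem (hPA (hOP ho)) (A.inv_mem hg))
  have hmemB : ∀ g ∈ B, ∀ o ∈ O, ⁅g, o⁆ ∈ B := fun g hg o ho => by
    rw [commutatorElement_def, mul_assoc g, mul_assoc g]
    exact B.mul_mem hg (Cfsg.Agent.CoprimeAction.conj_mem (hPB (hOP ho)) (B.inv_mem hg))
  have hπ1 : ∀ o : O, (o : G) = 1 → π o = 0 := fun o ho => by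
    rw [show o = 1 from Subtype.ext ho]
    rfl
  have hquad : (L (θ a) - 1) * (L (θ a) - 1) = 0 := by
    refine LinearMap.ext fun v => ?_
    obtain ⟨o, ho⟩ := QuotientGroup.mk_surjective v.toMul
    obtain rfl : v = π o := congrArg Additive.ofMul ho.symm
    rw [Module.End.mul_apply, hcomm, hcomm]
    exact hπ1 _ (commutatorElement_eq_one_iff_mul_comm.mpr
      (hAc _ haA _ (hmemA a haA o o.2)))
  have hmix : ∀ y ∈ B.map θ, (L (θ a) - 1) * ((L y - 1) * (L y - 1)) = 0 := by
    rintro _ ⟨b, hb, rfl⟩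
    refine LinearMap.ext fun v => ?_
    obtain ⟨o, ho⟩ := QuotientGroup.mk_surjective v.toMul
    obtain rfl : v = π o := congrArg Additive.ofMul ho.symm
    rw [Module.End.mul_apply, Module.End.mul_apply, hcomm, hcomm, hcomm]
    refine hπ1 _ (commutatorElement_eq_one_iff_mul_comm.mpr (hAc _ haA _ ?_))
    rw [hA]
    exact Subgroup.commutator_mem_commutator hb (hmemB b hb o o.2)
  have haθ : θ a ≠ 1 := fun h => haO ((QuotientGroup.eq_one_iff a).mp h)
  have hnotin : θ a ∉ Cfsg.pCore p (G ⧸ O) := by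
    rw [Cfsg.Agent.HallCore.pCore_quotient_self, Subgroup.mem_bot]
    exact haθ
  obtain ⟨hp3, -⟩ := Cfsg.Agent.QuadraticMain.section_of_psolvable L hp2 hLinj
    (Cfsg.Agent.HallSolvable.isPSolvable_quotient hG O) hquad hnotin
  subst hp3
  have hap : θ a ^ 3 = 1 := Cfsg.Agent.QuadraticMain.pow_eq_one_of_quad L hLinj hquad
  -- a `2`-subgroup normalised by `Pb` and moved by `θ a`
  set M := Cfsg.pPrimeCore 3 (G ⧸ O)
  have hMn : M.Normal := Cfsg.Agent.HallCore.pPrimeCore_normal 3 _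
  have hMcop : (Nat.card M).Coprime 3 := Cfsg.Agent.HallCore.coprime_card_pPrimeCore 3 _
  have hCM : Subgroup.centralizer (M : Set (G ⧸ O)) ≤ M := by
    have hM : M = Cfsg.piCore ({3} : Set ℕ)ᶜ (G ⧸ O) := Cfsg.Agent.HallCore.pPrimeCore_eq_piCore 3 _
    rw [hM]
    refine Cfsg.Agent.HallSolvable.centralizer_piCore_le ((Cfsg.Agent.HallSolvable.isPSolvable_iff 3).mp
      (Cfsg.Agent.HallSolvable.isPSolvable_quotient hG O)).compl ?_
    rw [compl_compl, ← Cfsg.Agent.HallCore.pCore_eq_piCore]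
    exact Cfsg.Agent.HallCore.pCore_quotient_self 3 G
  obtain ⟨q, hq, hqp, Q, hQ, hPQ, hnc⟩ : ∃ q, q.Prime ∧ q ≠ 3 ∧ ∃ Q : Subgroup (G ⧸ O),
      IsPGroup q Q ∧ Pb ≤ Subgroup.normalizer (Q : Set (G ⧸ O)) ∧
      ¬ Q ≤ Subgroup.centralizer {θ a} := by
    by_contra hcon
    push Not at hcon
    have hcop : (Nat.card Pb).Coprime (Nat.card M) := by
      obtain ⟨k, hk⟩ := IsPGroup.iff_card.mp hPbp
      rw [hk]
      exact hMcop.symm.pow_left k
    have hle' : M ≤ Subgroup.centralizer {θ a} := by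
      refine inf_eq_left.mp (Subgroup.eq_of_le_of_card_ge inf_le_left (Nat.le_of_dvd Nat.card_pos ?_))
      refine (Nat.dvd_iff_prime_pow_dvd_dvd _ _).mpr fun q k hq hqk => ?_
      have : Fact q.Prime := ⟨hq⟩
      rcases Nat.eq_zero_or_pos k with rfl | hk
      · exact (pow_zero q).symm ▸ one_dvd _
      have hqp : q ≠ 3 := fun h => by
        subst h
        exact (Nat.Prime.coprime_iff_not_dvd hq).mp hMcop.symm ((dvd_pow_self _ hk.ne').trans hqk)
      obtain ⟨Q, hQ⟩ := Cfsg.Agent.CoprimeAction.exists_invariant_sylow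
        (Subgroup.le_normalizer_of_normal : Pb ≤ _) hcop
        (Or.inl (Cfsg.Agent.CoprimeAction.isSolvable_of_isPGroup hPbp)) q
      have hQc : (Q : Subgroup M).map M.subtype ≤ M ⊓ Subgroup.centralizer {θ a} :=
        le_inf (Subgroup.map_subtype_le _) (hcon q hq hqp _ (Q.isPGroup'.map _) hQ)
      refine dvd_trans ?_ (Subgroup.card_dvd_of_le hQc)
      rw [Subgroup.card_subtype]
      exact Q.pow_dvd_card_of_pow_dvd_card hqk
    have h1 : θ a ∈ M := hCM (Subgroup.mem_centralizer_iff.mpr fun m hm =>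
      Subgroup.mem_centralizer_singleton_iff.mp (hle' hm))
    exact haθ (orderOf_eq_one_iff.mp (Nat.eq_one_of_dvd_coprimes hMcop
      (Subgroup.orderOf_dvd_natCard _ h1) (orderOf_dvd_of_pow_eq_one hap)))
  have : Fact q.Prime := ⟨hq⟩
  have haPb : θ a ∈ Pb := hAbP (Subgroup.mem_map_of_mem θ haA)
  have hN : ∀ v : ↥O ⧸ frattini ↥O,
      ∏ k ∈ Finset.range (3 ^ 1), φ (θ a ^ k) v = 1 := by
    intro v
    apply Additive.ofMul.injective
    rw [ofMul_prod, ofMul_one, pow_one]
    have h4 := LinearMap.congr_fun hquad (Additive.ofMul v)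
    rw [Finset.sum_range_succ, Finset.sum_range_succ, Finset.sum_range_one]
    simp only [Module.End.mul_apply, LinearMap.sub_apply, Module.End.one_apply, map_sub,
      LinearMap.zero_apply] at h4
    rw [pow_two, map_mul, pow_zero, map_one, pow_one]
    show Additive.ofMul v + L (θ a) (Additive.ofMul v) + L (θ a) (L (θ a) (Additive.ofMul v)) = 0
    have h5 : (3 : ZMod 3) • L (θ a) (Additive.ofMul v) = 0 := by
      rw [show (3 : ZMod 3) = 0 from rfl, zero_smul]
    linear_combination (norm := module) h4 + h5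
  obtain ⟨hE, -⟩ := exceptional_of_norm_trivial (V := ↥O ⧸ frattini ↥O) (ℓ := 3) hel φ hp hq
    (Ne.symm hqp) (Ne.symm hqp) le_rfl (x := θ a) (by rw [pow_one]; exact hap) (hPQ haPb) hQ
    (fun u _ hu => hφ (hu.trans (map_one φ).symm))
    (by rw [Nat.sub_self, pow_zero, pow_one]; exact hnc) hN
  obtain ⟨rfl, -⟩ := hE.odd hp (by norm_num) hq
  obtain ⟨Q₁, hQ₁, hPQ₁, hcl, hgen, hnc₁⟩ := exists_class_two_central hQ hPQ haPb hac
    (Nat.Coprime.coprime_dvd_left (orderOf_dvd_of_pow_eq_one hap) (by norm_num)) hnc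
  obtain ⟨n, Φ, hΦ⟩ := exists_endRing (M := Additive (↥O ⧸ frattini ↥O)) (l := 3)
  refine false_of_central_commutator (by
      rw [show (3 : AlgebraicClosure (ZMod 3)) = ((3 : ℕ) : AlgebraicClosure (ZMod 3)) by norm_num,
        CharP.cast_eq_zero_iff (AlgebraicClosure (ZMod 3)) 3])
    (Φ.toMonoidHom.comp L : Representation (AlgebraicClosure (ZMod 3)) (G ⧸ O) _)
    (hΦ.comp hLinj) (Q := Q₁) (B := B.map θ) hap ?_ (hPbp.to_le (Subgroup.map_mono hBP))
    ((Subgroup.map_mono hBP).trans hPQ₁) (fun y hy => hac y (Subgroup.map_mono hBP hy))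
    (hQ.to_le hQ₁) hcl hgen hnc₁ ?_ ?_
  · rw [← Subgroup.map_commutator, ← hA]
    exact Subgroup.mem_map_of_mem θ haA
  · show (Φ (L (θ a)) - 1) * (Φ (L (θ a)) - 1) = 0
    rw [← map_one Φ, ← map_sub, ← map_mul, hquad, map_zero]
  · intro y hy
    show (Φ (L (θ a)) - 1) * ((Φ (L y) - 1) * (Φ (L y) - 1)) = 0
    rw [← map_one Φ, ← map_sub, ← map_sub, ← map_mul, ← map_mul, hmix y hy, map_zero]

/-- The derived length of a Sylow `p`-subgroup bounds the `p`-length for odd `p`. -/
theorem pLengthLE_of_derivedSeries {p : ℕ} [Fact p.Prime] (hp2 : p ≠ 2) (d : ℕ) :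
    ∀ (G : Type*) [Group G] [Finite G], Cfsg.IsPSolvable p G →
      (∀ P : Sylow p G, derivedSeries ↥(P : Subgroup G) d = ⊥) → Cfsg.PLengthLE p d G := by
  induction d with
  | zero =>
    intro G _ _ _ hd
    rw [Cfsg.Agent.HallPLength.pLengthLE_zero_iff, Nat.coprime_comm,
      (Fact.out : p.Prime).coprime_iff_not_dvd]
    intro hdvd
    obtain ⟨P⟩ := (inferInstance : Nonempty (Sylow p G))
    have h := hd P
    rw [derivedSeries_zero] at h
    refine P.ne_bot_of_dvd_card hdvd ?_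
    rw [← Subgroup.range_subtype (P : Subgroup G), MonoidHom.range_eq_map, h, Subgroup.map_bot]
  | succ d ih =>
    intro G _ _ hG hd
    set T1 := Cfsg.Agent.HallPLength.term p G (2 * 0 + 1)
    set T2 := Cfsg.Agent.HallPLength.term p G 2
    have : T1.Normal := Cfsg.Agent.HallPLength.term_two_normal _ _ _
    have : T2.Normal := Cfsg.Agent.HallPLength.term_two_normal _ _ _
    rw [Cfsg.Agent.HallPLength.pLengthLE_succ_iff]
    refine ih (G ⧸ T2) (Cfsg.Agent.HallSolvable.isPSolvable_quotient hG T2) fun P => ?_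
    obtain ⟨P0, rfl⟩ := Sylow.mapSurjective_surjective (QuotientGroup.mk'_surjective T2) p P
    have hderiv : ∀ {K : Type _} [Group K] [Finite K] (f : G →* K) (hf : Function.Surjective f)
        (k : ℕ), (derivedSeries ↥((P0.mapSurjective hf : Sylow p K) : Subgroup K) k).map
          (Subgroup.subtype _) = ((derivedSeries ↥(P0 : Subgroup G) k).map (Subgroup.subtype _)).map f := by
      intro K _ _ f hf k
      show (derivedSeries ↥((P0 : Subgroup G).map f) k).map (Subgroup.subtype _) = _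
      rw [← map_derivedSeries_eq (f.subgroupMap_surjective (P0 : Subgroup G)) k, Subgroup.map_map,
        Subgroup.map_map]
      rfl
    set S1 := P0.mapSurjective (QuotientGroup.mk'_surjective T1)
    have hle : (derivedSeries ↥(S1 : Subgroup (G ⧸ T1)) d).map (Subgroup.subtype _) ≤
        Cfsg.pCore p (G ⧸ T1) := by
      have hd1 : derivedSeries ↥(S1 : Subgroup (G ⧸ T1)) (d + 1) = ⊥ := by
        apply Subgroup.map_injective (Subgroup.subtype_injective _)
        rw [hderiv _ (QuotientGroup.mk'_surjective T1) (d + 1), hd P0]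
        simp
      have hGH := Cfsg.Agent.HallSolvable.isPSolvable_quotient hG T1
      have hbot : Cfsg.pPrimeCore p (G ⧸ T1) = ⊥ :=
        Cfsg.Agent.HallConstrained.pPrimeCore_quotient_upperPSeries 0
      have hcomm : ∀ x ∈ (derivedSeries ↥(S1 : Subgroup (G ⧸ T1)) d).map (Subgroup.subtype _),
          ∀ y ∈ (derivedSeries ↥(S1 : Subgroup (G ⧸ T1)) d).map (Subgroup.subtype _),
            x * y = y * x := by
        rintro _ ⟨x, hx, rfl⟩ _ ⟨y, hy, rfl⟩
        have h1 : ⁅x, y⁆ ∈ derivedSeries ↥(S1 : Subgroup (G ⧸ T1)) (d + 1) := by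
          rw [derivedSeries_succ]
          exact Subgroup.commutator_mem_commutator hx hy
        rw [hd1, Subgroup.mem_bot, commutatorElement_eq_one_iff_mul_comm] at h1
        exact congrArg Subtype.val h1
      rcases d with _ | m
      · intro x hx
        refine Cfsg.Agent.HallSolvable.centralizer_pCore_le hGH hbot ?_
        rw [Subgroup.mem_centralizer_iff]
        intro y hy
        exact hcomm y ⟨⟨y, Cfsg.Agent.HallCore.pCore_le_sylow S1 hy⟩, by simp, rfl⟩ x hx
      · refine commutator_le_pCore hp2 hGH hbot S1 ?_ (Subgroup.map_subtype_le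
          (derivedSeries ↥(S1 : Subgroup (G ⧸ T1)) m)) ?_ hcomm
        · rw [derivedSeries_succ, Subgroup.map_commutator]
        · refine Cfsg.Agent.CoprimeAction.le_normalizer_of_conj_mem ?_
          rintro g hg _ ⟨x, hx, rfl⟩
          exact ⟨⟨g, hg⟩ * x * ⟨g, hg⟩⁻¹,
            (derivedSeries_normal _ m).conj_mem x hx _, rfl⟩
    apply Subgroup.map_injective (Subgroup.subtype_injective _)
    rw [hderiv _ (QuotientGroup.mk'_surjective T2) d, Subgroup.map_bot, eq_bot_iff]
    rintro _ ⟨x, hx, rfl⟩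
    rw [Subgroup.mem_bot]
    refine (QuotientGroup.eq_one_iff x).mpr ?_
    rw [show T2 = (Cfsg.pCore p (G ⧸ T1)).comap (QuotientGroup.mk' T1) from
      Cfsg.Agent.HallConstrained.upperPSeries_even 0, Subgroup.mem_comap]
    refine hle ?_
    rw [hderiv _ (QuotientGroup.mk'_surjective T1) d]
    exact Subgroup.mem_map_of_mem _ hx

end Cfsg.Agent.HallHigman
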