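import Cfsg.Agent.Lib.HallHigmanB

/-!
# Frobenius groups with a one dimensional fixed space of the complement
-/

set_option autoImplicit false

namespace Cfsg.Agent.HallHigman

open Subgroup Module
open scoped commutatorElement

variable {F G : Type*} [Field F] [Group G] [Finite G]

/-- The sum of the values of a non-trivial character vanishes. -/
theorem sum_character_eq_zero {A : Type*} [Group A] [Fintype A] (μ : A →* F) {a : A}
    (ha : μ a ≠ 1) : ∑ z, μ z = 0 := by
  have h1 : μ a * ∑ z, μ z = ∑ z, μ z := by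
    rw [Finset.mul_sum]
    exact Fintype.sum_equiv (Equiv.mulLeft a) _ _ fun z => by simp
  exact (mul_left_eq_self₀.mp h1).resolve_left ha

omit [Finite G] in
/-- An operator of finite order prime to the characteristic with square zero displacement is one. -/
theorem eq_one_of_sq_zero {W : Type*} [AddCommGroup W] [Module F W] {T : Module.End F W} {m : ℕ}
    (hm : (m : F) ≠ 0) (hT : T ^ m = 1) (hsq : (T - 1) * (T - 1) = 0) : T = 1 := by
  have h1 : ∀ k : ℕ, T ^ k = 1 + k • (T - 1) := by
    intro k
    induction k with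
    | zero => simp
    | succ k ih =>
      calc T ^ (k + 1) = (1 + k • (T - 1)) * (1 + (T - 1)) := by rw [pow_succ, ih, add_sub_cancel]
        _ = 1 + (k + 1) • (T - 1) + k • ((T - 1) * (T - 1)) := by
            rw [mul_add, add_mul, add_mul, one_mul, one_mul, mul_one, smul_mul_assoc, succ_nsmul]
            abel
        _ = _ := by rw [hsq, smul_zero, add_zero]
  have h2 := h1 m
  rw [hT, left_eq_add, ← Nat.cast_smul_eq_nsmul F, smul_eq_zero, sub_eq_zero] at h2
  exact h2.resolve_left hm

/-- If `x` of prime order acts fixed point freely on the nilpotent normal subgroup `K` and has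
fixed space of dimension at most one, then the derived subgroup of `K` acts trivially. -/
theorem commutator_acts_trivially [IsAlgClosed F] {K : Subgroup G} [Group.IsNilpotent K]
    [K.Normal] {x : G} {r : ℕ} (hr : r.Prime) (hxr : x ^ r = 1)
    (hfpf : ∀ u ∈ K, x * u = u * x → u = 1) (hcard : (Nat.card G : F) ≠ 0) (n : ℕ) :
    ∀ (W : Type*) [AddCommGroup W] [Module F W] [FiniteDimensional F W] (ρ : Representation F G W),
      finrank F W ≤ n → finrank F (LinearMap.ker (ρ x - 1)) ≤ 1 →
      ∀ a ∈ K, ∀ b ∈ K, ρ ⁅a, b⁆ = 1 := by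
  classical
  induction n using Nat.strong_induction_on with
  | _ n ih =>
  intro W _ _ _ ρ hWn hdim a ha b hb
  by_cases hx1 : x = 1
  · rw [hfpf a ha (by rw [hx1, one_mul, mul_one]), commutatorElement_one_left, map_one]
  have hordx : orderOf x = r := orderOf_eq_prime (hp := ⟨hr⟩) hxr hx1
  have hr0 : (r : F) ≠ 0 := by
    obtain ⟨d, hd⟩ := hordx ▸ orderOf_dvd_natCard x
    exact fun h => hcard (by rw [hd, Nat.cast_mul, h, zero_mul])
  have hKconj : ∀ (g : G), ∀ k ∈ K, g * k * g⁻¹ ∈ K := fun g k hk =>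
    (inferInstance : K.Normal).conj_mem k hk g
  have hfix : ∀ (w : W) {g : G}, ρ g w = w ↔ (ρ g - 1) w = 0 := fun w g => by
    rw [LinearMap.sub_apply, Module.End.one_apply, sub_eq_zero]
  have hsumfix : ∀ (w : W), ρ x (∑ i ∈ Finset.range r, ρ (x ^ i) w) =
      ∑ i ∈ Finset.range r, ρ (x ^ i) w := by
    intro w
    rw [map_sum]
    simp only [← Module.End.mul_apply, ← map_mul, ← pow_succ']
    refine add_right_cancel (b := ρ (x ^ 0) w) ?_
    rw [← Finset.sum_range_succ' (fun i => ρ (x ^ i) w), Finset.sum_range_succ, hxr, pow_zero]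
  by_cases hirr : ∀ U : Submodule F W, (∀ g, ∀ w ∈ U, ρ g w ∈ U) → U = ⊥ ∨ U = ⊤
  swap
  · push Not at hirr
    obtain ⟨U, hU, hU0, hU1⟩ := hirr
    let σ : Representation F G U :=
      { toFun := fun g => (ρ g).restrict (hU g)
        map_one' := LinearMap.ext fun w => Subtype.ext (by simp)
        map_mul' := fun g k => LinearMap.ext fun w => Subtype.ext (by
          show ρ (g * k) w = _; rw [map_mul]; rfl) }
    let τ : Representation F G (W ⧸ U) :=
      { toFun := fun g => U.mapQ U (ρ g) (hU g)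
        map_one' := Submodule.linearMap_qext _ (LinearMap.ext fun w => by simp)
        map_mul' := fun g k => Submodule.linearMap_qext _ (LinearMap.ext fun w => by
          show Submodule.Quotient.mk (ρ (g * k) w) = _; rw [map_mul]; rfl) }
    have hσn : finrank F U < n :=
      lt_of_lt_of_le (Submodule.finrank_lt hU1) hWn
    have hτn : finrank F (W ⧸ U) < n := by
      have h1 := Submodule.finrank_quotient_add_finrank U
      have h2 : 0 < finrank F U := by
        have := Submodule.nontrivial_iff_ne_bot.mpr hU0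
        exact Module.finrank_pos
      omega
    have hσ := ih _ hσn U σ le_rfl (le_trans (LinearMap.finrank_le_finrank_of_injective
      (f := (U.subtype.comp (LinearMap.ker (σ x - 1)).subtype).codRestrict
        (LinearMap.ker (ρ x - 1)) fun w => by
          have h1 := congrArg Subtype.val (LinearMap.mem_ker.mp w.2)
          exact h1) fun v w h => by
            have h' : ((v : U) : W) = (w : U) := congrArg (fun t : LinearMap.ker (ρ x - 1) => (t : W)) h
            exact Subtype.ext (Subtype.ext h')) hdim) a ha b hb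
    have hτ := ih _ hτn (W ⧸ U) τ le_rfl (le_trans (le_trans (Submodule.finrank_mono (t :=
      (LinearMap.ker (ρ x - 1)).map U.mkQ) fun v hv => by
        obtain ⟨w, rfl⟩ := U.mkQ_surjective v
        have h1 : τ x (U.mkQ w) = U.mkQ w := by
          rwa [LinearMap.mem_ker, LinearMap.sub_apply, Module.End.one_apply, sub_eq_zero] at hv
        have hpow : ∀ i : ℕ, τ (x ^ i) (U.mkQ w) = U.mkQ w := fun i => by
          induction i with
          | zero => rw [pow_zero, map_one]; rfl
          | succ i hi => rw [pow_succ, map_mul, Module.End.mul_apply, h1, hi]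
        refine ⟨(r : F)⁻¹ • ∑ i ∈ Finset.range r, ρ (x ^ i) w, LinearMap.mem_ker.mpr
          ((hfix _).mp (by rw [map_smul, hsumfix])), ?_⟩
        rw [map_smul, map_sum]
        have : ∀ i, U.mkQ (ρ (x ^ i) w) = U.mkQ w := fun i => hpow i
        rw [Finset.sum_congr rfl fun i _ => this i, Finset.sum_const, Finset.card_range,
          ← Nat.cast_smul_eq_nsmul F, inv_smul_smul₀ hr0]) (Submodule.finrank_map_le _ _)) hdim)
      a ha b hb
    refine eq_one_of_sq_zero hcard (by rw [← map_pow, pow_card_eq_one', map_one]) ?_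
    refine LinearMap.ext fun w => ?_
    have h1 : (ρ ⁅a, b⁆ - 1) w ∈ U := by
      have h2 := LinearMap.congr_fun hτ (U.mkQ w)
      rw [LinearMap.sub_apply, Module.End.one_apply]
      exact (Submodule.Quotient.eq U).mp h2
    rw [Module.End.mul_apply, LinearMap.zero_apply]
    have h3 := congrArg Subtype.val (LinearMap.congr_fun hσ ⟨_, h1⟩)
    exact (hfix _).mp h3
  by_cases htriv : ∀ k ∈ K, ρ k = 1
  · exact htriv _ ((commutator_le_self K) (commutator_mem_commutator ha hb))
  let Z : Subgroup G :=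
    { carrier := {z | z ∈ K ∧ ∀ k ∈ K, ρ ⁅z, k⁆ = 1}
      one_mem' := ⟨one_mem K, fun k _ => by rw [commutatorElement_one_left, map_one]⟩
      mul_mem' := fun {y z} hy hz => ⟨mul_mem hy.1 hz.1, fun k hk => by
        rw [show ⁅y * z, k⁆ = y * ⁅z, k⁆ * y⁻¹ * ⁅y, k⁆ by simp [commutatorElement_def, mul_assoc],
          map_mul, map_mul, map_mul, hy.2 k hk, hz.2 k hk, mul_one, mul_one, ← map_mul,
          mul_inv_cancel, map_one]⟩
      inv_mem' := fun {z} hz => ⟨inv_mem hz.1, fun k hk => by
        rw [show ⁅z⁻¹, k⁆ = z⁻¹ * ⁅k, z⁆ * z by simp [commutatorElement_def, mul_assoc],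
          ← commutatorElement_inv, map_mul, map_mul]
        have h1 : ρ ⁅z, k⁆⁻¹ = 1 := by
          have := map_mul ρ ⁅z, k⁆ ⁅z, k⁆⁻¹
          rw [mul_inv_cancel, map_one, hz.2 k hk, one_mul] at this
          exact this.symm
        rw [h1, mul_one, ← map_mul, inv_mul_cancel, map_one]⟩ }
  have hZK : ∀ {z : G}, z ∈ Z → z ∈ K := fun hz => hz.1
  have hZcomm : ∀ {z k : G}, z ∈ Z → k ∈ K → ρ z * ρ k = ρ k * ρ z := fun {z k} hz hk => by
    rw [← map_mul, ← map_mul, show z * k = ⁅z, k⁆ * (k * z) by simp [commutatorElement_def, mul_assoc],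
      map_mul, hz.2 k hk, one_mul]
  have hZn : ∀ (g : G), ∀ z ∈ Z, g * z * g⁻¹ ∈ Z := fun g z hz => ⟨hKconj g z hz.1, fun k hk => by
    rw [show ⁅g * z * g⁻¹, k⁆ = g * ⁅z, g⁻¹ * k * g⁆ * g⁻¹ by
        simp [commutatorElement_def, mul_assoc],
      map_mul, map_mul, hz.2 _ (by simpa using hKconj g⁻¹ k hk), mul_one, ← map_mul,
      mul_inv_cancel, map_one]⟩
  obtain ⟨z₀, hz₀, hz₀1⟩ : ∃ z ∈ Z, ρ z ≠ 1 := by
    set f : K →* Module.End F W := ρ.comp K.subtype
    have : Nontrivial (K ⧸ f.ker) := QuotientGroup.nontrivial_iff.mpr fun h => htriv fun k hk =>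
      show f ⟨k, hk⟩ = 1 from f.mem_ker.mp (h ▸ Subgroup.mem_top _)
    have : Nontrivial (Subgroup.center (K ⧸ f.ker)) :=
      (Subgroup.nontrivial_iff_ne_bot _).mpr (Group.IsNilpotent.center_ne_bot _)
    obtain ⟨⟨c, hc⟩, hc1⟩ := exists_ne (1 : Subgroup.center (K ⧸ f.ker))
    obtain ⟨z, rfl⟩ := QuotientGroup.mk_surjective c
    refine ⟨z, ⟨z.2, fun k hk => ?_⟩, fun h => hc1 (Subtype.ext ((QuotientGroup.eq_one_iff z).mpr
      (f.mem_ker.mpr h)))⟩
    show f ⁅z, (⟨k, hk⟩ : K)⁆ = 1
    refine f.mem_ker.mp ((QuotientGroup.eq_one_iff _).mp ?_)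
    change QuotientGroup.mk' f.ker ⁅z, (⟨k, hk⟩ : K)⁆ = 1
    rw [map_commutatorElement, commutatorElement_eq_one_iff_mul_comm]
    exact (Subgroup.mem_center_iff.mp hc _).symm
  -- no fixed vectors of `Z`
  let U₀ : Submodule F W :=
    { carrier := {w | ∀ z ∈ Z, ρ z w = w}
      add_mem' := fun {v w} hv hw z hz => by rw [map_add, hv z hz, hw z hz]
      zero_mem' := fun z _ => map_zero _
      smul_mem' := fun c {w} hw z hz => by rw [map_smul, hw z hz] }
  have hU₀ : U₀ = ⊥ := (hirr U₀ fun g w hw z hz => by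
    rw [← Module.End.mul_apply, ← map_mul, show z * g = g * (g⁻¹ * z * g) by group, map_mul,
      Module.End.mul_apply, hw _ (by simpa using hZn g⁻¹ z hz)]).resolve_right fun h => hz₀1
        (LinearMap.ext fun w => (h.symm ▸ Submodule.mem_top : w ∈ U₀) z₀ hz₀)
  have : Nontrivial W := by
    by_contra h
    rw [not_nontrivial_iff_subsingleton] at h
    exact hz₀1 (Subsingleton.elim _ _)
  obtain ⟨lam, w₀, hw₀, heig⟩ := exists_eigencharacter (ρ.comp Z.subtype)
    fun y z => hZcomm y.2 z.2.1
  have hlam : ∃ z, lam z ≠ 1 := by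
    by_contra h
    push Not at h
    have : w₀ ∈ U₀ := fun z hz => by
      have := heig ⟨z, hz⟩
      rwa [h, one_smul] at this
    rw [hU₀, Submodule.mem_bot] at this
    exact hw₀ this
  let E : Submodule F W :=
    { carrier := {w | ∀ z : Z, ρ z w = lam z • w}
      add_mem' := fun {v w} hv hw z => by rw [map_add, hv z, hw z, smul_add]
      zero_mem' := fun z => by rw [map_zero, smul_zero]
      smul_mem' := fun c {w} hw z => by rw [map_smul, hw z, smul_comm] }
  let S : E →ₗ[F] LinearMap.ker (ρ x - 1) :=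
    ((∑ i ∈ Finset.range r, ρ (x ^ i)).comp E.subtype).codRestrict _ fun w => by
      refine LinearMap.mem_ker.mpr ((hfix _).mp ?_)
      simp only [LinearMap.comp_apply, LinearMap.sum_apply]
      exact hsumfix _
  have hS : Function.Injective S := by
    rw [← LinearMap.ker_eq_bot, eq_bot_iff]
    intro w hw
    have : Fintype Z := Fintype.ofFinite Z
    have h0 : ∑ i ∈ Finset.range r, ρ (x ^ i) (w : W) = 0 := by
      have := congrArg Subtype.val (LinearMap.mem_ker.mp hw)
      simpa [S] using this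
    have hterm : ∀ i ∈ Finset.range r, ∑ z : Z, lam z⁻¹ • ρ z (ρ (x ^ i) (w : W)) =
        if i = 0 then (Nat.card Z : F) • (w : W) else 0 := by
      intro i hi
      have hconj : ∀ z : Z, ρ z (ρ (x ^ i) (w : W)) =
          lam ⟨(x ^ i)⁻¹ * z * x ^ i, by simpa using hZn (x ^ i)⁻¹ z z.2⟩ • ρ (x ^ i) (w : W) := by
        intro z
        rw [← Module.End.mul_apply, ← map_mul,
          show (z : G) * x ^ i = x ^ i * ((x ^ i)⁻¹ * z * x ^ i) by group, map_mul,
          Module.End.mul_apply, ← map_smul]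
        exact congrArg (ρ (x ^ i)) (w.2 ⟨_, _⟩)
      simp only [hconj, smul_smul]
      rw [← Finset.sum_smul]
      split_ifs with h
      · subst h
        rw [pow_zero, map_one, Module.End.one_apply]
        congr 1
        rw [Finset.sum_eq_card_nsmul (b := 1), nsmul_one, Finset.card_univ, Nat.card_eq_fintype_card]
        intro z _
        rw [← map_mul, show z⁻¹ * _ = (1 : Z) from Subtype.ext (by simp), map_one]
      · let c : Z →* Z :=
          { toFun := fun z => ⟨(x ^ i)⁻¹ * z * x ^ i, by simpa using hZn (x ^ i)⁻¹ z z.2⟩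
            map_one' := Subtype.ext (by simp)
            map_mul' := fun y z => Subtype.ext (by simp [mul_assoc]) }
        let μ : Z →* F :=
          { toFun := fun z => lam z⁻¹ * lam (c z)
            map_one' := by simp
            map_mul' := fun y z => by
              rw [mul_inv_rev, map_mul, map_mul c, map_mul lam]; ring }
        obtain ⟨v, hv⟩ : ∃ z, μ z ≠ 1 := by
          by_contra hall
          push Not at hall
          obtain ⟨z₁, hz₁⟩ := hlam
          let d : Z → Z := fun u => u⁻¹ * ⟨x ^ i * u * (x ^ i)⁻¹, hZn _ u u.2⟩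
          have hd : Function.Injective d := fun u v huv => by
            have h1 : (u : G)⁻¹ * (x ^ i * u * (x ^ i)⁻¹) = (v : G)⁻¹ * (x ^ i * v * (x ^ i)⁻¹) :=
              congrArg Subtype.val huv
            have h2 : x ^ i * ((v : G) * (u : G)⁻¹) = ((v : G) * (u : G)⁻¹) * x ^ i := by
              calc x ^ i * ((v : G) * (u : G)⁻¹)
                  = (v : G) * ((v : G)⁻¹ * (x ^ i * v * (x ^ i)⁻¹)) * (x ^ i * (u : G)⁻¹) := by group
                _ = (v : G) * ((u : G)⁻¹ * (x ^ i * u * (x ^ i)⁻¹)) * (x ^ i * (u : G)⁻¹) := by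
                    rw [h1]
                _ = _ := by group
            obtain ⟨j, hj⟩ : ∃ j : ℕ, (x ^ i) ^ j = x := by
              have hcop : (i : ℕ).Coprime (orderOf x) := by
                rw [hordx, Nat.coprime_comm]
                exact hr.coprime_iff_not_dvd.mpr
                  (Nat.not_dvd_of_pos_of_lt (Nat.pos_of_ne_zero h) (Finset.mem_range.mp hi))
              exact exists_pow_eq_self_of_coprime hcop
            have h3 := hfpf _ (mul_mem v.2.1 (inv_mem u.2.1)) (by
              rw [← hj]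
              exact ((show Commute (x ^ i) _ from h2).pow_left j).eq)
            exact Subtype.ext (mul_inv_eq_one.mp h3).symm
          obtain ⟨u, hu⟩ := (Finite.injective_iff_surjective.mp hd) z₁
          refine hz₁ ?_
          have h1 := hall ⟨x ^ i * u * (x ^ i)⁻¹, hZn _ u u.2⟩
          have h2 : c ⟨x ^ i * u * (x ^ i)⁻¹, hZn _ u u.2⟩ = u := Subtype.ext (by simp [c, mul_assoc])
          change lam _ * lam (c _) = 1 at h1
          rw [h2, ← map_mul] at h1
          have h3 : lam z₁⁻¹ = 1 := by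
            refine (congrArg lam ?_).trans h1
            rw [← hu]
            exact Subtype.ext (by simp [d, mul_assoc])
          calc lam z₁ = lam z₁ * lam z₁⁻¹ := by rw [h3, mul_one]
            _ = 1 := by rw [← map_mul, mul_inv_cancel, map_one]
        have h4 := sum_character_eq_zero μ hv
        show (∑ z : Z, μ z) • _ = 0
        rw [h4, zero_smul]
    have h5 : ∑ z : Z, lam z⁻¹ • ρ z (∑ i ∈ Finset.range r, ρ (x ^ i) (w : W)) =
        (Nat.card Z : F) • (w : W) := by
      simp only [map_sum, Finset.smul_sum]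
      rw [Finset.sum_comm, Finset.sum_congr rfl hterm, Finset.sum_ite_eq']
      simp [hr.pos]
    rw [h0] at h5
    simp only [map_zero, smul_zero, Finset.sum_const_zero] at h5
    rcases smul_eq_zero.mp h5.symm with h6 | h6
    · obtain ⟨d, hd⟩ := Subgroup.card_subgroup_dvd_card Z
      exact absurd (by rw [hd, Nat.cast_mul, h6, zero_mul]) hcard
    · exact Subtype.ext h6
  obtain ⟨v, hv⟩ := finrank_le_one_iff.mp ((LinearMap.finrank_le_finrank_of_injective hS).trans hdim)
  have hline : ∀ k ∈ K, ∃ c : F, ρ k w₀ = c • w₀ := by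
    intro k hk
    have h1 : ρ k w₀ ∈ E := fun z => by
      rw [← Module.End.mul_apply, hZcomm z.2 hk, Module.End.mul_apply]
      exact (congrArg (ρ k) (heig z)).trans (map_smul _ _ _)
    obtain ⟨c₁, hc₁⟩ := hv ⟨w₀, heig⟩
    obtain ⟨c₂, hc₂⟩ := hv ⟨_, h1⟩
    have hc₁0 : c₁ ≠ 0 := by
      rintro rfl
      rw [zero_smul] at hc₁
      exact hw₀ (congrArg Subtype.val hc₁).symm
    refine ⟨c₂ / c₁, ?_⟩
    have e1 := congrArg Subtype.val hc₁
    have e2 := congrArg Subtype.val hc₂
    simp only [Submodule.coe_smul] at e1 e2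
    rw [← e2, ← e1, smul_smul, div_mul_cancel₀ _ hc₁0]
  let T : Submodule F W :=
    { carrier := {w | ∀ y ∈ K, ∀ z ∈ K, ρ ⁅y, z⁆ w = w}
      add_mem' := fun {v w} hv hw y hy z hz => by rw [map_add, hv y hy z hz, hw y hy z hz]
      zero_mem' := fun y _ z _ => map_zero _
      smul_mem' := fun c {w} hw y hy z hz => by rw [map_smul, hw y hy z hz] }
  have hw₀T : w₀ ∈ T := fun y hy z hz => by
    obtain ⟨c, hc⟩ := hline y hy
    obtain ⟨d, hd⟩ := hline z hz
    have h1 : ρ (y * z) w₀ = ρ (z * y) w₀ := by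
      rw [map_mul, map_mul, Module.End.mul_apply, Module.End.mul_apply, hc, hd, map_smul, map_smul,
        hc, hd, smul_comm]
    obtain ⟨e, he⟩ := hline (y⁻¹ * z⁻¹) (mul_mem (inv_mem hy) (inv_mem hz))
    have h2 : ρ (y * z) (ρ (y⁻¹ * z⁻¹) w₀) = ρ (z * y) (ρ (y⁻¹ * z⁻¹) w₀) := by
      rw [he, map_smul, map_smul, h1]
    rw [← Module.End.mul_apply, ← Module.End.mul_apply, ← map_mul, ← map_mul,
      show z * y * (y⁻¹ * z⁻¹) = (1 : G) by group, map_one, Module.End.one_apply,
      show y * z * (y⁻¹ * z⁻¹) = ⁅y, z⁆ by group] at h2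
    exact h2
  have hT : T = ⊤ := (hirr T fun g w hw y hy z hz => by
    rw [← Module.End.mul_apply, ← map_mul,
      show ⁅y, z⁆ * g = g * ⁅g⁻¹ * y * g, g⁻¹ * z * g⁆ by simp [commutatorElement_def, mul_assoc],
      map_mul, Module.End.mul_apply,
      hw _ (by simpa using hKconj g⁻¹ y hy) _ (by simpa using hKconj g⁻¹ z hz)]).resolve_left
        fun h => hw₀ (by simpa [h] using hw₀T)
  exact LinearMap.ext fun w => (hT.symm ▸ Submodule.mem_top : w ∈ T) a ha b hb

end Cfsg.Agent.HallHigman
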