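import Cfsg.Agent.Lib.HallHigmanFixedLine
import Cfsg.Agent.Lib.HallHigmanRep
import Cfsg.Agent.Lib.FrobeniusNilpotent

/-!
# Frobenius groups acting with a fixed point group of prime order
-/

set_option autoImplicit false

namespace Cfsg.Agent.HallHigman

open Subgroup Module
open scoped commutatorElement

/-- An extension of scalars in which an element with at most one fixed line keeps that property. -/
theorem exists_rep_fixed_line_aux {G M : Type*} [Group G] [AddCommGroup M] [Finite M] {ℓ : ℕ}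
    [Fact ℓ.Prime] [Module (ZMod ℓ) M] (ψ : G →* AddMonoid.End M) {x : G} {r : ℕ}
    (hr : (r : ZMod ℓ) ≠ 0) (v₀ : M)
    (hfix : ∀ v, ψ x v = v → v ∈ AddSubgroup.zmultiples v₀) (hxr : x ^ r = 1) :
    ∃ (n : ℕ) (ρ : Representation (AlgebraicClosure (ZMod ℓ)) G
        (Fin n → AlgebraicClosure (ZMod ℓ))),
      (∀ g, ρ g = 1 → ∀ v, ψ g v = v) ∧
      finrank (AlgebraicClosure (ZMod ℓ)) (LinearMap.ker (ρ x - 1)) ≤ 1 := by
  classical
  let L : G →* Module.End (ZMod ℓ) M :=
    { toFun := fun g => AddMonoidHom.toZModLinearMap ℓ (ψ g)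
      map_one' := LinearMap.ext fun v => by
        show (ψ 1) v = v
        rw [map_one]
        rfl
      map_mul' := fun a b => LinearMap.ext fun v => by
        show (ψ (a * b)) v = (ψ a) ((ψ b) v)
        rw [map_mul]
        rfl }
  let K := AlgebraicClosure (ZMod ℓ)
  let bV := Module.finBasis (ZMod ℓ) M
  let n := Module.finrank (ZMod ℓ) M
  let a := algebraMap (ZMod ℓ) K
  let Φ : Module.End (ZMod ℓ) M →+* Module.End K (Fin n → K) :=
    (((Matrix.toLinAlgEquiv' (R := K) (n := Fin n)).toRingEquiv.toRingHom).comp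
      a.mapMatrix).comp (LinearMap.toMatrixAlgEquiv bV).toRingEquiv.toRingHom
  have hΦ : Function.Injective Φ := by
    intro A B h
    have h1 := (Matrix.toLinAlgEquiv' (R := K) (n := Fin n)).injective h
    exact (LinearMap.toMatrixAlgEquiv bV).injective (Matrix.map_injective a.injective h1)
  set S : Module.End (ZMod ℓ) M := ∑ i ∈ Finset.range r, L (x ^ i) with hS
  have hS' : ∀ v, S v ∈ Submodule.span (ZMod ℓ) {v₀} := by
    intro v
    refine (show AddSubgroup.zmultiples v₀ ≤ (Submodule.span (ZMod ℓ) {v₀}).toAddSubgroup from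
      AddSubgroup.zmultiples_le.mpr (Submodule.mem_span_singleton_self v₀)) (hfix _ ?_)
    show L x _ = _
    rw [hS, LinearMap.sum_apply, map_sum]
    simp only [← Module.End.mul_apply, ← map_mul, ← pow_succ']
    refine add_right_cancel (b := L (x ^ 0) v) ?_
    rw [← Finset.sum_range_succ' (fun i => L (x ^ i) v), Finset.sum_range_succ, hxr, pow_zero]
  choose c hc using fun i => Submodule.mem_span_singleton.mp (hS' (bV i))
  let u : Fin n → K := fun j => a (bV.repr v₀ j)
  have hrange : ∀ w, Φ S w ∈ Submodule.span K {u} := by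
    intro w
    refine Submodule.mem_span_singleton.mpr ⟨∑ i, a (c i) * w i, funext fun j => ?_⟩
    show _ = Matrix.mulVec (a.mapMatrix (LinearMap.toMatrixAlgEquiv bV S)) w j
    rw [Pi.smul_apply, smul_eq_mul, Finset.sum_mul, Matrix.mulVec, dotProduct]
    refine Finset.sum_congr rfl fun i _ => ?_
    rw [RingHom.mapMatrix_apply, Matrix.map_apply, LinearMap.toMatrixAlgEquiv_apply, ← hc i,
      map_smul, Finsupp.smul_apply, smul_eq_mul, map_mul]
    ring
  refine ⟨n, (Φ.toMonoidHom).comp L, fun g hg v =>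
    LinearMap.congr_fun (show L g = 1 from hΦ ?_) v, ?_⟩
  · rw [map_one]
    exact hg
  · refine (Submodule.finrank_mono (t := Submodule.span K {u}) fun w hw => ?_).trans
      ((finrank_span_le_card ({u} : Set (Fin n → K))).trans (by simp))
    rw [LinearMap.mem_ker, LinearMap.sub_apply, Module.End.one_apply, sub_eq_zero] at hw
    have hpow : ∀ i : ℕ, Φ (L (x ^ i)) w = w := by
      intro i
      induction i with
      | zero => rw [pow_zero, map_one, map_one]; rfl
      | succ i hi =>
        rw [pow_succ, map_mul, map_mul, Module.End.mul_apply,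
          show Φ (L x) w = w from hw, hi]
    have h1 : Φ S w = (r : K) • w := by
      rw [hS, map_sum, LinearMap.sum_apply, Finset.sum_congr rfl fun i _ => hpow i,
        Finset.sum_const, Finset.card_range, Nat.cast_smul_eq_nsmul]
    have hr0 : (r : K) ≠ 0 := by
      rw [← map_natCast a]
      exact (_root_.map_ne_zero a).mpr hr
    rw [← inv_smul_smul₀ hr0 w, ← h1]
    exact Submodule.smul_mem _ _ (hrange w)

/-- The multiplicative form of the previous lemma. -/
theorem exists_rep_fixed_line {G V : Type*} [Group G] [CommGroup V] [Finite V] {ℓ : ℕ}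
    [Fact ℓ.Prime] (hV : ∀ v : V, v ^ ℓ = 1) (φ : G →* MulAut V) {x : G} {r : ℕ}
    (hr : (r : ZMod ℓ) ≠ 0) (v₀ : V) (hfix : ∀ v, φ x v = v → v ∈ Subgroup.zpowers v₀)
    (hxr : x ^ r = 1) :
    ∃ (n : ℕ) (ρ : Representation (AlgebraicClosure (ZMod ℓ)) G
        (Fin n → AlgebraicClosure (ZMod ℓ))),
      (∀ g, ρ g = 1 → φ g = 1) ∧
      finrank (AlgebraicClosure (ZMod ℓ)) (LinearMap.ker (ρ x - 1)) ≤ 1 := by
  let ψ : G →* AddMonoid.End (Additive V) :=
    { toFun := fun g => MonoidHom.toAdditive (φ g).toMonoidHom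
      map_one' := by rw [map_one]; rfl
      map_mul' := fun a b => by rw [map_mul]; rfl }
  obtain ⟨n, ρ, h1, h2⟩ := @exists_rep_fixed_line_aux G (Additive V) _ _ _ ℓ _
    (AddCommGroup.zmodModule fun v => hV v.toMul) ψ x r hr (Additive.ofMul v₀) (fun v hv => by
      obtain ⟨k, hk⟩ := mem_zpowers_iff.mp (hfix v.toMul (congrArg Additive.toMul hv))
      exact AddSubgroup.mem_zmultiples_iff.mpr ⟨k, congrArg Additive.ofMul hk⟩) hxr
  exact ⟨n, ρ, fun g hg => MulEquiv.ext fun v => Additive.ofMul.injective (h1 g hg (Additive.ofMul v)),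
    h2⟩

/-- If the complement of prime order of a Frobenius group has fixed point group of order `ℓ` on
the module `V`, the derived subgroup of the kernel centralises `V`. -/
theorem commutator_kernel_le_centralizer {X : Type*} [Group X] [Finite X] {G V : Subgroup X}
    {ℓ : ℕ} (hℓ : ℓ.Prime) (hV : Cfsg.IsElementaryAbelian ℓ V) (hℓG : ¬ ℓ ∣ Nat.card G)
    (hGV : G ≤ normalizer (V : Set X)) {R : Subgroup G} (hR : Cfsg.IsFrobeniusComplement R)
    (hRp : (Nat.card R).Prime)
    (hCV : Nat.card ↥(V ⊓ centralizer ((R.map G.subtype : Subgroup X) : Set X)) = ℓ) :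
    ⁅Subgroup.closure (Subtype.val '' Cfsg.frobeniusKernel R),
      Subgroup.closure (Subtype.val '' Cfsg.frobeniusKernel R)⁆ ≤ centralizer (V : Set X) := by
  classical
  obtain ⟨K, hK, hKn, hc, hKnil⟩ := FrobeniusNilpotent.exists_nilpotent_kernel hR
  have hcl : Subgroup.closure (Subtype.val '' Cfsg.frobeniusKernel R) = K.map G.subtype := by
    rw [← hK, show (Subtype.val '' (K : Set G)) = ((K.map G.subtype : Subgroup X) : Set X) from rfl,
      closure_eq]
  rw [hcl]
  have := Fact.mk hℓ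
  let _ : CommGroup V := { (inferInstance : Group V) with mul_comm := hV.1.is_comm.comm }
  set φ := actOn hGV with hφ
  obtain ⟨v, hv⟩ : ∃ v : ↥(V ⊓ centralizer ((R.map G.subtype : Subgroup X) : Set X)), v ≠ 1 := by
    have : Nontrivial ↥(V ⊓ centralizer ((R.map G.subtype : Subgroup X) : Set X)) :=
      Finite.one_lt_card_iff_nontrivial.mp (hCV ▸ hℓ.one_lt)
    exact exists_ne 1
  have : IsCyclic R := isCyclic_of_prime_card (hp := ⟨hRp⟩) rfl
  obtain ⟨g, hg⟩ := IsCyclic.exists_generator (α := R)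
  have hgr : (g : G) ^ Nat.card R = 1 := by rw [← coe_pow, pow_card_eq_one', coe_one]
  have hr0 : ((Nat.card R : ℕ) : ZMod ℓ) ≠ 0 := fun h =>
    hℓG (((ZMod.natCast_eq_zero_iff _ _).mp h).trans (card_subgroup_dvd_card R))
  obtain ⟨n, ρ, hρ, hdim⟩ := exists_rep_fixed_line (fun w : V => Subtype.ext (hV.2 w w.2)) φ
    (x := (g : G)) hr0 (⟨(v : X), v.2.1⟩ : V) (fun w hw => by
      have h1 : ((g : G) : X) * (w : X) * ((g : G) : X)⁻¹ = w := congrArg Subtype.val hw
      have h2 : (w : X) ∈ V ⊓ centralizer ((R.map G.subtype : Subgroup X) : Set X) := by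
        refine ⟨w.2, mem_centralizer_iff.mpr ?_⟩
        rintro _ ⟨y, hy, rfl⟩
        obtain ⟨k, hk⟩ := mem_zpowers_iff.mp (hg ⟨y, hy⟩)
        have hy' : (y : X) = ((g : G) : X) ^ k := by
          rw [← coe_zpow, ← coe_zpow, hk]
        show (y : X) * _ = _ * (y : X)
        rw [hy']
        exact ((show Commute ((g : G) : X) _ from mul_inv_eq_iff_eq_mul.mp h1).zpow_left k).eq
      obtain ⟨k, hk⟩ := mem_zpowers_iff.mp
        (mem_zpowers_of_prime_card hCV hv (g' := ⟨_, h2⟩))
      refine mem_zpowers_iff.mpr ⟨k, Subtype.ext ?_⟩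
      have := congrArg Subtype.val hk
      rw [coe_zpow] at this ⊢
      exact this) hgr
  have hcard : ((Nat.card G : ℕ) : AlgebraicClosure (ZMod ℓ)) ≠ 0 := by
    rwa [Ne, CharP.cast_eq_zero_iff (AlgebraicClosure (ZMod ℓ)) ℓ]
  have hfpf : ∀ u ∈ K, (g : G) * u = u * (g : G) → u = 1 := by
    intro u hu hgu
    have hg1 : (g : G) ≠ 1 := fun h => by
      have h1 : orderOf g = 1 := orderOf_eq_one_iff.mpr (Subtype.ext h)
      rw [orderOf_eq_card_of_forall_mem_zpowers hg] at h1
      exact hRp.one_lt.ne' h1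
    have h1 : u ∈ K ⊓ centralizer {(g : G)} := ⟨hu, mem_centralizer_singleton_iff.mpr hgu.symm⟩
    rwa [FrobeniusBasic.fpf_of_complement hR hc.disjoint _ g.2 hg1, mem_bot] at h1
  rw [commutator_le]
  rintro _ ⟨y, hy, rfl⟩ _ ⟨z, hz, rfl⟩
  rw [← map_commutatorElement]
  exact (actOn_eq_one hGV _).mp
    (hρ _ (commutator_acts_trivially hRp hgr hfpf hcard _ _ ρ le_rfl hdim y hy z hz))

end Cfsg.Agent.HallHigman
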