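import Cfsg.Agent.Lib.FrobeniusFPF

/-!
# Commutators of automorphisms moving an irreducible submodule
-/

set_option autoImplicit false

namespace Cfsg.Agent.HallHigman

open Subgroup

/-- Let `U` be the commutator of `g` on an abelian `p'`-group `M`, irreducible under an element `y`
commuting with `g` and with `c = [g, h]`. If `c` commutes with `g` and `h` then `c = 1`. -/
theorem commutator_eq_one_of_irreducible {M : Type*} [CommGroup M] [Finite M] {p : ℕ}
    (hp : p.Prime) (hp2 : p ≠ 2) (hcop : p.Coprime (Nat.card M)) {g h c y : MulAut M}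
    (hg : g ^ p = 1) (hc : c = g * h * g⁻¹ * h⁻¹) (hcg : Commute c g) (hch : Commute c h)
    (hcy : Commute c y) (hyg : Commute y g) {U : Subgroup M}
    (hU : ∀ m, m ∈ U ↔ ∃ n, g n * n⁻¹ = m)
    (hirr : ∀ U' ≤ U, (∀ m ∈ U', y m ∈ U') → U' = ⊥ ∨ U' = U) : c = 1 := by
  classical
  have := Fact.mk hp
  have hpM : ∀ d : M, d ^ p = 1 → d = 1 := fun d hd => orderOf_eq_one_iff.mp
    (Nat.eq_one_of_dvd_coprimes hcop (orderOf_dvd_of_pow_eq_one hd) (orderOf_dvd_natCard d))
  have hghg : g * h * g⁻¹ = c * h := by rw [hc, inv_mul_cancel_right]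
  have hcp : c ^ p = 1 := by
    have h1 : ∀ k : ℕ, g ^ k * h * (g ^ k)⁻¹ = c ^ k * h := by
      intro k
      induction k with
      | zero => simp
      | succ k ih =>
        calc g ^ (k + 1) * h * (g ^ (k + 1))⁻¹ = g * (g ^ k * h * (g ^ k)⁻¹) * g⁻¹ := by
              rw [pow_succ']; group
          _ = g * c ^ k * h * g⁻¹ := by rw [ih]; simp only [mul_assoc]
          _ = c ^ k * (g * h * g⁻¹) := by rw [← (hcg.pow_left k).eq]; simp only [mul_assoc]
          _ = c ^ (k + 1) * h := by rw [hghg, ← mul_assoc, pow_succ]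
    have h2 := h1 p
    rw [hg, one_mul, inv_one, mul_one] at h2
    exact mul_right_cancel (h2.symm.trans (one_mul h).symm)
  have hstab : ∀ s : MulAut M, Commute s g → ∀ m ∈ U, s m ∈ U := by
    intro s hs m hm
    obtain ⟨n, rfl⟩ := (hU m).mp hm
    refine (hU _).mpr ⟨s n, ?_⟩
    rw [map_mul, map_inv, ← MulAut.mul_apply _ s g, hs.eq, MulAut.mul_apply]
  have hgn : ∀ n, g n * n⁻¹ ∈ U := fun n => (hU _).mpr ⟨n, rfl⟩
  by_cases hU0 : U = ⊥
  · have hg1 : g = 1 := MulEquiv.ext fun n => by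
      have h1 := hgn n
      rw [hU0, mem_bot] at h1
      exact mul_inv_eq_one.mp h1
    rw [hc, hg1]
    simp
  -- restriction to `U`
  let C : Subgroup (MulAut M) := centralizer {g}
  have hC : ∀ s, s ∈ C ↔ Commute s g := fun s => mem_centralizer_singleton_iff
  let res : C →* MulAut U :=
    { toFun := fun s =>
        { toFun := fun m => ⟨(s : MulAut M) m, hstab _ ((hC _).mp s.2) m m.2⟩
          invFun := fun m => ⟨(s : MulAut M)⁻¹ m, hstab _ ((hC _).mp s.2).inv_left m m.2⟩
          left_inv := fun m => Subtype.ext ((s : MulAut M).symm_apply_apply m)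
          right_inv := fun m => Subtype.ext ((s : MulAut M).apply_symm_apply m)
          map_mul' := fun m n => Subtype.ext (map_mul (s : MulAut M) (m : M) n) }
      map_one' := MulEquiv.ext fun m => rfl
      map_mul' := fun s t => MulEquiv.ext fun m => rfl }
  let yU : MulAut U := res ⟨y, (hC y).mpr hyg⟩
  let L : Subgroup (MulAut U) := centralizer {yU}
  have hmemL : ∀ {s : MulAut M} (hs : s ∈ C), Commute s y → res ⟨s, hs⟩ ∈ L := fun {s} hs hsy => by
    rw [show L = centralizer {yU} from rfl, mem_centralizer_singleton_iff]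
    show res _ * res _ = res _ * res _
    rw [← map_mul, ← map_mul]
    exact congrArg res (Subtype.ext hsy.eq)
  have : Nontrivial U := (nontrivial_iff_ne_bot U).mpr hU0
  have hfpf : FrobeniusFPF.IsFPF L U := by
    intro s hs m hm
    let U' : Subgroup M :=
      { carrier := {n | ∃ hn : n ∈ U, (s : MulAut U) ⟨n, hn⟩ = ⟨n, hn⟩}
        one_mem' := ⟨one_mem U, map_one (s : MulAut U)⟩
        mul_mem' := fun {a b} ha hb => by
          obtain ⟨ha, ha'⟩ := ha
          obtain ⟨hb, hb'⟩ := hb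
          refine ⟨mul_mem ha hb, ?_⟩
          rw [show (⟨a * b, mul_mem ha hb⟩ : U) = ⟨a, ha⟩ * ⟨b, hb⟩ from rfl, map_mul, ha', hb']
        inv_mem' := fun {a} ha => by
          obtain ⟨ha, ha'⟩ := ha
          refine ⟨inv_mem ha, ?_⟩
          rw [show (⟨a⁻¹, inv_mem ha⟩ : U) = (⟨a, ha⟩ : U)⁻¹ from rfl, map_inv, ha'] }
    rcases hirr U' (fun n hn => hn.1) (fun n hn => by
      obtain ⟨hn, hn'⟩ := hn
      refine ⟨hstab y hyg n hn, ?_⟩
      have h1 := DFunLike.congr_fun (mem_centralizer_singleton_iff.mp s.2) ⟨n, hn⟩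
      show (s : MulAut U) (yU ⟨n, hn⟩) = yU ⟨n, hn⟩
      rw [← MulAut.mul_apply, h1, MulAut.mul_apply, hn']) with h1 | h1
    · have h2 : (m : M) ∈ U' := ⟨m.2, hm⟩
      rw [h1, mem_bot] at h2
      exact Subtype.ext h2
    · refine absurd (Subtype.ext (MulEquiv.ext fun n => ?_)) hs
      have h3 : (n : M) ∈ U' := by rw [h1]; exact n.2
      obtain ⟨_, h4⟩ := h3
      exact h4
  by_cases hcU : ∀ m ∈ U, c m = m
  · -- `c` trivial on `U`
    refine MulEquiv.ext fun m => ?_
    set n := h⁻¹ m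
    obtain ⟨u, hu, hun⟩ : ∃ u ∈ U, g⁻¹ n = n * u := by
      refine ⟨n⁻¹ * g⁻¹ n, ?_, by rw [mul_inv_cancel_left]⟩
      have h1 := inv_mem (hgn (g⁻¹ n))
      rwa [MulAut.apply_inv_self, mul_inv_rev, inv_inv, mul_comm] at h1
    have hm : c m = (g m * m⁻¹) * (g (h u) * (h u)⁻¹) * h u * m := by
      rw [hc]
      simp only [MulAut.mul_apply]
      rw [show h⁻¹ m = n from rfl, hun, map_mul, map_mul, show h n = m from h.apply_symm_apply m]
      calc g m * g (h u) = g m * g (h u) * ((h u)⁻¹ * h u) * (m⁻¹ * m) := by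
            rw [inv_mul_cancel, inv_mul_cancel, mul_one, mul_one]
        _ = _ := by ac_rfl
    set δ := (g m * m⁻¹) * (g (h u) * (h u)⁻¹) * h u
    have hcδ : c δ = δ := by
      rw [map_mul, map_mul, hcU _ (hgn m), hcU _ (hgn (h u)), ← MulAut.mul_apply _ c h, hch.eq,
        MulAut.mul_apply, hcU u hu]
    have hpow : ∀ k : ℕ, (c ^ k) m = δ ^ k * m := by
      intro k
      induction k with
      | zero => simp
      | succ k ih =>
        rw [pow_succ', MulAut.mul_apply, ih, map_mul, map_pow, hcδ, hm, pow_succ]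
        simp only [mul_assoc]
    have h2 := hpow p
    rw [hcp, MulAut.one_apply, right_eq_mul] at h2
    rw [hm, hpM δ h2, one_mul, MulAut.one_apply]
  · -- `c` fixed point free on `U`
    exfalso
    push Not at hcU
    obtain ⟨m₀, hm₀, hcm₀⟩ := hcU
    set cU : L := ⟨res ⟨c, (hC c).mpr hcg⟩, hmemL _ hcy⟩
    set gU : L := ⟨res ⟨g, (hC g).mpr (Commute.refl g)⟩, hmemL _ hyg.symm⟩
    have hc1 : cU ≠ 1 := fun h1 => hcm₀ (congrArg Subtype.val
      (DFunLike.congr_fun (congrArg Subtype.val h1) ⟨m₀, hm₀⟩))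
    have hordc : orderOf cU = p := orderOf_eq_prime (Subtype.ext (by
      show res _ ^ p = 1
      rw [← map_pow, show (⟨c, (hC c).mpr hcg⟩ : C) ^ p = 1 from Subtype.ext hcp, map_one])) hc1
    have hg1 : gU ≠ 1 := fun h1 => by
      refine hU0 ((eq_bot_iff_forall U).mpr fun m hm => ?_)
      obtain ⟨n, rfl⟩ := (hU m).mp hm
      have h2 : g (g n * n⁻¹) = g n * n⁻¹ :=
        congrArg Subtype.val (DFunLike.congr_fun (congrArg Subtype.val h1) ⟨_, hgn n⟩)
      have h3 : ∀ k : ℕ, (g ^ k) n = (g n * n⁻¹) ^ k * n := by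
        intro k
        induction k with
        | zero => simp
        | succ k ih => rw [pow_succ', MulAut.mul_apply, ih, map_mul, map_pow, h2, pow_succ,
            mul_assoc, inv_mul_cancel_right]
      have h4 := h3 p
      rw [hg, MulAut.one_apply, right_eq_mul] at h4
      exact hpM _ h4
    have hordg : orderOf gU = p := orderOf_eq_prime (Subtype.ext (by
      show res _ ^ p = 1
      rw [← map_pow, show (⟨g, (hC g).mpr (Commute.refl g)⟩ : C) ^ p = 1 from Subtype.ext hg,
        map_one])) hg1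
    have hcomm : Commute cU gU := Subtype.ext (by
      show res _ * res _ = res _ * res _
      rw [← map_mul, ← map_mul]
      exact congrArg res (Subtype.ext hcg.eq))
    obtain ⟨i, hi⟩ := mem_powers_iff_mem_zpowers.2
      (FrobeniusFPF.mem_zpowers_of_commute hfpf hp hordc hordg hcomm)
    change gU ^ i = cU at hi
    have hci : ∀ m ∈ U, c m = (g ^ i) m := by
      intro m hm
      have h1 := congrArg Subtype.val hi
      rw [coe_pow, ← map_pow] at h1
      exact (congrArg Subtype.val (DFunLike.congr_fun h1 ⟨m, hm⟩)).symm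
    have hi0 : (i : ZMod p) ≠ 0 := fun h0 => hc1 (by
      rw [← hi, ← orderOf_dvd_iff_pow_eq_one, hordg]
      exact (ZMod.natCast_eq_zero_iff i p).mp h0)
    obtain ⟨k, hk⟩ := ZMod.natCast_zmod_surjective ((i : ZMod p))⁻¹
    have hki : c ^ (k * i) = c := by
      refine (pow_eq_pow_mod (k * i) hcp).trans ?_
      have h1 : ((k * i : ℕ) : ZMod p) = ((1 : ℕ) : ZMod p) := by
        rw [Nat.cast_mul, hk, inv_mul_cancel₀ hi0, Nat.cast_one]
      rw [ZMod.natCast_eq_natCast_iff', Nat.mod_eq_of_lt hp.one_lt] at h1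
      rw [h1, pow_one]
    have hconj : ∀ k : ℕ, h ^ k * g * (h ^ k)⁻¹ = (c ^ k)⁻¹ * g := by
      intro k
      induction k with
      | zero => simp
      | succ k ih =>
        calc h ^ (k + 1) * g * (h ^ (k + 1))⁻¹ = h * (h ^ k * g * (h ^ k)⁻¹) * h⁻¹ := by
              rw [pow_succ']; group
          _ = h * (c ^ k)⁻¹ * g * h⁻¹ := by rw [ih]; simp only [mul_assoc]
          _ = (c ^ k)⁻¹ * (h * g * h⁻¹) := by
              rw [← ((hch.pow_left k).inv_left).eq]; simp only [mul_assoc]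
          _ = (c ^ k)⁻¹ * (c⁻¹ * g) := by
              congr 1
              rw [hc]; group
          _ = (c ^ (k + 1))⁻¹ * g := by rw [← mul_assoc, ← mul_inv_rev, ← pow_succ']
    have hgc2 : ∀ m ∈ U, (g ^ i) ((h ^ k) m) = (c * c) ((h ^ k) m) := by
      intro m hm
      have h1 : c ((h ^ k) m) = ((h ^ k * g * (h ^ k)⁻¹) ^ i) ((h ^ k) m) := by
        rw [conj_pow, ← MulAut.mul_apply, (hch.pow_right k).eq, MulAut.mul_apply, hci m hm,
          ← MulAut.mul_apply, ← MulAut.mul_apply, inv_mul_cancel_right]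
      rw [hconj, ((hcg.pow_left k).inv_left).mul_pow, inv_pow, ← pow_mul, hki,
        MulAut.mul_apply] at h1
      rw [MulAut.mul_apply, h1, MulAut.apply_inv_self]
    have hcc : ∀ m ∈ U, (c * c) m = m → m = 1 := by
      intro m hm h1
      have h2 : (cU * cU) • (⟨m, hm⟩ : U) = ⟨m, hm⟩ := Subtype.ext h1
      have h3 : cU * cU ≠ 1 := fun h4 => by
        have := orderOf_dvd_of_pow_eq_one (x := cU) (n := 2) (by rw [pow_two, h4])
        rw [hordc] at this
        exact hp2 ((Nat.prime_dvd_prime_iff_eq hp Nat.prime_two).mp this)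
      exact congrArg Subtype.val (hfpf _ h3 ⟨m, hm⟩ h2)
    set Uk := U.map (h ^ k).toMonoidHom
    have hUk : ∀ w ∈ Uk, (c * c) w * w⁻¹ ∈ U ∧ (c * c) w * w⁻¹ ∈ Uk := by
      rintro _ ⟨m, hm, rfl⟩
      refine ⟨?_, ?_⟩
      · show (c * c) ((h ^ k) m) * ((h ^ k) m)⁻¹ ∈ U
        rw [← hgc2 m hm]
        have h5 : ∀ (j : ℕ) (w : M), (g ^ j) w * w⁻¹ ∈ U := fun j w => by
          induction j with
          | zero => simp
          | succ j ih =>
            rw [pow_succ', MulAut.mul_apply, show g ((g ^ j) w) * w⁻¹ =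
              (g ((g ^ j) w) * ((g ^ j) w)⁻¹) * ((g ^ j) w * w⁻¹) by
                rw [mul_assoc, inv_mul_cancel_left]]
            exact mul_mem (hgn _) ih
        exact h5 i _
      · refine ⟨(c * c) m * m⁻¹, mul_mem (hstab _ (hcg.mul_left hcg) m hm) (inv_mem hm), ?_⟩
        show (h ^ k) _ = _
        rw [map_mul, map_inv, ← MulAut.mul_apply, ← ((hch.mul_left hch).pow_right k).eq,
          MulAut.mul_apply]
        rfl
    let d : Uk → Uk := fun w => ⟨(c * c) w * (w : M)⁻¹, (hUk w w.2).2⟩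
    have hd : Function.Injective d := by
      rintro ⟨_, a, ha, rfl⟩ ⟨_, b, hb, rfl⟩ hab
      refine Subtype.ext (congrArg (h ^ k) ?_)
      have h1 : (c * c) ((h ^ k) a) * ((h ^ k) a)⁻¹ = (c * c) ((h ^ k) b) * ((h ^ k) b)⁻¹ :=
        congrArg Subtype.val hab
      rw [← mul_inv_eq_one]
      refine hcc _ (mul_mem ha (inv_mem hb)) ((h ^ k).injective ?_)
      rw [← MulAut.mul_apply _ (h ^ k), ← ((hch.mul_left hch).pow_right k).eq, MulAut.mul_apply,
        map_mul (h ^ k), map_inv, map_mul (c * c), map_inv]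
      rw [mul_inv_eq_iff_eq_mul] at h1
      rw [h1]
      calc _ = ((c * c) ((h ^ k) b) * ((c * c) ((h ^ k) b))⁻¹) *
            ((h ^ k) a * ((h ^ k) b)⁻¹) := by ac_rfl
        _ = _ := by rw [mul_inv_cancel, one_mul]
    obtain ⟨w, hw⟩ := Finite.injective_iff_surjective.mp hd ⟨(h ^ k) m₀, _, hm₀, rfl⟩
    have hwU : (h ^ k) m₀ ∈ U := by
      rw [show (h ^ k) m₀ = (c * c) w * (w : M)⁻¹ from (congrArg Subtype.val hw).symm]
      exact (hUk w w.2).1
    have h6 : c ((h ^ k) m₀) = (c * c) ((h ^ k) m₀) := (hci _ hwU).trans (hgc2 m₀ hm₀)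
    rw [MulAut.mul_apply] at h6
    have h7 := c.injective h6
    rw [← MulAut.mul_apply, (hch.pow_right k).eq, MulAut.mul_apply] at h7
    exact hcm₀ ((h ^ k).injective h7).symm

end Cfsg.Agent.HallHigman
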