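import Mathlib

/-!
# Fixed point free cyclic groups of symplectic matrices

A matrix over the prime field of order `h`, with fixed point free powers, preserving a
non-degenerate form in dimension `2 n`, has `h ∣ p ^ n + 1` or `h ∣ p ^ n - 1`.
-/

set_option autoImplicit false

namespace Cfsg.Agent.HallHigman

open Polynomial Matrix

/-- The roots of the reverse polynomial are the inverses of the roots. -/
theorem roots_reverse_prod {K : Type*} [Field K] (R : Multiset K) (hR : ∀ a ∈ R, a ≠ 0) :
    ((R.map fun a => X - C a).prod).reverse.roots = R.map (·⁻¹) := by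
  induction R using Multiset.induction_on with
  | empty =>
    rw [Multiset.map_zero, Multiset.prod_zero, ← map_one C, reverse_C, map_one, roots_one]
    simp
  | cons a R ih =>
    have ha : a ≠ 0 := hR a (Multiset.mem_cons_self a R)
    have ih' := ih fun b hb => hR b (Multiset.mem_cons_of_mem hb)
    have hQ : ((R.map fun a => X - C a).prod).reverse ≠ 0 := by
      rw [Ne, reverse_eq_zero]
      exact (monic_multisetProd_X_sub_C R).ne_zero
    have hrev : (X - C a : K[X]).reverse = C (-a) * (X - C a⁻¹) := by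
      rw [reverse, natDegree_X_sub_C, reflect_sub, reflect_C, reflect_one_X, pow_one, mul_sub,
        ← map_mul, neg_mul, mul_inv_cancel₀ ha, map_neg, map_neg, map_one, neg_mul]
      ring
    rw [Multiset.map_cons, Multiset.prod_cons, reverse_mul_of_domain, hrev, roots_mul
      (mul_ne_zero (mul_ne_zero (by simp [ha]) (X_sub_C_ne_zero _)) hQ), roots_C_mul _ (neg_ne_zero.mpr ha),
      roots_X_sub_C, ih', Multiset.map_cons, Multiset.singleton_add]

/-- A multiset of primitive `h`-th roots closed under `a ↦ a ^ p` and inversion. -/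
theorem dvd_pow_of_invariant {K : Type*} [Field K] [DecidableEq K] {p h n : ℕ} [hp : Fact p.Prime]
    [CharP K p] (hh : 0 < h) (hcop : h.Coprime p) (R : Multiset K) (hcard : Multiset.card R = 2 * n)
    (hprim : ∀ a ∈ R, IsPrimitiveRoot a h) (hpow : R.map (· ^ p) = R) (hinv : R.map (·⁻¹) = R) :
    h ∣ p ^ n + 1 ∨ h ∣ p ^ n - 1 := by
  classical
  rcases Nat.eq_zero_or_pos n with rfl | hn
  · exact Or.inr (by simp)
  have : NeZero h := ⟨hh.ne'⟩
  obtain ⟨ζ, hζR⟩ : ∃ ζ, ζ ∈ R := Multiset.card_pos_iff_exists_mem.mp (by omega)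
  have hζ := hprim ζ hζR
  let e : (ZMod h)ˣ → K := fun u => ζ ^ (u : ZMod h).val
  have he : Function.Injective e := fun u v huv =>
    Units.ext (ZMod.val_injective h (hζ.pow_inj (ZMod.val_lt _) (ZMod.val_lt _) huv))
  set m : (ZMod h)ˣ → ℕ := fun u => R.count (e u) with hm
  set P : (ZMod h)ˣ := ZMod.unitOfCoprime p hcop.symm with hP
  have hPv : ((P : (ZMod h)ˣ) : ZMod h) = (p : ZMod h) := ZMod.coe_unitOfCoprime p hcop.symm
  set N : (ZMod h)ˣ := -1 with hN
  have hmod : ∀ k : ℕ, ζ ^ k = ζ ^ (k % h) := fun k => pow_eq_pow_mod k hζ.pow_eq_one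
  have hmP : ∀ u, m (P * u) = m u := by
    intro u
    have h1 : e (P * u) = e u ^ p := by
      show ζ ^ ((P * u : (ZMod h)ˣ) : ZMod h).val = (ζ ^ (u : ZMod h).val) ^ p
      rw [← pow_mul, Units.val_mul, hPv, hmod ((u : ZMod h).val * p), ZMod.val_mul, ZMod.val_natCast]
      congr 1
      rw [Nat.mod_mul_mod, mul_comm]
    show R.count (e (P * u)) = R.count (e u)
    rw [h1]
    conv_lhs => rw [← hpow]
    exact Multiset.count_map_eq_count' (· ^ p) R (frobenius_inj K p) (e u)
  have hmN : ∀ u, m (N * u) = m u := by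
    intro u
    have h1 : e (N * u) = (e u)⁻¹ := by
      refine eq_inv_of_mul_eq_one_left ?_
      show ζ ^ ((N * u : (ZMod h)ˣ) : ZMod h).val * ζ ^ (u : ZMod h).val = 1
      rw [← pow_add, hmod, ← ZMod.val_add, Units.val_mul, hN, Units.val_neg, Units.val_one,
        neg_one_mul, neg_add_cancel, ZMod.val_zero, pow_zero]
    show R.count (e (N * u)) = R.count (e u)
    rw [h1]
    conv_lhs => rw [← hinv]
    exact Multiset.count_map_eq_count' (·⁻¹) R inv_injective (e u)
  set Γ : Subgroup (ZMod h)ˣ := Subgroup.zpowers P ⊔ Subgroup.zpowers N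
  let S : Subgroup (ZMod h)ˣ :=
    { carrier := {g | ∀ u, m (g * u) = m u}
      one_mem' := fun u => by rw [one_mul]
      mul_mem' := fun {a b} ha hb u => by rw [mul_assoc, ha, hb]
      inv_mem' := fun {a} ha u => by rw [← ha (a⁻¹ * u), mul_inv_cancel_left] }
  have hΓ : Γ ≤ S := sup_le (Subgroup.zpowers_le.mpr hmP) (Subgroup.zpowers_le.mpr hmN)
  have hdvd : Nat.card Γ ∣ 2 * n := by
    have : Fintype Γ := Fintype.ofFinite _
    have : Fintype ((ZMod h)ˣ ⧸ Γ) := Fintype.ofFinite _
    have hsum : ∑ u, m u = 2 * n := by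
      rw [← hcard, ← Multiset.sum_count_eq_card (s := Finset.univ.image e) (fun a ha => ?_)]
      · rw [Finset.sum_image fun u _ v _ huv => he huv]
      · obtain ⟨i, hi, hic, rfl⟩ := (hζ.isPrimitiveRoot_iff).mp (hprim a ha)
        refine Finset.mem_image.mpr ⟨ZMod.unitOfCoprime i hic, Finset.mem_univ _, ?_⟩
        show ζ ^ ((ZMod.unitOfCoprime i hic : (ZMod h)ˣ) : ZMod h).val = ζ ^ i
        rw [ZMod.coe_unitOfCoprime, ZMod.val_natCast, Nat.mod_eq_of_lt hi]
    rw [← hsum, ← Equiv.sum_comp (Subgroup.groupEquivQuotientProdSubgroup (s := Γ)).symm m,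
      Fintype.sum_prod_type]
    refine Finset.dvd_sum fun c _ => ?_
    have hc : ∀ g : Γ, m (Subgroup.groupEquivQuotientProdSubgroup.symm (c, g)) = m c.out := by
      intro g
      have h0 : (((Subgroup.groupEquivQuotientProdSubgroup.symm (c, g)) : (ZMod h)ˣ) :
          (ZMod h)ˣ ⧸ Γ) = c := by
        have := congrArg Prod.fst
          ((Subgroup.groupEquivQuotientProdSubgroup (s := Γ)).apply_symm_apply (c, g))
        exact this
      obtain ⟨g', hg'⟩ := QuotientGroup.mk_out_eq_mul Γ
        (Subgroup.groupEquivQuotientProdSubgroup.symm (c, g))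
      rw [h0] at hg'
      rw [hg', mul_comm]
      exact (hΓ g'.2 _).symm
    rw [Finset.sum_congr rfl fun g _ => hc g, Finset.sum_const, Finset.card_univ,
      ← Nat.card_eq_fintype_card, smul_eq_mul]
    exact dvd_mul_right _ _
  have hNN : N * N = 1 := neg_mul_neg (1 : (ZMod h)ˣ) 1 |>.trans (one_mul 1)
  suffices hPn : P ^ n = 1 ∨ P ^ n = N by
    rcases hPn with h1 | h1
    · refine Or.inr ((ZMod.natCast_eq_zero_iff _ _).mp ?_)
      have h2 := congrArg Units.val h1
      rw [Units.val_pow_eq_pow_val, hPv, Units.val_one, ← Nat.cast_pow] at h2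
      rw [Nat.cast_sub (Nat.one_le_pow _ _ hp.out.pos), h2, Nat.cast_one, sub_self]
    · refine Or.inl ((ZMod.natCast_eq_zero_iff _ _).mp ?_)
      have h2 := congrArg Units.val h1
      rw [Units.val_pow_eq_pow_val, hPv, hN, Units.val_neg, Units.val_one, ← Nat.cast_pow] at h2
      rw [Nat.cast_add, h2, Nat.cast_one, neg_add_cancel]
  have hd : orderOf P ∣ 2 * n := by
    refine dvd_trans ?_ hdvd
    rw [← Nat.card_zpowers]
    exact Subgroup.card_dvd_of_le le_sup_left
  by_cases hdn : orderOf P ∣ n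
  · exact Or.inl (orderOf_dvd_iff_pow_eq_one.mp hdn)
  by_cases hNP : N ∈ Subgroup.zpowers P
  · refine Or.inr ?_
    obtain ⟨c, hc⟩ : 2 ∣ orderOf P := by
      by_contra h2
      exact hdn (((Nat.coprime_comm.mp (Nat.prime_two.coprime_iff_not_dvd.mpr h2))).dvd_of_dvd_mul_left hd)
    rw [hc] at hd hdn
    obtain ⟨r, hr⟩ := Nat.dvd_of_mul_dvd_mul_left two_pos hd
    obtain ⟨i, hi⟩ := mem_powers_iff_mem_zpowers.2 hNP
    change P ^ i = N at hi
    have hci : c ∣ i := by
      have h1 : orderOf P ∣ 2 * i := orderOf_dvd_iff_pow_eq_one.mpr (by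
        rw [two_mul, pow_add, hi, hNN])
      rw [hc] at h1
      exact Nat.dvd_of_mul_dvd_mul_left two_pos h1
    obtain ⟨s, rfl⟩ := hci
    have hc2 : P ^ (2 * c) = 1 := by rw [← hc, pow_orderOf_eq_one]
    have hpar : ∀ k, P ^ (c * k) = P ^ (c * (k % 2)) := fun k => by
      conv_lhs => rw [← Nat.mod_add_div k 2, mul_add, pow_add, ← mul_assoc, mul_comm c 2, pow_mul P
        (2 * c), hc2, one_pow, mul_one]
    have hrodd : r % 2 = 1 := by
      by_contra h2
      obtain ⟨t, rfl⟩ : 2 ∣ r := Nat.dvd_of_mod_eq_zero (by omega)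
      exact hdn ⟨t, by rw [hr]; ring⟩
    rw [hr, hpar, hrodd, ← hi, hpar s]
    rcases Nat.mod_two_eq_zero_or_one s with h2 | h2
    · -- then `-1 = 1`, so the unit group is trivial
      exfalso
      refine hdn ?_
      rw [← hc, orderOf_dvd_iff_pow_eq_one]
      have hN1 : N = 1 := by rw [← hi, hpar, h2, mul_zero, pow_zero]
      have h22 : (2 : ZMod h) = 0 := by
        have := congrArg Units.val hN1
        rw [hN, Units.val_neg, Units.val_one] at this
        linear_combination -this
      have hh2 : h ∣ 2 := (ZMod.natCast_eq_zero_iff 2 h).mp (by exact_mod_cast h22)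
      have : Subsingleton (ZMod h)ˣ := by
        rcases (Nat.dvd_prime Nat.prime_two).mp hh2 with rfl | rfl
        · infer_instance
        · exact ⟨fun a b => by revert a b; decide⟩
      exact Subsingleton.elim _ _
    · rw [h2]
  · exfalso
    refine hdn ?_
    have hcardΓ : Nat.card Γ = orderOf P * 2 := by
      have hN2 : orderOf N = 2 := orderOf_eq_prime (by rw [pow_two, hNN])
        fun h1 => hNP (h1 ▸ one_mem _)
      have hinf : Subgroup.zpowers P ⊓ Subgroup.zpowers N = ⊥ := by
        rw [eq_bot_iff]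
        rintro x ⟨hxP, hxN⟩
        obtain ⟨k, rfl⟩ := mem_powers_iff_mem_zpowers.2 hxN
        change N ^ k ∈ Subgroup.zpowers P at hxP
        rw [Subgroup.mem_bot]
        show N ^ k = 1
        rw [← pow_mod_orderOf, hN2] at hxP ⊢
        rcases Nat.mod_two_eq_zero_or_one k with h2 | h2
        · rw [h2, pow_zero]
        · exact absurd (by simpa [h2] using hxP) hNP
      rw [← Nat.card_zpowers P, ← hN2, ← Nat.card_zpowers N, ← Nat.card_prod]
      refine (Nat.card_congr (Equiv.ofBijective (fun x : Subgroup.zpowers P × Subgroup.zpowers N =>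
        (⟨(x.1 : (ZMod h)ˣ) * x.2, Γ.mul_mem (Subgroup.mem_sup_left x.1.2)
          (Subgroup.mem_sup_right x.2.2)⟩ : Γ)) ⟨?_, ?_⟩)).symm
      · intro x y hxy
        exact Subgroup.mul_injective_of_disjoint (disjoint_iff.mpr hinf) (congrArg Subtype.val hxy)
      · rintro ⟨g, hg⟩
        obtain ⟨a, ha, b, hb, rfl⟩ := Subgroup.mem_sup.mp hg
        exact ⟨(⟨a, ha⟩, ⟨b, hb⟩), rfl⟩
    rw [hcardΓ, mul_comm] at hdvd
    exact Nat.dvd_of_mul_dvd_mul_left two_pos hdvd

/-- A fixed point free cyclic group of symplectic matrices over the prime field. -/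
theorem dvd_pow_of_symplectic {ι : Type*} [Fintype ι] [DecidableEq ι] {p h n : ℕ} [Fact p.Prime]
    (hι : Fintype.card ι = 2 * n) (hh : 0 < h) (hcop : h.Coprime p) (M J : Matrix ι ι (ZMod p))
    (hJ : J.det ≠ 0) (hMJ : Mᵀ * J * M = J) (hMh : M ^ h = 1)
    (hfree : ∀ k, 0 < k → k < h → (1 - M ^ k).det ≠ 0) :
    h ∣ p ^ n + 1 ∨ h ∣ p ^ n - 1 := by
  classical
  let K := AlgebraicClosure (ZMod p)
  let φ : ZMod p →+* K := algebraMap (ZMod p) K
  set MK := φ.mapMatrix M with hMKdef
  have hdM : IsUnit M := by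
    obtain ⟨m, rfl⟩ := Nat.exists_eq_add_of_lt hh
    exact IsUnit.of_mul_eq_one _ (by rw [← pow_succ', ← hMh])
  have hchar : M⁻¹.charpoly = M.charpoly := by
    have hJu : IsUnit J := (Matrix.isUnit_iff_isUnit_det J).mpr (isUnit_iff_ne_zero.mpr hJ)
    have hinvM : M⁻¹ = J⁻¹ * Mᵀ * J := Matrix.inv_eq_left_inv (by
      rw [mul_assoc, mul_assoc, ← mul_assoc Mᵀ, hMJ,
        Matrix.nonsing_inv_mul _ (isUnit_iff_ne_zero.mpr hJ)])
    rw [hinvM]
    obtain ⟨u, rfl⟩ := hJu
    rw [Matrix.charpoly_units_conj', Matrix.charpoly_transpose]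
  set R := (M.charpoly.map φ).roots with hR
  have hmon : (M.charpoly.map φ).Monic := (Matrix.charpoly_monic M).map φ
  have hsplit : (M.charpoly.map φ).Splits := IsAlgClosed.splits _
  have hcard : Multiset.card R = 2 * n := by
    rw [hR, ← hsplit.natDegree_eq_card_roots, natDegree_map, Matrix.charpoly_natDegree_eq_dim, hι]
  have hprim : ∀ a ∈ R, IsPrimitiveRoot a h := by
    intro a ha
    have h0 : (Matrix.scalar ι a - MK).det = 0 := by
      have := isRoot_of_mem_roots ha
      rw [IsRoot.def, ← Matrix.charpoly_map, Matrix.eval_charpoly] at this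
      exact this
    have hk : ∀ k, (Matrix.scalar ι (a ^ k) - MK ^ k).det = 0 := by
      intro k
      rw [map_pow, ← (Matrix.scalar_commute a (fun r' => Commute.all a r') MK).mul_geom_sum₂,
        Matrix.det_mul, h0, zero_mul]
    have hah : a ^ h = 1 := by
      have h1 := hk h
      rw [hMKdef, ← map_pow, hMh, map_one, ← map_one (Matrix.scalar ι (α := K)), ← map_sub,
        Matrix.scalar_apply, Matrix.det_diagonal, Finset.prod_const] at h1
      exact sub_eq_zero.mp (eq_zero_of_pow_eq_zero h1)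
    refine (IsPrimitiveRoot.iff hh).mpr ⟨hah, fun k hk0 hkh hak => hfree k hk0 hkh ?_⟩
    have h1 := hk k
    rw [hak, map_one, hMKdef, ← map_pow, ← map_one φ.mapMatrix, ← map_sub, ← RingHom.map_det] at h1
    exact (map_eq_zero φ).mp h1
  have hne0 : ∀ a ∈ R, a ≠ 0 := fun a ha => (hprim a ha).ne_zero hh.ne'
  have hpow : R.map (· ^ p) = R := by
    have hφ : (frobenius K p).comp φ = φ := Subsingleton.elim _ _
    conv_rhs => rw [hR, ← hφ, ← Polynomial.map_map, hsplit.roots_map (frobenius K p)]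
    rfl
  have hinv : R.map (·⁻¹) = R := by
    conv_rhs => rw [hR, ← hchar, Matrix.charpoly_inv M hdM, ← Matrix.reverse_charpoly]
    have hc : ((-1 : (ZMod p)[X]) ^ Fintype.card ι * C (Ring.inverse M.det)) =
        C ((-1) ^ Fintype.card ι * Ring.inverse M.det) := by simp
    rw [hc, Polynomial.map_mul, map_C, roots_C_mul _ ?_]
    · have hrev : (M.charpoly.reverse).map φ = (M.charpoly.map φ).reverse := by
        rw [reverse, reverse, natDegree_map, reflect_map]
      rw [hrev, hsplit.eq_prod_roots_of_monic hmon, roots_reverse_prod _ hne0]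
    · rw [_root_.map_ne_zero]
      refine mul_ne_zero (pow_ne_zero _ (neg_ne_zero.mpr one_ne_zero)) ?_
      rw [Ring.inverse_eq_inv']
      exact inv_ne_zero ((Matrix.isUnit_iff_isUnit_det M).mp hdM).ne_zero
  exact dvd_pow_of_invariant hh hcop R hcard hprim hpow hinv

end Cfsg.Agent.HallHigman
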