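import Cfsg.Agent.Lib.HallHigmanEigen
import Cfsg.Agent.Lib.HallHigmanModule
import Cfsg.Agent.Lib.HallHigmanFPF
import Cfsg.Agent.Lib.CoprimeAction

/-!
# The top powers of exceptional elements

The top powers `y ^ p ^ (e - 1)` of elements satisfying the polynomial of Theorem B commute on
every invariant `2`-group; such a top power cannot act quadratically.
-/

set_option autoImplicit false

namespace Cfsg.Agent.HallHigman

open Subgroup Module

universe u v

variable {K G W : Type*} [Field K] [Group G] [AddCommGroup W] [Module K W]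

/-- The centre of `Q` is carried to the centre by a map injective on `Q`. -/
theorem ctr_map_of_injOn {G' : Type*} [Group G'] (f : G →* G') {Q : Subgroup G}
    (hinj : ∀ u ∈ Q, f u = 1 → u = 1) : ctr (Q.map f) = (ctr Q).map f := by
  refine le_antisymm ?_ ?_
  · rintro _ ⟨⟨u, hu, rfl⟩, hc⟩
    refine ⟨u, ⟨hu, mem_centralizer_iff.mpr fun v hv => ?_⟩, rfl⟩
    have h1 := mem_centralizer_iff.mp hc (f v) ⟨v, hv, rfl⟩
    have h2 := hinj (v * u * v⁻¹ * u⁻¹) (mul_mem (mul_mem (mul_mem hv hu) (inv_mem hv)) (inv_mem hu))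
      (by rw [map_mul, map_mul, map_mul, h1, map_inv, map_inv]; group)
    exact mul_inv_eq_iff_eq_mul.mp (mul_inv_eq_one.mp h2)
  · rintro _ ⟨u, hu, rfl⟩
    refine ⟨⟨u, hu.1, rfl⟩, mem_centralizer_iff.mpr ?_⟩
    rintro _ ⟨v, hv, rfl⟩
    rw [← map_mul, ← map_mul, mem_centralizer_iff.mp hu.2 v hv]

theorem card_map_of_injOn {G' : Type*} [Group G'] (f : G →* G') {Q : Subgroup G}
    (hinj : ∀ u ∈ Q, f u = 1 → u = 1) : Nat.card (Q.map f) = Nat.card Q := by
  refine (Nat.card_congr (Equiv.ofBijective (f.subgroupMap Q) ⟨?_, f.subgroupMap_surjective Q⟩)).symm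
  rw [injective_iff_map_eq_one]
  exact fun u hu => Subtype.ext (hinj u u.2 (congrArg Subtype.val hu))

variable [Finite G]

/-- The count of Theorem B when the centre of `Q` acts by scalars. -/
theorem HHData.card_of_scalar [IsAlgClosed K] [FiniteDimensional K W] {p q e : ℕ}
    {ρ : Representation K G W} {x : G} {Q : Subgroup G} (h : HHData p q e ρ x Q)
    (hinj : ∀ u ∈ Q, ρ u = 1 → u = 1) (hscal : ∀ a ∈ ctr Q, ∃ c : K, ρ a = c • 1) :
    ∃ j, 0 < j ∧ q ^ j < p ^ e ∧ p ^ e ∣ (q ^ j) ^ 2 - 1 ∧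
      Nat.card Q = (q ^ j) ^ 2 * Nat.card (ctr Q) := by
  classical
  obtain ⟨u₀, hu₀, hu₀1⟩ := h.hnt
  have : Nontrivial W := by
    rcases subsingleton_or_nontrivial W with hs | hs
    · exact absurd (Subsingleton.elim _ _) hu₀1
    · exact hs
  let P : ℕ → Prop := fun n => ∃ U : Submodule K W, U ≠ ⊥ ∧ finrank K U = n ∧
    (∀ u ∈ Q, ∀ w ∈ U, ρ u w ∈ U) ∧ ∀ w ∈ U, ρ x w ∈ U
  have hP : ∃ n, P n :=
    ⟨_, ⊤, top_ne_bot, rfl, fun _ _ _ _ => Submodule.mem_top, fun _ _ => Submodule.mem_top⟩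
  obtain ⟨U, hU0, hUd, hUQ, hUx⟩ := Nat.find_spec hP
  have hmin : ∀ Y : Submodule K W, Y ≤ U → (∀ u ∈ Q, ∀ w ∈ Y, ρ u w ∈ Y) →
      (∀ w ∈ Y, ρ x w ∈ Y) → Y = ⊥ ∨ Y = U := by
    intro Y hY h1 h2
    by_cases hY0 : Y = ⊥
    · exact Or.inl hY0
    exact Or.inr (Submodule.eq_of_le_of_finrank_le hY (hUd ▸ Nat.find_min' hP ⟨Y, hY0, rfl, h1, h2⟩))
  obtain ⟨w₀, hw₀, hw₀0⟩ := (Submodule.ne_bot_iff U).mp hU0
  have hsc1 : ∀ {v : G}, v ∈ ctr Q → ρ v w₀ = w₀ → v = 1 := fun {v} hv hvw => by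
    obtain ⟨c, hc⟩ := hscal v hv
    rw [hc, LinearMap.smul_apply, Module.End.one_apply] at hvw
    have hc1 : c = 1 := smul_left_injective K hw₀0 (hvw.trans (one_smul K w₀).symm)
    exact hinj v hv.1 (by rw [hc, hc1, one_smul])
  have hfixU : ∀ u ∈ Q, (∀ w ∈ U, ρ u w = w) → u = 1 := by
    intro u hu huU
    refine hsc1 ⟨hu, mem_centralizer_iff.mpr fun v hv => ?_⟩ (huU w₀ hw₀)
    rw [← commutatorElement_eq_one_iff_mul_comm]
    refine hsc1 (h.mul_ctr_comm hv hu) ?_
    rw [commutatorElement_def, map_mul, map_mul, map_mul]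
    simp only [Module.End.mul_apply]
    have h1 : ρ u⁻¹ w₀ = w₀ := by
      conv_lhs => rw [← huU w₀ hw₀]
      rw [← Module.End.mul_apply, ← map_mul, inv_mul_cancel, map_one]; rfl
    rw [h1, huU _ (hUQ _ (inv_mem hv) w₀ hw₀), ← Module.End.mul_apply, ← map_mul, mul_inv_cancel,
      map_one]
    rfl
  set H := preserving ρ U
  let x' : H := ⟨x, hUx⟩
  have hQr : Q ≤ H.subtype.range := fun u hu => ⟨⟨u, hUQ u hu⟩, rfl⟩
  set Q' := Q.comap H.subtype
  have hd' : HHData p q e (subRep ρ U) x' Q' := by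
    refine h.pullback (f := 0) H.subtype_injective (subRep ρ U) h.he (x' := x')
      (by rw [pow_zero, pow_one]; rfl) hQr (LinearMap.ext fun w => Subtype.ext ?_)
      ⟨⟨u₀, hUQ u₀ hu₀⟩, hu₀, fun hf => hu₀1 ?_⟩
    · have := LinearMap.congr_fun h.hN (w : W)
      rw [LinearMap.sum_apply, LinearMap.zero_apply] at this
      rw [LinearMap.sum_apply, Submodule.coe_sum]
      simp only [← map_pow] at this ⊢
      exact this
    · rw [hfixU u₀ hu₀ fun w hw => congrArg Subtype.val (LinearMap.congr_fun hf ⟨w, hw⟩), map_one]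
  have hmap : Q'.map H.subtype = Q := map_comap_eq_self hQr
  let π := QuotientGroup.mk' (subRep ρ U).ker
  have hπinj : ∀ u ∈ Q', π u = 1 → u = 1 := fun u hu h1 => by
    have h2 : subRep ρ U u = 1 := MonoidHom.mem_ker.mp ((QuotientGroup.eq_one_iff u).mp h1)
    exact Subtype.ext (hfixU u hu fun w hw =>
      congrArg Subtype.val (LinearMap.congr_fun h2 ⟨w, hw⟩))
  have hctr : (ctr Q').map H.subtype = ctr Q := by
    rw [← ctr_map_of_injOn H.subtype (fun u _ h1 => H.subtype_injective (h1.trans (map_one _).symm)),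
      hmap]
  have hscal' : ∀ a ∈ ctr (Q'.map π), ∃ c : K, imageRep (subRep ρ U) a = c • 1 := by
    rw [ctr_map_of_injOn π hπinj]
    rintro _ ⟨a, ha, rfl⟩
    obtain ⟨c, hc⟩ := hscal (a : G) (hctr ▸ mem_map_of_mem _ ha)
    refine ⟨c, LinearMap.ext fun w => Subtype.ext ?_⟩
    show ρ (a : G) w = c • (w : W)
    rw [hc]; rfl
  have hirr : ∀ Y : Submodule K U, (∀ u ∈ Q'.map π, ∀ w ∈ Y, imageRep (subRep ρ U) u w ∈ Y) →
      (∀ w ∈ Y, imageRep (subRep ρ U) (π x') w ∈ Y) → Y = ⊥ ∨ Y = ⊤ := by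
    intro Y hYQ hYx
    rcases hmin (Y.map U.subtype) (Submodule.map_subtype_le U Y)
      (by rintro u hu _ ⟨w, hw, rfl⟩; exact ⟨_, hYQ _ ⟨⟨u, hUQ u hu⟩, hu, rfl⟩ w hw, rfl⟩)
      (by rintro _ ⟨w, hw, rfl⟩; exact ⟨_, hYx w hw, rfl⟩) with h1 | h1
    · exact Or.inl (Submodule.map_injective_of_injective U.subtype_injective
        (h1.trans (Submodule.map_bot _).symm))
    · exact Or.inr (Submodule.map_injective_of_injective U.subtype_injective
        (h1.trans (Submodule.map_subtype_top U).symm))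
  obtain ⟨j, hj, hlt, hdvd, hc⟩ :=
    hd'.map_mk.exceptional_of_scalar (imageRep_injective _) hirr hscal'
  refine ⟨j, hj, hlt, hdvd, ?_⟩
  rw [ctr_map_of_injOn π hπinj, card_map_of_injOn π hπinj,
    card_map_of_injOn (Q := ctr Q') π fun u hu => hπinj u hu.1] at hc
  rw [← hctr, ← hmap, card_map_of_injective H.subtype_injective,
    card_map_of_injective H.subtype_injective]
  exact hc

/-- The norm of a quadratic element of order dividing the odd prime `p` vanishes. -/
theorem sum_pow_eq_zero_of_sq {p : ℕ} (hp : p.Prime) (hp2 : p ≠ 2) (hpK : (p : K) = 0)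
    {X : Module.End K W} (hsq : (X - 1) * (X - 1) = 0) : ∑ k ∈ Finset.range p, X ^ k = 0 := by
  have h1 : ∀ k : ℕ, X ^ k = 1 + (k : K) • (X - 1) := by
    intro k
    induction k with
    | zero => simp
    | succ k ih =>
      calc X ^ (k + 1) = (1 + (k : K) • (X - 1)) * (1 + (X - 1)) := by
            rw [pow_succ, ih, add_sub_cancel]
        _ = 1 + ((k : K) + 1) • (X - 1) := by
            rw [add_mul, one_mul, smul_mul_assoc, mul_add, mul_one, hsq, add_zero, add_smul,
              one_smul, add_assoc, add_comm (X - 1)]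
        _ = _ := by rw [Nat.cast_succ]
  simp only [h1]
  rw [Finset.sum_add_distrib, Finset.sum_const, Finset.card_range, ← Finset.sum_smul,
    ← Nat.cast_smul_eq_nsmul K, hpK, zero_smul, zero_add]
  have h2 : (∑ k ∈ Finset.range p, (k : K)) = 0 := by
    rw [← Nat.cast_sum]
    obtain ⟨d, hd⟩ : p ∣ ∑ k ∈ Finset.range p, k := by
      have h3 : p ∣ (∑ k ∈ Finset.range p, k) * 2 := by
        rw [Finset.sum_range_id_mul_two]; exact dvd_mul_right _ _
      exact ((Nat.coprime_primes hp Nat.prime_two).mpr hp2).dvd_of_dvd_mul_right h3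
    rw [hd, Nat.cast_mul, hpK, zero_mul]
  rw [h2, zero_smul]

theorem quadratic_top_aux {K : Type*} [Field K] [IsAlgClosed K] {p q : ℕ} (hp2 : p ≠ 2)
    (hpK : (p : K) = 0) (n : ℕ) :
    ∀ (G : Type u) [Group G] [Finite G] (W : Type v) [AddCommGroup W] [Module K W]
      [FiniteDimensional K W] (ρ : Representation K G W) (x : G) (Q : Subgroup G) (e : ℕ),
      finrank K W ≤ n → HHData p q e ρ x Q →
      (ρ (x ^ p ^ (e - 1)) - 1) * ∑ k ∈ Finset.range (p ^ (e - 1)), ρ x ^ k = 0 → False := by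
  classical
  induction n with
  | zero =>
    intro G _ _ W _ _ _ ρ x Q e hn h _
    obtain ⟨u, -, hu⟩ := h.hnt
    have : Subsingleton W := Module.finrank_zero_iff.mp (Nat.le_zero.mp hn)
    exact hu (Subsingleton.elim _ _)
  | succ n ih =>
    intro G _ _ W _ _ _ ρ₀ x₁ Q₁ e hn h₀ hpoly₀
    -- replace `G` by its image
    set ρ := imageRep ρ₀
    set π := QuotientGroup.mk' ρ₀.ker
    set x := π x₁ with hx
    set Q := Q₁.map π
    have h : HHData p q e ρ x Q := h₀.map_mk
    have hpoly : (ρ (x ^ p ^ (e - 1)) - 1) * ∑ k ∈ Finset.range (p ^ (e - 1)), ρ x ^ k = 0 := by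
      rw [hx, ← map_pow]
      exact hpoly₀
    have hfaith : Function.Injective ρ := imageRep_injective ρ₀
    have hqf := Fact.mk h.hq
    obtain ⟨u₀, hu₀, hu₀1⟩ := h.hnt
    set x0 := x ^ p ^ (e - 1) with hx0
    rcases Nat.lt_or_ge e 2 with he2 | he2
    · obtain rfl : e = 1 := by have := h.he; omega
      rw [Nat.sub_self, pow_zero, Finset.sum_range_one, pow_zero, mul_one, sub_eq_zero] at hpoly
      have hgen := h.hgen
      rw [show x ^ p ^ (1 - 1) = 1 from hfaith (hpoly.trans (map_one ρ).symm), zpowers_one_eq_bot,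
        commutator_bot_right] at hgen
      rw [← hgen, mem_bot] at hu₀
      exact hu₀1 (by rw [hu₀, map_one])
    by_cases hscal : ∀ a ∈ ctr Q, ∃ c : K, ρ a = c • 1
    · obtain ⟨j, hj, hlt, hdvd, hcard⟩ :=
        h.card_of_scalar (fun u _ hu => hfaith (hu.trans (map_one ρ).symm)) hscal
      have hX : ρ x0 = ρ x ^ p ^ (e - 1) := map_pow ρ x _
      have hsq : (ρ x0 - 1) * (ρ x0 - 1) = 0 := by
        nth_rewrite 2 [hX]
        rw [← geom_sum_mul, ← mul_assoc, hpoly, zero_mul]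
      have hx0p : x0 ^ p ^ 1 = 1 := by
        rw [hx0, pow_one, ← pow_mul, ← pow_succ, Nat.sub_add_cancel h.he, h.hxe]
      have hd0 : HHData p q 1 ρ x0 Q := ⟨h.hp, h.hq, h.hpq, h.hqK, le_rfl, hx0p,
        pow_mem h.hxQ _, h.hQ, h.hcl, by rw [Nat.sub_self, pow_zero, pow_one]; exact h.hgen,
        by rw [pow_one]; exact sum_pow_eq_zero_of_sq h.hp hp2 hpK hsq, h.hnt⟩
      obtain ⟨i, hi, hilt, -, hcard'⟩ :=
        hd0.card_of_scalar (fun u _ hu => hfaith (hu.trans (map_one ρ).symm)) hscal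
      have hij : q ^ i = q ^ j := Nat.pow_left_injective two_ne_zero
        (Nat.eq_of_mul_eq_mul_right Nat.card_pos (hcard'.symm.trans hcard))
      rw [pow_one, hij] at hilt
      have h2 : 2 ≤ q ^ j := h.hq.two_le.trans (Nat.le_self_pow hj.ne' q)
      have h4 : 4 ≤ (q ^ j) ^ 2 := by nlinarith
      have h5 : (q ^ j) ^ 2 < p ^ 2 := Nat.pow_lt_pow_left hilt two_ne_zero
      have h6 : p ^ 2 ≤ p ^ e := Nat.pow_le_pow_right h.hp.pos he2
      have := Nat.le_of_dvd (by omega) hdvd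
      omega
    push Not at hscal
    obtain ⟨a₀, ha₀, ha₀1⟩ := hscal
    have hA : ∀ a ∈ ctr Q, ∀ b ∈ ctr Q, a * b = b * a := fun a ha b hb =>
      congrArg Subtype.val ((ctr_comm (Q := Q)).is_comm.comm ⟨a, ha⟩ ⟨b, hb⟩)
    have hcardA : (Nat.card (ctr Q) : K) ≠ 0 := h.card_ne_zero inf_le_left
    have hQstab : ∀ (l : ctr Q →* K), Q ≤ charStab l := fun l u hu =>
      centralizer_le_charStab l fun a ha => mem_centralizer_iff.mp ha.2 u hu
    obtain ⟨l, u, hu, w, hw, hne⟩ : ∃ (l : ctr Q →* K), ∃ u ∈ Q, ∃ w ∈ eig ρ l, ρ u w ≠ w := by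
      by_contra hall
      push Not at hall
      refine hu₀1 (LinearMap.ext fun w => ?_)
      have : (⊤ : Submodule K W) ≤ LinearMap.ker (ρ u₀ - 1) := by
        rw [← iSup_eig_eq_top ρ hA hcardA]
        exact iSup_le fun l v hv => by
          rw [LinearMap.mem_ker, LinearMap.sub_apply, hall l u₀ hu₀ v hv, Module.End.one_apply,
            sub_self]
      exact sub_eq_zero.mp (LinearMap.mem_ker.mp (this (Submodule.mem_top (x := w))))
    have hlt : finrank K (eig ρ l) < finrank K W := Submodule.finrank_lt fun ht =>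
      ha₀1 (l ⟨a₀, ha₀⟩) (LinearMap.ext fun v => (ht.symm ▸ Submodule.mem_top : v ∈ eig ρ l) ⟨a₀, ha₀⟩)
    obtain ⟨f, hf, hfx, hdesc⟩ := exists_descent_eig h.hp h.he ρ hcardA h.x_mem_normalizer_ctr h.hxe
      (fun a ha => (h.x0_comm_ctr hfaith ha).eq) l
    have hT1 : ∀ a ∈ ctr Q, Commute (1 : Module.End K W) (ρ a) := fun a _ => Commute.one_left _
    have hT0 : ∀ a ∈ ctr Q, Commute (ρ x0 - 1) (ρ a) := fun a ha =>
      ((h.x0_comm_ctr hfaith ha).map ρ).sub_left (Commute.one_left _)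
    set H := preserving ρ (eig ρ l)
    let x' : H := ⟨x ^ p ^ f, charStab_le_preserving ρ l hfx⟩
    have hd' := h.pullback H.subtype_injective (subRep ρ (eig ρ l)) hf (x' := x') rfl
      (fun v hv => ⟨⟨v, charStab_le_preserving ρ l (hQstab l hv)⟩, rfl⟩)
      (LinearMap.ext fun v => Subtype.ext (by
        rw [LinearMap.sum_apply, Submodule.coe_sum]
        have := hdesc 1 (p ^ (e - f)) hT1 (by
          rw [one_mul, ← pow_add, Nat.add_sub_cancel' hf.le]; exact h.hN) (v : W) v.2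
        rw [Module.End.one_apply] at this
        simp only [← map_pow] at this ⊢
        exact this))
      ⟨⟨u, charStab_le_preserving ρ l (hQstab l hu)⟩, hu, fun hf' => hne
        (congrArg Subtype.val (LinearMap.congr_fun hf' ⟨w, hw⟩))⟩
    refine ih H _ (subRep ρ (eig ρ l)) x' _ (e - f) (by omega) hd' (LinearMap.ext fun v =>
      Subtype.ext ?_)
    have := hdesc (ρ x0 - 1) (p ^ (e - f - 1)) hT0 (by
      rw [← pow_add, show f + (e - f - 1) = e - 1 by omega]; exact hpoly) (v : W) v.2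
    rw [Module.End.mul_apply, LinearMap.sub_apply, LinearMap.zero_apply, Submodule.coe_sub,
      ZeroMemClass.coe_zero, LinearMap.sum_apply, Module.End.one_apply]
    rw [LinearMap.sub_apply, Module.End.one_apply] at this
    simp only [← map_pow] at this ⊢
    have hx0' : ((x' ^ p ^ (e - f - 1) : H) : G ⧸ ρ₀.ker) = x0 := by
      show (x ^ p ^ f) ^ p ^ (e - f - 1) = x0
      rw [← pow_mul, ← pow_add, show f + (e - f - 1) = e - 1 by omega]
    show ρ ((x' ^ p ^ (e - f - 1) : H) : G ⧸ ρ₀.ker) _ - _ = 0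
    rw [hx0']
    simp only [Submodule.subtype_apply, Submodule.coe_sum]
    exact this

/-- A top power of an exceptional element is never quadratic in this sense. -/
theorem HHData.false_of_quadratic [IsAlgClosed K] [FiniteDimensional K W] {p q e : ℕ}
    {ρ : Representation K G W} {x : G} {Q : Subgroup G} (h : HHData p q e ρ x Q) (hp2 : p ≠ 2)
    (hpK : (p : K) = 0)
    (hpoly : (ρ (x ^ p ^ (e - 1)) - 1) * ∑ k ∈ Finset.range (p ^ (e - 1)), ρ x ^ k = 0) : False :=
  quadratic_top_aux hp2 hpK _ G W ρ x Q e le_rfl h hpoly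

end Cfsg.Agent.HallHigman
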