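import Cfsg.Agent.Lib.HallHigmanExponent
import Cfsg.Agent.Lib.HallHigmanDerived
import Cfsg.Agent.Lib.HallHigmanTopsCommute

/-!
# The p-length is at most twice the exponent

The top powers of a Sylow `p`-subgroup of `G ⧸ O_{p',p}(G)` commute; hence they lie in its
`O_{p',p}`.
-/

set_option autoImplicit false

namespace Cfsg.Agent.HallHigman

open Subgroup Module
open Cfsg.Agent.HallCore Cfsg.Agent.HallSolvable
open scoped commutatorElement

/-- A central commutator in the non-abelian image of a normal subgroup of a `p`-group. -/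
theorem exists_central_commutator {p : ℕ} [Fact p.Prime] {Pi : Type*} [Group Pi] [Finite Pi]
    (hPi : IsPGroup p Pi) {S : Set Pi} (hS : ∀ (b : Pi), ∀ s ∈ S, b * s * b⁻¹ ∈ S)
    (hnc : ∃ a ∈ S, ∃ b ∈ S, a * b ≠ b * a) :
    ∃ g ∈ S, ∃ h ∈ Subgroup.closure S, ⁅g, h⁆ ≠ 1 ∧ Commute ⁅g, h⁆ g ∧ Commute ⁅g, h⁆ h ∧
      ∀ y : Pi, Commute y g → Commute ⁅g, h⁆ y := by
  classical
  set Kc := Subgroup.closure S
  have hKn : Kc.Normal := ⟨fun k hk b => by
    induction hk using Subgroup.closure_induction with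
    | mem s hs => exact subset_closure (hS b s hs)
    | one => simp
    | mul u v _ _ hu hv => simpa [mul_assoc] using mul_mem hu hv
    | inv u _ hu => simpa [mul_assoc] using inv_mem hu⟩
  set Z := Kc ⊓ centralizer (Kc : Set Pi)
  have : (centralizer (Kc : Set Pi)).Normal := Subgroup.normal_centralizer
  have hZn : Z.Normal := Subgroup.normal_inf_normal _ _
  have hne : Kc.map (QuotientGroup.mk' Z) ≠ ⊥ := fun h => by
    obtain ⟨a, ha, b, hb, hab⟩ := hnc
    rw [Subgroup.map_eq_bot_iff, QuotientGroup.ker_mk'] at h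
    exact hab (mem_centralizer_iff.mp (h (subset_closure hb)).2 a (subset_closure ha))
  have : (Kc.map (QuotientGroup.mk' Z)).Normal :=
    hKn.map _ (QuotientGroup.mk'_surjective _)
  obtain ⟨⟨w, hw⟩, hw1⟩ : ∃ w : ↥(Kc.map (QuotientGroup.mk' Z) ⊓ center (Pi ⧸ Z)), w ≠ 1 := by
    have := (nontrivial_iff_ne_bot _).mpr (PGroupsBasic.inf_center_ne_bot (hPi.to_quotient Z) hne)
    exact exists_ne 1
  obtain ⟨⟨h, hh, hhw⟩, hwc⟩ := hw
  have hhZ : h ∉ Z := fun hz => hw1 (Subtype.ext (by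
    show w = 1
    rw [← hhw]; exact (QuotientGroup.eq_one_iff h).mpr hz))
  have hhc : ∀ b : Pi, ⁅b, h⁆ ∈ Z := fun b => by
    rw [← QuotientGroup.eq_one_iff]
    show QuotientGroup.mk' Z ⁅b, h⁆ = 1
    rw [map_commutatorElement, hhw, commutatorElement_eq_one_iff_mul_comm]
    exact mem_center_iff.mp hwc _
  obtain ⟨g, hg, hgh⟩ : ∃ g ∈ S, ⁅g, h⁆ ≠ 1 := by
    by_contra hall
    push Not at hall
    refine hhZ ⟨hh, ?_⟩
    show h ∈ centralizer (Subgroup.closure S : Set Pi)
    rw [centralizer_closure, mem_centralizer_iff]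
    exact fun s hs => commutatorElement_eq_one_iff_mul_comm.mp (hall s hs)
  have hZc : ∀ z ∈ Z, ∀ k ∈ Kc, Commute z k := fun z hz k hk =>
    (mem_centralizer_iff.mp hz.2 k hk).symm
  refine ⟨g, hg, h, hh, hgh, hZc _ (hhc g) g (subset_closure hg), hZc _ (hhc g) h hh, fun y hy => ?_⟩
  have h1 : ⁅y, h⁆ * h = y * h * y⁻¹ := by simp only [commutatorElement_def]; group
  have h2 : y * ⁅g, h⁆ * y⁻¹ = ⁅g, h⁆ := by
    calc y * ⁅g, h⁆ * y⁻¹ = ⁅y * g * y⁻¹, y * h * y⁻¹⁆ :=
          map_commutatorElement (MulAut.conj y).toMonoidHom g h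
      _ = ⁅g, ⁅y, h⁆ * h⁆ := by rw [hy.eq, mul_inv_cancel_right, h1]
      _ = g * ⁅y, h⁆ * g⁻¹ * (g * h * g⁻¹ * h⁻¹) * ⁅y, h⁆⁻¹ := by
          simp only [commutatorElement_def]; group
      _ = ⁅g, h⁆ := by
          rw [← (hZc _ (hhc y) g (subset_closure hg)).eq, mul_inv_cancel_right,
            ← commutatorElement_def, (hZc _ (hhc y) _ (hhc g).1).eq, mul_inv_cancel_right]
  exact (mul_inv_eq_iff_eq_mul.mp h2).symm

/-- In a faithful linear group with `C(R) ≤ R` the top powers of a `p`-subgroup commute, if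
all its elements satisfy the polynomial of Theorem B. -/
theorem tops_commute {K H W : Type*} [Field K] [IsAlgClosed K] [Group H] [Finite H]
    [AddCommGroup W] [Module K W] [FiniteDimensional K W] {p : ℕ} [Fact p.Prime] (hp2 : p ≠ 2)
    (hqK : ∀ q : ℕ, q.Prime → q ≠ p → (q : K) ≠ 0) (ρ : Representation K H W)
    (hρ : Function.Injective ρ) {R : Subgroup H} [R.Normal] (hR : (Nat.card R).Coprime p)
    (hCR : centralizer (R : Set H) ≤ R) {P : Subgroup H} (hP : IsPGroup p P) {e : ℕ} (he : 1 ≤ e)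
    (hexp : ∀ y ∈ P, y ^ p ^ e = 1)
    (hN : ∀ y ∈ P, ∑ k ∈ Finset.range (p ^ e), ρ y ^ k = 0) {a b : H} (ha : a ∈ P) (hb : b ∈ P) :
    a ^ p ^ (e - 1) * b ^ p ^ (e - 1) = b ^ p ^ (e - 1) * a ^ p ^ (e - 1) := by
  classical
  have hp : p.Prime := Fact.out
  by_contra hne
  set c := ⁅a ^ p ^ (e - 1), b ^ p ^ (e - 1)⁆ with hc
  have hcP : c ∈ P := P.commutator_le_self
    (commutator_mem_commutator (pow_mem ha _) (pow_mem hb _))
  have hc1 : c ≠ 1 := fun h => hne (commutatorElement_eq_one_iff_mul_comm.mp h)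
  -- some invariant `q`-subgroup of `R` is moved by `c`
  obtain ⟨q, hq, hqp, Q₀, hQ₀, hPQ₀, hnc⟩ : ∃ q, q.Prime ∧ q ≠ p ∧ ∃ Q : Subgroup H,
      IsPGroup q Q ∧ P ≤ normalizer (Q : Set H) ∧ ¬ Q ≤ centralizer {c} := by
    by_contra hcon
    push Not at hcon
    have hcop : (Nat.card P).Coprime (Nat.card R) := by
      obtain ⟨k, hk⟩ := IsPGroup.iff_card.mp hP
      rw [hk]
      exact hR.symm.pow_left k
    have hle : R ≤ centralizer {c} := by
      refine inf_eq_left.mp (eq_of_le_of_card_ge inf_le_left (Nat.le_of_dvd Nat.card_pos ?_))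
      refine (Nat.dvd_iff_prime_pow_dvd_dvd _ _).mpr fun q k hq hqk => ?_
      have : Fact q.Prime := ⟨hq⟩
      rcases Nat.eq_zero_or_pos k with rfl | hk
      · exact (pow_zero q).symm ▸ one_dvd _
      have hqp : q ≠ p := fun h => by
        subst h
        exact (Nat.Prime.coprime_iff_not_dvd hq).mp hR.symm ((dvd_pow_self _ hk.ne').trans hqk)
      obtain ⟨Q, hQ⟩ := CoprimeAction.exists_invariant_sylow
        (Subgroup.le_normalizer_of_normal : P ≤ _) hcop
        (Or.inl (CoprimeAction.isSolvable_of_isPGroup hP)) q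
      have hQc : (Q : Subgroup R).map R.subtype ≤ R ⊓ centralizer {c} :=
        le_inf (map_subtype_le _) (hcon q hq hqp _ (Q.isPGroup'.map _) hQ)
      refine dvd_trans ?_ (card_dvd_of_le hQc)
      rw [Subgroup.card_subtype]
      exact Q.pow_dvd_card_of_pow_dvd_card hqk
    have h1 : c ∈ R := hCR (mem_centralizer_iff.mpr fun m hm =>
      mem_centralizer_singleton_iff.mp (hle hm))
    exact hc1 ((Subgroup.disjoint_def.mp (disjoint_of_coprime_natCard hcop)) hcP h1)
  have hqf := Fact.mk hq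
  -- a minimal such subgroup has class two
  set M := (Subgroup.closure {g | ∃ y ∈ P, g = y ^ p ^ (e - 1)} : Subgroup H) with hM
  have hMP : M ≤ P := (closure_le _).mpr (by rintro _ ⟨y, hy, rfl⟩; exact pow_mem hy _)
  have hMn : P ≤ normalizer (M : Set H) := CoprimeAction.le_normalizer_of_conj_mem fun u hu m hm => by
    induction hm using Subgroup.closure_induction with
    | mem g hg =>
      obtain ⟨y, hy, rfl⟩ := hg
      exact subset_closure ⟨u * y * u⁻¹, mul_mem (mul_mem hu hy) (inv_mem hu), by rw [conj_pow]⟩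
    | one => simp
    | mul s t _ _ hs ht => simpa [mul_assoc] using mul_mem hs ht
    | inv s _ hs => simpa [mul_assoc] using inv_mem hs
  set D := ⁅M, M⁆
  have hDn : P ≤ normalizer (D : Set H) := fun u hu => by
    rw [mem_normalizer_iff_map_conj_eq, map_commutator, mem_normalizer_iff_map_conj_eq.mp (hMn hu)]
  have hcD : c ∈ D := commutator_mem_commutator (subset_closure ⟨a, ha, rfl⟩) (subset_closure ⟨b, hb, rfl⟩)
  have hex : ∃ n, ∃ Q : Subgroup H, Nat.card Q = n ∧ Q ≤ Q₀ ∧ P ≤ normalizer (Q : Set H) ∧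
      ¬ Q ≤ centralizer (D : Set H) :=
    ⟨_, Q₀, rfl, le_rfl, hPQ₀, fun h => hnc (h.trans (centralizer_le (Set.singleton_subset_iff.mpr hcD)))⟩
  obtain ⟨Q, hQd, hQQ₀, hPQ, hQnc⟩ := Nat.find_spec hex
  have hmin : ∀ Y : Subgroup H, Y ≤ Q → P ≤ normalizer (Y : Set H) → ¬ Y ≤ centralizer (D : Set H) →
      Y = Q := fun Y hY hPY hYc =>
    eq_of_le_of_card_ge hY (hQd ▸ Nat.find_min' hex ⟨Y, rfl, hY.trans hQQ₀, hPY, hYc⟩)
  have hQp : IsPGroup q Q := hQ₀.to_le hQQ₀
  have hDP : D ≤ P := (commutator_mono hMP hMP).trans P.commutator_le_self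
  have hDQ : D ≤ normalizer (Q : Set H) := hDP.trans hPQ
  have hcopD : (Nat.card D).Coprime (Nat.card Q) := by
    obtain ⟨i, hi⟩ := IsPGroup.iff_card.mp (hP.to_le hDP)
    obtain ⟨k, hk⟩ := IsPGroup.iff_card.mp hQp
    rw [hi, hk]
    exact (((Nat.coprime_primes hp hq).mpr (Ne.symm hqp)).pow_left i).pow_right k
  have hQD : ⁅Q, D⁆ = Q := by
    refine hmin _ (CoprimeAction.commutator_le_self_of_le_normalizer hDQ) (fun u hu => ?_) fun h => ?_
    · rw [mem_normalizer_iff_map_conj_eq, map_commutator, mem_normalizer_iff_map_conj_eq.mp (hPQ hu),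
        mem_normalizer_iff_map_conj_eq.mp (hDn hu)]
    · refine hQnc (Subgroup.le_centralizer_iff.mp
        (CoprimeAction.le_centralizer_of_commutator_commutator_eq_bot hDQ hcopD
          (Or.inl (CoprimeAction.isSolvable_of_isPGroup (hP.to_le hDP)))
          (commutator_eq_bot_iff_le_centralizer.mpr h)))
  have hQQ : ⁅Q, Q⁆ ≠ Q := fun h => by
    have : Group.IsNilpotent Q := hQp.isNilpotent
    have : Nontrivial Q := (nontrivial_iff_ne_bot Q).mpr fun h0 => hQnc (h0 ▸ bot_le)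
    refine (Group.IsSolvable.commutator_lt_top_of_nontrivial (G := Q)).ne ?_
    apply map_injective Q.subtype_injective
    rw [_root_.commutator_def, map_commutator, ← MonoidHom.range_eq_map, range_subtype]
    exact h
  have hcl : ⁅⁅Q, Q⁆, Q⁆ = ⊥ := by
    have hc' : ⁅Q, Q⁆ ≤ centralizer (D : Set H) := by
      by_contra hno
      refine hQQ (hmin _ Q.commutator_le_self (fun u hu => ?_) hno)
      rw [mem_normalizer_iff_map_conj_eq, map_commutator, mem_normalizer_iff_map_conj_eq.mp (hPQ hu)]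
    have h1 : ⁅⁅D, ⁅Q, Q⁆⁆, Q⁆ = ⊥ := by
      rw [Subgroup.commutator_comm D, commutator_eq_bot_iff_le_centralizer.mpr hc',
        commutator_bot_left]
    have h2 : ⁅⁅⁅Q, Q⁆, Q⁆, D⁆ = ⊥ := eq_bot_iff.mpr
      ((commutator_mono (commutator_mono Q.commutator_le_self le_rfl) le_rfl).trans
        (le_of_eq (commutator_eq_bot_iff_le_centralizer.mpr hc')))
    have h3 := Subgroup.commutator_commutator_eq_bot_of_rotate h1 h2
    rw [hQD, Subgroup.commutator_comm] at h3
    exact h3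
  -- the image in `MulAut Q`
  let α : P →* MulAut Q := (normalizerMonoidHom Q).comp (inclusion hPQ)
  have hα : ∀ u : P, α u = 1 ↔ (u : H) ∈ centralizer (Q : Set H) := fun u => by
    constructor
    · intro h
      refine mem_centralizer_iff.mpr fun v hv => ?_
      exact (mul_inv_eq_iff_eq_mul.mp (congrArg Subtype.val (DFunLike.congr_fun h ⟨v, hv⟩))).symm
    · intro h
      refine MulEquiv.ext fun v => Subtype.ext ?_
      show (u : H) * v * (u : H)⁻¹ = v
      rw [← mem_centralizer_iff.mp h (v : H) v.2, mul_inv_cancel_right]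
  set S : Set α.range := Set.range fun y : P => α.rangeRestrict (y ^ p ^ (e - 1))
  obtain ⟨g, ⟨y, rfl⟩, h', hh', hne', hcg, hch, hcy⟩ :=
    exists_central_commutator (hP.of_surjective α.rangeRestrict α.rangeRestrict_surjective) (S := S)
      (by
        rintro ⟨_, u, rfl⟩ _ ⟨y, rfl⟩
        exact ⟨u * y * u⁻¹, by
          show α.rangeRestrict _ = _ * α.rangeRestrict _ * _
          rw [conj_pow, map_mul, map_mul, map_inv]
          rfl⟩)
      (by
        by_contra hall
        push Not at hall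
        refine hQnc ?_
        rw [Subgroup.le_centralizer_iff]
        refine commutator_le.mpr fun s hs t ht => ?_
        have hcomm : ∀ s ∈ M, ∃ hs : s ∈ P, α.rangeRestrict ⟨s, hs⟩ ∈ Subgroup.closure S := by
          intro s hs
          induction hs using Subgroup.closure_induction with
          | mem g hg =>
            obtain ⟨y, hy, rfl⟩ := hg
            exact ⟨pow_mem hy _, subset_closure ⟨⟨y, hy⟩, rfl⟩⟩
          | one => exact ⟨one_mem P, by
              rw [show (⟨1, one_mem P⟩ : P) = 1 from rfl, map_one]; exact one_mem _⟩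
          | mul u v _ _ hu hv =>
            obtain ⟨hu1, hu2⟩ := hu; obtain ⟨hv1, hv2⟩ := hv
            exact ⟨mul_mem hu1 hv1, by
              rw [show (⟨u * v, mul_mem hu1 hv1⟩ : P) = ⟨u, hu1⟩ * ⟨v, hv1⟩ from rfl, map_mul]
              exact mul_mem hu2 hv2⟩
          | inv u _ hu =>
            obtain ⟨hu1, hu2⟩ := hu
            exact ⟨inv_mem hu1, by
              rw [show (⟨u⁻¹, inv_mem hu1⟩ : P) = (⟨u, hu1⟩ : P)⁻¹ from rfl, map_inv]
              exact inv_mem hu2⟩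
        obtain ⟨hs1, hs2⟩ := hcomm s hs
        obtain ⟨ht1, ht2⟩ := hcomm t ht
        refine (hα ⁅(⟨s, hs1⟩ : P), ⟨t, ht1⟩⁆).mp ?_
        have hab : ∀ u ∈ Subgroup.closure S, ∀ v ∈ Subgroup.closure S, u * v = v * u := by
          intro u hu v hv
          have h1 : Subgroup.closure S ≤ centralizer (Subgroup.closure S : Set α.range) := by
            rw [centralizer_closure, closure_le]
            exact fun s hs => mem_centralizer_iff.mpr fun t ht => hall t ht s hs
          exact mem_centralizer_iff.mp (h1 hv) u hu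
        have h2 := commutatorElement_eq_one_iff_mul_comm.mpr (hab _ hs2 _ ht2)
        rw [← map_commutatorElement] at h2
        exact congrArg Subtype.val h2)
  obtain ⟨h, hh, hhe⟩ : ∃ h, ∃ hh : h ∈ P, h ∈ M ∧ α.rangeRestrict ⟨h, hh⟩ = h' := by
    clear hne' hcg hch hcy
    induction hh' using Subgroup.closure_induction with
    | mem s hs =>
      obtain ⟨z, rfl⟩ := hs
      exact ⟨(z : H) ^ p ^ (e - 1), pow_mem z.2 _, subset_closure ⟨z, z.2, rfl⟩, rfl⟩
    | one => exact ⟨1, one_mem P, one_mem M, map_one _⟩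
    | mul s t _ _ hs ht =>
      obtain ⟨s', hs1, hs2, hs3⟩ := hs
      obtain ⟨t', ht1, ht2, ht3⟩ := ht
      exact ⟨s' * t', mul_mem hs1 ht1, mul_mem hs2 ht2, by rw [← hs3, ← ht3, ← map_mul]; rfl⟩
    | inv s _ hs =>
      obtain ⟨s', hs1, hs2, hs3⟩ := hs
      exact ⟨s'⁻¹, inv_mem hs1, inv_mem hs2, by rw [← hs3, ← map_inv]; rfl⟩
  obtain ⟨hhM, rfl⟩ := hhe
  set h₁ : P := ⟨h, hh⟩
  set g₁ : P := y ^ p ^ (e - 1)
  have hmem : ∀ t : P, Commute ⁅α.rangeRestrict g₁, α.rangeRestrict h₁⁆ (α.rangeRestrict t) →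
      ⁅⁅(y : H) ^ p ^ (e - 1), h⁆, (t : H)⁆ ∈ centralizer (Q : Set H) := fun t ht => by
    have h2 := commutatorElement_eq_one_iff_mul_comm.mpr ht.eq
    rw [← map_commutatorElement, ← map_commutatorElement] at h2
    exact (hα ⁅⁅g₁, h₁⁆, t⁆).mp (congrArg Subtype.val h2)
  have key := commutator_top_aux hp hp2 hq (Ne.symm hqp) (hqK q hq hqp) (finrank K W) H W ρ Q
    (y : H) h e le_rfl hρ hQp hcl he (hexp _ y.2) (hPQ y.2) (hN _ y.2)
    (Subgroup.closure_mono (by
      rintro _ ⟨z, hz, rfl⟩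
      exact ⟨z, e, he, rfl, hexp _ hz, hPQ hz, hN _ hz⟩) hhM)
    (hmem y (hcy (α.rangeRestrict y) (((Commute.refl y).pow_right _).map α.rangeRestrict)))
    (hmem g₁ hcg) (hmem h₁ hch)
  refine hne' ?_
  show ⁅α.rangeRestrict g₁, α.rangeRestrict h₁⁆ = 1
  rw [← map_commutatorElement]
  exact Subtype.ext ((hα ⁅g₁, h₁⁆).mpr key)

/-- A representation over an algebraically closed field keeping fixed norms. -/
theorem exists_rep_fixed_norm {G V : Type*} [Group G] [CommGroup V] [Finite V] {ℓ : ℕ}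
    [Fact ℓ.Prime] (hV : ∀ v : V, v ^ ℓ = 1) (φ : G →* MulAut V) :
    ∃ (n : ℕ) (ρ : Representation (AlgebraicClosure (ZMod ℓ)) G
        (Fin n → AlgebraicClosure (ZMod ℓ))),
      (∀ g, ρ g = 1 → φ g = 1) ∧
      ∀ (g x : G) (m : ℕ), (∀ v : V, φ g (∏ k ∈ Finset.range m, φ (x ^ k) v) =
          ∏ k ∈ Finset.range m, φ (x ^ k) v) →
        (ρ g - 1) * ∑ k ∈ Finset.range m, ρ x ^ k = 0 := by
  let _ : Module (ZMod ℓ) (Additive V) := AddCommGroup.zmodModule (n := ℓ) fun v =>
    show v.toMul ^ ℓ = 1 from hV v.toMul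
  let ψ₀ : G →* AddMonoid.End (Additive V) :=
    { toFun := fun g => MonoidHom.toAdditive (φ g).toMonoidHom
      map_one' := by rw [map_one]; rfl
      map_mul' := fun a b => by rw [map_mul]; rfl }
  let L : G →* Module.End (ZMod ℓ) (Additive V) := endHom (p := ℓ) ψ₀
  obtain ⟨n, Φ, hΦ⟩ := exists_endRing (M := Additive V) (l := ℓ)
  refine ⟨n, Φ.toMonoidHom.comp L, fun g hg => ?_, fun g x m h => ?_⟩
  · have h1 : L g = 1 := hΦ (hg.trans (map_one Φ).symm)
    exact MulEquiv.ext fun v => Additive.ofMul.injective (LinearMap.congr_fun h1 (Additive.ofMul v))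
  · have h1 : ∀ v : V, ∑ k ∈ Finset.range m, L (x ^ k) (Additive.ofMul v) =
        Additive.ofMul (∏ k ∈ Finset.range m, φ (x ^ k) v) := fun v => by
      rw [ofMul_prod]
      rfl
    have h2 : (L g - 1) * ∑ k ∈ Finset.range m, L (x ^ k) = 0 := LinearMap.ext fun v => by
      rw [Module.End.mul_apply, LinearMap.sub_apply, Module.End.one_apply, LinearMap.sum_apply,
        show v = Additive.ofMul v.toMul from rfl, h1, LinearMap.zero_apply, sub_eq_zero]
      exact congrArg Additive.ofMul (h v.toMul)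
    show (Φ (L g) - 1) * ∑ k ∈ Finset.range m, Φ (L x) ^ k = 0
    have h3 := congrArg Φ h2
    rw [map_mul, map_sub, map_one, map_sum, map_zero] at h3
    simp only [map_pow] at h3
    exact h3

/-- The top power of an element of a Sylow subgroup lies in `O_{p',p}` of `K ⧸ O_p(K)`. -/
theorem top_mem_term_two {L : Type*} [Group L] [Finite L] {p : ℕ} [Fact p.Prime] (hp2 : p ≠ 2)
    (hL : Cfsg.IsPSolvable p L) (hbot : Cfsg.pPrimeCore p L = ⊥) {e : ℕ} (he : 1 ≤ e)
    (hexp : ∀ (P : Sylow p L), ∀ x ∈ (P : Subgroup L), x ^ p ^ e = 1) (P : Sylow p L) {x : L}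
    (hx : x ∈ (P : Subgroup L)) :
    QuotientGroup.mk' (Cfsg.pPrimeCore p (L ⧸ Cfsg.pCore p L))
        (QuotientGroup.mk' (Cfsg.pCore p L) x ^ p ^ (e - 1)) ∈
      Cfsg.pCore p ((L ⧸ Cfsg.pCore p L) ⧸ Cfsg.pPrimeCore p (L ⧸ Cfsg.pCore p L)) := by
  classical
  have hp : p.Prime := Fact.out
  set O := Cfsg.pCore p L
  have hOp : IsPGroup p O := isPGroup_pCore p L
  let _ : CommGroup (↥O ⧸ frattini ↥O) :=
    { (inferInstance : Group (↥O ⧸ frattini ↥O)) with
      mul_comm := frattini_quotient_comm O hOp }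
  have hel := (PGroupsBasic.quotient_frattini_elementary hOp).2
  obtain ⟨φ, hφ, hφc⟩ := exists_frattini_action hL hbot
  obtain ⟨n, ρ, hρ1, hρN⟩ := exists_rep (V := ↥O ⧸ frattini ↥O) (ℓ := p) hel φ
  have hρ : Function.Injective ρ := by
    rw [injective_iff_map_eq_one]
    exact fun g hg => hφ (((hρ1 g).mp hg).trans (map_one φ).symm)
  set θ := QuotientGroup.mk' O
  set PH := (P : Subgroup L).map θ
  have hexpH : ∀ y ∈ PH, y ^ p ^ e = 1 := by
    rintro _ ⟨z, hz, rfl⟩
    rw [← map_pow, hexp P z hz, map_one]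
  have hnorm : ∀ y ∈ PH, ∑ k ∈ Finset.range (p ^ e), ρ y ^ k = 0 := by
    rintro _ ⟨z, hz, rfl⟩
    refine (hρN _ _).mpr fun v => ?_
    obtain ⟨o, rfl⟩ := QuotientGroup.mk_surjective v
    obtain ⟨om, h1, h2⟩ := exists_coe_mul_pow (V := ↥O ⧸ frattini ↥O) O
      (QuotientGroup.mk' (frattini ↥O)) θ φ hφc z o (p ^ e)
    rw [hexp P _ (mul_mem (pCore_le_sylow P o.2) hz), hexp P z hz, mul_one] at h1
    rw [show om = 1 from Subtype.ext h1.symm, map_one] at h2
    simp only [map_pow] at h2 ⊢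
    exact h2.symm
  set R := Cfsg.pPrimeCore p (L ⧸ O)
  have hRn : R.Normal := pPrimeCore_normal p _
  have hRcop : (Nat.card R).Coprime p := coprime_card_pPrimeCore p _
  have hCR : centralizer (R : Set (L ⧸ O)) ≤ R := by
    rw [show R = Cfsg.piCore ({p} : Set ℕ)ᶜ (L ⧸ O) from pPrimeCore_eq_piCore p _]
    refine centralizer_piCore_le ((isPSolvable_iff p).mp (isPSolvable_quotient hL O)).compl ?_
    rw [compl_compl, ← pCore_eq_piCore]
    exact pCore_quotient_self p L
  have hqK : ∀ q : ℕ, q.Prime → q ≠ p → (q : AlgebraicClosure (ZMod p)) ≠ 0 := fun q hq hqp => by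
    rw [Ne, CharP.cast_eq_zero_iff (AlgebraicClosure (ZMod p)) p, Nat.prime_dvd_prime_iff_eq hp hq]
    exact Ne.symm hqp
  set Lb := (L ⧸ O) ⧸ R
  set η := QuotientGroup.mk' R
  set A := Cfsg.pCore p Lb
  set xb := η (θ x) with hxb
  rw [map_pow]
  by_contra hxA
  have hxbe : xb ^ p ^ e = 1 := by rw [hxb, ← map_pow, ← map_pow, hexp P x hx, map_one, map_one]
  have hLb : Cfsg.IsPSolvable p Lb := isPSolvable_quotient (isPSolvable_quotient hL O) R
  have hbotb : Cfsg.pPrimeCore p Lb = ⊥ := pPrimeCore_quotient_self p (L ⧸ O)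
  obtain ⟨q, hq, hqp, Q, -, hQ, hxQ, hnc⟩ :=
    exists_moved_subgroup hLb (hxbe ▸ one_mem _) he hxA
  have hqf := Fact.mk hq
  set xq := QuotientGroup.mk' A xb with hxq
  have hxqe : xq ^ p ^ e = 1 := by rw [hxq, ← map_pow, hxbe, map_one]
  have hcop : (orderOf (xq ^ p ^ (e - 1))).Coprime q :=
    ((Nat.coprime_primes hp hq).mpr (Ne.symm hqp)).coprime_dvd_left (orderOf_dvd_of_pow_eq_one (by
      rw [← pow_mul, ← pow_succ, Nat.sub_add_cancel he, hxqe]))
  obtain ⟨Q₁, hle, hx₁, hcl, hgen, hnc₁⟩ :=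
    exists_class_two hQ (npow_mem_zpowers xq _) hxQ hcop hnc
  have hAp : IsPGroup p A := isPGroup_pCore p Lb
  let _ : CommGroup (↥A ⧸ frattini ↥A) :=
    { (inferInstance : Group (↥A ⧸ frattini ↥A)) with
      mul_comm := frattini_quotient_comm A hAp }
  have helA := (PGroupsBasic.quotient_frattini_elementary hAp).2
  obtain ⟨φA, hφA, hφAc⟩ := exists_frattini_action hLb hbotb
  obtain ⟨m, σ, hσ1, hσN⟩ := exists_rep_fixed_norm (V := ↥A ⧸ frattini ↥A) (ℓ := p) helA φA
  have hσ : Function.Injective σ := by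
    rw [injective_iff_map_eq_one]
    exact fun g hg => hφA ((hσ1 g hg).trans (map_one φA).symm)
  have hηθ : Function.Surjective (η.comp θ) :=
    (QuotientGroup.mk'_surjective R).comp (QuotientGroup.mk'_surjective O)
  -- `x₀` fixes every `p ^ (e - 1)`-norm
  have hfix : ∀ v : ↥A ⧸ frattini ↥A,
      φA (xq ^ p ^ (e - 1)) (∏ k ∈ Finset.range (p ^ (e - 1)), φA (xq ^ k) v) =
        ∏ k ∈ Finset.range (p ^ (e - 1)), φA (xq ^ k) v := by
    intro v
    obtain ⟨o, rfl⟩ := QuotientGroup.mk_surjective v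
    obtain ⟨om, h1, h2⟩ := exists_coe_mul_pow (V := ↥A ⧸ frattini ↥A) A
      (QuotientGroup.mk' (frattini ↥A)) (QuotientGroup.mk' A) φA hφAc xb o (p ^ (e - 1))
    have hlift : ∀ z ∈ ((P : Subgroup L).map (η.comp θ)), ∃ z' ∈ PH, η z' = z := by
      rintro _ ⟨z, hz, rfl⟩
      exact ⟨θ z, mem_map_of_mem θ hz, rfl⟩
    obtain ⟨z, hz, hzo⟩ := hlift ((o : Lb) * xb)
      (mul_mem (pCore_le_sylow (P.mapSurjective hηθ) o.2) ⟨x, hx, rfl⟩)
    have h3 := congrArg η (tops_commute hp2 hqK ρ hρ hRcop hCR (P.2.map θ) he hexpH hnorm hz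
      (mem_map_of_mem θ hx))
    simp only [map_mul, map_pow] at h3
    rw [hzo, ← hxb, h1] at h3
    have h4 : xb ^ p ^ (e - 1) * (om : Lb) * (xb ^ p ^ (e - 1))⁻¹ = om := by
      rw [mul_inv_eq_iff_eq_mul]
      refine mul_right_cancel (b := xb ^ p ^ (e - 1)) ?_
      rw [mul_assoc _ (om : Lb), ← h3]
    have h2' : ∏ k ∈ Finset.range (p ^ (e - 1)), φA (xq ^ k)
        ((o : A) : ↥A ⧸ frattini ↥A) = ((om : A) : ↥A ⧸ frattini ↥A) := h2.symm
    rw [h2', show xq ^ p ^ (e - 1) = ((xb ^ p ^ (e - 1) : Lb) : Lb ⧸ A) from rfl, hφAc,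
      show (MulAut.conjNormal (xb ^ p ^ (e - 1)) om : A) = om from Subtype.ext (by
        rw [MulAut.conjNormal_apply]; exact h4)]
  have hpK : (p : AlgebraicClosure (ZMod p)) = 0 := CharP.cast_eq_zero _ p
  have hpoly : (σ (xq ^ p ^ (e - 1)) - 1) * ∑ k ∈ Finset.range (p ^ (e - 1)), σ xq ^ k = 0 :=
    hσN _ _ _ hfix
  have hnormA : ∑ k ∈ Finset.range (p ^ e), σ xq ^ k = 0 := by
    have hX : σ xq ^ p ^ (e - 1) = σ (xq ^ p ^ (e - 1)) := (map_pow σ _ _).symm
    have hmul : ∀ i : ℕ, (σ xq ^ p ^ (e - 1)) ^ i * ∑ k ∈ Finset.range (p ^ (e - 1)), σ xq ^ k =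
        ∑ k ∈ Finset.range (p ^ (e - 1)), σ xq ^ k := fun i => by
      induction i with
      | zero => rw [pow_zero, one_mul]
      | succ i ih =>
        rw [pow_succ, mul_assoc, hX]
        rw [sub_mul, one_mul, sub_eq_zero] at hpoly
        rw [hpoly, ← hX, ih]
    have hsplit : ∀ i : ℕ, ∑ k ∈ Finset.range (p ^ (e - 1) * i), σ xq ^ k =
        (i : AlgebraicClosure (ZMod p)) • ∑ k ∈ Finset.range (p ^ (e - 1)), σ xq ^ k := fun i => by
      induction i with
      | zero => simp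
      | succ i ih =>
        rw [mul_add, mul_one, Finset.sum_range_add, ih, Nat.cast_succ, add_smul, one_smul]
        congr 1
        conv_rhs => rw [← hmul i, Finset.mul_sum]
        exact Finset.sum_congr rfl fun k _ => by rw [pow_add, pow_mul]
    rw [show p ^ e = p ^ (e - 1) * p by rw [← pow_succ, Nat.sub_add_cancel he], hsplit, hpK,
      zero_smul]
  obtain ⟨u, hu, hu1⟩ : ∃ u ∈ Q₁, u ≠ 1 := by
    by_contra hall
    push Not at hall
    exact hnc₁ fun u hu => by rw [hall u hu]; exact one_mem _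
  exact HHData.false_of_quadratic ⟨hp, hq, Ne.symm hqp, hqK q hq hqp, he, hxqe, hx₁, hQ.to_le hle,
    hcl, hgen, hnormA, u, hu, fun h => hu1 (hσ (h.trans (map_one σ).symm))⟩ hp2 hpK hpoly

/-- For odd `p` the `p`-length is at most twice the exponent. -/
theorem pLengthLE_two_mul_exponent {p : ℕ} [Fact p.Prime] (hp2 : p ≠ 2) (n : ℕ) :
    ∀ (G : Type*) [Group G] [Finite G], Cfsg.IsPSolvable p G →
      (∀ (P : Sylow p G), ∀ x ∈ (P : Subgroup G), x ^ p ^ n = 1) →
      Cfsg.PLengthLE p (2 * n) G := by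
  have hp : p.Prime := Fact.out
  induction n with
  | zero =>
    intro G _ _ _ hexp
    rw [mul_zero, Cfsg.Agent.HallPLength.pLengthLE_zero_iff]
    refine ((Nat.Prime.coprime_iff_not_dvd hp).mpr fun hd => ?_).symm
    obtain ⟨g, hg⟩ := exists_prime_orderOf_dvd_card' p hd
    obtain ⟨P, hP⟩ := (IsPGroup.of_card (n := 1) (by rw [Nat.card_zpowers, hg, pow_one]) :
      IsPGroup p (Subgroup.zpowers g)).exists_le_sylow
    have := hexp P g (hP (Subgroup.mem_zpowers g))
    rw [pow_zero, pow_one] at this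
    exact hp.ne_one (hg.symm.trans (orderOf_eq_one_iff.mpr this))
  | succ n ih =>
    intro G _ _ hG hexp
    have hexpq : ∀ (N : Subgroup G) [N.Normal], ∀ (P : Sylow p (G ⧸ N)),
        ∀ x ∈ (P : Subgroup (G ⧸ N)), x ^ p ^ (n + 1) = 1 := fun N _ P x hx => by
      obtain ⟨P0, rfl⟩ := Sylow.mapSurjective_surjective (QuotientGroup.mk'_surjective N) p P
      obtain ⟨y, hy, rfl⟩ := hx
      rw [← map_pow, hexp P0 y hy, map_one]
    set T1 := Cfsg.Agent.HallPLength.term p G 1
    set T2 := Cfsg.Agent.HallPLength.term p G 2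
    have : T1.Normal := Cfsg.Agent.HallPLength.term_two_normal _ _ _
    have : T2.Normal := Cfsg.Agent.HallPLength.term_two_normal _ _ _
    have hT12 : T1 ≤ T2 := Cfsg.Agent.HallPLength.term_le_term (by omega)
    set K := G ⧸ T1
    have hmap : T2.map (QuotientGroup.mk' T1) = Cfsg.pCore p K := by
      rw [show T2 = (Cfsg.pCore p K).comap (QuotientGroup.mk' T1) from
        Cfsg.Agent.HallConstrained.upperPSeries_even 0]
      exact Subgroup.map_comap_eq_self_of_surjective (QuotientGroup.mk'_surjective _) _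
    let eH : K ⧸ Cfsg.pCore p K ≃* G ⧸ T2 :=
      (QuotientGroup.quotientMulEquivOfEq hmap.symm).trans
        (QuotientGroup.quotientQuotientEquivQuotient T1 T2 hT12)
    rw [show 2 * (n + 1) = 2 * n + 1 + 1 by ring, Cfsg.Agent.HallPLength.pLengthLE_succ_iff]
    refine Cfsg.Agent.HallPLength.pLengthLE_of_surjective (f := eH.toMonoidHom) eH.surjective ?_
    set H := K ⧸ Cfsg.pCore p K
    rw [Cfsg.Agent.HallPLength.pLengthLE_succ_iff]
    set U2 := Cfsg.Agent.HallPLength.term p H 2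
    have : U2.Normal := Cfsg.Agent.HallPLength.term_two_normal _ _ _
    have hK : Cfsg.IsPSolvable p K := isPSolvable_quotient hG T1
    have hH : Cfsg.IsPSolvable p H := isPSolvable_quotient hK _
    refine ih (H ⧸ U2) (isPSolvable_quotient hH U2) fun P z hz => ?_
    obtain ⟨P1, rfl⟩ := Sylow.mapSurjective_surjective (QuotientGroup.mk'_surjective U2) p P
    obtain ⟨z, hz, rfl⟩ := hz
    obtain ⟨P2, rfl⟩ := Sylow.mapSurjective_surjective
      (QuotientGroup.mk'_surjective (Cfsg.pCore p K)) p P1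
    obtain ⟨x, hx, rfl⟩ := hz
    rw [← map_pow]
    refine (QuotientGroup.eq_one_iff _).mpr ?_
    have h1 := top_mem_term_two hp2 hK
      (Cfsg.Agent.HallConstrained.pPrimeCore_quotient_upperPSeries 0) (e := n + 1) (by omega)
      (hexpq T1) P2 hx
    rw [Nat.add_sub_cancel] at h1
    have hU1 : (Cfsg.upperPSeries p H 1).1 = Cfsg.pPrimeCore p H := by
      have h0 : (Cfsg.upperPSeries p H (2 * 0)).1 = ⊥ := Cfsg.Agent.HallConstrained.upperPSeries_zero
      rw [show (1 : ℕ) = 2 * 0 + 1 from rfl, Cfsg.Agent.HallConstrained.upperPSeries_odd,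
        pPrimeCore_quotient (by rw [h0, card_bot]; exact Nat.coprime_one_left p), comap_mk'_map, h0,
        sup_bot_eq]
    rw [show U2 = (Cfsg.pCore p (H ⧸ (Cfsg.upperPSeries p H 1).1)).comap (QuotientGroup.mk' _) from
      Cfsg.Agent.HallConstrained.upperPSeries_even 0, Subgroup.mem_comap]
    let e2 : H ⧸ Cfsg.pPrimeCore p H ≃* H ⧸ (Cfsg.upperPSeries p H 1).1 :=
      QuotientGroup.quotientMulEquivOfEq hU1.symm
    rw [← map_equiv_pCore e2]
    exact ⟨_, h1, rfl⟩

end Cfsg.Agent.HallHigman
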