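import Mathlib
import Cfsg.Prelude.Def_LocalEven

/-!
# Recognition of `C_p ≀ C_p`

A commuting regular orbit with non-trivial norm spans a section isomorphic to `C_p ≀ C_p`.
-/

set_option autoImplicit false

namespace Cfsg.Agent.HallHigman

open Multiplicative (ofAdd toAdd)

variable (p : ℕ) [hp : Fact p.Prime]

/-- Translation of the coordinates. -/
def shiftAut : Multiplicative (ZMod p) →* MulAut (Multiplicative (ZMod p → ZMod p)) where
  toFun a :=
    { toFun := fun c => ofAdd fun i => toAdd c (i - toAdd a)
      invFun := fun c => ofAdd fun i => toAdd c (i + toAdd a)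
      left_inv := fun c => Multiplicative.ext (funext fun i => by simp)
      right_inv := fun c => Multiplicative.ext (funext fun i => by simp)
      map_mul' := fun c d => rfl }
  map_one' := MulEquiv.ext fun c => Multiplicative.ext (funext fun i => by simp)
  map_mul' a b := MulEquiv.ext fun c => Multiplicative.ext (funext fun i => by
    show toAdd c (i - toAdd (a * b)) = toAdd c (i - toAdd a - toAdd b)
    rw [toAdd_mul, sub_sub])

/-- The group `C_p ≀ C_p`. -/
abbrev Wreath := Multiplicative (ZMod p → ZMod p) ⋊[shiftAut p] Multiplicative (ZMod p)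

instance : Finite (Wreath p) := Finite.of_equiv _ SemidirectProduct.equivProd.symm

variable {p}

theorem wreath_spec :
    ∃ (B : Subgroup (Wreath p)) (t : Wreath p), B.Normal ∧ IsMulCommutative B ∧
      (∀ b ∈ B, b ^ p = 1) ∧ Nat.card B = p ^ p ∧ orderOf t = p ∧ t ∉ B ∧
      Nat.card (Wreath p) = p ^ (p + 1) ∧
      Nat.card ↥(B ⊓ Subgroup.centralizer ({t} : Set (Wreath p))) = p := by
  classical
  let ι : Multiplicative (ZMod p → ZMod p) →* Wreath p := SemidirectProduct.inl
  have hι : Function.Injective ι := SemidirectProduct.inl_injective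
  let t : Wreath p := SemidirectProduct.inr (ofAdd (1 : ZMod p))
  have hcard : Nat.card (Multiplicative (ZMod p → ZMod p)) = p ^ p := by
    rw [Nat.card_congr Multiplicative.toAdd, Nat.card_fun, Nat.card_zmod]
  have hcen : ι.range ⊓ Subgroup.centralizer {t} =
      Subgroup.map ι (AddMonoidHom.toMultiplicative (Pi.constAddMonoidHom (ZMod p) (ZMod p))).range := by
    ext w
    constructor
    · rintro ⟨⟨c, rfl⟩, hw⟩
      refine ⟨c, ⟨ofAdd (toAdd c 0), ?_⟩, rfl⟩
      have h1 : ι (shiftAut p (ofAdd (1 : ZMod p)) c) = ι c := by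
        show SemidirectProduct.inl _ = _
        rw [SemidirectProduct.inl_aut, map_inv, mul_inv_eq_iff_eq_mul]
        exact (Subgroup.mem_centralizer_singleton_iff.mp hw).symm
      have h2 : ∀ n : ℕ, toAdd c (n : ZMod p) = toAdd c 0 := by
        intro n
        induction n with
        | zero => simp
        | succ n ih =>
          have h3 := congrFun (congrArg toAdd (hι h1)) ((n + 1 : ℕ) : ZMod p)
          rw [← h3, ← ih]
          show toAdd c (((n + 1 : ℕ) : ZMod p) - 1) = _
          simp
      refine Multiplicative.ext (funext fun i => ?_)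
      show toAdd c 0 = toAdd c i
      rw [← ZMod.natCast_zmod_val i, h2]
    · rintro ⟨_, ⟨a, rfl⟩, rfl⟩
      refine ⟨⟨_, rfl⟩, Subgroup.mem_centralizer_singleton_iff.mpr ?_⟩
      rw [eq_comm, ← mul_inv_eq_iff_eq_mul]
      show SemidirectProduct.inr _ * SemidirectProduct.inl _ * (SemidirectProduct.inr _)⁻¹ = _
      rw [← map_inv, ← SemidirectProduct.inl_aut]
      rfl
  refine ⟨ι.range, t, ?_, ?_, ?_, ?_, ?_, ?_, ?_, ?_⟩
  · rw [SemidirectProduct.range_inl_eq_ker_rightHom]
    infer_instance
  · refine ⟨⟨?_⟩⟩
    rintro ⟨_, a, rfl⟩ ⟨_, b, rfl⟩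
    exact Subtype.ext (by show ι a * ι b = ι b * ι a; rw [← map_mul, ← map_mul, mul_comm])
  · rintro _ ⟨c, rfl⟩
    rw [← map_pow, show c ^ p = 1 from Multiplicative.ext (funext fun i => by simp), map_one]
  · rw [← hcard]
    exact Nat.card_congr (MonoidHom.ofInjective hι).symm.toEquiv
  · rw [orderOf_injective _ SemidirectProduct.inr_injective, orderOf_ofAdd_eq_addOrderOf,
      ZMod.addOrderOf_one]
  · rintro ⟨c, hc⟩
    have := congrArg SemidirectProduct.rightHom hc
    rw [SemidirectProduct.rightHom_inl, SemidirectProduct.rightHom_inr] at this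
    exact one_ne_zero (congrArg toAdd this).symm
  · rw [SemidirectProduct.card, hcard, Nat.card_congr Multiplicative.toAdd, Nat.card_zmod, pow_succ]
  · rw [hcen, Subgroup.card_map_of_injective hι, ← Nat.card_congr (MonoidHom.ofInjective
      (f := AddMonoidHom.toMultiplicative (Pi.constAddMonoidHom (ZMod p) (ZMod p)))
      fun a b h => Multiplicative.ext (congrFun (congrArg toAdd h) 0)).toEquiv,
      Nat.card_congr Multiplicative.toAdd, Nat.card_zmod]

theorem pow_val_add {A : Type*} [Monoid A] {a : A} (h : a ^ p = 1) (x y : ZMod p) :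
    a ^ (x + y).val = a ^ x.val * a ^ y.val := by
  rw [ZMod.val_add, ← pow_add, ← pow_eq_pow_mod _ h]

/-- An injection of `C_p ≀ C_p` from commuting conjugates with non-trivial norm. -/
theorem exists_wreath_injective {E : Type*} [Group E] {t u : E} (ht : t ^ p = 1) (hu : u ^ p = 1)
    (hcomm : ∀ i j : ℕ, Commute (t ^ i * u * (t ^ i)⁻¹) (t ^ j * u * (t ^ j)⁻¹))
    (hN : (u * t) ^ p ≠ 1) :
    ∃ g : Wreath p →* E, Function.Injective g := by
  classical
  have hp' := hp.out
  let w : ZMod p → E := fun i => t ^ i.val * u * (t ^ i.val)⁻¹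
  set A := Subgroup.closure (Set.range w)
  have hwA : ∀ i, w i ∈ A := fun i => Subgroup.subset_closure ⟨i, rfl⟩
  let _ : CommGroup A := Subgroup.closureCommGroupOfComm (by
    rintro _ ⟨i, rfl⟩ _ ⟨j, rfl⟩
    exact (hcomm i.val j.val).eq)
  let a : ZMod p → A := fun i => ⟨w i, hwA i⟩
  have hap : ∀ i, a i ^ p = 1 := fun i => Subtype.ext (by
    show w i ^ p = 1
    rw [conj_pow, hu, mul_one, mul_inv_cancel])
  let f : Multiplicative (ZMod p → ZMod p) →* A :=
    { toFun := fun c => ∏ i, a i ^ (toAdd c i).val
      map_one' := Finset.prod_eq_one fun i _ => by simp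
      map_mul' := fun c d => by
        rw [← Finset.prod_mul_distrib]
        exact Finset.prod_congr rfl fun i _ => pow_val_add (hap i) _ _ }
  have hw : ∀ n : ℕ, w (n : ZMod p) = t ^ n * u * (t ^ n)⁻¹ := fun n => by
    show t ^ (n : ZMod p).val * u * (t ^ (n : ZMod p).val)⁻¹ = _
    rw [ZMod.val_natCast, ← pow_eq_pow_mod _ ht]
  have htw : ∀ i, t * w i * t⁻¹ = w (i + 1) := by
    intro i
    obtain ⟨n, rfl⟩ := ZMod.natCast_zmod_surjective i
    rw [← Nat.cast_succ, hw, hw, pow_succ']
    group
  have htA : ∀ z ∈ A, t * z * t⁻¹ ∈ A := by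
    intro z hz
    have h : A.map (MulAut.conj t).toMonoidHom ≤ A := by
      rw [MonoidHom.map_closure, Subgroup.closure_le]
      rintro _ ⟨_, ⟨i, rfl⟩, rfl⟩
      show t * w i * t⁻¹ ∈ A
      rw [htw]
      exact hwA _
    exact h ⟨z, hz, rfl⟩
  let τ : A →* A :=
    ((MulAut.conj t).toMonoidHom.comp A.subtype).codRestrict A fun z => htA z z.2
  have hτ : ∀ c, τ (f c) = f (shiftAut p (ofAdd (1 : ZMod p)) c) := by
    intro c
    show τ (∏ i, a i ^ (toAdd c i).val) = ∏ i, a i ^ (toAdd c (i - 1)).val
    rw [map_prod, ← Equiv.prod_comp (Equiv.addRight (1 : ZMod p))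
      (fun i => a i ^ (toAdd c (i - 1)).val)]
    refine Finset.prod_congr rfl fun i _ => ?_
    rw [map_pow, Equiv.coe_addRight, add_sub_cancel_right]
    exact congrArg (· ^ _) (Subtype.ext (htw i))
  let T : Multiplicative (ZMod p) →* E :=
    { toFun := fun x => t ^ (toAdd x).val
      map_one' := by simp
      map_mul' := fun x y => pow_val_add ht _ _ }
  have hT : ∀ (n : ℕ) (c), (f (shiftAut p (ofAdd (n : ZMod p)) c) : E) =
      t ^ n * f c * (t ^ n)⁻¹ := by
    intro n
    induction n with
    | zero => intro c; simp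
    | succ n ih =>
      intro c
      rw [Nat.cast_succ, add_comm, ofAdd_add, map_mul, MulAut.mul_apply, ← hτ]
      show t * (f _ : E) * t⁻¹ = _
      rw [ih, pow_succ']
      group
  let g : Wreath p →* E := SemidirectProduct.lift (A.subtype.comp f) T fun x => by
    refine MonoidHom.ext fun c => ?_
    show (f (shiftAut p x c) : E) = t ^ (toAdd x).val * f c * (t ^ (toAdd x).val)⁻¹
    rw [← hT, ZMod.natCast_zmod_val, ofAdd_toAdd]
  refine ⟨g, ?_⟩
  -- the norm
  set N : A := ∏ i, a i with hNdef
  have hNp : N ^ p = 1 := by rw [hNdef, ← Finset.prod_pow]; exact Finset.prod_eq_one fun i _ => hap i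
  have hN1 : N ≠ 1 := by
    intro h
    refine hN ?_
    have key : ∀ n : ℕ, (u * t) ^ n = (∏ k ∈ Finset.range n, a (k : ZMod p) : A) * t ^ n := by
      intro n
      induction n with
      | zero => simp
      | succ n ih =>
        have h2 : ∏ k ∈ Finset.range (n + 1), a (k : ZMod p) =
            a 0 * τ (∏ k ∈ Finset.range n, a (k : ZMod p)) := by
          rw [Finset.prod_range_succ', map_prod, Nat.cast_zero, mul_comm]
          congr 1
          refine Finset.prod_congr rfl fun k _ => Subtype.ext ?_
          rw [Nat.cast_succ]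
          exact (htw k).symm
        have h3 : ((a 0 : A) : E) = u := by
          show w 0 = u
          rw [← Nat.cast_zero, hw, pow_zero, one_mul, inv_one, mul_one]
        rw [h2, Subgroup.coe_mul, h3, pow_succ', ih, pow_succ']
        show u * t * (_ * t ^ n) = u * (t * _ * t⁻¹) * (t * t ^ n)
        group
        rfl
    have hr : ∏ k ∈ Finset.range p, a (k : ZMod p) = N := by
      refine Finset.prod_bij' (fun k _ => (k : ZMod p)) (fun i _ => i.val)
        (fun k _ => Finset.mem_univ _) (fun i _ => Finset.mem_range.mpr i.val_lt) ?_ ?_ ?_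
      · intro k hk; exact ZMod.val_cast_of_lt (Finset.mem_range.mp hk)
      · intro i _; exact ZMod.natCast_zmod_val i
      · intro k _; rfl
    rw [key, hr, h, ht, Subgroup.coe_one, mul_one]
  -- `f` is injective
  have hf : Function.Injective f := by
    rw [injective_iff_map_eq_one]
    by_contra hne
    push Not at hne
    obtain ⟨c, hc, hc1⟩ := hne
    let _ : MulAction (Multiplicative (ZMod p)) f.ker :=
      { smul := fun x d => ⟨shiftAut p x d.1, by
          refine Subtype.ext ?_
          rw [← ofAdd_toAdd x, ← ZMod.natCast_zmod_val (toAdd x), hT, MonoidHom.mem_ker.mp d.2]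
          simp⟩
        one_smul := fun d => Subtype.ext (by
          show shiftAut p 1 d.1 = d.1
          rw [map_one]; rfl)
        mul_smul := fun x y d => Subtype.ext (by
          show shiftAut p (x * y) d.1 = _
          rw [map_mul]; rfl) }
    have hP : IsPGroup p (Multiplicative (ZMod p)) := IsPGroup.of_card (n := 1) (by
      rw [Nat.card_congr Multiplicative.toAdd, Nat.card_zmod, pow_one])
    have hker : p ∣ Nat.card f.ker := by
      have h : orderOf c = p := orderOf_eq_prime
        (Multiplicative.ext (funext fun i => by simp)) hc1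
      exact dvd_trans (dvd_of_eq h.symm) ((Subgroup.orderOf_coe (⟨c, hc⟩ : f.ker)).symm ▸
        orderOf_dvd_natCard _)
    obtain ⟨d, hd, hd1⟩ := hP.exists_fixed_point_of_prime_dvd_card_of_fixed_point f.ker hker
      (a := 1) (fun x => Subtype.ext (map_one (shiftAut p x)))
    have hconst : ∀ i, toAdd d.1 i = toAdd d.1 0 := fun i => by
      have := congrFun (congrArg toAdd (congrArg Subtype.val (hd (ofAdd i)))) i
      rw [← this]
      show toAdd d.1 (i - i) = _
      rw [sub_self]
    have h1 : N ^ (toAdd d.1 0).val = 1 := by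
      rw [hNdef, ← Finset.prod_pow, ← MonoidHom.mem_ker.mp d.2]
      exact Finset.prod_congr rfl fun i _ => by rw [hconst i]
    have h2 := orderOf_dvd_of_pow_eq_one h1
    rw [orderOf_eq_prime hNp hN1] at h2
    have h3 := Nat.eq_zero_of_dvd_of_lt h2 (ZMod.val_lt _)
    rw [ZMod.val_eq_zero] at h3
    exact hd1 (Subtype.ext (Multiplicative.ext (funext fun i => by rw [hconst i, h3]; rfl)).symm)
  rw [injective_iff_map_eq_one]
  intro x hx
  rw [← SemidirectProduct.inl_left_mul_inr_right x, map_mul, SemidirectProduct.lift_inl,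
    SemidirectProduct.lift_inr] at hx
  have hTA : T x.right ∈ A := by
    rw [eq_inv_of_mul_eq_one_right hx]
    exact A.inv_mem (f x.left).2
  have hr : x.right = 1 := by
    by_contra hne
    -- a power of `T x.right` is `t`, so `t` commutes with `u`
    have h1 : ∀ c, f (shiftAut p x.right c) = f c := by
      intro c
      refine Subtype.ext ?_
      rw [← ofAdd_toAdd x.right, ← ZMod.natCast_zmod_val (toAdd x.right), hT,
        mul_inv_eq_iff_eq_mul]
      exact congrArg Subtype.val (mul_comm (⟨T x.right, hTA⟩ : A) (f c))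
    have h2 := congrFun (congrArg toAdd (hf (h1 (ofAdd (Pi.single 0 1))))) 0
    simp [shiftAut, Pi.single_apply] at h2
    exact hne (Multiplicative.ext h2)
  have hl : x.left = 1 := by
    apply hf
    refine Subtype.ext ?_
    rw [map_one]
    simpa [hr] using hx
  exact SemidirectProduct.ext hl hr

/-- A section from an injection into a quotient. -/
theorem involves_of_injective {G : Type*} [Group G] {W : Type*} [Group W] {K : Subgroup G}
    {E : Type*} [Group E] (π : K →* E) (hπ : Function.Surjective π) (g : W →* E)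
    (hg : Function.Injective g) : Cfsg.Involves W G := by
  let e := MonoidHom.ofInjective hg
  let K' : Subgroup G := (g.range.comap π).map K.subtype
  let eK : g.range.comap π ≃* K' :=
    (g.range.comap π).equivMapOfInjective K.subtype K.subtype_injective
  let f : K' →* W := (e.symm.toMonoidHom.comp
    ((π.comp (g.range.comap π).subtype).codRestrict g.range fun x => x.2)).comp eK.symm.toMonoidHom
  have hf : Function.Surjective f := by
    intro w
    obtain ⟨k, hk⟩ := hπ (g w)
    refine ⟨eK ⟨k, w, hk.symm⟩, ?_⟩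
    show e.symm ⟨π ((eK.symm (eK ⟨k, w, hk.symm⟩) : g.range.comap π) : K), _⟩ = w
    rw [MulEquiv.symm_apply_eq]
    refine Subtype.ext ?_
    simp only [MulEquiv.symm_apply_apply]
    exact hk
  refine ⟨K', f.ker.map K'.subtype, ?_⟩
  have h : (f.ker.map K'.subtype).subgroupOf K' = f.ker :=
    Subgroup.comap_map_eq_self_of_injective K'.subtype_injective _
  have hn : ((f.ker.map K'.subtype).subgroupOf K').Normal := by rw [h]; exact f.normal_ker
  exact ⟨hn, ⟨(QuotientGroup.quotientMulEquivOfEq h).trans
    (QuotientGroup.quotientKerEquivOfSurjective f hf)⟩⟩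

end Cfsg.Agent.HallHigman
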