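import Mathlib
import Cfsg.Prelude.Def_Solvable
import Cfsg.Prelude.Def_Local
import Cfsg.Agent.Lib.HallCore
import Cfsg.Agent.Lib.HallSolvable
import Cfsg.Agent.Lib.HallTheorem
import Cfsg.Agent.Lib.HallConstrained
import Cfsg.Agent.Lib.CoprimeGen

/-!
# Normalizers and centralizers of p-subgroups of p-constrained groups
-/

set_option autoImplicit false

namespace Cfsg.Agent.HallLocalConstrained

open scoped Pointwise
open Subgroup Cfsg.Agent.HallCore Cfsg.Agent.HallSolvable Cfsg.Agent.HallTheorem
  Cfsg.Agent.HallConstrained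

variable {G : Type*} [Group G] {p : ℕ} [hp : Fact p.Prime]

omit hp in
theorem mem_normalizer_iff_conj (g : G) (H : Subgroup G) :
    g ∈ Subgroup.normalizer (H : Set G) ↔ MulAut.conj g • H = H := by
  rw [Subgroup.mem_normalizer_iff_map_conj_eq, conj_smul_eq_map]
  rfl

/-- p-constraint passes up along a surjection with `p'`-kernel. -/
theorem isPConstrained_of_surjective {H : Type*} [Group H] [Finite G] {f : G →* H}
    (hf : Function.Surjective f) (hker : (Nat.card f.ker).Coprime p)
    (h : Cfsg.IsPConstrained p H) : Cfsg.IsPConstrained p G := by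
  have := Finite.of_surjective f hf
  rw [isPConstrained_iff] at h ⊢
  have hcomap : (Cfsg.pPrimeCore p H).comap f = Cfsg.pPrimeCore p G := by
    refine le_antisymm (le_pPrimeCore ?_) (Subgroup.map_le_iff_le_comap.mp (map_pPrimeCore_le hf))
    rw [← card_mul_relIndex (Subgroup.ker_le_comap f (Cfsg.pPrimeCore p H))]
    refine Nat.Coprime.mul_left hker ?_
    rw [← MonoidHom.comap_bot, Subgroup.relIndex_comap,
      Subgroup.map_comap_eq_self_of_surjective hf, Subgroup.relIndex_bot_left]
    exact coprime_card_pPrimeCore p H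
  let φ : G →* H ⧸ Cfsg.pPrimeCore p H := (QuotientGroup.mk' _).comp f
  have hφ : φ.ker = Cfsg.pPrimeCore p G := by
    rw [← hcomap]
    ext x
    simp [φ, MonoidHom.mem_ker]
  have hφs : Function.Surjective φ := (QuotientGroup.mk'_surjective _).comp hf
  exact centralizer_pCore_le_of_quotient_bot
    ((QuotientGroup.quotientMulEquivOfEq hφ.symm).trans
      (QuotientGroup.quotientKerEquivOfSurjective φ hφs)).symm h

theorem mem_map_normalizer [Finite G] {N P : Subgroup G} [N.Normal]
    (hN : (Nat.card N).Coprime p) (hP : IsPGroup p P) :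
    (Subgroup.normalizer (P : Set G)).map (QuotientGroup.mk' N) =
      Subgroup.normalizer ((P.map (QuotientGroup.mk' N) : Subgroup (G ⧸ N)) : Set (G ⧸ N)) := by
  set q := QuotientGroup.mk' N
  refine le_antisymm ?_ ?_
  · rintro _ ⟨g, hg, rfl⟩
    rw [mem_normalizer_iff_conj, ← map_conj_smul, (mem_normalizer_iff_conj g P).mp hg]
  · intro x hx
    obtain ⟨g, rfl⟩ := QuotientGroup.mk'_surjective N x
    set W := P ⊔ N
    have hgW : MulAut.conj g • P ≤ W := by
      have h1 := congrArg (Subgroup.comap q) ((mem_normalizer_iff_conj _ _).mp hx)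
      rw [← map_conj_smul, comap_mk'_map, comap_mk'_map] at h1
      exact le_sup_left.trans h1.le
    obtain ⟨k, hk⟩ := IsPGroup.iff_card.mp hP
    have hcard : Nat.card W = p ^ k * Nat.card N := by
      rw [card_sup_of_coprime (by rw [hk]; exact hN.pow_right k), hk]
    have hfac : (Nat.card W).factorization p = k := by
      rw [hcard, Nat.factorization_mul (pow_ne_zero _ hp.out.ne_zero) Nat.card_pos.ne',
        Finsupp.add_apply, Nat.factorization_pow_self hp.out,
        Nat.factorization_eq_zero_of_not_dvd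
          ((Nat.Prime.coprime_iff_not_dvd hp.out).mp hN.symm), add_zero]
    have mkS : ∀ X : Subgroup G, X ≤ W → Nat.card X = p ^ k →
        Nat.card (X.subgroupOf W) = p ^ (Nat.card W).factorization p := fun X hX hXc => by
      rw [hfac, Nat.card_congr (Subgroup.subgroupOfEquivOfLe hX).toEquiv, hXc]
    let S₁ : Sylow p W := Sylow.ofCard _ (mkS P le_sup_left hk)
    let S₂ : Sylow p W := Sylow.ofCard _ (mkS _ hgW ((card_conj_smul g P).trans hk))
    obtain ⟨w, hw⟩ := MulAction.exists_smul_eq W S₁ S₂
    have hw' := congrArg (fun S : Sylow p W => (S : Subgroup W)) hw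
    have hw'' : MulAut.conj w • P.subgroupOf W = (MulAut.conj g • P).subgroupOf W := hw'
    have h3 := congrArg (Subgroup.map W.subtype) hw''
    rw [map_conj_smul, Subgroup.map_subgroupOf_eq_of_le le_sup_left,
      Subgroup.map_subgroupOf_eq_of_le hgW] at h3
    obtain ⟨n, hn, y, hy, hny⟩ :=
      Subgroup.mem_sup_of_normal_left.mp ((sup_comm P N).le w.2)
    rw [Subgroup.coe_subtype, ← hny, map_mul, mul_smul, Subgroup.conj_smul_eq_self_of_mem hy] at h3
    refine ⟨n⁻¹ * g, ?_, ?_⟩
    · refine (mem_normalizer_iff_conj _ _).mpr ?_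
      rw [map_mul, mul_smul, ← h3, map_inv, inv_smul_smul]
    · rw [map_mul, map_inv, show q n = 1 from (QuotientGroup.eq_one_iff n).mpr hn, inv_one, one_mul]

theorem mem_map_centralizer [Finite G] {N P : Subgroup G} [N.Normal]
    (hN : (Nat.card N).Coprime p) (hP : IsPGroup p P) :
    (Subgroup.centralizer (P : Set G)).map (QuotientGroup.mk' N) =
      Subgroup.centralizer ((P.map (QuotientGroup.mk' N) : Subgroup (G ⧸ N)) : Set (G ⧸ N)) := by
  set q := QuotientGroup.mk' N
  refine le_antisymm ?_ ?_
  · rintro _ ⟨c, hc, rfl⟩ _ ⟨y, hy, rfl⟩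
    rw [← map_mul, ← map_mul, hc y hy]
  · intro x hx
    have hxn : x ∈ Subgroup.normalizer ((P.map q : Subgroup (G ⧸ N)) : Set (G ⧸ N)) :=
      Subgroup.centralizer_le_normalizer _ hx
    rw [← mem_map_normalizer hN hP] at hxn
    obtain ⟨g, hg, rfl⟩ := hxn
    refine ⟨g, fun z hz => ?_, rfl⟩
    have hbot : P ⊓ N = ⊥ := by
      obtain ⟨k, hk⟩ := IsPGroup.iff_card.mp hP
      refine disjoint_iff.mp (Subgroup.disjoint_of_coprime_natCard ?_)
      rw [hk]
      exact Nat.Coprime.pow_left _ hN.symm
    have h2 : g * z * g⁻¹ * z⁻¹ ∈ P ⊓ N := by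
      refine ⟨Subgroup.mul_mem _ ((Subgroup.mem_normalizer_iff.mp hg z).mp hz)
        (Subgroup.inv_mem _ (show z ∈ P from hz)), ?_⟩
      refine (QuotientGroup.eq_one_iff _).mp ?_
      show q (g * z * g⁻¹ * z⁻¹) = 1
      have h1 := hx (q z) ⟨z, hz, rfl⟩
      rw [map_mul, map_mul, map_mul, map_inv, map_inv, ← h1, mul_inv_cancel_right, mul_inv_cancel]
    rw [hbot, Subgroup.mem_bot, mul_inv_eq_one, mul_inv_eq_iff_eq_mul] at h2
    exact h2.symm

theorem centralizer_pCore_isPConstrained [Finite G]
    (hC : Subgroup.centralizer (Cfsg.pCore p G : Set G) ≤ Cfsg.pCore p G)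
    {P H : Subgroup G} (hP : IsPGroup p P) (hHP : H ≤ Subgroup.normalizer (P : Set G))
    (hCQ : Cfsg.pCore p G ⊓ Subgroup.centralizer (P : Set G) ≤ H)
    (hcomm : ∀ x : H, x ∈ Subgroup.centralizer (Cfsg.pCore p H : Set H) →
      (x : G) ∈ Subgroup.centralizer (P : Set G)) :
    Cfsg.IsPConstrained p H := by
  set Q := Cfsg.pCore p G
  have key : ∀ x : H, x ∈ Subgroup.centralizer (Cfsg.pCore p H : Set H) →
      (orderOf x).Coprime p → x = 1 := by
    intro x hx hxo
    have hAB : Subgroup.zpowers (x : G) ≤ Subgroup.centralizer (P : Set G) :=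
      Subgroup.zpowers_le.mpr (hcomm x hx)
    have hn : ((Q ⊓ Subgroup.centralizer (P : Set G)).subgroupOf H).Normal := by
      rw [Subgroup.normal_subgroupOf_iff_le_normalizer hCQ]
      intro h hh
      rw [mem_normalizer_iff_conj, Subgroup.smul_inf, conj_smul_normal h Q]
      congr 1
      have h1 := (mem_normalizer_iff_conj h P).mp (hHP hh)
      refine Subgroup.eq_of_le_of_card_ge ?_ (card_conj_smul h _).ge
      rintro _ ⟨c, hc, rfl⟩ z hz
      rw [← h1] at hz
      obtain ⟨w, hw, rfl⟩ := hz
      have h2 := congrArg (MulAut.conj h) (hc w hw)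
      rw [map_mul, map_mul] at h2
      exact h2
    have hle : (Q ⊓ Subgroup.centralizer (P : Set G)).subgroupOf H ≤ Cfsg.pCore p H :=
      le_pCore (((isPGroup_pCore p G).to_le inf_le_left).comap_of_injective H.subtype
        H.subtype_injective)
    have hA : ¬ p ∣ Nat.card (Subgroup.zpowers (x : G)) := by
      rw [Nat.card_zpowers, Subgroup.orderOf_coe]
      exact (Nat.Prime.coprime_iff_not_dvd hp.out).mp hxo.symm
    have h := Cfsg.Agent.CoprimeGen.le_centralizer_of_prod_action (isPGroup_pCore p G) hP hA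
      Subgroup.le_normalizer_of_normal Subgroup.le_normalizer_of_normal hAB (by
        rintro y hy _ ⟨j, rfl⟩
        have h1 : (⟨y, hCQ hy⟩ : H) * x = x * ⟨y, hCQ hy⟩ := hx _ (hle hy)
        have h2 : Commute (x : G) y := (congrArg Subtype.val h1).symm
        exact (h2.zpow_left j).eq)
    have h2 : (x : G) ∈ Q := hC (h (Subgroup.mem_zpowers _))
    obtain ⟨j, hj⟩ := IsPGroup.iff_orderOf.mp (isPGroup_pCore p G) ⟨_, h2⟩
    rw [← Subgroup.orderOf_coe] at hj
    have : orderOf (x : G) = 1 := Nat.eq_one_of_dvd_coprimes (Nat.Coprime.pow_right j hxo)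
      (by rw [Subgroup.orderOf_coe]) (dvd_of_eq hj)
    exact Subtype.ext (orderOf_eq_one_iff.mp this)
  have hbotH : Cfsg.pPrimeCore p H = ⊥ := by
    rw [Subgroup.eq_bot_iff_forall]
    intro x hx
    refine key x (fun y hy => (commute_pCore_pPrimeCore hy hx).eq) ?_
    exact (coprime_card_pPrimeCore p H).coprime_dvd_left (Subgroup.orderOf_dvd_natCard _ hx)
  rw [isPConstrained_iff_of_bot hbotH]
  refine le_pCore fun c => ?_
  obtain ⟨k, m, hm, hc⟩ :=
    Nat.exists_eq_pow_mul_and_not_dvd (orderOf_pos (c : H)).ne' p hp.out.ne_one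
  refine ⟨k, Subtype.ext ?_⟩
  refine key _ (Subgroup.pow_mem _ c.2 _) ?_
  rw [Subgroup.coe_pow, orderOf_pow, hc, Nat.gcd_mul_right_left, Nat.mul_div_cancel_left _ (pow_pos hp.out.pos k)]
  exact ((Nat.Prime.coprime_iff_not_dvd hp.out).mpr hm).symm

/-- Normalizers and centralizers of `p`-subgroups of a `p`-constrained group are `p`-constrained. -/
theorem isPConstrained_local [Finite G] (hG : Cfsg.IsPConstrained p G) {P : Subgroup G}
    (hP : IsPGroup p P) :
    Cfsg.IsPConstrained p ↥(Subgroup.normalizer (P : Set G)) ∧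
      Cfsg.IsPConstrained p ↥(Subgroup.centralizer (P : Set G)) := by
  set N := Cfsg.pPrimeCore p G with hN
  set q := QuotientGroup.mk' N
  have hNc := coprime_card_pPrimeCore p G
  rw [isPConstrained_iff] at hG
  have hPb : IsPGroup p (P.map q) := hP.map q
  set P' := P.map q
  have lift : ∀ (H : Subgroup G) (H' : Subgroup (G ⧸ N)), H.map q = H' →
      Cfsg.IsPConstrained p H' → Cfsg.IsPConstrained p H := by
    intro H H' e h
    subst e
    refine isPConstrained_of_surjective (q.subgroupMap_surjective H)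
      (hNc.coprime_dvd_left ?_) h
    refine dvd_trans (Subgroup.card_dvd_of_le (K := N.subgroupOf H) fun x hx =>
      (QuotientGroup.eq_one_iff (x : G)).mp
        (show q (x : G) = 1 from congrArg Subtype.val hx)) (card_subgroupOf_dvd _ _)
  constructor
  · refine lift _ _ (mem_map_normalizer hNc hP) ?_
    refine centralizer_pCore_isPConstrained hG hPb le_rfl
      (inf_le_right.trans (Subgroup.centralizer_le_normalizer _)) fun x hx => ?_
    have : (P'.subgroupOf (Subgroup.normalizer (P' : Set (G ⧸ N)))).Normal :=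
      Subgroup.normal_in_normalizer
    intro y hy
    exact congrArg Subtype.val (hx (⟨y, Subgroup.le_normalizer hy⟩ :
      Subgroup.normalizer (P' : Set (G ⧸ N)))
      (le_pCore (N := P'.subgroupOf (Subgroup.normalizer (P' : Set (G ⧸ N))))
        (hPb.comap_of_injective (Subgroup.normalizer (P' : Set (G ⧸ N))).subtype
          (Subgroup.subtype_injective _)) (show _ ∈ P'.subgroupOf _ from hy)))
  · refine lift _ _ (mem_map_centralizer hNc hP) ?_
    exact centralizer_pCore_isPConstrained hG hPb (Subgroup.centralizer_le_normalizer _)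
      inf_le_right fun x _ => x.2

end Cfsg.Agent.HallLocalConstrained
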