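import Mathlib
import Cfsg.Prelude.Def_Solvable
import Cfsg.Prelude.Def_Local
import Cfsg.Agent.Lib.HallCore
import Cfsg.Agent.Lib.HallSolvable
import Cfsg.Agent.Lib.HallTheorem
import Cfsg.Agent.Lib.HallConstrained
import Cfsg.Agent.Lib.HallLocalConstrained

/-!
# p-constraint of p-local subgroups
-/

set_option autoImplicit false

namespace Cfsg.Agent.HallLocalConstrainedExt

open scoped Pointwise
open Subgroup Cfsg.Agent.HallCore Cfsg.Agent.HallSolvable Cfsg.Agent.HallTheorem
  Cfsg.Agent.HallConstrained Cfsg.Agent.HallLocalConstrained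

variable {G : Type*} [Group G] {p : ℕ} [hp : Fact p.Prime]

theorem isPConstrained_of_equiv [Finite G] {H : Type*} [Group H] (e : G ≃* H)
    (h : Cfsg.IsPConstrained p H) : Cfsg.IsPConstrained p G := by
  refine isPConstrained_of_surjective (f := e.toMonoidHom) e.surjective ?_ h
  rw [(MonoidHom.ker_eq_bot_iff _).mpr e.injective, Subgroup.card_bot]
  exact Nat.coprime_one_left p

omit hp in
theorem map_normalizer_subgroupOf {M T : Subgroup G} (hT : T ≤ M) :
    (Subgroup.normalizer (T.subgroupOf M : Set M)).map M.subtype =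
      M ⊓ Subgroup.normalizer (T : Set G) := by
  ext x
  constructor
  · rintro ⟨m, hm, rfl⟩
    refine ⟨m.2, ?_⟩
    rw [Subgroup.coe_subtype]
    have hm' : MulAut.conj m • T.subgroupOf M = T.subgroupOf M :=
      (mem_normalizer_iff_conj _ _).mp hm
    have h2 := congrArg (Subgroup.map M.subtype) hm'
    rw [map_conj_smul, Subgroup.map_subgroupOf_eq_of_le hT] at h2
    exact (mem_normalizer_iff_conj _ _).mpr h2
  · rintro ⟨hxM, hx⟩
    refine ⟨⟨x, hxM⟩, ?_, rfl⟩
    refine (mem_normalizer_iff_conj _ _).mpr (Subgroup.map_injective M.subtype_injective ?_)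
    rw [map_conj_smul, Subgroup.map_subgroupOf_eq_of_le hT]
    exact (mem_normalizer_iff_conj _ _).mp hx

omit hp in
theorem map_centralizer_subgroupOf {M T : Subgroup G} (hT : T ≤ M) :
    (Subgroup.centralizer (T.subgroupOf M : Set M)).map M.subtype =
      M ⊓ Subgroup.centralizer (T : Set G) := by
  ext x
  constructor
  · rintro ⟨m, hm, rfl⟩
    exact ⟨m.2, fun t ht => congrArg Subtype.val (hm ⟨t, hT ht⟩ ht)⟩
  · rintro ⟨hxM, hx⟩
    exact ⟨⟨x, hxM⟩, fun t ht => Subtype.ext (hx (t : G) ht), rfl⟩

/-- Normalizers of p-subgroups inside a p-constrained subgroup. -/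
theorem isPConstrained_normalizer_of_le [Finite G] {M T : Subgroup G}
    (hM : Cfsg.IsPConstrained p M) (hT : IsPGroup p T)
    (hle : Subgroup.normalizer (T : Set G) ≤ M) :
    Cfsg.IsPConstrained p ↥(Subgroup.normalizer (T : Set G)) := by
  have hTM : T ≤ M := Subgroup.le_normalizer.trans hle
  have h := (isPConstrained_local hM (P := T.subgroupOf M)
    (hT.comap_of_injective M.subtype M.subtype_injective)).1
  refine isPConstrained_of_equiv ?_ h
  refine ((Subgroup.equivMapOfInjective _ M.subtype M.subtype_injective).trans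
    (MulEquiv.subgroupCongr ?_)).symm
  rw [map_normalizer_subgroupOf hTM, inf_eq_right.mpr hle]

/-- Centralizers of p-subgroups inside a p-constrained subgroup. -/
theorem isPConstrained_centralizer_of_le [Finite G] {M T : Subgroup G}
    (hM : Cfsg.IsPConstrained p M) (hT : IsPGroup p T) (hTM : T ≤ M)
    (hle : Subgroup.centralizer (T : Set G) ≤ M) :
    Cfsg.IsPConstrained p ↥(Subgroup.centralizer (T : Set G)) := by
  have h := (isPConstrained_local hM (P := T.subgroupOf M)
    (hT.comap_of_injective M.subtype M.subtype_injective)).2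
  refine isPConstrained_of_equiv ?_ h
  refine ((Subgroup.equivMapOfInjective _ M.subtype M.subtype_injective).trans
    (MulEquiv.subgroupCongr ?_)).symm
  rw [map_centralizer_subgroupOf hTM, inf_eq_right.mpr hle]

/-- If a normal p-subgroup `T` of `X` has p-constrained centralizer then `X` is p-constrained. -/
theorem isPConstrained_of_centralizer [Finite G] {T : Subgroup G} [T.Normal] (hT : IsPGroup p T)
    (hC : Cfsg.IsPConstrained p ↥(Subgroup.centralizer (T : Set G))) :
    Cfsg.IsPConstrained p G := by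
  set C := Subgroup.centralizer (T : Set G)
  set N := Cfsg.pPrimeCore p G
  set q := QuotientGroup.mk' N
  set Cb := C.map q
  have hNC : N ≤ C := fun x hx t ht => (commute_pCore_pPrimeCore (le_pCore hT ht) hx).eq
  have hCbn : Cb.Normal := Subgroup.Normal.map inferInstance q (QuotientGroup.mk'_surjective N)
  -- `C/N` is p-constrained with trivial `O_{p'}`
  have hO : Cfsg.pPrimeCore p Cb = ⊥ := by
    have h1 : (Cfsg.pPrimeCore p Cb).map Cb.subtype = ⊥ := by
      rw [map_subtype_pPrimeCore, pPrimeCore_quotient_self, bot_inf_eq]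
    exact (Subgroup.map_eq_bot_iff_of_injective _ Cb.subtype_injective).mp h1
  have hCb : Cfsg.IsPConstrained p Cb := by
    have hNN : Cfsg.pPrimeCore p C = N.subgroupOf C := by
      apply Subgroup.map_injective C.subtype_injective
      rw [map_subtype_pPrimeCore, Subgroup.map_subgroupOf_eq_of_le hNC, inf_eq_left.mpr hNC]
    rw [isPConstrained_iff_quotient] at hC
    refine isPConstrained_of_equiv ?_ hC
    refine ((QuotientGroup.quotientMulEquivOfEq ?_).trans
      (QuotientGroup.quotientKerEquivOfSurjective (q.subgroupMap C)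
        (q.subgroupMap_surjective C))).symm
    rw [hNN]
    ext x
    rw [MonoidHom.mem_ker, Subgroup.mem_subgroupOf, ← QuotientGroup.eq_one_iff (N := N)]
    constructor
    · exact fun h => Subtype.ext h
    · exact fun h => congrArg Subtype.val h
  have hkey := (isPConstrained_iff_of_bot hO).mp hCb
  rw [isPConstrained_iff]
  intro x hx
  have hxC : x ∈ Cb := by
    have h1 := mem_map_centralizer (N := N) (coprime_card_pPrimeCore p G) hT
    show x ∈ C.map q
    rw [h1]
    intro y hy
    refine hx y ?_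
    obtain ⟨t, ht, rfl⟩ := hy
    exact map_pCore_le (QuotientGroup.mk'_surjective N) (Subgroup.mem_map_of_mem q (le_pCore hT ht))
  have h2 := map_subtype_pCore (p := p) Cb
  have hmem : (⟨x, hxC⟩ : Cb) ∈ Cfsg.pCore p Cb := hkey fun y hy => Subtype.ext
    (hx (y : G ⧸ N) ((SetLike.ext_iff.mp h2 _).mp (Subgroup.mem_map_of_mem Cb.subtype hy)).1)
  exact ((SetLike.ext_iff.mp h2 _).mp (Subgroup.mem_map_of_mem Cb.subtype hmem)).1

theorem isPConstrained_locals [Finite G]
    (h : (∀ M : Subgroup G, (∃ T : Subgroup G, IsPGroup p ↥T ∧ T ≠ ⊥ ∧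
          M = Subgroup.normalizer (T : Set G)) → M ≠ ⊤ →
        (∀ M' : Subgroup G, (∃ T' : Subgroup G, IsPGroup p ↥T' ∧ T' ≠ ⊥ ∧
          M' = Subgroup.normalizer (T' : Set G)) → M' ≠ ⊤ → M ≤ M' → M = M') →
        Cfsg.IsPConstrained p ↥M) ∨
      (∀ x : G, orderOf x = p → Cfsg.IsPConstrained p ↥(Subgroup.centralizer ({x} : Set G))))
    (T : Subgroup G) (hT : IsPGroup p ↥T) (hT1 : T ≠ ⊥)
    (hTG : Subgroup.normalizer (T : Set G) ≠ ⊤) :
    Cfsg.IsPConstrained p ↥(Subgroup.normalizer (T : Set G)) := by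
  rcases h with h | h
  · obtain ⟨M, hM⟩ := (Set.toFinite {M : Subgroup G | (∃ T' : Subgroup G, IsPGroup p ↥T' ∧
      T' ≠ ⊥ ∧ M = Subgroup.normalizer (T' : Set G)) ∧ M ≠ ⊤ ∧
      Subgroup.normalizer (T : Set G) ≤ M}).exists_maximal
      ⟨_, ⟨T, hT, hT1, rfl⟩, hTG, le_rfl⟩
    exact isPConstrained_normalizer_of_le
      (h M hM.1.1 hM.1.2.1 fun M' h1 h2 h3 =>
        le_antisymm h3 (hM.le_of_ge ⟨h1, h2, hM.1.2.2.trans h3⟩ h3)) hT hM.1.2.2
  · set N := Subgroup.normalizer (T : Set G)
    have hTN : T ≤ N := Subgroup.le_normalizer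
    have : (T.subgroupOf N).Normal := Subgroup.normal_in_normalizer
    refine isPConstrained_of_centralizer (T := T.subgroupOf N)
      (hT.comap_of_injective N.subtype N.subtype_injective) ?_
    have : Nontrivial T := (Subgroup.nontrivial_iff_ne_bot T).mpr hT1
    have hcen := hT.center_nontrivial
    obtain ⟨z, hz⟩ := exists_prime_orderOf_dvd_card' (G := Subgroup.center T) p (by
      obtain ⟨k, hk, hk'⟩ := (hT.to_subgroup (Subgroup.center T)).nontrivial_iff_card.mp hcen
      exact hk' ▸ dvd_pow_self p hk.ne')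
    set x : G := ((z : T) : G)
    have hx : orderOf x = p := by rw [← hz, Subgroup.orderOf_coe, Subgroup.orderOf_coe]
    have hTx : T ≤ Subgroup.centralizer ({x} : Set G) := by
      intro t ht y hy
      rw [Set.mem_singleton_iff] at hy
      subst hy
      exact (congrArg Subtype.val (Subgroup.mem_center_iff.mp z.2 ⟨t, ht⟩)).symm
    have hCx : Subgroup.centralizer (T : Set G) ≤ Subgroup.centralizer ({x} : Set G) :=
      Subgroup.centralizer_le (by simp [x])
    refine isPConstrained_of_equiv ?_
      (isPConstrained_centralizer_of_le (h x hx) hT hTx hCx)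
    refine (Subgroup.equivMapOfInjective _ N.subtype N.subtype_injective).trans
      (MulEquiv.subgroupCongr ?_)
    rw [map_centralizer_subgroupOf hTN, inf_eq_right.mpr (Subgroup.centralizer_le_normalizer _)]

end Cfsg.Agent.HallLocalConstrainedExt
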